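import Cfsg.Agent.EqBase
import Cfsg.Agent.LibZas21
/-!
# Zassenhaus groups XXII: the product of a central and a swapping involution (helper16)
-/
set_option autoImplicit false
set_option linter.all false
open Cfsg MulAction
open scoped Pointwise
namespace CfsgLib.Zas

universe u v

namespace DatS
variable {G : Type u} {Ω : Type v} [Group G] [MulAction G Ω]
variable [Finite G] [Fintype Ω] {a b : Ω} {H : Subgroup G} (D : DatS G Ω a b H)
include D

theorem conj_Z0 {x z : G} (hx : x • a = a) (hz : z ∈ D.Z0) : x * z * x⁻¹ ∈ D.Z0 := by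
  refine ⟨?_, ?_⟩
  · have : x * z * x⁻¹ * (x * z * x⁻¹) = x * (z * z) * x⁻¹ := by group
    rw [this, hz.1]; group
  · rw [mul_smul, mul_smul, show x⁻¹ • a = a by rw [inv_smul_eq_iff, hx], hz.2, hx]

theorem Z0_inv {z : G} (hz : z ∈ D.Z0) : z⁻¹ = z := inv_eq_of_mul_eq_one_left hz.1

theorem Z0_comm {z x : G} (hz : z ∈ D.Z0) (hx : x ∈ H) : z * x = x * z := D.inv_cen hz.1 hz.2 hx

theorem exists_Z0 : ∃ z ∈ D.Z0, z ≠ 1 := by
  have h1 := D.card_Z0
  have h2 : D.Z0 ≠ ⊥ := by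
    intro h
    rw [h, Subgroup.card_bot] at h1
    have := D.two_le_EE
    omega
  exact (Subgroup.bot_or_exists_ne_one _).resolve_left h2

/-- swapping involutions and the two-point stabilizer -/
theorem tE {t v : G} (ht : t • a = b ∧ t • b = a) (hv : v ∈ EE G a b) : t * v = v⁻¹ * t := by
  have := D.hinv t ht v hv
  rw [← this]; group

/-- square roots in the two-point stabilizer -/
theorem exists_sqrt {x : G} (hx : x ∈ EE G a b) : ∃ v ∈ EE G a b, v * v = x := by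
  obtain ⟨m, hm⟩ := D.odd_order hx
  refine ⟨x ^ (m + 1), pow_mem hx _, ?_⟩
  rw [← pow_add]
  have : m + 1 + (m + 1) = (2 * m + 1) + 1 := by ring
  rw [this, pow_succ, ← hm, pow_orderOf_eq_one, one_mul]

theorem exists_tzu {t : G} (ht : t • a = b ∧ t • b = a) : ∃ z₀ u : G, z₀ ∈ D.Z0 ∧ z₀ ≠ 1 ∧ u ∈ H ∧ t * z₀ * t = u * t * u⁻¹ := by
  obtain ⟨z, hz, hz1⟩ := D.exists_Z0
  have htt := D.swap_sq ht
  have hzH := D.Z0_le hz
  have hc : (t * z * t) • a ≠ a := by
    intro h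
    rw [mul_smul, mul_smul, ht.1] at h
    have h1 : z • b = b := MulAction.injective t (h.trans ht.2.symm)
    exact hz1 (D.inj hzH (Ne.symm D.hab) h1)
  obtain ⟨u₁, hu₁, hub⟩ := D.regular (Ne.symm D.hab) hc
  have hu₁a : u₁ • a = a := D.hHa hu₁
  have hyy : (t * z * t) * (t * z * t) = 1 := by
    calc (t * z * t) * (t * z * t) = t * z * (t * t) * z * t := by group
      _ = t * (z * z) * t := by rw [htt]; group
      _ = 1 := by rw [hz.1, mul_one, htt]
  have hs : (u₁⁻¹ * (t * z * t) * u₁) • a = b ∧ (u₁⁻¹ * (t * z * t) * u₁) • b = a := by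
    constructor
    · rw [mul_smul, mul_smul, hu₁a, inv_smul_eq_iff, hub]
    · rw [mul_smul, mul_smul, hub, ← mul_smul (t * z * t), hyy, one_smul, inv_smul_eq_iff, hu₁a]
  obtain ⟨v, hv, hvv⟩ := D.exists_sqrt (Dat.swap_mul hs ht)
  have hva : v • a = a := hv.1
  have h1 : u₁⁻¹ * (t * z * t) * u₁ = v * t * v⁻¹ := by
    have h2 : u₁⁻¹ * (t * z * t) * u₁ = v * v * t := by rw [hvv, mul_assoc _ t t, htt, mul_one]
    have h3 := D.tE ht (inv_mem hv)
    rw [inv_inv] at h3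
    rw [h2, mul_assoc, mul_assoc, h3]
  have hy : t * z * t = u₁ * v * t * v⁻¹ * u₁⁻¹ := by
    have : t * z * t = u₁ * (u₁⁻¹ * (t * z * t) * u₁) * u₁⁻¹ := by group
    rw [this, h1]; group
  refine ⟨v * z * v⁻¹, v⁻¹ * u₁ * v, D.conj_Z0 hva hz, ?_, ?_, ?_⟩
  · intro h
    apply hz1
    have : z = v⁻¹ * (v * z * v⁻¹) * v := by group
    rw [this, h]; group
  · have h3 := D.conj_H (g := v⁻¹) (by rw [inv_smul_eq_iff, hva]) hu₁
    rwa [inv_inv] at h3
  · have h3 := D.tE ht hv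
    have h4 := D.tE ht (inv_mem hv)
    rw [inv_inv] at h4
    calc t * (v * z * v⁻¹) * t = (t * v) * z * (v⁻¹ * t) := by group
      _ = (v⁻¹ * t) * z * (t * v) := by rw [h3]
      _ = v⁻¹ * (t * z * t) * v := by group
      _ = v⁻¹ * (u₁ * v * t * v⁻¹ * u₁⁻¹) * v := by rw [hy]
      _ = v⁻¹ * u₁ * v * t * (v⁻¹ * u₁ * v)⁻¹ := by group

/-- the two cases -/
theorem two_cases {t z₀ u : G} (ht : t • a = b ∧ t • b = a) (hz : z₀ ∈ D.Z0) (hz1 : z₀ ≠ 1) (hu : u ∈ H) (h : t * z₀ * t = u * t * u⁻¹) :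
    (u * u = 1 ∧ (t * z₀) ^ 3 = 1) ∨ (u * u = z₀ ∧ (t * z₀) ^ 5 = 1) := by
  have htt := D.swap_sq ht
  set r := t * z₀ with hr
  have hcu : z₀ * u = u * z₀ := D.Z0_comm hz hu
  have h1 : u * r * u⁻¹ = r ^ 2 := by
    have h2 : u * z₀ * u⁻¹ = z₀ := by rw [← hcu]; group
    calc u * r * u⁻¹ = (u * t * u⁻¹) * (u * z₀ * u⁻¹) := by rw [hr]; group
      _ = (t * z₀ * t) * z₀ := by rw [← h, h2]
      _ = r ^ 2 := by rw [pow_two, hr]; group
  have h2 : (u * u) * r * (u * u)⁻¹ = r ^ 4 := by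
    calc (u * u) * r * (u * u)⁻¹ = u * (u * r * u⁻¹) * u⁻¹ := by group
      _ = u * r ^ 2 * u⁻¹ := by rw [h1]
      _ = (u * r * u⁻¹) ^ 2 := by rw [conj_pow]
      _ = r ^ 4 := by rw [h1, ← pow_mul]
  have h3 : z₀ * r * z₀⁻¹ = r⁻¹ := by
    rw [hr, mul_inv_rev, D.Z0_inv hz, inv_eq_of_mul_eq_one_left htt]
    calc z₀ * (t * z₀) * z₀ = z₀ * t * (z₀ * z₀) := by group
      _ = z₀ * t := by rw [hz.1, mul_one]
  have hwZ : u * u ∈ D.Z0 := ⟨D.sq_sq hu, D.hHa (H.mul_mem hu hu)⟩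
  have hra : r • a = b := by rw [hr, mul_smul, hz.2, ht.1]
  by_cases hw1 : u * u = 1
  · left
    refine ⟨hw1, ?_⟩
    rw [hw1] at h2
    have h4 : r = r ^ 4 := by rw [← h2]; group
    have h5 : r * 1 = r * r ^ 3 := by rw [mul_one, ← pow_succ']; exact h4
    exact (mul_left_cancel h5).symm
  by_cases hwz : u * u = z₀
  · right
    refine ⟨hwz, ?_⟩
    rw [hwz, h3] at h2
    rw [pow_succ', ← h2, mul_inv_cancel]
  exfalso
  have hww : (u * u) * (u * u) = 1 := hwZ.1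
  have h15 : r ^ 15 = 1 := by
    have h4 : r = r ^ 16 := by
      calc r = (u * u) * ((u * u) * r * (u * u)⁻¹) * (u * u)⁻¹ := by
            have : (u * u) * ((u * u) * r * (u * u)⁻¹) * (u * u)⁻¹ = ((u * u) * (u * u)) * r * ((u * u) * (u * u))⁻¹ := by group
            rw [this, hww]; group
        _ = (u * u) * r ^ 4 * (u * u)⁻¹ := by rw [h2]
        _ = ((u * u) * r * (u * u)⁻¹) ^ 4 := by rw [conj_pow]
        _ = r ^ 16 := by rw [h2, ← pow_mul]
    have h5 : r * 1 = r * r ^ 15 := by rw [mul_one, ← pow_succ']; exact h4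
    exact (mul_left_cancel h5).symm
  have h5 : (r ^ 5) • a = a := by
    apply D.cent_fix hwZ hw1
    have h6 : (u * u) * r ^ 5 * (u * u)⁻¹ = r ^ 5 := by
      calc (u * u) * r ^ 5 * (u * u)⁻¹ = ((u * u) * r * (u * u)⁻¹) ^ 5 := by rw [conj_pow]
        _ = r ^ 15 * r ^ 5 := by rw [h2, ← pow_mul, ← pow_add]
        _ = r ^ 5 := by rw [h15, one_mul]
    calc (u * u) * r ^ 5 = (u * u) * r ^ 5 * (u * u)⁻¹ * (u * u) := by group
      _ = r ^ 5 * (u * u) := by rw [h6]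
  have h6 : (r ^ 3) • a = a := by
    have hne : (u * u) * z₀ ≠ 1 := by
      intro h
      apply hwz
      have := eq_inv_of_mul_eq_one_left h
      rw [D.Z0_inv hz] at this
      exact this
    apply D.cent_fix (D.Z0.mul_mem hwZ hz) hne
    have h7 : ((u * u) * z₀) * r ^ 3 * ((u * u) * z₀)⁻¹ = r ^ 3 := by
      calc ((u * u) * z₀) * r ^ 3 * ((u * u) * z₀)⁻¹ = (u * u) * (z₀ * r ^ 3 * z₀⁻¹) * (u * u)⁻¹ := by group
        _ = (u * u) * ((z₀ * r * z₀⁻¹) ^ 3) * (u * u)⁻¹ := by rw [conj_pow]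
        _ = ((u * u) * (r⁻¹) ^ 3 * (u * u)⁻¹) := by rw [h3]
        _ = (((u * u) * r * (u * u)⁻¹) ^ 3)⁻¹ := by
          rw [conj_pow, inv_pow]
          obtain ⟨w, hw⟩ : ∃ w, w = u * u := ⟨_, rfl⟩
          rw [← hw]
          group
        _ = (r ^ 12)⁻¹ := by rw [h2, ← pow_mul]
        _ = r ^ 3 := by
          symm
          apply eq_inv_of_mul_eq_one_left
          rw [← pow_add]; exact h15
    calc ((u * u) * z₀) * r ^ 3 = ((u * u) * z₀) * r ^ 3 * ((u * u) * z₀)⁻¹ * ((u * u) * z₀) := by group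
      _ = r ^ 3 * ((u * u) * z₀) := by rw [h7]
  have h7 : r • a = a := by
    have h8 : r = (r ^ 5)⁻¹ * (r ^ 3 * r ^ 3) := by
      rw [← pow_add, eq_inv_mul_iff_mul_eq, ← pow_succ]
    rw [h8, mul_smul, mul_smul, h6, h6, inv_smul_eq_iff, h5]
  rw [hra] at h7
  exact D.hab h7.symm

/-- the Suzuki case: consequences -/
theorem case_five {t z₀ u : G} (ht : t • a = b ∧ t • b = a) (hz : z₀ ∈ D.Z0) (hz1 : z₀ ≠ 1) (hu : u ∈ H) (h : t * z₀ * t = u * t * u⁻¹) (huz : u * u = z₀)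
    (hr5 : (t * z₀) ^ 5 = 1) : (5 ∣ Nat.card H + 1) ∧ ¬ 3 ∣ Nat.card (EE G a b) := by
  classical
  have htt := D.swap_sq ht
  have hcu : z₀ * u = u * z₀ := D.Z0_comm hz hu
  have hfixz : ∀ c : Ω, z₀ • c = c → c = a := D.hfix z₀ (D.Z0_le hz) hz1
  constructor
  · set r := t * z₀ with hr
    have hra : r • a = b := by rw [hr, mul_smul, hz.2, ht.1]
    have h1 : u * r * u⁻¹ = r ^ 2 := by
      have h2 : u * z₀ * u⁻¹ = z₀ := by rw [← hcu]; group
      calc u * r * u⁻¹ = (u * t * u⁻¹) * (u * z₀ * u⁻¹) := by rw [hr]; group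
        _ = (t * z₀ * t) * z₀ := by rw [← h, h2]
        _ = r ^ 2 := by rw [pow_two, hr]; group
    have h2 : ∀ c : Ω, r • c = c → r • (u • c) = u • c := by
      intro c hc
      have h3 : r * u = u * r ^ 3 := by
        have h4 : u * r ^ 3 * u⁻¹ = r := by
          rw [← conj_pow, h1, ← pow_mul, show 2 * 3 = 5 + 1 by norm_num, pow_succ, hr5, one_mul]
        calc r * u = u * r ^ 3 * u⁻¹ * u := by rw [h4]
          _ = u * r ^ 3 := by group
      rw [← mul_smul, h3, mul_smul, pow_succ, pow_two, mul_smul, mul_smul, hc, hc, hc]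
    have hfpf : ∀ c : Ω, r • c ≠ c := by
      intro c hc
      have hca : c ≠ a := by
        rintro rfl
        rw [hra] at hc
        exact D.hab hc.symm
      have h3 := h2 c hc
      have h4 := h2 _ h3
      have h5 : u • u • c = z₀ • c := by rw [← mul_smul, huz]
      have n1 : c ≠ u • c := by
        intro h6
        apply hca
        apply hfixz
        rw [← h5, ← h6, ← h6]
      have n2 : u • c ≠ u • u • c := fun h6 => n1 (MulAction.injective u h6)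
      have n3 : c ≠ u • u • c := by
        intro h6
        apply hca
        apply hfixz
        rw [← h5]; exact h6.symm
      have h6 := D.hZ.2.2.1 r c (u • c) (u • u • c) n1 n2 n3 hc h3 h4
      rw [h6, one_smul] at hra
      exact D.hab hra
    haveI := Fact.mk Nat.prime_five
    have h3 := Cfsg.Agent.LibZG1.fixedBy_mod (Ω := Ω) (p := 5) r hr5
    rw [D.fix_zero_iff.mpr hfpf, ← D.hcard] at h3
    exact (Nat.modEq_zero_iff_dvd.mp h3)
  · intro h3
    haveI := Fact.mk Nat.prime_three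
    obtain ⟨⟨w, hw⟩, hwo⟩ := exists_prime_orderOf_dvd_card' (G := EE G a b) 3 h3
    have hwo' : orderOf w = 3 := by rw [← hwo]; exact (Subgroup.orderOf_coe (⟨w, hw⟩ : EE G a b))
    have hw3 : w * w * w = 1 := by
      have := pow_orderOf_eq_one w
      rwa [hwo', pow_succ, pow_two] at this
    have hw1 : w ≠ 1 := by rintro rfl; rw [orderOf_one] at hwo'; omega
    have hww : w * w = w⁻¹ := eq_inv_of_mul_eq_one_left hw3
    have hwa : w • a = a := hw.1
    have hwa' : w⁻¹ • a = a := by rw [inv_smul_eq_iff, hwa]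
    -- `z₁ = w⁻¹ z₀ w`, `z₂ = w z₀ w⁻¹`
    obtain ⟨z₁, hz₁⟩ : ∃ z₁, z₁ = w⁻¹ * z₀ * w := ⟨_, rfl⟩
    obtain ⟨z₂, hz₂⟩ : ∃ z₂, z₂ = w * z₀ * w⁻¹ := ⟨_, rfl⟩
    have hz₁Z : z₁ ∈ D.Z0 := by
      have := D.conj_Z0 hwa' hz
      rw [inv_inv] at this
      rw [hz₁]; exact this
    have hz₂Z : z₂ ∈ D.Z0 := by rw [hz₂]; exact D.conj_Z0 hwa hz
    have hzz : ∀ x ∈ D.Z0, ∀ y ∈ D.Z0, x * y = y * x := fun x hx y hy => D.Z0_comm hx (D.Z0_le hy)
    have hprod : z₀ * z₁ * z₂ = 1 := by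
      by_contra hne
      have hmem : z₀ * z₁ * z₂ ∈ H := D.Z0_le (D.Z0.mul_mem (D.Z0.mul_mem hz hz₁Z) hz₂Z)
      apply hne
      apply D.fpf hwa (D.not_mem_H hw hw1) hmem
      -- conjugation by `w` permutes the factors
      have e1 : w * z₀ * w⁻¹ = z₂ := hz₂.symm
      have e2 : w * z₁ * w⁻¹ = z₀ := by rw [hz₁]; group
      have e3 : w * z₂ * w⁻¹ = z₁ := by
        rw [hz₂, hz₁]
        calc w * (w * z₀ * w⁻¹) * w⁻¹ = (w * w) * z₀ * (w * w)⁻¹ := by group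
          _ = w⁻¹ * z₀ * w := by rw [hww, inv_inv]
      have e4 : w * (z₀ * z₁ * z₂) * w⁻¹ = z₀ * z₁ * z₂ := by
        calc w * (z₀ * z₁ * z₂) * w⁻¹ = (w * z₀ * w⁻¹) * (w * z₁ * w⁻¹) * (w * z₂ * w⁻¹) := by group
          _ = z₂ * z₀ * z₁ := by rw [e1, e2, e3]
          _ = z₂ * (z₀ * z₁) := by group
          _ = z₀ * z₁ * z₂ := hzz _ hz₂Z _ (D.Z0.mul_mem hz hz₁Z)
      calc w * (z₀ * z₁ * z₂) = w * (z₀ * z₁ * z₂) * w⁻¹ * w := by group
        _ = z₀ * z₁ * z₂ * w := by rw [e4]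
    have hz01 : z₀ * z₁ = z₂ := by
      have := eq_inv_of_mul_eq_one_left hprod
      rw [this, D.Z0_inv hz₂Z]
    have hz02 : z₀ * z₂ = z₁ := by
      rw [← hz01, ← mul_assoc, hz.1, one_mul]
    -- the relations
    have R1 : t * u * t = z₀ * t * u := by
      have h4 : t * z₀ * t * u = u * t := by rw [h]; group
      calc t * u * t = t * (u * t) := by group
        _ = t * (t * z₀ * t * u) := by rw [h4]
        _ = (t * t) * z₀ * t * u := by group
        _ = z₀ * t * u := by rw [htt, one_mul]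
    have tw : t * w = w⁻¹ * t := D.tE ht hw
    have tw' : t * w⁻¹ = w * t := by
      have := D.tE ht (inv_mem hw)
      rwa [inv_inv] at this
    have R2 : t * z₁ * t = w * u * t * u⁻¹ * w⁻¹ := by
      calc t * z₁ * t = (t * w⁻¹) * z₀ * (w * t) := by rw [hz₁]; group
        _ = (w * t) * z₀ * (t * w⁻¹) := by rw [tw']
        _ = w * (t * z₀ * t) * w⁻¹ := by group
        _ = w * (u * t * u⁻¹) * w⁻¹ := by rw [h]
        _ = w * u * t * u⁻¹ * w⁻¹ := by group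
    have R3 : t * z₂ * t = w⁻¹ * u * t * u⁻¹ * w := by
      calc t * z₂ * t = (t * w) * z₀ * (w⁻¹ * t) := by rw [hz₂]; group
        _ = (w⁻¹ * t) * z₀ * (t * w) := by rw [tw]
        _ = w⁻¹ * (t * z₀ * t) * w := by group
        _ = w⁻¹ * (u * t * u⁻¹) * w := by rw [h]
        _ = w⁻¹ * u * t * u⁻¹ * w := by group
    have hu' : u⁻¹ = u * z₀ := by
      have : u⁻¹ * (u * u) = u⁻¹ * z₀ := by rw [huz]
      have h5 : u = u⁻¹ * z₀ := by rw [← this]; group
      have h6 : u * z₀ = u⁻¹ * (z₀ * z₀) := by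
        conv_lhs => rw [h5]
        group
      rw [h6, hz.1, mul_one]
    have huz1 : u⁻¹ * z₁ = z₂ * u := by
      rw [hu', mul_assoc, hz01, D.Z0_comm hz₂Z hu]
    have huz2 : u⁻¹ * z₂ = z₁ * u := by
      rw [hu', mul_assoc, hz02, D.Z0_comm hz₁Z hu]
    have E1 : t * (z₁ * u) * t = w * u * (t * (z₂ * u) * t) * (w * u) := by
      have e5 : w⁻¹ * z₀ = z₁ * w⁻¹ := by rw [hz₁]; group
      calc t * (z₁ * u) * t = t * z₁ * (t * t) * u * t := by rw [htt]; group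
        _ = (t * z₁ * t) * (t * u * t) := by group
        _ = (w * u * t * u⁻¹ * w⁻¹) * (z₀ * t * u) := by rw [R2, R1]
        _ = w * u * t * u⁻¹ * (w⁻¹ * z₀) * t * u := by group
        _ = w * u * t * u⁻¹ * (z₁ * w⁻¹) * t * u := by rw [e5]
        _ = w * u * t * (u⁻¹ * z₁) * (w⁻¹ * t) * u := by group
        _ = w * u * t * (z₂ * u) * (t * w) * u := by rw [huz1, tw]
        _ = w * u * (t * (z₂ * u) * t) * (w * u) := by group
    have E2 : t * (z₂ * u) * t = w⁻¹ * u * (t * (z₁ * u) * t) * (w⁻¹ * u) := by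
      have e5 : w * z₀ = z₂ * w := by rw [hz₂]; group
      calc t * (z₂ * u) * t = t * z₂ * (t * t) * u * t := by rw [htt]; group
        _ = (t * z₂ * t) * (t * u * t) := by group
        _ = (w⁻¹ * u * t * u⁻¹ * w) * (z₀ * t * u) := by rw [R3, R1]
        _ = w⁻¹ * u * t * u⁻¹ * (w * z₀) * t * u := by group
        _ = w⁻¹ * u * t * u⁻¹ * (z₂ * w) * t * u := by rw [e5]
        _ = w⁻¹ * u * t * (u⁻¹ * z₂) * (w * t) * u := by group
        _ = w⁻¹ * u * t * (z₁ * u) * (t * w⁻¹) * u := by rw [huz2, tw']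
        _ = w⁻¹ * u * (t * (z₁ * u) * t) * (w⁻¹ * u) := by group
    obtain ⟨X, hX⟩ : ∃ X, X = t * (z₁ * u) * t := ⟨_, rfl⟩
    rw [← hX] at E1 E2
    have E3 : X * ((w⁻¹ * u * w) * u) * X⁻¹ = ((w * u * w⁻¹) * u)⁻¹ := by
      have e6 : X = ((w * u * w⁻¹) * u) * X * ((w⁻¹ * u * w) * u) := by
        calc X = w * u * (t * (z₂ * u) * t) * (w * u) := E1
          _ = w * u * (w⁻¹ * u * X * (w⁻¹ * u)) * (w * u) := by rw [E2]
          _ = ((w * u * w⁻¹) * u) * X * ((w⁻¹ * u * w) * u) := by group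
      apply eq_inv_of_mul_eq_one_right
      calc ((w * u * w⁻¹) * u) * (X * ((w⁻¹ * u * w) * u) * X⁻¹) = (((w * u * w⁻¹) * u) * X * ((w⁻¹ * u * w) * u)) * X⁻¹ := by group
        _ = X * X⁻¹ := by rw [← e6]
        _ = 1 := mul_inv_cancel _
    have hAH : (w * u * w⁻¹) * u ∈ H := H.mul_mem (D.conj_H hwa hu) hu
    have hBH : (w⁻¹ * u * w) * u ∈ H := by
      have := D.conj_H hwa' hu
      rw [inv_inv] at this
      exact H.mul_mem this hu
    have huZ : u ∉ D.Z0 := by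
      intro h5
      exact hz1 (huz.symm.trans h5.1)
    by_cases hB : (w⁻¹ * u * w) * u = 1
    · apply huZ
      apply D.fq (inv_mem hw) (fun h => hw1 (inv_eq_one.mp h)) hu
      rw [inv_inv]
      have h5 : w⁻¹ * u * w = u⁻¹ := eq_inv_of_mul_eq_one_left hB
      rw [h5, ← mul_inv_rev, huz, D.Z0_inv hz]
      exact hz
    · have h5 : X • a = a := D.eq_a hBH hB (by rw [E3]; exact H.inv_mem hAH)
      rw [hX, mul_smul, mul_smul, ht.1] at h5
      have h6 : (z₁ * u) • b = b := MulAction.injective t (h5.trans ht.2.symm)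
      have h7 := D.inj (H.mul_mem (D.Z0_le hz₁Z) hu) (Ne.symm D.hab) h6
      apply huZ
      have h8 : u = z₁⁻¹ := eq_inv_of_mul_eq_one_right h7
      rw [h8]
      exact D.Z0.inv_mem hz₁Z

end DatS
end CfsgLib.Zas
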