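import Cfsg.Agent.EqBase
import Cfsg.Agent.LibZas22
/-!
# Zassenhaus groups XXIII: blocks and tori (helper16)
-/
set_option autoImplicit false
set_option linter.all false
open Cfsg MulAction
open scoped Pointwise
namespace CfsgLib.Zas

universe u v

section
variable {G : Type u} {Ω : Type v} [Group G] [MulAction G Ω]

/-- the block through two points -/
def Bl (G : Type u) {Ω : Type v} [Group G] [MulAction G Ω] (p p' x : Ω) : Prop :=
  x = p ∨ ∃ z : G, z * z = 1 ∧ z • p = p ∧ z • p' = x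

theorem Bl_conj {p p' x : Ω} (g : G) (h : Bl G p p' x) : Bl G (g • p) (g • p') (g • x) := by
  rcases h with h | ⟨z, h1, h2, h3⟩
  · left; rw [h]
  · right
    refine ⟨g * z * g⁻¹, ?_, ?_, ?_⟩
    · calc g * z * g⁻¹ * (g * z * g⁻¹) = g * (z * z) * g⁻¹ := by group
        _ = 1 := by rw [h1]; group
    · rw [mul_smul, inv_smul_smul, mul_smul, h2]
    · rw [mul_smul, inv_smul_smul, mul_smul, h3]

theorem Bl_left {p p' : Ω} : Bl G p p' p := Or.inl rfl

theorem Bl_right {p p' : Ω} : Bl G p p' p' := Or.inr ⟨1, mul_one 1, one_smul G p, one_smul G p'⟩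

/-- the centralizer of an element -/
def Tor (g : G) : Subgroup G where
  carrier := {y | y * g = g * y}
  one_mem' := by show 1 * g = g * 1; rw [one_mul, mul_one]
  mul_mem' := by
    intro x y hx hy
    show x * y * g = g * (x * y)
    have hx' : x * g = g * x := hx
    have hy' : y * g = g * y := hy
    rw [mul_assoc, hy', ← mul_assoc, hx', mul_assoc]
  inv_mem' := by
    intro x hx
    have hx' : x * g = g * x := hx
    show x⁻¹ * g = g * x⁻¹
    rw [inv_mul_eq_iff_eq_mul, ← mul_assoc, hx', mul_inv_cancel_right]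

theorem mem_Tor {g y : G} : y ∈ Tor g ↔ y * g = g * y := Iff.rfl

theorem self_mem_Tor (g : G) : g ∈ Tor g := rfl

theorem odd_pow {y : G} (h : Odd (orderOf y)) : ∃ n : ℕ, (y * y) ^ n = y := by
  obtain ⟨m, hm⟩ := h
  refine ⟨m + 1, ?_⟩
  rw [← pow_two, ← pow_mul, show 2 * (m + 1) = (2 * m + 1) + 1 by ring, pow_succ, ← hm, pow_orderOf_eq_one, one_mul]

end

namespace DatO
variable {G : Type u} {Ω : Type v} [Group G] [MulAction G Ω]
variable [Finite G] [Fintype Ω] {a b : Ω} {H : Subgroup G} (D : DatO G Ω a b H)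
include D

theorem swap_sq' {x : G} {c d : Ω} (hcd : c ≠ d) (h1 : x • c = d) (h2 : x • d = c) : x * x = 1 := by
  obtain ⟨k, hk1, hk2⟩ := two_trans D.hZ hcd D.hab
  have h3 : (k * x * k⁻¹) • a = b ∧ (k * x * k⁻¹) • b = a := by
    constructor
    · rw [← hk1, mul_smul, mul_smul, inv_smul_smul, h1, hk2]
    · rw [← hk2, mul_smul, mul_smul, inv_smul_smul, h2, hk1]
  have h4 := D.swap_sq h3
  have h5 : x * x = k⁻¹ * (k * x * k⁻¹ * (k * x * k⁻¹)) * k := by group
  rw [h5, h4]; group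

theorem ord_two {s : G} (hs : s * s = 1) (hs1 : s ≠ 1) : orderOf s = 2 := by
  haveI := Fact.mk Nat.prime_two
  exact orderOf_eq_prime (by rw [pow_two]; exact hs) hs1

theorem center_unique {s : G} (hs : s * s = 1) (hs1 : s ≠ 1) {c d : Ω} (h1 : s • c = c) (h2 : s • d = d) : c = d := by
  by_contra hcd
  exact D.inv_fix (D.ord_two hs hs1) hcd h1 h2

end DatO

namespace DatS
variable {G : Type u} {Ω : Type v} [Group G] [MulAction G Ω]
variable [Finite G] [Fintype Ω] {a b : Ω} {H : Subgroup G} (D : DatS G Ω a b H)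
include D

theorem exists_a (p : Ω) : ∃ g : G, g • a = p := by
  haveI := D.pretrans
  exact MulAction.exists_smul_eq G a p

theorem zmul {z w : G} {p : Ω} (hz : z * z = 1) (hzp : z • p = p) (hw : w * w = 1) (hwp : w • p = p) : (z * w) * (z * w) = 1 := by
  obtain ⟨g, hg⟩ := D.exists_a p
  have key : ∀ z : G, z * z = 1 → z • p = p → g⁻¹ * z * g ∈ D.Z0 := by
    intro z hz hzp
    refine ⟨?_, ?_⟩
    · calc g⁻¹ * z * g * (g⁻¹ * z * g) = g⁻¹ * (z * z) * g := by group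
        _ = 1 := by rw [hz]; group
    · rw [mul_smul, mul_smul, hg, hzp, inv_smul_eq_iff, hg]
  have h1 := (D.Z0.mul_mem (key z hz hzp) (key w hw hwp)).1
  have h2 : z * w * (z * w) = g * ((g⁻¹ * z * g) * (g⁻¹ * w * g) * ((g⁻¹ * z * g) * (g⁻¹ * w * g))) * g⁻¹ := by group
  rw [h2, h1]; group

theorem exists_center {s : G} (hs : s * s = 1) (hs1 : s ≠ 1) : ∃ c : Ω, s • c = c := by
  have h1 := D.inv_fix_card (D.ord_two hs hs1)
  rw [if_pos D.card_even] at h1
  have h2 : Nat.card (fixedBy Ω s) ≠ 0 := by omega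
  obtain ⟨⟨c, hc⟩⟩ := (Nat.card_ne_zero.mp h2).1
  exact ⟨c, hc⟩

theorem sq_ne {g : G} (hg : ∀ c : Ω, g • c ≠ c) : g * g ≠ 1 := by
  intro h
  have hg1 : g ≠ 1 := by rintro rfl; exact hg a (one_smul G a)
  obtain ⟨c, hc⟩ := D.exists_center h hg1
  exact hg c hc

theorem three {g s y : G} {c : Ω} (hg : ∀ c : Ω, g • c ≠ c) (hs : s * s = 1) (hs1 : s ≠ 1) (hsg : s * g * s = g⁻¹) (hsc : s • c = c)
    (hy : y * g = g * y) (hyc : y • c = c) : y = 1 := by
  have h1 : y • g • c = g • c := by rw [← mul_smul, hy, mul_smul, hyc]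
  have h2 : y • g • g • c = g • g • c := by rw [← mul_smul, hy, mul_smul, h1]
  refine D.hZ.2.2.1 y c (g • c) (g • g • c) (hg c).symm (hg (g • c)).symm ?_ hyc h1 h2
  intro h
  have h3 : g⁻¹ • c = g • c := by rw [inv_smul_eq_iff]; exact h
  have h4 : s • g • c = g • c := by
    calc s • g • c = s • g • s • c := by rw [hsc]
      _ = (s * g * s) • c := by rw [mul_smul, mul_smul]
      _ = g • c := by rw [hsg, h3]
  exact hg c (D.center_unique hs hs1 h4 hsc)

theorem inv_cent {g s y : G} (hg : ∀ c : Ω, g • c ≠ c) (hs : s * s = 1) (hs1 : s ≠ 1) (hsg : s * g * s = g⁻¹) (hy : y * g = g * y) : s * y * s = y⁻¹ := by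
  classical
  obtain ⟨c, hc⟩ := D.exists_center hs hs1
  have hsi : s⁻¹ = s := inv_eq_of_mul_eq_one_left hs
  have e1 : s * g = g⁻¹ * s := by
    calc s * g = s * g * (s * s) := by rw [hs, mul_one]
      _ = (s * g * s) * s := by group
      _ = g⁻¹ * s := by rw [hsg]
  have e2 : s * g⁻¹ = g * s := by
    calc s * g⁻¹ = s * (s * g * s) := by rw [hsg]
      _ = (s * s) * g * s := by group
      _ = g * s := by rw [hs, one_mul]
  have hcomm : ∀ y : G, y * g = g * y → (s * (y * s * y⁻¹)) * g = g * (s * (y * s * y⁻¹)) := by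
    intro y hy
    have e3 : y⁻¹ * g = g * y⁻¹ := (Tor g).inv_mem hy
    have e4 : y * g⁻¹ = g⁻¹ * y := by
      rw [eq_inv_mul_iff_mul_eq, ← mul_assoc, ← hy, mul_inv_cancel_right]
    calc s * (y * s * y⁻¹) * g = s * y * s * (y⁻¹ * g) := by group
      _ = s * y * s * (g * y⁻¹) := by rw [e3]
      _ = s * y * (s * g) * y⁻¹ := by group
      _ = s * y * (g⁻¹ * s) * y⁻¹ := by rw [e1]
      _ = s * (y * g⁻¹) * s * y⁻¹ := by group
      _ = s * (g⁻¹ * y) * s * y⁻¹ := by rw [e4]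
      _ = (s * g⁻¹) * y * s * y⁻¹ := by group
      _ = (g * s) * y * s * y⁻¹ := by rw [e2]
      _ = g * (s * (y * s * y⁻¹)) := by group
  let φ : Tor g → Tor g := fun y => ⟨s * (y * s * (y : G)⁻¹), hcomm y y.2⟩
  have hφ : Function.Injective φ := by
    rintro ⟨x, hx⟩ ⟨x', hx'⟩ hxx
    have h1 : s * (x * s * x⁻¹) = s * (x' * s * x'⁻¹) := congrArg Subtype.val hxx
    have h2 : x * s * x⁻¹ = x' * s * x'⁻¹ := mul_left_cancel h1
    have h3 : s * (x'⁻¹ * x) = (x'⁻¹ * x) * s := by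
      calc s * (x'⁻¹ * x) = x'⁻¹ * (x' * s * x'⁻¹) * x := by group
        _ = x'⁻¹ * (x * s * x⁻¹) * x := by rw [h2]
        _ = (x'⁻¹ * x) * s := by group
    have h4 : s • ((x'⁻¹ * x) • c) = (x'⁻¹ * x) • c := by
      rw [← mul_smul, h3, mul_smul, hc]
    have h5 : (x'⁻¹ * x) • c = c := D.center_unique hs hs1 h4 hc
    have h6 : x'⁻¹ * x = 1 := D.three hg hs hs1 hsg hc ((Tor g).mul_mem ((Tor g).inv_mem hx') hx) h5
    exact Subtype.ext (inv_mul_eq_one.mp h6).symm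
  obtain ⟨⟨y', hy'⟩, h⟩ := Finite.injective_iff_surjective.mp hφ ⟨y, hy⟩
  have h1 : s * (y' * s * y'⁻¹) = y := congrArg Subtype.val h
  rw [← h1]
  have h2 : (s * (y' * s * y'⁻¹))⁻¹ = y' * s⁻¹ * y'⁻¹ * s⁻¹ := by group
  rw [h2, hsi]
  calc s * (s * (y' * s * y'⁻¹)) * s = (s * s) * (y' * s * y'⁻¹) * s := by group
    _ = y' * s * y'⁻¹ * s := by rw [hs, one_mul]

theorem cent_fpf {g y : G} (hg : ∀ c : Ω, g • c ≠ c) (hy : y * g = g * y) (hy1 : y ≠ 1) : ∀ c : Ω, y • c ≠ c := by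
  intro c hc
  have h1 : y • g • c = g • c := by rw [← mul_smul, hy, mul_smul, hc]
  have h2 : y • g • g • c = g • g • c := by rw [← mul_smul, hy, mul_smul, h1]
  by_cases h3 : g • g • c = c
  · exact D.sq_ne hg (D.swap_sq' (hg c).symm rfl h3)
  · exact hy1 (D.hZ.2.2.1 y c (g • c) (g • g • c) (hg c).symm (hg (g • c)).symm (Ne.symm h3) hc h1 h2)

theorem cent_cent {g s y τ : G} (hg : ∀ c : Ω, g • c ≠ c) (hs : s * s = 1) (hs1 : s ≠ 1) (hsg : s * g * s = g⁻¹) (hτ : τ * g = g * τ) (hτ1 : τ ≠ 1)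
    (hy : y * τ = τ * y) : y * g = g * y := by
  have hτf := D.cent_fpf hg hτ hτ1
  have hsτ : s * τ * s = τ⁻¹ := D.inv_cent hg hs hs1 hsg hτ
  have h1 : s * y * s = y⁻¹ := D.inv_cent hτf hs hs1 hsτ hy
  have h2 : s * (y * g) * s = (y * g)⁻¹ := D.inv_cent hτf hs hs1 hsτ ((Tor τ).mul_mem hy hτ.symm)
  have h3 : s * (y * g) * s = y⁻¹ * g⁻¹ := by
    calc s * (y * g) * s = s * y * (s * s) * g * s := by rw [hs]; group
      _ = (s * y * s) * (s * g * s) := by group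
      _ = y⁻¹ * g⁻¹ := by rw [h1, hsg]
  rw [h2, mul_inv_rev] at h3
  have h4 := congrArg (fun x => x⁻¹) h3
  simp only [mul_inv_rev, inv_inv] at h4
  exact h4

end DatS

/-- Zassenhaus data in the (excluded) unitary case -/
structure DatB (G : Type u) (Ω : Type v) [Group G] [MulAction G Ω] [Fintype Ω] (a b : Ω) (H : Subgroup G) : Prop extends DatS G Ω a b H where
  hb : ∀ p p' x : Ω, p ≠ p' → Bl G p p' x → Bl G p' p x

theorem DatS.toB {G : Type u} {Ω : Type v} [Group G] [MulAction G Ω] [Finite G] [Fintype Ω] {a b : Ω} {H : Subgroup G} (D : DatS G Ω a b H)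
    {t z₀ : G} (ht : t • a = b ∧ t • b = a) (hz : z₀ ∈ D.Z0) (hz1 : z₀ ≠ 1) (h3 : (t * z₀) ^ 3 = 1) : DatB G Ω a b H := by
  have htt := D.swap_sq ht
  have hbr : t * z₀ * t = z₀ * t * z₀ := by
    have h4 : (t * z₀ * t) * (z₀ * t * z₀) = 1 := by rw [← h3, pow_succ, pow_two]; group
    have h5 := eq_inv_of_mul_eq_one_left h4
    rw [h5, mul_inv_rev, mul_inv_rev, D.Z0_inv hz, inv_eq_of_mul_eq_one_left htt]
    group
  have key : ∀ y : Ω, Bl G a b y → Bl G b a y := by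
    rintro y (h | ⟨z, hzz, hza, hzb⟩)
    · rw [h]; exact Bl_right
    · by_cases hz1' : z = 1
      · left; rw [← hzb, hz1', one_smul]
      right
      obtain ⟨e, he, hez⟩ := D.trans_inv (D.ord_two hz.1 hz1) hz.2 (D.ord_two hzz hz1') hza
      have heb : e • b = b := he.2
      have hea : e • a = a := he.1
      have heb' : e⁻¹ • b = b := by rw [inv_smul_eq_iff, heb]
      have hea' : e⁻¹ • a = a := by rw [inv_smul_eq_iff, hea]
      have hz' : e⁻¹ * z₀ * e ∈ D.Z0 := by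
        have := D.conj_Z0 hea' hz
        rwa [inv_inv] at this
      have hte := D.tE ht he
      have h4 : t • z • b = (e⁻¹ * z₀ * e) • b := by
        calc t • z • b = (t * (e * z₀ * e⁻¹)) • b := by rw [hez, mul_smul]
          _ = ((t * e) * z₀) • (e⁻¹ • b) := by rw [← mul_smul]; congr 1; group
          _ = ((e⁻¹ * t) * z₀) • b := by rw [heb', hte]
          _ = ((e⁻¹ * t) * z₀) • t • a := by rw [ht.1]
          _ = (e⁻¹ * (t * z₀ * t)) • a := by rw [← mul_smul]; congr 1; group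
          _ = (e⁻¹ * (z₀ * t * z₀)) • a := by rw [hbr]
          _ = e⁻¹ • z₀ • t • z₀ • a := by rw [mul_smul, mul_smul, mul_smul]
          _ = e⁻¹ • z₀ • b := by rw [hz.2, ht.1]
          _ = e⁻¹ • z₀ • e • b := by rw [heb]
          _ = (e⁻¹ * z₀ * e) • b := by rw [mul_smul, mul_smul]
      refine ⟨t * (e⁻¹ * z₀ * e) * t, ?_, ?_, ?_⟩
      · calc t * (e⁻¹ * z₀ * e) * t * (t * (e⁻¹ * z₀ * e) * t) = t * (e⁻¹ * z₀ * e) * (t * t) * (e⁻¹ * z₀ * e) * t := by group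
          _ = t * ((e⁻¹ * z₀ * e) * (e⁻¹ * z₀ * e)) * t := by rw [htt]; group
          _ = 1 := by rw [hz'.1, mul_one, htt]
      · rw [mul_smul, ht.2, mul_smul, hz'.2, ht.1]
      · rw [mul_smul, ht.1, mul_smul, ← h4, ← mul_smul, htt, one_smul, hzb]
  refine { D with hb := ?_ }
  intro p p' x hp h
  obtain ⟨k, hk1, hk2⟩ := two_trans D.hZ hp D.hab
  have h1 := Bl_conj k h
  rw [hk1, hk2] at h1
  have h2 := Bl_conj k⁻¹ (key _ h1)
  rw [inv_smul_smul, ← hk1, ← hk2, inv_smul_smul, inv_smul_smul] at h2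
  exact h2

namespace DatB
variable {G : Type u} {Ω : Type v} [Group G] [MulAction G Ω]
variable [Finite G] [Fintype Ω] {a b : Ω} {H : Subgroup G} (D : DatB G Ω a b H)
include D

theorem Bl_symm {p p' x : Ω} (hp : p ≠ p') : Bl G p p' x ↔ Bl G p' p x := ⟨D.hb p p' x hp, D.hb p' p x hp.symm⟩

theorem Bl_trans {p p' x y : Ω} (h : Bl G p p' x) (hx : x ≠ p) : Bl G p x y ↔ Bl G p p' y := by
  obtain ⟨z, hz1, hz2, hz3⟩ := h.resolve_left hx
  constructor
  · rintro (h | ⟨w, hw1, hw2, hw3⟩)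
    · exact Or.inl h
    · exact Or.inr ⟨w * z, D.zmul hw1 hw2 hz1 hz2, by rw [mul_smul, hz2, hw2], by rw [mul_smul, hz3, hw3]⟩
  · rintro (h | ⟨w, hw1, hw2, hw3⟩)
    · exact Or.inl h
    · exact Or.inr ⟨w * z, D.zmul hw1 hw2 hz1 hz2, by rw [mul_smul, hz2, hw2], by
        rw [mul_smul, ← hz3, ← mul_smul z z, hz1, one_smul, hw3]⟩

theorem Bl_eq {p p' x x' y : Ω} (hp : p ≠ p') (h : Bl G p p' x) (h' : Bl G p p' x') (hx : x ≠ x') : Bl G x x' y ↔ Bl G p p' y := by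
  by_cases hxp : x = p
  · subst hxp; exact D.Bl_trans h' (Ne.symm hx)
  · have h1 : ∀ y, Bl G x p y ↔ Bl G p p' y := fun y => (D.Bl_symm hxp).trans (D.Bl_trans h hxp)
    have h2 : Bl G x p x' := (h1 x').mpr h'
    exact (D.Bl_trans h2 (Ne.symm hx)).trans (h1 y)

theorem Bl_inv' {s : G} (hs : s * s = 1) {p p' x y : Ω} (hsx : s • x = x) (hp : p ≠ p') (h : Bl G p p' x) (hy : Bl G p p' y) : Bl G p p' (s • y) := by
  obtain ⟨x', hx', hxx'⟩ : ∃ x', Bl G p p' x' ∧ x ≠ x' := by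
    by_cases hxp : x = p
    · exact ⟨p', Bl_right, hxp ▸ hp⟩
    · exact ⟨p, Bl_left, hxp⟩
  rw [← D.Bl_eq hp h hx' hxx'] at hy ⊢
  rcases hy with hy | ⟨z, hz1, hz2, hz3⟩
  · left; rw [hy, hsx]
  · right; exact ⟨s * z, D.zmul hs hsx hz1 hz2, by rw [mul_smul, hz2, hsx], by rw [mul_smul, hz3]⟩

theorem Bl_inv {s : G} (hs : s * s = 1) {p p' x y : Ω} (hsx : s • x = x) (hp : p ≠ p') (h : Bl G p p' x) : Bl G p p' (s • y) ↔ Bl G p p' y := by
  refine ⟨fun hy => ?_, D.Bl_inv' hs hsx hp h⟩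
  have := D.Bl_inv' hs hsx hp h hy
  rwa [← mul_smul, hs, one_smul] at this

end DatB
end CfsgLib.Zas
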