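import Cfsg.Agent.EqBase
import Cfsg.Agent.LibZas23
/-!
# Zassenhaus groups XXIV: tori in the unitary case (helper16)
-/
set_option autoImplicit false
set_option linter.all false
open Cfsg MulAction
open scoped Pointwise
namespace CfsgLib.Zas

universe u v

/-- a fixed-point-free element inverted by an involution -/
structure TD {G : Type u} {Ω : Type v} [Group G] [MulAction G Ω] (g s : G) (c : Ω) : Prop where
  hg : ∀ x : Ω, g • x ≠ x
  hs : s * s = 1
  hs1 : s ≠ 1
  hsg : s * g * s = g⁻¹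
  hsc : s • c = c

/-- elements of a torus preserving a block -/
def TB {G : Type u} {Ω : Type v} [Group G] [MulAction G Ω] (g : G) (c x : Ω) : Subgroup G where
  carrier := {v | v ∈ Tor g ∧ ∀ y : Ω, Bl G c x (v • y) ↔ Bl G c x y}
  one_mem' := ⟨(Tor g).one_mem, fun y => by rw [one_smul]⟩
  mul_mem' := fun hv hw => ⟨(Tor g).mul_mem hv.1 hw.1, fun y => by rw [mul_smul, hv.2, hw.2]⟩
  inv_mem' := fun {v} hv => ⟨(Tor g).inv_mem hv.1, fun y => by rw [← hv.2 (v⁻¹ • y), smul_inv_smul]⟩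

namespace DatB
variable {G : Type u} {Ω : Type v} [Group G] [MulAction G Ω]
variable [Finite G] [Fintype Ω] {a b : Ω} {H : Subgroup G} (D : DatB G Ω a b H)
include D

theorem card_Om : Nat.card Ω = Nat.card H + 1 := by rw [Nat.card_eq_fintype_card, D.hcard]

variable {g s : G} {c : Ω} (T : TD g s c)
include T

theorem tor_dvd : Nat.card (Tor g) ∣ Nat.card H + 1 := by
  rw [← D.card_Om]
  apply card_dvd_of_free
  rintro ⟨y, hy⟩ x hyx
  by_contra hy1
  exact D.cent_fpf T.hg hy (fun h => hy1 (Subtype.ext h)) x hyx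

theorem tor_odd : Odd (Nat.card (Tor g)) := by
  have h1 := D.tor_dvd T
  have h2 := D.card_even
  exact Odd.of_dvd_nat (Even.add_one h2) h1

theorem tor_ord {y : G} (hy : y ∈ Tor g) : Odd (orderOf y) := by
  have h1 : orderOf y ∣ Nat.card (Tor g) := by
    have := orderOf_dvd_natCard (⟨y, hy⟩ : Tor g)
    rwa [Subgroup.orderOf_mk] at this
  exact Odd.of_dvd_nat (D.tor_odd T) h1

theorem tor_sq {y : G} (hy : y ∈ Tor g) : ∃ n : ℕ, (y * y) ^ n = y := odd_pow (D.tor_ord T hy)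

theorem tor_inv {y : G} (hy : y ∈ Tor g) : s * y * s = y⁻¹ := D.inv_cent T.hg T.hs T.hs1 T.hsg hy

theorem tor_free {y : G} (hy : y ∈ Tor g) {x : Ω} (h : y • x = x) : y = 1 := by
  by_contra hy1
  exact D.cent_fpf T.hg hy hy1 x h

/-- an element of a torus preserving a block has its orbit through the block -/
theorem blk_orb {τ : G} (hτ : τ ∈ Tor g) (hτ1 : τ ≠ 1) {p p' x : Ω} (hp : p ≠ p') (hB : ∀ y : Ω, Bl G p p' (τ • y) ↔ Bl G p p' y)
    (hx : Bl G p p' x) : ∃ w ∈ Tor g, w • c = x := by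
  have hτf := D.cent_fpf T.hg hτ hτ1
  have hx1 : Bl G p p' (τ • x) := (hB x).mpr hx
  have hx2 : Bl G p p' (τ⁻¹ • x) := (hB (τ⁻¹ • x)).mp (by rw [smul_inv_smul]; exact hx)
  have hne : x ≠ τ⁻¹ • x := by
    intro h
    apply hτf x
    rw [← eq_inv_smul_iff]; exact h
  have h1 : Bl G x (τ • x) (τ⁻¹ • x) := (D.Bl_eq hp hx hx1 (hτf x).symm).mpr hx2
  obtain ⟨z, hz1, hz2, hz3⟩ := h1.resolve_left hne.symm
  have h2 : (z * τ) * (z * τ) = 1 := D.swap_sq' (c := x) (d := τ⁻¹ • x) hne (by rw [mul_smul, hz3]) (by rw [mul_smul, smul_inv_smul, hz2])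
  have hz1' : z ≠ 1 := by
    rintro rfl
    rw [one_mul] at h2
    exact D.sq_ne hτf h2
  have h3 : z * τ * z = τ⁻¹ := eq_inv_of_mul_eq_one_left (by rw [← h2]; group)
  have h4 : z * g * z = g⁻¹ := D.inv_cent hτf hz1 hz1' h3 hτ.symm
  have hzi : z⁻¹ = z := inv_eq_of_mul_eq_one_left hz1
  have hsi : s⁻¹ = s := inv_eq_of_mul_eq_one_left T.hs
  have hsz : s * z ∈ Tor g := by
    show s * z * g = g * (s * z)
    have e1 : z * g = g⁻¹ * z := by
      calc z * g = z * g * (z * z) := by rw [hz1, mul_one]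
        _ = (z * g * z) * z := by group
        _ = g⁻¹ * z := by rw [h4]
    have e2 : s * g⁻¹ = g * s := by
      calc s * g⁻¹ = s * (s * g * s) := by rw [T.hsg]
        _ = (s * s) * g * s := by group
        _ = g * s := by rw [T.hs, one_mul]
    rw [mul_assoc, e1, ← mul_assoc, e2, mul_assoc]
  obtain ⟨n, hn⟩ := D.tor_sq T hsz
  obtain ⟨w, hw⟩ : ∃ w, w = (s * z) ^ n := ⟨_, rfl⟩
  have hwT : w ∈ Tor g := by rw [hw]; exact (Tor g).pow_mem hsz n
  have hww : w * w = s * z := by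
    rw [hw, ← (Commute.refl (s * z)).mul_pow]; exact hn
  have hws : s * w = w⁻¹ * s := by
    have h5 := D.tor_inv T hwT
    calc s * w = s * w * (s * s) := by rw [T.hs, mul_one]
      _ = (s * w * s) * s := by group
      _ = w⁻¹ * s := by rw [h5]
  have hz : z = w⁻¹ * s * w := by
    calc z = (s * s) * z := by rw [T.hs, one_mul]
      _ = s * (s * z) := by group
      _ = s * (w * w) := by rw [hww]
      _ = (s * w) * w := by group
      _ = w⁻¹ * s * w := by rw [hws]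
  refine ⟨w⁻¹, (Tor g).inv_mem hwT, ?_⟩
  apply D.center_unique hz1 hz1' _ hz2
  rw [hz, mul_smul, mul_smul, smul_inv_smul, T.hsc]

theorem blk_pres {w : G} (hw : w ∈ Tor g) (hw1 : w ≠ 1) (y : Ω) : Bl G c (w • c) ((w * w) • y) ↔ Bl G c (w • c) y := by
  have hcw : c ≠ w • c := (D.cent_fpf T.hg hw hw1 c).symm
  have hs' : (w * s * w⁻¹) * (w * s * w⁻¹) = 1 := by
    calc (w * s * w⁻¹) * (w * s * w⁻¹) = w * (s * s) * w⁻¹ := by group
      _ = 1 := by rw [T.hs]; group
  have hsx : (w * s * w⁻¹) • (w • c) = w • c := by rw [mul_smul, inv_smul_smul, mul_smul, T.hsc]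
  have hww : w * w = (w * s * w⁻¹) * s := by
    have h5 := D.tor_inv T ((Tor g).inv_mem hw)
    rw [inv_inv] at h5
    calc w * w = w * (s * w⁻¹ * s) := by rw [h5]
      _ = (w * s * w⁻¹) * s := by group
  rw [hww, mul_smul, D.Bl_inv hs' hsx hcw Bl_right, D.Bl_inv T.hs T.hsc hcw Bl_left]

theorem blk_sub {w : G} (hw : w ∈ Tor g) (hw1 : w ≠ 1) {x : Ω} (hx : Bl G c (w • c) x) : ∃ v ∈ Tor g, v • c = x := by
  have hww : w * w ≠ 1 := D.sq_ne (D.cent_fpf T.hg hw hw1)
  exact D.blk_orb T ((Tor g).mul_mem hw hw) hww (D.cent_fpf T.hg hw hw1 c).symm (D.blk_pres T hw hw1) hx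

theorem mem_TB {w v : G} (hw : w ∈ Tor g) (hw1 : w ≠ 1) (hv : v ∈ Tor g) (h : Bl G c (w • c) (v • c)) : v ∈ TB g c (w • c) := by
  by_cases hv1 : v = 1
  · rw [hv1]; exact Subgroup.one_mem _
  have hvc := D.cent_fpf T.hg hv hv1 c
  have h1 : v * v ∈ TB g c (w • c) := by
    refine ⟨(Tor g).mul_mem hv hv, fun y => ?_⟩
    rw [← D.Bl_trans h hvc, ← D.Bl_trans h hvc]
    exact D.blk_pres T hv hv1 y
  obtain ⟨n, hn⟩ := D.tor_sq T hv
  rw [← hn]
  exact Subgroup.pow_mem _ h1 n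

omit T in
/-- the involutions fixing a point -/
theorem card_ZP (p : Ω) : Nat.card {z : G // z * z = 1 ∧ z • p = p} = Nat.card (EE G a b) + 1 := by
  obtain ⟨k, hk⟩ := D.exists_a p
  rw [← D.card_Z0]
  have hk' : k⁻¹ • p = a := by rw [inv_smul_eq_iff, hk]
  apply Nat.card_congr
  exact
    { toFun := fun z => ⟨k⁻¹ * z.1 * k, by
        refine ⟨?_, ?_⟩
        · calc k⁻¹ * z.1 * k * (k⁻¹ * z.1 * k) = k⁻¹ * (z.1 * z.1) * k := by group
            _ = 1 := by rw [z.2.1]; group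
        · rw [mul_smul, mul_smul, hk, z.2.2, hk']⟩
      invFun := fun z => ⟨k * z.1 * k⁻¹, by
        refine ⟨?_, ?_⟩
        · calc k * z.1 * k⁻¹ * (k * z.1 * k⁻¹) = k * (z.1 * z.1) * k⁻¹ := by group
            _ = 1 := by rw [z.2.1]; group
        · rw [mul_smul, mul_smul, hk', z.2.2, hk]⟩
      left_inv := fun z => Subtype.ext (by show k * (k⁻¹ * z.1 * k) * k⁻¹ = z.1; group)
      right_inv := fun z => Subtype.ext (by show k⁻¹ * (k * z.1 * k⁻¹) * k = z.1; group) }

omit T in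
theorem card_Bl {p p' : Ω} (hp : p ≠ p') : Nat.card {x : Ω // Bl G p p' x} = Nat.card (EE G a b) + 2 := by
  classical
  let f : Option {z : G // z * z = 1 ∧ z • p = p} → {x : Ω // Bl G p p' x} := fun o => match o with
    | none => ⟨p, Bl_left⟩
    | some z => ⟨z.1 • p', Or.inr ⟨z.1, z.2.1, z.2.2, rfl⟩⟩
  have hne : ∀ z : {z : G // z * z = 1 ∧ z • p = p}, z.1 • p' ≠ p := by
    intro z h
    have h2 : z.1 • p' = z.1 • p := h.trans z.2.2.symm
    exact hp (MulAction.injective z.1 h2).symm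
  have hf : Function.Bijective f := by
    constructor
    · rintro (_ | z) (_ | w) h
      · rfl
      · exact absurd (congrArg Subtype.val h).symm (hne w)
      · exact absurd (congrArg Subtype.val h) (hne z)
      · have h1 : z.1 • p' = w.1 • p' := congrArg Subtype.val h
        have h2 : (w.1 * z.1) • p' = p' := by rw [mul_smul, h1, ← mul_smul, w.2.1, one_smul]
        have h3 : (w.1 * z.1) * (w.1 * z.1) = 1 := D.zmul w.2.1 w.2.2 z.2.1 z.2.2
        have h4 : (w.1 * z.1) • p = p := by rw [mul_smul, z.2.2, w.2.2]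
        have h5 : w.1 * z.1 = 1 := by
          by_contra h6
          exact hp (D.center_unique h3 h6 h4 h2)
        have h6 : z.1 = w.1 := by
          have h7 := eq_inv_of_mul_eq_one_left h5
          rw [h7]; exact (eq_inv_of_mul_eq_one_left z.2.1)
        rw [Subtype.ext h6]
    · rintro ⟨x, hx | ⟨z, h1, h2, h3⟩⟩
      · exact ⟨none, Subtype.ext hx.symm⟩
      · exact ⟨some ⟨z, h1, h2⟩, Subtype.ext h3⟩
  rw [← Nat.card_congr (Equiv.ofBijective f hf), Finite.card_option, D.card_ZP]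

theorem card_TB {w : G} (hw : w ∈ Tor g) (hw1 : w ≠ 1) : Nat.card (TB g c (w • c)) = Nat.card (EE G a b) + 2 := by
  classical
  have hcw : c ≠ w • c := (D.cent_fpf T.hg hw hw1 c).symm
  rw [← D.card_Bl hcw]
  let f : TB g c (w • c) → {x : Ω // Bl G c (w • c) x} := fun v => ⟨(v : G) • c, (v.2.2 c).mpr Bl_left⟩
  have hf : Function.Bijective f := by
    constructor
    · intro v v' h
      have h1 : (v : G) • c = (v' : G) • c := congrArg Subtype.val h
      have h2 : ((v' : G)⁻¹ * v) • c = c := by rw [mul_smul, h1, inv_smul_smul]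
      have h3 := D.tor_free T ((Tor g).mul_mem ((Tor g).inv_mem v'.2.1) v.2.1) h2
      exact Subtype.ext (inv_mul_eq_one.mp h3).symm
    · rintro ⟨x, hx⟩
      obtain ⟨v, hv, hvx⟩ := D.blk_sub T hw hw1 hx
      refine ⟨⟨v, D.mem_TB T hw hw1 hv (by rw [hvx]; exact hx)⟩, Subtype.ext hvx⟩
  exact Nat.card_congr (Equiv.ofBijective f hf)

/-- the exponent of a torus -/
theorem tor_pow {w : G} (hw : w ∈ Tor g) : w ^ (Nat.card (EE G a b) + 2) = 1 := by
  by_cases hw1 : w = 1
  · rw [hw1, one_pow]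
  have h1 := D.mem_TB T hw hw1 hw Bl_right
  have h2 : (⟨w, h1⟩ : TB g c (w • c)) ^ (Nat.card (TB g c (w • c))) = 1 := pow_card_eq_one'
  rw [D.card_TB T hw hw1] at h2
  have h3 := congrArg Subtype.val h2
  rwa [Subgroup.coe_pow] at h3

theorem prime_dvd {p : ℕ} (hp : p.Prime) (h : p ∣ Nat.card (Tor g)) : p ∣ Nat.card (EE G a b) + 2 := by
  haveI := Fact.mk hp
  obtain ⟨⟨w, hw⟩, hwo⟩ := exists_prime_orderOf_dvd_card' (G := Tor g) p h
  have h1 : orderOf w = p := by rw [← hwo]; exact (Subgroup.orderOf_mk w hw).symm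
  rw [← h1]
  exact orderOf_dvd_of_pow_eq_one (D.tor_pow T hw)

theorem g_ne : g ≠ 1 := by
  rintro rfl
  exact T.hg c (one_smul G c)

theorem dvd_tor : Nat.card (EE G a b) + 2 ∣ Nat.card (Tor g) := by
  rw [← D.card_TB T (self_mem_Tor g) (D.g_ne T)]
  exact Subgroup.card_dvd_of_le fun v hv => hv.1

theorem mod_tor : Nat.card (EE G a b) + 1 ∣ Nat.card (Tor g) - 1 := by
  classical
  let ZP : Subgroup G :=
    { carrier := {z | z * z = 1 ∧ z • c = c}
      one_mem' := ⟨mul_one 1, one_smul G c⟩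
      mul_mem' := fun {x y} hx hy => ⟨D.zmul hx.1 hx.2 hy.1 hy.2, by rw [mul_smul, hy.2, hx.2]⟩
      inv_mem' := fun {x} hx => ⟨by rw [← mul_inv_rev, hx.1, inv_one], by rw [inv_smul_eq_iff, hx.2]⟩ }
  have h1 : Nat.card ZP = Nat.card (EE G a b) + 1 := D.card_ZP c
  let X := {y : Ω // y ≠ c ∧ ∃ w ∈ Tor g, w • c = y}
  have hX : ∀ z : ZP, ∀ y : X, (z : G) • (y : Ω) ≠ c ∧ ∃ w ∈ Tor g, w • c = (z : G) • (y : Ω) := by
    rintro ⟨z, hz1, hz2⟩ ⟨y, hy, w, hw, hwy⟩
    refine ⟨?_, ?_⟩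
    · intro h
      have h2 : z • y = z • c := h.trans hz2.symm
      exact hy (MulAction.injective z h2)
    · have hw1 : w ≠ 1 := by
        rintro rfl
        exact hy (hwy.symm.trans (one_smul G c))
      have hbl : Bl G c (w • c) (z • y) := Or.inr ⟨z, hz1, hz2, congrArg (fun x => z • x) hwy⟩
      exact D.blk_sub T hw hw1 hbl
  letI : MulAction ZP X :=
    { smul := fun z y => ⟨(z : G) • (y : Ω), hX z y⟩
      one_smul := fun y => Subtype.ext (one_smul G (y : Ω))
      mul_smul := fun z w y => Subtype.ext (mul_smul (z : G) (w : G) (y : Ω)) }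
  have h2 : Nat.card ZP ∣ Nat.card X := by
    apply card_dvd_of_free
    rintro ⟨z, hz1, hz2⟩ ⟨y, hy, w, hw, hwy⟩ h
    have h3 : z • y = y := congrArg Subtype.val h
    apply Subtype.ext
    show z = 1
    by_contra hz
    exact hy (D.center_unique hz1 hz h3 hz2)
  rw [h1] at h2
  have h3 : Nat.card X = Nat.card (Tor g) - 1 := by
    let f : {w : Tor g // w ≠ 1} → X := fun w => ⟨(w.1 : G) • c, fun h => w.2 (Subtype.ext (D.tor_free T w.1.2 h)), w.1, w.1.2, rfl⟩
    have hf : Function.Bijective f := by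
      constructor
      · intro v v' h
        have h1 : (v.1 : G) • c = (v'.1 : G) • c := congrArg Subtype.val h
        have h2 : ((v'.1 : G)⁻¹ * v.1) • c = c := by rw [mul_smul, h1, inv_smul_smul]
        have h3 := D.tor_free T ((Tor g).mul_mem ((Tor g).inv_mem v'.1.2) v.1.2) h2
        exact Subtype.ext (Subtype.ext (inv_mul_eq_one.mp h3).symm)
      · rintro ⟨y, hy, w, hw, hwy⟩
        refine ⟨⟨⟨w, hw⟩, fun h => hy ?_⟩, Subtype.ext hwy⟩
        have h4 : w = 1 := congrArg Subtype.val h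
        rw [← hwy, h4, one_smul]
    rw [← Nat.card_congr (Equiv.ofBijective f hf)]
    haveI := Fintype.ofFinite (Tor g)
    rw [Nat.card_eq_fintype_card, Nat.card_eq_fintype_card, Fintype.card_subtype_compl, Fintype.card_subtype_eq]
  rw [h3] at h2
  exact h2

end DatB
end CfsgLib.Zas
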