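import Cfsg.Agent.EqBase
import Cfsg.Agent.LibZas24
/-!
# Zassenhaus groups XXV: the unitary case does not occur (helper16)
-/
set_option autoImplicit false
set_option linter.all false
open Cfsg MulAction
open scoped Pointwise
namespace CfsgLib.Zas

universe u v

theorem tor_arith {q h m : ℕ} (hq : 4 ≤ q) (hh : h = q ^ 2 ∨ h = q ^ 3) (h1 : m ∣ h + 1) (h2 : q + 1 ∣ m) (h3 : q ∣ m - 1)
    (h4 : ∀ p : ℕ, p.Prime → p ∣ m → p ∣ q + 1) : m = q + 1 := by
  have hm : 1 ≤ m := by
    rcases Nat.eq_zero_or_pos m with h | h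
    · rw [h, zero_dvd_iff] at h1; omega
    · exact h
  rcases hh with hh | hh
  · exfalso
    have h5 : q + 1 ∣ q ^ 2 + 1 := h2.trans (hh ▸ h1)
    have h6 : q ^ 2 + 1 = (q + 1) * (q - 1) + 2 := by
      obtain ⟨r, rfl⟩ : ∃ r, q = r + 1 := ⟨q - 1, by omega⟩
      simp only [Nat.add_sub_cancel]; ring
    rw [h6] at h5
    have h7 : q + 1 ∣ 2 := (Nat.dvd_add_right (Dvd.intro _ rfl)).mp h5
    have := Nat.le_of_dvd (by norm_num) h7
    omega
  · obtain ⟨k, hk⟩ := h2
    obtain ⟨r, rfl⟩ : ∃ r, q = r + 1 := ⟨q - 1, by omega⟩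
    have hN : (r + 1) ^ 3 + 1 = (r + 1 + 1) * (r ^ 2 + r + 1) := by ring
    have hkN : k ∣ r ^ 2 + r + 1 := by
      rw [hh, hN, hk] at h1
      exact Nat.dvd_of_mul_dvd_mul_left (by omega) h1
    have h5 : ∀ p : ℕ, p.Prime → p ∣ k → p = 3 := by
      intro p hp hpk
      have h6 : p ∣ r + 1 + 1 := h4 p hp (hk ▸ Dvd.dvd.mul_left hpk _)
      have h7 : p ∣ r ^ 2 + r + 1 := hpk.trans hkN
      obtain ⟨r', rfl⟩ : ∃ r', r = r' + 1 := ⟨r - 1, by omega⟩
      have h8 : (r' + 1) ^ 2 + (r' + 1) + 1 = (r' + 1 + 1 + 1) * r' + 3 := by ring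
      rw [h8] at h7
      have h9 : p ∣ 3 := (Nat.dvd_add_right (Dvd.dvd.mul_right h6 _)).mp h7
      exact (Nat.prime_dvd_prime_iff_eq hp Nat.prime_three).mp h9
    have h6 : ¬ 9 ∣ r ^ 2 + r + 1 := by
      intro h
      have h7 : (r ^ 2 + r + 1) % 9 = 0 := Nat.mod_eq_zero_of_dvd h
      have h8 : r % 9 < 9 := Nat.mod_lt _ (by norm_num)
      rw [Nat.add_mod, Nat.add_mod (r ^ 2), Nat.pow_mod] at h7
      generalize r % 9 = j at *
      interval_cases j <;> simp at h7
    have h7 : k = 1 ∨ k = 3 := by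
      by_cases hk1 : k = 1
      · left; exact hk1
      right
      obtain ⟨p, hp, hpk⟩ := Nat.exists_prime_and_dvd hk1
      have := h5 p hp hpk
      subst this
      obtain ⟨k', hk'⟩ := hpk
      by_cases hk1' : k' = 1
      · rw [hk', hk1']
      exfalso
      obtain ⟨p, hp, hpk⟩ := Nat.exists_prime_and_dvd hk1'
      have := h5 p hp (hk' ▸ Dvd.dvd.mul_left hpk _)
      subst this
      obtain ⟨k'', hk''⟩ := hpk
      apply h6
      exact Dvd.dvd.trans ⟨k'', by rw [hk', hk'']; ring⟩ hkN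
    rcases h7 with h7 | h7
    · rw [hk, h7, mul_one]
    · exfalso
      rw [hk, h7] at h3
      have h8 : (r + 1 + 1) * 3 - 1 = (r + 1) * 3 + 2 := by omega
      rw [h8] at h3
      have h9 := (Nat.dvd_add_right (Dvd.intro _ rfl)).mp h3
      have := Nat.le_of_dvd (by norm_num) h9
      omega

namespace DatO
variable {G : Type u} {Ω : Type v} [Group G] [MulAction G Ω]
variable [Finite G] [Fintype Ω] {a b : Ω} {H : Subgroup G} (D : DatO G Ω a b H)
include D

/-- number of involutions mapping one point to another -/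
theorem card_swap' {c d : Ω} (hcd : c ≠ d) : Nat.card {t : G // orderOf t = 2 ∧ t • c = d} = Nat.card (EE G a b) := by
  obtain ⟨k, hk1, hk2⟩ := two_trans D.hZ hcd D.hab
  rw [← D.card_swap]
  have hk1' : k⁻¹ • a = c := by rw [inv_smul_eq_iff, hk1]
  have hk2' : k⁻¹ • b = d := by rw [inv_smul_eq_iff, hk2]
  apply Nat.card_congr
  exact
    { toFun := fun t => ⟨k * t.1 * k⁻¹, (Cfsg.Agent.LibZG1.orderOf_conj _ _).trans t.2.1, by
        refine ⟨?_, ?_⟩
        · rw [mul_smul, hk1', mul_smul, t.2.2, hk2]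
        · have h3 : t.1 • d = c := by
            have h4 : t.1 • t.1 • c = t.1 • d := congrArg (fun x => t.1 • x) t.2.2
            rw [← h4, ← mul_smul, inv_mul_self_of_order_two t.2.1, one_smul]
          rw [mul_smul, hk2', mul_smul, h3, hk1]⟩
      invFun := fun t => ⟨k⁻¹ * t.1 * k, by
        have := Cfsg.Agent.LibZG1.orderOf_conj k⁻¹ t.1
        rw [inv_inv] at this
        exact this.trans t.2.1, by rw [mul_smul, hk1, mul_smul, t.2.2.1, hk2']⟩
      left_inv := fun t => Subtype.ext (by show k⁻¹ * (k * t.1 * k⁻¹) * k = t.1; group)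
      right_inv := fun t => Subtype.ext (by show k * (k⁻¹ * t.1 * k) * k⁻¹ = t.1; group) }

end DatO

namespace DatS
variable {G : Type u} {Ω : Type v} [Group G] [MulAction G Ω]
variable [Finite G] [Fintype Ω] {a b : Ω} {H : Subgroup G} (D : DatS G Ω a b H)
include D

theorem card_center (c : Ω) : Nat.card {t : G // orderOf t = 2 ∧ t • c = c} = Nat.card (EE G a b) := by
  obtain ⟨k, hk⟩ := D.exists_a c
  have hk' : k⁻¹ • c = a := by rw [inv_smul_eq_iff, hk]
  rw [← D.card_inv_H D.card_even]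
  apply Nat.card_congr
  exact
    { toFun := fun t => ⟨k⁻¹ * t.1 * k, by
        have := Cfsg.Agent.LibZG1.orderOf_conj k⁻¹ t.1
        rw [inv_inv] at this
        exact this.trans t.2.1, by rw [mul_smul, hk, mul_smul, t.2.2, hk']⟩
      invFun := fun t => ⟨k * t.1 * k⁻¹, (Cfsg.Agent.LibZG1.orderOf_conj _ _).trans t.2.1, by
        rw [mul_smul, hk', mul_smul, t.2.2, hk]⟩
      left_inv := fun t => Subtype.ext (by show k * (k⁻¹ * t.1 * k) * k⁻¹ = t.1; group)
      right_inv := fun t => Subtype.ext (by show k⁻¹ * (k * t.1 * k⁻¹) * k = t.1; group) }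

/-- number of involutions with fixed-point-free product with a given one -/
theorem card_partners {s : G} (hs : orderOf s = 2) : Nat.card H * (Nat.card (EE G a b) + 1) ≤ 2 * Nat.card {t : G // orderOf t = 2 ∧ ∀ x : Ω, (s * t) • x ≠ x} := by
  classical
  haveI := Fintype.ofFinite G
  have hss : s * s = 1 := inv_mul_self_of_order_two hs
  have hs1 : s ≠ 1 := by rintro rfl; rw [orderOf_one] at hs; omega
  obtain ⟨c, hc⟩ := D.exists_center hss hs1
  have he := D.two_le_EE
  -- all involutions moving `c`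
  have hJ : Nat.card {t : G // orderOf t = 2 ∧ t • c ≠ c} = Nat.card (EE G a b) * Nat.card H := by
    have h1 := D.card_inv
    rw [if_pos D.card_even] at h1
    have h2 := D.card_center c
    have e : {t : G // orderOf t = 2} ≃ {t : G // orderOf t = 2 ∧ t • c = c} ⊕ {t : G // orderOf t = 2 ∧ t • c ≠ c} :=
      { toFun := fun t => if h : t.1 • c = c then Sum.inl ⟨t.1, t.2, h⟩ else Sum.inr ⟨t.1, t.2, h⟩
        invFun := fun t => match t with
          | Sum.inl t => ⟨t.1, t.2.1⟩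
          | Sum.inr t => ⟨t.1, t.2.1⟩
        left_inv := fun t => by
          by_cases h : t.1 • c = c
          · simp only [h, dif_pos]
          · simp only [h, dif_neg, not_false_iff]
        right_inv := fun t => by
          rcases t with t | t
          · simp only [t.2.2, dif_pos]
          · simp only [t.2.2, dif_neg, not_false_iff] }
    rw [Nat.card_congr e, Nat.card_sum, h2] at h1
    have h3 : Nat.card (EE G a b) * (Nat.card H + 1) = Nat.card (EE G a b) + Nat.card (EE G a b) * Nat.card H := by ring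
    omega
  -- the bad ones
  have hU : Nat.card (Σ f : {f : Ω // f ≠ c}, {t : G // (orderOf t = 2 ∧ t • (f : Ω) = s • (f : Ω)) ∧ t ≠ s}) = Nat.card H * (Nat.card (EE G a b) - 1) := by
    have h1 : ∀ f : {f : Ω // f ≠ c}, Nat.card {t : G // (orderOf t = 2 ∧ t • (f : Ω) = s • (f : Ω)) ∧ t ≠ s} = Nat.card (EE G a b) - 1 := by
      rintro ⟨f, hf⟩
      have hfs : f ≠ s • f := fun h => hf (D.center_unique hss hs1 h.symm hc)
      rw [← D.card_swap' hfs]
      have e : {t : G // (orderOf t = 2 ∧ t • f = s • f) ∧ t ≠ s} ≃ {x : {t : G // orderOf t = 2 ∧ t • f = s • f} // x ≠ ⟨s, hs, rfl⟩} :=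
        { toFun := fun t => ⟨⟨t.1, t.2.1⟩, fun h => t.2.2 (congrArg Subtype.val h)⟩
          invFun := fun t => ⟨t.1.1, t.1.2, fun h => t.2 (Subtype.ext h)⟩
          left_inv := fun t => rfl
          right_inv := fun t => rfl }
      rw [Nat.card_congr e, Nat.card_eq_fintype_card, Nat.card_eq_fintype_card, Fintype.card_subtype_compl, Fintype.card_subtype_eq]
    rw [Nat.card_sigma, Finset.sum_congr rfl fun f _ => h1 f, Finset.sum_const, smul_eq_mul]
    congr 1
    have h2 := D.hcard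
    rw [Finset.card_univ, Fintype.card_subtype_compl, Fintype.card_subtype_eq]
    omega
  have hbad : 2 * Nat.card {t : G // (orderOf t = 2 ∧ t • c ≠ c) ∧ ∃ x : Ω, (s * t) • x = x} ≤ Nat.card H * (Nat.card (EE G a b) - 1) := by
    rw [← hU]
    have h1 : ∀ t : {t : G // (orderOf t = 2 ∧ t • c ≠ c) ∧ ∃ x : Ω, (s * t) • x = x}, t.2.2.choose ≠ c ∧ t.1 • t.2.2.choose = s • t.2.2.choose ∧ t.1 ≠ s := by
      rintro ⟨t, ⟨ht, htc⟩, hx⟩
      have h2 := hx.choose_spec
      show hx.choose ≠ c ∧ t • hx.choose = s • hx.choose ∧ t ≠ s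
      generalize hx.choose = x at *
      have h3 : t • x = s • x := by
        have h4 : s • t • x = x := by rw [← mul_smul]; exact h2
        conv_rhs => rw [← h4, ← mul_smul, hss, one_smul]
      refine ⟨?_, h3, ?_⟩
      · rintro rfl
        exact htc (h3.trans hc)
      · rintro rfl
        exact htc hc
    let F : Bool × {t : G // (orderOf t = 2 ∧ t • c ≠ c) ∧ ∃ x : Ω, (s * t) • x = x} →
        (Σ f : {f : Ω // f ≠ c}, {t : G // (orderOf t = 2 ∧ t • (f : Ω) = s • (f : Ω)) ∧ t ≠ s}) := fun p =>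
      match p with
      | (true, t) => ⟨⟨t.2.2.choose, (h1 t).1⟩, ⟨t.1, ⟨t.2.1.1, (h1 t).2.1⟩, (h1 t).2.2⟩⟩
      | (false, t) => ⟨⟨s • t.2.2.choose, fun h => (h1 t).1 (MulAction.injective s (h.trans hc.symm))⟩, ⟨t.1, ⟨t.2.1.1, by
          show t.1 • s • t.2.2.choose = s • s • t.2.2.choose
          rw [← (h1 t).2.1, ← mul_smul, inv_mul_self_of_order_two t.2.1.1, one_smul, (h1 t).2.1, ← mul_smul, hss, one_smul]⟩, (h1 t).2.2⟩⟩
    have hF2 : ∀ p, (F p).2.1 = p.2.1 := by
      rintro ⟨_ | _, t⟩ <;> rfl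
    have hF : Function.Injective F := by
      rintro ⟨i, t⟩ ⟨j, t'⟩ h
      have h2 : t = t' := by
        apply Subtype.ext
        have h3 := congrArg (fun x => x.2.1) h
        simp only [hF2] at h3
        exact h3
      subst h2
      have h4 : ∀ t, F (true, t) ≠ F (false, t) := by
        intro t ht
        have h3 : t.2.2.choose = s • t.2.2.choose := congrArg (fun x => x.1.1) ht
        exact (h1 t).1 (D.center_unique hss hs1 h3.symm hc)
      rcases i with _ | _ <;> rcases j with _ | _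
      · rfl
      · exact absurd h.symm (h4 t)
      · exact absurd h (h4 t)
      · rfl
    have h2 := Nat.card_le_card_of_injective F hF
    rw [Nat.card_prod] at h2
    simpa using h2
  have hsum : Nat.card {t : G // orderOf t = 2 ∧ t • c ≠ c} ≤ Nat.card {t : G // orderOf t = 2 ∧ ∀ x : Ω, (s * t) • x ≠ x} +
      Nat.card {t : G // (orderOf t = 2 ∧ t • c ≠ c) ∧ ∃ x : Ω, (s * t) • x = x} := by
    rw [← Nat.card_sum]
    apply Nat.card_le_card_of_injective (fun t : {t : G // orderOf t = 2 ∧ t • c ≠ c} => if h : ∃ x : Ω, (s * t) • x = x then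
      (Sum.inr ⟨t.1, t.2, h⟩ : {t : G // orderOf t = 2 ∧ ∀ x : Ω, (s * t) • x ≠ x} ⊕ {t : G // (orderOf t = 2 ∧ t • c ≠ c) ∧ ∃ x : Ω, (s * t) • x = x})
      else Sum.inl ⟨t.1, t.2.1, fun x hx => h ⟨x, hx⟩⟩)
    intro t t' h
    apply Subtype.ext
    by_cases h1 : ∃ x : Ω, (s * t) • x = x <;> by_cases h2 : ∃ x : Ω, (s * t') • x = x
    · simp only [h1, h2, dif_pos, Sum.inr.injEq, Subtype.mk.injEq] at h
      exact h
    · simp [h1, h2] at h
    · simp [h1, h2] at h
    · simp only [h1, h2, dif_neg, not_false_iff, Sum.inl.injEq, Subtype.mk.injEq] at h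
      exact h
  rw [hJ] at hsum
  obtain ⟨e, he'⟩ : ∃ e, Nat.card (EE G a b) = e + 1 := ⟨Nat.card (EE G a b) - 1, by omega⟩
  rw [he'] at hsum hbad ⊢
  simp only [Nat.add_sub_cancel] at hbad
  nlinarith [hsum, hbad]

end DatS

namespace DatB
variable {G : Type u} {Ω : Type v} [Group G] [MulAction G Ω]
variable [Finite G] [Fintype Ω] {a b : Ω} {H : Subgroup G} (D : DatB G Ω a b H)
include D

theorem tor_card {g s : G} {c : Ω} (T : TD g s c) : Nat.card (Tor g) = Nat.card (EE G a b) + 2 :=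
  tor_arith D.four_le D.card_H (D.tor_dvd T) (D.dvd_tor T) (D.mod_tor T) fun p hp h => D.prime_dvd T hp h

/-- the unitary case does not occur -/
theorem absurd_B : False := by
  classical
  haveI := Fintype.ofFinite G
  have hS1 : Nat.card (EE G a b) * (Nat.card H + 1) * (Nat.card H * (Nat.card (EE G a b) + 1)) ≤
      2 * Nat.card (Σ s : {s : G // orderOf s = 2}, {t : G // orderOf t = 2 ∧ ∀ x : Ω, (s.1 * t) • x ≠ x}) := by
    rw [Nat.card_sigma, Finset.mul_sum]
    have h1 : ∀ s : {s : G // orderOf s = 2}, Nat.card H * (Nat.card (EE G a b) + 1) ≤ 2 * Nat.card {t : G // orderOf t = 2 ∧ ∀ x : Ω, (s.1 * t) • x ≠ x} :=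
      fun s => D.card_partners s.2
    have h2 := Finset.sum_le_sum fun (s : {s : G // orderOf s = 2}) (_ : s ∈ Finset.univ) => h1 s
    rw [Finset.sum_const, smul_eq_mul, Finset.card_univ, ← Nat.card_eq_fintype_card, D.card_inv, if_pos D.card_even] at h2
    exact h2
  have hS2 : Nat.card (Σ s : {s : G // orderOf s = 2}, {t : G // orderOf t = 2 ∧ ∀ x : Ω, (s.1 * t) • x ≠ x}) ≤
      Nat.card {g : G // ∀ x : Ω, g • x ≠ x} * (Nat.card (EE G a b) + 2) := by
    have h1 : Nat.card (Σ s : {s : G // orderOf s = 2}, {t : G // orderOf t = 2 ∧ ∀ x : Ω, (s.1 * t) • x ≠ x}) ≤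
        Nat.card (Σ g : {g : G // ∀ x : Ω, g • x ≠ x}, {s : G // s * s = 1 ∧ s ≠ 1 ∧ s * g.1 * s = (g.1)⁻¹}) := by
      apply Nat.card_le_card_of_injective (fun p : (Σ s : {s : G // orderOf s = 2}, {t : G // orderOf t = 2 ∧ ∀ x : Ω, (s.1 * t) • x ≠ x}) =>
        (⟨⟨p.1.1 * p.2.1, p.2.2.2⟩, ⟨p.1.1, inv_mul_self_of_order_two p.1.2, (by
          intro h
          have h2 := p.1.2
          rw [h, orderOf_one] at h2
          omega), (by
          show p.1.1 * (p.1.1 * p.2.1) * p.1.1 = (p.1.1 * p.2.1)⁻¹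
          rw [mul_inv_rev, inv_eq_of_order_two p.1.2, inv_eq_of_order_two p.2.2.1, ← mul_assoc, inv_mul_self_of_order_two p.1.2, one_mul])⟩⟩ :
          (Σ g : {g : G // ∀ x : Ω, g • x ≠ x}, {s : G // s * s = 1 ∧ s ≠ 1 ∧ s * g.1 * s = (g.1)⁻¹})))
      rintro ⟨⟨s, hs⟩, ⟨t, ht⟩⟩ ⟨⟨s', hs'⟩, ⟨t', ht'⟩⟩ h
      have h1 : s * t = s' * t' := congrArg (fun x => x.1.1) h
      have h2 : s = s' := congrArg (fun x => x.2.1) h
      subst h2
      have h3 : t = t' := mul_left_cancel h1
      subst h3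
      rfl
    refine h1.trans ?_
    rw [Nat.card_sigma]
    have h2 : ∀ g : {g : G // ∀ x : Ω, g • x ≠ x}, Nat.card {s : G // s * s = 1 ∧ s ≠ 1 ∧ s * g.1 * s = (g.1)⁻¹} ≤ Nat.card (EE G a b) + 2 := by
      rintro ⟨g, hg⟩
      show Nat.card {s : G // s * s = 1 ∧ s ≠ 1 ∧ s * g * s = g⁻¹} ≤ Nat.card (EE G a b) + 2
      by_cases hne : Nonempty {s : G // s * s = 1 ∧ s ≠ 1 ∧ s * g * s = g⁻¹}
      · obtain ⟨s, hs, hs1, hsg⟩ := hne
        obtain ⟨c, hc⟩ := D.exists_center hs hs1
        have T : TD g s c := ⟨hg, hs, hs1, hsg, hc⟩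
        rw [← D.tor_card T]
        have e2 : s * g⁻¹ = g * s := by
          calc s * g⁻¹ = s * (s * g * s) := by rw [hsg]
            _ = (s * s) * g * s := by group
            _ = g * s := by rw [hs, one_mul]
        apply Nat.card_le_card_of_injective (fun z : {s : G // s * s = 1 ∧ s ≠ 1 ∧ s * g * s = g⁻¹} => (⟨s * z.1, by
          show s * z.1 * g = g * (s * z.1)
          have e1 : z.1 * g = g⁻¹ * z.1 := by
            calc z.1 * g = z.1 * g * (z.1 * z.1) := by rw [z.2.1, mul_one]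
              _ = (z.1 * g * z.1) * z.1 := by group
              _ = g⁻¹ * z.1 := by rw [z.2.2.2]
          rw [mul_assoc, e1, ← mul_assoc, e2, mul_assoc]⟩ : Tor g))
        intro z z' h
        have h3 : s * z.1 = s * z'.1 := congrArg Subtype.val h
        exact Subtype.ext (mul_left_cancel h3)
      · rw [not_nonempty_iff] at hne
        rw [Nat.card_of_isEmpty]
        omega
    calc _ ≤ ∑ g : {g : G // ∀ x : Ω, g • x ≠ x}, (Nat.card (EE G a b) + 2) := Finset.sum_le_sum fun g _ => h2 g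
      _ = _ := by rw [Finset.sum_const, smul_eq_mul, Finset.card_univ, ← Nat.card_eq_fintype_card (α := {g : G // ∀ x : Ω, g • x ≠ x})]
  have hF := D.toDatO.toDat.count_fpf
  have hG := D.toDatO.toDat.card_G
  rw [← D.hcard] at hG
  have hG' : (Nat.card G : ℤ) = ((Nat.card H : ℤ) + 1) * ((Nat.card H : ℤ) * Nat.card (EE G a b)) := by rw [hG]; push_cast; ring
  have h4 := D.four_le
  have hH := D.card_H
  rw [hG'] at hF
  generalize Nat.card (Σ s : {s : G // orderOf s = 2}, {t : G // orderOf t = 2 ∧ ∀ x : Ω, (s.1 * t) • x ≠ x}) = S at *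
  generalize Nat.card {g : G // ∀ x : Ω, g • x ≠ x} = F at *
  generalize Nat.card (EE G a b) = e at *
  generalize Nat.card H = h at *
  have hbig : 4 * (e + 1) ≤ h := by
    rcases hH with hH | hH
    · rw [hH, pow_two]; exact Nat.mul_le_mul_right _ h4
    · rw [hH, pow_succ, pow_two]
      calc 4 * (e + 1) ≤ (e + 1) * (e + 1) := Nat.mul_le_mul_right _ h4
        _ = (e + 1) * (e + 1) * 1 := by ring
        _ ≤ (e + 1) * (e + 1) * (e + 1) := Nat.mul_le_mul_left _ (by omega)
  have h5 : e * (h + 1) * (h * (e + 1)) ≤ 2 * (F * (e + 2)) := hS1.trans (Nat.mul_le_mul_left 2 hS2)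
  have h6 : (e : ℤ) * (h + 1) * (h * (e + 1)) ≤ 2 * (F * (e + 2)) := by exact_mod_cast h5
  have h7 : (2 * F : ℤ) = (h + 1) * (h * e) - h * (h - 1) := by linarith
  have h8 : (e : ℤ) * (h + 1) * (h * (e + 1)) ≤ ((h + 1) * (h * e) - h * (h - 1)) * (e + 2) := by
    rw [← h7]; linarith
  have h9 : (h : ℤ) * ((h - 1) * (e + 2)) ≤ h * ((h + 1) * e) := by nlinarith
  have hpos : (0 : ℤ) < h := by
    have : 0 < h := by omega
    exact_mod_cast this
  have h10 := le_of_mul_le_mul_left h9 hpos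
  have h11 : (h : ℤ) ≤ e + 1 := by nlinarith
  have h12 : h ≤ e + 1 := by exact_mod_cast h11
  omega

end DatB
end CfsgLib.Zas
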