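import Cfsg.Agent.EqBase
import Cfsg.Agent.LibZas25
/-!
# Zassenhaus groups XXVI: simple Zassenhaus groups (helper16)
-/
set_option autoImplicit false
set_option linter.all false
open Cfsg MulAction
open scoped Pointwise
namespace CfsgLib.Zas

universe u v

theorem order_arith {e h n : ℕ} (h4 : 4 ≤ e + 1) (hn : e + 1 = 2 ^ n) (hh : h = (e + 1) ^ 2 ∨ h = (e + 1) ^ 3) (h5 : 5 ∣ h + 1) (h3 : ¬ 3 ∣ e) :
    h = (e + 1) ^ 2 ∧ ∃ m, 1 ≤ m ∧ e + 1 = 2 ^ (2 * m + 1) := by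
  obtain ⟨m, hm⟩ : ∃ m, n = 2 * m + 1 := by
    rcases Nat.even_or_odd n with hev | hodd
    · exfalso
      obtain ⟨k, hk⟩ := hev
      apply h3
      have h6 : e + 1 = 4 ^ k := by rw [hn, hk, ← two_mul, pow_mul]; norm_num
      have h7 : (4 ^ k) % 3 = 1 := by rw [Nat.pow_mod]; simp
      omega
    · exact hodd
  have hm1 : 1 ≤ m := by
    by_contra hcon
    have : m = 0 := by omega
    rw [hm, this] at hn
    norm_num at hn
    omega
  refine ⟨?_, m, hm1, by rw [hn, hm]⟩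
  rcases hh with hh | hh
  · exact hh
  exfalso
  rw [hh, hn, hm, ← pow_mul] at h5
  have h6 : 2 ^ ((2 * m + 1) * 3) = 64 ^ m * 8 := by
    rw [show (2 * m + 1) * 3 = 6 * m + 3 by ring, pow_add, pow_mul]; norm_num
  rw [h6] at h5
  have h7 : (64 ^ m * 8 + 1) % 5 = 0 := Nat.mod_eq_zero_of_dvd h5
  rcases Nat.even_or_odd m with ⟨k, hk⟩ | ⟨k, hk⟩
  · have h8 : 64 ^ m = 4096 ^ k := by rw [hk, ← two_mul, pow_mul]; norm_num
    have h9 : (4096 ^ k) % 5 = 1 := by rw [Nat.pow_mod]; simp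
    omega
  · have h8 : 64 ^ m = 4096 ^ k * 64 := by rw [hk, pow_add, pow_mul]; norm_num
    have h9 : (4096 ^ k) % 5 = 1 := by rw [Nat.pow_mod]; simp
    omega

theorem Dat.toS {G : Type u} {Ω : Type v} [Group G] [MulAction G Ω] [Finite G] [Fintype Ω] {a b : Ω} {H : Subgroup G} (D : Dat G Ω a b H)
    (hS : IsSimpleGroup G) (h2 : IsPGroup 2 H) (hna : ∃ x y : H, x * y ≠ y * x) : DatS G Ω a b H := by
  have hodd : Odd (Nat.card (EE G a b)) := by
    rcases D.dich with h | ⟨h, -⟩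
    · exfalso
      obtain ⟨x, y, hxy⟩ := hna
      exact hxy (Subtype.ext ((D.big_elem h).1 x x.2 y y.2))
    · exact h
  have D' := D.toO hS hodd
  exact { D' with h2 := h2, hna := hna }

namespace DatS
variable {G : Type u} {Ω : Type v} [Group G] [MulAction G Ω]
variable [Finite G] [Fintype Ω] {a b : Ω} {H : Subgroup G} (D : DatS G Ω a b H)
include D

theorem order : Nat.card H = (Nat.card (EE G a b) + 1) ^ 2 ∧ ∃ m, 1 ≤ m ∧ Nat.card (EE G a b) + 1 = 2 ^ (2 * m + 1) := by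
  obtain ⟨t, ht⟩ := two_trans D.hZ D.hab D.hab.symm
  obtain ⟨z₀, u, hz, hz1, hu, h⟩ := D.exists_tzu ht
  rcases D.two_cases ht hz hz1 hu h with ⟨-, h3⟩ | ⟨huz, h5⟩
  · exact (D.toB ht hz hz1 h3).absurd_B.elim
  · obtain ⟨h6, h7⟩ := D.case_five ht hz hz1 hu h huz h5
    obtain ⟨n, hn⟩ := D.exists_n
    exact order_arith D.four_le hn D.card_H h6 h7

theorem suzuki (hS : IsSimpleGroup G) : IsSuzuki G := by
  obtain ⟨h1, m, hm, h2⟩ := D.order
  refine ⟨hS, m, hm, ?_⟩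
  rw [D.card_G, ← D.hcard, h1, h2, ← h2, Nat.add_sub_cancel]
  ring

theorem typeA : ∃ (F : Type) (_ : Field F) (_ : Fintype F) (φ : F ≃+* F), Fintype.card F = Nat.card (EE G a b) + 1 ∧
    Nonempty (H ≃* suzukiTypeA F (φ : F →+* F)) := by
  obtain ⟨iK, iA, S, -, -⟩ := D.exists_suz D.h2
  have h1 : Nat.card S.Z = Nat.card (EE G a b) + 1 := by
    rw [← D.card_Z0]
    apply Nat.card_congr
    exact
      { toFun := fun x => ⟨(x : H), congrArg Subtype.val x.2, D.hHa (x : H).2⟩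
        invFun := fun x => ⟨⟨x.1, D.Z0_le x.2⟩, Subtype.ext x.2.1⟩
        left_inv := fun x => rfl
        right_inv := fun x => rfl }
  obtain ⟨F, iF, iFF, φ, hF, -, -, hiso⟩ := S.typeA D.hna (by rw [h1]; exact D.order.1)
  exact ⟨F, iF, iFF, φ, by rw [hF, h1], hiso⟩

end DatS

/-- simple Zassenhaus groups -/
theorem simple_zassenhaus {G : Type u} {Ω : Type v} [Group G] [MulAction G Ω] [Finite G] [Finite Ω] (hZ : IsZassenhausGroup G Ω) (hS : IsSimpleGroup G) :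
    (∃ (F : Type) (_ : Field F) (_ : Fintype F), Nonempty (G ≃* Matrix.ProjectiveSpecialLinearGroup (Fin 2) F)) ∨ IsSuzuki G := by
  classical
  haveI := Fintype.ofFinite Ω
  obtain ⟨g, hg, a, b, hab, -, -⟩ := hZ.2.2.2.1
  obtain ⟨H, hHa, hcard, hfix⟩ := exists_H (a := a) hZ
  have D : Dat G Ω a b H := ⟨hZ, hab, hHa, hcard, hfix⟩
  by_cases hc : ∀ x ∈ H, ∀ y ∈ H, x * y = y * x
  · left
    obtain ⟨F, iF, iFF, -, h⟩ := D.simple_abelian hS hc
    exact ⟨F, iF, iFF, h⟩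
  · right
    push Not at hc
    obtain ⟨x, hx, y, hy, hxy⟩ := hc
    have hna : ∃ x y : H, x * y ≠ y * x := ⟨⟨x, hx⟩, ⟨y, hy⟩, fun h => hxy (congrArg Subtype.val h)⟩
    rcases D.dich with h | ⟨-, h2, -⟩
    · exact absurd ((D.big_elem h).1 x hx y hy) hxy
    · exact (D.toS hS h2 hna).suzuki hS

end CfsgLib.Zas
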