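import Cfsg.Agent.EqBase
import Cfsg.Agent.LibTZ1
import Cfsg.Agent.LibZas26
/-!
# Isolated subgroups with central involutions II (helper16): counting
-/
set_option autoImplicit false
set_option linter.all false
open Cfsg MulAction
open scoped Pointwise
namespace CfsgLib.TZ

universe u v

/-- number of involutions fixing a point -/
noncomputable def nI (G : Type u) {Ω : Type v} [Group G] [MulAction G Ω] (c : Ω) : ℕ := Nat.card {s : G // s * s = 1 ∧ s ≠ 1 ∧ s • c = c}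

namespace TZ
variable {G : Type u} {Ω : Type v} [Group G] [MulAction G Ω] [Finite G] [Fintype Ω] {a : Ω} {M : Subgroup G} (T : TZ G Ω a M)
include T

theorem nI_eq (c d : Ω) : nI G c = nI G d := by
  obtain ⟨g, hg⟩ : ∃ g : G, g • c = d := by
    obtain ⟨g, hg⟩ := T.htr c
    obtain ⟨k, hk⟩ := T.htr d
    exact ⟨k * g⁻¹, by rw [mul_smul, ← hg, inv_smul_smul, hk]⟩
  have hg' : g⁻¹ • d = c := by rw [inv_smul_eq_iff, hg]
  apply Nat.card_congr
  exact
    { toFun := fun s => ⟨g * s.1 * g⁻¹, by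
        calc g * s.1 * g⁻¹ * (g * s.1 * g⁻¹) = g * (s.1 * s.1) * g⁻¹ := by group
          _ = 1 := by rw [s.2.1]; group, by
        intro h
        apply s.2.2.1
        have : s.1 = g⁻¹ * (g * s.1 * g⁻¹) * g := by group
        rw [this, h]; group, by rw [mul_smul, hg', mul_smul, s.2.2.2, hg]⟩
      invFun := fun s => ⟨g⁻¹ * s.1 * g, by
        calc g⁻¹ * s.1 * g * (g⁻¹ * s.1 * g) = g⁻¹ * (s.1 * s.1) * g := by group
          _ = 1 := by rw [s.2.1]; group, by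
        intro h
        apply s.2.2.1
        have : s.1 = g * (g⁻¹ * s.1 * g) * g⁻¹ := by group
        rw [this, h]; group, by rw [mul_smul, hg, mul_smul, s.2.2.2, hg']⟩
      left_inv := fun s => Subtype.ext (by show g⁻¹ * (g * s.1 * g⁻¹) * g = s.1; group)
      right_inv := fun s => Subtype.ext (by show g * (g⁻¹ * s.1 * g) * g⁻¹ = s.1; group) }

theorem two_le_nI (c : Ω) : 2 ≤ nI G c := by
  rw [T.nI_eq c a]
  obtain ⟨t, ht, t', ht', htt, htt', ht1, ht1', hne⟩ := T.hinv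
  unfold nI
  have h1 : Nat.card (Fin 2) ≤ Nat.card {s : G // s * s = 1 ∧ s ≠ 1 ∧ s • a = a} := by
    apply Nat.card_le_card_of_injective (fun i : Fin 2 => if i = 0 then
      (⟨t, htt, ht1, T.hMa t ht⟩ : {s : G // s * s = 1 ∧ s ≠ 1 ∧ s • a = a}) else ⟨t', htt', ht1', T.hMa t' ht'⟩)
    intro i j h
    fin_cases i <;> fin_cases j <;> simp at h ⊢
    · exact hne h
    · exact hne h.symm
  simpa using h1

theorem stab2_le {β : Ω} (hβ : β ≠ a) : Nat.card {g : G // g • a = a ∧ g • β = β} ≤ nI G a := by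
  obtain ⟨t, ht, -, -, htt, -, ht1, -⟩ := T.hinv
  apply Nat.card_le_card_of_injective (fun g : {g : G // g • a = a ∧ g • β = β} =>
    (⟨g.1 * t * (g.1)⁻¹, by
      calc g.1 * t * (g.1)⁻¹ * (g.1 * t * (g.1)⁻¹) = g.1 * (t * t) * (g.1)⁻¹ := by group
        _ = 1 := by rw [htt]; group, by
      intro h
      apply ht1
      have : t = (g.1)⁻¹ * (g.1 * t * (g.1)⁻¹) * g.1 := by group
      rw [this, h]; group, T.hMa _ (T.hnorm g.1 g.2.1 t ht)⟩ : {s : G // s * s = 1 ∧ s ≠ 1 ∧ s • a = a}))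
  rintro ⟨g, hga, hgb⟩ ⟨k, hka, hkb⟩ h
  have h1 : g * t * g⁻¹ = k * t * k⁻¹ := congrArg Subtype.val h
  have h2 : (k⁻¹ * g) * t = t * (k⁻¹ * g) := by
    calc (k⁻¹ * g) * t = k⁻¹ * (g * t * g⁻¹) * g := by group
      _ = k⁻¹ * (k * t * k⁻¹) * g := by rw [h1]
      _ = t * (k⁻¹ * g) := by group
  have h3 := T.hC t ht ht1 _ h2
  by_contra hne
  apply hβ
  refine T.hfix _ h3 ?_ β ?_
  · intro h4
    exact hne (Subtype.ext (inv_mul_eq_one.mp h4).symm)
  · rw [mul_smul, hgb, inv_smul_eq_iff, hkb]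

omit T [Fintype Ω] in
theorem swap_le {α β : Ω} : Nat.card {s : G // s * s = 1 ∧ s ≠ 1 ∧ s • α = β} ≤ Nat.card {g : G // g • α = α ∧ g • β = β} := by
  by_cases hne : Nonempty {s : G // s * s = 1 ∧ s ≠ 1 ∧ s • α = β}
  · obtain ⟨s₀, h0, -, h2⟩ := hne
    have h0' : ∀ s : G, s * s = 1 → s • α = β → s • β = α := by
      intro s hs hsa
      rw [← hsa, ← mul_smul, hs, one_smul]
    apply Nat.card_le_card_of_injective (fun s : {s : G // s * s = 1 ∧ s ≠ 1 ∧ s • α = β} =>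
      (⟨s₀ * s.1, by rw [mul_smul, s.2.2.2, h0' s₀ h0 h2], by rw [mul_smul, h0' s.1 s.2.1 s.2.2.2, h2]⟩ : {g : G // g • α = α ∧ g • β = β}))
    intro s s' h
    exact Subtype.ext (mul_left_cancel (congrArg Subtype.val h : s₀ * s.1 = s₀ * s'.1))
  · rw [not_nonempty_iff] at hne
    rw [Nat.card_of_isEmpty]
    exact Nat.zero_le _

theorem sum_swap [DecidableEq Ω] : ∑ β : {β : Ω // β ≠ a}, Nat.card {s : G // s * s = 1 ∧ s ≠ 1 ∧ s • a = (β : Ω)} = ∑ β : {β : Ω // β ≠ a}, nI G a := by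
  classical
  have e1 : {s : G // s * s = 1 ∧ s ≠ 1 ∧ s • a ≠ a} ≃ (Σ β : {β : Ω // β ≠ a}, {s : G // s * s = 1 ∧ s ≠ 1 ∧ s • a = (β : Ω)}) :=
    { toFun := fun s => ⟨⟨s.1 • a, s.2.2.2⟩, ⟨s.1, s.2.1, s.2.2.1, rfl⟩⟩
      invFun := fun p => ⟨p.2.1, p.2.2.1, p.2.2.2.1, fun h => p.1.2 (p.2.2.2.2.symm.trans h)⟩
      left_inv := fun s => rfl
      right_inv := fun p => by
        rcases p with ⟨⟨β, hβ⟩, ⟨s, h1, h2, h3⟩⟩
        dsimp only at h3
        subst h3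
        rfl }
  have hex : ∀ s : {s : G // s * s = 1 ∧ s ≠ 1 ∧ s • a ≠ a}, ∃ c : Ω, s.1 • c = c := fun s => T.exists_fix s.2.1 s.2.2.1
  have e2 : {s : G // s * s = 1 ∧ s ≠ 1 ∧ s • a ≠ a} ≃ (Σ β : {β : Ω // β ≠ a}, {s : G // s * s = 1 ∧ s ≠ 1 ∧ s • (β : Ω) = (β : Ω)}) :=
    { toFun := fun s => ⟨⟨(hex s).choose, fun h => s.2.2.2 (by
        have h5 := (hex s).choose_spec
        rw [h] at h5
        exact h5)⟩, ⟨s.1, s.2.1, s.2.2.1, (hex s).choose_spec⟩⟩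
      invFun := fun p => ⟨p.2.1, p.2.2.1, p.2.2.2.1, fun h => p.1.2 (T.fix_unique p.2.2.1 p.2.2.2.1 h p.2.2.2.2)⟩
      left_inv := fun s => rfl
      right_inv := fun p => by
        rcases p with ⟨⟨β, hβ⟩, ⟨s, h1, h2, h3⟩⟩
        dsimp only at h3
        have hs : s • a ≠ a := fun h => hβ (T.fix_unique h1 h2 h h3)
        have h4 : (hex ⟨s, h1, h2, hs⟩).choose = β := T.fix_unique h1 h2 h3 (hex ⟨s, h1, h2, hs⟩).choose_spec
        generalize hc : (hex ⟨s, h1, h2, hs⟩).choose = c at h4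
        subst h4
        subst hc
        rfl }
  rw [← Nat.card_sigma, ← Nat.card_congr e1, Nat.card_congr e2, Nat.card_sigma]
  apply Finset.sum_congr rfl
  intro β _
  exact T.nI_eq _ _

theorem swap_card {β : Ω} (hβ : β ≠ a) : Nat.card {s : G // s * s = 1 ∧ s ≠ 1 ∧ s • a = β} = nI G a := by
  classical
  have h1 : ∀ β : {β : Ω // β ≠ a}, Nat.card {s : G // s * s = 1 ∧ s ≠ 1 ∧ s • a = (β : Ω)} ≤ nI G a := fun β => swap_le.trans (T.stab2_le β.2)
  have h2 := (Finset.sum_eq_sum_iff_of_le (fun (β : {β : Ω // β ≠ a}) (_ : β ∈ Finset.univ) => h1 β)).mp T.sum_swap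
  exact h2 ⟨β, hβ⟩ (Finset.mem_univ _)

theorem stab2_card {β : Ω} (hβ : β ≠ a) : Nat.card {g : G // g • a = a ∧ g • β = β} = nI G a :=
  le_antisymm (T.stab2_le hβ) (by rw [← T.swap_card hβ]; exact swap_le)

theorem inverts {β : Ω} (hβ : β ≠ a) {s d : G} (hs : s * s = 1) (hs1 : s ≠ 1) (hsa : s • a = β) (hda : d • a = a) (hdb : d • β = β) : s * d * s = d⁻¹ := by
  classical
  have hsb : s • β = a := by rw [← hsa, ← mul_smul, hs, one_smul]
  let f : {s : G // s * s = 1 ∧ s ≠ 1 ∧ s • a = β} → {g : G // g • a = a ∧ g • β = β} := fun r =>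
    ⟨s * r.1, by rw [mul_smul, r.2.2.2, hsb], by
      have : r.1 • β = a := by
        have h1 : r.1 • r.1 • a = r.1 • β := congrArg (fun x => r.1 • x) r.2.2.2
        rw [← h1, ← mul_smul, r.2.1, one_smul]
      rw [mul_smul, this, hsa]⟩
  have hf : Function.Injective f := by
    intro r r' h
    exact Subtype.ext (mul_left_cancel (congrArg Subtype.val h : s * r.1 = s * r'.1))
  have hsurj : Function.Surjective f := ((Nat.bijective_iff_injective_and_card f).mpr ⟨hf, by rw [T.swap_card hβ, T.stab2_card hβ]⟩).2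
  obtain ⟨⟨r, hr, hr1, hr2⟩, h⟩ := hsurj ⟨d, hda, hdb⟩
  have h1 : s * r = d := congrArg Subtype.val h
  rw [← h1, mul_inv_rev, inv_eq_of_mul_eq_one_left hs, inv_eq_of_mul_eq_one_left hr]
  calc s * (s * r) * s = (s * s) * r * s := by group
    _ = r * s := by rw [hs, one_mul]

theorem swap_card' {γ δ : Ω} (h : γ ≠ δ) : Nat.card {s : G // s * s = 1 ∧ s ≠ 1 ∧ s • γ = δ} = nI G a := by
  obtain ⟨M', T'⟩ := T.at_pt γ
  rw [T'.swap_card h.symm]
  exact T.nI_eq _ _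

theorem stab2_card' {γ δ : Ω} (h : γ ≠ δ) : Nat.card {g : G // g • γ = γ ∧ g • δ = δ} = nI G a := by
  obtain ⟨M', T'⟩ := T.at_pt γ
  rw [T'.stab2_card h.symm]
  exact T.nI_eq _ _

theorem inverts' {γ δ : Ω} (h : γ ≠ δ) {s d : G} (hs : s * s = 1) (hs1 : s ≠ 1) (hsa : s • γ = δ) (hda : d • γ = γ) (hdb : d • δ = δ) : s * d * s = d⁻¹ := by
  obtain ⟨M', T'⟩ := T.at_pt γ
  exact T'.inverts h.symm hs hs1 hsa hda hdb

theorem sq_ne {d : G} (hd : d ≠ 1) {γ δ : Ω} (h : γ ≠ δ) (hγ : d • γ = γ) (hδ : d • δ = δ) : d * d ≠ 1 := by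
  intro h1
  exact h (T.fix_unique h1 hd hδ hγ)

/-- an involution inverting `d` moves the fixed points of `d` -/
theorem moves {d : G} (hd : d ≠ 1) {γ δ x : Ω} (h : γ ≠ δ) (hγ : d • γ = γ) (hδ : d • δ = δ) (hx : d • x = x) {s : G} (hs : s * s = 1) (hs1 : s ≠ 1)
    (hsd : s * d * s = d⁻¹) : s • x ≠ x := by
  intro hsx
  obtain ⟨M', T'⟩ := T.at_pt x
  have h1 := T'.inv_mem hs hs1 hsx
  have h2 := T'.hnorm d hx s h1
  have h3 : (d * d)⁻¹ ∈ M' := by
    have h4 : (d * d)⁻¹ = s * (d * s * d⁻¹) := by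
      rw [mul_inv_rev]
      nth_rewrite 1 [← hsd]
      group
    rw [h4]
    exact M'.mul_mem h1 h2
  have h4 : d * d ∈ M' := by
    have := M'.inv_mem h3
    rwa [inv_inv] at this
  have h5 : ∀ y : Ω, d • y = y → y = x := fun y hy => T'.hfix _ h4 (T.sq_ne hd h hγ hδ) y (by rw [mul_smul, hy, hy])
  exact h ((h5 γ hγ).trans (h5 δ hδ).symm)

end TZ
end CfsgLib.TZ
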