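import Cfsg.Agent.EqBase
import Cfsg.Agent.LibTZ2
/-!
# Isolated subgroups with central involutions III (helper16): Zassenhaus groups
-/
set_option autoImplicit false
set_option linter.all false
open Cfsg MulAction
open scoped Pointwise
namespace CfsgLib.TZ

universe u v

theorem even_of_involutive {X : Type v} [Fintype X] (f : X → X) (hf : ∀ x, f (f x) = x) (hne : ∀ x, f x ≠ x) : Even (Fintype.card X) := by
  classical
  have h1 : ∑ x : X, (1 : ZMod 2) = 0 := Finset.sum_involution (fun x _ => f x) (fun x _ => by decide) (fun x _ _ => hne x) (fun x _ => Finset.mem_univ _) (fun x _ => hf x)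
  rw [Finset.sum_const, Finset.card_univ, nsmul_eq_mul, mul_one] at h1
  exact (ZMod.natCast_eq_zero_iff_even).mp h1

namespace TZ
variable {G : Type u} {Ω : Type v} [Group G] [MulAction G Ω] [Finite G] [Fintype Ω] {a : Ω} {M : Subgroup G} (T : TZ G Ω a M)
include T

/-- nontrivial elements fixing two points fix exactly two points -/
theorem two_fix {d : G} (hd : d ≠ 1) {γ δ : Ω} (hγδ : γ ≠ δ) (hγ : d • γ = γ) (hδ : d • δ = δ) {ε : Ω} (hε : d • ε = ε) : ε = γ ∨ ε = δ := by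
  classical
  by_contra hcon
  push Not at hcon
  obtain ⟨e, he⟩ : ∃ e, e = nI G a := ⟨_, rfl⟩
  have he2 : 2 ≤ e := he ▸ T.two_le_nI a
  -- the fixed points
  let F := {x : Ω // d • x = x}
  obtain ⟨f, hf⟩ : ∃ f, f = Fintype.card F := ⟨_, rfl⟩
  have hf3 : 3 ≤ f := by
    have h1 : Fintype.card (Fin 3) ≤ Fintype.card F := by
      apply Fintype.card_le_of_injective (fun i : Fin 3 => (![⟨γ, hγ⟩, ⟨δ, hδ⟩, ⟨ε, hε⟩] : Fin 3 → F) i)
      intro i j h
      fin_cases i <;> fin_cases j <;> simp [Subtype.ext_iff] at h ⊢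
      · exact hγδ (congrArg Subtype.val h)
      · exact hcon.1 (congrArg Subtype.val h).symm
      · exact hγδ (congrArg Subtype.val h).symm
      · exact hcon.2 (congrArg Subtype.val h).symm
      · exact hcon.1 (congrArg Subtype.val h)
      · exact hcon.2 (congrArg Subtype.val h)
    rw [hf]; simpa using h1
  -- involutions inverting `d`
  let I := {s : G // s * s = 1 ∧ s ≠ 1 ∧ s * d * s = d⁻¹}
  have hI : (f - 1) * e ≤ Nat.card I := by
    have h1 : Nat.card (Σ y : {y : F // y ≠ ⟨γ, hγ⟩}, {s : G // s * s = 1 ∧ s ≠ 1 ∧ s • γ = (y.1 : Ω)}) = (f - 1) * e := by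
      rw [Nat.card_sigma]
      have h2 : ∀ y : {y : F // y ≠ ⟨γ, hγ⟩}, Nat.card {s : G // s * s = 1 ∧ s ≠ 1 ∧ s • γ = (y.1 : Ω)} = e := by
        intro y
        rw [he]
        exact T.swap_card' (fun h => y.2 (Subtype.ext h.symm))
      rw [Finset.sum_congr rfl fun y _ => h2 y, Finset.sum_const, smul_eq_mul, Finset.card_univ, Fintype.card_subtype_compl, Fintype.card_subtype_eq, hf]
    rw [← h1]
    apply Nat.card_le_card_of_injective (fun p : (Σ y : {y : F // y ≠ ⟨γ, hγ⟩}, {s : G // s * s = 1 ∧ s ≠ 1 ∧ s • γ = (y.1 : Ω)}) =>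
      (⟨p.2.1, p.2.2.1, p.2.2.2.1, T.inverts' (fun h => p.1.2 (Subtype.ext h.symm)) p.2.2.1 p.2.2.2.1 p.2.2.2.2 hγ p.1.1.2⟩ : I))
    rintro ⟨⟨⟨y, hy⟩, hy1⟩, ⟨s, hs⟩⟩ ⟨⟨⟨y', hy'⟩, hy1'⟩, ⟨s', hs'⟩⟩ h
    have h2 : s = s' := congrArg Subtype.val h
    subst h2
    have h3 : y = y' := by
      have e1 : s • γ = y := hs.2.2
      have e2 : s • γ = y' := hs'.2.2
      rw [← e1, e2]
    subst h3
    rfl
  -- centralizer of `d`
  have hId : Nat.card I ≤ Nat.card (Zas.Tor d) := by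
    have hpos : 0 < Nat.card I := by
      have : 0 < (f - 1) * e := Nat.mul_pos (by omega) (by omega)
      omega
    obtain ⟨⟨s₀, h0, h01, h02⟩⟩ := (Nat.card_pos_iff.mp hpos).1
    have e2 : s₀ * d⁻¹ = d * s₀ := by
      calc s₀ * d⁻¹ = s₀ * (s₀ * d * s₀) := by rw [h02]
        _ = (s₀ * s₀) * d * s₀ := by group
        _ = d * s₀ := by rw [h0, one_mul]
    apply Nat.card_le_card_of_injective (fun z : I => (⟨s₀ * z.1, by
      show s₀ * z.1 * d = d * (s₀ * z.1)
      have e1 : z.1 * d = d⁻¹ * z.1 := by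
        calc z.1 * d = z.1 * d * (z.1 * z.1) := by rw [z.2.1, mul_one]
          _ = (z.1 * d * z.1) * z.1 := by group
          _ = d⁻¹ * z.1 := by rw [z.2.2.2]
      rw [mul_assoc, e1, ← mul_assoc, e2, mul_assoc]⟩ : Zas.Tor d))
    intro z z' h
    exact Subtype.ext (mul_left_cancel (congrArg Subtype.val h : s₀ * z.1 = s₀ * z'.1))
  have hoddC : Odd (Nat.card (Zas.Tor d)) := by
    rw [← Nat.not_even_iff_odd]
    intro hev
    obtain ⟨u, hu, hu2⟩ := CfsgLib.Invol.exists_involution_mem hev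
    have huu := CfsgLib.Invol.mul_self hu2
    have hu1 := CfsgLib.Invol.ne_one hu2
    obtain ⟨c, hc⟩ := T.exists_fix huu hu1
    obtain ⟨M', T'⟩ := T.at_pt c
    have h1 := T'.inv_mem huu hu1 hc
    have h2 := T'.hC u h1 hu1 d hu.symm
    exact hγδ ((T'.hfix d h2 hd γ hγ).trans (T'.hfix d h2 hd δ hδ).symm)
  have hfev : Even f := by
    have hpos : 0 < Nat.card I := by
      have : 0 < (f - 1) * e := Nat.mul_pos (by omega) (by omega)
      omega
    obtain ⟨⟨s₀, h0, h01, h02⟩⟩ := (Nat.card_pos_iff.mp hpos).1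
    rw [hf]
    refine even_of_involutive (fun x : F => (⟨s₀ • (x : Ω), ?_⟩ : F)) ?_ ?_
    · have hx : d⁻¹ • (x : Ω) = x := by rw [inv_smul_eq_iff]; exact x.2.symm
      have e1 : d * s₀ = s₀ * d⁻¹ := by
        calc d * s₀ = (s₀ * s₀) * d * s₀ := by rw [h0, one_mul]
          _ = s₀ * (s₀ * d * s₀) := by group
          _ = s₀ * d⁻¹ := by rw [h02]
      rw [← mul_smul, e1, mul_smul, hx]
    · intro x
      exact Subtype.ext (by show s₀ • s₀ • (x : Ω) = x; rw [← mul_smul, h0, one_smul])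
    · intro x hx
      exact T.moves hd hγδ hγ hδ x.2 h0 h01 h02 (congrArg Subtype.val hx)
  -- orbits of the centralizer
  have horb : ∀ x : Ω, d • x = x → f - 1 ≤ Nat.card (orbit (Zas.Tor d) x) ∧ Nat.card (orbit (Zas.Tor d) x) ∣ Nat.card (Zas.Tor d) := by
    intro x hx
    have h1 : Nat.card (Zas.Tor d) = Nat.card (orbit (Zas.Tor d) x) * Nat.card (stabilizer (Zas.Tor d) x) := by
      rw [Subgroup.card_eq_card_quotient_mul_card_subgroup (stabilizer (Zas.Tor d) x)]
      congr 1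
      exact (Nat.card_congr (orbitEquivQuotientStabilizer (Zas.Tor d) x)).symm
    have h2 : Nat.card (stabilizer (Zas.Tor d) x) ≤ e := by
      rw [he, T.nI_eq a x]
      obtain ⟨M', T'⟩ := T.at_pt x
      obtain ⟨t, ht, -, -, htt, -, ht1, -⟩ := T'.hinv
      have hstab : ∀ g : stabilizer (Zas.Tor d) x, (g : Zas.Tor d).1 • x = x := fun g => g.2
      apply Nat.card_le_card_of_injective (fun g : stabilizer (Zas.Tor d) x =>
        (⟨(g : Zas.Tor d).1 * t * ((g : Zas.Tor d).1)⁻¹, by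
          calc (g : Zas.Tor d).1 * t * ((g : Zas.Tor d).1)⁻¹ * ((g : Zas.Tor d).1 * t * ((g : Zas.Tor d).1)⁻¹)
              = (g : Zas.Tor d).1 * (t * t) * ((g : Zas.Tor d).1)⁻¹ := by group
            _ = 1 := by rw [htt]; group, by
          intro h
          apply ht1
          have : t = ((g : Zas.Tor d).1)⁻¹ * ((g : Zas.Tor d).1 * t * ((g : Zas.Tor d).1)⁻¹) * (g : Zas.Tor d).1 := by group
          rw [this, h]; group, T'.hMa _ (T'.hnorm _ (hstab g) t ht)⟩ : {s : G // s * s = 1 ∧ s ≠ 1 ∧ s • x = x}))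
      rintro ⟨⟨g, hgd⟩, hg⟩ ⟨⟨k, hkd⟩, hk⟩ h
      have h1 : g * t * g⁻¹ = k * t * k⁻¹ := congrArg Subtype.val h
      have h2 : (k⁻¹ * g) * t = t * (k⁻¹ * g) := by
        calc (k⁻¹ * g) * t = k⁻¹ * (g * t * g⁻¹) * g := by group
          _ = k⁻¹ * (k * t * k⁻¹) * g := by rw [h1]
          _ = t * (k⁻¹ * g) := by group
      have h3 := T'.hC t ht ht1 _ h2
      by_contra hne
      have h4 : k⁻¹ * g ≠ 1 := by
        intro h5
        have h6 : k = g := inv_mul_eq_one.mp h5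
        subst h6
        exact hne rfl
      have h5 : (k⁻¹ * g) * d = d * (k⁻¹ * g) := (Zas.Tor d).mul_mem ((Zas.Tor d).inv_mem hkd) hgd
      have h6 := T'.hC _ h3 h4 d h5.symm
      exact hγδ ((T'.hfix d h6 hd γ hγ).trans (T'.hfix d h6 hd δ hδ).symm)
    refine ⟨?_, ⟨_, h1⟩⟩
    have h3 : (f - 1) * e ≤ Nat.card (orbit (Zas.Tor d) x) * e := by
      calc (f - 1) * e ≤ Nat.card (Zas.Tor d) := hI.trans hId
        _ = Nat.card (orbit (Zas.Tor d) x) * Nat.card (stabilizer (Zas.Tor d) x) := h1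
        _ ≤ _ := Nat.mul_le_mul_left _ h2
    exact Nat.le_of_mul_le_mul_right h3 (by omega)
  have hsub : ∀ x : Ω, d • x = x → ∀ y ∈ orbit (Zas.Tor d) x, d • y = y := by
    rintro x hx y ⟨⟨g, hg⟩, rfl⟩
    show d • g • x = g • x
    have hg' : g * d = d * g := hg
    rw [← mul_smul, ← hg', mul_smul, hx]
  -- the orbit of `γ` is not everything
  obtain ⟨hγ1, hγ2⟩ := horb γ hγ
  have hne : ∃ y : Ω, d • y = y ∧ y ∉ orbit (Zas.Tor d) γ := by
    by_contra hcon2
    push Not at hcon2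
    have e1 : orbit (Zas.Tor d) γ ≃ F :=
      { toFun := fun y => ⟨y.1, hsub γ hγ y.1 y.2⟩
        invFun := fun y => ⟨y.1, hcon2 y.1 y.2⟩
        left_inv := fun y => rfl
        right_inv := fun y => rfl }
    rw [Nat.card_congr e1, Nat.card_eq_fintype_card, ← hf] at hγ2
    have h2 := Odd.of_dvd_nat hoddC hγ2
    exact (Nat.not_even_iff_odd.mpr h2) hfev
  obtain ⟨y, hy, hyo⟩ := hne
  obtain ⟨hy1, -⟩ := horb y hy
  have h3 : Nat.card (orbit (Zas.Tor d) γ ⊕ orbit (Zas.Tor d) y) ≤ Nat.card F := by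
    apply Nat.card_le_card_of_injective (fun z : orbit (Zas.Tor d) γ ⊕ orbit (Zas.Tor d) y => (match z with
      | Sum.inl z => ⟨z.1, hsub γ hγ z.1 z.2⟩
      | Sum.inr z => ⟨z.1, hsub y hy z.1 z.2⟩ : F))
    have hdis : ∀ z : Ω, z ∈ orbit (Zas.Tor d) γ → z ∉ orbit (Zas.Tor d) y := by
      intro z hz hz'
      apply hyo
      rw [← orbit_eq_iff.mpr hz]
      rw [orbit_eq_iff.mpr hz']
      exact mem_orbit_self y
    rintro (z | z) (w | w) h
    · have h4 : z.1 = w.1 := congrArg (fun x : F => x.1) h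
      exact congrArg Sum.inl (Subtype.ext h4)
    · exfalso
      have h4 : z.1 = w.1 := congrArg Subtype.val h
      exact hdis z.1 z.2 (h4 ▸ w.2)
    · exfalso
      have h4 : z.1 = w.1 := congrArg Subtype.val h
      exact hdis w.1 w.2 (h4 ▸ z.2)
    · have h4 : z.1 = w.1 := congrArg (fun x : F => x.1) h
      exact congrArg Sum.inr (Subtype.ext h4)
  rw [Nat.card_sum, Nat.card_eq_fintype_card (α := F), ← hf] at h3
  omega

end TZ
end CfsgLib.TZ
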