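import Cfsg.Agent.EqBase
import Cfsg.Agent.LibTZ3
/-!
# Isolated subgroups with central involutions IV (helper16): Zassenhaus groups
-/
set_option autoImplicit false
set_option linter.all false
open Cfsg MulAction
open scoped Pointwise
namespace CfsgLib.TZ

universe u v

namespace TZ
variable {G : Type u} {Ω : Type v} [Group G] [MulAction G Ω] [Finite G] [Fintype Ω] {a : Ω} {M : Subgroup G} (T : TZ G Ω a M)
include T

theorem stab_le : Nat.card (stabilizer G a) ≤ Nat.card M * nI G a := by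
  classical
  haveI := Fintype.ofFinite G
  obtain ⟨t, ht, -, -, htt, -, ht1, -⟩ := T.hinv
  let f : stabilizer G a → {s : G // s * s = 1 ∧ s ≠ 1 ∧ s • a = a} := fun g =>
    ⟨(g : G) * t * (g : G)⁻¹, by
      calc (g : G) * t * (g : G)⁻¹ * ((g : G) * t * (g : G)⁻¹) = (g : G) * (t * t) * (g : G)⁻¹ := by group
        _ = 1 := by rw [htt]; group, by
      intro h
      apply ht1
      have : t = (g : G)⁻¹ * ((g : G) * t * (g : G)⁻¹) * (g : G) := by group
      rw [this, h]; group, T.hMa _ (T.hnorm _ g.2 t ht)⟩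
  have e := Equiv.sigmaFiberEquiv f
  rw [← Nat.card_congr e, Nat.card_sigma]
  have h1 : ∀ s : {s : G // s * s = 1 ∧ s ≠ 1 ∧ s • a = a}, Nat.card {g // f g = s} ≤ Nat.card M := by
    intro s
    by_cases hne : Nonempty {g // f g = s}
    · obtain ⟨g₀, hg₀⟩ := hne
      apply Nat.card_le_card_of_injective (fun g : {g // f g = s} => (⟨(g₀ : G)⁻¹ * (g.1 : G), by
        apply T.hC t ht ht1
        have h2 : (g₀ : G) * t * (g₀ : G)⁻¹ = (g.1 : G) * t * (g.1 : G)⁻¹ := congrArg Subtype.val (hg₀.trans g.2.symm)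
        calc (g₀ : G)⁻¹ * (g.1 : G) * t = (g₀ : G)⁻¹ * ((g.1 : G) * t * (g.1 : G)⁻¹) * g.1 := by group
          _ = (g₀ : G)⁻¹ * ((g₀ : G) * t * (g₀ : G)⁻¹) * g.1 := by rw [h2]
          _ = t * ((g₀ : G)⁻¹ * (g.1 : G)) := by group⟩ : M))
      intro g g' h
      have h2 : (g₀ : G)⁻¹ * (g.1 : G) = (g₀ : G)⁻¹ * (g'.1 : G) := congrArg (fun x : M => x.1) h
      exact Subtype.ext (Subtype.ext (mul_left_cancel h2))
    · rw [not_nonempty_iff] at hne
      rw [Nat.card_of_isEmpty]
      exact Nat.zero_le _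
  calc ∑ s : {s : G // s * s = 1 ∧ s ≠ 1 ∧ s • a = a}, Nat.card {g // f g = s} ≤ ∑ s : {s : G // s * s = 1 ∧ s ≠ 1 ∧ s • a = a}, Nat.card M := Finset.sum_le_sum fun s _ => h1 s
    _ = Nat.card M * nI G a := by
      rw [Finset.sum_const, smul_eq_mul, Finset.card_univ, ← Nat.card_eq_fintype_card (α := {s : G // s * s = 1 ∧ s ≠ 1 ∧ s • a = a}), mul_comm]
      rfl

theorem card_le : Fintype.card Ω - 1 ≤ Nat.card M := by
  classical
  obtain ⟨e, he⟩ : ∃ e, e = nI G a := ⟨_, rfl⟩
  have he2 : 2 ≤ e := he ▸ T.two_le_nI a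
  have hMle : M ≤ stabilizer G a := fun x hx => T.hMa x hx
  -- pairs (β, d)
  have h1 : Nat.card (Σ β : {β : Ω // β ≠ a}, {d : G // (d • a = a ∧ d • (β : Ω) = β) ∧ d ≠ 1}) = (Fintype.card Ω - 1) * (e - 1) := by
    rw [Nat.card_sigma]
    have h2 : ∀ β : {β : Ω // β ≠ a}, Nat.card {d : G // (d • a = a ∧ d • (β : Ω) = β) ∧ d ≠ 1} = e - 1 := by
      intro β
      rw [he, ← T.stab2_card β.2]
      have e1 : {d : G // (d • a = a ∧ d • (β : Ω) = β) ∧ d ≠ 1} ≃ {x : {d : G // d • a = a ∧ d • (β : Ω) = β} // x ≠ ⟨1, one_smul G a, one_smul G (β : Ω)⟩} :=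
        { toFun := fun t => ⟨⟨t.1, t.2.1⟩, fun h => t.2.2 (congrArg Subtype.val h)⟩
          invFun := fun t => ⟨t.1.1, t.1.2, fun h => t.2 (Subtype.ext h)⟩
          left_inv := fun t => rfl
          right_inv := fun t => rfl }
      haveI := Fintype.ofFinite G
      rw [Nat.card_congr e1, Nat.card_eq_fintype_card, Nat.card_eq_fintype_card, Fintype.card_subtype_compl, Fintype.card_subtype_eq]
    rw [Finset.sum_congr rfl fun β _ => h2 β, Finset.sum_const, smul_eq_mul, Finset.card_univ, Fintype.card_subtype_compl, Fintype.card_subtype_eq]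
  have h2 : Nat.card (M ⊕ (Σ β : {β : Ω // β ≠ a}, {d : G // (d • a = a ∧ d • (β : Ω) = β) ∧ d ≠ 1})) ≤ Nat.card (stabilizer G a) := by
    apply Nat.card_le_card_of_injective (fun z : M ⊕ (Σ β : {β : Ω // β ≠ a}, {d : G // (d • a = a ∧ d • (β : Ω) = β) ∧ d ≠ 1}) => (match z with
      | Sum.inl x => ⟨x.1, T.hMa x.1 x.2⟩
      | Sum.inr p => ⟨p.2.1, p.2.2.1.1⟩ : stabilizer G a))
    rintro (x | ⟨⟨β, hβ⟩, ⟨d, ⟨hda, hdb⟩, hd1⟩⟩) (y | ⟨⟨β', hβ'⟩, ⟨d', ⟨hda', hdb'⟩, hd1'⟩⟩) h
    · have h4 : x.1 = y.1 := congrArg (fun x : stabilizer G a => x.1) h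
      exact congrArg Sum.inl (Subtype.ext h4)
    · exfalso
      have h4 : x.1 = d' := congrArg (fun x : stabilizer G a => x.1) h
      exact hβ' (T.hfix d' (h4 ▸ x.2) hd1' β' hdb')
    · exfalso
      have h4 : d = y.1 := congrArg (fun x : stabilizer G a => x.1) h
      exact hβ (T.hfix d (h4 ▸ y.2) hd1 β hdb)
    · have h4 : d = d' := congrArg (fun x : stabilizer G a => x.1) h
      subst h4
      dsimp only at hdb hdb'
      rcases T.two_fix hd1 (Ne.symm hβ) hda hdb hdb' with h5 | h5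
      · exact absurd h5 hβ'
      · subst h5; rfl
  rw [Nat.card_sum, h1] at h2
  have h3 := T.stab_le
  rw [← he] at h3
  have h4 : Nat.card M + (Fintype.card Ω - 1) * (e - 1) ≤ Nat.card M + Nat.card M * (e - 1) := by
    calc Nat.card M + (Fintype.card Ω - 1) * (e - 1) ≤ Nat.card M * e := h2.trans h3
      _ = Nat.card M + Nat.card M * (e - 1) := by
        obtain ⟨k, rfl⟩ : ∃ k, e = k + 1 := ⟨e - 1, by omega⟩
        rw [Nat.add_sub_cancel]; ring
  exact Nat.le_of_mul_le_mul_right (Nat.le_of_add_le_add_left h4) (by omega)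

theorem card_M : Nat.card M + 1 = Fintype.card Ω := by
  classical
  obtain ⟨b, hb⟩ := T.hb
  have h1 : Nat.card M ≤ Nat.card {x : Ω // x ≠ a} := by
    apply Nat.card_le_card_of_injective (fun x : M => (⟨(x : G) • b, fun h => hb (MulAction.injective (x : G) (h.trans (T.hMa x x.2).symm))⟩ : {x : Ω // x ≠ a}))
    intro x y h
    have h2 : (x : G) • b = (y : G) • b := congrArg (fun x : {x : Ω // x ≠ a} => x.1) h
    have h3 : ((y : G)⁻¹ * x) • b = b := by rw [mul_smul, h2, inv_smul_smul]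
    by_contra hne
    have h4 : (y : G)⁻¹ * x ≠ 1 := fun h5 => hne (Subtype.ext (inv_mul_eq_one.mp h5).symm)
    exact hb (T.hfix _ (M.mul_mem (M.inv_mem y.2) x.2) h4 b h3)
  have h2 := T.card_le
  rw [Nat.card_eq_fintype_card (α := {x : Ω // x ≠ a}), Fintype.card_subtype_compl, Fintype.card_subtype_eq] at h1
  have h3 : 0 < Fintype.card Ω := Fintype.card_pos_iff.mpr ⟨a⟩
  omega

theorem regular {c d : Ω} (hc : c ≠ a) (hd : d ≠ a) : ∃ x ∈ M, x • c = d := by
  classical
  let f : M → {x : Ω // x ≠ a} := fun x => ⟨(x : G) • c, fun h => hc (MulAction.injective (x : G) (h.trans (T.hMa x x.2).symm))⟩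
  have hf : Function.Injective f := by
    intro x y h
    have h2 : (x : G) • c = (y : G) • c := congrArg (fun x : {x : Ω // x ≠ a} => x.1) h
    have h3 : ((y : G)⁻¹ * x) • c = c := by rw [mul_smul, h2, inv_smul_smul]
    by_contra hne
    have h4 : (y : G)⁻¹ * x ≠ 1 := fun h5 => hne (Subtype.ext (inv_mul_eq_one.mp h5).symm)
    exact hc (T.hfix _ (M.mul_mem (M.inv_mem y.2) x.2) h4 c h3)
  have hcard : Nat.card M = Nat.card {x : Ω // x ≠ a} := by
    rw [Nat.card_eq_fintype_card (α := {x : Ω // x ≠ a}), Fintype.card_subtype_compl, Fintype.card_subtype_eq]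
    have := T.card_M
    omega
  obtain ⟨x, hx⟩ := ((Nat.bijective_iff_injective_and_card f).mpr ⟨hf, hcard⟩).2 ⟨d, hd⟩
  exact ⟨x, x.2, congrArg Subtype.val hx⟩

theorem three_le : 3 ≤ Nat.card M := by
  classical
  obtain ⟨t, ht, t', ht', htt, htt', ht1, ht1', hne⟩ := T.hinv
  have h1 : Nat.card (Fin 3) ≤ Nat.card M := by
    apply Nat.card_le_card_of_injective (fun i : Fin 3 => (![1, ⟨t, ht⟩, ⟨t', ht'⟩] : Fin 3 → M) i)
    intro i j h
    fin_cases i <;> fin_cases j <;> simp [Subtype.ext_iff] at h ⊢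
    · exact ht1 h.symm
    · exact ht1' h.symm
    · exact ht1 h
    · exact hne h
    · exact ht1' h
    · exact hne h.symm
  simpa using h1

/-- the Zassenhaus group -/
theorem zassenhaus : IsZassenhausGroup G Ω := by
  classical
  have h3 := T.three_le
  have hcard := T.card_M
  obtain ⟨b, hb⟩ := T.hb
  have hthree : ∀ g : G, ∀ a b c : Ω, a ≠ b → b ≠ c → a ≠ c → g • a = a → g • b = b → g • c = c → g = 1 := by
    intro g a b c hab hbc hac ha hb hc
    by_contra hg
    rcases T.two_fix hg hab ha hb hc with h | h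
    · exact hac h.symm
    · exact hbc h.symm
  refine ⟨⟨?_⟩, ?_, hthree, ?_, ?_⟩
  · intro g k hgk
    have h4 : ∀ x : Ω, (k⁻¹ * g) • x = x := by
      intro x
      rw [mul_smul, hgk, inv_smul_smul]
    have h5 : ∃ c : Ω, c ≠ a ∧ c ≠ b := by
      by_contra hcon
      push Not at hcon
      have h6 : Fintype.card Ω ≤ Fintype.card (Fin 2) := by
        apply Fintype.card_le_of_surjective (fun i : Fin 2 => if i = 0 then a else b)
        intro c
        by_cases hca : c = a
        · exact ⟨0, by simp [hca]⟩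
        · exact ⟨1, by simp [hcon c hca]⟩
      rw [Fintype.card_fin] at h6
      omega
    obtain ⟨c, hca, hcb⟩ := h5
    have h6 := hthree _ a b c hb.symm hcb.symm hca.symm (h4 a) (h4 b) (h4 c)
    exact (inv_mul_eq_one.mp h6).symm
  · rw [is_two_pretransitive_iff]
    have key : ∀ c d : Ω, c ≠ d → ∃ g : G, g • a = c ∧ g • b = d := by
      intro c d hcd
      obtain ⟨g, hg⟩ := T.htr c
      have h5 : g⁻¹ • d ≠ a := by
        intro h
        rw [inv_smul_eq_iff, hg] at h
        exact hcd h.symm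
      obtain ⟨x, hx, hxb⟩ := T.regular hb h5
      exact ⟨g * x, by rw [mul_smul, T.hMa x hx, hg], by rw [mul_smul, hxb, smul_inv_smul]⟩
    intro c d c' d' hcd hcd'
    obtain ⟨g, hg1, hg2⟩ := key c d hcd
    obtain ⟨k, hk1, hk2⟩ := key c' d' hcd'
    exact ⟨k * g⁻¹, by rw [← hg1, mul_smul, inv_smul_smul, hk1], by rw [← hg2, mul_smul, inv_smul_smul, hk2]⟩
  · have h4 := T.two_le_nI a
    rw [← T.stab2_card hb] at h4
    have h5 : ∃ x : {g : G // g • a = a ∧ g • b = b}, x ≠ ⟨1, one_smul G a, one_smul G b⟩ := by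
      by_contra hcon
      push Not at hcon
      haveI := Fintype.ofFinite G
      haveI : Subsingleton {g : G // g • a = a ∧ g • b = b} := ⟨fun x y => (hcon x).trans (hcon y).symm⟩
      have := Finite.card_le_one_iff_subsingleton.mpr (inferInstance : Subsingleton {g : G // g • a = a ∧ g • b = b})
      omega
    obtain ⟨⟨g, hga, hgb⟩, hg⟩ := h5
    exact ⟨g, fun h => hg (Subtype.ext h), a, b, hb.symm, hga, hgb⟩
  · intro R hR hRt
    by_contra hcon
    push Not at hcon
    have hRa : ∀ r ∈ R, r • a = a → r = 1 := by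
      intro r hr hra
      have h4 : (⟨r, hr⟩ : R) ∈ stabilizer R a := hra
      rw [hcon a] at h4
      exact congrArg Subtype.val (Subgroup.mem_bot.mp h4)
    obtain ⟨t, ht, t', ht', htt, htt', ht1, ht1', hne⟩ := T.hinv
    have key : ∀ t ∈ M, t * t = 1 → t ≠ 1 → ∀ r ∈ R, t * r * t = r⁻¹ := by
      intro t ht htt ht1
      have hti : t⁻¹ = t := inv_eq_of_mul_eq_one_left htt
      have htr : ∀ r ∈ R, t * r * t ∈ R := fun r hr => by
        have := hR.conj_mem r hr t
        rwa [hti] at this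
      let φ : R → R := fun x => ⟨(x : G)⁻¹ * (t * x * t), R.mul_mem (R.inv_mem x.2) (htr x x.2)⟩
      have hφ : Function.Injective φ := by
        rintro ⟨x, hx⟩ ⟨y, hy⟩ h
        have h1 : x⁻¹ * (t * x * t) = y⁻¹ * (t * y * t) := congrArg Subtype.val h
        have h2 : (y * x⁻¹) * t = t * (y * x⁻¹) := by
          calc (y * x⁻¹) * t = y * (x⁻¹ * (t * x * t)) * (t⁻¹ * x⁻¹ * t⁻¹ * t) := by group
            _ = y * (y⁻¹ * (t * y * t)) * (t⁻¹ * x⁻¹ * t⁻¹ * t) := by rw [h1]
            _ = t * (y * x⁻¹) := by group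
        have h3 := T.hC t ht ht1 _ h2
        have h4 := hRa _ (R.mul_mem hy (R.inv_mem hx)) (T.hMa _ h3)
        exact Subtype.ext (mul_inv_eq_one.mp h4).symm
      intro r hr
      obtain ⟨⟨x, hx⟩, h⟩ := Finite.injective_iff_surjective.mp hφ ⟨r, hr⟩
      have h1 : x⁻¹ * (t * x * t) = r := congrArg Subtype.val h
      rw [← h1, mul_inv_rev, mul_inv_rev, mul_inv_rev, inv_inv, hti]
      calc t * (x⁻¹ * (t * x * t)) * t = t * x⁻¹ * t * x * (t * t) := by group
        _ = t * (x⁻¹ * t) * x := by rw [htt]; group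
    obtain ⟨⟨r, hr⟩, hrb⟩ := hRt.exists_smul_eq a b
    have hrb' : r • a = b := hrb
    have hr1 : r ≠ 1 := by
      rintro rfl
      rw [one_smul] at hrb'
      exact hb hrb'.symm
    have e1 := key t ht htt ht1 r hr
    have e2 := key t' ht' htt' ht1' r⁻¹ (R.inv_mem hr)
    rw [inv_inv] at e2
    have hti : t⁻¹ = t := inv_eq_of_mul_eq_one_left htt
    have hti' : t'⁻¹ = t' := inv_eq_of_mul_eq_one_left htt'
    have e3 : r * (t' * t) = (t' * t) * r := by
      have e4 : t * r = r⁻¹ * t := by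
        calc t * r = t * r * (t * t) := by rw [htt, mul_one]
          _ = (t * r * t) * t := by group
          _ = r⁻¹ * t := by rw [e1]
      have e5 : t' * r⁻¹ = r * t' := by
        calc t' * r⁻¹ = t' * r⁻¹ * (t' * t') := by rw [htt', mul_one]
          _ = (t' * r⁻¹ * t') * t' := by group
          _ = r * t' := by rw [e2]
      calc r * (t' * t) = (r * t') * t := by group
        _ = t' * r⁻¹ * t := by rw [e5]
        _ = t' * (r⁻¹ * t) := by group
        _ = t' * (t * r) := by rw [e4]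
        _ = (t' * t) * r := by group
    have e6 : t' * t ≠ 1 := by
      intro h
      apply hne
      rw [eq_inv_of_mul_eq_one_right h, hti']
    have e7 := T.hC _ (M.mul_mem ht' ht) e6 r e3
    exact hr1 (hRa r hr (T.hMa r e7))

theorem dat : ∃ b : Ω, Zas.Dat G Ω a b M := by
  obtain ⟨b, hb⟩ := T.hb
  exact ⟨b, { hZ := T.zassenhaus, hab := hb.symm, hHa := fun x hx => T.hMa x hx, hcard := T.card_M, hfix := fun u hu hu1 c hc => T.hfix u hu hu1 c hc }⟩

end TZ
end CfsgLib.TZ
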