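import Cfsg.Agent.EqBase
import Cfsg.Agent.LibTZ4
import Cfsg.Agent.LibFrobK
import Cfsg.Agent.LibCNOdd5
/-!
# Isolated subgroups with central involutions V (helper16): group-theoretic form, CT-groups
-/
set_option autoImplicit false
set_option linter.all false
open Cfsg MulAction
open scoped Pointwise
namespace CfsgLib.TZ

universe u v

/-- the group-theoretic hypotheses -/
theorem of_group {G : Type u} [Group G] [Finite G] {M : Subgroup G}
    (hC : ∀ x ∈ M, x ≠ 1 → ∀ y : G, y * x = x * y → y ∈ M)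
    (hTI : ∀ g : G, ∀ x ∈ M, x ≠ 1 → g * x * g⁻¹ ∈ M → g ∈ Subgroup.normalizer (M : Set G))
    (hcen : ∀ t ∈ M, t * t = 1 → ∀ x ∈ M, t * x = x * t)
    (hinv : ∃ t ∈ M, ∃ t' ∈ M, t * t = 1 ∧ t' * t' = 1 ∧ t ≠ 1 ∧ t' ≠ 1 ∧ t ≠ t')
    (hN : Subgroup.normalizer (M : Set G) ≠ ⊤) : TZ G (G ⧸ Subgroup.normalizer (M : Set G)) ((1 : G) : G ⧸ Subgroup.normalizer (M : Set G)) M := by
  classical
  haveI := Fintype.ofFinite G
  set N := Subgroup.normalizer (M : Set G) with hNdef
  have hMN : M ≤ N := Subgroup.le_normalizer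
  have hsm : ∀ g : G, g • ((1 : G) : G ⧸ N) = ((1 : G) : G ⧸ N) ↔ g ∈ N := by
    intro g
    have h1 : stabilizer G ((1 : G) : G ⧸ N) = N := MulAction.stabilizer_quotient N
    rw [← MulAction.mem_stabilizer_iff, h1]
  haveI hKn : (M.subgroupOf N).Normal := inferInstance
  haveI : Fintype N := Fintype.ofFinite _
  have hC' : ∀ k ∈ M.subgroupOf N, k ≠ 1 → Subgroup.centralizer ({k} : Set N) ≤ M.subgroupOf N := by
    intro k hk hk1 y hy
    rw [Subgroup.mem_centralizer_singleton_iff] at hy
    apply hC (k : G) hk (fun h => hk1 (Subtype.ext h)) (y : G)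
    exact congrArg Subtype.val hy
  refine ⟨?_, ?_, ?_, hC, ?_, hcen, hinv, ?_⟩
  · intro c
    obtain ⟨g, rfl⟩ := QuotientGroup.mk_surjective c
    exact ⟨g, by rw [MulAction.Quotient.smul_coe, smul_eq_mul, mul_one]⟩
  · intro x hx
    exact (hsm x).mpr (hMN hx)
  · intro g hg x hx
    exact (Subgroup.mem_normalizer_iff.mp ((hsm g).mp hg) x).mp hx
  · intro x hx hx1 c hc
    obtain ⟨g, rfl⟩ := QuotientGroup.mk_surjective c
    have h1 : g⁻¹ * x * g ∈ N := by
      rw [MulAction.Quotient.smul_coe, smul_eq_mul, QuotientGroup.eq] at hc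
      have := N.inv_mem hc
      have e : ((x * g)⁻¹ * g)⁻¹ = g⁻¹ * x * g := by group
      rwa [e] at this
    have h2 : g⁻¹ * x * g ∈ M := by
      have h3 : Nat.Coprime (orderOf (⟨g⁻¹ * x * g, h1⟩ : N)) (M.subgroupOf N).index := by
        rw [Subgroup.orderOf_mk]
        have h4 : orderOf (g⁻¹ * x * g) = orderOf x := by
          have := Cfsg.Agent.LibZG1.orderOf_conj g⁻¹ x
          rwa [inv_inv] at this
        rw [h4]
        have h5 : orderOf x ∣ Nat.card (M.subgroupOf N) := by
          have h6 : Nat.card (M.subgroupOf N) = Nat.card M := Nat.card_congr (Subgroup.subgroupOfEquivOfLe hMN).toEquiv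
          rw [h6]
          have := orderOf_dvd_natCard (⟨x, hx⟩ : M)
          rwa [Subgroup.orderOf_mk] at this
        exact Nat.Coprime.coprime_dvd_left h5 (CfsgLib.FrobK.coprime hKn hC')
      exact CfsgLib.FrobK.mem_of_order hKn h3
    have h3 : g⁻¹ ∈ N := hTI g⁻¹ x hx hx1 (by rw [inv_inv]; exact h2)
    rw [QuotientGroup.eq, mul_one]
    exact h3
  · by_contra hcon
    push Not at hcon
    apply hN
    rw [eq_top_iff]
    intro g _
    have := hcon ((g : G) : G ⧸ N)
    rw [QuotientGroup.eq, mul_one] at this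
    have h2 := N.inv_mem this
    rwa [inv_inv] at h2

namespace TZ
variable {G : Type u} {Ω : Type v} [Group G] [MulAction G Ω] [Finite G] [Fintype Ω] {a : Ω} {M : Subgroup G} (T : TZ G Ω a M)
include T

theorem even_M : Even (Nat.card M) := by
  obtain ⟨t, ht, -, -, htt, -, ht1, -⟩ := T.hinv
  have h1 := orderOf_dvd_natCard (⟨t, ht⟩ : M)
  rw [Subgroup.orderOf_mk, ord2 htt ht1] at h1
  exact even_iff_two_dvd.mpr h1

theorem simple : IsSimpleGroup G := by
  obtain ⟨b, D⟩ := T.dat
  apply D.simple_of_odd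
  rw [← T.card_M]
  exact Even.add_one T.even_M

theorem psl (hc : ∀ x ∈ M, ∀ y ∈ M, x * y = y * x) : ∃ (F : Type) (_ : Field F) (_ : Fintype F) (n : ℕ), 2 ≤ n ∧ Fintype.card F = 2 ^ n ∧
    Nonempty (G ≃* Matrix.ProjectiveSpecialLinearGroup (Fin 2) F) := by
  obtain ⟨b, D⟩ := T.dat
  obtain ⟨F, iF, iFF, hF, hG⟩ := D.simple_abelian T.simple hc
  have h3 := T.three_le
  have hev := T.even_M
  rw [← hF] at h3 hev
  obtain ⟨p, n, hp, hn⟩ : ∃ p n : ℕ, p.Prime ∧ Fintype.card F = p ^ n := by
    obtain ⟨p, hp⟩ := CharP.exists F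
    haveI := hp
    obtain ⟨n, hp', hn⟩ := FiniteField.card F p
    exact ⟨p, n, hp', hn⟩
  have hp2 : p = 2 := by
    have h4 : 2 ∣ p ^ n := by rw [← hn]; exact even_iff_two_dvd.mp hev
    exact ((Nat.prime_dvd_prime_iff_eq Nat.prime_two hp).mp (Nat.prime_two.dvd_of_dvd_pow h4)).symm
  subst hp2
  refine ⟨F, iF, iFF, n, ?_, hn, hG⟩
  rw [hn] at h3
  by_contra hlt
  have : n = 0 ∨ n = 1 := by omega
  rcases this with rfl | rfl <;> norm_num at h3

/-- the non-abelian case -/
theorem datS (hna : ¬ ∀ x ∈ M, ∀ y ∈ M, x * y = y * x) : ∃ b : Ω, Zas.DatS G Ω a b M := by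
  obtain ⟨b, D⟩ := T.dat
  push Not at hna
  obtain ⟨x, hx, y, hy, hxy⟩ := hna
  have hna' : ∃ x y : M, x * y ≠ y * x := ⟨⟨x, hx⟩, ⟨y, hy⟩, fun h => hxy (congrArg Subtype.val h)⟩
  rcases D.dich with h | ⟨-, h2, -⟩
  · exact absurd ((D.big_elem h).1 x hx y hy) hxy
  · exact ⟨b, D.toS T.simple h2 hna'⟩

end TZ

/-- non-commuting: commutants of non-scalar `2 × 2` matrices are commutative -/
theorem comm_of_comm {F : Type*} [Field F] {A B C : Matrix (Fin 2) (Fin 2) F} (hB : ¬ (B 0 1 = 0 ∧ B 1 0 = 0 ∧ B 0 0 = B 1 1))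
    (hA : A * B = B * A) (hC : C * B = B * C) : A * C = C * A := by
  have ext2 : ∀ X Y : Matrix (Fin 2) (Fin 2) F, X = Y ↔ X 0 0 = Y 0 0 ∧ X 0 1 = Y 0 1 ∧ X 1 0 = Y 1 0 ∧ X 1 1 = Y 1 1 := by
    intro X Y
    constructor
    · rintro rfl; exact ⟨rfl, rfl, rfl, rfl⟩
    · rintro ⟨h1, h2, h3, h4⟩
      ext i j
      fin_cases i <;> fin_cases j
      · exact h1
      · exact h2
      · exact h3
      · exact h4
  rw [ext2] at hA hC ⊢
  simp only [Matrix.mul_apply, Fin.sum_univ_two] at hA hC ⊢
  obtain ⟨a1, a2, a3, -⟩ := hA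
  obtain ⟨c1, c2, c3, -⟩ := hC
  generalize A 0 0 = p at *
  generalize A 0 1 = q at *
  generalize A 1 0 = r at *
  generalize A 1 1 = s at *
  generalize C 0 0 = p' at *
  generalize C 0 1 = q' at *
  generalize C 1 0 = r' at *
  generalize C 1 1 = s' at *
  generalize B 0 0 = w at *
  generalize B 0 1 = x at *
  generalize B 1 0 = y at *
  generalize B 1 1 = z at *
  -- u = (q, r, p - s), v = (q', r', p' - s'), b = (x, y, w - z)
  have u1 : q * y = x * r := by linear_combination a1
  have u2 : (p - s) * x = (w - z) * q := by linear_combination a2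
  have u3 : (p - s) * y = (w - z) * r := by linear_combination -a3
  have v1 : q' * y = x * r' := by linear_combination c1
  have v2 : (p' - s') * x = (w - z) * q' := by linear_combination c2
  have v3 : (p' - s') * y = (w - z) * r' := by linear_combination -c3
  have key : q * r' = q' * r ∧ (p - s) * q' = (p' - s') * q ∧ (p - s) * r' = (p' - s') * r := by
    by_cases hx : x = 0
    · by_cases hy : y = 0
      · have hz : w - z ≠ 0 := fun h => hB ⟨hx, hy, sub_eq_zero.mp h⟩
        subst hx hy
        have e1 : q = 0 := by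
          have : (w - z) * q = 0 := by rw [← u2]; ring
          exact (mul_eq_zero.mp this).resolve_left hz
        have e2 : r = 0 := by
          have : (w - z) * r = 0 := by rw [← u3]; ring
          exact (mul_eq_zero.mp this).resolve_left hz
        have e3 : q' = 0 := by
          have : (w - z) * q' = 0 := by rw [← v2]; ring
          exact (mul_eq_zero.mp this).resolve_left hz
        have e4 : r' = 0 := by
          have : (w - z) * r' = 0 := by rw [← v3]; ring
          exact (mul_eq_zero.mp this).resolve_left hz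
        subst e1 e2 e3 e4
        refine ⟨by ring, by ring, by ring⟩
      · subst hx
        have e1 : q = 0 := by
          have : q * y = 0 := by rw [u1]; ring
          exact (mul_eq_zero.mp this).resolve_right hy
        have e2 : q' = 0 := by
          have : q' * y = 0 := by rw [v1]; ring
          exact (mul_eq_zero.mp this).resolve_right hy
        subst e1 e2
        refine ⟨by ring, by ring, ?_⟩
        apply mul_right_cancel₀ hy
        linear_combination r' * u3 - r * v3
    · have k1 : q * r' = q' * r := by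
        apply mul_right_cancel₀ hx
        linear_combination -q * v1 + q' * u1
      refine ⟨k1, ?_, ?_⟩ <;> apply mul_right_cancel₀ hx
      · linear_combination q' * u2 - q * v2
      · linear_combination r' * u2 - r * v2 + (w - z) * k1
  obtain ⟨k1, k2, k3⟩ := key
  refine ⟨?_, ?_, ?_, ?_⟩
  · linear_combination k1
  · linear_combination k2
  · linear_combination -k3
  · linear_combination -k1

end CfsgLib.TZ
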