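import Cfsg.Agent.EqBase
import Cfsg.Agent.LibTZ5
/-!
# CT-groups (helper16)
-/
set_option autoImplicit false
set_option linter.all false
open Cfsg MulAction
open scoped Pointwise
namespace CfsgLib.TZ

universe u v

theorem sl_center_char2 {F : Type*} [Field F] [CharP F 2] (A : Matrix.SpecialLinearGroup (Fin 2) F) (h : A ∈ Subgroup.center (Matrix.SpecialLinearGroup (Fin 2) F)) : A = 1 := by
  rw [Matrix.SpecialLinearGroup.mem_center_iff] at h
  obtain ⟨r, hr, hA⟩ := h
  rw [Fintype.card_fin] at hr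
  have h2 : (2 : F) = 0 := CharTwo.two_eq_zero
  have h1 : (r - 1) ^ 2 = 0 := by linear_combination hr - h2 * (r - 1)
  have h3 : r = 1 := sub_eq_zero.mp (pow_eq_zero_iff (by norm_num) |>.mp h1)
  apply Subtype.ext
  rw [← hA, h3]
  simp

theorem sl_ct {F : Type*} [Field F] [CharP F 2] {A B C : Matrix.SpecialLinearGroup (Fin 2) F} (hB : B ≠ 1) (hA : A * B = B * A) (hC : C * B = B * C) : A * C = C * A := by
  have hA' : (A : Matrix (Fin 2) (Fin 2) F) * B = B * A := by
    rw [← Matrix.SpecialLinearGroup.coe_mul, hA, Matrix.SpecialLinearGroup.coe_mul]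
  have hC' : (C : Matrix (Fin 2) (Fin 2) F) * B = B * C := by
    rw [← Matrix.SpecialLinearGroup.coe_mul, hC, Matrix.SpecialLinearGroup.coe_mul]
  have h1 := comm_of_comm (A := (A : Matrix (Fin 2) (Fin 2) F)) (B := (B : Matrix (Fin 2) (Fin 2) F)) (C := (C : Matrix (Fin 2) (Fin 2) F)) (by
    rintro ⟨h1, h2, h3⟩
    apply hB
    have h4 := B.2
    rw [Matrix.det_fin_two] at h4
    have h5 : (B : Matrix (Fin 2) (Fin 2) F) 0 0 ^ 2 = 1 := by
      rw [h1, h2, ← h3] at h4
      linear_combination h4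
    have h2' : (2 : F) = 0 := CharTwo.two_eq_zero
    have h6 : ((B : Matrix (Fin 2) (Fin 2) F) 0 0 - 1) ^ 2 = 0 := by linear_combination h5 - h2' * ((B : Matrix (Fin 2) (Fin 2) F) 0 0 - 1)
    have h7 : (B : Matrix (Fin 2) (Fin 2) F) 0 0 = 1 := sub_eq_zero.mp (pow_eq_zero_iff (by norm_num) |>.mp h6)
    apply Subtype.ext
    ext i j
    fin_cases i <;> fin_cases j
    · exact h7
    · exact h1
    · exact h2
    · exact h3 ▸ h7) hA' hC'
  apply Subtype.ext
  rw [Matrix.SpecialLinearGroup.coe_mul, Matrix.SpecialLinearGroup.coe_mul, h1]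

theorem psl_ct {F : Type*} [Field F] [CharP F 2] {a b c : Matrix.ProjectiveSpecialLinearGroup (Fin 2) F} (hb : b ≠ 1) (hab : a * b = b * a) (hcb : c * b = b * c) : a * c = c * a := by
  obtain ⟨A, rfl⟩ := QuotientGroup.mk_surjective a
  obtain ⟨B, rfl⟩ := QuotientGroup.mk_surjective b
  obtain ⟨C, rfl⟩ := QuotientGroup.mk_surjective c
  have key : ∀ X Y : Matrix.SpecialLinearGroup (Fin 2) F, ((X : Matrix.ProjectiveSpecialLinearGroup (Fin 2) F) = Y) → X = Y := by
    intro X Y h
    rw [QuotientGroup.eq] at h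
    have := sl_center_char2 _ h
    exact inv_mul_eq_one.mp this
  have hB : B ≠ 1 := by rintro rfl; exact hb rfl
  have h1 : A * B = B * A := key _ _ hab
  have h2 : C * B = B * C := key _ _ hcb
  have h3 := sl_ct hB h1 h2
  exact congrArg (fun X : Matrix.SpecialLinearGroup (Fin 2) F => (X : Matrix.ProjectiveSpecialLinearGroup (Fin 2) F)) h3

/-- if the normalizer of a Sylow subgroup of a simple group is contained in its centralizer the group is abelian -/
theorem simple_burnside {G : Type u} [Group G] [Finite G] [IsSimpleGroup G] {p : ℕ} [Fact p.Prime] (P : Sylow p G) (hP : (P : Subgroup G) ≠ ⊥)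
    (h : Subgroup.normalizer ((P : Subgroup G) : Set G) ≤ Subgroup.centralizer ((P : Subgroup G) : Set G)) : ∀ x y : G, x * y = y * x := by
  have hc := MonoidHom.ker_transferSylow_isComplement' P h
  rcases (inferInstance : (MonoidHom.transferSylow P h).ker.Normal).eq_bot_or_eq_top with h1 | h1
  · rw [h1] at hc
    have h2 : (P : Subgroup G) = ⊤ := by
      have h3 := hc.sup_eq_top
      rwa [bot_sup_eq] at h3
    intro x y
    have h4 := Subgroup.le_normalizer.trans h
    have hx : x ∈ (P : Subgroup G) := by rw [h2]; exact Subgroup.mem_top x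
    have hy : y ∈ (P : Subgroup G) := by rw [h2]; exact Subgroup.mem_top y
    exact (Subgroup.mem_centralizer_iff.mp (h4 hx) y hy).symm
  · exfalso
    apply hP
    have h3 := hc.disjoint.eq_bot
    rwa [h1, top_inf_eq] at h3

theorem even_of_cn {G : Type u} [Group G] [Finite G] [IsSimpleGroup G] (hG : ¬ ∀ x y : G, x * y = y * x) (hCN : IsCNGroup G) : Even (Nat.card G) := by
  by_contra hodd
  rw [Nat.not_even_iff_odd] at hodd
  have h1 := CfsgLib.CNOdd.main _ G rfl hodd hCN
  exact hG (IsSimpleGroup.comm_iff_isSolvable.mpr h1)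

theorem exists_invol {G : Type u} [Group G] [Finite G] (h : Even (Nat.card G)) : ∃ t : G, t * t = 1 ∧ t ≠ 1 := by
  haveI := Fact.mk Nat.prime_two
  obtain ⟨t, ht⟩ := exists_prime_orderOf_dvd_card' (G := G) 2 (even_iff_two_dvd.mp h)
  exact ⟨t, CfsgLib.Invol.mul_self ht, CfsgLib.Invol.ne_one ht⟩

/-- simple CT-groups -/
theorem ct_simple {G : Type u} [Group G] [Finite G] [IsSimpleGroup G] (hG : ¬ ∀ x y : G, x * y = y * x)
    (hct : ∀ a b c : G, b ≠ 1 → a * b = b * a → b * c = c * b → a * c = c * a) :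
    ∃ (F : Type) (_ : Field F) (_ : Fintype F) (n : ℕ), 2 ≤ n ∧ Fintype.card F = 2 ^ n ∧ Nonempty (G ≃* Matrix.ProjectiveSpecialLinearGroup (Fin 2) F) := by
  classical
  have hCN : IsCNGroup G := by
    intro g hg
    letI : CommGroup (Subgroup.centralizer ({g} : Set G)) := { (inferInstance : Group (Subgroup.centralizer ({g} : Set G))) with
      mul_comm := fun a b => Subtype.ext (hct a g b hg (Subgroup.mem_centralizer_singleton_iff.mp a.2) (Subgroup.mem_centralizer_singleton_iff.mp b.2).symm) }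
    exact CommGroup.isNilpotent
  obtain ⟨t, htt, ht1⟩ := exists_invol (even_of_cn hG hCN)
  obtain ⟨M, hM⟩ : ∃ M, M = Zas.Tor t := ⟨_, rfl⟩
  have memM : ∀ x, x ∈ M ↔ x * t = t * x := fun x => by rw [hM]; exact Iff.rfl
  have htM : t ∈ M := (memM t).mpr rfl
  have hcomm : ∀ x ∈ M, ∀ y ∈ M, x * y = y * x := fun x hx y hy => hct x t y ht1 ((memM x).mp hx) ((memM y).mp hy).symm
  have hC : ∀ x ∈ M, x ≠ 1 → ∀ y : G, y * x = x * y → y ∈ M := fun x hx hx1 y hy => (memM y).mpr (hct y x t hx1 hy ((memM x).mp hx))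
  have hTI : ∀ g : G, ∀ x ∈ M, x ≠ 1 → g * x * g⁻¹ ∈ M → g ∈ Subgroup.normalizer (M : Set G) := by
    intro g x hx hx1 hgx
    have hgx1 : g * x * g⁻¹ ≠ 1 := by
      intro h
      apply hx1
      have : x = g⁻¹ * (g * x * g⁻¹) * g := by group
      rw [this, h]; group
    -- `g y g⁻¹ ∈ M` iff it commutes with `g x g⁻¹`
    have key : ∀ y : G, y ∈ M ↔ y * x = x * y := fun y => ⟨fun hy => hcomm y hy x hx, fun hy => hC x hx hx1 y hy⟩
    have key2 : ∀ y : G, y ∈ M ↔ y * (g * x * g⁻¹) = (g * x * g⁻¹) * y := fun y => ⟨fun hy => hcomm y hy _ hgx, fun hy => hC _ hgx hgx1 y hy⟩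
    rw [Subgroup.mem_normalizer_iff]
    intro y
    rw [key, key2]
    constructor
    · intro h
      calc g * y * g⁻¹ * (g * x * g⁻¹) = g * (y * x) * g⁻¹ := by group
        _ = g * (x * y) * g⁻¹ := by rw [h]
        _ = g * x * g⁻¹ * (g * y * g⁻¹) := by group
    · intro h
      calc y * x = g⁻¹ * (g * y * g⁻¹ * (g * x * g⁻¹)) * g := by group
        _ = g⁻¹ * (g * x * g⁻¹ * (g * y * g⁻¹)) * g := by rw [h]
        _ = x * y := by group
  have hN : Subgroup.normalizer (M : Set G) ≠ ⊤ := by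
    intro h
    have hMn : M.Normal := Subgroup.normalizer_eq_top_iff.mp h
    rcases hMn.eq_bot_or_eq_top with h1 | h1
    · rw [h1, Subgroup.mem_bot] at htM
      exact ht1 htM
    · exact hG fun x y => hcomm x (h1 ▸ Subgroup.mem_top x) y (h1 ▸ Subgroup.mem_top y)
  have hinv : ∃ t ∈ M, ∃ t' ∈ M, t * t = 1 ∧ t' * t' = 1 ∧ t ≠ 1 ∧ t' ≠ 1 ∧ t ≠ t' := by
    by_contra hcon
    push Not at hcon
    have huniq : ∀ s ∈ M, s * s = 1 → s ≠ 1 → s = t := fun s hs hss hs1 => (hcon t htM s hs htt hss ht1 hs1).symm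
    haveI := Fact.mk Nat.prime_two
    have hp : IsPGroup 2 (Subgroup.zpowers t) := IsPGroup.of_card (n := 1) (by rw [Nat.card_zpowers, ord2 htt ht1, pow_one])
    obtain ⟨P, hP⟩ := hp.exists_le_sylow
    have htP : t ∈ (P : Subgroup G) := hP (Subgroup.mem_zpowers t)
    have hPb : (P : Subgroup G) ≠ ⊥ := by
      intro h
      rw [h, Subgroup.mem_bot] at htP
      exact ht1 htP
    -- a central involution of `P`
    haveI hPn : Group.IsNilpotent (P : Subgroup G) := P.isPGroup'.isNilpotent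
    haveI hPnt : Nontrivial (P : Subgroup G) := (Subgroup.nontrivial_iff_ne_bot _).mpr hPb
    have hz : ∃ z ∈ (P : Subgroup G), z ≠ 1 ∧ z * z = 1 ∧ ∀ y ∈ (P : Subgroup G), y * z = z * y := by
      have h1 : Nontrivial (Subgroup.center (P : Subgroup G)) := P.isPGroup'.center_nontrivial
      have h2 : IsPGroup 2 (Subgroup.center (P : Subgroup G)) := P.isPGroup'.to_subgroup _
      obtain ⟨n, hn⟩ := IsPGroup.iff_card.mp h2
      have h3 : n ≠ 0 := by
        rintro rfl
        rw [pow_zero] at hn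
        have := Finite.one_lt_card_iff_nontrivial.mpr h1
        omega
      have h4 : 2 ∣ Nat.card (Subgroup.center (P : Subgroup G)) := by rw [hn]; exact dvd_pow_self 2 h3
      obtain ⟨z, hz⟩ := exists_prime_orderOf_dvd_card' (G := Subgroup.center (P : Subgroup G)) 2 h4
      have hzz := CfsgLib.Invol.mul_self hz
      have hz1 := CfsgLib.Invol.ne_one hz
      refine ⟨z.1.1, z.1.2, ?_, ?_, ?_⟩
      · intro h; exact hz1 (Subtype.ext (Subtype.ext h))
      · exact congrArg (fun x : Subgroup.center (P : Subgroup G) => x.1.1) hzz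
      · intro y hy
        exact congrArg Subtype.val (Subgroup.mem_center_iff.mp z.2 ⟨y, hy⟩)
    obtain ⟨z, hzP, hz1, hzz, hzc⟩ := hz
    have hzt : z = t := huniq z ((memM z).mpr (hzc t htP).symm) hzz hz1
    rw [hzt] at hzc
    have hPM : (P : Subgroup G) ≤ M := fun y hy => (memM y).mpr (hzc y hy)
    apply hG
    apply simple_burnside P hPb
    intro g hg
    have h1 : g * t * g⁻¹ ∈ (P : Subgroup G) := (Subgroup.mem_normalizer_iff.mp hg t).mp htP
    have h2 : g * t * g⁻¹ = t := by
      apply huniq _ (hPM h1)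
      · calc g * t * g⁻¹ * (g * t * g⁻¹) = g * (t * t) * g⁻¹ := by group
          _ = 1 := by rw [htt]; group
      · intro h
        apply ht1
        have : t = g⁻¹ * (g * t * g⁻¹) * g := by group
        rw [this, h]; group
    have h3 : g ∈ M := (memM g).mpr (by
      calc g * t = g * t * g⁻¹ * g := by group
        _ = t * g := by rw [h2])
    rw [Subgroup.mem_centralizer_iff]
    intro y hy
    exact hcomm y (hPM hy) g h3
  have T := of_group hC hTI (fun t ht _ x hx => hcomm t ht x hx) hinv hN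
  haveI : Fintype (G ⧸ Subgroup.normalizer (M : Set G)) := Fintype.ofFinite _
  exact T.psl hcomm

end CfsgLib.TZ
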