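import Cfsg.Agent.LibH6BrC
import Cfsg.Agent.LibTZ6
import Cfsg.Agent.LibKF11b
import Cfsg.Agent.LibDi11b
import Cfsg.Agent.LibZStar
/-!
# Simple groups with a self-centralizing Sylow 3-subgroup of order 3 and a character of degree three (helper6)
-/
set_option autoImplicit false
set_option linter.all false
open Cfsg CfsgLib.CharBasic CfsgLib.CharInt
open scoped ComplexConjugate
namespace CfsgLib.H6Br

universe u
section
variable {G : Type u} [Group G] [Finite G]

/-- nontrivial elements do not act as scalars -/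
theorem norm_lt [IsSimpleGroup G] (hna : ∃ x y : G, x * y ≠ y * x) {χ : G → ℂ} (hχ : IsIrrCharacter G χ) (hne : χ ≠ fun _ => 1)
    {g : G} (hg : g ≠ 1) : ‖χ g‖ ≠ ‖χ 1‖ := by
  haveI := Fintype.ofFinite G
  intro h
  obtain ⟨m, ρ, hρ, rfl⟩ := hχ
  have h1 : ‖ρ.character g‖ = (Module.finrank ℂ (Fin m → ℂ) : ℝ) := by
    rw [h, Representation.char_one]; simp
  obtain ⟨ω, hω⟩ := (norm_character_eq_iff ρ g).1 h1
  have hcen : g ∈ Subgroup.center G := by
    rw [Subgroup.mem_center_iff]
    intro x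
    have h2 : ρ (x * g * x⁻¹ * g⁻¹) = LinearMap.id := by
      have e1 : ρ (x * g) = ρ (g * x) := by
        rw [map_mul, map_mul, hω]
        ext v
        simp
      have e2 : ρ (x * g * x⁻¹ * g⁻¹) = ρ ((g * x) * x⁻¹ * g⁻¹) := by
        rw [map_mul, map_mul, e1, ← map_mul, ← map_mul]
      rw [e2, mul_inv_cancel_right, mul_inv_cancel, map_one]; rfl
    have h3 : ρ.character (x * g * x⁻¹ * g⁻¹) = ρ.character 1 := by
      rw [(character_eq_finrank_iff ρ _).2 h2, Representation.char_one]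
    have h4 := CfsgLib.Exc.simple_faithful ⟨m, ρ, hρ, rfl⟩ hne h3
    rw [mul_inv_eq_one, mul_inv_eq_iff_eq_mul] at h4
    exact h4
  rcases (inferInstance : (Subgroup.center G).Normal).eq_bot_or_eq_top with h2 | h2
  · rw [h2, Subgroup.mem_bot] at hcen; exact hg hcen
  · obtain ⟨x, y, hxy⟩ := hna
    apply hxy
    have : y ∈ Subgroup.center G := by rw [h2]; trivial
    exact Subgroup.mem_center_iff.1 this x

/-- a simple nonabelian group has no Sylow 2-subgroup of order at most two -/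
theorem not_two_odd [IsSimpleGroup G] (hna : ∃ x y : G, x * y ≠ y * x) {m : ℕ} (hm : Odd m) (hG : Nat.card G = 2 * m) : False := by
  haveI : Fact (Nat.Prime 2) := ⟨Nat.prime_two⟩
  obtain ⟨P⟩ : Nonempty (Sylow 2 G) := inferInstance
  have hm0 : m ≠ 0 := by rintro rfl; exact absurd hm (by decide)
  have hcP : Nat.card (P : Subgroup G) = 2 := by
    have h1 : Nat.card (P : Subgroup G) = 2 ^ (Nat.card G).factorization 2 := P.card_eq_multiplicity
    have h2 : (Nat.card G).factorization 2 = 1 := by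
      rw [hG, Nat.factorization_mul (by norm_num) hm0, Finsupp.add_apply, Nat.prime_two.factorization_self,
        Nat.factorization_eq_zero_of_not_dvd (fun h => (Nat.not_even_iff_odd.mpr hm) (even_iff_two_dvd.mpr h))]
    rw [h1, h2, pow_one]
  have hP : (P : Subgroup G) ≠ ⊥ := by
    intro h
    rw [h, Subgroup.card_bot] at hcP; omega
  obtain ⟨a, b, hab⟩ := hna
  apply hab
  refine CfsgLib.TZ.simple_burnside P hP ?_ a b
  intro g hg
  rw [Subgroup.mem_centralizer_iff]
  intro x hx
  have hx' : x ∈ (P : Subgroup G) := hx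
  have h1 : g * x * g⁻¹ ∈ (P : Subgroup G) := (Subgroup.mem_normalizer_iff.1 hg x).1 hx'
  by_cases hx1 : x = 1
  · rw [hx1, one_mul, mul_one]
  · have h2 : g * x * g⁻¹ ≠ 1 := by
      intro h; apply hx1; rwa [conj_eq_one_iff] at h
    have key : ∀ u v : (P : Subgroup G), u ≠ 1 → v ≠ 1 → u = v := by
      intro u v hu hv
      have h3 := Nat.card_eq_two_iff' (1 : (P : Subgroup G)) |>.1 hcP
      exact h3.unique hu hv
    have h4 := key ⟨_, h1⟩ ⟨x, hx'⟩ (fun h => h2 (congrArg Subtype.val h)) (fun h => hx1 (congrArg Subtype.val h))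
    have h5 : g * x * g⁻¹ = x := congrArg Subtype.val h4
    rw [mul_inv_eq_iff_eq_mul] at h5
    exact h5.symm

/-- elements of order three are conjugate to their inverses -/
theorem inverter [IsSimpleGroup G] (hna : ∃ x y : G, x * y ≠ y * x) {m : ℕ} (hm : ¬ 3 ∣ m) (hG : Nat.card G = 3 * m)
    {x : G} (hx : orderOf x = 3) : ∃ g : G, g * x * g⁻¹ = x⁻¹ := by
  classical
  haveI : Fact (Nat.Prime 3) := ⟨Nat.prime_three⟩
  have h1 : IsPGroup 3 (Subgroup.zpowers x) := IsPGroup.of_card (n := 1) (by rw [Nat.card_zpowers, hx, pow_one])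
  obtain ⟨P, hP⟩ := h1.exists_le_sylow
  have hm0 : m ≠ 0 := by rintro rfl; simp at hm
  have hcP : Nat.card (P : Subgroup G) = 3 := by
    have h1 : Nat.card (P : Subgroup G) = 3 ^ (Nat.card G).factorization 3 := P.card_eq_multiplicity
    have h2 : (Nat.card G).factorization 3 = 1 := by
      rw [hG, Nat.factorization_mul (by norm_num) hm0, Finsupp.add_apply, Nat.prime_three.factorization_self,
        Nat.factorization_eq_zero_of_not_dvd hm]
    rw [h1, h2, pow_one]
  have hPx : Subgroup.zpowers x = (P : Subgroup G) := by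
    apply Subgroup.eq_of_le_of_card_ge hP
    rw [hcP, Nat.card_zpowers, hx]
  have hPb : (P : Subgroup G) ≠ ⊥ := by
    intro h
    rw [h, Subgroup.card_bot] at hcP; omega
  have hnot : ¬ Subgroup.normalizer ((P : Subgroup G) : Set G) ≤ Subgroup.centralizer ((P : Subgroup G) : Set G) := by
    intro h
    obtain ⟨a, b, hab⟩ := hna
    exact hab (CfsgLib.TZ.simple_burnside P hPb h a b)
  obtain ⟨g, hg1, hg2⟩ := SetLike.not_le_iff_exists.1 hnot
  refine ⟨g, ?_⟩
  have hxP : x ∈ (P : Subgroup G) := by rw [← hPx]; exact Subgroup.mem_zpowers x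
  have h2 : g * x * g⁻¹ ∈ (P : Subgroup G) := (Subgroup.mem_normalizer_iff.1 hg1 x).1 hxP
  rw [← hPx] at h2
  obtain ⟨k, hk⟩ := (mem_zpowers_iff_mem_range_orderOf.1 h2 : _) |> Finset.mem_image.1
  rw [hx, Finset.mem_range] at hk
  obtain ⟨hk3, hk⟩ := hk
  have hx3 : x ^ 3 = 1 := by rw [← hx]; exact pow_orderOf_eq_one x
  have hx1 : x ≠ 1 := by rintro rfl; rw [orderOf_one] at hx; omega
  interval_cases k
  · exfalso
    rw [pow_zero] at hk
    exact hx1 (conj_eq_one_iff.1 hk.symm)
  · exfalso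
    rw [pow_one] at hk
    apply hg2
    rw [← hPx, Subgroup.mem_centralizer_iff]
    intro y hy
    obtain ⟨n, rfl⟩ := Subgroup.mem_zpowers_iff.1 hy
    have hc : Commute x g := by
      have : x * g = g * x := by rw [eq_mul_inv_iff_mul_eq] at hk; exact hk
      exact this
    exact (hc.zpow_left n).eq
  · rw [← hk, eq_inv_iff_mul_eq_one, ← pow_succ, hx3]

/-- a subgroup of exponent `3` of a group with Sylow 3-subgroups of order three -/
theorem card_three {m : ℕ} (hm : ¬ 3 ∣ m) (hG : Nat.card G = 3 * m) (H : Subgroup G) (hH : ∀ w ∈ H, w ^ 3 = 1)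
    {x : G} (hx : orderOf x = 3) (hxH : x ∈ H) : Nat.card H = 3 := by
  haveI : Fact (Nat.Prime 3) := ⟨Nat.prime_three⟩
  have h2 : IsPGroup 3 H := by
    intro w
    refine ⟨1, ?_⟩
    rw [pow_one]
    exact Subtype.ext (hH w w.2)
  obtain ⟨k, hk⟩ := IsPGroup.iff_card.1 h2
  have h3 : 3 ∣ Nat.card H := by
    have h4 : orderOf (⟨x, hxH⟩ : H) = 3 := by rw [← hx]; exact (Subgroup.orderOf_mk x hxH)
    rw [← h4]; exact orderOf_dvd_natCard _
  have h4 : Nat.card H ∣ 3 * m := by rw [← hG]; exact Subgroup.card_subgroup_dvd_card _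
  have h5 : Nat.Coprime (Nat.card H) m := by
    rw [hk]
    exact Nat.Coprime.pow_left k ((Nat.Prime.coprime_iff_not_dvd Nat.prime_three).2 hm)
  exact Nat.dvd_antisymm (h5.dvd_of_dvd_mul_right h4) h3

end
end CfsgLib.H6Br
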