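import Cfsg.Agent.LibH6BrD
/-!
# The characters not vanishing on an element of order three with centralizer of order three (helper6)
-/
set_option autoImplicit false
set_option linter.all false
open Cfsg CfsgLib.CharBasic
open CfsgLib.CharInt (irr_one_eq_charDegree irr_charDegree_pos)
open scoped ComplexConjugate
namespace CfsgLib.H6Br

universe u

theorem exists_unit {ι : Type*} [DecidableEq ι] (s : Finset ι) (u : ι → ℤ) {n : ℤ} (h0 : 0 ≤ n) (hn : n ≤ 2)
    (h : ∑ i ∈ s, u i ^ 2 = n + 1) : ∃ i ∈ s, (u i = 1 ∨ u i = -1) ∧ ∑ i ∈ s.erase i, u i ^ 2 = n := by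
  have h1 : ∃ i ∈ s, u i ≠ 0 := by
    by_contra hcon
    push Not at hcon
    rw [Finset.sum_eq_zero (fun i hi => by rw [hcon i hi]; norm_num)] at h
    omega
  obtain ⟨i, hi, hui⟩ := h1
  have h2 : u i ^ 2 ≤ n + 1 := by
    rw [← h]
    exact Finset.single_le_sum (f := fun j => u j ^ 2) (fun j _ => sq_nonneg _) hi
  have h3 : u i = 1 ∨ u i = -1 := by
    have h4 : u i < 2 := by nlinarith
    have h5 : -2 < u i := by nlinarith
    omega
  refine ⟨i, hi, h3, ?_⟩
  rw [← Finset.sum_erase_add _ _ hi] at h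
  have h6 : u i ^ 2 = 1 := by rcases h3 with h | h <;> rw [h] <;> norm_num
  linarith

/-- combinatorics of a column of norm three -/
theorem comb3 {ι : Type*} [Fintype ι] [DecidableEq ι] (u : ι → ℤ) (i₀ : ι) (h0 : u i₀ = 1) (h : ∑ i, u i ^ 2 = 3) :
    ∃ i₁ i₂ : ι, i₁ ≠ i₀ ∧ i₂ ≠ i₀ ∧ i₁ ≠ i₂ ∧ (u i₁ = 1 ∨ u i₁ = -1) ∧ (u i₂ = 1 ∨ u i₂ = -1) ∧
      ∀ F : ι → ℂ, ∑ i, (u i : ℂ) * F i = F i₀ + u i₁ * F i₁ + u i₂ * F i₂ := by
  have e0 : ∑ i ∈ Finset.univ.erase i₀, u i ^ 2 = 1 + 1 := by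
    rw [← Finset.sum_erase_add _ _ (Finset.mem_univ i₀), h0] at h
    linarith
  obtain ⟨i₁, hi1, hu1, e1⟩ := exists_unit _ u (by norm_num) (by norm_num) e0
  obtain ⟨i₂, hi2, hu2, e2⟩ := exists_unit _ u (n := 0) (by norm_num) (by norm_num) (by rw [e1]; norm_num)
  have hz : ∀ i ∈ ((Finset.univ.erase i₀).erase i₁).erase i₂, u i = 0 := by
    intro i hi
    have := (Finset.sum_eq_zero_iff_of_nonneg (fun j _ => sq_nonneg (u j))).1 e2 i hi
    exact pow_eq_zero_iff (two_ne_zero) |>.1 this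
  refine ⟨i₁, i₂, Finset.ne_of_mem_erase hi1, Finset.ne_of_mem_erase (Finset.mem_of_mem_erase hi2),
    (Finset.ne_of_mem_erase hi2).symm, hu1, hu2, ?_⟩
  intro F
  rw [← Finset.sum_erase_add _ _ (Finset.mem_univ i₀), ← Finset.sum_erase_add _ _ hi1, ← Finset.sum_erase_add _ _ hi2,
    Finset.sum_eq_zero (fun i hi => by rw [hz i hi]; simp), h0]
  push_cast; ring

section
variable {G : Type u} [Group G] [Finite G]

/-- values at a real element of order three -/
theorem values3 {x g : G} (hx : orderOf x = 3) (hg : g * x * g⁻¹ = x⁻¹) (χ : IrrCharacter G) :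
    ∃ u : ℤ, (χ : G → ℂ) x = u ∧ (3 : ℤ) ∣ u - (charDegree (χ : G → ℂ) : ℤ) := by
  classical
  letI : Fintype G := Fintype.ofFinite G
  haveI : Fact (Nat.Prime 3) := ⟨Nat.prime_three⟩
  have hχ := irr_isCharacter χ.2
  have hx3 : x ^ 3 = 1 := by rw [← hx]; exact pow_orderOf_eq_one x
  have h3G : 3 ∣ Nat.card G := by rw [← hx]; exact orderOf_dvd_natCard x
  obtain ⟨u, hu⟩ : ∃ u : ℤ, (χ : G → ℂ) x = u := by
    apply CfsgLib.GalChar.exists_int_of_fixed (char_isIntegral hχ x)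
    intro σ
    obtain ⟨k, hk, hk2⟩ := CfsgLib.GalChar.exists_coprime_of_gal G σ
    rw [← hk2 _ hχ]
    have hk' : ¬ 3 ∣ k := by
      intro h
      have := Nat.dvd_gcd h h3G
      rw [hk] at this
      omega
    have h5 : x ^ k = x ^ (k % 3) := by
      have := pow_mod_orderOf x k
      rw [hx] at this
      exact this.symm
    rcases (show k % 3 = 1 ∨ k % 3 = 2 by omega) with h6 | h6
    · rw [h5, h6, pow_one]
    · have h7 : x ^ 2 = x⁻¹ := by
        rw [eq_inv_iff_mul_eq_one, ← pow_succ, hx3]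
      rw [h5, h6, h7, ← hg]
      exact irr_classFun χ.2 _ _
  refine ⟨u, hu, ?_⟩
  obtain ⟨M, hM⟩ := CfsgLib.DZ19.exists_modular 3
  have h1 := CfsgLib.BlockQP.char_congr hM hχ (Commute.one_right x) ⟨1, by rw [hx, pow_one]⟩
  rw [mul_one, hu, irr_one_eq_charDegree χ.2] at h1
  have h5 : MemLocalIdeal M ((u - (charDegree (χ : G → ℂ) : ℤ) : ℤ) : ℂ) := by push_cast; exact h1
  exact_mod_cast (CfsgLib.LocR.memI_intCast_iff hM (u - (charDegree (χ : G → ℂ) : ℤ))).1 h5

/-- counting pairs of involutions of a class with product of order three -/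
theorem count3 {x t : G} (hx : orderOf x = 3) (hcx : Nat.card (Subgroup.centralizer ({x} : Set G)) = 3) (ht : t * t = 1) :
    Nat.card {s : G // IsConj t s ∧ IsConj t (s * x)} = 0 ∨ Nat.card {s : G // IsConj t s ∧ IsConj t (s * x)} = 3 := by
  classical
  by_cases hne : Nonempty {s : G // IsConj t s ∧ IsConj t (s * x)}
  · right
    obtain ⟨s₀, hs1, hs2⟩ := hne
    have hinv : ∀ s : G, IsConj t s → s * s = 1 := by
      intro s hs
      obtain ⟨c, hc⟩ := isConj_iff.1 hs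
      rw [← hc]
      calc c * t * c⁻¹ * (c * t * c⁻¹) = c * (t * t) * c⁻¹ := by group
        _ = 1 := by rw [ht]; group
    have hcx' : ∀ s : G, s * s = 1 → (s * x) * (s * x) = 1 → s * x * s⁻¹ = x⁻¹ := by
      intro s h1 h2
      have h3 : s⁻¹ = s := by rw [inv_eq_iff_mul_eq_one]; exact h1
      rw [h3, eq_inv_iff_mul_eq_one]
      rw [← h2]; group
    have hx3 : x ^ 3 = 1 := by rw [← hx]; exact pow_orderOf_eq_one x
    -- the centralizer is generated by `x`
    have hC : Subgroup.centralizer ({x} : Set G) = Subgroup.zpowers x := by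
      symm
      apply Subgroup.eq_of_le_of_card_ge
      · rw [Subgroup.zpowers_le, Subgroup.mem_centralizer_singleton_iff]
      · rw [hcx, Nat.card_zpowers, hx]
    have hs0 := hinv s₀ hs1
    have hs0x := hcx' s₀ hs0 (hinv _ hs2)
    have hs0c : ∀ c ∈ Subgroup.centralizer ({x} : Set G), s₀ * c * s₀⁻¹ = c⁻¹ := by
      intro c hc
      rw [hC] at hc
      obtain ⟨n, rfl⟩ := Subgroup.mem_zpowers_iff.1 hc
      rw [← conj_zpow, hs0x, inv_zpow]
    have hc3 : ∀ c ∈ Subgroup.centralizer ({x} : Set G), c ^ 3 = 1 := by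
      intro c hc
      rw [hC] at hc
      obtain ⟨n, rfl⟩ := Subgroup.mem_zpowers_iff.1 hc
      rw [← zpow_natCast, ← zpow_mul, mul_comm, zpow_mul, zpow_natCast, hx3, one_zpow]
    have hconj : ∀ c ∈ Subgroup.centralizer ({x} : Set G), IsConj t (s₀ * c) := by
      intro c hc
      refine hs1.trans ?_
      rw [isConj_iff]
      refine ⟨c, ?_⟩
      have h1 : c * s₀ = s₀ * c⁻¹ := by
        have h2 := hs0c c hc
        rw [mul_inv_eq_iff_eq_mul] at h2
        -- s₀ c = c⁻¹ s₀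
        calc c * s₀ = c * (s₀ * c) * c⁻¹ := by group
          _ = s₀ * c⁻¹ := by rw [h2]; group
      rw [h1]
      have h3 := hc3 c hc
      have h4 : c⁻¹ * c⁻¹ = c := by
        rw [← mul_inv_rev, inv_eq_iff_mul_eq_one]
        rw [← h3, pow_succ, pow_two]
      rw [mul_assoc, h4]
    rw [← hcx]
    symm
    refine Nat.card_congr (Equiv.ofBijective (fun c : Subgroup.centralizer ({x} : Set G) =>
      (⟨s₀ * c, hconj c c.2, by
        rw [mul_assoc]
        exact hconj _ (mul_mem c.2 (Subgroup.mem_centralizer_singleton_iff.2 rfl))⟩ : {s : G // IsConj t s ∧ IsConj t (s * x)})) ⟨?_, ?_⟩)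
    · intro c d h
      have h1 := congrArg Subtype.val h
      exact Subtype.ext (mul_left_cancel h1)
    · rintro ⟨s, h1, h2⟩
      have h3 := hcx' s (hinv s h1) (hinv _ h2)
      refine ⟨⟨s₀⁻¹ * s, ?_⟩, ?_⟩
      · rw [Subgroup.mem_centralizer_singleton_iff]
        rw [mul_inv_eq_iff_eq_mul] at h3 hs0x
        have h4 : s₀⁻¹ * x⁻¹ = x * s₀⁻¹ := by
          rw [inv_mul_eq_iff_eq_mul, ← mul_assoc, hs0x, mul_inv_cancel_right]
        calc s₀⁻¹ * s * x = s₀⁻¹ * (s * x) := by group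
          _ = s₀⁻¹ * x⁻¹ * s := by rw [h3]; group
          _ = x * (s₀⁻¹ * s) := by rw [h4]; group
      · apply Subtype.ext
        show s₀ * (s₀⁻¹ * s) = s
        group
  · left
    rw [not_nonempty_iff] at hne
    exact Nat.card_of_isEmpty

/-- the main counting theorem -/
theorem count_formula [IsSimpleGroup G] (hna : ∃ x y : G, x * y ≠ y * x) {x g : G} (hx : orderOf x = 3) (hg : g * x * g⁻¹ = x⁻¹)
    (hcx : Nat.card (Subgroup.centralizer ({x} : Set G)) = 3) :
    ∃ (φ η : IrrCharacter G) (d : ℕ), (φ : G → ℂ) ≠ (fun _ => 1) ∧ (η : G → ℂ) ≠ (fun _ => 1) ∧ charDegree (φ : G → ℂ) = d ∧ charDegree (η : G → ℂ) = d + 1 ∧ 2 ≤ d ∧ d % 3 = 1 ∧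
      ∀ t : G, t * t = 1 → t ≠ 1 → ∃ a : ℤ, (φ : G → ℂ) t = a ∧ |a| < d ∧
        (Nat.card G : ℤ) * (d - a) ^ 2 = 3 * (Nat.card (Subgroup.centralizer ({t} : Set G)) : ℤ) ^ 2 * (d * (d + 1)) := by
  classical
  letI : Fintype G := Fintype.ofFinite G
  choose u hu hcong using values3 hx hg
  obtain ⟨i₀, hi₀⟩ : ∃ i₀ : IrrCharacter G, ∀ g, (i₀ : G → ℂ) g = 1 := ⟨⟨_, isIrrCharacter_one⟩, fun g => rfl⟩
  have hu0 : u i₀ = 1 := by have := hu i₀; rw [hi₀] at this; exact_mod_cast this.symm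
  have hn : ∀ χ : IrrCharacter G, (χ : G → ℂ) 1 = ((charDegree (χ : G → ℂ) : ℕ) : ℂ) := fun χ => irr_one_eq_charDegree χ.2
  have hn1 : charDegree (i₀ : G → ℂ) = 1 := by have := hn i₀; rw [hi₀] at this; exact_mod_cast this.symm
  have hx1 : x ≠ 1 := by rintro rfl; rw [orderOf_one] at hx; omega
  have huu : ∑ i, u i ^ 2 = 3 := by
    have h1 := column_orthogonality x x
    rw [if_pos (IsConj.refl x), hcx] at h1
    have h2 : ((∑ i, u i ^ 2 : ℤ) : ℂ) = 3 := by
      push_cast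
      rw [show (3 : ℂ) = ((3 : ℕ) : ℂ) by norm_num, ← h1]
      refine Finset.sum_congr rfl fun i _ => ?_
      rw [hu, map_intCast]; ring
    exact_mod_cast h2
  have hne : ∀ i : IrrCharacter G, i ≠ i₀ → (i : G → ℂ) ≠ fun _ => 1 := by
    intro i hi h
    apply hi
    apply Subtype.ext
    rw [h]; funext g; exact (hi₀ g).symm
  have hdeg2 : ∀ i : IrrCharacter G, i ≠ i₀ → 2 ≤ charDegree (i : G → ℂ) := by
    intro i hi
    have h1 := irr_charDegree_pos i.2
    by_contra h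
    have h2 : charDegree (i : G → ℂ) = 1 := by omega
    exact hne i hi (CfsgLib.BlkSmall.linear_trivial hna i (by rw [hn, h2]; norm_num))
  obtain ⟨i₁, i₂, h10, h20, h12, hu1, hu2, hF⟩ := comb3 u i₀ hu0 huu
  -- orthogonality with the identity
  have hdeg : (1 : ℤ) + u i₁ * charDegree (i₁ : G → ℂ) + u i₂ * charDegree (i₂ : G → ℂ) = 0 := by
    have h1 := column_orthogonality x 1
    rw [if_neg (fun hc => hx1 (isConj_one_left.1 hc))] at h1
    have h2 : ∑ i : IrrCharacter G, (u i : ℂ) * (charDegree (i : G → ℂ) : ℂ) = 0 := by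
      rw [← h1]
      refine Finset.sum_congr rfl fun i _ => ?_
      rw [hu, hn, Complex.conj_natCast]
    rw [hF, hn1] at h2
    have h3 : (((1 : ℤ) + u i₁ * charDegree (i₁ : G → ℂ) + u i₂ * charDegree (i₂ : G → ℂ) : ℤ) : ℂ) = 0 := by
      push_cast; push_cast at h2; exact h2
    exact_mod_cast h3
  -- the general conclusion for the ordered pair
  have main : ∀ i j : IrrCharacter G, i ≠ i₀ → j ≠ i₀ → u i = 1 → u j = -1 → (1 : ℤ) + charDegree (i : G → ℂ) - charDegree (j : G → ℂ) = 0 →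
      (∀ F : IrrCharacter G → ℂ, ∑ i, (u i : ℂ) * F i = F i₀ + F i - F j) →
      ∃ (φ η : IrrCharacter G) (d : ℕ), (φ : G → ℂ) ≠ (fun _ => 1) ∧ (η : G → ℂ) ≠ (fun _ => 1) ∧ charDegree (φ : G → ℂ) = d ∧ charDegree (η : G → ℂ) = d + 1 ∧ 2 ≤ d ∧ d % 3 = 1 ∧
      ∀ t : G, t * t = 1 → t ≠ 1 → ∃ a : ℤ, (φ : G → ℂ) t = a ∧ |a| < d ∧
        (Nat.card G : ℤ) * (d - a) ^ 2 = 3 * (Nat.card (Subgroup.centralizer ({t} : Set G)) : ℤ) ^ 2 * (d * (d + 1)) := by
    intro i j hi hj hui huj hij hFF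
    have hci := hcong i
    rw [hui] at hci
    have hd2 := hdeg2 i hi
    refine ⟨i, j, charDegree (i : G → ℂ), hne i hi, hne j hj, rfl, by omega, hd2, by omega, ?_⟩
    intro t ht ht1
    obtain ⟨a, ha⟩ := CfsgLib.KF11.char_invol_int (irr_isCharacter i.2) ht
    obtain ⟨b, hb⟩ := CfsgLib.KF11.char_invol_int (irr_isCharacter j.2) ht
    have htx : ¬ IsConj x t := by
      intro h
      obtain ⟨c, hc⟩ := isConj_iff.1 h
      have h1 : orderOf (c * x * c⁻¹) = orderOf x := (MulAut.conj c).orderOf_eq x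
      rw [hc, hx] at h1
      have h2 : orderOf t ∣ 2 := orderOf_dvd_of_pow_eq_one (by rw [pow_two]; exact ht)
      rw [h1] at h2
      omega
    have hab : (1 : ℤ) + a - b = 0 := by
      have h1 := column_orthogonality x t
      rw [if_neg htx] at h1
      have h2 : ∑ i : IrrCharacter G, (u i : ℂ) * conj ((i : G → ℂ) t) = 0 := by
        rw [← h1]
        refine Finset.sum_congr rfl fun i _ => ?_
        rw [hu]
      rw [hFF, hi₀, ha, hb, map_one, map_intCast, map_intCast] at h2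
      exact_mod_cast h2
    have hnorm := norm_lt hna i.2 (hne i hi) ht1
    have hle : ‖(i : G → ℂ) t‖ ≤ ‖(i : G → ℂ) 1‖ := by
      obtain ⟨m, ρ, hρ, hρi⟩ := i.2
      rw [← hρi]
      have := norm_character_le ρ t
      rw [Representation.char_one]
      simpa using this
    have hlt := lt_of_le_of_ne hle hnorm
    have habs : |a| < (charDegree (i : G → ℂ) : ℤ) := by
      rw [ha, hn] at hlt
      have h1 : ‖((a : ℤ) : ℂ)‖ = ((|a| : ℤ) : ℝ) := by
        rw [Complex.norm_intCast]; push_cast; rfl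
      have h2 : ‖((charDegree (i : G → ℂ) : ℕ) : ℂ)‖ = (charDegree (i : G → ℂ) : ℝ) := Complex.norm_natCast _
      rw [h1, h2] at hlt
      exact_mod_cast hlt
    refine ⟨a, ha, habs, ?_⟩
    -- class multiplication
    have hm := CfsgLib.Di11.class_mul t x
    have h3 : ∑ χ : IrrCharacter G, (χ : G → ℂ) t * conj ((χ : G → ℂ) t * (χ : G → ℂ) x / (χ : G → ℂ) 1) =
        ∑ χ : IrrCharacter G, (u χ : ℂ) * ((χ : G → ℂ) t * conj ((χ : G → ℂ) t) / (χ : G → ℂ) 1) := by
      refine Finset.sum_congr rfl fun χ _ => ?_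
      rw [hu, map_div₀, map_mul, map_intCast, hn, Complex.conj_natCast]
      ring
    rw [h3, hFF, hi₀, hi₀, ha, hb, map_one, map_intCast, map_intCast, hn, hn] at hm
    set c := Nat.card (Subgroup.centralizer ({t} : Set G)) with hc
    set d := charDegree (i : G → ℂ) with hd
    have hdj : charDegree (j : G → ℂ) = d + 1 := by omega
    rw [hdj] at hm
    have hG0 : (Nat.card G : ℂ) ≠ 0 := by exact_mod_cast Nat.card_pos.ne'
    have hd0 : (d : ℂ) ≠ 0 := by exact_mod_cast (by omega : d ≠ 0)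
    have hd1 : (d : ℂ) + 1 ≠ 0 := by exact_mod_cast (by omega : d + 1 ≠ 0)
    have hb' : (b : ℂ) = 1 + a := by
      have : b = 1 + a := by linarith
      rw [this]; push_cast; rfl
    rw [hb'] at hm
    push_cast at hm
    field_simp at hm
    have hm2 : (Nat.card G : ℂ) * (d - a) ^ 2 = (c : ℂ) ^ 2 * (Nat.card {s : G // IsConj t s ∧ IsConj t (s * x)} : ℂ) * (d * (d + 1)) := by
      linear_combination hm
    have hm3 : (Nat.card G : ℤ) * (d - a) ^ 2 = (c : ℤ) ^ 2 * (Nat.card {s : G // IsConj t s ∧ IsConj t (s * x)} : ℤ) * (d * (d + 1)) := by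
      exact_mod_cast hm2
    rcases count3 hx hcx ht with h4 | h4
    · exfalso
      rw [h4] at hm3
      have h5 : (Nat.card G : ℤ) * (d - a) ^ 2 = 0 := by rw [hm3]; push_cast; ring
      rcases mul_eq_zero.1 h5 with h6 | h6
      · exact absurd h6 (by exact_mod_cast Nat.card_pos.ne')
      · have h7 : (d : ℤ) - a = 0 := pow_eq_zero_iff (two_ne_zero) |>.1 h6
        have h8 := le_abs_self a
        omega
    · rw [h4] at hm3
      rw [hm3]; push_cast; ring
  have hp1 := hdeg2 i₁ h10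
  have hp2 := hdeg2 i₂ h20
  rcases hu1 with h1 | h1 <;> rcases hu2 with h2 | h2
  · rw [h1, h2] at hdeg; omega
  · apply main i₁ i₂ h10 h20 h1 h2
    · rw [h1, h2] at hdeg; linarith
    · intro F; rw [hF, h1, h2]; push_cast; ring
  · apply main i₂ i₁ h20 h10 h2 h1
    · rw [h1, h2] at hdeg; linarith
    · intro F; rw [hF, h1, h2]; push_cast; ring
  · rw [h1, h2] at hdeg; omega

end
end CfsgLib.H6Br
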