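import Cfsg.Agent.LibH6BrE
import Cfsg.Agent.S4500
import Cfsg.Agent.S4503
/-!
# Simple groups of order `3 p^a q^b` (helper6)
-/
set_option autoImplicit false
set_option linter.all false
open Cfsg CfsgLib.CharBasic
open CfsgLib.CharInt (irr_one_eq_charDegree irr_charDegree_pos)
open scoped ComplexConjugate
namespace CfsgLib.H6Br

universe u

theorem nt3 {p a b d : ℕ} (hp : p.Prime) (hp5 : 5 ≤ p) (ha : a ≤ 2) (hd : 2 ≤ d) (hd3 : d % 3 = 1)
    (h1 : d ∣ 3 * p ^ a * 2 ^ b) (h2 : d + 1 ∣ 3 * p ^ a * 2 ^ b) :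
    ∃ i, (d = p ∧ d + 1 = 2 ^ i) ∨ (d = 2 ^ i ∧ d + 1 = p) := by
  have hpr : ∀ r : ℕ, r.Prime → r ∣ 3 * p ^ a * 2 ^ b → r = 3 ∨ r = p ∨ r = 2 := by
    intro r hr h
    rcases (hr.dvd_mul).1 h with h | h
    · rcases (hr.dvd_mul).1 h with h | h
      · left; exact (Nat.prime_dvd_prime_iff_eq hr Nat.prime_three).1 h
      · right; left; exact (Nat.prime_dvd_prime_iff_eq hr hp).1 (hr.dvd_of_dvd_pow h)
    · right; right; exact (Nat.prime_dvd_prime_iff_eq hr Nat.prime_two).1 (hr.dvd_of_dvd_pow h)
  have hp2 : p % 2 = 1 := Nat.odd_iff.1 (hp.odd_of_ne_two (by omega))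
  have hp3 : p % 3 = 1 ∨ p % 3 = 2 := by
    have : ¬ 3 ∣ p := by
      intro h
      have := (Nat.prime_dvd_prime_iff_eq Nat.prime_three hp).1 h
      omega
    omega
  have hjle : ∀ j, p ^ j ∣ 3 * p ^ a * 2 ^ b → j ≤ 2 := by
    intro j hj
    have c1 : Nat.Coprime (p ^ j) (2 ^ b) := by
      apply Nat.Coprime.pow
      exact (Nat.coprime_primes hp Nat.prime_two).2 (by omega)
    have c2 : Nat.Coprime (p ^ j) 3 := by
      apply Nat.Coprime.pow_left
      exact (Nat.coprime_primes hp Nat.prime_three).2 (by omega)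
    have h3 := c1.dvd_of_dvd_mul_right hj
    have h4 := c2.dvd_of_dvd_mul_left h3
    exact ((Nat.pow_dvd_pow_iff_le_right hp.one_lt).1 h4).trans ha
  have hp1 : ¬ p ∣ 1 := by intro h; exact hp.one_lt.ne' (Nat.dvd_one.1 h)
  rcases Nat.mod_two_eq_zero_or_one d with hev | hodd
  · -- d even
    obtain ⟨j, hj⟩ : ∃ j, d + 1 = p ^ j := by
      refine ⟨_, Nat.eq_prime_pow_of_unique_prime_dvd (by omega) ?_⟩
      intro r hr hrd
      rcases hpr r hr (hrd.trans h2) with h | h | h
      · rw [h] at hrd; omega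
      · exact h
      · rw [h] at hrd; omega
    have hj0 : j ≠ 0 := by rintro rfl; rw [pow_zero] at hj; omega
    have hpd : p ∣ d + 1 := by rw [hj]; exact dvd_pow_self p hj0
    obtain ⟨i, hi⟩ : ∃ i, d = 2 ^ i := by
      refine ⟨_, Nat.eq_prime_pow_of_unique_prime_dvd (by omega) ?_⟩
      intro r hr hrd
      rcases hpr r hr (hrd.trans h1) with h | h | h
      · rw [h] at hrd; omega
      · exfalso; rw [h] at hrd; exact hp1 ((Nat.dvd_add_right hrd).1 hpd)
      · exact h
    have hj2 := hjle j (by rw [← hj]; exact h2)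
    interval_cases j
    · exact absurd rfl hj0
    · exact ⟨i, Or.inr ⟨hi, by rw [hj, pow_one]⟩⟩
    · exfalso
      have h5 : p ^ 2 % 3 = 1 := by
        rcases hp3 with h | h <;> rw [Nat.pow_mod, h]
      omega
  · -- d odd
    obtain ⟨j, hj⟩ : ∃ j, d = p ^ j := by
      refine ⟨_, Nat.eq_prime_pow_of_unique_prime_dvd (by omega) ?_⟩
      intro r hr hrd
      rcases hpr r hr (hrd.trans h1) with h | h | h
      · rw [h] at hrd; omega
      · exact h
      · rw [h] at hrd; omega
    have hj0 : j ≠ 0 := by rintro rfl; rw [pow_zero] at hj; omega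
    have hpd : p ∣ d := by rw [hj]; exact dvd_pow_self p hj0
    obtain ⟨i, hi⟩ : ∃ i, d + 1 = 2 ^ i := by
      refine ⟨_, Nat.eq_prime_pow_of_unique_prime_dvd (by omega) ?_⟩
      intro r hr hrd
      rcases hpr r hr (hrd.trans h2) with h | h | h
      · rw [h] at hrd; omega
      · exfalso; rw [h] at hrd; exact hp1 ((Nat.dvd_add_right hpd).1 hrd)
      · exact h
    have hj2 := hjle j (by rw [← hj]; exact h1)
    interval_cases j
    · exact absurd rfl hj0
    · exact ⟨i, Or.inl ⟨by rw [hj, pow_one], hi⟩⟩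
    · exfalso
      have h5 : p ^ 2 % 4 = 1 := by
        have : p % 4 = 1 ∨ p % 4 = 3 := by omega
        rcases this with h | h <;> rw [Nat.pow_mod, h]
      have h6 : 2 ^ i % 4 = 2 := by omega
      have h7 : i = 1 := by
        by_contra hi1
        rcases Nat.lt_or_ge i 1 with h | h
        · have : i = 0 := by omega
          rw [this] at h6; norm_num at h6
        · obtain ⟨k, rfl⟩ : ∃ k, i = k + 2 := ⟨i - 2, by omega⟩
          rw [pow_add] at h6; omega
      rw [h7] at hi
      have h8 : 5 ^ 2 ≤ p ^ 2 := Nat.pow_le_pow_left hp5 2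
      omega

/-- an involution centralising a Sylow 2-subgroup -/
theorem exists_central_inv {G : Type u} [Group G] [Finite G] (h : 2 ∣ Nat.card G) :
    ∃ t : G, t * t = 1 ∧ t ≠ 1 ∧ 2 ^ (Nat.card G).factorization 2 ∣ Nat.card (Subgroup.centralizer ({t} : Set G)) := by
  haveI : Fact (Nat.Prime 2) := ⟨Nat.prime_two⟩
  obtain ⟨P⟩ : Nonempty (Sylow 2 G) := inferInstance
  have hcP : Nat.card (P : Subgroup G) = 2 ^ (Nat.card G).factorization 2 := P.card_eq_multiplicity
  haveI : Nontrivial (P : Subgroup G) := by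
    rw [← Finite.one_lt_card_iff_nontrivial, hcP]
    apply Nat.one_lt_pow
    · exact (Nat.prime_two.factorization_pos_of_dvd Nat.card_pos.ne' h).ne'
    · norm_num
  haveI : Nontrivial (Subgroup.center (P : Subgroup G)) := P.isPGroup'.center_nontrivial
  have h1 : 2 ∣ Nat.card (Subgroup.center (P : Subgroup G)) := by
    have h2 : IsPGroup 2 (Subgroup.center (P : Subgroup G)) := P.isPGroup'.to_subgroup _
    obtain ⟨k, hk⟩ := IsPGroup.iff_card.1 h2
    rw [hk]
    apply dvd_pow_self
    rintro rfl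
    rw [pow_zero] at hk
    have := Finite.one_lt_card_iff_nontrivial.2 (inferInstance : Nontrivial (Subgroup.center (P : Subgroup G)))
    omega
  obtain ⟨w, hw⟩ := exists_prime_orderOf_dvd_card' 2 h1
  have hw2 : (w.1.1 : G) * w.1.1 = 1 := by
    have h3 : w ^ 2 = 1 := by
      have := pow_orderOf_eq_one w
      rwa [hw] at this
    rw [pow_two] at h3
    exact congrArg (fun v : Subgroup.center (P : Subgroup G) => (v.1.1 : G)) h3
  refine ⟨w.1.1, hw2, ?_, ?_⟩
  · intro h3
    have : w = 1 := Subtype.ext (Subtype.ext h3)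
    rw [this, orderOf_one] at hw
    omega
  · rw [← hcP]
    apply Subgroup.card_dvd_of_le
    intro x hx
    rw [Subgroup.mem_centralizer_singleton_iff]
    exact congrArg Subtype.val (Subgroup.mem_center_iff.1 w.2 ⟨x, hx⟩)

/-- orders of simple groups of order `3 p^a 2^b` -/
theorem part2b {G : Type u} [Group G] [Finite G] [IsSimpleGroup G] (hna : ∃ x y : G, x * y ≠ y * x) {p a b : ℕ} (hp : p.Prime) (hp5 : 5 ≤ p)
    (ha : a ≤ 2) (hG : Nat.card G = 3 * p ^ a * 2 ^ b) : Nat.card G = 60 ∨ Nat.card G = 168 := by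
  classical
  haveI := Fintype.ofFinite G
  have hp2 : p % 2 = 1 := Nat.odd_iff.1 (hp.odd_of_ne_two (by omega))
  have hppos := hp.pos
  have ha1 : 1 ≤ a := by
    by_contra h
    apply not_two_primes hna (a := 1) (b := b) Nat.prime_three Nat.prime_two
    have : a = 0 := by omega
    rw [hG, this]; ring
  have hb2 : 2 ≤ b := by
    by_contra h
    have : b = 0 ∨ b = 1 := by omega
    rcases this with h0 | h1
    · apply not_two_primes hna (a := 1) (b := a) Nat.prime_three hp
      rw [hG, h0]; ring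
    · apply not_two_odd hna (m := 3 * p ^ a)
      · exact (by decide : Odd 3).mul ((Nat.odd_iff.2 hp2).pow)
      · rw [hG, h1]; ring
  set m := p ^ a * 2 ^ b with hm
  have hGm : Nat.card G = 3 * m := by rw [hG, hm]; ring
  have hm3 : ¬ 3 ∣ m := by
    intro h
    rcases (Nat.prime_three.dvd_mul).1 h with h | h
    · have := (Nat.prime_dvd_prime_iff_eq Nat.prime_three hp).1 (Nat.prime_three.dvd_of_dvd_pow h)
      omega
    · have := (Nat.prime_dvd_prime_iff_eq Nat.prime_three Nat.prime_two).1 (Nat.prime_three.dvd_of_dvd_pow h)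
      omega
  have hm0 : m ≠ 0 := by rintro h; rw [h] at hm3; simp at hm3
  have hfac3 : (Nat.card G).factorization 3 = 1 := by
    rw [hGm, Nat.factorization_mul (by norm_num) hm0, Finsupp.add_apply, Nat.prime_three.factorization_self,
      Nat.factorization_eq_zero_of_not_dvd hm3]
  -- the character of degree three
  obtain ⟨χ, hχne, k, hk⟩ := (Cfsg.Agent.S4500.result (G := G) p 2 3 a b 1 hp Nat.prime_two Nat.prime_three (by omega) (by omega) (by norm_num) ha
    (by rw [hG]; ring)).2
  have hk0 : k ≠ 0 := by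
    rintro rfl
    rw [pow_zero] at hk
    exact hχne (CfsgLib.BlkSmall.linear_trivial hna χ (by rw [irr_one_eq_charDegree χ.2, hk]; norm_num))
  have hk1 : k = 1 := by
    have h1 := CfsgLib.CharInt2.charDegree_dvd_card χ.2
    rw [hk] at h1
    have h2 := (Nat.prime_three.pow_dvd_iff_le_factorization Nat.card_pos.ne').1 h1
    omega
  rw [hk1, pow_one] at hk
  have h31 : (χ : G → ℂ) 1 = 3 := by rw [irr_one_eq_charDegree χ.2, hk]; norm_num
  have hcube : ∀ g : G, 3 ∣ orderOf g → g ^ 3 = 1 := by
    intro g hg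
    apply cube_of_zero hna χ.2 h31
    apply CfsgLib.FSDef0.vanish Nat.prime_three _ hg
    rw [hfac3, hk, pow_one]
  haveI : Fact (Nat.Prime 3) := ⟨Nat.prime_three⟩
  obtain ⟨x, hx⟩ := exists_prime_orderOf_dvd_card' (G := G) 3 (by rw [hGm]; exact dvd_mul_right 3 m)
  obtain ⟨g, hg⟩ := inverter hna hm3 hGm hx
  -- no element of order three commutes with a nontrivial 3'-element
  have hcomm3 : ∀ y w : G, orderOf y = 3 → Commute y w → w ^ 3 = 1 := by
    intro y w hy hc
    by_cases h2 : 3 ∣ orderOf w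
    · exact hcube w h2
    · have h3 : Nat.Coprime (orderOf y) (orderOf w) := by
        rw [hy]; exact (Nat.Prime.coprime_iff_not_dvd Nat.prime_three).2 h2
      have h4 : orderOf (y * w) = 3 * orderOf w := by
        rw [hc.orderOf_mul_eq_mul_orderOf_of_coprime h3, hy]
      have h5 := hcube (y * w) (by rw [h4]; exact dvd_mul_right _ _)
      have h6 : y ^ 3 = 1 := by rw [← hy]; exact pow_orderOf_eq_one y
      rw [hc.mul_pow, h6, one_mul] at h5
      exact h5
  have hcx : Nat.card (Subgroup.centralizer ({x} : Set G)) = 3 := by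
    apply card_three hm3 hGm _ _ hx (Subgroup.mem_centralizer_singleton_iff.2 rfl)
    intro w hw
    exact hcomm3 x w hx (Subgroup.mem_centralizer_singleton_iff.1 hw).symm
  obtain ⟨φ, η, d, hφ, hη, hdφ, hdη, hd2, hd3, hcount⟩ := count_formula hna hx hg hcx
  have hdvd1 : d ∣ 3 * p ^ a * 2 ^ b := by rw [← hdφ, ← hG]; exact CfsgLib.CharInt2.charDegree_dvd_card φ.2
  have hdvd2 : d + 1 ∣ 3 * p ^ a * 2 ^ b := by rw [← hdη, ← hG]; exact CfsgLib.CharInt2.charDegree_dvd_card η.2
  obtain ⟨i, hi⟩ := nt3 hp hp5 ha hd2 hd3 hdvd1 hdvd2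
  have hdd : d * (d + 1) = p * 2 ^ i := by
    rcases hi with ⟨h1, h2⟩ | ⟨h1, h2⟩
    · rw [h2, ← h1]
    · rw [h2, ← h1]; ring
  -- the involution
  have h2G : 2 ∣ Nat.card G := by
    rw [hG]; exact (dvd_pow_self 2 (by omega)).mul_left _
  obtain ⟨t, ht, ht1, htS⟩ := exists_central_inv h2G
  have hfac2 : (Nat.card G).factorization 2 = b := by
    have h3 : 3 * p ^ a ≠ 0 := by positivity
    rw [hG, Nat.factorization_mul h3 (by positivity), Finsupp.add_apply, Nat.prime_two.factorization_pow, Finsupp.single_eq_same,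
      Nat.factorization_eq_zero_of_not_dvd, zero_add]
    have : Odd (3 * p ^ a) := (by decide : Odd 3).mul ((Nat.odd_iff.2 hp2).pow)
    intro h
    have := Nat.odd_iff.1 this
    omega
  rw [hfac2] at htS
  obtain ⟨v, hv, habs, hform⟩ := hcount t ht ht1
  set c := Nat.card (Subgroup.centralizer ({t} : Set G)) with hc
  have hcpos : 0 < c := Nat.card_pos
  have hc3 : ¬ 3 ∣ c := by
    intro h
    obtain ⟨w, hw⟩ := exists_prime_orderOf_dvd_card' (G := Subgroup.centralizer ({t} : Set G)) 3 h
    have hw' : orderOf (w : G) = 3 := by rw [Subgroup.orderOf_coe]; exact hw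
    have h2 := hcomm3 (w : G) t hw' (Subgroup.mem_centralizer_singleton_iff.1 w.2)
    apply ht1
    have : t ^ 3 = t := by rw [pow_succ, pow_two, ht, one_mul]
    rw [← this, h2]
  -- the positive number N = d - v
  obtain ⟨N, hN⟩ : ∃ N : ℕ, (N : ℤ) = d - v := ⟨(d - v).toNat, by rw [Int.toNat_of_nonneg]; have := le_abs_self v; omega⟩
  have hNpos : 0 < N := by have := le_abs_self v; omega
  have hNlt : N < 2 * d := by have := neg_abs_le v; omega
  rw [← hN] at hform
  have hform1 : 3 * (p ^ a * 2 ^ b * N ^ 2) = 3 * (c ^ 2 * (p * 2 ^ i)) := by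
    have h1 : (Nat.card G) * N ^ 2 = 3 * c ^ 2 * (d * (d + 1)) := by exact_mod_cast hform
    rw [hG, hdd] at h1
    calc 3 * (p ^ a * 2 ^ b * N ^ 2) = 3 * p ^ a * 2 ^ b * N ^ 2 := by ring
      _ = 3 * (c ^ 2 * (p * 2 ^ i)) := by rw [h1]; ring
  have hform2 : p ^ a * 2 ^ b * N ^ 2 = c ^ 2 * (p * 2 ^ i) := by omega
  have hacase : a = 1 ∨ a = 2 := by omega
  have hp2' : ¬ p ∣ 2 := by
    intro h
    have := (Nat.prime_dvd_prime_iff_eq hp Nat.prime_two).1 h
    omega
  rcases hacase with ha' | ha'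
  · -- a = 1
    have hform3 : 2 ^ b * N ^ 2 = c ^ 2 * 2 ^ i := by
      rw [ha', pow_one] at hform2
      have : p * (2 ^ b * N ^ 2) = p * (c ^ 2 * 2 ^ i) := by rw [← mul_assoc, hform2]; ring
      exact Nat.eq_of_mul_eq_mul_left hppos this
    obtain ⟨c', hc'⟩ := htS
    have hc'd : c' ∣ p := by
      have h1 : c ∣ 3 * p ^ a * 2 ^ b := by rw [← hG]; exact Subgroup.card_subgroup_dvd_card _
      rw [ha', pow_one, hc', mul_comm (3 * p)] at h1
      have h2 : c' ∣ 3 * p := Nat.dvd_of_mul_dvd_mul_left (by positivity) h1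
      have h3 : Nat.Coprime c' 3 := by
        rw [Nat.coprime_comm, Nat.Prime.coprime_iff_not_dvd Nat.prime_three]
        intro h; apply hc3; rw [hc']; exact h.mul_left _
      exact h3.dvd_of_dvd_mul_left h2
    have hform4 : N ^ 2 = 2 ^ (b + i) * c' ^ 2 := by
      have : 2 ^ b * N ^ 2 = 2 ^ b * (2 ^ (b + i) * c' ^ 2) := by rw [hform3, hc', pow_add]; ring
      exact Nat.eq_of_mul_eq_mul_left (by positivity) this
    -- bound on p
    have hp7 : p ≤ 7 := by
      have h1 := Cfsg.Agent.S4503.result (G := G) p hp (by rw [hG, ha', pow_one]; exact ⟨3 * 2 ^ b, by ring⟩)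
        (by
          rw [hG, ha', pow_one, pow_two]
          intro h
          have h2 : p * p ∣ p * (3 * 2 ^ b) := by rw [show p * (3 * 2 ^ b) = 3 * p * 2 ^ b by ring]; exact h
          have h3 := Nat.dvd_of_mul_dvd_mul_left hppos h2
          rcases (hp.dvd_mul).1 h3 with h4 | h4
          · have := (Nat.prime_dvd_prime_iff_eq hp Nat.prime_three).1 h4; omega
          · exact hp2' (hp.dvd_of_dvd_pow h4))
        (by
          intro H hH hcH
          rcases hH.eq_bot_or_eq_top with h | h
          · rw [h, Subgroup.card_bot] at hcH; have := hp.two_le; omega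
          · rw [h, Subgroup.card_top] at hcH
            apply not_two_primes hna (a := 1) (b := 0) hp hp
            rw [hcH]; ring)
        (χ : G → ℂ) (irr_isCharacter χ.2) (fun g hg => CfsgLib.Exc.simple_faithful χ.2 hχne hg)
      rw [hk] at h1
      omega
    have hc'pos : 0 < c' := by
      rcases Nat.eq_zero_or_pos c' with h | h
      · rw [h, mul_zero] at hc'; omega
      · exact h
    have hc'1 : c' = 1 := by
      rcases (Nat.dvd_prime hp).1 hc'd with h | h
      · exact h
      · exfalso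
        -- N ^ 2 ≥ 16 p ^ 2 and N < 2 (p)
        have hdp : d ≤ p := by rcases hi with ⟨h1, h2⟩ | ⟨h1, h2⟩ <;> omega
        have h2 : N ^ 2 < (2 * p) ^ 2 := Nat.pow_lt_pow_left (by omega) (by norm_num)
        rw [hform4, h, mul_pow] at h2
        have h3 : 2 ^ (b + i) < 2 ^ 2 := Nat.lt_of_mul_lt_mul_right h2
        have h4 := (Nat.pow_lt_pow_iff_right (by norm_num : 1 < 2)).1 h3
        omega
    rw [hc'1, one_pow, mul_one] at hform4
    have hp57 : p = 5 ∨ p = 7 := by
      have : p = 5 ∨ p = 6 ∨ p = 7 := by omega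
      rcases this with h | h | h
      · left; exact h
      · rw [h] at hp2; omega
      · right; exact h
    rcases hp57 with h5 | h7
    · left
      have hd4 : d = 4 ∧ i = 2 := by
        rcases hi with ⟨h1, h2⟩ | ⟨h1, h2⟩
        · exfalso; omega
        · have hd : d = 4 := by omega
          refine ⟨hd, ?_⟩
          rw [hd] at h1
          have : (2 : ℕ) ^ i = 2 ^ 2 := by rw [← h1]; norm_num
          exact Nat.pow_right_injective (le_refl 2) this
      rw [hd4.1] at hNlt
      rw [hd4.2] at hform4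
      have hNb : N ≤ 7 := by omega
      have hb4 : b < 4 := by
        have h2 : 2 ^ (b + 2) < 2 ^ 6 := by
          rw [← hform4]
          calc N ^ 2 ≤ 7 ^ 2 := Nat.pow_le_pow_left hNb 2
            _ < 2 ^ 6 := by norm_num
        have h4 := (Nat.pow_lt_pow_iff_right (by norm_num : 1 < 2)).1 h2
        omega
      have hb22 : b = 2 := by
        interval_cases b
        · rfl
        · exfalso
          interval_cases N <;> omega
      rw [hG, ha', hb22, h5]; norm_num
    · right
      have hd4 : d = 7 ∧ i = 3 := by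
        rcases hi with ⟨h1, h2⟩ | ⟨h1, h2⟩
        · have hd : d = 7 := by omega
          refine ⟨hd, ?_⟩
          rw [hd] at h2
          have : (2 : ℕ) ^ i = 2 ^ 3 := by rw [← h2]; norm_num
          exact Nat.pow_right_injective (le_refl 2) this
        · exfalso
          omega
      rw [hd4.1] at hNlt
      rw [hd4.2] at hform4
      have hNb : N ≤ 13 := by omega
      have hb4 : b < 5 := by
        have h2 : 2 ^ (b + 3) < 2 ^ 8 := by
          rw [← hform4]
          calc N ^ 2 ≤ 13 ^ 2 := Nat.pow_le_pow_left hNb 2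
            _ < 2 ^ 8 := by norm_num
        have h4 := (Nat.pow_lt_pow_iff_right (by norm_num : 1 < 2)).1 h2
        omega
      have hb22 : b = 3 := by
        interval_cases b
        · exfalso
          interval_cases N <;> omega
        · rfl
        · exfalso
          interval_cases N <;> omega
      rw [hG, ha', hb22, h7]; norm_num
  · -- a = 2
    exfalso
    have hform3 : p * (2 ^ b * N ^ 2) = c ^ 2 * 2 ^ i := by
      rw [ha'] at hform2
      have : p * (p * (2 ^ b * N ^ 2)) = p * (c ^ 2 * 2 ^ i) := by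
        calc p * (p * (2 ^ b * N ^ 2)) = p ^ 2 * 2 ^ b * N ^ 2 := by ring
          _ = p * (c ^ 2 * 2 ^ i) := by rw [hform2]; ring
      exact Nat.eq_of_mul_eq_mul_left hppos this
    have h1 := congrArg (fun n : ℕ => n.factorization p) hform3
    replace h1 : (p * (2 ^ b * N ^ 2)).factorization p = (c ^ 2 * 2 ^ i).factorization p := h1
    have e2 : ∀ n : ℕ, ((2 : ℕ) ^ n).factorization p = 0 := by
      intro n
      apply Nat.factorization_eq_zero_of_not_dvd
      intro h
      exact hp2' (hp.dvd_of_dvd_pow h)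
    have hN0 : N ≠ 0 := hNpos.ne'
    have hc0 : c ≠ 0 := hcpos.ne'
    rw [Nat.factorization_mul hp.ne_zero (by positivity), Nat.factorization_mul (by positivity) (by positivity),
      Nat.factorization_mul (by positivity) (by positivity), Finsupp.add_apply, Finsupp.add_apply, Finsupp.add_apply, e2, e2,
      Nat.factorization_pow, Nat.factorization_pow, Finsupp.smul_apply, Finsupp.smul_apply, hp.factorization_self, smul_eq_mul, smul_eq_mul] at h1
    omega

end CfsgLib.H6Br
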