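import Mathlib
import Cfsg.Agent.LibH6CaB
import Cfsg.Agent.S0731
import Cfsg.Agent.S4702

/-! Groups in which centralizers of involutions are abelian: two-transitivity. -/

set_option autoImplicit false
set_option linter.all false

namespace CfsgLib.H6Ca

open Cfsg Subgroup CfsgLib.Invol CfsgLib.FusionH12 CfsgLib.StrongH12
open scoped Pointwise

section Three

variable {G : Type*} [Group G] [Finite G]

theorem exists_ne (X : Ctx G) (P : Sylow 2 G) : ∃ Q : Sylow 2 G, Q ≠ P := by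
  obtain ⟨g, hg⟩ : ∃ g : G, g ∉ NN P := by
    by_contra hall
    push Not at hall
    exact (strong X P).1 (eq_top_iff.2 fun g _ => hall g)
  exact ⟨g • P, fun h => hg (smul_eq.1 h)⟩

/-- order of the point stabilizer -/
theorem card_NN (X : Ctx G) (hQ : QQ G) {P Q : Sylow 2 G} (h : P ≠ Q) :
    Nat.card ↥(NN P) = Nat.card ↥(NN P ⊓ NN Q) * Nat.card ↥(AA P) := by
  rw [← Nat.card_prod]
  symm
  refine Nat.card_eq_of_bijective (fun x : ↥(NN P ⊓ NN Q) × ↥(AA P) => (⟨x.1.1 * x.2.1,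
    mul_mem x.1.2.1 (AA_le P x.2.2)⟩ : ↥(NN P))) ⟨?_, ?_⟩
  · rintro ⟨d, a⟩ ⟨e, b⟩ hx
    have hx' : d.1 * a.1 = e.1 * b.1 := congrArg Subtype.val hx
    have h1 : e.1⁻¹ * d.1 = b.1 * a.1⁻¹ := by
      rw [eq_mul_inv_iff_mul_eq, mul_assoc, hx', inv_mul_cancel_left]
    have h2 : e.1⁻¹ * d.1 = 1 := AA_NN X hQ h (by rw [h1]; exact mul_mem b.2 (inv_mem a.2))
      (mul_mem (inv_mem e.2.2) d.2.2)
    have h3 : e.1 = d.1 := inv_mul_eq_one.1 h2
    have h4 : a.1 = b.1 := by rw [h3] at hx'; exact mul_left_cancel hx'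
    exact Prod.ext (Subtype.ext h3.symm) (Subtype.ext h4)
  · rintro ⟨n, hn⟩
    obtain ⟨s, hs, hs2, -⟩ := exists_inv X P
    have h3 : n * s * n⁻¹ ∈ P := inv_mem_of_mem (mul_mem (mul_mem hn (le_normalizer hs)) (inv_mem hn))
      (by rw [orderOf_conj, hs2])
    obtain ⟨d, hd, hdt⟩ := inf_trans X h hs2 hs (by rw [orderOf_conj, hs2] : orderOf (n * s * n⁻¹) = 2) h3
    have hc : d⁻¹ * n ∈ AA P := by
      apply mem_AA_of X hs hs2
      change d⁻¹ * n * s = s * (d⁻¹ * n)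
      calc d⁻¹ * n * s = d⁻¹ * (n * s * n⁻¹) * n := by group
        _ = s * (d⁻¹ * n) := by rw [← hdt]; group
    exact ⟨⟨⟨d, hd⟩, ⟨d⁻¹ * n, hc⟩⟩, Subtype.ext (by simp)⟩

theorem smul_ne {P Q : Sylow 2 G} (h : Q ≠ P) {a : G} (ha : a ∈ NN P) : a • Q ≠ P := by
  intro h1
  rw [← smul_eq] at ha
  rw [← ha] at h1
  exact h (smul_left_cancel a h1)

/-- the number of points is `|A| + 1` -/
theorem card_pts (X : Ctx G) (hQ : QQ G) (P : Sylow 2 G) :
    Nat.card {Q : Sylow 2 G // Q ≠ P} = Nat.card ↥(AA P) := by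
  classical
  obtain ⟨Q0, hQ0⟩ := exists_ne X P
  set k := Nat.card {t : G // orderOf t = 2 ∧ t ∈ NN P} with hk
  have hk3 : 3 ≤ k := three_le_inv X P
  have hN : Nat.card ↥(NN P) = k * Nat.card ↥(AA P) := by
    rw [card_NN X hQ hQ0.symm, card_inf X hQ hQ0.symm]
  apply le_antisymm
  · -- counting
    have h1 : Nat.card (Σ Q : {Q : Sylow 2 G // Q ≠ P}, {y : ↥(NN P ⊓ NN Q.1) // y ≠ 1}) =
        Nat.card {Q : Sylow 2 G // Q ≠ P} * (k - 1) := by
      haveI := Fintype.ofFinite {Q : Sylow 2 G // Q ≠ P}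
      rw [Nat.card_sigma, Finset.sum_congr rfl (fun Q _ => ?_), Finset.sum_const, Finset.card_univ,
        smul_eq_mul, ← Nat.card_eq_fintype_card]
      haveI := Fintype.ofFinite ↥(NN P ⊓ NN Q.1)
      rw [Nat.card_eq_fintype_card, Fintype.card_subtype_compl, Fintype.card_subtype_eq,
        ← Nat.card_eq_fintype_card, card_inf X hQ Q.2.symm]
    have h2 : Nat.card {n : ↥(NN P) // (n : G) ∉ AA P} = Nat.card ↥(NN P) - Nat.card ↥(AA P) := by
      haveI := Fintype.ofFinite ↥(NN P)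
      haveI := Fintype.ofFinite ↥(AA P)
      rw [Nat.card_eq_fintype_card, Fintype.card_subtype_compl, ← Nat.card_eq_fintype_card,
        ← Nat.card_eq_fintype_card]
      congr 1
      exact Nat.card_congr
        { toFun := fun x => ⟨x.1.1, x.2⟩
          invFun := fun x => ⟨⟨x.1, AA_le P x.2⟩, x.2⟩
          left_inv := fun x => rfl
          right_inv := fun x => rfl }
    have h3 : Nat.card (Σ Q : {Q : Sylow 2 G // Q ≠ P}, {y : ↥(NN P ⊓ NN Q.1) // y ≠ 1}) ≤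
        Nat.card {n : ↥(NN P) // (n : G) ∉ AA P} := by
      refine Nat.card_le_card_of_injective (fun x => (⟨⟨x.2.1.1, x.2.1.2.1⟩, fun h => x.2.2
        (Subtype.ext (AA_NN X hQ x.1.2.symm h x.2.1.2.2))⟩ : {n : ↥(NN P) // (n : G) ∉ AA P})) ?_
      rintro ⟨Q, y, hy⟩ ⟨R, z, hz⟩ h
      have h' : (y : G) = z := congrArg (fun w : {n : ↥(NN P) // (n : G) ∉ AA P} => (w.1 : G)) h
      have hQR : Q = R := by
        by_contra hne
        apply hy
        apply Subtype.ext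
        refine fix_three X hQ Q.2.symm R.2.symm (fun hh => hne (Subtype.ext hh)) y.2.1 y.2.2 ?_
        rw [h']; exact z.2.2
      subst hQR
      have : y = z := Subtype.ext h'
      subst this
      rfl
    rw [h1, h2, hN] at h3
    have h4 : k * Nat.card ↥(AA P) - Nat.card ↥(AA P) = Nat.card ↥(AA P) * (k - 1) := by
      rw [Nat.mul_sub, mul_one, mul_comm]
    rw [h4] at h3
    exact Nat.le_of_mul_le_mul_right h3 (by omega)
  · refine Nat.card_le_card_of_injective (fun a : ↥(AA P) => (⟨a.1 • Q0, smul_ne hQ0 (AA_le P a.2)⟩ :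
      {Q : Sylow 2 G // Q ≠ P})) ?_
    intro a b hab
    have hab' : a.1 • Q0 = b.1 • Q0 := congrArg Subtype.val hab
    have h1 : b.1⁻¹ * a.1 ∈ NN Q0 := by
      rw [← smul_eq, mul_smul, hab', inv_smul_smul]
    have h2 := AA_NN X hQ hQ0.symm (mul_mem (inv_mem b.2) a.2) h1
    exact (Subtype.ext (inv_mul_eq_one.1 h2)).symm

/-- `A` is regular on the other points -/
theorem AA_reg (X : Ctx G) (hQ : QQ G) {P Q R : Sylow 2 G} (hQP : Q ≠ P) (hRP : R ≠ P) :
    ∃! a : ↥(AA P), (a : G) • Q = R := by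
  let f : ↥(AA P) → {Q : Sylow 2 G // Q ≠ P} := fun a => ⟨a.1 • Q, smul_ne hQP (AA_le P a.2)⟩
  have hinj : Function.Injective f := by
    intro a b hab
    have hab' : a.1 • Q = b.1 • Q := congrArg Subtype.val hab
    have h1 : b.1⁻¹ * a.1 ∈ NN Q := by
      rw [← smul_eq, mul_smul, hab', inv_smul_smul]
    have h2 := AA_NN X hQ hQP.symm (mul_mem (inv_mem b.2) a.2) h1
    exact (Subtype.ext (inv_mul_eq_one.1 h2)).symm
  have hbij : Function.Bijective f := (Nat.bijective_iff_injective_and_card _).2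
    ⟨hinj, (card_pts X hQ P).symm⟩
  obtain ⟨a, ha⟩ := hbij.2 ⟨R, hRP⟩
  refine ⟨a, congrArg Subtype.val ha, ?_⟩
  intro b hb
  apply hinj
  rw [ha]
  exact Subtype.ext hb

theorem card_AA (X : Ctx G) (P : Sylow 2 G) : 4 ≤ Nat.card ↥(AA P) ∧ Even (Nat.card ↥(AA P)) := by
  obtain ⟨h1, h2⟩ := card_T (X.hnc P)
  have h3 := card_dvd_of_le (P_le_AA X P)
  refine ⟨h1.trans (Nat.le_of_dvd Nat.card_pos h3), ?_⟩
  rw [even_iff_two_dvd] at h2 ⊢
  exact h2.trans h3

theorem card_Om (X : Ctx G) (hQ : QQ G) (P : Sylow 2 G) :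
    Nat.card (Sylow 2 G) = Nat.card ↥(AA P) + 1 := by
  classical
  haveI := Fintype.ofFinite (Sylow 2 G)
  have h := card_pts X hQ P
  rw [Nat.card_eq_fintype_card, Fintype.card_subtype_compl, Fintype.card_subtype_eq] at h
  rw [Nat.card_eq_fintype_card]
  have : 0 < Fintype.card (Sylow 2 G) := Fintype.card_pos_iff.2 ⟨P⟩
  omega

theorem fix_three' (X : Ctx G) (hQ : QQ G) {P Q R : Sylow 2 G} (hPQ : P ≠ Q) (hPR : P ≠ R) (hQR : Q ≠ R)
    {y : G} (hyP : y • P = P) (hyQ : y • Q = Q) (hyR : y • R = R) : y = 1 :=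
  fix_three X hQ hPQ hPR hQR (smul_eq.1 hyP) (smul_eq.1 hyQ) (smul_eq.1 hyR)

theorem exists_three (X : Ctx G) (hQ : QQ G) (P : Sylow 2 G) :
    ∃ Q R : Sylow 2 G, P ≠ Q ∧ P ≠ R ∧ Q ≠ R := by
  obtain ⟨Q, hQ0⟩ := exists_ne X P
  have hn : Nontrivial {Q : Sylow 2 G // Q ≠ P} := by
    rw [← Finite.one_lt_card_iff_nontrivial, card_pts X hQ P]
    have := (card_AA X P).1
    omega
  obtain ⟨⟨R, hR⟩, hRQ⟩ := @_root_.exists_ne _ hn ⟨Q, hQ0⟩
  exact ⟨Q, R, hQ0.symm, hR.symm, fun h => hRQ (Subtype.ext h.symm)⟩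

end Three

end CfsgLib.H6Ca
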