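import Mathlib
import Cfsg.Agent.LibH6CaC
import Cfsg.Agent.S0731
import Cfsg.Agent.S4702

/-! Groups in which centralizers of involutions are abelian: Zassenhaus groups. -/

set_option autoImplicit false
set_option linter.all false

namespace CfsgLib.H6Ca

open Cfsg Subgroup CfsgLib.Invol CfsgLib.FusionH12 CfsgLib.StrongH12
open scoped Pointwise

section Zas

variable {G : Type*} [Group G] [Finite G]

theorem two_trans (X : Ctx G) (hQ : QQ G) : MulAction.IsMultiplyPretransitive G (Sylow 2 G) 2 := by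
  haveI : Fact (Nat.Prime 2) := ⟨Nat.prime_two⟩
  rw [MulAction.is_two_pretransitive_iff]
  intro a b c d hab hcd
  obtain ⟨g, hg⟩ := MulAction.exists_smul_eq G a c
  have h1 : g • b ≠ c := by rw [← hg]; exact fun h => hab (smul_left_cancel g h).symm
  obtain ⟨x, hx, -⟩ := AA_reg X hQ h1 hcd.symm
  refine ⟨x.1 * g, ?_, ?_⟩
  · rw [mul_smul, hg]; exact smul_eq.2 (AA_le c x.2)
  · rw [mul_smul, hx]

theorem zas (X : Ctx G) (hQ : QQ G) : Cfsg.IsZassenhausGroup G (Sylow 2 G) := by
  classical
  haveI : Fact (Nat.Prime 2) := ⟨Nat.prime_two⟩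
  obtain ⟨P⟩ := (inferInstance : Nonempty (Sylow 2 G))
  obtain ⟨Q, R, hPQ, hPR, hQR⟩ := exists_three X hQ P
  refine ⟨⟨?_⟩, two_trans X hQ, ?_, ?_, ?_⟩
  · intro g h hgh
    have h1 : ∀ S : Sylow 2 G, (h⁻¹ * g) • S = S := fun S => by rw [mul_smul, hgh S, inv_smul_smul]
    exact (inv_mul_eq_one.1 (fix_three' X hQ hPQ hPR hQR (h1 P) (h1 Q) (h1 R))).symm
  · intro g a b c hab hbc hac ha hb hc
    exact fix_three' X hQ hab hac hbc ha hb hc
  · have h1 := card_inf X hQ hPQ
    have h2 := three_le_inv X P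
    haveI : Nontrivial ↥(NN P ⊓ NN Q) := by
      rw [← Finite.one_lt_card_iff_nontrivial, h1]; omega
    obtain ⟨d, hd, hd1⟩ := (Subgroup.nontrivial_iff_exists_ne_one _).1 this
    exact ⟨d, hd1, P, Q, hPQ, smul_eq.2 hd.1, smul_eq.2 hd.2⟩
  · intro N hN hNt
    by_contra hall
    push Not at hall
    -- N is regular, so of odd order
    have hfree : ∀ n ∈ N, ∀ S : Sylow 2 G, n • S = S → n = 1 := by
      intro n hn S hS
      have h1 : (⟨n, hn⟩ : N) ∈ MulAction.stabilizer N S := hS
      rw [hall S, mem_bot] at h1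
      exact congrArg Subtype.val h1
    have hNinv : ∀ n ∈ N, ∀ s : G, orderOf s = 2 → Commute n s → n = 1 := by
      intro n hn s hs hc
      obtain ⟨S, hS⟩ := exists_pt X hs
      exact hfree n hn S (smul_eq.2 (AA_le S (mem_AA_of X hS hs hc)))
    have hodd : Odd (Nat.card N) := by
      apply odd_card_of_forall
      intro t ht ht2
      exact ne_one ht2 (hNinv t ht t ht2 (Commute.refl t))
    -- each involution inverts N
    have hinv : ∀ s : G, orderOf s = 2 → ∀ n ∈ N, s * n * s⁻¹ = n⁻¹ := by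
      intro s hs
      have hconj : ∀ n ∈ N, s * n * s⁻¹ ∈ N := fun n hn => hN.conj_mem n hn s
      let φ : N →* N :=
        { toFun := fun c => ⟨s * c * s⁻¹, hconj c c.2⟩
          map_one' := by ext; simp
          map_mul' := fun a b => by ext; simp [mul_assoc] }
      have hfix : MonoidHom.FixedPointFree φ := by
        intro c hc
        have h1 : s * c * s⁻¹ = (c : G) := congrArg Subtype.val hc
        exact Subtype.ext (hNinv c c.2 s hs (mul_inv_eq_iff_eq_mul.1 h1).symm)
      have hinvol : Function.Involutive φ := by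
        intro c
        ext
        change s * (s * c * s⁻¹) * s⁻¹ = c
        calc s * (s * (c : G) * s⁻¹) * s⁻¹ = (s * s) * c * (s * s)⁻¹ := by group
          _ = c := by rw [mul_self hs]; simp
      have h := hfix.coe_eq_inv_of_involutive hinvol
      intro n hn
      exact congrArg Subtype.val (congrFun h ⟨n, hn⟩)
    -- three involutions in P
    have h3 := three_le_inv X P
    have hn3 : Nontrivial {t : G // orderOf t = 2 ∧ t ∈ NN P} := by
      rw [← Finite.one_lt_card_iff_nontrivial]; omega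
    obtain ⟨⟨s, hs, hsP⟩, ⟨t, ht, htP⟩, hst⟩ := hn3.exists_pair_ne
    have hst' : s ≠ t := fun h => hst (Subtype.ext h)
    have hsP' := inv_mem_of_mem hsP hs
    have htP' := inv_mem_of_mem htP ht
    have hstc := P_comm X hsP' htP'
    have hst2 : orderOf (s * t) = 2 := by
      apply orderOf_eq_two
      · intro h
        apply hst'
        rw [← inv_eq ht]; exact eq_inv_of_mul_eq_one_left h
      · calc s * t * (s * t) = s * (t * s) * t := by group
          _ = s * (s * t) * t := by rw [hstc.eq]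
          _ = (s * s) * (t * t) := by group
          _ = 1 := by rw [mul_self hs, mul_self ht, mul_one]
    have hNone : ∀ n ∈ N, n = 1 := by
      intro n hn
      apply hNinv n hn (s * t) hst2
      have h1 : (s * t) * n * (s * t)⁻¹ = n := by
        calc (s * t) * n * (s * t)⁻¹ = s * (t * n * t⁻¹) * s⁻¹ := by group
          _ = (s * n * s⁻¹)⁻¹ := by rw [hinv t ht n hn]; group
          _ = n := by rw [hinv s hs n hn, inv_inv]
      exact (mul_inv_eq_iff_eq_mul.1 h1).symm
    obtain ⟨⟨n, hn⟩, hnPQ⟩ := hNt.exists_smul_eq P Q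
    have : n • P = Q := hnPQ
    rw [hNone n hn, one_smul] at this
    exact hPQ this

theorem NN_eq_stab (P : Sylow 2 G) : MulAction.stabilizer G P = NN P := by
  ext g; exact smul_eq

theorem alt (X : Ctx G) (hQ : QQ G) :
    (MulAction.IsMultiplyPretransitive G (Sylow 2 G) 3 ∧ ∀ t : Fin 3 ↪ Sylow 2 G, MulAction.stabilizer G t = ⊥) ∨
    ∃ (K : Type) (_ : Field K) (_ : Fintype K), ringChar K ≠ 2 ∧ Nonempty (G ≃* Matrix.ProjectiveSpecialLinearGroup (Fin 2) K) := by
  obtain ⟨P⟩ := (inferInstance : Nonempty (Sylow 2 G))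
  refine Cfsg.Agent.S0731.result (zas X hQ) P (AA P) ?_ ?_ ?_ ?_
  · intro g hg
    rw [NN_eq_stab]; exact AA_le P hg
  · refine ⟨fun n hn g => ?_⟩
    have hg : (g : G) • P = P := g.2
    have hn' : (n : G) ∈ AA P := hn
    have h1 : ((g : G) * n * (g : G)⁻¹ : G) ∈ AA ((g : G) • P) := by
      rw [mem_AA_smul]; simpa [mul_assoc] using hn'
    have h2 : AA ((g : G) • P) = AA P := by rw [hg]
    rw [h2] at h1
    exact h1
  · exact ⟨⟨fun a b => Subtype.ext (AA_comm X a.2 b.2)⟩⟩
  · intro y z hy hz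
    exact AA_reg X hQ hy hz

theorem card_big (X : Ctx G) (hQ : QQ G) : 60 ≤ Nat.card G := by
  haveI : Fact (Nat.Prime 2) := ⟨Nat.prime_two⟩
  obtain ⟨P⟩ := (inferInstance : Nonempty (Sylow 2 G))
  obtain ⟨Q, hQ0⟩ := exists_ne X P
  have h1 := card_Om X hQ P
  have h2 := card_NN X hQ hQ0.symm
  rw [card_inf X hQ hQ0.symm] at h2
  have h3 := three_le_inv X P
  have h4 := (card_AA X P).1
  have h5 : Nat.card (Sylow 2 G) * Nat.card ↥(NN P) = Nat.card G := by
    rw [P.card_eq_index_normalizer, mul_comm]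
    exact (NN P).card_mul_index
  rw [← h5, h1, h2]
  calc 60 = (4 + 1) * (3 * 4) := by norm_num
    _ ≤ _ := Nat.mul_le_mul (Nat.add_le_add_right h4 1) (Nat.mul_le_mul h3 h4)

/-- the sharply triply transitive case -/
theorem case_sharp (X : Ctx G) (hQ : QQ G) (h3 : MulAction.IsMultiplyPretransitive G (Sylow 2 G) 3) :
    ∃ (F : Type) (_ : Field F) (_ : Fintype F) (a : ℕ), 4 ≤ Fintype.card F ∧ Fintype.card F = 2 ^ a ∧
      Nonempty (G ≃* Matrix.SpecialLinearGroup (Fin 2) F) := by
  classical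
  haveI : Fact (Nat.Prime 2) := ⟨Nat.prime_two⟩
  obtain ⟨P⟩ := (inferInstance : Nonempty (Sylow 2 G))
  haveI := Fintype.ofFinite (Sylow 2 G)
  have hc := card_Om X hQ P
  rw [Nat.card_eq_fintype_card] at hc
  obtain ⟨h4, hev⟩ := card_AA X P
  let ρ : G →* Equiv.Perm (Sylow 2 G) := MulAction.toPermHom G (Sylow 2 G)
  have hZ := zas X hQ
  haveI : FaithfulSMul G (Sylow 2 G) := hZ.1
  have hinj : Function.Injective ρ := MulAction.toPerm_injective
  obtain ⟨a, ha, hca, F, iF, iFF, hF, ⟨e⟩⟩ := Cfsg.Agent.S4702.result (α := Sylow 2 G) (by omega)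
    (by rw [hc]; exact hev.add_one) ρ.range (by
      refine ⟨fun x y => ?_⟩
      obtain ⟨g, hg⟩ := h3.exists_smul_eq x y
      refine ⟨⟨ρ g, g, rfl⟩, ?_⟩
      apply DFunLike.ext
      intro i
      exact congrArg (fun z : Fin 3 ↪ Sylow 2 G => z i) hg) (by
      rintro ⟨_, g, rfl⟩ hg
      have h1 : g = 1 := by
        by_contra hg1
        have h2 : ∃ (f : Fin 3 ↪ {S : Sylow 2 G // g • S = S}), True := by
          have hcd : 3 ≤ Nat.card {S : Sylow 2 G // g • S = S} := hg
          haveI := Fintype.ofFinite {S : Sylow 2 G // g • S = S}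
          rw [Nat.card_eq_fintype_card] at hcd
          obtain ⟨f⟩ := Function.Embedding.nonempty_of_card_le (α := Fin 3) (β := {S : Sylow 2 G // g • S = S})
            (by simpa using hcd)
          exact ⟨f, trivial⟩
        obtain ⟨f, -⟩ := h2
        apply hg1
        have hne : ∀ i j : Fin 3, i ≠ j → ((f i) : Sylow 2 G) ≠ f j := fun i j hij h =>
          hij (f.injective (Subtype.ext h))
        exact fix_three' X hQ (hne 0 1 (by decide)) (hne 0 2 (by decide)) (hne 1 2 (by decide))
          (f 0).2 (f 1).2 (f 2).2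
      subst h1
      exact Subtype.ext (map_one ρ))
  refine ⟨F, iF, iFF, a, ?_, hF, ⟨(MonoidHom.ofInjective hinj).trans e⟩⟩
  rw [hF]; omega

end Zas

end CfsgLib.H6Ca
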