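import Cfsg.Agent.LibH6P2C
import Cfsg.Agent.LibG2C

/-! Class sizes of `PSL(2,q)`. -/

set_option autoImplicit false

namespace CfsgLib.H6P2

open Matrix CfsgLib.G2B

universe v

variable {F : Type v} [Field F]

local notation "SL2" => Matrix.SpecialLinearGroup (Fin 2) F
local notation "PSL2" => Matrix.ProjectiveSpecialLinearGroup (Fin 2) F
local notation "M2" => Matrix (Fin 2) (Fin 2) F

theorem index_centralizer {G : Type*} [Group G] [Finite G] (g : G) :
    (Subgroup.centralizer ({g} : Set G)).index = Nat.card {h : G // IsConj g h} := by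
  have h1 := CfsgLib.G2C.card_carrier g
  have h2 := Subgroup.card_mul_index (Subgroup.centralizer ({g} : Set G))
  have h3 : 0 < Nat.card (Subgroup.centralizer ({g} : Set G)) := Nat.card_pos
  have h4 : Nat.card (ConjClasses.mk g).carrier = Nat.card {h : G // IsConj g h} := by
    apply Nat.card_congr
    refine Equiv.subtypeEquivRight fun h => ?_
    rw [ConjClasses.mem_carrier_iff_mk_eq, ConjClasses.mk_eq_mk_iff_isConj]
    exact isConj_comm
  rw [← h4]
  apply Nat.eq_of_mul_eq_mul_left h3
  rw [h2, ← h1, mul_comm]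

section count
variable [Fintype F] [DecidableEq F]

theorem count_mul (d : F) : (Finset.univ.filter (fun x : F × F => x.1 * x.2 = d)).card =
    (Fintype.card F - 1) + if d = 0 then Fintype.card F else 0 := by
  rw [Finset.card_filter, Fintype.sum_prod_type]
  have h1 : ∀ b : F, (∑ c : F, if b * c = d then 1 else 0) = if b = 0 then (if d = 0 then Fintype.card F else 0) else 1 := by
    intro b
    by_cases hb : b = 0
    · rw [if_pos hb, hb]
      simp only [zero_mul]
      by_cases hd : d = 0
      · rw [if_pos hd]; simp [hd]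
      · rw [if_neg hd]; simp [Ne.symm hd]
    · rw [if_neg hb]
      have : ∀ c : F, (b * c = d) ↔ (c = b⁻¹ * d) := by
        intro c
        constructor
        · rintro rfl; rw [inv_mul_cancel_left₀ hb]
        · rintro rfl; rw [mul_inv_cancel_left₀ hb]
      simp [this]
  rw [Finset.sum_congr rfl (fun b _ => h1 b), ← Finset.add_sum_erase _ _ (Finset.mem_univ (0 : F)), if_pos rfl,
    Finset.sum_congr rfl (g := fun _ => 1) (fun b hb => if_neg (Finset.ne_of_mem_erase hb)), Finset.sum_const,
    Finset.card_erase_of_mem (Finset.mem_univ _), Finset.card_univ, smul_eq_mul, mul_one, add_comm]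

/-- number of roots of `a² - t a + 1` -/
def rho (t : F) : ℕ := (Finset.univ.filter (fun a : F => a ^ 2 - t * a + 1 = 0)).card

theorem card_trace (t : F) : Nat.card {B : SL2 // (B : M2).trace = t} =
    Fintype.card F * (Fintype.card F - 1) + Fintype.card F * rho t := by
  have e : {B : SL2 // (B : M2).trace = t} ≃ {p : F × F × F // p.2.1 * p.2.2 = p.1 * (t - p.1) - 1} :=
    { toFun := fun B => ⟨(B.1.1 0 0, B.1.1 0 1, B.1.1 1 0), by
        have h := B.1.2
        have ht := B.2
        rw [det_fin_two] at h
        rw [trace_fin_two] at ht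
        show B.1.1 0 1 * B.1.1 1 0 = B.1.1 0 0 * (t - B.1.1 0 0) - 1
        linear_combination -h + (B.1.1 0 0) * ht⟩
      invFun := fun p => ⟨mkSL !![p.1.1, p.1.2.1; p.1.2.2, t - p.1.1] (by
        rw [det_fin_two_of, p.2]; ring), by
        rw [mkSL_coe, trace_fin_two_of]; ring⟩
      left_inv := by
        rintro ⟨B, hB⟩
        apply Subtype.ext
        apply Subtype.ext
        apply ext2
        · rfl
        · rfl
        · rfl
        · show t - B.1 0 0 = B.1 1 1
          rw [← hB, trace_fin_two]; ring
      right_inv := by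
        rintro ⟨⟨a, b, c⟩, h⟩
        rfl }
  rw [Nat.card_congr e, Nat.card_eq_fintype_card, Fintype.card_subtype, Finset.card_filter, Fintype.sum_prod_type]
  have h1 : ∀ a : F, (∑ y : F × F, if (a, y).2.1 * (a, y).2.2 = (a, y).1 * (t - (a, y).1) - 1 then 1 else 0) =
      (Fintype.card F - 1) + if a ^ 2 - t * a + 1 = 0 then Fintype.card F else 0 := by
    intro a
    have h2 := count_mul (a * (t - a) - 1)
    rw [Finset.card_filter] at h2
    rw [h2]
    congr 1
    apply if_congr _ rfl rfl
    constructor
    · intro h; linear_combination -h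
    · intro h; linear_combination -h
  rw [Finset.sum_congr rfl (fun a _ => h1 a), Finset.sum_add_distrib, Finset.sum_const, Finset.card_univ, smul_eq_mul]
  congr 1
  rw [← Finset.sum_filter, Finset.sum_const, smul_eq_mul, mul_comm]
  rfl

theorem rho_cases (t : F) (ht : t ^ 2 ≠ 4) : rho t = 0 ∨ rho t = 2 := by
  by_cases h : ∃ l : F, l ^ 2 - t * l + 1 = 0
  · right
    obtain ⟨l, hl⟩ := h
    have hlm : l * (t - l) = 1 := by linear_combination -hl
    have hne : l ≠ t - l := by
      intro h
      apply ht
      rw [← h] at hlm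
      have h2 : t = 2 * l := by linear_combination -h
      rw [h2]; linear_combination 4 * hlm
    unfold rho
    have : (Finset.univ.filter (fun a : F => a ^ 2 - t * a + 1 = 0)) = {l, t - l} := by
      ext a
      rw [Finset.mem_filter, Finset.mem_insert, Finset.mem_singleton]
      constructor
      · rintro ⟨_, ha⟩
        have h3 : (a - l) * (a - (t - l)) = 0 := by linear_combination ha + hlm
        rcases mul_eq_zero.mp h3 with h4 | h4
        · left; exact sub_eq_zero.mp h4
        · right; exact sub_eq_zero.mp h4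
      · rintro (rfl | rfl)
        · exact ⟨Finset.mem_univ _, hl⟩
        · exact ⟨Finset.mem_univ _, by linear_combination hl⟩
    rw [this, Finset.card_pair hne]
  · left
    unfold rho
    rw [Finset.card_eq_zero, Finset.filter_eq_empty_iff]
    intro a _ ha
    exact h ⟨a, ha⟩

theorem rho_pos {t l : F} (hl : l ^ 2 - t * l + 1 = 0) : 0 < rho t :=
  Finset.card_pos.mpr ⟨l, Finset.mem_filter.mpr ⟨Finset.mem_univ _, hl⟩⟩

theorem sum_rho : ∑ t : F, rho t = Fintype.card F - 1 := by
  have h1 : ∀ t : F, rho t = ∑ a : F, if a ^ 2 - t * a + 1 = 0 then 1 else 0 := fun t => Finset.card_filter _ _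
  rw [Finset.sum_congr rfl (fun t _ => h1 t), Finset.sum_comm]
  have h2 : ∀ a : F, (∑ t : F, if a ^ 2 - t * a + 1 = 0 then 1 else 0) = if a = 0 then 0 else 1 := by
    intro a
    by_cases ha : a = 0
    · simp [ha]
    · rw [if_neg ha]
      have : ∀ t : F, (a ^ 2 - t * a + 1 = 0) ↔ (t = (a ^ 2 + 1) / a) := by
        intro t
        rw [eq_div_iff ha]
        constructor
        · intro h; linear_combination -h
        · intro h; linear_combination -h
      simp [this]
  rw [Finset.sum_congr rfl (fun a _ => h2 a), ← Finset.add_sum_erase _ _ (Finset.mem_univ (0 : F)), if_pos rfl,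
    Finset.sum_congr rfl (g := fun _ => 1) (fun b hb => if_neg (Finset.ne_of_mem_erase hb)), Finset.sum_const,
    Finset.card_erase_of_mem (Finset.mem_univ _), Finset.card_univ, smul_eq_mul, mul_one, zero_add]

end count

section classes
variable [Fintype F] [DecidableEq F]

theorem hform (t : F) (ht : t ^ 2 ≠ 4) : ∀ δ : F, δ ≠ 0 → ∃ a b : F, a ^ 2 + t * a * b + b ^ 2 = δ := by
  rcases even_or_odd (F := F) with ⟨_, h2⟩ | ⟨_, _, h3⟩
  · haveI : CharP F 2 := (CharP.charP_iff_prime_eq_zero Nat.prime_two).mpr (by exact_mod_cast h2)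
    exact fun δ _ => form_char_two _ δ
  · exact fun δ _ => form_odd h3 _ δ ht

theorem conj_iff_trace (X B : SL2) (ht : (X : M2).trace ^ 2 ≠ 4) :
    IsConj X B ↔ (B : M2).trace = (X : M2).trace := by
  constructor
  · intro h; exact (sl_conj_trace h).symm
  · intro h
    exact sl_conj (not_isSc_of_trace ht) (not_isSc_of_trace (by rw [h]; exact ht)) h.symm (hform _ ht)

theorem mk_eq_iff (A B : SL2) : (QuotientGroup.mk A : PSL2) = QuotientGroup.mk B ↔ B = A ∨ B = -A := by
  constructor
  · intro h
    rw [QuotientGroup.eq] at h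
    rcases center_sc h with h1 | h1
    · left; rw [inv_mul_eq_one] at h1; exact h1.symm
    · right; rw [inv_mul_eq_iff_eq_mul] at h1; rw [h1, mul_neg, mul_one]
  · rintro (rfl | rfl)
    · rfl
    · exact (neg_mk A).symm

theorem isConj_mk_iff (X : SL2) (h : PSL2) : IsConj (QuotientGroup.mk X : PSL2) h ↔ ∃ B : SL2, IsConj X B ∧ QuotientGroup.mk B = h := by
  constructor
  · intro hc
    obtain ⟨c, rfl⟩ := isConj_iff.mp hc
    obtain ⟨C, rfl⟩ := QuotientGroup.mk_surjective c
    exact ⟨C * X * C⁻¹, isConj_iff.mpr ⟨C, rfl⟩, rfl⟩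
  · rintro ⟨B, hB, rfl⟩
    obtain ⟨C, rfl⟩ := isConj_iff.mp hB
    exact isConj_iff.mpr ⟨QuotientGroup.mk C, rfl⟩

/-- the class sizes agree when the trace is nonzero or the characteristic is two -/
theorem card_class_mk (X : SL2) (h : (X : M2).trace ≠ 0 ∨ (2 : F) = 0) :
    Nat.card {h : PSL2 // IsConj (QuotientGroup.mk X : PSL2) h} = Nat.card {B : SL2 // IsConj X B} := by
  symm
  apply Nat.card_eq_of_bijective (fun B : {B : SL2 // IsConj X B} =>
    (⟨QuotientGroup.mk B.1, (isConj_mk_iff X _).mpr ⟨B.1, B.2, rfl⟩⟩ : {h : PSL2 // IsConj (QuotientGroup.mk X : PSL2) h}))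
  constructor
  · rintro ⟨A, hA⟩ ⟨B, hB⟩ hAB
    have h1 : (QuotientGroup.mk A : PSL2) = QuotientGroup.mk B := congrArg Subtype.val hAB
    apply Subtype.ext
    rcases (mk_eq_iff A B).mp h1 with h2 | h2
    · exact h2.symm
    · by_cases h2F : (2 : F) = 0
      · show A = B
        rw [h2]
        apply Subtype.ext
        rw [Matrix.SpecialLinearGroup.coe_neg]
        ext i j
        rw [Matrix.neg_apply]
        linear_combination ((A : M2) i j) * h2F
      · exfalso
        have h := h.resolve_right h2F
        have h3 := sl_conj_trace hA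
        have h4 := sl_conj_trace hB
        rw [h2, Matrix.SpecialLinearGroup.coe_neg, trace_neg, ← h3] at h4
        have h5 : (2 : F) * (X : M2).trace = 0 := by linear_combination h4
        rcases mul_eq_zero.mp h5 with h6 | h6
        · exact h2F h6
        · exact h h6
  · rintro ⟨h, hh⟩
    obtain ⟨B, hB, rfl⟩ := (isConj_mk_iff X h).mp hh
    exact ⟨⟨B, hB⟩, rfl⟩

end classes

end CfsgLib.H6P2
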