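import Mathlib
import Cfsg.Agent.LibH6CaD
import Cfsg.Agent.LibH6P2D
import Cfsg.Agent.S0251
import Cfsg.Agent.S0252
import Cfsg.Agent.S0253

/-! Groups in which centralizers of involutions are abelian: the groups `PSL₂(K)`, `K` odd. -/

set_option autoImplicit false
set_option linter.all false

namespace CfsgLib.H6Ca

open Cfsg Subgroup CfsgLib.Invol CfsgLib.FusionH12 CfsgLib.StrongH12 CfsgLib.G2B CfsgLib.H6P2 Matrix
open scoped Pointwise

universe v

section Odd

variable {F : Type v} [Field F]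

local notation "SL2" => Matrix.SpecialLinearGroup (Fin 2) F
local notation "PSL2" => Matrix.ProjectiveSpecialLinearGroup (Fin 2) F
local notation "M2" => Matrix (Fin 2) (Fin 2) F

theorem two_sq [Fintype F] (h2 : (2 : F) ≠ 0) : ∃ c d : F, -(c * c) - d * d = 1 := by
  have hodd : Fintype.card F % 2 = 1 := FiniteField.odd_card_of_char_ne_two (fun h => h2 (by
    have := (ringChar.spec F 2).2 (by rw [h])
    exact_mod_cast this))
  obtain ⟨a, b, hab⟩ := FiniteField.exists_root_sum_quadratic (R := F) (f := Polynomial.X ^ 2 + Polynomial.C 1)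
    (g := Polynomial.X ^ 2) (by rw [Polynomial.degree_X_pow_add_C (by norm_num)]; rfl)
    (by rw [Polynomial.degree_X_pow]; rfl) hodd
  simp at hab
  exact ⟨a, b, by linear_combination -hab⟩

theorem odd_small [Fintype F] (h2 : (2 : F) ≠ 0)
    (hC : ∀ t : PSL2, orderOf t = 2 → ∀ a b : PSL2, Commute a t → Commute b t → Commute a b) :
    Fintype.card F ≤ 5 := by
  classical
  by_contra hgt
  -- a good parameter
  obtain ⟨u, hu0, hu1, hu2⟩ : ∃ u : F, u ≠ 0 ∧ 1 - u ^ 2 ≠ 0 ∧ 1 + u ^ 2 ≠ 0 := by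
    by_contra hall
    push Not at hall
    have h4 : ∀ x : Fˣ, x ^ 4 = 1 := by
      intro x
      ext
      push_cast
      by_cases h : 1 - (x : F) ^ 2 = 0
      · linear_combination (-(1 + (x : F) ^ 2)) * h
      · have := hall x x.ne_zero h
        linear_combination (-(1 - (x : F) ^ 2)) * this
    have h5 := (FiniteField.forall_pow_eq_one_iff F 4).1 h4
    have := Nat.le_of_dvd (by norm_num) h5
    omega
  obtain ⟨c, d, hcd⟩ := two_sq h2
  set a : F := (1 - u ^ 2) / (1 + u ^ 2) with ha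
  set b : F := 2 * u / (1 + u ^ 2) with hb
  have hab : a * a + b * b = 1 := by rw [ha, hb]; field_simp; ring
  have ha0 : a ≠ 0 := div_ne_zero hu1 hu2
  have hb0 : b ≠ 0 := div_ne_zero (mul_ne_zero h2 hu0) hu2
  have hJ : (!![0, 1; -1, 0] : M2).det = 1 := by rw [det_fin_two_of]; ring
  have hR : (!![a, b; -b, a] : M2).det = 1 := by rw [det_fin_two_of]; linear_combination hab
  have hS : (!![c, d; d, -c] : M2).det = 1 := by rw [det_fin_two_of]; linear_combination hcd
  have hJJ : mkSL _ hJ * mkSL _ hJ = -1 := by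
    apply Subtype.ext
    change (!![0, 1; -1, 0] : M2) * !![0, 1; -1, 0] = -1
    ext i j; fin_cases i <;> fin_cases j <;> simp
  have hJ1 : (QuotientGroup.mk (mkSL _ hJ) : PSL2) ≠ 1 := by
    intro h
    have h1 : (QuotientGroup.mk (mkSL _ hJ) : PSL2) = QuotientGroup.mk 1 := h
    rw [mk_eq_iff] at h1
    rcases h1 with h1 | h1
    · have h3 : (1 : M2) 0 1 = (!![0, 1; -1, 0] : M2) 0 1 := congrArg (fun X : SL2 => X.1 0 1) h1
      simp at h3
    · have h3 : (1 : M2) 0 1 = (-(!![0, 1; -1, 0] : M2)) 0 1 := congrArg (fun X : SL2 => X.1 0 1) h1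
      simp at h3
  have hJ2 : orderOf (QuotientGroup.mk (mkSL _ hJ) : PSL2) = 2 := by
    apply orderOf_eq_two hJ1
    rw [← QuotientGroup.mk_mul, hJJ, neg_mk]; rfl
  have hRJ : Commute (QuotientGroup.mk (mkSL _ hR) : PSL2) (QuotientGroup.mk (mkSL _ hJ)) := by
    change _ * _ = _ * _
    rw [← QuotientGroup.mk_mul, ← QuotientGroup.mk_mul]
    congr 1
    apply Subtype.ext
    change (!![a, b; -b, a] : M2) * !![0, 1; -1, 0] = !![0, 1; -1, 0] * !![a, b; -b, a]
    ext i j; fin_cases i <;> fin_cases j <;> simp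
  have hSJ : Commute (QuotientGroup.mk (mkSL _ hS) : PSL2) (QuotientGroup.mk (mkSL _ hJ)) := by
    change _ * _ = _ * _
    rw [← QuotientGroup.mk_mul, ← QuotientGroup.mk_mul, mk_eq_iff]
    right
    apply Subtype.ext
    change (!![0, 1; -1, 0] : M2) * !![c, d; d, -c] = -(!![c, d; d, -c] * !![0, 1; -1, 0])
    ext i j; fin_cases i <;> fin_cases j <;> simp
  have hRS := hC _ hJ2 _ _ hRJ hSJ
  have h1 : (QuotientGroup.mk (mkSL _ hR * mkSL _ hS) : PSL2) = QuotientGroup.mk (mkSL _ hS * mkSL _ hR) := hRS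
  rw [mk_eq_iff] at h1
  have hz : ∀ x y : F, x ≠ 0 → x * y + x * y = 0 → y = 0 := by
    intro x y hx h
    have : (2 : F) * (x * y) = 0 := by linear_combination h
    rcases mul_eq_zero.1 this with h | h
    · exact absurd h h2
    · exact (mul_eq_zero.1 h).resolve_left hx
  have hcd0 : c = 0 ∧ d = 0 := by
    rcases h1 with h1 | h1
    · have e1 := congrArg (fun X : SL2 => X.1 0 0) h1
      have e2 := congrArg (fun X : SL2 => X.1 0 1) h1
      change ((!![c, d; d, -c] : M2) * !![a, b; -b, a]) 0 0 = ((!![a, b; -b, a] : M2) * !![c, d; d, -c]) 0 0 at e1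
      change ((!![c, d; d, -c] : M2) * !![a, b; -b, a]) 0 1 = ((!![a, b; -b, a] : M2) * !![c, d; d, -c]) 0 1 at e2
      simp at e1 e2
      exact ⟨hz b c hb0 (by linear_combination e2), hz b d hb0 (by linear_combination -e1)⟩
    · have e1 := congrArg (fun X : SL2 => X.1 0 0) h1
      have e2 := congrArg (fun X : SL2 => X.1 0 1) h1
      change ((!![c, d; d, -c] : M2) * !![a, b; -b, a]) 0 0 = -((!![a, b; -b, a] : M2) * !![c, d; d, -c]) 0 0 at e1
      change ((!![c, d; d, -c] : M2) * !![a, b; -b, a]) 0 1 = -((!![a, b; -b, a] : M2) * !![c, d; d, -c]) 0 1 at e2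
      simp at e1 e2
      exact ⟨hz a c ha0 (by linear_combination e1), hz a d ha0 (by linear_combination e2)⟩
  rw [hcd0.1, hcd0.2] at hcd
  simp at hcd

/-- in even characteristic `PSL₂ = SL₂` -/
theorem psl_equiv_sl (h2 : (2 : F) = 0) : Nonempty (PSL2 ≃* SL2) := by
  have hc : Subgroup.center SL2 = ⊥ := by
    rw [eq_bot_iff]
    intro z hz
    rw [Subgroup.mem_bot]
    rcases center_sc hz with h | h
    · exact h
    · rw [h]
      apply Subtype.ext
      ext i j
      have : (-1 : F) = 1 := by linear_combination (-1 : F) * h2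
      fin_cases i <;> fin_cases j <;> simp [this]
  exact ⟨(QuotientGroup.quotientMulEquivOfEq hc).trans QuotientGroup.quotientBot⟩

end Odd

end CfsgLib.H6Ca
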