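import Mathlib
import Cfsg.Agent.LibH6CaE

/-! Groups in which centralizers of involutions are abelian: identification. -/

set_option autoImplicit false
set_option linter.all false

namespace CfsgLib.H6Ca

open Cfsg Subgroup CfsgLib.Invol CfsgLib.FusionH12 CfsgLib.StrongH12 CfsgLib.G2B CfsgLib.H6P2 Matrix
open scoped Pointwise

universe u v

section Fin

variable {G : Type u} [Group G] [Finite G]

theorem fin (X : Ctx G) (hQ : QQ G) : ∃ (F : Type) (_ : Field F) (_ : Fintype F), (2 : F) = 0 ∧
    4 ≤ Fintype.card F ∧ Nonempty (G ≃* Matrix.SpecialLinearGroup (Fin 2) F) := by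
  rcases alt X hQ with ⟨h3, -⟩ | ⟨K, iK, iKF, hK, ⟨e⟩⟩
  · obtain ⟨F, iF, iFF, a, h4, ha, he⟩ := case_sharp X hQ h3
    refine ⟨F, iF, iFF, ?_, h4, he⟩
    have h1 : ((Fintype.card F : ℕ) : F) = 0 := FiniteField.cast_card_eq_zero F
    rw [ha] at h1
    push_cast at h1
    exact (pow_eq_zero_iff (by
      rintro rfl
      simp at ha; omega)).1 h1
  · have h2 : (2 : K) ≠ 0 := Ring.two_ne_zero hK
    have hC : ∀ t : Matrix.ProjectiveSpecialLinearGroup (Fin 2) K, orderOf t = 2 →
        ∀ a b : Matrix.ProjectiveSpecialLinearGroup (Fin 2) K, Commute a t → Commute b t → Commute a b := by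
      intro t ht a b ha hb
      have h1 : orderOf (e.symm t) = 2 := (MulEquiv.orderOf_eq _ _).trans ht
      have h3 := X.hC _ h1 (e.symm a) (e.symm b) (ha.map e.symm.toMonoidHom) (hb.map e.symm.toMonoidHom)
      have h4 := h3.map e.toMonoidHom
      simpa using h4
    have h5 := odd_small h2 hC
    have hodd := FiniteField.odd_card_of_char_ne_two hK
    have h1 : 1 < Fintype.card K := Fintype.one_lt_card
    have hcases : Fintype.card K = 3 ∨ Fintype.card K = 5 := by
      interval_cases h : Fintype.card K <;> simp_all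
    rcases hcases with hc | hc
    · exfalso
      obtain ⟨e2⟩ := Cfsg.Agent.S0251.result hc
      have h6 := Nat.card_congr (e.trans e2).toEquiv
      have h7 := card_big X hQ
      have h8 : Nat.card (alternatingGroup (Fin 4)) = 12 := by
        rw [nat_card_alternatingGroup]; simp; rfl
      omega
    · haveI : Fact (Nat.Prime 2) := ⟨Nat.prime_two⟩
      letI : Fintype (GaloisField 2 2) := Fintype.ofFinite _
      have h4 : Fintype.card (GaloisField 2 2) = 4 := by
        rw [← Nat.card_eq_fintype_card, GaloisField.card 2 2 (by norm_num)]; norm_num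
      obtain ⟨e2⟩ := Cfsg.Agent.S0253.result hc
      obtain ⟨e3⟩ := Cfsg.Agent.S0252.result h4
      have h2' : (2 : GaloisField 2 2) = 0 := CharTwo.two_eq_zero
      obtain ⟨e4⟩ := psl_equiv_sl h2'
      exact ⟨GaloisField 2 2, inferInstance, inferInstance, h2', by rw [h4],
        ⟨((e.trans e2).trans e3.symm).trans e4⟩⟩

end Fin

section Lem

variable {F : Type v} [Field F]

local notation "SL2" => Matrix.SpecialLinearGroup (Fin 2) F
local notation "M2" => Matrix (Fin 2) (Fin 2) F

def xx (a : F) : SL2 := ⟨!![1, a; 0, 1], by rw [det_fin_two_of]; ring⟩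

theorem xx_mul (a b : F) : xx a * xx b = xx (a + b) := by
  apply Subtype.ext
  change (!![1, a; 0, 1] : M2) * !![1, b; 0, 1] = !![1, a + b; 0, 1]
  ext i j; fin_cases i <;> fin_cases j <;> simp [add_comm]

theorem xx_inv (a : F) : (xx a)⁻¹ = xx (-a) := by
  rw [inv_eq_iff_mul_eq_one, xx_mul, add_neg_cancel]
  apply Subtype.ext
  change (!![1, 0; 0, 1] : M2) = 1
  ext i j; fin_cases i <;> fin_cases j <;> simp

theorem xx_order (h2 : (2 : F) = 0) {a : F} (ha : a ≠ 0) : orderOf (xx a) = 2 := by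
  apply orderOf_eq_two
  · intro h
    have h3 : (!![1, a; 0, 1] : M2) 0 1 = (1 : M2) 0 1 := congrArg (fun X : SL2 => X.1 0 1) h
    simp at h3; exact ha h3
  · rw [xx_mul]
    have : a + a = 0 := by linear_combination a * h2
    rw [this]
    apply Subtype.ext
    change (!![1, 0; 0, 1] : M2) = 1
    ext i j; fin_cases i <;> fin_cases j <;> simp

def yy : SL2 := ⟨!![1, 0; 1, 1], by rw [det_fin_two_of]; ring⟩

theorem yy_order (h2 : (2 : F) = 0) : orderOf (yy (F := F)) = 2 := by
  apply orderOf_eq_two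
  · intro h
    have h3 : (!![1, 0; 1, 1] : M2) 1 0 = (1 : M2) 1 0 := congrArg (fun X : SL2 => X.1 1 0) h
    simp at h3
  · apply Subtype.ext
    change (!![1, 0; 1, 1] : M2) * !![1, 0; 1, 1] = 1
    ext i j; fin_cases i <;> fin_cases j <;> simp
    linear_combination h2

/-- reduced form of the lemma -/
theorem no_odd_aux (h2 : (2 : F) = 0) [Finite F] (D : Subgroup SL2) (hD : Odd (Nat.card D))
    (α : F) (hα : α ≠ 0) (hα1 : α ^ 2 ≠ 1) (h : SL2) (hh : h.1 = !![α, 0; 0, α⁻¹]) (hhD : h ∈ D)
    (e : SL2) (heD : e ∈ D) (he : e * xx 1 * e⁻¹ = yy) : False := by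
  have h1 : e * xx 1 = yy * e := by rw [← he]; group
  have h1' : (e.1 : M2) * !![1, 1; 0, 1] = !![1, 0; 1, 1] * e.1 := congrArg Subtype.val h1
  have e00 := congrFun (congrFun h1' 0) 1
  have e10 := congrFun (congrFun h1' 1) 1
  simp [Matrix.mul_apply, Fin.sum_univ_two] at e00 e10
  -- p = 0, r = q
  have hp : e.1 0 0 = 0 := e00
  have hr : e.1 1 0 = e.1 0 1 := by linear_combination e10
  have hdet : e.1 0 0 * e.1 1 1 - e.1 0 1 * e.1 1 0 = 1 := by
    have := e.2; rwa [det_fin_two] at this
  have hq : e.1 0 1 = 1 := by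
    rw [hp, hr] at hdet
    have h3 : (e.1 0 1 - 1) ^ 2 = 0 := by linear_combination -hdet - (e.1 0 1) * h2
    have := pow_eq_zero_iff (two_ne_zero) |>.1 h3
    linear_combination this
  set s := e.1 1 1 with hs
  have hemat : e.1 = !![0, 1; 1, s] := by
    ext i j; fin_cases i <;> fin_cases j
    · exact hp
    · exact hq
    · exact hr.trans hq
    · rfl
  have heinv : (e⁻¹).1 = !![s, 1; 1, 0] := by
    rw [inv_coe, hemat]
    have : (-1 : F) = 1 := by linear_combination (-1 : F) * h2
    ext i j; fin_cases i <;> fin_cases j <;> simp [this]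
  -- the product
  set w : SL2 := h * (e * h * e⁻¹) with hw
  have hwD : w ∈ D := mul_mem hhD (mul_mem (mul_mem heD hhD) (inv_mem heD))
  have hwmat : w.1 = !![1, 0; s * (1 + (α⁻¹) ^ 2), 1] := by
    have : w.1 = h.1 * (e.1 * h.1 * (e⁻¹).1) := rfl
    rw [this, hh, hemat, heinv]
    ext i j; fin_cases i <;> fin_cases j <;> simp [Matrix.mul_apply, Fin.sum_univ_two, hα]
    field_simp
  have hww : w * w = 1 := by
    apply Subtype.ext
    change w.1 * w.1 = 1
    rw [hwmat]
    ext i j; fin_cases i <;> fin_cases j <;> simp [Matrix.mul_apply, Fin.sum_univ_two]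
    linear_combination (s * (1 + (α⁻¹) ^ 2)) * h2
  have hw1 : w = 1 := by
    by_contra hne
    exact not_odd_card_of_mem hwD (orderOf_eq_two hne hww) hD
  have hs0 : s = 0 := by
    have h3 : w.1 1 0 = 0 := by rw [hw1]; simp
    rw [hwmat] at h3
    simp at h3
    rcases h3 with h3 | h3
    · exact h3
    · exfalso
      apply hα1
      have h4 : α ^ 2 + 1 = 0 := by
        field_simp at h3
        linear_combination h3
      linear_combination h4 - h2
  have hee : e * e = 1 := by
    apply Subtype.ext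
    change e.1 * e.1 = 1
    rw [hemat, hs0]
    ext i j; fin_cases i <;> fin_cases j <;> simp [Matrix.mul_apply, Fin.sum_univ_two]
  have he1 : e ≠ 1 := by
    intro h3
    have h4 : e.1 0 1 = 0 := by rw [h3]; simp
    rw [hq] at h4
    exact one_ne_zero h4
  exact not_odd_card_of_mem heD (orderOf_eq_two he1 hee) hD

/-- no subgroup of odd order is transitive on the involutions -/
theorem no_odd [Fintype F] (h2 : (2 : F) = 0) (h4 : 4 ≤ Fintype.card F) (D : Subgroup SL2) (hD : Odd (Nat.card D))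
    (htr : ∀ s t : SL2, orderOf s = 2 → orderOf t = 2 → ∃ d ∈ D, d * s * d⁻¹ = t) : False := by
  classical
  -- choose α
  obtain ⟨α, hα, hα1⟩ : ∃ α : F, α ≠ 0 ∧ α ≠ 1 := by
    by_contra hall
    push Not at hall
    have : (Finset.univ : Finset F) ⊆ {0, 1} := by
      intro x _
      by_cases hx : x = 0
      · simp [hx]
      · simp [hall x hx]
    have h5 := Finset.card_le_card this
    have h6 : ({0, 1} : Finset F).card ≤ 2 := Finset.card_le_two
    rw [Finset.card_univ] at h5
    omega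
  have hα2 : α ^ 2 ≠ 1 := by
    intro h
    apply hα1
    have h3 : (α - 1) ^ 2 = 0 := by linear_combination h + (1 - α) * h2
    have := pow_eq_zero_iff (two_ne_zero) |>.1 h3
    linear_combination this
  obtain ⟨d, hdD, hd⟩ := htr (xx 1) (xx (α ^ 2)) (xx_order h2 one_ne_zero) (xx_order h2 (pow_ne_zero _ hα))
  have h1 : d * xx 1 = xx (α ^ 2) * d := by rw [← hd]; group
  have h1' : (d.1 : M2) * !![1, 1; 0, 1] = !![1, α ^ 2; 0, 1] * d.1 := congrArg Subtype.val h1
  have e00 := congrFun (congrFun h1' 0) 0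
  have e01 := congrFun (congrFun h1' 0) 1
  simp [Matrix.mul_apply, Fin.sum_univ_two, hα] at e00 e01
  have hdet : d.1 0 0 * d.1 1 1 - d.1 0 1 * d.1 1 0 = 1 := by
    have := d.2; rwa [det_fin_two] at this
  have hp : d.1 0 0 = α ^ 2 * d.1 1 1 := by linear_combination e01
  have hs : d.1 1 1 = α⁻¹ := by
    rw [e00, hp] at hdet
    have h3 : (α * d.1 1 1 - 1) ^ 2 = 0 := by linear_combination hdet + (1 - α * d.1 1 1) * h2
    have h5 := pow_eq_zero_iff (two_ne_zero) |>.1 h3
    field_simp
    linear_combination h5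
  have hp' : d.1 0 0 = α := by rw [hp, hs]; field_simp
  set β := d.1 0 1 with hβ
  have hdmat : d.1 = !![α, β; 0, α⁻¹] := by
    ext i j; fin_cases i <;> fin_cases j
    · exact hp'
    · rfl
    · exact e00
    · exact hs
  have hne : α - α⁻¹ ≠ 0 := by
    intro h
    apply hα2
    field_simp at h
    linear_combination h
  -- conjugate by `xx w`
  set w : F := β / (α⁻¹ - α) with hw
  have hne' : α⁻¹ - α ≠ 0 := by intro h; apply hne; linear_combination -h
  let D' : Subgroup SL2 := D.map (MulAut.conj (xx (-w))).toMonoidHom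
  have hmem : ∀ x : SL2, x ∈ D' ↔ (xx (-w))⁻¹ * x * xx (-w) ∈ D := by
    intro x
    constructor
    · rintro ⟨y, hy, rfl⟩
      have : (xx (-w))⁻¹ * ((MulAut.conj (xx (-w))).toMonoidHom y) * xx (-w) = y := by
        change (xx (-w))⁻¹ * (xx (-w) * y * (xx (-w))⁻¹) * xx (-w) = y
        group
      rw [this]; exact hy
    · intro hx
      refine ⟨_, hx, ?_⟩
      change xx (-w) * ((xx (-w))⁻¹ * x * xx (-w)) * (xx (-w))⁻¹ = x
      group
  have hD' : Odd (Nat.card D') := by
    have : Nat.card D' = Nat.card D := Subgroup.card_map_of_injective (MulAut.conj (xx (-w))).injective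
    rw [this]; exact hD
  obtain ⟨e, heD, he⟩ := htr ((xx (-w))⁻¹ * xx 1 * xx (-w)) ((xx (-w))⁻¹ * yy * xx (-w))
    (by rw [orderOf_conj', xx_order h2 one_ne_zero]) (by rw [orderOf_conj', yy_order h2])
  refine no_odd_aux h2 D' hD' α hα hα2 (xx (-w) * d * (xx (-w))⁻¹) ?_ ?_ (xx (-w) * e * (xx (-w))⁻¹) ?_ ?_
  · rw [xx_inv]
    change (!![1, -w; 0, 1] : M2) * d.1 * !![1, - -w; 0, 1] = _
    rw [hdmat]
    have h5 : α * w + β + -(w * α⁻¹) = 0 := by
      rw [hw]; field_simp; ring
    ext i j; fin_cases i <;> fin_cases j <;> simp [Matrix.mul_apply, Fin.sum_univ_two]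
    linear_combination h5
  · rw [hmem]
    have : (xx (-w))⁻¹ * (xx (-w) * d * (xx (-w))⁻¹) * xx (-w) = d := by group
    rw [this]; exact hdD
  · rw [hmem]
    have : (xx (-w))⁻¹ * (xx (-w) * e * (xx (-w))⁻¹) * xx (-w) = e := by group
    rw [this]; exact heD
  · calc xx (-w) * e * (xx (-w))⁻¹ * xx 1 * (xx (-w) * e * (xx (-w))⁻¹)⁻¹
        = xx (-w) * (e * ((xx (-w))⁻¹ * xx 1 * xx (-w)) * e⁻¹) * (xx (-w))⁻¹ := by group
      _ = yy := by rw [he]; group

end Lem

end CfsgLib.H6Ca
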