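import Mathlib
import Cfsg.Agent.LibH6CaF

/-! Groups in which centralizers of involutions are abelian: the induction. -/

set_option autoImplicit false
set_option linter.all false

namespace CfsgLib.H6Ca

open Cfsg Subgroup CfsgLib.Invol CfsgLib.FusionH12 CfsgLib.StrongH12 CfsgLib.G2B CfsgLib.H6P2
open scoped Pointwise

universe u v

section Lift

variable {G : Type*} [Group G] [Finite G] {H : Type*} [Group H]

/-- lifting involutions modulo a kernel of odd order -/
theorem lift_inv {φ : G →* H} (hφ : Function.Surjective φ) (hodd : Odd (Nat.card φ.ker)) {σ : H}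
    (hσ : orderOf σ = 2) : ∃ t : G, φ t = σ ∧ orderOf t = 2 := by
  obtain ⟨m, hm⟩ := hφ σ
  have h1 : m ^ 2 ∈ φ.ker := by
    rw [MonoidHom.mem_ker, map_pow, hm, ← hσ, pow_orderOf_eq_one]
  obtain ⟨k, hk⟩ := hodd
  have h2 : (m ^ 2) ^ (Nat.card φ.ker) = 1 := by
    have := pow_card_eq_one' (x := (⟨m ^ 2, h1⟩ : φ.ker))
    exact congrArg Subtype.val this
  have h3 : φ (m ^ (Nat.card φ.ker)) = σ := by
    rw [map_pow, hm, hk, pow_succ, pow_mul, pow_two, mul_self hσ, one_pow, one_mul]
  refine ⟨m ^ (Nat.card φ.ker), h3, orderOf_eq_two ?_ ?_⟩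
  · intro h
    rw [h, map_one] at h3
    exact ne_one hσ h3.symm
  · rw [← pow_two, ← pow_mul, mul_comm, pow_mul, h2]

end Lift

section SubM

variable {G : Type*} [Group G] [Finite G]

omit [Finite G] in
theorem order_coe {M : Subgroup G} (t : M) : orderOf (t : G) = orderOf t := orderOf_submonoid t

/-- subgroups properly containing part of `N` inherit the hypotheses -/
theorem ctx_sub (X : Ctx G) (M : Subgroup G) (P : Sylow 2 G) (hPM : (P : Subgroup G) ≤ M)
    (hM : ¬ M ≤ NN P) : Ctx M := by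
  haveI : Fact (Nat.Prime 2) := ⟨Nat.prime_two⟩
  refine ⟨?_, ?_, ?_⟩
  · intro t ht a b ha hb
    have h1 : orderOf (t : G) = 2 := by rw [order_coe, ht]
    have h2 := X.hC t h1 a b (ha.map M.subtype) (hb.map M.subtype)
    exact Subtype.ext h2
  · intro Q hQ
    apply X.hnc P
    have e1 : ↥(P.subtype hPM : Subgroup M) ≃* ↥(P : Subgroup G) := subgroupOfEquivOfLe hPM
    have e2 : ↥Q ≃* ↥(P.subtype hPM) := Sylow.equiv Q (P.subtype hPM)
    have h1 : IsCyclic ↥(P.subtype hPM) := isCyclic_of_surjective e2 e2.surjective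
    exact isCyclic_of_surjective e1 e1.surjective
  · intro Q hQ
    apply hM
    intro m hm
    obtain ⟨g, hg⟩ := MulAction.exists_smul_eq M Q (P.subtype hPM)
    have h1 : ∀ x : M, x • Q = Q := fun x => smul_eq.2 (by
      change x ∈ normalizer ((Q : Subgroup M) : Set M)
      rw [normalizer_eq_top_iff.2 hQ]; trivial)
    have h2 : (⟨m, hm⟩ : M) • (P.subtype hPM) = P.subtype hPM := by
      rw [← hg, h1 g, h1]
    replace h2 := mem_normalizer_iff.1 (smul_eq.1 h2)
    rw [mem_normalizer_iff]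
    intro p
    constructor
    · intro hp
      exact (h2 ⟨p, hPM hp⟩).1 hp
    · intro hp
      have hpM : p ∈ M := by
        have := mul_mem (mul_mem (inv_mem hm) (hPM hp)) hm
        simpa [mul_assoc] using this
      exact (h2 ⟨p, hpM⟩).2 hp

/-- points of `M` lie over points of `G` -/
theorem pt_in (X : Ctx G) {M : Subgroup G} {P : Sylow 2 G} (hPM : (P : Subgroup G) ≤ M)
    (Y : Ctx M) {t : G} (htM : t ∈ M) (ht : orderOf t = 2) : ∃ m ∈ M, t ∈ m • P := by
  haveI : Fact (Nat.Prime 2) := ⟨Nat.prime_two⟩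
  obtain ⟨R, hR⟩ := exists_pt Y (t := (⟨t, htM⟩ : M)) (by rw [← order_coe]; exact ht)
  obtain ⟨g, hg⟩ := MulAction.exists_smul_eq M (P.subtype hPM) R
  refine ⟨g, g.2, ?_⟩
  rw [← hg, mem_smul] at hR
  rw [mem_smul]
  exact hR

theorem NN_le (X : Ctx G) {M : Subgroup G} {P : Sylow 2 G} (hPM : (P : Subgroup G) ≤ M)
    (Y : Ctx M) (hAM : AA P ≤ M) : NN P ≤ M := by
  haveI : Fact (Nat.Prime 2) := ⟨Nat.prime_two⟩
  intro n hn
  obtain ⟨s, hs, hs2, -⟩ := exists_inv X P
  have h3 : n * s * n⁻¹ ∈ P := inv_mem_of_mem (mul_mem (mul_mem hn (le_normalizer hs)) (inv_mem hn))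
    (by rw [orderOf_conj, hs2])
  obtain ⟨Q, hQ⟩ := exists_ne Y (P.subtype hPM)
  obtain ⟨d, hd, hdt⟩ := inf_trans Y hQ.symm (s := (⟨s, hPM hs⟩ : M)) (t := ⟨n * s * n⁻¹, hPM h3⟩)
    (by rw [← order_coe]; exact hs2) hs (by rw [← order_coe]; exact (orderOf_conj n s).trans hs2) h3
  have hdt' : (d : G) * s * (d : G)⁻¹ = n * s * n⁻¹ := congrArg Subtype.val hdt
  have hc : (d : G)⁻¹ * n ∈ AA P := by
    apply mem_AA_of X hs hs2
    change (d : G)⁻¹ * n * s = s * ((d : G)⁻¹ * n)
    calc (d : G)⁻¹ * n * s = (d : G)⁻¹ * (n * s * n⁻¹) * n := by group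
      _ = s * ((d : G)⁻¹ * n) := by rw [← hdt']; group
  have := mul_mem d.2 (hAM hc)
  simpa using this

theorem strong_M (X : Ctx G) {M : Subgroup G} {P : Sylow 2 G} (hPM : (P : Subgroup G) ≤ M)
    (Y : Ctx M) (hAM : AA P ≤ M) (hM : M ≠ ⊤) : IsStronglyEmbedded M := by
  haveI : Fact (Nat.Prime 2) := ⟨Nat.prime_two⟩
  refine ⟨hM, ?_, ?_⟩
  · obtain ⟨z, hz, hz2, -⟩ := exists_inv X P
    rw [even_iff_two_dvd]
    exact two_dvd_card_of_mem (hPM hz) hz2
  · intro g hg
    apply odd_card_of_forall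
    intro t ht ht2
    obtain ⟨h1, h2⟩ := mem_inf.1 ht
    change t ∈ cj g _ at h2
    rw [mem_cj] at h2
    apply hg
    obtain ⟨m, hm, hmt⟩ := pt_in X hPM Y h1 ht2
    obtain ⟨m', hm', hmt'⟩ := pt_in X hPM Y h2 (by rw [orderOf_conj', ht2])
    have h3 : t ∈ (g * m') • P := by
      rw [mem_smul] at hmt' ⊢
      simpa [mul_assoc] using hmt'
    have h4 := eq_of_mem X ht2 hmt h3
    have h5 : m⁻¹ * (g * m') ∈ NN P := by
      rw [← smul_eq, mul_smul, h4, inv_smul_smul]
    have h6 := NN_le X hPM Y hAM h5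
    have h7 := mul_mem (mul_mem hm h6) (inv_mem hm')
    simpa [mul_assoc] using h7

end SubM

section Quot

variable {G : Type*} [Group G] [Finite G]

theorem center_odd (X : Ctx G) : Odd (Nat.card (center G)) := by
  apply odd_card_of_forall
  intro t ht ht2
  obtain ⟨P⟩ := (inferInstance : Nonempty (Sylow 2 G))
  obtain ⟨R, hR⟩ := exists_pt X ht2
  apply (strong X R).1
  rw [eq_top_iff]
  intro g _
  exact AA_le R (mem_AA_of X hR ht2 (by rw [mem_center_iff] at ht; exact (ht g)))

theorem ctx_quot (X : Ctx G) : Ctx (G ⧸ center G) := by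
  haveI : Fact (Nat.Prime 2) := ⟨Nat.prime_two⟩
  have hodd := center_odd X
  have hker : (QuotientGroup.mk' (center G)).ker = center G := QuotientGroup.ker_mk' _
  have hsurj : Function.Surjective (QuotientGroup.mk' (center G)) := QuotientGroup.mk'_surjective _
  have hodd' : Odd (Nat.card (QuotientGroup.mk' (center G)).ker) := by rw [hker]; exact hodd
  have hcomm : ∀ a t : G, orderOf t = 2 → Commute (QuotientGroup.mk' (center G) a) (QuotientGroup.mk' (center G) t) →
      Commute a t := by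
    intro a t ht h
    have h1 : a * t * a⁻¹ * t⁻¹ ∈ center G := by
      rw [← hker, MonoidHom.mem_ker, map_mul, map_mul, map_mul, map_inv, map_inv, h.eq]
      group
    have h2 : (a * t * a⁻¹ * t⁻¹) * (a * t * a⁻¹ * t⁻¹) = 1 := by
      have hz := (mem_center_iff.1 h1 t)
      have h3 : (a * t * a⁻¹) * (a * t * a⁻¹) = 1 := by
        calc (a * t * a⁻¹) * (a * t * a⁻¹) = a * (t * t) * a⁻¹ := by group
          _ = 1 := by rw [mul_self ht]; simp
      have h4 : a * t * a⁻¹ = t * (a * t * a⁻¹ * t⁻¹) := by rw [hz]; group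
      calc (a * t * a⁻¹ * t⁻¹) * (a * t * a⁻¹ * t⁻¹) = (a * t * a⁻¹) * (t⁻¹ * (a * t * a⁻¹)) * t⁻¹ := by group
        _ = (a * t * a⁻¹) * (t⁻¹ * (t * (a * t * a⁻¹ * t⁻¹))) * t⁻¹ := by rw [← h4]
        _ = (a * t * a⁻¹) * (a * t * a⁻¹) * (t * t)⁻¹ := by group
        _ = 1 := by rw [h3, mul_self ht]; simp
    have h3 : a * t * a⁻¹ * t⁻¹ = 1 := eq_one_of_sq (odd_order hodd h1) (by rw [pow_two, h2])
    change a * t = t * a
    calc a * t = (a * t * a⁻¹ * t⁻¹) * (t * a) := by group
      _ = t * a := by rw [h3, one_mul]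
  have hPbar : ∀ P : Sylow 2 G, ∀ Q : Sylow 2 (G ⧸ center G),
      Nonempty (↥(P.mapSurjective hsurj) ≃* ↥Q) := fun P Q => ⟨Sylow.equiv _ _⟩
  refine ⟨?_, ?_, ?_⟩
  · intro τ hτ α β hα hβ
    obtain ⟨t, rfl, ht⟩ := lift_inv hsurj hodd' hτ
    obtain ⟨a, rfl⟩ := hsurj α
    obtain ⟨b, rfl⟩ := hsurj β
    exact (X.hC t ht a b (hcomm a t ht hα) (hcomm b t ht hβ)).map _
  · intro Q hQ
    obtain ⟨P⟩ := (inferInstance : Nonempty (Sylow 2 G))
    apply X.hnc P
    obtain ⟨e⟩ := hPbar P Q
    haveI : IsCyclic ↥(P.mapSurjective hsurj) := isCyclic_of_surjective e.symm e.symm.surjective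
    let f : ↥(P : Subgroup G) →* ↥(P.mapSurjective hsurj) :=
      ((QuotientGroup.mk' (center G)).comp (P : Subgroup G).subtype).codRestrict (P.mapSurjective hsurj : Subgroup _)
        (fun x => by
          have h : (QuotientGroup.mk' (center G)) (x : G) ∈ (P : Subgroup G).map (QuotientGroup.mk' (center G)) :=
            Subgroup.mem_map_of_mem _ x.2
          exact h)
    apply isCyclic_of_injective f
    rw [injective_iff_map_eq_one]
    intro x hx
    have h1 : (x : G) ∈ center G := by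
      rw [← hker, MonoidHom.mem_ker]
      exact congrArg Subtype.val hx
    have h2 : Odd (orderOf (x : G)) := odd_order hodd h1
    obtain ⟨k, hk⟩ := P.2 x
    have h3 : orderOf (x : G) ∣ 2 ^ k := orderOf_dvd_of_pow_eq_one (congrArg Subtype.val hk)
    have h4 : Nat.Coprime (orderOf (x : G)) (2 ^ k) := Nat.Coprime.pow_right _ (Nat.coprime_two_right.2 h2)
    exact Subtype.ext (orderOf_eq_one_iff.1 (Nat.eq_one_of_dvd_coprimes h4 dvd_rfl h3))
  · intro Q hQ
    obtain ⟨P⟩ := (inferInstance : Nonempty (Sylow 2 G))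
    obtain ⟨g0, hg0⟩ := MulAction.exists_smul_eq (G ⧸ center G) Q (P.mapSurjective hsurj)
    have h1 : ∀ x : G ⧸ center G, x • Q = Q := fun x => smul_eq.2 (by
      change x ∈ normalizer ((Q : Subgroup (G ⧸ center G)) : Set (G ⧸ center G))
      rw [normalizer_eq_top_iff.2 hQ]; trivial)
    have h2 : ∀ x : G ⧸ center G, x • (P.mapSurjective hsurj) = P.mapSurjective hsurj := fun x => by
      rw [← hg0, h1 g0, h1]
    apply (strong X P).1
    rw [eq_top_iff]
    intro g _
    rw [← smul_eq]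
    apply eq_of_le
    intro q hq
    have h3 : g⁻¹ * q * g ∈ P := mem_smul.1 hq
    have h4 : QuotientGroup.mk' (center G) (g⁻¹ * q * g) ∈ P.mapSurjective hsurj := ⟨_, h3, rfl⟩
    rw [← h2 (QuotientGroup.mk' (center G) g)⁻¹, mem_smul] at h4
    have h5 : ((QuotientGroup.mk' (center G) g)⁻¹)⁻¹ * QuotientGroup.mk' (center G) (g⁻¹ * q * g) *
        (QuotientGroup.mk' (center G) g)⁻¹ = QuotientGroup.mk' (center G) q := by
      rw [map_mul, map_mul, map_inv]; group
    rw [h5] at h4
    obtain ⟨p, hp, hpq⟩ := h4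
    have h6 : p⁻¹ * q ∈ center G := by
      rw [← hker, MonoidHom.mem_ker, map_mul, map_inv, ← hpq]; group
    have h7 : p⁻¹ * q ∈ NN P := by
      apply AA_le P
      rw [mem_AA]
      intro y _
      rw [mem_center_iff] at h6
      exact (h6 y).symm
    have hp' : p ∈ NN P := le_normalizer hp
    have h8 : p * (p⁻¹ * q) ∈ NN P := mul_mem hp' h7
    rw [mul_inv_cancel_left] at h8
    exact h8

end Quot

/-- the main reduction theorem -/
theorem main (n : ℕ) : ∀ (G : Type u) [Group G] [Finite G], Nat.card G = n → Ctx G →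
    ∃ (F : Type) (_ : Field F) (_ : Fintype F) (φ : G →* Matrix.SpecialLinearGroup (Fin 2) F), (2 : F) = 0 ∧
    4 ≤ Fintype.card F ∧ Function.Surjective φ ∧ Odd (Nat.card φ.ker) := by
  induction n using Nat.strong_induction_on with
  | _ n ih =>
  intro G _ _ hn X
  classical
  haveI : Fact (Nat.Prime 2) := ⟨Nat.prime_two⟩
  by_cases hZ : center G = ⊥
  · have hQ : QQ G := by
      intro P x hx hx1 g hg
      by_contra hgN
      set M : Subgroup G := centralizer ({x} : Set G) with hM
      have hMmem : ∀ y, y ∈ M ↔ Commute y x := fun y => by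
        rw [hM, mem_centralizer_singleton_iff]; exact Iff.rfl
      have hMtop : M ≠ ⊤ := by
        intro h
        have h1 : x ∈ center G := by
          rw [mem_center_iff]
          intro y
          have : y ∈ M := by rw [h]; trivial
          exact (hMmem y).1 this
        rw [hZ, mem_bot] at h1
        exact hx1 h1
      have hAM : AA P ≤ M := fun a ha => (hMmem a).2 (AA_comm X ha hx)
      have hPM : (P : Subgroup G) ≤ M := (P_le_AA X P).trans hAM
      have Y : Ctx M := ctx_sub X M P hPM (fun h => hgN (h ((hMmem g).2 hg)))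
      have hlt : Nat.card M < n := by
        rw [← hn]
        refine lt_of_le_of_ne (Nat.le_of_dvd Nat.card_pos (card_subgroup_dvd_card M)) ?_
        intro h; exact hMtop (eq_top_of_card_eq M h)
      obtain ⟨F, iF, iFF, φ, h2, h4, hsurj, hodd⟩ := ih _ hlt M rfl Y
      have hS := strong_M X hPM Y hAM hMtop
      obtain ⟨u, hu, huM⟩ := exists_involution_not_mem hS
      set D := M ⊓ M.map (MulAut.conj u).toMonoidHom with hD
      have hDodd : Odd (Nat.card D) := hS.2.2 u huM
      have hDM : D ≤ M := inf_le_left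
      refine no_odd h2 h4 ((D.subgroupOf M).map φ) ?_ ?_
      · have h5 : Nat.card ((D.subgroupOf M).map φ) ∣ Nat.card (D.subgroupOf M) :=
          Subgroup.card_map_dvd _ _
        have h6 : Nat.card (D.subgroupOf M) = Nat.card D :=
          Nat.card_congr (subgroupOfEquivOfLe hDM).toEquiv
        rw [h6] at h5
        exact hDodd.of_dvd_nat h5
      · intro σ τ hσ hτ
        obtain ⟨s, rfl, hs⟩ := lift_inv hsurj hodd hσ
        obtain ⟨t, rfl, ht⟩ := lift_inv hsurj hodd hτ
        obtain ⟨d, hd, hdt⟩ := conj_transitive hS hu huM (s := (s : G)) (t := (t : G))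
          (by rw [order_coe, hs]) s.2 (by rw [order_coe, ht]) t.2
        refine ⟨φ ⟨d, hDM hd⟩, ⟨⟨d, hDM hd⟩, hd, rfl⟩, ?_⟩
        rw [← map_mul, ← map_inv, ← map_mul]
        congr 1
        exact Subtype.ext hdt
    obtain ⟨F, iF, iFF, h2, h4, ⟨e⟩⟩ := fin X hQ
    refine ⟨F, iF, iFF, e.toMonoidHom, h2, h4, e.surjective, ?_⟩
    have : e.toMonoidHom.ker = ⊥ := (MonoidHom.ker_eq_bot_iff _).2 e.injective
    rw [this, Subgroup.card_bot]; exact odd_one
  · have hlt : Nat.card (G ⧸ center G) < n := by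
      rw [← hn, (center G).card_eq_card_quotient_mul_card_subgroup]
      have h1 : 1 < Nat.card (center G) := by
        rw [← not_le]; intro h
        apply hZ
        rw [← Subgroup.card_eq_one]
        have : 0 < Nat.card (center G) := Nat.card_pos
        omega
      have h2 : 0 < Nat.card (G ⧸ center G) := Nat.card_pos
      nlinarith
    obtain ⟨F, iF, iFF, φ, h2, h4, hsurj, hodd⟩ := ih _ hlt (G ⧸ center G) rfl (ctx_quot X)
    refine ⟨F, iF, iFF, φ.comp (QuotientGroup.mk' (center G)), h2, h4,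
      hsurj.comp (QuotientGroup.mk'_surjective _), ?_⟩
    apply odd_card_of_forall
    intro t ht ht2
    have h5 : QuotientGroup.mk' (center G) t ∈ φ.ker := ht
    have h6 : QuotientGroup.mk' (center G) t * QuotientGroup.mk' (center G) t = 1 := by
      rw [← map_mul, mul_self ht2, map_one]
    by_cases h7 : QuotientGroup.mk' (center G) t = 1
    · have h8 : t ∈ center G := by
        rw [← QuotientGroup.ker_mk' (center G)]; exact h7
      exact not_odd_card_of_mem h8 ht2 (center_odd X)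
    · exact not_odd_card_of_mem h5 (orderOf_eq_two h7 h6) hodd

end CfsgLib.H6Ca
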