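import Cfsg.Agent.LibH6P2E

/-! `PSL(2,q)`, `q` even, is a product `ABA` of abelian subgroups. -/

set_option autoImplicit false

namespace CfsgLib.H6P2

open Matrix CfsgLib.G2B

universe v

variable {F : Type v} [Field F]

local notation "SL2" => Matrix.SpecialLinearGroup (Fin 2) F
local notation "PSL2" => Matrix.ProjectiveSpecialLinearGroup (Fin 2) F
local notation "M2" => Matrix (Fin 2) (Fin 2) F

/-- elements of the algebra generated by the companion matrix -/
def el (t x y : F) : M2 := !![x, -y; y, x + t * y]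

theorem det_el (t x y : F) : (el t x y).det = x ^ 2 + t * x * y + y ^ 2 := by
  unfold el; rw [det_fin_two_of]; ring

theorem norm_ne {t : F} (ht : ∀ a : F, a ^ 2 - t * a + 1 ≠ 0) {x y : F} (h : x ≠ 0 ∨ y ≠ 0) :
    x ^ 2 + t * x * y + y ^ 2 ≠ 0 := by
  intro h0
  by_cases hy : y = 0
  · subst hy
    rcases h with h | h
    · apply h
      have : x ^ 2 = 0 := by linear_combination h0
      simpa using this
    · exact h rfl
  · apply ht (-x / y)
    field_simp
    linear_combination h0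

theorem exists_scale [Finite F] [CharP F 2] {t : F} (ht : ∀ a : F, a ^ 2 - t * a + 1 ≠ 0) {x y : F} (h : x ≠ 0 ∨ y ≠ 0) :
    ∃ s : F, s ≠ 0 ∧ (el t (s * x) (s * y)).det = 1 := by
  obtain ⟨r, hr⟩ := FiniteField.isSquare_of_char_two (F := F) (ringChar.eq F 2) (x ^ 2 + t * x * y + y ^ 2)
  have hn := norm_ne ht h
  have hr0 : r ≠ 0 := by rintro rfl; apply hn; rw [hr]; ring
  refine ⟨r⁻¹, inv_ne_zero hr0, ?_⟩
  rw [det_el]
  have : r⁻¹ * r = 1 := inv_mul_cancel₀ hr0
  have h2 : (r⁻¹ * x) ^ 2 + t * (r⁻¹ * x) * (r⁻¹ * y) + (r⁻¹ * y) ^ 2 = (r⁻¹ * r) ^ 2 := by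
    linear_combination (r⁻¹) ^ 2 * hr
  rw [h2, this, one_pow]

theorem mem_cent (t : F) (X : SL2) : X ∈ Subgroup.centralizer ({mkSL _ (det_C t)} : Set SL2) ↔
    (X : M2) 0 1 = - (X : M2) 1 0 ∧ (X : M2) 1 1 = (X : M2) 0 0 + t * (X : M2) 1 0 := by
  rw [Subgroup.mem_centralizer_singleton_iff]
  constructor
  · intro h
    have h1 := congrArg Subtype.val h
    have h2 : (X : M2) * !![0, -1; 1, t] = !![0, -1; 1, t] * (X : M2) := h1
    have h00 := congrFun (congrFun h2 0) 0
    have h10 := congrFun (congrFun h2 1) 0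
    simp [Matrix.mul_apply, Fin.sum_univ_two] at h00 h10
    exact ⟨h00, h10⟩
  · rintro ⟨h1, h2⟩
    apply Subtype.ext
    show (X : M2) * !![0, -1; 1, t] = !![0, -1; 1, t] * (X : M2)
    apply ext2
    · simp [Matrix.mul_apply, Fin.sum_univ_two]; exact h1
    · simp [Matrix.mul_apply, Fin.sum_univ_two]; rw [h1, h2]; ring
    · simp [Matrix.mul_apply, Fin.sum_univ_two]; exact h2
    · simp [Matrix.mul_apply, Fin.sum_univ_two]; rw [h1]; ring

theorem el_mem (t x y : F) (h : (el t x y).det = 1) : mkSL _ h ∈ Subgroup.centralizer ({mkSL _ (det_C t)} : Set SL2) := by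
  rw [mem_cent]
  exact ⟨rfl, rfl⟩

theorem cyclic_cent [Finite F] (t : F) (ht : ∀ a : F, a ^ 2 - t * a + 1 ≠ 0) :
    IsCyclic (Subgroup.centralizer ({mkSL _ (det_C t)} : Set SL2)) := by
  classical
  obtain ⟨μ, hμ⟩ : ∃ μ : AlgebraicClosure F, μ ^ 2 - algebraMap F _ t * μ + 1 = 0 := by
    have hd : (Polynomial.C (1 : AlgebraicClosure F) * Polynomial.X ^ 2 + Polynomial.C (-algebraMap F (AlgebraicClosure F) t) * Polynomial.X + Polynomial.C 1).degree = 2 :=
      Polynomial.degree_quadratic one_ne_zero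
    obtain ⟨μ, hμ⟩ := IsAlgClosed.exists_root (Polynomial.C (1 : AlgebraicClosure F) * Polynomial.X ^ 2 + Polynomial.C (-algebraMap F (AlgebraicClosure F) t) * Polynomial.X + Polynomial.C 1) (by rw [hd]; decide)
    refine ⟨μ, ?_⟩
    rw [Polynomial.IsRoot.def] at hμ
    simp only [Polynomial.eval_add, Polynomial.eval_mul, Polynomial.eval_pow, Polynomial.eval_C, Polynomial.eval_X] at hμ
    linear_combination hμ
  let f : Subgroup.centralizer ({mkSL _ (det_C t)} : Set SL2) →* AlgebraicClosure F :=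
    { toFun := fun X => algebraMap F _ (X.1.1 0 0) + μ * algebraMap F _ (X.1.1 1 0)
      map_one' := by
        show algebraMap F _ ((1 : M2) 0 0) + μ * algebraMap F _ ((1 : M2) 1 0) = 1
        simp
      map_mul' := by
        rintro ⟨X, hX⟩ ⟨Y, hY⟩
        rw [mem_cent] at hX hY
        show algebraMap F (AlgebraicClosure F) (((X : M2) * (Y : M2)) 0 0) + μ * algebraMap F _ (((X : M2) * (Y : M2)) 1 0) =
          (algebraMap F _ ((X : M2) 0 0) + μ * algebraMap F _ ((X : M2) 1 0)) * (algebraMap F _ ((Y : M2) 0 0) + μ * algebraMap F _ ((Y : M2) 1 0))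
        rw [Matrix.mul_apply, Matrix.mul_apply, Fin.sum_univ_two, Fin.sum_univ_two, hX.1, hX.2]
        simp only [map_add, map_mul, map_neg]
        linear_combination (-(algebraMap F _ ((X : M2) 1 0)) * algebraMap F _ ((Y : M2) 1 0)) * hμ }
  apply isCyclic_of_injective_ringHom f
  rw [injective_iff_map_eq_one]
  rintro ⟨X, hX⟩ h
  change algebraMap F (AlgebraicClosure F) ((X : M2) 0 0) + μ * algebraMap F _ ((X : M2) 1 0) = 1 at h
  rw [mem_cent] at hX
  have hy : (X : M2) 1 0 = 0 := by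
    by_contra hy
    apply ht ((1 - (X : M2) 0 0) / (X : M2) 1 0)
    apply (algebraMap F (AlgebraicClosure F)).injective
    have hy' : algebraMap F (AlgebraicClosure F) ((X : M2) 1 0) ≠ 0 := by
      rw [Ne, map_eq_zero]; exact hy
    have hm : algebraMap F (AlgebraicClosure F) ((1 - (X : M2) 0 0) / (X : M2) 1 0) = μ := by
      rw [map_div₀, map_sub, map_one, div_eq_iff hy']
      linear_combination -h
    rw [map_add, map_sub, map_pow, map_mul, hm, map_one, map_zero]
    exact hμ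
  have hx : (X : M2) 0 0 = 1 := by
    apply (algebraMap F (AlgebraicClosure F)).injective
    rw [hy, map_zero, mul_zero, add_zero] at h
    rw [h, map_one]
  apply Subtype.ext
  apply Subtype.ext
  show (X : M2) = 1
  apply ext2
  · rw [hx]; simp
  · rw [hX.1, hy]; simp
  · rw [hy]; simp
  · rw [hX.2, hx, hy]; simp

theorem decomp [Finite F] [CharP F 2] (t : F) (ht : ∀ a : F, a ^ 2 - t * a + 1 ≠ 0) (g : SL2) :
    ∃ a ∈ Subgroup.centralizer ({mkSL _ (det_C t)} : Set SL2), ∃ b : F,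
      ∃ c ∈ Subgroup.centralizer ({mkSL _ (det_C t)} : Set SL2), g = a * mkSL _ (det_up b) * c := by
  have h2 : (2 : F) = 0 := by exact_mod_cast CharP.cast_eq_zero F 2
  -- kill the trace
  obtain ⟨x, y, hxy, h⟩ : ∃ x y : F, (x ≠ 0 ∨ y ≠ 0) ∧ x * (g.1 0 0 + g.1 1 1) + y * (g.1 0 1 - g.1 1 0 + t * g.1 1 1) = 0 := by
    by_cases h1 : g.1 0 0 + g.1 1 1 = 0
    · exact ⟨1, 0, Or.inl one_ne_zero, by rw [h1]; ring⟩
    · exact ⟨g.1 0 1 - g.1 1 0 + t * g.1 1 1, -(g.1 0 0 + g.1 1 1), Or.inr (neg_ne_zero.mpr h1), by ring⟩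
  obtain ⟨s, hs, hd⟩ := exists_scale ht hxy
  obtain ⟨c, hc⟩ : ∃ c : SL2, c = mkSL _ hd := ⟨_, rfl⟩
  obtain ⟨u, hu⟩ : ∃ u : SL2, u = g * c := ⟨_, rfl⟩
  have htr : u.1 0 0 + u.1 1 1 = 0 := by
    have h3 : u.1 = g.1 * el t (s * x) (s * y) := by rw [hu, hc]; rfl
    rw [h3, Matrix.mul_apply, Matrix.mul_apply, Fin.sum_univ_two, Fin.sum_univ_two]
    simp [el]
    linear_combination s * h
  have hud := u.2
  rw [det_fin_two] at hud
  obtain ⟨v, w, hvw, h5, h6⟩ : ∃ v w : F, (v ≠ 0 ∨ w ≠ 0) ∧ u.1 0 0 * v + u.1 0 1 * w = v ∧ u.1 1 0 * v + u.1 1 1 * w = w := by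
    by_cases h1 : u.1 0 1 = 0
    · by_cases h3 : u.1 0 0 = 1
      · refine ⟨0, 1, Or.inr one_ne_zero, by rw [h1]; ring, ?_⟩
        rw [mul_zero, zero_add, mul_one]
        linear_combination htr - h3 - h2
      · exfalso
        apply h3
        rw [h1, zero_mul, sub_zero] at hud
        have h7 : u.1 1 1 = u.1 0 0 := by linear_combination htr - (u.1 0 0) * h2
        rw [h7] at hud
        have h8 : (u.1 0 0 - 1) ^ 2 = 0 := by linear_combination hud + (1 - u.1 0 0) * h2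
        exact sub_eq_zero.mp (by simpa using h8)
    · refine ⟨u.1 0 1, 1 - u.1 0 0, Or.inl h1, by ring, ?_⟩
      linear_combination htr - hud - h2 + (u.1 0 0) * 0
  obtain ⟨r, hr, hd'⟩ := exists_scale ht hvw
  obtain ⟨a, ha⟩ : ∃ a : SL2, a = mkSL _ hd' := ⟨_, rfl⟩
  obtain ⟨W, hW⟩ : ∃ W : SL2, W = a⁻¹ * (u * a) := ⟨_, rfl⟩
  have e1 : (u * a).1 0 0 = r * v := by
    show (u.1 * a.1) 0 0 = _
    rw [Matrix.mul_apply, Fin.sum_univ_two, ha]
    show u.1 0 0 * (r * v) + u.1 0 1 * (r * w) = _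
    linear_combination r * h5
  have e2 : (u * a).1 1 0 = r * w := by
    show (u.1 * a.1) 1 0 = _
    rw [Matrix.mul_apply, Fin.sum_univ_two, ha]
    show u.1 1 0 * (r * v) + u.1 1 1 * (r * w) = _
    linear_combination r * h6
  have had := a.2
  rw [det_fin_two] at had
  have a00 : a.1 0 0 = r * v := by rw [ha]; rfl
  have a10 : a.1 1 0 = r * w := by rw [ha]; rfl
  have w00 : W.1 0 0 = 1 := by
    have : W.1 = (a⁻¹).1 * (u * a).1 := by rw [hW]; rfl
    rw [this, Matrix.mul_apply, Fin.sum_univ_two, e1, e2]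
    have h7 : (a⁻¹).1 = _ := inv_coe a
    rw [h7]
    show a.1 1 1 * (r * v) + (-a.1 0 1) * (r * w) = 1
    rw [← a00, ← a10]
    linear_combination had
  have w10 : W.1 1 0 = 0 := by
    have : W.1 = (a⁻¹).1 * (u * a).1 := by rw [hW]; rfl
    rw [this, Matrix.mul_apply, Fin.sum_univ_two, e1, e2]
    have h7 : (a⁻¹).1 = _ := inv_coe a
    rw [h7]
    show (-a.1 1 0) * (r * v) + (a.1 0 0) * (r * w) = 0
    rw [← a00, ← a10]
    ring
  have hWd := W.2
  rw [det_fin_two, w00, w10] at hWd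
  have hWe : W = mkSL _ (det_up (W.1 0 1)) := by
    apply Subtype.ext
    show W.1 = !![1, W.1 0 1; 0, 1]
    apply ext2
    · exact w00
    · rfl
    · exact w10
    · show W.1 1 1 = 1
      linear_combination hWd
  refine ⟨a, by rw [ha]; exact el_mem _ _ _ _, W.1 0 1, a⁻¹ * c⁻¹, ?_, ?_⟩
  · apply Subgroup.mul_mem
    · apply Subgroup.inv_mem; rw [ha]; exact el_mem _ _ _ _
    · apply Subgroup.inv_mem; rw [hc]; exact el_mem _ _ _ _
  · rw [← hWe, hW, hu]; group

/-- the unitriangular group -/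
def ub (F : Type v) [Field F] : Multiplicative F →* Matrix.SpecialLinearGroup (Fin 2) F where
  toFun b := mkSL _ (det_up b.toAdd)
  map_one' := by
    apply Subtype.ext
    show (!![1, (1 : Multiplicative F).toAdd; 0, 1] : Matrix (Fin 2) (Fin 2) F) = 1
    apply ext2 <;> simp
  map_mul' x y := by
    apply Subtype.ext
    show (!![1, (x * y).toAdd; 0, 1] : Matrix (Fin 2) (Fin 2) F) = !![1, x.toAdd; 0, 1] * !![1, y.toAdd; 0, 1]
    apply ext2 <;> simp [Matrix.mul_apply, Fin.sum_univ_two]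
    ring

theorem ub_inj : Function.Injective (ub F) := by
  intro x y h
  have h1 := congrArg Subtype.val h
  have h2 : (!![1, x.toAdd; 0, 1] : M2) = !![1, y.toAdd; 0, 1] := h1
  have := congrFun (congrFun h2 0) 1
  simpa using this

theorem even_aba [Fintype F] (h2' : 2 ∣ Fintype.card F) (h4 : 4 ≤ Fintype.card F) :
    ∃ A B : Subgroup PSL2, IsCyclic A ∧ Nat.card A = Fintype.card F + 1 ∧ IsMulCommutative B ∧ (∀ b ∈ B, b * b = 1) ∧
        Nat.card B = Fintype.card F ∧ ∀ g : PSL2, ∃ a ∈ A, ∃ b ∈ B, ∃ c ∈ A, g = a * b * c := by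
  classical
  have h2 : (2 : F) = 0 := by
    rcases even_or_odd (F := F) with ⟨_, h⟩ | ⟨_, _, h3⟩
    · exact h
    · obtain ⟨k, hk⟩ := h3; omega
  haveI : CharP F 2 := (CharP.charP_iff_prime_eq_zero Nat.prime_two).mpr (by exact_mod_cast h2)
  obtain ⟨⟨t, ht4, ht0⟩, -⟩ := exists_rho_even h2 h4
  have ht : ∀ a : F, a ^ 2 - t * a + 1 ≠ 0 := by
    intro a ha
    have := rho_pos ha
    omega
  let f : SL2 →* PSL2 := QuotientGroup.mk' _
  have hf : Function.Injective f := by
    intro X Y h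
    have h1 : (QuotientGroup.mk X : PSL2) = QuotientGroup.mk Y := h
    rcases (mk_eq_iff X Y).mp h1 with h3 | h3
    · exact h3.symm
    · rw [h3]
      apply Subtype.ext
      rw [Matrix.SpecialLinearGroup.coe_neg]
      ext i j
      rw [Matrix.neg_apply]
      linear_combination ((X : M2) i j) * h2
  let A := Subgroup.centralizer ({mkSL _ (det_C t)} : Set SL2)
  have hAc : IsCyclic A := cyclic_cent t ht
  have hq : 1 < Fintype.card F := Fintype.one_lt_card
  have hAcard : Nat.card A = Fintype.card F + 1 := by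
    have h7 : ((mkSL _ (det_C t) : SL2) : M2).trace = t := by rw [mkSL_coe, trace_fin_two_of]; ring
    have h8 : A.index = Fintype.card F * (Fintype.card F - 1) := by
      rw [index_centralizer]
      have h9 := card_trace t
      rw [ht0, mul_zero, add_zero] at h9
      rw [← h9]
      apply Nat.card_congr
      apply Equiv.subtypeEquivRight
      intro B
      rw [conj_iff_trace _ _ (by rw [h7]; exact ht4), h7]
    have h10 := Subgroup.card_mul_index A
    rw [h8, CfsgLib.G2C.card_SL] at h10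
    apply Nat.eq_of_mul_eq_mul_right (show 0 < Fintype.card F * (Fintype.card F - 1) from Nat.mul_pos (by omega) (by omega))
    rw [h10]; ring
  let eA := A.equivMapOfInjective f hf
  refine ⟨A.map f, ((ub F).range).map f, ?_, ?_, ?_, ?_, ?_, ?_⟩
  · exact isCyclic_of_surjective eA.toMonoidHom eA.surjective
  · rw [← hAcard]; exact (Nat.card_congr eA.toEquiv).symm
  · refine ⟨⟨?_⟩⟩
    rintro ⟨_, ⟨_, ⟨x, rfl⟩, rfl⟩⟩ ⟨_, ⟨_, ⟨y, rfl⟩, rfl⟩⟩
    apply Subtype.ext
    show f (ub F x) * f (ub F y) = f (ub F y) * f (ub F x)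
    rw [← map_mul, ← map_mul, ← map_mul, ← map_mul, mul_comm]
  · rintro _ ⟨_, ⟨x, rfl⟩, rfl⟩
    rw [← map_mul, ← map_mul]
    have : x * x = 1 := by
      show Multiplicative.ofAdd (x.toAdd + x.toAdd) = 1
      rw [← two_mul, h2, zero_mul]; rfl
    rw [this, map_one, map_one]
  · have e1 := ((ub F).range).equivMapOfInjective f hf
    rw [← Nat.card_congr e1.toEquiv, ← Nat.card_congr (MonoidHom.ofInjective ub_inj).toEquiv, ← Nat.card_eq_fintype_card (α := F)]
    exact Nat.card_congr Multiplicative.toAdd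
  · intro g
    obtain ⟨X, rfl⟩ := QuotientGroup.mk_surjective g
    obtain ⟨a, ha, b, c, hc, h⟩ := decomp t ht X
    refine ⟨f a, ⟨a, ha, rfl⟩, f (mkSL _ (det_up b)), ⟨_, ⟨Multiplicative.ofAdd b, rfl⟩, rfl⟩, f c, ⟨c, hc, rfl⟩, ?_⟩
    rw [h]; rfl

end CfsgLib.H6P2
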