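import Mathlib
import Cfsg.Agent.LibH6CaG
import Cfsg.Agent.LibH6P2F
import Cfsg.Agent.LibCoprime2
import Cfsg.Agent.S0300
import Cfsg.Agent.S0089

/-! Groups in which centralizers of involutions are abelian: the direct product decomposition. -/

set_option autoImplicit false
set_option linter.all false

namespace CfsgLib.H6Ca

open Cfsg Subgroup CfsgLib.Invol CfsgLib.FusionH12 CfsgLib.StrongH12 CfsgLib.G2B CfsgLib.H6P2 Matrix
open scoped Pointwise

universe u v

section Cyc

variable {F : Type v} [Field F]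

local notation "SL2" => Matrix.SpecialLinearGroup (Fin 2) F
local notation "M2" => Matrix (Fin 2) (Fin 2) F

theorem cyclic_cent' [Finite F] (h2 : (2 : F) = 0) (t : F) (ht : t ≠ 0) :
    IsCyclic (Subgroup.centralizer ({mkSL _ (det_C t)} : Set SL2)) := by
  classical
  obtain ⟨μ, hμ⟩ : ∃ μ : AlgebraicClosure F, μ ^ 2 - algebraMap F _ t * μ + 1 = 0 := by
    have hd : (Polynomial.C (1 : AlgebraicClosure F) * Polynomial.X ^ 2 + Polynomial.C (-algebraMap F (AlgebraicClosure F) t) * Polynomial.X + Polynomial.C 1).degree = 2 :=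
      Polynomial.degree_quadratic one_ne_zero
    obtain ⟨μ, hμ⟩ := IsAlgClosed.exists_root (Polynomial.C (1 : AlgebraicClosure F) * Polynomial.X ^ 2 + Polynomial.C (-algebraMap F (AlgebraicClosure F) t) * Polynomial.X + Polynomial.C 1) (by rw [hd]; decide)
    refine ⟨μ, ?_⟩
    rw [Polynomial.IsRoot.def] at hμ
    simp only [Polynomial.eval_add, Polynomial.eval_mul, Polynomial.eval_pow, Polynomial.eval_C, Polynomial.eval_X] at hμ
    linear_combination hμ
  let f : Subgroup.centralizer ({mkSL _ (det_C t)} : Set SL2) →* AlgebraicClosure F :=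
    { toFun := fun X => algebraMap F _ (X.1.1 0 0) + μ * algebraMap F _ (X.1.1 1 0)
      map_one' := by
        show algebraMap F _ ((1 : M2) 0 0) + μ * algebraMap F _ ((1 : M2) 1 0) = 1
        simp
      map_mul' := by
        rintro ⟨X, hX⟩ ⟨Y, hY⟩
        rw [mem_cent] at hX hY
        show algebraMap F (AlgebraicClosure F) (((X : M2) * (Y : M2)) 0 0) + μ * algebraMap F _ (((X : M2) * (Y : M2)) 1 0) =
          (algebraMap F _ ((X : M2) 0 0) + μ * algebraMap F _ ((X : M2) 1 0)) * (algebraMap F _ ((Y : M2) 0 0) + μ * algebraMap F _ ((Y : M2) 1 0))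
        rw [Matrix.mul_apply, Matrix.mul_apply, Fin.sum_univ_two, Fin.sum_univ_two, hX.1, hX.2]
        simp only [map_add, map_mul, map_neg]
        linear_combination (-(algebraMap F _ ((X : M2) 1 0)) * algebraMap F _ ((Y : M2) 1 0)) * hμ }
  apply isCyclic_of_injective_ringHom f
  rw [injective_iff_map_eq_one]
  rintro ⟨X, hX⟩ h
  change algebraMap F (AlgebraicClosure F) ((X : M2) 0 0) + μ * algebraMap F _ ((X : M2) 1 0) = 1 at h
  have hdet : (X : M2) 0 0 * (X : M2) 1 1 - (X : M2) 0 1 * (X : M2) 1 0 = 1 := by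
    have := X.2; rwa [det_fin_two] at this
  rw [mem_cent] at hX
  set A := algebraMap F (AlgebraicClosure F)
  have h2' : (2 : AlgebraicClosure F) = 0 := by
    have := congrArg A h2
    rw [map_zero, map_ofNat] at this
    exact this
  have hdet' : A ((X : M2) 0 0) * (A ((X : M2) 0 0) + A t * A ((X : M2) 1 0)) + A ((X : M2) 1 0) * A ((X : M2) 1 0) = 1 := by
    have := congrArg A hdet
    rw [hX.1, hX.2] at this
    simp only [map_sub, map_mul, map_add, map_neg, map_one] at this
    linear_combination this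
  have hy : (X : M2) 1 0 = 0 := by
    by_contra hy
    have hy' : A ((X : M2) 1 0) ≠ 0 := by rw [Ne, map_eq_zero]; exact hy
    have ht' : A t ≠ 0 := by rw [Ne, map_eq_zero]; exact ht
    -- (x + μ y)(x + (t-μ) y) = 1
    have h3 : (A ((X : M2) 0 0) + μ * A ((X : M2) 1 0)) * (A ((X : M2) 0 0) + (A t - μ) * A ((X : M2) 1 0)) = 1 := by
      linear_combination hdet' - (A ((X : M2) 1 0) * A ((X : M2) 1 0)) * hμ
    rw [h, one_mul] at h3
    have h4 : A t * A ((X : M2) 1 0) = 0 := by
      linear_combination h3 - h + μ * A ((X : M2) 1 0) * h2'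
    rcases mul_eq_zero.1 h4 with h5 | h5
    · exact ht' h5
    · exact hy' h5
  have hx : (X : M2) 0 0 = 1 := by
    apply A.injective
    rw [hy, map_zero, mul_zero, add_zero] at h
    rw [h, map_one]
  apply Subtype.ext
  apply Subtype.ext
  show (X : M2) = 1
  apply ext2
  · rw [hx]; simp
  · rw [hX.1, hy]; simp
  · rw [hy]; simp
  · rw [hX.2, hx, hy]; simp

theorem charP_two (h2 : (2 : F) = 0) : CharP F 2 :=
  (CharP.charP_iff_prime_eq_zero Nat.prime_two).mpr (by exact_mod_cast h2)

theorem sc_one (h2 : (2 : F) = 0) {z : SL2} (h : IsSc (z : M2)) : z = 1 := by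
  rcases center_sc (mem_center_of_isSc h) with h1 | h1
  · exact h1
  · rw [h1]
    apply Subtype.ext
    ext i j
    have : (-1 : F) = 1 := by linear_combination (-1 : F) * h2
    fin_cases i <;> fin_cases j <;> simp [this]

/-- subgroups of odd prime power order are cyclic -/
theorem odd_p_cyclic [Finite F] (h2 : (2 : F) = 0) {p : ℕ} (hp : p.Prime) (hp2 : p ≠ 2) (R : Subgroup SL2)
    (hR : IsPGroup p R) : IsCyclic R := by
  classical
  haveI : Fact p.Prime := ⟨hp⟩
  haveI := charP_two h2
  by_cases hb : R = ⊥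
  · rw [hb]; infer_instance
  haveI : Nontrivial R := (Subgroup.nontrivial_iff_ne_bot R).2 hb
  have hc := hR.center_nontrivial
  obtain ⟨⟨⟨z, hzR⟩, hzc⟩, hz1⟩ := @_root_.exists_ne _ hc 1
  have hz1' : z ≠ 1 := fun h => hz1 (Subtype.ext (Subtype.ext h))
  have hzcomm : ∀ s ∈ R, s * z = z * s := fun s hs => congrArg Subtype.val (mem_center_iff.1 hzc ⟨s, hs⟩)
  -- z has odd order
  have hzo : Odd (orderOf z) := by
    obtain ⟨k, hk⟩ := hR ⟨z, hzR⟩
    have h1 : orderOf z ∣ p ^ k := orderOf_dvd_of_pow_eq_one (congrArg Subtype.val hk)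
    exact ((hp.odd_of_ne_two hp2).pow).of_dvd_nat h1
  have hzsc : ¬ IsSc (z : M2) := fun h => hz1' (sc_one h2 h)
  set t := (z : M2).trace with ht
  have ht0 : t ≠ 0 := by
    intro h
    apply hz1'
    apply eq_one_of_sq hzo
    have h3 := ch2 z
    rw [← ht, h, zero_smul, zero_sub] at h3
    rw [pow_two]
    apply Subtype.ext
    change (z : M2) * (z : M2) = 1
    rw [h3]
    ext i j
    have : (-1 : F) = 1 := by linear_combination (-1 : F) * h2
    fin_cases i <;> fin_cases j <;> simp [this]
  have hconj : IsConj z (mkSL _ (det_C t)) := by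
    apply sl_conj hzsc
    · exact not_isSc_C t
    · change t = (!![0, -1; 1, t] : M2).trace
      simp [Matrix.trace_fin_two]
    · intro δ _
      exact form_char_two _ _
  obtain ⟨c, hc'⟩ := isConj_iff.1 hconj
  haveI := cyclic_cent' h2 t ht0
  let f : R →* Subgroup.centralizer ({mkSL _ (det_C t)} : Set SL2) :=
    { toFun := fun x => ⟨c * x * c⁻¹, by
        rw [mem_centralizer_singleton_iff, ← hc']
        have := hzcomm x x.2
        calc c * x * c⁻¹ * (c * z * c⁻¹) = c * (x * z) * c⁻¹ := by group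
          _ = c * z * c⁻¹ * (c * x * c⁻¹) := by rw [this]; group⟩
      map_one' := by apply Subtype.ext; simp
      map_mul' := fun a b => by apply Subtype.ext; simp [mul_assoc] }
  apply isCyclic_of_injective f
  intro a b hab
  have h1 : c * (a : SL2) * c⁻¹ = c * b * c⁻¹ := congrArg Subtype.val hab
  exact Subtype.ext (mul_left_cancel (mul_right_cancel h1))

/-- `SL₂` in even characteristic is generated by involutions -/
theorem gen_inv (h2 : (2 : F) = 0) : Subgroup.closure {σ : SL2 | orderOf σ = 2} = ⊤ := by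
  rw [eq_top_iff]
  set C := Subgroup.closure {σ : SL2 | orderOf σ = 2} with hC
  have hx : ∀ a : F, xx a ∈ C := by
    intro a
    by_cases ha : a = 0
    · have : xx a = (1 : SL2) := by
        rw [ha]; apply Subtype.ext
        change (!![1, 0; 0, 1] : M2) = 1
        ext i j; fin_cases i <;> fin_cases j <;> simp
      rw [this]; exact one_mem _
    · exact Subgroup.subset_closure (xx_order h2 ha)
  let lo : F → SL2 := fun a => ⟨!![1, 0; a, 1], by rw [det_fin_two_of]; ring⟩
  have hlo : ∀ a : F, lo a ∈ C := by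
    intro a
    by_cases ha : a = 0
    · have : lo a = (1 : SL2) := by
        rw [ha]; apply Subtype.ext
        change (!![1, 0; 0, 1] : M2) = 1
        ext i j; fin_cases i <;> fin_cases j <;> simp
      rw [this]; exact one_mem _
    · apply Subgroup.subset_closure
      apply orderOf_eq_two
      · intro h
        have h3 : (!![1, 0; a, 1] : M2) 1 0 = (1 : M2) 1 0 := congrArg (fun X : SL2 => X.1 1 0) h
        simp at h3; exact ha h3
      · apply Subtype.ext
        change (!![1, 0; a, 1] : M2) * !![1, 0; a, 1] = 1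
        ext i j; fin_cases i <;> fin_cases j <;> simp
        linear_combination a * h2
  have key : ∀ A : SL2, A.1 1 0 ≠ 0 → A ∈ C := by
    intro A hA
    have hdet : A.1 0 0 * A.1 1 1 - A.1 0 1 * A.1 1 0 = 1 := by
      have := A.2; rwa [det_fin_two] at this
    have : A = xx ((A.1 0 0 - 1) / A.1 1 0) * lo (A.1 1 0) * xx ((A.1 1 1 - 1) / A.1 1 0) := by
      apply Subtype.ext
      change A.1 = (!![1, (A.1 0 0 - 1) / A.1 1 0; 0, 1] : M2) * !![1, 0; A.1 1 0, 1] * !![1, (A.1 1 1 - 1) / A.1 1 0; 0, 1]
      ext i j; fin_cases i <;> fin_cases j <;> simp [Matrix.mul_apply, Fin.sum_univ_two]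
      · field_simp; ring
      · field_simp
        linear_combination -hdet
      · field_simp; ring
    rw [this]
    exact mul_mem (mul_mem (hx _) (hlo _)) (hx _)
  intro A _
  by_cases hA : A.1 1 0 = 0
  · have hdet : A.1 0 0 * A.1 1 1 - A.1 0 1 * A.1 1 0 = 1 := by
      have := A.2; rwa [det_fin_two] at this
    have hd : A.1 1 1 ≠ 0 := by
      intro h; rw [hA, h] at hdet; simp at hdet
    have h3 : A * lo 1 ∈ C := by
      apply key
      change (A.1 * (!![1, 0; 1, 1] : M2)) 1 0 ≠ 0
      simp [Matrix.mul_apply, Fin.sum_univ_two, hA, hd]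
    have h4 := mul_mem h3 (inv_mem (hlo 1))
    simpa using h4
  · exact key A hA

end Cyc

end CfsgLib.H6Ca
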