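import Mathlib
import Cfsg.Agent.LibH6CaH

/-! Groups in which centralizers of involutions are abelian: the direct product decomposition. -/

set_option autoImplicit false
set_option linter.all false

namespace CfsgLib.H6Ca

open Cfsg Subgroup CfsgLib.Invol CfsgLib.FusionH12 CfsgLib.StrongH12 CfsgLib.G2B CfsgLib.H6P2
open scoped Pointwise

universe u v

section Split

variable {G : Type u} [Group G] [Finite G]

/-- normal subgroups of odd order lie in the kernels -/
theorem odd_normal_le (X : Ctx G) (B : Subgroup G) [B.Normal] (hB : Odd (Nat.card B)) (P : Sylow 2 G) :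
    B ≤ AA P := by
  haveI : Fact (Nat.Prime 2) := ⟨Nat.prime_two⟩
  haveI : IsMulCommutative (P : Subgroup G) := ⟨⟨fun a b => Subtype.ext (P_comm X a.2 b.2)⟩⟩
  have hcop : (Nat.card (P : Subgroup G)).Coprime (Nat.card B) := by
    obtain ⟨n, hn⟩ := P.2.exists_card_eq
    have hn' : Nat.card (P : Subgroup G) = 2 ^ n := hn
    rw [hn']
    exact Nat.Coprime.pow_left _ (Nat.coprime_two_left.2 hB)
  have hle : (P : Subgroup G) ≤ normalizer (B : Set G) := by
    rw [normalizer_eq_top_iff.2 ‹B.Normal›]; exact le_top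
  have h := CfsgLib.Coprime2.generation_noncyclic (X.hnc P) hle hcop
  rw [← h]
  apply iSup₂_le
  rintro a ⟨haP, ha1⟩ b ⟨-, hb⟩
  replace hb : Commute b a := mem_centralizer_singleton_iff.1 hb
  -- a power of `a` is an involution
  obtain ⟨k, hk⟩ := P.2 ⟨a, haP⟩
  have hk' : a ^ 2 ^ k = 1 := congrArg Subtype.val hk
  have h2 : 2 ∣ orderOf a := by
    have h3 := orderOf_dvd_of_pow_eq_one hk'
    obtain ⟨j, hj, hj'⟩ := (Nat.dvd_prime_pow Nat.prime_two).1 h3
    rw [hj']
    rcases Nat.eq_zero_or_pos j with h | h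
    · exfalso
      rw [h, pow_zero, orderOf_eq_one_iff] at hj'
      exact ha1 hj'
    · exact dvd_pow_self _ (by omega)
  obtain ⟨m, hm⟩ := h2
  have hpos := orderOf_pos a
  have hm0 : m ≠ 0 := by rintro rfl; omega
  have ht : orderOf (a ^ m) = 2 := by
    rw [orderOf_pow_of_dvd hm0 (by rw [hm]; exact ⟨2, by ring⟩), hm,
      Nat.mul_div_cancel _ (Nat.pos_of_ne_zero hm0)]
  exact mem_AA_of X (pow_mem haP m) ht (Commute.pow_right hb m)

theorem split (X : Ctx G) :
    ∃ (F : Type) (_ : Field F) (_ : Fintype F), (2 : F) = 0 ∧ 4 ≤ Fintype.card F ∧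
      Nonempty (G ≃* Matrix.SpecialLinearGroup (Fin 2) F × Abelianization G) ∧
      Odd (Nat.card (Abelianization G)) := by
  classical
  haveI : Fact (Nat.Prime 2) := ⟨Nat.prime_two⟩
  obtain ⟨F, iF, iFF, φ, h2, h4, hsurj, hodd⟩ := main _ G rfl X
  have hBA : ∀ P : Sylow 2 G, φ.ker ≤ AA P := fun P => odd_normal_le X φ.ker hodd P
  obtain ⟨P0⟩ := (inferInstance : Nonempty (Sylow 2 G))
  -- the kernel commutes with every involution
  have hBinv : ∀ b ∈ φ.ker, ∀ t : G, orderOf t = 2 → Commute b t := by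
    intro b hb t ht
    obtain ⟨R, hR⟩ := exists_pt X ht
    exact mem_AA.1 (hBA R hb) t hR
  -- the kernel is central
  have hcen : φ.ker ≤ center G := by
    intro b hb
    have h5 : ∀ σ : Matrix.SpecialLinearGroup (Fin 2) F, ∃ g : G, φ g = σ ∧ Commute b g := by
      intro σ
      have hσ : σ ∈ Subgroup.closure {σ : Matrix.SpecialLinearGroup (Fin 2) F | orderOf σ = 2} := by
        rw [gen_inv h2]; trivial
      induction hσ using Subgroup.closure_induction with
      | mem σ h =>
        obtain ⟨t, ht, ht2⟩ := lift_inv hsurj hodd h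
        exact ⟨t, ht, hBinv b hb t ht2⟩
      | one => exact ⟨1, map_one φ, Commute.one_right b⟩
      | mul x y _ _ hx hy =>
        obtain ⟨g, rfl, hg⟩ := hx
        obtain ⟨h, rfl, hh⟩ := hy
        exact ⟨g * h, map_mul φ g h, hg.mul_right hh⟩
      | inv x _ hx =>
        obtain ⟨g, rfl, hg⟩ := hx
        exact ⟨g⁻¹, map_inv φ g, hg.inv_right⟩
    rw [mem_center_iff]
    intro g
    obtain ⟨g', hg', hc⟩ := h5 (φ g)
    have h6 : g'⁻¹ * g ∈ φ.ker := by rw [MonoidHom.mem_ker, map_mul, map_inv, hg', inv_mul_cancel]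
    have h7 : Commute b (g'⁻¹ * g) := AA_comm X (hBA P0 hb) (hBA P0 h6)
    have h8 : Commute b (g' * (g'⁻¹ * g)) := hc.mul_right h7
    rw [mul_inv_cancel_left] at h8
    exact h8.symm
  -- all Sylow subgroups are abelian
  have hsyl : ∀ p : ℕ, p.Prime → ∀ R : Sylow p G, IsMulCommutative R := by
    intro p hp R
    haveI : Fact p.Prime := ⟨hp⟩
    by_cases hp2 : p = 2
    · subst hp2
      exact ⟨⟨fun a b => Subtype.ext (P_comm X a.2 b.2)⟩⟩
    · let f : ↥(R : Subgroup G) →* ((R : Subgroup G).map φ) :=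
        { toFun := fun x => ⟨φ x, Subgroup.mem_map_of_mem φ x.2⟩
          map_one' := Subtype.ext (map_one φ)
          map_mul' := fun a b => Subtype.ext (map_mul φ _ _) }
      haveI : IsCyclic ((R : Subgroup G).map φ) := odd_p_cyclic h2 hp hp2 _ (R.2.map φ)
      have hk : f.ker ≤ center ↥(R : Subgroup G) := by
        intro x hx
        have h5 : (x : G) ∈ φ.ker := congrArg Subtype.val hx
        have h6 := hcen h5
        rw [mem_center_iff] at h6 ⊢
        intro y
        exact Subtype.ext (h6 y)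
      exact ⟨⟨fun a b => commutative_of_cyclic_center_quotient f hk a b⟩⟩
  have h0 := Cfsg.Agent.S0089.result hsyl
  have hinf : commutator G ⊓ φ.ker = ⊥ := by
    rw [eq_bot_iff, ← h0]
    exact inf_le_inf_left _ hcen
  have hmapc : (commutator G).map φ = ⊤ := by
    rw [map_commutator_eq, MonoidHom.range_eq_top.2 hsurj, ← commutator_def]
    exact Cfsg.Agent.S0300.sl2_perfect h4
  let Φ : G →* Matrix.SpecialLinearGroup (Fin 2) F × Abelianization G := φ.prod Abelianization.of
  have hinj : Function.Injective Φ := by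
    rw [injective_iff_map_eq_one]
    intro g hg
    have h5 : g ∈ commutator G ⊓ φ.ker := by
      refine mem_inf.2 ⟨?_, congrArg Prod.fst hg⟩
      rw [← Abelianization.ker_of]
      exact congrArg Prod.snd hg
    rw [hinf, mem_bot] at h5
    exact h5
  have hsur : Function.Surjective Φ := by
    rintro ⟨σ, a⟩
    obtain ⟨h, rfl⟩ := QuotientGroup.mk_surjective a
    have h5 : σ * (φ h)⁻¹ ∈ (commutator G).map φ := by rw [hmapc]; trivial
    obtain ⟨l, hl, hl'⟩ := h5
    refine ⟨l * h, Prod.ext ?_ ?_⟩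
    · change φ (l * h) = σ
      rw [map_mul, hl', inv_mul_cancel_right]
    · change Abelianization.of (l * h) = _
      rw [map_mul]
      have : Abelianization.of l = 1 := by
        rw [← MonoidHom.mem_ker, Abelianization.ker_of]; exact hl
      rw [this, one_mul]; rfl
  refine ⟨F, iF, iFF, h2, h4, ⟨MulEquiv.ofBijective Φ ⟨hinj, hsur⟩⟩, ?_⟩
  have hc1 : Nat.card G = Nat.card (Matrix.SpecialLinearGroup (Fin 2) F) * Nat.card (Abelianization G) := by
    rw [← Nat.card_prod]; exact Nat.card_congr (Equiv.ofBijective Φ ⟨hinj, hsur⟩)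
  have hc2 : Nat.card G = Nat.card (Matrix.SpecialLinearGroup (Fin 2) F) * Nat.card φ.ker := by
    rw [φ.ker.card_eq_card_quotient_mul_card_subgroup,
      Nat.card_congr (QuotientGroup.quotientKerEquivOfSurjective φ hsurj).toEquiv]
  have hpos : 0 < Nat.card (Matrix.SpecialLinearGroup (Fin 2) F) := Nat.card_pos
  rw [Nat.eq_of_mul_eq_mul_left hpos (hc1.symm.trans hc2)]
  exact hodd

end Split

end CfsgLib.H6Ca
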