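import Cfsg.Agent.EqBase
import Cfsg.Agent.LibPSolv19
import Cfsg.Agent.LibH6PSplit
import Cfsg.Agent.LibSolvCoprime
import Cfsg.Agent.LibH2Misc

/-! Cyclic Sylow subgroups and normal subgroups. -/

set_option autoImplicit false

namespace CfsgLib.H6

open Subgroup Cfsg CfsgLib.PSolv19
open scoped Pointwise

theorem conj_pow_pow {X : Type*} [Group X] {x g : X} {r : ℕ} (h : g * x * g⁻¹ = x ^ r) (i : ℕ) :
    g ^ i * x * (g ^ i)⁻¹ = x ^ (r ^ i) := by
  induction i with
  | zero => simp
  | succ i ih =>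
    have e : g ^ (i + 1) * x * (g ^ (i + 1))⁻¹ = g * (g ^ i * x * (g ^ i)⁻¹) * g⁻¹ := by
      rw [pow_succ']; group
    rw [e, ih]
    have : g * x ^ r ^ i * g⁻¹ = (g * x * g⁻¹) ^ r ^ i := by rw [conj_pow]
    rw [this, h, ← pow_mul, pow_succ']

theorem pow_fix {X : Type*} [Group X] {p : ℕ} {x g : X} {r n : ℕ} (hx : x ^ p ^ n = 1)
    (h : g * x * g⁻¹ = x ^ r) (hr : (p : ℤ) ∣ (r : ℤ) - 1) : ∃ k : ℕ, ∀ y ∈ zpowers x, g ^ p ^ k * y = y * g ^ p ^ k := by
  refine ⟨n, ?_⟩
  have h1 := dvd_sub_pow_of_dvd_sub (R := ℤ) (p := p) (a := (r : ℤ)) (b := 1) hr n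
  rw [one_pow] at h1
  have h2 : ((p ^ n : ℕ) : ℤ) ∣ ((r ^ p ^ n : ℕ) : ℤ) - 1 := by
    refine dvd_trans ?_ (by simpa using h1)
    push_cast
    exact pow_dvd_pow _ (Nat.le_succ n)
  have h3 : x ^ (r ^ p ^ n) = x := by
    obtain ⟨c, hc⟩ := h2
    have h4 : ((r ^ p ^ n : ℕ) : ℤ) = ((p ^ n : ℕ) : ℤ) * c + 1 := by linarith
    have h5 : x ^ ((r ^ p ^ n : ℕ) : ℤ) = x := by
      rw [h4, zpow_add, zpow_mul, zpow_natCast, hx, one_zpow, one_mul, zpow_one]
    rwa [zpow_natCast] at h5
  have h4 := conj_pow_pow h (p ^ n)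
  rw [h3, mul_inv_eq_iff_eq_mul] at h4
  intro y hy
  obtain ⟨i, rfl⟩ := mem_zpowers_iff.mp hy
  exact ((show Commute (g ^ p ^ n) x from h4).zpow_right i).eq

theorem normalizer_le_centralizer_of_pow {X : Type*} [Group X] [Finite X] {p : ℕ} [Fact p.Prime] (P : Sylow p X)
    (hab : ∀ a ∈ (P : Subgroup X), ∀ b ∈ (P : Subgroup X), a * b = b * a)
    (h : ∀ g ∈ normalizer ((P : Subgroup X) : Set X), ∃ k : ℕ, ∀ y ∈ (P : Subgroup X), g ^ p ^ k * y = y * g ^ p ^ k) :
    normalizer ((P : Subgroup X) : Set X) ≤ centralizer ((P : Subgroup X) : Set X) := by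
  classical
  have hpp : p.Prime := Fact.out
  intro g hg
  obtain ⟨e, f, hef, ⟨k, hk⟩, hf⟩ := exists_p_decomp p hpp g
  rw [← hef]
  refine mul_mem ?_ ?_
  · have hz : IsPGroup p (zpowers (g ^ e)) := IsPGroup.of_card (n := k) (by rw [Nat.card_zpowers, hk])
    have hfix : P ∈ MulAction.fixedPoints (zpowers (g ^ e)) (Sylow p X) := by
      intro z
      have hzN : (z : X) ∈ normalizer ((P : Subgroup X) : Set X) := by
        obtain ⟨i, hi⟩ := mem_zpowers_iff.mp z.2
        rw [← hi]
        exact zpow_mem (pow_mem hg e) i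
      exact Sylow.smul_eq_iff_mem_normalizer.mpr hzN
    have hle := (hz.sylow_mem_fixedPoints_iff).mp hfix
    rw [mem_centralizer_iff]
    intro b hb
    exact hab b hb _ (hle (mem_zpowers _))
  · obtain ⟨j, hj⟩ := h (g ^ f) (pow_mem hg f)
    obtain ⟨m, hm⟩ := exists_pow_eq_self_of_coprime (x := g ^ f) (n := p ^ j) (Nat.Coprime.pow_left j hf.symm)
    rw [mem_centralizer_iff]
    intro b hb
    have h1 : Commute ((g ^ f) ^ p ^ j) b := hj b hb
    have h2 := h1.pow_left m
    rw [hm] at h2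
    exact h2.eq.symm

/-- `H ⊴ G`, `P` cyclic Sylow, `p ∣ |G:H|` : Burnside condition in `H`. -/
theorem burnside_normal {G : Type*} [Group G] [Finite G] (p : ℕ) [Fact p.Prime]
    (P : Sylow p G) (hP : IsCyclic (P : Subgroup G)) (H : Subgroup G) [H.Normal] (h2 : p ∣ H.index)
    (S : Sylow p H) (hS : (S : Subgroup H) = (P : Subgroup G).subgroupOf H) :
    normalizer ((S : Subgroup H) : Set H) ≤ centralizer ((S : Subgroup H) : Set H) := by
  classical
  have hpp : p.Prime := Fact.out
  have hPab : ∀ a ∈ (P : Subgroup G), ∀ b ∈ (P : Subgroup G), a * b = b * a := by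
    intro a ha b hb
    letI := IsCyclic.commGroup (α := (P : Subgroup G))
    exact congrArg Subtype.val (mul_comm (⟨a, ha⟩ : (P : Subgroup G)) ⟨b, hb⟩)
  obtain ⟨⟨x, hxP⟩, hx⟩ := hP.exists_generator
  have hxgen : ∀ y ∈ (P : Subgroup G), y ∈ zpowers x := by
    intro y hy
    obtain ⟨i, hi⟩ := mem_zpowers_iff.mp (hx ⟨y, hy⟩)
    exact mem_zpowers_iff.mpr ⟨i, congrArg Subtype.val hi⟩
  obtain ⟨n, hn⟩ := (IsPGroup.iff_orderOf.mp P.2) ⟨x, hxP⟩
  rw [Subgroup.orderOf_mk] at hn
  have hPH : ¬ (P : Subgroup G) ≤ H := fun hle => P.not_dvd_index (h2.trans (Subgroup.index_dvd_of_le hle))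
  apply normalizer_le_centralizer_of_pow S
  · intro a ha b hb
    rw [hS, mem_subgroupOf] at ha hb
    exact Subtype.ext (hPab a ha b hb)
  · intro h hh
    set P0 : Subgroup G := (P : Subgroup G) ⊓ H with hP0
    -- h normalizes P0
    have hhP0 : ∀ y, y ∈ P0 ↔ (h : G) * y * (h : G)⁻¹ ∈ P0 := by
      intro y
      rw [mem_normalizer_iff] at hh
      constructor
      · intro hy
        have h3 := (hh ⟨y, (mem_inf.mp hy).2⟩).mp (by rw [hS]; exact (mem_inf.mp hy).1)
        rw [hS] at h3
        exact mem_inf.mpr ⟨h3, (h * ⟨y, (mem_inf.mp hy).2⟩ * h⁻¹ : H).2⟩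
      · intro hy
        have hyH : y ∈ H := by
          have h3 := (mem_inf.mp hy).2
          have := mul_mem (mul_mem (inv_mem h.2) h3) h.2
          have e : (h : G)⁻¹ * ((h : G) * y * (h : G)⁻¹) * (h : G) = y := by group
          rwa [e] at this
        have h3 := (hh ⟨y, hyH⟩).mpr (by rw [hS]; exact (mem_inf.mp hy).1)
        rw [hS] at h3
        exact mem_inf.mpr ⟨h3, hyH⟩
    let C : Subgroup G := centralizer (P0 : Set G) ⊓ H
    have hPC0 : (P : Subgroup G) ≤ centralizer (P0 : Set G) := by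
      intro y hy
      rw [mem_centralizer_iff]
      intro z hz
      exact hPab z (mem_inf.mp hz).1 y hy
    have hPC : (P : Subgroup G) ≤ normalizer (C : Set G) := by
      have key : ∀ y ∈ (P : Subgroup G), ∀ c ∈ C, y * c * y⁻¹ ∈ C := by
        intro y hy c hc
        exact mem_inf.mpr ⟨mul_mem (mul_mem (hPC0 hy) (mem_inf.mp hc).1) (inv_mem (hPC0 hy)),
          Subgroup.Normal.conj_mem inferInstance _ (mem_inf.mp hc).2 y⟩
      intro y hy
      rw [mem_normalizer_iff]
      intro c
      refine ⟨key y hy c, fun hc => ?_⟩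
      have := key y⁻¹ (inv_mem hy) _ hc
      have e : y⁻¹ * (y * c * y⁻¹) * y⁻¹⁻¹ = c := by group
      rwa [e] at this
    let J : Subgroup G := C ⊔ (P : Subgroup G)
    have hPJ : (P : Subgroup G) ≤ J := le_sup_right
    have hhC : (h : G) ∈ normalizer ((centralizer (P0 : Set G) : Subgroup G) : Set G) := by
      have hhn : (h : G) ∈ normalizer (P0 : Set G) := by
        rw [mem_normalizer_iff]; exact hhP0
      have key : ∀ g ∈ normalizer (P0 : Set G), ∀ c ∈ centralizer (P0 : Set G), g * c * g⁻¹ ∈ centralizer (P0 : Set G) := by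
        intro g hg c hc
        rw [mem_centralizer_iff] at hc ⊢
        intro y hy
        have hy' : g⁻¹ * y * g ∈ P0 := by
          have := (mem_normalizer_iff.mp (inv_mem hg) y).mp hy
          rwa [inv_inv] at this
        have h3 := hc _ hy'
        calc y * (g * c * g⁻¹) = g * ((g⁻¹ * y * g) * c) * g⁻¹ := by group
          _ = g * (c * (g⁻¹ * y * g)) * g⁻¹ := by rw [h3]
          _ = g * c * g⁻¹ * y := by group
      rw [mem_normalizer_iff]
      intro c
      refine ⟨key _ hhn c, fun hc => ?_⟩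
      have := key _ (inv_mem hhn) _ hc
      have e : (h : G)⁻¹ * ((h : G) * c * (h : G)⁻¹) * (h : G)⁻¹⁻¹ = c := by group
      rwa [e] at this
    have hPhJ : (((h : G) • P : Sylow p G) : Subgroup G) ≤ J := by
      intro y hy
      rw [Sylow.smul_def] at hy
      have hy' : (h : G)⁻¹ * y * (h : G) ∈ (P : Subgroup G) := mem_conj_iff.mp hy
      set z := (h : G)⁻¹ * y * (h : G) with hz
      have hyz : y = ((h : G) * z * (h : G)⁻¹ * z⁻¹) * z := by rw [hz]; group
      rw [hyz]
      refine mul_mem (le_sup_left (a := C) (mem_inf.mpr ⟨?_, ?_⟩)) (hPJ hy')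
      · exact mul_mem ((mem_normalizer_iff.mp hhC z).mp (hPC0 hy')) (inv_mem (hPC0 hy'))
      · have e : (h : G) * z * (h : G)⁻¹ * z⁻¹ = (h : G) * (z * (h : G)⁻¹ * z⁻¹) := by group
        rw [e]
        exact mul_mem h.2 (Subgroup.Normal.conj_mem inferInstance _ (inv_mem h.2) z)
    obtain ⟨j, hj⟩ := MulAction.exists_smul_eq J (P.subtype hPJ) (((h : G) • P).subtype hPhJ)
    -- j P j⁻¹ = h P h⁻¹
    have hjP : ∀ y ∈ (P : Subgroup G), (j : G) * y * (j : G)⁻¹ ∈ (((h : G) • P : Sylow p G) : Subgroup G) := by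
      intro y hy
      have h3 : (⟨y, hPJ hy⟩ : J) ∈ (P.subtype hPJ : Subgroup J) := hy
      have h4 : j * ⟨y, hPJ hy⟩ * j⁻¹ ∈ ((j • P.subtype hPJ : Sylow p J) : Subgroup J) := by
        rw [Sylow.smul_def]
        apply mem_conj_iff.mpr
        have : j⁻¹ * (j * ⟨y, hPJ hy⟩ * j⁻¹) * j = ⟨y, hPJ hy⟩ := by group
        rw [this]; exact h3
      rw [hj] at h4
      exact h4
    obtain ⟨d, hd, u, hu, hdu⟩ := (CfsgLib.SolvCoprime.mem_sup_iff_of_le_normalizer hPC).mp j.2
    have hdC := (mem_inf.mp hd).1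
    rw [mem_centralizer_iff] at hdC
    set m : G := d⁻¹ * (h : G) with hm
    have hmH : m ∈ H := mul_mem (inv_mem (mem_inf.mp hd).2) h.2
    -- m⁻¹ P m ⊆ P
    have hmP : ∀ y ∈ (P : Subgroup G), m⁻¹ * y * m ∈ (P : Subgroup G) := by
      intro y hy
      have h3 := hjP (u⁻¹ * y * u) (mul_mem (mul_mem (inv_mem hu) hy) hu)
      rw [Sylow.smul_def] at h3
      have h4 := mem_conj_iff.mp h3
      have e : (h : G)⁻¹ * ((j : G) * (u⁻¹ * y * u) * (j : G)⁻¹) * (h : G) = m⁻¹ * y * m := by
        rw [hm, ← hdu]; group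
      rwa [e] at h4
    have hmP' : ∀ y ∈ (P : Subgroup G), m * y * m⁻¹ ∈ (P : Subgroup G) := by
      intro y hy
      have hmn : m⁻¹ ∈ normalizer ((P : Subgroup G) : Set G) := by
        apply Subgroup.mem_normalizer_fintype
        intro n hn
        rw [inv_inv]
        exact hmP n hn
      have := (mem_normalizer_iff.mp (inv_mem hmn) y).mp hy
      rwa [inv_inv] at this
    -- r
    obtain ⟨r, hr⟩ : ∃ r : ℕ, m * x * m⁻¹ = x ^ r := by
      have h3 := hxgen _ (hmP' x hxP)
      rw [← mem_powers_iff_mem_zpowers] at h3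
      obtain ⟨r, hr⟩ := h3
      exact ⟨r, hr.symm⟩
    have hpr : (p : ℤ) ∣ (r : ℤ) - 1 := by
      by_contra hnd
      have h3 : x ^ ((r : ℤ) - 1) ∈ H := by
        rw [zpow_sub, zpow_natCast, ← hr, zpow_one]
        have e : m * x * m⁻¹ * x⁻¹ = m * (x * m⁻¹ * x⁻¹) := by group
        rw [e]
        exact mul_mem hmH (Subgroup.Normal.conj_mem inferInstance _ (inv_mem hmH) x)
      have hcop : IsCoprime ((r : ℤ) - 1) ((p ^ n : ℕ) : ℤ) := by
        push_cast
        apply IsCoprime.pow_right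
        rw [isCoprime_comm]
        exact (Nat.prime_iff_prime_int.mp hpp).coprime_iff_not_dvd.mpr hnd
      obtain ⟨a, b, hab⟩ := hcop
      have hxH : x ∈ H := by
        have h4 : x = (x ^ ((r : ℤ) - 1)) ^ a := by
          have h5 : x = x ^ (a * ((r : ℤ) - 1) + b * ((p ^ n : ℕ) : ℤ)) := by rw [hab, zpow_one]
          rw [zpow_add, mul_comm b, zpow_mul x ((p ^ n : ℕ) : ℤ), zpow_natCast, ← hn, pow_orderOf_eq_one, one_zpow, mul_one, mul_comm a,
            zpow_mul] at h5
          exact h5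
        rw [h4]; exact zpow_mem h3 a
      apply hPH
      intro y hy
      obtain ⟨i, rfl⟩ := mem_zpowers_iff.mp (hxgen y hy)
      exact zpow_mem hxH i
    obtain ⟨k, hk⟩ := pow_fix (p := p) (n := n) (by rw [← hn]; exact pow_orderOf_eq_one x) hr hpr
    refine ⟨k, ?_⟩
    -- actions of h and m on P0 agree
    have hagree : ∀ i : ℕ, ∀ y ∈ P0, (h : G) ^ i * y * ((h : G) ^ i)⁻¹ = m ^ i * y * (m ^ i)⁻¹ ∧ m ^ i * y * (m ^ i)⁻¹ ∈ P0 := by
      intro i
      induction i with
      | zero => intro y hy; refine ⟨by simp, by simpa using hy⟩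
      | succ i ih =>
        intro y hy
        obtain ⟨h3, h4⟩ := ih y hy
        set w := m ^ i * y * (m ^ i)⁻¹ with hw
        have e1 : (h : G) ^ (i + 1) * y * ((h : G) ^ (i + 1))⁻¹ = (h : G) * w * (h : G)⁻¹ := by
          rw [← h3, pow_succ']; group
        have e2 : m ^ (i + 1) * y * (m ^ (i + 1))⁻¹ = m * w * m⁻¹ := by
          rw [hw, pow_succ']; group
        have h5 : m * w * m⁻¹ ∈ P0 := mem_inf.mpr ⟨hmP' _ (mem_inf.mp h4).1, Subgroup.Normal.conj_mem inferInstance _ (mem_inf.mp h4).2 m⟩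
        have e3 : (h : G) * w * (h : G)⁻¹ = m * w * m⁻¹ := by
          have h6 := hdC _ h5
          have e4 : (h : G) * w * (h : G)⁻¹ = d * (m * w * m⁻¹) * d⁻¹ := by rw [hm]; group
          rw [e4, ← h6, mul_inv_cancel_right]
        exact ⟨by rw [e1, e2, e3], by rw [e2]; exact h5⟩
    intro y hy
    rw [hS] at hy
    have hyP0 : (y : G) ∈ P0 := mem_inf.mpr ⟨hy, y.2⟩
    have h3 := (hagree (p ^ k) y hyP0).1
    have h4 := hk y (hxgen _ hy)
    have h5 : (h : G) ^ p ^ k * (y : G) * ((h : G) ^ p ^ k)⁻¹ = y := by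
      rw [h3, h4, mul_inv_cancel_right]
    apply Subtype.ext
    exact mul_inv_eq_iff_eq_mul.mp h5


/-- `P` cyclic Sylow, `Z` a nontrivial `p`-subgroup centralized by everything: Burnside condition. -/
theorem burnside_central {G : Type*} [Group G] [Finite G] (p : ℕ) [Fact p.Prime]
    (P : Sylow p G) (hP : IsCyclic (P : Subgroup G)) (z : G) (hz1 : z ≠ 1) (hzP : z ∈ (P : Subgroup G))
    (hzc : ∀ g : G, g * z = z * g) :
    normalizer ((P : Subgroup G) : Set G) ≤ centralizer ((P : Subgroup G) : Set G) := by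
  classical
  have hpp : p.Prime := Fact.out
  have hPab : ∀ a ∈ (P : Subgroup G), ∀ b ∈ (P : Subgroup G), a * b = b * a := by
    intro a ha b hb
    letI := IsCyclic.commGroup (α := (P : Subgroup G))
    exact congrArg Subtype.val (mul_comm (⟨a, ha⟩ : (P : Subgroup G)) ⟨b, hb⟩)
  obtain ⟨⟨x, hxP⟩, hx⟩ := hP.exists_generator
  have hxgen : ∀ y ∈ (P : Subgroup G), y ∈ zpowers x := by
    intro y hy
    obtain ⟨i, hi⟩ := mem_zpowers_iff.mp (hx ⟨y, hy⟩)
    exact mem_zpowers_iff.mpr ⟨i, congrArg Subtype.val hi⟩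
  obtain ⟨n, hn⟩ := (IsPGroup.iff_orderOf.mp P.2) ⟨x, hxP⟩
  rw [Subgroup.orderOf_mk] at hn
  apply normalizer_le_centralizer_of_pow P hPab
  intro g hg
  obtain ⟨r, hr⟩ : ∃ r : ℕ, g * x * g⁻¹ = x ^ r := by
    have h3 := hxgen _ ((mem_normalizer_iff.mp hg x).mp hxP)
    rw [← mem_powers_iff_mem_zpowers] at h3
    obtain ⟨r, hr⟩ := h3
    exact ⟨r, hr.symm⟩
  have hpr : (p : ℤ) ∣ (r : ℤ) - 1 := by
    by_contra hnd
    obtain ⟨i, hi⟩ := mem_zpowers_iff.mp (hxgen z hzP)
    have h1 : x ^ (((r : ℤ) - 1) * i) = 1 := by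
      have h2 : g * z * g⁻¹ = z := by rw [hzc g, mul_inv_cancel_right]
      rw [← hi, ← conj_zpow, hr, ← zpow_natCast, ← zpow_mul] at h2
      rw [sub_mul, one_mul, zpow_sub, h2, mul_inv_cancel]
    have h3 : ((p ^ n : ℕ) : ℤ) ∣ ((r : ℤ) - 1) * i := by
      rw [← hn]; exact orderOf_dvd_iff_zpow_eq_one.mpr h1
    have hcop : IsCoprime ((p ^ n : ℕ) : ℤ) ((r : ℤ) - 1) := by
      push_cast
      apply IsCoprime.pow_left
      exact (Nat.prime_iff_prime_int.mp hpp).coprime_iff_not_dvd.mpr hnd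
    have h4 := hcop.dvd_of_dvd_mul_left h3
    apply hz1
    rw [← hi]
    rw [← hn] at h4
    exact orderOf_dvd_iff_zpow_eq_one.mp h4
  exact pow_fix (p := p) (n := n) (by rw [← hn]; exact pow_orderOf_eq_one x) hr hpr |>.imp
    (fun k hk y hy => hk y (hxgen y hy))

theorem hasCompl_of_burnside {G : Type*} [Group G] [Finite G] (p : ℕ) [Fact p.Prime]
    (P : Sylow p G) (h : normalizer ((P : Subgroup G) : Set G) ≤ centralizer ((P : Subgroup G) : Set G)) :
    ∃ N : Subgroup G, N.Normal ∧ N.IsComplement' (P : Subgroup G) :=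
  ⟨_, inferInstance, MonoidHom.ker_transferSylow_isComplement' P h⟩

universe u

/-- S4145, second half. -/
theorem psolv_of_cyclic_sylow (p : ℕ) [Fact p.Prime] (n : ℕ) : ∀ (G : Type u) [Group G] [Finite G], Nat.card G = n →
    ∀ (P : Sylow p G), IsCyclic (P : Subgroup G) → ∀ (H : Subgroup G) [H.Normal], p ∣ Nat.card H → p ∣ H.index →
    IsPSolvable p G := by
  induction n using Nat.strong_induction_on with
  | _ n ih =>
  intro G _ _ hn P hP H _ h1 h2
  classical
  have hpp : p.Prime := Fact.out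
  by_cases hO : pPrimeCore p G = ⊥
  · -- `H` is a `p`-group
    obtain ⟨S, hS⟩ : ∃ S : Sylow p H, (S : Subgroup H) = (P : Subgroup G).subgroupOf H :=
      CfsgLib.H2Misc.exists_sylow_inf_normal P H
    have hb := burnside_normal p P hP H h2 S hS
    obtain ⟨D, hDn, hDc⟩ := hasCompl_of_burnside p S hb
    have hDcard : (Nat.card D).Coprime p := by
      rw [← hDc.index_eq_card]
      exact ((Nat.Prime.coprime_iff_not_dvd hpp).mpr S.not_dvd_index).symm
    have hHO : pPrimeCore p H = ⊥ := by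
      have h3 : ((pPrimeCore p H).map H.subtype).Normal := ConjAct.normal_of_characteristic_of_normal
      have h4 : (Nat.card ((pPrimeCore p H).map H.subtype)).Coprime p := by
        rw [Subgroup.card_map_of_injective H.subtype_injective]
        exact CfsgLib.Cores.pPrimeCore_coprime p
      have h5 := CfsgLib.Cores.le_pPrimeCore h3 h4
      rw [hO, le_bot_iff] at h5
      exact (Subgroup.map_eq_bot_iff_of_injective _ H.subtype_injective).mp h5
    have hDbot : D = ⊥ := by
      have h5 := CfsgLib.Cores.le_pPrimeCore hDn hDcard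
      rwa [hHO, le_bot_iff] at h5
    have hHP : H ≤ (P : Subgroup G) := by
      rw [hDbot, Subgroup.isComplement'_bot_left] at hDc
      rw [hDc] at hS
      exact Subgroup.subgroupOf_eq_top.mp hS.symm
    -- the centralizer of H
    let C : Subgroup G := centralizer (H : Set G)
    haveI hCn : C.Normal := Subgroup.normal_centralizer
    have hPab : ∀ a ∈ (P : Subgroup G), ∀ b ∈ (P : Subgroup G), a * b = b * a := by
      intro a ha b hb
      letI := IsCyclic.commGroup (α := (P : Subgroup G))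
      exact congrArg Subtype.val (mul_comm (⟨a, ha⟩ : (P : Subgroup G)) ⟨b, hb⟩)
    have hPC : (P : Subgroup G) ≤ C := by
      intro y hy
      rw [mem_centralizer_iff]
      intro z hz
      exact hPab z (hHP hz) y hy
    have hHne : H ≠ ⊥ := by
      rintro rfl
      rw [Subgroup.card_bot] at h1
      exact hpp.one_lt.ne' (Nat.dvd_one.mp h1)
    obtain ⟨z, hz, hz1⟩ := (Subgroup.bot_or_exists_ne_one H).resolve_left hHne
    have hcycC : IsCyclic ((P.subtype hPC : Sylow p C) : Subgroup C) := by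
      have e : ((P.subtype hPC : Sylow p C) : Subgroup C) ≃* (P : Subgroup G) := Subgroup.subgroupOfEquivOfLe hPC
      exact (MulEquiv.isCyclic e).mpr hP
    have hbC := burnside_central p (P.subtype hPC) hcycC ⟨z, hPC (hHP hz)⟩ (fun h => hz1 (congrArg Subtype.val h)) (hHP hz)
      (fun g => Subtype.ext ((mem_centralizer_iff.mp g.2) z hz).symm)
    obtain ⟨E, hEn, hEc⟩ := hasCompl_of_burnside p (P.subtype hPC) hbC
    have hEcard : (Nat.card E).Coprime p := by
      rw [← hEc.index_eq_card]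
      exact ((Nat.Prime.coprime_iff_not_dvd hpp).mpr (P.subtype hPC).not_dvd_index).symm
    have hCO : pPrimeCore p C = ⊥ := by
      have h3 : ((pPrimeCore p C).map C.subtype).Normal := ConjAct.normal_of_characteristic_of_normal
      have h4 : (Nat.card ((pPrimeCore p C).map C.subtype)).Coprime p := by
        rw [Subgroup.card_map_of_injective C.subtype_injective]
        exact CfsgLib.Cores.pPrimeCore_coprime p
      have h5 := CfsgLib.Cores.le_pPrimeCore h3 h4
      rw [hO, le_bot_iff] at h5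
      exact (Subgroup.map_eq_bot_iff_of_injective _ C.subtype_injective).mp h5
    have hEbot : E = ⊥ := by
      have h5 := CfsgLib.Cores.le_pPrimeCore hEn hEcard
      rwa [hCO, le_bot_iff] at h5
    have hCP : C ≤ (P : Subgroup G) := by
      rw [hEbot, Subgroup.isComplement'_bot_left] at hEc
      exact Subgroup.subgroupOf_eq_top.mp hEc
    obtain ⟨c, hc⟩ := IsPGroup.iff_card.mp (P.2.to_le hCP)
    apply psolv_of_extension (N := C) (Or.inl ⟨c, hc⟩)
    apply psolv_of_solvable _ rfl
    -- `G/C` is abelian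
    haveI hHcyc : IsCyclic H := by
      have h3 : IsCyclic (H.subgroupOf (P : Subgroup G)) := Subgroup.isCyclic _
      exact (MulEquiv.isCyclic (Subgroup.subgroupOfEquivOfLe hHP)).mp h3
    have hker : (MulAut.conjNormal : G →* MulAut H).ker = C := by
      ext g
      rw [MonoidHom.mem_ker]
      show _ ↔ g ∈ centralizer (H : Set G)
      rw [mem_centralizer_iff]
      constructor
      · intro hg y hy
        have h3 : ((MulAut.conjNormal g ⟨y, hy⟩ : H) : G) = y := by rw [hg]; rfl
        rw [MulAut.conjNormal_apply] at h3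
        exact (mul_inv_eq_iff_eq_mul.mp h3).symm
      · intro hg
        apply MulEquiv.ext
        intro y
        apply Subtype.ext
        rw [MulAut.conjNormal_apply, ← hg y y.2, mul_inv_cancel_right]
        rfl
    apply Group.isSolvable_of_comm
    intro a b
    induction a using QuotientGroup.induction_on with
    | H a =>
      induction b using QuotientGroup.induction_on with
      | H b =>
        rw [← QuotientGroup.mk_mul, ← QuotientGroup.mk_mul, QuotientGroup.eq, ← hker, MonoidHom.mem_ker]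
        have hcomm : ∀ α β : MulAut H, α * β = β * α := by
          intro α β
          apply (hHcyc.mulAutMulEquiv H).injective
          rw [map_mul, map_mul, mul_comm]
        rw [map_mul, map_inv, map_mul, map_mul, hcomm (MulAut.conjNormal a) (MulAut.conjNormal b)]
        exact inv_mul_cancel _
  · -- pass to the quotient
    let N := pPrimeCore p G
    haveI : N.Normal := inferInstanceAs (pPrimeCore p G).Normal
    have hNc : (Nat.card N).Coprime p := CfsgLib.Cores.pPrimeCore_coprime p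
    apply psolv_of_extension (N := N) (Or.inr hNc)
    have hlt : Nat.card (G ⧸ N) < n := hn ▸ CfsgLib.SolvBasic.card_quotient_lt N hO
    let P' : Sylow p (G ⧸ N) := P.mapSurjective (QuotientGroup.mk'_surjective N)
    haveI : (H.map (QuotientGroup.mk' N)).Normal := Subgroup.Normal.map inferInstance _ (QuotientGroup.mk'_surjective N)
    apply ih _ hlt (G ⧸ N) rfl P' _ (H.map (QuotientGroup.mk' N))
    · -- order
      have h3 := CfsgLib.SolvBasic.card_map_mk'_mul_card_inf N H
      rw [← h3] at h1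
      rcases (Nat.Prime.dvd_mul hpp).mp h1 with h4 | h4
      · exact h4
      · exfalso
        have h5 : p ∣ Nat.card N := h4.trans (Subgroup.card_dvd_of_le inf_le_right)
        exact (Nat.Prime.coprime_iff_not_dvd hpp).mp hNc.symm h5
    · -- index
      have h3 : (H ⊔ N).index = (H.map (QuotientGroup.mk' N)).index := by
        rw [Subgroup.index_map, QuotientGroup.ker_mk', QuotientGroup.range_mk', Subgroup.index_top, mul_one]
      rw [← h3]
      have h4 : H.relIndex (H ⊔ N) * (H ⊔ N).index = H.index := Subgroup.relIndex_mul_index le_sup_left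
      rw [← h4] at h2
      rcases (Nat.Prime.dvd_mul hpp).mp h2 with h5 | h5
      · exfalso
        have h6 : H.relIndex (H ⊔ N) = H.relIndex N := by
          rw [sup_comm]; exact Subgroup.relIndex_sup_right N H
        rw [h6] at h5
        have h7 : p ∣ Nat.card N := h5.trans (Subgroup.relIndex_dvd_card _ _)
        exact (Nat.Prime.coprime_iff_not_dvd hpp).mp hNc.symm h7
      · exact h5
    · show IsCyclic ((P : Subgroup G).map (QuotientGroup.mk' N))
      exact isCyclic_of_surjective ((QuotientGroup.mk' N).subgroupMap (P : Subgroup G)) (MonoidHom.subgroupMap_surjective _ _)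

end CfsgLib.H6
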