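import Mathlib
/-!
# Derangements in primitive groups with a non-abelian minimal normal subgroup (helper6)
-/
set_option autoImplicit false
set_option linter.all false
open scoped Pointwise
namespace CfsgLib.H6Dr
open MulAction

universe u v

section Count
variable {G : Type u} [Group G] [Fintype G] {Ω : Type v} [MulAction G Ω] [Finite Ω]

theorem sum_one (hne : Nonempty Ω) [IsPretransitive G Ω] : ∑ g : G, Nat.card (fixedBy Ω g) = Nat.card G := by
  classical
  haveI := Fintype.ofFinite Ω
  haveI : Finite (orbitRel.Quotient G Ω) := inferInstance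
  haveI : Fintype (orbitRel.Quotient G Ω) := Fintype.ofFinite _
  have h := MulAction.sum_card_fixedBy_eq_card_orbits_mul_card_group (G := G) (X := Ω)
  have h1 : Nat.card (orbitRel.Quotient G Ω) = 1 := by
    rw [Nat.card_eq_one_iff_unique]
    constructor
    · rw [← pretransitive_iff_subsingleton_quotient]; infer_instance
    · obtain ⟨y⟩ := hne
      exact ⟨Quotient.mk'' y⟩
  rw [← Nat.card_eq_fintype_card, h1, one_mul] at h
  rw [Nat.card_eq_fintype_card, ← h]
  exact Finset.sum_congr rfl fun g _ => Nat.card_eq_fintype_card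

theorem card_fixed_one : Nat.card (fixedBy Ω (1 : G)) = Nat.card Ω := by
  apply Nat.card_congr
  refine (Equiv.setCongr ?_).trans (Equiv.Set.univ Ω)
  ext x; simp

theorem card_fixed_pos {g : G} : (∃ ω : Ω, g • ω = ω) ↔ 1 ≤ Nat.card (fixedBy Ω g) := by
  constructor
  · rintro ⟨ω, hω⟩
    haveI : Nonempty (fixedBy Ω g) := ⟨⟨ω, hω⟩⟩
    exact Nat.card_pos
  · intro h
    have h1 : Nonempty (fixedBy Ω g) := (Nat.card_pos_iff.1 h).1
    obtain ⟨ω, hω⟩ := h1
    exact ⟨ω, hω⟩

end Count

theorem jordan {X : Type u} [Group X] [Finite X] {Δ : Type v} [MulAction X Δ] [Finite Δ] [IsPretransitive X Δ] (h2 : 2 ≤ Nat.card Δ) :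
    ∃ x : X, ∀ d : Δ, x • d ≠ d := by
  classical
  haveI := Fintype.ofFinite X
  by_contra hcon
  push Not at hcon
  haveI : Nonempty Δ := (Nat.card_pos_iff.1 (by omega : 0 < Nat.card Δ)).1
  have h1 := sum_one (G := X) (Ω := Δ) inferInstance
  have h3 : ∑ g : X, 1 < ∑ g : X, Nat.card (fixedBy Δ g) := by
    apply Finset.sum_lt_sum
    · intro g _
      exact card_fixed_pos.1 (hcon g)
    · refine ⟨1, Finset.mem_univ _, ?_⟩
      rw [card_fixed_one]; omega
  rw [h1, Finset.sum_const, Finset.card_univ, smul_eq_mul, mul_one, Nat.card_eq_fintype_card] at h3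
  exact lt_irrefl _ h3

theorem jordan' {G : Type u} [Group G] [Finite G] {Λ : Type v} [MulAction G Λ] [Finite Λ] (U : Subgroup G) {l : Λ} (hl : ∃ u ∈ U, u • l ≠ l) :
    ∃ z ∈ U, ∀ c : G, (∀ x ∈ U, c * x = x * c) → ∀ u ∈ U, z • (c * u) • l ≠ (c * u) • l := by
  classical
  obtain ⟨u0, hu0, hul⟩ := hl
  have h2 : 2 ≤ Nat.card (orbit U l) := by
    haveI : Nontrivial (orbit U l) := ⟨⟨⟨l, mem_orbit_self l⟩, ⟨(⟨u0, hu0⟩ : U) • l, mem_orbit l _⟩, fun h => hul (congrArg Subtype.val h).symm⟩⟩
    exact Finite.one_lt_card_iff_nontrivial.2 inferInstance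
  obtain ⟨z, hz⟩ := jordan (X := U) (Δ := orbit U l) h2
  refine ⟨z, z.2, ?_⟩
  intro c hc u hu heq
  apply hz ⟨(⟨u, hu⟩ : U) • l, mem_orbit l _⟩
  apply Subtype.ext
  show (z : G) • (u • l) = u • l
  have h3 : (z : G) • (c * u) • l = c • (z : G) • u • l := by
    rw [mul_smul, ← mul_smul, ← mul_smul c, hc z z.2]
  rw [h3, mul_smul] at heq
  exact smul_left_cancel c heq

theorem mem_cj {G : Type u} [Group G] {T : Subgroup G} {g x : G} : x ∈ MulAut.conj g • T ↔ g⁻¹ * x * g ∈ T := by
  rw [Subgroup.mem_pointwise_smul_iff_inv_smul_mem, ← map_inv]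
  show g⁻¹ * x * g⁻¹⁻¹ ∈ T ↔ _
  rw [inv_inv]

theorem mem_ce {G : Type u} [Group G] {T : Subgroup G} {x : G} : x ∈ Subgroup.centralizer (T : Set G) ↔ ∀ y ∈ T, y * x = x * y := by
  rw [Subgroup.mem_centralizer_iff]; rfl

theorem card_cj {G : Type u} [Group G] [Finite G] {T : Subgroup G} {g : G} : Nat.card (MulAut.conj g • T : Subgroup G) = Nat.card T :=
  (Nat.card_congr (Subgroup.equivSMul (MulAut.conj g) T).toEquiv).symm

theorem nonab {G : Type u} [Group G] [Finite G] {Ω : Type v} [Finite Ω] [MulAction G Ω] [FaithfulSMul G Ω] (hΩ : 2 ≤ Nat.card Ω)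
    (htr : ∀ M : Subgroup G, M.Normal → M ≠ ⊥ → ∀ a b : Ω, ∃ m ∈ M, m • a = b)
    (hnas : ¬ ∃ T : Subgroup G, T.Normal ∧ IsSimpleGroup T ∧ ¬ IsMulCommutative T ∧ Subgroup.centralizer (T : Set G) = ⊥)
    (N : Subgroup G) (hN : N.Normal) (hNb : N ≠ ⊥) (hmin : ∀ M : Subgroup G, M.Normal → M ≤ N → M ≠ ⊥ → M = N)
    (hnab : ¬ ∀ x ∈ N, ∀ y ∈ N, x * y = y * x) :
    ∃ x y : G, (∀ ω : Ω, x • ω ≠ ω) ∧ (∀ ω : Ω, y • ω ≠ ω) ∧ ¬ IsConj x y := by
  classical
  obtain ⟨S, hS⟩ : ∃ S : Set (Subgroup G), S = {T | T ≠ ⊥ ∧ T ≤ N ∧ ∀ n ∈ N, ∀ t ∈ T, n * t * n⁻¹ ∈ T} := ⟨_, rfl⟩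
  have hNS : N ∈ S := by
    rw [hS]
    exact ⟨hNb, le_refl _, fun n hn t ht => N.mul_mem (N.mul_mem hn ht) (N.inv_mem hn)⟩
  obtain ⟨T, hTS, hTmin⟩ := WellFounded.has_min (wellFounded_lt (α := Subgroup G)) S ⟨N, hNS⟩
  have hTS' := hTS
  rw [hS] at hTS'
  obtain ⟨hT1, hT2, hT3⟩ := hTS'
  have hTmin' : ∀ X : Subgroup G, X ≠ ⊥ → X ≤ T → (∀ n ∈ N, ∀ t ∈ X, n * t * n⁻¹ ∈ X) → X = T := by
    intro X h1 h2 h3
    by_contra hne
    exact hTmin X (by rw [hS]; exact ⟨h1, h2.trans hT2, h3⟩) (lt_of_le_of_ne h2 hne)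
  -- conjugates
  have hcj3 : ∀ g : G, ∀ n ∈ N, ∀ t ∈ (MulAut.conj g • T : Subgroup G), n * t * n⁻¹ ∈ (MulAut.conj g • T : Subgroup G) := by
    intro g n hn t ht
    rw [mem_cj] at ht ⊢
    have h1 : g⁻¹ * (n * t * n⁻¹) * g = (g⁻¹ * n * g) * (g⁻¹ * t * g) * (g⁻¹ * n * g)⁻¹ := by group
    rw [h1]
    apply hT3 _ _ _ ht
    have := hN.conj_mem n hn g⁻¹
    rwa [inv_inv] at this
  have hcj2 : ∀ g : G, (MulAut.conj g • T : Subgroup G) ≤ N := by
    intro g x hx
    rw [mem_cj] at hx
    have := hN.conj_mem _ (hT2 hx) g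
    have h1 : g * (g⁻¹ * x * g) * g⁻¹ = x := by group
    rwa [h1] at this
  have hdis : ∀ g : G, (MulAut.conj g • T : Subgroup G) = T ∨ ∀ x ∈ T, x ∈ (MulAut.conj g • T : Subgroup G) → x = 1 := by
    intro g
    by_cases h : T ⊓ (MulAut.conj g • T : Subgroup G) = ⊥
    · right
      intro x hx hx2
      have h1 : x ∈ T ⊓ (MulAut.conj g • T : Subgroup G) := ⟨hx, hx2⟩
      rw [h] at h1
      exact Subgroup.mem_bot.1 h1
    · left
      have h1 := hTmin' _ h inf_le_left (fun n hn t ht => ⟨hT3 n hn t ht.1, hcj3 g n hn t ht.2⟩)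
      have h2 : T ≤ (MulAut.conj g • T : Subgroup G) := inf_eq_left.1 h1
      exact (Subgroup.eq_of_le_of_card_ge h2 card_cj.le).symm
  have hcom : ∀ g : G, (MulAut.conj g • T : Subgroup G) ≠ T → ∀ x ∈ T, ∀ y ∈ (MulAut.conj g • T : Subgroup G), x * y = y * x := by
    intro g hg x hx y hy
    have h1 := (hdis g).resolve_left hg
    have h2 : x * y * x⁻¹ * y⁻¹ ∈ T := by
      have : x * y * x⁻¹ * y⁻¹ = x * (y * x⁻¹ * y⁻¹) := by group
      rw [this]
      exact T.mul_mem hx (hT3 y (hcj2 g hy) _ (T.inv_mem hx))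
    have h3 : x * y * x⁻¹ * y⁻¹ ∈ (MulAut.conj g • T : Subgroup G) :=
      mul_mem (hcj3 g x (hT2 hx) y hy) (inv_mem hy)
    have h4 := h1 _ h2 h3
    have h5 : x * y * x⁻¹ * y⁻¹ * (y * x) = x * y := by group
    rw [← h5, h4, one_mul]
  -- generation
  have hgen : ∀ K : Subgroup G, (∀ g : G, (MulAut.conj g • T : Subgroup G) ≤ K) → N ≤ K := by
    intro K hK
    have h1 : (⨆ g : G, (MulAut.conj g • T : Subgroup G)) = N := by
      apply hmin
      · constructor
        intro x hx k
        have h2 : ∀ y ∈ (⨆ g : G, (MulAut.conj g • T : Subgroup G)), k * y * k⁻¹ ∈ (⨆ g : G, (MulAut.conj g • T : Subgroup G)) := by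
          intro y hy
          induction hy using Subgroup.iSup_induction' with
          | hp i y hy =>
            apply Subgroup.mem_iSup_of_mem (k * i)
            rw [mem_cj] at hy ⊢
            have : (k * i)⁻¹ * (k * y * k⁻¹) * (k * i) = i⁻¹ * y * i := by group
            rw [this]; exact hy
          | h1 => rw [mul_one, mul_inv_cancel]; exact one_mem _
          | hmul y z hy hz ihy ihz =>
            have : k * (y * z) * k⁻¹ = (k * y * k⁻¹) * (k * z * k⁻¹) := by group
            rw [this]; exact mul_mem ihy ihz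
        exact h2 x hx
      · exact iSup_le hcj2
      · intro h
        apply hT1
        rw [eq_bot_iff, ← h]
        have := le_iSup (fun g : G => (MulAut.conj g • T : Subgroup G)) 1
        simpa using this
    rw [← h1]
    exact iSup_le hK
  -- `T` has trivial center
  have hZ : ∀ x ∈ T, (∀ y ∈ T, x * y = y * x) → x = 1 := by
    by_contra hcon
    push Not at hcon
    obtain ⟨x, hx, hxc, hx1⟩ := hcon
    have h1 : T ⊓ Subgroup.centralizer (T : Set G) = T := by
      apply hTmin' _ _ inf_le_left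
      · rintro n hn t ⟨ht, htc⟩
        refine ⟨hT3 n hn t ht, mem_ce.2 ?_⟩
        intro y hy
        have h2 := (mem_ce.1 htc) (n⁻¹ * y * n) (by
          have := hT3 n⁻¹ (N.inv_mem hn) y hy
          rwa [inv_inv] at this)
        calc y * (n * t * n⁻¹) = n * ((n⁻¹ * y * n) * t) * n⁻¹ := by group
          _ = n * (t * (n⁻¹ * y * n)) * n⁻¹ := by rw [h2]
          _ = n * t * n⁻¹ * y := by group
      · intro h2
        apply hx1
        have h3 : x ∈ T ⊓ Subgroup.centralizer (T : Set G) := by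
          refine ⟨hx, mem_ce.2 ?_⟩
          intro y hy
          exact (hxc y hy).symm
        rw [h2] at h3
        exact Subgroup.mem_bot.1 h3
    have hTab : ∀ y ∈ T, ∀ z ∈ T, y * z = z * y := by
      intro y hy z hz
      have h2 : z ∈ Subgroup.centralizer (T : Set G) := (inf_eq_left.1 h1) hz
      rw [Subgroup.mem_centralizer_iff] at h2
      exact h2 y hy
    have hTN : ∀ y ∈ T, ∀ n ∈ N, y * n = n * y := by
      intro y hy n hn
      have h2 : N ≤ Subgroup.centralizer {y} := by
        apply hgen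
        intro g z hz
        rw [Subgroup.mem_centralizer_singleton_iff]
        by_cases hg : (MulAut.conj g • T : Subgroup G) = T
        · rw [hg] at hz
          exact hTab z hz y hy
        · exact (hcom g hg y hy z hz).symm
      have h3 := h2 hn
      rw [Subgroup.mem_centralizer_singleton_iff] at h3
      exact h3.symm
    apply hnab
    have h4 : N ⊓ Subgroup.centralizer (N : Set G) = N := by
      apply hmin
      · exact Subgroup.normal_inf_normal _ _
      · exact inf_le_left
      · intro h5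
        apply hT1
        rw [eq_bot_iff, ← h5]
        intro y hy
        refine ⟨hT2 hy, mem_ce.2 ?_⟩
        intro n hn
        exact (hTN y hy n hn).symm
    intro y hy z hz
    have h5 : z ∈ Subgroup.centralizer (N : Set G) := (inf_eq_left.1 h4) hz
    rw [Subgroup.mem_centralizer_iff] at h5
    exact h5 y hy
  -- decomposition
  have hdec : ∀ n ∈ N, ∃ c : G, ∃ t ∈ T, c ∈ N ∧ (∀ x ∈ T, c * x = x * c) ∧ n = c * t := by
    let K : Subgroup G :=
      { carrier := {n | ∃ c : G, ∃ t ∈ T, c ∈ N ∧ (∀ x ∈ T, c * x = x * c) ∧ n = c * t}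
        one_mem' := ⟨1, 1, T.one_mem, N.one_mem, fun x _ => by rw [one_mul, mul_one], by rw [one_mul]⟩
        mul_mem' := by
          rintro _ _ ⟨c, t, ht, hc, hcc, rfl⟩ ⟨c', t', ht', hc', hcc', rfl⟩
          refine ⟨c * c', t * t', T.mul_mem ht ht', N.mul_mem hc hc', ?_, ?_⟩
          · intro x hx
            rw [mul_assoc, hcc' x hx, ← mul_assoc, hcc x hx, mul_assoc]
          · calc c * t * (c' * t') = c * (t * c') * t' := by group
              _ = c * (c' * t) * t' := by rw [hcc' t ht]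
              _ = c * c' * (t * t') := by group
        inv_mem' := by
          rintro _ ⟨c, t, ht, hc, hcc, rfl⟩
          refine ⟨c⁻¹, t⁻¹, T.inv_mem ht, N.inv_mem hc, ?_, ?_⟩
          · intro x hx
            have := hcc x hx
            calc c⁻¹ * x = c⁻¹ * (x * c) * c⁻¹ := by group
              _ = c⁻¹ * (c * x) * c⁻¹ := by rw [this]
              _ = x * c⁻¹ := by group
          · rw [mul_inv_rev]
            have := hcc t ht
            calc t⁻¹ * c⁻¹ = (c * t)⁻¹ := by group
              _ = (t * c)⁻¹ := by rw [this]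
              _ = c⁻¹ * t⁻¹ := by group }
    have h1 : N ≤ K := by
      apply hgen
      intro g z hz
      by_cases hg : (MulAut.conj g • T : Subgroup G) = T
      · rw [hg] at hz
        exact ⟨1, z, hz, N.one_mem, fun x _ => by rw [one_mul, mul_one], by rw [one_mul]⟩
      · exact ⟨z, 1, T.one_mem, hcj2 g hz, fun x hx => (hcom g hg x hx z hz).symm, by rw [mul_one]⟩
    exact fun n hn => h1 hn
  have hNtr := htr N hN hNb
  haveI : Nonempty Ω := (Nat.card_pos_iff.1 (by omega : 0 < Nat.card Ω)).1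
  by_cases hTt : ∀ a b : Ω, ∃ t ∈ T, t • a = b
  · -- `T` is semiregular
    have hsemi : ∀ C : Subgroup G, (∀ a b : Ω, ∃ c ∈ C, c • a = b) → (∀ c ∈ C, ∀ x ∈ T, c * x = x * c) → ∀ x ∈ T, ∀ a : Ω, x • a = a → x = 1 := by
      intro C hC hCT x hx a ha
      apply FaithfulSMul.eq_of_smul_eq_smul (M := G) (α := Ω)
      intro b
      obtain ⟨c, hc, rfl⟩ := hC a b
      rw [one_smul, ← mul_smul, ← hCT c hc x hx, mul_smul, ha]
    have hfree : ∀ x ∈ T, ∀ a : Ω, x • a = a → x = 1 := by
      by_cases hall : ∀ g : G, (MulAut.conj g • T : Subgroup G) = T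
      · have hTn : T.Normal := by
          constructor
          intro x hx g
          rw [← hall g, mem_cj]
          have : g⁻¹ * (g * x * g⁻¹) * g = x := by group
          rw [this]; exact hx
        have hTN : T = N := hmin T hTn hT2 hT1
        have hsim : IsSimpleGroup T := by
          haveI : Nontrivial T := (Subgroup.nontrivial_iff_ne_bot T).2 hT1
          refine ⟨fun M hM => ?_⟩
          by_cases hMb : M = ⊥
          · exact Or.inl hMb
          · right
            have h1 : M.map T.subtype = T := by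
              apply hTmin'
              · intro h
                exact hMb ((Subgroup.map_eq_bot_iff_of_injective _ T.subtype_injective).1 h)
              · exact Subgroup.map_subtype_le M
              · rintro n hn _ ⟨m, hm, rfl⟩
                have hn' : n ∈ T := by rw [hTN]; exact hn
                exact ⟨⟨n, hn'⟩ * m * ⟨n, hn'⟩⁻¹, hM.conj_mem m hm _, rfl⟩
            rw [eq_top_iff]
            intro t _
            have h2 : (t : G) ∈ M.map T.subtype := by rw [h1]; exact t.2
            obtain ⟨m, hm, hmt⟩ := h2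
            have : m = t := Subtype.ext hmt
            rw [← this]; exact hm
        have hnc : ¬ IsMulCommutative T := by
          intro hc
          apply hT1
          rw [Subgroup.eq_bot_iff_forall]
          intro x hx
          apply hZ x hx
          intro y hy
          exact congrArg Subtype.val (hc.is_comm.comm (⟨x, hx⟩ : T) ⟨y, hy⟩)
        have hC : Subgroup.centralizer (T : Set G) ≠ ⊥ := fun h => hnas ⟨T, hTn, hsim, hnc, h⟩
        haveI := hTn
        refine hsemi _ (htr _ inferInstance hC) ?_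
        intro c hc x hx
        rw [Subgroup.mem_centralizer_iff] at hc
        exact (hc x hx).symm
      · push Not at hall
        obtain ⟨g, hg⟩ := hall
        refine hsemi (MulAut.conj g • T) ?_ (fun c hc x hx => (hcom g hg x hx c hc).symm)
        intro a b
        obtain ⟨t, ht, hta⟩ := hTt (g⁻¹ • a) (g⁻¹ • b)
        refine ⟨g * t * g⁻¹, ?_, ?_⟩
        · rw [mem_cj]
          have : g⁻¹ * (g * t * g⁻¹) * g = t := by group
          rw [this]; exact ht
        · rw [mul_smul, mul_smul, hta, smul_inv_smul]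
    -- two primes
    have hTc : 1 < Nat.card T := (Subgroup.one_lt_card_iff_ne_bot T).2 hT1
    obtain ⟨p, hp, hpd⟩ := Nat.exists_prime_and_dvd (by omega : Nat.card T ≠ 1)
    haveI := Fact.mk hp
    obtain ⟨q, hq, hqd, hqp⟩ : ∃ q : ℕ, q.Prime ∧ q ∣ Nat.card T ∧ q ≠ p := by
      by_contra hcon
      push Not at hcon
      have h1 := Nat.eq_prime_pow_of_unique_prime_dvd (by omega : Nat.card T ≠ 0) (fun {d} hd hdd => hcon d hd hdd)
      have h2 : IsPGroup p T := IsPGroup.of_card h1
      haveI : Nontrivial T := (Subgroup.nontrivial_iff_ne_bot T).2 hT1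
      have h3 := h2.center_nontrivial
      obtain ⟨z, hz⟩ := exists_ne (1 : Subgroup.center T)
      apply hz
      apply Subtype.ext
      apply Subtype.ext
      apply hZ _ (z : T).2
      intro y hy
      have h4 := Subgroup.mem_center_iff.1 z.2 ⟨y, hy⟩
      exact (congrArg Subtype.val h4).symm
    haveI := Fact.mk hq
    obtain ⟨x, hx⟩ := exists_prime_orderOf_dvd_card' p hpd
    obtain ⟨y, hy⟩ := exists_prime_orderOf_dvd_card' q hqd
    refine ⟨x, y, ?_, ?_, ?_⟩
    · intro ω hω
      have := hfree x x.2 ω hω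
      rw [← Subgroup.orderOf_coe, this, orderOf_one] at hx
      exact hp.one_lt.ne hx
    · intro ω hω
      have := hfree y y.2 ω hω
      rw [← Subgroup.orderOf_coe, this, orderOf_one] at hy
      exact hq.one_lt.ne hy
    · intro h
      obtain ⟨k, hk⟩ := isConj_iff.1 h
      have h1 : orderOf (y : G) = orderOf (x : G) := by
        rw [← hk]
        have := (MulAut.conj k).orderOf_eq (x : G)
        simpa using this
      rw [Subgroup.orderOf_coe, Subgroup.orderOf_coe, hx, hy] at h1
      exact hqp h1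
  · -- `T` is intransitive
    obtain ⟨g, ω0, u0, hu0, hne⟩ : ∃ g : G, ∃ ω : Ω, ∃ u ∈ (MulAut.conj g • T : Subgroup G), u • (orbit T ω : Set Ω) ≠ orbit T ω := by
      by_contra hcon
      push Not at hcon
      apply hTt
      intro a b
      have h1 : N ≤ stabilizer G (orbit T a : Set Ω) := by
        apply hgen
        intro g u hu
        exact hcon g a u hu
      obtain ⟨n, hn, hna⟩ := hNtr a b
      have h2 := h1 hn
      rw [mem_stabilizer_iff] at h2
      have h3 : b ∈ (orbit T a : Set Ω) := by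
        rw [← h2, ← hna]
        exact Set.smul_mem_smul_set (mem_orbit_self a)
      obtain ⟨t, ht⟩ := h3
      exact ⟨t, t.2, ht⟩
    have hnorb : ∀ n ∈ N, ∀ ω : Ω, n • (orbit T ω : Set Ω) = orbit T (n • ω) := by
      intro n hn ω
      ext x
      rw [Set.mem_smul_set]
      constructor
      · rintro ⟨_, ⟨t, rfl⟩, rfl⟩
        refine ⟨⟨n * t * n⁻¹, hT3 n hn t t.2⟩, ?_⟩
        show (n * (t : G) * n⁻¹) • n • ω = n • (t : G) • ω
        rw [← mul_smul, ← mul_smul]; congr 1; group
      · rintro ⟨t, rfl⟩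
        refine ⟨(n⁻¹ * (t : G) * n) • ω, ⟨⟨n⁻¹ * t * n, ?_⟩, rfl⟩, ?_⟩
        · have := hT3 n⁻¹ (N.inv_mem hn) t t.2
          rwa [inv_inv] at this
        · show n • (n⁻¹ * (t : G) * n) • ω = (t : G) • n • ω
          rw [← mul_smul, ← mul_smul]; congr 1; group
    have hgT : (MulAut.conj g • T : Subgroup G) ≠ T := by
      intro h
      rw [h] at hu0
      apply hne
      rw [hnorb u0 (hT2 hu0)]
      exact orbit_eq_iff.2 ⟨⟨u0, hu0⟩, rfl⟩
    obtain ⟨z, hz, hzz⟩ := jordan' (Λ := Set Ω) (MulAut.conj g • T) ⟨u0, hu0, hne⟩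
    have hdecg : ∀ n ∈ N, ∃ c : G, ∃ t ∈ (MulAut.conj g • T : Subgroup G), c ∈ N ∧ (∀ x ∈ (MulAut.conj g • T : Subgroup G), c * x = x * c) ∧ n = c * t := by
      intro n hn
      obtain ⟨c, t, ht, hc, hcc, hnct⟩ := hdec (g⁻¹ * n * g) (by
        have := hN.conj_mem n hn g⁻¹
        rwa [inv_inv] at this)
      refine ⟨g * c * g⁻¹, g * t * g⁻¹, ?_, hN.conj_mem c hc g, ?_, ?_⟩
      · rw [mem_cj]
        have : g⁻¹ * (g * t * g⁻¹) * g = t := by group
        rw [this]; exact ht
      · intro x hx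
        rw [mem_cj] at hx
        have h1 := hcc _ hx
        calc g * c * g⁻¹ * x = g * (c * (g⁻¹ * x * g)) * g⁻¹ := by group
          _ = g * ((g⁻¹ * x * g) * c) * g⁻¹ := by rw [h1]
          _ = x * (g * c * g⁻¹) := by group
      · calc n = g * (g⁻¹ * n * g) * g⁻¹ := by group
          _ = g * (c * t) * g⁻¹ := by rw [hnct]
          _ = g * c * g⁻¹ * (g * t * g⁻¹) := by group
    have hzN : z ∈ N := hcj2 g hz
    have hmove : ∀ ω : Ω, z • (orbit T ω : Set Ω) ≠ orbit T ω := by
      intro ω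
      obtain ⟨n, hn, rfl⟩ := hNtr ω0 ω
      obtain ⟨c, t, ht, hc, hcc, rfl⟩ := hdecg n hn
      rw [← hnorb _ hn]
      exact hzz c hcc t ht
    obtain ⟨x, hx, hx1⟩ : ∃ x ∈ T, x ≠ 1 := by
      by_contra hcon
      push Not at hcon
      exact hT1 ((Subgroup.eq_bot_iff_forall T).2 hcon)
    refine ⟨z, z * x, ?_, ?_, ?_⟩
    · intro ω hω
      apply hmove ω
      rw [hnorb z hzN, hω]
    · intro ω hω
      apply hmove ω
      have h0 : x • ω ∈ orbit T ω := ⟨⟨x, hx⟩, rfl⟩
      have h1 : (orbit T ω : Set Ω) = orbit T (x • ω) := (orbit_eq_iff.2 h0).symm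
      nth_rewrite 1 [h1]
      rw [hnorb z hzN, ← mul_smul, hω]
    · intro h
      obtain ⟨k, hk⟩ := isConj_iff.1 h
      have hW : z * x ∈ (MulAut.conj (k * g) • T : Subgroup G) := by
        rw [← hk, mem_cj]
        rw [mem_cj] at hz
        have : (k * g)⁻¹ * (k * z * k⁻¹) * (k * g) = g⁻¹ * z * g := by group
        rw [this]; exact hz
      have hz1 : z ≠ 1 := by
        rintro rfl
        exact hmove ω0 (one_smul _ _)
      by_cases hWT : (MulAut.conj (k * g) • T : Subgroup G) = T
      · rw [hWT] at hW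
        have h1 : z ∈ T := (Subgroup.mul_mem_cancel_right T hx).1 hW
        exact hz1 ((hdis g).resolve_left hgT z h1 hz)
      · apply hx1
        apply hZ x hx
        intro y hy
        have h1 := hcom (k * g) hWT y hy _ hW
        have h2 := hcom g hgT y hy z hz
        have h3 : z * (x * y) = z * (y * x) := by
          calc z * (x * y) = (z * x) * y := by group
            _ = y * (z * x) := h1.symm
            _ = (y * z) * x := by group
            _ = (z * y) * x := by rw [h2]
            _ = z * (y * x) := by group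
        exact mul_left_cancel h3

end CfsgLib.H6Dr
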