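import Cfsg.Agent.EqBase
import Cfsg.Agent.LibH6Norm
import Cfsg.Agent.LibH6CopAb
import Cfsg.Agent.LibH2Npc
import Cfsg.Agent.LibTransPC
import Cfsg.Agent.LibSolvHall
import Cfsg.Agent.LibCores
import Cfsg.Agent.LibSolvFrat
import Cfsg.Agent.S0033

/-! Groups in which all elements outside a proper normal subgroup have order dividing `p`. -/

set_option autoImplicit false

namespace CfsgLib.H6

open Subgroup Cfsg CfsgLib.TransPC CfsgLib.SolvBasic CfsgLib.SolvHall
open scoped commutatorElement Pointwise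

universe u

/-- `H` is a proper normal subgroup and all elements outside `H` have order dividing `p` -/
def HughesPair {G : Type u} [Group G] (p : ℕ) (H : Subgroup G) : Prop :=
  H.Normal ∧ H ≠ ⊤ ∧ ∀ g : G, g ∉ H → g ^ p = 1

section
variable {G : Type u} [Group G] [Finite G] {p : ℕ}

theorem HughesPair.mem (hp : p.Prime) {H : Subgroup G} (h : HughesPair p H) {y : G}
    (hy : (orderOf y).Coprime p) : y ∈ H := by
  by_contra hyH
  have h1 : orderOf y ∣ p := orderOf_dvd_of_pow_eq_one (h.2.2 y hyH)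
  have h2 : orderOf y = 1 := Nat.Coprime.eq_one_of_dvd hy h1
  rw [orderOf_eq_one_iff] at h2
  exact hyH (h2 ▸ H.one_mem)

theorem HughesPair.fpf (hp : p.Prime) {H : Subgroup G} (h : HughesPair p H) {g y : G}
    (hg : g ∉ H) (hy : (orderOf y).Coprime p) (hc : g * y = y * g) : y = 1 := by
  have hyH := h.mem hp hy
  have h1 : g * y ∉ H := fun h2 => hg ((H.mul_mem_cancel_right hyH).mp h2)
  have h2 := h.2.2 _ h1
  rw [(show Commute g y from hc).mul_pow, h.2.2 g hg, one_mul] at h2
  have h3 : orderOf y = 1 := Nat.Coprime.eq_one_of_dvd hy (orderOf_dvd_of_pow_eq_one h2)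
  exact orderOf_eq_one_iff.mp h3

theorem HughesPair.act (hp : p.Prime) {H : Subgroup G} (h : HughesPair p H) (K : Subgroup G)
    [K.Normal] (hKH : K ≤ H) (hKn : Group.IsNilpotent K) (R : Subgroup G) (hRH : R ≤ H)
    (hcop : (Nat.card R).Coprime (Nat.card K)) {x : G} (hx : x ∉ H)
    (hxR : ∀ r ∈ R, x * r * x⁻¹ ∈ R) : R ≤ centralizer (K : Set G) := by
  have hRx : ∀ r ∈ R, r * x ∉ H := fun r hr h2 => hx ((H.mul_mem_cancel_left (hRH hr)).mp h2)
  refine coprime_centralizes_of_ab K R ?_ hcop hKn ?_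
  · rw [Subgroup.normalizer_eq_top]; exact le_top
  apply commutator_le_of_conjAb
  have hfin : Finite (Abelianization K) := Quotient.finite _
  have hsurj : ∀ v : Abelianization K, ∃ k, Abelianization.of k = v := by
    intro v
    obtain ⟨x, hx⟩ := QuotientGroup.mk_surjective (s := _root_.commutator K) v
    exact ⟨x, hx⟩
  refine norm_trivial hp (conjAb K) R ?_ x hxR ?_ ?_
  · intro v hv
    obtain ⟨k, rfl⟩ := hsurj v
    have h1 : orderOf (Abelianization.of k) ∣ Nat.card R := orderOf_dvd_of_pow_eq_one hv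
    have h2 : orderOf (Abelianization.of k) ∣ Nat.card K :=
      (orderOf_map_dvd Abelianization.of k).trans (orderOf_dvd_natCard k)
    exact orderOf_eq_one_iff.mp (Nat.eq_one_of_dvd_coprimes hcop h1 h2)
  · intro r hr
    exact h.2.2 _ (hRx r hr)
  · intro r hr v
    obtain ⟨k, rfl⟩ := hsurj v
    obtain ⟨w, hw1, hw2⟩ := mul_pow_norm K Abelianization.of (conjAb K)
      (fun g k => conjAb_of K g k) (r * x) k p
    have h1 : (k : G) * (r * x) ∉ H :=
      fun h2 => hRx r hr ((H.mul_mem_cancel_left (hKH k.2)).mp h2)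
    rw [h.2.2 _ (hRx r hr), mul_one, h.2.2 _ h1] at hw1
    have hw : w = 1 := Subtype.ext hw1
    rw [hw, map_one] at hw2
    exact hw2.symm

end

theorem centerThompson_normalizes {G : Type u} [Group G] (p : ℕ) (P : Subgroup G) :
    P ≤ normalizer (centerThompsonOf p P : Set G) := by
  have key : ∀ g ∈ P, ∀ z ∈ centerThompsonOf p P, g * z * g⁻¹ ∈ centerThompsonOf p P := by
    intro g hg z hz
    have h1 := CfsgLib.H2Npc.centerThompsonOf_map p (MulAut.conj g).toMonoidHom (P := P)
      ((MulAut.conj g).injective.injOn)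
    have h2 : P.map (MulAut.conj g).toMonoidHom = P := by
      ext y
      constructor
      · rintro ⟨w, hw, rfl⟩
        exact P.mul_mem (P.mul_mem hg hw) (P.inv_mem hg)
      · intro hy
        exact ⟨g⁻¹ * y * g, P.mul_mem (P.mul_mem (P.inv_mem hg) hy) hg, by
          simp [mul_assoc]⟩
    rw [h2] at h1
    rw [h1]
    exact ⟨z, hz, rfl⟩
  intro g hg
  rw [Subgroup.mem_normalizer_iff]
  intro z
  refine ⟨key g hg z, fun h => ?_⟩
  have := key g⁻¹ (P.inv_mem hg) _ h
  simpa [mul_assoc] using this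

theorem hughes_npc {p : ℕ} [hp : Fact p.Prime] (hp2 : p ≠ 2) : ∀ (n : ℕ) (G : Type u) [Group G]
    [Finite G], Nat.card G = n → ∀ H : Subgroup G, HughesPair p H → HasNormalPComplement p G := by
  intro n
  induction n using Nat.strong_induction_on with
  | _ n ih =>
  intro G _ _ hG H hH
  have hHn : H.Normal := hH.1
  -- Sylow subgroups are not in `H`
  have hPH : ∀ P : Sylow p G, ¬ (P : Subgroup G) ≤ H := by
    intro P hle
    obtain ⟨g, hg⟩ : ∃ g, g ∉ H := by
      by_contra hcon
      push Not at hcon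
      exact hH.2.1 (eq_top_iff.mpr fun g _ => hcon g)
    have h1 : IsPGroup p (zpowers g) := by
      have h2 : orderOf g ∣ p ^ 1 := by rw [pow_one]; exact orderOf_dvd_of_pow_eq_one (hH.2.2 g hg)
      obtain ⟨k, -, hk⟩ := (Nat.dvd_prime_pow hp.out).mp h2
      exact IsPGroup.of_card (n := k) (by rw [Nat.card_zpowers, hk])
    obtain ⟨Q, hQ⟩ := h1.exists_le_sylow
    obtain ⟨c, hc⟩ := MulAction.exists_smul_eq G P Q
    have h2 : g ∈ (Q : Subgroup G) := hQ (mem_zpowers g)
    rw [← hc, Sylow.smul_def] at h2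
    have h3 := hle (mem_conj_smul.mp h2)
    have h4 := hHn.conj_mem _ h3 c
    apply hg
    have e : c * (c⁻¹ * g * c) * c⁻¹ = g := by group
    rwa [e] at h4
  obtain ⟨P⟩ := (inferInstance : Nonempty (Sylow p G))
  obtain ⟨K, hK⟩ : ∃ K, K = pCore p G := ⟨_, rfl⟩
  have hKn : K.Normal := by rw [hK]; infer_instance
  have hKp : IsPGroup p K := by rw [hK]; exact CfsgLib.Cores.pCore_isPGroup p
  obtain ⟨kk, hkk⟩ := IsPGroup.iff_card.mp hKp
  by_cases hKb : K = ⊥
  · -- local reduction
    apply CfsgLib.H2Npc.npc_of_ZJE hp2 P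
    obtain ⟨Z, hZ⟩ : ∃ Z, Z = centerThompsonOf p (P : Subgroup G) := ⟨_, rfl⟩
    rw [← hZ]
    have hPb : (P : Subgroup G) ≠ ⊥ := fun h0 => hPH P (h0 ▸ bot_le)
    have hZb : Z ≠ ⊥ := by
      rw [hZ]; exact CfsgLib.H2Npc.centerThompsonOf_ne_bot P.2 hPb
    have hZP : Z ≤ (P : Subgroup G) := by rw [hZ]; exact CfsgLib.H2Npc.centerThompsonOf_le p _
    have hPZ : (P : Subgroup G) ≤ normalizer (Z : Set G) := by
      rw [hZ]; exact centerThompson_normalizes p _
    have hLtop : normalizer (Z : Set G) ≠ ⊤ := by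
      intro h0
      have h1 : Z.Normal := Subgroup.normalizer_eq_top_iff.mp h0
      have h2 : Z ≤ pCore p G := CfsgLib.Cores.le_pCore h1 (P.2.to_le hZP)
      rw [← hK, hKb] at h2
      exact hZb (le_bot_iff.mp h2)
    refine ih (Nat.card (normalizer (Z : Set G))) ?_ _ rfl (H.subgroupOf _) ⟨inferInstance, ?_, ?_⟩
    · rw [← hG]
      exact card_lt_of_ne_top hLtop
    · rw [Ne, Subgroup.subgroupOf_eq_top]
      intro h0
      exact hPH P (hPZ.trans h0)
    · intro g hg
      have h1 : (g : G) ∉ H := fun h2 => hg (Subgroup.mem_subgroupOf.mpr h2)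
      exact Subtype.ext (hH.2.2 _ h1)
  by_cases hKH : K ≤ H
  · -- the quotient by `O_p(G)`
    have h1 : HasNormalPComplement p (G ⧸ K) := by
      refine ih (Nat.card (G ⧸ K)) (by rw [← hG]; exact card_quotient_lt K hKb) _ rfl
        (H.map (QuotientGroup.mk' K)) ⟨hHn.map _ (QuotientGroup.mk'_surjective _), ?_, ?_⟩
      · intro h0
        apply hH.2.1
        rw [eq_top_iff]
        intro g _
        have h1 : QuotientGroup.mk' K g ∈ H.map (QuotientGroup.mk' K) := by rw [h0]; trivial
        obtain ⟨y, hy, hyg⟩ := h1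
        have h2 : y⁻¹ * g ∈ K := QuotientGroup.eq.mp hyg
        have h3 := H.mul_mem hy (hKH h2)
        rwa [mul_inv_cancel_left] at h3
      · intro g hg
        obtain ⟨y, rfl⟩ := QuotientGroup.mk_surjective g
        have h1 : y ∉ H := fun h2 => hg ⟨y, h2, rfl⟩
        rw [← QuotientGroup.mk_pow, hH.2.2 y h1]; rfl
    obtain ⟨Nb, hNb⟩ := (hasNPC_iff p).mp h1
    have hNbn := hNb.1
    obtain ⟨N1, hN1⟩ : ∃ N1, N1 = Nb.comap (QuotientGroup.mk' K) := ⟨_, rfl⟩
    have hN1n : N1.Normal := by rw [hN1]; infer_instance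
    have hKN1 : K ≤ N1 := by
      rw [hN1]
      intro k hk
      rw [Subgroup.mem_comap]
      have h0 : QuotientGroup.mk' K k = 1 := (QuotientGroup.eq_one_iff k).mpr hk
      rw [h0]; exact Nb.one_mem
    have hN1c : Nat.card N1 = Nat.card Nb * Nat.card K := by rw [hN1, card_comap_mk']
    have hN1i : N1.index = Nb.index := by
      rw [hN1, Subgroup.index_comap_of_surjective _ (QuotientGroup.mk'_surjective _)]
    have hrel : K.relIndex N1 = Nat.card Nb := by
      have h2 : Nat.card K * K.relIndex N1 = Nat.card N1 := by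
        rw [← Subgroup.relIndex_bot_left K, ← Subgroup.relIndex_bot_left N1]
        exact Subgroup.relIndex_mul_relIndex _ _ _ bot_le hKN1
      rw [hN1c, mul_comm (Nat.card Nb)] at h2
      exact Nat.eq_of_mul_eq_mul_left Nat.card_pos h2
    have hcopNb : (Nat.card K).Coprime (Nat.card Nb) := by
      rw [hkk]
      exact Nat.Coprime.pow_left _ ((Nat.Prime.coprime_iff_not_dvd hp.out).mpr hNb.2.1)
    -- a complement `N0` of `K` in `N1`
    obtain ⟨L, hL⟩ := Subgroup.exists_right_complement'_of_coprime (N := K.subgroupOf N1) (by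
      have h2 : (K.subgroupOf N1).index = Nat.card Nb := hrel
      rw [h2, card_subgroupOf hKN1]; exact hcopNb)
    obtain ⟨N0, hN0⟩ : ∃ N0, N0 = L.map N1.subtype := ⟨_, rfl⟩
    have hN0N1 : N0 ≤ N1 := by rw [hN0]; exact Subgroup.map_subtype_le _
    have hN0c : Nat.card N0 = Nat.card Nb := by
      rw [hN0, Nat.card_congr
        (Subgroup.equivMapOfInjective L N1.subtype N1.subtype_injective).toEquiv.symm,
        ← hL.symm.index_eq_card]
      exact hrel
    have hsup : K ⊔ N0 = N1 := by
      apply Subgroup.eq_of_le_of_card_ge (sup_le hKN1 hN0N1)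
      have h2 : Nat.card K * Nat.card N0 ∣ Nat.card (K ⊔ N0 : Subgroup G) := by
        apply Nat.Coprime.mul_dvd_of_dvd_of_dvd
        · rw [hN0c]; exact hcopNb
        · exact Subgroup.card_dvd_of_le le_sup_left
        · exact Subgroup.card_dvd_of_le le_sup_right
      rw [hN1c, mul_comm, ← hN0c]
      exact Nat.le_of_dvd Nat.card_pos h2
    -- Frattini argument
    have hfrat : K ⊔ normalizer (N0 : Set G) = ⊤ := by
      rw [eq_top_iff]
      intro g _
      have h2 : MulAut.conj g • N0 ≤ N1 := by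
        intro y hy
        have h3 := hN0N1 (mem_conj_smul.mp hy)
        have h4 := hN1n.conj_mem _ h3 g
        have e : g * (g⁻¹ * y * g) * g⁻¹ = y := by group
        rwa [e] at h4
      obtain ⟨l, hl, hlg⟩ := sz_conj_in_subgroup K N1 hKN1
        (by rw [Subgroup.normalizer_eq_top]; exact le_top) (by rw [hrel]; exact hcopNb)
        (by have := hKp.isNilpotent; infer_instance) (MulAut.conj g • N0) N0 h2 hN0N1
        (by
          have h3 : Nat.card (MulAut.conj g • N0 : Subgroup G) = Nat.card N0 :=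
            (Nat.card_congr (Subgroup.equivSMul (MulAut.conj g) N0).toEquiv).symm
          rw [hrel, h3, hN0c]) (by rw [hrel, hN0c])
      have h3 : l * g ∈ normalizer (N0 : Set G) := by
        rw [Subgroup.mem_normalizer_iff]
        intro y
        have h4 : MulAut.conj (l * g) • N0 = N0 := by rw [map_mul, mul_smul]; exact hlg
        constructor
        · intro hy
          rw [← h4, mem_conj_smul]
          have e : (l * g)⁻¹ * (l * g * y * (l * g)⁻¹) * (l * g) = y := by group
          rw [e]; exact hy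
        · intro hy
          rw [← h4, mem_conj_smul] at hy
          have e : (l * g)⁻¹ * (l * g * y * (l * g)⁻¹) * (l * g) = y := by group
          rwa [e] at hy
      have h4 : l ∈ K ⊔ N0 := by rw [hsup]; exact hl
      have h5 : K ⊔ N0 ≤ K ⊔ normalizer (N0 : Set G) := sup_le_sup_left Subgroup.le_normalizer _
      have h6 := (K ⊔ normalizer (N0 : Set G)).mul_mem
        ((K ⊔ normalizer (N0 : Set G)).inv_mem (h5 h4)) (le_sup_right (a := K) h3)
      rwa [inv_mul_cancel_left] at h6
    -- an element outside `H` normalizing `N0`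
    obtain ⟨x, hxN, hxH⟩ : ∃ x ∈ normalizer (N0 : Set G), x ∉ H := by
      by_contra hcon
      push Not at hcon
      apply hH.2.1
      rw [eq_top_iff, ← hfrat]
      exact sup_le hKH hcon
    have hN0H : N0 ≤ H := by
      intro y hy
      apply hH.mem hp.out
      refine Nat.Coprime.coprime_dvd_left (Subgroup.orderOf_dvd_natCard N0 hy) ?_
      rw [hN0c, Nat.coprime_comm]
      exact (Nat.Prime.coprime_iff_not_dvd hp.out).mpr hNb.2.1
    have hcent := hH.act hp.out K hKH hKp.isNilpotent N0 hN0H (by rw [hN0c]; exact hcopNb.symm) hxH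
      (fun r hr => (Subgroup.mem_normalizer_iff.mp hxN r).mp hr)
    have hN0n : N0.Normal := by
      rw [← Subgroup.normalizer_eq_top_iff, eq_top_iff, ← hfrat]
      refine sup_le ?_ le_rfl
      refine le_trans ?_ (Subgroup.centralizer_le_normalizer (N0 : Set G))
      rwa [Subgroup.le_centralizer_iff] at hcent
    rw [hasNPC_iff]
    refine ⟨N0, hN0n, by rw [hN0c]; exact hNb.2.1, ?_⟩
    obtain ⟨j, hj⟩ := hNb.2.2
    refine ⟨kk + j, ?_⟩
    have h2 : Nat.card N0 * N0.index = Nat.card N0 * p ^ (kk + j) := by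
      rw [Subgroup.card_mul_index, ← Subgroup.card_mul_index N1, hN1c, hN1i, hj, hkk, hN0c, pow_add]
      ring
    exact Nat.eq_of_mul_eq_mul_left Nat.card_pos h2
  · -- `K` not in `H`: `G` is a `p`-group
    apply hasNPC_of_isPGroup
    rw [IsPGroup.iff_card]
    have hprime : ∀ q : ℕ, q.Prime → q ∣ Nat.card G → q = p := by
      intro q hq hqd
      have : Fact q.Prime := ⟨hq⟩
      by_contra hqp
      obtain ⟨y, hy⟩ := exists_prime_orderOf_dvd_card' q hqd
      have hyc : (orderOf y).Coprime p := by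
        rw [hy]; exact (Nat.coprime_primes hq hp.out).mpr hqp
      have hyH := hH.mem hp.out hyc
      have hcop : (Nat.card (zpowers y)).Coprime (Nat.card K) := by
        rw [Nat.card_zpowers, hkk]; exact Nat.Coprime.pow_right _ hyc
      have hnil := hKp.isNilpotent
      have h1 := CfsgLib.SolvCoprime.commutator_sup_centralizer (zpowers y) K
        (by rw [Subgroup.normalizer_eq_top]; exact le_top) hcop (Or.inr inferInstance)
      apply hKH
      rw [← h1]
      refine sup_le ?_ ?_
      · refine le_trans (Subgroup.commutator_mono le_top (?_ : zpowers y ≤ H)) ?_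
        · rw [zpowers_le]; exact hyH
        · exact Subgroup.commutator_le_right _ _
      · rintro x ⟨hxK, hxc⟩
        by_contra hxH
        have h2 := hH.fpf hp.out hxH hyc (by
          exact (Subgroup.mem_centralizer_iff.mp hxc y (mem_zpowers y)).symm)
        rw [h2, orderOf_one] at hy
        exact hq.one_lt.ne hy
    exact ⟨(Nat.card G).primeFactorsList.length,
      Nat.eq_prime_pow_of_unique_prime_dvd Nat.card_pos.ne' (fun {q} hq hd => hprime q hq hd)⟩

theorem nil_of_le {G : Type u} [Group G] {H F : Subgroup G} (h : H ≤ F) (hF : Group.IsNilpotent F) :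
    Group.IsNilpotent H := by
  apply Subgroup.isNilpotent_of_ker_le_center (Subgroup.inclusion h)
  rw [(MonoidHom.ker_eq_bot_iff _).2 (Subgroup.inclusion_injective h)]
  exact bot_le

/-- Hughes' theorem for odd `p` -/
theorem hughes_odd {p : ℕ} [hp : Fact p.Prime] (hp2 : p ≠ 2) (G : Type u) [Group G]
    [Finite G] (H : Subgroup G) (hH : HughesPair p H) (hG : ¬ IsPGroup p G) :
    Group.IsNilpotent H ∧ H.index = p := by
  obtain ⟨N, hN⟩ := (hasNPC_iff p).mp (hughes_npc hp2 _ G rfl H hH)
  have hNn : N.Normal := hN.1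
  have hHn : H.Normal := hH.1
  obtain ⟨P⟩ := (inferInstance : Nonempty (Sylow p G))
  have hcomp := hN.isComplement' P
  have hNP : N ⊔ (P : Subgroup G) = ⊤ := hcomp.sup_eq_top
  have hNcop : (Nat.card N).Coprime p := hN.coprime
  have hNy : ∀ y ∈ N, (orderOf y).Coprime p := fun y hy =>
    Nat.Coprime.coprime_dvd_left (Subgroup.orderOf_dvd_natCard N hy) hNcop
  obtain ⟨j, hj⟩ := hN.2.2
  have hNb : N ≠ ⊥ := by
    intro h0
    apply hG
    rw [IsPGroup.iff_card]
    exact ⟨j, by rw [← hj, h0, Subgroup.index_bot]⟩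
  obtain ⟨y0, hy0N, hy01⟩ : ∃ y ∈ N, y ≠ 1 := by
    by_contra hcon
    push Not at hcon
    exact hNb ((Subgroup.eq_bot_iff_forall N).mpr hcon)
  obtain ⟨g0, hg0⟩ : ∃ g, g ∉ H := by
    by_contra hcon
    push Not at hcon
    exact hH.2.1 (eq_top_iff.mpr fun g _ => hcon g)
  -- `N` is nilpotent
  have hNnil : Group.IsNilpotent N := by
    have hfpf : ∀ n : N, (MulAut.conjNormal g0 : MulAut N) n = n → n = 1 := by
      intro n hn
      have h1 := congrArg Subtype.val hn
      rw [MulAut.conjNormal_apply] at h1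
      exact Subtype.ext (hH.fpf hp.out hg0 (hNy n n.2) (mul_inv_eq_iff_eq_mul.mp h1))
    refine Cfsg.Agent.S0033.result (MulAut.conjNormal g0 : MulAut N) hfpf p hp.out ?_
    have h1 : orderOf (MulAut.conjNormal g0 : MulAut N) ∣ p := by
      apply orderOf_dvd_of_pow_eq_one
      rw [← map_pow, hH.2.2 g0 hg0, map_one]
    rcases (Nat.dvd_prime hp.out).mp h1 with h2 | h2
    · exfalso
      rw [orderOf_eq_one_iff] at h2
      have h3 := hfpf ⟨y0, hy0N⟩ (by rw [h2]; rfl)
      exact hy01 (congrArg Subtype.val h3)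
    · exact h2
  -- facts for every Hughes pair
  have key : ∀ H' : Subgroup G, HughesPair p H' →
      (P : Subgroup G) ⊓ H' ≤ centralizer (N : Set G) ∧ H' = N ⊔ ((P : Subgroup G) ⊓ H') := by
    intro H' hH'
    have hHn' : H'.Normal := hH'.1
    have hNH' : N ≤ H' := fun y hy => hH'.mem hp.out (hNy y hy)
    have hnot : ¬ (P : Subgroup G) ≤ H' := by
      intro hle
      apply hH'.2.1
      rw [eq_top_iff, ← hNP]
      exact sup_le hNH' hle
    obtain ⟨x, hxP, hxH⟩ := SetLike.not_le_iff_exists.mp hnot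
    refine ⟨hH'.act hp.out N hNH' hNnil _ inf_le_right ?_ hxH ?_, ?_⟩
    · obtain ⟨k, hk⟩ := IsPGroup.iff_card.mp (P.2.to_le (inf_le_left : (P : Subgroup G) ⊓ H' ≤ _))
      rw [hk]
      exact Nat.Coprime.pow_left k hNcop.symm
    · rintro r ⟨hr1, hr2⟩
      exact ⟨(P : Subgroup G).mul_mem ((P : Subgroup G).mul_mem hxP hr1)
        ((P : Subgroup G).inv_mem hxP), hHn'.conj_mem r hr2 x⟩
    · apply le_antisymm
      · intro h hh
        have h1 : h ∈ N ⊔ (P : Subgroup G) := by rw [hNP]; trivial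
        obtain ⟨n, hn, u, hu, rfl⟩ := Subgroup.mem_sup_of_normal_left.mp h1
        have h2 : u ∈ H' := (H'.mul_mem_cancel_left (hNH' hn)).mp hh
        exact mul_mem (le_sup_left (a := N) hn)
          (le_sup_right (a := N) (Subgroup.mem_inf.mpr ⟨hu, h2⟩))
      · exact sup_le hNH' inf_le_right
  obtain ⟨hc, hHeq⟩ := key H hH
  refine ⟨?_, ?_⟩
  · -- `H ≤ F(G)`
    have hMn : ((P : Subgroup G) ⊓ H).Normal := by
      rw [← Subgroup.normalizer_eq_top_iff, eq_top_iff, ← hNP]
      refine sup_le ?_ ?_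
      · refine le_trans ?_ (Subgroup.centralizer_le_normalizer _)
        rwa [Subgroup.le_centralizer_iff] at hc
      · refine le_trans ?_ (Subgroup.inf_normalizer_le_normalizer_inf)
        rw [Subgroup.normalizer_eq_top (H := H), inf_top_eq]
        exact Subgroup.le_normalizer
    have hMnil : Group.IsNilpotent ((P : Subgroup G) ⊓ H : Subgroup G) :=
      (P.2.to_le (inf_le_left : (P : Subgroup G) ⊓ H ≤ _)).isNilpotent
    refine nil_of_le (F := fittingSubgroup G) ?_ CfsgLib.Cores.fittingSubgroup_isNilpotent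
    rw [hHeq]
    exact sup_le (CfsgLib.Cores.le_fittingSubgroup hNn hNnil)
      (CfsgLib.Cores.le_fittingSubgroup hMn hMnil)
  · -- index
    have hpg : IsPGroup p (G ⧸ H) := by
      rw [IsPGroup.iff_card]
      have h1 : H.index ∣ p ^ j := by
        rw [← hj]; exact Subgroup.index_dvd_of_le (fun y hy => hH.mem hp.out (hNy y hy))
      obtain ⟨k, -, hk⟩ := (Nat.dvd_prime_pow hp.out).mp h1
      exact ⟨k, by rw [← Subgroup.index_eq_card, hk]⟩
    have hnt : Nontrivial (G ⧸ H) := by
      rw [← Finite.one_lt_card_iff_nontrivial, ← Subgroup.index_eq_card]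
      refine lt_of_le_of_ne (Nat.pos_of_ne_zero Subgroup.index_ne_zero_of_finite) ?_
      intro h0
      exact hH.2.1 (Subgroup.index_eq_one.mp h0.symm)
    obtain ⟨M, hM⟩ : ∃ M : Subgroup (G ⧸ H), IsCoatom M := by
      obtain ⟨M, hM, -⟩ := (IsCoatomic.eq_top_or_exists_le_coatom (⊥ : Subgroup (G ⧸ H))).resolve_left
        bot_ne_top
      exact ⟨M, hM⟩
    have hnilq := hpg.isNilpotent
    have hMn := CfsgLib.SolvFrat.normal_of_isCoatom hM
    have hMi := CfsgLib.SolvFrat.index_of_isCoatom hp.out hpg hM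
    obtain ⟨H', hH'⟩ : ∃ H', H' = M.comap (QuotientGroup.mk' H) := ⟨_, rfl⟩
    have hHH' : H ≤ H' := by
      rw [hH']
      intro k hk
      rw [Subgroup.mem_comap]
      have h0 : QuotientGroup.mk' H k = 1 := (QuotientGroup.eq_one_iff k).mpr hk
      rw [h0]; exact M.one_mem
    have hi : H'.index = p := by
      rw [hH', Subgroup.index_comap_of_surjective _ (QuotientGroup.mk'_surjective _), hMi]
    have hpair : HughesPair p H' := by
      refine ⟨by rw [hH']; infer_instance, ?_, fun g hg => hH.2.2 g fun h1 => hg (hHH' h1)⟩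
      rintro h0
      rw [h0, Subgroup.index_top] at hi
      exact hp.out.one_lt.ne hi
    obtain ⟨hc', hHeq'⟩ := key H' hpair
    by_cases hle : (P : Subgroup G) ⊓ H' ≤ H
    · have h1 : H' ≤ H := by
        rw [hHeq']
        exact sup_le (fun y hy => hH.mem hp.out (hNy y hy)) hle
      rw [le_antisymm hHH' h1, hi]
    · exfalso
      obtain ⟨x, hx, hxH⟩ := SetLike.not_le_iff_exists.mp hle
      have h1 := Subgroup.mem_centralizer_iff.mp (hc' hx) y0 hy0N
      exact hy01 (hH.fpf hp.out hxH (hNy y0 hy0N) h1.symm)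

/-- Hughes' theorem for `p = 2` -/
theorem hughes_two (G : Type u) [Group G]
    [Finite G] (H : Subgroup G) (hH : HughesPair 2 H) (hG : ¬ IsPGroup 2 G) :
    Group.IsNilpotent H ∧ H.index = 2 := by
  have hHn : H.Normal := hH.1
  obtain ⟨x, hx⟩ : ∃ g, g ∉ H := by
    by_contra hcon
    push Not at hcon
    exact hH.2.1 (eq_top_iff.mpr fun g _ => hcon g)
  have hinv : ∀ g, g ∉ H → ∀ h ∈ H, g * h * g⁻¹ = h⁻¹ := by
    intro g hg h hh
    have h1 := hH.2.2 g hg
    have h2 := hH.2.2 (g * h) (fun h0 => hg ((H.mul_mem_cancel_right hh).mp h0))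
    rw [pow_two] at h1 h2
    have h3 : g⁻¹ = g := inv_eq_of_mul_eq_one_right h1
    rw [h3, eq_inv_iff_mul_eq_one]
    calc g * h * g * h = (g * h) * (g * h) := by group
      _ = 1 := h2
  have hcomm : ∀ a ∈ H, ∀ b ∈ H, a * b = b * a := by
    intro a ha b hb
    have h1 := hinv x hx _ (H.mul_mem ha hb)
    have h2 : x * (a * b) * x⁻¹ = (x * a * x⁻¹) * (x * b * x⁻¹) := by group
    rw [h2, hinv x hx a ha, hinv x hx b hb, ← mul_inv_rev] at h1
    exact (inv_injective h1).symm
  refine ⟨?_, ?_⟩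
  · have : IsMulCommutative H := ⟨⟨fun a b => Subtype.ext (hcomm a a.2 b b.2)⟩⟩
    let _ : CommGroup H := { (inferInstance : Group H) with
      mul_comm := fun a b => Subtype.ext (hcomm a a.2 b b.2) }
    infer_instance
  · rw [Subgroup.index_eq_two_iff]
    refine ⟨x, fun b => ?_⟩
    by_cases hb : b ∈ H
    · right
      exact ⟨hb, fun h0 => hx ((H.mul_mem_cancel_left hb).mp h0)⟩
    · left
      refine ⟨?_, hb⟩
      by_contra hbx
      apply hG
      -- all elements of `H` have order two
      have h2 : ∀ h ∈ H, h ^ 2 = 1 := by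
        intro h hh
        have h3 := hinv _ hbx h hh
        have h4 : b * x * h * (b * x)⁻¹ = b * (x * h * x⁻¹) * b⁻¹ := by group
        rw [h4, hinv x hx h hh, hinv b hb _ (H.inv_mem hh), inv_inv] at h3
        rw [pow_two]
        nth_rewrite 1 [h3]
        exact inv_mul_cancel h
      intro g
      refine ⟨1, ?_⟩
      rw [pow_one]
      by_cases hg : g ∈ H
      · exact h2 g hg
      · exact hH.2.2 g hg

end CfsgLib.H6
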