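import Mathlib
import Cfsg.Agent.LibCoprime

set_option autoImplicit false

namespace CfsgLib.H6

open Subgroup MulAction
open scoped Pointwise

/-- Witt's lemma -/
theorem witt_lemma {G : Type*} [Group G] [Finite G] {α : Type*} [MulAction G α] {t : ℕ}
    (hG : MulAction.IsMultiplyPretransitive G α t) (x : Fin t ↪ α) {p : ℕ} [Fact p.Prime]
    (P : Sylow p (MulAction.stabilizer G x)) (a b : Fin t ↪ α)
    (ha : ∀ i, ∀ g ∈ ((P : Subgroup (MulAction.stabilizer G x)).map (MulAction.stabilizer G x).subtype), g • a i = a i)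
    (hb : ∀ i, ∀ g ∈ ((P : Subgroup (MulAction.stabilizer G x)).map (MulAction.stabilizer G x).subtype), g • b i = b i) :
    ∃ g ∈ Subgroup.normalizer ((((P : Subgroup (MulAction.stabilizer G x)).map
      (MulAction.stabilizer G x).subtype) : Subgroup G) : Set G), g • a = b := by
  set P' : Subgroup G := (P : Subgroup (stabilizer G x)).map (stabilizer G x).subtype with hP'
  have hG' := hG
  obtain ⟨g₁, hg₁⟩ := hG.exists_smul_eq a b
  obtain ⟨u, hu⟩ := hG'.exists_smul_eq x b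
  set K : Subgroup G := stabilizer G b with hK
  have hP'K : P' ≤ K := by
    intro g hg
    rw [hK, mem_stabilizer_iff]
    apply Function.Embedding.ext
    intro i
    exact hb i g hg
  have hP'K2 : (MulAut.conj g₁ • P' : Subgroup G) ≤ K := by
    intro y hy
    rw [Subgroup.mem_pointwise_smul_iff_inv_smul_mem, MulAut.smul_def, ← map_inv, MulAut.conj_apply, inv_inv] at hy
    rw [hK, mem_stabilizer_iff, ← hg₁]
    have h1 : (g₁⁻¹ * y * g₁) • a = a := by
      apply Function.Embedding.ext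
      intro i
      exact ha i _ hy
    calc y • g₁ • a = g₁ • (g₁⁻¹ * y * g₁) • a := by simp only [smul_smul]; congr 1; group
      _ = g₁ • a := by rw [h1]
  have hcK : Nat.card K = Nat.card (stabilizer G x) := by
    have h1 : K = MulAut.conj u • stabilizer G x := by
      rw [hK, ← hu, stabilizer_smul_eq_stabilizer_map_conj]
      rfl
    rw [h1, CfsgLib.Coprime.card_conj_smul]
  obtain ⟨Q⟩ := (inferInstance : Nonempty (Sylow p K))
  have hcP : Nat.card P' = Nat.card Q := by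
    rw [hP', card_map_of_injective (stabilizer G x).subtype_injective, P.card_eq_multiplicity,
      Q.card_eq_multiplicity, hcK]
  obtain ⟨Q₁, hQ₁⟩ := CfsgLib.Coprime.exists_sylow_of_card hP'K Q hcP
  obtain ⟨Q₂, hQ₂⟩ := CfsgLib.Coprime.exists_sylow_of_card hP'K2 Q (by
    rw [CfsgLib.Coprime.card_conj_smul]; exact hcP)
  obtain ⟨k, hk, hk2⟩ := CfsgLib.Coprime.sylow_map_conj Q₁ Q₂
  rw [hQ₁, hQ₂] at hk2
  refine ⟨k⁻¹ * g₁, ?_, ?_⟩
  · apply CfsgLib.Coprime.mem_normalizer_of_conj_smul_eq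
    rw [map_mul, mul_smul, ← hk2, map_inv, inv_smul_smul]
  · rw [mul_smul, hg₁]
    have h1 : k • b = b := hk
    rw [← h1, inv_smul_smul, h1]

section three

variable {α : Type*} [Fintype α] [DecidableEq α]

theorem isThreeCycle_pow {c : Equiv.Perm α} {N : ℕ} (hN : ¬ 3 ∣ N) {a₀ a₁ a₂ : α}
    (h01 : a₀ ≠ a₁) (h02 : a₀ ≠ a₂) (h12 : a₁ ≠ a₂) (h0 : c a₀ = a₁) (h1 : c a₁ = a₂) (h2 : c a₂ = a₀)
    (hrest : ∀ a, a ≠ a₀ → a ≠ a₁ → a ≠ a₂ → (c ^ N) a = a) : (c ^ N).IsThreeCycle := by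
  have e0 : (c ^ 3) a₀ = a₀ := by
    rw [pow_succ, pow_two, Equiv.Perm.mul_apply, Equiv.Perm.mul_apply, h0, h1, h2]
  have e1 : (c ^ 3) a₁ = a₁ := by
    rw [pow_succ, pow_two, Equiv.Perm.mul_apply, Equiv.Perm.mul_apply, h1, h2, h0]
  have e2 : (c ^ 3) a₂ = a₂ := by
    rw [pow_succ, pow_two, Equiv.Perm.mul_apply, Equiv.Perm.mul_apply, h2, h0, h1]
  have key : ∀ (a : α), (c ^ 3) a = a → ∀ k, ((c ^ 3) ^ k) a = a := by
    intro a ha k
    induction k with
    | zero => rfl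
    | succ k ih => rw [pow_succ, Equiv.Perm.mul_apply, ha, ih]
  have hmod : ∀ a, (c ^ 3) a = a → (c ^ N) a = (c ^ (N % 3)) a := by
    intro a ha
    conv_lhs => rw [← Nat.mod_add_div N 3, pow_add, pow_mul, Equiv.Perm.mul_apply, key a ha]
  have hmoved : ∀ a, a = a₀ ∨ a = a₁ ∨ a = a₂ → (c ^ N) a ≠ a := by
    have h3 : N % 3 = 1 ∨ N % 3 = 2 := by omega
    rintro a (rfl | rfl | rfl)
    · rw [hmod _ e0]
      rcases h3 with h3 | h3 <;> rw [h3]
      · rw [pow_one, h0]; exact h01.symm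
      · rw [pow_two, Equiv.Perm.mul_apply, h0, h1]; exact h02.symm
    · rw [hmod _ e1]
      rcases h3 with h3 | h3 <;> rw [h3]
      · rw [pow_one, h1]; exact h12.symm
      · rw [pow_two, Equiv.Perm.mul_apply, h1, h2]; exact h01
    · rw [hmod _ e2]
      rcases h3 with h3 | h3 <;> rw [h3]
      · rw [pow_one, h2]; exact h02
      · rw [pow_two, Equiv.Perm.mul_apply, h2, h0]; exact h12
  rw [← card_support_eq_three_iff]
  have hs : (c ^ N).support = {a₀, a₁, a₂} := by
    ext a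
    rw [Equiv.Perm.mem_support, Finset.mem_insert, Finset.mem_insert, Finset.mem_singleton]
    constructor
    · intro h
      by_contra hno
      push Not at hno
      exact h (hrest a hno.1 hno.2.1 hno.2.2)
    · exact hmoved a
  rw [hs, Finset.card_insert_of_notMem, Finset.card_insert_of_notMem, Finset.card_singleton]
  · rw [Finset.mem_singleton]; exact h12
  · rw [Finset.mem_insert, Finset.mem_singleton, not_or]; exact ⟨h01, h02⟩

/-- extraction of a 3-cycle: `G` is `t`-transitive, `t ≥ 3`, `P` a cyclic Sylow subgroup of the stabilizer of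
`t` points such that the elements centralizing `P` and preserving the `t` points have `N`-th power fixing all the
other points, `3 ∤ N`. -/
theorem exists_threeCycle {G : Subgroup (Equiv.Perm α)} {t : ℕ} (ht : 3 ≤ t)
    (hG : MulAction.IsMultiplyPretransitive G α t) (x : Fin t ↪ α) {p : ℕ} [Fact p.Prime]
    (P : Sylow p (MulAction.stabilizer G x)) (hcyc : IsCyclic P) {N : ℕ} (hN3 : ¬ 3 ∣ N)
    (hN : ∀ c : G, (∀ y : G, y ∈ (P : Subgroup (stabilizer G x)).map (stabilizer G x).subtype → c * y = y * c) →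
      (∀ i, ∃ j, c • x i = x j) → ∀ a, (∀ i, a ≠ x i) → (c ^ N) • a = a) :
    ∃ g ∈ G, g.IsThreeCycle := by
  set P' : Subgroup G := (P : Subgroup (stabilizer G x)).map (stabilizer G x).subtype with hP'
  have hfix : ∀ i, ∀ g ∈ P', g • x i = x i := by
    rintro i _ ⟨⟨g, hg⟩, hg2, rfl⟩
    have h1 : g • x = x := hg
    exact congrArg (fun f : Fin t ↪ α => f i) h1
  let i0 : Fin t := ⟨0, by omega⟩
  let i1 : Fin t := ⟨1, by omega⟩
  let i2 : Fin t := ⟨2, by omega⟩
  have h01 : i0 ≠ i1 := by simp [i0, i1]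
  have h02 : i0 ≠ i2 := by simp [i0, i2]
  have h12 : i1 ≠ i2 := by simp [i1, i2]
  let σ₁ : Equiv.Perm (Fin t) := Equiv.swap i0 i1
  let σ₂ : Equiv.Perm (Fin t) := Equiv.swap i1 i2
  obtain ⟨n₁, hn₁, hn₁x⟩ := witt_lemma hG x P x (σ₁.toEmbedding.trans x) hfix (fun i => hfix _)
  obtain ⟨n₂, hn₂, hn₂x⟩ := witt_lemma hG x P x (σ₂.toEmbedding.trans x) hfix (fun i => hfix _)
  have a1 : ∀ i, n₁ • x i = x (σ₁ i) := fun i => congrArg (fun f : Fin t ↪ α => f i) hn₁x
  have a2 : ∀ i, n₂ • x i = x (σ₂ i) := fun i => congrArg (fun f : Fin t ↪ α => f i) hn₂x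
  have b1 : ∀ i, n₁⁻¹ • x i = x (σ₁ i) := by
    intro i
    rw [inv_smul_eq_iff, a1]
    simp [σ₁]
  have b2 : ∀ i, n₂⁻¹ • x i = x (σ₂ i) := by
    intro i
    rw [inv_smul_eq_iff, a2]
    simp [σ₂]
  set c : G := n₁ * n₂ * n₁⁻¹ * n₂⁻¹ with hc
  have hcx : ∀ i, c • x i = x (σ₁ (σ₂ (σ₁ (σ₂ i)))) := by
    intro i
    rw [hc, mul_smul, mul_smul, mul_smul, b2, b1, a2, a1]
  -- c centralizes P'
  have hcomm : ∀ f g : MulAut P', f * g = g * f := by
    have hP'c : IsCyclic P' := isCyclic_of_surjective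
      ((stabilizer G x).subtype.subgroupMap (P : Subgroup (stabilizer G x)))
      ((stabilizer G x).subtype.subgroupMap_surjective _)
    intro f g
    apply (IsCyclic.mulAutMulEquiv P').injective
    rw [map_mul, map_mul, mul_comm]
  have hcP : ∀ y ∈ P', c * y = y * c := by
    intro y hy
    have h1 : P'.normalizerMonoidHom (⟨n₁, hn₁⟩ * ⟨n₂, hn₂⟩ * ⟨n₁, hn₁⟩⁻¹ * ⟨n₂, hn₂⟩⁻¹) = 1 := by
      rw [map_mul, map_mul, map_mul, map_inv, map_inv, hcomm (P'.normalizerMonoidHom ⟨n₁, hn₁⟩)]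
      group
    have h2 := congrArg (fun f : MulAut P' => ((f ⟨y, hy⟩ : P') : G)) h1
    have h3 : c * y * c⁻¹ = y := h2
    exact mul_inv_eq_iff_eq_mul.mp h3
  have c0 : c • x i0 = x i2 := by
    rw [hcx]
    congr 1
  have c2 : c • x i2 = x i1 := by
    rw [hcx]
    congr 1
  have c1 : c • x i1 = x i0 := by
    rw [hcx]
    congr 1
  have crest : ∀ i, i ≠ i0 → i ≠ i1 → i ≠ i2 → c • x i = x i := by
    intro i h0 h1 h2
    rw [hcx]
    congr 1
    simp only [σ₁, σ₂]
    rw [Equiv.swap_apply_of_ne_of_ne h1 h2, Equiv.swap_apply_of_ne_of_ne h0 h1, Equiv.swap_apply_of_ne_of_ne h1 h2,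
      Equiv.swap_apply_of_ne_of_ne h0 h1]
  refine ⟨((c ^ N : G) : Equiv.Perm α), (c ^ N : G).2, ?_⟩
  have hcoe : ((c ^ N : G) : Equiv.Perm α) = ((c : G) : Equiv.Perm α) ^ N := rfl
  rw [hcoe]
  apply isThreeCycle_pow hN3 (a₀ := x i0) (a₁ := x i2) (a₂ := x i1)
  · exact fun h => h02 (x.injective h)
  · exact fun h => h01 (x.injective h)
  · exact fun h => h12 (x.injective h).symm
  · exact c0
  · exact c2
  · exact c1
  · intro a h0 h2 h1
    by_cases ha : ∃ i, a = x i
    · obtain ⟨i, rfl⟩ := ha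
      have h3 : (c : Equiv.Perm α) (x i) = x i := crest i (fun h => h0 (by rw [h])) (fun h => h1 (by rw [h]))
        (fun h => h2 (by rw [h]))
      have h4 : ∀ k : ℕ, ((c : Equiv.Perm α) ^ k) (x i) = x i := by
        intro k
        induction k with
        | zero => rfl
        | succ k ih => rw [pow_succ, Equiv.Perm.mul_apply, h3, ih]
      exact h4 N
    · push Not at ha
      exact hN c hcP (fun i => ⟨_, hcx i⟩) a ha

end three

end CfsgLib.H6
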