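import Mathlib
import Cfsg.Agent.LibH6Witt

set_option autoImplicit false

namespace CfsgLib.H6

open Subgroup MulAction
open scoped Pointwise

variable {α : Type*} [Fintype α] [DecidableEq α]

/-- a group acting faithfully with all moved points in a set of size `m` has order dividing `m!` -/
theorem card_dvd_factorial_of_fixes (F : Subgroup (Equiv.Perm α)) (S : Finset α)
    (h : ∀ f ∈ F, ∀ b, b ∉ S → f b = b) : Nat.card F ∣ S.card.factorial := by
  have key : ∀ f ∈ F, ∀ a, (f a ∈ S ↔ a ∈ S) := by
    intro f hf a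
    constructor
    · intro h1
      by_contra h2
      rw [h f hf a h2] at h1
      exact h2 h1
    · intro h1
      by_contra h2
      have h3 := h f hf _ h2
      have h4 : f a = a := f.injective h3
      rw [h4] at h2
      exact h2 h1
  let φ : F →* Equiv.Perm {a // a ∈ S} :=
    { toFun := fun f => (f : Equiv.Perm α).subtypePerm (key f f.2)
      map_one' := rfl
      map_mul' := fun _ _ => rfl }
  have hφ : Function.Injective φ := by
    rw [injective_iff_map_eq_one]
    intro f hf
    apply Subtype.ext
    apply Equiv.ext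
    intro a
    by_cases ha : a ∈ S
    · have h1 := congrArg (fun e : Equiv.Perm {a // a ∈ S} => ((e ⟨a, ha⟩ : {a // a ∈ S}) : α)) hf
      exact h1
    · exact h f f.2 a ha
  have h1 := card_dvd_of_injective φ hφ
  have h2 : Nat.card {a // a ∈ S} = S.card := by simp
  rw [Nat.card_perm, h2] at h1
  exact h1

theorem cycle_comm_pow {g c : Equiv.Perm α} (hg : g.IsCycle) (hc : c * g = g * c) {a : α} (ha : a ∈ g.support) :
    ∃ k : ℤ, ∀ a ∈ g.support, c a = (g ^ k) a := by
  have hcz : ∀ (i : ℤ) b, c ((g ^ i) b) = (g ^ i) (c b) := by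
    intro i b
    have h1 : Commute c g := hc
    have h2 := (h1.zpow_right i).eq
    exact congrArg (fun f : Equiv.Perm α => f b) h2
  have hca : c a ∈ g.support := by
    rw [Equiv.Perm.mem_support] at ha ⊢
    intro h
    apply ha
    have h1 := hcz 1 a
    rw [zpow_one] at h1
    rw [h] at h1
    exact c.injective h1
  obtain ⟨k, hk⟩ := hg.sameCycle (Equiv.Perm.mem_support.mp ha) (Equiv.Perm.mem_support.mp hca)
  refine ⟨k, fun b hb => ?_⟩
  obtain ⟨i, hi⟩ := hg.sameCycle (Equiv.Perm.mem_support.mp ha) (Equiv.Perm.mem_support.mp hb)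
  rw [← hi, hcz, ← hk, ← Equiv.Perm.mul_apply, ← Equiv.Perm.mul_apply, ← zpow_add, ← zpow_add, add_comm]

/-- Jordan's theorem on cycles of prime length -/
theorem jordan_prime_cycle (G : Subgroup (Equiv.Perm α)) (hG : MulAction.IsPreprimitive G α) {p : ℕ}
    (hp : p.Prime) (hpn : p + 3 ≤ Fintype.card α) {g : Equiv.Perm α}
    (hgc : g.IsCycle) (hgp : g.support.card = p) (hg : g ∈ G) : alternatingGroup α ≤ G := by
  classical
  rcases eq_or_ne p 3 with rfl | hp3
  · exact Equiv.Perm.alternatingGroup_le_of_isPreprimitive_of_isThreeCycle_mem hG (card_support_eq_three_iff.mp hgp) hg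
  have := Fact.mk hp
  have hp2 := hp.two_le
  set s : Set α := ((g.support : Set α))ᶜ with hs
  obtain ⟨t, ht⟩ : ∃ t, Fintype.card α = p + t := ⟨Fintype.card α - p, by omega⟩
  have hsc : s.ncard = t := by
    have h1 := Set.ncard_add_ncard_compl (g.support : Set α)
    rw [Set.ncard_coe_finset, hgp, Nat.card_eq_fintype_card, ht] at h1
    have h2 : s.ncard = (g.support : Set α)ᶜ.ncard := rfl
    omega
  have ht3 : 3 ≤ t := by omega
  have hcardα : Nat.card α = Fintype.card α := Nat.card_eq_fintype_card
  have htr := Equiv.Perm.isPretransitive_of_isCycle_mem hgc hg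
  have hprim : MulAction.IsPreprimitive (fixingSubgroup G s) (SubMulAction.ofFixingSubgroup G s) := by
    apply MulAction.IsPreprimitive.of_prime_card
    have h1 : Nat.card (SubMulAction.ofFixingSubgroup G s) = p := by
      rw [Nat.card_eq_fintype_card, Fintype.card_subtype, ← hgp]
      apply congr_arg
      ext x
      simp [SubMulAction.mem_ofFixingSubgroup_iff, hs]
    rw [h1]; exact hp
  have hmp := hG.isMultiplyPreprimitive (s := s) (n := t - 1) (by rw [hsc]; omega)
    (by rw [hcardα]; omega) hprim
  have hmt : MulAction.IsMultiplyPretransitive G α (t - 1 + 2) := hmp.isMultiplyPretransitive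
  have hmt' : MulAction.IsMultiplyPretransitive G α t :=
    MulAction.isMultiplyPretransitive_of_le (n := t - 1 + 2) (by omega) (by rw [hcardα]; omega)
  -- the tuple
  have hse : Nonempty (Fin t ≃ s) := by
    rw [← Finite.card_eq, Nat.card_coe_set_eq, hsc]
    simp
  obtain ⟨e⟩ := hse
  let x : Fin t ↪ α := e.toEmbedding.trans (Function.Embedding.subtype _)
  have hxs : ∀ a, a ∈ s ↔ ∃ i, a = x i := by
    intro a
    constructor
    · intro ha
      exact ⟨e.symm ⟨a, ha⟩, by simp [x]⟩
    · rintro ⟨i, rfl⟩
      exact (e i).2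
  let g' : G := ⟨g, hg⟩
  have hgx : g' ∈ MulAction.stabilizer G x := by
    rw [MulAction.mem_stabilizer_iff]
    apply Function.Embedding.ext
    intro i
    show g (x i) = x i
    have h1 : x i ∈ s := (hxs _).mpr ⟨i, rfl⟩
    rw [hs, Set.mem_compl_iff, Finset.mem_coe, Equiv.Perm.notMem_support] at h1
    exact h1
  have hgo : orderOf g = p := by rw [hgc.orderOf, hgp]
  have hgo' : orderOf (⟨g', hgx⟩ : MulAction.stabilizer G x) = p := by
    rw [Subgroup.orderOf_mk, Subgroup.orderOf_mk]; exact hgo
  have hzp : IsPGroup p (Subgroup.zpowers (⟨g', hgx⟩ : MulAction.stabilizer G x)) :=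
    IsPGroup.of_card (n := 1) (by rw [Nat.card_zpowers, hgo', pow_one])
  obtain ⟨P, hP⟩ := hzp.exists_le_sylow
  -- the order of the Sylow subgroup
  have hPc : Nat.card P = p := by
    set Q : Subgroup (Equiv.Perm α) :=
      ((P : Subgroup (MulAction.stabilizer G x)).map (MulAction.stabilizer G x).subtype).map G.subtype with hQ
    have hQc : Nat.card Q = Nat.card P := by
      rw [hQ, card_map_of_injective G.subtype_injective,
        card_map_of_injective (MulAction.stabilizer G x).subtype_injective]
    have h1 := card_dvd_factorial_of_fixes Q g.support (by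
      rintro _ ⟨_, ⟨h, hh, rfl⟩, rfl⟩ b hb
      have h2 : b ∈ s := by rw [hs, Set.mem_compl_iff, Finset.mem_coe]; exact hb
      obtain ⟨i, rfl⟩ := (hxs b).mp h2
      exact congrArg (fun f : Fin t ↪ α => f i) h.2)
    rw [hQc, hgp] at h1
    obtain ⟨k, hk⟩ := IsPGroup.iff_card.mp P.isPGroup'
    have h2 : p ∣ Nat.card P := by
      have h3 := card_dvd_of_le hP
      rwa [Nat.card_zpowers, hgo'] at h3
    have hk1 : k ≠ 0 := by
      rintro rfl
      rw [hk, pow_zero, Nat.dvd_one] at h2
      exact hp.one_lt.ne' h2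
    have hk2 : k < 2 := by
      by_contra hk2
      push Not at hk2
      have h4 : p ^ 2 ∣ p.factorial := by
        rw [hk] at h1
        exact (pow_dvd_pow p hk2).trans h1
      obtain ⟨q, rfl⟩ : ∃ q, p = q + 1 := ⟨p - 1, by omega⟩
      rw [Nat.factorial_succ, pow_two] at h4
      have h5 := Nat.dvd_of_mul_dvd_mul_left (by omega) h4
      rw [hp.dvd_factorial] at h5
      omega
    have hk3 : k = 1 := by omega
    rw [hk, hk3, pow_one]
  have hPz : (P : Subgroup (MulAction.stabilizer G x)) = Subgroup.zpowers (⟨g', hgx⟩ : MulAction.stabilizer G x) := by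
    symm
    apply eq_of_le_of_card_ge hP
    rw [Nat.card_zpowers, hgo']
    exact hPc.le
  have hcyc : IsCyclic P := by
    have : IsCyclic (Subgroup.zpowers (⟨g', hgx⟩ : MulAction.stabilizer G x)) := inferInstance
    rw [← hPz] at this
    exact this
  obtain ⟨h, hh, hh3⟩ := exists_threeCycle ht3 hmt' x P hcyc (N := p) (by
      intro h
      exact hp3 ((Nat.prime_dvd_prime_iff_eq Nat.prime_three hp).mp h).symm) (by
      intro c hcP _ a ha
      have hcg : (c : Equiv.Perm α) * g = g * c := by
        have h1 := hcP g' ⟨⟨g', hgx⟩, by rw [hPz]; exact mem_zpowers _, rfl⟩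
        exact congrArg Subtype.val h1
      have hasupp : a ∈ g.support := by
        by_contra hno
        have h2 : a ∈ s := by rw [hs, Set.mem_compl_iff, Finset.mem_coe]; exact hno
        obtain ⟨i, hi⟩ := (hxs a).mp h2
        exact ha i hi
      obtain ⟨k, hk⟩ := cycle_comm_pow hgc hcg hasupp
      have hkn : ∀ n : ℕ, ((c : Equiv.Perm α) ^ n) a = ((g ^ k) ^ n) a ∧ ((g ^ k) ^ n) a ∈ g.support := by
        intro n
        induction n with
        | zero => exact ⟨rfl, hasupp⟩
        | succ n ih =>
          rw [pow_succ' (c : Equiv.Perm α), Equiv.Perm.mul_apply, ih.1, hk _ ih.2, pow_succ' (g ^ k), Equiv.Perm.mul_apply]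
          refine ⟨rfl, ?_⟩
          rw [Equiv.Perm.zpow_apply_mem_support]
          exact ih.2
      show (((c : Equiv.Perm α)) ^ p) a = a
      rw [(hkn p).1, ← zpow_natCast, ← zpow_mul, mul_comm, zpow_mul, zpow_natCast]
      have : g ^ p = 1 := by rw [← hgo]; exact pow_orderOf_eq_one g
      rw [this, one_zpow]; rfl)
  exact Equiv.Perm.alternatingGroup_le_of_isPreprimitive_of_isThreeCycle_mem hG hh3 hh

end CfsgLib.H6
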