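import Cfsg.Agent.EqBase
import Mathlib

set_option autoImplicit false

/-!
The order of a finite elementary abelian `q`-group on which an automorphism of prime order `p` acts irreducibly is
`q ^ orderOf (q : ZMod p)`.
-/

namespace CfsgLib.IrrCard

universe u

theorem irr_card {V : Type*} [AddCommGroup V] [Finite V] {q p : ℕ} [hq : Fact q.Prime] [hp : Fact p.Prime]
    (hpq : q ≠ p) [Module (ZMod q) V] (α : Module.End (ZMod q) V) (hα : α ^ p = 1) (hα1 : α ≠ 1)
    [Nontrivial V] (hirr : ∀ W : AddSubgroup V, (∀ w ∈ W, α w ∈ W) → W = ⊥ ∨ W = ⊤) :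
    Nat.card V = q ^ orderOf (q : ZMod p) := by
  classical
  have hpq' : (q : ZMod p) ≠ 0 := by
    intro h
    rw [ZMod.natCast_eq_zero_iff] at h
    exact hpq ((Nat.prime_dvd_prime_iff_eq hp.out hq.out).mp h).symm
  set e := orderOf (q : ZMod p) with he
  let F := Algebra.adjoin (ZMod q) {α}
  have hcomm : ∀ a ∈ ({α} : Set (Module.End (ZMod q) V)), ∀ b ∈ ({α} : Set (Module.End (ZMod q) V)),
      a * b = b * a := by
    intro a ha b hb
    rw [Set.mem_singleton_iff] at ha hb
    rw [ha, hb]
  letI cF : CommRing F := Algebra.adjoinCommRingOfComm (ZMod q) hcomm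
  haveI hfinE : Finite (Module.End (ZMod q) V) :=
    Finite.of_injective (fun f : Module.End (ZMod q) V => (f : V → V)) DFunLike.coe_injective
  haveI hfinF : Finite F := inferInstance
  have hαF : α ∈ F := Algebra.self_mem_adjoin_singleton (ZMod q) α
  -- every nonzero element is injective
  have hcm : ∀ f : F, (f : Module.End (ZMod q) V) * α = α * f := by
    intro f
    have := congrArg Subtype.val (mul_comm f (⟨α, hαF⟩ : F))
    exact this
  have hinj : ∀ f : F, f ≠ 0 → Function.Injective (f : Module.End (ZMod q) V) := by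
    intro f hf
    have h1 := hirr (LinearMap.ker (f : Module.End (ZMod q) V)).toAddSubgroup (by
      intro w hw
      have hw' : (f : Module.End (ZMod q) V) w = 0 := hw
      show (f : Module.End (ZMod q) V) (α w) = 0
      have h2 := congrArg (fun g : Module.End (ZMod q) V => g w) (hcm f)
      have h3 : (f : Module.End (ZMod q) V) (α w) = α ((f : Module.End (ZMod q) V) w) := h2
      rw [h3, hw', map_zero])
    rcases h1 with h1 | h1
    · rw [← LinearMap.ker_eq_bot]
      apply le_bot_iff.mp
      intro x hx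
      have h2 : x ∈ (LinearMap.ker (f : Module.End (ZMod q) V)).toAddSubgroup := hx
      rw [h1] at h2
      exact h2
    · exfalso
      apply hf
      apply Subtype.ext
      apply LinearMap.ext
      intro x
      have h2 : x ∈ (LinearMap.ker (f : Module.End (ZMod q) V)).toAddSubgroup := by
        rw [h1]; trivial
      exact h2
  haveI hdom : IsDomain F := by
    haveI : Nontrivial F := by
      refine ⟨⟨1, 0, ?_⟩⟩
      intro h
      have h1 : (1 : Module.End (ZMod q) V) = 0 := congrArg Subtype.val h
      obtain ⟨v, hv⟩ := exists_ne (0 : V)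
      apply hv
      have h2 := congrArg (fun g : Module.End (ZMod q) V => g v) h1
      exact h2
    refine { (inferInstance : Nontrivial F) with
      mul_left_cancel_of_ne_zero := ?_
      mul_right_cancel_of_ne_zero := ?_ }
    · intro a ha b c hbc
      apply Subtype.ext
      apply LinearMap.ext
      intro x
      apply hinj a ha
      have h2 : (a : Module.End (ZMod q) V) * b = a * c := congrArg Subtype.val hbc
      exact congrArg (fun g : Module.End (ZMod q) V => g x) h2
    · intro a ha b c hbc
      apply Subtype.ext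
      apply LinearMap.ext
      intro x
      apply hinj a ha
      have hbc' : a * b = a * c := by rw [mul_comm a b, mul_comm a c]; exact hbc
      have h2 : (a : Module.End (ZMod q) V) * b = a * c := congrArg Subtype.val hbc'
      exact congrArg (fun g : Module.End (ZMod q) V => g x) h2
  -- cardinality
  obtain ⟨v, hv⟩ := exists_ne (0 : V)
  have hcard : Nat.card V = Nat.card F := by
    symm
    let ev : F →+ V :=
      { toFun := fun f => (f : Module.End (ZMod q) V) v
        map_zero' := rfl
        map_add' := fun f g => rfl }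
    refine Nat.card_congr (Equiv.ofBijective ev ⟨?_, ?_⟩)
    · rw [injective_iff_map_eq_zero]
      intro f hf
      by_contra hf0
      have h1 := hinj f hf0
      apply hv
      apply h1
      rw [map_zero]
      exact hf
    · have h1 := hirr ev.range (by
        rintro _ ⟨f, rfl⟩
        refine ⟨⟨α, hαF⟩ * f, rfl⟩)
      rcases h1 with h1 | h1
      · exfalso
        apply hv
        have h2 : v ∈ ev.range := ⟨1, rfl⟩
        rw [h1] at h2
        exact h2
      · exact AddMonoidHom.range_eq_top.mp h1
  haveI : CharP F q := by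
    haveI : Nontrivial F := hdom.toNontrivial
    exact charP_of_injective_algebraMap (algebraMap (ZMod q) F).injective q
  -- the order of `V` is a power of `q`
  haveI : Fintype V := Fintype.ofFinite V
  have hVq : ∃ d : ℕ, Nat.card V = q ^ d := by
    refine ⟨Module.finrank (ZMod q) V, ?_⟩
    haveI : Module.Finite (ZMod q) V := Module.Finite.of_finite
    rw [Nat.card_eq_fintype_card, Module.card_eq_pow_finrank (K := ZMod q) (V := V), ZMod.card]
  obtain ⟨d, hd⟩ := hVq
  -- `e ∣ d`
  have hαu : orderOf (⟨α, hαF⟩ : F) = p := by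
    apply orderOf_eq_prime
    · apply Subtype.ext; exact hα
    · intro h; exact hα1 (congrArg Subtype.val h)
  have h1 : (p : ℕ) ∣ Nat.card F - 1 := by
    -- use units
    have hu : IsUnit (⟨α, hαF⟩ : F) := by
      refine IsUnit.of_mul_eq_one ((⟨α, hαF⟩ : F) ^ (p - 1)) ?_
      rw [← pow_succ', Nat.sub_add_cancel hp.out.one_le]
      rw [← hαu, pow_orderOf_eq_one]
    obtain ⟨u, hu⟩ := hu
    have h2 : orderOf u = p := by rw [← orderOf_units, hu, hαu]
    have h3 : Nat.card Fˣ = Nat.card F - 1 := by
      letI : Fintype F := Fintype.ofFinite F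
      letI : Field F := Fintype.fieldOfDomain F
      exact Nat.card_units F
    rw [← h3, ← h2]
    exact orderOf_dvd_natCard u
  have h2 : e ∣ d := by
    rw [← hcard, hd] at h1
    apply orderOf_dvd_of_pow_eq_one
    have h3 : ((q ^ d : ℕ) : ZMod p) = 1 := by
      have h4 : q ^ d = (q ^ d - 1) + 1 := (Nat.sub_add_cancel (Nat.one_le_pow _ _ hq.out.pos)).symm
      rw [h4, Nat.cast_add, (ZMod.natCast_eq_zero_iff _ _).mpr h1, zero_add, Nat.cast_one]
    rw [← h3, Nat.cast_pow]
  have hd0 : d ≠ 0 := by
    rintro rfl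
    rw [pow_zero] at hd
    have : 1 < Nat.card V := Finite.one_lt_card
    omega
  have h3 : d ≤ e := by
    -- all elements of `F` are fixed by the `e`-th power of Frobenius
    have he0 : 0 < e := by
      rw [he]
      exact orderOf_pos_iff.mpr (isOfFinOrder_iff_pow_eq_one.mpr ⟨p - 1, Nat.sub_pos_of_lt hp.out.one_lt,
        ZMod.pow_card_sub_one_eq_one hpq'⟩)
    have hαe : α ^ (q ^ e) = α := by
      have h4 : ((q ^ e : ℕ) : ZMod p) = ((1 : ℕ) : ZMod p) := by
        rw [Nat.cast_pow, pow_orderOf_eq_one, Nat.cast_one]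
      rw [ZMod.natCast_eq_natCast_iff] at h4
      have h5 : p ∣ q ^ e - 1 := (Nat.modEq_iff_dvd' (Nat.one_le_pow _ _ hq.out.pos)).mp h4.symm
      obtain ⟨t, ht⟩ := h5
      have h6 : q ^ e = p * t + 1 := by
        have := Nat.one_le_pow e q hq.out.pos
        omega
      rw [h6, pow_succ, pow_mul, hα, one_pow, one_mul]
    have hfrob : ∀ f : F, f ^ (q ^ e) = f := by
      rintro ⟨f, hf⟩
      induction hf using Algebra.adjoin_induction with
      | mem x hx =>
        rw [Set.mem_singleton_iff] at hx
        subst hx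
        apply Subtype.ext
        exact hαe
      | algebraMap r =>
        have h4 : (⟨algebraMap (ZMod q) (Module.End (ZMod q) V) r, Subalgebra.algebraMap_mem F r⟩ : F) =
            algebraMap (ZMod q) F r := rfl
        rw [h4, ← map_pow, ZMod.pow_card_pow]
      | add x y hx hy ihx ihy =>
        have h4 : (⟨x + y, Subalgebra.add_mem F hx hy⟩ : F) = ⟨x, hx⟩ + ⟨y, hy⟩ := rfl
        rw [h4, add_pow_char_pow, ihx, ihy]
      | mul x y hx hy ihx ihy =>
        have h4 : (⟨x * y, Subalgebra.mul_mem F hx hy⟩ : F) = ⟨x, hx⟩ * ⟨y, hy⟩ := rfl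
        rw [h4, mul_pow, ihx, ihy]
    letI : Fintype F := Fintype.ofFinite F
    have h5 : Fintype.card F ≤ q ^ e := by
      haveI : Nontrivial F := hdom.toNontrivial
      have hqe : 1 < q ^ e := Nat.one_lt_pow he0.ne' hq.out.one_lt
      have hdeg : (Polynomial.X ^ (q ^ e) - Polynomial.X : Polynomial F).natDegree = q ^ e := by
        rw [Polynomial.natDegree_sub_eq_left_of_natDegree_lt, Polynomial.natDegree_X_pow]
        rw [Polynomial.natDegree_X_pow, Polynomial.natDegree_X]
        exact hqe
      have hne : (Polynomial.X ^ (q ^ e) - Polynomial.X : Polynomial F) ≠ 0 := by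
        intro h
        rw [h, Polynomial.natDegree_zero] at hdeg
        omega
      have h6 : (Finset.univ : Finset F) ⊆ (Polynomial.X ^ (q ^ e) - Polynomial.X : Polynomial F).roots.toFinset := by
        intro f _
        rw [Multiset.mem_toFinset, Polynomial.mem_roots hne]
        simp [hfrob f, Polynomial.IsRoot]
      have h7 := Finset.card_le_card h6
      have h8 := (Multiset.toFinset_card_le (Polynomial.X ^ (q ^ e) - Polynomial.X : Polynomial F).roots).trans
        (Polynomial.card_roots' _)
      rw [hdeg] at h8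
      exact h7.trans h8
    rw [← Nat.card_eq_fintype_card, ← hcard, hd] at h5
    exact (Nat.pow_le_pow_iff_right hq.out.one_lt).mp h5
  have h4 : d = e := Nat.le_antisymm h3 (Nat.le_of_dvd (Nat.pos_of_ne_zero hd0) h2)
  rw [hd, h4]

theorem irr_card_add {V : Type*} [AddCommGroup V] [Finite V] {q p : ℕ} [hq : Fact q.Prime] [hp : Fact p.Prime]
    (hpq : q ≠ p) (hV : ∀ v : V, q • v = 0) (c : V →+ V) (hc : ∀ v, (c^[p]) v = v) (hc1 : ∃ v, c v ≠ v)
    [Nontrivial V] (hirr : ∀ W : AddSubgroup V, (∀ w ∈ W, c w ∈ W) → W = ⊥ ∨ W = ⊤) :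
    Nat.card V = q ^ orderOf (q : ZMod p) := by
  haveI : Module (ZMod q) V := AddCommGroup.zmodModule hV
  obtain ⟨α, hαc⟩ : ∃ α : V →ₗ[ZMod q] V, ∀ a, α a = c a := ⟨c.toZModLinearMap q, fun a => rfl⟩
  have hcn : ∀ (n : ℕ) (a : V), ((α : Module.End (ZMod q) V) ^ n) a = (c^[n]) a := by
    intro n a
    induction n with
    | zero => rfl
    | succ n ih =>
      rw [pow_succ', Module.End.mul_apply, ih, hαc, Function.iterate_succ_apply']
  have hα : (α : Module.End (ZMod q) V) ^ p = 1 := by
    apply LinearMap.ext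
    intro a
    rw [hcn, hc]
    rfl
  have hα1 : (α : Module.End (ZMod q) V) ≠ 1 := by
    intro h
    obtain ⟨a, hne⟩ := hc1
    apply hne
    have h1 := congrArg (fun g : Module.End (ZMod q) V => g a) h
    rw [← hαc]
    exact h1
  exact irr_card hpq α hα hα1 (fun W hW => hirr W (fun w hw => by rw [← hαc]; exact hW w hw))

/-- Abelian group version. -/
theorem irr_card_comm {A : Type*} [CommGroup A] [Finite A] [Nontrivial A] {q p : ℕ} (hq : q.Prime)
    [hp : Fact p.Prime] (hpq : q ≠ p) (hAq : ∀ a : A, a ^ q = 1) (c : A →* A)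
    (hc : ∀ a, (c^[p]) a = a) (hc1 : ∃ a, c a ≠ a)
    (hirr : ∀ B : Subgroup A, (∀ b ∈ B, c b ∈ B) → B = ⊥ ∨ B = ⊤) :
    Nat.card A = q ^ orderOf (q : ZMod p) := by
  haveI : Fact q.Prime := ⟨hq⟩
  have hcn : ∀ (n : ℕ) (a : A), ((MonoidHom.toAdditive c)^[n]) (Additive.ofMul a) = Additive.ofMul ((c^[n]) a) := by
    intro n a
    induction n with
    | zero => rfl
    | succ n ih =>
      rw [Function.iterate_succ_apply', Function.iterate_succ_apply', ih]
      rfl
  have h := irr_card_add (V := Additive A) hpq (by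
    intro a
    have h1 : (Additive.toMul a) ^ q = 1 := hAq _
    rw [← ofMul_toMul a, ← ofMul_pow, h1]; rfl) (MonoidHom.toAdditive c) (by
    intro a
    rw [← ofMul_toMul a, hcn, hc]) (by
    obtain ⟨a, hne⟩ := hc1
    exact ⟨Additive.ofMul a, fun h => hne (Additive.ofMul.injective h)⟩) (by
    intro W hW
    let B : Subgroup A := AddSubgroup.toSubgroup' W
    have hBW : ∀ a : A, a ∈ B ↔ Additive.ofMul a ∈ W := fun a => Iff.rfl
    have h1 := hirr B (fun b hb => hW _ hb)
    rcases h1 with h1 | h1
    · left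
      rw [eq_bot_iff]
      intro w hw
      have h2 : Additive.toMul w ∈ B := hw
      rw [h1, Subgroup.mem_bot] at h2
      rw [AddSubgroup.mem_bot]
      exact h2
    · right
      rw [eq_top_iff]
      intro w _
      have h2 : Additive.toMul w ∈ B := by rw [h1]; trivial
      exact h2)
  exact h

/-- Group version. -/
theorem irr_card_group {G : Type*} [Group G] [Finite G] {q p : ℕ} (hq : q.Prime) [hp : Fact p.Prime]
    (hpq : q ≠ p) (A : Subgroup G) (hA1 : A ≠ ⊥) (hAc : ∀ a ∈ A, ∀ b ∈ A, a * b = b * a)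
    (hAq : ∀ a ∈ A, a ^ q = 1) (x : G) (hx : ∀ a ∈ A, x * a * x⁻¹ ∈ A)
    (hxp : ∀ a ∈ A, x ^ p * a * (x ^ p)⁻¹ = a) (hx1 : ∃ a ∈ A, x * a * x⁻¹ ≠ a)
    (hirr : ∀ B : Subgroup G, B ≤ A → (∀ b ∈ B, x * b * x⁻¹ ∈ B) → B = ⊥ ∨ B = A) :
    Nat.card A = q ^ orderOf (q : ZMod p) := by
  haveI : Nontrivial A := (Subgroup.nontrivial_iff_ne_bot A).mpr hA1
  letI : CommGroup A := { (inferInstance : Group A) with
    mul_comm := fun a b => Subtype.ext (hAc a a.2 b b.2) }
  let c : A →* A :=
    { toFun := fun a => ⟨x * a * x⁻¹, hx a a.2⟩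
      map_one' := Subtype.ext (by simp)
      map_mul' := by
        intro a b
        apply Subtype.ext
        show x * ((a : G) * b) * x⁻¹ = (x * a * x⁻¹) * (x * b * x⁻¹)
        group }
  have hcn' : ∀ (n : ℕ) (a : A), (((c^[n]) a : A) : G) = x ^ n * a * (x ^ n)⁻¹ := by
    intro n a
    induction n with
    | zero => simp
    | succ n ih =>
      rw [Function.iterate_succ_apply']
      show x * ((c^[n]) a : A) * x⁻¹ = _
      rw [ih, pow_succ']
      group
  refine irr_card_comm hq hpq (fun a => Subtype.ext (hAq a a.2)) c ?_ ?_ ?_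
  · intro a
    apply Subtype.ext
    rw [hcn', hxp _ a.2]
  · obtain ⟨a, ha, hne⟩ := hx1
    exact ⟨⟨a, ha⟩, fun h => hne (congrArg Subtype.val h)⟩
  · intro B hB
    have h1 := hirr (B.map A.subtype) (Subgroup.map_subtype_le B) (by
      rintro _ ⟨b, hb, rfl⟩
      exact ⟨c b, hB b hb, rfl⟩)
    rcases h1 with h1 | h1
    · left
      rwa [Subgroup.map_eq_bot_iff_of_injective _ A.subtype_injective] at h1
    · right
      rw [eq_top_iff]
      intro w _
      have h2 : (w : G) ∈ B.map A.subtype := by rw [h1]; exact w.2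
      obtain ⟨b, hb, hb2⟩ := h2
      have h3 : b = w := Subtype.ext hb2
      rw [h3] at hb
      exact hb

end CfsgLib.IrrCard
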