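import Cfsg.Agent.EqBase
import Mathlib
import Cfsg.Prelude.Def_LocalStructure
import Cfsg.Agent.LibIrrCard

set_option autoImplicit false

/-!
Small lemmas about `p`-closed groups and groups with a normal subgroup of prime index.
-/

namespace CfsgLib.MinNonPC

open Subgroup Cfsg

variable {G : Type*} [Group G] [Finite G]

theorem gen {p : ℕ} [hp : Fact p.Prime] {A : Subgroup G} [A.Normal] (hidx : A.index = p) {y : G}
    (hy : y ∉ A) (g : G) : ∃ i : ℕ, ∃ a ∈ A, g = a * y ^ i := by
  have h1 : (QuotientGroup.mk' A) y ≠ 1 := by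
    intro h
    exact hy ((QuotientGroup.eq_one_iff y).mp h)
  have hc : Nat.card (G ⧸ A) = p := by rw [← Subgroup.index_eq_card, hidx]
  have h2 := mem_powers_of_prime_card hc h1 (g' := (QuotientGroup.mk' A) g)
  obtain ⟨i, hi⟩ := h2
  have hi' : (QuotientGroup.mk' A) (y ^ i) = (QuotientGroup.mk' A) g := by
    rw [map_pow]; exact hi
  refine ⟨i, g * (y ^ i)⁻¹, ?_, by group⟩
  rw [← QuotientGroup.eq_one_iff]
  show (QuotientGroup.mk' A) (g * (y ^ i)⁻¹) = 1
  rw [map_mul, map_inv, hi', mul_inv_cancel]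

theorem normal_of_inv {p : ℕ} [hp : Fact p.Prime] {A : Subgroup G} [A.Normal] (hidx : A.index = p) {y : G}
    (hy : y ∉ A) (hAc : ∀ a ∈ A, ∀ b ∈ A, a * b = b * a) {B : Subgroup G} (hBA : B ≤ A)
    (hB : ∀ b ∈ B, y * b * y⁻¹ ∈ B) : B.Normal := by
  have hpow : ∀ (i : ℕ), ∀ b ∈ B, y ^ i * b * (y ^ i)⁻¹ ∈ B := by
    intro i
    induction i with
    | zero => intro b hb; simpa using hb
    | succ n ih =>
      intro b hb
      have h1 := hB _ (ih b hb)
      have h2 : y ^ (n + 1) * b * (y ^ (n + 1))⁻¹ = y * (y ^ n * b * (y ^ n)⁻¹) * y⁻¹ := by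
        rw [pow_succ']; group
      rw [h2]; exact h1
  refine ⟨fun b hb g => ?_⟩
  obtain ⟨i, a, ha, rfl⟩ := gen hidx hy g
  have h1 := hpow i b hb
  have h2 : a * y ^ i * b * (a * y ^ i)⁻¹ = a * (y ^ i * b * (y ^ i)⁻¹) * a⁻¹ := by group
  rw [h2, hAc a ha _ (hBA h1)]
  simpa using h1

theorem isPClosed_of_not_dvd {p : ℕ} [hp : Fact p.Prime] (h : ¬ p ∣ Nat.card G) : IsPClosed p G := by
  intro P
  have h1 : Nat.card (P : Subgroup G) = 1 := by
    obtain ⟨n, hn⟩ := IsPGroup.iff_card.mp P.isPGroup'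
    rcases Nat.eq_zero_or_pos n with h0 | h0
    · rw [hn, h0, pow_zero]
    · exfalso
      apply h
      exact (dvd_pow_self p h0.ne').trans (hn ▸ Subgroup.card_subgroup_dvd_card (P : Subgroup G))
  rw [Subgroup.card_eq_one.mp h1]
  infer_instance

theorem isPClosed_of_pgroup {p : ℕ} [hp : Fact p.Prime] (h : IsPGroup p G) : IsPClosed p G := by
  intro P
  have h1 : (P : Subgroup G) = ⊤ := by
    have h2 : IsPGroup p (⊤ : Subgroup G) := h.to_subgroup ⊤
    exact (P.is_maximal' h2 le_top).symm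
  rw [h1]
  infer_instance

/-- a normal `p`-subgroup `N` of index prime to `p` -/
theorem isPClosed_of_normal {p : ℕ} [hp : Fact p.Prime] (N : Subgroup G) [N.Normal] (hN : IsPGroup p N)
    (hi : ¬ p ∣ N.index) : IsPClosed p G := by
  intro P
  have h1 : N ≤ P := by
    have h2 : IsPGroup p (N ⊔ P : Subgroup G) := by
      rw [sup_comm]
      exact P.isPGroup'.to_sup_of_normal_right hN
    have h3 := P.is_maximal' h2 le_sup_right
    rw [← h3]; exact le_sup_left
  have h2 : (P : Subgroup G) = N := by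
    symm
    apply Subgroup.eq_of_le_of_card_ge h1
    obtain ⟨n, hn⟩ := IsPGroup.iff_card.mp P.isPGroup'
    have h3 : Nat.card (P : Subgroup G) ∣ Nat.card N * N.index := by
      rw [Subgroup.card_mul_index]; exact Subgroup.card_subgroup_dvd_card _
    rw [hn] at h3
    have h4 : (p ^ n).Coprime N.index := Nat.Coprime.pow_left n ((hp.out.coprime_iff_not_dvd).mpr hi)
    rw [hn]
    exact Nat.le_of_dvd Nat.card_pos (h4.dvd_of_dvd_mul_right h3)
  rw [h2]
  infer_instance

/-- If some Sylow subgroup is normal, the group is `p`-closed. -/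
theorem isPClosed_of_sylow {p : ℕ} [hp : Fact p.Prime] (P : Sylow p G) (hP : (P : Subgroup G).Normal) :
    IsPClosed p G := by
  haveI := hP
  exact isPClosed_of_normal (P : Subgroup G) P.isPGroup' P.not_dvd_index

end CfsgLib.MinNonPC
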