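import Cfsg.Agent.LibBR11q
import Cfsg.Agent.LibMinNonPC
import Cfsg.Agent.LibDkX29
import Cfsg.Agent.LibCoprime
import Cfsg.Prelude.Def_LocalStructure
/-!
# The least order of a group with non-normal Sylow `p`-subgroups: lower bound (helper6)
-/
set_option autoImplicit false
set_option linter.all false
open Cfsg Subgroup
open scoped Pointwise
namespace CfsgLib.H6Le

universe u

theorem normal_of {H : Type u} [Group H] [Finite H] {p : ℕ} [Fact p.Prime] (K : Subgroup H) [K.Normal] (P : Sylow p H)
    (hPK : (P : Subgroup H) ≤ K) (hK : IsPClosed p K) : (P : Subgroup H).Normal := by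
  haveI h1 : ((P.subtype hPK : Sylow p K) : Subgroup K).Normal := hK _
  haveI h2 : ((P.subtype hPK : Sylow p K) : Subgroup K).Characteristic := Sylow.characteristic_of_normal _ h1
  have h3 : (((P.subtype hPK : Sylow p K) : Subgroup K).map K.subtype).Normal := inferInstance
  rw [P.coe_subtype, subgroupOf_map_subtype, inf_of_le_left hPK] at h3
  exact h3

theorem le_normal {H : Type u} [Group H] [Finite H] {p : ℕ} [hp : Fact p.Prime] (K : Subgroup H) [K.Normal] (hK : ¬ p ∣ K.index) (P : Sylow p H) :
    (P : Subgroup H) ≤ K := by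
  intro y hy
  have h1 : IsPGroup p ((P : Subgroup H).map (QuotientGroup.mk' K)) := P.isPGroup'.map _
  obtain ⟨k, hk⟩ := IsPGroup.iff_card.1 h1
  have h2 : Nat.card ((P : Subgroup H).map (QuotientGroup.mk' K)) ∣ K.index := Subgroup.card_subgroup_dvd_card _
  have h3 : k = 0 := by
    by_contra hk0
    apply hK
    rw [hk] at h2
    exact (dvd_pow_self p hk0).trans h2
  rw [h3, pow_zero, Subgroup.card_eq_one] at hk
  have h4 : (QuotientGroup.mk' K) y ∈ (P : Subgroup H).map (QuotientGroup.mk' K) := ⟨y, hy, rfl⟩
  rw [hk, mem_bot, QuotientGroup.mk'_apply, QuotientGroup.eq_one_iff] at h4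
  exact h4

theorem closed_of_quot {H : Type u} [Group H] [Finite H] {p : ℕ} [hp : Fact p.Prime] (N : Subgroup H) [N.Normal] (hN : IsPGroup p N)
    (hQ : IsPClosed p (H ⧸ N)) : IsPClosed p H := by
  obtain ⟨Q⟩ : Nonempty (Sylow p (H ⧸ N)) := inferInstance
  haveI := hQ Q
  have h1 : IsPGroup p ((Q : Subgroup (H ⧸ N)).comap (QuotientGroup.mk' N)) :=
    Q.isPGroup'.comap_of_ker_isPGroup _ (by rw [QuotientGroup.ker_mk']; exact hN)
  apply CfsgLib.MinNonPC.isPClosed_of_normal ((Q : Subgroup (H ⧸ N)).comap (QuotientGroup.mk' N)) h1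
  rw [index_comap_of_surjective _ (QuotientGroup.mk'_surjective N)]
  exact Q.not_dvd_index

/-- the arithmetical part of the lower bound for `pm` -/
theorem bound_pq {H : Type u} [Group H] [Finite H] {p m : ℕ} [hp : Fact p.Prime]
    (hleast : ∀ k : ℕ, IsPrimePow k → k % p = 1 → m ≤ k) (P : Sylow p H) (hP : ¬ (P : Subgroup H).Normal) {q k : ℕ} (hq : q.Prime)
    (hidx : (P : Subgroup H).index ∣ q ^ k) : p * m ≤ Nat.card H := by
  have h1 : (normalizer ((P : Subgroup H) : Set H)).index ∣ q ^ k := (index_dvd_of_le le_normalizer).trans hidx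
  obtain ⟨j, hj, hj2⟩ := (Nat.dvd_prime_pow hq).1 h1
  have hj0 : j ≠ 0 := by
    rintro rfl
    rw [pow_zero, index_eq_one] at hj2
    exact hP (normalizer_eq_top_iff.1 hj2)
  have h2 : m ≤ q ^ j := by
    apply hleast
    · exact hq.isPrimePow.pow hj0
    · have h3 := card_sylow_modEq_one p H
      have h4 : Nat.card (Sylow p H) = (normalizer ((P : Subgroup H) : Set H)).index := P.card_eq_index_normalizer
      rw [h4, hj2] at h3
      have h5 : q ^ j % p = 1 % p := h3
      rw [h5, Nat.mod_eq_of_lt hp.out.one_lt]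
  have h3 : p ≤ Nat.card (normalizer ((P : Subgroup H) : Set H)) := by
    have h4 : p ∣ Nat.card (P : Subgroup H) := by
      apply P.dvd_card_of_dvd_card
      by_contra h5
      exact hP (CfsgLib.MinNonPC.isPClosed_of_not_dvd h5 P)
    exact Nat.le_of_dvd Nat.card_pos (h4.trans (card_dvd_of_le le_normalizer))
  rw [← card_mul_index (normalizer ((P : Subgroup H) : Set H)), hj2]
  exact Nat.mul_le_mul h3 h2

/-- for a normal `p'`-subgroup of `p`-power index, some prime `q` produces a non-`p`-closed subgroup of order `p^a q^b` -/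
theorem exists_pq {H : Type u} [Group H] [Finite H] {p : ℕ} [hp : Fact p.Prime] (N : Subgroup H) [hNn : N.Normal] (hN : ¬ p ∣ Nat.card N)
    (P : Sylow p H) (hP : ¬ (P : Subgroup H).Normal) (hidx : IsPGroup p (H ⧸ N)) :
    ∃ q : ℕ, q.Prime ∧ ∃ L : Subgroup H, ¬ IsPClosed p L ∧ (P : Subgroup H) ≤ L ∧ ∃ k, (P : Subgroup H).relIndex L ∣ q ^ k := by
  by_contra hcon
  push Not at hcon
  apply hP
  rw [← normalizer_eq_top_iff]
  rw [← card_eq_iff_eq_top]
  apply Nat.dvd_antisymm (card_subgroup_dvd_card _)
  rw [Nat.dvd_iff_prime_pow_dvd_dvd]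
  intro q k hq hk
  haveI : Fact q.Prime := ⟨hq⟩
  by_cases hqp : q = p
  · subst hqp
    have h1 : q ^ k ∣ Nat.card (P : Subgroup H) := P.pow_dvd_card_of_pow_dvd_card hk
    exact h1.trans (card_dvd_of_le le_normalizer)
  · have hcopP : (Nat.card (P : Subgroup H)).Coprime (Nat.card N) := by
      obtain ⟨a, ha⟩ := IsPGroup.iff_card.1 P.2
      rw [ha]
      exact Nat.Coprime.pow_left a ((Nat.Prime.coprime_iff_not_dvd hp.out).2 hN)
    haveI : Group.IsSolvable (P : Subgroup H) := by
      haveI : Group.IsNilpotent (P : Subgroup H) := P.isPGroup'.isNilpotent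
      infer_instance
    obtain ⟨Q, hQ⟩ := CfsgLib.Coprime.exists_invariant_sylow (A := (P : Subgroup H)) (K := N)
      (by rw [normalizer_eq_top]; exact le_top) hcopP (Or.inl inferInstance) q
    set Q' : Subgroup H := (Q : Subgroup N).map N.subtype with hQ'
    have hQc : Nat.card Q' = Nat.card (Q : Subgroup N) := card_map_of_injective N.subtype_injective
    -- the subgroup `PQ'`
    set L : Subgroup H := (P : Subgroup H) ⊔ Q' with hL
    have hQN : Q' ≤ N := map_subtype_le _
    have hdis : (P : Subgroup H) ⊓ Q' = ⊥ := by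
      have h1 : Nat.Coprime (Nat.card (P : Subgroup H)) (Nat.card Q') := hcopP.coprime_dvd_right (card_dvd_of_le hQN)
      exact inf_eq_bot_of_coprime h1
    obtain ⟨b, hb⟩ := IsPGroup.iff_card.1 Q.2
    have hcL : Nat.card L ∣ Nat.card (P : Subgroup H) * Nat.card Q' := CfsgLib.Cores.card_sup_dvd_of_le_normalizer _ _ hQ
    have hrel : (P : Subgroup H).relIndex L ∣ q ^ b := by
      have h1 := relIndex_mul_relIndex ⊥ (P : Subgroup H) L bot_le le_sup_left
      rw [relIndex_bot_left, relIndex_bot_left] at h1
      rw [← h1, hQc, hb] at hcL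
      exact Nat.dvd_of_mul_dvd_mul_left Nat.card_pos hcL
    have hLc : IsPClosed p L := by
      by_contra hLn
      exact hcon q hq L hLn le_sup_left b hrel
    -- `Q'` normalises `P`
    have h1 : L ≤ normalizer ((P : Subgroup H) : Set H) := by
      have h2 : ((P : Subgroup H).subgroupOf L).Normal := by
        have h3 := hLc (P.subtype le_sup_left)
        rw [P.coe_subtype] at h3
        exact h3
      exact (normal_subgroupOf_iff_le_normalizer le_sup_left).1 h2
    have h2 : Q' ≤ normalizer ((P : Subgroup H) : Set H) := le_sup_right.trans h1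
    have h3 : q ^ k ∣ Nat.card Q' := by
      rw [hQc]
      apply Q.pow_dvd_card_of_pow_dvd_card
      have h4 := card_mul_index N
      have h5 : Nat.Coprime (q ^ k) N.index := by
        obtain ⟨c, hc⟩ := IsPGroup.iff_card.1 hidx
        have h6 : N.index = p ^ c := hc
        rw [h6]
        exact Nat.Coprime.pow _ _ ((Nat.coprime_primes hq hp.out).2 hqp)
      rw [← h4] at hk
      exact h5.dvd_of_dvd_mul_right hk
    exact h3.trans (card_dvd_of_le h2)

/-- the lower bound -/
theorem lower {p m : ℕ} [hp : Fact p.Prime] (hp2 : p ≠ 2) (hleast : ∀ k : ℕ, IsPrimePow k → k % p = 1 → m ≤ k) (n : ℕ) :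
    ∀ (H : Type u) [Group H] [Finite H], Nat.card H = n → ¬ IsPClosed p H → min (p * m) (p * (p ^ 2 - 1) / 2) ≤ n := by
  have hpp := hp.out
  have hp3 : 3 ≤ p := by
    have := hpp.two_le
    omega
  induction n using Nat.strong_induction_on with
  | _ n ih =>
    intro H _ _ hn hH
    by_contra hlt
    push Not at hlt
    have hlt1 : n < p * m := lt_of_lt_of_le hlt (min_le_left _ _)
    have hlt2 : n < p * (p ^ 2 - 1) / 2 := lt_of_lt_of_le hlt (min_le_right _ _)
    have hsmall : ∀ (K : Type u) [Group K] [Finite K], Nat.card K < n → IsPClosed p K := by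
      intro K _ _ hK
      by_contra hKn
      exact absurd (ih _ hK K rfl hKn) (by omega)
    obtain ⟨P, hP⟩ : ∃ P : Sylow p H, ¬ (P : Subgroup H).Normal := by
      by_contra hcon
      push Not at hcon
      exact hH hcon
    have hpn : p ∣ Nat.card H := by
      by_contra h1
      exact hH (CfsgLib.MinNonPC.isPClosed_of_not_dvd h1)
    by_cases hsim : IsSimpleGroup H
    · have hcyc : ¬ IsCyclic H := by
        intro hc
        apply hP
        letI := hc.commGroup
        exact ⟨fun n hn g => by rwa [mul_comm g n, mul_inv_cancel_right]⟩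
      have hp3' : n < p ^ 3 := by
        have h1 : p * (p ^ 2 - 1) / 2 ≤ p * (p ^ 2 - 1) := Nat.div_le_self _ _
        have h2 : p * (p ^ 2 - 1) ≤ p * p ^ 2 := Nat.mul_le_mul_left _ (Nat.sub_le _ _)
        have h3 : p * p ^ 2 = p ^ 3 := by ring
        omega
      rcases CfsgLib.BR11.s0999 hcyc hpp hpn (by rw [hn]; exact hp3') with ⟨F, iF, iFF, hF, h3, ⟨e⟩⟩ | ⟨a, F, iF, iFF, hF, hpa, h3, ⟨e⟩⟩
      · have h4 := CfsgLib.BR11.card_psl_odd hF hpp hp3
        rw [← Nat.card_congr e.toEquiv, hn] at h4
        have h5 : (p - 1) * (p + 1) = p ^ 2 - 1 := by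
          obtain ⟨r, rfl⟩ : ∃ r, p = r + 1 := ⟨p - 1, by omega⟩
          rw [Nat.add_sub_cancel]
          have : (r + 1) ^ 2 - 1 = r ^ 2 + 2 * r := by
            have : (r + 1) ^ 2 = r ^ 2 + 2 * r + 1 := by ring
            omega
          rw [this]; ring
        rw [h5] at h4
        omega
      · have ha1 : 1 ≤ a := by
          by_contra ha
          have : a = 0 := by omega
          rw [this] at hpa
          omega
        obtain ⟨φ⟩ := CfsgLib.BR11.psl_sl hF ha1
        have h4 := CfsgLib.BR11.card_sl_two hF ha1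
        rw [← Nat.card_congr φ.toEquiv, ← Nat.card_congr e.toEquiv, hn] at h4
        obtain ⟨r, hr⟩ : ∃ r, 2 ^ a = r + 3 := ⟨2 ^ a - 3, by omega⟩
        have hpr : p = r + 4 := by omega
        rw [hr] at h4
        have h5 : (r + 3 - 1) = r + 2 := by omega
        rw [h5] at h4
        have h6 : p ^ 2 - 1 = r ^ 2 + 8 * r + 15 := by
          rw [hpr]
          have : (r + 4) ^ 2 = r ^ 2 + 8 * r + 16 := by ring
          omega
        rw [h6, hpr] at hlt2
        have h7 : (r + 4) * (r ^ 2 + 8 * r + 15) / 2 ≤ (r + 3) * ((r + 2) * (r + 3 + 1)) := by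
          apply Nat.div_le_of_le_mul
          have hr1 : 1 ≤ r := by
            rcases Nat.eq_zero_or_pos r with h0 | h0
            · rw [h0] at hpr; rw [hpr] at hpp; exact absurd hpp (by decide)
            · exact h0
          obtain ⟨s, rfl⟩ : ∃ s, r = s + 1 := ⟨r - 1, by omega⟩
          ring_nf
          nlinarith [Nat.zero_le s, Nat.zero_le (s^2), Nat.zero_le (s^3)]
        omega
    · -- not simple
      haveI : Nontrivial H := by
        rw [← Finite.one_lt_card_iff_nontrivial]
        exact lt_of_lt_of_le hpp.one_lt (Nat.le_of_dvd Nat.card_pos hpn)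
      obtain ⟨N, hNn, hNb, hNt⟩ : ∃ N : Subgroup H, N.Normal ∧ N ≠ ⊥ ∧ N ≠ ⊤ := by
        by_contra hcon
        push Not at hcon
        apply hsim
        exact ⟨fun N hN => by
          by_cases hb : N = ⊥
          · exact Or.inl hb
          · exact Or.inr (hcon N hN hb)⟩
      have hltK : ∀ K : Subgroup H, K ≠ ⊤ → IsPClosed p K := by
        intro K hK
        apply hsmall
        rw [← hn]
        exact lt_of_le_of_ne (card_le_card_group K) (fun h => hK ((card_eq_iff_eq_top K).1 h))
      have hquo : ∀ (K : Subgroup H) [K.Normal], K ≠ ⊥ → IsPClosed p (H ⧸ K) := by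
        intro K _ hK
        apply hsmall
        rw [← hn, ← card_mul_index K]
        have h1 : 1 < Nat.card K := by
          rw [Finite.one_lt_card_iff_nontrivial]
          exact (nontrivial_iff_ne_bot K).2 hK
        have h2 : 0 < K.index := Nat.pos_of_ne_zero index_ne_zero_of_finite
        have h3 : Nat.card (H ⧸ K) = K.index := rfl
        rw [h3]
        nlinarith
      have hNp : ¬ p ∣ Nat.card N := by
        intro hd
        obtain ⟨S⟩ : Nonempty (Sylow p N) := inferInstance
        haveI h1 : (S : Subgroup N).Normal := hltK N hNt S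
        haveI h2 : (S : Subgroup N).Characteristic := Sylow.characteristic_of_normal _ h1
        haveI h3 : ((S : Subgroup N).map N.subtype).Normal := inferInstance
        have h4 : (S : Subgroup N).map N.subtype ≠ ⊥ := by
          intro hb
          have h5 := (map_eq_bot_iff_of_injective _ N.subtype_injective).1 hb
          have h6 := S.dvd_card_of_dvd_card hd
          rw [h5, card_bot] at h6
          exact hpp.one_lt.ne' (Nat.dvd_one.1 h6)
        exact hH (closed_of_quot _ (S.isPGroup'.map _) (hquo _ h4))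
      have hQp : IsPGroup p (H ⧸ N) := by
        obtain ⟨Q⟩ : Nonempty (Sylow p (H ⧸ N)) := inferInstance
        haveI h1 : (Q : Subgroup (H ⧸ N)).Normal := hquo N hNb Q
        set K := (Q : Subgroup (H ⧸ N)).comap (QuotientGroup.mk' N) with hK
        have h2 : K = ⊤ := by
          by_contra hKt
          apply hP
          apply normal_of K P _ (hltK K hKt)
          apply le_normal K
          rw [hK, index_comap_of_surjective _ (QuotientGroup.mk'_surjective N)]
          exact Q.not_dvd_index
        have h3 : (Q : Subgroup (H ⧸ N)) = ⊤ := by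
          rw [← map_comap_eq_self_of_surjective (QuotientGroup.mk'_surjective N) (Q : Subgroup (H ⧸ N)), ← hK, h2,
            map_top_of_surjective _ (QuotientGroup.mk'_surjective N)]
        have h4 := Q.isPGroup'
        rw [h3] at h4
        exact h4.of_equiv topEquiv
      obtain ⟨q, hq, L, hL, hPL, k, hk⟩ := exists_pq N hNp P hP hQp
      have hLt : L = ⊤ := by
        by_contra hLt
        exact hL (hltK L hLt)
      rw [hLt, relIndex_top_right] at hk
      have := bound_pq hleast P hP hq hk
      omega

end CfsgLib.H6Le
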