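import Cfsg.Agent.LibH6LeA
/-!
# The least order of a group with non-normal Sylow `p`-subgroups: examples (helper6)
-/
set_option autoImplicit false
set_option linter.all false
open Cfsg Subgroup
open scoped Pointwise
namespace CfsgLib.H6Le

/-- multiplication by units as automorphisms of the additive group -/
def act (F : Type) [Field F] (C : Subgroup Fˣ) : C →* MulAut (Multiplicative F) where
  toFun c :=
    { toFun := fun a => Multiplicative.ofAdd (((c : Fˣ) : F) * a.toAdd)
      invFun := fun a => Multiplicative.ofAdd ((((c : Fˣ)⁻¹ : Fˣ) : F) * a.toAdd)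
      left_inv := fun a => by
        apply Multiplicative.toAdd.injective
        show (((c : Fˣ)⁻¹ : Fˣ) : F) * (((c : Fˣ) : F) * a.toAdd) = a.toAdd
        rw [← mul_assoc, Units.inv_mul, one_mul]
      right_inv := fun a => by
        apply Multiplicative.toAdd.injective
        show ((c : Fˣ) : F) * ((((c : Fˣ)⁻¹ : Fˣ) : F) * a.toAdd) = a.toAdd
        rw [← mul_assoc, Units.mul_inv, one_mul]
      map_mul' := fun a b => by
        apply Multiplicative.toAdd.injective
        show ((c : Fˣ) : F) * (a.toAdd + b.toAdd) = ((c : Fˣ) : F) * a.toAdd + ((c : Fˣ) : F) * b.toAdd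
        rw [mul_add] }
  map_one' := by
    ext a
    apply Multiplicative.toAdd.injective
    show (((1 : C) : Fˣ) : F) * a.toAdd = a.toAdd
    simp
  map_mul' c d := by
    ext a
    apply Multiplicative.toAdd.injective
    show (((c * d : C) : Fˣ) : F) * a.toAdd = ((c : Fˣ) : F) * (((d : Fˣ) : F) * a.toAdd)
    rw [Subgroup.coe_mul, Units.val_mul, mul_assoc]

theorem act_apply (F : Type) [Field F] (C : Subgroup Fˣ) (c : C) (a : Multiplicative F) :
    (act F C c a).toAdd = ((c : Fˣ) : F) * a.toAdd := rfl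

/-- the Frobenius group of order `m p` -/
theorem frob {p m : ℕ} [hp : Fact p.Prime] (hm : IsPrimePow m) (hm1 : m % p = 1) :
    ∃ (H : Type) (_ : Group H) (_ : Finite H), Nat.card H = p * m ∧ ¬ IsPClosed p H := by
  obtain ⟨q, n, hq, hn, hqn⟩ := hm
  have hq' : q.Prime := hq.nat_prime
  haveI : Fact q.Prime := ⟨hq'⟩
  let F := GaloisField q n
  have hF : Nat.card F = m := by rw [← hqn]; exact GaloisField.card q n hn.ne'
  haveI : Fintype F := Fintype.ofFinite F
  have hpd : p ∣ Nat.card Fˣ := by
    rw [Nat.card_units, hF]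
    have h1 : m = p * (m / p) + 1 := by
      have := Nat.div_add_mod m p
      omega
    exact ⟨m / p, by omega⟩
  obtain ⟨u, hu⟩ := exists_prime_orderOf_dvd_card' p hpd
  let C := Subgroup.zpowers u
  have hC : Nat.card C = p := by rw [Nat.card_zpowers, hu]
  have hcard : Nat.card (Multiplicative F ⋊[act F C] C) = p * m := by
    rw [SemidirectProduct.card, hC, Nat.card_congr Multiplicative.toAdd, hF, mul_comm]
  have hfin : Finite (Multiplicative F ⋊[act F C] C) := by
    apply Nat.finite_of_card_ne_zero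
    rw [hcard]
    have hm0 : 0 < m := by rw [← hqn]; exact pow_pos hq'.pos n
    exact (Nat.mul_pos hp.out.pos hm0).ne'
  refine ⟨Multiplicative F ⋊[act F C] C, inferInstance, hfin, hcard, ?_⟩
  intro hcl
  let c : C := ⟨u, Subgroup.mem_zpowers u⟩
  let y : Multiplicative F ⋊[act F C] C := SemidirectProduct.inr c
  let z : Multiplicative F ⋊[act F C] C := SemidirectProduct.inl (Multiplicative.ofAdd (1 : F))
  have hyo : y ^ p = 1 := by
    show (SemidirectProduct.inr c : Multiplicative F ⋊[act F C] C) ^ p = 1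
    rw [← map_pow]
    have : c ^ p = 1 := by
      apply Subtype.ext
      show u ^ p = 1
      rw [← hu]; exact pow_orderOf_eq_one u
    rw [this, map_one]
  have h1 : IsPGroup p (Subgroup.zpowers y) := by
    obtain ⟨k, hk, hk2⟩ := (Nat.dvd_prime_pow hp.out).1 (show orderOf y ∣ p ^ 1 by rw [pow_one]; exact orderOf_dvd_of_pow_eq_one hyo)
    exact IsPGroup.of_card (n := k) (by rw [Nat.card_zpowers]; exact hk2)
  obtain ⟨P, hP⟩ := h1.exists_le_sylow
  have hPn := hcl P
  have hyP : y ∈ (P : Subgroup _) := hP (Subgroup.mem_zpowers y)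
  have hw : (z * y * z⁻¹) * y⁻¹ ∈ (P : Subgroup _) := mul_mem (hPn.conj_mem y hyP z) (inv_mem hyP)
  have hform : (z * y * z⁻¹) * y⁻¹ = SemidirectProduct.inl (Multiplicative.ofAdd ((1 : F) - (u : F))) := by
    apply SemidirectProduct.ext
    · simp only [SemidirectProduct.mul_left, SemidirectProduct.mul_right, SemidirectProduct.inv_left, SemidirectProduct.inv_right, z, y,
        SemidirectProduct.left_inl, SemidirectProduct.right_inl, SemidirectProduct.left_inr, SemidirectProduct.right_inr]
      apply Multiplicative.toAdd.injective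
      simp [act_apply, c, sub_eq_add_neg]
    · simp only [SemidirectProduct.mul_right, SemidirectProduct.inv_right, z, y, SemidirectProduct.right_inl, SemidirectProduct.right_inr]
      group
  have hwm : ((z * y * z⁻¹) * y⁻¹) ^ m = 1 := by
    rw [hform, ← map_pow]
    have : (Multiplicative.ofAdd ((1 : F) - (u : F))) ^ m = 1 := by
      rw [← hF, ← Nat.card_congr (Multiplicative.toAdd (α := F))]
      exact pow_card_eq_one'
    rw [this, map_one]
  have hwp : ∃ k, ((z * y * z⁻¹) * y⁻¹) ^ p ^ k = 1 := by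
    obtain ⟨k, hk⟩ := P.isPGroup' ⟨_, hw⟩
    exact ⟨k, congrArg Subtype.val hk⟩
  obtain ⟨k, hk⟩ := hwp
  have hcop : Nat.Coprime m (p ^ k) := by
    apply Nat.Coprime.pow_right
    rw [Nat.coprime_comm, Nat.Prime.coprime_iff_not_dvd hp.out]
    intro hd
    rw [Nat.dvd_iff_mod_eq_zero, hm1] at hd
    omega
  have hw1 : (z * y * z⁻¹) * y⁻¹ = 1 := by
    rw [← orderOf_eq_one_iff]
    exact Nat.eq_one_of_dvd_coprimes hcop (orderOf_dvd_of_pow_eq_one hwm) (orderOf_dvd_of_pow_eq_one hk)
  rw [hform] at hw1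
  have h2 : Multiplicative.ofAdd ((1 : F) - (u : F)) = 1 := by
    apply SemidirectProduct.inl_injective (φ := act F C)
    rw [hw1, map_one]
  have h3 : (1 : F) - (u : F) = 0 := h2
  have h4 : u = 1 := by
    apply Units.ext
    rw [Units.val_one]
    linear_combination -h3
  rw [h4, orderOf_one] at hu
  exact hp.out.one_lt.ne hu

theorem psl {p : ℕ} [hp : Fact p.Prime] (hp5 : 5 ≤ p) :
    ∃ (H : Type) (_ : Group H) (_ : Finite H), Nat.card H = p * (p ^ 2 - 1) / 2 ∧ ¬ IsPClosed p H := by
  have hpp := hp.out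
  have hc := CfsgLib.BR11.card_psl_odd (F := ZMod p) (ZMod.card p) hpp (by omega)
  have h5 : (p - 1) * (p + 1) = p ^ 2 - 1 := by
    obtain ⟨r, rfl⟩ : ∃ r, p = r + 1 := ⟨p - 1, by omega⟩
    rw [Nat.add_sub_cancel]
    have : (r + 1) ^ 2 - 1 = r ^ 2 + 2 * r := by
      have : (r + 1) ^ 2 = r ^ 2 + 2 * r + 1 := by ring
      omega
    rw [this]; ring
  have hfin : Finite (Matrix.ProjectiveSpecialLinearGroup (Fin 2) (ZMod p)) := by
    apply Nat.finite_of_card_ne_zero
    intro h0
    rw [h0, mul_zero] at hc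
    have : 0 < p * ((p - 1) * (p + 1)) := Nat.mul_pos (by omega) (Nat.mul_pos (by omega) (by omega))
    omega
  refine ⟨Matrix.ProjectiveSpecialLinearGroup (Fin 2) (ZMod p), inferInstance, hfin, ?_, ?_⟩
  · rw [← h5]; omega
  · intro hcl
    haveI := CfsgLib.Dk29.psl_simple (F := ZMod p) (by rw [ZMod.card]; omega)
    obtain ⟨P⟩ : Nonempty (Sylow p (Matrix.ProjectiveSpecialLinearGroup (Fin 2) (ZMod p))) := inferInstance
    have hpd : p ∣ Nat.card (Matrix.ProjectiveSpecialLinearGroup (Fin 2) (ZMod p)) := by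
      have h1 : Nat.Coprime p 2 := (Nat.coprime_primes hpp Nat.prime_two).2 (by omega)
      apply h1.dvd_of_dvd_mul_left
      rw [hc]; exact dvd_mul_right _ _
    obtain ⟨k, hk⟩ := IsPGroup.iff_card.1 P.2
    have hdP := P.dvd_card_of_dvd_card hpd
    rcases (hcl P).eq_bot_or_eq_top with h1 | h1
    · rw [h1, card_bot] at hdP
      exact hpp.one_lt.ne' (Nat.dvd_one.1 hdP)
    · rw [h1, card_top] at hk
      rw [hk] at hc
      have hp1 : (p - 1) ∣ 2 * p ^ k := by rw [hc]; exact ⟨p * (p + 1), by ring⟩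
      have hcop : Nat.Coprime (p - 1) (p ^ k) := by
        apply Nat.Coprime.pow_right
        have := Nat.coprime_self_add_right (m := 1) (n := p - 1)
        have h2 : (p - 1) + 1 = p := by omega
        rw [← h2]
        simp
      have h3 : (p - 1) ∣ 2 := hcop.dvd_of_dvd_mul_right hp1
      have := Nat.le_of_dvd (by norm_num) h3
      omega

end CfsgLib.H6Le
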