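import Cfsg.Agent.LibH6LiftB
import Cfsg.Agent.LibH6ZasJ

/-! Fixed-point-free representations over all prime fields of coprime characteristic and in
characteristic zero. -/

set_option autoImplicit false
set_option synthInstance.maxSize 2000

namespace CfsgLib.H6Lift

open Subgroup

/-- a fixed-point-free representation over `ZMod q` -/
def Rq (G : Type*) [Group G] (q : ℕ) : Prop :=
  ∃ (d : ℕ) (ρ : G →* GL (Fin d) (ZMod q)), 0 < d ∧
    ∀ g : G, g ≠ 1 → ∀ v : Fin d → ZMod q, (ρ g).1.mulVec v = v → v = 0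

theorem gl_of_end {G K V : Type*} [Group G] [Field K] [AddCommGroup V] [Module K V]
    [FiniteDimensional K V] [Nontrivial V] (ρ : G →* Module.End K V) :
    ∃ (n : ℕ) (e : V ≃ₗ[K] (Fin n → K)) (ρ' : G →* GL (Fin n) K), 0 < n ∧
      ∀ g v, (ρ' g).1.mulVec (e v) = e (ρ g v) := by
  classical
  let b := Module.finBasis K V
  let E : Module.End K V ≃ₐ[K] Matrix (Fin (Module.finrank K V)) (Fin (Module.finrank K V)) K :=
    LinearMap.toMatrixAlgEquiv b
  let ρ1 : G →* Matrix (Fin (Module.finrank K V)) (Fin (Module.finrank K V)) K :=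
    { toFun := fun g => E (ρ g)
      map_one' := by rw [map_one, map_one]
      map_mul' := fun x y => by rw [map_mul, map_mul] }
  refine ⟨Module.finrank K V, b.equivFun, ρ1.toHomUnits, Module.finrank_pos, ?_⟩
  intro g v
  have h2 := LinearMap.toMatrix_mulVec_repr b b (ρ g) v
  rw [Module.Basis.equivFun_apply, Module.Basis.equivFun_apply]
  exact h2

theorem rq_of_mod {G : Type*} [Group G] {W : Type*} [AddCommGroup W] [Finite W] [Nontrivial W] (q : ℕ)
    [hqf : Fact q.Prime] [Module (ZMod q) W] (f : G → W → W) (hadd : ∀ g x y, f g (x + y) = f g x + f g y)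
    (h1 : ∀ x, f 1 x = x) (hmul : ∀ a b x, f (a * b) x = f a (f b x))
    (hf : ∀ g, g ≠ 1 → ∀ w, f g w = w → w = 0) : Rq G q := by
  haveI : FiniteDimensional (ZMod q) W := Module.Finite.of_finite
  have hsm : ∀ g (c : ZMod q) x, f g (c • x) = c • f g x := by
    intro g c x
    let F : W →+ W := AddMonoidHom.mk' (f g) (hadd g)
    exact ZMod.map_smul F c x
  let ρ : G →* Module.End (ZMod q) W :=
    { toFun := fun g => { toFun := f g, map_add' := hadd g, map_smul' := hsm g }
      map_one' := LinearMap.ext fun x => h1 x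
      map_mul' := fun a b => LinearMap.ext fun x => hmul a b x }
  obtain ⟨n, e, ρ', hn, hρ⟩ := gl_of_end ρ
  refine ⟨n, ρ', hn, ?_⟩
  intro g hg v hv
  obtain ⟨w, rfl⟩ := e.surjective v
  rw [hρ] at hv
  have h2 := hf g hg w (e.injective hv)
  rw [h2, map_zero]

theorem fin_quot {R : Type*} [Ring R] [Module.Finite ℤ R] (I : Ideal R) : Module.Finite ℤ (R ⧸ I) :=
  Module.Finite.of_surjective ((Submodule.mkQ I).toAddMonoidHom.toIntLinearMap) (Submodule.mkQ_surjective I)

theorem quot_inj {R : Type*} [Ring R] (I : Ideal R) (hI : ∀ N : ℤ, (N : R) ∈ I → N = 0)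
    (N : ℤ) (hN : N • (Submodule.Quotient.mk (1 : R) : R ⧸ I) = 0) : N = 0 := by
  apply hI
  rw [← Submodule.Quotient.mk_smul, Submodule.Quotient.mk_eq_zero] at hN
  rwa [zsmul_eq_mul, mul_one] at hN

theorem quot_q {R : Type*} [Ring R] [Module.Finite ℤ R] (I : Ideal R)
    (hI : ∀ N : ℤ, (N : R) ∈ I → N = 0) {q : ℕ} (hq : q.Prime) :
    ∃ J' : Ideal R, I ≤ J' ∧ (1 : R) ∉ J' ∧ (∀ w : R ⧸ J', q • w = 0) ∧ Finite (R ⧸ J') := by
  classical
  haveI : Fact q.Prime := ⟨hq⟩
  let J' : Ideal R := I ⊔ Ideal.span {(q : R)}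
  have hJJ : I ≤ J' := le_sup_left
  have hqJ : ∀ x : R, x * (q : R) ∈ J' := fun x =>
    (le_sup_right : _ ≤ J') (Ideal.mul_mem_left _ _ (Ideal.subset_span rfl))
  have h1 : (1 : R) ∉ J' := by
    intro h1
    obtain ⟨j, hj, a, ha, hja⟩ := Submodule.mem_sup.mp h1
    obtain ⟨a, rfl⟩ := Submodule.mem_span_singleton.mp ha
    have hle : (⊤ : Submodule ℤ (R ⧸ I)) ≤ (Ideal.span {(q : ℤ)}) • (⊤ : Submodule ℤ (R ⧸ I)) := by
      intro m _
      obtain ⟨x, rfl⟩ := Submodule.Quotient.mk_surjective _ m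
      have h2 : (Submodule.Quotient.mk x : R ⧸ I) = (q : ℤ) • (Submodule.Quotient.mk (x * a) : R ⧸ I) := by
        rw [← Submodule.Quotient.mk_smul, Submodule.Quotient.eq]
        have h3 : x - (q : ℤ) • (x * a) = x * j := by
          have h4 : x = x * j + x * (a • (q : R)) := by
            rw [← mul_add, hja, mul_one]
          rw [smul_eq_mul, ← mul_assoc] at h4
          nth_rewrite 1 [h4]
          rw [zsmul_eq_mul, Int.cast_natCast, (Nat.cast_commute q (x * a)).eq, add_sub_cancel_right]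
        rw [h3]
        exact I.mul_mem_left _ hj
      rw [h2]
      exact Submodule.smul_mem_smul (Ideal.subset_span rfl) trivial
    haveI := fin_quot I
    obtain ⟨r, hr1, hr⟩ := Submodule.exists_sub_one_mem_and_smul_eq_zero_of_fg_of_le_smul _ _
      (Module.Finite.fg_top (R := ℤ) (M := R ⧸ I)) hle
    have hr0 := quot_inj I hI r (hr _ trivial)
    rw [hr0, zero_sub, Ideal.mem_span_singleton] at hr1
    have h5 : (q : ℤ) ∣ 1 := by simpa using hr1
    have h6 : q ∣ 1 := by exact_mod_cast h5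
    exact hq.one_lt.ne' (Nat.dvd_one.mp h6)
  have hqw : ∀ w : R ⧸ J', q • w = 0 := by
    intro w
    obtain ⟨x, rfl⟩ := Submodule.Quotient.mk_surjective _ w
    rw [← Submodule.Quotient.mk_smul, Submodule.Quotient.mk_eq_zero, nsmul_eq_mul,
      (Nat.cast_commute q x).eq]
    exact hqJ x
  refine ⟨J', hJJ, h1, hqw, ?_⟩
  haveI := fin_quot J'
  apply Module.finite_of_fg_torsion
  intro w
  refine ⟨⟨(q : ℤ), mem_nonZeroDivisors_of_ne_zero (by exact_mod_cast hq.ne_zero)⟩, ?_⟩
  show (q : ℤ) • w = 0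
  rw [natCast_zsmul]
  exact hqw w

section
variable {G : Type*} [Group G] [Finite G]

theorem fin_mz : Module.Finite ℤ (MonoidAlgebra ℤ G) := by
  classical
  haveI := Fintype.ofFinite G
  infer_instance

/-- the norm element acts as multiplication by the order on fixed vectors -/
theorem nrm_smul_fixed (R : Type*) [CommRing R] {W : Type*} [AddCommGroup W] [Module (MonoidAlgebra R G) W]
    {g : G} {w : W} (hw : (MonoidAlgebra.of R G g) • w = w) :
    nrm R (zpowers g) • w = Nat.card (zpowers g) • w := by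
  have hst : ∀ k ∈ zpowers g, (MonoidAlgebra.of R G k) • w = w := by
    let S : Subgroup G :=
      { carrier := {k | (MonoidAlgebra.of R G k) • w = w}
        one_mem' := by show (MonoidAlgebra.of R G 1) • w = w; rw [map_one, one_smul]
        mul_mem' := by
          intro a b ha hb
          show (MonoidAlgebra.of R G (a * b)) • w = w
          rw [map_mul, mul_smul, show (MonoidAlgebra.of R G b) • w = w from hb]
          exact ha
        inv_mem' := by
          intro a ha
          show (MonoidAlgebra.of R G a⁻¹) • w = w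
          nth_rewrite 1 [← show (MonoidAlgebra.of R G a) • w = w from ha]
          rw [← mul_smul, ← map_mul, inv_mul_cancel, map_one, one_smul] }
    have : zpowers g ≤ S := (zpowers_le).mpr hw
    exact fun k hk => this hk
  unfold nrm
  rw [Finset.sum_smul, Finset.sum_congr rfl (fun k hk => hst k (mem_hs.mp hk)), Finset.sum_const, card_hs]

theorem rq_of_nrm {W : Type*} [AddCommGroup W] [Module (MonoidAlgebra ℤ G) W] [Finite W] [Nontrivial W]
    {q : ℕ} (hq : q.Prime) (hqG : ¬ q ∣ Nat.card G) (hqw : ∀ w : W, q • w = 0)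
    (hn : ∀ H : Subgroup G, H ≠ ⊥ → ∀ w : W, nrm ℤ H • w = 0) : Rq G q := by
  haveI : Fact q.Prime := ⟨hq⟩
  letI : Module (ZMod q) W := AddCommGroup.zmodModule hqw
  refine rq_of_mod q (fun g (w : W) => (MonoidAlgebra.of ℤ G g) • w) ?_ ?_ ?_ ?_
  · intro g x y
    exact smul_add (MonoidAlgebra.of ℤ G g) x y
  · intro x
    show (MonoidAlgebra.of ℤ G 1) • x = x
    rw [map_one, one_smul]
  · intro a b x
    show (MonoidAlgebra.of ℤ G (a * b)) • x = _
    rw [map_mul, mul_smul]
  · intro g hg w hw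
    have hn2 := nrm_smul_fixed ℤ (G := G) (W := W) hw
    rw [hn _ (fun h0 => hg (zpowers_eq_bot.mp h0))] at hn2
    have hcop : Nat.Coprime q (Nat.card (zpowers g)) :=
      (Nat.Prime.coprime_iff_not_dvd hq).mpr (fun h => hqG (h.trans (Subgroup.card_subgroup_dvd_card _)))
    have h7 : addOrderOf w ∣ q := addOrderOf_dvd_iff_nsmul_eq_zero.mpr (hqw w)
    have h8 : addOrderOf w ∣ Nat.card (zpowers g) := addOrderOf_dvd_iff_nsmul_eq_zero.mpr hn2.symm
    have h9 : addOrderOf w = 1 := Nat.dvd_one.mp (hcop ▸ Nat.dvd_gcd h7 h8)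
    exact AddMonoid.addOrderOf_eq_one_iff.mp h9

theorem zf_rq (h : Zf G) {q : ℕ} (hq : q.Prime) (hqG : ¬ q ∣ Nat.card G) : Rq G q := by
  classical
  haveI := fin_mz (G := G)
  obtain ⟨J', hJJ, h1, hqw, hfin⟩ := quot_q (J ℤ G) h hq
  haveI : Nontrivial (MonoidAlgebra ℤ G ⧸ J') := Submodule.Quotient.nontrivial_iff.mpr (fun h0 => h1 (h0 ▸ trivial))
  have hn : ∀ H : Subgroup G, H ≠ ⊥ → ∀ w : MonoidAlgebra ℤ G ⧸ J', nrm ℤ H • w = 0 := by
    intro H hH w
    obtain ⟨x, rfl⟩ := Submodule.Quotient.mk_surjective _ w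
    rw [← Submodule.Quotient.mk_smul, Submodule.Quotient.mk_eq_zero]
    exact hJJ (nrm_mul_mem ℤ hH x)
  exact rq_of_nrm hq hqG hqw hn

end

end CfsgLib.H6Lift
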