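import Cfsg.Agent.LibH6LiftC

/-! Fixed-point-free representations in characteristic zero. -/

set_option autoImplicit false
set_option synthInstance.maxSize 2000

namespace CfsgLib.H6Lift

open Subgroup TensorProduct

/-- an irreducible subrepresentation -/
theorem exists_irred {G K V : Type*} [Group G] [Field K] [AddCommGroup V] [Module K V]
    [FiniteDimensional K V] [Nontrivial V] (ρ : G →* Module.End K V)
    (hρ : ∀ g, g ≠ 1 → ∀ v, ρ g v = v → v = 0) :
    ∃ (n : ℕ) (ρ' : G →* GL (Fin n) K), 0 < n ∧ Function.Injective ρ' ∧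
      (∀ W : Submodule K (Fin n → K), (∀ g : G, ∀ w ∈ W, (ρ' g).1.mulVec w ∈ W) → W = ⊥ ∨ W = ⊤) ∧
      ∀ g : G, g ≠ 1 → ∀ v : Fin n → K, (ρ' g).1.mulVec v = v → v = 0 := by
  classical
  let 𝒮 : Set (Submodule K V) := {U | U ≠ ⊥ ∧ ∀ g, ∀ u ∈ U, ρ g u ∈ U}
  have hne : 𝒮.Nonempty := ⟨⊤, ⟨top_ne_bot, fun _ _ _ => trivial⟩⟩
  obtain ⟨U, ⟨hU0, hU⟩, hmin⟩ := WellFounded.has_min (wellFounded_lt (α := Submodule K V)) 𝒮 hne
  haveI : Nontrivial U := Submodule.nontrivial_iff_ne_bot.mpr hU0
  let σ : G →* Module.End K U :=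
    { toFun := fun g => (ρ g).restrict (hU g)
      map_one' := by
        apply LinearMap.ext; intro x; apply Subtype.ext
        show ρ 1 (x : V) = x
        rw [map_one]; rfl
      map_mul' := by
        intro a b
        apply LinearMap.ext; intro x; apply Subtype.ext
        show ρ (a * b) (x : V) = ρ a (ρ b x)
        rw [map_mul]; rfl }
  have hσ : ∀ g (u : U), ((σ g u : U) : V) = ρ g u := fun _ _ => rfl
  obtain ⟨n, e, ρ', hn, hρ'⟩ := gl_of_end σ
  have hfix : ∀ g : G, g ≠ 1 → ∀ v : Fin n → K, (ρ' g).1.mulVec v = v → v = 0 := by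
    intro g hg v hv
    obtain ⟨w, rfl⟩ := e.surjective v
    rw [hρ'] at hv
    have h2 := e.injective hv
    have h3 : ρ g (w : V) = w := by rw [← hσ, h2]
    have h4 := hρ g hg _ h3
    have h5 : w = 0 := Subtype.ext h4
    rw [h5, map_zero]
  refine ⟨n, ρ', hn, ?_, ?_, hfix⟩
  · rw [injective_iff_map_eq_one]
    intro g hg
    by_contra hg1
    have h1 := hfix g hg1 (fun _ => 1) (by rw [hg]; exact Matrix.one_mulVec _)
    have h2 := congrFun h1 ⟨0, hn⟩
    exact one_ne_zero h2
  · intro W hW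
    let U' : Submodule K V := (W.comap e.toLinearMap).map U.subtype
    have hU'le : U' ≤ U := by
      rintro _ ⟨x, _, rfl⟩
      exact x.2
    have hU'inv : ∀ g, ∀ u ∈ U', ρ g u ∈ U' := by
      rintro g _ ⟨x, hx, rfl⟩
      refine ⟨σ g x, ?_, rfl⟩
      show e (σ g x) ∈ W
      rw [← hρ']
      exact hW g _ hx
    by_cases h0 : U' = ⊥
    · left
      rw [eq_bot_iff]
      intro w hw
      obtain ⟨x, rfl⟩ := e.surjective w
      have h1 : (x : V) ∈ U' := ⟨x, hw, rfl⟩
      rw [h0, Submodule.mem_bot] at h1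
      have h2 : x = 0 := Subtype.ext h1
      rw [h2, map_zero]; exact Submodule.zero_mem _
    · right
      have h1 : ¬ U' < U := hmin U' ⟨h0, hU'inv⟩
      have h2 : U' = U := by
        rcases eq_or_lt_of_le hU'le with h | h
        · exact h
        · exact absurd h h1
      rw [eq_top_iff]
      intro w _
      obtain ⟨x, rfl⟩ := e.surjective w
      have h3 : (x : V) ∈ U' := by rw [h2]; exact x.2
      obtain ⟨y, hy, hxy⟩ := h3
      have h4 : y = x := Subtype.ext hxy
      rw [← h4]; exact hy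

section
variable {G : Type*} [Group G] [Finite G]

theorem end_of_nrm {M : Type*} [AddCommGroup M] [Module (MonoidAlgebra ℤ G) M] [Module.Finite ℤ M]
    (m0 : M) (hm0 : ∀ N : ℤ, N • m0 = 0 → N = 0)
    (hn : ∀ H : Subgroup G, H ≠ ⊥ → ∀ w : M, nrm ℤ H • w = 0) (F : Type*) [Field F] [CharZero F] :
    ∃ (_ : Nontrivial (F ⊗[ℤ] M)) (ρ : G →* Module.End F (F ⊗[ℤ] M)), ∀ g, g ≠ 1 → ∀ v, ρ g v = v → v = 0 := by
  classical
  have hnt : Nontrivial (F ⊗[ℤ] M) := by
    let f : ℤ →ₗ[ℤ] M := LinearMap.toSpanSingleton ℤ M m0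
    have hf : Function.Injective f := by
      rw [← LinearMap.ker_eq_bot, LinearMap.ker_eq_bot']
      intro N hN
      exact hm0 N hN
    have h1 := Module.Flat.lTensor_preserves_injective_linearMap (M := F) f hf
    refine ⟨⟨(1 : F) ⊗ₜ[ℤ] m0, 0, ?_⟩⟩
    intro h0
    have h2 : LinearMap.lTensor F f ((1 : F) ⊗ₜ[ℤ] (1 : ℤ)) = 0 := by
      rw [LinearMap.lTensor_tmul]
      have : f 1 = m0 := by
        show (1 : ℤ) • m0 = m0
        rw [one_smul]
      rw [this, h0]
    have h3 : (1 : F) ⊗ₜ[ℤ] (1 : ℤ) = 0 := h1 (by rw [h2, map_zero])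
    have h4 := congrArg (TensorProduct.rid ℤ F) h3
    rw [TensorProduct.rid_tmul, map_zero, one_smul] at h4
    exact one_ne_zero h4
  refine ⟨hnt, ?_⟩
  let T : MonoidAlgebra ℤ G →+* Module.End ℤ M :=
    { toFun := fun x => (Module.toAddMonoidEnd (MonoidAlgebra ℤ G) M x).toIntLinearMap
      map_one' := by
        apply LinearMap.ext; intro m
        show (1 : MonoidAlgebra ℤ G) • m = m
        rw [one_smul]
      map_mul' := by
        intro a b
        apply LinearMap.ext; intro m
        show (a * b) • m = a • b • m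
        rw [mul_smul]
      map_zero' := by
        apply LinearMap.ext; intro m
        show (0 : MonoidAlgebra ℤ G) • m = 0
        rw [zero_smul]
      map_add' := by
        intro a b
        apply LinearMap.ext; intro m
        show (a + b) • m = a • m + b • m
        rw [add_smul] }
  have hT : ∀ x m, T x m = x • m := fun _ _ => rfl
  let Ψ : MonoidAlgebra ℤ G →+* Module.End F (F ⊗[ℤ] M) :=
    ((Module.End.baseChangeHom ℤ F M : Module.End ℤ M →ₐ[ℤ] Module.End F (F ⊗[ℤ] M)) :
      Module.End ℤ M →+* Module.End F (F ⊗[ℤ] M)).comp T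
  let ρ : G →* Module.End F (F ⊗[ℤ] M) :=
    ((Ψ : MonoidAlgebra ℤ G →* Module.End F (F ⊗[ℤ] M))).comp (MonoidAlgebra.of ℤ G)
  refine ⟨ρ, ?_⟩
  intro g hg v hv
  have hΨn : Ψ (nrm ℤ (zpowers g)) = 0 := by
    have h1 : T (nrm ℤ (zpowers g)) = 0 := by
      apply LinearMap.ext; intro m
      rw [hT, hn _ (fun h0 => hg (zpowers_eq_bot.mp h0))]
      rfl
    show (Module.End.baseChangeHom ℤ F M) (T (nrm ℤ (zpowers g))) = 0
    rw [h1, map_zero]
  have hst : ∀ k ∈ zpowers g, ρ k v = v := by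
    let S : Subgroup G :=
      { carrier := {k | ρ k v = v}
        one_mem' := by show ρ 1 v = v; rw [map_one]; rfl
        mul_mem' := by
          intro a b ha hb
          show ρ (a * b) v = v
          rw [map_mul, Module.End.mul_apply, show ρ b v = v from hb]
          exact ha
        inv_mem' := by
          intro a ha
          show ρ a⁻¹ v = v
          nth_rewrite 1 [← show ρ a v = v from ha]
          rw [← Module.End.mul_apply, ← map_mul, inv_mul_cancel, map_one]; rfl }
    have : zpowers g ≤ S := (zpowers_le).mpr hv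
    exact fun k hk => this hk
  have h1 : Ψ (nrm ℤ (zpowers g)) v = (Nat.card (zpowers g)) • v := by
    unfold nrm
    rw [map_sum, LinearMap.sum_apply]
    show ∑ k ∈ hs (zpowers g), ρ k v = _
    rw [Finset.sum_congr rfl (fun k hk => hst k (mem_hs.mp hk)), Finset.sum_const, card_hs]
  rw [hΨn, LinearMap.zero_apply] at h1
  have h2 : ((Nat.card (zpowers g) : ℕ) : F) • v = 0 := by rw [Nat.cast_smul_eq_nsmul]; exact h1.symm
  rcases smul_eq_zero.mp h2 with h3 | h3
  · exact absurd h3 (Nat.cast_ne_zero.mpr Nat.card_pos.ne')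
  · exact h3

theorem char0 (h : Zf G) (F : Type*) [Field F] [CharZero F] :
    ∃ (n : ℕ) (ρ' : G →* GL (Fin n) F), 0 < n ∧ Function.Injective ρ' ∧
      (∀ W : Submodule F (Fin n → F), (∀ g : G, ∀ w ∈ W, (ρ' g).1.mulVec w ∈ W) → W = ⊥ ∨ W = ⊤) ∧
      ∀ g : G, g ≠ 1 → ∀ v : Fin n → F, (ρ' g).1.mulVec v = v → v = 0 := by
  haveI := fin_mz (G := G)
  haveI := fin_quot (J ℤ G)
  have hn : ∀ H : Subgroup G, H ≠ ⊥ → ∀ w : MonoidAlgebra ℤ G ⧸ J ℤ G, nrm ℤ H • w = 0 := by
    intro H hH w
    obtain ⟨x, rfl⟩ := Submodule.Quotient.mk_surjective _ w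
    rw [← Submodule.Quotient.mk_smul, Submodule.Quotient.mk_eq_zero]
    exact nrm_mul_mem ℤ hH x
  obtain ⟨_, ρ, hρ⟩ := end_of_nrm (M := MonoidAlgebra ℤ G ⧸ J ℤ G) _ (quot_inj (J ℤ G) h) hn F
  exact exists_irred ρ hρ

/-- A fixed-point-free action gives a fixed-point-free representation over a prime field. -/
theorem rq_of_action {V : Type*} [Group V] [Finite V] [Nontrivial V]
    (φ : G →* MulAut V) (h : ∀ g, g ≠ 1 → ∀ v, φ g v = v → v = 1) : ∃ q : ℕ, q.Prime ∧ Rq G q := by
  classical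
  have hφinj : Function.Injective φ := by
    rw [injective_iff_map_eq_one]
    intro g hg
    by_contra hne
    obtain ⟨v, hv⟩ := exists_ne (1 : V)
    exact hv (h g hne v (by rw [hg]; rfl))
  by_cases htriv : ∀ g : G, g = 1
  · exact ⟨2, Nat.prime_two, 1, 1, one_pos, fun g hg => absurd (htriv g) hg⟩
  push Not at htriv
  obtain ⟨g, hg⟩ := htriv
  -- `V` is nilpotent
  have hnil : Group.IsNilpotent V := by
    have h1 : orderOf g ≠ 1 := fun h => hg (orderOf_eq_one_iff.mp h)
    obtain ⟨r, hr, hrd⟩ := Nat.exists_prime_and_dvd h1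
    obtain ⟨m, hm⟩ := hrd
    have hm0 : 0 < m := by
      rcases Nat.eq_zero_or_pos m with h0 | h0
      · rw [h0, mul_zero] at hm
        have := orderOf_pos g
        omega
      · exact h0
    have ho : orderOf (g ^ m) = r := by
      rw [orderOf_pow, hm, Nat.gcd_eq_right (Dvd.intro_left r rfl), Nat.mul_div_cancel _ hm0]
    have hgm : g ^ m ≠ 1 := by
      intro h0; rw [h0, orderOf_one] at ho; exact hr.one_lt.ne ho
    exact Cfsg.Agent.S0033.result (φ (g ^ m)) (fun v hv => h _ hgm v hv) r hr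
      (by rw [orderOf_injective φ hφinj, ho])
  have hZ : Subgroup.center V ≠ ⊥ := Group.IsNilpotent.center_ne_bot V
  have hZ1 : Nat.card (Subgroup.center V) ≠ 1 := fun h0 => hZ (Subgroup.card_eq_one.mp h0)
  obtain ⟨q, hq, hqd⟩ := Nat.exists_prime_and_dvd hZ1
  haveI hqf : Fact q.Prime := ⟨hq⟩
  obtain ⟨c, hc⟩ := exists_prime_orderOf_dvd_card' q hqd
  let A : Subgroup V :=
    { carrier := {v | v ∈ Subgroup.center V ∧ v ^ q = 1}
      one_mem' := ⟨one_mem _, one_pow _⟩
      mul_mem' := by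
        rintro a b ⟨ha, ha'⟩ ⟨hb, hb'⟩
        refine ⟨mul_mem ha hb, ?_⟩
        have hcm : Commute a b := (Subgroup.mem_center_iff.mp ha b).symm
        rw [hcm.mul_pow, ha', hb', one_mul]
      inv_mem' := by
        rintro a ⟨ha, ha'⟩
        exact ⟨inv_mem ha, by rw [inv_pow, ha', inv_one]⟩ }
  have hinv : ∀ g : G, ∀ v ∈ A, φ g v ∈ A := by
    rintro g v ⟨hv, hv'⟩
    refine ⟨?_, by rw [← map_pow, hv', map_one]⟩
    rw [Subgroup.mem_center_iff]
    intro x
    obtain ⟨y, rfl⟩ := (φ g).surjective x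
    rw [← map_mul, ← map_mul, Subgroup.mem_center_iff.mp hv y]
  letI : CommGroup A := { (inferInstance : Group A) with
    mul_comm := fun a b => Subtype.ext (Subgroup.mem_center_iff.mp b.2.1 a) }
  haveI : Nontrivial (Additive A) := by
    refine ⟨⟨Additive.ofMul ⟨(c : V), c.2, ?_⟩, 0, ?_⟩⟩
    · have h1 : c ^ q = 1 := by rw [← hc]; exact pow_orderOf_eq_one c
      exact congrArg Subtype.val h1
    · intro h0
      have h1 : (c : V) = 1 := congrArg (fun x : Additive A => ((Additive.toMul x : A) : V)) h0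
      have h2 : c = 1 := Subtype.ext h1
      rw [h2, orderOf_one] at hc
      exact hq.one_lt.ne hc
  haveI : Finite (Additive A) := inferInstanceAs (Finite A)
  have hqw : ∀ x : Additive A, q • x = 0 := by
    intro x
    have h1 : (Additive.toMul x) ^ q = 1 := Subtype.ext (Additive.toMul x).2.2
    exact congrArg Additive.ofMul h1
  letI : Module (ZMod q) (Additive A) := AddCommGroup.zmodModule hqw
  refine ⟨q, hq, rq_of_mod q
    (fun g (x : Additive A) => Additive.ofMul (⟨φ g (Additive.toMul x : A), hinv g _ (Additive.toMul x).2⟩ : A)) ?_ ?_ ?_ ?_⟩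
  · intro g x y
    apply Additive.toMul.injective
    apply Subtype.ext
    show φ g (((Additive.toMul x : A) : V) * (Additive.toMul y : A)) = _
    rw [map_mul]
    rfl
  · intro x
    apply Additive.toMul.injective
    apply Subtype.ext
    show φ 1 (Additive.toMul x : A) = _
    rw [map_one]; rfl
  · intro a b x
    apply Additive.toMul.injective
    apply Subtype.ext
    show φ (a * b) (Additive.toMul x : A) = _
    rw [map_mul]; rfl
  · intro g hg x hx
    have h1 : φ g (Additive.toMul x : A) = ((Additive.toMul x : A) : V) :=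
      congrArg (fun y : Additive A => ((Additive.toMul y : A) : V)) hx
    have h2 := h g hg _ h1
    have h3 : Additive.toMul x = (1 : A) := Subtype.ext h2
    exact congrArg Additive.ofMul h3

theorem rq_of_complement {L : Type*} [Group L] [Finite L] (H : Subgroup L) (hH : Cfsg.IsFrobeniusComplement H) :
    ∃ q : ℕ, q.Prime ∧ Rq H q := by
  obtain ⟨N, hNk, hN, hc⟩ := Cfsg.Agent.S0035.result H hH
  haveI := hN
  have hNbot : N ≠ ⊥ := by
    intro h0
    apply hH.2.1
    rw [eq_top_iff]
    have := hc.sup_eq_top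
    rw [h0, bot_sup_eq] at this
    exact this.ge
  haveI : Nontrivial N := (Subgroup.nontrivial_iff_ne_bot N).mpr hNbot
  refine rq_of_action ((MulAut.conjNormal : L →* MulAut N).comp H.subtype) ?_
  intro g hg v hv
  by_contra hv1
  have h1 : (g : L) * v * (g : L)⁻¹ = v := by
    have := congrArg Subtype.val hv
    simpa [MulAut.conjNormal_apply] using this
  have hg1 : (g : L) ≠ 1 := fun h => hg (Subtype.ext h)
  have h2 : (v : L) * g = g * v := by
    have h3 : (g : L) * v = v * g := by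
      calc (g : L) * v = (g : L) * v * (g : L)⁻¹ * g := by group
        _ = v * g := by rw [h1]
    exact h3.symm
  have h3 := CfsgLib.FrobH13.mem_of_commute hH g.2 hg1 h2
  have h4 := CfsgLib.FrobH13.kernel_inf N hNk v.2 h3
  exact hv1 (Subtype.ext h4)

theorem Rq.of_injective {G G' : Type*} [Group G] [Group G'] {q : ℕ} (h : Rq G q) (f : G' →* G)
    (hf : Function.Injective f) : Rq G' q := by
  obtain ⟨n, ρ, hn, hρ⟩ := h
  refine ⟨n, ρ.comp f, hn, fun g hg v hv => hρ (f g) ?_ v hv⟩
  intro h1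
  exact hg (hf (by rw [h1, map_one]))

theorem rq_of_FC
    (hFC : ∃ (L : Type) (_ : Group L) (_ : Finite L) (H : Subgroup L), Cfsg.IsFrobeniusComplement H ∧ Nonempty (G ≃* H)) :
    ∃ q : ℕ, q.Prime ∧ Rq G q := by
  obtain ⟨L, _, _, H, hH, ⟨e⟩⟩ := hFC
  obtain ⟨q, hq, h⟩ := rq_of_complement H hH
  exact ⟨q, hq, h.of_injective e.toMonoidHom e.injective⟩

theorem zf_of_rq {q : ℕ} (hq : q.Prime) (h : Rq G q) : Zf G := by
  obtain ⟨d, ρ, hd, hfix⟩ := h
  exact zf_of_rep hq hd ρ hfix

theorem Zf.of_injective (h : Zf G) {G' : Type*} [Group G'] [Finite G'] (f : G' →* G)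
    (hf : Function.Injective f) : Zf G' := by
  obtain ⟨q, hq1, hq⟩ := Nat.exists_infinite_primes (Nat.card G + 1)
  have hqG : ¬ q ∣ Nat.card G := fun h => by
    have := Nat.le_of_dvd Nat.card_pos h
    omega
  exact zf_of_rq hq ((zf_rq h hq hqG).of_injective f hf)

end

/-- A group with a fixed-point-free representation is a Frobenius complement. -/
theorem FC_of_rq {G : Type*} [Group G] [Finite G] [Nontrivial G] {q : ℕ} (hq : q.Prime) (h : Rq G q) :
    ∃ (L : Type) (_ : Group L) (_ : Finite L) (H : Subgroup L), Cfsg.IsFrobeniusComplement H ∧ Nonempty (G ≃* H) := by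
  classical
  obtain ⟨G₀, i1, i2, ⟨e⟩⟩ := Finite.exists_type_univ_nonempty_mulEquiv.{_, 0} G
  haveI : Nontrivial G₀ := e.symm.toEquiv.nontrivial
  haveI : Finite G₀ := Finite.of_equiv G e.toEquiv
  obtain ⟨d, ρ, hd, hfix⟩ := h.of_injective e.symm.toMonoidHom e.symm.injective
  haveI : Fact q.Prime := ⟨hq⟩
  haveI : Nonempty (Fin d) := ⟨⟨0, hd⟩⟩
  let N := Multiplicative (Fin d → ZMod q)
  haveI : Nontrivial N := inferInstanceAs (Nontrivial (Fin d → ZMod q))
  let φ : G₀ →* MulAut N :=
    { toFun := fun g =>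
        { toFun := fun v => Multiplicative.ofAdd ((ρ g).1.mulVec v.toAdd)
          invFun := fun v => Multiplicative.ofAdd ((ρ g⁻¹).1.mulVec v.toAdd)
          left_inv := by
            intro v
            show Multiplicative.ofAdd ((ρ g⁻¹).1.mulVec ((ρ g).1.mulVec v.toAdd)) = v
            rw [Matrix.mulVec_mulVec, ← Units.val_mul, ← map_mul, inv_mul_cancel, map_one, Units.val_one,
              Matrix.one_mulVec]
            rfl
          right_inv := by
            intro v
            show Multiplicative.ofAdd ((ρ g).1.mulVec ((ρ g⁻¹).1.mulVec v.toAdd)) = v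
            rw [Matrix.mulVec_mulVec, ← Units.val_mul, ← map_mul, mul_inv_cancel, map_one, Units.val_one,
              Matrix.one_mulVec]
            rfl
          map_mul' := by
            intro u v
            show Multiplicative.ofAdd ((ρ g).1.mulVec (u.toAdd + v.toAdd)) = _
            rw [Matrix.mulVec_add]
            rfl }
      map_one' := by
        apply MulEquiv.ext; intro v
        show Multiplicative.ofAdd ((ρ 1).1.mulVec v.toAdd) = v
        rw [map_one, Units.val_one, Matrix.one_mulVec]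
        rfl
      map_mul' := by
        intro a b
        apply MulEquiv.ext; intro v
        show Multiplicative.ofAdd ((ρ (a * b)).1.mulVec v.toAdd) =
          Multiplicative.ofAdd ((ρ a).1.mulVec ((ρ b).1.mulVec v.toAdd))
        rw [Matrix.mulVec_mulVec, map_mul, Units.val_mul] }
  have hfree : ∀ a : G₀, a ≠ 1 → ∀ v : N, φ a v = v → v = 1 := by
    intro a ha v hv
    have h1 : (ρ a).1.mulVec v.toAdd = v.toAdd := congrArg Multiplicative.toAdd hv
    have h2 := hfix a ha _ h1
    exact congrArg Multiplicative.ofAdd h2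
  haveI : Finite (N ⋊[φ] G₀) := Finite.of_equiv (N × G₀) SemidirectProduct.equivProd.symm
  refine ⟨N ⋊[φ] G₀, inferInstance, inferInstance, _, Cfsg.Agent.S3374.frob φ hfree, ⟨?_⟩⟩
  exact e.trans (MonoidHom.ofInjective SemidirectProduct.inr_injective)

/-- products -/
theorem rq_prod {A B : Type*} [Group A] [Finite A] [Group B] [Finite B] {q : ℕ} (hq : q.Prime)
    (hA : Rq A q) (hB : Rq B q) (hcop : (Nat.card A).Coprime (Nat.card B)) : Rq (A × B) q := by
  classical
  haveI : Fact q.Prime := ⟨hq⟩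
  obtain ⟨m, α, hm, hα⟩ := hA
  obtain ⟨n, β, hn, hβ⟩ := hB
  haveI : Nonempty (Fin m) := ⟨⟨0, hm⟩⟩
  haveI : Nonempty (Fin n) := ⟨⟨0, hn⟩⟩
  let F : A × B → Matrix (Fin m) (Fin n) (ZMod q) → Matrix (Fin m) (Fin n) (ZMod q) :=
    fun g X => (α g.1).1 * X * (β g.2⁻¹).1
  have hF1 : ∀ X, F 1 X = X := by
    intro X
    show (α 1).1 * X * (β 1⁻¹).1 = X
    rw [inv_one, map_one, map_one, Units.val_one, Units.val_one, Matrix.one_mul, Matrix.mul_one]
  have hFm : ∀ a b X, F (a * b) X = F a (F b X) := by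
    intro a b X
    show (α (a.1 * b.1)).1 * X * (β (a.2 * b.2)⁻¹).1 = (α a.1).1 * ((α b.1).1 * X * (β b.2⁻¹).1) * (β a.2⁻¹).1
    rw [mul_inv_rev, map_mul, map_mul, Units.val_mul, Units.val_mul]
    simp only [Matrix.mul_assoc]
  have hcolA : ∀ a : A, a ≠ 1 → ∀ X, F (a, 1) X = X → X = 0 := by
    intro a ha X hX
    have h1 : (α a).1 * X = X := by
      have h2 : (α a).1 * X * (β 1⁻¹).1 = X := hX
      rwa [inv_one, map_one, Units.val_one, Matrix.mul_one] at h2
    ext i j
    have h3 : (α a).1.mulVec (fun k => X k j) = fun k => X k j := by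
      funext k
      have := congrFun (congrFun h1 k) j
      rwa [Matrix.mul_apply] at this
    exact congrFun (hα a ha _ h3) i
  have hrowB : ∀ b : B, b ≠ 1 → ∀ X, F (1, b) X = X → X = 0 := by
    intro b hb X hX
    have h1 : X * (β b⁻¹).1 = X := by
      have h2 : (α 1).1 * X * (β b⁻¹).1 = X := hX
      rwa [map_one, Units.val_one, Matrix.one_mul] at h2
    have hb' : b⁻¹ ≠ 1 := fun h => hb (inv_eq_one.mp h)
    have hdet : ((β b⁻¹).1 - 1).det ≠ 0 := by
      intro h0
      obtain ⟨u, hu0, hu⟩ := Matrix.exists_mulVec_eq_zero_iff.mpr h0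
      rw [Matrix.sub_mulVec, Matrix.one_mulVec, sub_eq_zero] at hu
      exact hu0 (hβ _ hb' u hu)
    have h2 : X * ((β b⁻¹).1 - 1) = 0 := by rw [Matrix.mul_sub, Matrix.mul_one, h1, sub_self]
    have hu : IsUnit ((β b⁻¹).1 - 1).det := hdet.isUnit
    calc X = X * ((β b⁻¹).1 - 1) * ((β b⁻¹).1 - 1)⁻¹ := by
          rw [Matrix.mul_assoc, Matrix.mul_nonsing_inv _ hu, Matrix.mul_one]
      _ = 0 := by rw [h2, Matrix.zero_mul]
  have hpow : ∀ (g : A × B) X, F g X = X → ∀ k : ℕ, F (g ^ k) X = X := by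
    intro g X hX k
    induction k with
    | zero => rw [pow_zero]; exact hF1 X
    | succ k ih => rw [pow_succ, hFm, hX, ih]
  haveI : Nontrivial (Matrix (Fin m) (Fin n) (ZMod q)) :=
    inferInstanceAs (Nontrivial (Fin m → Fin n → ZMod q))
  refine rq_of_mod q F ?_ hF1 hFm ?_
  · intro g X Y
    show (α g.1).1 * (X + Y) * (β g.2⁻¹).1 = _
    rw [Matrix.mul_add, Matrix.add_mul]
  · rintro ⟨a, b⟩ hg X hX
    by_cases ha : a = 1
    · subst ha
      have hb : b ≠ 1 := by rintro rfl; exact hg rfl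
      exact hrowB b hb X hX
    · -- a power of `(a,b)` is `(a,1)`
      obtain ⟨k, hk1, hk2⟩ := Nat.chineseRemainder hcop 1 0
      have hka : a ^ k = a := by
        have h1 : a ^ k = a ^ 1 := by
          rw [pow_eq_pow_iff_modEq]
          exact hk1.of_dvd (orderOf_dvd_natCard a)
        rw [h1, pow_one]
      have hkb : b ^ k = 1 := by
        rw [← orderOf_dvd_iff_pow_eq_one]
        exact (orderOf_dvd_natCard b).trans ((Nat.modEq_zero_iff_dvd).mp hk2)
      have h2 := hpow (a, b) X hX k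
      rw [Prod.pow_mk, hka, hkb] at h2
      exact hcolA a ha X h2

end CfsgLib.H6Lift
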