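import Cfsg.Agent.LibG2B

/-! Products of conjugates in `PSL(2,q)`. -/

set_option autoImplicit false

namespace CfsgLib.H6P2

open Matrix CfsgLib.G2B

universe v

variable {F : Type v} [Field F]

local notation "SL2" => Matrix.SpecialLinearGroup (Fin 2) F
local notation "M2" => Matrix (Fin 2) (Fin 2) F

/-- a nonscalar matrix in `SL₂` is the product of two matrices of trace `t`, if a conic has a point -/
theorem factor2 (A : SL2) (hA : ¬ IsSc (A : M2)) (t a b : F)
    (hab : a ^ 2 - (A : M2).trace * a * b + b ^ 2 - t * a + t * b + 1 = 0) :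
    ∃ B C : SL2, A = B * C ∧ (B : M2).trace = t ∧ (C : M2).trace = t := by
  obtain ⟨P, hP, h1⟩ := exists_cyclic _ hA
  rw [A.2] at h1
  set s := (A : M2).trace with hs
  let B0 : M2 := !![a, b; t + b - a * s, t - a]
  let C0 : M2 := !![t - a, -b; -(t + b - a * s), a] * !![0, -1; 1, s]
  have hB0 : B0.det = 1 := by rw [det_fin_two_of]; linear_combination -hab
  have hC0 : C0.det = 1 := by
    rw [det_mul, det_fin_two_of, det_fin_two_of]; linear_combination -hab
  have hBC : B0 * C0 = !![0, -1; 1, s] := by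
    show B0 * (!![t - a, -b; -(t + b - a * s), a] * !![0, -1; 1, s]) = _
    rw [← mul_assoc]
    have : B0 * !![t - a, -b; -(t + b - a * s), a] = 1 := by
      apply ext2
      · simp [B0, Matrix.mul_apply, Fin.sum_univ_two]; linear_combination -hab
      · simp [B0, Matrix.mul_apply, Fin.sum_univ_two]; ring
      · simp [B0, Matrix.mul_apply, Fin.sum_univ_two]; ring
      · simp [B0, Matrix.mul_apply, Fin.sum_univ_two]; linear_combination -hab
    rw [this, one_mul]
  have htB : B0.trace = t := by rw [trace_fin_two_of]; ring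
  have htC : C0.trace = t := by
    show (!![t - a, -b; -(t + b - a * s), a] * !![0, -1; 1, s] : M2).trace = t
    rw [trace_fin_two]
    simp [Matrix.mul_apply, Fin.sum_univ_two]
  have hinv : P * P⁻¹ = 1 := Matrix.mul_nonsing_inv _ (isUnit_iff_ne_zero.mpr hP)
  have hinv' : P⁻¹ * P = 1 := Matrix.nonsing_inv_mul _ (isUnit_iff_ne_zero.mpr hP)
  have hd : ∀ M : M2, (P * M * P⁻¹).det = M.det := by
    intro M
    have h2 : P.det * P⁻¹.det = 1 := by rw [← det_mul, hinv, det_one]
    rw [det_mul, det_mul]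
    linear_combination M.det * h2
  have ht : ∀ M : M2, (P * M * P⁻¹).trace = M.trace := by
    intro M
    rw [Matrix.trace_mul_comm, ← mul_assoc, hinv', one_mul]
  refine ⟨⟨P * B0 * P⁻¹, by rw [hd, hB0]⟩, ⟨P * C0 * P⁻¹, by rw [hd, hC0]⟩, ?_, ?_, ?_⟩
  · apply Subtype.ext
    show (A : M2) = P * B0 * P⁻¹ * (P * C0 * P⁻¹)
    have h2 : P * B0 * P⁻¹ * (P * C0 * P⁻¹) = P * (B0 * C0) * P⁻¹ := by
      calc P * B0 * P⁻¹ * (P * C0 * P⁻¹) = P * B0 * (P⁻¹ * P) * C0 * P⁻¹ := by simp only [mul_assoc]
        _ = P * (B0 * C0) * P⁻¹ := by rw [hinv', mul_one]; simp only [mul_assoc]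
    rw [h2, hBC, ← h1, mul_assoc, hinv, mul_one]
  · show (P * B0 * P⁻¹).trace = t
    rw [ht, htB]
  · show (P * C0 * P⁻¹).trace = t
    rw [ht, htC]

theorem not_isSc_of_trace {B : SL2} (h : (B : M2).trace ^ 2 ≠ 4) : ¬ IsSc (B : M2) := by
  intro hs
  apply h
  have h1 := isSc_sq hs B.2
  rw [trace_fin_two, ← hs.2.2]
  linear_combination 4 * h1

/-- point on the conic, odd case -/
theorem conic_odd [Fintype F] (hodd : Odd (Fintype.card F)) (s t : F) (hs : s ≠ 2) (ht : t ≠ 0) :
    ∃ a b : F, a ^ 2 - s * a * b + b ^ 2 - t * a + t * b + 1 = 0 := by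
  have h2 : (2 : F) ≠ 0 := by
    intro h
    have : Even (Fintype.card F) := by
      have hc : CharP F 2 := (CharP.charP_iff_prime_eq_zero Nat.prime_two).mpr (by exact_mod_cast h)
      rw [Nat.even_iff]
      exact FiniteField.even_card_of_char_two (ringChar.eq F 2)
    exact (Nat.not_even_iff_odd.mpr hodd) this
  have hs2 : s - 2 ≠ 0 := sub_ne_zero.mpr hs
  -- it suffices to solve `(s+2) w² - 4 t w + 4 = (s-2) z²`
  suffices h : ∃ w z : F, (s + 2) * w ^ 2 - 4 * t * w + 4 = (s - 2) * z ^ 2 by
    obtain ⟨w, z, hwz⟩ := h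
    refine ⟨(w + z) / 2, -((w - z) / 2), ?_⟩
    field_simp
    linear_combination hwz
  by_cases hs' : s + 2 = 0
  · refine ⟨1 / t, 0, ?_⟩
    rw [hs']
    field_simp
    ring
  · obtain ⟨x, y, hxy⟩ := FiniteField.exists_root_sum_quadratic (R := F)
      (f := Polynomial.C (s + 2) * Polynomial.X ^ 2 + Polynomial.C (-4 * t) * Polynomial.X + Polynomial.C 4)
      (g := Polynomial.C (-(s - 2)) * Polynomial.X ^ 2)
      (Polynomial.degree_quadratic hs') (by
        rw [Polynomial.degree_mul, Polynomial.degree_C (neg_ne_zero.mpr hs2), Polynomial.degree_X_pow, zero_add]; rfl)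
      (Nat.odd_iff.mp hodd)
    simp only [Polynomial.eval_add, Polynomial.eval_pow, Polynomial.eval_X, Polynomial.eval_C, Polynomial.eval_mul] at hxy
    exact ⟨x, y, by linear_combination hxy⟩

theorem ch2 (X : SL2) : (X : M2) * (X : M2) = (X : M2).trace • (X : M2) - 1 := by
  have h := X.2
  rw [det_fin_two] at h
  apply ext2
  · simp [Matrix.mul_apply, Fin.sum_univ_two, trace_fin_two]; linear_combination -h
  · simp [Matrix.mul_apply, Fin.sum_univ_two, trace_fin_two]; ring
  · simp [Matrix.mul_apply, Fin.sum_univ_two, trace_fin_two]; ring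
  · simp [Matrix.mul_apply, Fin.sum_univ_two, trace_fin_two]; linear_combination -h

theorem mem_center_of_isSc {A : SL2} (h : IsSc (A : M2)) : A ∈ Subgroup.center SL2 := by
  rw [Subgroup.mem_center_iff]
  intro B
  apply Subtype.ext
  show (B : M2) * (A : M2) = (A : M2) * (B : M2)
  rw [h.eq, Matrix.mul_smul, Matrix.smul_mul, mul_one, one_mul]

theorem neg_mk (A : SL2) : (QuotientGroup.mk (-A) : Matrix.ProjectiveSpecialLinearGroup (Fin 2) F) = QuotientGroup.mk A := by
  rw [QuotientGroup.eq]
  have h : (-A)⁻¹ * A = -1 := by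
    rw [inv_mul_eq_iff_eq_mul, neg_mul_neg, mul_one]
  rw [h]
  apply mem_center_of_isSc
  exact ⟨by simp, by simp, by simp⟩

/-- odd case -/
theorem odd_cover [Fintype F] (p : ℕ) [Fact p.Prime] [CharP F p] (hp : p ≠ 2)
    (x : Matrix.ProjectiveSpecialLinearGroup (Fin 2) F) (hx2 : 2 < orderOf x) (hxp : ¬ p ∣ orderOf x) :
    ∀ g : Matrix.ProjectiveSpecialLinearGroup (Fin 2) F, g ≠ 1 →
      ∃ u v : Matrix.ProjectiveSpecialLinearGroup (Fin 2) F, g = (u * x * u⁻¹) * (v * x * v⁻¹) := by
  classical
  have hpp : p.Prime := Fact.out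
  have hodd : Odd (Fintype.card F) := by
    obtain ⟨k, hk⟩ := FiniteField.card F p
    rw [hk.2]
    exact (hpp.odd_of_ne_two hp).pow
  obtain ⟨X, rfl⟩ := QuotientGroup.mk_surjective x
  have hXsc : ¬ IsSc (X : M2) := by
    intro h
    have : (QuotientGroup.mk X : Matrix.ProjectiveSpecialLinearGroup (Fin 2) F) = 1 :=
      (QuotientGroup.eq_one_iff X).mpr (mem_center_of_isSc h)
    rw [this, orderOf_one] at hx2
    omega
  set t := (X : M2).trace with ht
  have ht0 : t ≠ 0 := by
    intro h0
    have h1 := ch2 X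
    rw [← ht, h0, zero_smul, zero_sub] at h1
    have h2 : X * X = -1 := Subtype.ext h1
    have h3 : (QuotientGroup.mk X : Matrix.ProjectiveSpecialLinearGroup (Fin 2) F) ^ 2 = 1 := by
      rw [pow_two, ← QuotientGroup.mk_mul, h2, neg_mk]
      rfl
    have h4 := Nat.le_of_dvd (by norm_num) (orderOf_dvd_of_pow_eq_one h3)
    omega
  have ht4 : t ^ 2 ≠ 4 := by
    intro h4
    -- then `±X` is unipotent
    have key : ∀ Y : SL2, (Y : M2).trace = 2 → Y ^ p = 1 := by
      intro Y hY
      have h1 := ch2 Y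
      rw [hY] at h1
      have h2 : ((Y : M2) - 1) ^ 2 = 0 := by
        have h3 : (2 : F) • (Y : M2) = (Y : M2) + Y := two_smul F _
        rw [h3] at h1
        rw [pow_two, sub_mul, mul_sub, h1, one_mul, mul_one]
        abel
      have h3 : ((Y : M2) - 1) ^ p = 0 := by
        have h5 : p = 2 + (p - 2) := by have := hpp.two_le; omega
        rw [h5, pow_add, h2, zero_mul]
      rw [sub_pow_char_of_commute (Commute.one_right (Y : M2)) (p := p), one_pow, sub_eq_zero] at h3
      apply Subtype.ext
      rw [Matrix.SpecialLinearGroup.coe_pow, Matrix.SpecialLinearGroup.coe_one]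
      exact h3
    have hpow : (QuotientGroup.mk X : Matrix.ProjectiveSpecialLinearGroup (Fin 2) F) ^ p = 1 := by
      have h5 : (t - 2) * (t + 2) = 0 := by linear_combination h4
      rcases mul_eq_zero.mp h5 with h6 | h6
      · rw [← QuotientGroup.mk_pow, key X (by rw [← ht]; linear_combination h6)]; rfl
      · rw [← neg_mk, ← QuotientGroup.mk_pow, key (-X) ?_]
        · rfl
        · rw [Matrix.SpecialLinearGroup.coe_neg, trace_neg, ← ht]; linear_combination -h6
    have h6 := orderOf_dvd_of_pow_eq_one hpow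
    rcases (Nat.dvd_prime hpp).mp h6 with h7 | h7
    · rw [h7] at hx2; omega
    · exact hxp (by rw [h7])
  intro g hg
  -- choose a lift of trace different from two
  obtain ⟨A, hAg, hA2⟩ : ∃ A : SL2, QuotientGroup.mk A = g ∧ (A : M2).trace ≠ 2 := by
    obtain ⟨A, rfl⟩ := QuotientGroup.mk_surjective g
    by_cases h : (A : M2).trace = 2
    · refine ⟨-A, neg_mk A, ?_⟩
      rw [Matrix.SpecialLinearGroup.coe_neg, trace_neg, h]
      intro h4
      have h5 : (4 : F) = 0 := by linear_combination -h4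
      have h6 : ((2 * 2 : ℕ) : F) = 0 := by push_cast; linear_combination h5
      rw [CharP.cast_eq_zero_iff F p] at h6
      rcases hpp.dvd_mul.mp h6 with h7 | h7 <;>
        exact hp ((Nat.prime_dvd_prime_iff_eq hpp Nat.prime_two).mp h7)
    · exact ⟨A, rfl, h⟩
  have hAsc : ¬ IsSc (A : M2) := by
    intro h
    exact hg (by rw [← hAg]; exact (QuotientGroup.eq_one_iff A).mpr (mem_center_of_isSc h))
  obtain ⟨a, b, hab⟩ := conic_odd hodd (A : M2).trace t hA2 ht0
  obtain ⟨B, C, hBC, hB, hC⟩ := factor2 A hAsc t a b hab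
  have hform : ∀ δ : F, δ ≠ 0 → ∃ a b : F, a ^ 2 + (X : M2).trace * a * b + b ^ 2 = δ := fun δ _ =>
    form_odd hodd _ δ ht4
  have c1 : IsConj X B := sl_conj hXsc (not_isSc_of_trace (by rw [hB]; exact ht4)) (by rw [hB]) hform
  have c2 : IsConj X C := sl_conj hXsc (not_isSc_of_trace (by rw [hC]; exact ht4)) (by rw [hC]) hform
  obtain ⟨U, hU⟩ := isConj_iff.mp c1
  obtain ⟨V, hV⟩ := isConj_iff.mp c2
  refine ⟨QuotientGroup.mk U, QuotientGroup.mk V, ?_⟩
  rw [← hAg, hBC, ← hU, ← hV]
  rfl

/-- an element without eigenvalues has order dividing `q + 1` -/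
theorem pow_card_succ [Fintype F] (X : SL2) (h : ∀ l : F, l ^ 2 - (X : M2).trace * l + 1 ≠ 0) :
    X ^ (Fintype.card F + 1) = 1 := by
  classical
  set t := (X : M2).trace with ht
  let f : Polynomial F := Polynomial.X ^ 2 - Polynomial.C t * Polynomial.X + 1
  have hfdeg : f.natDegree = 2 := by
    have : f = Polynomial.C 1 * Polynomial.X ^ 2 + Polynomial.C (-t) * Polynomial.X + Polynomial.C 1 := by
      simp [f]; ring
    rw [this]
    exact Polynomial.natDegree_quadratic one_ne_zero
  have hfm : f.Monic := by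
    have : f = Polynomial.C 1 * Polynomial.X ^ 2 + Polynomial.C (-t) * Polynomial.X + Polynomial.C 1 := by
      simp [f]; ring
    rw [Polynomial.Monic, this]
    exact Polynomial.leadingCoeff_quadratic one_ne_zero
  have hirr : Irreducible f := by
    rw [Polynomial.Monic.irreducible_iff_roots_eq_zero_of_degree_le_three hfm (by omega) (by omega)]
    rw [Multiset.eq_zero_iff_forall_notMem]
    intro l hl
    rw [Polynomial.mem_roots hfm.ne_zero, Polynomial.IsRoot] at hl
    apply h l
    simpa [f] using hl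
  haveI : Fact (Irreducible f) := ⟨hirr⟩
  let K := AdjoinRoot f
  let α : K := AdjoinRoot.root f
  obtain ⟨p, hpc⟩ := CharP.exists F
  haveI := hpc
  haveI hp : Fact p.Prime := ⟨CharP.char_is_prime F p⟩
  obtain ⟨k, hk⟩ := FiniteField.card F p
  haveI : CharP K p := charP_of_injective_algebraMap (algebraMap F K).injective p
  have hα : α ^ 2 - algebraMap F K t * α + 1 = 0 := by
    have h1 := AdjoinRoot.eval₂_root f
    simp only [f, Polynomial.eval₂_sub, Polynomial.eval₂_add, Polynomial.eval₂_pow, Polynomial.eval₂_X,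
      Polynomial.eval₂_mul, Polynomial.eval₂_C, Polynomial.eval₂_one] at h1
    exact h1
  set q := Fintype.card F with hq
  have hqt : ∀ c : F, (algebraMap F K c) ^ q = algebraMap F K c := by
    intro c; rw [← map_pow, FiniteField.pow_card]
  have hαq : (α ^ q) ^ 2 - algebraMap F K t * α ^ q + 1 = 0 := by
    have h1 : (α ^ 2 - algebraMap F K t * α + 1) ^ q = 0 := by
      rw [hα, zero_pow]; rw [hk.2]; exact pow_ne_zero _ hp.out.ne_zero
    rw [hk.2, add_pow_char_pow, sub_pow_char_pow, ← hk.2, one_pow, mul_pow, hqt, ← pow_mul, mul_comm 2, pow_mul] at h1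
    exact h1
  have hα0 : α ≠ 0 := by
    intro h0
    rw [h0] at hα
    simp at hα
  have hcase : α ^ q = α ∨ α ^ q * α = 1 := by
    have h1 : (α ^ q - α) * (α ^ q * α - 1) = 0 := by
      have h2 : algebraMap F K t * α = α ^ 2 + 1 := by linear_combination -hα
      have h3 : algebraMap F K t * α ^ q = (α ^ q) ^ 2 + 1 := by linear_combination -hαq
      have h4 : (α ^ 2 + 1) * α ^ q = ((α ^ q) ^ 2 + 1) * α := by
        rw [← h2, ← h3]; ring
      linear_combination -h4
    rcases mul_eq_zero.mp h1 with h2 | h2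
    · left; exact sub_eq_zero.mp h2
    · right; exact sub_eq_zero.mp h2
  have hα1 : α ^ (q + 1) = 1 := by
    rcases hcase with h1 | h1
    · exfalso
      -- `α ∈ F`
      have h2 : ∃ c : F, algebraMap F K c = α := by
        have hroots : ∀ y : K, y ^ q = y → y ∈ Set.range (algebraMap F K) := by
          intro y hy
          by_contra hcon
          have hX : (Polynomial.X ^ q - Polynomial.X : Polynomial K) ≠ 0 := FiniteField.X_pow_card_sub_X_ne_zero K Fintype.one_lt_card
          have h3 : (insert y ((Finset.univ : Finset F).image (algebraMap F K))) ⊆ (Polynomial.X ^ q - Polynomial.X : Polynomial K).roots.toFinset := by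
            intro z hz
            rw [Multiset.mem_toFinset, Polynomial.mem_roots hX, Polynomial.IsRoot]
            rcases Finset.mem_insert.mp hz with rfl | hz
            · simp [hy]
            · obtain ⟨c, _, rfl⟩ := Finset.mem_image.mp hz
              simp [hqt]
          have h4 := Finset.card_le_card h3
          rw [Finset.card_insert_of_notMem (by
            intro hy'
            obtain ⟨c, _, hc⟩ := Finset.mem_image.mp hy'
            exact hcon ⟨c, hc⟩), Finset.card_image_of_injective _ (algebraMap F K).injective, Finset.card_univ] at h4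
          have h5 := Multiset.toFinset_card_le (Polynomial.X ^ q - Polynomial.X : Polynomial K).roots
          have h6 := Polynomial.card_roots' (Polynomial.X ^ q - Polynomial.X : Polynomial K)
          rw [FiniteField.X_pow_card_sub_X_natDegree_eq K Fintype.one_lt_card] at h6
          omega
        exact hroots α h1
      obtain ⟨c, hc⟩ := h2
      apply h c
      apply (algebraMap F K).injective
      rw [map_zero, map_add, map_sub, map_pow, map_mul, map_one, hc]
      exact hα
    · rw [pow_succ]; exact h1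
  -- transfer
  have hdvd : f ∣ Polynomial.X ^ (q + 1) - 1 := by
    rw [← AdjoinRoot.mk_eq_zero, map_sub, map_pow, AdjoinRoot.mk_X, map_one, sub_eq_zero]
    exact hα1
  obtain ⟨g, hg⟩ := hdvd
  have h1 : Polynomial.aeval (X : M2) f = 0 := by
    simp only [f, map_add, map_sub, map_pow, map_mul, Polynomial.aeval_X, Polynomial.aeval_C, map_one]
    rw [pow_two, ch2 X, ← ht, Algebra.algebraMap_eq_smul_one, Matrix.smul_mul, one_mul]
    abel
  have h2 := congrArg (Polynomial.aeval (X : M2)) hg
  rw [map_mul, h1, zero_mul, map_sub, map_pow, Polynomial.aeval_X, map_one, sub_eq_zero] at h2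
  apply Subtype.ext
  rw [Matrix.SpecialLinearGroup.coe_pow, Matrix.SpecialLinearGroup.coe_one]
  exact h2

theorem even_cover [Fintype F] [CharP F 2]
    (x : Matrix.ProjectiveSpecialLinearGroup (Fin 2) F) (hx2 : 2 < orderOf x) (hxq : ¬ orderOf x ∣ Fintype.card F + 1) :
    ∀ g : Matrix.ProjectiveSpecialLinearGroup (Fin 2) F, g ≠ 1 →
      ∃ u v : Matrix.ProjectiveSpecialLinearGroup (Fin 2) F, g = (u * x * u⁻¹) * (v * x * v⁻¹) := by
  classical
  obtain ⟨X, rfl⟩ := QuotientGroup.mk_surjective x
  have hXsc : ¬ IsSc (X : M2) := by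
    intro h
    have : (QuotientGroup.mk X : Matrix.ProjectiveSpecialLinearGroup (Fin 2) F) = 1 :=
      (QuotientGroup.eq_one_iff X).mpr (mem_center_of_isSc h)
    rw [this, orderOf_one] at hx2
    omega
  set t := (X : M2).trace with ht
  have ht0 : t ≠ 0 := by
    intro h0
    have h1 := ch2 X
    rw [← ht, h0, zero_smul, zero_sub] at h1
    have h2 : X * X = -1 := Subtype.ext h1
    have h3 : (QuotientGroup.mk X : Matrix.ProjectiveSpecialLinearGroup (Fin 2) F) ^ 2 = 1 := by
      rw [pow_two, ← QuotientGroup.mk_mul, h2, neg_mk]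
      rfl
    have h4 := Nat.le_of_dvd (by norm_num) (orderOf_dvd_of_pow_eq_one h3)
    omega
  have hc2 : (2 : F) = 0 := by
    have := CharP.cast_eq_zero F 2
    exact_mod_cast this
  have ht4 : t ^ 2 ≠ 4 := by
    intro h4
    apply ht0
    have h5 : t ^ 2 = 0 := by rw [h4]; linear_combination 2 * hc2
    exact pow_eq_zero_iff (two_ne_zero) |>.mp h5
  obtain ⟨l, hl⟩ : ∃ l : F, l ^ 2 - t * l + 1 = 0 := by
    by_contra hcon
    push Not at hcon
    apply hxq
    apply orderOf_dvd_of_pow_eq_one
    rw [← QuotientGroup.mk_pow, pow_card_succ X hcon]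
    rfl
  intro g hg
  obtain ⟨A, rfl⟩ := QuotientGroup.mk_surjective g
  have hAsc : ¬ IsSc (A : M2) := by
    intro h
    exact hg ((QuotientGroup.eq_one_iff A).mpr (mem_center_of_isSc h))
  obtain ⟨B, C, hBC, hB, hC⟩ := factor2 A hAsc t l 0 (by linear_combination hl)
  have hform : ∀ δ : F, δ ≠ 0 → ∃ a b : F, a ^ 2 + (X : M2).trace * a * b + b ^ 2 = δ := fun δ _ =>
    form_char_two _ δ
  have c1 : IsConj X B := sl_conj hXsc (not_isSc_of_trace (by rw [hB]; exact ht4)) (by rw [hB]) hform
  have c2 : IsConj X C := sl_conj hXsc (not_isSc_of_trace (by rw [hC]; exact ht4)) (by rw [hC]) hform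
  obtain ⟨U, hU⟩ := isConj_iff.mp c1
  obtain ⟨V, hV⟩ := isConj_iff.mp c2
  refine ⟨QuotientGroup.mk U, QuotientGroup.mk V, ?_⟩
  rw [hBC, ← hU, ← hV]
  rfl

end CfsgLib.H6P2
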