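import Cfsg.Agent.LibH6P2A

/-! The Arad–Herzog conjecture for `PSL(2,q)`. -/

set_option autoImplicit false

namespace CfsgLib.H6P2

open Matrix CfsgLib.G2B

universe v

variable {F : Type v} [Field F]

local notation "SL2" => Matrix.SpecialLinearGroup (Fin 2) F
local notation "M2" => Matrix (Fin 2) (Fin 2) F

theorem inv_coe (A : SL2) : ((A⁻¹ : SL2) : M2) = !![A.1 1 1, -A.1 0 1; -A.1 1 0, A.1 0 0] := by
  rw [Matrix.SpecialLinearGroup.coe_inv, adjugate_fin_two]

theorem det_up (x : F) : (!![1, x; 0, 1] : M2).det = 1 := by rw [det_fin_two_of]; ring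

theorem det_lo (x : F) : (!![1, 0; x, 1] : M2).det = 1 := by rw [det_fin_two_of]; ring

theorem det_w : (!![0, 1; -1, 0] : M2).det = 1 := by rw [det_fin_two_of]; ring

theorem conj_lo (A : SL2) : (mkSL _ (det_lo (1 : F)) * A * (mkSL _ (det_lo (1 : F)))⁻¹).1 1 0 =
    A.1 0 0 + A.1 1 0 - (A.1 0 1 + A.1 1 1) := by
  rw [Matrix.SpecialLinearGroup.coe_mul, Matrix.SpecialLinearGroup.coe_mul, inv_coe]
  simp only [Matrix.mul_apply, Fin.sum_univ_two, mkSL]
  simp
  ring

theorem conj_w (A : SL2) : (mkSL _ (det_w (F := F)) * A * (mkSL _ (det_w (F := F)))⁻¹).1 1 0 = - A.1 0 1 := by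
  rw [Matrix.SpecialLinearGroup.coe_mul, Matrix.SpecialLinearGroup.coe_mul, inv_coe]
  simp only [Matrix.mul_apply, Fin.sum_univ_two, mkSL]
  simp

theorem prod_trace (A B : SL2) (x : F) :
    ((A * (mkSL _ (det_up x) * B * (mkSL _ (det_up x))⁻¹) : SL2) : M2).trace =
      -(A.1 1 0 * B.1 1 0) * x ^ 2 + ((A.1 0 0 - A.1 1 1) * B.1 1 0 + A.1 1 0 * (B.1 1 1 - B.1 0 0)) * x +
      (A.1 0 0 * B.1 0 0 + A.1 0 1 * B.1 1 0 + A.1 1 0 * B.1 0 1 + A.1 1 1 * B.1 1 1) := by
  rw [Matrix.SpecialLinearGroup.coe_mul, Matrix.SpecialLinearGroup.coe_mul, Matrix.SpecialLinearGroup.coe_mul, inv_coe,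
    trace_fin_two]
  simp only [Matrix.mul_apply, Fin.sum_univ_two, mkSL]
  simp
  ring

theorem low (A : SL2) (hA : ¬ IsSc (A : M2)) : ∃ P : SL2, (P * A * P⁻¹).1 1 0 ≠ 0 := by
  by_cases h10 : A.1 1 0 = 0
  · by_cases h01 : A.1 0 1 = 0
    · refine ⟨mkSL _ (det_lo 1), ?_⟩
      have hne : A.1 0 0 ≠ A.1 1 1 := fun h => hA ⟨h01, h10, h⟩
      rw [conj_lo, h10, h01, add_zero, zero_add]
      exact sub_ne_zero.mpr hne
    · refine ⟨mkSL _ det_w, ?_⟩
      rw [conj_w]
      exact neg_ne_zero.mpr h01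
  · refine ⟨1, ?_⟩
    rw [one_mul, inv_one, mul_one]
    exact h10

theorem quad_card [Fintype F] [DecidableEq F] (a b c : F) (ha : a ≠ 0) :
    (Finset.univ.filter (fun x : F => a * x ^ 2 + b * x + c = 0)).card ≤ 2 := by
  have hne : (Polynomial.C a * Polynomial.X ^ 2 + Polynomial.C b * Polynomial.X + Polynomial.C c : Polynomial F) ≠ 0 := by
    intro h
    have := Polynomial.degree_quadratic (b := b) (c := c) ha
    rw [h, Polynomial.degree_zero] at this
    exact absurd this (by decide)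
  have h1 : (Finset.univ.filter (fun x : F => a * x ^ 2 + b * x + c = 0)) ⊆
      (Polynomial.C a * Polynomial.X ^ 2 + Polynomial.C b * Polynomial.X + Polynomial.C c : Polynomial F).roots.toFinset := by
    intro x hx
    rw [Multiset.mem_toFinset, Polynomial.mem_roots hne, Polynomial.IsRoot]
    simpa using (Finset.mem_filter.mp hx).2
  have h2 := Finset.card_le_card h1
  have h3 := Multiset.toFinset_card_le (Polynomial.C a * Polynomial.X ^ 2 + Polynomial.C b * Polynomial.X + Polynomial.C c : Polynomial F).roots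
  have h4 := Polynomial.card_roots' (Polynomial.C a * Polynomial.X ^ 2 + Polynomial.C b * Polynomial.X + Polynomial.C c : Polynomial F)
  rw [Polynomial.natDegree_quadratic ha] at h4
  omega

theorem center_sc {z : SL2} (hz : z ∈ Subgroup.center SL2) : z = 1 ∨ z = -1 := by
  rw [Subgroup.mem_center_iff] at hz
  have h1 := hz (mkSL _ (det_up 1))
  have h2 := hz (mkSL _ (det_lo 1))
  have h1' := congrArg Subtype.val h1
  have h2' := congrArg Subtype.val h2
  rw [Matrix.SpecialLinearGroup.coe_mul, Matrix.SpecialLinearGroup.coe_mul] at h1' h2'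
  have a1 := congrFun (congrFun h1' 0) 0
  have a2 := congrFun (congrFun h1' 0) 1
  have a3 := congrFun (congrFun h2' 0) 0
  simp [mkSL, Matrix.mul_apply, Fin.sum_univ_two] at a1 a2 a3
  have hd := z.2
  rw [det_fin_two] at hd
  have e1 : z.1 1 0 = 0 := a1
  have e2 : z.1 0 1 = 0 := a3
  have e3 : z.1 1 1 = z.1 0 0 := by
    rw [e2] at a2; linear_combination a2
  rw [e1, e2, e3] at hd
  have h5 : (z.1 0 0 - 1) * (z.1 0 0 + 1) = 0 := by linear_combination hd
  rcases mul_eq_zero.mp h5 with h6 | h6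
  · left
    apply Subtype.ext
    apply ext2
    · rw [sub_eq_zero.mp h6]; simp
    · rw [e2]; simp
    · rw [e1]; simp
    · rw [e3, sub_eq_zero.mp h6]; simp
  · right
    apply Subtype.ext
    rw [Matrix.SpecialLinearGroup.coe_neg, Matrix.SpecialLinearGroup.coe_one]
    apply ext2
    · rw [eq_neg_of_add_eq_zero_left h6]; simp
    · rw [e2]; simp
    · rw [e1]; simp
    · rw [e3, eq_neg_of_add_eq_zero_left h6]; simp

theorem arad_herzog [Fintype F] (h4 : 4 ≤ Fintype.card F)
    (a b : Matrix.ProjectiveSpecialLinearGroup (Fin 2) F) (ha : a ≠ 1) (hb : b ≠ 1)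
    (c : Matrix.ProjectiveSpecialLinearGroup (Fin 2) F) :
    {g : Matrix.ProjectiveSpecialLinearGroup (Fin 2) F | ∃ u v : Matrix.ProjectiveSpecialLinearGroup (Fin 2) F,
      g = (u * a * u⁻¹) * (v * b * v⁻¹)} ≠ {g | IsConj c g} := by
  classical
  intro heq
  obtain ⟨A, rfl⟩ := QuotientGroup.mk_surjective a
  obtain ⟨B, rfl⟩ := QuotientGroup.mk_surjective b
  obtain ⟨C, rfl⟩ := QuotientGroup.mk_surjective c
  have hA : ¬ IsSc (A : M2) := fun h => ha ((QuotientGroup.eq_one_iff A).mpr (mem_center_of_isSc h))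
  have hB : ¬ IsSc (B : M2) := fun h => hb ((QuotientGroup.eq_one_iff B).mpr (mem_center_of_isSc h))
  obtain ⟨P, hP⟩ := low A hA
  obtain ⟨Q, hQ⟩ := low B hB
  set A' := P * A * P⁻¹ with hA'
  set B' := Q * B * Q⁻¹ with hB'
  set s := (C : M2).trace with hs
  have htr : ∀ U : SL2, (((A' * (U * B' * U⁻¹) : SL2)) : M2).trace = s ∨ ((A' * (U * B' * U⁻¹) : SL2) : M2).trace = -s := by
    intro U
    have h1 : (QuotientGroup.mk (A' * (U * B' * U⁻¹)) : Matrix.ProjectiveSpecialLinearGroup (Fin 2) F) ∈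
        {g : Matrix.ProjectiveSpecialLinearGroup (Fin 2) F | ∃ u v : Matrix.ProjectiveSpecialLinearGroup (Fin 2) F,
          g = (u * QuotientGroup.mk A * u⁻¹) * (v * QuotientGroup.mk B * v⁻¹)} := by
      refine ⟨QuotientGroup.mk P, QuotientGroup.mk (U * Q), ?_⟩
      have h2 : A' * (U * B' * U⁻¹) = (P * A * P⁻¹) * ((U * Q) * B * (U * Q)⁻¹) := by
        rw [hA', hB']; group
      rw [h2]; rfl
    rw [heq] at h1
    obtain ⟨w, hw⟩ := isConj_iff.mp h1
    obtain ⟨W, rfl⟩ := QuotientGroup.mk_surjective w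
    have h2 : (QuotientGroup.mk (W * C * W⁻¹) : Matrix.ProjectiveSpecialLinearGroup (Fin 2) F) =
        QuotientGroup.mk (A' * (U * B' * U⁻¹)) := by rw [← hw]; rfl
    rw [QuotientGroup.eq] at h2
    have h3 : ((W * C * W⁻¹ : SL2) : M2).trace = s := by
      rw [Matrix.SpecialLinearGroup.coe_mul, Matrix.SpecialLinearGroup.coe_mul, Matrix.trace_mul_comm, ← mul_assoc,
        ← Matrix.SpecialLinearGroup.coe_mul, inv_mul_cancel, Matrix.SpecialLinearGroup.coe_one, one_mul]
    rcases center_sc h2 with h5 | h5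
    · left
      rw [inv_mul_eq_one] at h5
      rw [← h5, h3]
    · right
      rw [inv_mul_eq_iff_eq_mul] at h5
      rw [h5, mul_neg, mul_one, Matrix.SpecialLinearGroup.coe_neg, trace_neg, h3]
  -- the quadratic polynomial
  set α := A'.1 0 0
  set β := A'.1 0 1
  set γ := A'.1 1 0
  set δ := A'.1 1 1
  set k1 := B'.1 0 0
  set k2 := B'.1 0 1
  set k3 := B'.1 1 0
  set k4 := B'.1 1 1
  have hf : ∀ x : F, ((A' * (mkSL _ (det_up x) * B' * (mkSL _ (det_up x))⁻¹) : SL2) : M2).trace =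
      -(γ * k3) * x ^ 2 + ((α - δ) * k3 + γ * (k4 - k1)) * x + (α * k1 + β * k3 + γ * k2 + δ * k4) := by
    intro x
    exact prod_trace A' B' x
  have hlead : -(γ * k3) ≠ 0 := neg_ne_zero.mpr (mul_ne_zero hP hQ)
  set b1 := ((α - δ) * k3 + γ * (k4 - k1))
  set c1 := (α * k1 + β * k3 + γ * k2 + δ * k4)
  have hall : ∀ x : F, -(γ * k3) * x ^ 2 + b1 * x + (c1 - s) = 0 ∨ -(γ * k3) * x ^ 2 + b1 * x + (c1 + s) = 0 := by
    intro x
    rcases htr (mkSL _ (det_up x)) with h | h
    · left; rw [hf] at h; linear_combination h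
    · right; rw [hf] at h; linear_combination h
  have hc1 := quad_card (-(γ * k3)) b1 (c1 - s) hlead
  have hc2 := quad_card (-(γ * k3)) b1 (c1 + s) hlead
  by_cases h5 : Fintype.card F = 4
  · have h6 : (2 : F) = 0 := by
      have h7 := Nat.cast_card_eq_zero F
      rw [h5] at h7
      have h8 : (2 : F) * 2 = 0 := by push_cast at h7; linear_combination h7
      rcases mul_eq_zero.mp h8 with h9 | h9 <;> exact h9
    have h7 : (Finset.univ : Finset F) ⊆ (Finset.univ.filter (fun x : F => -(γ * k3) * x ^ 2 + b1 * x + (c1 - s) = 0)) := by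
      intro x _
      rw [Finset.mem_filter]
      refine ⟨Finset.mem_univ _, ?_⟩
      rcases hall x with h | h
      · exact h
      · linear_combination h - s * h6
    have h8 := Finset.card_le_card h7
    rw [Finset.card_univ, h5] at h8
    omega
  · have h7 : (Finset.univ : Finset F) ⊆ (Finset.univ.filter (fun x : F => -(γ * k3) * x ^ 2 + b1 * x + (c1 - s) = 0)) ∪
        (Finset.univ.filter (fun x : F => -(γ * k3) * x ^ 2 + b1 * x + (c1 + s) = 0)) := by
      intro x _
      rw [Finset.mem_union, Finset.mem_filter, Finset.mem_filter]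
      rcases hall x with h | h
      · exact Or.inl ⟨Finset.mem_univ _, h⟩
      · exact Or.inr ⟨Finset.mem_univ _, h⟩
    have h8 := (Finset.card_le_card h7).trans (Finset.card_union_le _ _)
    rw [Finset.card_univ] at h8
    omega

end CfsgLib.H6P2
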