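import Cfsg.Agent.LibH6P2D

/-! Class sizes of `PSL(2,q)`, second part. -/

set_option autoImplicit false

namespace CfsgLib.H6P2

open Matrix CfsgLib.G2B

universe v

variable {F : Type v} [Field F]

local notation "SL2" => Matrix.SpecialLinearGroup (Fin 2) F
local notation "PSL2" => Matrix.ProjectiveSpecialLinearGroup (Fin 2) F
local notation "M2" => Matrix (Fin 2) (Fin 2) F

theorem index_conj {G : Type*} [Group G] [Finite G] {g h : G} (hc : IsConj g h) :
    (Subgroup.centralizer ({g} : Set G)).index = (Subgroup.centralizer ({h} : Set G)).index := by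
  rw [index_centralizer, index_centralizer]
  apply Nat.card_congr
  exact Equiv.subtypeEquivRight fun k => ⟨fun h1 => hc.symm.trans h1, fun h1 => hc.trans h1⟩

theorem index_one {G : Type*} [Group G] [Finite G] :
    (Subgroup.centralizer ({1} : Set G)).index = 1 := by
  rw [Subgroup.index_eq_one, eq_top_iff]
  intro x _
  rw [Subgroup.mem_centralizer_singleton_iff]
  simp

theorem rho_two_mul [Fintype F] [DecidableEq F] (e : F) (he : e ^ 2 = 1) : rho (2 * e) = 1 := by
  unfold rho
  have : (Finset.univ.filter (fun a : F => a ^ 2 - 2 * e * a + 1 = 0)) = {e} := by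
    ext a
    rw [Finset.mem_filter, Finset.mem_singleton]
    constructor
    · rintro ⟨_, h⟩
      have h1 : (a - e) ^ 2 = 0 := by linear_combination h + he
      exact sub_eq_zero.mp (by simpa using h1)
    · rintro rfl
      exact ⟨Finset.mem_univ _, by linear_combination -he⟩
  rw [this, Finset.card_singleton]

theorem exists_rho_even [Fintype F] [DecidableEq F] (h2 : (2 : F) = 0) (h4 : 4 ≤ Fintype.card F) :
    (∃ t : F, t ^ 2 ≠ 4 ∧ rho t = 0) ∧ (∃ t : F, t ^ 2 ≠ 4 ∧ rho t = 2) := by
  have hs := sum_rho (F := F)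
  rw [← Finset.add_sum_erase _ _ (Finset.mem_univ (0 : F))] at hs
  have h0 : rho (0 : F) = 1 := by
    have := rho_two_mul (1 : F) (by ring)
    rw [mul_one, h2] at this
    exact this
  have hc : (Finset.univ.erase (0 : F)).card = Fintype.card F - 1 := by
    rw [Finset.card_erase_of_mem (Finset.mem_univ _), Finset.card_univ]
  have hne : ∀ t ∈ Finset.univ.erase (0 : F), t ^ 2 ≠ 4 := by
    intro t ht h
    apply Finset.ne_of_mem_erase ht
    have : t ^ 2 = 0 := by linear_combination h + 2 * h2
    simpa using this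
  rw [h0] at hs
  constructor
  · by_contra hcon
    push Not at hcon
    have h5 : ∀ t ∈ Finset.univ.erase (0 : F), rho t = 2 := fun t ht =>
      (rho_cases t (hne t ht)).resolve_left (hcon t (hne t ht))
    rw [Finset.sum_congr rfl h5, Finset.sum_const, smul_eq_mul, hc] at hs
    omega
  · by_contra hcon
    push Not at hcon
    have h5 : ∀ t ∈ Finset.univ.erase (0 : F), rho t = 0 := fun t ht =>
      (rho_cases t (hne t ht)).resolve_right (hcon t (hne t ht))
    rw [Finset.sum_congr rfl h5, Finset.sum_const, smul_eq_mul, mul_zero] at hs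
    omega

theorem exists_rho_odd [Fintype F] [DecidableEq F] (h2 : (2 : F) ≠ 0) (h7 : 7 ≤ Fintype.card F) :
    (∃ t : F, t ≠ 0 ∧ t ^ 2 ≠ 4 ∧ rho t = 0) ∧ (∃ t : F, t ≠ 0 ∧ t ^ 2 ≠ 4 ∧ rho t = 2) := by
  have hs := sum_rho (F := F)
  have hm2 : (2 : F) ∈ Finset.univ.erase (0 : F) := Finset.mem_erase.mpr ⟨h2, Finset.mem_univ _⟩
  have hm2' : (-2 : F) ∈ (Finset.univ.erase (0 : F)).erase 2 := by
    refine Finset.mem_erase.mpr ⟨?_, Finset.mem_erase.mpr ⟨neg_ne_zero.mpr h2, Finset.mem_univ _⟩⟩
    intro h
    have : (2 : F) * 2 = 0 := by linear_combination -h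
    rcases mul_eq_zero.mp this with h | h <;> exact h2 h
  rw [← Finset.add_sum_erase _ _ (Finset.mem_univ (0 : F)), ← Finset.add_sum_erase _ _ hm2, ← Finset.add_sum_erase _ _ hm2'] at hs
  have hr2 : rho (2 : F) = 1 := by
    have := rho_two_mul (1 : F) (by ring)
    rwa [mul_one] at this
  have hr2' : rho (-2 : F) = 1 := by
    have := rho_two_mul (-1 : F) (by ring)
    rwa [mul_neg, mul_one] at this
  have h0ne : (0 : F) ^ 2 ≠ 4 := by
    intro h
    have : (2 : F) * 2 = 0 := by linear_combination -h
    rcases mul_eq_zero.mp this with h | h <;> exact h2 h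
  have hr0 := rho_cases (0 : F) h0ne
  have hc : (((Finset.univ.erase (0 : F)).erase 2).erase (-2)).card = Fintype.card F - 3 := by
    rw [Finset.card_erase_of_mem hm2', Finset.card_erase_of_mem hm2, Finset.card_erase_of_mem (Finset.mem_univ _), Finset.card_univ]
    omega
  have hne : ∀ t ∈ ((Finset.univ.erase (0 : F)).erase 2).erase (-2), t ≠ 0 ∧ t ^ 2 ≠ 4 := by
    intro t ht
    rw [Finset.mem_erase, Finset.mem_erase, Finset.mem_erase] at ht
    refine ⟨ht.2.2.1, ?_⟩
    intro h
    have h5 : (t - 2) * (t + 2) = 0 := by linear_combination h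
    rcases mul_eq_zero.mp h5 with h6 | h6
    · exact ht.2.1 (sub_eq_zero.mp h6)
    · exact ht.1 (eq_neg_of_add_eq_zero_left h6)
  rw [hr2, hr2'] at hs
  constructor
  · by_contra hcon
    push Not at hcon
    have h5 : ∀ t ∈ ((Finset.univ.erase (0 : F)).erase 2).erase (-2), rho t = 2 := fun t ht =>
      (rho_cases t (hne t ht).2).resolve_left (hcon t (hne t ht).1 (hne t ht).2)
    rw [Finset.sum_congr rfl h5, Finset.sum_const, smul_eq_mul, hc] at hs
    omega
  · by_contra hcon
    push Not at hcon
    have h5 : ∀ t ∈ ((Finset.univ.erase (0 : F)).erase 2).erase (-2), rho t = 0 := fun t ht =>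
      (rho_cases t (hne t ht).2).resolve_right (hcon t (hne t ht).1 (hne t ht).2)
    rw [Finset.sum_congr rfl h5, Finset.sum_const, smul_eq_mul, mul_zero] at hs
    omega

/-- the unipotent class -/
theorem index_unip [Fintype F] [DecidableEq F] (X : SL2) (hX : ¬ IsSc (X : M2)) (ht : (X : M2).trace = 2) :
    Nat.card {B : SL2 // IsConj X B} * Nat.card {x : F // x ^ 2 = 1} = Fintype.card F ^ 2 - 1 := by
  obtain ⟨b, hb, P, hP, h1⟩ := sl_unip X hX 1 (by ring) (by rw [ht, mul_one])
  have hc : IsConj ((CfsgLib.G2C.frSL F).u b) X := by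
    rw [sl_isConj_iff]
    refine ⟨P, hP, ?_⟩
    rw [h1]
    rfl
  have h2 := CfsgLib.G2C.card_centralizer_u_SL hb
  have h3 := Subgroup.card_mul_index (Subgroup.centralizer ({(CfsgLib.G2C.frSL F).u b} : Set SL2))
  rw [index_conj hc, index_centralizer, h2, CfsgLib.G2C.card_SL] at h3
  have hq : 1 < Fintype.card F := Fintype.one_lt_card
  have h4 : Nat.card {B : SL2 // IsConj X B} * Nat.card {x : F // x ^ 2 = 1} = (Fintype.card F - 1) * (Fintype.card F + 1) := by
    apply Nat.eq_of_mul_eq_mul_left (show 0 < Fintype.card F by omega)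
    rw [← h3]; ring
  rw [h4]
  obtain ⟨k, hk⟩ : ∃ k, Fintype.card F = k + 1 := ⟨Fintype.card F - 1, by omega⟩
  rw [hk, Nat.add_sub_cancel]
  have : (k + 1) ^ 2 = k * (k + 1 + 1) + 1 := by ring
  rw [this, Nat.add_sub_cancel]

/-- the class of trace zero in odd characteristic -/
theorem index_zero [Fintype F] [DecidableEq F] (h2 : (2 : F) ≠ 0) (X : SL2) (h : (X : M2).trace = 0) :
    2 * Nat.card {h : PSL2 // IsConj (QuotientGroup.mk X : PSL2) h} = Fintype.card F * (Fintype.card F - 1) + Fintype.card F * rho (0 : F) := by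
  have h4 : (X : M2).trace ^ 2 ≠ 4 := by
    rw [h]
    intro h
    have : (2 : F) * 2 = 0 := by linear_combination -h
    rcases mul_eq_zero.mp this with h | h <;> exact h2 h
  rw [← card_trace (0 : F)]
  let f : {B : SL2 // (B : M2).trace = 0} → {h : PSL2 // IsConj (QuotientGroup.mk X : PSL2) h} := fun B =>
    ⟨QuotientGroup.mk B.1, (isConj_mk_iff X _).mpr ⟨B.1, (conj_iff_trace X B.1 h4).mpr (by rw [B.2, h]), rfl⟩⟩
  have hf : ∀ y, Nat.card {x // f x = y} = 2 := by
    rintro ⟨y, hy⟩
    obtain ⟨B, hB, rfl⟩ := (isConj_mk_iff X y).mp hy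
    have hBt : (B : M2).trace = 0 := by rw [(conj_iff_trace X B h4).mp hB, h]
    have hBt' : ((-B : SL2) : M2).trace = 0 := by
      rw [Matrix.SpecialLinearGroup.coe_neg, trace_neg, hBt, neg_zero]
    have hne : (⟨B, hBt⟩ : {B : SL2 // (B : M2).trace = 0}) ≠ ⟨-B, hBt'⟩ := by
      intro h5
      have h6 : B = -B := congrArg Subtype.val h5
      have h7 : (B : M2) = -(B : M2) := by
        have := congrArg Subtype.val h6
        exact this
      have h8 : ∀ i j, (B : M2) i j = 0 := by
        intro i j
        have h9 := congrFun (congrFun h7 i) j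
        rw [Matrix.neg_apply] at h9
        have h10 : (2 : F) * (B : M2) i j = 0 := by linear_combination h9
        exact (mul_eq_zero.mp h10).resolve_left h2
      have h11 := B.2
      rw [det_fin_two, show B.1 0 0 = 0 from h8 0 0, show B.1 0 1 = 0 from h8 0 1] at h11
      simp at h11
    rw [Nat.card_eq_two_iff]
    refine ⟨⟨⟨B, hBt⟩, rfl⟩, ⟨⟨-B, hBt'⟩, Subtype.ext (neg_mk B)⟩, ?_, ?_⟩
    · intro h5; exact hne (congrArg Subtype.val h5)
    · apply Set.eq_univ_of_forall
      rintro ⟨⟨C, hC⟩, h5⟩
      have h6 : (QuotientGroup.mk C : PSL2) = QuotientGroup.mk B := congrArg Subtype.val h5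
      rcases (mk_eq_iff B C).mp h6.symm with h7 | h7
      · left; exact Subtype.ext (Subtype.ext h7)
      · right; exact Subtype.ext (Subtype.ext h7)
  rw [← Nat.card_congr (Equiv.sigmaFiberEquiv f), Nat.card_sigma, Finset.sum_congr rfl (fun y _ => hf y), Finset.sum_const,
    smul_eq_mul, Finset.card_univ, Nat.card_eq_fintype_card, mul_comm]


theorem isSc_mk_one {X : SL2} (h : IsSc (X : M2)) : (QuotientGroup.mk X : PSL2) = 1 :=
  (QuotientGroup.eq_one_iff X).mpr (mem_center_of_isSc h)

theorem index_ss [Fintype F] [DecidableEq F] (X : SL2) (h4 : (X : M2).trace ^ 2 ≠ 4) (h : (X : M2).trace ≠ 0 ∨ (2 : F) = 0) :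
    (Subgroup.centralizer ({(QuotientGroup.mk X : PSL2)} : Set PSL2)).index =
      Fintype.card F * (Fintype.card F - 1) + Fintype.card F * rho (X : M2).trace := by
  rw [index_centralizer, card_class_mk X h, ← card_trace]
  exact Nat.card_congr (Equiv.subtypeEquivRight fun B => conj_iff_trace X B h4)

theorem classes_even [Fintype F] (h2 : 2 ∣ Fintype.card F) (h4 : 4 ≤ Fintype.card F) :
    Set.range (fun g : PSL2 => (Subgroup.centralizer ({g} : Set PSL2)).index) =
      {1, Fintype.card F * (Fintype.card F - 1), Fintype.card F ^ 2 - 1, Fintype.card F * (Fintype.card F + 1)} := by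
  classical
  have h20 : (2 : F) = 0 := by
    rcases even_or_odd (F := F) with ⟨_, h⟩ | ⟨_, _, h3⟩
    · exact h
    · obtain ⟨k, hk⟩ := h3; omega
  haveI : CharP F 2 := (CharP.charP_iff_prime_eq_zero Nat.prime_two).mpr (by exact_mod_cast h20)
  have hun : ∀ X : SL2, ¬ IsSc (X : M2) → (X : M2).trace = 2 →
      (Subgroup.centralizer ({(QuotientGroup.mk X : PSL2)} : Set PSL2)).index = Fintype.card F ^ 2 - 1 := by
    intro X hX ht
    rw [index_centralizer, card_class_mk X (Or.inr h20), ← index_unip X hX ht, CfsgLib.G2C.card_sq_one_even, mul_one]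
  have hq : Fintype.card F * (Fintype.card F - 1) + Fintype.card F * 2 = Fintype.card F * (Fintype.card F + 1) := by
    rw [← mul_add]; congr 1; omega
  apply Set.eq_of_subset_of_subset
  · rintro _ ⟨g, rfl⟩
    obtain ⟨X, rfl⟩ := QuotientGroup.mk_surjective g
    simp only [Set.mem_insert_iff, Set.mem_singleton_iff]
    by_cases hsc : IsSc (X : M2)
    · left
      rw [isSc_mk_one hsc]; exact index_one
    by_cases h5 : (X : M2).trace ^ 2 = 4
    · have : (X : M2).trace = 2 := by
        have h6 : (X : M2).trace ^ 2 = 0 := by linear_combination h5 + 2 * h20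
        rw [h20]; simpa using h6
      right; right; left
      exact hun X hsc this
    · rcases rho_cases _ h5 with h6 | h6
      · right; left
        rw [index_ss X h5 (Or.inr h20), h6, mul_zero, add_zero]
      · right; right; right
        rw [index_ss X h5 (Or.inr h20), h6, hq]
  · obtain ⟨⟨t, ht, ht0⟩, ⟨s, hs, hs2⟩⟩ := exists_rho_even h20 h4
    rintro x hx
    simp only [Set.mem_insert_iff, Set.mem_singleton_iff] at hx
    rcases hx with rfl | rfl | rfl | rfl
    · exact ⟨1, index_one⟩
    · refine ⟨QuotientGroup.mk (mkSL _ (det_C t)), ?_⟩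
      have h7 : ((mkSL _ (det_C t) : SL2) : M2).trace = t := by rw [mkSL_coe, trace_fin_two_of]; ring
      show (Subgroup.centralizer ({(QuotientGroup.mk (mkSL _ (det_C t)) : PSL2)} : Set PSL2)).index = _
      rw [index_ss _ (by rw [h7]; exact ht) (Or.inr h20), h7, ht0, mul_zero, add_zero]
    · refine ⟨QuotientGroup.mk (mkSL _ (det_C 2)), ?_⟩
      exact hun _ (not_isSc_C _) (by rw [mkSL_coe, trace_fin_two_of]; ring)
    · refine ⟨QuotientGroup.mk (mkSL _ (det_C s)), ?_⟩
      have h7 : ((mkSL _ (det_C s) : SL2) : M2).trace = s := by rw [mkSL_coe, trace_fin_two_of]; ring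
      show (Subgroup.centralizer ({(QuotientGroup.mk (mkSL _ (det_C s)) : PSL2)} : Set PSL2)).index = _
      rw [index_ss _ (by rw [h7]; exact hs) (Or.inr h20), h7, hs2, hq]

theorem classes_odd_aux [Fintype F] [DecidableEq F] (hodd : Odd (Fintype.card F)) (h2 : (2 : F) ≠ 0) (h7 : 7 ≤ Fintype.card F) :
    Set.range (fun g : PSL2 => (Subgroup.centralizer ({g} : Set PSL2)).index) =
      {1, (Fintype.card F ^ 2 - 1) / 2, (Fintype.card F * (Fintype.card F - 1) + Fintype.card F * rho (0 : F)) / 2,
        Fintype.card F * (Fintype.card F - 1), Fintype.card F * (Fintype.card F + 1)} := by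
  have hun : ∀ X : SL2, ¬ IsSc (X : M2) → (X : M2).trace = 2 →
      (Subgroup.centralizer ({(QuotientGroup.mk X : PSL2)} : Set PSL2)).index = (Fintype.card F ^ 2 - 1) / 2 := by
    intro X hX ht
    rw [index_centralizer, card_class_mk X (Or.inl (by rw [ht]; exact h2)), ← index_unip X hX ht, CfsgLib.G2C.card_sq_one_odd hodd,
      Nat.mul_div_cancel _ (by norm_num)]
  have hz : ∀ X : SL2, (X : M2).trace = 0 → (Subgroup.centralizer ({(QuotientGroup.mk X : PSL2)} : Set PSL2)).index =
      (Fintype.card F * (Fintype.card F - 1) + Fintype.card F * rho (0 : F)) / 2 := by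
    intro X hX
    rw [← index_zero h2 X hX, index_centralizer, Nat.mul_div_cancel_left _ (by norm_num)]
  have hq : Fintype.card F * (Fintype.card F - 1) + Fintype.card F * 2 = Fintype.card F * (Fintype.card F + 1) := by
    rw [← mul_add]; congr 1; omega
  apply Set.eq_of_subset_of_subset
  · rintro _ ⟨g, rfl⟩
    obtain ⟨X, rfl⟩ := QuotientGroup.mk_surjective g
    simp only [Set.mem_insert_iff, Set.mem_singleton_iff]
    by_cases hsc : IsSc (X : M2)
    · left
      rw [isSc_mk_one hsc]; exact index_one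
    by_cases h5 : (X : M2).trace ^ 2 = 4
    · right; left
      have h6 : ((X : M2).trace - 2) * ((X : M2).trace + 2) = 0 := by linear_combination h5
      rcases mul_eq_zero.mp h6 with h8 | h8
      · exact hun X hsc (sub_eq_zero.mp h8)
      · have h9 := hun (-X) (by
          intro h
          apply hsc
          refine ⟨?_, ?_, ?_⟩
          · have := h.1; rw [Matrix.SpecialLinearGroup.coe_neg, Matrix.neg_apply, neg_eq_zero] at this; exact this
          · have := h.2.1; rw [Matrix.SpecialLinearGroup.coe_neg, Matrix.neg_apply, neg_eq_zero] at this; exact this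
          · have := h.2.2; rw [Matrix.SpecialLinearGroup.coe_neg, Matrix.neg_apply, Matrix.neg_apply, neg_inj] at this; exact this)
          (by rw [Matrix.SpecialLinearGroup.coe_neg, trace_neg, eq_neg_of_add_eq_zero_left h8, neg_neg])
        rw [neg_mk] at h9
        exact h9
    · by_cases h0 : (X : M2).trace = 0
      · right; right; left
        exact hz X h0
      rcases rho_cases _ h5 with h6 | h6
      · right; right; right; left
        rw [index_ss X h5 (Or.inl h0), h6, mul_zero, add_zero]
      · right; right; right; right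
        rw [index_ss X h5 (Or.inl h0), h6, hq]
  · obtain ⟨⟨t, ht0', ht, ht0⟩, ⟨s, hs0', hs, hs2⟩⟩ := exists_rho_odd h2 h7
    rintro x hx
    simp only [Set.mem_insert_iff, Set.mem_singleton_iff] at hx
    have htr : ∀ t : F, ((mkSL _ (det_C t) : SL2) : M2).trace = t := fun t => by rw [mkSL_coe, trace_fin_two_of]; ring
    rcases hx with rfl | rfl | rfl | rfl | rfl
    · exact ⟨1, index_one⟩
    · refine ⟨QuotientGroup.mk (mkSL _ (det_C 2)), ?_⟩
      exact hun _ (not_isSc_C _) (htr _)
    · refine ⟨QuotientGroup.mk (mkSL _ (det_C 0)), ?_⟩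
      exact hz _ (htr _)
    · refine ⟨QuotientGroup.mk (mkSL _ (det_C t)), ?_⟩
      show (Subgroup.centralizer ({(QuotientGroup.mk (mkSL _ (det_C t)) : PSL2)} : Set PSL2)).index = _
      rw [index_ss _ (by rw [htr]; exact ht) (Or.inl (by rw [htr]; exact ht0')), htr, ht0, mul_zero, add_zero]
    · refine ⟨QuotientGroup.mk (mkSL _ (det_C s)), ?_⟩
      show (Subgroup.centralizer ({(QuotientGroup.mk (mkSL _ (det_C s)) : PSL2)} : Set PSL2)).index = _
      rw [index_ss _ (by rw [htr]; exact hs) (Or.inl (by rw [htr]; exact hs0')), htr, hs2, hq]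

theorem rho_zero_of_mod [Fintype F] [DecidableEq F] (hodd : Odd (Fintype.card F)) (h2 : (2 : F) ≠ 0) :
    (Fintype.card F % 4 = 1 → rho (0 : F) = 2) ∧ (Fintype.card F % 4 = 3 → rho (0 : F) = 0) := by
  have h0ne : (0 : F) ^ 2 ≠ 4 := by
    intro h
    have : (2 : F) * 2 = 0 := by linear_combination -h
    rcases mul_eq_zero.mp this with h | h <;> exact h2 h
  have hr0 := rho_cases (0 : F) h0ne
  constructor
  · intro h
    have h3 : IsSquare (-1 : F) := FiniteField.isSquare_neg_one_iff.mpr (by omega)
    obtain ⟨a, ha⟩ := h3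
    have := rho_pos (t := (0 : F)) (l := a) (by linear_combination -ha)
    omega
  · intro h
    rcases hr0 with h3 | h3
    · exact h3
    · exfalso
      have h4 : 0 < rho (0 : F) := by omega
      unfold rho at h4
      rw [Finset.card_pos] at h4
      obtain ⟨a, ha⟩ := h4
      have h5 := (Finset.mem_filter.mp ha).2
      have h6 : IsSquare (-1 : F) := ⟨a, by linear_combination -h5⟩
      exact FiniteField.isSquare_neg_one_iff.mp h6 h

end CfsgLib.H6P2
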