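import Mathlib
import Cfsg.Agent.LibH6Basic

/-! π-elements, π-parts, counting classes of π-elements. -/

set_option autoImplicit false

namespace CfsgLib.H6

open Subgroup

variable {G : Type*} [Group G]

/-- `x` is a π-element. -/
def IsPiEl (π : Set ℕ) (x : G) : Prop := ∀ q : ℕ, q.Prime → q ∣ orderOf x → q ∈ π

theorem isPiEl_one (π : Set ℕ) : IsPiEl π (1 : G) := by
  intro q hq hd
  rw [orderOf_one] at hd
  exact absurd (Nat.dvd_one.mp hd) hq.one_lt.ne'

theorem IsPiEl.conj {π : Set ℕ} {x : G} (h : IsPiEl π x) (g : G) : IsPiEl π (g * x * g⁻¹) := by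
  intro q hq hd
  have : orderOf (g * x * g⁻¹) = orderOf x :=
    orderOf_injective (MulAut.conj g).toMonoidHom (MulAut.conj g).injective x
  rw [this] at hd
  exact h q hq hd

theorem isPiEl_conj_iff {π : Set ℕ} {x g : G} : IsPiEl π (g * x * g⁻¹) ↔ IsPiEl π x := by
  constructor
  · intro h
    have h1 := h.conj g⁻¹
    have e : g⁻¹ * (g * x * g⁻¹) * g⁻¹⁻¹ = x := by group
    rwa [e] at h1
  · intro h; exact h.conj g

theorem IsPiEl.pow {π : Set ℕ} {x : G} (h : IsPiEl π x) (n : ℕ) : IsPiEl π (x ^ n) :=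
  fun q hq hd => h q hq (hd.trans (orderOf_pow_dvd n))

theorem IsPiEl.inv {π : Set ℕ} {x : G} (h : IsPiEl π x) : IsPiEl π x⁻¹ := by
  intro q hq hd
  rw [orderOf_inv] at hd
  exact h q hq hd

theorem IsPiEl.mul {π : Set ℕ} {x y : G} (hx : IsPiEl π x) (hy : IsPiEl π y) (hc : Commute x y) :
    IsPiEl π (x * y) := by
  intro q hq hd
  have h1 := hd.trans hc.orderOf_mul_dvd_mul_orderOf
  rcases (Nat.Prime.dvd_mul hq).mp h1 with h | h
  · exact hx q hq h
  · exact hy q hq h

theorem IsPiEl.mono {π σ : Set ℕ} {x : G} (h : IsPiEl π x) (hs : π ⊆ σ) : IsPiEl σ x :=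
  fun q hq hd => hs (h q hq hd)

theorem IsPiEl.map {H : Type*} [Group H] {π : Set ℕ} {x : G} (h : IsPiEl π x) (f : G →* H) :
    IsPiEl π (f x) := fun q hq hd => h q hq (hd.trans (orderOf_map_dvd f x))

theorem isPiEl_coe {π : Set ℕ} {H : Subgroup G} {x : H} : IsPiEl π (x : G) ↔ IsPiEl π x := by
  unfold IsPiEl
  rw [Subgroup.orderOf_coe]

theorem eq_one_of_isPiEl_compl [Finite G] {π : Set ℕ} {x : G} (h : IsPiEl π x) (h' : IsPiEl πᶜ x) : x = 1 := by
  by_contra hne
  obtain ⟨q, hq, hd⟩ := Nat.exists_prime_and_dvd (n := orderOf x) (by rwa [Ne, orderOf_eq_one_iff])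
  exact h' q hq hd (h q hq hd)

theorem exists_pi_factor (π : Set ℕ) (n : ℕ) (hn : 0 < n) : ∃ m k : ℕ, n = m * k ∧
    (∀ q : ℕ, q.Prime → q ∣ m → q ∈ π) ∧ (∀ q : ℕ, q.Prime → q ∣ k → q ∉ π) := by
  classical
  induction n using Nat.strong_induction_on with
  | _ n ih =>
  by_cases h1 : n = 1
  · exact ⟨1, 1, by omega, fun q hq hd => absurd (Nat.dvd_one.mp hd) hq.one_lt.ne',
      fun q hq hd => absurd (Nat.dvd_one.mp hd) hq.one_lt.ne'⟩
  · obtain ⟨p, hp, n', rfl⟩ := Nat.exists_prime_and_dvd h1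
    have hn' : 0 < n' := Nat.pos_of_mul_pos_left hn |> fun _ => Nat.pos_of_ne_zero (by rintro rfl; simp at hn)
    obtain ⟨m, k, hmk, hm, hk⟩ := ih n' (by nlinarith [hp.two_le]) hn'
    by_cases hpπ : p ∈ π
    · refine ⟨p * m, k, by rw [hmk]; ring, ?_, hk⟩
      intro q hq hd
      rcases (Nat.Prime.dvd_mul hq).mp hd with h | h
      · rw [(Nat.prime_dvd_prime_iff_eq hq hp).mp h]; exact hpπ
      · exact hm q hq h
    · refine ⟨m, p * k, by rw [hmk]; ring, hm, ?_⟩
      intro q hq hd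
      rcases (Nat.Prime.dvd_mul hq).mp hd with h | h
      · rw [(Nat.prime_dvd_prime_iff_eq hq hp).mp h]; exact hpπ
      · exact hk q hq h

theorem coprime_of_pi {π : Set ℕ} {m k : ℕ} (hm : ∀ q : ℕ, q.Prime → q ∣ m → q ∈ π)
    (hk : ∀ q : ℕ, q.Prime → q ∣ k → q ∉ π) : m.Coprime k := by
  rw [Nat.coprime_iff_gcd_eq_one]
  by_contra hne
  obtain ⟨q, hq, hd⟩ := Nat.exists_prime_and_dvd hne
  exact hk q hq (hd.trans (Nat.gcd_dvd_right _ _)) (hm q hq (hd.trans (Nat.gcd_dvd_left _ _)))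

theorem exists_pi_decomp [Finite G] (π : Set ℕ) (x : G) : ∃ e f : ℕ, x ^ e * x ^ f = x ∧
    IsPiEl π (x ^ e) ∧ IsPiEl πᶜ (x ^ f) := by
  obtain ⟨m, k, hmk, hm, hk⟩ := exists_pi_factor π (orderOf x) (orderOf_pos x)
  have hc := coprime_of_pi hm hk
  obtain ⟨e, he1, he2⟩ := Nat.chineseRemainder hc 1 0
  obtain ⟨f, hf1, hf2⟩ := Nat.chineseRemainder hc 0 1
  have h1 : e + f ≡ 1 [MOD m * k] := by
    rw [← Nat.modEq_and_modEq_iff_modEq_mul hc]
    exact ⟨by simpa using he1.add hf1, by simpa using he2.add hf2⟩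
  have hke : k ∣ e := (Nat.modEq_zero_iff_dvd).mp he2
  have hmf : m ∣ f := (Nat.modEq_zero_iff_dvd).mp hf1
  refine ⟨e, f, ?_, ?_, ?_⟩
  · rw [← pow_add]
    conv_rhs => rw [← pow_one x]
    rw [pow_eq_pow_iff_modEq, hmk]
    exact h1
  · intro q hq hd
    apply hm q hq
    apply hd.trans
    apply orderOf_dvd_of_pow_eq_one
    rw [← pow_mul, ← orderOf_dvd_iff_pow_eq_one, hmk, mul_comm e m]
    exact Nat.mul_dvd_mul_left m hke
  · intro q hq hd
    apply hk q hq
    apply hd.trans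
    apply orderOf_dvd_of_pow_eq_one
    rw [← pow_mul, ← orderOf_dvd_iff_pow_eq_one, hmk]
    exact Nat.mul_dvd_mul_right hmf k

/-- The π-part of `x`. -/
noncomputable def piPart [Finite G] (π : Set ℕ) (x : G) : G :=
  x ^ (exists_pi_decomp π x).choose

/-- The π'-part of `x`. -/
noncomputable def piRest [Finite G] (π : Set ℕ) (x : G) : G :=
  x ^ (exists_pi_decomp π x).choose_spec.choose

variable [Finite G] (π : Set ℕ)

theorem piPart_mul_piRest (x : G) : piPart π x * piRest π x = x :=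
  (exists_pi_decomp π x).choose_spec.choose_spec.1

theorem piPart_isPiEl (x : G) : IsPiEl π (piPart π x) :=
  (exists_pi_decomp π x).choose_spec.choose_spec.2.1

theorem piRest_isPiEl (x : G) : IsPiEl πᶜ (piRest π x) :=
  (exists_pi_decomp π x).choose_spec.choose_spec.2.2

theorem commute_piPart (x : G) : Commute x (piPart π x) := (Commute.refl x).pow_right _

theorem commute_piRest (x : G) : Commute x (piRest π x) := (Commute.refl x).pow_right _

theorem Commute.piPart_right {x y : G} (h : Commute x y) : Commute x (piPart π y) := h.pow_right _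

theorem Commute.piRest_right {x y : G} (h : Commute x y) : Commute x (piRest π y) := h.pow_right _

theorem piPart_mem (x : G) {H : Subgroup G} (hx : x ∈ H) : piPart π x ∈ H := H.pow_mem hx _

theorem piRest_mem (x : G) {H : Subgroup G} (hx : x ∈ H) : piRest π x ∈ H := H.pow_mem hx _

theorem piPart_unique {a b : G} (ha : IsPiEl π a) (hb : IsPiEl πᶜ b) (hab : Commute a b) :
    piPart π (a * b) = a ∧ piRest π (a * b) = b := by
  set x := a * b with hx
  have hxa : Commute x a := (Commute.refl a).mul_left hab.symm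
  have hxb : Commute x b := hab.mul_left (Commute.refl b)
  have h1 : Commute a (piPart π x) := hxa.symm.pow_right _
  have h2 : Commute b (piRest π x) := hxb.symm.pow_right _
  have h3 : a⁻¹ * piPart π x = b * (piRest π x)⁻¹ := by
    rw [inv_mul_eq_iff_eq_mul, ← mul_assoc, eq_mul_inv_iff_mul_eq, piPart_mul_piRest]
  have h4 : IsPiEl π (a⁻¹ * piPart π x) := ha.inv.mul (piPart_isPiEl π x) h1.inv_left
  have h5 : IsPiEl πᶜ (a⁻¹ * piPart π x) := by
    rw [h3]
    exact hb.mul (piRest_isPiEl π x).inv h2.inv_right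
  have h6 := eq_one_of_isPiEl_compl h4 h5
  have h7 : piPart π x = a := (inv_mul_eq_one.mp h6).symm
  refine ⟨h7, ?_⟩
  rw [h6] at h3
  exact (mul_inv_eq_one.mp h3.symm).symm

theorem piPart_of_isPiEl {a : G} (ha : IsPiEl π a) : piPart π a = a := by
  have := (piPart_unique π ha (isPiEl_one πᶜ) (Commute.one_right a)).1
  rwa [mul_one] at this

theorem piRest_eq_one_of_isPiEl {a : G} (ha : IsPiEl π a) : piRest π a = 1 := by
  have := (piPart_unique π ha (isPiEl_one πᶜ) (Commute.one_right a)).2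
  rwa [mul_one] at this

/-- The classes of π-elements. -/
def PiClass (π : Set ℕ) (G : Type*) [Group G] : Type _ :=
  {C : ConjClasses G // ∀ q : ℕ, q.Prime → (∃ g : G, ConjClasses.mk g = C ∧ q ∣ orderOf g) → q ∈ π}

omit [Finite G] in
theorem mk_prop_iff (x : G) : (∀ q : ℕ, q.Prime → (∃ g : G, ConjClasses.mk g = ConjClasses.mk x ∧ q ∣ orderOf g) → q ∈ π)
    ↔ IsPiEl π x := by
  constructor
  · intro h q hq hd
    exact h q hq ⟨x, rfl, hd⟩
  · rintro h q hq ⟨g, hg, hd⟩
    obtain ⟨c, hc⟩ := isConj_iff.mp (ConjClasses.mk_eq_mk_iff_isConj.mp hg)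
    have : orderOf x = orderOf g := by
      rw [← hc]; exact orderOf_injective (MulAut.conj c).toMonoidHom (MulAut.conj c).injective g
    exact h q hq (this ▸ hd)

end CfsgLib.H6
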