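import Mathlib
import Cfsg.Agent.LibH6Pi

/-! Counting classes of π-elements. -/

set_option autoImplicit false

namespace CfsgLib.H6

open Subgroup

universe u
variable {G : Type u} [Group G]

/-- Conjugation action of `N` on a subset stable under conjugation by `N`. -/
@[reducible] def conjActOn (N : Subgroup G) (P : G → Prop)
    (hP : ∀ n ∈ N, ∀ x, P x → P (n * x * n⁻¹)) : MulAction N {x : G // P x} where
  smul n x := ⟨n * x * (n : G)⁻¹, hP n n.2 x x.2⟩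
  one_smul x := by apply Subtype.ext; change (1 : G) * x * (1 : G)⁻¹ = x; simp
  mul_smul a b x := by
    apply Subtype.ext
    change (a * b : G) * x * (a * b : G)⁻¹ = a * (b * x * (b : G)⁻¹) * (a : G)⁻¹
    group

/-- The orbits of the conjugation action. -/
abbrev ConjOrb (N : Subgroup G) (P : G → Prop)
    (hP : ∀ n ∈ N, ∀ x, P x → P (n * x * n⁻¹)) : Type u :=
  @MulAction.orbitRel.Quotient N {x : G // P x} _ (conjActOn N P hP)

theorem card_conjOrb_mul [Finite G] (N : Subgroup G) (P : G → Prop)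
    (hP : ∀ n ∈ N, ∀ x, P x → P (n * x * n⁻¹)) :
    Nat.card (ConjOrb N P hP) * Nat.card N =
      Nat.card {p : G × G // p.1 ∈ N ∧ P p.2 ∧ p.1 * p.2 = p.2 * p.1} := by
  let _ := conjActOn N P hP
  rw [← Nat.card_prod, ← Nat.card_congr (MulAction.sigmaFixedByEquivOrbitsProdGroup N {x : G // P x})]
  apply Nat.card_congr
  refine
    { toFun := fun s => ⟨((s.1 : G), (s.2.1 : G)), s.1.2, s.2.1.2, ?_⟩
      invFun := fun p => ⟨⟨p.1.1, p.2.1⟩, ⟨⟨p.1.2, p.2.2.1⟩, ?_⟩⟩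
      left_inv := ?_
      right_inv := ?_ }
  · have h := congrArg Subtype.val s.2.2
    have h' : (s.1 : G) * (s.2.1 : G) * (s.1 : G)⁻¹ = s.2.1 := h
    exact mul_inv_eq_iff_eq_mul.mp h'
  · apply Subtype.ext
    change p.1.1 * p.1.2 * p.1.1⁻¹ = p.1.2
    rw [p.2.2.2]; group
  · rintro ⟨n, x, hx⟩; rfl
  · rintro ⟨p, hp⟩; rfl

theorem conjOrb_out_conj {N : Subgroup G} {P : G → Prop}
    {hP : ∀ n ∈ N, ∀ x, P x → P (n * x * n⁻¹)} (x : {x : G // P x}) :
    ∃ n ∈ N, n * ((Quotient.mk'' x : ConjOrb N P hP).out : G) * n⁻¹ = x := by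
  let _ := conjActOn N P hP
  have h : (Quotient.mk'' (Quotient.mk'' x : ConjOrb N P hP).out : ConjOrb N P hP) = Quotient.mk'' x :=
    Quotient.out_eq' _
  rw [Quotient.eq''] at h
  have h2 := (MulAction.orbitRel.Quotient.mem_orbit (x := (Quotient.mk'' x : ConjOrb N P hP)) (a := x)).mpr rfl
  obtain ⟨n, hn⟩ := (MulAction.orbitRel_apply.mp (Setoid.symm' _ h))
  exact ⟨n, n.2, congrArg Subtype.val hn⟩

theorem conjOrb_eq {N : Subgroup G} {P : G → Prop}
    {hP : ∀ n ∈ N, ∀ x, P x → P (n * x * n⁻¹)} (x y : {x : G // P x})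
    (h : ∃ n ∈ N, n * (x : G) * n⁻¹ = y) :
    (Quotient.mk'' x : ConjOrb N P hP) = Quotient.mk'' y := by
  let _ := conjActOn N P hP
  obtain ⟨n, hn, hxy⟩ := h
  rw [Quotient.eq'']
  apply Setoid.symm'
  rw [MulAction.orbitRel_apply]
  exact ⟨⟨n, hn⟩, Subtype.ext hxy⟩

theorem card_le_mul_of_fiber {α β : Type*} [Finite α] [Finite β] (f : α → β) (k : ℕ)
    (h : ∀ b, Nat.card {a // f a = b} ≤ k) : Nat.card α ≤ Nat.card β * k := by
  classical
  have := Fintype.ofFinite α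
  have := Fintype.ofFinite β
  rw [← Nat.card_congr (Equiv.sigmaFiberEquiv f), Nat.card_eq_fintype_card, Fintype.card_sigma,
    Nat.card_eq_fintype_card (α := β), ← smul_eq_mul, ← Finset.card_univ, ← Finset.sum_const]
  apply Finset.sum_le_sum
  intro b _
  rw [← Nat.card_eq_fintype_card]
  exact h b

variable [Finite G]

instance piClass_finite (π : Set ℕ) (G : Type*) [Group G] [Finite G] : Finite (PiClass π G) :=
  inferInstanceAs (Finite {C : ConjClasses G // _})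

/-- The key counting inequality: `N`-orbits on π-elements of a coset. -/
theorem card_conjOrb_coset_le (π : Set ℕ) (N : Subgroup G) [N.Normal] (g : G)
    (hP : ∀ n ∈ N, ∀ x, (g⁻¹ * x ∈ N ∧ IsPiEl π x) → (g⁻¹ * (n * x * n⁻¹) ∈ N ∧ IsPiEl π (n * x * n⁻¹))) :
    Nat.card (ConjOrb N (fun x => g⁻¹ * x ∈ N ∧ IsPiEl π x) hP) ≤ Nat.card (PiClass π N) := by
  classical
  have hP2 : ∀ n ∈ N, ∀ x, (x ∈ N ∧ IsPiEl π x) → (n * x * n⁻¹ ∈ N ∧ IsPiEl π (n * x * n⁻¹)) :=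
    fun n hn x hx => ⟨N.mul_mem (N.mul_mem hn hx.1) (N.inv_mem hn), hx.2.conj n⟩
  have step1 : Nat.card {p : G × G // p.1 ∈ N ∧ (g⁻¹ * p.2 ∈ N ∧ IsPiEl π p.2) ∧ p.1 * p.2 = p.2 * p.1} ≤
      Nat.card {p : G × G // p.1 ∈ N ∧ IsPiEl π p.1 ∧ g⁻¹ * p.2 ∈ N ∧ p.1 * p.2 = p.2 * p.1} := by
    apply Nat.card_le_card_of_injective (fun p =>
      ⟨(piPart π p.1.1, p.1.2 * piRest π p.1.1), piPart_mem π _ p.2.1, piPart_isPiEl π _, by
        rw [← mul_assoc]; exact N.mul_mem p.2.2.1.1 (piRest_mem π _ p.2.1), by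
        have h1 : Commute p.1.1 p.1.2 := p.2.2.2
        have h2 : Commute p.1.2 (piPart π p.1.1) := h1.symm.pow_right _
        have h3 : Commute (piPart π p.1.1) (piRest π p.1.1) := (Commute.refl _).pow_pow _ _
        exact (h2.symm.mul_right h3).eq⟩)
    rintro ⟨⟨n, x⟩, hn, ⟨hx1, hx2⟩, hc⟩ ⟨⟨n', x'⟩, hn', ⟨hx1', hx2'⟩, hc'⟩ heq
    have e1 : piPart π n = piPart π n' := congrArg (fun z => z.1.1) heq
    have e2 : x * piRest π n = x' * piRest π n' := congrArg (fun z => z.1.2) heq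
    have hcx : Commute x (piRest π n) := (show Commute x n from Eq.symm hc).pow_right _
    have hcx' : Commute x' (piRest π n') := (show Commute x' n' from Eq.symm hc').pow_right _
    have u1 := piPart_unique π (show IsPiEl π x from hx2) (piRest_isPiEl π n) hcx
    have u2 := piPart_unique π (show IsPiEl π x' from hx2') (piRest_isPiEl π n') hcx'
    have e3 : x = x' := by rw [← u1.1, ← u2.1, e2]
    have e4 : piRest π n = piRest π n' := by rw [← u1.2, ← u2.2, e2]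
    have e5 : n = n' := by
      rw [← piPart_mul_piRest π n, ← piPart_mul_piRest π n', e1, e4]
    subst e3 e5
    rfl
  have step2 : Nat.card {p : G × G // p.1 ∈ N ∧ IsPiEl π p.1 ∧ g⁻¹ * p.2 ∈ N ∧ p.1 * p.2 = p.2 * p.1} ≤
      Nat.card {p : G × G // p.1 ∈ N ∧ (p.2 ∈ N ∧ IsPiEl π p.2) ∧ p.1 * p.2 = p.2 * p.1} := by
    let x0 : G → G := fun n => if h : ∃ x, g⁻¹ * x ∈ N ∧ n * x = x * n then h.choose else 1
    have hx0 : ∀ n x, g⁻¹ * x ∈ N → n * x = x * n → g⁻¹ * x0 n ∈ N ∧ n * x0 n = x0 n * n := by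
      intro n x h1 h2
      have h : ∃ x, g⁻¹ * x ∈ N ∧ n * x = x * n := ⟨x, h1, h2⟩
      have : x0 n = h.choose := by simp only [x0, dif_pos h]
      rw [this]; exact h.choose_spec
    apply Nat.card_le_card_of_injective (fun p =>
      ⟨((x0 p.1.1)⁻¹ * p.1.2, p.1.1), by
        have h := (hx0 p.1.1 p.1.2 p.2.2.2.1 p.2.2.2.2).1
        have e : (x0 p.1.1)⁻¹ * p.1.2 = (g⁻¹ * x0 p.1.1)⁻¹ * (g⁻¹ * p.1.2) := by group
        change (x0 p.1.1)⁻¹ * p.1.2 ∈ N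
        rw [e]; exact N.mul_mem (N.inv_mem h) p.2.2.2.1, ⟨p.2.1, p.2.2.1⟩, by
        have h := (hx0 p.1.1 p.1.2 p.2.2.2.1 p.2.2.2.2).2
        have h1 : Commute p.1.1 (x0 p.1.1) := h
        have h2 : Commute p.1.1 p.1.2 := p.2.2.2.2
        exact ((h1.inv_right.mul_right h2).symm).eq⟩)
    rintro ⟨⟨n, x⟩, hn, hx1, hx2, hc⟩ ⟨⟨n', x'⟩, hn', hx1', hx2', hc'⟩ heq
    have e1 : n = n' := congrArg (fun z => z.1.2) heq
    subst e1
    have e2 : (x0 n)⁻¹ * x = (x0 n)⁻¹ * x' := congrArg (fun z => z.1.1) heq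
    have e3 := mul_left_cancel e2
    subst e3
    rfl
  have step3 : Nat.card (ConjOrb N (fun x => x ∈ N ∧ IsPiEl π x) hP2) ≤ Nat.card (PiClass π N) := by
    apply Nat.card_le_card_of_injective (fun o =>
      (⟨ConjClasses.mk (⟨o.out.1, o.out.2.1⟩ : N), (mk_prop_iff π _).mpr (isPiEl_coe.mp o.out.2.2)⟩ : PiClass π N))
    intro o o' heq
    have h1 := ConjClasses.mk_eq_mk_iff_isConj.mp (congrArg Subtype.val heq)
    obtain ⟨c, hc⟩ := isConj_iff.mp h1
    have h2 := conjOrb_eq (hP := hP2) o.out o'.out ⟨c, c.2, congrArg Subtype.val hc⟩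
    rw [← Quotient.out_eq' o, ← Quotient.out_eq' o']
    exact h2
  have c1 := card_conjOrb_mul N (fun x => g⁻¹ * x ∈ N ∧ IsPiEl π x) hP
  have c2 := card_conjOrb_mul N (fun x => x ∈ N ∧ IsPiEl π x) hP2
  have hpos : 0 < Nat.card N := Nat.card_pos
  have h1 : Nat.card (ConjOrb N (fun x => g⁻¹ * x ∈ N ∧ IsPiEl π x) hP) * Nat.card N ≤
      Nat.card (ConjOrb N (fun x => x ∈ N ∧ IsPiEl π x) hP2) * Nat.card N := by
    rw [c1, c2]; exact step1.trans step2
  exact (Nat.le_of_mul_le_mul_right h1 hpos).trans step3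

/-- `k_π(G) ≤ k_π(N) k_π(G/N)`. -/
theorem card_piClass_le_mul (π : Set ℕ) (N : Subgroup G) [N.Normal] :
    Nat.card (PiClass π G) ≤ Nat.card (PiClass π (G ⧸ N)) * Nat.card (PiClass π N) := by
  classical
  have hprop : ∀ C : PiClass π G, ∃ x : G, ConjClasses.mk x = C.1 ∧ IsPiEl π x := by
    rintro ⟨C, hC⟩
    obtain ⟨x, rfl⟩ := ConjClasses.mk_surjective C
    exact ⟨x, rfl, (mk_prop_iff π x).mp hC⟩
  let f : PiClass π G → PiClass π (G ⧸ N) := fun C =>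
    ⟨ConjClasses.mk (QuotientGroup.mk' N (hprop C).choose),
      (mk_prop_iff π _).mpr ((hprop C).choose_spec.2.map _)⟩
  apply card_le_mul_of_fiber f
  rintro ⟨D, hD⟩
  obtain ⟨d, rfl⟩ := ConjClasses.mk_surjective D
  obtain ⟨g, rfl⟩ := QuotientGroup.mk'_surjective N d
  have hP : ∀ n ∈ N, ∀ x, (g⁻¹ * x ∈ N ∧ IsPiEl π x) → (g⁻¹ * (n * x * n⁻¹) ∈ N ∧ IsPiEl π (n * x * n⁻¹)) := by
    intro n hn x hx
    refine ⟨?_, hx.2.conj n⟩
    have e : g⁻¹ * (n * x * n⁻¹) = (g⁻¹ * n * g) * (g⁻¹ * x) * n⁻¹ := by group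
    rw [e]
    have h1 : g⁻¹ * n * g ∈ N := by
      have := Subgroup.Normal.conj_mem (inferInstance : N.Normal) n hn g⁻¹
      simpa using this
    exact N.mul_mem (N.mul_mem h1 hx.1) (N.inv_mem hn)
  refine le_trans ?_ (card_conjOrb_coset_le π N g hP)
  -- surjection from orbits onto the fibre
  let F : ConjOrb N (fun x => g⁻¹ * x ∈ N ∧ IsPiEl π x) hP → ConjClasses G := fun o => ConjClasses.mk (o.out : G)
  have hsub : ∀ a : {a : PiClass π G // f a = ⟨ConjClasses.mk (QuotientGroup.mk' N g), hD⟩},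
      ∃ o, F o = a.1.1 := by
    rintro ⟨C, hC⟩
    obtain ⟨hx1, hx2⟩ := (hprop C).choose_spec
    set x := (hprop C).choose with hx
    have h1 : ConjClasses.mk (QuotientGroup.mk' N x) = ConjClasses.mk (QuotientGroup.mk' N g) :=
      congrArg Subtype.val hC
    obtain ⟨c, hc⟩ := isConj_iff.mp (ConjClasses.mk_eq_mk_iff_isConj.mp h1)
    obtain ⟨h, rfl⟩ := QuotientGroup.mk'_surjective N c
    have h2 : g⁻¹ * (h * x * h⁻¹) ∈ N := by
      rw [← QuotientGroup.eq]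
      exact hc.symm
    let y : {x : G // g⁻¹ * x ∈ N ∧ IsPiEl π x} := ⟨h * x * h⁻¹, h2, hx2.conj h⟩
    refine ⟨Quotient.mk'' y, ?_⟩
    obtain ⟨n, hn, hny⟩ := conjOrb_out_conj (hP := hP) y
    change ConjClasses.mk _ = C.1
    rw [← hx1, ConjClasses.mk_eq_mk_iff_isConj]
    apply IsConj.symm
    rw [isConj_iff]
    refine ⟨n⁻¹ * h, ?_⟩
    have e : n⁻¹ * h * x * (n⁻¹ * h)⁻¹ = n⁻¹ * (h * x * h⁻¹) * n := by group
    rw [e]
    have e2 : h * x * h⁻¹ = n * ((Quotient.mk'' y : ConjOrb N (fun x => g⁻¹ * x ∈ N ∧ IsPiEl π x) hP).out : G) * n⁻¹ := hny.symm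
    rw [e2]; group
  choose φ hφ using hsub
  apply Nat.card_le_card_of_injective φ
  intro a b hab
  apply Subtype.ext
  apply Subtype.ext
  rw [← hφ a, ← hφ b, hab]

end CfsgLib.H6
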