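import Cfsg.Agent.LibH6BrD
import Cfsg.Agent.LibNpc9
import Cfsg.Agent.LibPSolv19
import Cfsg.Agent.S0947
/-!
# Pairs of elements of order `p` generating `p`-solvable subgroups (helper6)
-/
set_option autoImplicit false
set_option linter.all false
open Cfsg CfsgLib.CharBasic
open CfsgLib.CharInt (irr_one_eq_charDegree irr_charDegree_pos)
open scoped ComplexConjugate Pointwise
namespace CfsgLib.H6Pz

universe u

/-- a `p`-solvable group with abelian Sylow `p`-subgroups generated by `p`-elements has a normal `p`-complement -/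
theorem index_of_psolv {H : Type u} [Group H] [Finite H] {p : ℕ} [hp : Fact p.Prime] (h : IsPSolvable p H)
    (hab : ∀ S : Sylow p H, ∀ a ∈ S, ∀ b ∈ S, a * b = b * a) {U : Set H} (hU : Subgroup.closure U = ⊤)
    (hUp : ∀ u ∈ U, ∃ k : ℕ, orderOf u = p ^ k) : IsPGroup p (H ⧸ pPrimeCore p H) := by
  have h1 := CfsgLib.PSolv19.psolv_quotient hp.out h (pPrimeCore p H)
  have h2 := CfsgLib.PSolv19.hall_higman h1 (CfsgLib.Cores.pPrimeCore_quotient_pPrimeCore p)
  obtain ⟨S⟩ : Nonempty (Sylow p H) := inferInstance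
  set π := QuotientGroup.mk' (pPrimeCore p H) with hπ
  have hsurj : Function.Surjective π := QuotientGroup.mk'_surjective _
  -- the image of `S` is a Sylow subgroup
  let T : Sylow p (H ⧸ pPrimeCore p H) := S.mapSurjective hsurj
  have hT : (T : Subgroup (H ⧸ pPrimeCore p H)) = (S : Subgroup H).map π := rfl
  have hO : pCore p (H ⧸ pPrimeCore p H) ≤ (T : Subgroup (H ⧸ pPrimeCore p H)) := CfsgLib.Cores.pCore_le_sylow T
  have hT2 : (T : Subgroup (H ⧸ pPrimeCore p H)) ≤ pCore p (H ⧸ pPrimeCore p H) := by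
    refine le_trans ?_ h2
    intro t ht
    rw [Subgroup.mem_centralizer_iff]
    intro o ho
    have ho' := hO ho
    rw [hT] at ht ho'
    obtain ⟨s, hs, rfl⟩ := ht
    obtain ⟨r, hr, rfl⟩ := ho'
    rw [← map_mul, ← map_mul, hab S r hr s hs]
  have hTe : (T : Subgroup (H ⧸ pPrimeCore p H)) = pCore p (H ⧸ pPrimeCore p H) := le_antisymm hT2 hO
  have htop : pCore p (H ⧸ pPrimeCore p H) = ⊤ := by
    rw [eq_top_iff]
    have h3 : (⊤ : Subgroup (H ⧸ pPrimeCore p H)) = Subgroup.closure (π '' U) := by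
      rw [← MonoidHom.map_closure, hU, ← MonoidHom.range_eq_map, MonoidHom.range_eq_top.2 hsurj]
    rw [h3, Subgroup.closure_le]
    rintro _ ⟨u, hu, rfl⟩
    obtain ⟨k, hk⟩ := hUp u hu
    have h4 : IsPGroup p (Subgroup.zpowers (π u)) := by
      have h5 : orderOf (π u) ∣ p ^ k := by rw [← hk]; exact orderOf_map_dvd π u
      obtain ⟨m, _, hm⟩ := (Nat.dvd_prime_pow hp.out).1 h5
      exact IsPGroup.of_card (n := m) (by rw [Nat.card_zpowers, hm])
    obtain ⟨R, hR⟩ := h4.exists_le_sylow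
    haveI : (T : Subgroup (H ⧸ pPrimeCore p H)).Normal := by rw [hTe]; infer_instance
    have hRT : R = T := by
      haveI := Sylow.unique_of_normal T inferInstance
      exact Subsingleton.elim _ _
    have h6 : π u ∈ (R : Subgroup (H ⧸ pPrimeCore p H)) := hR (Subgroup.mem_zpowers _)
    rw [hRT, hTe] at h6
    exact h6
  have h7 := CfsgLib.Cores.pCore_isPGroup (G := H ⧸ pPrimeCore p H) p
  rw [htop] at h7
  exact h7.of_equiv Subgroup.topEquiv

section
variable {G : Type u} [Group G] [Finite G]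

theorem eq_one_of_reg {Q : Type u} [Group Q] {p : ℕ} [hp : Fact p.Prime] (hQ : IsPGroup p Q) {H : Type u} [Group H] [Finite H]
    (f : H →* Q) {w : H} (hw : ¬ p ∣ orderOf w) : f w = 1 := by
  obtain ⟨k, hk⟩ := hQ (f w)
  have h1 : orderOf (f w) ∣ p ^ k := orderOf_dvd_of_pow_eq_one hk
  obtain ⟨m, _, hm⟩ := (Nat.dvd_prime_pow hp.out).1 h1
  have h2 : orderOf (f w) ∣ orderOf w := orderOf_map_dvd f w
  rcases Nat.eq_zero_or_pos m with h | h
  · rw [h, pow_zero] at hm
    exact orderOf_eq_one_iff.1 hm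
  · exfalso
    apply hw
    refine dvd_trans ?_ h2
    rw [hm]; exact dvd_pow_self p h.ne'

theorem main [IsSimpleGroup G] (hna : ∃ x y : G, x * y ≠ y * x) {p : ℕ} [hp : Fact p.Prime] (P : Sylow p G)
    (hP1 : (P : Subgroup G) ≠ ⊥) (hPe : IsElementaryAbelian p (P : Subgroup G))
    (hconj : ∀ x ∈ (P : Subgroup G), ∀ y ∈ (P : Subgroup G), x ≠ 1 → y ≠ 1 → ∃ g : G, g * x * g⁻¹ = y)
    (hb : ∀ x ∈ (P : Subgroup G), orderOf x = p → HasNormalPComplement p ↥(Subgroup.centralizer ({x} : Set G)))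
    (hc : ∀ x y : G, orderOf x = p → orderOf y = p → IsPSolvable p ↥(Subgroup.closure ({x, y} : Set G))) :
    p = 2 := by
  classical
  letI : Fintype G := Fintype.ofFinite G
  by_contra hp2
  have hp3 : 3 ≤ p := by have := hp.out.two_le; omega
  have habP : ∀ a ∈ (P : Subgroup G), ∀ b ∈ (P : Subgroup G), a * b = b * a := by
    intro a ha b hb
    have := hPe.1.is_comm.comm (⟨a, ha⟩ : (P : Subgroup G)) ⟨b, hb⟩
    exact congrArg Subtype.val this
  obtain ⟨x, hxP, hx1⟩ : ∃ x ∈ (P : Subgroup G), x ≠ 1 := by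
    obtain ⟨x, hx⟩ := (Subgroup.ne_bot_iff_exists_ne_one).1 hP1
    exact ⟨x, x.2, fun h => hx (Subtype.ext h)⟩
  have hox : orderOf x = p := orderOf_eq_prime (hPe.2 x hxP) hx1
  -- all p-elements are conjugate
  have hpel : ∀ w : G, w ≠ 1 → (∃ k : ℕ, orderOf w = p ^ k) → IsConj x w := by
    rintro w hw ⟨k, hk⟩
    have h1 : IsPGroup p (Subgroup.zpowers w) := IsPGroup.of_card (n := k) (by rw [Nat.card_zpowers, hk])
    obtain ⟨Q, hQ⟩ := h1.exists_le_sylow
    obtain ⟨g, rfl⟩ := MulAction.exists_smul_eq G P Q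
    have h2 : w ∈ ((g • P : Sylow p G) : Subgroup G) := hQ (Subgroup.mem_zpowers w)
    rw [Sylow.coe_subgroup_smul, Subgroup.mem_pointwise_smul_iff_inv_smul_mem] at h2
    have h3 : g⁻¹ * w * g ∈ (P : Subgroup G) := by simpa [MulAut.smul_def] using h2
    have h4 : g⁻¹ * w * g ≠ 1 := by
      intro h; apply hw
      have : w = g * (g⁻¹ * w * g) * g⁻¹ := by group
      rw [this, h]; group
    obtain ⟨c, hc⟩ := hconj x hxP _ h3 hx1 h4
    rw [isConj_iff]
    refine ⟨g * c, ?_⟩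
    calc g * c * x * (g * c)⁻¹ = g * (c * x * c⁻¹) * g⁻¹ := by group
      _ = w := by rw [hc]; group
  -- the centralizer of x
  set C := Subgroup.centralizer ({x} : Set G) with hC
  have hPC : (P : Subgroup G) ≤ C := by
    intro y hy
    rw [hC, Subgroup.mem_centralizer_singleton_iff]
    exact habP y hy x hxP
  have hidx : ∃ k, (pPrimeCore p C).index = p ^ k := CfsgLib.Npc9.hnpc_iff_pPrimeCore.1 (hb x hxP hox)
  set q := Nat.card (P : Subgroup G) with hq
  have hqp : q = p ^ (Nat.card G).factorization p := P.card_eq_multiplicity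
  have hCfac : p ^ (Nat.card C).factorization p = q := by
    rw [hqp]
    congr 1
    apply le_antisymm
    · exact (Nat.factorization_le_iff_dvd Nat.card_pos.ne' Nat.card_pos.ne').2 (Subgroup.card_subgroup_dvd_card _) p
    · rw [← hp.out.pow_dvd_iff_le_factorization Nat.card_pos.ne', ← hqp]
      exact Subgroup.card_dvd_of_le hPC
  have hq1 : 1 < q := by
    rw [hq]; exact (Subgroup.one_lt_card_iff_ne_bot _).2 hP1
  obtain ⟨M, hM⟩ := CfsgLib.DZ19.exists_modular p
  have hM' := CfsgLib.BlockR.isPrime_of_modular hM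
  -- constancy on the principal block
  have hconst : ∀ χ ∈ principalBlock M G, ∀ g, p ∣ orderOf g → (χ : G → ℂ) g = (χ : G → ℂ) x := by
    intro χ hχ g hg
    obtain ⟨w, hw⟩ := CfsgLib.BlockOrth.isPPart_exists p g
    have hw1 : w ≠ 1 := CfsgLib.BlockOrth.ppart_ne_one hw hg
    obtain ⟨c, hc⟩ := isConj_iff.1 (hpel w hw1 hw.choose_spec.2.2.1)
    have h1 := CfsgLib.BlockOrth.isPPart_conj hw c⁻¹
    have e1 : c⁻¹ * w * c⁻¹⁻¹ = x := by rw [← hc]; group
    rw [e1] at h1
    obtain ⟨y, hy1, hy2, -, hy3⟩ := h1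
    have hyC : y ∈ Subgroup.centralizer ({x} : Set G) := by
      rw [Subgroup.mem_centralizer_singleton_iff]; exact hy2.eq.symm
    have hyO : (⟨y, hyC⟩ : Subgroup.centralizer ({x} : Set G)) ∈ pPrimeCore p (Subgroup.centralizer ({x} : Set G)) := by
      letI : Fintype (Subgroup.centralizer ({x} : Set G)) := Fintype.ofFinite _
      apply CfsgLib.BlockCov2.mem_of_reg_of_pindex _ hidx
      rwa [← Subgroup.orderOf_coe]
    have h2 := CfsgLib.BlockSec2.principal_const hM ⟨1, by rw [hox, pow_one]⟩ hyO hχ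
    have h3 := irr_classFun χ.2 g c⁻¹
    rw [← h3, ← hy1, ← h2]
  -- integrality
  have hint : ∀ χ : IrrCharacter G, ∃ c : ℤ, (χ : G → ℂ) x = c := by
    intro χ
    have hχ := irr_isCharacter χ.2
    apply CfsgLib.GalChar.exists_int_of_fixed (char_isIntegral hχ x)
    intro σ
    obtain ⟨k, hk, hk2⟩ := CfsgLib.GalChar.exists_coprime_of_gal G σ
    rw [← hk2 _ hχ]
    have hpk : ¬ p ∣ k := by
      intro h
      have h3 : p ∣ Nat.card G := by rw [← hox]; exact orderOf_dvd_natCard x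
      have := Nat.dvd_gcd h h3
      rw [hk] at this
      exact hp.out.one_lt.ne' (Nat.dvd_one.1 this)
    have h5 : orderOf (x ^ k) = p := by
      rw [Nat.Coprime.orderOf_pow, hox]
      rw [hox]
      exact (Nat.Prime.coprime_iff_not_dvd hp.out).2 hpk
    obtain ⟨c, hc⟩ := isConj_iff.1 (hpel (x ^ k) (by intro h; rw [h, orderOf_one] at h5; omega) ⟨1, by rw [h5, pow_one]⟩)
    rw [← hc]
    exact irr_classFun χ.2 _ _
  choose c hcv using hint
  have hn : ∀ χ : IrrCharacter G, (χ : G → ℂ) 1 = ((charDegree (χ : G → ℂ) : ℕ) : ℂ) := fun χ => irr_one_eq_charDegree χ.2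
  obtain ⟨i₀, hi₀⟩ : ∃ i₀ : IrrCharacter G, ∀ g, (i₀ : G → ℂ) g = 1 := ⟨⟨_, isIrrCharacter_one⟩, fun g => rfl⟩
  have hi₀B : i₀ ∈ principalBlock M G := by
    have h1 : i₀ = CfsgLib.Klein.one G := Subtype.ext (by funext g; rw [hi₀]; rfl)
    rw [h1]; exact CfsgLib.BlockIdem.sameBlock_refl hM' _
  have hc0 : c i₀ = 1 := by have := hcv i₀; rw [hi₀] at this; exact_mod_cast this.symm
  have hn0 : charDegree (i₀ : G → ℂ) = 1 := by have := hn i₀; rw [hi₀] at this; exact_mod_cast this.symm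
  have hne : ∀ i : IrrCharacter G, i ≠ i₀ → (i : G → ℂ) ≠ fun _ => 1 := by
    intro i hi h
    apply hi
    apply Subtype.ext
    rw [h]; funext g; exact (hi₀ g).symm
  -- congruence
  have hcong : ∀ i ∈ principalBlock M G, (q : ℤ) ∣ (charDegree (i : G → ℂ) : ℤ) - c i := by
    intro i hi
    letI : Fintype (P : Subgroup G) := Fintype.ofFinite _
    obtain ⟨m, hm⟩ : ∃ m : ℤ, classInner (fun s : (P : Subgroup G) => (i : G → ℂ) s)
        (fun _ : (P : Subgroup G) => (1 : ℂ)) = m :=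
      gen_inner_int (CfsgLib.CharIndA.gen_restrict (gen_of_irr i.2) _) (gen_of_irr isIrrCharacter_one)
    have h4 : ∀ s : (P : Subgroup G), (i : G → ℂ) s =
        c i + (if s = 1 then ((charDegree (i : G → ℂ) : ℕ) : ℂ) - c i else 0) := by
      intro s
      by_cases hs : s = 1
      · rw [if_pos hs, hs, OneMemClass.coe_one, hn]; ring
      · have hb1 : (s : G) ≠ 1 := fun hh => hs (Subtype.ext hh)
        rw [if_neg hs, add_zero, ← hcv]
        apply hconst i hi
        rw [orderOf_eq_prime (hPe.2 s s.2) hb1]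
    rw [inner_one_right, Finset.sum_congr rfl (fun s _ => h4 s), Finset.sum_add_distrib,
      Finset.sum_const, Finset.sum_ite_eq' Finset.univ 1, if_pos (Finset.mem_univ _), Finset.card_univ,
      ← Nat.card_eq_fintype_card, ← hq] at hm
    have hq0 : (q : ℂ) ≠ 0 := by exact_mod_cast (by omega : q ≠ 0)
    have h5 : ((charDegree (i : G → ℂ) : ℕ) : ℂ) - c i = q * (m - c i) := by
      rw [← hm, nsmul_eq_mul]; field_simp; ring
    exact ⟨m - c i, by exact_mod_cast h5⟩
  have habs : ∀ i : IrrCharacter G, i ≠ i₀ → |c i| < (charDegree (i : G → ℂ) : ℤ) := by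
    intro i hi
    have hnorm := CfsgLib.H6Br.norm_lt hna i.2 (hne i hi) hx1
    have hle : ‖(i : G → ℂ) x‖ ≤ ‖(i : G → ℂ) 1‖ := by
      obtain ⟨m, ρ, hρ, hρi⟩ := i.2
      rw [← hρi]
      have := norm_character_le ρ x
      rw [Representation.char_one]
      simpa using this
    have hlt := lt_of_le_of_ne hle hnorm
    rw [hcv, hn] at hlt
    have h1 : ‖((c i : ℤ) : ℂ)‖ = ((|c i| : ℤ) : ℝ) := by
      rw [Complex.norm_intCast]; push_cast; rfl
    have h2 : ‖((charDegree (i : G → ℂ) : ℕ) : ℂ)‖ = (charDegree (i : G → ℂ) : ℝ) := Complex.norm_natCast _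
    rw [h1, h2] at hlt
    exact_mod_cast hlt
  -- the finset of the block
  set B : Finset (IrrCharacter G) := (Set.toFinite (principalBlock M G)).toFinset with hBdef
  have hBm : ∀ i, i ∈ B ↔ i ∈ principalBlock M G := fun i => by rw [hBdef, Set.Finite.mem_toFinset]
  have hfin : ∀ F : IrrCharacter G → ℂ, ∑ᶠ χ ∈ principalBlock M G, F χ = ∑ χ ∈ B, F χ := fun F =>
    finsum_mem_eq_finite_toFinset_sum F (Set.toFinite _)
  have hi₀B' : i₀ ∈ B := (hBm i₀).2 hi₀B
  have hBlk : IsPBlock M (principalBlock M G) := CfsgLib.PB20.isPBlock_principal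
  -- the norm
  have hnorm : ∑ i ∈ B, c i ^ 2 = q := by
    have h1 := (Cfsg.Agent.S0947.result p M hM x ⟨1, by rw [hox, pow_one]⟩ hx1 1 (by rw [orderOf_one, Nat.dvd_one]; exact hp.out.ne_one)).2 hidx
    rw [hCfac, finsum_mem_eq_finite_toFinset_sum _ (Set.toFinite _)] at h1
    have h2 : ∑ i ∈ B, ((c i : ℝ)) ^ 2 = (q : ℝ) := by
      rw [← h1]
      refine Finset.sum_congr rfl fun i _ => ?_
      rw [OneMemClass.coe_one, mul_one, hcv, Complex.norm_intCast, sq_abs]
    exact_mod_cast h2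
  -- orthogonality
  have horth : ∀ y : G, ¬ p ∣ orderOf y → ∑ i ∈ B, (c i : ℂ) * (i : G → ℂ) y = 0 := by
    intro y hy
    have h1 := CfsgLib.BlockOrth.weak_block_orth hM hBlk hy (y := x) (by rw [hox])
    rw [hfin] at h1
    rw [← h1]
    refine Finset.sum_congr rfl fun i _ => ?_
    rw [hcv, map_intCast]; ring
  have hsing : ∀ y : G, p ∣ orderOf y → ∑ i ∈ B, (c i : ℂ) * (i : G → ℂ) y = q := by
    intro y hy
    have h2 : ∑ i ∈ B, (c i : ℂ) * (i : G → ℂ) y = ((∑ i ∈ B, c i ^ 2 : ℤ) : ℂ) := by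
      push_cast
      refine Finset.sum_congr rfl fun i hi => ?_
      rw [hconst i ((hBm i).1 hi) y hy, hcv]; ring
    rw [h2, hnorm]; rfl
  have hdegsum : ∑ i ∈ B, c i * (charDegree (i : G → ℂ) : ℤ) = 0 := by
    have h1 := horth 1 (by rw [orderOf_one, Nat.dvd_one]; exact hp.out.ne_one)
    have h2 : ((∑ i ∈ B, c i * (charDegree (i : G → ℂ) : ℤ) : ℤ) : ℂ) = 0 := by
      push_cast
      rw [← h1]
      refine Finset.sum_congr rfl fun i _ => ?_
      rw [hn]
    exact_mod_cast h2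
  -- the key estimate
  have hT : 2 * ∑ i ∈ B, (c i : ℝ) ^ 3 / (charDegree (i : G → ℂ) : ℝ) < q := by
    obtain ⟨i₁, hi₁, hneg⟩ : ∃ i ∈ B, c i < 0 := by
      by_contra hcon
      push Not at hcon
      have h1 : c i₀ * (charDegree (i₀ : G → ℂ) : ℤ) ≤ ∑ i ∈ B, c i * (charDegree (i : G → ℂ) : ℤ) :=
        Finset.single_le_sum (f := fun i : IrrCharacter G => c i * (charDegree (i : G → ℂ) : ℤ)) (fun i hi => mul_nonneg (hcon i hi) (by positivity)) hi₀B'
      rw [hdegsum, hc0, hn0] at h1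
      norm_num at h1
    have hi₁0 : i₁ ≠ i₀ := by rintro rfl; rw [hc0] at hneg; omega
    have hpos : ∀ i : IrrCharacter G, (0 : ℝ) < (charDegree (i : G → ℂ) : ℝ) := fun i => by exact_mod_cast irr_charDegree_pos i.2
    have hnn : ∀ i ∈ B, i ≠ i₀ → 0 ≤ (c i : ℝ) ^ 2 - 2 * ((c i : ℝ) ^ 3 / (charDegree (i : G → ℂ) : ℝ)) := by
      intro i hi hi0
      have h2c : 2 * c i ≤ (charDegree (i : G → ℂ) : ℤ) := by
        rcases le_or_gt (c i) 0 with h | h
        · have := irr_charDegree_pos i.2; omega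
        · -- c < q
          have h1 : c i₀ ^ 2 + c i ^ 2 ≤ q := by
            rw [← hnorm, ← Finset.sum_pair (f := fun j => c j ^ 2) hi0.symm]
            apply Finset.sum_le_sum_of_subset_of_nonneg
            · intro j hj
              rw [Finset.mem_insert, Finset.mem_singleton] at hj
              rcases hj with rfl | rfl
              · exact hi₀B'
              · exact hi
            · intro j _ _; positivity
          rw [hc0] at h1
          have h2 : c i < q := by nlinarith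
          obtain ⟨t, ht⟩ := hcong i ((hBm i).1 hi)
          have h3 := habs i hi0
          rw [abs_of_pos h] at h3
          have h4 : 1 ≤ t := by
            by_contra ht'
            have : t ≤ 0 := by omega
            have : (q : ℤ) * t ≤ 0 := mul_nonpos_of_nonneg_of_nonpos (by positivity) this
            omega
          have h5 : (q : ℤ) ≤ q * t := by nlinarith
          omega
      have h2c' : 2 * (c i : ℝ) ≤ (charDegree (i : G → ℂ) : ℝ) := by exact_mod_cast h2c
      have e : (c i : ℝ) ^ 2 - 2 * ((c i : ℝ) ^ 3 / (charDegree (i : G → ℂ) : ℝ)) =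
          (c i : ℝ) ^ 2 * (((charDegree (i : G → ℂ) : ℝ) - 2 * c i) / (charDegree (i : G → ℂ) : ℝ)) := by
        have := (hpos i).ne'
        field_simp
      rw [e]
      apply mul_nonneg (sq_nonneg _)
      apply div_nonneg (by linarith) (hpos i).le
    have h1 : (1 : ℝ) < (c i₁ : ℝ) ^ 2 - 2 * ((c i₁ : ℝ) ^ 3 / (charDegree (i₁ : G → ℂ) : ℝ)) := by
      have h3 : (c i₁ : ℝ) ≤ -1 := by
        have : c i₁ ≤ -1 := by omega
        exact_mod_cast this
      have h4 : (c i₁ : ℝ) ^ 3 < 0 := by nlinarith [sq_nonneg (c i₁ : ℝ)]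
      have h5 : (c i₁ : ℝ) ^ 3 / (charDegree (i₁ : G → ℂ) : ℝ) < 0 := div_neg_of_neg_of_pos h4 (hpos i₁)
      nlinarith
    have h2 : 0 < ∑ i ∈ B, ((c i : ℝ) ^ 2 - 2 * ((c i : ℝ) ^ 3 / (charDegree (i : G → ℂ) : ℝ))) := by
      rw [← Finset.sum_erase_add _ _ hi₀B', ← Finset.sum_erase_add _ _ (Finset.mem_erase.2 ⟨hi₁0, hi₁⟩)]
      have h6 : 0 ≤ ∑ i ∈ (B.erase i₀).erase i₁, ((c i : ℝ) ^ 2 - 2 * ((c i : ℝ) ^ 3 / (charDegree (i : G → ℂ) : ℝ))) := by
        apply Finset.sum_nonneg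
        intro i hi
        have := Finset.mem_erase.1 (Finset.mem_of_mem_erase hi)
        exact hnn i this.2 this.1
      rw [hc0, hn0]
      have e7 : (((1 : ℤ) : ℝ) ^ 2 - 2 * (((1 : ℤ) : ℝ) ^ 3 / ((1 : ℕ) : ℝ))) = -1 := by norm_num
      rw [e7]
      linarith
    rw [Finset.sum_sub_distrib, ← Finset.mul_sum] at h2
    have h7 : ∑ i ∈ B, (c i : ℝ) ^ 2 = q := by
      have : ((∑ i ∈ B, c i ^ 2 : ℤ) : ℝ) = ((q : ℤ) : ℝ) := by rw [hnorm]
      push_cast at this
      exact this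
    rw [h7] at h2
    linarith
  -- counting
  have hcount : ∀ a : G, IsConj x a → 2 * (Finset.univ.filter (fun g : G => p ∣ orderOf (g * a * g⁻¹ * x⁻¹))).card < Nat.card G := by
    intro a ha
    have hxinv : ∀ i : IrrCharacter G, (i : G → ℂ) x⁻¹ = c i := by
      intro i
      obtain ⟨k, hk⟩ := isConj_iff.1 (hpel x⁻¹ (by intro h; exact hx1 (inv_eq_one.1 h)) ⟨1, by rw [orderOf_inv, hox, pow_one]⟩)
      rw [← hk, ← hcv]
      exact irr_classFun i.2 _ _
    have hav : ∀ i : IrrCharacter G, (i : G → ℂ) a = c i := by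
      intro i
      obtain ⟨k, hk⟩ := isConj_iff.1 ha
      rw [← hk, ← hcv]
      exact irr_classFun i.2 _ _
    have h1 : ∑ g : G, ∑ i ∈ B, (c i : ℂ) * (i : G → ℂ) (g * a * g⁻¹ * x⁻¹) =
        (Nat.card G : ℂ) * ∑ i ∈ B, (c i : ℂ) ^ 3 / (charDegree (i : G → ℂ) : ℂ) := by
      rw [Finset.sum_comm, Finset.mul_sum]
      refine Finset.sum_congr rfl fun i _ => ?_
      rw [← Finset.mul_sum, CfsgLib.BlockOrth.sum_conj_mul i.2, hav, hxinv, hn]
      ring
    have h2 : ∑ g : G, ∑ i ∈ B, (c i : ℂ) * (i : G → ℂ) (g * a * g⁻¹ * x⁻¹) =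
        ((Finset.univ.filter (fun g : G => p ∣ orderOf (g * a * g⁻¹ * x⁻¹))).card : ℂ) * q := by
      have h3 : ∀ g : G, ∑ i ∈ B, (c i : ℂ) * (i : G → ℂ) (g * a * g⁻¹ * x⁻¹) =
          if p ∣ orderOf (g * a * g⁻¹ * x⁻¹) then (q : ℂ) else 0 := by
        intro g
        by_cases h : p ∣ orderOf (g * a * g⁻¹ * x⁻¹)
        · rw [if_pos h]; exact hsing _ h
        · rw [if_neg h]; exact horth _ h
      rw [Finset.sum_congr rfl (fun g _ => h3 g), ← Finset.sum_filter, Finset.sum_const, nsmul_eq_mul]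
    rw [h2] at h1
    have h4 : ((Finset.univ.filter (fun g : G => p ∣ orderOf (g * a * g⁻¹ * x⁻¹))).card : ℝ) * q =
        (Nat.card G : ℝ) * ∑ i ∈ B, (c i : ℝ) ^ 3 / (charDegree (i : G → ℂ) : ℝ) := by
      have : ((((Finset.univ.filter (fun g : G => p ∣ orderOf (g * a * g⁻¹ * x⁻¹))).card : ℝ) * q : ℝ) : ℂ) =
        (((Nat.card G : ℝ) * ∑ i ∈ B, (c i : ℝ) ^ 3 / (charDegree (i : G → ℂ) : ℝ) : ℝ) : ℂ) := by
        push_cast
        exact h1
      exact_mod_cast this
    have hGpos : (0 : ℝ) < Nat.card G := by exact_mod_cast Nat.card_pos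
    have hqpos : (0 : ℝ) < q := by exact_mod_cast (by omega : 0 < q)
    have h5 : 2 * (((Finset.univ.filter (fun g : G => p ∣ orderOf (g * a * g⁻¹ * x⁻¹))).card : ℝ) * q) < (Nat.card G : ℝ) * q := by
      rw [h4]
      have := mul_lt_mul_of_pos_left hT hGpos
      linarith
    have h6 : 2 * ((Finset.univ.filter (fun g : G => p ∣ orderOf (g * a * g⁻¹ * x⁻¹))).card : ℝ) < (Nat.card G : ℝ) := by
      by_contra hcon
      push Not at hcon
      have := mul_le_mul_of_nonneg_right hcon hqpos.le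
      linarith
    exact_mod_cast h6
  -- a good element
  obtain ⟨g, hg1, hg2⟩ : ∃ g : G, ¬ p ∣ orderOf (g * x * g⁻¹ * x⁻¹) ∧ ¬ p ∣ orderOf (g * x⁻¹ * g⁻¹ * x⁻¹) := by
    have h1 := hcount x (IsConj.refl x)
    have h2 := hcount x⁻¹ (hpel x⁻¹ (by intro h; exact hx1 (inv_eq_one.1 h)) ⟨1, by rw [orderOf_inv, hox, pow_one]⟩)
    by_contra hcon
    push Not at hcon
    have h3 : (Finset.univ : Finset G) ⊆ (Finset.univ.filter (fun g : G => p ∣ orderOf (g * x * g⁻¹ * x⁻¹))) ∪
        (Finset.univ.filter (fun g : G => p ∣ orderOf (g * x⁻¹ * g⁻¹ * x⁻¹))) := by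
      intro g _
      rw [Finset.mem_union, Finset.mem_filter, Finset.mem_filter]
      by_cases h : p ∣ orderOf (g * x * g⁻¹ * x⁻¹)
      · left; exact ⟨Finset.mem_univ _, h⟩
      · right; exact ⟨Finset.mem_univ _, hcon g h⟩
    have h4 := (Finset.card_le_card h3).trans (Finset.card_union_le _ _)
    rw [Finset.card_univ, ← Nat.card_eq_fintype_card] at h4
    omega
  -- the contradiction
  set y := g * x * g⁻¹ with hy
  have hoy : orderOf y = p := by
    rw [← hox]; exact (MulAut.conj g).orderOf_eq x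
  set H := Subgroup.closure ({x, y} : Set G) with hH
  have hxH : x ∈ H := Subgroup.subset_closure (by simp)
  have hyH : y ∈ H := Subgroup.subset_closure (by simp)
  have hHs := hc x y hox hoy
  have hHab : ∀ S : Sylow p H, ∀ a ∈ S, ∀ b ∈ S, a * b = b * a := by
    intro S a ha b hb
    have h1 : IsPGroup p ((S : Subgroup H).map H.subtype) := S.2.map _
    obtain ⟨Q, hQ⟩ := h1.exists_le_sylow
    obtain ⟨k, rfl⟩ := MulAction.exists_smul_eq G P Q
    have key : ∀ w : H, w ∈ S → k⁻¹ * (w : G) * k ∈ (P : Subgroup G) := by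
      intro w hw
      have h2 : (w : G) ∈ ((k • P : Sylow p G) : Subgroup G) := hQ (Subgroup.mem_map_of_mem _ hw)
      rw [Sylow.coe_subgroup_smul, Subgroup.mem_pointwise_smul_iff_inv_smul_mem] at h2
      simpa [MulAut.smul_def] using h2
    have h3 := habP _ (key a ha) _ (key b hb)
    apply Subtype.ext
    show (a : G) * b = b * a
    calc (a : G) * b = k * ((k⁻¹ * (a : G) * k) * (k⁻¹ * (b : G) * k)) * k⁻¹ := by group
      _ = (b : G) * a := by rw [h3]; group
  have hgen : Subgroup.closure ({(⟨x, hxH⟩ : H), ⟨y, hyH⟩} : Set H) = ⊤ := by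
    rw [eq_top_iff]
    have h1 : (Subgroup.closure ({(⟨x, hxH⟩ : H), ⟨y, hyH⟩} : Set H)).map H.subtype = H := by
      rw [MonoidHom.map_closure, Set.image_pair]; rfl
    intro w _
    have h2 : (w : G) ∈ (Subgroup.closure ({(⟨x, hxH⟩ : H), ⟨y, hyH⟩} : Set H)).map H.subtype := by rw [h1]; exact w.2
    obtain ⟨v, hv, hvw⟩ := h2
    have : v = w := Subtype.ext hvw
    rw [← this]; exact hv
  have hpg := index_of_psolv hHs hHab hgen (by
    intro u hu
    rw [Set.mem_insert_iff, Set.mem_singleton_iff] at hu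
    rcases hu with rfl | rfl
    · exact ⟨1, by rw [Subgroup.orderOf_mk, hox, pow_one]⟩
    · exact ⟨1, by rw [Subgroup.orderOf_mk, hoy, pow_one]⟩)
  set π := QuotientGroup.mk' (pPrimeCore p H) with hπ
  set X : H := ⟨x, hxH⟩ with hX
  set Y : H := ⟨y, hyH⟩ with hY
  have e1 : π (Y * X⁻¹) = 1 := by
    apply eq_one_of_reg hpg
    have : orderOf (Y * X⁻¹) = orderOf (g * x * g⁻¹ * x⁻¹) := by
      rw [← Subgroup.orderOf_coe]; rfl
    rw [this]; exact hg1
  have e2 : π (Y⁻¹ * X⁻¹) = 1 := by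
    apply eq_one_of_reg hpg
    have : orderOf (Y⁻¹ * X⁻¹) = orderOf (g * x⁻¹ * g⁻¹ * x⁻¹) := by
      rw [← Subgroup.orderOf_coe]
      congr 1
      show y⁻¹ * x⁻¹ = g * x⁻¹ * g⁻¹ * x⁻¹
      rw [hy]; group
    rw [this]; exact hg2
  rw [map_mul, map_inv, mul_inv_eq_one] at e1
  rw [map_mul, map_inv, map_inv, e1, ← mul_inv_rev, inv_eq_one] at e2
  -- π X * π X = 1, so π X = 1
  have e3 : π X = 1 := by
    have h1 : orderOf (π X) ∣ 2 := orderOf_dvd_of_pow_eq_one (by rw [pow_two]; exact e2)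
    have h2 : orderOf (π X) ∣ p := by
      have h3 : orderOf X = p := by rw [← hox, hX, Subgroup.orderOf_mk]
      have h4 := orderOf_map_dvd π X
      rwa [h3] at h4
    have h3 : orderOf (π X) ∣ Nat.gcd 2 p := Nat.dvd_gcd h1 h2
    have h4 : Nat.gcd 2 p = 1 := (Nat.coprime_primes Nat.prime_two hp.out).2 (fun h => hp2 h.symm)
    rw [h4, Nat.dvd_one] at h3
    exact orderOf_eq_one_iff.1 h3
  have h5 : X ∈ pPrimeCore p H := (QuotientGroup.eq_one_iff X).1 e3
  have h6 : p ∣ Nat.card (pPrimeCore p H) := by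
    have h7 : orderOf X = p := by rw [← hox, hX, Subgroup.orderOf_mk]
    have h8 := Subgroup.orderOf_dvd_natCard _ h5
    rwa [h7] at h8
  have h7 := CfsgLib.Cores.pPrimeCore_coprime (G := H) p
  rw [Nat.coprime_comm, Nat.Prime.coprime_iff_not_dvd hp.out] at h7
  exact h7 h6

end
end CfsgLib.H6Pz
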