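import Cfsg.Agent.EqBase
import Cfsg.Agent.LibSolvFrat

/-! P. Hall's regular `p`-groups: basic facts on `p^k`-th powers. -/

set_option autoImplicit false

namespace CfsgLib.H6

open Subgroup Cfsg
open scoped commutatorElement

theorem comm_closure_pair_le {G : Type*} [Group G] {a b : G} {S : Subgroup G}
    (hS : ∀ g ∈ closure ({a, b} : Set G), ∀ s ∈ S, g * s * g⁻¹ ∈ S) (hc : ⁅a, b⁆ ∈ S) :
    ⁅closure ({a, b} : Set G), closure ({a, b} : Set G)⁆ ≤ S := by
  rw [commutator_le]
  have ha : a ∈ closure ({a, b} : Set G) := subset_closure (by simp)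
  have hb : b ∈ closure ({a, b} : Set G) := subset_closure (by simp)
  -- general closure argument in the second variable
  have step : ∀ x ∈ closure ({a, b} : Set G), ⁅x, a⁆ ∈ S → ⁅x, b⁆ ∈ S → ∀ y ∈ closure ({a, b} : Set G), ⁅x, y⁆ ∈ S := by
    intro x hx hxa hxb y hy
    induction hy using closure_induction with
    | mem y hy =>
      rcases hy with rfl | hy
      · exact hxa
      · rw [Set.mem_singleton_iff] at hy; subst hy; exact hxb
    | one => rw [commutatorElement_one_right]; exact one_mem _
    | mul y z hy hz h1 h2 =>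
      have e : ⁅x, y * z⁆ = ⁅x, y⁆ * (y * ⁅x, z⁆ * y⁻¹) := by
        rw [commutatorElement_def, commutatorElement_def, commutatorElement_def]; group
      rw [e]
      exact mul_mem h1 (hS y hy _ h2)
    | inv y hy h1 =>
      have e : ⁅x, y⁻¹⁆ = y⁻¹ * ⁅x, y⁆⁻¹ * y⁻¹⁻¹ := by
        rw [commutatorElement_def, commutatorElement_def]; group
      rw [e]
      exact hS y⁻¹ (inv_mem hy) _ (inv_mem h1)
  have hA : ∀ y ∈ closure ({a, b} : Set G), ⁅a, y⁆ ∈ S :=
    step a ha (by rw [commutatorElement_self]; exact one_mem _) hc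
  have hB : ∀ y ∈ closure ({a, b} : Set G), ⁅b, y⁆ ∈ S :=
    step b hb (by rw [← commutatorElement_inv]; exact inv_mem hc) (by rw [commutatorElement_self]; exact one_mem _)
  intro x hx y hy
  refine step x hx ?_ ?_ y hy
  · rw [← commutatorElement_inv]; exact inv_mem (hA x hx)
  · rw [← commutatorElement_inv]; exact inv_mem (hB x hx)

theorem zpowers_sup_comm_lt {G : Type*} [Group G] [Finite G] {p : ℕ} [Fact p.Prime] (hG : IsPGroup p G) {a b : G}
    (hab : a * b ≠ b * a) :
    zpowers a ⊔ ⁅closure ({a, b} : Set G), closure ({a, b} : Set G)⁆ < closure ({a, b} : Set G) := by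
  set L := closure ({a, b} : Set G) with hL
  have ha : a ∈ L := subset_closure (by simp)
  have hb : b ∈ L := subset_closure (by simp)
  have hle : zpowers a ⊔ ⁅L, L⁆ ≤ L := sup_le (by rw [zpowers_le]; exact ha) (L.map_subtype_commutator.symm.trans_le (map_subtype_le _))
  refine lt_of_le_of_ne hle ?_
  intro heq
  have hLp : IsPGroup p L := hG.to_subgroup L
  have htop : zpowers (⟨a, ha⟩ : L) ⊔ commutator L = ⊤ := by
    apply Subgroup.map_injective L.subtype_injective
    rw [Subgroup.map_sup, Subgroup.map_subtype_commutator, MonoidHom.map_zpowers, ← MonoidHom.range_eq_map, Subgroup.range_subtype]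
    exact heq
  have h2 : zpowers (⟨a, ha⟩ : L) = ⊤ := by
    apply frattini_nongenerating
    rw [eq_top_iff, ← htop]
    exact sup_le_sup_left (CfsgLib.SolvFrat.commutator_le_frattini Fact.out hLp) _
  have h3 : (⟨b, hb⟩ : L) ∈ zpowers (⟨a, ha⟩ : L) := by rw [h2]; trivial
  obtain ⟨i, hi⟩ := mem_zpowers_iff.mp h3
  have h4 : a ^ i = b := congrArg Subtype.val hi
  apply hab
  rw [← h4]
  exact ((Commute.refl a).zpow_right i).eq

theorem regular_pow_eq {G : Type*} [Group G] [Finite G] {p : ℕ} [Fact p.Prime] (hG : IsRegularPGroup p G) (k : ℕ) (n : ℕ) :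
    ∀ a b : G, Nat.card (closure ({a, b} : Set G)) = n → (a ^ p ^ k = b ^ p ^ k ↔ (a * b⁻¹) ^ p ^ k = 1) := by
  induction n using Nat.strong_induction_on with
  | _ n ih =>
  -- the multiplicativity step
  have mult : ∀ x y : G, Nat.card (closure ({x, y} : Set G)) = n → x * y ≠ y * x → ⁅x, y⁆ ^ p ^ k = 1 →
      ∀ u ∈ closure ({x, y} : Set G), ∀ v ∈ closure ({x, y} : Set G), (u * v) ^ p ^ k = u ^ p ^ k * v ^ p ^ k := by
    intro x y hn hxy hc u hu v hv
    set L := closure ({x, y} : Set G) with hL
    have hlt : ⁅L, L⁆ < L := lt_of_le_of_lt le_sup_right (zpowers_sup_comm_lt hG.1 hxy)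
    have hcard : Nat.card ↥⁅L, L⁆ < n := by
      rw [← hn]
      by_contra hge
      push Not at hge
      exact hlt.ne (Subgroup.eq_of_le_of_card_ge hlt.le hge)
    -- the subgroup of elements of `⁅L,L⁆` killed by `p^k`
    let S : Subgroup G :=
      { carrier := {s | s ∈ ⁅L, L⁆ ∧ s ^ p ^ k = 1}
        one_mem' := ⟨one_mem _, one_pow _⟩
        mul_mem' := fun {s t} hs ht => by
          refine ⟨mul_mem hs.1 ht.1, ?_⟩
          have hle : closure ({s, t⁻¹} : Set G) ≤ ⁅L, L⁆ := by
            rw [closure_le]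
            rintro z (rfl | hz)
            · exact hs.1
            · rw [Set.mem_singleton_iff] at hz; subst hz; exact inv_mem ht.1
          have h1 := (ih _ (lt_of_le_of_lt (Subgroup.card_le_of_le hle) hcard) s t⁻¹ rfl).mp (by
            rw [hs.2, inv_pow, ht.2, inv_one])
          rwa [inv_inv] at h1
        inv_mem' := fun {s} hs => ⟨inv_mem hs.1, by rw [inv_pow, hs.2, inv_one]⟩ }
    have hSn : ∀ g ∈ L, ∀ s ∈ S, g * s * g⁻¹ ∈ S := by
      intro g hg s hs
      refine ⟨?_, ?_⟩
      · have e : g * s * g⁻¹ = ⁅g, s⁆ * s := by rw [commutatorElement_def]; group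
        rw [e]
        exact mul_mem (commutator_mem_commutator hg (hlt.le hs.1)) hs.1
      · rw [conj_pow, hs.2, mul_one, mul_inv_cancel]
    have hxL : x ∈ L := subset_closure (by simp)
    have hyL : y ∈ L := subset_closure (by simp)
    have hall : ⁅L, L⁆ ≤ S := comm_closure_pair_le hSn ⟨commutator_mem_commutator hxL hyL, hc⟩
    obtain ⟨c, hc1, hc2⟩ := hG.2 u v k
    have hcS : c = 1 := by
      have huv : closure ({u, v} : Set G) ≤ L := by
        rw [closure_le]
        rintro z (rfl | hz)
        · exact hu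
        · rw [Set.mem_singleton_iff] at hz; subst hz; exact hv
      have hle : ⁅closure ({u, v} : Set G), closure ({u, v} : Set G)⁆ ≤ S := (commutator_mono huv huv).trans hall
      have h1 : powerClosure p k ⁅closure ({u, v} : Set G), closure ({u, v} : Set G)⁆ ≤ ⊥ := by
        unfold powerClosure
        rw [closure_le]
        rintro z ⟨w, hw, rfl⟩
        exact (hle hw).2
      exact Subgroup.mem_bot.mp (h1 hc1)
    rw [hc2, hcS, mul_one]
  -- commutator step
  have comm : ∀ x y : G, Nat.card (closure ({x, y} : Set G)) = n → x * y ≠ y * x → (y⁻¹ * x * y) ^ p ^ k = x ^ p ^ k →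
      ⁅x, y⁆ ^ p ^ k = 1 := by
    intro x y hn hxy hpow
    have hlt := zpowers_sup_comm_lt hG.1 hxy
    set L := closure ({x, y} : Set G) with hL
    have hxL : x ∈ L := subset_closure (by simp)
    have hyL : y ∈ L := subset_closure (by simp)
    -- use x and y⁻¹ x y
    have hle : closure ({y⁻¹ * x * y, x} : Set G) ≤ zpowers x ⊔ ⁅L, L⁆ := by
      rw [closure_le]
      rintro z (rfl | hz)
      · have e : y⁻¹ * x * y = x * ⁅x⁻¹, y⁻¹⁆ := by rw [commutatorElement_def]; group
        rw [e]
        exact mul_mem (le_sup_left (a := zpowers x) (mem_zpowers x))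
          (le_sup_right (a := zpowers x) (commutator_mem_commutator (inv_mem hxL) (inv_mem hyL)))
      · rw [Set.mem_singleton_iff] at hz; subst hz
        exact le_sup_left (a := zpowers z) (mem_zpowers z)
    have hcard : Nat.card (closure ({y⁻¹ * x * y, x} : Set G)) < n := by
      refine lt_of_le_of_lt (Subgroup.card_le_of_le hle) ?_
      rw [← hn]
      by_contra hge
      push Not at hge
      exact hlt.ne (Subgroup.eq_of_le_of_card_ge hlt.le hge)
    have h1 := (ih _ hcard (y⁻¹ * x * y) x rfl).mp hpow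
    have e : ⁅x, y⁆ = y * (y⁻¹ * x * y * x⁻¹) * y⁻¹ := by rw [commutatorElement_def]; group
    rw [e, conj_pow, h1, mul_one, mul_inv_cancel]
  intro a b hn
  by_cases hab : a * b = b * a
  · have hc : Commute a b⁻¹ := (show Commute a b from hab).inv_right
    rw [hc.mul_pow, inv_pow, mul_inv_eq_one]
  have haL : a ∈ closure ({a, b} : Set G) := subset_closure (by simp)
  have hbL : b ∈ closure ({a, b} : Set G) := subset_closure (by simp)
  constructor
  · intro h
    have h1 : (b⁻¹ * a * b) ^ p ^ k = a ^ p ^ k := by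
      have e : b⁻¹ * a * b = b⁻¹ * a * b⁻¹⁻¹ := by rw [inv_inv]
      rw [e, conj_pow, h, inv_inv]
      have : Commute b⁻¹ (b ^ p ^ k) := ((Commute.refl b).inv_left).pow_right _
      rw [this.eq, inv_mul_cancel_right]
    have h2 := comm a b hn hab h1
    rw [mult a b hn hab h2 a haL b⁻¹ (inv_mem hbL), inv_pow, h, mul_inv_cancel]
  · intro h
    -- d = a b⁻¹
    set d := a * b⁻¹ with hd
    have hadb : a = d * b := by rw [hd]; group
    have hcl : closure ({d, b} : Set G) = closure ({a, b} : Set G) := by
      apply le_antisymm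
      · rw [closure_le]
        rintro z (rfl | hz)
        · exact mul_mem haL (inv_mem hbL)
        · rw [Set.mem_singleton_iff] at hz; subst hz; exact hbL
      · rw [closure_le]
        rintro z (rfl | hz)
        · rw [hadb]
          exact mul_mem (subset_closure (by simp)) (subset_closure (by simp))
        · rw [Set.mem_singleton_iff] at hz; subst hz
          exact subset_closure (by simp)
    have hn' : Nat.card (closure ({d, b} : Set G)) = n := by rw [hcl]; exact hn
    have hdb : d * b ≠ b * d := by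
      intro hdb
      apply hab
      rw [hadb, hdb, mul_assoc, ← hdb]
    have h1 : (b⁻¹ * d * b) ^ p ^ k = d ^ p ^ k := by
      have e : b⁻¹ * d * b = b⁻¹ * d * b⁻¹⁻¹ := by rw [inv_inv]
      rw [e, conj_pow, h, mul_one, mul_inv_cancel]
    have h2 := comm d b hn' hdb h1
    have h3 := mult d b hn' hdb h2 d (subset_closure (by simp)) b (subset_closure (by simp))
    rw [hadb, h3, h, one_mul]

end CfsgLib.H6
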