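import Mathlib
import Cfsg.Agent.LibCoprime
import Cfsg.Agent.LibCoprime2
import Cfsg.Agent.LibSolvCoprime3

set_option autoImplicit false

namespace CfsgLib.H6

open Subgroup
open scoped Pointwise commutatorElement

/-- two elements of the same prime order in a cyclic group generate the same subgroup -/
theorem mem_zpowers_of_cyclic {K : Type*} [Group K] [Finite K] [IsCyclic K] {p : ℕ} (hp : p.Prime) {a b : K}
    (ha : orderOf a = p) (hb : orderOf b = p) : a ∈ zpowers b := by
  have := Fintype.ofFinite K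
  classical
  have hcard := IsCyclic.card_pow_eq_one_le (α := K) (n := p) hp.pos
  have hsub : (Finset.univ.filter (fun c : K => c ∈ zpowers b)) ⊆
      (Finset.univ.filter (fun c : K => c ^ p = 1)) := by
    intro c hc
    rw [Finset.mem_filter] at hc ⊢
    refine ⟨hc.1, ?_⟩
    rw [← hb, ← orderOf_dvd_iff_pow_eq_one]
    exact orderOf_dvd_of_mem_zpowers hc.2
  have hcard2 : (Finset.univ.filter (fun c : K => c ∈ zpowers b)).card = p := by
    rw [← hb, ← Nat.card_zpowers, Nat.card_eq_fintype_card, Fintype.card_subtype]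
  have heq := Finset.eq_of_subset_of_card_le hsub (by rw [hcard2]; exact hcard)
  have ha' : a ∈ (Finset.univ.filter (fun c : K => c ^ p = 1)) := by
    rw [Finset.mem_filter]
    refine ⟨Finset.mem_univ _, ?_⟩
    rw [← ha]; exact pow_orderOf_eq_one _
  rw [← heq, Finset.mem_filter] at ha'
  exact ha'.2

variable {G : Type*} [Group G] [Finite G]

/-- coprime action on a group with cyclic Sylow subgroups -/
theorem zgroup_coprime {A H : Subgroup G} (hAH : A ≤ normalizer (H : Set G))
    (hco : (Nat.card A).Coprime (Nat.card H)) [IsZGroup H] :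
    IsCyclic (⁅H, A⁆ : Subgroup G) ∧ ⁅H, A⁆ ⊓ centralizer (A : Set G) = ⊥ ∧
      (Nat.card (⁅H, A⁆ : Subgroup G)).Coprime (Nat.card (H ⊓ centralizer (A : Set G) : Subgroup G)) ∧
      ⁅H, A⁆ ⊔ (H ⊓ centralizer (A : Set G)) = H := by
  have hHs : Group.IsSolvable H := inferInstance
  set R : Subgroup G := ⁅H, A⁆ with hR
  have hRH : R ≤ H := CfsgLib.Coprime.commutator_le_of_le_normalizer hAH
  have hsup := CfsgLib.Coprime.commutator_sup_centralizer hAH hco (Or.inr hHs)
  set K : Subgroup G := (commutator H).map H.subtype with hK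
  have hKeq : K = ⁅H, H⁆ := map_subtype_commutator H
  have hKc : IsCyclic K := by
    have h1 : IsCyclic (commutator H) := IsZGroup.isCyclic_commutator H
    exact isCyclic_of_surjective (H.subtype.subgroupMap (commutator H)) (H.subtype.subgroupMap_surjective _)
  have hHK : H ≤ normalizer (K : Set G) :=
    CfsgLib.SolvCoprime.le_normalizer_of_char (A := H) (K := H) le_normalizer (commutator H)
  have hAK : A ≤ normalizer (K : Set G) :=
    CfsgLib.SolvCoprime.le_normalizer_of_char hAH (commutator H)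
  have hcomm : ∀ f g : MulAut K, f * g = g * f := by
    intro f g
    apply (IsCyclic.mulAutMulEquiv K).injective
    rw [map_mul, map_mul, mul_comm]
  -- R centralizes K
  have hRK : R ≤ centralizer (K : Set G) := by
    rw [hR, commutator_le]
    intro h hh a ha
    rw [mem_centralizer_iff]
    intro k hk
    -- apply with the conjugate
    have h3 : ∀ k ∈ K, h * a * k * a⁻¹ * h⁻¹ = a * h * k * h⁻¹ * a⁻¹ := by
      intro k hk
      have h1 := hcomm (K.normalizerMonoidHom ⟨h, hHK hh⟩) (K.normalizerMonoidHom ⟨a, hAK ha⟩)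
      have := congrArg (fun f : MulAut K => ((f ⟨k, hk⟩ : K) : G)) h1
      simp only [MulAut.mul_apply] at this
      have e1 : ((K.normalizerMonoidHom ⟨h, hHK hh⟩ (K.normalizerMonoidHom ⟨a, hAK ha⟩ ⟨k, hk⟩) : K) : G) =
          h * (a * k * a⁻¹) * h⁻¹ := rfl
      have e2 : ((K.normalizerMonoidHom ⟨a, hAK ha⟩ (K.normalizerMonoidHom ⟨h, hHK hh⟩ ⟨k, hk⟩) : K) : G) =
          a * (h * k * h⁻¹) * a⁻¹ := rfl
      rw [e1, e2] at this
      calc h * a * k * a⁻¹ * h⁻¹ = h * (a * k * a⁻¹) * h⁻¹ := by group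
        _ = a * (h * k * h⁻¹) * a⁻¹ := this
        _ = _ := by group
    -- k' = h⁻¹ a⁻¹ k a h
    have hk' : h⁻¹ * a⁻¹ * k * a * h ∈ K := by
      have e1 := (mem_normalizer_iff.mp ((normalizer (K : Set G)).inv_mem (hAK ha)) k).mp hk
      rw [inv_inv] at e1
      have e2 := (mem_normalizer_iff.mp ((normalizer (K : Set G)).inv_mem (hHK hh)) _).mp e1
      rw [inv_inv] at e2
      have : h⁻¹ * a⁻¹ * k * a * h = h⁻¹ * (a⁻¹ * k * a) * h := by group
      rw [this]; exact e2
    have h4 := h3 _ hk'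
    rw [commutatorElement_def]
    have h5 : a * h * (h⁻¹ * a⁻¹ * k * a * h) * h⁻¹ * a⁻¹ = k := by group
    rw [h5] at h4
    calc k * (h * a * h⁻¹ * a⁻¹) = (h * a * (h⁻¹ * a⁻¹ * k * a * h) * a⁻¹ * h⁻¹) * (h * a * h⁻¹ * a⁻¹) := by rw [h4]
      _ = h * a * h⁻¹ * a⁻¹ * k := by group
  have hRR : ∀ x ∈ R, ∀ y ∈ R, ⁅x, y⁆ ∈ K := by
    intro x hx y hy
    rw [hKeq]
    exact commutator_mem_commutator (hRH hx) (hRH hy)
  have hRz : IsZGroup R := IsZGroup.of_injective (f := inclusion hRH) (inclusion_injective hRH)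
  have hRn : Group.IsNilpotent R := by
    apply _root_.isNilpotent_of_ker_le_center (Abelianization.of (G := R))
    rw [Abelianization.ker_of, _root_.commutator_def, commutator_le]
    intro x _ y _
    rw [mem_center_iff]
    intro z
    have h1 := hRR x x.2 y y.2
    have h2 := mem_centralizer_iff.mp (hRK z.2) _ h1
    apply Subtype.ext
    exact h2.symm
  have hRc : IsCyclic R := inferInstance
  have hAR : A ≤ normalizer (R : Set G) := normalizer_commutator_ge_right H A
  have hcoR : (Nat.card A).Coprime (Nat.card R) := hco.coprime_dvd_right (card_dvd_of_le hRH)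
  have hRm : IsMulCommutative R := by
    let _ : CommGroup R := IsCyclic.commGroup
    exact ⟨⟨fun a b => mul_comm a b⟩⟩
  have hinf : R ⊓ centralizer (A : Set G) = ⊥ := by
    have h1 := CfsgLib.Coprime2.commutator_inf_centralizer (V := R) hAR hcoR
    have h2 : ⁅R, A⁆ = R := CfsgLib.Coprime.commutator_commutator_eq hAH hco (Or.inr hHs)
    rwa [h2] at h1
  refine ⟨hRc, hinf, ?_, hsup⟩
  -- coprimality
  rw [Nat.coprime_iff_gcd_eq_one]
  by_contra hne
  obtain ⟨p, hp, hpd⟩ := Nat.exists_prime_and_dvd hne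
  have hp1 : p ∣ Nat.card R := hpd.trans (Nat.gcd_dvd_left _ _)
  have hp2 : p ∣ Nat.card (H ⊓ centralizer (A : Set G) : Subgroup G) := hpd.trans (Nat.gcd_dvd_right _ _)
  have := Fact.mk hp
  obtain ⟨r, hr⟩ := exists_prime_orderOf_dvd_card' (G := R) p hp1
  obtain ⟨c, hc⟩ := exists_prime_orderOf_dvd_card' (G := (H ⊓ centralizer (A : Set G) : Subgroup G)) p hp2
  have hr' : orderOf (r : G) = p := by rw [Subgroup.orderOf_coe]; exact hr
  have hc' : orderOf (c : G) = p := by rw [Subgroup.orderOf_coe]; exact hc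
  have hcH : (c : G) ∈ H := (mem_inf.mp c.2).1
  -- c normalizes ⟨r⟩
  have hRnH : H ≤ normalizer (R : Set G) := normalizer_commutator_ge_left H A
  have hcr : zpowers (c : G) ≤ normalizer ((zpowers (r : G) : Subgroup G) : Set G) := by
    rw [zpowers_le]
    have key : ∀ x : G, x ∈ normalizer (R : Set G) → ∀ y ∈ zpowers (r : G), x * y * x⁻¹ ∈ zpowers (r : G) := by
      intro x hx y hy
      obtain ⟨k, rfl⟩ := mem_zpowers_iff.mp hy
      have h1 : x * (r : G) * x⁻¹ ∈ R := (mem_normalizer_iff.mp hx _).mp r.2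
      have h2 : orderOf (⟨x * (r : G) * x⁻¹, h1⟩ : R) = p := by
        rw [Subgroup.orderOf_mk]
        rw [← hr']
        exact orderOf_injective (MulAut.conj x).toMonoidHom (MulAut.conj x).injective (r : G)
      have h3 := mem_zpowers_of_cyclic hp h2 hr
      obtain ⟨j, hj⟩ := mem_zpowers_iff.mp h3
      have h4 : x * (r : G) * x⁻¹ = (r : G) ^ j := (congrArg Subtype.val hj).symm
      have h5 : x * (r : G) ^ k * x⁻¹ = (x * (r : G) * x⁻¹) ^ k := by
        have := map_zpow (MulAut.conj x) (r : G) k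
        simpa using this
      rw [h5, h4]
      exact zpow_mem (zpow_mem (mem_zpowers _) _) _
    rw [mem_normalizer_iff]
    intro y
    constructor
    · exact key c (hRnH hcH) y
    · intro hy
      have := key (c : G)⁻¹ ((normalizer (R : Set G)).inv_mem (hRnH hcH)) _ hy
      have e : (c : G)⁻¹ * ((c : G) * y * (c : G)⁻¹) * ((c : G)⁻¹)⁻¹ = y := by group
      rwa [e] at this
  have hPp : IsPGroup p (zpowers (c : G) ⊔ zpowers (r : G) : Subgroup G) := by
    have h1 : IsPGroup p (zpowers (c : G)) := IsPGroup.of_card (n := 1) (by rw [Nat.card_zpowers, hc', pow_one])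
    have h2 : IsPGroup p (zpowers (r : G)) := IsPGroup.of_card (n := 1) (by rw [Nat.card_zpowers, hr', pow_one])
    exact h1.to_sup_of_normal_right' h2 hcr
  set P : Subgroup G := zpowers (c : G) ⊔ zpowers (r : G) with hP
  have hPH : P ≤ H := sup_le (by rw [zpowers_le]; exact hcH) (by rw [zpowers_le]; exact hRH r.2)
  have hPz : IsZGroup P := IsZGroup.of_injective (f := inclusion hPH) (inclusion_injective hPH)
  have hPn : Group.IsNilpotent P := hPp.isNilpotent
  have hPc : IsCyclic P := inferInstance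
  have hrP : (r : G) ∈ P := mem_sup_right (mem_zpowers _)
  have hcP : (c : G) ∈ P := mem_sup_left (mem_zpowers _)
  have h6 := mem_zpowers_of_cyclic (K := P) hp (a := ⟨c, hcP⟩) (b := ⟨r, hrP⟩)
    (by rw [Subgroup.orderOf_mk]; exact hc') (by rw [Subgroup.orderOf_mk]; exact hr')
  obtain ⟨j, hj⟩ := mem_zpowers_iff.mp h6
  have h7 : (c : G) = (r : G) ^ j := (congrArg Subtype.val hj).symm
  have h8 : (c : G) ∈ R ⊓ centralizer (A : Set G) :=
    mem_inf.mpr ⟨by rw [h7]; exact zpow_mem r.2 _, (mem_inf.mp c.2).2⟩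
  rw [hinf, mem_bot] at h8
  rw [h8, orderOf_one] at hc'
  exact hp.one_lt.ne hc'

end CfsgLib.H6
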