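import Cfsg.Agent.EqBase
import Mathlib

/-! Fixed-point-free representations: quadratic elements generate groups with two-dimensional
constituents. -/

set_option autoImplicit false

namespace CfsgLib.H6Zas

variable {K : Type*} [Field K] {V : Type*} [AddCommGroup V] [Module K V]

/-- every nontrivial element acts without nonzero fixed vectors -/
def Fpf {G : Type*} [Group G] (ρ : G →* Module.End K V) : Prop :=
  ∀ g, g ≠ 1 → ∀ v, ρ g v = v → v = 0

section
variable {G : Type*} [Group G] {ρ : G →* Module.End K V}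

theorem Fpf.inj (h : Fpf ρ) {v : V} (hv : v ≠ 0) {g k : G} (e : ρ g v = ρ k v) : g = k := by
  by_contra hne
  apply hv
  apply h (k⁻¹ * g)
  · intro h1
    exact hne (inv_mul_eq_one.mp h1).symm
  · rw [map_mul, Module.End.mul_apply, e, ← Module.End.mul_apply, ← map_mul, inv_mul_cancel, map_one]
    rfl

theorem Fpf.injective [Nontrivial V] (h : Fpf ρ) : Function.Injective ρ := by
  intro g k e
  obtain ⟨v, hv⟩ := exists_ne (0 : V)
  exact h.inj hv (by rw [e])

theorem Fpf.neg (h : Fpf ρ) {t : G} (ht : t * t = 1) (h1 : t ≠ 1) (v : V) : ρ t v = -v := by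
  have h2 : ρ t v + v = 0 := by
    apply h t h1
    rw [map_add, ← Module.End.mul_apply, ← map_mul, ht, map_one, Module.End.one_apply, add_comm]
  exact eq_neg_of_add_eq_zero_left h2

theorem Fpf.cube (h : Fpf ρ) {y : G} (hy : y * y * y = 1) (h1 : y ≠ 1) (v : V) :
    ρ y (ρ y v) = -v - ρ y v := by
  have h2 : ρ y (ρ y v) + ρ y v + v = 0 := by
    apply h y h1
    have h3 : ρ y (ρ y (ρ y v)) = v := by
      rw [← Module.End.mul_apply, ← Module.End.mul_apply, ← map_mul, ← map_mul, hy, map_one]
      rfl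
    rw [map_add, map_add, h3]
    abel
  have h3 : ρ y (ρ y v) = -(ρ y v + v) := by
    apply eq_neg_of_add_eq_zero_left
    rw [← add_assoc]; exact h2
  rw [h3]; abel

theorem Fpf.involution_unique [Nontrivial V] (h : Fpf ρ) {t s : G} (ht : t * t = 1) (h1 : t ≠ 1)
    (hs : s * s = 1) (h2 : s ≠ 1) : s = t := by
  obtain ⟨v, hv⟩ := exists_ne (0 : V)
  exact h.inj hv (by rw [h.neg ht h1, h.neg hs h2])

theorem Fpf.involution_central [Nontrivial V] (h : Fpf ρ) {t : G} (ht : t * t = 1) (h1 : t ≠ 1) (g : G) :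
    g * t = t * g := by
  obtain ⟨v, hv⟩ := exists_ne (0 : V)
  refine h.inj hv ?_
  rw [map_mul, map_mul, Module.End.mul_apply, Module.End.mul_apply, h.neg ht h1, h.neg ht h1, map_neg]

theorem Fpf.two_ne [Nontrivial V] (h : Fpf ρ) {t : G} (ht : t * t = 1) (h1 : t ≠ 1) : (2 : K) ≠ 0 := by
  obtain ⟨v, hv⟩ := exists_ne (0 : V)
  intro h2
  apply hv
  apply h t h1
  rw [h.neg ht h1]
  have : (2 : K) • v = 0 := by rw [h2, zero_smul]
  rw [two_smul] at this
  exact neg_eq_of_add_eq_zero_left this

/-- commuting elements of order three generate the same subgroup -/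
theorem Fpf.comm3 [Nontrivial V] (h : Fpf ρ) {a b : G} (ha : a * a * a = 1) (ha1 : a ≠ 1) (hb : b * b * b = 1)
    (hb1 : b ≠ 1) (hab : a * b = b * a) : b = a ∨ b = a * a := by
  obtain ⟨v, hv⟩ := exists_ne (0 : V)
  by_cases hw : ρ b v - ρ (a * a) v = 0
  · right
    exact h.inj hv (sub_eq_zero.mp hw)
  · left
    refine h.inj hw ?_
    have e1 : ρ b (ρ (a * a) v) = ρ (a * a) (ρ b v) := by
      rw [← Module.End.mul_apply, ← Module.End.mul_apply, ← map_mul, ← map_mul]
      congr 2
      rw [← mul_assoc, ← hab, mul_assoc, ← hab, mul_assoc]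
    have e2 : ρ a (ρ (a * a) v) = v := by
      rw [← Module.End.mul_apply, ← map_mul, ← mul_assoc, ha, map_one]; rfl
    have e3 : ρ (a * a) (ρ b v) = - ρ b v - ρ a (ρ b v) := by
      rw [map_mul, Module.End.mul_apply, h.cube ha ha1]
    rw [map_sub, map_sub, e1, e2, e3, h.cube hb hb1]
    abel

/-- an element of order a multiple of three... the product of two commuting distinct order `4`
elements -/
theorem Fpf.comm4 [Nontrivial V] (h : Fpf ρ) {x y z : G} (hz : z * z = 1) (hz1 : z ≠ 1) (hx : x * x = z)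
    (hy : y * y = z) (hxy : x * y = y * x) : y = x ∨ y = x * z := by
  obtain ⟨v, hv⟩ := exists_ne (0 : V)
  have hxx : ∀ v, ρ x (ρ x v) = -v := fun v => by
    rw [← Module.End.mul_apply, ← map_mul, hx, h.neg hz hz1]
  have hyy : ∀ v, ρ y (ρ y v) = -v := fun v => by
    rw [← Module.End.mul_apply, ← map_mul, hy, h.neg hz hz1]
  have hc : ∀ v, ρ y (ρ x v) = ρ x (ρ y v) := fun v => by
    rw [← Module.End.mul_apply, ← map_mul, ← hxy, map_mul, Module.End.mul_apply]
  by_cases hw : ρ y v + ρ x v = 0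
  · right
    refine h.inj hv ?_
    rw [map_mul, Module.End.mul_apply, h.neg hz hz1, map_neg]
    exact eq_neg_of_add_eq_zero_left hw
  · left
    refine h.inj hw ?_
    rw [map_add, map_add, hxx, hyy, hc]
    abel

end

section lin
variable [IsAlgClosed K] [FiniteDimensional K V]

theorem exists_eig (f : Module.End K V) (p : Submodule K V) (hp : p ≠ ⊥) (hf : ∀ v ∈ p, f v ∈ p) :
    ∃ μ : K, p ⊓ Module.End.eigenspace f μ ≠ ⊥ := by
  haveI : Nontrivial p := (Submodule.nontrivial_iff_ne_bot).mpr hp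
  obtain ⟨μ, hμ⟩ := Module.End.exists_eigenvalue (f.restrict hf)
  obtain ⟨v, hv⟩ := hμ.exists_hasEigenvector
  refine ⟨μ, ?_⟩
  rw [Submodule.ne_bot_iff]
  refine ⟨v, ⟨v.2, ?_⟩, ?_⟩
  · refine Module.End.mem_eigenspace_iff.mpr ?_
    have := hv.apply_eq_smul
    exact congrArg Subtype.val this
  · intro h0
    exact hv.2 (Subtype.ext h0)

omit [IsAlgClosed K] [FiniteDimensional K V] in
theorem finrank_span_pair_le (v w : V) : Module.finrank K (Submodule.span K {v, w}) ≤ 2 := by
  classical
  refine le_trans (finrank_span_le_card ({v, w} : Set V)) ?_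
  rw [Set.toFinset_card]
  have : Fintype.card ({v, w} : Set V) = ({v, w} : Set V).ncard := by
    rw [Set.ncard_eq_toFinset_card', Set.toFinset_card]
  rw [this]
  refine le_trans (Set.ncard_insert_le v {w}) ?_
  rw [Set.ncard_singleton]

omit [IsAlgClosed K] [FiniteDimensional K V] in
theorem map_span_pair {v w : V} {f : Module.End K V} (h1 : f v ∈ Submodule.span K {v, w})
    (h2 : f w ∈ Submodule.span K {v, w}) : ∀ u ∈ Submodule.span K {v, w}, f u ∈ Submodule.span K {v, w} := by
  intro u hu
  rw [Submodule.mem_span_pair] at hu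
  obtain ⟨a, b, rfl⟩ := hu
  rw [map_add, map_smul, map_smul]
  exact Submodule.add_mem _ (Submodule.smul_mem _ _ h1) (Submodule.smul_mem _ _ h2)

theorem pair_lemma [Nontrivial V] (A B : Module.End K V) (hA : ∀ v, A (A v) = -v - A v)
    (hB : ∀ v, B (B v) = -v - B v) :
    ∃ W : Submodule K V, W ≠ ⊥ ∧ Module.finrank K W ≤ 2 ∧ (∀ w ∈ W, A w ∈ W) ∧ (∀ w ∈ W, B w ∈ W) := by
  let c : Module.End K V := A * B + B * A + A + B
  have hc : ∀ v, c v = A (B v) + B (A v) + A v + B v := fun v => rfl
  have hcA : ∀ v, c (A v) = A (c v) := by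
    intro v
    rw [hc, hc]
    simp only [map_add, hA, map_sub, map_neg]
    abel
  obtain ⟨l, hl⟩ := exists_eig c ⊤ (by simp) (fun _ _ => trivial)
  rw [top_inf_eq] at hl
  obtain ⟨ω, hω⟩ := exists_eig A (Module.End.eigenspace c l) hl (by
    intro v hv
    rw [Module.End.mem_eigenspace_iff] at hv ⊢
    rw [hcA, hv, map_smul])
  obtain ⟨v, ⟨hv1, hv2⟩, hv0⟩ := (Submodule.ne_bot_iff _).mp hω
  have hv1 : c v = l • v := Module.End.mem_eigenspace_iff.mp hv1
  have hv2 : A v = ω • v := Module.End.mem_eigenspace_iff.mp hv2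
  have m1 : v ∈ Submodule.span K {v, B v} := Submodule.subset_span (by simp)
  have m2 : B v ∈ Submodule.span K {v, B v} := Submodule.subset_span (by simp)
  refine ⟨Submodule.span K {v, B v}, ?_, finrank_span_pair_le _ _, map_span_pair ?_ ?_, map_span_pair ?_ ?_⟩
  · intro h
    rw [h] at m1
    exact hv0 ((Submodule.mem_bot K).mp m1)
  · rw [hv2]; exact Submodule.smul_mem _ _ m1
  · have : A (B v) = l • v - B (A v) - A v - B v := by
      rw [← hv1, hc]; abel
    rw [this, hv2, map_smul]
    exact Submodule.sub_mem _ (Submodule.sub_mem _ (Submodule.sub_mem _ (Submodule.smul_mem _ _ m1)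
      (Submodule.smul_mem _ _ m2)) (Submodule.smul_mem _ _ m1)) m2
  · exact m2
  · rw [hB]
    exact Submodule.sub_mem _ (Submodule.neg_mem _ m1) m2

theorem triple_lemma [Nontrivial V] (h2 : (2 : K) ≠ 0) (A B D : Module.End K V) (hA : ∀ v, A (A v) = -v - A v)
    (hB : ∀ v, B (B v) = -v - B v) (hD : ∀ v, D (D v) = -v - D v)
    (hAB : ∀ v, A (B v) + B (A v) = -v - A v - B v) (hAD : ∀ v, A (D v) + D (A v) = -v - A v - D v) :
    ∃ W : Submodule K V, W ≠ ⊥ ∧ Module.finrank K W ≤ 2 ∧ (∀ w ∈ W, A w ∈ W) ∧ (∀ w ∈ W, B w ∈ W) ∧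
      (∀ w ∈ W, D w ∈ W) := by
  let a : Module.End K V := (2 : K) • A + 1
  let b : Module.End K V := (2 : K) • B + 1
  let d : Module.End K V := (2 : K) • D + 1
  have ea : ∀ v, a v = (2 : K) • A v + v := fun v => rfl
  have eb : ∀ v, b v = (2 : K) • B v + v := fun v => rfl
  have ed : ∀ v, d v = (2 : K) • D v + v := fun v => rfl
  have haa : ∀ v, a (a v) = (-3 : K) • v := by
    intro v
    rw [ea, ea, map_add, map_smul, hA]
    module
  have hbb : ∀ v, b (b v) = (-3 : K) • v := by
    intro v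
    rw [eb, eb, map_add, map_smul, hB]
    module
  have hdd : ∀ v, d (d v) = (-3 : K) • v := by
    intro v
    rw [ed, ed, map_add, map_smul, hD]
    module
  have hab : ∀ v, a (b v) = (-2 : K) • v - b (a v) := by
    intro v
    have h := hAB v
    have h' : A (B v) = -v - A v - B v - B (A v) := by rw [← h]; abel
    rw [ea, eb, eb, ea, map_add, map_smul, map_add, map_smul, h']
    module
  have had : ∀ v, a (d v) = (-2 : K) • v - d (a v) := by
    intro v
    have h := hAD v
    have h' : A (D v) = -v - A v - D v - D (A v) := by rw [← h]; abel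
    rw [ea, ed, ed, ea, map_add, map_smul, map_add, map_smul, h']
    module
  let c : Module.End K V := b * d + d * b
  have hc : ∀ v, c v = b (d v) + d (b v) := fun v => rfl
  have hca : ∀ v, c (a v) = a (c v) := by
    intro v
    rw [hc, hc]
    simp only [map_add, hab, had, map_sub, map_smul]
    module
  have hcb : ∀ v, c (b v) = b (c v) := by
    intro v
    rw [hc, hc]
    simp only [map_add, hbb, map_smul]
    module
  have hcd : ∀ v, c (d v) = d (c v) := by
    intro v
    rw [hc, hc]
    simp only [map_add, hdd, map_smul]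
    module
  obtain ⟨m, hm⟩ := exists_eig c ⊤ (by simp) (fun _ _ => trivial)
  rw [top_inf_eq] at hm
  -- `μ = - m / 2`
  let τ : Module.End K V := (2 : K) • (a * b * d) + (2 : K) • d - (2 : K) • b - m • a
  have hτ : ∀ v, τ v = (2 : K) • a (b (d v)) + (2 : K) • d v - (2 : K) • b v - m • a v := fun v => rfl
  have hτa : ∀ v, τ (a v) = a (τ v) := by
    intro v
    rw [hτ, hτ]
    simp only [map_add, map_sub, map_smul, hab, had, haa]
    module
  have hτc : ∀ v, c (τ v) = τ (c v) := by
    intro v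
    rw [hτ, hτ, map_sub, map_sub, map_add, map_smul, map_smul, map_smul, map_smul, hca, hcb, hcd, hca, hcb]
  obtain ⟨θ, hθ⟩ := exists_eig τ (Module.End.eigenspace c m) hm (by
    intro v hv
    rw [Module.End.mem_eigenspace_iff] at hv ⊢
    rw [hτc, hv, map_smul])
  obtain ⟨ι, hι⟩ := exists_eig a (Module.End.eigenspace c m ⊓ Module.End.eigenspace τ θ) hθ (by
    intro v hv
    rw [Submodule.mem_inf, Module.End.mem_eigenspace_iff, Module.End.mem_eigenspace_iff] at hv ⊢
    rw [hca, hτa, hv.1, hv.2, map_smul, map_smul]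
    exact ⟨rfl, rfl⟩)
  obtain ⟨v, ⟨⟨hv1, hv2⟩, hv3⟩, hv0⟩ := (Submodule.ne_bot_iff _).mp hι
  have hv1 : c v = m • v := Module.End.mem_eigenspace_iff.mp hv1
  have hv2 : τ v = θ • v := Module.End.mem_eigenspace_iff.mp hv2
  have hv3 : a v = ι • v := Module.End.mem_eigenspace_iff.mp hv3
  have hι2 : ι * ι = -3 := by
    have h1 := haa v
    rw [hv3, map_smul, hv3, smul_smul] at h1
    have h3 : (ι * ι - (-3)) • v = 0 := by rw [sub_smul, h1, sub_self]
    rcases smul_eq_zero.mp h3 with h4 | h4
    · exact sub_eq_zero.mp h4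
    · exact absurd h4 hv0
  -- the key relation
  have hw : (16 : K) • d v = (θ + m * ι + 6 * ι) • v + (ι * θ - 3 * m - 2) • b v := by
    have e1 : (2 : K) • a (b (d v)) + (2 : K) • d v - (2 : K) • b v - m • a v = θ • v := by
      rw [← hτ, hv2]
    have e2 : a (b (d v)) = (2 : K) • b v + ι • b (d v) - (2 : K) • d v := by
      rw [hab, had, hv3]
      simp only [map_sub, map_smul]
      module
    rw [e2, hv3] at e1
    have e3 : (2 * ι) • b (d v) = (θ + m * ι) • v - (2 : K) • b v + (2 : K) • d v := by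
      have h1 : (2 * ι) • b (d v) = ((2 : K) • ((2 : K) • b v + ι • b (d v) - (2 : K) • d v) + (2 : K) • d v
          - (2 : K) • b v - m • ι • v) + (m * ι) • v - (2 : K) • b v + (2 : K) • d v := by module
      rw [h1, e1]; module
    have e4 : (-6 * ι) • d v = (θ + m * ι) • b v + (6 : K) • v + (2 : K) • b (d v) := by
      have h1 := congrArg b e3
      simp only [map_add, map_sub, map_smul, hbb] at h1
      have h3 : (-6 * ι) • d v = (2 * ι) • ((-3 : K) • d v) := by module
      rw [h3, h1]; module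
    have e5 : (16 : K) • d v = ι • ((-6 * ι) • d v) - (2 : K) • d v := by
      have h1 : ι • ((-6 * ι) • d v) = (-6 * (ι * ι)) • d v := by module
      rw [h1, hι2]; module
    have e6 : ι * (θ + m * ι) = ι * θ - 3 * m := by linear_combination m * hι2
    have e7 : ι • ((θ + m * ι) • b v + (6 : K) • v + (2 : K) • b (d v)) =
        (ι * (θ + m * ι)) • b v + (6 * ι) • v + (2 * ι) • b (d v) := by module
    rw [e5, e4, e7, e6, e3]
    module
  have m1 : v ∈ Submodule.span K {v, b v} := Submodule.subset_span (by simp)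
  have m2 : b v ∈ Submodule.span K {v, b v} := Submodule.subset_span (by simp)
  have h16 : (16 : K) ≠ 0 := by
    have : (16 : K) = 2 * (2 * (2 * 2)) := by norm_num
    rw [this]
    exact mul_ne_zero h2 (mul_ne_zero h2 (mul_ne_zero h2 h2))
  have m3 : d v ∈ Submodule.span K {v, b v} := by
    have : d v = (16 : K)⁻¹ • ((16 : K) • d v) := by rw [smul_smul, inv_mul_cancel₀ h16, one_smul]
    rw [this, hw]
    exact Submodule.smul_mem _ _ (Submodule.add_mem _ (Submodule.smul_mem _ _ m1) (Submodule.smul_mem _ _ m2))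
  have ma : ∀ u ∈ Submodule.span K {v, b v}, a u ∈ Submodule.span K {v, b v} := by
    refine map_span_pair ?_ ?_
    · rw [hv3]; exact Submodule.smul_mem _ _ m1
    · rw [hab, hv3, map_smul]
      exact Submodule.sub_mem _ (Submodule.smul_mem _ _ m1) (Submodule.smul_mem _ _ m2)
  have mb : ∀ u ∈ Submodule.span K {v, b v}, b u ∈ Submodule.span K {v, b v} := by
    refine map_span_pair m2 ?_
    rw [hbb]; exact Submodule.smul_mem _ _ m1
  have md : ∀ u ∈ Submodule.span K {v, b v}, d u ∈ Submodule.span K {v, b v} := by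
    refine map_span_pair m3 ?_
    have : d (b v) = m • v - b (d v) := by rw [← hv1, hc]; abel
    rw [this]
    exact Submodule.sub_mem _ (Submodule.smul_mem _ _ m1) (mb _ m3)
  have half : ∀ (X x : Module.End K V), (∀ v, x v = (2 : K) • X v + v) →
      (∀ u ∈ Submodule.span K {v, b v}, x u ∈ Submodule.span K {v, b v}) →
      ∀ u ∈ Submodule.span K {v, b v}, X u ∈ Submodule.span K {v, b v} := by
    intro X x hX hx u hu
    have : X u = (2 : K)⁻¹ • (x u - u) := by
      rw [hX, add_sub_cancel_right, smul_smul, inv_mul_cancel₀ h2, one_smul]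
    rw [this]
    exact Submodule.smul_mem _ _ (Submodule.sub_mem _ (hx u hu) hu)
  refine ⟨Submodule.span K {v, b v}, ?_, finrank_span_pair_le _ _, half A a ea ma, half B b eb mb, half D d ed md⟩
  intro h
  rw [h] at m1
  exact hv0 ((Submodule.mem_bot K).mp m1)

end lin

end CfsgLib.H6Zas
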