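import Cfsg.Agent.LibH6ZasA
import Cfsg.Agent.LibDkE29
import Cfsg.Agent.LibDkD29

/-! Finite groups with a two-dimensional fixed-point-free representation generated by elements of
order three. -/

set_option autoImplicit false

namespace CfsgLib.H6Zas

open Matrix OnePoint CfsgLib.Dk29
open scoped MatrixGroups

section order
variable {K : Type*} [Field K] {V : Type*} [AddCommGroup V] [Module K V]
variable {G : Type*} [Group G] {ρ : G →* Module.End K V}

/-- a fixed-point-free representation exists only in coprime characteristic -/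
theorem Fpf.order_ne [Nontrivial V] (h : Fpf ρ) (g : G) (hg : 0 < orderOf g) : (orderOf g : K) ≠ 0 := by
  intro h0
  obtain ⟨p, hp⟩ := CharP.exists K
  have hdvd : p ∣ orderOf g := (CharP.cast_eq_zero_iff K p _).mp h0
  rcases CharP.char_is_prime_or_zero K p with hpp | hp0
  · obtain ⟨m, hm⟩ := hdvd
    have hx1 : g ^ m ≠ 1 := by
      intro h1
      have h2 := orderOf_dvd_of_pow_eq_one h1
      rw [hm] at h2
      have hm0 : 0 < m := by
        rcases Nat.eq_zero_or_pos m with h3 | h3
        · rw [h3, mul_zero] at hm; omega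
        · exact h3
      have h3 := Nat.le_of_dvd hm0 h2
      have h4 := hpp.two_le
      nlinarith
    have hxp : (g ^ m) ^ p = 1 := by rw [← pow_mul, mul_comm, ← hm, pow_orderOf_eq_one]
    -- nilpotent
    haveI : Fact p.Prime := ⟨hpp⟩
    haveI : CharP (Module.End K V) p := charP_of_injective_algebraMap (FaithfulSMul.algebraMap_injective K (Module.End K V)) p
    have hnil : (ρ (g ^ m) - 1) ^ p = 0 := by
      rw [sub_pow_char_of_commute, ← map_pow, hxp, map_one, one_pow, sub_self]
      exact Commute.one_right _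
    obtain ⟨v, hv⟩ := exists_ne (0 : V)
    have key : ∀ k : ℕ, ∀ w : V, w ≠ 0 → ((ρ (g ^ m) - 1) ^ k) w ≠ 0 := by
      intro k
      induction k with
      | zero => intro w hw; rwa [pow_zero, Module.End.one_apply]
      | succ k ih =>
        intro w hw
        rw [pow_succ, Module.End.mul_apply]
        apply ih
        intro h1
        apply hw
        apply h (g ^ m) hx1
        rw [LinearMap.sub_apply, Module.End.one_apply, sub_eq_zero] at h1
        exact h1
    exact key p v hv (by rw [hnil]; rfl)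
  · subst hp0
    rw [zero_dvd_iff] at hdvd
    omega

end order

variable {K : Type*} [Field K]

theorem mat_pow (A : Matrix (Fin 2) (Fin 2) K) (l : K) (hA : (A - l • 1) * (A - l • 1) = 0) (k : ℕ) :
    A ^ (k + 1) = (l ^ (k + 1)) • 1 + (((k + 1 : ℕ) : K) * l ^ k) • (A - l • 1) := by
  induction k with
  | zero => simp
  | succ k ih =>
    have hN : A * (A - l • (1 : Matrix (Fin 2) (Fin 2) K)) = l • (A - l • 1) := by
      have : A * (A - l • (1 : Matrix (Fin 2) (Fin 2) K)) = (A - l • 1) * (A - l • 1) + l • (A - l • 1) := by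
        rw [sub_mul A (l • 1) (A - l • 1), smul_mul_assoc, one_mul]; abel
      rw [this, hA, zero_add]
    rw [pow_succ', ih, mul_add, mul_smul_comm, mul_smul_comm, hN, mul_one, smul_smul]
    have e1 : A = l • (1 : Matrix (Fin 2) (Fin 2) K) + (A - l • 1) := by abel
    nth_rw 1 [e1]
    rw [smul_add, smul_smul, add_assoc, ← add_smul]
    congr 2
    · ring
    · push_cast; ring

theorem scalar_of_pow (A : Matrix (Fin 2) (Fin 2) K) (l : K) (hA : (A - l • 1) * (A - l • 1) = 0) (m : ℕ)
    (hm : 0 < m) (hm0 : (m : K) ≠ 0) (h : A ^ m = 1) (hl : l ≠ 0) : A = l • 1 := by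
  obtain ⟨k, rfl⟩ := Nat.exists_eq_succ_of_ne_zero hm.ne'
  have h1 := mat_pow A l hA k
  rw [Nat.succ_eq_add_one] at h
  rw [h] at h1
  by_contra hne
  have hN : A - l • (1 : Matrix (Fin 2) (Fin 2) K) ≠ 0 := fun h0 => hne (sub_eq_zero.mp h0)
  have h2 := congrArg (fun X => X * (A - l • (1 : Matrix (Fin 2) (Fin 2) K))) h1
  simp only [one_mul, add_mul, smul_mul_assoc] at h2
  rw [hA, smul_zero, add_zero] at h2
  have h3 : (1 - l ^ (k + 1)) • (A - l • (1 : Matrix (Fin 2) (Fin 2) K)) = 0 := by
    rw [sub_smul, one_smul, ← h2, sub_self]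
  have h4 : l ^ (k + 1) = 1 := by
    rcases smul_eq_zero.mp h3 with h5 | h5
    · exact (sub_eq_zero.mp h5).symm
    · exact absurd h5 hN
  rw [h4, one_smul] at h1
  have h5 : (((k + 1 : ℕ) : K) * l ^ k) • (A - l • (1 : Matrix (Fin 2) (Fin 2) K)) = 0 := by
    have := h1
    exact (left_eq_add.mp this)
  rcases smul_eq_zero.mp h5 with h6 | h6
  · rcases mul_eq_zero.mp h6 with h7 | h7
    · exact hm0 h7
    · exact pow_ne_zero k hl h7
  · exact hN h6

theorem two_dim {H : Type*} [Group H] [Finite H] [IsAlgClosed K] {W : Type*} [AddCommGroup W] [Module K W]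
    (hW : Module.finrank K W = 2) (ρ : H →* Module.End K W) (hf : Fpf ρ) (S : Set H)
    (hS : Subgroup.closure S = ⊤) (hS3 : ∀ s ∈ S, s * s * s = 1 ∧ s ≠ 1) (hnc : ¬ ∀ x y : H, x * y = y * x) :
    ∃ t : H, t ≠ 1 ∧ t * t = 1 ∧
      ((∃ φ : H →* alternatingGroup (Fin 4), Function.Surjective φ ∧ ∀ h, φ h = 1 ↔ h = 1 ∨ h = t) ∨
       (∃ φ : H →* alternatingGroup (Fin 5), Function.Surjective φ ∧ ∀ h, φ h = 1 ↔ h = 1 ∨ h = t)) := by
  classical
  haveI : FiniteDimensional K W := FiniteDimensional.of_finrank_pos (by omega)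
  haveI : Nontrivial W := Module.nontrivial_of_finrank_pos (R := K) (by omega)
  let bas : Module.Basis (Fin 2) K W := Module.finBasisOfFinrankEq K W hW
  let e : Module.End K W ≃ₐ[K] Matrix (Fin 2) (Fin 2) K := LinearMap.toMatrixAlgEquiv bas
  let σ : H →* GL (Fin 2) K := MonoidHom.toHomUnits (((e : Module.End K W →* Matrix (Fin 2) (Fin 2) K)).comp ρ)
  have hσ : ∀ h, ((σ h : GL (Fin 2) K) : Matrix (Fin 2) (Fin 2) K) = e (ρ h) := fun h => rfl
  have hρinj := hf.injective
  have hσinj : ∀ h, ((σ h : GL (Fin 2) K) : Matrix (Fin 2) (Fin 2) K) = 1 → h = 1 := by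
    intro h hh
    rw [hσ] at hh
    have : ρ h = 1 := e.injective (by rw [hh, map_one])
    exact hρinj (by rw [this, map_one])
  let π : H →* PGL(2, K) := ProjGenLinGroup.mk.comp σ
  have hπ : ∀ h, π h = ProjGenLinGroup.mk (σ h) := fun h => rfl
  -- kernel consists of scalars
  have hker : ∀ h, π h = 1 ↔ ∃ c : K, ρ h = c • 1 := by
    intro h
    constructor
    · intro h1
      have h2 : ProjGenLinGroup.mk (1 : GL (Fin 2) K) = (ProjGenLinGroup.mk (σ h) : PGL(2, K)) := by
        rw [← hπ, h1, map_one]
      rw [ProjGenLinGroup.mk_eq_mk_iff] at h2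
      obtain ⟨u, hu⟩ := h2
      refine ⟨u, ?_⟩
      apply e.injective
      rw [← hσ, ← hu, one_mul, _root_.map_smul, map_one]
      ext i j
      simp [Matrix.one_apply, Matrix.diagonal_apply]
    · rintro ⟨c, hc⟩
      rw [hπ]
      refine mk_eq_one_of_scalar (c := c) ?_
      rw [hσ, hc, _root_.map_smul, map_one]
  have hcent : π.ker ≤ Subgroup.center H := by
    intro h hh
    obtain ⟨c, hc⟩ := (hker h).mp hh
    rw [Subgroup.mem_center_iff]
    intro k
    apply hρinj
    rw [map_mul, map_mul, hc]
    simp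
  -- no element of S is central
  have hSc : ∀ s ∈ S, π s ≠ 1 := by
    intro s hs h1
    have h2 := Subgroup.mem_center_iff.mp (hcent (MonoidHom.mem_ker.mpr h1))
    apply hnc
    have h3 : S ⊆ Subgroup.zpowers s := by
      intro y hy
      rcases hf.comm3 (hS3 s hs).1 (hS3 s hs).2 (hS3 y hy).1 (hS3 y hy).2 (h2 y).symm with h4 | h4
      · rw [h4]; exact Subgroup.mem_zpowers s
      · rw [h4]; exact Subgroup.mul_mem _ (Subgroup.mem_zpowers s) (Subgroup.mem_zpowers s)
    have h4 : (⊤ : Subgroup H) ≤ Subgroup.zpowers s := by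
      rw [← hS]; exact (Subgroup.closure_le _).mpr h3
    intro x y
    obtain ⟨i, hi⟩ := h4 (Subgroup.mem_top x)
    obtain ⟨j, hj⟩ := h4 (Subgroup.mem_top y)
    rw [← hi, ← hj]
    simp only
    rw [← _root_.zpow_add, ← _root_.zpow_add, add_comm]
  -- determinant one
  have hdetS : ∀ s ∈ S, GeneralLinearGroup.det (σ s) = 1 := by
    intro s hs
    set A := ((σ s : GL (Fin 2) K) : Matrix (Fin 2) (Fin 2) K) with hA
    have hq : A * A = -1 - A := by
      have h1 : ρ s * ρ s = -1 - ρ s := by
        ext v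
        rw [Module.End.mul_apply, hf.cube (hS3 s hs).1 (hS3 s hs).2]
        rfl
      rw [hA, hσ, ← map_mul, h1, map_sub, map_neg, map_one]
    have hCH : A * A = (A 0 0 + A 1 1) • A - A.det • 1 := by
      rw [Matrix.det_fin_two]
      ext i j
      rw [Matrix.mul_apply, Fin.sum_univ_two]
      fin_cases i <;> fin_cases j <;> simp <;> ring
    have h1 : (A 0 0 + A 1 1 + 1) • A = (A.det - 1) • (1 : Matrix (Fin 2) (Fin 2) K) := by
      have h2 : (A 0 0 + A 1 1) • A - A.det • 1 = -1 - A := by rw [← hCH, hq]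
      rw [add_smul, one_smul, sub_smul, one_smul]
      have h3 : (A 0 0 + A 1 1) • A = -1 - A + A.det • 1 := by rw [← h2]; abel
      rw [h3]; abel
    have htr : A 0 0 + A 1 1 + 1 = 0 := by
      by_contra hne
      apply hSc s hs
      rw [hπ]
      refine mk_eq_one_of_scalar (c := (A 0 0 + A 1 1 + 1)⁻¹ * (A.det - 1)) ?_
      rw [← hA, mul_smul, ← h1, smul_smul, inv_mul_cancel₀ hne, one_smul]
    rw [htr, zero_smul] at h1
    have h2 : A.det - 1 = 0 := by
      rcases smul_eq_zero.mp h1.symm with h3 | h3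
      · exact h3
      · exact absurd h3 one_ne_zero
    apply Units.ext
    rw [Units.val_one]
    exact sub_eq_zero.mp h2
  have hdet : ∀ h, GeneralLinearGroup.det (σ h) = 1 := by
    intro h
    have h1 : (⊤ : Subgroup H) ≤ ((GeneralLinearGroup.det).comp σ).ker := by
      rw [← hS, Subgroup.closure_le]
      intro s hs
      exact hdetS s hs
    exact h1 (Subgroup.mem_top h)
  -- kernel has exponent two
  have hker2 : ∀ h, π h = 1 → h * h = 1 := by
    intro h hh
    obtain ⟨c, hc⟩ := (hker h).mp hh
    have h1 : c * c = 1 := by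
      have h2 := congrArg Units.val (hdet h)
      rw [Units.val_one] at h2
      have h3 : ((σ h : GL (Fin 2) K) : Matrix (Fin 2) (Fin 2) K) = c • 1 := by
        rw [hσ, hc, _root_.map_smul, map_one]
      have h4 : ((σ h : GL (Fin 2) K) : Matrix (Fin 2) (Fin 2) K).det = 1 := h2
      rw [h3, Matrix.det_smul, Fintype.card_fin, Matrix.det_one, mul_one, pow_two] at h4
      exact h4
    apply hρinj
    rw [map_mul, hc, map_one, smul_mul_smul_comm, h1, one_mul, one_smul]
  -- generation in the image
  let π' : H →* π.range := π.rangeRestrict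
  haveI : Finite π.range := Finite.of_surjective π' π.rangeRestrict_surjective
  have hgen : ∀ L : Subgroup π.range, (∀ s ∈ S, π' s ∈ L) → L = ⊤ := by
    intro L hL
    have h1 : (⊤ : Subgroup H) ≤ L.comap π' := by
      rw [← hS, Subgroup.closure_le]
      exact hL
    rw [eq_top_iff]
    rintro ⟨_, ⟨h, rfl⟩⟩ _
    exact h1 (Subgroup.mem_top h)
  -- classification
  letI act : MulAction π.range (OnePoint K) := MulAction.compHom (OnePoint K) π.range.subtype
  let M : Mob π.range (OnePoint K) K := Mob.comp mob π.range.subtype (Subgroup.subtype_injective _)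
  have hU : ∀ x, M.U x = ⊥ := by
    intro x
    rw [eq_bot_iff]
    rintro ⟨_, ⟨h, rfl⟩⟩ hh
    rw [Mob.mem_U] at hh
    obtain ⟨h1, h2⟩ := hh
    have h1' : σ h • x = x := h1
    have h2' : chiU x (ProjGenLinGroup.mk (σ h)) = 1 := h2
    have h3 := chiU_mk h1'
    rw [h2', Units.val_one] at h3
    unfold chiK at h3
    have hdet0 : ((σ h : GL (Fin 2) K) : Matrix (Fin 2) (Fin 2) K).det ≠ 0 := (σ h).det_ne_zero
    rw [eq_comm, div_eq_one_iff_eq hdet0] at h3
    set A := ((σ h : GL (Fin 2) K) : Matrix (Fin 2) (Fin 2) K) with hA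
    have hl0 := lam_ne h1'
    rw [← hA] at hl0
    have hroot := root_of_eigen A (vec x) (vec_ne x) (lam A x) (lam_spec h1')
    have htr : lam A x + lam A x = A 0 0 + A 1 1 := by
      have h4 : lam A x * (lam A x + lam A x - (A 0 0 + A 1 1)) = 0 := by
        rw [← h3] at hroot
        linear_combination hroot
      exact sub_eq_zero.mp ((mul_eq_zero.mp h4).resolve_left hl0)
    have hcay := cayley A (lam A x) (lam A x) htr (by rw [← h3, pow_two])
    have hpow : A ^ orderOf h = 1 := by
      rw [hA, ← Units.val_pow_eq_pow_val, ← map_pow, pow_orderOf_eq_one, map_one, Units.val_one]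
    have hsc := scalar_of_pow A (lam A x) hcay (orderOf h) (orderOf_pos h) (hf.order_ne h (orderOf_pos h)) hpow hl0
    rw [Subgroup.mem_bot]
    apply Subtype.ext
    exact mk_eq_one_of_scalar hsc
  have hq : ∀ x, M.q x = 1 := by
    intro x
    show Nat.card (M.U x) = 1
    rw [hU x, Subgroup.card_bot]
  have hOut := M.nonsingular (fun x _ => hq x)
  -- conclusion from an isomorphism with an alternating group
  have fin : ∀ n : ℕ, 4 ≤ n → (e' : π.range ≃* alternatingGroup (Fin n)) →
      ∃ t : H, t ≠ 1 ∧ t * t = 1 ∧ ∃ φ : H →* alternatingGroup (Fin n), Function.Surjective φ ∧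
        ∀ h, φ h = 1 ↔ h = 1 ∨ h = t := by
    intro n hn e'
    have h2 : 2 ∣ Nat.card H := by
      have h3 : 2 ∣ Nat.card (alternatingGroup (Fin n)) := by
        have h4 : Nat.card (alternatingGroup (Fin n)) * 2 = n.factorial := by
          haveI : Nontrivial (Fin n) := Fin.nontrivial_iff_two_le.mpr (by omega)
          rw [mul_comm, nat_card_alternatingGroup, Nat.card_eq_fintype_card, Fintype.card_fin]
          exact Nat.mul_div_cancel' (Nat.dvd_factorial (by norm_num) (by omega))
        have h5 : 4 ∣ n.factorial := Nat.dvd_factorial (by norm_num) hn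
        rw [← h4] at h5
        omega
      rw [← Nat.card_congr e'.toEquiv] at h3
      exact h3.trans (Subgroup.card_range_dvd π)
    haveI : Fact (Nat.Prime 2) := ⟨Nat.prime_two⟩
    obtain ⟨t, ht⟩ := exists_prime_orderOf_dvd_card' 2 h2
    have ht2 : t * t = 1 := by rw [← pow_two, ← ht, pow_orderOf_eq_one]
    have ht1 : t ≠ 1 := by
      intro h; rw [h, orderOf_one] at ht; omega
    have hπt : π t = 1 := by
      rw [hker]
      refine ⟨-1, ?_⟩
      ext v
      rw [hf.neg ht2 ht1, LinearMap.smul_apply, Module.End.one_apply, neg_one_smul]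
    refine ⟨t, ht1, ht2, e'.toMonoidHom.comp π', ?_, ?_⟩
    · exact e'.surjective.comp π.rangeRestrict_surjective
    · intro h
      have h3 : (e'.toMonoidHom.comp π') h = 1 ↔ π h = 1 := by
        rw [MonoidHom.comp_apply]
        constructor
        · intro h4
          have h5 : π' h = 1 := e'.injective (by rw [map_one]; exact h4)
          exact congrArg Subtype.val h5
        · intro h4
          have h5 : π' h = 1 := Subtype.ext h4
          rw [h5, map_one]
      rw [h3]
      constructor
      · intro h4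
        by_cases h5 : h = 1
        · exact Or.inl h5
        · exact Or.inr (hf.involution_unique ht2 ht1 (hker2 h h4) h5)
      · rintro (rfl | rfl)
        · exact map_one π
        · exact hπt
  rcases hOut with ⟨x, hx⟩ | ⟨x, hq1, hn, hk⟩ | ⟨⟨e4⟩⟩ | ⟨⟨e4⟩⟩ | ⟨⟨e5⟩⟩ | ⟨x, hx, -⟩
  · -- fixed point
    exfalso
    haveI := M.cyclic_stab x (hU x)
    have hst : MulAction.stabilizer π.range x = ⊤ := by
      rw [eq_top_iff]; intro h _; exact hx h
    haveI : IsCyclic π.range := by
      have h1 : IsCyclic (⊤ : Subgroup π.range) := by rw [← hst]; infer_instance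
      exact isCyclic_of_surjective (Subgroup.topEquiv (G := π.range)) (Subgroup.topEquiv (G := π.range)).surjective
    apply hnc
    intro a b
    refine commutative_of_cyclic_center_quotient π' ?_ a b
    intro h hh
    apply hcent
    rw [MonoidHom.mem_ker] at hh ⊢
    exact congrArg Subtype.val hh
  · exfalso
    have hidx : (MulAction.stabilizer π.range x).index = 2 := by
      rw [MulAction.index_stabilizer]; exact hk
    have h1 := hgen (MulAction.stabilizer π.range x) (by
      intro s hs
      have h2 := Subgroup.mul_self_mem_of_index_two hidx (π' s)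
      have h3 : (π' s * π' s) * (π' s * π' s) = π' s := by
        have h4 : π' s * π' s * π' s = 1 := by rw [← map_mul, ← map_mul, (hS3 s hs).1, map_one]
        rw [← mul_assoc, h4, one_mul]
      rw [← h3]
      exact Subgroup.mul_mem _ h2 h2)
    rw [h1, Subgroup.index_top] at hidx
    omega
  · obtain ⟨t, h1, h2, h3⟩ := fin 4 le_rfl e4
    exact ⟨t, h1, h2, Or.inl h3⟩
  · exfalso
    have h1 := hgen ((alternatingGroup (Fin 4)).comap e4.toMonoidHom) (by
      intro s hs
      rw [Subgroup.mem_comap, Equiv.Perm.mem_alternatingGroup]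
      have h4 : e4 (π' s) * e4 (π' s) * e4 (π' s) = 1 := by
        rw [← map_mul, ← map_mul, ← map_mul, ← map_mul, (hS3 s hs).1, map_one, map_one]
      have h5 := congrArg Equiv.Perm.sign h4
      rw [map_mul, map_mul, map_one] at h5
      rcases Int.units_eq_one_or (Equiv.Perm.sign (e4 (π' s))) with h6 | h6
      · exact h6
      · rw [h6] at h5; exact absurd h5 (by decide))
    have h2 : Equiv.swap (0 : Fin 4) 1 ∈ alternatingGroup (Fin 4) := by
      obtain ⟨y, hy⟩ := e4.surjective (Equiv.swap (0 : Fin 4) 1)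
      have h3 : y ∈ (alternatingGroup (Fin 4)).comap e4.toMonoidHom := by rw [h1]; trivial
      rw [Subgroup.mem_comap] at h3
      rw [← hy]; exact h3
    rw [Equiv.Perm.mem_alternatingGroup, Equiv.Perm.sign_swap (by decide)] at h2
    exact absurd h2 (by decide)
  · obtain ⟨t, h1, h2, h3⟩ := fin 5 (by norm_num) e5
    exact ⟨t, h1, h2, Or.inr h3⟩
  · exfalso
    rw [hq x] at hx
    omega

end CfsgLib.H6Zas
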