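import Cfsg.Agent.LibH6ZasB

/-! The combinatorial part of Zassenhaus' theorem. -/

set_option autoImplicit false
set_option synthInstance.maxSize 2000

namespace CfsgLib.H6Zas

section decide
/-! ### facts about `A_4` and `A_5` -/

def T3 {G : Type*} [Group G] (a : G) : Prop := a * a * a = 1 ∧ a ≠ 1

def R {G : Type*} [Group G] (z a b : G) : Prop := a * b * (a * b) = z

/-- the image relation -/
def Q {G : Type*} [Group G] (a b : G) : Prop := a * b * (a * b) = 1 ∧ a * b ≠ 1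

instance {G : Type*} [Group G] [DecidableEq G] (a : G) : Decidable (T3 a) := by unfold T3; infer_instance
instance {G : Type*} [Group G] [DecidableEq G] (a b : G) : Decidable (Q a b) := by unfold Q; infer_instance

theorem f4a : ∀ x : Equiv.Perm (Fin 4), T3 x → ∀ w : Equiv.Perm (Fin 4), T3 w → x * w = w * x ∨ Q x w ∨ Q x w⁻¹ := by
  decide +kernel

theorem f4b : ∀ x : Equiv.Perm (Fin 4), T3 x → ∀ y : Equiv.Perm (Fin 4), T3 y → Q x y → ∀ w, T3 w → Q x w →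
    (w = y ∨ w = x * y * x⁻¹ ∨ w = x * x * y * (x * x)⁻¹) := by
  decide +kernel

def x0 : Equiv.Perm (Fin 5) := Equiv.swap 0 1 * Equiv.swap 1 2

theorem conj_x0 : ∀ x : Equiv.Perm (Fin 5), T3 x → ∃ g : Equiv.Perm (Fin 5), g * x * g⁻¹ = x0 := by
  decide +kernel

theorem f5a' : ∀ y : Equiv.Perm (Fin 5), T3 y → Q x0 y → ∀ w, T3 w → Q x0 w →
    (w = y ∨ w = x0 * y * x0⁻¹ ∨ w = x0 * x0 * y * (x0 * x0)⁻¹) ∨
    (Q y w ∨ Q (x0 * y * x0⁻¹) w ∨ Q (x0 * x0 * y * (x0 * x0)⁻¹) w) := by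
  decide +kernel

theorem f5b' : ∀ y : Equiv.Perm (Fin 5), T3 y → Q x0 y → ∀ w, T3 w → Q x0 w →
    (w = y ∨ w = x0 * y * x0⁻¹ ∨ w = x0 * x0 * y * (x0 * x0)⁻¹) ∨ Q y w ∨
      ((y * w) * (y * w) * (y * w) * (y * w) * (y * w) = 1 ∧ y * w ≠ 1) := by
  decide +kernel

theorem f5c' : ∀ w : Equiv.Perm (Fin 5), T3 w → x0 * w = w * x0 ∨
    ∃ m : Equiv.Perm (Fin 5), T3 m ∧ Q x0 m ∧ (Q m w ∨ Q m w⁻¹) := by
  decide +kernel

theorem f5d' : ∃ y w : Equiv.Perm (Fin 5), T3 y ∧ T3 w ∧ Q x0 y ∧ Q x0 w ∧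
    ¬ (w = y ∨ w = x0 * y * x0⁻¹ ∨ w = x0 * x0 * y * (x0 * x0)⁻¹) := by
  decide +kernel

theorem T3.conj {G : Type*} [Group G] {a : G} (h : T3 a) (g : G) : T3 (g * a * g⁻¹) := by
  refine ⟨?_, ?_⟩
  · have : g * a * g⁻¹ * (g * a * g⁻¹) * (g * a * g⁻¹) = g * (a * a * a) * g⁻¹ := by group
    rw [this, h.1]; group
  · intro h1
    apply h.2
    have : a = g⁻¹ * (g * a * g⁻¹) * g := by group
    rw [this, h1]; group

theorem T3.inv {G : Type*} [Group G] {a : G} (h : T3 a) : T3 a⁻¹ := by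
  refine ⟨?_, fun h1 => h.2 (inv_eq_one.mp h1)⟩
  rw [← mul_inv_rev, ← mul_inv_rev, ← mul_assoc, h.1, inv_one]

theorem Q.conj {G : Type*} [Group G] {a b : G} (h : Q a b) (g : G) : Q (g * a * g⁻¹) (g * b * g⁻¹) := by
  refine ⟨?_, ?_⟩
  · have : g * a * g⁻¹ * (g * b * g⁻¹) * (g * a * g⁻¹ * (g * b * g⁻¹)) = g * (a * b * (a * b)) * g⁻¹ := by group
    rw [this, h.1]; group
  · intro h1
    apply h.2
    have : a * b = g⁻¹ * (g * a * g⁻¹ * (g * b * g⁻¹)) * g := by group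
    rw [this, h1]; group

theorem Q.of_conj {G : Type*} [Group G] {a b : G} (g : G) (h : Q (g * a * g⁻¹) (g * b * g⁻¹)) : Q a b := by
  have := h.conj g⁻¹
  have e1 : ∀ x : G, g⁻¹ * (g * x * g⁻¹) * g⁻¹⁻¹ = x := fun x => by group
  rwa [e1, e1] at this

theorem f5a : ∀ x y w : Equiv.Perm (Fin 5), T3 x → T3 y → Q x y → T3 w → Q x w →
    (w = y ∨ w = x * y * x⁻¹ ∨ w = x * x * y * (x * x)⁻¹) ∨
    (Q y w ∨ Q (x * y * x⁻¹) w ∨ Q (x * x * y * (x * x)⁻¹) w) := by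
  intro x y w hx hy hxy hw hxw
  obtain ⟨g, hg⟩ := conj_x0 x hx
  have h := f5a' (g * y * g⁻¹) (hy.conj g) (by rw [← hg]; exact hxy.conj g) (g * w * g⁻¹) (hw.conj g)
    (by rw [← hg]; exact hxw.conj g)
  rw [← hg] at h
  have e1 : g * x * g⁻¹ * (g * y * g⁻¹) * (g * x * g⁻¹)⁻¹ = g * (x * y * x⁻¹) * g⁻¹ := by group
  have e2 : g * x * g⁻¹ * (g * x * g⁻¹) * (g * y * g⁻¹) * (g * x * g⁻¹ * (g * x * g⁻¹))⁻¹ =
    g * (x * x * y * (x * x)⁻¹) * g⁻¹ := by group
  rw [e1, e2] at h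
  have e3 : ∀ u v : Equiv.Perm (Fin 5), g * u * g⁻¹ = g * v * g⁻¹ → u = v := fun u v h =>
    mul_left_cancel (mul_right_cancel h)
  rcases h with (h | h | h) | (h | h | h)
  · exact Or.inl (Or.inl (e3 _ _ h))
  · exact Or.inl (Or.inr (Or.inl (e3 _ _ h)))
  · exact Or.inl (Or.inr (Or.inr (e3 _ _ h)))
  · exact Or.inr (Or.inl (Q.of_conj g h))
  · exact Or.inr (Or.inr (Or.inl (Q.of_conj g h)))
  · exact Or.inr (Or.inr (Or.inr (Q.of_conj g h)))

theorem f5b : ∀ x y w : Equiv.Perm (Fin 5), T3 x → T3 y → Q x y → T3 w → Q x w →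
    (w = y ∨ w = x * y * x⁻¹ ∨ w = x * x * y * (x * x)⁻¹) ∨ Q y w ∨
      ((y * w) * (y * w) * (y * w) * (y * w) * (y * w) = 1 ∧ y * w ≠ 1) := by
  intro x y w hx hy hxy hw hxw
  obtain ⟨g, hg⟩ := conj_x0 x hx
  have h := f5b' (g * y * g⁻¹) (hy.conj g) (by rw [← hg]; exact hxy.conj g) (g * w * g⁻¹) (hw.conj g)
    (by rw [← hg]; exact hxw.conj g)
  rw [← hg] at h
  have e1 : g * x * g⁻¹ * (g * y * g⁻¹) * (g * x * g⁻¹)⁻¹ = g * (x * y * x⁻¹) * g⁻¹ := by group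
  have e2 : g * x * g⁻¹ * (g * x * g⁻¹) * (g * y * g⁻¹) * (g * x * g⁻¹ * (g * x * g⁻¹))⁻¹ =
    g * (x * x * y * (x * x)⁻¹) * g⁻¹ := by group
  rw [e1, e2] at h
  have e3 : ∀ u v : Equiv.Perm (Fin 5), g * u * g⁻¹ = g * v * g⁻¹ → u = v := fun u v h =>
    mul_left_cancel (mul_right_cancel h)
  rcases h with (h | h | h) | h | ⟨h1, h2⟩
  · exact Or.inl (Or.inl (e3 _ _ h))
  · exact Or.inl (Or.inr (Or.inl (e3 _ _ h)))
  · exact Or.inl (Or.inr (Or.inr (e3 _ _ h)))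
  · exact Or.inr (Or.inl (Q.of_conj g h))
  · right; right
    have e4 : g * y * g⁻¹ * (g * w * g⁻¹) = g * (y * w) * g⁻¹ := by group
    rw [e4] at h1 h2
    refine ⟨?_, fun h3 => h2 (by rw [h3]; group)⟩
    have e5 : g * (y * w) * g⁻¹ * (g * (y * w) * g⁻¹) * (g * (y * w) * g⁻¹) * (g * (y * w) * g⁻¹) * (g * (y * w) * g⁻¹)
      = g * ((y * w) * (y * w) * (y * w) * (y * w) * (y * w)) * g⁻¹ := by group
    rw [e5] at h1
    apply e3 _ 1
    rw [h1]; group

theorem f5c : ∀ x w : Equiv.Perm (Fin 5), T3 x → T3 w → x * w = w * x ∨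
    ∃ m : Equiv.Perm (Fin 5), T3 m ∧ Q x m ∧ (Q m w ∨ Q m w⁻¹) := by
  intro x w hx hw
  obtain ⟨g, hg⟩ := conj_x0 x hx
  rcases f5c' (g * w * g⁻¹) (hw.conj g) with h | ⟨m, hm, h1, h2⟩
  · left
    rw [← hg] at h
    have e1 : g * x * g⁻¹ * (g * w * g⁻¹) = g * (x * w) * g⁻¹ := by group
    have e2 : g * w * g⁻¹ * (g * x * g⁻¹) = g * (w * x) * g⁻¹ := by group
    rw [e1, e2] at h
    exact mul_left_cancel (mul_right_cancel h)
  · right
    have e1 : ∀ x : Equiv.Perm (Fin 5), g⁻¹ * (g * x * g⁻¹) * g⁻¹⁻¹ = x := fun x => by group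
    have hm' : g * (g⁻¹ * m * g⁻¹⁻¹) * g⁻¹ = m := by group
    refine ⟨g⁻¹ * m * g⁻¹⁻¹, hm.conj _, ?_, ?_⟩
    · apply Q.of_conj g
      rw [hg, hm']; exact h1
    · rcases h2 with h2 | h2
      · left
        apply Q.of_conj g
        rw [hm']; exact h2
      · right
        apply Q.of_conj g
        rw [hm']
        have : g * w⁻¹ * g⁻¹ = (g * w * g⁻¹)⁻¹ := by group
        rw [this]; exact h2

theorem f5d : ∀ x : Equiv.Perm (Fin 5), T3 x → ∃ y w : Equiv.Perm (Fin 5), T3 y ∧ T3 w ∧ Q x y ∧ Q x w ∧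
    ¬ (w = y ∨ w = x * y * x⁻¹ ∨ w = x * x * y * (x * x)⁻¹) := by
  intro x hx
  obtain ⟨g, hg⟩ := conj_x0 x hx
  obtain ⟨y, w, hy, hw, h1, h2, h3⟩ := f5d'
  have e1 : ∀ m : Equiv.Perm (Fin 5), g * (g⁻¹ * m * g⁻¹⁻¹) * g⁻¹ = m := fun m => by group
  refine ⟨g⁻¹ * y * g⁻¹⁻¹, g⁻¹ * w * g⁻¹⁻¹, hy.conj _, hw.conj _, ?_, ?_, ?_⟩
  · apply Q.of_conj g
    rw [hg, e1]; exact h1
  · apply Q.of_conj g
    rw [hg, e1]; exact h2
  · intro h
    apply h3
    rw [← hg]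
    rcases h with h | h | h
    · left; exact mul_left_cancel (mul_right_cancel h)
    · right; left
      have := congrArg (fun t => g * t * g⁻¹) h
      simp only [e1] at this
      rw [this]; group
    · right; right
      have := congrArg (fun t => g * t * g⁻¹) h
      simp only [e1] at this
      rw [this]; group

end decide

/-! ### the context -/

variable {G : Type*} [Group G]

def Typ (n : ℕ) (z : G) (H : Subgroup G) : Prop :=
  ∃ φ : H →* Equiv.Perm (Fin n), φ.range = alternatingGroup (Fin n) ∧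
    ∀ h : H, φ h = 1 ↔ (h : G) = 1 ∨ (h : G) = z

open Subgroup

structure ZC (z : G) : Prop where
  z1 : z ≠ 1
  zz : z * z = 1
  cen : ∀ g : G, g * z = z * g
  uniq : ∀ t : G, t * t = 1 → t ≠ 1 → t = z
  pair : ∀ a b : G, T3 a → T3 b → a * b ≠ b * a →
    Typ 4 z (closure {a, b}) ∨ Typ 5 z (closure {a, b})
  triple : ∀ a b d : G, T3 a → T3 b → T3 d → R z a b → R z a d →
    Typ 4 z (closure {a, b, d}) ∨ Typ 5 z (closure {a, b, d})
  comm3 : ∀ a b : G, T3 a → T3 b → a * b = b * a → b = a ∨ b = a * a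
  quad : ∀ a b d e : G, T3 a → T3 b → T3 d → T3 e → R z a b → R z a d → R z a e → R z b d →
    R z b e → R z d e → (a * b * d * (a * b)) * e = e * (a * b * d * (a * b))

namespace ZC

variable {z : G} (Z : ZC z)
include Z

theorem R_symm {a b : G} (h : R z a b) : R z b a := by
  unfold R at h ⊢
  have : b * a * (b * a) = a⁻¹ * (a * b * (a * b)) * a := by group
  rw [this, h, mul_assoc, ← Z.cen, ← mul_assoc, inv_mul_cancel, one_mul]

theorem R_conj {a b : G} (h : R z a b) (g : G) : R z (g * a * g⁻¹) (g * b * g⁻¹) := by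
  unfold R at h ⊢
  have : g * a * g⁻¹ * (g * b * g⁻¹) * (g * a * g⁻¹ * (g * b * g⁻¹)) = g * (a * b * (a * b)) * g⁻¹ := by group
  rw [this, h, Z.cen, mul_inv_cancel_right]

/-- relation in the quotient lifts -/
theorem R_iff {n : ℕ} {H : Subgroup G} {φ : H →* Equiv.Perm (Fin n)}
    (hφ : ∀ h : H, φ h = 1 ↔ (h : G) = 1 ∨ (h : G) = z) (a b : H) :
    R z (a : G) (b : G) ↔ Q (φ a) (φ b) := by
  unfold R Q
  rw [← map_mul, ← map_mul, hφ, Ne, hφ]
  constructor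
  · intro h
    refine ⟨Or.inr h, ?_⟩
    rintro (h1 | h1)
    · have h2 : (a : G) * b = 1 := h1
      rw [h2, mul_one] at h; exact Z.z1 h.symm
    · have h2 : (a : G) * b = z := h1
      rw [h2, Z.zz] at h; exact Z.z1 h.symm
  · rintro ⟨h1 | h1, h2⟩
    · exfalso
      apply h2
      have h3 : (a : G) * b * ((a : G) * b) = 1 := h1
      by_cases h4 : (a : G) * b = 1
      · exact Or.inl h4
      · exact Or.inr (Z.uniq _ h3 h4)
    · exact h1

theorem T3_map {n : ℕ} {H : Subgroup G} {φ : H →* Equiv.Perm (Fin n)}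
    (hφ : ∀ h : H, φ h = 1 ↔ (h : G) = 1 ∨ (h : G) = z) (a : H) (ha : T3 (a : G)) : T3 (φ a) := by
  have h1 : a * a * a = 1 := Subtype.ext ha.1
  refine ⟨?_, ?_⟩
  · rw [← map_mul, ← map_mul, h1, map_one]
  · intro h
    rw [hφ] at h
    rcases h with h | h
    · exact ha.2 h
    · have := ha.1
      rw [h, Z.zz, one_mul] at this
      exact Z.z1 this

theorem z_mem {n : ℕ} (hn : 4 ≤ n) {H : Subgroup G} [Finite H] {φ : H →* Equiv.Perm (Fin n)}
    (hr : φ.range = alternatingGroup (Fin n)) : z ∈ H := by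
  have h3 : 2 ∣ Nat.card (alternatingGroup (Fin n)) := by
    have h4 : Nat.card (alternatingGroup (Fin n)) * 2 = n.factorial := by
      haveI : Nontrivial (Fin n) := Fin.nontrivial_iff_two_le.mpr (by omega)
      rw [mul_comm, nat_card_alternatingGroup, Nat.card_eq_fintype_card, Fintype.card_fin]
      exact Nat.mul_div_cancel' (Nat.dvd_factorial (by norm_num) (by omega))
    have h5 : 4 ∣ n.factorial := Nat.dvd_factorial (by norm_num) hn
    rw [← h4] at h5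
    omega
  have h2 : 2 ∣ Nat.card H := by
    rw [← hr] at h3
    exact h3.trans (Subgroup.card_range_dvd φ)
  haveI : Fact (Nat.Prime 2) := ⟨Nat.prime_two⟩
  obtain ⟨t, ht⟩ := exists_prime_orderOf_dvd_card' 2 h2
  have ht2 : t * t = 1 := by rw [← pow_two, ← ht, pow_orderOf_eq_one]
  have ht1 : t ≠ 1 := by
    intro h; rw [h, orderOf_one] at ht; omega
  have h6 : (t : G) = z := Z.uniq _ (congrArg Subtype.val ht2) (fun h => ht1 (Subtype.ext h))
  rw [← h6]; exact t.2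

theorem T3_lift {n : ℕ} {H : Subgroup G} (hz : z ∈ H) {φ : H →* Equiv.Perm (Fin n)}
    (hr : φ.range = alternatingGroup (Fin n))
    (hφ : ∀ h : H, φ h = 1 ↔ (h : G) = 1 ∨ (h : G) = z) {x : Equiv.Perm (Fin n)} (hx : T3 x) :
    ∃ a : H, T3 (a : G) ∧ φ a = x := by
  have hxm : x ∈ alternatingGroup (Fin n) := by
    rw [Equiv.Perm.mem_alternatingGroup]
    have h5 := congrArg Equiv.Perm.sign hx.1
    rw [map_mul, map_mul, map_one] at h5
    rcases Int.units_eq_one_or (Equiv.Perm.sign x) with h6 | h6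
    · exact h6
    · rw [h6] at h5; exact absurd h5 (by decide)
  rw [← hr] at hxm
  obtain ⟨h, hh⟩ := hxm
  have h1 : φ (h * h * h) = 1 := by rw [map_mul, map_mul, hh, hx.1]
  have hne : (h : G) ≠ 1 := fun h4 => hx.2 (by rw [← hh]; exact (hφ h).mpr (Or.inl h4))
  rw [hφ] at h1
  rcases h1 with h1 | h1
  · exact ⟨h, ⟨h1, hne⟩, hh⟩
  · have hzφ : φ ⟨z, hz⟩ = 1 := (hφ _).mpr (Or.inr rfl)
    refine ⟨h * ⟨z, hz⟩, ⟨?_, ?_⟩, by rw [map_mul, hzφ, mul_one, hh]⟩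
    · have h2 : (h : G) * h * h = z := h1
      show (h : G) * z * (h * z) * (h * z) = 1
      have h3 : (h : G) * z * (h * z) * (h * z) = (h * h * h) * (z * z) * z := by
        have := Z.cen h
        calc (h : G) * z * (h * z) * (h * z) = h * (z * h) * (z * (h * z)) := by group
          _ = h * (h * z) * (z * (h * z)) := by rw [← Z.cen]
          _ = h * h * (z * z) * (h * z) := by group
          _ = h * h * (h * z) := by rw [Z.zz, mul_one]
          _ = (h * h * h) * z := by group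
          _ = (h * h * h) * (z * z) * z := by rw [Z.zz, mul_one]
      rw [h3, h2, Z.zz, mul_one, Z.zz]
    · intro h4
      have h5 : (h : G) * z = 1 := h4
      apply hx.2
      rw [← hh, hφ]
      right
      rw [mul_eq_one_iff_eq_inv] at h5
      rw [h5, inv_eq_iff_mul_eq_one, Z.zz]

theorem card_typ {n : ℕ} (hn : 4 ≤ n) {H : Subgroup G} [Finite H] (hH : Typ n z H) :
    Nat.card H = 2 * Nat.card (alternatingGroup (Fin n)) := by
  obtain ⟨φ, hr, hφ⟩ := hH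
  have hz := Z.z_mem hn hr
  have h1 : Nat.card φ.ker = 2 := by
    have : (φ.ker : Set H) = {1, ⟨z, hz⟩} := by
      ext h
      rw [SetLike.mem_coe, MonoidHom.mem_ker, hφ, Set.mem_insert_iff, Set.mem_singleton_iff, Subtype.ext_iff,
        Subtype.ext_iff]
      rfl
    have h2 : Nat.card φ.ker = Set.ncard (φ.ker : Set H) := rfl
    rw [h2, this, Set.ncard_pair]
    intro h
    exact Z.z1 (congrArg Subtype.val h).symm
  rw [← hr, ← h1, ← Subgroup.index_ker, mul_comm, Subgroup.index_mul_card]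

end ZC

end CfsgLib.H6Zas
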