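import Cfsg.Agent.LibH6ZasC

/-! The combinatorial part of Zassenhaus' theorem: all elements of order three lie in a subgroup
with central quotient `A_4` or `A_5`. -/

set_option autoImplicit false

namespace CfsgLib.H6Zas

open Subgroup

variable {G : Type*} [Group G]

theorem three_cases {G : Type*} [Group G] {x : G} (hx : x * x * x = 1) (y : G) (i : ℤ) :
    x ^ i * y * x ^ (-i) = y ∨ x ^ i * y * x ^ (-i) = x * y * x⁻¹ ∨
      x ^ i * y * x ^ (-i) = x * x * y * (x * x)⁻¹ := by
  have h3 : x ^ (3 : ℤ) = 1 := by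
    have : x ^ (3 : ℤ) = x * x * x := by
      rw [show (3 : ℤ) = 1 + 1 + 1 by norm_num, zpow_add, zpow_add, zpow_one]
    rw [this, hx]
  have h4 : x ^ i = x ^ (i % 3) := by
    conv_lhs => rw [← Int.emod_add_mul_ediv i 3]
    rw [zpow_add, zpow_mul, h3, one_zpow, mul_one]
  have h5 : x ^ (-i) = (x ^ (i % 3))⁻¹ := by rw [zpow_neg, h4]
  rw [h5, h4]
  have h6 : i % 3 = 0 ∨ i % 3 = 1 ∨ i % 3 = 2 := by omega
  rcases h6 with h | h | h <;> rw [h]
  · left; simp
  · right; left; simp
  · right; right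
    have : x ^ (2 : ℤ) = x * x := by
      rw [show (2 : ℤ) = 1 + 1 by norm_num, zpow_add, zpow_one]
    rw [this]

namespace ZC

variable {z : G} (Z : ZC z)
include Z

omit Z in
theorem R_z_mem {a b : G} (h : R z a b) {L : Subgroup G} (ha : a ∈ L) (hb : b ∈ L) : z ∈ L := by
  unfold R at h
  rw [← h]
  exact L.mul_mem (L.mul_mem ha hb) (L.mul_mem ha hb)

omit Z in
theorem mem_of_map_eq {n : ℕ} {H : Subgroup G} {φ : H →* Equiv.Perm (Fin n)}
    (hφ : ∀ h : H, φ h = 1 ↔ (h : G) = 1 ∨ (h : G) = z) {c b : H} (h : φ c = φ b) {L : Subgroup G}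
    (hz : z ∈ L) (hb : (b : G) ∈ L) : (c : G) ∈ L := by
  have h1 : φ (b⁻¹ * c) = 1 := by rw [map_mul, map_inv, h, inv_mul_cancel]
  rw [hφ] at h1
  have h2 : (c : G) = b * ((b⁻¹ * c : H) : G) := by
    show (c : G) = b * ((b : G)⁻¹ * c)
    rw [mul_inv_cancel_left]
  rw [h2]
  rcases h1 with h1 | h1
  · rw [h1, mul_one]; exact hb
  · rw [h1]; exact L.mul_mem hb hz

theorem commute_of_map {n : ℕ} {H : Subgroup G} {φ : H →* Equiv.Perm (Fin n)}
    (hφ : ∀ h : H, φ h = 1 ↔ (h : G) = 1 ∨ (h : G) = z) {a c : H} (hc : T3 (c : G))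
    (h : φ a * φ c = φ c * φ a) : (a : G) * c = c * a := by
  have h1 : φ (c⁻¹ * (a * c * a⁻¹)) = 1 := by
    rw [map_mul, map_mul, map_mul, map_inv, map_inv, h]; group
  rw [hφ] at h1
  have h2 : (a : G) * c * (a : G)⁻¹ = c * ((c⁻¹ * (a * c * a⁻¹) : H) : G) := by
    show (a : G) * c * (a : G)⁻¹ = c * ((c : G)⁻¹ * (a * c * (a : G)⁻¹))
    rw [mul_inv_cancel_left]
  rcases h1 with h1 | h1
  · rw [h1, mul_one, mul_inv_eq_iff_eq_mul] at h2
    exact h2
  · exfalso
    rw [h1] at h2
    have h3 := (hc.conj (a : G)).1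
    rw [h2] at h3
    have h4 : (c : G) * z * (c * z) * (c * z) = (c * c * c) * (z * z) * z := by
      calc (c : G) * z * (c * z) * (c * z) = c * (z * c) * (z * (c * z)) := by group
        _ = c * (c * z) * (z * (c * z)) := by rw [← Z.cen]
        _ = c * c * (z * z) * (c * z) := by group
        _ = c * c * (c * z) := by rw [Z.zz, mul_one]
        _ = (c * c * c) * z := by group
        _ = (c * c * c) * (z * z) * z := by rw [Z.zz, mul_one]
    rw [h4, hc.1, Z.zz, one_mul, one_mul] at h3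
    exact Z.z1 h3

/-- matching partner -/
theorem exists_match {a b c : G} (ha : T3 a) (hb : T3 b) (hc : T3 c) (hab : R z a b) (hac : R z a c)
    (hcn : c ∉ closure {a, b}) : ∃ i : ℤ, R z (a ^ i * b * a ^ (-i)) c := by
  have mA : a ∈ closure {a, b} := subset_closure (by simp)
  have mB : b ∈ closure {a, b} := subset_closure (by simp)
  have hz := R_z_mem hab mA mB
  have ma : a ∈ closure {a, b, c} := subset_closure (by simp)
  have mb : b ∈ closure {a, b, c} := subset_closure (by simp)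
  have mc : c ∈ closure {a, b, c} := subset_closure (by simp)
  let a' : closure {a, b, c} := ⟨a, ma⟩
  let b' : closure {a, b, c} := ⟨b, mb⟩
  let c' : closure {a, b, c} := ⟨c, mc⟩
  rcases Z.triple a b c ha hb hc hab hac with ⟨φ, hr, hφ⟩ | ⟨φ, hr, hφ⟩
  · exfalso
    have h1 := f4b (φ a') (Z.T3_map hφ a' ha) (φ b') (Z.T3_map hφ b' hb) ((Z.R_iff hφ a' b').mp hab)
      (φ c') (Z.T3_map hφ c' hc) ((Z.R_iff hφ a' c').mp hac)
    apply hcn
    rcases h1 with h | h | h
    · exact mem_of_map_eq hφ (c := c') (b := b') h hz mB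
    · exact mem_of_map_eq hφ (c := c') (b := a' * b' * a'⁻¹) (by rw [h]; simp) hz
        (mul_mem (mul_mem mA mB) (inv_mem mA))
    · exact mem_of_map_eq hφ (c := c') (b := a' * a' * b' * (a' * a')⁻¹) (by rw [h]; simp) hz
        (mul_mem (mul_mem (mul_mem mA mA) mB) (inv_mem (mul_mem mA mA)))
  · have h1 := f5a (φ a') (φ b') (φ c') (Z.T3_map hφ a' ha) (Z.T3_map hφ b' hb) ((Z.R_iff hφ a' b').mp hab)
      (Z.T3_map hφ c' hc) ((Z.R_iff hφ a' c').mp hac)
    rcases h1 with (h | h | h) | (h | h | h)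
    · exact absurd (mem_of_map_eq hφ (c := c') (b := b') h hz mB) hcn
    · exact absurd (mem_of_map_eq hφ (c := c') (b := a' * b' * a'⁻¹) (by rw [h]; simp) hz
        (mul_mem (mul_mem mA mB) (inv_mem mA))) hcn
    · exact absurd (mem_of_map_eq hφ (c := c') (b := a' * a' * b' * (a' * a')⁻¹) (by rw [h]; simp) hz
        (mul_mem (mul_mem (mul_mem mA mA) mB) (inv_mem (mul_mem mA mA)))) hcn
    · refine ⟨0, ?_⟩
      have := (Z.R_iff hφ b' c').mpr h
      simpa using this
    · refine ⟨1, ?_⟩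
      have := (Z.R_iff hφ (a' * b' * a'⁻¹) c').mpr (by rw [map_mul, map_mul, map_inv]; exact h)
      simpa using this
    · refine ⟨2, ?_⟩
      have := (Z.R_iff hφ (a' * a' * b' * (a' * a')⁻¹) c').mpr (by
        rw [map_mul, map_mul, map_mul, map_inv, map_mul]; exact h)
      have e : a ^ (2 : ℤ) * b * a ^ (-2 : ℤ) = a * a * b * (a * a)⁻¹ := by
        rw [show (2 : ℤ) = 1 + 1 by norm_num, zpow_neg, zpow_add, zpow_one]
      rw [e]
      exact this

theorem key [Finite G] {H : Subgroup G} (hH : Typ 5 z H) {a c : G} (ha : a ∈ H) (hTa : T3 a) (hTc : T3 c)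
    (hR : R z a c) : c ∈ H := by
  have hH' := hH
  obtain ⟨φ, hr, hφ⟩ := hH
  have hz : z ∈ H := Z.z_mem (by norm_num) hr
  by_contra hc
  let a' : H := ⟨a, ha⟩
  have hx := Z.T3_map hφ a' hTa
  obtain ⟨y, w, hy, hw, hxy, hxw, hne⟩ := f5d (φ a') hx
  obtain ⟨b, hTb, hb⟩ := Z.T3_lift hz hr hφ hy
  obtain ⟨d, hTd, hd⟩ := Z.T3_lift hz hr hφ hw
  have hab : R z a b := (Z.R_iff hφ a' b).mpr (by rw [hb]; exact hxy)
  have had : R z a d := (Z.R_iff hφ a' d).mpr (by rw [hd]; exact hxw)
  have hle : ∀ e : H, closure {a, (e : G)} ≤ H := by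
    intro e
    rw [closure_le]
    rintro u (rfl | hu)
    · exact ha
    · rw [Set.mem_singleton_iff] at hu; rw [hu]; exact e.2
  obtain ⟨i, hi⟩ := Z.exists_match hTa hTb hTc hab hR (fun h => hc (hle b h))
  obtain ⟨j, hj⟩ := Z.exists_match hTa hTd hTc had hR (fun h => hc (hle d h))
  let b1 : H := a' ^ i * b * a' ^ (-i)
  let d1 : H := a' ^ j * d * a' ^ (-j)
  have eb1 : (b1 : G) = a ^ i * b * a ^ (-i) := rfl
  have ed1 : (d1 : G) = a ^ j * d * a ^ (-j) := rfl
  rw [← eb1] at hi
  rw [← ed1] at hj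
  have hTb1 : T3 (b1 : G) := by rw [eb1, zpow_neg]; exact hTb.conj _
  have hTd1 : T3 (d1 : G) := by rw [ed1, zpow_neg]; exact hTd.conj _
  have hconj : ∀ (e : G) (k : ℤ), R z a e → R z a (a ^ k * e * a ^ (-k)) := by
    intro e k h
    have h1 := Z.R_conj h (a ^ k)
    have e1 : a ^ k * a * (a ^ k)⁻¹ = a := by
      rw [← zpow_add_one, add_comm, zpow_one_add, mul_inv_cancel_right]
    rw [e1, ← zpow_neg] at h1
    exact h1
  have hab1 : R z a b1 := hconj _ _ hab
  have had1 : R z a d1 := hconj _ _ had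
  have hφb1 : φ b1 = (φ a') ^ i * y * (φ a') ^ (-i) := by
    show φ (a' ^ i * b * a' ^ (-i)) = _
    rw [map_mul, map_mul, map_zpow, map_zpow, hb]
  have hφd1 : φ d1 = (φ a') ^ j * w * (φ a') ^ (-j) := by
    show φ (a' ^ j * d * a' ^ (-j)) = _
    rw [map_mul, map_mul, map_zpow, map_zpow, hd]
  have hne1 : ∀ k : ℤ, φ d1 ≠ (φ a') ^ k * φ b1 * (φ a') ^ (-k) := by
    intro k h
    apply hne
    have h2 : w = (φ a') ^ (k + i - j) * y * (φ a') ^ (-(k + i - j)) := by
      rw [hφd1, hφb1] at h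
      have h3 : w = (φ a') ^ (-j) * ((φ a') ^ j * w * (φ a') ^ (-j)) * (φ a') ^ j := by
        rw [zpow_neg]; group
      rw [h3, h]
      simp only [zpow_add, zpow_sub, zpow_neg, neg_sub]
      group
    rw [h2]
    exact three_cases hx.1 y (k + i - j)
  have hcases := f5b (φ a') (φ b1) (φ d1) hx (Z.T3_map hφ b1 hTb1) ((Z.R_iff hφ a' b1).mp hab1)
    (Z.T3_map hφ d1 hTd1) ((Z.R_iff hφ a' d1).mp had1)
  rcases hcases with h | h | ⟨h5, h1⟩
  · rcases h with h | h | h
    · exact hne1 0 (by simpa using h)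
    · exact hne1 1 (by simpa using h)
    · apply hne1 2
      have e : (φ a') ^ (2 : ℤ) * φ b1 * (φ a') ^ (-2 : ℤ) = φ a' * φ a' * φ b1 * (φ a' * φ a')⁻¹ := by
        rw [show (2 : ℤ) = 1 + 1 by norm_num, zpow_neg, zpow_add, zpow_one]
      rw [e]; exact h
  · -- all related
    have hbd : R z (b1 : G) d1 := (Z.R_iff hφ b1 d1).mpr h
    have hq := Z.quad a b1 d1 c hTa hTb1 hTd1 hTc hab1 had1 hR hbd hi hj
    obtain ⟨s, hs⟩ : ∃ s, s = a * (b1 : G) := ⟨_, rfl⟩
    have hsH : s ∈ H := by rw [hs]; exact mul_mem ha b1.2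
    rw [← hs] at hq
    have hss : s * s = z := by rw [hs]; exact hab1
    have hsinv : s⁻¹ = s * z := by
      rw [inv_eq_iff_mul_eq_one, ← mul_assoc, hss, Z.zz]
    have hT := hTd1.conj s
    have hcomm : Commute (s * (d1 : G) * s⁻¹) c := by
      rw [hsinv, ← mul_assoc]
      have h1 : Commute (s * (d1 : G) * s) c := hq
      have h2 : Commute z c := (Z.cen c).symm
      exact h1.mul_left h2
    rcases Z.comm3 _ _ hT hTc hcomm with h1 | h1
    · apply hc
      rw [h1]
      exact mul_mem (mul_mem hsH d1.2) (inv_mem hsH)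
    · apply hc
      rw [h1]
      exact mul_mem (mul_mem (mul_mem hsH d1.2) (inv_mem hsH)) (mul_mem (mul_mem hsH d1.2) (inv_mem hsH))
  · -- a product of order five
    have hT1 := Z.T3_map hφ b1 hTb1
    have hT2 := Z.T3_map hφ d1 hTd1
    have h5' : (φ b1 * φ d1) ^ 5 = 1 := by
      rw [← h5]; simp only [pow_succ, pow_zero, one_mul]
    have hnc : (b1 : G) * d1 ≠ d1 * b1 := by
      intro h2
      have h3 : b1 * d1 = d1 * b1 := Subtype.ext h2
      have h4 : Commute (φ b1) (φ d1) := by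
        show φ b1 * φ d1 = φ d1 * φ b1
        rw [← map_mul, h3, map_mul]
      have h6 : (φ b1 * φ d1) ^ 3 = 1 := by
        rw [h4.mul_pow]
        have e1 : (φ b1) ^ 3 = 1 := by rw [← hT1.1]; simp only [pow_succ, pow_zero, one_mul]
        have e2 : (φ d1) ^ 3 = 1 := by rw [← hT2.1]; simp only [pow_succ, pow_zero, one_mul]
        rw [e1, e2, one_mul]
      apply h1
      have h7 : (φ b1 * φ d1) ^ Nat.gcd 5 3 = 1 := (pow_gcd_eq_one).mpr ⟨h5', h6⟩
      simpa using h7
    have c4 : Nat.card (alternatingGroup (Fin 4)) = 12 := by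
      rw [nat_card_alternatingGroup]; simp [Nat.factorial]
    have c5 : Nat.card (alternatingGroup (Fin 5)) = 60 := by
      rw [nat_card_alternatingGroup]; simp [Nat.factorial]
    have hcH : Nat.card H = 120 := by rw [Z.card_typ (by norm_num) hH', c5]
    have hleH : closure {(b1 : G), (d1 : G)} ≤ H := by
      rw [closure_le]
      rintro u (rfl | hu)
      · exact b1.2
      · rw [Set.mem_singleton_iff] at hu; rw [hu]; exact d1.2
    have heq : closure {(b1 : G), (d1 : G)} = H := by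
      rcases Z.pair _ _ hTb1 hTd1 hnc with h4 | h4
      · exfalso
        have h6 := Z.card_typ (by norm_num) h4
        rw [c4] at h6
        have mb : (b1 : G) * d1 ∈ closure {(b1 : G), (d1 : G)} :=
          mul_mem (subset_closure (by simp)) (subset_closure (by simp))
        have h7 : ((b1 : G) * d1) ^ 24 = 1 := by
          have h8 := Subgroup.orderOf_dvd_natCard _ mb
          rw [h6] at h8
          exact orderOf_dvd_iff_pow_eq_one.mp h8
        have h8 : (φ b1 * φ d1) ^ 24 = 1 := by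
          rw [← map_mul, ← map_pow]
          have : (b1 * d1) ^ 24 = 1 := Subtype.ext h7
          rw [this, map_one]
        apply h1
        have h9 : (φ b1 * φ d1) ^ Nat.gcd 5 24 = 1 := (pow_gcd_eq_one).mpr ⟨h5', h8⟩
        simpa using h9
      · have h6 := Z.card_typ (by norm_num) h4
        rw [c5] at h6
        exact Subgroup.eq_of_le_of_card_ge hleH (by rw [h6, hcH])
    have ht := Z.triple c b1 d1 hTc hTb1 hTd1 (Z.R_symm hi) (Z.R_symm hj)
    have hHK : H ≤ closure {c, (b1 : G), (d1 : G)} := by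
      exact le_trans (le_of_eq heq.symm)
        (closure_mono (by intro u hu; simp only [Set.mem_insert_iff, Set.mem_singleton_iff] at hu ⊢; tauto))
    have hcK : Nat.card (closure {c, (b1 : G), (d1 : G)}) = 24 ∨ Nat.card (closure {c, (b1 : G), (d1 : G)}) = 120 := by
      rcases ht with h4 | h4
      · left; rw [Z.card_typ (by norm_num) h4, c4]
      · right; rw [Z.card_typ (by norm_num) h4, c5]
    have hdvd := Subgroup.card_dvd_of_le hHK
    rw [hcH] at hdvd
    have hcK' : Nat.card (closure {c, (b1 : G), (d1 : G)}) = 120 := by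
      rcases hcK with h4 | h4
      · rw [h4] at hdvd; omega
      · exact h4
    have hK := Subgroup.eq_of_le_of_card_ge hHK (by rw [hcK', hcH])
    apply hc
    rw [hK]
    exact subset_closure (by simp)

/-- all elements of order three lie in a subgroup of icosahedral type -/
theorem all5 [Finite G] {H : Subgroup G} (hH : Typ 5 z H) (c : G) (hTc : T3 c) : c ∈ H := by
  have hH' := hH
  obtain ⟨φ, hr, hφ⟩ := hH
  have hz : z ∈ H := Z.z_mem (by norm_num) hr
  obtain ⟨a', hTa, -⟩ := Z.T3_lift hz hr hφ (x := x0) (by decide)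
  by_cases hcm : (a' : G) * c = c * a'
  · rcases Z.comm3 _ _ hTa hTc hcm with h | h
    · rw [h]; exact a'.2
    · rw [h]; exact mul_mem a'.2 a'.2
  have ma : (a' : G) ∈ closure {(a' : G), c} := subset_closure (by simp)
  have mc : c ∈ closure {(a' : G), c} := subset_closure (by simp)
  let a1 : closure {(a' : G), c} := ⟨a', ma⟩
  let c1 : closure {(a' : G), c} := ⟨c, mc⟩
  rcases Z.pair _ _ hTa hTc hcm with ⟨ψ, hr1, hψ⟩ | ⟨ψ, hr1, hψ⟩
  · rcases f4a (ψ a1) (Z.T3_map hψ a1 hTa) (ψ c1) (Z.T3_map hψ c1 hTc) with h | h | h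
    · exact absurd (Z.commute_of_map hψ (a := a1) (c := c1) hTc h) hcm
    · exact Z.key hH' a'.2 hTa hTc ((Z.R_iff hψ a1 c1).mpr h)
    · have h1 : R z (a' : G) c⁻¹ := (Z.R_iff hψ a1 c1⁻¹).mpr (by rw [map_inv]; exact h)
      have := Z.key hH' a'.2 hTa hTc.inv h1
      simpa using inv_mem this
  · rcases f5c (ψ a1) (ψ c1) (Z.T3_map hψ a1 hTa) (Z.T3_map hψ c1 hTc) with h | ⟨m, hm, h1, h2⟩
    · exact absurd (Z.commute_of_map hψ (a := a1) (c := c1) hTc h) hcm
    · have hz' := Z.z_mem (by norm_num) hr1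
      obtain ⟨M, hTM, hM⟩ := Z.T3_lift hz' hr1 hψ hm
      have hMH := Z.key hH' a'.2 hTa hTM ((Z.R_iff hψ a1 M).mpr (by rw [hM]; exact h1))
      rcases h2 with h2 | h2
      · exact Z.key hH' hMH hTM hTc ((Z.R_iff hψ M c1).mpr (by rw [hM]; exact h2))
      · have h3 : R z (M : G) c⁻¹ := (Z.R_iff hψ M c1⁻¹).mpr (by rw [hM, map_inv]; exact h2)
        have := Z.key hH' hMH hTM hTc.inv h3
        simpa using inv_mem this

theorem all4 [Finite G] (hno : ∀ H : Subgroup G, ¬ Typ 5 z H) {a b : G} (ha : T3 a) (hb : T3 b) (hab : R z a b)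
    (c : G) (hc : T3 c) : c ∈ closure {a, b} := by
  have mA : a ∈ closure {a, b} := subset_closure (by simp)
  have mB : b ∈ closure {a, b} := subset_closure (by simp)
  have hz := R_z_mem hab mA mB
  by_cases hcm : a * c = c * a
  · rcases Z.comm3 _ _ ha hc hcm with h | h
    · rw [h]; exact mA
    · rw [h]; exact mul_mem mA mA
  have key : ∀ c : G, T3 c → R z a c → c ∈ closure {a, b} := by
    intro c hc hac
    have ma : a ∈ closure {a, b, c} := subset_closure (by simp)
    have mb : b ∈ closure {a, b, c} := subset_closure (by simp)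
    have mc : c ∈ closure {a, b, c} := subset_closure (by simp)
    let a' : closure {a, b, c} := ⟨a, ma⟩
    let b' : closure {a, b, c} := ⟨b, mb⟩
    let c' : closure {a, b, c} := ⟨c, mc⟩
    rcases Z.triple a b c ha hb hc hab hac with ⟨φ, hr, hφ⟩ | h
    · have h1 := f4b (φ a') (Z.T3_map hφ a' ha) (φ b') (Z.T3_map hφ b' hb) ((Z.R_iff hφ a' b').mp hab)
        (φ c') (Z.T3_map hφ c' hc) ((Z.R_iff hφ a' c').mp hac)
      rcases h1 with h | h | h
      · exact mem_of_map_eq hφ (c := c') (b := b') h hz mB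
      · exact mem_of_map_eq hφ (c := c') (b := a' * b' * a'⁻¹) (by rw [h]; simp) hz
          (mul_mem (mul_mem mA mB) (inv_mem mA))
      · exact mem_of_map_eq hφ (c := c') (b := a' * a' * b' * (a' * a')⁻¹) (by rw [h]; simp) hz
          (mul_mem (mul_mem (mul_mem mA mA) mB) (inv_mem (mul_mem mA mA)))
    · exact absurd h (hno _)
  have ma : a ∈ closure {a, c} := subset_closure (by simp)
  have mc : c ∈ closure {a, c} := subset_closure (by simp)
  let a1 : closure {a, c} := ⟨a, ma⟩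
  let c1 : closure {a, c} := ⟨c, mc⟩
  rcases Z.pair _ _ ha hc hcm with ⟨ψ, hr1, hψ⟩ | h
  · rcases f4a (ψ a1) (Z.T3_map hψ a1 ha) (ψ c1) (Z.T3_map hψ c1 hc) with h | h | h
    · exact absurd (Z.commute_of_map hψ (a := a1) (c := c1) hc h) hcm
    · exact key c hc ((Z.R_iff hψ a1 c1).mpr h)
    · have h1 : R z a c⁻¹ := (Z.R_iff hψ a1 c1⁻¹).mpr (by rw [map_inv]; exact h)
      have := key c⁻¹ hc.inv h1
      simpa using inv_mem this
  · exact absurd h (hno _)

/-- the main combinatorial result -/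
theorem main [Finite G] {a b : G} (ha : T3 a) (hb : T3 b) (hab : a * b ≠ b * a) :
    ∃ H : Subgroup G, (Typ 4 z H ∨ Typ 5 z H) ∧ (∀ c, T3 c → c ∈ H) ∧ H ≤ closure {c : G | T3 c} := by
  by_cases h5 : ∃ H : Subgroup G, Typ 5 z H
  · obtain ⟨H, hH⟩ := h5
    refine ⟨H, Or.inr hH, Z.all5 hH, ?_⟩
    -- `H` is generated by its elements of order three
    have hno5 : ¬ Typ 4 z H := by
      intro h4
      have e1 := Z.card_typ (by norm_num) h4
      have e2 := Z.card_typ (by norm_num) hH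
      have c4 : Nat.card (alternatingGroup (Fin 4)) = 12 := by
        rw [nat_card_alternatingGroup]; simp [Nat.factorial]
      have c5 : Nat.card (alternatingGroup (Fin 5)) = 60 := by
        rw [nat_card_alternatingGroup]; simp [Nat.factorial]
      rw [e1, c4, c5] at e2; omega
    obtain ⟨φ, hr, hφ⟩ := hH
    have hz : z ∈ H := Z.z_mem (by norm_num) hr
    intro h hh
    -- image in the closure of three-cycles
    have h1 : φ ⟨h, hh⟩ ∈ alternatingGroup (Fin 5) := by rw [← hr]; exact ⟨_, rfl⟩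
    rw [← Equiv.Perm.closure_three_cycles_eq_alternating] at h1
    have h2 : closure {σ : Equiv.Perm (Fin 5) | σ.IsThreeCycle} ≤
        ((closure {c : G | T3 c}).subgroupOf H).map φ := by
      rw [closure_le]
      intro σ hσ
      have hσ3 : T3 σ := by
        have h3 := hσ.orderOf
        refine ⟨?_, ?_⟩
        · have h4 : σ ^ 3 = 1 := by rw [← h3]; exact pow_orderOf_eq_one σ
          rw [← h4]; simp only [pow_succ, pow_zero, one_mul]
        · intro h4; rw [h4, orderOf_one] at h3; omega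
      obtain ⟨c, hTc, hc⟩ := Z.T3_lift hz hr hφ hσ3
      exact ⟨c, mem_subgroupOf.mpr (subset_closure hTc), hc⟩
    obtain ⟨c, hc1, hc2⟩ := h2 h1
    have hzc : z ∈ closure {c : G | T3 c} := by
      obtain ⟨y, w, hy, hw, hxy, hxw, hne⟩ := f5d x0 (by decide)
      obtain ⟨u, hTu, hu⟩ := Z.T3_lift hz hr hφ (x := x0) (by decide)
      obtain ⟨v, hTv, hv⟩ := Z.T3_lift hz hr hφ hy
      exact R_z_mem ((Z.R_iff hφ u v).mpr (by rw [hu, hv]; exact hxy)) (subset_closure hTu) (subset_closure hTv)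
    exact mem_of_map_eq hφ (c := ⟨h, hh⟩) (b := c) hc2.symm hzc (mem_subgroupOf.mp hc1)
  · push Not at h5
    have ma : a ∈ closure {a, b} := subset_closure (by simp)
    have mb : b ∈ closure {a, b} := subset_closure (by simp)
    let a1 : closure {a, b} := ⟨a, ma⟩
    let b1 : closure {a, b} := ⟨b, mb⟩
    have h4 : Typ 4 z (closure {a, b}) := by
      rcases Z.pair _ _ ha hb hab with h | h
      · exact h
      · exact absurd h (h5 _)
    refine ⟨closure {a, b}, Or.inl h4, ?_, ?_⟩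
    · obtain ⟨ψ, hr1, hψ⟩ := h4
      rcases f4a (ψ a1) (Z.T3_map hψ a1 ha) (ψ b1) (Z.T3_map hψ b1 hb) with h | h | h
      · exact absurd (Z.commute_of_map hψ (a := a1) (c := b1) hb h) hab
      · exact Z.all4 h5 ha hb ((Z.R_iff hψ a1 b1).mpr h)
      · have h1 : R z a b⁻¹ := (Z.R_iff hψ a1 b1⁻¹).mpr (by rw [map_inv]; exact h)
        intro c hc
        have h2 := Z.all4 h5 ha hb.inv h1 c hc
        refine (closure_le _).mpr ?_ h2
        rintro u (rfl | hu)
        · exact ma
        · rw [Set.mem_singleton_iff] at hu; rw [hu]; exact inv_mem mb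
    · rw [closure_le]
      rintro u (rfl | hu)
      · exact subset_closure ha
      · rw [Set.mem_singleton_iff] at hu; rw [hu]; exact subset_closure hb

end ZC

end CfsgLib.H6Zas
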