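import Cfsg.Agent.LibH6ZasD

/-! From a fixed-point-free representation to the combinatorial context. -/

set_option autoImplicit false

namespace CfsgLib.H6Zas

open Subgroup

variable {K : Type*} [Field K] {V : Type*} [AddCommGroup V] [Module K V]
variable {G : Type*} [Group G] {ρ : G →* Module.End K V}

theorem inv_closure [Finite G] (S : Set G) (W : Submodule K V) (hinv : ∀ s ∈ S, ∀ w ∈ W, ρ s w ∈ W) :
    ∀ g ∈ closure S, ∀ w ∈ W, ρ g w ∈ W := by
  have hpow : ∀ g : G, (∀ w ∈ W, ρ g w ∈ W) → ∀ k : ℕ, ∀ w ∈ W, ρ (g ^ k) w ∈ W := by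
    intro g hg k
    induction k with
    | zero => intro w hw; rw [pow_zero, map_one]; exact hw
    | succ k ih => intro w hw; rw [pow_succ, map_mul]; exact ih _ (hg w hw)
  intro g hg
  induction hg using closure_induction with
  | mem x hx => exact hinv x hx
  | one => intro w hw; rw [map_one]; exact hw
  | mul x y _ _ hx hy => intro w hw; rw [map_mul]; exact hx _ (hy w hw)
  | inv x _ hx =>
    have h1 : x⁻¹ = x ^ (orderOf x - 1) := by
      rw [inv_eq_iff_mul_eq_one, ← pow_succ', Nat.sub_add_cancel (orderOf_pos x), pow_orderOf_eq_one]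
    rw [h1]
    exact hpow x hx _

theorem gen_sub [Finite G] [IsAlgClosed K] [FiniteDimensional K V] (hf : Fpf ρ) {z : G} (hz : z * z = 1)
    (hz1 : z ≠ 1) (S : Set G) (hS3 : ∀ s ∈ S, T3 s) (W : Submodule K V) (hW0 : W ≠ ⊥)
    (hW2 : Module.finrank K W ≤ 2) (hinv : ∀ s ∈ S, ∀ w ∈ W, ρ s w ∈ W)
    (hnc : ∃ x ∈ S, ∃ y ∈ S, x * y ≠ y * x) : Typ 4 z (closure S) ∨ Typ 5 z (closure S) := by
  have hinv' := inv_closure S W hinv
  haveI : Nontrivial W := (Submodule.nontrivial_iff_ne_bot).mpr hW0
  haveI : Nontrivial V := Function.Injective.nontrivial (f := (Subtype.val : W → V)) Subtype.val_injective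
  obtain ⟨x, hx, y, hy, hxy⟩ := hnc
  have hfr : Module.finrank K W = 2 := by
    have hpos : 0 < Module.finrank K W := Module.finrank_pos
    rcases Nat.lt_or_ge (Module.finrank K W) 2 with h | h
    · exfalso
      have h1 : Module.finrank K W = 1 := by omega
      obtain ⟨v, hv0, hv⟩ := (finrank_eq_one_iff' (K := K) (V := W)).mp h1
      obtain ⟨c, hc⟩ := hv ⟨ρ x v, hinv x hx v v.2⟩
      obtain ⟨d, hd⟩ := hv ⟨ρ y v, hinv y hy v v.2⟩
      have hc' : ρ x (v : V) = c • (v : V) := (congrArg Subtype.val hc).symm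
      have hd' : ρ y (v : V) = d • (v : V) := (congrArg Subtype.val hd).symm
      apply hxy
      refine hf.inj (v := (v : V)) (fun h0 => hv0 (Subtype.ext h0)) ?_
      rw [map_mul, map_mul, Module.End.mul_apply, Module.End.mul_apply, hc', hd', map_smul, map_smul, hc', hd',
        smul_smul, smul_smul, mul_comm]
    · omega
  let ρW : closure S →* Module.End K W :=
    { toFun := fun h => (ρ h).restrict (hinv' h h.2)
      map_one' := by
        ext w
        simp
      map_mul' := by
        intro a b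
        ext w
        simp }
  have hρW : ∀ (h : closure S) (w : W), ((ρW h w : W) : V) = ρ h w := fun h w => rfl
  have hfW : Fpf ρW := by
    intro h h1 w hw
    apply Subtype.ext
    apply hf h (fun h2 => h1 (Subtype.ext h2))
    rw [← hρW, hw]
  obtain ⟨t, ht1, htt, hcases⟩ := two_dim hfr ρW hfW ((Subtype.val : closure S → G) ⁻¹' S)
    (closure_closure_coe_preimage) (fun s hs => by
      have := hS3 s hs
      exact ⟨Subtype.ext this.1, fun h => this.2 (congrArg Subtype.val h)⟩)
    (fun h => hxy (congrArg Subtype.val (h ⟨x, subset_closure hx⟩ ⟨y, subset_closure hy⟩)))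
  have htz : (t : G) = z := hf.involution_unique hz hz1 (congrArg Subtype.val htt) (fun h => ht1 (Subtype.ext h))
  have fin : ∀ n : ℕ, (∃ φ : closure S →* alternatingGroup (Fin n), Function.Surjective φ ∧
      ∀ h, φ h = 1 ↔ h = 1 ∨ h = t) → Typ n z (closure S) := by
    rintro n ⟨φ, hs, hφ⟩
    refine ⟨(alternatingGroup (Fin n)).subtype.comp φ, ?_, ?_⟩
    · rw [MonoidHom.range_comp, MonoidHom.range_eq_top.mpr hs, ← MonoidHom.range_eq_map, Subgroup.range_subtype]
    · intro h
      have h1 : ((alternatingGroup (Fin n)).subtype.comp φ) h = 1 ↔ φ h = 1 := by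
        rw [MonoidHom.comp_apply, Subgroup.coe_subtype, OneMemClass.coe_eq_one]
      rw [h1, hφ, ← htz]
      constructor
      · rintro (h2 | h2)
        · left; rw [h2]; rfl
        · right; rw [h2]
      · rintro (h2 | h2)
        · left; exact Subtype.ext h2
        · right; exact Subtype.ext h2
  rcases hcases with h | h
  · exact Or.inl (fin 4 h)
  · exact Or.inr (fin 5 h)

theorem rel_of_R [Nontrivial V] (hf : Fpf ρ) {z : G} (hz : z * z = 1) (hz1 : z ≠ 1) {a b : G} (ha : T3 a) (hb : T3 b)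
    (h : R z a b) (v : V) : ρ a (ρ b v) + ρ b (ρ a v) = -v - ρ a v - ρ b v := by
  have h1 : a * b = z * (b * b) * (a * a) := by
    have e1 : b * b = b⁻¹ := by
      rw [eq_inv_iff_mul_eq_one]; exact hb.1
    have e2 : a * a = a⁻¹ := by
      rw [eq_inv_iff_mul_eq_one]; exact ha.1
    rw [e1, e2, ← h]
    group
  have h2 : ρ a (ρ b v) = - (ρ b (ρ b (ρ a (ρ a v)))) := by
    have : ρ (a * b) v = ρ (z * (b * b) * (a * a)) v := by rw [← h1]
    rw [map_mul, map_mul, map_mul, map_mul, map_mul] at this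
    simp only [Module.End.mul_apply] at this
    rw [this, hf.neg hz hz1]
  rw [h2, hf.cube ha.1 ha.2, hf.cube hb.1 hb.2]
  simp only [map_sub, map_neg]
  abel

theorem quad_lemma (A B D E : Module.End K V) (hA : ∀ v, A (A v) = -v - A v)
    (hB : ∀ v, B (B v) = -v - B v) (hD : ∀ v, D (D v) = -v - D v)
    (hAB : ∀ v, A (B v) + B (A v) = -v - A v - B v) (hAD : ∀ v, A (D v) + D (A v) = -v - A v - D v)
    (hBD : ∀ v, B (D v) + D (B v) = -v - B v - D v) (hAE : ∀ v, A (E v) + E (A v) = -v - A v - E v)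
    (hBE : ∀ v, B (E v) + E (B v) = -v - B v - E v) (hDE : ∀ v, D (E v) + E (D v) = -v - D v - E v)
    (v : V) : A (B (D (A (B (E v))))) = E (A (B (D (A (B v))))) := by
  have rBA : ∀ v, B (A v) = -v - A v - B v - A (B v) := fun v => by rw [← hAB]; abel
  have rDA : ∀ v, D (A v) = -v - A v - D v - A (D v) := fun v => by rw [← hAD]; abel
  have rDB : ∀ v, D (B v) = -v - B v - D v - B (D v) := fun v => by rw [← hBD]; abel
  have rEA : ∀ v, E (A v) = -v - A v - E v - A (E v) := fun v => by rw [← hAE]; abel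
  have rEB : ∀ v, E (B v) = -v - B v - E v - B (E v) := fun v => by rw [← hBE]; abel
  have rED : ∀ v, E (D v) = -v - D v - E v - D (E v) := fun v => by rw [← hDE]; abel
  simp only [hA, hB, hD, rBA, rDA, rDB, rEA, rEB, rED, map_sub, map_neg]
  abel

theorem zc_of_fpf [Finite G] [IsAlgClosed K] [FiniteDimensional K V] [Nontrivial V] (hf : Fpf ρ) {z : G}
    (hz : z * z = 1) (hz1 : z ≠ 1) : ZC z where
  z1 := hz1
  zz := hz
  cen := hf.involution_central hz hz1
  uniq := fun t ht h1 => hf.involution_unique hz hz1 ht h1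
  comm3 := fun a b ha hb hab => hf.comm3 ha.1 ha.2 hb.1 hb.2 hab
  pair := by
    intro a b ha hb hab
    obtain ⟨W, h0, h2, h3, h4⟩ := pair_lemma (ρ a) (ρ b) (hf.cube ha.1 ha.2) (hf.cube hb.1 hb.2)
    refine gen_sub hf hz hz1 {a, b} ?_ W h0 h2 ?_ ⟨a, by simp, b, by simp, hab⟩
    · rintro s (rfl | hs)
      · exact ha
      · rw [Set.mem_singleton_iff] at hs; rw [hs]; exact hb
    · rintro s (rfl | hs)
      · exact h3
      · rw [Set.mem_singleton_iff] at hs; rw [hs]; exact h4
  triple := by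
    intro a b d ha hb hd hab had
    obtain ⟨W, h0, h2, h3, h4, h5⟩ := triple_lemma (hf.two_ne hz hz1) (ρ a) (ρ b) (ρ d) (hf.cube ha.1 ha.2)
      (hf.cube hb.1 hb.2) (hf.cube hd.1 hd.2) (rel_of_R hf hz hz1 ha hb hab) (rel_of_R hf hz hz1 ha hd had)
    refine gen_sub hf hz hz1 {a, b, d} ?_ W h0 h2 ?_ ⟨a, by simp, b, by simp, ?_⟩
    · rintro s (rfl | rfl | hs)
      · exact ha
      · exact hb
      · rw [Set.mem_singleton_iff] at hs; rw [hs]; exact hd
    · rintro s (rfl | rfl | hs)
      · exact h3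
      · exact h4
      · rw [Set.mem_singleton_iff] at hs; rw [hs]; exact h5
    · intro hc
      have h6 : (a * b) ^ 3 = 1 := by
        have hcm : Commute a b := hc
        rw [hcm.mul_pow]
        have e1 : a ^ 3 = 1 := by rw [← ha.1]; simp only [pow_succ, pow_zero, one_mul]
        have e2 : b ^ 3 = 1 := by rw [← hb.1]; simp only [pow_succ, pow_zero, one_mul]
        rw [e1, e2, one_mul]
      have h7 : (a * b) ^ 4 = 1 := by
        have : (a * b) ^ 4 = (a * b * (a * b)) * (a * b * (a * b)) := by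
          simp only [pow_succ, pow_zero, one_mul]; group
        rw [this, hab, hz]
      have h8 : a * b = 1 := by
        have h9 : (a * b) ^ Nat.gcd 3 4 = 1 := (pow_gcd_eq_one).mpr ⟨h6, h7⟩
        simpa using h9
      unfold R at hab
      rw [h8, one_mul] at hab
      exact hz1 hab.symm
  quad := by
    intro a b d e ha hb hd he hab had hae hbd hbe hde
    obtain ⟨v, hv⟩ := exists_ne (0 : V)
    refine hf.inj hv ?_
    have := quad_lemma (ρ a) (ρ b) (ρ d) (ρ e) (hf.cube ha.1 ha.2)
      (hf.cube hb.1 hb.2) (hf.cube hd.1 hd.2) (rel_of_R hf hz hz1 ha hb hab) (rel_of_R hf hz hz1 ha hd had)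
      (rel_of_R hf hz hz1 hb hd hbd) (rel_of_R hf hz hz1 ha he hae) (rel_of_R hf hz hz1 hb he hbe)
      (rel_of_R hf hz hz1 hd he hde) v
    simp only [map_mul, Module.End.mul_apply]
    exact this

end CfsgLib.H6Zas
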