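import Cfsg.Statements.S0031
import Cfsg.Agent.LibSolvMisc

set_option autoImplicit false
open Cfsg

namespace Cfsg.Agent.S0031

open Pointwise

/-- A fixed-point-free automorphism of a finite group maps some Sylow p-subgroup to itself. -/
theorem result {G : Type*} [Group G] [Finite G] (φ : G ≃* G)
    (hφ : MonoidHom.FixedPointFree (φ : G →* G)) (p : ℕ) [Fact p.Prime] :
    ∃ P : Sylow p G, (P : Subgroup G).map (φ : G →* G) = P := by
  obtain ⟨P⟩ := (inferInstance : Nonempty (Sylow p G))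
  -- φ(P) is a Sylow subgroup
  let Q : Sylow p G := P.mapSurjective (f := (φ : G →* G)) φ.surjective
  have hQ : (Q : Subgroup G) = (P : Subgroup G).map (φ : G →* G) := rfl
  obtain ⟨g, hg⟩ := MulAction.exists_smul_eq G P Q
  obtain ⟨k, hk⟩ := hφ.commutatorMap_surjective g⁻¹
  have hk' : k * (φ k)⁻¹ = g⁻¹ := by
    have : k / φ k = g⁻¹ := hk
    rwa [div_eq_mul_inv] at this
  refine ⟨k⁻¹ • P, ?_⟩
  have h1 : ∀ (h : G) (S : Subgroup G), (MulAut.conj h • S).map (φ : G →* G) =
      MulAut.conj (φ h) • (S.map (φ : G →* G)) := by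
    intro h S
    ext y
    rw [CfsgLib.SolvBasic.mem_conj_smul]
    constructor
    · rintro ⟨x, hx, rfl⟩
      rw [SetLike.mem_coe, CfsgLib.SolvBasic.mem_conj_smul] at hx
      exact ⟨_, hx, by simp⟩
    · rintro ⟨x, hx, hxy⟩
      refine ⟨h * x * h⁻¹, ?_, ?_⟩
      · rw [SetLike.mem_coe, CfsgLib.SolvBasic.mem_conj_smul]
        have : h⁻¹ * (h * x * h⁻¹) * h = x := by group
        rwa [this]
      · have hxy' : φ x = (φ h)⁻¹ * y * φ h := hxy
        change φ (h * x * h⁻¹) = y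
        rw [map_mul, map_mul, map_inv, hxy']; group
  change (MulAut.conj k⁻¹ • (P : Subgroup G)).map (φ : G →* G) = MulAut.conj k⁻¹ • (P : Subgroup G)
  rw [h1, ← hQ, ← hg]
  change MulAut.conj (φ k⁻¹) • (MulAut.conj g • (P : Subgroup G)) = _
  rw [← CfsgLib.SolvBasic.conj_smul_mul]
  congr 2
  rw [map_inv]
  have : g = φ k * k⁻¹ := by rw [← inv_inv g, ← hk']; group
  rw [this]; group

end Cfsg.Agent.S0031
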