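import Cfsg.Statements.S0032
import Cfsg.Agent.LibSolvMisc

set_option autoImplicit false
open Cfsg

namespace Cfsg.Agent.S0032

/-- If an automorphism of a finite group fixes only the identity and maps a normal subgroup N into itself, then the only cosets of N it fixes are those in N: a fixed coset xN forces x ∈ N. -/
theorem result {G : Type*} [Group G] [Finite G] (φ : G ≃* G)
    (hφ : MonoidHom.FixedPointFree (φ : G →* G)) (N : Subgroup G) [N.Normal] (hN : ∀ n ∈ N, φ n ∈ N)
    (x : G) (hx : (φ x)⁻¹ * x ∈ N) : x ∈ N := by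
  have hinj := hφ.commutatorMap_injective
  -- the restriction to N
  let f : N → N := fun n => ⟨(n : G) / φ n, by
    rw [div_eq_mul_inv]; exact mul_mem n.2 (inv_mem (hN n n.2))⟩
  have hf : Function.Injective f := by
    intro a b hab
    have h1 : (a : G) / φ a = (b : G) / φ b := congrArg Subtype.val hab
    exact Subtype.ext (hinj h1)
  have hfs : Function.Surjective f := Finite.surjective_of_injective hf
  have h1 : x⁻¹ / φ x⁻¹ ∈ N := by
    have := inv_mem hx
    rw [map_inv, div_inv_eq_mul]
    rwa [mul_inv_rev, inv_inv] at this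
  obtain ⟨m, hm⟩ := hfs ⟨_, h1⟩
  have h2 : (m : G) / φ m = x⁻¹ / φ x⁻¹ := congrArg Subtype.val hm
  have h3 : (m : G) = x⁻¹ := hinj h2
  have h4 : x⁻¹ ∈ N := h3 ▸ m.2
  exact (inv_mem_iff).mp h4

end Cfsg.Agent.S0032
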