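import Cfsg.Agent.LibTransPC
import Cfsg.Agent.LibTransNil
import Cfsg.Agent.LibSolvNilp
import Cfsg.Agent.LibSolvBasic
import Cfsg.Agent.LibH2Npc
import Cfsg.Agent.S0031
import Cfsg.Agent.S0032

/-! Thompson's theorem on fixed-point-free automorphisms of prime order -/

set_option autoImplicit false

namespace CfsgLib.Thompson

open Subgroup Pointwise Cfsg

universe u

variable {G : Type u} [Group G]

section key

variable {A : Type u} [CommGroup A]

/-- the product over an orbit of a fixed point free automorphism of order dividing `p` -/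
theorem orbit_prod {p : ℕ} (φ : MulAut A) (hφ : ∀ a, φ a = a → a = 1) (hφp : φ ^ p = 1) (a : A) :
    ∏ i ∈ Finset.range p, (φ ^ i) a = 1 := by
  apply hφ
  rw [map_prod]
  have h1 : ∀ i ∈ Finset.range p, φ ((φ ^ i) a) = (φ ^ (i + 1)) a := by
    intro i _
    rw [pow_succ']; rfl
  rw [Finset.prod_congr rfl h1]
  have h2 := Finset.prod_range_succ (fun i => (φ ^ i) a) p
  rw [Finset.prod_range_succ'] at h2
  rw [hφp, pow_zero] at h2
  exact mul_right_cancel h2

end key

theorem key [Finite G] {N : Subgroup G} [hN : N.Normal] (hcomm : ∀ a ∈ N, ∀ b ∈ N, a * b = b * a)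
    (φ : MulAut G) (hφ : ∀ g, φ g = g → g = 1) {p : ℕ} (hp : p.Prime) (hφp : φ ^ p = 1)
    (hNφ : ∀ n, φ n ∈ N ↔ n ∈ N) (S : Subgroup G) (hSφ : ∀ s ∈ S, φ s ∈ S)
    (hco : (Nat.card S).Coprime (Nat.card N)) : ∀ n ∈ N, ∀ s ∈ S, s * n * s⁻¹ = n := by
  classical
  haveI : Fintype S := Fintype.ofFinite S
  letI : CommGroup N := { (inferInstance : Group N) with
    mul_comm := fun a b => Subtype.ext (hcomm a a.2 b b.2) }
  -- restriction of `φ` to `N`
  let f : MulAut N :=
    { toFun := fun n => ⟨φ n, (hNφ n).mpr n.2⟩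
      invFun := fun n => ⟨φ.symm n, by rw [← hNφ]; simp⟩
      left_inv := fun n => Subtype.ext (by simp)
      right_inv := fun n => Subtype.ext (by simp)
      map_mul' := fun a b => Subtype.ext (by simp) }
  have hf : ∀ n : N, ((f n : N) : G) = φ n := fun n => rfl
  have hfi : ∀ (i : ℕ) (n : N), (((f ^ i) n : N) : G) = (φ ^ i) n := by
    intro i
    induction i with
    | zero => intro n; rfl
    | succ i ih => intro n; rw [pow_succ', pow_succ']; exact congrArg φ (ih n)
  have hfp : f ^ p = 1 := by
    ext n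
    rw [hfi, hφp]; rfl
  have hfpf : ∀ a, f a = a → a = 1 := fun a ha => Subtype.ext (hφ a (congrArg Subtype.val ha))
  -- conjugation action
  let c : G → MulAut N := fun g => MulAut.conjNormal g
  have hc : ∀ (g : G) (n : N), ((c g n : N) : G) = g * n * g⁻¹ := fun g n => MulAut.conjNormal_apply g n
  have hcm : ∀ (g h : G) (n : N), c g (c h n) = c (g * h) n := by
    intro g h n
    apply Subtype.ext
    rw [hc, hc, hc]; group
  -- the trace
  let T : N → N := fun n => ∏ s : S, c (s : G) n
  have hT : ∀ (s : S) (n : N), c (s : G) (T n) = T n := by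
    intro s n
    change c (s : G) (∏ s : S, c (s : G) n) = _
    rw [map_prod]
    apply Fintype.prod_bijective (fun t : S => s * t) (Group.mulLeft_bijective s)
    intro t
    rw [hcm]; rfl
  -- bijectivity of `t ↦ t φ^i(t)⁻¹`
  have hSi : ∀ (i : ℕ) (s : G), s ∈ S → (φ ^ i) s ∈ S := by
    intro i
    induction i with
    | zero => intro s hs; exact hs
    | succ i ih => intro s hs; rw [pow_succ']; exact hSφ _ (ih s hs)
  have hbij : ∀ i : ℕ, 0 < i → i < p → Function.Bijective
      (fun t : S => (⟨t * ((φ ^ i) t)⁻¹, mul_mem t.2 (inv_mem (hSi i t t.2))⟩ : S)) := by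
    intro i h0 hi
    apply Finite.injective_iff_bijective.mp
    intro a b hab
    have h1 : (a : G) * ((φ ^ i) a)⁻¹ = b * ((φ ^ i) b)⁻¹ := congrArg Subtype.val hab
    have h2 : (φ ^ i) ((b : G)⁻¹ * a) = (b : G)⁻¹ * a := by
      rw [map_mul, map_inv]
      have : (a : G) = b * ((φ ^ i) b)⁻¹ * (φ ^ i) a := by rw [← h1]; group
      conv_rhs => rw [this]
      group
    have h3 : ((b : G)⁻¹ * a) = 1 := by
      apply hφ
      have hcop : Nat.Coprime i (orderOf φ) := by
        apply Nat.Coprime.coprime_dvd_right (orderOf_dvd_of_pow_eq_one hφp)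
        exact (hp.coprime_iff_not_dvd.mpr (Nat.not_dvd_of_pos_of_lt h0 hi)).symm
      obtain ⟨m, hm⟩ := exists_pow_eq_self_of_coprime hcop
      have h4 : ∀ k : ℕ, ((φ ^ i) ^ k) ((b : G)⁻¹ * a) = (b : G)⁻¹ * a := by
        intro k
        induction k with
        | zero => rfl
        | succ k ih => rw [pow_succ]; exact (congrArg _ h2).trans ih
      have h5 := h4 m
      rwa [hm] at h5
    exact Subtype.ext (inv_mul_eq_one.mp h3).symm
  -- the main identity
  have hmain : ∀ n : N, n ^ (Nat.card S) * ∏ i ∈ Finset.Ico 1 p, T ((f ^ i) n) = 1 := by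
    intro n
    have h1 : ∀ t : S, ∏ i ∈ Finset.range p, c ((t : G) * ((φ ^ i) t)⁻¹) ((f ^ i) n) = 1 := by
      intro t
      have h2 := orbit_prod f hfpf hfp (c (t : G)⁻¹ n)
      have h3 : c (t : G) (∏ i ∈ Finset.range p, (f ^ i) (c (t : G)⁻¹ n)) = 1 := by rw [h2, map_one]
      rw [map_prod] at h3
      rw [← h3]
      apply Finset.prod_congr rfl
      intro i _
      apply Subtype.ext
      rw [hc, hc, hfi, hfi, hc]
      rw [map_mul, map_mul, map_inv, inv_inv]
      group
    have h2 : ∏ t : S, ∏ i ∈ Finset.range p, c ((t : G) * ((φ ^ i) t)⁻¹) ((f ^ i) n) = 1 :=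
      Finset.prod_eq_one fun t _ => h1 t
    rw [Finset.prod_comm, Finset.prod_range_eq_mul_Ico _ hp.pos] at h2
    have h3 : ∏ t : S, c ((t : G) * ((φ ^ 0) t)⁻¹) ((f ^ 0) n) = n ^ (Nat.card S) := by
      rw [Finset.prod_congr rfl (g := fun _ => n)]
      · rw [Finset.prod_const, Finset.card_univ, Nat.card_eq_fintype_card]
      · intro t _
        apply Subtype.ext
        rw [hc, pow_zero, pow_zero]
        change (t : G) * (t : G)⁻¹ * n * _⁻¹ = n
        change (t : G) * (t : G)⁻¹ * n * ((t : G) * (t : G)⁻¹)⁻¹ = n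
        group
    rw [h3] at h2
    rw [← h2]
    congr 1
    apply Finset.prod_congr rfl
    intro i hi
    rw [Finset.mem_Ico] at hi
    exact (Fintype.prod_bijective _ (hbij i (by omega) hi.2) _ _ (fun t => rfl)).symm
  have hfix : ∀ (s : S) (n : N), c (s : G) (n ^ (Nat.card S)) = n ^ (Nat.card S) := by
    intro s n
    have h1 : n ^ (Nat.card S) = (∏ i ∈ Finset.Ico 1 p, T ((f ^ i) n))⁻¹ := eq_inv_of_mul_eq_one_left (hmain n)
    rw [h1, map_inv, map_prod]
    congr 1
    exact Finset.prod_congr rfl fun i _ => hT s _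
  intro n hn s hs
  have hcop : Nat.Coprime (Nat.card S) (orderOf (⟨n, hn⟩ : N)) :=
    hco.coprime_dvd_right (orderOf_dvd_natCard _)
  obtain ⟨m, hm⟩ := exists_pow_eq_self_of_coprime hcop
  have h1 : c s ((⟨n, hn⟩ : N)) = ⟨n, hn⟩ := by
    have := hfix ⟨s, hs⟩ (⟨n, hn⟩ : N)
    rw [← hm, map_pow, this]
  have h2 := congrArg Subtype.val h1
  rwa [hc] at h2

/-- restriction of an automorphism to an invariant subgroup -/
def resAut (φ : MulAut G) (K : Subgroup G) (hK : ∀ k, φ k ∈ K ↔ k ∈ K) : MulAut K where
  toFun k := ⟨φ k, (hK k).mpr k.2⟩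
  invFun k := ⟨φ.symm k, by rw [← hK]; simp⟩
  left_inv k := Subtype.ext (by simp)
  right_inv k := Subtype.ext (by simp)
  map_mul' a b := Subtype.ext (by simp)

theorem resAut_coe (φ : MulAut G) (K : Subgroup G) (hK : ∀ k, φ k ∈ K ↔ k ∈ K) (k : K) :
    ((resAut φ K hK k : K) : G) = φ k := rfl

theorem resAut_pow (φ : MulAut G) (K : Subgroup G) (hK : ∀ k, φ k ∈ K ↔ k ∈ K) (i : ℕ) (k : K) :
    (((resAut φ K hK ^ i) k : K) : G) = (φ ^ i) k := by
  induction i with
  | zero => rfl
  | succ i ih => rw [pow_succ', pow_succ']; exact congrArg φ ih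

/-- automorphism induced on the quotient by an invariant normal subgroup -/
def quoAut (φ : MulAut G) (N : Subgroup G) [N.Normal] (hN : ∀ k, φ k ∈ N ↔ k ∈ N) : MulAut (G ⧸ N) :=
  QuotientGroup.congr N N φ (by
    ext x
    constructor
    · rintro ⟨y, hy, rfl⟩; exact (hN y).mpr hy
    · intro hx
      exact ⟨φ.symm x, (hN _).mp (by simpa using hx), by simp⟩)

theorem quoAut_mk (φ : MulAut G) (N : Subgroup G) [N.Normal] (hN : ∀ k, φ k ∈ N ↔ k ∈ N) (x : G) :
    quoAut φ N hN (x : G ⧸ N) = ((φ x : G) : G ⧸ N) := rfl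

theorem quoAut_pow (φ : MulAut G) (N : Subgroup G) [N.Normal] (hN : ∀ k, φ k ∈ N ↔ k ∈ N) (i : ℕ) (x : G) :
    (quoAut φ N hN ^ i) (x : G ⧸ N) = (((φ ^ i) x : G) : G ⧸ N) := by
  induction i with
  | zero => rfl
  | succ i ih => rw [pow_succ', pow_succ']; exact congrArg (quoAut φ N hN) ih

theorem invariant_iff {φ : MulAut G} {K : Subgroup G} (h : K.map (φ : G →* G) = K) (k : G) : φ k ∈ K ↔ k ∈ K := by
  constructor
  · intro hk
    rw [← h] at hk
    obtain ⟨y, hy, hyk⟩ := hk
    rwa [← φ.injective hyk]
  · intro hk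
    rw [← h]
    exact ⟨k, hk, rfl⟩

theorem map_eq_of_invariant {φ : MulAut G} {K : Subgroup G} (h : ∀ k, φ k ∈ K ↔ k ∈ K) :
    K.map (φ : G →* G) = K := by
  ext x
  constructor
  · rintro ⟨y, hy, rfl⟩; exact (h y).mpr hy
  · intro hx
    exact ⟨φ.symm x, (h _).mp (by simpa using hx), by simp⟩

theorem char_invariant {K : Subgroup G} (hK : K.Characteristic) (φ : MulAut G) (k : G) : φ k ∈ K ↔ k ∈ K := by
  have h := hK.fixed φ
  constructor
  · intro hk; rw [← h]; exact hk
  · intro hk; rw [← h] at hk; exact hk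

theorem step [Finite G] {p : ℕ} (hp : p.Prime) (φ : MulAut G) (hφ : ∀ g, φ g = g → g = 1) (hφp : φ ^ p = 1)
    (N : Subgroup G) [hN : N.Normal] (hNφ : ∀ k, φ k ∈ N ↔ k ∈ N) (hcomm : ∀ a ∈ N, ∀ b ∈ N, a * b = b * a)
    {q : ℕ} [hq : Fact q.Prime] (hNq : IsPGroup q N) (hnil : Group.IsNilpotent (G ⧸ N)) : Group.IsNilpotent G := by
  apply (Group.isNilpotent_of_finite_tfae.out 0 3 rfl rfl).mpr
  intro s hs P
  have hs' : Fact s.Prime := hs
  have hfp : MonoidHom.FixedPointFree ((φ : G ≃* G) : G →* G) := fun g hg => hφ g hg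
  suffices H : ∃ S : Sylow s G, (S : Subgroup G).Normal by
    obtain ⟨S, hS⟩ := H
    have : P = S := by
      haveI := Sylow.unique_of_normal S hS
      exact Subsingleton.elim _ _
    rw [this]; exact hS
  obtain ⟨S, hS⟩ := Cfsg.Agent.S0031.result φ hfp s
  refine ⟨S, ?_⟩
  have hSφ : ∀ x ∈ (S : Subgroup G), φ x ∈ (S : Subgroup G) := fun x hx => (invariant_iff hS x).mpr hx
  -- `S N` is normal
  have h1 : ((S : Subgroup G) ⊔ N).Normal := by
    have h2 : (S.mapSurjective (QuotientGroup.mk'_surjective N) : Subgroup (G ⧸ N)).Normal :=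
      (Group.isNilpotent_of_finite_tfae.out 0 3 rfl rfl).mp hnil s hs' _
    have h3 := h2.comap (QuotientGroup.mk' N)
    have h4 : (S : Subgroup G) ⊔ N =
        (S.mapSurjective (QuotientGroup.mk'_surjective N) : Subgroup (G ⧸ N)).comap (QuotientGroup.mk' N) := by
      rw [Sylow.coe_mapSurjective, comap_map_eq, QuotientGroup.ker_mk']
    rw [h4]; exact h3
  have h5 : N ≤ normalizer ((S : Subgroup G) : Set G) := by
    by_cases hsq : s = q
    · subst hsq
      exact (CfsgLib.Cores.normal_le_sylow hN hNq S).trans le_normalizer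
    · have hco : (Nat.card S).Coprime (Nat.card N) :=
        IsPGroup.coprime_card_of_ne s q hsq (S : Subgroup G) N S.isPGroup' hNq
      have h6 := key hcomm φ hφ hp hφp hNφ (S : Subgroup G) hSφ hco
      intro n hn
      have h7 : ∀ x ∈ (S : Subgroup G), n * x = x * n := by
        intro x hx
        have := h6 n hn x hx
        exact (mul_inv_eq_iff_eq_mul.mp this).symm
      apply Subgroup.centralizer_le_normalizer
      rw [mem_centralizer_iff]
      intro x hx
      exact (h7 x hx).symm
  have h7 := Sylow.normalizer_sup_eq_top' (N := (S : Subgroup G) ⊔ N) S le_sup_left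
  have h8 : ((S : Subgroup G) ⊔ N) ≤ normalizer ((S : Subgroup G) : Set G) := sup_le le_normalizer h5
  have h9 : normalizer ((S : Subgroup G) : Set G) = ⊤ := by
    rw [eq_top_iff, ← h7]
    exact sup_le le_rfl h8
  exact normalizer_eq_top_iff.mp h9

/-- Thompson's theorem -/
theorem main {p : ℕ} (hp : p.Prime) (n : ℕ) : ∀ (G : Type u) [Group G] [Finite G], Nat.card G ≤ n →
    ∀ φ : MulAut G, (∀ g, φ g = g → g = 1) → φ ^ p = 1 → Group.IsNilpotent G := by
  induction n with
  | zero => intro G _ _ h; exact absurd h (by have := Nat.card_pos (α := G); omega)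
  | succ n ih =>
    intro G _ _ hcard φ hφ hφp
    have hfp : MonoidHom.FixedPointFree ((φ : G ≃* G) : G →* G) := fun g hg => hφ g hg
    -- induction for subgroups
    have hsub : ∀ K : Subgroup G, K ≠ ⊤ → (∀ k, φ k ∈ K ↔ k ∈ K) → Group.IsNilpotent K := by
      intro K hK hKφ
      have h1 := CfsgLib.SolvBasic.card_lt_of_ne_top hK
      refine ih K (by omega) (resAut φ K hKφ) ?_ ?_
      · intro g hg
        exact Subtype.ext (hφ g (congrArg Subtype.val hg))
      · ext k
        rw [resAut_pow, hφp]; rfl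
    have hquo : ∀ (K : Subgroup G) [K.Normal], K ≠ ⊥ → (∀ k, φ k ∈ K ↔ k ∈ K) → Group.IsNilpotent (G ⧸ K) := by
      intro K _ hK hKφ
      have h1 := CfsgLib.SolvBasic.card_quotient_lt K hK
      refine ih (G ⧸ K) (by omega) (quoAut φ K hKφ) ?_ ?_
      · intro g
        induction g using QuotientGroup.induction_on with
        | H g =>
          intro hg
          rw [quoAut_mk, QuotientGroup.eq] at hg
          rw [QuotientGroup.eq_one_iff]
          exact Cfsg.Agent.S0032.result φ hfp K (fun n hn => (hKφ n).mpr hn) g hg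
      · ext g
        induction g using QuotientGroup.induction_on with
        | H g => rw [quoAut_pow, hφp]; rfl
    by_cases hcase : ∃ N : Subgroup G, N.Normal ∧ N ≠ ⊥ ∧ N ≠ ⊤ ∧ ∀ k, φ k ∈ N ↔ k ∈ N
    · obtain ⟨N₀, hN₀, hb, ht, hinv⟩ := hcase
      haveI : Group.IsNilpotent N₀ := hsub N₀ ht hinv
      haveI : Nontrivial N₀ := (nontrivial_iff_ne_bot N₀).mpr hb
      haveI : Nontrivial (Subgroup.center N₀) := by
        rw [nontrivial_iff_ne_bot]
        have := CfsgLib.SolvNilp.inf_center_ne_bot (⊤ : Subgroup N₀) top_ne_bot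
        rwa [top_inf_eq] at this
      obtain ⟨q, hq, hqd⟩ := Nat.exists_prime_and_dvd (n := Nat.card (Subgroup.center N₀))
        (by have := Finite.one_lt_card (α := Subgroup.center N₀); omega)
      haveI : Fact q.Prime := ⟨hq⟩
      obtain ⟨z, hz⟩ := exists_prime_orderOf_dvd_card' (G := Subgroup.center N₀) q hqd
      -- the subgroup of central elements of order `q`
      let Z : Subgroup N₀ :=
        { carrier := {x | x ∈ Subgroup.center N₀ ∧ x ^ q = 1}
          one_mem' := ⟨one_mem _, one_pow _⟩
          mul_mem' := by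
            rintro a b ⟨ha, ha'⟩ ⟨hb, hb'⟩
            refine ⟨mul_mem ha hb, ?_⟩
            have : Commute a b := (Subgroup.mem_center_iff.mp ha b).symm
            rw [this.mul_pow, ha', hb', one_mul]
          inv_mem' := by
            rintro a ⟨ha, ha'⟩
            exact ⟨inv_mem ha, by rw [inv_pow, ha', inv_one]⟩ }
      have hZmem : ∀ x : N₀, x ∈ Z ↔ x ∈ Subgroup.center N₀ ∧ x ^ q = 1 := fun x => Iff.rfl
      have hZchar : Z.Characteristic := by
        rw [Subgroup.characteristic_iff_comap_eq]
        intro ψ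
        ext x
        rw [mem_comap, hZmem, hZmem]
        have h1 : ψ.toMonoidHom x ∈ Subgroup.center N₀ ↔ x ∈ Subgroup.center N₀ :=
          char_invariant (inferInstance) ψ x
        rw [h1]
        have h2 : (ψ.toMonoidHom x) ^ q = 1 ↔ x ^ q = 1 := by
          rw [← map_pow]
          exact map_eq_one_iff ψ.toMonoidHom ψ.injective
        rw [h2]
      have hZN : (Z.map N₀.subtype).Normal := by
        haveI := hZchar
        infer_instance
      refine step hp φ hφ hφp (Z.map N₀.subtype) ?_ ?_ (q := q) ?_ ?_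
      · intro k
        constructor
        · rintro ⟨y, hy, hyk⟩
          have hk : k ∈ N₀ := (hinv k).mp (hyk ▸ y.2)
          refine ⟨⟨k, hk⟩, ?_, rfl⟩
          have h1 : resAut φ N₀ hinv ⟨k, hk⟩ = y := Subtype.ext hyk.symm
          have h2 := (char_invariant hZchar (resAut φ N₀ hinv) ⟨k, hk⟩).mp
          exact h2 (h1 ▸ hy)
        · rintro ⟨y, hy, rfl⟩
          exact ⟨resAut φ N₀ hinv y, (char_invariant hZchar (resAut φ N₀ hinv) y).mpr hy, rfl⟩
      · rintro _ ⟨x, hx, rfl⟩ _ ⟨y, hy, rfl⟩
        have h1 := Subgroup.mem_center_iff.mp hx.1 y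
        exact (congrArg Subtype.val h1).symm
      · rintro ⟨_, ⟨x, hx, rfl⟩⟩
        refine ⟨1, ?_⟩
        apply Subtype.ext
        have := congrArg Subtype.val hx.2
        simpa using this
      · apply hquo
        · intro h
          rw [Subgroup.map_eq_bot_iff_of_injective _ N₀.subtype_injective] at h
          have h1 : (z : N₀) ∈ Z := ⟨z.2, by
            have : z ^ q = 1 := by rw [← hz]; exact pow_orderOf_eq_one z
            exact congrArg Subtype.val this⟩
          rw [h, mem_bot] at h1
          have h2 : z = 1 := Subtype.ext h1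
          rw [h2, orderOf_one] at hz
          exact hq.one_lt.ne hz
        · intro k
          constructor
          · rintro ⟨y, hy, hyk⟩
            have hk : k ∈ N₀ := (hinv k).mp (hyk ▸ y.2)
            refine ⟨⟨k, hk⟩, ?_, rfl⟩
            have h1 : resAut φ N₀ hinv ⟨k, hk⟩ = y := Subtype.ext hyk.symm
            have h2 := (char_invariant hZchar (resAut φ N₀ hinv) ⟨k, hk⟩).mp
            exact h2 (h1 ▸ hy)
          · rintro ⟨y, hy, rfl⟩
            exact ⟨resAut φ N₀ hinv y, (char_invariant hZchar (resAut φ N₀ hinv) y).mpr hy, rfl⟩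
    · push Not at hcase
      -- a two-group is nilpotent; otherwise there is an odd prime divisor
      by_cases h2 : IsPGroup 2 G
      · haveI : Fact (Nat.Prime 2) := ⟨Nat.prime_two⟩
        exact h2.isNilpotent
      · obtain ⟨q, hq, hqd, hq2⟩ : ∃ q : ℕ, q.Prime ∧ q ∣ Nat.card G ∧ q ≠ 2 := by
          by_contra hcon
          push Not at hcon
          apply h2
          haveI : Fact (Nat.Prime 2) := ⟨Nat.prime_two⟩
          rw [IsPGroup.iff_card]
          exact ⟨_, Nat.eq_prime_pow_of_unique_prime_dvd Nat.card_pos.ne' (fun {d} hd hdd => hcon d hd hdd)⟩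
        haveI : Fact q.Prime := ⟨hq⟩
        have hG : ¬ (⊤ : Subgroup G) = ⊥ := by
          intro h
          have h1 : Nat.card G = 1 := by rw [← card_top, h, card_bot]
          rw [h1] at hqd
          exact hq.one_lt.ne' (Nat.dvd_one.mp hqd)
        obtain ⟨P, hP⟩ := Cfsg.Agent.S0031.result φ hfp q
        have hPb : (P : Subgroup G) ≠ ⊥ := by
          intro h
          have h1 := P.dvd_card_of_dvd_card hqd
          rw [h, card_bot] at h1
          exact hq.one_lt.ne' (Nat.dvd_one.mp h1)
        have hZb := CfsgLib.H2Npc.centerThompsonOf_ne_bot (P.isPGroup') hPb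
        have hZφ : ∀ k, φ k ∈ centerThompsonOf q (P : Subgroup G) ↔ k ∈ centerThompsonOf q (P : Subgroup G) := by
          apply invariant_iff
          rw [← CfsgLib.H2Npc.centerThompsonOf_map q (φ : G →* G) φ.injective.injOn, hP]
        have hNφ : ∀ k, φ k ∈ normalizer (centerThompsonOf q (P : Subgroup G) : Set G) ↔
            k ∈ normalizer (centerThompsonOf q (P : Subgroup G) : Set G) := by
          intro k
          rw [mem_normalizer_iff, mem_normalizer_iff]
          constructor
          · intro h x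
            have := h (φ x)
            rw [← hZφ x, this, ← map_mul, ← map_inv, ← map_mul, hZφ]
          · intro h x
            have := h (φ.symm x)
            rw [← hZφ, ← hZφ (k * _ * _)] at this
            simpa using this
        by_cases hT : normalizer (centerThompsonOf q (P : Subgroup G) : Set G) = ⊤
        · have h1 : (centerThompsonOf q (P : Subgroup G)).Normal := normalizer_eq_top_iff.mp hT
          have h3 : centerThompsonOf q (P : Subgroup G) = ⊤ := by
            by_contra h4
            obtain ⟨k, hk⟩ := hcase _ h1 hZb h4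
            have := hZφ k
            tauto
          have h5 : (P : Subgroup G) = ⊤ := by
            rw [eq_top_iff, ← h3]
            exact CfsgLib.H2Npc.centerThompsonOf_le q _
          have h6 : IsPGroup q G := by
            have := P.isPGroup'
            rw [h5] at this
            exact this.of_equiv topEquiv
          exact h6.isNilpotent
        · have h1 := hsub _ hT hNφ
          have h3 : HasNormalPComplement q (normalizer (centerThompsonOf q (P : Subgroup G) : Set G)) :=
            CfsgLib.TransNil.hasNPC_of_isNilpotent h1 q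
          have h4 := CfsgLib.H2Npc.npc_of_ZJE hq2 P h3
          rw [CfsgLib.TransPC.hasNPC_iff] at h4
          obtain ⟨K, hK⟩ := h4
          have h5 : K = ⊥ := by
            by_contra h6
            have h7 : K ≠ ⊤ := by
              intro h8
              have h9 := hK.coprime
              rw [h8, card_top] at h9
              have := Nat.Coprime.eq_one_of_dvd h9.symm hqd
              exact hq.one_lt.ne' this
            obtain ⟨k, hk⟩ := hcase K hK.normal h6 h7
            have := char_invariant hK.characteristic φ k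
            tauto
          obtain ⟨k, hk⟩ := hK.2.2
          rw [h5, index_bot] at hk
          have h6 : IsPGroup q G := IsPGroup.of_card hk
          exact h6.isNilpotent

end CfsgLib.Thompson
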