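import Cfsg.Agent.LibSL23
import Cfsg.Agent.LibThompson
import Mathlib.GroupTheory.SpecificGroups.Quaternion

/-! Groups with quaternion Sylow subgroups: a section `SL(2,3)` -/

set_option autoImplicit false

namespace CfsgLib.QuatSyl

open Subgroup CfsgLib.SL23 CfsgLib.Thompson
open scoped MatrixGroups

universe u

variable {G : Type u} [Group G]

/-- an element of odd order normalizing a cyclic 2-group centralizes it -/
theorem commute_of_cyclic [Finite G] {C : Subgroup G} (hc : IsCyclic C) (h2 : IsPGroup 2 C) {g : G}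
    (hg : g ∈ normalizer (C : Set G)) (ho : (orderOf g).Coprime 2) : ∀ x ∈ C, g * x * g⁻¹ = x := by
  have hinv : ∀ k, MulAut.conj g k ∈ C ↔ k ∈ C := fun k => (mem_normalizer_iff.mp hg k).symm
  have h1 : (resAut (MulAut.conj g) C hinv) ^ (orderOf g) = 1 := by
    ext k
    rw [resAut_pow, ← map_pow, pow_orderOf_eq_one, map_one]; rfl
  haveI : Fact (Nat.Prime 2) := ⟨Nat.prime_two⟩
  obtain ⟨r, hr⟩ := IsPGroup.iff_card.mp h2
  have h3 : ∃ k, Nat.card (MulAut C) = 2 ^ k := by
    rw [IsCyclic.card_mulAut, hr]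
    cases r with
    | zero => exact ⟨0, by simp⟩
    | succ r => exact ⟨r, by rw [Nat.totient_prime_pow_succ Nat.prime_two]; simp⟩
  obtain ⟨k, hk⟩ := h3
  have h4 : resAut (MulAut.conj g) C hinv = 1 := by
    rw [← orderOf_eq_one_iff]
    apply Nat.eq_one_of_dvd_coprimes (ho.pow_right k)
    · exact orderOf_dvd_of_pow_eq_one h1
    · rw [← hk]; exact orderOf_dvd_natCard _
  intro x hx
  have h5 := congrArg (fun f : MulAut C => ((f ⟨x, hx⟩ : C) : G)) h4
  exact h5

/-- powers of an element of odd order -/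
theorem exists_pow_eq {g : G} (ho : (orderOf g).Coprime 2) (k : ℕ) : ∃ m, (g ^ (2 ^ k)) ^ m = g :=
  exists_pow_eq_self_of_coprime (ho.pow_right k).symm

theorem core [Finite G] {Q : Subgroup G} {α z g : G} (hα : ∃ N : ℕ, α ^ (2 ^ N) = 1)
    (h1 : ∀ t ∈ Q, t ∉ zpowers α → t * t = z ∧ ∀ s ∈ zpowers α, t * s = s⁻¹ * t)
    (h2 : ∀ t ∈ Q, ∀ s ∈ Q, t ∉ zpowers α → s ∉ zpowers α → t⁻¹ * s ∈ zpowers α)
    (hz2 : z * z = 1) (hz1 : z ≠ 1) (hzu : ∀ s ∈ zpowers α, s * s = 1 → s = 1 ∨ s = z)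
    (hg : g ∈ normalizer (Q : Set G)) (ho : (orderOf g).Coprime 2) (hne : ∃ x ∈ Q, g * x * g⁻¹ ≠ x) :
    ∃ (H K : Subgroup G) (_ : (K.subgroupOf H).Normal), Nonempty ((H ⧸ K.subgroupOf H) ≃* SL(2, ZMod 3)) := by
  obtain ⟨N, hN⟩ := hα
  have hgQ : ∀ x ∈ Q, g * x * g⁻¹ ∈ Q := fun x hx => (mem_normalizer_iff.mp hg x).mp hx
  have hA2 : IsPGroup 2 (zpowers α) := by
    rintro ⟨x, hx⟩
    obtain ⟨k, rfl⟩ := mem_zpowers_iff.mp hx
    refine ⟨N, Subtype.ext ?_⟩
    change (α ^ k) ^ (2 ^ N) = 1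
    rw [← zpow_natCast, zpow_comm, zpow_natCast, hN, one_zpow]
  set C : Subgroup G := Q ⊓ zpowers α with hC
  have hCcyc : IsCyclic C := by
    have : IsCyclic (zpowers α) := inferInstance
    exact isCyclic_of_injective (inclusion (inf_le_right : C ≤ zpowers α)) (inclusion_injective _)
  have hC2 : IsPGroup 2 C := hA2.to_le inf_le_right
  -- `g` does not normalize `C`
  have hgC : g ∉ normalizer (C : Set G) := by
    intro hgn
    have h3 := commute_of_cyclic hCcyc hC2 hgn ho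
    obtain ⟨x, hx, hgx⟩ := hne
    have hxα : x ∉ zpowers α := fun h => hgx (h3 x ⟨hx, h⟩)
    have hgxα : g * x * g⁻¹ ∉ zpowers α := by
      intro h
      have h4 : g * x * g⁻¹ ∈ C := ⟨hgQ x hx, h⟩
      have h5 := (mem_normalizer_iff.mp hgn x).mpr h4
      exact hxα h5.2
    have hc := h2 x hx _ (hgQ x hx) hxα hgxα
    have hcC : x⁻¹ * (g * x * g⁻¹) ∈ C := mem_inf.mpr ⟨mul_mem (inv_mem hx) (hgQ x hx), hc⟩
    obtain ⟨c, hcdef⟩ : ∃ c, c = x⁻¹ * (g * x * g⁻¹) := ⟨_, rfl⟩
    rw [← hcdef] at hcC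
    have h4 : g * x * g⁻¹ = x * c := by rw [hcdef]; group
    have h5 : ∀ k : ℕ, g ^ k * x * (g ^ k)⁻¹ = x * c ^ k := by
      intro k
      induction k with
      | zero => simp
      | succ k ih =>
        have h6 : g ^ (k + 1) * x * (g ^ (k + 1))⁻¹ = g * (g ^ k * x * (g ^ k)⁻¹) * g⁻¹ := by
          rw [pow_succ']; group
        have h7 : g * c ^ k * g⁻¹ = c ^ k := h3 _ (pow_mem hcC k)
        rw [h6, ih]
        calc g * (x * c ^ k) * g⁻¹ = (g * x * g⁻¹) * (g * c ^ k * g⁻¹) := by group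
          _ = x * c ^ (k + 1) := by rw [h4, h7, pow_succ']; group
    have h6 := h5 (orderOf g)
    rw [pow_orderOf_eq_one] at h6
    have h7 : c ^ (orderOf g) = 1 := by
      have : x * c ^ (orderOf g) = x := by rw [← h6]; group
      exact mul_eq_left.mp this
    obtain ⟨k, hk⟩ := hC2 ⟨c, hcC⟩
    have h8 : c ^ 2 ^ k = 1 := congrArg Subtype.val hk
    have h9 : c = 1 := by
      rw [← orderOf_eq_one_iff]
      exact Nat.eq_one_of_dvd_coprimes (ho.pow_right k) (orderOf_dvd_of_pow_eq_one h7) (orderOf_dvd_of_pow_eq_one h8)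
    rw [h9, mul_one] at h4
    exact hgx h4
  -- generator of `C`
  obtain ⟨⟨c, hcC⟩, hgen⟩ := hCcyc.exists_generator
  have hgen' : ∀ x ∈ C, x ∈ zpowers c := by
    intro x hx
    obtain ⟨k, hk⟩ := mem_zpowers_iff.mp (hgen ⟨x, hx⟩)
    exact mem_zpowers_iff.mpr ⟨k, congrArg Subtype.val hk⟩
  have hgc : g * c * g⁻¹ ∉ zpowers α := by
    intro h
    apply hgC
    have h3 : g * c * g⁻¹ ∈ C := ⟨hgQ c hcC.1, h⟩
    rw [CfsgLib.SolvBasic.mem_normalizer_iff_conj_smul]
    refine eq_of_le_of_card_ge ?_ (by rw [CfsgLib.SolvBasic.card_conj_smul])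
    intro y hy
    rw [CfsgLib.SolvBasic.mem_conj_smul] at hy
    obtain ⟨k, hk⟩ := mem_zpowers_iff.mp (hgen' _ hy)
    have h4 : y = (g * c * g⁻¹) ^ k := by
      rw [conj_zpow, hk]; group
    rw [h4]; exact zpow_mem h3 k
  obtain ⟨j, hj⟩ : ∃ j, j = g * c * g⁻¹ := ⟨_, rfl⟩
  rw [← hj] at hgc
  have hjQ : j ∈ Q := by rw [hj]; exact hgQ c hcC.1
  obtain ⟨hj2, hjinv⟩ := h1 j hjQ hgc
  have hcc : c * c * (c * c) = 1 := by
    have : g * (c * c * (c * c)) * g⁻¹ = 1 := by
      have h3 : g * (c * c * (c * c)) * g⁻¹ = j * j * (j * j) := by rw [hj]; group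
      rw [h3, hj2, hz2]
    rw [mul_inv_eq_one, mul_eq_left] at this
    exact this
  have hccz : c * c = z := by
    rcases hzu (c * c) (mul_mem hcC.2 hcC.2) hcc with h | h
    · exfalso
      have : j * j = 1 := by
        rw [hj]
        calc g * c * g⁻¹ * (g * c * g⁻¹) = g * (c * c) * g⁻¹ := by group
          _ = 1 := by rw [h]; group
      rw [hj2] at this
      exact hz1 this
    · exact h
  have hjc : j * c = c⁻¹ * j := hjinv c hcC.2
  have hcinv : c⁻¹ = z * c := by
    rw [inv_eq_iff_mul_eq_one]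
    have : c * (z * c) = z * z := by
      rw [← hccz]; group
    rw [this, hz2]
  have hzc : z * c = c * z := by rw [← hccz]; group
  have hzj : z * j = j * z := by rw [← hj2]; group
  have hzg : g * z = z * g := by
    have : g * z * g⁻¹ = z := by
      conv_lhs => rw [← hccz]
      have h3 : g * (c * c) * g⁻¹ = j * j := by rw [hj]; group
      rw [h3, hj2]
    exact mul_inv_eq_iff_eq_mul.mp this
  have hjinv' : j⁻¹ = z * j := by
    rw [inv_eq_iff_mul_eq_one, ← mul_assoc, ← hzj, mul_assoc, hj2, hz2]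
  -- powers of `c`
  have hpow : ∀ x ∈ zpowers c, x = 1 ∨ x = c ∨ x = z ∨ x = z * c := by
    intro x hx
    obtain ⟨k, hk⟩ := mem_zpowers_iff.mp hx
    have hc4 : c ^ (4 : ℤ) = 1 := by
      have : c ^ (4 : ℤ) = c * c * (c * c) := by
        rw [show (4 : ℤ) = 1 + 1 + 1 + 1 by norm_num, zpow_add, zpow_add, zpow_add, zpow_one]; group
      rw [this, hcc]
    have hk4 : c ^ k = c ^ (k % 4) := by
      conv_lhs => rw [← Int.mul_ediv_add_emod k 4, zpow_add, zpow_mul, hc4, one_zpow, one_mul]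
    have h3 : k % 4 = 0 ∨ k % 4 = 1 ∨ k % 4 = 2 ∨ k % 4 = 3 := by omega
    rw [hk4] at hk
    rcases h3 with h3 | h3 | h3 | h3
    · left; rw [← hk, h3, zpow_zero]
    · right; left; rw [← hk, h3, zpow_one]
    · right; right; left
      rw [← hk, h3, show (2 : ℤ) = 1 + 1 by norm_num, zpow_add, zpow_one, hccz]
    · right; right; right
      rw [← hk, h3, show (3 : ℤ) = 1 + 1 + 1 by norm_num, zpow_add, zpow_add, zpow_one, hccz]
  obtain ⟨k, hk⟩ : ∃ k, k = g * j * g⁻¹ := ⟨_, rfl⟩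
  have hkQ : k ∈ Q := by rw [hk]; exact hgQ j hjQ
  have hcj : c ≠ j := by
    intro h
    apply hgc
    rw [← h]; exact hcC.2
  have hgncomm : ∀ m : ℕ, g ^ (2 ^ m) * c * (g ^ (2 ^ m))⁻¹ ≠ c := by
    intro m h
    obtain ⟨l, hl⟩ := exists_pow_eq ho m
    have h3 : Commute (g ^ (2 ^ m)) c := mul_inv_eq_iff_eq_mul.mp h
    have h4 : Commute g c := by
      have := h3.pow_left l
      rwa [hl] at this
    apply hcj
    rw [hj, h4.eq]; group
  have hk1 : k ∉ zpowers c := by
    intro h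
    have h4 : g ^ 2 * c * (g ^ 2)⁻¹ = k := by rw [hk, hj, pow_two]; group
    rcases hpow k h with h3 | h3 | h3 | h3
    · rw [h3] at h4
      have : c = 1 := by
        have h5 : c = (g ^ 2)⁻¹ * (g ^ 2 * c * (g ^ 2)⁻¹) * g ^ 2 := by group
        rw [h5, h4]; group
      rw [this, mul_one] at hccz
      exact hz1 hccz.symm
    · exact hgncomm 1 (by rw [pow_one, h4, h3])
    · have h5 : k * k = 1 := by rw [h3, hz2]
      rw [← h4] at h5
      have h6 : c * c = 1 := by
        have h7 : c * c = (g ^ 2)⁻¹ * (g ^ 2 * c * (g ^ 2)⁻¹ * (g ^ 2 * c * (g ^ 2)⁻¹)) * g ^ 2 := by group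
        rw [h7, h5]; group
      rw [hccz] at h6
      exact hz1 h6
    · apply hgncomm 2
      have h5 : g ^ (2 ^ 2) * c * (g ^ (2 ^ 2))⁻¹ = g ^ 2 * (g ^ 2 * c * (g ^ 2)⁻¹) * (g ^ 2)⁻¹ := by
        have : g ^ (2 ^ 2) = g ^ 2 * g ^ 2 := by rw [← pow_add]; norm_num
        rw [this]; group
      have hz2g : g ^ 2 * z = z * g ^ 2 := ((show Commute g z from hzg).pow_left 2).eq
      rw [h5, h4, h3]
      calc g ^ 2 * (z * c) * (g ^ 2)⁻¹ = (g ^ 2 * z) * c * (g ^ 2)⁻¹ := by group
        _ = z * (g ^ 2 * c * (g ^ 2)⁻¹) := by rw [hz2g]; group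
        _ = c := by rw [h4, h3, ← mul_assoc, hz2, one_mul]
  have hkα : k ∉ zpowers α := fun h => hk1 (hgen' k ⟨hkQ, h⟩)
  have hjk := hpow _ (hgen' _ (mem_inf.mpr ⟨mul_mem (inv_mem hjQ) hkQ, h2 j hjQ k hkQ hgc hkα⟩))
  have hkj : k = c * j ∨ k = z * (c * j) := by
    rcases hjk with h | h | h | h
    · exfalso
      have h3 : k = j := (inv_mul_eq_one.mp h).symm
      apply hcj
      rw [hk, hj] at h3
      have h4 : g⁻¹ * (g * (g * c * g⁻¹) * g⁻¹) * g = g⁻¹ * (g * c * g⁻¹) * g := by rw [h3]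
      have h5 : g * c * g⁻¹ = c := by
        calc g * c * g⁻¹ = g⁻¹ * (g * (g * c * g⁻¹) * g⁻¹) * g := by group
          _ = g⁻¹ * (g * c * g⁻¹) * g := h4
          _ = c := by group
      rw [hj, h5]
    · right
      have h3 : k = j * c := by rw [← h]; group
      rw [h3, hjc, hcinv]; group
    · exfalso
      have h3 : k = j * z := by rw [← h]; group
      -- `g² j g⁻² = j`
      have h4 : g * k * g⁻¹ = j := by
        rw [h3]
        calc g * (j * z) * g⁻¹ = (g * j * g⁻¹) * (g * z * g⁻¹) := by group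
          _ = k * z := by rw [← hk, hzg]; group
          _ = j * (z * z) := by rw [h3]; group
          _ = j := by rw [hz2, mul_one]
      have h5 : g * j * g⁻¹ = j := by
        have h6 : Commute (g ^ 2 ^ 1) j := by
          have h7 : g ^ 2 * j * (g ^ 2)⁻¹ = j := by
            rw [pow_two]
            calc g * g * j * (g * g)⁻¹ = g * (g * j * g⁻¹) * g⁻¹ := by group
              _ = j := by rw [← hk, h4]
          rw [pow_one]
          exact mul_inv_eq_iff_eq_mul.mp h7
        obtain ⟨l, hl⟩ := exists_pow_eq ho 1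
        have h8 := h6.pow_left l
        rw [hl] at h8
        rw [h8.eq]; group
      have h9 : k = j := by rw [hk, h5]
      rw [h9] at h3
      have h10 : z = 1 := mul_eq_left.mp h3.symm
      exact hz1 h10
    · left
      have h3 : k = j * (z * c) := by rw [← h]; group
      rw [h3]
      calc j * (z * c) = (j * z) * c := by group
        _ = z * (j * c) := by rw [← hzj]; group
        _ = (z * z) * c * j := by rw [hjc, hcinv]; group
        _ = c * j := by rw [hz2, one_mul]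
  have hznot : z ∉ zpowers (g ^ 3) := by
    intro h
    have h3 : orderOf z = 2 := orderOf_eq_prime (by rw [pow_two]; exact hz2) hz1
    have h4 : orderOf z ∣ orderOf g := by
      obtain ⟨m, hm⟩ := mem_zpowers_iff.mp h
      rw [← hm]
      refine (orderOf_dvd_of_pow_eq_one ?_)
      rw [← zpow_natCast, ← zpow_mul, mul_comm, zpow_mul, zpow_natCast, ← pow_mul, mul_comm, pow_mul,
        pow_orderOf_eq_one, one_pow, one_zpow]
    rw [h3] at h4
    have h5 := Nat.dvd_gcd h4 (dvd_refl 2)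
    rw [ho] at h5
    omega
  rcases hkj with hkj | hkj
  · refine exists_section (i := c) (j := j) (g := g) ?_ ?_ ?_ ?_ ?_ ?_
    · rw [← hcc]; group
    · rw [hj2, hccz]
    · rw [hjc, hccz, hcinv]
    · rw [hj]; group
    · have : g * j = k * g := by rw [hk]; group
      rw [this, hkj]
    · rw [hccz]; exact hznot
  · have hi2 : z * c * (z * c) = z := by
      calc z * c * (z * c) = z * (c * z) * c := by group
        _ = (z * z) * (c * c) := by rw [← hzc]; group
        _ = z := by rw [hz2, hccz, one_mul]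
    have hjj2 : z * j * (z * j) = z := by
      calc z * j * (z * j) = z * (j * z) * j := by group
        _ = (z * z) * (j * j) := by rw [← hzj]; group
        _ = z := by rw [hz2, hj2, one_mul]
    refine exists_section (i := z * c) (j := z * j) (g := g) ?_ ?_ ?_ ?_ ?_ ?_
    · rw [hi2, mul_assoc, hi2, hz2]
    · rw [hi2, hjj2]
    · rw [hi2]
      calc z * j * (z * c) = z * (j * z) * c := by group
        _ = (z * z) * (j * c) := by rw [← hzj]; group
        _ = z * c * j := by rw [hz2, hjc, hcinv, one_mul]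
        _ = (z * z) * (z * c) * j := by rw [hz2, one_mul]
        _ = z * (z * (c * z)) * j := by rw [← hzc]; group
        _ = _ := by group
    · calc g * (z * c) = (g * z) * c := by group
        _ = z * (g * c) := by rw [hzg]; group
        _ = z * (j * g) := by
          have : g * c = j * g := by rw [hj]; group
          rw [this]
        _ = _ := by group
    · have hgj : g * j = k * g := by rw [hk]; group
      calc g * (z * j) = (g * z) * j := by group
        _ = z * (g * j) := by rw [hzg]; group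
        _ = (z * z) * (c * j * g) := by rw [hgj, hkj]; group
        _ = c * j * g := by rw [hz2, one_mul]
        _ = (z * z) * (c * j * g) := by rw [hz2, one_mul]
        _ = z * (z * c) * j * g := by group
        _ = z * (c * z) * j * g := by rw [hzc]
        _ = _ := by group
    · rw [hi2]; exact hznot

open QuaternionGroup in
theorem quat_facts (m : ℕ) (hm : 0 < m) :
    (∀ q : QuaternionGroup m, q ∈ zpowers (a 1 : QuaternionGroup m) ∨ ∃ i, q = xa i) ∧
    (∀ i : ZMod (2 * m), (xa i : QuaternionGroup m) * xa i = a m) ∧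
    (∀ s ∈ zpowers (a 1 : QuaternionGroup m), ∀ i : ZMod (2 * m), xa i * s = s⁻¹ * xa i) ∧
    (∀ i j : ZMod (2 * m), (xa i : QuaternionGroup m)⁻¹ * xa j ∈ zpowers (a 1 : QuaternionGroup m)) ∧
    ((a m : QuaternionGroup m) * a m = 1) ∧ ((a m : QuaternionGroup m) ≠ 1) ∧
    (∀ s ∈ zpowers (a 1 : QuaternionGroup m), s * s = 1 → s = 1 ∨ s = a m) := by
  haveI : NeZero m := ⟨hm.ne'⟩
  have h1 : ∀ i : ZMod (2 * m), (a i : QuaternionGroup m) ∈ zpowers (a 1 : QuaternionGroup m) := by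
    intro i
    rw [mem_zpowers_iff]
    refine ⟨(i.val : ℤ), ?_⟩
    rw [zpow_natCast, a_one_pow, ZMod.natCast_val, ZMod.cast_id', id]
  have h2 : ∀ s ∈ zpowers (a 1 : QuaternionGroup m), ∃ i, s = a i := by
    intro s hs
    obtain ⟨k, hk⟩ := mem_zpowers_iff.mp hs
    obtain ⟨l, hl⟩ := (isOfFinOrder_of_finite (a 1 : QuaternionGroup m)).mem_powers_iff_mem_zpowers.mpr hs
    refine ⟨l, ?_⟩
    rw [← hl]
    exact (a_one_pow l)
  have hmm : ((m : ℕ) : ZMod (2 * m)) + m = 0 := by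
    have : ((2 * m : ℕ) : ZMod (2 * m)) = 0 := ZMod.natCast_self _
    rw [← this]; push_cast; ring
  refine ⟨?_, ?_, ?_, ?_, ?_, ?_, ?_⟩
  · rintro (i | i)
    · left; exact h1 i
    · right; exact ⟨i, rfl⟩
  · intro i
    rw [xa_mul_xa, add_sub_cancel_right]
  · intro s hs i
    obtain ⟨j, rfl⟩ := h2 s hs
    have hinva : (a j : QuaternionGroup m)⁻¹ = a (-j) := rfl
    rw [hinva, xa_mul_a, a_mul_xa, sub_neg_eq_add]
  · intro i j
    have hinvxa : (xa i : QuaternionGroup m)⁻¹ = xa ((m : ZMod (2 * m)) + i) := rfl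
    rw [hinvxa, xa_mul_xa]
    exact h1 _
  · rw [a_mul_a, hmm]; rfl
  · intro h
    have h3 : (a m : QuaternionGroup m) = a 0 := h
    have h4 : ((m : ℕ) : ZMod (2 * m)) = 0 := a.inj h3
    rw [ZMod.natCast_eq_zero_iff] at h4
    have := Nat.le_of_dvd hm h4
    omega
  · intro s hs hss
    obtain ⟨j, rfl⟩ := h2 s hs
    rw [a_mul_a] at hss
    have h4 : j + j = 0 := a.inj hss
    have h5 : ((2 * j.val : ℕ) : ZMod (2 * m)) = 0 := by
      push_cast
      rw [ZMod.natCast_val, ZMod.cast_id', id]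
      exact (two_mul j).trans h4
    rw [ZMod.natCast_eq_zero_iff] at h5
    have h6 : m ∣ j.val := Nat.dvd_of_mul_dvd_mul_left two_pos h5
    have h7 := j.val_lt
    obtain ⟨k, hk⟩ := h6
    have h8 : k < 2 := by
      by_contra h9
      have : m * 2 ≤ m * k := Nat.mul_le_mul_left m (by omega)
      omega
    have h9 : j = ((j.val : ℕ) : ZMod (2 * m)) := by rw [ZMod.natCast_val, ZMod.cast_id', id]
    interval_cases k
    · left
      rw [h9, hk, mul_zero]; simp
    · right
      rw [h9, hk, mul_one]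

theorem main [Finite G] (T : Sylow 2 G) (n : ℕ) (e : (T : Subgroup G) ≃* QuaternionGroup (2 ^ n))
    (hN : ¬ Cfsg.HasNormalPComplement 2 G) :
    ∃ (H K : Subgroup G) (_ : (K.subgroupOf H).Normal), Nonempty ((H ⧸ K.subgroupOf H) ≃* SL(2, ZMod 3)) := by
  haveI : Fact (Nat.Prime 2) := ⟨Nat.prime_two⟩
  rw [CfsgLib.TransPC.hasNPC_iff, CfsgLib.TransPC.frobenius_iff T] at hN
  push Not at hN
  obtain ⟨Q, hQT, g, hg, ho, hgC⟩ := hN
  obtain ⟨f1, f2, f3, f4, f5, f6, f7⟩ := quat_facts (2 ^ n) (by positivity)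
  set α : G := ((e.symm (QuaternionGroup.a 1) : (T : Subgroup G)) : G) with hα
  set z : G := ((e.symm (QuaternionGroup.a ((2 ^ n : ℕ) : ZMod (2 * 2 ^ n))) : (T : Subgroup G)) : G) with hz
  -- transfer
  have hzp : ∀ s ∈ zpowers α, ∃ q ∈ zpowers (QuaternionGroup.a 1 : QuaternionGroup (2 ^ n)), ((e.symm q : (T : Subgroup G)) : G) = s := by
    intro s hs
    obtain ⟨k, hk⟩ := mem_zpowers_iff.mp hs
    refine ⟨(QuaternionGroup.a 1) ^ k, zpow_mem (mem_zpowers _) k, ?_⟩
    rw [map_zpow, ← hk]; rfl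
  have hzp' : ∀ q ∈ zpowers (QuaternionGroup.a 1 : QuaternionGroup (2 ^ n)), ((e.symm q : (T : Subgroup G)) : G) ∈ zpowers α := by
    intro q hq
    obtain ⟨k, hk⟩ := mem_zpowers_iff.mp hq
    rw [← hk, map_zpow]
    exact zpow_mem (mem_zpowers α) k
  have ht : ∀ t ∈ Q, t ∉ zpowers α → ∃ i, ((e.symm (QuaternionGroup.xa i) : (T : Subgroup G)) : G) = t := by
    intro t ht htα
    rcases f1 (e ⟨t, hQT ht⟩) with h | ⟨i, hi⟩
    · exfalso
      apply htα
      have := hzp' _ h
      rwa [e.symm_apply_apply] at this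
    · refine ⟨i, ?_⟩
      rw [← hi, e.symm_apply_apply]
  refine core (Q := Q) (α := α) (z := z) (g := g) ⟨n + 1, ?_⟩ ?_ ?_ ?_ ?_ ?_ hg ho ?_
  · rw [hα, ← SubmonoidClass.coe_pow, ← map_pow]
    have : (QuaternionGroup.a 1 : QuaternionGroup (2 ^ n)) ^ (2 ^ (n + 1)) = 1 := by
      have h := QuaternionGroup.a_one_pow_n (n := 2 ^ n)
      have h2 : 2 ^ (n + 1) = 2 * 2 ^ n := pow_succ' 2 n
      rw [h2]; exact h
    rw [this, map_one]; rfl
  · intro t htQ htα
    obtain ⟨i, rfl⟩ := ht t htQ htα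
    refine ⟨?_, ?_⟩
    · rw [hz, ← f2 i, map_mul]; rfl
    · intro s hs
      obtain ⟨q, hq, rfl⟩ := hzp s hs
      have h3 : e.symm (QuaternionGroup.xa i) * e.symm q = (e.symm q)⁻¹ * e.symm (QuaternionGroup.xa i) := by
        rw [← map_inv, ← map_mul, ← map_mul, f3 q hq i]
      exact congrArg Subtype.val h3
  · intro t htQ s hsQ htα hsα
    obtain ⟨i, rfl⟩ := ht t htQ htα
    obtain ⟨j, rfl⟩ := ht s hsQ hsα
    have := hzp' _ (f4 i j)
    rwa [map_mul, map_inv] at this
  · have h3 : e.symm (QuaternionGroup.a ((2 ^ n : ℕ) : ZMod (2 * 2 ^ n))) *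
        e.symm (QuaternionGroup.a ((2 ^ n : ℕ) : ZMod (2 * 2 ^ n))) = 1 := by
      rw [← map_mul, f5, map_one]
    exact congrArg Subtype.val h3
  · intro h
    apply f6
    have h1 : e.symm (QuaternionGroup.a ((2 ^ n : ℕ) : ZMod (2 * 2 ^ n))) = 1 := Subtype.ext h
    have := congrArg e h1
    rwa [e.apply_symm_apply, map_one] at this
  · intro s hs hss
    obtain ⟨q, hq, rfl⟩ := hzp s hs
    have h1 : q * q = 1 := by
      have h2 : e.symm (q * q) = 1 := by rw [map_mul]; exact Subtype.ext hss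
      have := congrArg e h2
      rwa [e.apply_symm_apply, map_one] at this
    rcases f7 q hq h1 with h | h
    · left; rw [h, map_one]; rfl
    · right; rw [h]
  · by_contra hcon
    push Not at hcon
    apply hgC
    rw [mem_centralizer_iff]
    intro x hx
    have := hcon x hx
    exact (mul_inv_eq_iff_eq_mul.mp this).symm

end CfsgLib.QuatSyl
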