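import Cfsg.Agent.LibH6ZasE
import Cfsg.Agent.LibTransPC
import Cfsg.Agent.LibPCyc2
import Cfsg.Agent.LibQuatSyl
import Cfsg.Agent.LibBSz

/-! Sylow subgroups of fixed-point-free groups, and perfect fixed-point-free groups. -/

set_option autoImplicit false
set_option synthInstance.maxSize 2000

namespace CfsgLib.H6Zas

open Subgroup

section perfect

theorem perfect_hom {G A : Type*} [Group G] [CommGroup A] (h : commutator G = ⊤) (f : G →* A) (g : G) : f g = 1 := by
  have h1 : commutator G ≤ f.ker := Abelianization.commutator_subset_ker f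
  rw [h] at h1
  exact h1 (mem_top g)

theorem perfect_surj {G G' : Type*} [Group G] [Group G'] (h : commutator G = ⊤) (f : G →* G')
    (hf : Function.Surjective f) : commutator G' = ⊤ := by
  rw [_root_.commutator_def, ← Subgroup.map_top_of_surjective f hf, ← Subgroup.map_commutator, ← _root_.commutator_def, h]

theorem perfect_solvable {G : Type*} [Group G] (h : commutator G = ⊤) [hs : Group.IsSolvable G] (g : G) : g = 1 := by
  by_contra hg
  haveI : Nontrivial G := ⟨g, 1, hg⟩
  have := IsSolvable.commutator_lt_top_of_nontrivial G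
  rw [h] at this
  exact lt_irrefl _ this

/-- a perfect group centralizes every normal cyclic subgroup -/
theorem perfect_normal_cyclic {G : Type*} [Group G] (h : commutator G = ⊤) (N : Subgroup G) [N.Normal]
    [hc : IsCyclic N] [Finite N] (g : G) (n : G) (hn : n ∈ N) : g * n * g⁻¹ = n := by
  let e : MulAut N ≃* (ZMod (Nat.card N))ˣ := IsCyclic.mulAutMulEquiv N
  have h1 := perfect_hom h (e.toMonoidHom.comp (MulAut.conjNormal (H := N))) g
  have h2 : MulAut.conjNormal (H := N) g = 1 := e.injective (by rw [map_one]; exact h1)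
  have h3 := congrArg (fun f : MulAut N => ((f ⟨n, hn⟩ : N) : G)) h2
  simpa using h3

/-- a central element of a Sylow subgroup which is commutative dies in a perfect group -/
theorem perfect_central_sylow {G : Type*} [Group G] [Finite G] (h : commutator G = ⊤) {p : ℕ} [hp : Fact p.Prime]
    (P : Sylow p G) (hP : ∀ x ∈ (P : Subgroup G), ∀ y ∈ (P : Subgroup G), x * y = y * x) {w : G}
    (hw : w ∈ (P : Subgroup G)) (hcw : ∀ g : G, g * w = w * g) : w = 1 := by
  let ϕ : (P : Subgroup G) →* Abelianization (P : Subgroup G) := Abelianization.of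
  have hϕ : Function.Injective ϕ := by
    rw [injective_iff_map_eq_one]
    intro x hx
    have h1 : x ∈ commutator (P : Subgroup G) := (QuotientGroup.eq_one_iff x).mp hx
    have h2 : commutator (P : Subgroup G) = ⊥ := by
      rw [_root_.commutator_def, Subgroup.commutator_eq_bot_iff_le_centralizer]
      intro a _
      rw [mem_centralizer_iff]
      intro b _
      exact Subtype.ext (hP b b.2 a a.2)
    rw [h2] at h1
    exact mem_bot.mp h1
  have h1 := perfect_hom h (MonoidHom.transfer ϕ) w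
  rw [MonoidHom.transfer_eq_pow ϕ w (by
    intro k g0 _
    have : g0⁻¹ * w ^ k = w ^ k * g0⁻¹ := (Commute.pow_right (hcw g0⁻¹) k)
    rw [this, inv_mul_cancel_right])] at h1
  have h2 : w ^ (P : Subgroup G).index = 1 := by
    have h3 := hϕ (h1.trans (map_one ϕ).symm)
    exact congrArg Subtype.val h3
  obtain ⟨k, hk⟩ := P.2 ⟨w, hw⟩
  have h3 : w ^ p ^ k = 1 := congrArg Subtype.val hk
  have h4 : Nat.Coprime (P : Subgroup G).index (p ^ k) :=
    Nat.Coprime.pow_right k ((Nat.Prime.coprime_iff_not_dvd hp.out).mpr P.not_dvd_index).symm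
  have h5 : w ^ Nat.gcd (P : Subgroup G).index (p ^ k) = 1 := pow_gcd_eq_one.mpr ⟨h2, h3⟩
  rw [h4] at h5
  simpa using h5

end perfect

section sylow
variable {K : Type*} [Field K] {V : Type*} [AddCommGroup V] [Module K V]
variable {G : Type*} [Group G] {ρ : G →* Module.End K V}

theorem Fpf.comm_prime [IsAlgClosed K] [FiniteDimensional K V] [Nontrivial V] (h : Fpf ρ) {p : ℕ} (hp : p.Prime)
    {c x : G} (hc : c ^ p = 1) (hc1 : c ≠ 1) (hx : x ^ p = 1) (hcx : c * x = x * c) : x ∈ zpowers c := by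
  obtain ⟨ζ, hζ⟩ := exists_eig (ρ c) ⊤ (by simp) (fun _ _ => trivial)
  rw [top_inf_eq] at hζ
  obtain ⟨ξ, hξ⟩ := exists_eig (ρ x) (Module.End.eigenspace (ρ c) ζ) hζ (by
    intro v hv
    rw [Module.End.mem_eigenspace_iff] at hv ⊢
    rw [← Module.End.mul_apply, ← map_mul, hcx, map_mul, Module.End.mul_apply, hv, map_smul])
  obtain ⟨v, ⟨hv1, hv2⟩, hv0⟩ := (Submodule.ne_bot_iff _).mp hξ
  have hv1 : ρ c v = ζ • v := Module.End.mem_eigenspace_iff.mp hv1
  have hv2 : ρ x v = ξ • v := Module.End.mem_eigenspace_iff.mp hv2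
  have hpow : ∀ (g : G) (μ : K), ρ g v = μ • v → ∀ k : ℕ, ρ (g ^ k) v = μ ^ k • v := by
    intro g μ hg k
    induction k with
    | zero => simp
    | succ k ih => rw [pow_succ, map_mul, Module.End.mul_apply, hg, map_smul, ih, smul_smul, pow_succ, mul_comm]
  have hζp : ζ ^ p = 1 := by
    have h1 := hpow c ζ hv1 p
    rw [hc, map_one, Module.End.one_apply] at h1
    have h2 : (1 - ζ ^ p) • v = 0 := by rw [sub_smul, one_smul, ← h1, sub_self]
    exact (sub_eq_zero.mp ((smul_eq_zero.mp h2).resolve_right hv0)).symm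
  have hξp : ξ ^ p = 1 := by
    have h1 := hpow x ξ hv2 p
    rw [hx, map_one, Module.End.one_apply] at h1
    have h2 : (1 - ξ ^ p) • v = 0 := by rw [sub_smul, one_smul, ← h1, sub_self]
    exact (sub_eq_zero.mp ((smul_eq_zero.mp h2).resolve_right hv0)).symm
  have hζ1 : ζ ≠ 1 := by
    intro h1
    apply hv0
    apply h c hc1
    rw [hv1, h1, one_smul]
  haveI : NeZero p := ⟨hp.ne_zero⟩
  have hprim : IsPrimitiveRoot ζ p := by
    rw [IsPrimitiveRoot.iff_orderOf]
    exact orderOf_eq_prime hζp hζ1 (hp := ⟨hp⟩)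
  obtain ⟨i, -, hi⟩ := hprim.eq_pow_of_pow_eq_one hξp
  have h1 : x = c ^ i := h.inj hv0 (by rw [hv2, hpow c ζ hv1 i, hi])
  rw [h1]
  exact pow_mem (mem_zpowers c) i

/-- restriction to a subgroup -/
theorem Fpf.sub (h : Fpf ρ) (H : Subgroup G) : Fpf (ρ.comp H.subtype) := by
  intro g hg v hv
  exact h g (fun h1 => hg (Subtype.ext h1)) v hv

theorem Fpf.unique_sub [Finite G] [IsAlgClosed K] [FiniteDimensional K V] [Nontrivial V] (h : Fpf ρ) {p : ℕ} (hp : p.Prime)
    (hG : IsPGroup p G) : ∀ H L : Subgroup G, Nat.card H = p → Nat.card L = p → H = L := by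
  intro H L hH hL
  haveI : Fact p.Prime := ⟨hp⟩
  haveI : Nontrivial G := by
    haveI : Nontrivial H := by
      rw [← Finite.one_lt_card_iff_nontrivial, hH]; exact hp.one_lt
    exact Function.Injective.nontrivial (f := (Subtype.val : H → G)) Subtype.val_injective
  have hZ := hG.center_nontrivial
  have hdvd : p ∣ Nat.card (center G) := by
    obtain ⟨n, hn⟩ := IsPGroup.iff_card.mp (hG.to_subgroup (center G))
    rcases Nat.eq_zero_or_pos n with h0 | h0
    · rw [h0, pow_zero] at hn
      have := Finite.one_lt_card_iff_nontrivial.mpr hZ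
      omega
    · rw [hn]; exact dvd_pow_self p h0.ne'
  obtain ⟨c, hc⟩ := exists_prime_orderOf_dvd_card' p hdvd
  have hcp : (c : G) ^ p = 1 := by
    have : c ^ p = 1 := by rw [← hc]; exact pow_orderOf_eq_one c
    exact congrArg Subtype.val this
  have hc1 : (c : G) ≠ 1 := by
    intro h1
    have : c = 1 := Subtype.ext h1
    rw [this, orderOf_one] at hc
    exact hp.one_lt.ne hc
  have key : ∀ H : Subgroup G, Nat.card H = p → H = zpowers (c : G) := by
    intro H hH
    have h1 : H ≤ zpowers (c : G) := by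
      intro x hx
      have hxp : x ^ p = 1 := by
        have : (⟨x, hx⟩ : H) ^ p = 1 := by rw [← hH]; exact pow_card_eq_one'
        exact congrArg Subtype.val this
      exact h.comm_prime hp hcp hc1 hxp ((mem_center_iff.mp c.2 x).symm)
    refine Subgroup.eq_of_le_of_card_ge h1 ?_
    rw [Nat.card_zpowers, hH]
    exact Nat.le_of_dvd hp.pos (orderOf_dvd_of_pow_eq_one hcp)
  rw [key H hH, key L hL]

theorem Fpf.cyclic_odd [Finite G] [IsAlgClosed K] [FiniteDimensional K V] [Nontrivial V] (h : Fpf ρ) {p : ℕ} (hp : p.Prime)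
    (hp2 : p ≠ 2) (P : Subgroup G) (hP : IsPGroup p P) : IsCyclic P :=
  CfsgLib.PCyc.isCyclic_of_unique_odd hp hp2 hP ((h.sub P).unique_sub hp hP)

theorem Fpf.two_sub [Finite G] [IsAlgClosed K] [FiniteDimensional K V] [Nontrivial V] (h : Fpf ρ)
    (P : Subgroup G) (hP : IsPGroup 2 P) : IsCyclic P ∨ ∃ n : ℕ, Nonempty (P ≃* QuaternionGroup (2 ^ n)) :=
  CfsgLib.PCyc.cyclic_or_quaternion hP ((h.sub P).unique_sub Nat.prime_two hP)

theorem Fpf.zgroup_of_two [Finite G] [IsAlgClosed K] [FiniteDimensional K V] [Nontrivial V] (h : Fpf ρ)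
    (h2 : ∀ P : Sylow 2 G, IsCyclic P) : IsZGroup G := by
  refine ⟨fun p hp P => ?_⟩
  by_cases h2' : p = 2
  · subst h2'; exact h2 P
  · exact h.cyclic_odd hp h2' P P.2

end sylow

end CfsgLib.H6Zas
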