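import Cfsg.Agent.LibH6ZasF
import Cfsg.Agent.S0144
import Cfsg.Agent.LibSL23b

/-! Perfect fixed-point-free groups are of icosahedral type. -/

set_option autoImplicit false
set_option synthInstance.maxSize 2000

namespace CfsgLib.H6Zas

open Subgroup

theorem f4e : ∀ σ : Equiv.Perm (Fin 4), Equiv.Perm.sign σ = 1 → σ ^ 8 = 1 → σ ^ 2 = 1 := by
  decide +kernel

theorem f5e : ∀ σ : Equiv.Perm (Fin 5), Equiv.Perm.sign σ = 1 → σ ^ 8 = 1 → σ ^ 2 = 1 := by
  decide +kernel

theorem c4 : Nat.card (alternatingGroup (Fin 4)) = 12 := by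
  rw [nat_card_alternatingGroup]; simp [Nat.factorial]

theorem c5 : Nat.card (alternatingGroup (Fin 5)) = 60 := by
  rw [nat_card_alternatingGroup]; simp [Nat.factorial]

variable {K : Type*} [Field K] {V : Type*} [AddCommGroup V] [Module K V]

theorem T3_of_order {G : Type*} [Group G] {y : G} (h : orderOf y = 3) : T3 y := by
  refine ⟨?_, ?_⟩
  · have h4 : y ^ 3 = 1 := by rw [← h]; exact pow_orderOf_eq_one y
    rw [← h4]; simp only [pow_succ, pow_zero, one_mul]
  · intro h4; rw [h4, orderOf_one] at h; omega

theorem typ_no8 {G : Type*} [Group G] {z : G} (hzz : z * z = 1) {H : Subgroup G} (h : Typ 4 z H ∨ Typ 5 z H) (g : G)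
    (hg : g ∈ H) (h8 : orderOf g = 8) : False := by
  have h8' : g ^ 8 = 1 := by rw [← h8]; exact pow_orderOf_eq_one g
  have key : ∀ n : ℕ, (∀ σ : Equiv.Perm (Fin n), Equiv.Perm.sign σ = 1 → σ ^ 8 = 1 → σ ^ 2 = 1) → Typ n z H → False := by
    rintro n hn ⟨φ, hr, hφ⟩
    have h1 : φ ⟨g, hg⟩ ∈ alternatingGroup (Fin n) := by rw [← hr]; exact ⟨_, rfl⟩
    rw [Equiv.Perm.mem_alternatingGroup] at h1
    have h2 := hn _ h1 (by
      rw [← map_pow]
      have : (⟨g, hg⟩ : H) ^ 8 = 1 := Subtype.ext h8'
      rw [this, map_one])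
    rw [← map_pow, hφ] at h2
    have h3 : g ^ 4 = 1 := by
      rcases h2 with h2 | h2
      · have h2' : g ^ 2 = 1 := h2
        rw [show 4 = 2 * 2 by norm_num, pow_mul, h2', one_pow]
      · have h2' : g ^ 2 = z := h2
        rw [show 4 = 2 * 2 by norm_num, pow_mul, h2', pow_two, hzz]
    have h4 := orderOf_dvd_of_pow_eq_one h3
    rw [h8] at h4
    omega
  rcases h with h | h
  · exact key 4 f4e h
  · exact key 5 f5e h

theorem perfect_typ5 {G : Type*} [Group G] {ρ : G →* Module.End K V} [Finite G] [IsAlgClosed K] [FiniteDimensional K V]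
    [Nontrivial V] (h : Fpf ρ) (hp : commutator G = ⊤) (hne : ∃ g : G, g ≠ 1) :
    ∃ z : G, ZC z ∧ Typ 5 z (⊤ : Subgroup G) := by
  classical
  haveI h2f : Fact (Nat.Prime 2) := ⟨Nat.prime_two⟩
  haveI h3f : Fact (Nat.Prime 3) := ⟨Nat.prime_three⟩
  obtain ⟨g0, hg0⟩ := hne
  -- no normal 2-complement
  have hN : ¬ Cfsg.HasNormalPComplement 2 G := by
    rw [CfsgLib.TransPC.hasNPC_iff]
    rintro ⟨N, hN1, hN2, k, hN3⟩
    have hpg : IsPGroup 2 (G ⧸ N) := IsPGroup.of_card (n := k) hN3
    haveI : Group.IsNilpotent (G ⧸ N) := hpg.isNilpotent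
    have h1 := perfect_surj hp (QuotientGroup.mk' N) (QuotientGroup.mk'_surjective N)
    have h2 : N = ⊤ := by
      rw [eq_top_iff]
      intro g _
      exact (QuotientGroup.eq_one_iff g).mp (perfect_solvable h1 (g : G ⧸ N))
    rw [h2, card_top] at hN2
    haveI : IsZGroup G := h.zgroup_of_two (fun P => by
      have : Nat.card P = 1 := by
        obtain ⟨m, hm⟩ := IsPGroup.iff_card.mp P.2
        rcases Nat.eq_zero_or_pos m with h0 | h0
        · rw [hm, h0, pow_zero]
        · exfalso
          apply hN2
          exact (dvd_pow_self 2 h0.ne').trans (hm ▸ Subgroup.card_subgroup_dvd_card (P : Subgroup G))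
      haveI := (Nat.card_eq_one_iff_unique.mp this).1
      exact isCyclic_of_subsingleton)
    exact hg0 (perfect_solvable hp g0)
  have hquat : ∀ T : Sylow 2 G, ∃ n : ℕ, Nonempty (T ≃* QuaternionGroup (2 ^ n)) := by
    intro T
    rcases h.two_sub T T.2 with h1 | h1
    · exfalso
      apply hN
      rw [CfsgLib.TransPC.hasNPC_iff]
      exact CfsgLib.BSz.exists_npc_of_cyclic T h1
    · exact h1
  -- `3` divides the order
  have h3 : 3 ∣ Nat.card G := by
    obtain ⟨T⟩ := (inferInstance : Nonempty (Sylow 2 G))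
    obtain ⟨n, ⟨e⟩⟩ := hquat T
    obtain ⟨A, B, hB, ⟨e'⟩⟩ := CfsgLib.QuatSyl.main T n e hN
    have h4 : Nat.card (A ⧸ B.subgroupOf A) = 24 := by
      rw [Nat.card_congr e'.toEquiv, CfsgLib.SL23.card_sl]
    have h5 : Nat.card (A ⧸ B.subgroupOf A) ∣ Nat.card A := Subgroup.card_quotient_dvd_card _
    rw [h4] at h5
    exact ((by norm_num : 3 ∣ 24).trans h5).trans (card_subgroup_dvd_card A)
  obtain ⟨y, hy⟩ := exists_prime_orderOf_dvd_card' 3 h3
  have hTy := T3_of_order hy
  -- non-commuting elements of order three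
  obtain ⟨a, b, ha, hb, hab⟩ : ∃ a b : G, T3 a ∧ T3 b ∧ a * b ≠ b * a := by
    by_contra hcon
    push Not at hcon
    have hnorm : (zpowers y).Normal := by
      refine ⟨fun n hn g => ?_⟩
      obtain ⟨i, rfl⟩ := hn
      have h1 : g * y * g⁻¹ ∈ zpowers y := by
        rcases h.comm3 hTy.1 hTy.2 (hTy.conj g).1 (hTy.conj g).2 (hcon y _ hTy (hTy.conj g)) with h2 | h2
        · rw [h2]; exact mem_zpowers y
        · rw [h2]; exact mul_mem (mem_zpowers y) (mem_zpowers y)
      have h2 : g * (fun x => y ^ x) i * g⁻¹ = (g * y * g⁻¹) ^ i := by rw [conj_zpow]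
      rw [h2]; exact zpow_mem h1 i
    have hcen : ∀ g : G, g * y = y * g := by
      intro g
      have := perfect_normal_cyclic hp (zpowers y) g y (mem_zpowers y)
      rwa [mul_inv_eq_iff_eq_mul] at this
    have hpz : IsPGroup 3 (zpowers y) := by
      apply IsPGroup.of_card (n := 1)
      rw [Nat.card_zpowers, hy, pow_one]
    obtain ⟨P, hP⟩ := hpz.exists_le_sylow
    haveI : IsCyclic P := h.cyclic_odd Nat.prime_three (by norm_num) P P.2
    have hPc : ∀ x ∈ (P : Subgroup G), ∀ w ∈ (P : Subgroup G), x * w = w * x := by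
      intro x hx w hw
      letI := IsCyclic.commGroup (α := P)
      exact congrArg Subtype.val (mul_comm (⟨x, hx⟩ : P) ⟨w, hw⟩)
    exact hTy.2 (perfect_central_sylow hp P hPc (hP (mem_zpowers y)) hcen)
  -- the involution
  have h2 : 2 ∣ Nat.card G := by
    by_contra hn
    exact hN (CfsgLib.TransPC.hasNPC_of_not_dvd hn)
  obtain ⟨z, hz⟩ := exists_prime_orderOf_dvd_card' 2 h2
  have hzz : z * z = 1 := by rw [← pow_two, ← hz, pow_orderOf_eq_one]
  have hz1 : z ≠ 1 := by intro h; rw [h, orderOf_one] at hz; omega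
  have Z : ZC z := zc_of_fpf h hzz hz1
  obtain ⟨H, hH, hall, hle⟩ := Z.main ha hb hab
  have hHeq : H = closure {c : G | T3 c} := le_antisymm hle ((closure_le _).mpr hall)
  haveI hHn : H.Normal := by
    rw [hHeq]
    refine ⟨fun n hn g => ?_⟩
    induction hn using closure_induction with
    | mem x hx => exact subset_closure (hx.conj g)
    | one => simp
    | mul x y _ _ hx hy =>
      have : g * (x * y) * g⁻¹ = (g * x * g⁻¹) * (g * y * g⁻¹) := by group
      rw [this]; exact mul_mem hx hy
    | inv x _ hx =>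
      have : g * x⁻¹ * g⁻¹ = (g * x * g⁻¹)⁻¹ := by group
      rw [this]; exact inv_mem hx
  -- the quotient is a Z-group
  haveI hZG : IsZGroup (G ⧸ H) := by
    refine ⟨fun p hp' P' => ?_⟩
    haveI : Fact p.Prime := ⟨hp'⟩
    by_cases hp2 : p = 2
    · subst hp2
      obtain ⟨Q⟩ := (inferInstance : Nonempty (Sylow 2 H))
      have hQ : IsPGroup 2 ((Q : Subgroup H).map H.subtype) := Q.2.map _
      obtain ⟨T, hT⟩ := hQ.exists_le_sylow
      obtain ⟨n, ⟨e⟩⟩ := hquat T
      have hQ8 : Nat.card Q = 8 := by
        rw [Sylow.card_eq_multiplicity]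
        rcases hH with hH | hH
        · rw [Z.card_typ (by norm_num) hH, c4]
          have : (2 * 12).factorization 2 = 3 := by
            rw [show 2 * 12 = 2 ^ 3 * 3 by norm_num, Nat.factorization_mul (by norm_num) (by norm_num),
              Nat.Prime.factorization_pow Nat.prime_two, Nat.Prime.factorization Nat.prime_three]
            simp
          rw [this]; norm_num
        · rw [Z.card_typ (by norm_num) hH, c5]
          have : (2 * 60).factorization 2 = 3 := by
            rw [show 2 * 60 = 2 ^ 3 * (3 * 5) by norm_num, Nat.factorization_mul (by norm_num) (by norm_num),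
              Nat.factorization_mul (by norm_num) (by norm_num),
              Nat.Prime.factorization_pow Nat.prime_two, Nat.Prime.factorization Nat.prime_three,
              Nat.Prime.factorization Nat.prime_five]
            simp
          rw [this]; norm_num
      have hex : ∃ q : T, (q : G) ∈ H ∧ ∃ i, e q = QuaternionGroup.xa i := by
        by_contra hcon
        push Not at hcon
        -- then `Q` is cyclic of order 8
        let A : Subgroup (QuaternionGroup (2 ^ n)) := zpowers (QuaternionGroup.a 1)
        have hinj : ∃ f : Q →* A, Function.Injective f := by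
          have hmem : ∀ q : Q, ((q : H) : G) ∈ (T : Subgroup G) := fun q => hT ⟨q, q.2, rfl⟩
          let j : Q →* T :=
            { toFun := fun q => ⟨((q : H) : G), hmem q⟩
              map_one' := rfl
              map_mul' := fun _ _ => rfl }
          have hA : ∀ q : Q, (e.toMonoidHom.comp j) q ∈ A := by
            intro q
            show e (j q) ∈ A
            rcases hq : e (j q) with i | i
            · have : QuaternionGroup.a i = (QuaternionGroup.a 1 : QuaternionGroup (2 ^ n)) ^ i.val := by
                haveI : NeZero (2 * 2 ^ n) := ⟨by positivity⟩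
                rw [QuaternionGroup.a_one_pow]
                simp
              rw [this]; exact pow_mem (mem_zpowers _) _
            · exact absurd hq (hcon (j q) (q : H).2 i)
          refine ⟨(e.toMonoidHom.comp j).codRestrict A hA, ?_⟩
          intro q q' hqq
          have h1 : e (j q) = e (j q') := congrArg Subtype.val hqq
          have h2 : j q = j q' := e.injective h1
          exact Subtype.ext (Subtype.ext (congrArg (fun t : T => (t : G)) h2))
        obtain ⟨f, hf⟩ := hinj
        haveI : IsCyclic Q := isCyclic_of_injective f hf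
        obtain ⟨q, hq⟩ := IsCyclic.exists_generator (α := Q)
        have ho : orderOf q = 8 := by
          rw [← hQ8]; exact orderOf_eq_card_of_forall_mem_zpowers hq
        have ho' : orderOf ((q : H) : G) = 8 := by
          rw [Subgroup.orderOf_coe, Subgroup.orderOf_coe, ho]
        exact typ_no8 hzz hH _ (q : H).2 ho'
      obtain ⟨q, hqH, i0, hq⟩ := hex
      -- the image of `T` is cyclic
      let α : T := e.symm (QuaternionGroup.a 1)
      have hgenT : ∀ t : T, ∃ k : ℕ, ((t : G) : G ⧸ H) = ((α : G) : G ⧸ H) ^ k := by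
        intro t
        haveI : NeZero (2 * 2 ^ n) := ⟨by positivity⟩
        rcases ht : e t with i | i
        · refine ⟨i.val, ?_⟩
          have h1 : t = α ^ i.val := by
            apply e.injective
            rw [ht, map_pow, MulEquiv.apply_symm_apply, QuaternionGroup.a_one_pow]
            simp
          rw [h1]; rfl
        · refine ⟨(i - i0).val, ?_⟩
          have h1 : t = q * α ^ (i - i0).val := by
            apply e.injective
            rw [ht, map_mul, map_pow, MulEquiv.apply_symm_apply, QuaternionGroup.a_one_pow, hq,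
              QuaternionGroup.xa_mul_a]
            simp
          have h2 : ((t : G) : G ⧸ H) = ((q : G) : G ⧸ H) * ((α : G) : G ⧸ H) ^ (i - i0).val := by
            rw [h1]; rfl
          rw [h2, (QuotientGroup.eq_one_iff (q : G)).mpr hqH, one_mul]
      have hcyc : IsCyclic (T.mapSurjective (QuotientGroup.mk'_surjective H)) := by
        refine ⟨⟨⟨((α : G) : G ⧸ H), ⟨α, α.2, rfl⟩⟩, ?_⟩⟩
        rintro ⟨_, ⟨t, ht, rfl⟩⟩
        obtain ⟨k, hk⟩ := hgenT ⟨t, ht⟩
        refine ⟨k, ?_⟩
        apply Subtype.ext
        show (((α : G) : G ⧸ H)) ^ (k : ℤ) = (t : G ⧸ H)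
        rw [zpow_natCast]; exact hk.symm
      exact isCyclic_of_surjective (Sylow.equiv (T.mapSurjective (QuotientGroup.mk'_surjective H)) P')
        (Sylow.equiv _ P').surjective
    · obtain ⟨P, hP⟩ := Sylow.mapSurjective_surjective (QuotientGroup.mk'_surjective H) p P'
      haveI : IsCyclic P := h.cyclic_odd hp' hp2 P P.2
      rw [← hP]
      have hs : Function.Surjective ((QuotientGroup.mk' H).subgroupMap (P : Subgroup G)) :=
        MonoidHom.subgroupMap_surjective _ _
      exact isCyclic_of_surjective _ hs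
  have htop : H = ⊤ := by
    rw [eq_top_iff]
    intro g _
    have h1 := perfect_surj hp (QuotientGroup.mk' H) (QuotientGroup.mk'_surjective H)
    exact (QuotientGroup.eq_one_iff g).mp (perfect_solvable h1 (g : G ⧸ H))
  rw [htop] at hH
  refine ⟨z, Z, ?_⟩
  rcases hH with hH | hH
  · exfalso
    have h4 := Z.card_typ (by norm_num) hH
    rw [c4, card_top] at h4
    haveI : Group.IsSolvable G := Cfsg.Agent.S0144.result 2 3 3 1 Nat.prime_two Nat.prime_three (by rw [h4]; norm_num)
    exact hg0 (perfect_solvable hp g0)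
  · exact hH

end CfsgLib.H6Zas
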