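import Cfsg.Agent.LibH6ZasG

/-! Uniqueness of the perfect group of icosahedral type. -/

set_option autoImplicit false
set_option synthInstance.maxSize 2000

namespace CfsgLib.H6Zas

open Subgroup

theorem f5g : ∀ σ : Equiv.Perm (Fin 5), Equiv.Perm.sign σ = 1 → σ ^ 8 = 1 → σ * σ = 1 := by
  decide +kernel

theorem perm5_two {σ : Equiv.Perm (Fin 5)} (hs : Equiv.Perm.sign σ = 1) {k : ℕ} (h : σ ^ 2 ^ k = 1) : σ * σ = 1 := by
  apply f5g σ hs
  have h1 : σ ^ 120 = 1 := by
    have := pow_card_eq_one (x := σ)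
    rwa [Fintype.card_perm, Fintype.card_fin] at this
  have h2 : orderOf σ ∣ 2 ^ k := orderOf_dvd_of_pow_eq_one h
  have h3 : orderOf σ ∣ 8 * 15 := orderOf_dvd_of_pow_eq_one h1
  have h4 : Nat.Coprime (orderOf σ) 15 := by
    apply Nat.Coprime.coprime_dvd_left h2
    exact Nat.Coprime.pow_left k (by norm_num)
  exact orderOf_dvd_iff_pow_eq_one.mp (h4.dvd_of_dvd_mul_right h3)

theorem cover_iso {G₁ G₂ : Type*} [Group G₁] [Finite G₁] [Group G₂] [Finite G₂] {z₁ : G₁} {z₂ : G₂} (Z₁ : ZC z₁)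
    (Z₂ : ZC z₂) (h₁ : Typ 5 z₁ (⊤ : Subgroup G₁)) (h₂ : Typ 5 z₂ (⊤ : Subgroup G₂))
    (p₁ : commutator G₁ = ⊤) (p₂ : commutator G₂ = ⊤) : Nonempty (G₁ ≃* G₂) := by
  classical
  obtain ⟨f₁, r₁, k₁⟩ := h₁
  obtain ⟨f₂, r₂, k₂⟩ := h₂
  let φ₁ : G₁ →* Equiv.Perm (Fin 5) := f₁.comp (topEquiv (G := G₁)).symm.toMonoidHom
  let φ₂ : G₂ →* Equiv.Perm (Fin 5) := f₂.comp (topEquiv (G := G₂)).symm.toMonoidHom
  have hk₁ : ∀ g, φ₁ g = 1 ↔ g = 1 ∨ g = z₁ := fun g => k₁ ⟨g, mem_top g⟩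
  have hk₂ : ∀ g, φ₂ g = 1 ↔ g = 1 ∨ g = z₂ := fun g => k₂ ⟨g, mem_top g⟩
  have hr₁ : ∀ σ, σ ∈ alternatingGroup (Fin 5) ↔ ∃ g, φ₁ g = σ := by
    intro σ
    rw [← r₁]
    constructor
    · rintro ⟨g, rfl⟩; exact ⟨g, rfl⟩
    · rintro ⟨g, rfl⟩; exact ⟨⟨g, mem_top g⟩, rfl⟩
  have hr₂ : ∀ σ, σ ∈ alternatingGroup (Fin 5) ↔ ∃ g, φ₂ g = σ := by
    intro σ
    rw [← r₂]
    constructor
    · rintro ⟨g, rfl⟩; exact ⟨g, rfl⟩
    · rintro ⟨g, rfl⟩; exact ⟨⟨g, mem_top g⟩, rfl⟩
  let P : Subgroup (G₁ × G₂) :=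
    { carrier := {x | φ₁ x.1 = φ₂ x.2}
      one_mem' := by simp
      mul_mem' := by
        intro x y hx hy
        show φ₁ (x.1 * y.1) = φ₂ (x.2 * y.2)
        rw [map_mul, map_mul, hx, hy]
      inv_mem' := by
        intro x hx
        show φ₁ (x.1)⁻¹ = φ₂ (x.2)⁻¹
        rw [map_inv, map_inv, hx] }
  have hP : ∀ x : G₁ × G₂, x ∈ P ↔ φ₁ x.1 = φ₂ x.2 := fun x => Iff.rfl
  have hz1P : (z₁, (1 : G₂)) ∈ P := by
    rw [hP, map_one]; exact (hk₁ z₁).mpr (Or.inr rfl)
  have hz2P : ((1 : G₁), z₂) ∈ P := by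
    rw [hP, map_one]; exact ((hk₂ z₂).mpr (Or.inr rfl)).symm
  let D : Subgroup (G₁ × G₂) := ⁅P, P⁆
  have hDP : D ≤ P := by
    rw [Subgroup.commutator_le]
    intro a ha b hb
    exact mul_mem (mul_mem (mul_mem ha hb) (inv_mem ha)) (inv_mem hb)
  have hP1 : P.map (MonoidHom.fst G₁ G₂) = ⊤ := by
    rw [eq_top_iff]
    intro g _
    obtain ⟨g', hg'⟩ := (hr₂ (φ₁ g)).mp ((hr₁ _).mpr ⟨g, rfl⟩)
    exact ⟨(g, g'), hg'.symm, rfl⟩
  have hP2 : P.map (MonoidHom.snd G₁ G₂) = ⊤ := by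
    rw [eq_top_iff]
    intro g _
    obtain ⟨g', hg'⟩ := (hr₁ (φ₂ g)).mp ((hr₂ _).mpr ⟨g, rfl⟩)
    exact ⟨(g', g), hg', rfl⟩
  have hD1 : D.map (MonoidHom.fst G₁ G₂) = ⊤ := by
    rw [Subgroup.map_commutator, hP1, ← _root_.commutator_def, p₁]
  have hD2 : D.map (MonoidHom.snd G₁ G₂) = ⊤ := by
    rw [Subgroup.map_commutator, hP2, ← _root_.commutator_def, p₂]
  -- `D ≠ P`
  have hne : D ≠ P := by
    intro heq
    have hperf : commutator P = ⊤ := by
      apply Subgroup.map_injective P.subtype_injective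
      rw [_root_.commutator_def, Subgroup.map_commutator, ← MonoidHom.range_eq_map, Subgroup.range_subtype]
      exact heq
    let ζ : P := ⟨(z₁, z₂), by rw [hP]; exact ((hk₁ z₁).mpr (Or.inr rfl)).trans ((hk₂ z₂).mpr (Or.inr rfl)).symm⟩
    have hζc : ∀ x : P, x * ζ = ζ * x := by
      rintro ⟨⟨a, b⟩, hx⟩
      apply Subtype.ext
      show (a * z₁, b * z₂) = (z₁ * a, z₂ * b)
      rw [Z₁.cen, Z₂.cen]
    have hζζ : ζ * ζ = 1 := by
      apply Subtype.ext
      show (z₁ * z₁, z₂ * z₂) = (1, 1)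
      rw [Z₁.zz, Z₂.zz]
    let N : Subgroup P := zpowers ζ
    have hNmem : ∀ x : P, x ∈ N ↔ x = 1 ∨ x = ζ := by
      intro x
      constructor
      · rintro ⟨i, rfl⟩
        have h2 : ζ ^ (2 : ℤ) = 1 := by
          rw [show (2 : ℤ) = 1 + 1 by norm_num, zpow_add, zpow_one, hζζ]
        have h3 : ζ ^ i = ζ ^ (i % 2) := by
          conv_lhs => rw [← Int.emod_add_mul_ediv i 2]
          rw [zpow_add, zpow_mul, h2, one_zpow, mul_one]
        show ζ ^ i = 1 ∨ ζ ^ i = ζ
        rw [h3]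
        have h6 : i % 2 = 0 ∨ i % 2 = 1 := by omega
        rcases h6 with h | h <;> rw [h]
        · left; simp
        · right; simp
      · rintro (rfl | rfl)
        · exact one_mem _
        · exact mem_zpowers _
    haveI : N.Normal := by
      refine ⟨fun n hn g => ?_⟩
      rw [hNmem] at hn ⊢
      rcases hn with rfl | rfl
      · left; group
      · right; rw [hζc, mul_inv_cancel_right]
    have hperf' := perfect_surj hperf (QuotientGroup.mk' N) (QuotientGroup.mk'_surjective N)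
    haveI h2f : Fact (Nat.Prime 2) := ⟨Nat.prime_two⟩
    let w0 : P := ⟨((1 : G₁), z₂), hz2P⟩
    have hw0c : ∀ x : P, x * w0 = w0 * x := by
      rintro ⟨⟨a, b⟩, hx⟩
      apply Subtype.ext
      show (a * 1, b * z₂) = (1 * a, z₂ * b)
      rw [Z₂.cen, mul_one, one_mul]
    have hw0w0 : w0 * w0 = 1 := by
      apply Subtype.ext
      show ((1 : G₁) * 1, z₂ * z₂) = (1, 1)
      rw [Z₂.zz, mul_one]
    let w : P ⧸ N := (w0 : P ⧸ N)
    have hww : w * w = 1 := by
      show ((w0 * w0 : P) : P ⧸ N) = 1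
      rw [hw0w0]; rfl
    have hwc : ∀ g : P ⧸ N, g * w = w * g := by
      intro g
      obtain ⟨x, rfl⟩ := QuotientGroup.mk_surjective g
      show ((x * w0 : P) : P ⧸ N) = ((w0 * x : P) : P ⧸ N)
      rw [hw0c]
    have hpw : IsPGroup 2 (zpowers w) := by
      intro x
      refine ⟨1, ?_⟩
      obtain ⟨i, hi⟩ := x.2
      apply Subtype.ext
      show (x : P ⧸ N) ^ 2 ^ 1 = 1
      rw [← hi]
      show (w ^ i) ^ 2 ^ 1 = 1
      rw [pow_one, ← zpow_natCast, ← zpow_mul, mul_comm i, zpow_mul, zpow_natCast, pow_two, hww, one_zpow]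
    obtain ⟨T, hT⟩ := hpw.exists_le_sylow
    -- all 2-elements have order at most two
    have hsq : ∀ x ∈ (T : Subgroup (P ⧸ N)), x * x = 1 := by
      intro x hx
      obtain ⟨k, hk⟩ := T.2 ⟨x, hx⟩
      have hk' : x ^ 2 ^ k = 1 := congrArg Subtype.val hk
      obtain ⟨⟨⟨a, b⟩, hab⟩, rfl⟩ := QuotientGroup.mk_surjective x
      set y : P := ⟨(a, b), hab⟩ with hy
      have h1 : y ^ 2 ^ k ∈ N := by
        rw [← QuotientGroup.eq_one_iff]; exact hk'
      have h2 : y ^ 2 ^ (k + 1) = 1 := by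
        rw [pow_succ, pow_mul]
        rw [hNmem] at h1
        rcases h1 with h1 | h1
        · rw [h1, one_pow]
        · rw [h1, pow_two, hζζ]
      have h3 : a ^ 2 ^ (k + 1) = 1 := congrArg (fun t : P => (t : G₁ × G₂).1) h2
      have hab' : φ₁ a = φ₂ b := hab
      have h4 : (φ₁ a) * (φ₁ a) = 1 := by
        refine perm5_two (k := k + 1) ?_ (by rw [← map_pow, h3, map_one])
        exact Equiv.Perm.mem_alternatingGroup.mp ((hr₁ _).mpr ⟨a, rfl⟩)
      have h5 : y * y ∈ N := by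
        rw [hNmem]
        have e1 : φ₁ (a * a) = 1 := by rw [map_mul, h4]
        have e2 : φ₂ (b * b) = 1 := by rw [map_mul, ← hab', h4]
        rw [hk₁] at e1
        rw [hk₂] at e2
        by_cases hσ : φ₁ a = 1
        · left
          have ha1 := (hk₁ a).mp hσ
          have hb1 := (hk₂ b).mp (hab'.symm.trans hσ)
          have ha2 : a * a = 1 := by
            rcases ha1 with h | h
            · rw [h, one_mul]
            · rw [h, Z₁.zz]
          have hb2 : b * b = 1 := by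
            rcases hb1 with h | h
            · rw [h, one_mul]
            · rw [h, Z₂.zz]
          apply Subtype.ext
          show (a * a, b * b) = (1, 1)
          rw [ha2, hb2]
        · right
          have ha2 : a * a = z₁ := by
            rcases e1 with h | h
            · exfalso
              apply hσ
              rw [hk₁]
              by_cases h' : a = 1
              · exact Or.inl h'
              · exact Or.inr (Z₁.uniq a h h')
            · exact h
          have hb2 : b * b = z₂ := by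
            rcases e2 with h | h
            · exfalso
              apply hσ
              rw [hab', hk₂]
              by_cases h' : b = 1
              · exact Or.inl h'
              · exact Or.inr (Z₂.uniq b h h')
            · exact h
          apply Subtype.ext
          show (a * a, b * b) = (z₁, z₂)
          rw [ha2, hb2]
      show ((y * y : P) : P ⧸ N) = 1
      exact (QuotientGroup.eq_one_iff _).mpr h5
    have hTc : ∀ x ∈ (T : Subgroup (P ⧸ N)), ∀ y ∈ (T : Subgroup (P ⧸ N)), x * y = y * x := by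
      intro x hx y hy
      have h1 := hsq _ (mul_mem hx hy)
      have h2 := hsq x hx
      have h3 := hsq y hy
      have e1 : x⁻¹ = x := inv_eq_of_mul_eq_one_left h2
      have e2 : y⁻¹ = y := inv_eq_of_mul_eq_one_left h3
      have e3 : (x * y)⁻¹ = x * y := inv_eq_of_mul_eq_one_left h1
      rw [mul_inv_rev, e1, e2] at e3
      exact e3.symm
    have hw1 := perfect_central_sylow hperf' T hTc (hT (mem_zpowers w)) hwc
    have hw2 : w0 ∈ N := (QuotientGroup.eq_one_iff w0).mp hw1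
    rw [hNmem] at hw2
    rcases hw2 with h | h
    · have : z₂ = 1 := congrArg (fun t : P => (t : G₁ × G₂).2) h
      exact Z₂.z1 this
    · have : (1 : G₁) = z₁ := congrArg (fun t : P => (t : G₁ × G₂).1) h
      exact Z₁.z1 this.symm
  have hn2 : ((1 : G₁), z₂) ∉ D := by
    intro h
    apply hne
    apply le_antisymm hDP
    rintro ⟨a, b⟩ hab
    have h1 : a ∈ D.map (MonoidHom.fst G₁ G₂) := by rw [hD1]; trivial
    obtain ⟨⟨a', b'⟩, hd, rfl⟩ := h1
    have h2 : φ₁ a' = φ₂ b' := hDP hd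
    have h3 : φ₂ (b'⁻¹ * b) = 1 := by
      rw [map_mul, map_inv, ← h2]
      have h4 : φ₁ a' = φ₂ b := hab
      rw [h4, inv_mul_cancel]
    rw [hk₂] at h3
    rcases h3 with h3 | h3
    · have h5 : b = b' := (inv_mul_eq_one.mp h3).symm
      rw [h5]; exact hd
    · have h5 : (a', b) = (a', b') * ((1 : G₁), z₂) := by
        rw [Prod.mk_mul_mk, mul_one, ← h3, mul_inv_cancel_left]
      show (a', b) ∈ D
      rw [h5]; exact mul_mem hd h
  have hn1 : (z₁, (1 : G₂)) ∉ D := by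
    intro h
    apply hne
    apply le_antisymm hDP
    rintro ⟨a, b⟩ hab
    have h1 : b ∈ D.map (MonoidHom.snd G₁ G₂) := by rw [hD2]; trivial
    obtain ⟨⟨a', b'⟩, hd, rfl⟩ := h1
    have h2 : φ₁ a' = φ₂ b' := hDP hd
    have h3 : φ₁ (a'⁻¹ * a) = 1 := by
      rw [map_mul, map_inv, h2]
      have h4 : φ₁ a = φ₂ b' := hab
      rw [h4, inv_mul_cancel]
    rw [hk₁] at h3
    rcases h3 with h3 | h3
    · have h5 : a = a' := (inv_mul_eq_one.mp h3).symm
      rw [h5]; exact hd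
    · have h5 : (a, b') = (a', b') * (z₁, (1 : G₂)) := by
        rw [Prod.mk_mul_mk, mul_one, ← h3, mul_inv_cancel_left]
      show (a, b') ∈ D
      rw [h5]; exact mul_mem hd h
  let q₁ : D →* G₁ := (MonoidHom.fst G₁ G₂).comp D.subtype
  let q₂ : D →* G₂ := (MonoidHom.snd G₁ G₂).comp D.subtype
  have b₁ : Function.Bijective q₁ := by
    refine ⟨?_, ?_⟩
    · rw [injective_iff_map_eq_one]
      rintro ⟨⟨a, b⟩, hd⟩ h
      have ha : a = 1 := h
      subst ha
      have h1 : φ₁ 1 = φ₂ b := hDP hd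
      rw [map_one, eq_comm, hk₂] at h1
      rcases h1 with h1 | h1
      · subst h1; rfl
      · subst h1; exact absurd hd hn2
    · intro g
      have h1 : g ∈ D.map (MonoidHom.fst G₁ G₂) := by rw [hD1]; trivial
      obtain ⟨x, hx, rfl⟩ := h1
      exact ⟨⟨x, hx⟩, rfl⟩
  have b₂ : Function.Bijective q₂ := by
    refine ⟨?_, ?_⟩
    · rw [injective_iff_map_eq_one]
      rintro ⟨⟨a, b⟩, hd⟩ h
      have hb : b = 1 := h
      subst hb
      have h1 : φ₁ a = φ₂ 1 := hDP hd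
      rw [map_one, hk₁] at h1
      rcases h1 with h1 | h1
      · subst h1; rfl
      · subst h1; exact absurd hd hn1
    · intro g
      have h1 : g ∈ D.map (MonoidHom.snd G₁ G₂) := by rw [hD2]; trivial
      obtain ⟨x, hx, rfl⟩ := h1
      exact ⟨⟨x, hx⟩, rfl⟩
  exact ⟨(MulEquiv.ofBijective q₁ b₁).symm.trans (MulEquiv.ofBijective q₂ b₂)⟩

end CfsgLib.H6Zas
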