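import Cfsg.Agent.LibH6ZasJ

/-! The conjugation action on a normal subgroup `2.A₄` or `2.A₅`. -/

set_option autoImplicit false
set_option synthInstance.maxSize 2000

namespace CfsgLib.H6Zas

open Subgroup

variable {G : Type*} [Group G] [Finite G] {z : G}

theorem conj_ker (Z : ZC z) {n : ℕ} {H : Subgroup G} [H.Normal] {φ : H →* Equiv.Perm (Fin n)}
    (hφ : ∀ h : H, φ h = 1 ↔ (h : G) = 1 ∨ (h : G) = z) (g : G) (w : H) :
    φ (MulAut.conjNormal g w) = 1 ↔ φ w = 1 := by
  have key : ∀ (g : G) (w : H), φ w = 1 → φ (MulAut.conjNormal g w) = 1 := by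
    intro g w hw
    rw [hφ] at hw ⊢
    rw [MulAut.conjNormal_apply]
    rcases hw with h | h
    · left; rw [h]; group
    · right; rw [h, Z.cen g]; group
  refine ⟨fun h => ?_, key g w⟩
  have := key g⁻¹ _ h
  rwa [← MulAut.mul_apply, ← map_mul, inv_mul_cancel, map_one] at this

/-- lifting generators: they generate the whole group -/
theorem SD.gen_top (Z : ZC z) {n k : ℕ} (hn : 4 ≤ n) {a0 b0 : Equiv.Perm (Fin n)} (D : SD k a0 b0) {H : Subgroup G}
    {φ : H →* Equiv.Perm (Fin n)}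
    (hr : φ.range = alternatingGroup (Fin n)) (hφ : ∀ h : H, φ h = 1 ↔ (h : G) = 1 ∨ (h : G) = z)
    {a b : H} (ha : φ a = a0) (hb : φ b = b0) : closure {a, b} = ⊤ := by
  set L := closure {a, b} with hL
  have hmap : L.map φ = alternatingGroup (Fin n) := by
    apply le_antisymm
    · rw [← hr]; exact map_le_range _ _
    · refine D.alt_le.trans ?_
      rw [hL, MonoidHom.map_closure, Set.image_pair, ha, hb]
  -- `z ∈ L`
  have hzL : z ∈ L.map H.subtype := by
    let φ' : L.map H.subtype →* Equiv.Perm (Fin n) :=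
      φ.comp (Subgroup.inclusion (by
        rintro _ ⟨x, -, rfl⟩; exact x.2 : L.map H.subtype ≤ H))
    apply Z.z_mem hn (φ := φ')
    rw [← hmap]
    ext σ
    constructor
    · rintro ⟨⟨_, x, hx, rfl⟩, rfl⟩
      exact ⟨x, hx, rfl⟩
    · rintro ⟨x, hx, rfl⟩
      exact ⟨⟨_, x, hx, rfl⟩, rfl⟩
  obtain ⟨zz, hzz, hze⟩ := hzL
  rw [eq_top_iff]
  intro h _
  have h1 : φ h ∈ L.map φ := by
    rw [hmap, ← hr]; exact ⟨h, rfl⟩
  obtain ⟨l, hl, hle⟩ := h1
  have h2 : φ (l⁻¹ * h) = 1 := by rw [map_mul, map_inv, hle, inv_mul_cancel]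
  have h3 : l⁻¹ * h ∈ L := by
    rw [hφ] at h2
    rcases h2 with h2 | h2
    · have : l⁻¹ * h = 1 := Subtype.ext h2
      rw [this]; exact one_mem _
    · have : l⁻¹ * h = zz := Subtype.ext (by rw [h2]; exact hze.symm)
      rw [this]; exact hzz
  have h4 := mul_mem hl h3
  rwa [mul_inv_cancel_left] at h4

theorem SD.lift (Z : ZC z) {n k : ℕ} (hn : 4 ≤ n) {a0 b0 : Equiv.Perm (Fin n)} (D : SD k a0 b0) {H : Subgroup G}
    {φ : H →* Equiv.Perm (Fin n)}
    (hr : φ.range = alternatingGroup (Fin n)) (hφ : ∀ h : H, φ h = 1 ↔ (h : G) = 1 ∨ (h : G) = z) :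
    ∃ a b : H, T3 (a : G) ∧ T3 (b : G) ∧ φ a = a0 ∧ φ b = b0 := by
  have hz : z ∈ H := Z.z_mem hn hr
  obtain ⟨a, ha, ha'⟩ := Z.T3_lift hz hr hφ D.ya.1.1
  obtain ⟨b, hb, hb'⟩ := Z.T3_lift hz hr hφ D.ya.1.2
  exact ⟨a, b, ha, hb, ha', hb'⟩

/-- **the conjugation action** on a normal `2.A₄` or `2.A₅` -/
theorem theta_exists (Z : ZC z) {n k : ℕ} (hn : 4 ≤ n) {a0 b0 : Equiv.Perm (Fin n)} (D : SD k a0 b0)
    {H : Subgroup G} [H.Normal] {φ : H →* Equiv.Perm (Fin n)}
    (hr : φ.range = alternatingGroup (Fin n)) (hφ : ∀ h : H, φ h = 1 ↔ (h : G) = 1 ∨ (h : G) = z) :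
    ∃ Θ : G →* Equiv.Perm (Fin n), (∀ h : H, Θ h = φ h) ∧ Θ.ker = centralizer (H : Set G) := by
  classical
  obtain ⟨a, b, hTa, hTb, ha, hb⟩ := D.lift Z hn hr hφ
  have htop := D.gen_top Z hn hr hφ ha hb
  have hk := conj_ker Z hφ
  -- existence
  have hex : ∀ g : G, ∃ σ : Equiv.Perm (Fin n), ∀ h : H, φ (MulAut.conjNormal g h) = σ * φ h * σ⁻¹ := by
    intro g
    let ψ : H →* Equiv.Perm (Fin n) := φ.comp (MulAut.conjNormal g : MulAut H).toMonoidHom
    have hψ : ∀ w, ψ w = 1 ↔ φ w = 1 := fun w => hk g w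
    have hY : Ya k (ψ a) (ψ b) := by
      have hya := D.ya
      rw [← ha, ← hb] at hya
      refine ⟨⟨⟨?_, ?_⟩, ⟨?_, ?_⟩⟩, ?_, ?_⟩
      · rw [← map_mul, ← map_mul, hψ, map_mul, map_mul]; exact hya.1.1.1
      · rw [ne_eq, hψ]; exact hya.1.1.2
      · rw [← map_mul, ← map_mul, hψ, map_mul, map_mul]; exact hya.1.2.1
      · rw [ne_eq, hψ]; exact hya.1.2.2
      · rw [← map_mul, ← map_pow, hψ, map_pow, map_mul]; exact hya.2.1
      · rw [ne_eq, ← map_mul, hψ, map_mul]; exact hya.2.2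
    obtain ⟨σ, h1, h2⟩ := D.ex _ _ hY
    refine ⟨σ, ?_⟩
    let χ : H →* Equiv.Perm (Fin n) := (MulAut.conj σ : MulAut (Equiv.Perm (Fin n))).toMonoidHom.comp φ
    have hχ : ∀ h, χ h = σ * φ h * σ⁻¹ := fun h => rfl
    have h3 : (⊤ : Subgroup H) ≤ MonoidHom.eqLocus ψ χ := by
      rw [← htop, closure_le]
      intro x hx
      rcases hx with rfl | hx
      · show ψ x = χ x
        rw [hχ, ha, h1]
      · rw [Set.mem_singleton_iff] at hx
        subst hx
        show ψ x = χ x
        rw [hχ, hb, h2]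
    intro h
    exact h3 (mem_top h)
  choose Θ hΘ using hex
  have hun : ∀ σ τ : Equiv.Perm (Fin n), (∀ h : H, σ * φ h * σ⁻¹ = τ * φ h * τ⁻¹) → σ = τ := by
    intro σ τ hh
    have h1 : ∀ h : H, (τ⁻¹ * σ) * φ h = φ h * (τ⁻¹ * σ) := by
      intro h
      have h2 := hh h
      calc τ⁻¹ * σ * φ h = τ⁻¹ * (σ * φ h * σ⁻¹) * σ := by group
        _ = φ h * (τ⁻¹ * σ) := by rw [h2]; group
    have h2 := D.un (τ⁻¹ * σ) (by rw [← ha]; exact h1 a) (by rw [← hb]; exact h1 b)
    exact (inv_mul_eq_one.mp h2).symm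
  let F : G →* Equiv.Perm (Fin n) :=
    { toFun := Θ
      map_one' := by
        apply hun
        intro h
        rw [← hΘ, map_one, MulAut.one_apply]; group
      map_mul' := by
        intro x y
        apply hun
        intro h
        rw [← hΘ, map_mul, MulAut.mul_apply, hΘ, hΘ]; group }
  have hF : ∀ g, F g = Θ g := fun g => rfl
  refine ⟨F, ?_, ?_⟩
  · intro h
    rw [hF]
    apply hun
    intro h'
    rw [← hΘ]
    have : (MulAut.conjNormal (h : G) h' : H) = h * h' * h⁻¹ := by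
      apply Subtype.ext
      rw [MulAut.conjNormal_apply]; rfl
    rw [this, map_mul, map_mul, map_inv]
  · ext g
    rw [MonoidHom.mem_ker, hF]
    constructor
    · intro hg
      have h1 : ∀ h : H, φ (MulAut.conjNormal g h) = φ h := by
        intro h; rw [hΘ, hg]; group
      have h2 : ∀ h : H, T3 (h : G) → g * h = h * g := by
        intro h hT
        have h3 : φ ((MulAut.conjNormal g h) * h⁻¹) = 1 := by rw [map_mul, h1, map_inv, mul_inv_cancel]
        rw [hφ] at h3
        have e1 : (((MulAut.conjNormal g h) * h⁻¹ : H) : G) = g * h * g⁻¹ * (h : G)⁻¹ := by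
          rw [Subgroup.coe_mul, MulAut.conjNormal_apply]; rfl
        rw [e1] at h3
        rcases h3 with h3 | h3
        · have h4 : g * h * g⁻¹ = h := mul_inv_eq_one.mp h3
          exact mul_inv_eq_iff_eq_mul.mp h4
        · exfalso
          have h4 : g * h * g⁻¹ = h * z := by
            rw [Z.cen, ← h3]; group
          have hT' := hT.conj g
          rw [h4] at hT'
          have h5 := hT'.1
          have h6 : (h : G) * z * (h * z) * (h * z) = (h * h * h) * (z * z) * z := by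
            have e := Z.cen (h : G)
            have e' : Commute (h : G) z := e
            calc (h : G) * z * (h * z) * (h * z) = h * (z * h) * (z * h) * z := by group
              _ = h * (h * z) * (h * z) * z := by rw [← e]
              _ = h * h * (z * h) * z * z := by group
              _ = h * h * (h * z) * z * z := by rw [← e]
              _ = (h * h * h) * (z * z) * z := by group
          rw [h6, hT.1, Z.zz, one_mul, one_mul] at h5
          exact Z.z1 h5
      rw [mem_centralizer_iff]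
      have h3 : (⊤ : Subgroup H) ≤ (centralizer {g}).subgroupOf H := by
        rw [← htop, closure_le]
        intro x hx
        rw [SetLike.mem_coe, mem_subgroupOf, mem_centralizer_iff]
        intro y hy
        rw [Set.mem_singleton_iff] at hy
        rw [hy]
        rcases hx with rfl | hx
        · exact h2 _ hTa
        · rw [Set.mem_singleton_iff] at hx
          subst hx
          exact h2 _ hTb
      intro h hh
      have h4 := h3 (mem_top (⟨h, hh⟩ : H))
      rw [mem_subgroupOf, mem_centralizer_iff] at h4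
      exact (h4 g rfl).symm
    · intro hg
      apply hun
      intro h
      rw [← hΘ]
      have : (MulAut.conjNormal g h : H) = h := by
        apply Subtype.ext
        rw [MulAut.conjNormal_apply]
        rw [mem_centralizer_iff] at hg
        rw [← hg h h.2]; group
      rw [this]; group

/-- an element of `H` whose square is `z` -/
theorem exists_sq (Z : ZC z) {n : ℕ} {v : Equiv.Perm (Fin n)} (hvm : v ∈ alternatingGroup (Fin n))
    (hv : v * v = 1) (hv1 : v ≠ 1) {H : Subgroup G} {φ : H →* Equiv.Perm (Fin n)}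
    (hr : φ.range = alternatingGroup (Fin n)) (hφ : ∀ h : H, φ h = 1 ↔ (h : G) = 1 ∨ (h : G) = z) :
    ∃ s : H, (s : G) * s = z ∧ φ s = v := by
  rw [← hr] at hvm
  obtain ⟨s, hs⟩ := hvm
  refine ⟨s, ?_, hs⟩
  have h1 : φ (s * s) = 1 := by rw [map_mul, hs, hv]
  rw [hφ] at h1
  rcases h1 with h1 | h1
  · exfalso
    apply hv1
    rw [← hs, hφ]
    by_cases h2 : (s : G) = 1
    · left; exact h2
    · right; exact Z.uniq _ h1 h2
  · exact h1

/-- the centralizer of a normal `2.Aₙ` is a Z-group -/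
theorem IsFpf.cent_zgroup (hF : IsFpf G) (Z : ZC z) {n : ℕ} {v : Equiv.Perm (Fin n)} (hvm : v ∈ alternatingGroup (Fin n))
    (hv : v * v = 1) (hv1 : v ≠ 1) {H : Subgroup G} {φ : H →* Equiv.Perm (Fin n)}
    (hr : φ.range = alternatingGroup (Fin n)) (hφ : ∀ h : H, φ h = 1 ↔ (h : G) = 1 ∨ (h : G) = z)
    {Θ : G →* Equiv.Perm (Fin n)} (hΘ : ∀ h : H, Θ h = φ h) (hker : Θ.ker = centralizer (H : Set G)) :
    (∀ g ∈ centralizer (H : Set G), (g * g) * (g * g) = 1 → g * g = 1) ∧ IsZGroup (centralizer (H : Set G)) := by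
  obtain ⟨s, hs, hsv⟩ := exists_sq Z hvm hv hv1 hr hφ
  have key : ∀ g ∈ centralizer (H : Set G), (g * g) * (g * g) = 1 → g * g = 1 := by
    intro g hg h4
    by_contra h2
    have h3 := Z.uniq _ h4 h2
    have h5 : g * (s : G) = s * g := ((mem_centralizer_iff.mp hg) s s.2).symm
    have h6 : (s : G) ∈ centralizer (H : Set G) := by
      rcases hF.comm4 Z.zz Z.z1 h3 hs h5 with h | h
      · rw [h]; exact hg
      · rw [h]
        refine mul_mem hg ?_
        rw [mem_centralizer_iff]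
        intro x _
        exact Z.cen x
    rw [← hker, MonoidHom.mem_ker, hΘ, hsv] at h6
    exact hv1 h6
  refine ⟨key, (hF.sub _).zgroup_of_no4 ?_⟩
  intro g hg
  apply Subtype.ext
  exact key g g.2 (congrArg Subtype.val hg)

omit [Finite G] in
theorem exists_perfect [Finite G] (hns : ¬ Group.IsSolvable G) :
    ∃ S : Subgroup G, S.Normal ∧ S ≠ ⊥ ∧ commutator S = ⊤ := by
  classical
  obtain ⟨n, hn⟩ : ∃ n, derivedSeries G (n + 1) = derivedSeries G n := by
    obtain ⟨n, hn⟩ : ∃ n, ∀ m, Nat.card (derivedSeries G n) ≤ Nat.card (derivedSeries G m) := by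
      let f : ℕ → ℕ := fun m => Nat.card (derivedSeries G m)
      obtain ⟨n, hn⟩ := (Set.range_nonempty f).some_mem
      refine ⟨Function.argmin f, fun m => Function.argmin_le f m⟩
    exact ⟨n, Subgroup.eq_of_le_of_card_ge (derivedSeries_antitone G (Nat.le_succ n)) (hn (n + 1))⟩
  refine ⟨derivedSeries G n, inferInstance, ?_, ?_⟩
  · intro h
    exact hns ⟨⟨n, h⟩⟩
  · rw [eq_top_iff, ← Subgroup.map_subtype_le_map_subtype, Subgroup.map_subtype_commutator]
    rw [← derivedSeries_succ, hn]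
    exact (map_subtype_le _)

/-- a nonsolvable fpf group has a normal subgroup `SL(2,5)` -/
theorem IsFpf.exists_sl25 (hF : IsFpf G) (hns : ¬ Group.IsSolvable G) :
    ∃ z : G, ZC z ∧ ∃ H : Subgroup G, H.Normal ∧ Typ 5 z H ∧ Nonempty (H ≃* SL25) := by
  obtain ⟨S, hS, hS1, hSp⟩ := exists_perfect hns
  have hne : ∃ g : S, g ≠ 1 := Subgroup.ne_bot_iff_exists_ne_one.mp hS1
  obtain ⟨z, Z, φ, hr, hφ⟩ := (hF.sub S).perfect hSp hne
  have Z' : ZC (z : G) := hF.zc (congrArg Subtype.val Z.zz) (fun h => Z.z1 (Subtype.ext h))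
  refine ⟨z, Z', S, hS, ?_, (hF.sub S).iso_sl25 hSp hne⟩
  refine ⟨φ.comp (Subgroup.topEquiv.symm : S ≃* (⊤ : Subgroup S)).toMonoidHom, ?_, ?_⟩
  · rw [← hr]
    ext σ
    constructor
    · rintro ⟨x, rfl⟩; exact ⟨_, rfl⟩
    · rintro ⟨x, rfl⟩; exact ⟨x, rfl⟩
  · intro h
    have := hφ (Subgroup.topEquiv.symm h)
    rw [MonoidHom.comp_apply]
    refine this.trans ?_
    constructor
    · rintro (h1 | h1)
      · left; exact congrArg Subtype.val h1
      · right; exact congrArg Subtype.val h1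
    · rintro (h1 | h1)
      · left; exact Subtype.ext h1
      · right; exact Subtype.ext h1

end CfsgLib.H6Zas
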