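import Cfsg.Agent.LibH6ZasK

/-! Structure of nonsolvable fixed-point-free groups. -/

set_option autoImplicit false
set_option synthInstance.maxSize 2000

namespace CfsgLib.H6Zas

open Subgroup

variable {G : Type*} [Group G] [Finite G] {z : G}

def v4 : Equiv.Perm (Fin 4) := Equiv.swap 0 1 * Equiv.swap 2 3
def v5 : Equiv.Perm (Fin 5) := Equiv.swap 0 1 * Equiv.swap 2 3
theorem v4m : v4 ∈ alternatingGroup (Fin 4) := by
  rw [Equiv.Perm.mem_alternatingGroup]; decide +kernel
theorem v5m : v5 ∈ alternatingGroup (Fin 5) := by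
  rw [Equiv.Perm.mem_alternatingGroup]; decide +kernel
theorem v4v : v4 * v4 = 1 := by decide +kernel
theorem v5v : v5 * v5 = 1 := by decide +kernel
theorem v41 : v4 ≠ 1 := by decide +kernel
theorem v51 : v5 ≠ 1 := by decide +kernel

/-- the data attached to a nonsolvable fpf group -/
theorem IsFpf.data5 (hF : IsFpf G) (hns : ¬ Group.IsSolvable G) :
    ∃ (z : G) (H : Subgroup G) (Θ : G →* Equiv.Perm (Fin 5)), ZC z ∧ H.Normal ∧ Nonempty (H ≃* SL25) ∧ z ∈ H ∧
      Nat.card H = 120 ∧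
      H.map Θ = alternatingGroup (Fin 5) ∧ (∀ h ∈ H, Θ h = 1 → h = 1 ∨ h = z) ∧ Θ.ker = centralizer (H : Set G) ∧
      (∀ g ∈ centralizer (H : Set G), (g * g) * (g * g) = 1 → g * g = 1) ∧ IsZGroup (centralizer (H : Set G)) := by
  obtain ⟨z, Z, H, hH, hT, he⟩ := hF.exists_sl25 hns
  haveI := hH
  have hcard := Z.card_typ (by norm_num) hT
  obtain ⟨φ, hr, hφ⟩ := hT
  obtain ⟨Θ, hΘ, hker⟩ := theta_exists Z (by norm_num) sd5 hr hφ
  obtain ⟨h4, hzg⟩ := hF.cent_zgroup Z v5m v5v v51 hr hφ hΘ hker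
  refine ⟨z, H, Θ, Z, hH, he, Z.z_mem (by norm_num) hr, by rw [hcard, c5], ?_, ?_, hker, h4, hzg⟩
  · rw [← hr]
    ext σ
    constructor
    · rintro ⟨x, hx, rfl⟩
      exact ⟨⟨x, hx⟩, (hΘ ⟨x, hx⟩).symm⟩
    · rintro ⟨x, rfl⟩
      exact ⟨x, x.2, hΘ x⟩
  · intro h hh h1
    exact (hφ ⟨h, hh⟩).mp (by rw [← hΘ]; exact h1)

/-- a finite group with a unique involution, central, and without elements of order four, splits off
the involution -/
theorem split_two {C : Type*} [Group C] [Finite C] {z : C} (hz1 : z ≠ 1) (hzz : z * z = 1)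
    (huniq : ∀ t : C, t * t = 1 → t ≠ 1 → t = z) (hcen : ∀ g : C, g * z = z * g)
    (h4 : ∀ g : C, (g * g) * (g * g) = 1 → g * g = 1) :
    ∃ M : Subgroup C, z ∉ M ∧ Odd (Nat.card M) ∧ ∀ g : C, g ∈ M ∨ z * g ∈ M := by
  classical
  have hzo : orderOf z = 2 := by
    apply orderOf_eq_prime
    · rw [pow_two, hzz]
    · exact hz1
  haveI : (zpowers z).Normal := by
    refine ⟨fun x hx g => ?_⟩
    obtain ⟨k, rfl⟩ := hx
    have hc : Commute g z := hcen g
    have : g * (fun x => z ^ x) k * g⁻¹ = z ^ k := by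
      show g * z ^ k * g⁻¹ = z ^ k
      rw [(hc.zpow_right k).eq]; group
    rw [this]; exact ⟨k, rfl⟩
  have hcz : Nat.card (zpowers z) = 2 := by rw [Nat.card_zpowers, hzo]
  have h4' : ¬ 4 ∣ Nat.card C := by
    intro h
    haveI : Fact (Nat.Prime 2) := ⟨Nat.prime_two⟩
    obtain ⟨K, hK⟩ := Sylow.exists_subgroup_card_pow_prime 2 (n := 2) (G := C) (by norm_num; exact h)
    have hle : K ≤ zpowers z := by
      intro g hg
      have h1 : (⟨g, hg⟩ : K) ^ 4 = 1 := by
        have := pow_card_eq_one' (x := (⟨g, hg⟩ : K))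
        rw [hK] at this
        exact this
      have h2 : g ^ 4 = 1 := congrArg Subtype.val h1
      have h3 : g * g = 1 := h4 g (by rw [← h2]; simp only [pow_succ, pow_zero, one_mul, mul_assoc])
      by_cases hg1 : g = 1
      · rw [hg1]; exact one_mem _
      · rw [huniq g h3 hg1]; exact mem_zpowers z
    have := Subgroup.card_le_of_le hle
    rw [hK, hcz] at this
    norm_num at this
  have hcard := (zpowers z).card_mul_index
  rw [hcz] at hcard
  have hodd : Odd (zpowers z).index := by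
    rw [← Nat.not_even_iff_odd]
    rintro ⟨k, hk⟩
    apply h4'
    rw [← hcard, hk]
    exact ⟨k, by ring⟩
  obtain ⟨M, hM⟩ := Subgroup.exists_right_complement'_of_coprime (N := zpowers z)
    (by rw [hcz]; exact (Nat.coprime_two_left).mpr hodd)
  refine ⟨M, ?_, ?_, ?_⟩
  · intro h
    have : z ∈ zpowers z ⊓ M := ⟨mem_zpowers z, h⟩
    rw [hM.disjoint.eq_bot] at this
    exact hz1 this
  · rw [← hM.symm.index_eq_card]
    exact hodd
  · intro g
    have h1 : g ∈ zpowers z ⊔ M := by rw [hM.sup_eq_top]; exact mem_top g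
    rw [Subgroup.mem_sup_of_normal_left] at h1
    obtain ⟨a, ha, b, hb, rfl⟩ := h1
    obtain ⟨k, hk⟩ := ha
    have hk' : z ^ k = a := hk
    rcases Int.even_or_odd' k with ⟨m, hm | hm⟩
    · left
      have : a = 1 := by
        rw [← hk', hm, zpow_mul]
        have : z ^ (2 : ℤ) = 1 := by
          rw [zpow_two, hzz]
        rw [this, one_zpow]
      rw [this, one_mul]; exact hb
    · right
      have : a = z := by
        rw [← hk', hm, zpow_add, zpow_mul]
        have : z ^ (2 : ℤ) = 1 := by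
          rw [zpow_two, hzz]
        rw [this, one_zpow, one_mul, zpow_one]
      rw [this, ← mul_assoc, hzz, one_mul]; exact hb

theorem IsFpf.nonsolvable (hF : IsFpf G) (hns : ¬ Group.IsSolvable G) :
    ∃ G₀ : Subgroup G, G₀.Normal ∧ (G₀.index = 1 ∨ G₀.index = 2) ∧
      ∃ S M : Subgroup G, S ⊔ M = G₀ ∧ S ⊓ M = ⊥ ∧ (∀ s ∈ S, ∀ x ∈ M, s * x = x * s) ∧
        Nonempty (S ≃* SL25) ∧ IsZGroup M ∧ (Nat.card M).Coprime 120 ∧ S.Normal ∧
        (∀ g ∈ centralizer (S : Set G), ∃ s ∈ S, s * g ∈ M) := by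
  classical
  obtain ⟨z, H, Θ, Z, hH, he, hzH, hcH, hmap, hk, hker, h4, hzg⟩ := hF.data5 hns
  haveI := hH
  set C := centralizer (H : Set G) with hC
  have hzC : z ∈ C := by
    rw [hC, mem_centralizer_iff]
    intro x _; exact Z.cen x
  obtain ⟨M', hzM, hodd, hM'⟩ := split_two (C := C) (z := ⟨z, hzC⟩) (fun h => Z.z1 (congrArg Subtype.val h))
    (Subtype.ext Z.zz) (fun t ht ht1 => Subtype.ext (Z.uniq t (congrArg Subtype.val ht) (fun h => ht1 (Subtype.ext h))))
    (fun g => Subtype.ext (Z.cen g)) (fun g hg => Subtype.ext (h4 g g.2 (congrArg Subtype.val hg)))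
  let M : Subgroup G := M'.map C.subtype
  have hMC : M ≤ C := by
    rintro _ ⟨x, -, rfl⟩; exact x.2
  have hmemM : ∀ x : C, (x : G) ∈ M ↔ x ∈ M' := by
    intro x
    constructor
    · rintro ⟨y, hy, hxy⟩
      have : y = x := Subtype.ext hxy
      rwa [← this]
    · intro hx; exact ⟨x, hx, rfl⟩
  have hzM' : z ∉ M := fun h => hzM ((hmemM ⟨z, hzC⟩).mp h)
  have hcomm : ∀ s ∈ H, ∀ x ∈ M, s * x = x * s := fun s hs x hx => (mem_centralizer_iff.mp (hMC hx)) s hs
  have hinf : H ⊓ M = ⊥ := by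
    rw [eq_bot_iff]
    rintro x ⟨hxH, hxM⟩
    have h1 : Θ x = 1 := by
      have : x ∈ Θ.ker := by rw [hker]; exact hMC hxM
      exact this
    rcases hk x hxH h1 with h | h
    · rw [h]; exact one_mem _
    · rw [h] at hxM; exact absurd hxM hzM'
  have hCM : ∀ g ∈ C, ∃ s ∈ H, s * g ∈ M := by
    intro g hg
    rcases hM' ⟨g, hg⟩ with h | h
    · exact ⟨1, one_mem _, by rw [one_mul]; exact (hmemM _).mpr h⟩
    · exact ⟨z, hzH, (hmemM _).mpr h⟩
  have hG0 : H ⊔ M = (alternatingGroup (Fin 5)).comap Θ := by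
    apply le_antisymm
    · apply sup_le
      · intro x hx
        rw [mem_comap, ← hmap]
        exact ⟨x, hx, rfl⟩
      · intro x hx
        have : x ∈ Θ.ker := by rw [hker]; exact hMC hx
        rw [mem_comap, MonoidHom.mem_ker.mp this]
        exact one_mem _
    · intro x hx
      rw [mem_comap, ← hmap] at hx
      obtain ⟨s, hs, hsx⟩ := hx
      have h1 : s⁻¹ * x ∈ C := by
        rw [← hker, MonoidHom.mem_ker, map_mul, map_inv, hsx, inv_mul_cancel]
      obtain ⟨t, ht, htm⟩ := hCM _ h1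
      have h2 : x = (s * t⁻¹) * (t * (s⁻¹ * x)) := by group
      rw [h2]
      exact mul_mem (mem_sup_left (mul_mem hs (inv_mem ht))) (mem_sup_right htm)
  refine ⟨H ⊔ M, ?_, ?_, H, M, rfl, hinf, hcomm, he, ?_, ?_, hH, hCM⟩
  · rw [hG0]; infer_instance
  · rw [hG0, index_comap]
    have h1 : (alternatingGroup (Fin 5)).relIndex Θ.range ∣ (alternatingGroup (Fin 5)).index :=
      relIndex_dvd_index_of_normal _ _
    have h2 : (alternatingGroup (Fin 5)).index = 2 := alternatingGroup.index_eq_two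
    rw [h2] at h1
    exact (Nat.dvd_prime Nat.prime_two).mp h1
  · haveI := hzg
    exact IsZGroup.of_injective (f := Subgroup.inclusion hMC) (Subgroup.inclusion_injective hMC)
  · by_contra hcop
    obtain ⟨p, hp, hpM, hp120⟩ := Nat.Prime.not_coprime_iff_dvd.mp hcop
    haveI : Fact p.Prime := ⟨hp⟩
    obtain ⟨c, hc⟩ := exists_prime_orderOf_dvd_card' p hpM
    obtain ⟨x, hx⟩ := exists_prime_orderOf_dvd_card' (G := H) p (by rw [hcH]; exact hp120)
    have hc1 : (c : G) ≠ 1 := by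
      intro h
      have : c = 1 := Subtype.ext h
      rw [this, orderOf_one] at hc
      exact hp.one_lt.ne hc
    have hcp : (c : G) ^ p = 1 := by
      have : c ^ p = 1 := by rw [← hc]; exact pow_orderOf_eq_one c
      exact congrArg Subtype.val this
    have hxp : (x : G) ^ p = 1 := by
      have : x ^ p = 1 := by rw [← hx]; exact pow_orderOf_eq_one x
      exact congrArg Subtype.val this
    have h1 := hF.comm_prime hp hcp hc1 hxp (hcomm x x.2 c c.2).symm
    have h2 : (x : G) ∈ M := (zpowers_le.mpr c.2) h1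
    have h3 : (x : G) ∈ H ⊓ M := ⟨x.2, h2⟩
    rw [hinf, mem_bot] at h3
    have h4 : x = 1 := Subtype.ext h3
    rw [h4, orderOf_one] at hx
    exact hp.one_lt.ne hx

end CfsgLib.H6Zas
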