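import Cfsg.Agent.LibH6ZasM

/-! Solvable fixed-point-free groups. -/

set_option autoImplicit false
set_option synthInstance.maxSize 2000

namespace CfsgLib.H6Zas

open Subgroup Cfsg

theorem eq_one_of_two_odd {G : Type*} [Group G] [Finite G] {O : Subgroup G} (hO : Odd (Nat.card O)) {x : G} (hx : x ∈ O)
    {k : ℕ} (h : x ^ 2 ^ k = 1) : x = 1 := by
  have h1 : orderOf x ∣ Nat.card O := by
    have := orderOf_dvd_natCard (⟨x, hx⟩ : O)
    rwa [Subgroup.orderOf_mk] at this
  have h2 : orderOf x ∣ 2 ^ k := orderOf_dvd_of_pow_eq_one h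
  have h3 : Nat.Coprime (Nat.card O) (2 ^ k) := (Nat.coprime_two_right.mpr hO).pow_right k
  exact orderOf_eq_one_iff.mp (Nat.eq_one_of_dvd_coprimes h3 h1 h2)

/-- `2`-subgroups of a quotient by an odd normal subgroup lift -/
theorem lift_two {G : Type*} [Group G] [Finite G] (O : Subgroup G) [O.Normal] (hO : Odd (Nat.card O))
    (P : Subgroup (G ⧸ O)) (hP : IsPGroup 2 P) : ∃ U : Subgroup G, IsPGroup 2 U ∧ Nonempty (U ≃* P) := by
  classical
  haveI : Fact (Nat.Prime 2) := ⟨Nat.prime_two⟩
  let X := P.comap (QuotientGroup.mk' O)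
  obtain ⟨U₀⟩ : Nonempty (Sylow 2 X) := inferInstance
  let f : (U₀ : Subgroup X) →* P :=
    { toFun := fun x => ⟨QuotientGroup.mk' O ((x : X) : G), (x : X).2⟩
      map_one' := by apply Subtype.ext; simp
      map_mul' := by intro x y; apply Subtype.ext; simp }
  have hinj : Function.Injective f := by
    rw [injective_iff_map_eq_one]
    intro x hx
    have h1 : ((x : X) : G) ∈ O := by
      have := congrArg Subtype.val hx
      exact (QuotientGroup.eq_one_iff _).mp this
    obtain ⟨k, hk⟩ := U₀.isPGroup' x
    have hk' : (((x : X) : G)) ^ 2 ^ k = 1 := congrArg (fun y : (U₀ : Subgroup X) => ((y : X) : G)) hk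
    have h2 := eq_one_of_two_odd hO h1 hk'
    exact Subtype.ext (Subtype.ext h2)
  obtain ⟨k, hk⟩ := IsPGroup.iff_card.mp hP
  have hX : Nat.card X = Nat.card O * 2 ^ k := by
    rw [← hk]; exact CfsgLib.Cores.card_comap_mk O P
  have hU : Nat.card (U₀ : Subgroup X) = 2 ^ k := by
    have h := U₀.card_eq_multiplicity
    rw [hX, Nat.factorization_mul (Nat.card_pos.ne') (by positivity)] at h
    have h1 : (Nat.card O).factorization 2 = 0 := by
      apply Nat.factorization_eq_zero_of_not_dvd
      intro hd
      exact (Nat.not_even_iff_odd.mpr hO) (even_iff_two_dvd.mpr hd)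
    have h2 : (2 ^ k).factorization 2 = k := by
      rw [Nat.Prime.factorization_pow Nat.prime_two]; simp
    rw [Finsupp.add_apply, h1, h2, zero_add] at h
    exact h
  have hbij : Function.Bijective f := by
    rw [Nat.bijective_iff_injective_and_card]
    exact ⟨hinj, by rw [hU, hk]⟩
  refine ⟨(U₀ : Subgroup X).map X.subtype, U₀.isPGroup'.map _, ⟨?_⟩⟩
  exact (((U₀ : Subgroup X).equivMapOfInjective X.subtype X.subtype_injective).symm).trans (MulEquiv.ofBijective f hbij)

theorem IsFpf.zgroup_comap {G : Type*} [Group G] [Finite G] (hF : IsFpf G) (O : Subgroup G) [O.Normal]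
    (hO : Odd (Nat.card O)) (K : Subgroup (G ⧸ O)) (hK : IsCyclic K) : IsZGroup (K.comap (QuotientGroup.mk' O)) := by
  refine (hF.sub _).zgroup_of_two ?_
  intro P
  let X := K.comap (QuotientGroup.mk' O)
  let f : (P : Subgroup X) →* K :=
    { toFun := fun x => ⟨QuotientGroup.mk' O ((x : X) : G), (x : X).2⟩
      map_one' := by apply Subtype.ext; simp
      map_mul' := by intro x y; apply Subtype.ext; simp }
  have hinj : Function.Injective f := by
    rw [injective_iff_map_eq_one]
    intro x hx
    have h1 : ((x : X) : G) ∈ O := by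
      have := congrArg Subtype.val hx
      exact (QuotientGroup.eq_one_iff _).mp this
    obtain ⟨k, hk⟩ := P.isPGroup' x
    have hk' : (((x : X) : G)) ^ 2 ^ k = 1 := congrArg (fun y : (P : Subgroup X) => ((y : X) : G)) hk
    have h2 := eq_one_of_two_odd hO h1 hk'
    exact Subtype.ext (Subtype.ext h2)
  exact isCyclic_of_injective f hinj

/-- the quotient of a generalized quaternion group by its Frattini subgroup -/
theorem quat_proj (m : ℕ) [NeZero m] (hm : Even m) :
    ∃ f : QuaternionGroup m →* DihedralGroup 2, Function.Surjective f ∧ IsCyclic f.ker := by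
  have hdvd : 2 ∣ 2 * m := ⟨m, rfl⟩
  let c : ZMod (2 * m) →+* ZMod 2 := ZMod.castHom hdvd (ZMod 2)
  have hcm : c (m : ZMod (2 * m)) = 0 := by
    rw [map_natCast]
    exact (ZMod.natCast_eq_zero_iff_even).mpr hm
  let f : QuaternionGroup m →* DihedralGroup 2 :=
    MonoidHom.mk' (fun x => match x with
      | QuaternionGroup.a i => DihedralGroup.r (c i)
      | QuaternionGroup.xa i => DihedralGroup.sr (c i)) (by
      intro x y
      cases x with
      | a i =>
        cases y with
        | a j =>
          show _ = DihedralGroup.r (c i) * DihedralGroup.r (c j)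
          rw [QuaternionGroup.a_mul_a, DihedralGroup.r_mul_r]
          show DihedralGroup.r (c (i + j)) = _
          rw [map_add]
        | xa j =>
          show _ = DihedralGroup.r (c i) * DihedralGroup.sr (c j)
          rw [QuaternionGroup.a_mul_xa, DihedralGroup.r_mul_sr]
          show DihedralGroup.sr (c (j - i)) = _
          rw [map_sub]
      | xa i =>
        cases y with
        | a j =>
          show _ = DihedralGroup.sr (c i) * DihedralGroup.r (c j)
          rw [QuaternionGroup.xa_mul_a, DihedralGroup.sr_mul_r]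
          show DihedralGroup.sr (c (i + j)) = _
          rw [map_add]
        | xa j =>
          show _ = DihedralGroup.sr (c i) * DihedralGroup.sr (c j)
          rw [QuaternionGroup.xa_mul_xa, DihedralGroup.sr_mul_sr]
          show DihedralGroup.r (c (m + j - i)) = _
          rw [map_sub, map_add, hcm, zero_add])
  have hfa : ∀ i, f (QuaternionGroup.a i) = DihedralGroup.r (c i) := fun i => rfl
  have hfx : ∀ i, f (QuaternionGroup.xa i) = DihedralGroup.sr (c i) := fun i => rfl
  refine ⟨f, ?_, ?_⟩
  · intro y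
    cases y with
    | r i =>
      obtain ⟨j, hj⟩ := ZMod.castHom_surjective hdvd i
      exact ⟨QuaternionGroup.a j, by rw [hfa]; exact congrArg _ hj⟩
    | sr i =>
      obtain ⟨j, hj⟩ := ZMod.castHom_surjective hdvd i
      exact ⟨QuaternionGroup.xa j, by rw [hfx]; exact congrArg _ hj⟩
  · have hle : f.ker ≤ zpowers (QuaternionGroup.a 1 : QuaternionGroup m) := by
      intro x hx
      cases x with
      | a i =>
        haveI : NeZero (2 * m) := ⟨by have := NeZero.ne m; omega⟩
        obtain ⟨k, rfl⟩ := ZMod.natCast_zmod_surjective i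
        rw [← QuaternionGroup.a_one_pow]
        exact pow_mem (mem_zpowers _) k
      | xa i =>
        exfalso
        rw [MonoidHom.mem_ker, hfx] at hx
        have : (DihedralGroup.sr (c i) : DihedralGroup 2) = DihedralGroup.r 0 := hx
        cases this
    exact isCyclic_of_injective (Subgroup.inclusion hle) (Subgroup.inclusion_injective hle)

theorem IsFpf.ex_two {G : Type*} [Group G] [Finite G] (hF : IsFpf G) (O : Subgroup G) [O.Normal]
    (hO : Odd (Nat.card O)) (h2 : IsPGroup 2 (G ⧸ O)) :
    ∃ N : Subgroup G, N.Normal ∧ IsZGroup N ∧ (N = ⊤ ∨ ∃ f : G →* DihedralGroup 2, Function.Surjective f ∧ f.ker = N) := by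
  obtain ⟨U, hU, ⟨e⟩⟩ := lift_two O hO ⊤ (h2.to_subgroup ⊤)
  let e' : U ≃* (G ⧸ O) := e.trans Subgroup.topEquiv
  have hcyc : IsCyclic U → ∃ N : Subgroup G, N.Normal ∧ IsZGroup N ∧
      (N = ⊤ ∨ ∃ f : G →* DihedralGroup 2, Function.Surjective f ∧ f.ker = N) := by
    intro h
    have h3 : IsCyclic (⊤ : Subgroup (G ⧸ O)) := isCyclic_of_surjective e e.surjective
    have h4 := hF.zgroup_comap O hO ⊤ h3
    rw [comap_top] at h4
    exact ⟨⊤, inferInstance, h4, Or.inl rfl⟩
  rcases hF.two_sub U hU with h | ⟨n, ⟨e2⟩⟩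
  · exact hcyc h
  · rcases Nat.eq_zero_or_pos n with rfl | hn
    · apply hcyc
      have : IsCyclic (QuaternionGroup (2 ^ 0)) := by
        rw [pow_zero]; exact QuaternionGroup.quaternionGroup_one_isCyclic
      exact isCyclic_of_surjective e2.symm e2.symm.surjective
    · haveI : NeZero (2 ^ n) := ⟨by positivity⟩
      obtain ⟨π, hπ, hc⟩ := quat_proj (2 ^ n) ((Nat.even_pow.mpr ⟨even_two, hn.ne'⟩))
      let g : (G ⧸ O) →* DihedralGroup 2 := π.comp (e'.symm.trans e2).toMonoidHom
      have hgs : Function.Surjective g := hπ.comp (e'.symm.trans e2).surjective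
      have hgc : IsCyclic g.ker := by
        let j : g.ker →* π.ker :=
          { toFun := fun x => ⟨(e'.symm.trans e2) x, x.2⟩
            map_one' := by apply Subtype.ext; simp
            map_mul' := by intro x y; apply Subtype.ext; simp }
        refine isCyclic_of_injective j ?_
        intro x y hxy
        exact Subtype.ext ((e'.symm.trans e2).injective (congrArg Subtype.val hxy))
      refine ⟨(g.comp (QuotientGroup.mk' O)).ker, inferInstance, ?_, Or.inr ⟨g.comp (QuotientGroup.mk' O), ?_, rfl⟩⟩
      · have := hF.zgroup_comap O hO g.ker hgc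
        exact this
      · exact hgs.comp (QuotientGroup.mk'_surjective O)

theorem alt_le_of_index {n : ℕ} (R : Subgroup (Equiv.Perm (Fin n))) (h : R.index ∣ 2) : alternatingGroup (Fin n) ≤ R := by
  rcases (Nat.dvd_prime Nat.prime_two).mp h with h | h
  · rw [index_eq_one.mp h]; exact le_top
  · rw [← Equiv.Perm.closure_three_cycles_eq_alternating, closure_le]
    intro c hc
    have h3 := (T3_of_order hc.orderOf).1
    have h4 : c = (c * c) * (c * c) := by
      calc c = (c * c * c) * c := by rw [h3, one_mul]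
        _ = (c * c) * (c * c) := by group
    rw [SetLike.mem_coe, h4]
    have h5 := Subgroup.mul_self_mem_of_index_two h c
    exact mul_mem h5 h5

theorem q8_center : ∀ x : QuaternionGroup 2, (∀ y, x * y = y * x) → x * x = 1 ∧ (x = 1 ∨ x = QuaternionGroup.a 2) := by
  decide +kernel

theorem IsFpf.ex_solvable {G : Type*} [Group G] [Finite G] (hF : IsFpf G) [Group.IsSolvable G] :
    ∃ N : Subgroup G, N.Normal ∧ IsZGroup N ∧ (N = ⊤ ∨ (∃ f : G →* DihedralGroup 2, Function.Surjective f ∧ f.ker = N) ∨
      (∃ Θ : G →* Equiv.Perm (Fin 4), Θ.ker = N ∧ alternatingGroup (Fin 4) ≤ Θ.range)) := by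
  classical
  haveI : Fact (Nat.Prime 2) := ⟨Nat.prime_two⟩
  set O := pPrimeCore 2 G with hOdef
  have hO : Odd (Nat.card O) := Nat.coprime_two_right.mp (CfsgLib.Cores.pPrimeCore_coprime 2)
  by_cases h2 : IsPGroup 2 (G ⧸ O)
  · obtain ⟨N, h3, h4, h5⟩ := hF.ex_two O hO h2
    refine ⟨N, h3, h4, ?_⟩
    rcases h5 with h5 | h5
    · exact Or.inl h5
    · exact Or.inr (Or.inl h5)
  set T := pCore 2 (G ⧸ O) with hT
  have hTp : IsPGroup 2 T := CfsgLib.Cores.pCore_isPGroup 2
  have hC : centralizer (T : Set (G ⧸ O)) ≤ T := by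
    have hfit : fittingSubgroup (G ⧸ O) = T := by
      apply le_antisymm
      · rw [CfsgLib.Cores.fittingSubgroup_eq_iSup_pCore]
        refine iSup_le fun q0 => ?_
        obtain ⟨q, hq⟩ := q0
        show pCore q (G ⧸ O) ≤ T
        by_cases h : q = 2
        · rw [h]
        · haveI := Fact.mk hq
          have h1 : pCore q (G ⧸ O) ≤ pPrimeCore 2 (G ⧸ O) := by
            refine CfsgLib.Cores.le_pPrimeCore inferInstance ?_
            obtain ⟨k, hk⟩ := IsPGroup.iff_card.1 (CfsgLib.Cores.pCore_isPGroup (G := G ⧸ O) q)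
            rw [hk]
            exact Nat.Coprime.pow_left k ((Nat.coprime_primes hq Nat.prime_two).2 h)
          have h11 : pPrimeCore 2 (G ⧸ O) = ⊥ := CfsgLib.Cores.pPrimeCore_quotient_pPrimeCore 2
          rw [h11, le_bot_iff] at h1
          rw [h1]; exact bot_le
      · exact CfsgLib.Cores.pCore_le_fittingSubgroup 2
    haveI : Group.IsSolvable (G ⧸ O) := inferInstance
    have h9 := CfsgLib.Cores.centralizer_fittingSubgroup_le (G := G ⧸ O)
    rwa [hfit] at h9
  let f : (G ⧸ O) →* MulAut T := MulAut.conjNormal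
  have hker : ∀ x, f x = 1 ↔ x ∈ centralizer (T : Set (G ⧸ O)) := by
    intro x
    rw [mem_centralizer_iff]
    constructor
    · intro h t ht
      have h1 : f x ⟨t, ht⟩ = ⟨t, ht⟩ := by rw [h]; rfl
      have h2 : x * t * x⁻¹ = t := by
        have := congrArg Subtype.val h1
        rwa [MulAut.conjNormal_apply] at this
      exact (mul_inv_eq_iff_eq_mul.mp h2).symm
    · intro h
      ext t
      rw [MulAut.conjNormal_apply, MulAut.one_apply, ← h t t.2]
      group
  -- if all automorphisms of `T` have 2-power order, `G ⧸ O` is a 2-group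
  have hne : ¬ ∀ g : G ⧸ O, ∃ k : ℕ, (f g) ^ 2 ^ k = 1 := by
    intro hall
    apply h2
    intro g
    obtain ⟨k, hk⟩ := hall g
    rw [← map_pow, hker] at hk
    obtain ⟨l, hl⟩ := hTp ⟨_, hC hk⟩
    have hl' : (g ^ 2 ^ k) ^ 2 ^ l = 1 := congrArg Subtype.val hl
    refine ⟨k + l, ?_⟩
    rw [pow_add, pow_mul]; exact hl'
  have hcyc : ¬ IsCyclic T := by
    intro h
    apply hne
    intro g
    obtain ⟨k, hk⟩ := IsPGroup.iff_card.mp hTp
    have h1 := IsCyclic.card_mulAut T
    rw [hk] at h1
    have h3 : (f g) ^ Nat.card (MulAut T) = 1 := pow_card_eq_one'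
    rcases Nat.eq_zero_or_pos k with h0 | h0
    · rw [h0, pow_zero, Nat.totient_one] at h1
      rw [h1, pow_one] at h3
      exact ⟨0, by rw [pow_zero, pow_one]; exact h3⟩
    · rw [Nat.totient_prime_pow Nat.prime_two h0] at h1
      refine ⟨k - 1, ?_⟩
      rw [h1] at h3
      simpa using h3
  obtain ⟨U, hU, ⟨e⟩⟩ := lift_two O hO T hTp
  rcases hF.two_sub U hU with h | ⟨n, ⟨e2⟩⟩
  · exact absurd (isCyclic_of_surjective e e.surjective) hcyc
  have hn1 : n = 1 := by
    by_contra hn1
    rcases Nat.eq_zero_or_pos n with rfl | hn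
    · apply hcyc
      have : IsCyclic (QuaternionGroup (2 ^ 0)) := by
        rw [pow_zero]; exact QuaternionGroup.quaternionGroup_one_isCyclic
      exact isCyclic_of_surjective (e2.symm.trans e) (e2.symm.trans e).surjective
    · apply hne
      intro g
      obtain ⟨k, hk⟩ := CfsgLib.Fus21.aut_quaternion n (by omega) (MulAut.congr (e.symm.trans e2) (f g))
      refine ⟨k, ?_⟩
      rw [← map_pow] at hk
      exact (MulAut.congr (e.symm.trans e2)).injective (by rw [hk, map_one])
  subst hn1
  let e3 : T ≃* QuaternionGroup 2 := (e.symm.trans e2).trans (MulEquiv.refl _)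
  obtain ⟨F, hFi⟩ := aut_q8_perm
  let A : (G ⧸ O) →* Equiv.Perm (Fin 4) := F.comp ((MulAut.congr e3).toMonoidHom.comp f)
  have hA : ∀ x, A x = 1 ↔ x ∈ centralizer (T : Set (G ⧸ O)) := by
    intro x
    rw [← hker]
    constructor
    · intro h
      exact (MulAut.congr e3).injective (hFi (by rw [map_one, map_one]; exact h))
    · intro h
      show F (MulAut.congr e3 (f x)) = 1
      rw [h, map_one, map_one]
  refine ⟨(A.comp (QuotientGroup.mk' O)).ker, inferInstance, ?_, Or.inr (Or.inr ⟨A.comp (QuotientGroup.mk' O), rfl, ?_⟩)⟩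
  · refine (hF.sub _).zgroup_of_no4 ?_
    rintro ⟨g, hg⟩ h4
    have h4' : (g * g) * (g * g) = 1 := congrArg Subtype.val h4
    apply Subtype.ext
    show g * g = 1
    rw [MonoidHom.mem_ker, MonoidHom.comp_apply, hA] at hg
    have hgT := hC hg
    have h5 := q8_center (e3 ⟨_, hgT⟩) (by
      intro y
      obtain ⟨t, rfl⟩ := e3.surjective y
      rw [← map_mul, ← map_mul]
      congr 1
      apply Subtype.ext
      exact ((mem_centralizer_iff.mp hg) t t.2).symm)
    have h6 : (⟨_, hgT⟩ : T) * ⟨_, hgT⟩ = 1 := by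
      apply e3.injective
      rw [map_mul, h5.1, map_one]
    have h7 : g * g ∈ O := by
      rw [← QuotientGroup.eq_one_iff]
      exact congrArg Subtype.val h6
    exact eq_one_of_two_odd hO h7 (k := 1) (by rw [pow_one, pow_two]; exact h4')
  · have hrange : (A.comp (QuotientGroup.mk' O)).range = A.range := by
      rw [MonoidHom.range_comp, MonoidHom.range_eq_top.mpr (QuotientGroup.mk'_surjective O), ← MonoidHom.range_eq_map]
    rw [hrange]
    apply alt_le_of_index
    have hcS : Nat.card (Equiv.Perm (Fin 4)) = 24 := by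
      rw [Nat.card_eq_fintype_card, Fintype.card_perm]; rfl
    have hmul := A.range.card_mul_index
    rw [hcS] at hmul
    -- 4 divides
    have h4 : 4 ∣ Nat.card A.range := by
      let Ψ : QuaternionGroup 2 →* Equiv.Perm (Fin 4) := F.comp MulAut.conj
      have hle : Ψ.range ≤ A.range := by
        rintro _ ⟨q, rfl⟩
        refine ⟨(e3.symm q : T), ?_⟩
        show F (MulAut.congr e3 (f (e3.symm q : T))) = F (MulAut.conj q)
        congr 1
        ext y
        show e3 (f (e3.symm q : T) (e3.symm y)) = MulAut.conj q y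
        rw [MulAut.conj_apply]
        have : f (e3.symm q : T) (e3.symm y) = e3.symm q * e3.symm y * (e3.symm q)⁻¹ := by
          apply Subtype.ext
          rw [MulAut.conjNormal_apply]
          rfl
        rw [this, map_mul, map_mul, map_inv, e3.apply_symm_apply, e3.apply_symm_apply]
      refine dvd_trans ?_ (Subgroup.card_dvd_of_le hle)
      have h8 : Nat.card (QuaternionGroup 2) = 8 := by
        rw [Nat.card_eq_fintype_card, QuaternionGroup.card]
      have h9 : Ψ.ker ≤ zpowers (QuaternionGroup.a 2 : QuaternionGroup 2) := by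
        intro x hx
        have h10 : MulAut.conj x = 1 := hFi (by rw [map_one]; exact hx)
        have h11 := q8_center x (by
          intro y
          have := congrArg (fun α : MulAut (QuaternionGroup 2) => α y) h10
          simp only [MulAut.conj_apply, MulAut.one_apply] at this
          exact mul_inv_eq_iff_eq_mul.mp this)
        rcases h11.2 with h | h
        · rw [h]; exact one_mem _
        · rw [h]; exact mem_zpowers _
      have h12 : Nat.card Ψ.ker ∣ 2 := by
        have := Subgroup.card_dvd_of_le h9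
        rw [Nat.card_zpowers] at this
        refine this.trans ?_
        apply orderOf_dvd_of_pow_eq_one
        decide
      have h13 : Nat.card Ψ.ker * Nat.card Ψ.range = 8 := by
        rw [← h8, ← Subgroup.index_ker, Subgroup.card_mul_index]
      rcases (Nat.dvd_prime Nat.prime_two).mp h12 with h | h
      · rw [h, one_mul] at h13; rw [h13]; norm_num
      · rw [h] at h13
        have : Nat.card Ψ.range = 4 := by omega
        rw [this]
    have h3 : 3 ∣ Nat.card A.range := by
      by_contra h3
      apply hne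
      intro g
      refine ⟨3, ?_⟩
      have h5 : Nat.card A.range ∣ 8 := by
        have h6 : Nat.card A.range ∣ 3 * 8 := ⟨A.range.index, by rw [hmul]⟩
        have h7 : Nat.Coprime (Nat.card A.range) 3 :=
          ((Nat.Prime.coprime_iff_not_dvd Nat.prime_three).mpr h3).symm
        exact h7.dvd_of_dvd_mul_left h6
      have h6 : (⟨A g, ⟨g, rfl⟩⟩ : A.range) ^ 8 = 1 := by
        obtain ⟨c, hc⟩ := h5
        rw [hc, pow_mul, pow_card_eq_one', one_pow]
      have h7 : (A g) ^ 8 = 1 := congrArg Subtype.val h6
      rw [← map_pow, hA, ← hker, map_pow] at h7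
      exact h7
    have h12 : 12 ∣ Nat.card A.range := Nat.Coprime.mul_dvd_of_dvd_of_dvd (by norm_num) h4 h3
    obtain ⟨c, hc⟩ := h12
    refine ⟨c, ?_⟩
    rw [hc] at hmul
    have : 12 * (A.range.index * c) = 12 * 2 := by linarith
    omega

end CfsgLib.H6Zas
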