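import Cfsg.Agent.LibH6ZasN

/-! Uniqueness of the core with quotient `1, V₄, A₄, S₄, A₅, S₅`. -/

set_option autoImplicit false
set_option synthInstance.maxSize 2000

namespace CfsgLib.H6Zas

open Subgroup

/-- in a Z-group commuting involutions are equal -/
theorem zgroup_inv {X : Type*} [Group X] [Finite X] [IsZGroup X] {a b : X} (ha : a * a = 1) (hb : b * b = 1)
    (hab : a * b = b * a) (ha1 : a ≠ 1) (hb1 : b ≠ 1) : a = b := by
  classical
  haveI : Fact (Nat.Prime 2) := ⟨Nat.prime_two⟩
  have hp : IsPGroup 2 (closure {a, b}) := by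
    have key : ∀ x ∈ closure {a, b}, x * x = 1 ∧ x * a = a * x ∧ x * b = b * x := by
      intro x hx
      induction hx using closure_induction with
      | mem x hx =>
        rcases hx with rfl | hx
        · exact ⟨ha, rfl, hab⟩
        · rw [Set.mem_singleton_iff] at hx; subst hx; exact ⟨hb, hab.symm, rfl⟩
      | one => simp
      | mul x y hx hy ihx ihy =>
        have hxy : x * y = y * x := by
          have hx' : x ∈ centralizer (closure {a, b} : Set X) := by
            rw [centralizer_closure, mem_centralizer_iff]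
            intro t ht
            rcases ht with rfl | ht
            · exact ihx.2.1.symm
            · rw [Set.mem_singleton_iff] at ht; subst ht; exact ihx.2.2.symm
          exact ((mem_centralizer_iff.mp hx') y hy).symm
        refine ⟨?_, ?_, ?_⟩
        · calc x * y * (x * y) = x * (y * x) * y := by group
            _ = (x * x) * (y * y) := by rw [← hxy]; group
            _ = 1 := by rw [ihx.1, ihy.1, one_mul]
        · rw [mul_assoc, ihy.2.1, ← mul_assoc, ihx.2.1, mul_assoc]
        · rw [mul_assoc, ihy.2.2, ← mul_assoc, ihx.2.2, mul_assoc]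
      | inv x hx ih =>
        refine ⟨?_, ?_, ?_⟩
        · rw [← mul_inv_rev, ih.1, inv_one]
        · calc x⁻¹ * a = x⁻¹ * (a * x) * x⁻¹ := by group
            _ = a * x⁻¹ := by rw [← ih.2.1]; group
        · calc x⁻¹ * b = x⁻¹ * (b * x) * x⁻¹ := by group
            _ = b * x⁻¹ := by rw [← ih.2.2]; group
    intro x
    refine ⟨1, ?_⟩
    apply Subtype.ext
    rw [pow_one, pow_two]
    exact (key x x.2).1
  have hc : IsCyclic (closure {a, b}) := hp.isCyclic_of_isZGroup
  obtain ⟨g, hg⟩ := hc.exists_generator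
  have ma : a ∈ closure {a, b} := subset_closure (by simp)
  have mb : b ∈ closure {a, b} := subset_closure (by simp)
  have hcard : ∀ x : closure {a, b}, x * x = 1 := by
    intro x
    have := hp x
    -- exponent two
    have key : ∀ x ∈ closure {a, b}, x * x = 1 ∧ x * a = a * x ∧ x * b = b * x := by
      intro x hx
      induction hx using closure_induction with
      | mem x hx =>
        rcases hx with rfl | hx
        · exact ⟨ha, rfl, hab⟩
        · rw [Set.mem_singleton_iff] at hx; subst hx; exact ⟨hb, hab.symm, rfl⟩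
      | one => simp
      | mul x y hx hy ihx ihy =>
        have hxy : x * y = y * x := by
          have hx' : x ∈ centralizer (closure {a, b} : Set X) := by
            rw [centralizer_closure, mem_centralizer_iff]
            intro t ht
            rcases ht with rfl | ht
            · exact ihx.2.1.symm
            · rw [Set.mem_singleton_iff] at ht; subst ht; exact ihx.2.2.symm
          exact ((mem_centralizer_iff.mp hx') y hy).symm
        refine ⟨?_, ?_, ?_⟩
        · calc x * y * (x * y) = x * (y * x) * y := by group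
            _ = (x * x) * (y * y) := by rw [← hxy]; group
            _ = 1 := by rw [ihx.1, ihy.1, one_mul]
        · rw [mul_assoc, ihy.2.1, ← mul_assoc, ihx.2.1, mul_assoc]
        · rw [mul_assoc, ihy.2.2, ← mul_assoc, ihx.2.2, mul_assoc]
      | inv x hx ih =>
        refine ⟨?_, ?_, ?_⟩
        · rw [← mul_inv_rev, ih.1, inv_one]
        · calc x⁻¹ * a = x⁻¹ * (a * x) * x⁻¹ := by group
            _ = a * x⁻¹ := by rw [← ih.2.1]; group
        · calc x⁻¹ * b = x⁻¹ * (b * x) * x⁻¹ := by group
            _ = b * x⁻¹ := by rw [← ih.2.2]; group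
    exact Subtype.ext (key x x.2).1
  have hgen : ∀ x : closure {a, b}, x ≠ 1 → x = g := by
    intro x hx
    obtain ⟨k, hk⟩ := hg x
    have hk' : g ^ k = x := hk
    have hg2 : g ^ (2 : ℤ) = 1 := by rw [zpow_two, hcard]
    rcases Int.even_or_odd' k with ⟨m, hm | hm⟩
    · exfalso; apply hx
      rw [← hk', hm, zpow_mul, hg2, one_zpow]
    · rw [← hk', hm, zpow_add, zpow_mul, hg2, one_zpow, one_mul, zpow_one]
  have h1 := hgen ⟨a, ma⟩ (fun h => ha1 (congrArg Subtype.val h))
  have h2 := hgen ⟨b, mb⟩ (fun h => hb1 (congrArg Subtype.val h))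
  exact congrArg Subtype.val (h1.trans h2.symm)

/-! ### normal subgroups of the symmetric groups of degree 4 and 5 -/

theorem n4a : ∀ x : Equiv.Perm (Fin 4), x ≠ 1 → ∃ a : Equiv.Perm (Fin 4), Equiv.Perm.sign a = 1 ∧
    (a * x * a⁻¹ * x⁻¹) * (a * x * a⁻¹ * x⁻¹) = 1 ∧ a * x * a⁻¹ * x⁻¹ ≠ 1 := by decide +kernel

theorem n4b : ∀ x : Equiv.Perm (Fin 4), Equiv.Perm.sign x = 1 → x * x = 1 → x ≠ 1 →
    ∃ c : Equiv.Perm (Fin 4), Equiv.Perm.sign c = 1 ∧
    c * x * c⁻¹ * x = x * (c * x * c⁻¹) ∧ c * x * c⁻¹ ≠ x := by decide +kernel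

theorem n5a : ∀ x : Equiv.Perm (Fin 5), x ≠ 1 → ∃ a : Equiv.Perm (Fin 5), Equiv.Perm.sign a = 1 ∧
    T3 (a * x * a⁻¹ * x⁻¹) := by decide +kernel

theorem n5b : ∀ x : Equiv.Perm (Fin 5), T3 x → ∃ a : Equiv.Perm (Fin 5), Equiv.Perm.sign a = 1 ∧
    (x * (a * x * a⁻¹)) * (x * (a * x * a⁻¹)) = 1 ∧ x * (a * x * a⁻¹) ≠ 1 := by decide +kernel

theorem n5c : ∀ x : Equiv.Perm (Fin 5), Equiv.Perm.sign x = 1 → x * x = 1 → x ≠ 1 →
    ∃ c : Equiv.Perm (Fin 5), Equiv.Perm.sign c = 1 ∧
    c * x * c⁻¹ * x = x * (c * x * c⁻¹) ∧ c * x * c⁻¹ ≠ x := by decide +kernel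

end CfsgLib.H6Zas
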