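import Cfsg.Agent.LibH6ZasO

/-! Uniqueness of the core with quotient `1, V₄, A₄, S₄, A₅, S₅`. -/

set_option autoImplicit false
set_option synthInstance.maxSize 2000

namespace CfsgLib.H6Zas

open Subgroup

theorem nfin {X : Type*} [Group X] [Finite X] (K : Subgroup X) (hZ : IsZGroup K) {u c : X} (hu : u ∈ K)
    (hw : c * u * c⁻¹ ∈ K) (h1 : u * u = 1) (h2 : u ≠ 1) (h3 : c * u * c⁻¹ * u = u * (c * u * c⁻¹))
    (h4 : c * u * c⁻¹ ≠ u) : False := by
  have h5 := zgroup_inv (X := K) (a := ⟨_, hu⟩) (b := ⟨_, hw⟩) (Subtype.ext h1) (by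
      apply Subtype.ext
      show c * u * c⁻¹ * (c * u * c⁻¹) = 1
      have : c * u * c⁻¹ * (c * u * c⁻¹) = c * (u * u) * c⁻¹ := by group
      rw [this, h1, mul_one, mul_inv_cancel]) (Subtype.ext h3.symm)
    (fun h => h2 (congrArg Subtype.val h)) (fun h => h2 (conj_eq_one_iff.mp (congrArg Subtype.val h)))
  exact h4 (congrArg Subtype.val h5).symm

theorem n4 (K : Subgroup (Equiv.Perm (Fin 4))) (hK : ∀ a : Equiv.Perm (Fin 4), Equiv.Perm.sign a = 1 → ∀ x ∈ K, a * x * a⁻¹ ∈ K)
    (hZ : IsZGroup K) : K = ⊥ := by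
  by_contra hne
  obtain ⟨⟨x, hxK⟩, hx⟩ := Subgroup.ne_bot_iff_exists_ne_one.mp hne
  have hx1 : x ≠ 1 := fun h => hx (Subtype.ext h)
  obtain ⟨a, ha, h1, h2⟩ := n4a x hx1
  have hu : a * x * a⁻¹ * x⁻¹ ∈ K := mul_mem (hK a ha x hxK) (inv_mem hxK)
  have hs : Equiv.Perm.sign (a * x * a⁻¹ * x⁻¹) = 1 := by
    rw [map_mul, map_mul, map_mul, map_inv, map_inv, ha]
    simp
  obtain ⟨c, hc, h3, h4⟩ := n4b _ hs h1 h2
  exact nfin K hZ hu (hK c hc _ hu) h1 h2 h3 h4

theorem n5 (K : Subgroup (Equiv.Perm (Fin 5))) (hK : ∀ a : Equiv.Perm (Fin 5), Equiv.Perm.sign a = 1 → ∀ x ∈ K, a * x * a⁻¹ ∈ K)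
    (hZ : IsZGroup K) : K = ⊥ := by
  by_contra hne
  obtain ⟨⟨x, hxK⟩, hx⟩ := Subgroup.ne_bot_iff_exists_ne_one.mp hne
  have hx1 : x ≠ 1 := fun h => hx (Subtype.ext h)
  obtain ⟨a, ha, hT⟩ := n5a x hx1
  have hu : a * x * a⁻¹ * x⁻¹ ∈ K := mul_mem (hK a ha x hxK) (inv_mem hxK)
  generalize a * x * a⁻¹ * x⁻¹ = y at *
  obtain ⟨b, hb, h1, h2⟩ := n5b _ hT
  have hv := mul_mem hu (hK b hb _ hu)
  have hs : Equiv.Perm.sign (y * (b * y * b⁻¹)) = 1 := by
    have hy : Equiv.Perm.sign y = 1 := by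
      have h5 : y * y * y = 1 := hT.1
      have h6 := congrArg Equiv.Perm.sign h5
      rw [map_mul, map_mul, Equiv.Perm.sign_one] at h6
      rcases Int.units_eq_one_or (Equiv.Perm.sign y) with h7 | h7
      · exact h7
      · rw [h7] at h6; exact absurd h6 (by decide)
    rw [map_mul, map_mul, map_mul, map_inv, hb, hy]
    simp
  obtain ⟨c, hc, h3, h4⟩ := n5c _ hs h1 h2
  exact nfin K hZ hv (hK c hc _ hv) h1 h2 h3 h4

/-- quotient containing `A₄` or `A₅` -/
def Big {G : Type*} [Group G] (N : Subgroup G) : Prop :=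
  (∃ Θ : G →* Equiv.Perm (Fin 4), Θ.ker = N ∧ alternatingGroup (Fin 4) ≤ Θ.range) ∨
  (∃ Θ : G →* Equiv.Perm (Fin 5), Θ.ker = N ∧ alternatingGroup (Fin 5) ≤ Θ.range)

def Klein {G : Type*} [Group G] (N : Subgroup G) : Prop :=
  ∃ f : G →* DihedralGroup 2, Function.Surjective f ∧ f.ker = N

section
variable {G : Type*} [Group G] [Finite G]

theorem map_norm {n : ℕ} {Θ : G →* Equiv.Perm (Fin n)} (h : alternatingGroup (Fin n) ≤ Θ.range) (N : Subgroup G) [hN : N.Normal] :
    ∀ a : Equiv.Perm (Fin n), Equiv.Perm.sign a = 1 → ∀ x ∈ N.map Θ, a * x * a⁻¹ ∈ N.map Θ := by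
  rintro a ha _ ⟨y, hy, rfl⟩
  obtain ⟨g, rfl⟩ := h (Equiv.Perm.mem_alternatingGroup.mpr ha)
  refine ⟨g * y * g⁻¹, hN.conj_mem y hy g, ?_⟩
  rw [map_mul, map_mul, map_inv]

theorem zgroup_map {X : Type*} [Group X] [Finite X] (f : G →* X) (N : Subgroup G) [hZ : IsZGroup N] : IsZGroup (N.map f) :=
  IsZGroup.of_surjective (f := f.subgroupMap N) (f.subgroupMap_surjective N)

theorem Big.le {N₁ N₂ : Subgroup G} (h : Big N₁) [N₂.Normal] [IsZGroup N₂] : N₂ ≤ N₁ := by
  rcases h with ⟨Θ, rfl, h⟩ | ⟨Θ, rfl, h⟩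
  · have h1 := n4 (N₂.map Θ) (map_norm h N₂) (zgroup_map Θ N₂)
    intro x hx
    have : Θ x ∈ N₂.map Θ := ⟨x, hx, rfl⟩
    rw [h1, mem_bot] at this
    exact this
  · have h1 := n5 (N₂.map Θ) (map_norm h N₂) (zgroup_map Θ N₂)
    intro x hx
    have : Θ x ∈ N₂.map Θ := ⟨x, hx, rfl⟩
    rw [h1, mem_bot] at this
    exact this

theorem Big.index {N : Subgroup G} (h : Big N) : 12 ≤ N.index := by
  rcases h with ⟨Θ, rfl, h⟩ | ⟨Θ, rfl, h⟩
  · rw [index_ker, ← c4]
    exact Subgroup.card_le_of_le h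
  · rw [index_ker]
    have := Subgroup.card_le_of_le h
    rw [c5] at this
    omega

theorem d2card : Nat.card (DihedralGroup 2) = 4 := by
  rw [Nat.card_eq_fintype_card, DihedralGroup.card]

theorem Klein.index {N : Subgroup G} (h : Klein N) : N.index = 4 := by
  obtain ⟨f, hf, rfl⟩ := h
  rw [index_ker, MonoidHom.range_eq_top.mpr hf, card_top, d2card]

theorem d2facts : (∀ x y : DihedralGroup 2, x * y = y * x) ∧ (∀ x : DihedralGroup 2, x * x = 1) := by
  decide +kernel

theorem Klein.not_zgroup {N : Subgroup G} (h : Klein N) (hZ : IsZGroup G) : False := by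
  obtain ⟨f, hf, rfl⟩ := h
  haveI : IsZGroup (DihedralGroup 2) := IsZGroup.of_surjective hf
  have := zgroup_inv (X := DihedralGroup 2) (a := DihedralGroup.r 1) (b := DihedralGroup.sr 0)
    (d2facts.2 _) (d2facts.2 _) (d2facts.1 _ _) (by decide) (by decide)
  revert this
  decide

theorem card_two_gen {X : Type*} [Group X] [Finite X] (hc : ∀ x y : X, x * y = y * x) (h2 : ∀ x : X, x * x = 1) (a b : X) :
    Nat.card (closure {a, b}) ≤ 4 := by
  classical
  have hpow : ∀ (x : X) (n : ℕ), x ^ n = 1 ∨ x ^ n = x := by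
    intro x n
    induction n with
    | zero => left; rw [pow_zero]
    | succ n ih =>
      rw [pow_succ]
      rcases ih with h | h
      · right; rw [h, one_mul]
      · left; rw [h, h2]
  have key : ∀ x ∈ closure {a, b}, ∃ i j : Bool, x = (if i then a else 1) * (if j then b else 1) := by
    intro x hx
    induction hx using closure_induction with
    | mem x hx =>
      rcases hx with rfl | hx
      · exact ⟨true, false, by simp⟩
      · rw [Set.mem_singleton_iff] at hx; subst hx; exact ⟨false, true, by simp⟩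
    | one => exact ⟨false, false, by simp⟩
    | mul x y hx hy ihx ihy =>
      obtain ⟨i, j, rfl⟩ := ihx
      obtain ⟨k, l, rfl⟩ := ihy
      refine ⟨xor i k, xor j l, ?_⟩
      have e : ∀ p q r s : X, p * q * (r * s) = (p * r) * (q * s) := by
        intro p q r s
        calc p * q * (r * s) = p * (q * r) * s := by group
          _ = p * (r * q) * s := by rw [hc q r]
          _ = _ := by group
      rw [e]
      congr 1
      · cases i <;> cases k <;> simp [h2]
      · cases j <;> cases l <;> simp [h2]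
    | inv x hx ih =>
      obtain ⟨i, j, rfl⟩ := ih
      refine ⟨i, j, ?_⟩
      exact inv_eq_of_mul_eq_one_left (h2 _)
  let F : Bool × Bool → X := fun p => (if p.1 then a else 1) * (if p.2 then b else 1)
  have hsub : (closure {a, b} : Set X) ⊆ Set.range F := by
    intro x hx
    obtain ⟨i, j, h⟩ := key x hx
    exact ⟨(i, j), h.symm⟩
  have h3 : Nat.card (closure {a, b}) ≤ Nat.card (Set.range F) := Nat.card_mono (Set.toFinite _) hsub
  have h4 : Nat.card (Set.range F) ≤ Nat.card (Bool × Bool) :=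
    Nat.card_le_card_of_surjective (Set.rangeFactorization F) Set.rangeFactorization_surjective
  have h5 : Nat.card (Bool × Bool) = 4 := by rw [Nat.card_eq_fintype_card]; rfl
  omega

theorem quat_two_gen (m : ℕ) [NeZero m] : closure {QuaternionGroup.a 1, QuaternionGroup.xa 0} = (⊤ : Subgroup (QuaternionGroup m)) := by
  rw [eq_top_iff]
  intro x _
  haveI : NeZero (2 * m) := ⟨by have := NeZero.ne m; omega⟩
  have ha : (QuaternionGroup.a 1 : QuaternionGroup m) ∈ closure {(QuaternionGroup.a 1 : QuaternionGroup m), QuaternionGroup.xa 0} :=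
    subset_closure (by simp)
  have hx : (QuaternionGroup.xa 0 : QuaternionGroup m) ∈ closure {(QuaternionGroup.a 1 : QuaternionGroup m), QuaternionGroup.xa 0} :=
    subset_closure (by simp)
  cases x with
  | a i =>
    obtain ⟨k, rfl⟩ := ZMod.natCast_zmod_surjective i
    rw [← QuaternionGroup.a_one_pow]
    exact pow_mem ha k
  | xa i =>
    obtain ⟨k, rfl⟩ := ZMod.natCast_zmod_surjective i
    have : (QuaternionGroup.xa (k : ZMod (2 * m)) : QuaternionGroup m) = QuaternionGroup.xa 0 * (QuaternionGroup.a 1) ^ k := by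
      rw [QuaternionGroup.a_one_pow, QuaternionGroup.xa_mul_a, zero_add]
    rw [this]
    exact mul_mem hx (pow_mem ha k)

/-- a 2-subgroup of an fpf group is generated by two elements -/
theorem IsFpf.two_gen (hF : IsFpf G) (P : Subgroup G) (hP : IsPGroup 2 P) : ∃ a b : P, closure {a, b} = ⊤ := by
  rcases hF.two_sub P hP with h | ⟨n, ⟨e⟩⟩
  · obtain ⟨g, hg⟩ := h.exists_generator
    refine ⟨g, g, ?_⟩
    rw [eq_top_iff]
    intro x _
    rw [Set.pair_eq_singleton, ← zpowers_eq_closure]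
    exact hg x
  · haveI : NeZero (2 ^ n) := ⟨by positivity⟩
    refine ⟨e.symm (QuaternionGroup.a 1), e.symm (QuaternionGroup.xa 0), ?_⟩
    have h1 := congrArg (Subgroup.map e.symm.toMonoidHom) (quat_two_gen (2 ^ n))
    rw [MonoidHom.map_closure, Set.image_pair] at h1
    have h2 : Subgroup.map e.symm.toMonoidHom ⊤ = ⊤ := by
      rw [← MonoidHom.range_eq_map]
      exact MonoidHom.range_eq_top.mpr e.symm.surjective
    rw [h2] at h1
    exact h1

theorem IsFpf.klein_unique (hF : IsFpf G) {N₁ N₂ : Subgroup G} (h₁ : Klein N₁) (h₂ : Klein N₂) : N₁ = N₂ := by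
  classical
  haveI : Fact (Nat.Prime 2) := ⟨Nat.prime_two⟩
  have hi₁ := h₁.index
  have hi₂ := h₂.index
  obtain ⟨f₁, hf₁, rfl⟩ := h₁
  obtain ⟨f₂, hf₂, rfl⟩ := h₂
  let f : G →* DihedralGroup 2 × DihedralGroup 2 := f₁.prod f₂
  have hker : f.ker = f₁.ker ⊓ f₂.ker := MonoidHom.ker_prod f₁ f₂
  have hc : ∀ x y : DihedralGroup 2 × DihedralGroup 2, x * y = y * x := fun x y =>
    Prod.ext (d2facts.1 _ _) (d2facts.1 _ _)
  have h2 : ∀ x : DihedralGroup 2 × DihedralGroup 2, x * x = 1 := fun x => Prod.ext (d2facts.2 _) (d2facts.2 _)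
  obtain ⟨T⟩ : Nonempty (Sylow 2 G) := inferInstance
  obtain ⟨a, b, hab⟩ := hF.two_gen T T.isPGroup'
  have hmap : (T : Subgroup G).map f = f.range := by
    apply le_antisymm (map_le_range _ _)
    have hd : ((T : Subgroup G).map f.rangeRestrict).index ∣ (T : Subgroup G).index :=
      Subgroup.index_map_dvd _ f.rangeRestrict_surjective
    have hodd : ¬ 2 ∣ (T : Subgroup G).index := T.not_dvd_index
    have hp : Nat.card (DihedralGroup 2 × DihedralGroup 2) = 2 ^ 4 := by
      rw [Nat.card_prod, d2card]; norm_num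
    have hd2 : ((T : Subgroup G).map f.rangeRestrict).index ∣ 2 ^ 4 := by
      rw [← hp]
      exact (Subgroup.index_dvd_card _).trans (Subgroup.card_subgroup_dvd_card _)
    have h1 : ((T : Subgroup G).map f.rangeRestrict).index = 1 := by
      obtain ⟨k, -, hk⟩ := (Nat.dvd_prime_pow Nat.prime_two).mp hd2
      rcases Nat.eq_zero_or_pos k with h0 | h0
      · rw [hk, h0, pow_zero]
      · exfalso
        apply hodd
        refine dvd_trans ?_ hd
        rw [hk]
        exact dvd_pow_self 2 h0.ne'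
    rw [index_eq_one] at h1
    rintro _ ⟨g, rfl⟩
    have h3 : f.rangeRestrict g ∈ (T : Subgroup G).map f.rangeRestrict := by rw [h1]; exact mem_top _
    obtain ⟨t, ht, hte⟩ := h3
    exact ⟨t, ht, congrArg Subtype.val hte⟩
  have hcl : (T : Subgroup G).map f = closure {f a, f b} := by
    have h1 : (T : Subgroup G).map f = (⊤ : Subgroup (T : Subgroup G)).map (f.comp (T : Subgroup G).subtype) := by
      rw [← Subgroup.map_map, ← MonoidHom.range_eq_map, Subgroup.range_subtype]
    rw [h1, ← hab, MonoidHom.map_closure, Set.image_pair]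
    rfl
  have hcard : f.ker.index ≤ 4 := by
    rw [index_ker, ← hmap, hcl]
    exact card_two_gen hc h2 _ _
  have hle1 : f.ker ≤ f₁.ker := by rw [hker]; exact inf_le_left
  have hle2 : f.ker ≤ f₂.ker := by rw [hker]; exact inf_le_right
  have key : ∀ N : Subgroup G, f.ker ≤ N → N.index = 4 → f.ker = N := by
    intro N hle hN
    have h1 := relIndex_mul_index hle
    rw [hN] at h1
    have h3 : f.ker.index ≠ 0 := index_ne_zero_of_finite
    have h4 : f.ker.relIndex N = 1 := by
      have h5 : 0 < f.ker.relIndex N := by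
        rcases Nat.eq_zero_or_pos (f.ker.relIndex N) with h | h
        · rw [h, zero_mul] at h1; exact absurd h1.symm h3
        · exact h
      have h6 : f.ker.relIndex N * 4 ≤ 4 := by rw [h1]; exact hcard
      omega
    exact le_antisymm hle (relIndex_eq_one.mp h4)
  rw [← key _ hle1 hi₁, ← key _ hle2 hi₂]

theorem IsFpf.core_unique (hF : IsFpf G) {N₁ N₂ : Subgroup G} [N₁.Normal] [N₂.Normal] [IsZGroup N₁] [IsZGroup N₂]
    (h₁ : N₁ = ⊤ ∨ Klein N₁ ∨ Big N₁) (h₂ : N₂ = ⊤ ∨ Klein N₂ ∨ Big N₂) : N₁ = N₂ := by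
  have htop : ∀ N : Subgroup G, IsZGroup (⊤ : Subgroup G) → (N = ⊤ ∨ Klein N ∨ Big N) → ⊤ = N := by
    intro N hZ h
    rcases h with h | h | h
    · exact h.symm
    · exfalso
      apply h.not_zgroup
      exact IsZGroup.of_injective (f := (Subgroup.topEquiv.symm : G ≃* (⊤ : Subgroup G)).toMonoidHom)
        (Subgroup.topEquiv.symm).injective
    · exact le_antisymm h.le le_top
  rcases h₁ with rfl | h₁ | h₁
  · exact htop N₂ inferInstance h₂
  · rcases h₂ with rfl | h₂ | h₂
    · exact (htop N₁ inferInstance (Or.inr (Or.inl h₁))).symm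
    · exact hF.klein_unique h₁ h₂
    · exfalso
      have h3 := Subgroup.index_antitone (h₂.le (N₂ := N₁))
      have h4 := h₂.index
      rw [h₁.index] at h3
      omega
  · rcases h₂ with rfl | h₂ | h₂
    · exact (htop N₁ inferInstance (Or.inr (Or.inr h₁))).symm
    · exfalso
      have h3 := Subgroup.index_antitone (h₁.le (N₂ := N₂))
      have h4 := h₁.index
      rw [h₂.index] at h3
      omega
    · exact le_antisymm h₂.le h₁.le

theorem IsFpf.core_exists (hF : IsFpf G) : ∃ N : Subgroup G, N.Normal ∧ IsZGroup N ∧ (N = ⊤ ∨ Klein N ∨ Big N) := by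
  by_cases hs : Group.IsSolvable G
  · obtain ⟨N, h1, h2, h3⟩ := hF.ex_solvable
    refine ⟨N, h1, h2, ?_⟩
    rcases h3 with h3 | h3 | h3
    · exact Or.inl h3
    · exact Or.inr (Or.inl h3)
    · exact Or.inr (Or.inr (Or.inl h3))
  · obtain ⟨z, H, Θ, Z, hH, he, hzH, hcH, hmap, hk, hker, h4, hzg⟩ := hF.data5 hs
    refine ⟨centralizer (H : Set G), ?_, hzg, Or.inr (Or.inr (Or.inr ⟨Θ, hker, ?_⟩))⟩
    · rw [← hker]; infer_instance
    · rw [← hmap]; exact map_le_range _ _

end

/-- a homomorphism onto `Aₙ` or `Sₙ` -/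
theorem big_iff {n : ℕ} (hn : 2 ≤ n) {G : Type*} [Group G] [Finite G] (N : Subgroup G) :
    (∃ Θ : G →* Equiv.Perm (Fin n), Θ.ker = N ∧ alternatingGroup (Fin n) ≤ Θ.range) ↔
    (∃ f : G →* alternatingGroup (Fin n), Function.Surjective f ∧ f.ker = N) ∨
    (∃ f : G →* Equiv.Perm (Fin n), Function.Surjective f ∧ f.ker = N) := by
  constructor
  · rintro ⟨Θ, hker, h⟩
    haveI : Nontrivial (Fin n) := Fin.nontrivial_iff_two_le.mpr hn
    have h2 : (alternatingGroup (Fin n)).index = 2 := alternatingGroup.index_eq_two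
    have h3 := relIndex_mul_index h
    rw [h2] at h3
    have h4 : Θ.range.index ∣ 2 := ⟨_, by rw [mul_comm]; exact h3.symm⟩
    rcases (Nat.dvd_prime Nat.prime_two).mp h4 with h5 | h5
    · right
      exact ⟨Θ, MonoidHom.range_eq_top.mp (index_eq_one.mp h5), hker⟩
    · left
      have h6 : (alternatingGroup (Fin n)).relIndex Θ.range = 1 := by
        rw [h5] at h3; omega
      have h7 : Θ.range ≤ alternatingGroup (Fin n) := relIndex_eq_one.mp h6
      refine ⟨Θ.codRestrict (alternatingGroup (Fin n)) (fun g => h7 ⟨g, rfl⟩), ?_, ?_⟩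
      · rintro ⟨σ, hσ⟩
        obtain ⟨g, hg⟩ := h hσ
        exact ⟨g, Subtype.ext hg⟩
      · rw [← hker]
        ext g
        rw [MonoidHom.mem_ker, MonoidHom.mem_ker]
        constructor
        · intro hh; exact congrArg Subtype.val hh
        · intro hh; exact Subtype.ext hh
  · rintro (⟨f, hf, hker⟩ | ⟨f, hf, hker⟩)
    · refine ⟨(alternatingGroup (Fin n)).subtype.comp f, ?_, ?_⟩
      · rw [← hker]
        ext g
        rw [MonoidHom.mem_ker, MonoidHom.mem_ker]
        constructor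
        · intro hh; exact Subtype.ext hh
        · intro hh; exact congrArg Subtype.val hh
      · intro σ hσ
        obtain ⟨g, hg⟩ := hf ⟨σ, hσ⟩
        exact ⟨g, congrArg Subtype.val hg⟩
    · exact ⟨f, hker, by rw [MonoidHom.range_eq_top.mpr hf]; exact le_top⟩

end CfsgLib.H6Zas
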