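import Cfsg.Agent.LibH6ZasP
import Cfsg.Agent.S4337

/-! Automorphism groups of solvable fpf groups are solvable. -/

set_option autoImplicit false
set_option synthInstance.maxSize 2000

namespace CfsgLib.H6Zas

open Subgroup

theorem perfect_to_solvable {Y S : Type*} [Group Y] [Group S] [Group.IsSolvable S] (hp : commutator Y = ⊤)
    (f : Y →* S) (y : Y) : f y = 1 := by
  have h1 : commutator f.range = ⊤ := perfect_surj hp f.rangeRestrict f.rangeRestrict_surjective
  have h2 := perfect_solvable h1 (f.rangeRestrict y)
  exact congrArg Subtype.val h2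

theorem solv_of_perfect {X : Type*} [Group X] [Finite X] (h : ∀ Y : Subgroup X, commutator Y = ⊤ → Y = ⊥) :
    Group.IsSolvable X := by
  by_contra hns
  obtain ⟨S, -, h1, h2⟩ := exists_perfect hns
  exact h1 (h S h2)

/-- restriction of automorphisms to a characteristic subgroup -/
def resAut {H : Type*} [Group H] (K : Subgroup H) [hK : K.Characteristic] : MulAut H →* MulAut K where
  toFun α :=
    { toFun := fun k => ⟨α k, by
        have := hK.fixed α
        have h1 : (k : H) ∈ K.comap α.toMonoidHom := by rw [this]; exact k.2
        exact h1⟩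
      invFun := fun k => ⟨α.symm k, by
        have := hK.fixed α.symm
        have h1 : (k : H) ∈ K.comap α.symm.toMonoidHom := by rw [this]; exact k.2
        exact h1⟩
      left_inv := fun k => Subtype.ext (α.symm_apply_apply k)
      right_inv := fun k => Subtype.ext (α.apply_symm_apply k)
      map_mul' := fun a b => Subtype.ext (map_mul α (a : H) b) }
  map_one' := by ext k; rfl
  map_mul' := by intro a b; ext k; rfl

theorem resAut_apply {H : Type*} [Group H] (K : Subgroup H) [hK : K.Characteristic] (α : MulAut H) (k : K) :
    ((resAut K α k : K) : H) = α k := rfl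

/-- the automorphism induced on the quotient by a characteristic subgroup -/
def quotAut {H : Type*} [Group H] (K : Subgroup H) [hK : K.Characteristic] : MulAut H →* MulAut (H ⧸ K) where
  toFun α := QuotientGroup.congr K K α (by
    have := Subgroup.characteristic_iff_map_eq.mp hK α
    exact this)
  map_one' := by
    ext x
    induction x using QuotientGroup.induction_on with
    | H x => rfl
  map_mul' := by
    intro a b
    ext x
    induction x using QuotientGroup.induction_on with
    | H x => rfl

theorem quotAut_apply {H : Type*} [Group H] (K : Subgroup H) [hK : K.Characteristic] (α : MulAut H) (x : H) :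
    quotAut K α (x : H ⧸ K) = ((α x : H) : H ⧸ K) := rfl

theorem solv_aut_ext {H : Type*} [Group H] [Finite H] (K : Subgroup H) [hK : K.Characteristic] [Group.IsSolvable K]
    [Group.IsSolvable (MulAut K)] [Group.IsSolvable (MulAut (H ⧸ K))] : Group.IsSolvable (MulAut H) := by
  haveI : Finite (MulAut H) := inferInstance
  apply solv_of_perfect
  intro Y hY
  have h1 : ∀ y ∈ Y, ∀ k ∈ K, y k = k := by
    intro y hy k hk
    have := perfect_to_solvable hY ((resAut K).comp Y.subtype) ⟨y, hy⟩
    have h2 := congrArg (fun α : MulAut K => ((α ⟨k, hk⟩ : K) : H)) this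
    exact h2
  have h2 : ∀ y ∈ Y, ∀ h : H, h * (y h)⁻¹ ∈ K := by
    intro y hy h
    have := perfect_to_solvable hY ((quotAut K).comp Y.subtype) ⟨y, hy⟩
    have h3 : ((y h : H) : H ⧸ K) = (h : H ⧸ K) := by
      have h4 := congrArg (fun α : MulAut (H ⧸ K) => α (h : H ⧸ K)) this
      exact h4
    rw [QuotientGroup.eq] at h3
    have h4 := (inferInstance : K.Normal).conj_mem _ h3 h
    have : h * ((y h)⁻¹ * h) * h⁻¹ = h * (y h)⁻¹ := by group
    rwa [this] at h4
  rw [eq_bot_iff]
  intro y hy
  rw [mem_bot]
  ext h
  rw [MulAut.one_apply]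
  let δ : Y →* K :=
    { toFun := fun y => ⟨h * ((y : MulAut H) h)⁻¹, h2 y y.2 h⟩
      map_one' := by apply Subtype.ext; simp
      map_mul' := by
        intro a b
        apply Subtype.ext
        show h * (((a : MulAut H) * (b : MulAut H)) h)⁻¹ = h * ((a : MulAut H) h)⁻¹ * (h * ((b : MulAut H) h)⁻¹)
        rw [MulAut.mul_apply]
        have h3 : (b : MulAut H) h = (h * ((b : MulAut H) h)⁻¹)⁻¹ * h := by group
        have h4 : (a : MulAut H) ((b : MulAut H) h) = (h * ((b : MulAut H) h)⁻¹)⁻¹ * (a : MulAut H) h := by
          conv_lhs => rw [h3]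
          rw [map_mul, h1 a a.2 _ (inv_mem (h2 b b.2 h))]
        rw [h4]; group }
  have h5 := congrArg Subtype.val (perfect_to_solvable hY δ ⟨y, hy⟩)
  have h6 : h * (y h)⁻¹ = 1 := h5
  exact (mul_inv_eq_one.mp h6).symm

theorem solv_aut_cyclic {X : Type*} [Group X] [Finite X] [IsCyclic X] : Group.IsSolvable (MulAut X) := by
  let e := IsCyclic.mulAutMulEquiv X
  have : Group.IsSolvable (ZMod (Nat.card X))ˣ := inferInstance
  exact solvable_of_solvable_injective (f := e.toMonoidHom) e.injective

theorem solv_aut_small {X : Type*} [Group X] [Finite X] (h : Nat.card X ≤ 4) : Group.IsSolvable (MulAut X) := by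
  haveI := Cfsg.Agent.S4337.perm_solvable X h
  refine solvable_of_solvable_injective (f := MulAut.toPerm X) ?_
  intro a b hab
  ext x
  exact congrArg (fun σ : Equiv.Perm X => σ x) hab

theorem solv_aut_ab {A : Type*} [Group A] [Finite A] (hc : ∀ a b : A, a * b = b * a)
    (h : ∀ (p : ℕ) (_ : Fact p.Prime) (P : Sylow p A), Group.IsSolvable (MulAut P)) : Group.IsSolvable (MulAut A) := by
  apply solv_of_perfect
  intro Y hY
  let F : Subgroup A :=
    { carrier := {a | ∀ y ∈ Y, y a = a}
      one_mem' := fun y _ => map_one y
      mul_mem' := by intro a b ha hb y hy; rw [map_mul, ha y hy, hb y hy]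
      inv_mem' := by intro a ha y hy; rw [map_inv, ha y hy] }
  have hF : F = ⊤ := by
    rw [← index_eq_one]
    by_contra hne
    obtain ⟨p, hp, hpd⟩ := Nat.exists_prime_and_dvd hne
    haveI : Fact p.Prime := ⟨hp⟩
    obtain ⟨P⟩ : Nonempty (Sylow p A) := inferInstance
    have hPn : (P : Subgroup A).Normal := ⟨fun x hx g => by rw [hc g x, mul_inv_cancel_right]; exact hx⟩
    haveI := P.characteristic_of_normal hPn
    haveI := h p inferInstance P
    have hle : (P : Subgroup A) ≤ F := by
      intro x hx y hy
      have := perfect_to_solvable hY ((resAut (P : Subgroup A)).comp Y.subtype) ⟨y, hy⟩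
      exact congrArg (fun α : MulAut (P : Subgroup A) => ((α ⟨x, hx⟩ : (P : Subgroup A)) : A)) this
    exact P.not_dvd_index (hpd.trans (index_dvd_of_le hle))
  rw [eq_bot_iff]
  intro y hy
  rw [mem_bot]
  ext a
  have : a ∈ F := by rw [hF]; exact mem_top a
  exact this y hy

/-- abelian images of quaternion groups have order at most 4 -/
theorem quat_ab_card {m : ℕ} [NeZero m] {B : Type*} [Group B] [Finite B] (hc : ∀ a b : B, a * b = b * a)
    (f : QuaternionGroup m →* B) (hf : Function.Surjective f) : Nat.card B ≤ 4 := by
  classical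
  set x := f (QuaternionGroup.a 1) with hx
  set y := f (QuaternionGroup.xa 0) with hy
  have hx2 : x * x = 1 := by
    have h1 : (QuaternionGroup.a 1 : QuaternionGroup m) * QuaternionGroup.xa 0 * QuaternionGroup.a 1 = QuaternionGroup.xa 0 := by
      rw [QuaternionGroup.a_mul_xa, QuaternionGroup.xa_mul_a]
      congr 1; ring
    have h2 := congrArg f h1
    rw [map_mul, map_mul, ← hx, ← hy] at h2
    have h3 : (x * x) * y = 1 * y := by
      rw [one_mul]
      calc x * x * y = x * (x * y) := by group
        _ = x * (y * x) := by rw [hc x y]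
        _ = x * y * x := by group
        _ = y := h2
    exact mul_right_cancel h3
  have hxp : ∀ n : ℕ, x ^ n = 1 ∨ x ^ n = x := by
    intro n
    induction n with
    | zero => left; rw [pow_zero]
    | succ n ih =>
      rw [pow_succ]
      rcases ih with h | h
      · right; rw [h, one_mul]
      · left; rw [h, hx2]
  let F : Bool × Bool → B := fun p => (if p.1 then y else 1) * (if p.2 then x else 1)
  haveI : NeZero (2 * m) := ⟨by have := NeZero.ne m; omega⟩
  have hF : Function.Surjective F := by
    intro b
    obtain ⟨q, rfl⟩ := hf b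
    cases q with
    | a i =>
      obtain ⟨k, rfl⟩ := ZMod.natCast_zmod_surjective i
      rw [← QuaternionGroup.a_one_pow, map_pow, ← hx]
      rcases hxp k with h | h
      · exact ⟨(false, false), by simp [F, h]⟩
      · exact ⟨(false, true), by simp [F, h]⟩
    | xa i =>
      obtain ⟨k, rfl⟩ := ZMod.natCast_zmod_surjective i
      have : (QuaternionGroup.xa (k : ZMod (2 * m)) : QuaternionGroup m) = QuaternionGroup.xa 0 * (QuaternionGroup.a 1) ^ k := by
        rw [QuaternionGroup.a_one_pow, QuaternionGroup.xa_mul_a, zero_add]
      rw [this, map_mul, map_pow, ← hx, ← hy]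
      rcases hxp k with h | h
      · exact ⟨(true, false), by simp [F, h]⟩
      · exact ⟨(true, true), by simp [F, h]⟩
  have h5 : Nat.card (Bool × Bool) = 4 := by rw [Nat.card_eq_fintype_card]; rfl
  rw [← h5]
  exact Nat.card_le_card_of_surjective F hF

/-- **the automorphism group of a solvable fpf group is solvable** -/
theorem IsFpf.aut_solvable_aux (n : ℕ) : ∀ {H : Type*} [Group H] [Finite H], Nat.card H = n → IsFpf H →
    Group.IsSolvable H → Group.IsSolvable (MulAut H) := by
  induction n using Nat.strong_induction_on with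
  | _ n ih =>
  intro H _ _ hn hF hs
  rcases subsingleton_or_nontrivial H with hsub | hnt
  · haveI : Subsingleton (MulAut H) := ⟨fun a b => by ext x; exact Subsingleton.elim _ _⟩
    infer_instance
  have hlt := IsSolvable.commutator_lt_top_of_nontrivial H
  have hcard : Nat.card (commutator H) < n := by
    rw [← hn]
    have h1 : Nat.card (commutator H) ≠ Nat.card H := by
      intro h
      exact hlt.ne (Subgroup.eq_top_of_card_eq _ h)
    exact lt_of_le_of_ne (Subgroup.card_le_card_group _) h1
  haveI : Group.IsSolvable (commutator H) := inferInstance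
  haveI := ih _ hcard (H := commutator H) rfl (hF.sub _) inferInstance
  have hab : ∀ a b : H ⧸ commutator H, a * b = b * a := fun a b => mul_comm (G := Abelianization H) a b
  haveI : Group.IsSolvable (MulAut (H ⧸ commutator H)) := by
    apply solv_aut_ab hab
    intro p hp P
    obtain ⟨T, hT⟩ := Sylow.mapSurjective_surjective (QuotientGroup.mk'_surjective (commutator H)) p P
    have hPT : (P : Subgroup (H ⧸ commutator H)) = (T : Subgroup H).map (QuotientGroup.mk' (commutator H)) := by
      rw [← hT]; rfl
    have hgs := (QuotientGroup.mk' (commutator H)).subgroupMap_surjective (T : Subgroup H)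
    have hcyc : IsCyclic (T : Subgroup H) → Group.IsSolvable (MulAut (P : Subgroup (H ⧸ commutator H))) := by
      intro hc
      haveI : IsCyclic (P : Subgroup (H ⧸ commutator H)) := by
        rw [hPT]; exact isCyclic_of_surjective _ hgs
      exact solv_aut_cyclic
    by_cases hp2 : p = 2
    · subst hp2
      rcases hF.two_sub T T.isPGroup' with hc | ⟨m, ⟨e⟩⟩
      · exact hcyc hc
      · haveI : NeZero (2 ^ m) := ⟨by positivity⟩
        apply solv_aut_small
        rw [hPT]
        refine quat_ab_card (m := 2 ^ m) ?_ (((QuotientGroup.mk' (commutator H)).subgroupMap (T : Subgroup H)).comp e.symm.toMonoidHom)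
          (hgs.comp e.symm.surjective)
        intro a b
        exact Subtype.ext (hab _ _)
    · exact hcyc (hF.cyclic_odd hp.out hp2 T T.isPGroup')
  exact solv_aut_ext (commutator H)

theorem IsFpf.aut_solvable {H : Type*} [Group H] [Finite H] (hF : IsFpf H) (hs : Group.IsSolvable H) :
    Group.IsSolvable (MulAut H) := IsFpf.aut_solvable_aux _ rfl hF hs

end CfsgLib.H6Zas
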