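import Cfsg.Agent.LibH6ZasQ
import Cfsg.Agent.S4115
import Cfsg.Agent.LibSolvBasic

/-! TI Hall subgroups in separable groups. -/

set_option autoImplicit false
set_option synthInstance.maxSize 2000

namespace CfsgLib.H6Zas

open Subgroup CfsgLib.Coprime

universe u

theorem relIndex_dvd_of_normal_right {G : Type u} [Group G] [Finite G] (H B : Subgroup G) [B.Normal] :
    H.relIndex B ∣ H.index := by
  have h0 : H ≤ normalizer (B : Set G) := by rw [normalizer_eq_top]; exact le_top
  have h1 := card_sup_mul_card_inf h0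
  have h2 := card_mul_relIndex (le_sup_left : H ≤ H ⊔ B)
  have h3 := card_mul_relIndex (inf_le_right : H ⊓ B ≤ B)
  rw [inf_relIndex_right] at h3
  rw [← h2, ← h3] at h1
  have h4 : H.relIndex (H ⊔ B) = H.relIndex B := by
    have hpos : 0 < Nat.card H * Nat.card (H ⊓ B : Subgroup G) := Nat.mul_pos Nat.card_pos Nat.card_pos
    apply Nat.eq_of_mul_eq_mul_left hpos
    linarith
  rw [← h4]
  exact relIndex_dvd_index_of_le le_sup_left

theorem core_facts {G : Type u} [Group G] [Finite G] (H O : Subgroup G)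
    (hO : O = sSup {K : Subgroup G | K.Normal ∧ (Nat.card K).Coprime (Nat.card H)}) :
    O.Normal ∧ (Nat.card O).Coprime (Nat.card H) ∧
      ∀ K : Subgroup G, K.Normal → (Nat.card K).Coprime (Nat.card H) → K ≤ O := by
  have h1 : O ∈ {K : Subgroup G | K.Normal ∧ (Nat.card K).Coprime (Nat.card H)} := by
    rw [hO]
    apply CfsgLib.Cores.sSup_mem_of_supClosed
    · exact ⟨inferInstance, by simp⟩
    · rintro A ⟨hA, hA'⟩ B ⟨hB, hB'⟩
      haveI := hA
      haveI := hB
      exact ⟨inferInstance, Nat.Coprime.coprime_dvd_left (CfsgLib.Cores.card_sup_dvd_of_normal A B) (hA'.mul_left hB')⟩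
  exact ⟨h1.1, h1.2, fun K hK hK' => by rw [hO]; exact le_sSup ⟨hK, hK'⟩⟩

/-- the first two claims -/
theorem ti_sep {G : Type u} [Group G] [Finite G] (H : Subgroup G)
    (hTI : Cfsg.IsTISubset (H : Set G)) (hnn : ¬ H.Normal)
    (hHall : (Nat.card H).Coprime (H.subgroupOf (Subgroup.normalizer (H : Set G))).index)
    (hsep : ∃ (n : ℕ) (M : Fin (n + 1) → Subgroup G), M 0 = ⊥ ∧ M (Fin.last n) = ⊤ ∧ Monotone M ∧ (∀ i, (M i).Normal) ∧
      ∀ i : Fin n, (∀ q : ℕ, q.Prime → q ∣ (M i.castSucc).relIndex (M i.succ) → q ∣ Nat.card H) ∨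
        ((M i.castSucc).relIndex (M i.succ)).Coprime (Nat.card H))
    (O : Subgroup G) (hO : O = sSup {K : Subgroup G | K.Normal ∧ (Nat.card K).Coprime (Nat.card H)}) :
    O ⊔ Subgroup.normalizer (H : Set G) = ⊤ ∧ (O ⊔ H).Normal := by
  classical
  have hHG := CfsgLib.H6.hall_of_TI hTI hHall
  obtain ⟨hON, hOc, hOm⟩ := core_facts H O hO
  haveI := hON
  have hH1 : H ≠ ⊥ := by
    rintro rfl
    exact hnn inferInstance
  have hcard1 : Nat.card H ≠ 1 := fun h => hH1 (Subgroup.card_eq_one.mp h)
  have hOtop : O ≠ ⊤ := by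
    intro h
    rw [h, Subgroup.card_top] at hOc
    have h2 : Nat.card H ∣ Nat.card G := Subgroup.card_subgroup_dvd_card H
    exact hcard1 (Nat.Coprime.eq_one_of_dvd hOc.symm h2)
  obtain ⟨n, M, hM0, hMl, hMm, hMn, hM⟩ := hsep
  obtain ⟨i, hi1, hi2⟩ : ∃ i : Fin n, M i.castSucc ≤ O ∧ ¬ M i.succ ≤ O := by
    by_contra hno
    push Not at hno
    have h : ∀ i : Fin (n + 1), M i ≤ O := by
      intro i
      induction i using Fin.induction with
      | zero => rw [hM0]; exact bot_le
      | succ i ih => exact hno i ih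
    apply hOtop
    rw [eq_top_iff, ← hMl]
    exact h _
  set A := M i.castSucc with hA
  set B := M i.succ with hB
  haveI hAn : A.Normal := hMn _
  haveI hBn : B.Normal := hMn _
  have hAB : A ≤ B := hMm (Fin.castSucc_lt_succ).le
  have hABc := card_mul_relIndex hAB
  have hAc : (Nat.card A).Coprime (Nat.card H) := Nat.Coprime.coprime_dvd_left (Subgroup.card_dvd_of_le hi1) hOc
  have hpi : ∀ q : ℕ, q.Prime → q ∣ A.relIndex B → q ∣ Nat.card H := by
    rcases hM i with h | h
    · exact h
    · exfalso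
      apply hi2
      apply hOm B hBn
      rw [← hABc]
      exact hAc.mul_left h
  -- B = A ⊔ (B ⊓ H)
  have hBH : H.relIndex B ∣ H.index := relIndex_dvd_of_normal_right H B
  have hBHc : (Nat.card H).Coprime (H.relIndex B) := Nat.Coprime.coprime_dvd_right hBH hHG
  have hD : B ≤ A ⊔ (B ⊓ H) := by
    have hle : A ⊔ (B ⊓ H) ≤ B := sup_le hAB inf_le_left
    rw [← relIndex_eq_one]
    by_contra hne
    obtain ⟨q, hq, hqd⟩ := Nat.exists_prime_and_dvd hne
    have h1 : (A ⊔ (B ⊓ H)).relIndex B ∣ A.relIndex B := relIndex_dvd_of_le_left _ le_sup_left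
    have h2 : (A ⊔ (B ⊓ H)).relIndex B ∣ (B ⊓ H).relIndex B := relIndex_dvd_of_le_left _ le_sup_right
    rw [inf_relIndex_left] at h2
    have h3 := hpi q hq (hqd.trans h1)
    have h4 := hqd.trans h2
    exact hq.one_lt.ne' (Nat.Coprime.eq_one_of_dvd (Nat.Coprime.coprime_dvd_left h3 hBHc) h4)
  have hBH1 : B ⊓ H ≠ ⊥ := by
    intro h
    rw [h, sup_bot_eq] at hD
    exact hi2 (hD.trans hi1)
  obtain ⟨p, hp, hpd⟩ := Nat.exists_prime_and_dvd (fun h => hBH1 (Subgroup.card_eq_one.mp h) : Nat.card (B ⊓ H : Subgroup G) ≠ 1)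
  haveI : Fact p.Prime := ⟨hp⟩
  have hpH : p ∣ Nat.card H := hpd.trans (Subgroup.card_dvd_of_le inf_le_right)
  obtain ⟨P₀⟩ : Nonempty (Sylow p (B ⊓ H : Subgroup G)) := inferInstance
  set P' : Subgroup G := (P₀ : Subgroup (B ⊓ H : Subgroup G)).map (B ⊓ H : Subgroup G).subtype with hP'
  have hP'le : P' ≤ B ⊓ H := map_subtype_le _
  have hP'B : P' ≤ B := hP'le.trans inf_le_left
  have hP'H : P' ≤ H := hP'le.trans inf_le_right
  have hP'p : IsPGroup p P' := P₀.isPGroup'.map _
  have hidx : ¬ p ∣ (P'.subgroupOf B).index := by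
    have h1 : P'.relIndex (B ⊓ H) * (B ⊓ H).relIndex B = P'.relIndex B := relIndex_mul_relIndex _ _ _ hP'le inf_le_left
    have h2 : P'.relIndex (B ⊓ H) = (P₀ : Subgroup (B ⊓ H : Subgroup G)).index := by
      rw [hP', Subgroup.relIndex]
      congr 1
      rw [subgroupOf, comap_map_eq_self_of_injective (subtype_injective _)]
    show ¬ p ∣ P'.relIndex B
    rw [← h1, hp.dvd_mul, not_or]
    refine ⟨?_, ?_⟩
    · rw [h2]; exact P₀.not_dvd_index
    · rw [inf_relIndex_left]
      intro h
      exact hp.one_lt.ne' (Nat.Coprime.eq_one_of_dvd (Nat.Coprime.coprime_dvd_left hpH hBHc) h)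
  have hPp : IsPGroup p (P'.subgroupOf B) :=
    hP'p.comap_of_injective _ (subtype_injective _)
  let P : Sylow p B := hPp.toSylow hidx
  have hPmap : (P : Subgroup B).map B.subtype = P' := by
    show (P'.subgroupOf B).map B.subtype = P'
    rw [subgroupOf_map_subtype]
    exact inf_eq_left.mpr hP'B
  have hfr := Sylow.normalizer_sup_eq_top P
  rw [hPmap] at hfr
  have hP'1 : P' ≠ ⊥ := by
    intro h
    have h1 : (P₀ : Subgroup (B ⊓ H : Subgroup G)) = ⊥ := by
      rw [hP', map_eq_bot_iff_of_injective _ (subtype_injective _)] at h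
      exact h
    have h2 := P₀.not_dvd_index
    rw [h1, index_bot] at h2
    exact h2 hpd
  have hN := CfsgLib.H6.normalizer_le_of_TI hTI hP'H hP'1
  have htop : O ⊔ normalizer (H : Set G) = ⊤ := by
    rw [eq_top_iff, ← hfr]
    refine sup_le (hN.trans le_sup_right) (hD.trans ?_)
    exact sup_le (hi1.trans le_sup_left) ((inf_le_right.trans le_normalizer).trans le_sup_right)
  refine ⟨htop, ?_⟩
  rw [← normalizer_eq_top_iff, eq_top_iff, ← htop]
  apply sup_le (le_sup_left.trans le_normalizer)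
  intro g hg
  rw [mem_normalizer_iff]
  have hconj : ∀ g ∈ normalizer (H : Set G), ∀ x ∈ O ⊔ H, g * x * g⁻¹ ∈ O ⊔ H := by
    intro g hg x hx
    rw [Subgroup.mem_sup_of_normal_left] at hx
    obtain ⟨a, ha, b, hb, rfl⟩ := hx
    have : g * (a * b) * g⁻¹ = (g * a * g⁻¹) * (g * b * g⁻¹) := by group
    rw [this]
    exact mul_mem (mem_sup_left (hON.conj_mem a ha g)) (mem_sup_right ((mem_normalizer_iff.mp hg b).mp hb))
  intro x
  constructor
  · exact hconj g hg x
  · intro hx
    have := hconj g⁻¹ (inv_mem hg) _ hx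
    have e : g⁻¹ * (g * x * g⁻¹) * g⁻¹⁻¹ = x := by group
    rwa [e] at this

theorem ti_fpf {G : Type u} [Group G] [Finite G] {H O : Subgroup G} [hON : O.Normal]
    (hTI : Cfsg.IsTISubset (H : Set G)) (hnn : ¬ H.Normal) (hHG : (Nat.card H).Coprime H.index)
    (hOc : (Nat.card O).Coprime (Nat.card H)) (htop : O ⊔ Subgroup.normalizer (H : Set G) = ⊤) : IsFpf H := by
  set L := O ⊔ H with hL
  have hHL : H ≤ L := le_sup_right
  have hOL : O ≤ L := le_sup_left
  have hinf : O ⊓ H = ⊥ := by
    rw [eq_bot_iff]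
    intro x hx
    have h1 : orderOf x ∣ Nat.card O := by
      have := orderOf_dvd_natCard (⟨x, hx.1⟩ : O)
      rwa [Subgroup.orderOf_mk] at this
    have h2 : orderOf x ∣ Nat.card H := by
      have := orderOf_dvd_natCard (⟨x, hx.2⟩ : H)
      rwa [Subgroup.orderOf_mk] at this
    exact orderOf_eq_one_iff.mp (Nat.eq_one_of_dvd_coprimes hOc h1 h2)
  have hnl : ¬ (H.subgroupOf L).Normal := by
    intro h
    rw [normal_subgroupOf_iff_le_normalizer hHL] at h
    apply hnn
    rw [← normalizer_eq_top_iff, eq_top_iff, ← htop]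
    exact sup_le (hOL.trans h) le_rfl
  obtain ⟨F, _, _, C, hC, ⟨e⟩⟩ := Cfsg.Agent.S4115.part2 (G := L) (H := H.subgroupOf L) (M := O.subgroupOf L) (by
      intro g hg x hx hgx
      have hg' : (g : G) ∉ normalizer (H : Set G) := by
        intro h
        apply hg
        rw [mem_normalizer_iff] at h
        rw [show ((H.subgroupOf L : Subgroup L) : Set L) = ((H.subgroupOf L : Subgroup L) : Set L) from rfl]
        apply mem_normalizer_iff.mpr
        intro y
        rw [mem_subgroupOf, mem_subgroupOf]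
        exact h y
      exact Subtype.ext (hTI g hg' x hx hgx)) (by
      have h1 : Nat.card (H.subgroupOf L) = Nat.card H := Nat.card_congr (subgroupOfEquivOfLe hHL).toEquiv
      rw [h1]
      exact Nat.Coprime.coprime_dvd_right (relIndex_dvd_index_of_le hHL) hHG) inferInstance (by
      apply isComplement'_of_disjoint_and_mul_eq_univ
      · rw [disjoint_iff, eq_bot_iff]
        rintro x ⟨hx1, hx2⟩
        have : (x : G) ∈ O ⊓ H := ⟨hx1, hx2⟩
        rw [hinf, mem_bot] at this
        exact Subtype.ext this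
      · rw [Set.eq_univ_iff_forall]
        intro x
        have hx : (x : G) ∈ O ⊔ H := x.2
        rw [Subgroup.mem_sup_of_normal_left] at hx
        obtain ⟨a, ha, b, hb, hab⟩ := hx
        exact ⟨⟨a, hOL ha⟩, ha, ⟨b, hHL hb⟩, hb, Subtype.ext hab⟩) hnl
  have h1 := (isFpf_of_complement C hC).of_injective e.toMonoidHom e.injective
  exact h1.of_injective (subgroupOfEquivOfLe hHL).symm.toMonoidHom (subgroupOfEquivOfLe hHL).symm.injective

theorem sl25_not_solvable {K : Type*} [Group K] (h : Nonempty (K ≃* SL25)) : ¬ Group.IsSolvable K := by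
  obtain ⟨e⟩ := h
  intro hs
  haveI : Group.IsSolvable SL25 := Group.isSolvable_of_isSolvable_injective (f := e.symm.toMonoidHom) e.symm.injective
  have h1 := perfect_solvable sl25_perfect (-1 : SL25)
  have := congrArg (fun A : SL25 => A.1 0 0) h1
  revert this
  simp
  decide

/-- the main step of the last claim -/
theorem ti_solv {G : Type u} [Group G] [Finite G] {H O : Subgroup G} [hON : O.Normal] (hLn : (O ⊔ H).Normal)
    (hHG : (Nat.card H).Coprime H.index) (hOc : (Nat.card O).Coprime (Nat.card H))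
    (hOm : ∀ K : Subgroup G, K.Normal → (Nat.card K).Coprime (Nat.card H) → K ≤ O)
    (hF : IsFpf H) (hOs : Group.IsSolvable O)
    (hno : ∀ K : Subgroup G, K ≤ H → ¬ Nonempty (K ≃* SL25)) : Group.IsSolvable G := by
  classical
  have hHs : Group.IsSolvable H := by
    by_contra hns
    obtain ⟨z, -, H₀, -, -, ⟨e⟩⟩ := hF.exists_sl25 hns
    exact hno (H₀.map H.subtype) (map_subtype_le _) ⟨(H₀.equivMapOfInjective H.subtype H.subtype_injective).symm.trans e⟩
  have hinf : O ⊓ H = ⊥ := by
    rw [eq_bot_iff]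
    intro x hx
    have h1 : orderOf x ∣ Nat.card O := by
      have := orderOf_dvd_natCard (⟨x, hx.1⟩ : O)
      rwa [Subgroup.orderOf_mk] at this
    have h2 : orderOf x ∣ Nat.card H := by
      have := orderOf_dvd_natCard (⟨x, hx.2⟩ : H)
      rwa [Subgroup.orderOf_mk] at this
    exact orderOf_eq_one_iff.mp (Nat.eq_one_of_dvd_coprimes hOc h1 h2)
  let π := QuotientGroup.mk' O
  set Hb : Subgroup (G ⧸ O) := H.map π with hHb
  have hHbn : Hb.Normal := by
    have h1 : (O ⊔ H).map π = Hb := by
      rw [Subgroup.map_sup, hHb]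
      have : O.map π = ⊥ := by
        rw [Subgroup.map_eq_bot_iff]; exact (QuotientGroup.ker_mk' O).ge
      rw [this, bot_sup_eq]
    rw [← h1]
    exact hLn.map π (QuotientGroup.mk'_surjective O)
  haveI := hHbn
  have hπinj : ∀ x ∈ H, π x = 1 → x = 1 := by
    intro x hx h1
    have h2 : x ∈ O := (QuotientGroup.eq_one_iff x).mp h1
    have h3 : x ∈ O ⊓ H := ⟨h2, hx⟩
    rwa [hinf, mem_bot] at h3
  have eH : Nonempty (H ≃* Hb) := by
    refine ⟨MulEquiv.ofBijective (π.subgroupMap H) ⟨?_, π.subgroupMap_surjective H⟩⟩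
    rw [injective_iff_map_eq_one]
    intro x hx
    exact Subtype.ext (hπinj x x.2 (congrArg Subtype.val hx))
  obtain ⟨eH⟩ := eH
  have hcb : Nat.card Hb = Nat.card H := (Nat.card_congr eH.toEquiv).symm
  haveI : Group.IsSolvable Hb := Group.isSolvable_of_isSolvable_injective (f := eH.symm.toMonoidHom) eH.symm.injective
  haveI : Group.IsSolvable (MulAut Hb) :=
    (hF.of_injective eH.symm.toMonoidHom eH.symm.injective).aut_solvable inferInstance
  let f : (G ⧸ O) →* MulAut Hb := MulAut.conjNormal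
  have hker : ∀ x, f x = 1 ↔ x ∈ centralizer (Hb : Set (G ⧸ O)) := by
    intro x
    rw [mem_centralizer_iff]
    constructor
    · intro h t ht
      have h1 : f x ⟨t, ht⟩ = ⟨t, ht⟩ := by rw [h]; rfl
      have h2 : x * t * x⁻¹ = t := by
        have := congrArg Subtype.val h1
        rwa [MulAut.conjNormal_apply] at this
      exact (mul_inv_eq_iff_eq_mul.mp h2).symm
    · intro h
      ext t
      rw [MulAut.conjNormal_apply, MulAut.one_apply, ← h t t.2]
      group
  set C := centralizer (Hb : Set (G ⧸ O)) with hC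
  haveI hCn : C.Normal := by
    have : C = f.ker := by ext x; rw [MonoidHom.mem_ker, hker]
    rw [this]; infer_instance
  have hidx : Hb.index ∣ H.index := by
    have h1 : Hb.index = (O ⊔ H).index := by
      rw [hHb, index_map, QuotientGroup.ker_mk', sup_comm, MonoidHom.range_eq_top.mpr (QuotientGroup.mk'_surjective O), index_top, mul_one]
    rw [h1]
    exact index_dvd_of_le le_sup_right
  have hCH : C ≤ Hb := by
    -- central Hall subgroup
    have hZc : (Nat.card (Hb ⊓ C : Subgroup (G ⧸ O))).Coprime ((Hb ⊓ C).relIndex C) := by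
      rw [inf_relIndex_right]
      have h1 : Hb.relIndex C ∣ H.index := (relIndex_dvd_index_of_normal Hb C).trans hidx
      have h2 : Nat.card (Hb ⊓ C : Subgroup (G ⧸ O)) ∣ Nat.card H := by
        rw [← hcb]; exact Subgroup.card_dvd_of_le inf_le_left
      exact Nat.Coprime.coprime_dvd_left h2 (Nat.Coprime.coprime_dvd_right h1 hHG)
    have hZn : C ≤ normalizer ((Hb ⊓ C : Subgroup (G ⧸ O)) : Set (G ⧸ O)) := by
      rw [normalizer_eq_top]; exact le_top
    obtain ⟨E, hEC, hEcard, hZE, hZEsup⟩ := sz_exists (inf_le_right : Hb ⊓ C ≤ C) hZn hZc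
    have hEH : (Nat.card E).Coprime (Nat.card H) := by
      rw [hEcard, inf_relIndex_right]
      have h1 : Hb.relIndex C ∣ H.index := (relIndex_dvd_index_of_normal Hb C).trans hidx
      exact (Nat.Coprime.coprime_dvd_right h1 hHG).symm
    have hEn : E.Normal := by
      refine ⟨fun e he x => ?_⟩
      have h1 : x * e * x⁻¹ ∈ C := hCn.conj_mem e (hEC he) x
      rw [← hZEsup, Subgroup.mem_sup_of_normal_left] at h1
      obtain ⟨z, hz, e₁, he₁, hze⟩ := h1
      have hcomm : Commute z e₁ := (mem_centralizer_iff.mp (hEC he₁)) z hz.1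
      have hpow : ∀ e ∈ E, e ^ Nat.card E = 1 := by
        intro e he
        have : (⟨e, he⟩ : E) ^ Nat.card E = 1 := pow_card_eq_one'
        exact congrArg Subtype.val this
      have h2 : (x * e * x⁻¹) ^ Nat.card E = 1 := by
        rw [conj_pow, hpow e he]; group
      rw [← hze, hcomm.mul_pow, hpow e₁ he₁, mul_one] at h2
      have h3 : z ^ Nat.card Hb = 1 := by
        have : (⟨z, hz.1⟩ : Hb) ^ Nat.card Hb = 1 := pow_card_eq_one'
        exact congrArg Subtype.val this
      rw [hcb] at h3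
      have h4 : orderOf z ∣ 1 := by
        rw [← hEH.gcd_eq_one]
        exact Nat.dvd_gcd (orderOf_dvd_of_pow_eq_one h2) (orderOf_dvd_of_pow_eq_one h3)
      have h5 : z = 1 := orderOf_eq_one_iff.mp (Nat.dvd_one.mp h4)
      rw [← hze, h5, one_mul]; exact he₁
    have hE1 : E = ⊥ := by
      have h1 : (E.comap π) ≤ O := by
        apply hOm _ inferInstance
        rw [CfsgLib.Cores.card_comap_mk O E]
        exact hOc.mul_left hEH
      rw [eq_bot_iff]
      intro e he
      obtain ⟨g, rfl⟩ := QuotientGroup.mk'_surjective O e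
      rw [mem_bot]
      exact (QuotientGroup.eq_one_iff g).mpr (h1 he)
    rw [hE1, sup_bot_eq] at hZEsup
    rw [← hZEsup]
    exact inf_le_left
  haveI : Group.IsSolvable (G ⧸ O) := by
    haveI : Group.IsSolvable f.ker := by
      have hle : f.ker ≤ Hb := by
        intro x hx
        exact hCH ((hker x).mp hx)
      exact Group.isSolvable_of_isSolvable_injective (f := Subgroup.inclusion hle) (Subgroup.inclusion_injective hle)
    exact solvable_of_ker_le_range f.ker.subtype f (by rw [Subgroup.range_subtype])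
  exact solvable_of_ker_le_range O.subtype (QuotientGroup.mk' O) (by rw [Subgroup.range_subtype, QuotientGroup.ker_mk'])

end CfsgLib.H6Zas
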