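import Cfsg.Agent.LibH6ZasL
import Cfsg.Agent.LibNF3
import Cfsg.Agent.S0685

/-! Nonsolvable sharply transitive linear groups. -/

set_option autoImplicit false
set_option synthInstance.maxSize 2000

namespace CfsgLib.H6Zas

open Subgroup

theorem prod_iso {G : Type*} [Group G] {S M : Subgroup G} [hS : S.Normal] (hsup : S ⊔ M = ⊤) (hinf : S ⊓ M = ⊥)
    (hc : ∀ s ∈ S, ∀ x ∈ M, s * x = x * s) : Nonempty (G ≃* S × M) := by
  let φ : S × M →* G := MonoidHom.noncommCoprod S.subtype M.subtype (fun s m => hc s s.2 m m.2)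
  have hφ : ∀ x : S × M, φ x = (x.1 : G) * x.2 := fun x => rfl
  refine ⟨(MulEquiv.ofBijective φ ⟨?_, ?_⟩).symm⟩
  · rw [injective_iff_map_eq_one]
    rintro ⟨s, m⟩ h
    rw [hφ] at h
    have h' : (s : G) * m = 1 := h
    have h1 : (s : G) = (m : G)⁻¹ := mul_eq_one_iff_eq_inv.mp h'
    have h2 : (s : G) ∈ S ⊓ M := ⟨s.2, by rw [h1]; exact M.inv_mem m.2⟩
    rw [hinf, mem_bot] at h2
    have h3 : (m : G) = 1 := by rw [h2, one_mul] at h'; exact h'
    exact Prod.ext (Subtype.ext h2) (Subtype.ext h3)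
  · intro g
    have hg : g ∈ S ⊔ M := by rw [hsup]; exact mem_top g
    rw [Subgroup.mem_sup_of_normal_left] at hg
    obtain ⟨a, ha, b, hb, h⟩ := hg
    exact ⟨(⟨a, ha⟩, ⟨b, hb⟩), h⟩

theorem card_sl25 : Nat.card SL25 = 120 := by
  obtain ⟨z, Z, h⟩ := sl25_typ
  have := Z.card_typ (by norm_num) h
  rw [Subgroup.card_top, c5] at this
  exact this

/-! `Q₈` in `SL(2,5)` -/

def iq : SL25 := ⟨!![2, 0; 0, 3], by decide +kernel⟩
def jq : SL25 := ⟨!![0, 1; 4, 0], by decide +kernel⟩

def fq : QuaternionGroup 2 → SL25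
  | QuaternionGroup.a i => iq ^ (ZMod.val (n := 4) i)
  | QuaternionGroup.xa i => jq * iq ^ (ZMod.val (n := 4) i)

theorem fq_mul : ∀ x y : QuaternionGroup 2, fq (x * y) = fq x * fq y := by decide +kernel
theorem fq_inj : ∀ x y : QuaternionGroup 2, fq x = fq y → x = y := by decide +kernel

def fqh : QuaternionGroup 2 →* SL25 := MonoidHom.mk' fq fq_mul

theorem numbers : ∀ r < 120, ∀ k < 121, 1 < r → ((r + 1) * k = 60 ∨ (r + 1) * k = 120) → (r - 1) % (2 * k) = 0 →
    Nat.gcd ((r - 1) / (2 * k)) 120 = 1 → (r = 11 ∧ k = 5) ∨ (r = 29 ∧ k = 2) ∨ (r = 59 ∧ k = 1) ∨ r = 119 := by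
  decide +kernel

theorem sharp_nonsolv {p : ℕ} [Fact p.Prime] {V : Type*} [AddCommGroup V] [Module (ZMod p) V] [Finite V]
    {H : Type*} [Group H] [Finite H] (ρ : H →* (V ≃ₗ[ZMod p] V)) (hinj : Function.Injective ρ)
    (hreg : ∀ v w : V, v ≠ 0 → w ≠ 0 → ∃! h : H, ρ h v = w) (hsolv : ¬ Group.IsSolvable H) :
    (Nat.card V = 121 ∧ Nonempty (H ≃* SL25)) ∨
    (Nat.card V = 841 ∧ Nonempty (H ≃* SL25 × Multiplicative (ZMod 7))) ∨
    (Nat.card V = 3481 ∧ Nonempty (H ≃* SL25 × Multiplicative (ZMod 29))) := by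
  classical
  have hV : Nontrivial V := by
    by_contra hV
    rw [not_nontrivial_iff_subsingleton] at hV
    apply hsolv
    haveI : Subsingleton H := ⟨fun a b => hinj (by ext v; exact Subsingleton.elim _ _)⟩
    infer_instance
  have hcard := Cfsg.Agent.S0685.card_H ρ hreg hV
  have hfree : ∀ (h : H) (v : V), v ≠ 0 → ρ h v = v → h = 1 := by
    intro h v hv hh
    obtain ⟨c, hc, hu⟩ := hreg v v hv hv
    rw [hu h hh, hu 1 (by show ρ 1 v = v; rw [map_one]; rfl)]
  have hF : IsFpf H := by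
    refine isFpf_of_mod p (fun h v => ρ h v) (fun g x y => map_add _ _ _) (fun x => ?_) (fun a b x => ?_) ?_
    · show ρ 1 x = x
      rw [map_one]; rfl
    · show ρ (a * b) x = ρ a (ρ b x)
      rw [map_mul]; rfl
    · intro g hg w hw
      by_contra hw0
      exact hg (hfree g w hw0 hw)
  obtain ⟨G₀, hG₀, hidx, S, M, hSM, hinf, hcomm, ⟨e⟩, hMz, hMc, hSn, -⟩ := hF.nonsolvable hsolv
  haveI := hSn
  have hcS : Nat.card S = 120 := by rw [Nat.card_congr e.toEquiv, card_sl25]
  -- quaternion subgroup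
  let g : QuaternionGroup 2 →* H := S.subtype.comp (e.symm.toMonoidHom.comp fqh)
  have hg : Function.Injective g := by
    refine S.subtype_injective.comp (e.symm.injective.comp ?_)
    exact fun x y h => fq_inj x y h
  let N : Subgroup H := g.range
  have eN : N ≃* QuaternionGroup 2 := (MonoidHom.ofInjective hg).symm
  obtain ⟨W, hW, hWc⟩ := Cfsg.Agent.LibNF3.q8_action ρ hfree hV N eN
  set r := Nat.card W with hr
  set c := Nat.card M with hc
  have hMN : M ≤ centralizer (N : Set H) := by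
    intro x hx
    rw [mem_centralizer_iff]
    rintro _ ⟨q, rfl⟩
    exact hcomm _ (e.symm (fqh q)).2 x hx
  have hcr : c ∣ r - 1 := (Subgroup.card_dvd_of_le hMN).trans hWc
  have hV1 : 1 < Nat.card V := Finite.one_lt_card
  have hr1 : 1 < r := by
    by_contra h
    push Not at h
    have : r ^ 2 ≤ 1 ^ 2 := Nat.pow_le_pow_left h 2
    omega
  -- the order of `H`
  have hG₀c : Nat.card G₀ = 120 * c := by
    have h1 := CfsgLib.Coprime.card_sup_mul_card_inf (N := S) (H := M) (by rw [normalizer_eq_top]; exact le_top)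
    rw [sup_comm, hSM, inf_comm, hinf, Subgroup.card_bot, mul_one, hcS] at h1
    rw [h1, mul_comm]
  have hHc := G₀.card_mul_index
  rw [hG₀c, hcard, hW] at hHc
  -- r is odd
  have hrodd : r % 2 = 1 := by
    rcases Nat.even_or_odd' r with ⟨m, hm | hm⟩
    · exfalso
      have h1 : r ^ 2 = 4 * m ^ 2 := by rw [hm]; ring
      rw [h1] at hHc
      have h2 : 0 < m := by omega
      have h3 : 0 < m ^ 2 := by positivity
      have h4 : 120 * c * G₀.index = 2 * (60 * (c * G₀.index)) := by ring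
      omega
    · omega
  have hcodd : c % 2 = 1 := by
    rcases Nat.even_or_odd' c with ⟨m, hm | hm⟩
    · exfalso
      have : 2 ∣ Nat.gcd c 120 := Nat.dvd_gcd ⟨m, hm⟩ (by norm_num)
      rw [hMc] at this
      omega
    · omega
  obtain ⟨k, hk⟩ : 2 * c ∣ r - 1 := by
    apply Nat.Coprime.mul_dvd_of_dvd_of_dvd _ _ hcr
    · exact (Nat.coprime_two_left).mpr (Nat.odd_iff.mpr hcodd)
    · omega
  have hcpos : 0 < c := Nat.card_pos
  have hkpos : 0 < k := by
    rcases Nat.eq_zero_or_pos k with h | h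
    · rw [h, mul_zero] at hk; omega
    · exact h
  have hkey : (r + 1) * k = 60 * G₀.index := by
    have h1 : r ^ 2 - 1 = (r + 1) * (r - 1) := by
      have := Nat.sq_sub_sq r 1
      simpa using this
    rw [h1, hk] at hHc
    have h2 : (2 * c) * ((r + 1) * k) = (2 * c) * (60 * G₀.index) := by
      calc (2 * c) * ((r + 1) * k) = (r + 1) * (2 * c * k) := by ring
        _ = 120 * c * G₀.index := hHc.symm
        _ = (2 * c) * (60 * G₀.index) := by ring
    exact Nat.eq_of_mul_eq_mul_left (by omega) h2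
  have hidx' : (r + 1) * k = 60 ∨ (r + 1) * k = 120 := by
    rcases hidx with h | h
    · left; rw [hkey, h]
    · right; rw [hkey, h]
  have hle : (r + 1) * k ≤ 120 := by rcases hidx' with h | h <;> omega
  have hr120 : r < 120 := by nlinarith
  have hk120 : k < 121 := by nlinarith
  have hdiv : (r - 1) / (2 * k) = c := by
    rw [hk]
    have : 2 * c * k = c * (2 * k) := by ring
    rw [this]
    exact Nat.mul_div_cancel _ (by omega)
  have hmod : (r - 1) % (2 * k) = 0 := by
    rw [hk]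
    have : 2 * c * k = (2 * k) * c := by ring
    rw [this]
    exact Nat.mul_mod_right _ _
  have hcop : Nat.gcd ((r - 1) / (2 * k)) 120 = 1 := by rw [hdiv]; exact hMc
  have hprime : r ≠ 119 := by
    intro h119
    have hp : (Fact.out : p.Prime) = Fact.out := rfl
    -- the order of `W` is a power of `p`
    obtain ⟨d, hd⟩ : ∃ d, Nat.card W = p ^ d := by
      haveI : Module.Finite (ZMod p) W := Module.Finite.of_finite
      exact ⟨Module.finrank (ZMod p) W, by
        rw [Module.natCard_eq_pow_finrank (K := ZMod p), Nat.card_zmod]⟩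
    rw [← hr, h119] at hd
    have h7 : 7 ∣ p ^ d := by rw [← hd]; norm_num
    have h17 : 17 ∣ p ^ d := by rw [← hd]; norm_num
    have h1 := (Nat.prime_dvd_prime_iff_eq (by norm_num) (Fact.out : p.Prime)).mp (Nat.Prime.dvd_of_dvd_pow (by norm_num) h7)
    have h2 := (Nat.prime_dvd_prime_iff_eq (by norm_num) (Fact.out : p.Prime)).mp (Nat.Prime.dvd_of_dvd_pow (by norm_num) h17)
    omega
  have hnum := numbers r hr120 k hk120 hr1 hidx' hmod hcop
  -- the index is one
  have htop : G₀.index = 1 → (S ⊔ M = ⊤) := by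
    intro h
    rw [hSM]; exact index_eq_one.mp h
  have hiso : G₀.index = 1 → Nonempty (H ≃* S × M) := fun h => prod_iso (htop h) hinf hcomm
  have hprod : ∀ (q : ℕ) [Fact q.Prime], c = q → G₀.index = 1 → Nonempty (H ≃* SL25 × Multiplicative (ZMod q)) := by
    intro q hq hcq hi
    obtain ⟨e1⟩ := hiso hi
    have e2 : M ≃* Multiplicative (ZMod q) := by
      apply mulEquivOfPrimeCardEq (p := q) hcq
      rw [Nat.card_congr Multiplicative.toAdd, Nat.card_zmod]
    exact ⟨e1.trans (MulEquiv.prodCongr e e2)⟩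
  rcases hnum with ⟨h1, h2⟩ | ⟨h1, h2⟩ | ⟨h1, h2⟩ | h1
  · left
    have hi : G₀.index = 1 := by rw [h1, h2] at hkey; omega
    have hc1 : c = 1 := by rw [← hdiv, h1, h2]
    refine ⟨by rw [hW, h1]; norm_num, ?_⟩
    have hMbot : M = ⊥ := Subgroup.card_eq_one.mp hc1
    have hST : S = ⊤ := by
      have := htop hi
      rwa [hMbot, sup_bot_eq] at this
    exact ⟨(Subgroup.topEquiv.symm.trans (MulEquiv.subgroupCongr hST.symm)).trans e⟩
  · right; left
    haveI : Fact (Nat.Prime 7) := ⟨by norm_num⟩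
    have hi : G₀.index = 1 := by rw [h1, h2] at hkey; omega
    exact ⟨by rw [hW, h1]; norm_num, hprod 7 (by rw [← hdiv, h1, h2]) hi⟩
  · right; right
    haveI : Fact (Nat.Prime 29) := ⟨by norm_num⟩
    have hi : G₀.index = 1 := by rw [h1, h2] at hkey; omega
    exact ⟨by rw [hW, h1]; norm_num, hprod 29 (by rw [← hdiv, h1, h2]) hi⟩
  · exact absurd h1 hprime

end CfsgLib.H6Zas
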