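import Cfsg.Agent.LibH6ZasL

/-! Minimal nonabelian normal subgroups of fpf groups. -/

set_option autoImplicit false
set_option synthInstance.maxSize 2000

namespace CfsgLib.H6Zas

open Subgroup

theorem IsFpf.cyclic_of_comm {P : Type*} [Group P] [Finite P] (hF : IsFpf P) (hc : ∀ a b : P, a * b = b * a) : IsCyclic P := by
  letI : CommGroup P := { (inferInstance : Group P) with mul_comm := hc }
  haveI : IsZGroup P := by
    apply hF.zgroup_of_two
    intro T
    rcases hF.two_sub T T.isPGroup' with h | ⟨n, ⟨e⟩⟩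
    · exact h
    · rcases Nat.eq_zero_or_pos n with rfl | hn
      · have : IsCyclic (QuaternionGroup (2 ^ 0)) := by
          rw [pow_zero]; exact QuaternionGroup.quaternionGroup_one_isCyclic
        exact isCyclic_of_surjective e.symm e.symm.surjective
      · exfalso
        have h1 : (QuaternionGroup.a 1 : QuaternionGroup (2 ^ n)) * QuaternionGroup.xa 0 = QuaternionGroup.xa 0 * QuaternionGroup.a 1 := by
          apply e.symm.injective
          rw [map_mul, map_mul]
          exact Subtype.ext (hc _ _)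
        rw [QuaternionGroup.a_mul_xa, QuaternionGroup.xa_mul_a, zero_sub, zero_add] at h1
        have h2 : (-1 : ZMod (2 * 2 ^ n)) = 1 := by
          injection h1
        have h3 : ((2 : ℕ) : ZMod (2 * 2 ^ n)) = 0 := by
          have : (1 : ZMod (2 * 2 ^ n)) + 1 = 0 := by nth_rewrite 1 [← h2]; ring
          rw [← this]; norm_num
        rw [ZMod.natCast_eq_zero_iff] at h3
        have h4 := Nat.le_of_dvd (by norm_num) h3
        have h5 : 2 ≤ 2 ^ n := by
          calc 2 = 2 ^ 1 := by norm_num
            _ ≤ 2 ^ n := Nat.pow_le_pow_right (by norm_num) hn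
        omega
  have hnil : Group.IsNilpotent P := inferInstance
  infer_instance

theorem min_nonab {H : Type*} [Group H] [Finite H] (hF : IsFpf H) (A : Subgroup H) (hAn : A.Normal)
    (hAc : IsMulCommutative A) (hAmax : ∀ B : Subgroup H, B.Normal → IsMulCommutative B → A ≤ B → B = A)
    (N : Subgroup H) (hNn : N.Normal) (hNle : N ≤ Subgroup.centralizer (A : Set H)) (hNna : ¬ IsMulCommutative N)
    (hNmin : ∀ M : Subgroup H, M.Normal → M ≤ N → ¬ IsMulCommutative M → M = N) :
    Nonempty (N ≃* QuaternionGroup 2) ∨ Nonempty (N ≃* SL25) := by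
  classical
  haveI : Fact (Nat.Prime 2) := ⟨Nat.prime_two⟩
  haveI := hNn
  haveI := hAn
  have hne : ∃ g : N, g ≠ 1 := by
    by_contra h
    push Not at h
    apply hNna
    exact ⟨⟨fun a b => by rw [h a, h b]⟩⟩
  by_cases hper : commutator N = ⊤
  · right
    exact (hF.sub N).iso_sl25 hper hne
  left
  -- the derived subgroup is in `A`
  set D : Subgroup H := ⁅N, N⁆ with hD
  have hDN : D ≤ N := by
    rw [hD, Subgroup.commutator_le]
    intro a ha b hb
    exact mul_mem (mul_mem (mul_mem ha hb) (inv_mem ha)) (inv_mem hb)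
  have hDn : D.Normal := inferInstance
  have hDne : D ≠ N := by
    intro h
    apply hper
    apply Subgroup.map_injective N.subtype_injective
    rw [Subgroup.map_subtype_commutator, ← MonoidHom.range_eq_map, Subgroup.range_subtype]
    exact h
  have hDc : IsMulCommutative D := by
    by_contra h
    exact hDne (hNmin D hDn hDN h)
  have hcA : ∀ n ∈ N, ∀ a ∈ A, n * a = a * n := by
    intro n hn a ha
    exact ((Subgroup.mem_centralizer_iff.mp (hNle hn)) a ha).symm
  have hAcom : ∀ a ∈ A, ∀ b ∈ A, a * b = b * a := by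
    intro a ha b hb
    exact congrArg Subtype.val (hAc.is_comm.comm (⟨a, ha⟩ : A) ⟨b, hb⟩)
  have hDA : D ≤ A := by
    have hDcom : ∀ a ∈ D, ∀ b ∈ D, a * b = b * a := by
      intro a ha b hb
      exact congrArg Subtype.val (hDc.is_comm.comm (⟨a, ha⟩ : D) ⟨b, hb⟩)
    have hsupc : IsMulCommutative (D ⊔ A : Subgroup H) := by
      rw [Subgroup.sup_eq_closure]
      apply Subgroup.isMulCommutative_closure
      rintro x (hx | hx) y (hy | hy)
      · exact hDcom x hx y hy
      · exact hcA x (hDN hx) y hy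
      · exact (hcA y (hDN hy) x hx).symm
      · exact hAcom x hx y hy
    have := hAmax (D ⊔ A) (Subgroup.sup_normal D A) hsupc le_sup_right
    rw [← this]
    exact le_sup_left
  -- N is nilpotent
  have hcomm : ∀ a b c : N, (a * b * a⁻¹ * b⁻¹) * c = c * (a * b * a⁻¹ * b⁻¹) := by
    intro a b c
    apply Subtype.ext
    have h1 : (a : H) * b * (a : H)⁻¹ * (b : H)⁻¹ ∈ A := hDA (Subgroup.commutator_mem_commutator a.2 b.2)
    exact (hcA c c.2 _ h1).symm
  have hnil : Group.IsNilpotent N := by
    have hq : ∀ x y : N ⧸ center N, x * y = y * x := by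
      intro x y
      obtain ⟨a, rfl⟩ := QuotientGroup.mk_surjective x
      obtain ⟨b, rfl⟩ := QuotientGroup.mk_surjective y
      show ((a * b : N) : N ⧸ center N) = ((b * a : N) : N ⧸ center N)
      rw [QuotientGroup.eq, Subgroup.mem_center_iff]
      intro c
      have e : (a * b)⁻¹ * (b * a) = b⁻¹ * a⁻¹ * b * a := by group
      have h2 := hcomm b⁻¹ a⁻¹ c
      rw [inv_inv, inv_inv] at h2
      rw [e]
      exact h2.symm
    letI : CommGroup (N ⧸ center N) := { (inferInstance : Group (N ⧸ center N)) with mul_comm := hq }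
    have h3 : Group.IsNilpotent (N ⧸ center N) := CommGroup.isNilpotent
    exact Group.of_quotient_center_nilpotent h3
  obtain ⟨T⟩ : Nonempty (Sylow 2 N) := inferInstance
  have hTn : (T : Subgroup N).Normal := by
    have := ((isNilpotent_of_finite_tfae (G := N)).out 0 3).mp hnil
    exact this 2 inferInstance T
  haveI := hTn
  haveI hTch := T.characteristic_of_normal hTn
  set P : Subgroup H := (T : Subgroup N).map N.subtype with hP
  have hPn : P.Normal := inferInstance
  have hPN : P ≤ N := map_subtype_le _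
  have hPp : IsPGroup 2 P := T.isPGroup'.map _
  -- P is not commutative
  have hPc : ¬ IsMulCommutative P := by
    intro h
    apply hNna
    have hTc : ∀ T' : Sylow 2 N, IsCyclic T' := by
      intro T'
      have hTT : T' = T := by
        have := T.unique_of_normal hTn
        exact Subsingleton.elim _ _
      rw [hTT]
      apply ((hF.sub N).sub (T : Subgroup N)).cyclic_of_comm
      intro a b
      apply Subtype.ext
      apply Subtype.ext
      have := h.is_comm.comm (⟨((a : N) : H), ⟨a, a.2, rfl⟩⟩ : P) ⟨((b : N) : H), ⟨b, b.2, rfl⟩⟩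
      have h5 := congrArg (fun t : P => (t : H)) this
      exact h5
    haveI := (hF.sub N).zgroup_of_two hTc
    have hc : IsCyclic N := inferInstance
    obtain ⟨g, hg⟩ := hc.exists_generator
    refine ⟨⟨fun a b => ?_⟩⟩
    obtain ⟨i, rfl⟩ := hg a
    obtain ⟨j, rfl⟩ := hg b
    show g ^ i * g ^ j = g ^ j * g ^ i
    rw [← zpow_add, ← zpow_add, add_comm]
  have hPeq := hNmin P hPn hPN hPc
  rw [hPeq] at hPp
  rcases hF.two_sub N hPp with h | ⟨n, ⟨e⟩⟩
  · exfalso
    apply hNna
    obtain ⟨g, hg⟩ := h.exists_generator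
    refine ⟨⟨fun a b => ?_⟩⟩
    obtain ⟨i, rfl⟩ := hg a
    obtain ⟨j, rfl⟩ := hg b
    show g ^ i * g ^ j = g ^ j * g ^ i
    rw [← zpow_add, ← zpow_add, add_comm]
  · -- class two
    have h1 : ∀ a b c : QuaternionGroup (2 ^ n), (a * b * a⁻¹ * b⁻¹) * c = c * (a * b * a⁻¹ * b⁻¹) := by
      intro a b c
      apply e.symm.injective
      simp only [map_mul, map_inv]
      exact hcomm _ _ _
    have h2 := h1 (QuaternionGroup.a 1) (QuaternionGroup.xa 0) (QuaternionGroup.xa 0)
    have h3 : (QuaternionGroup.a 1 : QuaternionGroup (2 ^ n)) * QuaternionGroup.xa 0 * (QuaternionGroup.a 1)⁻¹ * (QuaternionGroup.xa 0)⁻¹ = QuaternionGroup.a 2 := by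
      rw [mul_inv_eq_iff_eq_mul, mul_inv_eq_iff_eq_mul]
      rw [QuaternionGroup.a_mul_xa, QuaternionGroup.a_mul_xa, QuaternionGroup.xa_mul_a]
      congr 1; ring
    rw [h3, QuaternionGroup.a_mul_xa, QuaternionGroup.xa_mul_a, zero_sub, zero_add] at h2
    have h4 : (-2 : ZMod (2 * 2 ^ n)) = 2 := by injection h2
    have h5 : ((4 : ℕ) : ZMod (2 * 2 ^ n)) = 0 := by
      have : (2 : ZMod (2 * 2 ^ n)) + 2 = 0 := by nth_rewrite 1 [← h4]; ring
      rw [← this]; norm_num
    rw [ZMod.natCast_eq_zero_iff] at h5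
    have h6 := Nat.le_of_dvd (by norm_num) h5
    have hn : n = 0 ∨ n = 1 := by
      by_contra hn
      push Not at hn
      have h7 : 2 ≤ n := by omega
      have h8 : 4 ≤ 2 ^ n := by
        calc 4 = 2 ^ 2 := by norm_num
          _ ≤ 2 ^ n := Nat.pow_le_pow_right (by norm_num) h7
      omega
    rcases hn with rfl | rfl
    · exfalso
      apply hNna
      have hc : IsCyclic (QuaternionGroup (2 ^ 0)) := by
        rw [pow_zero]; exact QuaternionGroup.quaternionGroup_one_isCyclic
      have h := isCyclic_of_surjective e.symm e.symm.surjective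
      obtain ⟨g, hg⟩ := h.exists_generator
      refine ⟨⟨fun a b => ?_⟩⟩
      obtain ⟨i, rfl⟩ := hg a
      obtain ⟨j, rfl⟩ := hg b
      show g ^ i * g ^ j = g ^ j * g ^ i
      rw [← zpow_add, ← zpow_add, add_comm]
    · exact ⟨e⟩

end CfsgLib.H6Zas
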