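import Cfsg.Agent.LibH6ZasL
import Cfsg.Agent.LibNF3

/-! Square order of a Frobenius kernel with a quaternion group in the complement. -/

set_option autoImplicit false
set_option synthInstance.maxSize 2000

namespace CfsgLib.H6Zas

open Subgroup

theorem sq_card (n : ℕ) : ∀ {A : Type*} [AddCommGroup A] [Finite A] (I J : A →+ A), Nat.card A = n → Odd n →
    (∀ x, I (I x) = -x) → (∀ x, J (J x) = -x) → (∀ x, J (I x) = -(I (J x))) → IsSquare (Nat.card A) := by
  induction n using Nat.strong_induction_on with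
  | _ n ih =>
  intro A _ _ I J hn hodd hI hJ hIJ
  by_cases h1 : Nat.card A = 1
  · rw [h1]; exact ⟨1, rfl⟩
  obtain ⟨p, hp, hpd⟩ := Nat.exists_prime_and_dvd h1
  haveI : Fact p.Prime := ⟨hp⟩
  have hp2 : p ≠ 2 := by
    rintro rfl
    rw [hn] at hpd
    exact (Nat.not_even_iff_odd.mpr hodd) (even_iff_two_dvd.mpr hpd)
  let f : A →+ A := nsmulAddMonoidHom p
  have hf : ∀ x, f x = p • x := fun x => rfl
  let K : AddSubgroup A := f.ker
  let R : AddSubgroup A := f.range
  have hKmem : ∀ x, x ∈ K ↔ p • x = 0 := fun x => Iff.rfl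
  have hcard : Nat.card K * Nat.card R = Nat.card A := by
    rw [← K.card_mul_index]
    congr 1
    exact (AddSubgroup.index_ker f).symm
  obtain ⟨x, hx⟩ := exists_prime_addOrderOf_dvd_card' p hpd
  have hxK : x ∈ K := by rw [hKmem, ← hx]; exact addOrderOf_nsmul_eq_zero x
  have hx0 : x ≠ 0 := by
    intro h; rw [h, addOrderOf_zero] at hx; exact hp.one_lt.ne hx
  haveI hKnt : Nontrivial K := ⟨⟨x, hxK⟩, 0, fun h => hx0 (congrArg Subtype.val h)⟩
  have hK1 : 1 < Nat.card K := Finite.one_lt_card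
  have hRpos : 0 < Nat.card R := Nat.card_pos
  have hRlt : Nat.card R < n := by rw [← hn, ← hcard]; nlinarith
  have hRodd : Odd (Nat.card R) := by
    rw [← hn, ← hcard, Nat.odd_mul] at hodd; exact hodd.2
  -- restriction to R
  let IR : R →+ R := (I.comp R.subtype).codRestrict R (by
    rintro ⟨_, y, rfl⟩
    exact ⟨I y, by show p • I y = I (p • y); rw [map_nsmul]⟩)
  let JR : R →+ R := (J.comp R.subtype).codRestrict R (by
    rintro ⟨_, y, rfl⟩
    exact ⟨J y, by show p • J y = J (p • y); rw [map_nsmul]⟩)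
  have hR := ih _ hRlt IR JR rfl hRodd (fun x => Subtype.ext (hI x)) (fun x => Subtype.ext (hJ x))
    (fun x => Subtype.ext (hIJ x))
  -- the kernel
  have hKp : ∀ x : K, p • x = 0 := fun x => Subtype.ext x.2
  letI : Module (ZMod p) K := AddCommGroup.zmodModule hKp
  let IK : K →+ K := (I.comp K.subtype).codRestrict K (by
    rintro ⟨y, hy⟩
    show p • I y = 0
    rw [← map_nsmul, (hKmem y).mp hy, map_zero])
  let JK : K →+ K := (J.comp K.subtype).codRestrict K (by
    rintro ⟨y, hy⟩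
    show p • J y = 0
    rw [← map_nsmul, (hKmem y).mp hy, map_zero])
  have h2 : ∀ v : K, v + v = 0 → v = 0 := by
    intro v hv
    have h3 : addOrderOf v ∣ 2 := addOrderOf_dvd_of_nsmul_eq_zero (by rw [two_nsmul]; exact hv)
    have h4 : addOrderOf v ∣ p := addOrderOf_dvd_of_nsmul_eq_zero (hKp v)
    have h5 : Nat.Coprime 2 p := (Nat.coprime_primes Nat.prime_two hp).mpr (Ne.symm hp2)
    have h6 := Nat.eq_one_of_dvd_coprimes h5 h3 h4
    exact AddMonoid.addOrderOf_eq_one_iff.mp h6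
  obtain ⟨W, hW, -⟩ := Cfsg.Agent.LibNF3.exists_half (p := p) (IK.toZModLinearMap p) (JK.toZModLinearMap p)
    (fun v => Subtype.ext (hI v)) (fun v => Subtype.ext (hJ v)) (fun v => Subtype.ext (hIJ v)) h2 hKnt
  rw [← hcard]
  obtain ⟨w, hw⟩ : ∃ w : ℕ, Nat.card K = w ^ 2 := ⟨_, hW⟩
  have hsq : IsSquare (Nat.card K) := ⟨w, by rw [hw, pow_two]⟩
  exact hsq.mul hR

theorem IsFpf.quat_rel {P : Type*} [Group P] {n : ℕ} (hn : 1 ≤ n) (e : P ≃* QuaternionGroup (2 ^ n)) :
    ∃ i j t : P, i * i = t ∧ j * j = t ∧ j * i = t * (i * j) ∧ t * t = 1 ∧ t ≠ 1 := by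
  obtain ⟨m, rfl⟩ : ∃ m, n = m + 1 := ⟨n - 1, by omega⟩
  have hz : ((2 ^ (m + 1) : ℕ) : ZMod (2 * 2 ^ (m + 1))) + (2 ^ (m + 1) : ℕ) = 0 := by
    rw [← Nat.cast_add, ZMod.natCast_eq_zero_iff]
    exact ⟨1, by ring⟩
  have hh : ((2 ^ m : ℕ) : ZMod (2 * 2 ^ (m + 1))) + (2 ^ m : ℕ) = (2 ^ (m + 1) : ℕ) := by
    rw [← Nat.cast_add]; congr 1; ring
  refine ⟨e.symm (QuaternionGroup.a (2 ^ m : ℕ)), e.symm (QuaternionGroup.xa 0), e.symm (QuaternionGroup.a (2 ^ (m + 1) : ℕ)), ?_, ?_, ?_, ?_, ?_⟩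
  · rw [← map_mul, QuaternionGroup.a_mul_a, hh]
  · rw [← map_mul, QuaternionGroup.xa_mul_xa]
    congr 2
    push_cast; ring
  · rw [← map_mul, ← map_mul, ← map_mul, QuaternionGroup.xa_mul_a, QuaternionGroup.a_mul_xa, QuaternionGroup.a_mul_xa]
    congr 2
    have h3 : ((2 ^ m : ℕ) : ZMod (2 * 2 ^ (m + 1))) = -(2 ^ m : ℕ) - (2 ^ (m + 1) : ℕ) := by
      have h4 : ((2 ^ m : ℕ) : ZMod (2 * 2 ^ (m + 1))) + (2 ^ m : ℕ) + (2 ^ (m + 1) : ℕ) = 0 := by rw [hh, hz]
      linear_combination h4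
    rw [zero_add, zero_sub]
    exact h3
  · rw [← map_mul, QuaternionGroup.a_mul_a, hz, QuaternionGroup.a_zero, map_one]
  · intro h
    have h5 : (QuaternionGroup.a ((2 ^ (m + 1) : ℕ) : ZMod (2 * 2 ^ (m + 1))) : QuaternionGroup (2 ^ (m + 1))) = QuaternionGroup.a 0 := by
      apply e.symm.injective
      rw [h, QuaternionGroup.a_zero, map_one]
    injection h5 with h6
    rw [ZMod.natCast_eq_zero_iff] at h6
    have h7 := Nat.le_of_dvd (by positivity) h6
    have h8 : 0 < 2 ^ (m + 1) := by positivity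
    omega

theorem kernel_square {L : Type*} [Group L] [Finite L] (H : Subgroup L) (hF : Cfsg.IsFrobeniusComplement H)
    (hZ : ∃ (p : ℕ) (_ : Fact p.Prime) (P : Sylow p H), ¬ IsCyclic P) :
    Odd (Nat.card (Cfsg.frobeniusKernel H)) ∧ IsSquare (Nat.card (Cfsg.frobeniusKernel H)) := by
  classical
  obtain ⟨p, hp, P, hP⟩ := hZ
  have hfpf := isFpf_of_complement H hF
  have hp2 : p = 2 := by
    by_contra h
    exact hP (hfpf.cyclic_odd hp.out h P P.isPGroup')
  subst hp2
  obtain ⟨n, ⟨e⟩⟩ := (hfpf.two_sub P P.isPGroup').resolve_left hP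
  have hn : 1 ≤ n := by
    by_contra h
    have h0 : n = 0 := by omega
    subst h0
    apply hP
    have hc : IsCyclic (QuaternionGroup (2 ^ 0)) := by
      rw [pow_zero]; exact QuaternionGroup.quaternionGroup_one_isCyclic
    exact isCyclic_of_surjective e.symm e.symm.surjective
  obtain ⟨i, j, t, hi, hj, hij, ht, ht1⟩ := IsFpf.quat_rel hn e
  obtain ⟨N, hNk, hN, hc⟩ := Cfsg.Agent.S0035.result H hF
  haveI := hN
  have hcN : Nat.card (Cfsg.frobeniusKernel H) = Nat.card N := by rw [← hNk]; rfl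
  rw [hcN]
  let c : P → MulAut N := fun x => (MulAut.conjNormal : L →* MulAut N) (((x : H) : L))
  have hcm : ∀ x y v, c (x * y) v = c x (c y v) := by
    intro x y v
    show (MulAut.conjNormal : L →* MulAut N) ((((x : H) : L)) * ((y : H) : L)) v = _
    rw [map_mul]; rfl
  have hc1 : ∀ v, c 1 v = v := by
    intro v
    show (MulAut.conjNormal : L →* MulAut N) 1 v = v
    rw [map_one]; rfl
  have hfix : ∀ x, x ≠ 1 → ∀ v, c x v = v → v = 1 := by
    intro g hg v hv
    by_contra hv1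
    have h1 : ((g : H) : L) * v * ((g : H) : L)⁻¹ = v := by
      have := congrArg Subtype.val hv
      simpa [c, MulAut.conjNormal_apply] using this
    have hg1 : ((g : H) : L) ≠ 1 := fun h => hg (Subtype.ext (Subtype.ext h))
    have h2 : (v : L) * ((g : H) : L) = ((g : H) : L) * v := (mul_inv_eq_iff_eq_mul.mp h1).symm
    have h3 := CfsgLib.FrobH13.mem_of_commute hF (g : H).2 hg1 h2
    have h4 := CfsgLib.FrobH13.kernel_inf N hNk v.2 h3
    exact hv1 (Subtype.ext h4)
  have hfree : MonoidHom.FixedPointFree (c t) := fun g hg => hfix t ht1 g hg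
  have hinv : Function.Involutive (c t) := by
    intro x
    rw [← hcm, ht, hc1]
  have hneg : ∀ x, c t x = x⁻¹ := fun x => congrFun (hfree.coe_eq_inv_of_involutive hinv) x
  have hodd := hfree.odd_card_of_involutive hinv
  refine ⟨hodd, ?_⟩
  have hcomm := hfree.commute_all_of_involutive hinv
  letI : CommGroup N := { (inferInstance : Group N) with mul_comm := fun a b => hcomm a b }
  let I : Additive N →+ Additive N := MonoidHom.toAdditive (c i).toMonoidHom
  let J : Additive N →+ Additive N := MonoidHom.toAdditive (c j).toMonoidHom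
  have := sq_card (Nat.card (Additive N)) I J rfl hodd (fun x => by
    show Additive.ofMul (c i (c i (Additive.toMul x))) = -x
    rw [← hcm, hi, hneg]; rfl) (fun x => by
    show Additive.ofMul (c j (c j (Additive.toMul x))) = -x
    rw [← hcm, hj, hneg]; rfl) (fun x => by
    show Additive.ofMul (c j (c i (Additive.toMul x))) = -(Additive.ofMul (c i (c j (Additive.toMul x))))
    rw [← hcm, hij, hcm, hneg, hcm]; rfl)
  exact this

end CfsgLib.H6Zas
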