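import Cfsg.Statements.S0201
import Cfsg.Agent.LibZStar3

set_option autoImplicit false
open Cfsg

namespace Cfsg.Agent.S0201


/-- Brauer–Suzuki Theorem: if a Sylow 2-subgroup of a finite group is generalized quaternion (of order at least 8) and the group has no nontrivial normal subgroup of odd order, then its centre has order 2. -/
theorem result {G : Type*} [Group G] [Finite G] (S : Sylow 2 G) (n : ℕ) (e : (S : Subgroup G) ≃* QuaternionGroup (2 ^ (n + 1))) (hO : ∀ N : Subgroup G, N.Normal → Odd (Nat.card N) → N = ⊥) : Nat.card (Subgroup.center G) = 2 := by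
  classical
  haveI : Fact (Nat.Prime 2) := ⟨Nat.prime_two⟩
  rcases n with _ | m
  · have e' : (S : Subgroup G) ≃* QuaternionGroup 2 := e
    have hq := CfsgLib.Q8.IsQ8.of_equiv e'
    obtain ⟨t, ht⟩ : ∃ t', t' = ((e'.symm (QuaternionGroup.a 2) : (S : Subgroup G)) : G) := ⟨_, rfl⟩
    rw [← ht] at hq
    have ht2 : orderOf t = 2 := orderOf_eq_prime (by rw [pow_two]; exact hq.tt) hq.ne
    have hiso : Cfsg.IsIsolatedInvolution t :=
      (CfsgLib.Isolated.isolated_iff_sylow S ht2 hq.mem).2 (fun g hg => by
        apply hq.unique hg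
        · intro h
          rw [mul_inv_eq_one] at h
          exact hq.ne (by simpa using h)
        · calc g * t * g⁻¹ * (g * t * g⁻¹) = g * (t * t) * g⁻¹ := by group
            _ = 1 := by rw [hq.tt]; group)
    have hz := CfsgLib.ZStar.zstar hiso
    have hcore : Cfsg.oddCore G = ⊥ := hO _ inferInstance CfsgLib.ZStar.oddCore_odd
    have htc : t ∈ Subgroup.center G := by
      rw [Subgroup.mem_center_iff]
      intro g
      have h1 := hz g
      rw [hcore, Subgroup.mem_bot, mul_inv_eq_one, mul_inv_eq_iff_eq_mul] at h1
      exact h1.symm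
    -- every central element is in `{1, t}`
    have hcen : Subgroup.center G = Subgroup.zpowers t := by
      apply le_antisymm
      · intro c hc
        -- the odd part of `c`
        obtain ⟨e, f, he, hf, hef⟩ := CfsgLib.PPChar.exists_exp (G := G) 2 Nat.prime_two
        have h1 : c ^ f = 1 := by
          have hcf : c ^ f ∈ Subgroup.center G := pow_mem hc f
          have hn : (Subgroup.zpowers (c ^ f)).Normal := ⟨by
            rintro x ⟨k, rfl⟩ g
            change g * (c ^ f) ^ k * g⁻¹ ∈ _
            rw [Subgroup.mem_center_iff.1 (zpow_mem hcf k) g, mul_inv_cancel_right]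
            exact ⟨k, rfl⟩⟩
          have h2 := hO _ hn (by
            rw [Nat.card_zpowers, ← Nat.not_even_iff_odd, even_iff_two_dvd]
            exact hf.ppart c)
          rwa [Subgroup.zpowers_eq_bot] at h2
        have h2 : c ^ e = c := by
          have := hef c
          rwa [h1, mul_one] at this
        obtain ⟨g, hg⟩ := CfsgLib.Q8.exists_conj_mem S (x := c) (by rw [← h2]; exact he.ppart c)
        rw [Subgroup.mem_center_iff.1 hc g, mul_inv_cancel_right] at hg
        by_cases c1 : c = 1
        · rw [c1]; exact one_mem _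
        by_cases c2 : c = t
        · rw [c2]; exact Subgroup.mem_zpowers t
        · exfalso
          obtain ⟨s, hs, hsc⟩ := hq.inv c hg c1 c2
          rw [Subgroup.mem_center_iff.1 hc s, mul_inv_cancel_right] at hsc
          exact hq.ne_inv hg c1 c2 hsc.symm
      · rwa [Subgroup.zpowers_le]
    rw [hcen, Nat.card_zpowers, ht2]
  · obtain ⟨a, x, hq⟩ := CfsgLib.BSz.exists_QD (S : Subgroup G) m e
    exact CfsgLib.BSz.card_center hq hO
end Cfsg.Agent.S0201
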