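import Cfsg.Agent.LibH6ZasI
import Cfsg.Agent.S0144
import Cfsg.Agent.S0201
import Cfsg.Agent.LibDkB29

/-! Double covers of `A₅` of quaternion type; groups of order 120. -/

set_option autoImplicit false
set_option synthInstance.maxSize 2000

namespace CfsgLib.H6Zas

open Subgroup

/-- a unique, central involution -/
structure Z0 {G : Type*} [Group G] (z : G) : Prop where
  z1 : z ≠ 1
  zz : z * z = 1
  cen : ∀ g : G, g * z = z * g
  uniq : ∀ t : G, t * t = 1 → t ≠ 1 → t = z

theorem ZC.toZ0 {G : Type*} [Group G] {z : G} (Z : ZC z) : Z0 z := ⟨Z.z1, Z.zz, Z.cen, Z.uniq⟩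

theorem cover_iso0 {G₁ G₂ : Type*} [Group G₁] [Finite G₁] [Group G₂] [Finite G₂] {z₁ : G₁} {z₂ : G₂} (Z₁ : Z0 z₁)
    (Z₂ : Z0 z₂) (h₁ : Typ 5 z₁ (⊤ : Subgroup G₁)) (h₂ : Typ 5 z₂ (⊤ : Subgroup G₂))
    (p₁ : commutator G₁ = ⊤) (p₂ : commutator G₂ = ⊤) : Nonempty (G₁ ≃* G₂) := by
  classical
  obtain ⟨f₁, r₁, k₁⟩ := h₁
  obtain ⟨f₂, r₂, k₂⟩ := h₂
  let φ₁ : G₁ →* Equiv.Perm (Fin 5) := f₁.comp (topEquiv (G := G₁)).symm.toMonoidHom
  let φ₂ : G₂ →* Equiv.Perm (Fin 5) := f₂.comp (topEquiv (G := G₂)).symm.toMonoidHom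
  have hk₁ : ∀ g, φ₁ g = 1 ↔ g = 1 ∨ g = z₁ := fun g => k₁ ⟨g, mem_top g⟩
  have hk₂ : ∀ g, φ₂ g = 1 ↔ g = 1 ∨ g = z₂ := fun g => k₂ ⟨g, mem_top g⟩
  have hr₁ : ∀ σ, σ ∈ alternatingGroup (Fin 5) ↔ ∃ g, φ₁ g = σ := by
    intro σ
    rw [← r₁]
    constructor
    · rintro ⟨g, rfl⟩; exact ⟨g, rfl⟩
    · rintro ⟨g, rfl⟩; exact ⟨⟨g, mem_top g⟩, rfl⟩
  have hr₂ : ∀ σ, σ ∈ alternatingGroup (Fin 5) ↔ ∃ g, φ₂ g = σ := by
    intro σ
    rw [← r₂]
    constructor
    · rintro ⟨g, rfl⟩; exact ⟨g, rfl⟩
    · rintro ⟨g, rfl⟩; exact ⟨⟨g, mem_top g⟩, rfl⟩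
  let P : Subgroup (G₁ × G₂) :=
    { carrier := {x | φ₁ x.1 = φ₂ x.2}
      one_mem' := by simp
      mul_mem' := by
        intro x y hx hy
        show φ₁ (x.1 * y.1) = φ₂ (x.2 * y.2)
        rw [map_mul, map_mul, hx, hy]
      inv_mem' := by
        intro x hx
        show φ₁ (x.1)⁻¹ = φ₂ (x.2)⁻¹
        rw [map_inv, map_inv, hx] }
  have hP : ∀ x : G₁ × G₂, x ∈ P ↔ φ₁ x.1 = φ₂ x.2 := fun x => Iff.rfl
  have hz1P : (z₁, (1 : G₂)) ∈ P := by
    rw [hP, map_one]; exact (hk₁ z₁).mpr (Or.inr rfl)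
  have hz2P : ((1 : G₁), z₂) ∈ P := by
    rw [hP, map_one]; exact ((hk₂ z₂).mpr (Or.inr rfl)).symm
  let D : Subgroup (G₁ × G₂) := ⁅P, P⁆
  have hDP : D ≤ P := by
    rw [Subgroup.commutator_le]
    intro a ha b hb
    exact mul_mem (mul_mem (mul_mem ha hb) (inv_mem ha)) (inv_mem hb)
  have hP1 : P.map (MonoidHom.fst G₁ G₂) = ⊤ := by
    rw [eq_top_iff]
    intro g _
    obtain ⟨g', hg'⟩ := (hr₂ (φ₁ g)).mp ((hr₁ _).mpr ⟨g, rfl⟩)
    exact ⟨(g, g'), hg'.symm, rfl⟩
  have hP2 : P.map (MonoidHom.snd G₁ G₂) = ⊤ := by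
    rw [eq_top_iff]
    intro g _
    obtain ⟨g', hg'⟩ := (hr₁ (φ₂ g)).mp ((hr₂ _).mpr ⟨g, rfl⟩)
    exact ⟨(g', g), hg', rfl⟩
  have hD1 : D.map (MonoidHom.fst G₁ G₂) = ⊤ := by
    rw [Subgroup.map_commutator, hP1, ← _root_.commutator_def, p₁]
  have hD2 : D.map (MonoidHom.snd G₁ G₂) = ⊤ := by
    rw [Subgroup.map_commutator, hP2, ← _root_.commutator_def, p₂]
  -- `D ≠ P`
  have hne : D ≠ P := by
    intro heq
    have hperf : commutator P = ⊤ := by
      apply Subgroup.map_injective P.subtype_injective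
      rw [_root_.commutator_def, Subgroup.map_commutator, ← MonoidHom.range_eq_map, Subgroup.range_subtype]
      exact heq
    let ζ : P := ⟨(z₁, z₂), by rw [hP]; exact ((hk₁ z₁).mpr (Or.inr rfl)).trans ((hk₂ z₂).mpr (Or.inr rfl)).symm⟩
    have hζc : ∀ x : P, x * ζ = ζ * x := by
      rintro ⟨⟨a, b⟩, hx⟩
      apply Subtype.ext
      show (a * z₁, b * z₂) = (z₁ * a, z₂ * b)
      rw [Z₁.cen, Z₂.cen]
    have hζζ : ζ * ζ = 1 := by
      apply Subtype.ext
      show (z₁ * z₁, z₂ * z₂) = (1, 1)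
      rw [Z₁.zz, Z₂.zz]
    let N : Subgroup P := zpowers ζ
    have hNmem : ∀ x : P, x ∈ N ↔ x = 1 ∨ x = ζ := by
      intro x
      constructor
      · rintro ⟨i, rfl⟩
        have h2 : ζ ^ (2 : ℤ) = 1 := by
          rw [show (2 : ℤ) = 1 + 1 by norm_num, zpow_add, zpow_one, hζζ]
        have h3 : ζ ^ i = ζ ^ (i % 2) := by
          conv_lhs => rw [← Int.emod_add_mul_ediv i 2]
          rw [zpow_add, zpow_mul, h2, one_zpow, mul_one]
        show ζ ^ i = 1 ∨ ζ ^ i = ζ
        rw [h3]
        have h6 : i % 2 = 0 ∨ i % 2 = 1 := by omega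
        rcases h6 with h | h <;> rw [h]
        · left; simp
        · right; simp
      · rintro (rfl | rfl)
        · exact one_mem _
        · exact mem_zpowers _
    haveI : N.Normal := by
      refine ⟨fun n hn g => ?_⟩
      rw [hNmem] at hn ⊢
      rcases hn with rfl | rfl
      · left; group
      · right; rw [hζc, mul_inv_cancel_right]
    have hperf' := perfect_surj hperf (QuotientGroup.mk' N) (QuotientGroup.mk'_surjective N)
    haveI h2f : Fact (Nat.Prime 2) := ⟨Nat.prime_two⟩
    let w0 : P := ⟨((1 : G₁), z₂), hz2P⟩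
    have hw0c : ∀ x : P, x * w0 = w0 * x := by
      rintro ⟨⟨a, b⟩, hx⟩
      apply Subtype.ext
      show (a * 1, b * z₂) = (1 * a, z₂ * b)
      rw [Z₂.cen, mul_one, one_mul]
    have hw0w0 : w0 * w0 = 1 := by
      apply Subtype.ext
      show ((1 : G₁) * 1, z₂ * z₂) = (1, 1)
      rw [Z₂.zz, mul_one]
    let w : P ⧸ N := (w0 : P ⧸ N)
    have hww : w * w = 1 := by
      show ((w0 * w0 : P) : P ⧸ N) = 1
      rw [hw0w0]; rfl
    have hwc : ∀ g : P ⧸ N, g * w = w * g := by
      intro g
      obtain ⟨x, rfl⟩ := QuotientGroup.mk_surjective g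
      show ((x * w0 : P) : P ⧸ N) = ((w0 * x : P) : P ⧸ N)
      rw [hw0c]
    have hpw : IsPGroup 2 (zpowers w) := by
      intro x
      refine ⟨1, ?_⟩
      obtain ⟨i, hi⟩ := x.2
      apply Subtype.ext
      show (x : P ⧸ N) ^ 2 ^ 1 = 1
      rw [← hi]
      show (w ^ i) ^ 2 ^ 1 = 1
      rw [pow_one, ← zpow_natCast, ← zpow_mul, mul_comm i, zpow_mul, zpow_natCast, pow_two, hww, one_zpow]
    obtain ⟨T, hT⟩ := hpw.exists_le_sylow
    -- all 2-elements have order at most two
    have hsq : ∀ x ∈ (T : Subgroup (P ⧸ N)), x * x = 1 := by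
      intro x hx
      obtain ⟨k, hk⟩ := T.2 ⟨x, hx⟩
      have hk' : x ^ 2 ^ k = 1 := congrArg Subtype.val hk
      obtain ⟨⟨⟨a, b⟩, hab⟩, rfl⟩ := QuotientGroup.mk_surjective x
      set y : P := ⟨(a, b), hab⟩ with hy
      have h1 : y ^ 2 ^ k ∈ N := by
        rw [← QuotientGroup.eq_one_iff]; exact hk'
      have h2 : y ^ 2 ^ (k + 1) = 1 := by
        rw [pow_succ, pow_mul]
        rw [hNmem] at h1
        rcases h1 with h1 | h1
        · rw [h1, one_pow]
        · rw [h1, pow_two, hζζ]
      have h3 : a ^ 2 ^ (k + 1) = 1 := congrArg (fun t : P => (t : G₁ × G₂).1) h2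
      have hab' : φ₁ a = φ₂ b := hab
      have h4 : (φ₁ a) * (φ₁ a) = 1 := by
        refine perm5_two (k := k + 1) ?_ (by rw [← map_pow, h3, map_one])
        exact Equiv.Perm.mem_alternatingGroup.mp ((hr₁ _).mpr ⟨a, rfl⟩)
      have h5 : y * y ∈ N := by
        rw [hNmem]
        have e1 : φ₁ (a * a) = 1 := by rw [map_mul, h4]
        have e2 : φ₂ (b * b) = 1 := by rw [map_mul, ← hab', h4]
        rw [hk₁] at e1
        rw [hk₂] at e2
        by_cases hσ : φ₁ a = 1
        · left
          have ha1 := (hk₁ a).mp hσ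
          have hb1 := (hk₂ b).mp (hab'.symm.trans hσ)
          have ha2 : a * a = 1 := by
            rcases ha1 with h | h
            · rw [h, one_mul]
            · rw [h, Z₁.zz]
          have hb2 : b * b = 1 := by
            rcases hb1 with h | h
            · rw [h, one_mul]
            · rw [h, Z₂.zz]
          apply Subtype.ext
          show (a * a, b * b) = (1, 1)
          rw [ha2, hb2]
        · right
          have ha2 : a * a = z₁ := by
            rcases e1 with h | h
            · exfalso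
              apply hσ
              rw [hk₁]
              by_cases h' : a = 1
              · exact Or.inl h'
              · exact Or.inr (Z₁.uniq a h h')
            · exact h
          have hb2 : b * b = z₂ := by
            rcases e2 with h | h
            · exfalso
              apply hσ
              rw [hab', hk₂]
              by_cases h' : b = 1
              · exact Or.inl h'
              · exact Or.inr (Z₂.uniq b h h')
            · exact h
          apply Subtype.ext
          show (a * a, b * b) = (z₁, z₂)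
          rw [ha2, hb2]
      show ((y * y : P) : P ⧸ N) = 1
      exact (QuotientGroup.eq_one_iff _).mpr h5
    have hTc : ∀ x ∈ (T : Subgroup (P ⧸ N)), ∀ y ∈ (T : Subgroup (P ⧸ N)), x * y = y * x := by
      intro x hx y hy
      have h1 := hsq _ (mul_mem hx hy)
      have h2 := hsq x hx
      have h3 := hsq y hy
      have e1 : x⁻¹ = x := inv_eq_of_mul_eq_one_left h2
      have e2 : y⁻¹ = y := inv_eq_of_mul_eq_one_left h3
      have e3 : (x * y)⁻¹ = x * y := inv_eq_of_mul_eq_one_left h1
      rw [mul_inv_rev, e1, e2] at e3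
      exact e3.symm
    have hw1 := perfect_central_sylow hperf' T hTc (hT (mem_zpowers w)) hwc
    have hw2 : w0 ∈ N := (QuotientGroup.eq_one_iff w0).mp hw1
    rw [hNmem] at hw2
    rcases hw2 with h | h
    · have : z₂ = 1 := congrArg (fun t : P => (t : G₁ × G₂).2) h
      exact Z₂.z1 this
    · have : (1 : G₁) = z₁ := congrArg (fun t : P => (t : G₁ × G₂).1) h
      exact Z₁.z1 this.symm
  have hn2 : ((1 : G₁), z₂) ∉ D := by
    intro h
    apply hne
    apply le_antisymm hDP
    rintro ⟨a, b⟩ hab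
    have h1 : a ∈ D.map (MonoidHom.fst G₁ G₂) := by rw [hD1]; trivial
    obtain ⟨⟨a', b'⟩, hd, rfl⟩ := h1
    have h2 : φ₁ a' = φ₂ b' := hDP hd
    have h3 : φ₂ (b'⁻¹ * b) = 1 := by
      rw [map_mul, map_inv, ← h2]
      have h4 : φ₁ a' = φ₂ b := hab
      rw [h4, inv_mul_cancel]
    rw [hk₂] at h3
    rcases h3 with h3 | h3
    · have h5 : b = b' := (inv_mul_eq_one.mp h3).symm
      rw [h5]; exact hd
    · have h5 : (a', b) = (a', b') * ((1 : G₁), z₂) := by
        rw [Prod.mk_mul_mk, mul_one, ← h3, mul_inv_cancel_left]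
      show (a', b) ∈ D
      rw [h5]; exact mul_mem hd h
  have hn1 : (z₁, (1 : G₂)) ∉ D := by
    intro h
    apply hne
    apply le_antisymm hDP
    rintro ⟨a, b⟩ hab
    have h1 : b ∈ D.map (MonoidHom.snd G₁ G₂) := by rw [hD2]; trivial
    obtain ⟨⟨a', b'⟩, hd, rfl⟩ := h1
    have h2 : φ₁ a' = φ₂ b' := hDP hd
    have h3 : φ₁ (a'⁻¹ * a) = 1 := by
      rw [map_mul, map_inv, h2]
      have h4 : φ₁ a = φ₂ b' := hab
      rw [h4, inv_mul_cancel]
    rw [hk₁] at h3
    rcases h3 with h3 | h3
    · have h5 : a = a' := (inv_mul_eq_one.mp h3).symm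
      rw [h5]; exact hd
    · have h5 : (a, b') = (a', b') * (z₁, (1 : G₂)) := by
        rw [Prod.mk_mul_mk, mul_one, ← h3, mul_inv_cancel_left]
      show (a, b') ∈ D
      rw [h5]; exact mul_mem hd h
  let q₁ : D →* G₁ := (MonoidHom.fst G₁ G₂).comp D.subtype
  let q₂ : D →* G₂ := (MonoidHom.snd G₁ G₂).comp D.subtype
  have b₁ : Function.Bijective q₁ := by
    refine ⟨?_, ?_⟩
    · rw [injective_iff_map_eq_one]
      rintro ⟨⟨a, b⟩, hd⟩ h
      have ha : a = 1 := h
      subst ha
      have h1 : φ₁ 1 = φ₂ b := hDP hd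
      rw [map_one, eq_comm, hk₂] at h1
      rcases h1 with h1 | h1
      · subst h1; rfl
      · subst h1; exact absurd hd hn2
    · intro g
      have h1 : g ∈ D.map (MonoidHom.fst G₁ G₂) := by rw [hD1]; trivial
      obtain ⟨x, hx, rfl⟩ := h1
      exact ⟨⟨x, hx⟩, rfl⟩
  have b₂ : Function.Bijective q₂ := by
    refine ⟨?_, ?_⟩
    · rw [injective_iff_map_eq_one]
      rintro ⟨⟨a, b⟩, hd⟩ h
      have hb : b = 1 := h
      subst hb
      have h1 : φ₁ a = φ₂ 1 := hDP hd
      rw [map_one, hk₁] at h1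
      rcases h1 with h1 | h1
      · subst h1; rfl
      · subst h1; exact absurd hd hn1
    · intro g
      have h1 : g ∈ D.map (MonoidHom.snd G₁ G₂) := by rw [hD2]; trivial
      obtain ⟨x, hx, rfl⟩ := h1
      exact ⟨⟨x, hx⟩, rfl⟩
  exact ⟨(MulEquiv.ofBijective q₁ b₁).symm.trans (MulEquiv.ofBijective q₂ b₂)⟩


theorem small_solvable {X : Type*} [Group X] [Finite X] (h : Nat.card X ∣ 60) (h60 : Nat.card X ≠ 60) : Group.IsSolvable X := by
  have hle := Nat.le_of_dvd (by norm_num) h
  have hsf : Squarefree (Nat.card X) → Group.IsSolvable X := by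
    intro hs
    haveI := IsZGroup.of_squarefree hs
    infer_instance
  have hcases : Nat.card X = 1 ∨ Nat.card X = 2 ∨ Nat.card X = 3 ∨ Nat.card X = 4 ∨ Nat.card X = 5 ∨ Nat.card X = 6 ∨
      Nat.card X = 10 ∨ Nat.card X = 12 ∨ Nat.card X = 15 ∨ Nat.card X = 20 ∨ Nat.card X = 30 := by
    generalize Nat.card X = m at *
    interval_cases m <;> omega
  rcases hcases with h | h | h | h | h | h | h | h | h | h | h
  · exact hsf (by rw [h]; exact squarefree_one)
  · exact hsf (by rw [h]; exact Nat.prime_two.squarefree)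
  · exact hsf (by rw [h]; exact Nat.prime_three.squarefree)
  · exact Cfsg.Agent.S0144.result 2 3 2 0 Nat.prime_two Nat.prime_three (by rw [h]; norm_num)
  · exact hsf (by rw [h]; exact Nat.prime_five.squarefree)
  · exact hsf (by rw [h]; decide +kernel)
  · exact hsf (by rw [h]; decide +kernel)
  · exact Cfsg.Agent.S0144.result 2 3 2 1 Nat.prime_two Nat.prime_three (by rw [h]; norm_num)
  · exact hsf (by rw [h]; decide +kernel)
  · exact Cfsg.Agent.S0144.result 2 5 2 1 Nat.prime_two Nat.prime_five (by rw [h]; norm_num)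
  · exact hsf (by rw [h]; decide +kernel)

theorem simple_of_60 {X : Type*} [Group X] [Finite X] (h60 : Nat.card X = 60) (hns : ¬ Group.IsSolvable X) :
    IsSimpleGroup X := by
  haveI : Nontrivial X := by
    rw [← Finite.one_lt_card_iff_nontrivial, h60]; norm_num
  refine ⟨fun K hK => ?_⟩
  haveI := hK
  by_contra hne
  push Not at hne
  apply hns
  have h1 : Nat.card K ∣ 60 := by rw [← h60]; exact Subgroup.card_subgroup_dvd_card K
  have h2 : Nat.card K ≠ 60 := by
    intro h
    exact hne.2 (Subgroup.eq_top_of_card_eq K (by rw [h, h60]))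
  have h3 : Nat.card (X ⧸ K) ∣ 60 := by rw [← h60]; exact Subgroup.card_quotient_dvd_card K
  have h4 : Nat.card (X ⧸ K) ≠ 60 := by
    intro h
    have h5 := K.card_mul_index
    rw [Subgroup.index, h, h60] at h5
    exact hne.1 (Subgroup.card_eq_one.mp (by omega))
  haveI := small_solvable h1 h2
  haveI := small_solvable h3 h4
  exact Group.isSolvable_of_ker_le_range K.subtype (QuotientGroup.mk' K) (by rw [Subgroup.range_subtype, QuotientGroup.ker_mk'])

theorem order120 {G : Type*} [Group G] [Finite G] (hc : Nat.card G = 120) (hns : ¬ Group.IsSolvable G)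
    (hQ : ∀ P : Sylow 2 G, Nonempty ((P : Subgroup G) ≃* QuaternionGroup 2)) : Nonempty (G ≃* SL25) := by
  classical
  haveI : Fact (Nat.Prime 2) := ⟨Nat.prime_two⟩
  obtain ⟨T⟩ : Nonempty (Sylow 2 G) := inferInstance
  obtain ⟨e⟩ := hQ T
  -- no normal subgroups of odd order
  have hO : ∀ N : Subgroup G, N.Normal → Odd (Nat.card N) → N = ⊥ := by
    intro N hN hodd
    haveI := hN
    by_contra hne
    have h1 : Nat.card N ∣ 120 := by rw [← hc]; exact Subgroup.card_subgroup_dvd_card N
    have h2 : Nat.card N ∣ 15 := by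
      have h3 : Nat.Coprime (Nat.card N) 8 := by
        have : Nat.Coprime (Nat.card N) (2 ^ 3) := (Nat.coprime_two_right.mpr hodd).pow_right 3
        simpa using this
      exact h3.dvd_of_dvd_mul_left (by simpa using h1)
    have hN1 : Nat.card N ≠ 1 := fun h => hne (Subgroup.card_eq_one.mp h)
    have h4 : Nat.card N = 3 ∨ Nat.card N = 5 ∨ Nat.card N = 15 := by
      have hle := Nat.le_of_dvd (by norm_num) h2
      generalize Nat.card N = m at *
      interval_cases m <;> omega
    have h5 := N.card_mul_index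
    rw [hc] at h5
    apply hns
    haveI : Group.IsSolvable N := by
      haveI : IsZGroup N := by
        apply IsZGroup.of_squarefree
        rcases h4 with h | h | h <;> rw [h] <;> decide +kernel
      infer_instance
    haveI : Group.IsSolvable (G ⧸ N) := by
      rcases h4 with h | h | h
      · rw [h] at h5
        exact Cfsg.Agent.S0144.result 2 5 3 1 Nat.prime_two Nat.prime_five (by
          show N.index = _
          omega)
      · rw [h] at h5
        exact Cfsg.Agent.S0144.result 2 3 3 1 Nat.prime_two Nat.prime_three (by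
          show N.index = _
          omega)
      · rw [h] at h5
        exact Cfsg.Agent.S0144.result 2 3 3 0 Nat.prime_two Nat.prime_three (by
          show N.index = _
          omega)
    exact Group.isSolvable_of_ker_le_range N.subtype (QuotientGroup.mk' N) (by rw [Subgroup.range_subtype, QuotientGroup.ker_mk'])
  have hcen := Cfsg.Agent.S0201.result T 0 (e.trans (MulEquiv.refl _)) hO
  set C := center G with hC
  -- the central involution
  haveI : Nontrivial C := by
    rw [← Finite.one_lt_card_iff_nontrivial, hcen]; norm_num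
  obtain ⟨⟨z, hzC⟩, hz1'⟩ := exists_ne (1 : C)
  have hz1 : z ≠ 1 := fun h => hz1' (Subtype.ext h)
  have hzz : z * z = 1 := by
    have h1 : (⟨z, hzC⟩ : C) ^ 2 = 1 := by rw [← hcen]; exact pow_card_eq_one'
    rw [← pow_two]; exact congrArg Subtype.val h1
  have hzcen : ∀ g : G, g * z = z * g := fun g => Subgroup.mem_center_iff.mp hzC g
  have hCmem : ∀ x : G, x ∈ C ↔ x = 1 ∨ x = z := by
    intro x
    constructor
    · intro hx
      by_contra hcon
      push Not at hcon
      have h3 : ({1, ⟨z, hzC⟩, ⟨x, hx⟩} : Finset C).card = 3 := by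
        rw [Finset.card_eq_three]
        refine ⟨_, _, _, ?_, ?_, ?_, rfl⟩
        · exact fun h => hz1 (congrArg Subtype.val h).symm
        · exact fun h => hcon.1 (congrArg Subtype.val h).symm
        · exact fun h => hcon.2 (congrArg Subtype.val h).symm
      haveI := Fintype.ofFinite C
      have h4 := Finset.card_le_univ ({1, ⟨z, hzC⟩, ⟨x, hx⟩} : Finset C)
      rw [h3, ← Nat.card_eq_fintype_card, hcen] at h4
      omega
    · rintro (rfl | rfl)
      · exact one_mem _
      · exact hzC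
  have hQ8 : ∀ x : QuaternionGroup 2, x * x = 1 → x ≠ 1 → x = QuaternionGroup.a 2 := by decide +kernel
  have hzT : ∀ P : Sylow 2 G, z ∈ (P : Subgroup G) := by
    intro P
    have hp : IsPGroup 2 C := IsPGroup.of_card (n := 1) (by rw [hcen]; norm_num)
    obtain ⟨Q, hQ'⟩ := hp.exists_le_sylow
    obtain ⟨g, hg⟩ := MulAction.exists_smul_eq G Q P
    rw [← hg]
    have h1 : z ∈ (Q : Subgroup G) := hQ' hzC
    rw [Sylow.coe_subgroup_smul, Subgroup.mem_pointwise_smul_iff_inv_smul_mem]
    have : (MulAut.conj g)⁻¹ • z = z := by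
      rw [← map_inv, MulAut.smul_def, MulAut.conj_apply, inv_inv, hzcen g⁻¹, inv_mul_cancel_right]
    rwa [this]
  have Z : Z0 z := by
    refine ⟨hz1, hzz, hzcen, ?_⟩
    intro t ht ht1
    have hp : IsPGroup 2 (zpowers t) := by
      have : orderOf t = 2 := orderOf_eq_prime (by rw [pow_two, ht]) ht1
      exact IsPGroup.of_card (n := 1) (by rw [Nat.card_zpowers, this]; norm_num)
    obtain ⟨P, hP⟩ := hp.exists_le_sylow
    obtain ⟨e'⟩ := hQ P
    have htP : t ∈ (P : Subgroup G) := hP (mem_zpowers t)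
    have h1 := hQ8 (e' ⟨t, htP⟩) (by rw [← map_mul]; rw [show (⟨t, htP⟩ : (P : Subgroup G)) * ⟨t, htP⟩ = 1 from Subtype.ext ht, map_one])
      (fun h => ht1 (congrArg Subtype.val (e'.injective (h.trans (map_one e').symm))))
    have h2 := hQ8 (e' ⟨z, hzT P⟩) (by rw [← map_mul]; rw [show (⟨z, hzT P⟩ : (P : Subgroup G)) * ⟨z, hzT P⟩ = 1 from Subtype.ext hzz, map_one])
      (fun h => hz1 (congrArg Subtype.val (e'.injective (h.trans (map_one e').symm))))
    exact congrArg Subtype.val (e'.injective (h1.trans h2.symm))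
  -- the quotient is `A₅`
  have hX60 : Nat.card (G ⧸ C) = 60 := by
    have := C.card_mul_index
    rw [hcen, hc] at this
    show C.index = 60
    omega
  have hXns : ¬ Group.IsSolvable (G ⧸ C) := by
    intro hs
    apply hns
    haveI : Group.IsSolvable C := small_solvable (by rw [hcen]; norm_num) (by rw [hcen]; norm_num)
    exact Group.isSolvable_of_ker_le_range C.subtype (QuotientGroup.mk' C) (by rw [Subgroup.range_subtype, QuotientGroup.ker_mk'])
  haveI := simple_of_60 hX60 hXns
  obtain ⟨f⟩ := CfsgLib.Dk29.simple60 hX60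
  have hperfX : commutator (G ⧸ C) = ⊤ := by
    have hn : (commutator (G ⧸ C)).Normal := inferInstance
    rcases hn.eq_bot_or_eq_top with h | h
    · exfalso
      apply hXns
      exact ⟨⟨1, by rw [derivedSeries_one]; exact h⟩⟩
    · exact h
  have hperf : commutator G = ⊤ := by
    -- the derived subgroup covers the quotient
    have hsup : commutator G ⊔ C = ⊤ := by
      have h1 : (commutator G).map (QuotientGroup.mk' C) = ⊤ := by
        rw [_root_.commutator_def, Subgroup.map_commutator, ← MonoidHom.range_eq_map,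
          MonoidHom.range_eq_top.mpr (QuotientGroup.mk'_surjective C), ← _root_.commutator_def, hperfX]
      rw [eq_top_iff]
      intro g _
      have h2 : (QuotientGroup.mk' C) g ∈ (commutator G).map (QuotientGroup.mk' C) := by rw [h1]; exact mem_top _
      obtain ⟨d, hd, hdg⟩ := h2
      have h3 : d⁻¹ * g ∈ C := QuotientGroup.eq.mp hdg
      have : g = d * (d⁻¹ * g) := by group
      rw [this]
      exact mul_mem (mem_sup_left hd) (mem_sup_right h3)
    by_contra hne
    -- then `z ∉ G'`
    have hz' : z ∉ commutator G := by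
      intro hz
      apply hne
      rw [← hsup]
      refine (sup_eq_left.mpr ?_).symm
      intro x hx
      rcases (hCmem x).mp hx with rfl | rfl
      · exact one_mem _
      · exact hz
    -- an element of order four in the Sylow subgroup has its square in the derived subgroup
    obtain ⟨x, hx⟩ : ∃ x : G, x * x = z := by
      refine ⟨(e.symm (QuaternionGroup.a 1) : (T : Subgroup G)), ?_⟩
      have h1 := hQ8 (e ⟨z, hzT T⟩) (by rw [← map_mul]; rw [show (⟨z, hzT T⟩ : (T : Subgroup G)) * ⟨z, hzT T⟩ = 1 from Subtype.ext hzz, map_one])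
        (fun h => hz1 (congrArg Subtype.val (e.injective (h.trans (map_one e).symm))))
      have h2 : e.symm (QuaternionGroup.a 1) * e.symm (QuaternionGroup.a 1) = (⟨z, hzT T⟩ : (T : Subgroup G)) := by
        apply e.injective
        rw [h1, ← map_mul, e.apply_symm_apply]
        decide
      exact congrArg Subtype.val h2
    have h3 : x ∈ commutator G ⊔ C := by rw [hsup]; exact mem_top x
    rw [Subgroup.mem_sup_of_normal_left] at h3
    obtain ⟨d, hd, c, hcC, rfl⟩ := h3
    have hcc : c * c = 1 := by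
      rcases (hCmem c).mp hcC with rfl | rfl
      · rw [one_mul]
      · exact hzz
    have hcd : c * d = d * c := (Subgroup.mem_center_iff.mp hcC d).symm
    have h4 : d * c * (d * c) = d * d := by
      calc d * c * (d * c) = d * (c * d) * c := by group
        _ = d * d * (c * c) := by rw [hcd]; group
        _ = d * d := by rw [hcc, mul_one]
    rw [h4] at hx
    exact hz' (by rw [← hx]; exact mul_mem hd hd)
  -- `Typ 5`
  have hT5 : Typ 5 z (⊤ : Subgroup G) := by
    let φ : (⊤ : Subgroup G) →* Equiv.Perm (Fin 5) :=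
      (alternatingGroup (Fin 5)).subtype.comp (f.toMonoidHom.comp ((QuotientGroup.mk' C).comp (⊤ : Subgroup G).subtype))
    refine ⟨φ, ?_, ?_⟩
    · ext σ
      constructor
      · rintro ⟨x, rfl⟩
        exact (f (QuotientGroup.mk' C x)).2
      · intro hσ
        obtain ⟨y, hy⟩ := f.surjective ⟨σ, hσ⟩
        obtain ⟨g, rfl⟩ := QuotientGroup.mk'_surjective C y
        exact ⟨⟨g, mem_top g⟩, congrArg Subtype.val hy⟩
    · intro h
      have h1 : φ h = 1 ↔ (QuotientGroup.mk' C) (h : G) = 1 := by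
        constructor
        · intro hh
          have : f (QuotientGroup.mk' C (h : G)) = 1 := Subtype.ext hh
          exact f.injective (by rw [this, map_one])
        · intro hh
          show ((f (QuotientGroup.mk' C (h : G)) : alternatingGroup (Fin 5)) : Equiv.Perm (Fin 5)) = 1
          rw [hh, map_one]; rfl
      rw [h1, ← hCmem]
      exact QuotientGroup.eq_one_iff _
  obtain ⟨z', Z', hz'⟩ := sl25_typ
  exact cover_iso0 Z Z'.toZ0 hT5 hz' hperf sl25_perfect

end CfsgLib.H6Zas
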