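import Cfsg.Agent.LibH6ZasS
import Cfsg.Agent.LibH6ZasV

/-! The presentation of `SL(2,5)`. -/

set_option autoImplicit false
set_option synthInstance.maxSize 2000

namespace CfsgLib.H6Zas

open Subgroup

/-- coset enumeration for the triangle group `(2,3,5)` over the subgroup of order five -/
theorem tc12 {α : Type*} (x y : α → α) (hx : ∀ p, x (x (x p)) = p) (hy : ∀ p, y (y (y (y (y p)))) = p)
    (hxy : ∀ p, x (y (x (y p))) = p) (p0 : α) (h0 : y p0 = p0) :
    ∃ s : Fin 12 → α, s 0 = p0 ∧ (∀ i, ∃ j, x (s i) = s j) ∧ (∀ i, ∃ j, y (s i) = s j) := by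
  have ix : ∀ p q, x p = x q → p = q := by
    intro p q h
    rw [← hx p, ← hx q, h]
  have iy : ∀ p q, y p = y q → p = q := by
    intro p q h
    rw [← hy p, ← hy q, h]
  obtain ⟨p1, h1⟩ : ∃ p1, x p0 = p1 := ⟨_, rfl⟩
  obtain ⟨p2, h2⟩ : ∃ p2, x p1 = p2 := ⟨_, rfl⟩
  obtain ⟨p3, h3⟩ : ∃ p3, y p2 = p3 := ⟨_, rfl⟩
  obtain ⟨p4, h4⟩ : ∃ p4, y p3 = p4 := ⟨_, rfl⟩
  obtain ⟨p5, h5⟩ : ∃ p5, y p4 = p5 := ⟨_, rfl⟩
  obtain ⟨p6, h6⟩ : ∃ p6, x p5 = p6 := ⟨_, rfl⟩
  obtain ⟨p7, h7⟩ : ∃ p7, x p4 = p7 := ⟨_, rfl⟩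
  obtain ⟨p8, h8⟩ : ∃ p8, x p7 = p8 := ⟨_, rfl⟩
  obtain ⟨p9, h9⟩ : ∃ p9, y p8 = p9 := ⟨_, rfl⟩
  obtain ⟨p10, h10⟩ : ∃ p10, y p9 = p10 := ⟨_, rfl⟩
  obtain ⟨p11, h11⟩ : ∃ p11, x p10 = p11 := ⟨_, rfl⟩
  have a1 : x p2 = p0 := by rw [← h2, ← h1, hx]
  have a2 : y p1 = p2 := by
    apply ix
    have := hxy p0
    rw [h0, h1] at this
    rw [this, a1]
  have a3 : y p5 = p1 := by
    have := hy p1
    rwa [a2, h3, h4, h5] at this
  have a4 : x p3 = p5 := by
    apply iy
    apply ix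
    have := hxy p2
    rw [h3] at this
    rw [this, a3, h2]
  have a5 : x p6 = p3 := by
    have := hx p3
    rwa [a4, h6] at this
  have a6 : y p7 = p6 := by
    apply ix
    have := hxy p3
    rw [h4, h7] at this
    rw [this, a5]
  have a7 : x p8 = p4 := by
    have := hx p4
    rwa [h7, h8] at this
  have a8 : y p6 = p8 := by
    apply ix
    have := hxy p4
    rw [h5, h6] at this
    rw [this, a7]
  have a9 : y p10 = p7 := by
    have := hy p7
    rwa [a6, a8, h9, h10] at this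
  have a10 : x p9 = p10 := by
    apply iy
    apply ix
    have := hxy p8
    rw [h9] at this
    rw [this, a9, h8]
  have a11 : x p11 = p9 := by
    have := hx p9
    rwa [a10, h11] at this
  have a12 : y p11 = p11 := by
    apply ix
    have := hxy p9
    rw [h10, h11] at this
    rw [this, a11]
  refine ⟨![p0, p1, p2, p3, p4, p5, p6, p7, p8, p9, p10, p11], rfl, ?_, ?_⟩
  · intro i
    fin_cases i
    · exact ⟨1, h1⟩
    · exact ⟨2, h2⟩
    · exact ⟨0, a1⟩
    · exact ⟨5, a4⟩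
    · exact ⟨7, h7⟩
    · exact ⟨6, h6⟩
    · exact ⟨3, a5⟩
    · exact ⟨8, h8⟩
    · exact ⟨4, a7⟩
    · exact ⟨10, a10⟩
    · exact ⟨11, h11⟩
    · exact ⟨9, a11⟩
  · intro i
    fin_cases i
    · exact ⟨0, h0⟩
    · exact ⟨2, a2⟩
    · exact ⟨3, h3⟩
    · exact ⟨4, h4⟩
    · exact ⟨5, h5⟩
    · exact ⟨1, a3⟩
    · exact ⟨8, a8⟩
    · exact ⟨6, a6⟩
    · exact ⟨9, h9⟩
    · exact ⟨10, h10⟩
    · exact ⟨7, a9⟩
    · exact ⟨11, a12⟩

/-- a group generated by `X, Y, Z` subject to the relations has at most 120 elements -/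
theorem card_le_120 {P : Type*} [Group P] (X Y Z : P) (hX : X ^ 3 = 1) (hY : Y ^ 5 = 1) (hZ : Z ^ 2 = 1)
    (hXZ : X * Z = Z * X) (hYZ : Y * Z = Z * Y) (hXY : (X * Y) ^ 2 = Z) (hgen : closure {X, Y, Z} = ⊤) :
    Finite P ∧ Nat.card P ≤ 120 := by
  classical
  have hZc : ∀ g : P, g * Z = Z * g := by
    intro g
    have : (⊤ : Subgroup P) ≤ centralizer {Z} := by
      rw [← hgen, closure_le]
      rintro g (rfl | rfl | rfl)
      · rw [SetLike.mem_coe, mem_centralizer_singleton_iff]; exact hXZ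
      · rw [SetLike.mem_coe, mem_centralizer_singleton_iff]; exact hYZ
      · rw [SetLike.mem_coe, mem_centralizer_singleton_iff]
    have h := this (mem_top g)
    rw [mem_centralizer_singleton_iff] at h
    exact h
  -- the subgroup of order ten
  let K : Subgroup P := closure {Y, Z}
  have hYK : Y ∈ K := subset_closure (by simp)
  have hZK : Z ∈ K := subset_closure (by simp)
  have hcYZ : Commute Y Z := hYZ
  have hYmod : ∀ n : ℤ, ∃ i : Fin 5, Y ^ n = Y ^ (i : ℕ) := by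
    intro n
    have h1 : 0 ≤ n % 5 := Int.emod_nonneg n (by norm_num)
    have h2 : n % 5 < 5 := Int.emod_lt_of_pos n (by norm_num)
    refine ⟨⟨(n % 5).toNat, by omega⟩, ?_⟩
    have h3 : Y ^ n = Y ^ (n % 5) := by
      conv_lhs => rw [← Int.emod_add_mul_ediv n 5]
      rw [zpow_add, zpow_mul]
      have : Y ^ (5 : ℤ) = 1 := by exact_mod_cast hY
      rw [this, one_zpow, mul_one]
    rw [h3]
    show Y ^ (n % 5) = Y ^ (n % 5).toNat
    rw [← zpow_natCast, Int.toNat_of_nonneg h1]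
  have hZmod : ∀ n : ℤ, ∃ i : Fin 2, Z ^ n = Z ^ (i : ℕ) := by
    intro n
    have h1 : 0 ≤ n % 2 := Int.emod_nonneg n (by norm_num)
    have h2 : n % 2 < 2 := Int.emod_lt_of_pos n (by norm_num)
    refine ⟨⟨(n % 2).toNat, by omega⟩, ?_⟩
    have h3 : Z ^ n = Z ^ (n % 2) := by
      conv_lhs => rw [← Int.emod_add_mul_ediv n 2]
      rw [zpow_add, zpow_mul]
      have : Z ^ (2 : ℤ) = 1 := by exact_mod_cast hZ
      rw [this, one_zpow, mul_one]
    rw [h3]
    show Z ^ (n % 2) = Z ^ (n % 2).toNat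
    rw [← zpow_natCast, Int.toNat_of_nonneg h1]
  have hKel : ∀ g ∈ K, ∃ m n : ℤ, g = Y ^ m * Z ^ n := by
    intro g hg
    induction hg using closure_induction with
    | mem g hg =>
      rcases hg with rfl | hg
      · exact ⟨1, 0, by simp⟩
      · rw [Set.mem_singleton_iff] at hg; subst hg; exact ⟨0, 1, by simp⟩
    | one => exact ⟨0, 0, by simp⟩
    | mul a b ha hb iha ihb =>
      obtain ⟨m, n, rfl⟩ := iha
      obtain ⟨k, l, rfl⟩ := ihb
      refine ⟨m + k, n + l, ?_⟩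
      have hc : Z ^ n * Y ^ k = Y ^ k * Z ^ n := (hcYZ.zpow_zpow k n).symm.eq
      calc Y ^ m * Z ^ n * (Y ^ k * Z ^ l) = Y ^ m * (Z ^ n * Y ^ k) * Z ^ l := by group
        _ = Y ^ m * (Y ^ k * Z ^ n) * Z ^ l := by rw [hc]
        _ = Y ^ (m + k) * Z ^ (n + l) := by rw [zpow_add, zpow_add]; group
    | inv a ha iha =>
      obtain ⟨m, n, rfl⟩ := iha
      refine ⟨-m, -n, ?_⟩
      rw [mul_inv_rev, ← zpow_neg, ← zpow_neg]
      exact (hcYZ.zpow_zpow (-m) (-n)).symm.eq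
  let F : Fin 5 × Fin 2 → K := fun p => ⟨Y ^ (p.1 : ℕ) * Z ^ (p.2 : ℕ), mul_mem (pow_mem hYK _) (pow_mem hZK _)⟩
  have hFs : Function.Surjective F := by
    rintro ⟨g, hg⟩
    obtain ⟨m, n, rfl⟩ := hKel g hg
    obtain ⟨i, hi⟩ := hYmod m
    obtain ⟨j, hj⟩ := hZmod n
    exact ⟨(i, j), Subtype.ext (by show Y ^ (i : ℕ) * Z ^ (j : ℕ) = Y ^ m * Z ^ n; rw [hi, hj])⟩
  haveI : Finite K := Finite.of_surjective F hFs
  have hKc : Nat.card K ≤ 10 := by
    have := Nat.card_le_card_of_surjective F hFs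
    rw [Nat.card_prod, Nat.card_fin, Nat.card_fin] at this
    exact this
  -- the cosets
  have hZt : ∀ p : P ⧸ K, Z • p = p := by
    intro p
    obtain ⟨g, rfl⟩ := QuotientGroup.mk_surjective p
    show ((Z * g : P) : P ⧸ K) = (g : P ⧸ K)
    rw [← hZc, QuotientGroup.eq]
    have : (g * Z)⁻¹ * g = Z⁻¹ := by group
    rw [this]
    exact inv_mem hZK
  obtain ⟨s, hs0, hsx, hsy⟩ := tc12 (fun p : P ⧸ K => X • p) (fun p : P ⧸ K => Y • p)
    (fun p => by
      show X • X • X • p = p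
      rw [smul_smul, smul_smul, show X * X * X = X ^ 3 by simp only [pow_succ, pow_zero, one_mul], hX, one_smul])
    (fun p => by
      show Y • Y • Y • Y • Y • p = p
      rw [smul_smul, smul_smul, smul_smul, smul_smul, show Y * Y * Y * Y * Y = Y ^ 5 by simp only [pow_succ, pow_zero, one_mul], hY, one_smul])
    (fun p => by
      show X • Y • X • Y • p = p
      rw [smul_smul, smul_smul, smul_smul]
      have : X * Y * X * Y = (X * Y) ^ 2 := by rw [pow_two]; group
      rw [this, hXY]; exact hZt p)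
    ((1 : P) : P ⧸ K) (by
      show ((Y * 1 : P) : P ⧸ K) = ((1 : P) : P ⧸ K)
      rw [mul_one, eq_comm, QuotientGroup.eq, inv_one, one_mul]
      exact hYK)
  have hinvX : ∀ p : P ⧸ K, X⁻¹ • p = X • X • p := by
    intro p
    rw [smul_smul]
    congr 1
    rw [inv_eq_iff_mul_eq_one, ← pow_two, ← pow_succ', hX]
  have hinvY : ∀ p : P ⧸ K, Y⁻¹ • p = Y • Y • Y • Y • p := by
    intro p
    rw [smul_smul, smul_smul, smul_smul]
    congr 1
    rw [inv_eq_iff_mul_eq_one]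
    rw [← hY]; simp only [pow_succ, pow_zero, one_mul, mul_assoc]
  have hall : ∀ g : P, ∀ i, ∃ j, g • s i = s j := by
    intro g
    have hg : g ∈ closure {X, Y, Z} := by rw [hgen]; exact mem_top g
    induction hg using closure_induction'' with
    | mem g hg =>
      rcases hg with rfl | rfl | hg
      · exact hsx
      · exact hsy
      · rw [Set.mem_singleton_iff] at hg
        subst hg
        intro i; exact ⟨i, hZt _⟩
    | inv_mem g hg =>
      rcases hg with rfl | rfl | hg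
      · intro i
        obtain ⟨j, hj⟩ := hsx i
        obtain ⟨k, hk⟩ := hsx j
        exact ⟨k, by rw [hinvX, hj, hk]⟩
      · intro i
        obtain ⟨j, hj⟩ := hsy i
        obtain ⟨k, hk⟩ := hsy j
        obtain ⟨l, hl⟩ := hsy k
        obtain ⟨m, hm⟩ := hsy l
        exact ⟨m, by rw [hinvY, hj, hk, hl, hm]⟩
      · rw [Set.mem_singleton_iff] at hg
        subst hg
        intro i
        refine ⟨i, ?_⟩
        rw [inv_smul_eq_iff]; exact (hZt _).symm
    | one => intro i; exact ⟨i, one_smul _ _⟩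
    | mul a b ha hb iha ihb =>
      intro i
      obtain ⟨j, hj⟩ := ihb i
      obtain ⟨k, hk⟩ := iha j
      exact ⟨k, by rw [mul_smul, hj, hk]⟩
  have hss : Function.Surjective s := by
    intro p
    obtain ⟨g, rfl⟩ := QuotientGroup.mk_surjective p
    obtain ⟨j, hj⟩ := hall g 0
    refine ⟨j, ?_⟩
    rw [← hj, hs0]
    show ((g * 1 : P) : P ⧸ K) = _
    rw [mul_one]
  haveI : Finite (P ⧸ K) := Finite.of_surjective s hss
  have hqc : Nat.card (P ⧸ K) ≤ 12 := by
    have := Nat.card_le_card_of_surjective s hss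
    rwa [Nat.card_fin] at this
  have e := Subgroup.groupEquivQuotientProdSubgroup (s := K)
  haveI : Finite P := Finite.of_equiv _ e.symm
  refine ⟨inferInstance, ?_⟩
  rw [Nat.card_congr e, Nat.card_prod]
  calc Nat.card (P ⧸ K) * Nat.card K ≤ 12 * 10 := Nat.mul_le_mul hqc hKc
    _ = 120 := by norm_num

def xs : SL25 := ⟨!![0, 4; 1, 4], by decide +kernel⟩
def ys : SL25 := ⟨!![1, 1; 0, 1], by decide +kernel⟩
def zs : SL25 := ⟨!![4, 0; 0, 4], by decide +kernel⟩

theorem srel : xs ^ 3 = 1 ∧ ys ^ 5 = 1 ∧ zs ^ 2 = 1 ∧ zs⁻¹ * xs * zs * xs⁻¹ = 1 ∧ zs⁻¹ * ys * zs * ys⁻¹ = 1 ∧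
    (xs * ys) ^ 2 * zs⁻¹ = 1 ∧ xs ≠ 1 ∧ ys ≠ 1 ∧ (xs * ys) ^ 4 = 1 ∧ (xs * ys) ^ 2 ≠ 1 := by decide +kernel

theorem pres :
    Nonempty (PresentedGroup ({FreeGroup.of (0 : Fin 3) ^ 3, FreeGroup.of (1 : Fin 3) ^ 5, FreeGroup.of (2 : Fin 3) ^ 2,
        (FreeGroup.of (2 : Fin 3))⁻¹ * FreeGroup.of 0 * FreeGroup.of 2 * (FreeGroup.of (0 : Fin 3))⁻¹,
        (FreeGroup.of (2 : Fin 3))⁻¹ * FreeGroup.of 1 * FreeGroup.of 2 * (FreeGroup.of (1 : Fin 3))⁻¹,
        (FreeGroup.of (0 : Fin 3) * FreeGroup.of 1) ^ 2 * (FreeGroup.of (2 : Fin 3))⁻¹} : Set (FreeGroup (Fin 3)))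
      ≃* SL25) := by
  classical
  set rels : Set (FreeGroup (Fin 3)) := {FreeGroup.of (0 : Fin 3) ^ 3, FreeGroup.of (1 : Fin 3) ^ 5, FreeGroup.of (2 : Fin 3) ^ 2,
        (FreeGroup.of (2 : Fin 3))⁻¹ * FreeGroup.of 0 * FreeGroup.of 2 * (FreeGroup.of (0 : Fin 3))⁻¹,
        (FreeGroup.of (2 : Fin 3))⁻¹ * FreeGroup.of 1 * FreeGroup.of 2 * (FreeGroup.of (1 : Fin 3))⁻¹,
        (FreeGroup.of (0 : Fin 3) * FreeGroup.of 1) ^ 2 * (FreeGroup.of (2 : Fin 3))⁻¹} with hrels
  let P := PresentedGroup rels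
  let m : FreeGroup (Fin 3) →* P := PresentedGroup.mk rels
  let X : P := m (FreeGroup.of 0)
  let Y : P := m (FreeGroup.of 1)
  let Z : P := m (FreeGroup.of 2)
  have hm : ∀ r ∈ rels, m r = 1 := fun r hr => PresentedGroup.one_of_mem hr
  have hX : X ^ 3 = 1 := by
    have := hm _ (show FreeGroup.of (0 : Fin 3) ^ 3 ∈ rels by rw [hrels]; simp)
    rwa [map_pow] at this
  have hY : Y ^ 5 = 1 := by
    have := hm _ (show FreeGroup.of (1 : Fin 3) ^ 5 ∈ rels by rw [hrels]; simp)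
    rwa [map_pow] at this
  have hZ : Z ^ 2 = 1 := by
    have := hm _ (show FreeGroup.of (2 : Fin 3) ^ 2 ∈ rels by rw [hrels]; simp)
    rwa [map_pow] at this
  have hXZ : X * Z = Z * X := by
    have := hm _ (show (FreeGroup.of (2 : Fin 3))⁻¹ * FreeGroup.of 0 * FreeGroup.of 2 * (FreeGroup.of (0 : Fin 3))⁻¹ ∈ rels by rw [hrels]; simp)
    rw [map_mul, map_mul, map_mul, map_inv, map_inv] at this
    have h2 : Z⁻¹ * X * Z = X := mul_inv_eq_one.mp this
    calc X * Z = Z * (Z⁻¹ * X * Z) := by group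
      _ = Z * X := by rw [h2]
  have hYZ : Y * Z = Z * Y := by
    have := hm _ (show (FreeGroup.of (2 : Fin 3))⁻¹ * FreeGroup.of 1 * FreeGroup.of 2 * (FreeGroup.of (1 : Fin 3))⁻¹ ∈ rels by rw [hrels]; simp)
    rw [map_mul, map_mul, map_mul, map_inv, map_inv] at this
    have h2 : Z⁻¹ * Y * Z = Y := mul_inv_eq_one.mp this
    calc Y * Z = Z * (Z⁻¹ * Y * Z) := by group
      _ = Z * Y := by rw [h2]
  have hXY : (X * Y) ^ 2 = Z := by
    have := hm _ (show (FreeGroup.of (0 : Fin 3) * FreeGroup.of 1) ^ 2 * (FreeGroup.of (2 : Fin 3))⁻¹ ∈ rels by rw [hrels]; simp)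
    rw [map_mul, map_pow, map_mul, map_inv] at this
    exact mul_inv_eq_one.mp this
  have hgen : closure {X, Y, Z} = ⊤ := by
    rw [eq_top_iff, ← PresentedGroup.closure_range_of rels, closure_le]
    rintro _ ⟨i, rfl⟩
    fin_cases i
    · exact subset_closure (by simp [X, m]; left; rfl)
    · exact subset_closure (by simp [Y, m]; right; left; rfl)
    · exact subset_closure (by simp [Z, m]; right; right; rfl)
  obtain ⟨hfin, hcard⟩ := card_le_120 X Y Z hX hY hZ hXZ hYZ hXY hgen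
  obtain ⟨s1, s2, s3, s4, s5, s6, s7, s8, s9, s10⟩ := srel
  have hrel : ∀ r ∈ rels, FreeGroup.lift (![xs, ys, zs] : Fin 3 → SL25) r = 1 := by
    intro r hr
    rw [hrels] at hr
    rcases hr with rfl | rfl | rfl | rfl | rfl | rfl
    · simpa using s1
    · simpa using s2
    · simpa using s3
    · simpa using s4
    · simpa using s5
    · simpa using s6
  let f : P →* SL25 := PresentedGroup.toGroup hrel
  have hfx : f X = xs := by
    show PresentedGroup.toGroup hrel (PresentedGroup.of 0) = xs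
    rw [PresentedGroup.toGroup.of]; rfl
  have hfy : f Y = ys := by
    show PresentedGroup.toGroup hrel (PresentedGroup.of 1) = ys
    rw [PresentedGroup.toGroup.of]; rfl
  have hsurj : Function.Surjective f := by
    rw [← MonoidHom.range_eq_top, ← index_eq_one]
    have hcs := f.range.card_mul_index
    rw [card_sl25] at hcs
    have mx : xs ∈ f.range := ⟨X, hfx⟩
    have my : ys ∈ f.range := ⟨Y, hfy⟩
    have ho : ∀ g ∈ f.range, orderOf g ∣ Nat.card f.range := by
      intro g hg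
      have := orderOf_dvd_natCard (⟨g, hg⟩ : f.range)
      rwa [Subgroup.orderOf_mk] at this
    have h3 : 3 ∣ Nat.card f.range := by
      have : orderOf xs = 3 := orderOf_eq_prime s1 s7
      have h := ho _ mx
      rw [this] at h; exact h
    have h5 : 5 ∣ Nat.card f.range := by
      haveI : Fact (Nat.Prime 5) := ⟨Nat.prime_five⟩
      have : orderOf ys = 5 := orderOf_eq_prime s2 s8
      have h := ho _ my
      rw [this] at h; exact h
    have h4 : 4 ∣ Nat.card f.range := by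
      have : orderOf (xs * ys) = 2 ^ (1 + 1) := orderOf_eq_prime_pow (by rw [pow_one]; exact s10) s9
      have h6 := ho _ (mul_mem mx my)
      rw [this] at h6
      exact h6
    have h60 : 60 ∣ Nat.card f.range :=
      (Nat.Coprime.mul_dvd_of_dvd_of_dvd (by norm_num) (Nat.Coprime.mul_dvd_of_dvd_of_dvd (by norm_num) h3 h4 : 3 * 4 ∣ _) h5 : 3 * 4 * 5 ∣ _)
    obtain ⟨k, hk⟩ := h60
    rw [hk] at hcs
    have hki : k * f.range.index = 2 := by
      have : 60 * (k * f.range.index) = 60 * 2 := by rw [← mul_assoc, hcs]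
      omega
    have hdvd : f.range.index ∣ 2 := ⟨k, by rw [mul_comm]; exact hki.symm⟩
    rcases (Nat.dvd_prime Nat.prime_two).mp hdvd with h | h
    · exact h
    · exfalso
      haveI := Subgroup.normal_of_index_eq_two h
      have hc2 : Nat.card (SL25 ⧸ f.range) = 2 := h
      haveI : IsCyclic (SL25 ⧸ f.range) := isCyclic_of_prime_card (p := 2) hc2
      letI : CommGroup (SL25 ⧸ f.range) := IsCyclic.commGroup
      have h7 : ∀ g : SL25, QuotientGroup.mk' f.range g = 1 := fun g => perfect_hom sl25_perfect _ g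
      have h8 : Nat.card (SL25 ⧸ f.range) = 1 := by
        haveI : Subsingleton (SL25 ⧸ f.range) := ⟨fun a b => by
          obtain ⟨g, rfl⟩ := QuotientGroup.mk'_surjective f.range a
          obtain ⟨g', rfl⟩ := QuotientGroup.mk'_surjective f.range b
          rw [h7, h7]⟩
        exact Nat.card_unique
      omega
  have hbij : Function.Bijective f := by
    rw [Nat.bijective_iff_surjective_and_card]
    refine ⟨hsurj, le_antisymm ?_ ?_⟩
    · rw [card_sl25]; exact hcard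
    · exact Nat.card_le_card_of_surjective f hsurj
  exact ⟨MulEquiv.ofBijective f hbij⟩

end CfsgLib.H6Zas
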