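import Cfsg.Agent.LibH6ZasX

/-! Fixed-point-free Z-groups: presentation, main statement. -/

set_option autoImplicit false
set_option synthInstance.maxSize 2000

namespace CfsgLib.H6Zas

open Subgroup

theorem zgroup_gen {Z : Type*} [Group Z] [Finite Z] [IsZGroup Z] :
    ∃ (x y : Z) (n m : ℕ), 0 < n ∧ 0 < m ∧ orderOf x = n ∧ orderOf y = m ∧ Nat.Coprime n m ∧ Nat.card Z = n * m ∧
      commutator Z = zpowers y ∧ closure {x, y} = ⊤ := by
  classical
  have hcyc : IsCyclic (commutator Z) := IsZGroup.isCyclic_commutator Z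
  have hcop := IsZGroup.coprime_commutator_index Z
  obtain ⟨H, hH⟩ := Subgroup.exists_right_complement'_of_coprime (N := commutator Z) hcop
  have hHc : IsCyclic H := by
    haveI : IsCyclic (Abelianization Z) := inferInstance
    let f : H →* Abelianization Z := Abelianization.of.comp H.subtype
    refine isCyclic_of_injective f ?_
    rw [injective_iff_map_eq_one]
    intro a ha
    have h1 : (a : Z) ∈ commutator Z := (QuotientGroup.eq_one_iff _).mp ha
    have h2 : (a : Z) ∈ commutator Z ⊓ H := ⟨h1, a.2⟩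
    rw [hH.disjoint.eq_bot, mem_bot] at h2
    exact Subtype.ext h2
  obtain ⟨y, hy⟩ := hcyc.exists_generator
  obtain ⟨x, hx⟩ := hHc.exists_generator
  have hox : orderOf (x : Z) = Nat.card H := by
    rw [Subgroup.orderOf_coe]; exact orderOf_eq_card_of_forall_mem_zpowers hx
  have hoy : orderOf (y : Z) = Nat.card (commutator Z) := by
    rw [Subgroup.orderOf_coe]; exact orderOf_eq_card_of_forall_mem_zpowers hy
  have hidx : (commutator Z).index = Nat.card H := hH.symm.index_eq_card
  have hyz : commutator Z = zpowers (y : Z) := by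
    ext g
    constructor
    · intro hg
      obtain ⟨k, hk⟩ := hy ⟨g, hg⟩
      exact ⟨k, congrArg Subtype.val hk⟩
    · rintro ⟨k, rfl⟩
      exact zpow_mem y.2 k
  refine ⟨x, y, Nat.card H, Nat.card (commutator Z), Nat.card_pos, Nat.card_pos, hox, hoy, ?_, ?_, hyz, ?_⟩
  · rw [← hidx]; exact hcop.symm
  · rw [← (commutator Z).card_mul_index, hidx, mul_comm]
  · rw [eq_top_iff, ← hH.sup_eq_top]
    apply sup_le
    · refine hyz.le.trans ?_
      rw [zpowers_le]; exact subset_closure (by simp)
    · intro g hg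
      obtain ⟨k, hk⟩ := hx ⟨g, hg⟩
      have : (x : Z) ^ k = g := congrArg Subtype.val hk
      rw [← this]
      exact zpow_mem (subset_closure (by simp)) k

theorem IsFpf.zgroup_pres {Z : Type*} [Group Z] [Finite Z] (hF : IsFpf Z) [IsZGroup Z] :
    ∃ n m r : ℕ, 0 < n ∧ 0 < m ∧ Nat.Coprime (r - 1) m ∧ Nat.Coprime n m ∧ 1 ≤ r ∧
        r ^ (n / ∏ p ∈ n.primeFactors, p) % m = 1 % m ∧
        Nonempty (Z ≃* PresentedGroup
          ({FreeGroup.of (0 : Fin 2) ^ n, FreeGroup.of (1 : Fin 2) ^ m,
            (FreeGroup.of (0 : Fin 2))⁻¹ * FreeGroup.of 1 * FreeGroup.of 0 * (FreeGroup.of (1 : Fin 2) ^ r)⁻¹} :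
            Set (FreeGroup (Fin 2)))) := by
  classical
  obtain ⟨x, y, n, m, hn, hm, hox, hoy, hnm, hcard, hcomm, hgen⟩ := zgroup_gen (Z := Z)
  have hxn : x ^ n = 1 := by rw [← hox]; exact pow_orderOf_eq_one x
  have hym : y ^ m = 1 := by rw [← hoy]; exact pow_orderOf_eq_one y
  haveI hyn : (zpowers y).Normal := by rw [← hcomm]; infer_instance
  obtain ⟨r, hr1, hr⟩ : ∃ r : ℕ, 1 ≤ r ∧ x⁻¹ * y * x = y ^ r := by
    have h1 : x⁻¹ * y * x⁻¹⁻¹ ∈ zpowers y := hyn.conj_mem y (mem_zpowers y) x⁻¹
    rw [inv_inv, mem_zpowers_iff_mem_range_orderOf] at h1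
    obtain ⟨k, -, hk⟩ := Finset.mem_image.mp h1
    refine ⟨k + m, by omega, ?_⟩
    rw [pow_add, hym, mul_one]; exact hk.symm
  -- `gcd (r - 1, m) = 1`
  have hcop : Nat.Coprime (r - 1) m := by
    let K : Subgroup Z := zpowers (y ^ (r - 1))
    have hKN : K ≤ zpowers y := by
      rw [zpowers_le]; exact pow_mem (mem_zpowers y) _
    haveI hKn : K.Normal := by
      haveI : IsCyclic (zpowers y) := inferInstance
      refine ⟨fun k hk g => ?_⟩
      -- conjugation acts on the cyclic group as a power map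
      have h1 : g * y * g⁻¹ ∈ zpowers y := hyn.conj_mem y (mem_zpowers y) g
      obtain ⟨s, hs⟩ := h1
      have hs' : y ^ s = g * y * g⁻¹ := hs
      obtain ⟨t, ht⟩ := hk
      have ht' : (y ^ (r - 1)) ^ t = k := ht
      refine ⟨s * t, ?_⟩
      show (y ^ (r - 1)) ^ (s * t) = g * k * g⁻¹
      rw [← ht', ← conj_zpow, ← conj_pow, ← hs']
      rw [← zpow_natCast, ← zpow_natCast, ← zpow_mul, ← zpow_mul, ← zpow_mul]
      congr 1; ring
    have hle : commutator Z ≤ K := by
      -- the quotient by `K` is abelian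
      have hab : ∀ a b : Z ⧸ K, a * b = b * a := by
        have hxy : QuotientGroup.mk' K x * QuotientGroup.mk' K y = QuotientGroup.mk' K y * QuotientGroup.mk' K x := by
          have h1 : y * x = x * y ^ r := by rw [← hr]; group
          have h2 : QuotientGroup.mk' K (y ^ r) = QuotientGroup.mk' K y := by
            have h3 : y ^ r = y * y ^ (r - 1) := by rw [← pow_succ']; congr 1; omega
            rw [h3, map_mul]
            have h4 : QuotientGroup.mk' K (y ^ (r - 1)) = 1 := (QuotientGroup.eq_one_iff _).mpr (mem_zpowers _)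
            rw [h4, mul_one]
          rw [← map_mul, ← map_mul, h1, map_mul, map_mul, h2]
        have htop : closure {QuotientGroup.mk' K x, QuotientGroup.mk' K y} = (⊤ : Subgroup (Z ⧸ K)) := by
          rw [← Set.image_pair, ← MonoidHom.map_closure, hgen, ← MonoidHom.range_eq_map]
          exact MonoidHom.range_eq_top.mpr (QuotientGroup.mk'_surjective K)
        have hcl : IsMulCommutative (closure {QuotientGroup.mk' K x, QuotientGroup.mk' K y}) := by
          apply Subgroup.isMulCommutative_closure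
          intro a ha b hb
          rcases ha with rfl | ha <;> rcases hb with rfl | hb
          · rfl
          · rw [Set.mem_singleton_iff] at hb; subst hb; exact hxy
          · rw [Set.mem_singleton_iff] at ha; subst ha; exact hxy.symm
          · rw [Set.mem_singleton_iff] at ha hb; subst ha; rw [hb]
        intro a b
        have ha : a ∈ closure {QuotientGroup.mk' K x, QuotientGroup.mk' K y} := by rw [htop]; exact mem_top a
        have hb : b ∈ closure {QuotientGroup.mk' K x, QuotientGroup.mk' K y} := by rw [htop]; exact mem_top b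
        exact congrArg Subtype.val (hcl.is_comm.comm ⟨a, ha⟩ ⟨b, hb⟩)
      letI : CommGroup (Z ⧸ K) := { (inferInstance : Group (Z ⧸ K)) with mul_comm := hab }
      have := Abelianization.commutator_subset_ker (QuotientGroup.mk' K)
      rwa [QuotientGroup.ker_mk'] at this
    have hyK : y ∈ K := by
      apply hle; rw [hcomm]; exact mem_zpowers y
    have hKy : zpowers y = K := le_antisymm (zpowers_le.mpr hyK) hKN
    have h1 : orderOf (y ^ (r - 1)) = m := by
      rw [← Nat.card_zpowers]
      show Nat.card K = m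
      rw [← hKy, Nat.card_zpowers, hoy]
    rw [orderOf_pow, hoy] at h1
    have h2 : m.gcd (r - 1) = 1 := by
      have h3 := Nat.div_mul_cancel (Nat.gcd_dvd_left m (r - 1))
      rw [h1] at h3
      exact Nat.eq_of_mul_eq_mul_left hm (by rw [mul_one]; exact h3)
    rw [Nat.coprime_comm]; exact h2
  -- conjugation by powers of `x`
  have hconj : ∀ i : ℕ, (x ^ i)⁻¹ * y * x ^ i = y ^ (r ^ i) := by
    intro i
    induction i with
    | zero => simp
    | succ i ih =>
      have : (x ^ (i + 1))⁻¹ * y * x ^ (i + 1) = x⁻¹ * ((x ^ i)⁻¹ * y * x ^ i) * x := by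
        rw [pow_succ]; group
      rw [this, ih]
      have h2 : x⁻¹ * y ^ (r ^ i) * x = (x⁻¹ * y * x) ^ (r ^ i) := by
        have := conj_pow (a := x⁻¹) (b := y) (i := r ^ i)
        rw [inv_inv] at this
        exact this.symm
      rw [h2, hr, ← pow_mul, pow_succ']
  have hpowmod : ∀ a : ℕ, y ^ a = y ↔ (m : ℤ) ∣ (a : ℤ) - 1 := by
    intro a
    have h1 : y ^ a = y ^ 1 ↔ a ≡ 1 [MOD m] := by rw [← hoy]; exact pow_eq_pow_iff_modEq
    rw [pow_one] at h1
    rw [h1]
    constructor
    · intro h
      exact (Nat.modEq_iff_dvd.mp h.symm)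
    · intro h
      exact (Nat.modEq_iff_dvd.mpr h).symm
  -- the elements of prime order
  have hprime : ∀ p : ℕ, p.Prime → p ∣ n → y ^ (r ^ (n / p)) = y := by
    intro p hp hpn
    set u := x ^ (n / p) with hu
    set s := r ^ (n / p) with hs
    have hup : u ^ p = 1 := by rw [hu, ← pow_mul, Nat.div_mul_cancel hpn, hxn]
    have hus : ∀ i : ℕ, (u ^ i)⁻¹ * y * u ^ i = y ^ (s ^ i) := by
      intro i
      rw [hu, ← pow_mul, hconj, hs, ← pow_mul]
    have hpm : Nat.Coprime p m := Nat.Coprime.coprime_dvd_left hpn hnm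
    rw [hpowmod]
    apply dvd_sub_one hp hpm
    · have h1 := hus p
      rw [hup, inv_one, one_mul, mul_one] at h1
      have h2 := (hpowmod (s ^ p)).mp h1.symm
      rwa [Nat.cast_pow] at h2
    · intro q hq hqm
      set v := y ^ (m / q) with hv
      have hvq : v ^ q = 1 := by rw [hv, ← pow_mul, Nat.div_mul_cancel hqm, hym]
      have huv : u⁻¹ * v * u = v ^ s := by
        have h1 := hus 1
        rw [pow_one, pow_one] at h1
        have h2 : u⁻¹ * v * u = (u⁻¹ * y * u) ^ (m / q) := by
          have := conj_pow (a := u⁻¹) (b := y) (i := m / q)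
          rw [inv_inv] at this
          exact this.symm
        rw [h2, h1, hv, ← pow_mul, ← pow_mul, mul_comm]
      have h3 := hF.pq hp hq hup hvq huv
      have h4 : v ^ s = v := by
        rw [← huv, mul_assoc, ← h3]; group
      -- so `q ∣ s - 1`
      have hov : orderOf v = q := by
        rw [hv, orderOf_pow, hoy, Nat.gcd_eq_right (Nat.div_dvd_of_dvd hqm), Nat.div_div_self hqm hm.ne']
      have h5 : v ^ s = v ^ 1 := by rw [h4, pow_one]
      rw [pow_eq_pow_iff_modEq, hov] at h5
      exact Nat.modEq_iff_dvd.mp h5.symm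
  -- the last condition
  have hlast : r ^ (n / ∏ p ∈ n.primeFactors, p) % m = 1 % m := by
    let α : MulAut (zpowers y) := MulAut.conjNormal x⁻¹
    have hαi : ∀ i : ℕ, α ^ i = 1 ↔ y ^ (r ^ i) = y := by
      intro i
      have h1 : α ^ i = MulAut.conjNormal (x ^ i)⁻¹ := by
        rw [← map_pow, inv_pow]
      rw [h1]
      constructor
      · intro h
        have h2 := congrArg (fun β : MulAut (zpowers y) => ((β ⟨y, mem_zpowers y⟩ : zpowers y) : Z)) h
        simp only [MulAut.conjNormal_apply, MulAut.one_apply, inv_inv] at h2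
        rw [← hconj]; exact h2
      · intro h
        ext t
        rw [MulAut.conjNormal_apply, MulAut.one_apply, inv_inv]
        obtain ⟨k, hk⟩ := t.2
        have hk' : y ^ k = (t : Z) := hk
        rw [← hk']
        have h2 : (x ^ i)⁻¹ * y ^ k * x ^ i = ((x ^ i)⁻¹ * y * x ^ i) ^ k := by
          have := conj_zpow (a := (x ^ i)⁻¹) (b := y) (i := k)
          rw [inv_inv] at this
          exact this.symm
        rw [h2, hconj, h]
    have h2 := pow_rad hn α (fun p hp hpn => (hαi _).mpr (hprime p hp hpn)) (by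
      rw [hαi, ← hconj, hxn]; group)
    have h3 := (hαi _).mp h2
    have h4 : y ^ (r ^ (n / ∏ p ∈ n.primeFactors, p)) = y ^ 1 := by rw [h3, pow_one]
    rw [pow_eq_pow_iff_modEq, hoy] at h4
    exact h4
  refine ⟨n, m, r, hn, hm, hcop, hnm, hr1, hlast, ?_⟩
  -- the isomorphism
  set rels : Set (FreeGroup (Fin 2)) := {FreeGroup.of (0 : Fin 2) ^ n, FreeGroup.of (1 : Fin 2) ^ m,
            (FreeGroup.of (0 : Fin 2))⁻¹ * FreeGroup.of 1 * FreeGroup.of 0 * (FreeGroup.of (1 : Fin 2) ^ r)⁻¹} with hrels
  let P := PresentedGroup rels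
  let φ : FreeGroup (Fin 2) →* P := PresentedGroup.mk rels
  let X : P := φ (FreeGroup.of 0)
  let Y : P := φ (FreeGroup.of 1)
  have hφ : ∀ r ∈ rels, φ r = 1 := fun r hr => PresentedGroup.one_of_mem hr
  have hX : X ^ n = 1 := by
    have := hφ _ (show FreeGroup.of (0 : Fin 2) ^ n ∈ rels by rw [hrels]; simp)
    rwa [map_pow] at this
  have hY : Y ^ m = 1 := by
    have := hφ _ (show FreeGroup.of (1 : Fin 2) ^ m ∈ rels by rw [hrels]; simp)
    rwa [map_pow] at this
  have hXY : X⁻¹ * Y * X = Y ^ r := by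
    have := hφ _ (show (FreeGroup.of (0 : Fin 2))⁻¹ * FreeGroup.of 1 * FreeGroup.of 0 * (FreeGroup.of (1 : Fin 2) ^ r)⁻¹ ∈ rels by rw [hrels]; simp)
    rw [map_mul, map_mul, map_mul, map_inv, map_inv, map_pow] at this
    exact mul_inv_eq_one.mp this
  have hgenP : closure {X, Y} = ⊤ := by
    rw [eq_top_iff, ← PresentedGroup.closure_range_of rels, closure_le]
    rintro _ ⟨i, rfl⟩
    fin_cases i
    · exact subset_closure (by left; rfl)
    · exact subset_closure (by right; rfl)
  obtain ⟨hfin, hcardP⟩ := card_le_pres X Y hn hm hX hY hXY hgenP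
  have hrel : ∀ w ∈ rels, FreeGroup.lift (![x, y] : Fin 2 → Z) w = 1 := by
    intro w hw
    rw [hrels] at hw
    rcases hw with rfl | rfl | rfl
    · simpa using hxn
    · simpa using hym
    · simp only [map_mul, map_inv, map_pow, FreeGroup.lift_apply_of]
      show x⁻¹ * y * x * (y ^ r)⁻¹ = 1
      rw [hr, mul_inv_cancel]
  let f : P →* Z := PresentedGroup.toGroup hrel
  have hfx : f X = x := by
    show PresentedGroup.toGroup hrel (PresentedGroup.of 0) = x
    rw [PresentedGroup.toGroup.of]; rfl
  have hfy : f Y = y := by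
    show PresentedGroup.toGroup hrel (PresentedGroup.of 1) = y
    rw [PresentedGroup.toGroup.of]; rfl
  have hsurj : Function.Surjective f := by
    rw [← MonoidHom.range_eq_top, eq_top_iff, ← hgen, closure_le]
    rintro g (rfl | hg)
    · exact ⟨X, hfx⟩
    · rw [Set.mem_singleton_iff] at hg
      subst hg
      exact ⟨Y, hfy⟩
  have hbij : Function.Bijective f := by
    rw [Nat.bijective_iff_surjective_and_card]
    refine ⟨hsurj, le_antisymm ?_ ?_⟩
    · rw [hcard]; exact hcardP
    · exact Nat.card_le_card_of_surjective f hsurj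
  exact ⟨(MulEquiv.ofBijective f hbij).symm⟩

end CfsgLib.H6Zas
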