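import Cfsg.Agent.LibH7Fis
import Cfsg.Agent.LibDihedral

set_option autoImplicit false

/-! Finite groups all of whose subgroups are normal (helper7). -/

namespace CfsgLib.H7Ded

open Subgroup CfsgLib.H7Fis

universe u
variable {G : Type u} [Group G]

theorem conj_mem (hn : ∀ H : Subgroup G, H.Normal) (x g : G) : g * x * g⁻¹ ∈ zpowers x :=
  (hn (zpowers x)).conj_mem x (mem_zpowers x) g

theorem comm_zpow {x y c : G} (h : x * y = c * y * x) (hcx : Commute c x) (n : ℤ) :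
    x ^ n * y = c ^ n * y * x ^ n := by
  have h1 : y * x * y⁻¹ = c⁻¹ * x := by
    rw [mul_inv_eq_iff_eq_mul, mul_assoc, h]; group
  have h2 : y * x ^ n * y⁻¹ = (c ^ n)⁻¹ * x ^ n := by
    rw [← conj_zpow, h1, (hcx.inv_left).mul_zpow, inv_zpow]
  rw [mul_inv_eq_iff_eq_mul] at h2
  rw [mul_assoc, h2]; group

theorem ypow {a y d : G} (h : y * a = a * y * d) (hdy : Commute d y) (m : ℕ) :
    y ^ m * a = a * y ^ m * d ^ m := by
  induction m with
  | zero => simp
  | succ m ih =>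
    rw [pow_succ' y, mul_assoc, ih]
    calc y * (a * y ^ m * d ^ m) = (y * a) * y ^ m * d ^ m := by group
      _ = a * y * (d * y ^ m) * d ^ m := by rw [h]; group
      _ = a * y * (y ^ m * d) * d ^ m := by rw [(hdy.pow_right m).eq]
      _ = _ := by
        rw [pow_succ' d]
        group

theorem mul_pow_class2 {a y d : G} (h : y * a = a * y * d) (hda : Commute d a) (hdy : Commute d y) (m : ℕ) :
    (a * y) ^ m = a ^ m * y ^ m * d ^ (m.choose 2) := by
  induction m with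
  | zero => simp
  | succ m ih =>
    rw [pow_succ (a * y), ih, Nat.choose_succ_succ' m 1, Nat.choose_one_right]
    have h1 : Commute (d ^ m.choose 2) (a * y) := (hda.mul_right hdy).pow_left _
    calc a ^ m * y ^ m * d ^ m.choose 2 * (a * y) = a ^ m * y ^ m * (d ^ m.choose 2 * (a * y)) := by group
      _ = a ^ m * y ^ m * ((a * y) * d ^ m.choose 2) := by rw [h1.eq]
      _ = a ^ m * (y ^ m * a) * y * d ^ m.choose 2 := by group
      _ = a ^ m * (a * y ^ m * d ^ m) * y * d ^ m.choose 2 := by rw [ypow h hdy]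
      _ = a ^ m * a * y ^ m * (d ^ m * y) * d ^ m.choose 2 := by group
      _ = a ^ m * a * y ^ m * (y * d ^ m) * d ^ m.choose 2 := by rw [(hdy.pow_left m).eq]
      _ = (a ^ m * a) * (y ^ m * y) * (d ^ m * d ^ m.choose 2) := by group
      _ = _ := by rw [← pow_succ, ← pow_succ, ← pow_add]

theorem arith {p s : ℕ} (hp : p.Prime) (hs : 1 ≤ s) (h : ¬ p ∣ (p ^ (s - 1)).choose 2) : p = 2 ∧ s = 2 := by
  have h1 : 2 * (p ^ (s - 1)).choose 2 = p ^ (s - 1) * (p ^ (s - 1) - 1) := by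
    rw [Nat.choose_two_right]
    exact Nat.mul_div_cancel' (Nat.even_mul_pred_self _).two_dvd
  have hs2 : 2 ≤ s := by
    by_contra h2
    have : s = 1 := by omega
    subst this
    apply h
    simp
  have h2 : p ∣ p ^ (s - 1) := dvd_pow_self p (by omega)
  have h3 : p ∣ 2 * (p ^ (s - 1)).choose 2 := by rw [h1]; exact h2.mul_right _
  have hp2 : p = 2 := by
    rcases hp.dvd_mul.mp h3 with h4 | h4
    · exact (Nat.prime_dvd_prime_iff_eq hp Nat.prime_two).mp h4
    · exact absurd h4 h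
  subst hp2
  refine ⟨rfl, ?_⟩
  by_contra h4
  apply h
  have h5 : 2 ^ 2 ∣ 2 ^ (s - 1) := pow_dvd_pow 2 (by omega)
  have h6 : 2 * 2 ∣ 2 * (2 ^ (s - 1)).choose 2 := by
    rw [h1]; exact (by norm_num : 2 * 2 = 2 ^ 2) ▸ h5.mul_right _
  exact Nat.dvd_of_mul_dvd_mul_left two_pos h6

/-- the shape of a minimal noncommuting pair -/
theorem core [Finite G] {x y c : G} {p r s : ℕ} (hp : p.Prime) (hnc : ¬ Commute x y)
    (hmin : ∀ x' y' : G, ¬ Commute x' y' → orderOf x * orderOf y ≤ orderOf x' * orderOf y')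
    (hr : orderOf x = p ^ r) (hs : orderOf y = p ^ s) (hs1 : 1 ≤ s) (hrs : s ≤ r)
    (hc : x * y = c * y * x) (hcx : Commute c x) (hcy : Commute c y) (hcp : c ^ p = 1)
    {k : ℤ} (hk : y ^ p ^ (s - 1) = x ^ ((p : ℤ) ^ (r - 1) * k)) : p = 2 ∧ s = 2 ∧ r = 2 := by
  obtain ⟨N, hN⟩ : ∃ N : ℤ, N = -(k * (p : ℤ) ^ (r - s)) := ⟨_, rfl⟩
  obtain ⟨a, ha⟩ : ∃ a, a = x ^ N := ⟨_, rfl⟩
  have hxa : Commute x a := ha ▸ (Commute.refl x).zpow_right N
  have hnc' : ¬ Commute x (a * y) := by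
    intro h
    apply hnc
    have h1 : Commute x (a⁻¹ * (a * y)) := hxa.inv_right.mul_right h
    rwa [inv_mul_cancel_left] at h1
  have h1 := Nat.le_of_mul_le_mul_left (hmin x (a * y) hnc') (orderOf_pos x)
  have h2 : (a * y) ^ p ^ (s - 1) ≠ 1 := by
    intro h3
    have h4 := Nat.le_of_dvd (pow_pos hp.pos _) (orderOf_dvd_of_pow_eq_one h3)
    have h5 : p ^ (s - 1) < p ^ s := Nat.pow_lt_pow_right hp.one_lt (by omega)
    omega
  have h3 : y * a = a * y * c ^ (-N) := by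
    have h4 := comm_zpow hc hcx N
    rw [← ha] at h4
    have h5 : Commute (c ^ (-N)) (a * y) := by
      rw [ha]; exact ((hcx.zpow_right N).mul_right hcy).zpow_left _
    rw [← h5.eq, h4, zpow_neg]
    group
  have h4 := mul_pow_class2 h3 (by rw [ha]; exact (hcx.zpow_right N).zpow_left _) (hcy.zpow_left _)
    (p ^ (s - 1))
  have h5 : a ^ p ^ (s - 1) * y ^ p ^ (s - 1) = 1 := by
    rw [hk, ha, ← zpow_natCast, ← zpow_mul, ← zpow_add]
    have h6 : N * ((p ^ (s - 1) : ℕ) : ℤ) + (p : ℤ) ^ (r - 1) * k = 0 := by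
      rw [hN]
      push_cast
      have h7 : (p : ℤ) ^ (r - 1) = (p : ℤ) ^ (r - s) * (p : ℤ) ^ (s - 1) := by
        rw [← pow_add]; congr 1; omega
      rw [h7]; ring
    rw [h6, zpow_zero]
  rw [h5, one_mul] at h4
  rw [h4] at h2
  have h6 : ¬ (p : ℤ) ∣ (-N) * (((p ^ (s - 1)).choose 2 : ℕ) : ℤ) := by
    intro h7
    apply h2
    rw [← zpow_natCast, ← zpow_mul]
    obtain ⟨l, hl⟩ := h7
    rw [hl, zpow_mul, zpow_natCast, hcp, one_zpow]
  have h7 : ¬ (p : ℤ) ∣ (p : ℤ) ^ (r - s) := by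
    intro h8
    apply h6
    rw [hN, neg_neg]
    exact (h8.mul_left k).mul_right _
  have h8 : r = s := by
    by_contra h9
    apply h7
    exact dvd_pow_self _ (by omega)
  have h9 : ¬ p ∣ (p ^ (s - 1)).choose 2 := by
    intro h10
    apply h6
    exact (Int.natCast_dvd_natCast.mpr h10).mul_left _
  obtain ⟨e1, e2⟩ := arith hp hs1 h9
  exact ⟨e1, e2, h8.trans e2⟩

theorem min_pair [Finite G] (hn : ∀ H : Subgroup G, H.Normal) {x y : G} (hnc : ¬ Commute x y)
    (hmin : ∀ x' y' : G, ¬ Commute x' y' → orderOf x * orderOf y ≤ orderOf x' * orderOf y') :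
    orderOf x = 4 ∧ y * y = x * x ∧ y * x * y⁻¹ = x⁻¹ := by
  obtain ⟨c, hcdef⟩ : ∃ c, c = x * y * x⁻¹ * y⁻¹ := ⟨_, rfl⟩
  have hcx' : c ∈ zpowers x := by
    have h1 : c = x * (y * x⁻¹ * y⁻¹) := by rw [hcdef]; group
    rw [h1]
    refine mul_mem (mem_zpowers x) ?_
    have h2 := conj_mem hn x⁻¹ y
    rwa [zpowers_inv] at h2
  have hcy' : c ∈ zpowers y := by
    rw [hcdef]
    exact mul_mem (conj_mem hn y x) (inv_mem (mem_zpowers y))
  have hcx : Commute c x := by
    obtain ⟨i, hi⟩ := hcx'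
    rw [← hi]; exact (Commute.refl x).zpow_left i
  have hcy : Commute c y := by
    obtain ⟨i, hi⟩ := hcy'
    rw [← hi]; exact (Commute.refl y).zpow_left i
  have hc : x * y = c * y * x := by rw [hcdef]; group
  have hc' : y * x = c⁻¹ * x * y := by rw [hcdef]; group
  have hc1 : c ≠ 1 := by
    intro h
    apply hnc
    rw [h, one_mul] at hc
    exact hc
  have hlt : ∀ {z : G} {q : ℕ}, q.Prime → q ∣ orderOf z → orderOf (z ^ q) < orderOf z := by
    intro z q hq hqz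
    rw [orderOf_pow_of_dvd hq.ne_zero hqz]
    exact Nat.div_lt_self (orderOf_pos z) hq.one_lt
  have hX : ∀ q : ℕ, q.Prime → q ∣ orderOf x → c ^ q = 1 := by
    intro q hq hqx
    have h1 : Commute (x ^ q) y := by
      by_contra h
      have h2 := hmin _ _ h
      have h3 := Nat.le_of_mul_le_mul_right h2 (orderOf_pos y)
      exact absurd (hlt hq hqx) (not_lt.mpr h3)
    have h2 := comm_zpow hc hcx q
    rw [zpow_natCast, zpow_natCast, h1.eq, mul_assoc] at h2
    exact (mul_eq_right.mp h2.symm)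
  have hY : ∀ q : ℕ, q.Prime → q ∣ orderOf y → c ^ q = 1 := by
    intro q hq hqy
    have h1 : Commute x (y ^ q) := by
      by_contra h
      have h2 := hmin _ _ h
      have h3 := Nat.le_of_mul_le_mul_left h2 (orderOf_pos x)
      exact absurd (hlt hq hqy) (not_lt.mpr h3)
    have h2 := comm_zpow hc' hcy.inv_left q
    rw [zpow_natCast, zpow_natCast, ← h1.eq, mul_assoc] at h2
    have h3 := (mul_eq_right.mp h2.symm)
    rwa [inv_pow, inv_eq_one] at h3
  have hx1 : orderOf x ≠ 1 := by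
    intro h
    rw [orderOf_eq_one_iff] at h
    apply hnc; rw [h]; exact Commute.one_left y
  have hy1 : orderOf y ≠ 1 := by
    intro h
    rw [orderOf_eq_one_iff] at h
    apply hnc; rw [h]; exact Commute.one_right x
  obtain ⟨p, hp, hpx⟩ := Nat.exists_prime_and_dvd hx1
  haveI : Fact p.Prime := ⟨hp⟩
  have hcp := hX p hp hpx
  have hco : orderOf c = p := orderOf_eq_prime hcp hc1
  have hq : ∀ q : ℕ, q.Prime → c ^ q = 1 → q = p := by
    intro q hq h
    have h1 := orderOf_dvd_of_pow_eq_one h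
    rw [hco] at h1
    exact ((Nat.prime_dvd_prime_iff_eq hp hq).mp h1).symm
  obtain ⟨r, hr⟩ : ∃ r, orderOf x = p ^ r :=
    ⟨_, Nat.eq_prime_pow_of_unique_prime_dvd (orderOf_pos x).ne' (fun {d} hd hdx => hq d hd (hX d hd hdx))⟩
  obtain ⟨s, hs⟩ : ∃ s, orderOf y = p ^ s :=
    ⟨_, Nat.eq_prime_pow_of_unique_prime_dvd (orderOf_pos y).ne' (fun {d} hd hdy => hq d hd (hY d hd hdy))⟩
  have hr1 : 1 ≤ r := by
    by_contra h
    have : r = 0 := by omega
    rw [this, pow_zero] at hr; exact hx1 hr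
  have hs1 : 1 ≤ s := by
    by_contra h
    have : s = 0 := by omega
    rw [this, pow_zero] at hs; exact hy1 hs
  -- generators of `⟨c⟩`
  have hgen : ∀ {z : G} {t : ℕ}, 1 ≤ t → orderOf z = p ^ t → c ∈ zpowers z →
      (∃ j : ℤ, c = z ^ ((p : ℤ) ^ (t - 1) * j)) ∧ ∃ i : ℤ, z ^ p ^ (t - 1) = c ^ i := by
    intro z t ht hz hcz
    obtain ⟨l, hl⟩ := hcz
    change z ^ l = c at hl
    have h1 : (p : ℤ) ^ t ∣ l * p := by
      have h2 : z ^ (l * p) = 1 := by rw [zpow_mul, hl, zpow_natCast, hcp]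
      have h3 := orderOf_dvd_iff_zpow_eq_one.mpr h2
      rw [hz] at h3
      exact_mod_cast h3
    obtain ⟨j, hj⟩ : (p : ℤ) ^ (t - 1) ∣ l := by
      have h2 : (p : ℤ) ^ t = (p : ℤ) ^ (t - 1) * p := by rw [← pow_succ]; congr 1; omega
      rw [h2] at h1
      exact Int.dvd_of_mul_dvd_mul_right (by exact_mod_cast hp.ne_zero) h1
    refine ⟨⟨j, by rw [← hl, hj]⟩, ?_⟩
    have h2 : orderOf (z ^ p ^ (t - 1)) = p := by
      rw [orderOf_pow_of_dvd (pow_ne_zero _ hp.ne_zero), hz]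
      · rw [show p ^ t = p ^ (t - 1) * p by rw [← pow_succ]; congr 1; omega]
        exact Nat.mul_div_cancel_left _ (pow_pos hp.pos _)
      · rw [hz]; exact pow_dvd_pow p (by omega)
    have h3 : (z ^ p ^ (t - 1)) ^ j = c := by
      rw [← hl, hj, zpow_mul]
      congr 1
      rw [← zpow_natCast]; congr 1
    have h4 := mem_zpowers_zpow hp h2 (i := j) (by rw [h3]; exact hc1)
    rw [h3] at h4
    obtain ⟨i, hi⟩ := h4
    exact ⟨i, hi.symm⟩
  obtain ⟨⟨jx, hjx⟩, ix, hix⟩ := hgen hr1 hr hcx'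
  obtain ⟨⟨jy, hjy⟩, iy, hiy⟩ := hgen hs1 hs hcy'
  have hfin : p = 2 ∧ s = 2 ∧ r = 2 := by
    rcases le_total s r with h | h
    · refine core hp hnc hmin hr hs hs1 h hc hcx hcy hcp (k := jx * iy) ?_
      rw [hiy, hjx, ← zpow_mul, mul_assoc]
    · obtain ⟨e1, e2, e3⟩ := core (x := y) (y := x) hp (fun h => hnc h.symm)
        (fun x' y' h => by rw [mul_comm]; exact hmin x' y' h) hs hr hr1 h hc' hcy.inv_left hcx.inv_left
        (by rw [inv_pow, hcp, inv_one]) (k := jy * ix) (by rw [hix, hjy, ← zpow_mul, mul_assoc])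
      exact ⟨e1, e3, e2⟩
  obtain ⟨e1, e2, e3⟩ := hfin
  subst e1 e2 e3
  have hcc : c * c = 1 := by rw [← pow_two]; exact hcp
  -- powers of `c` and of `x * x`
  have hxx : x * x = c := by
    have h1 : x * x = c ^ ix := by
      rw [← hix]; norm_num [pow_two]
    rcases Int.even_or_odd ix with ⟨t, ht⟩ | ⟨t, ht⟩
    · exfalso
      rw [ht, ← two_mul, zpow_mul, zpow_two, hcc, one_zpow] at h1
      have h2 := orderOf_dvd_of_pow_eq_one (x := x) (n := 2) (by rw [pow_two]; exact h1)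
      rw [hr] at h2
      norm_num at h2
    · rw [h1, ht, zpow_add, zpow_mul, zpow_two, hcc, one_zpow, one_mul, zpow_one]
  have hyy : y * y = c := by
    have h1 : y * y = c ^ iy := by
      rw [← hiy]; norm_num [pow_two]
    rcases Int.even_or_odd iy with ⟨t, ht⟩ | ⟨t, ht⟩
    · exfalso
      rw [ht, ← two_mul, zpow_mul, zpow_two, hcc, one_zpow] at h1
      have h2 := orderOf_dvd_of_pow_eq_one (x := y) (n := 2) (by rw [pow_two]; exact h1)
      rw [hs] at h2
      norm_num at h2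
    · rw [h1, ht, zpow_add, zpow_mul, zpow_two, hcc, one_zpow, one_mul, zpow_one]
  refine ⟨by rw [hr]; norm_num, by rw [hyy, hxx], ?_⟩
  have h1 : y * x * y⁻¹ = c⁻¹ * x := by rw [hc']; group
  rw [h1, ← hxx]; group

theorem exists_q8 [Finite G] (hn : ∀ H : Subgroup G, H.Normal) (hna : ¬ ∀ a b : G, a * b = b * a) :
    ∃ x y : G, orderOf x = 4 ∧ y * y = x * x ∧ y * x * y⁻¹ = x⁻¹ := by
  classical
  push Not at hna
  obtain ⟨a, b, hab⟩ := hna
  have hex : ∃ N : ℕ, ∃ x y : G, ¬ Commute x y ∧ orderOf x * orderOf y = N := ⟨_, a, b, hab, rfl⟩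
  obtain ⟨x, y, hxy, hN⟩ := Nat.find_spec hex
  refine ⟨x, y, min_pair hn hxy ?_⟩
  intro x' y' h
  rw [hN]
  exact Nat.find_min' hex ⟨x', y', h, rfl⟩

theorem zpow_mod_four {w : G} (hw : w ^ 4 = 1) (k : ℤ) :
    w ^ k = 1 ∨ w ^ k = w ∨ w ^ k = w ^ 2 ∨ w ^ k = w ^ 3 := by
  have h1 : w ^ k = w ^ (k % 4) := by
    conv_lhs => rw [← Int.emod_add_mul_ediv k 4]
    rw [zpow_add, zpow_mul, show w ^ (4 : ℤ) = 1 by exact_mod_cast hw, one_zpow, mul_one]
  have h2 : k % 4 = 0 ∨ k % 4 = 1 ∨ k % 4 = 2 ∨ k % 4 = 3 := by omega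
  rw [h1]
  rcases h2 with h | h | h | h
  · left; rw [h, zpow_zero]
  · right; left; rw [h, zpow_one]
  · right; right; left; rw [h]; exact zpow_natCast w 2
  · right; right; right; rw [h]; exact zpow_natCast w 3

theorem s4211 [Finite G] (hna : ¬ ∀ a b : G, a * b = b * a) (hn : ∀ H : Subgroup G, H.Normal) :
    ∃ Q E A : Subgroup G, Nonempty (Q ≃* QuaternionGroup 2) ∧
      ((∀ a ∈ E, ∀ b ∈ E, a * b = b * a) ∧ ∀ a ∈ E, a ^ 2 = 1) ∧
      (∀ a ∈ A, ∀ b ∈ A, a * b = b * a) ∧ Odd (Nat.card A) ∧ E ⊓ A = ⊥ ∧ Q ⊓ (E ⊔ A) = ⊥ ∧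
      Q ⊔ (E ⊔ A) = ⊤ := by
  classical
  obtain ⟨x, y, hx4, hyy, hyx⟩ := exists_q8 hn hna
  have hxp : x ^ 4 = 1 := by rw [← hx4]; exact pow_orderOf_eq_one x
  have hx2 : x ^ 2 ≠ 1 := by
    intro h
    have h1 := Nat.le_of_dvd two_pos (orderOf_dvd_of_pow_eq_one h)
    omega
  have hxx : x * x ≠ 1 := by rw [← pow_two]; exact hx2
  have hxi : x⁻¹ = x ^ 3 := by
    rw [inv_eq_iff_mul_eq_one, ← pow_succ']; exact hxp
  have hxne : x ≠ x⁻¹ := by
    intro h
    apply hxx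
    nth_rewrite 1 [h]
    exact inv_mul_cancel x
  have hyxz : ∀ k : ℤ, y * x ^ k * y⁻¹ = x ^ (-k) := fun k => by
    rw [← conj_zpow, hyx, inv_zpow']
  have hnxy : ¬ Commute y x := by
    intro h
    apply hxne
    rw [← hyx, h.eq, mul_inv_cancel_right]
  have hba : y ∉ zpowers x := by
    rintro ⟨i, hi⟩
    apply hnxy
    rw [← hi]; exact (Commute.refl x).zpow_left i
  have hyp : y ^ 4 = 1 := by
    calc y ^ 4 = (y * y) * (y * y) := by simp only [pow_succ, pow_zero, one_mul, mul_assoc]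
      _ = (x * x) * (x * x) := by rw [hyy]
      _ = x ^ 4 := by simp only [pow_succ, pow_zero, one_mul, mul_assoc]
      _ = 1 := hxp
  have hy2 : y ^ 2 ≠ 1 := by rw [pow_two, hyy]; exact hxx
  have hy4 : orderOf y = 4 := orderOf_eq_prime_pow (p := 2) (n := 1) (by simpa using hy2) (by simpa using hyp)
  have hyi : y⁻¹ = y ^ 3 := by
    rw [inv_eq_iff_mul_eq_one, ← pow_succ']; exact hyp
  have hyne : y ≠ y⁻¹ := by
    intro h
    apply hy2
    rw [pow_two]
    nth_rewrite 1 [h]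
    exact inv_mul_cancel y
  obtain ⟨Q, hQ⟩ : ∃ Q, Q = closure ({x, y} : Set G) := ⟨_, rfl⟩
  have hxQ : x ∈ Q := hQ ▸ subset_closure (by simp)
  have hyQ : y ∈ Q := hQ ▸ subset_closure (by simp)
  have hQe : Nonempty (Q ≃* QuaternionGroup 2) := by
    rw [hQ]
    exact CfsgLib.Dihedral.nonempty_equiv_quaternion (by rw [hx4]) (by rw [hyy, pow_two]) hyx hba
  obtain ⟨C, hC⟩ : ∃ C, C = centralizer ({x, y} : Set G) := ⟨_, rfl⟩
  have hCm : ∀ g, g ∈ C ↔ Commute g x ∧ Commute g y := by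
    intro g
    rw [hC, mem_centralizer_iff]
    constructor
    · intro h; exact ⟨(h x (by simp)).symm, (h y (by simp)).symm⟩
    · rintro ⟨h1, h2⟩ z (rfl | rfl)
      · exact h1.symm
      · exact h2.symm
  -- no elements of order four in `C`
  have hC4 : ∀ g ∈ C, g ^ 4 = 1 → g ^ 2 = 1 := by
    intro g hg hg4
    by_contra hg2
    obtain ⟨hgx, hgy⟩ := (hCm g).mp hg
    have hgne : g ≠ x := by
      rintro rfl; exact hnxy hgy.symm
    have h1 : (x * g) ^ 4 = 1 := by rw [hgx.symm.mul_pow, hxp, hg4, one_mul]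
    have h2 : y * (x * g) * y⁻¹ = x⁻¹ * g := by
      rw [← hyx]
      calc y * (x * g) * y⁻¹ = y * x * (g * y⁻¹) := by group
        _ = y * x * (y⁻¹ * g) := by rw [hgy.inv_right.eq]
        _ = _ := by group
    obtain ⟨k, hk⟩ := conj_mem hn (x * g) y
    change (x * g) ^ k = _ at hk
    rw [h2] at hk
    rcases zpow_mod_four h1 k with h | h | h | h
    · rw [h] at hk
      exact hgne (eq_of_inv_mul_eq_one hk.symm).symm
    · rw [h] at hk
      exact hxne (mul_right_cancel hk)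
    · rw [h, hgx.symm.mul_pow] at hk
      have h3 : x⁻¹ = x ^ 2 * g := by
        have h4 : x ^ 2 * g * g = x⁻¹ * g := by rw [← hk, mul_assoc, ← pow_two]
        exact (mul_right_cancel h4).symm
      rw [hxi] at h3
      apply hgne
      have h5 : x ^ 2 * x = x ^ 2 * g := by rw [← pow_succ]; exact h3
      exact (mul_left_cancel h5).symm
    · rw [h, hgx.symm.mul_pow, ← hxi] at hk
      apply hg2
      have h3 : g ^ 3 = g := mul_left_cancel hk
      have h4 : g ^ 2 * g = 1 * g := by rw [← pow_succ, h3, one_mul]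
      exact mul_right_cancel h4
  -- `C` is commutative
  have hCc : ∀ a ∈ C, ∀ b ∈ C, a * b = b * a := by
    by_contra hcon
    have h1 : ¬ ∀ a b : C, a * b = b * a := by
      intro h
      apply hcon
      intro a ha b hb
      exact congrArg Subtype.val (h ⟨a, ha⟩ ⟨b, hb⟩)
    have h2 : ∀ K : Subgroup C, K.Normal := by
      intro K
      refine ⟨fun k hk g => ?_⟩
      have h3 := (hn (K.map C.subtype)).conj_mem k ⟨k, hk, rfl⟩ g
      obtain ⟨l, hl, hlk⟩ := h3
      have h4 : l = g * k * g⁻¹ := Subtype.ext hlk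
      rw [← h4]; exact hl
    obtain ⟨u, v, hu, -, -⟩ := exists_q8 h2 h1
    have h3 : (u : G) ^ 4 = 1 := by
      have := pow_orderOf_eq_one u
      rw [hu] at this
      exact congrArg Subtype.val this
    have h4 := hC4 u u.2 h3
    have h5 : u ^ 2 = 1 := Subtype.ext h4
    have h6 := Nat.le_of_dvd two_pos (orderOf_dvd_of_pow_eq_one h5)
    omega
  -- decomposition `G = Q C`
  have hpm : ∀ {z w : G}, orderOf z = 4 → orderOf w = 4 → w ∈ zpowers z → w = z ∨ w = z⁻¹ := by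
    intro z w hz hw hwz
    have hzp : z ^ 4 = 1 := by rw [← hz]; exact pow_orderOf_eq_one z
    obtain ⟨k, hk⟩ := hwz
    change z ^ k = w at hk
    rcases zpow_mod_four hzp k with h | h | h | h
    · rw [h] at hk; rw [← hk, orderOf_one] at hw; omega
    · left; rw [← hk, h]
    · exfalso
      have h1 : w ^ 2 = 1 := by
        rw [← hk, h, ← pow_mul]; exact hzp
      have := Nat.le_of_dvd two_pos (orderOf_dvd_of_pow_eq_one h1)
      omega
    · right; rw [← hk, h, eq_comm, inv_eq_iff_mul_eq_one, ← pow_succ']; exact hzp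
  have hoc : ∀ g z : G, orderOf (g * z * g⁻¹) = orderOf z := fun g z => by
    have := (MulAut.conj g).orderOf_eq z
    simpa using this
  have hxy : x * y * x⁻¹ = y⁻¹ := by
    have h1 : y * x⁻¹ = x * y := by
      have h2 := hyxz (-1)
      rw [neg_neg, zpow_one, zpow_neg, zpow_one, mul_inv_eq_iff_eq_mul] at h2
      exact h2
    rw [mul_assoc, h1, ← mul_assoc, ← hyy, hyi]
    simp only [pow_succ, pow_zero, one_mul, mul_assoc]
  have hdec : ∀ g : G, ∃ q ∈ Q, ∃ c ∈ C, g = q * c := by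
    intro g
    have key : ∀ q ∈ Q, g * x * g⁻¹ = q * x * q⁻¹ → g * y * g⁻¹ = q * y * q⁻¹ → ∃ q ∈ Q, ∃ c ∈ C, g = q * c := by
      intro q hq h1 h2
      refine ⟨q, hq, q⁻¹ * g, ?_, by group⟩
      rw [hCm]
      have haux : ∀ z, g * z * g⁻¹ = q * z * q⁻¹ → Commute (q⁻¹ * g) z := by
        intro z hz
        change q⁻¹ * g * z = z * (q⁻¹ * g)
        rw [mul_inv_eq_iff_eq_mul] at hz
        rw [mul_assoc, hz]; group
      exact ⟨haux x h1, haux y h2⟩
    rcases hpm hx4 (by rw [hoc]; exact hx4) (conj_mem hn x g) with h1 | h1 <;>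
      rcases hpm hy4 (by rw [hoc]; exact hy4) (conj_mem hn y g) with h2 | h2
    · exact key 1 (one_mem _) (by rw [h1]; group) (by rw [h2]; group)
    · exact key x hxQ (by rw [h1]; group) (by rw [h2, hxy])
    · exact key y hyQ (by rw [h1, hyx]) (by rw [h2]; group)
    · refine key (x * y) (mul_mem hxQ hyQ) ?_ ?_
      · rw [h1]
        calc x⁻¹ = x * x⁻¹ * x⁻¹ := by group
          _ = x * (y * x * y⁻¹) * x⁻¹ := by rw [hyx]
          _ = _ := by group
      · rw [h2, ← hxy]; group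
  -- the central involution
  obtain ⟨c, hc⟩ : ∃ c, c = x * x := ⟨_, rfl⟩
  have hc1 : c ≠ 1 := hc ▸ hxx
  have hcc : c * c = 1 := by
    rw [hc]
    calc (x * x) * (x * x) = x ^ 4 := by simp only [pow_succ, pow_zero, one_mul, mul_assoc]
      _ = 1 := hxp
  have hcC : c ∈ C := by
    rw [hCm]
    refine ⟨hc ▸ (Commute.refl x).mul_left (Commute.refl x), ?_⟩
    rw [hc, ← hyy]
    exact (Commute.refl y).mul_left (Commute.refl y)
  have hcQ : c ∈ Q := hc ▸ mul_mem hxQ hxQ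
  -- odd part
  obtain ⟨k, m, hm, hkm⟩ := Nat.exists_eq_two_pow_mul_odd (Nat.card_pos (α := G)).ne'
  have hpw : ∀ j : ℕ, ∀ g ∈ C, g ^ 2 ^ (j + 1) = 1 → g ^ 2 = 1 := by
    intro j
    induction j with
    | zero => intro g _ h; simpa using h
    | succ j ih =>
      intro g hg h
      have h1 : (g ^ 2 ^ j) ^ 4 = 1 := by
        rw [← pow_mul, show 2 ^ j * 4 = 2 ^ (j + 1 + 1) by rw [pow_succ, pow_succ]; ring]; exact h
      have h2 := hC4 _ (pow_mem hg _) h1
      apply ih g hg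
      rw [pow_succ, pow_mul]; exact h2
  have hgm : ∀ g ∈ C, (g ^ m) ^ 2 = 1 := by
    intro g hg
    apply hpw k _ (pow_mem hg m)
    rw [← pow_mul]
    have h1 : g ^ Nat.card G = 1 := pow_card_eq_one'
    have h2 : m * 2 ^ (k + 1) = Nat.card G * 2 := by rw [hkm, pow_succ]; ring
    rw [h2, pow_mul, h1, one_pow]
  let E' : Subgroup G :=
    { carrier := {g | g ∈ C ∧ g ^ 2 = 1}
      one_mem' := ⟨one_mem _, one_pow _⟩
      mul_mem' := by
        rintro a b ⟨ha, ha2⟩ ⟨hb, hb2⟩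
        refine ⟨mul_mem ha hb, ?_⟩
        rw [(show Commute a b from hCc a ha b hb).mul_pow, ha2, hb2, one_mul]
      inv_mem' := by
        rintro a ⟨ha, ha2⟩
        exact ⟨inv_mem ha, by rw [inv_pow, ha2, inv_one]⟩ }
  let A : Subgroup G :=
    { carrier := {g | g ∈ C ∧ g ^ m = 1}
      one_mem' := ⟨one_mem _, one_pow _⟩
      mul_mem' := by
        rintro a b ⟨ha, ha2⟩ ⟨hb, hb2⟩
        refine ⟨mul_mem ha hb, ?_⟩
        rw [(show Commute a b from hCc a ha b hb).mul_pow, ha2, hb2, one_mul]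
      inv_mem' := by
        rintro a ⟨ha, ha2⟩
        exact ⟨inv_mem ha, by rw [inv_pow, ha2, inv_one]⟩ }
  have hE' : ∀ g, g ∈ E' ↔ g ∈ C ∧ g ^ 2 = 1 := fun g => Iff.rfl
  have hA : ∀ g, g ∈ A ↔ g ∈ C ∧ g ^ m = 1 := fun g => Iff.rfl
  have hodd1 : ∀ g : G, g ^ 2 = 1 → g ^ m = 1 → g = 1 := by
    intro g h1 h2
    obtain ⟨j, hj⟩ := hm
    rw [hj, pow_succ, pow_mul, h1, one_pow, one_mul] at h2
    exact h2
  have hCdec : ∀ g ∈ C, ∃ e ∈ E', ∃ a ∈ A, g = e * a := by
    intro g hg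
    obtain ⟨j, hj⟩ := hm
    refine ⟨g ^ m, ⟨pow_mem hg m, hgm g hg⟩, (g ^ (2 * j))⁻¹, ?_, ?_⟩
    · rw [hA]
      refine ⟨inv_mem (pow_mem hg _), ?_⟩
      rw [inv_pow, ← pow_mul, show 2 * j * m = m * 2 * j by ring, pow_mul, pow_mul, hgm g hg, one_pow,
        inv_one]
    · rw [hj, pow_succ']
      group
  -- the complement
  obtain ⟨E, ⟨hEE', hcE⟩, hEmax⟩ : ∃ E : Subgroup G, (E ≤ E' ∧ c ∉ E) ∧
      ∀ F : Subgroup G, (F ≤ E' ∧ c ∉ F) → E ≤ F → F = E := by
    obtain ⟨E, -, hE⟩ := (Set.toFinite {F : Subgroup G | F ≤ E' ∧ c ∉ F}).exists_le_maximal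
      (a := (⊥ : Subgroup G)) ⟨bot_le, fun h => hc1 (mem_bot.mp h)⟩
    exact ⟨E, hE.1, fun F hF h => le_antisymm (hE.2 hF h) h⟩
  have hEdec : ∀ g ∈ E', ∃ e ∈ E, g = e ∨ g = e * c := by
    intro g hg
    by_contra hcon
    push Not at hcon
    have h1 : E ⊔ zpowers g ≤ E' := sup_le hEE' (zpowers_le.mpr hg)
    have hg2 := ((hE' g).mp hg).2
    have hmem : ∀ z ∈ E ⊔ zpowers g, ∃ e ∈ E, z = e ∨ z = e * g := by
      intro z hz
      haveI := hn (zpowers g)
      obtain ⟨e, he, w, ⟨i, hi⟩, rfl⟩ := mem_sup_of_normal_right.mp hz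
      change g ^ i = w at hi
      refine ⟨e, he, ?_⟩
      rcases Int.even_or_odd i with ⟨t, ht⟩ | ⟨t, ht⟩
      · left
        rw [← hi, ht, ← two_mul, zpow_mul, show g ^ (2 : ℤ) = 1 by exact_mod_cast hg2, one_zpow, mul_one]
      · right
        rw [← hi, ht, zpow_add, zpow_mul, show g ^ (2 : ℤ) = 1 by exact_mod_cast hg2, one_zpow, one_mul,
          zpow_one]
    have h2 : c ∉ E ⊔ zpowers g := by
      intro h
      obtain ⟨e, he, h3 | h3⟩ := hmem c h
      · exact hcE (h3 ▸ he)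
      · apply (hcon e⁻¹ (inv_mem he)).2
        rw [h3]; group
    have h3 := hEmax _ ⟨h1, h2⟩ le_sup_left
    apply (hcon g (h3 ▸ mem_sup_right (mem_zpowers g))).1
    rfl
  have hAC : A ≤ C := fun g hg => ((hA g).mp hg).1
  have hE'C : E' ≤ C := fun g hg => ((hE' g).mp hg).1
  have hEAC : E ⊔ A ≤ C := sup_le (hEE'.trans hE'C) hAC
  have hnf : ∀ q ∈ Q, ∃ i : ℤ, q = x ^ i ∨ q = x ^ i * y := by
    intro q hq'
    rw [hQ] at hq'
    have e5' : ∀ i : ℤ, y * x ^ i = x ^ (-i) * y := by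
      intro i
      have := hyxz i
      rwa [mul_inv_eq_iff_eq_mul] at this
    induction hq' using Subgroup.closure_induction with
    | mem z hz =>
      rcases hz with rfl | rfl
      · exact ⟨1, Or.inl (zpow_one _).symm⟩
      · exact ⟨0, Or.inr (by rw [zpow_zero, one_mul])⟩
    | one => exact ⟨0, Or.inl (zpow_zero _).symm⟩
    | mul u v _ _ hu hv =>
      obtain ⟨i, rfl | rfl⟩ := hu <;> obtain ⟨j, rfl | rfl⟩ := hv
      · exact ⟨i + j, Or.inl (zpow_add _ _ _).symm⟩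
      · exact ⟨i + j, Or.inr (by rw [zpow_add, mul_assoc])⟩
      · exact ⟨i - j, Or.inr (by rw [mul_assoc, e5', ← mul_assoc, ← zpow_add, sub_eq_add_neg])⟩
      · refine ⟨i - j + 2, Or.inl ?_⟩
        rw [mul_assoc, ← mul_assoc y, e5', mul_assoc (x ^ (-j)), hyy, ← mul_assoc, ← zpow_add,
          ← zpow_two x, ← zpow_add, sub_eq_add_neg]
    | inv u _ hu =>
      obtain ⟨i, rfl | rfl⟩ := hu
      · exact ⟨-i, Or.inl (zpow_neg _ _).symm⟩
      · refine ⟨-2 + i, Or.inr ?_⟩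
        have h5 : y⁻¹ = x ^ (-2 : ℤ) * y := by
          have h6 : y⁻¹ = (y * y)⁻¹ * y := by group
          rw [h6, hyy, zpow_neg, zpow_two]
        rw [mul_inv_rev, ← zpow_neg, h5, mul_assoc, e5', neg_neg, ← mul_assoc, ← zpow_add]
  refine ⟨Q, E, A, hQe, ⟨fun a ha b hb => hCc a (hE'C (hEE' ha)) b (hE'C (hEE' hb)),
    fun a ha => ((hE' a).mp (hEE' ha)).2⟩, fun a ha b hb => hCc a (hAC ha) b (hAC hb), ?_, ?_, ?_, ?_⟩
  · rw [← Nat.not_even_iff_odd]
    intro h
    haveI : Fact (Nat.Prime 2) := ⟨Nat.prime_two⟩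
    obtain ⟨a, ha⟩ := exists_prime_orderOf_dvd_card' (G := A) 2 (even_iff_two_dvd.mp h)
    have h1 : (a : G) ^ 2 = 1 := by
      have := pow_orderOf_eq_one a
      rw [ha] at this
      exact congrArg Subtype.val this
    have h2 := hodd1 a h1 ((hA a).mp a.2).2
    have h3 : a = 1 := Subtype.ext h2
    rw [h3, orderOf_one] at ha
    omega
  · rw [eq_bot_iff]
    rintro g ⟨h1, h2⟩
    rw [mem_bot]
    exact hodd1 g ((hE' g).mp (hEE' h1)).2 ((hA g).mp h2).2
  · rw [eq_bot_iff]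
    rintro g ⟨h1, h2⟩
    rw [mem_bot]
    obtain ⟨hgx, hgy⟩ := (hCm g).mp (hEAC h2)
    have h3 : g = 1 ∨ g = c := by
      obtain ⟨i, rfl | rfl⟩ := hnf g h1
      · have h4 := hyxz i
        rw [← hgy.eq, mul_inv_cancel_right] at h4
        have h5 : x ^ (i + i) = 1 := by
          rw [zpow_add]; nth_rewrite 1 [h4]
          rw [← zpow_add, neg_add_cancel, zpow_zero]
        have h6 := orderOf_dvd_iff_zpow_eq_one.mpr h5
        rw [hx4] at h6
        obtain ⟨t, ht⟩ : ∃ t, i = 2 * t := by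
          obtain ⟨l, hl⟩ := h6
          refine ⟨l, ?_⟩
          push_cast at hl
          omega
        rw [ht, zpow_mul, zpow_two, ← hc]
        rcases Int.even_or_odd t with ⟨l, hl⟩ | ⟨l, hl⟩
        · left; rw [hl, ← two_mul, zpow_mul, zpow_two, hcc, one_zpow]
        · right; rw [hl, zpow_add, zpow_mul, zpow_two, hcc, one_zpow, one_mul, zpow_one]
      · exfalso
        apply hnxy
        have h4 : Commute ((x ^ i)⁻¹ * (x ^ i * y)) x :=
          ((Commute.refl x).zpow_left i).inv_left.mul_left hgx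
        rwa [inv_mul_cancel_left] at h4
    rcases h3 with h3 | h3
    · exact h3
    · exfalso
      rw [h3] at h2
      haveI := hn A
      obtain ⟨e, he, a, ha, h4⟩ := mem_sup_of_normal_right.mp h2
      have h5 : a = e⁻¹ * c := by rw [← h4]; group
      have h6 : a ^ 2 = 1 := by
        rw [h5, (show Commute e⁻¹ c from hCc _ (inv_mem (hE'C (hEE' he))) _ hcC).mul_pow, inv_pow,
          ((hE' e).mp (hEE' he)).2, pow_two c, hcc]; group
      have h7 := hodd1 a h6 ((hA a).mp ha).2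
      rw [h7, mul_one] at h4
      exact hcE (h4 ▸ he)
  · rw [eq_top_iff]
    intro g _
    obtain ⟨q, hq, c', hc', rfl⟩ := hdec g
    obtain ⟨e', he', a, ha, rfl⟩ := hCdec c' hc'
    have haS : a ∈ Q ⊔ (E ⊔ A) := mem_sup_right (mem_sup_right ha)
    refine mul_mem (mem_sup_left hq) (mul_mem ?_ haS)
    obtain ⟨e, he, h1 | h1⟩ := hEdec e' he'
    · rw [h1]; exact mem_sup_right (mem_sup_left he)
    · rw [h1]; exact mul_mem (mem_sup_right (mem_sup_left he)) (mem_sup_left hcQ)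

end CfsgLib.H7Ded
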