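import Mathlib
import Cfsg.Agent.LibH7Sym3
import Cfsg.Agent.LibKD2
import Cfsg.Agent.LibFus21Sect

set_option autoImplicit false

/-! Small offenders force a section isomorphic to the symmetric group of degree 3. -/

namespace CfsgLib.H7Dih

open Subgroup Cfsg CfsgLib.H7Sym

universe u
variable {X : Type u} [Group X]

theorem s3 {x t : X} {M : Subgroup X} (hxM : x ∈ M) (htM : t ∈ M) (hx : orderOf x = 3)
    (ht : t ^ 2 = 1) (hinv : t * x * t⁻¹ = x⁻¹) : Involves (Equiv.Perm (Fin 3)) M := by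
  have htx : t ∉ zpowers x := by
    intro h
    obtain ⟨k, hk⟩ := mem_zpowers_iff.1 h
    have h1 : t * x = x * t := by
      rw [← hk]
      exact (Commute.zpow_self x k).eq
    have h2 : x⁻¹ = x := by rw [← hinv, h1]; group
    have h3 : x ^ 2 = 1 := by rw [pow_two]; nth_rw 1 [← h2]; exact inv_mul_cancel x
    have h4 := orderOf_dvd_of_pow_eq_one h3
    rw [hx] at h4
    norm_num at h4
  have ho : orderOf (⟨x, hxM⟩ : M) = 3 := by
    rw [← hx, ← orderOf_injective M.subtype M.subtype_injective]; rfl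
  obtain ⟨e⟩ := CfsgLib.Dihedral.nonempty_equiv_dihedral (G := M) (n := 3) (a := ⟨x, hxM⟩)
    (b := ⟨t, htM⟩) ho (Subtype.ext (by rw [← pow_two] ; exact ht)) (Subtype.ext hinv) (by
      intro h
      apply htx
      obtain ⟨k, hk⟩ := mem_zpowers_iff.1 h
      rw [mem_zpowers_iff]
      exact ⟨k, by simpa using congrArg Subtype.val hk⟩)
  obtain ⟨e2⟩ := CfsgLib.KD2.dihedral_three
  rw [CfsgLib.Fus21.involves_iff]
  exact ⟨_, (e.trans e2).toMonoidHom, (e.trans e2).surjective⟩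

theorem exists_moved' [Finite X] {W R : Subgroup X} (hW : El 2 W)
    (hcop : (Nat.card W).Coprime (Nat.card R)) (hWR : W ≤ normalizer (R : Set X)) {w : X}
    (hmov : ∃ r ∈ R, w * r * w⁻¹ ≠ r) :
    ∃ E : Subgroup X, E ≤ W ∧ (∃ a ∈ W, W ≤ E ⊔ zpowers a) ∧
      ∃ y ∈ R, (∀ e ∈ E, e * y = y * e) ∧ w * y * w⁻¹ ≠ y := by
  haveI := hW.comm
  have hgen := CfsgLib.Coprime2.generation_cyclic_quotient (A := W) hWR hcop
  by_contra hcon
  push Not at hcon
  obtain ⟨r, hr, hrw⟩ := hmov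
  apply hrw
  have h1 : R ≤ centralizer ({w} : Set X) := by
    rw [← hgen]
    apply iSup₂_le
    rintro E ⟨hE1, hE2⟩ y ⟨hyR, hyE⟩
    rw [mem_centralizer_singleton_iff]
    have := hcon E hE1 hE2 y hyR (fun e he => mem_centralizer_iff.1 hyE e he)
    exact (mul_inv_eq_iff_eq_mul.1 this).symm
  have h2 := mem_centralizer_singleton_iff.1 (h1 hr)
  rw [mul_inv_eq_iff_eq_mul]; exact h2.symm

theorem inv_elem' [Finite X] {t y : X} (ht : t ^ 2 = 1) {Y : Subgroup X} (hY : Odd (Nat.card Y))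
    (hn : ∀ y ∈ Y, t * y * t⁻¹ ∈ Y) (hy : y ∈ Y) (hne : t * y * t⁻¹ ≠ y) :
    ∃ x ∈ Y, ∃ r : ℕ, r.Prime ∧ r ≠ 2 ∧ orderOf x = r ∧ t * x * t⁻¹ = x⁻¹ := by
  set c := y⁻¹ * (t * y * t⁻¹) with hc
  have hcY : c ∈ Y := mul_mem (inv_mem hy) (hn y hy)
  have hc1 : c ≠ 1 := fun h => hne (inv_mul_eq_one.1 h).symm
  have hinv : t * c * t⁻¹ = c⁻¹ := by
    have e : t * c * t⁻¹ = (t * y * t⁻¹)⁻¹ * (t ^ 2 * y * (t ^ 2)⁻¹) := by
      rw [hc, pow_two]; group
    rw [e, ht, hc]; group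
  have ho1 : orderOf c ≠ 1 := fun h => hc1 (orderOf_eq_one_iff.1 h)
  have hdvd : (orderOf c).minFac ∣ orderOf c := Nat.minFac_dvd _
  refine ⟨c ^ (orderOf c / (orderOf c).minFac), pow_mem hcY _, (orderOf c).minFac,
    Nat.minFac_prime ho1, ?_, ?_, ?_⟩
  · intro h2
    have h3 : orderOf c ∣ Nat.card Y := by
      have := orderOf_dvd_natCard (⟨c, hcY⟩ : Y)
      rwa [← orderOf_injective Y.subtype Y.subtype_injective] at this
    have h4 : 2 ∣ Nat.card Y := (h2 ▸ hdvd).trans h3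
    exact (Nat.not_even_iff_odd.2 hY) (even_iff_two_dvd.2 h4)
  · rw [orderOf_pow_of_dvd _ (Nat.div_dvd_of_dvd hdvd), Nat.div_div_self hdvd (orderOf_pos c).ne']
    exact (Nat.div_pos (Nat.le_of_dvd (orderOf_pos c) hdvd) (Nat.minFac_pos _)).ne'
  · rw [← conj_pow, hinv, inv_pow]

theorem pq' [Finite X] {p : ℕ} [Fact p.Prime] {R M : Subgroup X} (hR : IsPGroup p R)
    (hM : IsPGroup p M) (hMn : M ≤ normalizer (R : Set X)) {w : X}
    (hcop : (orderOf w).Coprime p)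
    (hwR : w ∈ normalizer (R : Set X)) (hwM : ∀ m ∈ M, w * m = m * w)
    (hmov : ∃ r ∈ R, w * r * w⁻¹ ≠ r) :
    ∃ r ∈ R, (∀ m ∈ M, m * r = r * m) ∧ w * r * w⁻¹ ≠ r := by
  by_contra hcon
  push Not at hcon
  obtain ⟨r, hr, hrw⟩ := hmov
  apply hrw
  have hst : CfsgLib.PQ.StabTriv p (zpowers w) := by
    apply CfsgLib.PQ.stab_of_coprime
    rw [Nat.card_zpowers]; exact hcop
  have h1 := CfsgLib.PQ.pxq (p := p) (V := R) (P := M) (B := zpowers w) hR hM hMn
    (zpowers_le.2 hwR)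
    (by
      rw [commutator_eq_bot_iff_le_centralizer]
      intro m hm
      have h5 : zpowers w ≤ centralizer ({m} : Set X) :=
        zpowers_le.2 (mem_centralizer_singleton_iff.2 (hwM m hm))
      exact mem_centralizer_iff.2 fun y hy => mem_centralizer_singleton_iff.1 (h5 hy)) hst
    (by
      rw [commutator_eq_bot_iff_le_centralizer]
      rintro r ⟨hr, hrM⟩
      have h6 := hcon r hr (fun m hm => mem_centralizer_iff.1 hrM m hm)
      have h5 : zpowers w ≤ centralizer ({r} : Set X) :=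
        zpowers_le.2 (mem_centralizer_singleton_iff.2 (mul_inv_eq_iff_eq_mul.1 h6))
      exact mem_centralizer_iff.2 fun y hy => mem_centralizer_singleton_iff.1 (h5 hy))
  rw [commutator_eq_bot_iff_le_centralizer, le_centralizer_iff, zpowers_le,
    mem_centralizer_iff] at h1
  rw [mul_inv_eq_iff_eq_mul]; exact (h1 r hr).symm

theorem cmul [Finite X] {A B : Subgroup X} (h : A ≤ B) :
    Nat.card A * A.relIndex B = Nat.card B := by
  rw [← relIndex_bot_left, ← relIndex_bot_left, relIndex_mul_relIndex _ _ _ bot_le h]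

theorem step [Finite X] {V E : Subgroup X} {x t : X} {r : ℕ} (hr : r.Prime) (hr2 : r ≠ 2)
    (hr3 : r ≠ 3) (hV : El 2 V) (hE : El 2 E) (hEV : E ≤ normalizer (V : Set X))
    (hxV : x ∈ normalizer (V : Set X)) (hxE : ∀ e ∈ E, e * x = x * e) (hxr : orderOf x = r)
    (ht : t ^ 2 = 1) (hinv : t * x * t⁻¹ = x⁻¹) (hmov : ∃ v ∈ V, x * v * x⁻¹ ≠ v) :
    4 ≤ (V ⊓ centralizer (E : Set X) ⊓ centralizer ({t} : Set X)).relIndex
      (V ⊓ centralizer (E : Set X)) := by
  have hrodd : Odd r := hr.odd_of_ne_two hr2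
  have hxr' : x ^ r = 1 := by rw [← hxr]; exact pow_orderOf_eq_one x
  obtain ⟨w0, hw0V, hw0E, hw0x⟩ := pq' (p := 2) hV.isP hE.isP hEV
    (by rw [hxr]; exact (Nat.coprime_primes hr Nat.prime_two).2 hr2) hxV
    (fun e he => (hxE e he).symm) hmov
  set W : Subgroup X := V ⊓ centralizer (E : Set X) with hW
  have hw0 : w0 ∈ W := ⟨hw0V, mem_centralizer_iff.2 hw0E⟩
  have hWel : El 2 W := hV.mono inf_le_left
  have hxW : ∀ w ∈ W, x * w * x⁻¹ ∈ W := by
    rintro w ⟨hw, hwE⟩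
    refine ⟨(mem_normalizer_iff.1 hxV w).1 hw, mem_centralizer_iff.2 ?_⟩
    intro e he
    have h5 := mem_centralizer_iff.1 hwE e he
    have h6 := hxE e he
    have h7 : e * x⁻¹ = x⁻¹ * e := by
      rw [eq_inv_mul_iff_mul_eq, ← mul_assoc, ← h6, mul_assoc, mul_inv_cancel, mul_one]
    calc e * (x * w * x⁻¹) = (e * x) * w * x⁻¹ := by group
      _ = x * (e * w) * x⁻¹ := by rw [h6]; group
      _ = x * w * (e * x⁻¹) := by rw [h5]; group
      _ = x * w * x⁻¹ * e := by rw [h7]; group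
  by_contra hlt
  push Not at hlt
  set Q1 : Subgroup X := W ⊓ centralizer ({t} : Set X) with hQ1
  have hQ1W : Q1 ≤ W := inf_le_left
  have hQ1c := cmul hQ1W
  have hQ1i : Q1.relIndex W ≤ 2 := by
    obtain ⟨m, hm⟩ := IsPGroup.iff_card.1 hWel.isP
    have h1 : Q1.relIndex W ∣ 2 ^ m := by rw [← hm, ← hQ1c]; exact Dvd.intro_left _ rfl
    obtain ⟨k, -, hk⟩ := (Nat.dvd_prime_pow Nat.prime_two).1 h1
    rw [hk] at hlt ⊢
    have hk2 : k < 2 := by
      by_contra h
      have : 2 ^ 2 ≤ 2 ^ k := Nat.pow_le_pow_right (by norm_num) (by omega)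
      omega
    interval_cases k <;> norm_num
  set Q2 : Subgroup X := Q1.map (MulAut.conj x).toMonoidHom with hQ2
  have hQ2W : Q2 ≤ W := by
    rintro _ ⟨q, hq, rfl⟩
    exact hxW q (hQ1W hq)
  have hQ2c := cmul hQ2W
  have hQ2card : Nat.card Q2 = Nat.card Q1 :=
    (Nat.card_congr (Q1.equivMapOfInjective _ (MulAut.conj x).injective).toEquiv).symm
  have hQ2i : Q2.relIndex W ≤ 2 := by
    rw [hQ2card, ← hQ1c] at hQ2c
    rw [Nat.eq_of_mul_eq_mul_left Nat.card_pos hQ2c]; exact hQ1i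
  set Q : Subgroup X := W ⊓ centralizer ({x} : Set X) with hQ
  have hQQ : Q1 ⊓ Q2 ≤ Q := by
    rintro q ⟨hq1, hq2⟩
    obtain ⟨q', hq', hqq⟩ := hq2
    have hqq' : x * q' * x⁻¹ = q := hqq
    refine ⟨hQ1W hq1, mem_centralizer_singleton_iff.2 ?_⟩
    have h1 : t ∈ centralizer ({q} : Set X) :=
      mem_centralizer_singleton_iff.2 (mem_centralizer_singleton_iff.1 hq1.2).symm
    have h2 : x * t * x⁻¹ ∈ centralizer ({q} : Set X) := by
      rw [mem_centralizer_singleton_iff, ← hqq']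
      have h3 := mem_centralizer_singleton_iff.1 hq'.2
      calc x * t * x⁻¹ * (x * q' * x⁻¹) = x * (t * q') * x⁻¹ := by group
        _ = x * (q' * t) * x⁻¹ := by rw [h3]
        _ = _ := by group
    have h4 : t * (x * t * x⁻¹) = (x ^ 2)⁻¹ := by
      have e : t * (x * t * x⁻¹) = (t * x * t⁻¹) * (t ^ 2) * x⁻¹ := by rw [pow_two]; group
      rw [e, hinv, ht, mul_one, pow_two, mul_inv_rev]
    have h5 : x ^ 2 ∈ centralizer ({q} : Set X) := by
      have := inv_mem (mul_mem h1 h2)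
      rwa [h4, inv_inv] at this
    have h6 := cop_mem ((Nat.coprime_primes Nat.prime_two hr).2 hr2.symm) h5 hxr'
    exact (mem_centralizer_singleton_iff.1 h6).symm
  have hQW : Q ≤ W := inf_le_left
  have hne0 : (Q1 ⊓ Q2).relIndex W ≠ 0 := by
    rw [relIndex]
    exact index_ne_zero_of_finite
  have hQi : Q.relIndex W ≤ 4 := by
    have h1 : Q.relIndex W ∣ (Q1 ⊓ Q2).relIndex W := relIndex_dvd_of_le_left _ hQQ
    have h2 := Nat.le_of_dvd (Nat.pos_of_ne_zero hne0) h1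
    have h3 : (Q1 ⊓ Q2).relIndex W ≤ Q1.relIndex W * Q2.relIndex W := relIndex_inf_le
    have h4 : Q1.relIndex W * Q2.relIndex W ≤ 2 * 2 := Nat.mul_le_mul hQ1i hQ2i
    omega
  -- pigeonhole
  have hxpow : ∀ i : ℕ, x ^ i * w0 * (x ^ i)⁻¹ ∈ W := by
    intro i
    induction i with
    | zero => simpa using hw0
    | succ i ih =>
      have := hxW _ ih
      have e : x ^ (i + 1) * w0 * (x ^ (i + 1))⁻¹ = x * (x ^ i * w0 * (x ^ i)⁻¹) * x⁻¹ := by
        rw [pow_succ']; group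
      rw [e]; exact this
  have hkey : ∃ i j : ℕ, i < j ∧ j < 5 ∧
      (x ^ i * w0 * (x ^ i)⁻¹)⁻¹ * (x ^ j * w0 * (x ^ j)⁻¹) ∈ Q := by
    classical
    let f : Fin 5 → W ⧸ Q.subgroupOf W := fun i => QuotientGroup.mk ⟨_, hxpow i⟩
    haveI : Fintype (W ⧸ Q.subgroupOf W) := Fintype.ofFinite _
    have hc : Fintype.card (W ⧸ Q.subgroupOf W) < Fintype.card (Fin 5) := by
      rw [← Nat.card_eq_fintype_card, Fintype.card_fin]
      have : Nat.card (W ⧸ Q.subgroupOf W) = Q.relIndex W := rfl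
      omega
    obtain ⟨i, j, hij, hf⟩ := Fintype.exists_ne_map_eq_of_card_lt f hc
    have hf1 : (x ^ (i : ℕ) * w0 * (x ^ (i : ℕ))⁻¹)⁻¹ * (x ^ (j : ℕ) * w0 * (x ^ (j : ℕ))⁻¹) ∈ Q := by
      have := QuotientGroup.eq.1 hf
      exact mem_subgroupOf.1 this
    rcases lt_or_gt_of_ne hij with h | h
    · exact ⟨i, j, h, j.2, hf1⟩
    · refine ⟨j, i, h, i.2, ?_⟩
      have := inv_mem hf1
      simpa [mul_assoc] using this
  obtain ⟨i, j, hij, hj5, hc⟩ := hkey
  obtain ⟨k, rfl⟩ := Nat.exists_eq_add_of_lt hij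
  set y := x ^ (k + 1) with hy
  have hcx : ∀ q ∈ Q, ∀ n : ℕ, x ^ n * q * (x ^ n)⁻¹ = q := by
    intro q hq n
    have h1 : Commute q x := mem_centralizer_singleton_iff.1 hq.2
    rw [((h1.pow_right n).eq).symm]; group
  set c := w0⁻¹ * (y * w0 * y⁻¹) with hcd
  have hcQ : c ∈ Q := by
    have h1 : (x ^ i * w0 * (x ^ i)⁻¹)⁻¹ * (x ^ (i + k + 1) * w0 * (x ^ (i + k + 1))⁻¹) =
        x ^ i * c * (x ^ i)⁻¹ := by
      have : x ^ (i + k + 1) = x ^ i * y := by rw [hy, ← pow_add]; ring_nf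
      rw [this, hcd]; group
    rw [h1] at hc
    have h2 := hcx _ hc 1
    -- `c` is conjugate to an element centralized by `x`
    have h3 : c = x ^ i * c * (x ^ i)⁻¹ := by
      have h4 : Commute (x ^ i * c * (x ^ i)⁻¹) x := mem_centralizer_singleton_iff.1 hc.2
      have h5 := (h4.pow_right i).eq
      calc c = (x ^ i)⁻¹ * ((x ^ i * c * (x ^ i)⁻¹) * x ^ i) := by group
        _ = (x ^ i)⁻¹ * (x ^ i * (x ^ i * c * (x ^ i)⁻¹)) := by rw [h5]
        _ = _ := by group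
    rw [h3]; exact hc
  have hyc : y * c * y⁻¹ = c := hcx c hcQ _
  have hyw : y * w0 * y⁻¹ = w0 * c := by rw [hcd]; group
  have hpow : ∀ n : ℕ, y ^ n * w0 * (y ^ n)⁻¹ = w0 * c ^ n := by
    intro n
    induction n with
    | zero => simp
    | succ n ih =>
      have h1 : y * c ^ n * y⁻¹ = c ^ n := by rw [← conj_pow, hyc]
      calc y ^ (n + 1) * w0 * (y ^ (n + 1))⁻¹ = y * (y ^ n * w0 * (y ^ n)⁻¹) * y⁻¹ := by
            rw [pow_succ']; group
        _ = (y * w0 * y⁻¹) * (y * c ^ n * y⁻¹) := by rw [ih]; group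
        _ = w0 * c ^ (n + 1) := by rw [hyw, h1, pow_succ', mul_assoc]
  have hyr : y ^ r = 1 := by rw [hy, ← pow_mul, mul_comm, pow_mul, hxr', one_pow]
  have hcr : c ^ r = 1 := by
    have h1 := hpow r
    rw [hyr] at h1
    have h2 : w0 * 1 = w0 * c ^ r := by rw [← h1]; group
    exact (mul_left_cancel h2).symm
  have hc1 : c = 1 := odd_sq hrodd hcr (hWel.2 c (hQW hcQ))
  rw [hc1, mul_one] at hyw
  have hyC : x ^ (k + 1) ∈ centralizer ({w0} : Set X) := by
    rw [mem_centralizer_singleton_iff]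
    exact mul_inv_eq_iff_eq_mul.1 hyw
  have hkr : (k + 1).Coprime r := by
    rw [Nat.coprime_comm, Nat.Prime.coprime_iff_not_dvd hr]
    intro h
    have h1 := Nat.le_of_dvd (by omega) h
    have h2 : r = 4 ∨ r < 4 := by omega
    rcases h2 with h2 | h2
    · rw [h2] at hr; exact absurd hr (by norm_num)
    · have := hr.two_le
      omega
  have hxC := cop_mem hkr hyC hxr'
  apply hw0x
  rw [mul_inv_eq_iff_eq_mul]
  exact mem_centralizer_singleton_iff.1 hxC

theorem main [Finite X] {M V K : Subgroup X} (hS3 : ¬ Involves (Equiv.Perm (Fin 3)) M)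
    (hV : El 2 V) (hMV : M ≤ normalizer (V : Set X))
    (hfaith : M ⊓ centralizer (V : Set X) = ⊥) (hKM : K ≤ M) (hKo : Odd (Nat.card K))
    (hMK : M ≤ normalizer (K : Set X))
    (hK : ∀ t ∈ M, t ^ 2 = 1 → (∀ k ∈ K, t * k * t⁻¹ = k) → t = 1) :
    ∀ n : ℕ, ∀ A : Subgroup X, Nat.card A = n → A ≤ M → El 2 A →
      Nat.card A ^ 2 ≤ (V ⊓ centralizer (A : Set X)).relIndex V := by
  intro n
  induction n using Nat.strong_induction_on with
  | _ n ih =>
  intro A hAn hAM hA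
  by_cases hA1 : A = ⊥
  · subst hA1
    rw [card_bot, one_pow]
    apply Nat.one_le_iff_ne_zero.2
    rw [relIndex]
    exact index_ne_zero_of_finite
  obtain ⟨t0, ht0⟩ := Subgroup.ne_bot_iff_exists_ne_one.1 hA1
  set t : X := (t0 : X) with htd
  have htA : t ∈ A := t0.2
  have ht1 : t ≠ 1 := fun h => ht0 (Subtype.ext h)
  have ht2 : t ^ 2 = 1 := hA.2 t htA
  have hmov : ∃ k ∈ K, t * k * t⁻¹ ≠ k := by
    by_contra hcon
    push Not at hcon
    exact ht1 (hK t (hAM htA) ht2 hcon)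
  have hcop : (Nat.card A).Coprime (Nat.card K) := by
    obtain ⟨m, hm⟩ := IsPGroup.iff_card.1 hA.isP
    rw [hm]
    exact Nat.Coprime.pow_left _ (Nat.coprime_two_left.2 hKo)
  obtain ⟨E, hEA, ⟨a, haA, hAE⟩, y, hyK, hyE, hyt⟩ := exists_moved' hA hcop (hAM.trans hMK) hmov
  have htE : t ∉ E := fun h => hyt (by rw [mul_inv_eq_iff_eq_mul]; exact hyE t h)
  have hcAE := hyper_card (by norm_num) hA hEA haA hAE
  have hElt : Nat.card E < Nat.card A := by
    have := card_lt_mul (p := 2) hA.isP hEA htA htE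
    have h2 : 0 < Nat.card E := Nat.card_pos
    omega
  have htEc : ∀ e ∈ E, e * t = t * e := fun e he => hA.1 e (hEA he) t htA
  obtain ⟨x, ⟨hxK, hxE⟩, r, hr, hr2, hxr, hinv⟩ := inv_elem' (y := y)
    (Y := K ⊓ centralizer (E : Set X)) ht2
    (Odd.of_dvd_nat hKo (card_dvd_of_le inf_le_left))
    (by
      rintro z ⟨hz, hzE⟩
      refine ⟨(mem_normalizer_iff.1 (hMK (hAM htA)) z).1 hz, mem_centralizer_iff.2 ?_⟩
      intro e he
      have h5 := mem_centralizer_iff.1 hzE e he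
      have h6 := htEc e he
      have h7 : e * t⁻¹ = t⁻¹ * e := hA.1 e (hEA he) _ (inv_mem htA)
      calc e * (t * z * t⁻¹) = (e * t) * z * t⁻¹ := by group
        _ = t * (e * z) * t⁻¹ := by rw [h6]; group
        _ = t * z * (e * t⁻¹) := by rw [h5]; group
        _ = t * z * t⁻¹ * e := by rw [h7]; group)
    ⟨hyK, mem_centralizer_iff.2 hyE⟩ hyt
  have hr3 : r ≠ 3 := by
    intro h3
    exact hS3 (s3 (hKM hxK) (hAM htA) (hxr.trans h3) ht2 hinv)
  have hxmov : ∃ v ∈ V, x * v * x⁻¹ ≠ v := by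
    by_contra hcon
    push Not at hcon
    have h1 : x ∈ M ⊓ centralizer (V : Set X) := by
      refine ⟨hKM hxK, mem_centralizer_iff.2 ?_⟩
      intro v hv
      exact (mul_inv_eq_iff_eq_mul.1 (hcon v hv)).symm
    rw [hfaith, mem_bot] at h1
    rw [h1, orderOf_one] at hxr
    exact hr.one_lt.ne hxr
  have h4 := step hr hr2 hr3 hV (hA.mono hEA) ((hEA.trans hAM).trans hMV) (hMV (hKM hxK))
    (fun e he => mem_centralizer_iff.1 hxE e he) hxr ht2 hinv hxmov
  have hih := ih (Nat.card E) (hAn ▸ hElt) E rfl (hEA.trans hAM) (hA.mono hEA)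
  have hmul : (V ⊓ centralizer (E : Set X) ⊓ centralizer ({t} : Set X)).relIndex
      (V ⊓ centralizer (E : Set X)) * (V ⊓ centralizer (E : Set X)).relIndex V =
      (V ⊓ centralizer (E : Set X) ⊓ centralizer ({t} : Set X)).relIndex V :=
    relIndex_mul_relIndex _ _ _ inf_le_left inf_le_left
  have hle : V ⊓ centralizer (A : Set X) ≤
      V ⊓ centralizer (E : Set X) ⊓ centralizer ({t} : Set X) := by
    rintro v ⟨hv, hvA⟩
    refine ⟨⟨hv, mem_centralizer_iff.2 fun e he => mem_centralizer_iff.1 hvA e (hEA he)⟩, ?_⟩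
    exact mem_centralizer_singleton_iff.2 (mem_centralizer_iff.1 hvA t htA).symm
  have hd := relIndex_dvd_of_le_left V hle
  have hne0 : (V ⊓ centralizer (A : Set X)).relIndex V ≠ 0 := by
    rw [relIndex]
    exact index_ne_zero_of_finite
  have hle2 := Nat.le_of_dvd (Nat.pos_of_ne_zero hne0) hd
  rw [← hmul] at hle2
  calc Nat.card A ^ 2 ≤ (2 * Nat.card E) ^ 2 := Nat.pow_le_pow_left hcAE 2
    _ = 4 * Nat.card E ^ 2 := by ring
    _ ≤ _ := Nat.mul_le_mul h4 hih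
    _ ≤ _ := hle2

theorem s3755 [Finite X] (M V : Subgroup X) (hV : Cfsg.IsElementaryAbelian 2 V)
    (hMV : M ≤ Subgroup.normalizer (V : Set X)) (hfaith : M ⊓ Subgroup.centralizer (V : Set X) = ⊥)
    (hcon : Subgroup.centralizer (Cfsg.pPrimeCore 2 ↥M : Set ↥M) ≤ Cfsg.pPrimeCore 2 ↥M)
    (A : Subgroup X) (hAM : A ≤ M) (hA : Cfsg.IsElementaryAbelian 2 A)
    (hsmall : (V ⊓ Subgroup.centralizer (A : Set X)).relIndex V < Nat.card A ^ 2) :
    Cfsg.Involves (Equiv.Perm (Fin 3)) ↥M := by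
  by_contra hS3
  have hEl : ∀ {B : Subgroup X}, Cfsg.IsElementaryAbelian 2 B → El 2 B := fun hB =>
    ⟨fun a ha b hb => congrArg Subtype.val (hB.1.is_comm.comm (⟨a, ha⟩ : _) ⟨b, hb⟩), hB.2⟩
  have hcop := CfsgLib.Cores.pPrimeCore_coprime (G := M) 2
  have hodd : Odd (Nat.card (pPrimeCore 2 M)) := Nat.coprime_two_right.1 hcop
  have hKo : Odd (Nat.card ((pPrimeCore 2 M).map M.subtype : Subgroup X)) := by
    rw [card_map_of_injective M.subtype_injective]; exact hodd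
  have h1 := main (K := (pPrimeCore 2 M).map M.subtype) hS3 (hEl hV) hMV hfaith
    (map_subtype_le _) hKo
    (by
      apply le_norm
      rintro m hm _ ⟨k, hk, rfl⟩
      exact ⟨⟨m, hm⟩ * k * ⟨m, hm⟩⁻¹,
        (inferInstance : (pPrimeCore 2 M).Normal).conj_mem _ hk _, rfl⟩)
    (by
      intro t htM ht2 htK
      have h2 : (⟨t, htM⟩ : M) ∈ centralizer (pPrimeCore 2 M : Set M) := by
        rw [mem_centralizer_iff]
        intro k hk
        apply Subtype.ext
        exact (mul_inv_eq_iff_eq_mul.1 (htK k ⟨k, hk, rfl⟩)).symm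
      have h3 : t ^ Nat.card (pPrimeCore 2 M) = 1 :=
        congrArg (fun z => ((z : M) : X)) (congrArg Subtype.val
          (pow_card_eq_one' (x := (⟨_, hcon h2⟩ : pPrimeCore 2 M))))
      exact odd_sq hodd h3 ht2)
    (Nat.card A) A rfl hAM (hEl hA)
  omega

end CfsgLib.H7Dih
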