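import Cfsg.Agent.LibH2Baer
import Cfsg.Agent.LibCores

set_option autoImplicit false

/-! Commuting geometries of subgroups of order `p` with nonempty radical (helper7). -/

namespace CfsgLib.H7Fis

open Cfsg Subgroup

universe u
variable {G : Type u} [Group G] {p : ℕ}

theorem mem_zpowers_zpow (hp : p.Prime) {w : G} (hw : orderOf w = p) {i : ℤ} (h : w ^ i ≠ 1) :
    w ∈ zpowers (w ^ i) := by
  have h1 : ¬ (p : ℤ) ∣ i := by
    intro h2
    apply h
    rw [← hw] at h2
    exact orderOf_dvd_iff_zpow_eq_one.mp h2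
  have h2 : IsCoprime i (p : ℤ) := by
    rw [isCoprime_comm]
    exact (Nat.prime_iff_prime_int.mp hp).coprime_iff_not_dvd.mpr h1
  obtain ⟨a, b, hab⟩ := h2
  refine ⟨a, ?_⟩
  have h3 : w ^ (p : ℤ) = 1 := by rw [zpow_natCast, ← hw]; exact pow_orderOf_eq_one w
  change (w ^ i) ^ a = w
  rw [← zpow_mul, mul_comm i a]
  calc w ^ (a * i) = w ^ (a * i) * (w ^ (p : ℤ)) ^ b := by rw [h3, one_zpow, mul_one]
    _ = w ^ (a * i + b * p) := by rw [← zpow_mul, ← zpow_add, mul_comm b]
    _ = w := by rw [hab, zpow_one]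

theorem comm_of_mem_zpowers {w x t : G} (h : x ∈ zpowers w) (hw : Commute w t) : Commute x t := by
  obtain ⟨i, rfl⟩ := h
  exact hw.zpow_left i

theorem comm_of_zpow (hp : p.Prime) {w t : G} (hw : orderOf w = p) {i : ℤ} (h : w ^ i ≠ 1)
    (hc : Commute (w ^ i) t) : Commute w t :=
  comm_of_mem_zpowers (mem_zpowers_zpow hp hw h) hc

structure Sys (p : ℕ) (k : Set G) : Prop where
  hp : p.Prime
  ord : ∀ x ∈ k, orderOf x = p
  pow : ∀ x ∈ k, ∀ i : ℤ, x ^ i ≠ 1 → x ^ i ∈ k
  conj : ∀ x ∈ k, ∀ g : G, g * x * g⁻¹ ∈ k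
  mul : ∀ x ∈ k, ∀ y ∈ k, Commute x y → y ∉ zpowers x → x * y ∈ k
  line : ∀ x ∈ k, ∀ y ∈ k, Commute x y → y ∉ zpowers x → ∀ w ∈ k,
    ∃ i j : ℤ, x ^ i * y ^ j ≠ 1 ∧ Commute w (x ^ i * y ^ j)

variable {k : Set G}

namespace Sys

theorem ne_one (h : Sys p k) {x : G} (hx : x ∈ k) : x ≠ 1 := by
  intro h1
  have := h.ord x hx
  rw [h1, orderOf_one] at this
  exact h.hp.one_lt.ne this

theorem line' (h : Sys p k) {x y w : G} (hx : x ∈ k) (hy : y ∈ k) (hxy : Commute x y)
    (hyx : y ∉ zpowers x) (hw : w ∈ k) : Commute w x ∨ ∃ i : ℤ, Commute w (x ^ i * y) := by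
  obtain ⟨i, j, h1, h2⟩ := h.line x hx y hy hxy hyx w hw
  by_cases hj : y ^ j = 1
  · left
    rw [hj, mul_one] at h1 h2
    exact (comm_of_zpow h.hp (h.ord x hx) h1 h2.symm).symm
  · right
    obtain ⟨m, hm⟩ := mem_zpowers_zpow h.hp (h.ord y hy) hj
    refine ⟨i * m, ?_⟩
    have h3 : (x ^ i * y ^ j) ^ m = x ^ (i * m) * y := by
      rw [((hxy.zpow_left i).zpow_right j).mul_zpow, ← zpow_mul]
      congr 1
    rw [← h3]
    exact h2.zpow_right m

theorem mul' (h : Sys p k) {x y : G} (hx : x ∈ k) (hy : y ∈ k) (hxy : Commute x y)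
    (hyx : y ∉ zpowers x) (i : ℤ) : x ^ i * y ∈ k := by
  by_cases h1 : x ^ i = 1
  · rw [h1, one_mul]; exact hy
  · apply h.mul _ (h.pow x hx i h1) _ hy (hxy.zpow_left i)
    intro h2
    apply hyx
    obtain ⟨j, hj⟩ := h2
    exact ⟨i * j, by rw [← hj]; exact zpow_mul x i j⟩

theorem not_mem (h : Sys p k) {w x y : G} (hx : x ∈ k) (hxw : Commute x w)
    (hyw : ¬ Commute y w) : y ∉ zpowers x := by
  intro h1
  exact hyw (comm_of_mem_zpowers h1 hxw)

theorem not_mem' (h : Sys p k) {w x y : G} (hx : x ∈ k) (hxw : Commute x w)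
    (hy : y ∈ k) (hyw : ¬ Commute y w) : x ∉ zpowers y := by
  rintro ⟨i, rfl⟩
  exact hyw (comm_of_zpow h.hp (h.ord y hy) (h.ne_one hx) hxw)

/-- type I configuration -/
structure TI (k : Set G) (w y x : G) : Prop where
  hw : w ∈ k
  hy : y ∈ k
  hx : x ∈ k
  nwy : ¬ Commute w y
  nwy' : ¬ Commute w (y * w * y⁻¹)
  xw : Commute x w
  xy : Commute x y

theorem step1 (h : Sys p k) {w y x : G} (c : TI k w y x) {u : G} (hu : u ∈ k) (huw : Commute u w)
    (huy : Commute u y) : Commute u x := by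
  have hyx : y ∉ zpowers x := h.not_mem (w := w) c.hx c.xw (fun hh => c.nwy hh.symm)
  have hz : x * y ∈ k := h.mul _ c.hx _ c.hy c.xy hyx
  have huw' : u ∉ zpowers w := h.not_mem' (w := y) hu huy c.hw c.nwy
  rcases h.line' c.hw hu huw.symm huw' hz with h1 | ⟨i, h1⟩
  · exfalso
    apply c.nwy
    have h2 : Commute (x⁻¹ * (x * y)) w := c.xw.inv_left.mul_left h1
    rw [inv_mul_cancel_left] at h2
    exact h2.symm
  · by_cases hi : w ^ i = 1
    · rw [hi, one_mul] at h1
      have h2 : Commute (x * y * y⁻¹) u := h1.mul_left huy.symm.inv_left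
      rw [mul_inv_cancel_right] at h2
      exact h2.symm
    · exfalso
      apply c.nwy'
      have h2 : Commute u (y * w * y⁻¹) := (huy.mul_right huw).mul_right huy.inv_right
      have h3 : Commute (w ^ i * u) w := ((Commute.refl w).zpow_left i).mul_left huw
      have h4 : Commute (w ^ i * u) (x * y * w * (x * y)⁻¹) :=
        (h1.symm.mul_right h3).mul_right h1.symm.inv_right
      have h5 : x * y * w * (x * y)⁻¹ = y * w * y⁻¹ := by
        rw [c.xy.eq]
        calc y * x * w * (y * x)⁻¹ = y * (x * w) * x⁻¹ * y⁻¹ := by group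
          _ = y * (w * x) * x⁻¹ * y⁻¹ := by rw [c.xw.eq]
          _ = _ := by group
      rw [h5] at h4
      have h6 : Commute (w ^ i * u * u⁻¹) (y * w * y⁻¹) := h4.mul_left h2.inv_left
      rw [mul_inv_cancel_right] at h6
      exact comm_of_zpow h.hp (h.ord w c.hw) hi h6

theorem step2 (h : Sys p k) {w y x : G} (c : TI k w y x) {u : G} (hu : u ∈ k)
    (huy : Commute u y) : Commute u x := by
  by_cases h1 : u ∈ zpowers y
  · exact comm_of_mem_zpowers h1 c.xy.symm
  · rcases h.line' c.hy hu huy.symm h1 c.hw with h2 | ⟨i, h2⟩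
    · exact absurd h2 c.nwy
    · have h3 : y ^ i * u ∈ k := h.mul' c.hy hu huy.symm h1 i
      have h4 := h.step1 c h3 h2.symm (((Commute.refl y).zpow_left i).mul_left huy)
      have h5 : Commute ((y ^ i)⁻¹ * (y ^ i * u)) x := (c.xy.symm.zpow_left i).inv_left.mul_left h4
      rwa [inv_mul_cancel_left] at h5

theorem step4 (h : Sys p k) {w y x : G} (c : TI k w y x) {t : G} (ht : t ∈ k) : Commute t x := by
  have hyx : y ∉ zpowers x := h.not_mem (w := w) c.hx c.xw (fun hh => c.nwy hh.symm)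
  rcases h.line' c.hx c.hy c.xy hyx ht with h1 | ⟨i, h1⟩
  · exact h1
  · have hxi : Commute (x ^ i) w := c.xw.zpow_left i
    have hc : TI k w (x ^ i * y) x := by
      refine ⟨c.hw, h.mul' c.hx c.hy c.xy hyx i, c.hx, ?_, ?_, c.xw,
        ((Commute.refl x).zpow_right i).mul_right c.xy⟩
      · intro h2
        apply c.nwy
        have h3 : Commute w ((x ^ i)⁻¹ * (x ^ i * y)) := hxi.symm.inv_right.mul_right h2
        rwa [inv_mul_cancel_left] at h3
      · have h5 : x ^ i * y * w * (x ^ i * y)⁻¹ = y * w * y⁻¹ := by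
          rw [(c.xy.zpow_left i).eq]
          calc y * x ^ i * w * (y * x ^ i)⁻¹ = y * (x ^ i * w) * (x ^ i)⁻¹ * y⁻¹ := by group
            _ = y * (w * x ^ i) * (x ^ i)⁻¹ * y⁻¹ := by rw [hxi.eq]
            _ = _ := by group
        rw [h5]; exact c.nwy'
    exact h.step2 hc ht h1

theorem isPGroup_zpowers (h : Sys p k) {x : G} (hx : x ∈ k) : IsPGroup p (zpowers x) :=
  IsPGroup.of_card (n := 1) (by rw [Nat.card_zpowers, h.ord x hx, pow_one])

/-- type II for all pairs -/
theorem isPGroup_pair [Finite G] (h : Sys p k) (hII : ∀ w ∈ k, ∀ y ∈ k, Commute w (y * w * y⁻¹))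
    {w y : G} (hw : w ∈ k) (hy : y ∈ k) : IsPGroup p ↥(closure {w, y}) := by
  haveI : Fact p.Prime := ⟨h.hp⟩
  obtain ⟨c, hc⟩ : ∃ c, c = w * y * w⁻¹ * y⁻¹ := ⟨_, rfl⟩
  have hcw : Commute c w := by
    have h1 : c = w * (y * w * y⁻¹)⁻¹ := by rw [hc]; group
    rw [h1]
    exact (Commute.refl w).mul_left (hII w hw y hy).symm.inv_left
  have hcy : Commute c y := by
    have h1 : c = (w * y * w⁻¹) * y⁻¹ := by rw [hc]
    rw [h1]
    exact (hII y hy w hw).symm.mul_left (Commute.refl y).inv_left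
  have hcp : c ^ p = 1 := by
    have h1 : c = w * (y * w * y⁻¹)⁻¹ := by rw [hc]; group
    rw [h1, ((hII w hw y hy).inv_right).mul_pow, inv_pow, conj_pow]
    rw [← h.ord w hw, pow_orderOf_eq_one]
    group
  have h1 : IsPGroup p (zpowers c) := by
    rcases (Nat.dvd_prime h.hp).mp (orderOf_dvd_of_pow_eq_one hcp) with h2 | h2
    · exact IsPGroup.of_card (n := 0) (by rw [Nat.card_zpowers, h2, pow_zero])
    · exact IsPGroup.of_card (n := 1) (by rw [Nat.card_zpowers, h2, pow_one])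
  have h2 : IsPGroup p ↥(zpowers w ⊔ zpowers c) := by
    apply IsPGroup.to_sup_of_normal_right' (h.isPGroup_zpowers hw) h1
    rw [zpowers_le, Subgroup.mem_normalizer_iff]
    intro x
    constructor
    · rintro ⟨i, rfl⟩
      refine ⟨i, ?_⟩
      change c ^ i = w * c ^ i * w⁻¹
      rw [← (hcw.zpow_left i).eq, mul_inv_cancel_right]
    · rintro ⟨i, hi⟩
      refine ⟨i, ?_⟩
      change c ^ i = _ at hi
      have h3 : x = w⁻¹ * (w * x * w⁻¹) * w := by group
      rw [h3, ← hi, mul_assoc, (hcw.zpow_left i).eq, inv_mul_cancel_left]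
  have h3 : IsPGroup p ↥(zpowers y ⊔ (zpowers w ⊔ zpowers c)) := by
    apply IsPGroup.to_sup_of_normal_right' (h.isPGroup_zpowers hy) h2
    have h4 : (zpowers w ⊔ zpowers c).map (MulAut.conj y).toMonoidHom = zpowers w ⊔ zpowers c := by
      have h5 : (zpowers w ⊔ zpowers c).map (MulAut.conj y).toMonoidHom ≤ zpowers w ⊔ zpowers c := by
        rw [Subgroup.map_sup]
        apply sup_le
        · rw [MonoidHom.map_zpowers, zpowers_le]
          change y * w * y⁻¹ ∈ _
          have h6 : y * w * y⁻¹ = c⁻¹ * w := by rw [hc]; group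
          rw [h6]
          exact mul_mem (inv_mem (mem_sup_right (mem_zpowers c))) (mem_sup_left (mem_zpowers w))
        · rw [MonoidHom.map_zpowers, zpowers_le]
          change y * c * y⁻¹ ∈ _
          rw [← hcy.eq, mul_inv_cancel_right]
          exact mem_sup_right (mem_zpowers c)
      apply Subgroup.eq_of_le_of_card_ge h5
      rw [Subgroup.card_map_of_injective (MulAut.conj y).injective]
    rw [zpowers_le]
    exact CfsgLib.FusionH12.mem_nrm.mpr h4
  refine h3.to_le ?_
  rw [closure_le]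
  rintro x (rfl | rfl)
  · exact mem_sup_right (mem_sup_left (mem_zpowers _))
  · exact mem_sup_left (mem_zpowers _)

theorem radical [Finite G] (h : Sys p k) (hne : ∃ x ∈ k, ∃ y ∈ k, Commute x y ∧ y ∉ zpowers x) :
    ∃ v ∈ k, ∀ w ∈ k, Commute v w := by
  haveI : Fact p.Prime := ⟨h.hp⟩
  obtain ⟨x0, hx0, y0, hy0, hxy0, hyx0⟩ := hne
  by_cases hI : ∃ w ∈ k, ∃ y ∈ k, ¬ Commute w (y * w * y⁻¹)
  · obtain ⟨w, hw, y, hy, hwy'⟩ := hI
    have hwy : ¬ Commute w y := by
      intro h1
      apply hwy'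
      rw [← h1.eq, mul_inv_cancel_right]
    -- `y` lies on a line
    obtain ⟨z, hz, hzy, hzy'⟩ : ∃ z ∈ k, Commute y z ∧ z ∉ zpowers y := by
      rcases h.line' hx0 hy0 hxy0 hyx0 hy with h1 | ⟨i, h1⟩
      · by_cases h2 : x0 ∈ zpowers y
        · refine ⟨y0, hy0, ?_, ?_⟩
          · obtain ⟨i, hi⟩ := h2
            have h3 : Commute (y ^ i) y0 := by
              change y ^ i = x0 at hi
              rw [hi]; exact hxy0
            exact comm_of_zpow h.hp (h.ord y hy) (i := i) (by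
              change y ^ i = x0 at hi
              rw [hi]; exact h.ne_one hx0) h3
          · intro h3
            apply hyx0
            obtain ⟨i, hi⟩ := h2
            change y ^ i = x0 at hi
            have h4 : y ∈ zpowers x0 := by
              rw [← hi]
              exact mem_zpowers_zpow h.hp (h.ord y hy) (by rw [hi]; exact h.ne_one hx0)
            exact (zpowers_le.mpr h4) h3
        · exact ⟨x0, hx0, h1, h2⟩
      · have h5 := h.mul' hx0 hy0 hxy0 hyx0 i
        by_cases h2 : x0 ^ i * y0 ∈ zpowers y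
        · -- then `y` commutes with `x0`
          have h6 : y ∈ zpowers (x0 ^ i * y0) := by
            obtain ⟨j, hj⟩ := h2
            change y ^ j = _ at hj
            rw [← hj]
            exact mem_zpowers_zpow h.hp (h.ord y hy) (by rw [hj]; exact h.ne_one h5)
          have h7 : Commute y x0 := by
            apply comm_of_mem_zpowers h6
            exact (((Commute.refl x0).zpow_right i).mul_right hxy0).symm
          refine ⟨x0, hx0, h7, ?_⟩
          intro h8
          apply hyx0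
          have h9 : y ∈ zpowers x0 := by
            obtain ⟨j, hj⟩ := h8
            change y ^ j = _ at hj
            rw [← hj]
            exact mem_zpowers_zpow h.hp (h.ord y hy) (by rw [hj]; exact h.ne_one hx0)
          have h10 : x0 ^ i * y0 ∈ zpowers x0 := (zpowers_le.mpr h9) h2
          exact ((zpowers x0).mul_mem_cancel_left (zpow_mem (mem_zpowers x0) i)).mp h10
        · exact ⟨_, h5, h1, h2⟩
    -- a common neighbour
    obtain ⟨x, hx, hxw, hxy⟩ : ∃ x ∈ k, Commute x w ∧ Commute x y := by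
      rcases h.line' hy hz hzy hzy' hw with h1 | ⟨i, h1⟩
      · exact absurd h1 hwy
      · exact ⟨_, h.mul' hy hz hzy hzy' i, h1.symm, ((Commute.refl y).zpow_left i).mul_left hzy.symm⟩
    have hc : TI k w y x := ⟨hw, hy, hx, hwy, hwy', hxw, hxy⟩
    exact ⟨x, hx, fun t ht => (h.step4 hc ht).symm⟩
  · push Not at hI
    have hle : ∀ x ∈ k, x ∈ pCore p G := by
      intro x hx
      apply CfsgLib.H2Baer.baer_suzuki_elt
      intro g
      exact h.isPGroup_pair hI hx (h.conj x hx g)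
    haveI hnil : Group.IsNilpotent (pCore p G) := (CfsgLib.Cores.pCore_isPGroup p).isNilpotent
    obtain ⟨n, hn⟩ := hnil.nilpotent
    have hex : ∃ n : ℕ, ∃ w, ∃ hw : w ∈ k, (⟨w, hle w hw⟩ : pCore p G) ∈ Subgroup.upperCentralSeries (pCore p G) n :=
      ⟨n, x0, hx0, by rw [hn]; exact mem_top _⟩
    classical
    obtain ⟨m, ⟨w, hw, hwm⟩, hmin⟩ : ∃ m, (∃ w, ∃ hw : w ∈ k, (⟨w, hle w hw⟩ : pCore p G) ∈
        Subgroup.upperCentralSeries (pCore p G) m) ∧ ∀ j < m, ¬ ∃ w, ∃ hw : w ∈ k,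
          (⟨w, hle w hw⟩ : pCore p G) ∈ Subgroup.upperCentralSeries (pCore p G) j :=
      ⟨Nat.find hex, Nat.find_spec hex, fun j hj => Nat.find_min hex hj⟩
    refine ⟨w, hw, ?_⟩
    intro y hy
    by_contra hwy
    rcases m with _ | m
    · rw [Subgroup.upperCentralSeries_zero, mem_bot] at hwm
      exact h.ne_one hw (congrArg Subtype.val hwm)
    · apply hmin m (Nat.lt_succ_self m)
      rw [Subgroup.mem_upperCentralSeries_succ_iff] at hwm
      have h1 := hwm ⟨y, hle y hy⟩
      by_cases h2 : y * w * y⁻¹ ∈ zpowers w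
      · refine ⟨w, hw, ?_⟩
        obtain ⟨j, hj⟩ := h2
        change w ^ j = _ at hj
        have h3 : w ^ (1 - j) = w * y * w⁻¹ * y⁻¹ := by
          rw [sub_eq_add_neg, zpow_add, zpow_one, zpow_neg, hj]; group
        have h4 : w ^ (1 - j) ≠ 1 := by
          rw [h3]
          intro h5
          apply hwy
          rw [mul_inv_eq_one, mul_inv_eq_iff_eq_mul] at h5
          exact h5
        obtain ⟨l, hl⟩ := mem_zpowers_zpow h.hp (h.ord w hw) h4
        have h5 : (⟨w, hle w hw⟩ : pCore p G) =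
            ((⟨w, hle w hw⟩ : pCore p G) * ⟨y, hle y hy⟩ * (⟨w, hle w hw⟩ : pCore p G)⁻¹ * (⟨y, hle y hy⟩ : pCore p G)⁻¹) ^ l := by
          apply Subtype.ext
          change w = (w * y * w⁻¹ * y⁻¹) ^ l
          rw [← h3]; exact hl.symm
        rw [h5]
        exact zpow_mem h1 l
      · have h3 : w * (y * w * y⁻¹)⁻¹ ∈ k := by
          apply h.mul w hw _ _ (hI w hw y hy).inv_right
          · rwa [inv_mem_iff]
          · have h4 := h.pow _ (h.conj w hw y) (-1) (by
              rw [zpow_neg, zpow_one]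
              intro h5
              exact h.ne_one (h.conj w hw y) (inv_eq_one.mp h5))
            rwa [zpow_neg, zpow_one] at h4
        refine ⟨_, h3, ?_⟩
        have h4 : (⟨w * (y * w * y⁻¹)⁻¹, hle _ h3⟩ : pCore p G) =
            ((⟨w, hle w hw⟩ : pCore p G) * ⟨y, hle y hy⟩ * (⟨w, hle w hw⟩ : pCore p G)⁻¹ * (⟨y, hle y hy⟩ : pCore p G)⁻¹) := by
          apply Subtype.ext
          change w * (y * w * y⁻¹)⁻¹ = w * y * w⁻¹ * y⁻¹
          group
        rw [h4]
        exact h1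

theorem s3196 [Finite G] (h : Sys p k) (hne : ∃ x ∈ k, ∃ y ∈ k, Commute x y ∧ y ∉ zpowers x) :
    ∃ v ∈ k, (∀ w ∈ k, Commute v w) ∧ v ∈ pCore p G := by
  obtain ⟨v, hv, hvw⟩ := h.radical hne
  refine ⟨v, hv, hvw, ?_⟩
  haveI : Fact p.Prime := ⟨h.hp⟩
  apply CfsgLib.H2Baer.baer_suzuki_elt
  intro g
  have h1 : IsPGroup p ↥(zpowers v ⊔ zpowers (g * v * g⁻¹)) := by
    apply IsPGroup.to_sup_of_normal_right' (h.isPGroup_zpowers hv)
      (h.isPGroup_zpowers (h.conj v hv g))
    rw [zpowers_le]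
    apply Subgroup.centralizer_le_normalizer
    rw [mem_centralizer_iff]
    rintro _ ⟨i, rfl⟩
    exact (((hvw _ (h.conj v hv g)).zpow_right i).eq).symm
  refine h1.to_le ?_
  rw [closure_le]
  rintro x (rfl | rfl)
  · exact mem_sup_left (mem_zpowers _)
  · exact mem_sup_right (mem_zpowers _)

end Sys

end CfsgLib.H7Fis
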