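import Cfsg.Agent.LibH7Fis

set_option autoImplicit false

/-! Four-groups whose involutions have all conjugates centralized by an involution (helper7). -/

namespace CfsgLib.H7Fis

open Cfsg Subgroup

universe u
variable {G : Type u} [Group G]

theorem odd_sq_mem {x : G} (hx : Odd (orderOf x)) : x ∈ zpowers (x ^ 2) := by
  obtain ⟨m, hm⟩ := hx
  refine ⟨(m + 1 : ℤ), ?_⟩
  change (x ^ 2) ^ (m + 1 : ℤ) = x
  have h1 : (x ^ 2) ^ (m + 1 : ℤ) = x ^ (2 * m + 1) * x := by
    rw [show ((m : ℤ) + 1) = ((m + 1 : ℕ) : ℤ) by push_cast; ring, zpow_natCast, ← pow_mul, ← pow_succ]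
    congr 1
  rw [h1, ← hm, pow_orderOf_eq_one, one_mul]

theorem odd_comm_sq {x t : G} (hx : Odd (orderOf x)) (h : Commute (x ^ 2) t) : Commute x t :=
  comm_of_mem_zpowers (odd_sq_mem hx) h

theorem odd_sq_eq_one {x : G} (hx : Odd (orderOf x)) (h : x ^ 2 = 1) : x = 1 := by
  obtain ⟨i, hi⟩ := odd_sq_mem hx
  change (x ^ 2) ^ i = x at hi
  rw [h, one_zpow] at hi
  exact hi.symm

theorem odd_sq {x : G} (hx : Odd (orderOf x)) : Odd (orderOf (x ^ 2)) := by
  have h1 : orderOf (x ^ 2) ∣ orderOf x := orderOf_pow_dvd 2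
  exact Odd.of_dvd_nat hx h1

/-- an involution outside `O_2` inverts an element of odd order -/
theorem exists_inverted [Finite G] {a : G} (ha : a * a = 1) (h : a ∉ pCore 2 G) :
    ∃ y : G, y ≠ 1 ∧ Odd (orderOf y) ∧ a * y * a = y⁻¹ := by
  have h1 : ∃ g : G, ¬ IsPGroup 2 ↥(closure {a, g * a * g⁻¹}) := by
    by_contra h2
    push Not at h2
    exact h (CfsgLib.H2Baer.baer_suzuki_elt h2)
  obtain ⟨g, hg⟩ := h1
  obtain ⟨b, hb⟩ : ∃ b, b = g * a * g⁻¹ := ⟨_, rfl⟩
  rw [← hb] at hg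
  have hbb : b * b = 1 := by
    rw [hb]
    calc g * a * g⁻¹ * (g * a * g⁻¹) = g * (a * a) * g⁻¹ := by group
      _ = 1 := by rw [ha]; group
  have hai : a⁻¹ = a := inv_eq_of_mul_eq_one_left ha
  have hbi : b⁻¹ = b := inv_eq_of_mul_eq_one_left hbb
  obtain ⟨r, hr⟩ : ∃ r, r = a * b := ⟨_, rfl⟩
  have hinv : a * r * a = r⁻¹ := by
    rw [hr, mul_inv_rev, hai, hbi, ← mul_assoc, ha, one_mul]
  have hinvp : ∀ n : ℕ, a * r ^ n * a = (r ^ n)⁻¹ := by
    intro n
    have h2 : a * r ^ n * a = (a * r * a) ^ n := by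
      induction n with
      | zero => rw [pow_zero, pow_zero, mul_one, ha]
      | succ n ih =>
        rw [pow_succ (a * r * a), ← ih, pow_succ]
        calc a * (r ^ n * r) * a = a * r ^ n * 1 * (r * a) := by group
          _ = a * r ^ n * (a * a) * (r * a) := by rw [ha]
          _ = _ := by group
    rw [h2, hinv, inv_pow]
  have hnr : ¬ IsPGroup 2 ↥(zpowers r) := by
    intro h2
    apply hg
    have h3 : IsPGroup 2 ↥(zpowers a ⊔ zpowers r) := by
      apply IsPGroup.to_sup_of_normal_right' _ h2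
      · rw [zpowers_le, Subgroup.mem_normalizer_iff]
        have hz : ∀ i : ℤ, a * r ^ i * a = r ^ (-i) := by
          intro i
          have h4 : a * r ^ i * a⁻¹ = (a * r * a⁻¹) ^ i := (conj_zpow).symm
          rw [hai] at h4
          rw [h4, hinv, inv_zpow']
        intro x
        constructor
        · rintro ⟨i, rfl⟩
          refine ⟨-i, ?_⟩
          change r ^ (-i) = a * r ^ i * a⁻¹
          rw [hai, hz]
        · rintro ⟨i, hi⟩
          refine ⟨-i, ?_⟩
          change r ^ i = _ at hi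
          change r ^ (-i) = x
          rw [← hz, hi, hai]
          calc a * (a * x * a) * a = (a * a) * x * (a * a) := by group
            _ = x := by rw [ha]; group
      · have h4 : orderOf a ∣ 2 := orderOf_dvd_of_pow_eq_one (by rw [pow_two, ha])
        rcases (Nat.dvd_prime Nat.prime_two).mp h4 with h5 | h5
        · exact IsPGroup.of_card (n := 0) (by rw [Nat.card_zpowers, h5, pow_zero])
        · exact IsPGroup.of_card (n := 1) (by rw [Nat.card_zpowers, h5, pow_one])
    refine h3.to_le ?_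
    rw [closure_le]
    rintro x (rfl | rfl)
    · exact mem_sup_left (mem_zpowers _)
    · have h4 : x = a⁻¹ * r := by rw [hr, inv_mul_cancel_left]
      rw [h4]
      exact mul_mem (inv_mem (mem_sup_left (mem_zpowers a))) (mem_sup_right (mem_zpowers r))
  obtain ⟨k, m, hm, hkm⟩ := Nat.exists_eq_two_pow_mul_odd (orderOf_pos r).ne'
  refine ⟨r ^ 2 ^ k, ?_, ?_, hinvp _⟩
  · intro h2
    apply hnr
    apply IsPGroup.of_card (n := k)
    rw [Nat.card_zpowers]
    apply Nat.dvd_antisymm (orderOf_dvd_of_pow_eq_one h2)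
    rw [hkm]; exact Dvd.intro _ rfl
  · have h2 : orderOf (r ^ 2 ^ k) = m := by
      rw [orderOf_pow' _ (pow_ne_zero _ two_ne_zero), hkm, Nat.gcd_eq_right (Dvd.intro _ rfl),
        Nat.mul_div_cancel_left _ (pow_pos two_pos k)]
    rw [h2]; exact hm

theorem kf {A : Subgroup G} (hA : IsKleinFour ↥A) {a b e : G} (ha : a ∈ A) (hb : b ∈ A) (he : e ∈ A)
    (ha1 : a ≠ 1) (hb1 : b ≠ 1) (hab : a ≠ b) (he1 : e ≠ 1) : e = a ∨ e = b ∨ e = a * b := by
  by_contra h
  push Not at h
  have h1 := IsKleinFour.eq_mul_of_ne_all (G := A) (x := ⟨a, ha⟩) (y := ⟨b, hb⟩) (z := ⟨e, he⟩)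
    (fun h => ha1 (congrArg Subtype.val h)) (fun h => hb1 (congrArg Subtype.val h))
    (fun h => hab (congrArg Subtype.val h)) (fun h1 => he1 (congrArg Subtype.val h1))
    (fun h1 => h.1 (congrArg Subtype.val h1)) (fun h1 => h.2.1 (congrArg Subtype.val h1))
  exact h.2.2 (congrArg Subtype.val h1)

/-- the main computation -/
theorem contra [Finite G] {a b y z : G} (ha : a * a = 1) (hb : b * b = 1) (hab : a * b = b * a)
    (hy : y ≠ 1) (hyo : Odd (orderOf y)) (hz : z ≠ 1) (hzo : Odd (orderOf z))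
    (hay : a * y * a = y⁻¹) (hby : b * y = y * b) (hbz : b * z * b = z⁻¹) (haz : a * z = z * a)
    (h : ∀ e, (e = a ∨ e = a * b) → ∃ f, (f = a ∨ f = b ∨ f = a * b) ∧
      Commute (y * e * y⁻¹) (z * f * z⁻¹)) : False := by
  have hai : a⁻¹ = a := inv_eq_of_mul_eq_one_left ha
  have hbi : b⁻¹ = b := inv_eq_of_mul_eq_one_left hb
  -- squares
  obtain ⟨Y, hY⟩ : ∃ Y, Y = y ^ 2 := ⟨_, rfl⟩
  obtain ⟨Z, hZ⟩ : ∃ Z, Z = z ^ 2 := ⟨_, rfl⟩
  have hY1 : Y ≠ 1 := fun h => hy (odd_sq_eq_one hyo (hY ▸ h))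
  have hZ1 : Z ≠ 1 := fun h => hz (odd_sq_eq_one hzo (hZ ▸ h))
  have hYo : Odd (orderOf Y) := hY ▸ odd_sq hyo
  have hZo : Odd (orderOf Z) := hZ ▸ odd_sq hzo
  have hay' : a * y⁻¹ = y * a := by
    rw [← hay]
    calc a * (a * y * a) = (a * a) * (y * a) := by group
      _ = y * a := by rw [ha, one_mul]
  have hbz' : b * z⁻¹ = z * b := by
    rw [← hbz]
    calc b * (b * z * b) = (b * b) * (z * b) := by group
      _ = z * b := by rw [hb, one_mul]
  have hya : y * a * y⁻¹ = Y * a := by rw [mul_assoc, hay', ← mul_assoc, hY, pow_two]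
  have hzb : z * b * z⁻¹ = Z * b := by rw [mul_assoc, hbz', ← mul_assoc, hZ, pow_two]
  have hza : z * a * z⁻¹ = a := by rw [← haz, mul_inv_cancel_right]
  have hyb : y * b * y⁻¹ = b := by rw [← hby, mul_inv_cancel_right]
  have hyc : y * (a * b) * y⁻¹ = Y * (a * b) := by
    calc y * (a * b) * y⁻¹ = (y * a * y⁻¹) * (y * b * y⁻¹) := by group
      _ = _ := by rw [hya, hyb, mul_assoc]
  have hzc : z * (a * b) * z⁻¹ = Z * (a * b) := by
    calc z * (a * b) * z⁻¹ = (z * a * z⁻¹) * (z * b * z⁻¹) := by group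
      _ = a * (Z * b) := by rw [hza, hzb]
      _ = (a * Z) * b := by rw [mul_assoc]
      _ = (Z * a) * b := by
          rw [hZ]
          have : Commute a (z ^ 2) := (show Commute a z from haz).pow_right 2
          rw [this.eq]
      _ = _ := by rw [mul_assoc]
  -- commutation rules for `Y`, `Z`
  have haY : a * Y = Y⁻¹ * a := by
    have h1 : a * y = y⁻¹ * a := by
      rw [← hay, mul_assoc (a * y), ha, mul_one]
    rw [hY, pow_two, ← mul_assoc, h1, mul_assoc, h1, mul_inv_rev, mul_assoc]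
  have haY' : a * Y⁻¹ = Y * a := by
    rw [mul_inv_eq_iff_eq_mul, mul_assoc, haY, mul_inv_cancel_left]
  have hbY : b * Y = Y * b := by
    rw [hY]; exact ((show Commute b y from hby).pow_right 2).eq
  have hbZ : b * Z = Z⁻¹ * b := by
    have h1 : b * z = z⁻¹ * b := by
      rw [← hbz, mul_assoc (b * z), hb, mul_one]
    rw [hZ, pow_two, ← mul_assoc, h1, mul_assoc, h1, mul_inv_rev, mul_assoc]
  have haZ : a * Z = Z * a := by
    rw [hZ]; exact ((show Commute a z from haz).pow_right 2).eq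
  have hYY : ¬ Y = Y⁻¹ := by
    intro h1
    apply hY1
    apply odd_sq_eq_one hYo
    rw [pow_two]
    nth_rewrite 1 [h1]
    exact inv_mul_cancel Y
  have hZZ : ¬ Z = Z⁻¹ := by
    intro h1
    apply hZ1
    apply odd_sq_eq_one hZo
    rw [pow_two]
    nth_rewrite 1 [h1]
    exact inv_mul_cancel Z
  -- first: `Y`, `Z` commute
  have hYZ : Y * Z = Z * Y := by
    obtain ⟨f, hf, hc⟩ := h a (Or.inl rfl)
    rw [hya] at hc
    rcases hf with rfl | rfl | rfl
    · rw [hza] at hc
      exfalso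
      apply hYY
      have h1 : Y * f * f = f * (Y * f) := hc.eq
      rw [mul_assoc, ha, mul_one, ← mul_assoc, haY, mul_assoc, ha, mul_one] at h1
      exact h1
    · rw [hzb] at hc
      have h1 : Y * a * (Z * f) = Z * f * (Y * a) := hc.eq
      have h2 : Y * a * (Z * f) = Y * Z * (a * f) := by
        calc Y * a * (Z * f) = Y * (a * Z) * f := by group
          _ = Y * (Z * a) * f := by rw [haZ]
          _ = _ := by group
      have h3 : Z * f * (Y * a) = Z * Y * (a * f) := by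
        calc Z * f * (Y * a) = Z * (f * Y) * a := by group
          _ = Z * (Y * f) * a := by rw [hbY]
          _ = Z * Y * (f * a) := by group
          _ = _ := by rw [hab]
      rw [h2, h3] at h1
      exact mul_right_cancel h1
    · rw [hzc] at hc
      exfalso
      have h1 : Y * a * (Z * (a * b)) = Z * (a * b) * (Y * a) := hc.eq
      have h2 : Y * a * (Z * (a * b)) = Y * Z * b := by
        calc Y * a * (Z * (a * b)) = Y * (a * Z) * (a * b) := by group
          _ = Y * (Z * a) * (a * b) := by rw [haZ]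
          _ = Y * Z * (a * a) * b := by group
          _ = _ := by rw [ha, mul_one]
      have h3 : Z * (a * b) * (Y * a) = Z * Y⁻¹ * b := by
        calc Z * (a * b) * (Y * a) = Z * a * (b * Y) * a := by group
          _ = Z * a * (Y * b) * a := by rw [hbY]
          _ = Z * (a * Y) * (b * a) := by group
          _ = Z * (Y⁻¹ * a) * (a * b) := by rw [haY, hab]
          _ = Z * Y⁻¹ * (a * a) * b := by group
          _ = _ := by rw [ha, mul_one]
      rw [h2, h3] at h1
      have h4 : Y * Z = Z * Y⁻¹ := mul_right_cancel h1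
      have h5 : Z⁻¹ * Y * Z = Y⁻¹ := by rw [mul_assoc, h4, inv_mul_cancel_left]
      have h6 : Commute (Z ^ 2) Y := by
        have h7 : Z⁻¹ * Y⁻¹ * Z = Y := by
          calc Z⁻¹ * Y⁻¹ * Z = (Z⁻¹ * Y * Z)⁻¹ := by group
            _ = Y := by rw [h5, inv_inv]
        change Z ^ 2 * Y = Y * Z ^ 2
        have h8 : Y = Z⁻¹ * (Z⁻¹ * Y * Z) * Z := by rw [h5, h7]
        calc Z ^ 2 * Y = Z ^ 2 * (Z⁻¹ * (Z⁻¹ * Y * Z) * Z) := by rw [← h8]
          _ = _ := by simp only [pow_two]; group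
      have h7 : Commute Z Y := odd_comm_sq hZo h6
      apply hYY
      rw [← h5, mul_assoc, ← h7.eq, inv_mul_cancel_left]
  -- second
  obtain ⟨f, hf, hc⟩ := h (a * b) (Or.inr rfl)
  rw [hyc] at hc
  rcases hf with rfl | rfl | rfl
  · rw [hza] at hc
    apply hYY
    have h1 : Y * (f * b) * f = f * (Y * (f * b)) := hc.eq
    have h2 : Y * (f * b) * f = Y * b := by
      calc Y * (f * b) * f = Y * (b * f) * f := by rw [hab]
        _ = Y * b * (f * f) := by group
        _ = _ := by rw [ha, mul_one]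
    have h3 : f * (Y * (f * b)) = Y⁻¹ * b := by
      calc f * (Y * (f * b)) = (f * Y) * (f * b) := by group
        _ = (Y⁻¹ * f) * (f * b) := by rw [haY]
        _ = Y⁻¹ * (f * f) * b := by group
        _ = _ := by rw [ha, mul_one]
    rw [h2, h3] at h1
    exact mul_right_cancel h1
  · rw [hzb] at hc
    apply hZZ
    have h1 : Y * (a * f) * (Z * f) = Z * f * (Y * (a * f)) := hc.eq
    have h2 : Y * (a * f) * (Z * f) = Y * Z⁻¹ * a := by
      calc Y * (a * f) * (Z * f) = Y * a * (f * Z) * f := by group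
        _ = Y * a * (Z⁻¹ * f) * f := by rw [hbZ]
        _ = Y * (a * Z⁻¹) * (f * f) := by group
        _ = Y * (Z⁻¹ * a) := by
            rw [hb, mul_one]
            have : Commute a Z⁻¹ := (show Commute a Z from haZ).inv_right
            rw [this.eq]
        _ = _ := by group
    have h3 : Z * f * (Y * (a * f)) = Y * Z * a := by
      calc Z * f * (Y * (a * f)) = Z * (f * Y) * (a * f) := by group
        _ = Z * (Y * f) * (a * f) := by rw [hbY]
        _ = Z * Y * (f * (a * f)) := by group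
        _ = Z * Y * (f * (f * a)) := by rw [hab]
        _ = Z * Y * ((f * f) * a) := by group
        _ = _ := by rw [hb, one_mul, hYZ]
    rw [h2, h3] at h1
    exact (mul_left_cancel (mul_right_cancel h1)).symm
  · rw [hzc] at hc
    have h1 : Y * (a * b) * (Z * (a * b)) = Z * (a * b) * (Y * (a * b)) := hc.eq
    have hcc : (a * b) * (a * b) = 1 := by
      calc (a * b) * (a * b) = (a * b) * (b * a) := by rw [hab]
        _ = a * (b * b) * a := by group
        _ = 1 := by rw [hb, mul_one, ha]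
    have h2 : Y * (a * b) * (Z * (a * b)) = Y * Z⁻¹ := by
      calc Y * (a * b) * (Z * (a * b)) = Y * a * (b * Z) * (a * b) := by group
        _ = Y * a * (Z⁻¹ * b) * (a * b) := by rw [hbZ]
        _ = Y * (a * Z⁻¹) * b * (a * b) := by group
        _ = Y * (Z⁻¹ * a) * b * (a * b) := by
            have : Commute a Z⁻¹ := (show Commute a Z from haZ).inv_right
            rw [this.eq]
        _ = Y * Z⁻¹ * ((a * b) * (a * b)) := by group
        _ = _ := by rw [hcc, mul_one]
    have h3 : Z * (a * b) * (Y * (a * b)) = Z * Y⁻¹ := by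
      calc Z * (a * b) * (Y * (a * b)) = Z * a * (b * Y) * (a * b) := by group
        _ = Z * a * (Y * b) * (a * b) := by rw [hbY]
        _ = Z * (a * Y) * b * (a * b) := by group
        _ = Z * (Y⁻¹ * a) * b * (a * b) := by rw [haY]
        _ = Z * Y⁻¹ * ((a * b) * (a * b)) := by group
        _ = _ := by rw [hcc, mul_one]
    rw [h2, h3] at h1
    have hCY : Commute Y Z := hYZ
    have h4 : Y ^ 2 = Z ^ 2 := by
      have h5 : Y * Z⁻¹ * (Y * Z) = Z * Y⁻¹ * (Y * Z) := by rw [h1]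
      have h6 : Y * Z⁻¹ * (Y * Z) = Y ^ 2 := by
        calc Y * Z⁻¹ * (Y * Z) = Y * Z⁻¹ * (Z * Y) := by rw [hYZ]
          _ = _ := by simp only [pow_two]; group
      rw [h6] at h5
      rw [h5]; simp only [pow_two]; group
    have h5 : Y = Z := by
      have h6 : (Y * Z⁻¹) ^ 2 = 1 := by
        rw [(hCY.inv_right).mul_pow, inv_pow, h4, mul_inv_cancel]
      have h7 : Odd (orderOf (Y * Z⁻¹)) := by
        have h8 : orderOf (Y * Z⁻¹) ∣ orderOf Y * orderOf Z := by
          rw [← orderOf_inv Z]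
          exact (hCY.inv_right).orderOf_mul_dvd_mul_orderOf
        exact Odd.of_dvd_nat (hYo.mul hZo) h8
      exact mul_inv_eq_one.mp (odd_sq_eq_one h7 h6)
    apply hZZ
    have h6 : b * Z = Z * b := h5 ▸ hbY
    rw [h6] at hbZ
    exact mul_right_cancel hbZ

theorem s3195 [Finite G] (A : Subgroup G) (hA : IsKleinFour ↥A)
    (h : ∀ a ∈ A, a ≠ 1 → ∀ g : G, A ⊓ Subgroup.centralizer ({g * a * g⁻¹} : Set G) ≠ ⊥) :
    A ⊓ pCore 2 G ≠ ⊥ := by
  intro hbot
  have hsq : ∀ a ∈ A, a * a = 1 := fun a ha =>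
    congrArg Subtype.val (IsKleinFour.mul_self (G := A) ⟨a, ha⟩)
  have hcomm : ∀ a ∈ A, ∀ b ∈ A, a * b = b * a := by
    intro a ha b hb
    have h1 := hsq (a * b) (mul_mem ha hb)
    have h2 := hsq a ha
    have h3 := hsq b hb
    calc a * b = a * b * 1 := by group
      _ = a * b * ((a * b) * (b * a)) := by
          have h4 : (a * b) * (b * a) = 1 := by
            calc (a * b) * (b * a) = a * (b * b) * a := by group
              _ = 1 := by rw [h3, mul_one, h2]
          rw [h4]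
      _ = ((a * b) * (a * b)) * (b * a) := by group
      _ = b * a := by rw [h1, one_mul]
  have hh : ∀ a ∈ A, a ≠ 1 → ∀ g : G, ∃ e ∈ A, e ≠ 1 ∧ Commute e (g * a * g⁻¹) := by
    intro a ha ha1 g
    obtain ⟨⟨e, he1, he2⟩, he⟩ := Subgroup.ne_bot_iff_exists_ne_one.mp (h a ha ha1 g)
    exact ⟨e, he1, fun h => he (Subtype.ext h), mem_centralizer_singleton_iff.mp he2⟩
  have hone : ∀ a ∈ A, a ≠ 1 → ∃ y : G, y ≠ 1 ∧ Odd (orderOf y) ∧ a * y * a = y⁻¹ ∧
      ∃ e ∈ A, e ≠ 1 ∧ e ≠ a ∧ e * y = y * e := by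
    intro a ha ha1
    have hnm : a ∉ pCore 2 G := by
      intro h1
      have h2 : a ∈ A ⊓ pCore 2 G := ⟨ha, h1⟩
      rw [hbot, mem_bot] at h2
      exact ha1 h2
    obtain ⟨y, hy, hyo, hay⟩ := exists_inverted (hsq a ha) hnm
    obtain ⟨e, he, he1, hec⟩ := hh a ha ha1 y
    have h1 : y * a * y⁻¹ = y ^ 2 * a := by
      rw [← hay, pow_two]
      calc y * a * (a * y * a) = y * (a * a) * (y * a) := by group
        _ = y * y * a := by rw [hsq a ha]; group
    refine ⟨y, hy, hyo, hay, e, he, he1, ?_, ?_⟩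
    · rintro rfl
      rw [h1] at hec
      have h2 : Commute e (y ^ 2) := by
        have h3 := hec.mul_right (Commute.refl e).inv_right
        rwa [mul_inv_cancel_right] at h3
      have h3 : Commute y e := odd_comm_sq hyo h2.symm
      apply hy
      apply odd_sq_eq_one hyo
      have h4 : y = y⁻¹ := by
        rw [← hay, mul_assoc, h3.eq, ← mul_assoc, hsq e he, one_mul]
      rw [pow_two]
      nth_rewrite 1 [h4]
      exact inv_mul_cancel y
    · rw [h1] at hec
      have h2 : Commute e (y ^ 2) := by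
        have h3 : Commute e (y ^ 2 * a * a⁻¹) :=
          hec.mul_right (show Commute e a from hcomm e he a ha).inv_right
        rwa [mul_inv_cancel_right] at h3
      exact (odd_comm_sq hyo h2.symm).symm.eq
  obtain ⟨a1, ha1, ha11⟩ : ∃ a ∈ A, a ≠ 1 := by
    have h1 : A ≠ ⊥ := by
      intro h2
      have h3 := hA.card_four
      rw [h2, Subgroup.card_bot] at h3
      omega
    obtain ⟨⟨a, ha⟩, h2⟩ := Subgroup.ne_bot_iff_exists_ne_one.mp h1
    exact ⟨a, ha, fun h => h2 (Subtype.ext h)⟩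
  obtain ⟨y, hy, hyo, hay1, b, hb, hb1, hba1, hby⟩ := hone a1 ha1 ha11
  obtain ⟨z, hz, hzo, hbz, a, ha, ha', hab', haz⟩ := hone b hb hb1
  have hay : a * y * a = y⁻¹ := by
    rcases kf hA ha1 hb ha ha11 hb1 (Ne.symm hba1) ha' with h1 | h1 | h1
    · rw [h1]; exact hay1
    · exact absurd h1 hab'
    · rw [h1]
      calc a1 * b * y * (a1 * b) = a1 * (b * y) * (a1 * b) := by group
        _ = a1 * (y * b) * (b * a1) := by rw [hby, hcomm a1 ha1 b hb]
        _ = a1 * y * (b * b) * a1 := by group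
        _ = y⁻¹ := by rw [hsq b hb, mul_one, hay1]
  refine contra (hsq a ha) (hsq b hb) (hcomm a ha b hb) hy hyo hz hzo hay hby hbz haz ?_
  intro e he
  have heA : e ∈ A ∧ e ≠ 1 := by
    rcases he with rfl | rfl
    · exact ⟨ha, ha'⟩
    · refine ⟨mul_mem ha hb, ?_⟩
      intro h1
      apply hab'
      rw [eq_inv_of_mul_eq_one_left h1]
      exact inv_eq_of_mul_eq_one_left (hsq b hb)
  obtain ⟨f, hf, hf1, hfc⟩ := hh e heA.1 heA.2 (z⁻¹ * y)
  refine ⟨f, kf hA ha hb hf ha' hb1 hab' hf1, ?_⟩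
  have h1 : z * (z⁻¹ * y * e * (z⁻¹ * y)⁻¹) * z⁻¹ = y * e * y⁻¹ := by group
  rw [← h1]
  have h2 := hfc.eq
  change z * (z⁻¹ * y * e * (z⁻¹ * y)⁻¹) * z⁻¹ * (z * f * z⁻¹) =
    z * f * z⁻¹ * (z * (z⁻¹ * y * e * (z⁻¹ * y)⁻¹) * z⁻¹)
  calc z * (z⁻¹ * y * e * (z⁻¹ * y)⁻¹) * z⁻¹ * (z * f * z⁻¹)
      = z * ((z⁻¹ * y * e * (z⁻¹ * y)⁻¹) * f) * z⁻¹ := by group
    _ = z * (f * (z⁻¹ * y * e * (z⁻¹ * y)⁻¹)) * z⁻¹ := by rw [← h2]
    _ = _ := by group

end CfsgLib.H7Fis
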