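import Mathlib
import Cfsg.Agent.LibH7Basic

/-! Numbers of Sylow subgroups under quotients and normal subgroups; intersections. -/

set_option autoImplicit false

namespace CfsgLib.H7

open Subgroup MulAction

variable {G : Type*} [Group G]

theorem sylow_le_of_normal_index [Finite G] {p : ℕ} [hp : Fact p.Prime] (N : Subgroup G) [N.Normal]
    (h : ¬ p ∣ N.index) (P : Sylow p G) : (P : Subgroup G) ≤ N := by
  intro x hx
  obtain ⟨k, hk⟩ := (IsPGroup.iff_orderOf.mp P.isPGroup') ⟨x, hx⟩
  rw [Subgroup.orderOf_mk] at hk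
  have h1 : orderOf (QuotientGroup.mk x : G ⧸ N) ∣ p ^ k := by
    rw [← hk]
    exact orderOf_map_dvd (QuotientGroup.mk' N) x
  have h2 : orderOf (QuotientGroup.mk x : G ⧸ N) ∣ N.index := by
    rw [Subgroup.index_eq_card]
    exact orderOf_dvd_natCard _
  have h3 : Nat.Coprime (p ^ k) N.index := by
    apply Nat.Coprime.pow_left
    rwa [hp.out.coprime_iff_not_dvd]
  have h4 := Nat.eq_one_of_dvd_coprimes h3 h1 h2
  rw [orderOf_eq_one_iff, QuotientGroup.eq_one_iff] at h4
  exact h4

theorem card_sylow_of_forall_le [Finite G] {p : ℕ} [hp : Fact p.Prime] (N : Subgroup G)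
    (h : ∀ P : Sylow p G, (P : Subgroup G) ≤ N) : Nat.card (Sylow p N) = Nat.card (Sylow p G) := by
  symm
  apply Nat.card_congr
  refine Equiv.ofBijective (fun P => P.subtype (h P)) ⟨?_, ?_⟩
  · intro P Q hPQ
    exact Sylow.subtype_injective hPQ
  · intro Q
    have hpg : IsPGroup p ((Q : Subgroup N).map N.subtype) := Q.isPGroup'.map _
    obtain ⟨P, hP⟩ := hpg.exists_le_sylow
    refine ⟨P, ?_⟩
    apply Sylow.ext
    apply Q.is_maximal' (P.subtype (h P)).isPGroup'
    intro x hx
    exact hP (Subgroup.mem_map_of_mem _ hx)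

theorem card_sylow_of_normal_index [Finite G] {p : ℕ} [hp : Fact p.Prime] (N : Subgroup G)
    [N.Normal] (h : ¬ p ∣ N.index) : Nat.card (Sylow p N) = Nat.card (Sylow p G) :=
  card_sylow_of_forall_le N (sylow_le_of_normal_index N h)

theorem le_of_le_normalizer_sylow {p : ℕ} {P : Subgroup G} (hP : IsPGroup p P) (Q : Sylow p G)
    (h : ∀ g ∈ P, g • Q = Q) : P ≤ Q := by
  have h1 := hP.inf_normalizer_sylow Q
  have h2 : P ≤ P ⊓ Subgroup.normalizer (Q : Set G) := by
    intro g hg
    refine ⟨hg, ?_⟩
    exact Sylow.smul_eq_iff_mem_normalizer.mp (h g hg)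
  rw [h1] at h2
  exact h2.trans inf_le_right

theorem card_sylow_quotient [Finite G] {p : ℕ} [hp : Fact p.Prime] (K : Subgroup G) [K.Normal]
    (hK : ∀ g ∈ K, ∀ P : Sylow p G, g • P = P) :
    Nat.card (Sylow p (G ⧸ K)) = Nat.card (Sylow p G) := by
  symm
  apply Nat.card_congr
  refine Equiv.ofBijective (fun P => P.mapSurjective (QuotientGroup.mk'_surjective K)) ⟨?_, ?_⟩
  · intro P Q hPQ
    -- `Q ≤ P ⊔ K`, and this normalizes `P`
    have h1 : (P : Subgroup G).map (QuotientGroup.mk' K) = (Q : Subgroup G).map (QuotientGroup.mk' K) :=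
      congrArg (fun S : Sylow p (G ⧸ K) => (S : Subgroup (G ⧸ K))) hPQ
    have h2 : (Q : Subgroup G) ≤ (P : Subgroup G) ⊔ K := by
      have : (Q : Subgroup G) ≤ ((Q : Subgroup G).map (QuotientGroup.mk' K)).comap
        (QuotientGroup.mk' K) := Subgroup.le_comap_map _ _
      rw [← h1, Subgroup.comap_map_eq, QuotientGroup.ker_mk'] at this
      exact this
    have h3 : (Q : Subgroup G) ≤ P := by
      apply le_of_le_normalizer_sylow Q.isPGroup'
      intro g hg
      obtain ⟨a, ha, b, hb, rfl⟩ := Subgroup.mem_sup_of_normal_right.mp (h2 hg)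
      rw [mul_smul, hK b hb, Sylow.smul_eq_iff_mem_normalizer]
      exact Subgroup.le_normalizer ha
    have h4 : (P : Subgroup G) = Q := Q.is_maximal' P.isPGroup' h3
    exact Sylow.ext h4
  · exact Sylow.mapSurjective_surjective (QuotientGroup.mk'_surjective K) p

/-- the stabilizer in `P` of `R`. -/
theorem stabilizer_sylow_sylow {p : ℕ} (P R : Sylow p G) :
    MulAction.stabilizer (P : Subgroup G) R = (R : Subgroup G).subgroupOf P := by
  ext ⟨g, hg⟩
  rw [MulAction.mem_stabilizer_iff, Subgroup.mem_subgroupOf]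
  change g • R = R ↔ g ∈ R
  constructor
  · intro h
    have hz : (Subgroup.zpowers g) ≤ R := by
      apply le_of_le_normalizer_sylow (P.isPGroup'.to_le (by rwa [Subgroup.zpowers_le]))
      intro k hk
      have : Subgroup.zpowers g ≤ MulAction.stabilizer G R := by
        rw [Subgroup.zpowers_le]; exact h
      exact this hk
    exact hz (Subgroup.mem_zpowers g)
  · intro h
    rw [Sylow.smul_eq_iff_mem_normalizer]
    exact Subgroup.le_normalizer h

theorem card_orbit_sylow [Finite G] {p : ℕ} (P R : Sylow p G) :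
    Nat.card (MulAction.orbit (P : Subgroup G) R) = (R : Subgroup G).relIndex P := by
  rw [Subgroup.relIndex, ← stabilizer_sylow_sylow, MulAction.index_stabilizer,
    Nat.card_coe_set_eq]

/-- A prime `q`-Sylow `Q` with `N(Q) ≤ C(Q)` gives a normal subgroup of index `|Q|`. -/
theorem exists_normal_index_of_normalizer_le [Finite G] {p : ℕ} [hp : Fact p.Prime] (P : Sylow p G)
    (hP : Subgroup.normalizer (P : Set G) ≤ Subgroup.centralizer (P : Set G)) :
    ∃ N : Subgroup G, N.Normal ∧ N.index = Nat.card P := by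
  refine ⟨(MonoidHom.transferSylow P hP).ker, inferInstance, ?_⟩
  exact (MonoidHom.ker_transferSylow_isComplement' P hP).symm.index_eq_card

/-- `|N(P) : C(P)|` divides `φ(|P|)` when `P` is cyclic. -/
theorem relIndex_centralizer_dvd_of_cyclic [Finite G] (P : Subgroup G) [IsCyclic P] :
    (Subgroup.centralizer (P : Set G)).relIndex (Subgroup.normalizer (P : Set G)) ∣
      Nat.totient (Nat.card P) := by
  have key := Subgroup.card_dvd_of_injective _
    (QuotientGroup.kerLift_injective P.normalizerMonoidHom)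
  rw [Subgroup.normalizerMonoidHom_ker, ← Subgroup.index, ← Subgroup.relIndex,
    IsCyclic.card_mulAut] at key
  exact key

end CfsgLib.H7
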