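import Mathlib
import Cfsg.Agent.LibH7Basic
import Cfsg.Agent.LibH7Sylow
import Cfsg.Agent.LibCoprime

set_option autoImplicit false

/-!
M. Hall's formula for the number of Sylow subgroups (helper7).
-/

namespace CfsgLib.H7Hall

open Subgroup CfsgLib.H7
open scoped Pointwise

variable {G : Type*} [Group G]

/-- `S` is a Sylow `p`-subgroup of the subgroup `L` -/
def IsSyl (p : ℕ) (S L : Subgroup G) : Prop := S ≤ L ∧ IsPGroup p S ∧ ¬ p ∣ S.relIndex L

theorem IsSyl.exists_sylow {p : ℕ} [Fact p.Prime] {S L : Subgroup G} (h : IsSyl p S L) :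
    ∃ T : Sylow p L, (T : Subgroup L) = S.subgroupOf L :=
  ⟨(h.2.1.comap_of_injective L.subtype L.subtype_injective).toSylow h.2.2, rfl⟩

theorem IsSyl.card [Finite G] {p : ℕ} [Fact p.Prime] {S L : Subgroup G} (h : IsSyl p S L) :
    Nat.card (Sylow p L) = (normalizer (S : Set G)).relIndex L := by
  obtain ⟨T, hT⟩ := h.exists_sylow
  rw [T.card_eq_index_normalizer]
  change (normalizer ((T : Subgroup L) : Set L)).index = _
  rw [hT, ← subgroupOf_normalizer_eq h.1]; rfl

theorem isSyl_of_sylow {p : ℕ} [Fact p.Prime] [Finite G] (P : Sylow p G) {L : Subgroup G}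
    (hL : (P : Subgroup G) ≤ L) : IsSyl p (P : Subgroup G) L := by
  refine ⟨hL, P.isPGroup', fun h => P.not_dvd_index ?_⟩
  rw [← relIndex_mul_index hL]
  exact h.mul_right _

theorem isSyl_inf {p : ℕ} [Fact p.Prime] [Finite G] (P : Sylow p G) (K : Subgroup G) [K.Normal] :
    IsSyl p ((P : Subgroup G) ⊓ K) K := by
  refine ⟨inf_le_right, P.isPGroup'.to_le inf_le_left, fun h => P.not_dvd_index ?_⟩
  rw [inf_relIndex_right] at h
  exact h.trans (relIndex_dvd_index_of_normal_right _ _)

theorem relIndex_sup_of_normal [Finite G] (H K : Subgroup G) [K.Normal] :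
    H.relIndex (H ⊔ K) = H.relIndex K := by
  have e1 := Subgroup.relIndex_sup_right H K
  have e2 : Nat.card K * K.relIndex (H ⊔ K) = Nat.card ↥(H ⊔ K) :=
    card_mul_relIndex le_sup_right
  have e3 : Nat.card H * H.relIndex (H ⊔ K) = Nat.card ↥(H ⊔ K) :=
    card_mul_relIndex le_sup_left
  have e4 : Nat.card ↥(H ⊓ K) * (H ⊓ K).relIndex K = Nat.card K :=
    card_mul_relIndex inf_le_right
  have e5 : Nat.card ↥(H ⊓ K) * (H ⊓ K).relIndex H = Nat.card H :=
    card_mul_relIndex inf_le_left
  rw [Subgroup.inf_relIndex_right] at e4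
  rw [Subgroup.inf_relIndex_left] at e5
  have hpos : 0 < Nat.card ↥(H ⊓ K) := Nat.card_pos
  have hposH : 0 < Nat.card ↥H := Nat.card_pos
  rw [e1] at e2
  have : Nat.card H * (Nat.card ↥(H ⊓ K) * H.relIndex (H ⊔ K)) =
      Nat.card H * (Nat.card ↥(H ⊓ K) * H.relIndex K) := by
    calc _ = Nat.card ↥(H ⊓ K) * (Nat.card H * H.relIndex (H ⊔ K)) := by ring
      _ = Nat.card ↥(H ⊓ K) * (Nat.card K * K.relIndex H) := by rw [e3, e2]
      _ = Nat.card K * (Nat.card ↥(H ⊓ K) * K.relIndex H) := by ring
      _ = Nat.card K * Nat.card H := by rw [e5]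
      _ = (Nat.card ↥(H ⊓ K) * H.relIndex K) * Nat.card H := by rw [e4]
      _ = _ := by ring
  have := Nat.eq_of_mul_eq_mul_left hposH this
  exact Nat.eq_of_mul_eq_mul_left hpos this

/-- `|L : H| = |K : H ∩ K|` when `L = H K` with `K` normal in `G` -/
theorem relIndex_eq_of_sup_eq [Finite G] {H K L : Subgroup G} [K.Normal] (h : H ⊔ K = L) :
    H.relIndex L = H.relIndex K := by rw [← h, relIndex_sup_of_normal]

/-- first step: `n_p(G) = n_p(G/K) n_p(PK)`. -/
theorem card_sylow_step [Finite G] {p : ℕ} [Fact p.Prime] (K : Subgroup G) [K.Normal] (P : Sylow p G) :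
    Nat.card (Sylow p G) =
      Nat.card (Sylow p (G ⧸ K)) * Nat.card (Sylow p ((P : Subgroup G) ⊔ K : Subgroup G)) := by
  set PK := (P : Subgroup G) ⊔ K with hPK
  set L := normalizer (PK : Set G) with hL
  have hπ : Function.Surjective (QuotientGroup.mk' K) := QuotientGroup.mk'_surjective K
  have hPKL : PK ≤ L := le_normalizer
  have hPL : (P : Subgroup G) ≤ L := le_sup_left.trans hPKL
  -- normalizer of P normalizes PK
  have hNL : normalizer ((P : Subgroup G) : Set G) ≤ L := by
    intro g hg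
    rw [hL, Subgroup.mem_normalizer_iff]
    intro x
    have hconj : ∀ g ∈ normalizer ((P : Subgroup G) : Set G), ∀ x ∈ PK, g * x * g⁻¹ ∈ PK := by
      intro g hg x hx
      obtain ⟨y, hy, k, hk, rfl⟩ := Subgroup.mem_sup_of_normal_right.mp hx
      have h1 : g * y * g⁻¹ ∈ (P : Subgroup G) := (Subgroup.mem_normalizer_iff.mp hg y).mp hy
      have h2 : g * k * g⁻¹ ∈ K := Subgroup.Normal.conj_mem inferInstance k hk g
      have h3 : g * (y * k) * g⁻¹ = (g * y * g⁻¹) * (g * k * g⁻¹) := by group
      rw [h3]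
      exact PK.mul_mem (le_sup_left (a := (P : Subgroup G)) h1) (le_sup_right (b := K) h2)
    constructor
    · exact hconj g hg x
    · intro h
      have := hconj g⁻¹ (inv_mem hg) _ h
      have h2 : g⁻¹ * (g * x * g⁻¹) * g⁻¹⁻¹ = x := by group
      rwa [h2] at this
  -- n_p(G/K) = index of L
  have h1 : Nat.card (Sylow p (G ⧸ K)) = L.index := by
    rw [(P.mapSurjective hπ).card_eq_index_normalizer]
    change (normalizer (((P.mapSurjective hπ : Sylow p (G ⧸ K)) : Subgroup (G ⧸ K)) : Set (G ⧸ K))).index = _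
    rw [Sylow.coe_mapSurjective, ← Subgroup.index_comap_of_surjective _ hπ,
      comap_normalizer_eq_of_surjective _ hπ, Subgroup.comap_map_eq, QuotientGroup.ker_mk']
  -- n_p(L) = n_p(PK)
  have h2 : Nat.card (Sylow p L) = Nat.card (Sylow p PK) := by
    have hsyl : IsSyl p (P : Subgroup G) PK := isSyl_of_sylow P le_sup_left
    haveI : (PK.subgroupOf L).Normal := normal_in_normalizer
    have hidx : ¬ p ∣ (PK.subgroupOf L).index := by
      intro h
      apply P.not_dvd_index
      have e1 : (PK.subgroupOf L).index = PK.relIndex L := rfl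
      rw [e1] at h
      rw [← relIndex_mul_index hPL, ← relIndex_mul_relIndex _ _ _ (le_sup_left : (P : Subgroup G) ≤ PK) hPKL]
      exact (h.mul_left _).mul_right _
    have e2 := card_sylow_of_normal_index (p := p) (PK.subgroupOf L) hidx
    rw [← e2]
    have hs2 : IsSyl p ((P : Subgroup G).subgroupOf L) (PK.subgroupOf L) := by
      refine ⟨?_, P.isPGroup'.comap_of_injective L.subtype L.subtype_injective, ?_⟩
      · exact Subgroup.comap_mono le_sup_left
      · rw [relIndex_subgroupOf hPKL]
        exact hsyl.2.2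
    rw [hs2.card, hsyl.card, ← subgroupOf_normalizer_eq hPL, relIndex_subgroupOf hPKL]
  have h3 := (isSyl_of_sylow P hPL).card
  rw [P.card_eq_index_normalizer, h1, ← h2, h3]
  change (normalizer ((P : Subgroup G) : Set G)).index = _
  rw [← relIndex_mul_index hNL, mul_comm]

/-- `n_p(N) = n_p(N/D)` for a normal `p`-subgroup `D` -/
theorem card_sylow_quotient_pgroup [Finite G] {p : ℕ} [Fact p.Prime] (D : Subgroup G) [hD : D.Normal]
    (hDp : IsPGroup p D) : Nat.card (Sylow p (G ⧸ D)) = Nat.card (Sylow p G) := by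
  apply card_sylow_quotient D
  intro g hg P
  obtain ⟨Q, hQ⟩ := hDp.exists_le_sylow
  obtain ⟨x, hx⟩ := MulAction.exists_smul_eq G Q P
  have h1 : D ≤ (P : Subgroup G) := by
    intro d hd
    have h2 : x⁻¹ * d * x ∈ D := by
      have := hD.conj_mem d hd x⁻¹
      simpa using this
    have h3 : x⁻¹ * d * x ∈ (Q : Subgroup G) := hQ h2
    rw [← hx]
    change d ∈ (MulAut.conj x • (Q : Subgroup G))
    rw [Subgroup.mem_pointwise_smul_iff_inv_smul_mem, ← map_inv]
    simpa [MulAut.smul_def] using h3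
  rw [Sylow.smul_eq_iff_mem_normalizer]
  exact le_normalizer (h1 hg)

/-- M. Hall's formula. -/
theorem hall_formula [Finite G] {p : ℕ} [Fact p.Prime] (K : Subgroup G) [K.Normal] (P : Sylow p G)
    (N : Subgroup G)
    (hN : N = ((P : Subgroup G) ⊔ K) ⊓ Subgroup.normalizer (((P : Subgroup G) ⊓ K : Subgroup G) : Set G)) :
    Nat.card (Sylow p G) = Nat.card (Sylow p (G ⧸ K)) * Nat.card (Sylow p K) * Nat.card (Sylow p N) := by
  rw [card_sylow_step K P, mul_assoc]
  congr 1
  set H := (P : Subgroup G) ⊔ K with hH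
  have hPH : (P : Subgroup G) ≤ H := le_sup_left
  have hKH : K ≤ H := le_sup_right
  have hPN' : (P : Subgroup G) ≤ Subgroup.normalizer (((P : Subgroup G) ⊓ K : Subgroup G) : Set G) := by
    refine le_trans ?_ (le_of_eq rfl)
    intro g hg
    rw [Subgroup.mem_normalizer_iff]
    intro x
    constructor
    · rintro ⟨h1, h2⟩
      exact ⟨(P : Subgroup G).mul_mem ((P : Subgroup G).mul_mem hg h1) (inv_mem hg),
        Subgroup.Normal.conj_mem inferInstance x h2 g⟩
    · rintro ⟨h1, h2⟩
      constructor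
      · have := (P : Subgroup G).mul_mem ((P : Subgroup G).mul_mem (inv_mem hg) h1) hg
        have e : g⁻¹ * (g * x * g⁻¹) * g = x := by group
        rwa [e] at this
      · have := Subgroup.Normal.conj_mem (H := K) inferInstance _ h2 g⁻¹
        have e : g⁻¹ * (g * x * g⁻¹) * g⁻¹⁻¹ = x := by group
        rwa [e] at this
  have hPN : (P : Subgroup G) ≤ N := by rw [hN]; exact le_inf hPH hPN'
  have hNH : N ≤ H := by rw [hN]; exact inf_le_left
  rw [(isSyl_of_sylow P hPH).card, (isSyl_of_sylow P hPN).card, (isSyl_inf P K).card]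
  have hle : normalizer ((P : Subgroup G) : Set G) ⊓ H ≤ N := by
    rw [hN]
    refine le_inf inf_le_right ?_
    refine inf_le_left.trans ?_
    intro g hg
    rw [Subgroup.mem_normalizer_iff] at hg ⊢
    intro x
    have h1 := hg x
    have h2 : x ∈ K ↔ g * x * g⁻¹ ∈ K := by
      constructor
      · exact fun h => Subgroup.Normal.conj_mem inferInstance x h g
      · intro h
        have := Subgroup.Normal.conj_mem (H := K) inferInstance _ h g⁻¹
        have e : g⁻¹ * (g * x * g⁻¹) * g⁻¹⁻¹ = x := by group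
        rwa [e] at this
    exact and_congr h1 h2
  have e1 : (normalizer ((P : Subgroup G) : Set G)).relIndex H =
      (normalizer ((P : Subgroup G) : Set G)).relIndex N * N.relIndex H := by
    rw [← inf_relIndex_right (normalizer ((P : Subgroup G) : Set G)) H,
      ← relIndex_mul_relIndex _ _ _ hle hNH]
    congr 1
    rw [← inf_relIndex_right (normalizer ((P : Subgroup G) : Set G)) N,
      ← inf_relIndex_right (normalizer ((P : Subgroup G) : Set G) ⊓ H) N, inf_assoc,
      inf_eq_right.mpr hNH]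
  have e2 : N.relIndex H = N.relIndex K := by
    apply relIndex_eq_of_sup_eq
    apply le_antisymm
    · exact sup_le hNH hKH
    · rw [hH]
      exact sup_le_sup_right hPN _
  have e3 : N.relIndex K = (Subgroup.normalizer (((P : Subgroup G) ⊓ K : Subgroup G) : Set G)).relIndex K := by
    rw [← inf_relIndex_right N K, ← inf_relIndex_right (Subgroup.normalizer _) K, hN]
    congr 1
    rw [inf_comm H, inf_assoc, inf_eq_right.mpr hKH]
  rw [e1, e2, e3, mul_comm]

end CfsgLib.H7Hall
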