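import Cfsg.Agent.EqBase
import Cfsg.Agent.LibDZ19
import Cfsg.Agent.LibCharNorm
import Cfsg.Agent.LibCharMore
/-!
# Elements with a conjugacy class of prime power size (Kazarin), the block theoretic core (helper7)
-/
set_option autoImplicit false
set_option linter.all false
open Cfsg CfsgLib.CharBasic CfsgLib.CharNorm CfsgLib.BlockR CfsgLib.CharMore
open scoped ComplexConjugate commutatorElement
namespace CfsgLib.H7Kaz

universe u
variable {G : Type u} [Group G] [Finite G]

theorem centralChar_hom (f : G →* ℂˣ) (g : G) :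
    centralChar (fun g => (f g : ℂ)) g = ((Subgroup.centralizer ({g} : Set G)).index : ℂ) * (f g : ℂ) := by
  unfold centralChar; simp

theorem natCast_integral (n : ℕ) : IsIntegral ℤ (n : ℂ) := by
  have := isIntegral_algebraMap (R := ℤ) (A := ℂ) (x := (n : ℤ))
  simpa using this

theorem hom_integral (f : G →* ℂˣ) (g : G) : IsIntegral ℤ ((f g : ℂˣ) : ℂ) :=
  char_isIntegral (isCharacter_hom f) g

/-- linear characters, trivial on `N`, in the principal block -/
def linP {q : ℕ} {M : Ideal AlgInt} (hM : IsPModular q M) (N : Subgroup G) : Subgroup (G →* ℂˣ) where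
  carrier := {f | (∀ n ∈ N, f n = 1) ∧ ∀ g, MemLocalIdeal M
    (((Subgroup.centralizer ({g} : Set G)).index : ℂ) -
      ((Subgroup.centralizer ({g} : Set G)).index : ℂ) * (f g : ℂ))}
  one_mem' := ⟨fun n _ => rfl, fun g => by
    simpa using ideal_zero (isPrime_of_modular hM)⟩
  mul_mem' := by
    rintro f f' ⟨h1, h2⟩ ⟨h3, h4⟩
    refine ⟨fun n hn => by rw [MonoidHom.mul_apply, h1 n hn, h3 n hn, one_mul], fun g => ?_⟩
    have h5 := ideal_mul_left (isPrime_of_modular hM)
      (ringOfInt (isPrime_of_modular hM) (hom_integral f g)) (h4 g)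
    have h6 := ideal_add (isPrime_of_modular hM) (h2 g) h5
    have e : ((Subgroup.centralizer ({g} : Set G)).index : ℂ) -
      ((Subgroup.centralizer ({g} : Set G)).index : ℂ) * (((f * f') g : ℂˣ) : ℂ) =
      (((Subgroup.centralizer ({g} : Set G)).index : ℂ) - ((Subgroup.centralizer ({g} : Set G)).index : ℂ) * ((f g : ℂˣ) : ℂ)) +
      ((f g : ℂˣ) : ℂ) * (((Subgroup.centralizer ({g} : Set G)).index : ℂ) - ((Subgroup.centralizer ({g} : Set G)).index : ℂ) * ((f' g : ℂˣ) : ℂ)) := by
      rw [MonoidHom.mul_apply, Units.val_mul]; ring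
    rw [e]
    exact h6
  inv_mem' := by
    rintro f ⟨h1, h2⟩
    refine ⟨fun n hn => by rw [MonoidHom.inv_apply, h1 n hn, inv_one], fun g => ?_⟩
    have h5 := ideal_neg (ideal_mul_left (isPrime_of_modular hM)
      (ringOfInt (isPrime_of_modular hM) (hom_integral f⁻¹ g)) (h2 g))
    have e : ((Subgroup.centralizer ({g} : Set G)).index : ℂ) -
      ((Subgroup.centralizer ({g} : Set G)).index : ℂ) * (((f⁻¹) g : ℂˣ) : ℂ) =
      -(((f⁻¹ g : ℂˣ) : ℂ) * (((Subgroup.centralizer ({g} : Set G)).index : ℂ) - ((Subgroup.centralizer ({g} : Set G)).index : ℂ) * ((f g : ℂˣ) : ℂ))) := by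
      have h6 : ((f⁻¹ g : ℂˣ) : ℂ) * ((f g : ℂˣ) : ℂ) = 1 := by
        rw [← Units.val_mul, MonoidHom.inv_apply, inv_mul_cancel, Units.val_one]
      linear_combination (-((Subgroup.centralizer ({g} : Set G)).index : ℂ)) * h6
    rw [e]
    exact h5

theorem not_dvd_card_linP {p q : ℕ} [hp : Fact p.Prime] {M : Ideal AlgInt} (hM : IsPModular q M) (N : Subgroup G)
    [hNn : N.Normal] (hidx : ¬ p ∣ N.index) : ¬ p ∣ Nat.card (linP hM N) := by
  intro h
  haveI : Finite (G →* ℂˣ) := by
    apply Nat.finite_of_card_ne_zero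
    rw [card_hom]
    exact Subgroup.index_ne_zero_of_finite
  obtain ⟨f, hf⟩ := exists_prime_orderOf_dvd_card' p h
  have h1 : f ^ N.index = 1 := by
    apply Subtype.ext
    rw [Subgroup.coe_pow, Subgroup.coe_one]
    ext g
    rw [MonoidHom.pow_apply, ← map_pow, f.2.1 _ (Subgroup.pow_index_mem N g)]
    rfl
  have h2 := orderOf_dvd_of_pow_eq_one h1
  rw [hf] at h2
  exact hidx h2

theorem kaz_core {p a q : ℕ} [hp : Fact p.Prime] [hq : Fact q.Prime] (hpq : p ≠ q) (N : Subgroup G) [hNn : N.Normal]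
    (hcomm : commutator G ≤ N) (hidx : ¬ p ∣ N.index) (hN : ∀ K : Subgroup G, K.Normal → K ≠ ⊥ → N ≤ K)
    {x : G} (hx : x ∉ Subgroup.center G) (hxa : (Subgroup.centralizer ({x} : Set G)).index = p ^ a)
    {g : G} (hg : g ∈ N) (hqg : q ∣ orderOf g) : False := by
  classical
  haveI := Fintype.ofFinite G
  obtain ⟨M, hM⟩ := CfsgLib.DZ19.exists_modular q
  have hMp := isPrime_of_modular hM
  have hB : IsPBlock M (blockOf M (fun _ : G => (1 : ℂ))) := ⟨⟨fun _ => 1, isIrrCharacter_one⟩, rfl⟩
  have h1 := CfsgLib.BlockOrth.weak_block_orth hM hB (x := 1) (y := g) (by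
    rw [orderOf_one, Nat.dvd_one]; exact hq.out.ne_one) hqg
  set B : Set (IrrCharacter G) := blockOf M (fun _ : G => (1 : ℂ)) with hBdef
  have hone : ∀ y : G, centralChar (fun _ : G => (1 : ℂ)) y = ((Subgroup.centralizer ({y} : Set G)).index : ℂ) := by
    intro y; unfold centralChar; simp
  -- members of `p'`-degree
  have key : ∀ χ : IrrCharacter G, χ ∈ B → ¬ p ∣ charDegree (χ : G → ℂ) →
      (χ : G → ℂ) 1 = 1 ∧ ∀ n ∈ N, (χ : G → ℂ) n = 1 := by
    intro χ hχB hdeg
    have hc0 := irr_one_ne_zero χ.2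
    have hd := CfsgLib.CharInt.irr_one_eq_charDegree χ.2
    have hx0 : (χ : G → ℂ) x ≠ 0 := by
      intro h0
      have h2 := hχB x
      rw [hone, hxa] at h2
      unfold centralChar at h2
      rw [h0, mul_zero, zero_div, sub_zero] at h2
      have h3 := (ideal_nat_iff hM).mp h2
      have h4 := hq.out.dvd_of_dvd_pow h3
      exact hpq ((Nat.prime_dvd_prime_iff_eq hq.out hp.out).mp h4).symm
    have hcop : Nat.Coprime (charDegree (χ : G → ℂ)) (Subgroup.centralizer ({x} : Set G)).index := by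
      rw [hxa]
      exact Nat.Coprime.pow_right _ ((Nat.Prime.coprime_iff_not_dvd hp.out).mpr hdeg).symm
    have hnorm := (char_zero_or_norm_of_coprime χ.2 x _ hd hcop).resolve_left hx0
    obtain ⟨K, hKn, hK⟩ := exists_kernel (irr_isCharacter χ.2)
    have hKb : K ≠ ⊥ := by
      intro hKb
      apply hx
      rw [Subgroup.mem_center_iff]
      intro y
      have h2 : x⁻¹ * (y * x * y⁻¹) ∈ K := by
        rw [hK]
        have hcl : (χ : G → ℂ) (y * x * y⁻¹) = (χ : G → ℂ) x := by
          have := irr_classFun χ.2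
          exact this x y
        have h3 := char_mul_of_scalar (irr_isCharacter χ.2) hc0 hnorm (x⁻¹ * (y * x * y⁻¹))
        rw [mul_inv_cancel_left, hcl] at h3
        have h4 : (χ : G → ℂ) x / (χ : G → ℂ) 1 ≠ 0 := div_ne_zero hx0 hc0
        apply mul_left_cancel₀ h4
        rw [← h3, div_mul_cancel₀ _ hc0]
      rw [hKb, Subgroup.mem_bot] at h2
      have h3 : y * x * y⁻¹ = x := by
        rw [inv_mul_eq_one] at h2
        exact h2.symm
      rw [mul_inv_eq_iff_eq_mul] at h3
      exact h3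
    have hNK := hN K hKn hKb
    have hχ1 : (χ : G → ℂ) 1 = 1 := by
      obtain ⟨χ', h2, h3⟩ := deflate_irr (QuotientGroup.mk' K) (QuotientGroup.mk'_surjective K) χ.2 (fun k hk => by
        rw [QuotientGroup.ker_mk'] at hk
        exact (hK k).mp hk)
      have hab : ∀ a b : G ⧸ K, a * b = b * a := by
        intro a b
        obtain ⟨a, rfl⟩ := QuotientGroup.mk'_surjective K a
        obtain ⟨b, rfl⟩ := QuotientGroup.mk'_surjective K b
        rw [← map_mul, ← map_mul, QuotientGroup.mk'_apply, QuotientGroup.mk'_apply, QuotientGroup.eq]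
        apply hNK
        apply hcomm
        have : (a * b)⁻¹ * (b * a) = ⁅b⁻¹, a⁻¹⁆ := by
          rw [commutatorElement_def]; group
        rw [this]
        exact Subgroup.commutator_mem_commutator (Subgroup.mem_top _) (Subgroup.mem_top _)
      have h4 := irr_degree_one_of_comm hab h2
      rw [h3, Function.comp_apply, map_one]
      exact h4
    exact ⟨hχ1, fun n hn => by rw [(hK n).mp (hNK hn), hχ1]⟩
  -- the count
  set L : Finset (IrrCharacter G) := Finset.univ.filter (fun χ => χ ∈ B ∧ ¬ p ∣ charDegree (χ : G → ℂ)) with hL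
  have hcard : Nat.card (linP hM N) = L.card := by
    rw [← Nat.card_eq_finsetCard]
    refine Nat.card_congr (Equiv.ofBijective (fun f : linP hM N => (⟨⟨fun y => ((f : G →* ℂˣ) y : ℂ), isIrrCharacter_hom _⟩, ?_⟩ : L)) ⟨?_, ?_⟩)
    · rw [hL, Finset.mem_filter]
      refine ⟨Finset.mem_univ _, fun y => ?_, ?_⟩
      · rw [hone]
        change MemLocalIdeal M (_ - centralChar (fun y => ((f : G →* ℂˣ) y : ℂ)) y)
        rw [centralChar_hom]
        exact f.2.2 y
      · change ¬ p ∣ charDegree (fun y => ((f : G →* ℂˣ) y : ℂ))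
        have h2 : charDegree (fun y => ((f : G →* ℂˣ) y : ℂ)) = 1 := by
          unfold charDegree; simp
        rw [h2]
        exact fun h => hp.out.one_lt.ne' (Nat.dvd_one.mp h)
    · intro f f' hff
      apply Subtype.ext
      apply hom_ext_fun
      exact congrArg (fun z : L => (z.1 : G → ℂ)) hff
    · rintro ⟨χ, hχ⟩
      rw [hL, Finset.mem_filter] at hχ
      obtain ⟨h2, h3⟩ := key χ hχ.2.1 hχ.2.2
      obtain ⟨f, hf⟩ := exists_hom_of_linear (irr_isCharacter χ.2) h2
      refine ⟨⟨f, fun n hn => ?_, fun y => ?_⟩, ?_⟩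
      · apply Units.ext
        rw [← hf, h3 n hn, Units.val_one]
      · have h4 := hχ.2.1 y
        rw [hone] at h4
        have h5 : (χ : G → ℂ) = fun y => (f y : ℂ) := funext hf
        rw [h5, centralChar_hom] at h4
        exact h4
      · apply Subtype.ext
        apply Subtype.ext
        exact (funext hf).symm
  have hp0 : (p : ℂ) ≠ 0 := by exact_mod_cast hp.out.ne_zero
  have hsum : (L.card : ℂ) / (p : ℂ) = - ∑ χ ∈ Finset.univ.filter (fun χ : IrrCharacter G => χ ∈ B ∧ p ∣ charDegree (χ : G → ℂ)),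
      ((charDegree (χ : G → ℂ) / p : ℕ) : ℂ) * conj ((χ : G → ℂ) g) := by
    rw [div_eq_iff hp0, neg_mul, Finset.sum_mul, eq_neg_iff_add_eq_zero, ← h1, finsum_mem_eq_finite_toFinset_sum _ (Set.toFinite B)]
    have e1 : (Set.toFinite B).toFinset = L ∪ Finset.univ.filter (fun χ : IrrCharacter G => χ ∈ B ∧ p ∣ charDegree (χ : G → ℂ)) := by
      ext χ
      simp only [Set.Finite.mem_toFinset, hL, Finset.mem_union, Finset.mem_filter, Finset.mem_univ, true_and]
      tauto
    have e2 : Disjoint L (Finset.univ.filter (fun χ : IrrCharacter G => χ ∈ B ∧ p ∣ charDegree (χ : G → ℂ))) := by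
      rw [Finset.disjoint_left]
      intro χ h2 h3
      rw [hL, Finset.mem_filter] at h2
      rw [Finset.mem_filter] at h3
      exact h2.2.2 h3.2.2
    rw [e1, Finset.sum_union e2]
    congr 1
    · rw [Finset.card_eq_sum_ones, Nat.cast_sum]
      refine Finset.sum_congr rfl fun χ hχ => ?_
      rw [hL, Finset.mem_filter] at hχ
      obtain ⟨h2, h3⟩ := key χ hχ.2.1 hχ.2.2
      rw [h2, h3 g hg]; simp
    · refine Finset.sum_congr rfl fun χ hχ => ?_
      rw [Finset.mem_filter] at hχ
      obtain ⟨c, hc⟩ := hχ.2.2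
      rw [CfsgLib.CharInt.irr_one_eq_charDegree χ.2, hc, Nat.mul_div_cancel_left _ hp.out.pos]
      push_cast; ring
  have hint : IsIntegral ℤ ((L.card : ℂ) / (p : ℂ)) := by
    rw [hsum]
    apply IsIntegral.neg
    apply IsIntegral.sum
    intro χ _
    apply IsIntegral.mul
    · exact natCast_integral _
    · rw [← CfsgLib.BlockOrth.irr_inv χ.2]
      exact char_isIntegral (irr_isCharacter χ.2) _
  have h5 := CfsgLib.CharInt2.div_isIntegral hp.out.ne_zero hint
  rw [← hcard] at h5
  exact not_dvd_card_linP hM N hidx h5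

end CfsgLib.H7Kaz
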