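import Cfsg.Agent.EqBase
import Cfsg.Agent.LibH7KazA
import Cfsg.Agent.LibH6PSplit
import Cfsg.Agent.LibH7Hall
import Cfsg.Agent.LibH7Basic
import Cfsg.Agent.LibSolvMin
import Cfsg.Agent.LibCores
/-!
# Kazarin's theorem: an element whose class has prime power size generates a solvable normal subgroup (helper7)
-/
set_option autoImplicit false
set_option linter.all false
open Cfsg Subgroup
open scoped commutatorElement
namespace CfsgLib.H7Kaz

universe u
variable {G : Type u} [Group G]

theorem isSolvable_of_isPGroup {p : ℕ} [Fact p.Prime] {P : Type*} [Group P] [Finite P] (h : IsPGroup p P) :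
    Group.IsSolvable P := by
  haveI := h.isNilpotent
  infer_instance

/-- no nontrivial solvable normal subgroups passes to normal subgroups -/
theorem noSolv_normal [Finite G] (hns : ∀ R : Subgroup G, R.Normal → Group.IsSolvable R → R = ⊥)
    (N : Subgroup G) [N.Normal] (S : Subgroup N) [S.Normal] [Group.IsSolvable S] : S = ⊥ := by
  by_contra hS
  obtain ⟨M, r, hr, hM, hMS, -, -, hMp⟩ := CfsgLib.SolvMin.exists_minNormal_pgroup_of_solvable' S hS
  haveI : Fact r.Prime := ⟨hr⟩
  have h1 : M ≤ pCore r N := CfsgLib.Cores.le_pCore hM.1 hMp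
  have h2 := CfsgLib.Cores.map_pCore_of_normal r N
  have h3 : pCore r G = ⊥ := by
    apply hns
    · exact CfsgLib.H7.pCore_normal r
    · exact isSolvable_of_isPGroup (CfsgLib.Cores.pCore_isPGroup (G := G) r)
  rw [h3, bot_inf_eq, Subgroup.map_eq_bot_iff, N.ker_subtype, le_bot_iff] at h2
  rw [h2, le_bot_iff] at h1
  exact hM.2.1 h1

theorem centralizer_coe {K : Subgroup G} (x : K) :
    centralizer ({x} : Set K) = (centralizer ({(x : G)} : Set G)).subgroupOf K := by
  ext y
  rw [mem_centralizer_singleton_iff, mem_subgroupOf, mem_centralizer_singleton_iff]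
  exact Subtype.ext_iff

theorem index_centralizer_map_dvd [Finite G] {Q : Type*} [Group Q] (f : G →* Q) (hf : Function.Surjective f) (x : G) :
    (centralizer ({f x} : Set Q)).index ∣ (centralizer ({x} : Set G)).index := by
  have h1 : (centralizer ({x} : Set G)).map f ≤ centralizer ({f x} : Set Q) := by
    rintro _ ⟨y, hy, rfl⟩
    rw [SetLike.mem_coe, mem_centralizer_singleton_iff] at hy
    rw [mem_centralizer_singleton_iff, ← map_mul, ← map_mul, hy]
  exact (index_dvd_of_le h1).trans (index_map_dvd _ hf)

theorem index_centralizer_pow_dvd [Finite G] (x : G) (k : ℕ) :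
    (centralizer ({x ^ k} : Set G)).index ∣ (centralizer ({x} : Set G)).index := by
  apply index_dvd_of_le
  intro y hy
  rw [mem_centralizer_singleton_iff] at hy ⊢
  exact (Commute.pow_right hy k)

theorem isSolvable_of_quotient [Finite G] (R K : Subgroup G) [R.Normal] [Group.IsSolvable R]
    (h : Group.IsSolvable (K.map (QuotientGroup.mk' R))) : Group.IsSolvable K := by
  haveI : Group.IsSolvable (R.subgroupOf K) :=
    Group.isSolvable_of_isSolvable_injective (f := (K.subtype.subgroupComap R)) (by
      rintro ⟨a, ha⟩ ⟨b, hb⟩ hab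
      have h1 := congrArg Subtype.val hab
      apply Subtype.ext; apply Subtype.ext
      exact h1)
  apply Group.isSolvable_of_ker_le_range ((R.subgroupOf K).subtype) ((QuotientGroup.mk' R).subgroupMap K)
  · intro y hy
    rw [MonoidHom.mem_ker] at hy
    have h1 := congrArg Subtype.val hy
    have h2 : (y : G) ∈ R := by
      have h3 : (QuotientGroup.mk' R) (y : G) = 1 := h1
      rwa [← MonoidHom.mem_ker, QuotientGroup.ker_mk'] at h3
    exact ⟨⟨y, h2⟩, rfl⟩

theorem kazarin_aux : ∀ (n : ℕ) (G : Type u) [Group G] [Finite G], Nat.card G = n →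
    ∀ (p : ℕ) [Fact p.Prime] (a : ℕ) (x : G), (centralizer ({x} : Set G)).index = p ^ a →
      Group.IsSolvable (normalClosure ({x} : Set G)) := by
  intro n
  induction n using Nat.strong_induction_on with
  | _ n ih =>
  intro G _ _ hn p hp a x hxa
  by_cases hns : ∀ R : Subgroup G, R.Normal → Group.IsSolvable R → R = ⊥
  swap
  · push Not at hns
    obtain ⟨R, hRn, hRs, hR⟩ := hns
    apply isSolvable_of_quotient R
    have h1 := index_centralizer_map_dvd (QuotientGroup.mk' R) (QuotientGroup.mk'_surjective R) x
    rw [hxa] at h1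
    obtain ⟨b, -, hb⟩ := (Nat.dvd_prime_pow hp.out).mp h1
    have h2 := ih (Nat.card (G ⧸ R)) (by rw [← hn]; exact CfsgLib.SolvBasic.card_quotient_lt R hR) (G ⧸ R) rfl p b _ hb
    rw [Subgroup.map_normalClosure _ _ (QuotientGroup.mk'_surjective R), Set.image_singleton]
    exact h2
  · -- no nontrivial solvable normal subgroup
    by_cases hx1 : x = 1
    · subst hx1
      rw [show normalClosure ({1} : Set G) = ⊥ by
        rw [eq_bot_iff]; exact normalClosure_le_normal (by simp)]
      infer_instance
    exfalso
    -- `x` is a `p'`-element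
    have hxp : ¬ p ∣ orderOf x := by
      intro hdvd
      obtain ⟨e, f, h1, ⟨k, h2⟩, h3⟩ := CfsgLib.H6.exists_p_decomp p hp.out x
      have h4 := index_centralizer_pow_dvd x e
      rw [hxa] at h4
      obtain ⟨b, -, hb⟩ := (Nat.dvd_prime_pow hp.out).mp h4
      have h5 := CfsgLib.H6.normalClosure_isPGroup_of_index p (x ^ e) ⟨k, h2⟩ b hb
      have h6 := hns _ normalClosure_normal (isSolvable_of_isPGroup h5)
      have h7 : x ^ e = 1 := by
        have : x ^ e ∈ normalClosure ({x ^ e} : Set G) := subset_normalClosure rfl
        rwa [h6, mem_bot] at this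
      rw [h7, one_mul] at h1
      rw [h1] at h3
      exact ((Nat.Prime.coprime_iff_not_dvd hp.out).mp h3.symm) hdvd
    haveI : Nontrivial G := ⟨x, 1, hx1⟩
    obtain ⟨N, hN⟩ := CfsgLib.SolvMin.exists_isMinNormal (G := G)
    haveI := hN.1
    have hNs : ¬ Group.IsSolvable N := fun h => hN.2.1 (hns N hN.1 h)
    by_cases hxN : x ∈ centralizer (N : Set G)
    · -- `x` centralises `N`
      set C := centralizer (N : Set G) with hC
      haveI : C.Normal := inferInstance
      have hCt : C ≠ ⊤ := by
        intro h
        apply hNs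
        apply Group.isSolvable_of_comm
        intro u v
        have h1 : (u : G) ∈ C := by rw [h]; exact mem_top _
        rw [hC, mem_centralizer_iff] at h1
        exact Subtype.ext (h1 v v.2).symm
      have h1 : (centralizer ({(⟨x, hxN⟩ : C)} : Set C)).index ∣ p ^ a := by
        rw [centralizer_coe, ← hxa]
        exact CfsgLib.H7.relIndex_dvd_index_of_normal_right _ C
      obtain ⟨b, -, hb⟩ := (Nat.dvd_prime_pow hp.out).mp h1
      have h2 := ih (Nat.card C) (by rw [← hn]; exact CfsgLib.SolvBasic.card_lt_of_ne_top hCt) C rfl p b _ hb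
      have h3 := noSolv_normal hns C (normalClosure ({(⟨x, hxN⟩ : C)} : Set C))
      have h4 : (⟨x, hxN⟩ : C) ∈ normalClosure ({(⟨x, hxN⟩ : C)} : Set C) := subset_normalClosure rfl
      rw [h3, mem_bot] at h4
      exact hx1 (congrArg Subtype.val h4)
    · by_cases hH : N ⊔ zpowers x = ⊤
      · -- the core case
        have hab : ∀ u v : G ⧸ N, u * v = v * u := by
          intro u v
          have hsurj : ∀ w : G ⧸ N, ∃ k : ℤ, w = (QuotientGroup.mk' N x) ^ k := by
            intro w
            obtain ⟨w, rfl⟩ := QuotientGroup.mk'_surjective N w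
            have h1 : w ∈ N ⊔ zpowers x := by rw [hH]; exact mem_top w
            rw [mem_sup_of_normal_left] at h1
            obtain ⟨m, hm, z, ⟨k, rfl⟩, rfl⟩ := h1
            refine ⟨k, ?_⟩
            have h2 : QuotientGroup.mk' N m = 1 := by
              rw [← MonoidHom.mem_ker, QuotientGroup.ker_mk']; exact hm
            rw [map_mul, h2, one_mul]
            simp
          obtain ⟨i, rfl⟩ := hsurj u
          obtain ⟨j, rfl⟩ := hsurj v
          rw [← zpow_add, ← zpow_add, add_comm]
        have hcomm : commutator G ≤ N := by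
          rw [commutator_def, commutator_le]
          intro u _ v _
          rw [← QuotientGroup.ker_mk' N, MonoidHom.mem_ker, commutatorElement_def]
          simp only [map_mul, map_inv]
          rw [hab (QuotientGroup.mk' N u) (QuotientGroup.mk' N v)]
          group
        have hidx : ¬ p ∣ N.index := by
          intro h
          apply hxp
          have h1 : N.index = N.relIndex (zpowers x) := by
            rw [← relIndex_top_right, ← hH, sup_comm, relIndex_sup_right]
          have h2 : N.relIndex (zpowers x) ∣ Nat.card (zpowers x) := relIndex_dvd_card _ _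
          rw [h1] at h
          rw [← Nat.card_zpowers]
          exact h.trans h2
        have hmin : ∀ K : Subgroup G, K.Normal → K ≠ ⊥ → N ≤ K := by
          intro K hK hKb
          haveI := hK
          rcases hN.2.2 (K ⊓ N) inferInstance inf_le_right with h | h
          · exfalso
            apply hKb
            apply hns K hK
            apply Group.isSolvable_of_comm
            intro u v
            have h1 : ⁅(u : G), (v : G)⁆ ∈ K ⊓ N := by
              refine ⟨?_, hcomm ?_⟩
              · rw [commutatorElement_def]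
                exact K.mul_mem (K.mul_mem (K.mul_mem u.2 v.2) (K.inv_mem u.2)) (K.inv_mem v.2)
              · exact commutator_mem_commutator (mem_top _) (mem_top _)
            rw [h, mem_bot, commutatorElement_eq_one_iff_mul_comm] at h1
            exact Subtype.ext h1
          · exact inf_eq_right.mp h
        have hxc : x ∉ center G := fun h => hxN (center_le_centralizer _ h)
        obtain ⟨q, hq, hqp, hqN⟩ : ∃ q : ℕ, q.Prime ∧ q ≠ p ∧ q ∣ Nat.card N := by
          by_contra hcon
          push Not at hcon
          apply hNs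
          have h1 := Nat.eq_prime_pow_of_unique_prime_dvd (n := Nat.card N) (p := p) Nat.card_pos.ne'
            (fun {d} hd hdN => by
              by_contra hne
              exact hcon d hd hne hdN)
          exact isSolvable_of_isPGroup (IsPGroup.of_card h1)
        haveI : Fact q.Prime := ⟨hq⟩
        obtain ⟨g, hg⟩ := exists_prime_orderOf_dvd_card' q hqN
        refine kaz_core (p := p) (q := q) hqp.symm N hcomm hidx hmin hxc hxa g.2 ?_
        rw [orderOf_coe, hg]
      · set H := N ⊔ zpowers x with hHdef
        have hxH : x ∈ H := (le_sup_right : zpowers x ≤ H) (mem_zpowers x)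
        have hNH : N ≤ H := le_sup_left
        have h1 : (centralizer ({(⟨x, hxH⟩ : H)} : Set H)).index ∣ p ^ a := by
          rw [centralizer_coe, ← hxa]
          set C := centralizer ({x} : Set G) with hC
          have e1 : (C.subgroupOf H).index = (C ⊓ H).relIndex H := by
            rw [inf_relIndex_right]; rfl
          have e2 : (C ⊓ H) ⊔ N = H := by
            apply le_antisymm
            · exact sup_le inf_le_right hNH
            · rw [hHdef]
              apply sup_le le_sup_right
              rw [zpowers_le]
              apply (le_sup_left : C ⊓ H ≤ (C ⊓ H) ⊔ N)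
              exact ⟨by rw [hC]; exact mem_centralizer_singleton_iff.mpr rfl, hxH⟩
          have e3 : (C ⊓ H).relIndex N = C.relIndex N := by
            rw [← inf_relIndex_right (C ⊓ H) N, inf_assoc, inf_eq_right.mpr hNH, inf_relIndex_right]
          change (C.subgroupOf H).index ∣ _
          rw [e1, CfsgLib.H7Hall.relIndex_eq_of_sup_eq e2, e3]
          exact CfsgLib.H7.relIndex_dvd_index_of_normal_right _ N
        obtain ⟨b, -, hb⟩ := (Nat.dvd_prime_pow hp.out).mp h1
        have h2 := ih (Nat.card H) (by rw [← hn]; exact CfsgLib.SolvBasic.card_lt_of_ne_top hH) H rfl p b _ hb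
        set S := normalClosure ({(⟨x, hxH⟩ : H)} : Set H) with hS
        haveI hSn : S.Normal := normalClosure_normal
        have hxS : (⟨x, hxH⟩ : H) ∈ S := subset_normalClosure rfl
        haveI h3 : ((S.map H.subtype).subgroupOf N).Normal := by
          refine ⟨fun u hu v => ?_⟩
          rw [mem_subgroupOf] at hu ⊢
          obtain ⟨w, hw, hwu⟩ := hu
          refine ⟨⟨v, hNH v.2⟩ * w * ⟨v, hNH v.2⟩⁻¹, hSn.conj_mem w hw _, ?_⟩
          simp only [map_mul, map_inv, hwu]
          rfl
        haveI h4 : Group.IsSolvable ((S.map H.subtype).subgroupOf N) := by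
          haveI : Group.IsSolvable (S.map H.subtype) := CfsgLib.SolvBasic.isSolvable_map _ _
          exact Group.isSolvable_of_isSolvable_injective (f := (N.subtype.subgroupComap (S.map H.subtype))) (by
            rintro ⟨a, ha⟩ ⟨b, hb⟩ hab
            have h1 := congrArg Subtype.val hab
            apply Subtype.ext; apply Subtype.ext
            exact h1)
        have h5 := noSolv_normal hns N ((S.map H.subtype).subgroupOf N)
        apply hxN
        rw [mem_centralizer_iff]
        intro m hm
        have h6 : x * (m * x⁻¹ * m⁻¹) ∈ S.map H.subtype := by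
          refine ⟨⟨x, hxH⟩ * (⟨m, hNH hm⟩ * ⟨x, hxH⟩⁻¹ * ⟨m, hNH hm⟩⁻¹), S.mul_mem hxS (hSn.conj_mem _ (S.inv_mem hxS) _), rfl⟩
        have h7 : x * (m * x⁻¹ * m⁻¹) ∈ N := by
          have : x * (m * x⁻¹ * m⁻¹) = (x * m * x⁻¹) * m⁻¹ := by group
          rw [this]
          exact N.mul_mem (hN.1.conj_mem m hm x) (N.inv_mem hm)
        have h8 : (⟨x * (m * x⁻¹ * m⁻¹), h7⟩ : N) ∈ (S.map H.subtype).subgroupOf N := by
          rw [mem_subgroupOf]; exact h6
        rw [h5, mem_bot] at h8
        have h9 : x * (m * x⁻¹ * m⁻¹) = 1 := congrArg Subtype.val h8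
        have h10 : x * m = m * x := by
          calc x * m = (x * (m * x⁻¹ * m⁻¹)) * (m * x) := by group
            _ = m * x := by rw [h9, one_mul]
        exact h10.symm

/-- **Kazarin**: if the class of `x` has prime power size, the normal closure of `x` is solvable. -/
theorem kazarin [Finite G] {p : ℕ} [Fact p.Prime] {a : ℕ} {x : G} (hxa : (centralizer ({x} : Set G)).index = p ^ a) :
    Group.IsSolvable (normalClosure ({x} : Set G)) :=
  kazarin_aux _ G rfl p a x hxa

/-- if moreover `O_p(G) = 1`, the normal closure of `x` is abelian. -/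
theorem abelian_of_pCore [Finite G] {p : ℕ} [hp : Fact p.Prime] {a : ℕ} {x : G} (hxa : (centralizer ({x} : Set G)).index = p ^ a)
    (hO : pCore p G = ⊥) : ∀ u ∈ normalClosure ({x} : Set G), ∀ v ∈ normalClosure ({x} : Set G), u * v = v * u := by
  set M := normalClosure ({x} : Set G) with hM
  haveI hMn : M.Normal := normalClosure_normal
  haveI hMs : Group.IsSolvable M := kazarin hxa
  set F := fittingSubgroup M with hF
  haveI hFn : (F.map M.subtype).Normal := inferInstance
  have hFp : ¬ p ∣ Nat.card F := by
    intro h
    have h1 := CfsgLib.Cores.map_pCore_of_normal p M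
    rw [hO, bot_inf_eq, Subgroup.map_eq_bot_iff, M.ker_subtype, le_bot_iff] at h1
    have h2 : Group.IsNilpotent F := CfsgLib.Cores.fittingSubgroup_isNilpotent
    have h3 := CfsgLib.Cores.not_dvd_relIndex_pCore_of_normal_nilpotent hp.out F h2
    rw [h1, relIndex_bot_left] at h3
    exact h3 h
  have hxF : x ∈ centralizer (F.map M.subtype : Set G) := by
    have h1 : (centralizer ({x} : Set G)).relIndex (F.map M.subtype) ∣ p ^ a := by
      rw [← hxa]; exact CfsgLib.H7.relIndex_dvd_index_of_normal_right _ _
    have h2 : (centralizer ({x} : Set G)).relIndex (F.map M.subtype) ∣ Nat.card F := by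
      have := relIndex_dvd_card (centralizer ({x} : Set G)) (F.map M.subtype)
      rwa [Subgroup.card_map_of_injective M.subtype_injective] at this
    have h3 : (centralizer ({x} : Set G)).relIndex (F.map M.subtype) = 1 := by
      apply Nat.eq_one_of_dvd_coprimes _ h1 h2
      exact Nat.Coprime.pow_left _ ((Nat.Prime.coprime_iff_not_dvd hp.out).mpr hFp)
    rw [relIndex_eq_one] at h3
    rw [mem_centralizer_iff]
    intro y hy
    have := h3 hy
    rw [mem_centralizer_singleton_iff] at this
    exact this
  have hMF : M ≤ centralizer (F.map M.subtype : Set G) := normalClosure_le_normal (by simpa using hxF)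
  have hle : ∀ y : M, y ∈ F := by
    intro y
    apply CfsgLib.Cores.centralizer_fittingSubgroup_le
    rw [mem_centralizer_iff]
    intro z hz
    have h1 := hMF y.2
    rw [mem_centralizer_iff] at h1
    exact Subtype.ext (h1 z ⟨z, hz, rfl⟩)
  intro u hu v hv
  have h1 := hMF hv
  rw [mem_centralizer_iff] at h1
  exact h1 u ⟨⟨u, hu⟩, hle _, rfl⟩

end CfsgLib.H7Kaz
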