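import Mathlib
import Cfsg.Agent.LibCores
import Cfsg.Agent.LibCoprime2
import Cfsg.Agent.LibFail9I

set_option autoImplicit false

/-! Normal four-subgroups of a Sylow 2-subgroup in groups of characteristic 2 type. -/

namespace CfsgLib.H7NU

open Subgroup Cfsg

universe u
variable {G : Type u} [Group G]

/-- `O_2(N)` as a subgroup of `G` -/
def O (N : Subgroup G) : Subgroup G := (pCore 2 N).map N.subtype

theorem O_le (N : Subgroup G) : O N ≤ N := map_subtype_le _

theorem O_p [Finite G] (N : Subgroup G) : IsPGroup 2 (O N) :=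
  (CfsgLib.Cores.pCore_isPGroup 2).map _

theorem O_conj [Finite G] {N : Subgroup G} {n x : G} (hn : n ∈ N) (hx : x ∈ O N) :
    n * x * n⁻¹ ∈ O N := by
  obtain ⟨y, hy, rfl⟩ := hx
  exact ⟨⟨n, hn⟩ * y * ⟨n, hn⟩⁻¹, (inferInstance : (pCore 2 N).Normal).conj_mem _ hy _, rfl⟩

theorem le_normalizer_O [Finite G] (N : Subgroup G) : N ≤ normalizer (O N : Set G) := by
  intro n hn
  rw [mem_normalizer_iff]
  intro x
  refine ⟨O_conj hn, fun h => ?_⟩
  have := O_conj (inv_mem hn) h
  simpa [mul_assoc] using this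

theorem le_O [Finite G] {N W : Subgroup G} (hWN : W ≤ N) (hW : IsPGroup 2 W)
    (hn : ∀ n ∈ N, ∀ w ∈ W, n * w * n⁻¹ ∈ W) : W ≤ O N := by
  have h1 : (W.subgroupOf N).Normal := by
    constructor
    intro w hw g
    rw [mem_subgroupOf] at hw ⊢
    exact hn g g.2 w hw
  have h2 : W.subgroupOf N ≤ pCore 2 N :=
    CfsgLib.Cores.le_pCore h1 (hW.of_equiv (subgroupOfEquivOfLe hWN).symm)
  intro w hw
  exact ⟨⟨w, hWN hw⟩, h2 (mem_subgroupOf.2 hw), rfl⟩

theorem mem_O_of_comm {N : Subgroup G} (hN : IsOfCharacteristicTwo ↥N) {y : G} (hy : y ∈ N)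
    (h : ∀ q ∈ O N, q * y = y * q) : y ∈ O N := by
  refine ⟨⟨y, hy⟩, hN ?_, rfl⟩
  rw [mem_centralizer_iff]
  intro q hq
  exact Subtype.ext (h q ⟨q, hq, rfl⟩)

theorem mem_zp {u x : G} (hu : u ^ 2 = 1) (h : x ∈ zpowers u) : x = 1 ∨ x = u := by
  obtain ⟨k, rfl⟩ := mem_zpowers_iff.1 h
  have h2 : u ^ (2 : ℤ) = 1 := by
    have : (u ^ (2 : ℤ)) = u ^ 2 := by norm_cast
    rw [this, hu]
  rcases Int.even_or_odd' k with ⟨m, rfl | rfl⟩
  · left; rw [zpow_mul, h2, one_zpow]
  · right; rw [zpow_add, zpow_mul, h2, one_zpow, one_mul, zpow_one]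

/-- the centralizer of an involution, as a normalizer -/
abbrev N (u : G) : Subgroup G := normalizer ((zpowers u : Subgroup G) : Set G)

theorem mem_N {u : G} (hu : u ^ 2 = 1) (hu1 : u ≠ 1) {y : G} : y ∈ N u ↔ y * u = u * y := by
  constructor
  · intro h
    have h1 := (mem_normalizer_iff.1 h u).1 (mem_zpowers u)
    rcases mem_zp hu h1 with h2 | h2
    · exfalso
      apply hu1
      have := congrArg (fun t => y⁻¹ * t * y) h2
      simpa [mul_assoc] using this
    · exact mul_inv_eq_iff_eq_mul.1 h2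
  · intro h
    rw [mem_normalizer_iff]
    have hc : ∀ x ∈ zpowers u, y * x * y⁻¹ = x := by
      intro x hx
      rcases mem_zp hu hx with rfl | rfl
      · simp
      · exact mul_inv_eq_iff_eq_mul.2 h
    intro x
    constructor
    · intro hx; rw [hc x hx]; exact hx
    · intro hx
      have h3 := hc _ hx
      have h4 : y * x * y⁻¹ = x := by
        have h5 : y * (y * x * y⁻¹) = y * x := by
          have := congrArg (· * y) h3
          simpa [mul_assoc] using this
        exact mul_left_cancel h5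
      rwa [h4] at hx

theorem c2 [Finite G] (h2 : IsCharacteristicTwoType G) {u : G} (hu : u ^ 2 = 1) (hu1 : u ≠ 1) :
    IsOfCharacteristicTwo ↥(N u) := by
  apply h2.2
  · apply IsPGroup.of_card (n := 1)
    rw [Nat.card_zpowers, pow_one]
    exact orderOf_eq_prime hu hu1
  · rw [Ne, zpowers_eq_bot]; exact hu1

/-- claim A for central involutions of a Sylow 2-subgroup -/
theorem claimA [Finite G] (h2 : IsCharacteristicTwoType G) {P : Subgroup G} {U : Subgroup G}
    (hOP : ∀ R : Subgroup G, IsPGroup 2 R → P ≤ normalizer (R : Set G) → R ≤ P)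
    (hUP : U ≤ P) {z : G} (hz2 : z ^ 2 = 1) (hz1 : z ≠ 1) (hzP : ∀ g ∈ P, g * z = z * g)
    (hc : ∀ v ∈ U, ∀ g ∈ P, v * g * v⁻¹ * g⁻¹ ∈ zpowers z) : U ≤ O (N z) := by
  have hPN : P ≤ N z := fun g hg => (mem_N hz2 hz1).2 (hzP g hg)
  have hQP : O (N z) ≤ P := hOP _ (O_p _) (hPN.trans (le_normalizer_O _))
  have hzz : ∀ t ∈ zpowers z, ∀ c : G, c * z = z * c → c * t * c⁻¹ = t := by
    intro t ht c hcz
    rcases mem_zp hz2 ht with rfl | rfl
    · simp
    · exact mul_inv_eq_iff_eq_mul.2 hcz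
  let W : Subgroup G :=
    { carrier := {c | c * z = z * c ∧ ∀ q ∈ O (N z), c * q * c⁻¹ * q⁻¹ ∈ zpowers z}
      one_mem' := ⟨by simp, fun q _ => by simp⟩
      mul_mem' := by
        rintro a b ⟨ha1, ha2⟩ ⟨hb1, hb2⟩
        refine ⟨by rw [mul_assoc, hb1, ← mul_assoc, ha1, mul_assoc], fun q hq => ?_⟩
        have h1 := hb2 q hq
        have h3 := hzz _ h1 a ha1
        have h4 : a * b * q * (a * b)⁻¹ * q⁻¹ = (a * (b * q * b⁻¹ * q⁻¹) * a⁻¹) * (a * q * a⁻¹ * q⁻¹) := by
          group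
        rw [h4, h3]
        exact mul_mem h1 (ha2 q hq)
      inv_mem' := by
        rintro a ⟨ha1, ha2⟩
        have ha3 : a⁻¹ * z = z * a⁻¹ := by
          rw [inv_mul_eq_iff_eq_mul, ← mul_assoc, ha1, mul_assoc, mul_inv_cancel, mul_one]
        refine ⟨ha3, fun q hq => ?_⟩
        have h1 := inv_mem (ha2 q hq)
        have h3 := hzz _ h1 a⁻¹ ha3
        have h4 : a⁻¹ * (a * q * a⁻¹ * q⁻¹)⁻¹ * a⁻¹⁻¹ = a⁻¹ * q * a⁻¹⁻¹ * q⁻¹ := by group
        rw [← h4, h3]
        exact h1 }
  have hWN : W ≤ N z := fun c hc => (mem_N hz2 hz1).2 hc.1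
  have hUW : U ≤ W := fun v hv => ⟨hzP v (hUP hv), fun q hq => hc v hv q (hQP hq)⟩
  refine hUW.trans (le_O hWN ?_ ?_)
  · intro c
    obtain ⟨k, m, hm, hkm⟩ := Nat.exists_eq_two_pow_mul_odd (n := orderOf (c : G)) (orderOf_pos _).ne'
    have hd : ((c : G) ^ 2 ^ k) ^ m = 1 := by rw [← pow_mul, ← hkm, pow_orderOf_eq_one]
    have hdW : (c : G) ^ 2 ^ k ∈ W := pow_mem c.2 _
    have hdQ : (c : G) ^ 2 ^ k ∈ O (N z) := by
      apply mem_O_of_comm (c2 h2 hz2 hz1) (hWN hdW)
      intro q hq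
      have h1 := hdW.2 q hq
      generalize (c : G) ^ 2 ^ k = d at *
      rcases mem_zp hz2 h1 with h3 | h3
      · rw [mul_inv_eq_one, mul_inv_eq_iff_eq_mul] at h3
        exact h3.symm
      · exfalso
        have h4 : d * q * d⁻¹ = z * q := mul_inv_eq_iff_eq_mul.1 h3
        have h5 : ∀ n : ℕ, d ^ n * q * (d ^ n)⁻¹ = z ^ n * q := by
          intro n
          induction n with
          | zero => simp
          | succ n ih =>
            have e : d ^ (n + 1) * q * (d ^ (n + 1))⁻¹ = d * (d ^ n * q * (d ^ n)⁻¹) * d⁻¹ := by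
              rw [pow_succ' d]; group
            have hdz : d * z = z * d := hdW.1
            have hdzn : d * z ^ n = z ^ n * d := (Commute.pow_right hdz n).eq
            rw [e, ih]
            calc d * (z ^ n * q) * d⁻¹ = (d * z ^ n) * q * d⁻¹ := by group
              _ = z ^ n * (d * q * d⁻¹) := by rw [hdzn]; group
              _ = z ^ n * (z * q) := by rw [h4]
              _ = z ^ (n + 1) * q := by rw [← mul_assoc, ← pow_succ]
        have h6 := h5 m
        rw [hd] at h6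
        obtain ⟨j, rfl⟩ := hm
        rw [pow_succ, pow_mul, hz2, one_pow, one_mul] at h6
        apply hz1
        have h7 : q = z * q := by simpa using h6
        exact (mul_eq_right.1 h7.symm)
    obtain ⟨j, hj⟩ := O_p (N z) ⟨_, hdQ⟩
    have hj' : ((c : G) ^ 2 ^ k) ^ 2 ^ j = 1 := congrArg Subtype.val hj
    have h7 : orderOf ((c : G) ^ 2 ^ k) ∣ 1 := by
      have hcop : Nat.Coprime m (2 ^ j) := Nat.Coprime.pow_right _ (Nat.coprime_two_right.2 hm)
      rw [← hcop]
      exact Nat.dvd_gcd (orderOf_dvd_of_pow_eq_one hd) (orderOf_dvd_of_pow_eq_one hj')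
    have h8 : (c : G) ^ 2 ^ k = 1 := by
      rw [← orderOf_eq_one_iff]; exact Nat.dvd_one.1 h7
    exact ⟨k, Subtype.ext h8⟩
  · intro n hn c hc
    have hnz := (mem_N hz2 hz1).1 hn
    refine ⟨?_, fun q hq => ?_⟩
    · have h1 : n * c * n⁻¹ * z = n * c * (n⁻¹ * z) := by group
      have h3 : n⁻¹ * z = z * n⁻¹ := by
        rw [inv_mul_eq_iff_eq_mul, ← mul_assoc, hnz, mul_assoc, mul_inv_cancel, mul_one]
      rw [h1, h3]
      calc n * c * (z * n⁻¹) = n * (c * z) * n⁻¹ := by group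
        _ = (n * z) * c * n⁻¹ := by rw [hc.1]; group
        _ = z * (n * c * n⁻¹) := by rw [hnz]; group
    · have h1 : n⁻¹ * q * n ∈ O (N z) := by
        have := O_conj (inv_mem hn) hq
        simpa using this
      have h3 := hc.2 _ h1
      have h4 := hzz _ h3 n hnz
      have h5 : n * (c * (n⁻¹ * q * n) * c⁻¹ * (n⁻¹ * q * n)⁻¹) * n⁻¹ =
          n * c * n⁻¹ * q * (n * c * n⁻¹)⁻¹ * q⁻¹ := by group
      rw [← h5, h4]
      exact h3


theorem O_transport [Finite G] {u m x : G} (hu : u ^ 2 = 1) (hu1 : u ≠ 1)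
    (hx : x ∈ O (N (m⁻¹ * u * m))) : m * x * m⁻¹ ∈ O (N u) := by
  have hz2 : (m⁻¹ * u * m) ^ 2 = 1 := by
    rw [pow_two]
    have : m⁻¹ * u * m * (m⁻¹ * u * m) = m⁻¹ * (u ^ 2) * m := by rw [pow_two]; group
    rw [this, hu]; simp
  have hz1 : m⁻¹ * u * m ≠ 1 := by
    intro h
    apply hu1
    have := congrArg (fun t => m * t * m⁻¹) h
    simpa [mul_assoc] using this
  have key : (O (N (m⁻¹ * u * m))).map (MulAut.conj m).toMonoidHom ≤ O (N u) := by
    apply le_O
    · rintro _ ⟨y, hy, rfl⟩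
      have h1 := (mem_N hz2 hz1).1 (O_le _ hy)
      rw [mem_N hu hu1]
      simp only [MulEquiv.coe_toMonoidHom, MulAut.conj_apply]
      calc m * y * m⁻¹ * u = m * (y * (m⁻¹ * u * m)) * m⁻¹ := by group
        _ = m * (m⁻¹ * u * m * y) * m⁻¹ := by rw [h1]
        _ = _ := by group
    · exact (O_p _).map _
    · rintro n hn _ ⟨y, hy, rfl⟩
      have h1 := (mem_N hu hu1).1 hn
      have h3 : m⁻¹ * n * m ∈ N (m⁻¹ * u * m) := by
        rw [mem_N hz2 hz1]
        calc m⁻¹ * n * m * (m⁻¹ * u * m) = m⁻¹ * (n * u) * m := by group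
          _ = m⁻¹ * (u * n) * m := by rw [h1]
          _ = _ := by group
      refine ⟨_, O_conj h3 hy, ?_⟩
      simp only [MulEquiv.coe_toMonoidHom, MulAut.conj_apply]
      group
  exact key ⟨x, hx, rfl⟩

theorem card_rel {A B : Subgroup G} (h : A ≤ B) : Nat.card A * A.relIndex B = Nat.card B := by
  rw [← relIndex_bot_left, ← relIndex_bot_left, relIndex_mul_relIndex _ _ _ bot_le h]

theorem four {U : Subgroup G} (hU : IsKleinFour ↥U) {a b : G} (ha : a ∈ U) (hb : b ∈ U)
    (ha1 : a ≠ 1) (hb1 : b ≠ 1) (hab : a ≠ b) {x : G} (hx : x ∈ U) :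
    x = 1 ∨ x = a ∨ x = b ∨ x = a * b := by
  by_cases h1 : x = 1
  · exact Or.inl h1
  by_cases h2 : x = a
  · exact Or.inr (Or.inl h2)
  by_cases h3 : x = b
  · exact Or.inr (Or.inr (Or.inl h3))
  refine Or.inr (Or.inr (Or.inr ?_))
  have := IsKleinFour.eq_mul_of_ne_all (x := (⟨a, ha⟩ : U)) (y := ⟨b, hb⟩) (z := ⟨x, hx⟩)
    (fun h => ha1 (congrArg Subtype.val h)) (fun h => hb1 (congrArg Subtype.val h))
    (fun h => hab (congrArg Subtype.val h)) (fun h => h1 (congrArg Subtype.val h))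
    (fun h => h2 (congrArg Subtype.val h)) (fun h => h3 (congrArg Subtype.val h))
  exact congrArg Subtype.val this

theorem main [Finite G] (h2 : IsCharacteristicTwoType G) (P : Sylow 2 G) (U : Subgroup G)
    (hUP : U ≤ (P : Subgroup G)) (hUn : (P : Subgroup G) ≤ Subgroup.normalizer (U : Set G))
    (hU4 : IsKleinFour ↥U)
    (hUZ : ¬ IsCyclic ↥((P : Subgroup G) ⊓ Subgroup.centralizer ((P : Subgroup G) : Set G)) →
      U ≤ Subgroup.centralizer ((P : Subgroup G) : Set G)) :
    ∀ u ∈ U, u ≠ 1 → U ≤ O (N u) := by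
  have hsq : ∀ x ∈ U, x ^ 2 = 1 := by
    intro x hx
    have := IsKleinFour.mul_self (⟨x, hx⟩ : U)
    rw [pow_two]; exact congrArg Subtype.val this
  have hcm : ∀ a ∈ U, ∀ b ∈ U, a * b = b * a := by
    intro a ha b hb
    have h1 := hsq _ (mul_mem ha hb)
    have ha2 := hsq a ha
    have hb2 := hsq b hb
    have e1 : a⁻¹ = a := inv_eq_of_mul_eq_one_left (by rw [← pow_two, ha2])
    have e2 : b⁻¹ = b := inv_eq_of_mul_eq_one_left (by rw [← pow_two, hb2])
    have e3 : (a * b)⁻¹ = a * b := inv_eq_of_mul_eq_one_left (by rw [← pow_two, h1])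
    rw [← e3, mul_inv_rev, e1, e2]
  have hconj : ∀ g ∈ (P : Subgroup G), ∀ v ∈ U, g * v * g⁻¹ ∈ U := fun g hg v hv =>
    (mem_normalizer_iff.1 (hUn hg) v).1 hv
  have hOP : ∀ R : Subgroup G, IsPGroup 2 R → (P : Subgroup G) ≤ normalizer (R : Set G) →
      R ≤ P := by
    intro R hR hn
    have h1 := IsPGroup.to_sup_of_normal_right' P.isPGroup' hR hn
    have h3 := P.is_maximal' h1 le_sup_left
    rw [← h3]; exact le_sup_right
  -- central involutions in `U`
  have hcen : ∀ z ∈ U, z ≠ 1 → (∀ g ∈ (P : Subgroup G), g * z = z * g) → U ≤ O (N z) := by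
    intro z hz hz1 hzP
    refine claimA h2 hOP hUP (hsq z hz) hz1 hzP ?_
    intro v hv g hg
    have hv' := hconj g hg v hv
    by_cases hv1 : v = 1
    · subst hv1; simp
    by_cases hvz : v = z
    · subst hvz
      have : v * g * v⁻¹ * g⁻¹ = 1 := by
        rw [← hzP g hg]; group
      rw [this]; exact one_mem _
    have e : v * g * v⁻¹ * g⁻¹ = v * (g * v * g⁻¹)⁻¹ := by group
    rw [e]
    rcases four hU4 hz hv hz1 hv1 (Ne.symm hvz) hv' with h | h | h | h
    · exfalso; apply hv1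
      have := congrArg (fun t => g⁻¹ * t * g) h
      simpa [mul_assoc] using this
    · exfalso; apply hvz
      have h3 : g * v * g⁻¹ = g * z * g⁻¹ := by rw [h, hzP g hg]; group
      exact mul_left_cancel (mul_right_cancel h3)
    · rw [h, mul_inv_cancel]; exact one_mem _
    · rw [h, mul_inv_rev, ← mul_assoc, mul_inv_cancel, one_mul]
      exact inv_mem (mem_zpowers z)
  intro u hu hu1
  by_cases huP : ∀ g ∈ (P : Subgroup G), g * u = u * g
  · exact hcen u hu hu1 huP
  push Not at huP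
  obtain ⟨t0, ht0, ht0u⟩ := huP
  have hUne : U ≠ ⊥ := by
    rintro rfl
    exact hu1 (mem_bot.1 hu)
  obtain ⟨z, hz, hz1, hz2, hzP'⟩ := CfsgLib.Fail9.exists_central (p := 2) P.isPGroup' hUP hUn hUne
  have hzP : ∀ g ∈ (P : Subgroup G), g * z = z * g := fun g hg => (hzP' g hg).symm
  have hu2 := hsq u hu
  have hzu : z ≠ u := by
    rintro rfl
    exact ht0u (hzP t0 ht0)
  have hcyc : IsCyclic ↥((P : Subgroup G) ⊓ Subgroup.centralizer ((P : Subgroup G) : Set G)) := by
    by_contra h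
    have := hUZ h hu
    exact ht0u ((mem_centralizer_iff.1 this t0 ht0))
  have hZ : ∀ y ∈ (P : Subgroup G), (∀ g ∈ (P : Subgroup G), g * y = y * g) → y ^ 2 = 1 →
      y = 1 ∨ y = z := by
    intro y hy hyc hy2
    by_contra hcon
    push Not at hcon
    obtain ⟨hy1, hyz⟩ := hcon
    classical
    haveI : Fintype ↥((P : Subgroup G) ⊓ Subgroup.centralizer ((P : Subgroup G) : Set G)) :=
      Fintype.ofFinite _
    have h1 := IsCyclic.card_pow_eq_one_le
      (α := ↥((P : Subgroup G) ⊓ Subgroup.centralizer ((P : Subgroup G) : Set G)))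
      (n := 2) (by norm_num)
    have hy' : y ∈ (P : Subgroup G) ⊓ Subgroup.centralizer ((P : Subgroup G) : Set G) :=
      ⟨hy, mem_centralizer_iff.2 hyc⟩
    have hz' : z ∈ (P : Subgroup G) ⊓ Subgroup.centralizer ((P : Subgroup G) : Set G) :=
      ⟨hUP hz, mem_centralizer_iff.2 hzP⟩
    have h3 : ({1, ⟨y, hy'⟩, ⟨z, hz'⟩} : Finset ↥((P : Subgroup G) ⊓
        Subgroup.centralizer ((P : Subgroup G) : Set G))).card = 3 := by
      rw [Finset.card_eq_three]
      refine ⟨_, _, _, ?_, ?_, ?_, rfl⟩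
      · intro h; exact hy1 (congrArg Subtype.val h).symm
      · intro h; exact hz1 (congrArg Subtype.val h).symm
      · intro h; exact hyz (congrArg Subtype.val h)
    have h4 := Finset.card_le_card (s := ({1, ⟨y, hy'⟩, ⟨z, hz'⟩} : Finset ↥((P : Subgroup G) ⊓
        Subgroup.centralizer ((P : Subgroup G) : Set G)))) (t := Finset.univ.filter (fun a => a ^ 2 = 1)) (by
      intro a ha
      rw [Finset.mem_filter]
      refine ⟨Finset.mem_univ _, ?_⟩
      simp only [Finset.mem_insert, Finset.mem_singleton] at ha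
      rcases ha with rfl | rfl | rfl
      · simp
      · exact Subtype.ext hy2
      · exact Subtype.ext hz2)
    omega
  -- T
  set T : Subgroup G := (P : Subgroup G) ⊓ centralizer ({u} : Set G) with hT
  have memT : ∀ t, t ∈ T ↔ t ∈ (P : Subgroup G) ∧ t * u = u * t := by
    intro t
    rw [hT, mem_inf, mem_centralizer_singleton_iff]
  have hbu : ∀ b ∈ (P : Subgroup G), b ∉ T → b * u * b⁻¹ = z * u := by
    intro b hb hbT
    rcases four hU4 hz hu hz1 hu1 hzu (hconj b hb u hu) with h | h | h | h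
    · exfalso; apply hu1
      have := congrArg (fun t => b⁻¹ * t * b) h
      simpa [mul_assoc] using this
    · exfalso; apply hzu
      have h3 : b * z * b⁻¹ = b * u * b⁻¹ := by rw [h, hzP b hb]; group
      exact mul_left_cancel (mul_right_cancel h3)
    · exfalso; apply hbT
      rw [memT]
      exact ⟨hb, mul_inv_eq_iff_eq_mul.1 h⟩
    · exact h
  have ht0T : t0 ∉ T := fun h => ht0u ((memT t0).1 h).2
  have ht0' := hbu t0 ht0 ht0T
  have hTU : ∀ t ∈ T, ∀ v ∈ U, t * v = v * t := by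
    intro t ht v hv
    obtain ⟨h1, h3⟩ := (memT t).1 ht
    rcases four hU4 hz hu hz1 hu1 hzu hv with rfl | rfl | rfl | rfl
    · simp
    · exact hzP t h1
    · exact h3
    · rw [← mul_assoc, hzP t h1, mul_assoc, h3, mul_assoc]
  have hUT : U ≤ T := fun v hv => (memT v).2 ⟨hUP hv, hcm v hv u hu⟩
  have hTn : ∀ g ∈ (P : Subgroup G), ∀ t ∈ T, g * t * g⁻¹ ∈ T := by
    intro g hg t ht
    rw [memT]
    refine ⟨mul_mem (mul_mem hg ((memT t).1 ht).1) (inv_mem hg), ?_⟩
    have h1 := hTU t ht _ (hconj g⁻¹ (inv_mem hg) u hu)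
    calc g * t * g⁻¹ * u = g * (t * (g⁻¹ * u * g⁻¹⁻¹)) * g⁻¹ := by group
      _ = g * (g⁻¹ * u * g⁻¹⁻¹ * t) * g⁻¹ := by rw [h1]
      _ = _ := by group
  have hidx : ∀ b ∈ (P : Subgroup G), b ∉ T → b * t0⁻¹ ∈ T := by
    intro b hb hbT
    rw [memT]
    refine ⟨mul_mem hb (inv_mem ht0), ?_⟩
    have h1 : t0⁻¹ * u * t0 = z * u := by
      have := hbu t0⁻¹ (inv_mem ht0) (fun h => ht0T (by simpa using inv_mem h))
      simpa using this
    have h3 := hbu b hb hbT
    have h4 : b * t0⁻¹ * u * (b * t0⁻¹)⁻¹ = u := by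
      calc b * t0⁻¹ * u * (b * t0⁻¹)⁻¹ = b * (t0⁻¹ * u * t0) * b⁻¹ := by group
        _ = b * z * u * b⁻¹ := by rw [h1]; group
        _ = z * (b * u * b⁻¹) := by rw [hzP b hb]; group
        _ = z * z * u := by rw [h3]; group
        _ = u := by rw [← pow_two, hz2, one_mul]
    exact mul_inv_eq_iff_eq_mul.1 h4
  have ht02 : t0 * t0 ∈ T := by
    rw [memT]
    refine ⟨mul_mem ht0 ht0, ?_⟩
    have h4 : t0 * t0 * u * (t0 * t0)⁻¹ = u := by
      calc t0 * t0 * u * (t0 * t0)⁻¹ = t0 * (t0 * u * t0⁻¹) * t0⁻¹ := by group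
        _ = t0 * z * u * t0⁻¹ := by rw [ht0']; group
        _ = z * (t0 * u * t0⁻¹) := by rw [hzP t0 ht0]; group
        _ = z * z * u := by rw [ht0']; group
        _ = u := by rw [← pow_two, hz2, one_mul]
    exact mul_inv_eq_iff_eq_mul.1 h4
  -- commuting with `T` and `t0` gives central
  have hgen : ∀ w : G, (∀ t ∈ T, t * w = w * t) → t0 * w = w * t0 →
      ∀ g ∈ (P : Subgroup G), g * w = w * g := by
    intro w hw hw0 g hg
    by_cases hgT : g ∈ T
    · exact hw g hgT
    · have h1 := hw _ (hidx g hg hgT)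
      have h3 : g = g * t0⁻¹ * t0 := by group
      rw [h3, mul_assoc, hw0, ← mul_assoc, h1, mul_assoc]
  have hZT : ∀ y ∈ (P : Subgroup G), (∀ t ∈ T, t * y = y * t) → y ^ 2 = 1 → y ∈ U := by
    intro y hy hyT hy2
    have hyT' : y ∈ T := (memT y).2 ⟨hy, (hyT u (hUT hu)).symm⟩
    set y' := t0 * y * t0⁻¹ with hy'
    have hy'T : y' ∈ T := hTn t0 ht0 y hyT'
    have hyy : y' * y = y * y' := hyT y' hy'T
    have hy'2 : y' ^ 2 = 1 := by
      rw [hy', pow_two]
      have : t0 * y * t0⁻¹ * (t0 * y * t0⁻¹) = t0 * y ^ 2 * t0⁻¹ := by rw [pow_two]; group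
      rw [this, hy2]; simp
    have hy'c : ∀ t ∈ T, t * y' = y' * t := by
      intro t ht
      have h1 := hyT _ (hTn t0⁻¹ (inv_mem ht0) t ht)
      calc t * y' = t0 * ((t0⁻¹ * t * t0⁻¹⁻¹) * y) * t0⁻¹ := by rw [hy']; group
        _ = t0 * (y * (t0⁻¹ * t * t0⁻¹⁻¹)) * t0⁻¹ := by rw [h1]
        _ = y' * t := by rw [hy']; group
    have hy2' : y⁻¹ = y := inv_eq_of_mul_eq_one_left (by rw [← pow_two, hy2])
    have hwT : ∀ t ∈ T, t * (y * y') = y * y' * t := by
      intro t ht
      rw [← mul_assoc, hyT t ht, mul_assoc, hy'c t ht, ← mul_assoc]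
    have hw0 : t0 * (y * y') = y * y' * t0 := by
      have h1 := hyT _ ht02
      have h3 : t0 * (y * y') * t0⁻¹ = y' * (t0 * t0 * y * (t0 * t0)⁻¹) := by
        rw [hy']; group
      have h4 : t0 * t0 * y * (t0 * t0)⁻¹ = y := by rw [h1]; group
      rw [h4, hyy] at h3
      exact mul_inv_eq_iff_eq_mul.1 h3
    have hwc := hgen _ hwT hw0
    have hw2 : (y * y') ^ 2 = 1 := by
      rw [pow_two]
      have : y * y' * (y * y') = y * (y' * y) * y' := by group
      rw [this, hyy]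
      have : y * (y * y') * y' = y ^ 2 * y' ^ 2 := by rw [pow_two, pow_two]; group
      rw [this, hy2, hy'2, one_mul]
    rcases hZ _ (mul_mem hy ((memT _).1 hy'T).1) hwc hw2 with h | h
    · have h1 : y' = y := by
        have : y' = y⁻¹ := (inv_eq_of_mul_eq_one_right h).symm
        rw [this, hy2']
      have h3 : t0 * y = y * t0 := mul_inv_eq_iff_eq_mul.1 h1
      rcases hZ y hy (hgen y hyT h3) hy2 with h5 | h5
      · rw [h5]; exact one_mem _
      · rw [h5]; exact hz
    · have h1 : y' = y * z := by rw [← h, ← mul_assoc, ← pow_two, hy2, one_mul]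
      have huT := hTU
      have hyu : ∀ t ∈ T, t * (y * u) = y * u * t := by
        intro t ht
        rw [← mul_assoc, hyT t ht, mul_assoc, hTU t ht u hu, ← mul_assoc]
      have hyu0 : t0 * (y * u) = y * u * t0 := by
        have h3 : t0 * (y * u) * t0⁻¹ = y' * (t0 * u * t0⁻¹) := by rw [hy']; group
        rw [ht0', h1] at h3
        have h4 : y * z * (z * u) = y * u := by
          have : y * z * (z * u) = y * z ^ 2 * u := by rw [pow_two]; group
          rw [this, hz2, mul_one]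
        rw [h4] at h3
        exact mul_inv_eq_iff_eq_mul.1 h3
      have hyuc : u * y = y * u := hyT u (hUT hu)
      have hyu2 : (y * u) ^ 2 = 1 := by
        rw [pow_two]
        have : y * u * (y * u) = y * (u * y) * u := by group
        rw [this, hyuc]
        have : y * (y * u) * u = y ^ 2 * u ^ 2 := by rw [pow_two, pow_two]; group
        rw [this, hy2, hu2, one_mul]
      have h5 : y = (y * u) * u := by rw [mul_assoc, ← pow_two, hu2, mul_one]
      rw [h5]
      rcases hZ _ (mul_mem hy (hUP hu)) (hgen _ hyu hyu0) hyu2 with h6 | h6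
      · rw [h6, one_mul]; exact hu
      · rw [h6]; exact mul_mem hz hu
  have hTN : T ≤ N u := fun t ht => (mem_N hu2 hu1).2 ((memT t).1 ht).2
  have hzN : z ∈ N u := hTN (hUT hz)
  by_cases hQT : O (N u) ≤ T
  · have h1 : z ∈ O (N u) := by
      apply mem_O_of_comm (c2 h2 hu2 hu1) hzN
      intro q hq
      exact hzP q ((memT q).1 (hQT hq)).1
    have h3 : u ∈ O (N u) := by
      apply mem_O_of_comm (c2 h2 hu2 hu1) ((mem_N hu2 hu1).2 rfl)
      intro q hq
      exact ((memT q).1 (hQT hq)).2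
    intro v hv
    rcases four hU4 hz hu hz1 hu1 hzu hv with rfl | rfl | rfl | rfl
    · exact one_mem _
    · exact h1
    · exact h3
    · exact mul_mem h1 h3
  · -- T1
    have hTp : IsPGroup 2 T := P.isPGroup'.to_le inf_le_left
    have hT1p : IsPGroup 2 (T ⊔ O (N u) : Subgroup G) :=
      IsPGroup.to_sup_of_normal_right' hTp (O_p _) (hTN.trans (le_normalizer_O _))
    obtain ⟨P1, hP1⟩ := hT1p.exists_le_sylow
    have hcP : Nat.card P1 = Nat.card P := Nat.card_congr (P1.equiv P).toEquiv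
    have hTi : T.relIndex P = 2 := by
      rw [relIndex, index_eq_two_iff]
      refine ⟨⟨t0⁻¹, inv_mem ht0⟩, fun b => ?_⟩
      rw [mem_subgroupOf, mem_subgroupOf]
      by_cases hb : (b : G) ∈ T
      · right
        refine ⟨hb, fun h => ht0T ?_⟩
        have h1 : (b : G) * t0⁻¹ ∈ T := h
        have := mul_mem (inv_mem h1) hb
        simpa using this
      · left
        exact ⟨hidx b b.2 hb, hb⟩
    have hcT : Nat.card T * 2 = Nat.card P := by
      have h := card_rel (inf_le_left : T ≤ (P : Subgroup G))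
      rwa [hTi] at h
    have hTT1 : T ≤ T ⊔ O (N u) := le_sup_left
    have hT1i := card_rel hTT1
    have hT1d : Nat.card (T ⊔ O (N u) : Subgroup G) ∣ Nat.card P := hcP ▸ card_dvd_of_le hP1
    have hi2 : T.relIndex (T ⊔ O (N u)) = 2 := by
      have h1 : T.relIndex (T ⊔ O (N u)) ≠ 1 := by
        rw [Ne, relIndex_eq_one]
        intro h; exact hQT (le_sup_right.trans h)
      rw [← hT1i, ← hcT] at hT1d
      have h3 := Nat.dvd_of_mul_dvd_mul_left Nat.card_pos hT1d
      rcases (Nat.dvd_prime Nat.prime_two).1 h3 with h4 | h4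
      · exact absurd h4 h1
      · exact h4
    have hT1P1 : T ⊔ O (N u) = (P1 : Subgroup G) := by
      apply eq_of_le_of_card_ge hP1
      rw [← hT1i, hi2, hcT, hcP]
    have hTT1n : ∀ x ∈ T ⊔ O (N u), ∀ t ∈ T, x * t * x⁻¹ ∈ T := by
      have hn : (T.subgroupOf (T ⊔ O (N u))).Normal := normal_of_index_eq_two hi2
      have := (normal_subgroupOf_iff_le_normalizer hTT1).1 hn
      intro x hx t ht
      exact (mem_normalizer_iff.1 (this hx) t).1 ht
    have hT1U : ∀ x ∈ T ⊔ O (N u), ∀ v ∈ U, x * v * x⁻¹ ∈ U := by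
      intro x hx v hv
      apply hZT
      · exact ((memT _).1 (hTT1n x hx v (hUT hv))).1
      · intro t ht
        have h1 := hTU _ (by simpa using hTT1n x⁻¹ (inv_mem hx) t ht) v hv
        calc t * (x * v * x⁻¹) = x * ((x⁻¹ * t * x) * v) * x⁻¹ := by group
          _ = x * (v * (x⁻¹ * t * x)) * x⁻¹ := by rw [h1]
          _ = _ := by group
      · rw [pow_two]
        have : x * v * x⁻¹ * (x * v * x⁻¹) = x * v ^ 2 * x⁻¹ := by rw [pow_two]; group
        rw [this, hsq v hv]; simp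
    have hP1U : (P1 : Subgroup G) ≤ normalizer (U : Set G) := by
      rw [← hT1P1]
      intro x hx
      rw [mem_normalizer_iff]
      intro v
      refine ⟨hT1U x hx v, fun h => ?_⟩
      have := hT1U x⁻¹ (inv_mem hx) _ h
      simpa [mul_assoc] using this
    obtain ⟨m, hm⟩ := MulAction.exists_smul_eq (normalizer (U : Set G)) (P.subtype hUn) (P1.subtype hP1U)
    have hmP : ∀ g ∈ (P : Subgroup G), (m : G) * g * (m : G)⁻¹ ∈ (P1 : Subgroup G) := by
      intro g hg
      have h1 : (⟨g, hUn hg⟩ : normalizer (U : Set G)) ∈ ((P.subtype hUn : Sylow 2 _) : Subgroup _) := hg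
      have h3 := Subgroup.smul_mem_pointwise_smul _ (MulAut.conj m) _ h1
      have h4 : MulAut.conj m • (⟨g, hUn hg⟩ : normalizer (U : Set G)) ∈
          ((m • (P.subtype hUn : Sylow 2 _) : Sylow 2 _) : Subgroup _) := h3
      rw [hm] at h4
      exact h4
    have huP1 : ∀ x ∈ (P1 : Subgroup G), x * u = u * x := by
      intro x hx
      rw [← hT1P1] at hx
      exact (mem_N hu2 hu1).1 ((sup_le hTN (O_le _)) hx)
    have hmU : ∀ v ∈ U, (m : G)⁻¹ * v * m ∈ U := by
      intro v hv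
      have := (mem_normalizer_iff.1 (inv_mem m.2) v).1 hv
      simpa using this
    have hz' := hmU u hu
    have hz'1 : (m : G)⁻¹ * u * m ≠ 1 := by
      intro h
      apply hu1
      have := congrArg (fun t => (m : G) * t * (m : G)⁻¹) h
      simpa [mul_assoc] using this
    have h5 := hcen _ hz' hz'1 (by
      intro g hg
      have h6 := huP1 _ (hmP g hg)
      calc g * ((m : G)⁻¹ * u * m) = (m : G)⁻¹ * ((m * g * (m : G)⁻¹) * u) * m := by group
        _ = (m : G)⁻¹ * (u * (m * g * (m : G)⁻¹)) * m := by rw [h6]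
        _ = _ := by group)
    intro v hv
    have h6 := O_transport hu2 hu1 (h5 (hmU v hv))
    have e : (m : G) * ((m : G)⁻¹ * v * m) * (m : G)⁻¹ = v := by group
    rwa [e] at h6

theorem s1957 [Finite G] (h2 : IsCharacteristicTwoType G) (P : Sylow 2 G) (U : Subgroup G)
    (hUP : U ≤ (P : Subgroup G)) (hUn : (P : Subgroup G) ≤ Subgroup.normalizer (U : Set G))
    (hU4 : IsKleinFour ↥U)
    (hUZ : ¬ IsCyclic ↥((P : Subgroup G) ⊓ Subgroup.centralizer ((P : Subgroup G) : Set G)) →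
      U ≤ Subgroup.centralizer ((P : Subgroup G) : Set G))
    (K : Subgroup G) (hK : Odd (Nat.card K)) (hUK : U ≤ Subgroup.normalizer (K : Set G)) :
    U ≤ Subgroup.centralizer (K : Set G) := by
  have hm := main h2 P U hUP hUn hU4 hUZ
  have hsq : ∀ x ∈ U, x ^ 2 = 1 := by
    intro x hx
    have := IsKleinFour.mul_self (⟨x, hx⟩ : U)
    rw [pow_two]; exact congrArg Subtype.val this
  haveI : IsMulCommutative U := ⟨⟨fun a b => by
    have h1 : ∀ x : U, x⁻¹ = x := fun x => IsKleinFour.inv_eq_self x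
    rw [← h1 (a * b), mul_inv_rev, h1, h1]⟩⟩
  have hcop : (Nat.card U).Coprime (Nat.card K) := by
    rw [hU4.card_four]
    exact (Nat.Coprime.pow_left 2 (Nat.coprime_two_left.2 hK) : Nat.Coprime (2 ^ 2) _)
  have hgen := CfsgLib.Coprime2.generation_noncyclic (A := U) IsKleinFour.not_isCyclic hUK hcop
  rw [le_centralizer_iff, ← hgen]
  apply iSup₂_le
  rintro a ⟨haU, ha1⟩ c ⟨hcK, hca⟩
  rw [mem_centralizer_iff]
  intro v hv
  have ha2 := hsq a haU
  have hcN : c ∈ N a := (mem_N ha2 ha1).2 (mem_centralizer_singleton_iff.1 hca)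
  have hvO : v ∈ O (N a) := hm a haU ha1 hv
  have h1 : v * c * v⁻¹ * c⁻¹ ∈ O (N a) := by
    have := mul_mem hvO (O_conj hcN (inv_mem hvO))
    have e : v * (c * v⁻¹ * c⁻¹) = v * c * v⁻¹ * c⁻¹ := by group
    rwa [e] at this
  have h3 : v * c * v⁻¹ * c⁻¹ ∈ K :=
    mul_mem ((mem_normalizer_iff.1 (hUK hv) c).1 hcK) (inv_mem hcK)
  obtain ⟨k, hk⟩ := O_p (N a) ⟨_, h1⟩
  have hk' : (v * c * v⁻¹ * c⁻¹) ^ 2 ^ k = 1 := congrArg Subtype.val hk
  have h4 : (v * c * v⁻¹ * c⁻¹) ^ Nat.card K = 1 := by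
    have := pow_card_eq_one' (x := (⟨_, h3⟩ : K))
    exact congrArg Subtype.val this
  have h5 : orderOf (v * c * v⁻¹ * c⁻¹) ∣ 1 := by
    have hcop : Nat.Coprime (Nat.card K) (2 ^ k) := Nat.Coprime.pow_right _ (Nat.coprime_two_right.2 hK)
    rw [← hcop]
    exact Nat.dvd_gcd (orderOf_dvd_of_pow_eq_one h4) (orderOf_dvd_of_pow_eq_one hk')
  have h6 : v * c * v⁻¹ * c⁻¹ = 1 := by
    rw [← orderOf_eq_one_iff]; exact Nat.dvd_one.1 h5
  rw [mul_inv_eq_one, mul_inv_eq_iff_eq_mul] at h6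
  exact h6

end CfsgLib.H7NU
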