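import Mathlib
import Cfsg.Agent.LibH7NU
import Cfsg.Agent.LibLEP
import Cfsg.Agent.LibPQ
import Cfsg.Agent.LibPComp
import Cfsg.Agent.LibCoprime
import Cfsg.Prelude.Def_QuasithinSetup

set_option autoImplicit false

/-! Members of `L_f(G, T)` in groups of even characteristic. -/

namespace CfsgLib.H7Lf

open Subgroup Cfsg CfsgLib.H7NU
open scoped commutatorElement

universe u
variable {G : Type u} [Group G]

theorem top_of_perfect_quot {K : Type*} [Group K] [Finite K] {p : ℕ} [Fact p.Prime]
    (hK : commutator K = ⊤) (N : Subgroup K) [N.Normal] (hq : IsPGroup p (K ⧸ N)) : N = ⊤ := by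
  by_contra hne
  haveI : Nontrivial (K ⧸ N) := QuotientGroup.nontrivial_iff.2 hne
  haveI := hq.isNilpotent
  haveI : Group.IsSolvable (K ⧸ N) := inferInstance
  have h1 := Group.IsSolvable.commutator_lt_top_of_nontrivial (K ⧸ N)
  have h2 : (commutator K).map (QuotientGroup.mk' N) = commutator (K ⧸ N) := by
    rw [commutator_def, commutator_def, map_commutator,
      map_top_of_surjective _ (QuotientGroup.mk'_surjective N)]
  rw [← h2, hK, map_top_of_surjective _ (QuotientGroup.mk'_surjective N)] at h1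
  exact lt_irrefl _ h1

theorem commutator_eq_top {K : Subgroup G} (hK : ⁅K, K⁆ = K) : commutator K = ⊤ := by
  apply map_injective K.subtype_injective
  rw [commutator_def, map_commutator, ← MonoidHom.range_eq_map, range_subtype, hK]

theorem le_of_subnormal_pow_index [Finite G] {p : ℕ} [Fact p.Prime] {K : Subgroup G}
    (hK : ⁅K, K⁆ = K) {A : Subgroup G} (hA : A.IsSubnormal) : (∃ n, A.index ∣ p ^ n) → K ≤ A := by
  induction hA with
  | top => intro _; exact le_top
  | step H L h_le hSubn hN ih =>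
    rintro ⟨n, hidx⟩
    have h1 : L.index ∣ H.index := index_dvd_of_le h_le
    have hKL : K ≤ L := ih ⟨n, h1.trans hidx⟩
    have hLn : L ≤ normalizer (H : Set G) := (normal_subgroupOf_iff_le_normalizer h_le).1 hN
    have hHn : (H.subgroupOf K).Normal := by
      rw [← inf_subgroupOf_right]
      apply (normal_subgroupOf_iff_le_normalizer inf_le_right).2
      intro k hk
      rw [mem_normalizer_iff]
      intro x
      have h2 := mem_normalizer_iff.1 (hLn (hKL hk)) x
      rw [mem_inf, mem_inf, h2]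
      constructor
      · rintro ⟨h3, h4⟩; exact ⟨h3, mul_mem (mul_mem hk h4) (inv_mem hk)⟩
      · rintro ⟨h3, h4⟩
        refine ⟨h3, ?_⟩
        have := mul_mem (mul_mem (inv_mem hk) h4) hk
        simpa [mul_assoc] using this
    have h3 : (H.subgroupOf K).index ∣ H.index := by
      have h4 : (H.subgroupOf L).relIndex (K.subgroupOf L) ∣ (H.subgroupOf L).index :=
        relIndex_dvd_index_of_normal _ _
      rw [relIndex_subgroupOf hKL] at h4
      have h5 : (H.subgroupOf L).index ∣ H.index := by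
        change H.relIndex L ∣ H.index
        exact relIndex_dvd_index_of_le h_le
      exact h4.trans h5
    obtain ⟨m, -, hm⟩ := (Nat.dvd_prime_pow Fact.out).1 (h3.trans hidx)
    have hq : IsPGroup p (K ⧸ H.subgroupOf K) := by
      apply IsPGroup.of_card (n := m)
      rw [← hm, index_eq_card]
    exact subgroupOf_eq_top.1 (top_of_perfect_quot (commutator_eq_top hK) _ hq)

theorem oddGenerated_le (K : Subgroup G) : oddGenerated K ≤ K :=
  (closure_le _).2 fun _ hx => hx.1

theorem oddGenerated_eq [Finite G] {K : Subgroup G} (hK : ⁅K, K⁆ = K) : oddGenerated K = K := by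
  apply le_antisymm (oddGenerated_le K)
  have hn : ((oddGenerated K).subgroupOf K).Normal := by
    apply (normal_subgroupOf_iff_le_normalizer (oddGenerated_le K)).2
    intro k hk
    have key : ∀ k ∈ K, ∀ x ∈ oddGenerated K, k * x * k⁻¹ ∈ oddGenerated K := by
      intro k hk x hx
      induction hx using closure_induction with
      | mem x hx =>
        apply Subgroup.subset_closure
        refine ⟨mul_mem (mul_mem hk hx.1) (inv_mem hk), ?_⟩
        have : orderOf (k * x * k⁻¹) = orderOf x := by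
          rw [← MulAut.conj_apply]
          exact orderOf_injective (MulAut.conj k).toMonoidHom (MulAut.conj k).injective x
        rw [this]; exact hx.2
      | one => simp
      | mul x y _ _ hx hy =>
        have := mul_mem hx hy
        simpa [mul_assoc] using this
      | inv x _ hx =>
        have := inv_mem hx
        simpa [mul_assoc] using this
    rw [mem_normalizer_iff]
    intro x
    refine ⟨key k hk x, fun h => ?_⟩
    have := key k⁻¹ (inv_mem hk) _ h
    simpa [mul_assoc] using this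
  have hq : IsPGroup 2 (K ⧸ (oddGenerated K).subgroupOf K) := by
    intro a
    obtain ⟨a, rfl⟩ := QuotientGroup.mk_surjective a
    obtain ⟨k, m, hm, hkm⟩ := Nat.exists_eq_two_pow_mul_odd (n := orderOf (a : G)) (orderOf_pos _).ne'
    refine ⟨k, ?_⟩
    rw [← QuotientGroup.mk_pow, QuotientGroup.eq_one_iff, mem_subgroupOf]
    apply Subgroup.subset_closure
    refine ⟨pow_mem a.2 _, ?_⟩
    have h1 : ((a : G) ^ 2 ^ k) ^ m = 1 := by rw [← pow_mul, ← hkm, pow_orderOf_eq_one]
    exact Odd.of_dvd_nat hm (orderOf_dvd_of_pow_eq_one h1)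
  exact subgroupOf_eq_top.1 (top_of_perfect_quot (commutator_eq_top hK) _ hq)

theorem gfit_of_subnormal [Finite G] {K X : Subgroup G} (hKX : K ≤ X)
    (hs : (K.subgroupOf X).IsSubnormal) (hX : centralizer (pCore 2 X : Set X) ≤ pCore 2 X) :
    generalizedFittingSubgroup K = pCore 2 K := by
  apply le_antisymm
  · apply CfsgLib.Cores.le_pCore inferInstance
    have h1 := CfsgLib.Comp.map_gfitting_le_of_subnormal hs
    rw [CfsgLib.LE.gfit_eq_pCore_iff.2 hX] at h1
    have h2 : IsPGroup 2 (generalizedFittingSubgroup (K.subgroupOf X)) := by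
      have := (CfsgLib.Cores.pCore_isPGroup 2 (G := X)).to_le h1
      exact this.of_equiv (equivMapOfInjective _ _ (subtype_injective _)).symm
    have h3 := h2.map (subgroupOfEquivOfLe hKX).toMonoidHom
    rwa [CfsgLib.Comp.map_gfitting_equiv] at h3
  · exact (CfsgLib.Cores.pCore_le_fittingSubgroup 2).trans CfsgLib.Comp.fitting_le_gfitting

theorem O_le_O_of_subnormal [Finite G] {K X : Subgroup G} (hKX : K ≤ X)
    (hs : (K.subgroupOf X).IsSubnormal) : O K ≤ O X := by
  have h1 := map_mono (f := X.subtype) (CfsgLib.Comp.map_pCore_le_of_subnormal 2 hs)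
  refine le_trans ?_ h1
  rintro _ ⟨y, hy, rfl⟩
  have h2 : (subgroupOfEquivOfLe hKX).symm y ∈ pCore 2 (K.subgroupOf X) := by
    rw [← CfsgLib.Cores.map_pCore_equiv 2 (subgroupOfEquivOfLe hKX).symm]
    exact ⟨y, hy, rfl⟩
  exact ⟨_, ⟨_, h2, rfl⟩, rfl⟩

theorem main [Finite G] (hE : IsOfEvenCharacteristic G) (T : Sylow 2 G) {L K : Subgroup G}
    (hL : L ∈ calLf (T : Subgroup G)) (hK : K ∈ calL (T : Subgroup G)) (hLK : L ≤ K) :
    K ∈ calLf (T : Subgroup G) := by
  obtain ⟨⟨⟨hL1, hLp, hLs, -⟩, -, hL2⟩, ⟨hLn, hLo, hLg⟩, hLV⟩ := hL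
  obtain ⟨⟨hK1, hKp, hKs, hKm⟩, hK3, hK2⟩ := id hK
  set X : Subgroup G := K ⊔ T with hX
  set Y : Subgroup G := L ⊔ T with hY
  have hKX : K ≤ X := le_sup_left
  have hTX : (T : Subgroup G) ≤ X := le_sup_right
  have hLY : L ≤ Y := le_sup_left
  have hTY : (T : Subgroup G) ≤ Y := le_sup_right
  have hYX : Y ≤ X := sup_le (hLK.trans hKX) hTX
  have hperf : ∀ {A B : Subgroup G}, A ≤ B → ⁅A.subgroupOf B, A.subgroupOf B⁆ = A.subgroupOf B →
      ⁅A, A⁆ = A := by
    intro A B hAB h
    have := congrArg (Subgroup.map B.subtype) h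
    rwa [map_commutator, map_subgroupOf_eq_of_le hAB] at this
  have hLL : ⁅L, L⁆ = L := hperf hLY hLp
  have hKK : ⁅K, K⁆ = K := hperf hKX hKp
  have hOT : ∀ R : Subgroup G, IsPGroup 2 R → (T : Subgroup G) ≤ normalizer (R : Set G) →
      R ≤ T := by
    intro R hR hn
    have h1 := IsPGroup.to_sup_of_normal_right' T.isPGroup' hR hn
    have h3 := T.is_maximal' h1 le_sup_left
    rw [← h3]; exact le_sup_right
  -- `X` has characteristic 2
  have hOX : O X ≠ ⊥ := by
    intro h
    apply hK2
    exact (map_eq_bot_iff_of_injective _ X.subtype_injective).1 h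
  have hXM : X ≤ normalizer (O X : Set G) := le_normalizer_O X
  have hMc : IsOfCharacteristicTwo ↥(normalizer (O X : Set G)) :=
    hE _ ⟨O X, O_p X, hOX, rfl⟩ ⟨T, hTX.trans hXM⟩
  have hOM : O (normalizer (O X : Set G)) ≤ T :=
    hOT _ (O_p _) ((hTX.trans hXM).trans (le_normalizer_O _))
  have hOMX : O (normalizer (O X : Set G)) ≤ O X :=
    le_O (hOM.trans hTX) (O_p _) (fun n hn w hw => O_conj (hXM hn) hw)
  have hXc : centralizer (pCore 2 X : Set X) ≤ pCore 2 X := by
    intro y hy
    have h1 : (y : G) ∈ O X := by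
      apply hOMX
      apply mem_O_of_comm hMc (hXM y.2)
      intro q hq
      obtain ⟨q', hq', rfl⟩ := hOMX hq
      exact congrArg Subtype.val (mem_centralizer_iff.1 hy q' hq')
    obtain ⟨z, hz, hzy⟩ := h1
    rwa [← Subtype.ext hzy]
  have hKg : generalizedFittingSubgroup K = pCore 2 K := gfit_of_subnormal hKX hKs hXc
  have hKc : IsOfCharacteristicTwo ↥K := CfsgLib.LE.gfit_eq_pCore_iff.1 hKg
  have hKne : K ≠ ⊥ := by
    rintro rfl
    exact hLn (le_bot_iff.1 hLK)
  refine ⟨hK, ⟨⟨hKne, oddGenerated_eq hKK, hKg⟩, ?_⟩⟩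
  -- `R = O_2(Y)`
  have hOKX : O K ≤ O X := O_le_O_of_subnormal hKX hKs
  have hOXT : O X ≤ T := hOT _ (O_p _) (hTX.trans hXM)
  have hOXY : O X ≤ O Y := le_O (hOXT.trans hTY) (O_p _) (fun n hn w hw => O_conj (hYX hn) hw)
  have hYR : Y ≤ normalizer (O Y : Set G) := le_normalizer_O Y
  -- `R` normalizes `L`
  have hRL : O Y ≤ normalizer (L : Set G) := by
    have hLR : L ≤ normalizer (O Y : Set G) := hLY.trans hYR
    set Z : Subgroup G := L ⊔ O Y with hZ
    have hZY : Z ≤ Y := sup_le hLY (O_le Y)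
    have hLZ : L ≤ Z := le_sup_left
    have hLsZ : (L.subgroupOf Z).IsSubnormal := by
      exact hLs.comap (inclusion hZY)
    have hidx : ∃ n, (L.subgroupOf Z).index ∣ 2 ^ n := by
      obtain ⟨n, hn⟩ := IsPGroup.iff_card.1 (O_p Y)
      refine ⟨n, ?_⟩
      have h1 := CfsgLib.Cores.card_sup_dvd_of_le_normalizer L (O Y) hLR
      rw [← card_rel hLZ, hn] at h1
      exact Nat.dvd_of_mul_dvd_mul_left Nat.card_pos h1
    have key : ∀ r ∈ O Y, ∀ x ∈ L, r * x * r⁻¹ ∈ L := by
      intro r hr x hx
      have h1 : (L.map (MulAut.conj r).toMonoidHom) ≤ Z := by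
        rintro _ ⟨y, hy, rfl⟩
        exact mul_mem (mul_mem (le_sup_right (a := L) hr) (hLZ hy)) (inv_mem (le_sup_right (a := L) hr))
      have h2 : ⁅L.map (MulAut.conj r).toMonoidHom, L.map (MulAut.conj r).toMonoidHom⁆ =
          L.map (MulAut.conj r).toMonoidHom := by
        rw [← map_commutator, hLL]
      have h3 : ⁅(L.map (MulAut.conj r).toMonoidHom).subgroupOf Z,
          (L.map (MulAut.conj r).toMonoidHom).subgroupOf Z⁆ =
          (L.map (MulAut.conj r).toMonoidHom).subgroupOf Z := by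
        apply map_injective Z.subtype_injective
        rw [map_commutator, map_subgroupOf_eq_of_le h1, h2]
      have h4 := le_of_subnormal_pow_index (p := 2) h3 hLsZ hidx
      have h5 : r * x * r⁻¹ ∈ L.map (MulAut.conj r).toMonoidHom := ⟨x, hx, rfl⟩
      exact mem_subgroupOf.1 (h4 (show (⟨r * x * r⁻¹, h1 h5⟩ : Z) ∈
        (L.map (MulAut.conj r).toMonoidHom).subgroupOf Z from h5))
    intro r hr
    rw [mem_normalizer_iff]
    intro x
    refine ⟨key r hr x, fun h => ?_⟩
    have := key r⁻¹ (inv_mem hr) _ h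
    simpa [mul_assoc] using this
  have hRLO : ⁅O Y, L⁆ ≤ O L := by
    have h1 : ⁅O Y, L⁆ ≤ O Y ⊓ L := by
      rw [commutator_le]
      intro r hr x hx
      rw [commutatorElement_def]
      refine ⟨?_, ?_⟩
      · have := mul_mem hr (O_conj (hLY hx) (inv_mem hr))
        simpa [mul_assoc] using this
      · exact L.mul_mem ((mem_normalizer_iff.1 (hRL hr) x).1 hx) (L.inv_mem hx)
    refine h1.trans (le_O inf_le_right ((O_p Y).to_le inf_le_left) ?_)
    rintro n hn w ⟨hw1, hw2⟩
    exact ⟨O_conj (hLY hn) hw1, L.mul_mem (L.mul_mem hn hw2) (L.inv_mem hn)⟩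
  -- the module of `L`
  set V : Subgroup G := omegaOne 2 (O L ⊓ centralizer (O L : Set G)) with hV
  have hVle : V ≤ O L ⊓ centralizer (O L : Set G) := (closure_le _).2 fun _ hx => hx.1
  have hVsq : ∀ w ∈ V, w ^ 2 = 1 := by
    intro w hw
    have hw' := hw
    induction hw' using closure_induction with
    | mem x hx => exact hx.2
    | one => simp
    | mul x y hx hy ihx ihy =>
      have h1 := hVle hx
      have h2 := hVle hy
      have h3 : x * y = y * x := mem_centralizer_iff.1 h2.2 x h1.1
      rw [(show Commute x y from h3).mul_pow, ihx hx, ihy hy, one_mul]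
    | inv x hx ihx => rw [inv_pow, ihx hx, inv_one]
  have hVp : IsPGroup 2 V := (O_p L).to_le (hVle.trans inf_le_left)
  have hVne : ⁅V, L⁆ ≠ ⊥ := hLV
  have hVn : ∀ g ∈ normalizer (L : Set G), ∀ w ∈ V, g * w * g⁻¹ ∈ V := by
    intro g hg w hw
    have hgO : ∀ g ∈ normalizer (L : Set G), ∀ q ∈ O L, g * q * g⁻¹ ∈ O L := fun g hg q hq =>
      (mem_normalizer_iff.1 (CfsgLib.LE.normalizer_le_normalizer_pCoreOf 2 L hg) q).1 hq
    induction hw using closure_induction with
    | mem x hx =>
      apply Subgroup.subset_closure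
      refine ⟨⟨hgO g hg x hx.1.1, ?_⟩, ?_⟩
      · refine mem_centralizer_iff.2 ?_
        intro q hq
        have h1 := mem_centralizer_iff.1 hx.1.2 _ (hgO g⁻¹ (inv_mem hg) q hq)
        calc q * (g * x * g⁻¹) = g * ((g⁻¹ * q * g⁻¹⁻¹) * x) * g⁻¹ := by group
          _ = g * (x * (g⁻¹ * q * g⁻¹⁻¹)) * g⁻¹ := by rw [h1]
          _ = _ := by group
      · have : (g * x * g⁻¹) ^ 2 = g * x ^ 2 * g⁻¹ := by rw [pow_two, pow_two]; group
        rw [this, hx.2]; simp
    | one => simp
    | mul x y _ _ hx hy =>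
      have := mul_mem hx hy
      simpa [mul_assoc] using this
    | inv x _ hx =>
      have := inv_mem hx
      simpa [mul_assoc] using this
  have hNV : normalizer (L : Set G) ≤ normalizer (V : Set G) := by
    intro g hg
    rw [mem_normalizer_iff]
    intro x
    refine ⟨hVn g hg x, fun h => ?_⟩
    have := hVn g⁻¹ (inv_mem hg) _ h
    simpa [mul_assoc] using this
  -- an element of odd order acting nontrivially
  have hx : ∃ x ∈ L, Odd (orderOf x) ∧ ¬ (∀ w ∈ V, w * x = x * w) := by
    by_contra hcon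
    push Not at hcon
    apply hVne
    have h1 : L ≤ centralizer (V : Set G) := by
      rw [← hLo]
      refine (closure_le _).2 ?_
      rintro x ⟨hxL, hxo⟩
      exact mem_centralizer_iff.2 fun w hw => hcon x hxL hxo w hw
    rw [commutator_eq_bot_iff_le_centralizer, le_centralizer_iff]
    exact h1
  obtain ⟨x, hxL, hxo, hxV⟩ := hx
  have hcopx : ∀ n, (Nat.card (zpowers x)).Coprime (2 ^ n) := by
    intro n
    rw [Nat.card_zpowers]
    exact Nat.Coprime.pow_right _ (Nat.coprime_two_right.2 hxo)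
  have hw : ∃ w ∈ V, (∀ r ∈ O Y, r * x = x * r → r * w = w * r) ∧ w * x ≠ x * w := by
    by_contra hcon
    push Not at hcon
    apply hxV
    have hst : CfsgLib.PQ.StabTriv 2 (zpowers x) :=
      CfsgLib.PQ.stab_of_coprime (by simpa using hcopx 1)
    have h1 := CfsgLib.PQ.pxq (p := 2) (V := V) (P := O Y ⊓ centralizer (zpowers x : Set G))
      (B := zpowers x) hVp ((O_p Y).to_le inf_le_left) ((inf_le_left.trans hRL).trans hNV)
      (zpowers_le.2 (hNV (le_normalizer hxL)))
      ((commutator_eq_bot_iff_le_centralizer).2 inf_le_right) hst (by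
        rw [commutator_eq_bot_iff_le_centralizer, le_centralizer_iff, zpowers_le,
          mem_centralizer_iff]
        rintro w ⟨hwV, hwC⟩
        apply hcon w hwV
        intro r hr hrx
        apply mem_centralizer_iff.1 hwC r
        refine ⟨hr, ?_⟩
        have h5 : zpowers x ≤ centralizer ({r} : Set G) :=
          zpowers_le.2 (mem_centralizer_singleton_iff.2 hrx.symm)
        exact mem_centralizer_iff.2 fun y hy => mem_centralizer_singleton_iff.1 (h5 hy))
    rw [commutator_eq_bot_iff_le_centralizer, le_centralizer_iff, zpowers_le,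
      mem_centralizer_iff] at h1
    exact h1
  obtain ⟨w, hwV, hwC, hwx⟩ := hw
  have hwL : w ∈ O L := (hVle hwV).1
  have hwR : ∀ r ∈ O Y, r * w = w * r := by
    obtain ⟨n, hn⟩ := IsPGroup.iff_card.1 (O_p Y)
    haveI := (O_p Y).isNilpotent
    have h1 := CfsgLib.Coprime.commutator_sup_centralizer (A := zpowers x) (K := O Y)
      (zpowers_le.2 (hYR (hLY hxL))) (hn ▸ hcopx n) (Or.inr inferInstance)
    have h2 : O Y ≤ centralizer ({w} : Set G) := by
      rw [← h1]
      apply sup_le
      · refine ((commutator_mono le_rfl (zpowers_le.2 hxL)).trans hRLO).trans ?_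
        intro q hq
        rw [mem_centralizer_singleton_iff]
        exact mem_centralizer_iff.1 (hVle hwV).2 q hq
      · rintro r ⟨hr, hrx⟩
        rw [mem_centralizer_singleton_iff]
        exact hwC r hr (mem_centralizer_iff.1 hrx x (mem_zpowers x)).symm
    intro r hr
    exact mem_centralizer_singleton_iff.1 (h2 hr)
  have hwK : w ∈ K := hLK (O_le L hwL)
  have hwOK : w ∈ O K := mem_O_of_comm hKc hwK (fun q hq => hwR q (hOXY (hOKX hq)))
  have hwOm : w ∈ omegaOne 2 (O K ⊓ centralizer (O K : Set G)) := by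
    apply Subgroup.subset_closure
    exact ⟨⟨hwOK, mem_centralizer_iff.2 fun q hq => hwR q (hOXY (hOKX hq))⟩, hVsq w hwV⟩
  intro hbot
  have h1 : ⁅w, x⁆ ∈ moduleV K := commutator_mem_commutator hwOm (hLK hxL)
  rw [hbot, mem_bot, commutatorElement_eq_one_iff_mul_comm] at h1
  exact hwx h1

end CfsgLib.H7Lf
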