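import Mathlib
import Cfsg.Prelude
import Cfsg.Agent.LibFgSub
import Cfsg.Agent.LibH7Hall

/-! Pronormality, relative version, and pronormality of overgroups of Sylow subgroups. -/

set_option autoImplicit false

namespace CfsgLib.H7Pron

open CfsgLib.FgSub Cfsg

variable {G : Type*} [Group G]

/-- `H` pronormal with respect to `M`. -/
def PrIn (H M : Subgroup G) : Prop := ∀ g ∈ M, ∃ x ∈ H ⊔ cj g H, cj g H = cj x H

theorem prIn_top {H : Subgroup G} : PrIn H ⊤ ↔ IsPronormal H :=
  ⟨fun h g => h g trivial, fun h g _ => h g⟩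

theorem PrIn.mono {H M N : Subgroup G} (h : PrIn H N) (hMN : M ≤ N) : PrIn H M :=
  fun g hg => h g (hMN hg)

theorem map_cj {M : Type*} [Group M] (f : M →* G) (g : M) (K : Subgroup M) :
    (cj g K).map f = cj (f g) (K.map f) := by
  rw [cj_def, cj_def, Subgroup.map_map, Subgroup.map_map]
  congr 1
  ext x
  simp

theorem map_of_pronormal {M : Type*} [Group M] (f : M →* G) {K : Subgroup M} (h : IsPronormal K) :
    PrIn (K.map f) f.range := by
  rintro _ ⟨g, rfl⟩
  obtain ⟨x, hx, hxe⟩ := h g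
  refine ⟨f x, ?_, ?_⟩
  · rw [← map_cj, ← Subgroup.map_sup]
    exact Subgroup.mem_map_of_mem f hx
  · rw [← map_cj, ← map_cj]
    exact congrArg (Subgroup.map f) hxe

theorem pronormal_of_map {M : Type*} [Group M] (f : M →* G) {K : Subgroup M} (hK : f.ker ≤ K)
    (h : PrIn (K.map f) f.range) : IsPronormal K := by
  intro g
  obtain ⟨x, hx, hxe⟩ := h (f g) ⟨g, rfl⟩
  rw [← map_cj, ← Subgroup.map_sup] at hx
  obtain ⟨y, hy, rfl⟩ := hx
  refine ⟨y, hy, ?_⟩
  rw [← map_cj, ← map_cj] at hxe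
  have hk : ∀ z : M, f.ker ≤ cj z K := by
    intro z
    have := cj_mono (g := z) hK
    rwa [cj_of_normal] at this
  have e1 := Subgroup.comap_map_eq_self (hk g)
  have e2 := Subgroup.comap_map_eq_self (hk y)
  rw [← cj_def, ← cj_def, ← e1, ← e2, hxe]

theorem pronormal_subgroupOf {H M : Subgroup G} (hHM : H ≤ M) :
    IsPronormal (H.subgroupOf M) ↔ PrIn H M := by
  have e : (H.subgroupOf M).map M.subtype = H := Subgroup.map_subgroupOf_eq_of_le hHM
  constructor
  · intro h
    have := map_of_pronormal M.subtype h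
    rwa [e, Subgroup.range_subtype] at this
  · intro h
    refine pronormal_of_map M.subtype (by rw [Subgroup.ker_subtype]; exact bot_le) ?_
    rwa [e, Subgroup.range_subtype]

theorem pronormal_quotient {N : Subgroup G} [N.Normal] {H : Subgroup G} (hNH : N ≤ H) :
    IsPronormal (H.map (QuotientGroup.mk' N)) ↔ IsPronormal H := by
  constructor
  · intro h
    refine pronormal_of_map (QuotientGroup.mk' N) (by rw [QuotientGroup.ker_mk']; exact hNH) ?_
    exact (prIn_top.2 h).mono le_top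
  · intro h
    have := map_of_pronormal (QuotientGroup.mk' N) h
    rwa [QuotientGroup.range_mk', prIn_top] at this

theorem pronormal_map_quotient {N : Subgroup G} [N.Normal] {H : Subgroup G} (h : IsPronormal H) :
    IsPronormal (H.map (QuotientGroup.mk' N)) := by
  have := map_of_pronormal (QuotientGroup.mk' N) h
  rwa [QuotientGroup.range_mk', prIn_top] at this

theorem pronormal_cj {H : Subgroup G} (c : G) (h : IsPronormal H) : IsPronormal (cj c H) := by
  have := map_of_pronormal (MulAut.conj c).toMonoidHom h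
  rwa [MonoidHom.range_eq_top.2 (MulAut.conj c).surjective, prIn_top] at this

/-- The property `∃ Sylow p ≤ K` in terms of the index. -/
theorem exists_sylow_le_iff {p : ℕ} [Fact p.Prime] [Finite G] (K : Subgroup G) :
    (∃ P : Sylow p G, (P : Subgroup G) ≤ K) ↔ ¬ p ∣ K.index := by
  constructor
  · rintro ⟨P, hP⟩ h
    exact P.not_dvd_index (h.trans (Subgroup.index_dvd_of_le hP))
  · intro h
    obtain ⟨Q⟩ := (inferInstance : Nonempty (Sylow p K))
    have hQ : IsPGroup p ((Q : Subgroup K).map K.subtype) := Q.isPGroup'.map _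
    refine ⟨hQ.toSylow ?_, ?_⟩
    · have e : ((Q : Subgroup K).map K.subtype).index = (Q : Subgroup K).index * K.index := by
        rw [Subgroup.index_map_subtype]
      rw [e, (Fact.out : p.Prime).dvd_mul, not_or]
      exact ⟨Q.not_dvd_index, h⟩
    · rintro _ ⟨x, -, rfl⟩
      exact x.2

/-- pronormal via a normal subgroup -/
theorem pronormal_of_normal {A : Subgroup G} [A.Normal] {H : Subgroup G}
    (h1 : IsPronormal (H ⊔ A)) (h2 : PrIn H (Subgroup.normalizer ((H ⊔ A : Subgroup G) : Set G))) :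
    IsPronormal H := by
  intro g
  rw [← cj_def]
  obtain ⟨x, hx, hxe⟩ := h1 g
  rw [← cj_def, ← cj_def] at hxe
  have hx' : x ∈ (H ⊔ cj g H) ⊔ A := by
    refine (?_ : (H ⊔ A) ⊔ cj g (H ⊔ A) ≤ _) hx
    rw [cj_sup, cj_of_normal g A]
    refine sup_le (sup_le_sup_right le_sup_left _) (sup_le_sup_right le_sup_right _)
  obtain ⟨y, hy, a, ha, rfl⟩ := Subgroup.mem_sup_of_normal_right.1 hx'
  have e1 : cj (y * a) (H ⊔ A) = cj y (H ⊔ A) := by
    rw [← cj_cj, cj_eq_of_mem ((le_sup_right : A ≤ H ⊔ A) ha)]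
  rw [e1] at hxe
  have h3 : y⁻¹ * g ∈ Subgroup.normalizer ((H ⊔ A : Subgroup G) : Set G) := by
    rw [mem_normalizer_iff_cj, ← cj_cj, hxe, cj_inv_cj]
  obtain ⟨z, hz, hze⟩ := h2 _ h3
  refine ⟨y * z, ?_, ?_⟩
  · refine Subgroup.mul_mem _ hy ?_
    refine (?_ : H ⊔ cj (y⁻¹ * g) H ≤ _) hz
    refine sup_le le_sup_left ?_
    rw [← cj_cj]
    calc cj y⁻¹ (cj g H) ≤ cj y⁻¹ (H ⊔ cj g H) := cj_mono le_sup_right
      _ = _ := cj_eq_of_mem (Subgroup.inv_mem _ hy)
  · rw [← cj_def, ← cj_cj, ← hze, cj_cj]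
    congr 1
    group

/-- conjugacy of Sylow subgroups inside a subgroup -/
theorem syl_conj {p : ℕ} [Fact p.Prime] [Finite G] {T T' B : Subgroup G} (h : CfsgLib.H7Hall.IsSyl p T B)
    (hT' : T' ≤ B) (hc : Nat.card T' = Nat.card T) : ∃ b ∈ B, cj b T' = T := by
  obtain ⟨P, hP⟩ := h.exists_sylow
  have hTc : Nat.card (T'.subgroupOf B) = Nat.card (P : Subgroup B) := by
    rw [hP, Nat.card_congr (Subgroup.subgroupOfEquivOfLe hT').toEquiv,
      Nat.card_congr (Subgroup.subgroupOfEquivOfLe h.1).toEquiv, hc]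
  obtain ⟨b, hb⟩ := MulAction.exists_smul_eq B
    (Sylow.ofCard (T'.subgroupOf B) (by rw [hTc, P.card_eq_multiplicity])) P
  refine ⟨b, b.2, ?_⟩
  have e0 : ((b • Sylow.ofCard (T'.subgroupOf B) (by rw [hTc, P.card_eq_multiplicity]) : Sylow p B) :
      Subgroup B) = cj b (T'.subgroupOf B) := rfl
  have h1 : (cj b (T'.subgroupOf B)).map B.subtype = (T.subgroupOf B).map B.subtype := by
    rw [← e0, hb, hP]
  rw [map_cj, Subgroup.map_subgroupOf_eq_of_le hT', Subgroup.map_subgroupOf_eq_of_le h.1] at h1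
  exact h1

/-- Frattini argument -/
theorem frattini {p : ℕ} [Fact p.Prime] [Finite G] {T B H : Subgroup G} (h : CfsgLib.H7Hall.IsSyl p T B)
    (hBH : ∀ x ∈ H, cj x B = B) (hB : B ≤ H) : H = B ⊔ (H ⊓ Subgroup.normalizer (T : Set G)) := by
  apply le_antisymm
  · intro x hx
    have h1 : cj x T ≤ B := by
      rw [← hBH x hx]; exact cj_mono h.1
    obtain ⟨b, hb, hbe⟩ := syl_conj h h1 (card_cj x T)
    have h2 : b * x ∈ Subgroup.normalizer (T : Set G) := by
      rw [mem_normalizer_iff_cj, ← cj_cj, hbe]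
    have h3 : x = b⁻¹ * (b * x) := by group
    rw [h3]
    exact Subgroup.mul_mem _ (Subgroup.mem_sup_left (B.inv_mem hb))
      (Subgroup.mem_sup_right ⟨H.mul_mem (hB hb) hx, h2⟩)
  · exact sup_le hB inf_le_left

/-- The main step. -/
theorem main_step {p : ℕ} [Fact p.Prime] [Finite G] {A T H : Subgroup G} [A.Normal]
    (hT : CfsgLib.H7Hall.IsSyl p T A) (hTH : T ≤ H) (hA : PrIn (H ⊓ A) A)
    (hN : PrIn (H ⊓ Subgroup.normalizer (T : Set G)) (Subgroup.normalizer (T : Set G))) :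
    PrIn H A := by
  intro a ha
  obtain ⟨x, hx, hxe⟩ := hA a ha
  set B := H ⊓ A with hB
  have hxA : x ∈ A := by
    refine (?_ : B ⊔ cj a B ≤ A) hx
    refine sup_le inf_le_right ?_
    have := cj_mono (g := a) (inf_le_right : B ≤ A)
    rwa [cj_of_normal a A] at this
  have hxJ : x ∈ H ⊔ cj a H := (sup_le_sup inf_le_left (cj_mono inf_le_left)) hx
  have hTB : CfsgLib.H7Hall.IsSyl p T B := by
    refine ⟨le_inf hTH hT.1, hT.2.1, fun h => hT.2.2 ?_⟩
    rw [← Subgroup.relIndex_mul_relIndex T B A (le_inf hTH hT.1) inf_le_right]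
    exact h.mul_right _
  have ha1 : cj (x⁻¹ * a) B = B := by rw [← cj_cj, hxe, cj_inv_cj]
  obtain ⟨b, hb, hbe⟩ := syl_conj hTB (T' := cj (x⁻¹ * a) T) (by
    rw [← ha1]; exact cj_mono hTB.1) (card_cj _ _)
  have hHa1 : cj b (cj (x⁻¹ * a) H) = cj (x⁻¹ * a) H := by
    apply cj_eq_of_mem
    have : B ≤ cj (x⁻¹ * a) H := by
      conv_lhs => rw [← ha1]
      exact cj_mono inf_le_left
    exact this hb
  have ha2 : b * (x⁻¹ * a) ∈ Subgroup.normalizer (T : Set G) := by
    rw [mem_normalizer_iff_cj, ← cj_cj, hbe]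
  have hBH : ∀ h ∈ H, cj h B = B := by
    intro h hh
    rw [hB, cj_inf, cj_eq_of_mem hh, cj_of_normal h A]
  have hfr := frattini hTB hBH inf_le_left
  set L := H ⊓ Subgroup.normalizer (T : Set G) with hL
  obtain ⟨y, hy, hye⟩ := hN _ ha2
  have hJ' : cj (x⁻¹ * a) H ≤ H ⊔ cj a H := by
    rw [← cj_cj]
    calc cj x⁻¹ (cj a H) ≤ cj x⁻¹ (H ⊔ cj a H) := cj_mono le_sup_right
      _ = _ := cj_eq_of_mem (Subgroup.inv_mem _ hxJ)
  have hyN : cj y B = B := by
    have h1 : L ⊔ cj (b * (x⁻¹ * a)) L ≤ Subgroup.normalizer (B : Set G) := by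
      refine sup_le ?_ ?_
      · intro z hz
        rw [mem_normalizer_iff_cj]
        exact hBH z hz.1
      · rw [← mem_normalizer_iff_cj] at ha1
        have h2 : b * (x⁻¹ * a) ∈ Subgroup.normalizer (B : Set G) :=
          Subgroup.mul_mem _ (Subgroup.le_normalizer hb) ha1
        have h3 : L ≤ Subgroup.normalizer (B : Set G) := by
          intro z hz
          rw [mem_normalizer_iff_cj]
          exact hBH z hz.1
        calc cj (b * (x⁻¹ * a)) L ≤ cj (b * (x⁻¹ * a)) (Subgroup.normalizer (B : Set G)) := cj_mono h3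
          _ = _ := cj_eq_of_mem h2
    have := h1 hy
    rwa [mem_normalizer_iff_cj] at this
  have hbB : cj b B = B := cj_eq_of_mem hb
  have e1 : cj (b * (x⁻¹ * a)) H = cj y H := by
    conv_lhs => rw [hfr, cj_sup, ← cj_cj b, ha1, hbB]
    conv_rhs => rw [hfr, cj_sup, hyN]
    rw [hye]
  have e2 : cj (x⁻¹ * a) H = cj y H := by
    rw [← hHa1, cj_cj, e1]
  refine ⟨x * y, ?_, ?_⟩
  · refine Subgroup.mul_mem _ hxJ ?_
    refine (?_ : L ⊔ cj (b * (x⁻¹ * a)) L ≤ _) hy
    refine sup_le (inf_le_left.trans le_sup_left) ?_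
    refine le_trans ?_ hJ'
    rw [← hHa1, cj_cj]
    exact cj_mono inf_le_left
  · rw [← cj_cj, ← e2, ← cj_cj, cj_cj_inv]

theorem isSyl_top {p : ℕ} [Fact p.Prime] [Finite G] {A T : Subgroup G}
    (hT : ∃ P : Sylow p A, (P : Subgroup A).map A.subtype = T) : CfsgLib.H7Hall.IsSyl p T A := by
  obtain ⟨P, rfl⟩ := hT
  refine ⟨?_, P.isPGroup'.map _, ?_⟩
  · rintro _ ⟨x, -, rfl⟩
    exact x.2
  · intro h
    have e : ((P : Subgroup A).map A.subtype).relIndex A = (P : Subgroup A).index := by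
      rw [Subgroup.relIndex, Subgroup.subgroupOf, Subgroup.comap_map_eq_self_of_injective A.subtype_injective]
    rw [e] at h
    exact P.not_dvd_index h

theorem card_isSyl {p : ℕ} [Fact p.Prime] [Finite G] {A T S : Subgroup G} (h : CfsgLib.H7Hall.IsSyl p T A)
    (h' : CfsgLib.H7Hall.IsSyl p S A) : Nat.card S = Nat.card T := by
  obtain ⟨P, hP⟩ := h.exists_sylow
  obtain ⟨Q, hQ⟩ := h'.exists_sylow
  rw [← Nat.card_congr (Subgroup.subgroupOfEquivOfLe h.1).toEquiv,
    ← Nat.card_congr (Subgroup.subgroupOfEquivOfLe h'.1).toEquiv, ← hP, ← hQ]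
  rw [P.card_eq_multiplicity, Q.card_eq_multiplicity]

/-- `H` contains a Sylow subgroup of `G` normalizing `T`. -/
theorem exists_sylow_le_inf {p : ℕ} [Fact p.Prime] [Finite G] {A T H : Subgroup G} [A.Normal]
    (hT : CfsgLib.H7Hall.IsSyl p T A) (hTH : T ≤ H) (hS : ∃ S : Sylow p G, (S : Subgroup G) ≤ H) :
    ∃ S : Sylow p G, (S : Subgroup G) ≤ H ⊓ Subgroup.normalizer (T : Set G) := by
  obtain ⟨S, hS⟩ := hS
  have h1 := CfsgLib.H7Hall.isSyl_inf S A
  have hTB : CfsgLib.H7Hall.IsSyl p T (H ⊓ A) := by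
    refine ⟨le_inf hTH hT.1, hT.2.1, fun h => hT.2.2 ?_⟩
    rw [← Subgroup.relIndex_mul_relIndex T (H ⊓ A) A (le_inf hTH hT.1) inf_le_right]
    exact h.mul_right _
  obtain ⟨b, hb, hbe⟩ := syl_conj hTB (T' := (S : Subgroup G) ⊓ A) (inf_le_inf_right A hS) (card_isSyl hT h1)
  refine ⟨b • S, ?_⟩
  have e : ((b • S : Sylow p G) : Subgroup G) = cj b S := rfl
  rw [e]
  refine le_inf ?_ ?_
  · have := cj_mono (g := b) hS
    rwa [cj_eq_of_mem hb.1] at this
  · have h2 : (S : Subgroup G) ≤ Subgroup.normalizer (((S : Subgroup G) ⊓ A : Subgroup G) : Set G) := by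
      intro s hs
      rw [mem_normalizer_iff_cj, cj_inf, cj_eq_of_mem hs, cj_of_normal s A]
    have := cj_mono (g := b) h2
    rwa [cj_normalizer, hbe] at this

/-- using the hypothesis on `N(T)/T`. -/
theorem prIn_normalizer {p : ℕ} [Fact p.Prime] [Finite G] {A T H : Subgroup G} [A.Normal]
    [(T.subgroupOf (Subgroup.normalizer (T : Set G))).Normal]
    (hT : CfsgLib.H7Hall.IsSyl p T A) (hTH : T ≤ H) (hS : ∃ S : Sylow p G, (S : Subgroup G) ≤ H)
    (hNT : ∀ K : Subgroup (↥(Subgroup.normalizer (T : Set G)) ⧸ T.subgroupOf (Subgroup.normalizer (T : Set G))),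
      (∃ P : Sylow p (↥(Subgroup.normalizer (T : Set G)) ⧸ T.subgroupOf (Subgroup.normalizer (T : Set G))),
        (P : Subgroup (↥(Subgroup.normalizer (T : Set G)) ⧸ T.subgroupOf (Subgroup.normalizer (T : Set G)))) ≤ K) →
      Cfsg.IsPronormal K) :
    PrIn (H ⊓ Subgroup.normalizer (T : Set G)) (Subgroup.normalizer (T : Set G)) := by
  obtain ⟨S, hS⟩ := exists_sylow_le_inf hT hTH hS
  set N := Subgroup.normalizer (T : Set G) with hN
  set L := H ⊓ N with hL
  have h1 : ¬ p ∣ L.index := fun h => S.not_dvd_index (h.trans (Subgroup.index_dvd_of_le hS))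
  have h2 : ¬ p ∣ (L.subgroupOf N).index := by
    intro h
    apply h1
    rw [← Subgroup.relIndex_mul_index (inf_le_right : L ≤ N)]
    exact Dvd.dvd.mul_right h _
  have h3 : ¬ p ∣ ((L.subgroupOf N).map (QuotientGroup.mk' (T.subgroupOf N))).index := by
    intro h
    exact h2 (h.trans (Subgroup.index_map_dvd _ (QuotientGroup.mk'_surjective _)))
  have h4 := hNT _ ((exists_sylow_le_iff _).2 h3)
  rw [pronormal_quotient] at h4
  · exact (pronormal_subgroupOf inf_le_right).1 h4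
  · exact Subgroup.comap_mono (le_inf hTH Subgroup.le_normalizer)

/-- the implication (2) → (1). -/
theorem two_to_one {p : ℕ} [Fact p.Prime] [Finite G] (A : Subgroup G) [A.Normal]
    (hA : (∀ K : Subgroup ↥A, (∃ P : Sylow p ↥A, (P : Subgroup ↥A) ≤ K) → Cfsg.IsPronormal K))
    (hQ : (∀ K : Subgroup (G ⧸ A), (∃ P : Sylow p (G ⧸ A), (P : Subgroup (G ⧸ A)) ≤ K) → Cfsg.IsPronormal K))
    (T : Subgroup G) (hT : ∃ P : Sylow p ↥A, (P : Subgroup ↥A).map A.subtype = T)
    [(T.subgroupOf (Subgroup.normalizer (T : Set G))).Normal]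
    (hNT : ∀ K : Subgroup (↥(Subgroup.normalizer (T : Set G)) ⧸ T.subgroupOf (Subgroup.normalizer (T : Set G))),
      (∃ P : Sylow p (↥(Subgroup.normalizer (T : Set G)) ⧸ T.subgroupOf (Subgroup.normalizer (T : Set G))),
        (P : Subgroup (↥(Subgroup.normalizer (T : Set G)) ⧸ T.subgroupOf (Subgroup.normalizer (T : Set G)))) ≤ K) →
      Cfsg.IsPronormal K)
    (hii : ∀ K : Subgroup G, (∃ P : Sylow p G, (P : Subgroup G) ≤ K) →
          (Subgroup.normalizer (K : Set G)).map (QuotientGroup.mk' A) =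
            Subgroup.normalizer ((K.map (QuotientGroup.mk' A) : Subgroup (G ⧸ A)) : Set (G ⧸ A))) :
    ∀ K : Subgroup G, (∃ P : Sylow p G, (P : Subgroup G) ≤ K) → Cfsg.IsPronormal K := by
  -- first when `T ≤ K`
  have key : ∀ K : Subgroup G, T ≤ K → (∃ P : Sylow p G, (P : Subgroup G) ≤ K) → Cfsg.IsPronormal K := by
    intro H hTH hS
    have hSi := (exists_sylow_le_iff H).1 hS
    have hsy := isSyl_top hT
    refine pronormal_of_normal (A := A) ?_ ?_
    · rw [← pronormal_quotient (N := A) le_sup_right]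
      apply hQ
      rw [exists_sylow_le_iff]
      intro h
      have h2 := h.trans (Subgroup.index_map_dvd _ (QuotientGroup.mk'_surjective A))
      exact hSi (h2.trans (Subgroup.index_dvd_of_le le_sup_left))
    · intro g hg
      have hPA : PrIn H A := by
        refine main_step hsy hTH ?_ (prIn_normalizer hsy hTH hS hNT)
        rw [← pronormal_subgroupOf inf_le_right]
        apply hA
        obtain ⟨P, hP⟩ := hT
        refine ⟨P, ?_⟩
        intro x hx
        rw [Subgroup.mem_subgroupOf]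
        refine ⟨hTH ?_, x.2⟩
        rw [← hP]
        exact ⟨x, hx, rfl⟩
      have h1 : QuotientGroup.mk' A g ∈ Subgroup.normalizer ((H.map (QuotientGroup.mk' A) : Subgroup (G ⧸ A)) : Set (G ⧸ A)) := by
        rw [mem_normalizer_iff_cj]
        have e : H.map (QuotientGroup.mk' A) = (H ⊔ A).map (QuotientGroup.mk' A) := by
          rw [Subgroup.map_sup]
          have : A.map (QuotientGroup.mk' A) = ⊥ := by
            rw [Subgroup.map_eq_bot_iff, QuotientGroup.ker_mk']
          rw [this, sup_bot_eq]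
        rw [e, ← map_cj, mem_normalizer_iff_cj.1 hg]
      rw [← hii H hS] at h1
      obtain ⟨n, hn, hne⟩ := h1
      have ha : g * n⁻¹ ∈ A := by
        have : QuotientGroup.mk' A (g * n⁻¹) = 1 := by rw [map_mul, map_inv, hne, mul_inv_cancel]
        rwa [QuotientGroup.mk'_apply, QuotientGroup.eq_one_iff] at this
      have e : cj g H = cj (g * n⁻¹) H := by
        rw [← cj_cj, mem_normalizer_iff_cj.1 (Subgroup.inv_mem _ hn)]
      rw [e]
      exact hPA _ ha
  intro H hS
  obtain ⟨S, hS⟩ := hS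
  have hsy := isSyl_top hT
  obtain ⟨c, hc, hce⟩ := syl_conj hsy (T' := (S : Subgroup G) ⊓ A) inf_le_right
    (card_isSyl hsy (CfsgLib.H7Hall.isSyl_inf S A))
  have h1 : IsPronormal (cj c H) := by
    refine key _ ?_ ⟨c • S, cj_mono hS⟩
    rw [← hce]
    exact cj_mono (inf_le_left.trans hS)
  have := pronormal_cj c⁻¹ h1
  rwa [cj_inv_cj] at this

/-- part (i) of (1) → (2). -/
theorem one_to_i {p : ℕ} [Fact p.Prime] [Finite G] (A : Subgroup G) [A.Normal]
    (T : Subgroup G) (hT : ∃ P : Sylow p ↥A, (P : Subgroup ↥A).map A.subtype = T)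
    [(T.subgroupOf (Subgroup.normalizer (T : Set G))).Normal]
    (h1 : ∀ K : Subgroup G, (∃ P : Sylow p G, (P : Subgroup G) ≤ K) → Cfsg.IsPronormal K) :
    ∀ K : Subgroup (↥(Subgroup.normalizer (T : Set G)) ⧸ T.subgroupOf (Subgroup.normalizer (T : Set G))),
      (∃ P : Sylow p (↥(Subgroup.normalizer (T : Set G)) ⧸ T.subgroupOf (Subgroup.normalizer (T : Set G))),
        (P : Subgroup (↥(Subgroup.normalizer (T : Set G)) ⧸ T.subgroupOf (Subgroup.normalizer (T : Set G)))) ≤ K) →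
      Cfsg.IsPronormal K := by
  intro K hK
  rw [exists_sylow_le_iff] at hK
  set N := Subgroup.normalizer (T : Set G) with hN
  have hsy := isSyl_top hT
  obtain ⟨S, hS⟩ := exists_sylow_le_inf (H := ⊤) hsy le_top
    ⟨(Classical.arbitrary (Sylow p G)), le_top⟩
  rw [top_inf_eq] at hS
  have hNi : ¬ p ∣ N.index := fun h => S.not_dvd_index (h.trans (Subgroup.index_dvd_of_le hS))
  have hidx : (K.comap (QuotientGroup.mk' (T.subgroupOf N))).index = K.index :=
    Subgroup.index_comap_of_surjective K (QuotientGroup.mk'_surjective _)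
  set H := (K.comap (QuotientGroup.mk' (T.subgroupOf N))).map N.subtype with hH
  have hHi : ¬ p ∣ H.index := by
    rw [hH, Subgroup.index_map_subtype, (Fact.out : p.Prime).dvd_mul, not_or, hidx]
    exact ⟨hK, hNi⟩
  have h2 := h1 H ((exists_sylow_le_iff _).2 hHi)
  have hHN : H ≤ N := by
    rintro _ ⟨x, -, rfl⟩
    exact x.2
  have h3 : IsPronormal (H.subgroupOf N) := (pronormal_subgroupOf hHN).2 ((prIn_top.2 h2).mono le_top)
  have e : H.subgroupOf N = K.comap (QuotientGroup.mk' (T.subgroupOf N)) := by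
    rw [hH, Subgroup.subgroupOf, Subgroup.comap_map_eq_self_of_injective N.subtype_injective]
  rw [e] at h3
  have h4 := pronormal_map_quotient (N := T.subgroupOf N) h3
  rwa [Subgroup.map_comap_eq_self_of_surjective (QuotientGroup.mk'_surjective _)] at h4

/-- part (ii) of (1) → (2). -/
theorem one_to_ii (A : Subgroup G) [A.Normal] {K : Subgroup G} (h : IsPronormal K) :
    (Subgroup.normalizer (K : Set G)).map (QuotientGroup.mk' A) =
            Subgroup.normalizer ((K.map (QuotientGroup.mk' A) : Subgroup (G ⧸ A)) : Set (G ⧸ A)) := by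
  apply le_antisymm
  · rintro _ ⟨n, hn, rfl⟩
    rw [mem_normalizer_iff_cj, ← map_cj, mem_normalizer_iff_cj.1 hn]
  · intro x hx
    obtain ⟨g, rfl⟩ := QuotientGroup.mk'_surjective A x
    rw [mem_normalizer_iff_cj, ← map_cj] at hx
    have h1 : cj g K ≤ K ⊔ A := by
      have : cj g K ≤ ((cj g K).map (QuotientGroup.mk' A)).comap (QuotientGroup.mk' A) :=
        Subgroup.le_comap_map _ _
      rw [hx, Subgroup.comap_map_eq, QuotientGroup.ker_mk'] at this
      exact this
    obtain ⟨x, hx, hxe⟩ := h g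
    rw [← cj_def, ← cj_def] at hxe
    have hx' : x ∈ A ⊔ K := by
      refine (?_ : K ⊔ cj g K ≤ _) hx
      rw [sup_comm A K]
      exact sup_le le_sup_left h1
    obtain ⟨a, ha, k, hk, rfl⟩ := Subgroup.mem_sup_of_normal_left.1 hx'
    have e1 : cj g K = cj a K := by rw [hxe, ← cj_cj, cj_eq_of_mem hk]
    refine ⟨a⁻¹ * g, ?_, ?_⟩
    · rw [SetLike.mem_coe, mem_normalizer_iff_cj, ← cj_cj, e1, cj_inv_cj]
    · rw [map_mul, map_inv]
      have : QuotientGroup.mk' A a = 1 := (QuotientGroup.eq_one_iff a).2 ha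
      rw [this, inv_one, one_mul]

/-- self-normalizing Sylow subgroups. -/
theorem pronormal_of_selfnorm {p : ℕ} [Fact p.Prime] [Finite G]
    (h : ∀ P : Sylow p G, Subgroup.normalizer ((P : Subgroup G) : Set G) = P)
    (K : Subgroup G) (hK : ∃ P : Sylow p G, (P : Subgroup G) ≤ K) : IsPronormal K := by
  obtain ⟨P, hP⟩ := hK
  intro g
  rw [← cj_def]
  have h1 : CfsgLib.H7Hall.IsSyl p (P : Subgroup G) (K ⊔ cj g K) :=
    CfsgLib.H7Hall.isSyl_of_sylow P (hP.trans le_sup_left)
  obtain ⟨b, hb, hbe⟩ := syl_conj h1 (T' := cj g P) ((cj_mono hP).trans le_sup_right) (card_cj _ _)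
  have h2 : b * g ∈ Subgroup.normalizer ((P : Subgroup G) : Set G) := by
    rw [mem_normalizer_iff_cj, ← cj_cj, hbe]
  rw [h P] at h2
  refine ⟨b⁻¹, Subgroup.inv_mem _ hb, ?_⟩
  have h3 : cj (b * g) K = K := cj_eq_of_mem (hP h2)
  rw [← cj_def]
  conv_rhs => rw [← h3, cj_cj]
  congr 1
  group

theorem normalizer_eq_of_selfnorm {p : ℕ} [Fact p.Prime] [Finite G]
    (h : ∀ P : Sylow p G, Subgroup.normalizer ((P : Subgroup G) : Set G) = P)
    (K : Subgroup G) (hK : ∃ P : Sylow p G, (P : Subgroup G) ≤ K) :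
    Subgroup.normalizer (K : Set G) = K := by
  obtain ⟨P, hP⟩ := hK
  apply le_antisymm _ Subgroup.le_normalizer
  intro x hx
  have h1 : CfsgLib.H7Hall.IsSyl p (P : Subgroup G) K := CfsgLib.H7Hall.isSyl_of_sylow P hP
  obtain ⟨b, hb, hbe⟩ := syl_conj h1 (T' := cj x P) (by
    have := cj_mono (g := x) hP
    rwa [mem_normalizer_iff_cj.1 hx] at this) (card_cj _ _)
  have h2 : b * x ∈ Subgroup.normalizer ((P : Subgroup G) : Set G) := by
    rw [mem_normalizer_iff_cj, ← cj_cj, hbe]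
  rw [h P] at h2
  have h3 := K.mul_mem (K.inv_mem hb) (hP h2)
  simpa using h3

end CfsgLib.H7Pron
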