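import Mathlib
import Cfsg.Agent.LibH7Term1
import Cfsg.Agent.LibH7Bal11

set_option autoImplicit false

/-! p-terminal versus terminal components. -/

namespace CfsgLib.H7Term

open Subgroup Cfsg CfsgLib.Comp CfsgLib.PComp CfsgLib.H7Bal
open scoped commutatorElement

universe u
variable {G : Type u} [Group G]

theorem comp_of_commute [Finite G] {p : ℕ} {K : Subgroup G} (hK : IsPComponent p K)
    (h : ⁅K, pPrimeCore p G⁆ = ⊥) : IsComponent K := by
  refine ⟨hK.1, (pcomp_quasisimple_iff hK).2 ((commutator_map_subtype_eq_bot_iff _).1 ?_)⟩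
  rw [CfsgLib.Comp3.map_pPrimeCore_of_subnormal p hK.1, eq_bot_iff, ← h]
  exact commutator_mono le_rfl inf_le_left

theorem pcomp_eq_of_card [Finite G] {p : ℕ} [Fact p.Prime] {K J : Subgroup G}
    (hJ : IsPComponent p J) (hKJ : K ≤ J) (hc : ⁅K, pPrimeCore p G⁆ = ⊥)
    (hcard : (pPrimeCore p J).index = (pPrimeCore p K).index) : K = J := by
  have h1 : Nat.card (J.map (QuotientGroup.mk' (pPrimeCore p G))) = (pPrimeCore p J).index := by
    rw [← relIndex_ker, QuotientGroup.ker_mk', relIndex]
    congr 1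
    have h := CfsgLib.Comp3.map_pPrimeCore_of_subnormal p hJ.1
    have h' := congrArg (Subgroup.comap J.subtype) h
    rw [comap_map_eq_self_of_injective J.subtype_injective] at h'
    rw [h']
    ext x
    simp [mem_subgroupOf]
  have h2 : (pPrimeCore p K).index ≤ Nat.card (K.map (QuotientGroup.mk' (pPrimeCore p G))) := by
    rw [← relIndex_ker, QuotientGroup.ker_mk', relIndex]
    have hle : (pPrimeCore p G).subgroupOf K ≤ pPrimeCore p K := by
      apply CfsgLib.Cores.le_pPrimeCore inferInstance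
      exact Nat.Coprime.coprime_dvd_left
        (Subgroup.card_comap_dvd_of_injective _ K.subtype K.subtype_injective)
        (CfsgLib.Cores.pPrimeCore_coprime p)
    exact Nat.le_of_dvd (Nat.pos_of_ne_zero index_ne_zero_of_finite) (index_dvd_of_le hle)
  have h3 : K.map (QuotientGroup.mk' (pPrimeCore p G)) = J.map (QuotientGroup.mk' (pPrimeCore p G)) :=
    eq_of_le_of_card_ge (map_mono hKJ) (by rw [h1, hcard]; exact h2)
  have h4 := (map_eq_iff_sup_ker (QuotientGroup.mk' (pPrimeCore p G)) K J).1 h3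
  rw [QuotientGroup.ker_mk'] at h4
  have h5 : J ≤ normalizer (K : Set G) := by
    refine le_sup_left.trans (h4.symm.le.trans (sup_le le_normalizer ?_))
    apply commute_le_normalizer
    rw [commutator_comm]; exact hc
  have h6 : (K.subgroupOf J).Normal := (normal_subgroupOf_iff_le_normalizer hKJ).2 h5
  have h7 : ((K.subgroupOf J).map J.subtype).IsSubnormal := h6.isSubnormal.trans' hJ.1
  rw [subgroupOf_map_subtype, inf_eq_left.2 hKJ] at h7
  exact hJ.2.2 K h7 hKJ h3

theorem pcompOf_conj {p : ℕ} {K C : Subgroup G} (hK : IsPComponentOf p K C) (g : G) :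
    IsPComponentOf p (K.map (MulAut.conj g).toMonoidHom) (C.map (MulAut.conj g).toMonoidHom) := by
  refine ⟨map_mono hK.1, ?_⟩
  have h := pcomp_map_equiv ((MulAut.conj g).subgroupMap C) hK.2
  have h2 : (K.subgroupOf C).map ((MulAut.conj g).subgroupMap C).toMonoidHom =
      (K.map (MulAut.conj g).toMonoidHom).subgroupOf (C.map (MulAut.conj g).toMonoidHom) := by
    ext x
    constructor
    · rintro ⟨y, hy, rfl⟩
      exact ⟨y, hy, rfl⟩
    · intro hx
      obtain ⟨y, hy, hyx⟩ := mem_subgroupOf.1 hx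
      exact ⟨⟨y, hK.1 hy⟩, mem_subgroupOf.2 hy, Subtype.ext hyx⟩
  rw [← h2]; exact h

theorem map_centralizer_conj (x g : G) :
    (centralizer ({x} : Set G)).map (MulAut.conj g).toMonoidHom =
      centralizer ({g * x * g⁻¹} : Set G) := by
  ext y
  rw [mem_centralizer_singleton_iff]
  constructor
  · rintro ⟨z, hz, rfl⟩
    have := mem_centralizer_singleton_iff.1 hz
    simp only [MulEquiv.coe_toMonoidHom, MulAut.conj_apply]
    calc g * z * g⁻¹ * (g * x * g⁻¹) = g * (z * x) * g⁻¹ := by group
      _ = g * (x * z) * g⁻¹ := by rw [this]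
      _ = _ := by group
  · intro h
    refine ⟨g⁻¹ * y * g, ?_, by simp [mul_assoc]⟩
    rw [SetLike.mem_coe, mem_centralizer_singleton_iff]
    calc g⁻¹ * y * g * x = g⁻¹ * (y * (g * x * g⁻¹)) * g := by group
      _ = g⁻¹ * ((g * x * g⁻¹) * y) * g := by rw [h]
      _ = _ := by group

/-- `K` as a subgroup of `C`: commutator with the core. -/
theorem commutator_core_iff {p : ℕ} {x : G} {K : Subgroup G} (hK : K ≤ centralizer ({x} : Set G)) :
    ⁅K, centralizerPPrimeCore p x⁆ = ⊥ ↔
      ⁅K.subgroupOf (centralizer ({x} : Set G)), pPrimeCore p ↥(centralizer ({x} : Set G))⁆ = ⊥ := by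
  rw [← Subgroup.map_eq_bot_iff_of_injective _ (centralizer ({x} : Set G)).subtype_injective,
    map_commutator, subgroupOf_map_subtype, inf_eq_left.2 hK]
  rfl

theorem core_commute_of_component [Finite G] {p : ℕ} (hp : p.Prime) {x : G} {K : Subgroup G}
    (hK : IsComponentOf K (centralizer ({x} : Set G))) (hpK : p ∣ Nat.card K) :
    ⁅K, centralizerPPrimeCore p x⁆ = ⊥ := by
  rw [commutator_core_iff hK.1]
  rcases component_le_or_commute hK.2
    (inferInstance : (pPrimeCore p ↥(centralizer ({x} : Set G))).Normal).isSubnormal with h | h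
  · exfalso
    have h1 : Nat.card (K.subgroupOf (centralizer ({x} : Set G))) = Nat.card K :=
      Nat.card_congr (subgroupOfEquivOfLe hK.1).toEquiv
    have h2 : p ∣ Nat.card (pPrimeCore p ↥(centralizer ({x} : Set G))) :=
      (h1 ▸ hpK : p ∣ _).trans (card_dvd_of_le h)
    have h3 := CfsgLib.Cores.pPrimeCore_coprime (G := ↥(centralizer ({x} : Set G))) p
    exact hp.one_lt.ne' (Nat.eq_one_of_dvd_coprimes h3 h2 dvd_rfl)
  · exact h

theorem perfect_of_pcompOf {p : ℕ} {K C : Subgroup G} (hK : IsPComponentOf p K C) :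
    ⁅K, K⁆ = K := by
  have h1 := pcomp_commutator_eq hK.2
  have h2 := congrArg (Subgroup.map C.subtype) h1
  rwa [map_commutator, subgroupOf_map_subtype, inf_eq_left.2 hK.1] at h2

theorem cpc_eq [Finite G] {p : ℕ} {x : G} {K : Subgroup G}
    (hK : IsPComponentOf p K (centralizer ({x} : Set G)))
    (hc : ⁅K, centralizerPPrimeCore p x⁆ = ⊥) :
    centralizerOfPComponent p x K = centralizer (K : Set G) ⊓ centralizer ({x} : Set G) := by
  apply le_antisymm
  · apply le_inf
    · have h1 : ⁅K, centralizerOfPComponent p x K⁆ ≤ centralizerPPrimeCore p x := by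
        rw [commutator_comm, commutator_le]
        intro d hd k hk
        exact ((mem_cpc hK.1).1 hd).2 k hk
      have h2 : ⁅⁅K, centralizerOfPComponent p x K⁆, K⁆ = ⊥ := by
        rw [eq_bot_iff, ← hc, commutator_comm ⁅K, centralizerOfPComponent p x K⁆ K]
        exact commutator_mono le_rfl h1
      have h3 := commutator_eq_bot_of_perfect' (perfect_of_pcompOf hK) h2
      rw [commutator_comm, commutator_eq_bot_iff_le_centralizer] at h3
      exact h3
    · intro d hd
      exact ((mem_cpc hK.1).1 hd).1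
  · rintro d ⟨h1, h2⟩
    rw [mem_cpc hK.1]
    refine ⟨h2, fun k hk => ?_⟩
    have h3 : d * k * d⁻¹ * k⁻¹ = 1 := by
      rw [mul_inv_eq_one, mul_inv_eq_iff_eq_mul]
      exact (mem_centralizer_iff.1 h1 k hk).symm
    rw [h3]; exact one_mem _

theorem exists_central_order [Finite G] {p : ℕ} (hp : p.Prime) {P : Subgroup G} (hP : IsPGroup p P)
    [Nontrivial P] : ∃ z ∈ P, (∀ y ∈ P, y * z = z * y) ∧ orderOf z = p := by
  haveI : Fact p.Prime := ⟨hp⟩
  haveI := hP.center_nontrivial
  have h1 : p ∣ Nat.card (center P) := by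
    rcases (hP.to_subgroup (center P)).card_eq_or_dvd with h | h
    · exact absurd h Finite.one_lt_card.ne'
    · exact h
  obtain ⟨z, hz⟩ := exists_prime_orderOf_dvd_card' p h1
  refine ⟨((z : P) : G), (z : P).2, fun y hy => ?_, ?_⟩
  · exact congrArg Subtype.val (mem_center_iff.1 z.2 ⟨y, hy⟩)
  · rw [Subgroup.orderOf_coe, Subgroup.orderOf_coe, hz]

theorem s2018_back [Finite G] {p : ℕ} (hp : p.Prime) {x : G} {K : Subgroup G}
    (hT : IsPTerminal p x K)
    (h : ∀ y ∈ centralizer (K : Set G), orderOf y = p → ⁅K, centralizerPPrimeCore p y⁆ = ⊥) :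
    IsTerminalPair p x K := by
  haveI : Fact p.Prime := ⟨hp⟩
  obtain ⟨hx, hK, hi, hii⟩ := hT
  have hxH : x ∈ centralizer (K : Set G) := by
    rw [mem_centralizer_iff]
    intro k hk
    exact mem_centralizer_singleton_iff.1 (hK.1 hk)
  have hDx := cpc_eq hK (h x hxH hx)
  -- step 1
  have step1 : ∀ y ∈ centralizer (K : Set G), y ∈ centralizer ({x} : Set G) → orderOf y = p →
      IsPComponentOf p K (centralizer ({y} : Set G)) := by
    intro y hy hyx hyp
    have hKy : K ≤ centralizer ({y} : Set G) := by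
      intro k hk
      rw [mem_centralizer_singleton_iff]
      exact mem_centralizer_iff.1 hy k hk
    obtain ⟨J, hJ, hKJ, ⟨e⟩⟩ := hi y (by rw [hDx]; exact ⟨hy, hyx⟩) hyp
    rw [inf_eq_left.2 hKy, pLayerOf_pcomp hK] at hKJ
    have h1 := (commutator_core_iff hKy).1 (h y hy hyp)
    have h2 : (K.subgroupOf (centralizer ({y} : Set G))) = J.subgroupOf (centralizer ({y} : Set G)) := by
      apply pcomp_eq_of_card hJ.2 (fun a ha => hKJ ha) h1
      have e1 : ∀ L : Subgroup G, L ≤ centralizer ({y} : Set G) →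
          (pPrimeCore p ↥(L.subgroupOf (centralizer ({y} : Set G)))).index = (pPrimeCore p L).index := by
        intro L hL
        have := CfsgLib.Cores.map_pPrimeCore_equiv p (subgroupOfEquivOfLe hL)
        rw [← this]
        exact (index_map_equiv _ (subgroupOfEquivOfLe hL)).symm
      rw [e1 J hJ.1, e1 K hKy]
      exact Nat.card_congr e.toEquiv
    have h3 := congrArg (Subgroup.map (centralizer ({y} : Set G)).subtype) h2
    rw [subgroupOf_map_subtype, subgroupOf_map_subtype, inf_eq_left.2 hKy, inf_eq_left.2 hJ.1] at h3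
    rw [h3]; exact hJ
  -- the Sylow argument
  have hxD : x ∈ centralizerOfPComponent p x K := by
    rw [hDx]; exact ⟨hxH, mem_centralizer_singleton_iff.2 rfl⟩
  obtain ⟨Q0, hQ0⟩ := (IsPGroup.of_card (p := p) (n := 1) (G := zpowers (⟨x, hxD⟩ : centralizerOfPComponent p x K))
    (by rw [Nat.card_zpowers, pow_one]; exact (Subgroup.orderOf_mk x hxD).trans hx)).exists_le_sylow
  set Q : Subgroup G := (Q0 : Subgroup ↥(centralizerOfPComponent p x K)).map
    (centralizerOfPComponent p x K).subtype with hQdef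
  have hxQ : x ∈ Q := ⟨⟨x, hxD⟩, hQ0 (mem_zpowers _), rfl⟩
  have hQD : Q ≤ centralizerOfPComponent p x K := map_subtype_le _
  have hQH : Q ≤ centralizer (K : Set G) := hQD.trans (hDx.le.trans inf_le_left)
  have hQp : IsPGroup p Q := Q0.isPGroup'.map _
  -- a Sylow subgroup of H containing Q
  have hQHp : IsPGroup p (Q.subgroupOf (centralizer (K : Set G))) :=
    hQp.of_equiv (subgroupOfEquivOfLe hQH).symm
  obtain ⟨P0, hP0⟩ := hQHp.exists_le_sylow
  set P : Subgroup G := (P0 : Subgroup ↥(centralizer (K : Set G))).map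
    (centralizer (K : Set G)).subtype with hPdef
  have hPH : P ≤ centralizer (K : Set G) := map_subtype_le _
  have hQP : Q ≤ P := by
    intro q hq
    exact ⟨⟨q, hQH hq⟩, hP0 (mem_subgroupOf.2 hq), rfl⟩
  have hPp : IsPGroup p P := P0.isPGroup'.map _
  have hPD : P ⊓ centralizer ({x} : Set G) ≤ Q := by
    have h1 : P ⊓ centralizer ({x} : Set G) ≤ centralizerOfPComponent p x K := by
      rw [hDx]; exact inf_le_inf_right _ hPH
    have h2 : IsPGroup p ((P ⊓ centralizer ({x} : Set G)).subgroupOf (centralizerOfPComponent p x K)) :=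
      (hPp.to_le inf_le_left).of_equiv (subgroupOfEquivOfLe h1).symm
    have h3 := Q0.is_maximal' h2 (by
      intro q hq
      rw [mem_subgroupOf]
      refine ⟨hQP ⟨q, hq, rfl⟩, ?_⟩
      exact (hDx.le.trans inf_le_right) q.2)
    intro y hy
    have : (⟨y, h1 hy⟩ : centralizerOfPComponent p x K) ∈ (Q0 : Subgroup _) := by
      rw [← h3]; exact mem_subgroupOf.2 hy
    exact ⟨_, this, rfl⟩
  have hPQ : P ≤ Q := by
    haveI : Nontrivial P := ⟨⟨⟨x, hQP hxQ⟩, 1, fun h => by
      have := congrArg Subtype.val h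
      change x = 1 at this
      rw [this, orderOf_one] at hx
      exact hp.one_lt.ne hx⟩⟩
    obtain ⟨z, hzP, hzc, hzp⟩ := exists_central_order hp hPp
    have hzx : z ∈ centralizer ({x} : Set G) := by
      rw [mem_centralizer_singleton_iff]
      exact (hzc x (hQP hxQ)).symm
    have hzQ : z ∈ Q := hPD ⟨hzP, hzx⟩
    have hzH : z ∈ centralizer (K : Set G) := hPH hzP
    have hKz := step1 z hzH hzx hzp
    have hDz := cpc_eq hKz (h z hzH hzp)
    obtain ⟨h1, h2⟩ := hii Q0 z hzQ (fun y hy => hzc y (hQP hy)) hzp K hKz (by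
      rw [inf_eq_left.2 hKz.1, pLayerOf_pcomp hK])
    have hPz : P ≤ centralizerOfPComponent p z K := by
      rw [hDz]
      refine le_inf hPH ?_
      intro y hy
      rw [mem_centralizer_singleton_iff]
      exact hzc y hy
    have h3 := relIndex_mul_relIndex Q P _ hQP hPz
    have h4 : ¬ p ∣ Q.relIndex P := fun hd => h2 ((hd.trans (Dvd.intro _ h3)))
    obtain ⟨n, hn⟩ := hPp.index (Q.subgroupOf P)
    have h5 : Q.relIndex P = 1 := by
      rw [relIndex, hn]
      rcases Nat.eq_zero_or_pos n with h0 | h0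
      · rw [h0, pow_zero]
      · exfalso
        apply h4
        rw [relIndex, hn]
        exact dvd_pow_self p h0.ne'
    exact relIndex_eq_one.1 h5
  have hcomp : ∀ y ∈ centralizer (K : Set G), orderOf y = p →
      IsPComponentOf p K (centralizer ({y} : Set G)) → IsComponentOf K (centralizer ({y} : Set G)) :=
    fun y hy hyp hKy => ⟨hKy.1, comp_of_commute hKy.2 ((commutator_core_iff hKy.1).1 (h y hy hyp))⟩
  refine ⟨hx, hcomp x hxH hx hK, ?_, ?_⟩
  · have h1 := pcomp_even hK.2
    have h2 : Nat.card (K.subgroupOf (centralizer ({x} : Set G))) = Nat.card K :=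
      Nat.card_congr (subgroupOfEquivOfLe hK.1).toEquiv
    rw [h2] at h1
    by_contra h3
    exact h1 ((hp.coprime_iff_not_dvd.2 h3).symm)
  · intro y hy hyp
    apply hcomp y hy hyp
    set y' : centralizer (K : Set G) := ⟨y, hy⟩ with hy'
    have hyp' : orderOf y' = p := (Subgroup.orderOf_mk y hy).trans hyp
    obtain ⟨P1, hP1⟩ := (IsPGroup.of_card (p := p) (n := 1) (G := zpowers y')
      (by rw [Nat.card_zpowers, pow_one]; exact hyp')).exists_le_sylow
    obtain ⟨c, hc⟩ := MulAction.exists_smul_eq (centralizer (K : Set G)) P1 P0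
    have h1 : c * y' * c⁻¹ ∈ (P0 : Subgroup (centralizer (K : Set G))) := by
      rw [← hc]
      exact Subgroup.smul_mem_pointwise_smul y' (MulAut.conj c) (P1 : Subgroup _)
        (hP1 (mem_zpowers _))
    have h2 : (c : G) * y * (c : G)⁻¹ ∈ Q := hPQ ⟨_, h1, rfl⟩
    have h3 := hDx.le (hQD h2)
    have h4 : orderOf ((c : G) * y * (c : G)⁻¹) = p := by
      rw [← hyp]
      exact MulEquiv.orderOf_eq (MulAut.conj (c : G)) y
    have h5 := pcompOf_conj (step1 _ h3.1 h3.2 h4) (c : G)⁻¹
    rw [map_centralizer_conj] at h5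
    have e1 : (c : G)⁻¹ * ((c : G) * y * (c : G)⁻¹) * ((c : G)⁻¹)⁻¹ = y := by group
    have e2 : K.map (MulAut.conj (c : G)⁻¹).toMonoidHom = K := by
      have hcK : ∀ k ∈ K, (c : G)⁻¹ * k * (c : G) = k := by
        intro k hk
        have := mem_centralizer_iff.1 c.2 k hk
        rw [mul_assoc, this, inv_mul_cancel_left]
      ext k
      constructor
      · rintro ⟨k', hk', rfl⟩
        have := hcK k' hk'
        simp only [MulEquiv.coe_toMonoidHom, MulAut.conj_apply, inv_inv]
        rw [this]; exact hk'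
      · intro hk
        refine ⟨k, hk, ?_⟩
        simp only [MulEquiv.coe_toMonoidHom, MulAut.conj_apply, inv_inv]
        exact hcK k hk
    rwa [e1, e2] at h5

theorem s2018 [Finite G] {p : ℕ} (hp : p.Prime) {x : G} {K : Subgroup G}
    (hT : IsPTerminal p x K) :
    IsTerminalPair p x K ↔
      ∀ y ∈ centralizer (K : Set G), orderOf y = p → ⁅K, centralizerPPrimeCore p y⁆ = ⊥ := by
  refine ⟨?_, s2018_back hp hT⟩
  rintro ⟨hx, hK, hpK, hy⟩ y hyK hyp
  exact core_commute_of_component hp (hy y hyK hyp) hpK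

end CfsgLib.H7Term
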