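import Cfsg.Agent.LibFusionH12
import Cfsg.Agent.LibComp2

set_option autoImplicit false

/-! Sylow 2-subgroups of `Q^g ∩ N(Q)` for a tightly embedded subgroup `Q` (helper7). -/

namespace CfsgLib.H7Tight

open Cfsg Subgroup CfsgLib.FusionH12 CfsgLib.Comp2

universe u
variable {G : Type u} [Group G]

/-- the second half of tight embedding, in the `cj` notation -/
def TE (Q : Subgroup G) : Prop :=
  ∀ g : G, g ∉ normalizer (Q : Set G) → Odd (Nat.card ↥(Q ⊓ cj g Q))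

theorem TE.cj {Q : Subgroup G} (h : TE Q) (a : G) : TE (FusionH12.cj a Q) := by
  intro g hg
  have h1 : a⁻¹ * g * a ∉ normalizer (Q : Set G) := by
    intro h2
    apply hg
    rw [← cj_normalizer, mem_cj]
    exact h2
  have h2 := h _ h1
  have h3 : FusionH12.cj a Q ⊓ FusionH12.cj g (FusionH12.cj a Q) =
      FusionH12.cj a (Q ⊓ FusionH12.cj (a⁻¹ * g * a) Q) := by
    rw [cj_inf, ← cj_mul, ← cj_mul]
    congr 2
    group
  rw [h3, card_cj]
  exact h2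

theorem eq_bot_of_odd [Finite G] {X Y : Subgroup G} (hX : IsPGroup 2 X) (hY : Odd (Nat.card Y)) (h : X ≤ Y) :
    X = ⊥ := by
  obtain ⟨n, hn⟩ := IsPGroup.iff_card.mp hX
  have h1 := Subgroup.card_dvd_of_le h
  rw [← Subgroup.card_eq_one, hn]
  rcases Nat.eq_zero_or_pos n with h0 | h0
  · rw [h0, pow_zero]
  · exfalso
    have h2 : 2 ∣ Nat.card Y := (dvd_pow_self 2 h0.ne').trans (hn ▸ h1)
    exact (Nat.not_even_iff_odd.mpr hY) (even_iff_two_dvd.mpr h2)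

theorem TE.normalizer_le [Finite G] {Q X : Subgroup G} (h : TE Q) (hX : IsPGroup 2 X) (hX1 : X ≠ ⊥) (hXQ : X ≤ Q) :
    normalizer (X : Set G) ≤ normalizer (Q : Set G) := by
  intro x hx
  by_contra hxQ
  apply hX1
  apply eq_bot_of_odd hX (h x hxQ)
  refine le_inf hXQ ?_
  rw [← cj_of_mem_nrm hx]
  exact cj_mono hXQ

theorem exists_embed {A T R : Subgroup G} (hc : ⁅T, R⁆ = ⊥) (hTR : T ⊓ R = ⊥) (hA : A ≤ T ⊔ R)
    (hAT : A ⊓ T = ⊥) : ∃ f : A →* R, Function.Injective f := by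
  classical
  have hTN : T ≤ normalizer (R : Set G) :=
    (commutator_eq_bot_iff_le_centralizer.mp hc).trans (by
      intro x hx
      exact mem_nrm.mpr (cj_of_mem_centralizer hx))
  have h1 : ∀ a : A, ∃ t ∈ T, ∃ r ∈ R, (a : G) = t * r := fun a =>
    exists_mul_of_mem_sup hTN (hA a.2)
  choose t ht r hr htr using h1
  have huniq : ∀ {x y x' y' : G}, x ∈ T → y ∈ R → x' ∈ T → y' ∈ R → x * y = x' * y' → y = y' := by
    intro x y x' y' hx hy hx' hy' h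
    have h2 : x'⁻¹ * x = y' * y⁻¹ := by
      rw [inv_mul_eq_iff_eq_mul, ← mul_assoc, ← h]; group
    have h3 : y' * y⁻¹ ∈ T ⊓ R := ⟨h2 ▸ T.mul_mem (T.inv_mem hx') hx, R.mul_mem hy' (R.inv_mem hy)⟩
    rw [hTR, mem_bot, mul_inv_eq_one] at h3
    exact h3.symm
  have hmul : ∀ a b : A, r (a * b) = r a * r b := by
    intro a b
    apply huniq (ht (a * b)) (hr (a * b)) (mul_mem (ht a) (ht b)) (mul_mem (hr a) (hr b))
    rw [← htr (a * b), Subgroup.coe_mul, htr a, htr b]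
    have h4 : t b * r a = r a * t b := commute_of_commutator_eq_bot hc (ht b) (hr a)
    calc t a * r a * (t b * r b) = t a * (r a * t b) * r b := by group
      _ = t a * (t b * r a) * r b := by rw [h4]
      _ = t a * t b * (r a * r b) := by group
  refine ⟨MonoidHom.mk' (fun a => ⟨r a, hr a⟩) (fun a b => Subtype.ext (hmul a b)), ?_⟩
  rw [injective_iff_map_eq_one]
  intro a ha
  have h5 : r a = 1 := congrArg Subtype.val ha
  have h6 : (a : G) ∈ A ⊓ T := ⟨a.2, by rw [htr a, h5, mul_one]; exact ht a⟩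
  rw [hAT, mem_bot] at h6
  exact Subtype.ext h6

theorem decomp {Q T S : Subgroup G} (hTN : T ≤ normalizer (Q : Set G)) (hTS : T ≤ S)
    (hSQ : S ≤ Q ⊔ T) (hTQ : T ⊓ Q = ⊥) :
    T ⊓ (S ⊓ normalizer (T : Set G) ⊓ Q) = ⊥ ∧ ⁅T, S ⊓ normalizer (T : Set G) ⊓ Q⁆ = ⊥ ∧
      T ⊔ (S ⊓ normalizer (T : Set G) ⊓ Q) = S ⊓ normalizer (T : Set G) := by
  refine ⟨?_, ?_, ?_⟩
  · rw [eq_bot_iff, ← hTQ]
    exact inf_le_inf_left _ inf_le_right
  · rw [eq_bot_iff, ← hTQ, commutator_le]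
    rintro t ht r ⟨⟨hrS, hrN⟩, hrQ⟩
    refine ⟨?_, ?_⟩
    · rw [commutatorElement_def]
      have h1 : r * t⁻¹ * r⁻¹ ∈ T := (mem_normalizer_iff.mp hrN _).mp (T.inv_mem ht)
      have h2 : t * r * t⁻¹ * r⁻¹ = t * (r * t⁻¹ * r⁻¹) := by group
      rw [h2]; exact mul_mem ht h1
    · rw [commutatorElement_def]
      exact Q.mul_mem ((mem_normalizer_iff.mp (hTN ht) _).mp hrQ) (Q.inv_mem hrQ)
  · apply le_antisymm
    · exact sup_le (le_inf hTS le_normalizer) inf_le_left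
    · rintro n ⟨hnS, hnN⟩
      obtain ⟨t, ht, q, hq, rfl⟩ := exists_mul_of_mem_sup hTN (sup_comm Q T ▸ hSQ hnS)
      refine mul_mem (mem_sup_left ht) (mem_sup_right ⟨⟨?_, ?_⟩, hq⟩)
      · exact (mul_mem_cancel_left (hTS ht)).mp hnS
      · exact (mul_mem_cancel_left (le_normalizer ht)).mp hnN

theorem core [Finite G] {Q Q' T S : Subgroup G} (hQ' : TE Q')
    (hTN : T ≤ normalizer (Q : Set G)) (hT1 : T ≠ ⊥) (hS : IsPGroup 2 S) (hTS : T ≤ S)
    (hSQ : S ≤ Q ⊔ T) (hSyl : SylIn 2 T (Q' ⊓ normalizer (Q : Set G))) (hTQ : T ⊓ Q = ⊥) :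
    (∃ f : T →* ↥(S ⊓ normalizer (T : Set G) ⊓ Q), Function.Injective f) ∨
      S ≤ normalizer (T : Set G) := by
  have hSN : S ≤ normalizer (Q : Set G) := hSQ.trans (sup_le le_normalizer hTN)
  obtain ⟨hd1, hd2, hd3⟩ := decomp hTN hTS hSQ hTQ
  obtain ⟨R, hR⟩ : ∃ R, R = S ⊓ normalizer (T : Set G) ⊓ Q := ⟨_, rfl⟩
  rw [← hR] at hd1 hd2 hd3 ⊢
  by_cases hle : S ≤ T ⊔ R
  · right
    rw [hd3] at hle
    exact hle.trans inf_le_right
  left
  have hlt : T ⊔ R < S := by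
    refine lt_of_le_of_ne (hd3 ▸ inf_le_left) ?_
    intro h; exact hle h.ge
  have h1 := lt_nrm_inf hS hlt
  obtain ⟨x, ⟨hxS, hxN⟩, hx⟩ := SetLike.exists_of_lt h1
  have hxT : x ∉ normalizer (T : Set G) := by
    intro h
    apply hx
    rw [hd3]
    exact ⟨hxS, h⟩
  have hTQ' : T ≤ Q' := hSyl.le.trans inf_le_left
  have hSQ' : S ⊓ Q' = T := by
    apply hSyl.eq_of_le (hS.to_le inf_le_left)
    · exact le_inf inf_le_right (inf_le_left.trans hSN)
    · exact le_inf hTS hTQ'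
  have hcS : cj x T ≤ S := by
    rw [← cj_of_mem hxS]; exact cj_mono hTS
  have hxQ' : x ∉ normalizer (Q' : Set G) := by
    intro h
    apply hxT
    rw [mem_nrm]
    have h2 : cj x T ≤ T := by
      conv_rhs => rw [← hSQ']
      refine le_inf hcS ?_
      rw [← cj_of_mem_nrm h]; exact cj_mono hTQ'
    exact Subgroup.eq_of_le_of_card_ge h2 (by rw [card_cj])
  have hxT2 : cj x T ⊓ T = ⊥ := by
    apply eq_bot_of_odd (hSyl.pg.to_le inf_le_right) (hQ' x hxQ')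
    exact le_inf (inf_le_right.trans hTQ') (inf_le_left.trans (cj_mono hTQ'))
  have hxTR : cj x T ≤ T ⊔ R := by
    rw [← cj_of_mem_nrm hxN]; exact cj_mono le_sup_left
  obtain ⟨f, hf⟩ := exists_embed hd2 hd1 hxTR hxT2
  let e : T ≃* cj x T := T.equivMapOfInjective (MulAut.conj x).toMonoidHom (MulAut.conj x).injective
  exact ⟨f.comp e.toMonoidHom, hf.comp e.injective⟩

theorem s1910 [Finite G] (Q : Subgroup G) (hQ : IsTightlyEmbedded Q)
    (g : G) (hg : g ∉ Subgroup.normalizer (Q : Set G))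
    (T : Subgroup G) (hT1 : T ≠ ⊥) (hT : SylIn 2 T (cj g Q ⊓ normalizer (Q : Set G)))
    (S : Subgroup G) (hTS : T ≤ S) (hS : SylIn 2 S (Q ⊔ T)) :
    T ⊓ Q = ⊥ ∧ Nonempty (↥(S ⊓ Subgroup.normalizer (T : Set G) ⊓ Q) ≃* T) := by
  have hTE : TE Q := hQ.2
  have hTE' : TE (cj g Q) := hTE.cj g
  have hTN : T ≤ normalizer (Q : Set G) := hT.le.trans inf_le_right
  have hTQ' : T ≤ cj g Q := hT.le.trans inf_le_left
  have hodd : ∀ X : Subgroup G, IsPGroup 2 X → X ≤ Q → X ≤ cj g Q → X = ⊥ := fun X hX h1 h2 =>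
    eq_bot_of_odd hX (hTE g hg) (le_inf h1 h2)
  have hTQ : T ⊓ Q = ⊥ := hodd _ (hT.pg.to_le inf_le_left) inf_le_right (inf_le_left.trans hTQ')
  refine ⟨hTQ, ?_⟩
  obtain ⟨hd1, hd2, hd3⟩ := decomp hTN hTS hS.le hTQ
  have hcore := core hTE' hTN hT1 hS.pg hTS hS.le hT hTQ
  have hSN : S ≤ normalizer (Q : Set G) := hS.le.trans (sup_le le_normalizer hTN)
  have hSQ : SylIn 2 (S ⊓ Q) Q := hS.inf_normal le_sup_left (sup_le le_normalizer hTN)
  have hSQ1 : S ⊓ Q ≠ ⊥ := by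
    intro h
    rw [h] at hSQ
    apply hSQ.idx
    rw [relIndex_bot_left]
    exact even_iff_two_dvd.mp hQ.1
  obtain ⟨R, hR⟩ : ∃ R, R = S ⊓ normalizer (T : Set G) ⊓ Q := ⟨_, rfl⟩
  rw [← hR] at hd1 hd2 hd3 hcore ⊢
  have hRQ : R ≤ Q := hR ▸ inf_le_right
  have hRS : R ≤ S := hR ▸ (inf_le_left.trans inf_le_left)
  have hRT : R ≤ normalizer (T : Set G) := hR ▸ (inf_le_left.trans inf_le_right)
  have hR2 : IsPGroup 2 R := hS.pg.to_le hRS
  have hNT := hTE'.normalizer_le hT.pg hT1 hTQ'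
  have hRQ' : R ≤ normalizer ((cj g Q : Subgroup G) : Set G) := hRT.trans hNT
  have hR1 : R ≠ ⊥ := by
    intro h
    rw [h, sup_bot_eq] at hd3
    have h1 : T = S := by
      by_contra hne
      have h2 := lt_nrm_inf hS.pg (lt_of_le_of_ne hTS hne)
      rw [← hd3] at h2
      exact lt_irrefl _ h2
    apply hSQ1
    rw [← h1]; exact hTQ
  -- the intersection of the two normalizers
  obtain ⟨H, hH⟩ : ∃ H, H = normalizer (Q : Set G) ⊓ normalizer ((cj g Q : Subgroup G) : Set G) := ⟨_, rfl⟩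
  have hTRH : T ⊔ R ≤ H := by
    rw [hH]
    exact sup_le (le_inf hTN (hTQ'.trans le_normalizer)) (le_inf (hRQ.trans le_normalizer) hRQ')
  have hTR2 : IsPGroup 2 ↥(T ⊔ R) := hS.pg.to_le (sup_le hTS hRS)
  obtain ⟨W, hWTR, hW⟩ := SylIn.exists_ge hTR2 hTRH
  obtain ⟨T₁, hT₁⟩ : ∃ T₁, T₁ = W ⊓ (Q ⊓ normalizer ((cj g Q : Subgroup G) : Set G)) := ⟨_, rfl⟩
  have hHn : H ≤ normalizer ((Q ⊓ normalizer ((cj g Q : Subgroup G) : Set G) : Subgroup G) : Set G) := by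
    intro h hh
    rw [hH] at hh
    rw [mem_nrm, cj_inf, cj_of_mem_nrm hh.1, cj_of_mem hh.2]
  have hT₁s : SylIn 2 T₁ (Q ⊓ normalizer ((cj g Q : Subgroup G) : Set G)) := by
    rw [hT₁]
    apply hW.inf_normal _ hHn
    rw [hH]
    exact inf_le_inf_right _ le_normalizer
  have hRT₁ : R ≤ T₁ := by
    rw [hT₁]
    exact le_inf (le_sup_right.trans hWTR) (le_inf hRQ hRQ')
  have hT₁1 : T₁ ≠ ⊥ := by
    intro h; rw [h, le_bot_iff] at hRT₁; exact hR1 hRT₁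
  have hT₁Q : T₁ ≤ Q := hT₁s.le.trans inf_le_left
  have hT₁N : T₁ ≤ normalizer ((cj g Q : Subgroup G) : Set G) := hT₁s.le.trans inf_le_right
  have hTT₁ : T ≤ normalizer (T₁ : Set G) := by
    intro t ht
    rw [mem_nrm, hT₁, cj_inf]
    have h1 : t ∈ W := hWTR (mem_sup_left ht)
    rw [cj_of_mem h1, mem_nrm.mp (hHn (hTRH (mem_sup_left ht)))]
  have hTT₁2 : IsPGroup 2 ↥(T₁ ⊔ T) := by
    refine hW.pg.to_le (sup_le ?_ (le_sup_left.trans hWTR))
    rw [hT₁]; exact inf_le_left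
  obtain ⟨S₁, hS₁ge, hS₁⟩ := SylIn.exists_ge hTT₁2
    (sup_le le_sup_right (hTQ'.trans le_sup_left) : T₁ ⊔ T ≤ cj g Q ⊔ T₁)
  have hT₁Q' : T₁ ⊓ cj g Q = ⊥ := hodd _ (hT₁s.pg.to_le inf_le_left) (inf_le_left.trans hT₁Q) inf_le_right
  have hcore' := core hTE hT₁N hT₁1 hS₁.pg (le_sup_left.trans hS₁ge) hS₁.le hT₁s hT₁Q'
  have hNT₁ := hTE.normalizer_le hT₁s.pg hT₁1 hT₁Q
  have hR₁ : S₁ ⊓ normalizer (T₁ : Set G) ⊓ cj g Q = T := by
    apply hT.eq_of_le (hS₁.pg.to_le (inf_le_left.trans inf_le_left))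
    · exact le_inf inf_le_right (inf_le_left.trans (inf_le_right.trans hNT₁))
    · exact le_inf (le_inf (le_sup_right.trans hS₁ge) hTT₁) hTQ'
  rw [hR₁] at hcore'
  -- the alternatives
  have hB : S ≤ normalizer (T : Set G) → SylIn 2 R Q := by
    intro h
    rw [hR, inf_eq_left.mpr h]
    exact hSQ
  have hB' : S₁ ≤ normalizer (T₁ : Set G) → SylIn 2 T (cj g Q) := by
    intro h
    have h1 : SylIn 2 (S₁ ⊓ cj g Q) (cj g Q) :=
      hS₁.inf_normal le_sup_left (sup_le le_normalizer hT₁N)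
    rw [inf_eq_left.mpr h] at hR₁
    rwa [hR₁] at h1
  have hfin : ∀ {A B : Subgroup G} (f : A →* B), Function.Injective f → Nat.card B ≤ Nat.card A →
      Nonempty (A ≃* B) := fun {A B} f hf hc =>
    ⟨MulEquiv.ofBijective f (hf.bijective_of_nat_card_le hc)⟩
  have hcardRT₁ := Subgroup.card_le_of_le hRT₁
  rcases hcore with ⟨f, hf⟩ | hA
  · rcases hcore' with ⟨f', hf'⟩ | hA'
    · obtain ⟨e⟩ := hfin f hf (hcardRT₁.trans (Nat.card_le_card_of_injective f' hf'))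
      exact ⟨e.symm⟩
    · have h1 := hB' hA'
      have h2 : Nat.card R ≤ Nat.card T := by
        have h3 : SylIn 2 (cj g⁻¹ T) Q := by
          have := h1.cj g⁻¹
          rwa [cj_inv_cj] at this
        have := h3.card_ge hR2 hRQ
        rwa [card_cj] at this
      obtain ⟨e⟩ := hfin f hf h2
      exact ⟨e.symm⟩
  · have h1 := hB hA
    rcases hcore' with ⟨f', hf'⟩ | hA'
    · have h2 : T₁ = R := h1.eq_of_le hT₁s.pg hT₁Q hRT₁
      subst h2
      apply hfin f' hf'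
      have h3 := (h1.cj g).card_ge hT.pg hTQ'
      rwa [card_cj] at h3
    · obtain ⟨a, -, ha⟩ := (hB' hA').exists_conj (h1.cj g)
      let e : R ≃* cj g R := R.equivMapOfInjective (MulAut.conj g).toMonoidHom (MulAut.conj g).injective
      let e' : cj g R ≃* cj a (cj g R) :=
        (cj g R).equivMapOfInjective (MulAut.conj a).toMonoidHom (MulAut.conj a).injective
      exact ⟨(e.trans e').trans (MulEquiv.subgroupCongr ha)⟩

end CfsgLib.H7Tight
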