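import Cfsg.Agent.EqBase
import Cfsg.Agent.LibH2Stab
import Cfsg.Agent.LibH2Lift
import Cfsg.Agent.LibBaer
import Cfsg.Agent.LibNpc9
import Cfsg.Agent.LibBG7
import Cfsg.Agent.S0024
import Cfsg.Agent.S0025
import Cfsg.Agent.S0026
import Cfsg.Agent.S0028

set_option autoImplicit false

namespace CfsgLib.H7Tr

open Subgroup Cfsg
open scoped commutatorElement

theorem two_case {X : Type*} [Group X] [Finite X] {p : ℕ} [Fact p.Prime] {V A Q : Subgroup X}
    (hV : IsPGroup p V) (hA : IsPGroup p A) (hQ : ¬ p ∣ Nat.card Q) (hAQ : A ≤ normalizer (Q : Set X))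
    (hAV : A ≤ normalizer (V : Set X)) (hQV : Q ≤ normalizer (V : Set X))
    (hcl1 : ⁅V, A⁆ ≤ centralizer (V : Set X)) (hcl2 : ⁅V, A⁆ ≤ centralizer (A : Set X))
    (hfix : V ⊓ centralizer (A : Set X) ≤ centralizer (Q : Set X)) : Q ≤ centralizer (V : Set X) := by
  have hVA : ⁅V, A⁆ ≤ V := by
    rw [commutator_le]
    intro v hv a ha
    have h1 := (mem_normalizer_iff.mp (hAV ha) v⁻¹).mp (inv_mem hv)
    have : ⁅v, a⁆ = v * (a * v⁻¹ * a⁻¹) := by rw [commutatorElement_def]; group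
    rw [this]; exact mul_mem hv h1
  have hVQ : ⁅V, A⁆ ≤ centralizer (Q : Set X) := (le_inf hVA hcl2).trans hfix
  set W : Subgroup X := V ⊓ centralizer (Q : Set X) with hW
  have hsub : ∀ e ∈ A, ∀ y ∈ V, e * y * e⁻¹ * y⁻¹ ∈ ⁅V, A⁆ := by
    intro e he y hy
    have h1 : ⁅y, e⁆ ∈ ⁅V, A⁆ := commutator_mem_commutator hy he
    have h2 := inv_mem h1
    rw [commutatorElement_inv, commutatorElement_def] at h2
    exact h2
  let S : Subgroup X :=
    { carrier := {r | r ∈ Q ∧ ∀ y ∈ V, r * y * r⁻¹ * y⁻¹ ∈ W}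
      one_mem' := ⟨one_mem Q, fun y hy => by simp⟩
      mul_mem' := by
        rintro r1 r2 ⟨h1, h1'⟩ ⟨h2, h2'⟩
        refine ⟨mul_mem h1 h2, fun y hy => ?_⟩
        have hw := h2' y hy
        have e1 : r1 * (r2 * y * r2⁻¹ * y⁻¹) = (r2 * y * r2⁻¹ * y⁻¹) * r1 :=
          mem_centralizer_iff.mp (mem_inf.mp hw).2 r1 h1
        have e2 : r1 * r2 * y * (r1 * r2)⁻¹ * y⁻¹ = (r2 * y * r2⁻¹ * y⁻¹) * (r1 * y * r1⁻¹ * y⁻¹) := by
          calc r1 * r2 * y * (r1 * r2)⁻¹ * y⁻¹ = (r1 * (r2 * y * r2⁻¹ * y⁻¹)) * y * r1⁻¹ * y⁻¹ := by group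
            _ = _ := by rw [e1]; group
        rw [e2]
        exact mul_mem hw (h1' y hy)
      inv_mem' := by
        rintro r ⟨h, h'⟩
        refine ⟨inv_mem h, fun y hy => ?_⟩
        have hy' : r⁻¹ * y * r ∈ V := by
          have := (mem_normalizer_iff.mp (inv_mem (hQV h)) y).mp hy
          rwa [inv_inv] at this
        have h1 := inv_mem (h' _ hy')
        have e1 : (r * (r⁻¹ * y * r) * r⁻¹ * (r⁻¹ * y * r)⁻¹)⁻¹ = r⁻¹ * y * r⁻¹⁻¹ * y⁻¹ := by group
        rwa [e1] at h1 }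
  have hRS : ⁅A, Q⁆ ≤ S := by
    rw [commutator_le]
    intro e he k hk
    have hQe : ⁅e, k⁆ ∈ Q := by
      have h1 := (mem_normalizer_iff.mp (hAQ he) k).mp hk
      rw [commutatorElement_def]
      exact mul_mem h1 (inv_mem hk)
    refine ⟨hQe, fun y hy => ?_⟩
    have hx : k⁻¹ * y * k ∈ V := by
      have := (mem_normalizer_iff.mp (inv_mem (hQV hk)) y).mp hy
      rwa [inv_inv] at this
    set x := k⁻¹ * y * k with hxdef
    have hz := hsub e⁻¹ (inv_mem he) x hx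
    set z := e⁻¹ * x * e⁻¹⁻¹ * x⁻¹ with hzdef
    have hz1 := hsub e he y hy
    have ck : k * z = z * k := mem_centralizer_iff.mp (hVQ hz) k hk
    have ce : e * z = z * e := mem_centralizer_iff.mp (hcl2 hz) e he
    have e1 : ⁅e, k⁆ * y * ⁅e, k⁆⁻¹ * y⁻¹ = z * (e * y * e⁻¹ * y⁻¹) := by
      have a1 : ⁅e, k⁆ * y * ⁅e, k⁆⁻¹ = e * (k * z) * x * k⁻¹ * e⁻¹ := by
        rw [commutatorElement_def, hzdef, hxdef]; group
      rw [a1, ck]
      have a2 : e * (z * k) * x * k⁻¹ * e⁻¹ = (e * z) * y * e⁻¹ := by rw [hxdef]; group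
      rw [a2, ce]; group
    rw [e1]
    exact mul_mem (mem_inf.mpr ⟨hVA hz, hVQ hz⟩) (mem_inf.mpr ⟨hVA hz1, hVQ hz1⟩)
  have hRQ : ⁅A, Q⁆ ≤ Q := fun r hr => (hRS hr).1
  have hVs : Group.IsSolvable V := CfsgLib.PQ.solvable_of_pgroup hV
  have hAs : Group.IsSolvable A := CfsgLib.PQ.solvable_of_pgroup hA
  have hQV' : (Nat.card Q).Coprime (Nat.card V) := (CfsgLib.Sig.coprime_of_not_dvd hV hQ).symm
  have hRV : ⁅V, ⁅A, Q⁆⁆ = ⊥ := by
    apply CfsgLib.Coprime.commutator_eq_bot_of_chain (hRQ.trans hQV)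
      (Nat.Coprime.of_dvd_left (card_dvd_of_le hRQ) hQV') (Or.inr hVs) (N := W)
    · rw [commutator_comm, commutator_le]
      intro r hr v hv
      rw [commutatorElement_def]
      exact (hRS hr).2 v hv
    · rw [commutator_eq_bot_iff_le_centralizer]
      exact inf_le_right.trans (centralizer_le hRQ)
  have hC : Q ⊓ centralizer (A : Set X) ≤ centralizer (V : Set X) := by
    apply Cfsg.Agent.S0028.result p A (Q ⊓ centralizer (A : Set X)) V hA
      (by
        have h1 : Nat.card ↥(Q ⊓ centralizer (A : Set X)) ∣ Nat.card Q := card_dvd_of_le inf_le_left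
        have h2 : ¬ p ∣ Nat.card ↥(Q ⊓ centralizer (A : Set X)) := fun h => hQ (h.trans h1)
        exact ((Nat.Prime.coprime_iff_not_dvd Fact.out).mpr h2).symm) hV
      (by
        rw [le_centralizer_iff]
        exact inf_le_right) hAV (inf_le_left.trans hQV)
      (hfix.trans (centralizer_le inf_le_left))
  have hsum := Cfsg.Agent.S0026.result A Q hAQ (CfsgLib.Sig.coprime_of_not_dvd hA hQ) (Or.inl hAs)
  rw [← hsum]
  apply sup_le
  · rw [commutator_comm]
    rw [commutator_comm, commutator_eq_bot_iff_le_centralizer] at hRV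
    exact hRV
  · exact hC

theorem lift_p {X : Type*} [Group X] [Finite X] {p : ℕ} [Fact p.Prime] (N : Subgroup X) [N.Normal]
    (hN : (Nat.card N).Coprime p) {E : Subgroup X} (hE : IsPGroup p E)
    (hEfull : ∀ x ∈ centralizer (E : Set X), IsPGroup p (zpowers x) → x ∈ E) (x : X ⧸ N)
    (hx : x ∈ centralizer ((E.map (QuotientGroup.mk' N) : Subgroup (X ⧸ N)) : Set (X ⧸ N)))
    (hxp : ∃ k, orderOf x = p ^ k) : x ∈ E.map (QuotientGroup.mk' N) := by
  have hp : p.Prime := Fact.out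
  rw [CfsgLib.H2Lift.centralizer_map_eq hE hN] at hx
  obtain ⟨m, hm, rfl⟩ := hx
  obtain ⟨k, hk⟩ := hxp
  obtain ⟨a, s, hs, hms⟩ := Nat.exists_eq_pow_mul_and_not_dvd (orderOf_pos m).ne' p hp.ne_one
  have hcop : Nat.Coprime (p ^ a) s := Nat.Coprime.pow_left a ((Nat.Prime.coprime_iff_not_dvd hp).mpr hs)
  let j := Nat.chineseRemainder hcop 1 0
  have hj1 : (j : ℕ) ≡ 1 [MOD p ^ a] := j.2.1
  have hj2 : (j : ℕ) ≡ 0 [MOD s] := j.2.2
  have hsj : s ∣ (j : ℕ) := (Nat.modEq_zero_iff_dvd).mp hj2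
  have hmj : (m ^ (j : ℕ)) ^ (p ^ a) = 1 := by
    rw [← pow_mul, ← orderOf_dvd_iff_pow_eq_one, hms, mul_comm]
    exact Nat.mul_dvd_mul hsj dvd_rfl
  have hmE : m ^ (j : ℕ) ∈ E := by
    apply hEfull _ (pow_mem hm _)
    have h1 : orderOf (m ^ (j : ℕ)) ∣ p ^ a := orderOf_dvd_of_pow_eq_one hmj
    obtain ⟨b, _, hb⟩ := (Nat.dvd_prime_pow hp).mp h1
    exact IsPGroup.of_card (n := b) (by rw [Nat.card_zpowers, hb])
  have hxj : (QuotientGroup.mk' N m) ^ (j : ℕ) = QuotientGroup.mk' N m := by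
    conv_rhs => rw [← pow_one (QuotientGroup.mk' N m)]
    rw [pow_eq_pow_iff_modEq]
    have h1 : orderOf (QuotientGroup.mk' N m) ∣ p ^ a := by
      have h2 : orderOf (QuotientGroup.mk' N m) ∣ orderOf m := orderOf_map_dvd _ _
      rw [hms, mul_comm] at h2
      have h3 : Nat.Coprime (orderOf (QuotientGroup.mk' N m)) s := by
        rw [hk]; exact Nat.Coprime.pow_left k ((Nat.Prime.coprime_iff_not_dvd hp).mpr hs)
      exact h3.dvd_of_dvd_mul_left h2
    exact hj1.of_dvd h1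
  refine ⟨m ^ (j : ℕ), hmE, ?_⟩
  rw [map_pow, hxj]

theorem local_core {X : Type*} [Group X] [Finite X] {p : ℕ} [Fact p.Prime] (hX : IsPConstrained p X)
    (hcl : p = 2 → ∀ S : Sylow p X, ⁅⁅(S : Subgroup X), (S : Subgroup X)⁆, (S : Subgroup X)⁆ = ⊥)
    {E K : Subgroup X} (hE : IsPGroup p E)
    (hEfull : ∀ x ∈ centralizer (E : Set X), IsPGroup p (zpowers x) → x ∈ E) (hK : ¬ p ∣ Nat.card K)
    (hEK : E ≤ normalizer (K : Set X)) : K ≤ pPrimeCore p X := by
  have hp : p.Prime := Fact.out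
  have hC := CfsgLib.H2Stab.centralizer_pCore_of_isPConstrained hX
  have hNc : (Nat.card (pPrimeCore p X)).Coprime p := CfsgLib.Cores.pPrimeCore_coprime p
  set N := pPrimeCore p X with hN
  set V := pCore p (X ⧸ N) with hV
  have hVp : IsPGroup p V := CfsgLib.Cores.pCore_isPGroup p
  set A := E.map (QuotientGroup.mk' N) with hA
  set Q := K.map (QuotientGroup.mk' N) with hQ
  have hAp : IsPGroup p A := hE.map _
  have hQp : ¬ p ∣ Nat.card Q := fun h => hK (h.trans (card_map_dvd _ _))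
  have hAQ : A ≤ normalizer (Q : Set (X ⧸ N)) := by
    rintro _ ⟨e, he, rfl⟩
    rw [mem_normalizer_iff]
    have key : ∀ e ∈ E, ∀ y, y ∈ Q → QuotientGroup.mk' N e * y * (QuotientGroup.mk' N e)⁻¹ ∈ Q := by
      rintro e he _ ⟨k, hk, rfl⟩
      exact ⟨e * k * e⁻¹, (mem_normalizer_iff.mp (hEK he) k).mp hk, by simp⟩
    intro y
    refine ⟨key e he y, fun h => ?_⟩
    have h1 := key e⁻¹ (inv_mem he) _ h
    have e1 : QuotientGroup.mk' N e⁻¹ * (QuotientGroup.mk' N e * y * (QuotientGroup.mk' N e)⁻¹) *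
        (QuotientGroup.mk' N e⁻¹)⁻¹ = y := by
      rw [map_inv]; group
    rwa [e1] at h1
  have hVn : V.Normal := inferInstance
  have hAV : A ≤ normalizer (V : Set (X ⧸ N)) := by rw [normalizer_eq_top]; exact le_top
  have hQV : Q ≤ normalizer (V : Set (X ⧸ N)) := by rw [normalizer_eq_top]; exact le_top
  have hVQ1 : V ⊓ Q = ⊥ := by
    apply CfsgLib.H2Lift.inf_eq_bot_of_isPGroup hVp
    exact ((Nat.Prime.coprime_iff_not_dvd hp).mpr hQp).symm
  have hfix : V ⊓ centralizer (A : Set (X ⧸ N)) ≤ centralizer (Q : Set (X ⧸ N)) := by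
    intro x hx
    obtain ⟨hx1, hx2⟩ := mem_inf.mp hx
    have hxA : x ∈ A := lift_p N hNc hE hEfull x hx2 (by
      obtain ⟨k, hk⟩ := IsPGroup.iff_orderOf.mp hVp ⟨x, hx1⟩
      exact ⟨k, by rw [← hk, Subgroup.orderOf_mk]⟩)
    rw [mem_centralizer_iff]
    intro q hq
    have h1 : x * q * x⁻¹ * q⁻¹ ∈ V ⊓ Q := by
      refine mem_inf.mpr ⟨?_, ?_⟩
      · have : x * q * x⁻¹ * q⁻¹ = x * (q * x⁻¹ * q⁻¹) := by group
        rw [this]
        exact mul_mem hx1 (hVn.conj_mem _ (inv_mem hx1) q)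
      · exact mul_mem ((mem_normalizer_iff.mp (hAQ hxA) q).mp hq) (inv_mem hq)
    rw [hVQ1, mem_bot, mul_inv_eq_one, mul_inv_eq_iff_eq_mul] at h1
    exact h1.symm
  have hQC : Q ≤ centralizer (V : Set (X ⧸ N)) := by
    by_cases hp2 : p = 2
    · obtain ⟨S, hS⟩ := hE.exists_le_sylow
      have hS' := hcl hp2 S
      have hVS : V ≤ (S : Subgroup X).map (QuotientGroup.mk' N) :=
        CfsgLib.Cores.pCore_le_sylow (S.mapSurjective (QuotientGroup.mk'_surjective N))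
      have hAS : A ≤ (S : Subgroup X).map (QuotientGroup.mk' N) := map_mono hS
      have hbot : ⁅⁅(S : Subgroup X).map (QuotientGroup.mk' N), (S : Subgroup X).map (QuotientGroup.mk' N)⁆,
          (S : Subgroup X).map (QuotientGroup.mk' N)⁆ = ⊥ := by
        rw [← map_commutator, ← map_commutator, hS', Subgroup.map_bot]
      apply two_case hVp hAp hQp hAQ hAV hQV _ _ hfix
      · rw [← commutator_eq_bot_iff_le_centralizer, eq_bot_iff, ← hbot]
        exact commutator_mono (commutator_mono hVS hAS) hVS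
      · rw [← commutator_eq_bot_iff_le_centralizer, eq_bot_iff, ← hbot]
        exact commutator_mono (commutator_mono hVS hAS) hAS
    · have h1 := CfsgLib.Baer.fixed_gen hp2 hAp hQp hAQ (Nat.card V) V le_rfl hVp hAV hQV
        (fun x hx1 hx2 _ => hfix (mem_inf.mpr ⟨hx1, hx2⟩))
      rw [commutator_comm, commutator_eq_bot_iff_le_centralizer] at h1
      exact h1
  have hQV2 : Q ≤ V := hQC.trans hC
  have hQb : Q = ⊥ := by rw [← hVQ1]; exact (inf_eq_right.mpr hQV2).symm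
  rw [hQ, Subgroup.map_eq_bot_iff, QuotientGroup.ker_mk'] at hQb
  exact hQb

end CfsgLib.H7Tr
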