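import Cfsg.Agent.EqBase
import Cfsg.Agent.LibH7Tr1

set_option autoImplicit false

namespace CfsgLib.H7Tr

open Subgroup Cfsg CfsgLib.BGPi
open scoped commutatorElement Pointwise CfsgLib.BGPi

universe u
variable {G : Type u} [Group G] [Finite G]

/-- the local step, ambient form -/
theorem local_amb {p : ℕ} [Fact p.Prime] {X E K : Subgroup G} (hX : IsPConstrained p X)
    (hcl : p = 2 → ∀ S : Subgroup G, IsPGroup p S → ⁅⁅S, S⁆, S⁆ = ⊥)
    (hEX : E ≤ X) (hKX : K ≤ X) (hE : IsPGroup p E)
    (hEfull : ∀ x ∈ centralizer (E : Set G), IsPGroup p (zpowers x) → x ∈ E) (hK : ¬ p ∣ Nat.card K)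
    (hEK : E ≤ normalizer (K : Set G)) : K ≤ (pPrimeCore p X).map X.subtype := by
  have h1 := local_core (X := X) (E := E.subgroupOf X) (K := K.subgroupOf X) hX (by
      intro h2 S
      have h3 := hcl h2 ((S : Subgroup X).map X.subtype) (S.isPGroup'.map _)
      rw [← map_commutator, ← map_commutator] at h3
      rwa [(map_eq_bot_iff_of_injective _ X.subtype_injective)] at h3)
    (hE.of_equiv (subgroupOfEquivOfLe hEX).symm) (by
      intro x hx hxp
      rw [mem_subgroupOf]
      apply hEfull
      · rw [mem_centralizer_iff] at hx ⊢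
        intro e he
        have := hx ⟨e, hEX he⟩ (mem_subgroupOf.mpr he)
        exact congrArg Subtype.val this
      · have h2 : zpowers (x : G) = (zpowers x).map X.subtype := by
          rw [MonoidHom.map_zpowers]; rfl
        rw [h2]; exact hxp.map _) (by
      rw [Nat.card_congr (subgroupOfEquivOfLe hKX).toEquiv]; exact hK) (by
      intro a ha
      rw [mem_normalizer_iff]
      intro x
      rw [mem_subgroupOf, mem_subgroupOf]
      exact mem_normalizer_iff.1 (hEK (mem_subgroupOf.1 ha)) x)
  have h2 := map_mono (f := X.subtype) h1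
  rwa [subgroupOf_map_subtype, inf_eq_left.mpr hKX] at h2

/-- `p'`-subgroups of the centraliser of `E` -/
theorem cent_core {p : ℕ} [Fact p.Prime] {E : Subgroup G}
    (hEfull : ∀ x ∈ centralizer (E : Set G), IsPGroup p (zpowers x) → x ∈ E) {c : G}
    (hc : c ∈ centralizer (E : Set G)) (hco : (orderOf c).Coprime p) :
    c ∈ piCoreOf (primesNotDvd p) (centralizer (E : Set G)) := by
  have hp : p.Prime := Fact.out
  have hnpc : HasNormalPComplement p (centralizer (E : Set G)) := by
    obtain ⟨P⟩ : Nonempty (Sylow p (centralizer (E : Set G))) := inferInstance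
    apply CfsgLib.Npc9.hnpc_of_central P
    intro x _
    rw [mem_centralizer_iff]
    intro y hy
    apply Subtype.ext
    have hyE : (y : G) ∈ E := by
      apply hEfull _ y.2
      have h1 : IsPGroup p (zpowers y) := by
        apply P.isPGroup'.to_le
        rw [zpowers_le]; exact hy
      have h2 : zpowers (y : G) = (zpowers y).map (centralizer (E : Set G)).subtype := by
        rw [MonoidHom.map_zpowers]; rfl
      rw [h2]; exact h1.map _
    exact (mem_centralizer_iff.mp x.2) y hyE
  have h1 := CfsgLib.Npc9.mem_pPrimeCore_of_coprime hnpc (x := ⟨c, hc⟩) (by rwa [Subgroup.orderOf_mk])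
  have h2 : pPrimeCore p (centralizer (E : Set G)) ≤ piCore (primesNotDvd p) (centralizer (E : Set G)) := by
    apply le_sSup
    refine ⟨inferInstance, fun r hr hrd => ⟨hr, ?_⟩⟩
    intro h3
    have h4 : (Nat.card (pPrimeCore p (centralizer (E : Set G)))).Coprime p := CfsgLib.Cores.pPrimeCore_coprime p
    rw [(Nat.prime_dvd_prime_iff_eq hr hp).mp h3] at hrd
    exact (Nat.Prime.coprime_iff_not_dvd hp).mp h4.symm hrd
  exact ⟨⟨c, hc⟩, h2 h1, rfl⟩

end CfsgLib.H7Tr
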