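import Cfsg.Agent.EqBase
import Cfsg.Agent.LibH7Tr2

set_option autoImplicit false

namespace CfsgLib.H7Tr

open Subgroup Cfsg CfsgLib.BGPi
open scoped commutatorElement Pointwise CfsgLib.BGPi

universe u
variable {G : Type u} [Group G] [Finite G]

theorem main_step (p : ℕ) [Fact p.Prime]
    (hloc : ∀ T : Subgroup G, IsPGroup p T → T ≠ ⊥ → IsPConstrained p ↥(normalizer (T : Set G)))
    (hcl : p = 2 → ∀ S : Subgroup G, IsPGroup p S → ⁅⁅S, S⁆, S⁆ = ⊥)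
    (E : Subgroup G) (hEp : IsPGroup p E) (hEc : IsMulCommutative E) (B : Subgroup G) (hBE : B ≤ E)
    (hBe : IsElementaryAbelian p B) (hBc : Nat.card B = p ^ 3)
    (hEfull : ∀ x ∈ centralizer (E : Set G), IsPGroup p (zpowers x) → x ∈ E) (q : ℕ) [Fact q.Prime]
    (hqp : q ≠ p) (n : ℕ) :
    ∀ Q₁ ∈ maxInvSubgroups ⊤ E {q}, ∀ Q₂ ∈ maxInvSubgroups ⊤ E {q},
      Nat.card G - Nat.card ↥(Q₁ ⊓ Q₂) = n →
      ∃ k ∈ piCoreOf (primesNotDvd p) 𝓒(E), Q₂ = Q₁ ^ᵍ k := by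
  have hp : p.Prime := Fact.out
  have hq : q.Prime := Fact.out
  induction n using Nat.strong_induction_on with
  | _ n ih =>
  intro Q₁ h₁ Q₂ h₂ hn
  by_cases he : Q₁ = Q₂
  · exact ⟨1, one_mem _, by rw [cj_one, he]⟩
  have hQ₁ := mem_inv_top.1 h₁.1
  have hQ₂ := mem_inv_top.1 h₂.1
  set D := Q₁ ⊓ Q₂ with hDdef
  have hDlt1 : D < Q₁ := by
    refine lt_of_le_of_ne inf_le_left fun e => he ?_
    exact (maxInv_le h₁ hQ₂.1 hQ₂.2 (inf_eq_left.1 e)).symm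
  have hDlt2 : D < Q₂ := by
    refine lt_of_le_of_ne inf_le_right fun e => he ?_
    exact (maxInv_le h₂ hQ₁.1 hQ₁.2 (inf_eq_right.1 e))
  have card_lt : ∀ {X Y : Subgroup G}, X < Y → Nat.card X < Nat.card Y := by
    intro X Y h
    rcases lt_or_ge (Nat.card X) (Nat.card Y) with h' | h'
    · exact h'
    · exact absurd (eq_of_card_le h.le h') h.ne
  have hED : E ≤ 𝓝(D) := le_nz_inf hQ₁.2 hQ₂.2
  have hDpi : IsPi {q} D := hQ₁.1.le inf_le_left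
  have hN1 : ¬ Q₁ ⊓ 𝓝(D) ≤ D := by
    intro h
    exact absurd (nilpotent_nz_lt (nilpotent_of_isPi hq hQ₁.1) hDlt1) (not_lt_of_ge h)
  have hN2 : ¬ Q₂ ⊓ 𝓝(D) ≤ D := by
    intro h
    exact absurd (nilpotent_nz_lt (nilpotent_of_isPi hq hQ₂.1) hDlt2) (not_lt_of_ge h)
  have hEN : E ≤ 𝓝(𝓝(D)) := hED.trans le_normalizer
  have hN1E : E ≤ 𝓝(Q₁ ⊓ 𝓝(D)) := le_nz_inf hQ₁.2 hEN
  have hN2E : E ≤ 𝓝(Q₂ ⊓ 𝓝(D)) := le_nz_inf hQ₂.2 hEN
  have hqcop : ∀ Q : Subgroup G, IsPi {q} Q → (Nat.card B).Coprime (Nat.card Q) := by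
    intro Q hQ
    refine (hQ.coprime_of_dvd ?_).symm
    rintro r hr hr' hd
    rw [Set.mem_singleton_iff] at hr'
    subst hr'
    rw [hBc] at hd
    exact hqp ((Nat.prime_dvd_prime_iff_eq hr hp).mp (hr.dvd_of_dvd_pow hd))
  haveI := hBe.1
  -- a hyperplane
  obtain ⟨B1, hB1B, ⟨a, ha, hB1a⟩, hne⟩ : ∃ B1 ≤ B, (∃ a ∈ B, B ≤ B1 ⊔ zpowers a) ∧
      ¬ (Q₁ ⊓ 𝓝(D)) ⊓ 𝓒(B1) ≤ D := by
    by_contra h
    push Not at h
    apply hN1
    rw [← CfsgLib.Coprime2.generation_cyclic_quotient (K := Q₁ ⊓ 𝓝(D)) (hBE.trans hN1E)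
      (hqcop _ (hQ₁.1.le inf_le_left))]
    refine iSup₂_le ?_
    rintro B1 ⟨hB1, a, ha, hle⟩
    exact h B1 hB1 ⟨a, ha, hle⟩
  have hB1e := elab_mono hB1B hBe
  obtain ⟨n1, hn1⟩ := elab_card hp hB1e
  have hB1c : ¬ IsCyclic B1 := by
    have h1 : Nat.card B ≤ Nat.card B1 * p := by
      have h2 := card_sup_mul_card_inf (H := Subgroup.zpowers a) (K := B1)
        (le_nz_of_le_cz ((Subgroup.zpowers_le.2 ha).trans
          ((comm_iff_le_cz.1 hBe.1).trans (cz_anti hB1B))))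
      have h3 : Nat.card ↥(Subgroup.zpowers a) ≤ p := by
        rw [Nat.card_zpowers]
        exact Nat.le_of_dvd hp.pos (orderOf_dvd_of_pow_eq_one (hBe.2 a ha))
      have h4 : Nat.card B ≤ Nat.card ↥(Subgroup.zpowers a ⊔ B1) := by
        rw [sup_comm]
        exact Nat.le_of_dvd (card_pos' _) (Subgroup.card_dvd_of_le hB1a)
      have h5 := card_pos' (Subgroup.zpowers a ⊓ B1)
      calc Nat.card B ≤ Nat.card ↥(Subgroup.zpowers a ⊔ B1) := h4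
        _ ≤ Nat.card ↥(Subgroup.zpowers a ⊔ B1) * Nat.card ↥(Subgroup.zpowers a ⊓ B1) :=
          Nat.le_mul_of_pos_right _ h5
        _ = Nat.card ↥(Subgroup.zpowers a) * Nat.card B1 := h2
        _ ≤ p * Nat.card B1 := Nat.mul_le_mul_right _ h3
        _ = _ := mul_comm _ _
    rw [hBc, hn1, ← pow_succ] at h1
    have h2 : 3 ≤ n1 + 1 := (Nat.pow_le_pow_iff_right hp.one_lt).1 h1
    obtain ⟨m, rfl⟩ : ∃ m, n1 = m + 2 := ⟨n1 - 2, by omega⟩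
    exact not_cyclic_of_elab hp hB1e hn1
  haveI := hB1e.1
  obtain ⟨b, hb, hb1, hbN2⟩ : ∃ b ∈ B1, b ≠ 1 ∧ ¬ (Q₂ ⊓ 𝓝(D)) ⊓ Subgroup.centralizer {b} ≤ D := by
    by_contra h
    push Not at h
    apply hN2
    rw [← CfsgLib.Coprime2.generation_noncyclic (K := Q₂ ⊓ 𝓝(D)) hB1c ((hB1B.trans hBE).trans hN2E)
      (cop_le (hqcop _ (hQ₂.1.le inf_le_left)) hB1B le_rfl)]
    refine iSup₂_le ?_
    rintro b ⟨hb, hb1⟩
    exact h b hb hb1
  have hbN1 : ¬ (Q₁ ⊓ 𝓝(D)) ⊓ Subgroup.centralizer {b} ≤ D := by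
    intro h
    apply hne
    refine le_trans ?_ h
    exact inf_le_inf_left _ (Subgroup.centralizer_le (Set.singleton_subset_iff.2 hb))
  have hbE : b ∈ E := hBE (hB1B hb)
  have hEcomm : ∀ x ∈ E, ∀ y ∈ E, x * y = y * x := by
    intro x hx y hy
    exact congrArg Subtype.val (hEc.is_comm.comm (⟨x, hx⟩ : E) ⟨y, hy⟩)
  have hEb : E ≤ Subgroup.centralizer ({b} : Set G) := by
    intro x hx
    rw [Subgroup.mem_centralizer_singleton_iff]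
    exact hEcomm x hx b hbE
  set Z : Subgroup G := zpowers b with hZ
  have hcZ : Subgroup.centralizer ({b} : Set G) ≤ 𝓝(Z) := by
    rw [← Subgroup.centralizer_closure, ← Subgroup.zpowers_eq_closure]
    exact cz_le_nz _
  have hZp : IsPGroup p Z := hEp.to_le (zpowers_le.mpr hbE)
  have hZ1 : Z ≠ ⊥ := by rw [hZ, Ne, zpowers_eq_bot]; exact hb1
  have hX := hloc Z hZp hZ1
  have hEX : E ≤ 𝓝(Z) := hEb.trans hcZ
  set O : Subgroup G := (pPrimeCore p ↥(𝓝(Z))).map (𝓝(Z)).subtype with hO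
  have hOp : ¬ p ∣ Nat.card O := by
    intro h
    have h1 : Nat.card O ∣ Nat.card (pPrimeCore p ↥(𝓝(Z))) := card_map_dvd _ _
    have h2 : (Nat.card (pPrimeCore p ↥(𝓝(Z)))).Coprime p := CfsgLib.Cores.pPrimeCore_coprime p
    exact (Nat.Prime.coprime_iff_not_dvd hp).mp h2.symm (h.trans h1)
  have hEO : E ≤ 𝓝(O) := by
    intro x hx
    rw [mem_normalizer_iff]
    have hn' : ∀ x ∈ 𝓝(Z), ∀ y ∈ O, x * y * x⁻¹ ∈ O := by
      rintro x hx _ ⟨y, hy, rfl⟩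
      have hN : (pPrimeCore p ↥(𝓝(Z))).Normal := inferInstance
      exact ⟨⟨x, hx⟩ * y * ⟨x, hx⟩⁻¹, hN.conj_mem y hy ⟨x, hx⟩, rfl⟩
    intro y
    refine ⟨hn' x (hEX hx) y, fun h => ?_⟩
    have := hn' x⁻¹ (inv_mem (hEX hx)) _ h
    have e : x⁻¹ * (x * y * x⁻¹) * x⁻¹⁻¹ = y := by group
    rwa [e] at this
  -- the local subgroups
  have hEcb : E ≤ 𝓝(Subgroup.centralizer ({b} : Set G)) := hEb.trans le_normalizer
  set R1 : Subgroup G := (Q₁ ⊓ 𝓝(D)) ⊓ Subgroup.centralizer {b} with hR1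
  set R2 : Subgroup G := (Q₂ ⊓ 𝓝(D)) ⊓ Subgroup.centralizer {b} with hR2
  have hR1E : E ≤ 𝓝(R1) := le_nz_inf hN1E hEcb
  have hR2E : E ≤ 𝓝(R2) := le_nz_inf hN2E hEcb
  have hR1q : IsPi {q} R1 := hQ₁.1.le (inf_le_left.trans inf_le_left)
  have hR2q : IsPi {q} R2 := hQ₂.1.le (inf_le_left.trans inf_le_left)
  have hnotp : ∀ R : Subgroup G, IsPi {q} R → ¬ p ∣ Nat.card R := by
    intro R hR h
    have := hR p hp h
    rw [Set.mem_singleton_iff] at this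
    exact hqp this.symm
  have hR1O : R1 ≤ O := local_amb hX hcl hEX (inf_le_right.trans hcZ) hEp hEfull (hnotp R1 hR1q) hR1E
  have hR2O : R2 ≤ O := local_amb hX hcl hEX (inf_le_right.trans hcZ) hEp hEfull (hnotp R2 hR2q) hR2E
  set K : Subgroup G := O ⊓ 𝓝(D) with hK
  have hKE : E ≤ 𝓝(K) := le_nz_inf hEO hEN
  have hKp : ¬ p ∣ Nat.card K := fun h => hOp (h.trans (card_dvd_of_le inf_le_left))
  have hcopK : (Nat.card E).Coprime (Nat.card K) := CfsgLib.Sig.coprime_of_not_dvd hEp hKp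
  have hEs : Group.IsSolvable E := CfsgLib.PQ.solvable_of_pgroup hEp
  have hR1K : R1 ≤ K := le_inf hR1O (inf_le_left.trans inf_le_right)
  have hR2K : R2 ≤ K := le_inf hR2O (inf_le_left.trans inf_le_right)
  obtain ⟨P1, hRP1, hEP1⟩ := Cfsg.Agent.S0025.result E K hKE hcopK (Or.inl hEs) q R1 hR1K
    (hR1q.isPGroup hq) hR1E
  obtain ⟨P2, hRP2, hEP2⟩ := Cfsg.Agent.S0025.result E K hKE hcopK (Or.inl hEs) q R2 hR2K
    (hR2q.isPGroup hq) hR2E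
  obtain ⟨c, hcE, hcP⟩ := Cfsg.Agent.S0024.result E K hKE hcopK (Or.inl hEs) q P1 P2 hEP1 hEP2
  set S1 : Subgroup G := (P1 : Subgroup K).map K.subtype with hS1
  set S2 : Subgroup G := (P2 : Subgroup K).map K.subtype with hS2
  have hS12 : S1 ^ᵍ (c : G) = S2 := by
    have h1 := CfsgLib.Coprime.map_subtype_conj_smul c (P1 : Subgroup K)
    have h2 : (MulAut.conj c • (P1 : Subgroup K)) = (P2 : Subgroup K) := by
      rw [← hcP]; rfl
    rw [h2] at h1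
    exact h1.symm
  have hS1K : S1 ≤ K := map_subtype_le _
  have hS1q : IsPi {q} S1 := isPi_of_isPGroup hq (P1.isPGroup'.map _)
  have hcK : (c : G) ∈ piCoreOf (primesNotDvd p) 𝓒(E) := by
    apply cent_core hEfull hcE
    have h1 : orderOf (c : G) ∣ Nat.card K := by
      rw [Subgroup.orderOf_coe]; exact orderOf_dvd_natCard c
    have h2 : ¬ p ∣ orderOf (c : G) := fun h => hKp (h.trans h1)
    exact ((Nat.Prime.coprime_iff_not_dvd hp).mpr h2).symm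
  have hcnE : (c : G) ∈ 𝓝(E) := cz_le_nz E hcE
  have hcD : D ^ᵍ (c : G) = D := mem_nz.1 (mem_inf.mp c.2).2
  have hS1D : S1 ≤ 𝓝(D) := hS1K.trans inf_le_right
  obtain ⟨T1, hT1, hDT1⟩ := exists_maxInv (H := ⊤) (A := E) (π := {q}) (R := S1 ⊔ D)
    (mem_inv_top.2 ⟨hS1q.sup hDpi hS1D, le_nz_sup hEP1 hED⟩)
  have hT2 : T1 ^ᵍ (c : G) ∈ maxInvSubgroups ⊤ E {q} := maxInv_cj hT1 hcnE
  have hST2 : S2 ≤ T1 ^ᵍ (c : G) := by rw [← hS12]; exact cj_mono (le_sup_left.trans hDT1) _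
  have hDT2 : D ≤ T1 ^ᵍ (c : G) := by
    conv_lhs => rw [← hcD]
    exact cj_mono (le_sup_right.trans hDT1) _
  have hle : ∀ X : Subgroup G, Nat.card X ≤ Nat.card G := fun X =>
    Nat.le_of_dvd Nat.card_pos (Subgroup.card_subgroup_dvd_card X)
  have hgt1 : D < Q₁ ⊓ T1 := by
    refine lt_of_le_of_ne (le_inf inf_le_left (le_sup_right.trans hDT1)) ?_
    intro h
    apply hbN1
    rw [h]
    exact le_inf (inf_le_left.trans inf_le_left) (hRP1.trans (le_sup_left.trans hDT1))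
  have hgt2 : D < (T1 ^ᵍ (c : G)) ⊓ Q₂ := by
    refine lt_of_le_of_ne (le_inf hDT2 inf_le_right) ?_
    intro h
    apply hbN2
    rw [h]
    exact le_inf (hRP2.trans hST2) (inf_le_left.trans inf_le_left)
  obtain ⟨k1, hk1, e1⟩ := ih (Nat.card G - Nat.card ↥(Q₁ ⊓ T1)) (by
      rw [← hn]
      have h1 := card_lt hgt1
      have h2 := hle (Q₁ ⊓ T1)
      omega) Q₁ h₁ T1 hT1 rfl
  obtain ⟨k2, hk2, e2⟩ := ih (Nat.card G - Nat.card ↥((T1 ^ᵍ (c : G)) ⊓ Q₂)) (by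
      rw [← hn]
      have h1 := card_lt hgt2
      have h2 := hle ((T1 ^ᵍ (c : G)) ⊓ Q₂)
      omega) (T1 ^ᵍ (c : G)) hT2 Q₂ h₂ rfl
  refine ⟨k2 * (c * k1), mul_mem hk2 (mul_mem hcK hk1), ?_⟩
  rw [cj_mul, cj_mul, ← e1]
  exact e2

end CfsgLib.H7Tr
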