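import Cfsg.Agent.EqBase
import Mathlib
import Cfsg.Agent.LibBGCop
import Cfsg.Agent.LibSolvFrat

set_option autoImplicit false
set_option linter.style.haveILetI false

/-!
Coprime action on `p`-groups with `[P,A] = P`: fixed points modulo a subgroup with abelian quotient are trivial.
-/

namespace CfsgLib.HHMin

open Subgroup Cfsg CfsgLib.BGPi
open scoped commutatorElement

universe u
variable {X : Type u} [Group X] [Finite X]

/-- `P = [P,A]`, `P/N` abelian, then `C_{P/N}(A) = 1`. -/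
theorem fix_mem {p : ℕ} (hp : p.Prime) {A P N : Subgroup X} (hP : IsPGroup p P)
    (hAP : A ≤ 𝓝(P)) (hco : (Nat.card A).Coprime p) (hPA : ⁅P, A⁆ = P) (hNP : N ≤ P)
    (hPP : ⁅P, P⁆ ≤ N) : ∀ x ∈ P, (∀ a ∈ A, a * x * a⁻¹ * x⁻¹ ∈ N) → x ∈ N := by
  classical
  haveI : Fact p.Prime := ⟨hp⟩
  letI : Fintype A := Fintype.ofFinite A
  have hn : (N.subgroupOf P).Normal := by
    constructor
    rintro ⟨n, hnP⟩ hn ⟨g, hg⟩
    rw [mem_subgroupOf] at hn ⊢
    change g * n * g⁻¹ ∈ N
    have h1 : ⁅g, n⁆ ∈ N := hPP (Subgroup.commutator_mem_commutator hg hnP)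
    have h2 : g * n * g⁻¹ = ⁅g, n⁆ * n := by rw [commutatorElement_def]; group
    rw [h2]
    exact mul_mem h1 hn
  have hqc : ∀ a b : P ⧸ N.subgroupOf P, a * b = b * a := by
    intro a b
    obtain ⟨a, rfl⟩ := QuotientGroup.mk_surjective a
    obtain ⟨b, rfl⟩ := QuotientGroup.mk_surjective b
    rw [← QuotientGroup.mk_mul, ← QuotientGroup.mk_mul, QuotientGroup.eq, mem_subgroupOf]
    have h1 : ⁅(b : X)⁻¹, (a : X)⁻¹⁆ ∈ N :=
      hPP (Subgroup.commutator_mem_commutator (inv_mem b.2) (inv_mem a.2))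
    have h2 : (((a * b)⁻¹ * (b * a) : P) : X) = ⁅(b : X)⁻¹, (a : X)⁻¹⁆ := by
      rw [commutatorElement_def]
      push_cast
      group
    rw [h2]; exact h1
  letI : CommGroup (P ⧸ N.subgroupOf P) :=
    { (inferInstance : Group (P ⧸ N.subgroupOf P)) with mul_comm := hqc }
  let π : P →* P ⧸ N.subgroupOf P := QuotientGroup.mk' (N.subgroupOf P)
  let c : A → (P →* P) := fun a =>
    { toFun := fun v => ⟨a * v * a⁻¹, (mem_normalizer_iff.mp (hAP a.2) v).mp v.2⟩
      map_one' := by apply Subtype.ext; simp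
      map_mul' := by intro x y; apply Subtype.ext; simp }
  have hc : ∀ a v, ((c a v : P) : X) = a * v * a⁻¹ := fun a v => rfl
  let τ : P →* (P ⧸ N.subgroupOf P) := ∏ a : A, π.comp (c a)
  have hτ : ∀ x, τ x = ∏ a : A, π (c a x) := by
    intro x
    simp [τ, MonoidHom.finsetProd_apply]
  have hτc : ∀ (b : A) (x : P), τ (c b x) = τ x := by
    intro b x
    rw [hτ, hτ]
    apply Fintype.prod_equiv (Equiv.mulRight b)
    intro a
    congr 1
    apply Subtype.ext
    rw [hc, hc, hc]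
    simp [mul_assoc]
  have hle : P ≤ τ.ker.map P.subtype := by
    conv_lhs => rw [← hPA]
    rw [Subgroup.commutator_le]
    intro x hx b hb
    refine ⟨⟨x, hx⟩ * c ⟨b, hb⟩ (⟨x, hx⟩⁻¹), ?_, ?_⟩
    · change τ _ = 1
      rw [map_mul, hτc, map_inv, mul_inv_cancel]
    · change x * (b * x⁻¹ * b⁻¹) = ⁅x, b⁆
      rw [commutatorElement_def]; group
  intro x hx hfix
  have h1 : τ ⟨x, hx⟩ = 1 := by
    obtain ⟨y, hy, e⟩ := hle hx
    have : y = ⟨x, hx⟩ := Subtype.ext e
    rw [← this]; exact hy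
  have h2 : ∀ a : A, π (c a ⟨x, hx⟩) = π ⟨x, hx⟩ := by
    intro a
    have h3 : π (c a ⟨x, hx⟩ * ⟨x, hx⟩⁻¹) = 1 := by
      change ((c a ⟨x, hx⟩ * ⟨x, hx⟩⁻¹ : P) : P ⧸ N.subgroupOf P) = 1
      rw [QuotientGroup.eq_one_iff, mem_subgroupOf]
      exact hfix a a.2
    rw [map_mul, map_inv, mul_inv_eq_one] at h3
    exact h3
  rw [hτ, Finset.prod_congr rfl (fun a _ => h2 a), Finset.prod_const, Finset.card_univ,
    ← Nat.card_eq_fintype_card] at h1
  obtain ⟨k, hk⟩ := hP ⟨x, hx⟩
  have h3 : (π ⟨x, hx⟩) ^ (p ^ k) = 1 := by rw [← map_pow, hk, map_one]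
  have h4 : orderOf (π ⟨x, hx⟩) ∣ 1 := by
    have := Nat.dvd_gcd (orderOf_dvd_of_pow_eq_one h1) (orderOf_dvd_of_pow_eq_one h3)
    rwa [Nat.Coprime.gcd_eq_one (hco.pow_right k)] at this
  have h5 : π ⟨x, hx⟩ = 1 := orderOf_eq_one_iff.1 (Nat.dvd_one.1 h4)
  have h6 : (⟨x, hx⟩ : P) ∈ N.subgroupOf P := (QuotientGroup.eq_one_iff _).1 h5
  exact h6

/-- `Φ(P) = P' P^p` in ambient form. -/
theorem map_frattini {p : ℕ} (hp : p.Prime) {P : Subgroup X} (hP : IsPGroup p P) :
    (frattini ↥P).map P.subtype = phi p P := by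
  haveI : Fact p.Prime := ⟨hp⟩
  have hphiP := phi_le p P
  apply le_antisymm
  · have h1 : frattini ↥P ≤ (phi p P).subgroupOf P := by
      haveI : ((phi p P).subgroupOf P).Normal :=
        normal_subgroupOf hphiP (le_normalizer.trans (nz_le_nz_phi p P))
      apply CfsgLib.SolvFrat.frattini_le_of_elementary hp
      · rw [commutator_def, Subgroup.commutator_le]
        intro a _ b _
        rw [mem_subgroupOf]
        exact comm_le_phi p P (Subgroup.commutator_mem_commutator a.2 b.2)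
      · intro x
        rw [mem_subgroupOf]
        exact pow_mem_phi x.2
    have h2 := Subgroup.map_mono (f := P.subtype) h1
    rwa [subgroupOf_map hphiP] at h2
  · refine sup_le ?_ ((Subgroup.closure_le _).2 ?_)
    · rw [Subgroup.commutator_le]
      intro a ha b hb
      refine ⟨⁅(⟨a, ha⟩ : P), ⟨b, hb⟩⁆, CfsgLib.SolvFrat.commutator_le_frattini hp hP ?_, rfl⟩
      rw [commutator_def]
      exact Subgroup.commutator_mem_commutator trivial trivial
    · rintro y ⟨x, hx, rfl⟩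
      exact ⟨(⟨x, hx⟩ : P) ^ p, CfsgLib.SolvFrat.pow_mem_frattini hp hP _, rfl⟩

theorem map_commutator_eq {P : Subgroup X} : (_root_.commutator ↥P).map P.subtype = ⁅P, P⁆ := by
  rw [Subgroup.map_subtype_commutator]

theorem map_center_eq {P : Subgroup X} : (Subgroup.center ↥P).map P.subtype = P ⊓ 𝓒(P) := by
  ext x
  constructor
  · rintro ⟨z, hz, rfl⟩
    refine ⟨z.2, ?_⟩
    change (z : X) ∈ 𝓒(P)
    rw [mem_cz]
    intro y hy
    exact congrArg Subtype.val (Subgroup.mem_center_iff.1 hz ⟨y, hy⟩)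
  · rintro ⟨h1, h2⟩
    refine ⟨⟨x, h1⟩, Subgroup.mem_center_iff.2 fun y => Subtype.ext (h2 y y.2), rfl⟩

/-- Hall–Higman reduction. -/
theorem reduction {p : ℕ} (hp : p.Prime) (B A P : Subgroup X) (hP : IsPGroup p P)
    (hBP : B ≤ 𝓝(P)) (hAB : A ≤ B) (hAn : B ≤ 𝓝(A)) (hAp : (Nat.card A).Coprime p)
    (hnt : ⁅P, A⁆ ≠ ⊥) (hmin : ∀ U : Subgroup X, U < P → B ≤ 𝓝(U) → ⁅U, A⁆ = ⊥) :
    ⁅P, A⁆ = P ∧ (Cfsg.IsElementaryAbelian p P ∨
      (P ⊓ 𝓒(P) = phi p P ∧ ⁅P, P⁆ = phi p P ∧ (∀ z ∈ phi p P, z ^ p = 1))) ∧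
    (∀ U : Subgroup X, phi p P ≤ U → U ≤ P → B ≤ 𝓝(U) → U = phi p P ∨ U = P) ∧
    (p ≠ 2 → ∀ x ∈ P, x ^ p = 1) := by
  haveI : Fact p.Prime := ⟨hp⟩
  have hAP : A ≤ 𝓝(P) := hAB.trans hBP
  have hs := solvable_of_isPGroup hp hP
  have hc := coprime_card_of_pgroup hp hP hAp
  have hPA : ⁅P, A⁆ = P := by
    by_contra hne
    apply hnt
    rw [← cop_comm_comm hAP hc hs]
    exact hmin _ (lt_of_le_of_ne (comm_le_left hAP) hne) (le_nz_comm hBP hAn)
  have hPb : P ≠ ⊥ := by
    rintro rfl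
    apply hnt; simp
  have hphi := phi_lt hp hP hPb
  have hBphi : B ≤ 𝓝(phi p P) := hBP.trans (nz_le_nz_phi p P)
  -- subgroups `U` with `phi ≤ U < P` are central
  have hcent : ∀ U : Subgroup X, U < P → B ≤ 𝓝(U) → P ≤ 𝓝(U) → U ≤ 𝓒(P) := by
    intro U hU hBU hPU
    have e1 : ⁅U, A⁆ = ⊥ := hmin U hU hBU
    have e2 : ⁅⁅P, U⁆, A⁆ = ⊥ :=
      le_bot_iff.1 ((Subgroup.commutator_mono (comm_le_right hPU) le_rfl).trans e1.le)
    have e3 : ⁅⁅A, P⁆, U⁆ = ⊥ :=
      Subgroup.commutator_commutator_eq_bot_of_rotate e2 (by rw [e1]; simp)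
    rw [Subgroup.commutator_comm A P, hPA, comm_eq_bot_iff] at e3
    exact le_cz_comm.1 e3
  have hirr : ∀ U : Subgroup X, phi p P ≤ U → U ≤ P → B ≤ 𝓝(U) → U = phi p P ∨ U = P := by
    intro U hU hUP hBU
    by_cases h : U = P
    · exact Or.inr h
    · left
      have hlt := lt_of_le_of_ne hUP h
      have e1 : ⁅U, A⁆ = ⊥ := hmin U hlt hBU
      apply le_antisymm _ hU
      intro x hx
      apply fix_mem hp hP hAP hAp hPA hphi.le (comm_le_phi p P) x (hUP hx)
      intro a ha
      have h1 := (mem_cz.1 (comm_eq_bot_iff.1 e1 hx)) a ha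
      rw [h1, mul_inv_cancel_right, mul_inv_cancel]
      exact one_mem _
  by_cases hab : ⁅P, P⁆ = ⊥
  · -- abelian case
    have hPc : P ≤ 𝓒(P) := comm_eq_bot_iff.1 hab
    have hcomm : ∀ x ∈ P, ∀ y ∈ P, x * y = y * x := fun x hx y hy => mem_cz.1 (hPc hy) x hx
    let Ω : Subgroup X :=
      { carrier := {x | x ∈ P ∧ x ^ p = 1}
        one_mem' := ⟨one_mem _, one_pow _⟩
        mul_mem' := by
          rintro a b ⟨ha, ha1⟩ ⟨hb, hb1⟩
          refine ⟨mul_mem ha hb, ?_⟩
          have : Commute a b := hcomm a ha b hb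
          rw [this.mul_pow, ha1, hb1, one_mul]
        inv_mem' := by
          rintro a ⟨ha, ha1⟩
          exact ⟨inv_mem ha, by rw [inv_pow, ha1, inv_one]⟩ }
    have hΩP : Ω ≤ P := fun x hx => hx.1
    have hBΩ : B ≤ 𝓝(Ω) := by
      rw [le_nz]
      rintro b hb x ⟨hx, hx1⟩
      exact ⟨le_nz.1 hBP b hb x hx, by rw [conj_pow, hx1]; simp⟩
    have hΩ : Ω = P := by
      by_contra hne
      have e1 : ⁅Ω, A⁆ = ⊥ := hmin Ω (lt_of_le_of_ne hΩP hne) hBΩ
      have h1 : Ω = ⊥ := by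
        rw [eq_bot_iff]
        intro x hx
        apply fix_mem hp hP hAP hAp hPA bot_le hab.le x hx.1
        intro a ha
        have h1 := (mem_cz.1 (comm_eq_bot_iff.1 e1 hx)) a ha
        rw [h1, mul_inv_cancel_right, mul_inv_cancel]
        exact one_mem _
      -- but P has an element of order p
      have h2 : p ∣ Nat.card P := by
        obtain ⟨n, hn⟩ := IsPGroup.iff_card.1 hP
        rw [hn]
        rcases Nat.eq_zero_or_pos n with h0 | h0
        · exfalso; apply hPb; rw [h0, pow_zero] at hn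
          exact Subgroup.card_eq_one.1 hn
        · exact dvd_pow_self _ h0.ne'
      obtain ⟨x, hx⟩ := exists_prime_orderOf_dvd_card' p h2
      have h3 : (x : X) ∈ Ω := by
        refine ⟨x.2, ?_⟩
        have := pow_orderOf_eq_one x
        rw [hx] at this
        exact_mod_cast this
      rw [h1, Subgroup.mem_bot] at h3
      have h4 : x = 1 := Subtype.ext h3
      rw [h4, orderOf_one] at hx
      exact hp.one_lt.ne hx
    have hexp : ∀ x ∈ P, x ^ p = 1 := by
      intro x hx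
      rw [← hΩ] at hx
      exact hx.2
    exact ⟨hPA, Or.inl ⟨⟨⟨fun a b => Subtype.ext (hcomm a a.2 b b.2)⟩⟩, hexp⟩, hirr, fun _ => hexp⟩
  · -- nonabelian case
    have hPnphi : P ≤ 𝓝(phi p P) := le_normalizer.trans (nz_le_nz_phi p P)
    have h1 : phi p P ≤ 𝓒(P) := hcent _ hphi hBphi hPnphi
    have hZP : P ⊓ 𝓒(P) < P := by
      refine lt_of_le_of_ne inf_le_left fun h => hab ?_
      rw [comm_eq_bot_iff]
      exact inf_eq_left.1 h
    have hBZ : B ≤ 𝓝(P ⊓ 𝓒(P)) := le_nz_inf hBP (le_nz_cz hBP)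
    have e1 : ⁅P ⊓ 𝓒(P), A⁆ = ⊥ := hmin _ hZP hBZ
    have h2 : P ⊓ 𝓒(P) ≤ ⁅P, P⁆ := by
      intro x hx
      apply fix_mem hp hP hAP hAp hPA (Subgroup.commutator_le_self P) le_rfl x hx.1
      intro a ha
      have h1 := (mem_cz.1 (comm_eq_bot_iff.1 e1 hx)) a ha
      rw [h1, mul_inv_cancel_right, mul_inv_cancel]
      exact one_mem _
    have h3 : P ⊓ 𝓒(P) = phi p P := le_antisymm (h2.trans (comm_le_phi p P)) (le_inf hphi.le h1)
    have h4 : ⁅P, P⁆ = phi p P := le_antisymm (comm_le_phi p P) (h3.symm.le.trans h2)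
    -- exponent of phi
    have hcomexp : ∀ z ∈ phi p P, z ^ p = 1 := by
      have hz0 : ∀ z ∈ phi p P, ∀ y ∈ P, z * y = y * z := fun z hz y hy =>
        (mem_cz.1 (h1 hz) y hy).symm
      have hgen : ⁅P, P⁆ ≤ ({ carrier := {z | z ∈ phi p P ∧ z ^ p = 1}
                              one_mem' := ⟨one_mem _, one_pow _⟩
                              mul_mem' := by
                                rintro a b ⟨ha, ha1⟩ ⟨hb, hb1⟩
                                refine ⟨mul_mem ha hb, ?_⟩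
                                have : Commute a b := hz0 a ha b (hphi.le hb)
                                rw [this.mul_pow, ha1, hb1, one_mul]
                              inv_mem' := by
                                rintro a ⟨ha, ha1⟩
                                exact ⟨inv_mem ha, by rw [inv_pow, ha1, inv_one]⟩ } : Subgroup X) := by
        rw [Subgroup.commutator_le]
        intro x hx y hy
        have hzm : ⁅x, y⁆ ∈ phi p P := comm_le_phi p P (Subgroup.commutator_mem_commutator hx hy)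
        refine ⟨hzm, ?_⟩
        -- x * y = y * x * ⁅x⁻¹, y⁻¹⁆ ...
        set z := x⁻¹ * y⁻¹ * x * y with hz
        have hzphi : z ∈ phi p P := by
          apply comm_le_phi
          have : z = ⁅x⁻¹, y⁻¹⁆ := by rw [commutatorElement_def, hz]; group
          rw [this]
          exact Subgroup.commutator_mem_commutator (inv_mem hx) (inv_mem hy)
        have e2 : x * y = y * x * z := by rw [hz]; group
        have hzx : Commute z x := hz0 z hzphi x hx
        have hzy : Commute z y := hz0 z hzphi y hy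
        have e3 := pow_mul_class2 e2 hzx p
        have e4 : x ^ p * y = y * x ^ p := hz0 _ (pow_mem_phi hx) y hy
        rw [e4] at e3
        have e5 : z ^ p = 1 := mul_eq_left.1 e3.symm
        have e6 : ⁅x, y⁆ = z := by
          have : x * y = z * (y * x) := by
            rw [e2, (hzy.mul_right hzx).eq]
          rw [commutatorElement_def, this]; group
        rw [e6]; exact e5
      rw [h4] at hgen
      intro z hz
      exact (hgen hz).2
    refine ⟨hPA, Or.inr ⟨h3, h4, hcomexp⟩, hirr, ?_⟩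
    intro hp2
    have hmulpow : ∀ x ∈ P, ∀ y ∈ P, (x * y) ^ p = x ^ p * y ^ p := by
      intro x hx y hy
      set z := y⁻¹ * x⁻¹ * y * x with hz
      have hzP : z ∈ phi p P := by
        apply comm_le_phi
        have : z = ⁅y⁻¹, x⁻¹⁆ := by rw [commutatorElement_def, hz]; group
        rw [this]
        exact Subgroup.commutator_mem_commutator (inv_mem hy) (inv_mem hx)
      have e2 : y * x = x * y * z := by rw [hz]; group
      have hzx : Commute z x := (mem_cz.1 (h1 hzP) x hx).symm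
      have hzy : Commute z y := (mem_cz.1 (h1 hzP) y hy).symm
      exact mul_pow_odd hp2 hp e2 hzx hzy (hcomexp z hzP)
    have hgen : ⁅P, A⁆ ≤ ({ carrier := {x | x ∈ P ∧ x ^ p = 1}
                            one_mem' := ⟨one_mem _, one_pow _⟩
                            mul_mem' := by
                              rintro a b ⟨ha, ha1⟩ ⟨hb, hb1⟩
                              exact ⟨mul_mem ha hb, by rw [hmulpow a ha b hb, ha1, hb1, one_mul]⟩
                            inv_mem' := by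
                              rintro a ⟨ha, ha1⟩
                              exact ⟨inv_mem ha, by rw [inv_pow, ha1, inv_one]⟩ } : Subgroup X) := by
      rw [Subgroup.commutator_le]
      intro x hx a ha
      have hx' : a * x⁻¹ * a⁻¹ ∈ P := le_nz.1 hAP a ha _ (inv_mem hx)
      have e : ⁅x, a⁆ = x * (a * x⁻¹ * a⁻¹) := by rw [commutatorElement_def]; group
      refine ⟨by rw [e]; exact mul_mem hx hx', ?_⟩
      have hxp : x ^ p ∈ P ⊓ 𝓒(P) := by rw [h3]; exact pow_mem_phi hx
      have h5 : a * x ^ p = x ^ p * a := mem_cz.1 (comm_eq_bot_iff.1 e1 hxp) a ha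
      rw [e, hmulpow x hx _ hx', conj_pow, inv_pow]
      have h6 : a * (x ^ p)⁻¹ * a⁻¹ = (x ^ p)⁻¹ := by
        rw [mul_inv_eq_iff_eq_mul, eq_inv_mul_iff_mul_eq, ← mul_assoc, ← h5, mul_inv_cancel_right]
      rw [h6, mul_inv_cancel]
    rw [hPA] at hgen
    intro x hx
    exact (hgen hx).2

end CfsgLib.HHMin
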