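import Mathlib
import Cfsg.Agent.LibHc2H13
import Cfsg.Agent.LibH22SpOrder
import Cfsg.Agent.LibH22SpDec
import Cfsg.Agent.LibH22HermO2

/-! Homocyclic Sylow subgroups of symplectic groups (seat helper13). -/

namespace CfsgLib.Hc

open Module Cfsg.Agent.H22

theorem sp_val {F : Type*} [Field F] [Fintype F] {n r : ℕ} (hr : r.Prime) (hr2 : r ≠ 2) (hrn : n < r) (hrq : ¬ r ∣ Fintype.card F) :
    (Nat.card (Matrix.symplecticGroup (Fin n) F)).factorization r =
      ((Finset.Icc 1 n).filter (fun i => orderOf (Fintype.card F : ZMod r) ∣ 2 * i)).card * padicValNat r (Fintype.card F ^ orderOf (Fintype.card F : ZMod r) - 1) := by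
  classical
  obtain ⟨q, hq⟩ : ∃ q, q = Fintype.card F := ⟨_, rfl⟩
  have hq1 : 1 < q := by rw [hq]; exact Fintype.one_lt_card
  rw [card_sp, ← hq]
  rw [← hq] at hrq
  have h1 : ∏ i ∈ Finset.range n, (q ^ (2 * (i + 1)) - 1) = ∏ i ∈ (Finset.Icc 1 n).image (fun i => 2 * i), (q ^ i - 1) := by
    rw [Finset.prod_image (fun a _ b _ h => by simpa using h), Finset.range_eq_Ico, Finset.prod_Ico_add' (fun i => q ^ (2 * i) - 1) 0 n 1]
    rfl
  have hne1 : q ^ n ^ 2 ≠ 0 := pow_ne_zero _ (by omega)
  have hS : ∀ i ∈ (Finset.Icc 1 n).image (fun i => 2 * i), 0 < i ∧ ¬ r ∣ i ∧ (r ≠ 2 ∨ i < r) := by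
    intro i hi
    rw [Finset.mem_image] at hi
    obtain ⟨j, hj, rfl⟩ := hi
    rw [Finset.mem_Icc] at hj
    refine ⟨by omega, fun h => ?_, Or.inl hr2⟩
    rcases (hr.dvd_mul).1 h with h | h
    · have := Nat.le_of_dvd two_pos h
      have := hr.two_le
      omega
    · have := Nat.le_of_dvd (by omega) h; omega
  have hne2 : ∏ i ∈ (Finset.Icc 1 n).image (fun i => 2 * i), (q ^ i - 1) ≠ 0 := Finset.prod_ne_zero_iff.2 fun i hi => by
    have : q ^ 1 ≤ q ^ i := Nat.pow_le_pow_right (by omega) (hS i hi).1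
    rw [pow_one] at this
    omega
  rw [h1, Nat.factorization_mul hne1 hne2, Finsupp.add_apply, val_prod hr hq1 hrq _ hS,
    Nat.factorization_eq_zero_of_not_dvd (fun h => hrq (hr.dvd_of_dvd_pow h)), zero_add]
  congr 1
  rw [Finset.filter_image, Finset.card_image_of_injective _ (fun a b h => by simpa using h)]

/-- the Levi factor -/
theorem gl_sp {F : Type*} [Field F] (n : ℕ) : ∃ f : GL (Fin n) F →* Matrix.symplecticGroup (Fin n) F, Function.Injective f := by
  classical
  let g : GL (Fin n) F → Matrix (Fin n ⊕ Fin n) (Fin n ⊕ Fin n) F := fun A =>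
    Matrix.fromBlocks (A : Matrix (Fin n) (Fin n) F) 0 0 ((A⁻¹ : GL (Fin n) F) : Matrix (Fin n) (Fin n) F).transpose
  have hg : ∀ A, g A ∈ Matrix.symplecticGroup (Fin n) F := by
    intro A
    rw [SymplecticGroup.mem_iff]
    show Matrix.fromBlocks _ _ _ _ * Matrix.J (Fin n) F * (Matrix.fromBlocks _ _ _ _).transpose = Matrix.J (Fin n) F
    rw [Matrix.J, Matrix.fromBlocks_transpose, Matrix.fromBlocks_multiply, Matrix.fromBlocks_multiply]
    have h1 : (A : Matrix (Fin n) (Fin n) F) * ((A⁻¹ : GL (Fin n) F) : Matrix (Fin n) (Fin n) F) = 1 := Units.mul_inv A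
    have h2 : ((A⁻¹ : GL (Fin n) F) : Matrix (Fin n) (Fin n) F).transpose * (A : Matrix (Fin n) (Fin n) F).transpose = 1 := by
      rw [← Matrix.transpose_mul, h1, Matrix.transpose_one]
    rw [Matrix.coe_units_inv] at h1 h2
    simp [h1, h2]
  refine ⟨{ toFun := fun A => ⟨g A, hg A⟩
            map_one' := ?_
            map_mul' := ?_ }, ?_⟩
  · apply Subtype.ext
    show Matrix.fromBlocks _ _ _ _ = 1
    simp
  · intro A B
    apply Subtype.ext
    show Matrix.fromBlocks _ _ _ _ = Matrix.fromBlocks _ _ _ _ * Matrix.fromBlocks _ _ _ _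
    rw [Matrix.fromBlocks_multiply]
    simp [Matrix.transpose_mul]
  · intro A B h
    have h1 : g A = g B := congrArg Subtype.val h
    have h2 := congrArg Matrix.toBlocks₁₁ h1
    rw [Matrix.toBlocks_fromBlocks₁₁, Matrix.toBlocks_fromBlocks₁₁] at h2
    exact Units.ext h2

abbrev VV (F L : Type*) (a k : ℕ) := (Fin a → L) × (Fin k ⊕ Fin k → F)

/-- non-split tori of symplectic groups -/
theorem torus_sp_aux {F L : Type*} [Field F] [Fintype F] [Field L] [Fintype L] [Algebra F L] {n e a m : ℕ} (hea : a * e ≤ n) (hm : m ∣ Fintype.card F ^ e + 1)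
    (hL : Fintype.card L = (Fintype.card F ^ e) ^ 2) (hfr : finrank F L = 2 * e) (σ : L ≃ₐ[F] L) (hσ : ∀ x, σ x = x ^ (Fintype.card F ^ e))
    (hσσ : ∀ x, σ (σ x) = x) (hσne : ∃ θ : L, θ - σ θ ≠ 0) :
    ∃ f : (Fin a → Multiplicative (ZMod m)) →* Matrix.symplecticGroup (Fin n) F, Function.Injective f := by
  classical
  haveI : FiniteDimensional F L := Module.Finite.of_finite
  obtain ⟨θ, hθ⟩ := hσne
  obtain ⟨lam, hlam⟩ : ∃ l : L, l = θ - σ θ := ⟨_, rfl⟩
  have hlam0 : lam ≠ 0 := by rw [hlam]; exact hθ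
  have hlamσ : σ lam = - lam := by rw [hlam, map_sub, hσσ]; ring
  obtain ⟨t, ht⟩ : ∃ t : L, t + σ t = 1 := by
    obtain ⟨s, hs⟩ : ∃ s : L, s + σ s ≠ 0 := by
      by_contra hcon
      push Not at hcon
      have h1 := hcon 1
      rw [map_one] at h1
      apply hθ
      have h2 := hcon (σ θ)
      rw [hσσ] at h2
      linear_combination h2 - σ θ * h1
    refine ⟨s / (s + σ s), ?_⟩
    rw [map_div₀, map_add, hσσ, add_comm (σ s) s, ← add_div, div_self hs]
  -- trace of skew elements
  have htr : ∀ z : L, σ z = -z → Algebra.trace F L z = 0 := by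
    intro z hz
    have h1 : z = t * z - σ (t * z) := by rw [map_mul, hz]; linear_combination (-z) * ht
    have h2 : Algebra.trace F L (σ (t * z)) = Algebra.trace F L (t * z) := Algebra.trace_eq_of_algEquiv σ (t * z)
    rw [h1, map_sub, h2, sub_self]
  have hσinv : ∀ z : L, Algebra.trace F L (σ z) = Algebra.trace F L z := fun z => Algebra.trace_eq_of_algEquiv σ z
  let B : LinearMap.BilinForm F (VV F L a (n - a * e)) := LinearMap.mk₂ F (fun v w => ∑ i, Algebra.trace F L (lam * v.1 i * σ (w.1 i)) + spB (n - a * e) F v.2 w.2)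
    (fun v v' w => by
      simp only [Prod.fst_add, Prod.snd_add, Pi.add_apply, mul_add, add_mul, map_add, LinearMap.add_apply, Finset.sum_add_distrib]; abel)
    (fun c v w => by
      simp only [Prod.smul_fst, Prod.smul_snd, Pi.smul_apply, map_smul, LinearMap.smul_apply, smul_eq_mul, mul_add, Finset.mul_sum]
      congr 1
      refine Finset.sum_congr rfl fun i _ => ?_
      rw [← smul_eq_mul c, ← map_smul, mul_smul_comm, smul_mul_assoc])
    (fun v w w' => by
      simp only [Prod.fst_add, Prod.snd_add, Pi.add_apply, mul_add, map_add, Finset.sum_add_distrib]; abel)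
    (fun c v w => by
      simp only [Prod.smul_fst, Prod.smul_snd, Pi.smul_apply, map_smul, smul_eq_mul, mul_add, Finset.mul_sum]
      congr 1
      refine Finset.sum_congr rfl fun i _ => ?_
      rw [mul_smul_comm, map_smul, smul_eq_mul])
  have hB : ∀ v w, B v w = ∑ i, Algebra.trace F L (lam * v.1 i * σ (w.1 i)) + spB (n - a * e) F v.2 w.2 := fun v w => rfl
  have hAlt : B.IsAlt := by
    intro v
    rw [hB]
    have h1 : spB (n - a * e) F v.2 v.2 = 0 := spB_isAlt v.2
    rw [h1, add_zero]
    refine Finset.sum_eq_zero fun i _ => htr _ ?_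
    rw [map_mul, map_mul, hσσ, hlamσ]; ring
  have hnd : ∀ v, (∀ w, B v w = 0) → v = 0 := by
    intro v hv
    have h1 : v.1 = 0 := by
      funext i
      by_contra hne
      have h2 : ∀ y : L, Algebra.trace F L (lam * v.1 i * y) = 0 := by
        intro y
        have h3 := hv (Pi.single i (σ y), 0)
        rw [hB, map_zero, add_zero, Finset.sum_eq_single i] at h3
        · simpa [hσσ] using h3
        · intro j _ hj
          simp only
          rw [Pi.single_eq_of_ne hj, map_zero, mul_zero, map_zero]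
        · intro h; exact absurd (Finset.mem_univ _) h
      have h4 := (traceForm_nondegenerate F L).1 (lam * v.1 i) (fun y => h2 y)
      rcases mul_eq_zero.1 h4 with h5 | h5
      · exact hlam0 h5
      · exact hne h5
    have h2 : v.2 = 0 := by
      apply spB_nondeg.1 v.2
      intro w
      have h3 := hv (0, w)
      rw [hB] at h3
      simpa [h1] using h3
    exact Prod.ext h1 h2
  have hV : finrank F (VV F L a (n - a * e)) = 2 * n := by
    rw [finrank_prod, finrank_pi_fintype, finrank_pi]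
    simp only [hfr, Finset.sum_const, Finset.card_univ, Fintype.card_fin, smul_eq_mul, Fintype.card_sum]
    have : a * (2 * e) = 2 * (a * e) := by ring
    omega
  obtain ⟨φ, hφ⟩ := exists_sp_iso B hAlt hnd hV
  -- the group
  let U : Subgroup Lˣ := (powMonoidHom (Fintype.card F ^ e + 1) : Lˣ →* Lˣ).ker
  have hUc : Nat.card U = Fintype.card F ^ e + 1 := by
    rw [← card_norm_fiber hL 1 one_ne_zero (one_pow _)]
    refine Nat.card_congr (Equiv.ofBijective (fun d => ⟨((d.1 : Lˣ) : L), ?_⟩) ⟨?_, ?_⟩)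
    · exact congrArg Units.val ((MonoidHom.mem_ker).1 d.2)
    · intro x y h
      exact Subtype.ext (Units.ext (congrArg Subtype.val h))
    · rintro ⟨x, hx⟩
      have hx0 : x ≠ 0 := by rintro rfl; rw [zero_pow (by omega)] at hx; exact zero_ne_one hx
      exact ⟨⟨Units.mk0 x hx0, Units.ext hx⟩, rfl⟩
  have hUs : ∀ u : U, ((u.1 : Lˣ) : L) * σ ((u.1 : Lˣ) : L) = 1 := by
    intro u
    rw [hσ, ← pow_succ']
    exact congrArg Units.val ((MonoidHom.mem_ker).1 u.2)
  obtain ⟨ι, hι⟩ := cyc_embed (G := U) (m := m) (by rw [hUc]; exact hm)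
  let φ0 : (Fin a → U) →* End F (VV F L a (n - a * e)) :=
    { toFun := fun c => (LinearMap.mulLeft F (fun i => ((c i).1 : L))).prodMap LinearMap.id
      map_one' := by
        refine LinearMap.ext fun v => Prod.ext (funext fun i => ?_) rfl
        show ((1 : U).1 : L) * v.1 i = v.1 i
        simp
      map_mul' := fun c c' => by
        refine LinearMap.ext fun v => Prod.ext (funext fun i => ?_) rfl
        show (((c i * c' i : U).1 : Lˣ) : L) * v.1 i = ((c i).1 : L) * (((c' i).1 : L) * v.1 i)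
        rw [Subgroup.coe_mul, Units.val_mul, mul_assoc] }
  have hφ0a : ∀ c v, φ0 c v = ((fun i => ((c i).1 : L) * v.1 i), v.2) := fun c v => rfl
  have hφ0 : Function.Injective φ0 := by
    intro c c' h
    funext i
    have h1 := LinearMap.congr_fun h ((1 : Fin a → L), (0 : Fin (n - a * e) ⊕ Fin (n - a * e) → F))
    have h2 := congrFun (congrArg Prod.fst h1) i
    rw [hφ0a, hφ0a] at h2
    have h3 : ((c i).1 : L) * 1 = ((c' i).1 : L) * 1 := h2
    rw [mul_one, mul_one] at h3
    exact Subtype.ext (Units.ext h3)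
  have hiso : ∀ c v w, B (φ0 c v) (φ0 c w) = B v w := by
    intro c v w
    rw [hB, hB, hφ0a, hφ0a]
    congr 1
    refine Finset.sum_congr rfl fun i _ => ?_
    congr 1
    simp only
    rw [map_mul]
    linear_combination (lam * v.1 i * σ (w.1 i)) * hUs (c i)
  let φ1 : (Fin a → U) →* (End F (VV F L a (n - a * e)))ˣ := (Units.map φ0).comp (toUnits).toMonoidHom
  let φ2 : (Fin a → U) →* ((Fin n ⊕ Fin n → F) ≃ₗ[F] (Fin n ⊕ Fin n → F)) :=
    { toFun := fun c => φ.trans ((LinearMap.GeneralLinearGroup.generalLinearEquiv F (VV F L a (n - a * e)) (φ1 c)).trans φ.symm)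
      map_one' := by
        rw [map_one, map_one]
        ext1 v
        simp
      map_mul' := fun c c' => by
        rw [map_mul, map_mul]
        ext1 v
        simp }
  have hφ2a : ∀ c v, φ (φ2 c v) = φ0 c (φ v) := by
    intro c v
    show φ (φ.symm (LinearMap.GeneralLinearGroup.generalLinearEquiv F (VV F L a (n - a * e)) (φ1 c) (φ v))) = _
    rw [LinearEquiv.apply_symm_apply]
    rfl
  have hφ2 : Function.Injective φ2 := by
    intro c c' h
    apply hφ0
    refine LinearMap.ext fun v => ?_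
    obtain ⟨u, rfl⟩ := φ.surjective v
    rw [← hφ2a, ← hφ2a, h]
  have hφ2r : ∀ c, φ2 c ∈ (spToLin (m := n) (F := F)).range := by
    intro c
    obtain ⟨A, hA⟩ := exists_spToLin (φ2 c) (by
      intro u v
      rw [← hφ, ← hφ, hφ2a, hφ2a, hiso])
    exact ⟨A, hA⟩
  let φ3 : (Fin a → U) →* (spToLin (m := n) (F := F)).range := φ2.codRestrict _ hφ2r
  have hφ3 : Function.Injective φ3 := fun x y h => hφ2 (congrArg Subtype.val h)
  let ε := (MonoidHom.ofInjective (spToLin_injective (m := n) (F := F))).symm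
  exact ⟨(ε.toMonoidHom.comp φ3).comp (ι.compLeft (Fin a)), (ε.injective.comp hφ3).comp (fun x y h => funext fun i => hι (congrFun h i))⟩


/-- non-split tori of symplectic groups -/
theorem torus_sp {F : Type*} [Field F] [Fintype F] {n e a m : ℕ} (he : 0 < e) (hea : a * e ≤ n) (hm : m ∣ Fintype.card F ^ e + 1) :
    ∃ f : (Fin a → Multiplicative (ZMod m)) →* Matrix.symplecticGroup (Fin n) F, Function.Injective f := by
  classical
  obtain ⟨p, hp⟩ := CharP.exists F
  haveI : Fact p.Prime := ⟨CharP.char_is_prime F p⟩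
  haveI : NeZero (2 * e) := ⟨by omega⟩
  letI : Fintype (FiniteField.Extension F p (2 * e)) := Fintype.ofFinite _
  have hL : Fintype.card (FiniteField.Extension F p (2 * e)) = (Fintype.card F ^ e) ^ 2 := by
    rw [← Nat.card_eq_fintype_card, FiniteField.natCard_extension, Nat.card_eq_fintype_card, ← pow_mul, mul_comm]
  obtain ⟨σ', hσ', hσ2', hσi'⟩ := exists_sigma hL
  have hσ : ∀ x, ((FiniteField.Extension.frob F p (2 * e)) ^ e) x = x ^ (Fintype.card F ^ e) := by
    intro x
    rw [FiniteField.Extension.frob_iterate_apply, Nat.card_eq_fintype_card]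
  refine torus_sp_aux hea hm hL (FiniteField.finrank_extension F p (2 * e)) ((FiniteField.Extension.frob F p (2 * e)) ^ e) hσ
    (fun x => by rw [hσ, hσ, ← hσ', ← hσ']; exact hσ2' x) ?_
  by_contra hcon
  push Not at hcon
  apply hσi'
  ext x
  rw [hσ', ← hσ]
  exact (sub_eq_zero.1 (hcon x)).symm

end CfsgLib.Hc
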