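import Mathlib
import Cfsg.Agent.LibFlg6H13

set_option autoImplicit false

open Module Polynomial

namespace CfsgLib.Homg

/-- roots of an irreducible polynomial over a finite field are conjugate -/
theorem root_pow {K L : Type*} [Field K] [Fintype K] [Field L] [Finite L] [Algebra K L] {g : K[X]} (hg : Irreducible g) {a b : L}
    (ha : aeval a g = 0) (hb : aeval b g = 0) : ∃ j : ℕ, b = a ^ (Fintype.card K ^ j) := by
  classical
  haveI : FiniteDimensional K L := Module.Finite.of_finite
  have hai : IsIntegral K a := Algebra.IsIntegral.isIntegral a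
  have hbi : IsIntegral K b := Algebra.IsIntegral.isIntegral b
  have h1 : Associated g (minpoly K a) := by
    have h2 : minpoly K a ∣ g := minpoly.dvd K a ha
    exact ((minpoly.irreducible hai).associated_of_dvd hg h2).symm
  have h2 : aeval b (minpoly K a) = 0 := by
    obtain ⟨u, hu⟩ := h1
    rw [← hu, map_mul, hb, zero_mul]
  have h3 : IsConjRoot K a b := (isConjRoot_iff_aeval_eq_zero hai).mpr h2
  obtain ⟨σ, hσ⟩ := isConjRoot_iff_exists_algEquiv.mp h3
  -- σ b = a
  obtain ⟨⟨i, hi⟩, hi2⟩ := (FiniteField.bijective_frobeniusAlgEquivOfAlgebraic_pow K L).2 σ⁻¹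
  refine ⟨i, ?_⟩
  have h4 : σ⁻¹ a = b := by
    rw [← hσ]
    exact σ.symm_apply_apply b
  rw [← h4, ← hi2]
  have h5 : ∀ (k : ℕ) (x : L), (FiniteField.frobeniusAlgEquivOfAlgebraic K L ^ k) x = x ^ (Fintype.card K ^ k) := by
    intro k
    induction k with
    | zero => intro x; simp
    | succ k ih =>
      intro x
      rw [pow_succ, AlgEquiv.mul_apply, ih, FiniteField.coe_frobeniusAlgEquivOfAlgebraic, ← pow_mul, ← pow_succ']
  exact h5 i a

section lin

variable {K V : Type*} [Field K] [Fintype K] [AddCommGroup V] [Module K V] [FiniteDimensional K V]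

theorem restrict_aeval (B : End K V) (W : Submodule K V) (hW : ∀ x ∈ W, B x ∈ W) (g : K[X]) (x : W) :
    ((aeval (B.restrict hW) g x : W) : V) = aeval B g (x : V) := by
  induction g using Polynomial.induction_on' with
  | add p q hp hq => rw [map_add, map_add, LinearMap.add_apply, LinearMap.add_apply, Submodule.coe_add, hp, hq]
  | monomial n a =>
    rw [aeval_monomial, aeval_monomial, Module.End.mul_apply, Module.End.mul_apply, Module.algebraMap_end_apply, Module.algebraMap_end_apply, Submodule.coe_smul]
    congr 1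
    induction n generalizing x with
    | zero => rfl
    | succ n ih => rw [pow_succ, pow_succ, Module.End.mul_apply, Module.End.mul_apply, ih]; rfl

theorem aeval_mem (B : End K V) (W : Submodule K V) (hW : ∀ x ∈ W, B x ∈ W) (g : K[X]) {x : V} (hx : x ∈ W) : aeval B g x ∈ W := by
  have h1 := restrict_aeval B W hW g ⟨x, hx⟩
  rw [← h1]
  exact Subtype.mem _

theorem aeval_comm (B C : End K V) (h : Commute B C) (g : K[X]) : Commute (aeval B g) C := by
  induction g using Polynomial.induction_on' with
  | add p q hp hq => rw [map_add]; exact hp.add_left hq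
  | monomial n a =>
    rw [aeval_monomial]
    exact Commute.mul_left (Algebra.commutes a C) (h.pow_left n)

/-- an invariant subspace of minimal dimension is killed by an irreducible polynomial -/
theorem exists_irred {r : ℕ} (hr : r.Prime) (hrF : (r : K) ≠ 0) (B : End K V) (hB : B ^ r = 1) (W : Submodule K V) (hW : ∀ x ∈ W, B x ∈ W)
    (hle : W ≤ LinearMap.range (B - 1)) (hd : finrank K W = orderOf ((Fintype.card K : ℕ) : ZMod r)) (hpos : 0 < finrank K W) :
    ∃ f : K[X], Irreducible f ∧ ∀ x ∈ W, aeval B f x = 0 := by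
  classical
  let C : End K W := B.restrict hW
  have hCi : IsIntegral K C := Algebra.IsIntegral.isIntegral C
  haveI : Nontrivial W := Module.nontrivial_of_finrank_pos hpos
  have key : ∀ g : K[X], (∀ x : W, aeval C g x = 0 → x = 0) ∨ aeval C g = 0 := by
    intro g
    let Y : Submodule K V := W ⊓ LinearMap.ker (aeval B g)
    have hY : ∀ x ∈ Y, B x ∈ Y := by
      rintro x ⟨hx1, hx2⟩
      refine ⟨hW x hx1, ?_⟩
      show aeval B g (B x) = 0
      have h1 := (aeval_comm B B (Commute.refl B) g)
      have h2 := LinearMap.congr_fun h1.eq x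
      rw [Module.End.mul_apply, Module.End.mul_apply] at h2
      rw [h2]
      have h3 : aeval B g x = 0 := hx2
      rw [h3, map_zero]
    have h1 := CfsgLib.Flg.dvd_finrank hr hrF B hB Y hY (inf_le_left.trans hle)
    rw [← hd] at h1
    have h2 : finrank K Y ≤ finrank K W := Submodule.finrank_mono inf_le_left
    rcases Nat.eq_zero_or_pos (finrank K Y) with h3 | h3
    · left
      intro x hx
      have h4 : (x : V) ∈ Y := ⟨x.2, by
        show aeval B g (x : V) = 0
        rw [← restrict_aeval B W hW g x, hx]; rfl⟩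
      rw [Submodule.finrank_eq_zero.mp h3] at h4
      exact Subtype.ext ((Submodule.mem_bot K).mp h4)
    · right
      have h4 : finrank K Y = finrank K W := le_antisymm h2 (Nat.le_of_dvd h3 h1)
      have h5 : Y = W := Submodule.eq_of_le_of_finrank_eq inf_le_left h4
      apply LinearMap.ext
      intro x
      apply Subtype.ext
      rw [restrict_aeval B W hW g x]
      have h6 : (x : V) ∈ Y := h5.symm ▸ x.2
      exact h6.2
  refine ⟨minpoly K C, ?_, ?_⟩
  · refine ⟨?_, ?_⟩
    · exact minpoly.not_isUnit K C
    · intro g h hgh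
      have h0 : minpoly K C ≠ 0 := minpoly.ne_zero hCi
      have h1 : aeval C g * aeval C h = 0 := by rw [← map_mul, ← hgh, minpoly.aeval]
      have hg0 : g ≠ 0 := by rintro rfl; rw [zero_mul] at hgh; exact h0 hgh
      have hh0 : h ≠ 0 := by rintro rfl; rw [mul_zero] at hgh; exact h0 hgh
      rcases key g with h2 | h2
      · left
        have h3 : aeval C h = 0 := by
          apply LinearMap.ext
          intro x
          apply h2
          have := LinearMap.congr_fun h1 x
          rwa [Module.End.mul_apply] at this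
        have h4 : minpoly K C ∣ h := minpoly.dvd K C h3
        rw [hgh] at h4
        obtain ⟨u, hu⟩ := h4
        apply IsUnit.of_mul_eq_one u
        have h5 : h * (g * u) = h * 1 := by rw [mul_one]; conv_rhs => rw [hu]
                                            ring
        exact mul_left_cancel₀ hh0 h5
      · right
        have h4 : minpoly K C ∣ g := minpoly.dvd K C h2
        rw [hgh] at h4
        obtain ⟨u, hu⟩ := h4
        apply IsUnit.of_mul_eq_one u
        have h5 : g * (h * u) = g * 1 := by rw [mul_one]; conv_rhs => rw [hu]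
                                            ring
        exact mul_left_cancel₀ hg0 h5
  · intro x hx
    have h1 := restrict_aeval B W hW (minpoly K C) ⟨x, hx⟩
    have h2 : aeval C (minpoly K C) = 0 := minpoly.aeval K C
    have h3 : (aeval (B.restrict hW) (minpoly K C)) ⟨x, hx⟩ = 0 := by
      show aeval C (minpoly K C) ⟨x, hx⟩ = 0
      rw [h2]; rfl
    rw [← h1, h3]; rfl

/-- if a nonzero nilpotent acts on a space of twice the minimal dimension then the space is homogeneous -/
theorem exists_irred2 {r : ℕ} (hr : r.Prime) (hrF : (r : K) ≠ 0) (B : End K V) (hB : B ^ r = 1) (N : End K V) (hBN : Commute B N) (hN : IsNilpotent N)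
    (U : Submodule K V) (hU : ∀ x ∈ U, B x ∈ U) (hUN : ∀ x ∈ U, N x ∈ U) (hle : U ≤ LinearMap.range (B - 1))
    (hd : finrank K U = 2 * orderOf ((Fintype.card K : ℕ) : ZMod r)) (hN0 : ∃ x ∈ U, N x ≠ 0) :
    ∃ f : K[X], Irreducible f ∧ ∀ x ∈ U, aeval B f x = 0 := by
  classical
  set k := orderOf ((Fintype.card K : ℕ) : ZMod r) with hk
  have hc : ∀ x, B (N x) = N (B x) := fun x => by
    rw [← Module.End.mul_apply, hBN.eq, Module.End.mul_apply]
  let n : U →ₗ[K] U := N.restrict hUN
  have hn : ∀ x : U, ((n x : U) : V) = N x := fun x => rfl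
  have hnpow : ∀ (j : ℕ) (x : U), (((n ^ j) x : U) : V) = (N ^ j) (x : V) := by
    intro j
    induction j with
    | zero => intro x; rfl
    | succ j ih => intro x; rw [pow_succ, pow_succ, Module.End.mul_apply, Module.End.mul_apply, ih, hn]
  let W : Submodule K V := U ⊓ LinearMap.ker N ⊓ Submodule.map N U
  have hWU : W ≤ U := fun x hx => hx.1.1
  have hW : ∀ x ∈ W, B x ∈ W := by
    rintro x ⟨⟨hx1, hx2⟩, y, hy, hyx⟩
    refine ⟨⟨hU x hx1, ?_⟩, B y, hU y hy, ?_⟩
    · show N (B x) = 0
      have : N x = 0 := hx2
      rw [← hc, this, map_zero]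
    · rw [← hc, hyx]
  -- W is nonzero
  have hW0 : 0 < finrank K W := by
    rw [Nat.pos_iff_ne_zero, Ne, Submodule.finrank_eq_zero]
    intro hbot
    obtain ⟨x, hxU, hx⟩ := hN0
    obtain ⟨m, hm⟩ := hN
    have h1 : ∀ j : ℕ, (N ^ (j + 1)) x = 0 → N x = 0 := by
      intro j
      induction j with
      | zero => intro h; rwa [zero_add, pow_one] at h
      | succ j ih =>
        intro h
        apply ih
        have hjU : (N ^ j) x ∈ U := by
          rw [← hnpow j ⟨x, hxU⟩]
          exact Subtype.mem _
        have h2 : (N ^ (j + 1)) x ∈ W := by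
          refine ⟨⟨?_, ?_⟩, (N ^ j) x, hjU, ?_⟩
          · rw [pow_succ', Module.End.mul_apply]; exact hUN _ hjU
          · show N ((N ^ (j + 1)) x) = 0
            rw [← Module.End.mul_apply, ← pow_succ', h]
          · rw [pow_succ', Module.End.mul_apply]
        rw [hbot] at h2
        exact (Submodule.mem_bot K).mp h2
    apply hx
    rcases m with _ | m
    · rw [pow_zero] at hm
      have h2 := LinearMap.congr_fun hm x
      rw [Module.End.one_apply, LinearMap.zero_apply] at h2
      rw [h2, map_zero]
    · exact h1 m (by rw [hm]; rfl)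
  have hkW : k ∣ finrank K W := CfsgLib.Flg.dvd_finrank hr hrF B hB W hW (hWU.trans hle)
  have hkW' : k ≤ finrank K W := Nat.le_of_dvd hW0 hkW
  -- dimensions of kernel and image
  have h1 : finrank K (LinearMap.range n) + finrank K (LinearMap.ker n) = 2 * k := by
    rw [LinearMap.finrank_range_add_finrank_ker, hd]
  have hA : finrank K W ≤ finrank K (LinearMap.ker n) := by
    have h2 : finrank K W = finrank K (Submodule.comap U.subtype W) := (LinearEquiv.finrank_eq (Submodule.comapSubtypeEquivOfLe hWU)).symm
    rw [h2]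
    apply Submodule.finrank_mono
    intro x hx
    rw [LinearMap.mem_ker]
    apply Subtype.ext
    exact hx.1.2
  have hR : finrank K W ≤ finrank K (LinearMap.range n) := by
    have h2 : finrank K W = finrank K (Submodule.comap U.subtype W) := (LinearEquiv.finrank_eq (Submodule.comapSubtypeEquivOfLe hWU)).symm
    rw [h2]
    apply Submodule.finrank_mono
    rintro x ⟨_, y, hy, hyx⟩
    exact ⟨⟨y, hy⟩, Subtype.ext hyx⟩
  have hWk : finrank K W = k := by omega
  have hkern : Submodule.comap U.subtype W = LinearMap.ker n := by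
    apply Submodule.eq_of_le_of_finrank_eq
    · intro x hx
      rw [LinearMap.mem_ker]
      exact Subtype.ext hx.1.2
    · rw [LinearEquiv.finrank_eq (Submodule.comapSubtypeEquivOfLe hWU)]; omega
  have hrange : Submodule.comap U.subtype W = LinearMap.range n := by
    apply Submodule.eq_of_le_of_finrank_eq
    · rintro x ⟨_, y, hy, hyx⟩
      exact ⟨⟨y, hy⟩, Subtype.ext hyx⟩
    · rw [LinearEquiv.finrank_eq (Submodule.comapSubtypeEquivOfLe hWU)]; omega
  obtain ⟨f, hf, hfW⟩ := exists_irred hr hrF B hB W hW (hWU.trans hle) hWk hW0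
  refine ⟨f, hf, ?_⟩
  have hfN : ∀ x, aeval B f (N x) = N (aeval B f x) := fun x => by
    rw [← Module.End.mul_apply, (aeval_comm B N hBN f).eq, Module.End.mul_apply]
  -- f(B)^2 = 0 on U
  have h2 : ∀ x ∈ U, aeval B f (aeval B f x) = 0 := by
    intro x hx
    apply hfW
    have h3 : (⟨aeval B f x, aeval_mem B U hU f hx⟩ : U) ∈ LinearMap.ker n := by
      rw [LinearMap.mem_ker]
      apply Subtype.ext
      show N (aeval B f x) = 0
      rw [← hfN]
      apply hfW
      have h4 : n ⟨x, hx⟩ ∈ LinearMap.range n := ⟨_, rfl⟩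
      rw [← hrange] at h4
      exact h4
    rw [← hkern] at h3
    exact h3
  let C : End K U := B.restrict hU
  have hCf2 : aeval C (f ^ 2) = 0 := by
    apply LinearMap.ext
    intro x
    apply Subtype.ext
    rw [restrict_aeval B U hU, map_pow, pow_two, Module.End.mul_apply, h2 _ x.2]
    rfl
  have hCr : aeval C (X ^ r - 1 : K[X]) = 0 := by
    apply LinearMap.ext
    intro x
    apply Subtype.ext
    rw [restrict_aeval B U hU, map_sub, map_pow, aeval_X, hB, map_one, sub_self]
    rfl
  have hsep : (X ^ r - 1 : K[X]).Separable := by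
    have := Polynomial.separable_X_pow_sub_C (1 : K) hrF one_ne_zero
    rwa [map_one] at this
  have hsq : Squarefree (minpoly K C) := hsep.squarefree.squarefree_of_dvd (minpoly.dvd K C hCr)
  have hdvd : minpoly K C ∣ f := (hsq.dvd_pow_iff_dvd two_ne_zero).mp (minpoly.dvd K C hCf2)
  have hCf : aeval C f = 0 := by
    obtain ⟨u, hu⟩ := hdvd
    rw [hu, map_mul, minpoly.aeval, zero_mul]
  intro x hx
  have h3 := restrict_aeval B U hU f ⟨x, hx⟩
  rw [← h3]
  have h4 : (aeval (B.restrict hU) f) ⟨x, hx⟩ = 0 := by
    show aeval C f ⟨x, hx⟩ = 0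
    rw [hCf]; rfl
  rw [h4]; rfl

end lin

end CfsgLib.Homg
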