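import Mathlib
import Cfsg.Agent.LibHomgH13

set_option autoImplicit false

open Module Polynomial

namespace CfsgLib.Homg

variable {K V : Type*} [Field K] [Fintype K] [AddCommGroup V] [Module K V] [FiniteDimensional K V]

theorem irreducible_map {τ : K →+* K} {f : K[X]} (hf : Irreducible f) : Irreducible (f.map τ) := by
  have hb : Function.Bijective τ := ⟨τ.injective, Finite.surjective_of_injective τ.injective⟩
  have h1 : f.map τ = Polynomial.mapEquiv (RingEquiv.ofBijective τ hb) f := rfl
  rw [h1]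
  exact (MulEquiv.irreducible_iff (Polynomial.mapEquiv (RingEquiv.ofBijective τ hb))).mpr hf

theorem dual {r : ℕ} (hr : r.Prime) {p : ℕ} [Fact p.Prime] [CharP K p] (a : ℕ) (B B' : End K V) (hBB : B * B' = 1) (hB'B : B' * B = 1) (hB : B ^ r = 1)
    (hadj : ∀ g : K[X], aeval B g = 0 → aeval B' (g.map (iterateFrobenius K p a)) = 0)
    (hB1 : B ≠ 1) {f : K[X]} (hf : Irreducible f) (hfU : ∀ x ∈ LinearMap.range (B - 1), aeval B f x = 0)
    (hint : LinearMap.range (B - 1) ⊓ LinearMap.ker (B - 1) = ⊥) :
    ∃ j : ℕ, r ∣ p ^ a * Fintype.card K ^ j + 1 := by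
  classical
  set τ := iterateFrobenius K p a with hτ
  have hr2 := hr.two_le
  let U : Submodule K V := LinearMap.range (B - 1)
  have hU : ∀ x ∈ U, B x ∈ U := by
    rintro x ⟨y, rfl⟩
    refine ⟨B y, ?_⟩
    simp only [LinearMap.sub_apply, Module.End.one_apply, map_sub]
  have hB' : B' = B ^ (r - 1) := by
    have h1 : B ^ (r - 1) * B = 1 := by rw [← pow_succ, Nat.sub_add_cancel (by omega), hB]
    calc B' = (B ^ (r - 1) * B) * B' := by rw [h1, one_mul]
      _ = B ^ (r - 1) := by rw [mul_assoc, hBB, mul_one]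
  -- f^τ(B') kills U
  have h1 : aeval B (f * (X - 1)) = 0 := by
    apply LinearMap.ext
    intro x
    rw [map_mul, map_sub, aeval_X, map_one, Module.End.mul_apply]
    exact hfU _ ⟨x, rfl⟩
  have h2 := hadj _ h1
  rw [Polynomial.map_mul, Polynomial.map_sub, Polynomial.map_X, Polynomial.map_one, map_mul, map_sub, aeval_X, map_one] at h2
  have h3 : ∀ x ∈ U, aeval B' (f.map τ) x = 0 := by
    rintro x ⟨y, rfl⟩
    have h4 : (B - 1) y = -((B' - 1) (B y)) := by
      rw [LinearMap.sub_apply, LinearMap.sub_apply, Module.End.one_apply, Module.End.one_apply, ← Module.End.mul_apply B' B, hB'B, Module.End.one_apply]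
      abel
    rw [h4, map_neg]
    have h5 := LinearMap.congr_fun h2 (B y)
    rw [Module.End.mul_apply, LinearMap.zero_apply] at h5
    rw [h5, neg_zero]
  let C : End K U := B.restrict hU
  have hfC : aeval C f = 0 := by
    apply LinearMap.ext
    intro x
    apply Subtype.ext
    rw [restrict_aeval B U hU]
    exact hfU _ x.2
  have hCpow : ∀ (j : ℕ) (x : U), (((C ^ j) x : U) : V) = (B ^ j) (x : V) := by
    intro j
    induction j with
    | zero => intro x; rfl
    | succ j ih => intro x; rw [pow_succ, pow_succ, Module.End.mul_apply, Module.End.mul_apply, ih]; rfl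
  have hCr : C ^ r = 1 := by
    apply LinearMap.ext
    intro x
    apply Subtype.ext
    rw [hCpow, hB]; rfl
  have hC1 : C ≠ 1 := by
    intro h
    apply hB1
    rw [← sub_eq_zero, ← LinearMap.range_eq_bot, eq_bot_iff, ← hint]
    intro x hx
    refine ⟨hx, ?_⟩
    have h4 : B x = x := by
      have h5 := LinearMap.congr_fun h ⟨x, hx⟩
      exact congrArg Subtype.val h5
    show (B - 1) x = 0
    rw [LinearMap.sub_apply, h4, Module.End.one_apply, sub_self]
  have hdvd : ∀ g : K[X], aeval C g = 0 → f ∣ g := by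
    intro g hg
    have hCi : IsIntegral K C := Algebra.IsIntegral.isIntegral C
    have h4 : minpoly K C ∣ f := minpoly.dvd K C hfC
    have h5 : ¬ IsUnit (minpoly K C) := by
      haveI : Nontrivial (End K U) := ⟨⟨C, 1, hC1⟩⟩
      exact minpoly.not_isUnit K C
    obtain ⟨u, hu⟩ := h4
    have h6 : IsUnit u := (hf.isUnit_or_isUnit hu).resolve_left h5
    rw [hu]
    exact (h6.mul_right_dvd).mpr (minpoly.dvd K C hg)
  haveI : Fact (Irreducible f) := ⟨hf⟩
  let L := AdjoinRoot f
  haveI : FiniteDimensional K L := (AdjoinRoot.powerBasis hf.ne_zero).finite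
  haveI : Finite L := Module.finite_of_finite K
  haveI : CharP L p := charP_of_injective_algebraMap (algebraMap K L).injective p
  let lam : L := AdjoinRoot.root f
  have hlam : ∀ g : K[X], aeval C g = 0 → aeval lam g = 0 := by
    intro g hg
    obtain ⟨u, hu⟩ := hdvd g hg
    rw [hu, map_mul, AdjoinRoot.aeval_eq, AdjoinRoot.mk_self, zero_mul]
  have hl0 : aeval lam f = 0 := hlam f hfC
  have hlr : lam ^ r = 1 := by
    have h4 := hlam (X ^ r - 1) (by rw [map_sub, map_pow, aeval_X, hCr, map_one, sub_self])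
    rw [map_sub, map_pow, aeval_X, map_one, sub_eq_zero] at h4
    exact h4
  have hl1 : lam ≠ 1 := by
    intro h
    have h4 : f ∣ X - 1 := by
      rw [← AdjoinRoot.mk_eq_zero, map_sub, AdjoinRoot.mk_X, map_one, sub_eq_zero]
      exact h
    obtain ⟨u, hu⟩ := h4
    apply hC1
    have h5 : aeval C (X - 1 : K[X]) = 0 := by rw [hu, map_mul, hfC, zero_mul]
    rw [map_sub, aeval_X, map_one, sub_eq_zero] at h5
    exact h5
  have hord : orderOf lam = r := orderOf_eq_prime hlr hl1 (hp := ⟨hr⟩)
  have h4 : aeval (lam ^ (r - 1)) (f.map τ) = 0 := by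
    have h5 : aeval C ((f.map τ).comp (X ^ (r - 1))) = 0 := by
      apply LinearMap.ext
      intro x
      apply Subtype.ext
      rw [restrict_aeval B U hU, aeval_comp, map_pow, aeval_X, ← hB', h3 _ x.2]
      rfl
    have h6 := hlam _ h5
    rwa [aeval_comp, map_pow, aeval_X] at h6
  have h5 : aeval (lam ^ (p ^ a)) (f.map τ) = 0 := by
    have h6 : (iterateFrobenius L p a) (aeval lam f) = aeval (lam ^ (p ^ a)) (f.map τ) := by
      rw [aeval_def, aeval_def, Polynomial.hom_eval₂, Polynomial.eval₂_map, iterateFrobenius_def]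
      congr 1
      ext x
      rw [RingHom.comp_apply, RingHom.comp_apply, iterateFrobenius_def, hτ, iterateFrobenius_def, map_pow]
    rw [← h6, hl0, map_zero]
  obtain ⟨j, hj⟩ := root_pow (irreducible_map hf) h5 h4
  refine ⟨j, ?_⟩
  rw [← hord, orderOf_dvd_iff_pow_eq_one, pow_succ, pow_mul, ← hj, ← pow_succ, Nat.sub_add_cancel (by omega)]
  exact hlr

theorem no_nilp {r : ℕ} (hr : r.Prime) {p : ℕ} [Fact p.Prime] [CharP K p] (hrF : (r : K) ≠ 0) (a : ℕ) (B B' : End K V) (hBB : B * B' = 1) (hB'B : B' * B = 1) (hB : B ^ r = 1)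
    (hadj : ∀ g : K[X], aeval B g = 0 → aeval B' (g.map (iterateFrobenius K p a)) = 0)
    (N : End K V) (hBN : Commute B N) (hN : IsNilpotent N) (hN0 : N ≠ 0) (hB1 : B ≠ 1) (hk : 2 ≤ orderOf ((Fintype.card K : ℕ) : ZMod r))
    (hd : finrank K V ≤ 2 * orderOf ((Fintype.card K : ℕ) : ZMod r) + 1) :
    ∃ j : ℕ, r ∣ p ^ a * Fintype.card K ^ j + 1 := by
  classical
  set k := orderOf ((Fintype.card K : ℕ) : ZMod r) with hkd
  have hc : ∀ x, B (N x) = N (B x) := fun x => by
    rw [← Module.End.mul_apply, hBN.eq, Module.End.mul_apply]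
  let U : Submodule K V := LinearMap.range (B - 1)
  have hU : ∀ x ∈ U, B x ∈ U := by
    rintro x ⟨y, rfl⟩
    refine ⟨B y, ?_⟩
    simp only [LinearMap.sub_apply, Module.End.one_apply, map_sub]
  have hUN : ∀ x ∈ U, N x ∈ U := by
    rintro x ⟨y, rfl⟩
    refine ⟨N y, ?_⟩
    simp only [LinearMap.sub_apply, Module.End.one_apply, map_sub, hc]
  have hint := CfsgLib.Flg.ker_inf_range hrF B hB
  have hkU : k ∣ finrank K U := CfsgLib.Flg.dvd_finrank hr hrF B hB U hU le_rfl
  have hU0 : 0 < finrank K U := by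
    rw [Nat.pos_iff_ne_zero, Ne, Submodule.finrank_eq_zero]
    intro h
    apply hB1
    rw [← sub_eq_zero, ← LinearMap.range_eq_bot]
    exact h
  have hUle : finrank K U ≤ finrank K V := Submodule.finrank_le U
  obtain ⟨c, hc1⟩ := hkU
  have hc12 : c = 1 ∨ c = 2 := by
    have hc0 : c ≠ 0 := by rintro rfl; omega
    by_contra hcon
    have h3 : 3 ≤ c := by omega
    have h4 : k * 3 ≤ k * c := Nat.mul_le_mul_left k h3
    omega
  obtain ⟨f, hf, hfU⟩ : ∃ f : K[X], Irreducible f ∧ ∀ x ∈ U, aeval B f x = 0 := by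
    rcases hc12 with h | h
    · exact exists_irred hr hrF B hB U hU le_rfl (by rw [hc1, h, mul_one]) hU0
    · apply exists_irred2 hr hrF B hB N hBN hN U hU hUN le_rfl (by rw [hc1, h, mul_comm])
      by_contra hcon
      push Not at hcon
      apply hN0
      let Z : Submodule K V := LinearMap.ker (B - 1)
      have h1 : finrank K U + finrank K Z = finrank K V := LinearMap.finrank_range_add_finrank_ker _
      have hsup : U ⊔ Z = ⊤ := by
        apply Submodule.eq_top_of_finrank_eq
        have h2 := Submodule.finrank_sup_add_finrank_inf_eq U Z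
        have h3 : finrank K ↥(U ⊓ Z) = 0 := by
          rw [Submodule.finrank_eq_zero]; exact hint
        omega
      have hZ1 : finrank K Z ≤ 1 := by
        have h2 : finrank K U = 2 * k := by rw [hc1, h, mul_comm]
        omega
      have hZN : ∀ x ∈ Z, N x ∈ Z := by
        intro x hx
        have h2 : (B - 1) x = 0 := hx
        rw [LinearMap.sub_apply, Module.End.one_apply, sub_eq_zero] at h2
        show (B - 1) (N x) = 0
        rw [LinearMap.sub_apply, Module.End.one_apply, hc, h2, sub_self]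
      have hZ0 : ∀ x ∈ Z, N x = 0 := by
        intro x hx
        obtain ⟨⟨u, hu⟩, hu1⟩ := finrank_le_one_iff.mp hZ1
        obtain ⟨c1, hc1'⟩ := hu1 ⟨x, hx⟩
        obtain ⟨c2, hc2⟩ := hu1 ⟨N u, hZN u hu⟩
        replace hc1' : c1 • u = x := congrArg Subtype.val hc1'
        replace hc2 : c2 • u = N u := congrArg Subtype.val hc2
        have h2 : ∀ m : ℕ, (N ^ m) u = c2 ^ m • u := by
          intro m
          induction m with
          | zero => simp
          | succ m ih => rw [pow_succ, Module.End.mul_apply, ← hc2, map_smul, ih, smul_smul, pow_succ, mul_comm]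
        obtain ⟨m, hm⟩ := hN
        have h3 := h2 m
        rw [hm, LinearMap.zero_apply] at h3
        rw [← hc1', map_smul, ← hc2]
        rcases smul_eq_zero.mp h3.symm with h4 | h4
        · have h5 : c2 = 0 := eq_zero_of_pow_eq_zero h4
          rw [h5, zero_smul, smul_zero]
        · rw [h4, smul_zero, smul_zero]
      apply LinearMap.ext
      intro x
      have h2 : x ∈ U ⊔ Z := hsup ▸ Submodule.mem_top
      obtain ⟨y, hy, z, hz, rfl⟩ := Submodule.mem_sup.mp h2
      rw [map_add, hcon y hy, hZ0 z hz, add_zero]; rfl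
  exact dual hr a B B' hBB hB'B hB hadj hB1 hf hfU hint

end CfsgLib.Homg
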