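import Mathlib
import Cfsg.Agent.LibHomg2H13

set_option autoImplicit false

open Module Polynomial

namespace CfsgLib.Homg

variable {K V : Type*} [Field K] [Fintype K] [AddCommGroup V] [Module K V] [FiniteDimensional K V]

/-- an irreducible subspace is killed by an irreducible polynomial -/
theorem exists_irred' (B : End K V) (W : Submodule K V) (hW : ∀ x ∈ W, B x ∈ W)
    (hirr : ∀ Y : Submodule K V, Y ≤ W → (∀ x ∈ Y, B x ∈ Y) → finrank K W ∣ finrank K Y) (hpos : 0 < finrank K W) :
    ∃ f : K[X], Irreducible f ∧ ∀ x ∈ W, aeval B f x = 0 := by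
  classical
  let C : End K W := B.restrict hW
  have hCi : IsIntegral K C := Algebra.IsIntegral.isIntegral C
  haveI : Nontrivial W := Module.nontrivial_of_finrank_pos hpos
  have key : ∀ g : K[X], (∀ x : W, aeval C g x = 0 → x = 0) ∨ aeval C g = 0 := by
    intro g
    let Y : Submodule K V := W ⊓ LinearMap.ker (aeval B g)
    have hY : ∀ x ∈ Y, B x ∈ Y := by
      rintro x ⟨hx1, hx2⟩
      refine ⟨hW x hx1, ?_⟩
      show aeval B g (B x) = 0
      have h1 := (aeval_comm B B (Commute.refl B) g)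
      have h2 := LinearMap.congr_fun h1.eq x
      rw [Module.End.mul_apply, Module.End.mul_apply] at h2
      rw [h2]
      have h3 : aeval B g x = 0 := hx2
      rw [h3, map_zero]
    have h1 := hirr Y inf_le_left hY
    have h2 : finrank K Y ≤ finrank K W := Submodule.finrank_mono inf_le_left
    rcases Nat.eq_zero_or_pos (finrank K Y) with h3 | h3
    · left
      intro x hx
      have h4 : (x : V) ∈ Y := ⟨x.2, by
        show aeval B g (x : V) = 0
        rw [← restrict_aeval B W hW g x, hx]; rfl⟩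
      rw [Submodule.finrank_eq_zero.mp h3] at h4
      exact Subtype.ext ((Submodule.mem_bot K).mp h4)
    · right
      have h4 : finrank K Y = finrank K W := le_antisymm h2 (Nat.le_of_dvd h3 h1)
      have h5 : Y = W := Submodule.eq_of_le_of_finrank_eq inf_le_left h4
      apply LinearMap.ext
      intro x
      apply Subtype.ext
      rw [restrict_aeval B W hW g x]
      have h6 : (x : V) ∈ Y := h5.symm ▸ x.2
      exact h6.2
  refine ⟨minpoly K C, ?_, ?_⟩
  · refine ⟨?_, ?_⟩
    · exact minpoly.not_isUnit K C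
    · intro g h hgh
      have h0 : minpoly K C ≠ 0 := minpoly.ne_zero hCi
      have h1 : aeval C g * aeval C h = 0 := by rw [← map_mul, ← hgh, minpoly.aeval]
      have hg0 : g ≠ 0 := by rintro rfl; rw [zero_mul] at hgh; exact h0 hgh
      have hh0 : h ≠ 0 := by rintro rfl; rw [mul_zero] at hgh; exact h0 hgh
      rcases key g with h2 | h2
      · left
        have h3 : aeval C h = 0 := by
          apply LinearMap.ext
          intro x
          apply h2
          have := LinearMap.congr_fun h1 x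
          rwa [Module.End.mul_apply] at this
        have h4 : minpoly K C ∣ h := minpoly.dvd K C h3
        rw [hgh] at h4
        obtain ⟨u, hu⟩ := h4
        apply IsUnit.of_mul_eq_one u
        have h5 : h * (g * u) = h * 1 := by rw [mul_one]; conv_rhs => rw [hu]
                                            ring
        exact mul_left_cancel₀ hh0 h5
      · right
        have h4 : minpoly K C ∣ g := minpoly.dvd K C h2
        rw [hgh] at h4
        obtain ⟨u, hu⟩ := h4
        apply IsUnit.of_mul_eq_one u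
        have h5 : g * (h * u) = g * 1 := by rw [mul_one]; conv_rhs => rw [hu]
                                            ring
        exact mul_left_cancel₀ hg0 h5
  · intro x hx
    have h1 := restrict_aeval B W hW (minpoly K C) ⟨x, hx⟩
    have h2 : aeval C (minpoly K C) = 0 := minpoly.aeval K C
    have h3 : (aeval (B.restrict hW) (minpoly K C)) ⟨x, hx⟩ = 0 := by
      show aeval C (minpoly K C) ⟨x, hx⟩ = 0
      rw [h2]; rfl
    rw [← h1, h3]; rfl

/-- duality on an invariant subspace -/
theorem dual2 {p : ℕ} [Fact p.Prime] [CharP K p] (a : ℕ) (B : End K V) {M : ℕ} (hM : 1 ≤ M) (hB : B ^ M = 1)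
    (U : Submodule K V) (hU : ∀ x ∈ U, B x ∈ U) (hU0 : 0 < finrank K U) {f : K[X]} (hf : Irreducible f) (hfU : ∀ x ∈ U, aeval B f x = 0)
    (hfU' : ∀ x ∈ U, aeval (B ^ (M - 1)) (f.map (iterateFrobenius K p a)) x = 0) :
    ∃ j : ℕ, ∀ x ∈ U, (B ^ (p ^ a * Fintype.card K ^ j + 1)) x = x := by
  classical
  set τ := iterateFrobenius K p a with hτ
  let C : End K U := B.restrict hU
  haveI : Nontrivial U := Module.nontrivial_of_finrank_pos hU0
  have hfC : aeval C f = 0 := by
    apply LinearMap.ext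
    intro x
    apply Subtype.ext
    rw [restrict_aeval B U hU]
    exact hfU _ x.2
  have hCpow : ∀ (j : ℕ) (x : U), (((C ^ j) x : U) : V) = (B ^ j) (x : V) := by
    intro j
    induction j with
    | zero => intro x; rfl
    | succ j ih => intro x; rw [pow_succ, pow_succ, Module.End.mul_apply, Module.End.mul_apply, ih]; rfl
  have hCr : C ^ M = 1 := by
    apply LinearMap.ext
    intro x
    apply Subtype.ext
    rw [hCpow, hB]; rfl
  have hdvd : ∀ g : K[X], aeval C g = 0 → f ∣ g := by
    intro g hg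
    have h4 : minpoly K C ∣ f := minpoly.dvd K C hfC
    have h5 : ¬ IsUnit (minpoly K C) := minpoly.not_isUnit K C
    obtain ⟨u, hu⟩ := h4
    have h6 : IsUnit u := (hf.isUnit_or_isUnit hu).resolve_left h5
    rw [hu]
    exact (h6.mul_right_dvd).mpr (minpoly.dvd K C hg)
  haveI : Fact (Irreducible f) := ⟨hf⟩
  let L := AdjoinRoot f
  haveI : FiniteDimensional K L := (AdjoinRoot.powerBasis hf.ne_zero).finite
  haveI : Finite L := Module.finite_of_finite K
  haveI : CharP L p := charP_of_injective_algebraMap (algebraMap K L).injective p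
  let lam : L := AdjoinRoot.root f
  have hlam : ∀ g : K[X], aeval C g = 0 → aeval lam g = 0 := by
    intro g hg
    obtain ⟨u, hu⟩ := hdvd g hg
    rw [hu, map_mul, AdjoinRoot.aeval_eq, AdjoinRoot.mk_self, zero_mul]
  have hl0 : aeval lam f = 0 := hlam f hfC
  have hlr : lam ^ M = 1 := by
    have h4 := hlam (X ^ M - 1) (by rw [map_sub, map_pow, aeval_X, hCr, map_one, sub_self])
    rw [map_sub, map_pow, aeval_X, map_one, sub_eq_zero] at h4
    exact h4
  have h4 : aeval (lam ^ (M - 1)) (f.map τ) = 0 := by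
    have h5 : aeval C ((f.map τ).comp (X ^ (M - 1))) = 0 := by
      apply LinearMap.ext
      intro x
      apply Subtype.ext
      rw [restrict_aeval B U hU, aeval_comp, map_pow, aeval_X, hfU' _ x.2]
      rfl
    have h6 := hlam _ h5
    rwa [aeval_comp, map_pow, aeval_X] at h6
  have h5 : aeval (lam ^ (p ^ a)) (f.map τ) = 0 := by
    have h6 : (iterateFrobenius L p a) (aeval lam f) = aeval (lam ^ (p ^ a)) (f.map τ) := by
      rw [aeval_def, aeval_def, Polynomial.hom_eval₂, Polynomial.eval₂_map, iterateFrobenius_def]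
      congr 1
      ext x
      rw [RingHom.comp_apply, RingHom.comp_apply, iterateFrobenius_def, hτ, iterateFrobenius_def, map_pow]
    rw [← h6, hl0, map_zero]
  obtain ⟨j, hj⟩ := root_pow (irreducible_map hf) h5 h4
  refine ⟨j, ?_⟩
  have h6 : lam ^ (p ^ a * Fintype.card K ^ j + 1) = 1 := by
    rw [pow_succ, pow_mul, ← hj, ← pow_succ, Nat.sub_add_cancel hM]
    exact hlr
  have h7 : f ∣ X ^ (p ^ a * Fintype.card K ^ j + 1) - 1 := by
    rw [← AdjoinRoot.mk_eq_zero, map_sub, map_pow, AdjoinRoot.mk_X, map_one, sub_eq_zero]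
    exact h6
  obtain ⟨u, hu⟩ := h7
  intro x hx
  have h8 : aeval B (X ^ (p ^ a * Fintype.card K ^ j + 1) - 1 : K[X]) x = 0 := by
    rw [hu, mul_comm, map_mul, Module.End.mul_apply, hfU x hx, map_zero]
  rw [map_sub, map_pow, aeval_X, map_one, LinearMap.sub_apply, Module.End.one_apply, sub_eq_zero] at h8
  exact h8

/-- the common non-fixed part of two commuting elements of prime order -/
theorem dimX {p : ℕ} [Fact p.Prime] [CharP K p] (a : ℕ) {r s : ℕ} (hr : r.Prime) (hs : s.Prime) (hrK : (r : K) ≠ 0) (hsK : (s : K) ≠ 0)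
    (G : End K V) (hG : G ^ (r * s) = 1)
    (hadj : ∀ g : K[X], aeval G g = 0 → aeval (G ^ (r * s - 1)) (g.map (iterateFrobenius K p a)) = 0)
    (hX : LinearMap.range (G ^ s - 1) ⊓ LinearMap.range (G ^ r - 1) ≠ ⊥) :
    Nat.lcm (orderOf ((Fintype.card K : ℕ) : ZMod r)) (orderOf ((Fintype.card K : ℕ) : ZMod s)) ≤ finrank K V ∧
    (finrank K V < 2 * Nat.lcm (orderOf ((Fintype.card K : ℕ) : ZMod r)) (orderOf ((Fintype.card K : ℕ) : ZMod s)) →
      ∃ j : ℕ, r ∣ p ^ a * Fintype.card K ^ j + 1 ∧ s ∣ p ^ a * Fintype.card K ^ j + 1) := by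
  classical
  set m := Nat.lcm (orderOf ((Fintype.card K : ℕ) : ZMod r)) (orderOf ((Fintype.card K : ℕ) : ZMod s)) with hm
  set R := G ^ s with hRd
  set S := G ^ r with hSd
  have hR : R ^ r = 1 := by rw [hRd, ← pow_mul, mul_comm, hG]
  have hS : S ^ s = 1 := by rw [hSd, ← pow_mul, hG]
  have hGR : Commute G R := (Commute.refl G).pow_right s
  have hGS : Commute G S := (Commute.refl G).pow_right r
  have hRS : Commute R S := (Commute.refl G).pow_pow s r
  let Xs := LinearMap.range (R - 1) ⊓ LinearMap.range (S - 1)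
  have hcG : ∀ (C D : End K V), Commute C D → ∀ x ∈ LinearMap.range (D - 1), C x ∈ LinearMap.range (D - 1) := by
    rintro C D hCD x ⟨y, rfl⟩
    refine ⟨C y, ?_⟩
    have h1 := LinearMap.congr_fun hCD.eq y
    rw [Module.End.mul_apply, Module.End.mul_apply] at h1
    simp only [LinearMap.sub_apply, Module.End.one_apply, map_sub, h1]
  have hXG : ∀ x ∈ Xs, G x ∈ Xs := fun x hx => ⟨hcG G R hGR x hx.1, hcG G S hGS x hx.2⟩
  have hpowinv : ∀ (Y : Submodule K V), (∀ x ∈ Y, G x ∈ Y) → ∀ (t : ℕ), ∀ x ∈ Y, (G ^ t) x ∈ Y := by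
    intro Y hY t
    induction t with
    | zero => intro x hx; exact hx
    | succ t ih => intro x hx; rw [pow_succ, Module.End.mul_apply]; exact ih _ (hY x hx)
  have hdvdY : ∀ Y : Submodule K V, Y ≤ Xs → (∀ x ∈ Y, G x ∈ Y) → m ∣ finrank K Y := by
    intro Y hYX hY
    exact Nat.lcm_dvd (CfsgLib.Flg.dvd_finrank hr hrK R hR Y (hpowinv Y hY s) (hYX.trans inf_le_left))
      (CfsgLib.Flg.dvd_finrank hs hsK S hS Y (hpowinv Y hY r) (hYX.trans inf_le_right))
  have hX0 : 0 < finrank K Xs := by
    rw [Nat.pos_iff_ne_zero, Ne, Submodule.finrank_eq_zero]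
    exact hX
  have hmX := hdvdY Xs le_rfl hXG
  have hmX' : m ≤ finrank K Xs := Nat.le_of_dvd hX0 hmX
  have hXV : finrank K Xs ≤ finrank K V := Submodule.finrank_le _
  refine ⟨hmX'.trans hXV, ?_⟩
  intro hlt
  have hXm : finrank K Xs = m := by
    obtain ⟨c, hc⟩ := hmX
    have hc1 : c = 1 := by
      have h0 : c ≠ 0 := by rintro rfl; omega
      by_contra hne
      have h2 : 2 ≤ c := by omega
      have h3 : m * 2 ≤ m * c := Nat.mul_le_mul_left m h2
      omega
    rw [hc, hc1, mul_one]
  obtain ⟨f, hf, hfX⟩ := exists_irred' G Xs hXG (fun Y hYX hY => by rw [hXm]; exact hdvdY Y hYX hY) hX0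
  -- the adjoint relation
  have hintR := CfsgLib.Flg.ker_inf_range hrK R hR
  have hintS := CfsgLib.Flg.ker_inf_range hsK S hS
  have hinj : ∀ (D : End K V), (∀ x ∈ Xs, D x ∈ Xs) → LinearMap.range (D - 1) ⊓ LinearMap.ker (D - 1) = ⊥ → Xs ≤ LinearMap.range (D - 1) →
      ∀ x ∈ Xs, ∃ y ∈ Xs, (D - 1) y = x := by
    intro D hD hint hle x hx
    let E : Xs →ₗ[K] Xs := (D - 1).restrict (fun x hx => by
      rw [LinearMap.sub_apply, Module.End.one_apply]
      exact Submodule.sub_mem _ (hD x hx) hx)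
    have hE : Function.Injective E := by
      rw [← LinearMap.ker_eq_bot, eq_bot_iff]
      intro z hz
      have h1 : (D - 1) (z : V) = 0 := congrArg Subtype.val hz
      have h2 : (z : V) ∈ LinearMap.range (D - 1) ⊓ LinearMap.ker (D - 1) := ⟨hle z.2, h1⟩
      rw [hint] at h2
      exact Subtype.ext ((Submodule.mem_bot K).mp h2)
    obtain ⟨y, hy⟩ := (LinearMap.injective_iff_surjective.mp hE) ⟨x, hx⟩
    exact ⟨y, y.2, congrArg Subtype.val hy⟩
  have hXR : ∀ x ∈ Xs, R x ∈ Xs := hpowinv Xs hXG s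
  have hXS : ∀ x ∈ Xs, S x ∈ Xs := hpowinv Xs hXG r
  have hM1 : 1 ≤ r * s := Nat.mul_pos hr.pos hs.pos
  have hpoly : aeval G (f * ((X ^ s - 1) * (X ^ r - 1))) = 0 := by
    apply LinearMap.ext
    intro x
    rw [map_mul, Module.End.mul_apply, map_mul, map_sub, map_sub, map_pow, map_pow, aeval_X, map_one, ← hRd, ← hSd]
    apply hfX
    refine ⟨⟨(S - 1) x, ?_⟩, ⟨(R - 1) x, ?_⟩⟩
    · rw [Module.End.mul_apply]
    · rw [Module.End.mul_apply]
      have h1 := LinearMap.congr_fun hRS.eq x
      rw [Module.End.mul_apply, Module.End.mul_apply] at h1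
      simp only [LinearMap.sub_apply, Module.End.one_apply, map_sub, h1]
      abel
  have hadj1 := hadj _ hpoly
  set G' := G ^ (r * s - 1) with hG'
  have hGG' : G * G' = 1 := by rw [hG', ← pow_succ', Nat.sub_add_cancel hM1, hG]
  have hG'G : G' * G = 1 := by rw [hG', ← pow_succ, Nat.sub_add_cancel hM1, hG]
  rw [Polynomial.map_mul, Polynomial.map_mul, Polynomial.map_sub, Polynomial.map_sub, Polynomial.map_pow, Polynomial.map_pow, Polynomial.map_X, Polynomial.map_one,
    map_mul, map_mul, map_sub, map_sub, map_pow, map_pow, aeval_X, map_one] at hadj1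
  have hcG' : Commute G G' := by rw [Commute, SemiconjBy, hGG', hG'G]
  have hR' : R * G' ^ s = 1 := by rw [hRd, ← hcG'.mul_pow, hGG', one_pow]
  have hS' : S * G' ^ r = 1 := by rw [hSd, ← hcG'.mul_pow, hGG', one_pow]
  have hfX' : ∀ x ∈ Xs, aeval (G ^ (r * s - 1)) (f.map (iterateFrobenius K p a)) x = 0 := by
    intro x hx
    obtain ⟨y, hy, hyx⟩ := hinj R hXR hintR inf_le_left x hx
    obtain ⟨z, hz, hzy⟩ := hinj S hXS hintS inf_le_right y hy
    have h1 : x = ((G' ^ s - 1) * (G' ^ r - 1)) (R (S z)) := by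
      have e1 : (G' ^ s - 1) * (G' ^ r - 1) * (R * S) = (R - 1) * (S - 1) := by
        have c1 : Commute (G' ^ r) R := by rw [hRd]; exact (hcG'.symm.pow_pow r s)
        have c2 : G' ^ r * S = 1 := by rw [(by rw [hSd]; exact (hcG'.symm.pow_pow r r) : Commute (G' ^ r) S).eq, hS']
        have c3 : G' ^ s * R = 1 := by rw [(by rw [hRd]; exact (hcG'.symm.pow_pow s s) : Commute (G' ^ s) R).eq, hR']
        have c4 : (G' ^ r - 1) * R = R * (G' ^ r - 1) := by rw [sub_mul, mul_sub, c1.eq, one_mul, mul_one]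
        calc (G' ^ s - 1) * (G' ^ r - 1) * (R * S) = (G' ^ s - 1) * ((G' ^ r - 1) * R) * S := by simp only [mul_assoc]
          _ = ((G' ^ s - 1) * R) * ((G' ^ r - 1) * S) := by rw [c4]; simp only [mul_assoc]
          _ = (1 - R) * (1 - S) := by rw [sub_mul (G' ^ s) 1 R, sub_mul (G' ^ r) 1 S, c2, c3, one_mul, one_mul]
          _ = (R - 1) * (S - 1) := by noncomm_ring
      have e2 := LinearMap.congr_fun e1 z
      rw [Module.End.mul_apply, Module.End.mul_apply, Module.End.mul_apply] at e2
      rw [← hyx, ← hzy]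
      rw [← Module.End.mul_apply (R - 1) (S - 1)]
      rw [← e1]
      rfl
    rw [h1]
    have h2 := LinearMap.congr_fun hadj1 (R (S z))
    rw [Module.End.mul_apply, LinearMap.zero_apply] at h2
    exact h2
  obtain ⟨j, hj⟩ := dual2 a G hM1 hG Xs hXG hX0 hf hfX hfX'
  refine ⟨j, ?_, ?_⟩
  · by_contra hcon
    have h1 : ∀ x ∈ Xs, (R ^ (p ^ a * Fintype.card K ^ j + 1)) x = x := by
      intro x hx
      rw [hRd, ← pow_mul, mul_comm, pow_mul]
      have h2 : ∀ t : ℕ, ((G ^ (p ^ a * Fintype.card K ^ j + 1)) ^ t) x = x := by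
        intro t
        induction t with
        | zero => rfl
        | succ t ih => rw [pow_succ, Module.End.mul_apply, hj x hx, ih]
      exact h2 s
    have h2 : Nat.Coprime (p ^ a * Fintype.card K ^ j + 1) r := by
      rw [Nat.coprime_comm, Nat.Prime.coprime_iff_not_dvd hr]; exact hcon
    obtain ⟨c, -, hc⟩ := Nat.exists_mul_mod_eq_one_of_coprime h2 hr.one_lt
    have h3 : ∀ x ∈ Xs, R x = x := by
      intro x hx
      have h4 : R ^ ((p ^ a * Fintype.card K ^ j + 1) * c) = R := by
        rw [← Nat.div_add_mod ((p ^ a * Fintype.card K ^ j + 1) * c) r, hc, pow_add, pow_mul, hR, one_pow, one_mul, pow_one]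
      rw [← h4, pow_mul]
      have h5 : ∀ t : ℕ, ((R ^ (p ^ a * Fintype.card K ^ j + 1)) ^ t) x = x := by
        intro t
        induction t with
        | zero => rfl
        | succ t ih => rw [pow_succ, Module.End.mul_apply, h1 x hx, ih]
      exact h5 c
    apply hX
    rw [eq_bot_iff, ← hintR]
    intro x hx
    refine ⟨hx.1, ?_⟩
    show (R - 1) x = 0
    rw [LinearMap.sub_apply, h3 x hx, Module.End.one_apply, sub_self]
  · by_contra hcon
    have h1 : ∀ x ∈ Xs, (S ^ (p ^ a * Fintype.card K ^ j + 1)) x = x := by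
      intro x hx
      rw [hSd, ← pow_mul, mul_comm, pow_mul]
      have h2 : ∀ t : ℕ, ((G ^ (p ^ a * Fintype.card K ^ j + 1)) ^ t) x = x := by
        intro t
        induction t with
        | zero => rfl
        | succ t ih => rw [pow_succ, Module.End.mul_apply, hj x hx, ih]
      exact h2 r
    have h2 : Nat.Coprime (p ^ a * Fintype.card K ^ j + 1) s := by
      rw [Nat.coprime_comm, Nat.Prime.coprime_iff_not_dvd hs]; exact hcon
    obtain ⟨c, -, hc⟩ := Nat.exists_mul_mod_eq_one_of_coprime h2 hs.one_lt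
    have h3 : ∀ x ∈ Xs, S x = x := by
      intro x hx
      have h4 : S ^ ((p ^ a * Fintype.card K ^ j + 1) * c) = S := by
        rw [← Nat.div_add_mod ((p ^ a * Fintype.card K ^ j + 1) * c) s, hc, pow_add, pow_mul, hS, one_pow, one_mul, pow_one]
      rw [← h4, pow_mul]
      have h5 : ∀ t : ℕ, ((S ^ (p ^ a * Fintype.card K ^ j + 1)) ^ t) x = x := by
        intro t
        induction t with
        | zero => rfl
        | succ t ih => rw [pow_succ, Module.End.mul_apply, h1 x hx, ih]
      exact h5 c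
    apply hX
    rw [eq_bot_iff, ← hintS]
    intro x hx
    refine ⟨hx.2, ?_⟩
    show (S - 1) x = 0
    rw [LinearMap.sub_apply, h3 x hx, Module.End.one_apply, sub_self]

end CfsgLib.Homg
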