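import Mathlib
import Cfsg.Agent.LibBN

set_option autoImplicit false
set_option linter.all false

/-! Involutions in groups with a split BN-pair of characteristic two -/

namespace CfsgLib.Inv

open Cfsg CfsgLib.BN

variable {G : Type*} [Group G] (P : BNPair G)

theorem eqv_cancel_right {n m x : G} (hn : n ∈ P.N) (hm : m ∈ P.N) (hx : x ∈ P.N)
    (h : (n * x)⁻¹ * (m * x) ∈ P.B) : n⁻¹ * m ∈ P.B := by
  have h1 := eqv_mul_right P (P.N.mul_mem hn hx) (P.N.mul_mem hm hx) (P.N.inv_mem hx) h
  simpa using h1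

theorem eqv_cancel_left {n m x : G} (h : (x * n)⁻¹ * (x * m) ∈ P.B) : n⁻¹ * m ∈ P.B := by
  have e : (x * n)⁻¹ * (x * m) = n⁻¹ * m := by group
  rwa [e] at h

theorem eqv_refl (n : G) : n⁻¹ * n ∈ P.B := by rw [inv_mul_cancel]; exact P.B.one_mem

theorem len_add_le {m n : G} (hm : m ∈ P.N) (hn : n ∈ P.N) : len P (m * n) ≤ len P m + len P n := by
  obtain ⟨l, hl, h1, h2⟩ := exists_len P hm
  obtain ⟨l', hl', h1', h2'⟩ := exists_len P hn
  have := len_le P ((IsW_append P).2 ⟨hl, hl'⟩) (n := m * n) (by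
    rw [List.prod_append]
    exact eqv_trans P (eqv_mul_right P hl.prod_N hm hl'.prod_N h2) (eqv_mul_left P m h2'))
  rw [List.length_append] at this
  omega

/-- the exchange condition in a product of two reduced words -/
theorem exch2 {s m n : G} (hs : s ∈ P.S) (hm : m ∈ P.N) (hn : n ∈ P.N) (hl : len P (m * n) = len P m + len P n)
    {J : Set G} {lm : List G} (hlm : IsW P lm) (hlm1 : lm.length = len P m) (hlm2 : lm.prod⁻¹ * m ∈ P.B)
    (h : len P (s * (m * n)) < len P (m * n)) :
    (∃ l1 t l2, lm = l1 ++ t :: l2 ∧ ((l1 ++ l2).prod)⁻¹ * (s * m) ∈ P.B) ∨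
    (∃ n' ∈ P.N, len P n' + 1 ≤ len P n ∧ (m * n')⁻¹ * (s * (m * n)) ∈ P.B) := by
  obtain ⟨ln, hln, hln1, hln2⟩ := exists_len P hn
  have e0 : ((lm ++ ln).prod)⁻¹ * (m * n) ∈ P.B := by
    rw [List.prod_append]
    exact eqv_trans P (eqv_mul_right P hlm.prod_N hm hln.prod_N hlm2) (eqv_mul_left P m hln2)
  have e1 : (s * (lm ++ ln).prod)⁻¹ * (s * (m * n)) ∈ P.B := eqv_mul_left P s e0
  obtain ⟨l1, t, l2, he, h2⟩ := exchange_del P hs ((IsW_append P).2 ⟨hlm, hln⟩) (by
    rw [len_congr P e1, len_congr P e0]; exact h)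
  have h3 := eqv_trans P h2 e1
  have hW : IsW P (l1 ++ t :: l2) := by rw [← he]; exact (IsW_append P).2 ⟨hlm, hln⟩
  rcases List.append_eq_append_iff.1 he with ⟨a, ha1, ha2⟩ | ⟨c, hc1, hc2⟩
  · -- l1 = lm ++ a, ln = a ++ t :: l2
    right
    have hal : IsW P (a ++ l2) := by
      intro x hx
      apply hln
      rw [ha2]
      simp only [List.mem_append, List.mem_cons] at hx ⊢
      tauto
    refine ⟨(a ++ l2).prod, hal.prod_N, ?_, ?_⟩
    · have h4 := len_le P hal (n := (a ++ l2).prod) (eqv_refl P _)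
      rw [← hln1, ha2]
      simp only [List.length_append, List.length_cons] at h4 ⊢
      omega
    · have e2 : (m * (a ++ l2).prod)⁻¹ * (lm.prod * (a ++ l2).prod) ∈ P.B :=
        eqv_mul_right P hm hlm.prod_N hal.prod_N (eqv_symm P hlm2)
      refine eqv_trans P e2 ?_
      have e3 : lm.prod * (a ++ l2).prod = (l1 ++ l2).prod := by rw [ha1]; simp [mul_assoc]
      rw [e3]; exact h3
  · cases c with
    | nil =>
      right
      simp only [List.append_nil, List.nil_append] at hc1 hc2
      have hal : IsW P l2 := by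
        intro x hx
        apply hln
        rw [← hc2]
        simp [hx]
      refine ⟨l2.prod, hal.prod_N, ?_, ?_⟩
      · have h4 := len_le P hal (n := l2.prod) (eqv_refl P _)
        rw [← hln1, ← hc2]
        simp only [List.length_cons]
        omega
      · have e2 : (m * l2.prod)⁻¹ * (lm.prod * l2.prod) ∈ P.B :=
          eqv_mul_right P hm hlm.prod_N hal.prod_N (eqv_symm P hlm2)
        refine eqv_trans P e2 ?_
        have e3 : lm.prod * l2.prod = (l1 ++ l2).prod := by rw [hc1]; simp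
        rw [e3]; exact h3
    | cons t' c =>
      left
      simp only [List.cons_append, List.cons.injEq] at hc2
      obtain ⟨rfl, hc3⟩ := hc2
      refine ⟨l1, t, c, hc1, ?_⟩
      have hW2 : IsW P (l1 ++ c) := by
        intro x hx
        apply hlm
        rw [hc1]
        simp only [List.mem_append, List.mem_cons] at hx ⊢
        tauto
      apply eqv_cancel_right P hW2.prod_N (P.N.mul_mem (S_N P hs) hm) hn
      have e2 : ((l1 ++ c).prod * n)⁻¹ * ((l1 ++ c).prod * ln.prod) ∈ P.B := eqv_mul_left P _ (eqv_symm P hln2)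
      refine eqv_trans P e2 ?_
      have e3 : (l1 ++ c).prod * ln.prod = (l1 ++ l2).prod := by rw [hc3]; simp [mul_assoc]
      rw [e3, mul_assoc]; exact h3

theorem len_H_mul {x m : G} (hx : x ∈ P.B) (hxN : x ∈ P.N) (hm : m ∈ P.N) : len P (x * m) = len P m := by
  apply len_congr
  have e : (x * m)⁻¹ * m = m⁻¹ * x⁻¹ * m := by group
  rw [e]
  exact conj_B' P hm (P.B.inv_mem hx) (P.N.inv_mem hxN)

theorem len_mul_H {x m : G} (hx : x ∈ P.B) : len P (m * x) = len P m := by
  apply len_congr
  have e : (m * x)⁻¹ * m = x⁻¹ := by group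
  rw [e]
  exact P.B.inv_mem hx

theorem len_add_of_min {K : Set G} (hK : K ⊆ P.S) {m : G} (hm : m ∈ P.N)
    (hmin : ∀ x ∈ Subgroup.closure K, len P m ≤ len P (x * m)) :
    ∀ (k : ℕ) (x : G), x ∈ Subgroup.closure K → len P x = k → len P (x * m) = len P x + len P m := by
  intro k
  induction k with
  | zero =>
    intro x hx h0
    rw [h0, zero_add]
    exact len_H_mul P ((len_eq_zero P (closure_N P hK hx)).1 h0) (closure_N P hK hx) hm
  | succ k ih =>
    intro x hx hxl
    obtain ⟨l, hl1, hl2, hl3⟩ := closure_reduced P hK hx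
    cases l with
    | nil => simp at hl2; omega
    | cons s l =>
      have hsK : s ∈ K := hl1 s (by simp)
      have hs := hK hsK
      have hlK : ∀ z ∈ l, z ∈ K := fun z hz => hl1 z (by simp [hz])
      have hlW : IsW P l := fun z hz => hK (hlK z hz)
      have hxc : l.prod ∈ Subgroup.closure K := Subgroup.list_prod_mem _ (fun z hz => Subgroup.subset_closure (hlK z hz))
      have hxN := closure_N P hK hxc
      rw [List.prod_cons] at hl3
      rw [List.length_cons] at hl2
      have h1 : len P l.prod ≤ l.length := len_le P hlW (eqv_refl P _)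
      have h2 := len_mul_le P hs hxN
      rw [len_congr P hl3] at h2
      have h3 : len P l.prod = k := by omega
      have h4 := ih _ hxc h3
      have h5 : (s * l.prod * m)⁻¹ * (x * m) ∈ P.B :=
        eqv_mul_right P (P.N.mul_mem (S_N P hs) hxN) (closure_N P hK hx) hm hl3
      rw [← len_congr P h5, mul_assoc]
      rcases len_mul_cases P hs (P.N.mul_mem hxN hm) with h6 | h6
      · omega
      · exfalso
        rcases exch2 P (J := K) hs hxN hm h4 hlW (by omega) (eqv_refl P _) (by omega) with ⟨l1, t, l2, he, h7⟩ | ⟨n', hn', h7, h8⟩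
        · have hW2 : IsW P (l1 ++ l2) := by
            intro y hy
            apply hlW
            rw [he]
            simp only [List.mem_append, List.mem_cons] at hy ⊢
            tauto
          have h9 := len_le P hW2 h7
          rw [len_congr P hl3] at h9
          rw [he] at h1 hl2
          simp only [List.length_append, List.length_cons] at h9 hl2
          omega
        · have h9 := hmin (l.prod⁻¹ * s * l.prod) (Subgroup.mul_mem _ (Subgroup.mul_mem _ (Subgroup.inv_mem _ hxc)
            (Subgroup.subset_closure hsK)) hxc)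
          have h10 : n'⁻¹ * (l.prod⁻¹ * s * l.prod * m) ∈ P.B := by
            have e : n'⁻¹ * (l.prod⁻¹ * s * l.prod * m) = (l.prod * n')⁻¹ * (s * (l.prod * m)) := by group
            rw [e]; exact h8
          rw [← len_congr P h10] at h9
          omega

theorem len_add_of_asc {K : Set G} (hK : K ⊆ P.S) {n : G} (hn : n ∈ P.N)
    (hasc : ∀ s ∈ K, len P n < len P (s * n)) {x : G} (hx : x ∈ Subgroup.closure K) :
    len P (x * n) = len P x + len P n := by
  classical
  have hex : ∃ k, ∃ z ∈ Subgroup.closure K, len P (z * n) = k := ⟨_, 1, Subgroup.one_mem _, rfl⟩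
  obtain ⟨z, hz, hzl⟩ := Nat.find_spec hex
  have hzN := closure_N P hK hz
  have hmin : ∀ x ∈ Subgroup.closure K, len P (z * n) ≤ len P (x * (z * n)) := by
    intro x hx
    rw [hzl]
    exact Nat.find_min' hex ⟨x * z, Subgroup.mul_mem _ hx hz, by rw [mul_assoc]⟩
  have hmN := P.N.mul_mem hzN hn
  have hA := fun x hx => len_add_of_min P hK hmN hmin _ x hx rfl
  have h1 := hA z⁻¹ (Subgroup.inv_mem _ hz)
  rw [inv_mul_cancel_left] at h1
  by_cases h0 : len P z⁻¹ = 0
  · have h2 := (len_eq_zero P (P.N.inv_mem hzN)).1 h0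
    have h3 := hA (x * z⁻¹) (Subgroup.mul_mem _ hx (Subgroup.inv_mem _ hz))
    have e : x * z⁻¹ * (z * n) = x * n := by group
    rw [e, len_mul_H P h2] at h3
    rw [h3, h1, h0, zero_add]
  · exfalso
    obtain ⟨l, hl1, hl2, hl3⟩ := closure_reduced P hK (Subgroup.inv_mem _ hz)
    cases l with
    | nil => simp at hl2; omega
    | cons s l =>
      have hsK : s ∈ K := hl1 s (by simp)
      have hs := hK hsK
      have hlK : ∀ z ∈ l, z ∈ K := fun z hz => hl1 z (by simp [hz])
      have hlW : IsW P l := fun z hz => hK (hlK z hz)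
      have h2 := hasc s hsK
      rw [List.prod_cons] at hl3
      rw [List.length_cons] at hl2
      have h3 : (s * l.prod * (z * n))⁻¹ * n ∈ P.B := by
        have := eqv_mul_right P (P.N.mul_mem (S_N P hs) hlW.prod_N) (P.N.inv_mem hzN) hmN hl3
        rwa [inv_mul_cancel_left] at this
      have h4 : (s * (s * (l.prod * (z * n))))⁻¹ * (s * n) ∈ P.B := by
        rw [mul_assoc] at h3; exact eqv_mul_left P s h3
      have h5 := len_congr P h4
      rw [len_ss P hs (P.N.mul_mem hlW.prod_N hmN)] at h5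
      have h6 := len_add_le P hlW.prod_N hmN
      have h7 : len P l.prod ≤ l.length := len_le P hlW (eqv_refl P _)
      omega

theorem C_mul_C : ∀ (k : ℕ) {n x g g' : G}, n ∈ P.N → x ∈ P.N → len P n = k → len P (n * x) = len P n + len P x →
    g ∈ C P n → g' ∈ C P x → g * g' ∈ C P (n * x) := by
  intro k
  induction k with
  | zero =>
    intro n x g g' hn hx h0 _ hg hg'
    have hB := (len_eq_zero P hn).1 h0
    rw [C_of_mem_B P hB] at hg
    rw [C_B_mul P hB, C_mul_left P hg]
    exact hg'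
  | succ k ih =>
    intro n x g g' hn hx hk hl hg hg'
    obtain ⟨s, hs, m, hm, hml, rfl⟩ := exists_left P hn hk
    have h1 := len_mul_le P hs (P.N.mul_mem hm hx)
    have h2 := len_add_le P hm hx
    rw [mul_assoc] at hl
    have h3 : len P (m * x) = len P m + len P x := by omega
    obtain ⟨b, hb, b', hb', rfl⟩ := hg
    have h4 : m * (b' * g') ∈ C P (m * x) := ih hm hx hml h3 (self_mem_C P m) ((C_mul_left P hb').2 hg')
    have h5 := mul_C' P hs (P.N.mul_mem hm hx) (by omega) h4
    have e : b * (s * m) * b' * g' = b * (s * (m * (b' * g'))) := by group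
    rw [e, C_mul_left P hb, mul_assoc]
    exact h5

/-- every element is a prefix of a longest element -/
theorem longest_dec {y : G} (hy : y ∈ P.N) (hd : ∀ s ∈ P.S, len P (s * y) < len P y) :
    ∀ (k : ℕ) (n : G), n ∈ P.N → len P n = k → ∃ z ∈ P.N, (n * z)⁻¹ * y ∈ P.B ∧ len P y = len P n + len P z := by
  intro k
  induction k with
  | zero =>
    intro n hn h0
    have hB := (len_eq_zero P hn).1 h0
    refine ⟨n⁻¹ * y, P.N.mul_mem (P.N.inv_mem hn) hy, ?_, ?_⟩
    · rw [mul_inv_cancel_left]; exact eqv_refl P _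
    · rw [h0, zero_add, len_H_mul P (P.B.inv_mem hB) (P.N.inv_mem hn) hy]
  | succ k ih =>
    intro n hn hk
    obtain ⟨s, hs, m, hm, hml, rfl⟩ := exists_left P hn hk
    obtain ⟨z, hz, hz1, hz2⟩ := ih m hm hml
    obtain ⟨lm, hlm, hlm1, hlm2⟩ := exists_len P hm
    have h1 := len_congr P hz1
    have h2 := len_congr P (eqv_mul_left P s hz1)
    have h3 := hd s hs
    rcases exch2 P (J := P.S) hs hm hz (by omega) hlm hlm1 hlm2 (by omega) with ⟨l1, t, l2, he, h7⟩ | ⟨z', hz', h7, h8⟩
    · exfalso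
      have hW2 : IsW P (l1 ++ l2) := by
        intro y hy
        apply hlm
        rw [he]
        simp only [List.mem_append, List.mem_cons] at hy ⊢
        tauto
      have h9 := len_le P hW2 h7
      rw [he] at hlm1
      simp only [List.length_append, List.length_cons] at h9 hlm1
      omega
    · have h9 : (s * m * z')⁻¹ * y ∈ P.B := by
        have e1 := eqv_mul_left P s h8
        have e2 : (s * (s * (m * z)))⁻¹ * (m * z) ∈ P.B := eqv_symm P (eqv_sq_mul P hs (P.N.mul_mem hm hz))
        rw [mul_assoc]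
        exact eqv_trans P (eqv_trans P e1 e2) hz1
      refine ⟨z', hz', h9, ?_⟩
      have h10 := len_add_le P hn hz'
      rw [len_congr P h9] at h10
      omega

theorem fix_prefix : ∀ (k : ℕ) {n z b : G}, n ∈ P.N → z ∈ P.N → len P n = k → len P (n * z) = len P n + len P z →
    b ∈ P.B → (n * z)⁻¹ * b * (n * z) ∈ P.B → n⁻¹ * b * n ∈ P.B := by
  intro k
  induction k with
  | zero =>
    intro n z b hn hz h0 _ hb _
    have hB := (len_eq_zero P hn).1 h0
    exact P.B.mul_mem (P.B.mul_mem (P.B.inv_mem hB) hb) hB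
  | succ k ih =>
    intro n z b hn hz hk hl hb hy
    obtain ⟨s, hs, m, hm, hml, rfl⟩ := exists_left P hn hk
    have h1 := len_mul_le P hs (P.N.mul_mem hm hz)
    have h2 := len_add_le P hm hz
    have hl' := hl
    rw [mul_assoc] at hl'
    have h3 : len P (m * z) = len P m + len P z := by omega
    have hmz := P.N.mul_mem hm hz
    have hc : s⁻¹ * b * s ∈ P.B := by
      have h4 : b * s ∈ C P s := (C_mul_left P hb).2 (self_mem_C P s)
      have h5 := T3' P hs (S_N P hs) h4
      rw [← mul_assoc] at h5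
      rcases h5 with h5 | h5
      · rwa [C_of_mem_B P (P.sq_mem s hs)] at h5
      · exfalso
        have h6 : s⁻¹ * b * s * (m * z) ∈ C P (s * (m * z)) := by
          obtain ⟨c, hc, c', hc', he⟩ := h5
          rw [he]
          have h7 := mul_C' P hs hmz (by omega) ((C_mul_left P hc').2 (self_mem_C P (m * z)))
          have e : c * s * c' * (m * z) = c * (s * (c' * (m * z))) := by group
          rw [e, C_mul_left P hc]; exact h7
        have h8 : s⁻¹ * b * s * (m * z) ∈ C P (m * z) := by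
          have e : s⁻¹ * b * s * (m * z) = (m * z) * ((s * m * z)⁻¹ * b * (s * m * z)) := by group
          rw [e, C_mul_right P hy]; exact self_mem_C P _
        exact not_eqv_mul P hs hmz (uniq' P (P.N.mul_mem (S_N P hs) hmz) hmz h6 h8)
    have h9 := ih hm hz hml h3 hc (by
      have e : (m * z)⁻¹ * (s⁻¹ * b * s) * (m * z) = (s * m * z)⁻¹ * b * (s * m * z) := by group
      rw [e]; exact hy)
    have e : (s * m)⁻¹ * b * (s * m) = m⁻¹ * (s⁻¹ * b * s) * m := by group
    rw [e]; exact h9

/-- elements fixing two opposite chambers fix the apartment -/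
theorem fix_all {y : G} (hy : y ∈ P.N) (hd : ∀ s ∈ P.S, len P (s * y) < len P y) {b : G} (hb : b ∈ P.B)
    (hb' : y⁻¹ * b * y ∈ P.B) {n : G} (hn : n ∈ P.N) : n⁻¹ * b * n ∈ P.B := by
  obtain ⟨z, hz, h1, h2⟩ := longest_dec P hy hd _ n hn rfl
  apply fix_prefix P _ hn hz rfl (by rw [len_congr P h1]; exact h2) hb
  have e : (n * z)⁻¹ * b * (n * z) = ((n * z)⁻¹ * y) * (y⁻¹ * b * y) * ((n * z)⁻¹ * y)⁻¹ := by group
  rw [e]
  exact P.B.mul_mem (P.B.mul_mem h1 hb') (P.B.inv_mem h1)

/-- longest elements are unique -/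
theorem longest_uniq {y y' : G} (hy : y ∈ P.N) (hd : ∀ s ∈ P.S, len P (s * y) < len P y)
    (hy' : y' ∈ P.N) (hd' : ∀ s ∈ P.S, len P (s * y') < len P y') : y⁻¹ * y' ∈ P.B := by
  obtain ⟨z, hz, h1, h2⟩ := longest_dec P hy hd _ y' hy' rfl
  obtain ⟨z', hz', h1', h2'⟩ := longest_dec P hy' hd' _ y hy rfl
  have h3 : len P z = 0 := by omega
  have h4 := (len_eq_zero P hz).1 h3
  have e : y'⁻¹ * y = z * ((y' * z)⁻¹ * y) := by group
  apply eqv_symm
  rw [e]
  exact P.B.mul_mem h4 h1

/-- the longest element lemma -/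
theorem longest_of {n : G} (hn : n ∈ P.N) (hc : ∀ s ∈ P.S, len P n < len P (s * n) → (s * n)⁻¹ * (n * s) ∈ P.B)
    {k : G} (hk : k ∈ Subgroup.closure {s | s ∈ P.S ∧ len P n < len P (s * n)})
    (hk' : ∀ s ∈ P.S, len P n < len P (s * n) → len P (s * k) < len P k) {s : G} (hs : s ∈ P.S) :
    len P (s * (k * n)) < len P (k * n) := by
  have hK : {s | s ∈ P.S ∧ len P n < len P (s * n)} ⊆ P.S := fun s hs => hs.1
  have hkN := closure_N P hK hk
  have h1 : len P (k * n) = len P k + len P n := len_add_of_asc P hK hn (fun s hs => hs.2) hk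
  have hcl : ∀ m ∈ Subgroup.closure {s | s ∈ P.S ∧ len P n < len P (s * n)}, (m * n)⁻¹ * (n * m) ∈ P.B := by
    intro m hm
    refine Subgroup.closure_induction_left (p := fun m _ => (m * n)⁻¹ * (n * m) ∈ P.B) ?_ ?_ ?_ hm
    · rw [one_mul, mul_one]; exact eqv_refl P _
    · rintro x ⟨hx, hx'⟩ y hy h2
      have hyN := closure_N P hK hy
      have e1 : (x * y * n)⁻¹ * (x * (n * y)) ∈ P.B := by rw [mul_assoc]; exact eqv_mul_left P x h2
      have e2 : (x * (n * y))⁻¹ * (n * x * y) ∈ P.B := by
        rw [← mul_assoc x n y]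
        exact eqv_mul_right P (P.N.mul_mem (S_N P hx) hn) (P.N.mul_mem hn (S_N P hx)) hyN (hc x hx hx')
      have := eqv_trans P e1 e2
      rwa [mul_assoc n x y] at this
    · rintro x ⟨hx, hx'⟩ y hy h2
      have hyN := closure_N P hK hy
      have hxN := S_N P hx
      have e1 : (x⁻¹ * y * n)⁻¹ * (x⁻¹ * (n * y)) ∈ P.B := by rw [mul_assoc]; exact eqv_mul_left P x⁻¹ h2
      have e3 : (x⁻¹ * n)⁻¹ * (n * x⁻¹) ∈ P.B := by
        have e4 : (n * x)⁻¹ * (x * n) ∈ P.B := eqv_symm P (hc x hx hx')
        have e5 := eqv_mul_left P x⁻¹ (eqv_mul_right P (P.N.mul_mem hn hxN) (P.N.mul_mem hxN hn) (P.N.inv_mem hxN) e4)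
        have e6 : x⁻¹ * (n * x * x⁻¹) = x⁻¹ * n := by group
        have e7 : x⁻¹ * (x * n * x⁻¹) = n * x⁻¹ := by group
        rwa [e6, e7] at e5
      have e2 : (x⁻¹ * (n * y))⁻¹ * (n * x⁻¹ * y) ∈ P.B := by
        rw [← mul_assoc x⁻¹ n y]
        exact eqv_mul_right P (P.N.mul_mem (P.N.inv_mem hxN) hn) (P.N.mul_mem hn (P.N.inv_mem hxN)) hyN e3
      have := eqv_trans P e1 e2
      rwa [mul_assoc n x⁻¹ y] at this
  by_cases h2 : len P n < len P (s * n)
  · have h3 := hk' s hs h2
    have h4 := len_add_le P (P.N.mul_mem (S_N P hs) hkN) hn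
    rw [mul_assoc] at h4
    omega
  · have h3 := len_mul_ne P hs hn
    have h4 := hcl k hk
    have h5 := len_congr P (eqv_mul_left P s h4)
    have h6 := len_add_le P (P.N.mul_mem (S_N P hs) hn) hkN
    rw [mul_assoc] at h6
    omega

end CfsgLib.Inv
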