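import Mathlib
import Cfsg.Agent.LibInv1

set_option autoImplicit false
set_option linter.all false

/-! Involutions in groups with a split BN-pair of characteristic two, main theorem -/

namespace CfsgLib.Inv

open Cfsg CfsgLib.BN

/-- splitting data -/
structure Spl {G : Type*} [Group G] (P : BNPair G) (U : Subgroup G) : Prop where
  le : U ≤ P.B
  dec : ∀ b ∈ P.B, ∃ h ∈ P.B, h ∈ P.N ∧ h⁻¹ * b ∈ U
  two : ∀ b ∈ P.B, (∃ k : ℕ, b ^ (2 ^ k) = 1) → b ∈ U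
  pow : ∀ u ∈ U, ∃ k : ℕ, u ^ (2 ^ k) = 1
  triv : ∀ u ∈ U, u ∈ P.N → u = 1
  sat : ∃ n₀ ∈ P.N, ∀ u ∈ U, n₀⁻¹ * u * n₀ ∈ P.B → u = 1

variable {G : Type*} [Group G] {P : BNPair G} {U : Subgroup G}

/-- the non-descents -/
def Asc (P : BNPair G) (n : G) : Set G := {s | s ∈ P.S ∧ len P n < len P (s * n)}

theorem Asc_sub (n : G) : Asc P n ⊆ P.S := fun _ hs => hs.1

theorem closure_comm {n : G} (hn : n ∈ P.N) (hc : ∀ s ∈ Asc P n, (s * n)⁻¹ * (n * s) ∈ P.B) :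
    ∀ m ∈ Subgroup.closure (Asc P n), (m * n)⁻¹ * (n * m) ∈ P.B := by
  have hK := Asc_sub (P := P) n
  intro m hm
  refine Subgroup.closure_induction_left (p := fun m _ => (m * n)⁻¹ * (n * m) ∈ P.B) ?_ ?_ ?_ hm
  · rw [one_mul, mul_one]; exact eqv_refl P _
  · rintro x ⟨hx, hx'⟩ y hy h2
    have hyN := closure_N P hK hy
    have e1 : (x * y * n)⁻¹ * (x * (n * y)) ∈ P.B := by rw [mul_assoc]; exact eqv_mul_left P x h2
    have e2 : (x * (n * y))⁻¹ * (n * x * y) ∈ P.B := by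
      rw [← mul_assoc x n y]
      exact eqv_mul_right P (P.N.mul_mem (S_N P hx) hn) (P.N.mul_mem hn (S_N P hx)) hyN (hc x ⟨hx, hx'⟩)
    have := eqv_trans P e1 e2
    rwa [mul_assoc n x y] at this
  · rintro x ⟨hx, hx'⟩ y hy h2
    have hyN := closure_N P hK hy
    have hxN := S_N P hx
    have e1 : (x⁻¹ * y * n)⁻¹ * (x⁻¹ * (n * y)) ∈ P.B := by rw [mul_assoc]; exact eqv_mul_left P x⁻¹ h2
    have e3 : (x⁻¹ * n)⁻¹ * (n * x⁻¹) ∈ P.B := by
      have e4 : (n * x)⁻¹ * (x * n) ∈ P.B := eqv_symm P (hc x ⟨hx, hx'⟩)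
      have e5 := eqv_mul_left P x⁻¹ (eqv_mul_right P (P.N.mul_mem hn hxN) (P.N.mul_mem hxN hn) (P.N.inv_mem hxN) e4)
      have e6 : x⁻¹ * (n * x * x⁻¹) = x⁻¹ * n := by group
      have e7 : x⁻¹ * (x * n * x⁻¹) = n * x⁻¹ := by group
      rwa [e6, e7] at e5
    have e2 : (x⁻¹ * (n * y))⁻¹ * (n * x⁻¹ * y) ∈ P.B := by
      rw [← mul_assoc x⁻¹ n y]
      exact eqv_mul_right P (P.N.mul_mem (P.N.inv_mem hxN) hn) (P.N.mul_mem hn (P.N.inv_mem hxN)) hyN e3
    have := eqv_trans P e1 e2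
    rwa [mul_assoc n x⁻¹ y] at this

/-- every involution is conjugate to a special involution of `N` -/
theorem conj_N [Finite G] (h : Spl P U) {t : G} (ht : t * t = 1) : ∃ g n, g * t * g⁻¹ = n ∧ n ∈ P.N ∧ n * n = 1 ∧
    (∀ s ∈ Asc P n, (s * n)⁻¹ * (n * s) ∈ P.B) ∧ (∀ g ∈ P.parabolic (Asc P n), g * n * g⁻¹ ∈ C P n) := by
  classical
  -- maximal length
  let A : Set (G × G) := {p | p.2 ∈ P.N ∧ p.1 * t * p.1⁻¹ ∈ C P p.2}
  have hA : A.Nonempty := by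
    obtain ⟨n, hn, hC⟩ := bruhat P t
    exact ⟨(1, n), hn, by simpa using hC⟩
  obtain ⟨⟨g0, n0⟩, ⟨hn0, hC0⟩, hmax⟩ := Set.exists_max_image A (fun p => len P p.2) (Set.toFinite _) hA
  simp only at hn0 hC0 hmax
  obtain ⟨b, hb, b', hb', he⟩ := hC0
  obtain ⟨h0, h0B, h0N, hu⟩ := h.dec (b' * b) (P.B.mul_mem hb' hb)
  set u := h0⁻¹ * (b' * b) with hudef
  set n := n0 * h0 with hndef
  have hn : n ∈ P.N := P.N.mul_mem hn0 h0N
  have hnn0 : n0⁻¹ * n ∈ P.B := by rw [hndef, inv_mul_cancel_left]; exact h0B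
  have hlen : len P n0 = len P n := len_congr P hnn0
  have ht2 : (b⁻¹ * g0) * t * (b⁻¹ * g0)⁻¹ = n * u := by
    have e : (b⁻¹ * g0) * t * (b⁻¹ * g0)⁻¹ = b⁻¹ * (g0 * t * g0⁻¹) * b := by group
    rw [e, he, hndef, hudef]; group
  have hmax' : ∀ g m, m ∈ P.N → g * (n * u) * g⁻¹ ∈ C P m → len P m ≤ len P n := by
    intro g m hm hC
    rw [← hlen]
    refine hmax (g * (b⁻¹ * g0), m) ⟨hm, ?_⟩
    have e : g * (b⁻¹ * g0) * t * (g * (b⁻¹ * g0))⁻¹ = g * ((b⁻¹ * g0) * t * (b⁻¹ * g0)⁻¹) * g⁻¹ := by group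
    simp only
    rw [e, ht2]; exact hC
  have hsq : (n * u) * (n * u) = 1 := by
    rw [← ht2]
    have e : (b⁻¹ * g0) * t * (b⁻¹ * g0)⁻¹ * ((b⁻¹ * g0) * t * (b⁻¹ * g0)⁻¹) = (b⁻¹ * g0) * (t * t) * (b⁻¹ * g0)⁻¹ := by group
    rw [e, ht]; group
  have huB : u ∈ P.B := h.le hu
  have hnuC : n * u ∈ C P n := (C_mul_right P huB).2 (self_mem_C P n)
  have hnnB : n * n ∈ P.B := by
    have h1 : (n * u)⁻¹ ∈ C P n⁻¹ := (inv_mem_C P).2 hnuC
    have h2 : (n * u)⁻¹ = n * u := inv_eq_of_mul_eq_one_right hsq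
    rw [h2] at h1
    have := uniq' P (P.N.inv_mem hn) hn h1 hnuC
    rwa [inv_inv] at this
  have hnun : n * u * n⁻¹ = u⁻¹ * (n * n)⁻¹ := by
    have : n * u * n⁻¹ * (n * n) * u = 1 := by rw [← hsq]; group
    rw [eq_mul_inv_iff_mul_eq, eq_inv_iff_mul_eq_one]; exact this
  have hnunB : n * u * n⁻¹ ∈ P.B := by rw [hnun]; exact P.B.mul_mem (P.B.inv_mem huB) (P.B.inv_mem hnnB)
  have hnunU : n * u * n⁻¹ ∈ U := by
    apply h.two _ hnunB
    obtain ⟨k, hk⟩ := h.pow u hu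
    refine ⟨k, ?_⟩
    have : (n * u * n⁻¹) ^ (2 ^ k) = n * u ^ (2 ^ k) * n⁻¹ := by
      rw [← conj_pow]
    rw [this, hk]; group
  have hnn : n * n = 1 := by
    have h1 : (n * n)⁻¹ ∈ U := by
      have : (n * n)⁻¹ = u * (n * u * n⁻¹) := by rw [hnun]; group
      rw [this]; exact U.mul_mem hu hnunU
    have := h.triv _ h1 (P.N.inv_mem (P.N.mul_mem hn hn))
    exact inv_eq_one.1 this
  have hnu : n * u * n⁻¹ = u⁻¹ := by rw [hnun, hnn]; simp
  have hninv : n⁻¹ = n := inv_eq_of_mul_eq_one_right hnn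
  -- non-descents commute with n
  have hsC : ∀ s ∈ Asc P n, ∀ g, g * (n * u) * g⁻¹ ∈ C P n →
      s * (g * (n * u) * g⁻¹) * s⁻¹ ∈ C P (s * n * s) := by
    rintro s ⟨hs, hs'⟩ g hg
    have h1 := mul_C' P hs hn hs'.le hg
    have hsn := P.N.mul_mem (S_N P hs) hn
    have h2 := T3r P hs hsn ((C_mul_right P (b := (s * s)⁻¹) (P.B.inv_mem (P.sq_mem s hs))).2 h1)
    have e : s * (g * (n * u) * g⁻¹) * (s * s)⁻¹ * s = s * (g * (n * u) * g⁻¹) * s⁻¹ := by group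
    rw [e] at h2
    rcases h2 with h2 | h2
    · exact h2
    · exfalso
      have e2 : s * (g * (n * u) * g⁻¹) * s⁻¹ = (s * g) * (n * u) * (s * g)⁻¹ := by group
      rw [e2] at h2
      have := hmax' _ _ hsn h2
      omega
  have hcomm : ∀ s ∈ Asc P n, (s * n)⁻¹ * (n * s) ∈ P.B := by
    rintro s ⟨hs, hs'⟩
    have hsn := P.N.mul_mem (S_N P hs) hn
    have h1 := hsC s ⟨hs, hs'⟩ 1 (by simpa using hnuC)
    have e2 : s * (1 * (n * u) * 1⁻¹) * s⁻¹ = s * (n * u) * s⁻¹ := by group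
    rw [e2] at h1
    have h2 := hmax' _ _ (P.N.mul_mem hsn (S_N P hs)) h1
    apply exchange P hs hs hn hs'
    rw [len_mul_right P hs hn, hninv, ← mul_assoc]
    omega
  have hsns : ∀ s ∈ Asc P n, C P (s * n * s) = C P n := by
    rintro s ⟨hs, hs'⟩
    have hsN := S_N P hs
    have h1 := hcomm s ⟨hs, hs'⟩
    have h2 := eqv_mul_right P (P.N.mul_mem hsN hn) (P.N.mul_mem hn hsN) hsN h1
    rw [C_eq_of_eqv P h2, mul_assoc]
    exact C_mul_B P (P.sq_mem s hs)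
  have hpar : ∀ g ∈ P.parabolic (Asc P n), g * (n * u) * g⁻¹ ∈ C P n := by
    intro g hg
    have hcl : P.parabolic (Asc P n) = Subgroup.closure ((P.B : Set G) ∪ Asc P n) := by
      rw [Subgroup.closure_union, Subgroup.closure_eq]; rfl
    rw [hcl] at hg
    refine Subgroup.closure_induction_left (p := fun g _ => g * (n * u) * g⁻¹ ∈ C P n) ?_ ?_ ?_ hg
    · simpa using hnuC
    · rintro x hx y _ hy
      have e : x * y * (n * u) * (x * y)⁻¹ = x * (y * (n * u) * y⁻¹) * x⁻¹ := by group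
      rw [e]
      rcases hx with hx | hx
      · rw [C_mul_right P (P.B.inv_mem hx), C_mul_left P hx]; exact hy
      · rw [← hsns x hx]; exact hsC x hx y hy
    · rintro x hx y _ hy
      rcases hx with hx | hx
      · have e : x⁻¹ * y * (n * u) * (x⁻¹ * y)⁻¹ = x⁻¹ * (y * (n * u) * y⁻¹) * x := by group
        rw [e, C_mul_right P hx, C_mul_left P (P.B.inv_mem hx)]; exact hy
      · have e : x⁻¹ * y * (n * u) * (x⁻¹ * y)⁻¹ = (x * x)⁻¹ * (x * (y * (n * u) * y⁻¹) * x⁻¹) * (x * x) := by group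
        rw [e, C_mul_right P (P.sq_mem x hx.1), C_mul_left P (P.B.inv_mem (P.sq_mem x hx.1)), ← hsns x hx]
        exact hsC x hx y hy
  have hK := Asc_sub (P := P) n
  have hclc := closure_comm hn hcomm
  -- u is in all the conjugates
  have huK : ∀ m ∈ Subgroup.closure (Asc P n), m * u * m⁻¹ ∈ P.B := by
    intro m hm
    have hmN := closure_N P hK hm
    have hmP : m ∈ P.parabolic (Asc P n) := (le_sup_right : Subgroup.closure _ ≤ P.parabolic _) hm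
    have h1 := hpar m hmP
    have e : m * (n * u) * m⁻¹ = n * ((n⁻¹ * (m * n * m⁻¹)) * (m * u * m⁻¹)) := by group
    have hh : n⁻¹ * (m * n * m⁻¹) ∈ P.B := by
      have h2 := hclc m hm
      have h3 := eqv_mul_right P (P.N.mul_mem hmN hn) (P.N.mul_mem hn hmN) (P.N.inv_mem hmN) h2
      have e3 : n * m * m⁻¹ = n := by group
      rw [e3] at h3
      exact eqv_symm P h3
    have hv : (n⁻¹ * (m * n * m⁻¹)) * (m * u * m⁻¹) ∈ P.parabolic (Asc P n) :=
      Subgroup.mul_mem _ (B_le_parabolic P _ hh)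
        (Subgroup.mul_mem _ (Subgroup.mul_mem _ hmP (B_le_parabolic P _ huB)) (Subgroup.inv_mem _ hmP))
    obtain ⟨x, hx, hxC⟩ := (mem_parabolic P hK _).1 hv
    have hxN := closure_N P hK hx
    have hl : len P (n * x) = len P n + len P x := by
      rw [← len_congr P (hclc x hx), len_add_of_asc P hK hn (fun s hs => hs.2) hx, add_comm]
    have h2 := C_mul_C P _ hn hxN rfl hl (self_mem_C P n) hxC
    rw [← e] at h2
    have h3 := uniq' P hn (P.N.mul_mem hn hxN) h1 h2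
    rw [inv_mul_cancel_left] at h3
    rw [C_of_mem_B P h3] at hxC
    have e4 : m * u * m⁻¹ = (n⁻¹ * (m * n * m⁻¹))⁻¹ * ((n⁻¹ * (m * n * m⁻¹)) * (m * u * m⁻¹)) := by group
    rw [e4]; exact P.B.mul_mem (P.B.inv_mem hh) hxC
  -- a longest element of the parabolic
  obtain ⟨k, hk, hkmax⟩ := Set.exists_max_image (Subgroup.closure (Asc P n) : Set G) (fun m => len P m) (Set.toFinite _)
    ⟨1, Subgroup.one_mem _⟩
  have hkN := closure_N P hK hk
  have hk' : ∀ s ∈ P.S, len P n < len P (s * n) → len P (s * k) < len P k := by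
    intro s hs hs'
    have h1 : len P (s * k) ≤ len P k := hkmax (s * k) (Subgroup.mul_mem _ (Subgroup.subset_closure ⟨hs, hs'⟩) hk)
    have h2 := len_mul_ne P hs hkN
    omega
  have hyN := P.N.mul_mem hkN hn
  have hlong : ∀ s ∈ P.S, len P (s * (k * n)) < len P (k * n) := fun s hs =>
    longest_of P hn (fun s hs hs' => hcomm s ⟨hs, hs'⟩) hk hk' hs
  have hyu : (k * n) * u * (k * n)⁻¹ ∈ P.B := by
    have e : (k * n) * u * (k * n)⁻¹ = (k * u * k⁻¹)⁻¹ := by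
      have e1 : (k * n) * u * (k * n)⁻¹ = k * (n * u * n⁻¹) * k⁻¹ := by group
      rw [e1, hnu]; group
    rw [e]; exact P.B.inv_mem (huK k hk)
  have hu1 : u = 1 := by
    obtain ⟨m, hm, hsat⟩ := h.sat
    apply hsat u hu
    have h1 := fix_all P hyN hlong hyu (by
      have e : (k * n)⁻¹ * ((k * n) * u * (k * n)⁻¹) * (k * n) = u := by group
      rw [e]; exact huB) (P.N.mul_mem hyN hm)
    have e : (k * n * m)⁻¹ * ((k * n) * u * (k * n)⁻¹) * (k * n * m) = m⁻¹ * u * m := by group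
    rwa [e] at h1
  refine ⟨b⁻¹ * g0, n, ?_, hn, hnn, hcomm, ?_⟩
  · rw [ht2, hu1, mul_one]
  · intro g hg
    have := hpar g hg
    rwa [hu1, mul_one] at this

/-- any longest element of the parabolic composed with `n` is the longest element -/
theorem conj_N' {n : G} (hn : n ∈ P.N) (hc : ∀ s ∈ Asc P n, (s * n)⁻¹ * (n * s) ∈ P.B)
    {k : G} (hk : k ∈ Subgroup.closure (Asc P n)) (hk' : ∀ s ∈ Asc P n, len P (s * k) < len P k)
    {y : G} (hy : y ∈ P.N) (hd : ∀ s ∈ P.S, len P (s * y) < len P y) : (k * n)⁻¹ * y ∈ P.B :=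
  longest_uniq P (P.N.mul_mem (closure_N P (Asc_sub n) hk) hn)
    (fun s hs => longest_of P hn (fun s hs hs' => hc s ⟨hs, hs'⟩) hk (fun s hs hs' => hk' s ⟨hs, hs'⟩) hs) hy hd

/-- involutions in the same coset of `H` are conjugate -/
theorem conj_H [Finite G] (h : Spl P U) {n m : G} (hn : n ∈ P.N) (hm : m ∈ P.N) (hnn : n * n = 1) (hmm : m * m = 1)
    (hnm : n⁻¹ * m ∈ P.B) : ∃ c, c * n * c⁻¹ = m := by
  -- z = n m has odd order and is inverted by n
  have hz : n * m ∈ P.B := by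
    have : n⁻¹ = n := inv_eq_of_mul_eq_one_right hnn
    rwa [this] at hnm
  have hzN := P.N.mul_mem hn hm
  have hodd : Odd (orderOf (n * m)) := by
    rw [← Nat.not_even_iff_odd, even_iff_two_dvd]
    intro h2
    obtain ⟨j, hj⟩ := h2
    have h3 : orderOf (n * m) ≠ 0 := (orderOf_pos _).ne'
    have hj0 : j ≠ 0 := by rintro rfl; omega
    have h4 : ((n * m) ^ j) ^ 2 ^ 1 = 1 := by
      rw [← pow_mul, pow_one, mul_comm, ← hj, pow_orderOf_eq_one]
    have h5 := h.two _ (P.B.pow_mem hz j) ⟨1, h4⟩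
    have h6 := h.triv _ h5 (P.N.pow_mem hzN j)
    have h7 := orderOf_dvd_of_pow_eq_one h6
    have := Nat.le_of_dvd (Nat.pos_of_ne_zero hj0) h7
    omega
  obtain ⟨k, hk⟩ := hodd
  -- c = (n m)^(k+1) : c n c⁻¹ = ...
  refine ⟨((n * m) ^ (k + 1))⁻¹, ?_⟩
  have hni : n⁻¹ = n := inv_eq_of_mul_eq_one_right hnn
  have hmi : m⁻¹ = m := inv_eq_of_mul_eq_one_right hmm
  have hinv : n * (n * m) * n⁻¹ = (n * m)⁻¹ := by
    rw [_root_.mul_inv_rev, hni, hmi, ← mul_assoc n n m, hnn, one_mul]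
  have h1 : n * (n * m) ^ (k + 1) * n⁻¹ = ((n * m) ^ (k + 1))⁻¹ := by
    rw [← conj_pow, hinv, inv_pow]
  have h2 : ((n * m) ^ (k + 1))⁻¹ * n * (n * m) ^ (k + 1) = n * ((n * m) ^ (k + 1) * (n * m) ^ (k + 1)) := by
    rw [← h1]; group
  rw [inv_inv, h2, ← pow_add]
  have h3 : k + 1 + (k + 1) = (2 * k + 1) + 1 := by ring
  rw [h3, pow_succ, ← hk, pow_orderOf_eq_one, one_mul, ← mul_assoc, hnn, one_mul]

end CfsgLib.Inv
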