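import Mathlib
import Cfsg.Agent.LibInv2
import Cfsg.Agent.LibChevBP
import Cfsg.Agent.LibChevStb
import Cfsg.Agent.LibChevSyl

set_option autoImplicit false
set_option linter.all false

/-! Chevalley groups in characteristic two: involutions are conjugate into `N` -/

namespace CfsgLib.Inv

open Cfsg Matrix CfsgLib.BN CfsgLib.Chev Cfsg.Lie

variable {D : ChevalleyDatum} {T : Tb} (g : Good3 D T) {F : Type*} [Field F]

/-- the element of a word -/
noncomputable def NG (F : Type*) [Field F] (w : List ℕ) : ↥(D.group F) := ⟨g.nw w, g.nw_mem_G w⟩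

theorem NG_val (w : List ℕ) : ((NG g F w : ↥(D.group F)) : GL D.Idx F) = g.nw w := rfl

/-- BN-pair of the standard shape -/
structure IsStd (g : Good3 D T) (P : BNPair ↥(D.group F)) : Prop where
  hB : P.B = (D.borelSubgroup F).subgroupOf (D.group F)
  hN : P.N = (D.monomialSubgroup F).subgroupOf (D.group F)
  hS : P.S = {n : ↥(D.group F) | ∃ i < T.l, (n : GL D.Idx F) = g.nn i}

variable {g} {P : BNPair ↥(D.group F)} (hP : IsStd g P)
include hP

namespace IsStd

theorem mem_B {x : ↥(D.group F)} : x ∈ P.B ↔ (x : GL D.Idx F) ∈ D.borelSubgroup F := by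
  rw [hP.hB, Subgroup.mem_subgroupOf]

theorem mem_N {x : ↥(D.group F)} : x ∈ P.N ↔ (x : GL D.Idx F) ∈ D.monomialSubgroup F := by
  rw [hP.hN, Subgroup.mem_subgroupOf]

theorem mem_BN {x : ↥(D.group F)} (h1 : x ∈ P.B) (h2 : x ∈ P.N) : (x : GL D.Idx F) ∈ D.diagonalSubgroup F :=
  g.BN_inter (hP.mem_B.1 h1) (hP.mem_N.1 h2)

theorem NG_mem {w : List ℕ} (hw : VW T w) : NG g F w ∈ P.N := by
  rw [hP.mem_N]; exact g.nw_mem_N hw

theorem exists_word {n : ↥(D.group F)} (hn : n ∈ P.N) : ∃ w, VW T w ∧ (NG g F w)⁻¹ * n ∈ P.B := by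
  obtain ⟨w, hw, h, hh, e⟩ := g.mem_N.1 (hP.mem_N.1 hn)
  refine ⟨w, hw, ?_⟩
  rw [hP.mem_B]
  have : (((NG g F w)⁻¹ * n : ↥(D.group F)) : GL D.Idx F) = h := by
    rw [Subgroup.coe_mul, Subgroup.coe_inv, NG_val, e, inv_mul_cancel_left]
  rw [this]
  exact Good3.H_le_B hh

theorem eqv_iff {v w : List ℕ} (hv : VW T v) (hw : VW T w) : (NG g F v)⁻¹ * NG g F w ∈ P.B ↔
    ∀ r < T.n, wact T v r = wact T w r := by
  constructor
  · intro h
    have h1 := hP.mem_BN h (P.N.mul_mem (P.N.inv_mem (hP.NG_mem hv)) (hP.NG_mem hw))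
    have h2 := g.wact_congr hw hv h1 (by
      rw [Subgroup.coe_mul, Subgroup.coe_inv, NG_val, NG_val, mul_inv_cancel_left])
    exact fun r hr => (h2 r hr).symm
  · intro h
    obtain ⟨x, hx, e⟩ := g.nw_of_pw (F := F) hw hv ((g.pw_eq_iff hw hv).2 fun r hr => (h r hr).symm)
    rw [hP.mem_B]
    have : (((NG g F v)⁻¹ * NG g F w : ↥(D.group F)) : GL D.Idx F) = x := by
      rw [Subgroup.coe_mul, Subgroup.coe_inv, NG_val, NG_val, e, inv_mul_cancel_left]
    rw [this]
    exact Good3.H_le_B hx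

theorem S_mem {i : ℕ} (hi : i < T.l) : NG g F [i] ∈ P.S := by
  rw [hP.hS]
  exact ⟨i, hi, by rw [NG_val]; simp [Good3.nw]⟩

theorem S_eq {s : ↥(D.group F)} (hs : s ∈ P.S) : ∃ i < T.l, s = NG g F [i] := by
  rw [hP.hS] at hs
  obtain ⟨i, hi, he⟩ := hs
  refine ⟨i, hi, Subtype.ext ?_⟩
  rw [he, NG_val]; simp [Good3.nw]

omit hP in
theorem NG_append (v w : List ℕ) : NG g F (v ++ w) = NG g F v * NG g F w := Subtype.ext (g.nw_append v w)

omit hP in
theorem NG_cons (i : ℕ) (w : List ℕ) : NG g F (i :: w) = NG g F [i] * NG g F w := NG_append [i] w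

/-- positive roots and lengths -/
theorem len_lt {w : List ℕ} (hw : VW T w) {i : ℕ} (hi : i < T.l) (h : T.n / 2 ≤ wact T w.reverse (T.sim i)) :
    len P (NG g F w) < len P (NG g F [i] * NG g F w) := by
  have hev := g.even
  have hs := hP.S_mem hi
  have hn := hP.NG_mem hw
  rcases len_mul_cases P hs hn with h1 | h1
  · omega
  · exfalso
    obtain ⟨b, hb, hC⟩ := exists_sbn P hs hn (by omega)
    have hb' := hP.mem_B.1 hb
    obtain ⟨u, hu, c, hc, he⟩ := g.mem_B.1 hb'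
    obtain ⟨y, hy, t, rfl⟩ := (g.U_decomp hi).1 hu
    -- s b n = (s y s⁻¹) (s n) (n⁻¹ X c n)
    have h2 : NG g F [i] * b * NG g F w ∈ C P (NG g F [i] * NG g F w) := by
      have hyG : y ∈ D.group F := g.U_le_G (g.Up_le_U i hy)
      let y' : ↥(D.group F) := ⟨y, hyG⟩
      let x' : ↥(D.group F) := ⟨g.X (T.sim i) t, g.X_mem_G _ _⟩
      let c' : ↥(D.group F) := ⟨c, g.H_le_G hc⟩
      have eb : b = y' * x' * c' := Subtype.ext he
      have e : NG g F [i] * b * NG g F w = (NG g F [i] * y' * (NG g F [i])⁻¹) * (NG g F [i] * NG g F w) *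
          (((NG g F w)⁻¹ * x' * NG g F w) * ((NG g F w)⁻¹ * c' * NG g F w)) := by rw [eb]; group
      have m1 : NG g F [i] * y' * (NG g F [i])⁻¹ ∈ P.B := by
        rw [hP.mem_B]
        have e2 : ((NG g F [i] * y' * (NG g F [i])⁻¹ : ↥(D.group F)) : GL D.Idx F) = g.nn i * y * (g.nn i)⁻¹ := by
          rw [Subgroup.coe_mul, Subgroup.coe_mul, Subgroup.coe_inv, NG_val]; simp [Good3.nw, y']
        rw [e2]
        exact Good3.U_le_B (g.Up_le_U i (g.Up_nn hi hy))
      have m2 : (NG g F w)⁻¹ * x' * NG g F w ∈ P.B := by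
        rw [hP.mem_B]
        have e2 : (((NG g F w)⁻¹ * x' * NG g F w : ↥(D.group F)) : GL D.Idx F) =
            (g.nw w)⁻¹ * g.X (T.sim i) t * g.nw w := rfl
        rw [e2]
        have hwr := Good3.VW_reverse hw
        have hlt := g.wact_lt hwr (g.sim_lt hi)
        have h3 := g.nw_X (F := F) hw hlt (((sgn T w (wact T w.reverse (T.sim i)) : ℤ) : F) * t)
        have h4 : wact T w (wact T w.reverse (T.sim i)) = T.sim i := by
          have := g.wact_rev hwr (g.sim_lt hi)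
          rwa [List.reverse_reverse] at this
        rw [h4, ← mul_assoc] at h3
        have h5 : ((sgn T w (wact T w.reverse (T.sim i)) : ℤ) : F) * ((sgn T w (wact T w.reverse (T.sim i)) : ℤ) : F) = 1 := by
          rcases Good3.sgn_cases (T := T) w (wact T w.reverse (T.sim i)) with h | h <;> rw [h] <;> simp
        rw [h5, one_mul] at h3
        have h6 : (g.nw w)⁻¹ * g.X (T.sim i) t * g.nw w = g.X (wact T w.reverse (T.sim i))
            (((sgn T w (wact T w.reverse (T.sim i)) : ℤ) : F) * t) := by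
          rw [← h3]; group
        rw [h6]
        exact Good3.U_le_B (g.X_mem_U h hlt _)
      have m3 : (NG g F w)⁻¹ * c' * NG g F w ∈ P.B := by
        rw [hP.mem_B]
        have e2 : (((NG g F w)⁻¹ * c' * NG g F w : ↥(D.group F)) : GL D.Idx F) = (g.nw w)⁻¹ * c * (g.nw w)⁻¹⁻¹ := by
          rw [inv_inv]; rfl
        rw [e2]
        exact Good3.H_le_B (g.N_H (Subgroup.inv_mem _ (g.nw_mem_N hw)) hc)
      rw [e, C_mul_right P (P.B.mul_mem m2 m3), C_mul_left P m1]
      exact self_mem_C P _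
    exact not_eqv_mul P hs hn (uniq' P (P.N.mul_mem (S_N P hs) hn) hn h2 hC)

theorem len_gt {w : List ℕ} (hw : VW T w) {i : ℕ} (hi : i < T.l) (h : wact T w.reverse (T.sim i) < T.n / 2) :
    len P (NG g F [i] * NG g F w) < len P (NG g F w) := by
  have hev := g.even
  have hs := hP.S_mem hi
  have hw' : VW T (i :: w) := by
    intro j hj
    rcases List.mem_cons.1 hj with rfl | hj
    · exact hi
    · exact hw j hj
  have hwr := Good3.VW_reverse hw
  have h1 := hP.len_lt hw' hi (by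
    rw [List.reverse_cons, Good3.wact_append, Good3.wact_cons, Good3.wact_nil, g.w_sim hi, g.wact_neg hwr (g.sim_lt hi)]
    have := g.sim_lt hi
    omega)
  rw [NG_cons, len_ss P hs (hP.NG_mem hw)] at h1
  exact h1

theorem asc_iff {w : List ℕ} (hw : VW T w) {i : ℕ} (hi : i < T.l) {n : ↥(D.group F)} (hn : n ∈ P.N)
    (hnw : (NG g F w)⁻¹ * n ∈ P.B) : NG g F [i] ∈ Asc P n ↔ T.n / 2 ≤ wact T w.reverse (T.sim i) := by
  have hs := hP.S_mem hi
  have e1 := len_congr P hnw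
  have e2 := len_congr P (eqv_mul_left P (NG g F [i]) hnw)
  constructor
  · rintro ⟨_, h⟩
    by_contra h2
    have := hP.len_gt hw hi (by omega)
    omega
  · intro h
    refine ⟨hs, ?_⟩
    have := hP.len_lt hw hi h
    omega

/-- the longest element -/
theorem dec_iff {w : List ℕ} (hw : VW T w) : (∀ s ∈ P.S, len P (s * NG g F w) < len P (NG g F w)) ↔
    ∀ i < T.l, wact T w.reverse (T.sim i) < T.n / 2 := by
  constructor
  · intro h i hi
    by_contra h2
    have h3 := hP.len_lt hw hi (by omega)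
    have h4 := h _ (hP.S_mem hi)
    omega
  · intro h s hs
    obtain ⟨i, hi, rfl⟩ := hP.S_eq hs
    exact hP.len_gt hw hi (h i hi)

include g in
omit hP in
theorem H_pow [Fintype F] {x : GL D.Idx F} (hx : x ∈ D.diagonalSubgroup F) : x ^ ((Fintype.card F - 1) ^ T.l) = 1 := by
  have h1 := g.card_H_dvd (F := F)
  have h2 : (⟨x, hx⟩ : ↥(D.diagonalSubgroup F)) ^ Nat.card (D.diagonalSubgroup F) = 1 := pow_card_eq_one'
  obtain ⟨k, hk⟩ := h1
  rw [hk, pow_mul]
  have h3 : x ^ Nat.card (D.diagonalSubgroup F) = 1 := congrArg Subtype.val h2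
  rw [h3, one_pow]

include g in
omit hP in
theorem U_conj_V {w : List ℕ} (hw : VW T w) (h : ∀ i < T.l, wact T w (T.sim i) < T.n / 2) {u : GL D.Idx F}
    (hu : u ∈ D.posUnipotent F) : g.nw w * u * (g.nw w)⁻¹ ∈ D.negUnipotent F := by
  have : D.posUnipotent F ≤ (D.negUnipotent F).comap (MulAut.conj (g.nw w)).toMonoidHom := by
    rw [g.U_eq]
    conv_lhs => unfold Good3.Uge
    rw [Subgroup.closure_le]
    rintro x ⟨r, t, h1, h2, rfl⟩
    show g.nw w * g.X r t * (g.nw w)⁻¹ ∈ D.negUnipotent F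
    rw [g.nw_X hw h2]
    apply g.X_mem_V
    apply g.neg_J (J := Set.univ) hw (fun i hi _ => h i hi) h1 h2
    rw [g.inSub_iff]
    exact ⟨h2, fun j _ hj => absurd (Set.mem_univ j) hj⟩
  exact this hu

/-- splitting data -/
theorem spl [Fintype F] [CharP F 2] : Spl P ((D.posUnipotent F).subgroupOf (D.group F)) where
  le := by
    intro x hx
    rw [hP.mem_B]
    exact Good3.U_le_B (Subgroup.mem_subgroupOf.1 hx)
  dec := by
    intro b hb
    obtain ⟨u, hu, c, hc, he⟩ := g.mem_B.1 (hP.mem_B.1 hb)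
    refine ⟨⟨c, g.H_le_G hc⟩, ?_, ?_, ?_⟩
    · rw [hP.mem_B]; exact Good3.H_le_B hc
    · rw [hP.mem_N]; exact Good3.H_le_N hc
    · rw [Subgroup.mem_subgroupOf, Subgroup.coe_mul, Subgroup.coe_inv, he]
      have e : (c : GL D.Idx F)⁻¹ * (u * c) = c⁻¹ * u * c⁻¹⁻¹ := by group
      rw [e]
      exact g.H_norm_U (Subgroup.inv_mem _ hc) hu
  two := by
    rintro b hb ⟨k, hk⟩
    obtain ⟨u, hu, c, hc, he⟩ := g.mem_B.1 (hP.mem_B.1 hb)
    have h1 : ∀ m : ℕ, ∃ v ∈ D.posUnipotent F, (b : GL D.Idx F) ^ m = v * c ^ m := by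
      intro m
      induction m with
      | zero => exact ⟨1, Subgroup.one_mem _, by simp⟩
      | succ m ih =>
        obtain ⟨v, hv, e⟩ := ih
        refine ⟨v * (c ^ m * u * (c ^ m)⁻¹), Subgroup.mul_mem _ hv (g.H_norm_U (Subgroup.pow_mem _ hc m) hu), ?_⟩
        rw [pow_succ, e, he, pow_succ]; group
    obtain ⟨v, hv, e⟩ := h1 (2 ^ k)
    have hk' : (b : GL D.Idx F) ^ 2 ^ k = 1 := congrArg Subtype.val hk
    rw [hk'] at e
    have h2 : c ^ 2 ^ k ∈ D.posUnipotent F ⊓ D.diagonalSubgroup F := by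
      refine ⟨?_, Subgroup.pow_mem _ hc _⟩
      have : c ^ 2 ^ k = v⁻¹ := by exact eq_inv_of_mul_eq_one_right e.symm
      rw [this]; exact Subgroup.inv_mem _ hv
    rw [g.U_inf_H, Subgroup.mem_bot] at h2
    have h3 := H_pow (g := g) hc
    have hcop : Nat.Coprime (2 ^ k) ((Fintype.card F - 1) ^ T.l) := by
      apply Nat.Coprime.pow
      rw [Nat.coprime_two_left]
      obtain ⟨n, hp, hcard⟩ := FiniteField.card F 2
      rw [hcard]
      have h4 : (2 : ℕ) ∣ 2 ^ (n : ℕ) := dvd_pow_self 2 n.ne_zero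
      have h5 : 0 < 2 ^ (n : ℕ) := by positivity
      rw [← Nat.not_even_iff_odd]
      rintro ⟨m, hm⟩
      obtain ⟨j, hj⟩ := h4
      omega
    have h4 : c = 1 := by
      rw [← orderOf_eq_one_iff]
      have a1 := orderOf_dvd_of_pow_eq_one h2
      have a2 := orderOf_dvd_of_pow_eq_one h3
      exact Nat.dvd_one.1 (hcop ▸ Nat.dvd_gcd a1 a2)
    rw [Subgroup.mem_subgroupOf, he, h4, mul_one]; exact hu
  pow := by
    intro u hu
    haveI : Fact (Nat.Prime 2) := ⟨Nat.prime_two⟩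
    obtain ⟨k, hk⟩ := g.U_pgroup (F := F) (p := 2) ⟨u, Subgroup.mem_subgroupOf.1 hu⟩
    have hk' : (u : GL D.Idx F) ^ 2 ^ k = 1 := congrArg Subtype.val hk
    exact ⟨k, Subtype.ext hk'⟩
  triv := by
    intro u hu hN
    have h1 : (u : GL D.Idx F) ∈ D.posUnipotent F ⊓ D.monomialSubgroup F := ⟨Subgroup.mem_subgroupOf.1 hu, hP.mem_N.1 hN⟩
    rw [g.U_inf_N, Subgroup.mem_bot] at h1
    exact Subtype.ext h1
  sat := by
    obtain ⟨w, hw, _, h⟩ := g.exists_longest_J Set.univ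
    refine ⟨(NG g F w)⁻¹, P.N.inv_mem (hP.NG_mem hw), ?_⟩
    intro u hu hB
    rw [inv_inv, hP.mem_B] at hB
    have h1 := U_conj_V (g := g) hw (fun i hi => h i hi (Set.mem_univ i)) (Subgroup.mem_subgroupOf.1 hu)
    have h2 : (((NG g F w) * u * (NG g F w)⁻¹ : ↥(D.group F)) : GL D.Idx F) = g.nw w * (u : GL D.Idx F) * (g.nw w)⁻¹ := rfl
    rw [← h2] at h1
    have h3 := g.B_inf_V hB h1
    have h4 : (NG g F w) * u * (NG g F w)⁻¹ = 1 := Subtype.ext h3
    have e : u = (NG g F w)⁻¹ * ((NG g F w) * u * (NG g F w)⁻¹) * NG g F w := by group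
    rw [e, h4]; group

end IsStd

end CfsgLib.Inv
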