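import Mathlib
import Cfsg.Agent.LibChevEval
import Cfsg.Agent.LibChevGrp
import Cfsg.Agent.LibChevHN

set_option autoImplicit false
set_option linter.all false

/-! A bit-matrix evaluator for words in root elements in characteristic two -/

namespace CfsgLib.Inv

open Cfsg Matrix CfsgLib.Chev Cfsg.Lie

/-- off-diagonal odd entries of column `k` of `X_r(1)` -/
def off (T : Acc) (r k : ℕ) : List ℕ :=
  ((actT T r [(1, 0, 0)] (k, (1, 0, 0))).tail.filter (fun q => Nat.beq (q.2.1.natAbs % 2) 1)).map Prod.fst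

def row (W M k : ℕ) : ℕ := Nat.mod (Nat.shiftRight M (Nat.mul W k)) (Nat.pow 2 W)

def stepC (W ρ : ℕ) : List ℕ → ℕ → ℕ
  | [], acc => acc
  | u :: L, acc => stepC W ρ L (Nat.xor acc (Nat.shiftLeft ρ (Nat.mul W u)))

noncomputable def stepL (T : Acc) (W r M : ℕ) (N : ℕ) : ℕ :=
  Nat.rec M (fun k acc => stepC W (row W M k) (off T r k) acc) N

noncomputable def idP (W N : ℕ) : ℕ := Nat.rec 0 (fun k acc => Nat.xor acc (Nat.shiftLeft 1 (Nat.add (Nat.mul W k) k))) N

noncomputable def evalW (T : Acc) (W : ℕ) : List ℕ → ℕ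
  | [] => idP W (T.n + T.l)
  | r :: w => stepL T W r (evalW T W w) (T.n + T.l)

section Sem

variable {D : ChevalleyDatum} {T : Acc} {F : Type*} [Field F]

variable (F) in
def bt (c : Bool) : F := if c then 1 else 0

theorem bt_xor [CharP F 2] (a b : Bool) : bt F (a ^^ b) = bt F a + bt F b := by
  have h2 : (1 : F) + 1 = 0 := CharTwo.add_self_eq_zero 1
  cases a <;> cases b <;> simp [bt, h2]

variable (D F) in
noncomputable def V (n N W M b : ℕ) : D.Idx → F := ∑ k ∈ Finset.range N, bt F (M.testBit (W * k + b)) • bV D F n k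

theorem row_lt (W M k : ℕ) : row W M k < 2 ^ W := Nat.mod_lt _ (Nat.two_pow_pos W)

theorem row_testBit {W M k b : ℕ} (hb : b < W) : (row W M k).testBit b = M.testBit (W * k + b) := by
  show ((M >>> (W * k)) % 2 ^ W).testBit b = _
  rw [Nat.testBit_mod_two_pow, Nat.testBit_shiftRight]
  simp [hb]

theorem testBit_xor_shift {W M ρ u k b : ℕ} (hρ : ρ < 2 ^ W) (hb : b < W) :
    (M ^^^ (ρ <<< (W * u))).testBit (W * k + b) = (M.testBit (W * k + b) ^^ (decide (k = u) && ρ.testBit b)) := by
  rw [Nat.testBit_xor, Nat.testBit_shiftLeft]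
  congr 1
  rcases lt_trichotomy k u with h | h | h
  · have h1 : ¬ (W * k + b ≥ W * u) := by
      have : W * (k + 1) ≤ W * u := Nat.mul_le_mul_left W h
      have e : W * (k + 1) = W * k + W := by ring
      omega
    simp [h1, h.ne]
  · subst h
    simp
  · have h1 : W * k + b ≥ W * u := by
      have : W * (u + 1) ≤ W * k := Nat.mul_le_mul_left W h
      have e : W * (u + 1) = W * u + W := by ring
      omega
    have h2 : ρ.testBit (W * k + b - W * u) = false := by
      apply Nat.testBit_lt_two_pow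
      apply lt_of_lt_of_le hρ
      apply Nat.pow_le_pow_right (by norm_num)
      have : W * (u + 1) ≤ W * k := Nat.mul_le_mul_left W h
      have e : W * (u + 1) = W * u + W := by ring
      omega
    simp [h2, h.ne']

variable [CharP F 2]

theorem bV_out (hT : Link D T) {u : ℕ} (hu : ¬ u < T.n + T.l) : bV D F T.n u = 0 := by
  unfold bV
  rw [if_neg (by omega)]
  exact hV_out (by rw [hT.hl]; omega)

theorem V_xor (hT : Link D T) {W M ρ u b : ℕ} (hρ : ρ < 2 ^ W) (hb : b < W) :
    V D F T.n (T.n + T.l) W (M ^^^ (ρ <<< (W * u))) b = V D F T.n (T.n + T.l) W M b + bt F (ρ.testBit b) • bV D F T.n u := by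
  unfold V
  simp only [testBit_xor_shift hρ hb, bt_xor, add_smul, Finset.sum_add_distrib]
  congr 1
  by_cases hu : u < T.n + T.l
  · rw [Finset.sum_eq_single u]
    · simp
    · intro k _ hk; simp [hk, bt]
    · intro h; exact absurd (Finset.mem_range.2 hu) h
  · rw [bV_out hT hu, smul_zero]
    apply Finset.sum_eq_zero
    intro k hk
    rw [Finset.mem_range] at hk
    have : k ≠ u := by omega
    simp [this, bt]

theorem stepC_sound (hT : Link D T) {W ρ b : ℕ} (hρ : ρ < 2 ^ W) (hb : b < W) (L : List ℕ) : ∀ acc : ℕ,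
    V D F T.n (T.n + T.l) W (stepC W ρ L acc) b =
      V D F T.n (T.n + T.l) W acc b + bt F (ρ.testBit b) • ((L.map (bV D F T.n)).sum) := by
  induction L with
  | nil => intro acc; simp [stepC]
  | cons u L ih =>
    intro acc
    rw [stepC, ih]
    have : V D F T.n (T.n + T.l) W (Nat.xor acc (Nat.shiftLeft ρ (Nat.mul W u))) b = _ := V_xor hT hρ hb
    rw [this, List.map_cons, List.sum_cons, smul_add]
    abel

theorem stepL_sound' (hT : Link D T) {W r M b : ℕ} (hb : b < W) (N : ℕ) :
    V D F T.n (T.n + T.l) W (stepL T W r M N) b = V D F T.n (T.n + T.l) W M b +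
      ∑ k ∈ Finset.range N, bt F (M.testBit (W * k + b)) • (((off T r k).map (bV D F T.n)).sum) := by
  induction N with
  | zero => simp [stepL]
  | succ N ih =>
    have e : stepL T W r M (N + 1) = stepC W (row W M N) (off T r N) (stepL T W r M N) := rfl
    rw [e, stepC_sound hT (row_lt W M N) hb, ih, Finset.sum_range_succ, row_testBit hb, add_assoc]

theorem cast_odd (c : ℤ) : (c : F) = bt F (Nat.beq (c.natAbs % 2) 1) := by
  have h2 : (2 : F) = 0 := CharTwo.two_eq_zero
  rcases Nat.mod_two_eq_zero_or_one c.natAbs with h | h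
  · rw [h]
    have : (2 : ℤ) ∣ c := by omega
    obtain ⟨d, rfl⟩ := this
    push_cast
    rw [h2, zero_mul]; rfl
  · rw [h]
    obtain ⟨d, hd⟩ : ∃ d, c = 2 * d + 1 := ⟨c / 2, by omega⟩
    rw [hd]; push_cast
    rw [h2, zero_mul, zero_add]; rfl

theorem vec_filter_odd (n : ℕ) (L : List (ℕ × Mon)) : vec D (1 : F) 1 n L =
    ((((L.filter (fun q => Nat.beq (q.2.1.natAbs % 2) 1)).map Prod.fst).map (bV D F n)).sum) := by
  induction L with
  | nil => simp [Chev.vec]
  | cons q L ih =>
    rw [vec_cons, ih]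
    have h1 : mev (1 : F) 1 q.2 = bt F (Nat.beq (q.2.1.natAbs % 2) 1) := by
      rw [mev, one_pow, one_pow, mul_one, mul_one, cast_odd]
    rw [h1]
    by_cases h : Nat.beq (q.2.1.natAbs % 2) 1 = true
    · rw [List.filter_cons, if_pos h, h]
      simp [bt]
    · rw [List.filter_cons, if_neg h]
      have h' : Nat.beq (q.2.1.natAbs % 2) 1 = false := Bool.eq_false_iff.2 h
      rw [h']
      simp [bt]

theorem x_bV (hT : Link D T) {r k : ℕ} (hr : r < T.n) (hk : k < T.n + T.l) :
    D.x F r 1 *ᵥ bV D F T.n k = bV D F T.n k + ((off T r k).map (bV D F T.n)).sum := by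
  have h := actT_sound (F := F) 1 1 hT hr [(1, 0, 0)] (k, (1, 0, 0)) hk
  have e1 : pev (1 : F) 1 [(1, 0, 0)] = 1 := by simp [pev, mev]
  have e2 : mev (1 : F) 1 (1, 0, 0) = 1 := by simp [mev]
  rw [e1] at h
  simp only [e2, one_smul] at h
  rw [h]
  have h3 : ∃ L, actT T r [(1, 0, 0)] (k, (1, 0, 0)) = (k, (1, 0, 0)) :: L := ⟨_, rfl⟩
  obtain ⟨L, hL⟩ := h3
  unfold off
  rw [hL, List.tail_cons, vec_cons, e2, one_smul, vec_filter_odd]

theorem stepL_sound (hT : Link D T) {W r M b : ℕ} (hr : r < T.n) (hb : b < W) :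
    D.x F r 1 *ᵥ V D F T.n (T.n + T.l) W M b = V D F T.n (T.n + T.l) W (stepL T W r M (T.n + T.l)) b := by
  rw [stepL_sound' hT hb]
  unfold V
  rw [Matrix.mulVec_sum, ← Finset.sum_add_distrib]
  refine Finset.sum_congr rfl fun k hk => ?_
  rw [Finset.mem_range] at hk
  rw [mulVec_smul, x_bV hT hr hk, smul_add]

omit [CharP F 2] in
theorem idP_testBit {W k b : ℕ} (hb : b < W) (N : ℕ) (hN : N ≤ W) :
    (idP W N).testBit (W * k + b) = (decide (k < N) && decide (k = b)) := by
  induction N with
  | zero => simp [idP]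
  | succ N ih =>
    have e : idP W (N + 1) = (idP W N) ^^^ (1 <<< (W * N + N)) := rfl
    rw [e, Nat.testBit_xor, ih (by omega), Nat.one_shiftLeft, Nat.testBit_two_pow]
    by_cases h : k = b
    · subst h
      rcases lt_trichotomy k N with h1 | h1 | h1
      · have : ¬ (W * N + N = W * k + k) := by
          have : W * k ≤ W * N := Nat.mul_le_mul_left W h1.le
          omega
        simp [this, h1, Nat.lt_succ_of_lt h1]
      · subst h1; simp
      · have : ¬ (W * N + N = W * k + k) := by
          have : W * N ≤ W * k := Nat.mul_le_mul_left W h1.le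
          omega
        have h2 : ¬ k < N := by omega
        have h3 : ¬ k < N + 1 := by omega
        simp [this, h2, h3]
    · have : ¬ (W * N + N = W * k + b) := by
        intro h5
        apply h
        have hN' : N < W := by omega
        have h6 := congrArg (· % W) h5
        simp only [Nat.mul_add_mod, Nat.mod_eq_of_lt hN', Nat.mod_eq_of_lt hb] at h6
        subst h6
        have : W * N = W * k := by omega
        exact (Nat.eq_of_mul_eq_mul_left (by omega) this).symm
      simp [this, h]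

omit [CharP F 2] in
theorem V_id {W b : ℕ} (hW : T.n + T.l ≤ W) (hb : b < T.n + T.l) :
    V D F T.n (T.n + T.l) W (idP W (T.n + T.l)) b = bV D F T.n b := by
  unfold V
  rw [Finset.sum_eq_single b]
  · rw [idP_testBit (by omega) _ hW]
    simp [hb, bt]
  · intro k _ hk
    rw [idP_testBit (by omega) _ hW]
    simp [hk, bt]
  · intro h; exact absurd (Finset.mem_range.2 hb) h

theorem evalW_sound (hT : Link D T) {W : ℕ} (hW : T.n + T.l ≤ W) {b : ℕ} (hb : b < T.n + T.l) :
    ∀ w : List ℕ, (∀ r ∈ w, r < T.n) →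
    (w.map fun r => D.x F r 1).prod *ᵥ bV D F T.n b = V D F T.n (T.n + T.l) W (evalW T W w) b := by
  intro w
  induction w with
  | nil => intro _; rw [List.map_nil, List.prod_nil, one_mulVec, evalW, V_id hW hb]
  | cons r w ih =>
    intro hw
    rw [List.map_cons, List.prod_cons, ← mulVec_mulVec, ih (fun r hr => hw r (by simp [hr])), evalW,
      stepL_sound hT (hw r (by simp)) (by omega)]

theorem evalW_eq (hT : Link D T) {W : ℕ} (hW : T.n + T.l ≤ W) {w1 w2 : List ℕ} (h1 : ∀ r ∈ w1, r < T.n)
    (h2 : ∀ r ∈ w2, r < T.n) (h : evalW T W w1 = evalW T W w2) :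
    (w1.map fun r => D.x F r 1).prod = (w2.map fun r => D.x F r 1).prod := by
  have key : ∀ b < T.n + T.l, (w1.map fun r => D.x F r 1).prod *ᵥ bV D F T.n b =
      (w2.map fun r => D.x F r 1).prod *ᵥ bV D F T.n b := by
    intro b hb
    rw [evalW_sound hT hW hb w1 h1, evalW_sound hT hW hb w2 h2, h]
  apply ext_mat
  · intro s hs
    rw [hT.hn] at hs
    have := key s (by omega)
    rwa [bV_e hs] at this
  · intro i hi
    rw [hT.hl] at hi
    have := key (T.n + i) (by omega)
    rw [bV_h (by omega)] at this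
    simpa using this

end Sem

section Grp

variable {D : ChevalleyDatum} {T : Tb} (g : Good3 D T) {F : Type*} [Field F]

/-- product of root elements with parameter one -/
noncomputable def XP (F : Type*) [Field F] (w : List ℕ) : GL D.Idx F := (w.map fun r => g.X r 1).prod

theorem XP_val (w : List ℕ) : (XP g F w : Matrix D.Idx D.Idx F) = (w.map fun r => D.x F r 1).prod := by
  unfold XP
  induction w with
  | nil => simp
  | cons r w ih => rw [List.map_cons, List.prod_cons, List.map_cons, List.prod_cons, Units.val_mul, ih]; rfl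

theorem XP_append (v w : List ℕ) : XP g F (v ++ w) = XP g F v * XP g F w := by
  simp [XP]

theorem XP_cons (r : ℕ) (w : List ℕ) : XP g F (r :: w) = g.X r 1 * XP g F w := by simp [XP]

theorem XP_nil : XP g F [] = 1 := rfl

/-- check of an identity between words -/
noncomputable def chkE (T : Tb) (W : ℕ) (w1 w2 : List ℕ) : Bool :=
  Nat.ble (T.n + T.l) W && ((w1.all fun r => Nat.ble (r + 1) T.n) && ((w2.all fun r => Nat.ble (r + 1) T.n) &&
    Nat.beq (evalW T.acc W w1) (evalW T.acc W w2)))

theorem XP_eq [CharP F 2] {W : ℕ} {w1 w2 : List ℕ} (h : chkE T W w1 w2 = true) : XP g F w1 = XP g F w2 := by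
  unfold chkE at h
  simp only [Bool.and_eq_true, Nat.ble_eq, List.all_eq_true, Nat.beq_eq] at h
  obtain ⟨h0, h1, h2, h3⟩ := h
  apply Units.ext
  rw [XP_val, XP_val]
  exact evalW_eq g.link (W := W) h0 (fun r hr => h1 r hr) (fun r hr => h2 r hr) h3

/-- expansion of a word in the Weyl group -/
def expW (T : Tb) (w : List ℕ) : List ℕ := w.flatMap fun i => [T.sim i, T.n - 1 - T.sim i, T.sim i]

theorem nw_eq [CharP F 2] (w : List ℕ) : g.nw (F := F) w = XP g F (expW T w) := by
  induction w with
  | nil => rfl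
  | cons i w ih =>
    rw [Good3.nw_cons, ih]
    have e : expW T (i :: w) = [T.sim i, T.n - 1 - T.sim i, T.sim i] ++ expW T w := rfl
    rw [e, XP_append]
    congr 1
    have h1 : (-(1 : F)⁻¹) = 1 := by rw [inv_one]; exact CharTwo.neg_eq 1
    show g.Ng (T.sim i) 1 = _
    unfold Good3.Ng
    rw [h1]
    simp [XP, mul_assoc]

end Grp

end CfsgLib.Inv
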