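import Mathlib
import Cfsg.Agent.LibInv3
import Cfsg.Agent.LibInv4

set_option autoImplicit false
set_option linter.all false

/-! The classification of involutions from finite certificates -/

namespace CfsgLib.Inv

open Cfsg Matrix CfsgLib.BN CfsgLib.Chev Cfsg.Lie

/-- check for one mask -/
noncomputable def chkK (T : Tb) (f : ℕ → ℕ) (Ω : List (List ℕ)) (m : ℕ) (κ v : List ℕ) (j : ℕ) : Bool :=
  (κ.all fun i => m.testBit i && Nat.ble (i + 1) T.l) && ((v.all fun i => Nat.ble (i + 1) T.l) &&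
  ((allB T.l fun i => !(m.testBit i) || Nat.ble (wact T κ.reverse (T.sim i) + 1) (T.n / 2)) &&
  (!((allB T.l fun i => (m.testBit i == Nat.ble (T.n / 2) (f (wact T κ (T.sim i))))) &&
     (allB T.l fun i => !(m.testBit i) || allB T.l fun k =>
        Nat.beq (T.w i (wact T κ.reverse (f (T.sim k)))) (wact T κ.reverse (f (T.w i (T.sim k))))))
   || (Nat.ble (j + 1) Ω.length && allB T.l fun i => Nat.beq (wact T v (wact T κ.reverse (f (wact T v.reverse (T.sim i)))))
        (wact T (Ω.getD j []) (T.sim i))))))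

noncomputable def chkAll (T : Tb) (f : ℕ → ℕ) (Ω : List (List ℕ)) : ℕ → List (List ℕ × List ℕ × ℕ) → Bool
  | m, [] => Nat.beq m (2 ^ T.l)
  | m, p :: rest => chkK T f Ω m p.1 p.2.1 p.2.2 && chkAll T f Ω (m + 1) rest

theorem chkAll_sound (T : Tb) (f : ℕ → ℕ) (Ω : List (List ℕ)) (cert : List (List ℕ × List ℕ × ℕ)) :
    ∀ m, chkAll T f Ω m cert = true → ∀ k, m ≤ k → k < 2 ^ T.l → ∃ κ v j, chkK T f Ω k κ v j = true := by
  induction cert with
  | nil =>
    intro m h k h1 h2
    rw [chkAll, Nat.beq_eq] at h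
    omega
  | cons p rest ih =>
    intro m h k h1 h2
    rw [chkAll, Bool.and_eq_true] at h
    rcases Nat.eq_or_lt_of_le h1 with h3 | h3
    · exact ⟨_, _, _, h3 ▸ h.1⟩
    · exact ih (m + 1) h.2 k h3 h2

variable {D : ChevalleyDatum} {T : Tb} {g : Good3 D T}

include g in
theorem ext_sim {v w : List ℕ} (hv : VW T v) (hw : VW T w) (h : ∀ i < T.l, wact T v (T.sim i) = wact T w (T.sim i)) :
    ∀ r < T.n, wact T v r = wact T w r := by
  intro r hr
  apply g.idx_ext (g.wact_lt hv hr) (g.wact_lt hw hr)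
  intro j hj
  rw [g.v_wact hv hr hj, g.v_wact hw hr hj]
  refine Finset.sum_congr rfl fun k hk => ?_
  rw [h k (Finset.mem_range.1 hk)]

theorem exists_mask (l : ℕ) (p : ℕ → Prop) : ∃ m < 2 ^ l, ∀ i < l, m.testBit i = true ↔ p i := by
  classical
  induction l with
  | zero => exact ⟨0, by norm_num, fun i hi => absurd hi (Nat.not_lt_zero i)⟩
  | succ l ih =>
    obtain ⟨m, hm, h⟩ := ih
    by_cases hp : p l
    · refine ⟨m + 2 ^ l, by rw [pow_succ]; omega, fun i hi => ?_⟩
      rcases Nat.lt_succ_iff_lt_or_eq.1 hi with h1 | h1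
      · rw [← h i h1]
        have : (m + 2 ^ l).testBit i = m.testBit i := by
          rw [add_comm, Nat.testBit_two_pow_add_gt h1]
        rw [this]
      · subst h1
        have : (m + 2 ^ i).testBit i = true := by
          rw [add_comm, Nat.testBit_two_pow_add_eq, Nat.testBit_lt_two_pow hm]; rfl
        simp [this, hp]
    · refine ⟨m, by rw [pow_succ]; omega, fun i hi => ?_⟩
      rcases Nat.lt_succ_iff_lt_or_eq.1 hi with h1 | h1
      · exact h i h1
      · subst h1
        rw [Nat.testBit_lt_two_pow hm]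
        simp [hp]

variable {F : Type*} [Field F] {P : BNPair ↥(D.group F)}

theorem red [Fintype F] [CharP F 2] (hP : IsStd g P) {f : ℕ → ℕ} {w0 : List ℕ} {Ω : List (List ℕ)}
    {cert : List (List ℕ × List ℕ × ℕ)} (hw0 : VW T w0) (hf : ∀ r < T.n, wact T w0 r = f r)
    (h0 : ∀ i < T.l, f (T.sim i) < T.n / 2) (hff : ∀ r < T.n, f (f r) = r) (hΩ : ∀ ω ∈ Ω, VW T ω)
    (h : chkAll T f Ω 0 cert = true) {t : ↥(D.group F)} (ht : t * t = 1) :
    ∃ c n, c * t * c⁻¹ = n ∧ n ∈ P.N ∧ n * n = 1 ∧ ∃ ω ∈ Ω, (NG g F ω)⁻¹ * n ∈ P.B := by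
  obtain ⟨c, n, hcn, hn, hnn, hcomm, _⟩ := conj_N hP.spl ht
  obtain ⟨w, hw, hnw⟩ := hP.exists_word hn
  have hwr := Good3.VW_reverse hw
  have hw0r := Good3.VW_reverse hw0
  -- the mask
  obtain ⟨m, hm, hmask⟩ := exists_mask T.l (fun i => T.n / 2 ≤ wact T w.reverse (T.sim i))
  obtain ⟨κ, v, j, hK⟩ := chkAll_sound T f Ω cert 0 h m (Nat.zero_le _) hm
  unfold chkK at hK
  simp only [Bool.and_eq_true, Bool.or_eq_true, Bool.not_eq_true', List.all_eq_true, allB_iff, Nat.ble_eq, Nat.beq_eq,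
    beq_iff_eq] at hK
  obtain ⟨hκ1, hv1, hκ2, hK⟩ := hK
  have hκ : VW T κ := fun i hi => (hκ1 i hi).2
  have hκr := Good3.VW_reverse hκ
  have hv : VW T v := fun i hi => hv1 i hi
  have hvr := Good3.VW_reverse hv
  have hasc : ∀ i < T.l, (m.testBit i = true ↔ NG g F [i] ∈ Asc P n) := by
    intro i hi
    rw [hmask i hi, hP.asc_iff hw hi hn hnw]
  -- kappa in the closure
  have hκcl : ∀ κ' : List ℕ, (∀ i ∈ κ', i ∈ κ) → NG g F κ' ∈ Subgroup.closure (Asc P n) := by
    intro κ'
    induction κ' with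
    | nil => intro _; exact Subgroup.one_mem _
    | cons i κ' ih =>
      intro h'
      rw [IsStd.NG_cons]
      have hi := h' i (by simp)
      apply Subgroup.mul_mem _ _ (ih fun j hj => h' j (by simp [hj]))
      apply Subgroup.subset_closure
      rw [← hasc i (hκ i hi)]
      exact (hκ1 i hi).1
  have hκd : ∀ s ∈ Asc P n, len P (s * NG g F κ) < len P (NG g F κ) := by
    intro s hs
    obtain ⟨i, hi, rfl⟩ := hP.S_eq hs.1
    apply hP.len_gt hκ hi
    have h1 := hκ2 i hi
    rcases h1 with h1 | h1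
    · rw [← hasc i hi, h1] at hs
      exact absurd hs (by simp)
    · omega
  have hlong : ∀ s ∈ P.S, len P (s * NG g F w0) < len P (NG g F w0) := by
    rw [hP.dec_iff hw0]
    intro i hi
    have h1 : wact T w0.reverse (T.sim i) = f (T.sim i) := by
      have h2 := g.wact_rev hw0 (g.wact_lt hw0 (g.sim_lt hi))
      rw [hf _ (g.wact_lt hw0 (g.sim_lt hi)), hf _ (g.sim_lt hi), hff _ (g.sim_lt hi)] at h2
      exact h2
    rw [h1]; exact h0 i hi
  have key := conj_N' hn hcomm (hκcl κ fun _ h => h) hκd (hP.NG_mem hw0) hlong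
  -- translate to actions
  have hκw : ∀ r < T.n, wact T (κ ++ w) r = f r := by
    have h1 : (NG g F (κ ++ w))⁻¹ * NG g F w0 ∈ P.B := by
      rw [IsStd.NG_append]
      exact eqv_trans P (eqv_mul_left P _ hnw) key
    intro r hr
    rw [(hP.eqv_iff (g.VW_append hκ hw) hw0).1 h1 r hr, hf r hr]
  have hωa : ∀ r < T.n, wact T w r = wact T κ.reverse (f r) := by
    intro r hr
    rw [← hκw r hr, Good3.wact_append, g.wact_rev hκ (g.wact_lt hw hr)]
  have hωr : ∀ r < T.n, wact T w.reverse r = f (wact T κ r) := by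
    intro r hr
    -- w (f (κ r)) = κ⁻¹ (f (f (κ r))) = r
    have h1 : f (wact T κ r) < T.n := by
      rw [← hf _ (g.wact_lt hκ hr)]; exact g.wact_lt hw0 (g.wact_lt hκ hr)
    have h2 := hωa _ h1
    rw [hff _ (g.wact_lt hκ hr), g.wact_rev hκ hr] at h2
    have h3 := g.wact_rev hw h1
    rw [h2] at h3
    exact h3
  have hcon : Nat.ble (j + 1) Ω.length = true ∧ ∀ i < T.l, wact T v (wact T κ.reverse (f (wact T v.reverse (T.sim i)))) =
      wact T (Ω.getD j []) (T.sim i) := by
    rcases hK with hK | hK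
    · exfalso
      rw [Bool.and_eq_false_iff] at hK
      rcases hK with hK | hK
      · have : (allB T.l fun i => m.testBit i == (T.n / 2).ble (f (wact T κ (T.sim i)))) = true := by
          rw [allB_iff]
          intro i hi
          rw [beq_iff_eq, Bool.eq_iff_iff, hmask i hi, Nat.ble_eq, hωr _ (g.sim_lt hi)]
        rw [this] at hK
        exact absurd hK (by simp)
      · have : (allB T.l fun i => !m.testBit i || allB T.l fun k =>
            (T.w i (wact T κ.reverse (f (T.sim k)))).beq (wact T κ.reverse (f (T.w i (T.sim k))))) = true := by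
          rw [allB_iff]
          intro i hi
          rw [Bool.or_eq_true, Bool.not_eq_true']
          by_cases hmi : m.testBit i = true
          · right
            rw [allB_iff]
            intro k hk
            rw [Nat.beq_eq, ← hωa _ (g.sim_lt hk), ← hωa _ (g.w_lt hi (g.sim_lt hk))]
            have hs := (hasc i hi).1 hmi
            have h1 := hcomm _ hs
            have hiw : VW T (i :: w) := by
              intro j hj
              rcases List.mem_cons.1 hj with rfl | hj
              · exact hi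
              · exact hw j hj
            have h2 : (NG g F (i :: w))⁻¹ * NG g F (w ++ [i]) ∈ P.B := by
              rw [IsStd.NG_cons, IsStd.NG_append]
              have e1 := eqv_mul_left P (NG g F [i]) hnw
              have e2 : (n * NG g F [i])⁻¹ * (NG g F w * NG g F [i]) ∈ P.B :=
                eqv_mul_right P hn (hP.NG_mem hw) (S_N P (hP.S_mem hi)) (eqv_symm P hnw)
              exact eqv_trans P (eqv_trans P e1 h1) e2
            have h3 := (hP.eqv_iff hiw (g.VW_append hw (g.VW_single hi))).1 h2 (T.sim k) (g.sim_lt hk)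
            rw [Good3.wact_cons, Good3.wact_append, Good3.wact_cons, Good3.wact_nil] at h3
            exact h3
          · left; simpa using hmi
        rw [this] at hK
        exact absurd hK (by simp)
    · refine ⟨by rw [Nat.ble_eq]; exact hK.1, ?_⟩
      intro i hi
      exact hK.2 i hi
  obtain ⟨hj, hconj⟩ := hcon
  rw [Nat.ble_eq] at hj
  have hjm : Ω.getD j [] ∈ Ω := by
    rw [List.getD_eq_getElem _ _ (by omega)]
    exact List.getElem_mem _
  refine ⟨NG g F v * c, NG g F v * n * (NG g F v)⁻¹, ?_, ?_, ?_, Ω.getD j [], hjm, ?_⟩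
  · rw [← hcn]; group
  · exact P.N.mul_mem (P.N.mul_mem (hP.NG_mem hv) hn) (P.N.inv_mem (hP.NG_mem hv))
  · have e : NG g F v * n * (NG g F v)⁻¹ * (NG g F v * n * (NG g F v)⁻¹) = NG g F v * (n * n) * (NG g F v)⁻¹ := by group
    rw [e, hnn]; group
  · have hvN := hP.NG_mem (F := F) hv
    have h1 : (NG g F v.reverse)⁻¹ * (NG g F v)⁻¹ ∈ P.B := by
      have h2 : (NG g F (v ++ v.reverse))⁻¹ * NG g F [] ∈ P.B := by
        rw [hP.eqv_iff (g.VW_append hv hvr) (by intro i hi; simp at hi)]
        intro r hr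
        rw [Good3.wact_append, Good3.wact_nil]
        have := g.wact_rev hvr hr
        rwa [List.reverse_reverse] at this
      rw [IsStd.NG_append] at h2
      have e : (NG g F v * NG g F v.reverse)⁻¹ * NG g F [] = (NG g F v.reverse)⁻¹ * (NG g F v)⁻¹ := by
        have : NG g F [] = 1 := rfl
        rw [this]; group
      rwa [e] at h2
    have h3 : (NG g F (v ++ (w ++ v.reverse)))⁻¹ * (NG g F v * n * (NG g F v)⁻¹) ∈ P.B := by
      rw [IsStd.NG_append, IsStd.NG_append, mul_assoc (NG g F v) n]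
      apply eqv_mul_left
      have e1 : (NG g F w * NG g F v.reverse)⁻¹ * (n * NG g F v.reverse) ∈ P.B :=
        eqv_mul_right P (hP.NG_mem hw) hn (hP.NG_mem hvr) hnw
      exact eqv_trans P e1 (eqv_mul_left P n h1)
    refine eqv_trans P ?_ h3
    rw [hP.eqv_iff (hΩ _ hjm) (g.VW_append hv (g.VW_append hw hvr))]
    intro r hr
    symm
    apply ext_sim (g := g) (g.VW_append hv (g.VW_append hw hvr)) (hΩ _ hjm) _ r hr
    intro i hi
    rw [Good3.wact_append, Good3.wact_append, hωa _ (g.wact_lt hvr (g.sim_lt hi))]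
    exact hconj i hi

/-- the root words in the group -/
noncomputable def XG (g : Good3 D T) (F : Type*) [Field F] (w : List ℕ) : ↥(D.group F) :=
  ⟨XP g F w, by
    unfold XP
    apply Subgroup.list_prod_mem
    intro x hx
    rw [List.mem_map] at hx
    obtain ⟨r, _, rfl⟩ := hx
    exact g.X_mem_G r 1⟩

theorem XG_append (v w : List ℕ) : XG g F (v ++ w) = XG g F v * XG g F w := Subtype.ext (XP_append g v w)

theorem classify [Fintype F] [CharP F 2] (hP : IsStd g P) {f : ℕ → ℕ} {w0 : List ℕ} {Ω : List (List ℕ)}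
    {cert : List (List ℕ × List ℕ × ℕ)} (hw0 : VW T w0) (hf : ∀ r < T.n, wact T w0 r = f r)
    (h0 : ∀ i < T.l, f (T.sim i) < T.n / 2) (hff : ∀ r < T.n, f (f r) = r) (hΩ : ∀ ω ∈ Ω, VW T ω)
    (h : chkAll T f Ω 0 cert = true) {W : ℕ} {R : List (List ℕ)}
    (hrel : ∀ ω ∈ Ω, ∃ a b, b ∈ R ∧ chkE T W (a ++ expW T ω) (b ++ a) = true)
    (hR : ∀ b ∈ R, chkE T W (b ++ b) [] = true) {t : ↥(D.group F)} (ht : t * t = 1) :
    ∃ b ∈ R, ∃ c, c * t * c⁻¹ = XG g F b := by
  obtain ⟨c, n, hcn, hn, hnn, ω, hω, hωn⟩ := red hP hw0 hf h0 hff hΩ h ht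
  obtain ⟨a, b, hb, hab⟩ := hrel ω hω
  have h1 : XG g F a * NG g F ω = XG g F b * XG g F a := by
    apply Subtype.ext
    have := XP_eq g (F := F) hab
    rw [XP_append, XP_append, ← nw_eq] at this
    exact this
  have h2 : XG g F b * XG g F b = 1 := by
    apply Subtype.ext
    have := XP_eq g (F := F) (hR b hb)
    rw [XP_append] at this
    exact this
  have h3 : NG g F ω = (XG g F a)⁻¹ * XG g F b * XG g F a := by
    rw [mul_assoc, ← h1]; group
  have h4 : NG g F ω * NG g F ω = 1 := by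
    rw [h3]
    have e : (XG g F a)⁻¹ * XG g F b * XG g F a * ((XG g F a)⁻¹ * XG g F b * XG g F a) =
        (XG g F a)⁻¹ * (XG g F b * XG g F b) * XG g F a := by group
    rw [e, h2]; group
  obtain ⟨d, hd⟩ := conj_H hP.spl (hP.NG_mem (hΩ ω hω)) hn h4 hnn hωn
  refine ⟨b, hb, XG g F a * d⁻¹ * c, ?_⟩
  have e : XG g F a * d⁻¹ * c * t * (XG g F a * d⁻¹ * c)⁻¹ = XG g F a * (d⁻¹ * (c * t * c⁻¹) * d) * (XG g F a)⁻¹ := by group
  rw [e, hcn, ← hd]
  have e2 : XG g F a * (d⁻¹ * (d * NG g F ω * d⁻¹) * d) * (XG g F a)⁻¹ = XG g F a * NG g F ω * (XG g F a)⁻¹ := by group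
  rw [e2, h1]; group

end CfsgLib.Inv
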