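import Mathlib
import Cfsg.Agent.LibInv5

set_option autoImplicit false
set_option linter.all false

/-! Ranks over the field with two elements -/

namespace CfsgLib.Inv

open Cfsg Matrix CfsgLib.BN CfsgLib.Chev Cfsg.Lie

def tb (u p : ℕ) : Bool := Nat.beq (Nat.land (Nat.shiftRight u p) 1) 1

theorem tb_eq (u p : ℕ) : tb u p = u.testBit p := by
  unfold tb
  show Nat.beq ((u >>> p) &&& 1) 1 = u.testBit p
  rw [Nat.testBit, Nat.and_comm 1, Nat.and_one_is_mod]
  rcases Nat.mod_two_eq_zero_or_one (u >>> p) with h | h <;> rw [h] <;> rfl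

def redu (v p u : ℕ) : ℕ := if tb u p = true then Nat.xor u v else u

/-- rank by elimination -/
def elim : ℕ → List ℕ → ℕ
  | 0, _ => 0
  | _ + 1, [] => 0
  | f + 1, v :: rest => if Nat.beq v 0 = true then elim f rest else 1 + elim f (rest.map (redu v (Nat.log2 v)))

noncomputable def rowsL (W M I : ℕ) : ℕ → List ℕ := fun N =>
  Nat.rec [] (fun k L => (if tb I k = true then Nat.land (row W M k) I else 0) :: L) N

section Sem

variable {D : ChevalleyDatum} {T : Tb} (g : Good3 D T) {F : Type*} [Field F]

/-- numbering of the coordinates -/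
def ix (T : Tb) : D.Idx → ℕ
  | Sum.inl i => T.n + i
  | Sum.inr r => r

include g in
theorem ix_lt (a : D.Idx) : ix T a < T.n + T.l := by
  rcases a with i | r
  · have := i.2; have := g.hl; simp only [ix]; omega
  · have := r.2; have := g.hn; simp only [ix]; omega

include g in
theorem ix_inj {a b : D.Idx} (h : ix T a = ix T b) : a = b := by
  rcases a with i | r <;> rcases b with j | s <;> simp only [ix] at h
  · congr 1; ext; omega
  · have := s.2; have := g.hn; omega
  · have := r.2; have := g.hn; omega
  · congr 1; ext; exact h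

include g in
theorem ix_surj {k : ℕ} (hk : k < T.n + T.l) : ∃ a : D.Idx, ix T a = k := by
  have h1 := g.hn
  have h2 := g.hl
  by_cases h : k < T.n
  · exact ⟨Sum.inr ⟨k, by omega⟩, rfl⟩
  · exact ⟨Sum.inl ⟨k - T.n, by omega⟩, by simp only [ix]; omega⟩

include g in
theorem bV_ix (k : ℕ) (a : D.Idx) : bV D F T.n k a = if k = ix T a then 1 else 0 := by
  have h1 := g.hn
  have h2 := g.hl
  unfold bV
  split_ifs with h h3 h3
  · rcases a with i | r
    · simp only [ix] at h3; omega
    · simp only [ix] at h3
      rw [eV_inr, if_pos h3.symm]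
  · rcases a with i | r
    · rw [eV_inl]
    · simp only [ix] at h3
      rw [eV_inr, if_neg]; intro h4; exact h3 h4.symm
  · rcases a with i | r
    · simp only [ix] at h3
      rw [hV_inl, if_pos]; omega
    · simp only [ix] at h3
      have := r.2; omega
  · rcases a with i | r
    · simp only [ix] at h3
      rw [hV_inl, if_neg]; omega
    · rw [hV_inr]

include g in
theorem bV_single (b : D.Idx) : bV D F T.n (ix T b) = Pi.single b 1 := by
  ext a
  rw [bV_ix g, Pi.single_apply]
  by_cases h : a = b
  · subst h; simp
  · rw [if_neg h, if_neg]; intro h'; exact h (ix_inj g h').symm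

variable [CharP F 2]

theorem XP_entry {W : ℕ} (hW : T.n + T.l ≤ W) {w : List ℕ} (hw : ∀ r ∈ w, r < T.n) (a b : D.Idx) :
    (XP g F w : Matrix D.Idx D.Idx F) a b = bt F ((evalW T.acc W w).testBit (W * ix T a + ix T b)) := by
  have h1 := evalW_sound (F := F) g.link (W := W) hW (b := ix T b) (ix_lt g b) w hw
  have h2 := congrFun h1 a
  have e1 : bV D F T.acc.n (ix T b) = Pi.single b 1 := bV_single g b
  rw [e1, mulVec_single_one, ← XP_val g] at h2
  have e2 : (XP g F w : Matrix D.Idx D.Idx F).col b a = (XP g F w : Matrix D.Idx D.Idx F) a b := rfl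
  rw [e2] at h2
  rw [h2, V, Finset.sum_apply, Finset.sum_eq_single (ix T a)]
  · rw [Pi.smul_apply]
    have e3 : bV D F T.acc.n (ix T a) a = 1 := by
      have := bV_ix g (F := F) (ix T a) a
      rw [if_pos rfl] at this; exact this
    rw [e3, smul_eq_mul, mul_one]
  · intro k _ hk
    rw [Pi.smul_apply]
    have e3 : bV D F T.acc.n k a = 0 := by
      have := bV_ix g (F := F) k a
      rw [if_neg hk] at this; exact this
    rw [e3, smul_zero]
  · intro h; exact absurd (Finset.mem_range.2 (ix_lt g a)) h

/-- row vectors -/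
def rv (T : Tb) (F : Type*) [Field F] (u : ℕ) : D.Idx → F := fun b => bt F (u.testBit (ix T b))

theorem rv_xor (u v : ℕ) : (rv T F (u ^^^ v) : D.Idx → F) = rv T F u + rv T F v := by
  ext b
  simp only [rv, Nat.testBit_xor, bt_xor, Pi.add_apply]

omit [CharP F 2] in
theorem rv_zero : (rv T F 0 : D.Idx → F) = 0 := by
  ext b
  simp [rv, bt]

omit [CharP F 2] in
theorem spL_nil : Module.finrank F (Submodule.span F {x : D.Idx → F | ∃ u ∈ ([] : List ℕ), x = rv T F u}) = 0 := by
  have : {x : D.Idx → F | ∃ u ∈ ([] : List ℕ), x = rv T F u} = ∅ := by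
    ext x; simp
  rw [this, Submodule.span_empty, finrank_bot]

def spL (D : ChevalleyDatum) (T : Tb) (F : Type*) [Field F] (L : List ℕ) : Submodule F (D.Idx → F) :=
  Submodule.span F {x | ∃ u ∈ L, x = rv T F u}

theorem redu_spec (v p u : ℕ) : redu v p u = u ∨ redu v p u = u ^^^ v := by
  unfold redu
  split_ifs
  · right; rfl
  · left; rfl

include g in
theorem elim_sound (f : ℕ) : ∀ L : List ℕ, L.length ≤ f → (∀ u ∈ L, u < 2 ^ (T.n + T.l)) →
    Module.finrank F (spL D T F L) = elim f L := by
  induction f with
  | zero =>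
    intro L hL _
    have : L = [] := List.length_eq_zero_iff.1 (by omega)
    subst this
    exact spL_nil
  | succ f ih =>
    intro L hL hlt
    cases L with
    | nil => exact spL_nil
    | cons v rest =>
      have hrest : rest.length ≤ f := by simpa using hL
      rw [elim]
      by_cases hv : v = 0
      · subst hv
        rw [if_pos (by rfl), ← ih rest hrest (fun u hu => hlt u (by simp [hu]))]
        have : spL D T F (0 :: rest) = spL D T F rest := by
          apply le_antisymm
          · unfold spL
            rw [Submodule.span_le]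
            rintro _ ⟨u, hu, rfl⟩
            rcases List.mem_cons.1 hu with rfl | hu
            · rw [rv_zero]; exact Submodule.zero_mem _
            · exact Submodule.subset_span ⟨u, hu, rfl⟩
          · unfold spL
            apply Submodule.span_mono
            rintro _ ⟨u, hu, rfl⟩
            exact ⟨u, by simp [hu], rfl⟩
        rw [this]
      · rw [if_neg (by rw [Nat.beq_eq]; exact hv)]
        set p := Nat.log2 v with hp
        have hvp : v.testBit p = true := Nat.testBit_log2 hv
        have hvlt := hlt v (by simp)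
        have hpN : p < T.n + T.l := (Nat.log2_lt hv).2 hvlt
        obtain ⟨b0, hb0⟩ := ix_surj g hpN
        have hred : ∀ u, (redu v p u).testBit p = false := by
          intro u
          unfold redu
          rw [tb_eq]
          split_ifs with h
          · show (u ^^^ v).testBit p = false
            rw [Nat.testBit_xor, h, hvp]; rfl
          · simpa using h
        have hredlt : ∀ u ∈ rest.map (redu v p), u < 2 ^ (T.n + T.l) := by
          intro u hu
          rw [List.mem_map] at hu
          obtain ⟨u', hu', rfl⟩ := hu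
          have h1 := hlt u' (by simp [hu'])
          rcases redu_spec v p u' with h | h <;> rw [h]
          · exact h1
          · exact Nat.xor_lt_two_pow h1 hvlt
        have ih' := ih (rest.map (redu v p)) (by simpa using hrest) hredlt
        rw [← ih']
        have hsup : spL D T F (v :: rest) = Submodule.span F {rv T F v} ⊔ spL D T F (rest.map (redu v p)) := by
          apply le_antisymm
          · conv_lhs => unfold spL
            rw [Submodule.span_le]
            rintro _ ⟨u, hu, rfl⟩
            rcases List.mem_cons.1 hu with rfl | hu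
            · exact Submodule.mem_sup_left (Submodule.mem_span_singleton_self _)
            · have h1 : (rv T F (redu v p u) : D.Idx → F) ∈ spL D T F (rest.map (redu v p)) :=
                Submodule.subset_span ⟨_, List.mem_map_of_mem hu, rfl⟩
              rcases redu_spec v p u with h | h
              · rw [h] at h1; exact Submodule.mem_sup_right h1
              · rw [h, rv_xor] at h1
                have e : (rv T F u : D.Idx → F) = (rv T F u + rv T F v) + rv T F v := by
                  rw [add_assoc]
                  have : (rv T F v : D.Idx → F) + rv T F v = 0 := by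
                    ext b; exact CharTwo.add_self_eq_zero _
                  rw [this, add_zero]
                rw [SetLike.mem_coe, e]
                exact Submodule.add_mem _ (Submodule.mem_sup_right h1)
                  (Submodule.mem_sup_left (Submodule.mem_span_singleton_self _))
          · rw [sup_le_iff]
            constructor
            · rw [Submodule.span_singleton_le_iff_mem]
              exact Submodule.subset_span ⟨v, by simp, rfl⟩
            · conv_lhs => unfold spL
              rw [Submodule.span_le]
              rintro _ ⟨u', hu', rfl⟩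
              rw [List.mem_map] at hu'
              obtain ⟨u, hu, rfl⟩ := hu'
              have h1 : (rv T F u : D.Idx → F) ∈ spL D T F (v :: rest) := Submodule.subset_span ⟨u, by simp [hu], rfl⟩
              have h2 : (rv T F v : D.Idx → F) ∈ spL D T F (v :: rest) := Submodule.subset_span ⟨v, by simp, rfl⟩
              rcases redu_spec v p u with h | h
              · rw [h]; exact h1
              · rw [h, rv_xor]; exact Submodule.add_mem _ h1 h2
        have hker : ∀ x ∈ spL D T F (rest.map (redu v p)), x b0 = 0 := by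
          intro x hx
          unfold spL at hx
          refine Submodule.span_induction ?_ ?_ ?_ ?_ hx
          · rintro _ ⟨u', hu', rfl⟩
            rw [List.mem_map] at hu'
            obtain ⟨u, hu, rfl⟩ := hu'
            simp only [rv]
            rw [hb0, hred]; rfl
          · rfl
          · intro x y _ _ hx hy; rw [Pi.add_apply, hx, hy, add_zero]
          · intro c x _ hx; rw [Pi.smul_apply, hx, smul_zero]
        have hvb : (rv T F v : D.Idx → F) b0 = 1 := by
          simp only [rv]
          rw [hb0, hvp]; rfl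
        have hdisj : Disjoint (Submodule.span F {(rv T F v : D.Idx → F)}) (spL D T F (rest.map (redu v p))) := by
          rw [Submodule.disjoint_def]
          intro x hx hx'
          rw [Submodule.mem_span_singleton] at hx
          obtain ⟨c, rfl⟩ := hx
          have := hker _ hx'
          rw [Pi.smul_apply, hvb, smul_eq_mul, mul_one] at this
          rw [this, zero_smul]
        have h1 := Submodule.finrank_sup_add_finrank_inf_eq (Submodule.span F {(rv T F v : D.Idx → F)})
          (spL D T F (rest.map (redu v p)))
        rw [hdisj.eq_bot, finrank_bot, add_zero, finrank_span_singleton] at h1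
        · rw [hsup, h1]
        · intro h0
          rw [h0] at hvb
          exact zero_ne_one hvb

/-- masks -/
def Em (D : ChevalleyDatum) (T : Tb) (F : Type*) [Field F] (I : ℕ) : Matrix D.Idx D.Idx F :=
  diagonal (fun a => bt F (I.testBit (ix T a)))

omit [CharP F 2] in
theorem mem_rowsL {W M I : ℕ} (N : ℕ) (u : ℕ) : u ∈ rowsL W M I N ↔
    ∃ k < N, u = (if tb I k = true then Nat.land (row W M k) I else 0) := by
  induction N with
  | zero => simp [rowsL]
  | succ N ih =>
    have e : rowsL W M I (N + 1) = (if tb I N = true then Nat.land (row W M N) I else 0) :: rowsL W M I N := rfl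
    rw [e, List.mem_cons, ih]
    constructor
    · rintro (h | ⟨k, hk, h⟩)
      · exact ⟨N, by omega, h⟩
      · exact ⟨k, by omega, h⟩
    · rintro ⟨k, hk, h⟩
      rcases Nat.lt_succ_iff_lt_or_eq.1 hk with h1 | h1
      · exact Or.inr ⟨k, h1, h⟩
      · subst h1; exact Or.inl h

omit [CharP F 2] in
theorem length_rowsL {W M I : ℕ} (N : ℕ) : (rowsL W M I N).length = N := by
  induction N with
  | zero => rfl
  | succ N ih =>
    have e : rowsL W M I (N + 1) = (if tb I N = true then Nat.land (row W M N) I else 0) :: rowsL W M I N := rfl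
    rw [e, List.length_cons, ih]

theorem rank_mask {W I : ℕ} (hW : T.n + T.l ≤ W) (hI : I < 2 ^ (T.n + T.l)) {w : List ℕ} (hw : ∀ r ∈ w, r < T.n) :
    (Em D T F I * ((XP g F w : Matrix D.Idx D.Idx F) - 1) * Em D T F I).rank =
      elim (T.n + T.l) (rowsL W (Nat.xor (evalW T.acc W w) (idP W (T.n + T.l))) I (T.n + T.l)) := by
  set M := Nat.xor (evalW T.acc W w) (idP W (T.n + T.l)) with hM
  have hlt : ∀ u ∈ rowsL W M I (T.n + T.l), u < 2 ^ (T.n + T.l) := by
    intro u hu
    rw [mem_rowsL] at hu
    obtain ⟨k, _, rfl⟩ := hu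
    split_ifs
    · exact lt_of_le_of_lt Nat.and_le_right hI
    · positivity
  rw [← elim_sound (F := F) g _ _ (by rw [length_rowsL]) hlt, rank_eq_finrank_span_row]
  have hrow : ∀ a : D.Idx, (Em D T F I * ((XP g F w : Matrix D.Idx D.Idx F) - 1) * Em D T F I).row a =
      rv T F (if tb I (ix T a) = true then Nat.land (row W M (ix T a)) I else 0) := by
    intro a
    ext b
    show (Em D T F I * ((XP g F w : Matrix D.Idx D.Idx F) - 1) * Em D T F I) a b = _
    rw [Em, mul_diagonal, diagonal_mul, Matrix.sub_apply, XP_entry g hW hw, one_apply, tb_eq]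
    simp only [rv]
    have h1 : (if a = b then (1 : F) else 0) = bt F ((idP W (T.n + T.l)).testBit (W * ix T a + ix T b)) := by
      rw [idP_testBit (lt_of_lt_of_le (ix_lt g b) hW) _ hW]
      by_cases h : a = b
      · subst h; simp [bt, ix_lt g a]
      · rw [if_neg h]
        have : ¬ ix T a = ix T b := fun h' => h (ix_inj g h')
        simp [bt, this]
    have h2 : bt F ((evalW T.acc W w).testBit (W * ix T a + ix T b)) - (if a = b then (1 : F) else 0) =
        bt F ((row W M (ix T a)).testBit (ix T b)) := by
      rw [h1, row_testBit (lt_of_lt_of_le (ix_lt g b) hW), CharTwo.sub_eq_add, ← bt_xor, ← Nat.testBit_xor]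
      rfl
    rw [h2]
    cases hIa : I.testBit (ix T a)
    · simp [bt]
    · rw [if_pos rfl]
      have : (Nat.land (row W M (ix T a)) I).testBit (ix T b) = ((row W M (ix T a)).testBit (ix T b) && I.testBit (ix T b)) :=
        Nat.testBit_and _ _ _
      rw [this]
      cases (row W M (ix T a)).testBit (ix T b) <;> cases I.testBit (ix T b) <;> simp [bt]
  unfold spL
  have : Set.range (Em D T F I * ((XP g F w : Matrix D.Idx D.Idx F) - 1) * Em D T F I).row =
      {x | ∃ u ∈ rowsL W M I (T.n + T.l), x = rv T F u} := by
    ext x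
    constructor
    · rintro ⟨a, rfl⟩
      exact ⟨_, (mem_rowsL _ _).2 ⟨ix T a, ix_lt g a, rfl⟩, hrow a⟩
    · rintro ⟨u, hu, rfl⟩
      rw [mem_rowsL] at hu
      obtain ⟨k, hk, rfl⟩ := hu
      obtain ⟨a, rfl⟩ := ix_surj g hk
      exact ⟨a, hrow a⟩
  rw [this]

omit [CharP F 2] in
include g in
theorem Em_full {I : ℕ} (hI : I = 2 ^ (T.n + T.l) - 1) : Em D T F I = 1 := by
  rw [Em, ← diagonal_one]
  congr 1
  ext a
  rw [hI, Nat.testBit_two_pow_sub_one]
  simp [bt, ix_lt g a]

theorem rank_XP {W : ℕ} (hW : T.n + T.l ≤ W) {w : List ℕ} (hw : ∀ r ∈ w, r < T.n) :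
    ((XP g F w : Matrix D.Idx D.Idx F) - 1).rank =
      elim (T.n + T.l) (rowsL W (Nat.xor (evalW T.acc W w) (idP W (T.n + T.l))) (2 ^ (T.n + T.l) - 1) (T.n + T.l)) := by
  rw [← rank_mask (F := F) g hW (Nat.sub_lt (by positivity) (by norm_num)) hw, Em_full g rfl, one_mul, mul_one]

/-- kernel check of a rank -/
noncomputable def chkRk (T : Tb) (W I : ℕ) (w : List ℕ) (k : ℕ) : Bool :=
  Nat.ble (T.n + T.l) W && ((w.all fun r => Nat.ble (r + 1) T.n) &&
    (Nat.ble (I + 1) (Nat.pow 2 (T.n + T.l)) &&
    Nat.beq (elim (T.n + T.l) (rowsL W (Nat.xor (evalW T.acc W w) (idP W (T.n + T.l))) I (T.n + T.l))) k))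

theorem rank_of_chk {W I : ℕ} {w : List ℕ} {k : ℕ} (h : chkRk T W I w k = true) :
    (Em D T F I * ((XP g F w : Matrix D.Idx D.Idx F) - 1) * Em D T F I).rank = k := by
  unfold chkRk at h
  simp only [Bool.and_eq_true, Nat.ble_eq, List.all_eq_true, Nat.beq_eq] at h
  obtain ⟨h0, h1, h2, h3⟩ := h
  rw [rank_mask g h0 h2 (fun r hr => h1 r hr), h3]

theorem rank_of_chk' {W : ℕ} {w : List ℕ} {k : ℕ} (h : chkRk T W (2 ^ (T.n + T.l) - 1) w k = true) :
    ((XP g F w : Matrix D.Idx D.Idx F) - 1).rank = k := by
  have := rank_of_chk g (F := F) h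
  rwa [Em_full g rfl, one_mul, mul_one] at this

omit [CharP F 2] in
theorem rank_conj {h y₁ y₂ : GL D.Idx F} (e : h * y₁ * h⁻¹ = y₂) :
    ((y₁ : Matrix D.Idx D.Idx F) - 1).rank = ((y₂ : Matrix D.Idx D.Idx F) - 1).rank := by
  have h1 : ((y₂ : Matrix D.Idx D.Idx F) - 1) = (h : Matrix D.Idx D.Idx F) * ((y₁ : Matrix D.Idx D.Idx F) - 1) *
      ((h⁻¹ : GL D.Idx F) : Matrix D.Idx D.Idx F) := by
    rw [← e, mul_sub, sub_mul, mul_one, Units.val_mul, Units.val_mul, Units.mul_inv]
  rw [h1, rank_mul_eq_left_of_isUnit_det _ _ ((isUnit_iff_isUnit_det _).1 (h⁻¹).isUnit),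
    rank_mul_eq_right_of_isUnit_det _ _ ((isUnit_iff_isUnit_det _).1 h.isUnit)]

end Sem

end CfsgLib.Inv
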