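import Mathlib
import Cfsg.Agent.LibInv6

set_option autoImplicit false
set_option linter.all false

/-! Classification from reflections and moves -/

namespace CfsgLib.Inv

open Cfsg Matrix CfsgLib.BN CfsgLib.Chev Cfsg.Lie

section

variable {D : ChevalleyDatum} {T : Tb} (g : Good3 D T) {F : Type*} [Field F] [CharP F 2]

theorem nn_sq1 {i : ℕ} (hi : i < T.l) : g.nn (F := F) i * g.nn i = 1 := by
  rw [g.nn_sq hi]
  have h2 : (-1 : Fˣ) = 1 := by ext; simp [CharTwo.neg_eq]
  rw [h2]
  exact Chev.Good3.hd_one (D := D) (T := T) (F := F) _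

theorem nw_rev {w : List ℕ} (hw : VW T w) : g.nw (F := F) w.reverse = (g.nw w)⁻¹ := by
  induction w with
  | nil => simp [Good3.nw]
  | cons i w ih =>
    have hi : i < T.l := hw i List.mem_cons_self
    have hw' : VW T w := fun j hj => hw j (List.mem_cons_of_mem _ hj)
    have e : g.nw (F := F) [i] = (g.nn i)⁻¹ := by
      rw [Good3.nw_cons, Good3.nw_nil, mul_one]
      exact eq_inv_of_mul_eq_one_left (nn_sq1 g hi)
    rw [List.reverse_cons, Good3.nw_append, ih hw', e, Good3.nw_cons (w := w), _root_.mul_inv_rev]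

theorem nw_X1 {w : List ℕ} (hw : VW T w) {r : ℕ} (hr : r < T.n) :
    g.nw w * g.X (F := F) r 1 * (g.nw w)⁻¹ = g.X (wact T w r) 1 := by
  rw [g.nw_X hw hr]
  congr 1
  rcases Good3.sgn_cases (T := T) w r with h | h <;> rw [h]
  · simp
  · push_cast; rw [mul_one]; exact CharTwo.neg_eq 1

theorem nw_XP {v : List ℕ} (hv : VW T v) (S : List ℕ) (hS : ∀ r ∈ S, r < T.n) :
    g.nw v * XP g F S * (g.nw v)⁻¹ = XP g F (S.map (wact T v)) := by
  induction S with
  | nil => rw [List.map_nil, XP_nil]; group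
  | cons r S ih =>
    rw [List.map_cons, XP_cons, XP_cons, ← ih (fun s hs => hS s (by simp [hs])), ← nw_X1 g hv (hS r (by simp))]
    group

/-- reflection words -/
def rfw (p : List ℕ × ℕ) : List ℕ := p.1 ++ (p.2 :: p.1.reverse)

def omw (L : List (List ℕ × ℕ)) : List ℕ := L.flatMap rfw

def rts (T : Tb) (L : List (List ℕ × ℕ)) : List ℕ := L.map fun p => wact T p.1 (T.sim p.2)

def tri (T : Tb) (S : List ℕ) : List ℕ := S.flatMap fun r => [r, T.n - 1 - r, r]

def vld (T : Tb) (L : List (List ℕ × ℕ)) : Bool := L.all fun p => (p.1.all fun i => Nat.ble (i + 1) T.l) && Nat.ble (p.2 + 1) T.l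

theorem vld_spec {L : List (List ℕ × ℕ)} (h : vld T L = true) : ∀ p ∈ L, VW T p.1 ∧ p.2 < T.l := by
  unfold vld at h
  simp only [List.all_eq_true, Bool.and_eq_true, Nat.ble_eq] at h
  intro p hp
  exact ⟨fun i hi => (h p hp).1 i hi, (h p hp).2⟩

omit [CharP F 2] g in
theorem omw_VW {L : List (List ℕ × ℕ)} (h : vld T L = true) : VW T (omw L) := by
  intro i hi
  unfold omw rfw at hi
  rw [List.mem_flatMap] at hi
  obtain ⟨p, hp, hi⟩ := hi
  obtain ⟨h1, h2⟩ := vld_spec h p hp
  simp only [List.mem_append, List.mem_cons, List.mem_reverse] at hi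
  rcases hi with hi | rfl | hi
  · exact h1 i hi
  · exact h2
  · exact h1 i hi

theorem nw_omw {L : List (List ℕ × ℕ)} (h : vld T L = true) : g.nw (F := F) (omw L) = XP g F (tri T (rts T L)) := by
  have h' := vld_spec h
  clear h
  induction L with
  | nil => rfl
  | cons p L ih =>
    obtain ⟨hp1, hp2⟩ := h' p (by simp)
    have e1 : omw (p :: L) = rfw p ++ omw L := by simp [omw]
    have e2 : tri T (rts T (p :: L)) = [wact T p.1 (T.sim p.2), T.n - 1 - wact T p.1 (T.sim p.2), wact T p.1 (T.sim p.2)] ++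
        tri T (rts T L) := by simp [tri, rts]
    rw [e1, e2, Good3.nw_append, XP_append, ih (fun q hq => h' q (by simp [hq]))]
    congr 1
    unfold rfw
    have hpr := Good3.VW_reverse hp1
    rw [Good3.nw_append, Good3.nw_cons, nw_rev g hp1, ← mul_assoc]
    have e3 : g.nn (F := F) p.2 = XP g F [T.sim p.2, T.n - 1 - T.sim p.2, T.sim p.2] := by
      have := nw_eq g (F := F) [p.2]
      rw [Good3.nw_cons, Good3.nw_nil, mul_one] at this
      exact this
    have hs := g.sim_lt hp2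
    rw [e3, nw_XP g hp1 _ (by intro r hr; simp at hr; omega)]
    simp only [List.map_cons, List.map_nil]
    rw [g.wact_neg hp1 hs]

/-- moves -/
noncomputable def chkPath (T : Tb) (W : ℕ) : List ℕ → List (Bool × List ℕ × List ℕ) → List ℕ → Bool
  | S, [], R => decide (S = R)
  | S, (true, v, S') :: rest, R => (v.all fun i => Nat.ble (i + 1) T.l) && ((S.all fun r => Nat.ble (r + 1) T.n) &&
      (decide (S.map (wact T v) = S') && chkPath T W S' rest R))
  | S, (false, a, S') :: rest, R => chkE T W (a ++ S) (S' ++ a) && chkPath T W S' rest R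

theorem path_sound {W : ℕ} (m : List (Bool × List ℕ × List ℕ)) : ∀ (S R : List ℕ), chkPath T W S m R = true →
    ∃ c : ↥(D.group F), (c : GL D.Idx F) * XP g F S * (c : GL D.Idx F)⁻¹ = XP g F R := by
  induction m with
  | nil =>
    intro S R h
    rw [chkPath, decide_eq_true_eq] at h
    subst h
    exact ⟨1, by simp⟩
  | cons p rest ih =>
    intro S R h
    obtain ⟨b, v, S'⟩ := p
    cases b
    · rw [chkPath, Bool.and_eq_true] at h
      obtain ⟨c, hc⟩ := ih S' R h.2
      refine ⟨c * XG g F v, ?_⟩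
      have h1 := XP_eq g (F := F) h.1
      rw [XP_append, XP_append] at h1
      rw [← hc]
      have e : XP g F S' = XP g F v * XP g F S * (XP g F v)⁻¹ := by rw [h1]; group
      rw [e]
      show (c : GL D.Idx F) * XP g F v * XP g F S * ((c : GL D.Idx F) * XP g F v)⁻¹ = _
      group
    · rw [chkPath, Bool.and_eq_true, Bool.and_eq_true, Bool.and_eq_true, List.all_eq_true, List.all_eq_true,
        decide_eq_true_eq] at h
      obtain ⟨h1, h2, h3, h4⟩ := h
      obtain ⟨c, hc⟩ := ih S' R h4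
      refine ⟨c * NG g F v, ?_⟩
      have h5 := nw_XP g (F := F) (v := v) (fun i hi => by have := h1 i hi; rw [Nat.ble_eq] at this; exact this) S
        (fun r hr => by have := h2 r hr; rw [Nat.ble_eq] at this; exact this)
      rw [h3] at h5
      rw [← hc, ← h5]
      show (c : GL D.Idx F) * g.nw v * XP g F S * ((c : GL D.Idx F) * g.nw v)⁻¹ = _
      group

/-- all the checks on `w0` -/
noncomputable def chkF (T : Tb) (f : ℕ → ℕ) (w0 : List ℕ) : Bool :=
  (w0.all fun i => Nat.ble (i + 1) T.l) && ((allB T.n fun r => Nat.beq (wact T w0 r) (f r)) &&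
    ((allB T.l fun i => Nat.ble (f (T.sim i) + 1) (T.n / 2)) && (allB T.n fun r => Nat.beq (f (f r)) r)))

noncomputable def chkRel (T : Tb) (W : ℕ) (R : List (List ℕ)) :
    List (List (List ℕ × ℕ) × List (Bool × List ℕ × List ℕ) × List ℕ) → Bool
  | [] => true
  | p :: rest => (vld T p.1 && (decide (p.2.2 ∈ R) && chkPath T W (tri T (rts T p.1)) p.2.1 p.2.2)) && chkRel T W R rest

theorem classify2 [Fintype F] {P : BNPair ↥(D.group F)} (hP : IsStd g P) {f : ℕ → ℕ} {w0 : List ℕ} {W : ℕ}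
    {R : List (List ℕ)} {rel : List (List (List ℕ × ℕ) × List (Bool × List ℕ × List ℕ) × List ℕ)}
    {cert : List (List ℕ × List ℕ × ℕ)} (h1 : chkF T f w0 = true) (h2 : chkRel T W R rel = true)
    (h3 : chkAll T f (rel.map fun p => omw p.1) 0 cert = true) (h4 : ∀ b ∈ R, chkE T W (b ++ b) [] = true)
    {t : ↥(D.group F)} (ht : t * t = 1) : ∃ b ∈ R, ∃ c, c * t * c⁻¹ = XG g F b := by
  unfold chkF at h1
  simp only [Bool.and_eq_true, List.all_eq_true, allB_iff, Nat.ble_eq, Nat.beq_eq] at h1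
  obtain ⟨a1, a2, a3, a4⟩ := h1
  have hrel : ∀ p ∈ rel, vld T p.1 = true ∧ p.2.2 ∈ R ∧ chkPath T W (tri T (rts T p.1)) p.2.1 p.2.2 = true := by
    clear h3
    induction rel with
    | nil => intro p hp; simp at hp
    | cons q rest ih =>
      rw [chkRel, Bool.and_eq_true, Bool.and_eq_true, Bool.and_eq_true, decide_eq_true_eq] at h2
      intro p hp
      rcases List.mem_cons.1 hp with rfl | hp
      · exact ⟨h2.1.1, h2.1.2.1, h2.1.2.2⟩
      · exact ih h2.2 p hp
  have hΩ : ∀ ω ∈ rel.map (fun p => omw p.1), VW T ω := by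
    intro ω hω
    rw [List.mem_map] at hω
    obtain ⟨p, hp, rfl⟩ := hω
    exact omw_VW (hrel p hp).1
  obtain ⟨c, n, hcn, hn, hnn, ω, hω, hωn⟩ := red hP (fun i hi => a1 i hi) a2 a3 a4 hΩ h3 ht
  rw [List.mem_map] at hω
  obtain ⟨p, hp, rfl⟩ := hω
  obtain ⟨b1, b2, b3⟩ := hrel p hp
  obtain ⟨d, hd⟩ := path_sound g (F := F) _ _ _ b3
  rw [← nw_omw g b1] at hd
  have hd' : d * NG g F (omw p.1) * d⁻¹ = XG g F p.2.2 := Subtype.ext hd
  have h2' : XG g F p.2.2 * XG g F p.2.2 = 1 := by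
    apply Subtype.ext
    have := XP_eq g (F := F) (h4 _ b2)
    rw [XP_append] at this
    exact this
  have h5 : NG g F (omw p.1) * NG g F (omw p.1) = 1 := by
    have e : NG g F (omw p.1) = d⁻¹ * XG g F p.2.2 * d := by rw [← hd']; group
    rw [e]
    have e2 : d⁻¹ * XG g F p.2.2 * d * (d⁻¹ * XG g F p.2.2 * d) = d⁻¹ * (XG g F p.2.2 * XG g F p.2.2) * d := by group
    rw [e2, h2']; group
  obtain ⟨e, he⟩ := conj_H hP.spl (hP.NG_mem (omw_VW b1)) hn h5 hnn hωn
  refine ⟨p.2.2, b2, d * e⁻¹ * c, ?_⟩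
  have e1 : d * e⁻¹ * c * t * (d * e⁻¹ * c)⁻¹ = d * (e⁻¹ * (c * t * c⁻¹) * e) * d⁻¹ := by group
  rw [e1, hcn, ← he, ← hd']; group

end

end CfsgLib.Inv
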