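import Mathlib
import Cfsg.Agent.LibInv7

set_option autoImplicit false
set_option linter.all false

/-! Final assembly: involution classes in characteristic two -/

namespace CfsgLib.Inv

open Cfsg Matrix CfsgLib.BN CfsgLib.Chev Cfsg.Lie

section

variable {D : ChevalleyDatum} {T : Tb} (g : Good3 D T) {F : Type*} [Field F] [CharP F 2]

theorem XP_mem (w : List ℕ) : XP g F w ∈ D.group F := (XG g F w).2

include g in
theorem final {Ms : List (Matrix D.Idx D.Idx F)} {R' : List (List ℕ)} {W : ℕ}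
    (hMs : Ms = R'.map fun b => (XP g F b : Matrix D.Idx D.Idx F))
    (hcl : ∀ t : ↥(D.group F), t * t = 1 → ∃ b ∈ ([] :: R'), ∃ c, c * t * c⁻¹ = XG g F b)
    (hsq : ∀ b ∈ R', chkE T W (b ++ b) [] = true) (hne : ∀ b ∈ R', XP g F b ≠ 1)
    (hpair : ∀ b₁ ∈ R', ∀ b₂ ∈ R', (∃ h ∈ D.group F, h * XP g F b₁ * h⁻¹ = XP g F b₂) → b₁ = b₂) :
    (∀ y : GL D.Idx F, (y : Matrix D.Idx D.Idx F) ∈ Ms → y ∈ D.group F ∧ orderOf y = 2) ∧
    (∀ g ∈ D.group F, orderOf g = 2 → ∃ y ∈ D.group F, (y : Matrix D.Idx D.Idx F) ∈ Ms ∧ ∃ h ∈ D.group F, h * g * h⁻¹ = y) ∧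
    (∀ y₁ ∈ D.group F, ∀ y₂ ∈ D.group F, (y₁ : Matrix D.Idx D.Idx F) ∈ Ms → (y₂ : Matrix D.Idx D.Idx F) ∈ Ms →
      (∃ h ∈ D.group F, h * y₁ * h⁻¹ = y₂) → (y₁ : Matrix D.Idx D.Idx F) = (y₂ : Matrix D.Idx D.Idx F)) := by
  have hmem : ∀ y : GL D.Idx F, (y : Matrix D.Idx D.Idx F) ∈ Ms → ∃ b ∈ R', y = XP g F b := by
    intro y hy
    rw [hMs, List.mem_map] at hy
    obtain ⟨b, hb, e⟩ := hy
    exact ⟨b, hb, Units.ext e.symm⟩
  refine ⟨?_, ?_, ?_⟩
  · intro y hy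
    obtain ⟨b, hb, rfl⟩ := hmem y hy
    refine ⟨XP_mem g b, ?_⟩
    have h1 := XP_eq g (F := F) (hsq b hb)
    rw [XP_append, XP_nil] at h1
    exact orderOf_eq_prime (by rw [pow_two, h1]) (hne b hb)
  · intro y hy hy2
    have h1 : (⟨y, hy⟩ : ↥(D.group F)) * ⟨y, hy⟩ = 1 := by
      apply Subtype.ext
      show y * y = 1
      rw [← pow_two, ← hy2, pow_orderOf_eq_one]
    obtain ⟨b, hb, c, hc⟩ := hcl _ h1
    have h2 : (c : GL D.Idx F) * y * (c : GL D.Idx F)⁻¹ = XP g F b := congrArg Subtype.val hc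
    rcases List.mem_cons.1 hb with rfl | hb
    · exfalso
      rw [XP_nil] at h2
      have : y = 1 := by
        have e : y = (c : GL D.Idx F)⁻¹ * ((c : GL D.Idx F) * y * (c : GL D.Idx F)⁻¹) * c := by group
        rw [e, h2]; group
      rw [this, orderOf_one] at hy2
      omega
    · refine ⟨XP g F b, XP_mem g b, ?_, c, c.2, h2⟩
      rw [hMs, List.mem_map]
      exact ⟨b, hb, rfl⟩
  · intro y₁ _ y₂ _ h1 h2 h3
    obtain ⟨b₁, hb₁, rfl⟩ := hmem y₁ h1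
    obtain ⟨b₂, hb₂, rfl⟩ := hmem y₂ h2
    rw [hpair b₁ hb₁ b₂ hb₂ h3]

theorem hne_of {R' : List (List ℕ)} {W : ℕ} {L : List (List ℕ × ℕ)} (hL : L.map Prod.fst = R')
    (hrk : ∀ p ∈ L, chkRk T W (2 ^ (T.n + T.l) - 1) p.1 p.2 = true) (h0 : ∀ p ∈ L, p.2 ≠ 0) : ∀ b ∈ R', XP g F b ≠ 1 := by
  intro b hb h
  rw [← hL, List.mem_map] at hb
  obtain ⟨p, hp, rfl⟩ := hb
  have h1 := rank_of_chk' g (F := F) (hrk p hp)
  rw [h, Units.val_one, sub_self, Matrix.rank_zero] at h1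
  exact h0 p hp h1.symm

theorem hpair_of {R' : List (List ℕ)} {W : ℕ} {L : List (List ℕ × ℕ)} (hL : L.map Prod.fst = R')
    (hrk : ∀ p ∈ L, chkRk T W (2 ^ (T.n + T.l) - 1) p.1 p.2 = true) (hnd : ∀ p ∈ L, ∀ q ∈ L, p.2 = q.2 → p.1 = q.1) :
    ∀ b₁ ∈ R', ∀ b₂ ∈ R', (∃ h ∈ D.group F, h * XP g F b₁ * h⁻¹ = XP g F b₂) → b₁ = b₂ := by
  rintro b₁ hb₁ b₂ hb₂ ⟨h, _, e⟩
  rw [← hL, List.mem_map] at hb₁ hb₂
  obtain ⟨p, hp, rfl⟩ := hb₁
  obtain ⟨q, hq, rfl⟩ := hb₂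
  apply hnd p hp q hq
  rw [← rank_of_chk' g (F := F) (hrk p hp), ← rank_of_chk' g (F := F) (hrk q hq)]
  exact rank_conj e

include g in
theorem count {R' : List (List ℕ)} {W : ℕ}
    (hcl : ∀ t : ↥(D.group F), t * t = 1 → ∃ b ∈ ([] :: R'), ∃ c, c * t * c⁻¹ = XG g F b)
    (hsq : ∀ b ∈ R', chkE T W (b ++ b) [] = true) (hne : ∀ b ∈ R', XP g F b ≠ 1)
    (hpair : ∀ b₁ ∈ R', ∀ b₂ ∈ R', (∃ h ∈ D.group F, h * XP g F b₁ * h⁻¹ = XP g F b₂) → b₁ = b₂) (hnd : R'.Nodup) :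
    (ConjClasses.mk '' {g : ↥(D.group F) | orderOf g = 2}).ncard = R'.length := by
  classical
  have h1 : (ConjClasses.mk '' {g : ↥(D.group F) | orderOf g = 2}) =
      (fun b => ConjClasses.mk (XG g F b)) '' (R'.toFinset : Set (List ℕ)) := by
    ext c
    constructor
    · rintro ⟨t, ht, rfl⟩
      have h1 : t * t = 1 := by
        rw [← pow_two, ← (show orderOf t = 2 from ht), pow_orderOf_eq_one]
      obtain ⟨b, hb, c, hc⟩ := hcl t h1
      rcases List.mem_cons.1 hb with rfl | hb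
      · exfalso
        have h3 : XG g F ([] : List ℕ) = 1 := Subtype.ext rfl
        rw [h3] at hc
        have : t = 1 := by
          have e : t = c⁻¹ * (c * t * c⁻¹) * c := by group
          rw [e, hc]; group
        rw [this] at ht
        have h4 : orderOf (1 : ↥(D.group F)) = 2 := ht
        rw [orderOf_one] at h4
        omega
      · refine ⟨b, by simpa using hb, ?_⟩
        show ConjClasses.mk (XG g F b) = ConjClasses.mk t
        rw [ConjClasses.mk_eq_mk_iff_isConj, isConj_comm, isConj_iff]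
        exact ⟨c, hc⟩
    · rintro ⟨b, hb, rfl⟩
      have hb' : b ∈ R' := by simpa using hb
      refine ⟨XG g F b, ?_, rfl⟩
      have h1 := XP_eq g (F := F) (hsq b hb')
      rw [XP_append, XP_nil] at h1
      show orderOf (XG g F b) = 2
      apply orderOf_eq_prime
      · rw [pow_two]; exact Subtype.ext h1
      · intro h
        exact hne b hb' (congrArg Subtype.val h)
  rw [h1, Set.ncard_image_of_injOn, Set.ncard_coe_finset, List.toFinset_card_of_nodup hnd]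
  intro b₁ h₁ b₂ h₂ e
  have e' : ConjClasses.mk (XG g F b₁) = ConjClasses.mk (XG g F b₂) := e
  rw [ConjClasses.mk_eq_mk_iff_isConj, isConj_iff] at e'
  obtain ⟨c, hc⟩ := e'
  exact hpair b₁ (by simpa using h₁) b₂ (by simpa using h₂) ⟨c, c.2, congrArg Subtype.val hc⟩

end

end CfsgLib.Inv
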