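import Mathlib
import Cfsg.Agent.LibInv8
import Cfsg.Agent.LibChevAll

set_option autoImplicit false
set_option linter.all false
set_option maxRecDepth 100000

/-! certificates for the involutions of E7 in characteristic two -/

namespace CfsgLib.Inv

open Cfsg Matrix CfsgLib.BN CfsgLib.Chev Cfsg.Lie

def fE7 (r : ℕ) : ℕ := Nat.sub 125 r

def w0E7 : List ℕ := [0,1,2,0,3,1,2,0,3,2,4,3,1,2,0,3,2,4,3,1,5,4,3,1,2,0,3,2,4,3,1,5,4,3,2,0,6,5,4,3,1,2,0,3,2,4,3,1,5,4,3,2,0,6,5,4,3,1,2,3,4,5,6]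

def relE7 : List (List (List ℕ × ℕ) × List (Bool × List ℕ × List ℕ) × List ℕ) := [
  ([([0,2,3,4,5,6,1,3,4,5,2,3,4,1,3,2],0),([5,6,4,5,3,4,2,3],1),([3,4,2,3],1),([],1),([],2),([],4),([],6)], [(false,[0,33,38,47,52,59,62],[125,92,87,78,73,66,63]),(false,[17,123,103,31],[125,92,78,73,66,63]),(false,[8,121,99,29],[125,92,73,66,63]),(false,[15,112,106,20],[125,92,73,63]),(true,[0,2,3,4,5,6,1,3,4,5,2,3,4,1,3,0],[92,87,125,78]),(false,[],[125,92,87,78])], [125,92,87,78]),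
  ([([0,2,3,4,5,6,1,3,4,5,2,3,4,1,3,2],0),([5,6,4,5,3,4,2,3],1),([3,4,2,3],1),([],1),([],2),([],4)], [(false,[0,33,38,47,52,59],[125,92,87,78,73,66]),(false,[17,123,103,31],[125,92,78,73,66]),(false,[8,121,99,29],[125,92,73,66]),(true,[3,4,1,3],[125,92,87,78])], [125,92,87,78]),
  ([([0,2,3,4,5,6,1,3,4,5,2,3,4,1,3,2],0),([5,6,4,5,3,4,2,3],1),([3,4,2,3],1),([],1),([],2)], [(false,[0,33,38,47,52],[125,92,87,78,73]),(false,[17,123,103,31],[125,92,78,73]),(true,[3,0,2,1,3,4,0,2,1,3,2,0],[92,125,87,78]),(false,[],[125,92,87,78])], [125,92,87,78]),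
  ([([0,2,3,4,5,6,1,3,4,5,2,3,4,1,3,2],0),([5,6,4,5,3,4,2,3],1),([3,4,2,3],1),([],1)], [(false,[0,33,38,47],[125,92,87,78])], [125,92,87,78]),
  ([([0,2,3,4,5,6,1,3,4,5,2,3,4,1,3,2],0),([5,6,4,5,3,4,2,3],1),([],6)], [(false,[0,33,62],[125,92,63])], [125,92,63]),
  ([([0,2,3,4,5,6,1,3,4,5,2,3,4,1,3,2],0),([5,6,4,5,3,4,2,3],1),([3,4,2,3],1),([],2)], [(false,[0,33,38,52],[125,92,87,73]),(false,[17,123,103,31],[125,92,73]),(true,[3,4,1,3],[125,92,87])], [125,92,87]),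
  ([([0,2,3,4,5,6,1,3,4,5,2,3,4,1,3,2],0),([5,6,4,5,3,4,2,3],1),([3,4,2,3],1)], [(false,[0,33,38],[125,92,87])], [125,92,87]),
  ([([0,2,3,4,5,6,1,3,4,5,2,3,4,1,3,2],0),([5,6,4,5,3,4,2,3],1)], [(false,[0,33],[125,92])], [125,92]),
  ([([0,2,3,4,5,6,1,3,4,5,2,3,4,1,3,2],0)], [(false,[0],[125])], [125]),
  ([], [], [])
]

def certE7_0 : List (List ℕ × List ℕ × ℕ) := [
  ([], [3,0,2,1,0], 0),
  ([0], [5,6,4,5,0,2,3,4,2,3,0,2,1], 1),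
  ([1], [5,6,3,4,5,2,3,4,1,3,0], 1),
  ([0,1], [3,4,5,6,2,3,4,5,0,2,3,4,1,3], 2),
  ([2], [5,6,4,5,0,2,3,4,2,3,1], 1),
  ([0,2,0], [], 0),
  ([1,2], [3,4,5,6,2,3,4,5,0,2,3,4,1,3,2,0], 2),
  ([0,1,2,0], [], 0),
  ([3], [5,6,4,5,3,4], 1),
  ([0,3], [3,4,5,6,2,3,4,5,0,2,3,4], 2),
  ([1,3,1], [], 0),
  ([0,1,3,1], [], 0),
  ([2,3,2], [], 0),
  ([0,2,0,3,2,0], [], 0),
  ([1,2,3,1,2,3], [], 0),
  ([0,1,2,0,3,1,2,0,3,2], [], 0)]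

def certE7_1 : List (List ℕ × List ℕ × ℕ) := [
  ([4], [5,6,4,5], 1),
  ([0,4], [3,4,5,6,2,3,4,5,0,2], 2),
  ([1,4], [3,4,5,6,1,3,4,5], 2),
  ([0,1,4], [0,2,3,4,5,6,1,3,4,5], 3),
  ([2,4], [3,4,5,6,2,3,4,5], 2),
  ([0,2,0,4], [], 0),
  ([1,2,4], [0,2,3,4,5,6,1,3,4,5,2,0], 3),
  ([0,1,2,0,4], [], 0),
  ([3,4,3], [], 0),
  ([0,3,4,3], [], 0),
  ([1,3,1,4,3,1], [], 0),
  ([0,1,3,1,4,3,1], [], 0),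
  ([2,3,2,4,3,2], [], 0),
  ([0,2,0,3,2,0,4,3,2,0], [], 0),
  ([1,2,3,1,2,3,4,3,1,2,3,4], [], 4),
  ([0,1,2,0,3,1,2,0,3,2,4,3,1,2,0,3,2,4,3,1], [], 0)]

def certE7_2 : List (List ℕ × List ℕ × ℕ) := [
  ([5], [3,4,5,6,2,3], 1),
  ([0,5], [3,4,5,6,2,3,0,2], 2),
  ([1,5], [3,4,5,6,1,3], 2),
  ([0,1,5], [0,2,3,4,5,6,1,3], 3),
  ([2,5], [3,4,5,6,2,3], 2),
  ([0,2,0,5], [], 0),
  ([1,2,5], [0,2,3,4,5,6,1,3,2,0], 3),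
  ([0,1,2,0,5], [], 0),
  ([3,5], [3,4,5,6], 2),
  ([0,3,5], [0,2,3,4,5,6], 3),
  ([1,3,1,5], [], 0),
  ([0,1,3,1,5], [], 0),
  ([2,3,2,5], [], 0),
  ([0,2,0,3,2,0,5], [], 0),
  ([1,2,3,1,2,3,5], [], 0),
  ([0,1,2,0,3,1,2,0,3,2,5], [], 0)]

def certE7_3 : List (List ℕ × List ℕ × ℕ) := [
  ([4,5,4], [], 0),
  ([0,4,5,4], [], 0),
  ([1,4,5,4], [], 0),
  ([0,1,4,5,4], [], 0),
  ([2,4,5,4], [], 0),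
  ([0,2,0,4,5,4], [], 0),
  ([1,2,4,5,4], [], 0),
  ([0,1,2,0,4,5,4], [], 0),
  ([3,4,3,5,4,3], [], 0),
  ([0,3,4,3,5,4,3], [], 0),
  ([1,3,1,4,3,1,5,4,3,1], [], 0),
  ([0,1,3,1,4,3,1,5,4,3,1], [], 0),
  ([2,3,2,4,3,2,5,4,3,2], [], 0),
  ([0,2,0,3,2,0,4,3,2,0,5,4,3,2,0], [], 0),
  ([1,2,3,1,2,3,4,3,1,2,3,4,5,4,3,1,2,3,4,5], [], 0),
  ([0,1,2,0,3,1,2,0,3,2,4,3,1,2,0,3,2,4,3,1,5,4,3,1,2,0,3,2,4,3,1,5,4,3,2,0], [], 0)]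

def certE7_4 : List (List ℕ × List ℕ × ℕ) := [
  ([6], [3,4,2,3], 1),
  ([0,6], [3,4,2,3,0,2], 2),
  ([1,6], [3,4,1,3], 2),
  ([0,1,6], [0,2,3,4,1,3], 3),
  ([2,6], [3,4,2,3], 2),
  ([0,2,0,6], [], 0),
  ([1,2,6], [0,2,3,4,1,3,2,0], 3),
  ([0,1,2,0,6], [], 0),
  ([3,6], [3,4], 2),
  ([0,3,6], [0,2,3,4], 3),
  ([1,3,1,6], [], 0),
  ([0,1,3,1,6], [], 0),
  ([2,3,2,6], [], 0),
  ([0,2,0,3,2,0,6], [], 0),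
  ([1,2,3,1,2,3,6], [], 0),
  ([0,1,2,0,3,1,2,0,3,2,6], [], 0)]

def certE7_5 : List (List ℕ × List ℕ × ℕ) := [
  ([4,6], [], 2),
  ([0,4,6], [0,2], 3),
  ([1,4,6], [], 5),
  ([0,1,4,6], [0,2], 6),
  ([2,4,6], [], 3),
  ([0,2,0,4,6], [], 0),
  ([1,2,4,6], [], 6),
  ([0,1,2,0,4,6], [], 0),
  ([3,4,3,6], [], 0),
  ([0,3,4,3,6], [], 0),
  ([1,3,1,4,3,1,6], [], 0),
  ([0,1,3,1,4,3,1,6], [], 0),
  ([2,3,2,4,3,2,6], [], 0),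
  ([0,2,0,3,2,0,4,3,2,0,6], [], 0),
  ([1,2,3,1,2,3,4,3,1,2,3,4,6], [], 7),
  ([0,1,2,0,3,1,2,0,3,2,4,3,1,2,0,3,2,4,3,1,6], [], 0)]

def certE7_6 : List (List ℕ × List ℕ × ℕ) := [
  ([5,6,5], [], 0),
  ([0,5,6,5], [], 0),
  ([1,5,6,5], [], 0),
  ([0,1,5,6,5], [], 0),
  ([2,5,6,5], [], 0),
  ([0,2,0,5,6,5], [], 0),
  ([1,2,5,6,5], [], 0),
  ([0,1,2,0,5,6,5], [], 0),
  ([3,5,6,5], [], 0),
  ([0,3,5,6,5], [], 0),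
  ([1,3,1,5,6,5], [], 0),
  ([0,1,3,1,5,6,5], [], 0),
  ([2,3,2,5,6,5], [], 0),
  ([0,2,0,3,2,0,5,6,5], [], 0),
  ([1,2,3,1,2,3,5,6,5], [], 0),
  ([0,1,2,0,3,1,2,0,3,2,5,6,5], [], 0)]

def certE7_7 : List (List ℕ × List ℕ × ℕ) := [
  ([4,5,4,6,5,4], [], 0),
  ([0,4,5,4,6,5,4], [], 0),
  ([1,4,5,4,6,5,4], [], 0),
  ([0,1,4,5,4,6,5,4], [], 0),
  ([2,4,5,4,6,5,4], [], 0),
  ([0,2,0,4,5,4,6,5,4], [], 0),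
  ([1,2,4,5,4,6,5,4], [], 0),
  ([0,1,2,0,4,5,4,6,5,4], [], 0),
  ([3,4,3,5,4,3,6,5,4,3], [], 0),
  ([0,3,4,3,5,4,3,6,5,4,3], [], 0),
  ([1,3,1,4,3,1,5,4,3,1,6,5,4,3,1], [], 0),
  ([0,1,3,1,4,3,1,5,4,3,1,6,5,4,3,1], [], 0),
  ([2,3,2,4,3,2,5,4,3,2,6,5,4,3,2], [], 0),
  ([0,2,0,3,2,0,4,3,2,0,5,4,3,2,0,6,5,4,3,2,0], [], 0),
  ([1,2,3,1,2,3,4,3,1,2,3,4,5,4,3,1,2,3,4,5,6,5,4,3,1,2,3,4,5,6], [], 8),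
  ([0,1,2,0,3,1,2,0,3,2,4,3,1,2,0,3,2,4,3,1,5,4,3,1,2,0,3,2,4,3,1,5,4,3,2,0,6,5,4,3,1,2,0,3,2,4,3,1,5,4,3,2,0,6,5,4,3,1,2,3,4,5,6], [], 9)]

def certE7 : List (List ℕ × List ℕ × ℕ) := certE7_0 ++ certE7_1 ++ certE7_2 ++ certE7_3 ++ certE7_4 ++ certE7_5 ++ certE7_6 ++ certE7_7

def RE7 : List (List ℕ) := [[125], [125,92], [125,92,63], [125,92,87], [125,92,87,78]]

def LE7 : List (List ℕ × ℕ) := [([125], 34), ([125,92], 52), ([125,92,63], 53), ([125,92,87], 62), ([125,92,87,78], 63)]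

theorem chkF_E7 : chkF tE7 fE7 w0E7 = true := by decide +kernel

theorem chkRel_E7 : chkRel tE7 256 ([] :: RE7) relE7 = true := by decide +kernel

theorem chkAll_E7 : chkAll tE7 fE7 (relE7.map fun p => omw p.1) 0 certE7 = true := by decide +kernel

theorem sq_E7 : ∀ b ∈ ([] :: RE7), chkE tE7 256 (b ++ b) [] = true := by
  have h : (([] :: RE7).all fun b => chkE tE7 256 (b ++ b) []) = true := by decide +kernel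
  intro b hb
  exact List.all_eq_true.1 h b hb

theorem rk_E7 : ∀ p ∈ LE7, chkRk tE7 256 (2 ^ (tE7.n + tE7.l) - 1) p.1 p.2 = true := by
  have h : (LE7.all fun p => chkRk tE7 256 (2 ^ (tE7.n + tE7.l) - 1) p.1 p.2) = true := by decide +kernel
  intro b hb
  exact List.all_eq_true.1 h b hb

theorem cl_E7 {F : Type*} [Field F] [Fintype F] [CharP F 2] (t : ↥(chevE7.group F)) (ht : t * t = 1) :
    ∃ b ∈ ([] :: RE7), ∃ c, c * t * c⁻¹ = XG good3_E7 F b := by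
  obtain ⟨P, h1, h2, h3⟩ := good3_E7.exists_BN (F := F)
  exact classify2 good3_E7 (P := P) ⟨h1, h2, h3⟩ chkF_E7 chkRel_E7 chkAll_E7 sq_E7 ht

end CfsgLib.Inv
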