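import Mathlib
import Cfsg.Agent.LibInv8
import Cfsg.Agent.LibChevAll

set_option autoImplicit false
set_option linter.all false
set_option maxRecDepth 100000

/-! certificates for the involutions of E8 in characteristic two -/

namespace CfsgLib.Inv

open Cfsg Matrix CfsgLib.BN CfsgLib.Chev Cfsg.Lie

def fE8 (r : ℕ) : ℕ := Nat.sub 239 r

def w0E8 : List ℕ := [0,1,2,0,3,1,2,0,3,2,4,3,1,2,0,3,2,4,3,1,5,4,3,1,2,0,3,2,4,3,1,5,4,3,2,0,6,5,4,3,1,2,0,3,2,4,3,1,5,4,3,2,0,6,5,4,3,1,2,3,4,5,6,7,6,5,4,3,1,2,0,3,2,4,3,1,5,4,3,2,0,6,5,4,3,1,2,3,4,5,6,7,6,5,4,3,1,2,0,3,2,4,3,1,5,4,3,2,0,6,5,4,3,1,2,3,4,5,6,7]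

def relE8 : List (List (List ℕ × ℕ) × List (Bool × List ℕ × List ℕ) × List ℕ) := [
  ([([7,6,5,4,3,2,1,3,4,5,6,7,0,2,3,4,5,6,1,3,4,5,2,3,4,1,3,2],0),([0,2,3,4,5,6,1,3,4,5,2,3,4,1,3,2],0),([5,6,4,5,3,4,2,3],1),([3,4,2,3],1),([],1),([],2),([],4),([],6)], [(false,[0,13,80,87,98,104,113,118],[239,226,159,152,141,135,126,121]),(false,[12,237,160,117],[239,226,152,141,135,126,121]),(false,[10,235,155,110],[239,226,141,135,126,121]),(false,[8,233,146,99],[239,226,135,126,121]),(false,[54,188,178,63],[239,226,135,121]),(true,[7,6,5,4,3,2,1,3,4,5,6,7,6,1,3,4,2,3,0,2,1,3,4,5,2,3,4,1,3,0],[226,213,216,220]),(false,[],[226,220,213,216])], [226,220,213,216]),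
  ([([7,6,5,4,3,2,1,3,4,5,6,7,0,2,3,4,5,6,1,3,4,5,2,3,4,1,3,2],0),([0,2,3,4,5,6,1,3,4,5,2,3,4,1,3,2],0),([5,6,4,5,3,4,2,3],1),([3,4,2,3],1),([],1),([],2),([],4)], [(false,[0,13,80,87,98,104,113],[239,226,159,152,141,135,126]),(false,[10,235,155,110],[239,226,159,141,135,126]),(false,[8,233,146,99],[239,226,159,135,126]),(false,[22,222,187,59],[239,226,159,126]),(true,[6,5,4,3,0,2,1,3,4,5,6,7,1,3,4,5,4,2,3,0,2,1,3,0],[220,216,213,226]),(false,[],[226,220,213,216])], [226,220,213,216]),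
  ([([7,6,5,4,3,2,1,3,4,5,6,7,0,2,3,4,5,6,1,3,4,5,2,3,4,1,3,2],0),([0,2,3,4,5,6,1,3,4,5,2,3,4,1,3,2],0),([5,6,4,5,3,4,2,3],1),([3,4,2,3],1),([],1),([],2)], [(false,[0,13,80,87,98,104],[239,226,159,152,141,135]),(false,[8,233,146,99],[239,226,159,152,135]),(false,[58,214,174,76],[239,226,159,135]),(true,[6,5,4,3,0,2,1,3,4,5,6,7,5,6,4,5,2,1,3,4,2,1,3,0],[220,216,226,213]),(false,[],[226,220,213,216])], [226,220,213,216]),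
  ([([7,6,5,4,3,2,1,3,4,5,6,7,0,2,3,4,5,6,1,3,4,5,2,3,4,1,3,2],0),([0,2,3,4,5,6,1,3,4,5,2,3,4,1,3,2],0),([5,6,4,5,3,4,2,3],1),([3,4,2,3],1),([],1)], [(false,[0,13,80,87,98],[239,226,159,152,141]),(false,[36,224,196,66],[239,226,159,141]),(true,[6,5,4,3,0,2,1,3,4,5,6,7,1,3,4,5,2,1,3,4,0,2,3,0],[220,213,216,226]),(false,[],[226,220,213,216])], [226,220,213,216]),
  ([([7,6,5,4,3,2,1,3,4,5,6,7,0,2,3,4,5,6,1,3,4,5,2,3,4,1,3,2],0),([0,2,3,4,5,6,1,3,4,5,2,3,4,1,3,2],0),([5,6,4,5,3,4,2,3],1),([],6)], [(false,[0,13,80,118],[239,226,159,121]),(false,[12,237,160,117],[239,226,121]),(true,[4,3,0,2,1,3,4,5,6,7,4,5,3,4,2,3,0,2,1,3,4,5],[222,228,218]),(false,[],[228,222,218])], [228,222,218]),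
  ([([7,6,5,4,3,2,1,3,4,5,6,7,0,2,3,4,5,6,1,3,4,5,2,3,4,1,3,2],0),([0,2,3,4,5,6,1,3,4,5,2,3,4,1,3,2],0),([5,6,4,5,3,4,2,3],1),([3,4,2,3],1)], [(false,[0,13,80,87],[239,226,159,152]),(true,[7,6,5,4,3,2,1,3,4,5,6,7,1,3,4,5,4,3,2,0],[226,216,213,220]),(false,[],[226,220,213,216])], [226,220,213,216]),
  ([([7,6,5,4,3,2,1,3,4,5,6,7,0,2,3,4,5,6,1,3,4,5,2,3,4,1,3,2],0),([0,2,3,4,5,6,1,3,4,5,2,3,4,1,3,2],0),([5,6,4,5,3,4,2,3],1)], [(false,[0,13,80],[239,226,159]),(true,[5,4,3,2,1,3,4,5,6,7,4,3,2,0],[228,222,218])], [228,222,218]),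
  ([([7,6,5,4,3,2,1,3,4,5,6,7,0,2,3,4,5,6,1,3,4,5,2,3,4,1,3,2],0),([0,2,3,4,5,6,1,3,4,5,2,3,4,1,3,2],0)], [(false,[0,13],[239,226]),(true,[2,3,4,5,6,7],[233,232]),(false,[],[232,233])], [232,233]),
  ([([7,6,5,4,3,2,1,3,4,5,6,7,0,2,3,4,5,6,1,3,4,5,2,3,4,1,3,2],0)], [(false,[0],[239])], [239]),
  ([], [], [])
]

def certE8_0 : List (List ℕ × List ℕ × ℕ) := [
  ([], [5,6,7,3,4,5,6,2,3,4,5,4,3,2], 0),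
  ([0], [5,6,3,4,5,0,2,3,4,2,3,0,2,1,3], 1),
  ([1], [5,6,7,0,2,3,4,5,1,3,4,1,3], 1),
  ([0,1], [3,4,5,6,2,3,4,5,0,2,3,4,1,3], 2),
  ([2], [5,6,7,3,0,2,1,3,4,5,6,3,4,5,2,3,4], 1),
  ([0,2,0], [], 0),
  ([1,2], [3,4,5,6,2,3,4,5,0,2,3,4,1,3,2,0], 2),
  ([0,1,2,0], [], 0),
  ([3], [3,4,5,6,1,3,4,5,3,4], 1),
  ([0,3], [3,4,5,6,7,0,2,3,4,5,6,0,2,3,4], 2),
  ([1,3,1], [], 0),
  ([0,1,3,1], [], 0),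
  ([2,3,2], [], 0),
  ([0,2,0,3,2,0], [], 0),
  ([1,2,3,1,2,3], [], 0),
  ([0,1,2,0,3,1,2,0,3,2], [], 0)]

def certE8_1 : List (List ℕ × List ℕ × ℕ) := [
  ([4], [3,0,2,1,3,4,5,6,7,4,5,6,0,2], 1),
  ([0,4], [0,2,3,4,5,6,2,3,4,5,3,4,2,3,0,2,1], 2),
  ([1,4], [0,2,3,4,5,6,7,1,3,4,5,3,4,1,3,2,0], 2),
  ([0,1,4], [0,2,3,4,5,6,1,3,4,5], 3),
  ([2,4], [3,4,5,6,0,2,3,4,5,3,4,2,3], 2),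
  ([0,2,0,4], [], 0),
  ([1,2,4], [0,2,3,4,5,6,1,3,4,5,2,0], 3),
  ([0,1,2,0,4], [], 0),
  ([3,4,3], [], 0),
  ([0,3,4,3], [], 0),
  ([1,3,1,4,3,1], [], 0),
  ([0,1,3,1,4,3,1], [], 0),
  ([2,3,2,4,3,2], [], 0),
  ([0,2,0,3,2,0,4,3,2,0], [], 0),
  ([1,2,3,1,2,3,4,3,1,2,3,4], [], 4),
  ([0,1,2,0,3,1,2,0,3,2,4,3,1,2,0,3,2,4,3,1], [], 0)]

def certE8_2 : List (List ℕ × List ℕ × ℕ) := [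
  ([5], [5,6,7,3,4,5,6,5,4,3,2,1,0], 1),
  ([0,5], [3,4,5,6,7,4,5,3,4,0,2,3,0,2], 2),
  ([1,5], [0,2,3,4,5,6,7,1,3,2,0], 2),
  ([0,1,5], [0,2,3,4,5,6,7,1,3], 3),
  ([2,5], [3,4,5,6,4,5,3,4,0,2,3], 2),
  ([0,2,0,5], [], 0),
  ([1,2,5], [0,2,3,4,5,6,7,1,3,2,0], 3),
  ([0,1,2,0,5], [], 0),
  ([3,5], [3,4,5,6,4,5,3,4,0], 2),
  ([0,3,5], [0,2,3,4,5,6], 3),
  ([1,3,1,5], [], 0),
  ([0,1,3,1,5], [], 0),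
  ([2,3,2,5], [], 0),
  ([0,2,0,3,2,0,5], [], 0),
  ([1,2,3,1,2,3,5], [], 0),
  ([0,1,2,0,3,1,2,0,3,2,5], [], 0)]

def certE8_3 : List (List ℕ × List ℕ × ℕ) := [
  ([4,5,4], [], 0),
  ([0,4,5,4], [], 0),
  ([1,4,5,4], [], 0),
  ([0,1,4,5,4], [], 0),
  ([2,4,5,4], [], 0),
  ([0,2,0,4,5,4], [], 0),
  ([1,2,4,5,4], [], 0),
  ([0,1,2,0,4,5,4], [], 0),
  ([3,4,3,5,4,3], [], 0),
  ([0,3,4,3,5,4,3], [], 0),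
  ([1,3,1,4,3,1,5,4,3,1], [], 0),
  ([0,1,3,1,4,3,1,5,4,3,1], [], 0),
  ([2,3,2,4,3,2,5,4,3,2], [], 0),
  ([0,2,0,3,2,0,4,3,2,0,5,4,3,2,0], [], 0),
  ([1,2,3,1,2,3,4,3,1,2,3,4,5,4,3,1,2,3,4,5], [], 0),
  ([0,1,2,0,3,1,2,0,3,2,4,3,1,2,0,3,2,4,3,1,5,4,3,1,2,0,3,2,4,3,1,5,4,3,2,0], [], 0)]

def certE8_4 : List (List ℕ × List ℕ × ℕ) := [
  ([6], [5,6,7,6,5,3,4,3,2,1,0], 1),
  ([0,6], [5,6,4,5,0,2,3,4,2,3,0,2,1], 2),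
  ([1,6], [5,6,4,5,0,2,3,4,1,3,2,0], 2),
  ([0,1,6], [0,2,3,4,2,3,0,2,1,3], 3),
  ([2,6], [5,6,4,5,3,4,0,2,3], 2),
  ([0,2,0,6], [], 0),
  ([1,2,6], [0,2,3,4,2,3,0,2,1,3,2,0], 3),
  ([0,1,2,0,6], [], 0),
  ([3,6], [5,6,4,5,3,4,0], 2),
  ([0,3,6], [5,6,4,5,0,2,3,4], 3),
  ([1,3,1,6], [], 0),
  ([0,1,3,1,6], [], 0),
  ([2,3,2,6], [], 0),
  ([0,2,0,3,2,0,6], [], 0),
  ([1,2,3,1,2,3,6], [], 0),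
  ([0,1,2,0,3,1,2,0,3,2,6], [], 0)]

def certE8_5 : List (List ℕ × List ℕ × ℕ) := [
  ([4,6], [5,6,4,5,0], 2),
  ([0,4,6], [3,4,2,3,0,2], 3),
  ([1,4,6], [7,6,5,4,3,2,1,3,4,5,6,7,5,6,4,5,0], 3),
  ([0,1,4,6], [0,2], 5),
  ([2,4,6], [], 3),
  ([0,2,0,4,6], [], 0),
  ([1,2,4,6], [], 5),
  ([0,1,2,0,4,6], [], 0),
  ([3,4,3,6], [], 0),
  ([0,3,4,3,6], [], 0),
  ([1,3,1,4,3,1,6], [], 0),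
  ([0,1,3,1,4,3,1,6], [], 0),
  ([2,3,2,4,3,2,6], [], 0),
  ([0,2,0,3,2,0,4,3,2,0,6], [], 0),
  ([1,2,3,1,2,3,4,3,1,2,3,4,6], [], 6),
  ([0,1,2,0,3,1,2,0,3,2,4,3,1,2,0,3,2,4,3,1,6], [], 0)]

def certE8_6 : List (List ℕ × List ℕ × ℕ) := [
  ([5,6,5], [], 0),
  ([0,5,6,5], [], 0),
  ([1,5,6,5], [], 0),
  ([0,1,5,6,5], [], 0),
  ([2,5,6,5], [], 0),
  ([0,2,0,5,6,5], [], 0),
  ([1,2,5,6,5], [], 0),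
  ([0,1,2,0,5,6,5], [], 0),
  ([3,5,6,5], [], 0),
  ([0,3,5,6,5], [], 0),
  ([1,3,1,5,6,5], [], 0),
  ([0,1,3,1,5,6,5], [], 0),
  ([2,3,2,5,6,5], [], 0),
  ([0,2,0,3,2,0,5,6,5], [], 0),
  ([1,2,3,1,2,3,5,6,5], [], 0),
  ([0,1,2,0,3,1,2,0,3,2,5,6,5], [], 0)]

def certE8_7 : List (List ℕ × List ℕ × ℕ) := [
  ([4,5,4,6,5,4], [], 0),
  ([0,4,5,4,6,5,4], [], 0),
  ([1,4,5,4,6,5,4], [], 0),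
  ([0,1,4,5,4,6,5,4], [], 0),
  ([2,4,5,4,6,5,4], [], 0),
  ([0,2,0,4,5,4,6,5,4], [], 0),
  ([1,2,4,5,4,6,5,4], [], 0),
  ([0,1,2,0,4,5,4,6,5,4], [], 0),
  ([3,4,3,5,4,3,6,5,4,3], [], 0),
  ([0,3,4,3,5,4,3,6,5,4,3], [], 0),
  ([1,3,1,4,3,1,5,4,3,1,6,5,4,3,1], [], 0),
  ([0,1,3,1,4,3,1,5,4,3,1,6,5,4,3,1], [], 0),
  ([2,3,2,4,3,2,5,4,3,2,6,5,4,3,2], [], 0),
  ([0,2,0,3,2,0,4,3,2,0,5,4,3,2,0,6,5,4,3,2,0], [], 0),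
  ([1,2,3,1,2,3,4,3,1,2,3,4,5,4,3,1,2,3,4,5,6,5,4,3,1,2,3,4,5,6], [], 7),
  ([0,1,2,0,3,1,2,0,3,2,4,3,1,2,0,3,2,4,3,1,5,4,3,1,2,0,3,2,4,3,1,5,4,3,2,0,6,5,4,3,1,2,0,3,2,4,3,1,5,4,3,2,0,6,5,4,3,1,2,3,4,5,6], [], 8)]

def certE8_8 : List (List ℕ × List ℕ × ℕ) := [
  ([7], [7,6,5,3,4,3,2,1,0], 1),
  ([0,7], [5,6,7,4,5,6,3,4,5,0,2,3,0,2], 2),
  ([1,7], [7,6,0,2,3,4,5,1,3,2,0], 2),
  ([0,1,7], [7,6,0,2,3,4,5,1,3], 3),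
  ([2,7], [5,6,7,4,5,6,3,4,0,2,3], 2),
  ([0,2,0,7], [], 0),
  ([1,2,7], [7,6,0,2,3,4,5,1,3,2,0], 3),
  ([0,1,2,0,7], [], 0),
  ([3,7], [5,6,7,4,5,6,3,4,0], 2),
  ([0,3,7], [5,6,7,4,5,6,0,2,3,4], 3),
  ([1,3,1,7], [], 0),
  ([0,1,3,1,7], [], 0),
  ([2,3,2,7], [], 0),
  ([0,2,0,3,2,0,7], [], 0),
  ([1,2,3,1,2,3,7], [], 0),
  ([0,1,2,0,3,1,2,0,3,2,7], [], 0)]

def certE8_9 : List (List ℕ × List ℕ × ℕ) := [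
  ([4,7], [5,6,7,4,5,6,0], 2),
  ([0,4,7], [7,6,3,4,2,3,0,2], 3),
  ([1,4,7], [5,6,7,4,5,6,5,4,3,2,1,3,4,5,0], 3),
  ([0,1,4,7], [7,6,0,2], 5),
  ([2,4,7], [7,6], 3),
  ([0,2,0,4,7], [], 0),
  ([1,2,4,7], [7,6], 5),
  ([0,1,2,0,4,7], [], 0),
  ([3,4,3,7], [], 0),
  ([0,3,4,3,7], [], 0),
  ([1,3,1,4,3,1,7], [], 0),
  ([0,1,3,1,4,3,1,7], [], 0),
  ([2,3,2,4,3,2,7], [], 0),
  ([0,2,0,3,2,0,4,3,2,0,7], [], 0),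
  ([1,2,3,1,2,3,4,3,1,2,3,4,7], [7,6], 6),
  ([0,1,2,0,3,1,2,0,3,2,4,3,1,2,0,3,2,4,3,1,7], [], 0)]

def certE8_10 : List (List ℕ × List ℕ × ℕ) := [
  ([5,7], [5,6,7,4,5,6,5,4,0], 2),
  ([0,5,7], [7,6,5,4,0,2,3], 3),
  ([1,5,7], [5,6,7,4,5,6,5,4,3,2,1,3,0], 3),
  ([0,1,5,7], [7,6,5,4,0,2], 5),
  ([2,5,7], [7,6,5,4], 3),
  ([0,2,0,5,7], [], 0),
  ([1,2,5,7], [7,6,5,4], 5),
  ([0,1,2,0,5,7], [], 0),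
  ([3,5,7], [7,6,5,4,3,2], 3),
  ([0,3,5,7], [7,6,5,4,0,2,3,1], 5),
  ([1,3,1,5,7], [], 0),
  ([0,1,3,1,5,7], [], 0),
  ([2,3,2,5,7], [], 0),
  ([0,2,0,3,2,0,5,7], [], 0),
  ([1,2,3,1,2,3,5,7], [], 0),
  ([0,1,2,0,3,1,2,0,3,2,5,7], [], 0)]

def certE8_11 : List (List ℕ × List ℕ × ℕ) := [
  ([4,5,4,7], [], 0),
  ([0,4,5,4,7], [], 0),
  ([1,4,5,4,7], [], 0),
  ([0,1,4,5,4,7], [], 0),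
  ([2,4,5,4,7], [], 0),
  ([0,2,0,4,5,4,7], [], 0),
  ([1,2,4,5,4,7], [], 0),
  ([0,1,2,0,4,5,4,7], [], 0),
  ([3,4,3,5,4,3,7], [], 0),
  ([0,3,4,3,5,4,3,7], [], 0),
  ([1,3,1,4,3,1,5,4,3,1,7], [], 0),
  ([0,1,3,1,4,3,1,5,4,3,1,7], [], 0),
  ([2,3,2,4,3,2,5,4,3,2,7], [], 0),
  ([0,2,0,3,2,0,4,3,2,0,5,4,3,2,0,7], [], 0),
  ([1,2,3,1,2,3,4,3,1,2,3,4,5,4,3,1,2,3,4,5,7], [], 0),
  ([0,1,2,0,3,1,2,0,3,2,4,3,1,2,0,3,2,4,3,1,5,4,3,1,2,0,3,2,4,3,1,5,4,3,2,0,7], [], 0)]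

def certE8_12 : List (List ℕ × List ℕ × ℕ) := [
  ([6,7,6], [], 0),
  ([0,6,7,6], [], 0),
  ([1,6,7,6], [], 0),
  ([0,1,6,7,6], [], 0),
  ([2,6,7,6], [], 0),
  ([0,2,0,6,7,6], [], 0),
  ([1,2,6,7,6], [], 0),
  ([0,1,2,0,6,7,6], [], 0),
  ([3,6,7,6], [], 0),
  ([0,3,6,7,6], [], 0),
  ([1,3,1,6,7,6], [], 0),
  ([0,1,3,1,6,7,6], [], 0),
  ([2,3,2,6,7,6], [], 0),
  ([0,2,0,3,2,0,6,7,6], [], 0),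
  ([1,2,3,1,2,3,6,7,6], [], 0),
  ([0,1,2,0,3,1,2,0,3,2,6,7,6], [], 0)]

def certE8_13 : List (List ℕ × List ℕ × ℕ) := [
  ([4,6,7,6], [], 0),
  ([0,4,6,7,6], [], 0),
  ([1,4,6,7,6], [], 0),
  ([0,1,4,6,7,6], [], 0),
  ([2,4,6,7,6], [], 0),
  ([0,2,0,4,6,7,6], [], 0),
  ([1,2,4,6,7,6], [], 0),
  ([0,1,2,0,4,6,7,6], [], 0),
  ([3,4,3,6,7,6], [], 0),
  ([0,3,4,3,6,7,6], [], 0),
  ([1,3,1,4,3,1,6,7,6], [], 0),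
  ([0,1,3,1,4,3,1,6,7,6], [], 0),
  ([2,3,2,4,3,2,6,7,6], [], 0),
  ([0,2,0,3,2,0,4,3,2,0,6,7,6], [], 0),
  ([1,2,3,1,2,3,4,3,1,2,3,4,6,7,6], [], 0),
  ([0,1,2,0,3,1,2,0,3,2,4,3,1,2,0,3,2,4,3,1,6,7,6], [], 0)]

def certE8_14 : List (List ℕ × List ℕ × ℕ) := [
  ([5,6,5,7,6,5], [], 0),
  ([0,5,6,5,7,6,5], [], 0),
  ([1,5,6,5,7,6,5], [], 0),
  ([0,1,5,6,5,7,6,5], [], 0),
  ([2,5,6,5,7,6,5], [], 0),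
  ([0,2,0,5,6,5,7,6,5], [], 0),
  ([1,2,5,6,5,7,6,5], [], 0),
  ([0,1,2,0,5,6,5,7,6,5], [], 0),
  ([3,5,6,5,7,6,5], [], 0),
  ([0,3,5,6,5,7,6,5], [], 0),
  ([1,3,1,5,6,5,7,6,5], [], 0),
  ([0,1,3,1,5,6,5,7,6,5], [], 0),
  ([2,3,2,5,6,5,7,6,5], [], 0),
  ([0,2,0,3,2,0,5,6,5,7,6,5], [], 0),
  ([1,2,3,1,2,3,5,6,5,7,6,5], [], 0),
  ([0,1,2,0,3,1,2,0,3,2,5,6,5,7,6,5], [], 0)]

def certE8_15 : List (List ℕ × List ℕ × ℕ) := [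
  ([4,5,4,6,5,4,7,6,5,4], [], 0),
  ([0,4,5,4,6,5,4,7,6,5,4], [], 0),
  ([1,4,5,4,6,5,4,7,6,5,4], [], 0),
  ([0,1,4,5,4,6,5,4,7,6,5,4], [], 0),
  ([2,4,5,4,6,5,4,7,6,5,4], [], 0),
  ([0,2,0,4,5,4,6,5,4,7,6,5,4], [], 0),
  ([1,2,4,5,4,6,5,4,7,6,5,4], [], 0),
  ([0,1,2,0,4,5,4,6,5,4,7,6,5,4], [], 0),
  ([3,4,3,5,4,3,6,5,4,3,7,6,5,4,3], [], 0),
  ([0,3,4,3,5,4,3,6,5,4,3,7,6,5,4,3], [], 0),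
  ([1,3,1,4,3,1,5,4,3,1,6,5,4,3,1,7,6,5,4,3,1], [], 0),
  ([0,1,3,1,4,3,1,5,4,3,1,6,5,4,3,1,7,6,5,4,3,1], [], 0),
  ([2,3,2,4,3,2,5,4,3,2,6,5,4,3,2,7,6,5,4,3,2], [], 0),
  ([0,2,0,3,2,0,4,3,2,0,5,4,3,2,0,6,5,4,3,2,0,7,6,5,4,3,2,0], [], 0),
  ([1,2,3,1,2,3,4,3,1,2,3,4,5,4,3,1,2,3,4,5,6,5,4,3,1,2,3,4,5,6,7,6,5,4,3,1,2,3,4,5,6,7], [], 0),
  ([0,1,2,0,3,1,2,0,3,2,4,3,1,2,0,3,2,4,3,1,5,4,3,1,2,0,3,2,4,3,1,5,4,3,2,0,6,5,4,3,1,2,0,3,2,4,3,1,5,4,3,2,0,6,5,4,3,1,2,3,4,5,6,7,6,5,4,3,1,2,0,3,2,4,3,1,5,4,3,2,0,6,5,4,3,1,2,3,4,5,6,7,6,5,4,3,1,2,0,3,2,4,3,1,5,4,3,2,0,6,5,4,3,1,2,3,4,5,6,7], [], 9)]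

def certE8 : List (List ℕ × List ℕ × ℕ) := certE8_0 ++ certE8_1 ++ certE8_2 ++ certE8_3 ++ certE8_4 ++ certE8_5 ++ certE8_6 ++ certE8_7 ++ certE8_8 ++ certE8_9 ++ certE8_10 ++ certE8_11 ++ certE8_12 ++ certE8_13 ++ certE8_14 ++ certE8_15

def RE8 : List (List ℕ) := [[239], [232,233], [228,222,218], [226,220,213,216]]

def LE8 : List (List ℕ × ℕ) := [([239], 58), ([232,233], 92), ([228,222,218], 110), ([226,220,213,216], 120)]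

theorem chkF_E8 : chkF tE8 fE8 w0E8 = true := by decide +kernel

theorem chkRel_E8 : chkRel tE8 256 ([] :: RE8) relE8 = true := by decide +kernel

theorem chkAll_E8 : chkAll tE8 fE8 (relE8.map fun p => omw p.1) 0 certE8 = true := by decide +kernel

theorem sq_E8 : ∀ b ∈ ([] :: RE8), chkE tE8 256 (b ++ b) [] = true := by
  have h : (([] :: RE8).all fun b => chkE tE8 256 (b ++ b) []) = true := by decide +kernel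
  intro b hb
  exact List.all_eq_true.1 h b hb

theorem rk_E8 : ∀ p ∈ LE8, chkRk tE8 256 (2 ^ (tE8.n + tE8.l) - 1) p.1 p.2 = true := by
  have h : (LE8.all fun p => chkRk tE8 256 (2 ^ (tE8.n + tE8.l) - 1) p.1 p.2) = true := by decide +kernel
  intro b hb
  exact List.all_eq_true.1 h b hb

theorem cl_E8 {F : Type*} [Field F] [Fintype F] [CharP F 2] (t : ↥(chevE8.group F)) (ht : t * t = 1) :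
    ∃ b ∈ ([] :: RE8), ∃ c, c * t * c⁻¹ = XG good3_E8 F b := by
  obtain ⟨P, h1, h2, h3⟩ := good3_E8.exists_BN (F := F)
  exact classify2 good3_E8 (P := P) ⟨h1, h2, h3⟩ chkF_E8 chkRel_E8 chkAll_E8 sq_E8 ht

end CfsgLib.Inv
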