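import Mathlib
import Cfsg.Agent.LibInvT4
import Cfsg.Agent.LibTwE6

set_option autoImplicit false
set_option linter.all false
set_option maxRecDepth 100000

/-! certificates for the involutions of the twisted group of type E6 in characteristic two -/

namespace CfsgLib.Inv

open Cfsg Matrix CfsgLib.BN CfsgLib.Chev Cfsg.Lie

def fTE6 (r : ℕ) : ℕ := dig 8 256 3803738038536251093285668336036263142276302006951326751290497557642631068211683231123618782249768682053166501618731670228665231918274426922099326454561041380143236728391 r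

def w0TE6 : List ℕ := [0,1,2,0,3,1,2,0,3,2,4,3,1,2,0,3,2,4,3,1,5,4,3,1,2,0,3,2,4,3,1,5,4,3,2,0]

def relTE6 : List (List ℕ × List (List ℕ × List ℕ) × List ℕ) := [
  ([0,2,3,4,5,1,3,4,2,3,0,2,1,3,4,5,1,3,4,2,3,0,2,1,3,4,2,3,0,2,1,3,0,2,1,0], [([0,11,27,32],[71,60,44,39]),([8,69,51,24],[71,60,39]),([38,57,48,50,9,19],[54,64,60]),([42,29,42,37,34,37,39,32,39,46,25,46,42,29,42,37,34,37],[54,64,69])], [54,64,69]),
  ([0,2,3,4,5,1,3,4,2,3,0,2,1,3,4,5,1,3,4,2,3,0,2,1,3,4,3,0,2,1,3,0,2,1,0], [([0,11,27],[71,60,44]),([36,56,48,50,10,22],[55,67,60]),([42,29,42,37,34,37,39,32,39,46,25,46],[54,64,69])], [54,64,69]),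
  ([0,2,3,4,5,1,3,4,2,3,0,2,1,3,4,5,3,4,2,3,0,2,1,3,4,2,3,0,2,1,3,2,1,0], [([0,11,28,31],[71,60,40,43]),([63,25,21,23],[40,43,71]),([39,32,39,46,25,46,42,29,42,37,34,37,56,15,56,36,35,36],[54,64,69])], [54,64,69]),
  ([2,3,4,5,1,3,4,2,3,0,2,1,3,4,5,1,3,4,2,3,0,2,1,3,4,3,0,2,1,3,0,2,1], [([0,12,26],[71,45,59]),([39,32,39,46,25,46],[69,54,64]),([],[54,64,69])], [54,64,69]),
  ([0,2,3,4,5,1,3,4,2,3,0,2,1,3,4,5,4,3,0,2,1,3,4,0,2,1,3,2,1,0], [([0,11],[71,60]),([48,50,21,23],[71,66,68])], [71,66,68]),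
  ([0,2,3,4,5,1,3,4,2,3,0,2,1,3,4,5,0,2,3,4,1,3,2,0], [([3,5],[66,68])], [66,68]),
  ([1,3,4,2,3,0,2,1,3,4,5,4,3,2,1,3,4,0,2,3,1], [([0],[71])], [71]),
  ([], [], [])
]

def certTE6 : List (List ℕ × List ℕ × ℕ) := [
  ([], [], 0),
  ([0], [0,1], 1),
  ([1], [], 1),
  ([0,1,0], [], 0),
  ([2], [], 2),
  ([0,2], [0,1,2,3], 3),
  ([1,2,1,2], [], 4),
  ([0,1,0,2,1,0,2,1,2], [], 5),
  ([3], [3,2], 2),
  ([0,3], [0,1], 3),
  ([1,3], [], 3),
  ([0,1,0,3], [], 0),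
  ([2,3,2], [], 0),
  ([0,2,3,2], [], 0),
  ([1,2,1,2,3,2,1,2,3], [], 6),
  ([0,1,0,2,1,0,2,1,2,3,2,1,0,2,1,2,3,2,1,0,2,1,2,3], [], 7)
]

def RTE6 : List (List ℕ) := [[71], [66,68], [71,66,68], [54,64,69]]

def LTE6 : List (List ℕ × ℕ) := [([71], 22), ([66,68], 32), ([71,66,68], 32), ([54,64,69], 38)]

theorem chkF_TE6 : chkF tE6 fTE6 w0TE6 = true := by decide +kernel

theorem chkRelE_TE6 : chkRelE tE6 128 gdE6.rho ([] :: RTE6) relTE6 = true := by decide +kernel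

theorem chkAllT_TE6 : chkAllT tE6 fTE6 4 TwE6.orb (relTE6.map fun p => p.1) 0 certTE6 = true := by decide +kernel

theorem sq_TE6 : ∀ b ∈ ([] :: RTE6), chkE tE6 128 (b ++ b) [] = true := by
  have h : (([] :: RTE6).all fun b => chkE tE6 128 (b ++ b) []) = true := by decide +kernel
  intro b hb
  exact List.all_eq_true.1 h b hb

theorem mem_TE6 : ∀ b ∈ ([] :: RTE6), chkM tE6 128 gdE6.rho b = true := by
  have h : (([] :: RTE6).all fun b => chkM tE6 128 gdE6.rho b) = true := by decide +kernel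
  intro b hb
  exact List.all_eq_true.1 h b hb

theorem rk_TE6 : ∀ p ∈ LTE6, chkRk tE6 128 (2 ^ (tE6.n + tE6.l) - 1) p.1 p.2 = true := by
  have h : (LTE6.all fun p => chkRk tE6 128 (2 ^ (tE6.n + tE6.l) - 1) p.1 p.2) = true := by decide +kernel
  intro b hb
  exact List.all_eq_true.1 h b hb

theorem cl_TE6 {K : Type*} [Field K] [Fintype K] [CharP K 2] {f : K ≃+* K} {E : Subgroup (GL chevE6.Idx K)} {q δ : ℕ}
    (R : TwR2 (TwE6.S f) 4 TwE6.orb E q δ) (t : ↥E) (ht : t * t = 1) :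
    ∃ b ∈ ([] :: RTE6), ∃ c : ↥E, (c : GL chevE6.Idx K) * t * (c : GL chevE6.Idx K)⁻¹ = XP good3_E6 K b :=
  classifyT R chkF_TE6 chkRelE_TE6 chkAllT_TE6 sq_TE6 mem_TE6 ht

end CfsgLib.Inv
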