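import Mathlib

/-!
Kernel friendly arithmetic of vectors of length 7 over the integers modulo 11, coded as natural
numbers in base 4096 (digits at most 10), normal and reversed order of digits.
-/

set_option autoImplicit false

namespace CfsgLib.Jone

open Matrix

abbrev V7 := Fin 7 → ZMod 11

/-- The coefficient of `4096 ^ 6` in the product, modulo 11. -/
def dotN (m n : ℕ) : ℕ := m * n / 4722366482869645213696 % 4096 % 11

def dec (n : ℕ) : V7 := ![((n % 4096 : ℕ) : ZMod 11), ((n / 4096 % 4096 : ℕ) : ZMod 11),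
  ((n / 16777216 % 4096 : ℕ) : ZMod 11), ((n / 68719476736 % 4096 : ℕ) : ZMod 11),
  ((n / 281474976710656 % 4096 : ℕ) : ZMod 11), ((n / 1152921504606846976 % 4096 : ℕ) : ZMod 11),
  ((n / 4722366482869645213696 % 4096 : ℕ) : ZMod 11)]

def decR (n : ℕ) : V7 := ![((n / 4722366482869645213696 % 4096 : ℕ) : ZMod 11),
  ((n / 1152921504606846976 % 4096 : ℕ) : ZMod 11), ((n / 281474976710656 % 4096 : ℕ) : ZMod 11),
  ((n / 68719476736 % 4096 : ℕ) : ZMod 11), ((n / 16777216 % 4096 : ℕ) : ZMod 11),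
  ((n / 4096 % 4096 : ℕ) : ZMod 11), ((n % 4096 : ℕ) : ZMod 11)]

def enc (a b c d e f g : ℕ) : ℕ :=
  a + 4096 * (b + 4096 * (c + 4096 * (d + 4096 * (e + 4096 * (f + 4096 * g)))))

def ok (n : ℕ) : Bool := Nat.blt n 19342813113834066795298816 && Nat.ble (n % 4096) 10 &&
  Nat.ble (n / 4096 % 4096) 10 && Nat.ble (n / 16777216 % 4096) 10 &&
  Nat.ble (n / 68719476736 % 4096) 10 && Nat.ble (n / 281474976710656 % 4096) 10 &&
  Nat.ble (n / 1152921504606846976 % 4096) 10 && Nat.ble (n / 4722366482869645213696 % 4096) 10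

theorem ok_iff (n : ℕ) : ok n = true ↔ ∃ a b c d e f g : ℕ, n = enc a b c d e f g ∧
    a ≤ 10 ∧ b ≤ 10 ∧ c ≤ 10 ∧ d ≤ 10 ∧ e ≤ 10 ∧ f ≤ 10 ∧ g ≤ 10 := by
  constructor
  · intro h
    simp only [ok, Bool.and_eq_true, Nat.blt_eq, Nat.ble_eq] at h
    refine ⟨n % 4096, n / 4096 % 4096, n / 16777216 % 4096, n / 68719476736 % 4096,
      n / 281474976710656 % 4096, n / 1152921504606846976 % 4096,
      n / 4722366482869645213696 % 4096, ?_, h.1.1.1.1.1.1.2, h.1.1.1.1.1.2, h.1.1.1.1.2,
      h.1.1.1.2, h.1.1.2, h.1.2, h.2⟩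
    have h1 := h.1.1.1.1.1.1.1
    unfold enc
    omega
  · rintro ⟨a, b, c, d, e, f, g, rfl, ha, hb, hc, hd, he, hf, hg⟩
    simp only [ok, Bool.and_eq_true, Nat.blt_eq, Nat.ble_eq, enc]
    omega

theorem dec_enc {a b c d e f g : ℕ} (ha : a ≤ 10) (hb : b ≤ 10) (hc : c ≤ 10) (hd : d ≤ 10)
    (he : e ≤ 10) (hf : f ≤ 10) (hg : g ≤ 10) :
    dec (enc a b c d e f g) = ![(a : ZMod 11), b, c, d, e, f, g] := by
  have h0 : enc a b c d e f g % 4096 = a := by unfold enc; omega
  have h1 : enc a b c d e f g / 4096 % 4096 = b := by unfold enc; omega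
  have h2 : enc a b c d e f g / 16777216 % 4096 = c := by unfold enc; omega
  have h3 : enc a b c d e f g / 68719476736 % 4096 = d := by unfold enc; omega
  have h4 : enc a b c d e f g / 281474976710656 % 4096 = e := by unfold enc; omega
  have h5 : enc a b c d e f g / 1152921504606846976 % 4096 = f := by unfold enc; omega
  have h6 : enc a b c d e f g / 4722366482869645213696 % 4096 = g := by unfold enc; omega
  unfold dec
  rw [h0, h1, h2, h3, h4, h5, h6]

theorem decR_enc {a b c d e f g : ℕ} (ha : a ≤ 10) (hb : b ≤ 10) (hc : c ≤ 10) (hd : d ≤ 10)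
    (he : e ≤ 10) (hf : f ≤ 10) (hg : g ≤ 10) :
    decR (enc a b c d e f g) = ![(g : ZMod 11), f, e, d, c, b, a] := by
  have h0 : enc a b c d e f g % 4096 = a := by unfold enc; omega
  have h1 : enc a b c d e f g / 4096 % 4096 = b := by unfold enc; omega
  have h2 : enc a b c d e f g / 16777216 % 4096 = c := by unfold enc; omega
  have h3 : enc a b c d e f g / 68719476736 % 4096 = d := by unfold enc; omega
  have h4 : enc a b c d e f g / 281474976710656 % 4096 = e := by unfold enc; omega
  have h5 : enc a b c d e f g / 1152921504606846976 % 4096 = f := by unfold enc; omega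
  have h6 : enc a b c d e f g / 4722366482869645213696 % 4096 = g := by unfold enc; omega
  unfold decR
  rw [h0, h1, h2, h3, h4, h5, h6]

theorem dotN_enc {a b c d e f g a' b' c' d' e' f' g' : ℕ} (ha : a ≤ 10) (hb : b ≤ 10)
    (hc : c ≤ 10) (hd : d ≤ 10) (he : e ≤ 10) (hf : f ≤ 10) (hg : g ≤ 10)
    (ha' : a' ≤ 10) (hb' : b' ≤ 10) (hc' : c' ≤ 10) (hd' : d' ≤ 10)
    (he' : e' ≤ 10) (hf' : f' ≤ 10) (hg' : g' ≤ 10) :
    dotN (enc a b c d e f g) (enc a' b' c' d' e' f' g') =
      (g * a' + f * b' + e * c' + d * d' + c * e' + b * f' + a * g') % 11 := by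
  have hm : ∀ {x y : ℕ}, x ≤ 10 → y ≤ 10 → x * y ≤ 100 := fun {x y} h1 h2 => by
    calc x * y ≤ 10 * 10 := Nat.mul_le_mul h1 h2
      _ = 100 := rfl
  have key : enc a b c d e f g * enc a' b' c' d' e' f' g' =
      (a * a') + 4096 * (a * b' + b * a') + 16777216 * (a * c' + b * b' + c * a')
      + 68719476736 * (a * d' + b * c' + c * b' + d * a')
      + 281474976710656 * (a * e' + b * d' + c * c' + d * b' + e * a')
      + 1152921504606846976 * (a * f' + b * e' + c * d' + d * c' + e * b' + f * a')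
      + 4722366482869645213696 *
        (g * a' + f * b' + e * c' + d * d' + c * e' + b * f' + a * g')
      + 4722366482869645213696 * (4096 * ((b * g' + c * f' + d * e' + e * d' + f * c' + g * b')
        + 4096 * (c * g' + d * f' + e * e' + f * d' + g * c')
        + 16777216 * (d * g' + e * f' + f * e' + g * d')
        + 68719476736 * (e * g' + f * f' + g * e')
        + 281474976710656 * (f * g' + g * f')
        + 1152921504606846976 * (g * g'))) := by
    unfold enc
    ring
  have e0 : a * a' ≤ 700 := by have := hm ha ha'; omega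
  have e1 : a * b' + b * a' ≤ 700 := by
    have := hm ha hb'; have := hm hb ha'; omega
  have e2 : a * c' + b * b' + c * a' ≤ 700 := by
    have := hm ha hc'; have := hm hb hb'; have := hm hc ha'; omega
  have e3 : a * d' + b * c' + c * b' + d * a' ≤ 700 := by
    have := hm ha hd'; have := hm hb hc'; have := hm hc hb'; have := hm hd ha'; omega
  have e4 : a * e' + b * d' + c * c' + d * b' + e * a' ≤ 700 := by
    have := hm ha he'; have := hm hb hd'; have := hm hc hc'; have := hm hd hb'
    have := hm he ha'; omega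
  have e5 : a * f' + b * e' + c * d' + d * c' + e * b' + f * a' ≤ 700 := by
    have := hm ha hf'; have := hm hb he'; have := hm hc hd'; have := hm hd hc'
    have := hm he hb'; have := hm hf ha'; omega
  have e6 : g * a' + f * b' + e * c' + d * d' + c * e' + b * f' + a * g' ≤ 700 := by
    have := hm hg ha'; have := hm hf hb'; have := hm he hc'; have := hm hd hd'
    have := hm hc he'; have := hm hb hf'; have := hm ha hg'; omega
  unfold dotN
  rw [key]
  generalize a * a' = c0 at *
  generalize a * b' + b * a' = c1 at *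
  generalize a * c' + b * b' + c * a' = c2 at *
  generalize a * d' + b * c' + c * b' + d * a' = c3 at *
  generalize a * e' + b * d' + c * c' + d * b' + e * a' = c4 at *
  generalize a * f' + b * e' + c * d' + d * c' + e * b' + f * a' = c5 at *
  generalize g * a' + f * b' + e * c' + d * d' + c * e' + b * f' + a * g' = c6 at *
  generalize ((b * g' + c * f' + d * e' + e * d' + f * c' + g * b')
        + 4096 * (c * g' + d * f' + e * e' + f * d' + g * c')
        + 16777216 * (d * g' + e * f' + f * e' + g * d')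
        + 68719476736 * (e * g' + f * f' + g * e')
        + 281474976710656 * (f * g' + g * f')
        + 1152921504606846976 * (g * g')) = c7 at *
  omega

theorem dotN_sound {m n : ℕ} (hm : ok m = true) (hn : ok n = true) :
    ((dotN m n : ℕ) : ZMod 11) = decR m ⬝ᵥ dec n := by
  obtain ⟨a, b, c, d, e, f, g, rfl, ha, hb, hc, hd, he, hf, hg⟩ := (ok_iff m).1 hm
  obtain ⟨a', b', c', d', e', f', g', rfl, ha', hb', hc', hd', he', hf', hg'⟩ := (ok_iff n).1 hn
  rw [dotN_enc ha hb hc hd he hf hg ha' hb' hc' hd' he' hf' hg',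
    dec_enc ha' hb' hc' hd' he' hf' hg', decR_enc ha hb hc hd he hf hg, ZMod.natCast_mod]
  simp [dotProduct, Fin.sum_univ_succ]
  ring

theorem dotN_le (m n : ℕ) : dotN m n ≤ 10 := by
  unfold dotN
  omega

/-- A 7 × 7 matrix, coded by its rows in reversed order of digits. -/
structure Mc where
  r0 : ℕ
  r1 : ℕ
  r2 : ℕ
  r3 : ℕ
  r4 : ℕ
  r5 : ℕ
  r6 : ℕ

def okM (M : Mc) : Bool := ok M.r0 && ok M.r1 && ok M.r2 && ok M.r3 && ok M.r4 && ok M.r5 && ok M.r6

def decM (M : Mc) : Matrix (Fin 7) (Fin 7) (ZMod 11) :=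
  Matrix.of ![decR M.r0, decR M.r1, decR M.r2, decR M.r3, decR M.r4, decR M.r5, decR M.r6]

def mvN (M : Mc) (n : ℕ) : ℕ :=
  enc (dotN M.r0 n) (dotN M.r1 n) (dotN M.r2 n) (dotN M.r3 n) (dotN M.r4 n) (dotN M.r5 n)
    (dotN M.r6 n)

def mvR (M : Mc) (n : ℕ) : ℕ :=
  enc (dotN M.r6 n) (dotN M.r5 n) (dotN M.r4 n) (dotN M.r3 n) (dotN M.r2 n) (dotN M.r1 n)
    (dotN M.r0 n)

theorem ok_enc {a b c d e f g : ℕ} (ha : a ≤ 10) (hb : b ≤ 10) (hc : c ≤ 10) (hd : d ≤ 10)
    (he : e ≤ 10) (hf : f ≤ 10) (hg : g ≤ 10) : ok (enc a b c d e f g) = true :=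
  (ok_iff _).2 ⟨a, b, c, d, e, f, g, rfl, ha, hb, hc, hd, he, hf, hg⟩

theorem ok_mvN (M : Mc) (n : ℕ) : ok (mvN M n) = true :=
  ok_enc (dotN_le _ _) (dotN_le _ _) (dotN_le _ _) (dotN_le _ _) (dotN_le _ _) (dotN_le _ _)
    (dotN_le _ _)

theorem ok_mvR (M : Mc) (n : ℕ) : ok (mvR M n) = true :=
  ok_enc (dotN_le _ _) (dotN_le _ _) (dotN_le _ _) (dotN_le _ _) (dotN_le _ _) (dotN_le _ _)
    (dotN_le _ _)

theorem okM_iff (M : Mc) : okM M = true ↔ ok M.r0 = true ∧ ok M.r1 = true ∧ ok M.r2 = true ∧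
    ok M.r3 = true ∧ ok M.r4 = true ∧ ok M.r5 = true ∧ ok M.r6 = true := by
  simp only [okM, Bool.and_eq_true]
  tauto

theorem dec_mvN {M : Mc} (hM : okM M = true) {n : ℕ} (hn : ok n = true) :
    dec (mvN M n) = decM M *ᵥ dec n := by
  obtain ⟨h0, h1, h2, h3, h4, h5, h6⟩ := (okM_iff M).1 hM
  unfold mvN
  rw [dec_enc (dotN_le _ _) (dotN_le _ _) (dotN_le _ _) (dotN_le _ _) (dotN_le _ _) (dotN_le _ _)
    (dotN_le _ _), dotN_sound h0 hn, dotN_sound h1 hn, dotN_sound h2 hn, dotN_sound h3 hn,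
    dotN_sound h4 hn, dotN_sound h5 hn, dotN_sound h6 hn]
  funext i
  fin_cases i <;> rfl

theorem decR_mvR {M : Mc} (hM : okM M = true) {n : ℕ} (hn : ok n = true) :
    decR (mvR M n) = decM M *ᵥ dec n := by
  obtain ⟨h0, h1, h2, h3, h4, h5, h6⟩ := (okM_iff M).1 hM
  unfold mvR
  rw [decR_enc (dotN_le _ _) (dotN_le _ _) (dotN_le _ _) (dotN_le _ _) (dotN_le _ _) (dotN_le _ _)
    (dotN_le _ _), dotN_sound h0 hn, dotN_sound h1 hn, dotN_sound h2 hn, dotN_sound h3 hn,
    dotN_sound h4 hn, dotN_sound h5 hn, dotN_sound h6 hn]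
  funext i
  fin_cases i <;> rfl

/-- Codes of the standard basis vectors. -/
def e7 : List ℕ := [1, 4096, 16777216, 68719476736, 281474976710656, 1152921504606846976,
  4722366482869645213696]

theorem mat_ext {A B : Matrix (Fin 7) (Fin 7) (ZMod 11)}
    (h : ∀ n ∈ e7, A *ᵥ dec n = B *ᵥ dec n) : A = B := by
  have hb : ∀ i : Fin 7, ∃ n ∈ e7, dec n = Pi.single i 1 := by
    decide +kernel
  ext i j
  obtain ⟨n, hn, he⟩ := hb j
  have h1 := congrFun (h n hn) i
  rw [he, Matrix.mulVec_single_one, Matrix.mulVec_single_one] at h1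
  exact h1

theorem ok_e7 : ∀ n ∈ e7, ok n = true := by decide +kernel

/-- Binary search trees of codes. -/
inductive Tr : Type
  | E : Tr
  | N (l : Tr) (n : ℕ) (r : Tr) : Tr

namespace Tr

def Mem (m : ℕ) : Tr → Prop
  | E => False
  | N l n r => m = n ∨ l.Mem m ∨ r.Mem m

def find (m : ℕ) : Tr → Bool
  | E => false
  | N l n r => Nat.beq m n || (bif Nat.blt m n then l.find m else r.find m)

def all (p : ℕ → Bool) : Tr → Bool
  | E => true
  | N l n r => p n && (l.all p && r.all p)

def flt (p : ℕ → Bool) : Tr → List ℕ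
  | E => []
  | N l n r => bif p n then n :: (l.flt p ++ r.flt p) else l.flt p ++ r.flt p

def size : Tr → ℕ
  | E => 0
  | N l _ r => l.size + r.size + 1

theorem find_mem {m : ℕ} : ∀ {t : Tr}, t.find m = true → t.Mem m
  | E, h => by simp [find] at h
  | N l n r, h => by
    simp only [find, Bool.or_eq_true, Nat.beq_eq] at h
    rcases h with h | h
    · exact Or.inl h
    · cases hb : Nat.blt m n with
      | true =>
        rw [hb] at h
        exact Or.inr (Or.inl (find_mem h))
      | false =>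
        rw [hb] at h
        exact Or.inr (Or.inr (find_mem h))

theorem all_mem {p : ℕ → Bool} {m : ℕ} : ∀ {t : Tr}, t.all p = true → t.Mem m → p m = true
  | E, _, h => h.elim
  | N l n r, h, hm => by
    simp only [all, Bool.and_eq_true] at h
    rcases hm with rfl | hm | hm
    · exact h.1
    · exact all_mem h.2.1 hm
    · exact all_mem h.2.2 hm

theorem mem_flt {p : ℕ → Bool} {m : ℕ} : ∀ {t : Tr}, t.Mem m → p m = true → m ∈ t.flt p
  | E, h, _ => h.elim
  | N l n r, hm, hp => by
    rcases hm with rfl | hm | hm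
    · simp only [flt, hp, cond_true]
      exact List.mem_cons_self
    · have := mem_flt (p := p) hm hp
      cases hb : p n <;> simp [flt, hb, this]
    · have := mem_flt (p := p) hm hp
      cases hb : p n <;> simp [flt, hb, this]

theorem mem_of_flt {p : ℕ → Bool} {m : ℕ} : ∀ {t : Tr}, m ∈ t.flt p → t.Mem m
  | E, h => by simp [flt] at h
  | N l n r, h => by
    cases hb : p n with
    | true =>
      simp only [flt, hb, cond_true, List.mem_cons, List.mem_append] at h
      rcases h with h | h | h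
      · exact Or.inl h
      · exact Or.inr (Or.inl (mem_of_flt h))
      · exact Or.inr (Or.inr (mem_of_flt h))
    | false =>
      simp only [flt, hb, cond_false, List.mem_append] at h
      rcases h with h | h
      · exact Or.inr (Or.inl (mem_of_flt h))
      · exact Or.inr (Or.inr (mem_of_flt h))

theorem flt_length_le (p : ℕ → Bool) : ∀ t : Tr, (t.flt p).length ≤ t.size
  | E => by simp [flt, size]
  | N l n r => by
    have h1 := flt_length_le p l
    have h2 := flt_length_le p r
    cases hb : p n <;> simp [flt, size, hb] <;> omega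

end Tr

end CfsgLib.Jone
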