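import Cfsg.Agent.LibJone9
import Cfsg.Agent.LibH6ZasV

/-!
Involution centralisers in the Janko group.
-/

set_option autoImplicit false
set_option maxRecDepth 100000

namespace CfsgLib.Jone

open Subgroup

def z5 : JJ := gj [3, 0, 0, 3, 0, 3, 0, 0, 3, 3]

theorem order_z5 : orderOf z5 = 5 :=
  orderOf_eq_prime (hp := ⟨by norm_num⟩) (gj_pow_one (by decide +kernel)) (by
    have := gj_ne (w1 := [3, 0, 0, 3, 0, 3, 0, 0, 3, 3]) (w2 := []) 1 ok1 (by decide +kernel)
    exact this)

theorem order_e1z : orderOf (e1 * z5) = 3 := by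
  have h : e1 * z5 = gj ([0, 0, 1, 0, 3, 2] ++ [3, 0, 0, 3, 0, 3, 0, 0, 3, 3]) := (gj_append _ _).symm
  rw [h]
  exact orderOf_eq_prime (hp := ⟨by norm_num⟩) (gj_pow_one (by decide +kernel)) (by
    have := gj_ne (w1 := [0, 0, 1, 0, 3, 2] ++ [3, 0, 0, 3, 0, 3, 0, 0, 3, 3]) (w2 := []) 1 ok1
      (by decide +kernel)
    exact this)

theorem e0z : e0 * z5 = z5 * e0 := gj_comm (by decide +kernel)

abbrev CT : Subgroup JJ := centralizer ({e0} : Set JJ)

theorem e0_ne : e0 ≠ 1 := by
  have := gj_ne (w1 := [0, 1, 0, 3]) (w2 := []) 1 ok1 (by decide +kernel)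
  exact this

theorem z5_ne : z5 ≠ 1 := by
  have := gj_ne (w1 := [3, 0, 0, 3, 0, 3, 0, 0, 3, 3]) (w2 := []) 1 ok1 (by decide +kernel)
  exact this

theorem z5_pow : z5 ^ 5 = 1 := by
  have := pow_orderOf_eq_one z5
  rwa [order_z5] at this

theorem e1z_pow : (e1 * z5) ^ 3 = 1 := by
  have := pow_orderOf_eq_one (e1 * z5)
  rwa [order_e1z] at this

attribute [local irreducible] z5 e0 e1

theorem order_e0 : orderOf e0 = 2 := orderOf_eq_prime e0_sq e0_ne

theorem e1_CT : e1 ∈ CT := by rw [mem_centralizer_singleton_iff]; exact e01.symm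
theorem z5_CT : z5 ∈ CT := by rw [mem_centralizer_singleton_iff]; exact e0z.symm
theorem e0_CT : e0 ∈ CT := by rw [mem_centralizer_singleton_iff]

theorem not_dvd_CT {p : ℕ} [hp : Fact p.Prime] (h2 : p ≠ 2) {g : JJ} (hg : orderOf g = p)
    (hG : ¬ p ^ 2 ∣ Nat.card JJ) (hc : Nat.card (centralizer ({g} : Set JJ)) ≤ p) :
    ¬ p ∣ Nat.card CT := by
  intro hd
  obtain ⟨⟨c, hcC⟩, hco⟩ := exists_prime_orderOf_dvd_card' p hd
  rw [Subgroup.orderOf_mk] at hco
  have h1 := (card_cent_le hG hg hco).trans hc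
  have he : e0 ∈ centralizer ({c} : Set JJ) := by
    rw [mem_centralizer_singleton_iff] at hcC ⊢
    exact hcC.symm
  have hcc : c ∈ centralizer ({c} : Set JJ) := by rw [mem_centralizer_singleton_iff]
  have d1 : 2 ∣ Nat.card (centralizer ({c} : Set JJ)) := by
    have := orderOf_dvd_natCard (⟨e0, he⟩ : centralizer ({c} : Set JJ))
    rwa [Subgroup.orderOf_mk, order_e0] at this
  have d2 : p ∣ Nat.card (centralizer ({c} : Set JJ)) := by
    have := orderOf_dvd_natCard (⟨c, hcc⟩ : centralizer ({c} : Set JJ))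
    rwa [Subgroup.orderOf_mk, hco] at this
  have d3 : 2 * p ∣ Nat.card (centralizer ({c} : Set JJ)) :=
    Nat.Coprime.mul_dvd_of_dvd_of_dvd ((Nat.coprime_primes (by norm_num) hp.out).2 h2.symm) d1 d2
  have := Nat.le_of_dvd Nat.card_pos d3
  have := hp.out.pos
  omega

theorem card_CT : Nat.card CT = 120 := by
  have hd : Nat.card CT ∣ 175560 := card_J1 ▸ Subgroup.card_subgroup_dvd_card CT
  have h7 := not_dvd_CT (p := 7) (by norm_num) order_g7 n7 cent7
  have h11 := not_dvd_CT (p := 11) (by norm_num) order_g11 n11 cent11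
  have h19 := not_dvd_CT (p := 19) (by norm_num) order_g19 n19 cent19
  have hd2 : Nat.card CT ∣ 120 := by
    have e1 : Nat.Coprime (Nat.card CT) 7 := ((Nat.Prime.coprime_iff_not_dvd (by norm_num)).2 h7).symm
    have e2 : Nat.Coprime (Nat.card CT) 11 := ((Nat.Prime.coprime_iff_not_dvd (by norm_num)).2 h11).symm
    have e3 : Nat.Coprime (Nat.card CT) 19 := ((Nat.Prime.coprime_iff_not_dvd (by norm_num)).2 h19).symm
    have e4 : Nat.Coprime (Nat.card CT) (7 * 11 * 19) := (e1.mul_right e2).mul_right e3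
    exact e4.dvd_of_dvd_mul_right (by norm_num; exact hd)
  have hE : EE ≤ CT := by
    intro a ha
    rw [mem_centralizer_singleton_iff]
    exact EE_comm a ha e0 e0_mem
  have d8 : 8 ∣ Nat.card CT := card_EE ▸ Subgroup.card_dvd_of_le hE
  have d5 : 5 ∣ Nat.card CT := by
    have := orderOf_dvd_natCard (⟨z5, z5_CT⟩ : CT)
    rwa [Subgroup.orderOf_mk, order_z5] at this
  have d3 : 3 ∣ Nat.card CT := by
    have := orderOf_dvd_natCard (⟨e1 * z5, mul_mem e1_CT z5_CT⟩ : CT)
    rwa [Subgroup.orderOf_mk, order_e1z] at this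
  have d15 : 8 * 5 * 3 ∣ Nat.card CT :=
    Nat.Coprime.mul_dvd_of_dvd_of_dvd (by norm_num)
      (Nat.Coprime.mul_dvd_of_dvd_of_dvd (by norm_num) d8 d5) d3
  exact Nat.dvd_antisymm hd2 (by norm_num at d15; exact d15)

/-- the central involution of `CT` -/
def tC : CT := ⟨e0, e0_CT⟩

theorem tC_center : tC ∈ center CT := by
  rw [mem_center_iff]
  rintro ⟨g, hg⟩
  exact Subtype.ext (mem_centralizer_singleton_iff.1 hg)

theorem order_tC : orderOf tC = 2 := by
  unfold tC
  rw [Subgroup.orderOf_mk, order_e0]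

theorem tC_not_comm : tC ∉ commutator CT := by
  intro hc
  obtain ⟨P⟩ : Nonempty (Sylow 2 CT) := inferInstance
  have hP : ∀ a ∈ (P : Subgroup CT), a ^ 2 = 1 := by
    intro a ha
    obtain ⟨n, hn⟩ := P.2 ⟨a, ha⟩
    have h1 : (a : JJ) ^ (2 ^ n) = 1 := by
      have := congrArg (fun z : (P : Subgroup CT) => z.1.1) hn
      exact this
    exact Subtype.ext (pow_of_two h1)
  have hPc : ∀ a ∈ (P : Subgroup CT), ∀ b ∈ (P : Subgroup CT), a * b = b * a := by
    intro a ha b hb
    have h1 := hP _ (mul_mem ha hb)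
    have h2 := hP a ha
    have h3 := hP b hb
    rw [pow_two] at h1 h2 h3
    have ia : a⁻¹ = a := inv_eq_iff_mul_eq_one.2 h2
    have ib : b⁻¹ = b := inv_eq_iff_mul_eq_one.2 h3
    have iab : (a * b)⁻¹ = a * b := inv_eq_iff_mul_eq_one.2 h1
    rw [← iab, mul_inv_rev, ia, ib]
  have h1 : tC = 1 := by
    refine CfsgLib.SuzM.eq_one_of_transfer P tC_center hc
      (CfsgLib.Mul.mem_sylow_central P tC_center order_tC) ?_
    intro k hk
    have hbot : ⁅(P : Subgroup CT), (P : Subgroup CT)⁆ = ⊥ := by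
      rw [eq_bot_iff, Subgroup.commutator_le]
      intro x hx y hy
      rw [Subgroup.mem_bot, commutatorElement_def, hPc x hx y hy]
      group
    rw [hbot] at hk
    exact Subgroup.mem_bot.1 hk
  have h2 := order_tC
  rw [h1, orderOf_one] at h2
  norm_num at h2

theorem CT_not_solvable : ¬ Group.IsSolvable CT := by
  intro hs
  let a : CT := ⟨e1, e1_CT⟩
  let z : CT := ⟨z5, z5_CT⟩
  let K : Subgroup CT := Subgroup.closure {a, z}
  have haK : a ∈ K := Subgroup.subset_closure (by simp)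
  have hzK : z ∈ K := Subgroup.subset_closure (by simp)
  let a' : K := ⟨a, haK⟩
  let z' : K := ⟨z, hzK⟩
  have ha2 : a' ^ 2 = 1 := Subtype.ext (Subtype.ext e1_sq)
  have hz5 : z' ^ 5 = 1 := Subtype.ext (Subtype.ext z5_pow)
  have haz : (a' * z') ^ 3 = 1 := Subtype.ext (Subtype.ext e1z_pow)
  haveI : Nontrivial K := ⟨⟨z', 1, fun h => by
    exact z5_ne (congrArg Subtype.val (congrArg Subtype.val h))⟩⟩
  haveI : Group.IsSolvable K := inferInstance
  have hlt := Group.IsSolvable.commutator_lt_top_of_nontrivial K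
  apply hlt.ne
  -- the abelianization is trivial
  let φ := Abelianization.of (G := K)
  have h1 : φ a' ^ 2 = 1 := by rw [← map_pow, ha2, map_one]
  have h2 : φ z' ^ 5 = 1 := by rw [← map_pow, hz5, map_one]
  have h3 : φ a' ^ 3 * φ z' ^ 3 = 1 := by rw [← mul_pow, ← map_mul, ← map_pow, haz, map_one]
  have h4 : φ a' = (φ z' ^ 3)⁻¹ := by
    rw [pow_succ, h1, one_mul] at h3
    exact eq_inv_of_mul_eq_one_left h3
  have h5 : φ z' = 1 := by
    rw [h4, inv_pow, inv_eq_one, ← pow_mul] at h1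
    calc φ z' = φ z' ^ (3 * 2) * (φ z' ^ 5)⁻¹ := by
          rw [eq_mul_inv_iff_mul_eq, ← pow_succ']
      _ = 1 := by rw [h1, h2]; simp
  have h6 : φ a' = 1 := by rw [h4, h5]; simp
  have hker : ∀ k : K, φ k = 1 := by
    have hcl : ∀ g (hg : g ∈ K), φ ⟨g, hg⟩ = 1 := by
      intro g hg
      induction hg using Subgroup.closure_induction with
      | mem g hg' =>
        rcases hg' with h | h
        · subst h; exact h6
        · have h' : g = z := h
          subst h'; exact h5
      | one => exact map_one φ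
      | mul x y hx hy h1 h2 =>
        have : (⟨x * y, mul_mem hx hy⟩ : K) = ⟨x, hx⟩ * ⟨y, hy⟩ := rfl
        rw [this, map_mul, h1, h2, one_mul]
      | inv x hx h1 =>
        have : (⟨x⁻¹, inv_mem hx⟩ : K) = ⟨x, hx⟩⁻¹ := rfl
        rw [this, map_inv, h1, inv_one]
    rintro ⟨g, hg⟩
    exact hcl g hg
  rw [eq_top_iff]
  intro k _
  have := hker k
  rwa [← MonoidHom.mem_ker, Abelianization.ker_of] at this

theorem CT_equiv : Nonempty (CT ≃* Multiplicative (ZMod 2) × ↥(alternatingGroup (Fin 5))) := by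
  let T : Subgroup CT := zpowers tC
  haveI hTn : T.Normal := by
    refine ⟨fun n hn g => ?_⟩
    have hnc : n ∈ center CT := (zpowers_le.2 tC_center) hn
    rw [mem_center_iff.1 hnc g, mul_inv_cancel_right]
    exact hn
  have hT2 : Nat.card T = 2 := by
    change Nat.card (zpowers tC) = 2
    rw [Nat.card_zpowers, order_tC]
  have hQ : Nat.card (CT ⧸ T) = 60 := by
    have h1 := Subgroup.card_eq_card_quotient_mul_card_subgroup T
    rw [card_CT, hT2] at h1
    omega
  have hns : ¬ Group.IsSolvable (CT ⧸ T) := by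
    intro h
    apply CT_not_solvable
    haveI := h
    haveI : Group.IsSolvable T := inferInstance
    exact Group.isSolvable_of_ker_le_range T.subtype (QuotientGroup.mk' T) (by
      rw [QuotientGroup.ker_mk', Subgroup.range_subtype])
  haveI hsimp : IsSimpleGroup (CT ⧸ T) := CfsgLib.H6Zas.simple_of_60 hQ hns
  obtain ⟨e⟩ := CfsgLib.Dk29.simple60 (H := CT ⧸ T) hQ
  let L : Subgroup CT := commutator CT
  have hLT : L ⊓ T = ⊥ := by
    rw [eq_bot_iff]
    rintro g ⟨hgL, hgT⟩
    have hgT' : g ∈ zpowers tC := hgT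
    obtain ⟨k, rfl⟩ := mem_zpowers_iff.1 hgT'
    rw [Subgroup.mem_bot]
    have h2 : tC ^ (2 : ℤ) = 1 := by
      have := pow_orderOf_eq_one tC
      rw [order_tC, ← zpow_natCast] at this
      exact_mod_cast this
    have h3 : k % 2 = 0 ∨ k % 2 = 1 := by omega
    have h4 : tC ^ k = tC ^ (k % 2) := by
      conv_lhs => rw [← Int.emod_add_mul_ediv k 2, zpow_add, zpow_mul, h2, one_zpow, mul_one]
    rcases h3 with h3 | h3
    · rw [h4, h3, zpow_zero]
    · exfalso
      rw [h4, h3, zpow_one] at hgL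
      exact tC_not_comm hgL
  have hLmap : L.map (QuotientGroup.mk' T) = ⊤ := by
    have h1 : L.map (QuotientGroup.mk' T) = commutator (CT ⧸ T) := by
      change (commutator CT).map _ = _
      rw [commutator_def, Subgroup.map_commutator, ← MonoidHom.range_eq_map,
        MonoidHom.range_eq_top.2 (QuotientGroup.mk'_surjective T)]
      rfl
    rw [h1]
    rcases hsimp.eq_bot_or_eq_top_of_normal (commutator (CT ⧸ T)) inferInstance with h | h
    · exfalso
      apply hns
      rw [Group.isSolvable_def]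
      exact ⟨1, by rw [derivedSeries_one]; exact h⟩
    · exact h
  have hL60 : Nat.card L = 60 := by
    apply le_antisymm
    · have hinj : Function.Injective (fun l : L => QuotientGroup.mk' T l.1) := by
        intro l l' h
        have h1 : l.1⁻¹ * l'.1 ∈ T := QuotientGroup.eq.1 h
        have h2 : l.1⁻¹ * l'.1 ∈ L ⊓ T := ⟨L.mul_mem (L.inv_mem l.2) l'.2, h1⟩
        rw [hLT, Subgroup.mem_bot, inv_mul_eq_one] at h2
        exact Subtype.ext h2
      rw [← hQ]
      exact Nat.card_le_card_of_injective _ hinj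
    · have hsurj : Function.Surjective (fun l : L => QuotientGroup.mk' T l.1) := by
        intro q
        have : q ∈ L.map (QuotientGroup.mk' T) := by rw [hLmap]; trivial
        obtain ⟨l, hl, hlq⟩ := this
        exact ⟨⟨l, hl⟩, hlq⟩
      rw [← hQ]
      exact Nat.card_le_card_of_surjective _ hsurj
  have hCL : Nat.card (CT ⧸ L) = 2 := by
    have h1 := Subgroup.card_eq_card_quotient_mul_card_subgroup L
    rw [card_CT, hL60] at h1
    omega
  let ψ : CT →* (CT ⧸ L) × (CT ⧸ T) := (QuotientGroup.mk' L).prod (QuotientGroup.mk' T)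
  have hψ : Function.Injective ψ := by
    rw [← MonoidHom.ker_eq_bot_iff, eq_bot_iff]
    intro g hg
    have h1 : ψ g = 1 := hg
    have h2 : QuotientGroup.mk' L g = 1 := congrArg Prod.fst h1
    have h3 : QuotientGroup.mk' T g = 1 := congrArg Prod.snd h1
    have h4 : g ∈ L ⊓ T := ⟨(QuotientGroup.eq_one_iff g).1 h2, (QuotientGroup.eq_one_iff g).1 h3⟩
    rw [hLT] at h4
    exact h4
  have hbij : Function.Bijective ψ := by
    refine ⟨hψ, ?_⟩
    haveI : Finite ((CT ⧸ L) × (CT ⧸ T)) := inferInstance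
    have hc : Nat.card CT = Nat.card ((CT ⧸ L) × (CT ⧸ T)) := by
      rw [Nat.card_prod, hCL, hQ, card_CT]
    exact ((Nat.bijective_iff_injective_and_card ψ).2 ⟨hψ, hc⟩).2
  haveI : Fact (Nat.Prime 2) := ⟨Nat.prime_two⟩
  have hz2 : Nat.card (Multiplicative (ZMod 2)) = 2 := by
    rw [Nat.card_eq_fintype_card, Fintype.card_multiplicative, ZMod.card]
  let e2' : (CT ⧸ L) ≃* Multiplicative (ZMod 2) := mulEquivOfPrimeCardEq (p := 2) hCL hz2
  exact ⟨(MulEquiv.ofBijective ψ hbij).trans (MulEquiv.prodCongr e2' e)⟩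

end CfsgLib.Jone
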