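import Cfsg.Agent.LibJone11
import Cfsg.Prelude.Def_KGroupFacts

/-!
The outer automorphism group of the Janko group is trivial.
-/

set_option autoImplicit false
set_option maxRecDepth 100000

namespace CfsgLib.Jone

open Subgroup

section s5

abbrev P5 := Equiv.Perm (Fin 5)

theorem rho_lemma : ∀ c1 : P5, c1 ^ 2 = 1 → (c1 * finRotate 5) ^ 3 = 1 →
    ∀ c2 : P5, c2 ^ 2 = 1 → (c2 * finRotate 5) ^ 3 = 1 →
    ∃ i : Fin 5, c2 = finRotate 5 ^ (i : ℕ) * c1 * (finRotate 5 ^ (i : ℕ))⁻¹ := by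
  decide +kernel

theorem five_cycle {z : P5} (h5 : z ^ 5 = 1) (h1 : z ≠ 1) : ∃ τ : P5, τ * z * τ⁻¹ = finRotate 5 := by
  have ho : orderOf z = 5 := orderOf_eq_prime (hp := ⟨by norm_num⟩) h5 h1
  obtain ⟨n, hn⟩ := Equiv.Perm.cycleType_prime_order (σ := z) (by rw [ho]; norm_num)
  have hs : z.cycleType.sum ≤ 5 := by
    rw [Equiv.Perm.sum_cycleType]
    exact (Finset.card_le_univ _).trans (by simp)
  rw [hn, ho, Multiset.sum_replicate, smul_eq_mul] at hs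
  have hn0 : n = 0 := by omega
  subst hn0
  have hc : z.cycleType = (finRotate 5).cycleType := by
    rw [hn, ho]
    have := cycleType_finRotate (n := 3)
    rw [this]
    rfl
  obtain ⟨τ, hτ⟩ := isConj_iff.1 ((Equiv.Perm.isConj_iff_cycleType_eq).2 hc)
  exact ⟨τ, hτ⟩

theorem s5_lemma {z c1 c2 : P5} (h5 : z ^ 5 = 1) (h1 : z ≠ 1) (ha : c1 ^ 2 = 1)
    (hb : (c1 * z) ^ 3 = 1) (hc : c2 ^ 2 = 1) (hd : (c2 * z) ^ 3 = 1) :
    ∃ i : ℕ, c2 = z ^ i * c1 * (z ^ i)⁻¹ := by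
  obtain ⟨τ, hτ⟩ := five_cycle h5 h1
  have hmap : ∀ u v : P5, (τ * u * τ⁻¹) * (τ * v * τ⁻¹) = τ * (u * v) * τ⁻¹ := by
    intro u v; group
  obtain ⟨i, hi⟩ := rho_lemma (τ * c1 * τ⁻¹) (by rw [conj_pow, ha]; group)
    (by rw [← hτ, hmap, conj_pow, hb]; group) (τ * c2 * τ⁻¹) (by rw [conj_pow, hc]; group)
    (by rw [← hτ, hmap, conj_pow, hd]; group)
  refine ⟨i, ?_⟩
  rw [← hτ, conj_pow] at hi
  calc c2 = τ⁻¹ * (τ * c2 * τ⁻¹) * τ := by group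
    _ = τ⁻¹ * (τ * z ^ (i : ℕ) * τ⁻¹ * (τ * c1 * τ⁻¹) * (τ * z ^ (i : ℕ) * τ⁻¹)⁻¹) * τ := by rw [hi]
    _ = z ^ (i : ℕ) * c1 * (z ^ (i : ℕ))⁻¹ := by group

end s5

theorem key0 (z c1 c2 : CT) (h5 : z ^ 5 = 1) (h1 : z ≠ 1) (ha : c1 ^ 2 = 1)
    (hb : (c1 * z) ^ 3 = 1) (hc : c2 ^ 2 = 1) (hd : (c2 * z) ^ 3 = 1) :
    ∃ i : ℕ, c2 = z ^ i * c1 * (z ^ i)⁻¹ := by
  obtain ⟨Φ⟩ := CT_equiv
  let p1 : CT →* Multiplicative (ZMod 2) := (MonoidHom.fst _ _).comp Φ.toMonoidHom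
  let p2 : CT →* P5 := (alternatingGroup (Fin 5)).subtype.comp
    ((MonoidHom.snd _ _).comp Φ.toMonoidHom)
  have hinj : ∀ u v : CT, p1 u = p1 v → p2 u = p2 v → u = v := by
    intro u v h h'
    apply Φ.injective
    exact Prod.ext h (Subtype.ext h')
  have hz2 : ∀ w : Multiplicative (ZMod 2), w ^ 2 = 1 := by decide
  have hp1z : p1 z = 1 := by
    have h2 : p1 z ^ 5 = 1 := by rw [← map_pow, h5, map_one]
    have h3 := hz2 (p1 z)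
    calc p1 z = p1 z ^ 5 * ((p1 z ^ 2) ^ 2)⁻¹ := by
          rw [← pow_mul, eq_mul_inv_iff_mul_eq, ← pow_succ']
      _ = 1 := by rw [h2, h3]; simp
  have hp1c : ∀ c : CT, (c * z) ^ 3 = 1 → p1 c = 1 := by
    intro c hcz
    have h2 : p1 c ^ 3 = 1 := by
      have := congrArg p1 hcz
      rwa [map_pow, map_mul, hp1z, mul_one, map_one] at this
    rw [pow_succ, hz2, one_mul] at h2
    exact h2
  have hp2z : p2 z ≠ 1 := by
    intro h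
    apply h1
    apply hinj
    · rw [hp1z, map_one]
    · rw [h, map_one]
  obtain ⟨i, hi⟩ := s5_lemma (z := p2 z) (c1 := p2 c1) (c2 := p2 c2) (by rw [← map_pow, h5, map_one])
    hp2z (by rw [← map_pow, ha, map_one]) (by rw [← map_mul, ← map_pow, hb, map_one])
    (by rw [← map_pow, hc, map_one]) (by rw [← map_mul, ← map_pow, hd, map_one])
  refine ⟨i, hinj _ _ ?_ ?_⟩
  · rw [hp1c c2 hd, map_mul, map_mul, map_inv, map_pow, hp1z, hp1c c1 hb]; simp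
  · rw [hi, map_mul, map_mul, map_inv, map_pow]

/-- the element of order 10 -/
def s10 : JJ := gj [1, 0, 1, 1, 0, 1, 0, 0]
def a2 : JJ := gj [1, 2, 2, 3, 2, 3, 0]
def hh : JJ := gj [3, 2, 1, 0, 3, 3, 0, 3, 2]

theorem s10_pow : s10 ^ 10 = 1 := gj_pow_one (by decide +kernel)
theorem g11_pow : g11 ^ 11 = 1 := gj_pow_one (by decide +kernel)
theorem a2_sq : a2 ^ 2 = 1 := gj_pow_one (by decide +kernel)
theorem s10_conj : s10 * g11 * s10⁻¹ = g11 ^ 8 := by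
  rw [mul_inv_eq_iff_eq_mul]
  change gj _ * gj _ = (gj _) ^ 8 * gj _
  rw [← gj_wp, ← gj_append, ← gj_append]
  exact gj_eq (by decide +kernel)
theorem hh_conj : hh * s10 ^ 5 * hh⁻¹ = e0 := by
  rw [mul_inv_eq_iff_eq_mul]
  change gj _ * (gj _) ^ 5 = gj _ * gj _
  rw [← gj_wp, ← gj_append, ← gj_append]
  exact gj_eq (by decide +kernel)
theorem a2_comm : a2 * s10 ^ 5 = s10 ^ 5 * a2 := by
  change gj _ * (gj _) ^ 5 = (gj _) ^ 5 * gj _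
  rw [← gj_wp, ← gj_append, ← gj_append]
  exact gj_eq (by decide +kernel)
theorem a2_z : (a2 * s10 ^ 4) ^ 3 = 1 := by
  change (gj _ * (gj _) ^ 4) ^ 3 = 1
  rw [← gj_wp, ← gj_append]
  exact gj_pow_one (by decide +kernel)
theorem s4_ne : s10 ^ 4 ≠ 1 := gj_pow_ne (w := [1, 0, 1, 1, 0, 1, 0, 0]) 1 ok1 (by decide +kernel)
/-- `x` in terms of the other elements -/
theorem x_word : g7 = s10 * s10 * g11 * a2 * g11 * g11 * s10⁻¹ * a2 := by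
  have h1 : s10⁻¹ = s10 ^ 9 := by
    rw [inv_eq_iff_mul_eq_one, ← pow_succ']; exact s10_pow
  rw [h1]
  change gj _ = gj _ * gj _ * gj _ * gj _ * gj _ * gj _ * (gj _) ^ 9 * gj _
  rw [← gj_wp]
  simp only [← gj_append]
  exact gj_eq (by decide +kernel)

theorem ga15 : orderOf (g11 * a2) = 15 := by
  have h : g11 * a2 = gj ([0, 1, 1] ++ [1, 2, 2, 3, 2, 3, 0]) := (gj_append _ _).symm
  rw [h]
  refine orderOf_eq_of_pow_and_pow_div_prime (by norm_num) (gj_pow_one (by decide +kernel)) ?_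
  intro p hp hpd
  have h15 : p ∣ 3 * 5 := hpd
  rcases (Nat.Prime.dvd_mul hp).1 h15 with h | h
  · have := (Nat.prime_dvd_prime_iff_eq hp (by norm_num)).1 h
    subst this
    exact gj_pow_ne (w := [0, 1, 1] ++ [1, 2, 2, 3, 2, 3, 0]) 1 ok1 (by decide +kernel)
  · have := (Nat.prime_dvd_prime_iff_eq hp (by norm_num)).1 h
    subst this
    exact gj_pow_ne (w := [0, 1, 1] ++ [1, 2, 2, 3, 2, 3, 0]) 1 ok1 (by decide +kernel)

/-- the word `z^i a z^-i` -/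
def wi (i : ℕ) : List ℕ := wp [1, 0, 1, 1, 0, 1, 0, 0] (4 * i) ++ [1, 2, 2, 3, 2, 3, 0] ++
  wp [1, 0, 1, 1, 0, 1, 0, 0] (4 * (5 - i))

theorem gj_wi {i : ℕ} (hi : i ≤ 5) : gj (wi i) = (s10 ^ 4) ^ i * a2 * ((s10 ^ 4) ^ i)⁻¹ := by
  have h1 : ((s10 ^ 4) ^ i)⁻¹ = s10 ^ (4 * (5 - i)) := by
    rw [inv_eq_iff_mul_eq_one, ← pow_mul, ← pow_add]
    have : 4 * i + 4 * (5 - i) = 10 * 2 := by omega
    rw [this, pow_mul, s10_pow, one_pow]
  rw [h1, ← pow_mul]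
  unfold wi
  rw [gj_append, gj_append, gj_wp, gj_wp]
  rfl

theorem not15 {i k : ℕ} (hi : i ≤ 5) (h : (e7.all fun n => Nat.beq (ev (wp ([0, 1, 1] ++ wi i) k) n) n) = true) :
    orderOf (g11 * ((s10 ^ 4) ^ i * a2 * ((s10 ^ 4) ^ i)⁻¹)) ∣ k := by
  rw [← gj_wi hi]
  have h2 : g11 * gj (wi i) = gj ([0, 1, 1] ++ wi i) := (gj_append _ _).symm
  rw [h2]
  exact orderOf_dvd_of_pow_eq_one (gj_pow_one h)

theorem kill1 : orderOf (g11 * ((s10 ^ 4) ^ 1 * a2 * ((s10 ^ 4) ^ 1)⁻¹)) ∣ 7 :=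
  not15 (by norm_num) (by decide +kernel)
theorem kill2 : orderOf (g11 * ((s10 ^ 4) ^ 2 * a2 * ((s10 ^ 4) ^ 2)⁻¹)) ∣ 7 :=
  not15 (by norm_num) (by decide +kernel)
theorem kill3 : orderOf (g11 * ((s10 ^ 4) ^ 3 * a2 * ((s10 ^ 4) ^ 3)⁻¹)) ∣ 10 :=
  not15 (by norm_num) (by decide +kernel)
theorem kill4 : orderOf (g11 * ((s10 ^ 4) ^ 4 * a2 * ((s10 ^ 4) ^ 4)⁻¹)) ∣ 19 :=
  not15 (by norm_num) (by decide +kernel)

theorem y_word : g7⁻¹ * g11 = gj [1] ^ 2 := by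
  rw [inv_mul_eq_iff_eq_mul]
  change gj _ = gj _ * gj _ ^ 2
  rw [← gj_wp, ← gj_append]
  exact gj_eq (by decide +kernel)

theorem y_pow : gj [1] ^ 5 = 1 := gj_pow_one (by decide +kernel)

end CfsgLib.Jone
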