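import Cfsg.Agent.LibJone12

/-!
Every automorphism of the Janko group is inner.
-/

set_option autoImplicit false
set_option maxRecDepth 100000

namespace CfsgLib.Jone

open Subgroup

attribute [local irreducible] g11 g7 s10 a2 hh e0 gj

theorem cent11_eq {c : JJ} (hc : c * g11 = g11 * c) : ∃ m : ℤ, c = g11 ^ m := by
  have hce : zpowers g11 = centralizer ({g11} : Set JJ) := by
    apply Subgroup.eq_of_le_of_card_ge
    · rw [zpowers_le, mem_centralizer_singleton_iff]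
    · rw [Nat.card_zpowers, order_g11]; exact cent11
  have : c ∈ zpowers g11 := by
    rw [hce, mem_centralizer_singleton_iff]; exact hc
  obtain ⟨m, hm⟩ := mem_zpowers_iff.1 this
  exact ⟨m, hm.symm⟩

theorem s10_pow_conj (j : ℕ) (m : ℕ) : s10 ^ j * g11 ^ m * (s10 ^ j)⁻¹ = g11 ^ (m * 8 ^ j) := by
  induction j generalizing m with
  | zero => simp
  | succ j ih =>
    calc s10 ^ (j + 1) * g11 ^ m * (s10 ^ (j + 1))⁻¹ =
        s10 ^ j * (s10 * g11 * s10⁻¹) ^ m * (s10 ^ j)⁻¹ := by rw [conj_pow, pow_succ]; group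
      _ = s10 ^ j * g11 ^ (8 * m) * (s10 ^ j)⁻¹ := by rw [s10_conj, ← pow_mul]
      _ = g11 ^ (m * 8 ^ (j + 1)) := by rw [ih, pow_succ]; congr 1; ring

theorem g11_zpow_mod (m : ℤ) : ∃ k : ℕ, k < 11 ∧ g11 ^ m = g11 ^ k := by
  refine ⟨(m % 11).toNat, by omega, ?_⟩
  have h3 : g11 ^ (11 : ℤ) = 1 := by
    have := g11_pow
    rw [← zpow_natCast] at this
    exact_mod_cast this
  have h4 : g11 ^ m = g11 ^ (m % 11) := by
    conv_lhs => rw [← Int.emod_add_mul_ediv m 11, zpow_add, zpow_mul, h3, one_zpow, mul_one]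
  rw [h4, ← zpow_natCast, Int.toNat_of_nonneg (by omega)]

theorem g11_pow_mod {a b : ℕ} (h : a % 11 = b % 11) : g11 ^ a = g11 ^ b := by
  rw [← Nat.mod_add_div a 11, ← Nat.mod_add_div b 11, pow_add, pow_add, pow_mul, pow_mul, g11_pow,
    one_pow, one_pow, h]

/-- an automorphism fixing `g11` and `s10` is trivial -/
theorem auto_trivial (φ : JJ ≃* JJ) (hg : φ g11 = g11) (hs : φ s10 = s10) : ∀ x, φ x = x := by
  have hcomm : ∀ c : JJ, c * s10 ^ 5 = s10 ^ 5 * c → (hh * c * hh⁻¹) ∈ CT := by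
    intro c hc
    rw [mem_centralizer_singleton_iff, ← hh_conj]
    calc hh * c * hh⁻¹ * (hh * s10 ^ 5 * hh⁻¹) = hh * (c * s10 ^ 5) * hh⁻¹ := by group
      _ = hh * (s10 ^ 5 * c) * hh⁻¹ := by rw [hc]
      _ = hh * s10 ^ 5 * hh⁻¹ * (hh * c * hh⁻¹) := by group
  have ha : φ a2 = a2 := by
    have hfa : φ a2 * s10 ^ 5 = s10 ^ 5 * φ a2 := by
      have := congrArg φ a2_comm
      rwa [map_mul, map_mul, map_pow, hs] at this
    have hz : s10 ^ 4 * s10 ^ 5 = s10 ^ 5 * s10 ^ 4 := by rw [← pow_add, ← pow_add]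
    obtain ⟨i, hi⟩ := key0 ⟨_, hcomm _ hz⟩ ⟨_, hcomm _ a2_comm⟩ ⟨_, hcomm _ hfa⟩
      (Subtype.ext (by
        change (hh * s10 ^ 4 * hh⁻¹) ^ 5 = 1
        rw [conj_pow, ← pow_mul, show 4 * 5 = 10 * 2 by norm_num, pow_mul, s10_pow]; group))
      (fun h => s4_ne (by
        have h1 : hh * s10 ^ 4 * hh⁻¹ = 1 := congrArg Subtype.val h
        calc s10 ^ 4 = hh⁻¹ * (hh * s10 ^ 4 * hh⁻¹) * hh := by group
          _ = 1 := by rw [h1]; group))
      (Subtype.ext (by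
        change (hh * a2 * hh⁻¹) ^ 2 = 1
        rw [conj_pow, a2_sq]; group))
      (Subtype.ext (by
        change ((hh * a2 * hh⁻¹) * (hh * s10 ^ 4 * hh⁻¹)) ^ 3 = 1
        have : (hh * a2 * hh⁻¹) * (hh * s10 ^ 4 * hh⁻¹) = hh * (a2 * s10 ^ 4) * hh⁻¹ := by group
        rw [this, conj_pow, a2_z]; group))
      (Subtype.ext (by
        change (hh * φ a2 * hh⁻¹) ^ 2 = 1
        rw [conj_pow, ← map_pow, a2_sq, map_one]; group))
      (Subtype.ext (by
        change ((hh * φ a2 * hh⁻¹) * (hh * s10 ^ 4 * hh⁻¹)) ^ 3 = 1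
        have : (hh * φ a2 * hh⁻¹) * (hh * s10 ^ 4 * hh⁻¹) = hh * (φ (a2 * s10 ^ 4)) * hh⁻¹ := by
          rw [map_mul, map_pow, hs]; group
        rw [this, conj_pow, ← map_pow, a2_z, map_one]; group))
    have hi' : hh * φ a2 * hh⁻¹ = (hh * s10 ^ 4 * hh⁻¹) ^ i * (hh * a2 * hh⁻¹) *
        ((hh * s10 ^ 4 * hh⁻¹) ^ i)⁻¹ := congrArg Subtype.val hi
    have h2 : φ a2 = (s10 ^ 4) ^ i * a2 * ((s10 ^ 4) ^ i)⁻¹ := by
      rw [conj_pow] at hi'
      calc φ a2 = hh⁻¹ * (hh * φ a2 * hh⁻¹) * hh := by group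
        _ = hh⁻¹ * (hh * (s10 ^ 4) ^ i * hh⁻¹ * (hh * a2 * hh⁻¹) *
          (hh * (s10 ^ 4) ^ i * hh⁻¹)⁻¹) * hh := by rw [hi']
        _ = (s10 ^ 4) ^ i * a2 * ((s10 ^ 4) ^ i)⁻¹ := by group
    -- reduce i modulo 5
    have h5 : (s10 ^ 4) ^ 5 = 1 := by
      rw [← pow_mul, show 4 * 5 = 10 * 2 by norm_num, pow_mul, s10_pow, one_pow]
    have h3 : (s10 ^ 4) ^ i = (s10 ^ 4) ^ (i % 5) := by
      conv_lhs => rw [← Nat.mod_add_div i 5, pow_add, pow_mul, h5, one_pow, mul_one]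
    rw [h3] at h2
    have hord : orderOf (g11 * φ a2) = 15 := by
      have : g11 * φ a2 = φ (g11 * a2) := by rw [map_mul, hg]
      rw [this, MulEquiv.orderOf_eq, ga15]
    have hlt : i % 5 < 5 := Nat.mod_lt _ (by norm_num)
    have hcases : i % 5 = 0 ∨ i % 5 = 1 ∨ i % 5 = 2 ∨ i % 5 = 3 ∨ i % 5 = 4 := by omega
    rw [h2] at hord
    rcases hcases with h | h | h | h | h
    · rw [h] at h2
      rw [h2]; simp
    · exfalso
      rw [h] at hord
      have := kill1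
      rw [hord] at this
      norm_num at this
    · exfalso
      rw [h] at hord
      have := kill2
      rw [hord] at this
      norm_num at this
    · exfalso
      rw [h] at hord
      have := kill3
      rw [hord] at this
      norm_num at this
    · exfalso
      rw [h] at hord
      have := kill4
      rw [hord] at this
      norm_num at this
  have hx : φ g7 = g7 := by
    rw [x_word]
    simp only [map_mul, map_inv, hg, hs, ha]
  have hy2 : φ (gj [1]) ^ 2 = gj [1] ^ 2 := by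
    rw [← map_pow, ← y_word, map_mul, map_inv, hg, hx]
  have hy : φ (gj [1]) = gj [1] := by
    have h5 : φ (gj [1]) ^ 5 = 1 := by rw [← map_pow, y_pow, map_one]
    calc φ (gj [1]) = (φ (gj [1]) ^ 2) ^ 3 * (φ (gj [1]) ^ 5)⁻¹ := by
          rw [← pow_mul, eq_mul_inv_iff_mul_eq, ← pow_succ']
      _ = (gj [1] ^ 2) ^ 3 * (gj [1] ^ 5)⁻¹ := by rw [hy2, h5, y_pow]
      _ = gj [1] := by
          rw [← pow_mul, mul_inv_eq_iff_eq_mul, ← pow_succ']
  have hgen : ∀ g (hg : g ∈ Cfsg.Spor.J1), φ ⟨g, hg⟩ = ⟨g, hg⟩ := by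
    intro g hg
    induction hg using Subgroup.closure_induction with
    | mem g hg' =>
      rcases hg' with h | h
      · subst h
        have e : (⟨Cfsg.Spor.jankoX, gl_mem 0⟩ : JJ) = g7 := by
          rw [← gj0]; unfold g7; rfl
        exact (congrArg φ e).trans (hx.trans e.symm)
      · have h' : g = Cfsg.Spor.jankoY := h
        subst h'
        have e : (⟨Cfsg.Spor.jankoY, gl_mem 1⟩ : JJ) = gj [1] := gj1.symm
        exact (congrArg φ e).trans (hy.trans e.symm)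
    | one => exact map_one φ
    | mul x y hx hy h1 h2 =>
      have : (⟨x * y, mul_mem hx hy⟩ : JJ) = ⟨x, hx⟩ * ⟨y, hy⟩ := rfl
      rw [this, map_mul, h1, h2]
    | inv x hx h1 =>
      have : (⟨x⁻¹, inv_mem hx⟩ : JJ) = ⟨x, hx⟩⁻¹ := rfl
      rw [this, map_inv, h1]
  rintro ⟨g, hg⟩
  exact hgen g hg

theorem auto_inner (φ : MulAut JJ) : ∃ u : JJ, φ = MulAut.conj u := by
  -- step 1
  have ho : orderOf (φ g11) = 11 := by rw [MulEquiv.orderOf_eq, order_g11]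
  obtain ⟨t, ht⟩ := exists_conj_pow n11 order_g11 ho
  obtain ⟨m, hm⟩ := mem_zpowers_iff.1 ht
  obtain ⟨k, hk, hmk⟩ := g11_zpow_mod m
  rw [hmk] at hm
  have hk0 : k ≠ 0 := by
    rintro rfl
    rw [pow_zero] at hm
    have h1 : φ g11 = 1 := by
      calc φ g11 = t⁻¹ * (t * φ g11 * t⁻¹) * t := by group
        _ = 1 := by rw [← hm]; group
    rw [h1, orderOf_one] at ho
    norm_num at ho
  have hj : ∀ k < 11, k ≠ 0 → ∃ j < 10, k * 8 ^ j % 11 = 1 % 11 := by decide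
  obtain ⟨j, -, hj⟩ := hj k hk hk0
  -- step 2
  obtain ⟨ψ, hψ⟩ : ∃ ψ : JJ ≃* JJ, ∀ x, ψ x = (s10 ^ j * t) * φ x * (s10 ^ j * t)⁻¹ :=
    ⟨φ.trans (MulAut.conj (s10 ^ j * t)), fun x => rfl⟩
  have hψg : ψ g11 = g11 := by
    rw [hψ]
    calc s10 ^ j * t * φ g11 * (s10 ^ j * t)⁻¹ = s10 ^ j * (t * φ g11 * t⁻¹) * (s10 ^ j)⁻¹ := by
          group
      _ = g11 ^ (k * 8 ^ j) := by rw [← hm, s10_pow_conj]
      _ = g11 ^ 1 := g11_pow_mod hj
      _ = g11 := pow_one _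
  have hψs : (s10⁻¹ * ψ s10) * g11 = g11 * (s10⁻¹ * ψ s10) := by
    have h1 : ψ s10 * g11 * (ψ s10)⁻¹ = s10 * g11 * s10⁻¹ := by
      have := congrArg ψ s10_conj
      rwa [map_mul, map_mul, map_inv, map_pow, hψg, ← s10_conj] at this
    calc s10⁻¹ * ψ s10 * g11 = s10⁻¹ * (ψ s10 * g11 * (ψ s10)⁻¹) * ψ s10 := by group
      _ = s10⁻¹ * (s10 * g11 * s10⁻¹) * ψ s10 := by rw [h1]
      _ = g11 * (s10⁻¹ * ψ s10) := by group
  obtain ⟨m', hm'⟩ := cent11_eq hψs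
  obtain ⟨l, hl, hml⟩ := g11_zpow_mod m'
  rw [hml] at hm'
  have hψs' : ψ s10 = s10 * g11 ^ l := by rw [← hm']; group
  -- step 3 : conjugate by a power of g11
  have hinv7 : s10⁻¹ * g11 * s10 = g11 ^ 7 := by
    have h1 : s10 * g11 ^ 7 * s10⁻¹ = g11 := by
      rw [← conj_pow, s10_conj, ← pow_mul]
      calc g11 ^ (8 * 7) = g11 ^ 1 := g11_pow_mod (by norm_num)
        _ = g11 := pow_one _
    calc s10⁻¹ * g11 * s10 = s10⁻¹ * (s10 * g11 ^ 7 * s10⁻¹) * s10 := by rw [h1]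
      _ = g11 ^ 7 := by group
  obtain ⟨θ, hθ⟩ : ∃ θ : JJ ≃* JJ, ∀ x, θ x = (g11 ^ (9 * l)) * ψ x * (g11 ^ (9 * l))⁻¹ :=
    ⟨ψ.trans (MulAut.conj (g11 ^ (9 * l))), fun x => rfl⟩
  have hθg : θ g11 = g11 := by
    rw [hθ, hψg]
    rw [mul_inv_eq_iff_eq_mul, ← pow_succ, ← pow_succ']
  have hθs : θ s10 = s10 := by
    rw [hθ, hψs']
    have h1 : s10⁻¹ * g11 ^ (9 * l) * s10 = g11 ^ (7 * (9 * l)) := by
      have h2 : s10⁻¹ * g11 ^ (9 * l) * s10 = (s10⁻¹ * g11 * s10) ^ (9 * l) := by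
        have := conj_pow (a := s10⁻¹) (b := g11) (i := 9 * l)
        rw [inv_inv] at this
        exact this.symm
      rw [h2, hinv7, ← pow_mul]
    calc g11 ^ (9 * l) * (s10 * g11 ^ l) * (g11 ^ (9 * l))⁻¹
        = s10 * (s10⁻¹ * g11 ^ (9 * l) * s10) * g11 ^ l * (g11 ^ (9 * l))⁻¹ := by group
      _ = s10 * (g11 ^ (7 * (9 * l)) * g11 ^ l) * (g11 ^ (9 * l))⁻¹ := by rw [h1]; group
      _ = s10 * g11 ^ (9 * l) * (g11 ^ (9 * l))⁻¹ := by
          rw [← pow_add]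
          congr 2
          apply g11_pow_mod
          omega
      _ = s10 := by group
  have htriv := auto_trivial θ hθg hθs
  refine ⟨(g11 ^ (9 * l) * (s10 ^ j * t))⁻¹, ?_⟩
  ext x : 1
  have h1 := htriv x
  rw [hθ, hψ] at h1
  rw [MulAut.conj_apply, inv_inv]
  have h2 : (g11 ^ (9 * l) * (s10 ^ j * t)) * φ x * (g11 ^ (9 * l) * (s10 ^ j * t))⁻¹ = x := by
    rw [_root_.mul_inv_rev]
    simpa only [mul_assoc] using h1
  calc φ x = (g11 ^ (9 * l) * (s10 ^ j * t))⁻¹ * ((g11 ^ (9 * l) * (s10 ^ j * t)) * φ x *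
        (g11 ^ (9 * l) * (s10 ^ j * t))⁻¹) * (g11 ^ (9 * l) * (s10 ^ j * t)) := by group
    _ = _ := by rw [h2]

theorem out_card : Nat.card (Cfsg.Out JJ) = 1 := by
  have htop : Cfsg.Inn JJ = ⊤ := by
    rw [eq_top_iff]
    intro φ _
    obtain ⟨u, hu⟩ := auto_inner φ
    exact ⟨u, hu.symm⟩
  change Nat.card (MulAut JJ ⧸ Cfsg.Inn JJ) = 1
  have : (Cfsg.Inn JJ).index = 1 := by rw [htop, Subgroup.index_top]
  exact this

end CfsgLib.Jone
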