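import Cfsg.Agent.LibJone2
import Cfsg.Prelude.Def_Spor_J1

/-!
The Janko group acts on the set of 3080 vectors.
-/

set_option autoImplicit false
set_option maxRecDepth 100000

namespace CfsgLib.Jone

open Matrix Tr
open scoped MatrixGroups

abbrev GG := GL (Fin 7) (ZMod 11)

def Mx : Mc := ⟨1152921504606846976, 281474976710656, 68719476736, 16777216, 4096, 1,
  4722366482869645213696⟩

def My : Mc := ⟨37781240521403471536136, 42502451549012565700611, 47235196296229663309826,
  47232891016032964059146, 37790463330352833273866, 4725826092426887958531,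
  14170560746466282844161⟩

def Mx' : Mc := ⟨1, 4722366482869645213696, 1152921504606846976, 281474976710656, 68719476736,
  16777216, 4096⟩

def My' : Mc := ⟨37789310971935719428099, 9445888702543587979267, 47224820002688201666569,
  47227126408509929852929, 37780087036811371614209, 47227125845147693092867,
  37782391191108298223617⟩

theorem okMx : okM Mx = true := by decide +kernel
theorem okMy : okM My = true := by decide +kernel
theorem okMx' : okM Mx' = true := by decide +kernel
theorem okMy' : okM My' = true := by decide +kernel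

theorem decMx : decM Mx = Cfsg.jankoMatrixX := by decide +kernel
theorem decMy : decM My = Cfsg.jankoMatrixY := by decide +kernel
theorem decMx' : decM Mx' = Cfsg.jankoMatrixX.transpose := by decide +kernel
theorem decMy' : decM My' = Cfsg.jankoMatrixY.transpose := by decide +kernel

/-- The set of vectors. -/
def Om (v : V7) : Prop := ∃ n, TT.Mem n ∧ (v = dec n ∨ v = -dec n)

theorem okTT : TT.all ok = true := by decide +kernel

theorem ok_of_mem {n : ℕ} (h : TT.Mem n) : ok n = true := all_mem okTT h

/-- negated matrix code -/
def negN (n : ℕ) : ℕ := enc ((11 - n % 4096) % 11) ((11 - n / 4096 % 4096) % 11)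
  ((11 - n / 16777216 % 4096) % 11) ((11 - n / 68719476736 % 4096) % 11)
  ((11 - n / 281474976710656 % 4096) % 11) ((11 - n / 1152921504606846976 % 4096) % 11)
  ((11 - n / 4722366482869645213696 % 4096) % 11)

theorem dec_negN {n : ℕ} (hn : ok n = true) : dec (negN n) = -dec n := by
  obtain ⟨a, b, c, d, e, f, g, rfl, ha, hb, hc, hd, he, hf, hg⟩ := (ok_iff n).1 hn
  have h0 : enc a b c d e f g % 4096 = a := by unfold enc; omega
  have h1 : enc a b c d e f g / 4096 % 4096 = b := by unfold enc; omega
  have h2 : enc a b c d e f g / 16777216 % 4096 = c := by unfold enc; omega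
  have h3 : enc a b c d e f g / 68719476736 % 4096 = d := by unfold enc; omega
  have h4 : enc a b c d e f g / 281474976710656 % 4096 = e := by unfold enc; omega
  have h5 : enc a b c d e f g / 1152921504606846976 % 4096 = f := by unfold enc; omega
  have h6 : enc a b c d e f g / 4722366482869645213696 % 4096 = g := by unfold enc; omega
  have hcast : ∀ x : ℕ, x ≤ 10 → (((11 - x) % 11 : ℕ) : ZMod 11) = -(x : ZMod 11) := by
    intro x hx
    rw [ZMod.natCast_mod, Nat.cast_sub (by omega)]
    have : ((11 : ℕ) : ZMod 11) = 0 := ZMod.natCast_self 11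
    rw [this, zero_sub]
  unfold negN
  rw [h0, h1, h2, h3, h4, h5, h6, dec_enc (by omega) (by omega) (by omega) (by omega) (by omega)
    (by omega) (by omega), dec_enc ha hb hc hd he hf hg, hcast a ha, hcast b hb, hcast c hc,
    hcast d hd, hcast e he, hcast f hf, hcast g hg]
  funext i
  fin_cases i <;> rfl

def stp (M : Mc) (n : ℕ) : Bool := let m := mvN M n; TT.find m || TT.find (negN m)

theorem stX : TT.all (stp Mx) = true := by decide +kernel
theorem stY : TT.all (stp My) = true := by decide +kernel

theorem Om_neg {v : V7} (h : Om v) : Om (-v) := by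
  obtain ⟨n, hn, h | h⟩ := h
  · exact ⟨n, hn, Or.inr (by rw [h])⟩
  · exact ⟨n, hn, Or.inl (by rw [h, neg_neg])⟩

theorem Om_step {M : Mc} (hM : okM M = true) (hs : TT.all (stp M) = true) {v : V7} (h : Om v) :
    Om (decM M *ᵥ v) := by
  have key : ∀ n, TT.Mem n → Om (decM M *ᵥ dec n) := by
    intro n hn
    have h1 : stp M n = true := all_mem hs hn
    rw [← dec_mvN hM (ok_of_mem hn)]
    simp only [stp, Bool.or_eq_true] at h1
    rcases h1 with h1 | h1
    · exact ⟨_, find_mem h1, Or.inl rfl⟩
    · refine ⟨_, find_mem h1, Or.inr ?_⟩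
      rw [dec_negN (ok_mvN _ _), neg_neg]
  obtain ⟨n, hn, rfl | rfl⟩ := h
  · exact key n hn
  · rw [Matrix.mulVec_neg]
    exact Om_neg (key n hn)

end CfsgLib.Jone
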