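import Cfsg.Agent.LibJone3

/-!
Words in the two generators; the group of isometries preserving the 3080 vectors.
-/

set_option autoImplicit false
set_option maxRecDepth 100000

namespace CfsgLib.Jone

open Matrix Tr
open scoped MatrixGroups

theorem stX' : TT.all (stp Mx') = true := by decide +kernel
theorem stY' : TT.all (stp My') = true := by decide +kernel

def Lt : ℕ → Mc
  | 0 => Mx
  | 1 => My
  | 2 => Mx'
  | _ => My'

def gl : ℕ → GG
  | 0 => Cfsg.Spor.jankoX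
  | 1 => Cfsg.Spor.jankoY
  | 2 => Cfsg.Spor.jankoX⁻¹
  | _ => Cfsg.Spor.jankoY⁻¹

theorem okLt : ∀ a, okM (Lt a) = true
  | 0 => okMx
  | 1 => okMy
  | 2 => okMx'
  | _ + 3 => okMy'

theorem gl_val : ∀ a, (gl a).1 = decM (Lt a)
  | 0 => decMx.symm
  | 1 => decMy.symm
  | 2 => decMx'.symm
  | _ + 3 => decMy'.symm

theorem gl_mem : ∀ a, gl a ∈ Cfsg.Spor.J1
  | 0 => Subgroup.subset_closure (by simp [gl])
  | 1 => Subgroup.subset_closure (by simp [gl])
  | 2 => inv_mem (Subgroup.subset_closure (by simp))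
  | _ + 3 => inv_mem (Subgroup.subset_closure (by simp))

def ev : List ℕ → ℕ → ℕ
  | [], n => n
  | a :: w, n => mvN (Lt a) (ev w n)

def gw : List ℕ → GG
  | [] => 1
  | a :: w => gl a * gw w

theorem gw_append : ∀ w1 w2, gw (w1 ++ w2) = gw w1 * gw w2
  | [], w2 => by simp [gw]
  | a :: w1, w2 => by
    rw [List.cons_append, gw, gw_append w1 w2, gw, mul_assoc]

theorem gw_mem : ∀ w, gw w ∈ Cfsg.Spor.J1
  | [] => one_mem _
  | a :: w => mul_mem (gl_mem a) (gw_mem w)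

theorem ok_ev : ∀ (w : List ℕ) {n : ℕ}, ok n = true → ok (ev w n) = true
  | [], _, h => h
  | a :: w, n, _ => ok_mvN _ _

theorem dec_ev : ∀ (w : List ℕ) {n : ℕ}, ok n = true → dec (ev w n) = (gw w).1 *ᵥ dec n
  | [], n, _ => by
    change dec n = (1 : Matrix (Fin 7) (Fin 7) (ZMod 11)) *ᵥ dec n
    rw [Matrix.one_mulVec]
  | a :: w, n, h => by
    change dec (mvN (Lt a) (ev w n)) = ((gl a).1 * (gw w).1) *ᵥ dec n
    rw [dec_mvN (okLt a) (ok_ev w h), dec_ev w h, gl_val, Matrix.mulVec_mulVec]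

theorem gw_eq {w1 w2 : List ℕ} (h : (e7.all fun n => Nat.beq (ev w1 n) (ev w2 n)) = true) :
    gw w1 = gw w2 := by
  apply Units.ext
  apply mat_ext
  intro n hn
  have h1 := List.all_eq_true.1 h n hn
  rw [Nat.beq_eq] at h1
  rw [← dec_ev w1 (ok_e7 n hn), ← dec_ev w2 (ok_e7 n hn), h1]

/-- power of a word -/
def wp (w : List ℕ) : ℕ → List ℕ
  | 0 => []
  | k + 1 => w ++ wp w k

theorem gw_wp (w : List ℕ) : ∀ k, gw (wp w k) = gw w ^ k
  | 0 => by simp [wp, gw]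
  | k + 1 => by rw [wp, gw_append, gw_wp w k, pow_succ']

theorem gw_val_eq {w : List ℕ} {M : Mc} (hM : okM M = true)
    (h : (e7.all fun n => Nat.beq (ev w n) (mvN M n)) = true) : (gw w).1 = decM M := by
  apply mat_ext
  intro n hn
  have h1 := List.all_eq_true.1 h n hn
  rw [Nat.beq_eq] at h1
  rw [← dec_ev w (ok_e7 n hn), ← dec_mvN hM (ok_e7 n hn), h1]

/-- The isometries preserving the set of vectors. -/
def KK : Subgroup GG where
  carrier := {g | (g.1)ᵀ * g.1 = 1 ∧ (∀ v, Om v → Om (g.1 *ᵥ v)) ∧ ∀ v, Om v → Om ((g⁻¹).1 *ᵥ v)}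
  one_mem' := by
    refine ⟨?_, ?_, ?_⟩
    · simp
    · intro v hv; simpa using hv
    · intro v hv; simpa using hv
  mul_mem' := by
    rintro a b ⟨ha1, ha2, ha3⟩ ⟨hb1, hb2, hb3⟩
    refine ⟨?_, ?_, ?_⟩
    · change (a.1 * b.1)ᵀ * (a.1 * b.1) = 1
      rw [Matrix.transpose_mul]
      calc b.1ᵀ * a.1ᵀ * (a.1 * b.1) = b.1ᵀ * (a.1ᵀ * a.1) * b.1 := by simp only [Matrix.mul_assoc]
        _ = 1 := by rw [ha1, Matrix.mul_one, hb1]
    · intro v hv
      change Om ((a.1 * b.1) *ᵥ v)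
      rw [← Matrix.mulVec_mulVec]
      exact ha2 _ (hb2 _ hv)
    · intro v hv
      have : (a * b)⁻¹ = b⁻¹ * a⁻¹ := _root_.mul_inv_rev a b
      rw [this]
      change Om (((b⁻¹).1 * (a⁻¹).1) *ᵥ v)
      rw [← Matrix.mulVec_mulVec]
      exact hb3 _ (ha3 _ hv)
  inv_mem' := by
    rintro a ⟨ha1, ha2, ha3⟩
    refine ⟨?_, ha3, ?_⟩
    · have h1 : (a⁻¹).1 = (a.1)ᵀ := by
        have h2 : a.1 * (a⁻¹).1 = 1 := by
          have := congrArg Units.val (mul_inv_cancel a)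
          simpa using this
        calc (a⁻¹).1 = (a.1ᵀ * a.1) * (a⁻¹).1 := by rw [ha1, Matrix.one_mul]
          _ = a.1ᵀ * (a.1 * (a⁻¹).1) := by rw [Matrix.mul_assoc]
          _ = (a.1)ᵀ := by rw [h2, Matrix.mul_one]
      rw [h1, Matrix.transpose_transpose]
      exact mul_eq_one_comm.1 ha1
    · intro v hv
      rw [inv_inv]
      exact ha2 v hv

theorem J1_le_KK : Cfsg.Spor.J1 ≤ KK := by
  unfold Cfsg.Spor.J1
  rw [Subgroup.closure_le]
  have hx : ∀ v, Om v → Om ((gl 0).1 *ᵥ v) := fun v hv => by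
    rw [gl_val]; exact Om_step (okLt 0) stX hv
  have hy : ∀ v, Om v → Om ((gl 1).1 *ᵥ v) := fun v hv => by
    rw [gl_val]; exact Om_step (okLt 1) stY hv
  have hx' : ∀ v, Om v → Om ((gl 2).1 *ᵥ v) := fun v hv => by
    rw [gl_val]; exact Om_step (okLt 2) stX' hv
  have hy' : ∀ v, Om v → Om ((gl 3).1 *ᵥ v) := fun v hv => by
    rw [gl_val]; exact Om_step (okLt 3) stY' hv
  rintro g (rfl | rfl)
  · exact ⟨Cfsg.Spor.jankoX.inv_val, hx, hx'⟩
  · exact ⟨Cfsg.Spor.jankoY.inv_val, hy, hy'⟩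

theorem KK_dot {g : GG} (hg : g ∈ KK) (v w : V7) : (g.1 *ᵥ v) ⬝ᵥ (g.1 *ᵥ w) = v ⬝ᵥ w := by
  rw [Matrix.dotProduct_mulVec, Matrix.vecMul_mulVec, hg.1, Matrix.vecMul_one]

theorem neg_one_mem : (-1 : GG) ∈ KK := by
  have h1 : ((-1 : GG)⁻¹) = -1 := by
    rw [inv_eq_iff_mul_eq_one]; simp
  refine ⟨?_, ?_, ?_⟩
  · simp
  · intro v hv
    rw [Units.val_neg, Units.val_one, Matrix.neg_mulVec, Matrix.one_mulVec]
    exact Om_neg hv
  · intro v hv
    rw [h1, Units.val_neg, Units.val_one, Matrix.neg_mulVec, Matrix.one_mulVec]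
    exact Om_neg hv

theorem J1_det {g : GG} (hg : g ∈ Cfsg.Spor.J1) : g.1.det = 1 := by
  have hsq : ∀ g ∈ KK, g.1.det * g.1.det = 1 := by
    intro g hg
    have := congrArg Matrix.det hg.1
    rwa [Matrix.det_mul, Matrix.det_transpose, Matrix.det_one] at this
  have hx7 : (gl 0) ^ 7 = 1 := by
    have : gw (wp [0] 7) = gw [] := gw_eq (by decide +kernel)
    rw [gw_wp] at this
    simpa [gw] using this
  have hy5 : (gl 1) ^ 5 = 1 := by
    have : gw (wp [1] 5) = gw [] := gw_eq (by decide +kernel)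
    rw [gw_wp] at this
    simpa [gw] using this
  have hdx : (gl 0).1.det = 1 := by
    have h1 : (gl 0).1.det ^ 7 = 1 := by
      rw [← Matrix.det_pow, ← Units.val_pow_eq_pow_val, hx7, Units.val_one, Matrix.det_one]
    have h2 := hsq _ (J1_le_KK (gl_mem 0))
    calc (gl 0).1.det = (gl 0).1.det * ((gl 0).1.det * (gl 0).1.det) ^ 3 := by rw [h2]; ring
      _ = (gl 0).1.det ^ 7 := by ring
      _ = 1 := h1
  have hdy : (gl 1).1.det = 1 := by
    have h1 : (gl 1).1.det ^ 5 = 1 := by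
      rw [← Matrix.det_pow, ← Units.val_pow_eq_pow_val, hy5, Units.val_one, Matrix.det_one]
    have h2 := hsq _ (J1_le_KK (gl_mem 1))
    calc (gl 1).1.det = (gl 1).1.det * ((gl 1).1.det * (gl 1).1.det) ^ 2 := by rw [h2]; ring
      _ = (gl 1).1.det ^ 5 := by ring
      _ = 1 := h1
  induction hg using Subgroup.closure_induction with
  | mem g hg =>
    rcases hg with rfl | rfl
    · exact hdx
    · exact hdy
  | one => simp
  | mul a b _ _ ha hb =>
    rw [Units.val_mul, Matrix.det_mul, ha, hb, one_mul]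
  | inv a _ ha =>
    have h1 := congrArg Matrix.det (congrArg Units.val (mul_inv_cancel a))
    rw [Units.val_mul, Matrix.det_mul, ha, one_mul] at h1
    simpa using h1

theorem neg_one_notMem : (-1 : GG) ∉ Cfsg.Spor.J1 := by
  intro h
  have h1 := J1_det h
  rw [Units.val_neg, Units.val_one, Matrix.det_neg, Matrix.det_one] at h1
  simp only [Fintype.card_fin, mul_one] at h1
  revert h1
  decide

/-- stabiliser of a vector -/
def stb (v : V7) : Subgroup GG where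
  carrier := {g | g.1 *ᵥ v = v}
  one_mem' := by simp
  mul_mem' := by
    intro a b ha hb
    change (a.1 * b.1) *ᵥ v = v
    rw [← Matrix.mulVec_mulVec, show b.1 *ᵥ v = v from hb, show a.1 *ᵥ v = v from ha]
  inv_mem' := by
    intro a ha
    change (a⁻¹).1 *ᵥ v = v
    have h1 : (a⁻¹).1 *ᵥ (a.1 *ᵥ v) = v := by
      rw [Matrix.mulVec_mulVec, ← Units.val_mul, inv_mul_cancel, Units.val_one, Matrix.one_mulVec]
    rwa [show a.1 *ᵥ v = v from ha] at h1

theorem mem_stb {v : V7} {g : GG} : g ∈ stb v ↔ g.1 *ᵥ v = v := Iff.rfl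

theorem card_le_mul (K : Subgroup GG) (v : V7) (S : Finset V7) (hS : ∀ g ∈ K, g.1 *ᵥ v ∈ S) :
    Nat.card K ≤ S.card * Nat.card ↥(K ⊓ stb v) := by
  classical
  haveI : Finite K := inferInstance
  have hrep : ∃ r : V7 → GG, ∀ w, (∃ g ∈ K, g.1 *ᵥ v = w) → r w ∈ K ∧ (r w).1 *ᵥ v = w := by
    refine ⟨fun w => if h : ∃ g ∈ K, g.1 *ᵥ v = w then h.choose else 1, fun w h => ?_⟩
    simp only [dif_pos h]
    exact h.choose_spec
  obtain ⟨r, hr⟩ := hrep
  have hr' : ∀ g : K, r (g.1.1 *ᵥ v) ∈ K ∧ (r (g.1.1 *ᵥ v)).1 *ᵥ v = g.1.1 *ᵥ v :=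
    fun g => hr _ ⟨g.1, g.2, rfl⟩
  have hmem : ∀ g : K, (r (g.1.1 *ᵥ v))⁻¹ * g.1 ∈ K ⊓ stb v := by
    intro g
    refine ⟨K.mul_mem (K.inv_mem (hr' g).1) g.2, ?_⟩
    change ((r (g.1.1 *ᵥ v))⁻¹ * g.1).1 *ᵥ v = v
    rw [Units.val_mul, ← Matrix.mulVec_mulVec, ← (hr' g).2, Matrix.mulVec_mulVec,
      (hr' g).2, ← Units.val_mul, inv_mul_cancel, Units.val_one, Matrix.one_mulVec]
  let f : K → S × ↥(K ⊓ stb v) := fun g => (⟨g.1.1 *ᵥ v, hS _ g.2⟩, ⟨_, hmem g⟩)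
  have hf : Function.Injective f := by
    intro a b hab
    have h1 : a.1.1 *ᵥ v = b.1.1 *ᵥ v := congrArg (fun p => p.1.1) hab
    have h2 : (r (a.1.1 *ᵥ v))⁻¹ * a.1 = (r (b.1.1 *ᵥ v))⁻¹ * b.1 :=
      congrArg (fun p => p.2.1) hab
    rw [h1] at h2
    exact Subtype.ext (mul_left_cancel h2)
  calc Nat.card K ≤ Nat.card (S × ↥(K ⊓ stb v)) := Nat.card_le_card_of_injective f hf
    _ = S.card * Nat.card ↥(K ⊓ stb v) := by
      rw [Nat.card_prod, Nat.card_eq_fintype_card, Fintype.card_coe]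

end CfsgLib.Jone
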