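import Cfsg.Agent.LibJone4

/-!
Upper bound for the order of the Janko group.
-/

set_option autoImplicit false
set_option maxRecDepth 100000

namespace CfsgLib.Jone

open Matrix Tr
open scoped MatrixGroups

def cs (l : List (ℕ × ℕ)) (n : ℕ) : Bool := l.all fun p => Nat.beq (dotN p.1 n) p.2
def csn (l : List (ℕ × ℕ)) (n : ℕ) : Bool := l.all fun p => Nat.beq (dotN p.1 n) ((11 - p.2) % 11)

/-- level set -/
def lv (l : List (ℕ × ℕ)) : Finset V7 :=
  (TT.flt (cs l)).toFinset.image dec ∪ (TT.flt (csn l)).toFinset.image (fun n => -dec n)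

theorem card_lv (l : List (ℕ × ℕ)) {a b : ℕ} (ha : (TT.flt (cs l)).length = a)
    (hb : (TT.flt (csn l)).length = b) : (lv l).card ≤ a + b := by
  unfold lv
  refine (Finset.card_union_le _ _).trans (Nat.add_le_add ?_ ?_)
  · exact (Finset.card_image_le).trans ((List.toFinset_card_le _).trans ha.le)
  · exact (Finset.card_image_le).trans ((List.toFinset_card_le _).trans hb.le)

theorem cast_inj {a b : ℕ} (ha : a ≤ 10) (hb : b ≤ 10) (h : (a : ZMod 11) = (b : ZMod 11)) :
    a = b := by
  rw [ZMod.natCast_eq_natCast_iff'] at h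
  omega

theorem mem_lv {l : List (ℕ × ℕ)} {w : V7} (hw : Om w)
    (hl : ∀ p ∈ l, ok p.1 = true ∧ p.2 ≤ 10 ∧ decR p.1 ⬝ᵥ w = (p.2 : ZMod 11)) : w ∈ lv l := by
  obtain ⟨n, hn, h | h⟩ := hw
  · apply Finset.mem_union_left
    rw [Finset.mem_image]
    refine ⟨n, ?_, h.symm⟩
    rw [List.mem_toFinset]
    apply mem_flt hn
    unfold cs
    rw [List.all_eq_true]
    intro p hp
    obtain ⟨h1, h2, h3⟩ := hl p hp
    rw [Nat.beq_eq]
    apply cast_inj (dotN_le _ _) h2
    rw [dotN_sound h1 (ok_of_mem hn), ← h3, h]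
  · apply Finset.mem_union_right
    rw [Finset.mem_image]
    refine ⟨n, ?_, h.symm⟩
    rw [List.mem_toFinset]
    apply mem_flt hn
    unfold csn
    rw [List.all_eq_true]
    intro p hp
    obtain ⟨h1, h2, h3⟩ := hl p hp
    rw [Nat.beq_eq]
    apply cast_inj (dotN_le _ _) (by omega)
    rw [dotN_sound h1 (ok_of_mem hn)]
    have h4 : dec n = -w := by rw [h, neg_neg]
    rw [h4, dotProduct_neg, h3]
    have hcast : (((11 - p.2) % 11 : ℕ) : ZMod 11) = -(p.2 : ZMod 11) := by
      rw [ZMod.natCast_mod, Nat.cast_sub (by omega)]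
      have : ((11 : ℕ) : ZMod 11) = 0 := ZMod.natCast_self 11
      rw [this, zero_sub]
    rw [hcast]

/-- the vectors `u, b, c, s0, s1, s2, s3` -/
def vu : V7 := decR 14167100293514918887424
def vb : V7 := decR 4722366483488120512514
def vc : V7 := decR 4724672607628881301504
def vb' : V7 := decR 9447040497735904026629

theorem Om_of_find {n m : ℕ} (h : (TT.find n && (dec n == decR m)) = true) : Om (decR m) := by
  simp only [Bool.and_eq_true, beq_iff_eq] at h
  exact ⟨n, find_mem h.1, Or.inl h.2.symm⟩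

theorem Om_of_find' {n m : ℕ} (h : (TT.find n && (-dec n == decR m)) = true) : Om (decR m) := by
  simp only [Bool.and_eq_true, beq_iff_eq] at h
  exact ⟨n, find_mem h.1, Or.inr h.2.symm⟩

theorem Om_vu : Om vu := Om_of_find (n := 281956063379459) (by decide +kernel)
theorem Om_vb : Om vb := Om_of_find (n := 9447038809366979411969) (by decide +kernel)
theorem Om_vb' : Om vb' := Om_of_find (n := 23618751632363267039234) (by decide +kernel)
theorem Om_vc : Om vc := Om_of_find (n := 1155736529268645889) (by decide +kernel)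

/-- a single element of a level is fixed -/
theorem fix_single {l : List (ℕ × ℕ)} {a b : ℕ} (ha : (TT.flt (cs l)).length = a)
    (hb : (TT.flt (csn l)).length = b) (hab : a + b ≤ 1) {m : ℕ}
    (hm : Om (decR m)) (hl : ∀ p ∈ l, ok p.1 = true ∧ p.2 ≤ 10 ∧
      decR p.1 ⬝ᵥ decR m = (p.2 : ZMod 11)) {g : GG} (hg : g ∈ KK)
    (hfix : ∀ p ∈ l, g.1 *ᵥ decR p.1 = decR p.1) : g.1 *ᵥ decR m = decR m := by
  have h1 : decR m ∈ lv l := mem_lv hm hl
  have h2 : g.1 *ᵥ decR m ∈ lv l := by
    apply mem_lv (hg.2.1 _ hm)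
    intro p hp
    refine ⟨(hl p hp).1, (hl p hp).2.1, ?_⟩
    calc decR p.1 ⬝ᵥ (g.1 *ᵥ decR m) = (g.1 *ᵥ decR p.1) ⬝ᵥ (g.1 *ᵥ decR m) := by
          rw [hfix p hp]
      _ = decR p.1 ⬝ᵥ decR m := KK_dot hg _ _
      _ = _ := (hl p hp).2.2
  exact Finset.card_le_one.1 ((card_lv l ha hb).trans hab) _ h2 _ h1

def MW : Mc := ⟨14167100293514918887424, 4722366483488120512514, 4724672607628881301504,
  844424980492289, 2305843146803646464, 3458764788832669696, 3460735525852282888⟩

def MWi : Mc := ⟨42505910876682548449281, 4725826654758416445442, 23612987025046290567174,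
  47234042529612847673350, 47235195169642427486211, 42509371611108972957697,
  9451653310066504790026⟩

theorem okMW : okM MW = true := by decide +kernel
theorem okMWi : okM MWi = true := by decide +kernel

theorem mulM_one {M N : Mc} (hM : okM M = true) (hN : okM N = true)
    (h : (e7.all fun n => Nat.beq (mvN M (mvN N n)) n) = true) : decM M * decM N = 1 := by
  apply mat_ext
  intro n hn
  have h1 := List.all_eq_true.1 h n hn
  rw [Nat.beq_eq] at h1
  rw [Matrix.one_mulVec, ← Matrix.mulVec_mulVec, ← dec_mvN hN (ok_e7 n hn), ← dec_mvN hM (ok_mvN _ _), h1]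

/-- if `A` fixes (or negates) the rows of an invertible matrix then it is `1` (or `-1`) -/
theorem eq_smul_of_rows {M N : Mc} (h : decM M * decM N = 1)
    {A : Matrix (Fin 7) (Fin 7) (ZMod 11)} (c : ZMod 11)
    (h0 : A *ᵥ decR M.r0 = c • decR M.r0) (h1 : A *ᵥ decR M.r1 = c • decR M.r1)
    (h2 : A *ᵥ decR M.r2 = c • decR M.r2) (h3 : A *ᵥ decR M.r3 = c • decR M.r3)
    (h4 : A *ᵥ decR M.r4 = c • decR M.r4) (h5 : A *ᵥ decR M.r5 = c • decR M.r5)
    (h6 : A *ᵥ decR M.r6 = c • decR M.r6) : A = c • 1 := by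
  have hr : ∀ i, A *ᵥ (decM M i) = c • decM M i := by
    intro i
    fin_cases i
    exacts [h0, h1, h2, h3, h4, h5, h6]
  have h7 : A * (decM M)ᵀ = c • (decM M)ᵀ := by
    ext i j
    have := congrFun (hr j) i
    simpa [Matrix.mul_apply, Matrix.mulVec, dotProduct, Matrix.transpose_apply] using this
  have h8 : (decM M)ᵀ * (decM N)ᵀ = 1 := by
    rw [← Matrix.transpose_mul, mul_eq_one_comm.1 h, Matrix.transpose_one]
  calc A = A * ((decM M)ᵀ * (decM N)ᵀ) := by rw [h8, Matrix.mul_one]
    _ = (c • (decM M)ᵀ) * (decM N)ᵀ := by rw [← Matrix.mul_assoc, h7]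
    _ = c • 1 := by rw [Matrix.smul_mul, h8]

theorem MW_inv : decM MW * decM MWi = 1 := mulM_one okMW okMWi (by decide +kernel)

set_option maxHeartbeats 1000000 in
theorem stab3_trivial {g : GG} (hg : g ∈ KK) (hu : g.1 *ᵥ vu = vu) (hb : g.1 *ᵥ vb = vb)
    (hc : g.1 *ᵥ vc = vc) : g = 1 := by
  have key : ∀ (x y z m : ℕ), (TT.flt (cs [(14167100293514918887424, x),
      (4722366483488120512514, y), (4724672607628881301504, z)])).length = 1 →
      (TT.flt (csn [(14167100293514918887424, x),
      (4722366483488120512514, y), (4724672607628881301504, z)])).length = 0 →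
      x ≤ 10 → y ≤ 10 → z ≤ 10 → Om (decR m) → vu ⬝ᵥ decR m = (x : ZMod 11) →
      vb ⬝ᵥ decR m = (y : ZMod 11) → vc ⬝ᵥ decR m = (z : ZMod 11) →
      g.1 *ᵥ decR m = decR m := by
    intro x y z m h1 h2 hx hy hz hm h3 h4 h5
    refine fix_single h1 h2 le_rfl hm ?_ hg ?_
    · intro p hp
      simp only [List.mem_cons, List.not_mem_nil, or_false] at hp
      rcases hp with rfl | rfl | rfl
      · exact ⟨show ok 14167100293514918887424 = true by decide +kernel, hx, h3⟩
      · exact ⟨show ok 4722366483488120512514 = true by decide +kernel, hy, h4⟩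
      · exact ⟨show ok 4724672607628881301504 = true by decide +kernel, hz, h5⟩
    · intro p hp
      simp only [List.mem_cons, List.not_mem_nil, or_false] at hp
      rcases hp with rfl | rfl | rfl
      · exact hu
      · exact hb
      · exact hc
  have k0 := key 1 5 7 844424980492289 (by decide +kernel) (by decide +kernel) (by norm_num)
    (by norm_num) (by norm_num) (Om_of_find (n := 4730437777826873606144) (by decide +kernel))
    (by decide +kernel) (by decide +kernel) (by decide +kernel)
  have k1 := key 1 9 4 2305843146803646464 (by decide +kernel) (by decide +kernel) (by norm_num)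
    (by norm_num) (by norm_num) (Om_of_find (n := 1155454916836204544) (by decide +kernel))
    (by decide +kernel) (by decide +kernel) (by decide +kernel)
  have k2 := key 3 5 4 3458764788832669696 (by decide +kernel) (by decide +kernel) (by norm_num)
    (by norm_num) (by norm_num) (Om_of_find (n := 1155173579298451456) (by decide +kernel))
    (by decide +kernel) (by decide +kernel) (by decide +kernel)
  have k3 := key 3 7 9 3460735525852282888 (by decide +kernel) (by decide +kernel) (by norm_num)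
    (by norm_num) (by norm_num) (Om_of_find (n := 37778931863644473929728) (by decide +kernel))
    (by decide +kernel) (by decide +kernel) (by decide +kernel)
  apply Units.ext
  have := eq_smul_of_rows MW_inv (A := g.1) 1 (by rw [one_smul]; exact hu)
    (by rw [one_smul]; exact hb) (by rw [one_smul]; exact hc) (by rw [one_smul]; exact k0)
    (by rw [one_smul]; exact k1) (by rw [one_smul]; exact k2) (by rw [one_smul]; exact k3)
  rw [this, one_smul, Units.val_one]

/-- all the vectors -/
def OmF : Finset V7 := lv []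

theorem mem_OmF {v : V7} (h : Om v) : v ∈ OmF := mem_lv h (by simp)

theorem card_OmF : OmF.card ≤ 3080 := card_lv [] (a := 1540) (b := 1540) (by decide +kernel)
  (by decide +kernel)

theorem card_lvu : (lv [(14167100293514918887424, 0)]).card ≤ 76 :=
  card_lv _ (a := 38) (b := 38) (by decide +kernel) (by decide +kernel)

theorem card_lvc : (lv [(14167100293514918887424, 0), (4722366483488120512514, 6)]).card ≤ 3 :=
  card_lv _ (a := 2) (b := 1) (by decide +kernel) (by decide +kernel)

theorem card_lv11 : (lv [(14167100293514918887424, 1), (4722366483488120512514, 1)]).card ≤ 2 :=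
  card_lv _ (a := 0) (b := 2) (by decide +kernel) (by decide +kernel)

theorem not_b' {g : GG} (hg : g ∈ KK) (hu : g.1 *ᵥ vu = vu) : g.1 *ᵥ vb ≠ vb' := by
  intro hb
  have hgi : g⁻¹ ∈ KK := inv_mem hg
  have hcan : ∀ v : V7, (g⁻¹).1 *ᵥ (g.1 *ᵥ v) = v := by
    intro v
    rw [Matrix.mulVec_mulVec, ← Units.val_mul, inv_mul_cancel, Units.val_one, Matrix.one_mulVec]
  have hui : (g⁻¹).1 *ᵥ vu = vu := by
    have := hcan vu
    rwa [hu] at this
  have hbi : (g⁻¹).1 *ᵥ vb' = vb := by
    have := hcan vb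
    rwa [hb] at this
  have hinj : Function.Injective (fun v : V7 => (g⁻¹).1 *ᵥ v) := by
    intro v w hvw
    have h1 : g.1 *ᵥ ((g⁻¹).1 *ᵥ v) = g.1 *ᵥ ((g⁻¹).1 *ᵥ w) := congrArg _ hvw
    rwa [Matrix.mulVec_mulVec, Matrix.mulVec_mulVec, ← Units.val_mul, mul_inv_cancel,
      Units.val_one, Matrix.one_mulVec, Matrix.one_mulVec] at h1
  have hin : ∀ m, Om (decR m) → vu ⬝ᵥ decR m = 1 → vb' ⬝ᵥ decR m = 1 →
      (g⁻¹).1 *ᵥ decR m ∈ lv [(14167100293514918887424, 1), (4722366483488120512514, 1)] := by
    intro m hm h1 h2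
    apply mem_lv (hgi.2.1 _ hm)
    intro p hp
    simp only [List.mem_cons, List.not_mem_nil, or_false] at hp
    rcases hp with rfl | rfl
    · refine ⟨by decide +kernel, by norm_num, ?_⟩
      change vu ⬝ᵥ _ = _
      rw [← hui, KK_dot hgi, h1]; rfl
    · refine ⟨by decide +kernel, by norm_num, ?_⟩
      change vb ⬝ᵥ _ = _
      rw [← hbi, KK_dot hgi, h2]; rfl
  have a1 := hin 4724673733940954017796 (Om_of_find (n := 18892924978154656768001) (by decide +kernel))
    (by decide +kernel) (by decide +kernel)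
  have a2 := hin 14167101137802477191169 (Om_of_find (n := 4726979576606654201859) (by decide +kernel))
    (by decide +kernel) (by decide +kernel)
  have a3 := hin 23615292586236997296129 (Om_of_find (n := 4729285137797277036549) (by decide +kernel))
    (by decide +kernel) (by decide +kernel)
  have hsub : ({(g⁻¹).1 *ᵥ decR 4724673733940954017796, (g⁻¹).1 *ᵥ decR 14167101137802477191169,
      (g⁻¹).1 *ᵥ decR 23615292586236997296129} : Finset V7) ⊆
      lv [(14167100293514918887424, 1), (4722366483488120512514, 1)] := by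
    intro z hz
    simp only [Finset.mem_insert, Finset.mem_singleton] at hz
    rcases hz with rfl | rfl | rfl
    · exact a1
    · exact a2
    · exact a3
  have hcard := (Finset.card_le_card hsub).trans card_lv11
  have n12 : decR 4724673733940954017796 ≠ decR 14167101137802477191169 := by decide +kernel
  have n13 : decR 4724673733940954017796 ≠ decR 23615292586236997296129 := by decide +kernel
  have n23 : decR 14167101137802477191169 ≠ decR 23615292586236997296129 := by decide +kernel
  rw [Finset.card_insert_of_notMem, Finset.card_insert_of_notMem, Finset.card_singleton] at hcard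
  · omega
  · simp only [Finset.mem_singleton]
    exact fun h => n23 (hinj h)
  · simp only [Finset.mem_insert, Finset.mem_singleton, not_or]
    exact ⟨fun h => n12 (hinj h), fun h => n13 (hinj h)⟩

theorem card_KK : Nat.card KK ≤ 3080 * (75 * 3) := by
  have h1 := card_le_mul KK vu OmF (fun g hg => mem_OmF (hg.2.1 _ Om_vu))
  have h2 := card_le_mul (KK ⊓ stb vu) vb ((lv [(14167100293514918887424, 0)]).erase vb') (by
    intro g hg
    rw [Finset.mem_erase]
    refine ⟨not_b' hg.1 hg.2, mem_lv (hg.1.2.1 _ Om_vb) ?_⟩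
    intro p hp
    simp only [List.mem_cons, List.not_mem_nil, or_false] at hp
    subst hp
    refine ⟨by decide +kernel, by norm_num, ?_⟩
    change vu ⬝ᵥ _ = _
    have h0 : vu ⬝ᵥ vb = 0 := by decide +kernel
    have hu : g.1 *ᵥ vu = vu := hg.2
    calc vu ⬝ᵥ (g.1 *ᵥ vb) = (g.1 *ᵥ vu) ⬝ᵥ (g.1 *ᵥ vb) := by rw [hu]
      _ = vu ⬝ᵥ vb := KK_dot hg.1 _ _
      _ = ((0 : ℕ) : ZMod 11) := by rw [h0]; rfl)
  have h2' : ((lv [(14167100293514918887424, 0)]).erase vb').card ≤ 75 := by
    have hmem : vb' ∈ lv [(14167100293514918887424, 0)] := by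
      apply mem_lv Om_vb'
      intro p hp
      simp only [List.mem_cons, List.not_mem_nil, or_false] at hp
      subst hp
      exact ⟨by decide +kernel, by norm_num, by decide +kernel⟩
    rw [Finset.card_erase_of_mem hmem]
    have := card_lvu
    omega
  have h3 := card_le_mul (KK ⊓ stb vu ⊓ stb vb) vc
    (lv [(14167100293514918887424, 0), (4722366483488120512514, 6)]) (by
    intro g hg
    have hu : g.1 *ᵥ vu = vu := hg.1.2
    have hb : g.1 *ᵥ vb = vb := hg.2
    refine mem_lv (hg.1.1.2.1 _ Om_vc) ?_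
    intro p hp
    simp only [List.mem_cons, List.not_mem_nil, or_false] at hp
    rcases hp with rfl | rfl
    · refine ⟨by decide +kernel, by norm_num, ?_⟩
      change vu ⬝ᵥ _ = _
      have h0 : vu ⬝ᵥ vc = 0 := by decide +kernel
      calc vu ⬝ᵥ (g.1 *ᵥ vc) = (g.1 *ᵥ vu) ⬝ᵥ (g.1 *ᵥ vc) := by rw [hu]
        _ = vu ⬝ᵥ vc := KK_dot hg.1.1 _ _
        _ = ((0 : ℕ) : ZMod 11) := by rw [h0]; rfl
    · refine ⟨by decide +kernel, by norm_num, ?_⟩
      change vb ⬝ᵥ _ = _
      have h0 : vb ⬝ᵥ vc = 6 := by decide +kernel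
      calc vb ⬝ᵥ (g.1 *ᵥ vc) = (g.1 *ᵥ vb) ⬝ᵥ (g.1 *ᵥ vc) := by rw [hb]
        _ = vb ⬝ᵥ vc := KK_dot hg.1.1 _ _
        _ = ((6 : ℕ) : ZMod 11) := by rw [h0]; rfl)
  have h4 : KK ⊓ stb vu ⊓ stb vb ⊓ stb vc = ⊥ := by
    rw [eq_bot_iff]
    intro g hg
    exact stab3_trivial hg.1.1.1 hg.1.1.2 hg.1.2 hg.2
  rw [h4, Subgroup.card_bot, mul_one] at h3
  calc Nat.card KK ≤ OmF.card * Nat.card ↥(KK ⊓ stb vu) := h1
    _ ≤ 3080 * (75 * 3) := Nat.mul_le_mul card_OmF
      (h2.trans (Nat.mul_le_mul h2' (h3.trans card_lvc)))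

end CfsgLib.Jone
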