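import Cfsg.Agent.LibJone5

/-!
The order of the Janko group and some centralisers.
-/

set_option autoImplicit false
set_option maxRecDepth 100000

namespace CfsgLib.Jone

open Matrix Tr
open scoped MatrixGroups

abbrev JJ := ↥Cfsg.Spor.J1

def gj (w : List ℕ) : JJ := ⟨gw w, gw_mem w⟩

theorem gj_eq {w1 w2 : List ℕ} (h : (e7.all fun n => Nat.beq (ev w1 n) (ev w2 n)) = true) :
    gj w1 = gj w2 := Subtype.ext (gw_eq h)

theorem gj_append (w1 w2 : List ℕ) : gj (w1 ++ w2) = gj w1 * gj w2 := Subtype.ext (gw_append _ _)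

theorem gj_wp (w : List ℕ) (k : ℕ) : gj (wp w k) = gj w ^ k := Subtype.ext (by
  rw [Subgroup.coe_pow]; exact gw_wp w k)

theorem gj_nil : gj [] = 1 := rfl

theorem gj_pow_one {w : List ℕ} {k : ℕ}
    (h : (e7.all fun n => Nat.beq (ev (wp w k) n) n) = true) : gj w ^ k = 1 := by
  rw [← gj_wp, ← gj_nil]
  exact gj_eq h

theorem gj_comm {w1 w2 : List ℕ}
    (h : (e7.all fun n => Nat.beq (ev (w1 ++ w2) n) (ev (w2 ++ w1) n)) = true) :
    gj w1 * gj w2 = gj w2 * gj w1 := by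
  rw [← gj_append, ← gj_append]
  exact gj_eq h

theorem gw_ne {w1 w2 : List ℕ} (n : ℕ) (hn : ok n = true)
    (h : decide (dec (ev w1 n) = dec (ev w2 n)) = false) : gw w1 ≠ gw w2 := by
  intro he
  have h1 : ¬ (dec (ev w1 n) = dec (ev w2 n)) := by simpa using h
  apply h1
  rw [dec_ev w1 hn, dec_ev w2 hn, he]

theorem gj_ne {w1 w2 : List ℕ} (n : ℕ) (hn : ok n = true)
    (h : decide (dec (ev w1 n) = dec (ev w2 n)) = false) : gj w1 ≠ gj w2 := fun he =>
  gw_ne n hn h (congrArg Subtype.val he)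

theorem gj_pow_ne {w : List ℕ} {k : ℕ} (n : ℕ) (hn : ok n = true)
    (h : decide (dec (ev (wp w k) n) = dec n) = false) : gj w ^ k ≠ 1 := by
  rw [← gj_wp, ← gj_nil]
  exact gj_ne n hn h

/-- reversal of digits -/
def rev (n : ℕ) : ℕ := enc (n / 4722366482869645213696 % 4096) (n / 1152921504606846976 % 4096)
  (n / 281474976710656 % 4096) (n / 68719476736 % 4096) (n / 16777216 % 4096) (n / 4096 % 4096)
  (n % 4096)

theorem rev_spec {n : ℕ} (hn : ok n = true) : ok (rev n) = true ∧ decR (rev n) = dec n := by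
  obtain ⟨a, b, c, d, e, f, g, rfl, ha, hb, hc, hd, he, hf, hg⟩ := (ok_iff n).1 hn
  have h0 : enc a b c d e f g % 4096 = a := by unfold enc; omega
  have h1 : enc a b c d e f g / 4096 % 4096 = b := by unfold enc; omega
  have h2 : enc a b c d e f g / 16777216 % 4096 = c := by unfold enc; omega
  have h3 : enc a b c d e f g / 68719476736 % 4096 = d := by unfold enc; omega
  have h4 : enc a b c d e f g / 281474976710656 % 4096 = e := by unfold enc; omega
  have h5 : enc a b c d e f g / 1152921504606846976 % 4096 = f := by unfold enc; omega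
  have h6 : enc a b c d e f g / 4722366482869645213696 % 4096 = g := by unfold enc; omega
  unfold rev
  rw [h0, h1, h2, h3, h4, h5, h6]
  exact ⟨ok_enc hg hf he hd hc hb ha, by
    rw [decR_enc hg hf he hd hc hb ha, dec_enc ha hb hc hd he hf hg]⟩

/-- The matrix with rows `v, Mv, …, M⁶v`. -/
def cycW (M : Mc) (n : ℕ) : Mc := ⟨rev n, mvR M n, mvR M (mvN M n), mvR M (mvN M (mvN M n)),
  mvR M (mvN M (mvN M (mvN M n))), mvR M (mvN M (mvN M (mvN M (mvN M n)))),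
  mvR M (mvN M (mvN M (mvN M (mvN M (mvN M n)))))⟩

theorem okM_cycW {M : Mc} {n : ℕ} (hn : ok n = true) : okM (cycW M n) = true := by
  rw [okM_iff]
  exact ⟨(rev_spec hn).1, ok_mvR _ _, ok_mvR _ _, ok_mvR _ _, ok_mvR _ _, ok_mvR _ _,
    ok_mvR _ _⟩

/-- invariants of a vector with respect to a matrix -/
def pin (M : Mc) (c1 c2 n : ℕ) : Bool :=
  Nat.beq (dotN (mvR M n) n) c1 && Nat.beq (dotN (mvR M (mvN M n)) n) c2

theorem pin_iff {M : Mc} (hM : okM M = true) {c1 c2 n : ℕ} (hn : ok n = true) (h1 : c1 ≤ 10)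
    (h2 : c2 ≤ 10) : pin M c1 c2 n = true ↔ (decM M *ᵥ dec n) ⬝ᵥ dec n = (c1 : ZMod 11) ∧
      (decM M *ᵥ (decM M *ᵥ dec n)) ⬝ᵥ dec n = (c2 : ZMod 11) := by
  unfold pin
  rw [Bool.and_eq_true, Nat.beq_eq, Nat.beq_eq]
  have e1 : ((dotN (mvR M n) n : ℕ) : ZMod 11) = (decM M *ᵥ dec n) ⬝ᵥ dec n := by
    rw [dotN_sound (ok_mvR _ _) hn, decR_mvR hM hn]
  have e2 : ((dotN (mvR M (mvN M n)) n : ℕ) : ZMod 11) =
      (decM M *ᵥ (decM M *ᵥ dec n)) ⬝ᵥ dec n := by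
    rw [dotN_sound (ok_mvR _ _) hn, decR_mvR hM (ok_mvN _ _), dec_mvN hM hn]
  rw [← e1, ← e2]
  constructor
  · rintro ⟨h3, h4⟩
    rw [h3, h4]
    exact ⟨rfl, rfl⟩
  · rintro ⟨h3, h4⟩
    exact ⟨cast_inj (dotN_le _ _) h1 h3, cast_inj (dotN_le _ _) h2 h4⟩

theorem cent_card {w : List ℕ} {M : Mc} (hM : okM M = true)
    (hw : (e7.all fun n => Nat.beq (ev w n) (mvN M n)) = true) {n0 : ℕ} (hn0 : TT.find n0 = true)
    {c1 c2 : ℕ} (h1 : c1 ≤ 10) (h2 : c2 ≤ 10) (hp : pin M c1 c2 n0 = true)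
    {k : ℕ} (hflt : (TT.flt (pin M c1 c2)).length = k) {Wi : Mc} (hWi : okM Wi = true)
    (hinv : (e7.all fun n => Nat.beq (mvN Wi (mvN (cycW M n0) n)) n) = true) :
    Nat.card (Subgroup.centralizer ({gj w} : Set JJ)) ≤ k := by
  classical
  have hmem0 : TT.Mem n0 := find_mem hn0
  have hok0 := ok_of_mem hmem0
  have hval : (gw w).1 = decM M := gw_val_eq hM hw
  have hinv' : decM (cycW M n0) * decM Wi = 1 :=
    mul_eq_one_comm.1 (mulM_one hWi (okM_cycW hok0) hinv)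
  obtain ⟨p1, p2⟩ := (pin_iff hM hok0 h1 h2).1 hp
  have hcomm : ∀ c : Subgroup.centralizer ({gj w} : Set JJ),
      c.1.1.1 * decM M = decM M * c.1.1.1 := by
    intro c
    have h := Subgroup.mem_centralizer_singleton_iff.1 c.2
    have h' := congrArg (fun z : JJ => z.1.1) h
    change c.1.1.1 * (gw w).1 = (gw w).1 * c.1.1.1 at h'
    rwa [hval] at h'
  have hf : ∀ c : Subgroup.centralizer ({gj w} : Set JJ), ∃ n, n ∈ (TT.flt (pin M c1 c2)).toFinset ∧
      (c.1.1.1 *ᵥ dec n0 = dec n ∨ c.1.1.1 *ᵥ dec n0 = -dec n) := by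
    intro c
    have hcK := J1_le_KK c.1.2
    obtain ⟨n, hn, hcn⟩ := hcK.2.1 (dec n0) ⟨n0, hmem0, Or.inl rfl⟩
    refine ⟨n, ?_, hcn⟩
    rw [List.mem_toFinset]
    apply mem_flt hn
    rw [pin_iff hM (ok_of_mem hn) h1 h2]
    have q1 : (decM M *ᵥ (c.1.1.1 *ᵥ dec n0)) ⬝ᵥ (c.1.1.1 *ᵥ dec n0) = (c1 : ZMod 11) := by
      rw [Matrix.mulVec_mulVec, ← hcomm c, ← Matrix.mulVec_mulVec, KK_dot hcK, p1]
    have q2 : (decM M *ᵥ (decM M *ᵥ (c.1.1.1 *ᵥ dec n0))) ⬝ᵥ (c.1.1.1 *ᵥ dec n0) =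
        (c2 : ZMod 11) := by
      rw [Matrix.mulVec_mulVec (dec n0), ← hcomm c, ← Matrix.mulVec_mulVec,
        Matrix.mulVec_mulVec (decM M *ᵥ dec n0), ← hcomm c, ← Matrix.mulVec_mulVec,
        Matrix.mulVec_mulVec (dec n0), hcomm c, ← Matrix.mulVec_mulVec (dec n0),
        show decM M *ᵥ (c.1.1.1 *ᵥ dec n0) = c.1.1.1 *ᵥ (decM M *ᵥ dec n0) by
          rw [Matrix.mulVec_mulVec, ← hcomm c, ← Matrix.mulVec_mulVec]] at *
      rw [KK_dot hcK, p2]
    rcases hcn with hcn | hcn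
    · rw [hcn] at q1 q2
      exact ⟨q1, q2⟩
    · rw [hcn] at q1 q2
      rw [Matrix.mulVec_neg, neg_dotProduct_neg] at q1
      rw [Matrix.mulVec_neg, Matrix.mulVec_neg, neg_dotProduct_neg] at q2
      exact ⟨q1, q2⟩
  choose f hf1 hf2 using hf
  have hinj : Function.Injective
      (fun c => (⟨f c, hf1 c⟩ : ↥(TT.flt (pin M c1 c2)).toFinset)) := by
    intro c c' hcc
    have hcc' : f c = f c' := congrArg Subtype.val hcc
    have hd : ∃ ε : ZMod 11, (ε = 1 ∨ ε = -1) ∧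
        (c'⁻¹ * c).1.1.1 *ᵥ dec n0 = ε • dec n0 := by
      have hcan : (c'⁻¹).1.1.1 *ᵥ (c'.1.1.1 *ᵥ dec n0) = dec n0 := by
        have h3 : (c'⁻¹).1.1.1 * c'.1.1.1 = 1 := by
          have := congrArg (fun z => z.1.1.1) (inv_mul_cancel c')
          exact this
        rw [Matrix.mulVec_mulVec, h3, Matrix.one_mulVec]
      have hmul : (c'⁻¹ * c).1.1.1 *ᵥ dec n0 = (c'⁻¹).1.1.1 *ᵥ (c.1.1.1 *ᵥ dec n0) := by
        rw [Matrix.mulVec_mulVec]; rfl
      rcases hf2 c with h3 | h3 <;> rcases hf2 c' with h4 | h4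
      · refine ⟨1, Or.inl rfl, ?_⟩
        rw [hmul, h3, hcc', ← h4, hcan, one_smul]
      · refine ⟨-1, Or.inr rfl, ?_⟩
        have h5 : dec (f c') = -(c'.1.1.1 *ᵥ dec n0) := by rw [h4, neg_neg]
        rw [hmul, h3, hcc', h5, Matrix.mulVec_neg, hcan, neg_one_smul]
      · refine ⟨-1, Or.inr rfl, ?_⟩
        rw [hmul, h3, hcc', ← h4, Matrix.mulVec_neg, hcan, neg_one_smul]
      · refine ⟨1, Or.inl rfl, ?_⟩
        rw [hmul, h3, hcc', ← h4, hcan, one_smul]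
    obtain ⟨ε, hε, hd⟩ := hd
    have hstep : ∀ v : V7, (c'⁻¹ * c).1.1.1 *ᵥ v = ε • v →
        (c'⁻¹ * c).1.1.1 *ᵥ (decM M *ᵥ v) = ε • (decM M *ᵥ v) := by
      intro v hv
      rw [Matrix.mulVec_mulVec, hcomm (c'⁻¹ * c), ← Matrix.mulVec_mulVec, hv,
        Matrix.mulVec_smul]
    have hrows : ∀ n, ok n = true → decR (mvR M n) = decM M *ᵥ dec n := fun n hn => decR_mvR hM hn
    have r0 : (c'⁻¹ * c).1.1.1 *ᵥ decR (cycW M n0).r0 = ε • decR (cycW M n0).r0 := by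
      change _ *ᵥ decR (rev n0) = _ • decR (rev n0)
      rw [(rev_spec hok0).2, hd]
    have s1 := hstep _ hd
    rw [← dec_mvN hM hok0] at s1
    have s2 := hstep _ s1
    rw [← dec_mvN hM (ok_mvN _ _)] at s2
    have s3 := hstep _ s2
    rw [← dec_mvN hM (ok_mvN _ _)] at s3
    have s4 := hstep _ s3
    rw [← dec_mvN hM (ok_mvN _ _)] at s4
    have s5 := hstep _ s4
    rw [← dec_mvN hM (ok_mvN _ _)] at s5
    have s6 := hstep _ s5
    have hrow : ∀ n, ok n = true → (c'⁻¹ * c).1.1.1 *ᵥ dec (mvN M n) = ε • dec (mvN M n) →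
        (c'⁻¹ * c).1.1.1 *ᵥ decR (mvR M n) = ε • decR (mvR M n) := by
      intro n hn h
      rw [hrows n hn, ← dec_mvN hM hn]
      exact h
    rw [← dec_mvN hM (ok_mvN _ _)] at s6
    have hA := eq_smul_of_rows hinv' (A := (c'⁻¹ * c).1.1.1) ε r0 (hrow _ hok0 s1)
      (hrow _ (ok_mvN _ _) s2) (hrow _ (ok_mvN _ _) s3) (hrow _ (ok_mvN _ _) s4)
      (hrow _ (ok_mvN _ _) s5) (hrow _ (ok_mvN _ _) s6)
    rcases hε with rfl | rfl
    · have h5 : c'⁻¹ * c = 1 := by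
        apply Subtype.ext
        apply Subtype.ext
        apply Units.ext
        rw [hA, one_smul]
        rfl
      exact (inv_mul_eq_one.1 h5).symm
    · exfalso
      apply neg_one_notMem
      have h5 : ((c'⁻¹ * c).1.1 : GG) = -1 := by
        apply Units.ext
        rw [hA, neg_one_smul, Units.val_neg, Units.val_one]
      rw [← h5]
      exact (c'⁻¹ * c).1.2
  calc Nat.card (Subgroup.centralizer ({gj w} : Set JJ))
      ≤ Nat.card ↥(TT.flt (pin M c1 c2)).toFinset := Nat.card_le_card_of_injective _ hinj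
    _ = (TT.flt (pin M c1 c2)).toFinset.card := by
        rw [Nat.card_eq_fintype_card, Fintype.card_coe]
    _ ≤ k := (List.toFinset_card_le _).trans hflt.le

end CfsgLib.Jone
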