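import Cfsg.Agent.LibJone6

/-!
The order of the Janko group is 175560.
-/

set_option autoImplicit false
set_option maxRecDepth 100000

namespace CfsgLib.Jone

open Matrix Tr
open scoped MatrixGroups

/-- elements of orders 7, 11, 15, 19 -/
def g7 : JJ := gj [0]
def g11 : JJ := gj [0, 1, 1]
def g15 : JJ := gj [0, 1, 1, 2, 1, 1]
def g19 : JJ := gj [0, 3]

theorem ok1 : ok 1 = true := by decide +kernel

theorem order_g7 : orderOf g7 = 7 :=
  orderOf_eq_prime (hp := ⟨by norm_num⟩) (gj_pow_one (by decide +kernel)) (by
    have := gj_ne (w1 := [0]) (w2 := []) 1 ok1 (by decide +kernel)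
    exact this)

theorem order_g11 : orderOf g11 = 11 :=
  orderOf_eq_prime (hp := ⟨by norm_num⟩) (gj_pow_one (by decide +kernel)) (by
    have := gj_ne (w1 := [0, 1, 1]) (w2 := []) 1 ok1 (by decide +kernel)
    exact this)

theorem order_g19 : orderOf g19 = 19 :=
  orderOf_eq_prime (hp := ⟨by norm_num⟩) (gj_pow_one (by decide +kernel)) (by
    have := gj_ne (w1 := [0, 3]) (w2 := []) 1 ok1 (by decide +kernel)
    exact this)

theorem order_g15 : orderOf g15 = 15 := by
  refine orderOf_eq_of_pow_and_pow_div_prime (by norm_num) (gj_pow_one (by decide +kernel)) ?_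
  intro p hp hpd
  have h15 : p ∣ 3 * 5 := hpd
  rcases (Nat.Prime.dvd_mul hp).1 h15 with h | h
  · have := (Nat.prime_dvd_prime_iff_eq hp (by norm_num)).1 h
    subst this
    exact gj_pow_ne (w := [0, 1, 1, 2, 1, 1]) 1 ok1 (by decide +kernel)
  · have := (Nat.prime_dvd_prime_iff_eq hp (by norm_num)).1 h
    subst this
    exact gj_pow_ne (w := [0, 1, 1, 2, 1, 1]) 1 ok1 (by decide +kernel)

theorem cent7 : Nat.card (Subgroup.centralizer ({g7} : Set JJ)) ≤ 7 :=
  cent_card (w := [0]) (M := Mx) okMx (by decide +kernel) (n0 := 4730437777826873606144)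
    (by decide +kernel) (c1 := 6) (c2 := 1) (by norm_num) (by norm_num) (by decide +kernel)
    (k := 7) (by decide +kernel)
    (Wi := ⟨4728131653755016859651, 23614139946482261831681, 9451651621010486071301,
      28338811990817357451266, 18895231383495348592646, 23615291460680654282756,
      14168253777625965674501⟩) (by decide +kernel) (by decide +kernel)

theorem cent11 : Nat.card (Subgroup.centralizer ({g11} : Set JJ)) ≤ 11 :=
  cent_card (w := [0, 1, 1]) (M := ⟨42505912283645098360840, 47227125282747445149698,
      47223667643858653552643, 33065790722930345279496, 37788155235612542124040,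
      9225905861451350020, 28336507555664164302848⟩) (by decide +kernel) (by decide +kernel)
    (n0 := 18894079587890715697152)
    (by decide +kernel) (c1 := 7) (c2 := 10) (by norm_num) (by norm_num) (by decide +kernel)
    (k := 11) (by decide +kernel)
    (Wi := ⟨23619903709786608275457, 28334200868023811743745, 4723519967461661229061,
      14174018666830118297610, 9451651339604212072458, 18895230820614081089539,
      28334201430698987892737⟩) (by decide +kernel) (by decide +kernel)

theorem cent15 : Nat.card (Subgroup.centralizer ({g15} : Set JJ)) ≤ 15 :=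
  cent_card (w := [0, 1, 1, 2, 1, 1]) (M := ⟨18899844195688594309126, 23614138539244850794498,
      23614139383463622492166, 42509370204215108968450, 33062329987610601078785,
      37787002313901726523398, 33060026396401167527940⟩) (by decide +kernel) (by decide +kernel)
    (n0 := 47225971234655652806656)
    (by decide +kernel) (c1 := 3) (c2 := 3) (by norm_num) (by norm_num) (by decide +kernel)
    (k := 15) (by decide +kernel)
    (Wi := ⟨42512827561216556691461, 9455109259693102505991, 14177477994225256636417,
      42508217282847941070854, 33056565662043579912196, 33062331677079003754502,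
      6919781308608557056⟩) (by decide +kernel) (by decide +kernel)

theorem cent19 : Nat.card (Subgroup.centralizer ({g19} : Set JJ)) ≤ 19 :=
  cent_card (w := [0, 3]) (M := ⟨9445888702543587979267, 47224820002688201666569,
      47227126408509929852929, 37780087036811371614209, 47227125845147693092867,
      37782391191108298223617, 37789310971935719428099⟩) (by decide +kernel) (by decide +kernel)
    (n0 := 47225971234655652806656)
    (by decide +kernel) (c1 := 1) (c2 := 1) (by norm_num) (by norm_num) (by decide +kernel)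
    (k := 19) (by decide +kernel)
    (Wi := ⟨37780084784530605477891, 47228277077939761217538, 42507063235305870983177,
      33066943362959874760714, 4723519967942697586694, 18896384305137411182598,
      23614138539176097767433⟩) (by decide +kernel) (by decide +kernel)

/-- the elementary abelian subgroup of order 8 -/
def e0 : JJ := gj [0, 1, 0, 3]
def e1 : JJ := gj [0, 0, 1, 0, 3, 2]
def e2 : JJ := gj [0, 0, 0, 1, 0, 3, 2, 2]

theorem e0_sq : e0 ^ 2 = 1 := gj_pow_one (by decide +kernel)
theorem e1_sq : e1 ^ 2 = 1 := gj_pow_one (by decide +kernel)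
theorem e2_sq : e2 ^ 2 = 1 := gj_pow_one (by decide +kernel)
theorem e01 : e0 * e1 = e1 * e0 := gj_comm (by decide +kernel)
theorem e02 : e0 * e2 = e2 * e0 := gj_comm (by decide +kernel)
theorem e12 : e1 * e2 = e2 * e1 := gj_comm (by decide +kernel)
theorem x_e0 : g7 * e0 * g7⁻¹ = e1 := by
  rw [mul_inv_eq_iff_eq_mul]
  change gj [0] * gj _ = gj _ * gj [0]
  rw [← gj_append, ← gj_append]
  exact gj_eq (by decide +kernel)
theorem x_e1 : g7 * e1 * g7⁻¹ = e2 := by
  rw [mul_inv_eq_iff_eq_mul]
  change gj [0] * gj _ = gj _ * gj [0]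
  rw [← gj_append, ← gj_append]
  exact gj_eq (by decide +kernel)
theorem x_e2 : g7 * e2 * g7⁻¹ = e0 * e1 := by
  rw [mul_inv_eq_iff_eq_mul]
  change gj [0] * gj _ = gj _ * gj _ * gj [0]
  rw [← gj_append, ← gj_append, ← gj_append]
  exact gj_eq (by decide +kernel)

def EE : Subgroup JJ := Subgroup.closure {e0, e1, e2}

theorem EE_comm : ∀ a ∈ EE, ∀ b ∈ EE, a * b = b * a := by
  have h : ∀ a ∈ ({e0, e1, e2} : Set JJ), ∀ b ∈ ({e0, e1, e2} : Set JJ), a * b = b * a := by
    rintro a (rfl | rfl | rfl) b (rfl | rfl | rfl)
    exacts [rfl, e01, e02, e01.symm, rfl, e12, e02.symm, e12.symm, rfl]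
  intro a ha b hb
  exact (Subgroup.isMulCommutative_closure h).is_comm.comm ⟨a, ha⟩ ⟨b, hb⟩ |> congrArg Subtype.val

theorem EE_sq : ∀ a ∈ EE, a ^ 2 = 1 := by
  intro a ha
  induction ha using Subgroup.closure_induction with
  | mem a h =>
    rcases h with rfl | rfl | rfl
    exacts [e0_sq, e1_sq, e2_sq]
  | one => simp
  | mul a b ha hb h1 h2 =>
    rw [(show Commute a b from EE_comm a ha b hb).mul_pow, h1, h2, one_mul]
  | inv a _ h => rw [inv_pow, h, inv_one]

theorem e0_mem : e0 ∈ EE := Subgroup.subset_closure (by simp)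
theorem e1_mem : e1 ∈ EE := Subgroup.subset_closure (by simp)
theorem e2_mem : e2 ∈ EE := Subgroup.subset_closure (by simp)

theorem eight_dvd_EE : 8 ∣ Nat.card EE := by
  classical
  haveI : Finite JJ := inferInstance
  have hp : IsPGroup 2 EE := by
    intro a
    exact ⟨1, by
      apply Subtype.ext
      have := EE_sq a.1 a.2
      simpa using this⟩
  obtain ⟨n, hn⟩ := (IsPGroup.iff_card (p := 2)).1 hp
  have h5 : 5 ≤ Nat.card EE := by
    have hsub : ({1, e0, e1, e2, e0 * e1} : Finset JJ) ⊆ (EE : Set JJ).toFinite.toFinset := by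
      intro z hz
      simp only [Finset.mem_insert, Finset.mem_singleton] at hz
      rw [Set.Finite.mem_toFinset]
      rcases hz with rfl | rfl | rfl | rfl | rfl
      exacts [one_mem _, e0_mem, e1_mem, e2_mem, mul_mem e0_mem e1_mem]
    have h1 := Finset.card_le_card hsub
    have h2 : ({1, e0, e1, e2, e0 * e1} : Finset JJ).card = 5 := by
      have n1 : (1 : JJ) ≠ e0 := gj_ne (w1 := []) 1 ok1 (by decide +kernel)
      have n2 : (1 : JJ) ≠ e1 := gj_ne (w1 := []) 1 ok1 (by decide +kernel)
      have n3 : (1 : JJ) ≠ e2 :=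
        gj_ne (w1 := []) 16777216 (by decide +kernel) (by decide +kernel)
      have n4 : (1 : JJ) ≠ e0 * e1 := by
        change gj [] ≠ gj _ * gj _
        rw [← gj_append]
        exact gj_ne 4096 (by decide +kernel) (by decide +kernel)
      have n5 : e0 ≠ e1 := gj_ne 4096 (by decide +kernel) (by decide +kernel)
      have n6 : e0 ≠ e2 := gj_ne 1 ok1 (by decide +kernel)
      have n7 : e0 ≠ e0 * e1 := by
        intro h
        exact n2 (mul_left_cancel (by rw [mul_one]; exact h) : (1 : JJ) = e1)
      have n8 : e1 ≠ e2 := gj_ne 1 ok1 (by decide +kernel)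
      have n9 : e1 ≠ e0 * e1 := by
        intro h
        exact n1 (mul_right_cancel (by rw [one_mul]; exact h) : (1 : JJ) = e0)
      have n10 : e2 ≠ e0 * e1 := by
        change gj _ ≠ gj _ * gj _
        rw [← gj_append]
        exact gj_ne 4096 (by decide +kernel) (by decide +kernel)
      rw [Finset.card_insert_of_notMem (by simp [n1, n2, n3, n4]),
        Finset.card_insert_of_notMem (by
          simp only [Finset.mem_insert, Finset.mem_singleton, not_or]; exact ⟨n5, n6, n7⟩),
        Finset.card_insert_of_notMem (by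
          simp only [Finset.mem_insert, Finset.mem_singleton, not_or]; exact ⟨n8, n9⟩),
        Finset.card_insert_of_notMem (by
          simp only [Finset.mem_singleton]; exact n10), Finset.card_singleton]
    rw [h2] at h1
    rwa [← Set.ncard_eq_toFinset_card, ← Nat.card_coe_set_eq] at h1
  have h3 : 3 ≤ n := by
    by_contra h
    have : n ≤ 2 := by omega
    have h4 : 2 ^ n ≤ 2 ^ 2 := Nat.pow_le_pow_right (by norm_num) this
    omega
  rw [hn]
  exact pow_dvd_pow 2 h3

theorem two_card_le : 2 * Nat.card JJ ≤ Nat.card KK := by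
  classical
  have hneg : ∀ z : GG, -1 * z = -z := fun z => by simp
  let f : Bool × JJ → KK := fun p =>
    ⟨(if p.1 then 1 else -1) * p.2.1, by
      refine mul_mem ?_ (J1_le_KK p.2.2)
      split_ifs
      · exact one_mem _
      · exact neg_one_mem⟩
  have hf : Function.Injective f := by
    rintro ⟨a, g⟩ ⟨b, h⟩ hab
    have h1 : (if a then (1 : GG) else -1) * g.1 = (if b then (1 : GG) else -1) * h.1 :=
      congrArg Subtype.val hab
    cases a <;> cases b
    · simp only [Bool.false_eq_true, if_false] at h1
      exact Prod.ext rfl (Subtype.ext (mul_left_cancel h1))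
    · exfalso
      simp only [Bool.false_eq_true, if_false, if_true, one_mul] at h1
      apply neg_one_notMem
      have : (-1 : GG) = h.1 * g.1⁻¹ := by rw [← h1]; group
      rw [this]
      exact mul_mem h.2 (inv_mem g.2)
    · exfalso
      simp only [Bool.false_eq_true, if_false, if_true, one_mul] at h1
      apply neg_one_notMem
      have : (-1 : GG) = g.1 * h.1⁻¹ := by rw [h1]; group
      rw [this]
      exact mul_mem g.2 (inv_mem h.2)
    · simp only [if_true, one_mul] at h1
      exact Prod.ext rfl (Subtype.ext h1)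
  have := Nat.card_le_card_of_injective f hf
  rwa [Nat.card_prod, Nat.card_eq_fintype_card (α := Bool), Fintype.card_bool] at this

theorem card_J1 : Nat.card JJ = 175560 := by
  have h1 := two_card_le.trans card_KK
  have h7 := orderOf_dvd_natCard g7
  rw [order_g7] at h7
  have h11 := orderOf_dvd_natCard g11
  rw [order_g11] at h11
  have h15 := orderOf_dvd_natCard g15
  rw [order_g15] at h15
  have h19 := orderOf_dvd_natCard g19
  rw [order_g19] at h19
  have h8 : 8 ∣ Nat.card JJ := eight_dvd_EE.trans (Subgroup.card_subgroup_dvd_card EE)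
  have h0 : 0 < Nat.card JJ := Nat.card_pos
  generalize Nat.card JJ = n at *
  have hd1 : 7 * 11 ∣ n := Nat.Coprime.mul_dvd_of_dvd_of_dvd (by norm_num) h7 h11
  have hd2 : 7 * 11 * 15 ∣ n := Nat.Coprime.mul_dvd_of_dvd_of_dvd (by norm_num) hd1 h15
  have hd3 : 7 * 11 * 15 * 19 ∣ n := Nat.Coprime.mul_dvd_of_dvd_of_dvd (by norm_num) hd2 h19
  have hd4 : 7 * 11 * 15 * 19 * 8 ∣ n := Nat.Coprime.mul_dvd_of_dvd_of_dvd (by norm_num) hd3 h8
  obtain ⟨k, rfl⟩ := hd4
  have hk : k = 1 := by omega
  subst hk
  norm_num

end CfsgLib.Jone
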