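import Cfsg.Agent.LibJone7
import Cfsg.Prelude.Def_Sporadic

/-!
The Janko group: simplicity and element orders.
-/

set_option autoImplicit false
set_option maxRecDepth 100000

namespace CfsgLib.Jone

open Subgroup

section gen

variable {G : Type*} [Group G] [Finite G]

/-- elements of order `p` when `p² ∤ |G|` -/
theorem exists_conj_pow {p : ℕ} [hp : Fact p.Prime] (hG : ¬ p ^ 2 ∣ Nat.card G) {g h : G}
    (hg : orderOf g = p) (hh : orderOf h = p) : ∃ t : G, t * h * t⁻¹ ∈ zpowers g := by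
  have hcard : ∀ k : G, orderOf k = p → Nat.card (zpowers k) = p ^ (Nat.card G).factorization p := by
    intro k hk
    have h1 : p ∣ Nat.card G := hk ▸ orderOf_dvd_natCard k
    have h2 : (Nat.card G).factorization p = 1 := by
      apply le_antisymm
      · by_contra hlt
        apply hG
        exact (hp.out.pow_dvd_iff_le_factorization Nat.card_pos.ne').2 (by omega)
      · exact (hp.out.dvd_iff_one_le_factorization Nat.card_pos.ne').1 h1
    rw [Nat.card_zpowers, hk, h2, pow_one]
  let P : Sylow p G := Sylow.ofCard (zpowers g) (hcard g hg)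
  let Q : Sylow p G := Sylow.ofCard (zpowers h) (hcard h hh)
  obtain ⟨t, ht⟩ := MulAction.exists_smul_eq G Q P
  refine ⟨t, ?_⟩
  have h1 : t * h * t⁻¹ ∈ (P : Subgroup G) := by
    rw [← ht]
    exact Subgroup.smul_mem_pointwise_smul h (MulAut.conj t) (Q : Subgroup G) (mem_zpowers h)
  exact h1

theorem card_cent_conj (t h : G) : Nat.card (centralizer ({h} : Set G)) ≤
    Nat.card (centralizer ({t * h * t⁻¹} : Set G)) := by
  let f : centralizer ({h} : Set G) → centralizer ({t * h * t⁻¹} : Set G) := fun c =>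
    ⟨t * c.1 * t⁻¹, by
      rw [mem_centralizer_singleton_iff]
      have := mem_centralizer_singleton_iff.1 c.2
      calc t * c.1 * t⁻¹ * (t * h * t⁻¹) = t * (c.1 * h) * t⁻¹ := by group
        _ = t * (h * c.1) * t⁻¹ := by rw [this]
        _ = t * h * t⁻¹ * (t * c.1 * t⁻¹) := by group⟩
  apply Nat.card_le_card_of_injective f
  intro a b hab
  have h1 : t * a.1 * t⁻¹ = t * b.1 * t⁻¹ := congrArg Subtype.val hab
  exact Subtype.ext (mul_left_cancel (mul_right_cancel h1))

theorem card_cent_of_mem {g h : G} (hh : h ∈ zpowers g) (ho : orderOf h = orderOf g) :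
    Nat.card (centralizer ({h} : Set G)) ≤ Nat.card (centralizer ({g} : Set G)) := by
  have h1 : zpowers h = zpowers g := by
    apply Subgroup.eq_of_le_of_card_ge
    · rwa [zpowers_le]
    · rw [Nat.card_zpowers, Nat.card_zpowers, ho]
  have h2 : g ∈ zpowers h := h1 ▸ mem_zpowers g
  apply Subgroup.card_le_of_le
  intro c hc
  rw [mem_centralizer_singleton_iff] at hc ⊢
  obtain ⟨k, rfl⟩ := mem_zpowers_iff.1 h2
  exact ((show Commute c h from hc).zpow_right k).eq

theorem card_cent_le {p : ℕ} [hp : Fact p.Prime] (hG : ¬ p ^ 2 ∣ Nat.card G) {g h : G}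
    (hg : orderOf g = p) (hh : orderOf h = p) :
    Nat.card (centralizer ({h} : Set G)) ≤ Nat.card (centralizer ({g} : Set G)) := by
  obtain ⟨t, ht⟩ := exists_conj_pow hG hg hh
  refine (card_cent_conj t h).trans (card_cent_of_mem ht ?_)
  rw [hg, show t * h * t⁻¹ = MulAut.conj t h from rfl, MulEquiv.orderOf_eq, hh]

theorem order_eq_of_dvd {p : ℕ} [hp : Fact p.Prime] (hG : ¬ p ^ 2 ∣ Nat.card G) {g h : G}
    (hg : orderOf g = p) (hc : Nat.card (centralizer ({g} : Set G)) ≤ p) (hh : p ∣ orderOf h) :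
    orderOf h = p := by
  have h1 : orderOf (h ^ (orderOf h / p)) = p := orderOf_pow_orderOf_div (orderOf_pos h).ne' hh
  have h2 := (card_cent_le hG hg h1).trans hc
  have h3 : h ∈ centralizer ({h ^ (orderOf h / p)} : Set G) := by
    rw [mem_centralizer_singleton_iff]
    exact ((Commute.refl h).pow_right _).eq
  have h4 : orderOf h ≤ p := by
    calc orderOf h = Nat.card (zpowers h) := (Nat.card_zpowers h).symm
      _ ≤ Nat.card (centralizer ({h ^ (orderOf h / p)} : Set G)) :=
        Subgroup.card_le_of_le (by rwa [zpowers_le])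
      _ ≤ p := h2
  exact le_antisymm h4 (Nat.le_of_dvd (orderOf_pos h) hh)

/-- fixed point free action on a normal subgroup -/
theorem normal_card_mod {p : ℕ} [hp : Fact p.Prime] {g : G} (hg : orderOf g = p)
    (hc : Nat.card (centralizer ({g} : Set G)) ≤ p) (N : Subgroup G) [N.Normal]
    (hN : ¬ p ∣ Nat.card N) : Nat.card N ≡ 1 [MOD p] := by
  have hce : centralizer ({g} : Set G) = zpowers g := by
    symm
    apply Subgroup.eq_of_le_of_card_ge
    · rw [zpowers_le, mem_centralizer_singleton_iff]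
    · rw [Nat.card_zpowers, hg]; exact hc
  let P : Subgroup (ConjAct G) := zpowers (ConjAct.toConjAct g)
  have hP : IsPGroup p P := IsPGroup.of_card (n := 1) (by
    rw [Nat.card_zpowers, pow_one, ← hg]
    exact MulEquiv.orderOf_eq ConjAct.toConjAct g)
  have h1 := hP.card_modEq_card_fixedPoints N
  have h2 : Nat.card (MulAction.fixedPoints P N) = 1 := by
    rw [Nat.card_eq_one_iff_unique]
    refine ⟨⟨fun a b => ?_⟩, ⟨⟨1, fun x => smul_one _⟩⟩⟩
    have key : ∀ a : MulAction.fixedPoints P N, a.1.1 = 1 := by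
      intro a
      have h3 := a.2 ⟨ConjAct.toConjAct g, mem_zpowers _⟩
      have h4 : g * a.1.1 * g⁻¹ = a.1.1 := congrArg Subtype.val h3
      have h5 : a.1.1 ∈ zpowers g := by
        rw [← hce, mem_centralizer_singleton_iff]
        rw [mul_inv_eq_iff_eq_mul] at h4
        exact h4.symm
      have h6 : orderOf a.1.1 ∣ p := by
        have := orderOf_dvd_natCard (⟨a.1.1, h5⟩ : zpowers g)
        rwa [Nat.card_zpowers, hg, Subgroup.orderOf_mk] at this
      have h7 : orderOf a.1.1 ∣ Nat.card N := by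
        have := orderOf_dvd_natCard a.1
        rwa [Subgroup.orderOf_coe]
      rcases (Nat.dvd_prime hp.out).1 h6 with h8 | h8
      · exact orderOf_eq_one_iff.1 h8
      · exact absurd (h8 ▸ h7) hN
    exact Subtype.ext (Subtype.ext ((key a).trans (key b).symm))
  rwa [h2] at h1

end gen

theorem n7 : ¬ 7 ^ 2 ∣ Nat.card JJ := by rw [card_J1]; norm_num
theorem n11 : ¬ 11 ^ 2 ∣ Nat.card JJ := by rw [card_J1]; norm_num
theorem n19 : ¬ 19 ^ 2 ∣ Nat.card JJ := by rw [card_J1]; norm_num
theorem n3 : ¬ 3 ^ 2 ∣ Nat.card JJ := by rw [card_J1]; norm_num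
theorem n5 : ¬ 5 ^ 2 ∣ Nat.card JJ := by rw [card_J1]; norm_num

instance f7 : Fact (Nat.Prime 7) := ⟨by norm_num⟩
instance f11 : Fact (Nat.Prime 11) := ⟨by norm_num⟩
instance f19 : Fact (Nat.Prime 19) := ⟨by norm_num⟩
instance f5 : Fact (Nat.Prime 5) := ⟨by norm_num⟩

theorem card_EE : Nat.card EE = 8 := by
  have hp : IsPGroup 2 EE := by
    intro a
    exact ⟨1, by
      apply Subtype.ext
      have := EE_sq a.1 a.2
      simpa using this⟩
  obtain ⟨n, hn⟩ := (IsPGroup.iff_card (p := 2)).1 hp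
  have h1 : Nat.card EE ∣ 175560 := card_J1 ▸ Subgroup.card_subgroup_dvd_card EE
  have h2 := eight_dvd_EE
  rw [hn] at h1 h2 ⊢
  have h3 : n ≤ 3 := by
    by_contra hlt
    have h4 : 2 ^ 4 ∣ 175560 := (pow_dvd_pow 2 (by omega)).trans h1
    norm_num at h4
  have h5 : 3 ≤ n := by
    by_contra hlt
    have h6 := Nat.le_of_dvd (by positivity) h2
    have : n ≤ 2 := by omega
    have h7 : 2 ^ n ≤ 2 ^ 2 := Nat.pow_le_pow_right (by norm_num) this
    omega
  have : n = 3 := by omega
  rw [this]; norm_num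

/-- `EE` is a Sylow 2-subgroup. -/
noncomputable def SE : Sylow 2 JJ := Sylow.ofCard EE (by
  rw [card_EE, card_J1]
  have : (175560 : ℕ).factorization 2 = 3 := by
    rw [show 175560 = 2 ^ 3 * 21945 by norm_num, Nat.factorization_mul (by norm_num) (by norm_num),
      Finsupp.add_apply, Nat.Prime.factorization_pow Nat.prime_two, Finsupp.single_eq_same,
      Nat.factorization_eq_zero_of_not_dvd (show ¬ 2 ∣ 21945 by norm_num)]
  rw [this]; norm_num)

theorem SE_coe : (SE : Subgroup JJ) = EE := rfl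

theorem pow_of_two {h : JJ} {n : ℕ} (hh : h ^ (2 ^ n) = 1) : h ^ 2 = 1 := by
  have hp : IsPGroup 2 (zpowers h) := by
    rintro ⟨a, ha⟩
    obtain ⟨k, rfl⟩ := mem_zpowers_iff.1 ha
    refine ⟨n, Subtype.ext ?_⟩
    change (h ^ k) ^ (2 ^ n) = 1
    rw [← zpow_natCast, ← zpow_mul, mul_comm, zpow_mul, zpow_natCast, hh, one_zpow]
  obtain ⟨Q, hQ⟩ := hp.exists_le_sylow
  obtain ⟨t, ht⟩ := MulAction.exists_smul_eq JJ Q SE
  have h1 : t * h * t⁻¹ ∈ (SE : Subgroup JJ) := by
    rw [← ht]
    exact Subgroup.smul_mem_pointwise_smul h (MulAut.conj t) (Q : Subgroup JJ) (hQ (mem_zpowers h))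
  have h2 := EE_sq _ h1
  rw [conj_pow] at h2
  rwa [mul_inv_eq_one, mul_eq_left] at h2

theorem gj0 : gj [0] = ⟨Cfsg.Spor.jankoX, gl_mem 0⟩ := Subtype.ext (mul_one _)
theorem gj1 : gj [1] = ⟨Cfsg.Spor.jankoY, gl_mem 1⟩ := Subtype.ext (mul_one _)

theorem simple_J1 : IsSimpleGroup JJ := by
  haveI : Nontrivial JJ := by
    rw [← Finite.one_lt_card_iff_nontrivial, card_J1]; norm_num
  refine ⟨fun N hN => ?_⟩
  by_cases hbot : N = ⊥
  · exact Or.inl hbot
  right
  have hx7 : (gj [0]) ^ 7 = 1 := gj_pow_one (by decide +kernel)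
  have hy5 : (gj [1]) ^ 5 = 1 := gj_pow_one (by decide +kernel)
  -- if the two generators lie in N then N = ⊤
  have htop : gj [0] ∈ N → gj [1] ∈ N → N = ⊤ := by
    intro hx hy
    rw [eq_top_iff]
    rintro ⟨g, hg⟩ -
    induction hg using Subgroup.closure_induction with
    | mem g hg' =>
      rcases hg' with h | h
      · subst h
        rw [gj0] at hx
        exact hx
      · have h' : g = Cfsg.Spor.jankoY := h
        subst h'
        rw [gj1] at hy
        exact hy
    | one => exact one_mem _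
    | mul a b ha hb h1 h2 => exact mul_mem h1 h2
    | inv a ha h1 => exact inv_mem h1
  -- pass to the quotient
  let π := QuotientGroup.mk' N
  have hq : ∀ g : JJ, g ∈ N ↔ π g = 1 := fun g => (QuotientGroup.eq_one_iff g).symm
  have hX : (π (gj [0])) ^ 7 = 1 := by rw [← map_pow, hx7, map_one]
  have hY : (π (gj [1])) ^ 5 = 1 := by rw [← map_pow, hy5, map_one]
  have hyinv : gj [3] = (gj [1])⁻¹ := by
    apply eq_inv_of_mul_eq_one_left
    rw [← gj_append, ← gj_nil]
    exact gj_eq (by decide +kernel)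
  have conj_mem : ∀ {p : ℕ} [Fact p.Prime] (_ : ¬ p ^ 2 ∣ Nat.card JJ) {g : JJ}
      (_ : orderOf g = p) (_ : p ∣ Nat.card N), g ∈ N := by
    intro p _ hG g hg hpN
    obtain ⟨⟨h, hhN⟩, hh⟩ := exists_prime_orderOf_dvd_card' p hpN
    rw [Subgroup.orderOf_mk] at hh
    obtain ⟨t, ht⟩ := exists_conj_pow hG hh hg
    have h1 : t * g * t⁻¹ ∈ N := (zpowers_le.2 hhN) ht
    have := hN.conj_mem _ h1 t⁻¹
    rwa [inv_inv, show t⁻¹ * (t * g * t⁻¹) * t = g by group] at this
  by_cases h7 : 7 ∣ Nat.card N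
  · have hx : gj [0] ∈ N := conj_mem n7 order_g7 h7
    have h1 : (gj [0, 1, 1]) ^ 11 = 1 := by
      have := pow_orderOf_eq_one g11
      rwa [order_g11] at this
    have h2 : gj [0, 1, 1] = gj [0] * gj [1] * gj [1] := by
      rw [← gj_append, ← gj_append]; rfl
    have h3 : (π (gj [1])) ^ 22 = 1 := by
      have := congrArg π h1
      rw [map_pow, h2, map_mul, map_mul, (hq _).1 hx, one_mul, map_one] at this
      calc (π (gj [1])) ^ 22 = (π (gj [1]) * π (gj [1])) ^ 11 := by
            rw [← pow_two, ← pow_mul]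
        _ = 1 := this
    have hy : gj [1] ∈ N := by
      rw [hq]
      calc π (gj [1]) = (π (gj [1])) ^ (5 * 9) * ((π (gj [1])) ^ 22 * (π (gj [1])) ^ 22)⁻¹ := by
            rw [← pow_add, ← div_eq_mul_inv, eq_div_iff_mul_eq', ← pow_succ']
        _ = 1 := by rw [h3, pow_mul, hY]; simp
    exact htop hx hy
  by_cases h11 : 11 ∣ Nat.card N
  · have h1 : gj [0, 1, 1] ∈ N := conj_mem n11 order_g11 h11
    have h2 : gj [0, 1, 1] = gj [0] * gj [1] * gj [1] := by
      rw [← gj_append, ← gj_append]; rfl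
    have h3 : π (gj [0]) = (π (gj [1]) ^ 2)⁻¹ := by
      have := (hq _).1 h1
      rw [h2, map_mul, map_mul, mul_assoc] at this
      rw [pow_two]
      exact eq_inv_of_mul_eq_one_left this
    have h4 : π (gj [1]) = 1 := by
      rw [h3, inv_pow, inv_eq_one, ← pow_mul] at hX
      calc π (gj [1]) = (π (gj [1])) ^ (5 * 3) * ((π (gj [1])) ^ (2 * 7))⁻¹ := by
            rw [← div_eq_mul_inv, eq_div_iff_mul_eq', ← pow_succ']
        _ = 1 := by rw [hX, pow_mul, hY]; simp
    have h5 : π (gj [0]) = 1 := by rw [h3, h4]; simp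
    exact htop ((hq _).2 h5) ((hq _).2 h4)
  by_cases h19 : 19 ∣ Nat.card N
  · have h1 : gj [0, 3] ∈ N := conj_mem n19 order_g19 h19
    have h2 : gj [0, 3] = gj [0] * (gj [1])⁻¹ := by
      rw [← hyinv, ← gj_append]; rfl
    have h3 : π (gj [0]) = π (gj [1]) := by
      have := (hq _).1 h1
      rw [h2, map_mul, map_inv] at this
      exact mul_inv_eq_one.1 this
    have h4 : π (gj [1]) = 1 := by
      rw [h3] at hX
      calc π (gj [1]) = (π (gj [1])) ^ (5 * 3) * ((π (gj [1])) ^ (7 * 2))⁻¹ := by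
            rw [← div_eq_mul_inv, eq_div_iff_mul_eq', ← pow_succ']
        _ = 1 := by rw [pow_mul, pow_mul, hX, hY]; simp
    have h5 : π (gj [0]) = 1 := by rw [h3, h4]
    exact htop ((hq _).2 h5) ((hq _).2 h4)
  exfalso
  have m11 := normal_card_mod order_g11 cent11 N h11
  have m19 := normal_card_mod order_g19 cent19 N h19
  have hd : Nat.card N ∣ 175560 := card_J1 ▸ Subgroup.card_subgroup_dvd_card N
  have hd2 : Nat.card N ∣ 120 := by
    have e1 : Nat.Coprime (Nat.card N) 7 := ((Nat.Prime.coprime_iff_not_dvd (by norm_num)).2 h7).symm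
    have e2 : Nat.Coprime (Nat.card N) 11 := ((Nat.Prime.coprime_iff_not_dvd (by norm_num)).2 h11).symm
    have e3 : Nat.Coprime (Nat.card N) 19 := ((Nat.Prime.coprime_iff_not_dvd (by norm_num)).2 h19).symm
    have e4 : Nat.Coprime (Nat.card N) (7 * 11 * 19) := (e1.mul_right e2).mul_right e3
    exact e4.dvd_of_dvd_mul_right (by norm_num; exact hd)
  have hle := Nat.le_of_dvd (by norm_num) hd2
  apply hbot
  rw [← Subgroup.card_eq_one]
  have h0 : 0 < Nat.card N := Nat.card_pos
  generalize Nat.card N = n at *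
  unfold Nat.ModEq at m11 m19
  clear hd hd2
  omega

theorem isJ1 : Cfsg.IsJ1 JJ := ⟨simple_J1, card_J1⟩

end CfsgLib.Jone
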