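import Cfsg.Agent.LibSchur

/-! Finiteness of the Schur multiplier, complements of the multiplier, and covering groups. -/

set_option autoImplicit false
set_option linter.style.haveILetI false
set_option linter.unusedSectionVars false

namespace CfsgLib.Schur

open Subgroup
open scoped commutatorElement

universe u v w

/-- If a central subgroup has finite index then the commutator subgroup is finite. -/
theorem finite_commutator {Γ : Type u} [Group Γ] (Z : Subgroup Γ) (hZ : Z ≤ center Γ) [Z.FiniteIndex] :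
    Finite (commutator Γ) := by
  haveI : Finite (Γ ⧸ Z) := Subgroup.finite_quotient_of_finiteIndex
  have : Finite (commutatorSet Γ) := by
    let f : (Γ ⧸ Z) × (Γ ⧸ Z) → Γ := fun a => ⁅a.1.out, a.2.out⁆
    refine Set.Finite.subset (Set.finite_range f) ?_
    rintro _ ⟨a, b, rfl⟩
    refine ⟨(QuotientGroup.mk a, QuotientGroup.mk b), ?_⟩
    have ha : ∃ z ∈ center Γ, (QuotientGroup.mk a : Γ ⧸ Z).out = a * z := by
      obtain ⟨z, hz⟩ := QuotientGroup.mk_out_eq_mul Z a
      exact ⟨z, hZ z.2, hz⟩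
    have hb : ∃ z ∈ center Γ, (QuotientGroup.mk b : Γ ⧸ Z).out = b * z := by
      obtain ⟨z, hz⟩ := QuotientGroup.mk_out_eq_mul Z b
      exact ⟨z, hZ z.2, hz⟩
    obtain ⟨z, hz, hz'⟩ := ha
    obtain ⟨w, hw, hw'⟩ := hb
    change ⁅(QuotientGroup.mk a : Γ ⧸ Z).out, (QuotientGroup.mk b : Γ ⧸ Z).out⁆ = _
    rw [hz', hw', comm_of_central hz hw]
  infer_instance

section

variable (Q : Type u) [Group Q]

instance [Finite Q] : (e Q).ker.FiniteIndex := by
  have h : Finite (E Q ⧸ (e Q).ker) :=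
    Finite.of_equiv _ (QuotientGroup.quotientKerEquivOfSurjective (e Q) (e_surj Q)).symm.toEquiv
  exact Subgroup.finiteIndex_of_finite_quotient

instance finite_comm [Finite Q] : Finite (commutator (E Q)) :=
  finite_commutator (e Q).ker (e_central Q)

instance finite_MS [Finite Q] : Finite (MS Q) :=
  Finite.of_injective (inclusion (MS_le_comm Q)) (inclusion_injective _)

/-- The abelianization of `E Q` is free abelian. -/
noncomputable def abEquiv : Abelianization (FreeGroup Q) ≃* Abelianization (E Q) :=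
  MulEquiv.ofBijective (Abelianization.map (toE Q)) (by
    constructor
    · rw [injective_iff_map_eq_one]
      intro x hx
      obtain ⟨x, rfl⟩ := QuotientGroup.mk'_surjective _ x
      change Abelianization.map (toE Q) (Abelianization.of x) = 1 at hx
      rw [Abelianization.map_of] at hx
      have h1 : toE Q x ∈ commutator (E Q) := (QuotientGroup.eq_one_iff _).mp hx
      have h2 : commutator (E Q) = (commutator (FreeGroup Q)).map (toE Q) := by
        rw [_root_.commutator_def, _root_.commutator_def, Subgroup.map_commutator,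
          Subgroup.map_top_of_surjective _ (toE_surj Q)]
      rw [h2] at h1
      obtain ⟨y, hy, hyx⟩ := h1
      have h3 : y⁻¹ * x ∈ KK Q := by
        rw [← ker_toE, MonoidHom.mem_ker, map_mul, map_inv, hyx, inv_mul_cancel]
      have h4 : x ∈ commutator (FreeGroup Q) := by
        have : x = y * (y⁻¹ * x) := by group
        rw [this]; exact mul_mem hy (KK_le_comm Q h3)
      exact (QuotientGroup.eq_one_iff _).mpr h4
    · intro x
      obtain ⟨x, rfl⟩ := QuotientGroup.mk'_surjective _ x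
      obtain ⟨x, rfl⟩ := toE_surj Q x
      exact ⟨Abelianization.of x, Abelianization.map_of (toE Q) x⟩)

/-- a `ℤ`-basis of the abelianization -/
noncomputable def abBasis : Module.Basis Q ℤ (Additive (Abelianization (E Q))) :=
  (FreeAbelianGroup.basis Q).map
    (AddEquiv.toIntLinearEquiv (MulEquiv.toAdditive (abEquiv Q) : FreeAbelianGroup Q ≃+ _))

/-- Complements inside subgroups of the kernel. -/
theorem exists_complement [Finite Q] (T : Subgroup (E Q)) (hT : T ≤ (e Q).ker) :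
    ∃ S ≤ T, S ⊓ commutator (E Q) = ⊥ ∧ S ⊔ (T ⊓ commutator (E Q)) = T := by
  letI : CommGroup T :=
    { (inferInstance : Group T) with
      mul_comm := fun a b => Subtype.ext (mem_center_iff.mp (e_central Q (hT b.2)) a) }
  let f : Additive T →ₗ[ℤ] Additive (Abelianization (E Q)) :=
    (MonoidHom.toAdditive (Abelianization.of.comp T.subtype)).toIntLinearMap
  have hf : ∀ t : T, f (Additive.ofMul t) = Additive.ofMul (Abelianization.of (t : E Q)) := fun t => rfl
  obtain ⟨n, ⟨b⟩⟩ := Submodule.nonempty_basis_of_pid (abBasis Q) (LinearMap.range f)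
  haveI : Module.Free ℤ (LinearMap.range f) := Module.Free.of_basis b
  obtain ⟨h, hh⟩ := LinearMap.exists_rightInverse_of_surjective f.rangeRestrict f.range_rangeRestrict
  have hh' : ∀ n : LinearMap.range f, f (h n) = (n : Additive (Abelianization (E Q))) := fun n => by
    have := LinearMap.congr_fun hh n
    exact congrArg Subtype.val this
  let S : Subgroup (E Q) :=
    { carrier := {x | ∃ n : LinearMap.range f, ((Additive.toMul (h n) : T) : E Q) = x}
      mul_mem' := by
        rintro a b ⟨m, rfl⟩ ⟨n, rfl⟩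
        exact ⟨m + n, by rw [map_add, toMul_add, Subgroup.coe_mul]⟩
      one_mem' := ⟨0, by rw [map_zero, toMul_zero, Subgroup.coe_one]⟩
      inv_mem' := by
        rintro a ⟨m, rfl⟩
        exact ⟨-m, by rw [map_neg, toMul_neg, Subgroup.coe_inv]⟩ }
  have memS : ∀ x, x ∈ S ↔ ∃ n : LinearMap.range f, ((Additive.toMul (h n) : T) : E Q) = x := fun x => Iff.rfl
  have hST : S ≤ T := by
    rintro x ⟨n, rfl⟩
    exact (Additive.toMul (h n) : T).2
  have of_eq_one : ∀ x : E Q, Abelianization.of x = 1 ↔ x ∈ commutator (E Q) := fun x => QuotientGroup.eq_one_iff x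
  refine ⟨S, hST, ?_, ?_⟩
  · rw [eq_bot_iff]
    rintro x ⟨⟨n, rfl⟩, hx0⟩
    have hx : ((Additive.toMul (h n) : T) : E Q) ∈ commutator (E Q) := hx0
    rw [← of_eq_one] at hx
    have h1 : f (h n) = 0 := by
      change f (Additive.ofMul (Additive.toMul (h n))) = 0
      rw [hf, hx]; rfl
    rw [hh' n] at h1
    have h2 : n = 0 := Subtype.ext h1
    rw [mem_bot, h2, map_zero]; rfl
  · apply le_antisymm
    · exact sup_le hST inf_le_left
    · intro t ht
      let n : LinearMap.range f := ⟨f (Additive.ofMul ⟨t, ht⟩), LinearMap.mem_range_self f _⟩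
      have h1 := hh' n
      have h2 : t = ((Additive.toMul (h n) : T) : E Q) * (((Additive.toMul (h n) : T) : E Q)⁻¹ * t) := by group
      rw [h2]
      refine mul_mem (mem_sup_left ⟨n, rfl⟩) (mem_sup_right (Subgroup.mem_inf.mpr ⟨mul_mem (inv_mem (Additive.toMul (h n) : T).2) ht, ?_⟩))
      rw [← of_eq_one, map_mul, map_inv, inv_mul_eq_one]
      exact h1

/-- Covers inside: `S ≤ T` a complement of the multiplier. -/
theorem exists_cover_le [Finite Q] (T : Subgroup (E Q)) (hT : T ≤ (e Q).ker) (hTM : T ⊔ MS Q = (e Q).ker) :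
    ∃ S ≤ T, S ⊓ commutator (E Q) = ⊥ ∧ S ⊔ MS Q = (e Q).ker := by
  obtain ⟨S, hST, h1, h2⟩ := exists_complement Q T hT
  refine ⟨S, hST, h1, ?_⟩
  apply le_antisymm
  · exact sup_le (hST.trans hT) (MS_le_ker Q)
  · rw [← hTM, ← h2]
    refine sup_le (sup_le le_sup_left ?_) le_sup_right
    refine le_trans ?_ le_sup_right
    exact le_inf (inf_le_left.trans hT) inf_le_right

theorem exists_cover [Finite Q] :
    ∃ S ≤ (e Q).ker, S ⊓ commutator (E Q) = ⊥ ∧ S ⊔ MS Q = (e Q).ker :=
  exists_cover_le Q (e Q).ker le_rfl (sup_eq_left.mpr (MS_le_ker Q))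

theorem normal_of_le_ker {S : Subgroup (E Q)} (hS : S ≤ (e Q).ker) : S.Normal :=
  ⟨fun n hn g => by rw [mem_center_iff.mp (e_central Q (hS hn)) g, mul_inv_cancel_right]; exact hn⟩

end

section cover

variable {Q : Type u} [Group Q] (S : Subgroup (E Q)) [S.Normal] (hS : S ≤ (e Q).ker)

/-- The extension `E Q / S → Q`. -/
def sg : E Q ⧸ S →* Q := QuotientGroup.lift S (e Q) (fun _ hx => (MonoidHom.mem_ker).mp (hS hx))

theorem sg_mk (x : E Q) : sg S hS (QuotientGroup.mk' S x) = e Q x := rfl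

theorem sg_comp : (sg S hS).comp (QuotientGroup.mk' S) = e Q := MonoidHom.ext fun x => sg_mk S hS x

theorem sg_surj : Function.Surjective (sg S hS) := fun q => by
  obtain ⟨x, hx⟩ := e_surj Q q
  exact ⟨QuotientGroup.mk' S x, by rw [sg_mk, hx]⟩

theorem ker_sg : (sg S hS).ker = (e Q).ker.map (QuotientGroup.mk' S) := by
  apply le_antisymm
  · intro x hx
    obtain ⟨x, rfl⟩ := QuotientGroup.mk'_surjective S x
    exact mem_map_of_mem _ hx
  · rintro _ ⟨x, hx, rfl⟩
    exact hx

theorem sg_central : (sg S hS).ker ≤ center (E Q ⧸ S) := by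
  rw [ker_sg]
  rintro _ ⟨x, hx, rfl⟩
  rw [mem_center_iff]
  intro y
  obtain ⟨y, rfl⟩ := QuotientGroup.mk'_surjective S y
  rw [← map_mul, ← map_mul, mem_center_iff.mp (e_central Q hx) y]

variable (hsup : S ⊔ MS Q = (e Q).ker)

include hsup in
theorem ker_sg' : (sg S hS).ker = (MS Q).map (QuotientGroup.mk' S) := by
  rw [ker_sg, ← hsup, Subgroup.map_sup, QuotientGroup.map_mk'_self, bot_sup_eq]

include hsup in
theorem sg_stem : Cfsg.IsStemExtension (sg S hS) := by
  refine ⟨sg_surj S hS, sg_central S hS, ?_⟩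
  rw [ker_sg' S hS hsup]
  rintro _ ⟨x, hx, rfl⟩
  have h1 := MS_le_comm Q hx
  have h2 : (commutator (E Q)).map (QuotientGroup.mk' S) ≤ commutator (E Q ⧸ S) := by
    rw [_root_.commutator_def, _root_.commutator_def, Subgroup.map_commutator]
    exact commutator_mono le_top le_top
  exact h2 (mem_map_of_mem _ h1)

include hsup in
/-- For a complement `S` of the multiplier the kernel of `E Q / S → Q` is the multiplier. -/
theorem kerEquiv (hinf : S ⊓ commutator (E Q) = ⊥) : Nonempty (M Q ≃* (sg S hS).ker) := by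
  have hmem : ∀ x : M Q, QuotientGroup.mk' S (x : E Q) ∈ (sg S hS).ker := by
    intro x
    rw [ker_sg' S hS hsup]
    exact mem_map_of_mem _ x.2
  let f : M Q →* (sg S hS).ker := ((QuotientGroup.mk' S).comp (MS Q).subtype).codRestrict _ hmem
  refine ⟨MulEquiv.ofBijective f ⟨?_, ?_⟩⟩
  · rw [injective_iff_map_eq_one]
    intro x hx
    have h1 : QuotientGroup.mk' S (x : E Q) = 1 := congrArg Subtype.val hx
    have h2 : (x : E Q) ∈ S := (QuotientGroup.eq_one_iff _).mp h1
    have h3 : (x : E Q) ∈ S ⊓ commutator (E Q) := Subgroup.mem_inf.mpr ⟨h2, MS_le_comm Q x.2⟩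
    rw [hinf, mem_bot] at h3
    exact Subtype.ext h3
  · rintro ⟨x, hx⟩
    rw [ker_sg' S hS hsup] at hx
    obtain ⟨y, hy, rfl⟩ := hx
    exact ⟨⟨y, hy⟩, Subtype.ext rfl⟩

theorem finite_of_ker {Γ : Type v} [Group Γ] {P : Type w} [Group P] [Finite P] (σ : Γ →* P)
    (h : Finite σ.ker) : Finite Γ := by
  haveI : Finite (Γ ⧸ σ.ker) := Finite.of_injective (QuotientGroup.kerLift σ) (QuotientGroup.kerLift_injective σ)
  exact Finite.of_equiv _ (Subgroup.groupEquivQuotientProdSubgroup (s := σ.ker)).symm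

include hS hsup in
theorem finite_sg [Finite Q] : Finite (E Q ⧸ S) := by
  apply finite_of_ker (sg S hS)
  rw [ker_sg' S hS hsup]
  haveI : Finite (MS Q) := finite_MS Q
  refine Finite.of_surjective (fun x : MS Q => (⟨QuotientGroup.mk' S x, mem_map_of_mem _ x.2⟩ :
    (MS Q).map (QuotientGroup.mk' S))) ?_
  rintro ⟨_, x, hx, rfl⟩
  exact ⟨⟨x, hx⟩, rfl⟩

end cover

section main

variable {Q : Type u} [Group Q]

theorem hasSchur_M [Finite Q] : Cfsg.HasSchurMultiplier Q (M Q) := by
  obtain ⟨S, hS, hinf, hsup⟩ := exists_cover Q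
  haveI := normal_of_le_ker Q hS
  refine ⟨⟨E Q ⧸ S, inferInstance, finite_sg S hS hsup, sg S hS, sg_stem S hS hsup, ?_⟩, ?_⟩
  · obtain ⟨f⟩ := kerEquiv S hS hsup hinf
    exact ⟨f.symm⟩
  · intro Γ _ _ σ hσ
    exact exists_surj σ hσ

theorem finite_of_hasSchur {A : Type v} [CommGroup A] (h : Cfsg.HasSchurMultiplier Q A) : Finite Q := by
  obtain ⟨⟨Γ, _, _, σ, hσ, -⟩, -⟩ := h
  exact Finite.of_surjective σ hσ.1

theorem bij_of_surj {A : Type v} {B : Type w} [Group A] [Group B] [Finite A] (f : A →* B) (g : B →* A)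
    (hf : Function.Surjective f) (hg : Function.Surjective g) : Nonempty (A ≃* B) := by
  haveI : Finite B := Finite.of_surjective f hf
  have h1 : Nat.card B ≤ Nat.card A := Nat.card_le_card_of_surjective f hf
  have h2 : Nat.card A ≤ Nat.card B := Nat.card_le_card_of_surjective g hg
  exact ⟨MulEquiv.ofBijective f ((Nat.bijective_iff_surjective_and_card f).mpr ⟨hf, by omega⟩)⟩

theorem equiv_of_hasSchur {A : Type v} [CommGroup A] (h : Cfsg.HasSchurMultiplier Q A) :
    Nonempty (M Q ≃* A) := by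
  haveI := finite_of_hasSchur h
  obtain ⟨⟨Γ, _, _, σ, hσ, ⟨ε⟩⟩, h2⟩ := h
  obtain ⟨f, hf⟩ := exists_surj σ hσ
  obtain ⟨S, hS, hinf, hsup⟩ := exists_cover Q
  haveI := normal_of_le_ker Q hS
  haveI := finite_sg S hS hsup
  obtain ⟨g, hg⟩ := h2 (E Q ⧸ S) (sg S hS) (sg_stem S hS hsup)
  obtain ⟨δ⟩ := kerEquiv S hS hsup hinf
  exact bij_of_surj (ε.toMonoidHom.comp f) (δ.symm.toMonoidHom.comp g) (ε.surjective.comp hf)
    (δ.symm.surjective.comp hg)

theorem hasSchur_of_equiv [Finite Q] {A : Type v} [CommGroup A] (ε : M Q ≃* A) :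
    Cfsg.HasSchurMultiplier Q A := by
  obtain ⟨⟨Γ, _, _, σ, hσ, ⟨δ⟩⟩, h2⟩ := hasSchur_M (Q := Q)
  refine ⟨⟨Γ, ‹_›, ‹_›, σ, hσ, ⟨δ.trans ε⟩⟩, ?_⟩
  intro Δ _ _ τ hτ
  obtain ⟨f, hf⟩ := h2 Δ τ hτ
  exact ⟨f.comp ε.symm.toMonoidHom, hf.comp ε.symm.surjective⟩

theorem hasSchur_iff [Finite Q] {A : Type v} [CommGroup A] :
    Cfsg.HasSchurMultiplier Q A ↔ Nonempty (M Q ≃* A) :=
  ⟨equiv_of_hasSchur, fun ⟨ε⟩ => hasSchur_of_equiv ε⟩

/-- Trivial multiplier. -/
theorem hasCyclic_one_iff [Finite Q] : Cfsg.HasCyclicSchurMultiplier Q 1 ↔ MS Q = ⊥ := by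
  unfold Cfsg.HasCyclicSchurMultiplier
  rw [hasSchur_iff]
  constructor
  · rintro ⟨ε⟩
    rw [← Subgroup.card_eq_one, Nat.card_congr ε.toEquiv]
    simp
  · intro h
    haveI : Subsingleton (M Q) := by
      change Subsingleton (MS Q); rw [h]; infer_instance
    haveI : Unique (Multiplicative (ZMod 1)) := ⟨⟨1⟩, fun a => Subsingleton.elim (α := ZMod 1) _ _⟩
    haveI : Unique (M Q) := ⟨⟨1⟩, fun a => Subsingleton.elim _ _⟩
    exact ⟨MulEquiv.ofUnique (M := M Q) (N := Multiplicative (ZMod 1)) ⟩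

theorem hasCyclic_one_iff' [Finite Q] : Cfsg.HasCyclicSchurMultiplier Q 1 ↔
    ∀ (Γ : Type u) [Group Γ] [Finite Γ] (σ : Γ →* Q), Cfsg.IsStemExtension σ → σ.ker = ⊥ := by
  constructor
  · intro h Γ _ _ σ hσ
    obtain ⟨f, hf⟩ := h.2 Γ σ hσ
    rw [eq_bot_iff]
    intro x hx
    obtain ⟨y, hy⟩ := hf ⟨x, hx⟩
    obtain ⟨z, hz⟩ := hf 1
    have h3 : y = z := Subsingleton.elim (α := ZMod 1) y z
    rw [h3, hz] at hy
    exact (congrArg Subtype.val hy).symm
  · intro h
    rw [hasCyclic_one_iff]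
    obtain ⟨S, hS, hinf, hsup⟩ := exists_cover Q
    haveI := normal_of_le_ker Q hS
    haveI := finite_sg S hS hsup
    have h1 := h (E Q ⧸ S) (sg S hS) (sg_stem S hS hsup)
    obtain ⟨δ⟩ := kerEquiv S hS hsup hinf
    rw [← Subgroup.card_eq_one, Nat.card_congr δ.toEquiv, h1, Subgroup.card_bot]

end main

end CfsgLib.Schur
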