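import Cfsg.Agent.LibSuzM1
import Cfsg.Agent.LibSchur2
import Cfsg.Agent.LibH22SL2

set_option autoImplicit false
set_option maxHeartbeats 1000000

/-! Stem extensions and Sylow subgroups; alternating invariant maps on a finite field. -/

namespace CfsgLib.Mul

open Subgroup CfsgLib.SuzM

section gen

variable {Γ G : Type*} [Group Γ] [Group G] [Finite Γ] {σ : Γ →* G}

theorem mem_sylow_central {p : ℕ} [Fact p.Prime] (P : Sylow p Γ) {a : Γ}
    (ha : a ∈ Subgroup.center Γ) (hap : orderOf a = p) : a ∈ (P : Subgroup Γ) := by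
  have h1 : IsPGroup p (Subgroup.zpowers a) := IsPGroup.of_card (n := 1) (by rw [Nat.card_zpowers, hap, pow_one])
  obtain ⟨Q, hQ⟩ := h1.exists_le_sylow
  obtain ⟨g, hg⟩ := MulAction.exists_smul_eq Γ Q P
  have h2 : g * a * g⁻¹ ∈ (P : Subgroup Γ) := by
    rw [← hg]
    exact Subgroup.smul_mem_pointwise_smul a (MulAut.conj g) (Q : Subgroup Γ) (hQ (Subgroup.mem_zpowers a))
  rwa [Subgroup.mem_center_iff.1 ha g, mul_inv_cancel_right] at h2

/-- a stem extension is trivial if it is so over the Sylow subgroups -/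
theorem ker_eq_bot_of_local (hst : Cfsg.IsStemExtension σ)
    (h : ∀ (p : ℕ) [Fact p.Prime], ∃ P : Sylow p Γ, ∀ a ∈ σ.ker, a ∈ ⁅(P : Subgroup Γ), (P : Subgroup Γ)⁆ → a = 1) :
    σ.ker = ⊥ := by
  obtain ⟨hσ, hc, hcm⟩ := hst
  rw [eq_bot_iff]
  intro b hb
  rw [Subgroup.mem_bot]
  by_contra hb1
  have hord : orderOf b ≠ 1 := fun h => hb1 (orderOf_eq_one_iff.1 h)
  obtain ⟨p, hp, hpd⟩ := Nat.exists_prime_and_dvd hord
  haveI : Fact p.Prime := ⟨hp⟩
  obtain ⟨a, ha⟩ : ∃ a, a = b ^ (orderOf b / p) := ⟨_, rfl⟩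
  have hap : orderOf a = p := by rw [ha]; exact orderOf_pow_orderOf_div (orderOf_pos b).ne' hpd
  have hak : a ∈ σ.ker := by rw [ha]; exact σ.ker.pow_mem hb _
  have ha1 : a ≠ 1 := by
    intro h
    rw [h, orderOf_one] at hap
    exact hp.one_lt.ne hap
  apply ha1
  obtain ⟨P, hP⟩ := h p
  refine eq_one_of_transfer P (hc hak) (hcm hak) (mem_sylow_central _ (hc hak) hap) ?_
  intro k hk
  exact hP _ (σ.ker.pow_mem hak k) hk

theorem comm_bot_of_cyclic (hc : σ.ker ≤ center Γ) {p : ℕ} [Fact p.Prime] (P : Sylow p Γ)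
    (hcyc : ∀ R : Sylow p G, IsCyclic R) : ⁅(P : Subgroup Γ), (P : Subgroup Γ)⁆ = ⊥ := by
  obtain ⟨R, hR⟩ := (P.2.map σ).exists_le_sylow
  haveI := hcyc R
  haveI : IsCyclic ((P : Subgroup Γ).map σ) := Subgroup.isCyclic_of_le hR
  have hab : ∀ x y : (P : Subgroup Γ), x * y = y * x := by
    refine commutative_of_cyclic_center_quotient (σ.subgroupMap (P : Subgroup Γ)) ?_
    intro x hx
    rw [Subgroup.mem_center_iff]
    intro y
    apply Subtype.ext
    have h1 : (x : Γ) ∈ σ.ker := by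
      have := congrArg Subtype.val (MonoidHom.mem_ker.1 hx)
      exact this
    exact Subgroup.mem_center_iff.1 (hc h1) y
  rw [eq_bot_iff, Subgroup.commutator_le]
  intro x hx y hy
  have := congrArg Subtype.val (hab ⟨x, hx⟩ ⟨y, hy⟩)
  change x * y = y * x at this
  rw [Subgroup.mem_bot, commutatorElement_def, this]; group

theorem inf_bot_of_multiplier (hσ : Function.Surjective σ) (hc : σ.ker ≤ center Γ) {p : ℕ} [Fact p.Prime] (P : Sylow p Γ)
    (hQ : ∀ R : Sylow p G, ∃ (Q : Type) (_ : Group Q) (_ : Finite Q), Cfsg.HasCyclicSchurMultiplier Q 1 ∧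
      Nonempty ((R : Subgroup G) ≃* Q)) :
    ∀ a ∈ σ.ker, a ∈ ⁅(P : Subgroup Γ), (P : Subgroup Γ)⁆ → a = 1 := by
  obtain ⟨Q, _, _, hM, ⟨e⟩⟩ := hQ (P.mapSurjective hσ)
  have hmem : ∀ x : (P : Subgroup Γ), (σ.comp (P : Subgroup Γ).subtype) x ∈ ((P.mapSurjective hσ : Sylow p G) : Subgroup G) := by
    intro x
    rw [Sylow.coe_mapSurjective]
    exact ⟨x, x.2, rfl⟩
  let g0 : (P : Subgroup Γ) →* ((P.mapSurjective hσ : Sylow p G) : Subgroup G) :=
    (σ.comp (P : Subgroup Γ).subtype).codRestrict _ hmem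
  have hg0 : Function.Surjective g0 := by
    rintro ⟨y, hy⟩
    have hy' := hy
    rw [Sylow.coe_mapSurjective] at hy'
    obtain ⟨x, hx, hxy⟩ := hy'
    exact ⟨⟨x, hx⟩, Subtype.ext hxy⟩
  let g : (P : Subgroup Γ) →* Q := e.toMonoidHom.comp g0
  have hg : Function.Surjective g := e.surjective.comp hg0
  have hk : ∀ x : (P : Subgroup Γ), x ∈ g.ker ↔ (x : Γ) ∈ σ.ker := by
    intro x
    rw [MonoidHom.mem_ker, MonoidHom.mem_ker]
    change e (g0 x) = 1 ↔ _
    rw [EmbeddingLike.map_eq_one_iff]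
    exact Subtype.ext_iff
  have hgc : g.ker ≤ center (P : Subgroup Γ) := by
    intro x hx
    rw [Subgroup.mem_center_iff]
    intro y
    exact Subtype.ext (Subgroup.mem_center_iff.1 (hc ((hk x).1 hx)) y)
  have hMS := CfsgLib.Schur.hasCyclic_one_iff (Q := Q) |>.1 hM
  obtain ⟨φ, hφ⟩ := CfsgLib.Schur.exists_lift g hg hgc
  have h1 := CfsgLib.Schur.map_MS hgc hφ
  rw [hMS, Subgroup.map_bot] at h1
  intro a ha haP
  have haP' : a ∈ (P : Subgroup Γ) := by
    have : ⁅(P : Subgroup Γ), (P : Subgroup Γ)⁆ ≤ (P : Subgroup Γ) := Subgroup.commutator_le_self _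
    exact this haP
  have h5 : (commutator (P : Subgroup Γ)).map (P : Subgroup Γ).subtype = ⁅(P : Subgroup Γ), (P : Subgroup Γ)⁆ := by
    rw [commutator_def, Subgroup.map_commutator, ← MonoidHom.range_eq_map, Subgroup.range_subtype]
  rw [← h5] at haP
  obtain ⟨x, hx, hxa⟩ := haP
  have h2 : x ∈ (⊥ : Subgroup (P : Subgroup Γ)) := by
    rw [h1]
    refine Subgroup.mem_inf.2 ⟨(hk x).2 ?_, hx⟩
    change ((P : Subgroup Γ).subtype x) ∈ _
    rw [hxa]; exact ha
  rw [Subgroup.mem_bot] at h2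
  rw [← hxa, h2, map_one]

end gen

section bi

variable {F M : Type*} [Field F] [Fintype F] [CommGroup M]

theorem bi_zero_right {b : F → F → M} (hr : ∀ x y y', b x (y + y') = b x y * b x y') (x : F) : b x 0 = 1 := by
  have h1 := hr x 0 0
  rw [add_zero] at h1
  exact (mul_eq_left.1 h1.symm)

theorem bi_zero_left {b : F → F → M} (hl : ∀ x x' y, b (x + x') y = b x y * b x' y) (y : F) : b 0 y = 1 := by
  have h1 := hl 0 0 y
  rw [add_zero] at h1
  exact (mul_eq_left.1 h1.symm)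

theorem bi_prime {p : ℕ} (hp : p.Prime) [CharP F p] (hc : Fintype.card F = p) (b : F → F → M)
    (hl : ∀ x x' y, b (x + x') y = b x y * b x' y) (hr : ∀ x y y', b x (y + y') = b x y * b x y')
    (halt : ∀ x, b x x = 1) (x y : F) : b x y = 1 := by
  haveI : Fact p.Prime := ⟨hp⟩
  have hsurj : ∀ x : F, ∃ n : ℕ, x = (n : F) := by
    have hinj : Function.Injective (ZMod.castHom (dvd_refl p) F) := (ZMod.castHom (dvd_refl p) F).injective
    have hbij : Function.Bijective (ZMod.castHom (dvd_refl p) F) := by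
      rw [Fintype.bijective_iff_injective_and_card]
      exact ⟨hinj, by rw [ZMod.card, hc]⟩
    intro x
    obtain ⟨z, hz⟩ := hbij.2 x
    refine ⟨z.val, ?_⟩
    rw [← hz]
    conv_lhs => rw [← ZMod.natCast_zmod_val z]
    rw [map_natCast]
  obtain ⟨n, rfl⟩ := hsurj x
  obtain ⟨m, rfl⟩ := hsurj y
  have h1 : ∀ (n : ℕ) (y : F), b (n : F) y = b 1 y ^ n := by
    intro n y
    induction n with
    | zero => rw [Nat.cast_zero, bi_zero_left hl, pow_zero]
    | succ n ih => rw [Nat.cast_succ, hl, ih, pow_succ]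
  have h2 : ∀ (m : ℕ), b 1 (m : F) = b 1 1 ^ m := by
    intro m
    induction m with
    | zero => rw [Nat.cast_zero, bi_zero_right hr, pow_zero]
    | succ n ih => rw [Nat.cast_succ, hr, ih, pow_succ]
  rw [h1, h2, halt, one_pow, one_pow]

theorem exists_char_two (h : 4 < Fintype.card F) (h2 : (2 : F) = 0) :
    ∃ z : F, z ≠ 0 ∧ z + 1 ≠ 0 ∧ z ^ 2 + z + 1 ≠ 0 := by
  classical
  by_contra hcon
  push Not at hcon
  obtain ⟨P, hP⟩ : ∃ P : Polynomial F, P = Polynomial.X ^ 4 + Polynomial.X := ⟨_, rfl⟩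
  have hdeg : P.natDegree = 4 := by
    rw [hP]
    compute_degree!
  have hP0 : P ≠ 0 := by
    intro h0
    rw [h0, Polynomial.natDegree_zero] at hdeg
    omega
  have hroot : ∀ z : F, P.IsRoot z := by
    intro z
    rw [Polynomial.IsRoot.def, hP]
    simp only [Polynomial.eval_add, Polynomial.eval_pow, Polynomial.eval_X]
    by_cases h0 : z = 0
    · rw [h0]; ring
    · by_cases h1 : z + 1 = 0
      · have : z ^ 4 + z = z * ((z + 1) * (z ^ 2 - z + 1)) := by ring
        rw [this, h1]; ring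
      · have h3 := hcon z h0 h1
        have : z ^ 4 + z = z * ((z + 1) * ((z ^ 2 + z + 1) - 2 * z)) := by ring
        rw [this, h3, h2]; ring
  have h5 : Fintype.card F ≤ P.natDegree := by
    have h6 : (Finset.univ : Finset F) ⊆ P.roots.toFinset := by
      intro z _
      rw [Multiset.mem_toFinset, Polynomial.mem_roots hP0]
      exact hroot z
    calc Fintype.card F = (Finset.univ : Finset F).card := rfl
      _ ≤ P.roots.toFinset.card := Finset.card_le_card h6
      _ ≤ Multiset.card P.roots := Multiset.toFinset_card_le _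
      _ ≤ P.natDegree := Polynomial.card_roots' P
  omega

theorem exists_char_odd (h : 13 < Fintype.card F) :
    ∃ t : F, t ≠ 0 ∧ 1 - t ^ 2 ≠ 0 ∧ 1 + t ^ 2 ≠ 0 ∧
      (1 - t ^ 2) ^ 4 + (1 - t ^ 2) ^ 2 * (2 * t) ^ 2 + (2 * t) ^ 4 ≠ 0 := by
  classical
  by_contra hcon
  push Not at hcon
  obtain ⟨P, hP⟩ : ∃ P : Polynomial F, P = - Polynomial.X ^ 13 - Polynomial.C 13 * Polynomial.X ^ 9 +
    Polynomial.C 13 * Polynomial.X ^ 5 + Polynomial.X := ⟨_, rfl⟩
  have hdeg : P.natDegree = 13 := by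
    rw [hP]
    compute_degree!
  have hP0 : P ≠ 0 := by
    intro h0
    rw [h0, Polynomial.natDegree_zero] at hdeg
    omega
  have hroot : ∀ z : F, P.IsRoot z := by
    intro z
    rw [Polynomial.IsRoot.def, hP]
    simp only [Polynomial.eval_add, Polynomial.eval_sub, Polynomial.eval_neg, Polynomial.eval_mul, Polynomial.eval_C,
      Polynomial.eval_pow, Polynomial.eval_X]
    have hz : -z ^ 13 - 13 * z ^ 9 + 13 * z ^ 5 + z = z * (1 - z ^ 2) * (1 + z ^ 2) *
      ((1 - z ^ 2) ^ 4 + (1 - z ^ 2) ^ 2 * (2 * z) ^ 2 + (2 * z) ^ 4) := by ring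
    rw [hz]
    by_cases h0 : z = 0
    · rw [h0]; ring
    by_cases h1 : 1 - z ^ 2 = 0
    · rw [h1]; ring
    by_cases h2 : 1 + z ^ 2 = 0
    · rw [h2]; ring
    rw [hcon z h0 h1 h2, mul_zero]
  have h5 : Fintype.card F ≤ P.natDegree := by
    have h6 : (Finset.univ : Finset F) ⊆ P.roots.toFinset := by
      intro z _
      rw [Multiset.mem_toFinset, Polynomial.mem_roots hP0]
      exact hroot z
    calc Fintype.card F = (Finset.univ : Finset F).card := rfl
      _ ≤ P.roots.toFinset.card := Finset.card_le_card h6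
      _ ≤ Multiset.card P.roots := Multiset.toFinset_card_le _
      _ ≤ P.natDegree := Polynomial.card_roots' P
  omega

theorem bi_vanish (h4 : Fintype.card F ≠ 4) (h9 : Fintype.card F ≠ 9) (b : F → F → M)
    (hl : ∀ x x' y, b (x + x') y = b x y * b x' y) (hr : ∀ x y y', b x (y + y') = b x y * b x y')
    (halt : ∀ x, b x x = 1) (hinv : ∀ s x y, s ≠ 0 → b (s ^ 2 * x) (s ^ 2 * y) = b x y) (x y : F) : b x y = 1 := by
  obtain ⟨p, hchar⟩ := CharP.exists F
  obtain ⟨n, hp, hn⟩ := FiniteField.card F p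
  haveI : Fact p.Prime := ⟨hp⟩
  by_cases hn1 : (n : ℕ) = 1
  · rw [hn1, pow_one] at hn
    exact bi_prime hp hn b hl hr halt x y
  have hn2 : 2 ≤ (n : ℕ) := by
    have := n.pos
    omega
  by_cases hp2 : p = 2
  · subst hp2
    have h2 : (2 : F) = 0 := by
      have := CharP.cast_eq_zero F 2
      exact_mod_cast this
    have hcard : 4 < Fintype.card F := by
      rw [hn] at h4 ⊢
      rcases Nat.lt_or_ge (n : ℕ) 3 with h | h
      · have : (n : ℕ) = 2 := by omega
        rw [this] at h4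
        exact absurd rfl h4
      · calc 4 < 2 ^ 3 := by norm_num
          _ ≤ 2 ^ (n : ℕ) := Nat.pow_le_pow_right (by norm_num) h
    have hsq : ∀ a : F, ∃ c, c ^ 2 = a := by
      intro a
      obtain ⟨c, hc⟩ := FiniteField.isSquare_of_char_two (ringChar.eq_iff.2 hchar) a
      exact ⟨c, by rw [hc]; ring⟩
    obtain ⟨z, hz0, hz1, hz2⟩ := exists_char_two hcard h2
    refine bi_one h2 id rfl (fun s hs => hs) hz0 hz1 ?_ b hl hr ?_ x y
    · simp only [id]
      intro h
      apply hz2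
      have h3 : ((z + 1)⁻¹ + (z⁻¹ + 1)) * (z * (z + 1)) = z ^ 2 + z + 1 + 2 * z := by
        field_simp
        ring
      rw [h, zero_mul, h2, zero_mul, add_zero] at h3
      exact h3.symm
    · intro s x y hs
      obtain ⟨c, hc⟩ := hsq s
      have hc0 : c ≠ 0 := by
        rintro rfl
        apply hs
        rw [← hc]; ring
      simp only [id]
      rw [← hc]
      exact hinv c x y hc0
  · have h2 : (2 : F) ≠ 0 := by
      intro h
      have h3 : ((2 : ℕ) : F) = 0 := by exact_mod_cast h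
      rw [CharP.cast_eq_zero_iff F p] at h3
      exact hp2 ((Nat.prime_dvd_prime_iff_eq hp Nat.prime_two).1 h3)
    have hp3 : 3 ≤ p := by
      have := hp.two_le
      omega
    have hcard : 13 < Fintype.card F := by
      rw [hn] at h9 ⊢
      by_cases hp3' : p = 3
      · subst hp3'
        rcases Nat.lt_or_ge (n : ℕ) 3 with h | h
        · have : (n : ℕ) = 2 := by omega
          rw [this] at h9
          exact absurd rfl h9
        · calc 13 < 3 ^ 3 := by norm_num
            _ ≤ 3 ^ (n : ℕ) := Nat.pow_le_pow_right (by norm_num) h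
      · have hp4 : 4 ≤ p := by omega
        calc 13 < 4 ^ 2 := by norm_num
          _ ≤ p ^ 2 := Nat.pow_le_pow_left hp4 2
          _ ≤ p ^ (n : ℕ) := Nat.pow_le_pow_right (by omega) hn2
    obtain ⟨t, ht0, ht1, ht2, ht3⟩ := exists_char_odd hcard
    have h2t : 2 * t ≠ 0 := mul_ne_zero h2 ht0
    obtain ⟨u, hu⟩ : ∃ u, u = (1 - t ^ 2) / (2 * t) := ⟨_, rfl⟩
    obtain ⟨v, hv⟩ : ∃ v, v = (1 + t ^ 2) / (2 * t) := ⟨_, rfl⟩
    have hu0 : u ≠ 0 := by rw [hu]; exact div_ne_zero ht1 h2t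
    have hv0 : v ≠ 0 := by rw [hv]; exact div_ne_zero ht2 h2t
    have huv : u ^ 2 + 1 = v ^ 2 := by
      rw [hu, hv]
      field_simp
      ring
    have hne : u ^ 4 + u ^ 2 + 1 ≠ 0 := by
      intro h
      apply ht3
      have : (1 - t ^ 2) = u * (2 * t) := by rw [hu]; field_simp
      rw [this]
      linear_combination (2 * t) ^ 4 * h
    have hsq : ∀ s y, s ≠ 0 → b (s ^ 2) y = b 1 (y / s ^ 2) := by
      intro s y hs
      have h1 := hinv s 1 (y / s ^ 2) hs
      rw [mul_one, mul_div_cancel₀ _ (pow_ne_zero 2 hs)] at h1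
      exact h1
    have hone : ∀ y, b 1 y = 1 := by
      have h1 : ∀ y, b 1 ((1 / v ^ 2 - 1 / u ^ 2 - 1) * y) = 1 := by
        intro y
        have h3 := hl (u ^ 2) 1 y
        rw [huv, hsq v y hv0, hsq u y hu0, ← hr] at h3
        have h4 : y / v ^ 2 = (1 / v ^ 2 - 1 / u ^ 2 - 1) * y + (y / u ^ 2 + y) := by ring
        rw [h4, hr] at h3
        exact mul_eq_right.1 h3
      have h5 : (1 / v ^ 2 - 1 / u ^ 2 - 1) ≠ 0 := by
        intro h
        apply hne
        have h6 : (1 / v ^ 2 - 1 / u ^ 2 - 1) * (v ^ 2 * u ^ 2) = u ^ 2 - v ^ 2 - v ^ 2 * u ^ 2 := by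
          field_simp
        rw [h, zero_mul, ← huv] at h6
        linear_combination h6
      intro y
      have h6 := h1 ((1 / v ^ 2 - 1 / u ^ 2 - 1)⁻¹ * y)
      rw [mul_inv_cancel_left₀ h5] at h6
      exact h6
    have hsq1 : ∀ s y, b (s ^ 2) y = 1 := by
      intro s y
      by_cases hs : s = 0
      · rw [hs, zero_pow two_ne_zero]
        exact bi_zero_left hl y
      · rw [hsq s y hs, hone]
    have h7 := hl x (((x - 1) / 2) ^ 2) y
    have h8 : x + ((x - 1) / 2) ^ 2 = ((x + 1) / 2) ^ 2 := by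
      field_simp
      ring
    rw [h8, hsq1, hsq1, mul_one] at h7
    exact h7.symm

end bi

end CfsgLib.Mul
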