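import Cfsg.Agent.LibJone8
import Cfsg.Agent.LibMul1

/-!
The Schur multiplier of the Janko group is trivial.
-/

set_option autoImplicit false
set_option maxRecDepth 100000

namespace CfsgLib.Jone

open Subgroup

/-- central commutators in a group with lifts of the elementary abelian group of order 8 -/
theorem lift_comm {Γ : Type*} [Group Γ] [Finite Γ] {σ : Γ →* JJ} (hσ : Function.Surjective σ)
    (hc : σ.ker ≤ center Γ) : ∀ x y : Γ, σ x ∈ EE → σ y ∈ EE → x * y = y * x := by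
  obtain ⟨a, ha⟩ := hσ e0
  obtain ⟨b, hb⟩ := hσ e1
  obtain ⟨c, hcc⟩ := hσ e2
  obtain ⟨s, hs⟩ := hσ g7
  -- the commutator depends only on the images
  have hdep : ∀ x y x' y' : Γ, σ x = σ x' → σ y = σ y' →
      x * y * x⁻¹ * y⁻¹ = x' * y' * x'⁻¹ * y'⁻¹ := by
    intro x y x' y' h1 h2
    have hk : x' * x⁻¹ ∈ center Γ := hc (by rw [MonoidHom.mem_ker, map_mul, map_inv, h1, mul_inv_cancel])
    have hl : y' * y⁻¹ ∈ center Γ := hc (by rw [MonoidHom.mem_ker, map_mul, map_inv, h2, mul_inv_cancel])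
    obtain ⟨k, hk'⟩ : ∃ k, k = x' * x⁻¹ := ⟨_, rfl⟩
    obtain ⟨l, hl'⟩ : ∃ l, l = y' * y⁻¹ := ⟨_, rfl⟩
    rw [← hk'] at hk
    rw [← hl'] at hl
    have ex : x' = k * x := by rw [hk']; group
    have ey : y' = l * y := by rw [hl']; group
    have hkc : ∀ z, z * k = k * z := fun z => mem_center_iff.1 hk z
    have hlc : ∀ z, z * l = l * z := fun z => mem_center_iff.1 hl z
    rw [ex, ey]
    have h3 : k⁻¹ * y⁻¹ = y⁻¹ * k⁻¹ := by rw [← mul_inv_rev, ← mul_inv_rev, hkc]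
    have h4 : (x * y * x⁻¹ * y⁻¹) * (k * l) = (k * l) * (x * y * x⁻¹ * y⁻¹) := by
      rw [← mul_assoc, hkc, mul_assoc, hlc, ← mul_assoc]
    have h5 : (k * l) * (k⁻¹ * l⁻¹) = 1 := by rw [← hkc l]; group
    symm
    calc (k * x) * (l * y) * (k * x)⁻¹ * (l * y)⁻¹
        = k * (x * l) * y * x⁻¹ * (k⁻¹ * y⁻¹) * l⁻¹ := by group
      _ = k * (l * x) * y * x⁻¹ * (y⁻¹ * k⁻¹) * l⁻¹ := by rw [hlc x, h3]
      _ = (k * l) * (x * y * x⁻¹ * y⁻¹) * (k⁻¹ * l⁻¹) := by group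
      _ = (x * y * x⁻¹ * y⁻¹) * ((k * l) * (k⁻¹ * l⁻¹)) := by rw [← h4, mul_assoc]
      _ = x * y * x⁻¹ * y⁻¹ := by rw [h5, mul_one]
  -- images of commutators in the kernel
  have hsq : ∀ x y : Γ, σ x ∈ EE → σ y ∈ EE → (x * y * x⁻¹ * y⁻¹) ∈ σ.ker ∧
      (x * y * x⁻¹ * y⁻¹) * (x * y * x⁻¹ * y⁻¹) = 1 := by
    intro x y hx hy
    have hker : x * y * x⁻¹ * y⁻¹ ∈ σ.ker := by
      rw [MonoidHom.mem_ker, map_mul, map_mul, map_mul, map_inv, map_inv, EE_comm _ hx _ hy]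
      group
    refine ⟨hker, ?_⟩
    have hz := mem_center_iff.1 (hc hker)
    have hx2 : x * x ∈ center Γ := hc (by
      rw [MonoidHom.mem_ker, map_mul, ← pow_two]; exact EE_sq _ hx)
    have hx2c := mem_center_iff.1 hx2
    calc (x * y * x⁻¹ * y⁻¹) * (x * y * x⁻¹ * y⁻¹)
        = x * (x * y * x⁻¹ * y⁻¹) * y * x⁻¹ * y⁻¹ := by rw [hz x]; group
      _ = (x * x) * (y * (x * x)⁻¹) * (x * y⁻¹ * y * x⁻¹ * y⁻¹) := by group
      _ = 1 := by
          have h3 : y * (x * x)⁻¹ = (x * x)⁻¹ * y := by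
            rw [mul_inv_eq_iff_eq_mul, mul_assoc, hx2c y, inv_mul_cancel_left]
          rw [h3]; group
  have hab := hsq a b (ha ▸ e0_mem) (hb ▸ e1_mem)
  have hac := hsq a c (ha ▸ e0_mem) (hcc ▸ e2_mem)
  have hbc := hsq b c (hb ▸ e1_mem) (hcc ▸ e2_mem)
  have hconj : ∀ x y : Γ, σ x ∈ EE → σ y ∈ EE →
      x * y * x⁻¹ * y⁻¹ = (s * x * s⁻¹) * (s * y * s⁻¹) * (s * x * s⁻¹)⁻¹ * (s * y * s⁻¹)⁻¹ := by
    intro x y hx hy
    have hz := mem_center_iff.1 (hc (hsq x y hx hy).1) s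
    calc x * y * x⁻¹ * y⁻¹ = (x * y * x⁻¹ * y⁻¹) * s * s⁻¹ := by group
      _ = s * (x * y * x⁻¹ * y⁻¹) * s⁻¹ := by rw [hz]
      _ = _ := by group
  have h1 : a * b * a⁻¹ * b⁻¹ = b * c * b⁻¹ * c⁻¹ := by
    rw [hconj a b (ha ▸ e0_mem) (hb ▸ e1_mem)]
    apply hdep
    · rw [map_mul, map_mul, map_inv, hs, ha, hb, x_e0]
    · rw [map_mul, map_mul, map_inv, hs, hb, hcc, x_e1]
  have h2 : a * c * a⁻¹ * c⁻¹ = b * (a * b) * b⁻¹ * (a * b)⁻¹ := by
    rw [hconj a c (ha ▸ e0_mem) (hcc ▸ e2_mem)]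
    apply hdep
    · rw [map_mul, map_mul, map_inv, hs, ha, hb, x_e0]
    · rw [map_mul, map_mul, map_inv, hs, hcc, map_mul, ha, hb, x_e2]
  have h3 : b * c * b⁻¹ * c⁻¹ = c * (a * b) * c⁻¹ * (a * b)⁻¹ := by
    rw [hconj b c (hb ▸ e1_mem) (hcc ▸ e2_mem)]
    apply hdep
    · rw [map_mul, map_mul, map_inv, hs, hb, hcc, x_e1]
    · rw [map_mul, map_mul, map_inv, hs, hcc, map_mul, ha, hb, x_e2]
  -- write α = [a,b], β = [a,c], γ = [b,c]
  obtain ⟨α, hα⟩ : ∃ α, α = a * b * a⁻¹ * b⁻¹ := ⟨_, rfl⟩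
  obtain ⟨β, hβ⟩ : ∃ β, β = a * c * a⁻¹ * c⁻¹ := ⟨_, rfl⟩
  obtain ⟨γ, hγ⟩ : ∃ γ, γ = b * c * b⁻¹ * c⁻¹ := ⟨_, rfl⟩
  rw [← hα] at h1 hab
  rw [← hβ] at h2 hac
  rw [← hγ] at h1 h3 hbc
  have cα := mem_center_iff.1 (hc hab.1)
  have cβ := mem_center_iff.1 (hc hac.1)
  have cγ := mem_center_iff.1 (hc hbc.1)
  have eab : a * b = α * (b * a) := by rw [hα]; group
  have eac : a * c = β * (c * a) := by rw [hβ]; group
  have ebc : b * c = γ * (c * b) := by rw [hγ]; group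
  have h2' : β = α := by
    have eba : b * a = α * (a * b) := by
      calc b * a = α⁻¹ * (α * (b * a)) := by group
        _ = α * (a * b) := by rw [← eab, inv_eq_iff_mul_eq_one.2 hab.2]
    rw [h2]
    calc b * (a * b) * b⁻¹ * (a * b)⁻¹ = (b * a) * (a * b)⁻¹ := by group
      _ = α := by rw [eba]; group
  have h3' : γ = β * γ := by
    have hinv : ∀ {z : Γ}, z * z = 1 → z⁻¹ = z := fun h => inv_eq_iff_mul_eq_one.2 h
    have eca : c * a = β * (a * c) := by
      calc c * a = β⁻¹ * (β * (c * a)) := by group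
        _ = β * (a * c) := by rw [← eac, hinv hac.2]
    have ecb : c * b = γ * (b * c) := by
      calc c * b = γ⁻¹ * (γ * (c * b)) := by group
        _ = γ * (b * c) := by rw [← ebc, hinv hbc.2]
    have e6 : c * (a * b) = β * γ * (a * b * c) := by
      calc c * (a * b) = (c * a) * b := by group
        _ = β * a * (c * b) := by rw [eca]; group
        _ = β * (a * γ) * (b * c) := by rw [ecb]; group
        _ = β * γ * (a * b * c) := by rw [cγ a]; group
    have h7 : c * (a * b) * c⁻¹ * (a * b)⁻¹ = β * γ := by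
      calc c * (a * b) * c⁻¹ * (a * b)⁻¹ = β * γ * (a * b * c) * c⁻¹ * (a * b)⁻¹ := by rw [e6]
        _ = β * γ := by group
    exact h3.trans h7
  have hβ1 : β = 1 := by
    have : 1 * γ = β * γ := by rw [one_mul]; exact h3'
    exact (mul_right_cancel this).symm
  have hα1 : α = 1 := by rw [← h2', hβ1]
  have hγ1 : γ = 1 := by rw [← h1, hα1]
  rw [hα1, one_mul] at eab
  rw [hβ1, one_mul] at eac
  rw [hγ1, one_mul] at ebc
  -- the subgroup generated by a, b, c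
  let H : Subgroup Γ := Subgroup.closure {a, b, c}
  have hH : ∀ x ∈ H, ∀ y ∈ H, x * y = y * x := by
    have h : ∀ x ∈ ({a, b, c} : Set Γ), ∀ y ∈ ({a, b, c} : Set Γ), x * y = y * x := by
      rintro x (rfl | rfl | rfl) y (rfl | rfl | rfl)
      exacts [rfl, eab, eac, eab.symm, rfl, ebc, eac.symm, ebc.symm, rfl]
    intro x hx y hy
    exact (Subgroup.isMulCommutative_closure h).is_comm.comm ⟨x, hx⟩ ⟨y, hy⟩ |> congrArg Subtype.val
  have hmap : H.map σ = EE := by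
    change (Subgroup.closure {a, b, c}).map σ = Subgroup.closure {e0, e1, e2}
    rw [MonoidHom.map_closure, Set.image_insert_eq, Set.image_pair, ha, hb, hcc]
  intro x y hx hy
  rw [← hmap] at hx hy
  obtain ⟨x', hx', hxx⟩ := hx
  obtain ⟨y', hy', hyy⟩ := hy
  have h5 := hdep x y x' y' hxx.symm hyy.symm
  rw [hH x' hx' y' hy'] at h5
  have h6 : x * y * x⁻¹ * y⁻¹ = 1 := by rw [h5]; group
  rw [mul_inv_eq_one, mul_inv_eq_iff_eq_mul] at h6
  exact h6

theorem multiplier_J1 : Cfsg.HasCyclicSchurMultiplier JJ 1 := by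
  rw [CfsgLib.Schur.hasCyclic_one_iff']
  intro Γ _ _ σ hst
  apply CfsgLib.Mul.ker_eq_bot_of_local hst
  intro p hp
  by_cases hp2 : p = 2
  · subst hp2
    obtain ⟨P⟩ : Nonempty (Sylow 2 Γ) := inferInstance
    obtain ⟨R, hR⟩ := (P.2.map σ).exists_le_sylow
    obtain ⟨t, ht⟩ := MulAction.exists_smul_eq JJ R SE
    obtain ⟨u, hu⟩ := hst.1 t
    refine ⟨u • P, ?_⟩
    intro a ha haP
    have hle : ∀ z ∈ ((u • P : Sylow 2 Γ) : Subgroup Γ), σ z ∈ EE := by
      intro z hz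
      rw [Sylow.coe_subgroup_smul, Subgroup.mem_pointwise_smul_iff_inv_smul_mem] at hz
      have h1 : σ ((MulAut.conj u)⁻¹ • z) ∈ (R : Subgroup JJ) := hR ⟨_, hz, rfl⟩
      have h2 : t * σ ((MulAut.conj u)⁻¹ • z) * t⁻¹ ∈ (SE : Subgroup JJ) := by
        rw [← ht]
        exact Subgroup.smul_mem_pointwise_smul _ (MulAut.conj t) (R : Subgroup JJ) h1
      have h3 : (MulAut.conj u)⁻¹ • z = u⁻¹ * z * u := by
        rw [← map_inv, MulAut.smul_def, MulAut.conj_apply, inv_inv]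
      rw [h3, map_mul, map_mul, map_inv, hu] at h2
      have h4 : t * (t⁻¹ * σ z * t) * t⁻¹ = σ z := by group
      rwa [h4] at h2
    have hbot : ⁅((u • P : Sylow 2 Γ) : Subgroup Γ), ((u • P : Sylow 2 Γ) : Subgroup Γ)⁆ = ⊥ := by
      rw [eq_bot_iff, Subgroup.commutator_le]
      intro x hx y hy
      rw [Subgroup.mem_bot, commutatorElement_def,
        lift_comm hst.1 hst.2.1 x y (hle x hx) (hle y hy)]
      group
    rw [hbot] at haP
    exact Subgroup.mem_bot.1 haP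
  · obtain ⟨P⟩ : Nonempty (Sylow p Γ) := inferInstance
    refine ⟨P, ?_⟩
    intro a ha haP
    have hcyc : ∀ R : Sylow p JJ, IsCyclic R := by
      intro R
      have h1 : Nat.card R ∣ 175560 := card_J1 ▸ Subgroup.card_subgroup_dvd_card (R : Subgroup JJ)
      obtain ⟨n, hn⟩ := (IsPGroup.iff_card (p := p)).1 R.2
      have hn1 : n ≤ 1 := by
        by_contra hlt
        have h2 : p ^ 2 ∣ 175560 := (pow_dvd_pow p (by omega : 2 ≤ n)).trans (hn ▸ h1)
        have h3 : p ∣ 175560 := (dvd_pow_self p (by norm_num)).trans h2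
        have h4 : p ∣ 2 * 2 * 2 * 3 * 5 * 7 * 11 * 19 := by norm_num; exact h3
        have hpp := hp.out
        rw [hpp.dvd_mul, hpp.dvd_mul, hpp.dvd_mul, hpp.dvd_mul, hpp.dvd_mul, hpp.dvd_mul,
          hpp.dvd_mul] at h4
        have key : ∀ q : ℕ, q.Prime → p ∣ q → p = q := fun q hq h =>
          (Nat.prime_dvd_prime_iff_eq hpp hq).1 h
        rcases h4 with ((((((h | h) | h) | h) | h) | h) | h) | h
        · exact hp2 (key _ (by norm_num) h)
        · exact hp2 (key _ (by norm_num) h)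
        · exact hp2 (key _ (by norm_num) h)
        · have := key _ (by norm_num) h; subst this; norm_num at h2
        · have := key _ (by norm_num) h; subst this; norm_num at h2
        · have := key _ (by norm_num) h; subst this; norm_num at h2
        · have := key _ (by norm_num) h; subst this; norm_num at h2
        · have := key _ (by norm_num) h; subst this; norm_num at h2
      rcases Nat.lt_or_ge n 1 with h0 | h0
      · have h2 : Nat.card R = 1 := by
          rw [hn, show n = 0 by omega, pow_zero]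
        haveI : Subsingleton R := (Nat.card_eq_one_iff_unique.1 h2).1
        exact isCyclic_of_subsingleton
      · exact isCyclic_of_prime_card (p := p) (by rw [hn, show n = 1 by omega, pow_one])
    rw [CfsgLib.Mul.comm_bot_of_cyclic hst.2.1 P hcyc] at haP
    exact Subgroup.mem_bot.1 haP

end CfsgLib.Jone
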