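import Mathlib
import Cfsg.Agent.LibFusionH12
import Cfsg.Agent.LibDihedral
import Cfsg.Agent.LibCores
import Cfsg.Agent.LibH13
import Cfsg.Prelude.Def_CaseTheorems

/-! 2-groups with an involution whose centralizer has order 4. -/

set_option autoImplicit false

namespace CfsgLib.MaxClassH12

open Subgroup Cfsg

universe u

/-- in a 2-group of order at least 4, every centralizer has order at least 4 -/
theorem four_le_card_centralizer {S : Type*} [Group S] [Finite S] (hS : IsPGroup 2 S)
    (h4 : 4 ≤ Nat.card S) (x : S) : 4 ≤ Nat.card (centralizer ({x} : Set S)) := by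
  have : Fact (Nat.Prime 2) := ⟨Nat.prime_two⟩
  have hnt : Nontrivial S := by
    rw [← Finite.one_lt_card_iff_nontrivial]; omega
  have hZ : Nontrivial (center S) := hS.center_nontrivial
  have hZC : center S ≤ centralizer ({x} : Set S) := Subgroup.center_le_centralizer _
  have hxC : x ∈ centralizer ({x} : Set S) := by
    rw [Subgroup.mem_centralizer_iff]; rintro _ rfl; rfl
  obtain ⟨k, hk⟩ := (hS.to_subgroup (centralizer ({x} : Set S))).exists_card_eq
  by_contra hlt
  push Not at hlt
  have h1 : 1 < Nat.card (center S) := Finite.one_lt_card_iff_nontrivial.2 hZ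
  have h2 : Nat.card (center S) ≤ Nat.card (centralizer ({x} : Set S)) := Subgroup.card_le_of_le hZC
  obtain ⟨j, hj⟩ := (hS.to_subgroup (center S)).exists_card_eq
  have hk1 : k = 1 := by
    rcases k with _ | _ | k
    · rw [pow_zero] at hk; omega
    · rfl
    · have : 2 ^ 2 ≤ 2 ^ (k + 1 + 1) := Nat.pow_le_pow_right (by norm_num) (by omega)
      omega
  rw [hk1, pow_one] at hk
  have h3 : center S = centralizer ({x} : Set S) := Subgroup.eq_of_le_of_card_ge hZC (by omega)
  have h4' : centralizer ({x} : Set S) = ⊤ := by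
    rw [← h3] at hxC
    rw [eq_top_iff]
    intro y _
    rw [Subgroup.mem_centralizer_iff]
    rintro _ rfl
    exact (Subgroup.mem_center_iff.1 hxC y).symm
  rw [h4', Subgroup.card_top] at hk
  omega

theorem star : ∀ (n : ℕ) (S : Type u) [Group S] [Finite S], Nat.card S = n → IsPGroup 2 S →
    ∀ x : S, orderOf x = 2 → Nat.card (centralizer ({x} : Set S)) = 4 → 8 ≤ Nat.card S →
      ∃ a : S, 2 * orderOf a = Nat.card S ∧ x ∉ zpowers a := by
  have : Fact (Nat.Prime 2) := ⟨Nat.prime_two⟩
  intro n
  induction n using Nat.strong_induction_on with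
  | _ n ih =>
  intro S _ _ hn hS x hx hC h8
  have hx1 : x ≠ 1 := by rintro rfl; simp at hx
  have hx2 : x * x = 1 := by rw [← pow_two, ← hx, pow_orderOf_eq_one]
  have hxi : x⁻¹ = x := inv_eq_of_mul_eq_one_left hx2
  have hnt : Nontrivial S := by
    rw [← Finite.one_lt_card_iff_nontrivial]; omega
  have hZ : Nontrivial (center S) := hS.center_nontrivial
  -- central involution
  obtain ⟨z, hzZ, hz⟩ : ∃ z ∈ center S, orderOf z = 2 := by
    have h1 : 2 ∣ Nat.card (center S) := by
      obtain ⟨j, hj⟩ := (hS.to_subgroup (center S)).exists_card_eq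
      rw [hj]
      apply dvd_pow_self
      rintro rfl
      rw [pow_zero] at hj
      have := Finite.one_lt_card_iff_nontrivial.2 hZ
      omega
    obtain ⟨z, hz⟩ := exists_prime_orderOf_dvd_card' 2 h1
    exact ⟨z, z.2, by rw [Subgroup.orderOf_coe, hz]⟩
  have hz1 : z ≠ 1 := by rintro rfl; simp at hz
  have hz2 : z * z = 1 := by rw [← pow_two, ← hz, pow_orderOf_eq_one]
  have hzi : z⁻¹ = z := inv_eq_of_mul_eq_one_left hz2
  have hzc : ∀ s : S, s * z = z * s := fun s => (Subgroup.mem_center_iff.1 hzZ s)
  have hxZ : x ∉ center S := by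
    intro h
    have h1 : centralizer ({x} : Set S) = ⊤ := by
      rw [eq_top_iff]
      intro y _
      rw [Subgroup.mem_centralizer_iff]
      rintro _ rfl
      exact (Subgroup.mem_center_iff.1 h y).symm
    rw [h1, Subgroup.card_top] at hC
    omega
  have hmemC : ∀ s : S, s ∈ centralizer ({x} : Set S) ↔ s * x = x * s := by
    intro s
    rw [Subgroup.mem_centralizer_iff]
    constructor
    · intro h; exact (h x rfl).symm
    · rintro h _ rfl; exact h.symm
  have hxz : x ≠ z := by rintro rfl; exact hxZ hzZ
  -- the centralizer is {1, z, x, xz}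
  have hV : ∀ s : S, s * x = x * s → s = 1 ∨ s = z ∨ s = x ∨ s = x * z := by
    intro s hs
    by_contra hcon
    push Not at hcon
    obtain ⟨h1, h2, h3, h4⟩ := hcon
    classical
    have hsub : ({1, z, x, x * z, s} : Finset S) ⊆ (Set.toFinite (centralizer ({x} : Set S) : Set S)).toFinset := by
      intro t ht
      rw [Set.Finite.mem_toFinset, SetLike.mem_coe, hmemC]
      simp only [Finset.mem_insert, Finset.mem_singleton] at ht
      rcases ht with rfl | rfl | rfl | rfl | rfl
      · rw [one_mul, mul_one]
      · exact (hzc x).symm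
      · rfl
      · rw [mul_assoc, ← hzc x]
      · exact hs
    have hcard := Finset.card_le_card hsub
    rw [← Set.ncard_eq_toFinset_card] at hcard
    have h5 : ((centralizer ({x} : Set S) : Set S)).ncard = 4 := hC
    rw [h5] at hcard
    have h6 : ({1, z, x, x * z, s} : Finset S).card = 5 := by
      rw [Finset.card_insert_of_notMem, Finset.card_insert_of_notMem, Finset.card_insert_of_notMem,
        Finset.card_insert_of_notMem, Finset.card_singleton]
      · simp only [Finset.mem_singleton]; exact fun h => h4 h.symm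
      · simp only [Finset.mem_insert, Finset.mem_singleton]
        push Not
        exact ⟨fun h => hz1 (by simpa using h.symm), fun h => h3 h.symm⟩
      · simp only [Finset.mem_insert, Finset.mem_singleton]
        push Not
        refine ⟨fun h => hxz h.symm, fun h => hx1 (by simpa using h.symm), fun h => h2 h.symm⟩
      · simp only [Finset.mem_insert, Finset.mem_singleton]
        push Not
        refine ⟨fun h => hz1 h.symm, fun h => hx1 h.symm, fun h => ?_, fun h => h1 h.symm⟩
        apply hxz
        rw [← hxi]
        exact inv_eq_of_mul_eq_one_right h.symm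
    omega
  have hVexp : ∀ s : S, s * x = x * s → s ^ 2 = 1 := by
    intro s hs
    rcases hV s hs with rfl | rfl | rfl | rfl
    · exact one_pow 2
    · rw [pow_two, hz2]
    · rw [pow_two, hx2]
    · rw [pow_two]
      calc x * z * (x * z) = x * (z * x) * z := by simp only [mul_assoc]
        _ = x * (x * z) * z := by rw [hzc x]
        _ = (x * x) * (z * z) := by simp only [mul_assoc]
        _ = 1 := by rw [hx2, hz2, one_mul]
  by_cases hcard8 : Nat.card S = 8
  · -- order 8
    obtain ⟨a, ha⟩ : ∃ a : S, a ^ 2 ≠ 1 := by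
      by_contra h
      push Not at h
      apply hxZ
      rw [Subgroup.mem_center_iff]
      intro g
      have h1 : g * g = 1 := by rw [← pow_two]; exact h g
      have h2 : (g * x) * (g * x) = 1 := by rw [← pow_two]; exact h _
      have h3 : g⁻¹ = g := inv_eq_of_mul_eq_one_left h1
      have h4 : (g * x)⁻¹ = g * x := inv_eq_of_mul_eq_one_left h2
      rw [mul_inv_rev, hxi, h3] at h4
      exact h4.symm
    obtain ⟨k, hk⟩ := (IsPGroup.iff_orderOf.1 hS) a
    have hdvd : orderOf a ∣ 2 ^ 3 := by
      have := orderOf_dvd_natCard a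
      rw [hcard8] at this
      exact this
    have hk3 : k ≤ 3 := by
      rw [hk] at hdvd
      exact (Nat.pow_dvd_pow_iff_le_right (by norm_num)).1 hdvd
    have hk2 : 2 ≤ k := by
      by_contra h
      apply ha
      rw [← orderOf_dvd_iff_pow_eq_one, hk]
      exact pow_dvd_pow 2 (show k ≤ 1 by omega)
    have hk_ne : k ≠ 3 := by
      rintro rfl
      apply hxZ
      have h1 : zpowers a = ⊤ := by
        apply Subgroup.eq_top_of_card_eq
        rw [Nat.card_zpowers, hk, hcard8]
        norm_num
      rw [Subgroup.mem_center_iff]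
      intro g
      have h2 : g ∈ zpowers a := by rw [h1]; trivial
      have h3 : x ∈ zpowers a := by rw [h1]; trivial
      obtain ⟨i, rfl⟩ := mem_zpowers_iff.1 h2
      obtain ⟨j, hj⟩ := mem_zpowers_iff.1 h3
      rw [← hj, ← zpow_add, ← zpow_add, add_comm]
    have hk' : k = 2 := by omega
    refine ⟨a, by rw [hk, hk', hcard8]; norm_num, ?_⟩
    intro hxa
    obtain ⟨i, hi⟩ := mem_zpowers_iff.1 hxa
    apply ha
    apply hVexp
    rw [← hi, ← zpow_one_add, ← zpow_add_one, add_comm]
  · -- order at least 16
    obtain ⟨N, hN⟩ := hS.exists_card_eq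
    have hN4 : 4 ≤ N := by
      by_contra h
      have h1 : N ≤ 3 := by omega
      have h2 : 2 ^ N ≤ 2 ^ 3 := Nat.pow_le_pow_right (by norm_num) h1
      omega
    have hzn : (zpowers z).Normal := by
      refine ⟨fun t ht g => ?_⟩
      obtain ⟨i, rfl⟩ := mem_zpowers_iff.1 ht
      have h1 : g * z ^ i * g⁻¹ = z ^ i := by
        have : Commute g z := hzc g
        rw [(this.zpow_right i).eq, mul_inv_cancel_right]
      rw [h1]; exact ⟨i, rfl⟩
    have hzmem : ∀ t : S, t ∈ zpowers z → t = 1 ∨ t = z := by
      intro t ht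
      obtain ⟨i, rfl⟩ := mem_zpowers_iff.1 ht
      rcases Int.even_or_odd' i with ⟨j, hj | hj⟩
      · left; rw [hj, zpow_mul]; norm_num [pow_two, hz2]
      · right; rw [hj, zpow_add, zpow_mul]; norm_num [pow_two, hz2]
    have hcz : Nat.card (zpowers z) = 2 := by rw [Nat.card_zpowers, hz]
    set π := QuotientGroup.mk' (zpowers z) with hπ
    have hπ1 : ∀ t : S, π t = 1 ↔ t ∈ zpowers z := fun t => QuotientGroup.eq_one_iff t
    have hcardQ : 2 * Nat.card (S ⧸ zpowers z) = Nat.card S := by
      rw [Subgroup.card_eq_card_quotient_mul_card_subgroup (zpowers z), hcz, mul_comm]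
    have h16 : 16 ≤ Nat.card S := by
      rw [hN]
      exact (show 16 = 2 ^ 4 by norm_num) ▸ Nat.pow_le_pow_right (by norm_num) hN4
    have hQp : IsPGroup 2 (S ⧸ zpowers z) := hS.to_quotient _
    have hxb1 : π x ≠ 1 := by
      rw [Ne, hπ1]
      intro h
      rcases hzmem x h with h | h
      · exact hx1 h
      · exact hxz h
    have hxb : orderOf (π x) = 2 := by
      apply orderOf_eq_prime _ hxb1
      rw [← map_pow, pow_two, hx2, map_one]
    -- centralizer of the image
    have hCb : Nat.card (centralizer ({π x} : Set (S ⧸ zpowers z))) = 4 := by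
      set K := centralizer ({π x} : Set (S ⧸ zpowers z)) with hK
      have h4 : 4 ≤ Nat.card K := four_le_card_centralizer hQp (by omega) _
      -- the preimage
      set N' := K.comap π with hN'
      have hN'mem : ∀ s ∈ N', s * x * s⁻¹ * x⁻¹ ∈ zpowers z := by
        intro s hs
        rw [← hπ1]
        have h1 : π s ∈ K := hs
        rw [hK, Subgroup.mem_centralizer_iff] at h1
        have h2 := h1 (π x) rfl
        rw [map_mul, map_mul, map_mul, ← h2, map_inv, map_inv, mul_inv_cancel_right, mul_inv_cancel]
      have hcardN' : Nat.card N' = 2 * Nat.card K := by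
        have h1 := CfsgLib.Cores.card_comap_mk (zpowers z) K
        rw [hcz] at h1
        rw [hN', hπ, h1]
      have hle : Nat.card N' ≤ 8 := by
        -- C_{N'}(x) has index at most 2
        have hdvd : (centralizer ({x} : Set S)).relIndex N' ∣ 2 := by
          rw [Subgroup.relIndex_dvd_two_iff]
          have hcom : ∀ b ∈ N', b ∉ centralizer ({x} : Set S) → b * x * b⁻¹ = z * x := by
            intro b hb hbC
            rcases hzmem _ (hN'mem b hb) with h | h
            · exfalso
              apply hbC
              rw [hmemC]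
              have := mul_inv_eq_one.1 h
              rw [mul_inv_eq_iff_eq_mul] at this
              exact this
            · rw [← h, inv_mul_cancel_right]
          by_cases ht : ∃ t ∈ N', t ∉ centralizer ({x} : Set S)
          · obtain ⟨t, htN, htC⟩ := ht
            refine ⟨t⁻¹, inv_mem htN, fun b hb => ?_⟩
            by_cases hbC : b ∈ centralizer ({x} : Set S)
            · exact Or.inr hbC
            · left
              have h1 := hcom t htN htC
              have h2 := hcom b hb hbC
              have h3 : t⁻¹ * x * t = z * x := by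
                have h4 : x = z * (t⁻¹ * x * t) := by
                  calc x = t⁻¹ * (t * x * t⁻¹) * t := by group
                    _ = t⁻¹ * z * x * t := by rw [h1]; group
                    _ = z * t⁻¹ * x * t := by rw [hzc t⁻¹]
                    _ = _ := by group
                calc t⁻¹ * x * t = (z * z) * (t⁻¹ * x * t) := by rw [hz2, one_mul]
                  _ = z * (z * (t⁻¹ * x * t)) := by rw [mul_assoc]
                  _ = z * x := by rw [← h4]
              rw [hmemC]
              have h5 : b * t⁻¹ * x * (b * t⁻¹)⁻¹ = x := by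
                calc b * t⁻¹ * x * (b * t⁻¹)⁻¹ = b * (t⁻¹ * x * t) * b⁻¹ := by group
                  _ = b * z * x * b⁻¹ := by rw [h3]; group
                  _ = z * b * x * b⁻¹ := by rw [hzc b]
                  _ = z * (b * x * b⁻¹) := by group
                  _ = z * (z * x) := by rw [h2]
                  _ = x := by rw [← mul_assoc, hz2, one_mul]
              rw [mul_inv_eq_iff_eq_mul] at h5
              exact h5
          · push Not at ht
            refine ⟨1, one_mem _, fun b hb => Or.inr (ht b hb)⟩
        have h1 := CfsgLib.H13.relIndex_mul_card_inf (centralizer ({x} : Set S)) N'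
        have h2 := Nat.le_of_dvd (by norm_num) hdvd
        have h3 : Nat.card (centralizer ({x} : Set S) ⊓ N' : Subgroup S) ≤ 4 := by
          rw [← hC]; exact Subgroup.card_le_of_le inf_le_left
        rw [← h1]
        exact (Nat.mul_le_mul h2 h3)
      omega
    obtain ⟨ab, hab, hxab⟩ := ih (Nat.card (S ⧸ zpowers z)) (by omega) (S ⧸ zpowers z) rfl hQp (π x) hxb hCb
      (by omega)
    obtain ⟨a, rfl⟩ := QuotientGroup.mk'_surjective (zpowers z) ab
    change 2 * orderOf (π a) = _ at hab
    change π x ∉ zpowers (π a) at hxab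
    have hxa : x ∉ zpowers a := by
      intro h
      apply hxab
      obtain ⟨i, rfl⟩ := mem_zpowers_iff.1 h
      exact ⟨i, (map_zpow π a i).symm⟩
    obtain ⟨m, hm⟩ := (IsPGroup.iff_orderOf.1 hQp) (π a)
    have hm2 : 2 ≤ m := by
      by_contra h
      have h1 : 2 ^ m ≤ 2 ^ 1 := Nat.pow_le_pow_right (by norm_num) (by omega)
      omega
    have hazpow : a ^ 2 ^ m ∈ zpowers z := by
      rw [← hπ1, map_pow, ← hm, pow_orderOf_eq_one]
    by_cases hza : z ∈ zpowers a
    · refine ⟨a, ?_, hxa⟩
      -- order of a is 2^(m+1)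
      have h1 : orderOf a = 2 * orderOf (π a) := by
        have h2 : zpowers z ≤ zpowers a := by rw [zpowers_le]; exact hza
        have h3 := CfsgLib.H13.relIndex_mul_card_of_le h2
        have h4 : (zpowers z).relIndex (zpowers a) = orderOf (π a) := by
          have h5 := Subgroup.relIndex_ker (zpowers a) π
          rw [hπ, QuotientGroup.ker_mk'] at h5
          rw [h5, ← Nat.card_zpowers, MonoidHom.map_zpowers]
        rw [h4, hcz, Nat.card_zpowers] at h3
        omega
      omega
    · exfalso
      have ha2m : a ^ 2 ^ m = 1 := by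
        rcases hzmem _ hazpow with h | h
        · exact h
        · exact absurd (h ▸ pow_mem (mem_zpowers a) (2 ^ m)) hza
      set w := a ^ 2 ^ (m - 1) with hw
      have hw2 : w * w = 1 := by
        rw [hw, ← pow_add, ← two_mul, ← pow_succ', show m - 1 + 1 = m by omega, ha2m]
      have hwb : π w ≠ 1 := by
        rw [hw, map_pow]
        intro h
        have h1 := Nat.le_of_dvd (by positivity) (orderOf_dvd_of_pow_eq_one h)
        rw [hm] at h1
        have h2 : 2 ^ (m - 1) < 2 ^ m := Nat.pow_lt_pow_right (by norm_num) (by omega)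
        omega
      -- zpowers (π a) is normal
      have hidx : (zpowers (π a)).index = 2 := by
        have h1 := (zpowers (π a)).card_mul_index
        rw [Nat.card_zpowers, ← hab, mul_comm] at h1
        exact Nat.eq_of_mul_eq_mul_right (orderOf_pos _) h1
      have hnorm : (zpowers (π a)).Normal := Subgroup.normal_of_index_eq_two hidx
      have h1 : π x * π a * (π x)⁻¹ ∈ zpowers (π a) := hnorm.conj_mem _ (mem_zpowers _) _
      obtain ⟨i, hi⟩ := mem_zpowers_iff.1 h1
      have h2 : (x * a * x⁻¹) * (a ^ i)⁻¹ ∈ zpowers z := by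
        rw [← hπ1, map_mul, map_mul, map_mul, map_inv, map_inv, map_zpow, hi, mul_inv_cancel]
      have h3 : (x * a * x⁻¹) ^ 2 ^ (m - 1) = (a ^ i) ^ 2 ^ (m - 1) := by
        have hev : 2 ^ (m - 1) = 2 * 2 ^ (m - 2) := by rw [← pow_succ']; congr 1; omega
        rcases hzmem _ h2 with h | h
        · rw [mul_inv_eq_one.1 h]
        · have h4 : x * a * x⁻¹ = z * a ^ i := by
            rw [← h, inv_mul_cancel_right]
          have h5 : Commute z (a ^ i) := ((hzc (a ^ i))).symm
          rw [h4, h5.mul_pow, hev, pow_mul z, pow_two z, hz2, one_pow, one_mul]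
      have h4 : x * w * x⁻¹ = w ^ i := by
        rw [hw, ← conj_pow, h3, ← zpow_natCast, ← zpow_mul, ← zpow_natCast, ← zpow_mul, mul_comm]
      have h5 : x * w * x⁻¹ = w := by
        rw [h4]
        rcases Int.even_or_odd' i with ⟨j, hj | hj⟩
        · exfalso
          apply hwb
          have h6 : w ^ i = 1 := by
            rw [hj, zpow_mul, zpow_ofNat, pow_two, hw2, one_zpow]
          rw [h6] at h4
          have h7 : w = 1 := by
            have : w = x⁻¹ * (x * w * x⁻¹) * x := by group
            rw [this, h4]; group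
          rw [h7, map_one]
        · rw [hj, zpow_add, zpow_mul, zpow_ofNat, pow_two, hw2, one_zpow, one_mul, zpow_one]
      have h6 : w * x = x * w := by
        rw [mul_inv_eq_iff_eq_mul] at h5
        exact h5.symm
      rcases hV w h6 with h | h | h | h
      · exact hwb (by rw [h, map_one])
      · apply hza; rw [← h]; exact pow_mem (mem_zpowers a) _
      · apply hxa; rw [← h]; exact pow_mem (mem_zpowers a) _
      · apply hxab
        have h7 : π w = π x := by
          rw [h, map_mul, (hπ1 z).2 (mem_zpowers z), mul_one]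
        rw [← h7, hw, map_pow]
        exact pow_mem (mem_zpowers _) _

theorem classify {S : Type u} [Group S] [Finite S] (hS : IsPGroup 2 S)
    (x : S) (hx : orderOf x = 2) (hC : Nat.card ↥(centralizer ({x} : Set S)) = 4) :
    (∃ n : ℕ, Nonempty (S ≃* DihedralGroup n)) ∨ IsQuasiDihedral S ∨ Nat.card S = 4 := by
  have : Fact (Nat.Prime 2) := ⟨Nat.prime_two⟩
  obtain ⟨N, hN⟩ := hS.exists_card_eq
  have h4 : 4 ≤ Nat.card S := by
    rw [← hC, ← Subgroup.card_top (G := S)]
    exact Subgroup.card_le_of_le le_top
  by_cases h8 : 8 ≤ Nat.card S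
  swap
  · right; right
    have h1 : N = 2 := by
      have h2 : 2 ≤ N := by
        by_contra h
        have : 2 ^ N ≤ 2 ^ 1 := Nat.pow_le_pow_right (by norm_num) (by omega)
        omega
      have h3 : N < 3 := by
        by_contra h
        have : 2 ^ 3 ≤ 2 ^ N := Nat.pow_le_pow_right (by norm_num) (by omega)
        omega
      omega
    rw [hN, h1]; norm_num
  obtain ⟨a, ha, hxa⟩ := star _ S rfl hS x hx hC h8
  have hx2 : x * x = 1 := by rw [← pow_two, ← hx, pow_orderOf_eq_one]
  have hxi : x⁻¹ = x := inv_eq_of_mul_eq_one_left hx2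
  obtain ⟨m, hm⟩ := (IsPGroup.iff_orderOf.1 hS) a
  have hm2 : 2 ≤ m := by
    by_contra h
    have h1 : 2 ^ m ≤ 2 ^ 1 := Nat.pow_le_pow_right (by norm_num) (by omega)
    omega
  have hidx : (zpowers a).index = 2 := by
    have h1 := (zpowers a).card_mul_index
    rw [Nat.card_zpowers, ← ha, mul_comm] at h1
    exact Nat.eq_of_mul_eq_mul_right (orderOf_pos _) h1
  have hnorm : (zpowers a).Normal := Subgroup.normal_of_index_eq_two hidx
  have hmemC : ∀ s : S, s ∈ centralizer ({x} : Set S) ↔ s * x = x * s := by
    intro s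
    rw [Subgroup.mem_centralizer_iff]
    constructor
    · intro h; exact (h x rfl).symm
    · rintro h _ rfl; exact h.symm
  -- the fixed points of x on ⟨a⟩ have order 2
  have hcent : Nat.card (centralizer ({x} : Set S) ⊓ zpowers a : Subgroup S) ≤ 2 := by
    have h1 : (centralizer ({x} : Set S) ⊓ zpowers a : Subgroup S) < centralizer ({x} : Set S) := by
      refine lt_of_le_of_ne inf_le_left ?_
      intro h
      apply hxa
      have h2 : x ∈ centralizer ({x} : Set S) := by rw [hmemC]
      rw [← h] at h2
      exact h2.2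
    have h2 := Subgroup.card_dvd_of_le (inf_le_left : (centralizer ({x} : Set S) ⊓ zpowers a : Subgroup S) ≤ _)
    rw [hC] at h2
    have h3 : Nat.card (centralizer ({x} : Set S) ⊓ zpowers a : Subgroup S) < 4 := by
      rw [← hC]
      exact lt_of_le_of_ne (Subgroup.card_le_of_le h1.le)
        (fun h => h1.ne (Subgroup.eq_of_le_of_card_ge h1.le h.ge))
    have h4 := Nat.le_of_dvd (by norm_num) h2
    interval_cases h5 : Nat.card (centralizer ({x} : Set S) ⊓ zpowers a : Subgroup S) <;> omega
  set w := a ^ 2 ^ (m - 1) with hw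
  have h2m : 2 ^ m = 2 * 2 ^ (m - 1) := by rw [← pow_succ']; congr 1; omega
  have hw1 : w ≠ 1 := by
    intro h
    have h1 := Nat.le_of_dvd (by positivity) (orderOf_dvd_of_pow_eq_one h)
    rw [hm] at h1
    have : 0 < 2 ^ (m - 1) := by positivity
    omega
  have hw2 : w ^ 2 = 1 := by rw [hw, ← pow_mul, mul_comm, ← h2m, ← hm, pow_orderOf_eq_one]
  have hxax : x * a * x⁻¹ ∈ zpowers a := hnorm.conj_mem _ (mem_zpowers a) x
  obtain ⟨i, hi⟩ := mem_zpowers_iff.1 hxax
  -- w is fixed by x
  have hwx : x * w * x⁻¹ = w := by
    have h1 : x * w * x⁻¹ = w ^ i := by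
      rw [hw, ← conj_pow, ← hi, ← zpow_natCast, ← zpow_mul, ← zpow_natCast, ← zpow_mul, mul_comm]
    rw [h1]
    rcases Int.even_or_odd' i with ⟨j, hj | hj⟩
    · exfalso
      apply hw1
      have h6 : w ^ i = 1 := by rw [hj, zpow_mul, zpow_ofNat, hw2, one_zpow]
      rw [h6] at h1
      have : w = x⁻¹ * (x * w * x⁻¹) * x := by group
      rw [this, h1]; group
    · rw [hj, zpow_add, zpow_mul, zpow_ofNat, hw2, one_zpow, one_mul, zpow_one]
  have hwC : w ∈ (centralizer ({x} : Set S) ⊓ zpowers a : Subgroup S) := by
    refine ⟨(hmemC w).2 ?_, pow_mem (mem_zpowers a) _⟩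
    rw [mul_inv_eq_iff_eq_mul] at hwx
    exact hwx.symm
  have hfix : ∀ y ∈ zpowers a, x * y * x⁻¹ = y → y = 1 ∨ y = w := by
    intro y hy hyx
    by_contra hcon
    push Not at hcon
    have hyC : y ∈ (centralizer ({x} : Set S) ⊓ zpowers a : Subgroup S) := by
      refine ⟨(hmemC y).2 ?_, hy⟩
      rw [mul_inv_eq_iff_eq_mul] at hyx
      exact hyx.symm
    classical
    have hsub : ({1, w, y} : Finset S) ⊆
        (Set.toFinite ((centralizer ({x} : Set S) ⊓ zpowers a : Subgroup S) : Set S)).toFinset := by
      intro t ht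
      rw [Set.Finite.mem_toFinset, SetLike.mem_coe]
      simp only [Finset.mem_insert, Finset.mem_singleton] at ht
      rcases ht with rfl | rfl | rfl
      · exact one_mem _
      · exact hwC
      · exact hyC
    have hcard := Finset.card_le_card hsub
    rw [← Set.ncard_eq_toFinset_card] at hcard
    have h6 : ({1, w, y} : Finset S).card = 3 := by
      rw [Finset.card_insert_of_notMem, Finset.card_insert_of_notMem, Finset.card_singleton]
      · simp only [Finset.mem_singleton]; exact fun h => hcon.2 h.symm
      · simp only [Finset.mem_insert, Finset.mem_singleton]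
        push Not
        exact ⟨fun h => hw1 h.symm, fun h => hcon.1 h.symm⟩
    have h7 : ((centralizer ({x} : Set S) ⊓ zpowers a : Subgroup S) : Set S).ncard =
      Nat.card (centralizer ({x} : Set S) ⊓ zpowers a : Subgroup S) := rfl
    omega
  -- a * a^x
  have hu : x * (a * (x * a * x⁻¹)) * x⁻¹ = a * (x * a * x⁻¹) := by
    have h1 : x * (a * (x * a * x⁻¹)) * x⁻¹ = (x * a * x⁻¹) * (x * x * a * (x * x)⁻¹) := by group
    rw [h1, hx2, inv_one, mul_one, one_mul, ← hi]
    exact ((Commute.refl a).zpow_left i).eq
  have htop : Subgroup.closure ({a, x} : Set S) = ⊤ := by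
    have h1 : zpowers a ≤ Subgroup.closure ({a, x} : Set S) := by
      rw [zpowers_le]; exact Subgroup.subset_closure (by simp)
    have hxcl : x ∈ Subgroup.closure ({a, x} : Set S) := Subgroup.subset_closure (by simp)
    rw [eq_top_iff]
    intro y _
    by_cases hy : y ∈ zpowers a
    · exact h1 hy
    · have h2 : x⁻¹ * y ∈ zpowers a := by
        rw [Subgroup.mul_mem_iff_of_index_two hidx]
        constructor
        · intro h; exact absurd (inv_mem_iff.1 h) hxa
        · intro h; exact absurd h hy
      have := mul_mem hxcl (h1 h2)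
      rwa [mul_inv_cancel_left] at this
  rcases hfix _ (mul_mem (mem_zpowers a) hxax) hu with h | h
  · left
    refine ⟨orderOf a, CfsgLib.Dihedral.nonempty_equiv_dihedral_top rfl hx2 ?_ hxa htop⟩
    exact eq_inv_of_mul_eq_one_right h
  · have hxa' : x * a * x⁻¹ = a⁻¹ * w := by rw [← h, inv_mul_cancel_left]
    rcases Nat.lt_or_ge m 3 with hm3 | hm3
    · exfalso
      have hm' : m = 2 := by omega
      have hwa : w = a ^ 2 := by rw [hw, hm']; norm_num
      have h1 : x * a * x⁻¹ = a := by rw [hxa', hwa, pow_two, inv_mul_cancel_left]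
      rcases hfix a (mem_zpowers a) h1 with h2 | h2
      · rw [h2, orderOf_one] at ha; omega
      · have h3 := Nat.le_of_dvd (by norm_num) (orderOf_dvd_of_pow_eq_one hw2)
        rw [← h2, hm, hm'] at h3
        omega
    · right; left
      refine ⟨m, hm3, ?_, a, x, hm, hx, ?_⟩
      · rw [← ha, hm, pow_succ']
      · rw [hxa', hw, ← Nat.sub_add_cancel (Nat.one_le_two_pow (n := m - 1)), Nat.add_sub_cancel, pow_succ']
        rw [inv_mul_cancel_left]

end CfsgLib.MaxClassH12
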