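import Mathlib
import Cfsg.Agent.EqBase
import Cfsg.Agent.LibKF11b
import Cfsg.Agent.LibTransPC
import Cfsg.Agent.LibThompTr
import Cfsg.Agent.LibTransFus
import Cfsg.Agent.S3224
import Cfsg.Prelude.Def_Transfer

/-! Groups with an involution with centraliser of order four: group theory (seat helper11). -/

set_option autoImplicit false
set_option linter.all false

namespace CfsgLib.KF11

open Subgroup Cfsg CfsgLib.BW11

universe u

section
variable {G : Type u} [Group G] [Finite G]

theorem ord_two {x : G} (h : orderOf x = 2) : x * x = 1 ∧ x ≠ 1 := by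
  constructor
  · rw [← pow_two, ← h, pow_orderOf_eq_one]
  · rintro rfl
    rw [orderOf_one] at h
    norm_num at h

theorem two_ord {x : G} (h : x * x = 1) (h1 : x ≠ 1) : orderOf x = 2 := orderOf_eq_prime (by rw [pow_two]; exact h) h1

/-- the subgroup generated by two commuting involutions -/
theorem four (a b : G) (ha : a * a = 1) (hb : b * b = 1) (hab : a * b = b * a) :
    ∃ E : Subgroup G, ∀ g, g ∈ E ↔ (g = 1 ∨ g = a ∨ g = b ∨ g = a * b) := by
  have h1 : a * (a * b) = b := by rw [← mul_assoc, ha, one_mul]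
  have h2 : b * (a * b) = a := by rw [hab, ← mul_assoc, hb, one_mul]
  have h3 : (a * b) * a = b := by rw [hab, mul_assoc, ha, mul_one]
  have h4 : (a * b) * b = a := by rw [mul_assoc, hb, mul_one]
  have h5 : (a * b) * (a * b) = 1 := by rw [mul_assoc, h2, ha]
  refine ⟨{ carrier := {g | g = 1 ∨ g = a ∨ g = b ∨ g = a * b}
            one_mem' := Or.inl rfl
            mul_mem' := ?_
            inv_mem' := ?_ }, fun g => Iff.rfl⟩
  · rintro x y hx hy
    simp only [Set.mem_setOf_eq] at hx hy ⊢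
    rcases hx with rfl | rfl | rfl | rfl <;> rcases hy with rfl | rfl | rfl | rfl <;>
      simp [ha, hb, h1, h2, h3, h4, h5, ← hab]
  · rintro x hx
    simp only [Set.mem_setOf_eq] at hx ⊢
    rcases hx with rfl | rfl | rfl | rfl
    · left; exact inv_one
    · right; left; exact inv_eq_of_mul_eq_one_left ha
    · right; right; left; exact inv_eq_of_mul_eq_one_left hb
    · right; right; right; exact inv_eq_of_mul_eq_one_left h5

theorem four_card {a b : G} {E : Subgroup G} (hE : ∀ g, g ∈ E ↔ (g = 1 ∨ g = a ∨ g = b ∨ g = a * b)) (ha1 : a ≠ 1) (hb1 : b ≠ 1)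
    (hab : a ≠ b) (haa : a * a = 1) : Nat.card E = 4 := by
  have h1 : (E : Set G) = {1, a, b, a * b} := by
    ext g
    rw [SetLike.mem_coe, hE]
    simp
  have h2 : a * b ≠ 1 := by
    intro h0
    apply hab
    have h3 : a * b = a * a := by rw [h0, haa]
    exact (mul_left_cancel h3).symm
  rw [show Nat.card E = (E : Set G).ncard from rfl, h1]
  rw [Set.ncard_insert_of_notMem, Set.ncard_insert_of_notMem, Set.ncard_pair]
  · intro h0; exact ha1 (by rwa [right_eq_mul] at h0)
  · simp only [Set.mem_insert_iff, Set.mem_singleton_iff, not_or]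
    exact ⟨hab, fun h0 => hb1 (by rwa [left_eq_mul] at h0)⟩
  · simp only [Set.mem_insert_iff, Set.mem_singleton_iff, not_or]
    exact ⟨ha1.symm, hb1.symm, h2.symm⟩

/-- a set of four elements of the centraliser is everything -/
theorem eq_four {a b : G} {E : Subgroup G} (hcard : Nat.card E = 4) (ha : a ∈ E) (hb : b ∈ E) (haa : a * a = 1) (hbb : b * b = 1)
    (hab : a * b = b * a) (ha1 : a ≠ 1) (hb1 : b ≠ 1) (hne : a ≠ b) : ∀ g ∈ E, g = 1 ∨ g = a ∨ g = b ∨ g = a * b := by
  obtain ⟨F, hF⟩ := four a b haa hbb hab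
  have h1 := four_card hF ha1 hb1 hne haa
  have h2 : F ≤ E := by
    intro g hg
    rcases (hF g).1 hg with rfl | rfl | rfl | rfl
    · exact E.one_mem
    · exact ha
    · exact hb
    · exact E.mul_mem ha hb
  have h3 : F = E := Subgroup.eq_of_le_of_card_ge h2 (by rw [hcard, h1])
  intro g hg
  exact (hF g).1 (by rw [h3]; exact hg)

theorem isConj_sq {x y : G} (h : IsConj x y) (hx : x * x = 1) : y * y = 1 := by
  obtain ⟨g, rfl⟩ := isConj_iff.1 h
  calc (g * x * g⁻¹) * (g * x * g⁻¹) = g * (x * x) * g⁻¹ := by group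
    _ = 1 := by rw [hx]; group

theorem isConj_ne {x y : G} (h : IsConj x y) (hx : x ≠ 1) : y ≠ 1 := by
  obtain ⟨g, rfl⟩ := isConj_iff.1 h
  exact conj_ne_one hx

/-- the configuration -/
structure Cfg (x z : G) : Prop where
  x2 : x * x = 1
  x1 : x ≠ 1
  z2 : z * z = 1
  z1 : z ≠ 1
  xz : x * z = z * x
  C4 : Nat.card (centralizer ({x} : Set G)) = 4
  cjx : IsConj x (x * z)
  nc : ¬ IsConj x z

theorem Cfg.ne {x z : G} (h : Cfg x z) : x ≠ z := by
  rintro rfl; exact h.nc (IsConj.refl _)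

theorem Cfg.cent {x z : G} (h : Cfg x z) {g : G} (hg : g * x = x * g) : g = 1 ∨ g = x ∨ g = z ∨ g = x * z :=
  eq_four h.C4 (mem_centralizer_singleton_iff.2 rfl) (mem_centralizer_singleton_iff.2 h.xz.symm) h.x2 h.z2 h.xz h.x1 h.z1 h.ne g
    (mem_centralizer_singleton_iff.2 hg)

theorem Cfg.uniq {x z : G} (h : Cfg x z) {y : G} (hy : IsConj z y) (hc : y * x = x * y) : y = z := by
  rcases h.cent hc with h1 | h1 | h1 | h1
  · exact absurd h1 (isConj_ne hy h.z1)
  · rw [h1] at hy; exact absurd hy.symm h.nc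
  · exact h1
  · rw [h1] at hy; exact absurd (h.cjx.trans hy.symm) h.nc

theorem Cfg.uniq' {x z : G} (h : Cfg x z) {w y y' : G} (hw : IsConj x w) (hy : IsConj z y) (hy' : IsConj z y') (hc : y * w = w * y)
    (hc' : y' * w = w * y') : y = y' := by
  obtain ⟨g, rfl⟩ := isConj_iff.1 hw
  have key : ∀ y, IsConj z y → y * (g * x * g⁻¹) = (g * x * g⁻¹) * y → g⁻¹ * y * g = z := by
    intro y hy hc
    apply h.uniq (hy.trans (isConj_iff.2 ⟨g⁻¹, by group⟩))
    calc g⁻¹ * y * g * x = g⁻¹ * (y * (g * x * g⁻¹)) * g := by group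
      _ = g⁻¹ * ((g * x * g⁻¹) * y) * g := by rw [hc]
      _ = x * (g⁻¹ * y * g) := by group
  have h1 := key y hy hc
  have h2 := key y' hy' hc'
  have h3 : g⁻¹ * y * g = g⁻¹ * y' * g := by rw [h1, h2]
  simpa using h3

/-- the number of conjugates of `x` commuting with `z` -/
noncomputable def kap (x z : G) : ℕ := Nat.card {a : G // IsConj x a ∧ a * z = z * a}

theorem kap_conj {x z y : G} (hy : IsConj z y) : kap x y = kap x z := by
  obtain ⟨g, rfl⟩ := isConj_iff.1 hy
  unfold kap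
  apply Nat.card_congr
  refine ⟨fun a => ⟨g⁻¹ * a.1 * g, a.2.1.trans (isConj_iff.2 ⟨g⁻¹, by group⟩), ?_⟩,
    fun a => ⟨g * a.1 * g⁻¹, a.2.1.trans (isConj_iff.2 ⟨g, rfl⟩), ?_⟩, fun a => ?_, fun a => ?_⟩
  · have := a.2.2
    calc g⁻¹ * a.1 * g * z = g⁻¹ * (a.1 * (g * z * g⁻¹)) * g := by group
      _ = g⁻¹ * ((g * z * g⁻¹) * a.1) * g := by rw [this]
      _ = z * (g⁻¹ * a.1 * g) := by group
  · have := a.2.2
    calc g * a.1 * g⁻¹ * (g * z * g⁻¹) = g * (a.1 * z) * g⁻¹ := by group
      _ = g * (z * a.1) * g⁻¹ := by rw [this]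
      _ = g * z * g⁻¹ * (g * a.1 * g⁻¹) := by group
  · apply Subtype.ext
    show g * (g⁻¹ * a.1 * g) * g⁻¹ = a.1
    group
  · apply Subtype.ext
    show g⁻¹ * (g * a.1 * g⁻¹) * g = a.1
    group

theorem Cfg.kap_mul {x z : G} (h : Cfg x z) : Nat.card {y : G // IsConj z y} * kap x z ≤ Nat.card {a : G // IsConj x a} := by
  classical
  letI : Fintype {y : G // IsConj z y} := Fintype.ofFinite _
  have h1 : Nat.card (Σ y : {y : G // IsConj z y}, {a : G // IsConj x a ∧ a * y.1 = y.1 * a}) = Nat.card {y : G // IsConj z y} * kap x z := by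
    rw [Nat.card_sigma, Finset.sum_congr rfl (fun y _ => (kap_conj y.2 : kap x y.1 = kap x z)), Finset.sum_const, Finset.card_univ, nsmul_eq_mul,
      Nat.card_eq_fintype_card (α := {y : G // IsConj z y})]
    rfl
  rw [← h1]
  apply Nat.card_le_card_of_injective (fun p : (Σ y : {y : G // IsConj z y}, {a : G // IsConj x a ∧ a * y.1 = y.1 * a}) =>
    (⟨p.2.1, p.2.2.1⟩ : {a : G // IsConj x a}))
  rintro ⟨⟨y, hy⟩, ⟨a, ha, hc⟩⟩ ⟨⟨y', hy'⟩, ⟨a', ha', hc'⟩⟩ he
  have h2 : a = a' := congrArg Subtype.val he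
  subst h2
  have h3 : y = y' := h.uniq' ha hy hy' hc.symm hc'.symm
  subst h3
  rfl

theorem NN_le {x : G} (hx2 : x * x = 1) {g z : G} (hz2 : z * z = 1) (hg : g * g = 1 ∧ g = z ∨ g * g = z) : NN x g ≤ kap x z := by
  unfold NN kap
  apply Nat.card_le_card_of_injective (fun s : {s : G // IsConj x s ∧ IsConj x (s * g)} => (⟨s.1, s.2.1, by
    obtain ⟨s, hs, hsg⟩ := s
    have h1 := isConj_sq hs hx2
    have h2 := isConj_sq hsg hx2
    show s * z = z * s
    have h3 : s * g * s = g⁻¹ := by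
      rw [eq_inv_iff_mul_eq_one]
      calc s * g * s * g = s * g * (s * g) := by group
        _ = 1 := h2
    rcases hg with ⟨h4, rfl⟩ | rfl
    · rw [inv_eq_of_mul_eq_one_left h4] at h3
      calc s * g = s * g * (s * s) := by rw [h1, mul_one]
        _ = (s * g * s) * s := by group
        _ = g * s := by rw [h3]
    · have h5 : s * (g * g) * s = g * g := by
        calc s * (g * g) * s = (s * g) * (s * s) * (g * s) := by rw [h1]; group
          _ = (s * g * s) * (s * g * s) := by group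
          _ = (g * g)⁻¹ := by rw [h3]; group
          _ = g * g := inv_eq_of_mul_eq_one_left hz2
      calc s * (g * g) = s * (g * g) * (s * s) := by rw [h1, mul_one]
        _ = (s * (g * g) * s) * s := by group
        _ = (g * g) * s := by rw [h5]⟩ : {a : G // IsConj x a ∧ a * z = z * a}))
  intro a b hab
  have h6 : (a : G) = b := congrArg (fun y : {a : G // IsConj x a ∧ a * z = z * a} => (y : G)) hab
  exact Subtype.ext h6

/-- at most three conjugates -/
theorem Cfg.le_three {x z : G} (h : Cfg x z) {N : Subgroup G} (hN : N.Normal) (hNi : N.index = 2) (hxN : x ∉ N) {A : Subgroup G}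
    (hA : A ≤ N) (hA4 : Nat.card A = 4) (hAz : ∀ g ∈ A, g ≠ 1 → IsConj z g ∨ g * g = z) : Nat.card {y : G // IsConj z y} ≤ 3 := by
  classical
  letI : Fintype G := Fintype.ofFinite G
  letI : Fintype A := Fintype.ofFinite A
  have h1 := ineq h.x2 h.C4 hN hNi hxN A hA
  have h2 : ∑ g : A, NN x (g : G) ≤ Nat.card {a : G // IsConj x a} + 3 * kap x z := by
    rw [← Finset.add_sum_erase Finset.univ _ (Finset.mem_univ (1 : A))]
    apply Nat.add_le_add
    · unfold NN
      apply le_of_eq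
      apply Nat.card_congr
      apply Equiv.subtypeEquivRight
      intro s
      simp
    · have h3 : ∀ g ∈ Finset.univ.erase (1 : A), NN x (g : G) ≤ kap x z := by
        intro g hg
        have hg1 : (g : G) ≠ 1 := fun h0 => (Finset.mem_erase.1 hg).1 (Subtype.ext h0)
        rcases hAz g g.2 hg1 with h4 | h4
        · rw [← kap_conj h4]
          exact NN_le h.x2 (isConj_sq h4 h.z2) (Or.inl ⟨isConj_sq h4 h.z2, rfl⟩)
        · exact NN_le h.x2 h.z2 (Or.inr h4)
      refine (Finset.sum_le_card_nsmul _ _ _ h3).trans ?_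
      rw [Finset.card_erase_of_mem (Finset.mem_univ _), Finset.card_univ, ← Nat.card_eq_fintype_card, hA4, nsmul_eq_mul]
      norm_num
  have h3 := card_inv x
  have h4 := h.kap_mul
  rw [h.C4] at h3
  rw [hA4] at h1
  have hX : 0 < Nat.card {a : G // IsConj x a} := by
    haveI : Nonempty {a : G // IsConj x a} := ⟨⟨x, IsConj.refl x⟩⟩
    exact Nat.card_pos
  obtain ⟨X, hX'⟩ : ∃ X, X = Nat.card {a : G // IsConj x a} := ⟨_, rfl⟩
  obtain ⟨k, hk'⟩ : ∃ k, k = Nat.card {y : G // IsConj z y} := ⟨_, rfl⟩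
  rw [← hX'] at h2 h3 h4 hX
  rw [← hk'] at h4 ⊢
  have h5 : X ≤ 3 * kap x z := by omega
  by_contra hcon
  have h6 : 4 ≤ k := by omega
  have h7 : 4 * kap x z ≤ k * kap x z := Nat.mul_le_mul_right _ h6
  omega

end
end CfsgLib.KF11
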