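import Mathlib
import Cfsg.Agent.EqBase
import Cfsg.Agent.LibKF11c

/-! Groups with an involution with centraliser of order four: conclusion (seat helper11). -/

set_option autoImplicit false
set_option linter.all false

namespace CfsgLib.KF11

open Subgroup Cfsg CfsgLib.BW11

universe u

section
variable {G : Type u} [Group G] [Finite G]

/-- no normal elementary abelian subgroup of order 2 or 4 -/
def NoEA (G : Type u) [Group G] : Prop :=
  ∀ E : Subgroup G, E.Normal → Cfsg.IsElementaryAbelian 2 E → Nat.card E ≠ 2 ∧ Nat.card E ≠ 4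

theorem isEA {E : Subgroup G} (h : ∀ g ∈ E, g * g = 1) : Cfsg.IsElementaryAbelian 2 E := by
  refine ⟨⟨⟨fun a b => ?_⟩⟩, fun a ha => by rw [pow_two]; exact h a ha⟩
  apply Subtype.ext
  have ha : (a : G)⁻¹ = a := inv_eq_of_mul_eq_one_left (h a a.2)
  have hb : (b : G)⁻¹ = b := inv_eq_of_mul_eq_one_left (h b b.2)
  have hab := inv_eq_of_mul_eq_one_left (h (a * b) (E.mul_mem a.2 b.2))
  show (a : G) * b = b * a
  rw [← hab, mul_inv_rev, ha, hb]

theorem no_central (hE : NoEA G) {p : G} (hp : p * p = 1) (hp1 : p ≠ 1) (hinv : ∀ g : G, g * p * g⁻¹ = p) : False := by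
  have h1 : (zpowers p).Normal := by
    refine ⟨fun n hn g => ?_⟩
    obtain ⟨j, rfl⟩ := mem_zpowers_iff.1 hn
    have : g * p ^ j * g⁻¹ = (g * p * g⁻¹) ^ j := by rw [conj_zpow]
    rw [this, hinv]; exact hn
  have h2 : Cfsg.IsElementaryAbelian 2 (zpowers p) := by
    apply isEA
    intro g hg
    obtain ⟨j, rfl⟩ := mem_zpowers_iff.1 hg
    rw [← zpow_add, ← two_mul, zpow_mul, zpow_ofNat, pow_two, hp, one_zpow]
  exact (hE _ h1 h2).1 (by rw [Nat.card_zpowers, two_ord hp hp1])

/-- a set of at most three elements -/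
theorem three_cases {P : G → Prop} (h : Nat.card {y : G // P y} ≤ 3) {a b c d : G} (ha : P a) (hb : P b) (hc : P c) (hd : P d)
    (hab : a ≠ b) (hac : a ≠ c) (hbc : b ≠ c) : d = a ∨ d = b ∨ d = c := by
  by_contra hcon
  push Not at hcon
  obtain ⟨h1, h2, h3⟩ := hcon
  have h4 : ({a, b, c, d} : Set G).ncard ≤ ({y | P y} : Set G).ncard := by
    apply Set.ncard_le_ncard _ (Set.toFinite _)
    rintro y (rfl | rfl | rfl | rfl) <;> assumption
  have h5 : ({a, b, c, d} : Set G).ncard = 4 := by
    rw [Set.ncard_insert_of_notMem, Set.ncard_insert_of_notMem, Set.ncard_pair]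
    · exact h3.symm
    · simp only [Set.mem_insert_iff, Set.mem_singleton_iff, not_or]
      exact ⟨hbc, h2.symm⟩
    · simp only [Set.mem_insert_iff, Set.mem_singleton_iff, not_or]
      exact ⟨hab, hac, h1.symm⟩
  rw [h5] at h4
  have h6 : ({y | P y} : Set G).ncard = Nat.card {y : G // P y} := rfl
  omega

/-- three conjugates are impossible -/
theorem Cfg.fin3 {x z : G} (h : Cfg x z) (hE : NoEA G) (h3 : Nat.card {y : G // IsConj z y} ≤ 3) : False := by
  have hsym : ∀ {a b : G}, a * b * a⁻¹ = b → a * b = b * a := fun {a b} h => by rwa [mul_inv_eq_iff_eq_mul] at h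
  have hxi : x⁻¹ = x := inv_eq_of_mul_eq_one_left h.x2
  have hzi : z⁻¹ = z := inv_eq_of_mul_eq_one_left h.z2
  -- conjugates of `z` commute with `z`
  have hcomm : ∀ y, IsConj z y → z * y = y * z := by
    intro y hy
    by_contra hne
    have hyz : y ≠ z := by rintro rfl; exact hne rfl
    have hw : IsConj z (z * y * z⁻¹) := hy.trans (isConj_iff.2 ⟨z, rfl⟩)
    have hwz : z * y * z⁻¹ ≠ z := by
      intro h0
      apply hyz
      rw [mul_inv_eq_iff_eq_mul] at h0
      exact mul_left_cancel h0
    have hwy : z * y * z⁻¹ ≠ y := fun h0 => hne (hsym h0)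
    have hv : IsConj z (x * y * x⁻¹) := hy.trans (isConj_iff.2 ⟨x, rfl⟩)
    rcases three_cases h3 (IsConj.refl z) hy hw hv hyz.symm hwz.symm hwy.symm with h4 | h4 | h4
    · apply hyz
      rw [mul_inv_eq_iff_eq_mul, ← h.xz] at h4
      exact mul_left_cancel h4
    · have h5 := hsym h4
      exact hyz (h.uniq hy h5.symm)
    · -- `x z` commutes with `y` and with `z`
      have h5 : (x * z) * y * (x * z)⁻¹ = y := by
        have h6 : y = x * (z * y * z⁻¹) * x⁻¹ := by
          rw [← h4, hxi]
          calc y = (x * x) * y * (x * x) := by rw [h.x2]; group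
            _ = x * (x * y * x) * x := by group
        calc (x * z) * y * (x * z)⁻¹ = x * (z * y * z⁻¹) * x⁻¹ := by group
          _ = y := h6.symm
      have h6 := hsym h5
      exact hyz (h.uniq' h.cjx hy (IsConj.refl z) h6.symm (by rw [← mul_assoc, ← h.xz]))
  have hcomm2 : ∀ y y', IsConj z y → IsConj z y' → y * y' = y' * y := by
    intro y y' hy hy'
    obtain ⟨g, rfl⟩ := isConj_iff.1 hy
    have h4 := hcomm (g⁻¹ * y' * g) (hy'.trans (isConj_iff.2 ⟨g⁻¹, by group⟩))
    calc g * z * g⁻¹ * y' = g * (z * (g⁻¹ * y' * g)) * g⁻¹ := by group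
      _ = g * ((g⁻¹ * y' * g) * z) * g⁻¹ := by rw [h4]
      _ = y' * (g * z * g⁻¹) := by group
  have hinvol : ∀ y, IsConj z y → y * y = 1 := fun y hy => isConj_sq hy h.z2
  have hcj : ∀ g y, IsConj z y → IsConj z (g * y * g⁻¹) := fun g y hy => hy.trans (isConj_iff.2 ⟨g, rfl⟩)
  by_cases h1 : ∀ y, IsConj z y → y = z
  · exact no_central hE h.z2 h.z1 (fun g => h1 _ (hcj g z (IsConj.refl z)))
  · push Not at h1
    obtain ⟨y, hy, hyz⟩ := h1
    have hzy := hcomm y hy
    have hy2 := hinvol y hy
    by_cases h2 : ∀ w, IsConj z w → w = z ∨ w = y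
    · apply no_central hE (p := z * y)
      · calc z * y * (z * y) = z * (y * z) * y := by group
          _ = z * (z * y) * y := by rw [hzy]
          _ = (z * z) * (y * y) := by group
          _ = 1 := by rw [h.z2, hy2, one_mul]
      · intro h0
        apply hyz
        have h4 : z * y = z * z := by rw [h0, h.z2]
        exact mul_left_cancel h4
      · intro g
        have e : g * (z * y) * g⁻¹ = (g * z * g⁻¹) * (g * y * g⁻¹) := by group
        rw [e]
        have hne : g * z * g⁻¹ ≠ g * y * g⁻¹ := by
          intro h0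
          apply hyz
          simpa using h0.symm
        rcases h2 _ (hcj g z (IsConj.refl z)) with h4 | h4 <;> rcases h2 _ (hcj g y hy) with h5 | h5
        · exact absurd (h4.trans h5.symm) hne
        · rw [h4, h5]
        · rw [h4, h5, hzy]
        · exact absurd (h4.trans h5.symm) hne
    · push Not at h2
      obtain ⟨w, hw, hwz, hwy⟩ := h2
      have hzw := hcomm w hw
      have hyw := hcomm2 y w hy hw
      have hw2 := hinvol w hw
      have hall : ∀ v, IsConj z v → v = z ∨ v = y ∨ v = w := fun v hv =>
        three_cases h3 (IsConj.refl z) hy hw hv hyz.symm hwz.symm hwy.symm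
      by_cases hp : z * y = w
      · -- normal four-group
        obtain ⟨E, hEm⟩ := four z y h.z2 hy2 hzy
        have hE4 := four_card hEm h.z1 (isConj_ne hy h.z1) hyz.symm h.z2
        have hmem : ∀ v, IsConj z v → v ∈ E := by
          intro v hv
          rw [hEm]
          rcases hall v hv with h4 | h4 | h4
          · exact Or.inr (Or.inl h4)
          · exact Or.inr (Or.inr (Or.inl h4))
          · exact Or.inr (Or.inr (Or.inr (h4.trans hp.symm)))
        have hn : E.Normal := by
          refine ⟨fun n hn g => ?_⟩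
          rcases (hEm n).1 hn with rfl | rfl | rfl | rfl
          · rw [mul_one, mul_inv_cancel]; exact E.one_mem
          · exact hmem _ (hcj g n (IsConj.refl n))
          · exact hmem _ (hcj g n hy)
          · rw [hp]; exact hmem _ (hcj g w hw)
        have hea : Cfsg.IsElementaryAbelian 2 E := by
          apply isEA
          intro g hg
          rcases (hEm g).1 hg with rfl | rfl | rfl | rfl
          · exact mul_one 1
          · exact h.z2
          · exact hy2
          · rw [hp]; exact hw2
        exact (hE E hn hea).2 hE4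
      · apply no_central hE (p := z * y * w)
        · calc z * y * w * (z * y * w) = z * y * (w * z) * y * w := by group
            _ = z * y * (z * w) * y * w := by rw [hzw]
            _ = z * (y * z) * (w * y) * w := by group
            _ = z * (z * y) * (y * w) * w := by rw [hzy, hyw]
            _ = (z * z) * (y * y) * (w * w) := by group
            _ = 1 := by rw [h.z2, hy2, hw2]; group
        · intro h0
          apply hp
          rw [eq_inv_of_mul_eq_one_left h0, inv_eq_of_mul_eq_one_left hw2]
        · intro g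
          have e : g * (z * y * w) * g⁻¹ = (g * z * g⁻¹) * (g * y * g⁻¹) * (g * w * g⁻¹) := by group
          rw [e]
          have n1 : g * z * g⁻¹ ≠ g * y * g⁻¹ := fun h0 => hyz (by simpa using h0.symm)
          have n2 : g * z * g⁻¹ ≠ g * w * g⁻¹ := fun h0 => hwz (by simpa using h0.symm)
          have n3 : g * y * g⁻¹ ≠ g * w * g⁻¹ := fun h0 => hwy (by simpa using h0.symm)
          rcases hall _ (hcj g z (IsConj.refl z)) with h4 | h4 | h4 <;> rcases hall _ (hcj g y hy) with h5 | h5 | h5 <;>
            rcases hall _ (hcj g w hw) with h6 | h6 | h6 <;> rw [h4, h5] at n1 <;> rw [h4, h6] at n2 <;> rw [h5, h6] at n3 <;>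
            rw [h4, h5, h6] <;> first | exact absurd rfl n1 | exact absurd rfl n2 | exact absurd rfl n3 | skip
          · rw [mul_assoc, ← hyw, ← mul_assoc]
          · rw [hzy]
          · rw [mul_assoc, ← hzw, ← mul_assoc, hzy]
          · rw [← hzw, mul_assoc, ← hyw, ← mul_assoc]
          · rw [← hyw, mul_assoc, ← hzw, ← mul_assoc, hzy]

end
end CfsgLib.KF11
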