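import Mathlib
import Cfsg.Agent.EqBase
import Cfsg.Agent.LibKF11d
import Cfsg.Agent.LibBW11p

/-! Groups with an involution with centraliser of order four: main theorem (seat helper11). -/

set_option autoImplicit false
set_option linter.all false

namespace CfsgLib.KF11

open Subgroup Cfsg CfsgLib.BW11

universe u

section
variable {G : Type u} [Group G] [Finite G]

/-- `V` a Sylow subgroup: an element of the normaliser whose square is in `V` is in `V` -/
theorem mem_of_sq {V : Subgroup G} (hodd : ¬ 2 ∣ V.index) {n : G} (hn : n ∈ normalizer (V : Set G)) (h2 : n * n ∈ V) : n ∈ V := by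
  have hN : (V.subgroupOf (normalizer (V : Set G))).Normal := Subgroup.normal_in_normalizer
  have h1 : (⟨n, hn⟩ : normalizer (V : Set G)) ^ (V.subgroupOf (normalizer (V : Set G))).index ∈ V.subgroupOf (normalizer (V : Set G)) :=
    Subgroup.pow_index_mem _ _
  have h3 : n ^ (V.subgroupOf (normalizer (V : Set G))).index ∈ V := h1
  have h4 : ¬ 2 ∣ (V.subgroupOf (normalizer (V : Set G))).index := by
    intro h5
    apply hodd
    have h6 := Subgroup.relIndex_mul_index (H := V) (K := normalizer (V : Set G)) le_normalizer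
    rw [← h6]
    exact h5.mul_right _
  apply mem_of_coprime (a := 2) (b := (V.subgroupOf (normalizer (V : Set G))).index) _ (by rw [pow_two]; exact h2) h3
  exact (Nat.Prime.coprime_iff_not_dvd Nat.prime_two).2 h4

theorem caseA {x : G} (hx2 : x * x = 1) (hx1 : x ≠ 1)
    (hC : Nat.card (centralizer ({x} : Set G)) = 4) (hCe : ∀ c, c * x = x * c → c * c = 1)
    (hodd : ¬ 2 ∣ (centralizer ({x} : Set G)).index) (hnc : ¬ Cfsg.HasNormalPComplement 2 G) (hE : NoEA G) :
    Nonempty (G ≃* alternatingGroup (Fin 5)) := by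
  classical
  haveI : Fact (Nat.Prime 2) := ⟨Nat.prime_two⟩
  obtain ⟨V, hV⟩ : ∃ V : Subgroup G, V = centralizer ({x} : Set G) := ⟨_, rfl⟩
  rw [← hV] at hC hodd
  have hmemV : ∀ g, g ∈ V ↔ g * x = x * g := fun g => by rw [hV, mem_centralizer_singleton_iff]
  have hxV : x ∈ V := by rw [hmemV]
  have hVp : IsPGroup 2 V := IsPGroup.of_card (n := 2) (by rw [hC]; norm_num)
  have hsq : ∀ g ∈ V, g * g = 1 := fun g hg => hCe g ((hmemV g).1 hg)
  have hVea : Cfsg.IsElementaryAbelian 2 V := isEA hsq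
  have hVab : ∀ a ∈ V, ∀ b ∈ V, a * b = b * a := by
    intro a ha b hb
    exact congrArg Subtype.val (hVea.1.1.1 (⟨a, ha⟩ : V) ⟨b, hb⟩)
  have hVnn : ¬ V.Normal := fun h => (hE V h hVea).2 hC
  obtain ⟨n, hn, hnV⟩ : ∃ n ∈ normalizer (V : Set G), n ∉ V := by
    by_contra hcon
    push Not at hcon
    apply hnc
    have hP : normalizer (((hVp.toSylow hodd : Sylow 2 G) : Subgroup G) : Set G) ≤ centralizer (((hVp.toSylow hodd : Sylow 2 G) : Subgroup G) : Set G) := by
      rw [IsPGroup.toSylow_coe]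
      intro g hg
      rw [mem_centralizer_iff]
      intro v hv
      exact hVab v hv g (hcon g hg)
    exact ⟨hVp.toSylow hodd, (MonoidHom.transferSylow (hVp.toSylow hodd) hP).ker, inferInstance, MonoidHom.ker_transferSylow_isComplement' _ hP⟩
  obtain ⟨v, hv⟩ : ∃ v, v = n * x * n⁻¹ := ⟨_, rfl⟩
  have hvV : v ∈ V := by rw [hv]; exact (mem_normalizer_iff.1 hn x).1 hxV
  have hv1 : v ≠ 1 := by rw [hv]; exact conj_ne_one hx1
  have hvx : v ≠ x := by
    intro h0
    apply hnV
    rw [hmemV]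
    rw [h0, eq_mul_inv_iff_mul_eq] at hv
    exact hv.symm
  have hxv := hVab x hxV v hvV
  have hV4 := eq_four hC hxV hvV hx2 (hsq v hvV) hxv hx1 hv1 hvx.symm
  have hwV : n * v * n⁻¹ ∈ V := (mem_normalizer_iff.1 hn v).1 hvV
  have hw : n * v * n⁻¹ = x * v := by
    rcases hV4 _ hwV with h1 | h1 | h1 | h1
    · exact absurd h1 (conj_ne_one hv1)
    · exfalso
      apply hnV
      apply mem_of_sq hodd hn
      rw [hmemV]
      rw [hv] at h1
      calc n * n * x = (n * (n * x * n⁻¹) * n⁻¹) * (n * n) := by group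
        _ = x * (n * n) := by rw [h1]
    · exfalso
      apply hvx
      have h2 : n * v * n⁻¹ = n * x * n⁻¹ := by rw [h1, hv]
      simpa using h2
    · exact h1
  have hcv : IsConj x v := isConj_iff.2 ⟨n, hv.symm⟩
  have hcw : IsConj x (x * v) := hcv.trans (isConj_iff.2 ⟨n, hw⟩)
  rw [hV] at hC hVnn
  apply main hx2 hx1 hC hCe _ hVnn
  intro y hy hy1
  obtain ⟨g, hg⟩ := conj_into Nat.prime_two V hodd (two_ord hy hy1)
  have h1 : IsConj y (g * y * g⁻¹) := isConj_iff.2 ⟨g, rfl⟩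
  rcases hV4 _ hg with h2 | h2 | h2 | h2
  · exact absurd h2 (conj_ne_one hy1)
  · rw [h2] at h1; exact h1.symm
  · rw [h2] at h1; exact hcv.trans h1.symm
  · rw [h2] at h1; exact hcw.trans h1.symm

/-- a normal complement from one in a subgroup of index two -/
theorem npc8 {N : Subgroup G} (hN : N.Normal) (hNi : N.index = 2) {W : Subgroup G} (hW : W ≤ N) (hW4 : Nat.card W = 4)
    (h16 : ¬ 16 ∣ Nat.card G) (hcomm : ∀ n ∈ N, n ∈ normalizer (W : Set G) → ∀ w ∈ W, n * w = w * n) : Cfsg.HasNormalPComplement 2 G := by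
  classical
  haveI : Fact (Nat.Prime 2) := ⟨Nat.prime_two⟩
  have hNc := N.card_mul_index
  rw [hNi] at hNc
  have hW'c : Nat.card (W.subgroupOf N) = 4 := by
    rw [Nat.card_congr (Subgroup.subgroupOfEquivOfLe hW).toEquiv, hW4]
  have hW'p : IsPGroup 2 (W.subgroupOf N) := IsPGroup.of_card (n := 2) (by rw [hW'c]; norm_num)
  have hW'i := (W.subgroupOf N).card_mul_index
  rw [hW'c] at hW'i
  have hodd : ¬ 2 ∣ (W.subgroupOf N).index := by
    rintro ⟨c, hc⟩
    apply h16
    refine ⟨c, ?_⟩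
    rw [hc] at hW'i
    omega
  obtain ⟨P, hP⟩ : ∃ P : Sylow 2 N, (P : Subgroup N) = W.subgroupOf N := ⟨hW'p.toSylow hodd, IsPGroup.toSylow_coe _ _⟩
  have hPn : normalizer ((P : Subgroup N) : Set N) ≤ centralizer ((P : Subgroup N) : Set N) := by
    rw [hP]
    intro n hn
    rw [mem_centralizer_iff]
    intro w hw
    apply Subtype.ext
    symm
    apply hcomm n n.2 _ w hw
    rw [mem_normalizer_iff] at hn ⊢
    intro g
    constructor
    · intro hg
      exact (hn ⟨g, hW hg⟩).1 hg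
    · intro hg
      have hgN : g ∈ N := by
        have h1 : g = (n : G)⁻¹ * (n * g * (n : G)⁻¹) * n := by group
        rw [h1]
        exact N.mul_mem (N.mul_mem (N.inv_mem n.2) (hW hg)) n.2
      exact (hn ⟨g, hgN⟩).2 hg
  have hcomp := MonoidHom.ker_transferSylow_isComplement' P hPn
  obtain ⟨φ, hφ⟩ : ∃ φ : N →* (P : Subgroup N), φ = MonoidHom.transferSylow P hPn := ⟨_, rfl⟩
  rw [← hφ] at hcomp
  have hcard := hcomp.card_mul
  have hPc : Nat.card (P : Subgroup N) = 4 := by rw [hP]; exact hW'c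
  rw [hPc] at hcard
  have hKodd : ¬ 2 ∣ Nat.card φ.ker := by
    rintro ⟨c, hc⟩
    apply hodd
    refine ⟨c, ?_⟩
    rw [hc] at hcard
    omega
  rw [CfsgLib.TransPC.hasNPC_iff]
  refine ⟨φ.ker.map N.subtype, ?_, ?_, 3, ?_⟩
  · refine ⟨?_⟩
    rintro _ ⟨n, hn, rfl⟩ g
    have hm : g * (n : G) * g⁻¹ ∈ N := hN.conj_mem n n.2 g
    refine ⟨⟨g * (n : G) * g⁻¹, hm⟩, ?_, rfl⟩
    rw [SetLike.mem_coe, MonoidHom.mem_ker]
    have h1 : (⟨g * (n : G) * g⁻¹, hm⟩ : N) ^ Nat.card φ.ker = 1 := by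
      apply Subtype.ext
      show (g * (n : G) * g⁻¹) ^ Nat.card φ.ker = 1
      have h2 : n ^ Nat.card φ.ker = 1 := congrArg Subtype.val (pow_card_eq_one' (x := (⟨n, hn⟩ : φ.ker)))
      have h3 : (n : G) ^ Nat.card φ.ker = 1 := by
        rw [← Subgroup.coe_pow, h2]; rfl
      rw [conj_pow, h3]; group
    have h2 : (φ ⟨g * (n : G) * g⁻¹, hm⟩) ^ Nat.card φ.ker = 1 := by rw [← map_pow, h1, map_one]
    have h3 : (φ ⟨g * (n : G) * g⁻¹, hm⟩) ^ 4 = 1 := by rw [← hPc]; exact pow_card_eq_one'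
    have hcop : Nat.Coprime 4 (Nat.card φ.ker) := by
      have : (4 : ℕ) = 2 ^ 2 := by norm_num
      rw [this]
      exact Nat.Coprime.pow_left 2 ((Nat.Prime.coprime_iff_not_dvd Nat.prime_two).2 hKodd)
    exact eq_one_of_pow_coprime hcop h3 h2
  · rw [Nat.card_congr (φ.ker.equivMapOfInjective N.subtype N.subtype_injective).symm.toEquiv]; exact hKodd
  · have h1 := (φ.ker.map N.subtype).card_mul_index
    rw [Nat.card_congr (φ.ker.equivMapOfInjective N.subtype N.subtype_injective).symm.toEquiv, ← hNc, ← hcard] at h1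
    have h2 : Nat.card φ.ker * (φ.ker.map N.subtype).index = Nat.card φ.ker * 2 ^ 3 := by rw [h1]; ring
    exact Nat.eq_of_mul_eq_mul_left Nat.card_pos h2

theorem exists_cyc {S : Subgroup G} (hS : IsPGroup 2 S) {x : G} (hxS : x ∈ S) (hx : orderOf x = 2)
    (hC : centralizer ({x} : Set G) ≤ S) (hC4 : Nat.card (centralizer ({x} : Set G)) = 4) (hS4 : Nat.card S ≠ 4) :
    ∃ A : Subgroup G, A ≤ S ∧ IsCyclic A ∧ A.relIndex S = 2 := by
  have hlift : ∀ c : S, Nat.card S = 2 * orderOf c → ∃ A : Subgroup G, A ≤ S ∧ IsCyclic A ∧ A.relIndex S = 2 := by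
    intro c hc
    have hle : zpowers (c : G) ≤ S := by rw [zpowers_le]; exact c.2
    refine ⟨zpowers (c : G), hle, inferInstance, ?_⟩
    have h1 := ((zpowers (c : G)).subgroupOf S).card_mul_index
    rw [Nat.card_congr (Subgroup.subgroupOfEquivOfLe hle).toEquiv, Nat.card_zpowers, Subgroup.orderOf_coe, hc, mul_comm 2] at h1
    exact Nat.eq_of_mul_eq_mul_left (orderOf_pos c) h1
  have hcard : Nat.card (centralizer ({(⟨x, hxS⟩ : S)} : Set S)) = 4 := by
    rw [← hC4]
    refine Nat.card_congr ⟨fun c => ⟨c.1.1, ?_⟩, fun c => ⟨⟨c.1, hC c.2⟩, ?_⟩, fun c => rfl, fun c => rfl⟩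
    · rw [mem_centralizer_singleton_iff]
      exact congrArg Subtype.val (mem_centralizer_singleton_iff.1 c.2)
    · rw [mem_centralizer_singleton_iff]
      exact Subtype.ext (mem_centralizer_singleton_iff.1 c.2)
  rcases Cfsg.Agent.S3224.result hS (⟨x, hxS⟩ : S) (by rw [Subgroup.orderOf_mk]; exact hx) hcard with ⟨n, ⟨e⟩⟩ | ⟨n, hn, hcn, a, b, ha, -⟩ | h
  · have hn0 : n ≠ 0 := by
      rintro rfl
      haveI : Finite (DihedralGroup 0) := Finite.of_equiv _ e.toEquiv
      have hinj : Function.Injective (fun i : ZMod 0 => (DihedralGroup.r i : DihedralGroup 0)) := by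
        intro a b hab; injection hab
      haveI : Finite (ZMod 0) := Finite.of_injective _ hinj
      have h1 : Finite ℤ := this
      exact not_finite ℤ
    haveI : NeZero n := ⟨hn0⟩
    apply hlift (e.symm (DihedralGroup.r 1))
    rw [MulEquiv.orderOf_eq, DihedralGroup.orderOf_r_one, Nat.card_congr e.toEquiv, DihedralGroup.nat_card]
  · apply hlift a
    rw [ha, hcn, pow_succ, mul_comm]
  · exact absurd h hS4

end
end CfsgLib.KF11
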