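import Mathlib
import Cfsg.Agent.EqBase
import Cfsg.Agent.LibKF11e

/-! Groups with an involution with centraliser of order four: the case of a large Sylow subgroup (seat helper11). -/

set_option autoImplicit false
set_option linter.all false

namespace CfsgLib.KF11

open Subgroup Cfsg CfsgLib.BW11

universe u

section
variable {G : Type u} [Group G] [Finite G]

/-- the dihedral group of order 8 generated by a four-group and `y` -/
theorem eight {V : Subgroup G} {y : G} (hVab : ∀ a ∈ V, ∀ b ∈ V, a * b = b * a) (hyn : ∀ v ∈ V, y * v * y⁻¹ ∈ V) (hyn' : ∀ v ∈ V, y⁻¹ * v * y ∈ V)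
    (hy2 : y * y ∈ V) : ∃ D : Subgroup G, ∀ g, g ∈ D ↔ (g ∈ V ∨ y * g ∈ V) := by
  refine ⟨{ carrier := {g | g ∈ V ∨ y * g ∈ V}
            one_mem' := Or.inl V.one_mem
            mul_mem' := ?_
            inv_mem' := ?_ }, fun g => Iff.rfl⟩
  · rintro a b (ha | ha) (hb | hb)
    · exact Or.inl (V.mul_mem ha hb)
    · right
      have : y * (a * b) = (y * a * y⁻¹) * (y * b) := by group
      rw [this]; exact V.mul_mem (hyn a ha) hb
    · right
      rw [← mul_assoc]; exact V.mul_mem ha hb
    · left
      have : a * b = (y⁻¹ * (y * a) * y) * (y * y)⁻¹ * (y * b) := by group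
      rw [this]
      exact V.mul_mem (V.mul_mem (hyn' _ ha) (V.inv_mem hy2)) hb
  · rintro a (ha | ha)
    · exact Or.inl (V.inv_mem ha)
    · right
      have : y * a⁻¹ = (y * (y * a)⁻¹ * y⁻¹) * (y * y) := by group
      rw [this]
      exact V.mul_mem (hyn _ (V.inv_mem ha)) hy2

theorem caseB {x : G} (hx2 : x * x = 1) (hx1 : x ≠ 1)
    (hC : Nat.card (centralizer ({x} : Set G)) = 4) (hCe : ∀ c, c * x = x * c → c * c = 1)
    (heven : 2 ∣ (centralizer ({x} : Set G)).index) (hnc : ¬ Cfsg.HasNormalPComplement 2 G) (hE : NoEA G) : False := by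
  classical
  haveI : Fact (Nat.Prime 2) := ⟨Nat.prime_two⟩
  obtain ⟨V, hV⟩ : ∃ V : Subgroup G, V = centralizer ({x} : Set G) := ⟨_, rfl⟩
  have hC' := hC
  rw [← hV] at hC heven
  have hmemV : ∀ g, g ∈ V ↔ g * x = x * g := fun g => by rw [hV, mem_centralizer_singleton_iff]
  have hxV : x ∈ V := by rw [hmemV]
  have hVp : IsPGroup 2 V := IsPGroup.of_card (n := 2) (by rw [hC]; norm_num)
  have hsq : ∀ g ∈ V, g * g = 1 := fun g hg => hCe g ((hmemV g).1 hg)
  have hVea : Cfsg.IsElementaryAbelian 2 V := isEA hsq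
  have hVab : ∀ a ∈ V, ∀ b ∈ V, a * b = b * a := by
    intro a ha b hb
    exact congrArg Subtype.val (hVea.1.1.1 (⟨a, ha⟩ : V) ⟨b, hb⟩)
  obtain ⟨P, hVP⟩ := hVp.exists_le_sylow
  obtain ⟨S, hS⟩ : ∃ S : Subgroup G, S = (P : Subgroup G) := ⟨_, rfl⟩
  have hSp : IsPGroup 2 S := by rw [hS]; exact P.2
  have hVS : V ≤ S := by rw [hS]; exact hVP
  have hSodd : ¬ 2 ∣ S.index := by rw [hS]; exact P.not_dvd_index
  have hVneS : V ≠ S := by rintro h0; rw [h0] at heven; exact hSodd heven
  have hS4 : Nat.card S ≠ 4 := by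
    intro h0
    exact hVneS (Subgroup.eq_of_le_of_card_ge hVS (by rw [h0, hC]))
  have h8 : 8 ∣ Nat.card S ∧ 8 ≤ Nat.card S := by
    obtain ⟨n, hn⟩ := IsPGroup.iff_card.1 hSp
    have h4 : 4 ≤ Nat.card S := by rw [← hC]; exact Subgroup.card_le_of_le hVS
    have hn3 : 3 ≤ n := by
      by_contra hcon
      have : n ≤ 2 := by omega
      interval_cases n <;> omega
    have h5 : 8 ∣ Nat.card S := by
      rw [hn]; exact pow_dvd_pow 2 hn3
    exact ⟨h5, Nat.le_of_dvd Nat.card_pos h5⟩
  obtain ⟨A, hAS, hA, hAi⟩ := exists_cyc hSp (hVS hxV) (two_ord hx2 hx1) (by rw [← hV]; exact hVS) hC' hS4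
  -- the central involution
  have hAc : Nat.card A * 2 = Nat.card S := by
    have h1 := (A.subgroupOf S).card_mul_index
    rw [Nat.card_congr (Subgroup.subgroupOfEquivOfLe hAS).toEquiv] at h1
    have h2 : (A.subgroupOf S).index = 2 := hAi
    rwa [h2] at h1
  obtain ⟨z', hz'⟩ := exists_prime_orderOf_dvd_card' (G := A) 2 (by omega)
  obtain ⟨z, hz⟩ : ∃ z : G, z = z' := ⟨_, rfl⟩
  have hzA : z ∈ A := by rw [hz]; exact z'.2
  have hzo : orderOf z = 2 := by rw [hz, Subgroup.orderOf_coe, hz']
  obtain ⟨hz2, hz1⟩ := ord_two hzo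
  have hAu : ∀ a ∈ A, a * a = 1 → a ≠ 1 → a = z := by
    intro a ha haa ha1
    have h1 := CfsgLib.ThompTr.unique_involution (⟨a, ha⟩ : A) ⟨z, hzA⟩ (by rw [Subgroup.orderOf_mk]; exact two_ord haa ha1)
      (by rw [Subgroup.orderOf_mk]; exact hzo)
    exact congrArg Subtype.val h1
  have hconjinv : ∀ g y : G, y * y = 1 → (g * y * g⁻¹) * (g * y * g⁻¹) = 1 := by
    intro g y hy
    calc (g * y * g⁻¹) * (g * y * g⁻¹) = g * (y * y) * g⁻¹ := by group
      _ = 1 := by rw [hy]; group
  have hzS : ∀ s ∈ S, s * z = z * s := by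
    intro s hs
    have hn : (A.subgroupOf S).Normal := Subgroup.normal_of_index_eq_two hAi
    have h1 : s * z * s⁻¹ ∈ A := hn.conj_mem ⟨z, hAS hzA⟩ hzA ⟨s, hs⟩
    have h2 := hAu _ h1 (hconjinv s z hz2) (conj_ne_one hz1)
    rwa [mul_inv_eq_iff_eq_mul] at h2
  have hSCz : S ≤ centralizer ({z} : Set G) := fun s hs => mem_centralizer_singleton_iff.2 (hzS s hs)
  have hnxz : ¬ IsConj x z := by
    intro hc
    have h1 := card_inv x
    have h2 := card_inv z
    have h3 : Nat.card {y : G // IsConj x y} = Nat.card {y : G // IsConj z y} :=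
      Nat.card_congr (Equiv.subtypeEquivRight fun y => ⟨fun h => hc.symm.trans h, fun h => hc.trans h⟩)
    have h4 : Nat.card (centralizer ({x} : Set G)) = Nat.card (centralizer ({z} : Set G)) := by
      have h5 : 0 < Nat.card {y : G // IsConj z y} := by
        haveI : Nonempty {y : G // IsConj z y} := ⟨⟨z, IsConj.refl z⟩⟩
        exact Nat.card_pos
      apply Nat.eq_of_mul_eq_mul_left h5
      rw [h2, ← h3, h1]
    have h6 := Subgroup.card_le_of_le hSCz
    rw [← h4, hC'] at h6
    omega
  have hxz : x * z = z * x := hzS x (hVS hxV)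
  have hzV : z ∈ V := by rw [hmemV]; exact hxz.symm
  have hne : x ≠ z := by rintro rfl; exact hnxz (IsConj.refl _)
  obtain ⟨N, hN, hNi, hxN⟩ : ∃ M : Subgroup G, M.Normal ∧ M.index = 2 ∧ x ∉ M := by
    rcases CfsgLib.ThompTr.thompson_transfer P A (by rw [← hS]; exact hAS) (by rw [← hS]; exact hAi) x (by rw [pow_two]; exact hx2) with h | ⟨g, hg⟩
    · exact h
    · exfalso
      have h1 := hAu _ hg (hconjinv g x hx2) (conj_ne_one hx1)
      exact hnxz (isConj_iff.2 ⟨g, h1⟩)
  have hV4 := eq_four hC hxV hzV hx2 hz2 hxz hx1 hz1 hne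
  obtain ⟨s, hsS, hsV, hsn⟩ := grow Nat.prime_two hSp hVS hVneS
  have hsx : s * x * s⁻¹ = x * z := by
    rcases hV4 _ ((mem_normalizer_iff.1 hsn x).1 hxV) with h1 | h1 | h1 | h1
    · exact absurd h1 (conj_ne_one hx1)
    · exfalso
      apply hsV
      rw [hmemV]
      rwa [mul_inv_eq_iff_eq_mul] at h1
    · exact absurd (isConj_iff.2 ⟨s, h1⟩) hnxz
    · exact h1
  have hcfg : Cfg x z := ⟨hx2, hx1, hz2, hz1, hxz, hC', isConj_iff.2 ⟨s, hsx⟩, hnxz⟩
  have hxzN : x * z ∉ N := by
    intro h0
    rw [← hsx] at h0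
    apply hxN
    have := hN.conj_mem _ h0 s⁻¹
    have e : s⁻¹ * (s * x * s⁻¹) * s⁻¹⁻¹ = x := by group
    rwa [e] at this
  have hNmul : ∀ {a b : G}, a ∉ N → b ∉ N → a * b ∈ N := by
    intro a b ha hb
    rw [Subgroup.mul_mem_iff_of_index_two hNi]; tauto
  have hzN : z ∈ N := by
    have h1 := hNmul hxN hxzN
    rwa [← mul_assoc, hx2, one_mul] at h1
  have hfin : ∀ {B : Subgroup G}, B ≤ N → Nat.card B = 4 → (∀ g ∈ B, g ≠ 1 → IsConj z g ∨ g * g = z) → False := by
    intro B hB hB4 hBz
    exact hcfg.fin3 hE (hcfg.le_three hN hNi hxN hB hB4 hBz)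
  -- an element of order four
  obtain ⟨y, hyS, hyx, hyy⟩ : ∃ y ∈ S, y * x * y⁻¹ = x * z ∧ y * y = z := by
    have hszs : s * z * s⁻¹ = z := by rw [hzS s hsS, mul_inv_cancel_right]
    have h1 : s * s ∈ V := by
      rw [hmemV]
      have h2 : (s * s) * x * (s * s)⁻¹ = x := by
        calc (s * s) * x * (s * s)⁻¹ = s * (s * x * s⁻¹) * s⁻¹ := by group
          _ = s * (x * z) * s⁻¹ := by rw [hsx]
          _ = (s * x * s⁻¹) * (s * z * s⁻¹) := by group
          _ = x * z * z := by rw [hsx, hszs]
          _ = x := by rw [mul_assoc, hz2, mul_one]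
      rwa [mul_inv_eq_iff_eq_mul] at h2
    have h3 : s * (s * s) * s⁻¹ = s * s := by group
    rcases hV4 _ h1 with h4 | h4 | h4 | h4
    · refine ⟨s * x, S.mul_mem hsS (hVS hxV), ?_, ?_⟩
      · calc s * x * x * (s * x)⁻¹ = s * x * s⁻¹ := by group
          _ = x * z := hsx
      · calc s * x * (s * x) = (s * x * s⁻¹) * (s * s) * x := by group
          _ = x * z * 1 * x := by rw [hsx, h4]
          _ = (x * z) * x := by rw [mul_one]
          _ = (z * x) * x := by rw [hxz]
          _ = z := by rw [mul_assoc, hx2, mul_one]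
    · exfalso
      rw [h4, hsx] at h3
      exact hz1 (by rwa [mul_eq_left] at h3)
    · exact ⟨s, hsS, hsx, h4⟩
    · exfalso
      rw [h4] at h3
      have h5 : s * (x * z) * s⁻¹ = (s * x * s⁻¹) * (s * z * s⁻¹) := by group
      rw [h5, hsx, hszs, mul_assoc, hz2, mul_one] at h3
      exact hz1 (by rwa [left_eq_mul] at h3)
  have hyz : y * z = z * y := hzS y hyS
  have hyV : y ∉ V := by
    intro h0
    have h1 := hsq y h0
    rw [hyy] at h1
    exact hz1 h1
  have hyn : ∀ v ∈ V, y * v * y⁻¹ ∈ V := by
    intro v hv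
    have hyzy : y * z * y⁻¹ = z := by rw [hyz, mul_inv_cancel_right]
    rcases hV4 v hv with rfl | rfl | rfl | rfl
    · rw [mul_one, mul_inv_cancel]; exact V.one_mem
    · rw [hyx]; exact V.mul_mem hxV hzV
    · rw [hyzy]; exact hzV
    · have h5 : y * (x * z) * y⁻¹ = (y * x * y⁻¹) * (y * z * y⁻¹) := by group
      rw [h5, hyx, hyzy]
      exact V.mul_mem (V.mul_mem hxV hzV) hzV
  by_cases hyN : y ∈ N
  · -- cyclic of order four
    have hyo : orderOf y = 4 := by
      have h1 : orderOf y = 2 ^ (1 + 1) := by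
        apply orderOf_eq_prime_pow
        · rw [pow_one, pow_two, hyy]; exact hz1
        · rw [show (2 : ℕ) ^ (1 + 1) = 2 * 2 by norm_num, pow_mul, pow_two, pow_two, hyy, hz2]
      rw [h1]; norm_num
    apply hfin (B := zpowers y) (by rw [zpowers_le]; exact hyN) (by rw [Nat.card_zpowers, hyo])
    intro g hg hg1
    obtain ⟨j, rfl⟩ := mem_zpowers_iff.1 hg
    rcases Int.even_or_odd' j with ⟨i, hi | hi⟩
    · left
      have h1 : y ^ j = z ^ i := by rw [hi, zpow_mul, zpow_ofNat, pow_two, hyy]
      rw [h1] at hg1 ⊢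
      rcases Int.even_or_odd' i with ⟨l, hl | hl⟩
      · exfalso
        apply hg1
        rw [hl, zpow_mul, zpow_ofNat, pow_two, hz2, one_zpow]
      · rw [hl, zpow_add, zpow_mul, zpow_ofNat, pow_two, hz2, one_zpow, zpow_one, one_mul]
    · right
      rw [← zpow_add, ← two_mul, zpow_mul, zpow_ofNat, pow_two, hyy, hi, zpow_add, zpow_mul, zpow_ofNat, pow_two, hz2, one_zpow, zpow_one, one_mul]
  · -- the four-group `⟨z, y x⟩`
    obtain ⟨w, hw⟩ : ∃ w, w = y * x := ⟨_, rfl⟩
    have hwN : w ∈ N := by rw [hw]; exact hNmul hyN hxN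
    have hwS : w ∈ S := by rw [hw]; exact S.mul_mem hyS (hVS hxV)
    have hyx' : y * x = x * z * y := by rwa [mul_inv_eq_iff_eq_mul] at hyx
    have hw2 : w * w = 1 := by
      calc w * w = (y * x * y⁻¹) * (y * y) * x := by rw [hw]; group
        _ = x * z * z * x := by rw [hyx, hyy]
        _ = x * (z * z) * x := by group
        _ = 1 := by rw [hz2, mul_one, hx2]
    have hw1 : w ≠ 1 := by
      intro h0
      apply hyV
      rw [hw] at h0
      rw [eq_inv_of_mul_eq_one_left h0]
      exact V.inv_mem hxV
    have hwz : z * w = w * z := (hzS w hwS).symm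
    have hwnez : z ≠ w := by
      intro h0
      apply hyV
      have h1 : y = z * x⁻¹ := by rw [h0, hw]; group
      rw [h1]; exact V.mul_mem hzV (V.inv_mem hxV)
    have hxwx : x * w * x⁻¹ = z * w := by
      rw [hw]
      calc x * (y * x) * x⁻¹ = x * y := by group
        _ = z * (z * x * y) := by
          have : z * (z * x * y) = (z * z) * x * y := by group
          rw [this, hz2, one_mul]
        _ = z * (x * z * y) := by rw [hxz]
        _ = z * (y * x) := by rw [← hyx']
    have hcw : IsConj w (z * w) := isConj_iff.2 ⟨x, hxwx⟩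
    obtain ⟨W, hW⟩ := four z w hz2 hw2 hwz
    have hW4 := four_card hW hz1 hw1 hwnez hz2
    have hWN : W ≤ N := by
      intro g hg
      rcases (hW g).1 hg with rfl | rfl | rfl | rfl
      · exact N.one_mem
      · exact hzN
      · exact hwN
      · exact N.mul_mem hzN hwN
    by_cases hczw : IsConj z w
    · apply hfin hWN hW4
      intro g hg hg1
      left
      rcases (hW g).1 hg with rfl | rfl | rfl | rfl
      · exact absurd rfl hg1
      · exact IsConj.refl _
      · exact hczw
      · exact hczw.trans hcw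
    · -- normal complement
      apply hnc
      have hyn' : ∀ v ∈ V, y⁻¹ * v * y ∈ V := by
        intro v hv
        have h1 := hyn _ (hyn v hv)
        have h2 := hyn _ h1
        have h4 : y * y * (y * y) = 1 := by rw [hyy, hz2]
        have h3 : y⁻¹ * v * y = y * (y * (y * v * y⁻¹) * y⁻¹) * y⁻¹ := by
          have e : y⁻¹ = y * y * y := by
            rw [inv_eq_iff_mul_eq_one, ← h4]; group
          calc y⁻¹ * v * y = y⁻¹ * v * (y⁻¹)⁻¹ := by rw [inv_inv]
            _ = (y * y * y) * v * (y * y * y)⁻¹ := by rw [← e]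
            _ = y * (y * (y * v * y⁻¹) * y⁻¹) * y⁻¹ := by group
        rw [h3]; exact h2
      obtain ⟨D, hD⟩ := eight hVab hyn hyn' (by rw [hyy]; exact hzV)
      have hVD : V ≤ D := fun v hv => (hD v).2 (Or.inl hv)
      have hyD : y ∈ D := (hD y).2 (Or.inr (by rw [hyy]; exact hzV))
      have hDS : D ≤ S := by
        intro g hg
        rcases (hD g).1 hg with h1 | h1
        · exact hVS h1
        · have h2 : g = y⁻¹ * (y * g) := by group
          rw [h2]; exact S.mul_mem (S.inv_mem hyS) (hVS h1)
      have hDc : Nat.card D = 8 := by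
        have hidx : (V.subgroupOf D).index = 2 := by
          rw [Subgroup.index_eq_two_iff']
          refine ⟨⟨y, hyD⟩, fun b => ?_⟩
          have hb := (hD b).1 b.2
          by_cases hbV : (b : G) ∈ V
          · right
            refine ⟨hbV, fun h0 => hyV ?_⟩
            have h1 : y * (b : G) ∈ V := h0
            have h2 : y = (y * (b : G)) * (b : G)⁻¹ := by group
            rw [h2]; exact V.mul_mem h1 (V.inv_mem hbV)
          · left
            exact ⟨hb.resolve_left hbV, hbV⟩
        have h1 := (V.subgroupOf D).card_mul_index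
        rw [Nat.card_congr (Subgroup.subgroupOfEquivOfLe hVD).toEquiv, hC, hidx] at h1
        omega
      have hDeq : D = S := by
        by_contra hDne
        obtain ⟨e, heS, heD, hen⟩ := grow Nat.prime_two hSp hDS hDne
        have h1 := (mem_normalizer_iff.1 hen x).1 (hVD hxV)
        have hexN : e * x * e⁻¹ ∉ N := by
          intro h0
          apply hxN
          have := hN.conj_mem _ h0 e⁻¹
          have e' : e⁻¹ * (e * x * e⁻¹) * e⁻¹⁻¹ = x := by group
          rwa [e'] at this
        have hex2 := hconjinv e x hx2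
        rcases (hD _).1 h1 with h2 | h2
        · rcases hV4 _ h2 with h3 | h3 | h3 | h3
          · exact absurd h3 (conj_ne_one hx1)
          · apply heD
            apply hVD
            rw [hmemV]
            rwa [mul_inv_eq_iff_eq_mul] at h3
          · exact absurd (isConj_iff.2 ⟨e, h3⟩) hnxz
          · apply heD
            have h4 : y⁻¹ * e ∈ V := by
              rw [hmemV]
              have h5 : e * x * e⁻¹ = y * x * y⁻¹ := by rw [h3, hyx]
              rw [mul_inv_eq_iff_eq_mul] at h5
              calc y⁻¹ * e * x = y⁻¹ * (e * x) := by group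
                _ = y⁻¹ * (y * x * y⁻¹ * e) := by rw [h5]
                _ = x * (y⁻¹ * e) := by group
            have h5 : e = y * (y⁻¹ * e) := by group
            rw [h5]
            exact D.mul_mem hyD (hVD h4)
        · -- `e x e⁻¹ = y⁻¹ v`
          obtain ⟨v, hv⟩ : ∃ v, v = y * (e * x * e⁻¹) := ⟨_, rfl⟩
          rw [← hv] at h2
          have h3 : e * x * e⁻¹ = y⁻¹ * v := by rw [hv]; group
          have hyi : y⁻¹ = z * y := by
            rw [inv_eq_iff_mul_eq_one, ← hyy]
            rw [hyy, ← mul_assoc, hyz, mul_assoc, hyy, hz2]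
          rw [hyi] at h3
          rcases hV4 _ h2 with h4 | h4 | h4 | h4
          · -- `z y` has order four
            rw [h4, mul_one] at h3
            rw [h3] at hex2
            have h5 : z * y * (z * y) = z := by
              calc z * y * (z * y) = z * (y * z) * y := by group
                _ = z * (z * y) * y := by rw [hyz]
                _ = (z * z) * (y * y) := by group
                _ = z := by rw [hz2, hyy, one_mul]
            rw [h5] at hex2
            exact hz1 hex2
          · apply hexN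
            rw [h3, h4, mul_assoc, ← hw]
            exact N.mul_mem hzN hwN
          · rw [h4] at h3
            rw [h3] at hex2
            have h5 : z * y * z * (z * y * z) = z := by
              have e1 : z * y * z = y := by rw [← hyz, mul_assoc, hz2, mul_one]
              rw [e1, hyy]
            rw [h5] at hex2
            exact hz1 hex2
          · apply hexN
            rw [h3, h4]
            have h5 : z * y * (x * z) = z * (y * x) * z := by group
            rw [h5, ← hw]
            exact N.mul_mem (N.mul_mem hzN hwN) hzN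
      have hS8 : Nat.card S = 8 := by rw [← hDeq, hDc]
      have h16 : ¬ 16 ∣ Nat.card G := by
        intro h0
        have h1 := S.card_mul_index
        rw [hS8] at h1
        apply hSodd
        obtain ⟨c, hc⟩ := h0
        refine ⟨c, ?_⟩
        omega
      apply npc8 hN hNi hWN hW4 h16
      intro n hnN hn g hg
      have hnz : n * z * n⁻¹ = z := by
        have hzW : z ∈ W := (hW z).2 (Or.inr (Or.inl rfl))
        rcases (hW _).1 ((mem_normalizer_iff.1 hn z).1 hzW) with h1 | h1 | h1 | h1
        · exact absurd h1 (conj_ne_one hz1)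
        · exact h1
        · exact absurd (isConj_iff.2 ⟨n, h1⟩) hczw
        · exact absurd ((isConj_iff.2 ⟨n, h1⟩ : IsConj z (z * w)).trans hcw.symm) hczw
      have hwW : w ∈ W := (hW w).2 (Or.inr (Or.inr (Or.inl rfl)))
      have hnw : n * w * n⁻¹ = w := by
        rcases (hW _).1 ((mem_normalizer_iff.1 hn w).1 hwW) with h1 | h1 | h1 | h1
        · exact absurd h1 (conj_ne_one hw1)
        · exfalso
          apply hwnez
          have : n * w * n⁻¹ = n * z * n⁻¹ := by rw [h1, hnz]
          have h2 : w = z := by simpa using this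
          exact h2.symm
        · exact h1
        · -- order argument
          exfalso
          obtain ⟨M, hM⟩ : ∃ M : Subgroup G, M = N ⊓ normalizer (W : Set G) := ⟨_, rfl⟩
          have hWM : W ≤ M := by rw [hM]; exact le_inf hWN le_normalizer
          have hMN : M ≤ N := by rw [hM]; exact inf_le_left
          have hMW : M ≤ normalizer (W : Set G) := by rw [hM]; exact inf_le_right
          have hnM : n ∈ M := by rw [hM]; exact ⟨hnN, hn⟩
          have hWMn : (W.subgroupOf M).Normal := by
            refine ⟨fun a ha b => ?_⟩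
            have hb : (b : G) ∈ normalizer (W : Set G) := hMW b.2
            exact (mem_normalizer_iff.1 hb a).1 ha
          have hWMc := (W.subgroupOf M).card_mul_index
          rw [Nat.card_congr (Subgroup.subgroupOfEquivOfLe hWM).toEquiv, hW4] at hWMc
          have hiodd : ¬ 2 ∣ (W.subgroupOf M).index := by
            rintro ⟨c, hc⟩
            apply h16
            have h2 : 8 ∣ Nat.card M := ⟨c, by rw [← hWMc, hc]; ring⟩
            have h3 := h2.trans (Subgroup.card_dvd_of_le hMN)
            have h4 := N.card_mul_index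
            rw [hNi] at h4
            obtain ⟨d, hd⟩ := h3
            exact ⟨d, by rw [← h4, hd]; ring⟩
          have hpow : n ^ (W.subgroupOf M).index ∈ W := Subgroup.pow_index_mem (W.subgroupOf M) (⟨n, hnM⟩ : M)
          have hc1 : n ^ (W.subgroupOf M).index ∈ centralizer ({w} : Set G) := by
            rw [mem_centralizer_singleton_iff]
            rcases (hW _).1 hpow with h2 | h2 | h2 | h2 <;> rw [h2]
            · rw [one_mul, mul_one]
            · exact hwz
            · rw [mul_assoc, hw2, mul_one, hwz, ← mul_assoc, hw2, one_mul]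
          have hc2 : n ^ 2 ∈ centralizer ({w} : Set G) := by
            rw [mem_centralizer_singleton_iff, pow_two]
            have h2 : (n * n) * w * (n * n)⁻¹ = w := by
              calc (n * n) * w * (n * n)⁻¹ = n * (n * w * n⁻¹) * n⁻¹ := by group
                _ = n * (z * w) * n⁻¹ := by rw [h1]
                _ = (n * z * n⁻¹) * (n * w * n⁻¹) := by group
                _ = z * (z * w) := by rw [hnz, h1]
                _ = w := by rw [← mul_assoc, hz2, one_mul]
            rwa [mul_inv_eq_iff_eq_mul] at h2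
          have hc3 := mem_of_coprime ((Nat.Prime.coprime_iff_not_dvd Nat.prime_two).2 hiodd) hc2 hc1
          rw [mem_centralizer_singleton_iff] at hc3
          rw [hc3, mul_inv_cancel_right] at h1
          exact hz1 (by rwa [right_eq_mul] at h1)
      rw [mul_inv_eq_iff_eq_mul] at hnz hnw
      rcases (hW g).1 hg with rfl | rfl | rfl | rfl
      · rw [mul_one, one_mul]
      · exact hnz
      · exact hnw
      · rw [← mul_assoc, hnz, mul_assoc, hnw, mul_assoc]

end
end CfsgLib.KF11
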