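import Mathlib
import Cfsg.Agent.EqBase
import Cfsg.Agent.LibKF11f

/-! Involutions with centraliser `V × K`, `V` a four-group, `K` of odd order: basic facts (seat helper11). -/

set_option autoImplicit false
set_option linter.all false

namespace CfsgLib.KG11

open Subgroup Cfsg CfsgLib.BW11 CfsgLib.KF11

universe u

/-- `C(x) = V × K`, `V` a Sylow four-group, one class of involutions -/
structure KS {G : Type u} [Group G] (x : G) (V K : Subgroup G) : Prop where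
  x2 : x * x = 1
  x1 : x ≠ 1
  xV : x ∈ V
  V4 : Nat.card V = 4
  Vsq : ∀ v ∈ V, v * v = 1
  VK : ∀ v ∈ V, ∀ k ∈ K, v * k = k * v
  odd : ¬ 2 ∣ Nat.card K
  cent : ∀ g, g * x = x * g ↔ ∃ v ∈ V, ∃ k ∈ K, v * k = g
  cj : ∀ y, y * y = 1 → y ≠ 1 → IsConj x y
  syl : ¬ 2 ∣ V.index

/-- elements of even order -/
def Ev {G : Type u} [Group G] (g : G) : Prop := 2 ∣ orderOf g

section
variable {G : Type u} [Group G]

theorem Ev_conj {g : G} (h : G) : Ev (h * g * h⁻¹) ↔ Ev g := by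
  unfold Ev; rw [CfsgLib.TransFus.orderOf_conj]

theorem Ev_inv {g : G} : Ev g⁻¹ ↔ Ev g := by unfold Ev; rw [orderOf_inv]

theorem not_Ev_one : ¬ Ev (1 : G) := by unfold Ev; rw [orderOf_one]; norm_num

theorem Ev_of_pow {g y : G} {n : ℕ} (h : g ^ n = y) (hy : y * y = 1) (hy1 : y ≠ 1) : Ev g := by
  unfold Ev
  have h1 : orderOf y = 2 := orderOf_eq_prime (by rw [pow_two]; exact hy) hy1
  rw [← h1, ← h]
  exact orderOf_pow_dvd n

end

namespace KS
variable {G : Type u} [Group G] [Finite G] {x : G} {V K : Subgroup G} (h : KS x V K)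
include h

theorem Vab : ∀ a ∈ V, ∀ b ∈ V, a * b = b * a := by
  intro a ha b hb
  have h1 : a⁻¹ = a := inv_eq_of_mul_eq_one_left (h.Vsq a ha)
  have h2 : b⁻¹ = b := inv_eq_of_mul_eq_one_left (h.Vsq b hb)
  have h3 := inv_eq_of_mul_eq_one_left (h.Vsq (a * b) (V.mul_mem ha hb))
  rw [← h3, mul_inv_rev, h1, h2]

theorem inter {g : G} (h1 : g ∈ V) (h2 : g ∈ K) : g = 1 :=
  order_prime_of_invol h.odd h2 (h.Vsq g h1)

theorem pow_mul {v k : G} (hv : v ∈ V) (hk : k ∈ K) (n : ℕ) : (v * k) ^ n = v ^ n * k ^ n :=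
  (show Commute v k from h.VK v hv k hk).mul_pow n

theorem pow_V {v : G} (hv : v ∈ V) {n : ℕ} (hn : ¬ 2 ∣ n) : v ^ n = v := by
  obtain ⟨m, rfl⟩ : ∃ m, n = 2 * m + 1 := ⟨n / 2, by omega⟩
  rw [pow_succ, _root_.pow_mul, pow_two, h.Vsq v hv, one_pow, one_mul]

theorem pow_card {v k : G} (hv : v ∈ V) (hk : k ∈ K) : (v * k) ^ Nat.card K = v := by
  rw [h.pow_mul hv hk, h.pow_V hv h.odd, pow_card_mem hk, mul_one]

theorem unique {v k v' k' : G} (hv : v ∈ V) (hk : k ∈ K) (hv' : v' ∈ V) (hk' : k' ∈ K) (he : v * k = v' * k') : v = v' ∧ k = k' := by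
  have h1 : v = v' := by rw [← h.pow_card hv hk, he, h.pow_card hv' hk']
  subst h1
  exact ⟨rfl, mul_left_cancel he⟩

theorem Ev_iff {v k : G} (hv : v ∈ V) (hk : k ∈ K) : Ev (v * k) ↔ v ≠ 1 := by
  constructor
  · rintro h1 rfl
    rw [one_mul] at h1
    apply h.odd
    refine h1.trans ?_
    have := orderOf_dvd_natCard (⟨k, hk⟩ : K)
    rwa [← Subgroup.orderOf_coe] at this
  · intro hv1
    exact Ev_of_pow (h.pow_card hv hk) (h.Vsq v hv) hv1

theorem mem_V {v k : G} (hv : v ∈ V) (hk : k ∈ K) (h2 : (v * k) * (v * k) = 1) : k = 1 := by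
  apply order_prime_of_invol h.odd hk
  have h3 := h.pow_mul hv hk 2
  rw [pow_two, h2, pow_two, h.Vsq v hv, one_mul, pow_two] at h3
  exact h3.symm

theorem VC {v : G} (hv : v ∈ V) : v * x = x * v := h.Vab v hv x h.xV

theorem KC {k : G} (hk : k ∈ K) : k * x = x * k := (h.VK x h.xV k hk).symm

theorem conjK {c k : G} (hc : c * x = x * c) (hk : k ∈ K) : c * k * c⁻¹ ∈ K := by
  obtain ⟨v, hv, k', hk', rfl⟩ := (h.cent c).1 hc
  have h1 : v * k' * k * (v * k')⁻¹ = k' * k * k'⁻¹ := by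
    have h2 := h.VK v hv (k' * k * k'⁻¹) (K.mul_mem (K.mul_mem hk' hk) (K.inv_mem hk'))
    calc v * k' * k * (v * k')⁻¹ = (v * (k' * k * k'⁻¹)) * v⁻¹ := by group
      _ = k' * k * k'⁻¹ := by rw [h2, mul_inv_cancel_right]
  rw [h1]
  exact K.mul_mem (K.mul_mem hk' hk) (K.inv_mem hk')

/-- conjugating elements -/
theorem exists_conj {v : G} (hv : v ∈ V) (hv1 : v ≠ 1) : ∃ n : G, n * x * n⁻¹ = v ∧ (∀ w ∈ V, n * w * n⁻¹ ∈ V) ∧ (∀ w ∈ V, n⁻¹ * w * n ∈ V) ∧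
    (∀ k ∈ K, n * k * n⁻¹ ∈ K) := by
  obtain ⟨n, hn⟩ := isConj_iff.1 (h.cj v (h.Vsq v hv) hv1)
  have h1 : ∀ w ∈ V, n⁻¹ * w * n ∈ V := by
    intro w hw
    have hc : (n⁻¹ * w * n) * x = x * (n⁻¹ * w * n) := by
      have h2 := h.Vab w hw v hv
      calc (n⁻¹ * w * n) * x = n⁻¹ * (w * (n * x * n⁻¹)) * n := by group
        _ = n⁻¹ * ((n * x * n⁻¹) * w) * n := by rw [hn, h2]
        _ = x * (n⁻¹ * w * n) := by group
    obtain ⟨a, ha, k, hk, he⟩ := (h.cent _).1 hc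
    have h3 : (a * k) * (a * k) = 1 := by
      rw [he]
      calc (n⁻¹ * w * n) * (n⁻¹ * w * n) = n⁻¹ * (w * w) * n := by group
        _ = 1 := by rw [h.Vsq w hw]; group
    rw [← he, h.mem_V ha hk h3, mul_one]; exact ha
  have h2 : ∀ w ∈ V, n * w * n⁻¹ ∈ V := by
    intro w hw
    obtain ⟨f, hf⟩ : ∃ f : V → V, ∀ w, (f w : G) = n⁻¹ * w * n := ⟨fun w => ⟨_, h1 w w.2⟩, fun _ => rfl⟩
    have hinj : Function.Injective f := by
      intro a b hab
      have h3 : n⁻¹ * (a : G) * n = n⁻¹ * b * n := by rw [← hf, ← hf, hab]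
      exact Subtype.ext (by simpa using h3)
    obtain ⟨a, ha⟩ := Finite.surjective_of_injective hinj ⟨w, hw⟩
    have h3 : n⁻¹ * (a : G) * n = w := by rw [← hf, ha]
    have h4 : n * w * n⁻¹ = a := by rw [← h3]; group
    rw [h4]; exact a.2
  refine ⟨n, hn, h2, h1, fun k hk => ?_⟩
  have hc : (n * k * n⁻¹) * x = x * (n * k * n⁻¹) := by
    have h3 := h.VK _ (h1 x h.xV) k hk
    calc (n * k * n⁻¹) * x = n * (k * (n⁻¹ * x * n)) * n⁻¹ := by group
      _ = n * ((n⁻¹ * x * n) * k) * n⁻¹ := by rw [h3]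
      _ = x * (n * k * n⁻¹) := by group
  obtain ⟨a, ha, k', hk', he⟩ := (h.cent _).1 hc
  have h3 : (n * k * n⁻¹) ^ Nat.card K = 1 := by rw [conj_pow, pow_card_mem hk]; group
  rw [← he, h.pow_card ha hk'] at h3
  rw [← he, h3, one_mul]; exact hk'

/-- the centraliser of any involution of `V` -/
theorem cent' {v : G} (hv : v ∈ V) (hv1 : v ≠ 1) {g : G} (hg : g * v = v * g) : ∃ v' ∈ V, ∃ k ∈ K, v' * k = g := by
  obtain ⟨n, hn, h1, h2, h3⟩ := h.exists_conj hv hv1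
  have hc : (n⁻¹ * g * n) * x = x * (n⁻¹ * g * n) := by
    calc (n⁻¹ * g * n) * x = n⁻¹ * (g * (n * x * n⁻¹)) * n := by group
      _ = n⁻¹ * ((n * x * n⁻¹) * g) * n := by rw [hn, hg]
      _ = x * (n⁻¹ * g * n) := by group
  obtain ⟨a, ha, k, hk, he⟩ := (h.cent _).1 hc
  refine ⟨n * a * n⁻¹, h1 a ha, n * k * n⁻¹, h3 k hk, ?_⟩
  calc n * a * n⁻¹ * (n * k * n⁻¹) = n * (a * k) * n⁻¹ := by group
    _ = g := by rw [he]; group

/-- elements of even order -/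
theorem exists_of_Ev {g : G} (hg : Ev g) : ∃ n k : G, k ∈ K ∧ n * (x * k) * n⁻¹ = g := by
  obtain ⟨m, hm⟩ := hg
  have hpos := orderOf_pos g
  have hm0 : 0 < m := by omega
  have hy2 : g ^ m * g ^ m = 1 := by rw [← pow_add, ← two_mul, ← hm, pow_orderOf_eq_one]
  have hy1 : g ^ m ≠ 1 := by
    intro h0
    have := Nat.le_of_dvd hm0 (orderOf_dvd_of_pow_eq_one h0)
    omega
  obtain ⟨n, hn⟩ := isConj_iff.1 (h.cj _ hy2 hy1)
  have hpow : (n⁻¹ * g * n) ^ m = x := by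
    have h1 := conj_pow (a := n⁻¹) (b := g) (i := m)
    rw [inv_inv] at h1
    rw [h1, ← hn]; group
  have hc : (n⁻¹ * g * n) * x = x * (n⁻¹ * g * n) := by
    rw [← hpow, ← pow_succ, ← pow_succ']
  obtain ⟨v, hv, k, hk, he⟩ := (h.cent _).1 hc
  have h2 : v ^ m * k ^ m = x * 1 := by rw [← h.pow_mul hv hk, he, hpow, mul_one]
  obtain ⟨h3, -⟩ := h.unique (V.pow_mem hv m) (K.pow_mem hk m) h.xV K.one_mem h2
  have h4 : v = x := by
    rcases Nat.even_or_odd m with h5 | h5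
    · exfalso
      obtain ⟨j, hj⟩ := h5
      rw [hj, ← two_mul, _root_.pow_mul, pow_two, h.Vsq v hv, one_pow] at h3
      exact h.x1 h3.symm
    · rw [← h3, h.pow_V hv (by rw [← even_iff_two_dvd]; exact Nat.not_even_iff_odd.2 h5)]
  refine ⟨n, k, hk, ?_⟩
  rw [← h4, he]; group

/-- fusion of even elements -/
theorem fus {n k k' : G} (hk : k ∈ K) (hk' : k' ∈ K) (he : n * (x * k) * n⁻¹ = x * k') : n * x = x * n ∧ n * k * n⁻¹ = k' := by
  have h1 : (n * (x * k) * n⁻¹) ^ Nat.card K = (x * k') ^ Nat.card K := by rw [he]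
  rw [conj_pow, h.pow_card h.xV hk, h.pow_card h.xV hk'] at h1
  have h2 : n * x = x * n := by rwa [mul_inv_eq_iff_eq_mul] at h1
  refine ⟨h2, ?_⟩
  have h3 : n * (x * k) * n⁻¹ = x * (n * k * n⁻¹) := by
    calc n * (x * k) * n⁻¹ = (n * x) * k * n⁻¹ := by group
      _ = x * (n * k * n⁻¹) := by rw [h2]; group
  rw [h3] at he
  exact mul_left_cancel he

/-- the order of the centraliser -/
theorem card_C : Nat.card (centralizer ({x} : Set G)) = 4 * Nat.card K := by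
  rw [← h.V4, ← Nat.card_prod]
  symm
  apply Nat.card_congr
  refine Equiv.ofBijective (fun p : V × K => (⟨p.1 * p.2, mem_centralizer_singleton_iff.2 ((h.cent _).2 ⟨p.1, p.1.2, p.2, p.2.2, rfl⟩)⟩ :
    centralizer ({x} : Set G))) ⟨?_, ?_⟩
  · rintro ⟨⟨v, hv⟩, ⟨k, hk⟩⟩ ⟨⟨v', hv'⟩, ⟨k', hk'⟩⟩ he
    have h1 : v * k = v' * k' := congrArg Subtype.val he
    obtain ⟨rfl, rfl⟩ := h.unique hv hk hv' hk' h1
    rfl
  · rintro ⟨g, hg⟩
    obtain ⟨v, hv, k, hk, rfl⟩ := (h.cent g).1 (mem_centralizer_singleton_iff.1 hg)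
    exact ⟨⟨⟨v, hv⟩, ⟨k, hk⟩⟩, rfl⟩

end KS
end CfsgLib.KG11
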