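import Mathlib
import Cfsg.Agent.EqBase
import Cfsg.Agent.LibKG11a

/-! Involutions with centraliser `V × K`: class functions (seat helper11). -/

set_option autoImplicit false
set_option linter.all false

namespace CfsgLib.KG11

open Subgroup Cfsg CfsgLib.BW11 CfsgLib.KF11 CfsgLib.CharBasic
open scoped ComplexConjugate

universe u

section
variable {G : Type u} [Group G] [Fintype G] {x : G} {V K : Subgroup G} [Fintype K]

open Classical in
/-- extension of a class function of `K` to the elements of even order -/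
noncomputable def ext (x : G) (K : Subgroup G) (f : K → ℂ) (g : G) : ℂ :=
  if h : ∃ p : G × K, p.1 * (x * p.2) * p.1⁻¹ = g then f (Classical.choose h).2 else 0

theorem ext_apply (h : KS x V K) {f : K → ℂ} (hf : IsClassFunction K f) (n : G) (k : K) : ext x K f (n * (x * k) * n⁻¹) = f k := by
  unfold ext
  have hex : ∃ p : G × K, p.1 * (x * p.2) * p.1⁻¹ = n * (x * k) * n⁻¹ := ⟨(n, k), rfl⟩
  rw [dif_pos hex]
  have hs := Classical.choose_spec hex
  obtain ⟨p, hp⟩ : ∃ p, p = Classical.choose hex := ⟨_, rfl⟩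
  rw [← hp] at hs ⊢
  have h1 : (n⁻¹ * p.1) * (x * p.2) * (n⁻¹ * p.1)⁻¹ = x * k := by
    calc (n⁻¹ * p.1) * (x * p.2) * (n⁻¹ * p.1)⁻¹ = n⁻¹ * (p.1 * (x * p.2) * p.1⁻¹) * n := by group
      _ = x * k := by rw [hs]; group
  obtain ⟨h2, h3⟩ := h.fus p.2.2 k.2 h1
  obtain ⟨v, hv, y, hy, he⟩ := (h.cent _).1 h2
  rw [← he] at h3
  have h4 : v * y * (p.2 : G) * (v * y)⁻¹ = y * p.2 * y⁻¹ := by
    have h5 := h.VK v hv (y * p.2 * y⁻¹) (K.mul_mem (K.mul_mem hy p.2.2) (K.inv_mem hy))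
    calc v * y * (p.2 : G) * (v * y)⁻¹ = (v * (y * p.2 * y⁻¹)) * v⁻¹ := by group
      _ = y * p.2 * y⁻¹ := by rw [h5, mul_inv_cancel_right]
  rw [h4] at h3
  have h5 : k = (⟨y, hy⟩ : K) * p.2 * (⟨y, hy⟩ : K)⁻¹ := Subtype.ext h3.symm
  rw [h5]
  exact (hf p.2 ⟨y, hy⟩).symm

theorem ext_not (h : KS x V K) (f : K → ℂ) {g : G} (hg : ¬ Ev g) : ext x K f g = 0 := by
  unfold ext
  rw [dif_neg]
  rintro ⟨p, rfl⟩
  apply hg
  rw [Ev_conj]
  exact (h.Ev_iff h.xV p.2.2).2 h.x1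

theorem ext_classFun (h : KS x V K) {f : K → ℂ} (hf : IsClassFunction K f) : IsClassFunction G (ext x K f) := by
  intro g c
  by_cases hg : Ev g
  · obtain ⟨n, k, hk, rfl⟩ := h.exists_of_Ev hg
    have h1 : c * (n * (x * k) * n⁻¹) * c⁻¹ = (c * n) * (x * (⟨k, hk⟩ : K)) * (c * n)⁻¹ := by
      show _ = (c * n) * (x * k) * (c * n)⁻¹
      group
    rw [h1, ext_apply h hf, show n * (x * k) * n⁻¹ = n * (x * ((⟨k, hk⟩ : K) : G)) * n⁻¹ from rfl, ext_apply h hf]
  · rw [ext_not h f hg, ext_not h f (fun h0 => hg ((Ev_conj c).1 h0))]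

/-- the summation formula -/
theorem sum_ext (h : KS x V K) {F : G → ℂ} (hF : IsClassFunction G F) {f : K → ℂ} (hf : IsClassFunction K f) :
    (Nat.card G : ℂ) * ∑ k : K, F (x * k) * f k = 4 * Nat.card K * ∑ g : G, F g * ext x K f g := by
  classical
  letI : Fintype (centralizer ({x} : Set G)) := Fintype.ofFinite _
  -- representatives
  have hrep : ∀ g : {g : G // Ev g}, ∃ p : G × K, p.1 * (x * p.2) * p.1⁻¹ = g := by
    rintro ⟨g, hg⟩
    obtain ⟨n, k, hk, he⟩ := h.exists_of_Ev hg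
    exact ⟨(n, ⟨k, hk⟩), he⟩
  choose r hr using hrep
  have hbij : Function.Bijective (fun p : {g : G // Ev g} × centralizer ({x} : Set G) =>
      (((r p.1).1 * p.2, ⟨(p.2 : G)⁻¹ * (r p.1).2 * (p.2 : G)⁻¹⁻¹,
        h.conjK (mem_centralizer_singleton_iff.1 (inv_mem p.2.2)) (r p.1).2.2⟩) : G × K)) := by
    constructor
    · rintro ⟨g, c⟩ ⟨g', c'⟩ he
      have he1 : (r g).1 * (c : G) = (r g').1 * c' := congrArg Prod.fst he
      have he2 : (c : G)⁻¹ * (r g).2 * (c : G)⁻¹⁻¹ = (c' : G)⁻¹ * (r g').2 * (c' : G)⁻¹⁻¹ := congrArg (fun p : G × K => (p.2 : G)) he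
      have key : ∀ (g : {g : G // Ev g}) (c : centralizer ({x} : Set G)),
          ((r g).1 * (c : G)) * (x * ((c : G)⁻¹ * (r g).2 * (c : G)⁻¹⁻¹)) * ((r g).1 * (c : G))⁻¹ = g := by
        intro g c
        have hc := mem_centralizer_singleton_iff.1 c.2
        rw [← hr g]
        calc ((r g).1 * (c : G)) * (x * ((c : G)⁻¹ * (r g).2 * (c : G)⁻¹⁻¹)) * ((r g).1 * (c : G))⁻¹
            = (r g).1 * ((c * x) * (c : G)⁻¹ * (r g).2) * (r g).1⁻¹ := by group
          _ = (r g).1 * (x * (r g).2) * (r g).1⁻¹ := by rw [hc]; group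
      have h1 : g = g' := by
        apply Subtype.ext
        rw [← key g c, ← key g' c', he1, he2]
      subst h1
      have h2 : (c : G) = c' := mul_left_cancel he1
      rw [Subtype.ext h2]
    · rintro ⟨n, k⟩
      have hev : Ev (n * (x * k) * n⁻¹) := (Ev_conj n).2 ((h.Ev_iff h.xV k.2).2 h.x1)
      obtain ⟨g, hg⟩ : ∃ g : {g : G // Ev g}, g = ⟨_, hev⟩ := ⟨_, rfl⟩
      have hrg : (r g).1 * (x * (r g).2) * (r g).1⁻¹ = n * (x * k) * n⁻¹ := by rw [hr g, hg]
      have h1 : ((r g).1⁻¹ * n) * (x * k) * ((r g).1⁻¹ * n)⁻¹ = x * (r g).2 := by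
        calc ((r g).1⁻¹ * n) * (x * k) * ((r g).1⁻¹ * n)⁻¹ = (r g).1⁻¹ * (n * (x * k) * n⁻¹) * (r g).1 := by group
          _ = x * (r g).2 := by rw [← hrg]; group
      obtain ⟨h2, h3⟩ := h.fus k.2 (r g).2.2 h1
      refine ⟨(g, ⟨(r g).1⁻¹ * n, mem_centralizer_singleton_iff.2 h2⟩), ?_⟩
      apply Prod.ext
      · show (r g).1 * ((r g).1⁻¹ * n) = n
        group
      · apply Subtype.ext
        show ((r g).1⁻¹ * n)⁻¹ * ((r g).2 : G) * ((r g).1⁻¹ * n)⁻¹⁻¹ = k
        rw [← h3]; group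
  have hsum : ∑ p : G × K, F (p.1 * (x * p.2) * p.1⁻¹) * f p.2 = ∑ p : {g : G // Ev g} × centralizer ({x} : Set G), F p.1 * ext x K f p.1 := by
    symm
    apply Fintype.sum_bijective _ hbij
    rintro ⟨g, c⟩
    have hc := mem_centralizer_singleton_iff.1 c.2
    have h1 : ((r g).1 * (c : G)) * (x * ((c : G)⁻¹ * (r g).2 * (c : G)⁻¹⁻¹)) * ((r g).1 * (c : G))⁻¹ = g := by
      rw [← hr g]
      calc ((r g).1 * (c : G)) * (x * ((c : G)⁻¹ * (r g).2 * (c : G)⁻¹⁻¹)) * ((r g).1 * (c : G))⁻¹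
          = (r g).1 * ((c * x) * (c : G)⁻¹ * (r g).2) * (r g).1⁻¹ := by group
        _ = (r g).1 * (x * (r g).2) * (r g).1⁻¹ := by rw [hc]; group
    show F g * ext x K f g = F (((r g).1 * (c : G)) * (x * ((c : G)⁻¹ * (r g).2 * (c : G)⁻¹⁻¹)) * ((r g).1 * (c : G))⁻¹) * _
    rw [h1]
    congr 1
    rw [← ext_apply h hf ((r g).1 * (c : G))]
    congr 1
    exact h1.symm
  rw [Fintype.sum_prod_type, Fintype.sum_prod_type] at hsum
  have h1 : ∀ n : G, ∑ k : K, F (n * (x * k) * n⁻¹) * f k = ∑ k : K, F (x * k) * f k := by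
    intro n
    apply Finset.sum_congr rfl
    intro k _
    rw [hF]
  rw [Finset.sum_congr rfl fun n _ => h1 n, Finset.sum_const, Finset.card_univ, nsmul_eq_mul, ← Nat.card_eq_fintype_card] at hsum
  rw [hsum]
  have h2 : ∀ g : {g : G // Ev g}, ∑ c : centralizer ({x} : Set G), F g * ext x K f g = (4 * Nat.card K : ℂ) * (F g * ext x K f g) := by
    intro g
    rw [Finset.sum_const, Finset.card_univ, nsmul_eq_mul, ← Nat.card_eq_fintype_card, h.card_C]
    push_cast; ring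
  rw [Finset.sum_congr rfl fun g _ => h2 g, ← Finset.mul_sum]
  congr 1
  rw [← Finset.sum_subtype (Finset.univ.filter (fun g : G => Ev g)) (p := fun g => Ev g) (fun g => by simp) (fun g => F g * ext x K f g)]
  apply Finset.sum_filter_of_ne
  intro g _ h0
  by_contra hg
  exact h0 (by rw [ext_not h f hg, mul_zero])

theorem inner_ext (h : KS x V K) {F : G → ℂ} (hF : IsClassFunction G F) {f : K → ℂ} (hf : IsClassFunction K f) :
    classInner F (fun g => 4 * ext x K f g) = (Nat.card K : ℂ)⁻¹ * ∑ k : K, F (x * k) * conj (f k) := by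
  have hK0 : (Nat.card K : ℂ) ≠ 0 := by exact_mod_cast Nat.card_pos.ne'
  have hG0 : (Nat.card G : ℂ) ≠ 0 := by exact_mod_cast Nat.card_pos.ne'
  have hcf : IsClassFunction K (fun k => conj (f k)) := fun k c => congrArg conj (hf k c)
  have hce : ∀ g, conj (ext x K f g) = ext x K (fun k => conj (f k)) g := by
    intro g
    by_cases hg : Ev g
    · obtain ⟨n, k, hk, rfl⟩ := h.exists_of_Ev hg
      rw [show n * (x * k) * n⁻¹ = n * (x * ((⟨k, hk⟩ : K) : G)) * n⁻¹ from rfl, ext_apply h hf, ext_apply h hcf]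
    · rw [ext_not h _ hg, ext_not h _ hg, map_zero]
  have h1 := sum_ext h hF hcf
  unfold classInner
  have h2 : ∑ g : G, F g * conj (4 * ext x K f g) = 4 * ∑ g : G, F g * ext x K (fun k => conj (f k)) g := by
    rw [Finset.mul_sum]
    apply Finset.sum_congr rfl
    intro g _
    rw [map_mul, hce, map_ofNat]; ring
  rw [h2]
  field_simp
  linear_combination -h1

/-- the function `4` on the elements of even order -/
noncomputable def Th (x : G) (K : Subgroup G) [Fintype K] (g : G) : ℂ := 4 * ext x K (fun _ => 1) g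

theorem one_classFun : IsClassFunction K (fun _ : K => (1 : ℂ)) := fun _ _ => rfl

theorem Th_ev (h : KS x V K) {g : G} (hg : Ev g) : Th x K g = 4 := by
  obtain ⟨n, k, hk, rfl⟩ := h.exists_of_Ev hg
  unfold Th
  rw [show n * (x * k) * n⁻¹ = n * (x * ((⟨k, hk⟩ : K) : G)) * n⁻¹ from rfl, ext_apply h one_classFun, mul_one]

theorem Th_odd (h : KS x V K) {g : G} (hg : ¬ Ev g) : Th x K g = 0 := by
  unfold Th
  rw [ext_not h _ hg, mul_zero]

theorem classFun_four {f : G → ℂ} (hf : IsClassFunction G f) : IsClassFunction G (fun g => 4 * f g) := fun g c => by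
  show 4 * f _ = 4 * f _
  rw [hf]

theorem Th_classFun (h : KS x V K) : IsClassFunction G (Th x K) := classFun_four (ext_classFun h one_classFun)

end
end CfsgLib.KG11
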