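import Mathlib
import Cfsg.Agent.EqBase
import Cfsg.Agent.LibKG11b
import Cfsg.Agent.LibBlockSec2
import Cfsg.Agent.LibBlockReg2

/-! Involutions with centraliser `V × K`: the principal block (seat helper11). -/

set_option autoImplicit false
set_option linter.all false

namespace CfsgLib.KG11

open Subgroup Cfsg CfsgLib.BW11 CfsgLib.KF11 CfsgLib.CharBasic
open scoped ComplexConjugate

universe u

section
variable {G : Type u} [Group G] [Fintype G] {x : G} {V K : Subgroup G} [Fintype K]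

theorem K_le_C (h : KS x V K) : K ≤ centralizer ({x} : Set G) := fun k hk => mem_centralizer_singleton_iff.2 (h.KC hk)

theorem K_normal (h : KS x V K) : (K.subgroupOf (centralizer ({x} : Set G))).Normal := by
  refine ⟨fun k hk c => ?_⟩
  exact h.conjK (mem_centralizer_singleton_iff.1 c.2) hk

theorem K_le_core (h : KS x V K) : K.subgroupOf (centralizer ({x} : Set G)) ≤ pPrimeCore 2 (centralizer ({x} : Set G)) := by
  apply CfsgLib.Cores.le_pPrimeCore (K_normal h)
  rw [Nat.card_congr (Subgroup.subgroupOfEquivOfLe (K_le_C h)).toEquiv]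
  exact ((Nat.Prime.coprime_iff_not_dvd Nat.prime_two).2 h.odd).symm

theorem block_const (h : KS x V K) {M : Ideal AlgInt} (hM : IsPModular 2 M) {χ : IrrCharacter G} (hχ : χ ∈ principalBlock M G) (k : K) :
    (χ : G → ℂ) (x * k) = (χ : G → ℂ) x := by
  haveI : Fact (Nat.Prime 2) := ⟨Nat.prime_two⟩
  have h1 := CfsgLib.BlockSec2.principal_const hM (u := x) ⟨1, by rw [pow_one]; exact two_ord h.x2 h.x1⟩
    (v := ⟨k, K_le_C h k.2⟩) (K_le_core h k.2) hχ
  exact h1

theorem block_sum (h : KS x V K) {M : Ideal AlgInt} (hM : IsPModular 2 M) : ∑ᶠ χ ∈ principalBlock M G, ‖(χ : G → ℂ) x‖ ^ 2 = 4 := by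
  haveI : Fact (Nat.Prime 2) := ⟨Nat.prime_two⟩
  letI : Fintype (centralizer ({x} : Set G)) := Fintype.ofFinite _
  have h1 := CfsgLib.BlockSec2.principal_sum hM (z := x) ⟨1, by rw [pow_one]; exact two_ord h.x2 h.x1⟩
    (y := (1 : centralizer ({x} : Set G))) (by rw [orderOf_one]; norm_num)
  have hidx : (K.subgroupOf (centralizer ({x} : Set G))).index = 4 := by
    have h2 := (K.subgroupOf (centralizer ({x} : Set G))).card_mul_index
    rw [Nat.card_congr (Subgroup.subgroupOfEquivOfLe (K_le_C h)).toEquiv, h.card_C, mul_comm 4] at h2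
    exact Nat.eq_of_mul_eq_mul_left Nat.card_pos h2
  have h2 := CfsgLib.BlockSec2.principal_sum_nilpotent (H := centralizer ({x} : Set G)) hM (y := 1) (by
    have h3 := Subgroup.index_dvd_of_le (K_le_core h)
    rw [hidx, show (4 : ℕ) = 2 ^ 2 by norm_num] at h3
    obtain ⟨j, -, hj⟩ := (Nat.dvd_prime_pow Nat.prime_two).1 h3
    exact ⟨j, hj⟩) (by rw [orderOf_one]; norm_num)
  rw [h2] at h1
  have h3 : (Nat.card (centralizer ({x} : Set G))).factorization 2 = 2 := by
    rw [h.card_C, Nat.factorization_mul (by norm_num) Nat.card_pos.ne', Finsupp.add_apply,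
      Nat.factorization_eq_zero_of_not_dvd h.odd, show (4 : ℕ) = 2 ^ 2 by norm_num, Nat.Prime.factorization_pow Nat.prime_two,
      Finsupp.single_eq_same]
  rw [h3] at h1
  have h4 : ∀ χ : IrrCharacter G, (χ : G → ℂ) (x * ((1 : centralizer ({x} : Set G)) : G)) = (χ : G → ℂ) x := by
    intro χ; rw [OneMemClass.coe_one, mul_one]
  simp only [h4] at h1
  rw [h1]; norm_num

/-- the coefficients of `Th` -/
noncomputable def aa (x : G) (K : Subgroup G) [Fintype K] (χ : IrrCharacter G) : ℂ := (Nat.card K : ℂ)⁻¹ * ∑ k : K, (χ : G → ℂ) (x * k)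

theorem inner_Th (h : KS x V K) {F : G → ℂ} (hF : IsClassFunction G F) :
    classInner F (Th x K) = (Nat.card K : ℂ)⁻¹ * ∑ k : K, F (x * k) := by
  have h1 := inner_ext h hF one_classFun
  rw [show (fun g => 4 * ext x K (fun _ => 1) g) = Th x K from rfl] at h1
  rw [h1]
  congr 1
  apply Finset.sum_congr rfl
  intro k _
  rw [map_one, mul_one]

theorem aa_eq (h : KS x V K) (χ : IrrCharacter G) : classInner (χ : G → ℂ) (Th x K) = aa x K χ := inner_Th h (irr_classFun χ.2)

theorem parseval_Th (h : KS x V K) : ∑ χ : IrrCharacter G, ‖aa x K χ‖ ^ 2 = 4 := by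
  have hK0 : (Nat.card K : ℂ) ≠ 0 := by exact_mod_cast Nat.card_pos.ne'
  have h1 := parseval (Th_classFun h) (Th_classFun h)
  rw [inner_Th h (Th_classFun h)] at h1
  have h2 : ∀ k : K, Th x K (x * k) = 4 := fun k => Th_ev h ((h.Ev_iff h.xV k.2).2 h.x1)
  rw [Finset.sum_congr rfl fun k _ => h2 k, Finset.sum_const, Finset.card_univ, nsmul_eq_mul, ← Nat.card_eq_fintype_card, ← mul_assoc,
    inv_mul_cancel₀ hK0, one_mul] at h1
  have h3 : ((∑ χ : IrrCharacter G, ‖aa x K χ‖ ^ 2 : ℝ) : ℂ) = 4 := by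
    rw [h1, Complex.ofReal_sum]
    apply Finset.sum_congr rfl
    intro χ _
    rw [Complex.mul_conj, Complex.normSq_eq_norm_sq, ← aa_eq h, ← inner_conj_symm (Th x K), RCLike.norm_conj]
  exact_mod_cast h3

/-- the coefficients vanish outside the principal block -/
theorem aa_zero (h : KS x V K) {M : Ideal AlgInt} (hM : IsPModular 2 M) {χ : IrrCharacter G} (hχ : χ ∉ principalBlock M G) : aa x K χ = 0 := by
  classical
  have hK0 : (Nat.card K : ℂ) ≠ 0 := by exact_mod_cast Nat.card_pos.ne'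
  have h1 := block_sum h hM
  have h2 := parseval_Th h
  rw [finsum_mem_eq_finite_toFinset_sum _ (Set.toFinite (principalBlock M G))] at h1
  have h3 : ∑ χ ∈ (Set.toFinite (principalBlock M G)).toFinset, ‖aa x K χ‖ ^ 2 = 4 := by
    rw [← h1]
    apply Finset.sum_congr rfl
    intro χ hχ
    rw [Set.Finite.mem_toFinset] at hχ
    unfold aa
    rw [Finset.sum_congr rfl fun k _ => block_const h hM hχ k, Finset.sum_const, Finset.card_univ, nsmul_eq_mul,
      ← Nat.card_eq_fintype_card, ← mul_assoc, inv_mul_cancel₀ hK0, one_mul]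
  have h4 : ∑ χ ∈ Finset.univ \ (Set.toFinite (principalBlock M G)).toFinset, ‖aa x K χ‖ ^ 2 = 0 := by
    have h5 := Finset.sum_sdiff (Finset.subset_univ (Set.toFinite (principalBlock M G)).toFinset) (f := fun χ => ‖aa x K χ‖ ^ 2)
    rw [h3, h2] at h5
    linarith
  rw [Finset.sum_eq_zero_iff_of_nonneg (fun _ _ => sq_nonneg _)] at h4
  have h5 := h4 χ (by
    rw [Finset.mem_sdiff, Set.Finite.mem_toFinset]
    exact ⟨Finset.mem_univ _, hχ⟩)
  simpa using h5

theorem aa_mul (h : KS x V K) (χ : IrrCharacter G) (k : K) : aa x K χ ^ 2 * (χ : G → ℂ) (x * k) = aa x K χ * (χ : G → ℂ) x ^ 2 := by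
  have hK0 : (Nat.card K : ℂ) ≠ 0 := by exact_mod_cast Nat.card_pos.ne'
  obtain ⟨M, hM⟩ := CfsgLib.BlockReg2.exists_modular 2 Nat.prime_two
  by_cases hχ : χ ∈ principalBlock M G
  · have h1 : aa x K χ = (χ : G → ℂ) x := by
      unfold aa
      rw [Finset.sum_congr rfl fun k _ => block_const h hM hχ k, Finset.sum_const, Finset.card_univ, nsmul_eq_mul,
        ← Nat.card_eq_fintype_card, ← mul_assoc, inv_mul_cancel₀ hK0, one_mul]
    rw [h1, block_const h hM hχ]; ring
  · rw [aa_zero h hM hχ]; ring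

end
end CfsgLib.KG11
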