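import Mathlib
import Cfsg.Agent.EqBase
import Cfsg.Agent.LibKG11c
import Cfsg.Agent.LibDi11b

/-! Involutions with centraliser `V × K`: products of even elements (seat helper11). -/

set_option autoImplicit false
set_option linter.all false

namespace CfsgLib.KG11

open Subgroup Cfsg CfsgLib.BW11 CfsgLib.KF11 CfsgLib.CharBasic
open scoped ComplexConjugate

universe u

section
variable {G : Type u} [Group G] [Fintype G] {x : G} {V K : Subgroup G} [Fintype K]

theorem aa_real (h : KS x V K) (χ : IrrCharacter G) : conj (aa x K χ) = aa x K χ := by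
  unfold aa
  rw [map_mul, map_inv₀, Complex.conj_natCast, map_sum]
  congr 1
  apply Fintype.sum_equiv (Equiv.inv K)
  intro k
  rw [← char_inv_eq_conj (irr_isCharacter χ.2)]
  show _ = (χ : G → ℂ) (x * ((k⁻¹ : K) : G))
  have h1 : x⁻¹ = x := inv_eq_of_mul_eq_one_left h.x2
  rw [mul_inv_rev, h1, Subgroup.coe_inv]
  exact congrArg (χ : G → ℂ) (h.VK x h.xV _ (K.inv_mem k.2)).symm

theorem x_real (h : KS x V K) (χ : IrrCharacter G) : conj ((χ : G → ℂ) x) = (χ : G → ℂ) x := by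
  rw [← char_inv_eq_conj (irr_isCharacter χ.2), inv_eq_of_mul_eq_one_left h.x2]

theorem one_real (χ : IrrCharacter G) : conj ((χ : G → ℂ) 1) = (χ : G → ℂ) 1 := by
  rw [← char_inv_eq_conj (irr_isCharacter χ.2), inv_one]

open Classical in
theorem Th_eq (h : KS x V K) (g : G) : Th x K g = if Ev g then 4 else 0 := by
  split_ifs with hg
  · exact Th_ev h hg
  · exact Th_odd h hg

theorem Th_real (h : KS x V K) (g : G) : conj (Th x K g) = Th x K g := by
  classical
  rw [Th_eq h]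
  split_ifs
  · exact map_ofNat _ _
  · exact map_zero _

theorem sum_Th (h : KS x V K) {F : G → ℂ} : ∑ g : G, Th x K g * F g = Nat.card G * classInner F (Th x K) := by
  have hG0 : (Nat.card G : ℂ) ≠ 0 := by exact_mod_cast Nat.card_pos.ne'
  unfold classInner
  rw [← mul_assoc, mul_inv_cancel₀ hG0, one_mul]
  apply Finset.sum_congr rfl
  intro g _
  rw [Th_real h, mul_comm]

theorem card_Ev (h : KS x V K) : Nat.card G = 4 * Nat.card {g : G // Ev g} := by
  classical
  have hK0 : (Nat.card K : ℂ) ≠ 0 := by exact_mod_cast Nat.card_pos.ne'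
  have h1 := sum_Th h (F := fun _ => 1)
  rw [inner_Th h (fun _ _ => rfl), Finset.sum_const, Finset.card_univ, nsmul_eq_mul, ← Nat.card_eq_fintype_card, mul_one,
    inv_mul_cancel₀ hK0, mul_one] at h1
  have h2 : ∑ g : G, Th x K g * 1 = 4 * (Nat.card {g : G // Ev g} : ℂ) := by
    rw [Finset.sum_congr rfl fun g _ => by rw [mul_one, Th_eq h], ← Finset.sum_filter, Finset.sum_const, nsmul_eq_mul,
      Nat.card_eq_fintype_card, Fintype.card_subtype, mul_comm]
  rw [h2] at h1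
  exact_mod_cast h1.symm

/-- the number of representations -/
theorem N2 (h : KS x V K) (y : G) : 16 * (Nat.card {s : G // Ev s ∧ Ev (s * y)} : ℂ) =
    Nat.card G * ∑ χ : IrrCharacter G, aa x K χ ^ 2 * (χ : G → ℂ) y / (χ : G → ℂ) 1 := by
  classical
  have h1 : ∑ s : G, Th x K s * Th x K (s * y) = 16 * (Nat.card {s : G // Ev s ∧ Ev (s * y)} : ℂ) := by
    rw [Finset.sum_congr rfl fun s _ => show Th x K s * Th x K (s * y) = if Ev s ∧ Ev (s * y) then 16 else 0 by
      rw [Th_eq h, Th_eq h]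
      by_cases h1 : Ev s
      · by_cases h2 : Ev (s * y)
        · rw [if_pos h1, if_pos h2, if_pos ⟨h1, h2⟩]; norm_num
        · have h3 : ¬ (Ev s ∧ Ev (s * y)) := fun h0 => h2 h0.2
          rw [if_neg h2, if_neg h3, mul_zero]
      · have h3 : ¬ (Ev s ∧ Ev (s * y)) := fun h0 => h1 h0.1
        rw [if_neg h1, if_neg h3, zero_mul]]
    rw [← Finset.sum_filter, Finset.sum_const, nsmul_eq_mul, Nat.card_eq_fintype_card, Fintype.card_subtype, mul_comm]
  rw [← h1, Finset.mul_sum]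
  have h2 : ∀ s : G, Th x K s * Th x K (s * y) = ∑ χ : IrrCharacter G, aa x K χ * (Th x K s * (χ : G → ℂ) (s * y)) := by
    intro s
    rw [classFun_expand_apply (Th_classFun h) (s * y), Finset.mul_sum]
    apply Finset.sum_congr rfl
    intro χ _
    rw [← CfsgLib.CharBasic.inner_conj_symm, aa_eq h, aa_real h]
    ring
  rw [Finset.sum_congr rfl fun s _ => h2 s, Finset.sum_comm]
  apply Finset.sum_congr rfl
  intro χ _
  rw [← Finset.mul_sum, CfsgLib.BlockCore.sum_mul_eq_omg χ (Th_classFun h) y]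
  unfold CfsgLib.BlockCore.omg
  rw [sum_Th h, aa_eq h]
  ring

/-- products of two involutions -/
theorem inv_zero (h : KS x V K) {k : G} (hk : k ∈ K) {s : G} (hs : s * s = 1) (ht : (s * (x * k)) * (s * (x * k)) = 1) :
    k = 1 ∧ s ∈ V := by
  have h1 : s * (x * k) * s⁻¹ = (x * k)⁻¹ := by
    have hs' : s⁻¹ = s := inv_eq_of_mul_eq_one_left hs
    rw [hs']
    apply eq_inv_of_mul_eq_one_left
    rw [← ht]; group
  have h2 : (s * (x * k) * s⁻¹) ^ Nat.card K = x := by
    rw [h1, inv_pow, h.pow_card h.xV hk, inv_eq_of_mul_eq_one_left h.x2]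
  rw [conj_pow, h.pow_card h.xV hk] at h2
  have h3 : s * x = x * s := by rwa [mul_inv_eq_iff_eq_mul] at h2
  obtain ⟨v, hv, k', hk', rfl⟩ := (h.cent s).1 h3
  have h4 := h.mem_V hv hk' hs
  subst h4
  rw [mul_one] at *
  have h5 : (v * x) * k * ((v * x) * k) = 1 := by rw [← ht]; group
  exact ⟨h.mem_V (V.mul_mem hv h.xV) hk h5, hv⟩

theorem inv_count_one (h : KS x V K) : Nat.card {s : G // IsConj x s ∧ IsConj x (s * (x * 1))} = 2 := by
  classical
  have hconj : ∀ {a b : G}, IsConj a b → a * a = 1 → a ≠ 1 → b * b = 1 ∧ b ≠ 1 := by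
    intro a b hab h1 h2
    obtain ⟨c, rfl⟩ := isConj_iff.1 hab
    refine ⟨?_, fun h0 => h2 ?_⟩
    · calc c * a * c⁻¹ * (c * a * c⁻¹) = c * (a * a) * c⁻¹ := by group
        _ = 1 := by rw [h1]; group
    · calc a = c⁻¹ * (c * a * c⁻¹) * c := by group
        _ = 1 := by rw [h0]; group
  have h1 : Nat.card {v : V // v ≠ 1 ∧ (v : G) ≠ x} = 2 := by
    letI : Fintype V := Fintype.ofFinite _
    have h2 : Fintype.card V = 4 := by rw [← Nat.card_eq_fintype_card]; exact h.V4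
    have h3 : (Finset.univ.filter (fun v : V => v ≠ 1 ∧ (v : G) ≠ x)) = (Finset.univ.erase (1 : V)).erase ⟨x, h.xV⟩ := by
      ext v
      simp only [Finset.mem_filter, Finset.mem_univ, true_and, Finset.mem_erase, and_true]
      constructor
      · rintro ⟨h4, h5⟩
        exact ⟨fun h6 => h5 (congrArg Subtype.val h6), h4⟩
      · rintro ⟨h4, h5⟩
        exact ⟨h5, fun h6 => h4 (Subtype.ext h6)⟩
    rw [Nat.card_eq_fintype_card, Fintype.card_subtype, h3, Finset.card_erase_of_mem, Finset.card_erase_of_mem (Finset.mem_univ _), Finset.card_univ, h2]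
    rw [Finset.mem_erase]
    refine ⟨fun h0 => h.x1 (congrArg Subtype.val h0), Finset.mem_univ _⟩
  rw [← h1]
  apply Nat.card_congr
  refine
    { toFun := fun s => ⟨⟨s.1, ?_⟩, ?_, ?_⟩
      invFun := fun v => ⟨v.1.1, ?_, ?_⟩
      left_inv := fun s => rfl
      right_inv := fun v => rfl }
  · have h3 := (hconj s.2.1 h.x2 h.x1).1
    have h4 := (hconj s.2.2 h.x2 h.x1).1
    exact (inv_zero h K.one_mem h3 h4).2
  · intro h0
    exact (hconj s.2.1 h.x2 h.x1).2 (congrArg Subtype.val h0)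
  · intro h0
    have h3 : s.1 = x := h0
    have h4 := (hconj s.2.2 h.x2 h.x1).2
    apply h4
    rw [h3, mul_one, h.x2]
  · exact h.cj _ (h.Vsq _ v.1.2) (fun h0 => v.2.1 (Subtype.ext h0))
  · rw [mul_one]
    have h3 : (v.1 : G) * x ∈ V := V.mul_mem v.1.2 h.xV
    apply h.cj _ (h.Vsq _ h3)
    intro h0
    apply v.2.2
    have h4 := eq_inv_of_mul_eq_one_left h0
    rw [h4, inv_eq_of_mul_eq_one_left h.x2]

theorem inv_count_zero (h : KS x V K) {k : G} (hk : k ∈ K) (hk1 : k ≠ 1) : Nat.card {s : G // IsConj x s ∧ IsConj x (s * (x * k))} = 0 := by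
  rw [Finite.card_eq_zero_iff]
  constructor
  rintro ⟨s, h1, h2⟩
  have hconj : ∀ {a b : G}, IsConj a b → a * a = 1 → b * b = 1 := by
    intro a b hab h1
    obtain ⟨c, rfl⟩ := isConj_iff.1 hab
    calc c * a * c⁻¹ * (c * a * c⁻¹) = c * (a * a) * c⁻¹ := by group
      _ = 1 := by rw [h1]; group
  exact hk1 (inv_zero h hk (hconj h1 h.x2) (hconj h2 h.x2)).1

theorem sum_sq (h : KS x V K) : ∑ χ : IrrCharacter G, aa x K χ * (χ : G → ℂ) x ^ 2 / (χ : G → ℂ) 1 = 32 * Nat.card K / Nat.card G := by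
  classical
  have hK0 : (Nat.card K : ℂ) ≠ 0 := by exact_mod_cast Nat.card_pos.ne'
  have hG0 : (Nat.card G : ℂ) ≠ 0 := by exact_mod_cast Nat.card_pos.ne'
  have h1 : ∑ k : K, ∑ χ : IrrCharacter G, (χ : G → ℂ) x * conj ((χ : G → ℂ) x * (χ : G → ℂ) (x * k) / (χ : G → ℂ) 1) =
      (4 * Nat.card K) ^ 2 * 2 / Nat.card G := by
    rw [Finset.sum_congr rfl fun (k : K) _ => CfsgLib.Di11.class_mul x (x * (k : G))]
    rw [Fintype.sum_eq_single (1 : K)]
    · rw [Subgroup.coe_one, inv_count_one h, h.card_C]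
      push_cast; ring
    · intro k hk
      rw [inv_count_zero h k.2 (fun h0 => hk (Subtype.ext h0))]
      push_cast; ring
  rw [Finset.sum_comm] at h1
  have h2 : ∀ χ : IrrCharacter G, ∑ k : K, (χ : G → ℂ) x * conj ((χ : G → ℂ) x * (χ : G → ℂ) (x * k) / (χ : G → ℂ) 1) =
      Nat.card K * (aa x K χ * (χ : G → ℂ) x ^ 2 / (χ : G → ℂ) 1) := by
    intro χ
    have h3 : conj (∑ k : K, (χ : G → ℂ) (x * k)) = Nat.card K * aa x K χ := by
      rw [← aa_real h χ]
      unfold aa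
      rw [map_mul, map_inv₀, Complex.conj_natCast, ← mul_assoc, mul_inv_cancel₀ hK0, one_mul]
    calc ∑ k : K, (χ : G → ℂ) x * conj ((χ : G → ℂ) x * (χ : G → ℂ) (x * k) / (χ : G → ℂ) 1)
        = ∑ k : K, (χ : G → ℂ) x ^ 2 / (χ : G → ℂ) 1 * conj ((χ : G → ℂ) (x * k)) := by
          apply Finset.sum_congr rfl
          intro k _
          rw [map_div₀, map_mul, x_real h, one_real]; ring
      _ = (χ : G → ℂ) x ^ 2 / (χ : G → ℂ) 1 * conj (∑ k : K, (χ : G → ℂ) (x * k)) := by rw [map_sum, Finset.mul_sum]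
      _ = _ := by rw [h3]; ring
  rw [Finset.sum_congr rfl fun χ _ => h2 χ, ← Finset.mul_sum] at h1
  apply mul_left_cancel₀ hK0
  rw [h1]; ring

theorem N2_eq (h : KS x V K) {k : G} (hk : k ∈ K) : Nat.card {s : G // Ev s ∧ Ev (s * (x * k))} = 2 * Nat.card K := by
  have hG0 : (Nat.card G : ℂ) ≠ 0 := by exact_mod_cast Nat.card_pos.ne'
  have h1 := N2 h (x * k)
  rw [Finset.sum_congr rfl fun χ _ => by rw [show (χ : G → ℂ) (x * k) = (χ : G → ℂ) (x * ((⟨k, hk⟩ : K) : G)) from rfl, aa_mul h χ ⟨k, hk⟩],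
    sum_sq h] at h1
  have h2 : (16 * (Nat.card {s : G // Ev s ∧ Ev (s * (x * k))} : ℂ)) = 32 * Nat.card K := by
    rw [h1]; field_simp
  have h3 : 16 * Nat.card {s : G // Ev s ∧ Ev (s * (x * k))} = 32 * Nat.card K := by exact_mod_cast h2
  omega

/-- the even factorisations of an element of `xK` are the obvious ones -/
theorem star (h : KS x V K) {k : G} (hk : k ∈ K) {s : G} (hs : Ev s) (ht : Ev (s * (x * k))) : ∃ v ∈ V, ∃ k' ∈ K, v * k' = s := by
  classical
  obtain ⟨f, hf⟩ : ∃ f : {v : V // v ≠ 1 ∧ (v : G) ≠ x} × K → {s : G // Ev s ∧ Ev (s * (x * k))}, ∀ p, (f p : G) = p.1.1 * p.2 := by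
    refine ⟨fun p => ⟨p.1.1 * p.2, (h.Ev_iff p.1.1.2 p.2.2).2 (fun h0 => p.1.2.1 (Subtype.ext h0)), ?_⟩, fun p => rfl⟩
    have h1 : (p.1.1 : G) * p.2 * (x * k) = (p.1.1 * x) * (p.2 * k) := by
      have h2 := h.VK x h.xV p.2 p.2.2
      calc (p.1.1 : G) * p.2 * (x * k) = p.1.1 * (p.2 * x) * k := by group
        _ = (p.1.1 * x) * (p.2 * k) := by rw [← h2]; group
    rw [h1, h.Ev_iff (V.mul_mem p.1.1.2 h.xV) (K.mul_mem p.2.2 hk)]
    intro h0
    apply p.1.2.2
    have h4 := eq_inv_of_mul_eq_one_left h0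
    rw [h4, inv_eq_of_mul_eq_one_left h.x2]
  have hinj : Function.Injective f := by
    rintro ⟨⟨⟨v, hv⟩, hv1⟩, ⟨k1, hk1⟩⟩ ⟨⟨⟨v', hv'⟩, hv1'⟩, ⟨k1', hk1'⟩⟩ he
    have h1 : v * k1 = v' * k1' := by
      have := congrArg Subtype.val he
      rwa [hf, hf] at this
    obtain ⟨rfl, rfl⟩ := h.unique hv hk1 hv' hk1' h1
    rfl
  have h1 : Nat.card {v : V // v ≠ 1 ∧ (v : G) ≠ x} = 2 := by
    letI : Fintype V := Fintype.ofFinite _
    have h2 : Fintype.card V = 4 := by rw [← Nat.card_eq_fintype_card]; exact h.V4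
    have h3 : (Finset.univ.filter (fun v : V => v ≠ 1 ∧ (v : G) ≠ x)) = (Finset.univ.erase (1 : V)).erase ⟨x, h.xV⟩ := by
      ext v
      simp only [Finset.mem_filter, Finset.mem_univ, true_and, Finset.mem_erase, and_true]
      constructor
      · rintro ⟨h4, h5⟩
        exact ⟨fun h6 => h5 (congrArg Subtype.val h6), h4⟩
      · rintro ⟨h4, h5⟩
        exact ⟨h5, fun h6 => h4 (Subtype.ext h6)⟩
    rw [Nat.card_eq_fintype_card, Fintype.card_subtype, h3, Finset.card_erase_of_mem, Finset.card_erase_of_mem (Finset.mem_univ _), Finset.card_univ, h2]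
    rw [Finset.mem_erase]
    refine ⟨fun h0 => h.x1 (congrArg Subtype.val h0), Finset.mem_univ _⟩
  have hsurj : Function.Surjective f := by
    apply (hinj.bijective_of_nat_card_le _).2
    rw [N2_eq h hk, Nat.card_prod, h1]
  obtain ⟨p, hp⟩ := hsurj ⟨s, hs, ht⟩
  refine ⟨p.1.1, p.1.1.2, p.2, p.2.2, ?_⟩
  rw [← hf, hp]

end
end CfsgLib.KG11
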