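import Mathlib
import Cfsg.Agent.EqBase
import Cfsg.Agent.LibKG11d

/-! Involutions with centraliser `V × K`: coset counting (seat helper11). -/

set_option autoImplicit false
set_option linter.all false

namespace CfsgLib.KG11

open Subgroup Cfsg CfsgLib.BW11 CfsgLib.KF11 CfsgLib.CharBasic

universe u

section
variable {G : Type u} [Group G] [Fintype G] {x : G} {V K : Subgroup G} [Fintype K]

theorem star' (h : KS x V K) {v k : G} (hv : v ∈ V) (hv1 : v ≠ 1) (hk : k ∈ K) {s : G} (hs : Ev s) (ht : Ev (s * (v * k))) :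
    ∃ v ∈ V, ∃ k' ∈ K, v * k' = s := by
  obtain ⟨n, hn, h1, h2, h3⟩ := h.exists_conj hv hv1
  obtain ⟨f, hf⟩ : ∃ f : K → K, ∀ w, (f w : G) = n * w * n⁻¹ := ⟨fun w => ⟨_, h3 w w.2⟩, fun _ => rfl⟩
  have hinj : Function.Injective f := by
    intro a b hab
    have h3 : n * (a : G) * n⁻¹ = n * b * n⁻¹ := by rw [← hf, ← hf, hab]
    exact Subtype.ext (by simpa using h3)
  obtain ⟨a, ha⟩ := Finite.surjective_of_injective hinj ⟨k, hk⟩
  have h4 : n * (a : G) * n⁻¹ = k := by rw [← hf, ha]
  have h5 : Ev (n⁻¹ * s * n) := by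
    have := (Ev_conj (g := s) n⁻¹).2 hs
    rwa [inv_inv] at this
  have h6 : Ev ((n⁻¹ * s * n) * (x * (a : G))) := by
    have h7 : (n⁻¹ * s * n) * (x * (a : G)) = n⁻¹ * (s * (v * k)) * n⁻¹⁻¹ := by
      rw [← hn, ← h4]; group
    rw [h7, Ev_conj]; exact ht
  obtain ⟨v', hv', k', hk', he⟩ := star h a.2 h5 h6
  refine ⟨n * v' * n⁻¹, h1 v' hv', n * k' * n⁻¹, h3 k' hk', ?_⟩
  calc n * v' * n⁻¹ * (n * k' * n⁻¹) = n * (v' * k') * n⁻¹ := by group
    _ = s := by rw [he]; group

theorem card_V3 (h : KS x V K) : Nat.card {s : G // IsConj x s ∧ s ∈ V} = 3 := by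
  classical
  have h1 : Nat.card {v : V // v ≠ 1} = 3 := by
    letI : Fintype V := Fintype.ofFinite _
    have h2 : Fintype.card V = 4 := by rw [← Nat.card_eq_fintype_card]; exact h.V4
    rw [Nat.card_eq_fintype_card, Fintype.card_subtype_compl, h2, Fintype.card_subtype_eq]
  rw [← h1]
  apply Nat.card_congr
  refine
    { toFun := fun s => ⟨⟨s.1, s.2.2⟩, ?_⟩
      invFun := fun v => ⟨v.1.1, h.cj _ (h.Vsq _ v.1.2) (fun h0 => v.2 (Subtype.ext h0)), v.1.2⟩
      left_inv := fun s => rfl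
      right_inv := fun v => rfl }
  intro h0
  obtain ⟨s, h2, h3⟩ := s
  have h4 : s = 1 := congrArg Subtype.val h0
  obtain ⟨c, rfl⟩ := isConj_iff.1 h2
  apply h.x1
  calc x = c⁻¹ * (c * x * c⁻¹) * c := by group
    _ = 1 := by rw [h4]; group

theorem card_D (h : KS x V K) : Nat.card {g : G // g * x * g⁻¹ ∈ V} = 12 * Nat.card K := by
  have h1 := CfsgLib.Di11.card_fib x (fun y => y ∈ V)
  have h2 : Nat.card {g : G // g * x * g⁻¹ ∈ V} = Nat.card (centralizer ({x} : Set G)) * Nat.card {s : G // IsConj x s ∧ s ∈ V} := h1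
  rw [h2, card_V3 h, h.card_C]; ring

/-- an element moving `x` inside `V` has odd order -/
theorem not_Ev_of_D (h : KS x V K) {s : G} (hs : s * x * s⁻¹ ∈ V) (hx : ¬ s * x = x * s) : ¬ Ev s := by
  intro hev
  have hv1 : s * x * s⁻¹ ≠ 1 := by
    intro h0
    apply h.x1
    calc x = s⁻¹ * (s * x * s⁻¹) * s := by group
      _ = 1 := by rw [h0]; group
  have h1 : ∀ w ∈ V, s * w * s⁻¹ ∈ V := by
    intro w hw
    have h2 : (s * w * s⁻¹) * (s * x * s⁻¹) = (s * x * s⁻¹) * (s * w * s⁻¹) := by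
      have h3 := h.Vab w hw x h.xV
      calc (s * w * s⁻¹) * (s * x * s⁻¹) = s * (w * x) * s⁻¹ := by group
        _ = (s * x * s⁻¹) * (s * w * s⁻¹) := by rw [h3]; group
    obtain ⟨a, ha, k, hk, he⟩ := h.cent' hs hv1 h2
    have h3 : (a * k) * (a * k) = 1 := by
      rw [he]
      calc s * w * s⁻¹ * (s * w * s⁻¹) = s * (w * w) * s⁻¹ := by group
        _ = 1 := by rw [h.Vsq w hw]; group
    rw [← he, h.mem_V ha hk h3, mul_one]; exact ha
  obtain ⟨f, hf⟩ : ∃ f : V → V, ∀ w, (f w : G) = s * w * s⁻¹ := ⟨fun w => ⟨_, h1 w w.2⟩, fun _ => rfl⟩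
  have hinj : Function.Injective f := by
    intro a b hab
    have h3 : s * (a : G) * s⁻¹ = s * b * s⁻¹ := by rw [← hf, ← hf, hab]
    exact Subtype.ext (by simpa using h3)
  have hN : s ∈ normalizer (V : Set G) := by
    rw [Subgroup.mem_normalizer_iff]
    intro w
    refine ⟨h1 w, fun hw => ?_⟩
    obtain ⟨a, ha⟩ := Finite.surjective_of_injective hinj ⟨_, hw⟩
    have h3 : s * (a : G) * s⁻¹ = s * w * s⁻¹ := by rw [← hf, ha]
    have h4 : (a : G) = w := by simpa using h3
    rw [← h4]; exact a.2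
  obtain ⟨m, hm⟩ := hev
  have hpos := orderOf_pos s
  have hm0 : 0 < m := by omega
  have hy2 : s ^ m * s ^ m = 1 := by rw [← pow_add, ← two_mul, ← hm, pow_orderOf_eq_one]
  have hy1 : s ^ m ≠ 1 := by
    intro h0
    have := Nat.le_of_dvd hm0 (orderOf_dvd_of_pow_eq_one h0)
    omega
  have hyV : s ^ m ∈ V := mem_of_sq h.syl ((normalizer (V : Set G)).pow_mem hN m) (by rw [hy2]; exact V.one_mem)
  obtain ⟨a, ha, k, hk, he⟩ := h.cent' hyV hy1 (g := s) (by rw [← pow_succ, ← pow_succ'])
  exact hx ((h.cent s).2 ⟨a, ha, k, hk, he⟩)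

open Classical in
/-- number of even elements in a coset -/
noncomputable def nn (x g : G) : ℕ := (Finset.univ.filter (fun c : G => c * x = x * c ∧ Ev (g * c))).card

theorem sum_nn (h : KS x V K) : ∑ g : G, nn x g = Nat.card K * Nat.card G := by
  classical
  have h1 : ∀ g : G, nn x g = ∑ c : G, if c * x = x * c ∧ Ev (g * c) then 1 else 0 := by
    intro g
    unfold nn
    rw [Finset.card_filter]
  rw [Finset.sum_congr rfl fun g _ => h1 g, Finset.sum_comm]
  have h2 : ∀ c : G, (∑ g : G, if c * x = x * c ∧ Ev (g * c) then 1 else 0) = if c * x = x * c then Nat.card {g : G // Ev g} else 0 := by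
    intro c
    by_cases hc : c * x = x * c
    · rw [if_pos hc, ← Finset.card_filter, Nat.card_eq_fintype_card, Fintype.card_subtype]
      apply Finset.card_bij (fun g _ => g * c)
      · intro g hg
        rw [Finset.mem_filter] at hg ⊢
        exact ⟨Finset.mem_univ _, hg.2.2⟩
      · intro g _ g' _ he
        exact mul_right_cancel he
      · intro g hg
        refine ⟨g * c⁻¹, ?_, inv_mul_cancel_right g c⟩
        rw [Finset.mem_filter] at hg ⊢
        refine ⟨Finset.mem_univ _, hc, ?_⟩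
        rw [inv_mul_cancel_right]; exact hg.2
    · rw [if_neg hc]
      apply Finset.sum_eq_zero
      intro g _
      rw [if_neg (fun h0 => hc h0.1)]
  rw [Finset.sum_congr rfl fun c _ => h2 c, ← Finset.sum_filter, Finset.sum_const, smul_eq_mul]
  have h3 : (Finset.univ.filter (fun c : G => c * x = x * c)).card = 4 * Nat.card K := by
    rw [← h.card_C, Nat.card_eq_fintype_card, ← Fintype.card_subtype]
    apply Fintype.card_congr
    exact Equiv.subtypeEquivRight fun c => by rw [mem_centralizer_singleton_iff]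
  rw [h3, mul_comm (Nat.card K), card_Ev h]
  ring

theorem nn_C (h : KS x V K) {g : G} (hg : g * x = x * g) : nn x g = 3 * Nat.card K := by
  classical
  have h1 : nn x g = (Finset.univ.filter (fun c : G => c * x = x * c ∧ Ev c)).card := by
    unfold nn
    apply Finset.card_bij (fun c _ => g * c)
    · intro c hc
      rw [Finset.mem_filter] at hc ⊢
      refine ⟨Finset.mem_univ _, ?_, hc.2.2⟩
      rw [mul_assoc, hc.2.1, ← mul_assoc, hg, mul_assoc]
    · intro c _ c' _ he
      exact mul_left_cancel he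
    · intro c hc
      rw [Finset.mem_filter] at hc
      refine ⟨g⁻¹ * c, ?_, mul_inv_cancel_left g c⟩
      rw [Finset.mem_filter]
      refine ⟨Finset.mem_univ _, ?_, by rw [mul_inv_cancel_left]; exact hc.2.2⟩
      have h2 : g⁻¹ * x = x * g⁻¹ := by
        calc g⁻¹ * x = g⁻¹ * (x * g) * g⁻¹ := by group
          _ = x * g⁻¹ := by rw [← hg]; group
      rw [mul_assoc, hc.2.1, ← mul_assoc, h2, mul_assoc]
  rw [h1]
  have h2 : Nat.card ({v : V // v ≠ 1} × K) = 3 * Nat.card K := by
    rw [Nat.card_prod]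
    congr 1
    letI : Fintype V := Fintype.ofFinite _
    have h2 : Fintype.card V = 4 := by rw [← Nat.card_eq_fintype_card]; exact h.V4
    rw [Nat.card_eq_fintype_card, Fintype.card_subtype_compl, h2, Fintype.card_subtype_eq]
  rw [← h2, Nat.card_eq_fintype_card, ← Finset.card_univ]
  symm
  apply Finset.card_bij (fun p _ => (p.1.1 : G) * p.2)
  · rintro ⟨⟨v, hv⟩, k⟩ _
    rw [Finset.mem_filter]
    refine ⟨Finset.mem_univ _, (h.cent _).2 ⟨v, v.2, k, k.2, rfl⟩, ?_⟩
    exact (h.Ev_iff v.2 k.2).2 (fun h0 => hv (Subtype.ext h0))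
  · rintro ⟨⟨⟨v, hv⟩, hv1⟩, ⟨k, hk⟩⟩ _ ⟨⟨⟨v', hv'⟩, hv1'⟩, ⟨k', hk'⟩⟩ _ he
    have he' : v * k = v' * k' := he
    obtain ⟨rfl, rfl⟩ := h.unique hv hk hv' hk' he'
    rfl
  · intro c hc
    rw [Finset.mem_filter] at hc
    obtain ⟨v, hv, k, hk, rfl⟩ := (h.cent c).1 hc.2.1
    have hv1 := (h.Ev_iff hv hk).1 hc.2.2
    exact ⟨⟨⟨⟨v, hv⟩, fun h0 => hv1 (congrArg Subtype.val h0)⟩, ⟨k, hk⟩⟩, Finset.mem_univ _, rfl⟩

theorem nn_D (h : KS x V K) {g : G} (hg : g * x * g⁻¹ ∈ V) (hx : ¬ g * x = x * g) : nn x g = 0 := by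
  classical
  unfold nn
  rw [Finset.card_eq_zero, Finset.filter_eq_empty_iff]
  rintro c - ⟨hc, hev⟩
  have h1 : (g * c) * x * (g * c)⁻¹ = g * x * g⁻¹ := by
    calc (g * c) * x * (g * c)⁻¹ = g * (c * x) * c⁻¹ * g⁻¹ := by group
      _ = g * x * g⁻¹ := by rw [hc]; group
  refine not_Ev_of_D h (s := g * c) (by rw [h1]; exact hg) (fun h0 => hx ?_) hev
  have h2 : (g * c) * x * (g * c)⁻¹ = x := by rw [h0, mul_inv_cancel_right]
  rw [h1] at h2
  rwa [mul_inv_eq_iff_eq_mul] at h2

theorem sub_coset (h : KS x V K) {s e : G} (hs : Ev s) (he : e * x = x * e) (hse : Ev (s * e)) (hsx : ¬ s * x = x * s) : e ∈ K := by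
  obtain ⟨v, hv, k, hk, rfl⟩ := (h.cent e).1 he
  by_cases hv1 : v = 1
  · rw [hv1, one_mul]; exact hk
  · exfalso
    exact hsx ((h.cent s).2 (star' h hv hv1 hk hs hse))

theorem nn_le (h : KS x V K) {g : G} (hx : ¬ g * x = x * g) : nn x g ≤ Nat.card K := by
  classical
  by_cases h0 : nn x g = 0
  · rw [h0]; exact Nat.zero_le _
  · unfold nn at h0 ⊢
    rw [Finset.card_eq_zero] at h0
    obtain ⟨c0, hc0⟩ := Finset.nonempty_iff_ne_empty.2 h0
    rw [Finset.mem_filter] at hc0
    rw [Nat.card_eq_fintype_card, ← Finset.card_univ]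
    have hcx : c0⁻¹ * x = x * c0⁻¹ := by
      calc c0⁻¹ * x = c0⁻¹ * (x * c0) * c0⁻¹ := by group
        _ = x * c0⁻¹ := by rw [← hc0.2.1]; group
    have hmem : ∀ c : G, c ∈ Finset.univ.filter (fun c : G => c * x = x * c ∧ Ev (g * c)) → c0⁻¹ * c ∈ K := by
      intro c hc
      rw [Finset.mem_filter] at hc
      apply sub_coset h hc0.2.2
      · rw [mul_assoc, hc.2.1, ← mul_assoc, hcx, mul_assoc]
      · have : g * c0 * (c0⁻¹ * c) = g * c := by group
        rw [this]; exact hc.2.2
      · intro h1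
        apply hx
        calc g * x = (g * c0) * (c0⁻¹ * x) := by group
          _ = (g * c0 * x) * c0⁻¹ := by rw [hcx]; group
          _ = x * g := by rw [h1]; group
    apply Finset.card_le_card_of_injOn (fun c => if hc : c0⁻¹ * c ∈ K then ⟨c0⁻¹ * c, hc⟩ else 1)
    · intro c _; exact Finset.mem_coe.2 (Finset.mem_univ _)
    · intro c hc c' hc' he
      have h1 := hmem c (Finset.mem_coe.1 hc)
      have h2 := hmem c' (Finset.mem_coe.1 hc')
      simp only [dif_pos h1, dif_pos h2] at he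
      exact mul_left_cancel (congrArg Subtype.val he)

theorem nn_eq (h : KS x V K) {g : G} (hD : ¬ g * x * g⁻¹ ∈ V) : nn x g = Nat.card K := by
  classical
  have hDx : ∀ g : G, g * x * g⁻¹ ∉ V → ¬ g * x = x * g := by
    intro g hg h0
    apply hg
    rw [h0, mul_inv_cancel_right]; exact h.xV
  -- integer sums
  have h1 : ∑ g : G, ((Nat.card K : ℤ) - nn x g) = 0 := by
    rw [Finset.sum_sub_distrib, Finset.sum_const, Finset.card_univ, ← Nat.card_eq_fintype_card, nsmul_eq_mul]
    have h2 : ((∑ g : G, nn x g : ℕ) : ℤ) = Nat.card K * Nat.card G := by rw [sum_nn h]; push_cast; ring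
    rw [Nat.cast_sum] at h2
    rw [h2]; ring
  have h2 : ∑ g ∈ Finset.univ.filter (fun g : G => g * x * g⁻¹ ∈ V), ((Nat.card K : ℤ) - nn x g) = 0 := by
    have h3 : ∀ g ∈ Finset.univ.filter (fun g : G => g * x * g⁻¹ ∈ V), ((Nat.card K : ℤ) - nn x g) =
        (Nat.card K : ℤ) - (if g * x = x * g then (3 * Nat.card K : ℤ) else 0) := by
      intro g hg
      rw [Finset.mem_filter] at hg
      by_cases hgx : g * x = x * g
      · rw [if_pos hgx, nn_C h hgx]; push_cast; ring
      · rw [if_neg hgx, nn_D h hg.2 hgx]; push_cast; ring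
    rw [Finset.sum_congr rfl h3, Finset.sum_sub_distrib, Finset.sum_const, ← Finset.sum_filter, Finset.sum_const, Finset.filter_filter]
    have h4 : (Finset.univ.filter (fun g : G => g * x * g⁻¹ ∈ V)).card = 12 * Nat.card K := by
      rw [← card_D h, Nat.card_eq_fintype_card, Fintype.card_subtype]
    have h5 : (Finset.univ.filter (fun g : G => g * x * g⁻¹ ∈ V ∧ g * x = x * g)).card = 4 * Nat.card K := by
      rw [← h.card_C, Nat.card_eq_fintype_card, ← Fintype.card_subtype]
      apply Fintype.card_congr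
      refine Equiv.subtypeEquivRight fun c => ?_
      rw [mem_centralizer_singleton_iff]
      refine ⟨fun h6 => h6.2, fun h6 => ⟨?_, h6⟩⟩
      rw [h6, mul_inv_cancel_right]; exact h.xV
    rw [h4, h5]
    push_cast
    ring
  have h3 : ∑ g ∈ Finset.univ.filter (fun g : G => ¬ g * x * g⁻¹ ∈ V), ((Nat.card K : ℤ) - nn x g) = 0 := by
    have h4 := Finset.sum_filter_add_sum_filter_not Finset.univ (fun g : G => g * x * g⁻¹ ∈ V) (fun g => ((Nat.card K : ℤ) - nn x g))
    rw [h1, h2, zero_add] at h4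
    exact h4
  rw [Finset.sum_eq_zero_iff_of_nonneg (fun g hg => by
    rw [Finset.mem_filter] at hg
    have := nn_le h (hDx g hg.2)
    have h5 : ((nn x g : ℕ) : ℤ) ≤ Nat.card K := by exact_mod_cast this
    linarith)] at h3
  have h4 := h3 g (by rw [Finset.mem_filter]; exact ⟨Finset.mem_univ _, hD⟩)
  have h5 : ((nn x g : ℕ) : ℤ) = Nat.card K := by linarith
  exact_mod_cast h5

/-- right multiplication by `K` preserves the even elements -/
theorem Ev_mul (h : KS x V K) {s k : G} (hs : Ev s) (hk : k ∈ K) : Ev (s * k) := by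
  classical
  by_cases hsx : s * x = x * s
  · obtain ⟨v, hv, k', hk', rfl⟩ := (h.cent s).1 hsx
    rw [mul_assoc, h.Ev_iff hv (K.mul_mem hk' hk)]
    exact (h.Ev_iff hv hk').1 hs
  · have hD : ¬ s * x * s⁻¹ ∈ V := fun h0 => not_Ev_of_D h h0 hsx hs
    have h1 := nn_eq h hD
    have h2 : (Finset.univ.filter (fun c : G => c * x = x * c ∧ Ev (s * c))) ⊆ Finset.univ.filter (fun c : G => c ∈ K) := by
      intro c hc
      rw [Finset.mem_filter] at hc ⊢
      exact ⟨Finset.mem_univ _, sub_coset h hs hc.2.1 hc.2.2 hsx⟩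
    have h3 := Finset.eq_of_subset_of_card_le h2 (by
      have h4 : (Finset.univ.filter (fun c : G => c * x = x * c ∧ Ev (s * c))).card = Nat.card K := h1
      rw [h4, Nat.card_eq_fintype_card, ← Fintype.card_subtype])
    have h4 : k ∈ Finset.univ.filter (fun c : G => c ∈ K) := by rw [Finset.mem_filter]; exact ⟨Finset.mem_univ _, hk⟩
    rw [← h3, Finset.mem_filter] at h4
    exact h4.2.2

end

/-- `K = 1` in a simple group -/
theorem K_eq_bot {G : Type u} [Group G] [Finite G] [IsSimpleGroup G] {x : G} {V K : Subgroup G} (h : KS x V K) : K = ⊥ := by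
  classical
  letI : Fintype G := Fintype.ofFinite G
  letI : Fintype K := Fintype.ofFinite K
  let M : Subgroup G :=
    { carrier := {m | ∀ s, Ev (s * m) ↔ Ev s}
      mul_mem' := by
        intro a b ha hb s
        rw [← mul_assoc]
        exact (hb _).trans (ha s)
      one_mem' := by intro s; rw [mul_one]
      inv_mem' := by
        intro a ha s
        have := ha (s * a⁻¹)
        rw [inv_mul_cancel_right] at this
        exact this.symm }
  have hM : M.Normal := by
    refine ⟨fun m hm g s => ?_⟩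
    have h1 := hm (g⁻¹ * s * g)
    have h2 : s * (g * m * g⁻¹) = g * (g⁻¹ * s * g * m) * g⁻¹ := by group
    rw [h2, Ev_conj, h1]
    have h3 : s = g * (g⁻¹ * s * g) * g⁻¹ := by group
    conv_rhs => rw [h3]
    rw [Ev_conj]
  have hKM : K ≤ M := by
    intro k hk s
    refine ⟨fun h1 => ?_, fun h1 => Ev_mul h h1 hk⟩
    have := Ev_mul h h1 (K.inv_mem hk)
    rwa [mul_inv_cancel_right] at this
  rcases hM.eq_bot_or_eq_top with h1 | h1
  · rw [h1] at hKM; exact eq_bot_iff.2 hKM
  · exfalso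
    have h2 : x ∈ M := by rw [h1]; exact Subgroup.mem_top x
    have h3 := (h2 1).2
    have h4 := h2 x
    have hEx : Ev x := by
      have := (h.Ev_iff h.xV K.one_mem).2 h.x1
      rwa [mul_one] at this
    have h5 := h4.2 hEx
    rw [h.x2] at h5
    exact not_Ev_one h5

/-- the conclusion -/
theorem KS.a5 {G : Type u} [Group G] [Finite G] [IsSimpleGroup G] {x : G} {V K : Subgroup G} (h : KS x V K) :
    Nonempty (G ≃* alternatingGroup (Fin 5)) := by
  have hK := K_eq_bot h
  have hC : Nat.card (centralizer ({x} : Set G)) = 4 := by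
    rw [h.card_C, hK, Subgroup.card_bot]
  have hCV : ∀ c, c * x = x * c → c ∈ V := by
    intro c hc
    obtain ⟨v, hv, k, hk, rfl⟩ := (h.cent c).1 hc
    rw [hK, Subgroup.mem_bot] at hk
    rw [hk, mul_one]; exact hv
  apply main h.x2 h.x1 hC (fun c hc => h.Vsq c (hCV c hc)) h.cj
  intro hN
  rcases hN.eq_bot_or_eq_top with h1 | h1
  · have h2 : x ∈ centralizer ({x} : Set G) := mem_centralizer_singleton_iff.2 rfl
    rw [h1, Subgroup.mem_bot] at h2
    exact h.x1 h2
  · -- all commute with x, so the cyclic subgroup of `x` is normal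
    have h2 : (zpowers x).Normal := by
      refine ⟨fun y hy g => ?_⟩
      obtain ⟨n, rfl⟩ := Subgroup.mem_zpowers_iff.1 hy
      have h3 : g * x = x * g := mem_centralizer_singleton_iff.1 (by rw [h1]; exact Subgroup.mem_top g)
      have h4 : g * x ^ n * g⁻¹ = x ^ n := by
        rw [← conj_zpow]
        congr 1
        rw [h3, mul_inv_cancel_right]
      rw [h4]; exact hy
    rcases h2.eq_bot_or_eq_top with h3 | h3
    · have h4 : x ∈ zpowers x := mem_zpowers x
      rw [h3, Subgroup.mem_bot] at h4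
      exact h.x1 h4
    · have h4 : Nat.card G = 2 := by
        rw [← Subgroup.card_top (G := G), ← h3, Nat.card_zpowers]
        exact orderOf_eq_prime (by rw [pow_two]; exact h.x2) h.x1
      have h5 := Subgroup.card_subgroup_dvd_card V
      rw [h.V4, h4] at h5
      norm_num at h5

end CfsgLib.KG11
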