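import Cfsg.Agent.LibQdF9C
import Cfsg.Agent.LibDZJ9
/-! `Qd(p)`-free fusion systems are solvable. Seat helper9. -/
set_option autoImplicit false

namespace CfsgLib.KLc9

open Cfsg Cfsg.FusionSystem CfsgLib.Fus21

universe u

/-- control by a functor which is normal in the constrained `H`-free groups -/
theorem glauberman_control {p : ℕ} [Fact p.Prime] (W : ∀ (Q : Type u) [Group Q], Subgroup Q) (H : Type*) [Group H]
    (hW1 : ∀ (Q : Type u) [Group Q] [Finite Q], IsPGroup p Q → Nontrivial Q → W Q ≠ ⊥)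
    (hW2 : ∀ (Q R : Type u) [Group Q] [Group R] [Finite Q], IsPGroup p Q → ∀ φ : Q ≃* R, (W Q).map φ.toMonoidHom = W R)
    (hW3 : ∀ (L : Type u) [Group L] [Finite L] (P : Sylow p L), Subgroup.centralizer ((Cfsg.pCore p L : Subgroup L) : Set L) =
      Cfsg.pCore p L ⊓ Subgroup.centralizer ((Cfsg.pCore p L : Subgroup L) : Set L) → ¬ Cfsg.Involves H L →
      (((W ↥(P : Subgroup L)).map (P : Subgroup L).subtype : Subgroup L)).Normal)
    {Ω : Type u} [Group Ω] {S : Subgroup Ω} [Finite S] (hS : IsPGroup p S) (F : Cfsg.FusionSystem S)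
    (hF : F.IsSaturated p) (hfree : F.IsSectionFree p H) : F.IsNormal (ofW W S) := by
  refine KL_control hW1 hW2 (fun Ω _ S F => F.IsSectionFree p H) ?_ ?_ ?_ ?_ _ _ Ω S F inferInstance hS hF hfree rfl rfl
  · intro Ω _ S F hfin hS hF hfree U hU
    exact sectionFree_normSys hS hF hfree hU
  · intro Ω _ S F hfin hS hF hfree Q hQ
    exact sc_sectionFree hS hF hfree hQ
  · intro Ω _ S F hfin hS hF hfree Q hQ Ω' _ S' θ E hE
    exact sectionFree_factor hS hF hQ hE hfree
  · intro Ω _ S F hfin hS hcon hfree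
    obtain ⟨G, _, ι, hm⟩ := model_exists hS hcon
    have hn := isNormal_core F
    have hc := core_centric hcon
    have hinv : ¬ Cfsg.Involves H G :=
      hfree F.core (fn_of_normal hn) hc _ (normSys_is F F.core hn.1) G _ (model_of_normal hn hm)
    obtain ⟨hfG, hr, ⟨T, hT⟩, hC⟩ := id hm
    have h1 := hW3 G T (le_antisymm (le_inf hC le_rfl) inf_le_right) hinv
    have h2 : ofW W (T : Subgroup G) = img ι (ofW W S) := ofW_img hW2 hS hr.1 hT
    refine normal_of_img hr (Subgroup.map_subtype_le _) ?_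
    rw [← h2]
    exact h1

theorem sc_self {G : Type*} [Group G] (S : Subgroup G) : IsStronglyClosed S S := ⟨le_rfl, fun _ _ _ h => h⟩

/-- the `ZJ`-theorem for `Qd(p)`-free fusion systems -/
theorem zj_control {p : ℕ} [Fact p.Prime] (hp2 : p ≠ 2) {Ω : Type u} [Group Ω] {S : Subgroup Ω} [Finite S] (hS : IsPGroup p S)
    (F : Cfsg.FusionSystem S) (hF : F.IsSaturated p) (hfree : F.IsSectionFree p (qd p)) :
    F.IsNormal (ofW CfsgLib.Qd9.ZJ S) := by
  have hc := CfsgLib.Qd9.ZJ_char.{u} (p := p)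
  refine glauberman_control CfsgLib.Qd9.ZJ (qd p) hc.1 hc.2 ?_ hS F hF hfree
  intro L _ _ P hcen hinv
  have h1 : ((CfsgLib.Qd9.ZJ ↥(P : Subgroup L)).map (P : Subgroup L).subtype : Subgroup L) =
      centerThompsonAOf (P : Subgroup L) := CfsgLib.Qd9.induced_ZJ (P : Subgroup L)
  rw [h1]
  have hst := CfsgLib.Qd9.stab_of_qd_free hp2 (fun h => hinv (CfsgLib.Qd9.involves_iff.2 h))
  exact CfsgLib.DZJ9.zj_normal_D hp2 P (sc_self _) (by rw [hcen]; exact inf_le_left)
    (fun N _ hN => CfsgLib.Qd9.stab_normal hst N hN)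

theorem qd_core_ne {p : ℕ} [Fact p.Prime] (hp2 : p ≠ 2) {Ω : Type u} [Group Ω] {S : Subgroup Ω} [Finite S] (hS : IsPGroup p S)
    (F : Cfsg.FusionSystem S) (hF : F.IsSaturated p) (hfree : F.IsSectionFree p (qd p)) (hne : S ≠ ⊥) : F.core ≠ ⊥ := by
  intro h
  have hc := CfsgLib.Qd9.ZJ_char.{u} (p := p)
  have h1 := le_core (zj_control hp2 hS F hF hfree)
  rw [h, le_bot_iff] at h1
  exact (gfun_ofW hc.1 hc.2 Ω).ne S inferInstance hS hne h1

/-- factor systems by strongly closed subgroups inherit section-freeness -/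
theorem sectionFree_factor_sc {p : ℕ} [Fact p.Prime] {Ω : Type u} [Group Ω] {S : Subgroup Ω} [Finite S] (hS : IsPGroup p S)
    {F : Cfsg.FusionSystem S} (hF : F.IsSaturated p) {H : Type*} [Group H] (hfree : F.IsSectionFree p H)
    {R : Subgroup Ω} (hR : F.StronglyClosed R) {Ω' : Type u} [Group Ω'] {S' : Subgroup Ω'} {θ : S →* Ω'} {E : FusionSystem S'}
    (hE : F.IsFactorSystem R θ E) : E.IsSectionFree p H := by
  have hRn := stronglyClosed_normal_S hR
  have hT : S = nK S R ⊤ := nK_eq_S_of_normal hRn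
  have hRS := hR.1
  have hRfn : F.IsFullyNormalized R := fn_of_normalizer_eq F hRS (fun x hx => ⟨hx, hRn hx⟩)
  have key : ∀ (T : Subgroup Ω) (hT : T = nK S R ⊤), (nKSys F R hRS ⊤ T hT).IsSaturated p ∧
      (nKSys F R hRS ⊤ T hT).IsSectionFree p H := by
    intro T hT
    have h1 : T = normalizerIn S R := hT.trans (nK_top S R)
    subst h1
    exact ⟨normSys_saturated hS hF hRfn, sectionFree_normSys hS hF hfree hRfn⟩
  obtain ⟨hNs, hNf⟩ := key S hT
  set N := nKSys F R hRS ⊤ S hT with hN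
  have hNn : N.IsNormal R := by
    refine isNormal_of_ext hRS fun P φ hφ => ?_
    obtain ⟨-, -, -, ψ, hψ, h1, κ, -, h2⟩ := hφ
    exact ⟨ψ, mem_nKSys_of (le_S hψ) hψ le_rfl le_sup_right (fun _ _ => rfl) (κ := κ) trivial (fun x hx => h2 ⟨x, hx⟩),
      fun x hx => h1 ⟨x, hx⟩, κ, fun x hx => h2 ⟨x, hx⟩⟩
  have hNE : N.IsFactorSystem R θ E := by
    obtain ⟨h1, h2, h3, h4⟩ := hE
    refine ⟨h1, h2, h3, fun P' φ' => ?_⟩
    rw [h4]
    refine and_congr_right fun hP' => ?_
    constructor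
    · rintro ⟨φ, hφ, hi⟩
      refine ⟨φ, ?_, hi⟩
      have hRP : R ≤ preimageAlong θ P' := by
        intro x hx
        refine mem_preimageAlong.2 ⟨hRS hx, ?_⟩
        rw [(h2 ⟨x, hRS hx⟩).2 hx]
        exact P'.one_mem
      haveI : Finite R := finite_of_le hRS
      obtain ⟨κ, hκ⟩ := exists_aut_of_maps hφ hRP (fun x hx => (stronglyClosed_mem_iff hR hφ ⟨x, hRP hx⟩).2 hx)
      exact mem_nKSys_of (le_S hφ) hφ le_rfl hRP (fun _ _ => rfl) (κ := κ) trivial hκ
    · rintro ⟨φ, hφ, hi⟩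
      exact ⟨φ, hφ.1, hi⟩
  exact sectionFree_factor hS hNs hNn hNE hNf

/-- a class of saturated systems with nontrivial core, closed under factor systems, consists of solvable systems -/
theorem solvable_of_core {p : ℕ} [Fact p.Prime] {H : Type*} [Group H]
    (hcore : ∀ {Ω : Type u} [Group Ω] {S : Subgroup Ω} [Finite S], IsPGroup p S → ∀ (F : Cfsg.FusionSystem S),
      F.IsSaturated p → F.IsSectionFree p H → S ≠ ⊥ → F.core ≠ ⊥)
    {Ω : Type u} [Group Ω] {S : Subgroup Ω} [Finite S] (hS : IsPGroup p S)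
    (F : Cfsg.FusionSystem S) (hF : F.IsSaturated p) (hfree : F.IsSectionFree p H) : F.IsSolvableSystem := by
  intro R hR hRS hn E hE
  have hT' : Finite (⊤ : Subgroup (S ⧸ R.subgroupOf S)) := factor_finite hE
  refine hcore (factor_pgroup hS hE) E (saturated_of_surjective hS hF (factor_surjective hS hF hR hE))
    (sectionFree_factor_sc hS hF hfree hR hE) ?_
  intro h
  apply hRS
  apply le_antisymm hR.1
  intro x hx
  rw [← hE.2.1 ⟨x, hx⟩]
  have h2 : QuotientGroup.mk' (R.subgroupOf S) ⟨x, hx⟩ ∈ (⊤ : Subgroup (S ⧸ R.subgroupOf S)) := trivial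
  rw [h] at h2
  exact Subgroup.mem_bot.1 h2

theorem qd_solvable {p : ℕ} [Fact p.Prime] (hp2 : p ≠ 2) {Ω : Type u} [Group Ω] {S : Subgroup Ω} [Finite S] (hS : IsPGroup p S)
    (F : Cfsg.FusionSystem S) (hF : F.IsSaturated p) (hfree : F.IsSectionFree p (qd p)) : F.IsSolvableSystem :=
  solvable_of_core (H := qd p) (fun hS F hF hfree hne => qd_core_ne hp2 hS F hF hfree hne) hS F hF hfree

end CfsgLib.KLc9
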