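import Cfsg.Agent.LibKQd2

/-! The natural `SL_2(F)`-module (seat helper10). -/

set_option autoImplicit false
set_option linter.all false

namespace CfsgLib.KNat

open Subgroup Cfsg Matrix CfsgLib.Dick9 CfsgLib.KQd CfsgLib.LE
open scoped commutatorElement

variable {G : Type*} [Group G] {F : Type*} [Field F]

/-- coordinates on the natural module -/
structure Co (F : Type*) [Field F] (V L T : Subgroup G) (E : F → F → G) (ρ : ↥L ≃* Matrix.SpecialLinearGroup (Fin 2) F) : Prop where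
  mem : ∀ a b, E a b ∈ V
  surj : ∀ v ∈ V, ∃ a b, v = E a b
  inj : ∀ {a b a' b'}, E a b = E a' b' → a = a' ∧ b = b'
  mul : ∀ a b a' b', E a b * E a' b' = E (a + a') (b + b')
  act : ∀ (l : ↥L) a b, (l : G) * E a b * (l : G)⁻¹ = E (ρ l 0 0 * a + ρ l 0 1 * b) (ρ l 1 0 * a + ρ l 1 1 * b)
  tL : T ≤ L
  t : ∀ l : ↥L, (l : G) ∈ T ↔ ρ l ∈ (P0 : Subgroup (Matrix.SpecialLinearGroup (Fin 2) F))

/-- the standard Sylow subgroup of `SL_2` -/
noncomputable def SyP (p : ℕ) [hp : Fact p.Prime] [CharP F p] [Finite F] : Sylow p (Matrix.SpecialLinearGroup (Fin 2) F) :=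
  ⟨P0, P0_pGroup, by
    intro Q hQ h
    apply le_antisymm _ h
    obtain ⟨a, b, hab, hfix⟩ := sl2_fixed (F := F) (p := p) (N := Q) hQ
    have h1 := (hfix (su 1) (h (su_mem 1))).1
    have h00 : (su 1 : Matrix.SpecialLinearGroup (Fin 2) F) 0 0 = 1 := rfl
    have h01 : (su 1 : Matrix.SpecialLinearGroup (Fin 2) F) 0 1 = 1 := rfl
    rw [h00, h01] at h1
    have hb : b = 0 := by linear_combination h1
    have ha : a ≠ 0 := hab.resolve_right (not_not.2 hb)
    intro x hx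
    obtain ⟨e1, e2⟩ := hfix x hx
    rw [hb] at e1 e2
    refine ⟨?_, ?_⟩
    · apply mul_right_cancel₀ ha
      linear_combination e1
    · apply mul_right_cancel₀ ha
      linear_combination e2⟩

theorem exists_co [Finite G] {p : ℕ} [hp : Fact p.Prime] [CharP F p] [Finite F] {V L : Subgroup G} (hnat : IsNaturalSL2Module F V L)
    (hf : L ⊓ Subgroup.centralizer (V : Set G) = ⊥) (S : Sylow p ↥L) : ∃ E ρ, Co F V L ((S : Subgroup ↥L).map L.subtype) E ρ := by
  obtain ⟨hLV, ρ, ψ, hsurj, hker, hact⟩ := hnat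
  have hinj : Function.Injective ρ := by
    rw [← MonoidHom.ker_eq_bot_iff, hker, eq_bot_iff]
    intro l hl
    rw [Subgroup.mem_subgroupOf] at hl
    have : (l : G) ∈ L ⊓ Subgroup.centralizer (V : Set G) := ⟨l.2, hl⟩
    rw [hf, Subgroup.mem_bot] at this
    exact Subtype.ext this
  let ρ₁ : ↥L ≃* Matrix.SpecialLinearGroup (Fin 2) F := MulEquiv.ofBijective ρ ⟨hinj, hsurj⟩
  -- conjugate into standard position
  let S' : Sylow p (Matrix.SpecialLinearGroup (Fin 2) F) := S.mapSurjective hsurj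
  obtain ⟨g, hg⟩ := MulAction.exists_smul_eq (Matrix.SpecialLinearGroup (Fin 2) F) S' (SyP p)
  have hg' : ((S : Subgroup ↥L).map ρ).map (MulAut.conj g).toMonoidHom = (P0 : Subgroup (Matrix.SpecialLinearGroup (Fin 2) F)) := by
    have : ((SyP p : Sylow p (Matrix.SpecialLinearGroup (Fin 2) F)) : Subgroup (Matrix.SpecialLinearGroup (Fin 2) F)) = (P0 : Subgroup (Matrix.SpecialLinearGroup (Fin 2) F)) := rfl
    rw [← this, ← hg]
    rfl
  let ρ₂ : ↥L ≃* Matrix.SpecialLinearGroup (Fin 2) F := ρ₁.trans (MulAut.conj g)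
  have hρ₂ : ∀ l, ρ₂ l = g * ρ l * g⁻¹ := fun l => rfl
  -- `E a b = ψ⁻¹ (g⁻¹ (a, b))`
  let E : F → F → G := fun a b => ((Additive.toMul (ψ.symm ![g⁻¹ 0 0 * a + g⁻¹ 0 1 * b, g⁻¹ 1 0 * a + g⁻¹ 1 1 * b]) : ↥V) : G)
  have d := det_eq g
  refine ⟨E, ρ₂, ?_, ?_, ?_, ?_, ?_, Subgroup.map_subtype_le _, ?_⟩
  · intro a b; exact (Additive.toMul (ψ.symm _) : ↥V).2
  · intro v hv
    refine ⟨g 0 0 * ψ (Additive.ofMul ⟨v, hv⟩) 0 + g 0 1 * ψ (Additive.ofMul ⟨v, hv⟩) 1, g 1 0 * ψ (Additive.ofMul ⟨v, hv⟩) 0 + g 1 1 * ψ (Additive.ofMul ⟨v, hv⟩) 1, ?_⟩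
    have : ![g⁻¹ 0 0 * (g 0 0 * ψ (Additive.ofMul ⟨v, hv⟩) 0 + g 0 1 * ψ (Additive.ofMul ⟨v, hv⟩) 1) + g⁻¹ 0 1 * (g 1 0 * ψ (Additive.ofMul ⟨v, hv⟩) 0 + g 1 1 * ψ (Additive.ofMul ⟨v, hv⟩) 1), g⁻¹ 1 0 * (g 0 0 * ψ (Additive.ofMul ⟨v, hv⟩) 0 + g 0 1 * ψ (Additive.ofMul ⟨v, hv⟩) 1) + g⁻¹ 1 1 * (g 1 0 * ψ (Additive.ofMul ⟨v, hv⟩) 0 + g 1 1 * ψ (Additive.ofMul ⟨v, hv⟩) 1)] = ψ (Additive.ofMul ⟨v, hv⟩) := by
      ext i
      fin_cases i
      · simp only [inv00, inv01, inv10, inv11]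
        simp
        linear_combination (ψ (Additive.ofMul ⟨v, hv⟩) 0) * d
      · simp only [inv00, inv01, inv10, inv11]
        simp
        linear_combination (ψ (Additive.ofMul ⟨v, hv⟩) 1) * d
    change v = ((Additive.toMul (ψ.symm _) : ↥V) : G)
    rw [this, AddEquiv.symm_apply_apply]
    rfl
  · intro a b a' b' h
    have h1 := ψ.symm.injective (Additive.toMul.injective (Subtype.ext h))
    have e0 := congrFun h1 0
    have e1 := congrFun h1 1
    simp only [inv00, inv01, inv10, inv11] at e0 e1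
    simp at e0 e1
    constructor
    · linear_combination g 0 0 * e0 + g 0 1 * e1 - (a - a') * d
    · linear_combination g 1 0 * e0 + g 1 1 * e1 - (b - b') * d
  · intro a b a' b'
    change ((Additive.toMul (ψ.symm _) : ↥V) : G) * ((Additive.toMul (ψ.symm _) : ↥V) : G) = ((Additive.toMul (ψ.symm _) : ↥V) : G)
    rw [← Subgroup.coe_mul, ← toMul_add, ← map_add]
    congr 4
    ext i
    fin_cases i
    · simp; ring
    · simp; ring
  · intro l a b
    obtain ⟨w, hw, hw2⟩ := hact l (Additive.toMul (ψ.symm ![g⁻¹ 0 0 * a + g⁻¹ 0 1 * b, g⁻¹ 1 0 * a + g⁻¹ 1 1 * b]))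
    change (l : G) * ((Additive.toMul (ψ.symm _) : ↥V) : G) * (l : G)⁻¹ = _
    rw [← hw]
    rw [ofMul_toMul, AddEquiv.apply_symm_apply] at hw2
    have h3 : w = Additive.toMul (ψ.symm (ψ (Additive.ofMul w))) := by rw [AddEquiv.symm_apply_apply]; rfl
    rw [h3, hw2]
    change ((Additive.toMul (ψ.symm _) : ↥V) : G) = ((Additive.toMul (ψ.symm _) : ↥V) : G)
    congr 3
    ext i
    simp only [hρ₂]
    fin_cases i
    · simp only [mul00, mul01, mul10, mul11, inv00, inv01, inv10, inv11]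
      simp [Matrix.mulVec, dotProduct, Fin.sum_univ_two]
      linear_combination (-(ρ l 0 0 * (g 1 1 * a - g 0 1 * b) + ρ l 0 1 * (-g 1 0 * a + g 0 0 * b))) * d
    · simp only [mul00, mul01, mul10, mul11, inv00, inv01, inv10, inv11]
      simp [Matrix.mulVec, dotProduct, Fin.sum_univ_two]
      linear_combination (-(ρ l 1 0 * (g 1 1 * a - g 0 1 * b) + ρ l 1 1 * (-g 1 0 * a + g 0 0 * b))) * d
  · intro l
    rw [← hg']
    constructor
    · rintro ⟨s, hs, h⟩
      have : s = l := Subtype.ext h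
      subst this
      exact ⟨ρ s, ⟨s, hs, rfl⟩, rfl⟩
    · rintro ⟨_, ⟨s, hs, rfl⟩, h⟩
      have h1 : ρ₂ s = ρ₂ l := h
      have h2 : s = l := ρ₂.injective h1
      rw [← h2]
      exact ⟨s, hs, rfl⟩

section co
variable {V L T : Subgroup G} {E : F → F → G} {ρ : ↥L ≃* Matrix.SpecialLinearGroup (Fin 2) F}

theorem Co.zero (h : Co F V L T E ρ) : E 0 0 = 1 := by
  have := h.mul 0 0 0 0
  rw [add_zero, mul_eq_left] at this
  exact this

theorem Co.inv (h : Co F V L T E ρ) (a b : F) : (E a b)⁻¹ = E (-a) (-b) := by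
  rw [inv_eq_iff_mul_eq_one, h.mul, add_neg_cancel, add_neg_cancel, h.zero]

theorem Co.comm (h : Co F V L T E ρ) {x y : G} (hx : x ∈ V) (hy : y ∈ V) : x * y = y * x := by
  obtain ⟨a, b, rfl⟩ := h.surj x hx
  obtain ⟨a', b', rfl⟩ := h.surj y hy
  rw [h.mul, h.mul, add_comm a, add_comm b]

/-- elements of `T` -/
theorem Co.exists_t (h : Co F V L T E ρ) (c : F) : ∃ t ∈ T, ∀ a b, t * E a b * t⁻¹ = E (a + c * b) b := by
  obtain ⟨l, hl⟩ := ρ.surjective (su c)
  refine ⟨l, (h.t l).2 (by rw [hl]; exact su_mem c), ?_⟩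
  intro a b
  have h00 : (su c : Matrix.SpecialLinearGroup (Fin 2) F) 0 0 = 1 := rfl
  have h01 : (su c : Matrix.SpecialLinearGroup (Fin 2) F) 0 1 = c := rfl
  have h10 : (su c : Matrix.SpecialLinearGroup (Fin 2) F) 1 0 = 0 := rfl
  have h11 : (su c : Matrix.SpecialLinearGroup (Fin 2) F) 1 1 = 1 := rfl
  rw [h.act, hl, h00, h01, h10, h11]
  congr 1 <;> ring

theorem Co.t_act (h : Co F V L T E ρ) {t : G} (ht : t ∈ T) : ∃ c : F, (c = 0 → t = 1) ∧ ∀ a b, t * E a b * t⁻¹ = E (a + c * b) b := by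
  have h1 := (h.t ⟨t, h.tL ht⟩).1 ht
  have h2 := P0_eq h1
  refine ⟨ρ ⟨t, h.tL ht⟩ 0 1, ?_, ?_⟩
  · intro h3
    rw [h3, su_zero] at h2
    have h4 := (MulEquiv.map_eq_one_iff ρ).1 h2
    exact congrArg Subtype.val h4
  · intro a b
    obtain ⟨e1, e2⟩ := h1
    have d := det_eq (ρ ⟨t, h.tL ht⟩)
    rw [e1, e2] at d
    have e3 : ρ ⟨t, h.tL ht⟩ 1 1 = 1 := by linear_combination d
    have h5 := h.act ⟨t, h.tL ht⟩ a b
    rw [e1, e2, e3] at h5
    rw [h5]
    congr 1 <;> ring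

theorem Co.mem_Z (h : Co F V L T E ρ) {x : G} : x ∈ V ⊓ Subgroup.centralizer (T : Set G) ↔ ∃ a, x = E a 0 := by
  constructor
  · rintro ⟨hx, hc⟩
    obtain ⟨a, b, rfl⟩ := h.surj x hx
    obtain ⟨t, ht, hta⟩ := h.exists_t 1
    have h1 := Subgroup.mem_centralizer_iff.1 hc t ht
    have h2 := hta a b
    rw [h1, mul_inv_cancel_right] at h2
    have h3 := (h.inj h2).1
    have hb : b = 0 := by linear_combination -h3
    exact ⟨a, by rw [hb]⟩
  · rintro ⟨a, rfl⟩
    refine ⟨h.mem _ _, ?_⟩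
    change _ ∈ Subgroup.centralizer (T : Set G)
    rw [Subgroup.mem_centralizer_iff]
    intro t ht
    obtain ⟨c, -, hc⟩ := h.t_act ht
    have h1 := hc a 0
    rw [mul_zero, add_zero, mul_inv_eq_iff_eq_mul] at h1
    exact h1

theorem Co.comm_elt (h : Co F V L T E ρ) {t : G} {c : F} (hc : ∀ a b, t * E a b * t⁻¹ = E (a + c * b) b) (a b : F) :
    E a b * t * (E a b)⁻¹ * t⁻¹ = E (-(c * b)) 0 := by
  have h1 : E a b * t * (E a b)⁻¹ * t⁻¹ = E a b * (t * E (-a) (-b) * t⁻¹) := by rw [h.inv]; group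
  rw [h1, hc, h.mul]
  congr 1 <;> ring

theorem Co.commutator (h : Co F V L T E ρ) : ⁅V, T⁆ = V ⊓ Subgroup.centralizer (T : Set G) := by
  apply le_antisymm
  · rw [Subgroup.commutator_le]
    intro v hv t ht
    obtain ⟨a, b, rfl⟩ := h.surj v hv
    obtain ⟨c, -, hc⟩ := h.t_act ht
    rw [commutatorElement_def, h.comm_elt hc]
    exact h.mem_Z.2 ⟨_, rfl⟩
  · intro x hx
    obtain ⟨a, rfl⟩ := h.mem_Z.1 hx
    obtain ⟨t, ht, hta⟩ := h.exists_t (-a)
    have h1 := h.comm_elt hta 0 1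
    have h2 : E a 0 = ⁅E 0 1, t⁆ := by
      rw [commutatorElement_def, h1]; congr 1; ring
    rw [h2]
    exact Subgroup.commutator_mem_commutator (h.mem _ _) ht

theorem Co.card_V [Finite F] (h : Co F V L T E ρ) : Nat.card V = Nat.card F * Nat.card F := by
  let f : F × F → ↥V := fun x => ⟨E x.1 x.2, h.mem _ _⟩
  have hf : Function.Bijective f := by
    constructor
    · rintro ⟨a, b⟩ ⟨a', b'⟩ e
      obtain ⟨e1, e2⟩ := h.inj (congrArg Subtype.val e)
      simp only at e1 e2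
      rw [e1, e2]
    · rintro ⟨v, hv⟩
      obtain ⟨a, b, rfl⟩ := h.surj v hv
      exact ⟨(a, b), rfl⟩
  rw [← Nat.card_congr (Equiv.ofBijective f hf), Nat.card_prod]

theorem Co.card_Z [Finite F] (h : Co F V L T E ρ) : Nat.card ↥(V ⊓ Subgroup.centralizer (T : Set G)) = Nat.card F := by
  let f : F → ↥(V ⊓ Subgroup.centralizer (T : Set G)) := fun a => ⟨E a 0, h.mem_Z.2 ⟨a, rfl⟩⟩
  have hf : Function.Bijective f := by
    constructor
    · intro a a' e
      exact (h.inj (congrArg Subtype.val e)).1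
    · rintro ⟨v, hv⟩
      obtain ⟨a, rfl⟩ := h.mem_Z.1 hv
      exact ⟨a, rfl⟩
  rw [← Nat.card_congr (Equiv.ofBijective f hf)]

end co

theorem charP_of_card {F : Type*} [Field F] [Fintype F] {p n : ℕ} [hp : Fact p.Prime] (hF : Fintype.card F = p ^ n) : CharP F p := by
  obtain ⟨q, hq⟩ := CharP.exists F
  haveI := hq
  obtain ⟨m, hqp, hm⟩ := FiniteField.card F q
  rw [hm] at hF
  have h1 : q ∣ p ^ n := by rw [← hF]; exact dvd_pow_self q m.pos.ne'
  have h2 := (Nat.prime_dvd_prime_iff_eq hqp hp.out).1 (hqp.dvd_of_dvd_pow h1)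
  rw [← h2]; exact hq

theorem s2779 {G : Type*} [Group G] [Finite G] {p : ℕ} [Fact p.Prime] {F : Type*} [Field F] [Fintype F] (n : ℕ) (hF : Fintype.card F = p ^ n) (V L : Subgroup G) (hnat : Cfsg.IsNaturalSL2Module F V L) (hf : L ⊓ Subgroup.centralizer (V : Set G) = ⊥) (S : Sylow p ↥L) (T : Subgroup G) (hT : T = ((S : Subgroup ↥L).map L.subtype)) : ⁅⁅V, T⁆, T⁆ = ⊥ ∧ Nat.card V = p ^ (2 * n) ∧ Nat.card ↥(V ⊓ Subgroup.centralizer ((T : Subgroup G) : Set G)) = p ^ n ∧ ∀ s ∈ T, s ≠ 1 → (V ⊓ Subgroup.centralizer ({s} : Set G)) = (V ⊓ Subgroup.centralizer ((T : Subgroup G) : Set G)) ∧ ⁅V, T⁆ = (V ⊓ Subgroup.centralizer ((T : Subgroup G) : Set G)) ∧ ⁅V, Subgroup.zpowers s⁆ = (V ⊓ Subgroup.centralizer ((T : Subgroup G) : Set G)) ∧ ∀ v ∈ V, v ∉ Subgroup.centralizer (T : Set G) → Subgroup.closure {x : G | ∃ t ∈ T, x = v * t * v⁻¹ * t⁻¹} = (V ⊓ Subgroup.centralizer ((T : Subgroup G) : Set G)) := by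
  haveI := charP_of_card hF
  subst hT
  obtain ⟨E, ρ, h⟩ := exists_co hnat hf S
  set T := ((S : Subgroup ↥L).map L.subtype) with hT
  have hcF : Nat.card F = p ^ n := by rw [Nat.card_eq_fintype_card, hF]
  refine ⟨?_, ?_, ?_, ?_⟩
  · rw [h.commutator, Subgroup.commutator_eq_bot_iff_le_centralizer]
    exact inf_le_right
  · rw [h.card_V, hcF]; ring
  · rw [h.card_Z, hcF]
  · intro s hs hs1
    obtain ⟨c, hc0, hc⟩ := h.t_act hs
    have hc1 : c ≠ 0 := fun h0 => hs1 (hc0 h0)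
    refine ⟨?_, h.commutator, ?_, ?_⟩
    · apply le_antisymm
      · rintro x ⟨hx, hxc⟩
        obtain ⟨a, b, rfl⟩ := h.surj x hx
        have h1 := Subgroup.mem_centralizer_iff.1 hxc s rfl
        have h2 := hc a b
        rw [h1, mul_inv_cancel_right] at h2
        have h3 := (h.inj h2).1
        have h4 : c * b = 0 := by linear_combination -h3
        have hb : b = 0 := (mul_eq_zero.1 h4).resolve_left hc1
        rw [hb]; exact h.mem_Z.2 ⟨_, rfl⟩
      · exact inf_le_inf_left _ (Subgroup.centralizer_le (by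
          rintro _ rfl; exact hs))
    · apply le_antisymm
      · rw [← h.commutator]
        exact Subgroup.commutator_mono le_rfl (by rw [Subgroup.zpowers_le]; exact hs)
      · intro x hx
        obtain ⟨a, rfl⟩ := h.mem_Z.1 hx
        have h1 := h.comm_elt hc 0 (-a / c)
        have h2 : E a 0 = ⁅E 0 (-a / c), s⁆ := by
          rw [commutatorElement_def, h1]; congr 1; field_simp
        rw [h2]
        exact Subgroup.commutator_mem_commutator (h.mem _ _) (Subgroup.mem_zpowers s)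
    · intro v hv hvc
      obtain ⟨a, b, rfl⟩ := h.surj v hv
      have hb : b ≠ 0 := by
        rintro rfl
        exact hvc (h.mem_Z.2 ⟨a, rfl⟩).2
      apply le_antisymm
      · rw [Subgroup.closure_le]
        rintro _ ⟨t, ht, rfl⟩
        obtain ⟨c', -, hc'⟩ := h.t_act ht
        rw [h.comm_elt hc']
        exact h.mem_Z.2 ⟨_, rfl⟩
      · intro x hx
        obtain ⟨a', rfl⟩ := h.mem_Z.1 hx
        obtain ⟨t, ht, hta⟩ := h.exists_t (-a' / b)
        apply Subgroup.subset_closure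
        refine ⟨t, ht, ?_⟩
        rw [h.comm_elt hta]
        congr 1; field_simp

/-- the diagonal elements -/
theorem Co.exists_d {V L T : Subgroup G} {E : F → F → G} {ρ : ↥L ≃* Matrix.SpecialLinearGroup (Fin 2) F} (h : Co F V L T E ρ) {m : Matrix.SpecialLinearGroup (Fin 2) F} (hm : m 1 0 = 0) :
    ∃ l ∈ L ⊓ Subgroup.normalizer (T : Set G), ∀ a b, l * E a b * l⁻¹ = E (m 0 0 * a + m 0 1 * b) (m 1 1 * b) := by
  obtain ⟨l, rfl⟩ := ρ.surjective m
  refine ⟨l, ⟨l.2, ?_⟩, ?_⟩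
  · have hB : (B0 : Subgroup (Matrix.SpecialLinearGroup (Fin 2) F)).comap ρ.toMonoidHom ≤ normalizer (((P0 : Subgroup (Matrix.SpecialLinearGroup (Fin 2) F)).comap ρ.toMonoidHom : Subgroup ↥L) : Set ↥L) := by
      rw [CfsgLib.LE.le_normalizer_iff]
      intro k hk x hx
      change ρ (k * x * k⁻¹) ∈ (P0 : Subgroup (Matrix.SpecialLinearGroup (Fin 2) F))
      rw [map_mul, map_mul, map_inv]
      have hk' : ρ k 1 0 = 0 := hk
      have hx' : ρ x ∈ (P0 : Subgroup (Matrix.SpecialLinearGroup (Fin 2) F)) := hx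
      obtain ⟨x1, x2⟩ := hx'
      have dk := det_eq (ρ k)
      have dx := det_eq (ρ x)
      rw [hk'] at dk
      rw [x1, x2] at dx
      have x3 : ρ x 1 1 = 1 := by linear_combination dx
      refine ⟨?_, ?_⟩
      · rw [mul00, mul00, mul01, inv00, inv10, hk', x1, x2]
        linear_combination dk
      · rw [mul10, mul10, mul11, inv00, inv10, hk', x2]
        ring
    have h1 : l ∈ normalizer (((P0 : Subgroup (Matrix.SpecialLinearGroup (Fin 2) F)).comap ρ.toMonoidHom : Subgroup ↥L) : Set ↥L) := hB hm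
    rw [mem_normalizer_iff_map_conj] at h1
    have h2 : T = ((P0 : Subgroup (Matrix.SpecialLinearGroup (Fin 2) F)).comap ρ.toMonoidHom).map L.subtype := by
      ext x
      constructor
      · intro hx
        exact ⟨⟨x, h.tL hx⟩, (h.t ⟨x, h.tL hx⟩).1 hx, rfl⟩
      · rintro ⟨y, hy, rfl⟩
        exact (h.t y).2 hy
    change (l : G) ∈ normalizer (T : Set G)
    rw [mem_normalizer_iff_map_conj, h2]
    conv_rhs => rw [← h1]
    rw [Subgroup.map_map, Subgroup.map_map]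
    rfl
  · intro a b
    rw [h.act, hm]
    congr 1; ring

theorem s2780 {G : Type*} [Group G] [Finite G] {p : ℕ} [Fact p.Prime] {F : Type*} [Field F] [Fintype F] (n : ℕ) (hF : Fintype.card F = p ^ n) (V L : Subgroup G) (hnat : Cfsg.IsNaturalSL2Module F V L) (hf : L ⊓ Subgroup.centralizer (V : Set G) = ⊥) (S : Sylow p ↥L) (T : Subgroup G) (hT : T = ((S : Subgroup ↥L).map L.subtype)) : (∀ g ∈ L, g ∉ Subgroup.normalizer (T : Set G) → Cfsg.IsInternalDirectProduct (V ⊓ Subgroup.centralizer ((T : Subgroup G) : Set G)) (V ⊓ Subgroup.centralizer ((T.map (MulAut.conj g).toMonoidHom : Subgroup G) : Set G)) V) ∧ (∀ x ∈ L, x ≠ 1 → (orderOf x).Coprime p → (V ⊓ Subgroup.centralizer ({x} : Set G)) = ⊥) ∧ (∀ U : Subgroup G, U ≤ (V ⊓ Subgroup.centralizer ((T : Subgroup G) : Set G)) → L ⊓ Subgroup.normalizer (T : Set G) ≤ Subgroup.normalizer (U : Set G) → U = ⊥ ∨ U = (V ⊓ Subgroup.centralizer ((T : Subgroup G) : Set G))) ∧ (∀ U : Subgroup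 G, (V ⊓ Subgroup.centralizer ((T : Subgroup G) : Set G)) ≤ U → U ≤ V → L ⊓ Subgroup.normalizer (T : Set G) ≤ Subgroup.normalizer (U : Set G) → U = (V ⊓ Subgroup.centralizer ((T : Subgroup G) : Set G)) ∨ U = V) := by
  haveI := charP_of_card hF
  subst hT
  obtain ⟨E, ρ, h⟩ := exists_co hnat hf S
  set T := ((S : Subgroup ↥L).map L.subtype) with hT
  refine ⟨?_, ?_, ?_, ?_⟩
  · intro g hg hgN
    obtain ⟨l, hl⟩ : ∃ l : ↥L, (l : G) = g := ⟨⟨g, hg⟩, rfl⟩
    subst hl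
    have hm : ρ l 1 0 ≠ 0 := by
      intro h0
      obtain ⟨l', hl', -⟩ := h.exists_d h0
      apply hgN
      have hB := (h.exists_d h0)
      -- the element itself normalises
      obtain ⟨k, ⟨hkL, hkN⟩, hk⟩ := hB
      have : (⟨k, hkL⟩ : ↥L) = l := by
        apply ρ.injective
        have e : ∀ a b, E (ρ ⟨k, hkL⟩ 0 0 * a + ρ ⟨k, hkL⟩ 0 1 * b) (ρ ⟨k, hkL⟩ 1 0 * a + ρ ⟨k, hkL⟩ 1 1 * b) = E (ρ l 0 0 * a + ρ l 0 1 * b) (ρ l 1 1 * b) := by
          intro a b
          rw [← h.act ⟨k, hkL⟩ a b]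
          exact hk a b
        obtain ⟨e1, e2⟩ := h.inj (e 1 0)
        obtain ⟨e3, e4⟩ := h.inj (e 0 1)
        simp only [mul_one, mul_zero, add_zero, zero_add] at e1 e2 e3 e4
        exact ext2 e1 e3 (e2.trans h0.symm) e4
      rw [← this]; exact hkN
    have hZg : ∀ x, x ∈ V ⊓ Subgroup.centralizer ((T.map (MulAut.conj (l : G)).toMonoidHom : Subgroup G) : Set G) ↔ ∃ a, x = E (ρ l 0 0 * a) (ρ l 1 0 * a) := by
      intro x
      have hlV : ∀ v, v ∈ V ↔ (l : G) * v * (l : G)⁻¹ ∈ V := by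
        intro v
        constructor
        · intro hv
          obtain ⟨a, b, rfl⟩ := h.surj v hv
          rw [h.act]; exact h.mem _ _
        · intro hv
          obtain ⟨a, b, hab⟩ := h.surj _ hv
          have h1 : v = ((l⁻¹ : ↥L) : G) * E a b * ((l⁻¹ : ↥L) : G)⁻¹ := by
            rw [← hab]
            change v = (l : G)⁻¹ * ((l : G) * v * (l : G)⁻¹) * (l : G)⁻¹⁻¹
            group
          rw [h1, h.act]; exact h.mem _ _
      have h1 : x ∈ V ⊓ Subgroup.centralizer ((T.map (MulAut.conj (l : G)).toMonoidHom : Subgroup G) : Set G) ↔ (l : G)⁻¹ * x * l ∈ V ⊓ Subgroup.centralizer ((T : Subgroup G) : Set G) := by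
        rw [Subgroup.mem_inf, Subgroup.mem_inf]
        have a1 : x ∈ V ↔ (l : G)⁻¹ * x * l ∈ V := by
          rw [hlV ((l : G)⁻¹ * x * l)]
          have : (l : G) * ((l : G)⁻¹ * x * l) * (l : G)⁻¹ = x := by group
          rw [this]
        rw [a1]
        have a2 : x ∈ Subgroup.centralizer ((T.map (MulAut.conj (l : G)).toMonoidHom : Subgroup G) : Set G) ↔ (l : G)⁻¹ * x * l ∈ Subgroup.centralizer ((T : Subgroup G) : Set G) := by
          rw [centralizer_map_conj, map_conj_mem]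
        rw [a2]
      rw [h1, h.mem_Z]
      constructor
      · rintro ⟨a, ha⟩
        refine ⟨a, ?_⟩
        have h2 := h.act l a 0
        rw [← ha] at h2
        have h3 : (l : G) * ((l : G)⁻¹ * x * l) * (l : G)⁻¹ = x := by group
        rw [h3] at h2
        rw [h2]; congr 1 <;> ring
      · rintro ⟨a, rfl⟩
        refine ⟨a, ?_⟩
        have h2 := h.act l a 0
        have h3 : E (ρ l 0 0 * a) (ρ l 1 0 * a) = (l : G) * E a 0 * (l : G)⁻¹ := by
          rw [h2]; congr 1 <;> ring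
        rw [h3]; group
    refine ⟨inf_le_left, inf_le_left, ?_, ?_, ?_⟩
    · intro a ha b hb
      exact h.comm ha.1 hb.1
    · rw [eq_bot_iff]
      rintro x ⟨hx1, hx2⟩
      obtain ⟨a, rfl⟩ := h.mem_Z.1 hx1
      obtain ⟨a', ha'⟩ := (hZg _).1 hx2
      obtain ⟨e1, e2⟩ := h.inj ha'
      have h3 : a' = 0 := (mul_eq_zero.1 e2.symm).resolve_left hm
      rw [h3, mul_zero] at e1
      rw [Subgroup.mem_bot, e1, h.zero]
    · apply le_antisymm (sup_le inf_le_left inf_le_left)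
      intro x hx
      obtain ⟨a, b, rfl⟩ := h.surj x hx
      have h3 : E a b = E (a - ρ l 0 0 * (b / ρ l 1 0)) 0 * E (ρ l 0 0 * (b / ρ l 1 0)) (ρ l 1 0 * (b / ρ l 1 0)) := by
        rw [h.mul]
        congr 1
        · ring
        · field_simp
          ring
      rw [h3]
      exact Subgroup.mul_mem _ (Subgroup.mem_sup_left (h.mem_Z.2 ⟨_, rfl⟩)) (Subgroup.mem_sup_right ((hZg _).2 ⟨_, rfl⟩))
  · intro x hx hx1 hco
    rw [eq_bot_iff]
    rintro v ⟨hv, hvc⟩
    obtain ⟨a, b, rfl⟩ := h.surj v hv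
    rw [Subgroup.mem_bot]
    by_contra hne
    apply hx1
    have hab : a ≠ 0 ∨ b ≠ 0 := by
      by_contra hcon
      push Not at hcon
      exact hne (by rw [hcon.1, hcon.2, h.zero])
    have h1 := Subgroup.mem_centralizer_iff.1 hvc x rfl
    have h2 := h.act ⟨x, hx⟩ a b
    change x * E a b * x⁻¹ = _ at h2
    rw [h1, mul_inv_cancel_right] at h2
    obtain ⟨e1, e2⟩ := h.inj h2
    obtain ⟨g, hg0, hg1⟩ := exists_first hab
    set m := ρ ⟨x, hx⟩ with hmdef
    have dg := det_eq g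
    have hP : g⁻¹ * m * g ∈ (P0 : Subgroup (Matrix.SpecialLinearGroup (Fin 2) F)) := by
      rw [← hg0, ← hg1] at e1 e2
      refine ⟨?_, ?_⟩
      · rw [mul00, mul00, mul01, inv00, inv01]
        linear_combination (-(g 1 1)) * e1 + (g 0 1) * e2 + dg
      · rw [mul10, mul10, mul11, inv10, inv11]
        linear_combination (g 1 0) * e1 - (g 0 0) * e2
    have h3 : (g⁻¹ * m * g) ^ p = 1 := by
      rw [P0_eq hP, su_pow, CharP.cast_eq_zero, zero_mul, su_zero]
    have h4 : m ^ p = 1 := by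
      have h5 : (g⁻¹ * m * g) ^ p = g⁻¹ * m ^ p * g := by
        have := conj_pow (i := p) (a := g⁻¹) (b := m)
        rw [inv_inv] at this
        exact this
      rw [h5] at h3
      have h6 : m ^ p = g * (g⁻¹ * m ^ p * g) * g⁻¹ := by group
      rw [h6, h3]; group
    have h5 : (⟨x, hx⟩ : ↥L) ^ p = 1 := by
      apply ρ.injective
      rw [map_pow, map_one, ← hmdef, h4]
    have h6 : x ^ p = 1 := congrArg Subtype.val h5
    have h7 := orderOf_dvd_of_pow_eq_one h6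
    have h8 : orderOf x = 1 := Nat.Coprime.eq_one_of_dvd hco h7
    exact orderOf_eq_one_iff.1 h8
  · intro U hU hN
    by_cases hU1 : U = ⊥
    · exact Or.inl hU1
    right
    apply le_antisymm hU
    obtain ⟨⟨u, hu⟩, hu1⟩ := Subgroup.ne_bot_iff_exists_ne_one.1 hU1
    obtain ⟨a, rfl⟩ := h.mem_Z.1 (hU hu)
    have ha : a ≠ 0 := by
      rintro rfl
      exact hu1 (Subtype.ext h.zero)
    intro x hx
    obtain ⟨c, rfl⟩ := h.mem_Z.1 hx
    by_cases hc : c = 0
    · rw [hc, h.zero]; exact U.one_mem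
    let m : Matrix.SpecialLinearGroup (Fin 2) F := ⟨!![c / a, 0; 0, a / c], by rw [Matrix.det_fin_two_of]; field_simp; ring⟩
    obtain ⟨l, hl, hla⟩ := h.exists_d (m := m) rfl
    have h1 := (Subgroup.mem_normalizer_iff.1 (hN hl) _).1 hu
    rw [hla] at h1
    have m00 : m 0 0 = c / a := rfl
    have m01 : m 0 1 = 0 := rfl
    rw [m00, m01, mul_zero, mul_zero, add_zero, div_mul_cancel₀ _ ha] at h1
    exact h1
  · intro U hZU hUV hN
    by_cases hU1 : U ≤ V ⊓ Subgroup.centralizer ((T : Subgroup G) : Set G)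
    · exact Or.inl (le_antisymm hU1 hZU)
    right
    apply le_antisymm hUV
    rw [SetLike.not_le_iff_exists] at hU1
    obtain ⟨u, hu, huZ⟩ := hU1
    obtain ⟨a, b, rfl⟩ := h.surj u (hUV hu)
    have hb : b ≠ 0 := by
      rintro rfl
      exact huZ (h.mem_Z.2 ⟨_, rfl⟩)
    intro x hx
    obtain ⟨c, d, rfl⟩ := h.surj x hx
    by_cases hd : d = 0
    · rw [hd]; exact hZU (h.mem_Z.2 ⟨_, rfl⟩)
    let m : Matrix.SpecialLinearGroup (Fin 2) F := ⟨!![b / d, 0; 0, d / b], by rw [Matrix.det_fin_two_of]; field_simp; ring⟩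
    obtain ⟨l, hl, hla⟩ := h.exists_d (m := m) rfl
    have h1 := (Subgroup.mem_normalizer_iff.1 (hN hl) _).1 hu
    rw [hla] at h1
    have m11 : m 1 1 = d / b := rfl
    have m01 : m 0 1 = 0 := rfl
    rw [m11, m01, div_mul_cancel₀ _ hb] at h1
    have h2 : E c d = E (c - (m 0 0 * a + 0 * b)) 0 * E (m 0 0 * a + 0 * b) d := by
      rw [h.mul]; congr 1 <;> ring
    rw [h2]
    exact U.mul_mem (hZU (h.mem_Z.2 ⟨_, rfl⟩)) h1

end CfsgLib.KNat
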