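import Cfsg.Agent.LibKQd
import Cfsg.Agent.LibKD2

/-! The affine group `Qd(p)`, continued (seat helper10). -/

set_option autoImplicit false
set_option linter.all false

namespace CfsgLib.KQd

open Subgroup Cfsg Matrix CfsgLib.Dick9

variable {F : Type*} [Field F]

theorem el_bij : Function.Bijective (fun t : Matrix.SpecialLinearGroup (Fin 2) F × (F × F) => el t.1 t.2.1 t.2.2) := by
  constructor
  · rintro ⟨m, u, v⟩ ⟨m', u', v'⟩ h
    obtain ⟨h1, h2, h3⟩ := el_inj h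
    simp only at h1 h2 h3
    rw [h1, h2, h3]
  · intro M
    obtain ⟨m, u, v, rfl⟩ := el_surj M
    exact ⟨(m, u, v), rfl⟩

theorem card_qd : Nat.card ↥(qdOver F) = Nat.card (Matrix.SpecialLinearGroup (Fin 2) F) * (Nat.card F * Nat.card F) := by
  rw [← Nat.card_congr (Equiv.ofBijective _ (el_bij (F := F))), Nat.card_prod, Nat.card_prod]

theorem card_sl2_two : Nat.card (Matrix.SpecialLinearGroup (Fin 2) (ZMod 2)) = 6 := by
  rw [Nat.card_eq_fintype_card]
  decide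

theorem s2761 : Nonempty (↥(Cfsg.qd 2) ≃* Equiv.Perm (Fin 4)) := by
  have hq : Cfsg.qd 2 = Cfsg.qdOver (ZMod 2) := rfl
  rw [hq]
  let y : Matrix.SpecialLinearGroup (Fin 2) (ZMod 2) := ⟨!![0, 1; 1, 1], by decide⟩
  let x : Matrix.SpecialLinearGroup (Fin 2) (ZMod 2) := ⟨!![1, 1; 0, 1], by decide⟩
  have hc : ∀ (m : Matrix.SpecialLinearGroup (Fin 2) (ZMod 2)) (a b : ZMod 2), sc m * el 1 a b * (sc m)⁻¹ = el 1 (m 0 0 * a + m 0 1 * b) (m 1 0 * a + m 1 1 * b) := fun m a b => el_conj m 0 0 a b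
  have h := CfsgLib.KD2.involves_S4 (V := (pr : ↥(qdOver (ZMod 2)) →* Matrix.SpecialLinearGroup (Fin 2) (ZMod 2)).ker)
    (J := (sc : Matrix.SpecialLinearGroup (Fin 2) (ZMod 2) →* ↥(qdOver (ZMod 2))).range) (v1 := el 1 1 0) (v2 := el 1 0 1) (v3 := el 1 1 1)
    (x := sc x) (y := sc y) (by rw [Subgroup.normalizer_eq_top]; exact le_top) (by
      rw [eq_bot_iff]
      rintro _ ⟨h, ⟨m, rfl⟩⟩
      have h1 : m = 1 := (pr_el m 0 0).symm.trans h
      rw [Subgroup.mem_bot, h1, map_one]) (mem_ker.2 ⟨_, _, rfl⟩) (mem_ker.2 ⟨_, _, rfl⟩) (mem_ker.2 ⟨_, _, rfl⟩) ⟨x, rfl⟩ ⟨y, rfl⟩ (by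
      intro v hv
      obtain ⟨a, b, rfl⟩ := mem_ker.1 hv
      have hz : ∀ c : ZMod 2, c = 0 ∨ c = 1 := by decide
      rcases hz a with rfl | rfl <;> rcases hz b with rfl | rfl
      · left; exact el_one
      · right; right; left; rfl
      · right; left; rfl
      · right; right; right; rfl) (by
        intro h
        rw [← el_one] at h
        exact absurd (el_inj h).2.1 (by decide)) (by
        intro h
        exact absurd (el_inj h).2.1 (by decide)) (by
        rw [el1_mul, ← el_one]; congr 1) (by rw [el1_mul]; congr 1) (by rw [el1_mul]; congr 1)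
        (by rw [hc]; congr 1) (by rw [hc]; congr 1) (by rw [hc]; congr 1) (by rw [hc]; congr 1) (by rw [hc]; congr 1) (by rw [hc]; congr 1)
  obtain ⟨K, f, hf⟩ := CfsgLib.Fus21.involves_iff.1 h
  have h24 : Nat.card ↥(qdOver (ZMod 2)) = 24 := by
    rw [card_qd, card_sl2_two, Nat.card_zmod]
  have hK1 : 24 ≤ Nat.card K := by
    have := Nat.card_le_card_of_surjective f hf
    rw [Nat.card_eq_fintype_card, Fintype.card_perm] at this
    exact this
  have hK : K = ⊤ := by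
    apply Subgroup.eq_top_of_le_card
    rw [h24]; exact hK1
  subst hK
  have hb : Function.Bijective f := by
    apply hf.bijective_of_nat_card_le
    rw [Nat.card_eq_fintype_card (α := Equiv.Perm (Fin 4)), Fintype.card_perm, Nat.card_congr Subgroup.topEquiv.toEquiv, h24]
    rfl
  exact ⟨Subgroup.topEquiv.symm.trans (MulEquiv.ofBijective f hb)⟩

/-! ### Sylow subgroups -/

/-- upper triangular matrices -/
def B0 : Subgroup (Matrix.SpecialLinearGroup (Fin 2) F) where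
  carrier := {m | m 1 0 = 0}
  mul_mem' := by
    intro a b ha hb
    rw [Set.mem_setOf_eq] at ha hb ⊢
    rw [mul10, ha, hb]; ring
  one_mem' := one10
  inv_mem' := by
    intro a ha
    rw [Set.mem_setOf_eq] at ha ⊢
    rw [inv10, ha, neg_zero]

theorem mem_B0 {m : Matrix.SpecialLinearGroup (Fin 2) F} : m ∈ (B0 : Subgroup (Matrix.SpecialLinearGroup (Fin 2) F)) ↔ m 1 0 = 0 := Iff.rfl

/-- upper unitriangular matrices -/
def P0 : Subgroup (Matrix.SpecialLinearGroup (Fin 2) F) where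
  carrier := {m | m 0 0 = 1 ∧ m 1 0 = 0}
  mul_mem' := by
    rintro a b ⟨ha, ha'⟩ ⟨hb, hb'⟩
    refine ⟨?_, ?_⟩
    · rw [mul00, ha, hb, hb']; ring
    · rw [mul10, ha', hb']; ring
  one_mem' := ⟨one00, one10⟩
  inv_mem' := by
    rintro a ⟨ha, ha'⟩
    have d := det_eq a
    rw [ha, ha'] at d
    refine ⟨?_, ?_⟩
    · rw [inv00]; linear_combination d
    · rw [inv10, ha', neg_zero]

theorem mem_P0 {m : Matrix.SpecialLinearGroup (Fin 2) F} : m ∈ (P0 : Subgroup (Matrix.SpecialLinearGroup (Fin 2) F)) ↔ m 0 0 = 1 ∧ m 1 0 = 0 := Iff.rfl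

theorem P0_eq {m : Matrix.SpecialLinearGroup (Fin 2) F} (h : m ∈ (P0 : Subgroup (Matrix.SpecialLinearGroup (Fin 2) F))) : m = su (m 0 1) := by
  obtain ⟨h1, h2⟩ := h
  have d := det_eq m
  rw [h1, h2] at d
  have h11 : m 1 1 = 1 := by linear_combination d
  refine ext2 ?_ ?_ ?_ ?_
  · rw [h1]; rfl
  · rfl
  · rw [h2]; rfl
  · rw [h11]; rfl

theorem su_mem (a : F) : su a ∈ (P0 : Subgroup (Matrix.SpecialLinearGroup (Fin 2) F)) := ⟨rfl, rfl⟩

theorem su_mul' (a b : F) : (su a * su b : Matrix.SpecialLinearGroup (Fin 2) F) = su (a + b) := by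
  have h00 : ∀ c : F, (su c : Matrix.SpecialLinearGroup (Fin 2) F) 0 0 = 1 := fun _ => rfl
  have h01 : ∀ c : F, (su c : Matrix.SpecialLinearGroup (Fin 2) F) 0 1 = c := fun _ => rfl
  have h10 : ∀ c : F, (su c : Matrix.SpecialLinearGroup (Fin 2) F) 1 0 = 0 := fun _ => rfl
  have h11 : ∀ c : F, (su c : Matrix.SpecialLinearGroup (Fin 2) F) 1 1 = 1 := fun _ => rfl
  refine ext2 ?_ ?_ ?_ ?_
  · rw [mul00, h00, h00, h01, h10, h00]; ring
  · rw [mul01, h00, h01, h01, h11, h01]; ring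
  · rw [mul10, h10, h00, h11, h10, h10]; ring
  · rw [mul11, h10, h01, h11, h11, h11]; ring

/-- the standard Sylow subgroup -/
noncomputable def S0 : Subgroup ↥(qdOver F) := (P0 : Subgroup (Matrix.SpecialLinearGroup (Fin 2) F)).comap pr

theorem mem_S0 {M : ↥(qdOver F)} : M ∈ (S0 : Subgroup ↥(qdOver F)) ↔ ∃ a u v, M = el (su a) u v := by
  constructor
  · intro h
    obtain ⟨m, u, v, rfl⟩ := el_surj M
    have h1 : m ∈ (P0 : Subgroup (Matrix.SpecialLinearGroup (Fin 2) F)) := by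
      have : pr (el m u v) ∈ (P0 : Subgroup (Matrix.SpecialLinearGroup (Fin 2) F)) := h
      rwa [pr_el] at this
    exact ⟨m 0 1, u, v, by rw [← P0_eq h1]⟩
  · rintro ⟨a, u, v, rfl⟩
    change pr (el (su a) u v) ∈ (P0 : Subgroup (Matrix.SpecialLinearGroup (Fin 2) F))
    rw [pr_el]; exact su_mem a

theorem S0_mul (a u v a' u' v' : F) : el (su a) u v * el (su a') u' v' = el (su (a + a')) (u + u' + a * v') (v + v') := by
  have h00 : (su a : Matrix.SpecialLinearGroup (Fin 2) F) 0 0 = 1 := rfl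
  have h01 : (su a : Matrix.SpecialLinearGroup (Fin 2) F) 0 1 = a := rfl
  have h10 : (su a : Matrix.SpecialLinearGroup (Fin 2) F) 1 0 = 0 := rfl
  have h11 : (su a : Matrix.SpecialLinearGroup (Fin 2) F) 1 1 = 1 := rfl
  rw [el_mul, su_mul', h00, h01, h10, h11]
  congr 1 <;> ring

section fin
variable {p : ℕ} [hp : Fact p.Prime] [CharP F p] [Finite F]

theorem P0_pGroup : IsPGroup p ↥(P0 : Subgroup (Matrix.SpecialLinearGroup (Fin 2) F)) := by
  rintro ⟨m, hm⟩
  refine ⟨1, Subtype.ext ?_⟩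
  change m ^ p ^ 1 = 1
  rw [P0_eq hm, pow_one]
  have key : ∀ n : ℕ, (su (m 0 1) : Matrix.SpecialLinearGroup (Fin 2) F) ^ n = su (n * m 0 1) := by
    intro n
    induction n with
    | zero =>
      rw [pow_zero, Nat.cast_zero, zero_mul]
      exact ext2 one00 one01 one10 one11
    | succ n ih => rw [pow_succ, ih, su_mul']; congr 1; push_cast; ring
  rw [key, CharP.cast_eq_zero, zero_mul]
  exact (ext2 one00 one01 one10 one11).symm

theorem S0_pGroup : IsPGroup p ↥(S0 : Subgroup ↥(qdOver F)) := by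
  intro x
  obtain ⟨k, hk⟩ := (P0_pGroup (F := F) (p := p)) ⟨pr x.1, x.2⟩
  have hk' : pr x.1 ^ p ^ k = 1 := congrArg Subtype.val hk
  have h1 : x.1 ^ p ^ k ∈ (pr : ↥(qdOver F) →* Matrix.SpecialLinearGroup (Fin 2) F).ker := by
    rw [MonoidHom.mem_ker, map_pow, hk']
  obtain ⟨l, hl⟩ := (ker_pGroup (F := F) (p := p)) ⟨_, h1⟩
  refine ⟨k + l, Subtype.ext ?_⟩
  change x.1 ^ p ^ (k + l) = 1
  rw [pow_add, pow_mul]
  exact congrArg Subtype.val hl

theorem S0_max (Q : Subgroup ↥(qdOver F)) (hQ : IsPGroup p ↥Q) (h : (S0 : Subgroup ↥(qdOver F)) ≤ Q) : Q = S0 := by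
  apply le_antisymm _ h
  obtain ⟨a, b, hab, hfix⟩ := sl2_fixed (F := F) (p := p) (N := Q.map pr) (hQ.map _)
  have h1 := (hfix (su 1) ⟨el (su 1) 0 0, h (mem_S0.2 ⟨_, _, _, rfl⟩), pr_el _ _ _⟩).1
  have h00 : (su 1 : Matrix.SpecialLinearGroup (Fin 2) F) 0 0 = 1 := rfl
  have h01 : (su 1 : Matrix.SpecialLinearGroup (Fin 2) F) 0 1 = 1 := rfl
  rw [h00, h01] at h1
  have hb : b = 0 := by linear_combination h1
  have ha : a ≠ 0 := hab.resolve_right (not_not.2 hb)
  intro x hx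
  obtain ⟨e1, e2⟩ := hfix (pr x) ⟨x, hx, rfl⟩
  rw [hb] at e1 e2
  refine ⟨?_, ?_⟩
  · apply mul_right_cancel₀ ha
    linear_combination e1
  · apply mul_right_cancel₀ ha
    linear_combination e2

/-- the standard Sylow subgroup -/
noncomputable def Sy0 : Sylow p ↥(qdOver F) := ⟨S0, S0_pGroup, fun {Q} hQ h => S0_max Q hQ h⟩

theorem Sy0_coe : ((Sy0 : Sylow p ↥(qdOver F)) : Subgroup ↥(qdOver F)) = S0 := rfl

theorem S0_not_normal (p : ℕ) [hp : Fact p.Prime] [CharP F p] [Finite F] : ¬ (S0 : Subgroup ↥(qdOver F)).Normal := by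
  intro h
  have h1 : (S0 : Subgroup ↥(qdOver F)) ≤ pCore p ↥(qdOver F) := le_sSup ⟨h, S0_pGroup⟩
  rw [pCore_eq (p := p)] at h1
  have h2 : el (su 1) 0 0 ∈ (pr : ↥(qdOver F) →* Matrix.SpecialLinearGroup (Fin 2) F).ker := h1 (mem_S0.2 ⟨_, _, _, rfl⟩)
  rw [MonoidHom.mem_ker, pr_el] at h2
  have h3 : (su 1 : Matrix.SpecialLinearGroup (Fin 2) F) 0 1 = (1 : Matrix.SpecialLinearGroup (Fin 2) F) 0 1 := by rw [h2]
  rw [one01] at h3
  exact one_ne_zero h3

omit hp [CharP F p] [Finite F] in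
theorem borel_le : (B0 : Subgroup (Matrix.SpecialLinearGroup (Fin 2) F)).comap pr ≤ normalizer ((S0 : Subgroup ↥(qdOver F)) : Set ↥(qdOver F)) := by
  rw [CfsgLib.LE.le_normalizer_iff]
  intro k hk x hx
  change pr (k * x * k⁻¹) ∈ (P0 : Subgroup (Matrix.SpecialLinearGroup (Fin 2) F))
  rw [map_mul, map_mul, map_inv]
  have hk' : pr k 1 0 = 0 := hk
  have hx' : pr x ∈ (P0 : Subgroup (Matrix.SpecialLinearGroup (Fin 2) F)) := hx
  obtain ⟨x1, x2⟩ := hx'
  have dk := det_eq (pr k)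
  have dx := det_eq (pr x)
  rw [hk'] at dk
  rw [x1, x2] at dx
  have x3 : pr x 1 1 = 1 := by linear_combination dx
  refine ⟨?_, ?_⟩
  · rw [mul00, mul00, mul01, inv00, inv10, hk', x1, x2]
    linear_combination dk
  · rw [mul10, mul10, mul11, inv00, inv10, hk', x2]
    ring

omit hp [CharP F p] [Finite F] in
theorem borel_max {N : Subgroup (Matrix.SpecialLinearGroup (Fin 2) F)} (hN : (B0 : Subgroup (Matrix.SpecialLinearGroup (Fin 2) F)) ≤ N)
    (hne : ¬ N ≤ B0) : N = ⊤ := by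
  rw [SetLike.not_le_iff_exists] at hne
  obtain ⟨n, hn, hnB⟩ := hne
  have hn0 : n 1 0 ≠ 0 := hnB
  rw [eq_top_iff]
  intro m _
  by_cases hm : m 1 0 = 0
  · exact hN hm
  set β := (m 1 0 * n 1 1 - m 1 1 * n 1 0) / (m 1 0 * n 1 0) with hβ
  have s00 : (su β : Matrix.SpecialLinearGroup (Fin 2) F) 0 0 = 1 := rfl
  have s01 : (su β : Matrix.SpecialLinearGroup (Fin 2) F) 0 1 = β := rfl
  have s10 : (su β : Matrix.SpecialLinearGroup (Fin 2) F) 1 0 = 0 := rfl
  have s11 : (su β : Matrix.SpecialLinearGroup (Fin 2) F) 1 1 = 1 := rfl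
  have hb : m * su β * n⁻¹ ∈ (B0 : Subgroup (Matrix.SpecialLinearGroup (Fin 2) F)) := by
    rw [mem_B0, mul10, mul10, mul11, inv00, inv10, s00, s01, s10, s11, hβ]
    field_simp
    ring
  have h1 : m = (m * su β * n⁻¹) * n * (su β)⁻¹ := by group
  rw [h1]
  exact N.mul_mem (N.mul_mem (hN hb) hn) (N.inv_mem (hN (show su β ∈ B0 from rfl)))

omit hp [CharP F p] [Finite F] in
theorem exists_first {a b : F} (hab : a ≠ 0 ∨ b ≠ 0) : ∃ g : Matrix.SpecialLinearGroup (Fin 2) F, g 0 0 = a ∧ g 1 0 = b := by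
  by_cases h0 : a = 0
  · have h1 : b ≠ 0 := hab.resolve_left (not_not.2 h0)
    exact ⟨⟨!![a, -b⁻¹; b, 0], by rw [Matrix.det_fin_two_of]; field_simp; ring⟩, rfl, rfl⟩
  · exact ⟨⟨!![a, 0; b, a⁻¹], by rw [Matrix.det_fin_two_of]; field_simp; ring⟩, rfl, rfl⟩

/-- nontrivial normal subgroups of `V` -/
theorem normal_eq_ker {T : Subgroup ↥(qdOver F)} (hT : T.Normal) (hTp : IsPGroup p ↥T) (hne : T ≠ ⊥) :
    T = (pr : ↥(qdOver F) →* Matrix.SpecialLinearGroup (Fin 2) F).ker := by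
  have hle : T ≤ (pr : ↥(qdOver F) →* Matrix.SpecialLinearGroup (Fin 2) F).ker := by
    rw [← pCore_eq (p := p)]; exact le_sSup ⟨hT, hTp⟩
  apply le_antisymm hle
  obtain ⟨⟨t, ht⟩, ht1⟩ := Subgroup.ne_bot_iff_exists_ne_one.1 hne
  obtain ⟨a, b, rfl⟩ := mem_ker.1 (hle ht)
  have hab : a ≠ 0 ∨ b ≠ 0 := by
    by_contra hcon
    push Not at hcon
    apply ht1
    apply Subtype.ext
    change el 1 a b = 1
    rw [hcon.1, hcon.2, el_one]
  obtain ⟨g, hg0, hg1⟩ := exists_first hab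
  intro x hx
  obtain ⟨c, d, rfl⟩ := mem_ker.1 hx
  by_cases hcd : c = 0 ∧ d = 0
  · rw [hcd.1, hcd.2, el_one]; exact T.one_mem
  · have hcd' : c ≠ 0 ∨ d ≠ 0 := by
      by_contra hcon
      push Not at hcon
      exact hcd hcon
    obtain ⟨h, hh0, hh1⟩ := exists_first hcd'
    have h1 := hT.conj_mem _ ht (el (h * g⁻¹) 0 0)
    rw [el_conj] at h1
    have dg := det_eq g
    have e1 : (h * g⁻¹) 0 0 * a + (h * g⁻¹) 0 1 * b = c := by
      rw [mul00, mul01, inv00, inv01, inv10, inv11, ← hg0, ← hg1, ← hh0]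
      linear_combination (h 0 0) * dg
    have e2 : (h * g⁻¹) 1 0 * a + (h * g⁻¹) 1 1 * b = d := by
      rw [mul10, mul11, inv00, inv01, inv10, inv11, ← hg0, ← hg1, ← hh1]
      linear_combination (h 1 0) * dg
    rw [e1, e2] at h1
    exact h1

omit hp [CharP F p] [Finite F] in
theorem el_su_inj {a u v a' u' v' : F} (h : el (su a) u v = el (su a') u' v') : a = a' ∧ u = u' ∧ v = v' := by
  obtain ⟨h1, h2, h3⟩ := el_inj h
  refine ⟨?_, h2, h3⟩
  have : (su a : Matrix.SpecialLinearGroup (Fin 2) F) 0 1 = (su a' : Matrix.SpecialLinearGroup (Fin 2) F) 0 1 := by rw [h1]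
  exact this

/-- coordinates -/
noncomputable def co (x : ↥(S0 : Subgroup ↥(qdOver F))) : F × F × F :=
  ⟨(mem_S0.1 x.2).choose, (mem_S0.1 x.2).choose_spec.choose, (mem_S0.1 x.2).choose_spec.choose_spec.choose⟩

def mk0 (a u v : F) : ↥(S0 : Subgroup ↥(qdOver F)) := ⟨el (su a) u v, mem_S0.2 ⟨_, _, _, rfl⟩⟩

omit hp [CharP F p] [Finite F] in
theorem mk0_surj (x : ↥(S0 : Subgroup ↥(qdOver F))) : ∃ a u v, x = mk0 a u v := by
  obtain ⟨a, u, v, h⟩ := mem_S0.1 x.2
  exact ⟨a, u, v, Subtype.ext h⟩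

omit hp [CharP F p] [Finite F] in
theorem co_mk0 (a u v : F) : co (mk0 a u v) = (a, u, v) := by
  have h := (mem_S0.1 (mk0 a u v).2).choose_spec.choose_spec.choose_spec
  obtain ⟨h1, h2, h3⟩ := el_su_inj h
  exact Prod.ext h1.symm (Prod.ext h2.symm h3.symm)

omit hp [CharP F p] [Finite F] in
theorem mk0_mul (a u v a' u' v' : F) : (mk0 a u v * mk0 a' u' v' : ↥(S0 : Subgroup ↥(qdOver F))) = mk0 (a + a') (u + u' + a * v') (v + v') :=
  Subtype.ext (S0_mul _ _ _ _ _ _)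

/-- the graph automorphism of the Sylow subgroup -/
noncomputable def phi0 : ↥(S0 : Subgroup ↥(qdOver F)) ≃* ↥(S0 : Subgroup ↥(qdOver F)) where
  toFun x := mk0 (-(co x).2.2) ((co x).1 * (co x).2.2 - (co x).2.1) (-(co x).1)
  invFun x := mk0 (-(co x).2.2) ((co x).1 * (co x).2.2 - (co x).2.1) (-(co x).1)
  left_inv x := by
    obtain ⟨a, u, v, rfl⟩ := mk0_surj x
    simp only [co_mk0]
    congr 1 <;> ring
  right_inv x := by
    obtain ⟨a, u, v, rfl⟩ := mk0_surj x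
    simp only [co_mk0]
    congr 1 <;> ring
  map_mul' x y := by
    obtain ⟨a, u, v, rfl⟩ := mk0_surj x
    obtain ⟨a', u', v', rfl⟩ := mk0_surj y
    simp only [co_mk0, mk0_mul]
    congr 1 <;> ring

omit hp [CharP F p] [Finite F] in
theorem phi0_mk0 (a u v : F) : phi0 (mk0 a u v) = mk0 (-v) (a * v - u) (-a) := by
  change mk0 (-(co (mk0 a u v)).2.2) ((co (mk0 a u v)).1 * (co (mk0 a u v)).2.2 - (co (mk0 a u v)).2.1) (-(co (mk0 a u v)).1) = _
  rw [co_mk0]

theorem main0 (p : ℕ) [hp : Fact p.Prime] [CharP F p] [Finite F] (T : Subgroup ↥(S0 : Subgroup ↥(qdOver F))) (hT : T ≠ ⊥) (hTc : T.Characteristic) :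
    Subgroup.normalizer ((T.map (S0 : Subgroup ↥(qdOver F)).subtype : Subgroup ↥(qdOver F)) : Set ↥(qdOver F)) = Subgroup.normalizer ((S0 : Subgroup ↥(qdOver F)) : Set ↥(qdOver F)) ∧
    Subgroup.normalizer ((S0 : Subgroup ↥(qdOver F)) : Set ↥(qdOver F)) ≠ ⊤ := by
  refine ⟨?_, fun h => S0_not_normal (F := F) p (Subgroup.normalizer_eq_top_iff.1 h)⟩
  have h1 := CfsgLib.LE.normalizer_le_normalizer_map_of_characteristic T hTc
  apply le_antisymm _ h1
  set N := Subgroup.normalizer ((T.map (S0 : Subgroup ↥(qdOver F)).subtype : Subgroup ↥(qdOver F)) : Set ↥(qdOver F)) with hN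
  have hBN : (B0 : Subgroup (Matrix.SpecialLinearGroup (Fin 2) F)).comap pr ≤ N := borel_le.trans h1
  by_cases hNB : N.map pr ≤ (B0 : Subgroup (Matrix.SpecialLinearGroup (Fin 2) F))
  · rw [Subgroup.map_le_iff_le_comap] at hNB
    exact hNB.trans borel_le
  · exfalso
    have h2 : N.map pr = ⊤ := by
      apply borel_max _ hNB
      intro m hm
      exact ⟨el m 0 0, hBN (by rw [Subgroup.mem_comap, pr_el]; exact hm), pr_el _ _ _⟩
    have h3 : N = ⊤ := by
      have hker : (pr : ↥(qdOver F) →* Matrix.SpecialLinearGroup (Fin 2) F).ker ≤ N := by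
        intro x hx
        apply hBN
        rw [Subgroup.mem_comap, MonoidHom.mem_ker.1 hx]
        exact one_mem _
      have h4 := Subgroup.comap_map_eq_self hker
      rw [← h4, h2, Subgroup.comap_top]
    have hTn : (T.map (S0 : Subgroup ↥(qdOver F)).subtype).Normal := Subgroup.normalizer_eq_top_iff.1 h3
    have hTp : IsPGroup p ↥(T.map (S0 : Subgroup ↥(qdOver F)).subtype) := S0_pGroup.to_le (Subgroup.map_subtype_le _)
    have h4 := normal_eq_ker hTn hTp (by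
      intro h
      exact hT ((Subgroup.map_eq_bot_iff_of_injective _ (Subgroup.subtype_injective _)).1 h))
    have hmem : ∀ a u v : F, mk0 a u v ∈ T ↔ a = 0 := by
      intro a u v
      have h5 : mk0 a u v ∈ T ↔ el (su a) u v ∈ T.map (S0 : Subgroup ↥(qdOver F)).subtype := by
        constructor
        · intro h; exact ⟨_, h, rfl⟩
        · rintro ⟨z, hz, h⟩
          have : z = mk0 a u v := Subtype.ext h
          rwa [← this]
      rw [h5, h4, MonoidHom.mem_ker, pr_el]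
      constructor
      · intro h
        have : (su a : Matrix.SpecialLinearGroup (Fin 2) F) 0 1 = (1 : Matrix.SpecialLinearGroup (Fin 2) F) 0 1 := by rw [h]
        rw [one01] at this
        exact this
      · rintro rfl
        exact ext2 one00.symm one01.symm one10.symm one11.symm
    have h5 : mk0 0 0 1 ∈ T := (hmem 0 0 1).2 rfl
    rw [← hTc.fixed phi0] at h5
    have h6 : phi0 (mk0 0 0 1) ∈ T := h5
    rw [phi0_mk0, hmem] at h6
    simp at h6

end fin

theorem characteristic_map_equiv {A B : Type*} [Group A] [Group B] (e : A ≃* B) {T : Subgroup A} (hT : T.Characteristic) :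
    (T.map e.toMonoidHom).Characteristic := by
  rw [Subgroup.characteristic_iff_comap_eq]
  intro φ
  ext b
  rw [Subgroup.mem_comap]
  have h := hT.fixed ((e.trans φ).trans e.symm)
  obtain ⟨a, rfl⟩ := e.surjective b
  have k1 : ∀ x : A, (e.toMonoidHom x ∈ T.map e.toMonoidHom ↔ x ∈ T) := by
    intro x
    constructor
    · rintro ⟨y, hy, h⟩
      have : y = x := e.injective h
      rwa [← this]
    · intro hx; exact ⟨x, hx, rfl⟩
  have k2 : φ.toMonoidHom (e a) = e.toMonoidHom (e.symm (φ (e a))) := (e.apply_symm_apply _).symm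
  rw [k2, k1]
  have k3 : e a = e.toMonoidHom a := rfl
  rw [k3, k1]
  have h2 : a ∈ T.comap ((e.trans φ).trans e.symm).toMonoidHom ↔ a ∈ T := by rw [h]
  exact h2

theorem main1 (p : ℕ) [hp : Fact p.Prime] [CharP F p] [Finite F] (g : ↥(qdOver F)) (A : Subgroup ↥(qdOver F))
    (hA : A = (S0 : Subgroup ↥(qdOver F)).map (MulAut.conj g).toMonoidHom) (T : Subgroup ↥A) (hT : T ≠ ⊥) (hTc : T.Characteristic) :
    Subgroup.normalizer ((T.map A.subtype : Subgroup ↥(qdOver F)) : Set ↥(qdOver F)) = Subgroup.normalizer (A : Set ↥(qdOver F)) ∧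
    Subgroup.normalizer (A : Set ↥(qdOver F)) ≠ ⊤ := by
  subst hA
  let e := (S0 : Subgroup ↥(qdOver F)).equivMapOfInjective (MulAut.conj g).toMonoidHom (MulAut.conj g).injective
  have h1 := characteristic_map_equiv e.symm hTc
  have h2 : T.map e.symm.toMonoidHom ≠ ⊥ := by
    intro h
    exact hT ((Subgroup.map_eq_bot_iff_of_injective _ e.symm.injective).1 h)
  obtain ⟨h3, h4⟩ := main0 p _ h2 h1
  have h5 : T.map (((S0 : Subgroup ↥(qdOver F)).map (MulAut.conj g).toMonoidHom).subtype) =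
      ((T.map e.symm.toMonoidHom).map (S0 : Subgroup ↥(qdOver F)).subtype).map (MulAut.conj g).toMonoidHom := by
    rw [Subgroup.map_map, Subgroup.map_map]
    congr 1
    ext x
    obtain ⟨y, rfl⟩ := e.surjective x
    change ((e y : ↥(qdOver F)) : Matrix.SpecialLinearGroup (Fin 3) F) _ _ = ((MulAut.conj g ((e.symm (e y) : ↥(S0 : Subgroup ↥(qdOver F))) : ↥(qdOver F)) : ↥(qdOver F)) : Matrix.SpecialLinearGroup (Fin 3) F) _ _
    rw [MulEquiv.symm_apply_apply]
    rfl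
  rw [h5, CfsgLib.LE.normalizer_map_conj, CfsgLib.LE.normalizer_map_conj, h3]
  refine ⟨rfl, ?_⟩
  intro h
  apply h4
  have h6 := congrArg (fun K : Subgroup ↥(qdOver F) => K.map (MulAut.conj g⁻¹).toMonoidHom) h
  simp only [CfsgLib.LE.map_conj_mul, inv_mul_cancel, CfsgLib.LE.map_conj_one] at h6
  rw [h6]
  ext x
  rw [CfsgLib.LE.map_conj_mem]
  exact ⟨fun _ => trivial, fun _ => trivial⟩

theorem s2763 {p : ℕ} [Fact p.Prime] (S : Sylow p ↥(Cfsg.qd p)) (T : Subgroup ↥(S : Subgroup ↥(Cfsg.qd p))) (hT : T ≠ ⊥) (hTc : T.Characteristic) : Subgroup.normalizer ((T.map (S : Subgroup ↥(Cfsg.qd p)).subtype : Subgroup ↥(Cfsg.qd p)) : Set ↥(Cfsg.qd p)) = Subgroup.normalizer ((S : Subgroup ↥(Cfsg.qd p)) : Set ↥(Cfsg.qd p)) ∧ Subgroup.normalizer ((S : Subgroup ↥(Cfsg.qd p)) : Set ↥(Cfsg.qd p)) ≠ ⊤ := by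
  obtain ⟨g, hg⟩ := MulAction.exists_smul_eq ↥(Cfsg.qdOver (ZMod p)) (Sy0 : Sylow p ↥(qdOver (ZMod p))) S
  have hS : ((S : Sylow p ↥(Cfsg.qd p)) : Subgroup ↥(Cfsg.qd p)) = (S0 : Subgroup ↥(qdOver (ZMod p))).map (MulAut.conj g).toMonoidHom := by rw [← hg]; rfl
  exact main1 p g _ hS T hT hTc

end CfsgLib.KQd
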