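import Cfsg.Agent.EqBase
import Cfsg.Agent.LibBGAlp
import Cfsg.Agent.LibPCyc2

set_option autoImplicit false

/-! 2-connectedness of p-groups (seat helper8). -/

namespace CfsgLib.Kconn8

open Subgroup CfsgLib.BGPi Cfsg
open scoped Pointwise commutatorElement IsMulCommutative

universe u
variable {G : Type u} [Group G] [Finite G]

theorem relIndex_le_of_card {P C : Subgroup G} {n : ℕ} (h : Nat.card P ≤ n * Nat.card ↥(P ⊓ C)) :
    C.relIndex P ≤ n := by
  have h3 := card_mul_relIndex (inf_le_left : P ⊓ C ≤ P)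
  rw [Subgroup.inf_relIndex_left] at h3
  rw [← h3, mul_comm] at h
  exact Nat.le_of_mul_le_mul_right h (card_pos' _)

/-- the centralizer of a normal subgroup of order `p ^ 2` has index at most `p` -/
theorem relIndex_cent {p : ℕ} (hp : p.Prime) {P E : Subgroup G} (hP : IsPGroup p P)
    (hEP : E ≤ P) (hPE : P ≤ 𝓝(E)) (hE : IsElementaryAbelian p E) (hEc : Nat.card E = p ^ 2) :
    (𝓒(E)).relIndex P ≤ p := by
  haveI : Fact p.Prime := ⟨hp⟩
  apply relIndex_le_of_card
  obtain ⟨z, hzE, hz1, hzP, hb⟩ := normal_p2 hp hP hEP hPE hEc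
  have h1 : zpowers z < E := by
    refine lt_of_le_of_ne (by rwa [Subgroup.zpowers_le]) fun h => ?_
    have h2 : Nat.card (zpowers z) ≤ p := by
      rw [Nat.card_zpowers]
      exact Nat.le_of_dvd hp.pos (orderOf_dvd_of_pow_eq_one (hE.2 z hzE))
    rw [h, hEc, pow_two] at h2
    have := hp.one_lt
    nlinarith
  obtain ⟨b, hbE, hbz⟩ := SetLike.exists_of_lt h1
  have h2 : zpowers z ⊔ zpowers b = E := by
    have hle : zpowers z ⊔ zpowers b ≤ E :=
      sup_le h1.le (by rwa [Subgroup.zpowers_le])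
    have hlt : zpowers z < zpowers z ⊔ zpowers b := by
      refine lt_of_le_of_ne le_sup_left fun h => hbz ?_
      rw [h]; exact Subgroup.mem_sup_right (Subgroup.mem_zpowers b)
    have h3 := pgroup_mul_card_le hp (hP.to_le (hle.trans hEP)) hlt
    have h4 : Nat.card (zpowers z) = p := by
      rw [Nat.card_zpowers]
      exact orderOf_eq_prime (hE.2 z hzE) hz1
    refine eq_of_card_le hle ?_
    rw [hEc, pow_two]
    rwa [h4] at h3
  have h3 : P ⊓ Subgroup.centralizer {b} ≤ P ⊓ 𝓒(E) := by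
    refine le_inf inf_le_left ?_
    rintro g ⟨hg, hgb⟩
    have h5 : E ≤ Subgroup.centralizer {g} := by
      rw [← h2]
      refine sup_le ?_ ?_
      · rw [Subgroup.zpowers_le, Subgroup.mem_centralizer_singleton_iff]
        exact (mem_cz.1 hzP g hg).symm
      · rw [Subgroup.zpowers_le, Subgroup.mem_centralizer_singleton_iff]
        exact (Subgroup.mem_centralizer_singleton_iff.1 hgb).symm
    rw [mem_cz]
    intro e he
    exact Subgroup.mem_centralizer_singleton_iff.1 (h5 he)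
  exact (hb b hbE).trans (Nat.mul_le_mul_left _
    (Nat.le_of_dvd (card_pos' _) (Subgroup.card_dvd_of_le h3)))

theorem inter_card {p k : ℕ} (hp : p.Prime) {P C D : Subgroup G} (hC : C.relIndex P ≤ p)
    (hD : D ≤ P) (hc : p ^ (k + 1) ≤ Nat.card D) : p ^ k ≤ Nat.card ↥(D ⊓ C) := by
  have h1 := card_mul_relIndex (inf_le_left : D ⊓ C ≤ D)
  rw [Subgroup.inf_relIndex_left] at h1
  have h2 : C.relIndex D ≤ C.relIndex P := by
    apply Subgroup.relIndex_le_of_le_right hD
    rw [Subgroup.relIndex]; exact Subgroup.index_ne_zero_of_finite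
  have h5 : p ^ (k + 1) ≤ Nat.card ↥(D ⊓ C) * p := by
    refine hc.trans ?_
    rw [← h1]
    exact Nat.mul_le_mul_left _ (h2.trans hC)
  rw [pow_succ] at h5
  exact Nat.le_of_mul_le_mul_right h5 hp.pos

/-- the subgroup `Ω₁(A)` of an abelian group -/
theorem exists_omega {p : ℕ} {P A : Subgroup G} (hPA : P ≤ 𝓝(A)) (hA : IsMulCommutative A) :
    ∃ W ≤ A, P ≤ 𝓝(W) ∧ IsElementaryAbelian p W ∧ ∀ a ∈ A, a ^ p = 1 → a ∈ W := by
  have hcomm : ∀ a ∈ A, ∀ b ∈ A, a * b = b * a := fun a ha b hb =>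
    congrArg Subtype.val (hA.is_comm.comm (⟨a, ha⟩ : A) (⟨b, hb⟩ : A))
  let W : Subgroup G :=
    { carrier := {a | a ∈ A ∧ a ^ p = 1}
      one_mem' := ⟨one_mem _, one_pow _⟩
      mul_mem' := by
        rintro a b ⟨ha, ha'⟩ ⟨hb, hb'⟩
        refine ⟨mul_mem ha hb, ?_⟩
        rw [(show Commute a b from hcomm a ha b hb).mul_pow, ha', hb', one_mul]
      inv_mem' := by
        rintro a ⟨ha, ha'⟩
        exact ⟨inv_mem ha, by rw [inv_pow, ha', inv_one]⟩ }
  have hW : ∀ a, a ∈ W ↔ a ∈ A ∧ a ^ p = 1 := fun a => Iff.rfl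
  refine ⟨W, fun a ha => ((hW a).1 ha).1, ?_, ⟨?_, fun a ha => ((hW a).1 ha).2⟩, fun a ha h => ⟨ha, h⟩⟩
  · rw [le_nz]
    intro g hg a ha
    rw [hW] at ha ⊢
    refine ⟨le_nz.1 hPA g hg a ha.1, ?_⟩
    rw [conj_pow, ha.2]; simp
  · exact comm_mono (fun a ha => ((hW a).1 ha).1) hA

/-- a 2-group of rank at least 3 has a normal four-subgroup -/
theorem exists_normal_four {P : Subgroup G} (hP : IsPGroup 2 P) (hr : ¬ PRankLE 2 2 P) :
    ∃ E ≤ P, P ≤ 𝓝(E) ∧ IsElementaryAbelian 2 E ∧ Nat.card E = 2 ^ 2 := by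
  have hp := Nat.prime_two
  haveI : Fact (Nat.Prime 2) := ⟨hp⟩
  obtain ⟨A, -, hA⟩ := exists_scn hp hP (B := ⊥) bot_le (by rw [Subgroup.normalizer_eq_top]; exact le_top)
    (by rw [comm_iff_comm_bot]; simp)
  have hAc := scn_comm hA
  obtain ⟨hAP, hPA, hCA⟩ := hA
  by_cases hcyc : IsCyclic A
  · obtain ⟨⟨a, haA⟩, hgen⟩ := hcyc.exists_generator
    have haz : zpowers a = A := by
      apply le_antisymm (Subgroup.zpowers_le.mpr haA)
      intro y hy
      obtain ⟨k, hk⟩ := hgen ⟨y, hy⟩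
      exact ⟨k, congrArg Subtype.val hk⟩
    obtain ⟨n, hn⟩ := (hP.to_le hAP).exists_card_eq
    have hoa : orderOf a = 2 ^ n := by rw [← Nat.card_zpowers, haz, hn]
    obtain ⟨D, hDP, hD, hDc⟩ := (not_rank_iff hp).1 hr
    have hCP : ∀ g ∈ P, g * a = a * g → g ∈ A := by
      intro g hg h
      rw [← hCA]
      refine mem_inf.2 ⟨hg, ?_⟩
      rw [mem_cz]
      intro b hb
      rw [← haz] at hb
      obtain ⟨k, rfl⟩ := hb
      exact ((show Commute g a from h).zpow_right k).symm.eq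
    -- `|D ∩ A| ≤ 2`
    have hDA : Nat.card ↥(D ⊓ A) ≤ 2 := by
      haveI := hcyc
      haveI : IsCyclic ↥(D ⊓ A) := isCyclic_of_injective (inclusion (inf_le_right : D ⊓ A ≤ A))
        (inclusion_injective _)
      obtain ⟨y, hy⟩ := IsCyclic.exists_generator (α := ↥(D ⊓ A))
      rw [← orderOf_eq_card_of_forall_mem_zpowers hy]
      apply Nat.le_of_dvd (by norm_num)
      apply orderOf_dvd_of_pow_eq_one
      exact Subtype.ext (hD.2 y.1 y.2.1)
    have hcz : ∀ (g : G) (m : ℤ), g * a * g⁻¹ = a ^ m → ∀ j : ℤ, g * a ^ j * g⁻¹ = (a ^ j) ^ m := by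
      intro g m h j
      rw [← conj_zpow, h, ← zpow_mul, ← zpow_mul, mul_comm]
    have hn2 : 2 ≤ n := by
      by_contra hlt
      have h1 : Nat.card A ≤ 2 := by
        rw [hn]
        have : n ≤ 1 := by omega
        calc 2 ^ n ≤ 2 ^ 1 := Nat.pow_le_pow_right (by norm_num) this
          _ = 2 := by norm_num
      have h2 : P ≤ A := by
        intro g hg
        apply hCP g hg
        have h3 : g * a * g⁻¹ ∈ A := le_nz.1 hPA g hg a haA
        by_cases ha1 : a = 1
        · rw [ha1]; simp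
        have h4 : g * a * g⁻¹ = a := by
          by_contra hne
          have h5 : g * a * g⁻¹ ≠ 1 := by
            intro h; apply ha1
            have : a = g⁻¹ * (g * a * g⁻¹) * g := by group
            rw [this, h]; simp
          have h6 : Nat.card ({1, a, g * a * g⁻¹} : Set G) ≤ Nat.card A := by
            apply Nat.card_le_card_of_injective (fun x : ({1, a, g * a * g⁻¹} : Set G) =>
              (⟨x.1, by
                rcases x.2 with h | h | h
                · rw [h]; exact one_mem _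
                · rw [h]; exact haA
                · rw [h]; exact h3⟩ : A))
            intro x y hxy
            exact Subtype.ext (congrArg (fun z : A => (z : G)) hxy)
          rw [Nat.card_coe_set_eq, Set.ncard_eq_three.2 ⟨1, a, g * a * g⁻¹, (Ne.symm ha1), h5.symm, (Ne.symm hne), rfl⟩] at h6
          omega
        rwa [mul_inv_eq_iff_eq_mul] at h4
      have h3 : D ≤ A := hDP.trans h2
      rw [inf_eq_left.2 h3, hDc] at hDA
      norm_num at hDA
    -- the element of order 4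
    obtain ⟨w, hw⟩ : ∃ w, w = a ^ (2 ^ (n - 2)) := ⟨_, rfl⟩
    have hwo : orderOf w = 4 := by
      rw [hw, orderOf_pow_of_dvd (pow_pos hp.pos _).ne' (by rw [hoa]; exact pow_dvd_pow 2 (by omega)),
        hoa, Nat.pow_div (by omega) hp.pos]
      have : n - (n - 2) = 2 := by omega
      rw [this]
    have hwA : w ∈ A := by rw [hw]; exact pow_mem haA _
    have hPw : P ≤ 𝓝(zpowers w) := by
      rw [le_nz]
      intro g hg x hx
      obtain ⟨k, rfl⟩ := hx
      have h1 : g * a * g⁻¹ ∈ A := le_nz.1 hPA g hg a haA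
      rw [← haz] at h1
      obtain ⟨m, hm⟩ := h1
      have h2 : g * w * g⁻¹ = w ^ m := by
        rw [hw, ← zpow_natCast]
        exact hcz g m hm.symm _
      change g * w ^ k * g⁻¹ ∈ _
      rw [← conj_zpow, h2]
      exact zpow_mem (zpow_mem (mem_zpowers w) m) k
    obtain ⟨-, -, -, -, hb⟩ := normal_p2 hp hP ((zpowers_le.2 hwA).trans hAP) hPw
      (by rw [Nat.card_zpowers, hwo]; norm_num)
    have hrel := relIndex_le_of_card (hb w (mem_zpowers w))
    have hDw := inter_card (k := 2) hp hrel hDP (by rw [hDc])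
    -- choose `e`
    obtain ⟨e, he, heA⟩ : ∃ e ∈ D ⊓ Subgroup.centralizer {w}, e ∉ A := by
      by_contra hcon
      push Not at hcon
      have h1 : D ⊓ Subgroup.centralizer {w} ≤ D ⊓ A := fun x hx => ⟨hx.1, hcon x hx⟩
      have h2 := Subgroup.card_le_of_le h1
      omega
    obtain ⟨heD, hew⟩ := he
    have hew' := mem_centralizer_singleton_iff.1 hew
    have heP : e ∈ P := hDP heD
    have he2 : e * e = 1 := by have := hD.2 e heD; rwa [pow_two] at this
    have hei : e⁻¹ = e := by rw [inv_eq_iff_mul_eq_one]; exact he2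
    have h1 : e * a * e⁻¹ ∈ A := le_nz.1 hPA e heP a haA
    rw [← haz, ← mem_powers_iff_mem_zpowers] at h1
    obtain ⟨m, hm⟩ := h1
    have hm' : e * a * e⁻¹ = a ^ m := hm.symm
    have hord : ∀ k : ℤ, a ^ k = 1 ↔ (2 : ℤ) ^ n ∣ k := by
      intro k
      rw [← orderOf_dvd_iff_zpow_eq_one, hoa]
      push_cast; try rfl
    have hm2 : (2 : ℤ) ^ n ∣ (m : ℤ) ^ 2 - 1 := by
      rw [← hord]
      have h2 : a = a ^ (m * m) := by
        calc a = e * (e * a * e⁻¹) * e⁻¹ := by rw [hei]; rw [show e * (e * a * e) * e = (e * e) * a * (e * e) by group, he2]; simp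
          _ = a ^ (m * m) := by rw [hm', ← conj_pow, hm', ← pow_mul]
      have h3 : (m : ℤ) ^ 2 - 1 = ((m * m : ℕ) : ℤ) - 1 := by push_cast; ring
      rw [h3, zpow_sub, zpow_natCast, ← h2, zpow_one, mul_inv_cancel]
    have hm4 : (4 : ℤ) ∣ (m : ℤ) - 1 := by
      have h2 : w ^ m = w := by
        have h3 : e * w * e⁻¹ = w := by rw [hew', mul_inv_cancel_right]
        rw [← h3]
        nth_rw 1 [h3]
        rw [hw, ← conj_pow, hm', ← pow_mul, ← pow_mul, mul_comm]
      have h3 : w ^ ((m : ℤ) - 1) = 1 := by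
        rw [zpow_sub, zpow_natCast, h2, zpow_one, mul_inv_cancel]
      have h4 := orderOf_dvd_iff_zpow_eq_one.2 h3
      rw [hwo] at h4
      exact_mod_cast h4
    have hm5 : (2 : ℤ) ^ (n - 1) ∣ (m : ℤ) - 1 := by
      rcases CfsgLib.PCyc.sq_cases (by omega) hm2 with h | h
      · exact h
      · exfalso
        rcases Nat.lt_or_ge n 3 with hn3 | hn3
        · have hn' : n = 2 := by omega
          subst hn'
          apply heA
          apply hCP e heP
          have h2 : a ^ m = a := by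
            have h3 : a ^ ((m : ℤ) - 1) = 1 := by
              rw [hord]
              have : (2 : ℤ) ^ 2 = 4 := by norm_num
              rw [this]; exact hm4
            rw [zpow_sub, zpow_natCast, zpow_one, mul_inv_eq_one] at h3
            exact h3
          rw [h2, mul_inv_eq_iff_eq_mul] at hm'
          exact hm'
        · have h4 : (4 : ℤ) ∣ (2 : ℤ) ^ (n - 1) := by
            have : n - 1 = 2 + (n - 3) := by omega
            rw [this, pow_add]
            exact ⟨2 ^ (n - 3), by norm_num⟩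
          have h5 := h4.trans h
          omega
    -- the involution
    obtain ⟨z, hz⟩ : ∃ z, z = a ^ (2 ^ (n - 1)) := ⟨_, rfl⟩
    have hzA : z ∈ A := by rw [hz]; exact pow_mem haA _
    have hzo : orderOf z = 2 := by
      rw [hz, orderOf_pow_of_dvd (pow_pos hp.pos _).ne' (by rw [hoa]; exact pow_dvd_pow 2 (by omega)),
        hoa, Nat.pow_div (by omega) hp.pos]
      have : n - (n - 1) = 1 := by omega
      rw [this, pow_one]
    have hz2 : z * z = 1 := by rw [← pow_two, ← hzo, pow_orderOf_eq_one]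
    have hzc : ∀ g ∈ P, g * z * g⁻¹ = z := by
      intro g hg
      have h1 : g * a * g⁻¹ ∈ A := le_nz.1 hPA g hg a haA
      rw [← haz] at h1
      obtain ⟨l, hl⟩ := h1
      have hl' : g * a * g⁻¹ = a ^ l := hl.symm
      have h2 : g * z * g⁻¹ = z ^ l := by
        rw [hz, ← zpow_natCast]
        exact hcz g l hl.symm _
      have h3 : g * z * g⁻¹ ≠ 1 := by
        intro h
        have h4 : orderOf (g * z * g⁻¹) = 2 := by
          rw [← hzo]
          exact orderOf_injective (MulAut.conj g).toMonoidHom (MulAut.conj g).injective z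
        rw [h, orderOf_one] at h4
        omega
      have hze : ∀ j : ℤ, z ^ (2 * j) = 1 := by
        intro j
        rw [zpow_mul]
        have : z ^ (2 : ℤ) = 1 := by
          have h5 : z ^ (2 : ℤ) = z * z := by rw [← pow_two]; norm_cast
          rw [h5, hz2]
        rw [this, one_zpow]
      rcases Int.even_or_odd' l with ⟨j, hj | hj⟩
      · exfalso; apply h3
        rw [h2, hj, hze]
      · rw [h2, hj, zpow_add, hze, one_mul, zpow_one]
    have hmodd : ¬ (2 : ℤ) ∣ m := by omega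
    refine ⟨zpowers z ⊔ zpowers e, ?_, ?_, ?_, ?_⟩
    · exact sup_le (zpowers_le.2 (hAP hzA)) (zpowers_le.2 heP)
    · have hU : zpowers z ≤ zpowers z ⊔ zpowers e := le_sup_left
      have heU : e ∈ zpowers z ⊔ zpowers e := mem_sup_right (mem_zpowers e)
      have hpz : P ≤ 𝓝(zpowers z) := by
        rw [le_nz]
        intro g hg x hx
        obtain ⟨k, rfl⟩ := hx
        change g * z ^ k * g⁻¹ ∈ _
        rw [← conj_zpow, hzc g hg]
        exact zpow_mem (mem_zpowers z) k
      rw [le_nz]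
      intro g hg x hx
      have hez : zpowers e ≤ 𝓝(zpowers z) := (zpowers_le.2 heP).trans hpz
      obtain ⟨s, hs, t, ht, rfl⟩ := (mem_sup_of_nz' hez).1 hx
      obtain ⟨k, rfl⟩ := ht
      have h3 : g * (s * e ^ k) * g⁻¹ = (g * s * g⁻¹) * (g * e * g⁻¹) ^ k := by
        rw [conj_zpow]; group
      change g * (s * e ^ k) * g⁻¹ ∈ _
      rw [h3]
      refine mul_mem (hU (le_nz.1 hpz g hg s hs)) (zpow_mem ?_ k)
      -- `g e g⁻¹ e⁻¹ ∈ A`
      have h4 : g * e * g⁻¹ * e⁻¹ ∈ A := by
        apply hCP _ (mul_mem (mul_mem (mul_mem hg heP) (inv_mem hg)) (inv_mem heP))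
        have h5 : g * a * g⁻¹ ∈ A := le_nz.1 hPA g hg a haA
        rw [← haz] at h5
        obtain ⟨l, hl⟩ := h5
        have hl' : g * a * g⁻¹ = a ^ l := hl.symm
        have hm'' : e * a * e⁻¹ = a ^ (m : ℤ) := by rw [hm', zpow_natCast]
        have h6 : g * (e * a * e⁻¹) * g⁻¹ = e * (g * a * g⁻¹) * e⁻¹ := by
          rw [hm'', hl', hcz g l hl', hcz e m hm'', ← zpow_mul, ← zpow_mul, mul_comm]
        have h7 : g * e * a = e * g * a * g⁻¹ * e⁻¹ * g * e := by
          calc g * e * a = g * (e * a * e⁻¹) * g⁻¹ * g * e := by group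
            _ = e * (g * a * g⁻¹) * e⁻¹ * g * e := by rw [h6]
            _ = _ := by group
        -- apply to `b = (e g)⁻¹ a (e g)`
        have h8 : ∀ b ∈ A, g * e * b * (g * e)⁻¹ = e * g * b * (e * g)⁻¹ := by
          intro b hb
          rw [← haz] at hb
          obtain ⟨k, rfl⟩ := hb
          change g * e * a ^ k * (g * e)⁻¹ = e * g * a ^ k * (e * g)⁻¹
          rw [← conj_zpow, ← conj_zpow]
          congr 1
          rw [h7]; group
        have h9 : (g⁻¹ * e⁻¹) * a * (g⁻¹ * e⁻¹)⁻¹ ∈ A :=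
          le_nz.1 hPA _ (mul_mem (inv_mem hg) (inv_mem heP)) a haA
        have h10 := h8 _ h9
        have h11 : e * g * (g⁻¹ * e⁻¹ * a * (g⁻¹ * e⁻¹)⁻¹) * (e * g)⁻¹ = a := by group
        rw [h11] at h10
        have h12 : g * e * g⁻¹ * e⁻¹ * a = a * (g * e * g⁻¹ * e⁻¹) := by
          calc g * e * g⁻¹ * e⁻¹ * a = (g * e * (g⁻¹ * e⁻¹ * a * (g⁻¹ * e⁻¹)⁻¹) * (g * e)⁻¹) *
              (g * e * g⁻¹ * e⁻¹) := by group
            _ = _ := by rw [h10]
        exact h12
      rw [← haz] at h4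
      obtain ⟨i, hi⟩ := h4
      have hi' : g * e * g⁻¹ = a ^ i * e := by
        have : a ^ i = g * e * g⁻¹ * e⁻¹ := hi
        rw [this]; group
      have h5 : a ^ (i + m * i) = 1 := by
        have h6 : (g * e * g⁻¹) * (g * e * g⁻¹) = 1 := by
          calc (g * e * g⁻¹) * (g * e * g⁻¹) = g * (e * e) * g⁻¹ := by group
            _ = 1 := by rw [he2]; simp
        rw [hi'] at h6
        have h7 : a ^ i * e * (a ^ i * e) = a ^ i * (e * a ^ i * e⁻¹) * (e * e) := by group
        have hm'' : e * a * e⁻¹ = a ^ (m : ℤ) := by rw [hm', zpow_natCast]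
        rw [h7, hcz e m hm'', he2, mul_one, ← zpow_mul, ← zpow_add] at h6
        rw [← h6]; congr 1; ring
      rw [hord] at h5
      -- `2^(n-1) ∣ i`
      obtain ⟨q, hq⟩ := hm4
      have h6 : (2 : ℤ) ^ (n - 1) ∣ i := by
        have e1 : (i + m * i : ℤ) = 2 * ((2 * q + 1) * i) := by
          have : (m : ℤ) = 4 * q + 1 := by linarith
          rw [this]; ring
        have e2 : (2 : ℤ) ^ n = 2 * 2 ^ (n - 1) := by rw [← pow_succ']; congr 1; omega
        rw [e1, e2] at h5
        have h7 := (mul_dvd_mul_iff_left (by norm_num : (2 : ℤ) ≠ 0)).mp h5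
        have h8 : IsCoprime ((2 : ℤ) ^ (n - 1)) (2 * q + 1) := by
          apply IsCoprime.pow_left
          exact ⟨-q, 1, by ring⟩
        exact h8.dvd_of_dvd_mul_left h7
      obtain ⟨c, hc⟩ := h6
      rw [hi', hc, zpow_mul]
      refine mul_mem (hU (zpow_mem ?_ c)) heU
      have : a ^ ((2 : ℤ) ^ (n - 1)) = z := by
        rw [hz, ← zpow_natCast]; congr 1
      rw [this]; exact mem_zpowers z
    · refine elab_sup (elab_zpowers (by rw [pow_two]; exact hz2)) (elab_zpowers (by rw [pow_two]; exact he2)) ?_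
      rw [le_cz_zpowers]
      rintro x ⟨k, rfl⟩
      have h1 : Commute z e := by
        have := hzc e heP
        rw [mul_inv_eq_iff_eq_mul] at this
        exact this.symm
      exact (h1.zpow_left k).eq
    · have h1 : Commute e z := by
        have := hzc e heP
        rw [mul_inv_eq_iff_eq_mul] at this
        exact this
      have hdisj : zpowers z ⊓ zpowers e = ⊥ := by
        rw [eq_bot_iff]
        intro x hx
        have hxA : x ∈ A := (zpowers_le.2 hzA) hx.1
        obtain ⟨k, hk⟩ := hx.2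
        have hk' : e ^ k = x := hk
        have hee : ∀ j : ℤ, e ^ (2 * j) = 1 := by
          intro j
          rw [zpow_mul]
          have : e ^ (2 : ℤ) = 1 := by
            have h5 : e ^ (2 : ℤ) = e * e := by rw [← pow_two]; norm_cast
            rw [h5, he2]
          rw [this, one_zpow]
        rcases Int.even_or_odd' k with ⟨j, hj | hj⟩
        · rw [hj, hee] at hk'
          rw [← hk']; exact one_mem _
        · rw [hj, zpow_add, hee, one_mul, zpow_one] at hk'
          exact absurd (hk' ▸ hxA) heA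
      have hez : zpowers z ≤ 𝓝(zpowers e) := by
        rw [zpowers_le, mem_nz]
        apply cj_le_of_le_nz (K := zpowers z) ?_ (mem_zpowers z)
        rw [le_nz]
        rintro _ ⟨i, rfl⟩ _ ⟨j, rfl⟩
        change z ^ i * e ^ j * (z ^ i)⁻¹ ∈ _
        have := ((h1.symm.zpow_left i).zpow_right j).eq
        rw [this, mul_inv_cancel_right]
        exact zpow_mem (mem_zpowers e) j
      have h2 := card_sup_of_disjoint hez hdisj
      have heo : orderOf e = 2 := by
        apply orderOf_eq_prime (by rw [pow_two]; exact he2)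
        rintro rfl
        exact heA (one_mem _)
      rw [h2, Nat.card_zpowers, Nat.card_zpowers, hzo, heo]; norm_num
  · obtain ⟨B, hBA, hBc, hBe⟩ := CfsgLib.PCyc.exists_elem_of_not_isCyclic hp A (hP.to_le hAP) hAc hcyc
    obtain ⟨W, hWA, hPW, hWe, hW⟩ := exists_omega (p := 2) hPA hAc
    have hBW : B ≤ W := fun b hb => hW b (hBA hb) (hBe b hb)
    obtain ⟨M, hMW, hPM, hMc⟩ := exists_normal_card hp hP (hWA.trans hAP) hPW (k := 2)
      (by rw [← hBc]; exact Subgroup.card_le_of_le hBW)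
    exact ⟨M, hMW.trans (hWA.trans hAP), hPM, elab_mono hMW hWe, hMc⟩

theorem exists_normal_rank_two {p : ℕ} (hp : p.Prime) {P : Subgroup G} (hP : IsPGroup p P)
    (hr : ¬ PRankLE p 2 P) :
    ∃ E ≤ P, P ≤ 𝓝(E) ∧ IsElementaryAbelian p E ∧ Nat.card E = p ^ 2 := by
  by_cases hp2 : p = 2
  · subst hp2; exact exists_normal_four hP hr
  · exact exists_normal_p2 hp hp2 hP (not_cyclic_of_rank hp (by norm_num) hr)

/-- the edges of the rank-2 commuting graph -/
def Ed (p : ℕ) (A B : Subgroup G) : Prop := IsElementaryAbelian p A ∧ p ^ 2 ≤ Nat.card ↥A ∧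
  IsElementaryAbelian p B ∧ p ^ 2 ≤ Nat.card ↥B ∧ ∀ a ∈ A, ∀ b ∈ B, a * b = b * a

theorem rank_cent_of_sup {p : ℕ} (hp : p.Prime) {X Y : Subgroup G} (hX : IsElementaryAbelian p X)
    (hXc : p ^ 2 ≤ Nat.card X) (hY : IsElementaryAbelian p Y) (hXY : ∀ a ∈ X, ∀ b ∈ Y, a * b = b * a)
    (h : ¬ Y ≤ X) : ¬ PRankLE p 2 𝓒(X) := by
  intro hr
  have hYX : Y ≤ 𝓒(X) := fun y hy => mem_cz.2 fun x hx => hXY x hx y hy
  have h1 : IsElementaryAbelian p (X ⊔ Y) := elab_sup hX hY (le_cz_comm.1 hYX)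
  have h2 : X ⊔ Y ≤ 𝓒(X) := sup_le (comm_iff_le_cz.1 hX.1) hYX
  have h3 := rank_iff.1 hr _ h2 h1
  have h4 : X < X ⊔ Y := lt_of_le_of_ne le_sup_left fun h' => h (by rw [h']; exact le_sup_right)
  haveI : Fact p.Prime := ⟨hp⟩
  have h5 := pgroup_mul_card_le hp (elab_isPGroup h1) h4
  have := hp.one_lt
  have h6 : 0 < p ^ 2 := pow_pos hp.pos 2
  nlinarith

theorem rank_cent_of_card {p : ℕ} (hp : p.Prime) {X : Subgroup G} (hX : IsElementaryAbelian p X)
    (hXc : p ^ 2 < Nat.card X) : ¬ PRankLE p 2 𝓒(X) := by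
  intro hr
  have h3 := rank_iff.1 hr _ (comm_iff_le_cz.1 hX.1) hX
  omega

/-- **S1337** -/
theorem component {p : ℕ} (hp : p.Prime) (hP : IsPGroup p (⊤ : Subgroup G))
    (hr : ¬ PRankLE p 2 (⊤ : Subgroup G)) : ∃ U : Subgroup G, ⊤ ≤ 𝓝(U) ∧ IsElementaryAbelian p U ∧
      Nat.card U = p ^ 2 ∧ ∀ X : Subgroup G, IsElementaryAbelian p X → p ^ 2 ≤ Nat.card X →
        (Relation.ReflTransGen (Ed p) X U ↔ ¬ PRankLE p 2 𝓒(X)) := by
  obtain ⟨U, -, hPU, hU, hUc⟩ := exists_normal_rank_two hp hP hr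
  obtain ⟨D, -, hD, hDc⟩ := (not_rank_iff hp).1 hr
  have hrel := relIndex_cent hp hP le_top hPU hU hUc
  have hcu : ∀ F : Subgroup G, IsElementaryAbelian p F → p ^ 3 ≤ Nat.card F →
      p ^ 2 ≤ Nat.card ↥(F ⊓ 𝓒(U)) := fun F _ hF => inter_card hp hrel le_top hF
  have hUU : ¬ PRankLE p 2 𝓒(U) := by
    have h1 := hcu D hD (by rw [hDc])
    have h2 : ¬ (D ⊓ 𝓒(U)) ≤ U := by
      intro hle
      have h3 : D ⊓ 𝓒(U) = U := eq_of_card_le hle (by rw [hUc]; exact h1)
      have h4 : U ≤ D := by rw [← h3]; exact inf_le_left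
      have h5 : D ≤ 𝓒(U) := (comm_iff_le_cz.1 hD.1).trans (cz_anti h4)
      rw [inf_eq_left.2 h5] at h3
      rw [h3, hUc] at hDc
      have h6 : p ^ 2 < p ^ (2 + 1) := Nat.pow_lt_pow_right hp.one_lt (by norm_num)
      omega
    exact rank_cent_of_sup hp hU hUc.ge (elab_mono inf_le_left hD)
      (fun a ha b hb => mem_cz.1 hb.2 a ha) h2
  refine ⟨U, hPU, hU, hUc, fun X hX hXc => ⟨?_, ?_⟩⟩
  · intro h
    clear hX hXc
    induction h using Relation.ReflTransGen.head_induction_on with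
    | refl => exact hUU
    | head h _ ih =>
      rename_i A B _
      obtain ⟨hA, hAc, hB, hBc, hAB⟩ := h
      by_cases hBA : B ≤ A
      · by_cases h2 : B = A
        · rw [← h2]; exact ih
        · have h3 : B < A := lt_of_le_of_ne hBA h2
          exact rank_cent_of_card hp hA (lt_of_le_of_lt hBc (card_lt_of_lt h3))
      · exact rank_cent_of_sup hp hA hAc hB hAB hBA
  · intro h
    obtain ⟨F, hFX, hF, hFc⟩ := (not_rank_iff hp).1 h
    have h1 := hcu F hF (by rw [hFc])
    have hF2 : p ^ 2 ≤ Nat.card F := by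
      rw [hFc]; exact Nat.pow_le_pow_right hp.pos (by norm_num)
    have hFC : IsElementaryAbelian p (F ⊓ 𝓒(U)) := elab_mono inf_le_left hF
    refine Relation.ReflTransGen.head (b := F) ⟨hX, hXc, hF, hF2, fun a ha b hb =>
      mem_cz.1 (hFX hb) a ha⟩ (Relation.ReflTransGen.head (b := F ⊓ 𝓒(U)) ⟨hF, hF2, hFC, h1, ?_⟩
        (Relation.ReflTransGen.single ⟨hFC, h1, hU, hUc.ge, ?_⟩))
    · intro a ha b hb
      exact mem_cz.1 (comm_iff_le_cz.1 hF.1 hb.1) a ha
    · intro a ha b hb
      exact (mem_cz.1 ha.2 b hb).symm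

end CfsgLib.Kconn8
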