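import Cfsg.Agent.EqBase
import Cfsg.Agent.LibKconn8

set_option autoImplicit false

/-! 3-groups of rank at least 4 are 2-connected (seat helper8). -/

namespace CfsgLib.Kconn8

open Subgroup CfsgLib.BGPi Cfsg
open scoped Pointwise commutatorElement IsMulCommutative

universe u
variable {G : Type u} [Group G] [Finite G]

/-- kernel of a composite -/
theorem card_ker_comp {M : Type*} [AddCommGroup M] [Finite M] (S T : AddMonoid.End M) :
    Nat.card {m : M // (S * T) m = 0} ≤ Nat.card {m : M // S m = 0} * Nat.card {m : M // T m = 0} := by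
  classical
  -- choose preimages
  let g : {m : M // (S * T) m = 0} → {m : M // S m = 0} := fun m => ⟨T m.1, m.2⟩
  let s : {m : M // S m = 0} → {m : M // (S * T) m = 0} := fun y =>
    if h : ∃ m, g m = y then h.choose else ⟨0, by simp⟩
  have hs : ∀ m, g (s (g m)) = g m := by
    intro m
    have h : ∃ m', g m' = g m := ⟨m, rfl⟩
    change g (if h : ∃ m', g m' = g m then h.choose else ⟨0, by simp⟩) = g m
    rw [dif_pos h]
    exact h.choose_spec
  have hT : ∀ m, T (m.1 - (s (g m)).1) = 0 := by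
    intro m
    have h1 := congrArg Subtype.val (hs m)
    change T (s (g m)).1 = T m.1 at h1
    rw [map_sub, h1, sub_self]
  rw [← Nat.card_prod]
  apply Nat.card_le_card_of_injective (fun m : {m : M // (S * T) m = 0} =>
    ((g m, ⟨m.1 - (s (g m)).1, hT m⟩) : {m : M // S m = 0} × {m : M // T m = 0}))
  intro m m' h
  simp only [Prod.mk.injEq, Subtype.mk.injEq] at h
  obtain ⟨h1, h2⟩ := h
  rw [h1] at h2
  exact Subtype.ext (sub_left_injective h2)

theorem card_le_cent_cube {F : Subgroup G} (hF : IsElementaryAbelian 3 F) {x : G} (hx : x ∈ 𝓝(F))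
    (hx3 : x ^ 3 = 1) : Nat.card F ≤ Nat.card ↥(F ⊓ Subgroup.centralizer {x}) ^ 3 := by
  haveI := hF.1
  obtain ⟨T, h1, hcoe⟩ : ∃ T : AddMonoid.End (Additive F), (T + 1) ^ 3 = 1 ∧
      ∀ u : Additive F, (((T u).toMul : F) : G) = x * (u.toMul : G) * x⁻¹ * (u.toMul : G)⁻¹ := by
    have hK : zpowers x ≤ 𝓝(F) := by rwa [Subgroup.zpowers_le]
    obtain ⟨ρ, hρ⟩ : ∃ ρ : zpowers x →* AddMonoid.End (Additive F), ∀ k u,
        (((ρ k u).toMul : F) : G) = k * (u.toMul : G) * (k : G)⁻¹ := ⟨_, conjEnd_apply F (zpowers x) hK⟩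
    refine ⟨ρ ⟨x, Subgroup.mem_zpowers x⟩ - 1, ?_, ?_⟩
    · have : (⟨x, Subgroup.mem_zpowers x⟩ : zpowers x) ^ 3 = 1 := Subtype.ext hx3
      rw [sub_add_cancel, ← map_pow, this, map_one]
    · intro u
      have h2 : (ρ ⟨x, Subgroup.mem_zpowers x⟩ - 1) u = ρ ⟨x, Subgroup.mem_zpowers x⟩ u - u := rfl
      rw [h2, toMul_sub, div_eq_mul_inv, Subgroup.coe_mul, Subgroup.coe_inv, hρ]
  have h3 : (3 : AddMonoid.End (Additive F)) = 0 := by
    ext u
    have : ((3 : ℕ) : AddMonoid.End (Additive F)) u = 0 := by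
      rw [AddMonoid.End.natCast_apply]
      have h4 : (u.toMul : F) ^ 3 = 1 := Subtype.ext (hF.2 _ u.toMul.2)
      exact congrArg Additive.ofMul h4
    exact_mod_cast congrArg (fun v : Additive F => ((v.toMul : F) : G)) this
  have hT3 : T * (T * T) = 0 := by
    have h4 : (T + 1) ^ 3 = T * (T * T) + 3 * (T * T + T) + 1 := by noncomm_ring
    rw [h1, h3, zero_mul, add_zero] at h4
    have h5 : T * (T * T) + 1 = 0 + 1 := by rw [← h4, zero_add]
    exact add_right_cancel h5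
  have h5 : Nat.card F = Nat.card {m : Additive F // (T * (T * T)) m = 0} := by
    apply Nat.card_congr
    refine ⟨fun f => ⟨Additive.ofMul f, by rw [hT3]; rfl⟩, fun m => m.1.toMul, fun f => rfl, fun m => rfl⟩
  have h6 : Nat.card {m : Additive F // T m = 0} = Nat.card ↥(F ⊓ Subgroup.centralizer {x}) := by
    apply Nat.card_congr
    refine ⟨fun m => ⟨(m.1.toMul : G), m.1.toMul.2, ?_⟩, fun f => ⟨Additive.ofMul ⟨f.1, f.2.1⟩, ?_⟩,
      fun m => rfl, fun f => rfl⟩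
    · have h7 := hcoe m.1
      rw [m.2] at h7
      have h8 : x * (m.1.toMul : G) * x⁻¹ * (m.1.toMul : G)⁻¹ = 1 := h7.symm
      have h9 : (m.1.toMul : G) * x = x * (m.1.toMul : G) := by
        rw [mul_inv_eq_one, mul_inv_eq_iff_eq_mul] at h8
        exact h8.symm
      exact Subgroup.mem_centralizer_singleton_iff.2 h9
    · have h9 : f.1 * x = x * f.1 := Subgroup.mem_centralizer_singleton_iff.1 f.2.2
      have h7 := hcoe (Additive.ofMul ⟨f.1, f.2.1⟩)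
      have h8 : x * f.1 * x⁻¹ * f.1⁻¹ = 1 := by rw [← h9]; group
      have h10 : (((T (Additive.ofMul ⟨f.1, f.2.1⟩)).toMul : F) : G) = 1 := by rw [h7]; exact h8
      exact congrArg Additive.ofMul (Subtype.ext h10 : (T (Additive.ofMul ⟨f.1, f.2.1⟩)).toMul = 1)
  have h7 := card_ker_comp T (T * T)
  have h8 := card_ker_comp T T
  rw [h5, ← h6]
  calc Nat.card {m : Additive F // (T * (T * T)) m = 0} ≤ _ := h7
    _ ≤ Nat.card {m : Additive F // T m = 0} * (Nat.card {m : Additive F // T m = 0} *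
      Nat.card {m : Additive F // T m = 0}) := Nat.mul_le_mul_left _ h8
    _ = _ := by ring

/-- a subgroup of index 3 together with an element outside generates -/
theorem sup_zpowers_eq {V W : Subgroup G} (hVe : IsElementaryAbelian 3 V) (hWV : W ≤ V)
    (hc : Nat.card V ≤ 3 * Nat.card W) {v : G} (hv : v ∈ V) (hvW : v ∉ W) : W ⊔ zpowers v = V := by
  have hp := Nat.prime_three
  have hle : W ⊔ zpowers v ≤ V := sup_le hWV (zpowers_le.2 hv)
  have hlt : W < W ⊔ zpowers v := lt_of_le_of_ne le_sup_left fun h =>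
    hvW (by rw [h]; exact mem_sup_right (mem_zpowers v))
  haveI : Fact (Nat.Prime 3) := ⟨hp⟩
  have h1 := pgroup_mul_card_le hp ((elab_isPGroup hVe).to_le hle) hlt
  exact eq_of_card_le hle (hc.trans h1)

theorem comm_of {V : Subgroup G} (hVc : IsMulCommutative V) {a b : G} (ha : a ∈ V) (hb : b ∈ V) :
    a * b = b * a := congrArg Subtype.val (hVc.is_comm.comm (⟨a, ha⟩ : V) (⟨b, hb⟩ : V))

theorem mem_of_index_three {V W : Subgroup G} (hVe : IsElementaryAbelian 3 V) (hWV : W ≤ V)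
    (hc : Nat.card V ≤ 3 * Nat.card W) {v : G} (hv : v ∈ V) (hvW : v ∉ W) {u : G} (hu : u ∈ V) :
    ∃ w ∈ W, ∃ j : ℤ, u = w * v ^ j := by
  have h1 := sup_zpowers_eq hVe hWV hc hv hvW
  rw [← h1] at hu
  have h2 : W ≤ 𝓒(zpowers v) := by
    rw [le_cz_zpowers]
    exact fun a ha => comm_of hVe.1 (hWV ha) hv
  obtain ⟨w, hw, y, ⟨j, rfl⟩, rfl⟩ := (mem_sup_of_nz (le_nz_of_le_cz h2)).1 hu
  exact ⟨w, hw, j, rfl⟩

/-- an element of order 3 acts trivially on a section of order 3 -/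
theorem section_three {V W : Subgroup G} (hVe : IsElementaryAbelian 3 V) (hWV : W ≤ V)
    (hc : Nat.card V ≤ 3 * Nat.card W) {g : G} (hg3 : g ^ 3 = 1) (hgV : g ∈ 𝓝(V)) (hgW : g ∈ 𝓝(W))
    {v : G} (hv : v ∈ V) : g * v * g⁻¹ * v⁻¹ ∈ W := by
  have hgW' : ∀ a ∈ W, g * a * g⁻¹ ∈ W := fun a ha => (mem_normalizer_iff.1 hgW a).1 ha
  by_cases hvW : v ∈ W
  · exact mul_mem (hgW' v hvW) (inv_mem hvW)
  have hgv : g * v * g⁻¹ ∈ V := (mem_normalizer_iff.1 hgV v).1 hv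
  obtain ⟨w, hw, j, hj⟩ := mem_of_index_three hVe hWV hc hv hvW hgv
  have hv3 : v ^ 3 = 1 := hVe.2 v hv
  -- reduce `j` mod 3
  have hv3z : v ^ (3 : ℤ) = 1 := by exact_mod_cast hv3
  have hjm : v ^ j = v ^ (j % 3) := by
    conv_lhs => rw [← Int.emod_add_mul_ediv j 3, zpow_add, zpow_mul, hv3z, one_zpow, mul_one]
  rw [hjm] at hj
  have h3 : j % 3 = 0 ∨ j % 3 = 1 ∨ j % 3 = 2 := by omega
  rcases h3 with h | h | h
  · exfalso
    rw [h, zpow_zero, mul_one] at hj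
    exact hvW ((mem_normalizer_iff.1 hgW v).2 (hj ▸ hw))
  · rw [h, zpow_one] at hj
    rw [hj]; simpa using hw
  · exfalso
    rw [h] at hj
    have hj' : g * v * g⁻¹ = w * (v * v) := by
      rw [hj]; congr 1; rw [← pow_two]; norm_cast
    -- conjugating again
    obtain ⟨w₂, hw₂, h2⟩ : ∃ w₂ ∈ W, g * (g * v * g⁻¹) * g⁻¹ = w₂ * v := by
      refine ⟨(g * w * g⁻¹) * (w * w), mul_mem (hgW' w hw) (mul_mem hw hw), ?_⟩
      have e1 : g * (g * v * g⁻¹) * g⁻¹ = (g * w * g⁻¹) * ((g * v * g⁻¹) * (g * v * g⁻¹)) := by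
        nth_rw 1 [hj']; group
      have hwv : v * w = w * v := comm_of hVe.1 hv (hWV hw)
      have e2 : w * (v * v) * (w * (v * v)) = w * w * v := by
        calc w * (v * v) * (w * (v * v)) = w * v * (v * w) * v * v := by group
          _ = w * v * (w * v) * v * v := by rw [hwv]
          _ = w * (v * w) * v * v * v := by group
          _ = w * (w * v) * v * v * v := by rw [hwv]
          _ = w * w * v * (v ^ 3) := by simp only [pow_succ, pow_zero, one_mul, mul_assoc]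
          _ = w * w * v := by rw [hv3, mul_one]
      rw [e1, hj', e2]; group
    obtain ⟨w₃, hw₃, h3⟩ : ∃ w₃ ∈ W, g * (g * (g * v * g⁻¹) * g⁻¹) * g⁻¹ = w₃ * (v * v) := by
      refine ⟨(g * w₂ * g⁻¹) * w, mul_mem (hgW' w₂ hw₂) hw, ?_⟩
      rw [h2]
      have e1 : g * (w₂ * v) * g⁻¹ = (g * w₂ * g⁻¹) * (g * v * g⁻¹) := by group
      rw [e1, hj']; group
    have h4 : g * (g * (g * v * g⁻¹) * g⁻¹) * g⁻¹ = v := by
      have : g * (g * (g * v * g⁻¹) * g⁻¹) * g⁻¹ = g ^ 3 * v * (g ^ 3)⁻¹ := by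
        simp only [pow_succ, pow_zero, one_mul, mul_inv_rev, mul_assoc]
      rw [this, hg3]; simp
    rw [h4] at h3
    apply hvW
    have h5 : w₃ * v = 1 := by
      have : w₃ * v * v = 1 * v := by rw [one_mul, mul_assoc]; exact h3.symm
      exact mul_right_cancel this
    have h6 : v = w₃⁻¹ := eq_inv_of_mul_eq_one_right h5
    rw [h6]; exact inv_mem hw₃

/-- the hom `e ↦ [e, v]` -/
theorem exists_hom {V W E : Subgroup G} (hVe : IsElementaryAbelian 3 V) (hWV : W ≤ V)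
    (hEW : E ≤ 𝓒(W)) {v : G} (h : ∀ e ∈ E, e * v * e⁻¹ * v⁻¹ ∈ W) :
    ∃ f : E →* W, ∀ e : E, ((f e : W) : G) = e * v * (e : G)⁻¹ * v⁻¹ := by
  refine ⟨MonoidHom.mk' (fun e => ⟨e * v * (e : G)⁻¹ * v⁻¹, h e e.2⟩) ?_, fun e => rfl⟩
  intro a b
  apply Subtype.ext
  change (a * b : G) * v * (a * b : G)⁻¹ * v⁻¹ = (a * v * (a : G)⁻¹ * v⁻¹) * (b * v * (b : G)⁻¹ * v⁻¹)
  have h1 := h b b.2
  have h2 := h a a.2
  have h3 : (b * v * (b : G)⁻¹ * v⁻¹) * a = a * (b * v * (b : G)⁻¹ * v⁻¹) := mem_cz.1 (hEW a.2) _ h1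
  have h4 := comm_of hVe.1 (hWV h2) (hWV h1)
  calc (a * b : G) * v * (a * b : G)⁻¹ * v⁻¹ = a * (b * v * (b : G)⁻¹ * v⁻¹) * v * (a : G)⁻¹ * v⁻¹ := by group
    _ = (b * v * (b : G)⁻¹ * v⁻¹) * a * v * (a : G)⁻¹ * v⁻¹ := by rw [h3]
    _ = (b * v * (b : G)⁻¹ * v⁻¹) * (a * v * (a : G)⁻¹ * v⁻¹) := by group
    _ = _ := h4.symm

omit [Finite G] in
theorem cube_mul {d ε f : G} (hfe : f * ε = d * (ε * f)) (ce : d * ε = ε * d) (cf : d * f = f * d) :
    (ε * f) ^ 3 = d ^ 3 * ε ^ 3 * f ^ 3 := by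
  have k2 : ε * f * (ε * f) = d * (ε * ε) * (f * f) := by
    calc ε * f * (ε * f) = ε * (f * ε) * f := by group
      _ = ε * (d * (ε * f)) * f := by rw [hfe]
      _ = (ε * d) * ε * f * f := by group
      _ = (d * ε) * ε * f * f := by rw [← ce]
      _ = _ := by group
  have k3 : f * f * ε = d * d * ε * (f * f) := by
    calc f * f * ε = f * (f * ε) := by group
      _ = f * (d * (ε * f)) := by rw [hfe]
      _ = (f * d) * ε * f := by group
      _ = (d * f) * ε * f := by rw [← cf]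
      _ = d * (f * ε) * f := by group
      _ = d * (d * (ε * f)) * f := by rw [hfe]
      _ = _ := by group
  have k4 : (ε * f) ^ 3 = d * (ε * ε) * (f * f * ε) * f := by
    have : (ε * f) ^ 3 = (ε * f * (ε * f)) * (ε * f) := by
      simp only [pow_succ, pow_zero, one_mul]
    rw [this, k2]; group
  have k5 : ε * ε * (d * d) = d * d * (ε * ε) := by
    calc ε * ε * (d * d) = ε * (ε * d) * d := by group
      _ = ε * (d * ε) * d := by rw [← ce]
      _ = (ε * d) * (ε * d) := by group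
      _ = (d * ε) * (d * ε) := by rw [← ce]
      _ = d * (ε * d) * ε := by group
      _ = d * (d * ε) * ε := by rw [← ce]
      _ = _ := by group
  rw [k4, k3]
  calc d * (ε * ε) * (d * d * ε * (f * f)) * f = d * (ε * ε * (d * d)) * ε * (f * f) * f := by group
    _ = d * (d * d * (ε * ε)) * ε * (f * f) * f := by rw [k5]
    _ = _ := by simp only [pow_succ, pow_zero, one_mul, mul_assoc]

/-- the structure we work with -/
structure Cfg (V W : Subgroup G) : Prop where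
  VN : ⊤ ≤ 𝓝(V)
  Ve : IsElementaryAbelian 3 V
  Vc : Nat.card V = 27
  alp : ∀ y ∈ 𝓒(V), y ^ 3 = 1 → y ∈ V
  WV : W ≤ V
  WN : ⊤ ≤ 𝓝(W)
  Wc : Nat.card W = 9
  good : ∀ E : Subgroup G, IsElementaryAbelian 3 E → Nat.card E = 81 → W ≤ E ∧ E ⊓ V = W ∧
    ∀ v ∈ V, v ∉ W → ∀ w ∈ W, ∃ e ∈ E, e * v * e⁻¹ * v⁻¹ = w

theorem Cfg.cz {V W : Subgroup G} (h : Cfg V W) {v y : G} (hv : v ∈ V) (hvW : v ∉ W) (hyW : y ∈ 𝓒(W))
    (hyv : y * v = v * y) : y ∈ 𝓒(V) := by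
  have h1 := sup_zpowers_eq h.Ve h.WV (by rw [h.Vc, h.Wc]) hv hvW
  have h2 : W ⊔ zpowers v ≤ 𝓒(zpowers y) := by
    refine sup_le ?_ ?_
    · rw [le_cz_zpowers]
      exact fun w hw => mem_cz.1 hyW w hw
    · rw [le_cz_zpowers]
      rintro _ ⟨k, rfl⟩
      exact ((show Commute y v from hyv).zpow_right k).symm.eq
  rw [h1, le_cz_comm, zpowers_le] at h2
  exact h2

/-- uniqueness of the normalized one -/
theorem Cfg.norm_le {V W : Subgroup G} (h : Cfg V W) {E F : Subgroup G} (hE : IsElementaryAbelian 3 E)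
    (hEc : Nat.card E = 81) (hF : IsElementaryAbelian 3 F) (hFc : Nat.card F = 81) (hEF : E ≤ 𝓝(F)) :
    F ≤ E := by
  obtain ⟨hWE, hEV, hEg⟩ := h.good E hE hEc
  obtain ⟨hWF, hFV, hFg⟩ := h.good F hF hFc
  have hEW : ∀ e ∈ E, ∀ w ∈ W, w * e = e * w := fun e he w hw => comm_of hE.1 (hWE hw) he
  have hFW : ∀ e ∈ F, ∀ w ∈ W, w * e = e * w := fun e he w hw => comm_of hF.1 (hWF hw) he
  have hVW : ∀ e ∈ V, ∀ w ∈ W, w * e = e * w := fun e he w hw => comm_of h.Ve.1 (h.WV hw) he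
  have hsec : ∀ g : G, g ^ 3 = 1 → ∀ v ∈ V, g * v * g⁻¹ * v⁻¹ ∈ W := fun g hg v hv =>
    section_three h.Ve h.WV (by rw [h.Vc, h.Wc]) hg (h.VN (mem_top g)) (h.WN (mem_top g)) hv
  -- commutators
  have hcm : ∀ e ∈ E, ∀ f ∈ F, e⁻¹ * f * e * f⁻¹ ∈ W := by
    intro e he f hf
    have h1 : e⁻¹ * f * e * f⁻¹ ∈ F := by
      have := (mem_normalizer_iff.1 (hEF (inv_mem he)) f).1 hf
      rw [inv_inv] at this
      exact mul_mem this (inv_mem hf)
    have h2 : e⁻¹ * f * e * f⁻¹ ∈ 𝓒(W) := by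
      rw [mem_cz]; intro w hw
      exact hFW _ h1 w hw
    obtain ⟨v, hv, hvW⟩ : ∃ v ∈ V, v ∉ W := by
      by_contra hcon
      push Not at hcon
      have := Subgroup.card_le_of_le (show V ≤ W from hcon)
      rw [h.Vc, h.Wc] at this
      omega
    have h3 : e⁻¹ * f * e * f⁻¹ ∈ 𝓒(V) := by
      apply h.cz hv hvW h2
      obtain ⟨a, ha, ha'⟩ : ∃ a ∈ W, e⁻¹ * v * e = a * v :=
        ⟨_, hsec e⁻¹ (by rw [inv_pow, hE.2 e he, inv_one]) v hv, by group⟩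
      obtain ⟨b, hb, hb'⟩ : ∃ b ∈ W, f * v * f⁻¹ = b * v := ⟨_, hsec f (hF.2 f hf) v hv, by group⟩
      have e1 : f⁻¹ * v * f = b⁻¹ * v := by
        have h4 : v = b⁻¹ * (f * v * f⁻¹) := by rw [hb']; group
        have h5 : b⁻¹ * f = f * b⁻¹ := hFW f hf _ (inv_mem hb)
        calc f⁻¹ * v * f = f⁻¹ * (b⁻¹ * (f * v * f⁻¹)) * f := by rw [← h4]
          _ = f⁻¹ * (b⁻¹ * f) * v := by group
          _ = f⁻¹ * (f * b⁻¹) * v := by rw [h5]
          _ = _ := by group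
      have e2 : e * v * e⁻¹ = a⁻¹ * v := by
        have h4 : v = a⁻¹ * (e⁻¹ * v * e) := by rw [ha']; group
        have h5 : a⁻¹ * e⁻¹ = e⁻¹ * a⁻¹ := hEW _ (inv_mem he) _ (inv_mem ha)
        calc e * v * e⁻¹ = e * (a⁻¹ * (e⁻¹ * v * e)) * e⁻¹ := by rw [← h4]
          _ = e * (a⁻¹ * e⁻¹) * v := by group
          _ = e * (e⁻¹ * a⁻¹) * v := by rw [h5]
          _ = _ := by group
      have e3 : (e⁻¹ * f * e * f⁻¹) * v * (e⁻¹ * f * e * f⁻¹)⁻¹ = v := by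
        have s1 : f⁻¹ * v * f = b⁻¹ * v := e1
        have c1 : e * b⁻¹ = b⁻¹ * e := (hEW e he _ (inv_mem hb)).symm
        have c2 : f * (b⁻¹ * a⁻¹) = (b⁻¹ * a⁻¹) * f := (hFW f hf _ (mul_mem (inv_mem hb) (inv_mem ha))).symm
        have c3 : e⁻¹ * (b⁻¹ * a⁻¹ * b) = (b⁻¹ * a⁻¹ * b) * e⁻¹ :=
          (hEW e⁻¹ (inv_mem he) _ (mul_mem (mul_mem (inv_mem hb) (inv_mem ha)) hb)).symm
        have c4 : b⁻¹ * a⁻¹ * b * a = 1 := by
          have := hVW _ (h.WV (inv_mem ha)) _ (inv_mem hb)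
          rw [this]; group
        calc (e⁻¹ * f * e * f⁻¹) * v * (e⁻¹ * f * e * f⁻¹)⁻¹
            = e⁻¹ * f * e * (f⁻¹ * v * f) * e⁻¹ * f⁻¹ * e := by group
          _ = e⁻¹ * f * (e * b⁻¹) * v * e⁻¹ * f⁻¹ * e := by rw [s1]; group
          _ = e⁻¹ * f * b⁻¹ * (e * v * e⁻¹) * f⁻¹ * e := by rw [c1]; group
          _ = e⁻¹ * (f * (b⁻¹ * a⁻¹)) * v * f⁻¹ * e := by rw [e2]; group
          _ = e⁻¹ * (b⁻¹ * a⁻¹) * (f * v * f⁻¹) * e := by rw [c2]; group
          _ = (e⁻¹ * (b⁻¹ * a⁻¹ * b)) * v * e := by rw [hb']; group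
          _ = (b⁻¹ * a⁻¹ * b) * (e⁻¹ * v * e) := by rw [c3]; group
          _ = (b⁻¹ * a⁻¹ * b * a) * v := by rw [ha']; group
          _ = v := by rw [c4, one_mul]
      exact mul_inv_eq_iff_eq_mul.1 e3
    have h4 : e⁻¹ * f * e * f⁻¹ ∈ V := h.alp _ h3 (hF.2 _ h1)
    rw [← hFV]; exact mem_inf.2 ⟨h1, h4⟩
  -- factorization of elements of `F`
  have hfac : ∀ f ∈ F, ∃ e ∈ E, e⁻¹ * f ∈ V := by
    intro f hf
    obtain ⟨v, hv, hvW⟩ : ∃ v ∈ V, v ∉ W := by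
      by_contra hcon
      push Not at hcon
      have := Subgroup.card_le_of_le (show V ≤ W from hcon)
      rw [h.Vc, h.Wc] at this
      omega
    obtain ⟨e, he, hev⟩ := hEg v hv hvW _ (hsec f (hF.2 f hf) v hv)
    refine ⟨e, he, h.alp _ ?_ ?_⟩
    · apply h.cz hv hvW
      · rw [mem_cz]; intro w hw
        calc w * (e⁻¹ * f) = (w * e⁻¹) * f := by group
          _ = e⁻¹ * (w * f) := by rw [hEW _ (inv_mem he) w hw]; group
          _ = _ := by rw [hFW f hf w hw]; group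
      · have h5 : e * v * e⁻¹ = f * v * f⁻¹ := mul_right_cancel hev
        calc e⁻¹ * f * v = e⁻¹ * (f * v * f⁻¹) * f := by group
          _ = e⁻¹ * (e * v * e⁻¹) * f := by rw [h5]
          _ = _ := by group
    · -- the cube of `e⁻¹ f`
      obtain ⟨c, hc, hc'⟩ : ∃ c ∈ W, e⁻¹ * f = c * f * e⁻¹ := ⟨_, hcm e he f hf, by group⟩
      have ce : c * e⁻¹ = e⁻¹ * c := hEW _ (inv_mem he) c hc
      have cf : c * f = f * c := hFW f hf c hc
      have hfe : f * e⁻¹ = c⁻¹ * (e⁻¹ * f) := by rw [hc']; group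
      have ce' : c⁻¹ * e⁻¹ = e⁻¹ * c⁻¹ := hEW _ (inv_mem he) _ (inv_mem hc)
      have cf' : c⁻¹ * f = f * c⁻¹ := hFW f hf _ (inv_mem hc)
      have hci3 : c⁻¹ ^ 3 = 1 := by rw [inv_pow, hF.2 c (hWF hc), inv_one]
      have hf3 := hF.2 f hf
      have he3 : e⁻¹ ^ 3 = 1 := by rw [inv_pow, hE.2 e he, inv_one]
      rw [cube_mul hfe ce' cf', hci3, he3, hf3]; simp
  intro f hf
  obtain ⟨e, he, hc⟩ := hfac f hf
  obtain ⟨c, hcdef⟩ : ∃ c, c = e⁻¹ * f := ⟨_, rfl⟩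
  rw [← hcdef] at hc
  have hfec : f = e * c := by rw [hcdef]; group
  by_cases hcW : c ∈ W
  · rw [hfec]; exact mul_mem he (hWE hcW)
  exfalso
  -- `ψ(g) = [g, c]`
  have hkey : ∀ w ∈ W, w ∈ zpowers (e * c * e⁻¹ * c⁻¹) := by
    intro w hw
    obtain ⟨f', hf', hw'⟩ := hFg c hc hcW w hw
    have h1 : f' * f = f * f' := comm_of hF.1 hf' hf
    obtain ⟨e', he', hc'⟩ := hfac f' hf'
    obtain ⟨c', hc'def⟩ : ∃ c', c' = e'⁻¹ * f' := ⟨_, rfl⟩
    rw [← hc'def] at hc'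
    have hf'e : f' = e' * c' := by rw [hc'def]; group
    obtain ⟨u, hu, j, hj⟩ := mem_of_index_three h.Ve h.WV (by rw [h.Vc, h.Wc]) hc hcW hc'
    -- `d = e⁻¹ f' e f'⁻¹`
    have hdW := hcm e he f' hf'
    obtain ⟨d, hd⟩ : ∃ d, d = e⁻¹ * f' * e * f'⁻¹ := ⟨_, rfl⟩
    rw [← hd] at hdW
    have h2 : w = d⁻¹ := by
      -- `f' c f'⁻¹ = w c` and `f' e f'⁻¹ = e d`
      have h3 : f' * c * f'⁻¹ = w * c := by rw [← hw']; group
      have h4 : f' * e * f'⁻¹ = e * d := by rw [hd]; group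
      have h5 : e * d * (w * c) = e * c := by
        rw [← h3, ← h4, ← hfec]
        calc f' * e * f'⁻¹ * (f' * c * f'⁻¹) = f' * (e * c) * f'⁻¹ := by group
          _ = f' * f * f'⁻¹ := by rw [← hfec]
          _ = f := by rw [h1]; group
      have h6 : d * w = 1 := by
        have : e * (d * w) * c = e * 1 * c := by rw [mul_one, ← h5]; group
        exact mul_left_cancel (mul_right_cancel this)
      exact (eq_inv_of_mul_eq_one_right h6)
    -- `d = c' e c'⁻¹ e⁻¹`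
    have h3 : ∀ i : ℤ, c ^ i * e * (c ^ i)⁻¹ * e⁻¹ = (e * c * e⁻¹ * c⁻¹) ^ (-i) := by
      intro i
      have hψ : e * c * e⁻¹ * c⁻¹ ∈ W := hsec e (hE.2 e he) c hc
      obtain ⟨q, hq⟩ : ∃ q, q = e * c * e⁻¹ * c⁻¹ := ⟨_, rfl⟩
      rw [← hq] at hψ ⊢
      have h4 : e * c * e⁻¹ = q * c := by rw [hq]; group
      have h5 : e * c ^ i * e⁻¹ = q ^ i * c ^ i := by
        rw [← conj_zpow, h4, (show Commute q c from hVW c hc q hψ).mul_zpow]
      have h6 : Commute (c ^ i) (q ^ i) := by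
        exact ((show Commute c q from (hVW c hc q hψ).symm).zpow_left i).zpow_right i
      calc c ^ i * e * (c ^ i)⁻¹ * e⁻¹ = c ^ i * (e * c ^ i * e⁻¹)⁻¹ := by group
        _ = c ^ i * (q ^ i * c ^ i)⁻¹ := by rw [h5]
        _ = c ^ i * (c ^ i * q ^ i)⁻¹ := by rw [h6.eq]
        _ = c ^ i * (q ^ i)⁻¹ * (c ^ i)⁻¹ := by group
        _ = (q ^ i)⁻¹ * c ^ i * (c ^ i)⁻¹ := by rw [h6.inv_right.eq]
        _ = q ^ (-i) := by rw [mul_inv_cancel_right, zpow_neg]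
    have h4 : d = e⁻¹ * e' * (c' * e * c'⁻¹ * e⁻¹) * e * e'⁻¹ := by
      rw [hd, hf'e]; group
    have h5 : c' * e * c'⁻¹ * e⁻¹ = (e * c * e⁻¹ * c⁻¹) ^ (-j) := by
      rw [hj]
      have hue : u * e = e * u := hEW e he u hu
      have huc : Commute u (c ^ j) := (show Commute u c from hVW c hc u hu).zpow_right j
      rw [← h3 j]
      calc u * c ^ j * e * (u * c ^ j)⁻¹ * e⁻¹ = (u * c ^ j) * e * (u * c ^ j)⁻¹ * e⁻¹ := by group
        _ = (c ^ j * u) * e * (c ^ j * u)⁻¹ * e⁻¹ := by rw [huc.eq]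
        _ = c ^ j * (u * e) * u⁻¹ * (c ^ j)⁻¹ * e⁻¹ := by group
        _ = c ^ j * (e * u) * u⁻¹ * (c ^ j)⁻¹ * e⁻¹ := by rw [hue]
        _ = _ := by group
    have hψ : e * c * e⁻¹ * c⁻¹ ∈ W := hsec e (hE.2 e he) c hc
    have h6 : d = (e * c * e⁻¹ * c⁻¹) ^ (-j) := by
      rw [h4, h5]
      obtain ⟨q, hq⟩ : ∃ q, q = (e * c * e⁻¹ * c⁻¹) ^ (-j) := ⟨_, rfl⟩
      rw [← hq]
      have hqW : q ∈ W := by rw [hq]; exact zpow_mem hψ _
      have h7 : q * e = e * q := hEW e he q hqW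
      have h8 : q * e' = e' * q := hEW e' he' q hqW
      have h9 : e' * e = e * e' := comm_of hE.1 he' he
      calc e⁻¹ * e' * q * e * e'⁻¹ = e⁻¹ * e' * (q * e) * e'⁻¹ := by group
        _ = e⁻¹ * (e' * e) * q * e'⁻¹ := by rw [h7]; group
        _ = e⁻¹ * (e * e') * q * e'⁻¹ := by rw [h9]
        _ = (e' * q) * e'⁻¹ := by group
        _ = q := by rw [← h8]; group
    rw [h2, h6]
    exact inv_mem (zpow_mem (mem_zpowers _) _)
  have h1 := Subgroup.card_le_of_le (show W ≤ zpowers (e * c * e⁻¹ * c⁻¹) from hkey)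
  have hψ : e * c * e⁻¹ * c⁻¹ ∈ W := hsec e (hE.2 e he) c hc
  have h2 : orderOf (e * c * e⁻¹ * c⁻¹) ∣ 3 := orderOf_dvd_of_pow_eq_one (hE.2 _ (hWE hψ))
  have h3 := Nat.le_of_dvd (by norm_num) h2
  rw [h.Wc, Nat.card_zpowers] at h1
  omega

end CfsgLib.Kconn8
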