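import Cfsg.Agent.EqBase
import Cfsg.Agent.LibKconn8b
import Cfsg.Agent.LibPQ

set_option autoImplicit false

/-! 3-groups of rank at least 4 are 2-connected (seat helper8). -/

namespace CfsgLib.Kconn8

open Subgroup CfsgLib.BGPi Cfsg
open scoped Pointwise commutatorElement IsMulCommutative

universe u
variable {G : Type u} [Group G] [Finite G]

theorem cz_of_gen {V W : Subgroup G} (hVe : IsElementaryAbelian 3 V) (hWV : W ≤ V)
    (hc : Nat.card V ≤ 3 * Nat.card W) {v y : G} (hv : v ∈ V) (hvW : v ∉ W) (hyW : y ∈ 𝓒(W))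
    (hyv : y * v = v * y) : y ∈ 𝓒(V) := by
  have h1 := sup_zpowers_eq hVe hWV hc hv hvW
  have h2 : W ⊔ zpowers v ≤ 𝓒(zpowers y) := by
    refine sup_le ?_ ?_
    · rw [le_cz_zpowers]
      exact fun w hw => mem_cz.1 hyW w hw
    · rw [le_cz_zpowers]
      rintro _ ⟨k, rfl⟩
      exact ((show Commute y v from hyv).zpow_right k).symm.eq
  rw [h1, le_cz_comm, zpowers_le] at h2
  exact h2

theorem card_hom {E : Subgroup G} {W K : Subgroup G} (f : E →* W) (hK : ∀ e : E, f e = 1 → (e : G) ∈ K) :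
    Nat.card E ≤ Nat.card K * Nat.card f.range := by
  have h1 := Subgroup.card_mul_index f.ker
  rw [Subgroup.index_ker] at h1
  rw [← h1]
  apply Nat.mul_le_mul_right
  apply Nat.card_le_card_of_injective (fun e : f.ker => (⟨(e : E), hK e e.2⟩ : K))
  intro a b hab
  exact Subtype.ext (Subtype.ext (congrArg (fun k : K => (k : G)) hab))

theorem pow_three_cases {n : ℕ} {N : ℕ} (h : N = 3 ^ n) (hN : N ≤ 27) : N = 1 ∨ N = 3 ∨ N = 9 ∨ N = 27 := by
  have hn : n ≤ 3 := by
    by_contra hcon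
    have h1 : 3 ^ 4 ≤ 3 ^ n := Nat.pow_le_pow_right (by norm_num) (by omega)
    omega
  have : n = 0 ∨ n = 1 ∨ n = 2 ∨ n = 3 := by omega
  rcases this with rfl | rfl | rfl | rfl <;> simp_all

theorem rank_three (hG : IsPGroup 3 G) {X : Subgroup G} (hX : IsElementaryAbelian 3 X)
    (hXc : 3 ^ 2 ≤ Nat.card X) (hr : PRankLE 3 2 𝓒(X)) : PRankLE 3 3 (⊤ : Subgroup G) := by
  by_contra hcon
  have hp := Nat.prime_three
  haveI : Fact (Nat.Prime 3) := ⟨hp⟩
  have hP : IsPGroup 3 (⊤ : Subgroup G) := hG.to_subgroup ⊤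
  obtain ⟨E₁, -, hE₁, hE₁c⟩ := (not_rank_iff hp).1 hcon
  have hE₁c' : Nat.card E₁ = 81 := by rw [hE₁c]; norm_num
  have hXX : ∀ Y ≤ 𝓒(X), IsElementaryAbelian 3 Y → Y ≤ X := by
    intro Y hY hYe
    by_contra h
    exact rank_cent_of_sup hp hX hXc hYe (fun a ha b hb => mem_cz.1 (hY hb) a ha) h hr
  have hXc9 : Nat.card X = 9 := by
    have h1 := rank_iff.1 hr X (comm_iff_le_cz.1 hX.1) hX
    omega
  -- maximal normal elementary abelian subgroup
  obtain ⟨V, hV, hmax⟩ := (Set.toFinite {B : Subgroup G | ⊤ ≤ 𝓝(B) ∧ IsElementaryAbelian 3 B}).exists_maximal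
    ⟨⊥, by rw [Subgroup.normalizer_eq_top], ⟨by rw [comm_iff_comm_bot]; simp, by
      intro a ha; rw [mem_bot.1 ha, one_pow]⟩⟩
  obtain ⟨hPV, hVe⟩ := hV
  have halp : ∀ y ∈ 𝓒(V), y ^ 3 = 1 → y ∈ V := fun y hy hy3 =>
    alperin_max hp (by norm_num) hP le_top hPV hVe
      (fun B _ h2 h3 h4 => le_antisymm (hmax ⟨h2, h3⟩ h4) h4) (mem_top y) hy3 hy
  have hnV : ∀ g : G, g ∈ 𝓝(V) := fun g => hPV (mem_top g)
  -- central element
  haveI : Nontrivial G := by
    rw [← Finite.one_lt_card_iff_nontrivial]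
    have h1 := Subgroup.card_le_card_group E₁
    omega
  haveI := hG.center_nontrivial
  have h3c : 3 ∣ Nat.card (center G) := by
    obtain ⟨n, hn⟩ := (hG.to_subgroup (center G)).exists_card_eq
    cases n with
    | zero =>
      rw [pow_zero] at hn
      exact absurd (Finite.one_lt_card (α := center G)) (by omega)
    | succ n => rw [hn, pow_succ]; exact Dvd.intro_left _ rfl
  obtain ⟨z', hz'⟩ := exists_prime_orderOf_dvd_card' 3 h3c
  obtain ⟨z, hzdef⟩ : ∃ z : G, z = z' := ⟨_, rfl⟩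
  have hzo : orderOf z = 3 := by rw [hzdef, orderOf_coe]; exact hz'
  have hzc : ∀ g : G, g * z = z * g := by rw [hzdef]; exact mem_center_iff.1 z'.2
  have hz3 : z ^ 3 = 1 := by rw [← hzo, pow_orderOf_eq_one]
  have hzV : z ∈ V := halp z (mem_cz.2 fun v _ => hzc v) hz3
  have hzX : z ∈ X := hXX (zpowers z) (by
    rw [zpowers_le]; exact mem_cz.2 fun v _ => hzc v) (elab_zpowers hz3) (mem_zpowers z)
  -- `X` is not contained in `V`
  have hXV : ¬ X ≤ V := by
    intro h
    have h1 : V ≤ X := hXX V ((comm_iff_le_cz.1 hVe.1).trans (cz_anti h)) hVe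
    have h2 : V = X := le_antisymm h1 h
    have h3 := relIndex_cent hp hP le_top hPV hVe (by rw [h2, hXc9]; norm_num)
    have h4 := inter_card (k := 3) (D := E₁) hp h3 le_top (by rw [hE₁c])
    rw [h2] at h4
    have h5 := Subgroup.card_le_of_le (hXX (E₁ ⊓ 𝓒(X)) inf_le_right (elab_mono inf_le_left hE₁))
    omega
  obtain ⟨x, hxX, hxV⟩ := SetLike.not_le_iff_exists.1 hXV
  have hx3 : x ^ 3 = 1 := hX.2 x hxX
  have hCx : ∀ y : G, y * x = x * y → y ^ 3 = 1 → y ∈ X := by
    intro y hy hy3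
    have h1 : X ≤ 𝓒(zpowers y) := by
      have h2 := sup_zpowers_eq hX (zpowers_le.2 hzX) (by rw [hXc9, Nat.card_zpowers, hzo])
        hxX (fun h => hxV ((zpowers_le.2 hzV) h))
      rw [← h2]
      refine sup_le ?_ ?_
      · rw [le_cz_zpowers]
        rintro _ ⟨k, rfl⟩
        exact ((show Commute y z from hzc y).zpow_right k).symm.eq
      · rw [le_cz_zpowers]
        rintro _ ⟨k, rfl⟩
        exact ((show Commute y x from hy).zpow_right k).symm.eq
    exact hXX _ (le_cz_comm.1 h1) (elab_zpowers hy3) (mem_zpowers y)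
  -- elementary abelian subgroups normalized by `x`
  have hF27 : ∀ F : Subgroup G, IsElementaryAbelian 3 F → x ∈ 𝓝(F) → Nat.card F ≤ 27 := by
    intro F hF hxF
    by_cases hxF' : x ∈ F
    · have h1 : F ≤ X := fun f hf => hCx f (comm_of hF.1 hf hxF') (hF.2 f hf)
      have := Subgroup.card_le_of_le h1
      omega
    · have h1 : F ⊓ Subgroup.centralizer {x} < X := by
        refine lt_of_le_of_ne ?_ ?_
        · rintro f ⟨hf, hfx⟩
          exact hCx f (mem_centralizer_singleton_iff.1 hfx) (hF.2 f hf)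
        · intro h
          rw [← h] at hxX
          exact hxF' hxX.1
      have h2 := pgroup_mul_card_le hp (hG.to_subgroup X) h1
      have h3 := card_le_cent_cube hF hxF hx3
      rw [hXc9] at h2
      have h4 : Nat.card ↥(F ⊓ Subgroup.centralizer {x}) ≤ 3 := by omega
      calc Nat.card F ≤ _ := h3
        _ ≤ 3 ^ 3 := Nat.pow_le_pow_left h4 3
        _ = 27 := by norm_num
  have hVc : Nat.card V = 27 := by
    obtain ⟨n, hn⟩ := (hG.to_subgroup V).exists_card_eq
    have hEV : E₁ ⊓ 𝓒(V) ≤ V := fun y hy => halp y hy.2 (hE₁.2 y hy.1)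
    have h1 := hF27 V hVe (hnV x)
    rcases pow_three_cases hn h1 with h | h | h | h
    · exfalso
      have := card_eq_one.1 h
      rw [this] at hzV
      rw [mem_bot.1 hzV, orderOf_one] at hzo
      omega
    · exfalso
      have h2 : zpowers z = V := eq_of_card_le (zpowers_le.2 hzV) (by rw [h, Nat.card_zpowers, hzo])
      have h3 : E₁ ≤ 𝓒(V) := by
        rw [← h2, le_cz_zpowers]
        exact fun a _ => hzc a
      rw [inf_eq_left.2 h3] at hEV
      have := Subgroup.card_le_of_le hEV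
      omega
    · exfalso
      have h3 := relIndex_cent hp hP le_top hPV hVe (by rw [h]; norm_num)
      have h4 := inter_card (k := 3) (D := E₁) hp h3 le_top (by rw [hE₁c])
      have := Subgroup.card_le_of_le hEV
      omega
    · exact h
  have hVne : V ≠ ⊥ := by
    intro h
    rw [h, Subgroup.card_bot] at hVc
    omega
  obtain ⟨W, hW⟩ : ∃ W : Subgroup G, W = ⁅V, (⊤ : Subgroup G)⁆ := ⟨_, rfl⟩
  have hWV : W < V := by
    rw [hW]
    exact CfsgLib.PQ.commutator_lt_of_pgroup (hG.to_subgroup V) hP hPV hVne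
  have hWc9 : Nat.card W ≤ 9 := by
    have := pgroup_mul_card_le hp (hG.to_subgroup V) hWV
    omega
  have hWN : ⊤ ≤ 𝓝(W) := by rw [hW]; exact right_le_nz_comm V ⊤
  -- a normal subgroup of order 9 in `V`
  obtain ⟨V₂, hV₂, hPV₂, hV₂c⟩ := exists_normal_card hp hP le_top hPV (k := 2) (by rw [hVc]; norm_num)
  have hV₂e := elab_mono hV₂ hVe
  have hV₂c' : Nat.card V₂ = 9 := by rw [hV₂c]; norm_num
  have hkey : ∀ E : Subgroup G, IsElementaryAbelian 3 E → Nat.card E = 81 → E ⊓ V = W ∧ Nat.card W = 9 ∧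
      ∀ v ∈ V, v ∉ W → ∀ w ∈ W, ∃ e ∈ E, e * v * e⁻¹ * v⁻¹ = w := by
    intro E hE hEc
    have hEV : E ⊓ 𝓒(V) ≤ E ⊓ V := fun y hy => mem_inf.2 ⟨hy.1, halp y hy.2 (hE.2 y hy.1)⟩
    have hnVE : ¬ V ≤ E := by
      intro h
      have h1 : E ≤ 𝓒(V) := (comm_iff_le_cz.1 hE.1).trans (cz_anti h)
      rw [inf_eq_left.2 h1] at hEV
      have := Subgroup.card_le_of_le (hEV.trans inf_le_right)
      omega
    -- `|E ∩ V| ≥ 9`
    have h9 : 9 ≤ Nat.card ↥(E ⊓ V) := by
      obtain ⟨v, hv, hvV₂⟩ : ∃ v ∈ V, v ∉ V₂ := by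
        by_contra hcon
        push Not at hcon
        have := Subgroup.card_le_of_le (show V ≤ V₂ from hcon)
        omega
      have hsec : ∀ g : G, g ^ 3 = 1 → ∀ v ∈ V, g * v * g⁻¹ * v⁻¹ ∈ V₂ := fun g hg v hv =>
        section_three hVe hV₂ (by rw [hVc, hV₂c']) hg (hnV g) (hPV₂ (mem_top g)) hv
      obtain ⟨f, hf⟩ := exists_hom (E := E ⊓ 𝓒(V₂)) hVe hV₂ inf_le_right (v := v)
        (fun e he => hsec e (hE.2 e he.1) v hv)
      have hker : ∀ e : ↥(E ⊓ 𝓒(V₂)), f e = 1 → (e : G) ∈ E ⊓ V := by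
        intro e he
        have h1 := hf e
        rw [he] at h1
        have h2 : (e : G) * v * (e : G)⁻¹ * v⁻¹ = 1 := h1.symm
        rw [mul_inv_eq_one, mul_inv_eq_iff_eq_mul] at h2
        exact hEV (mem_inf.2 ⟨e.2.1, cz_of_gen hVe hV₂ (by rw [hVc, hV₂c']) hv hvV₂ e.2.2 h2⟩)
      have hc1 := card_hom f hker
      have hrel := relIndex_cent hp hP le_top hPV₂ hV₂e (by rw [hV₂c])
      have hc2 := inter_card (k := 3) (D := E) hp hrel le_top (by rw [hEc]; norm_num)
      have hrdvd : Nat.card f.range ∣ 9 := by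
        rw [← hV₂c']; exact Subgroup.card_subgroup_dvd_card f.range
      by_cases hr3 : Nat.card f.range ≤ 3
      · nlinarith
      · have hr9 : Nat.card f.range = 9 := by
          have h1 := Nat.le_of_dvd (by norm_num) hrdvd
          interval_cases (Nat.card f.range) <;> omega
        have hsurj : ∀ w ∈ V₂, ∃ e ∈ E, e ∈ 𝓒(V₂) ∧ e * v * e⁻¹ * v⁻¹ = w := by
          intro w hw
          have h1 : f.range = ⊤ := by
            apply eq_of_card_le le_top
            rw [Subgroup.card_top, hr9, hV₂c']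
          have h2 : (⟨w, hw⟩ : V₂) ∈ f.range := by rw [h1]; exact mem_top _
          obtain ⟨e, he⟩ := h2
          exact ⟨e, e.2.1, e.2.2, by rw [← hf, he]⟩
        have hE2 : E ≤ 𝓒(V₂) := by
          intro g hg
          rw [mem_cz]
          intro w hw
          obtain ⟨e, he, heC, hew⟩ := hsurj w hw
          have hge : g * e = e * g := comm_of hE.1 hg he
          obtain ⟨b, hb, hgv⟩ : ∃ b ∈ V₂, g * v * g⁻¹ = b * v :=
            ⟨_, hsec g (hE.2 g hg) v hv, by group⟩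
          have heb : b * e = e * b := mem_cz.1 heC b hb
          have hbw : b * w = w * b := comm_of hVe.1 (hV₂ hb) (hV₂ hw)
          have h1 : g * w * g⁻¹ = w := by
            calc g * w * g⁻¹ = g * (e * v * e⁻¹ * v⁻¹) * g⁻¹ := by rw [hew]
              _ = (g * e) * v * (g * e)⁻¹ * g * v⁻¹ * g⁻¹ := by group
              _ = (e * g) * v * (e * g)⁻¹ * g * v⁻¹ * g⁻¹ := by rw [hge]
              _ = e * (g * v * g⁻¹) * e⁻¹ * (g * v * g⁻¹)⁻¹ := by group
              _ = e * (b * v) * e⁻¹ * (b * v)⁻¹ := by rw [hgv]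
              _ = (e * b) * v * e⁻¹ * v⁻¹ * b⁻¹ := by group
              _ = (b * e) * v * e⁻¹ * v⁻¹ * b⁻¹ := by rw [heb]
              _ = b * (e * v * e⁻¹ * v⁻¹) * b⁻¹ := by group
              _ = b * w * b⁻¹ := by rw [hew]
              _ = w := by rw [hbw, mul_inv_cancel_right]
          rw [mul_inv_eq_iff_eq_mul] at h1
          exact h1.symm
        have h10 : Nat.card ↥(E ⊓ 𝓒(V₂)) = 81 := by rw [inf_eq_left.2 hE2, hEc]
        rw [h10, hr9] at hc1
        omega
    obtain ⟨F₀, hF₀⟩ : ∃ F₀ : Subgroup G, F₀ = E ⊓ V := ⟨_, rfl⟩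
    rw [← hF₀] at h9 ⊢
    have hF₀V : F₀ < V := lt_of_le_of_ne (by rw [hF₀]; exact inf_le_right) fun h => hnVE (by
      rw [← h, hF₀]; exact inf_le_left)
    have hF₀c : Nat.card F₀ = 9 := by
      have := pgroup_mul_card_le hp (hG.to_subgroup V) hF₀V
      omega
    have hEF₀ : E ≤ 𝓒(F₀) := (comm_iff_le_cz.1 hE.1).trans (cz_anti (by rw [hF₀]; exact inf_le_left))
    -- the map `e ↦ [e, v]` onto `F₀`
    have hon : ∀ v ∈ V, v ∉ F₀ → ∀ w ∈ F₀, ∃ e ∈ E, e * v * e⁻¹ * v⁻¹ = w := by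
      intro v hv hvF
      have hsec : ∀ e ∈ E, e * v * e⁻¹ * v⁻¹ ∈ F₀ := fun e he =>
        section_three hVe hF₀V.le (by rw [hVc, hF₀c]) (hE.2 e he) (hnV e)
          (by
            have := cz_le_nz F₀ (hEF₀ he)
            exact this) hv
      obtain ⟨f, hf⟩ := exists_hom (E := E) hVe hF₀V.le hEF₀ (v := v) hsec
      have hker : ∀ e : E, f e = 1 → (e : G) ∈ F₀ := by
        intro e he
        have h1 := hf e
        rw [he] at h1
        have h2 : (e : G) * v * (e : G)⁻¹ * v⁻¹ = 1 := h1.symm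
        rw [mul_inv_eq_one, mul_inv_eq_iff_eq_mul] at h2
        rw [hF₀]
        exact hEV (mem_inf.2 ⟨e.2, cz_of_gen hVe hF₀V.le (by rw [hVc, hF₀c]) hv hvF (hEF₀ e.2) h2⟩)
      have hc1 := card_hom f hker
      rw [hEc, hF₀c] at hc1
      have h1 : f.range = ⊤ := by
        apply eq_of_card_le le_top
        rw [Subgroup.card_top, hF₀c]; omega
      intro w hw
      have h2 : (⟨w, hw⟩ : F₀) ∈ f.range := by rw [h1]; exact mem_top _
      obtain ⟨e, he⟩ := h2
      exact ⟨e, e.2, by rw [← hf, he]⟩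
    have hFW : F₀ = W := by
      have hle : F₀ ≤ W := by
        obtain ⟨v, hv, hvF⟩ := SetLike.exists_of_lt hF₀V
        intro w hw
        obtain ⟨e, he, hew⟩ := hon v hv hvF w hw
        rw [hW, commutator_comm, ← hew]
        exact commutator_mem_commutator (mem_top e) hv
      exact eq_of_card_le hle (by rw [hF₀c]; exact hWc9)
    rw [← hFW]
    exact ⟨rfl, hF₀c, hon⟩
  obtain ⟨-, hWc, -⟩ := hkey E₁ hE₁ hE₁c'
  have hcfg : Cfg V W := ⟨hPV, hVe, hVc, halp, hWV.le, hWN, hWc, fun E hE hEc =>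
    ⟨by rw [← (hkey E hE hEc).1]; exact inf_le_left, (hkey E hE hEc).1, (hkey E hE hEc).2.2⟩⟩
  -- counting
  let 𝓔 := {F : Subgroup G // IsElementaryAbelian 3 F ∧ Nat.card F = 81}
  letI act : MulAction G 𝓔 :=
    { smul := fun g F => ⟨F.1 ^ᵍ g, elab_cj F.2.1 g, by rw [card_cj]; exact F.2.2⟩
      one_smul := fun F => Subtype.ext (cj_one F.1)
      mul_smul := fun g h F => Subtype.ext (cj_mul F.1 g h) }
  have hsm : ∀ (g : G) (F : 𝓔), (g • F).1 = F.1 ^ᵍ g := fun g F => rfl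
  haveI : Finite 𝓔 := Subtype.finite
  have h1 := (hG.to_subgroup E₁).card_modEq_card_fixedPoints 𝓔
  have h2 := (hG.to_subgroup (zpowers x)).card_modEq_card_fixedPoints 𝓔
  have h3 : Nat.card (MulAction.fixedPoints E₁ 𝓔) = 1 := by
    rw [Nat.card_eq_one_iff_unique]
    refine ⟨⟨fun a b => ?_⟩, ⟨⟨⟨E₁, hE₁, hE₁c'⟩, ?_⟩⟩⟩
    · have key : ∀ a : MulAction.fixedPoints E₁ 𝓔, a.1.1 = E₁ := by
        intro a
        have h4 : E₁ ≤ 𝓝(a.1.1) := by
          intro e he
          rw [mem_nz]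
          exact congrArg Subtype.val (a.2 ⟨e, he⟩)
        have h5 := hcfg.norm_le hE₁ hE₁c' a.1.2.1 a.1.2.2 h4
        exact eq_of_card_le h5 (by rw [hE₁c', a.1.2.2])
      exact Subtype.ext (Subtype.ext ((key a).trans (key b).symm))
    · intro e
      apply Subtype.ext
      exact cj_eq_of_mem e.2
  have h4 : Nat.card (MulAction.fixedPoints (zpowers x) 𝓔) = 0 := by
    rw [Nat.card_eq_zero]
    left
    refine ⟨fun a => ?_⟩
    have h5 : x ∈ 𝓝(a.1.1) := by
      rw [mem_nz]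
      exact congrArg Subtype.val (a.2 ⟨x, mem_zpowers x⟩)
    have h6 := hF27 _ a.1.2.1 h5
    rw [a.1.2.2] at h6
    omega
  rw [h3] at h1
  rw [h4] at h2
  have h5 := h1.symm.trans h2
  exact absurd h5 (by decide)

end CfsgLib.Kconn8
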