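import Cfsg.Agent.LibLELem

set_option autoImplicit false

/-! The standing hypotheses of the asymmetric case: `Q` large, `M` with the basic property (helper10). -/

open Cfsg Subgroup
open scoped Pointwise

namespace CfsgLib.LE

variable {G : Type*} [Group G] {p : ℕ}

theorem mem_charP_iff {L : Subgroup G} : L ∈ charPSubgroups p G ↔
    pCoreOf p L ≠ ⊥ ∧ centralizer (pCoreOf p L : Set G) ≤ pCoreOf p L := by
  constructor
  · rintro ⟨h1, h2⟩; exact ⟨pCoreOf_ne_bot_iff.2 h1, h2⟩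
  · rintro ⟨h1, h2⟩; exact ⟨pCoreOf_ne_bot_iff.1 h1, h2⟩

theorem charPOf_of_mem {L : Subgroup G} (h : L ∈ charPSubgroups p G) : CharPOf p L :=
  inf_le_right.trans (mem_charP_iff.1 h).2

theorem exists_max_charP [Finite G] {L : Subgroup G} (h : L ∈ charPSubgroups p G) :
    ∃ X ∈ maxCharPSubgroups p G, L ≤ X := by
  obtain ⟨X, hX⟩ := (Set.toFinite {X : Subgroup G | X ∈ charPSubgroups p G ∧ L ≤ X}).exists_maximal ⟨L, h, le_rfl⟩
  refine ⟨X, ⟨hX.1.1, fun K hK hXK => ?_⟩, hX.1.2⟩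
  exact le_antisymm (hX.2 ⟨hK, hX.1.2.trans hXK⟩ hXK) hXK

theorem mem_charP_of_ge {A X : Subgroup G} (hX : A ≤ X) (hA1 : A ≠ ⊥) (hAp : IsPGroup p ↥A) (hA : centralizer (A : Set G) ≤ A)
    (hn : X ≤ normalizer (A : Set G)) : X ∈ charPSubgroups p G := by
  have h1 : A ≤ pCoreOf p X := le_pCoreOf hX hn hAp
  refine mem_charP_iff.2 ⟨fun h => hA1 (le_bot_iff.1 (h ▸ h1)), ?_⟩
  exact (Subgroup.centralizer_le h1).trans (hA.trans h1)

/-- `Q` large in a Sylow subgroup `S`: subgroups over `S` with nontrivial `O_p` are in `𝓛_G`. -/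
theorem large_mem_charP [Finite G] [hp : Fact p.Prime] {S : Sylow p G} {Q X : Subgroup G} (hQp : IsPGroup p ↥Q)
    (hQ1 : Q ≠ ⊥) (hQS : Q ≤ (S : Subgroup G)) (hQ : IsLarge Q) (hSX : (S : Subgroup G) ≤ X) (hX : pCoreOf p X ≠ ⊥) :
    X ∈ charPSubgroups p G := by
  obtain ⟨h1, h2⟩ := IsLarge.charPOf hQp hQ1 hQ (hQS.trans hSX) hX
  refine mem_charP_iff.2 ⟨hX, ?_⟩
  have h3 : (S : Subgroup G) ≤ normalizer (centralizer (pCoreOf p X : Set G) : Set G) :=
    le_normalizer_centralizer (hSX.trans (le_normalizer_pCoreOf p X))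
  have h4 : IsPGroup p ↥(centralizer (pCoreOf p X : Set G) ⊔ (S : Subgroup G) : Subgroup G) :=
    IsPGroup.to_sup_of_normal_left' h1 S.isPGroup' h3
  have h5 : centralizer (pCoreOf p X : Set G) ⊔ (S : Subgroup G) = S := S.is_maximal' h4 le_sup_right
  have h6 : centralizer (pCoreOf p X : Set G) ≤ X := by
    refine le_trans ?_ hSX
    rw [← h5]; exact le_sup_left
  exact (le_inf h6 le_rfl).trans h2

/-- The standing hypotheses. -/
structure StdM (p : ℕ) {G : Type*} [Group G] (S : Sylow p G) (Q M : Subgroup G) : Prop where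
  hQp : IsPGroup p ↥Q
  hQ1 : Q ≠ ⊥
  hQS : Q ≤ (S : Subgroup G)
  hQ : IsLarge Q
  hSM : (S : Subgroup G) ≤ M
  hM : IsInFrakM p M

namespace StdM

variable {S : Sylow p G} {Q M : Subgroup G}

theorem mem_charP_of_le [Finite G] [hp : Fact p.Prime] (h : StdM p S Q M) {X : Subgroup G} (hSX : (S : Subgroup G) ≤ X)
    (hX : pCoreOf p X ≠ ⊥) : X ∈ charPSubgroups p G := large_mem_charP h.hQp h.hQ1 h.hQS h.hQ hSX hX

theorem charPOf (h : StdM p S Q M) : CharPOf p M := charPOf_of_mem h.hM.1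

theorem isSyl (h : StdM p S Q M) : IsSyl p (S : Subgroup G) M := isSyl_sylow S h.hSM

theorem S_ne_bot (h : StdM p S Q M) : (S : Subgroup G) ≠ ⊥ := fun h1 => h.hQ1 (le_bot_iff.1 (h1 ▸ h.hQS))

/-- Every overgroup `X` of `M` with `O_p(X) ≠ 1` lies in `M†`. -/
theorem le_Md [Finite G] [hp : Fact p.Prime] (h : StdM p S Q M) {X : Subgroup G} (hMX : M ≤ X) (hX : pCoreOf p X ≠ ⊥) :
    X ≤ M ⊔ centralizer (largestPReducedOf p M : Set G) := by
  obtain ⟨K, hK, hXK⟩ := exists_max_charP (h.mem_charP_of_le (h.hSM.trans hMX) hX)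
  rw [← h.hM.2.2.1 K hK (hMX.trans hXK)]
  exact hXK

theorem le_Md_of_normal [Finite G] [hp : Fact p.Prime] (h : StdM p S Q M) {X U : Subgroup G} (hMX : M ≤ X)
    (hUX : U ≤ X) (hXU : X ≤ normalizer (U : Set G)) (hUp : IsPGroup p ↥U) (hU1 : U ≠ ⊥) :
    X ≤ M ⊔ centralizer (largestPReducedOf p M : Set G) := by
  apply h.le_Md hMX
  intro h1
  exact hU1 (le_bot_iff.1 (h1 ▸ le_pCoreOf hUX hXU hUp))

theorem omegaZ_le_Y [Finite G] [hp : Fact p.Prime] (h : StdM p S Q M) :
    omegaOne p ((S : Subgroup G) ⊓ centralizer ((S : Subgroup G) : Set G)) ≤ largestPReducedOf p M :=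
  omegaZ_le_largest h.charPOf h.isSyl

theorem Y_ne_bot [Finite G] [hp : Fact p.Prime] (h : StdM p S Q M) : largestPReducedOf p M ≠ ⊥ := by
  intro h1
  have h2 := inf_centralizer_ne_bot S.isPGroup' h.S_ne_bot
  have h3 := omegaOne_ne_bot_of_isPGroup (S.isPGroup'.to_le inf_le_left) h2
  exact h3 (le_bot_iff.1 (h1 ▸ h.omegaZ_le_Y))

theorem Y_le_M (_h : StdM p S Q M) : largestPReducedOf p M ≤ M := Subgroup.map_subtype_le _

theorem pRed (_h : StdM p S Q M) : PRed p (largestPReducedOf p M) M := pRed_largestPReducedOf p M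

theorem Y_isPGroup (h : StdM p S Q M) : IsPGroup p ↥(largestPReducedOf p M) := h.pRed.isPGroup

theorem Y_elem (h : StdM p S Q M) : IsElementaryAbelian p (largestPReducedOf p M) := h.pRed.2.2.1

theorem Y_comm (h : StdM p S Q M) : ∀ x ∈ largestPReducedOf p M, ∀ y ∈ largestPReducedOf p M, x * y = y * x :=
  (isElementaryAbelian_iff.1 h.Y_elem).1

theorem normalizer_Y [Finite G] [hp : Fact p.Prime] (h : StdM p S Q M) :
    normalizer (largestPReducedOf p M : Set G) = M ⊔ centralizer (largestPReducedOf p M : Set G) := by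
  apply le_antisymm
  · exact h.le_Md_of_normal (le_normalizer_largest p M) Subgroup.le_normalizer le_rfl h.Y_isPGroup h.Y_ne_bot
  · exact sup_le (le_normalizer_largest p M) (Subgroup.centralizer_le_normalizer _)

theorem A_isPGroup (_h : StdM p S Q M) : IsPGroup p ↥(pCoreOf p M) := pCoreOf_isPGroup p M

theorem A_le_M (_h : StdM p S Q M) : pCoreOf p M ≤ M := pCoreOf_le p M

theorem A_le_S (h : StdM p S Q M) : pCoreOf p M ≤ (S : Subgroup G) := h.isSyl.pCoreOf_le

theorem A_le_centralizer (h : StdM p S Q M) : pCoreOf p M ≤ centralizer (largestPReducedOf p M : Set G) :=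
  h.pRed.pCoreOf_le_centralizer

theorem Y_le_A (h : StdM p S Q M) : largestPReducedOf p M ≤ pCoreOf p M := h.pRed.le_pCoreOf

theorem A_eq [Finite G] [hp : Fact p.Prime] (h : StdM p S Q M) :
    pCoreOf p M = (S : Subgroup G) ⊓ centralizer (largestPReducedOf p M : Set G) := by
  apply le_antisymm (le_inf h.A_le_S h.A_le_centralizer)
  have h1 := isSyl_inf_centralizer h.isSyl (le_normalizer_largest p M)
  have h2 := isSyl_eq_of_isPClosed h.hM.2.2.2.2.1 h1
  rw [h2]
  exact pCoreOf_le_pCoreOf_of_normal inf_le_left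
    (le_normalizer_inf Subgroup.le_normalizer (le_normalizer_centralizer (le_normalizer_largest p M)))

/-- The `p`-subgroups of `C_M(Y)` lie in `O_p(M)`. -/
theorem le_A_of_le_M [Finite G] [hp : Fact p.Prime] (h : StdM p S Q M) {U : Subgroup G} (hU : IsPGroup p ↥U)
    (hUM : U ≤ M) (hUY : U ≤ centralizer (largestPReducedOf p M : Set G)) : U ≤ pCoreOf p M := by
  have h1 := isPClosed_iff.1 h.hM.2.2.2.2.1 U (le_inf hUM hUY) hU
  exact h1.trans (pCoreOf_le_pCoreOf_of_normal inf_le_left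
    (le_normalizer_inf Subgroup.le_normalizer (le_normalizer_centralizer (le_normalizer_largest p M))))

theorem A_isSyl_centralizer [Finite G] [hp : Fact p.Prime] (h : StdM p S Q M) :
    IsSyl p (pCoreOf p M) (centralizer (largestPReducedOf p M : Set G)) := by
  have h1 : IsSyl p (S : Subgroup G) (normalizer (largestPReducedOf p M : Set G)) :=
    isSyl_sylow S (h.hSM.trans (le_normalizer_largest p M))
  have h2 := isSyl_inf_centralizer h1 le_rfl
  rwa [← h.A_eq, inf_eq_right.2 (Subgroup.centralizer_le_normalizer _)] at h2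

theorem A_ne_bot [Finite G] [hp : Fact p.Prime] (h : StdM p S Q M) : pCoreOf p M ≠ ⊥ :=
  fun h1 => h.Y_ne_bot (le_bot_iff.1 (h1 ▸ h.Y_le_A))

theorem centralizer_A_le (h : StdM p S Q M) : centralizer (pCoreOf p M : Set G) ≤ pCoreOf p M :=
  (mem_charP_iff.1 h.hM.1).2

theorem normalizer_A_le [Finite G] [hp : Fact p.Prime] (h : StdM p S Q M) :
    normalizer (pCoreOf p M : Set G) ≤ M ⊔ centralizer (largestPReducedOf p M : Set G) :=
  h.le_Md_of_normal (le_normalizer_pCoreOf p M) Subgroup.le_normalizer le_rfl h.A_isPGroup h.A_ne_bot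

theorem normalizer_A_le_Y [Finite G] [hp : Fact p.Prime] (h : StdM p S Q M) :
    normalizer (pCoreOf p M : Set G) ≤ normalizer (largestPReducedOf p M : Set G) := by
  rw [h.normalizer_Y]; exact h.normalizer_A_le

/-- A conjugate of `O_p(M)` under `M†` in `S` is `O_p(M)`. -/
theorem A_conj_eq [Finite G] [hp : Fact p.Prime] (h : StdM p S Q M) {g : G}
    (hg : g ∈ normalizer (largestPReducedOf p M : Set G))
    (hgS : (pCoreOf p M).map (MulAut.conj g).toMonoidHom ≤ (S : Subgroup G)) :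
    (pCoreOf p M).map (MulAut.conj g).toMonoidHom = pCoreOf p M := by
  apply Subgroup.eq_of_le_of_card_ge
  · have h1 := Subgroup.map_mono (f := (MulAut.conj g).toMonoidHom) h.A_le_centralizer
    rw [← centralizer_map_conj, mem_normalizer_iff_map_conj.1 hg] at h1
    exact (le_inf hgS h1).trans h.A_eq.ge
  · rw [card_map_conj]

end StdM

/-- Asymmetry: two conjugates normalizing each other commute. -/
theorem commute_of_asym {Y : Subgroup G} (hasym : ¬ IsSymmetricIn Y) {g : G}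
    (h1 : Y ≤ normalizer (Y.map (MulAut.conj g).toMonoidHom : Set G))
    (h2 : Y.map (MulAut.conj g).toMonoidHom ≤ normalizer (Y : Set G)) :
    Y.map (MulAut.conj g).toMonoidHom ≤ centralizer (Y : Set G) := by
  have h3 : ⁅Y, Y.map (MulAut.conj g).toMonoidHom⁆ = ⊥ := by
    by_contra hcon
    exact hasym ⟨g, hcon, le_inf (Subgroup.le_normalizer_iff_commutator_le_left.1 h2)
      (Subgroup.le_normalizer_iff_commutator_le_right.1 h1)⟩
  rw [Subgroup.commutator_comm, Subgroup.commutator_eq_bot_iff_le_centralizer] at h3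
  exact h3

end CfsgLib.LE
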