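import Cfsg.Agent.LibLE17
import Cfsg.Agent.LibCoprime
import Cfsg.Agent.LibCoprime2
import Cfsg.Agent.LibLER

set_option autoImplicit false

/-! Coprime action lemmas (helper10). -/

open Cfsg Subgroup
open scoped Pointwise

namespace CfsgLib.LE

variable {G : Type*} [Group G] {p : ℕ}

/-- three subgroups lemma modulo a subgroup normalized by all three -/
theorem three_subgroups_mod {A B C N : Subgroup G} (hA : A ≤ normalizer (N : Set G)) (hB : B ≤ normalizer (N : Set G))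
    (hC : C ≤ normalizer (N : Set G)) (h1 : ⁅⁅B, C⁆, A⁆ ≤ N) (h2 : ⁅⁅C, A⁆, B⁆ ≤ N) : ⁅⁅A, B⁆, C⁆ ≤ N := by
  set M := normalizer (N : Set G) with hM
  set f := QuotientGroup.mk' (N.subgroupOf M) with hf
  have key : ∀ X Y Z : Subgroup G, X ≤ M → Y ≤ M → Z ≤ M → (⁅⁅X, Y⁆, Z⁆ ≤ N ↔
      ⁅⁅(X.subgroupOf M).map f, (Y.subgroupOf M).map f⁆, (Z.subgroupOf M).map f⁆ = ⊥) := by
    intro X Y Z hX hY hZ
    rw [← Subgroup.map_commutator, ← Subgroup.map_commutator, Subgroup.map_eq_bot_iff, hf, QuotientGroup.ker_mk']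
    have e1 : ⁅⁅X.subgroupOf M, Y.subgroupOf M⁆, Z.subgroupOf M⁆.map M.subtype = ⁅⁅X, Y⁆, Z⁆ := by
      rw [Subgroup.map_commutator, Subgroup.map_commutator, map_subtype_subgroupOf hX, map_subtype_subgroupOf hY,
        map_subtype_subgroupOf hZ]
    rw [← e1, Subgroup.map_le_iff_le_comap]
    rfl
  rw [key A B C hA hB hC]
  rw [key B C A hB hC hA] at h1
  rw [key C A B hC hA hB] at h2
  exact Subgroup.commutator_commutator_eq_bot_of_rotate h1 h2

/-- If `[P, B] ≤ [P, A]` for a `p`-group `A` and a `p'`-group `B` commuting, then `[P, B] = 1`. -/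
theorem commutator_eq_bot_of_le_commutator [Finite G] [hp : Fact p.Prime] {P A B : Subgroup G} (hP : IsPGroup p ↥P)
    (hA : IsPGroup p ↥A) (hB : ¬ p ∣ Nat.card ↥B) (hnA : A ≤ normalizer (P : Set G))
    (hnB : B ≤ normalizer (P : Set G)) (hAB : ⁅A, B⁆ = ⊥) (hcomm : ⁅P, B⁆ ≤ ⁅P, A⁆) : ⁅P, B⁆ = ⊥ := by
  have hX : IsPGroup p ↥(P ⊔ A) := by
    rw [sup_comm]
    exact hA.to_sup_of_normal_right' hP hnA
  have hXn : P ⊔ A ≤ normalizer (P : Set G) := sup_le Subgroup.le_normalizer hnA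
  obtain ⟨n, hn⟩ := iterCommutator_eq_bot_of_isPGroup hP hX hXn
  have hBc : B ≤ normalizer (A : Set G) := by
    refine le_trans ?_ (Subgroup.centralizer_le_normalizer _)
    rw [Subgroup.commutator_comm] at hAB
    exact (Subgroup.commutator_eq_bot_iff_le_centralizer).1 hAB
  have hAc : A ≤ normalizer (B : Set G) := by
    refine le_trans ?_ (Subgroup.centralizer_le_normalizer _)
    exact (Subgroup.commutator_eq_bot_iff_le_centralizer).1 hAB
  have hBX : B ≤ normalizer ((P ⊔ A : Subgroup G) : Set G) := le_normalizer_sup hnB hBc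
  have hcop : (Nat.card B).Coprime (Nat.card P) := by
    obtain ⟨k, hk⟩ := IsPGroup.iff_card.1 hP
    rw [hk]
    exact Nat.Coprime.pow_right _ (coprime_iff_not_dvd'.2 hB)
  have hBB : ⁅⁅P, B⁆, B⁆ = ⁅P, B⁆ := by
    apply CfsgLib.Coprime.commutator_commutator_eq hnB hcop
    right
    exact isSolvable_of_isPGroup hP
  have hXB : ⁅B, P ⊔ A⁆ ≤ ⁅P, B⁆ := by
    apply commutator_sup_le
    · rw [Subgroup.commutator_comm]
    · rw [Subgroup.commutator_comm, hAB]; exact bot_le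
    · exact normalizer_commutator_ge_left _ _
    · exact le_normalizer_commutator hnA hAc
  have hiter : ∀ m : ℕ, ⁅P, B⁆ ≤ iterCommutator P (P ⊔ A) m ∧ B ≤ normalizer (iterCommutator P (P ⊔ A) m : Set G) := by
    intro m
    induction m with
    | zero => exact ⟨le_normalizer_iff_commutator_le_left.1 hnB, hnB⟩
    | succ m ih =>
      obtain ⟨ih1, ih2⟩ := ih
      have hN1 : iterCommutator P (P ⊔ A) (m + 1) = ⁅iterCommutator P (P ⊔ A) m, P ⊔ A⁆ := rfl
      have hBN : B ≤ normalizer (iterCommutator P (P ⊔ A) (m + 1) : Set G) := by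
        rw [hN1]; exact le_normalizer_commutator ih2 hBX
      have hXN : P ⊔ A ≤ normalizer (iterCommutator P (P ⊔ A) (m + 1) : Set G) := (iterCommutator_le hXn _).2
      refine ⟨?_, hBN⟩
      have h1 : ⁅⁅P, B⁆, P ⊔ A⁆ ≤ iterCommutator P (P ⊔ A) (m + 1) := Subgroup.commutator_mono ih1 le_rfl
      have h2 : ⁅⁅B, P ⊔ A⁆, P⁆ ≤ iterCommutator P (P ⊔ A) (m + 1) :=
        (Subgroup.commutator_mono hXB le_sup_left).trans h1
      have h3 := three_subgroups_mod (A := P ⊔ A) (B := P) (C := B) hXN (le_sup_left.trans hXN) hBN h1 h2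
      calc ⁅P, B⁆ = ⁅⁅P, B⁆, B⁆ := hBB.symm
        _ ≤ ⁅⁅P, A⁆, B⁆ := Subgroup.commutator_mono hcomm le_rfl
        _ ≤ ⁅⁅P ⊔ A, P⁆, B⁆ := by
          apply Subgroup.commutator_mono _ le_rfl
          rw [Subgroup.commutator_comm]
          exact Subgroup.commutator_mono le_sup_right le_rfl
        _ ≤ _ := h3
  rw [eq_bot_iff, ← hn]
  exact (hiter n).1

end CfsgLib.LE
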