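import Cfsg.Agent.LibLE12
import Cfsg.Agent.LibLE13
import Cfsg.Agent.LibLE15
import Cfsg.Agent.LibLEQ
import Cfsg.Agent.LibLEM

/-! Groups generated by a conjugacy class of irreducible subgroups. (helper8) -/

set_option autoImplicit false
set_option linter.all false

namespace CfsgLib.Kf8

open Cfsg Subgroup CfsgLib.LE
open scoped Pointwise commutatorElement

variable {G : Type*} [Group G] {p : ℕ}

/-- abbreviation for `O^p(E)` -/
abbrev res (p : ℕ) (E : Subgroup G) : Subgroup G := (pResidual p ↥E).map E.subtype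

structure FQ (p : ℕ) (𝒦 : Set (Subgroup G)) : Prop where
  hne : 𝒦.Nonempty
  hinv : ∀ h : G, ∀ E ∈ 𝒦, E.map (MulAut.conj h).toMonoidHom ∈ 𝒦
  htr : ∀ E ∈ 𝒦, ∀ K ∈ 𝒦, ∃ h : G, K = E.map (MulAut.conj h).toMonoidHom
  hres : pResidual p G ≤ sSup 𝒦
  hnorm : ∀ E ∈ 𝒦, sSup 𝒦 ≤ normalizer (E : Set G)
  hcore : pCore p G = ⊥
  hnc : ∀ E ∈ 𝒦, ¬ IsPClosed p ↥E
  hirr : ∀ E ∈ 𝒦, ∀ N : Subgroup G, N ≤ E → E ≤ normalizer (N : Set G) → ⁅N, E⁆ ≠ ⊥ → res p E ≤ N

theorem sSup_normal {𝒦 : Set (Subgroup G)} (hinv : ∀ h : G, ∀ E ∈ 𝒦, E.map (MulAut.conj h).toMonoidHom ∈ 𝒦) :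
    (sSup 𝒦).Normal := by
  rw [← Subgroup.normalizer_eq_top_iff, eq_top_iff]
  intro g _
  rw [mem_normalizer_iff_map_conj]
  have key : ∀ g : G, (sSup 𝒦).map (MulAut.conj g).toMonoidHom ≤ sSup 𝒦 := by
    intro g
    rw [Subgroup.map_le_iff_le_comap]
    apply sSup_le
    intro E hE
    rw [← Subgroup.map_le_iff_le_comap]
    exact le_sSup (hinv g E hE)
  apply le_antisymm (key g)
  have h2 := Subgroup.map_mono (f := (MulAut.conj g).toMonoidHom) (key g⁻¹)
  rwa [map_conj_mul, mul_inv_cancel, map_conj_one] at h2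

/-- If `Z ≤ C(E)` and `E` normalizes `S Z` then `E` is `p`-closed. -/
theorem isPClosed_of_central [Finite G] [hp : Fact p.Prime] {E S Z : Subgroup G} (hS : IsSyl p S E) (hZE : Z ≤ E)
    (hZ : Z ≤ centralizer (E : Set G)) (hn : E ≤ normalizer ((S ⊔ Z : Subgroup G) : Set G)) : IsPClosed p ↥E := by
  have h1 : IsSyl p S (S ⊔ Z) := hS.mono le_sup_left (sup_le hS.le hZE)
  have h2 := h1.frattini (sup_le hS.le hZE) hn
  apply isPClosed_of_normal_sylow hS
  rw [← h2]
  apply sup_le _ inf_le_right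
  apply sup_le Subgroup.le_normalizer
  exact (hZ.trans (Subgroup.centralizer_le hS.le)).trans (Subgroup.centralizer_le_normalizer _)

namespace FQ

variable {𝒦 : Set (Subgroup G)}

theorem normalK (h : FQ p 𝒦) : (sSup 𝒦).Normal := sSup_normal h.hinv

variable [Finite G] [hp : Fact p.Prime]

theorem eq_bot_of_pgroup (h : FQ p 𝒦) {Y E : Subgroup G} (hE : E ∈ 𝒦) (hY : IsPGroup p ↥Y) (hYE : Y ≤ E)
    (hn : E ≤ normalizer (Y : Set G)) : Y = ⊥ := by
  rw [eq_bot_iff]
  have h1 : Y ≤ pCoreOf p E := le_pCoreOf hYE hn hY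
  have h2 : pCoreOf p E ≤ pCoreOf p (sSup 𝒦) := pCoreOf_le_pCoreOf_of_normal (le_sSup hE) (h.hnorm E hE)
  have h3 : pCoreOf p (sSup 𝒦) ≤ pCoreOf p ⊤ := by
    have := h.normalK
    exact pCoreOf_le_pCoreOf_of_normal le_top Subgroup.le_normalizer_of_normal
  rw [pCoreOf_top, h.hcore] at h3
  exact h1.trans (h2.trans h3)

theorem eq_bot_of_normal (h : FQ p 𝒦) {Y : Subgroup G} (hY : IsPGroup p ↥Y) (hn : Y.Normal) : Y = ⊥ := by
  rw [eq_bot_iff, ← h.hcore]
  exact le_pCore hn hY

/-- Lemma A -/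
theorem lemA (h : FQ p 𝒦) {N E : Subgroup G} [hN : N.Normal] (hE : E ∈ 𝒦) (hEN : res p E ≤ N) :
    pResidual p G ≤ N := by
  have hKn := h.normalK
  have h1 : ∀ F ∈ 𝒦, res p F ≤ N := by
    intro F hF
    obtain ⟨g, rfl⟩ := h.htr E hE F hF
    rw [res, ← resOf_map_conj]
    rw [← mem_normalizer_iff_map_conj.1 (Subgroup.le_normalizer_of_normal (H := N) (K := ⊤) (Subgroup.mem_top g))]
    exact Subgroup.map_mono hEN
  set f := QuotientGroup.mk' N with hf
  have hfs : Function.Surjective f := QuotientGroup.mk'_surjective N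
  have h2 : (sSup 𝒦).map f ≤ pCore p (G ⧸ N) := by
    rw [Subgroup.map_le_iff_le_comap]
    apply sSup_le
    intro F hF
    rw [← Subgroup.map_le_iff_le_comap]
    have hp1 : IsPGroup p ↥(F.map f) := by
      apply isPGroup_of_resOf_eq_bot
      rw [← resOf_map_of_hom, Subgroup.map_eq_bot_iff, hf, QuotientGroup.ker_mk']
      exact h1 F hF
    have h3 : F.map f ≤ pCoreOf p ((sSup 𝒦).map f) := by
      apply le_pCoreOf (Subgroup.map_mono (le_sSup hF)) _ hp1
      exact (Subgroup.map_mono (h.hnorm F hF)).trans (Subgroup.le_normalizer_map f)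
    have h4 : pCoreOf p ((sSup 𝒦).map f) ≤ pCoreOf p ⊤ := by
      have : ((sSup 𝒦).map f).Normal := hKn.map f hfs
      exact pCoreOf_le_pCoreOf_of_normal le_top Subgroup.le_normalizer_of_normal
    rw [pCoreOf_top] at h4
    exact h3.trans h4
  have h5 : (pResidual p G).map f ≤ pCore p (G ⧸ N) := (Subgroup.map_mono h.hres).trans h2
  rw [map_pResidual_of_surjective f hfs] at h5
  have h6 : pResidual p (G ⧸ N) = ⊥ := by
    have h7 : IsPGroup p ↥(pResidual p (G ⧸ N)) := (pCore_isPGroup p (G ⧸ N)).to_le h5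
    have h8 := resOf_eq_bot_of_isPGroup h7
    have h9 := resOf_resOf (p := p) (⊤ : Subgroup (G ⧸ N))
    rw [resOf_top] at h9
    rw [← h9]; exact h8
  rw [← map_pResidual_of_surjective f hfs, Subgroup.map_eq_bot_iff, hf, QuotientGroup.ker_mk'] at h6
  exact h6

/-- Lemma B -/
theorem lemB (h : FQ p 𝒦) {X E : Subgroup G} (hE : E ∈ 𝒦) (hEX : E ≤ normalizer (X : Set G))
    (hXE : X ≤ normalizer (E : Set G)) (hc : ⁅X ⊓ E, E⁆ = ⊥) : res p E ≤ centralizer (X : Set G) := by
  have h1 : ⁅X, E⁆ ≤ X ⊓ E := le_inf (le_normalizer_iff_commutator_le_left.1 hEX)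
    (le_normalizer_iff_commutator_le_right.1 hXE)
  have h2 : ⁅⁅X, E⁆, E⁆ = ⊥ := by
    rw [eq_bot_iff, ← hc]
    exact Subgroup.commutator_mono h1 le_rfl
  have h3 : ⁅⁅E, E⁆, X⁆ = ⊥ := by
    apply Subgroup.commutator_commutator_eq_bot_of_rotate
    · rw [Subgroup.commutator_comm E X]; exact h2
    · exact h2
  by_contra hcon
  have hn : E ≤ normalizer ((E ⊓ centralizer (X : Set G) : Subgroup G) : Set G) :=
    le_normalizer_inf Subgroup.le_normalizer (le_normalizer_centralizer hEX)
  have h4 : ⁅E ⊓ centralizer (X : Set G), E⁆ = ⊥ := by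
    by_contra h5
    exact hcon ((h.hirr E hE _ inf_le_left hn h5).trans inf_le_right)
  have h5 : ⁅E, E⁆ ≤ E ⊓ centralizer (X : Set G) :=
    le_inf (Subgroup.commutator_le_self E) (Subgroup.commutator_eq_bot_iff_le_centralizer.1 h3)
  obtain ⟨S, hS⟩ := exists_isSyl p E
  apply h.hnc E hE
  apply isPClosed_of_central (Z := ⁅E, E⁆) hS (Subgroup.commutator_le_self E)
  · rw [← Subgroup.commutator_eq_bot_iff_le_centralizer, eq_bot_iff, ← h4]
    exact Subgroup.commutator_mono h5 le_rfl
  · rw [le_normalizer_iff_commutator_le_right]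
    refine le_trans (Subgroup.commutator_mono le_rfl (sup_le hS.le (Subgroup.commutator_le_self E))) le_sup_right

/-- (2b) -/
theorem resEq_or_comm (h : FQ p 𝒦) {E F : Subgroup G} (hE : E ∈ 𝒦) (hF : F ∈ 𝒦) :
    res p E = res p F ∨ ⁅E, F⁆ = ⊥ := by
  have key : ∀ E ∈ 𝒦, ∀ F ∈ 𝒦, ⁅F ⊓ E, E⁆ ≠ ⊥ → res p E = res p F := by
    intro E hE F hF hc
    have hFE : F ≤ normalizer (E : Set G) := (le_sSup hF).trans (h.hnorm E hE)
    have hEF : E ≤ normalizer (F : Set G) := (le_sSup hE).trans (h.hnorm F hF)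
    have h1 := h.hirr E hE (F ⊓ E) inf_le_right (le_normalizer_inf hEF Subgroup.le_normalizer) hc
    have h2 : res p E ≤ res p F := by
      conv_lhs => rw [res, ← resOf_resOf]
      exact resOf_mono (h1.trans inf_le_left)
    apply Subgroup.eq_of_le_of_card_ge h2
    obtain ⟨g, rfl⟩ := h.htr E hE F hF
    rw [res, ← resOf_map_conj, card_map_conj]
  by_cases h1 : ⁅F ⊓ E, E⁆ = ⊥
  · by_cases h2 : ⁅E ⊓ F, F⁆ = ⊥
    · right
      have hFE : F ≤ normalizer (E : Set G) := (le_sSup hF).trans (h.hnorm E hE)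
      have hEF : E ≤ normalizer (F : Set G) := (le_sSup hE).trans (h.hnorm F hF)
      have h3 := h.lemB hE hEF hFE h1
      rw [eq_bot_iff, Subgroup.commutator_le]
      intro x hx y hy
      have hc1 : ⁅x, y⁆ ∈ ⁅E, F⁆ := Subgroup.commutator_mem_commutator hx hy
      have hcE : ⁅x, y⁆ ∈ E := le_normalizer_iff_commutator_le_left.1 hFE hc1
      have hcF : ⁅x, y⁆ ∈ F := le_normalizer_iff_commutator_le_right.1 hEF hc1
      have hz1 : F ⊓ E ≤ centralizer (E : Set G) := Subgroup.commutator_eq_bot_iff_le_centralizer.1 h1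
      have hz2 : E ⊓ F ≤ centralizer (F : Set G) := Subgroup.commutator_eq_bot_iff_le_centralizer.1 h2
      have hcx : ⁅x, y⁆ * x = x * ⁅x, y⁆ :=
        (Subgroup.mem_centralizer_iff.1 (hz1 (Subgroup.mem_inf.2 ⟨hcF, hcE⟩)) x hx).symm
      have hcy : ⁅x, y⁆ * y = y * ⁅x, y⁆ :=
        (Subgroup.mem_centralizer_iff.1 (hz2 (Subgroup.mem_inf.2 ⟨hcE, hcF⟩)) y hy).symm
      set c := ⁅x, y⁆ with hc
      have hxy : x * y = c * y * x := by rw [hc, commutatorElement_def]; group
      have hpow : ∀ n : ℕ, x ^ n * y = c ^ n * y * x ^ n := by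
        intro n
        induction n with
        | zero => simp
        | succ n ih =>
          have hcx' : Commute c x := hcx
          calc x ^ (n + 1) * y = x * (x ^ n * y) := by rw [pow_succ']; group
            _ = x * (c ^ n * y * x ^ n) := by rw [ih]
            _ = (x * c ^ n) * y * x ^ n := by group
            _ = (c ^ n * x) * y * x ^ n := by rw [(hcx'.pow_left n).eq]
            _ = c ^ n * (x * y) * x ^ n := by group
            _ = c ^ n * (c * y * x) * x ^ n := by rw [hxy]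
            _ = c ^ (n + 1) * y * x ^ (n + 1) := by rw [pow_succ, pow_succ' x]; group
      obtain ⟨k, hk⟩ := resOf_pow_mem (p := p) hx
      have h4 := Subgroup.mem_centralizer_iff.1 (h3 hk) y hy
      have h5 : c ^ p ^ k = 1 := by
        have h6 := hpow (p ^ k)
        rw [← h4, mul_assoc] at h6
        have h7 : 1 * (y * x ^ p ^ k) = c ^ p ^ k * (y * x ^ p ^ k) := by rw [one_mul]; exact h6
        exact (mul_right_cancel h7).symm
      have h6 : Subgroup.zpowers c = ⊥ := by
        apply h.eq_bot_of_pgroup hE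
        · rw [IsPGroup.iff_card]
          obtain ⟨m, hm⟩ := (Nat.dvd_prime_pow hp.out).1 (orderOf_dvd_of_pow_eq_one h5)
          exact ⟨m, by rw [Nat.card_zpowers]; exact hm.2⟩
        · exact (Subgroup.zpowers_le).2 hcE
        · have h7 : Subgroup.zpowers c ≤ centralizer (E : Set G) :=
            (Subgroup.zpowers_le).2 (hz1 (Subgroup.mem_inf.2 ⟨hcF, hcE⟩))
          exact (Subgroup.le_centralizer_iff.1 h7).trans (Subgroup.centralizer_le_normalizer _)
      exact Subgroup.mem_bot.2 (Subgroup.zpowers_eq_bot.1 h6)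
    · left
      exact (key F hF E hE h2).symm
  · left
    exact key E hE F hF h1

theorem not_closed (h : FQ p 𝒦) : ¬ IsPClosed p G := by
  intro h1
  obtain ⟨E, hE⟩ := h.hne
  rw [← isPClosed_top_iff] at h1
  exact h.hnc E hE (CfsgLib.LE.IsPClosed.mono h1 le_top)

/-- (2a) -/
theorem irr (h : FQ p 𝒦) {N : Subgroup G} [hN : N.Normal] (hNc : ¬ IsPClosed p ↥N) : pResidual p G ≤ N := by
  by_contra hcon
  have hresle : ∀ Y : Subgroup G, res p Y ≤ pResidual p G := by
    intro Y
    rw [← resOf_top (p := p) (G := G)]; exact resOf_mono le_top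
  have hKn := h.normalK
  set K := sSup 𝒦 with hK
  set O := pResidual p G with hO
  have hOK : O ≤ K := h.hres
  have hNE : ∀ E ∈ 𝒦, ⁅N ⊓ E, E⁆ = ⊥ := by
    intro E hE
    by_contra h1
    apply hcon
    refine h.lemA hE ((h.hirr E hE (N ⊓ E) inf_le_right ?_ h1).trans inf_le_left)
    exact le_normalizer_inf Subgroup.le_normalizer_of_normal Subgroup.le_normalizer
  set X := N ⊓ K with hX
  have hXn : X.Normal := inferInstance
  have hXE : ∀ E ∈ 𝒦, ⁅X ⊓ E, E⁆ = ⊥ := by
    intro E hE
    rw [eq_bot_iff, ← hNE E hE]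
    exact Subgroup.commutator_mono (inf_le_inf_right E inf_le_left) le_rfl
  obtain ⟨E, hE⟩ := h.hne
  have hOX : O ≤ centralizer (X : Set G) := by
    have h1 := h.lemB hE (X := X) Subgroup.le_normalizer_of_normal (inf_le_right.trans (h.hnorm E hE)) (hXE E hE)
    exact h.lemA hE h1
  obtain ⟨SX, hSX⟩ := exists_isSyl p X
  have hresX : res p X ≤ O := hresle X
  have hSX1 : SX = ⊥ := by
    have h1 : X ≤ normalizer (SX : Set G) := by
      rw [← hSX.resOf_sup]
      apply sup_le _ Subgroup.le_normalizer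
      exact ((hresX.trans hOX).trans (Subgroup.centralizer_le hSX.le)).trans (Subgroup.centralizer_le_normalizer _)
    have h2 : SX ≤ pCoreOf p X := le_pCoreOf hSX.le h1 hSX.isPGroup
    have h3 : pCoreOf p X ≤ pCoreOf p ⊤ := pCoreOf_le_pCoreOf_of_normal le_top Subgroup.le_normalizer_of_normal
    rw [pCoreOf_top, h.hcore] at h3
    exact le_bot_iff.1 (h2.trans h3)
  have hXp : ∀ Y : Subgroup G, Y ≤ X → IsPGroup p ↥Y → Y = ⊥ := by
    intro Y hY hYp
    obtain ⟨n, hn, h1⟩ := hSX.exists_conj_le hY hYp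
    rw [hSX1, Subgroup.map_bot] at h1
    exact le_bot_iff.1 h1
  have hXO : X ≤ O := by
    have h1 := hSX.resOf_sup
    rw [hSX1, sup_bot_eq] at h1
    rw [← h1]; exact hresX
  obtain ⟨S, hS⟩ := exists_isSyl p N
  have hNXS : N = X ⊔ S := by
    apply le_antisymm _ (sup_le inf_le_left hS.le)
    have h1 : res p N ≤ X := by
      apply le_inf (resOf_le N)
      exact (hresle N).trans hOK
    conv_lhs => rw [← hS.resOf_sup]
    exact sup_le_sup_right h1 S
  have hSX2 : S ⊓ X = ⊥ := hXp _ inf_le_right (hS.isPGroup.to_le inf_le_left)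
  set C := O ⊓ centralizer (S : Set G) with hC
  have hOXC : O ≤ X ⊔ C := by
    intro o ho
    obtain ⟨n, hn, x', hx', rfl⟩ := hS.exists_mul_of_frattini (N := (⊤ : Subgroup G)) le_top
      Subgroup.le_normalizer_of_normal (Subgroup.mem_top o)
    rw [hNXS] at hn
    obtain ⟨x, hx, s, hs, rfl⟩ := (Subgroup.mem_sup_of_normal_left).1 hn
    have hy : s * x' ∈ normalizer (S : Set G) :=
      Subgroup.mul_mem _ (Subgroup.le_normalizer hs) (Subgroup.mem_inf.1 hx').2
    have hyO : s * x' ∈ O := by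
      have h1 : x⁻¹ * (x * s * x') ∈ O := O.mul_mem (O.inv_mem (hXO hx)) ho
      convert h1 using 1; group
    have hyC : s * x' ∈ C := by
      refine Subgroup.mem_inf.2 ⟨hyO, ?_⟩
      rw [Subgroup.mem_centralizer_iff]
      intro t ht
      have h1 : (s * x') * t * (s * x')⁻¹ * t⁻¹ ∈ S :=
        S.mul_mem ((Subgroup.mem_normalizer_iff.1 hy t).1 ht) (S.inv_mem ht)
      have h2 : (s * x') * t * (s * x')⁻¹ * t⁻¹ ∈ O := by
        have h3 : t * (s * x')⁻¹ * t⁻¹ ∈ O :=
          (inferInstance : (pResidual p G).Normal).conj_mem _ (O.inv_mem hyO) t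
        have h4 := O.mul_mem hyO h3
        convert h4 using 1; group
      have h3 : (s * x') * t * (s * x')⁻¹ * t⁻¹ ∈ S ⊓ X :=
        Subgroup.mem_inf.2 ⟨h1, Subgroup.mem_inf.2 ⟨hS.le h1, hOK h2⟩⟩
      rw [hSX2, Subgroup.mem_bot] at h3
      have h4 : (s * x') * t = t * (s * x') := by
        calc (s * x') * t = ((s * x') * t * (s * x')⁻¹ * t⁻¹) * (t * (s * x')) := by group
          _ = t * (s * x') := by rw [h3, one_mul]
      exact h4.symm
    rw [mul_assoc]
    exact Subgroup.mul_mem_sup hx hyC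
  have hOn : O.Normal := by rw [hO]; infer_instance
  have hCn : C.Normal := by
    rw [← Subgroup.normalizer_eq_top_iff, eq_top_iff]
    have h1 := hS.frattini (N := ⊤) le_top Subgroup.le_normalizer_of_normal
    rw [← h1]
    apply sup_le
    · rw [hNXS]
      apply sup_le
      · have h2 : X ≤ centralizer (C : Set G) :=
          Subgroup.le_centralizer_iff.1 (inf_le_left.trans hOX)
        exact h2.trans (Subgroup.centralizer_le_normalizer _)
      · have h2 : S ≤ centralizer (C : Set G) := Subgroup.le_centralizer_iff.1 inf_le_right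
        exact h2.trans (Subgroup.centralizer_le_normalizer _)
    · exact le_normalizer_inf Subgroup.le_normalizer_of_normal (le_normalizer_centralizer inf_le_right)
  have hCK : C ≤ K := inf_le_left.trans hOK
  have hCE : ⁅C ⊓ E, E⁆ = ⊥ := by
    by_contra h1
    have h2 := h.lemA hE ((h.hirr E hE (C ⊓ E) inf_le_right
      (le_normalizer_inf Subgroup.le_normalizer_of_normal Subgroup.le_normalizer) h1).trans inf_le_left)
    apply hNc
    apply isPClosed_of_normal_sylow hS
    conv_lhs => rw [hNXS]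
    apply sup_le _ Subgroup.le_normalizer
    exact ((hXO.trans h2).trans inf_le_right).trans (Subgroup.centralizer_le_normalizer _)
  -- `[O, E] ≤ Z(E)`
  have hKE := h.hnorm E hE
  have hOE : ⁅E, O⁆ ≤ E ⊓ centralizer (E : Set G) := by
    refine (Subgroup.commutator_mono le_rfl hOXC).trans ?_
    have hKZ : K ≤ normalizer ((E ⊓ centralizer (E : Set G) : Subgroup G) : Set G) :=
      le_normalizer_inf hKE (le_normalizer_centralizer hKE)
    have aux : ∀ Y : Subgroup G, Y.Normal → Y ≤ K → ⁅Y ⊓ E, E⁆ = ⊥ → ⁅E, Y⁆ ≤ E ⊓ centralizer (E : Set G) := by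
      intro Y hYn hYK hc
      have h1 : ⁅E, Y⁆ ≤ Y ⊓ E := le_inf
        (le_normalizer_iff_commutator_le_right.1 Subgroup.le_normalizer_of_normal)
        (le_normalizer_iff_commutator_le_left.1 (hYK.trans hKE))
      exact h1.trans (le_inf inf_le_right (Subgroup.commutator_eq_bot_iff_le_centralizer.1 hc))
    exact commutator_sup_le (aux X hXn inf_le_right (hXE E hE)) (aux C hCn hCK hCE)
      (inf_le_right.trans hKZ) (hCK.trans hKZ)
  obtain ⟨T, hT⟩ := exists_isSyl p E
  apply h.hnc E hE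
  apply isPClosed_of_central (Z := E ⊓ centralizer (E : Set G)) hT inf_le_left inf_le_right
  conv_lhs => rw [← hT.resOf_sup]
  have hTZ : T ⊔ (E ⊓ centralizer (E : Set G)) ≤ E := sup_le hT.le inf_le_left
  apply sup_le
  · rw [le_normalizer_iff_commutator_le_left]
    refine le_trans ?_ (hOE.trans le_sup_right)
    exact Subgroup.commutator_mono hTZ (hresle E)
  · exact le_sup_left.trans Subgroup.le_normalizer

end FQ

/-! ### the original family -/

structure Fam (p : ℕ) (𝒦 : Set (Subgroup G)) : Prop where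
  hne : 𝒦.Nonempty
  hinv : ∀ h : G, ∀ E ∈ 𝒦, E.map (MulAut.conj h).toMonoidHom ∈ 𝒦
  htr : ∀ E ∈ 𝒦, ∀ K ∈ 𝒦, ∃ h : G, K = E.map (MulAut.conj h).toMonoidHom
  hres : pResidual p G ≤ sSup 𝒦
  hnorm : ∀ E ∈ 𝒦, sSup 𝒦 ⊔ pCore p G ≤ normalizer ((E ⊔ pCore p G : Subgroup G) : Set G)

theorem map_mk_sup {P E : Subgroup G} [P.Normal] :
    (E ⊔ P).map (QuotientGroup.mk' P) = E.map (QuotientGroup.mk' P) := by
  rw [Subgroup.map_sup, (Subgroup.map_eq_bot_iff P).2 (by rw [QuotientGroup.ker_mk']), sup_bot_eq]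

theorem map_map_conj {P E : Subgroup G} [P.Normal] (g : G) :
    (E.map (QuotientGroup.mk' P)).map (MulAut.conj (QuotientGroup.mk' P g)).toMonoidHom =
      (E.map (MulAut.conj g).toMonoidHom).map (QuotientGroup.mk' P) := by
  rw [Subgroup.map_map, Subgroup.map_map]
  congr 1

theorem sSup_map {G' : Type*} [Group G'] (f : G →* G') (𝒦 : Set (Subgroup G)) :
    sSup ((fun E : Subgroup G => E.map f) '' 𝒦) = (sSup 𝒦).map f := by
  rw [sSup_image, sSup_eq_iSup, Subgroup.map_iSup]
  congr 1
  ext1 E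
  rw [Subgroup.map_iSup]

namespace Fam

variable {𝒦 : Set (Subgroup G)} [Finite G] [hp : Fact p.Prime]

theorem toFQ (h : Fam p 𝒦) (hs : ∀ E ∈ 𝒦, IsStronglyPIrreducible p ↥E) :
    FQ p ((fun E : Subgroup G => E.map (QuotientGroup.mk' (pCore p G))) '' 𝒦) := by
  set P := pCore p G with hP
  set f := QuotientGroup.mk' P with hf
  have hfs : Function.Surjective f := QuotientGroup.mk'_surjective P
  have hker : IsPGroup p ↥f.ker := by rw [hf, QuotientGroup.ker_mk']; exact pCore_isPGroup p G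
  have hKn : (sSup 𝒦).Normal := sSup_normal h.hinv
  refine ⟨h.hne.image _, ?_, ?_, ?_, ?_, pCore_quotient_pCore p G, ?_, ?_⟩
  · rintro g _ ⟨E, hE, rfl⟩
    obtain ⟨g, rfl⟩ := hfs g
    exact ⟨_, h.hinv g E hE, (map_map_conj g).symm⟩
  · rintro _ ⟨E, hE, rfl⟩ _ ⟨F, hF, rfl⟩
    obtain ⟨g, rfl⟩ := h.htr E hE F hF
    exact ⟨f g, (map_map_conj g).symm⟩
  · rw [sSup_map, ← map_pResidual_of_surjective f hfs]
    exact Subgroup.map_mono h.hres
  · rintro _ ⟨E, hE, rfl⟩
    show sSup _ ≤ normalizer ((E.map f : Subgroup (G ⧸ P)) : Set (G ⧸ P))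
    rw [sSup_map, ← map_mk_sup (P := P) (E := E)]
    exact (Subgroup.map_mono (le_sup_left.trans (h.hnorm E hE))).trans (Subgroup.le_normalizer_map f)
  · rintro _ ⟨E, hE, rfl⟩
    show ¬ IsPClosed p ↥(E.map f)
    rw [← isPClosed_map_iff f hker]
    exact (hs E hE).1
  · rintro _ ⟨E, hE, rfl⟩ N hN hEN hc
    show (pResidual p ↥(E.map f)).map (E.map f).subtype ≤ N
    have hN' : N ≤ E.map f := hN
    have hEN' : E.map f ≤ normalizer (N : Set _) := hEN
    set N₀ := E ⊓ N.comap f with hN₀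
    have h1 : N₀.map f = N := by
      apply le_antisymm
      · rw [Subgroup.map_le_iff_le_comap]; exact inf_le_right
      · intro x hx
        obtain ⟨e, he, rfl⟩ := hN' hx
        exact ⟨e, ⟨he, hx⟩, rfl⟩
    have h2 : E ≤ normalizer (N₀ : Set G) := by
      apply le_normalizer_inf Subgroup.le_normalizer
      intro e he
      rw [Subgroup.mem_normalizer_iff]
      intro x
      rw [Subgroup.mem_comap, Subgroup.mem_comap, map_mul, map_mul, map_inv]
      exact Subgroup.mem_normalizer_iff.1 (hEN' ⟨e, he, rfl⟩) (f x)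
    have h3 : (N₀.subgroupOf E).Normal := subgroupOf_normal_of_le_normalizer h2
    have hcore : pCoreOf p E ≤ P := by
      have h4 : IsPGroup p ↥((pCoreOf p E).map f) := (pCoreOf_isPGroup p E).map f
      have h5 : (pCoreOf p E).map f ≤ pCoreOf p (E.map f) := by
        apply le_pCoreOf (Subgroup.map_mono (pCoreOf_le p E)) _ h4
        exact (Subgroup.map_mono (le_normalizer_pCoreOf p E)).trans (Subgroup.le_normalizer_map f)
      have h6 : pCoreOf p (E.map f) ≤ pCoreOf p ((sSup 𝒦).map f) := by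
        apply pCoreOf_le_pCoreOf_of_normal (Subgroup.map_mono (le_sSup hE))
        rw [← map_mk_sup (P := P) (E := E)]
        exact (Subgroup.map_mono (le_sup_left.trans (h.hnorm E hE))).trans (Subgroup.le_normalizer_map f)
      have h7 : pCoreOf p ((sSup 𝒦).map f) ≤ pCoreOf p ⊤ := by
        have : ((sSup 𝒦).map f).Normal := hKn.map f hfs
        exact pCoreOf_le_pCoreOf_of_normal le_top Subgroup.le_normalizer_of_normal
      rw [pCoreOf_top, pCore_quotient_pCore] at h7
      have h8 : (pCoreOf p E).map f = ⊥ := le_bot_iff.1 (h5.trans (h6.trans h7))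
      rw [Subgroup.map_eq_bot_iff, hf, QuotientGroup.ker_mk'] at h8
      exact h8
    have h4 : ¬ ⁅N₀.subgroupOf E, (⊤ : Subgroup ↥E)⁆ ≤ pCore p ↥E := by
      intro h5
      apply hc
      have h6 : ⁅N₀, E⁆ ≤ pCoreOf p E := by
        have h7 := Subgroup.map_mono (f := E.subtype) h5
        rw [Subgroup.map_commutator, map_subtype_subgroupOf inf_le_left, ← MonoidHom.range_eq_map,
          Subgroup.range_subtype] at h7
        exact h7
      show ⁅N, E.map f⁆ = ⊥
      rw [← h1, ← Subgroup.map_commutator, Subgroup.map_eq_bot_iff, hf, QuotientGroup.ker_mk']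
      exact h6.trans hcore
    have h5 := Subgroup.map_mono (f := E.subtype) ((hs E hE).2 _ h3 h4)
    rw [map_subtype_subgroupOf inf_le_left] at h5
    have h6 := Subgroup.map_mono (f := f) h5
    rw [resOf_map_of_hom, h1] at h6
    exact h6

theorem part2a (h : Fam p 𝒦) (hs : ∀ E ∈ 𝒦, IsStronglyPIrreducible p ↥E) : IsPIrreducible p G := by
  have hq := h.toFQ hs
  set P := pCore p G with hP
  set f := QuotientGroup.mk' P with hf
  have hfs : Function.Surjective f := QuotientGroup.mk'_surjective P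
  have hker : IsPGroup p ↥f.ker := by rw [hf, QuotientGroup.ker_mk']; exact pCore_isPGroup p G
  constructor
  · rw [isPClosed_iff_of_ker f hfs hker]
    exact hq.not_closed
  · intro N hN hNc
    rw [isPClosed_map_iff f hker] at hNc
    have : (N.map f).Normal := hN.map f hfs
    have h1 := hq.irr hNc
    rw [← map_pResidual_of_surjective f hfs, Subgroup.map_le_iff_le_comap, Subgroup.comap_map_eq, hf,
      QuotientGroup.ker_mk'] at h1
    have h2 := resOf_resOf (p := p) (⊤ : Subgroup G)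
    rw [resOf_top] at h2
    rw [← h2]
    apply resOf_le_of_pow_mem
    intro x hx
    exact pow_mem_of_mem_sup (pCore_isPGroup p G) Subgroup.le_normalizer_of_normal (h1 hx)

theorem part2b (h : Fam p 𝒦) (hs : ∀ E ∈ 𝒦, IsStronglyPIrreducible p ↥E) {E F : Subgroup G} (hE : E ∈ 𝒦)
    (hF : F ∈ 𝒦) : res p (E ⊔ pCore p G) = res p (F ⊔ pCore p G) ∨ ⁅E, F⁆ ≤ pCore p G := by
  have hq := h.toFQ hs
  set P := pCore p G with hP
  set f := QuotientGroup.mk' P with hf
  rcases hq.resEq_or_comm ⟨E, hE, rfl⟩ ⟨F, hF, rfl⟩ with h1 | h1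
  · left
    have key : ∀ E : Subgroup G, res p (E ⊔ P) = res p (((res p (E.map f)).comap f)) := by
      intro E
      have h2 : (res p (E.map f)).comap f = res p (E ⊔ P) ⊔ P := by
        rw [← map_mk_sup (P := P) (E := E), ← hf, res, ← resOf_map_of_hom, Subgroup.comap_map_eq, hf,
          QuotientGroup.ker_mk']
      rw [h2]
      symm
      have h3 : ((res p (E ⊔ P)).subgroupOf (res p (E ⊔ P) ⊔ P)).IsSubnormal := by
        have : ((res p (E ⊔ P)).subgroupOf (res p (E ⊔ P) ⊔ P)).Normal := by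
          apply subgroupOf_normal_of_le_normalizer
          apply sup_le Subgroup.le_normalizer
          exact le_sup_right.trans (le_normalizer_resOf _)
        exact this.isSubnormal
      have h4 := resOf_sup_of_isPGroup (p := p) h3 (pCore_isPGroup p G) Subgroup.le_normalizer_of_normal
      rw [res, h4]
      exact resOf_resOf _
    rw [key E, key F]
    have h1' : res p (E.map f) = res p (F.map f) := h1
    rw [h1']
  · right
    have h1' : ⁅E.map f, F.map f⁆ = ⊥ := h1
    rw [← Subgroup.map_commutator, Subgroup.map_eq_bot_iff, hf, QuotientGroup.ker_mk'] at h1'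
    exact h1'

/-! ### part 1 -/

end Fam

/-- `X` is the greatest proper subgroup of `F` containing `T ⊓ F` -/
def Mx (T F X : Subgroup G) : Prop := X < F ∧ T ⊓ F ≤ X ∧ ∀ Y, Y < F → T ⊓ F ≤ Y → Y ≤ X

theorem Mx.unique {T F X X' : Subgroup G} (h : Mx T F X) (h' : Mx T F X') : X = X' :=
  le_antisymm (h'.2.2 X h.1 h.2.1) (h.2.2 X' h'.1 h'.2.1)

theorem Mx.map_conj {T F X : Subgroup G} (h : Mx T F X) (g : G) :
    Mx (T.map (MulAut.conj g).toMonoidHom) (F.map (MulAut.conj g).toMonoidHom)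
      (X.map (MulAut.conj g).toMonoidHom) := by
  have hinj : Function.Injective (MulAut.conj g).toMonoidHom := (MulAut.conj g).injective
  have hback : ∀ Y : Subgroup G, (Y.map (MulAut.conj g⁻¹).toMonoidHom).map (MulAut.conj g).toMonoidHom = Y := by
    intro Y; rw [map_conj_mul, mul_inv_cancel, map_conj_one]
  refine ⟨(Subgroup.map_lt_map_iff_of_injective hinj).2 h.1, ?_, fun Y hY hTY => ?_⟩
  · rw [← Subgroup.map_inf _ _ _ hinj]
    exact Subgroup.map_mono h.2.1
  · rw [← hback Y] at hY hTY ⊢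
    rw [← Subgroup.map_inf _ _ _ hinj] at hTY
    rw [Subgroup.map_lt_map_iff_of_injective hinj] at hY
    rw [Subgroup.map_le_map_iff_of_injective hinj] at hTY ⊢
    exact h.2.2 _ hY hTY

theorem exists_mx [Finite G] [hp : Fact p.Prime] {T E P : Subgroup G} (hT : IsSyl p T (⊤ : Subgroup G))
    [hPn : P.Normal] (hPT : P ≤ T) (hTE : IsSyl p (T ⊓ E) E)
    (hs : ∀ S : Sylow p ↥E, IsMinimalOver (S : Subgroup ↥E)) : ∃ X, Mx T (E ⊔ P) X := by
  obtain ⟨S, hS⟩ := hTE
  obtain ⟨-, M, ⟨hM, hSM⟩, hu⟩ := hs S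
  set XE := M.map E.subtype with hXE
  have hXElt : XE < E := by
    rw [hXE]
    refine lt_of_le_of_ne (Subgroup.map_subtype_le _) fun h => hM.1 ?_
    rw [eq_top_iff]
    intro x _
    have h1 : (x : G) ∈ M.map E.subtype := by rw [h]; exact x.2
    obtain ⟨y, hy, hyx⟩ := h1
    rwa [← Subtype.ext hyx]
  have hTXE : T ⊓ E ≤ XE := by rw [← hS]; exact Subgroup.map_mono hSM
  have hmax : ∀ Y, Y < E → T ⊓ E ≤ Y → Y ≤ XE := by
    intro Y hY hTY
    have h1 : Y.subgroupOf E ≠ ⊤ := by
      intro h; rw [Subgroup.subgroupOf_eq_top] at h; exact absurd (lt_of_lt_of_le hY h) (lt_irrefl _)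
    obtain ⟨M', hM', hYM'⟩ := (IsCoatomic.eq_top_or_exists_le_coatom (Y.subgroupOf E)).resolve_left h1
    have h2 : (S : Subgroup ↥E) ≤ M' := by
      refine le_trans ?_ hYM'
      intro x hx
      rw [Subgroup.mem_subgroupOf]
      apply hTY
      rw [← hS]
      exact ⟨x, hx, rfl⟩
    have h3 := hu M' ⟨hM', h2⟩
    rw [hXE, ← h3, ← map_subtype_subgroupOf hY.le]
    exact Subgroup.map_mono hYM'
  have hEP : E ⊓ P ≤ XE := (le_inf (inf_le_right.trans hPT) inf_le_left).trans hTXE
  refine ⟨XE ⊔ P, ?_, ?_, ?_⟩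
  · refine lt_of_le_of_ne (sup_le_sup_right hXElt.le P) fun h => ?_
    have h1 : E ≤ XE := by
      intro e he
      have h2 : e ∈ XE ⊔ P := by rw [h]; exact Subgroup.mem_sup_left he
      obtain ⟨x, hx, y, hy, rfl⟩ := Subgroup.mem_sup_of_normal_right.1 h2
      have h3 : y ∈ E := by
        have := E.mul_mem (E.inv_mem (hXElt.le hx)) he
        convert this using 1; group
      exact XE.mul_mem hx (hEP (Subgroup.mem_inf.2 ⟨h3, hy⟩))
    exact absurd (lt_of_lt_of_le hXElt h1) (lt_irrefl _)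
  · rintro t ⟨ht, h2⟩
    obtain ⟨x, hx, y, hy, rfl⟩ := Subgroup.mem_sup_of_normal_right.1 h2
    refine Subgroup.mul_mem_sup (hTXE (Subgroup.mem_inf.2 ⟨?_, hx⟩)) hy
    have := T.mul_mem ht (T.inv_mem (hPT hy))
    convert this using 1; group
  · intro Y hY hTY
    have hPY : P ≤ Y := (le_inf hPT le_sup_right).trans hTY
    have h1 : Y ⊓ E < E := by
      refine lt_of_le_of_ne inf_le_right fun h => ?_
      have h2 : E ≤ Y := by rw [← h]; exact inf_le_left
      exact absurd (lt_of_lt_of_le hY (sup_le h2 hPY)) (lt_irrefl _)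
    have h2 : Y ⊓ E ≤ XE := hmax _ h1 (le_inf ((inf_le_inf_left T le_sup_left).trans hTY) inf_le_right)
    intro z hz
    obtain ⟨x, hx, y, hy, rfl⟩ := Subgroup.mem_sup_of_normal_right.1 (hY.le hz)
    refine Subgroup.mul_mem_sup (h2 (Subgroup.mem_inf.2 ⟨?_, hx⟩)) hy
    have := Y.mul_mem hz (Y.inv_mem (hPY hy))
    convert this using 1; group

namespace Fam

variable {𝒦 : Set (Subgroup G)} [Finite G] [hp : Fact p.Prime]

theorem part1 (h : Fam p 𝒦) (hs : ∀ E ∈ 𝒦, ∀ T : Sylow p ↥E, IsMinimalOver (T : Subgroup ↥E)) (T : Sylow p G) :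
    IsMinimalOver (T : Subgroup G) := by
  set P := pCore p G with hP
  have hKn : (sSup 𝒦).Normal := sSup_normal h.hinv
  set K := sSup 𝒦 with hK
  have hTtop : IsSyl p (T : Subgroup G) ⊤ := isSyl_sylow T le_top
  have hPT : P ≤ (T : Subgroup G) := by
    have := hTtop.pCoreOf_le
    rwa [pCoreOf_top] at this
  have hKT : K ⊔ (T : Subgroup G) = ⊤ := by
    apply hTtop.sup_eq le_top
    rw [resOf_top]; exact h.hres
  -- generation by Sylow subgroups
  have hgenE : ∀ E ∈ 𝒦, ∀ N : Subgroup G, E ≤ normalizer (N : Set G) →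
      (∀ S, IsSyl p S E → S ≤ N) → E ≤ N := by
    intro E hE N hn hSN
    obtain ⟨S, hS⟩ := exists_isSyl p E
    have hSN' := hSN S hS
    obtain ⟨S', hS'⟩ := hS
    have h1 := (hs E hE S').1
    have h2 : (N.subgroupOf E).Normal := subgroupOf_normal_of_le_normalizer hn
    have h3 : Subgroup.normalClosure ((S' : Subgroup ↥E) : Set ↥E) ≤ N.subgroupOf E := by
      apply Subgroup.normalClosure_le_normal
      intro x hx
      rw [SetLike.mem_coe, Subgroup.mem_subgroupOf]
      apply hSN'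
      rw [← hS']
      exact ⟨x, hx, rfl⟩
    rw [h1, top_le_iff, Subgroup.subgroupOf_eq_top] at h3
    exact h3
  -- the family of `E P`
  have hEK : ∀ E ∈ 𝒦, E ≤ K := fun E hE => le_sSup hE
  have hKP : (K ⊔ P).Normal := inferInstance
  have hnEP : ∀ E ∈ 𝒦, K ⊔ P ≤ normalizer ((E ⊔ P : Subgroup G) : Set G) := h.hnorm
  have hsylEP : ∀ E ∈ 𝒦, IsSyl p ((T : Subgroup G) ⊓ (E ⊔ P)) (E ⊔ P) := by
    intro E hE
    have h1 : IsSyl p ((T : Subgroup G) ⊓ (K ⊔ P)) (K ⊔ P) := hTtop.inf le_top Subgroup.le_normalizer_of_normal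
    have h2 := h1.inf (sup_le_sup_right (hEK E hE) P) (hnEP E hE)
    rwa [inf_assoc, inf_eq_right.2 (sup_le_sup_right (hEK E hE) P)] at h2
  have hsylE : ∀ E ∈ 𝒦, IsSyl p ((T : Subgroup G) ⊓ E) E := by
    intro E hE
    apply isSyl_of_max inf_le_right (T.2.to_le inf_le_left)
    intro Q hQE hQ hTQ
    have h1 : IsPGroup p ↥(Q ⊔ P) := hQ.to_sup_of_normal_right (pCore_isPGroup p G)
    have h2 : (T : Subgroup G) ⊓ (E ⊔ P) ≤ Q ⊔ P := by
      rintro t ⟨ht, h2⟩
      obtain ⟨x, hx, y, hy, rfl⟩ := Subgroup.mem_sup_of_normal_right.1 h2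
      refine Subgroup.mul_mem_sup (hTQ (Subgroup.mem_inf.2 ⟨?_, hx⟩)) hy
      have := T.mul_mem ht ((T : Subgroup G).inv_mem (hPT hy))
      convert this using 1; group
    have h3 := (hsylEP E hE).eq_of_le (sup_le_sup_right hQE P) h1 h2
    apply le_antisymm _ hTQ
    exact le_inf ((le_sup_left.trans h3.ge).trans inf_le_left) hQE
  have hmx : ∀ E ∈ 𝒦, ∃ X, Mx (T : Subgroup G) (E ⊔ P) X := fun E hE =>
    exists_mx hTtop hPT (hsylE E hE) (hs E hE)
  have hPconj : ∀ g : G, P.map (MulAut.conj g).toMonoidHom = P := fun g =>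
    mem_normalizer_iff_map_conj.1 (Subgroup.le_normalizer_of_normal (H := P) (K := ⊤) (Subgroup.mem_top g))
  have hconjEP : ∀ (E : Subgroup G) (g : G), (E ⊔ P).map (MulAut.conj g).toMonoidHom =
      E.map (MulAut.conj g).toMonoidHom ⊔ P := by
    intro E g; rw [Subgroup.map_sup, hPconj]
  have hback : ∀ (Y : Subgroup G) (g : G), (Y.map (MulAut.conj g⁻¹).toMonoidHom).map (MulAut.conj g).toMonoidHom = Y := by
    intro Y g; rw [map_conj_mul, mul_inv_cancel, map_conj_one]
  constructor
  · -- generation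
    set R := Subgroup.normalClosure ((T : Subgroup G) : Set G) with hR
    have hTR : (T : Subgroup G) ≤ R := Subgroup.subset_normalClosure
    have hRconj : ∀ g : G, R.map (MulAut.conj g).toMonoidHom = R := fun g =>
      mem_normalizer_iff_map_conj.1 (Subgroup.le_normalizer_of_normal (H := R) (K := ⊤) (Subgroup.mem_top g))
    rw [eq_top_iff, ← hKT]
    refine sup_le (sSup_le fun E hE => ?_) hTR
    apply hgenE E hE R Subgroup.le_normalizer_of_normal
    intro S hS
    obtain ⟨n, -, h1⟩ := hTtop.exists_conj_le le_top hS.isPGroup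
    refine h1.trans ?_
    rw [← hRconj n]
    exact Subgroup.map_mono hTR
  · -- the stabilizer of the family of maximal subgroups
    let St : Subgroup G :=
      { carrier := {g | ∀ E ∈ 𝒦, ∀ X, Mx (T : Subgroup G) (E ⊔ P) X ↔
          Mx (T : Subgroup G) (E.map (MulAut.conj g).toMonoidHom ⊔ P) (X.map (MulAut.conj g).toMonoidHom)}
        one_mem' := by
          intro E hE X
          rw [map_conj_one, map_conj_one]
        mul_mem' := by
          intro a b ha hb E hE X
          rw [hb E hE X, ha _ (h.hinv b E hE) _, map_conj_mul, map_conj_mul]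
        inv_mem' := by
          intro a ha E hE X
          have h1 := ha _ (h.hinv a⁻¹ E hE) (X.map (MulAut.conj a⁻¹).toMonoidHom)
          rw [hback, hback] at h1
          exact h1.symm }
    have hSt : ∀ g, g ∈ St ↔ ∀ E ∈ 𝒦, ∀ X, Mx (T : Subgroup G) (E ⊔ P) X ↔
          Mx (T : Subgroup G) (E.map (MulAut.conj g).toMonoidHom ⊔ P) (X.map (MulAut.conj g).toMonoidHom) :=
      fun g => Iff.rfl
    have hTconj : ∀ t ∈ T, (T : Subgroup G).map (MulAut.conj t).toMonoidHom = (T : Subgroup G) := fun t ht =>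
      mem_normalizer_iff_map_conj.1 (Subgroup.le_normalizer ht)
    have hTSt : (T : Subgroup G) ≤ St := by
      intro t ht
      rw [hSt]
      intro E hE X
      constructor
      · intro h1
        have h2 := h1.map_conj t
        rwa [hTconj t ht, hconjEP] at h2
      · intro h1
        have h2 := h1.map_conj t⁻¹
        rw [hTconj _ (T.inv_mem ht), hconjEP, map_conj_mul, map_conj_mul, inv_mul_cancel, map_conj_one,
          map_conj_one] at h2
        exact h2
    have hFconj : ∀ E ∈ 𝒦, ∀ k ∈ K ⊔ P, E.map (MulAut.conj k).toMonoidHom ⊔ P = E ⊔ P := by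
      intro E hE k hk
      rw [← hconjEP]
      exact mem_normalizer_iff_map_conj.1 (hnEP E hE hk)
    have hStne : St ≠ ⊤ := by
      intro htop
      obtain ⟨E, hE⟩ := h.hne
      obtain ⟨X, hX⟩ := hmx E hE
      have hn : E ⊔ P ≤ normalizer (X : Set G) := by
        intro e he
        rw [mem_normalizer_iff_map_conj]
        have h1 : e ∈ St := by rw [htop]; exact Subgroup.mem_top e
        have h2 := (hSt e).1 h1 E hE X
        rw [hFconj E hE e ((sup_le_sup_right (hEK E hE) P) he)] at h2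
        exact (h2.1 hX).unique hX
      have hPX : P ≤ X := (le_inf hPT le_sup_right).trans hX.2.1
      have hEX : E ≤ X := by
        apply hgenE E hE X (le_sup_left.trans hn)
        intro S hS
        obtain ⟨n, hn', h1⟩ := (hsylE E hE).conj_of_isSyl hS
        rw [← h1, ← mem_normalizer_iff_map_conj.1 (hn (Subgroup.mem_sup_left hn'))]
        apply Subgroup.map_mono
        exact (inf_le_inf_left _ le_sup_left).trans hX.2.1
      exact absurd (lt_of_lt_of_le hX.1 (sup_le hEX hPX)) (lt_irrefl _)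
    have hmain : ∀ M : Subgroup G, IsCoatom M → (T : Subgroup G) ≤ M → M = St := by
      intro M hM hTM
      have hPM : P ≤ M := hPT.trans hTM
      have hnot : ∀ E ∈ 𝒦, ¬ E ⊔ P ≤ M := by
        intro E hE hEM
        apply hM.1
        rw [eq_top_iff, ← hKT]
        refine sup_le (sSup_le fun E' hE' => ?_) hTM
        obtain ⟨g, rfl⟩ := h.htr E hE E' hE'
        obtain ⟨k, hk, t, ht, hkt⟩ := (Subgroup.mem_sup_of_normal_left).1
          (show g ∈ K ⊔ (T : Subgroup G) by rw [hKT]; exact Subgroup.mem_top g)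
        rw [← hkt, ← map_conj_mul]
        have h1 : (E.map (MulAut.conj t).toMonoidHom).map (MulAut.conj k).toMonoidHom ⊔ P =
            E.map (MulAut.conj t).toMonoidHom ⊔ P := hFconj _ (h.hinv t E hE) k (Subgroup.mem_sup_left hk)
        have h2 : E.map (MulAut.conj t).toMonoidHom ⊔ P ≤ M := by
          rw [← hconjEP, ← mem_normalizer_iff_map_conj.1 (Subgroup.le_normalizer (hTM ht))]
          exact Subgroup.map_mono hEM
        exact (le_sup_left.trans h1.le).trans h2
      have hMSt : M ≤ St := by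
        intro m hm
        obtain ⟨k, hk, t, ht, rfl⟩ := (Subgroup.mem_sup_of_normal_left).1
          (show m ∈ K ⊔ (T : Subgroup G) by rw [hKT]; exact Subgroup.mem_top m)
        refine St.mul_mem ?_ (hTSt ht)
        have hkM : k ∈ M := by
          have := M.mul_mem hm (M.inv_mem (hTM ht))
          convert this using 1; group
        rw [hSt]
        intro E hE X
        obtain ⟨X₀, hX₀⟩ := hmx E hE
        rw [hFconj E hE k (Subgroup.mem_sup_left hk)]
        have hkX : X₀.map (MulAut.conj k).toMonoidHom = X₀ := by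
          rw [← mem_normalizer_iff_map_conj]
          have hlt : M ⊓ (E ⊔ P) < E ⊔ P :=
            lt_of_le_of_ne inf_le_right fun h1 => hnot E hE (by rw [← h1]; exact inf_le_left)
          have hle : M ⊓ (E ⊔ P) ≤ X₀ := hX₀.2.2 _ hlt (inf_le_inf_right _ hTM)
          have hsy : IsSyl p ((T : Subgroup G) ⊓ (E ⊔ P)) (M ⊓ (E ⊔ P)) :=
            (hsylEP E hE).mono (inf_le_inf_right _ hTM) inf_le_right
          have hEKP : E ⊔ P ≤ K ⊔ P := sup_le_sup_right (hEK E hE) P
          obtain ⟨a, ha, n, hn, rfl⟩ := hsy.exists_mul_of_frattini (N := M ⊓ (K ⊔ P)) (inf_le_inf_left _ hEKP)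
            (le_normalizer_inf (inf_le_left.trans Subgroup.le_normalizer) (inf_le_right.trans (hnEP E hE)))
            (Subgroup.mem_inf.2 ⟨hkM, Subgroup.mem_sup_left hk⟩)
          refine Subgroup.mul_mem _ (Subgroup.le_normalizer (hle ha)) ?_
          rw [mem_normalizer_iff_map_conj]
          have hnF := mem_normalizer_iff_map_conj.1 (hnEP E hE (Subgroup.mem_inf.1 (Subgroup.mem_inf.1 hn).1).2)
          have hnT := mem_normalizer_iff_map_conj.1 (Subgroup.mem_inf.1 hn).2
          have hinj : Function.Injective (MulAut.conj n).toMonoidHom := (MulAut.conj n).injective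
          have h1 : X₀.map (MulAut.conj n).toMonoidHom ≤ X₀ := by
            apply hX₀.2.2
            · conv_rhs => rw [← hnF]
              exact (Subgroup.map_lt_map_iff_of_injective hinj).2 hX₀.1
            · conv_lhs => rw [← hnT]
              exact Subgroup.map_mono hX₀.2.1
          exact Subgroup.eq_of_le_of_card_ge h1 (card_map_conj X₀ n).ge
        constructor
        · intro h1
          rw [h1.unique hX₀, hkX]; exact hX₀
        · intro h1
          have h2 := h1.unique hX₀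
          rw [← hkX] at h2
          have h3 := Subgroup.map_injective (f := (MulAut.conj k).toMonoidHom) (MulAut.conj k).injective h2
          rw [h3]; exact hX₀
      rcases (hM.le_iff).1 hMSt with h1 | h1
      · exact absurd h1 hStne
      · exact h1.symm
    -- existence
    have hTne : (T : Subgroup G) ≠ ⊤ := by
      intro h1
      apply hStne
      rw [eq_top_iff, ← h1]; exact hTSt
    obtain ⟨M, hM, hTM⟩ := (IsCoatomic.eq_top_or_exists_le_coatom (T : Subgroup G)).resolve_left hTne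
    exact ⟨M, ⟨hM, hTM⟩, fun M' hM' => (hmain M' hM'.1 hM'.2).trans (hmain M hM hTM).symm⟩

end Fam

end CfsgLib.Kf8
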