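import Mathlib
import Cfsg.Agent.EqBase
import Cfsg.Agent.LibExtraH28

/-! Counting subgroups of `p`-groups modulo `p ^ 2` (Kulakoff): complements of a central subgroup. -/

set_option autoImplicit false
set_option linter.style.haveILetI false

universe u

namespace CfsgLib.KulH12

/-- count by fibres -/
theorem card_fiber {α β : Type*} [Finite α] [Finite β] [Fintype β] (f : α → β) :
    Nat.card α = ∑ b : β, Nat.card {a // f a = b} := by
  rw [Nat.card_congr (Equiv.sigmaFiberEquiv f).symm, Nat.card_sigma]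

section hom
variable {p : ℕ} [hp : Fact p.Prime]

theorem hom_ker {X C : Type*} [Group X] [Finite X] [Group C]
    (hC : Nat.card C = p) (f : X →* C) : frattini X ≤ f.ker := by
  haveI : Finite C := Nat.finite_of_card_ne_zero (by rw [hC]; exact hp.out.ne_zero)
  haveI : IsCyclic C := isCyclic_of_prime_card hC
  apply CfsgLib.ExtraH28.frattini_le_of_elem (p := p)
  · intro x
    rw [MonoidHom.mem_ker, map_pow, ← hC, pow_card_eq_one']
  · intro x y
    rw [MonoidHom.mem_ker, map_mul, map_mul, map_mul, map_inv, map_inv]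
    have h3 : f x * f y = f y * f x := (IsCyclic.commGroup (α := C)).mul_comm _ _
    rw [h3]; group

theorem card_hom {X C : Type*} [Group X] [Finite X] [Group C] (hX : IsPGroup p X)
    (hC : Nat.card C = p) : Nat.card (X →* C) = (frattini X).index := by
  rw [← CfsgLib.ExtraH28.card_hom_quot (frattini X) (CfsgLib.ExtraH28.pow_mem_frattini hX)
    (CfsgLib.ExtraH28.comm_mem_frattini hX) hC]
  exact Nat.card_congr ⟨fun f => ⟨f, hom_ker hC f⟩, fun f => f.1, fun f => rfl, fun f => rfl⟩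

/-- noncyclic groups have many homomorphisms -/
theorem hom_noncyclic {X C : Type*} [Group X] [Finite X] [Group C] (hX : IsPGroup p X)
    (hC : Nat.card C = p) (hnc : ¬ IsCyclic X) : p ^ 2 ∣ Nat.card (X →* C) := by
  rw [card_hom hX hC]
  obtain ⟨d, hd⟩ : ∃ d, (frattini X).index = p ^ d := IsPGroup.index hX (frattini X)
  rw [hd]
  apply pow_dvd_pow
  by_contra hlt
  have hlt' : d = 0 ∨ d = 1 := by omega
  apply hnc
  have hcyc : IsCyclic (X ⧸ frattini X) := by
    rcases hlt' with rfl | rfl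
    · haveI : Subsingleton (X ⧸ frattini X) := by
        apply (Nat.card_eq_one_iff_unique.mp _).1
        rw [← Subgroup.index_eq_card, hd, pow_zero]
      infer_instance
    · exact isCyclic_of_prime_card (p := p) (by rw [← Subgroup.index_eq_card, hd, pow_one])
  obtain ⟨g, hg⟩ := hcyc.exists_generator
  obtain ⟨x, rfl⟩ := QuotientGroup.mk_surjective g
  have h1 : Subgroup.zpowers x ⊔ frattini X = ⊤ := by
    rw [eq_top_iff]
    intro y _
    obtain ⟨k, hk⟩ := Subgroup.mem_zpowers_iff.mp (hg (y : X ⧸ frattini X))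
    have h2 : (x ^ k)⁻¹ * y ∈ frattini X := by
      rw [← QuotientGroup.eq]
      simpa using hk
    have h3 : y = x ^ k * ((x ^ k)⁻¹ * y) := by group
    rw [h3]
    exact Subgroup.mul_mem_sup (Subgroup.zpow_mem_zpowers x k) h2
  have h2 := frattini_nongenerating h1
  exact isCyclic_iff_exists_zpowers_eq_top.mpr ⟨x, h2⟩

theorem hom_cyclic {X C : Type*} [Group X] [Finite X] [Group C] (hX : IsPGroup p X)
    (hC : Nat.card C = p) [hc : IsCyclic X] [hn : Nontrivial X] : Nat.card (X →* C) = p := by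
  obtain ⟨g, hg⟩ := hc.exists_generator
  have h1 : p ∣ orderOf g := by
    rw [orderOf_eq_card_of_forall_mem_zpowers hg]
    obtain ⟨k, hk⟩ := IsPGroup.iff_card.mp hX
    have : 1 < Nat.card X := Finite.one_lt_card
    rw [hk] at this ⊢
    exact dvd_pow_self p (by rintro rfl; simp at this)
  rw [← hC]
  haveI : Finite C := Nat.finite_of_card_ne_zero (by rw [hC]; exact hp.out.ne_zero)
  refine Nat.card_congr (Equiv.ofBijective (fun f : X →* C => f g) ⟨?_, ?_⟩)
  · intro f1 f2 h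
    exact (MonoidHom.eq_iff_eq_on_generator hg f1 f2).mpr h
  · intro c
    have hc' : orderOf c ∣ orderOf g := (orderOf_dvd_natCard c).trans (by rw [hC]; exact h1)
    exact ⟨monoidHomOfForallMemZpowers hg hc', monoidHomOfForallMemZpowers_apply_gen hg hc'⟩

end hom

section compl
variable {G : Type u} [Group G] (Z H0 : Subgroup G) (hZ : Z ≤ Subgroup.center G)
include hZ

theorem comm_of_mem {z : G} (hz : z ∈ Z) (x : G) : z * x = x * z :=
  (Subgroup.mem_center_iff.mp (hZ hz) x).symm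

theorem mem_sup' {H : Subgroup G} {x : G} (hx : x ∈ H ⊔ Z) : ∃ y ∈ H, ∃ z ∈ Z, y * z = x := by
  haveI : Z.Normal := ⟨fun n hn g => by
    rw [← comm_of_mem Z hZ hn, mul_inv_cancel_right]; exact hn⟩
  have h1 : x ∈ ((H ⊔ Z : Subgroup G) : Set G) := hx
  rw [Subgroup.mul_normal] at h1
  exact Set.mem_mul.mp h1

/-- twisted embedding -/
def tw (f : H0 →* Z) : H0 →* G where
  toFun h := (h : G) * (f h : G)
  map_one' := by simp
  map_mul' a b := by
    have := comm_of_mem Z hZ (f a).2 (b : G)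
    rw [map_mul, Subgroup.coe_mul, Subgroup.coe_mul]
    calc (a : G) * b * (f a * f b) = a * (b * f a) * f b := by group
      _ = a * (f a * b) * f b := by rw [this]
      _ = _ := by group

theorem tw_apply (f : H0 →* Z) (h : H0) : tw Z H0 hZ f h = (h : G) * (f h : G) := rfl

variable (h0 : H0 ⊓ Z = ⊥)
include h0

theorem tw_inj (f : H0 →* Z) : Function.Injective (tw Z H0 hZ f) := by
  rw [injective_iff_map_eq_one]
  intro h hh
  rw [tw_apply] at hh
  have h1 : (h : G) ∈ H0 ⊓ Z := ⟨h.2, by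
    have : (h : G) = ((f h : G))⁻¹ := mul_eq_one_iff_eq_inv.mp hh
    rw [this]; exact Z.inv_mem (f h).2⟩
  rw [h0, Subgroup.mem_bot] at h1
  exact Subtype.ext h1

theorem range_inf (f : H0 →* Z) : (tw Z H0 hZ f).range ⊓ Z = ⊥ := by
  rw [eq_bot_iff]
  rintro _ ⟨⟨h, rfl⟩, hz⟩
  have hz' : (h : G) * (f h : G) ∈ Z := hz
  have h1 : (h : G) ∈ H0 ⊓ Z := ⟨h.2, (Z.mul_mem_cancel_right (f h).2).mp hz'⟩
  rw [h0, Subgroup.mem_bot] at h1
  have : h = 1 := Subtype.ext h1
  rw [this, map_one]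
  exact one_mem _

theorem range_sup (f : H0 →* Z) : (tw Z H0 hZ f).range ⊔ Z = H0 ⊔ Z := by
  apply le_antisymm
  · apply sup_le _ le_sup_right
    rintro _ ⟨h, rfl⟩
    exact Subgroup.mul_mem_sup h.2 (f h).2
  · apply sup_le _ le_sup_right
    intro h hh
    have : h = (h * (f ⟨h, hh⟩ : G)) * (f ⟨h, hh⟩ : G)⁻¹ := by group
    rw [this]
    exact Subgroup.mul_mem_sup ⟨⟨h, hh⟩, rfl⟩ (Z.inv_mem (f ⟨h, hh⟩).2)

theorem range_injective {f g : H0 →* Z} (h : (tw Z H0 hZ f).range = (tw Z H0 hZ g).range) :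
    f = g := by
  ext x
  have h1 : tw Z H0 hZ f x ∈ (tw Z H0 hZ g).range := by rw [← h]; exact ⟨x, rfl⟩
  obtain ⟨y, hy⟩ := h1
  rw [tw_apply, tw_apply] at hy
  have h2 : (x : G)⁻¹ * y ∈ H0 ⊓ Z := ⟨H0.mul_mem (H0.inv_mem x.2) y.2, by
    have : (x : G)⁻¹ * y = (f x : G) * (g y : G)⁻¹ := by
      rw [eq_mul_inv_iff_mul_eq, mul_assoc, hy]; group
    rw [this]; exact Z.mul_mem (f x).2 (Z.inv_mem (g y).2)⟩
  rw [h0, Subgroup.mem_bot] at h2
  have h3 : y = x := Subtype.ext (by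
    have : (y : G) = x * ((x : G)⁻¹ * y) := by group
    rw [this, h2, mul_one])
  rw [h3] at hy
  exact (mul_left_cancel hy).symm

theorem exists_hom (H : Subgroup G) (h1 : H ⊓ Z = ⊥) (h2 : H ⊔ Z = H0 ⊔ Z) :
    ∃ f : H0 →* Z, (tw Z H0 hZ f).range = H := by
  classical
  have hex : ∀ x : H0, ∃ z : Z, (x : G) * (z : G) ∈ H := by
    intro x
    have h3 : (x : G) ∈ H ⊔ Z := by rw [h2]; exact (le_sup_left : H0 ≤ H0 ⊔ Z) x.2
    obtain ⟨y, hy, z, hz, hyz⟩ := mem_sup' Z hZ h3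
    refine ⟨⟨z, hz⟩⁻¹, ?_⟩
    change (x : G) * z⁻¹ ∈ H
    rw [← hyz, mul_inv_cancel_right]
    exact hy
  have huniq : ∀ (x : G) (z z' : Z), x * (z : G) ∈ H → x * (z' : G) ∈ H → z = z' := by
    intro x z z' hz hz'
    have h3 : (z : G)⁻¹ * z' ∈ H ⊓ Z := ⟨by
      have := H.mul_mem (H.inv_mem hz) hz'
      have e : (x * (z : G))⁻¹ * (x * (z' : G)) = (z : G)⁻¹ * z' := by group
      rwa [e] at this, Z.mul_mem (Z.inv_mem z.2) z'.2⟩
    rw [h1, Subgroup.mem_bot] at h3
    exact Subtype.ext (inv_mul_eq_one.mp h3)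
  choose F hF using hex
  let f : H0 →* Z :=
    { toFun := F
      map_one' := huniq 1 _ _ (by simpa using hF 1) (by simp)
      map_mul' := fun a b => huniq ((a : G) * b) _ _ (by simpa using hF (a * b)) (by
        have := H.mul_mem (hF a) (hF b)
        have e : (a : G) * (F a : G) * (b * (F b : G)) = (a : G) * b * ((F a * F b : Z) : G) := by
          rw [Subgroup.coe_mul]
          have := comm_of_mem Z hZ (F a).2 (b : G)
          calc (a : G) * (F a : G) * (b * (F b : G)) = a * ((F a : G) * b) * F b := by group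
            _ = a * (b * F a) * F b := by rw [this]
            _ = _ := by group
        rwa [e] at this) }
  refine ⟨f, le_antisymm ?_ ?_⟩
  · rintro _ ⟨x, rfl⟩
    exact hF x
  · intro y hy
    have h3 : y ∈ H0 ⊔ Z := by rw [← h2]; exact (le_sup_left : H ≤ H ⊔ Z) hy
    obtain ⟨x, hx, z, hz, hxz⟩ := mem_sup' Z hZ h3
    refine ⟨⟨x, hx⟩, ?_⟩
    rw [tw_apply]
    have h4 : F ⟨x, hx⟩ = ⟨z, hz⟩ := huniq x _ _ (hF ⟨x, hx⟩) (by rw [hxz]; exact hy)
    change x * (F ⟨x, hx⟩ : G) = y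
    rw [h4, hxz]

/-- number of complements -/
theorem card_compl : Nat.card {H : Subgroup G // H ⊓ Z = ⊥ ∧ H ⊔ Z = H0 ⊔ Z} =
    Nat.card (H0 →* Z) := by
  symm
  refine Nat.card_congr (Equiv.ofBijective (fun f => ⟨(tw Z H0 hZ f).range,
    range_inf Z H0 hZ h0 f, range_sup Z H0 hZ h0 f⟩) ⟨?_, ?_⟩)
  · intro f g h
    exact range_injective Z H0 hZ h0 (congrArg Subtype.val h)
  · rintro ⟨H, h1, h2⟩
    obtain ⟨f, hf⟩ := exists_hom Z H0 hZ h0 H h1 h2
    exact ⟨f, Subtype.ext hf⟩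

theorem compl_iso (H : Subgroup G) (h1 : H ⊓ Z = ⊥) (h2 : H ⊔ Z = H0 ⊔ Z) :
    Nonempty (H0 ≃* H) := by
  obtain ⟨f, rfl⟩ := exists_hom Z H0 hZ h0 H h1 h2
  exact ⟨MonoidHom.ofInjective (tw_inj Z H0 hZ h0 f)⟩

end compl

end CfsgLib.KulH12
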