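import Mathlib
import Cfsg.Agent.EqBase
import Cfsg.Agent.LibKulAH12
import Cfsg.Agent.LibFgCnt
import Cfsg.Agent.LibFgCount

/-! Counting subgroups of `p`-groups modulo `p ^ 2` (Kulakoff). -/

set_option autoImplicit false
set_option linter.style.haveILetI false

universe u

namespace CfsgLib.KulH12

/-- number of subgroups of order `n` -/
noncomputable def nn (G : Type u) [Group G] (n : ℕ) : ℕ := Nat.card {H : Subgroup G // Nat.card H = n}

/-- number of cyclic subgroups of order `n` -/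
noncomputable def cc (G : Type u) [Group G] (n : ℕ) : ℕ :=
  Nat.card {H : Subgroup G // Nat.card H = n ∧ IsCyclic H}

theorem card_split {α : Type*} [Finite α] (P Q : α → Prop) : Nat.card {a // P a} =
    Nat.card {a // P a ∧ Q a} + Nat.card {a // P a ∧ ¬ Q a} := by
  classical
  haveI := Fintype.ofFinite α
  simp only [Nat.card_eq_fintype_card, Fintype.card_subtype]
  rw [← Finset.card_filter_add_card_filter_not (s := Finset.univ.filter P) (p := Q),
    Finset.filter_filter, Finset.filter_filter]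

section
variable {G : Type u} [Group G] [Finite G] {p : ℕ} [hp : Fact p.Prime] (hG : IsPGroup p G)
  (Z : Subgroup G) (hZ : Z ≤ Subgroup.center G) (hZp : Nat.card Z = p)

include hZp in
theorem inf_bot {H : Subgroup G} (h : ¬ Z ≤ H) : H ⊓ Z = ⊥ := by
  have h1 : Nat.card (H ⊓ Z : Subgroup G) ∣ p := by
    rw [← hZp]; exact Subgroup.card_dvd_of_le inf_le_right
  rcases (Nat.dvd_prime hp.out).mp h1 with h2 | h2
  · exact Subgroup.card_eq_one.mp h2
  · exfalso
    apply h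
    have h3 : H ⊓ Z = Z := Subgroup.eq_of_le_of_card_ge inf_le_right (by rw [h2, hZp])
    rw [← h3]; exact inf_le_left

include hZp in
theorem not_le {H : Subgroup G} (h : H ⊓ Z = ⊥) : ¬ Z ≤ H := by
  intro hle
  rw [inf_eq_right.mpr hle] at h
  rw [h, Subgroup.card_bot] at hZp
  exact hp.out.one_lt.ne hZp

include hZ hZp in
/-- fibres -/
theorem fibre (n : ℕ) (Q : Subgroup G → Prop) (hQ : ∀ H K : Subgroup G, Nonempty (H ≃* K) → (Q H → Q K))
    (H0 : Subgroup G) (h0 : Nat.card H0 = n) (h0Z : ¬ Z ≤ H0) (hQ0 : Q H0) :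
    Nat.card {H : {H : Subgroup G // Nat.card H = n ∧ ¬ Z ≤ H ∧ Q H} // H.1 ⊔ Z = H0 ⊔ Z} =
      Nat.card (H0 →* Z) := by
  have hb := inf_bot Z hZp h0Z
  rw [← card_compl Z H0 hZ hb]
  refine Nat.card_congr ⟨fun H => ⟨H.1.1, inf_bot Z hZp H.1.2.2.1, H.2⟩,
    fun H => ⟨⟨H.1, ?_, not_le Z hZp H.2.1, ?_⟩, H.2.2⟩, fun H => rfl, fun H => rfl⟩
  · obtain ⟨e⟩ := compl_iso Z H0 hZ hb H.1 H.2.1 H.2.2
    rw [← Nat.card_congr e.toEquiv, h0]
  · obtain ⟨e⟩ := compl_iso Z H0 hZ hb H.1 H.2.1 H.2.2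
    exact hQ H0 H.1 ⟨e⟩ hQ0

include hG hZ hZp in
theorem dvd_Tn (n : ℕ) : p ^ 2 ∣
    Nat.card {H : Subgroup G // Nat.card H = n ∧ ¬ Z ≤ H ∧ ¬ IsCyclic H} := by
  classical
  haveI : Fintype (Subgroup G) := Fintype.ofFinite _
  rw [card_fiber (fun H : {H : Subgroup G // Nat.card H = n ∧ ¬ Z ≤ H ∧ ¬ IsCyclic H} => H.1 ⊔ Z)]
  apply Finset.dvd_sum
  intro K _
  by_cases hK : ∃ H : {H : Subgroup G // Nat.card H = n ∧ ¬ Z ≤ H ∧ ¬ IsCyclic H}, H.1 ⊔ Z = K
  · obtain ⟨⟨H0, h1, h2, h3⟩, rfl⟩ := hK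
    have := fibre Z hZ hZp n (fun H => ¬ IsCyclic H) (fun H K ⟨e⟩ hH hK => hH
      (by haveI := hK; exact isCyclic_of_surjective e.symm e.symm.surjective)) H0 h1 h2 h3
    rw [this]
    exact hom_noncyclic (hG.to_subgroup H0) hZp h3
  · have : IsEmpty {a : {H : Subgroup G // Nat.card H = n ∧ ¬ Z ≤ H ∧ ¬ IsCyclic H} // a.1 ⊔ Z = K} :=
      ⟨fun a => hK ⟨a.1, a.2⟩⟩
    rw [Nat.card_of_isEmpty]
    exact dvd_zero _

include hG hZ hZp in
theorem card_Tc (b : ℕ) :
    Nat.card {H : Subgroup G // Nat.card H = p ^ (b + 1) ∧ ¬ Z ≤ H ∧ IsCyclic H} =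
    Nat.card {K : Subgroup G // ∃ H : Subgroup G, (Nat.card H = p ^ (b + 1) ∧ ¬ Z ≤ H ∧ IsCyclic H) ∧
      H ⊔ Z = K} * p := by
  apply CfsgLib.FgCnt.card_eq_mul_of_fiber (fun H => ⟨H.1 ⊔ Z, H.1, H.2, rfl⟩)
  rintro ⟨K, H0, ⟨h1, h2, h3⟩, rfl⟩
  have h4 := fibre Z hZ hZp (p ^ (b + 1)) (fun H => IsCyclic H) (fun H K ⟨e⟩ hH => by
      haveI := hH; exact isCyclic_of_surjective e e.surjective) H0 h1 h2 h3
  haveI : Nontrivial H0 := by
    rw [← Finite.one_lt_card_iff_nontrivial, h1]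
    exact Nat.one_lt_pow (by omega) hp.out.one_lt
  rw [hom_cyclic (hG.to_subgroup H0) hZp] at h4
  refine (Nat.card_congr ⟨fun H => ⟨H.1, congrArg Subtype.val H.2⟩, fun H => ⟨H.1, Subtype.ext H.2⟩,
    fun H => rfl, fun H => rfl⟩).trans h4

omit [Finite G] in
theorem card_sup' [Z.Normal] (H : Subgroup G) (h : H ⊓ Z = ⊥) :
    Nat.card (H ⊔ Z : Subgroup G) = Nat.card H * Nat.card Z := by
  have h1 := Subgroup.relIndex_mul_relIndex (⊥ : Subgroup G) Z (H ⊔ Z) bot_le le_sup_right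
  rw [Subgroup.relIndex_bot_left, Subgroup.relIndex_bot_left, Subgroup.relIndex_sup_right,
    ← Subgroup.inf_relIndex_right, inf_comm, h, Subgroup.relIndex_bot_left] at h1
  rw [← h1, mul_comm]

/-- correspondence -/
theorem card_comap' [Z.Normal] (K : Subgroup (G ⧸ Z)) :
    Nat.card (K.comap (QuotientGroup.mk' Z)) = Nat.card K * Nat.card Z := by
  have h1 : (K.comap (QuotientGroup.mk' Z)).index = K.index :=
    Subgroup.index_comap_of_surjective K (QuotientGroup.mk'_surjective Z)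
  have h2 := (K.comap (QuotientGroup.mk' Z)).index_mul_card
  have h3 := K.index_mul_card
  have h4 := Z.index_mul_card
  have h5 : Nat.card (G ⧸ Z) = Z.index := rfl
  rw [h1] at h2
  rw [h5] at h3
  have h6 : 0 < K.index := Nat.pos_of_ne_zero (Subgroup.index_ne_zero_of_finite)
  apply Nat.eq_of_mul_eq_mul_left h6
  rw [h2, ← h4, ← h3]; ring

include hZp in
theorem nn_quot [Z.Normal] (b : ℕ) : nn (G ⧸ Z) (p ^ b) =
    Nat.card {H : Subgroup G // Nat.card H = p ^ (b + 1) ∧ Z ≤ H} := by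
  refine Nat.card_congr ⟨fun K => ⟨K.1.comap (QuotientGroup.mk' Z), ?_, ?_⟩,
    fun H => ⟨H.1.map (QuotientGroup.mk' Z), ?_⟩, fun K => Subtype.ext ?_, fun H => Subtype.ext ?_⟩
  · rw [card_comap', K.2, hZp, pow_succ]
  · exact QuotientGroup.le_comap_mk' Z K.1
  · have h1 := card_comap' Z (H.1.map (QuotientGroup.mk' Z))
    have h2 : p ^ (b + 1) = p ^ b * p := pow_succ _ _
    rw [QuotientGroup.comap_map_mk', sup_eq_right.mpr H.2.2, H.2.1, hZp] at h1
    exact (Nat.eq_of_mul_eq_mul_right hp.out.pos (h2.symm.trans h1)).symm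
  · exact Subgroup.map_comap_eq_self_of_surjective (QuotientGroup.mk'_surjective Z) K.1
  · change (H.1.map (QuotientGroup.mk' Z)).comap (QuotientGroup.mk' Z) = H.1
    rw [QuotientGroup.comap_map_mk', sup_eq_right.mpr H.2.2]

include hZ hZp hG in
/-- a subgroup with cyclic image -/
theorem cyc_iff [Z.Normal] (b : ℕ) (K : Subgroup G) (hK : Z ≤ K) (hKc : Nat.card K = p ^ (b + 2)) :
    IsCyclic (K.map (QuotientGroup.mk' Z)) ↔ (IsCyclic K ∨
      ∃ H : Subgroup G, (Nat.card H = p ^ (b + 1) ∧ ¬ Z ≤ H ∧ IsCyclic H) ∧ H ⊔ Z = K) := by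
  constructor
  · intro hc
    by_cases hKcyc : IsCyclic K
    · exact Or.inl hKcyc
    · right
      obtain ⟨⟨y, hy⟩, hg⟩ := hc.exists_generator
      obtain ⟨x, hx, rfl⟩ := hy
      have hsup : Subgroup.zpowers x ⊔ Z = K := by
        apply le_antisymm
        · exact sup_le (by rw [Subgroup.zpowers_le]; exact hx) hK
        · intro w hw
          obtain ⟨k, hk⟩ := Subgroup.mem_zpowers_iff.mp (hg ⟨QuotientGroup.mk' Z w, w, hw, rfl⟩)
          have hk' : (QuotientGroup.mk' Z x) ^ k = QuotientGroup.mk' Z w := congrArg Subtype.val hk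
          have h2 : (x ^ k)⁻¹ * w ∈ Z := by
            rw [← QuotientGroup.eq]
            simpa using hk'
          have h3 : w = x ^ k * ((x ^ k)⁻¹ * w) := by group
          rw [h3]
          exact Subgroup.mul_mem_sup (Subgroup.zpow_mem_zpowers x k) h2
      have hnle : ¬ Z ≤ Subgroup.zpowers x := by
        intro hle
        rw [sup_eq_left.mpr hle] at hsup
        exact hKcyc (by rw [← hsup]; infer_instance)
      refine ⟨Subgroup.zpowers x, ⟨?_, hnle, inferInstance⟩, hsup⟩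
      have hb := inf_bot Z hZp hnle
      have h4 := card_sup' Z (Subgroup.zpowers x) hb
      rw [hsup, hKc, hZp] at h4
      have h5 : p ^ (b + 2) = p ^ (b + 1) * p := pow_succ _ _
      exact (Nat.eq_of_mul_eq_mul_right hp.out.pos (h5.symm.trans h4)).symm
  · rintro (h | ⟨H, ⟨h1, h2, h3⟩, rfl⟩)
    · haveI := h
      exact isCyclic_of_surjective ((QuotientGroup.mk' Z).subgroupMap K)
        ((QuotientGroup.mk' Z).subgroupMap_surjective K)
    · haveI := h3
      rw [Subgroup.map_sup, (Subgroup.map_eq_bot_iff Z).mpr (by rw [QuotientGroup.ker_mk']), sup_bot_eq]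
      exact isCyclic_of_surjective ((QuotientGroup.mk' Z).subgroupMap H)
        ((QuotientGroup.mk' Z).subgroupMap_surjective H)

include hG hZ hZp in
/-- cyclic subgroups of the quotient -/
theorem cc_quot [Z.Normal] (b : ℕ) : cc (G ⧸ Z) (p ^ (b + 1)) =
    Nat.card {K : Subgroup G // (Nat.card K = p ^ (b + 2) ∧ Z ≤ K) ∧ IsCyclic K} +
    Nat.card {K : Subgroup G // ∃ H : Subgroup G, (Nat.card H = p ^ (b + 1) ∧ ¬ Z ≤ H ∧ IsCyclic H) ∧
      H ⊔ Z = K} := by
  have h1 : cc (G ⧸ Z) (p ^ (b + 1)) = Nat.card {K : Subgroup G //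
      (Nat.card K = p ^ (b + 2) ∧ Z ≤ K) ∧ IsCyclic (K.map (QuotientGroup.mk' Z))} := by
    refine Nat.card_congr ⟨fun K => ⟨K.1.comap (QuotientGroup.mk' Z), ⟨?_, ?_⟩, ?_⟩,
      fun H => ⟨H.1.map (QuotientGroup.mk' Z), ?_, H.2.2⟩, fun K => Subtype.ext ?_,
      fun H => Subtype.ext ?_⟩
    · rw [card_comap', K.2.1, hZp, ← pow_succ]
    · exact QuotientGroup.le_comap_mk' Z K.1
    · rw [Subgroup.map_comap_eq_self_of_surjective (QuotientGroup.mk'_surjective Z) K.1]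
      exact K.2.2
    · have h1 := card_comap' Z (H.1.map (QuotientGroup.mk' Z))
      have h2 : p ^ (b + 2) = p ^ (b + 1) * p := pow_succ _ _
      rw [QuotientGroup.comap_map_mk', sup_eq_right.mpr H.2.1.2, H.2.1.1, hZp] at h1
      exact (Nat.eq_of_mul_eq_mul_right hp.out.pos (h2.symm.trans h1)).symm
    · exact Subgroup.map_comap_eq_self_of_surjective (QuotientGroup.mk'_surjective Z) K.1
    · change (H.1.map (QuotientGroup.mk' Z)).comap (QuotientGroup.mk' Z) = H.1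
      rw [QuotientGroup.comap_map_mk', sup_eq_right.mpr H.2.1.2]
  rw [h1, card_split _ (fun K : Subgroup G => IsCyclic K)]
  congr 1
  · apply Nat.card_congr
    apply Equiv.subtypeEquivRight
    intro K
    constructor
    · rintro ⟨⟨h2, h3⟩, h4⟩
      exact ⟨h2, h4⟩
    · rintro ⟨h2, h4⟩
      exact ⟨⟨h2, (cyc_iff hG Z hZ hZp b K h2.2 h2.1).mpr (Or.inl h4)⟩, h4⟩
  · apply Nat.card_congr
    apply Equiv.subtypeEquivRight
    intro K
    constructor
    · rintro ⟨⟨h2, h3⟩, h4⟩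
      exact ((cyc_iff hG Z hZ hZp b K h2.2 h2.1).mp h3).resolve_left h4
    · rintro ⟨H, ⟨h2, h3, h4⟩, rfl⟩
      have hZle : Z ≤ H ⊔ Z := le_sup_right
      have hb := inf_bot Z hZp h3
      have hc : Nat.card (H ⊔ Z : Subgroup G) = p ^ (b + 2) := by
        rw [card_sup' Z H hb, h2, hZp, ← pow_succ]
      refine ⟨⟨⟨hc, hZle⟩, (cyc_iff hG Z hZ hZp b _ hZle hc).mpr
        (Or.inr ⟨H, ⟨h2, h3, h4⟩, rfl⟩)⟩, ?_⟩
      intro hcyc
      haveI := hcyc
      -- the join of `H` and `Z` is not cyclic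
      haveI : Nontrivial H := by
        rw [← Finite.one_lt_card_iff_nontrivial, h2]
        exact Nat.one_lt_pow (by omega) hp.out.one_lt
      obtain ⟨x, hx⟩ := exists_prime_orderOf_dvd_card' (G := H) p (by
        rw [h2]; exact dvd_pow_self p (by omega))
      have hx' : Nat.card (Subgroup.zpowers (x : G)) = p := by
        rw [Nat.card_zpowers, Subgroup.orderOf_coe, hx]
      have hxH : Subgroup.zpowers (x : G) ≤ H := by rw [Subgroup.zpowers_le]; exact x.2
      have e1 : Nat.card ((Subgroup.zpowers (x : G)).subgroupOf (H ⊔ Z)) = p := by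
        rw [Nat.card_congr (Subgroup.subgroupOfEquivOfLe (hxH.trans le_sup_left)).toEquiv, hx']
      have e2 : Nat.card (Z.subgroupOf (H ⊔ Z)) = p := by
        rw [Nat.card_congr (Subgroup.subgroupOfEquivOfLe hZle).toEquiv, hZp]
      have e3 : (Subgroup.zpowers (x : G)).subgroupOf (H ⊔ Z) = Z.subgroupOf (H ⊔ Z) := by
        have e5 := CfsgLib.FgCount.card_cyclic (C := (H ⊔ Z : Subgroup G)) (d := p) (by
          rw [hc]; exact dvd_pow_self p (by omega))
        have e6 := (Nat.card_eq_one_iff_unique.mp e5).1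
        exact congrArg Subtype.val (@Subsingleton.elim _ e6 ⟨_, e1⟩ ⟨_, e2⟩)
      apply h3
      have e4 : Z ≤ Subgroup.zpowers (x : G) := by
        have := (Subgroup.subgroupOf_inj.mp e3)
        rw [inf_eq_left.mpr hZle] at this
        rw [← this]; exact inf_le_left
      exact e4.trans hxH

include hG hZ hZp in
/-- the recursion -/
theorem recursion [Z.Normal] (b : ℕ) : nn G (p ^ (b + 1)) + p * cc G (p ^ (b + 2)) ≡
    nn (G ⧸ Z) (p ^ b) + p * cc (G ⧸ Z) (p ^ (b + 1)) [MOD p ^ 2] := by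
  have h1 : nn G (p ^ (b + 1)) = nn (G ⧸ Z) (p ^ b) +
      Nat.card {H : Subgroup G // Nat.card H = p ^ (b + 1) ∧ ¬ Z ≤ H} := by
    rw [nn_quot Z hZp b]
    exact card_split _ _
  have h2 : Nat.card {H : Subgroup G // Nat.card H = p ^ (b + 1) ∧ ¬ Z ≤ H} =
      Nat.card {H : Subgroup G // Nat.card H = p ^ (b + 1) ∧ ¬ Z ≤ H ∧ IsCyclic H} +
      Nat.card {H : Subgroup G // Nat.card H = p ^ (b + 1) ∧ ¬ Z ≤ H ∧ ¬ IsCyclic H} := by
    rw [card_split _ (fun H : Subgroup G => IsCyclic H)]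
    congr 1 <;> (apply Nat.card_congr; apply Equiv.subtypeEquivRight; intro K; rw [and_assoc])
  have h3 := card_Tc hG Z hZ hZp b
  have h4 := cc_quot hG Z hZ hZp b
  have h5 : cc G (p ^ (b + 2)) =
      Nat.card {K : Subgroup G // (Nat.card K = p ^ (b + 2) ∧ Z ≤ K) ∧ IsCyclic K} +
      Nat.card {H : Subgroup G // Nat.card H = p ^ (b + 2) ∧ ¬ Z ≤ H ∧ IsCyclic H} := by
    unfold cc
    rw [card_split _ (fun H : Subgroup G => Z ≤ H)]
    congr 1 <;> (apply Nat.card_congr; apply Equiv.subtypeEquivRight; intro K; tauto)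
  have h6 := card_Tc hG Z hZ hZp (b + 1)
  obtain ⟨m, hm⟩ := dvd_Tn hG Z hZ hZp (p ^ (b + 1))
  rw [h1, h2, h3, h4, h5, h6, hm]
  generalize Nat.card {K : Subgroup G // (Nat.card K = p ^ (b + 2) ∧ Z ≤ K) ∧ IsCyclic K} = c1
  generalize Nat.card {K : Subgroup G // ∃ H : Subgroup G, (Nat.card H = p ^ (b + 1) ∧ ¬ Z ≤ H ∧ IsCyclic H) ∧
      H ⊔ Z = K} = c2
  generalize Nat.card {K : Subgroup G // ∃ H : Subgroup G, (Nat.card H = p ^ (b + 1 + 1) ∧ ¬ Z ≤ H ∧ IsCyclic H) ∧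
      H ⊔ Z = K} = c3
  have e : nn (G ⧸ Z) (p ^ b) + (c2 * p + p ^ 2 * m) + p * (c1 + c3 * p) =
      (nn (G ⧸ Z) (p ^ b) + p * (c1 + c2)) + p ^ 2 * (m + c3) := by ring
  rw [e]
  exact Nat.ModEq.symm (by simp [Nat.ModEq])

end

/-- Miller's theorem -/
theorem miller {G : Type u} [Group G] [Finite G] {p : ℕ} [hp : Fact p.Prime] (hp2 : p ≠ 2)
    (hG : IsPGroup p G) (hnc : ¬ IsCyclic G) (b : ℕ) : p ∣ cc G (p ^ (b + 2)) := by
  have h1 := CfsgLib.FgCnt.dvd_card_pgroup hp2 hG hnc (s := b + 2) (by omega)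
  have h2 : Nat.card {x : G // orderOf x = p ^ (b + 2)} = cc G (p ^ (b + 2)) *
      Nat.totient (p ^ (b + 2)) := by
    apply CfsgLib.FgCnt.card_eq_mul_of_fiber (fun x : {x : G // orderOf x = p ^ (b + 2)} =>
      (⟨Subgroup.zpowers x.1, by rw [Nat.card_zpowers]; exact x.2, inferInstance⟩ :
        {H : Subgroup G // Nat.card H = p ^ (b + 2) ∧ IsCyclic H}))
    rintro ⟨C, hC1, hC2⟩
    have h3 := CfsgLib.FgCnt.card_gen C hC2
    rw [hC1] at h3
    exact (Nat.card_congr ⟨fun x => ⟨x.1.1, congrArg Subtype.val x.2⟩,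
      fun x => ⟨⟨x.1, by rw [← Nat.card_zpowers, x.2, hC1]⟩,
      Subtype.ext x.2⟩, fun x => rfl, fun x => rfl⟩).trans h3
  have h0 : Nat.totient (p ^ (b + 2)) = p ^ (b + 1) * (p - 1) :=
    Nat.totient_prime_pow_succ hp.out (b + 1)
  rw [h2, h0] at h1
  have h3 : p ^ (b + 1) * p ∣ p ^ (b + 1) * (cc G (p ^ (b + 2)) * (p - 1)) := by
    rw [← pow_succ, show p ^ (b + 1) * (cc G (p ^ (b + 2)) * (p - 1)) =
      cc G (p ^ (b + 2)) * (p ^ (b + 1) * (p - 1)) by ring]
    exact h1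
  have h4 := Nat.dvd_of_mul_dvd_mul_left (pow_pos hp.out.pos _) h3
  rcases hp.out.dvd_mul.mp h4 with h5 | h5
  · exact h5
  · exfalso
    have h6 := hp.out.one_lt
    have := Nat.le_of_dvd (by omega) h5
    omega

theorem nn_cyclic {G : Type u} [Group G] [Finite G] [IsCyclic G] {n : ℕ} (h : n ∣ Nat.card G) :
    nn G n = 1 := CfsgLib.FgCount.card_cyclic h

theorem cc_cyclic {G : Type u} [Group G] [Finite G] [IsCyclic G] {n : ℕ} (h : n ∣ Nat.card G) :
    cc G n = 1 := by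
  rw [← nn_cyclic h]
  exact Nat.card_congr ⟨fun H => ⟨H.1, H.2.1⟩, fun H => ⟨H.1, H.2, inferInstance⟩,
    fun H => rfl, fun H => rfl⟩

theorem nn_one {G : Type u} [Group G] [Finite G] : nn G 1 = 1 := by
  unfold nn
  rw [Nat.card_eq_one_iff_unique]
  refine ⟨⟨fun a b => Subtype.ext ?_⟩, ⟨⟨⊥, Subgroup.card_bot⟩⟩⟩
  rw [Subgroup.card_eq_one.mp a.2, Subgroup.card_eq_one.mp b.2]

theorem cc_prime {G : Type u} [Group G] [Finite G] {p : ℕ} [hp : Fact p.Prime] :
    cc G p = nn G p := by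
  exact Nat.card_congr ⟨fun H => ⟨H.1, H.2.1⟩, fun H => ⟨H.1, H.2, isCyclic_of_prime_card H.2⟩,
    fun H => rfl, fun H => rfl⟩

theorem dvd_of_mod {p x : ℕ} (h : p ∣ x) : p * x ≡ 0 [MOD p ^ 2] := by
  obtain ⟨m, rfl⟩ := h
  rw [Nat.modEq_zero_iff_dvd]
  exact ⟨m, by ring⟩

/-- Kulakoff's theorem -/
theorem kulakoff {p : ℕ} [hp : Fact p.Prime] (hp2 : p ≠ 2) (n : ℕ) : ∀ (G : Type u) [Group G]
    [Finite G], Nat.card G = p ^ n → ¬ IsCyclic G → ∀ b : ℕ, b + 1 < n →
    nn G (p ^ (b + 1)) ≡ 1 + p [MOD p ^ 2] := by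
  induction n with
  | zero => intro G _ _ _ _ b hb; omega
  | succ n ih =>
    intro G _ _ hcard hnc b hb
    have hG : IsPGroup p G := IsPGroup.of_card hcard
    haveI : Nontrivial G := by
      rw [← Finite.one_lt_card_iff_nontrivial, hcard]
      exact Nat.one_lt_pow (by omega) hp.out.one_lt
    haveI := hG.center_nontrivial
    obtain ⟨z, hz⟩ := exists_prime_orderOf_dvd_card' (G := Subgroup.center G) p (by
      obtain ⟨k, hk⟩ := IsPGroup.iff_card.mp (hG.to_subgroup (Subgroup.center G))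
      have : 1 < Nat.card (Subgroup.center G) := Finite.one_lt_card
      rw [hk] at this ⊢
      exact dvd_pow_self p (by rintro rfl; simp at this))
    obtain ⟨Z, hZdef⟩ : ∃ Z : Subgroup G, Z = Subgroup.zpowers (z : G) := ⟨_, rfl⟩
    have hZ : Z ≤ Subgroup.center G := by rw [hZdef, Subgroup.zpowers_le]; exact z.2
    have hZp : Nat.card Z = p := by rw [hZdef, Nat.card_zpowers, Subgroup.orderOf_coe, hz]
    haveI : Z.Normal := ⟨fun w hw g => by
      rw [← comm_of_mem Z hZ hw, mul_inv_cancel_right]; exact hw⟩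
    have hQ : Nat.card (G ⧸ Z) = p ^ n := by
      have h1 := Z.index_mul_card
      rw [hZp, hcard, pow_succ] at h1
      exact Nat.eq_of_mul_eq_mul_right hp.out.pos h1
    have hrec := recursion hG Z hZ hZp b
    have h1 : p * cc G (p ^ (b + 2)) ≡ 0 [MOD p ^ 2] := dvd_of_mod (miller hp2 hG hnc b)
    have h2 : nn G (p ^ (b + 1)) ≡ nn (G ⧸ Z) (p ^ b) + p * cc (G ⧸ Z) (p ^ (b + 1)) [MOD p ^ 2] := by
      refine Nat.ModEq.trans ?_ hrec
      have := Nat.ModEq.add_left (nn G (p ^ (b + 1))) h1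
      simpa using this.symm
    refine h2.trans ?_
    by_cases hc : IsCyclic (G ⧸ Z)
    · rw [nn_cyclic (by rw [hQ]; exact pow_dvd_pow p (by omega)),
        cc_cyclic (by rw [hQ]; exact pow_dvd_pow p (by omega)), mul_one]
    · rcases b with _ | b
      · rw [pow_zero, nn_one, zero_add, pow_one, cc_prime]
        have h3 : nn (G ⧸ Z) p ≡ 1 [MOD p] := by
          have := CfsgLib.FgCount.frobenius (G := G ⧸ Z) p 1 hp.out (by
            rw [hQ]; exact pow_dvd_pow p (by omega))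
          rwa [pow_one] at this
        have h4 : p * nn (G ⧸ Z) p ≡ p * 1 [MOD p * p] := Nat.ModEq.mul_left' p h3
        rw [mul_one, ← sq] at h4
        exact Nat.ModEq.add_left 1 h4
      · have h3 := ih (G ⧸ Z) hQ hc b (by omega)
        have h4 : p * cc (G ⧸ Z) (p ^ (b + 2)) ≡ 0 [MOD p ^ 2] :=
          dvd_of_mod (miller hp2 (IsPGroup.of_card hQ) hc b)
        have := Nat.ModEq.add h3 h4
        simpa using this

end CfsgLib.KulH12
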