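import Cfsg.Agent.LibLER

set_option autoImplicit false

/-! Kieler's Lemma (helper10). -/

open Cfsg Subgroup
open scoped Pointwise

namespace CfsgLib.LE

variable {G : Type*} [Group G] {p : ℕ}

/-- Kieler's Lemma, one step: `L` normal in `H`. -/
theorem kieler_step [Finite G] [hp : Fact p.Prime] {H L T : Subgroup G} (hH : CharPOf p H) (hT : IsSyl p T H)
    (hLH : L ≤ H) (hHL : H ≤ normalizer (L : Set G)) :
    L ⊓ centralizer (omegaOne p (T ⊓ centralizer (T : Set G)) : Set G) =
      L ⊓ centralizer (omegaOne p ((T ⊓ L) ⊓ centralizer ((T ⊓ L : Subgroup G) : Set G)) : Set G) := by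
  set Z := omegaOne p (T ⊓ centralizer (T : Set G)) with hZ
  set S := T ⊓ L with hS
  set ZL := omegaOne p (S ⊓ centralizer (S : Set G)) with hZL
  have hSL : IsSyl p S L := hT.inf hLH hHL
  have hLc : CharPOf p L := hH.normal hLH hHL
  have hTL : T ≤ normalizer (L : Set G) := hT.le.trans hHL
  have hTS : T ≤ normalizer (S : Set G) := le_normalizer_inf Subgroup.le_normalizer hTL
  have hST : S ≤ T := inf_le_left
  have hSL' : S ≤ L := inf_le_right
  -- the two elementary abelian groups
  set A := omegaOne p (pCoreOf p L ⊓ centralizer (pCoreOf p L : Set G)) with hA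
  have hAc : ∀ x ∈ A, ∀ y ∈ A, x * y = y * x := (isElementaryAbelian_iff.1 (isElementaryAbelian_omegaZ _)).1
  have hAp : IsPGroup p ↥A := isPGroup_of_elementaryAbelian (isElementaryAbelian_omegaZ _)
  have hZLA : ZL ≤ A := by
    have h1 : S ⊓ centralizer (S : Set G) ≤ pCoreOf p L ⊓ centralizer (pCoreOf p L : Set G) := by
      have h2 : S ⊓ centralizer (S : Set G) ≤ centralizer (pCoreOf p L : Set G) :=
        inf_le_right.trans (Subgroup.centralizer_le hSL.pCoreOf_le)
      exact le_inf ((le_inf (inf_le_left.trans hSL') h2).trans hLc) h2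
    exact omegaOne_mono h1
  have hHA : H ≤ normalizer (A : Set G) :=
    (hHL.trans (normalizer_le_normalizer_pCoreOf p L)).trans (normalizer_le_normalizer_omegaZ _)
  have hAL : A ≤ pCoreOf p L := omegaZ_le _
  have hidx : ¬ p ∣ S.relIndex L := hSL.not_dvd_relIndex
  apply le_antisymm
  · -- `X = C_L(Z)` centralizes `C_A(T)`
    set X := L ⊓ centralizer (Z : Set G) with hX
    have hTZ : T ≤ centralizer (Z : Set G) := le_centralizer_omegaZ T
    have hSX : S ≤ X := le_inf hSL' (hST.trans hTZ)
    have hTX : T ≤ normalizer (X : Set G) :=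
      le_normalizer_inf hTL (hTZ.trans Subgroup.le_normalizer)
    have hXA : X ≤ normalizer (A : Set G) := inf_le_left.trans (hLH.trans hHA)
    have hSXidx : ¬ p ∣ S.relIndex X := (hSL.mono hSX inf_le_left).not_dvd_relIndex
    have h1 : A ⊓ centralizer (T : Set G) ≤ centralizer (X : Set G) := by
      have h2 : A ⊓ centralizer (T : Set G) ≤ Z := by
        intro a ha
        obtain ⟨haA, haT⟩ := Subgroup.mem_inf.1 ha
        apply mem_omegaOne
        · exact Subgroup.mem_inf.2 ⟨hST (hSL.pCoreOf_le (hAL haA)), haT⟩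
        · exact (isElementaryAbelian_iff.1 (isElementaryAbelian_omegaZ _)).2 a haA
      refine h2.trans ?_
      rw [Subgroup.le_centralizer_iff]
      exact inf_le_right
    have h2 := CfsgLib.LETr.le_centralizer_of_fixed hAc hAp hXA (hT.le.trans hHA) hT.isPGroup hTX hTS hSX hSXidx h1
    refine le_inf inf_le_left ?_
    rw [Subgroup.le_centralizer_iff]
    exact (le_inf hZLA (omegaZ_le_centralizer S)).trans h2
  · -- Gaschütz
    have hZH : Z ≤ pCoreOf p H := by
      have h1 : Z ≤ H ⊓ centralizer (pCoreOf p H : Set G) :=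
        le_inf ((omegaZ_le T).trans hT.le) ((omegaZ_le_centralizer T).trans (Subgroup.centralizer_le hT.pCoreOf_le))
      exact h1.trans hH
    set B := omegaOne p (pCoreOf p H ⊓ centralizer (pCoreOf p H : Set G)) with hB
    have hZB : Z ≤ B := by
      intro z hz
      apply mem_omegaOne
      · exact Subgroup.mem_inf.2 ⟨hZH hz, (Subgroup.centralizer_le hT.pCoreOf_le) (omegaZ_le_centralizer T hz)⟩
      · exact (isElementaryAbelian_iff.1 (isElementaryAbelian_omegaZ T)).2 z hz
    have hBe : IsElementaryAbelian p B := isElementaryAbelian_omegaZ _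
    have hHB : H ≤ normalizer (B : Set G) :=
      (le_normalizer_pCoreOf p H).trans (normalizer_le_normalizer_omegaZ _)
    have hLB : L ≤ normalizer (B : Set G) := hLH.trans hHB
    refine le_inf inf_le_left ?_
    rw [Subgroup.le_centralizer_iff]
    intro z hz
    have hzS : z ∈ centralizer (S : Set G) := Subgroup.centralizer_le hST (omegaZ_le_centralizer T hz)
    have h1 := mem_sup_commutator_of_fixed hBe hLB hidx (hZB hz) hzS
    have hBn : B ⊓ centralizer (L : Set G) ≤ normalizer ((⁅B, L⁆ : Subgroup G) : Set G) :=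
      inf_le_left.trans (Subgroup.normalizer_commutator_ge_left _ _)
    obtain ⟨c, hc, w, hw, rfl⟩ := (mem_sup_of_le_normalizer hBn).1 h1
    obtain ⟨hcB, hcL⟩ := Subgroup.mem_inf.1 hc
    have hwB : w ∈ B := (le_normalizer_iff_commutator_le_left.1 hLB) hw
    have hwL : w ∈ pCoreOf p L := by
      have h2 : ⁅B, L⁆ ≤ L ⊓ pCoreOf p H := by
        refine le_inf ?_ ?_
        · exact le_normalizer_iff_commutator_le_right.1 (((omegaZ_le _).trans (pCoreOf_le p H)).trans hHL)
        · exact (le_normalizer_iff_commutator_le_left.1 hLB).trans (omegaZ_le _)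
      exact (inf_pCoreOf_le hLH) (h2 hw)
    have hwS : w ∈ centralizer (S : Set G) := by
      have h3 : w = c⁻¹ * (c * w) := by group
      rw [h3]
      exact Subgroup.mul_mem _ (Subgroup.inv_mem _ (Subgroup.centralizer_le hSL' hcL)) hzS
    have hwZ : w ∈ ZL := by
      apply mem_omegaOne
      · exact Subgroup.mem_inf.2 ⟨hSL.pCoreOf_le hwL, hwS⟩
      · exact (isElementaryAbelian_iff.1 hBe).2 w hwB
    apply Subgroup.mul_mem
    · exact Subgroup.centralizer_le inf_le_left hcL
    · have h4 : ZL ≤ centralizer ((L ⊓ centralizer (ZL : Set G) : Subgroup G) : Set G) := by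
        rw [Subgroup.le_centralizer_iff]; exact inf_le_right
      exact h4 hwZ

/-- Kieler's Lemma. -/
theorem kieler [Finite G] [hp : Fact p.Prime] (hG : centralizer (pCore p G : Set G) ≤ pCore p G) (T : Sylow p G)
    {L : Subgroup G} (hL : L.IsSubnormal) :
    L ⊓ centralizer (omegaOne p ((T : Subgroup G) ⊓ centralizer ((T : Subgroup G) : Set G)) : Set G) =
      L ⊓ centralizer (omegaOne p (((T : Subgroup G) ⊓ L) ⊓ centralizer (((T : Subgroup G) ⊓ L : Subgroup G) : Set G)) : Set G) := by
  induction hL with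
  | top => rw [inf_top_eq]
  | step A B hAB hB hn ih =>
    have h1 : CharPOf p B := charP_of_isSubnormal hG hB
    have h2 := isSyl_inf_of_isSubnormal T hB
    have h3 := kieler_step h1 h2 hAB (le_normalizer_of_subgroupOf_normal hAB hn)
    have h4 : ((T : Subgroup G) ⊓ B) ⊓ A = (T : Subgroup G) ⊓ A := by
      rw [inf_assoc, inf_eq_right.2 hAB]
    rw [h4] at h3
    rw [← h3]
    have h5 := congrArg (fun X => A ⊓ X) ih
    simp only [← inf_assoc, inf_eq_left.2 hAB] at h5
    exact h5

end CfsgLib.LE
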