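import Cfsg.Statements.S3028
import Mathlib
import Cfsg.Agent.LibLE11Syl
import Cfsg.Agent.LibComp3
import Cfsg.Agent.LibLE11CD
import Cfsg.Agent.LibLE11Basic
import Cfsg.Agent.S0538

set_option autoImplicit false
set_option linter.all false
open Cfsg

namespace Cfsg.Agent.S3028

open CfsgLib.LE11Syl
open scoped Pointwise

universe u

theorem norm_of_step {G : Type u} [Group G] {H K : Subgroup G} (h_le : H ≤ K) (hNn : (H.subgroupOf K).Normal) :
    K ≤ Subgroup.normalizer (H : Set G) := by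
  intro k hk
  rw [Subgroup.mem_normalizer_iff]
  intro z
  constructor
  · intro hz
    have := hNn.conj_mem ⟨z, h_le hz⟩ (Subgroup.mem_subgroupOf.mpr hz) ⟨k, hk⟩
    exact Subgroup.mem_subgroupOf.mp this
  · intro hz
    have := hNn.conj_mem ⟨k * z * k⁻¹, h_le hz⟩ (Subgroup.mem_subgroupOf.mpr hz) ⟨k⁻¹, K.inv_mem hk⟩
    have h4 := Subgroup.mem_subgroupOf.mp this
    have e : ((⟨k⁻¹, K.inv_mem hk⟩ * ⟨k * z * k⁻¹, h_le hz⟩ * (⟨k⁻¹, K.inv_mem hk⟩)⁻¹ : K) : G) = z := by
      show k⁻¹ * (k * z * k⁻¹) * k⁻¹⁻¹ = z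
      group
    rwa [e] at h4

theorem syl_sub {G : Type u} [Group G] [Finite G] {p : ℕ} [Fact p.Prime] {S A : Subgroup G} (hS : IsSyl p S ⊤) (hA : A.IsSubnormal) : IsSyl p (S ⊓ A) A := by
  induction hA with
  | top => rwa [inf_top_eq]
  | step H K h_le hSubn hNn ih =>
    have h3 := ih.inf_of_normal h_le (norm_of_step h_le hNn)
    rwa [inf_assoc, inf_eq_right.mpr h_le] at h3

/-- transport of `IsSyl` through the inclusion of a subgroup -/
theorem isSyl_map_iff {G : Type u} [Group G] [Finite G] {p : ℕ} [Fact p.Prime] {K : Subgroup G} (R M : Subgroup K) :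
    IsSyl p (R.map K.subtype) (M.map K.subtype) ↔ IsSyl p R M := by
  constructor
  · intro h
    apply isSyl_of_card
    · exact (Subgroup.map_le_map_iff_of_injective K.subtype_injective).mp h.1
    · have := h.card_pow
      rwa [Subgroup.card_map_of_injective K.subtype_injective, Subgroup.card_map_of_injective K.subtype_injective] at this
  · intro h
    apply isSyl_of_card
    · exact Subgroup.map_mono h.1
    · rw [Subgroup.card_map_of_injective K.subtype_injective, Subgroup.card_map_of_injective K.subtype_injective]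
      exact h.card_pow

/-- if one of the two is normal in the join -/
theorem normal_case {G : Type u} [Group G] [Finite G] {p : ℕ} [Fact p.Prime] {S A B : Subgroup G} (hS : IsSyl p S ⊤)
    (hA : A.Normal) (hB : B.IsSubnormal) (hAB : A ⊔ B = ⊤) : IsSyl p ((A ⊓ S) ⊔ (B ⊓ S)) ⊤ := by
  have hA' := syl_sub hS hA.isSubnormal
  have hB' := syl_sub hS hB
  have hle : (A ⊓ S) ⊔ (B ⊓ S) ≤ S := sup_le inf_le_right inf_le_right
  have hAB' := syl_sub hS (hA.isSubnormal.inf hB)
  -- orders
  have h1 : Nat.card (A ⊓ S : Subgroup G) = p ^ (Nat.card A).factorization p := by rw [inf_comm]; exact hA'.card_pow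
  have h2 : Nat.card (B ⊓ S : Subgroup G) = p ^ (Nat.card B).factorization p := by rw [inf_comm]; exact hB'.card_pow
  have h3 : Nat.card (A ⊓ B ⊓ S : Subgroup G) = p ^ (Nat.card (A ⊓ B : Subgroup G)).factorization p := by
    rw [inf_comm (A ⊓ B) S]; exact hAB'.card_pow
  have hset : ((A ⊔ B : Subgroup G) : Set G) = (A : Set G) * (B : Set G) := by
    rw [Subgroup.normal_mul]
  have h4 := CfsgLib.LE11CD.card_mul_card_inf A B
  rw [← hset, hAB] at h4
  have h4' : Nat.card (⊤ : Subgroup G) * Nat.card (A ⊓ B : Subgroup G) = Nat.card A * Nat.card B := h4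
  have h5 := CfsgLib.LE11CD.card_mul_le (A ⊓ S) (B ⊓ S)
  have e : (A ⊓ S) ⊓ (B ⊓ S) = A ⊓ B ⊓ S := by
    rw [inf_inf_inf_comm, inf_idem]
  rw [e, h1, h2, h3] at h5
  have h6 : (Nat.card (⊤ : Subgroup G)).factorization p + (Nat.card (A ⊓ B : Subgroup G)).factorization p = (Nat.card A).factorization p + (Nat.card B).factorization p := by
    have := congrArg (fun n => n.factorization p) h4'
    have h61 := congrArg (fun f => f p) (Nat.factorization_mul (Nat.card_pos (α := (⊤ : Subgroup G))).ne' (Nat.card_pos (α := (A ⊓ B : Subgroup G))).ne')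
    have h62 := congrArg (fun f => f p) (Nat.factorization_mul (Nat.card_pos (α := A)).ne' (Nat.card_pos (α := B)).ne')
    simp only [Finsupp.add_apply] at h61 h62
    rw [← h61, ← h62]
    exact this
  have h7 : p ^ (Nat.card (⊤ : Subgroup G)).factorization p ≤ Nat.card ((A ⊓ S) ⊔ (B ⊓ S) : Subgroup G) := by
    have hpos : 0 < p ^ (Nat.card (A ⊓ B : Subgroup G)).factorization p := pow_pos (Fact.out : p.Prime).pos _
    rw [← pow_add, ← h6, pow_add] at h5
    exact Nat.le_of_mul_le_mul_right h5 hpos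
  have h8 : (A ⊓ S) ⊔ (B ⊓ S) = S := Subgroup.eq_of_le_of_card_ge hle (by rw [hS.card_pow]; exact h7)
  rw [h8]; exact hS

theorem main : ∀ (n : ℕ) (G : Type u) [Group G] [Finite G] (p : ℕ) [Fact p.Prime] (S A B : Subgroup G), Nat.card G ≤ n → IsSyl p S ⊤ →
    A.IsSubnormal → B.IsSubnormal → IsSyl p ((A ⊓ S) ⊔ (B ⊓ S)) (A ⊔ B) := by
  intro n
  induction n with
  | zero => intro G _ _ p _ S A B hn; exact absurd hn (by have := Nat.card_pos (α := G); omega)
  | succ n ih =>
    intro G _ _ p _ S A B hn hS hA hB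
    -- the case of a proper join
    have hproper : ∀ A B : Subgroup G, A.IsSubnormal → B.IsSubnormal → A ⊔ B ≠ ⊤ → IsSyl p ((A ⊓ S) ⊔ (B ⊓ S)) (A ⊔ B) := by
      intro A B hA hB hAB
      set K := A ⊔ B with hK
      have hKs : K.IsSubnormal := Cfsg.Agent.S0538.result A B hA hB
      have hSK := syl_sub hS hKs
      have hcard : Nat.card K ≤ n := by
        have h2 := Subgroup.card_mul_index K
        have h3 : K.index ≠ 1 := fun h => hAB (Subgroup.index_eq_one.mp h)
        have h4 : 0 < K.index := Nat.pos_of_ne_zero Subgroup.index_ne_zero_of_finite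
        have h5 : 2 ≤ K.index := by omega
        have h6 : 0 < Nat.card K := Nat.card_pos
        nlinarith
      have hS' : IsSyl p (S.subgroupOf K) ⊤ := by
        rw [← isSyl_map_iff, ← MonoidHom.range_eq_map, Subgroup.range_subtype, Subgroup.subgroupOf_map_subtype]
        exact hSK
      have h1 := ih K p (S.subgroupOf K) (A.subgroupOf K) (B.subgroupOf K) hcard hS' hA.subgroupOf hB.subgroupOf
      rw [← isSyl_map_iff, Subgroup.map_sup, Subgroup.map_sup] at h1
      have hAK : A ≤ K := le_sup_left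
      have hBK : B ≤ K := le_sup_right
      have e1 : ∀ X : Subgroup G, X ≤ K → (X.subgroupOf K).map K.subtype = X := fun X hX => Subgroup.map_subgroupOf_eq_of_le hX
      have e2 : ∀ X : Subgroup G, X ≤ K → (X.subgroupOf K ⊓ S.subgroupOf K).map K.subtype = X ⊓ S := by
        intro X hX
        have : X.subgroupOf K ⊓ S.subgroupOf K = (X ⊓ S).subgroupOf K := by
          ext y; simp [Subgroup.mem_subgroupOf]
        rw [this]
        exact e1 _ (inf_le_left.trans hX)
      rw [e1 A hAK, e1 B hBK, e2 A hAK, e2 B hBK] at h1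
      exact h1
    by_cases hAB : A ⊔ B = ⊤
    swap
    · exact hproper A B hA hB hAB
    -- choose a counterexample with |A| + |B| maximal
    by_contra hcon
    rw [hAB] at hcon
    let 𝒞 : Set (Subgroup G × Subgroup G) := {x | x.1.IsSubnormal ∧ x.2.IsSubnormal ∧ x.1 ⊔ x.2 = ⊤ ∧ ¬ IsSyl p ((x.1 ⊓ S) ⊔ (x.2 ⊓ S)) ⊤}
    obtain ⟨⟨A1, A2⟩, ⟨h1, h2, h12, hns⟩, hmax⟩ := Set.Finite.exists_maximalFor (fun x : Subgroup G × Subgroup G => Nat.card x.1 + Nat.card x.2) 𝒞 (Set.toFinite _) ⟨(A, B), hA, hB, hAB, hcon⟩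
    simp only at h1 h2 h12 hns hmax
    have hsymm : ¬ IsSyl p ((A2 ⊓ S) ⊔ (A1 ⊓ S)) ⊤ := by rwa [sup_comm]
    -- key property
    have key : ∀ (C1 C2 : Subgroup G), C1.IsSubnormal → C2.IsSubnormal → C1 ⊔ C2 = ⊤ → ¬ IsSyl p ((C1 ⊓ S) ⊔ (C2 ⊓ S)) ⊤ →
        (∀ D1 D2 : Subgroup G, D1.IsSubnormal → D2.IsSubnormal → D1 ⊔ D2 = ⊤ → ¬ IsSyl p ((D1 ⊓ S) ⊔ (D2 ⊓ S)) ⊤ → Nat.card D1 + Nat.card D2 ≤ Nat.card C1 + Nat.card C2) →
        ∀ X : Subgroup G, X.IsSubnormal → X ≤ C2 → C1 ⊔ X ≠ ⊤ → X ≤ C1 := by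
      intro C1 C2 hC1 hC2 hC hCs hCmax X hX hXC hne
      by_contra hXC1
      have h3 := hproper C1 X hC1 hX hne
      have hJ : (C1 ⊔ X).IsSubnormal := Cfsg.Agent.S0538.result C1 X hC1 hX
      have h4 := syl_sub hS hJ
      have h5 : (C1 ⊔ X) ⊓ S = (C1 ⊓ S) ⊔ (X ⊓ S) := by
        apply h3.eq_of_le inf_le_left (hS.2.1.to_le inf_le_right)
        exact le_inf (sup_le (inf_le_left.trans le_sup_left) (inf_le_left.trans le_sup_right)) (sup_le inf_le_right inf_le_right)
      have h6 : ((C1 ⊔ X) ⊓ S) ⊔ (C2 ⊓ S) = (C1 ⊓ S) ⊔ (C2 ⊓ S) := by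
        rw [h5, sup_assoc]
        congr 1
        exact sup_eq_right.mpr (inf_le_inf_right _ hXC)
      have h7 := hCmax (C1 ⊔ X) C2 hJ hC2 (by
        rw [eq_top_iff, ← hC]; exact sup_le_sup_right le_sup_left _) (by rw [h6]; exact hCs)
      have h8 : C1 = C1 ⊔ X := Subgroup.eq_of_le_of_card_ge le_sup_left (by omega)
      apply hXC1
      rw [h8]; exact le_sup_right
    have hmax1 : ∀ D1 D2 : Subgroup G, D1.IsSubnormal → D2.IsSubnormal → D1 ⊔ D2 = ⊤ → ¬ IsSyl p ((D1 ⊓ S) ⊔ (D2 ⊓ S)) ⊤ → Nat.card D1 + Nat.card D2 ≤ Nat.card A1 + Nat.card A2 := by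
      intro D1 D2 d1 d2 d3 d4
      by_contra hc
      push Not at hc
      have := hmax (j := (D1, D2)) ⟨d1, d2, d3, d4⟩ hc.le
      exact absurd this (not_le.mpr hc)
    have hmax2 : ∀ D1 D2 : Subgroup G, D1.IsSubnormal → D2.IsSubnormal → D1 ⊔ D2 = ⊤ → ¬ IsSyl p ((D1 ⊓ S) ⊔ (D2 ⊓ S)) ⊤ → Nat.card D1 + Nat.card D2 ≤ Nat.card A2 + Nat.card A1 := by
      intro D1 D2 d1 d2 d3 d4
      rw [add_comm (Nat.card A2)]
      exact hmax1 D1 D2 d1 d2 d3 d4
    have h21 : A2 ⊔ A1 = ⊤ := by rwa [sup_comm]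
    have key1 := key A1 A2 h1 h2 h12 hns hmax1
    have key2 := key A2 A1 h2 h1 h21 hsymm hmax2
    -- proper normal overgroups
    have hA1T : A1 ≠ ⊤ := by
      rintro rfl
      apply hns
      have : (⊤ ⊓ S) ⊔ (A2 ⊓ S) = S := by rw [top_inf_eq]; exact sup_eq_left.mpr inf_le_right
      rw [this]; exact hS
    have hA2T : A2 ≠ ⊤ := by
      rintro rfl
      apply hns
      have : (A1 ⊓ S) ⊔ (⊤ ⊓ S) = S := by rw [top_inf_eq]; exact sup_eq_right.mpr inf_le_right
      rw [this]; exact hS
    obtain ⟨M1, hM1n, hM1, hM1T⟩ := h1.lt_normal.resolve_left hA1T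
    obtain ⟨M2, hM2n, hM2, hM2T⟩ := h2.lt_normal.resolve_left hA2T
    have hD1 : A2 ⊓ M1 ≤ A1 := by
      apply key1 _ (h2.inf hM1n.isSubnormal) inf_le_left
      intro h
      have : (A1 ⊔ (A2 ⊓ M1)) ≤ M1 := sup_le hM1 inf_le_right
      rw [h] at this
      exact hM1T.ne (top_le_iff.mp this)
    have hD2 : A1 ⊓ M2 ≤ A2 := by
      apply key2 _ (h1.inf hM2n.isSubnormal) inf_le_left
      intro h
      have : (A2 ⊔ (A1 ⊓ M2)) ≤ M2 := sup_le hM2 inf_le_right
      rw [h] at this
      exact hM2T.ne (top_le_iff.mp this)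
    set D := A1 ⊓ A2 with hD
    have hDeq1 : D = A2 ⊓ M1 := le_antisymm (le_inf inf_le_right (inf_le_left.trans hM1)) (le_inf hD1 inf_le_left)
    have hDeq2 : D = A1 ⊓ M2 := le_antisymm (le_inf inf_le_left (inf_le_right.trans hM2)) (le_inf inf_le_left hD2)
    have hDn : D.Normal := by
      have hn1 : A2 ≤ Subgroup.normalizer (D : Set G) := by
        rw [hDeq1]
        intro a ha
        rw [Subgroup.mem_normalizer_iff]
        intro z
        have e1 := Subgroup.mem_normalizer_iff.mp (Subgroup.le_normalizer ha) z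
        constructor
        · intro h; exact ⟨e1.mp h.1, hM1n.conj_mem z h.2 a⟩
        · intro h; exact ⟨e1.mpr h.1, by have := hM1n.conj_mem _ h.2 a⁻¹; simpa [mul_assoc] using this⟩
      have hn2 : A1 ≤ Subgroup.normalizer (D : Set G) := by
        rw [hDeq2]
        intro a ha
        rw [Subgroup.mem_normalizer_iff]
        intro z
        have e1 := Subgroup.mem_normalizer_iff.mp (Subgroup.le_normalizer ha) z
        constructor
        · intro h; exact ⟨e1.mp h.1, hM2n.conj_mem z h.2 a⟩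
        · intro h; exact ⟨e1.mpr h.1, by have := hM2n.conj_mem _ h.2 a⁻¹; simpa [mul_assoc] using this⟩
      have htop : (⊤ : Subgroup G) ≤ Subgroup.normalizer (D : Set G) := by rw [← h12]; exact sup_le hn2 hn1
      exact Subgroup.normalizer_eq_top_iff.mp (top_le_iff.mp htop)
    -- simple factors
    have hsimple : ∀ (C1 C2 M : Subgroup G), C1.IsSubnormal → C2.IsSubnormal → C1 ⊔ C2 = ⊤ → M.Normal → C1 ≤ M → C2 ⊓ M ≤ C1 ⊓ C2 → C1 ⊓ C2 = D → ¬ C2 ≤ C1 →
        (∀ X : Subgroup G, X.IsSubnormal → X ≤ C2 → C1 ⊔ X ≠ ⊤ → X ≤ C1) → IsSimpleGroup ↥(C2.map (QuotientGroup.mk' D)) := by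
      intro C1 C2 M hC1 hC2 hC hM hC1M hC2M hCD hnle hkey
      have hCM : C2.map (QuotientGroup.mk' D) ≠ ⊥ := by
        intro h
        rw [Subgroup.map_eq_bot_iff, QuotientGroup.ker_mk'] at h
        apply hnle
        rw [← hCD] at h
        exact h.trans inf_le_left
      haveI : Nontrivial ↥(C2.map (QuotientGroup.mk' D)) := (Subgroup.nontrivial_iff_ne_bot _).mpr hCM
      refine ⟨fun N hN => ?_⟩
      set N' := N.map (C2.map (QuotientGroup.mk' D)).subtype with hN'
      have hN's : N'.IsSubnormal := hN.isSubnormal.trans' (hC2.map (QuotientGroup.mk'_surjective D))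
      set X := N'.comap (QuotientGroup.mk' D) with hX
      have hXs : X.IsSubnormal := hN's.comap _
      have hDX : D ≤ X := by
        intro d hd
        show (QuotientGroup.mk' D) d ∈ N'
        have : (QuotientGroup.mk' D) d = 1 := (QuotientGroup.eq_one_iff d).mpr hd
        rw [this]; exact N'.one_mem
      have hXC : X ≤ C2 := by
        intro x hx
        have h3 : (QuotientGroup.mk' D) x ∈ C2.map (QuotientGroup.mk' D) := (Subgroup.map_subtype_le N) hx
        obtain ⟨c, hc, hcx⟩ := h3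
        have h4 : c⁻¹ * x ∈ D := QuotientGroup.eq.mp hcx
        have h5 : D ≤ C2 := by rw [← hCD]; exact inf_le_right
        have h6 := C2.mul_mem hc (h5 h4)
        have e : c * (c⁻¹ * x) = x := by group
        rwa [e] at h6
      have hXN : X.map (QuotientGroup.mk' D) = N' := Subgroup.map_comap_eq_self_of_surjective (QuotientGroup.mk'_surjective D) _
      by_cases hXC1 : C1 ⊔ X = ⊤
      · right
        have h3 : C2 ≤ X := by
          intro a ha
          have h4 : a ∈ M ⊔ X := by
            have : C1 ⊔ X ≤ M ⊔ X := sup_le_sup_right hC1M X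
            exact this (by rw [hXC1]; trivial)
          have h5 : a ∈ ((M ⊔ X : Subgroup G) : Set G) := h4
          rw [Subgroup.normal_mul] at h5
          obtain ⟨m, hm, x, hx, rfl⟩ := h5
          have h6 : m ∈ C2 ⊓ M := by
            refine ⟨?_, hm⟩
            have := C2.mul_mem ha (C2.inv_mem (hXC hx))
            have e : m * x * x⁻¹ = m := by group
            have e2 : ((fun x1 x2 => x1 * x2) m x) = m * x := rfl
            rw [e2, e] at this
            exact this
          have h7 := hC2M h6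
          rw [hCD] at h7
          exact X.mul_mem (hDX h7) hx
        have h4 : X = C2 := le_antisymm hXC h3
        rw [eq_top_iff]
        intro y _
        have h5 : (y : G ⧸ D) ∈ N' := by rw [← hXN, h4]; exact y.2
        obtain ⟨z, hz, hzy⟩ := h5
        have : z = y := Subtype.ext hzy
        rwa [← this]
      · left
        have h3 := hkey X hXs hXC hXC1
        have h4 : X ≤ D := by rw [← hCD]; exact le_inf h3 hXC
        have h5 : N' = ⊥ := by
          rw [← hXN, Subgroup.map_eq_bot_iff, QuotientGroup.ker_mk']; exact h4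
        rwa [hN', Subgroup.map_eq_bot_iff_of_injective _ (Subgroup.subtype_injective _)] at h5
    have hn12 : ¬ A2 ≤ A1 := fun h => hA1T (by rw [← h12]; exact (sup_eq_left.mpr h).symm)
    have hn21 : ¬ A1 ≤ A2 := fun h => hA2T (by rw [← h12]; exact (sup_eq_right.mpr h).symm)
    have hs2 := hsimple A1 A2 M1 h1 h2 h12 hM1n hM1 (by rw [← hD, hDeq1]) hD.symm hn12 key1
    have hs1 := hsimple A2 A1 M2 h2 h1 h21 hM2n hM2 (by rw [inf_comm A2 A1, ← hD, hDeq2]) (by rw [inf_comm]) hn21 key2
    -- if the images commute we are done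
    have hmap1 : ∀ X : Subgroup G, D ≤ X → (X.map (QuotientGroup.mk' D)).comap (QuotientGroup.mk' D) = X := by
      intro X hX
      rw [Subgroup.comap_map_eq, QuotientGroup.ker_mk']; exact sup_eq_left.mpr hX
    have hDA1 : D ≤ A1 := inf_le_left
    have hDA2 : D ≤ A2 := inf_le_right
    have htopq : A1.map (QuotientGroup.mk' D) ⊔ A2.map (QuotientGroup.mk' D) = ⊤ := by
      rw [← Subgroup.map_sup, h12]; exact Subgroup.map_top_of_surjective _ (QuotientGroup.mk'_surjective D)
    have hcommute : ⁅A1.map (QuotientGroup.mk' D), A2.map (QuotientGroup.mk' D)⁆ = ⊥ → False := by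
      intro h
      rw [Subgroup.commutator_eq_bot_iff_le_centralizer] at h
      have hn : (A1.map (QuotientGroup.mk' D)).Normal := by
        apply Subgroup.normalizer_eq_top_iff.mp
        rw [eq_top_iff, ← htopq]
        apply sup_le Subgroup.le_normalizer
        have h' : A2.map (QuotientGroup.mk' D) ≤ Subgroup.centralizer (A1.map (QuotientGroup.mk' D) : Set (G ⧸ D)) := Subgroup.le_centralizer_iff.mp h
        exact h'.trans (Subgroup.centralizer_le_normalizer _)
      have hn2 : A1.Normal := by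
        rw [← hmap1 A1 hDA1]; infer_instance
      exact hns (normal_case hS hn2 h2 h12)
    have hnonab : ∀ C1 C2 : Subgroup G, C1.IsSubnormal → C2.IsSubnormal → D ≤ C1 → D ≤ C2 → ¬ C1 ≤ C2 → IsSimpleGroup ↥(C1.map (QuotientGroup.mk' D)) →
        ¬ IsMulCommutative ↥(C1.map (QuotientGroup.mk' D)) → ⁅C1.map (QuotientGroup.mk' D), C2.map (QuotientGroup.mk' D)⁆ = ⊥ := by
      intro C1 C2 hC1 hC2 hD1 hD2 hnle hs hna
      have hp := CfsgLib.Comp.simple_nonabelian_perfect hs hna
      have hq : Cfsg.IsQuasisimple ↥(C1.map (QuotientGroup.mk' D)) :=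
        CfsgLib.Comp.quasisimple_of_surjective (MonoidHom.id _) Function.surjective_id (by
          intro x hx
          have : x = 1 := hx
          rw [this]; exact Subgroup.one_mem _) hs hp
      rcases CfsgLib.Comp.component_le_or_commute (K := C1.map (QuotientGroup.mk' D)) (U := C2.map (QuotientGroup.mk' D)) ⟨hC1.map (QuotientGroup.mk'_surjective D), hq⟩ (hC2.map (QuotientGroup.mk'_surjective D)) with h | h
      · exfalso
        apply hnle
        rw [← hmap1 C1 hD1, ← hmap1 C2 hD2]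
        exact Subgroup.comap_mono h
      · exact h
    by_cases hc1 : IsMulCommutative ↥(A1.map (QuotientGroup.mk' D))
    swap
    · exact hcommute (hnonab A1 A2 h1 h2 hDA1 hDA2 hn21 hs1 hc1)
    by_cases hc2 : IsMulCommutative ↥(A2.map (QuotientGroup.mk' D))
    swap
    · have := hnonab A2 A1 h2 h1 hDA2 hDA1 hn12 hs2 hc2
      rw [Subgroup.commutator_comm] at this
      exact hcommute this
    -- both of prime order
    have hprime : ∀ B : Subgroup (G ⧸ D), IsSimpleGroup ↥B → IsMulCommutative ↥B → (Nat.card B).Prime := by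
      intro B hs hc
      letI : CommGroup ↥B := { (inferInstance : Group ↥B) with mul_comm := hc.is_comm.comm }
      haveI : IsSimpleGroup ↥B := hs
      exact IsSimpleGroup.prime_card
    have hq1 := hprime _ hs1 hc1
    have hq2 := hprime _ hs2 hc2
    set q1 := Nat.card ↥(A1.map (QuotientGroup.mk' D)) with hq1def
    set q2 := Nat.card ↥(A2.map (QuotientGroup.mk' D)) with hq2def
    haveI : Fact q1.Prime := ⟨hq1⟩
    haveI : Fact q2.Prime := ⟨hq2⟩
    have hp1 : IsPGroup q1 ↥(A1.map (QuotientGroup.mk' D)) := IsPGroup.of_card (n := 1) (by rw [pow_one])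
    have hp2 : IsPGroup q2 ↥(A2.map (QuotientGroup.mk' D)) := IsPGroup.of_card (n := 1) (by rw [pow_one])
    have hle1 := CfsgLib.Comp.le_pCore_of_subnormal (h1.map (QuotientGroup.mk'_surjective D)) hp1
    have hle2 := CfsgLib.Comp.le_pCore_of_subnormal (h2.map (QuotientGroup.mk'_surjective D)) hp2
    by_cases hqq : q1 = q2
    swap
    · apply hcommute
      rw [eq_bot_iff]
      have hn1 : (Cfsg.pCore q1 (G ⧸ D)).Normal := CfsgLib.LE11Basic.pCore_normal _ _
      have hn2 : (Cfsg.pCore q2 (G ⧸ D)).Normal := CfsgLib.LE11Basic.pCore_normal _ _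
      refine (Subgroup.commutator_mono hle1 hle2).trans ((Subgroup.commutator_le_inf _ _).trans ?_)
      rw [le_bot_iff, ← Subgroup.card_eq_one]
      have i1 : Nat.card (Cfsg.pCore q1 (G ⧸ D) ⊓ Cfsg.pCore q2 (G ⧸ D) : Subgroup (G ⧸ D)) ∣ Nat.card (Cfsg.pCore q1 (G ⧸ D)) := Subgroup.card_dvd_of_le inf_le_left
      have i2 : Nat.card (Cfsg.pCore q1 (G ⧸ D) ⊓ Cfsg.pCore q2 (G ⧸ D) : Subgroup (G ⧸ D)) ∣ Nat.card (Cfsg.pCore q2 (G ⧸ D)) := Subgroup.card_dvd_of_le inf_le_right
      obtain ⟨k1, hk1⟩ := IsPGroup.iff_card.mp (CfsgLib.Cores.pCore_isPGroup (G := G ⧸ D) q1)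
      obtain ⟨k2, hk2⟩ := IsPGroup.iff_card.mp (CfsgLib.Cores.pCore_isPGroup (G := G ⧸ D) q2)
      rw [hk1] at i1
      rw [hk2] at i2
      exact Nat.eq_one_of_dvd_coprimes (Nat.Coprime.pow _ _ ((Nat.coprime_primes hq1 hq2).mpr hqq)) i1 i2
    · -- G/D is a q-group
      have hle2' : A2.map (QuotientGroup.mk' D) ≤ Cfsg.pCore q1 (G ⧸ D) := by rw [hqq]; exact hle2
      have htop : Cfsg.pCore q1 (G ⧸ D) = ⊤ := by
        rw [eq_top_iff, ← htopq]; exact sup_le hle1 hle2'
      have hpg : IsPGroup q1 (G ⧸ D) := by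
        have := CfsgLib.Cores.pCore_isPGroup (G := G ⧸ D) q1
        rw [htop] at this
        exact this.of_equiv Subgroup.topEquiv
      obtain ⟨k, hk⟩ := IsPGroup.iff_card.mp hpg
      have hindex : D.index = q1 ^ k := hk
      by_cases hqp : q1 = p
      · -- p-group quotient
        have hgen : ∀ C : Subgroup G, C.IsSubnormal → D ≤ C → C ≤ (C ⊓ S) ⊔ D := by
          intro C hC hDC
          have h5 := (syl_sub hS hC).2.2
          rw [inf_comm] at h5
          rw [← Subgroup.relIndex_eq_one]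
          have h6 : ((C ⊓ S) ⊔ D).relIndex C ∣ (C ⊓ S).relIndex C := Subgroup.relIndex_dvd_of_le_left C le_sup_left
          have h7 : ((C ⊓ S) ⊔ D).relIndex C ∣ D.relIndex C := Subgroup.relIndex_dvd_of_le_left C le_sup_right
          have h8 : D.relIndex C ∣ p ^ k := by
            rw [← hqp, ← hindex]; exact Subgroup.relIndex_dvd_index_of_normal D C
          have h9 : Nat.Coprime ((C ⊓ S).relIndex C) (p ^ k) :=
            Nat.Coprime.pow_right k ((Nat.Prime.coprime_iff_not_dvd (Fact.out : p.Prime)).mpr h5).symm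
          exact Nat.eq_one_of_dvd_coprimes h9 h6 (h7.trans h8)
        set T := (A1 ⊓ S) ⊔ (A2 ⊓ S) with hT
        have hTD : D ⊔ T = ⊤ := by
          rw [eq_top_iff, ← h12]
          apply sup_le
          · refine (hgen A1 h1 hDA1).trans (sup_le (le_sup_left.trans le_sup_right) le_sup_left)
          · refine (hgen A2 h2 hDA2).trans (sup_le (le_sup_right.trans le_sup_right) le_sup_left)
        have hTS : T ≤ S := sup_le inf_le_right inf_le_right
        have hST : S ≤ T := by
          intro s hs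
          have h5 : s ∈ ((D ⊔ T : Subgroup G) : Set G) := by rw [hTD]; trivial
          rw [Subgroup.normal_mul] at h5
          obtain ⟨d, hd, t, ht, hdt⟩ := h5
          have hdt' : d * t = s := hdt
          have h6 : d ∈ A1 ⊓ S := by
            refine ⟨hDA1 hd, ?_⟩
            have := S.mul_mem hs (S.inv_mem (hTS ht))
            rw [← hdt'] at this
            have e : d * t * t⁻¹ = d := by group
            rwa [e] at this
          rw [← hdt']
          exact T.mul_mem ((le_sup_left : A1 ⊓ S ≤ T) h6) ht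
        apply hns
        rw [le_antisymm hTS hST]; exact hS
      · -- S ≤ D
        have hSD : S ≤ D := by
          intro s hs
          obtain ⟨i, hi⟩ := (IsPGroup.iff_orderOf.mp hS.2.1) ⟨s, hs⟩
          rw [Subgroup.orderOf_mk] at hi
          have h5 : orderOf ((QuotientGroup.mk' D) s) ∣ p ^ i := by rw [← hi]; exact orderOf_map_dvd _ s
          obtain ⟨l, hl⟩ := (IsPGroup.iff_orderOf.mp hpg) ((QuotientGroup.mk' D) s)
          have h6 : orderOf ((QuotientGroup.mk' D) s) = 1 := by
            have h7 : Nat.Coprime (p ^ i) (q1 ^ l) := Nat.Coprime.pow _ _ ((Nat.coprime_primes Fact.out hq1).mpr (fun h => hqp h.symm))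
            exact Nat.eq_one_of_dvd_coprimes h7 h5 (by rw [hl])
          rw [orderOf_eq_one_iff] at h6
          exact (QuotientGroup.eq_one_iff s).mp h6
        apply hns
        have : (A1 ⊓ S) ⊔ (A2 ⊓ S) = S := by
          apply le_antisymm (sup_le inf_le_right inf_le_right)
          exact le_trans (le_inf (hSD.trans hDA1) le_rfl) le_sup_left
        rw [this]; exact hS

/-- Let G be a finite group, p a prime, S a Sylow p-subgroup of G and A₁, A₂ subnormal subgroups of G. Then the join of S ∩ A₁ and S ∩ A₂ is a Sylow p-subgroup of the join of A₁ and A₂; equivalently ⟨A₁, A₂⟩ ∩ S = ⟨A₁ ∩ S, A₂ ∩ S⟩. -/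
theorem result {G : Type*} [Group G] [Finite G] {p : ℕ} [Fact p.Prime] (S : Sylow p G) (A₁ A₂ : Subgroup G)
    (h₁ : A₁.IsSubnormal) (h₂ : A₂.IsSubnormal) :
    (A₁ ⊔ A₂) ⊓ (S : Subgroup G) = (A₁ ⊓ (S : Subgroup G)) ⊔ (A₂ ⊓ (S : Subgroup G)) := by
  have h := main (Nat.card G) G p (S : Subgroup G) A₁ A₂ le_rfl (isSyl_top S) h₁ h₂
  apply h.eq_of_le inf_le_left (S.isPGroup'.to_le inf_le_right)
  exact le_inf (sup_le (inf_le_left.trans le_sup_left) (inf_le_left.trans le_sup_right)) (sup_le inf_le_right inf_le_right)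

end Cfsg.Agent.S3028
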