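import Cfsg.Agent.LibLE13
import Cfsg.Agent.LibLEK
import Cfsg.Agent.LibLEP4
import Cfsg.Agent.LibLE16
import Cfsg.Agent.LibCoprime2
import Cfsg.Agent.S3028
import Cfsg.Agent.LibH2Subn

/-! Point stabilizers and subnormal subgroups in groups of local characteristic `p`. (helper8) -/

set_option autoImplicit false
set_option linter.all false

namespace CfsgLib.LC8

open Cfsg Subgroup CfsgLib.LE
open scoped Pointwise

variable {G : Type*} [Group G] {p : ℕ}

/-! ### the subgroup generated by the `p`-elements -/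

def Opp (p : ℕ) (X : Subgroup G) : Subgroup G := Subgroup.closure {x : G | x ∈ X ∧ ∃ k : ℕ, orderOf x = p ^ k}

theorem Opp_le (X : Subgroup G) : Opp p X ≤ X := by
  rw [Opp, Subgroup.closure_le]; exact fun x hx => hx.1

theorem mem_Opp {X : Subgroup G} {x : G} (hx : x ∈ X) (h : ∃ k : ℕ, orderOf x = p ^ k) : x ∈ Opp p X :=
  Subgroup.subset_closure ⟨hx, h⟩

theorem Opp_mono {X Y : Subgroup G} (h : X ≤ Y) : Opp p X ≤ Opp p Y :=
  Subgroup.closure_mono fun x hx => ⟨h hx.1, hx.2⟩

theorem orderOf_of_isPGroup [hp : Fact p.Prime] {S : Subgroup G} [Finite G] (hS : IsPGroup p ↥S) {x : G} (hx : x ∈ S) :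
    ∃ k : ℕ, orderOf x = p ^ k := by
  obtain ⟨k, hk⟩ := IsPGroup.iff_orderOf.1 hS ⟨x, hx⟩
  exact ⟨k, by rwa [Subgroup.orderOf_mk] at hk⟩

theorem le_Opp [Finite G] [hp : Fact p.Prime] {S X : Subgroup G} (hS : IsPGroup p ↥S) (h : S ≤ X) : S ≤ Opp p X :=
  fun _ hx => mem_Opp (h hx) (orderOf_of_isPGroup hS hx)

theorem normalizer_Opp (X : Subgroup G) : normalizer (X : Set G) ≤ normalizer (Opp p X : Set G) := by
  rw [CfsgLib.LE.le_normalizer_iff]
  intro g hg x hx
  have key : Opp p X ≤ (Opp p X).comap (MulAut.conj g).toMonoidHom := by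
    conv_lhs => rw [Opp]
    rw [Subgroup.closure_le]
    rintro y ⟨hy, k, hk⟩
    rw [SetLike.mem_coe, Subgroup.mem_comap]
    apply mem_Opp
    · exact (Subgroup.mem_normalizer_iff.1 hg y).1 hy
    · refine ⟨k, ?_⟩
      rw [← hk]
      exact orderOf_injective (MulAut.conj g).toMonoidHom (MulAut.conj g).injective y
  exact key hx

theorem Opp_isSubnormal {X : Subgroup G} (hX : X.IsSubnormal) : (Opp p X).IsSubnormal :=
  Subgroup.IsSubnormal.step _ _ (Opp_le X) hX
    (subgroupOf_normal_of_le_normalizer (Subgroup.le_normalizer.trans (normalizer_Opp X)))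

theorem Opp_inf (X C : Subgroup G) : Opp p (X ⊓ C) = (Opp p (X.subgroupOf C)).map C.subtype := by
  rw [Opp, Opp, MonoidHom.map_closure]
  congr 1
  ext x
  constructor
  · rintro ⟨⟨hx, hxC⟩, k, hk⟩
    exact ⟨⟨x, hxC⟩, ⟨hx, k, by rwa [Subgroup.orderOf_mk]⟩, rfl⟩
  · rintro ⟨y, ⟨hy, k, hk⟩, rfl⟩
    exact ⟨⟨hy, y.2⟩, k, by rw [← hk]; exact Subgroup.orderOf_coe y⟩

theorem Opp_le_sup [Finite G] [hp : Fact p.Prime] (T : Sylow p G) {A B D : Subgroup G} (hA : A.IsSubnormal)
    (hB : B.IsSubnormal) (hD : D.IsSubnormal) (hAD : A ≤ D) (hBD : B ≤ D)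
    (hT : (T : Subgroup G) ⊓ D ≤ Opp p A ⊔ Opp p B) : Opp p D = Opp p A ⊔ Opp p B := by
  apply le_antisymm _ (sup_le (Opp_mono hAD) (Opp_mono hBD))
  set J := Opp p A ⊔ Opp p B with hJ
  have hJs : J.IsSubnormal := CfsgLib.H2Subn.sup (Opp_isSubnormal hA) (Opp_isSubnormal hB)
  have hJD : J ≤ D := sup_le ((Opp_le A).trans hAD) ((Opp_le B).trans hBD)
  conv_lhs => rw [Opp]
  rw [Subgroup.closure_le]
  rintro x ⟨hx, k, hk⟩
  have hxp : IsPGroup p ↥(Subgroup.zpowers x) := IsPGroup.iff_card.2 ⟨k, by rw [Nat.card_zpowers, hk]⟩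
  have hs := isSyl_inf_of_isSubnormal T hD
  obtain ⟨d, hd, h1⟩ := hs.exists_conj_le ((Subgroup.zpowers_le).2 hx) hxp
  -- the conjugate Sylow subgroup
  have hs1 : IsSyl p ((T : Subgroup G) ⊓ D) J := by
    have h2 := isSyl_inf_of_isSubnormal T hJs
    have h3 : (T : Subgroup G) ⊓ J = (T : Subgroup G) ⊓ D :=
      le_antisymm (inf_le_inf_left _ hJD) (le_inf inf_le_left hT)
    rwa [h3] at h2
  have h4 := isSyl_inf_of_isSubnormal (d • T) hJs
  have h5 : Nat.card ↥(((T : Subgroup G) ⊓ D).map (MulAut.conj d).toMonoidHom) ≤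
      Nat.card ↥(((d • T : Sylow p G) : Subgroup G) ⊓ J) := by
    rw [card_map_conj]
    exact h4.card_le hs1.le hs1.isPGroup
  have h6 : ((d • T : Sylow p G) : Subgroup G) ⊓ J ≤ ((T : Subgroup G) ⊓ D).map (MulAut.conj d).toMonoidHom := by
    rw [Subgroup.map_inf _ _ _ (MulAut.conj d).injective, mem_normalizer_iff_map_conj.1 (Subgroup.le_normalizer hd)]
    exact inf_le_inf_left _ hJD
  have h7 := Subgroup.eq_of_le_of_card_ge h6 h5
  rw [← h7] at h1
  exact (h1 (Subgroup.mem_zpowers x)).2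

/-! ### Kieler's lemma inside a subgroup of characteristic `p` -/

theorem kieler_rel [Finite G] [hp : Fact p.Prime] {T M : Subgroup G} (hM : CharPOf p M) (hT : IsSyl p T M)
    {A : Subgroup ↥M} (hA : A.IsSubnormal) :
    CharPOf p (A.map M.subtype) ∧ IsSyl p (T ⊓ A.map M.subtype) (A.map M.subtype) ∧
      A.map M.subtype ⊓ centralizer (omegaOne p (T ⊓ centralizer (T : Set G)) : Set G) =
      A.map M.subtype ⊓ centralizer (omegaOne p ((T ⊓ A.map M.subtype) ⊓
        centralizer ((T ⊓ A.map M.subtype : Subgroup G) : Set G)) : Set G) := by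
  induction hA with
  | top =>
    have e : (⊤ : Subgroup ↥M).map M.subtype = M := by rw [← MonoidHom.range_eq_map, Subgroup.range_subtype]
    rw [e, inf_eq_left.2 hT.le]
    exact ⟨hM, hT, rfl⟩
  | step A B hAB hB hn ih =>
    obtain ⟨h1, h2, h3⟩ := ih
    have hAB' : A.map M.subtype ≤ B.map M.subtype := Subgroup.map_mono hAB
    have hnn : B.map M.subtype ≤ normalizer (A.map M.subtype : Set G) :=
      (Subgroup.map_mono (le_normalizer_of_subgroupOf_normal hAB hn)).trans (Subgroup.le_normalizer_map _)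
    have h4 := kieler_step h1 h2 hAB' hnn
    have h5 : (T ⊓ B.map M.subtype) ⊓ A.map M.subtype = T ⊓ A.map M.subtype := by
      rw [inf_assoc, inf_eq_right.2 hAB']
    have h6 := h2.inf hAB' hnn
    rw [h5] at h4 h6
    refine ⟨h1.normal hAB' hnn, h6, ?_⟩
    rw [← h4]
    have h7 := congrArg (fun X => A.map M.subtype ⊓ X) h3
    simp only [← inf_assoc, inf_eq_left.2 hAB'] at h7
    exact h7

/-- abbreviation for `Ω₁(Z(T ∩ X))` -/
abbrev ZZ (p : ℕ) (T : Subgroup G) : Subgroup G := omegaOne p (T ⊓ centralizer (T : Set G))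

theorem cent_eq [Finite G] [hp : Fact p.Prime] {T M X : Subgroup G} (hM : CharPOf p M) (hT : IsSyl p T M)
    (hX : X.IsSubnormal) (hXM : centralizer (ZZ p (T ⊓ X) : Set G) ≤ M) :
    X ⊓ centralizer (ZZ p (T ⊓ X) : Set G) = X ⊓ (M ⊓ centralizer (ZZ p T : Set G)) := by
  have h1 := (kieler_rel hM hT (A := X.subgroupOf M) hX.subgroupOf).2.2
  have e : (X.subgroupOf M).map M.subtype = X ⊓ M := by rw [Subgroup.subgroupOf_map_subtype]
  have e2 : T ⊓ (X ⊓ M) = T ⊓ X := by
    rw [inf_comm X M, ← inf_assoc, inf_eq_left.2 hT.le]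
  rw [e, e2] at h1
  have h2 : X ⊓ centralizer (ZZ p (T ⊓ X) : Set G) = X ⊓ M ⊓ centralizer (ZZ p (T ⊓ X) : Set G) := by
    rw [inf_assoc, inf_eq_right.2 hXM]
  rw [h2, ← h1, inf_assoc]

theorem pointStabilizer_eq [Finite G] [hp : Fact p.Prime] {T M X : Subgroup G} (hM : CharPOf p M)
    (hT : IsSyl p T M) (hX : X.IsSubnormal) (hXM : centralizer (ZZ p (T ⊓ X) : Set G) ≤ M) :
    pointStabilizer p X (T ⊓ X) = Opp p (X ⊓ (M ⊓ centralizer (ZZ p T : Set G))) := by
  rw [← cent_eq hM hT hX hXM]; rfl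

/-- the conclusion, given a suitable overgroup of characteristic `p` -/
theorem concl [Finite G] [hp : Fact p.Prime] (T : Sylow p G) {L₁ L₂ M : Subgroup G} (h₁ : L₁.IsSubnormal)
    (h₂ : L₂.IsSubnormal) (hM : CharPOf p M) (hTM : (T : Subgroup G) ≤ M)
    (hX : ∀ X : Subgroup G, L₁ ≤ X ∨ L₂ ≤ X → centralizer (ZZ p ((T : Subgroup G) ⊓ X) : Set G) ≤ M) :
    pointStabilizer p (L₁ ⊔ L₂) ((T : Subgroup G) ⊓ (L₁ ⊔ L₂)) =
      pointStabilizer p L₁ ((T : Subgroup G) ⊓ L₁) ⊔ pointStabilizer p L₂ ((T : Subgroup G) ⊓ L₂) := by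
  have hTs : IsSyl p (T : Subgroup G) M := isSyl_sylow T hTM
  have hsup : (L₁ ⊔ L₂).IsSubnormal := CfsgLib.H2Subn.sup h₁ h₂
  rw [pointStabilizer_eq hM hTs hsup (hX _ (Or.inl le_sup_left)), pointStabilizer_eq hM hTs h₁ (hX _ (Or.inl le_rfl)),
    pointStabilizer_eq hM hTs h₂ (hX _ (Or.inr le_rfl))]
  set C := M ⊓ centralizer (ZZ p (T : Subgroup G) : Set G) with hC
  have hTC : (T : Subgroup G) ≤ C := le_inf hTM (le_centralizer_omegaZ _)
  rw [Opp_inf, Opp_inf, Opp_inf, ← Subgroup.map_sup]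
  congr 1
  apply Opp_le_sup (T.subtype hTC) h₁.subgroupOf h₂.subgroupOf hsup.subgroupOf
  · exact Subgroup.comap_mono le_sup_left
  · exact Subgroup.comap_mono le_sup_right
  · rw [Sylow.coe_subtype]
    have h3 := Cfsg.Agent.S3028.result T L₁ L₂ h₁ h₂
    have h4 : (T : Subgroup G) ⊓ (L₁ ⊔ L₂) ≤ (Opp p (L₁.subgroupOf C) ⊔ Opp p (L₂.subgroupOf C)).map C.subtype := by
      rw [inf_comm, h3, Subgroup.map_sup, ← Opp_inf, ← Opp_inf]
      apply sup_le_sup
      · exact le_Opp (T.2.to_le inf_le_right) (le_inf inf_le_left (inf_le_right.trans hTC))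
      · exact le_Opp (T.2.to_le inf_le_right) (le_inf inf_le_left (inf_le_right.trans hTC))
    rintro x ⟨hxT, hxL⟩
    obtain ⟨y, hy, hyx⟩ := h4 (Subgroup.mem_inf.2 ⟨hxT, hxL⟩)
    rwa [← Subtype.ext hyx]

/-! ### local characteristic `p` -/

theorem charC [Finite G] [hp : Fact p.Prime] (hG : IsOfLocalCharacteristic p G) {x : G} (hx : x ≠ 1)
    (hxp : IsPGroup p ↥(Subgroup.zpowers x)) : CharPOf p (centralizer ({x} : Set G)) := by
  have h1 := hG.2 (Subgroup.zpowers x) hxp (by rwa [Ne, Subgroup.zpowers_eq_bot])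
  have h2 := (charPOf_iff_type _).2 h1
  have h4 : centralizer ((Subgroup.zpowers x : Subgroup G) : Set G) = centralizer ({x} : Set G) := by
    rw [Subgroup.zpowers_eq_closure, Subgroup.centralizer_closure]
  rw [← h4]
  exact h2.normal (Subgroup.centralizer_le_normalizer _) (le_normalizer_centralizer le_rfl)

theorem eq_bot_of_charP [Finite G] [hp : Fact p.Prime] {C Y : Subgroup G} (hC : CharPOf p C) (hYC : Y ≤ C)
    (hn : C ≤ normalizer (Y : Set G)) (hY : (Nat.card ↥Y).Coprime p) : Y = ⊥ := by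
  have h1 : ⁅Y, pCoreOf p C⁆ ≤ Y ⊓ pCoreOf p C := le_inf
    (le_normalizer_iff_commutator_le_left.1 ((pCoreOf_le p C).trans hn))
    (le_normalizer_iff_commutator_le_right.1 (hYC.trans (le_normalizer_pCoreOf p C)))
  have h2 : Y ⊓ pCoreOf p C = ⊥ := by
    rw [eq_bot_iff]
    rintro y ⟨hy, hyp⟩
    apply Subgroup.mem_bot.2
    apply eq_one_of_coprime_of_isPGroup (pCoreOf_isPGroup p C) hyp
    exact Nat.Coprime.coprime_dvd_left (Subgroup.orderOf_dvd_natCard Y hy) hY
  rw [h2, le_bot_iff, Subgroup.commutator_eq_bot_iff_le_centralizer] at h1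
  rw [eq_bot_iff]
  intro y hy
  exact Subgroup.mem_bot.2 (hC.eq_one (hYC hy)
    (Nat.Coprime.coprime_dvd_left (Subgroup.orderOf_dvd_natCard Y hy) hY) (h1 hy))

theorem component_absurd [Finite G] [hp : Fact p.Prime] {C K : Subgroup G} (hC : CharPOf p C) (hKC : K ≤ C)
    (hK : IsComponent K) : False := by
  have h1 := CfsgLib.Comp.isComponent_subgroupOf hK hKC
  have hs : Group.IsSolvable ↥(pCore p ↥C) := by
    have := (pCore_isPGroup p ↥C).isNilpotent
    infer_instance
  have h2 := CfsgLib.Comp.component_commute_solvable h1 hs Subgroup.le_normalizer_of_normal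
  rw [Subgroup.commutator_eq_bot_iff_le_centralizer] at h2
  have h3 := h2.trans ((charPOf_iff_type C).1 hC)
  have h4 : IsPGroup p ↥(K.subgroupOf C) := (pCore_isPGroup p ↥C).to_le h3
  have h5 : Group.IsSolvable ↥(K.subgroupOf C) := by
    have := h4.isNilpotent
    infer_instance
  exact CfsgLib.Comp.quasisimple_not_solvable h1.2 h5

theorem exists_common [Finite G] [hp : Fact p.Prime] (hG : IsOfLocalCharacteristic p G) (hO : pCore p G = ⊥)
    (T : Sylow p G) {L₁ L₂ : Subgroup G} (h₁ : L₁.IsSubnormal) (h₂ : L₂.IsSubnormal)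
    (hT1 : (T : Subgroup G) ⊓ L₁ ≠ ⊥) (hT2 : (T : Subgroup G) ⊓ L₂ ≠ ⊥) :
    ∃ z : G, z ≠ 1 ∧ z ∈ (T : Subgroup G) ∧ z ∈ L₁ ∧ z ∈ L₂ ∧ z ∈ centralizer ((T : Subgroup G) : Set G) := by
  have hTne : (T : Subgroup G) ≠ ⊥ := by
    intro h; apply hT1; rw [h, bot_inf_eq]
  by_cases hcase : ∃ K : Subgroup G, IsComponent K ∧ ∃ x ∈ K, x ≠ 1 ∧ IsPGroup p ↥(Subgroup.zpowers x)
  · -- Case I
    obtain ⟨K, hK, x, hxK, hx1, hxp⟩ := hcase
    have hC := charC hG hx1 hxp
    have hcent : centralizer (K : Set G) ≤ centralizer ({x} : Set G) :=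
      Subgroup.centralizer_le (by simpa using hxK)
    have huniq : ∀ K' : Subgroup G, IsComponent K' → K' = K := by
      intro K' hK'
      by_contra hne
      have h3 := CfsgLib.Comp.components_commute hK' hK hne
      rw [Subgroup.commutator_eq_bot_iff_le_centralizer] at h3
      exact component_absurd hC (h3.trans hcent) hK'
    have hlayer : layer G = K := by
      apply le_antisymm _ (CfsgLib.Comp.component_le_layer hK)
      rw [layer]
      exact sSup_le fun K' hK' => (huniq K' hK').le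
    have hF : fittingSubgroup G = ⊥ := by
      apply CfsgLib.LE.fitting_eq_bot_of_cores hO
      have h4 : ⁅K, pPrimeCore p G⁆ = ⊥ ∨ K ≤ pPrimeCore p G := by
        have h5 : (pPrimeCore p G).IsSubnormal := by
          have : (pPrimeCore p G).Normal := inferInstance
          exact this.isSubnormal
        exact (CfsgLib.Comp.component_le_or_commute hK h5).symm
      rcases h4 with h4 | h4
      · have h6 : pPrimeCore p G ≤ centralizer (K : Set G) := by
          rw [Subgroup.commutator_comm] at h4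
          exact Subgroup.commutator_eq_bot_iff_le_centralizer.1 h4
        exact eq_bot_of_charP hC (h6.trans hcent) Subgroup.le_normalizer_of_normal
          (CfsgLib.Cores.pPrimeCore_coprime p)
      · exfalso
        apply hx1
        apply eq_one_of_coprime_of_isPGroup hxp (Subgroup.mem_zpowers x)
        exact Nat.Coprime.coprime_dvd_left (Subgroup.orderOf_dvd_natCard _ (h4 hxK))
          (CfsgLib.Cores.pPrimeCore_coprime p)
    have hgf : generalizedFittingSubgroup G = K := by
      rw [generalizedFittingSubgroup, hF, sup_bot_eq, hlayer]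
    have hKn : K.Normal := by rw [← hgf]; infer_instance
    have hCK : centralizer (K : Set G) ≤ K := by
      have := CfsgLib.Comp.centralizer_gfitting_le (G := G)
      rwa [hgf] at this
    have hKL : ∀ L : Subgroup G, L.IsSubnormal → (T : Subgroup G) ⊓ L ≠ ⊥ → K ≤ L := by
      intro L hL hTL
      rcases CfsgLib.Comp.component_le_or_commute hK hL with h | h
      · exact h
      · exfalso
        apply hTL
        rw [Subgroup.commutator_comm, Subgroup.commutator_eq_bot_iff_le_centralizer] at h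
        have h3 : L ≤ K ⊓ centralizer (K : Set G) := le_inf (h.trans hCK) h
        have h4 : IsPGroup p ↥((T : Subgroup G) ⊓ (K ⊓ centralizer (K : Set G))) := T.2.to_le inf_le_left
        have h5 : K ⊓ centralizer (K : Set G) ≤ fittingSubgroup G := by
          apply CfsgLib.Comp.le_fitting_of_subnormal_nilpotent
          · have : (K ⊓ centralizer (K : Set G)).Normal := inferInstance
            exact this.isSubnormal
          · letI : CommGroup ↥(K ⊓ centralizer (K : Set G)) :=
              { (inferInstance : Group ↥(K ⊓ centralizer (K : Set G))) with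
                mul_comm := by
                  rintro ⟨a, ha⟩ ⟨b, hb⟩
                  apply Subtype.ext
                  exact (Subgroup.mem_centralizer_iff.1 hb.2 a ha.1) }
            exact CommGroup.isNilpotent
        rw [hF] at h5
        rw [eq_bot_iff]
        exact inf_le_right.trans (h3.trans h5)
    have hTK : (T : Subgroup G) ⊓ K ≠ ⊥ := by
      intro h
      have h3 : IsSyl p ((T : Subgroup G) ⊓ K) K :=
        (isSyl_sylow T le_top).inf le_top Subgroup.le_normalizer_of_normal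
      obtain ⟨n, hn, h4⟩ := h3.exists_conj_le ((Subgroup.zpowers_le).2 hxK) hxp
      rw [h, Subgroup.map_bot, le_bot_iff, Subgroup.zpowers_eq_bot] at h4
      exact hx1 h4
    have h3 := inf_centralizer_ne_bot_of_isPGroup (p := p) T.2 (T.2.to_le inf_le_left) hTK
      (le_normalizer_inf Subgroup.le_normalizer Subgroup.le_normalizer_of_normal)
    obtain ⟨⟨z, hz⟩, hz1⟩ := Subgroup.ne_bot_iff_exists_ne_one.1 h3
    exact ⟨z, fun h => hz1 (Subtype.ext h), hz.1.1, hKL L₁ h₁ hT1 hz.1.2, hKL L₂ h₂ hT2 hz.1.2, hz.2⟩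
  · -- Case II
    have hcomp : ∀ K : Subgroup G, IsComponent K → (Nat.card ↥K).Coprime p := by
      intro K hK
      rw [Nat.coprime_comm, hp.out.coprime_iff_not_dvd]
      intro hd
      obtain ⟨x, hx⟩ := exists_prime_orderOf_dvd_card' p hd
      apply hcase
      refine ⟨K, hK, x, x.2, ?_, ?_⟩
      · intro h
        have h3 : x = 1 := Subtype.ext h
        rw [h3, orderOf_one] at hx
        exact hp.out.one_lt.ne hx
      · exact IsPGroup.iff_card.2 ⟨1, by rw [Nat.card_zpowers, Subgroup.orderOf_coe, hx, pow_one]⟩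
    set N := pPrimeCore p G with hN
    have hNco := CfsgLib.Cores.pPrimeCore_coprime (G := G) p
    have hNne : N ≠ ⊥ := by
      intro hbot
      have hF := CfsgLib.LE.fitting_eq_bot_of_cores hO hbot
      have hlay : layer G = ⊥ := by
        rw [layer, sSup_eq_bot]
        intro K hK
        have h3 : K ≤ pPrimeCore p G := CfsgLib.Comp.le_pPrimeCore_of_subnormal hK.1 (hcomp K hK)
        rw [← hN, hbot] at h3
        exact le_bot_iff.1 h3
      have h4 := CfsgLib.Comp.centralizer_gfitting_le (G := G)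
      rw [generalizedFittingSubgroup, hF, hlay, sup_bot_eq] at h4
      apply hTne
      rw [eq_bot_iff]
      refine le_trans ?_ h4
      intro x _
      rw [Subgroup.mem_centralizer_iff]
      intro y hy
      have : y = 1 := Subgroup.mem_bot.1 hy
      rw [this, one_mul, mul_one]
    have hfix : ∀ x : G, x ≠ 1 → IsPGroup p ↥(Subgroup.zpowers x) → N ⊓ centralizer ({x} : Set G) = ⊥ := by
      intro x hx1 hxp
      apply eq_bot_of_charP (charC hG hx1 hxp) inf_le_right
      · exact le_normalizer_inf Subgroup.le_normalizer_of_normal Subgroup.le_normalizer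
      · exact Nat.Coprime.coprime_dvd_left (Subgroup.card_dvd_of_le inf_le_left) hNco
    -- a central element of order `p`
    have h3 := inf_centralizer_ne_bot T.2 hTne
    have h4 : p ∣ Nat.card ↥((T : Subgroup G) ⊓ centralizer ((T : Subgroup G) : Set G)) :=
      dvd_card_of_isPGroup_ne_bot (T.2.to_le inf_le_left) h3
    obtain ⟨⟨z, hz⟩, hzo⟩ := exists_prime_orderOf_dvd_card' p h4
    rw [Subgroup.orderOf_mk] at hzo
    have hz1 : z ≠ 1 := by
      intro h; rw [h, orderOf_one] at hzo; exact hp.out.one_lt.ne hzo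
    have hmem : ∀ L : Subgroup G, (T : Subgroup G) ⊓ L ≠ ⊥ → z ∈ L := by
      intro L hTL
      have h5 : p ∣ Nat.card ↥((T : Subgroup G) ⊓ L) := dvd_card_of_isPGroup_ne_bot (T.2.to_le inf_le_left) hTL
      obtain ⟨⟨x, hx⟩, hxo⟩ := exists_prime_orderOf_dvd_card' p h5
      rw [Subgroup.orderOf_mk] at hxo
      by_contra hzL
      have hxz : Commute z x := (Subgroup.mem_centralizer_iff.1 hz.2 x hx.1).symm
      have hzx : z ∉ Subgroup.zpowers x := fun h => hzL (((Subgroup.zpowers_le).2 hx.2) h)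
      set E := Subgroup.closure ({z, x} : Set G) with hE
      have hzE : z ∈ E := Subgroup.subset_closure (by simp)
      have hxE : x ∈ E := Subgroup.subset_closure (by simp)
      have hET : E ≤ (T : Subgroup G) := by
        rw [hE, Subgroup.closure_le]
        rintro y (rfl | rfl)
        · exact hz.1
        · exact hx.1
      have hEp : IsPGroup p ↥E := T.2.to_le hET
      haveI hEc : IsMulCommutative ↥E := Subgroup.isMulCommutative_closure (by
        rintro a (rfl | rfl) b (rfl | rfl)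
        · rfl
        · exact hxz
        · exact hxz.symm
        · rfl)
      have hncyc : ¬ IsCyclic ↥E := by
        intro hc
        classical
        haveI := Fintype.ofFinite ↥E
        have h6 := IsCyclic.card_pow_eq_one_le (α := ↥E) hp.out.pos
        set F := (Finset.univ.filter fun a : ↥E => a ^ p = 1) with hF
        set x' : ↥E := ⟨x, hxE⟩
        have hx' : orderOf x' = p := by rw [Subgroup.orderOf_mk]; exact hxo
        set X := (Finset.univ.filter fun a : ↥E => a ∈ Subgroup.zpowers x') with hX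
        have hXc : X.card = p := by
          rw [← hx', ← Nat.card_zpowers, Nat.card_eq_fintype_card, Fintype.card_subtype]
        have hz' : (⟨z, hzE⟩ : ↥E) ∉ X := by
          intro h
          rw [hX, Finset.mem_filter] at h
          apply hzx
          obtain ⟨k, hk⟩ := h.2
          exact ⟨k, congrArg Subtype.val hk⟩
        have h7 : insert (⟨z, hzE⟩ : ↥E) X ⊆ F := by
          intro a ha
          rw [Finset.mem_insert] at ha
          rw [hF, Finset.mem_filter]
          refine ⟨Finset.mem_univ _, ?_⟩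
          rcases ha with rfl | ha
          · apply Subtype.ext
            show z ^ p = 1
            rw [← hzo]; exact pow_orderOf_eq_one z
          · rw [hX, Finset.mem_filter] at ha
            obtain ⟨k, hk⟩ := ha.2
            rw [← hk]
            show (x' ^ k) ^ p = 1
            rw [← zpow_natCast, ← zpow_mul, mul_comm, zpow_mul, zpow_natCast, ← hx', pow_orderOf_eq_one, one_zpow]
        have h8 := Finset.card_le_card h7
        rw [Finset.card_insert_of_notMem hz', hXc] at h8
        omega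
      have hgen := CfsgLib.Coprime2.generation_noncyclic (A := E) hncyc (K := N)
        Subgroup.le_normalizer_of_normal (by
          obtain ⟨k, hk⟩ := IsPGroup.iff_card.1 hEp
          rw [hk]
          exact Nat.Coprime.pow_left k hNco.symm)
      apply hNne
      rw [← hgen, eq_bot_iff]
      refine iSup₂_le fun a ha => ?_
      rw [hfix a ha.2 (hEp.to_le ((Subgroup.zpowers_le).2 ha.1))]
    exact ⟨z, hz1, hz.1, hmem L₁ hT1, hmem L₂ hT2, hz.2⟩

/-- S2806 -/
theorem main [Finite G] [hp : Fact p.Prime] (hG : IsOfLocalCharacteristic p G) (T : Sylow p G)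
    {L₁ L₂ : Subgroup G} (h₁ : L₁.IsSubnormal) (h₂ : L₂.IsSubnormal) :
    pointStabilizer p (L₁ ⊔ L₂) ((T : Subgroup G) ⊓ (L₁ ⊔ L₂)) =
      pointStabilizer p L₁ ((T : Subgroup G) ⊓ L₁) ⊔ pointStabilizer p L₂ ((T : Subgroup G) ⊓ L₂) := by
  by_cases hO : pCore p G = ⊥
  · have hsup : (L₁ ⊔ L₂).IsSubnormal := CfsgLib.H2Subn.sup h₁ h₂
    have hS := Cfsg.Agent.S3028.result T L₁ L₂ h₁ h₂
    -- the degenerate case
    have hdeg : ∀ A B : Subgroup G, A.IsSubnormal → B.IsSubnormal → (T : Subgroup G) ⊓ A = ⊥ →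
        (T : Subgroup G) ⊓ (A ⊔ B) = (T : Subgroup G) ⊓ B →
        pointStabilizer p (A ⊔ B) ((T : Subgroup G) ⊓ (A ⊔ B)) =
          pointStabilizer p A ((T : Subgroup G) ⊓ A) ⊔ pointStabilizer p B ((T : Subgroup G) ⊓ B) := by
      intro A B hA hB hTA hTAB
      have hAB : (A ⊔ B).IsSubnormal := CfsgLib.H2Subn.sup hA hB
      have e1 : pointStabilizer p A ((T : Subgroup G) ⊓ A) = ⊥ := by
        rw [pointStabilizer, Subgroup.closure_eq_bot_iff]
        rintro x ⟨⟨hx, -⟩, k, hk⟩
        have h3 := isSyl_inf_of_isSubnormal T hA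
        rw [hTA] at h3
        obtain ⟨n, hn, h4⟩ := h3.exists_conj_le ((Subgroup.zpowers_le).2 hx)
          (IsPGroup.iff_card.2 ⟨k, by rw [Nat.card_zpowers, hk]⟩)
        rw [Subgroup.map_bot, le_bot_iff, Subgroup.zpowers_eq_bot] at h4
        exact h4
      rw [e1, bot_sup_eq, hTAB]
      -- every `p`-element of `A ⊔ B` lies in `B`
      have h5 : Opp p (A ⊔ B) = Opp p B := by
        have h6 := Opp_le_sup T hB hB hAB le_sup_right le_sup_right (by
          rw [hTAB, sup_idem]
          exact le_Opp (T.2.to_le inf_le_left) inf_le_right)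
        rwa [sup_idem] at h6
      apply le_antisymm
      · apply Subgroup.closure_mono
        rintro x ⟨⟨hx, hxc⟩, hk⟩
        refine ⟨⟨?_, hxc⟩, hk⟩
        have h6 : x ∈ Opp p (A ⊔ B) := mem_Opp hx hk
        rw [h5] at h6
        exact Opp_le B h6
      · apply Subgroup.closure_mono
        rintro x ⟨⟨hx, hxc⟩, hk⟩
        exact ⟨⟨Subgroup.mem_sup_right hx, hxc⟩, hk⟩
    by_cases hT1 : (T : Subgroup G) ⊓ L₁ = ⊥
    · apply hdeg L₁ L₂ h₁ h₂ hT1
      rw [inf_comm, hS, inf_comm L₁, hT1, bot_sup_eq, inf_comm]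
    by_cases hT2 : (T : Subgroup G) ⊓ L₂ = ⊥
    · have h3 := hdeg L₂ L₁ h₂ h₁ hT2 (by
        rw [inf_comm, sup_comm, hS, inf_comm L₂, hT2, sup_bot_eq, inf_comm])
      rw [sup_comm, h3, sup_comm]
    obtain ⟨z, hz1, hzT, hz1', hz2', hzc⟩ := exists_common hG hO T h₁ h₂ hT1 hT2
    obtain ⟨k, hk⟩ := orderOf_of_isPGroup T.2 hzT
    -- an element of order `p` in `⟨z⟩`
    have hzp : IsPGroup p ↥(Subgroup.zpowers z) := IsPGroup.iff_card.2 ⟨k, by rw [Nat.card_zpowers, hk]⟩
    have hd : p ∣ Nat.card ↥(Subgroup.zpowers z) :=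
      dvd_card_of_isPGroup_ne_bot hzp (by rwa [Ne, Subgroup.zpowers_eq_bot])
    obtain ⟨⟨w, hw⟩, hwo⟩ := exists_prime_orderOf_dvd_card' p hd
    rw [Subgroup.orderOf_mk] at hwo
    have hw1 : w ≠ 1 := by
      intro h; rw [h, orderOf_one] at hwo; exact hp.out.one_lt.ne hwo
    have hwT : w ∈ (T : Subgroup G) := (Subgroup.zpowers_le).2 hzT hw
    have hwc : w ∈ centralizer ((T : Subgroup G) : Set G) := (Subgroup.zpowers_le).2 hzc hw
    have hwL : ∀ X : Subgroup G, L₁ ≤ X ∨ L₂ ≤ X → w ∈ X := by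
      rintro X (h | h)
      · exact h ((Subgroup.zpowers_le).2 hz1' hw)
      · exact h ((Subgroup.zpowers_le).2 hz2' hw)
    have hwp : IsPGroup p ↥(Subgroup.zpowers w) := IsPGroup.iff_card.2 ⟨1, by rw [Nat.card_zpowers, hwo, pow_one]⟩
    apply concl T h₁ h₂ (charC hG hw1 hwp)
    · intro t ht
      rw [Subgroup.mem_centralizer_singleton_iff]
      exact (Subgroup.mem_centralizer_iff.1 hwc t ht)
    · intro X hX
      apply Subgroup.centralizer_le
      rw [Set.singleton_subset_iff, SetLike.mem_coe]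
      apply mem_omegaOne
      · refine Subgroup.mem_inf.2 ⟨Subgroup.mem_inf.2 ⟨hwT, hwL X hX⟩, ?_⟩
        exact Subgroup.centralizer_le inf_le_left hwc
      · rw [← hwo]; exact pow_orderOf_eq_one w
  · have h1 := hG.2 (pCore p G) (pCore_isPGroup p G) hO
    have h2 := (charPOf_iff_type _).2 h1
    have h3 : normalizer ((pCore p G : Subgroup G) : Set G) = ⊤ := Subgroup.normalizer_eq_top _
    rw [h3] at h2
    exact concl T h₁ h₂ h2 le_top fun X _ => le_top

end CfsgLib.LC8
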