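import Mathlib
import Cfsg.Agent.EqBase
import Cfsg.Agent.LibBGCop

/-! coprime operators on a `p`-group fixing the elements of order `p` (and `4` for `p = 2`) -/

set_option autoImplicit false
open Subgroup
open scoped Pointwise commutatorElement

namespace CfsgLib.LE11Om

open CfsgLib.BGPi

universe u
variable {G : Type u} [Group G]

/-- `p'`-operators centralizing all elements of order `p` (and those of order `4` for `p = 2`)
centralize the whole `p`-group. -/
theorem cop_omega' [Finite G] {p : ℕ} (hp : p.Prime) {P A : Subgroup G}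
    (hP : IsPGroup p P) (hA : A ≤ 𝓝(P)) (hcop : (Nat.card A).Coprime p)
    (hfix : ∀ x ∈ P, (x ^ p = 1 ∨ (p = 2 ∧ x ^ 4 = 1)) → ∀ a ∈ A, a * x = x * a) : A ≤ 𝓒(P) := by
  by_cases hp2 : p ≠ 2
  · exact cop_omega hp hp2 hP hA hcop (fun x hx h => hfix x hx (Or.inl h))
  push Not at hp2
  subst hp2
  have hfix' : ∀ x ∈ P, x ^ 4 = 1 → ∀ a ∈ A, a * x = x * a :=
    fun x hx h => hfix x hx (Or.inr ⟨rfl, h⟩)
  clear hfix
  induction hn : Nat.card P using Nat.strong_induction_on generalizing P with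
  | _ n ih =>
  subst hn
  have hs := solvable_of_isPGroup hp hP
  have hc := coprime_card_of_pgroup hp hP hcop
  by_cases hbot : P = ⊥
  · rw [hbot]; intro a _; rw [mem_cz]; intro h hh; rw [Subgroup.mem_bot.1 hh]; simp
  have lt_case : ∀ Q : Subgroup G, Q < P → A ≤ 𝓝(Q) → A ≤ 𝓒(Q) := by
    intro Q hQ hAQ
    refine ih (Nat.card Q) ?_ hAQ (hP.to_le hQ.le) (fun x hx => hfix' x (hQ.le hx)) rfl
    rcases lt_or_ge (Nat.card Q) (Nat.card P) with h | h
    · exact h
    · exact absurd (eq_of_card_le hQ.le h) hQ.ne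
  by_cases hPA : ⁅P, A⁆ = P
  swap
  · exact cop_le_cz hA hc hs (lt_case _ (lt_of_le_of_ne (comm_le_left hA) hPA)
      (right_le_nz_comm P A))
  have hphi := lt_case _ (phi_lt hp hP hbot) (hA.trans (nz_le_nz_phi 2 P))
  have e1 : ⁅phi 2 P, A⁆ = ⊥ := comm_eq_bot_iff.2 (le_cz_comm.1 hphi)
  have e2 : ⁅⁅P, phi 2 P⁆, A⁆ = ⊥ := by
    refine le_bot_iff.1 ((Subgroup.commutator_mono (comm_le_right ?_) le_rfl).trans e1.le)
    exact le_normalizer.trans (nz_le_nz_phi 2 P)
  have e3 : ⁅⁅A, P⁆, phi 2 P⁆ = ⊥ :=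
    Subgroup.commutator_commutator_eq_bot_of_rotate e2 (by rw [e1]; simp)
  rw [Subgroup.commutator_comm A P, hPA, comm_eq_bot_iff] at e3
  have key : ∀ x ∈ P, ∀ a ∈ A, ⁅x, a⁆ ^ 4 = 1 := by
    intro x hx a ha
    have hy : a * x⁻¹ * a⁻¹ ∈ P := (le_nz.1 hA) a ha _ (inv_mem hx)
    set y := a * x⁻¹ * a⁻¹ with hydef
    have e : ⁅x, a⁆ = x * y := by rw [commutatorElement_def, hydef]; group
    set z := y⁻¹ * x⁻¹ * y * x with hz
    have hzP : z ∈ phi 2 P := by
      apply comm_le_phi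
      have : z = ⁅y⁻¹, x⁻¹⁆ := by rw [commutatorElement_def, hz]; group
      rw [this]
      exact Subgroup.commutator_mem_commutator (inv_mem hy) (inv_mem hx)
    have h1 : y * x = x * y * z := by rw [hz]; group
    have hzx : Commute z x := (mem_cz.1 (e3 hx) z hzP)
    have hzy : Commute z y := (mem_cz.1 (e3 hy) z hzP)
    have hzp : z ^ 2 = 1 := by
      have h2 := pow_mul_class2 h1 hzy 2
      have h3 : y ^ 2 * x = x * y ^ 2 := mem_cz.1 (e3 hx) _ (pow_mem_phi hy)
      rw [h3] at h2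
      exact (mul_eq_left.1 h2.symm)
    have h4 : x ^ 2 * a = a * x ^ 2 := mem_cz.1 (hphi ha) _ (pow_mem_phi hx)
    have h5 : x ^ 2 * y ^ 2 = 1 := by
      rw [hydef, conj_pow, inv_pow]
      calc x ^ 2 * (a * (x ^ 2)⁻¹ * a⁻¹) = (x ^ 2 * a) * (x ^ 2)⁻¹ * a⁻¹ := by group
        _ = 1 := by rw [h4]; group
    have h6 : (x * y) ^ 2 = z := by
      have e5 : (x * y) ^ 2 = x * (y * x) * y := by rw [pow_two]; simp only [mul_assoc]
      have e6 : x * (x * y * z) * y = x ^ 2 * y * (z * y) := by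
        rw [pow_two]; simp only [mul_assoc]
      rw [e5, h1, e6, hzy.eq]
      calc x ^ 2 * y * (y * z) = (x ^ 2 * y ^ 2) * z := by rw [pow_two y]; simp only [mul_assoc]
        _ = z := by rw [h5, one_mul]
    rw [e, show (4 : ℕ) = 2 * 2 from rfl, pow_mul, h6, hzp]
  have h5 : ⁅P, A⁆ ≤ 𝓒(A) := by
    rw [Subgroup.commutator_le]
    intro x hx a ha
    rw [mem_cz]
    intro b hb
    refine hfix' _ ?_ (key x hx a ha) b hb
    rw [← hPA]
    exact Subgroup.commutator_mem_commutator hx ha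
  rw [hPA] at h5
  exact le_cz_comm.1 h5

end CfsgLib.LE11Om
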