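import Mathlib
import Cfsg.Agent.EqBase
import Cfsg.Agent.LibLE11Om
import Cfsg.Agent.LibLE11Syl
import Cfsg.Agent.LibCoprime

/-! actions of `p'`-elements whose order is prime to `p - 1` -/

set_option autoImplicit false
open Subgroup
open scoped Pointwise commutatorElement

namespace CfsgLib.LE11Act

universe u
variable {G : Type u} [Group G]

theorem cyc_act [Finite G] {p : ℕ} [hp : Fact p.Prime] {Q : Subgroup G} (hQ : IsPGroup p Q)
    (hc : IsCyclic Q) {a : G} (ha : a ∈ normalizer (Q : Set G)) (h1 : Nat.Coprime (orderOf a) p)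
    (h2 : Nat.Coprime (orderOf a) (p - 1)) : ∀ x ∈ Q, a * x * a⁻¹ = x := by
  set θ := Q.normalizerMonoidHom ⟨a, ha⟩ with hθ
  have h3 : θ = 1 := by
    rw [← orderOf_eq_one_iff]
    have h4 : orderOf θ ∣ orderOf a := by
      have := orderOf_map_dvd Q.normalizerMonoidHom ⟨a, ha⟩
      rwa [Subgroup.orderOf_mk] at this
    have h5 : orderOf θ ∣ Nat.card (MulAut Q) := orderOf_dvd_natCard _
    rw [hc.card_mulAut] at h5
    obtain ⟨k, hk⟩ := IsPGroup.iff_card.mp hQ
    rw [hk] at h5
    rcases Nat.eq_zero_or_pos k with h0 | h0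
    · rw [h0, pow_zero, Nat.totient_one] at h5
      exact Nat.dvd_one.1 h5
    · rw [Nat.totient_prime_pow hp.out h0] at h5
      have h6 : Nat.Coprime (orderOf a) (p ^ (k - 1) * (p - 1)) :=
        Nat.Coprime.mul_right (Nat.Coprime.pow_right _ h1) h2
      exact Nat.Coprime.eq_one_of_dvd (Nat.Coprime.coprime_dvd_left h4
        (Nat.Coprime.coprime_dvd_right h5 h6)) dvd_rfl
  intro x hx
  have h4 : θ ⟨x, hx⟩ = ⟨x, hx⟩ := by rw [h3]; rfl
  have h5 : ((θ ⟨x, hx⟩ : Q) : G) = a * x * a⁻¹ := rfl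
  rw [← h5, h4]

theorem index_act [Finite G] {p : ℕ} [hp : Fact p.Prime] {Q M : Subgroup G} (hMQ : M ≤ Q)
    (hidx : M.relIndex Q = p) (hQM : Q ≤ normalizer (M : Set G)) {a : G}
    (ha : a ∈ normalizer (Q : Set G)) (haM : a ∈ normalizer (M : Set G))
    (h1 : Nat.Coprime (orderOf a) p)
    (h2 : Nat.Coprime (orderOf a) (p - 1)) : ∀ x ∈ Q, a * x * a⁻¹ * x⁻¹ ∈ M := by
  set H : Subgroup G := normalizer (M : Set G) with hH
  set M1 : Subgroup H := M.subgroupOf H with hM1
  have hM1n : M1.Normal := Subgroup.normal_in_normalizer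
  set f := QuotientGroup.mk' M1 with hf
  set Q1 : Subgroup (H ⧸ M1) := (Q.subgroupOf H).map f with hQ1
  have hcard : Nat.card Q1 = p := by
    rw [hQ1, ← Subgroup.relIndex_ker, hf, QuotientGroup.ker_mk', hM1, ← hidx,
      Subgroup.relIndex_subgroupOf hQM]
  have hcyc : IsCyclic Q1 := isCyclic_of_prime_card (p := p) hcard
  have hpg : IsPGroup p Q1 := IsPGroup.of_card (n := 1) (by rw [hcard, pow_one])
  have ha' : f ⟨a, haM⟩ ∈ normalizer (Q1 : Set (H ⧸ M1)) := by
    rw [← Subgroup.zpowers_le, ← MonoidHom.map_zpowers, hQ1]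
    refine (Subgroup.map_mono ?_).trans (Subgroup.le_normalizer_map _)
    rw [Subgroup.zpowers_le, Subgroup.mem_normalizer_iff]
    intro x
    exact Subgroup.mem_normalizer_iff.1 ha x
  have h3 : orderOf (f ⟨a, haM⟩) ∣ orderOf a := by
    have := orderOf_map_dvd f ⟨a, haM⟩
    rwa [Subgroup.orderOf_mk] at this
  intro x hx
  have h4 := cyc_act hpg hcyc ha' (Nat.Coprime.coprime_dvd_left h3 h1)
    (Nat.Coprime.coprime_dvd_left h3 h2) (f ⟨x, hQM hx⟩) ⟨⟨x, hQM hx⟩, hx, rfl⟩
  have h5 : f (⟨a, haM⟩ * ⟨x, hQM hx⟩ * ⟨a, haM⟩⁻¹ * ⟨x, hQM hx⟩⁻¹) = 1 := by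
    rw [map_mul, map_mul, map_mul, map_inv, map_inv, h4, mul_inv_cancel]
  have h6 : (⟨a, haM⟩ * ⟨x, hQM hx⟩ * ⟨a, haM⟩⁻¹ * ⟨x, hQM hx⟩⁻¹ : H) ∈ M1 :=
    (QuotientGroup.eq_one_iff _).1 h5
  exact h6

/-- subgroups of every possible order between two given ones -/
theorem exists_between [Finite G] {p : ℕ} [hp : Fact p.Prime] {C Q : Subgroup G} (hCQ : C ≤ Q)
    (hQ : IsPGroup p Q) {n k : ℕ} (hC : Nat.card C = p ^ n) (hnk : n ≤ k) (hk : p ^ k ≤ Nat.card Q) :
    ∃ K : Subgroup G, C ≤ K ∧ K ≤ Q ∧ Nat.card K = p ^ k := by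
  obtain ⟨m, hm⟩ := IsPGroup.iff_card.mp hQ
  have hkm : k ≤ m := by
    rw [hm] at hk
    exact (Nat.pow_le_pow_iff_right hp.out.one_lt).1 hk
  have hC' : Nat.card (C.subgroupOf Q) = p ^ n := by
    rw [← hC]; exact Nat.card_congr (Subgroup.subgroupOfEquivOfLe hCQ).toEquiv
  obtain ⟨K, hK, hCK⟩ := Sylow.exists_subgroup_card_pow_prime_le p
    (by rw [hm]; exact pow_dvd_pow p hkm : p ^ k ∣ Nat.card Q) (C.subgroupOf Q) hC' hnk
  refine ⟨K.map Q.subtype, ?_, Subgroup.map_subtype_le K, ?_⟩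
  · have := Subgroup.map_mono (f := Q.subtype) hCK
    rwa [Subgroup.subgroupOf_map_subtype, inf_of_le_left hCQ] at this
  · rw [Subgroup.card_map_of_injective Q.subtype_injective, hK]

theorem le_normalizer_of_index [Finite G] {p : ℕ} [hp : Fact p.Prime] {M Q : Subgroup G}
    (hMQ : M ≤ Q) (hQ : IsPGroup p Q) (h : M.relIndex Q = p) : Q ≤ normalizer (M : Set G) := by
  have h1 : (M.subgroupOf Q).index = p := h
  have h2 : (M.subgroupOf Q).Normal := by
    apply Subgroup.normal_of_index_eq_minFac_card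
    obtain ⟨m, hm⟩ := IsPGroup.iff_card.mp hQ
    have hm0 : m ≠ 0 := by
      rintro rfl
      have h3 := Subgroup.index_dvd_card (M.subgroupOf Q)
      rw [h1, hm, pow_zero, Nat.dvd_one] at h3
      exact hp.out.one_lt.ne' h3
    rw [h1, hm, Nat.pow_minFac hm0, hp.out.minFac_eq]
  exact (Subgroup.normal_subgroupOf_iff_le_normalizer hMQ).1 h2

theorem mem_normalizer_of_forall [Finite G] {E : Subgroup G} {a : G} (h : ∀ x ∈ E, a * x * a⁻¹ ∈ E) :
    a ∈ normalizer (E : Set G) := by
  rw [← CfsgLib.LE11Syl.conj_smul_eq_iff]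
  refine Subgroup.eq_of_le_of_card_ge ?_ (CfsgLib.LE11Syl.card_conj a E).ge
  intro y hy
  rw [CfsgLib.LE11Syl.mem_conj_smul] at hy
  have := h _ hy
  have e : a * (a⁻¹ * y * a) * a⁻¹ = y := by group
  rwa [e] at this

/-- the elements of the normalizer of `Q` acting trivially on `Q` modulo `M` -/
def actsub (Q M : Subgroup G) : Subgroup G where
  carrier := {b | b ∈ normalizer (Q : Set G) ∧ ∀ u ∈ Q, b * u * b⁻¹ * u⁻¹ ∈ M}
  mul_mem' := by
    rintro a b ⟨ha, ha'⟩ ⟨hb, hb'⟩
    refine ⟨mul_mem ha hb, fun u hu => ?_⟩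
    have hbu : b * u * b⁻¹ ∈ Q := (Subgroup.mem_normalizer_iff.1 hb u).1 hu
    have := M.mul_mem (ha' _ hbu) (hb' u hu)
    have e : a * (b * u * b⁻¹) * a⁻¹ * (b * u * b⁻¹)⁻¹ * (b * u * b⁻¹ * u⁻¹) =
      a * b * u * (a * b)⁻¹ * u⁻¹ := by group
    rwa [e] at this
  one_mem' := ⟨one_mem _, fun u _ => by simp⟩
  inv_mem' := by
    rintro a ⟨ha, ha'⟩
    refine ⟨inv_mem ha, fun u hu => ?_⟩
    have hau : a⁻¹ * u * a ∈ Q := by
      have := (Subgroup.mem_normalizer_iff.1 (inv_mem ha) u).1 hu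
      rwa [inv_inv] at this
    have := M.inv_mem (ha' _ hau)
    have e : (a * (a⁻¹ * u * a) * a⁻¹ * (a⁻¹ * u * a)⁻¹)⁻¹ = a⁻¹ * u * a⁻¹⁻¹ * u⁻¹ := by group
    rwa [e] at this

/-- a `p'`-element acting trivially on `Q` modulo every maximal subgroup centralizes `Q` -/
theorem max_act [Finite G] {p : ℕ} [hp : Fact p.Prime] {Q : Subgroup G} (hQ : IsPGroup p Q) {a : G}
    (ha : a ∈ normalizer (Q : Set G)) (h1 : Nat.Coprime (orderOf a) p)
    (h : ∀ M : Subgroup G, M ≤ Q → M.relIndex Q = p → ∀ x ∈ Q, a * x * a⁻¹ * x⁻¹ ∈ M) :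
    a ∈ centralizer (Q : Set G) := by
  set A := Subgroup.zpowers a with hA
  have hAQ : A ≤ normalizer (Q : Set G) := by rw [hA, Subgroup.zpowers_le]; exact ha
  obtain ⟨m, hm⟩ := IsPGroup.iff_card.mp hQ
  have hcop : (Nat.card A).Coprime (Nat.card Q) := by
    rw [hA, Nat.card_zpowers, hm]; exact Nat.Coprime.pow_right _ h1
  have hsQ : Group.IsSolvable Q := CfsgLib.BGPi.solvable_of_isPGroup hp.out hQ
  have h2 := CfsgLib.Coprime.commutator_sup_centralizer hAQ hcop (Or.inr hsQ)
  set C := Q ⊓ centralizer (A : Set G) with hC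
  by_cases hCQ : C = Q
  · have h3 : Q ≤ centralizer (A : Set G) := by rw [← hCQ]; exact inf_le_right
    have h4 : A ≤ centralizer (Q : Set G) := Subgroup.le_centralizer_iff.1 h3
    exact h4 (Subgroup.mem_zpowers a)
  · exfalso
    have hCle : C ≤ Q := inf_le_left
    obtain ⟨n, hn⟩ := IsPGroup.iff_card.mp (hQ.to_le hCle)
    have hnm : n < m := by
      by_contra h3
      push Not at h3
      apply hCQ
      apply Subgroup.eq_of_le_of_card_ge hCle
      rw [hn, hm]; exact Nat.pow_le_pow_right hp.out.pos h3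
    obtain ⟨M, hCM, hMQ, hM⟩ := exists_between hCle hQ hn (Nat.le_sub_one_of_lt hnm)
      (by rw [hm]; exact Nat.pow_le_pow_right hp.out.pos (by omega))
    have hidx : M.relIndex Q = p := by
      have h3 := Subgroup.card_mul_index (M.subgroupOf Q)
      have h4 : Nat.card (M.subgroupOf Q) = p ^ (m - 1) := by
        rw [← hM]; exact Nat.card_congr (Subgroup.subgroupOfEquivOfLe hMQ).toEquiv
      rw [h4, hm] at h3
      have h5 : p ^ m = p ^ (m - 1) * p := by rw [← pow_succ]; congr 1; omega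
      rw [h5] at h3
      exact Nat.eq_of_mul_eq_mul_left (pow_pos hp.out.pos _) h3
    have h3 : A ≤ actsub Q M := by
      rw [hA, Subgroup.zpowers_le]
      exact ⟨ha, h M hMQ hidx⟩
    have h4 : ⁅Q, A⁆ ≤ M := by
      rw [Subgroup.commutator_comm, Subgroup.commutator_le]
      intro b hb x hx
      exact (h3 hb).2 x hx
    have h5 : Q ≤ M := by
      rw [← h2]; exact sup_le h4 hCM
    have h6 : M = Q := le_antisymm hMQ h5
    rw [h6, Subgroup.relIndex_self] at hidx
    exact hp.out.one_lt.ne hidx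

/-- all subgroups of order `p ^ d` invariant implies trivial action (and those of order `4` for
`p ^ d = 2`) -/
theorem act_trivial [Finite G] {p : ℕ} [hp : Fact p.Prime] {Q : Subgroup G} (hQ : IsPGroup p Q)
    {a : G} (ha : a ∈ normalizer (Q : Set G)) (h1 : Nat.Coprime (orderOf a) p)
    (h2 : Nat.Coprime (orderOf a) (p - 1)) {d : ℕ} (hd : 1 ≤ d) (hcard : p ^ d < Nat.card Q)
    (hinv : ∀ E : Subgroup G, E ≤ Q → (Nat.card E = p ^ d ∨ (p ^ d = 2 ∧ Nat.card E = 4)) →
      a ∈ normalizer (E : Set G)) : a ∈ centralizer (Q : Set G) := by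
  have key : ∀ x ∈ Q, (x ^ p = 1 ∨ (p = 2 ∧ x ^ 4 = 1)) → a * x * a⁻¹ = x := by
    intro x hx hx'
    obtain ⟨j, hj⟩ : ∃ j, orderOf x = p ^ j := by
      obtain ⟨j, hj⟩ := IsPGroup.iff_orderOf.mp hQ ⟨x, hx⟩
      exact ⟨j, by rwa [Subgroup.orderOf_mk] at hj⟩
    have hxQ : Subgroup.zpowers x ≤ Q := by rw [Subgroup.zpowers_le]; exact hx
    have hjcard : Nat.card (Subgroup.zpowers x) = p ^ j := by rw [Nat.card_zpowers, hj]
    by_cases hjd : j ≤ d
    · obtain ⟨E, hxE, hEQ, hE⟩ := exists_between hxQ hQ hjcard hjd hcard.le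
      have hxE' : x ∈ E := hxE (Subgroup.mem_zpowers x)
      by_cases hEc : IsCyclic E
      · exact cyc_act (hQ.to_le hEQ) hEc (hinv E hEQ (Or.inl hE)) h1 h2 x hxE'
      · obtain ⟨T, hET, hTQ, hT⟩ := exists_between hEQ hQ hE (Nat.le_succ d) (by
          obtain ⟨m, hm⟩ := IsPGroup.iff_card.mp hQ
          rw [hm] at hcard ⊢
          have := (Nat.pow_lt_pow_iff_right hp.out.one_lt).1 hcard
          exact Nat.pow_le_pow_right hp.out.pos this)
        have hTp : IsPGroup p T := hQ.to_le hTQ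
        have hTM : ∀ M : Subgroup G, M ≤ T → Nat.card M = p ^ d → a ∈ normalizer (M : Set G) :=
          fun M hM hMc => hinv M (hM.trans hTQ) (Or.inl hMc)
        have haT : a ∈ normalizer (T : Set G) := by
          apply mem_normalizer_of_forall
          intro t ht
          obtain ⟨i, hi⟩ : ∃ i, orderOf t = p ^ i := by
            obtain ⟨i, hi⟩ := IsPGroup.iff_orderOf.mp hTp ⟨t, ht⟩
            exact ⟨i, by rwa [Subgroup.orderOf_mk] at hi⟩
          have htT : Subgroup.zpowers t ≤ T := by rw [Subgroup.zpowers_le]; exact ht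
          have htcard : Nat.card (Subgroup.zpowers t) = p ^ i := by rw [Nat.card_zpowers, hi]
          have hid : i ≤ d := by
            by_contra hcon
            push Not at hcon
            have h3 : Subgroup.zpowers t = T := by
              apply Subgroup.eq_of_le_of_card_ge htT
              rw [htcard, hT]
              exact Nat.pow_le_pow_right hp.out.pos hcon
            apply hEc
            have h4 : IsCyclic T := by rw [← h3]; infer_instance
            exact isCyclic_of_injective (Subgroup.inclusion hET) (Subgroup.inclusion_injective hET)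
          obtain ⟨M, htM, hMT, hM⟩ := exists_between htT hTp htcard hid
            (by rw [hT]; exact Nat.pow_le_pow_right hp.out.pos (Nat.le_succ d))
          exact hMT ((Subgroup.mem_normalizer_iff.1 (hTM M hMT hM) t).1 (htM (Subgroup.mem_zpowers t)))
        have h3 : a ∈ centralizer (T : Set G) := by
          refine max_act hTp haT h1 ?_
          intro M hMT hM
          have hMc : Nat.card M = p ^ d := by
            have h4 := Subgroup.card_mul_index (M.subgroupOf T)
            have h5 : Nat.card (M.subgroupOf T) = Nat.card M :=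
              Nat.card_congr (Subgroup.subgroupOfEquivOfLe hMT).toEquiv
            have h6 : (M.subgroupOf T).index = p := hM
            rw [h5, h6, hT, pow_succ] at h4
            exact Nat.eq_of_mul_eq_mul_right hp.out.pos h4
          exact index_act hMT hM (le_normalizer_of_index hMT hTp hM) haT (hTM M hMT hMc) h1 h2
        have h4 := h3 x (hET hxE')
        rw [← h4, mul_inv_cancel_right]
    · push Not at hjd
      have hp2 : p = 2 ∧ x ^ 4 = 1 := by
        rcases hx' with h3 | h3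
        · exfalso
          have h4 := orderOf_dvd_of_pow_eq_one h3
          rw [hj] at h4
          have h5 : p ^ j ≤ p ^ 1 := by rw [pow_one]; exact Nat.le_of_dvd hp.out.pos h4
          have := (Nat.pow_le_pow_iff_right hp.out.one_lt).1 h5
          omega
        · exact h3
      obtain ⟨h3, h4⟩ := hp2
      subst h3
      have h5 := orderOf_dvd_of_pow_eq_one h4
      rw [hj] at h5
      have h6 : 2 ^ j ≤ 2 ^ 2 := Nat.le_of_dvd (by norm_num) h5
      have h7 := (Nat.pow_le_pow_iff_right (by norm_num : 1 < 2)).1 h6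
      have h8 : d = 1 := by omega
      have h9 : j = 2 := by omega
      subst h8
      subst h9
      exact cyc_act (hQ.to_le hxQ) inferInstance
        (hinv _ hxQ (Or.inr ⟨by norm_num, by rw [hjcard]; norm_num⟩)) h1 h2 x (Subgroup.mem_zpowers x)
  have h3 : Subgroup.zpowers a ≤ centralizer (Q : Set G) := by
    refine CfsgLib.LE11Om.cop_omega' hp.out hQ (by rw [Subgroup.zpowers_le]; exact ha)
      (by rw [Nat.card_zpowers]; exact h1) ?_
    intro x hx hx' b hb
    have h4 : Commute a x := by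
      have := key x hx hx'
      show a * x = x * a
      rw [← mul_inv_eq_iff_eq_mul]; exact this
    obtain ⟨k, rfl⟩ := Subgroup.mem_zpowers_iff.1 hb
    exact h4.zpow_left k
  exact h3 (Subgroup.mem_zpowers a)

theorem coprime_pred {n p : ℕ} (hp : p.Prime) (h : ∀ q : ℕ, q.Prime → q ∣ n → p ≤ q) :
    Nat.Coprime n (p - 1) := by
  rw [Nat.coprime_iff_gcd_eq_one] at *
  by_contra hne
  obtain ⟨q, hq, hqd⟩ := Nat.exists_prime_and_dvd hne
  have h1 := h q hq (hqd.trans (Nat.gcd_dvd_left _ _))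
  have h2 := Nat.le_of_dvd (by have := hp.two_le; omega) (hqd.trans (Nat.gcd_dvd_right _ _))
  have := hp.two_le
  omega

end CfsgLib.LE11Act
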