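import Mathlib
import Cfsg.Agent.EqBase
import Cfsg.Prelude.Def_IsolatedElements
import Cfsg.Prelude.Def_Transfer
import Cfsg.Prelude.Def_TwoFusion
import Cfsg.Agent.LibLE11Basic

/-! Isolated elements (seat helper11). -/

set_option autoImplicit false
set_option linter.all false

namespace CfsgLib.LE11Iso

open Subgroup
open scoped Pointwise

variable {G : Type*} [Group G] [Finite G] {p : ℕ} [Fact p.Prime]

theorem isPGroup_zpowers {x : G} (hx : ∃ k : ℕ, orderOf x = p ^ k) : IsPGroup p (Subgroup.zpowers x) := by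
  obtain ⟨k, hk⟩ := hx
  exact IsPGroup.of_card (n := k) (by rw [Nat.card_zpowers, hk])

/-- two `p`-elements of `H`: up to conjugation in `H` they lie in a common `p`-subgroup of `H` -/
theorem exists_common (H : Subgroup G) {x y : G} (hx : x ∈ H) (hy : y ∈ H) (hxp : ∃ k : ℕ, orderOf x = p ^ k)
    (hyp : ∃ k : ℕ, orderOf y = p ^ k) : ∃ R : Subgroup G, R ≤ H ∧ IsPGroup p ↥R ∧ x ∈ R ∧ ∃ h ∈ H, h * y * h⁻¹ ∈ R := by
  have h1 : IsPGroup p (Subgroup.zpowers (⟨x, hx⟩ : H)) := isPGroup_zpowers (by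
    obtain ⟨k, hk⟩ := hxp; exact ⟨k, by rw [← hk, ← Subgroup.orderOf_coe]⟩)
  have h2 : IsPGroup p (Subgroup.zpowers (⟨y, hy⟩ : H)) := isPGroup_zpowers (by
    obtain ⟨k, hk⟩ := hyp; exact ⟨k, by rw [← hk, ← Subgroup.orderOf_coe]⟩)
  obtain ⟨P1, hP1⟩ := h1.exists_le_sylow
  obtain ⟨P2, hP2⟩ := h2.exists_le_sylow
  obtain ⟨h, hh⟩ := MulAction.exists_smul_eq H P2 P1
  refine ⟨(P1 : Subgroup H).map H.subtype, Subgroup.map_subtype_le _, P1.isPGroup'.map _, ?_, h, h.2, ?_⟩
  · exact ⟨⟨x, hx⟩, hP1 (Subgroup.mem_zpowers _), rfl⟩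
  · refine ⟨h * ⟨y, hy⟩ * h⁻¹, ?_, rfl⟩
    rw [← hh, Sylow.coe_subgroup_smul]
    exact Subgroup.smul_mem_pointwise_smul (⟨y, hy⟩ : H) (MulAut.conj h) (P2 : Subgroup H) (hP2 (Subgroup.mem_zpowers _))

theorem iso_central {x : G} (hiso : Cfsg.IsIsolated x) (R : Subgroup G) [Group.IsNilpotent R] (hx : x ∈ R) :
    R ≤ Subgroup.centralizer ({x} : Set G) := by
  -- C = centralizer of x in R
  set C : Subgroup R := Subgroup.centralizer ({(⟨x, hx⟩ : R)} : Set R) with hC
  by_contra hcon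
  have hClt : C < ⊤ := by
    rw [lt_top_iff_ne_top]
    intro h
    apply hcon
    intro r hr
    have : (⟨r, hr⟩ : R) ∈ C := by rw [h]; trivial
    rw [hC, Subgroup.mem_centralizer_singleton_iff] at this
    rw [Subgroup.mem_centralizer_singleton_iff]
    exact congrArg Subtype.val this
  obtain ⟨g, hg1, hg2⟩ := SetLike.exists_of_lt (Group.normalizerCondition_of_isNilpotent (G := R) C hClt)
  apply hg2
  have h1 : g * (⟨x, hx⟩ : R) * g⁻¹ ∈ C := by
    rw [Subgroup.mem_normalizer_iff] at hg1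
    exact (hg1 _).mp (by rw [hC, Subgroup.mem_centralizer_singleton_iff])
  rw [hC, Subgroup.mem_centralizer_singleton_iff] at h1 ⊢
  have h2 : (g : G) * x * (g : G)⁻¹ * x = x * ((g : G) * x * (g : G)⁻¹) := congrArg Subtype.val h1
  have h3 := hiso (g : G) h2.symm
  apply Subtype.ext
  show (g : G) * x = x * g
  calc (g : G) * x = ((g : G) * x * (g : G)⁻¹) * g := by group
    _ = x * g := by rw [h3]

theorem iso_eq {x : G} (hiso : Cfsg.IsIsolated x) {R : Subgroup G} (hR : IsPGroup p ↥R) (hx : x ∈ R) {g : G}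
    (hg : g * x * g⁻¹ ∈ R) : g * x * g⁻¹ = x := by
  haveI : Group.IsNilpotent R := hR.isNilpotent
  have h1 := iso_central hiso R hx hg
  rw [Subgroup.mem_centralizer_singleton_iff] at h1
  exact hiso g h1.symm

theorem conj_eq_iff_mem {x g : G} : g * x * g⁻¹ = x ↔ g ∈ Subgroup.centralizer ({x} : Set G) := by
  rw [Subgroup.mem_centralizer_singleton_iff]
  constructor
  · intro h
    calc g * x = (g * x * g⁻¹) * g := by group
      _ = x * g := by rw [h]
  · intro h
    rw [h]; group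

theorem iso_conj {x : G} (hx : ∃ k : ℕ, orderOf x = p ^ k) (hiso : Cfsg.IsIsolated x) {H : Subgroup G} (hxH : x ∈ H) {g : G}
    (hg : g * x * g⁻¹ ∈ H) : ∃ h ∈ H, h * g ∈ Subgroup.centralizer ({x} : Set G) := by
  have hy : ∃ k : ℕ, orderOf (g * x * g⁻¹) = p ^ k := by
    obtain ⟨k, hk⟩ := hx
    refine ⟨k, ?_⟩
    have : g * x * g⁻¹ = MulAut.conj g x := rfl
    rw [this, MulEquiv.orderOf_eq, hk]
  obtain ⟨R, hRH, hR, hxR, h, hh, hyR⟩ := exists_common H hxH hg hx hy
  refine ⟨h, hh, ?_⟩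
  rw [← conj_eq_iff_mem]
  have e : h * g * x * (h * g)⁻¹ = h * (g * x * g⁻¹) * h⁻¹ := by group
  apply iso_eq hiso hR hxR
  rw [e]; exact hyR

/-- normalizers of `p`-subgroups containing `x` -/
theorem iso_normalizer {x : G} (hiso : Cfsg.IsIsolated x) {R : Subgroup G} (hR : IsPGroup p ↥R) (hx : x ∈ R) :
    Subgroup.normalizer (R : Set G) ≤ Subgroup.centralizer ({x} : Set G) := by
  intro n hn
  rw [← conj_eq_iff_mem]
  exact iso_eq hiso hR hx ((Subgroup.mem_normalizer_iff.mp hn x).mp hx)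

theorem iso_frattini {x : G} (hx : ∃ k : ℕ, orderOf x = p ^ k) (hiso : Cfsg.IsIsolated x) {H N : Subgroup G} (hNH : N ≤ H)
    (hH : H ≤ Subgroup.normalizer (N : Set G)) (hxN : x ∈ N) : N ⊔ (H ⊓ Subgroup.centralizer ({x} : Set G)) = H := by
  apply le_antisymm
  · exact sup_le hNH inf_le_left
  · intro h hh
    have h1 : h * x * h⁻¹ ∈ N := (Subgroup.mem_normalizer_iff.mp (hH hh) x).mp hxN
    obtain ⟨n, hn, hc⟩ := iso_conj hx hiso hxN h1
    have e : h = n⁻¹ * (n * h) := by group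
    rw [e]
    exact Subgroup.mul_mem _ (Subgroup.mem_sup_left (N.inv_mem hn)) (Subgroup.mem_sup_right ⟨H.mul_mem (hNH hn) hh, hc⟩)

/-- powers of `x` are also only conjugate to themselves in a Sylow subgroup -/
theorem iso_zpow {x : G} (hx : ∃ k : ℕ, orderOf x = p ^ k) (hiso : Cfsg.IsIsolated x) {R : Subgroup G} (hR : IsPGroup p ↥R) (hxR : x ∈ R)
    {g y : G} (hy : y ∈ Subgroup.zpowers x) (hg : g * y * g⁻¹ ∈ R) : g * y * g⁻¹ = y := by
  haveI : Group.IsNilpotent R := hR.isNilpotent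
  have h1 := iso_central hiso R hxR hg
  rw [Subgroup.mem_centralizer_singleton_iff] at h1
  set z := g * y * g⁻¹ with hz
  have hxy : x * y = y * x := by
    obtain ⟨k, rfl⟩ := hy
    exact (Commute.refl x).zpow_right k
  have hxC : x ∈ Subgroup.centralizer ({z} : Set G) := by
    rw [Subgroup.mem_centralizer_singleton_iff]; exact h1.symm
  have hgC : g * x * g⁻¹ ∈ Subgroup.centralizer ({z} : Set G) := by
    rw [Subgroup.mem_centralizer_singleton_iff, hz]
    calc g * x * g⁻¹ * (g * y * g⁻¹) = g * (x * y) * g⁻¹ := by group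
      _ = g * (y * x) * g⁻¹ := by rw [hxy]
      _ = _ := by group
  obtain ⟨h, hh, hc⟩ := iso_conj hx hiso hxC hgC
  have hcy : h * g * y * (h * g)⁻¹ = y := by
    have h2 : Commute (h * g) x := by
      rw [Subgroup.mem_centralizer_singleton_iff] at hc; exact hc
    obtain ⟨k, rfl⟩ := hy
    have h3 : Commute (h * g) (x ^ k) := h2.zpow_right k
    show h * g * (x ^ k) * (h * g)⁻¹ = x ^ k
    rw [h3.eq]; group
  have h4 : h * z * h⁻¹ = z := by
    rw [conj_eq_iff_mem]
    rw [Subgroup.mem_centralizer_singleton_iff] at hh ⊢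
    exact hh
  have e : h * g * y * (h * g)⁻¹ = h * z * h⁻¹ := by rw [hz]; group
  rw [e, h4] at hcy
  exact hcy

end CfsgLib.LE11Iso
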