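import Mathlib
import Cfsg.Agent.EqBase
import Cfsg.Agent.LibLE3

set_option autoImplicit false

/-! Groups acting on finite additive groups of exponent `p`: fixed points, best offenders and the
Timmesfeld replacement theorem in module form (helper11). -/

namespace CfsgLib.LE11PGV

open Subgroup

section basic

variable {G : Type*} [Group G] (V : Type*) [AddCommGroup V] [DistribMulAction G V]

/-- fixed points of a subgroup -/
def fx (B : Subgroup G) : AddSubgroup V where
  carrier := {v | ∀ b ∈ B, b • v = v}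
  zero_mem' := fun b _ => smul_zero b
  add_mem' := fun {a b} ha hb c hc => by rw [smul_add, ha c hc, hb c hc]
  neg_mem' := fun {a} ha c hc => by rw [smul_neg, ha c hc]

theorem mem_fx {B : Subgroup G} {v : V} : v ∈ fx V B ↔ ∀ b ∈ B, b • v = v := Iff.rfl

theorem fx_anti {B C : Subgroup G} (h : B ≤ C) : fx V C ≤ fx V B := fun _ hv b hb => hv b (h hb)

theorem fx_sup (B C : Subgroup G) : fx V (B ⊔ C) = fx V B ⊓ fx V C := by
  apply le_antisymm (le_inf (fx_anti V le_sup_left) (fx_anti V le_sup_right))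
  rintro v ⟨h1, h2⟩
  let S : Subgroup G := MulAction.stabilizer G v
  have h3 : B ⊔ C ≤ S := sup_le (fun b hb => h1 b hb) (fun c hc => h2 c hc)
  exact fun b hb => h3 hb

/-- `h` centralizes `[V, g]` -/
def QQ (g h : G) : Prop := ∀ v : V, h • (g • v - v) = g • v - v

variable {V}

theorem QQ.symm {g h : G} (hc : g * h = h * g) (H : QQ V g h) : QQ V h g := by
  intro v
  have h1 := H v
  rw [smul_sub, ← mul_smul, ← hc, mul_smul] at h1
  rw [smul_sub]
  -- g h v - h v = g v - v
  have h2 : g • h • v = h • v + (g • v - v) := by rw [← h1]; abel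
  rw [h2]; abel

theorem QQ.conj {g h : G} (H : QQ V g h) (x : G) : QQ V (x * g * x⁻¹) (x * h * x⁻¹) := by
  intro v
  have h1 := H (x⁻¹ • v)
  have h2 : (x * g * x⁻¹) • v - v = x • (g • x⁻¹ • v - x⁻¹ • v) := by
    rw [smul_sub, mul_smul, mul_smul, smul_inv_smul]
  rw [h2, ← mul_smul]
  have h3 : x * h * x⁻¹ * x = x * h := by group
  rw [h3, mul_smul, h1]

variable (V)

/-- for fixed `h`, the `g` with `QQ g h` -/
def LL (h : G) : Subgroup G where
  carrier := {g | QQ V g h}
  one_mem' := fun v => by simp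
  mul_mem' := by
    intro a b ha hb v
    have h1 := ha (b • v)
    have h2 := hb v
    have h3 : (a * b) • v - v = (a • b • v - b • v) + (b • v - v) := by rw [mul_smul]; abel
    rw [h3, smul_add, h1, h2]
  inv_mem' := by
    intro a ha v
    have h1 := ha (a⁻¹ • v)
    rw [smul_inv_smul] at h1
    have h3 : a⁻¹ • v - v = -(v - a⁻¹ • v) := by abel
    rw [h3, smul_neg, h1]

theorem mem_LL {g h : G} : g ∈ LL V h ↔ QQ V g h := Iff.rfl

/-- for fixed `g`, the `h` with `QQ g h` -/
def RR (g : G) : Subgroup G where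
  carrier := {h | QQ V g h}
  one_mem' := fun v => by rw [one_smul]
  mul_mem' := by
    intro a b ha hb v
    rw [mul_smul, hb v, ha v]
  inv_mem' := by
    intro a ha v
    rw [inv_smul_eq_iff]; exact (ha v).symm

theorem mem_RR {g h : G} : h ∈ RR V g ↔ QQ V g h := Iff.rfl

end basic

/-! ### actions on sub- and quotient groups -/

section subquot

variable {G : Type*} [Group G] {V : Type*} [AddCommGroup V] [DistribMulAction G V]

/-- action on a stable subgroup -/
@[reducible] def subAct (X : AddSubgroup V) (hX : ∀ g : G, ∀ x ∈ X, g • x ∈ X) :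
    DistribMulAction G X where
  smul g x := ⟨g • (x : V), hX g x x.2⟩
  one_smul x := Subtype.ext (one_smul G (x : V))
  mul_smul g h x := Subtype.ext (mul_smul g h (x : V))
  smul_zero g := Subtype.ext (smul_zero g)
  smul_add g x y := Subtype.ext (smul_add g (x : V) (y : V))

/-- the map on the quotient -/
def quotMap (X : AddSubgroup V) (g : G) (hX : ∀ x ∈ X, g • x ∈ X) : V ⧸ X →+ V ⧸ X :=
  QuotientAddGroup.map X X (DistribSMul.toAddMonoidHom V g) (fun x hx => hX x hx)

/-- action on the quotient by a stable subgroup -/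
@[reducible] def quotAct (X : AddSubgroup V) (hX : ∀ g : G, ∀ x ∈ X, g • x ∈ X) :
    DistribMulAction G (V ⧸ X) where
  smul g x := quotMap X g (hX g) x
  one_smul x := by
    obtain ⟨v, rfl⟩ := QuotientAddGroup.mk_surjective x
    exact congrArg _ (one_smul G v)
  mul_smul g h x := by
    obtain ⟨v, rfl⟩ := QuotientAddGroup.mk_surjective x
    exact congrArg _ (mul_smul g h v)
  smul_zero g := map_zero _
  smul_add g x y := map_add _ x y

/-- a `p`-group acting on a nontrivial elementary abelian `p`-group has a nontrivial fixed point. -/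
theorem exists_fixed {p : ℕ} [hp : Fact p.Prime] {B : Type*} [Group B] (hB : IsPGroup p B)
    {W : Type*} [AddCommGroup W] [Finite W] [Nontrivial W] [DistribMulAction B W]
    (hW : ∀ w : W, p • w = 0) : ∃ w : W, w ≠ 0 ∧ ∀ b : B, b • w = w := by
  have h1 : p ∣ Nat.card W := by
    obtain ⟨w, hw⟩ := exists_ne (0 : W)
    have h2 : addOrderOf w = p := addOrderOf_eq_prime (hW w) hw
    rw [← h2]; exact addOrderOf_dvd_natCard w
  have h3 : (0 : W) ∈ MulAction.fixedPoints B W := fun b => smul_zero b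
  obtain ⟨w, hw, hne⟩ := hB.exists_fixed_point_of_prime_dvd_card_of_fixed_point W h1 h3
  exact ⟨w, fun h => hne h.symm, fun b => hw b⟩

/-- fixed points of a `p`-group in a section. -/
theorem exists_fixed_section {p : ℕ} [hp : Fact p.Prime] [Finite V] (hV : ∀ v : V, p • v = 0)
    {B : Subgroup G} (hB : IsPGroup p B) {X Y : AddSubgroup V} (hX : ∀ b ∈ B, ∀ x ∈ X, b • x ∈ X)
    (hY : ∀ b ∈ B, ∀ x ∈ Y, b • x ∈ Y) (hYX : ¬ Y ≤ X) :
    ∃ y ∈ Y, y ∉ X ∧ ∀ b ∈ B, b • y - y ∈ X := by
  letI : DistribMulAction B (V ⧸ X) := quotAct (G := B) X (fun b x hx => hX b b.2 x hx)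
  have hmk : ∀ (b : B) (v : V), b • (QuotientAddGroup.mk v : V ⧸ X) = QuotientAddGroup.mk ((b : G) • v) :=
    fun b v => rfl
  let Y' : AddSubgroup (V ⧸ X) := Y.map (QuotientAddGroup.mk' X)
  have hY' : ∀ b : B, ∀ x ∈ Y', b • x ∈ Y' := by
    rintro b _ ⟨y, hy, rfl⟩
    exact ⟨(b : G) • y, hY b b.2 y hy, rfl⟩
  letI : DistribMulAction B Y' := subAct Y' hY'
  have hnt : Nontrivial Y' := by
    by_contra hno
    rw [not_nontrivial_iff_subsingleton] at hno
    apply hYX
    intro y hy
    have h1 : (⟨QuotientAddGroup.mk' X y, ⟨y, hy, rfl⟩⟩ : Y') = 0 := Subsingleton.elim _ _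
    have h2 : (QuotientAddGroup.mk' X y) = 0 := congrArg Subtype.val h1
    exact (QuotientAddGroup.eq_zero_iff y).1 h2
  obtain ⟨⟨w, y, hy, hyw⟩, hw0, hw⟩ := exists_fixed hB (W := Y') (by
    rintro ⟨_, v, hv, rfl⟩
    apply Subtype.ext
    show p • (QuotientAddGroup.mk' X v) = 0
    rw [← map_nsmul, hV, map_zero])
  refine ⟨y, hy, ?_, ?_⟩
  · intro h
    apply hw0
    apply Subtype.ext
    show w = 0
    rw [← hyw]
    exact (QuotientAddGroup.eq_zero_iff y).2 h
  · intro b hb
    have h1 : (⟨b, hb⟩ : B) • (w : V ⧸ X) = w := congrArg Subtype.val (hw ⟨b, hb⟩)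
    rw [← hyw] at h1
    have h2 : (QuotientAddGroup.mk (b • y) : V ⧸ X) = QuotientAddGroup.mk y := h1
    rw [QuotientAddGroup.eq] at h2
    have h3 := X.neg_mem h2
    have h4 : -(-(b • y) + y) = b • y - y := by abel
    rwa [h4] at h3

theorem exists_fixed_sub {p : ℕ} [hp : Fact p.Prime] [Finite V] (hV : ∀ v : V, p • v = 0)
    {B : Subgroup G} (hB : IsPGroup p B) {Y : AddSubgroup V}
    (hY : ∀ b ∈ B, ∀ x ∈ Y, b • x ∈ Y) (hY0 : Y ≠ ⊥) :
    ∃ y ∈ Y, y ≠ 0 ∧ ∀ b ∈ B, b • y = y := by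
  obtain ⟨y, hy, hy0, hyb⟩ := exists_fixed_section hV hB (X := ⊥) (Y := Y)
    (fun b _ x hx => by rw [AddSubgroup.mem_bot] at hx ⊢; rw [hx, smul_zero]) hY
    (fun h => hY0 (le_bot_iff.1 h))
  refine ⟨y, hy, fun h => hy0 (by rw [h]; exact zero_mem _), fun b hb => ?_⟩
  have := hyb b hb
  rwa [AddSubgroup.mem_bot, sub_eq_zero] at this

/-- `[V, B] + C_V(B) ≠ V` unless `B` is trivial on `V`. -/
theorem exists_proper {p : ℕ} [hp : Fact p.Prime] [Finite V] (hV : ∀ v : V, p • v = 0)
    {B : Subgroup G} (hB : IsPGroup p B) (hne : fx V B ≠ ⊤) :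
    ∃ X : AddSubgroup V, X ≠ ⊤ ∧ fx V B ≤ X ∧ ∀ b ∈ B, ∀ v : V, b • v - v ∈ X := by
  classical
  let S : Set (AddSubgroup V) := {X | X ≠ ⊤ ∧ fx V B ≤ X ∧ ∀ b ∈ B, ∀ x ∈ X, b • x ∈ X}
  have hSne : S.Nonempty := ⟨fx V B, hne, le_rfl, fun b hb x hx => by rw [hx b hb]; exact hx⟩
  obtain ⟨X, ⟨hX1, hX2, hX3⟩, hmax⟩ := Set.exists_max_image S (fun X => Nat.card X)
    (Set.toFinite _) hSne
  obtain ⟨y, -, hyX, hyb⟩ := exists_fixed_section hV hB (X := X) (Y := ⊤) hX3
    (fun _ _ _ _ => trivial) (fun h => hX1 (top_le_iff.1 h))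
  -- the subgroup of vectors fixed mod X
  let Z : AddSubgroup V :=
    { carrier := {v | ∀ b ∈ B, b • v - v ∈ X}
      zero_mem' := fun b _ => by rw [smul_zero, sub_zero]; exact zero_mem _
      add_mem' := by
        intro u v hu hv b hb
        have h1 : b • (u + v) - (u + v) = (b • u - u) + (b • v - v) := by rw [smul_add]; abel
        rw [h1]; exact add_mem (hu b hb) (hv b hb)
      neg_mem' := by
        intro u hu b hb
        have h1 : b • (-u) - -u = -(b • u - u) := by rw [smul_neg]; abel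
        rw [h1]; exact neg_mem (hu b hb) }
  have hXZ : X < Z := by
    refine lt_of_le_of_ne (fun x hx b hb => sub_mem (hX3 b hb x hx) hx) ?_
    intro h
    apply hyX
    rw [h]; exact hyb
  have hZ : Z = ⊤ := by
    by_contra hZ
    have h1 : Z ∈ S := by
      refine ⟨hZ, hX2.trans hXZ.le, ?_⟩
      intro b hb v hv
      have h2 : b • v = (b • v - v) + v := by abel
      rw [h2]
      exact add_mem (hXZ.le (hv b hb)) hv
    have h2 := hmax Z h1
    exact hXZ.ne (AddSubgroup.eq_of_le_of_card_ge hXZ.le h2)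
  refine ⟨X, hX1, hX2, ?_⟩
  intro b hb v
  have : v ∈ Z := by rw [hZ]; trivial
  exact this b hb

end subquot

end CfsgLib.LE11PGV
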