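import Mathlib

set_option autoImplicit false

/-! Subgroups `A₄` of `GL₂(ℤ/2ᵏ)` (helper10). -/

namespace CfsgLib.LEA4

open Matrix Subgroup

section zm

variable {k : ℕ}

theorem unit_of_odd (hk : k ≠ 0) (a : ZMod (2 ^ k)) (h : ZMod.castHom (dvd_pow_self 2 hk) (ZMod 2) a = 1) : IsUnit a := by
  haveI : NeZero (2 ^ k) := ⟨by positivity⟩
  obtain ⟨n, rfl⟩ := ZMod.natCast_zmod_surjective a
  rw [ZMod.isUnit_iff_coprime]
  rw [map_natCast] at h
  have h1 : n % 2 = 1 := by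
    have h2 : ((n : ℕ) : ZMod 2) = ((1 : ℕ) : ZMod 2) := by rw [h]; simp
    have := (ZMod.natCast_eq_natCast_iff' _ _ _).1 h2
    simpa using this
  apply Nat.Coprime.pow_right
  rw [Nat.coprime_two_right]
  exact Nat.odd_iff.2 h1

theorem half (hk : 2 ≤ k) (b : ZMod (2 ^ k)) (h : 2 * b = 0) : b = 0 ∨ b = ((2 ^ (k - 1) : ℕ) : ZMod (2 ^ k)) := by
  haveI : NeZero (2 ^ k) := ⟨by positivity⟩
  obtain ⟨n, hn, rfl⟩ : ∃ n : ℕ, n < 2 ^ k ∧ ((n : ℕ) : ZMod (2 ^ k)) = b :=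
    ⟨b.val, b.val_lt, ZMod.natCast_zmod_val b⟩
  have h1 : ((2 * n : ℕ) : ZMod (2 ^ k)) = 0 := by push_cast; exact h
  rw [ZMod.natCast_eq_zero_iff] at h1
  obtain ⟨m, hm⟩ := h1
  have h2 : 2 ^ k = 2 * 2 ^ (k - 1) := by
    rw [← pow_succ']; congr 1; omega
  have h3 : n = 2 ^ (k - 1) * m := by
    rw [h2, mul_assoc] at hm; exact Nat.eq_of_mul_eq_mul_left (by norm_num) hm
  have h4 : m < 2 := by
    by_contra h5
    push Not at h5
    have : 2 ^ (k - 1) * 2 ≤ n := by rw [h3]; exact Nat.mul_le_mul_left _ h5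
    omega
  interval_cases m
  · left; rw [h3]; simp
  · right; rw [h3, mul_one]

end zm

theorem dec1 : ∀ M : Matrix (Fin 2) (Fin 2) (ZMod 2), M * M * M = 1 → M ≠ 1 → M 1 0 = 1 ∧ (M - 1).det = 1 := by
  decide

theorem a4_facts : ∃ x v : ↥(alternatingGroup (Fin 4)), x * x * x = 1 ∧ x ≠ 1 ∧ v * v = 1 ∧ v ≠ 1 ∧
    v * (x * v * x⁻¹) = x⁻¹ * v * x ∧
    ∀ g : ↥(alternatingGroup (Fin 4)), ∃ i : Fin 3, ∃ a : Fin 2, ∃ b : Fin 2,
      g = x ^ (i : ℕ) * v ^ (a : ℕ) * (x * v * x⁻¹) ^ (b : ℕ) := by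
  refine ⟨⟨Equiv.swap 0 1 * Equiv.swap 1 2, Equiv.Perm.mem_alternatingGroup.2 (by decide)⟩,
    ⟨Equiv.swap 0 1 * Equiv.swap 2 3, Equiv.Perm.mem_alternatingGroup.2 (by decide)⟩, ?_⟩
  decide

def ωm (R : Type*) [CommRing R] : Matrix (Fin 2) (Fin 2) R := !![0, -1; 1, -1]

def Mb {R : Type*} [CommRing R] (b0 b1 : R) : Matrix (Fin 2) (Fin 2) R := !![1 - b1, b0; b0 - b1, 1 + b1]

theorem ωm_cube (R : Type*) [CommRing R] : ωm R * ωm R * ωm R = 1 := by
  ext i j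
  fin_cases i <;> fin_cases j <;> simp [ωm, Matrix.mul_apply, Fin.sum_univ_two]

theorem lem1 {k : ℕ} (hk : 2 ≤ k) (X : Matrix (Fin 2) (Fin 2) (ZMod (2 ^ k))) (h3 : X * X * X = 1) (h1 : X ≠ 1) :
    IsUnit (X 1 0) ∧ X * X + X + 1 = 0 := by
  have hk0 : k ≠ 0 := by omega
  set π := ZMod.castHom (dvd_pow_self 2 hk0) (ZMod 2) with hπ
  have hd : ∀ M : Matrix (Fin 2) (Fin 2) (ZMod (2 ^ k)), π M.det = (M.map π).det := by
    intro M
    rw [← RingHom.mapMatrix_apply, ← RingHom.map_det]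
  have hm : ∀ M N : Matrix (Fin 2) (Fin 2) (ZMod (2 ^ k)), (M * N).map π = M.map π * N.map π := fun M N => Matrix.map_mul
  have ho : (1 : Matrix (Fin 2) (Fin 2) (ZMod (2 ^ k))).map π = 1 := by simp
  have hprod : (X * X + X + 1) * (X - 1) = 0 := by
    have : (X * X + X + 1) * (X - 1) = X * X * X - 1 := by noncomm_ring
    rw [this, h3, sub_self]
  have hprod' : (X - 1) * (X * X + X + 1) = 0 := by
    have : (X - 1) * (X * X + X + 1) = X * X * X - 1 := by noncomm_ring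
    rw [this, h3, sub_self]
  by_cases hX : X.map π = 1
  · exfalso
    apply h1
    have h4 : π (X * X + X + 1).det = 1 := by
      rw [hd, Matrix.map_add _ (map_add π), Matrix.map_add _ (map_add π), hm, hX, ho]
      decide
    have h5 := unit_of_odd hk0 _ h4
    have h6 : IsUnit (X * X + X + 1) := (Matrix.isUnit_iff_isUnit_det _).2 h5
    have h7 := (h6.mul_left_eq_zero).1 hprod'
    exact sub_eq_zero.1 h7
  · have h4 := dec1 (X.map π) (by rw [← hm, ← hm, h3, ho]) hX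
    refine ⟨unit_of_odd hk0 _ h4.1, ?_⟩
    have h5 : π (X - 1).det = 1 := by
      rw [hd, Matrix.map_sub _ (map_sub π), ho]; exact h4.2
    have h6 : IsUnit (X - 1) := (Matrix.isUnit_iff_isUnit_det _).2 (unit_of_odd hk0 _ h5)
    exact (h6.mul_left_eq_zero).1 hprod

theorem lem3 {k : ℕ} (hk : 2 ≤ k) (V : Matrix (Fin 2) (Fin 2) (ZMod (2 ^ k))) (h2 : V * V = 1)
    (hr : V * (ωm _ * V * (ωm _ * ωm _)) = ωm _ * ωm _ * V * ωm _) :
    ∃ b0 b1 : ZMod (2 ^ k), 2 * b0 = 0 ∧ 2 * b1 = 0 ∧ V = Mb b0 b1 := by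
  have hk0 : k ≠ 0 := by omega
  obtain ⟨u, hu⟩ := unit_of_odd hk0 (3 : ZMod (2 ^ k)) (by
    rw [map_ofNat]; decide)
  have hu3 : (3 : ZMod (2 ^ k)) * ((u⁻¹ : (ZMod (2 ^ k))ˣ) : ZMod (2 ^ k)) = 1 := by rw [← hu]; exact u.mul_inv
  have h3z : ∀ x : ZMod (2 ^ k), 3 * x = 0 → x = 0 := by
    intro x hx
    rw [← hu] at hx
    exact (u.mul_right_eq_zero).1 hx
  set w := ((u⁻¹ : (ZMod (2 ^ k))ˣ) : ZMod (2 ^ k)) with hw
  obtain ⟨a0, a1, b0, b1, e00, e01, e10, e11⟩ : ∃ a0 a1 b0 b1 : ZMod (2 ^ k), V 0 0 = a0 - b1 ∧ V 0 1 = -a1 + b0 ∧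
      V 1 0 = a1 + b0 - b1 ∧ V 1 1 = a0 - a1 + b1 := by
    refine ⟨V 0 0 + w * (2 * (V 1 1 - V 0 0) + (V 1 0 - V 0 1)), w * ((V 1 1 - V 0 0) + 2 * (V 1 0 - V 0 1)),
      V 0 1 + w * ((V 1 1 - V 0 0) + 2 * (V 1 0 - V 0 1)), w * (2 * (V 1 1 - V 0 0) + (V 1 0 - V 0 1)), ?_, ?_, ?_, ?_⟩
    · ring
    · ring
    · linear_combination (-(V 1 0 - V 0 1)) * hu3
    · linear_combination (-(V 1 1 - V 0 0)) * hu3
  have hV : V = !![a0 - b1, -a1 + b0; a1 + b0 - b1, a0 - a1 + b1] := by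
    ext i j
    fin_cases i <;> fin_cases j
    · exact e00
    · exact e01
    · exact e10
    · exact e11
  have f00 := congrFun (congrFun h2 0) 0
  have f01 := congrFun (congrFun h2 0) 1
  have f10 := congrFun (congrFun h2 1) 0
  have f11 := congrFun (congrFun h2 1) 1
  have g00 := congrFun (congrFun hr 0) 0
  have g01 := congrFun (congrFun hr 0) 1
  have g10 := congrFun (congrFun hr 1) 0
  have g11 := congrFun (congrFun hr 1) 1
  rw [hV] at f00 f01 f10 f11 g00 g01 g10 g11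
  simp [ωm, Matrix.mul_apply, Fin.sum_univ_two] at f00 f01 f10 f11 g00 g01 g10 g11
  have hc1 : 2 * a0 * a1 - a1 ^ 2 = 0 := h3z _ (by linear_combination 2 * f10 - 2 * f01 + f11 - f00)
  have hd0 : b0 * (2 * a0 - a1) = 0 := by linear_combination f01 + hc1
  have hd1 : b1 * (2 * a0 - a1) = 0 := by linear_combination -f10 + hc1 + hd0
  have hc0 : a0 ^ 2 - a1 ^ 2 + (b0 ^ 2 - b0 * b1 + b1 ^ 2) = 1 := by linear_combination f00 + hd1
  have hE1 : 2 * a0 * a1 - a1 ^ 2 + (b0 ^ 2 - b0 * b1 + b1 ^ 2) - a1 = 0 :=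
    h3z _ (by linear_combination 2 * g10 - 2 * g01 + g11 - g00)
  have hE0 : a0 ^ 2 - a1 ^ 2 - a0 = 0 := by linear_combination g00 - g10 + g01 + 2 * hE1
  have ha0 : a0 = 1 - a1 := by linear_combination hc0 - hE0 - hE1 + hc1
  have ha1 : a1 = 0 := by
    rw [ha0] at hE0
    linear_combination -hE0
  rw [ha1, sub_zero] at ha0
  rw [ha0, ha1] at hd0 hd1
  refine ⟨b0, b1, by linear_combination hd0, by linear_combination hd1, ?_⟩
  rw [hV, ha0, ha1, Mb]
  simp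

/-- conjugation by `ω` -/
theorem conj_ω {R : Type*} [CommRing R] (b0 b1 : R) (h0 : 2 * b0 = 0) (h1 : 2 * b1 = 0) :
    ωm R * Mb b0 b1 * (ωm R * ωm R) = Mb (b0 + b1) b0 := by
  ext i j
  fin_cases i <;> fin_cases j <;> simp [ωm, Mb, Matrix.mul_apply, Fin.sum_univ_two]
  · linear_combination h0
  · linear_combination (-1 : R) * h0
  · ring
  · linear_combination (-1 : R) * h0

theorem gl_ext {R : Type*} [CommRing R] {a b : GL (Fin 2) R} (h : (a : Matrix (Fin 2) (Fin 2) R) = b) : a = b :=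
  Units.ext h

/-- the standard element of order three -/
def Ωg (R : Type*) [CommRing R] : GL (Fin 2) R :=
  ⟨ωm R, ωm R * ωm R, by rw [← mul_assoc]; exact ωm_cube R, ωm_cube R⟩

theorem Ωg_inv (R : Type*) [CommRing R] : (((Ωg R)⁻¹ : GL (Fin 2) R) : Matrix (Fin 2) (Fin 2) R) = ωm R * ωm R := rfl

theorem Ωg_val (R : Type*) [CommRing R] : ((Ωg R : GL (Fin 2) R) : Matrix (Fin 2) (Fin 2) R) = ωm R := rfl

theorem Mb_sq {R : Type*} [CommRing R] (b : R) (h : 2 * b = 0) (h2 : b * b = 0) : Mb b 0 * Mb b 0 = 1 := by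
  ext i j
  fin_cases i <;> fin_cases j <;> simp [Mb, Matrix.mul_apply, Fin.sum_univ_two]
  · exact h2
  · linear_combination h
  · linear_combination h
  · exact h2

theorem h_facts {k : ℕ} (hk : 2 ≤ k) : 2 * ((2 ^ (k - 1) : ℕ) : ZMod (2 ^ k)) = 0 ∧
    ((2 ^ (k - 1) : ℕ) : ZMod (2 ^ k)) * ((2 ^ (k - 1) : ℕ) : ZMod (2 ^ k)) = 0 := by
  constructor
  · have h1 : ((2 * 2 ^ (k - 1) : ℕ) : ZMod (2 ^ k)) = 0 := by
      rw [ZMod.natCast_eq_zero_iff, ← pow_succ']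
      exact pow_dvd_pow _ (by omega)
    push_cast at h1 ⊢; exact h1
  · rw [← Nat.cast_mul, ZMod.natCast_eq_zero_iff, ← pow_add]
    exact pow_dvd_pow _ (by omega)

theorem normal_form {k : ℕ} (hk : 2 ≤ k) (T : GL (Fin 2) (ZMod (2 ^ k)))
    (hT : (T : Matrix (Fin 2) (Fin 2) (ZMod (2 ^ k))) = Mb ((2 ^ (k - 1) : ℕ) : ZMod (2 ^ k)) 0)
    (H : Subgroup (GL (Fin 2) (ZMod (2 ^ k)))) (hH : Nonempty (↥H ≃* ↥(alternatingGroup (Fin 4)))) :
    ∃ g : GL (Fin 2) (ZMod (2 ^ k)), H.map (MulAut.conj g).toMonoidHom = Subgroup.closure {Ωg _, T} := by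
  obtain ⟨e⟩ := hH
  obtain ⟨x, v, hx3, hx1, hv2, hv1, hxv, hgen⟩ := a4_facts
  set X : GL (Fin 2) (ZMod (2 ^ k)) := ((e.symm x : ↥H) : GL (Fin 2) (ZMod (2 ^ k))) with hX
  set V : GL (Fin 2) (ZMod (2 ^ k)) := ((e.symm v : ↥H) : GL (Fin 2) (ZMod (2 ^ k))) with hV
  have hXH : X ∈ H := Subtype.mem _
  have hVH : V ∈ H := Subtype.mem _
  have hX3 : X * X * X = 1 := by
    have h1 : e.symm x * e.symm x * e.symm x = 1 := by rw [← map_mul, ← map_mul, hx3, map_one]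
    exact congrArg Subtype.val h1
  have hX1 : X ≠ 1 := by
    intro h
    apply hx1
    have h1 : e.symm x = 1 := Subtype.ext h
    exact (MulEquiv.map_eq_one_iff e.symm).1 h1
  have hV2 : V * V = 1 := by
    have h1 : e.symm v * e.symm v = 1 := by rw [← map_mul, hv2, map_one]
    exact congrArg Subtype.val h1
  have hV1 : V ≠ 1 := by
    intro h
    apply hv1
    have h1 : e.symm v = 1 := Subtype.ext h
    exact (MulEquiv.map_eq_one_iff e.symm).1 h1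
  have hXV : V * (X * V * X⁻¹) = X⁻¹ * V * X := by
    have h1 : e.symm v * (e.symm x * e.symm v * (e.symm x)⁻¹) = (e.symm x)⁻¹ * e.symm v * e.symm x := by
      rw [← map_inv, ← map_mul, ← map_mul, ← map_mul, ← map_mul, ← map_mul, hxv]
    exact congrArg Subtype.val h1
  have hHcl : H = Subgroup.closure {X, V} := by
    apply le_antisymm
    · intro h hh
      obtain ⟨i, a, b, hg⟩ := hgen (e ⟨h, hh⟩)
      have h1 : (⟨h, hh⟩ : ↥H) = (e.symm x) ^ (i : ℕ) * (e.symm v) ^ (a : ℕ) * (e.symm x * e.symm v * (e.symm x)⁻¹) ^ (b : ℕ) := by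
        apply e.injective
        simp only [map_mul, map_pow, map_inv, e.apply_symm_apply]
        exact hg
      have h2 : h = X ^ (i : ℕ) * V ^ (a : ℕ) * (X * V * X⁻¹) ^ (b : ℕ) := congrArg Subtype.val h1
      rw [h2]
      have hXc : X ∈ Subgroup.closure {X, V} := Subgroup.subset_closure (by simp)
      have hVc : V ∈ Subgroup.closure {X, V} := Subgroup.subset_closure (by simp)
      exact Subgroup.mul_mem _ (Subgroup.mul_mem _ (Subgroup.pow_mem _ hXc _) (Subgroup.pow_mem _ hVc _))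
        (Subgroup.pow_mem _ (Subgroup.mul_mem _ (Subgroup.mul_mem _ hXc hVc) (Subgroup.inv_mem _ hXc)) _)
    · rw [Subgroup.closure_le]
      intro y hy
      rcases hy with rfl | hy
      · exact hXH
      · rw [Set.mem_singleton_iff] at hy; rw [hy]; exact hVH
  -- normalize `X`
  obtain ⟨hu, hquad⟩ := lem1 hk (X : Matrix (Fin 2) (Fin 2) (ZMod (2 ^ k)))
    (congrArg Units.val hX3) (fun h => hX1 (gl_ext h))
  set G0 : Matrix (Fin 2) (Fin 2) (ZMod (2 ^ k)) := !![1, X.1 0 0; 0, X.1 1 0] with hG0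
  have hdet : IsUnit G0.det := by
    rw [hG0, Matrix.det_fin_two_of, one_mul, mul_zero, sub_zero]; exact hu
  let g₀ : GL (Fin 2) (ZMod (2 ^ k)) := Matrix.GeneralLinearGroup.mk'' G0 hdet
  have hg₀ : (g₀ : Matrix (Fin 2) (Fin 2) (ZMod (2 ^ k))) = G0 := rfl
  have hXg : X * g₀ = g₀ * Ωg _ := by
    apply gl_ext
    rw [Units.val_mul, Units.val_mul, hg₀, Ωg_val]
    have q00 := congrFun (congrFun hquad 0) 0
    have q10 := congrFun (congrFun hquad 1) 0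
    simp [Matrix.mul_apply, Fin.sum_univ_two] at q00 q10
    ext i j
    fin_cases i <;> fin_cases j <;> simp [hG0, ωm, Matrix.mul_apply, Fin.sum_univ_two]
    · linear_combination q00
    · linear_combination q10
  set g := g₀⁻¹ with hg
  have hXΩ : g * X * g⁻¹ = Ωg _ := by
    rw [hg, inv_inv, mul_assoc, hXg]; group
  set V' := g * V * g⁻¹ with hV'
  have hV'2 : V' * V' = 1 := by
    have : V' * V' = g * (V * V) * g⁻¹ := by rw [hV']; group
    rw [this, hV2]; group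
  have hV'1 : V' ≠ 1 := by
    intro h
    apply hV1
    have : V = g⁻¹ * V' * g := by rw [hV']; group
    rw [this, h]; group
  have hrel : V' * (Ωg _ * V' * (Ωg _)⁻¹) = (Ωg _)⁻¹ * V' * Ωg _ := by
    rw [← hXΩ, hV']
    have : g * V * g⁻¹ * (g * X * g⁻¹ * (g * V * g⁻¹) * (g * X * g⁻¹)⁻¹) = g * (V * (X * V * X⁻¹)) * g⁻¹ := by group
    rw [this, hXV]; group
  obtain ⟨b0, b1, hb0, hb1, hVM⟩ := lem3 hk (V' : Matrix (Fin 2) (Fin 2) (ZMod (2 ^ k))) (congrArg Units.val hV'2) (by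
    have h1 := congrArg Units.val hrel
    rw [Units.val_mul, Units.val_mul, Units.val_mul, Units.val_mul, Units.val_mul, Ωg_inv, Ωg_val] at h1
    exact h1)
  obtain ⟨hh1, hh2⟩ := h_facts hk
  refine ⟨g, ?_⟩
  have hmap : H.map (MulAut.conj g).toMonoidHom = Subgroup.closure {Ωg _, V'} := by
    rw [hHcl, MonoidHom.map_closure]
    congr 1
    rw [Set.image_pair]
    show {g * X * g⁻¹, g * V * g⁻¹} = _
    rw [hXΩ]
  rw [hmap]
  -- conjugation of `V'` by `Ω`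
  have hconj : ∀ (W : GL (Fin 2) (ZMod (2 ^ k))) (c0 c1 : ZMod (2 ^ k)), 2 * c0 = 0 → 2 * c1 = 0 →
      (W : Matrix (Fin 2) (Fin 2) (ZMod (2 ^ k))) = Mb c0 c1 →
      ((Ωg _ * W * (Ωg _)⁻¹ : GL (Fin 2) (ZMod (2 ^ k))) : Matrix (Fin 2) (Fin 2) (ZMod (2 ^ k))) = Mb (c0 + c1) c0 := by
    intro W c0 c1 h0 h1 hW
    rw [Units.val_mul, Units.val_mul, Ωg_inv, Ωg_val, hW]
    exact conj_ω c0 c1 h0 h1
  have hcl : ∀ W : GL (Fin 2) (ZMod (2 ^ k)), Subgroup.closure {Ωg _, Ωg _ * W * (Ωg _)⁻¹} = Subgroup.closure {Ωg _, W} := by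
    intro W
    apply le_antisymm
    · rw [Subgroup.closure_le]
      have h1 : Ωg _ ∈ Subgroup.closure {Ωg _, W} := Subgroup.subset_closure (by simp)
      have h2 : W ∈ Subgroup.closure {Ωg _, W} := Subgroup.subset_closure (by simp)
      intro y hy
      rcases hy with rfl | hy
      · exact h1
      · rw [Set.mem_singleton_iff] at hy; rw [hy]
        exact Subgroup.mul_mem _ (Subgroup.mul_mem _ h1 h2) (Subgroup.inv_mem _ h1)
    · rw [Subgroup.closure_le]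
      have h1 : Ωg _ ∈ Subgroup.closure {Ωg _, Ωg _ * W * (Ωg _)⁻¹} := Subgroup.subset_closure (by simp)
      have h2 : Ωg _ * W * (Ωg _)⁻¹ ∈ Subgroup.closure {Ωg _, Ωg _ * W * (Ωg _)⁻¹} := Subgroup.subset_closure (by simp)
      intro y hy
      rcases hy with rfl | hy
      · exact h1
      · rw [Set.mem_singleton_iff] at hy; rw [hy]
        have h3 := Subgroup.mul_mem _ (Subgroup.mul_mem _ (Subgroup.inv_mem _ h1) h2) h1
        have h4 : (Ωg _)⁻¹ * (Ωg _ * W * (Ωg _)⁻¹) * Ωg _ = W := by group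
        rwa [h4] at h3
  rcases half hk b0 hb0 with h0 | h0 <;> rcases half hk b1 hb1 with h1 | h1
  · exfalso
    apply hV'1
    apply gl_ext
    rw [hVM, h0, h1]
    ext i j
    fin_cases i <;> fin_cases j <;> simp [Mb]
  · have h2 := hconj V' b0 b1 hb0 hb1 hVM
    rw [h0, h1, zero_add] at h2
    have h3 : Ωg _ * V' * (Ωg _)⁻¹ = T := gl_ext (by rw [h2, hT])
    rw [← hcl V', h3]
  · have h3 : V' = T := gl_ext (by rw [hVM, hT, h0, h1])
    rw [h3]
  · have h2 := hconj V' b0 b1 hb0 hb1 hVM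
    have h4 : b0 + b1 = 0 := by rw [h0, h1]; linear_combination hh1
    rw [h4] at h2
    have h5 := hconj _ _ _ (by ring) hb0 h2
    rw [zero_add, h0] at h5
    have h3 : Ωg _ * (Ωg _ * V' * (Ωg _)⁻¹) * (Ωg _)⁻¹ = T := gl_ext (by rw [h5, hT])
    rw [← hcl V', ← hcl (Ωg _ * V' * (Ωg _)⁻¹), h3]

end CfsgLib.LEA4
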