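import Cfsg.Agent.LibLEM3
import Cfsg.Agent.LibComp3
import Cfsg.Agent.LibCores
import Cfsg.Agent.LibPQ4

set_option autoImplicit false

/-! Groups with `O_p(H) = 1` and `p`-subgroups acting on `F*(H)` (helper10). -/

open Cfsg Subgroup
open scoped Pointwise

namespace CfsgLib.LE

variable {G : Type*} [Group G] {p : ℕ}

theorem eq_bot_of_le_centralizer_gF [Finite G] (hO : pCore p G = ⊥) {Y : Subgroup G}
    (hY : IsPGroup p ↥Y) (h : Y ≤ centralizer (generalizedFittingSubgroup G : Set G)) : Y = ⊥ := by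
  set F := generalizedFittingSubgroup G with hF
  have h1 : Y ≤ F := h.trans CfsgLib.Comp.centralizer_gfitting_le
  set Z := F ⊓ centralizer (F : Set G) with hZ
  have hFn : F.Normal := inferInstance
  have hZn : Z.Normal := by
    have : (⊤ : Subgroup G) ≤ normalizer (Z : Set G) :=
      le_normalizer_inf (by rw [Subgroup.normalizer_eq_top]) (le_normalizer_centralizer (by rw [Subgroup.normalizer_eq_top]))
    exact Subgroup.normalizer_eq_top_iff.1 (top_le_iff.1 this)
  have h2 : Y ≤ Z := le_inf h1 h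
  have h3 : (Y.subgroupOf Z).Normal := by
    apply subgroupOf_normal_of_le_normalizer
    refine le_trans ?_ (Subgroup.centralizer_le_normalizer _)
    rw [Subgroup.le_centralizer_iff]
    exact h.trans (Subgroup.centralizer_le inf_le_left)
  have h4 : Y.IsSubnormal := h3.isSubnormal.trans h2 hZn.isSubnormal
  have h5 := le_pCore_of_isSubnormal h4 hY
  rw [hO] at h5
  exact le_bot_iff.1 h5

theorem coprime_card_fitting [Finite G] [hp : Fact p.Prime] (hO : pCore p G = ⊥) :
    (Nat.card ↥(fittingSubgroup G)).Coprime p := by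
  have h1 := CfsgLib.Cores.not_dvd_relIndex_pCore_of_normal_nilpotent hp.out (fittingSubgroup G)
    CfsgLib.Cores.fittingSubgroup_isNilpotent
  rw [hO, Subgroup.relIndex_bot_left] at h1
  exact (Nat.Coprime.symm ((Nat.Prime.coprime_iff_not_dvd hp.out).2 h1))

theorem three_subgroups {A B C : Subgroup G} (h1 : ⁅⁅B, C⁆, A⁆ = ⊥) (h2 : ⁅⁅C, A⁆, B⁆ = ⊥) :
    ⁅⁅A, B⁆, C⁆ = ⊥ := Subgroup.commutator_commutator_eq_bot_of_rotate h1 h2

/-- The splitting `L = [L,Y] C_L(Y)` for `L = F(L) E(L)` with `F(L)` a `p'`-group and `Y` a `p`-group. -/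
theorem gF_split [Finite G] [hp : Fact p.Prime] {L Y : Subgroup G} (hL : fittingSubgroup ↥L ⊔ layer ↥L = ⊤)
    (hcop : (Nat.card ↥(fittingSubgroup ↥L)).Coprime p) (hY : IsPGroup p ↥Y) (hYL : Y ≤ normalizer (L : Set G)) :
    ⁅L, Y⁆ ⊔ (L ⊓ centralizer (Y : Set G)) = L := by
  set F := (fittingSubgroup ↥L).map L.subtype with hF
  set E := (layer ↥L).map L.subtype with hE
  have hFE : F ⊔ E = L := by
    rw [hF, hE, ← Subgroup.map_sup, hL, ← MonoidHom.range_eq_map, Subgroup.range_subtype]
  have hYF : Y ≤ normalizer (F : Set G) :=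
    hYL.trans (normalizer_le_normalizer_map_of_characteristic (fittingSubgroup ↥L) inferInstance)
  have hYE : Y ≤ normalizer (E : Set G) :=
    hYL.trans (normalizer_le_normalizer_map_of_characteristic (layer ↥L) inferInstance)
  have hFc : (Nat.card ↥F).Coprime p := by
    rw [hF, Subgroup.card_map_of_injective L.subtype_injective]; exact hcop
  have hcop' : (Nat.card ↥Y).Coprime (Nat.card ↥F) := by
    obtain ⟨k, hk⟩ := IsPGroup.iff_card.1 hY
    rw [hk]
    exact Nat.Coprime.pow_left k hFc.symm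
  have hYs : Group.IsSolvable ↥Y := by
    have : Group.IsNilpotent ↥Y := hY.isNilpotent
    infer_instance
  have h1 := CfsgLib.Coprime.commutator_sup_centralizer hYF hcop' (Or.inl hYs)
  -- the layer part
  have h2 : ⁅E, Y⁆ ⊔ (E ⊓ centralizer (Y : Set G)) = E := by
    set X := L ⊔ Y with hX
    have hLX : L ≤ X := le_sup_left
    have hYX : Y ≤ X := le_sup_right
    have hXL : X ≤ normalizer (L : Set G) := sup_le Subgroup.le_normalizer hYL
    have hn : (L.subgroupOf X).Normal := subgroupOf_normal_of_le_normalizer hXL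
    have hidx : ∃ k, (L.subgroupOf X).index ∣ p ^ k := by
      have h3 : L.relIndex X = L.relIndex Y := by
        rw [hX, sup_comm, relIndex_sup_of_le_normalizer hYL]
      obtain ⟨k, hk⟩ := IsPGroup.iff_card.1 hY
      refine ⟨k, ?_⟩
      have h4 : L.relIndex X ∣ p ^ k := by rw [h3, ← hk]; exact Subgroup.relIndex_dvd_card L Y
      exact h4
    obtain ⟨k, hk⟩ := hidx
    have h3 : layer ↥X ≤ L.subgroupOf X := CfsgLib.PQ4.layer_le_of_index (p := p) hk
    have h4 : (layer ↥X).map X.subtype = E := by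
      have h5 : (layer ↥(L.subgroupOf X)).map (L.subgroupOf X).subtype = layer ↥X := by
        rw [CfsgLib.Comp3.map_layer_of_subnormal hn.isSubnormal]
        apply le_antisymm
        · exact sSup_le fun K hK => CfsgLib.Comp.component_le_layer hK.1
        · exact sSup_le fun K hK => le_sSup ⟨hK, (CfsgLib.Comp.component_le_layer hK).trans h3⟩
      rw [← h5, hE, Subgroup.map_map]
      rw [← CfsgLib.Comp.map_layer_equiv (Subgroup.subgroupOfEquivOfLe hLX), Subgroup.map_map]
      rfl
    have h5 := (CfsgLib.Comp2.layer_eq_centralizer_sup (Y.subgroupOf X)).1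
    have h6 := congrArg (Subgroup.map X.subtype) h5
    rw [Subgroup.map_sup, Subgroup.map_commutator, h4, map_subtype_subgroupOf hYX,
      Subgroup.map_inf_eq _ _ _ X.subtype_injective, h4] at h6
    apply le_antisymm
    · exact sup_le (le_normalizer_iff_commutator_le_left.1 hYE) inf_le_left
    · conv_lhs => rw [h6]
      rw [sup_comm]
      apply sup_le_sup_left
      refine inf_le_inf_left _ ?_
      rintro _ ⟨x, hx, rfl⟩
      rw [SetLike.mem_coe, Subgroup.mem_centralizer_iff] at hx
      rw [Subgroup.mem_centralizer_iff]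
      intro y hy
      exact congrArg Subtype.val (hx ⟨y, hYX hy⟩ (Subgroup.mem_subgroupOf.2 hy))
  apply le_antisymm
  · exact sup_le (le_normalizer_iff_commutator_le_left.1 hYL) inf_le_left
  · have hFL : F ≤ L := le_sup_left.trans hFE.le
    have hEL : E ≤ L := le_sup_right.trans hFE.le
    rw [← hFE]
    conv_lhs => rw [← h1, ← h2]
    rw [hFE]
    refine sup_le (sup_le ?_ ?_) (sup_le ?_ ?_)
    · exact (Subgroup.commutator_mono hFL le_rfl).trans le_sup_left
    · exact (inf_le_inf_right _ hFL).trans le_sup_right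
    · exact (Subgroup.commutator_mono hEL le_rfl).trans le_sup_left
    · exact (inf_le_inf_right _ hEL).trans le_sup_right

/-- `L = [L,Y] C_L(Y)` implies `[L,Y] = [L,Y,Y]`. -/
theorem commutator_eq_of_split {L Y : Subgroup G} (hYL : Y ≤ normalizer (L : Set G))
    (h : ⁅L, Y⁆ ⊔ (L ⊓ centralizer (Y : Set G)) = L) : ⁅L, Y⁆ = ⁅⁅L, Y⁆, Y⁆ := by
  set C := L ⊓ centralizer (Y : Set G) with hC
  set D := ⁅L, Y⁆ with hD
  have hDL : D ≤ L := le_normalizer_iff_commutator_le_left.1 hYL
  have hCY : C ≤ normalizer (Y : Set G) := inf_le_right.trans (Subgroup.centralizer_le_normalizer _)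
  have hLD : L ≤ normalizer (D : Set G) := Subgroup.normalizer_commutator_ge_left _ _
  have hYD : Y ≤ normalizer (D : Set G) := Subgroup.normalizer_commutator_ge_right _ _
  have hC1 : C ≤ normalizer ((⁅D, Y⁆ : Subgroup G) : Set G) := le_normalizer_commutator (inf_le_left.trans hLD) hCY
  have hD1 : D ≤ normalizer ((⁅D, Y⁆ : Subgroup G) : Set G) := Subgroup.normalizer_commutator_ge_left _ _
  apply le_antisymm
  · have h1 : ⁅Y, D ⊔ C⁆ ≤ ⁅D, Y⁆ := by
      refine commutator_sup_le (by rw [Subgroup.commutator_comm]) ?_ hD1 hC1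
      rw [Subgroup.commutator_eq_bot_iff_le_centralizer.2]
      · exact bot_le
      · rw [Subgroup.le_centralizer_iff]; exact inf_le_right
    rw [h, Subgroup.commutator_comm] at h1
    exact h1
  · exact Subgroup.commutator_mono hDL le_rfl

/-- the structure of subnormal subgroups of `F*(H)`, in ambient form -/
theorem gF_subnormal_structure [Finite G] [hp : Fact p.Prime] {H L : Subgroup G} (hO : pCore p ↥H = ⊥)
    (hLF : L ≤ (generalizedFittingSubgroup ↥H).map H.subtype) (hsn : (L.subgroupOf H).IsSubnormal) :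
    fittingSubgroup ↥L ⊔ layer ↥L = ⊤ ∧ (Nat.card ↥(fittingSubgroup ↥L)).Coprime p := by
  have hLH : L ≤ H := hLF.trans (Subgroup.map_subtype_le _)
  set L' := L.subgroupOf H with hL'
  have h1 : L' ≤ generalizedFittingSubgroup ↥H := by
    intro x hx
    obtain ⟨y, hy, hyx⟩ := hLF (Subgroup.mem_subgroupOf.1 hx)
    rwa [← (Subtype.ext hyx : y = x)]
  obtain ⟨h2, h3⟩ := CfsgLib.Comp3.subnormal_of_gfitting L' h1 hsn.subgroupOf
  have e : ↥L' ≃* ↥L := Subgroup.subgroupOfEquivOfLe hLH
  constructor
  · have h4 := congrArg (Subgroup.map e.toMonoidHom) h3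
    rw [Subgroup.map_sup, CfsgLib.Cores.map_fittingSubgroup_equiv, CfsgLib.Comp.map_layer_equiv,
      Subgroup.map_top_of_surjective _ e.surjective] at h4
    exact h4
  · have h4 : Nat.card ↥(fittingSubgroup ↥L) = Nat.card ↥(fittingSubgroup ↥L') := by
      rw [← CfsgLib.Cores.map_fittingSubgroup_equiv e, Subgroup.card_map_of_injective e.injective]
    have h5 : Nat.card ↥(fittingSubgroup ↥L') ∣ Nat.card ↥(fittingSubgroup ↥H) := by
      rw [← Subgroup.card_map_of_injective L'.subtype_injective, h2]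
      exact Subgroup.card_dvd_of_le inf_le_left
    rw [h4]
    exact Nat.Coprime.coprime_dvd_left h5 (coprime_card_fitting hO)

end CfsgLib.LE
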