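import Cfsg.Agent.LibLEF

set_option autoImplicit false

/-! More on `p`-subgroups acting on `F*(H)` (helper10). -/

open Cfsg Subgroup
open scoped Pointwise

namespace CfsgLib.LE

variable {G : Type*} [Group G] {p : ℕ}

theorem gF_map_top : (generalizedFittingSubgroup ↥(⊤ : Subgroup G)).map (⊤ : Subgroup G).subtype =
    generalizedFittingSubgroup G := by
  have := CfsgLib.Comp.map_gfitting_equiv (G := ↥(⊤ : Subgroup G)) Subgroup.topEquiv
  exact this

theorem pCore_top_eq_bot (hO : pCore p G = ⊥) : pCore p ↥(⊤ : Subgroup G) = ⊥ :=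
  pCore_eq_bot_of_equiv (Subgroup.topEquiv (G := G)).symm hO

/-- type-level version of the splitting. -/
theorem gF_split_top [Finite G] [hp : Fact p.Prime] (hO : pCore p G = ⊥) {L Y : Subgroup G}
    (hLF : L ≤ generalizedFittingSubgroup G) (hsn : L.IsSubnormal) (hY : IsPGroup p ↥Y)
    (hYL : Y ≤ normalizer (L : Set G)) : ⁅L, Y⁆ ⊔ (L ⊓ centralizer (Y : Set G)) = L := by
  obtain ⟨h1, h2⟩ := gF_subnormal_structure (pCore_top_eq_bot hO) (L := L) (by rw [gF_map_top]; exact hLF)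
    hsn.subgroupOf
  exact gF_split h1 h2 hY hYL

theorem gF_comm_comm [Finite G] [hp : Fact p.Prime] (hO : pCore p G = ⊥) {L Y : Subgroup G}
    (hLF : L ≤ generalizedFittingSubgroup G) (hsn : L.IsSubnormal) (hY : IsPGroup p ↥Y)
    (hYL : Y ≤ normalizer (L : Set G)) : ⁅L, Y⁆ = ⁅⁅L, Y⁆, Y⁆ :=
  commutator_eq_of_split hYL (gF_split_top hO hLF hsn hY hYL)

theorem gF_subnormal : (generalizedFittingSubgroup G).IsSubnormal :=
  (inferInstance : (generalizedFittingSubgroup G).Normal).isSubnormal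

theorem le_normalizer_gF (Y : Subgroup G) : Y ≤ normalizer (generalizedFittingSubgroup G : Set G) := by
  rw [Subgroup.normalizer_eq_top]; exact le_top

/-- If `[F*, Y, Y₀] = 1` with `Y₀ ≤ Y` a `p`-group then `Y₀ = 1`. -/
theorem gF_eq_bot [Finite G] [hp : Fact p.Prime] (hO : pCore p G = ⊥) {Y Y₀ : Subgroup G}
    (hY : IsPGroup p ↥Y) (hle : Y₀ ≤ Y) (h : ⁅⁅generalizedFittingSubgroup G, Y⁆, Y₀⁆ = ⊥) : Y₀ = ⊥ := by
  have hY₀ : IsPGroup p ↥Y₀ := hY.to_le hle
  apply eq_bot_of_le_centralizer_gF hO hY₀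
  have h1 := gF_comm_comm hO le_rfl gF_subnormal hY₀ (le_normalizer_gF Y₀)
  have h2 : ⁅⁅generalizedFittingSubgroup G, Y₀⁆, Y₀⁆ ≤ ⊥ := by
    rw [← h]; exact Subgroup.commutator_mono (Subgroup.commutator_mono le_rfl hle) le_rfl
  rw [← h1, le_bot_iff] at h2
  rw [← Subgroup.commutator_eq_bot_iff_le_centralizer, Subgroup.commutator_comm]
  exact h2

/-- `[F*(H), Y] ≤ K` for subnormal `K ≥ Y`. -/
theorem gF_comm_le [Finite G] [hp : Fact p.Prime] (hO : pCore p G = ⊥) {Y K : Subgroup G}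
    (hY : IsPGroup p ↥Y) (hYK : Y ≤ K) (hK : K.IsSubnormal) : ⁅generalizedFittingSubgroup G, Y⁆ ≤ K := by
  have h1 := gF_comm_comm hO le_rfl gF_subnormal hY (le_normalizer_gF Y)
  induction hK with
  | top => exact le_top
  | step A B hAB hB hn ih =>
    have h2 := ih (hYK.trans hAB)
    rw [h1]
    have h3 : B ≤ normalizer (A : Set G) := le_normalizer_of_subgroupOf_normal hAB hn
    exact (Subgroup.commutator_mono h2 hYK).trans (le_normalizer_iff_commutator_le_right.1 h3)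

end CfsgLib.LE
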