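import Cfsg.Agent.LibLE19

set_option autoImplicit false

/-! The L-Lemma (helper10). -/

open Cfsg Subgroup
open scoped Pointwise

namespace CfsgLib.LE

variable {G : Type*} [Group G] {p : ℕ}

/-- Ambient form: `P` is minimal over its Sylow subgroup `R`, with `M` the unique maximal subgroup over `R`. -/
structure MinPar (p : ℕ) (P R M : Subgroup G) : Prop where
  syl : IsSyl p R P
  lt : M < P
  le : R ≤ M
  max : ∀ X : Subgroup G, R ≤ X → X < P → X ≤ M
  gen : ∀ K : Subgroup G, K ≤ P → P ≤ normalizer (K : Set G) → R ≤ K → K = P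

/-- The conclusion of the L-Lemma for a `p`-subgroup `A`. -/
def LConc (p : ℕ) (P M A : Subgroup G) : Prop :=
  ∃ L : Subgroup G, A ⊔ pCoreOf p P ≤ L ∧ L ≤ P ∧ ∃ L₀ : Subgroup G, A ⊔ pCoreOf p L ≤ L₀ ∧ L₀ < L ∧
    (∀ X : Subgroup G, A ⊔ pCoreOf p L ≤ X → X < L → X ≤ L₀) ∧
    (∃ g ∈ P, L₀ = L ⊓ M.map (MulAut.conj g).toMonoidHom) ∧
    ∀ x ∈ L, x ∉ L₀ → (A ⊔ A.map (MulAut.conj x).toMonoidHom) ⊔ pCoreOf p L = L

theorem LConc.conj {P M A : Subgroup G} {h : G} (hh : h ∈ P) (hc : LConc p P M (A.map (MulAut.conj h).toMonoidHom)) :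
    LConc p P M A := by
  obtain ⟨L, h1, h2, L₀, h3, h4, h5, ⟨g, hg, h6⟩, h7⟩ := hc
  have hPn : ∀ x ∈ P, P.map (MulAut.conj x).toMonoidHom = P := fun x hx =>
    mem_normalizer_iff_map_conj.1 (Subgroup.le_normalizer hx)
  have hcinv : ∀ B : Subgroup G, (B.map (MulAut.conj h).toMonoidHom).map (MulAut.conj h⁻¹).toMonoidHom = B := by
    intro B; rw [map_conj_mul, inv_mul_cancel, map_conj_one]
  have hcinv' : ∀ B : Subgroup G, (B.map (MulAut.conj h⁻¹).toMonoidHom).map (MulAut.conj h).toMonoidHom = B := by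
    intro B; rw [map_conj_mul, mul_inv_cancel, map_conj_one]
  have hO : (pCoreOf p P).map (MulAut.conj h⁻¹).toMonoidHom = pCoreOf p P := by
    rw [← pCoreOf_map_conj, hPn h⁻¹ (P.inv_mem hh)]
  refine ⟨L.map (MulAut.conj h⁻¹).toMonoidHom, ?_, ?_, L₀.map (MulAut.conj h⁻¹).toMonoidHom, ?_, ?_, ?_, ?_, ?_⟩
  · have := Subgroup.map_mono (f := (MulAut.conj h⁻¹).toMonoidHom) h1
    rwa [Subgroup.map_sup, hcinv, hO] at this
  · have := Subgroup.map_mono (f := (MulAut.conj h⁻¹).toMonoidHom) h2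
    rwa [hPn h⁻¹ (P.inv_mem hh)] at this
  · have := Subgroup.map_mono (f := (MulAut.conj h⁻¹).toMonoidHom) h3
    rwa [Subgroup.map_sup, hcinv, ← pCoreOf_map_conj] at this
  · exact (Subgroup.map_lt_map_iff_of_injective (f := (MulAut.conj h⁻¹).toMonoidHom) (MulAut.conj h⁻¹).injective).2 h4
  · intro X hX hXL
    have h8 := h5 (X.map (MulAut.conj h).toMonoidHom) (by
      have := Subgroup.map_mono (f := (MulAut.conj h).toMonoidHom) hX
      rwa [Subgroup.map_sup, ← pCoreOf_map_conj, hcinv'] at this) (by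
      have := (Subgroup.map_lt_map_iff_of_injective (f := (MulAut.conj h).toMonoidHom) (MulAut.conj h).injective).2 hXL
      rwa [hcinv'] at this)
    have := Subgroup.map_mono (f := (MulAut.conj h⁻¹).toMonoidHom) h8
    rwa [hcinv] at this
  · refine ⟨h⁻¹ * g, P.mul_mem (P.inv_mem hh) hg, ?_⟩
    rw [h6, Subgroup.map_inf_eq _ _ _ (MulAut.conj h⁻¹).injective, map_conj_mul]
  · intro x hx hx0
    rw [map_conj_mem, inv_inv] at hx hx0
    have h8 := h7 _ hx hx0
    have := congrArg (Subgroup.map (MulAut.conj h⁻¹).toMonoidHom) h8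
    rw [Subgroup.map_sup, Subgroup.map_sup, hcinv, ← pCoreOf_map_conj, map_conj_mul, map_conj_mul] at this
    have h9 : h⁻¹ * (h * x * h⁻¹) * h = x := by group
    rwa [h9] at this

theorem exists_minimal_above [Finite G] {R M X : Subgroup G} (hRX : R ≤ X) (hX : ¬ X ≤ M) :
    ∃ P : Subgroup G, R ≤ P ∧ P ≤ X ∧ ¬ P ≤ M ∧ ∀ K : Subgroup G, R ≤ K → K < P → K ≤ M := by
  obtain ⟨P, hP⟩ := (Set.toFinite {P : Subgroup G | R ≤ P ∧ P ≤ X ∧ ¬ P ≤ M}).exists_minimal ⟨X, hRX, le_rfl, hX⟩
  refine ⟨P, hP.1.1, hP.1.2.1, hP.1.2.2, fun K hK hKP => ?_⟩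
  by_contra hcon
  exact hKP.not_ge (hP.2 ⟨hK, hKP.le.trans hP.1.2.1, hcon⟩ hKP.le)

theorem l_lemma [Finite G] [hp : Fact p.Prime] : ∀ n : ℕ, ∀ P R M A : Subgroup G, Nat.card ↥P ≤ n → MinPar p P R M →
    A ≤ P → IsPGroup p ↥A → ¬ A ≤ pCoreOf p P → LConc p P M A := by
  intro n
  induction n with
  | zero =>
    intro P R M A hn
    have := Nat.card_pos (α := ↥P); omega
  | succ n ih =>
    intro H T M A hn hH hAH hAp hAO
    -- work with conjugates of `A` inside `M`
    by_contra hfail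
    set O := pCoreOf p H with hO
    have hHO : H ≤ normalizer (O : Set G) := le_normalizer_pCoreOf p H
    have hOp : IsPGroup p ↥O := pCoreOf_isPGroup p H
    have hOH : O ≤ H := pCoreOf_le p H
    have hOT : O ≤ T := hH.syl.pCoreOf_le
    have hMH : M ≤ H := hH.lt.le
    have hOM : O ≤ M := hOT.trans hH.le
    -- `M` is self-normalizing in `H`
    have hNM : H ⊓ normalizer (M : Set G) = M := by
      apply le_antisymm _ (le_inf hMH Subgroup.le_normalizer)
      by_contra hcon
      have h1 : ¬ (H ⊓ normalizer (M : Set G)) < H := fun h => hcon (hH.max _ (hH.le.trans (le_inf hMH Subgroup.le_normalizer)) h)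
      have h2 : H ⊓ normalizer (M : Set G) = H := by
        rcases eq_or_lt_of_le (inf_le_left : H ⊓ normalizer (M : Set G) ≤ H) with h | h
        · exact h
        · exact absurd h h1
      have h3 := hH.gen M hMH (h2.ge.trans inf_le_right) hH.le
      exact hH.lt.ne h3
    have hMsyl : IsSyl p T M := hH.syl.mono hH.le hMH
    -- any Sylow subgroup of `H` inside `M` is contained in the unique maximal subgroup `M`
    have huniq : ∀ S X : Subgroup G, IsSyl p S M → S ≤ X → X < H → X ≤ M := by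
      intro S X hS hSX hX
      obtain ⟨m, hm, h1⟩ := hS.conj_of_isSyl hMsyl
      have hmH := hMH hm
      have h2 : T ≤ X.map (MulAut.conj m).toMonoidHom := by rw [← h1]; exact Subgroup.map_mono hSX
      have h3 : X.map (MulAut.conj m).toMonoidHom < H := by
        have := (Subgroup.map_lt_map_iff_of_injective (f := (MulAut.conj m).toMonoidHom) (MulAut.conj m).injective).2 hX
        rwa [mem_normalizer_iff_map_conj.1 (Subgroup.le_normalizer hmH)] at this
      have h4 := hH.max _ h2 h3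
      have h5 := Subgroup.map_mono (f := (MulAut.conj m⁻¹).toMonoidHom) h4
      rwa [map_conj_mul, inv_mul_cancel, map_conj_one,
        mem_normalizer_iff_map_conj.1 (Subgroup.le_normalizer (M.inv_mem hm))] at h5
    -- the conclusion fails for all conjugates
    have hfail' : ∀ h ∈ H, ¬ LConc p H M (A.map (MulAut.conj h).toMonoidHom) := fun h hh hc => hfail (hc.conj hh)
    have hAO' : ∀ h ∈ H, ¬ A.map (MulAut.conj h).toMonoidHom ≤ O := by
      intro h hh hle
      apply hAO
      have h1 := Subgroup.map_mono (f := (MulAut.conj h⁻¹).toMonoidHom) hle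
      rwa [map_conj_mul, inv_mul_cancel, map_conj_one,
        mem_normalizer_iff_map_conj.1 (hHO (H.inv_mem hh))] at h1
    -- the set of relevant overgroups
    let 𝒳 : Set (Subgroup G) := {X | X < H ∧ ¬ X ≤ M ∧ ∃ h ∈ H, A.map (MulAut.conj h).toMonoidHom ⊔ O ≤ X ⊓ M}
    obtain ⟨a, haH, haT⟩ := hH.syl.exists_conj_le hAH hAp
    -- replace `A` by a conjugate in `T`
    have hne : 𝒳.Nonempty := by
      by_contra hcon
      rw [Set.not_nonempty_iff_eq_empty] at hcon
      set B := A.map (MulAut.conj a⁻¹).toMonoidHom with hB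
      have haH' : a⁻¹ ∈ H := H.inv_mem haH
      have hBT : B ≤ T := by
        have := Subgroup.map_mono (f := (MulAut.conj a⁻¹).toMonoidHom) haT
        rwa [map_conj_mul, inv_mul_cancel, map_conj_one] at this
      have hBM : B ≤ M := hBT.trans hH.le
      have hkey : ∀ X : Subgroup G, B ⊔ O ≤ X → X < H → X ≤ M := by
        intro X hX hXH
        by_contra hXM
        have : X ∈ 𝒳 := ⟨hXH, hXM, a⁻¹, haH', le_inf hX (sup_le hBM hOM)⟩
        rw [hcon] at this
        exact this
      apply hfail' a⁻¹ haH'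
      refine ⟨H, sup_le (hBM.trans hMH) hOH, le_rfl, M, sup_le hBM hOM, hH.lt, hkey, ⟨1, H.one_mem, ?_⟩, ?_⟩
      · rw [map_conj_one, inf_eq_right.2 hMH]
      · intro x hx hxM
        by_contra hcon2
        have hle : (B ⊔ B.map (MulAut.conj x).toMonoidHom) ⊔ O ≤ H :=
          sup_le (sup_le (hBM.trans hMH) (map_conj_le_of_mem (hBM.trans hMH) hx)) hOH
        have h1 := hkey _ (sup_le_sup_right le_sup_left O) (lt_of_le_of_ne hle hcon2)
        have h2 : B.map (MulAut.conj x).toMonoidHom ⊔ O ≤ M := (sup_le_sup_right le_sup_right O).trans h1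
        have hx' : x⁻¹ ∈ H := H.inv_mem hx
        have h3 : B ⊔ O ≤ M.map (MulAut.conj x⁻¹).toMonoidHom := by
          have := Subgroup.map_mono (f := (MulAut.conj x⁻¹).toMonoidHom) h2
          rwa [Subgroup.map_sup, map_conj_mul, inv_mul_cancel, map_conj_one,
            mem_normalizer_iff_map_conj.1 (hHO hx')] at this
        have h4 : M.map (MulAut.conj x⁻¹).toMonoidHom < H := by
          have := (Subgroup.map_lt_map_iff_of_injective (f := (MulAut.conj x⁻¹).toMonoidHom) (MulAut.conj x⁻¹).injective).2 hH.lt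
          rwa [mem_normalizer_iff_map_conj.1 (Subgroup.le_normalizer hx')] at this
        have h5 := hkey _ h3 h4
        have h6 : M.map (MulAut.conj x⁻¹).toMonoidHom = M := by
          apply Subgroup.eq_of_le_of_card_ge h5
          rw [card_map_conj]
        have h7 : x⁻¹ ∈ M := by
          rw [← hNM]; exact Subgroup.mem_inf.2 ⟨hx', mem_normalizer_iff_map_conj.2 h6⟩
        exact hxM (by simpa using M.inv_mem h7)
    -- choose `X` with the `p`-part of `X ∩ M` maximal
    let f : Subgroup G → ℕ := fun X => (Nat.card ↥(X ⊓ M)).factorization p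
    obtain ⟨X, hX𝒳, hXmax⟩ := Set.exists_max_image 𝒳 f (Set.toFinite _) hne
    obtain ⟨hXH, hXM, b, hbH, hbX⟩ := hX𝒳
    set B := A.map (MulAut.conj b).toMonoidHom with hB
    have hBp : IsPGroup p ↥B := isPGroup_map_conj hAp b
    have hBXM : B ≤ X ⊓ M := le_sup_left.trans hbX
    have hOXM : O ≤ X ⊓ M := le_sup_right.trans hbX
    obtain ⟨R, hR, hBR⟩ := exists_isSyl_of_le hBXM hBp
    have hOR : O ≤ R := hR.le_of_normal hOXM (inf_le_right.trans (hMH.trans hHO)) hOp
    have hBO : ¬ B ≤ O := hAO' b hbH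
    obtain ⟨T', hT', hRT'⟩ := exists_isSyl_of_le (hR.le.trans inf_le_right) hR.isPGroup
    have hcard : ∀ Y : Subgroup G, Y ∈ 𝒳 → ∀ V : Subgroup G, V ≤ Y ⊓ M → IsPGroup p ↥V → Nat.card ↥V ≤ Nat.card ↥R := by
      intro Y hY V hV hVp
      have h1 := hXmax Y hY
      obtain ⟨S, hS, hVS⟩ := exists_isSyl_of_le hV hVp
      have h2 : Nat.card ↥S ≤ Nat.card ↥R := by
        rw [hS.card_eq, hR.card_eq]
        exact Nat.pow_le_pow_right hp.out.pos h1
      exact (Subgroup.card_le_of_le hVS).trans h2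
    have hRlt : R < T' := by
      refine lt_of_le_of_ne hRT' ?_
      rintro rfl
      exact hXM (huniq R X hT' (hR.le.trans inf_le_left) hXH)
    set T₁ := T' ⊓ normalizer (R : Set G) with hT₁
    have hRT₁ : R < T₁ := lt_inf_normalizer_of_isPGroup hT'.isPGroup hRlt
    have hT₁M : T₁ ≤ M := inf_le_left.trans hT'.le
    have hT₁p : IsPGroup p ↥T₁ := hT'.isPGroup.to_le inf_le_left
    have hcardlt : Nat.card ↥R < Nat.card ↥T₁ := by
      apply lt_of_le_of_ne (Subgroup.card_le_of_le hRT₁.le)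
      intro h
      exact hRT₁.ne (Subgroup.eq_of_le_of_card_ge hRT₁.le h.ge)
    -- no member of `𝒳` contains `T₁`
    have hnoT₁ : ∀ Y : Subgroup G, Y < H → T₁ ≤ Y → Y ≤ M := by
      intro Y hY hTY
      by_contra hYM
      have hY𝒳 : Y ∈ 𝒳 := ⟨hY, hYM, b, hbH, sup_le (hBR.trans (hRT₁.le.trans (le_inf hTY hT₁M)))
        (hOR.trans (hRT₁.le.trans (le_inf hTY hT₁M)))⟩
      have := hcard Y hY𝒳 T₁ (le_inf hTY hT₁M) hT₁p
      omega
    -- normalizers of subgroups of `H` not in `O`
    have hnorm_lt : ∀ W : Subgroup G, W ≤ H → IsPGroup p ↥W → ¬ W ≤ O → H ⊓ normalizer (W : Set G) < H := by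
      intro W hWH hWp hWO
      refine lt_of_le_of_ne inf_le_left ?_
      intro h
      exact hWO (le_pCoreOf hWH (h.ge.trans inf_le_right) hWp)
    have hRH : R ≤ H := hR.le.trans (inf_le_right.trans hMH)
    have hNRM : H ⊓ normalizer (R : Set G) ≤ M := by
      apply hnoT₁ _ (hnorm_lt R hRH hR.isPGroup (fun h => hBO (hBR.trans h)))
      exact le_inf (hT₁M.trans hMH) inf_le_right
    have hRX : IsSyl p R X := by
      apply isSyl_of_max (hR.le.trans inf_le_left) hR.isPGroup
      intro Q hQX hQp hRQ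
      by_contra hne'
      have hlt : R < Q := lt_of_le_of_ne hRQ (Ne.symm hne')
      have h1 := lt_inf_normalizer_of_isPGroup hQp hlt
      have h2 : Q ⊓ normalizer (R : Set G) ≤ X ⊓ M :=
        le_inf (inf_le_left.trans hQX) ((inf_le_inf_right _ (hQX.trans hXH.le)).trans hNRM)
      have h3 := hR.eq_of_le' h2 (hQp.to_le inf_le_left) h1.le
      exact h1.ne h3.symm
    -- minimal subgroup over `R` not in `M`
    obtain ⟨P, hRP, hPX, hPM, hPmin⟩ := exists_minimal_above (M := M) (hRX.le) hXM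
    have hPH : P ≤ H := hPX.trans hXH.le
    have hRP' : IsSyl p R P := hRX.mono hRP hPX
    have hPMlt : P ⊓ M < P := lt_of_le_of_ne inf_le_left (fun h => hPM (h.ge.trans inf_le_right))
    have hMP : MinPar p P R (P ⊓ M) := by
      refine ⟨hRP', hPMlt, le_inf hRP (hR.le.trans inf_le_right), fun Y hRY hYP => le_inf hYP.le (hPmin Y hRY hYP), ?_⟩
      intro K hKP hPK hRK
      by_contra hne'
      have hKM : K ≤ M := hPmin K hRK (lt_of_le_of_ne hKP hne')
      have h1 : IsSyl p R K := hRP'.mono hRK hKP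
      have h2 := h1.frattini hKP hPK
      apply hPM
      rw [← h2]
      exact sup_le hKM ((inf_le_inf_right _ hPH).trans hNRM)
    have hOP : O ≤ pCoreOf p P := le_pCoreOf (hOR.trans hRP) (hPH.trans hHO) hOp
    -- every conjugate of `A` in `R` lies in `O_p(P)`
    have hstep : ∀ h ∈ H, A.map (MulAut.conj h).toMonoidHom ≤ R → A.map (MulAut.conj h).toMonoidHom ≤ pCoreOf p P := by
      intro h hh hle
      by_contra hcon
      have hcardP : Nat.card ↥P ≤ n := by
        have hPlt : P < H := lt_of_le_of_lt hPX hXH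
        have h1 : Nat.card ↥P < Nat.card ↥H := by
          apply lt_of_le_of_ne (Subgroup.card_le_of_le hPlt.le)
          intro h
          exact hPlt.ne (Subgroup.eq_of_le_of_card_ge hPlt.le h.ge)
        omega
      obtain ⟨L, h1, h2, L₀, h3, h4, h5, ⟨g, hg, h6⟩, h7⟩ := ih P R (P ⊓ M) _ hcardP hMP (hle.trans hRP)
        (isPGroup_map_conj hAp h) hcon
      apply hfail' h hh
      refine ⟨L, (sup_le_sup_left hOP _).trans h1, h2.trans hPH, L₀, h3, h4, h5, ⟨g, hPH hg, ?_⟩, h7⟩
      rw [h6, Subgroup.map_inf_eq _ _ _ (MulAut.conj g).injective,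
        mem_normalizer_iff_map_conj.1 (Subgroup.le_normalizer hg), ← inf_assoc, inf_eq_left.2 h2]
    -- the weak closure
    set W : Subgroup G := ⨆ h : {h : G // h ∈ H ∧ A.map (MulAut.conj h).toMonoidHom ≤ R},
      A.map (MulAut.conj (h : G)).toMonoidHom with hW
    have hWR : W ≤ R := iSup_le fun h => h.2.2
    have hWO : W ≤ pCoreOf p P := iSup_le fun h => hstep h h.2.1 h.2.2
    have hBW : B ≤ W := le_iSup (fun h : {h : G // h ∈ H ∧ A.map (MulAut.conj h).toMonoidHom ≤ R} =>
      A.map (MulAut.conj (h : G)).toMonoidHom) ⟨b, hbH, hBR⟩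
    have hWconj : ∀ x ∈ H, (∀ h ∈ H, A.map (MulAut.conj h).toMonoidHom ≤ R →
        A.map (MulAut.conj (x * h)).toMonoidHom ≤ R) → W.map (MulAut.conj x).toMonoidHom ≤ W := by
      intro x hx hcond
      rw [hW, Subgroup.map_iSup]
      apply iSup_le
      rintro ⟨h, hh, hhR⟩
      rw [map_conj_mul]
      exact le_iSup (fun h : {h : G // h ∈ H ∧ A.map (MulAut.conj h).toMonoidHom ≤ R} =>
        A.map (MulAut.conj (h : G)).toMonoidHom) ⟨x * h, H.mul_mem hx hh, hcond h hh hhR⟩
    have hPW : P ≤ normalizer (W : Set G) := by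
      rw [le_normalizer_iff]
      intro x hx w hw
      have h1 := hWconj x (hPH hx) (by
        intro h hh hhR
        have h2 := hstep h hh hhR
        rw [← map_conj_mul]
        refine (Subgroup.map_mono h2).trans ?_
        rw [mem_normalizer_iff_map_conj.1 (le_normalizer_pCoreOf p P hx)]
        exact hRP'.pCoreOf_le)
      exact h1 ⟨w, hw, rfl⟩
    have hT₁W : T₁ ≤ normalizer (W : Set G) := by
      rw [le_normalizer_iff]
      intro x hx w hw
      have h1 := hWconj x (hMH (hT₁M hx)) (by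
        intro h hh hhR
        rw [← map_conj_mul]
        refine (Subgroup.map_mono hhR).trans ?_
        rw [mem_normalizer_iff_map_conj.1 (Subgroup.mem_inf.1 hx).2])
      exact h1 ⟨w, hw, rfl⟩
    have hWH : W ≤ H := hWR.trans hRH
    have h1 := hnoT₁ (H ⊓ normalizer (W : Set G)) (hnorm_lt W hWH (hR.isPGroup.to_le hWR)
      (fun h => hBO (hBW.trans h))) (le_inf (hT₁M.trans hMH) hT₁W)
    exact hPM ((le_inf hPH hPW).trans h1)

end CfsgLib.LE
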