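import Cfsg.Agent.LibLEM
import Cfsg.Agent.LibLEN

set_option autoImplicit false

/-! The asymmetric case: weak closure of `O_p(M)` (helper10). -/

open Cfsg Subgroup
open scoped Pointwise

namespace CfsgLib.LE

variable {G : Type*} [Group G] {p : ℕ} {S : Sylow p G} {Q M : Subgroup G}

/-- `X = ⟨M, N_G(L)⟩` for `O_p(M) ≤ L ≤ S`: all `X`-conjugates of `Y_M` lie in `O_p(M)`. -/
theorem StdM.conj_le_A [Finite G] [hp : Fact p.Prime] (h : StdM p S Q M)
    (hasym : ¬ IsSymmetricIn (largestPReducedOf p M)) {L : Subgroup G} (hAL : pCoreOf p M ≤ L)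
    (hLM : L ≤ M) : ∀ n : ℕ, ∀ l : List G, l.length ≤ n →
      (∀ x ∈ l, x ∈ M ∨ x ∈ normalizer (L : Set G)) →
      (largestPReducedOf p M).map (MulAut.conj l.prod).toMonoidHom ≤ pCoreOf p M := by
  intro n
  induction n with
  | zero =>
    intro l hl _
    have : l = [] := List.length_eq_zero_iff.1 (Nat.le_zero.1 hl)
    subst this
    rw [List.prod_nil, map_conj_one]
    exact h.Y_le_A
  | succ n ih =>
    intro l hl hmem
    set Y := largestPReducedOf p M with hY
    set A := pCoreOf p M with hA
    have hYA : Y ≤ A := h.Y_le_A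
    cases l with
    | nil => rw [List.prod_nil, map_conj_one]; exact h.Y_le_A
    | cons a l' =>
      have hl' : l'.length ≤ n := by simpa using hl
      have h1 := ih l' hl' (fun x hx => hmem x (List.mem_cons_of_mem a hx))
      have h2 : Y.map (MulAut.conj (a :: l').prod).toMonoidHom ≤ A.map (MulAut.conj a).toMonoidHom := by
        rw [List.prod_cons, ← map_conj_mul]
        exact Subgroup.map_mono h1
      -- conjugating `A` by a generator stays in `M`
      have hgen : ∀ b : G, (b ∈ M ∨ b ∈ normalizer (L : Set G)) → A.map (MulAut.conj b).toMonoidHom ≤ M := by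
        intro b hb
        rcases hb with hb | hb
        · rw [mem_normalizer_iff_map_conj.1 (le_normalizer_pCoreOf p M hb)]
          exact h.A_le_M
        · refine (Subgroup.map_mono hAL).trans ?_
          rw [mem_normalizer_iff_map_conj.1 hb]
          exact hLM
      have h3 : Y.map (MulAut.conj (a :: l').prod).toMonoidHom ≤ M := h2.trans (hgen a (hmem a (by simp)))
      -- the inverse word
      have h4 : Y.map (MulAut.conj ((a :: l').prod)⁻¹).toMonoidHom ≤ M := by
        have h5 : ((a :: l').prod)⁻¹ = ((a :: l').map (fun x => x⁻¹)).reverse.prod := by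
          rw [List.prod_inv_reverse]
        rw [h5]
        set l'' := ((a :: l').map (fun x => x⁻¹)).reverse with hl''
        have hlen : l''.length ≤ n + 1 := by rw [hl'', List.length_reverse, List.length_map]; exact hl
        have hmem'' : ∀ x ∈ l'', x ∈ M ∨ x ∈ normalizer (L : Set G) := by
          intro x hx
          rw [hl'', List.mem_reverse, List.mem_map] at hx
          obtain ⟨y, hy, rfl⟩ := hx
          rcases hmem y hy with h6 | h6
          · exact Or.inl (M.inv_mem h6)
          · exact Or.inr ((normalizer (L : Set G)).inv_mem h6)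
        clear_value l''
        cases l'' with
        | nil => rw [List.prod_nil, map_conj_one]; exact h.Y_le_M
        | cons b k =>
          have hk : k.length ≤ n := by simpa using hlen
          have h7 := ih k hk (fun x hx => hmem'' x (List.mem_cons_of_mem b hx))
          have h8 : Y.map (MulAut.conj (b :: k).prod).toMonoidHom ≤ A.map (MulAut.conj b).toMonoidHom := by
            rw [List.prod_cons, ← map_conj_mul]
            exact Subgroup.map_mono h7
          exact h8.trans (hgen b (hmem'' b (by simp)))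
      set x := (a :: l').prod with hx
      have h9 : Y ≤ M.map (MulAut.conj x).toMonoidHom := by
        have := Subgroup.map_mono (f := (MulAut.conj x).toMonoidHom) h4
        rwa [map_conj_mul, mul_inv_cancel, map_conj_one] at this
      have hMY : M ≤ normalizer (Y : Set G) := le_normalizer_largest p M
      have h10 : Y ≤ normalizer (Y.map (MulAut.conj x).toMonoidHom : Set G) := by
        rw [normalizer_map_conj]
        exact h9.trans (Subgroup.map_mono hMY)
      have h11 := commute_of_asym hasym h10 (h3.trans hMY)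
      exact h.le_A_of_le_M (isPGroup_map_conj h.Y_isPGroup x) h3 h11

theorem StdM.normalizer_le_of_le_S [Finite G] [hp : Fact p.Prime] (h : StdM p S Q M)
    (hasym : ¬ IsSymmetricIn (largestPReducedOf p M)) {L : Subgroup G} (hAL : pCoreOf p M ≤ L)
    (hLS : L ≤ (S : Subgroup G)) : normalizer (L : Set G) ≤ normalizer (pCoreOf p M : Set G) := by
  set Y := largestPReducedOf p M with hY
  set X := M ⊔ normalizer (L : Set G) with hX
  have hLM : L ≤ M := hLS.trans h.hSM
  have h1 : ∀ x ∈ X, Y.map (MulAut.conj x).toMonoidHom ≤ pCoreOf p M := by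
    intro x hx
    obtain ⟨l, hl, rfl⟩ := exists_list_of_mem_sup hx
    exact h.conj_le_A hasym hAL hLM l.length l le_rfl hl
  have hYX : Y ≤ X := h.Y_le_M.trans le_sup_left
  have h2 : normalizer (L : Set G) ≤ normalizer (Y : Set G) := by
    rw [h.normalizer_Y]
    refine le_trans le_sup_right (h.le_Md_of_normal (X := X) (U := nclOf Y X) le_sup_left (nclOf_le Y X)
      (le_normalizer_nclOf Y X) (h.A_isPGroup.to_le (nclOf_le_of h1)) ?_)
    intro hb
    exact h.Y_ne_bot (le_bot_iff.1 (hb ▸ le_nclOf hYX))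
  intro g hg
  rw [mem_normalizer_iff_map_conj]
  apply h.A_conj_eq (h2 hg)
  refine (Subgroup.map_mono hAL).trans ?_
  rw [mem_normalizer_iff_map_conj.1 hg]
  exact hLS

/-- Weak closure from the normalizers of the overgroups in one Sylow subgroup of the normalizer. -/
theorem wc_of_local [Finite G] [hp : Fact p.Prime] {A : Subgroup G} (hAp : IsPGroup p ↥A) (S : Sylow p G)
    (hSA : (S : Subgroup G) ≤ normalizer (A : Set G))
    (hloc : ∀ L : Subgroup G, A ≤ L → L ≤ (S : Subgroup G) → normalizer (L : Set G) ≤ normalizer (A : Set G)) :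
    IsWeaklyClosedSubgroup p A := by
  rw [wc_iff_normalizer hAp]
  -- for `p`-subgroups normalizing `A`
  have hstep : ∀ L : Subgroup G, IsPGroup p ↥L → A ≤ L → L ≤ normalizer (A : Set G) →
      normalizer (L : Set G) ≤ normalizer (A : Set G) := by
    intro L hL hAL hLA
    have h1 : IsSyl p (S : Subgroup G) (normalizer (A : Set G)) := isSyl_sylow S hSA
    obtain ⟨n, hn, h2⟩ := h1.exists_conj_le hLA hL
    have hn' : n⁻¹ ∈ normalizer (A : Set G) := (normalizer (A : Set G)).inv_mem hn
    have h3 : L.map (MulAut.conj n⁻¹).toMonoidHom ≤ (S : Subgroup G) := by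
      have := Subgroup.map_mono (f := (MulAut.conj n⁻¹).toMonoidHom) h2
      rwa [map_conj_mul, inv_mul_cancel, map_conj_one] at this
    have h4 : A ≤ L.map (MulAut.conj n⁻¹).toMonoidHom := by
      have := Subgroup.map_mono (f := (MulAut.conj n⁻¹).toMonoidHom) hAL
      rwa [mem_normalizer_iff_map_conj.1 hn'] at this
    have h5 := hloc _ h4 h3
    rw [normalizer_map_conj] at h5
    have h6 := Subgroup.map_mono (f := (MulAut.conj n).toMonoidHom) h5
    rwa [map_conj_mul, mul_inv_cancel, map_conj_one, ← normalizer_map_conj,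
      mem_normalizer_iff_map_conj.1 hn] at h6
  intro L hL hAL
  have h1 : L ≤ normalizer (A : Set G) := by
    by_contra hcon
    set L₁ := L ⊓ normalizer (A : Set G) with hL₁
    have h2 : L₁ < L := lt_of_le_of_ne inf_le_left (fun h => hcon (h.ge.trans inf_le_right))
    have h3 := lt_inf_normalizer_of_isPGroup hL h2
    have h4 : normalizer (L₁ : Set G) ≤ normalizer (A : Set G) :=
      hstep L₁ (hL.to_le inf_le_left) (le_inf hAL Subgroup.le_normalizer) inf_le_right
    exact h3.not_ge (inf_le_inf_left _ h4)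
  exact hstep L hL hAL h1

theorem StdM.S_le_normalizer_A (h : StdM p S Q M) : (S : Subgroup G) ≤ normalizer (pCoreOf p M : Set G) :=
  h.hSM.trans (le_normalizer_pCoreOf p M)

theorem StdM.A_wc [Finite G] [hp : Fact p.Prime] (h : StdM p S Q M)
    (hasym : ¬ IsSymmetricIn (largestPReducedOf p M)) : IsWeaklyClosedSubgroup p (pCoreOf p M) :=
  wc_of_local h.A_isPGroup S h.S_le_normalizer_A (fun _ h1 h2 => h.normalizer_le_of_le_S hasym h1 h2)

theorem StdM.normalizer_le [Finite G] [hp : Fact p.Prime] (h : StdM p S Q M)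
    (hasym : ¬ IsSymmetricIn (largestPReducedOf p M)) {L : Subgroup G} (hL : IsPGroup p ↥L) (hAL : pCoreOf p M ≤ L) :
    normalizer (L : Set G) ≤ normalizer (pCoreOf p M : Set G) :=
  wc_normalizer_le h.A_isPGroup (h.A_wc hasym) hL hAL

theorem StdM.le_normalizer_A [Finite G] [hp : Fact p.Prime] (h : StdM p S Q M)
    (hasym : ¬ IsSymmetricIn (largestPReducedOf p M)) {L : Subgroup G} (hL : IsPGroup p ↥L) (hAL : pCoreOf p M ≤ L) :
    L ≤ normalizer (pCoreOf p M : Set G) := Subgroup.le_normalizer.trans (h.normalizer_le hasym hL hAL)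

/-- A Sylow subgroup of `L` containing `O_p(M)` lies in `M†` and normalizes `O_p(M)`. -/
theorem StdM.exists_syl [Finite G] [hp : Fact p.Prime] (h : StdM p S Q M)
    (hasym : ¬ IsSymmetricIn (largestPReducedOf p M)) {L : Subgroup G} (hAL : pCoreOf p M ≤ L) :
    ∃ T, IsSyl p T L ∧ pCoreOf p M ≤ T ∧ T ≤ normalizer (pCoreOf p M : Set G) := by
  obtain ⟨T, hT, hAT⟩ := exists_isSyl_of_le hAL h.A_isPGroup
  exact ⟨T, hT, hAT, h.le_normalizer_A hasym hT.isPGroup hAT⟩

theorem StdM.pCoreOf_le_normalizer_A [Finite G] [hp : Fact p.Prime] (h : StdM p S Q M)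
    (hasym : ¬ IsSymmetricIn (largestPReducedOf p M)) {L : Subgroup G} (hAL : pCoreOf p M ≤ L) :
    pCoreOf p L ≤ normalizer (pCoreOf p M : Set G) := by
  obtain ⟨T, hT, -, h2⟩ := h.exists_syl hasym hAL
  exact hT.pCoreOf_le.trans h2

/-- Fusion in `Y_M` is controlled by `M`. -/
theorem StdM.fusion [Finite G] [hp : Fact p.Prime] (h : StdM p S Q M)
    (hasym : ¬ IsSymmetricIn (largestPReducedOf p M)) {x g : G} (hx : x ∈ largestPReducedOf p M)
    (hg : g * x * g⁻¹ ∈ largestPReducedOf p M) : ∃ m ∈ M, m * x * m⁻¹ = g * x * g⁻¹ := by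
  set A := pCoreOf p M with hA
  set Y := largestPReducedOf p M with hY
  set C := centralizer ({g * x * g⁻¹} : Set G) with hC
  have hcen : ∀ z ∈ Y, A ≤ centralizer ({z} : Set G) := fun z hz =>
    h.A_le_centralizer.trans (Subgroup.centralizer_le (by simpa using hz))
  have h1 : A ≤ C := hcen _ hg
  have h2 : A.map (MulAut.conj g).toMonoidHom ≤ C := by
    have h3 := Subgroup.map_mono (f := (MulAut.conj g).toMonoidHom) (hcen x hx)
    refine h3.trans ?_
    rintro _ ⟨c, hc, rfl⟩
    rw [hC, Subgroup.mem_centralizer_singleton_iff]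
    have h4 := Subgroup.mem_centralizer_singleton_iff.1 hc
    simp only [MulEquiv.coe_toMonoidHom, MulAut.conj_apply]
    calc g * c * g⁻¹ * (g * x * g⁻¹) = g * (c * x) * g⁻¹ := by group
      _ = g * (x * c) * g⁻¹ := by rw [h4]
      _ = g * x * g⁻¹ * (g * c * g⁻¹) := by group
  obtain ⟨c, hc, h3⟩ := wc_exists_conj (h.A_wc hasym) h1 h2
  have h4 : (A.map (MulAut.conj (c⁻¹ * g)).toMonoidHom) = A := by
    rw [← map_conj_mul, h3, map_conj_mul, inv_mul_cancel, map_conj_one]
  have h5 : c⁻¹ * g ∈ normalizer (A : Set G) := mem_normalizer_iff_map_conj.2 h4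
  have h6 := h.normalizer_A_le h5
  have hMY : M ≤ normalizer (centralizer (Y : Set G) : Set G) :=
    le_normalizer_centralizer (le_normalizer_largest p M)
  obtain ⟨m, hm, d, hd, h7⟩ := (mem_sup_of_le_normalizer hMY).1 h6
  refine ⟨m, hm, ?_⟩
  have hdx : d * x * d⁻¹ = x := by
    have := Subgroup.mem_centralizer_iff.1 hd x hx
    rw [← this]; group
  have h8 : c⁻¹ * (g * x * g⁻¹) * c = g * x * g⁻¹ := by
    have := Subgroup.mem_centralizer_singleton_iff.1 (C.inv_mem hc)
    rw [this]; group
  calc m * x * m⁻¹ = m * (d * x * d⁻¹) * m⁻¹ := by rw [hdx]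
    _ = (m * d) * x * (m * d)⁻¹ := by group
    _ = (c⁻¹ * g) * x * (c⁻¹ * g)⁻¹ := by rw [h7]
    _ = c⁻¹ * (g * x * g⁻¹) * c := by group
    _ = g * x * g⁻¹ := h8

end CfsgLib.LE
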