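import Cfsg.Agent.LibLEM2
import Cfsg.Agent.LibCoprime

set_option autoImplicit false

/-! The set `ℌ_G(O_p(M))` (helper10). -/

open Cfsg Subgroup
open scoped Pointwise

namespace CfsgLib.LE

variable {G : Type*} [Group G] {p : ℕ} {S : Sylow p G} {Q M : Subgroup G}

/-- A nontrivial... : `O_p` of a normal subgroup. -/
theorem nclOf_eq_self_of_minimal {A Y H : Subgroup G} (hAH : A ≤ H)
    (hY : ¬ Y ≤ pCoreOf p H) (hmin : ∀ P : Subgroup G, A ≤ P → P < H → Y ≤ pCoreOf p P) : nclOf A H = H := by
  by_contra hcon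
  have h1 : nclOf A H < H := lt_of_le_of_ne (nclOf_le A H) hcon
  have h2 := hmin _ (le_nclOf hAH) h1
  exact hY (h2.trans (pCoreOf_le_pCoreOf_of_normal (nclOf_le A H) (le_normalizer_nclOf A H)))

/-- In a `p`-group extension: a subgroup generating modulo `O^p` normally generates everything. -/
theorem sup_resOf_eq_of_nclOf [Finite G] [hp : Fact p.Prime] {A H : Subgroup G} (hAH : A ≤ H)
    (hA : nclOf A H = H) : (pResidual p ↥H).map H.subtype ⊔ A = H := by
  set R := (pResidual p ↥H).map H.subtype with hR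
  have hRH : R ≤ H := resOf_le H
  have hHR : H ≤ normalizer (R : Set G) := le_normalizer_resOf H
  by_contra hcon
  set B := R ⊔ A with hB
  have hBH : B ≤ H := sup_le hRH hAH
  -- `B` is subnormal in `H`: choose a maximal proper overgroup
  obtain ⟨C, hC, hBC⟩ : ∃ C : Subgroup ↥H, IsCoatom C ∧ B.subgroupOf H ≤ C := by
    have h1 : B.subgroupOf H ≠ ⊤ := by
      intro h
      exact hcon (le_antisymm hBH (Subgroup.subgroupOf_eq_top.1 h))
    exact (eq_top_or_exists_le_coatom _).resolve_left h1
  -- `C` contains `O^p(H)`, the quotient is a `p`-group, so `C` is normal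
  have hRC : pResidual p ↥H ≤ C := by
    intro x hx
    exact hBC (Subgroup.mem_subgroupOf.2 (Subgroup.mem_sup_left ⟨x, hx, rfl⟩))
  have hCn : C.Normal := by
    have h2 : IsPGroup p (↥H ⧸ pResidual p ↥H) := isPGroup_quotient_pResidual
    have h3 : IsCoatom (C.map (QuotientGroup.mk' (pResidual p ↥H))) := by
      constructor
      · intro h
        apply hC.1
        rw [eq_top_iff]
        intro x _
        have : QuotientGroup.mk' (pResidual p ↥H) x ∈ C.map (QuotientGroup.mk' (pResidual p ↥H)) := by rw [h]; trivial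
        obtain ⟨c, hc, hcx⟩ := this
        have h4 : c⁻¹ * x ∈ pResidual p ↥H := by
          apply (QuotientGroup.eq_one_iff _).1
          have h5 : QuotientGroup.mk' (pResidual p ↥H) c = QuotientGroup.mk' (pResidual p ↥H) x := hcx
          show QuotientGroup.mk' (pResidual p ↥H) (c⁻¹ * x) = 1
          rw [map_mul, map_inv, h5, inv_mul_cancel]
        have := C.mul_mem hc (hRC h4)
        simpa using this
      · intro D hD
        have h4 : C < D.comap (QuotientGroup.mk' (pResidual p ↥H)) := by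
          refine lt_of_le_of_ne (Subgroup.map_le_iff_le_comap.1 hD.le) ?_
          intro h
          apply hD.ne
          rw [h, Subgroup.map_comap_eq_self_of_surjective (QuotientGroup.mk'_surjective _)]
        have h5 := hC.2 _ h4
        rw [← Subgroup.map_comap_eq_self_of_surjective (QuotientGroup.mk'_surjective _) D, h5,
          Subgroup.map_top_of_surjective _ (QuotientGroup.mk'_surjective _)]
    obtain ⟨h4, -⟩ := coatom_normal_index h2 h3
    have h5 : C = (C.map (QuotientGroup.mk' (pResidual p ↥H))).comap (QuotientGroup.mk' (pResidual p ↥H)) := by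
      rw [Subgroup.comap_map_eq, QuotientGroup.ker_mk', sup_eq_left.2 hRC]
    rw [h5]
    exact Subgroup.Normal.comap h4 _
  have h6 : nclOf A H ≤ C.map H.subtype := by
    apply nclOf_le_of_normal
    · intro a ha
      exact ⟨⟨a, hAH ha⟩, hBC (Subgroup.mem_subgroupOf.2 (Subgroup.mem_sup_right ha)), rfl⟩
    · exact le_normalizer_map_subtype C
  rw [hA] at h6
  apply hC.1
  rw [eq_top_iff]
  intro x _
  obtain ⟨c, hc, hcx⟩ := h6 x.2
  have : c = x := Subtype.ext hcx
  rwa [this] at hc

/-- A `p'`-element acting trivially on `P / Φ(P)` centralizes the `p`-group `P`. -/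
theorem mem_centralizer_of_frat [Finite G] [hp : Fact p.Prime] {P : Subgroup G} (hP : IsPGroup p ↥P) {g : G}
    (hg : g ∈ csec P ((frattini ↥P).map P.subtype)) (hco : (orderOf g).Coprime p) : g ∈ centralizer (P : Set G) := by
  set F := (frattini ↥P).map P.subtype with hF
  set A := Subgroup.zpowers g with hA
  have hAcs : A ≤ csec P F := by rw [hA, Subgroup.zpowers_le]; exact hg
  have hAP : A ≤ normalizer (P : Set G) := fun x hx => (mem_csec.1 (hAcs hx)).1
  have hcop : (Nat.card ↥A).Coprime (Nat.card ↥P) := by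
    obtain ⟨k, hk⟩ := IsPGroup.iff_card.1 hP
    rw [hA, Nat.card_zpowers, hk]
    exact Nat.Coprime.pow_right k hco
  have hPs : Group.IsSolvable ↥P := by
    have : Group.IsNilpotent ↥P := hP.isNilpotent
    infer_instance
  have h1 := CfsgLib.Coprime.commutator_sup_centralizer hAP hcop (Or.inr hPs)
  have h2 : ⁅P, A⁆ ≤ F := (Subgroup.commutator_mono le_rfl hAcs).trans (commutator_csec_le P F)
  have h3 : F ⊔ (P ⊓ centralizer (A : Set G)) = P := by
    apply le_antisymm
    · exact sup_le (frat_le P) inf_le_left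
    · rw [← h1]; exact sup_le_sup_right h2 _ |>.trans (by rw [h1])
  have h4 : (P ⊓ centralizer (A : Set G)).subgroupOf P = ⊤ := by
    apply frattini_nongenerating
    rw [eq_top_iff]
    intro x _
    have hx : (x : G) ∈ (P ⊓ centralizer (A : Set G)) ⊔ F := by rw [sup_comm, h3]; exact x.2
    have hPF : P ⊓ centralizer (A : Set G) ≤ normalizer (F : Set G) :=
      inf_le_left.trans (Subgroup.le_normalizer.trans (normalizer_le_normalizer_frat P))
    obtain ⟨c, hc, f, hf, hcf⟩ := (mem_sup_of_le_normalizer hPF).1 hx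
    obtain ⟨f', hf', rfl⟩ := hf
    have : x = (⟨c, hc.1⟩ : ↥P) * f' := Subtype.ext hcf.symm
    rw [this]
    exact Subgroup.mul_mem_sup (Subgroup.mem_subgroupOf.2 hc) hf'
  have h5 : P ≤ centralizer (A : Set G) := (Subgroup.subgroupOf_eq_top.1 h4).trans inf_le_right
  rw [Subgroup.le_centralizer_iff] at h5
  exact h5 (Subgroup.mem_zpowers g)

section frakH

variable {H : Subgroup G}

theorem StdM.H_ncl (hH : IsInFrakH p M H) : nclOf (pCoreOf p M) H = H :=
  nclOf_eq_self_of_minimal hH.2.1 hH.2.2.1 hH.2.2.2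

theorem StdM.H_sup [Finite G] [hp : Fact p.Prime] (hH : IsInFrakH p M H) :
    (pResidual p ↥H).map H.subtype ⊔ pCoreOf p M = H :=
  sup_resOf_eq_of_nclOf hH.2.1 (StdM.H_ncl hH)

/-- dichotomy for normal subgroups of `H ∈ ℌ`. -/
theorem StdM.H_dichotomy [Finite G] [hp : Fact p.Prime] (hH : IsInFrakH p M H) {N : Subgroup G}
    (hNH : N ≤ H) (hHN : H ≤ normalizer (N : Set G)) :
    (pResidual p ↥H).map H.subtype ≤ N ∨ largestPReducedOf p M ≤ pCoreOf p (N ⊔ pCoreOf p M) := by
  set A := pCoreOf p M with hA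
  have hBH : N ⊔ A ≤ H := sup_le hNH hH.2.1
  rcases eq_or_lt_of_le hBH with h1 | h1
  · left
    apply resOf_le_of_pow_mem
    intro x hx
    rw [← h1] at hx
    exact pow_mem_of_mem_sup (pCoreOf_isPGroup p M) (hH.2.1.trans hHN) hx
  · exact Or.inr (hH.2.2.2 _ le_sup_right h1)

theorem StdM.H_comm [Finite G] [hp : Fact p.Prime] (h : StdM p S Q M) (hH : IsInFrakH p M H) :
    ⁅(pResidual p ↥H).map H.subtype, largestPReducedOf p M⁆ = (pResidual p ↥H).map H.subtype := by
  set A := pCoreOf p M with hA
  set Y := largestPReducedOf p M with hY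
  set R := (pResidual p ↥H).map H.subtype with hR
  have hYH : Y ≤ H := h.Y_le_A.trans hH.2.1
  have hHR : H ≤ normalizer (R : Set G) := le_normalizer_resOf H
  have hRH : R ≤ H := resOf_le H
  set R₁ := ⁅R, Y⁆ with hR₁
  have hR₁R : R₁ ≤ R := le_normalizer_iff_commutator_le_left.1 (hYH.trans hHR)
  have hAY : A ≤ normalizer (Y : Set G) := h.A_le_centralizer.trans (Subgroup.centralizer_le_normalizer _)
  have hAR₁ : A ≤ normalizer (R₁ : Set G) := le_normalizer_commutator (hH.2.1.trans hHR) hAY
  have hRR₁ : R ≤ normalizer (R₁ : Set G) := Subgroup.normalizer_commutator_ge_left _ _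
  have hHR₁ : H ≤ normalizer (R₁ : Set G) := by
    rw [← StdM.H_sup hH]; exact sup_le hRR₁ hAR₁
  rcases StdM.H_dichotomy hH (hR₁R.trans hRH) hHR₁ with h1 | h1
  · exact le_antisymm hR₁R h1
  · exfalso
    apply hH.2.2.1
    set D := R₁ ⊔ Y with hD
    have hDH : D ≤ H := sup_le (hR₁R.trans hRH) hYH
    have hRD : R ≤ normalizer (D : Set G) := by
      rw [le_normalizer_iff_commutator_le_right]
      have h2 : ⁅R, R₁⁆ ≤ D := (le_normalizer_iff_commutator_le_right.1 hRR₁).trans le_sup_left
      have h3 : ⁅R, Y⁆ ≤ D := le_sup_left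
      refine commutator_sup_le h2 h3 ?_ ?_
      · exact le_sup_left.trans Subgroup.le_normalizer
      · exact le_sup_right.trans Subgroup.le_normalizer
    have hHD : H ≤ normalizer (D : Set G) := by
      rw [← StdM.H_sup hH]; exact sup_le hRD (le_normalizer_sup hAR₁ hAY)
    have h2 : Y ≤ pCoreOf p D := by
      have h3 : D ≤ R₁ ⊔ A := sup_le_sup_left h.Y_le_A _
      exact (le_inf le_sup_right h1).trans (inf_pCoreOf_le h3)
    exact h2.trans (pCoreOf_le_pCoreOf_of_normal hDH hHD)

theorem StdM.H_ncl_Y [Finite G] [hp : Fact p.Prime] (h : StdM p S Q M) (hH : IsInFrakH p M H) :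
    (pResidual p ↥H).map H.subtype ⊔ largestPReducedOf p M = nclOf (largestPReducedOf p M) H := by
  set A := pCoreOf p M with hA
  set Y := largestPReducedOf p M with hY
  set R := (pResidual p ↥H).map H.subtype with hR
  have hYH : Y ≤ H := h.Y_le_A.trans hH.2.1
  have hHR : H ≤ normalizer (R : Set G) := le_normalizer_resOf H
  have hRH : R ≤ H := resOf_le H
  have hAY : A ≤ normalizer (Y : Set G) := h.A_le_centralizer.trans (Subgroup.centralizer_le_normalizer _)
  apply le_antisymm
  · refine sup_le ?_ (le_nclOf hYH)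
    rw [hR, ← h.H_comm hH]
    refine (Subgroup.commutator_mono hRH (le_nclOf hYH)).trans ?_
    exact le_normalizer_iff_commutator_le_right.1 (le_normalizer_nclOf Y H)
  · apply nclOf_le_of_normal le_sup_right
    have h1 : A ≤ normalizer ((R ⊔ Y : Subgroup G) : Set G) := le_normalizer_sup (hH.2.1.trans hHR) hAY
    rw [← StdM.H_sup hH]
    exact sup_le (le_sup_left.trans Subgroup.le_normalizer) h1

/-- `H ∈ ℌ` is `p`-irreducible (ambient form). -/
theorem StdM.H_irred [Finite G] [hp : Fact p.Prime] (h : StdM p S Q M) (hH : IsInFrakH p M H) {N : Subgroup G}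
    (hNH : N ≤ H) (hHN : H ≤ normalizer (N : Set G)) :
    (pResidual p ↥H).map H.subtype ≤ N ∨ IsPClosed p ↥N := by
  rcases StdM.H_dichotomy hH hNH hHN with h1 | h1
  · exact Or.inl h1
  right
  set A := pCoreOf p M with hA
  set Y := largestPReducedOf p M with hY
  set R := (pResidual p ↥H).map H.subtype with hR
  have hYH : Y ≤ H := h.Y_le_A.trans hH.2.1
  set P := pCoreOf p N with hP
  have hHP : H ≤ normalizer (P : Set G) := hHN.trans (normalizer_le_normalizer_pCoreOf p N)
  have hNB : N ≤ N ⊔ A := le_sup_left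
  have h2 : ⁅N, Y⁆ ≤ P := by
    have h3 : ⁅N, Y⁆ ≤ N ⊓ pCoreOf p (N ⊔ A) := by
      refine le_inf (le_normalizer_iff_commutator_le_left.1 (hYH.trans hHN)) ?_
      refine (Subgroup.commutator_mono hNB h1).trans ?_
      exact le_normalizer_iff_commutator_le_right.1 (le_normalizer_pCoreOf p _)
    exact h3.trans (inf_pCoreOf_le hNB)
  have h3 : Y ≤ csec N P := le_csec (hYH.trans hHN) (hYH.trans hHP) h2
  have h4 : R ≤ csec N P := by
    have h5 : nclOf Y H ≤ csec N P := nclOf_le_of_normal h3 (le_normalizer_csec hHN hHP)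
    rw [← h.H_ncl_Y hH] at h5
    exact le_sup_left.trans h5
  obtain ⟨T, hT⟩ := exists_isSyl p N
  apply isPClosed_of_normal_sylow hT
  have h5 := hT.resOf_sup
  rw [← h5]
  refine sup_le ?_ Subgroup.le_normalizer
  rw [le_normalizer_iff_commutator_le_left]
  have h6 : (pResidual p ↥N).map N.subtype ≤ csec N P := (resOf_mono hNH).trans h4
  exact (Subgroup.commutator_mono hT.le h6).trans ((commutator_csec_le N P).trans hT.pCoreOf_le)

end frakH

end CfsgLib.LE
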