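import Cfsg.Agent.LibLEP3

set_option autoImplicit false

/-! Transfer of central involutions (helper10). -/

open Cfsg Subgroup
open scoped Pointwise

namespace CfsgLib.LE

variable {G : Type*} [Group G] {p : ℕ}

theorem central_transfer [Finite G] (S : Sylow 2 G) (M : Subgroup G) (hMS : M ≤ (S : Subgroup G))
    (hM : M.relIndex (S : Subgroup G) = 2) (x : G) (hx2 : x ^ 2 = 1) (hxc : x ∈ centralizer ((S : Subgroup G) : Set G))
    (hno : ∀ H : Subgroup G, H.index ≠ 2) : ∃ g ∈ normalizer ((S : Subgroup G) : Set G), g⁻¹ * x * g ∈ M := by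
  classical
  haveI : Fact (Nat.Prime 2) := ⟨Nat.prime_two⟩
  letI : Fintype (G ⧸ M) := Fintype.ofFinite _
  let φ : G →* ℤˣ := Equiv.Perm.sign.comp (MulAction.toPermHom G (G ⧸ M))
  have hφ1 : φ x = 1 := by
    by_contra h
    apply hno φ.ker
    rw [Subgroup.index_ker]
    have h5 : φ.range = ⊤ := by
      rw [MonoidHom.range_eq_top]
      intro y
      rcases Int.units_eq_one_or y with rfl | rfl
      · exact ⟨1, map_one _⟩
      · exact ⟨x, by rcases Int.units_eq_one_or (φ x) with h' | h'; exact absurd h' h; exact h'⟩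
    rw [h5, Subgroup.card_top, Nat.card_eq_fintype_card]
    rfl
  have hidx : M.index = 2 * (S : Subgroup G).index := by
    have h1 := Subgroup.relIndex_mul_index hMS
    rw [hM] at h1
    exact h1.symm
  have hodd : ¬ 2 ∣ (S : Subgroup G).index := S.not_dvd_index
  set F := Function.fixedPoints (MulAction.toPermHom G (G ⧸ M) x) with hF
  have hfix : ¬ 4 ∣ Fintype.card ↥F := by
    have h1 := Equiv.Perm.sign_of_pow_two_eq_one (σ := MulAction.toPermHom G (G ⧸ M) x) (by rw [← map_pow, hx2, map_one])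
    have h2 : Equiv.Perm.sign (MulAction.toPermHom G (G ⧸ M) x) = 1 := hφ1
    rw [h2, ← Nat.card_eq_fintype_card (α := G ⧸ M), ← Subgroup.index_eq_card, hidx] at h1
    have h3 : Even ((2 * (S : Subgroup G).index - Fintype.card ↥F) / 2) := by
      by_contra h
      rw [Nat.not_even_iff_odd] at h
      have h4 := h.neg_one_pow (α := ℤˣ)
      rw [h4] at h1
      exact absurd h1 (by decide)
    have h4 : Fintype.card ↥F ≤ 2 * (S : Subgroup G).index := by
      rw [← hidx, Subgroup.index_eq_card, Nat.card_eq_fintype_card]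
      exact Fintype.card_subtype_le _
    obtain ⟨k, hk⟩ := h3
    intro ⟨l, hl⟩
    omega
  have hFm : ∀ q : G ⧸ M, q ∈ F ↔ x • q = q := fun q => Iff.rfl
  have hMn : (S : Subgroup G) ≤ normalizer (M : Set G) := by
    apply le_normalizer_of_subgroupOf_normal hMS
    exact Subgroup.normal_of_index_eq_two hM
  have hFg : ∀ g : G, ((g : G ⧸ M) ∈ F ↔ g⁻¹ * x * g ∈ M) := by
    intro g
    rw [hFm]
    show ((x * g : G) : G ⧸ M) = (g : G ⧸ M) ↔ _
    rw [eq_comm, QuotientGroup.eq, mul_assoc]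
  -- predicate on `G / S`
  set A : Set (G ⧸ (S : Subgroup G)) := {a | a.out⁻¹ * x * a.out ∈ M} with hA
  have hAg : ∀ g : G, ((g : G ⧸ (S : Subgroup G)) ∈ A ↔ g⁻¹ * x * g ∈ M) := by
    intro g
    obtain ⟨s, hs⟩ := QuotientGroup.mk_out_eq_mul (S : Subgroup G) g
    show ((g : G ⧸ (S : Subgroup G)).out)⁻¹ * x * ((g : G ⧸ (S : Subgroup G)).out) ∈ M ↔ _
    rw [hs]
    have h1 := (Subgroup.mem_normalizer_iff.1 (hMn (S.inv_mem s.2)) (g⁻¹ * x * g))
    rw [h1]
    have h2 : (g * (s : G))⁻¹ * x * (g * (s : G)) = (s : G)⁻¹ * (g⁻¹ * x * g) * (s : G)⁻¹⁻¹ := by group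
    rw [h2]
  -- count
  let e := Subgroup.quotientEquivProdOfLE hMS
  have he : ∀ g : G, (e (g : G ⧸ M)).1 = (g : G ⧸ (S : Subgroup G)) := fun g => rfl
  have hAF : Nat.card ↥F = Nat.card ↥A * 2 := by
    have h1 : ↥F ≃ ↥A × (↥(S : Subgroup G) ⧸ M.subgroupOf (S : Subgroup G)) :=
      { toFun := fun q => (⟨(e q.1).1, by
          obtain ⟨q, hq⟩ := q
          obtain ⟨g, rfl⟩ := QuotientGroup.mk_surjective q
          show (e (g : G ⧸ M)).1 ∈ A
          rw [he, hAg]; exact (hFg g).1 hq⟩, (e q.1).2)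
        invFun := fun b => ⟨e.symm (b.1.1, b.2), by
          obtain ⟨g, hg⟩ := QuotientGroup.mk_surjective (e.symm (b.1.1, b.2))
          rw [← hg, hFg, ← hAg, ← he, hg, Equiv.apply_symm_apply]
          exact b.1.2⟩
        left_inv := fun q => by
          apply Subtype.ext
          show e.symm ((e q.1).1, (e q.1).2) = q.1
          rw [Prod.mk.eta, Equiv.symm_apply_apply]
        right_inv := fun b => by
          obtain ⟨⟨a, ha⟩, c⟩ := b
          apply Prod.ext
          · apply Subtype.ext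
            show (e (e.symm (a, c))).1 = a
            rw [Equiv.apply_symm_apply]
          · show (e (e.symm (a, c))).2 = c
            rw [Equiv.apply_symm_apply] }
    rw [Nat.card_congr h1, Nat.card_prod]
    have h2 : Nat.card (↥(S : Subgroup G) ⧸ M.subgroupOf (S : Subgroup G)) = 2 := hM
    rw [h2]
  have hAodd : ¬ 2 ∣ Nat.card ↥A := by
    intro ⟨k, hk⟩
    apply hfix
    rw [← Nat.card_eq_fintype_card, hAF, hk]
    exact ⟨k, by ring⟩
  -- `S` acts on `A`
  have hsA : ∀ (s : ↥(S : Subgroup G)) (a : G ⧸ (S : Subgroup G)), a ∈ A → (s : G) • a ∈ A := by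
    intro s a ha
    obtain ⟨g, rfl⟩ := QuotientGroup.mk_surjective a
    have h1 := (hAg g).1 ha
    show ((((s : G) * g : G) : G ⧸ (S : Subgroup G))) ∈ A
    rw [hAg]
    have h2 : (s : G)⁻¹ * x * (s : G) = x := by
      have h3 := Subgroup.mem_centralizer_iff.1 hxc s s.2
      rw [mul_assoc, ← h3]; group
    have h3 : ((s : G) * g)⁻¹ * x * ((s : G) * g) = g⁻¹ * ((s : G)⁻¹ * x * (s : G)) * g := by group
    rw [h3, h2]; exact h1
  letI : MulAction ↥(S : Subgroup G) ↥A :=
    { smul := fun s q => ⟨(s : G) • (q : G ⧸ (S : Subgroup G)), hsA s q q.2⟩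
      one_smul := fun q => Subtype.ext (one_smul G (q : G ⧸ (S : Subgroup G)))
      mul_smul := fun s t q => Subtype.ext (mul_smul (s : G) (t : G) (q : G ⧸ (S : Subgroup G))) }
  have hsm : ∀ (s : ↥(S : Subgroup G)) (q : ↥A), ((s • q : ↥A) : G ⧸ (S : Subgroup G)) = (s : G) • (q : G ⧸ (S : Subgroup G)) :=
    fun s q => rfl
  have h1 := S.isPGroup'.card_modEq_card_fixedPoints ↥A
  have h2 : Nat.card ↥(MulAction.fixedPoints ↥(S : Subgroup G) ↥A) ≠ 0 := by
    intro h
    apply hAodd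
    rw [h] at h1
    exact (Nat.modEq_zero_iff_dvd).1 h1
  obtain ⟨⟨a, haf⟩⟩ := (Nat.card_ne_zero.1 h2).1
  obtain ⟨a, haA⟩ := a
  obtain ⟨g, rfl⟩ := QuotientGroup.mk_surjective a
  refine ⟨g, ?_, (hAg g).1 haA⟩
  have h3 : ∀ s ∈ (S : Subgroup G), g⁻¹ * s * g ∈ (S : Subgroup G) := by
    intro s hs
    have h4 := congrArg Subtype.val (haf ⟨s, hs⟩)
    rw [hsm] at h4
    have h5 : ((s * g : G) : G ⧸ (S : Subgroup G)) = (g : G ⧸ (S : Subgroup G)) := h4
    rw [eq_comm, QuotientGroup.eq, ← mul_assoc] at h5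
    exact h5
  have h4 : (S : Subgroup G) ≤ (S : Subgroup G).map (MulAut.conj g).toMonoidHom := by
    intro s hs
    rw [map_conj_mem]; exact h3 s hs
  have h5 : (S : Subgroup G) = (S : Subgroup G).map (MulAut.conj g).toMonoidHom :=
    Subgroup.eq_of_le_of_card_ge h4 (by rw [card_map_conj])
  exact mem_normalizer_iff_map_conj.2 h5.symm

end CfsgLib.LE
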