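import Cfsg.Agent.LibExtraH28
import Cfsg.Agent.LibExtH13

set_option autoImplicit false

/-! Faithful representations of extraspecial groups in coprime characteristic (helper10). -/

open Cfsg Module

namespace CfsgLib.LEXr

universe u v

/-- An extraspecial group acting on `M` with the centre acting by a nontrivial scalar. -/
theorem pow_le_finrank {F : Type*} [Field F] {V : Type*} [AddCommGroup V] [Module F V] [FiniteDimensional F V]
    [Nontrivial V] {E : Type*} [Group E] [Finite E] {p : ℕ} [hp : Fact p.Prime] (hE : IsExtraspecial p E)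
    (hpF : (p : F) ≠ 0) (ρ : E →* Module.End F V) (z : E) (hz : z ∈ Subgroup.center E) (ζ : F) (hζ : ζ ≠ 1)
    (hρz : ρ z = ζ • (1 : Module.End F V)) (w : ℕ) (hcard : Nat.card E = p ^ (2 * w + 1)) : p ^ w ≤ finrank F V := by
  classical
  letI := Fintype.ofFinite E
  letI : Fintype (E ⧸ Subgroup.center E) := Fintype.ofFinite _
  have hEF : ((Fintype.card E : ℕ) : F) ≠ 0 := by
    rw [← Nat.card_eq_fintype_card, hcard, Nat.cast_pow]
    exact pow_ne_zero _ hpF
  set S : E → Module.End F V := fun h => ∑ g : E, ρ (g * h * g⁻¹) with hS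
  have hS1 : S 1 = ((Fintype.card E : ℕ) : F) • (1 : Module.End F V) := by
    simp only [hS, mul_one, mul_inv_cancel, map_one, Finset.sum_const, Finset.card_univ]
    rw [Nat.cast_smul_eq_nsmul]
  have hS0 : ∀ h : E, h ∉ Subgroup.center E → S h = 0 := by
    intro h hh
    obtain ⟨y, hy⟩ := CfsgLib.ExtraH28.exists_comm_eq hE hh hz
    -- `h y h⁻¹ y⁻¹ = z`, so `y h y⁻¹ = z⁻¹ h`
    have hzc : ∀ g : E, g * z = z * g := fun g => Subgroup.mem_center_iff.1 hz g
    have e1 : z * (y * h * y⁻¹) = h := by
      rw [← hy]; group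
    have e2 : S h = ρ z * S h := by
      have e3 : S h = ∑ g : E, ρ (g * h * g⁻¹) := rfl
      have e4 : ρ z * S h = ∑ g : E, ρ (z * ((g * y) * h * (g * y)⁻¹)) := by
        rw [e3, ← Fintype.sum_equiv (Equiv.mulRight y) (fun g => ρ ((g * y) * h * (g * y)⁻¹)) (fun g => ρ (g * h * g⁻¹))
          (fun g => rfl), Finset.mul_sum]
        apply Finset.sum_congr rfl
        intro g _
        rw [← map_mul]
      rw [e4, e3]
      apply Finset.sum_congr rfl
      intro g _
      congr 1
      calc g * h * g⁻¹ = g * (z * (y * h * y⁻¹)) * g⁻¹ := by rw [e1]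
        _ = (g * z) * (y * h * y⁻¹) * g⁻¹ := by group
        _ = (z * g) * (y * h * y⁻¹) * g⁻¹ := by rw [hzc]
        _ = z * ((g * y) * h * (g * y)⁻¹) := by group
    rw [hρz, smul_mul_assoc, one_mul] at e2
    have e5 : (ζ - 1) • S h = 0 := by rw [sub_smul, one_smul, ← e2, sub_self]
    exact (smul_eq_zero.1 e5).resolve_left (sub_ne_zero.2 hζ)
  have hone : (1 : Module.End F V) ≠ 0 := by
    intro h
    obtain ⟨v, hv⟩ := exists_ne (0 : V)
    apply hv
    have := LinearMap.congr_fun h v
    simpa using this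
  have hli : LinearIndependent F (fun c : E ⧸ Subgroup.center E => ρ c.out) := by
    rw [Fintype.linearIndependent_iff]
    intro a ha c₀
    have h1 : ∑ c : E ⧸ Subgroup.center E, a c • S (c.out * c₀.out⁻¹) = 0 := by
      have h2 : ∀ g : E, ∑ c : E ⧸ Subgroup.center E, a c • ρ (g * (c.out * c₀.out⁻¹) * g⁻¹) = 0 := by
        intro g
        have h3 := congrArg (fun X => ρ g * X * ρ (c₀.out⁻¹ * g⁻¹)) ha
        simp only [mul_zero, zero_mul, Finset.mul_sum, Finset.sum_mul] at h3
        rw [← h3]
        apply Finset.sum_congr rfl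
        intro c _
        rw [mul_smul_comm, smul_mul_assoc, ← map_mul, ← map_mul]
        congr 2
        group
      simp only [hS, Finset.smul_sum]
      rw [Finset.sum_comm]
      exact Finset.sum_eq_zero fun g _ => h2 g
    rw [Finset.sum_eq_single c₀] at h1
    · rw [mul_inv_cancel, hS1, smul_smul] at h1
      rcases smul_eq_zero.1 h1 with h2 | h2
      · rcases mul_eq_zero.1 h2 with h3 | h3
        · exact h3
        · exact absurd h3 hEF
      · exact absurd h2 hone
    · intro c _ hc
      rw [hS0, smul_zero]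
      intro h
      apply hc
      have h2 : ((c.out : E) : E ⧸ Subgroup.center E) = ((c₀.out : E) : E ⧸ Subgroup.center E) := by
        rw [QuotientGroup.eq]
        have h3 := Subgroup.inv_mem _ h
        have h4 : (c.out * c₀.out⁻¹)⁻¹ = c₀.out * c.out⁻¹ := by group
        rw [h4] at h3
        have h5 := (inferInstance : (Subgroup.center E).Normal).conj_mem _ h3 c.out⁻¹
        have h6 : c.out⁻¹ * (c₀.out * c.out⁻¹) * c.out⁻¹⁻¹ = c.out⁻¹ * c₀.out := by group
        rwa [h6] at h5
      rwa [QuotientGroup.out_eq', QuotientGroup.out_eq'] at h2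
    · intro h; exact absurd (Finset.mem_univ _) h
  have h1 := hli.fintype_card_le_finrank
  rw [Module.finrank_linearMap, ← Nat.card_eq_fintype_card] at h1
  have h2 : Nat.card (E ⧸ Subgroup.center E) = p ^ (2 * w) := by
    have h3 := Subgroup.card_eq_card_quotient_mul_card_subgroup (Subgroup.center E)
    rw [hcard, hE.2, pow_succ] at h3
    exact (Nat.eq_of_mul_eq_mul_right hp.out.pos h3).symm
  rw [h2] at h1
  have h3 : (p ^ w) ^ 2 ≤ (finrank F V) ^ 2 := by
    rw [← pow_mul, mul_comm w 2, sq (finrank F V)]; exact h1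
  exact (Nat.pow_le_pow_iff_left (by norm_num)).1 h3

/-- sum of dimensions of eigenspaces -/
theorem sum_finrank_eigenspace_le {F : Type*} [Field F] {V : Type*} [AddCommGroup V] [Module F V] [FiniteDimensional F V]
    (T : Module.End F V) {n : ℕ} (μ : Fin n → F) (hμ : Function.Injective μ) :
    ∑ i, finrank F ↥(T.eigenspace (μ i)) ≤ finrank F V := by
  classical
  have h1 : iSupIndep (fun i => T.eigenspace (μ i)) := T.eigenspaces_iSupIndep.comp hμ
  have h2 := h1.dfinsupp_lsum_injective
  rw [← Module.finrank_directSum]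
  exact LinearMap.finrank_le_finrank_of_injective h2

end CfsgLib.LEXr
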