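import Cfsg.Agent.LibLEXr

set_option autoImplicit false

/-! Faithful representations of extraspecial groups over the prime field (helper10). -/

open Cfsg Module

namespace CfsgLib.LEXr

universe u v

/-- action on an eigenspace of a central element -/
theorem eigenspace_bound {F : Type*} [Field F] {V : Type*} [AddCommGroup V] [Module F V] [FiniteDimensional F V]
    {E : Type*} [Group E] [Finite E] {p : ℕ} [hp : Fact p.Prime] (hE : IsExtraspecial p E)
    (hpF : (p : F) ≠ 0) (ρ : E →* Module.End F V) (z : E) (hz : z ∈ Subgroup.center E) (ζ : F) (hζ : ζ ≠ 1)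
    (hev : (ρ z).HasEigenvalue ζ) (w : ℕ) (hcard : Nat.card E = p ^ (2 * w + 1)) :
    p ^ w ≤ finrank F ↥((ρ z).eigenspace ζ) := by
  have hmaps : ∀ e : E, ∀ v ∈ (ρ z).eigenspace ζ, ρ e v ∈ (ρ z).eigenspace ζ := by
    intro e v hv
    rw [Module.End.mem_eigenspace_iff] at hv ⊢
    have h1 : (ρ z) ((ρ e) v) = (ρ e) ((ρ z) v) := by
      have h2 : ρ z * ρ e = ρ e * ρ z := by
        rw [← map_mul, ← map_mul, Subgroup.mem_center_iff.1 hz e]
      exact LinearMap.congr_fun h2 v
    rw [h1, hv, map_smul]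
  let σ : E →* Module.End F ↥((ρ z).eigenspace ζ) :=
    { toFun := fun e => (ρ e).restrict (hmaps e)
      map_one' := by
        ext v
        simp [LinearMap.restrict_apply]
      map_mul' := by
        intro a b
        ext v
        simp [LinearMap.restrict_apply] }
  haveI : Nontrivial ↥((ρ z).eigenspace ζ) := by
    rw [Submodule.nontrivial_iff_ne_bot]; exact hev
  apply pow_le_finrank hE hpF σ z hz ζ hζ _ w hcard
  ext v
  have h1 := Module.End.mem_eigenspace_iff.1 v.2
  show (ρ z) (v : V) = _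
  rw [h1]
  rfl

theorem exists_primitive_eigenvalue {F : Type*} [Field F] [IsAlgClosed F] {V : Type*} [AddCommGroup V] [Module F V]
    [FiniteDimensional F V] {p : ℕ} [hp : Fact p.Prime] (hpF : (p : F) ≠ 0) (T : Module.End F V) (hT : T ^ p = 1)
    (hT1 : T ≠ 1) : ∃ ζ : F, IsPrimitiveRoot ζ p ∧ T.HasEigenvalue ζ := by
  haveI : NeZero (p : F) := ⟨hpF⟩
  set Q := Polynomial.aeval T (Polynomial.cyclotomic p F) with hQ
  have h1 : Q * (T - 1) = 0 := by
    have h2 := congrArg (Polynomial.aeval T) (Polynomial.cyclotomic_prime_mul_X_sub_one F p)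
    rw [map_mul, map_sub, map_sub, map_pow, Polynomial.aeval_X, map_one, hT, sub_self] at h2
    exact h2
  have hmaps : ∀ v ∈ LinearMap.ker Q, T v ∈ LinearMap.ker Q := by
    intro v hv
    rw [LinearMap.mem_ker] at hv ⊢
    have h2 : Q * T = T * Q := by
      have h3 : T = Polynomial.aeval T (Polynomial.X : Polynomial F) := (Polynomial.aeval_X T).symm
      conv_lhs => rw [h3]
      conv_rhs => rw [h3]
      rw [Polynomial.aeval_X, hQ]
      have := Polynomial.aeval_mul (R := F) (x := T) (p := Polynomial.cyclotomic p F) (q := Polynomial.X)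
      have h4 := congrArg (Polynomial.aeval T) (mul_comm (Polynomial.cyclotomic p F) Polynomial.X)
      rw [map_mul, map_mul, Polynomial.aeval_X] at h4
      exact h4
    have h3 := LinearMap.congr_fun h2 v
    have h4 : (Q * T) v = Q (T v) := rfl
    have h5 : (T * Q) v = T (Q v) := rfl
    rw [h4, h5, hv, map_zero] at h3
    exact h3
  have hne : LinearMap.ker Q ≠ ⊥ := by
    intro hbot
    apply hT1
    rw [← sub_eq_zero]
    ext v
    have h2 := LinearMap.congr_fun h1 v
    have h3 : Q ((T - 1) v) = 0 := h2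
    have h4 : (T - 1) v ∈ LinearMap.ker Q := h3
    rw [hbot, Submodule.mem_bot] at h4
    exact h4
  haveI : Nontrivial ↥(LinearMap.ker Q) := (Submodule.nontrivial_iff_ne_bot).2 hne
  obtain ⟨ζ, hζ⟩ := Module.End.exists_eigenvalue (T.restrict hmaps)
  obtain ⟨v, hv⟩ := hζ.exists_hasEigenvector
  have hv1 : T (v : V) = ζ • (v : V) := congrArg Subtype.val hv.apply_eq_smul
  have hv0 : (v : V) ≠ 0 := fun h => hv.2 (Subtype.ext h)
  have hev : T.HasEigenvector ζ (v : V) := ⟨Module.End.mem_eigenspace_iff.2 hv1, hv0⟩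
  refine ⟨ζ, ?_, Module.End.hasEigenvalue_of_hasEigenvector hev⟩
  rw [← Polynomial.isRoot_cyclotomic_iff]
  have h2 : Q (v : V) = 0 := v.2
  have h3 := Module.End.aeval_apply_of_hasEigenvector (p := Polynomial.cyclotomic p F) hev
  rw [← hQ, h2] at h3
  rcases smul_eq_zero.1 h3.symm with h4 | h4
  · exact h4
  · exact absurd h4 hv0

theorem main_bound {r p : ℕ} [hr : Fact r.Prime] [hp : Fact p.Prime] (hpr : p ≠ r) {E : Type*} [Group E] [Finite E]
    (hE : IsExtraspecial p E) (w : ℕ) (hcard : Nat.card E = p ^ (2 * w + 1)) (a : ℕ) (φ : E →* GL (Fin a) (ZMod r))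
    (hφ : Function.Injective φ) (n : ℕ) (hmin : ∀ k : ℕ, 1 ≤ k → p ∣ r ^ k - 1 → n ≤ k) : n * p ^ w ≤ a := by
  classical
  let F := AlgebraicClosure (ZMod r)
  haveI : CharP F r := inferInstance
  have hpF : (p : F) ≠ 0 := by
    intro h
    rw [CharP.cast_eq_zero_iff F r] at h
    exact hpr ((Nat.prime_dvd_prime_iff_eq hr.out hp.out).1 h).symm
  let ι : ZMod r →+* F := algebraMap (ZMod r) F
  let ψ : E →* Module.End F (Fin a → F) :=
    { toFun := fun e => Matrix.toLin' (((φ e : GL (Fin a) (ZMod r)) : Matrix (Fin a) (Fin a) (ZMod r)).map ι)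
      map_one' := by
        simp [Matrix.toLin'_one]
        rfl
      map_mul' := by
        intro x y
        rw [map_mul, Units.val_mul, Matrix.map_mul, Matrix.toLin'_mul]
        rfl }
  have hψinj : ∀ e, ψ e = 1 → e = 1 := by
    intro e he
    apply hφ
    rw [map_one]
    apply Units.ext
    have h1 : Matrix.toLin' (((φ e : GL (Fin a) (ZMod r)) : Matrix (Fin a) (Fin a) (ZMod r)).map ι) = Matrix.toLin' (1 : Matrix (Fin a) (Fin a) F) := by
      rw [Matrix.toLin'_one]; exact he
    have h2 := Matrix.toLin'.injective h1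
    have h3 : ((1 : Matrix (Fin a) (Fin a) (ZMod r)).map ι) = 1 := by simp
    rw [← h3] at h2
    exact Matrix.map_injective ι.injective h2
  -- central element
  haveI : Nontrivial ↥(Subgroup.center E) := by
    rw [← Finite.one_lt_card_iff_nontrivial, hE.2]; exact hp.out.one_lt
  obtain ⟨⟨z, hz⟩, hz1⟩ := exists_ne (1 : ↥(Subgroup.center E))
  have hz1' : z ≠ 1 := fun h => hz1 (Subtype.ext h)
  have hzp : z ^ p = 1 := by
    have h1 : (⟨z, hz⟩ : ↥(Subgroup.center E)) ^ Nat.card ↥(Subgroup.center E) = 1 := pow_card_eq_one'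
    rw [hE.2] at h1
    exact congrArg Subtype.val h1
  obtain ⟨ζ, hζ, hev⟩ := exists_primitive_eigenvalue hpF (ψ z) (by rw [← map_pow, hzp, map_one]) (fun h => hz1' (hψinj z h))
  -- Frobenius
  have hfrob : ∀ μ : F, (ψ z).HasEigenvalue μ → (ψ z).HasEigenvalue (μ ^ r) := by
    intro μ hμ
    obtain ⟨v, hv⟩ := hμ.exists_hasEigenvector
    let v' : Fin a → F := fun i => (v i) ^ r
    have hv' : (ψ z) v' = (μ ^ r) • v' := by
      ext i
      have h1 := congrFun hv.apply_eq_smul i
      have h2 : (ψ z) v i = ∑ j, ι ((φ z : Matrix (Fin a) (Fin a) (ZMod r)) i j) * v j := by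
        show (Matrix.toLin' _) v i = _
        rw [Matrix.toLin'_apply]
        rfl
      have h3 : (ψ z) v' i = ∑ j, ι ((φ z : Matrix (Fin a) (Fin a) (ZMod r)) i j) * (v j) ^ r := by
        show (Matrix.toLin' _) v' i = _
        rw [Matrix.toLin'_apply]
        rfl
      rw [h3]
      rw [h2] at h1
      have h4 := congrArg (fun x => x ^ r) h1
      simp only [Pi.smul_apply, smul_eq_mul, mul_pow] at h4
      rw [← frobenius_def, map_sum] at h4
      simp only [frobenius_def, mul_pow] at h4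
      simp only [Pi.smul_apply, smul_eq_mul]
      rw [← h4]
      apply Finset.sum_congr rfl
      intro j _
      rw [← map_pow, ZMod.pow_card]
    apply Module.End.hasEigenvalue_of_hasEigenvector (x := v')
    refine ⟨Module.End.mem_eigenspace_iff.2 hv', ?_⟩
    intro h
    apply hv.2
    ext i
    have := congrFun h i
    exact (pow_eq_zero_iff hr.out.ne_zero).1 this
  have hevi : ∀ i : ℕ, (ψ z).HasEigenvalue (ζ ^ r ^ i) := by
    intro i
    induction i with
    | zero => simpa using hev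
    | succ i ih =>
      have := hfrob _ ih
      rwa [← pow_mul, ← pow_succ] at this
  have hne1 : ∀ i : ℕ, ζ ^ r ^ i ≠ 1 := by
    intro i h
    have h1 := hζ.dvd_of_pow_eq_one _ h
    exact hpr ((Nat.prime_dvd_prime_iff_eq hp.out hr.out).1 (hp.out.dvd_of_dvd_pow h1))
  have hinj : Function.Injective (fun i : Fin n => ζ ^ r ^ (i : ℕ)) := by
    have key : ∀ i j : ℕ, i < j → j < n → ζ ^ r ^ i ≠ ζ ^ r ^ j := by
      intro i j hij hjn h
      have h1 : ζ ^ (r ^ i * (r ^ (j - i) - 1)) = 1 := by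
        have h2 : r ^ j = r ^ i * (r ^ (j - i) - 1) + r ^ i := by
          have h3 : r ^ j = r ^ i * r ^ (j - i) := by rw [← pow_add]; congr 1; omega
          have h4 : 1 ≤ r ^ (j - i) := Nat.one_le_pow _ _ hr.out.pos
          rw [h3]
          obtain ⟨m, hm⟩ : ∃ m, r ^ (j - i) = m + 1 := ⟨r ^ (j - i) - 1, by omega⟩
          rw [hm, Nat.add_sub_cancel]; ring
        rw [h2, pow_add] at h
        have h3 : ζ ^ r ^ i ≠ 0 := pow_ne_zero _ (hζ.ne_zero hp.out.ne_zero)
        have h4 : ζ ^ (r ^ i * (r ^ (j - i) - 1)) * ζ ^ r ^ i = 1 * ζ ^ r ^ i := by rw [← h, one_mul]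
        exact mul_right_cancel₀ h3 h4
      have h2 := hζ.dvd_of_pow_eq_one _ h1
      rcases (Nat.Prime.dvd_mul hp.out).1 h2 with h3 | h3
      · exact hpr ((Nat.prime_dvd_prime_iff_eq hp.out hr.out).1 (hp.out.dvd_of_dvd_pow h3))
      · have := hmin (j - i) (by omega) h3
        omega
    intro i j hij
    simp only at hij
    by_contra hne
    rcases lt_or_gt_of_ne (fun h => hne (Fin.ext h) : (i : ℕ) ≠ j) with h | h
    · exact key i j h j.2 hij
    · exact key j i h i.2 hij.symm
  have h1 := sum_finrank_eigenspace_le (ψ z) (fun i : Fin n => ζ ^ r ^ (i : ℕ)) hinj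
  rw [Module.finrank_fin_fun] at h1
  refine le_trans ?_ h1
  have h2 : ∑ i : Fin n, p ^ w = n * p ^ w := by simp
  rw [← h2]
  apply Finset.sum_le_sum
  intro i _
  exact eigenspace_bound hE hpF ψ z hz _ (hne1 i) (hevi i) w hcard

end CfsgLib.LEXr
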