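import Cfsg.Agent.LibLEM
import Cfsg.Agent.LibH6PSplit

/-! Subgroups with the basic property above a given parabolic subgroup of characteristic `p`. (helper8) -/

set_option autoImplicit false
set_option linter.all false

namespace CfsgLib.LM8

open Cfsg Subgroup CfsgLib.LE
open scoped Pointwise

variable {G : Type*} [Group G] {p : ℕ}

/-- every overgroup of `T` with nontrivial `p`-core has characteristic `p` in `G`. -/
def Par (p : ℕ) (T : Subgroup G) : Prop :=
  ∀ X : Subgroup G, T ≤ X → pCoreOf p X ≠ ⊥ → X ∈ charPSubgroups p G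

theorem par_of_parabolic [Finite G] [hp : Fact p.Prime] (hH : IsOfParabolicCharacteristic p G) (T : Sylow p G) :
    Par p (T : Subgroup G) := by
  intro X hTX hX
  have hN : (T : Subgroup G) ≤ normalizer (pCoreOf p X : Set G) := hTX.trans (le_normalizer_pCoreOf p X)
  have h1 := hH (pCoreOf p X) (pCoreOf_isPGroup p X) hX ⟨T, hN⟩
  have h2 := (charPOf_iff_type _).2 h1
  have h3 : pCoreOf p (normalizer (pCoreOf p X : Set G)) ≤ pCoreOf p X := by
    apply le_pCoreOf
    · exact (isSyl_sylow T hN).pCoreOf_le.trans hTX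
    · exact (le_normalizer_pCoreOf p X).trans (le_normalizer_pCoreOf p _)
    · exact pCoreOf_isPGroup p _
  refine mem_charP_iff.2 ⟨hX, fun x hx => ?_⟩
  apply h3
  apply h2
  refine Subgroup.mem_inf.2 ⟨Subgroup.centralizer_le_normalizer _ hx, Subgroup.centralizer_le h3 hx⟩

section

variable [Finite G] [hp : Fact p.Prime] {T : Sylow p G}

theorem Y_ne_bot {X : Subgroup G} (hTX : (T : Subgroup G) ≤ X) (hX : X ∈ charPSubgroups p G) :
    largestPReducedOf p X ≠ ⊥ := by
  intro h1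
  have hT : (T : Subgroup G) ≠ ⊥ := by
    intro h
    apply (mem_charP_iff.1 hX).1
    rw [eq_bot_iff, ← h]
    exact (isSyl_sylow T hTX).pCoreOf_le
  have h2 := inf_centralizer_ne_bot T.isPGroup' hT
  have h3 := omegaOne_ne_bot_of_isPGroup (T.isPGroup'.to_le inf_le_left) h2
  exact h3 (le_bot_iff.1 (h1 ▸ omegaZ_le_largest (charPOf_of_mem hX) (isSyl_sylow T hTX)))

theorem Y_mono {X X' : Subgroup G} (hTX : (T : Subgroup G) ≤ X) (hXX : X ≤ X') (hX : X' ∈ charPSubgroups p G) :
    largestPReducedOf p X ≤ largestPReducedOf p X' :=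
  PRed.le_largest_of_parabolic (charPOf_of_mem hX) (isSyl_sylow T (hTX.trans hXX)) hTX hXX (pRed_largestPReducedOf p X)

theorem Y_le_T {X : Subgroup G} (hTX : (T : Subgroup G) ≤ X) : largestPReducedOf p X ≤ (T : Subgroup G) :=
  (pRed_largestPReducedOf p X).le_pCoreOf.trans (isSyl_sylow T hTX).pCoreOf_le

theorem normalizer_mem (hP : Par p (T : Subgroup G)) {X : Subgroup G} (hTX : (T : Subgroup G) ≤ X)
    (hX : X ∈ charPSubgroups p G) : normalizer (largestPReducedOf p X : Set G) ∈ charPSubgroups p G := by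
  apply hP _ (hTX.trans (le_normalizer_largest p X))
  intro h
  apply Y_ne_bot hTX hX
  rw [eq_bot_iff, ← h]
  exact le_pCoreOf Subgroup.le_normalizer le_rfl (pRed_largestPReducedOf p X).isPGroup

theorem normalizer_eq (hP : Par p (T : Subgroup G)) {X : Subgroup G} (hTX : (T : Subgroup G) ≤ X)
    (hX : X ∈ maxCharPSubgroups p G) : normalizer (largestPReducedOf p X : Set G) = X :=
  hX.2 _ (normalizer_mem hP hTX hX.1) (le_normalizer_largest p X)

/-- a subgroup of `M` of index prime to `p` contains a conjugate of `T`. -/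
theorem exists_conj_ge {M N : Subgroup G} (hTM : (T : Subgroup G) ≤ M) (hNM : N ≤ M) (hMN : M ≤ normalizer (N : Set G))
    {R : Subgroup G} (hRM : R ≤ M) (hM : M ≤ N ⊔ R) (hTR : (T : Subgroup G) ⊓ N ≤ R) (hTNs : IsSyl p ((T : Subgroup G) ⊓ N) N) :
    ∃ m ∈ M, (T : Subgroup G) ≤ R.map (MulAut.conj m).toMonoidHom := by
  obtain ⟨N', hN'⟩ : ∃ N', N' = N.subgroupOf M := ⟨_, rfl⟩
  obtain ⟨R', hR'⟩ : ∃ R', R' = R.subgroupOf M := ⟨_, rfl⟩
  haveI : N'.Normal := by rw [hN']; exact subgroupOf_normal_of_le_normalizer hMN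
  have hsup : R' ⊔ N' = ⊤ := by
    rw [hN', hR', ← Subgroup.subgroupOf_sup hRM hNM, Subgroup.subgroupOf_eq_top, sup_comm]; exact hM
  have h1 : N'.index = N'.relIndex R' := by
    rw [← Subgroup.relIndex_top_right, ← hsup, Subgroup.relIndex_sup_right]
  have h2 : R'.index = R'.relIndex N' := by
    have e1 : R'.relIndex N' * N'.index = (R' ⊓ N').index := by
      rw [← Subgroup.inf_relIndex_right, Subgroup.relIndex_mul_index inf_le_right]
    have e2 : N'.relIndex R' * R'.index = (R' ⊓ N').index := by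
      rw [← Subgroup.inf_relIndex_right, inf_comm N' R', Subgroup.relIndex_mul_index inf_le_left]
    have e3 : 0 < N'.index := Nat.pos_of_ne_zero Subgroup.index_ne_zero_of_finite
    rw [← h1] at e2
    exact Nat.eq_of_mul_eq_mul_left e3 (by rw [e2, ← e1, mul_comm])
  have h3 : R'.relIndex N' = R.relIndex N := by
    rw [hN', hR']
    have := Subgroup.relIndex_subgroupOf (H := R) (K := N) (L := M) hNM
    exact this
  have h4 : ¬ p ∣ R.relIndex N := by
    intro hd
    obtain ⟨P, hPe⟩ := hTNs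
    have h5 : R.relIndex N ∣ ((T : Subgroup G) ⊓ N).relIndex N := by
      have : (R ⊓ N).relIndex N ∣ ((T : Subgroup G) ⊓ N).relIndex N :=
        Subgroup.relIndex_dvd_of_le_left N (le_inf hTR inf_le_right)
      rwa [Subgroup.inf_relIndex_right] at this
    have h6 : ((T : Subgroup G) ⊓ N).relIndex N = (P : Subgroup N).index := by
      show (((T : Subgroup G) ⊓ N).subgroupOf N).index = _
      rw [← hPe, subgroupOf_map_subtype']
    rw [h6] at h5
    exact P.not_dvd_index (hd.trans h5)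
  have h7 : ¬ p ∣ R'.index := by rw [h2, h3]; exact h4
  obtain ⟨P, -, hP⟩ := CfsgLib.H6.exists_sylow_le_of_not_dvd_index p R' h7 ⊥ IsPGroup.of_bot bot_le
  have h8 : IsSyl p ((P : Subgroup M).map M.subtype) M := ⟨P, rfl⟩
  obtain ⟨m, hm, h9⟩ := h8.conj_of_isSyl (isSyl_sylow T hTM)
  refine ⟨m, hm, ?_⟩
  rw [← h9]
  apply Subgroup.map_mono
  rw [Subgroup.map_le_iff_le_comap]
  exact hP.trans (by rw [hR']; exact le_rfl)

/-- from `X₁ = M C₁` to `(X₁ ∩ L†) ≤ (M ∩ L†) C`. -/
theorem inf_le_of_sup {M X₁ C₁ C D : Subgroup G} (hn : M ≤ normalizer (C₁ : Set G)) (hX : X₁ ≤ M ⊔ C₁)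
    (hC : C₁ ≤ C) (hCD : C ≤ D) : X₁ ⊓ D ≤ (M ⊓ D) ⊔ C := by
  intro x hx
  obtain ⟨m, hm, c, hc, rfl⟩ := (mem_sup_of_le_normalizer hn).1 (hX (Subgroup.mem_inf.1 hx).1)
  have h1 : m ∈ D := by
    have : m = m * c * c⁻¹ := by group
    rw [this]
    exact D.mul_mem (Subgroup.mem_inf.1 hx).2 (D.inv_mem (hCD (hC hc)))
  exact Subgroup.mul_mem_sup (Subgroup.mem_inf.2 ⟨hm, h1⟩) (hC hc)

theorem main (hP : Par p (T : Subgroup G)) {L : Subgroup G} (hTL : (T : Subgroup G) ≤ L)
    (hL : L ∈ charPSubgroups p G) :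
    ∃ M Ls : Subgroup G, (T : Subgroup G) ≤ M ∧ IsInFrakM p M ∧ (T : Subgroup G) ≤ Ls ∧ Ls ≤ M ∧
      Ls ∈ charPSubgroups p G ∧ largestPReducedOf p L = largestPReducedOf p Ls ∧
      largestPReducedOf p L ≤ largestPReducedOf p M ∧
      L ⊔ centralizer (largestPReducedOf p L : Set G) = Ls ⊔ centralizer (largestPReducedOf p L : Set G) := by
  set YL := largestPReducedOf p L with hYL
  have hYLr : PRed p YL L := pRed_largestPReducedOf p L
  set C := centralizer (YL : Set G) with hC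
  -- choose `X₁`
  obtain ⟨S, hSdef⟩ : ∃ S : Set (Subgroup G), S = {X | X ∈ maxCharPSubgroups p G ∧ (T : Subgroup G) ≤ X ∧
    YL ≤ largestPReducedOf p X ∧ L ≤ (X ⊓ (L ⊔ C)) ⊔ C} := ⟨_, rfl⟩
  have hmem : ∀ X, X ∈ S ↔ (X ∈ maxCharPSubgroups p G ∧ (T : Subgroup G) ≤ X ∧
    YL ≤ largestPReducedOf p X ∧ L ≤ (X ⊓ (L ⊔ C)) ⊔ C) := fun X => by rw [hSdef]; rfl
  have hne : S.Nonempty := by
    obtain ⟨X, hX, hNX⟩ := exists_max_charP (normalizer_mem hP hTL hL)
    have hLX : L ≤ X := (le_normalizer_largest p L).trans hNX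
    exact ⟨X, (hmem X).2 ⟨hX, hTL.trans hLX, Y_mono hTL hLX hX.1,
      (le_inf hLX le_sup_left).trans le_sup_left⟩⟩
  obtain ⟨X₁, hX₁S, hX₁max⟩ := (Set.toFinite S).exists_maximalFor (fun X => Nat.card (largestPReducedOf p X)) S hne
  obtain ⟨hX₁m, hTX₁, hYX₁, hLX₁⟩ := (hmem X₁).1 hX₁S
  set Y₁ := largestPReducedOf p X₁ with hY₁
  have hY₁r : PRed p Y₁ X₁ := pRed_largestPReducedOf p X₁
  set C₁ := centralizer (Y₁ : Set G) with hC₁
  have hNX₁ : normalizer (Y₁ : Set G) = X₁ := normalizer_eq hP hTX₁ hX₁m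
  have hC₁X : C₁ ≤ X₁ := by rw [← hNX₁]; exact Subgroup.centralizer_le_normalizer _
  have hXC₁ : X₁ ≤ normalizer (C₁ : Set G) := le_normalizer_centralizer hY₁r.2.1
  have hC₁C : C₁ ≤ C := Subgroup.centralizer_le hYX₁
  -- choose `M`
  obtain ⟨M, hM⟩ := (Set.toFinite {M : Subgroup G | (T : Subgroup G) ≤ M ∧ M ≤ X₁ ∧ X₁ ≤ M ⊔ C₁}).exists_minimal
    ⟨X₁, hTX₁, le_rfl, le_sup_left⟩
  obtain ⟨hTM, hMX, hXM⟩ := hM.1
  have hMmin : ∀ K : Subgroup G, (T : Subgroup G) ≤ K → K ≤ M → X₁ ≤ K ⊔ C₁ → M ≤ K := fun K h1 h2 h3 =>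
    hM.2 ⟨h1, h2.trans hMX, h3⟩ h2
  have hMC₁ : M ≤ normalizer (C₁ : Set G) := hMX.trans hXC₁
  have hMn : M ≤ normalizer ((M ⊓ C₁ : Subgroup G) : Set G) := le_normalizer_inf Subgroup.le_normalizer hMC₁
  have hT₁s : IsSyl p ((T : Subgroup G) ⊓ C₁) (M ⊓ C₁) :=
    isSyl_inf_centralizer (isSyl_sylow T hTM) (hMX.trans hY₁r.2.1)
  have hTn : (T : Subgroup G) ≤ normalizer (((T : Subgroup G) ⊓ C₁ : Subgroup G) : Set G) :=
    le_normalizer_inf Subgroup.le_normalizer (hTM.trans hMC₁)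
  have hMT₁ : M ≤ normalizer (((T : Subgroup G) ⊓ C₁ : Subgroup G) : Set G) := by
    have h1 := hT₁s.frattini inf_le_left hMn
    refine (hMmin (M ⊓ normalizer (((T : Subgroup G) ⊓ C₁ : Subgroup G) : Set G)) (le_inf hTM hTn) inf_le_left ?_).trans inf_le_right
    refine hXM.trans (sup_le ?_ le_sup_right)
    conv_lhs => rw [← h1]
    exact sup_le (inf_le_right.trans le_sup_right) le_sup_left
  have hOM : pCoreOf p M = (T : Subgroup G) ⊓ C₁ := by
    apply le_antisymm
    · refine le_inf (isSyl_sylow T hTM).pCoreOf_le ?_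
      refine hY₁r.le_centralizer_of_factor (N := M) ((pCoreOf_le p M).trans hMX) ?_ (le_normalizer_pCoreOf p M) hMX
        (pow_mem_centralizer_of_isPGroup (pCoreOf_isPGroup p M))
      exact hXM.trans (sup_le_sup_left (le_inf hC₁X le_rfl) M)
    · exact le_pCoreOf (inf_le_left.trans hTM) hMT₁ (T.isPGroup'.to_le inf_le_left)
  have hOX : pCoreOf p X₁ ≤ pCoreOf p M := by
    rw [hOM]; exact le_inf (isSyl_sylow T hTX₁).pCoreOf_le hY₁r.pCoreOf_le_centralizer
  have hMcp : M ∈ charPSubgroups p G := by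
    apply hP M hTM
    intro h
    apply (mem_charP_iff.1 hX₁m.1).1
    rw [eq_bot_iff, ← h]; exact hOX
  have hYM : largestPReducedOf p M = Y₁ := by
    apply le_antisymm (Y_mono hTM hMX hX₁m.1)
    apply PRed.le_largest
    exact hY₁r.of_le_sup ((Y_le_T hTX₁).trans hTM) hXM (hMX.trans le_sup_left)
  have hMsup : M ⊔ C₁ = X₁ := le_antisymm (sup_le hMX hC₁X) hXM
  have hKC : ∀ K : Subgroup G, M ≤ K → L ≤ (K ⊓ (L ⊔ C)) ⊔ C := by
    intro K hK
    refine hLX₁.trans (sup_le ?_ le_sup_right)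
    exact (inf_le_of_sup hMC₁ hXM hC₁C le_sup_right).trans (sup_le_sup_right (inf_le_inf_right _ hK) C)
  have hFM : IsInFrakM p M := by
    refine ⟨hMcp, ?_, ?_, ?_, ?_, ?_⟩
    · rw [hYM, hMsup]; exact hX₁m
    · intro X hX hMX'
      rw [hYM]
      show X = M ⊔ C₁
      rw [hMsup]
      have hTX := hTM.trans hMX'
      have h1 : Y₁ ≤ largestPReducedOf p X := by rw [← hYM]; exact Y_mono hTM hMX' hX.1
      have h2 : X ∈ S := (hmem X).2 ⟨hX, hTX, hYX₁.trans h1, hKC X hMX'⟩
      have h3 := hX₁max h2 (Subgroup.card_le_of_le h1)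
      have h4 : Y₁ = largestPReducedOf p X := Subgroup.eq_of_le_of_card_ge h1 h3
      rw [← normalizer_eq hP hTX hX, ← h4, hNX₁]
    · rw [hYM]
      show Y₁ = largestPReducedOf p (M ⊔ C₁)
      rw [hMsup]
    · rw [hYM]
      exact isPClosed_of_normal_sylow hT₁s (inf_le_left.trans hMT₁)
    · rw [hYM]
      show ((M ⊓ C₁).subgroupOf M).map (QuotientGroup.mk' (pCore p ↥M)) ≤ frattini (↥M ⧸ pCore p ↥M)
      refine le_iInf₂ fun K hK => ?_
      by_contra hcon
      set N' := (M ⊓ C₁).subgroupOf M with hN'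
      haveI hN'n : N'.Normal := subgroupOf_normal_of_le_normalizer hMn
      set q := QuotientGroup.mk' (pCore p ↥M) with hq
      have hqs : Function.Surjective q := QuotientGroup.mk'_surjective _
      haveI hNqn : (N'.map q).Normal := Subgroup.Normal.map hN'n q hqs
      have htop : N'.map q ⊔ K = ⊤ := by
        rcases eq_or_lt_of_le (le_sup_right : K ≤ N'.map q ⊔ K) with h | h
        · exfalso; apply hcon; rw [h]; exact le_sup_left
        · exact hK.2 _ h
      obtain ⟨R, hR⟩ : ∃ R, R = (K.comap q).map M.subtype := ⟨_, rfl⟩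
      have hRM : R ≤ M := by rw [hR]; exact Subgroup.map_subtype_le _
      have hMR : M ≤ (M ⊓ C₁) ⊔ R := by
        intro m hm
        have h1 : q ⟨m, hm⟩ ∈ N'.map q ⊔ K := by rw [htop]; trivial
        obtain ⟨_, ⟨n, hn, rfl⟩, k, hk, h2⟩ := Subgroup.mem_sup_of_normal_left.1 h1
        have h3 : n⁻¹ * ⟨m, hm⟩ ∈ K.comap q := by
          rw [Subgroup.mem_comap, map_mul, map_inv, ← h2]
          simpa using hk
        have h4 : m = (n : G) * ((n⁻¹ * ⟨m, hm⟩ : ↥M) : G) := by
          rw [Subgroup.coe_mul, Subgroup.coe_inv]; group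
        rw [h4]
        refine Subgroup.mul_mem_sup (mem_subgroupOf.1 hn) ?_
        rw [hR]; exact ⟨_, h3, rfl⟩
      have hTe : (T : Subgroup G) ⊓ (M ⊓ C₁) = (T : Subgroup G) ⊓ C₁ := by
        rw [← inf_assoc, inf_eq_left.2 hTM]
      obtain ⟨m, hm, hTR⟩ := exists_conj_ge (T := T) (N := M ⊓ C₁) (R := R) hTM inf_le_left hMn hRM hMR (by
          rw [hTe, ← hOM, hR]
          apply Subgroup.map_mono
          intro x hx
          rw [Subgroup.mem_comap]
          have : q x = 1 := (QuotientGroup.eq_one_iff x).2 hx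
          rw [this]; exact K.one_mem) (by rw [hTe]; exact hT₁s)
      have hMm : M.map (MulAut.conj m).toMonoidHom = M := mem_normalizer_iff_map_conj.1 (Subgroup.le_normalizer hm)
      have hCm : C₁.map (MulAut.conj m).toMonoidHom = C₁ := mem_normalizer_iff_map_conj.1 (hMC₁ hm)
      have h5 : M ≤ R.map (MulAut.conj m).toMonoidHom := by
        apply hMmin _ hTR
        · rw [← hMm]; exact Subgroup.map_mono hRM
        · refine hXM.trans (sup_le ?_ le_sup_right)
          have h6 := Subgroup.map_mono (f := (MulAut.conj m).toMonoidHom) hMR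
          rw [hMm, Subgroup.map_sup] at h6
          refine h6.trans (sup_le ?_ le_sup_left)
          refine le_trans ?_ le_sup_right
          exact (Subgroup.map_mono inf_le_right).trans hCm.le
      have h7 : R = M := by
        apply Subgroup.eq_of_le_of_card_ge hRM
        rw [← card_map_conj R m]
        exact Subgroup.card_le_of_le h5
      apply hK.1
      have h8 : K.comap q = ⊤ := by
        apply Subgroup.map_injective M.subtype_injective
        rw [← hR, h7, ← MonoidHom.range_eq_map, Subgroup.range_subtype]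
      exact Subgroup.comap_injective hqs (by rw [h8, Subgroup.comap_top])
  set D := L ⊔ C with hD
  have hDn : D ≤ normalizer (YL : Set G) := sup_le hYLr.2.1 (Subgroup.centralizer_le_normalizer _)
  set K := M ⊓ D with hK
  have hTK : (T : Subgroup G) ≤ K := le_inf hTM (hTL.trans le_sup_left)
  have hKn : K ≤ normalizer (YL : Set G) := inf_le_right.trans hDn
  have hT0s : IsSyl p ((T : Subgroup G) ⊓ C) (K ⊓ C) := isSyl_inf_centralizer (isSyl_sylow T hTK) hKn
  have hKCn : K ≤ normalizer (C : Set G) := le_normalizer_centralizer hKn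
  have hfr := hT0s.frattini inf_le_left (le_normalizer_inf Subgroup.le_normalizer hKCn)
  set Ls := K ⊓ normalizer (((T : Subgroup G) ⊓ C : Subgroup G) : Set G) with hLs
  have hTLs : (T : Subgroup G) ≤ Ls := le_inf hTK (le_normalizer_inf Subgroup.le_normalizer (hTK.trans hKCn))
  have hLsD : Ls ≤ L ⊔ C := inf_le_left.trans inf_le_right
  have hLLs : L ≤ Ls ⊔ C := by
    refine (hKC M le_rfl).trans (sup_le ?_ le_sup_right)
    show K ≤ Ls ⊔ C
    conv_lhs => rw [← hfr]
    exact sup_le (inf_le_right.trans le_sup_right) le_sup_left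
  have hYs : PRed p YL Ls := hYLr.of_le_sup ((Y_le_T hTL).trans hTLs) hLLs hLsD
  have hOs : pCoreOf p Ls = (T : Subgroup G) ⊓ C := by
    apply le_antisymm
    · exact le_inf (isSyl_sylow T hTLs).pCoreOf_le hYs.pCoreOf_le_centralizer
    · exact le_pCoreOf (inf_le_left.trans hTLs) inf_le_right (T.isPGroup'.to_le inf_le_left)
  have hLsc : Ls ∈ charPSubgroups p G := by
    apply hP Ls hTLs
    intro h
    apply Y_ne_bot hTL hL
    rw [eq_bot_iff, ← h]
    exact hYs.le_pCoreOf
  refine ⟨M, Ls, hTM, hFM, hTLs, inf_le_left.trans inf_le_left, hLsc, ?_, ?_, ?_⟩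
  · apply le_antisymm hYs.le_largest
    have h1 := (pRed_largestPReducedOf p Ls).le_omega
    rw [hOs] at h1
    have h2 := (largest_structure (charPOf_of_mem hL) (isSyl_sylow T hTL) rfl).2.2
    rw [hYL, h2]
    exact h1
  · rw [hYM]; exact hYX₁
  · exact le_antisymm (sup_le hLLs le_sup_right) (sup_le hLsD le_sup_right)

/-- `C_G(V) ≤ N_G(Q)` for `V` a nontrivial `p`-group normalized by the large subgroup `Q`. -/
theorem centralizer_le_normalizer_large {Q V : Subgroup G} (hQp : IsPGroup p ↥Q) (hLg : IsLarge Q)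
    (hV : IsPGroup p ↥V) (hV1 : V ≠ ⊥) (hQV : Q ≤ normalizer (V : Set G)) :
    centralizer (V : Set G) ≤ normalizer (Q : Set G) := by
  have h1 := inf_centralizer_ne_bot_of_isPGroup hQp hV hV1 hQV
  have h2 := hLg.2 _ inf_le_right h1
  refine le_trans ?_ h2
  exact (Subgroup.centralizer_le (inf_le_left : V ⊓ centralizer (Q : Set G) ≤ V)).trans
    (Subgroup.centralizer_le_normalizer _)

/-- conjugates of `Q` inside `L C_G(Y_L)` lie in every `K ≥ T` with `K C_G(Y_L) = L C_G(Y_L)`. -/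
theorem conj_le {Q : Subgroup G} (hQp : IsPGroup p ↥Q) (hLg : IsLarge Q) {V K : Subgroup G}
    (hV : IsPGroup p ↥V) (hV1 : V ≠ ⊥) (hTK : (T : Subgroup G) ≤ K) (hK : K ≤ normalizer (V : Set G))
    {g : G} (hg : Q.map (MulAut.conj g).toMonoidHom ≤ K ⊔ centralizer (V : Set G)) :
    Q.map (MulAut.conj g).toMonoidHom ≤ K := by
  set C := centralizer (V : Set G) with hC
  have hDn : K ⊔ C ≤ normalizer (V : Set G) := sup_le hK (Subgroup.centralizer_le_normalizer _)
  have hKC : K ≤ normalizer (C : Set G) := le_normalizer_centralizer hK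
  -- `C` normalizes `Q^g`
  have h1 : C ≤ normalizer ((Q.map (MulAut.conj g).toMonoidHom : Subgroup G) : Set G) := by
    have h2 : Q ≤ normalizer ((V.map (MulAut.conj g⁻¹).toMonoidHom : Subgroup G) : Set G) := by
      have h3 := Subgroup.map_mono (f := (MulAut.conj g⁻¹).toMonoidHom) (hg.trans hDn)
      rw [map_conj_mul, inv_mul_cancel, map_conj_one, ← normalizer_map_conj] at h3
      exact h3
    have h4 := centralizer_le_normalizer_large hQp hLg (hV.map _)
      (fun h => hV1 ((Subgroup.map_eq_bot_iff_of_injective _ (MulAut.conj g⁻¹).injective).1 h)) h2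
    have h5 := Subgroup.map_mono (f := (MulAut.conj g).toMonoidHom) h4
    rw [← normalizer_map_conj] at h5
    refine le_trans ?_ h5
    rw [centralizer_map_conj, map_conj_mul, mul_inv_cancel, map_conj_one]
  have hTD : (T : Subgroup G) ≤ K ⊔ C := hTK.trans le_sup_left
  obtain ⟨l, hl, hle⟩ := (isSyl_sylow T hTD).exists_conj_le hg (hQp.map _)
  obtain ⟨s, hs, c, hc, rfl⟩ := (mem_sup_of_le_normalizer hKC).1 hl
  have hc' : s * c * s⁻¹ ∈ C := (Subgroup.mem_normalizer_iff.1 (hKC hs) c).1 hc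
  set d := s * c * s⁻¹ with hd
  have e1 : s * c = d * s := by rw [hd]; group
  rw [e1, ← map_conj_mul] at hle
  have h6 := Subgroup.map_mono (f := (MulAut.conj d⁻¹).toMonoidHom) hle
  rw [map_conj_mul (H := T.map (MulAut.conj s).toMonoidHom), inv_mul_cancel, map_conj_one,
    mem_normalizer_iff_map_conj.1 (h1 (C.inv_mem hc'))] at h6
  refine h6.trans ?_
  rw [← mem_normalizer_iff_map_conj.1 (Subgroup.le_normalizer hs)]
  exact Subgroup.map_mono hTK

theorem weakClosure_mono_of {Q A B : Subgroup G} (h : ∀ g : G, Q.map (MulAut.conj g).toMonoidHom ≤ A →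
    Q.map (MulAut.conj g).toMonoidHom ≤ B) : weakClosure Q A ≤ weakClosure Q B := by
  unfold weakClosure
  refine iSup_le fun g => ?_
  exact le_iSup (fun g : {g : G // Q.map (MulAut.conj g).toMonoidHom ≤ B} => Q.map (MulAut.conj (g : G)).toMonoidHom)
    ⟨g.1, h g.1 g.2⟩

end

end CfsgLib.LM8
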