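import Cfsg.Agent.S2843
import Cfsg.Agent.LibComp
import Cfsg.Agent.LibLE12

/-! Large subgroups and quasisimple sections. (helper8) -/

set_option autoImplicit false
set_option linter.all false

namespace CfsgLib.LgQ8

open Cfsg Subgroup CfsgLib.LE CfsgLib.Comp
open scoped commutatorElement

section abstractX

variable {X : Type*} [Group X] {p : ℕ}

theorem dich {R N : Subgroup X} (hR : IsQuasisimple R) (hNR : N ≤ R) (hn : R ≤ normalizer (N : Set X)) :
    N = R ∨ ⁅N, R⁆ = ⊥ := by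
  haveI : (N.subgroupOf R).Normal := (normal_subgroupOf_iff_le_normalizer hNR).2 hn
  rcases quasisimple_normal hR (N.subgroupOf R) with h | h
  · left; exact le_antisymm hNR (subgroupOf_eq_top.1 h)
  · right
    rw [commutator_eq_bot_iff_le_centralizer]
    intro n hn' 
    rw [mem_centralizer_iff]
    intro r hr
    have h1 := h (show (⟨n, hNR hn'⟩ : R) ∈ N.subgroupOf R from hn')
    exact congrArg Subtype.val (mem_center_iff.1 h1 ⟨r, hr⟩)

theorem dich' {R Y : Subgroup X} (hR : IsQuasisimple R) (hY : Y ≤ normalizer (R : Set X)) :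
    ⁅R, Y⁆ = R ∨ ⁅R, Y⁆ = ⊥ := by
  have h1 : ⁅R, Y⁆ ≤ R := Subgroup.le_normalizer_iff_commutator_le_left.1 hY
  rcases dich hR h1 (Subgroup.normalizer_commutator_ge_left R Y) with h | h
  · exact Or.inl h
  · right; exact commutator_eq_bot_of_perfect (quasisimple_commutator hR) h

theorem pfree [Finite X] [hp : Fact p.Prime] (hO : pCore p X = ⊥) {Y : Subgroup X} (hY : IsPGroup p ↥Y)
    (hYR : Y ≤ centralizer (pResidual p X : Set X)) : Y = ⊥ := by
  set D := centralizer (pResidual p X : Set X) with hD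
  obtain ⟨S, hS, hYS⟩ := exists_isSyl_of_le hYR hY
  have h1 : (pResidual p ↥D).map D.subtype ≤ pResidual p X := map_pResidual_le_of _
  have h2 : D ≤ normalizer (S : Set X) := by
    conv_lhs => rw [← hS.resOf_sup]
    refine sup_le ?_ Subgroup.le_normalizer
    refine le_trans ?_ (Subgroup.centralizer_le_normalizer _)
    rw [Subgroup.le_centralizer_iff]
    exact hS.le.trans (Subgroup.centralizer_le h1)
  have hDn : D.Normal := by
    rw [hD]; infer_instance
  have h3 : S ≤ pCoreOf p D := le_pCoreOf hS.le h2 hS.isPGroup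
  have h4 : pCoreOf p D ≤ pCore p X := by
    apply le_pCore
    · rw [← Subgroup.normalizer_eq_top_iff, eq_top_iff]
      refine le_trans ?_ (normalizer_le_normalizer_pCoreOf p D)
      rw [Subgroup.normalizer_eq_top_iff.2 hDn]
    · exact pCoreOf_isPGroup p D
  rw [eq_bot_iff, ← hO]
  exact hYS.trans (h3.trans h4)

end abstractX

section imgs

variable {G : Type*} [Group G] {E : Subgroup G} {X : Type*} [Group X]

/-- image of a subgroup of `G` under a map defined on `E` -/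
def img (f : ↥E →* X) (A : Subgroup G) : Subgroup X := (A.subgroupOf E).map f

theorem img_mono {f : ↥E →* X} {A B : Subgroup G} (h : A ≤ B) : img f A ≤ img f B :=
  Subgroup.map_mono (Subgroup.comap_mono h)

theorem mem_img {f : ↥E →* X} {A : Subgroup G} {x : ↥E} (hx : (x : G) ∈ A) : f x ∈ img f A := ⟨x, hx, rfl⟩

theorem le_sup_of_img {f : ↥E →* X} {A B K : Subgroup G} (hA : A ≤ E)
    (hK : ∀ x : ↥E, f x = 1 → (x : G) ∈ K) (h : img f A ≤ img f B) : A ≤ B ⊔ K := by
  intro a ha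
  obtain ⟨b, hb, hab⟩ := h (mem_img (f := f) (x := ⟨a, hA ha⟩) ha)
  have h1 : f (b⁻¹ * ⟨a, hA ha⟩) = 1 := by rw [map_mul, map_inv, hab, inv_mul_cancel]
  have h2 := hK _ h1
  have h3 : a = (b : G) * ((b⁻¹ * ⟨a, hA ha⟩ : ↥E) : G) := by simp
  rw [h3]; exact Subgroup.mul_mem_sup hb h2

theorem img_commutator {f : ↥E →* X} {A B : Subgroup G} (hA : A ≤ E) (hB : B ≤ E) :
    img f ⁅A, B⁆ = ⁅img f A, img f B⁆ := by
  unfold img
  rw [← map_commutator]
  congr 1
  apply Subgroup.map_injective E.subtype_injective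
  rw [map_commutator, map_subtype_subgroupOf hA, map_subtype_subgroupOf hB,
    map_subtype_subgroupOf ((commutator_mono hA hB).trans (commutator_le_self E))]

theorem img_resOf [Finite G] {p : ℕ} [hp : Fact p.Prime] {f : ↥E →* X} {A : Subgroup G} (hA : A ≤ E) :
    img f ((pResidual p ↥A).map A.subtype) = (pResidual p ↥(img f A)).map (img f A).subtype := by
  unfold img
  have h1 : ((pResidual p ↥A).map A.subtype).subgroupOf E = (pResidual p ↥(A.subgroupOf E)).map (A.subgroupOf E).subtype := by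
    apply Subgroup.map_injective E.subtype_injective
    rw [resOf_subgroupOf_map hA, map_subtype_subgroupOf ((resOf_le A).trans hA)]
  rw [h1, resOf_map_of_hom]

theorem img_isPGroup {p : ℕ} {f : ↥E →* X} {A : Subgroup G} (hA : IsPGroup p ↥A) : IsPGroup p ↥(img f A) :=
  (isPGroup_subgroupOf E hA).map f

theorem img_normal {f : ↥E →* X} (hf : Function.Surjective f) {A : Subgroup G} (hA : E ≤ normalizer (A : Set G)) :
    (img f A).Normal :=
  Subgroup.Normal.map (subgroupOf_normal_of_le_normalizer hA) f hf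

theorem img_self {f : ↥E →* X} (hf : Function.Surjective f) : img f E = ⊤ := by
  unfold img
  rw [subgroupOf_self, Subgroup.map_top_of_surjective f hf]

theorem le_normalizer_commutator {A H K : Subgroup G} (h1 : A ≤ normalizer (H : Set G))
    (h2 : A ≤ normalizer (K : Set G)) : A ≤ normalizer ((⁅H, K⁆ : Subgroup G) : Set G) := by
  intro a ha
  rw [mem_normalizer_iff_map_conj, map_commutator, mem_normalizer_iff_map_conj.1 (h1 ha),
    mem_normalizer_iff_map_conj.1 (h2 ha)]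

end imgs

section main

variable {G : Type*} [Group G] [Finite G] {p : ℕ} [hp : Fact p.Prime]
variable {E : Subgroup G} {X : Type*} [Group X] [Finite X]

structure Setup (p : ℕ) (Q U E : Subgroup G) (f : ↥E →* X) : Prop where
  hQp : IsPGroup p ↥Q
  hQ1 : Q ≠ ⊥
  hQ : IsLarge Q
  hU : IsElementaryAbelian p U
  hU1 : U ≠ ⊥
  hQE : Q ≤ E
  hEU : E ≤ normalizer (U : Set G)
  hQn : ¬ E ≤ normalizer (Q : Set G)
  hf : Function.Surjective f
  hker : ∀ x : ↥E, f x = 1 ↔ (x : G) ∈ centralizer (U : Set G)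
  hred : pCore p X = ⊥
  hqs : IsQuasisimple ↥(pResidual p X)

variable {Q U : Subgroup G} {f : ↥E →* X}

theorem Setup.hUp (h : Setup p Q U E f) : IsPGroup p ↥U := isPGroup_of_elementaryAbelian h.hU

theorem Setup.hWE (h : Setup p Q U E f) : weakClosure Q E ≤ E := weakClosure_le Q E

theorem Setup.hEW (h : Setup p Q U E f) : E ≤ normalizer (weakClosure Q E : Set G) := le_normalizer_weakClosure Q E

theorem Setup.hWC (h : Setup p Q U E f) : ⁅weakClosure Q E, centralizer (U : Set G)⁆ ≤ pCoreOf p (weakClosure Q E) :=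
  (Cfsg.Agent.S2843.result Q h.hQp h.hQ1 h.hQ E h.hQE U h.hUp h.hU1 h.hEU).2.1

theorem Setup.eq_bot_of_img (h : Setup p Q U E f) {Y : Subgroup G} (hYE : Y ≤ E) (hY : IsPGroup p ↥Y)
    (hc : ⁅pResidual p X, img f Y⁆ = ⊥) : Y ≤ centralizer (U : Set G) := by
  rw [commutator_comm, commutator_eq_bot_iff_le_centralizer] at hc
  have h1 := pfree h.hred (img_isPGroup hY) hc
  intro y hy
  have h2 := mem_img (f := f) (x := ⟨y, hYE hy⟩) hy
  rw [h1, Subgroup.mem_bot] at h2
  exact (h.hker _).1 h2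

theorem Setup.not_le (h : Setup p Q U E f) : ¬ Q ≤ centralizer (U : Set G) := by
  intro hQU
  apply h.hQn
  intro e he
  have h1 : Q.map (MulAut.conj e).toMonoidHom ≤ centralizer (U : Set G) := by
    have h2 := mem_normalizer_iff_map_conj.1 ((le_normalizer_centralizer h.hEU) he)
    rw [← h2]; exact Subgroup.map_mono hQU
  have h2 : Q.map (MulAut.conj e).toMonoidHom ≤ normalizer (Q : Set G) :=
    h1.trans (IsLarge.centralizer_le_normalizer h.hQp h.hQ h.hUp h.hU1 (h.hQE.trans h.hEU))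
  have h3 : IsPGroup p ↥(Q ⊔ Q.map (MulAut.conj e).toMonoidHom) :=
    h.hQp.to_sup_of_normal_left' (isPGroup_map_conj h.hQp e) h2
  rw [mem_normalizer_iff_map_conj]
  exact wc_conj_eq (IsLarge.wc h.hQp h.hQ1 h.hQ) h3 le_sup_left le_sup_right

theorem Setup.R_le (h : Setup p Q U E f) : pResidual p X ≤ img f (weakClosure Q E) := by
  haveI := img_normal h.hf h.hEW
  rcases dich' h.hqs (Y := img f (weakClosure Q E)) (by
    rw [Subgroup.normalizer_eq_top]; exact le_top) with h1 | h1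
  · rw [← h1]
    exact Subgroup.commutator_le_right _ _
  · exfalso
    apply h.not_le
    apply h.eq_bot_of_img h.hQE h.hQp
    rw [eq_bot_iff, ← h1]
    exact commutator_mono le_rfl (img_mono (le_weakClosure h.hQE))

theorem R_res : (pResidual p ↥(pResidual p X)).map (pResidual p X).subtype = pResidual p X := by
  have := resOf_resOf (p := p) (⊤ : Subgroup X)
  rwa [resOf_top] at this

/-- `E_∘` -/
def Er (p : ℕ) (Q E : Subgroup G) : Subgroup G := (pResidual p ↥(weakClosure Q E)).map (weakClosure Q E).subtype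

theorem Setup.ErW (h : Setup p Q U E f) : Er p Q E ≤ weakClosure Q E := resOf_le _

theorem Setup.ErE (h : Setup p Q U E f) : Er p Q E ≤ E := h.ErW.trans h.hWE

theorem Setup.EEr (h : Setup p Q U E f) : E ≤ normalizer (Er p Q E : Set G) :=
  h.hEW.trans (normalizer_le_normalizer_resOf _)

theorem Setup.res_Er (h : Setup p Q U E f) : (pResidual p ↥(Er p Q E)).map (Er p Q E).subtype = Er p Q E :=
  resOf_resOf _

theorem Setup.img_Er (h : Setup p Q U E f) : img f (Er p Q E) = pResidual p X := by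
  unfold Er
  rw [img_resOf h.hWE]
  apply le_antisymm (map_pResidual_le_of _)
  conv_lhs => rw [← R_res (p := p)]
  exact resOf_mono h.R_le

theorem Setup.a (h : Setup p Q U E f) : (pResidual p ↥E).map E.subtype ⊔ (E ⊓ centralizer (U : Set G)) =
    Er p Q E ⊔ (E ⊓ centralizer (U : Set G)) := by
  have hK : ∀ x : ↥E, f x = 1 → (x : G) ∈ E ⊓ centralizer (U : Set G) := fun x hx =>
    Subgroup.mem_inf.2 ⟨x.2, (h.hker x).1 hx⟩
  have h1 : img f ((pResidual p ↥E).map E.subtype) = pResidual p X := by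
    rw [img_resOf le_rfl, img_self h.hf, resOf_top]
  apply le_antisymm
  · exact sup_le (le_sup_of_img (resOf_le E) hK (by rw [h1, h.img_Er])) le_sup_right
  · exact sup_le (le_sup_of_img h.ErE hK (by rw [h1, h.img_Er])) le_sup_right

theorem Setup.W_gen (h : Setup p Q U E f) {N S : Subgroup G} (hS : IsSyl p S (weakClosure Q E)) (hSN : S ≤ N)
    (hN : weakClosure Q E ≤ normalizer (N : Set G)) : weakClosure Q E ≤ N := by
  conv_lhs => rw [weakClosure]
  apply iSup_le
  rintro ⟨g, hg⟩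
  obtain ⟨n, hn, hle⟩ := hS.exists_conj_le (le_weakClosure_of_conj hg) (isPGroup_map_conj h.hQp g)
  refine hle.trans ?_
  rw [← mem_normalizer_iff_map_conj.1 (hN hn)]
  exact Subgroup.map_mono hSN

theorem Setup.comm_aux (h : Setup p Q U E f) {N : Subgroup G} (hN : Er p Q E ≤ N ⊔ (E ⊓ centralizer (U : Set G)))
    (hNE : N ≤ weakClosure Q E) (hn : E ≤ normalizer (N : Set G)) :
    ∀ x ∈ Er p Q E, ∀ w ∈ weakClosure Q E, ⁅x, w⁆ ∈ N ⊔ pCoreOf p (weakClosure Q E) := by
  intro x hx w hw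
  obtain ⟨d, hd, c, hc, rfl⟩ := (mem_sup_of_le_normalizer' (inf_le_left.trans hn)).1 (hN hx)
  have h1 : ⁅c, w⁆ ∈ pCoreOf p (weakClosure Q E) := by
    have h2 : ⁅w, c⁆ ∈ pCoreOf p (weakClosure Q E) := h.hWC (commutator_mem_commutator hw (Subgroup.mem_inf.1 hc).2)
    rw [← commutatorElement_inv]; exact Subgroup.inv_mem _ h2
  have h3 : ⁅d, w⁆ ∈ N := by
    have h4 : w * d⁻¹ * w⁻¹ ∈ N := (Subgroup.mem_normalizer_iff.1 (hn (h.hWE hw)) _).1 (N.inv_mem hd)
    have : ⁅d, w⁆ = d * (w * d⁻¹ * w⁻¹) := by rw [commutatorElement_def]; group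
    rw [this]; exact N.mul_mem hd h4
  have h5 : ⁅d * c, w⁆ = d * ⁅c, w⁆ * d⁻¹ * ⁅d, w⁆ := by simp only [commutatorElement_def]; group
  rw [h5]
  refine Subgroup.mul_mem _ (Subgroup.mem_sup_right ?_) (Subgroup.mem_sup_left h3)
  exact (Subgroup.mem_normalizer_iff.1 (le_normalizer_pCoreOf p _ (hNE hd)) _).1 h1

theorem Setup.perfect (h : Setup p Q U E f) : ⁅Er p Q E, Er p Q E⁆ = Er p Q E := by
  apply le_antisymm (commutator_le_self _)
  set W := weakClosure Q E with hW
  set D := ⁅Er p Q E, Er p Q E⁆ with hD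
  set P := pCoreOf p W with hP
  have hDE : D ≤ Er p Q E := commutator_le_self _
  have hDW : D ≤ W := hDE.trans h.ErW
  have hEn : E ≤ normalizer (D : Set G) := le_normalizer_commutator h.EEr h.EEr
  have hle : Er p Q E ≤ D ⊔ (E ⊓ centralizer (U : Set G)) := by
    apply le_sup_of_img h.ErE (fun x hx => Subgroup.mem_inf.2 ⟨x.2, (h.hker x).1 hx⟩)
    rw [hD, img_commutator h.ErE h.ErE, h.img_Er, quasisimple_commutator h.hqs]
  have hcomm := h.comm_aux hle hDW hEn
  obtain ⟨S, hS⟩ := exists_isSyl p W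
  have hPS : P ≤ S := hS.pCoreOf_le
  have hSn : S ≤ normalizer (D : Set G) := hS.le.trans (h.hWE.trans hEn)
  have hWn : W ≤ normalizer ((D ⊔ S : Subgroup G) : Set G) := by
    conv_lhs => rw [← hS.resOf_sup]
    apply sup_le
    · rw [CfsgLib.LE.le_normalizer_iff]
      intro x hx y hy
      have hyW : y ∈ W := (sup_le hDW hS.le : D ⊔ S ≤ W) hy
      have h1 := hcomm x hx y hyW
      have h2 : x * y * x⁻¹ = ⁅x, y⁆ * y := by rw [commutatorElement_def]; group
      rw [h2]
      exact Subgroup.mul_mem _ ((sup_le_sup_left hPS D) h1) hy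
    · exact le_sup_right.trans Subgroup.le_normalizer
  have hWle := h.W_gen hS le_sup_right hWn
  show (pResidual p ↥W).map W.subtype ≤ D
  exact resOf_le_of_pow_mem fun x hx => pow_mem_of_mem_sup hS.isPGroup hSn (hWle hx)

theorem Setup.PEr (h : Setup p Q U E f) : pCoreOf p (weakClosure Q E) ⊓ Er p Q E ≤ pCoreOf p (Er p Q E) := by
  apply le_pCoreOf inf_le_right
  · exact le_normalizer_inf (h.ErW.trans (le_normalizer_pCoreOf p _)) Subgroup.le_normalizer
  · exact (pCoreOf_isPGroup p _).to_le inf_le_left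

theorem Setup.d (h : Setup p Q U E f) {Y : Subgroup G} (hYE : Y ≤ E) (hY : IsPGroup p ↥Y)
    (hYU : ¬ Y ≤ centralizer (U : Set G)) : ⁅Er p Q E, Y⁆ = Er p Q E := by
  have h1 : ⁅Er p Q E, Y⁆ ≤ Er p Q E := Subgroup.le_normalizer_iff_commutator_le_left.1 (hYE.trans h.EEr)
  apply le_antisymm h1
  set N := ⁅Er p Q E, Y⁆ with hN
  have hErN : Er p Q E ≤ normalizer (N : Set G) := Subgroup.normalizer_commutator_ge_left _ _
  have himg : img f N = pResidual p X := by
    rw [hN, img_commutator h.ErE hYE, h.img_Er]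
    rcases dich' h.hqs (Y := img f Y) (by rw [Subgroup.normalizer_eq_top]; exact le_top) with h2 | h2
    · exact h2
    · exact absurd (h.eq_bot_of_img hYE hY h2) hYU
  have hle : Er p Q E ≤ N ⊔ (E ⊓ centralizer (U : Set G)) := by
    apply le_sup_of_img h.ErE (fun x hx => Subgroup.mem_inf.2 ⟨x.2, (h.hker x).1 hx⟩)
    rw [himg, h.img_Er]
  -- `E_∘ = [E_∘, E_∘] ≤ N (P ∩ E_∘)`
  have hle2 : Er p Q E ≤ N ⊔ pCoreOf p (Er p Q E) := by
    conv_lhs => rw [← h.perfect]
    rw [commutator_le]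
    intro x hx y hy
    obtain ⟨d, hd, c, hc, hdc⟩ : ∃ d ∈ N, ∃ c ∈ E ⊓ centralizer (U : Set G), d * c = x := by
      obtain ⟨b, hb, hab⟩ := (show img f (Er p Q E) ≤ img f N by rw [himg, h.img_Er]) (mem_img (f := f) (x := ⟨x, h.ErE hx⟩) hx)
      have h3 : f (b⁻¹ * ⟨x, h.ErE hx⟩) = 1 := by rw [map_mul, map_inv, hab, inv_mul_cancel]
      exact ⟨b, hb, ((b⁻¹ * ⟨x, h.ErE hx⟩ : ↥E) : G), Subgroup.mem_inf.2 ⟨Subtype.mem _, (h.hker _).1 h3⟩, by simp⟩
    have hcE : c ∈ Er p Q E := by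
      have : c = d⁻¹ * x := by rw [← hdc]; group
      rw [this]; exact Subgroup.mul_mem _ (Subgroup.inv_mem _ (h1 hd)) hx
    have h4 : ⁅c, y⁆ ∈ pCoreOf p (Er p Q E) := by
      apply h.PEr
      refine Subgroup.mem_inf.2 ⟨?_, commutator_le_self _ (commutator_mem_commutator hcE hy)⟩
      have h2 : ⁅y, c⁆ ∈ pCoreOf p (weakClosure Q E) :=
        h.hWC (commutator_mem_commutator (h.ErW hy) (Subgroup.mem_inf.1 hc).2)
      rw [← commutatorElement_inv]; exact Subgroup.inv_mem _ h2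
    have h5 : ⁅d, y⁆ ∈ N := by
      have h4 : y * d⁻¹ * y⁻¹ ∈ N := (Subgroup.mem_normalizer_iff.1 (hErN hy) _).1 (N.inv_mem hd)
      have : ⁅d, y⁆ = d * (y * d⁻¹ * y⁻¹) := by rw [commutatorElement_def]; group
      rw [this]; exact N.mul_mem hd h4
    have h6 : ⁅d * c, y⁆ = d * ⁅c, y⁆ * d⁻¹ * ⁅d, y⁆ := by simp only [commutatorElement_def]; group
    rw [← hdc, h6]
    refine Subgroup.mul_mem _ (Subgroup.mem_sup_right ?_) (Subgroup.mem_sup_left h5)
    exact (Subgroup.mem_normalizer_iff.1 (le_normalizer_pCoreOf p _ (h1 hd)) _).1 h4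
  conv_lhs => rw [← h.res_Er]
  exact resOf_le_of_pow_mem fun x hx => pow_mem_of_mem_sup (pCoreOf_isPGroup p _) ((pCoreOf_le p _).trans hErN) (hle2 hx)

theorem Setup.c1 (h : Setup p Q U E f) [hn2 : ((centralizer (U : Set G)).subgroupOf (Er p Q E)).Normal] :
    IsQuasisimple (↥(Er p Q E) ⧸ (centralizer (U : Set G)).subgroupOf (Er p Q E)) := by
  obtain ⟨g, hg⟩ : ∃ g : ↥(Er p Q E) →* X, g = f.comp (inclusion h.ErE) := ⟨_, rfl⟩
  have hk : (centralizer (U : Set G)).subgroupOf (Er p Q E) = g.ker := by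
    ext x
    rw [MonoidHom.mem_ker, mem_subgroupOf, hg]
    exact (h.hker (inclusion h.ErE x)).symm
  have hr : g.range = pResidual p X := by
    rw [← h.img_Er, hg]
    ext x
    constructor
    · rintro ⟨y, rfl⟩; exact mem_img (f := f) (x := inclusion h.ErE y) y.2
    · rintro ⟨y, hy, rfl⟩; exact ⟨⟨y, hy⟩, rfl⟩
  have e : (↥(Er p Q E) ⧸ (centralizer (U : Set G)).subgroupOf (Er p Q E)) ≃* ↥(pResidual p X) :=
    ((QuotientGroup.quotientMulEquivOfEq hk).trans (QuotientGroup.quotientKerEquivRange g)).trans (MulEquiv.subgroupCongr hr)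
  exact quasisimple_equiv e.symm h.hqs

theorem Setup.core_ker (h : Setup p Q U E f) {x : ↥(Er p Q E)} (hx : x ∈ pCore p ↥(Er p Q E)) :
    f (inclusion h.ErE x) = 1 := by
  have h1 : (x : G) ∈ pCoreOf p E :=
    pCoreOf_le_pCoreOf_of_normal h.ErE h.EEr ⟨x, hx, rfl⟩
  have h2 : img f (pCoreOf p E) ≤ pCore p X :=
    le_pCore (img_normal h.hf (le_normalizer_pCoreOf p E)) (img_isPGroup (pCoreOf_isPGroup p E))
  have h3 := h2 (mem_img (f := f) (x := inclusion h.ErE x) h1)
  rwa [h.hred, Subgroup.mem_bot] at h3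

theorem Setup.c2 (h : Setup p Q U E f) : IsQuasisimple (↥(Er p Q E) ⧸ pCore p ↥(Er p Q E)) := by
  obtain ⟨g, hg⟩ : ∃ g : ↥(Er p Q E) →* ↥(pResidual p X), ∀ x, (g x : X) = f (inclusion h.ErE x) :=
    ⟨(f.comp (inclusion h.ErE)).codRestrict (pResidual p X) (fun x => by
      rw [← h.img_Er]; exact mem_img (f := f) (x := inclusion h.ErE x) x.2), fun x => rfl⟩
  have hgs : Function.Surjective g := by
    rintro ⟨x, hx⟩
    have hx' := hx
    rw [← h.img_Er] at hx'
    obtain ⟨y, hy, hyx⟩ := hx'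
    refine ⟨⟨y, hy⟩, Subtype.ext ?_⟩
    rw [hg]
    exact hyx
  have hgk : ∀ x, g x = 1 → (x : G) ∈ centralizer (U : Set G) := by
    intro x hx
    apply (h.hker (inclusion h.ErE x)).1
    rw [← hg, hx]; rfl
  obtain ⟨h2, hh2⟩ : ∃ h2 : ↥(Er p Q E) →* ↥(pResidual p X) ⧸ center ↥(pResidual p X),
      h2 = (QuotientGroup.mk' (center ↥(pResidual p X))).comp g := ⟨_, rfl⟩
  have hP : pCore p ↥(Er p Q E) ≤ h2.ker := by
    intro x hx
    rw [MonoidHom.mem_ker, hh2, MonoidHom.comp_apply]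
    have : g x = 1 := Subtype.ext (by rw [hg]; exact h.core_ker hx)
    rw [this, map_one]
  have hq : Function.Surjective (QuotientGroup.lift (pCore p ↥(Er p Q E)) h2 hP) := by
    intro y
    obtain ⟨r, rfl⟩ := QuotientGroup.mk'_surjective _ y
    obtain ⟨x, rfl⟩ := hgs r
    refine ⟨QuotientGroup.mk x, ?_⟩
    rw [QuotientGroup.lift_mk, hh2]; rfl
  haveI hper : Group.IsPerfect ↥(Er p Q E) := Subgroup.isPerfect_iff.2 h.perfect
  have hperK : Group.IsPerfect (↥(Er p Q E) ⧸ pCore p ↥(Er p Q E)) :=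
    Group.IsPerfect.ofSurjective (QuotientGroup.mk'_surjective (pCore p ↥(Er p Q E)))
  apply quasisimple_of_surjective _ hq ?_ h.hqs.2 hperK
  have hK : ⁅(⊤ : Subgroup (↥(Er p Q E) ⧸ pCore p ↥(Er p Q E))), ⊤⁆ = ⊤ := hperK.commutator_eq_top
  obtain ⟨N1, hN1⟩ : ∃ N1, N1 = (QuotientGroup.lift (pCore p ↥(Er p Q E)) h2 hP).ker := ⟨_, rfl⟩
  have hc : ⁅(⊤ : Subgroup (↥(Er p Q E) ⧸ pCore p ↥(Er p Q E))), N1⁆ = ⊥ := by
    apply commutator_eq_bot_of_perfect hK
    have s1 : ⁅(⊤ : Subgroup (↥(Er p Q E) ⧸ pCore p ↥(Er p Q E))), N1⁆ ≤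
        (g.ker).map (QuotientGroup.mk' (pCore p ↥(Er p Q E))) := by
      rw [commutator_le]
      intro a _ b hb
      obtain ⟨x, rfl⟩ := QuotientGroup.mk'_surjective _ a
      obtain ⟨y, rfl⟩ := QuotientGroup.mk'_surjective _ b
      rw [hN1, MonoidHom.mem_ker] at hb
      have hb2 : h2 y = 1 := hb
      rw [hh2, MonoidHom.comp_apply, QuotientGroup.mk'_apply, QuotientGroup.eq_one_iff] at hb2
      refine ⟨⁅x, y⁆, ?_, map_commutatorElement _ _ _⟩
      rw [SetLike.mem_coe, MonoidHom.mem_ker, map_commutatorElement, commutatorElement_eq_one_iff_mul_comm]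
      exact mem_center_iff.1 hb2 _
    rw [eq_bot_iff]
    refine (commutator_mono s1 le_rfl).trans ?_
    rw [commutator_le]
    rintro _ ⟨z, hz, rfl⟩ b _
    obtain ⟨y, rfl⟩ := QuotientGroup.mk'_surjective _ b
    rw [← map_commutatorElement, Subgroup.mem_bot, QuotientGroup.mk'_apply, QuotientGroup.eq_one_iff]
    have h3 : ((⁅z, y⁆ : ↥(Er p Q E)) : G) ∈ pCoreOf p (Er p Q E) := by
      apply h.PEr
      refine Subgroup.mem_inf.2 ⟨?_, Subtype.mem _⟩
      have h4 : ⁅(y : G), (z : G)⁆ ∈ pCoreOf p (weakClosure Q E) :=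
        h.hWC (commutator_mem_commutator (h.ErW y.2) (hgk z hz))
      have h5 : ((⁅z, y⁆ : ↥(Er p Q E)) : G) = (⁅(y : G), (z : G)⁆)⁻¹ := by
        rw [commutatorElement_inv]; rfl
      rw [h5]; exact Subgroup.inv_mem _ h4
    obtain ⟨w, hw, hwe⟩ := h3
    have : w = ⁅z, y⁆ := Subtype.ext hwe
    rwa [← this]
  intro n hn
  rw [← hN1] at hn
  rw [mem_center_iff]
  intro k
  have h6 : ⁅k, n⁆ = 1 := by
    have := commutator_mem_commutator (show k ∈ (⊤ : Subgroup _) from trivial) hn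
    rwa [hc, Subgroup.mem_bot] at this
  exact commutatorElement_eq_one_iff_mul_comm.1 h6

end main

end CfsgLib.LgQ8
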