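import Mathlib
import Cfsg.Agent.EqBase

/-! explicit permutations for the Mathieu groups of degree 11, 12: decidable facts -/

set_option autoImplicit false

namespace CfsgLib.M12DatH12

open Equiv

def S : Perm (Fin 12) := Equiv.swap (3 : Fin 12) 5 * Equiv.swap (3 : Fin 12) 4 * Equiv.swap (6 : Fin 12) 8 * Equiv.swap (6 : Fin 12) 7 * Equiv.swap (9 : Fin 12) 11 * Equiv.swap (9 : Fin 12) 10
def T : Perm (Fin 12) := Equiv.swap (3 : Fin 12) 9 * Equiv.swap (3 : Fin 12) 6 * Equiv.swap (4 : Fin 12) 10 * Equiv.swap (4 : Fin 12) 7 * Equiv.swap (5 : Fin 12) 11 * Equiv.swap (5 : Fin 12) 8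
def U : Perm (Fin 12) := Equiv.swap (4 : Fin 12) 9 * Equiv.swap (4 : Fin 12) 5 * Equiv.swap (4 : Fin 12) 6 * Equiv.swap (7 : Fin 12) 10 * Equiv.swap (7 : Fin 12) 11 * Equiv.swap (7 : Fin 12) 8
def V : Perm (Fin 12) := Equiv.swap (4 : Fin 12) 11 * Equiv.swap (4 : Fin 12) 5 * Equiv.swap (4 : Fin 12) 7 * Equiv.swap (6 : Fin 12) 8 * Equiv.swap (6 : Fin 12) 9 * Equiv.swap (6 : Fin 12) 10
def W : Perm (Fin 12) := Equiv.swap (4 : Fin 12) 8 * Equiv.swap (4 : Fin 12) 5 * Equiv.swap (4 : Fin 12) 10 * Equiv.swap (6 : Fin 12) 7 * Equiv.swap (6 : Fin 12) 9 * Equiv.swap (6 : Fin 12) 11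
def X1 : Perm (Fin 12) := Equiv.swap (0 : Fin 12) 3 * Equiv.swap (6 : Fin 12) 7 * Equiv.swap (8 : Fin 12) 10 * Equiv.swap (9 : Fin 12) 11
def X2 : Perm (Fin 12) := Equiv.swap (0 : Fin 12) 1 * Equiv.swap (6 : Fin 12) 9 * Equiv.swap (7 : Fin 12) 10 * Equiv.swap (8 : Fin 12) 11
def X3 : Perm (Fin 12) := Equiv.swap (1 : Fin 12) 2 * Equiv.swap (6 : Fin 12) 11 * Equiv.swap (7 : Fin 12) 9 * Equiv.swap (8 : Fin 12) 10

def E (i j : Fin 3) : Perm (Fin 12) :=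
  (match i with | 0 => 1 | 1 => S | 2 => S * S) * (match j with | 0 => 1 | 1 => T | 2 => T * T)

def Q (k : Fin 8) : Perm (Fin 12) :=
  match k with
  | 0 => 1
  | 1 => U * U
  | 2 => U
  | 3 => U * U * U
  | 4 => V
  | 5 => V * V * V
  | 6 => W
  | 7 => W * W * W

theorem US : ∀ i j : Fin 3, ∃ i' j' : Fin 3, U * E i j = E i' j' * U := by decide +kernel
theorem VS : ∀ i j : Fin 3, ∃ i' j' : Fin 3, V * E i j = E i' j' * V := by decide +kernel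
theorem WS : ∀ i j : Fin 3, ∃ i' j' : Fin 3, W * E i j = E i' j' * W := by decide +kernel
theorem UQ : ∀ k : Fin 8, ∃ k' : Fin 8, U * Q k = Q k' := by decide +kernel
theorem VQ : ∀ k : Fin 8, ∃ k' : Fin 8, V * Q k = Q k' := by decide +kernel
theorem WQ : ∀ k : Fin 8, ∃ k' : Fin 8, W * Q k = Q k' := by decide +kernel
theorem SE : ∀ i j : Fin 3, ∃ i' j' : Fin 3, S * E i j = E i' j' := by decide +kernel
theorem TE : ∀ i j : Fin 3, ∃ i' j' : Fin 3, T * E i j = E i' j' := by decide +kernel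
theorem X1Q : ∀ k : Fin 8, ∃ k' : Fin 8, X1 * Q k * X1⁻¹ = Q k' := by decide +kernel
theorem X2Q : ∀ k : Fin 8, ∃ k' : Fin 8, X2 * Q k * X2⁻¹ = Q k' := by decide +kernel
theorem X3Q : ∀ k : Fin 8, ∃ k' : Fin 8, X3 * Q k * X3⁻¹ = Q k' := by decide +kernel
theorem fix3 : ∀ i j : Fin 3, E i j 3 = 3 → i = 0 ∧ j = 0 := by decide +kernel
theorem Qfix3 : ∀ k : Fin 8, Q k 3 = 3 := by decide +kernel
theorem Efix : ∀ i j : Fin 3, E i j 0 = 0 ∧ E i j 1 = 1 ∧ E i j 2 = 2 := by decide +kernel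
theorem Qfix : ∀ k : Fin 8, Q k 0 = 0 ∧ Q k 1 = 1 ∧ Q k 2 = 2 := by decide +kernel
theorem fix4 : ∀ k : Fin 8, Q k 4 = 4 → k = 0 := by decide +kernel
theorem trE : ∀ a : Fin 12, a ≠ 0 → a ≠ 1 → a ≠ 2 → ∃ i j : Fin 3, E i j a = 3 := by decide +kernel
theorem trQ : ∀ a : Fin 12, a ≠ 0 → a ≠ 1 → a ≠ 2 → a ≠ 3 → ∃ k : Fin 8, Q k a = 4 := by
  decide +kernel
theorem S1sw : (S * (U * U)) 4 = 3 ∧ (S * (U * U)) 3 = 4 := by decide +kernel
theorem r1 : (S * (U * U)) ^ 2 = 1 := by decide +kernel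
theorem r2 : X1 ^ 2 = 1 := by decide +kernel
theorem r3 : X2 ^ 2 = 1 := by decide +kernel
theorem r4 : X3 ^ 2 = 1 := by decide +kernel
theorem b1 : (S * (U * U) * X1) ^ 3 = 1 := by decide +kernel
theorem b2 : (X1 * X2) ^ 3 = 1 := by decide +kernel
theorem b3 : (X2 * X3) ^ 3 = 1 := by decide +kernel
theorem c13 : (S * (U * U) * X2) ^ 2 = 1 := by decide +kernel
theorem c14 : (S * (U * U) * X3) ^ 2 = 1 := by decide +kernel
theorem c24 : (X1 * X3) ^ 2 = 1 := by decide +kernel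
theorem c31 : (X2 * (S * (U * U))) ^ 2 = 1 := by decide +kernel
theorem c41 : (X3 * (S * (U * U))) ^ 2 = 1 := by decide +kernel
theorem c42 : (X3 * X1) ^ 2 = 1 := by decide +kernel
theorem x1q : X1 3 = 0 ∧ X1 0 = 3 ∧ X1 4 = 4 ∧ X1 1 = 1 ∧ X1 2 = 2 := by decide +kernel
theorem x2q : X2 0 = 1 ∧ X2 1 = 0 ∧ X2 4 = 4 ∧ X2 3 = 3 ∧ X2 2 = 2 := by decide +kernel
theorem x3q : X3 1 = 2 ∧ X3 2 = 1 ∧ X3 4 = 4 ∧ X3 3 = 3 ∧ X3 0 = 0 := by decide +kernel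

end CfsgLib.M12DatH12
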