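import Mathlib
import Cfsg.Agent.LibMaxClass

/-! 2-groups of maximal class -/

set_option autoImplicit false
set_option linter.all false
open scoped commutatorElement

namespace CfsgLib.MaxClass

open CfsgLib.SolvBasic CfsgLib.SolvMin CfsgLib.SolvNilp CfsgLib.SolvMisc CfsgLib.PCyc

universe u

instance fact2 : Fact (Nat.Prime 2) := ⟨Nat.prime_two⟩

section

variable {X : Type u} [Group X] [Finite X]

theorem commutator_ne_bot {n : ℕ} (hn : 3 ≤ n) (hX : Nat.card X = 2 ^ n)
    (hi : (commutator X).index = 4) : commutator X ≠ ⊥ := by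
  intro h
  rw [h, Subgroup.index_bot, hX] at hi
  have h1 : 2 ^ n = 2 ^ 2 := by rw [hi]; norm_num
  have := Nat.pow_right_injective (le_refl 2) h1
  omega

theorem card_commutator {n : ℕ} (hn : 3 ≤ n) (hX : Nat.card X = 2 ^ n)
    (hi : (commutator X).index = 4) : Nat.card (commutator X) = 2 ^ (n - 2) := by
  have h1 := (commutator X).card_mul_index
  rw [hi, hX] at h1
  obtain ⟨k, rfl⟩ : ∃ k, n = k + 2 := ⟨n - 2, by omega⟩
  rw [pow_add] at h1
  rw [Nat.add_sub_cancel]
  have h2 : (2 : ℕ) ^ 2 = 4 := by norm_num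
  rw [h2] at h1
  exact Nat.eq_of_mul_eq_mul_right (by norm_num) h1

theorem sup_zpowers_of_index_two {C : Subgroup X} (hC : C.index = 2) {x : X} (hx : x ∉ C) :
    C ⊔ Subgroup.zpowers x = ⊤ := by
  rw [← Subgroup.index_eq_one]
  have h1 : C < C ⊔ Subgroup.zpowers x := by
    refine lt_of_le_of_ne le_sup_left (fun h => hx ?_)
    rw [h]; exact (le_sup_right : Subgroup.zpowers x ≤ _) (Subgroup.mem_zpowers _)
  have h2 := Subgroup.relIndex_mul_index (le_sup_left : C ≤ C ⊔ Subgroup.zpowers x)
  rw [hC] at h2
  have h3 : C.relIndex (C ⊔ Subgroup.zpowers x) ≠ 1 := by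
    rw [Ne, Subgroup.relIndex_eq_one]
    exact h1.not_ge
  have h4 : (C ⊔ Subgroup.zpowers x).index ∣ 2 := Dvd.intro_left _ h2
  rcases (Nat.dvd_prime Nat.prime_two).mp h4 with h5 | h5
  · exact h5
  · exfalso
    rw [h5] at h2
    apply h3
    omega

theorem exists_not_mem_of_index_two {C : Subgroup X} (hC : C.index = 2) : ∃ x, x ∉ C := by
  by_contra h
  push Not at h
  have : C = ⊤ := eq_top_iff.mpr (fun x _ => h x)
  rw [this, Subgroup.index_top] at hC
  omega

theorem center_le_of_abelian_index_two {n : ℕ} (hn : 3 ≤ n) (hX : Nat.card X = 2 ^ n)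
    (hi : (commutator X).index = 4) {C : Subgroup X} (hC : C.index = 2)
    (hCc : ∀ a ∈ C, ∀ b ∈ C, a * b = b * a) : Subgroup.center X ≤ C := by
  intro z hz
  by_contra hzC
  have h1 := sup_zpowers_of_index_two hC hzC
  have hCn : C.Normal := Subgroup.normal_of_index_eq_two hC
  apply commutator_ne_bot hn hX hi
  rw [eq_bot_iff, commutator_def, Subgroup.commutator_le]
  intro a _ b _
  have ha : a ∈ C ⊔ Subgroup.zpowers z := by rw [h1]; trivial
  have hb : b ∈ C ⊔ Subgroup.zpowers z := by rw [h1]; trivial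
  rw [Subgroup.mem_sup_of_normal_left] at ha hb
  obtain ⟨a', ha', y, hy, rfl⟩ := ha
  obtain ⟨b', hb', w, hw, rfl⟩ := hb
  have hyZ : y ∈ Subgroup.center X := (Subgroup.zpowers_le.mpr hz) hy
  have hwZ : w ∈ Subgroup.center X := (Subgroup.zpowers_le.mpr hz) hw
  rw [Subgroup.mem_bot, commutatorElement_eq_one_iff_mul_comm]
  have e1 := Subgroup.mem_center_iff.mp hyZ
  have e2 := Subgroup.mem_center_iff.mp hwZ
  calc a' * y * (b' * w) = a' * (y * b') * w := by group
    _ = a' * (b' * y) * w := by rw [← e1 b']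
    _ = (a' * b') * (y * w) := by group
    _ = (b' * a') * (y * w) := by rw [hCc a' ha' b' hb']
    _ = (b' * a') * (w * y) := by rw [e2 y]
    _ = b' * (a' * w) * y := by group
    _ = b' * (w * a') * y := by rw [e2 a']
    _ = _ := by group

theorem card_center_of_abelian_index_two {n : ℕ} (hn : 3 ≤ n) (hX : Nat.card X = 2 ^ n)
    (hi : (commutator X).index = 4) {C : Subgroup X} (hC : C.index = 2)
    (hCc : ∀ a ∈ C, ∀ b ∈ C, a * b = b * a) : Nat.card (Subgroup.center X) = 2 := by
  have hCn : C.Normal := Subgroup.normal_of_index_eq_two hC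
  obtain ⟨x, hx⟩ := exists_not_mem_of_index_two hC
  have h1 := card_abelian_normal C hCc x (sup_zpowers_of_index_two hC hx)
    (center_le_of_abelian_index_two hn hX hi hC hCc)
  have h2 := C.card_mul_index
  rw [hC, hX] at h2
  rw [card_commutator hn hX hi] at h1
  obtain ⟨k, rfl⟩ : ∃ k, n = k + 2 := ⟨n - 2, by omega⟩
  rw [Nat.add_sub_cancel] at h1
  rw [h1] at h2
  have h3 : 2 ^ k * (Nat.card (Subgroup.center X) * 2) = 2 ^ k * 4 := by
    rw [← mul_assoc, h2, pow_add]; norm_num
  have h4 := Nat.eq_of_mul_eq_mul_left (by positivity) h3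
  omega

theorem index_commutator_quotient (Z : Subgroup X) [Z.Normal] (h : Z ≤ commutator X) :
    (commutator (X ⧸ Z)).index = (commutator X).index := by
  have h1 : commutator (X ⧸ Z) = (commutator X).map (QuotientGroup.mk' Z) := by
    rw [commutator_def, commutator_def, Subgroup.map_commutator,
      Subgroup.map_top_of_surjective _ (QuotientGroup.mk'_surjective Z)]
  rw [h1]
  exact Subgroup.index_map_eq _ (QuotientGroup.mk'_surjective Z)
    (by rw [QuotientGroup.ker_mk']; exact h)

end

/-- 2-groups with `|X : X'| = 4` have a cyclic subgroup of index two -/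
theorem exists_cyclic (n : ℕ) : ∀ (X : Type u) [Group X] [Finite X], Nat.card X = 2 ^ n → 3 ≤ n →
    (commutator X).index = 4 → ∃ c : X, (Subgroup.zpowers c).index = 2 := by
  induction n with
  | zero => intro X _ _ _ h; omega
  | succ n ih =>
    intro X _ _ hX hn hi
    have hXp : IsPGroup 2 X := IsPGroup.of_card hX
    have hnil := hXp.isNilpotent
    have hne := commutator_ne_bot hn hX hi
    rcases Nat.lt_or_ge n 3 with hn3 | hn3
    · have h2 : n = 2 := by omega
      subst h2
      have h1 : ∃ c : X, c ^ 2 ≠ 1 := by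
        by_contra h
        push Not at h
        apply hne
        rw [eq_bot_iff, commutator_def, Subgroup.commutator_le]
        intro a _ b _
        rw [Subgroup.mem_bot, commutatorElement_eq_one_iff_mul_comm]
        have ha : ∀ y : X, y⁻¹ = y := fun y => by
          rw [inv_eq_iff_mul_eq_one, ← sq]; exact h y
        calc a * b = (a * b)⁻¹ := (ha _).symm
          _ = b⁻¹ * a⁻¹ := mul_inv_rev _ _
          _ = b * a := by rw [ha, ha]
      obtain ⟨c, hc⟩ := h1
      have h3 : orderOf c ∣ 2 ^ 3 := by rw [← hX]; exact orderOf_dvd_natCard c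
      obtain ⟨k, hk, hk'⟩ := (Nat.dvd_prime_pow Nat.prime_two).mp h3
      have h4 : k ≠ 0 := by
        rintro rfl
        rw [pow_zero, orderOf_eq_one_iff] at hk'
        exact hc (by rw [hk', one_pow])
      have h5 : k ≠ 1 := by
        rintro rfl
        rw [pow_one] at hk'
        exact hc (by rw [← hk']; exact pow_orderOf_eq_one c)
      have h6 : k ≠ 3 := by
        rintro rfl
        apply hne
        have h7 : Subgroup.zpowers c = ⊤ := by
          apply Subgroup.eq_top_of_card_eq
          rw [Nat.card_zpowers, hk', hX]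
        rw [eq_bot_iff, commutator_def, Subgroup.commutator_le]
        intro a _ b _
        have ha : a ∈ Subgroup.zpowers c := by rw [h7]; trivial
        have hb : b ∈ Subgroup.zpowers c := by rw [h7]; trivial
        obtain ⟨i, rfl⟩ := Subgroup.mem_zpowers_iff.mp ha
        obtain ⟨j, rfl⟩ := Subgroup.mem_zpowers_iff.mp hb
        rw [Subgroup.mem_bot, commutatorElement_eq_one_iff_mul_comm, ← zpow_add, ← zpow_add,
          add_comm]
      have h7 : k = 2 := by omega
      refine ⟨c, ?_⟩
      have h8 := (Subgroup.zpowers c).card_mul_index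
      rw [Nat.card_zpowers, hk', hX, h7] at h8
      omega
    · have h1 := inf_center_ne_bot (commutator X) hne
      obtain ⟨k, hk⟩ := IsPGroup.iff_card.mp (hXp.to_subgroup (commutator X ⊓ Subgroup.center X))
      have hd : 2 ∣ Nat.card (commutator X ⊓ Subgroup.center X : Subgroup X) := by
        rw [hk]
        apply dvd_pow_self
        rintro rfl
        rw [pow_zero, Subgroup.card_eq_one] at hk
        exact h1 hk
      obtain ⟨z, hz⟩ := exists_prime_orderOf_dvd_card' 2 hd
      have hzC := (Subgroup.mem_inf.mp z.2).1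
      have hzZ := (Subgroup.mem_inf.mp z.2).2
      have hzo : orderOf (z : X) = 2 := by rw [Subgroup.orderOf_coe]; exact hz
      obtain ⟨Z, hZ⟩ : ∃ Z, Z = Subgroup.zpowers (z : X) := ⟨_, rfl⟩
      have hZle : Z ≤ Subgroup.center X := by rw [hZ]; exact Subgroup.zpowers_le.mpr hzZ
      have hZc' : Z ≤ commutator X := by rw [hZ]; exact Subgroup.zpowers_le.mpr hzC
      have hZn : Z.Normal := normal_of_le_center hZle
      have hZcard : Nat.card Z = 2 := by rw [hZ, Nat.card_zpowers, hzo]
      have hZsq : ∀ y ∈ Z, y ^ 2 = 1 := by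
        intro y hy
        have h2 : orderOf (⟨y, hy⟩ : Z) ∣ 2 := by rw [← hZcard]; exact orderOf_dvd_natCard _
        rw [Subgroup.orderOf_mk] at h2
        exact orderOf_dvd_iff_pow_eq_one.mp h2
      have hXb : Nat.card (X ⧸ Z) = 2 ^ n := by
        have h2 := card_quotient_mul_card Z
        rw [hZcard, hX, pow_succ] at h2
        exact Nat.eq_of_mul_eq_mul_right (by norm_num) h2
      obtain ⟨cb, hcb⟩ := ih (X ⧸ Z) hXb hn3 (by rw [index_commutator_quotient Z hZc', hi])
      obtain ⟨c, rfl⟩ := QuotientGroup.mk'_surjective Z cb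
      obtain ⟨m, rfl⟩ : ∃ m, n = m + 3 := ⟨n - 3, by omega⟩
      have hcbo : orderOf (QuotientGroup.mk' Z c) = 2 ^ (m + 2) := by
        have h2 := (Subgroup.zpowers (QuotientGroup.mk' Z c)).card_mul_index
        rw [hcb, hXb, Nat.card_zpowers, pow_succ] at h2
        exact Nat.eq_of_mul_eq_mul_right (by norm_num) h2
      obtain ⟨C, hC⟩ : ∃ C, C = (Subgroup.zpowers (QuotientGroup.mk' Z c)).comap
        (QuotientGroup.mk' Z) := ⟨_, rfl⟩
      have hCi : C.index = 2 := by
        rw [hC, Subgroup.index_comap_of_surjective _ (QuotientGroup.mk'_surjective Z), hcb]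
      have hCn : C.Normal := Subgroup.normal_of_index_eq_two hCi
      have hCmem : ∀ y ∈ C, ∃ j : ℤ, ∃ ζ ∈ Z, y = c ^ j * ζ := by
        intro y hy
        rw [hC, Subgroup.mem_comap] at hy
        obtain ⟨j, hj⟩ := Subgroup.mem_zpowers_iff.mp hy
        refine ⟨j, (c ^ j)⁻¹ * y, ?_, by group⟩
        rw [← QuotientGroup.eq_one_iff]
        change QuotientGroup.mk' Z ((c ^ j)⁻¹ * y) = 1
        rw [map_mul, map_inv, map_zpow, hj, inv_mul_cancel]
      have hCc : ∀ a ∈ C, ∀ b ∈ C, a * b = b * a := by
        intro a ha b hb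
        obtain ⟨i, ζ, hζ, rfl⟩ := hCmem a ha
        obtain ⟨j, ξ, hξ, rfl⟩ := hCmem b hb
        have e1 := Subgroup.mem_center_iff.mp (hZle hζ)
        have e2 := Subgroup.mem_center_iff.mp (hZle hξ)
        have h3 : Commute (c ^ i * ζ) (c ^ j * ξ) := by
          apply Commute.mul_left
          · apply Commute.mul_right
            · exact (Commute.refl c).zpow_zpow i j
            · exact e2 _
          · exact (e1 _).symm
        exact h3
      have hcC : c ∈ C := by rw [hC]; exact Subgroup.mem_zpowers _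
      have hcen := card_center_of_abelian_index_two hn hX hi hCi hCc
      have hZeq : Z = Subgroup.center X := Subgroup.eq_of_le_of_card_ge hZle (by rw [hcen, hZcard])
      refine ⟨c, ?_⟩
      have h3 : c ^ 2 ^ (m + 2) ∈ Z := by
        rw [← QuotientGroup.eq_one_iff]
        change QuotientGroup.mk' Z (c ^ 2 ^ (m + 2)) = 1
        rw [map_pow, ← hcbo, pow_orderOf_eq_one]
      have h4 : c ^ 2 ^ (m + 2) ≠ 1 := by
        intro h4
        obtain ⟨w, hw⟩ : ∃ w, w = c ^ 2 ^ (m + 1) := ⟨_, rfl⟩
        have hw2 : w ^ 2 = 1 := by rw [hw, ← pow_mul, ← pow_succ]; exact h4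
        have hwZ : w ∉ Z := by
          intro h5
          have h6 : QuotientGroup.mk' Z w = 1 := (QuotientGroup.eq_one_iff w).mpr h5
          rw [hw, map_pow] at h6
          have h7 := orderOf_dvd_of_pow_eq_one h6
          rw [hcbo] at h7
          have h8 := (Nat.pow_dvd_pow_iff_le_right (by norm_num)).mp h7
          omega
        apply hwZ
        rw [hZeq, Subgroup.mem_center_iff]
        intro g
        obtain ⟨j, ζ, hζ, hgc⟩ := hCmem _ (hCn.conj_mem c hcC g)
        have e1 := Subgroup.mem_center_iff.mp (hZle hζ)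
        have h5 : g * w * g⁻¹ = w ^ j := by
          have h9 : ζ ^ 2 ^ (m + 1) = 1 := by rw [pow_succ', pow_mul, hZsq ζ hζ, one_pow]
          have h10 : (c ^ j) ^ (2 ^ (m + 1)) = (c ^ 2 ^ (m + 1)) ^ j := by
            rw [← zpow_natCast (c ^ j), ← zpow_mul, ← zpow_natCast c, ← zpow_mul, mul_comm]
          rw [hw, ← conj_pow, hgc, (show Commute (c ^ j) ζ from e1 _).mul_pow, h9, mul_one, h10]
        have hw1 : w ≠ 1 := fun h => hwZ (by rw [h]; exact one_mem _)
        have h6 : w ^ j = 1 ∨ w ^ j = w := by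
          have h7 : w ^ j = w ^ (j % 2) := by
            conv_lhs => rw [← Int.emod_add_mul_ediv j 2]
            rw [zpow_add, zpow_mul]
            have : w ^ (2 : ℤ) = 1 := by exact_mod_cast hw2
            rw [this, one_zpow, mul_one]
          rcases Int.emod_two_eq_zero_or_one j with h8 | h8
          · left; rw [h7, h8, zpow_zero]
          · right; rw [h7, h8, zpow_one]
        rcases h6 with h6 | h6
        · exfalso
          rw [h6] at h5
          apply hw1
          have : w = g⁻¹ * (g * w * g⁻¹) * g := by group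
          rw [this, h5]; group
        · rw [h6] at h5
          exact mul_inv_eq_iff_eq_mul.mp h5
      have h5 : orderOf c = 2 ^ (m + 3) := by
        apply orderOf_eq_prime_pow h4
        rw [pow_succ, pow_mul]
        exact hZsq _ h3
      have h6 := (Subgroup.zpowers c).card_mul_index
      rw [Nat.card_zpowers, h5, hX, pow_succ 2 (m + 3)] at h6
      exact Nat.eq_of_mul_eq_mul_left (by positivity) h6

end CfsgLib.MaxClass
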