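import Mathlib
import Cfsg.Agent.LibMaxClass2
import Cfsg.Agent.LibSolvFrat

/-! 2-groups of maximal class: characterizations -/

set_option autoImplicit false
set_option linter.all false
open scoped commutatorElement

namespace CfsgLib.MaxClass

open CfsgLib.SolvBasic CfsgLib.SolvMin CfsgLib.SolvNilp CfsgLib.SolvMisc CfsgLib.PCyc

universe u

theorem zpowers_comm {X : Type u} [Group X] (c : X) : ∀ a ∈ Subgroup.zpowers c,
    ∀ b ∈ Subgroup.zpowers c, a * b = b * a := by
  intro a ha b hb
  obtain ⟨i, rfl⟩ := Subgroup.mem_zpowers_iff.mp ha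
  obtain ⟨j, rfl⟩ := Subgroup.mem_zpowers_iff.mp hb
  rw [← zpow_add, ← zpow_add, add_comm]

section

variable {X : Type u} [Group X] [Finite X]

theorem card_center {n : ℕ} (hn : 3 ≤ n) (hX : Nat.card X = 2 ^ n)
    (hi : (commutator X).index = 4) : Nat.card (Subgroup.center X) = 2 := by
  obtain ⟨c, hc⟩ := exists_cyclic n X hX hn hi
  exact card_center_of_abelian_index_two hn hX hi hc (zpowers_comm c)

theorem center_le_commutator {n : ℕ} (hn : 3 ≤ n) (hX : Nat.card X = 2 ^ n)
    (hc : Nat.card (Subgroup.center X) = 2) (hne : commutator X ≠ ⊥) :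
    Subgroup.center X ≤ commutator X := by
  have hXp : IsPGroup 2 X := IsPGroup.of_card hX
  have hnil := hXp.isNilpotent
  have h1 := inf_center_ne_bot (commutator X) hne
  have h2 : commutator X ⊓ Subgroup.center X = Subgroup.center X := by
    apply Subgroup.eq_of_le_of_card_ge inf_le_right
    have h3 := one_lt_card_of_ne_bot h1
    omega
  exact inf_eq_right.mp h2

theorem card_quotient_center {n : ℕ} (hX : Nat.card X = 2 ^ (n + 1))
    (hc : Nat.card (Subgroup.center X) = 2) : Nat.card (X ⧸ Subgroup.center X) = 2 ^ n := by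
  have h2 := card_quotient_mul_card (Subgroup.center X)
  rw [hc, hX, pow_succ] at h2
  exact Nat.eq_of_mul_eq_mul_right (by norm_num) h2

end

theorem class_eq_of_index (n : ℕ) : ∀ (X : Type u) [Group X] [Finite X], Nat.card X = 2 ^ n →
    3 ≤ n → (commutator X).index = 4 → Group.nilpotencyClass X = n - 1 := by
  induction n with
  | zero => intro X _ _ _ h; omega
  | succ n ih =>
    intro X _ _ hX hn hi
    have hXp : IsPGroup 2 X := IsPGroup.of_card hX
    have hnil := hXp.isNilpotent
    have hnt : Nontrivial X := by
      rw [← Finite.one_lt_card_iff_nontrivial, hX]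
      exact Nat.one_lt_pow (by omega) (by norm_num)
    have hc := card_center hn hX hi
    have hq := card_quotient_center hX hc
    have h1 : Group.nilpotencyClass (X ⧸ Subgroup.center X) = n - 1 := by
      rcases Nat.lt_or_ge n 3 with h3 | h3
      · have h2 : n = 2 := by omega
        subst h2
        have h4 : IsMulCommutative (X ⧸ Subgroup.center X) := by
          have h5 := IsPGroup.commutative_of_card_eq_prime_sq (p := 2) hq
          exact ⟨⟨fun a b => h5 a b⟩⟩
        have h5 := Group.IsNilpotent.nilpotencyClass_le_one_iff.mpr h4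
        have h6 : Group.nilpotencyClass (X ⧸ Subgroup.center X) ≠ 0 := by
          rw [Ne, Group.nilpotencyClass_zero_iff_subsingleton, ← Finite.card_le_one_iff_subsingleton,
            hq]
          norm_num
        omega
      · exact ih _ hq h3 (by
          rw [index_commutator_quotient _ (center_le_commutator hn hX hc
            (commutator_ne_bot hn hX hi)), hi])
    rw [Group.nilpotencyClass_eq_quotient_center_plus_one, h1]
    omega

theorem index_of_class_eq (n : ℕ) : ∀ (X : Type u) [Group X] [Finite X], Nat.card X = 2 ^ n →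
    3 ≤ n → Group.nilpotencyClass X = n - 1 → (commutator X).index = 4 := by
  induction n with
  | zero => intro X _ _ _ h; omega
  | succ n ih =>
    intro X _ _ hX hn hcl
    have hXp : IsPGroup 2 X := IsPGroup.of_card hX
    have hnil := hXp.isNilpotent
    have hnt : Nontrivial X := by
      rw [← Finite.one_lt_card_iff_nontrivial, hX]
      exact Nat.one_lt_pow (by omega) (by norm_num)
    have hne : commutator X ≠ ⊥ := by
      intro h
      have h1 : IsMulCommutative X := by
        refine ⟨⟨fun a b => ?_⟩⟩
        have h2 : ⁅a, b⁆ ∈ commutator X := by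
          rw [commutator_def]
          exact Subgroup.commutator_mem_commutator (Subgroup.mem_top _) (Subgroup.mem_top _)
        rw [h, Subgroup.mem_bot, commutatorElement_eq_one_iff_mul_comm] at h2
        exact h2
      have h2 := Group.IsNilpotent.nilpotencyClass_le_one_iff.mpr h1
      omega
    have h1 := Group.nilpotencyClass_eq_quotient_center_plus_one (G := X)
    rw [hcl] at h1
    have hc : Nat.card (Subgroup.center X) = 2 := by
      obtain ⟨k, hk⟩ := IsPGroup.iff_card.mp (hXp.to_quotient (Subgroup.center X))
      have h2 := card_quotient_mul_card (Subgroup.center X)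
      rw [hk, hX] at h2
      have h3 : Nontrivial (Subgroup.center X) := hXp.center_nontrivial
      have h4 := Finite.one_lt_card_iff_nontrivial.mpr h3
      have hkn : k ≤ n := by
        by_contra hkn
        have h5 : 2 ^ (n + 1) ≤ 2 ^ k := Nat.pow_le_pow_right (by norm_num) (by omega)
        have h6 : 2 ^ k * 1 < 2 ^ k * Nat.card (Subgroup.center X) :=
          Nat.mul_lt_mul_of_pos_left h4 (by positivity)
        omega
      have hkn' : n ≤ k := by
        rcases Nat.lt_or_ge 1 k with h5 | h5
        · have h6 := class_le 2 Nat.prime_two k _ hk h5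
          omega
        · exfalso
          apply hne
          have hcyc : IsCyclic (X ⧸ Subgroup.center X) := by
            have hk' : k = 0 ∨ k = 1 := by omega
            rcases hk' with rfl | rfl
            · rw [pow_zero, Nat.card_eq_one_iff_unique] at hk
              obtain ⟨hs, -⟩ := hk
              infer_instance
            · rw [pow_one] at hk
              exact isCyclic_of_prime_card hk
          rw [eq_bot_iff, commutator_def, Subgroup.commutator_le]
          intro a _ b _
          rw [Subgroup.mem_bot, commutatorElement_eq_one_iff_mul_comm]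
          exact commutative_of_cyclic_center_quotient
            (QuotientGroup.mk' (Subgroup.center X)) (by rw [QuotientGroup.ker_mk']) a b
      have hkn'' : k = n := by omega
      rw [hkn'', pow_succ] at h2
      exact Nat.eq_of_mul_eq_mul_left (by positivity) h2
    have hq := card_quotient_center hX hc
    have hle := center_le_commutator hn hX hc hne
    rcases Nat.lt_or_ge n 3 with h3 | h3
    · have h2 : n = 2 := by omega
      subst h2
      have h4 : IsMulCommutative (X ⧸ Subgroup.center X) := by
        have h5 := IsPGroup.commutative_of_card_eq_prime_sq (p := 2) hq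
        exact ⟨⟨fun a b => h5 a b⟩⟩
      have h5 : commutator X ≤ Subgroup.center X := by
        rw [commutator_def, Subgroup.commutator_le]
        intro a _ b _
        rw [← QuotientGroup.eq_one_iff]
        change QuotientGroup.mk' (Subgroup.center X) ⁅a, b⁆ = 1
        rw [map_commutatorElement, commutatorElement_eq_one_iff_mul_comm]
        exact h4.is_comm.comm _ _
      have h6 : commutator X = Subgroup.center X := le_antisymm h5 hle
      rw [h6, Subgroup.index_eq_card, hq]; norm_num
    · rw [← index_commutator_quotient _ hle]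
      exact ih _ hq h3 (by omega)

section

variable {X : Type u} [Group X] [Finite X]

theorem quotient_center_dihedral {n : ℕ} (hn : 3 ≤ n) (hX : Nat.card X = 2 ^ n)
    (hi : (commutator X).index = 4) :
    Nonempty (X ⧸ Subgroup.center X ≃* DihedralGroup (2 ^ (n - 2))) := by
  obtain ⟨c, hc⟩ := exists_cyclic n X hX hn hi
  have hcZ := card_center hn hX hi
  have hCn : (Subgroup.zpowers c).Normal := Subgroup.normal_of_index_eq_two hc
  obtain ⟨x, hx⟩ := exists_not_mem_of_index_two hc
  have hsup := sup_zpowers_of_index_two hc hx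
  have hZC := center_le_of_abelian_index_two hn hX hi hc (zpowers_comm c)
  -- criterion for centrality
  have hcen : ∀ y ∈ Subgroup.zpowers c, y * x = x * y → y ∈ Subgroup.center X := by
    intro y hy hyx
    have h1 : (⊤ : Subgroup X) ≤ Subgroup.centralizer {y} := by
      rw [← hsup]
      apply sup_le
      · intro d hd
        rw [Subgroup.mem_centralizer_iff]
        rintro _ rfl
        exact zpowers_comm c _ hy d hd
      · rw [Subgroup.zpowers_le, Subgroup.mem_centralizer_iff]
        rintro _ rfl
        exact hyx
    rw [Subgroup.mem_center_iff]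
    intro g
    exact (Subgroup.mem_centralizer_iff.mp (h1 (Subgroup.mem_top g)) y rfl).symm
  have hx2 : x ^ 2 ∈ Subgroup.zpowers c := by
    have := Subgroup.pow_index_mem (Subgroup.zpowers c) x
    rwa [hc] at this
  have hx2Z : x ^ 2 ∈ Subgroup.center X := hcen _ hx2 (by rw [← pow_succ, ← pow_succ'])
  have hconj : x * c * x⁻¹ ∈ Subgroup.zpowers c := hCn.conj_mem c (Subgroup.mem_zpowers c) x
  have hcc : c * (x * c * x⁻¹) ∈ Subgroup.center X := by
    apply hcen _ (mul_mem (Subgroup.mem_zpowers c) hconj)
    -- x (c · xcx⁻¹) x⁻¹ = xcx⁻¹ · x²cx⁻² = xcx⁻¹ · c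
    have h1 : x ^ 2 * c * (x ^ 2)⁻¹ = c := by
      rw [← Subgroup.mem_center_iff.mp hx2Z c]; group
    have h2 := zpowers_comm c _ (Subgroup.mem_zpowers c) _ hconj
    rw [h2]
    conv_lhs => rw [← h2]
    calc c * (x * c * x⁻¹) * x = (x ^ 2 * c * (x ^ 2)⁻¹) * (x * c * x⁻¹) * x := by rw [h1]
      _ = x * ((x * c * x⁻¹) * (x⁻¹ * (x * c * x⁻¹) * x)) := by rw [sq]; group
      _ = x * ((x * c * x⁻¹) * c) := by congr 2; group
      _ = _ := by group
  obtain ⟨Z, hZ⟩ : ∃ Z, Z = Subgroup.center X := ⟨_, rfl⟩
  have hZn : Z.Normal := by rw [hZ]; infer_instance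
  suffices H : Nonempty (X ⧸ Z ≃* DihedralGroup (2 ^ (n - 2))) by
    subst hZ; exact H
  obtain ⟨k, rfl⟩ : ∃ k, n = k + 2 := ⟨n - 2, by omega⟩
  rw [Nat.add_sub_cancel]
  have hco : orderOf c = 2 ^ (k + 1) := by
    have h6 := (Subgroup.zpowers c).card_mul_index
    rw [Nat.card_zpowers, hc, hX, pow_succ 2 (k + 1)] at h6
    exact Nat.eq_of_mul_eq_mul_right (by norm_num) h6
  have hZcard : Nat.card Z = 2 := by rw [hZ]; exact hcZ
  have hZC' : Z ≤ Subgroup.zpowers c := by rw [hZ]; exact hZC
  have hmapc : orderOf (QuotientGroup.mk' Z c) = 2 ^ k := by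
    have h1 := card_map_mk'_mul_card_of_le Z (Subgroup.zpowers c) hZC'
    rw [MonoidHom.map_zpowers, Nat.card_zpowers, Nat.card_zpowers, hZcard, hco, pow_succ] at h1
    exact Nat.eq_of_mul_eq_mul_right (by norm_num) h1
  apply CfsgLib.Dihedral.nonempty_equiv_dihedral_top (a := QuotientGroup.mk' Z c)
    (b := QuotientGroup.mk' Z x) hmapc
  · rw [← map_mul, ← sq]
    exact (QuotientGroup.eq_one_iff _).mpr (by rw [hZ]; exact hx2Z)
  · rw [← map_inv, ← map_mul, ← map_mul, ← map_inv, ← mul_inv_eq_one, ← map_inv, ← map_mul, inv_inv]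
    refine (QuotientGroup.eq_one_iff _).mpr ?_
    rw [hZ]
    have h2 := zpowers_comm c _ (Subgroup.mem_zpowers c) _ hconj
    rw [← h2]; exact hcc
  · intro h
    rw [← MonoidHom.map_zpowers] at h
    obtain ⟨y, hy, hyx⟩ := h
    apply hx
    have h1 : y⁻¹ * x ∈ Z := QuotientGroup.eq.mp hyx
    have h2 := mul_mem hy (hZC' h1)
    rwa [mul_inv_cancel_left] at h2
  · rw [eq_top_iff]
    intro g _
    obtain ⟨y, rfl⟩ := QuotientGroup.mk'_surjective Z g
    have h1 : y ∈ Subgroup.zpowers c ⊔ Subgroup.zpowers x := by rw [hsup]; trivial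
    have h2 : Subgroup.zpowers c ⊔ Subgroup.zpowers x ≤
        (Subgroup.closure {QuotientGroup.mk' Z c, QuotientGroup.mk' Z x}).comap
          (QuotientGroup.mk' Z) := by
      apply sup_le
      · rw [Subgroup.zpowers_le]
        exact Subgroup.subset_closure (Or.inl rfl)
      · rw [Subgroup.zpowers_le]
        exact Subgroup.subset_closure (Or.inr rfl)
    exact h2 h1

theorem klein_of_index {n : ℕ} (hn : 3 ≤ n) (hX : Nat.card X = 2 ^ n)
    (hi : (commutator X).index = 4) : IsKleinFour (X ⧸ commutator X) := by
  have hXp : IsPGroup 2 X := IsPGroup.of_card hX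
  have hcard : Nat.card (X ⧸ commutator X) = 4 := by rw [← Subgroup.index_eq_card]; exact hi
  refine ⟨hcard, ?_⟩
  have hsq : ∀ y : X, y ^ 2 ∈ commutator X := by
    intro y
    by_contra hy
    have h1 : orderOf (QuotientGroup.mk' (commutator X) y) = 4 := by
      have h2 : orderOf (QuotientGroup.mk' (commutator X) y) ∣ 2 ^ 2 := by
        have := orderOf_dvd_natCard (QuotientGroup.mk' (commutator X) y)
        rwa [hcard] at this
      obtain ⟨k, hk, hk'⟩ := (Nat.dvd_prime_pow Nat.prime_two).mp h2
      have h3 : ¬ k ≤ 1 := by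
        intro h3
        apply hy
        have h4 : QuotientGroup.mk' (commutator X) y ^ 2 = 1 := by
          apply orderOf_dvd_iff_pow_eq_one.mp
          rw [hk']
          exact (pow_dvd_pow 2 h3).trans (by norm_num)
        rw [← map_pow] at h4
        exact (QuotientGroup.eq_one_iff _).mp h4
      have h4 : k = 2 := by omega
      rw [hk', h4]; norm_num
    have h2 : Subgroup.zpowers (QuotientGroup.mk' (commutator X) y) = ⊤ := by
      apply Subgroup.eq_top_of_card_eq
      rw [Nat.card_zpowers, h1, hcard]
    have h3 : Subgroup.zpowers y ⊔ commutator X = ⊤ := by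
      rw [← MonoidHom.map_zpowers] at h2
      have h4 := congrArg (Subgroup.comap (QuotientGroup.mk' (commutator X))) h2
      rwa [Subgroup.comap_map_eq, QuotientGroup.ker_mk', Subgroup.comap_top] at h4
    have h4 : Subgroup.zpowers y = ⊤ := by
      apply frattini_nongenerating
      rw [eq_top_iff, ← h3]
      exact sup_le_sup_left (CfsgLib.SolvFrat.commutator_le_frattini Nat.prime_two hXp) _
    apply commutator_ne_bot hn hX hi
    rw [eq_bot_iff, commutator_def, Subgroup.commutator_le]
    intro a _ b _
    rw [Subgroup.mem_bot, commutatorElement_eq_one_iff_mul_comm]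
    exact zpowers_comm y a (by rw [h4]; trivial) b (by rw [h4]; trivial)
  have hexp : Monoid.exponent (X ⧸ commutator X) ∣ 2 := by
    rw [Monoid.exponent_dvd_iff_forall_pow_eq_one]
    intro g
    obtain ⟨y, rfl⟩ := QuotientGroup.mk'_surjective (commutator X) g
    rw [← map_pow]
    exact (QuotientGroup.eq_one_iff _).mpr (hsq y)
  rcases (Nat.dvd_prime Nat.prime_two).mp hexp with h | h
  · exfalso
    have h1 : Subsingleton (X ⧸ commutator X) := Monoid.exp_eq_one_iff.mp h
    have h2 : Nat.card (X ⧸ commutator X) ≤ 1 := Finite.card_le_one_iff_subsingleton.mpr h1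
    omega
  · exact h

end

end CfsgLib.MaxClass
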