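import Mathlib
import Cfsg.Agent.EqBase
import Cfsg.Agent.LibExtend5
import Cfsg.Agent.LibExtend7
import Cfsg.Agent.LibTransFus
import Cfsg.Agent.LibLE11Tate
import Cfsg.Agent.LibBlockCov
import Cfsg.Agent.LibTorH
import Cfsg.Agent.LibFixIrr19

set_option autoImplicit false
set_option maxHeartbeats 400000
set_option linter.unusedSectionVars false

/-! The order of `O^p(G)` modulo `p` (helper19) -/

namespace CfsgLib.Resid19

open Cfsg CfsgLib.CharBasic CfsgLib.Clifford CfsgLib.Extend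
open scoped ComplexConjugate

universe u v

theorem sum_modEq {p : ℕ} [hp : Fact p.Prime] {P : Type u} {I : Type v} [Group P] [Fintype I] [MulAction P I] [Finite P]
    (hP : IsPGroup p P) (f : I → ℕ) (hf : ∀ (g : P) i, f (g • i) = f i) [DecidablePred (fun i : I => ∀ g : P, g • i = i)] :
    ∑ i, f i ≡ ∑ i ∈ Finset.univ.filter (fun i => ∀ g : P, g • i = i), f i [MOD p] := by
  classical
  let α := {x : I × ℕ // x.2 < f x.1}
  letI : MulAction P α :=
    { smul := fun g x => ⟨(g • x.1.1, x.1.2), by rw [hf]; exact x.2⟩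
      one_smul := fun x => Subtype.ext (Prod.ext (one_smul _ _) rfl)
      mul_smul := fun g h x => Subtype.ext (Prod.ext (mul_smul _ _ _) rfl) }
  have hs : ∀ (g : P) (x : α), g • x = ⟨(g • x.1.1, x.1.2), by rw [hf]; exact x.2⟩ := fun g x => rfl
  let e : α ≃ Σ i : I, Fin (f i) :=
    { toFun := fun x => ⟨x.1.1, ⟨x.1.2, x.2⟩⟩
      invFun := fun y => ⟨(y.1, y.2), y.2.2⟩
      left_inv := fun x => rfl
      right_inv := fun y => rfl }
  haveI : Finite α := Finite.of_equiv _ e.symm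
  have h1 : Nat.card α = ∑ i, f i := by
    rw [Nat.card_congr e, Nat.card_sigma]
    simp
  let e' : MulAction.fixedPoints P α ≃ Σ i : {i : I // ∀ g : P, g • i = i}, Fin (f i) :=
    { toFun := fun x => ⟨⟨x.1.1.1, fun g => congrArg (fun y : α => y.1.1) (x.2 g)⟩, ⟨x.1.1.2, x.1.2⟩⟩
      invFun := fun y => ⟨⟨(y.1.1, y.2), y.2.2⟩, fun g => Subtype.ext (Prod.ext (y.1.2 g) rfl)⟩
      left_inv := fun x => rfl
      right_inv := fun y => rfl }
  have h2 : Nat.card (MulAction.fixedPoints P α) = ∑ i ∈ Finset.univ.filter (fun i => ∀ g : P, g • i = i), f i := by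
    rw [Nat.card_congr e', Nat.card_sigma]
    simp only [Nat.card_eq_fintype_card, Fintype.card_fin]
    rw [← Finset.sum_subtype (Finset.univ.filter (fun i => ∀ g : P, g • i = i)) (fun i => by simp) (fun i => f i)]
  have h3 := hP.card_modEq_card_fixedPoints α
  rwa [h1, h2] at h3

variable {G : Type u} [Group G] [Finite G] {p : ℕ} [hp : Fact p.Prime]

/-- linear characters of `O^p(G)` have order prime to `p` -/
theorem detOrder_resid {θ : pResidual p G → ℂ} (hθ : IsIrrCharacter (pResidual p G) θ) : ¬ p ∣ detOrder θ := by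
  obtain ⟨f, hf⟩ := detChar_irr hθ
  have hf2 : detOrder θ = orderOf f := by unfold detOrder; rw [hf, orderOf_val]
  rw [hf2]
  rintro ⟨m, hm⟩
  have hfin : f ^ Nat.card (pResidual p G) = 1 := by
    ext x
    rw [MonoidHom.pow_apply, ← map_pow, pow_card_eq_one', map_one]; rfl
  have hpos : 0 < orderOf f := orderOf_pos_iff.2 (isOfFinOrder_iff_pow_eq_one.2 ⟨_, Nat.card_pos, hfin⟩)
  have hm0 : 0 < m := by
    rcases Nat.eq_zero_or_pos m with h | h
    · rw [h, mul_zero] at hm; omega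
    · exact h
  have hW : ∀ x, (f ^ m) x = 1 := by
    have hA : IsPGroup p (f ^ m).range := by
      intro ⟨y, x, hx⟩
      refine ⟨1, ?_⟩
      apply Subtype.ext
      change y ^ p ^ 1 = 1
      rw [pow_one, ← hx, ← map_pow, MonoidHom.pow_apply, map_pow, ← pow_mul, ← hm]
      have := pow_orderOf_eq_one f
      have h2 := DFunLike.congr_fun this x
      rwa [MonoidHom.pow_apply] at h2
    haveI : Finite (f ^ m).range := Set.finite_range _
    intro x
    have := CfsgLib.LE11Tate.hom_pResidual hA (pResidual p G) rfl (f ^ m).rangeRestrict x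
    exact congrArg Subtype.val this
  have h4 : orderOf f ∣ m := by
    rw [orderOf_dvd_iff_pow_eq_one]
    exact MonoidHom.ext hW
  rw [hm] at h4
  have h5 := Nat.le_of_dvd hm0 h4
  have h6 := hp.out.two_le
  nlinarith

/-- characters of `p'`-degree restrict irreducibly to normal subgroups of `p`-power index -/
theorem restrict_irr [Fintype G] {N : Subgroup G} [hN : N.Normal] [Fintype N] {k : ℕ} (hk : N.index = p ^ k) {χ : G → ℂ}
    (hχ : IsIrrCharacter G χ) (hd : ¬ p ∣ charDegree χ) : IsIrrCharacter N (fun n : N => χ n) := by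
  obtain ⟨θ, hθ, hm⟩ := exists_below N hχ
  obtain ⟨e, he, hei⟩ := ratio_dvd_index hθ hχ hm
  have h1 : charDegree χ = e * charDegree θ := by
    rw [CfsgLib.CharInt.irr_one_eq_charDegree hχ, CfsgLib.CharInt.irr_one_eq_charDegree hθ] at he
    exact_mod_cast he
  have he1 : e = 1 := by
    rw [hk, Nat.dvd_prime_pow hp.out] at hei
    obtain ⟨j, -, hj⟩ := hei
    rcases Nat.eq_zero_or_pos j with h | h
    · rw [hj, h, pow_zero]
    · exfalso
      apply hd
      rw [h1, hj]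
      exact Dvd.dvd.mul_right (dvd_pow_self p h.ne') _
  rw [he1, Nat.cast_one, one_mul] at he
  obtain ⟨ψ, hψ, hs⟩ := CfsgLib.CharMore.split_off (isCharacter_restrict (irr_isCharacter hχ) N) hθ hm
  have h2 : ψ = 0 := by
    funext n
    have h3 := congrFun hs 1
    have h4 : χ ((1 : N) : G) = θ 1 + ψ 1 := h3
    rw [Subgroup.coe_one, he] at h4
    have h5 : ψ 1 = 0 := by linear_combination -h4
    have h6 := char_norm_le hψ n
    rw [h5] at h6
    exact norm_le_zero_iff.1 (by simpa using h6)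
  rw [h2, add_zero] at hs
  rw [hs]; exact hθ

theorem cast_modEq {a b : ℕ} (h : a ≡ b [MOD p]) : (a : ℤ) ≡ b [ZMOD p] := (Int.natCast_modEq_iff).2 h

theorem main (G : Type u) [Group G] [Finite G] : (Nat.card (Cfsg.pResidual p G) : ℤ) ≡
    (∑ᶠ χ ∈ {χ : Cfsg.IrrCharacter G | ¬ p ∣ Cfsg.charDegree (χ : G → ℂ) ∧ ¬ p ∣ Cfsg.detOrder (χ : G → ℂ)},
      (Cfsg.charDegree (χ : G → ℂ) : ℤ) ^ 2) [ZMOD p] := by
  classical
  letI := Fintype.ofFinite G
  haveI hN : (pResidual p G).Normal := CfsgLib.TransFus.pResidual_normal p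
  set N := pResidual p G with hNdef
  letI := Fintype.ofFinite N
  obtain ⟨k, hk⟩ : ∃ k, N.index = p ^ k := by
    have h1 : IsPGroup p (G ⧸ N) := CfsgLib.TransFus.isPGroup_quotient_pResidual N le_rfl
    obtain ⟨k, hk⟩ := (IsPGroup.iff_card).1 h1
    exact ⟨k, by rw [Subgroup.index]; exact hk⟩
  obtain ⟨P⟩ := (inferInstance : Nonempty (Sylow p G))
  have hNP : ∀ g : G, ∃ n ∈ N, ∃ x ∈ (P : Subgroup G), g = n * x := by
    have h1 : N ⊔ (P : Subgroup G) = ⊤ := by
      rw [← Subgroup.index_eq_one]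
      have h2 : (N ⊔ (P : Subgroup G)).index ∣ p ^ k := hk ▸ Subgroup.index_dvd_of_le le_sup_left
      have h3 : ¬ p ∣ (N ⊔ (P : Subgroup G)).index := fun h => P.not_dvd_index (h.trans (Subgroup.index_dvd_of_le le_sup_right))
      rw [Nat.dvd_prime_pow hp.out] at h2
      obtain ⟨j, -, hj⟩ := h2
      rcases Nat.eq_zero_or_pos j with h | h
      · rw [hj, h, pow_zero]
      · exact absurd (hj ▸ dvd_pow_self p h.ne') h3
    intro g
    have h2 : g ∈ N ⊔ (P : Subgroup G) := by rw [h1]; exact Subgroup.mem_top g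
    obtain ⟨n, hn, x, hx, hnx⟩ := Subgroup.mem_sup_of_normal_left.1 h2
    exact ⟨n, hn, x, hx, hnx.symm⟩
  letI act : MulAction P (IrrCharacter N) :=
    { smul := fun g θ => CfsgLib.BlockCov.cjI N ((g : G)⁻¹) θ
      one_smul := fun θ => by
        change CfsgLib.BlockCov.cjI N (((1 : P) : G)⁻¹) θ = θ
        rw [Subgroup.coe_one, inv_one]
        exact CfsgLib.BlockCov.cjI_one N θ
      mul_smul := fun g h θ => by
        change CfsgLib.BlockCov.cjI N (((g * h : P) : G)⁻¹) θ = CfsgLib.BlockCov.cjI N ((g : G)⁻¹) (CfsgLib.BlockCov.cjI N ((h : G)⁻¹) θ)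
        rw [CfsgLib.BlockCov.cjI_cjI, Subgroup.coe_mul, mul_inv_rev] }
  have hsm : ∀ (g : P) (θ : IrrCharacter N), g • θ = CfsgLib.BlockCov.cjI N ((g : G)⁻¹) θ := fun g θ => rfl
  have hfix : ∀ θ : IrrCharacter N, (∀ g : P, g • θ = θ) ↔ Inv N (θ : N → ℂ) := by
    intro θ
    constructor
    · intro h g n
      obtain ⟨m, hm, x, hx, rfl⟩ := hNP g
      have h1 := h ⟨x, hx⟩⁻¹
      rw [hsm] at h1
      have h2 : ∀ n : N, (θ : N → ℂ) ⟨x * n * x⁻¹, hN.conj_mem n n.2 x⟩ = (θ : N → ℂ) n := by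
        intro n
        have h3 := congrFun (congrArg Subtype.val h1) n
        rw [CfsgLib.BlockCov.cjI_apply] at h3
        rw [← h3]
        refine congrArg (θ : N → ℂ) (Subtype.ext ?_)
        simp
      have h3 : (⟨m * x * n * (m * x)⁻¹, hN.conj_mem n n.2 (m * x)⟩ : N) =
          ⟨m, hm⟩ * ⟨x * n * x⁻¹, hN.conj_mem n n.2 x⟩ * ⟨m, hm⟩⁻¹ := by
        apply Subtype.ext
        change m * x * (n : G) * (m * x)⁻¹ = m * (x * n * x⁻¹) * m⁻¹
        group
      rw [h3, irr_classFun θ.2, h2]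
    · intro h g
      rw [hsm]
      apply Subtype.ext
      funext n
      rw [CfsgLib.BlockCov.cjI_apply]
      exact h _ n
  have e1 : ∑ θ : IrrCharacter N, charDegree (θ : N → ℂ) ^ 2 = Nat.card N := CfsgLib.Tor.sum_deg
  have e2 := sum_modEq P.isPGroup' (fun θ : IrrCharacter N => charDegree (θ : N → ℂ) ^ 2) (fun g θ => by
    have h1 : (CfsgLib.BlockCov.cjI N ((g : G)⁻¹) θ : N → ℂ) 1 = (θ : N → ℂ) 1 := by
      rw [CfsgLib.BlockCov.cjI_apply]
      refine congrArg (θ : N → ℂ) (Subtype.ext ?_)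
      simp
    rw [hsm]
    unfold charDegree
    rw [h1])
  rw [e1] at e2
  -- drop the degrees divisible by p
  have e3 : ∑ θ ∈ Finset.univ.filter (fun θ : IrrCharacter N => ∀ g : P, g • θ = θ), charDegree (θ : N → ℂ) ^ 2 ≡
      ∑ θ ∈ Finset.univ.filter (fun θ : IrrCharacter N => Inv N (θ : N → ℂ) ∧ ¬ p ∣ charDegree (θ : N → ℂ)), charDegree (θ : N → ℂ) ^ 2 [MOD p] := by
    have h1 : Finset.univ.filter (fun θ : IrrCharacter N => Inv N (θ : N → ℂ) ∧ ¬ p ∣ charDegree (θ : N → ℂ)) =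
        (Finset.univ.filter (fun θ : IrrCharacter N => ∀ g : P, g • θ = θ)).filter (fun θ : IrrCharacter N => ¬ p ∣ charDegree (θ : N → ℂ)) := by
      rw [Finset.filter_filter]
      refine Finset.filter_congr fun θ _ => ?_
      rw [hfix]
    rw [h1, ← Finset.sum_filter_add_sum_filter_not (Finset.univ.filter (fun θ : IrrCharacter N => ∀ g : P, g • θ = θ))
      (fun θ : IrrCharacter N => p ∣ charDegree (θ : N → ℂ))]
    have h2 : p ∣ ∑ θ ∈ (Finset.univ.filter (fun θ : IrrCharacter N => ∀ g : P, g • θ = θ)).filter (fun θ : IrrCharacter N => p ∣ charDegree (θ : N → ℂ)), charDegree (θ : N → ℂ) ^ 2 := by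
      refine Finset.dvd_sum fun θ hθ => ?_
      exact Dvd.dvd.pow (Finset.mem_filter.1 hθ).2 (by norm_num)
    have h3 := (Nat.modEq_zero_iff_dvd.2 h2).add_right (∑ θ ∈ (Finset.univ.filter (fun θ : IrrCharacter N => ∀ g : P, g • θ = θ)).filter (fun θ : IrrCharacter N => ¬ p ∣ charDegree (θ : N → ℂ)), charDegree (θ : N → ℂ) ^ 2)
    rwa [zero_add] at h3
  have e4 := cast_modEq (e2.trans e3)
  refine e4.trans ?_
  -- the bijection
  rw [finsum_mem_eq_finite_toFinset_sum _ (Set.toFinite _)]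
  have e5 : ((∑ θ ∈ Finset.univ.filter (fun θ : IrrCharacter N => Inv N (θ : N → ℂ) ∧ ¬ p ∣ charDegree (θ : N → ℂ)), charDegree (θ : N → ℂ) ^ 2 : ℕ) : ℤ) =
      ∑ χ ∈ (Set.toFinite {χ : Cfsg.IrrCharacter G | ¬ p ∣ Cfsg.charDegree (χ : G → ℂ) ∧ ¬ p ∣ Cfsg.detOrder (χ : G → ℂ)}).toFinset,
        (charDegree (χ : G → ℂ) : ℤ) ^ 2 := by
    push_cast
    symm
    have hres : ∀ χ ∈ (Set.toFinite {χ : Cfsg.IrrCharacter G | ¬ p ∣ Cfsg.charDegree (χ : G → ℂ) ∧ ¬ p ∣ Cfsg.detOrder (χ : G → ℂ)}).toFinset,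
        IsIrrCharacter N (fun n : N => (χ : G → ℂ) n) := by
      intro χ hχ
      rw [Set.Finite.mem_toFinset] at hχ
      exact restrict_irr hk χ.2 hχ.1
    have hdeg : ∀ (χ : G → ℂ), charDegree (fun n : N => χ n) = charDegree χ := by
      intro χ; unfold charDegree; simp
    have hinv : ∀ (χ : IrrCharacter G), Inv N (fun n : N => (χ : G → ℂ) n) := fun χ g n => irr_classFun χ.2 _ _
    have hcopθ : ∀ θ : IrrCharacter N, ¬ p ∣ charDegree (θ : N → ℂ) →
        Nat.Coprime N.index (detOrder (θ : N → ℂ) * charDegree (θ : N → ℂ)) := by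
      intro θ h
      rw [hk]
      apply Nat.Coprime.pow_left
      rw [Nat.Prime.coprime_iff_not_dvd hp.out]
      intro h2
      rcases (Nat.Prime.dvd_mul hp.out).1 h2 with h3 | h3
      · exact detOrder_resid θ.2 h3
      · exact h h3
    refine Finset.sum_bij (fun χ hχ => ⟨_, hres χ hχ⟩) ?_ ?_ ?_ ?_
    · intro χ hχ
      rw [Finset.mem_filter]
      refine ⟨Finset.mem_univ _, hinv χ, ?_⟩
      rw [hdeg]
      rw [Set.Finite.mem_toFinset] at hχ
      exact hχ.1
    · intro χ hχ χ' hχ' h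
      have h1 : (fun n : N => (χ : G → ℂ) n) = fun n : N => (χ' : G → ℂ) n := congrArg Subtype.val h
      have hχ2 := (Set.Finite.mem_toFinset _).1 hχ
      have hχ2' := (Set.Finite.mem_toFinset _).1 hχ'
      obtain ⟨χ0, -, h2⟩ := ext_coprime (hres χ hχ) (hinv χ) (charDegree (fun n : N => (χ : G → ℂ) n))
        (CfsgLib.CharInt.irr_one_eq_charDegree (χ := fun n : N => (χ : G → ℂ) n) (hres χ hχ)) (hcopθ ⟨_, hres χ hχ⟩ (by rw [hdeg]; exact hχ2.1))
      have h3 := h2 χ χ.2 (fun n => rfl) (by rw [hk]; exact Nat.Coprime.pow_left _ ((Nat.Prime.coprime_iff_not_dvd hp.out).2 hχ2.2))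
      have h4 := h2 χ' χ'.2 (fun n => (congrFun h1 n).symm) (by rw [hk]; exact Nat.Coprime.pow_left _ ((Nat.Prime.coprime_iff_not_dvd hp.out).2 hχ2'.2))
      exact Subtype.ext (h3.trans h4.symm)
    · intro θ hθ
      rw [Finset.mem_filter] at hθ
      obtain ⟨-, hθi, hθd⟩ := hθ
      obtain ⟨χ, ⟨hχ, hext, hdet⟩, -⟩ := ext_coprime θ.2 hθi (charDegree (θ : N → ℂ))
        (CfsgLib.CharInt.irr_one_eq_charDegree θ.2) (hcopθ θ hθd)
      have hχd : charDegree χ = charDegree (θ : N → ℂ) := by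
        rw [← hdeg χ]
        congr 1
        exact funext hext
      have hmem : (⟨χ, hχ⟩ : IrrCharacter G) ∈ (Set.toFinite {χ : Cfsg.IrrCharacter G | ¬ p ∣ Cfsg.charDegree (χ : G → ℂ) ∧ ¬ p ∣ Cfsg.detOrder (χ : G → ℂ)}).toFinset := by
        rw [Set.Finite.mem_toFinset]
        refine ⟨?_, ?_⟩
        · change ¬ p ∣ charDegree χ
          rw [hχd]; exact hθd
        · change ¬ p ∣ detOrder χ
          rw [hdet]; exact detOrder_resid θ.2
      exact ⟨⟨χ, hχ⟩, hmem, Subtype.ext (funext hext)⟩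
    · intro χ hχ
      change (charDegree (χ : G → ℂ) : ℤ) ^ 2 = (charDegree (fun n : N => (χ : G → ℂ) n) : ℤ) ^ 2
      rw [hdeg]
  rw [e5]

/-- the homomorphisms to `ℂˣ` of order prime to `p` -/
def BB (p : ℕ) [hp : Fact p.Prime] (G : Type u) [Group G] : Subgroup (G →* ℂˣ) where
  carrier := {f | ¬ p ∣ orderOf f}
  mul_mem' := by
    intro f g hf hg h
    have h1 := (Commute.all f g).orderOf_mul_dvd_lcm
    rcases (hp.out.dvd_lcm).1 (h.trans h1) with h2 | h2
    · exact hf h2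
    · exact hg h2
  one_mem' := by
    change ¬ p ∣ orderOf (1 : G →* ℂˣ)
    rw [orderOf_one]
    intro h; exact hp.out.one_lt.ne' (Nat.dvd_one.1 h)
  inv_mem' := by
    intro f hf h
    have h1 : orderOf f⁻¹ = orderOf f := orderOf_inv f
    exact hf (h1 ▸ h)

theorem mem_BB {f : G →* ℂˣ} : f ∈ BB p G ↔ ¬ p ∣ orderOf f := Iff.rfl

theorem irr_hom (f : G →* ℂˣ) : IsIrrCharacter G (fun g => (f g : ℂ)) := by
  letI := Fintype.ofFinite G
  have h1 : IsCharacter G (fun g => (f g : ℂ)) := isCharacter_hom f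
  rw [irr_iff_norm_one]
  refine ⟨h1, ?_⟩
  unfold classInner
  have h2 : ∀ g : G, (f g : ℂ) * conj (f g : ℂ) = 1 := by
    intro g
    rw [Complex.mul_conj, Complex.normSq_eq_norm_sq, CfsgLib.G2I.norm_hom f g]
    simp
  simp only [h2]
  rw [Finset.sum_const, Finset.card_univ, nsmul_eq_mul, mul_one, Nat.card_eq_fintype_card]
  exact inv_mul_cancel₀ (by exact_mod_cast Fintype.card_ne_zero)

theorem finite_hom : Finite (G →* ℂˣ) := by
  apply Finite.of_injective (fun f : G →* ℂˣ => (⟨_, irr_hom f⟩ : IrrCharacter G))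
  intro f g h
  ext x
  exact congrFun (congrArg Subtype.val h) x

theorem card_BB : ¬ p ∣ Nat.card (BB p G) := by
  haveI : Finite (G →* ℂˣ) := finite_hom
  intro h
  obtain ⟨f, hf⟩ := exists_prime_orderOf_dvd_card' p h
  have h1 := f.2
  rw [mem_BB, Subgroup.orderOf_coe, hf] at h1
  exact h1 dvd_rfl

theorem thompson (hdeg : ∀ χ : Cfsg.IrrCharacter G, Cfsg.charDegree (χ : G → ℂ) ≠ 1 → p ∣ Cfsg.charDegree (χ : G → ℂ)) :
    ¬ p ∣ Nat.card (pResidual p G) := by
  classical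
  letI := Fintype.ofFinite G
  have h1 := main (p := p) G
  rw [finsum_mem_eq_finite_toFinset_sum _ (Set.toFinite _)] at h1
  have h2 : ∀ χ ∈ (Set.toFinite {χ : Cfsg.IrrCharacter G | ¬ p ∣ Cfsg.charDegree (χ : G → ℂ) ∧ ¬ p ∣ Cfsg.detOrder (χ : G → ℂ)}).toFinset,
      (charDegree (χ : G → ℂ) : ℤ) ^ 2 = 1 := by
    intro χ hχ
    rw [Set.Finite.mem_toFinset] at hχ
    have : charDegree (χ : G → ℂ) = 1 := by
      by_contra hcon
      exact hχ.1 (hdeg χ hcon)
    rw [this]; norm_num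
  rw [Finset.sum_congr rfl h2, Finset.sum_const, nsmul_eq_mul, mul_one] at h1
  have hd1 : ∀ f : G →* ℂˣ, charDegree (fun g => (f g : ℂ)) = 1 := by
    intro f
    unfold charDegree
    simp
  have hdo : ∀ f : G →* ℂˣ, detOrder (fun g => (f g : ℂ)) = orderOf f := by
    intro f
    unfold detOrder
    rw [detChar_linear (irr_hom f) (by simp), orderOf_val]
  have h3 : (Set.toFinite {χ : Cfsg.IrrCharacter G | ¬ p ∣ Cfsg.charDegree (χ : G → ℂ) ∧ ¬ p ∣ Cfsg.detOrder (χ : G → ℂ)}).toFinset.card =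
      Nat.card (BB p G) := by
    rw [← Set.ncard_eq_toFinset_card _, ← Nat.card_coe_set_eq]
    symm
    have hmem : ∀ f : BB p G, (⟨_, irr_hom (f : G →* ℂˣ)⟩ : IrrCharacter G) ∈ {χ : Cfsg.IrrCharacter G | ¬ p ∣ Cfsg.charDegree (χ : G → ℂ) ∧ ¬ p ∣ Cfsg.detOrder (χ : G → ℂ)} := by
      intro f
      refine ⟨?_, ?_⟩
      · change ¬ p ∣ charDegree (fun g => ((f : G →* ℂˣ) g : ℂ))
        rw [hd1]
        intro h; exact hp.out.one_lt.ne' (Nat.dvd_one.1 h)
      · change ¬ p ∣ detOrder (fun g => ((f : G →* ℂˣ) g : ℂ))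
        rw [hdo]; exact f.2
    refine Nat.card_congr (Equiv.ofBijective (fun f : BB p G => ⟨_, hmem f⟩) ⟨?_, ?_⟩)
    · intro f g h
      apply Subtype.ext
      ext x
      exact congrFun (congrArg (fun z => ((z : {χ : Cfsg.IrrCharacter G | ¬ p ∣ Cfsg.charDegree (χ : G → ℂ) ∧ ¬ p ∣ Cfsg.detOrder (χ : G → ℂ)}) : IrrCharacter G).1) h) x
    · rintro ⟨χ, hχ⟩
      have hχd : charDegree (χ : G → ℂ) = 1 := by
        by_contra hcon
        exact hχ.1 (hdeg χ hcon)
      have hχ1 : (χ : G → ℂ) 1 = 1 := by rw [CfsgLib.CharInt.irr_one_eq_charDegree χ.2, hχd, Nat.cast_one]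
      obtain ⟨f, hf⟩ := exists_hom_of_linear (irr_isCharacter χ.2) hχ1
      have hfe : (χ : G → ℂ) = fun g => (f g : ℂ) := funext hf
      have hfB : f ∈ BB p G := by
        rw [mem_BB, ← hdo f, ← hfe]; exact hχ.2
      refine ⟨⟨f, hfB⟩, ?_⟩
      apply Subtype.ext
      apply Subtype.ext
      exact hfe.symm
  rw [h3] at h1
  intro h4
  apply card_BB (p := p) (G := G)
  have h5 : ((p : ℤ)) ∣ Nat.card (pResidual p G) := by exact_mod_cast h4
  have h6 := (Int.modEq_zero_iff_dvd.2 h5).symm.trans h1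
  exact_mod_cast Int.modEq_zero_iff_dvd.1 h6.symm

end CfsgLib.Resid19
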