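import Mathlib
import Cfsg.Agent.EqBase
import Cfsg.Agent.LibResid19
import Cfsg.Agent.LibOnceB19
import Cfsg.Agent.LibTate
import Cfsg.Agent.LibMonomial

set_option autoImplicit false
set_option maxHeartbeats 400000
set_option linter.unusedSectionVars false

/-! Groups with two character degrees (helper19) -/

namespace CfsgLib.TwoDeg19

open Cfsg CfsgLib.CharBasic CfsgLib.Clifford CfsgLib.Extend CfsgLib.CharIndA
open scoped ComplexConjugate commutatorElement

universe u v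

/-- all degrees of `G` are `1` or `m` -/
def Deg (G : Type u) [Group G] [Finite G] (m : ℕ) : Prop :=
  ∀ χ : IrrCharacter G, charDegree (χ : G → ℂ) = 1 ∨ charDegree (χ : G → ℂ) = m

variable {G : Type u} [Group G] [Finite G] {m : ℕ}

theorem deg_one {χ : G → ℂ} (hχ : IsIrrCharacter G χ) (h : charDegree χ = 1) : χ 1 = 1 := by
  rw [CfsgLib.CharInt.irr_one_eq_charDegree hχ, h, Nat.cast_one]

/-- a character all of whose constituents are linear is trivial on the commutator subgroup -/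
theorem eq_one_of_linear [Fintype G] {r : G → ℂ} (hr : IsCharacter G r)
    (h : ∀ χ : G → ℂ, IsIrrCharacter G χ → classInner r χ ≠ 0 → χ 1 = 1) {g : G} (hg : g ∈ commutator G) : r g = r 1 := by
  obtain ⟨k, hk, hexp, -⟩ := char_expand hr
  rw [hexp, Finset.sum_apply, Finset.sum_apply]
  apply Finset.sum_congr rfl
  intro χ _
  rw [Pi.smul_apply, Pi.smul_apply]
  by_cases h0 : k χ = 0
  · rw [h0]; simp
  · have h1 : (χ : G → ℂ) 1 = 1 := h χ χ.2 (by rw [hk]; exact_mod_cast h0)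
    obtain ⟨f, hf⟩ := exists_hom_of_linear (irr_isCharacter χ.2) h1
    have h2 : f g = 1 := Abelianization.commutator_subset_ker f hg
    rw [hf, hf, map_one, h2]

theorem mem_of_perm [Fintype G] (H : Subgroup G) {g : G}
    (h : indFun H (fun _ => (1 : ℂ)) g = indFun H (fun _ => (1 : ℂ)) 1) : g ∈ H := by
  classical
  have hH : (Nat.card H : ℂ) ≠ 0 := by exact_mod_cast Nat.card_pos.ne'
  rw [ind_apply, ind_apply] at h
  have h2 := mul_left_cancel₀ (inv_ne_zero hH) h
  have h3 : ∀ y : G, extendByZero H (fun _ => (1 : ℂ)) y = if y ∈ H then 1 else 0 := by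
    intro y
    split_ifs with hy
    · rw [ext_mem H _ hy]
    · rw [ext_not_mem H _ hy]
  simp only [h3] at h2
  rw [Finset.sum_boole, Finset.sum_boole] at h2
  have h4 : (Finset.univ.filter (fun x : G => x⁻¹ * g * x ∈ H)).card = (Finset.univ.filter (fun x : G => x⁻¹ * 1 * x ∈ H)).card := by
    exact_mod_cast h2
  have h5 : (Finset.univ.filter (fun x : G => x⁻¹ * 1 * x ∈ H)) = Finset.univ := by
    apply Finset.filter_true_of_mem
    intro x _
    rw [mul_one, inv_mul_cancel]; exact H.one_mem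
  rw [h5, Finset.card_univ] at h4
  have h6 := (Finset.card_eq_iff_eq_univ _).1 h4
  have h7 : (1 : G) ∈ Finset.univ.filter (fun x : G => x⁻¹ * g * x ∈ H) := by rw [h6]; exact Finset.mem_univ _
  simpa using h7

/-- a subgroup of index at most `m` contains the commutator subgroup -/
theorem commutator_le_of_index (hd : Deg G m) (H : Subgroup G) (hH : H.index ≤ m) : commutator G ≤ H := by
  classical
  letI := Fintype.ofFinite G
  letI := Fintype.ofFinite H
  have hone : IsIrrCharacter G (fun _ => (1 : ℂ)) := by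
    have := isIrrCharacter_hom (1 : G →* ℂˣ)
    simpa using this
  have honeH : IsIrrCharacter H (fun _ => (1 : ℂ)) := by
    have := isIrrCharacter_hom (1 : H →* ℂˣ)
    simpa using this
  have hc : IsCharacter G (indFun H (fun _ => (1 : ℂ))) := isCharacter_ind H (irr_isCharacter honeH)
  have hne : classInner (indFun H (fun _ => (1 : ℂ))) (fun _ : G => (1 : ℂ)) ≠ 0 := by
    rw [frobenius H _ (irr_classFun hone), irr_inner_self honeH]
    exact one_ne_zero
  obtain ⟨r, hr, hsplit⟩ := CfsgLib.CharMore.split_off hc hone hne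
  intro g hg
  apply mem_of_perm H
  have h1 : r g = r 1 := by
    apply eq_one_of_linear hr _ hg
    intro χ hχ hne
    apply deg_one hχ
    rcases hd ⟨χ, hχ⟩ with h | h
    · exact h
    exfalso
    obtain ⟨c, hc⟩ := char_one_nat hr
    have h2 := CfsgLib.CharMore.degree_le_of_mult hr hχ hne (CfsgLib.CharInt.irr_one_eq_charDegree hχ) hc
    have h3 := congrFun hsplit 1
    rw [ind_one, Pi.add_apply, hc, mul_one] at h3
    have h4 : H.index = 1 + c := by exact_mod_cast h3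
    change charDegree χ = m at h
    omega
  rw [hsplit, Pi.add_apply, Pi.add_apply, h1]

/-- a normal subgroup of order prime to `m` is abelian -/
theorem comm_of_coprime (hd : Deg G m) (N : Subgroup G) [hN : N.Normal] (hc : (Nat.card N).Coprime m) :
    ∀ a ∈ N, ∀ b ∈ N, a * b = b * a := by
  classical
  letI := Fintype.ofFinite G
  letI := Fintype.ofFinite N
  intro a ha b hb
  have h1 : ∀ θ : IrrCharacter N, (θ : N → ℂ) 1 = 1 := by
    intro θ
    obtain ⟨χ, hχ, hne⟩ := exists_above N θ.2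
    obtain ⟨e, he, -⟩ := ratio_dvd_index θ.2 hχ hne
    obtain ⟨d, hdpos, hdd⟩ := irr_one_nat θ.2
    have h2 := degree_dvd_card θ.2 hdd
    have h3 : d ∣ charDegree χ := by
      refine Dvd.intro_left e ?_
      rw [CfsgLib.CharInt.irr_one_eq_charDegree hχ, hdd] at he
      exact_mod_cast he.symm
    have h4 : d = 1 := by
      rcases hd ⟨χ, hχ⟩ with h | h
      · change charDegree χ = 1 at h
        rw [h] at h3; exact Nat.dvd_one.1 h3
      · change charDegree χ = m at h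
        rw [h] at h3
        exact Nat.eq_one_of_dvd_coprimes hc h2 h3
    rw [hdd, h4, Nat.cast_one]
  have := CfsgLib.FixIrr19.comm_of_linear h1 ⟨a, ha⟩ ⟨b, hb⟩
  exact congrArg Subtype.val this

section Main
variable {N : Subgroup G} (hN : N.Normal)

/-- the inertia group of a linear character -/
def Tl (f : N →* ℂˣ) : Subgroup G := inertia hN (fun n => (f n : ℂ))

theorem mem_Tl {f : N →* ℂˣ} {g : G} : g ∈ Tl hN f ↔ ∀ n : N, f ⟨g * n * g⁻¹, hN.conj_mem n n.2 g⟩ = f n := by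
  unfold Tl
  rw [mem_inertia]
  constructor
  · intro h n
    exact Units.ext (congrFun h n)
  · intro h
    funext n
    rw [cj_apply, h]

theorem le_Tl (f : N →* ℂˣ) : N ≤ Tl hN f := by
  letI := Fintype.ofFinite N
  exact le_inertia hN (irr_classFun (isIrrCharacter_hom f))

theorem exists_ext (hcop : (Nat.card N).Coprime N.index) (f : N →* ℂˣ) :
    ∃ μ : Tl hN f →* ℂˣ, ∀ n : N, μ ⟨n, le_Tl hN f n.2⟩ = f n := by
  letI := Fintype.ofFinite G
  haveI := subgroupOf_normal hN (Tl hN f)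
  let e := Subgroup.subgroupOfEquivOfLe (le_Tl hN f)
  let f' : N.subgroupOf (Tl hN f) →* ℂˣ := f.comp e.toMonoidHom
  have hinv : Inv (N.subgroupOf (Tl hN f)) (fun n => (f' n : ℂ)) := by
    intro g n
    have := (mem_Tl hN).1 g.2 (e n)
    rw [Units.val_inj]
    exact this
  have hcop' : Nat.Coprime (N.subgroupOf (Tl hN f)).index (orderOf f') := by
    have h1 : (N.subgroupOf (Tl hN f)).index ∣ N.index := Subgroup.relIndex_dvd_index_of_normal N _
    have h2 : orderOf f' ∣ Nat.card N := by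
      apply orderOf_dvd_of_pow_eq_one
      ext x
      have : (e x) ^ Nat.card N = 1 := pow_card_eq_one'
      rw [MonoidHom.pow_apply, MonoidHom.comp_apply, ← map_pow]
      have h3 : e.toMonoidHom x ^ Nat.card N = 1 := this
      rw [h3]; simp
    exact Nat.Coprime.coprime_dvd_left h1 (Nat.Coprime.coprime_dvd_right h2 hcop.symm)
  obtain ⟨μ, hμ, -⟩ := ext_linear_coprime (f := f') hinv hcop'
  refine ⟨μ, fun n => ?_⟩
  exact hμ ⟨⟨n, le_Tl hN f n.2⟩, Subgroup.mem_subgroupOf.2 n.2⟩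

theorem deg_Tl (hd : Deg G m) (hcop : (Nat.card N).Coprime N.index) (f : N →* ℂˣ)
    [hn : (N.subgroupOf (Tl hN f)).Normal] (ψ : IrrCharacter (Tl hN f ⧸ N.subgroupOf (Tl hN f))) :
    (Tl hN f).index * charDegree (ψ : (Tl hN f ⧸ N.subgroupOf (Tl hN f)) → ℂ) = 1 ∨ (Tl hN f).index * charDegree (ψ : (Tl hN f ⧸ N.subgroupOf (Tl hN f)) → ℂ) = m := by
  classical
  letI := Fintype.ofFinite G
  letI := Fintype.ofFinite N
  letI := Fintype.ofFinite (Tl hN f)
  obtain ⟨μ, hμ⟩ := exists_ext hN hcop f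
  obtain ⟨χ, hχ, hχd⟩ := CfsgLib.FixIrr19.charDegree_infl _ ψ
  have hirr := CfsgLib.Once19.irr_mul_lin χ.2 μ
  have hne : classInner (resT (le_Tl hN f) (fun g => (μ g : ℂ) * (χ : Tl hN f → ℂ) g)) (fun n => (f n : ℂ)) ≠ 0 := by
    have h1 : resT (le_Tl hN f) (fun g => (μ g : ℂ) * (χ : Tl hN f → ℂ) g) = (χ : Tl hN f → ℂ) 1 • fun n => (f n : ℂ) := by
      funext n
      change (μ ⟨n, le_Tl hN f n.2⟩ : ℂ) * (χ : Tl hN f → ℂ) ⟨n, le_Tl hN f n.2⟩ = (χ : Tl hN f → ℂ) 1 * (f n : ℂ)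
      rw [hμ, hχ, hχ]
      have h2 : ((⟨n, le_Tl hN f n.2⟩ : Tl hN f) : Tl hN f ⧸ N.subgroupOf (Tl hN f)) = ((1 : Tl hN f) : Tl hN f ⧸ N.subgroupOf (Tl hN f)) := by
        rw [QuotientGroup.mk_one, QuotientGroup.eq_one_iff]
        exact Subgroup.mem_subgroupOf.2 n.2
      rw [h2, mul_comm]
    rw [h1, CfsgLib.CharNorm.ci_smul_l, irr_inner_self (isIrrCharacter_hom f), mul_one]
    exact CfsgLib.CharInt.irr_one_ne_zero χ.2
  have h3 := (clifford_corr hN (le_Tl hN f) (isIrrCharacter_hom f) (fun g => mem_inertia hN) hirr hne).1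
  have h4 : charDegree (indFun (Tl hN f) (fun g => (μ g : ℂ) * (χ : Tl hN f → ℂ) g)) = (Tl hN f).index * charDegree (ψ : (Tl hN f ⧸ N.subgroupOf (Tl hN f)) → ℂ) := by
    have h5 := CfsgLib.CharInt.irr_one_eq_charDegree h3
    rw [ind_one, map_one, Units.val_one, one_mul, CfsgLib.CharInt.irr_one_eq_charDegree χ.2, hχd] at h5
    exact_mod_cast h5.symm
  have h6 := hd ⟨_, h3⟩
  change charDegree (indFun _ _) = 1 ∨ charDegree (indFun _ _) = m at h6
  rwa [h4] at h6

theorem Tl_dich (hd : Deg G m) (hm : 1 < m) (hcop : (Nat.card N).Coprime N.index) (f : N →* ℂˣ) :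
    Tl hN f = ⊤ ∨ ((Tl hN f).Normal ∧ (Tl hN f).index = m ∧ ∀ a ∈ Tl hN f, ∀ b ∈ Tl hN f, a * b * a⁻¹ * b⁻¹ ∈ N) := by
  classical
  letI := Fintype.ofFinite G
  haveI hn := subgroupOf_normal hN (Tl hN f)
  letI := Fintype.ofFinite (Tl hN f ⧸ N.subgroupOf (Tl hN f))
  have hone : IsIrrCharacter (Tl hN f ⧸ N.subgroupOf (Tl hN f)) (fun _ => (1 : ℂ)) := by
    have := isIrrCharacter_hom (1 : (Tl hN f ⧸ N.subgroupOf (Tl hN f)) →* ℂˣ)
    simpa using this
  have h1 := deg_Tl hN hd hcop f ⟨_, hone⟩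
  have h2 : charDegree (fun _ : (Tl hN f ⧸ N.subgroupOf (Tl hN f)) => (1 : ℂ)) = 1 := by
    unfold charDegree; simp
  change (Tl hN f).index * charDegree (fun _ : (Tl hN f ⧸ N.subgroupOf (Tl hN f)) => (1 : ℂ)) = 1 ∨
    (Tl hN f).index * charDegree (fun _ : (Tl hN f ⧸ N.subgroupOf (Tl hN f)) => (1 : ℂ)) = m at h1
  rw [h2, mul_one] at h1
  rcases h1 with h1 | h1
  · left; exact Subgroup.index_eq_one.1 h1
  right
  have h3 := commutator_le_of_index hd (Tl hN f) h1.le
  refine ⟨⟨fun n hn g => ?_⟩, h1, ?_⟩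
  · have h4 : ⁅g, n⁆ ∈ Tl hN f := h3 (Subgroup.commutator_mem_commutator (Subgroup.mem_top _) (Subgroup.mem_top _))
    have h5 : g * n * g⁻¹ = ⁅g, n⁆ * n := by rw [commutatorElement_def]; group
    rw [h5]
    exact (Tl hN f).mul_mem h4 hn
  · have h4 : ∀ χ : IrrCharacter (Tl hN f ⧸ N.subgroupOf (Tl hN f)), (χ : (Tl hN f ⧸ N.subgroupOf (Tl hN f)) → ℂ) 1 = 1 := by
      intro χ
      apply deg_one χ.2
      rcases deg_Tl hN hd hcop f χ with h5 | h5
      · exact Nat.eq_one_of_mul_eq_one_left h5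
      · rw [h1] at h5
        exact Nat.eq_of_mul_eq_mul_left (by omega : 0 < m) (by rw [h5, mul_one])
    intro a ha b hb
    have h5 := CfsgLib.FixIrr19.comm_of_linear h4 (QuotientGroup.mk ⟨a, ha⟩) (QuotientGroup.mk ⟨b, hb⟩)
    have h6 : (QuotientGroup.mk (⟨a, ha⟩ * ⟨b, hb⟩ * (⟨a, ha⟩)⁻¹ * (⟨b, hb⟩)⁻¹ : Tl hN f) : Tl hN f ⧸ N.subgroupOf (Tl hN f)) = 1 := by
      rw [QuotientGroup.mk_mul, QuotientGroup.mk_mul, QuotientGroup.mk_mul, h5, QuotientGroup.mk_inv, QuotientGroup.mk_inv,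
        mul_inv_cancel_right, mul_inv_cancel]
    rw [QuotientGroup.eq_one_iff, Subgroup.mem_subgroupOf] at h6
    exact h6

end Main

/-- abstract averaging lemma -/
theorem stab_uniform {Q : Type u} [Group Q] [Finite Q] {X : Type v} [CommGroup X] (φ : Q →* MulAut X) {n : ℕ}
    (hX : ∀ x : X, x ^ n = 1) (hcop : n.Coprime (Nat.card Q)) {m : ℕ} (S : X → Subgroup Q) (hS : ∀ x g, g ∈ S x ↔ φ g x = x)
    (h : ∀ x, S x = ⊤ ∨ ((S x).Normal ∧ (S x).index = m)) {x₀ : X} (hx₀ : S x₀ ≠ ⊤) (x : X) : S x₀ ≤ S x := by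
  classical
  letI := Fintype.ofFinite Q
  have hT := (h x₀).resolve_left hx₀
  set T := S x₀ with hTdef
  haveI := hT.1
  letI := Fintype.ofFinite T
  set k := Fintype.card T with hk
  have hkQ : k ∣ Nat.card Q := by rw [hk, ← Nat.card_eq_fintype_card]; exact Subgroup.card_subgroup_dvd_card T
  have hkn : n.Coprime k := Nat.Coprime.coprime_dvd_right hkQ hcop
  have hpow : ∀ y z : X, y ^ k = z ^ k → y = z := by
    intro y z hyz
    have h1 : (y * z⁻¹) ^ k = 1 := by rw [mul_pow, inv_pow, hyz, mul_inv_cancel]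
    have h2 : orderOf (y * z⁻¹) ∣ Nat.gcd n k := Nat.dvd_gcd (orderOf_dvd_of_pow_eq_one (hX _)) (orderOf_dvd_of_pow_eq_one h1)
    rw [hkn.gcd_eq_one, Nat.dvd_one, orderOf_eq_one_iff] at h2
    exact mul_inv_eq_one.1 h2
  let nm : X →* X := ∏ t : T, ((φ (t : Q)) : X ≃* X).toMonoidHom
  have hnm : ∀ y, nm y = ∏ t : T, φ (t : Q) y := by
    intro y
    change (∏ t : T, ((φ (t : Q)) : X ≃* X).toMonoidHom) y = _
    rw [MonoidHom.finsetProd_apply]; rfl
  have hconj : ∀ (g : Q) y, nm (φ g y) = φ g (nm y) := by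
    intro g y
    rw [hnm, hnm, map_prod]
    let e : T ≃ T := (MulAut.conjNormal g : MulAut T).toEquiv
    rw [← Equiv.prod_comp e]
    apply Finset.prod_congr rfl
    intro t _
    have h1 : ((e t : T) : Q) = g * t * g⁻¹ := rfl
    rw [h1, ← MulAut.mul_apply, ← MulAut.mul_apply, ← map_mul, ← map_mul, inv_mul_cancel_right]
  have hfix : ∀ (t : T) y, φ (t : Q) (nm y) = nm y := by
    intro t y
    rw [hnm, map_prod]
    rw [← Equiv.prod_comp (Equiv.mulLeft t) (fun s : T => φ (s : Q) y)]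
    apply Finset.prod_congr rfl
    intro s _
    rw [← MulAut.mul_apply, ← map_mul]; rfl
  have hnmfix : ∀ y, (∀ t : T, φ (t : Q) y = y) → nm y = y ^ k := by
    intro y hy
    rw [hnm, Finset.prod_congr rfl (fun t _ => hy t), Finset.prod_const, Finset.card_univ]
  set ν := x ^ k * (nm x)⁻¹ with hν
  have hnmν : nm ν = 1 := by
    rw [hν, map_mul, map_inv, map_pow, hnmfix (nm x) (fun t => hfix t x), mul_inv_cancel]
  have hνfix : ∀ t : T, φ (t : Q) ν = ν := by
    set y := x₀ * ν with hy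
    have h1 : S y ≤ S x₀ ⊓ S ν := by
      intro g hg
      rw [hS] at hg
      have h2 : φ g x₀ = x₀ := by
        apply hpow
        have h3 := congrArg nm hg
        rw [hconj, hy, map_mul, hnmν, mul_one, hnmfix x₀ (fun t => (hS _ _).1 t.2), map_pow] at h3
        exact h3
      have h3 : φ g ν = ν := by
        rw [hy, map_mul, h2] at hg
        exact mul_left_cancel hg
      exact ⟨(hS _ _).2 h2, (hS _ _).2 h3⟩
    have h2 : S y = S x₀ := by
      rcases h y with h3 | h3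
      · exfalso
        apply hx₀
        rw [eq_top_iff, ← h3]
        exact h1.trans inf_le_left
      · have h4 : S y ≤ S x₀ := h1.trans inf_le_left
        apply le_antisymm h4
        have h5 := Subgroup.relIndex_mul_index h4
        rw [h3.2, hT.2] at h5
        have hm0 : m ≠ 0 := by rw [← h3.2]; exact Subgroup.index_ne_zero_of_finite
        have h6 : (S y).relIndex (S x₀) = 1 := Nat.eq_of_mul_eq_mul_right (Nat.pos_of_ne_zero hm0) (by rw [h5, one_mul])
        exact Subgroup.relIndex_eq_one.1 h6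
    intro t
    have h3 : (t : Q) ∈ S y := by rw [h2]; exact t.2
    exact (hS _ _).1 (h1 h3).2
  have hν1 : ν = 1 := by
    apply hpow
    rw [← hnmfix ν hνfix, hnmν, one_pow]
  have hxn : x ^ k = nm x := mul_inv_eq_one.1 hν1
  intro t ht
  rw [hS]
  apply hpow
  rw [← map_pow, hxn, hfix ⟨t, ht⟩ x]

/-- conjugation action of `G` on the linear characters of `N` -/
def actX {G : Type u} [Group G] {N : Subgroup G} (hN : N.Normal) : G →* MulAut (N →* ℂˣ) where
  toFun g :=
    { toFun := fun f => f.comp ((MulAut.conjNormal g⁻¹ : MulAut N).toMonoidHom)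
      invFun := fun f => f.comp ((MulAut.conjNormal g : MulAut N).toMonoidHom)
      left_inv := fun f => by
        ext x
        change ((f ((MulAut.conjNormal g⁻¹ : MulAut N) ((MulAut.conjNormal g : MulAut N) x)) : ℂˣ) : ℂ) = _
        rw [← MulAut.mul_apply, ← map_mul, inv_mul_cancel, map_one]; rfl
      right_inv := fun f => by
        ext x
        change ((f ((MulAut.conjNormal g : MulAut N) ((MulAut.conjNormal g⁻¹ : MulAut N) x)) : ℂˣ) : ℂ) = _
        rw [← MulAut.mul_apply, ← map_mul, mul_inv_cancel, map_one]; rfl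
      map_mul' := fun f f' => rfl }
  map_one' := by
    ext f x
    change ((f ((MulAut.conjNormal (1 : G)⁻¹ : MulAut N) x) : ℂˣ) : ℂ) = _
    rw [inv_one, map_one]; rfl
  map_mul' := fun g h => by
    ext f x
    change ((f ((MulAut.conjNormal (g * h)⁻¹ : MulAut N) x) : ℂˣ) : ℂ) = ((f ((MulAut.conjNormal h⁻¹ : MulAut N) ((MulAut.conjNormal g⁻¹ : MulAut N) x)) : ℂˣ) : ℂ)
    rw [← MulAut.mul_apply, ← map_mul, mul_inv_rev]

theorem actX_fix {G : Type u} [Group G] [Finite G] {N : Subgroup G} (hN : N.Normal) (g : G) (f : N →* ℂˣ) :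
    actX hN g f = f ↔ g ∈ Tl hN f := by
  rw [← Subgroup.inv_mem_iff, mem_Tl]
  constructor
  · intro h n
    have := DFunLike.congr_fun h n
    exact this
  · intro h
    ext n
    have := h n
    exact congrArg Units.val this

section Struct
variable {N : Subgroup G}

/-- if one linear character of `N` is not invariant, then its stabilizer stabilizes everything -/
theorem Tl_uniform (hN : N.Normal) (hd : Deg G m) (hm : 1 < m) (hcop : (Nat.card N).Coprime N.index)
    (hab : ∀ a ∈ N, ∀ b ∈ N, a * b = b * a) {f₀ : N →* ℂˣ} (h₀ : Tl hN f₀ ≠ ⊤) (f : N →* ℂˣ) : Tl hN f₀ ≤ Tl hN f := by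
  haveI := hN
  have hker : ∀ g ∈ N, actX hN g = 1 := by
    intro g hg
    ext f x
    have : actX hN g f = f := (actX_fix hN g f).2 (le_Tl hN f hg)
    rw [this]; rfl
  let φ : G ⧸ N →* MulAut (N →* ℂˣ) := QuotientGroup.lift N (actX hN) (fun g hg => hker g hg)
  have hφ : ∀ g : G, φ (g : G ⧸ N) = actX hN g := fun g => QuotientGroup.lift_mk' _ _ _
  let S : (N →* ℂˣ) → Subgroup (G ⧸ N) := fun f => (Tl hN f).map (QuotientGroup.mk' N)
  have hmemS : ∀ f (g : G), (g : G ⧸ N) ∈ S f ↔ g ∈ Tl hN f := by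
    intro f g
    constructor
    · rintro ⟨t, ht, hte⟩
      have h1 : t⁻¹ * g ∈ N := QuotientGroup.eq.1 hte
      have h2 := (Tl hN f).mul_mem ht (le_Tl hN f h1)
      rwa [mul_inv_cancel_left] at h2
    · intro h; exact ⟨g, h, rfl⟩
  have hS : ∀ f (q : G ⧸ N), q ∈ S f ↔ φ q f = f := by
    intro f q
    obtain ⟨g, rfl⟩ := QuotientGroup.mk_surjective q
    rw [hmemS, hφ, actX_fix]
  have hsurj : Function.Surjective (QuotientGroup.mk' N) := QuotientGroup.mk'_surjective N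
  have hdich : ∀ f, S f = ⊤ ∨ ((S f).Normal ∧ (S f).index = m) := by
    intro f
    rcases Tl_dich hN hd hm hcop f with h | ⟨h1, h2, -⟩
    · left
      change (Tl hN f).map (QuotientGroup.mk' N) = ⊤
      rw [h, ← MonoidHom.range_eq_map, MonoidHom.range_eq_top]
      exact hsurj
    · right
      refine ⟨h1.map _ hsurj, ?_⟩
      rw [← h2]
      exact Subgroup.index_map_eq _ hsurj (by rw [QuotientGroup.ker_mk']; exact le_Tl hN f)
  have hX : ∀ f : N →* ℂˣ, f ^ Nat.card N = 1 := by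
    intro f
    ext x
    rw [MonoidHom.pow_apply, ← map_pow, pow_card_eq_one', map_one]; rfl
  have hne : S f₀ ≠ ⊤ := by
    intro h
    apply h₀
    rw [eq_top_iff]
    intro g _
    rw [← hmemS, h]; exact Subgroup.mem_top _
  have hfin := stab_uniform φ hX (by rw [← Subgroup.index_eq_card]; exact hcop) S hS hdich hne f
  intro g hg
  exact (hmemS f g).1 (hfin ((hmemS f₀ g).2 hg))

/-- an element stabilizing all linear characters centralizes `N` -/
theorem comm_of_Tl (hN : N.Normal) (hab : ∀ a ∈ N, ∀ b ∈ N, a * b = b * a) {g : G} (h : ∀ f : N →* ℂˣ, g ∈ Tl hN f) :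
    ∀ n ∈ N, g * n = n * g := by
  intro n hn
  by_contra hcon
  have hab' : ∀ a b : N, a * b = b * a := fun a b => Subtype.ext (hab a a.2 b b.2)
  have h1 : (⟨g * n * g⁻¹, hN.conj_mem n hn g⟩ : N) * (⟨n, hn⟩ : N)⁻¹ ≠ 1 := by
    intro h2
    apply hcon
    have h3 := congrArg Subtype.val (mul_inv_eq_one.1 h2)
    change g * n * g⁻¹ = n at h3
    exact mul_inv_eq_iff_eq_mul.1 h3
  obtain ⟨f, hf⟩ := exists_hom_ne_one hab' h1
  apply hf
  have h2 := (mem_Tl hN).1 (h f) ⟨n, hn⟩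
  rw [map_mul, map_inv, h2, mul_inv_cancel]

/-- case (a) -/
theorem case_a (hN : N.Normal) (hd : Deg G m) (hm : 1 < m) (hcop : (Nat.card N).Coprime N.index)
    (hab : ∀ a ∈ N, ∀ b ∈ N, a * b = b * a) {f₀ : N →* ℂˣ} (h₀ : Tl hN f₀ ≠ ⊤) :
    ∃ A : Subgroup G, A.Normal ∧ (∀ a ∈ A, ∀ b ∈ A, a * b = b * a) ∧ A.index = m := by
  obtain ⟨h1, h2, h3⟩ := (Tl_dich hN hd hm hcop f₀).resolve_left h₀
  refine ⟨Tl hN f₀, h1, ?_, h2⟩
  have hc : ∀ g ∈ Tl hN f₀, ∀ n ∈ N, g * n = n * g := fun g hg =>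
    comm_of_Tl hN hab (fun f => Tl_uniform hN hd hm hcop hab h₀ f hg)
  intro s hs t ht
  haveI := hN
  set c := s * t * s⁻¹ * t⁻¹ with hcdef
  have hcN : c ∈ N := h3 s hs t ht
  have hst : s * t * s⁻¹ = c * t := by rw [hcdef]; group
  have hct : Commute c t := (hc t ht c hcN).symm
  have h4 : s * t ^ N.index * s⁻¹ = c ^ N.index * t ^ N.index := by
    rw [← hct.mul_pow, ← hst, conj_pow]
  have h5 : t ^ N.index ∈ N := Subgroup.pow_index_mem N t
  rw [hc s hs _ h5, mul_inv_cancel_right] at h4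
  have h6 : c ^ N.index = 1 := by
    have := h4.symm
    rwa [mul_eq_right] at this
  have h7 : c ^ Nat.card N = 1 := by
    have := pow_card_eq_one' (G := N) (x := ⟨c, hcN⟩)
    exact congrArg Subtype.val this
  have h8 : orderOf c ∣ Nat.gcd (Nat.card N) N.index := Nat.dvd_gcd (orderOf_dvd_of_pow_eq_one h7) (orderOf_dvd_of_pow_eq_one h6)
  rw [hcop.gcd_eq_one, Nat.dvd_one, orderOf_eq_one_iff] at h8
  have h9 := mul_inv_eq_one.1 h8
  exact mul_inv_eq_iff_eq_mul.1 h9

end Struct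

/-- the intersection of the `O^p(G)` for `p ∣ m` -/
def NN (G : Type u) [Group G] (m : ℕ) : Subgroup G := ⨅ p : m.primeFactors, pResidual (p : ℕ) G

theorem NN_normal (m : ℕ) : (NN G m).Normal := by
  unfold NN
  exact Subgroup.normal_iInf_normal (fun p => CfsgLib.TransFus.pResidual_normal _)

theorem thompson' (hd : Deg G m) {p : ℕ} [hp : Fact p.Prime] (hpm : p ∣ m) : ¬ p ∣ Nat.card (pResidual p G) :=
  CfsgLib.Resid19.thompson (fun χ hχ => by
    rcases hd χ with h | h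
    · exact absurd h hχ
    · rw [h]; exact hpm)

theorem NN_card (hd : Deg G m) (hm0 : m ≠ 0) : (Nat.card (NN G m)).Coprime m := by
  apply Nat.coprime_of_dvd
  intro p hp h1 h2
  haveI := Fact.mk hp
  apply thompson' hd h2
  have h3 : NN G m ≤ pResidual p G := iInf_le (fun p : m.primeFactors => pResidual (p : ℕ) G) ⟨p, Nat.mem_primeFactors.2 ⟨hp, h2, hm0⟩⟩
  exact h1.trans (Subgroup.card_dvd_of_le h3)

theorem NN_prime (hm : m ≠ 0) {q : ℕ} (hq : q.Prime) (h : q ∣ (NN G m).index) : q ∣ m := by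
  haveI := Fact.mk hq
  haveI := NN_normal (G := G) m
  rw [Subgroup.index_eq_card] at h
  obtain ⟨x, hx⟩ := exists_prime_orderOf_dvd_card' q h
  obtain ⟨g, rfl⟩ := QuotientGroup.mk_surjective x
  have h1 : g ∉ NN G m := by
    intro h2
    rw [(QuotientGroup.eq_one_iff g).2 h2, orderOf_one] at hx
    exact hq.one_lt.ne hx
  have h2 : g ^ q ∈ NN G m := by
    rw [← QuotientGroup.eq_one_iff, QuotientGroup.mk_pow, ← hx, pow_orderOf_eq_one]
  unfold NN at h1 h2
  rw [Subgroup.mem_iInf] at h1 h2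
  push Not at h1
  obtain ⟨p, hp⟩ := h1
  have h3 := h2 p
  haveI : Fact (p : ℕ).Prime := ⟨Nat.prime_of_mem_primeFactors p.2⟩
  haveI := CfsgLib.TransFus.pResidual_normal (G := G) (p : ℕ)
  have h4 := CfsgLib.TransFus.isPGroup_quotient_pResidual (p := (p : ℕ)) (pResidual (p : ℕ) G) le_rfl
  obtain ⟨k, hk⟩ := h4 (g : G ⧸ pResidual (p : ℕ) G)
  have h5 : orderOf (g : G ⧸ pResidual (p : ℕ) G) = q := by
    apply orderOf_eq_prime
    · rw [← QuotientGroup.mk_pow]; exact (QuotientGroup.eq_one_iff _).2 h3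
    · intro h6; exact hp ((QuotientGroup.eq_one_iff _).1 h6)
  have h6 : q ∣ (p : ℕ) ^ k := by rw [← h5]; exact orderOf_dvd_of_pow_eq_one hk
  have h7 : q = (p : ℕ) := (Nat.prime_dvd_prime_iff_eq hq (Nat.prime_of_mem_primeFactors p.2)).1 (hq.dvd_of_dvd_pow h6) 
  rw [h7]
  exact Nat.dvd_of_mem_primeFactors p.2

theorem NN_coprime (hd : Deg G m) (hm : m ≠ 0) : (Nat.card (NN G m)).Coprime (NN G m).index := by
  apply Nat.coprime_of_dvd
  intro q hq h1 h2
  have h3 := NN_prime hm hq h2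
  have h4 := Nat.dvd_gcd h1 h3
  rw [(NN_card hd hm).gcd_eq_one] at h4
  exact hq.one_lt.ne' (Nat.dvd_one.1 h4)

theorem nilp_of_central (hc : NN G m ≤ Subgroup.center G) : Group.IsNilpotent G := by
  haveI : ∀ p : m.primeFactors, (pResidual (p : ℕ) G).Normal := fun p => CfsgLib.TransFus.pResidual_normal _
  let f : G →* (∀ p : m.primeFactors, G ⧸ pResidual (p : ℕ) G) := Pi.monoidHom (fun p => QuotientGroup.mk' _)
  haveI : ∀ p : m.primeFactors, Group.IsNilpotent (G ⧸ pResidual (p : ℕ) G) := by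
    intro p
    haveI : Fact (p : ℕ).Prime := ⟨Nat.prime_of_mem_primeFactors p.2⟩
    exact (CfsgLib.TransFus.isPGroup_quotient_pResidual (p := (p : ℕ)) (pResidual (p : ℕ) G) le_rfl).isNilpotent
  apply Subgroup.isNilpotent_of_ker_le_center f
  refine le_trans ?_ hc
  intro g hg
  unfold NN
  rw [Subgroup.mem_iInf]
  intro p
  have := congrFun ((MonoidHom.mem_ker).1 hg) p
  exact (QuotientGroup.eq_one_iff g).1 this

theorem ne_zero_of_deg (hm : ∃ χ : IrrCharacter G, charDegree (χ : G → ℂ) = m) : m ≠ 0 := by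
  obtain ⟨χ₀, hχ₀⟩ := hm
  intro h
  have h1 := CfsgLib.CharInt.irr_one_ne_zero χ₀.2
  rw [CfsgLib.CharInt.irr_one_eq_charDegree χ₀.2, hχ₀, h, Nat.cast_zero] at h1
  exact h1 rfl

theorem dich (hd : Deg G m) (hm : ∃ χ : IrrCharacter G, charDegree (χ : G → ℂ) = m) (hm1 : m ≠ 1) :
    (∃ A : Subgroup G, A.Normal ∧ (∀ a ∈ A, ∀ b ∈ A, a * b = b * a) ∧ A.index = m) ∨ Group.IsNilpotent G := by
  classical
  have hm0 := ne_zero_of_deg hm
  have hm2 : 1 < m := by omega
  have hN := NN_normal (G := G) m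
  have hcop := NN_coprime hd hm0
  have hab := comm_of_coprime hd (NN G m) (NN_card hd hm0)
  by_cases hall : ∀ f : NN G m →* ℂˣ, Tl hN f = ⊤
  swap
  · push Not at hall
    obtain ⟨f₀, h₀⟩ := hall
    left
    exact case_a hN hd hm2 hcop hab h₀
  right
  have hcen : NN G m ≤ Subgroup.center G := by
    intro n hn
    rw [Subgroup.mem_center_iff]
    intro g
    exact comm_of_Tl hN hab (fun f => by rw [hall]; exact Subgroup.mem_top _) n hn
  exact nilp_of_central hcen

theorem main (hd : Deg G m) (hm : ∃ χ : IrrCharacter G, charDegree (χ : G → ℂ) = m) (hm1 : m ≠ 1) :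
    (∃ A : Subgroup G, A.Normal ∧ (∀ a ∈ A, ∀ b ∈ A, a * b = b * a) ∧ A.index = m) ∨ ∃ p e : ℕ, p.Prime ∧ m = p ^ e ∧
      ∃ P A : Subgroup G, P.Normal ∧ A.Normal ∧ IsPGroup p P ∧ (∀ a ∈ A, ∀ b ∈ A, a * b = b * a) ∧ P ⊓ A = ⊥ ∧ P ⊔ A = ⊤ := by
  classical
  have hm0 := ne_zero_of_deg hm
  rcases dich hd hm hm1 with h | hnil
  · exact Or.inl h
  right
  obtain ⟨χ₀, hχ₀⟩ := hm
  obtain ⟨p, hp, hpm⟩ := Nat.exists_prime_and_dvd hm1
  haveI := Fact.mk hp
  let P : Sylow p G := default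
  have hPn : (P : Subgroup G).Normal := by
    have := (Group.isNilpotent_of_finite_tfae (G := G)).out 0 3
    exact this.1 inferInstance p inferInstance P
  set A := pResidual p G with hA
  haveI hAn : A.Normal := CfsgLib.TransFus.pResidual_normal p
  have hAc : ¬ p ∣ Nat.card A := thompson' hd hpm
  have hQ : IsPGroup p (G ⧸ A) := CfsgLib.TransFus.isPGroup_quotient_pResidual A le_rfl
  have hinf : (P : Subgroup G) ⊓ A = ⊥ := by
    rw [eq_bot_iff]
    intro x hx
    have h1 : orderOf x ∣ Nat.card A := by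
      rw [← Subgroup.orderOf_mk x hx.2]; exact orderOf_dvd_natCard _
    obtain ⟨k, hk⟩ := P.2 ⟨x, hx.1⟩
    have hk' : x ^ p ^ k = 1 := congrArg Subtype.val hk
    have h2 : orderOf x ∣ Nat.gcd (p ^ k) (Nat.card A) := Nat.dvd_gcd (orderOf_dvd_of_pow_eq_one hk') h1
    have h3 : Nat.Coprime (p ^ k) (Nat.card A) := Nat.Coprime.pow_left _ ((Nat.Prime.coprime_iff_not_dvd hp).2 hAc)
    rw [h3.gcd_eq_one, Nat.dvd_one, orderOf_eq_one_iff] at h2
    exact h2
  -- a nonlinear character of G/A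
  have hnl : ∃ ψ : IrrCharacter (G ⧸ A), charDegree (ψ : G ⧸ A → ℂ) ≠ 1 := by
    by_contra hcon
    push Not at hcon
    have h1 := CfsgLib.FixIrr19.comm_of_linear (G := G ⧸ A) (fun χ => deg_one χ.2 (hcon χ))
    have hPab : ∀ a ∈ (P : Subgroup G), ∀ b ∈ (P : Subgroup G), a * b = b * a := by
      intro a ha b hb
      have h2 := h1 (a : G ⧸ A) (b : G ⧸ A)
      have h3 : a * b * (b * a)⁻¹ ∈ (P : Subgroup G) ⊓ A := by
        refine ⟨(P : Subgroup G).mul_mem ((P : Subgroup G).mul_mem ha hb) ((P : Subgroup G).inv_mem ((P : Subgroup G).mul_mem hb ha)), ?_⟩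
        refine (QuotientGroup.eq_one_iff _).1 ?_
        rw [QuotientGroup.mk_mul, QuotientGroup.mk_mul, h2, QuotientGroup.mk_inv, QuotientGroup.mk_mul, mul_inv_cancel]
      rw [hinf, Subgroup.mem_bot, mul_inv_eq_one] at h3
      exact h3
    haveI := hPn
    have h4 := CfsgLib.CharMore.ito χ₀.2 (P : Subgroup G) hPab
    rw [hχ₀] at h4
    exact P.not_dvd_index (hpm.trans h4)
  obtain ⟨ψ, hψ⟩ := hnl
  obtain ⟨χ, -, hχd⟩ := CfsgLib.FixIrr19.charDegree_infl A ψ
  have hmψ : charDegree (ψ : G ⧸ A → ℂ) = m := by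
    rw [← hχd]
    exact (hd χ).resolve_left (by rw [hχd]; exact hψ)
  obtain ⟨k, hk⟩ := IsPGroup.iff_card.1 hQ
  have hdvd : m ∣ p ^ k := by
    rw [← hmψ, ← hk]
    exact CfsgLib.CharInt2.charDegree_dvd_card ψ.2
  obtain ⟨e, -, he⟩ := (Nat.dvd_prime_pow hp).1 hdvd
  refine ⟨p, e, hp, he, P, A, hPn, hAn, P.2, comm_of_coprime hd A ?_, hinf, ?_⟩
  · rw [he]
    exact Nat.Coprime.pow_right _ ((Nat.Prime.coprime_iff_not_dvd hp).2 hAc).symm
  · rw [sup_comm]; exact CfsgLib.Tate.pResidual_sup P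

theorem ind_comm_eq (H : Subgroup G) (l : H →* ℂˣ) (hH : commutator G ≤ H) [Fintype G] {a b : G} (ha : a ∈ commutator G)
    (hb : b ∈ commutator G) : indFun H (fun h => (l h : ℂ)) (a * b * (b * a)⁻¹) = indFun H (fun h => (l h : ℂ)) 1 := by
  rw [ind_apply, ind_apply]
  congr 1
  apply Finset.sum_congr rfl
  intro x _
  rw [mul_one, inv_mul_cancel, ext_mem H _ H.one_mem]
  have hn : (commutator G).Normal := inferInstance
  have ha' : x⁻¹ * a * x ∈ commutator G := by simpa using hn.conj_mem a ha x⁻¹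
  have hb' : x⁻¹ * b * x ∈ commutator G := by simpa using hn.conj_mem b hb x⁻¹
  have h1 : x⁻¹ * (a * b * (b * a)⁻¹) * x = ((⟨_, hH ha'⟩ * ⟨_, hH hb'⟩ * (⟨_, hH hb'⟩ * ⟨_, hH ha'⟩)⁻¹ : H) : G) := by
    simp only [Subgroup.coe_mul, Subgroup.coe_inv]
    group
  rw [h1, ext_coe]
  have h2 : l (⟨_, hH ha'⟩ * ⟨_, hH hb'⟩ * (⟨_, hH hb'⟩ * ⟨_, hH ha'⟩)⁻¹ : H) = 1 := by
    rw [map_mul, map_inv, map_mul, map_mul, mul_comm (l ⟨_, hH hb'⟩), mul_inv_cancel]
  have h3 : l (⟨1, H.one_mem⟩ : H) = 1 := map_one l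
  rw [h2, h3]

theorem derived_comm (hd : Deg G m) (hm : ∃ χ : IrrCharacter G, charDegree (χ : G → ℂ) = m) (hm1 : m ≠ 1) :
    ∀ a ∈ commutator G, ∀ b ∈ commutator G, a * b = b * a := by
  classical
  letI := Fintype.ofFinite G
  have hm0 := ne_zero_of_deg hm
  rcases dich hd hm hm1 with ⟨A, hA, hab, hAm⟩ | hnil
  · have h1 := commutator_le_of_index hd A hAm.le
    intro a ha b hb
    exact hab a (h1 ha) b (h1 hb)
  intro a ha b hb
  have h1 : IsConj (1 : G) (a * b * (b * a)⁻¹) := by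
    rw [isConj_iff_irr]
    intro χ
    obtain ⟨H, l, hHl⟩ := CfsgLib.Monomial.monomial χ.2
    have h2 : charDegree (χ : G → ℂ) = H.index := by
      have h3 := CfsgLib.CharInt.irr_one_eq_charDegree χ.2
      rw [hHl, ind_one, map_one, Units.val_one, mul_one] at h3
      rw [hHl]
      exact_mod_cast h3.symm
    have h3 : H.index ≤ m := by
      rw [← h2]
      rcases hd χ with h | h <;> omega
    rw [hHl, ind_comm_eq H l (commutator_le_of_index hd H h3) ha hb]
  have h2 := isConj_one_right.1 h1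
  exact mul_inv_eq_one.1 h2

end CfsgLib.TwoDeg19
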