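import Mathlib
import Cfsg.Agent.EqBase
import Cfsg.Agent.LibTwoDeg19
import Cfsg.Agent.LibGallagher
import Cfsg.Agent.LibFS

set_option autoImplicit false
set_option maxHeartbeats 400000
set_option linter.unusedSectionVars false

/-! Counting linear characters against a minimal normal subgroup (helper19) -/

namespace CfsgLib.MinN19

open Cfsg CfsgLib.CharBasic CfsgLib.Clifford CfsgLib.Extend CfsgLib.CharIndA CfsgLib.TwoDeg19 CfsgLib.CharNorm CfsgLib.FS
open scoped ComplexConjugate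

universe u v w

theorem normal_of_comm_le' {G : Type u} [Group G] {A : Subgroup G} (h : commutator G ≤ A) : A.Normal := by
  refine ⟨fun n hn g => ?_⟩
  have h4 : g * n * g⁻¹ * n⁻¹ ∈ A := h (Subgroup.commutator_mem_commutator (Subgroup.mem_top g) (Subgroup.mem_top n))
  have h5 : g * n * g⁻¹ = (g * n * g⁻¹ * n⁻¹) * n := by group
  rw [h5]
  exact A.mul_mem h4 hn

section Count
variable {G : Type u} [Group G] [Finite G]

theorem card_trivial_on (I : Subgroup G) : Nat.card {ν : G →* ℂˣ // ∀ i ∈ I, ν i = 1} ≤ I.index := by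
  classical
  haveI : Finite (G →* ℂˣ) := CfsgLib.Resid19.finite_hom
  set M := I ⊔ commutator G with hM
  haveI : M.Normal := CfsgLib.MinN19.normal_of_comm_le' (le_sup_right : commutator G ≤ M)
  have h1 : ∀ ν : {ν : G →* ℂˣ // ∀ i ∈ I, ν i = 1}, ∀ g ∈ M, ν.1 g = 1 := by
    intro ν
    have h2 : M ≤ ν.1.ker := sup_le (fun i hi => ν.2 i hi) (Abelianization.commutator_subset_ker ν.1)
    exact fun g hg => h2 hg
  let F : {ν : G →* ℂˣ // ∀ i ∈ I, ν i = 1} → ((G ⧸ M) →* ℂˣ) := fun ν => QuotientGroup.lift M ν.1 (h1 ν)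
  have hF : Function.Injective F := by
    intro a b hab
    apply Subtype.ext
    ext g
    have := DFunLike.congr_fun hab (g : G ⧸ M)
    exact congrArg Units.val this
  haveI : Finite ((G ⧸ M) →* ℂˣ) := CfsgLib.Resid19.finite_hom
  refine (Nat.card_le_card_of_injective F hF).trans ?_
  rw [card_hom]
  refine (Nat.le_of_dvd Nat.card_pos (Subgroup.index_dvd_card _)).trans ?_
  rw [← Subgroup.index_eq_card]
  exact Nat.le_of_dvd (Nat.pos_of_ne_zero Subgroup.index_ne_zero_of_finite) (Subgroup.index_dvd_of_le le_sup_left)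

theorem count_le (I : Subgroup G) {L : Type v} {S : Type w} [Finite L] [Finite S] (F : L → S) (r : L → (G →* ℂˣ))
    (hr : Function.Injective r) (hF : ∀ l l', F l = F l' → ∀ i ∈ I, r l i = r l' i) : Nat.card L ≤ I.index * Nat.card S := by
  classical
  haveI : Finite (G →* ℂˣ) := CfsgLib.Resid19.finite_hom
  have hb : ∀ l : L, ∃ b : L, F b = F l := fun l => ⟨l, rfl⟩
  let base : Set.range F → L := fun s => s.2.choose
  have hbase : ∀ s : Set.range F, F (base s) = s := fun s => s.2.choose_spec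
  let Φ : L → {ν : G →* ℂˣ // ∀ i ∈ I, ν i = 1} × S := fun l =>
    (⟨r l / r (base ⟨F l, l, rfl⟩), fun i hi => by
      have h1 := hF l (base ⟨F l, l, rfl⟩) (hbase ⟨F l, l, rfl⟩).symm i hi
      change r l i / r (base ⟨F l, l, rfl⟩) i = 1
      rw [h1, div_self']⟩, F l)
  have hΦ : Function.Injective Φ := by
    intro l l' h
    have h1 : F l = F l' := congrArg Prod.snd h
    have h2 : r l / r (base ⟨F l, l, rfl⟩) = r l' / r (base ⟨F l', l', rfl⟩) :=
      congrArg (fun x : {ν : G →* ℂˣ // ∀ i ∈ I, ν i = 1} × S => x.1.1) h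
    have h3 : (⟨F l, l, rfl⟩ : Set.range F) = ⟨F l', l', rfl⟩ := Subtype.ext h1
    rw [h3] at h2
    apply hr
    exact div_left_injective h2
  refine (Nat.card_le_card_of_injective Φ hΦ).trans ?_
  rw [Nat.card_prod]
  exact Nat.mul_le_mul_right _ (card_trivial_on I)

end Count

section Min
variable {G : Type u} [Group G] [Fintype G] {N : Subgroup G} [Fintype N] (hN : N.Normal)

omit [Fintype G] [Fintype N] in
include hN in
theorem hom_trivial (hmin : ∀ M : Subgroup G, M.Normal → M ≤ N → M = ⊥ ∨ M = N) (hna : ¬ IsMulCommutative N) (l : G →* ℂˣ) :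
    ∀ n ∈ N, l n = 1 := by
  haveI := hN
  have h1 : (N ⊓ l.ker).Normal := inferInstance
  rcases hmin _ h1 inf_le_left with h2 | h2
  · exfalso
    apply hna
    refine ⟨⟨fun a b => ?_⟩⟩
    have h3 : (a : G) * (b : G) * ((b : G) * (a : G))⁻¹ ∈ N ⊓ l.ker := by
      refine ⟨N.mul_mem (N.mul_mem a.2 b.2) (N.inv_mem (N.mul_mem b.2 a.2)), ?_⟩
      change l ((a : G) * (b : G) * ((b : G) * (a : G))⁻¹) = 1
      rw [map_mul, map_inv, map_mul, map_mul, mul_comm (l a), mul_inv_cancel]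
    rw [h2, Subgroup.mem_bot, mul_inv_eq_one] at h3
    exact Subtype.ext h3
  · intro n hn
    have h3 : n ∈ N ⊓ l.ker := by rw [h2]; exact hn
    exact h3.2

variable {I : Subgroup G} [Fintype I] (hNI : N ≤ I) {φ : N → ℂ} (hφ : IsIrrCharacter N φ)
  (hI : ∀ g, g ∈ I ↔ cj hN g φ = φ) {ψ : I → ℂ} (hψ : IsIrrCharacter I ψ) (hψN : ∀ n : N, ψ ⟨n, hNI n.2⟩ = φ n)

/-- twisting -/
def tw (ψ : I → ℂ) (l : G →* ℂˣ) : I → ℂ := fun i => ((l.comp I.subtype) i : ℂ) * ψ i

include hψ in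
theorem tw_irr (l : G →* ℂˣ) : IsIrrCharacter I (tw ψ l) := CfsgLib.Once19.irr_mul_lin hψ (l.comp I.subtype)

include hφ hψN in
theorem tw_ne {l : G →* ℂˣ} (hl : ∀ n ∈ N, l n = 1) : classInner (resT hNI (tw ψ l)) φ ≠ 0 := by
  have h1 : resT hNI (tw ψ l) = φ := by
    funext n
    change ((l (n : G) : ℂˣ) : ℂ) * ψ ⟨n, hNI n.2⟩ = φ n
    rw [hl n n.2, Units.val_one, one_mul, hψN]
  rw [h1, irr_inner_self hφ]
  exact one_ne_zero

include hN hφ hI hψ hψN in
theorem ind_irr {l : G →* ℂˣ} (hl : ∀ n ∈ N, l n = 1) : IsIrrCharacter G (indFun I (tw ψ l)) :=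
  (clifford_corr hN hNI hφ hI (tw_irr hψ l) (tw_ne hNI hφ hψN hl)).1

include hN hφ hI hψ hψN in
theorem ind_deg {l : G →* ℂˣ} (hl : ∀ n ∈ N, l n = 1) : charDegree (indFun I (tw ψ l)) = charDegree φ * I.index := by
  have h5 := CfsgLib.CharInt.irr_one_eq_charDegree (ind_irr hN hNI hφ hI hψ hψN hl)
  have h6 : tw ψ l 1 = charDegree φ := by
    unfold tw
    rw [map_one, Units.val_one, one_mul, ← CfsgLib.CharInt.irr_one_eq_charDegree hφ]
    exact hψN 1
  rw [ind_one, h6] at h5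
  rw [mul_comm]
  exact_mod_cast h5.symm

include hN hφ hI hψ hψN in
theorem ind_inj {l l' : G →* ℂˣ} (hl : ∀ n ∈ N, l n = 1) (hl' : ∀ n ∈ N, l' n = 1) (h : indFun I (tw ψ l) = indFun I (tw ψ l')) :
    ∀ i ∈ I, l i = l' i := by
  have h1 := clifford_corr_inj hN hNI hφ hI (tw_irr hψ l) (tw_irr hψ l') (tw_ne hNI hφ hψN hl) (tw_ne hNI hφ hψN hl') h
  intro i hi
  haveI : (N.subgroupOf I).Normal := subgroupOf_normal hN I
  letI := Fintype.ofFinite (N.subgroupOf I)
  have hψr : IsIrrCharacter (N.subgroupOf I) (fun n : N.subgroupOf I => ψ n) := by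
    have : (fun n : N.subgroupOf I => ψ n) = toSub I φ := funext fun n => hψN ⟨_, Subgroup.mem_subgroupOf.1 n.2⟩
    rw [this]; exact (toSub_irr hNI).2 hφ
  have hnv : ∃ n : N.subgroupOf I, ψ ((n : I) * ⟨i, hi⟩) ≠ 0 := by
    by_contra hcon
    push Not at hcon
    have h1 := congrFun (CfsgLib.Gallagher.avg_norm_sq (N.subgroupOf I) (irr_isCharacter hψ) hψr) ⟨i, hi⟩
    unfold CfsgLib.Gallagher.avg at h1
    rw [Finset.sum_eq_zero (fun n _ => by rw [hcon n, zero_mul]), mul_zero] at h1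
    exact zero_ne_one h1
  obtain ⟨n, hn⟩ := hnv
  have h2 := congrFun h1 ((n : I) * ⟨i, hi⟩)
  unfold tw at h2
  have h3 := mul_right_cancel₀ hn h2
  have h4 : l (((n : I) : G) * i) = l' (((n : I) : G) * i) := Units.ext h3
  rw [map_mul, map_mul, hl _ (Subgroup.mem_subgroupOf.1 n.2), hl' _ (Subgroup.mem_subgroupOf.1 n.2), one_mul, one_mul] at h4
  exact h4

include hN hφ hI hψ hψN in
/-- the basic inequality -/
theorem main (hmin : ∀ M : Subgroup G, M.Normal → M ≤ N → M = ⊥ ∨ M = N) (hna : ¬ IsMulCommutative N) (P Q : (G → ℂ) → Prop)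
    (hPQ : ∀ l : G →* ℂˣ, P (fun g => (l g : ℂ)) → Q (indFun I (tw ψ l))) :
    Nat.card {χ : IrrCharacter G // charDegree (χ : G → ℂ) = 1 ∧ P χ} ≤
      I.index * Nat.card {χ : IrrCharacter G // charDegree (χ : G → ℂ) = charDegree φ * I.index ∧ Q χ} := by
  classical
  have hl : ∀ χ : {χ : IrrCharacter G // charDegree (χ : G → ℂ) = 1 ∧ P χ}, ∃ f : G →* ℂˣ, ∀ g, (χ.1 : G → ℂ) g = f g := fun χ =>
    exists_hom_of_linear (irr_isCharacter χ.1.2) (deg_one χ.1.2 χ.2.1)
  choose r hr using hl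
  have hrr : ∀ χ : {χ : IrrCharacter G // charDegree (χ : G → ℂ) = 1 ∧ P χ}, (χ.1 : G → ℂ) = fun g => (r χ g : ℂ) := fun χ => funext (hr χ)
  have ht : ∀ l : G →* ℂˣ, ∀ n ∈ N, l n = 1 := hom_trivial hN hmin hna
  refine count_le I (fun χ => ⟨⟨indFun I (tw ψ (r χ)), ind_irr hN hNI hφ hI hψ hψN (ht _)⟩,
    ind_deg hN hNI hφ hI hψ hψN (ht _), hPQ _ (by rw [← hrr]; exact χ.2.2)⟩) r ?_ ?_
  · intro a b hab
    apply Subtype.ext
    apply Subtype.ext
    rw [hrr a, hrr b, hab]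
  · intro a b hab
    apply ind_inj hN hNI hφ hI hψ hψN (ht _) (ht _)
    exact congrArg (fun x : {χ : IrrCharacter G // charDegree (χ : G → ℂ) = charDegree φ * I.index ∧ Q χ} => (x.1 : G → ℂ)) hab

end Min

end CfsgLib.MinN19
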