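import Mathlib

/-! Data for the double cover of `M12` (seat helper15). -/

set_option autoImplicit false

namespace CfsgLib.Mult15

/-- basis of the ternary code -/
def tB : List (List ℕ) := [[1, 0, 0, 0, 0, 0, 0, 0, 2, 1, 0, 0, 2, 1, 0, 0, 2, 0, 0, 0, 0, 0, 0, 0],
  [0, 1, 0, 0, 0, 0, 0, 0, 2, 2, 0, 0, 1, 0, 0, 0, 2, 0, 1, 0, 0, 0, 0, 0],
  [0, 0, 1, 0, 0, 0, 0, 0, 2, 1, 0, 0, 1, 2, 0, 0, 0, 0, 2, 0, 0, 0, 0, 0],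
  [0, 0, 0, 1, 0, 0, 0, 0, 0, 1, 0, 0, 1, 1, 0, 0, 1, 0, 1, 0, 0, 0, 0, 0],
  [0, 0, 0, 0, 1, 0, 0, 0, 2, 0, 0, 0, 2, 2, 0, 0, 1, 0, 1, 0, 0, 0, 0, 0],
  [0, 0, 0, 0, 0, 0, 1, 0, 2, 2, 0, 0, 0, 1, 0, 0, 1, 0, 2, 0, 0, 0, 0, 0]]

/-- sign data -/
def mXE : List ℕ := [1, 1, 2, 2, 2, 1, 2, 1, 1, 2, 1, 1, 2, 1, 1, 1, 1, 1, 1, 1, 1, 1, 1, 1]
/-- matrix -/
def mXM : List (List ℕ) := [[1, 2, 0, 2, 0, 0], [0, 1, 2, 0, 0, 0], [0, 1, 0, 1, 2, 0], [0, 1, 0, 2, 0, 2], [0, 2, 0, 1, 0, 0], [0, 0, 0, 2, 0, 0]]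

/-- sign data -/
def mYE : List ℕ := [1, 1, 2, 1, 2, 1, 1, 1, 2, 2, 1, 1, 1, 2, 1, 1, 2, 1, 1, 1, 1, 1, 1, 1]
/-- matrix -/
def mYM : List (List ℕ) := [[1, 0, 1, 0, 0, 1], [0, 1, 1, 0, 2, 2], [0, 0, 1, 0, 1, 1], [0, 0, 0, 0, 2, 1], [0, 0, 1, 1, 2, 0], [0, 0, 1, 0, 1, 2]]

/-- sign data -/
def mWE : List ℕ := [2, 1, 1, 2, 1, 1, 2, 1, 2, 2, 1, 1, 1, 1, 1, 1, 2, 1, 1, 1, 1, 1, 1, 1]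
/-- matrix -/
def mWM : List (List ℕ) := [[2, 0, 0, 0, 1, 1], [0, 1, 0, 0, 0, 1], [0, 0, 1, 0, 2, 1], [0, 0, 0, 2, 1, 0], [0, 0, 0, 0, 2, 1], [0, 0, 0, 0, 1, 1]]

/-- sign data -/
def mZE : List ℕ := [2, 1, 1, 2, 1, 1, 2, 1, 2, 2, 1, 1, 1, 1, 1, 1, 2, 1, 1, 1, 1, 1, 1, 1]
/-- matrix -/
def mZM : List (List ℕ) := [[0, 1, 0, 0, 2, 0], [2, 0, 0, 0, 2, 2], [0, 0, 0, 2, 2, 1], [0, 0, 1, 0, 0, 2], [0, 0, 0, 0, 2, 2], [0, 0, 0, 0, 2, 1]]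

/-- sign data -/
def mSE : List ℕ := [1, 2, 1, 2, 2, 1, 1, 1, 2, 1, 1, 1, 2, 1, 1, 1, 2, 1, 1, 1, 1, 1, 1, 1]
/-- matrix -/
def mSM : List (List ℕ) := [[2, 0, 0, 0, 2, 0], [1, 0, 1, 0, 0, 0], [1, 2, 0, 0, 1, 0], [1, 0, 0, 0, 2, 1], [2, 0, 0, 0, 1, 0], [0, 0, 0, 2, 2, 0]]

/-- sign data -/
def mTE : List ℕ := [2, 1, 1, 2, 1, 1, 2, 1, 2, 2, 1, 1, 1, 1, 1, 1, 2, 1, 1, 1, 1, 1, 1, 1]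
/-- matrix -/
def mTM : List (List ℕ) := [[0, 0, 0, 0, 1, 0], [2, 0, 0, 0, 2, 2], [1, 0, 0, 2, 1, 0], [2, 0, 1, 0, 1, 0], [2, 0, 0, 0, 0, 0], [1, 1, 0, 0, 2, 0]]

/-- involution -/
def t12 : List ℕ := [12, 2, 1, 6, 13, 10, 3, 15, 9, 8, 5, 21, 0, 4, 23, 7, 18, 22, 16, 20, 19, 11, 17, 14]
/-- involution -/
def d12 : List ℕ := [18, 6, 3, 2, 9, 20, 1, 21, 13, 4, 19, 15, 16, 8, 17, 11, 12, 14, 0, 10, 5, 7, 23, 22]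

/-- generator -/
def a12 : List ℕ := [12, 4, 13, 9, 1, 21, 3, 7, 6, 8, 5, 10, 16, 2, 22, 15, 18, 23, 0, 19, 20, 11, 17, 14]
/-- generator -/
def b12 : List ℕ := [12, 13, 1, 8, 2, 5, 9, 20, 3, 6, 10, 11, 16, 4, 23, 7, 18, 22, 0, 15, 19, 21, 14, 17]
/-- generator -/
def y12 : List ℕ := [13, 8, 9, 12, 3, 22, 0, 10, 18, 16, 17, 23, 4, 6, 19, 5, 2, 7, 1, 21, 11, 14, 15, 20]

/-- kernel certificates -/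
def tC : List (ℕ × List (ℕ × ℕ × ℕ)) := [(1, [(0, 0, 2), (0, 1, 2), (0, 2, 2), (0, 3, 1), (0, 4, 1), (1, 1, 1), (1, 2, 1)]),
  (2, [(0, 0, 2), (0, 2, 2), (0, 3, 2), (1, 2, 1), (2, 2, 1)]),
  (3, [(0, 0, 2), (0, 1, 1), (0, 3, 2), (0, 4, 2), (1, 2, 1), (3, 3, 1)]),
  (4, [(0, 0, 2), (0, 1, 2), (0, 2, 1), (0, 4, 2), (1, 2, 1), (4, 4, 1)]),
  (6, [(0, 0, 2), (0, 1, 1), (0, 2, 1), (0, 3, 1), (1, 2, 1), (5, 5, 1)]),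
  (8, [(0, 0, 2), (0, 1, 1), (0, 3, 2), (0, 4, 1)]),
  (9, [(0, 0, 2), (0, 1, 2), (0, 2, 1), (0, 4, 1)]),
  (12, [(0, 0, 2), (0, 1, 1), (0, 2, 1), (0, 3, 1), (0, 4, 2)]),
  (13, [(0, 0, 2), (0, 1, 2), (0, 2, 2), (0, 3, 1)]),
  (16, [(0, 0, 2), (0, 2, 2), (0, 3, 2), (0, 4, 2)]),
  (18, [(0, 0, 2), (0, 4, 2), (1, 2, 2)])]

/-- 3-data -/
def hx12 : List ℕ := [18, 1, 12, 3, 0, 20, 2, 19, 8, 16, 14, 5, 6, 9, 23, 7, 13, 17, 4, 15, 11, 21, 22, 10]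
/-- 3-data -/
def hy12 : List ℕ := [6, 8, 18, 1, 4, 17, 13, 5, 3, 2, 10, 22, 12, 0, 14, 20, 16, 7, 9, 11, 21, 15, 19, 23]
/-- 3-data -/
def ht12 : List ℕ := [18, 1, 6, 8, 4, 7, 2, 5, 3, 13, 10, 19, 12, 9, 23, 20, 16, 17, 0, 11, 15, 21, 22, 14]

/-- conjugator -/
def cd12 : List ℕ := [0, 13, 8, 1, 16, 20, 6, 14, 2, 3, 5, 10, 18, 12, 11, 17, 9, 22, 4, 7, 21, 19, 23, 15]

/-- conjugator -/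
def ctd12 : List ℕ := [1, 8, 4, 16, 12, 22, 0, 23, 13, 9, 14, 11, 3, 18, 19, 17, 6, 20, 2, 15, 21, 7, 10, 5]

/-- conjugator -/
def cta12 : List ℕ := [0, 2, 4, 6, 8, 10, 12, 14, 16, 18, 20, 22, 1, 3, 5, 7, 9, 11, 13, 15, 17, 19, 21, 23]

/-- conjugator -/
def ctb12 : List ℕ := [13, 6, 8, 16, 3, 14, 1, 5, 0, 4, 19, 17, 12, 9, 23, 11, 2, 22, 18, 21, 10, 7, 15, 20]

/-- conjugator -/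
def ctab12 : List ℕ := [8, 0, 18, 3, 13, 20, 16, 11, 1, 12, 19, 21, 9, 2, 14, 22, 4, 23, 6, 17, 5, 7, 10, 15]

end CfsgLib.Mult15
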