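import Mathlib
import Cfsg.Agent.EqBase
import Cfsg.Prelude.Def_Blocks
import Cfsg.Agent.LibBlkS2
import Cfsg.Agent.LibBlockH

/-!
# Murai: characters of `p'`-degree in the principal block over a normal subgroup (S4583) (helper17)
-/

set_option autoImplicit false
set_option linter.unusedSectionVars false
set_option linter.style.haveILetI false
set_option linter.unusedSimpArgs false

namespace CfsgLib.Murai

open CfsgLib.CharInt hiding irr_isCharacter irr_classFun irr_one_ne_zero schur_scalar
open Cfsg CfsgLib.CharInt2 CfsgLib.CharBasic CfsgLib.BlockR CfsgLib.BlockCore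
  CfsgLib.BlockIdem CfsgLib.BlockIdeal CfsgLib.BlockConj CfsgLib.BlockBrauer CfsgLib.BlockInd
  CfsgLib.BlockFMT CfsgLib.BlockFMT2 CfsgLib.PLocalInd CfsgLib.BlockOrth CfsgLib.BlockDefect
  CfsgLib.BlockReg CfsgLib.BlockReg2 CfsgLib.BlockCount CfsgLib.BlockCount2 CfsgLib.BlockQP
  CfsgLib.BlockCov CfsgLib.BlockCov2 CfsgLib.BlockCov3 CfsgLib.RobRank CfsgLib.BlockQuo
  CfsgLib.BlkS2 CfsgLib.BlockSq CfsgLib.CharIndA CfsgLib.Clifford

open scoped ComplexConjugate Pointwise

universe u v

variable {M : Ideal AlgInt} {p : ℕ} [Fact p.Prime] {G : Type u} [Group G] [Fintype G]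

theorem principal_isPBlock (M : Ideal AlgInt) (G : Type u) [Group G] [Fintype G] :
    IsPBlock M (principalBlock M G) :=
  ⟨⟨fun _ => 1, isIrrCharacter_one⟩, rfl⟩

/-- the principal character -/
def triv (G : Type u) [Group G] [Fintype G] : IrrCharacter G := ⟨fun _ => 1, isIrrCharacter_one⟩

theorem triv_coe : ((triv G : IrrCharacter G) : G → ℂ) = fun _ => 1 := rfl

theorem triv_apply (g : G) : ((triv G : IrrCharacter G) : G → ℂ) g = 1 := rfl

theorem mem_principal (χ : IrrCharacter G) : χ ∈ principalBlock M G ↔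
    SameBlock M ((triv G : IrrCharacter G) : G → ℂ) (χ : G → ℂ) := Iff.rfl

/-- coefficients of the principal block idempotent on classes of full defect -/
theorem coeff_full (hM : IsPModular p M) {h : G} (hh : ¬ p ∣ orderOf h)
    (hidx : ¬ p ∣ (Subgroup.centralizer ({h⁻¹} : Set G)).index) :
    MemLocalIdeal M (blockCoeff (principalBlock M G) h - blockCoeff (principalBlock M G) 1) := by
  have hp := isPrime_of_modular hM
  have hB := principal_isPBlock M G
  have h1 := sum_rr hM hB (g := h⁻¹) (by rwa [orderOf_inv])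
  have h2 := sum_rr hM hB (g := (1 : G)) (by
    rw [orderOf_one]; exact (Fact.out : p.Prime).one_lt.ne' ∘ Nat.dvd_one.mp)
  rw [inv_inv] at h1
  rw [inv_one] at h2
  rw [← h1, ← h2, ← Finset.sum_sub_distrib]
  apply ideal_sum hp
  intro χ _
  by_cases hχ : χ ∈ principalBlock M G
  · rw [ind_of hχ, one_mul, one_mul, ← mul_sub]
    apply ideal_mul_left hp (rr_ring hM χ)
    have h3 := hχ h⁻¹
    have h4 : centralChar (fun _ : G => (1 : ℂ)) h⁻¹ =
      ((Subgroup.centralizer ({h⁻¹} : Set G)).index : ℂ) := by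
      unfold centralChar; simp
    rw [h4] at h3
    have h0 := CharBasic.irr_one_ne_zero χ.2
    have hi : ¬ MemLocalIdeal M ((Subgroup.centralizer ({h⁻¹} : Set G)).index : ℂ) :=
      fun h5 => hidx ((ideal_nat_iff hM).mp h5)
    have hi0 : ((Subgroup.centralizer ({h⁻¹} : Set G)).index : ℂ) ≠ 0 := ne_zero_of_not_ideal hp hi
    have h5 : (χ : G → ℂ) h⁻¹ - (χ : G → ℂ) 1 =
        -(((Subgroup.centralizer ({h⁻¹} : Set G)).index : ℂ) - centralChar (χ : G → ℂ) h⁻¹) *
          ((χ : G → ℂ) 1 / ((Subgroup.centralizer ({h⁻¹} : Set G)).index : ℂ)) := by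
      unfold centralChar
      field_simp
      ring
    rw [h5]
    apply ideal_mul_right hp (ideal_neg h3)
    exact ring_div hp (irr_ring hp χ 1) (ring_nat hp _) hi
  · rw [ind_not hχ, zero_mul, zero_mul, sub_self]
    exact ideal_zero hp

/-- sum of the coefficients of the principal block idempotent over a `P`-set -/
theorem sum_fix (hM : IsPModular p M) (P : Sylow p G) {X : Type*} [Fintype X]
    [MulAction (P : Subgroup G) X] (ι : X → G)
    (hι : ∀ (g : (P : Subgroup G)) (x : X), ι (g • x) = (g : G) * ι x * (g : G)⁻¹)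
    (hinj : Function.Injective ι) :
    MemLocalIdeal M ((∑ x : X, blockCoeff (principalBlock M G) (ι x)) -
      (Nat.card {x : X // (∀ g ∈ (P : Subgroup G), g * ι x = ι x * g) ∧ ¬ p ∣ orderOf (ι x)} : ℂ) *
        blockCoeff (principalBlock M G) 1) := by
  classical
  have hp := isPrime_of_modular hM
  have hB := principal_isPBlock M G
  obtain ⟨r, hr, hsum⟩ := sum_sub_fixed P.2 hp
    (fun x : X => blockCoeff (principalBlock M G) (ι x))
    (fun g x => by rw [hι]; exact blockCoeff_classFun _ _ _)
    (fun x => blockCoeff_ring hp hB _)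
  have hpr : MemLocalIdeal M ((p : ℂ) * r) :=
    ideal_mul_right hp ((ideal_nat_iff hM).mpr dvd_rfl) hr
  rw [← hsum] at hpr
  have hfix : MemLocalIdeal M ((∑ x ∈ Finset.univ.filter
      (fun x : X => x ∈ MulAction.fixedPoints (P : Subgroup G) X),
        blockCoeff (principalBlock M G) (ι x)) -
      (Nat.card {x : X // (∀ g ∈ (P : Subgroup G), g * ι x = ι x * g) ∧ ¬ p ∣ orderOf (ι x)} : ℂ) *
        blockCoeff (principalBlock M G) 1) := by
    have hmem : ∀ x : X, x ∈ MulAction.fixedPoints (P : Subgroup G) X ↔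
        ∀ g ∈ (P : Subgroup G), g * ι x = ι x * g := by
      intro x
      rw [MulAction.mem_fixedPoints]
      constructor
      · intro h g hg
        have h1 := congrArg ι (h ⟨g, hg⟩)
        rw [hι] at h1
        exact mul_inv_eq_iff_eq_mul.mp h1
      · intro h g
        apply hinj
        rw [hι, mul_inv_eq_iff_eq_mul]
        exact h g g.2
    have hcard : (Nat.card {x : X // (∀ g ∈ (P : Subgroup G), g * ι x = ι x * g) ∧
        ¬ p ∣ orderOf (ι x)} : ℂ) = ∑ x ∈ Finset.univ.filter
          (fun x : X => x ∈ MulAction.fixedPoints (P : Subgroup G) X),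
            (if p ∣ orderOf (ι x) then (0 : ℂ) else 1) := by
      rw [Nat.card_eq_fintype_card, Fintype.card_subtype]
      rw [Finset.sum_ite, Finset.sum_const_zero, zero_add, Finset.sum_const, nsmul_eq_mul, mul_one,
        Finset.filter_filter]
      congr 2
      ext x
      simp only [Finset.mem_filter, Finset.mem_univ, true_and, hmem]
    rw [hcard, Finset.sum_mul, ← Finset.sum_sub_distrib]
    apply ideal_sum hp
    intro x hx
    rw [Finset.mem_filter, hmem] at hx
    by_cases hxp : p ∣ orderOf (ι x)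
    · rw [if_pos hxp, zero_mul, sub_zero, blockCoeff_eq_zero hM hB hxp]
      exact ideal_zero hp
    · rw [if_neg hxp, one_mul]
      apply coeff_full hM hxp
      intro hd
      have h1 : (P : Subgroup G) ≤ Subgroup.centralizer ({(ι x)⁻¹} : Set G) := by
        intro g hg
        rw [Subgroup.mem_centralizer_iff]
        intro y hy
        rw [Set.mem_singleton_iff.mp hy]
        have h2 : Commute g (ι x) := hx.2 g hg
        exact h2.inv_right.symm.eq
      exact P.not_dvd_index (hd.trans (Subgroup.index_dvd_of_le h1))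
  have h3 := ideal_add hp hpr hfix
  rwa [sub_add_sub_cancel] at h3

theorem sum_all (hM : IsPModular p M) :
    ∑ g : G, blockCoeff (principalBlock M G) g = 1 := by
  have hp := isPrime_of_modular hM
  have hmem : (⟨fun _ => 1, isIrrCharacter_one⟩ : IrrCharacter G) ∈ principalBlock M G :=
    sameBlock_refl hp _
  have h1 := omg_blockCoeff (principalBlock M G) (⟨fun _ => 1, isIrrCharacter_one⟩ : IrrCharacter G)
  rw [ind_of hmem] at h1
  unfold omg at h1
  simpa using h1

theorem sum_group (hM : IsPModular p M) (P : Sylow p G) :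
    MemLocalIdeal M (1 -
      (Nat.card {x : G // (∀ g ∈ (P : Subgroup G), g * x = x * g) ∧ ¬ p ∣ orderOf x} : ℂ) *
        blockCoeff (principalBlock M G) 1) := by
  letI : MulAction (P : Subgroup G) G := MulAction.compHom G
    ((MulAut.conj : G →* MulAut G).comp (P : Subgroup G).subtype)
  have h := sum_fix hM P (X := G) id (fun g x => rfl) Function.injective_id
  simp only [id] at h
  rw [sum_all hM] at h
  exact h

theorem alpha_one_unit (hM : IsPModular p M) :
    ¬ MemLocalIdeal M (blockCoeff (principalBlock M G) 1) := by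
  have hp := isPrime_of_modular hM
  intro h
  have h1 := sum_group hM (default : Sylow p G)
  have h3 := ideal_mul_left hp (ring_nat hp (Nat.card {x : G //
    (∀ g ∈ ((default : Sylow p G) : Subgroup G), g * x = x * g) ∧ ¬ p ∣ orderOf x})) h
  have h2 := ideal_add hp h1 h3
  rw [sub_add_cancel] at h2
  exact not_ideal_one hp h2

/-- the sum over a subgroup containing a Sylow subgroup is a unit -/
theorem sum_sub_unit (hM : IsPModular p M) (P : Sylow p G) (H : Subgroup G) [Fintype H]
    (hPH : (P : Subgroup G) ≤ H) :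
    ¬ MemLocalIdeal M (∑ h : H, blockCoeff (principalBlock M G) (h : G)) := by
  classical
  have hp := isPrime_of_modular hM
  letI : MulAction (P : Subgroup G) H :=
    { smul := fun g h => ⟨(g : G) * h * (g : G)⁻¹, H.mul_mem (H.mul_mem (hPH g.2) h.2)
        (H.inv_mem (hPH g.2))⟩
      one_smul := fun h => Subtype.ext (by change (1 : G) * h * (1 : G)⁻¹ = h; simp)
      mul_smul := fun a b h => Subtype.ext (by
        change ((a : G) * b) * h * ((a : G) * b)⁻¹ = (a : G) * ((b : G) * h * (b : G)⁻¹) * (a : G)⁻¹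
        group) }
  have h1 := sum_fix hM P (X := H) (fun h => (h : G)) (fun g x => rfl) Subtype.val_injective
  -- the same count in H
  have h2 := sum_group (G := H) hM (P.subtype hPH)
  have hcard : Nat.card {x : H // (∀ g ∈ (P : Subgroup G), g * (x : G) = (x : G) * g) ∧
      ¬ p ∣ orderOf (x : G)} =
      Nat.card {x : H // (∀ g ∈ ((P.subtype hPH : Sylow p H) : Subgroup H), g * x = x * g) ∧
        ¬ p ∣ orderOf x} := by
    apply Nat.card_congr
    apply Equiv.subtypeEquivRight
    intro x
    rw [Subgroup.orderOf_coe]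
    apply and_congr_left
    intro _
    constructor
    · intro h g hg
      apply Subtype.ext
      exact h g (by
        have : g ∈ (P : Subgroup G).subgroupOf H := hg
        exact this)
    · intro h g hg
      exact congrArg Subtype.val (h ⟨g, hPH hg⟩ (by
        change (⟨g, hPH hg⟩ : H) ∈ (P : Subgroup G).subgroupOf H
        exact hg))
  rw [← hcard] at h2
  intro h3
  set n := Nat.card {x : H // (∀ g ∈ (P : Subgroup G), g * (x : G) = (x : G) * g) ∧
      ¬ p ∣ orderOf (x : G)} with hn
  have h4 : MemLocalIdeal M ((n : ℂ) * blockCoeff (principalBlock M G) 1) := by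
    have h5 := ideal_sub hp h3 h1
    rwa [sub_sub_cancel] at h5
  have h5 : ¬ MemLocalIdeal M (n : ℂ) := by
    intro h6
    have h7 := ideal_mul_right hp h6 (blockCoeff_ring hp (principal_isPBlock M H) 1)
    have h8 := ideal_add hp h2 h7
    rw [sub_add_cancel] at h8
    exact not_ideal_one hp h8
  rcases ideal_prime hp (ring_nat hp _) (blockCoeff_ring hp (principal_isPBlock M G) 1) h4 with h6 | h6
  · exact h5 h6
  · exact alpha_one_unit hM h6

/-- an extension to a `p`-index overgroup of a principal block character -/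
theorem ext_principal (hM : IsPModular p M) (N : Subgroup G) [hN : N.Normal] (P : Subgroup G)
    (hP : IsPGroup p P) [Fintype N] (H : Subgroup G) [Fintype H] (hH : H = N ⊔ P) (hNH : N ≤ H)
    {θ : IrrCharacter N} (hθ : θ ∈ principalBlock M N) {η : IrrCharacter H}
    (hext : ∀ n : N, (η : H → ℂ) (Subgroup.inclusion hNH n) = (θ : N → ℂ) n) :
    η ∈ principalBlock M H := by
  classical
  have hp := isPrime_of_modular hM
  have hmem : ∀ y : H, ¬ p ∣ orderOf y → (y : G) ∈ N := by
    intro y hy
    have hy2 : (y : G) ∈ N ⊔ P := hH ▸ y.2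
    obtain ⟨n, hn, x, hx, hnx⟩ := Subgroup.mem_sup_of_normal_left.mp hy2
    obtain ⟨k, hk⟩ := exists_pow_of_isPGroup hP hx
    have h1 : (y : G) ^ (p ^ k) ∈ N := by
      apply (QuotientGroup.eq_one_iff _).mp
      have h2 : ((y : G) : G ⧸ N) = (x : G ⧸ N) := by
        rw [← hnx]
        change ((n : G ⧸ N) * (x : G ⧸ N)) = _
        rw [(QuotientGroup.eq_one_iff n).mpr hn, one_mul]
      change ((y : G) : G ⧸ N) ^ (p ^ k) = 1
      rw [h2]
      change ((x ^ (p ^ k) : G) : G ⧸ N) = 1
      rw [← hk, pow_orderOf_eq_one]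
      rfl
    have hcop : Nat.Coprime (orderOf (y : G)) (p ^ k) := by
      rw [Subgroup.orderOf_coe]
      exact Nat.Coprime.pow_right _
        ((Nat.Prime.coprime_iff_not_dvd (Fact.out : p.Prime)).mpr hy).symm
    have h3 : ∃ m : ℕ, ((y : G) ^ (p ^ k)) ^ m = y := exists_pow_eq_self_of_coprime hcop.symm
    obtain ⟨m, hm⟩ := h3
    rw [← hm]
    exact N.pow_mem h1 m
  rw [mem_principal]
  apply sameBlock_of_reg hM
  intro y hy
  set a : N → ℂ := fun n => cInd y (Subgroup.inclusion hNH n : H) with ha
  have hac : IsClassFunction N a := by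
    intro n m
    rw [ha]
    simp only [map_mul, map_inv]
    exact isClassFunction_cInd y _ _
  have haR : ∀ n, MemLocalRing M (a n) := fun n => cInd_ring hp _ _
  have hformula : ∀ (ξ : IrrCharacter H) (τ : IrrCharacter N),
      (∀ n : N, (ξ : H → ℂ) (Subgroup.inclusion hNH n) = (τ : N → ℂ) n) →
      centralChar (ξ : H → ℂ) y = omg (τ : N → ℂ) a := by
    intro ξ τ hξ
    rw [centralChar_eq_omg]
    unfold omg
    have h1 : (ξ : H → ℂ) 1 = (τ : N → ℂ) 1 := by
      rw [← hξ 1, map_one]
    rw [h1]
    congr 1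
    symm
    apply Fintype.sum_of_injective (Subgroup.inclusion hNH)
      (Subgroup.inclusion_injective _)
    · intro z hz
      rw [cInd_not, zero_mul]
      intro h2
      apply hz
      obtain ⟨c, hc⟩ := isConj_iff.mp h2
      have h3 : (z : G) ∈ N := by
        rw [← hc]
        exact hN.conj_mem _ (hmem y hy) c
      exact ⟨⟨z, h3⟩, Subtype.ext rfl⟩
    · intro n
      rw [hξ n]
  rw [hformula (triv H) (triv N) (fun n => rfl), hformula η θ hext]
  exact omg_sameBlock hp ((mem_principal θ).mp hθ) hac haR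

/-- S4583 -/
theorem s4583 (hM : IsPModular p M) (N : Subgroup G) [hN : N.Normal] [Fintype N] (P : Sylow p G)
    (H : Subgroup G) [Fintype H] (hH : H = N ⊔ (P : Subgroup G)) (hNH : N ≤ H)
    (θ : IrrCharacter N) (hθ : θ ∈ principalBlock M N) (hdeg : ¬ p ∣ charDegree (θ : N → ℂ))
    (η : IrrCharacter H)
    (hext : ∀ n : N, (η : H → ℂ) (Subgroup.inclusion hNH n) = (θ : N → ℂ) n) :
    ∃ χ : IrrCharacter G, χ ∈ principalBlock M G ∧ ¬ p ∣ charDegree (χ : G → ℂ) ∧
      classInner (fun n : N => (χ : G → ℂ) n) (θ : N → ℂ) ≠ 0 := by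
  classical
  have hp := isPrime_of_modular hM
  have hPH : (P : Subgroup G) ≤ H := by rw [hH]; exact le_sup_right
  have hη := ext_principal hM N (P : Subgroup G) P.2 H hH hNH hθ hext
  set e : H → ℂ := fun h : H => fou (ind (principalBlock M G)) (h : G) with he
  have hec : IsClassFunction H e := fun a b => fou_classFun _ _ _
  have heR : ∀ h, MemLocalRing M (e h) := fun h => by
    rw [he]; simp only; rw [← blockCoeff_eq_fou]; exact blockCoeff_ring hp (principal_isPBlock M G) _
  have h1 := omg_sameBlock hp ((mem_principal η).mp hη) hec heR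
  have h2 : omg (triv H : H → ℂ) e =
      ∑ h : H, blockCoeff (principalBlock M G) (h : G) := by
    unfold omg
    rw [he]
    simp only [triv_apply, mul_one, div_one, blockCoeff_eq_fou]
  have h3 : ¬ MemLocalIdeal M (omg (η : H → ℂ) e) := by
    intro h4
    have h5 := ideal_add hp h1 h4
    rw [sub_add_cancel, h2] at h5
    exact sum_sub_unit hM P H hPH h5
  rw [he, CfsgLib.BlockH.blockPart_ind_one] at h3
  -- the block part at 1 is not in the ideal
  have h4 : ¬ MemLocalIdeal M (blockPart (principalBlock M G) (indFun H (η : H → ℂ)) 1) := by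
    intro h5
    apply h3
    rw [div_eq_mul_inv]
    apply ideal_mul_right hp h5
    rw [← one_div]
    apply ring_div hp (ring_one hp)
    · rw [ind_one, irr_one_eq_charDegree η.2]
      exact ring_mul hp (ring_nat hp _) (ring_nat hp _)
    · rw [ind_one, irr_one_eq_charDegree η.2]
      intro h6
      rcases ideal_prime hp (ring_nat hp _) (ring_nat hp _) h6 with h7 | h7
      · have h8 := (ideal_nat_iff hM).mp h7
        exact P.not_dvd_index (h8.trans (Subgroup.index_dvd_of_le hPH))
      · have h8 := (ideal_nat_iff hM).mp h7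
        apply hdeg
        have h9 : charDegree (η : H → ℂ) = charDegree (θ : N → ℂ) := by
          have h10 : (charDegree (η : H → ℂ) : ℂ) = charDegree (θ : N → ℂ) := by
            rw [← irr_one_eq_charDegree η.2, ← irr_one_eq_charDegree θ.2, ← hext 1, map_one]
          exact_mod_cast h10
        rwa [h9] at h8
  rw [blockPart_expand] at h4
  have h5 : ∃ χ : IrrCharacter G, ¬ MemLocalIdeal M (ind (principalBlock M G) χ *
      (classInner (indFun H (η : H → ℂ)) (χ : G → ℂ) * (χ : G → ℂ) 1)) := by
    by_contra hcon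
    push Not at hcon
    exact h4 (ideal_sum hp _ _ fun χ _ => hcon χ)
  obtain ⟨χ, hχ⟩ := h5
  have hχB : χ ∈ principalBlock M G := by
    by_contra h6
    apply hχ
    rw [ind_not h6, zero_mul]; exact ideal_zero hp
  rw [ind_of hχB, one_mul] at hχ
  obtain ⟨m, hm⟩ := char_mult (isCharacter_ind H (irr_isCharacter η.2)) (irr_isCharacter χ.2)
  rw [hm] at hχ
  refine ⟨χ, hχB, ?_, ?_⟩
  · intro h6
    apply hχ
    rw [irr_one_eq_charDegree χ.2]
    exact ideal_mul_left hp (ring_nat hp _) ((ideal_nat_iff hM).mpr h6)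
  · have hm0 : classInner (indFun H (η : H → ℂ)) (χ : G → ℂ) ≠ 0 := by
      intro h6
      rw [hm] at h6
      apply hχ
      rw [h6, zero_mul]; exact ideal_zero hp
    rw [frobenius H _ (CharBasic.irr_classFun χ.2)] at hm0
    have hm1 : classInner (fun h : H => (χ : G → ℂ) h) (η : H → ℂ) ≠ 0 :=
      fun h6 => hm0 (CfsgLib.CharNorm.ci_zero_comm h6)
    rw [CfsgLib.BlockFR.res_stages N hNH χ θ]
    have hterm : ∀ ψ : IrrCharacter H, ∃ k : ℕ, classInner (fun t : H => (χ : G → ℂ) t) (ψ : H → ℂ) *
        classInner (resT hNH (ψ : H → ℂ)) (θ : N → ℂ) = k := by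
      intro ψ
      obtain ⟨a, ha⟩ := char_mult (isCharacter_restrict (irr_isCharacter χ.2) H) (irr_isCharacter ψ.2)
      have hbc : IsCharacter N (resT hNH (ψ : H → ℂ)) :=
        isCharacter_comp (irr_isCharacter ψ.2) (Subgroup.inclusion hNH)
      obtain ⟨b, hb⟩ := char_mult hbc (irr_isCharacter θ.2)
      exact ⟨a * b, by rw [hb]; push_cast; rw [← ha]⟩
    choose k hk using hterm
    rw [Finset.sum_congr rfl (fun ψ _ => hk ψ)]
    have hkη : k η ≠ 0 := by
      intro h6
      have h7 := hk η
      rw [h6, Nat.cast_zero] at h7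
      rcases mul_eq_zero.mp h7 with h8 | h8
      · exact hm1 h8
      · have h9 : resT hNH (η : H → ℂ) = (θ : N → ℂ) := funext fun n => hext n
        rw [h9, irr_inner_self θ.2] at h8
        exact one_ne_zero h8
    have h6 : 0 < ∑ ψ : IrrCharacter H, k ψ :=
      lt_of_lt_of_le (Nat.pos_of_ne_zero hkη) (Finset.single_le_sum (fun _ _ => Nat.zero_le _) (Finset.mem_univ η))
    have h7 : ((∑ ψ : IrrCharacter H, k ψ : ℕ) : ℂ) ≠ 0 := by exact_mod_cast h6.ne'
    push_cast at h7
    exact h7

end CfsgLib.Murai
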