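import Cfsg.Agent.LibFusionH12
import Cfsg.Agent.LibBGPi

/-! Actions on elementary abelian `2`-groups, "no offenders": basic definitions. -/

set_option autoImplicit false

namespace CfsgLib.NO9

open Cfsg Subgroup CfsgLib.FusionH12

section Defs

variable {G : Type*} {V : Type*} [Group G] [AddCommGroup V] [DistribMulAction G V]

/-- fixed points of `E` on `V` -/
def fx (V : Type*) [AddCommGroup V] [DistribMulAction G V] (E : Subgroup G) : AddSubgroup V where
  carrier := {v | ∀ e ∈ E, e • v = v}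
  zero_mem' := fun e _ => smul_zero e
  add_mem' := fun {a b} ha hb e he => by
    show e • (a + b) = a + b
    rw [smul_add, ha e he, hb e he]
  neg_mem' := fun {a} ha e he => by
    show e • (-a) = -a
    rw [smul_neg, ha e he]

/-- pointwise stabilizer -/
def ct (W : AddSubgroup V) : Subgroup G where
  carrier := {g | ∀ w ∈ W, g • w = w}
  one_mem' := fun w _ => one_smul _ w
  mul_mem' := fun {a b} ha hb w hw => by
    show (a * b) • w = w
    rw [mul_smul, hb w hw, ha w hw]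
  inv_mem' := fun {a} ha w hw => by
    show a⁻¹ • w = w
    rw [inv_smul_eq_iff, ha w hw]

/-- setwise stabilizer -/
def sb (W : AddSubgroup V) : Subgroup G where
  carrier := {g | ∀ v : V, g • v ∈ W ↔ v ∈ W}
  one_mem' := fun w => by rw [one_smul]
  mul_mem' := fun {a b} ha hb w => by
    rw [mul_smul, ha, hb]
  inv_mem' := fun {a} ha w => by
    rw [← ha, smul_inv_smul]

/-- translate -/
def tr (g : G) (X : AddSubgroup V) : AddSubgroup V := X.map (DistribMulAction.toAddMonoidHom V g)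

/-- span of the `K`-orbit of `X` -/
def oc (K : Subgroup G) (X : AddSubgroup V) : AddSubgroup V :=
  AddSubgroup.closure {y | ∃ k ∈ K, ∃ x ∈ X, y = k • x}

/-- elementary abelian `2`-subgroup -/
def El (E : Subgroup G) : Prop := ∀ e ∈ E, e * e = 1

/-- no offenders of `T` on `W` -/
def NO (T : Subgroup G) (W : AddSubgroup V) : Prop :=
  ∀ E : Subgroup G, E ≤ T → (∀ e ∈ E, ∀ w ∈ W, e • e • w = w) → (∃ e ∈ E, ∃ w ∈ W, e • w ≠ w) →
    Nat.card E * Nat.card ↥(W ⊓ fx V E) < Nat.card W * Nat.card ↥(E ⊓ ct W)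

theorem mem_fx {E : Subgroup G} {v : V} : v ∈ fx V E ↔ ∀ e ∈ E, e • v = v := Iff.rfl
theorem mem_ct {W : AddSubgroup V} {g : G} : g ∈ ct W ↔ ∀ w ∈ W, g • w = w := Iff.rfl
theorem mem_sb {W : AddSubgroup V} {g : G} : g ∈ sb W ↔ ∀ v : V, g • v ∈ W ↔ v ∈ W := Iff.rfl

theorem mem_tr {g : G} {X : AddSubgroup V} {v : V} : v ∈ tr g X ↔ g⁻¹ • v ∈ X := by
  unfold tr
  rw [AddSubgroup.mem_map]
  constructor
  · rintro ⟨x, hx, rfl⟩
    simpa using hx
  · intro h
    exact ⟨_, h, by simp⟩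

theorem smul_mem_tr {g : G} {X : AddSubgroup V} {v : V} (h : v ∈ X) : g • v ∈ tr g X := by
  rw [mem_tr]; simpa using h

theorem smul_mem_tr_iff {g : G} {X : AddSubgroup V} {v : V} : g • v ∈ tr g X ↔ v ∈ X := by
  rw [mem_tr, inv_smul_smul]

theorem tr_one (X : AddSubgroup V) : tr (1 : G) X = X := by
  ext v; rw [mem_tr]; simp

theorem tr_mul (a b : G) (X : AddSubgroup V) : tr (a * b) X = tr a (tr b X) := by
  ext v; simp [mem_tr, mul_smul]

theorem tr_inv_tr (a : G) (X : AddSubgroup V) : tr a⁻¹ (tr a X) = X := by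
  rw [← tr_mul, inv_mul_cancel, tr_one]

theorem tr_tr_inv (a : G) (X : AddSubgroup V) : tr a (tr a⁻¹ X) = X := by
  rw [← tr_mul, mul_inv_cancel, tr_one]

theorem tr_mono {a : G} {X Y : AddSubgroup V} (h : X ≤ Y) : tr a X ≤ tr a Y :=
  AddSubgroup.map_mono h

theorem tr_le_tr {a : G} {X Y : AddSubgroup V} : tr a X ≤ tr a Y ↔ X ≤ Y :=
  ⟨fun h => by have := tr_mono (a := a⁻¹) h; rwa [tr_inv_tr, tr_inv_tr] at this, tr_mono⟩

theorem tr_inj {a : G} {X Y : AddSubgroup V} : tr a X = tr a Y ↔ X = Y :=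
  ⟨fun h => by rw [← tr_inv_tr a X, h, tr_inv_tr], fun h => by rw [h]⟩

theorem tr_sup (a : G) (X Y : AddSubgroup V) : tr a (X ⊔ Y) = tr a X ⊔ tr a Y :=
  AddSubgroup.map_sup _ _ _

theorem tr_inf (a : G) (X Y : AddSubgroup V) : tr a (X ⊓ Y) = tr a X ⊓ tr a Y := by
  ext v; simp [mem_tr, AddSubgroup.mem_inf]

theorem card_tr (a : G) (X : AddSubgroup V) : Nat.card ↥(tr a X) = Nat.card X := by
  have h : Function.Injective (DistribMulAction.toAddMonoidHom V a) := MulAction.injective a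
  exact (Nat.card_congr (X.equivMapOfInjective _ h).toEquiv).symm

theorem mem_sb_iff {g : G} {W : AddSubgroup V} : g ∈ sb W ↔ tr g W = W := by
  rw [mem_sb]
  constructor
  · intro h
    ext v
    rw [mem_tr, ← h (g⁻¹ • v), smul_inv_smul]
  · intro h v
    conv_lhs => rw [← h]
    exact smul_mem_tr_iff

theorem tr_of_mem_sb {g : G} {W : AddSubgroup V} (h : g ∈ sb W) : tr g W = W := mem_sb_iff.1 h

theorem smul_mem_of_sb {g : G} {W : AddSubgroup V} (h : g ∈ sb W) {v : V} (hv : v ∈ W) :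
    g • v ∈ W := (h v).2 hv

theorem ct_le_sb (W : AddSubgroup V) : (ct W : Subgroup G) ≤ sb W := by
  intro g hg
  rw [mem_sb]
  intro v
  constructor
  · intro hv
    have h1 : g⁻¹ ∈ ct W := inv_mem hg
    have := h1 _ hv
    rw [inv_smul_smul] at this
    rwa [← this] at hv
  · intro hv; rw [hg v hv]; exact hv

theorem mem_sb_of_le [Finite V] {g : G} {W : AddSubgroup V} (h : ∀ w ∈ W, g • w ∈ W) :
    g ∈ sb W := by
  rw [mem_sb_iff]
  have h1 : tr g W ≤ W := by
    intro v hv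
    rw [mem_tr] at hv
    have := h _ hv
    rwa [smul_inv_smul] at this
  exact AddSubgroup.eq_of_le_of_card_ge h1 (by rw [card_tr])

theorem le_sb_of_forall {E : Subgroup G} {W : AddSubgroup V} (h : ∀ e ∈ E, ∀ w ∈ W, e • w ∈ W) :
    E ≤ sb W := by
  intro g hg
  rw [mem_sb]
  intro v
  constructor
  · intro hv
    have := h _ (inv_mem hg) _ hv
    rwa [inv_smul_smul] at this
  · intro hv; exact h _ hg _ hv

theorem fx_anti {E F : Subgroup G} (h : E ≤ F) : fx V F ≤ fx V E := fun _ hv e he => hv e (h he)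
theorem ct_anti {W U : AddSubgroup V} (h : W ≤ U) : (ct U : Subgroup G) ≤ ct W :=
  fun _ hg w hw => hg w (h hw)

theorem le_ct_iff {E : Subgroup G} {W : AddSubgroup V} : E ≤ ct W ↔ W ≤ fx V E :=
  ⟨fun h w hw e he => h he w hw, fun h e he w hw => h hw e he⟩

theorem le_fx_ct (W : AddSubgroup V) : W ≤ fx V (ct W : Subgroup G) := le_ct_iff.1 le_rfl
theorem le_ct_fx (E : Subgroup G) : E ≤ ct (fx V E) := le_ct_iff.2 le_rfl

theorem fx_sup (E F : Subgroup G) : fx V (E ⊔ F) = fx V E ⊓ fx V F := by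
  apply le_antisymm
  · exact le_inf (fx_anti le_sup_left) (fx_anti le_sup_right)
  · rw [← le_ct_iff]
    exact sup_le (le_ct_iff.2 inf_le_left) (le_ct_iff.2 inf_le_right)

theorem fx_bot : fx V (⊥ : Subgroup G) = ⊤ := by
  rw [eq_top_iff, ← le_ct_iff]; exact bot_le

theorem ct_sup (W U : AddSubgroup V) : (ct (W ⊔ U) : Subgroup G) = ct W ⊓ ct U := by
  apply le_antisymm
  · exact le_inf (ct_anti le_sup_left) (ct_anti le_sup_right)
  · rw [le_ct_iff]
    exact sup_le (le_ct_iff.1 inf_le_left) (le_ct_iff.1 inf_le_right)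

theorem tr_fx (g : G) (E : Subgroup G) : tr g (fx V E) = fx V (cj g E) := by
  ext v
  rw [mem_tr, mem_fx, mem_fx]
  constructor
  · intro h e he
    rw [mem_cj] at he
    have := h _ he
    rw [mul_smul, mul_smul, smul_inv_smul] at this
    exact (MulAction.injective g⁻¹) this
  · intro h e he
    have := h _ (conj_mem_cj (g := g) he)
    rw [mul_smul, mul_smul] at this
    calc e • g⁻¹ • v = g⁻¹ • g • e • g⁻¹ • v := by rw [inv_smul_smul]
      _ = g⁻¹ • v := by rw [this]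

theorem cj_ct (g : G) (W : AddSubgroup V) : cj g (ct W : Subgroup G) = ct (tr g W) := by
  ext x
  rw [mem_cj, mem_ct, mem_ct]
  constructor
  · intro h w hw
    rw [mem_tr] at hw
    have := h _ hw
    rw [mul_smul, mul_smul, smul_inv_smul] at this
    exact (MulAction.injective g⁻¹) this
  · intro h w hw
    have := h _ (smul_mem_tr (g := g) hw)
    rw [mul_smul, mul_smul, this, inv_smul_smul]

theorem cj_sb (g : G) (W : AddSubgroup V) : cj g (sb W : Subgroup G) = sb (tr g W) := by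
  ext x
  rw [mem_cj, mem_sb_iff, mem_sb_iff, tr_mul, tr_mul, ← tr_inj (a := g), tr_tr_inv]

theorem le_oc {K : Subgroup G} {X : AddSubgroup V} : X ≤ oc K X := fun x hx =>
  AddSubgroup.subset_closure ⟨1, one_mem _, x, hx, (one_smul _ _).symm⟩

theorem smul_mem_oc {K : Subgroup G} {X : AddSubgroup V} {k : G} (hk : k ∈ K) {x : V} (hx : x ∈ X) :
    k • x ∈ oc K X := AddSubgroup.subset_closure ⟨k, hk, x, hx, rfl⟩

theorem tr_le_oc {K : Subgroup G} {X : AddSubgroup V} {k : G} (hk : k ∈ K) : tr k X ≤ oc K X := by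
  intro v hv
  rw [mem_tr] at hv
  have := smul_mem_oc hk hv
  rwa [smul_inv_smul] at this

theorem oc_le {K : Subgroup G} {X W : AddSubgroup V} (h : ∀ k ∈ K, tr k X ≤ W) : oc K X ≤ W := by
  unfold oc
  rw [AddSubgroup.closure_le]
  rintro y ⟨k, hk, x, hx, rfl⟩
  exact h k hk (smul_mem_tr hx)

theorem oc_le_of_sb {K : Subgroup G} {X W : AddSubgroup V} (hX : X ≤ W) (hK : K ≤ sb W) :
    oc K X ≤ W := oc_le fun k hk => by
      have := tr_mono (a := k) hX
      rwa [tr_of_mem_sb (hK hk)] at this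

theorem le_sb_oc (K : Subgroup G) (X : AddSubgroup V) : K ≤ sb (oc K X) := by
  apply le_sb_of_forall
  intro e he w hw
  unfold oc at hw
  induction hw using AddSubgroup.closure_induction with
  | mem y hy =>
    obtain ⟨k, hk, x, hx, rfl⟩ := hy
    rw [← mul_smul]
    exact smul_mem_oc (mul_mem he hk) hx
  | zero => rw [smul_zero]; exact zero_mem _
  | add a b _ _ ha hb => rw [smul_add]; exact add_mem ha hb
  | neg a _ ha => rw [smul_neg]; exact neg_mem ha

theorem oc_mono {K L : Subgroup G} {X Y : AddSubgroup V} (h : K ≤ L) (h' : X ≤ Y) :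
    oc K X ≤ oc L Y := oc_le fun _ hk => (tr_mono h').trans (tr_le_oc (h hk))

theorem tr_oc (g : G) (K : Subgroup G) (X : AddSubgroup V) :
    tr g (oc K X) = oc (cj g K) (tr g X) := by
  apply le_antisymm
  · rw [← tr_le_tr (a := g⁻¹), tr_inv_tr]
    refine oc_le_of_sb ?_ ?_
    · rw [← tr_le_tr (a := g), tr_tr_inv]; exact le_oc
    · rw [← cj_sb, ← cj_le_cj (a := g), cj_cj_inv]; exact le_sb_oc _ _
  · refine oc_le_of_sb (tr_mono le_oc) ?_
    rw [← cj_sb]; exact cj_mono (le_sb_oc _ _)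

theorem El.anti {E F : Subgroup G} (h : El F) (hE : E ≤ F) : El E := fun e he => h e (hE he)

theorem El.cj {E : Subgroup G} (h : El E) (g : G) : El (cj g E) := by
  intro e he
  rw [mem_cj] at he
  have := h _ he
  have h2 : g⁻¹ * (e * e) * g = 1 := by rw [← this]; simp [mul_assoc]
  have h3 : e * e = g * (g⁻¹ * (e * e) * g) * g⁻¹ := by simp [mul_assoc]
  rw [h3, h2]; simp

theorem El.comm {E : Subgroup G} (h : El E) {a b : G} (ha : a ∈ E) (hb : b ∈ E) :
    a * b = b * a := by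
  have h1 := h _ ha
  have h2 := h _ hb
  have h3 := h _ (mul_mem ha hb)
  have ha' : a⁻¹ = a := inv_eq_of_mul_eq_one_left h1
  have hb' : b⁻¹ = b := inv_eq_of_mul_eq_one_left h2
  have : a * b = (a * b)⁻¹ := (inv_eq_of_mul_eq_one_left h3).symm
  rw [this, mul_inv_rev, ha', hb']

theorem El.isPGroup {E : Subgroup G} (h : El E) : IsPGroup 2 E := by
  intro e
  refine ⟨1, ?_⟩
  have := h e e.2
  ext
  simpa [pow_two] using this

theorem NO.anti {T T' : Subgroup G} {W : AddSubgroup V} (h : NO T W) (hT : T' ≤ T) : NO T' W :=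
  fun E hE h1 h2 => h E (hE.trans hT) h1 h2

theorem NO.cj {T : Subgroup G} {W : AddSubgroup V} (h : NO T W) (g : G) :
    NO (cj g T) (tr g W) := by
  intro E hE h1 h2
  have key := h (FusionH12.cj g⁻¹ E) (by rw [← cj_le_cj (a := g), cj_cj_inv]; exact hE) ?_ ?_
  · rw [card_cj] at key
    have e1 : Nat.card ↥(W ⊓ fx V (FusionH12.cj g⁻¹ E)) = Nat.card ↥(tr g W ⊓ fx V E) := by
      rw [← card_tr g, tr_inf, tr_fx, cj_cj_inv]
    have e2 : Nat.card ↥(FusionH12.cj g⁻¹ E ⊓ ct W) = Nat.card ↥(E ⊓ ct (tr g W)) := by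
      rw [← card_cj g, cj_inf, cj_ct, cj_cj_inv]
    rw [e1, e2] at key
    rwa [card_tr]
  · intro e he w hw
    rw [mem_cj] at he
    have := h1 _ he _ (smul_mem_tr (g := g) hw)
    simp only [inv_inv, mul_smul, inv_smul_smul] at this
    exact (MulAction.injective g) this
  · obtain ⟨e, he, w, hw, hne⟩ := h2
    refine ⟨g⁻¹ * e * g⁻¹⁻¹, conj_mem_cj he, g⁻¹ • w, mem_tr.1 hw, ?_⟩
    intro hh
    simp only [inv_inv, mul_smul, smul_inv_smul] at hh
    exact hne ((MulAction.injective g⁻¹) hh)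

theorem NO.of_fx {T : Subgroup G} {W : AddSubgroup V} (h : W ≤ fx V T) : NO T W := by
  intro E hE _ h2
  obtain ⟨e, he, w, hw, hne⟩ := h2
  exact absurd (h hw e (hE he)) hne

/-- product formula in an abelian group -/
theorem card_sup_mul (A B : AddSubgroup V) :
    Nat.card ↥(A ⊔ B) * Nat.card ↥(A ⊓ B) = Nat.card A * Nat.card B := by
  have h1 : B.relIndex (A ⊔ B) = B.relIndex A := AddSubgroup.relIndex_sup_right A B
  have h2 := AddSubgroup.relIndex_mul_relIndex ⊥ B (A ⊔ B) bot_le le_sup_right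
  have h3 := AddSubgroup.relIndex_mul_relIndex ⊥ (A ⊓ B) A bot_le inf_le_left
  have h4 : (A ⊓ B).relIndex A = B.relIndex A := by
    rw [inf_comm]; exact AddSubgroup.inf_relIndex_right B A
  rw [AddSubgroup.relIndex_bot_left, AddSubgroup.relIndex_bot_left] at h2 h3
  rw [← h2, ← h3, h1, h4]; ring

theorem card_sup_mul_of_comm [Finite G] {A B : Subgroup G} (h : ∀ a ∈ A, ∀ b ∈ B, a * b = b * a) :
    Nat.card ↥(A ⊔ B) * Nat.card ↥(A ⊓ B) = Nat.card A * Nat.card B := by
  have hn : A ≤ normalizer (B : Set G) := by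
    intro a ha
    rw [mem_nrm]
    ext x
    rw [mem_cj]
    constructor
    · intro hx
      have := h a ha _ hx
      have h2 : x = a⁻¹ * x * a := by
        have : a * (a⁻¹ * x * a) * a⁻¹ = a⁻¹ * x * a := by rw [this]; simp
        rw [← this]; simp [mul_assoc]
      rw [h2]; exact hx
    · intro hx
      have := h a ha _ hx
      have h2 : a⁻¹ * x * a = x := by rw [mul_assoc, ← this]; simp
      rwa [h2]
  exact BGPi.card_sup_mul_card_inf hn

theorem frattini {p : ℕ} [Fact p.Prime] [Finite G] {T H N : Subgroup G} (h : SylIn p T N)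
    (hHN : H ≤ normalizer (N : Set G)) {g : G} (hg : g ∈ H) :
    ∃ n ∈ N, n * g ∈ normalizer (T : Set G) := by
  have h1 : SylIn p (FusionH12.cj g T) N := by
    have := h.cj g
    rwa [cj_of_mem_nrm (hHN hg)] at this
  obtain ⟨a, haN, ha⟩ := h.exists_conj h1
  refine ⟨a, haN, ?_⟩
  rw [mem_nrm, cj_mul, ha]

/-- the basic inequality for maximizers of `|E||C_V(E)|` -/
theorem off [Finite G] [Finite V] {A : Subgroup G} {W : AddSubgroup V} {μ : ℕ}
    (hA : Nat.card A * Nat.card ↥(fx V A) = μ)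
    (hB : Nat.card ↥(A ⊓ ct W) * Nat.card ↥(fx V (A ⊓ ct W)) ≤ μ) :
    Nat.card W * Nat.card ↥(A ⊓ ct W) ≤ Nat.card A * Nat.card ↥(W ⊓ fx V A) := by
  have h1 : W ⊔ fx V A ≤ fx V (A ⊓ ct W) :=
    sup_le (le_ct_iff.1 inf_le_right) (fx_anti inf_le_left)
  have h2 := card_sup_mul W (fx V A)
  have h3 := AddSubgroup.card_le_of_le h1
  have h4 : 0 < Nat.card ↥(fx V A) := Nat.card_pos
  refine Nat.le_of_mul_le_mul_right ?_ h4
  calc Nat.card W * Nat.card ↥(A ⊓ ct W) * Nat.card ↥(fx V A)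
      = Nat.card ↥(A ⊓ ct W) * (Nat.card W * Nat.card ↥(fx V A)) := by ring
    _ = Nat.card ↥(A ⊓ ct W) * (Nat.card ↥(W ⊔ fx V A) * Nat.card ↥(W ⊓ fx V A)) := by rw [h2]
    _ ≤ Nat.card ↥(A ⊓ ct W) * (Nat.card ↥(fx V (A ⊓ ct W)) * Nat.card ↥(W ⊓ fx V A)) := by
        gcongr
    _ = (Nat.card ↥(A ⊓ ct W) * Nat.card ↥(fx V (A ⊓ ct W))) * Nat.card ↥(W ⊓ fx V A) := by ring
    _ ≤ μ * Nat.card ↥(W ⊓ fx V A) := by gcongr
    _ = Nat.card A * Nat.card ↥(W ⊓ fx V A) * Nat.card ↥(fx V A) := by rw [← hA]; ring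

end Defs

end CfsgLib.NO9
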