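import Cfsg.Agent.LibNO9A

/-! No offenders: the minimal situation, uniqueness. -/

set_option autoImplicit false

namespace CfsgLib.NO9

open Cfsg Subgroup CfsgLib.FusionH12

universe u v

variable {G : Type u} {V : Type v} [Group G] [AddCommGroup V] [DistribMulAction G V]

/-- nontrivial elementary abelian subgroups of largest measure -/
def DD (V : Type v) [AddCommGroup V] [DistribMulAction G V] (μ : ℕ) (A : Subgroup G) : Prop :=
  El A ∧ A ≠ ⊥ ∧ Nat.card A * Nat.card ↥(fx V A) = μ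

/-- generated by the members of `DD` contained in `T` -/
def JJ (V : Type v) [AddCommGroup V] [DistribMulAction G V] (μ : ℕ) (T : Subgroup G) : Subgroup G :=
  sSup {A | DD V μ A ∧ A ≤ T}

theorem JJ_le (μ : ℕ) (T : Subgroup G) : JJ V μ T ≤ T := sSup_le fun _ hA => hA.2

theorem le_JJ {μ : ℕ} {A T : Subgroup G} (hA : DD V μ A) (h : A ≤ T) : A ≤ JJ V μ T :=
  le_sSup ⟨hA, h⟩

theorem JJ_mono {μ : ℕ} {T T' : Subgroup G} (h : T ≤ T') : JJ V μ T ≤ JJ V μ T' :=
  sSup_le fun _ hA => le_JJ hA.1 (hA.2.trans h)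

theorem DD.cj {μ : ℕ} {A : Subgroup G} (h : DD V μ A) (g : G) : DD V μ (cj g A) := by
  refine ⟨h.1.cj g, fun h' => h.2.1 (cj_eq_bot.1 h'), ?_⟩
  rw [card_cj, ← tr_fx, card_tr]; exact h.2.2

theorem cj_JJ (g : G) (μ : ℕ) (T : Subgroup G) : cj g (JJ V μ T) = JJ V μ (cj g T) := by
  have key : ∀ (g : G) (T : Subgroup G), JJ V μ T ≤ FusionH12.cj g⁻¹ (JJ V μ (FusionH12.cj g T)) := by
    intro g T
    refine sSup_le fun A hA => ?_
    rw [← cj_le_cj (a := g), cj_cj_inv]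
    exact le_JJ (hA.1.cj g) (cj_mono hA.2)
  apply le_antisymm
  · rw [cj_le_iff]; exact key g T
  · have := key g⁻¹ (FusionH12.cj g T)
    rwa [cj_inv_cj, inv_inv] at this

theorem nrm_le_nrm_JJ (μ : ℕ) (T : Subgroup G) :
    normalizer (T : Set G) ≤ normalizer (JJ V μ T : Set G) := by
  intro g hg
  rw [mem_nrm] at hg ⊢
  rw [cj_JJ, hg]

structure Ctx (S : Subgroup G) (X : AddSubgroup V) (μ : ℕ) : Prop where
  h2 : ∀ v : V, v + v = 0
  faith : ∀ g : G, (∀ v : V, g • v = v) → g = 1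
  syl : SylIn 2 S ⊤
  gen : oc (⊤ : Subgroup G) X = (⊤ : AddSubgroup V)
  no : NO S X
  mx : ∀ E : Subgroup G, El E → Nat.card E * Nat.card ↥(fx V E) ≤ μ
  ex : ∃ A : Subgroup G, DD V μ A
  ih : ∀ K : Subgroup G, K ≠ ⊤ → ∀ T, SylIn 2 T K → ∀ Y : AddSubgroup V, T ≤ sb Y → NO T Y →
    NO T (oc K Y)
  nj : normalizer (JJ V μ S : Set G) ≤ sb X
  ne : sb X ≠ (⊤ : Subgroup G)

variable [Finite G] [Finite V]

/-- members of `DD` centralize `W` if there are no offenders on `W` -/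
theorem DD.le_ct {μ : ℕ} {A T : Subgroup G} {W : AddSubgroup V} (hA : DD V μ A) (hAT : A ≤ T)
    (hNO : NO T W) (mx : ∀ E : Subgroup G, El E → Nat.card E * Nat.card ↥(fx V E) ≤ μ) :
    A ≤ ct W := by
  by_contra hcon
  have h1 : ∃ e ∈ A, ∃ w ∈ W, e • w ≠ w := by
    by_contra h
    push Not at h
    exact hcon h
  have h2 := hNO A hAT (fun e he w _ => by rw [← mul_smul, hA.1 e he, one_smul]) h1
  have h3 := off hA.2.2 (mx (A ⊓ ct W) (hA.1.anti inf_le_left))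
  omega

theorem Ctx.S_le {S : Subgroup G} {X : AddSubgroup V} {μ : ℕ} (h : Ctx S X μ) : S ≤ sb X :=
  (Subgroup.le_normalizer.trans (nrm_le_nrm_JJ μ S)).trans h.nj

theorem Ctx.normal_trivial {S : Subgroup G} {X : AddSubgroup V} {μ : ℕ} (h : Ctx S X μ)
    {N : Subgroup G} (hN : ⊤ ≤ normalizer (N : Set G)) (hX : N ≤ ct X) : N = ⊥ := by
  rw [eq_bot_iff]
  intro g hg
  rw [mem_bot]
  apply h.faith
  intro v
  have h1 : (⊤ : AddSubgroup V) ≤ fx V N := by
    rw [← h.gen]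
    refine oc_le_of_sb (le_ct_iff.1 hX) ?_
    intro a ha
    rw [mem_sb_iff, tr_fx, mem_nrm.1 (hN ha)]
  exact h1 (AddSubgroup.mem_top v) g hg

theorem Ctx.JS_le {S : Subgroup G} {X : AddSubgroup V} {μ : ℕ} (h : Ctx S X μ) :
    JJ V μ S ≤ ct X := sSup_le fun _ hA => hA.1.le_ct hA.2 h.no h.mx

theorem Ctx.p4_aux {S : Subgroup G} {X : AddSubgroup V} {μ : ℕ} (h : Ctx S X μ) (n : ℕ) :
    ∀ (T K : Subgroup G), T ≤ S → K ≠ ⊤ → SylIn 2 T (K ⊓ sb X) → (∃ A, DD V μ A ∧ A ≤ T) →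
      Nat.card S - Nat.card T = n → K ≤ sb X := by
  induction n using Nat.strong_induction_on with
  | _ n IH =>
  intro T K hTS hK hT hA hn
  obtain ⟨A, hA, hAT⟩ := hA
  have hJX : JJ V μ T ≤ ct X := (JJ_mono hTS).trans h.JS_le
  have hJne : JJ V μ T ≠ ⊥ := fun e => hA.2.1 (by
    rw [eq_bot_iff, ← e]; exact le_JJ hA hAT)
  have hNJ : normalizer (JJ V μ T : Set G) ≠ ⊤ := fun e => hJne (h.normal_trivial e.ge hJX)
  have hSM : SylIn 2 S (sb X) := h.syl.mono h.S_le le_top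
  have key : normalizer (JJ V μ T : Set G) ≤ sb X := by
    by_cases hTS' : T = S
    · rw [hTS']; exact h.nj
    · have hlt : T < S := lt_of_le_of_ne hTS hTS'
      have h1 := lt_nrm_inf h.syl.pg hlt
      have h3 : S ⊓ normalizer (T : Set G) ≤ normalizer (JJ V μ T : Set G) ⊓ sb X :=
        le_inf (inf_le_right.trans (nrm_le_nrm_JJ μ T)) (inf_le_left.trans h.S_le)
      obtain ⟨T₁, hT₁, hT₁'⟩ := SylIn.exists_ge (p := 2) (h.syl.pg.to_le inf_le_left) h3
      obtain ⟨m, hm, hmT⟩ := hSM.exists_conj_le hT₁'.pg (hT₁'.le.trans inf_le_right)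
      have hcm : cj m (sb X : Subgroup G) = sb X := cj_of_mem hm
      have h4 : Nat.card T < Nat.card T₁ := by
        have := Subgroup.card_le_of_le hT₁
        have h5 : Nat.card T < Nat.card ↥(S ⊓ normalizer (T : Set G)) := by
          by_contra hc
          exact h1.ne (Subgroup.eq_of_le_of_card_ge h1.le (not_lt.1 hc))
        omega
      have h6 : Nat.card T₁ ≤ Nat.card S := by
        have := Subgroup.card_le_of_le hmT
        rwa [card_cj] at this
      have h7 := IH (Nat.card S - Nat.card T₁) (by omega) (cj m T₁)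
        (cj m (normalizer (JJ V μ T : Set G))) hmT
        (fun e => hNJ (by rw [← cj_inj (a := m), e, cj_top]))
        (by
          have := hT₁'.cj m
          rwa [cj_inf, hcm] at this)
        ⟨cj m A, hA.cj m, cj_mono (hAT.trans (h1.le.trans hT₁))⟩ (by rw [card_cj])
      rw [← hcm] at h7
      exact cj_le_cj.1 h7
  have hTK : SylIn 2 T K := by
    obtain ⟨T₂, hTT₂, hT₂⟩ := SylIn.exists_ge hT.pg (hT.le.trans inf_le_left)
    by_cases he : T₂ = T
    · rwa [he] at hT₂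
    · exfalso
      have hlt : T < T₂ := lt_of_le_of_ne hTT₂ (Ne.symm he)
      have h1 := lt_nrm_inf hT₂.pg hlt
      have h3 := hT.eq_of_le (P := T₂ ⊓ normalizer (T : Set G)) (hT₂.pg.to_le inf_le_left)
        (le_inf (inf_le_left.trans hT₂.le) (inf_le_right.trans ((nrm_le_nrm_JJ μ T).trans key))) h1.le
      exact h1.ne h3.symm
  have hNO : NO T (oc K X) := h.ih K hK T hTK X (hTS.trans h.S_le) (h.no.anti hTS)
  have hJO : JJ V μ T ≤ ct (oc K X) := sSup_le fun _ hA => hA.1.le_ct hA.2 hNO h.mx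
  have hC : K ≤ normalizer ((K ⊓ ct (oc K X) : Subgroup G) : Set G) := by
    intro k hk
    rw [mem_nrm, cj_inf, cj_of_mem hk, cj_ct, tr_of_mem_sb (le_sb_oc K X hk)]
  have hTC : SylIn 2 (T ⊓ (K ⊓ ct (oc K X))) (K ⊓ ct (oc K X)) := hTK.inf_normal inf_le_left hC
  have hJe : JJ V μ (T ⊓ (K ⊓ ct (oc K X))) = JJ V μ T := by
    apply le_antisymm (JJ_mono inf_le_left)
    exact sSup_le fun B hB => le_JJ hB.1 (le_inf hB.2 (le_inf (hB.2.trans hTK.le)
      ((le_JJ hB.1 hB.2).trans hJO)))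
  intro g hg
  obtain ⟨n, hn, hng⟩ := frattini hTC hC hg
  have h8 : n * g ∈ sb X := key (hJe ▸ nrm_le_nrm_JJ μ _ hng)
  have h9 : n ∈ sb X := ct_le_sb X (ct_anti le_oc hn.2)
  have : g = n⁻¹ * (n * g) := by simp
  rw [this]
  exact mul_mem (inv_mem h9) h8

/-- uniqueness property -/
theorem Ctx.p4 {S : Subgroup G} {X : AddSubgroup V} {μ : ℕ} (h : Ctx S X μ) {A K : Subgroup G}
    (hA : DD V μ A) (hAM : A ≤ sb X) (hAK : A ≤ K) (hK : K ≠ ⊤) : K ≤ sb X := by
  have hSM : SylIn 2 S (sb X) := h.syl.mono h.S_le le_top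
  obtain ⟨T, hAT, hT⟩ := SylIn.exists_ge (p := 2) hA.1.isPGroup (le_inf hAK hAM)
  obtain ⟨m, hm, hmT⟩ := hSM.exists_conj_le hT.pg (hT.le.trans inf_le_right)
  have hcm : cj m (sb X : Subgroup G) = sb X := cj_of_mem hm
  have h7 := h.p4_aux _ (cj m T) (cj m K) hmT
    (fun e => hK (by rw [← cj_inj (a := m), e, cj_top]))
    (by
      have := hT.cj m
      rwa [cj_inf, hcm] at this)
    ⟨cj m A, hA.cj m, cj_mono hAT⟩ rfl
  rw [← hcm] at h7
  exact cj_le_cj.1 h7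

end CfsgLib.NO9
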