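import Cfsg.Agent.LibNO9B

/-! No offenders: quadratic action and regularity. -/

set_option autoImplicit false

namespace CfsgLib.NO9

open Cfsg Subgroup CfsgLib.FusionH12

universe u v

variable {G : Type u} {V : Type v} [Group G] [AddCommGroup V] [DistribMulAction G V]

section Basic

variable [Finite G] [Finite V] {S : Subgroup G} {X : AddSubgroup V} {μ : ℕ}

theorem Ctx.exists_le (h : Ctx S X μ) {A : Subgroup G} (hA : DD V μ A) :
    ∃ g, A ≤ cj g (sb X : Subgroup G) := by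
  obtain ⟨a, -, ha⟩ := h.syl.exists_conj_le hA.1.isPGroup le_top
  exact ⟨a⁻¹, cj_le_iff.1 (ha.trans h.S_le)⟩

theorem Ctx.le_ct (h : Ctx S X μ) {A : Subgroup G} (hA : DD V μ A) {g : G}
    (hg : A ≤ cj g (sb X : Subgroup G)) : A ≤ ct (tr g X) := by
  have hSM : SylIn 2 S (sb X) := h.syl.mono h.S_le le_top
  have h1 : FusionH12.cj g⁻¹ A ≤ (sb X : Subgroup G) := le_cj_iff.1 hg
  obtain ⟨m, hm, hmA⟩ := hSM.exists_conj_le (isPGroup_cj hA.1.isPGroup) h1
  have h2 := ((hA.cj g⁻¹).cj m).le_ct hmA h.no h.mx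
  rw [cj_le_iff, cj_ct, tr_of_mem_sb (inv_mem hm), cj_le_iff, cj_ct, inv_inv] at h2
  exact h2

theorem Ctx.unique (h : Ctx S X μ) {A : Subgroup G} (hA : DD V μ A) {g k : G}
    (hg : A ≤ cj g (sb X : Subgroup G)) (hk : A ≤ cj k (sb X : Subgroup G)) :
    cj g (sb X : Subgroup G) = cj k (sb X : Subgroup G) := by
  have h1 : FusionH12.cj g⁻¹ A ≤ (sb X : Subgroup G) := le_cj_iff.1 hg
  have h2 : FusionH12.cj g⁻¹ A ≤ FusionH12.cj (g⁻¹ * k) (sb X : Subgroup G) := by
    rw [cj_mul]; exact cj_mono hk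
  have h3 := h.p4 (hA.cj g⁻¹) h1 h2 (fun e => h.ne (by
    rw [← cj_inj (a := g⁻¹ * k), e, cj_top]))
  have h4 : FusionH12.cj (g⁻¹ * k) (sb X : Subgroup G) = sb X :=
    Subgroup.eq_of_le_of_card_ge h3 (by rw [card_cj])
  rw [cj_mul, ← cj_inj (a := g), cj_cj_inv] at h4
  exact h4.symm

theorem Ctx.exists_S (h : Ctx S X μ) : ∃ A : Subgroup G, DD V μ A ∧ A ≤ S := by
  obtain ⟨A, hA⟩ := h.ex
  obtain ⟨a, -, ha⟩ := h.syl.exists_conj_le hA.1.isPGroup le_top
  exact ⟨_, hA.cj a, ha⟩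

theorem Ctx.nrm (h : Ctx S X μ) : normalizer ((sb X : Subgroup G) : Set G) ≤ sb X := by
  obtain ⟨A, hA, hAS⟩ := h.exists_S
  by_cases hN : normalizer ((sb X : Subgroup G) : Set G) = ⊤
  · exfalso
    apply h.ne
    rw [eq_top_iff]
    intro g _
    have hSM : SylIn 2 S (sb X) := h.syl.mono h.S_le le_top
    obtain ⟨n, hn, hng⟩ := frattini hSM hN.ge (mem_top g)
    have h8 : n * g ∈ sb X := h.nj (nrm_le_nrm_JJ μ S hng)
    have : g = n⁻¹ * (n * g) := by simp
    rw [this]
    exact mul_mem (inv_mem hn) h8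
  · exact h.p4 hA (hAS.trans h.S_le) ((hAS.trans h.S_le).trans Subgroup.le_normalizer) hN

theorem Ctx.cj_eq (h : Ctx S X μ) {g k : G} (e : cj g (sb X : Subgroup G) = cj k (sb X : Subgroup G)) :
    g⁻¹ * k ∈ (sb X : Subgroup G) := by
  apply h.nrm
  rw [mem_nrm, cj_mul, ← e, cj_inv_cj]

/-- the core -/
def M0 (X : AddSubgroup V) : Subgroup G := (sb X).normalCore

omit [Finite G] [Finite V] in
theorem mem_M0 {X : AddSubgroup V} {g : G} : g ∈ (M0 X : Subgroup G) ↔ ∀ k, g ∈ cj k (sb X : Subgroup G) := by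
  unfold M0
  constructor
  · intro hg k
    rw [mem_cj]
    have := hg k⁻¹
    simpa using this
  · intro hg k
    have := hg k⁻¹
    rw [mem_cj] at this
    simpa using this

omit [Finite G] [Finite V] in
theorem nrm_M0 {X : AddSubgroup V} : (⊤ : Subgroup G) ≤ normalizer ((M0 X : Subgroup G) : Set G) := by
  have : (M0 X : Subgroup G).Normal := Subgroup.normalCore_normal _
  rw [Subgroup.normalizer_eq_top]

theorem Ctx.R_normal (h : Ctx S X μ) :
    (⊤ : Subgroup G) ≤ normalizer ((S ⊓ M0 X : Subgroup G) : Set G) := by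
  obtain ⟨A, hA, hAS⟩ := h.exists_S
  by_contra hcon
  have hN : normalizer ((S ⊓ M0 X : Subgroup G) : Set G) ≠ ⊤ := fun e => hcon e.ge
  have hSR : S ≤ normalizer ((S ⊓ M0 X : Subgroup G) : Set G) := by
    intro s hs
    rw [mem_nrm, cj_inf, cj_of_mem hs, mem_nrm.1 (nrm_M0 (mem_top s))]
  have h1 := h.p4 hA (hAS.trans h.S_le) (hAS.trans hSR) hN
  have hR : SylIn 2 (S ⊓ M0 X) (M0 X : Subgroup G) := h.syl.inf_normal le_top nrm_M0
  apply h.ne
  rw [eq_top_iff]
  intro g _
  obtain ⟨n, hn, hng⟩ := frattini hR nrm_M0 (mem_top g)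
  have h8 : n * g ∈ sb X := h1 hng
  have h9 : n ∈ (sb X : Subgroup G) := by
    have := mem_M0.1 hn 1
    rwa [cj_one] at this
  have : g = n⁻¹ * (n * g) := by simp
  rw [this]
  exact mul_mem (inv_mem h9) h8

theorem Ctx.le_R (h : Ctx S X μ) {Q : Subgroup G} (hQ : IsPGroup 2 Q) (hQM : Q ≤ M0 X) :
    Q ≤ S ⊓ M0 X := by
  have hR : SylIn 2 (S ⊓ M0 X) (M0 X : Subgroup G) := h.syl.inf_normal le_top nrm_M0
  obtain ⟨a, -, ha⟩ := hR.exists_conj_le hQ hQM
  rw [cj_le_iff, mem_nrm.1 (h.R_normal (mem_top a⁻¹))] at ha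
  exact ha

theorem Ctx.not_le_M0 (h : Ctx S X μ) {A : Subgroup G} (hA : DD V μ A) : ¬ A ≤ M0 X := by
  intro hle
  apply h.ne
  rw [eq_top_iff]
  intro k _
  have h1 : A ≤ cj k (sb X : Subgroup G) := fun a ha => mem_M0.1 (hle ha) k
  have h2 : A ≤ cj 1 (sb X : Subgroup G) := fun a ha => mem_M0.1 (hle ha) 1
  have := h.cj_eq (h.unique hA h2 h1)
  simpa using this

end Basic

section Quad

/-- quadratic action -/
def Qd (V : Type v) [AddCommGroup V] [DistribMulAction G V] (A : Subgroup G) : Prop :=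
  ∀ a ∈ A, ∀ b ∈ A, ∀ v : V, a • (b • v - v) = b • v - v

theorem Qd.cj {A : Subgroup G} (h : Qd V A) (g : G) : Qd V (cj g A) := by
  intro a ha b hb v
  rw [mem_cj] at ha hb
  have := h _ ha _ hb (g⁻¹ • v)
  simp only [mul_smul, smul_inv_smul, smul_sub] at this
  have h3 := congrArg (fun x => g • x) this
  simp only [smul_sub, smul_inv_smul] at h3
  rw [smul_sub]; exact h3

theorem nilp {A : Subgroup G} (hA : El A) (h2 : ∀ v : V, v + v = 0) {w : V}
    (hw : w ∈ AddSubgroup.closure {x : V | ∃ a ∈ A, x = a • w - w}) : w = 0 := by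
  have key : ∀ u ∈ AddSubgroup.closure {x : V | ∃ a ∈ A, x = a • w - w},
      ∃ T : AddMonoid.End V, u = T w ∧ T * T = 0 ∧
        ∀ R : AddMonoid.End V, (∀ a ∈ A, Commute R (DistribMulAction.toAddMonoidEnd G V a)) → Commute R T := by
    intro u hu
    induction hu using AddSubgroup.closure_induction with
    | mem x hx =>
      obtain ⟨a, ha, rfl⟩ := hx
      refine ⟨DistribMulAction.toAddMonoidEnd G V a - 1, rfl, ?_, ?_⟩
      · ext v
        have e1 : a • a • v = v := by rw [← mul_smul, hA a ha, one_smul]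
        show a • (a • v - v) - (a • v - v) = 0
        rw [smul_sub, e1]
        have := h2 (a • v)
        have h3 := h2 v
        calc v - a • v - (a • v - v) = (v + v) - (a • v + a • v) := by abel
          _ = 0 := by rw [this, h3, sub_zero]
      · intro R hR
        exact (hR a ha).sub_right (Commute.one_right R)
    | zero => exact ⟨0, by simp, by simp, fun R _ => Commute.zero_right R⟩
    | add x y _ _ hx hy =>
      obtain ⟨T₁, e₁, s₁, c₁⟩ := hx
      obtain ⟨T₂, e₂, s₂, c₂⟩ := hy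
      refine ⟨T₁ + T₂, by rw [e₁, e₂]; rfl, ?_, fun R hR => (c₁ R hR).add_right (c₂ R hR)⟩
      have hc : Commute T₁ T₂ := by
        apply c₂
        intro a ha
        refine (c₁ _ ?_).symm
        intro b hb
        have := hA.comm ha hb
        show _ * _ = _ * _
        rw [← map_mul, ← map_mul, this]
      rw [add_mul, mul_add, mul_add, s₁, s₂, hc.eq]
      ext v
      simp only [zero_add, add_zero, AddMonoidHom.add_apply, AddMonoidHom.zero_apply]
      exact h2 _
    | neg x _ hx =>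
      obtain ⟨T₁, e₁, s₁, c₁⟩ := hx
      exact ⟨-T₁, by rw [e₁]; rfl, by rw [neg_mul_neg, s₁], fun R hR => (c₁ R hR).neg_right⟩
  obtain ⟨T, e, s, -⟩ := key w hw
  have : (T * T) w = w := by
    show T (T w) = w
    rw [← e, ← e]
  rw [s] at this
  exact this.symm

variable [Finite G] [Finite V] {S : Subgroup G} {X : AddSubgroup V} {μ : ℕ}

theorem quad_card {A : Subgroup G} (hA : El A) (v : V) :
    Nat.card A * Nat.card ↥(fx V A) ≤
      Nat.card ↥(A ⊓ ct (AddSubgroup.closure {x : V | ∃ a ∈ A, x = a • v - v})) *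
      Nat.card ↥(AddSubgroup.closure {x : V | ∃ a ∈ A, x = a • v - v} ⊔ fx V A) := by
  set W := AddSubgroup.closure {x : V | ∃ a ∈ A, x = a • v - v} with hW
  set B : Subgroup G := A ⊓ ct W with hB
  have hmem : ∀ a ∈ A, a • v - v ∈ W := fun a ha => AddSubgroup.subset_closure ⟨a, ha, rfl⟩
  have key : ∀ a ∈ A, ∀ a' ∈ A, ∀ c ∈ fx V A, ∀ c' ∈ fx V A, a • v - v + c = a' • v - v + c' →
      a⁻¹ * a' ∈ B := by
    intro a ha a' ha' c hc c' hc' e
    have ha2 : a⁻¹ = a := inv_eq_of_mul_eq_one_left (hA a ha)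
    refine mem_inf.2 ⟨mul_mem (inv_mem ha) ha', ?_⟩
    -- `a⁻¹ a'` shifts each element of the orbit by the same amount
    have h1 : ∀ b ∈ A, (a⁻¹ * a') • (b • v) = b • v + (c - c') := by
      intro b hb
      have e2 : a' • v = a • v + (c - c') := by
        have : a' • v = (a' • v - v + c') + v - c' := by abel
        rw [this, ← e]; abel
      have e3 : a⁻¹ * a' * b = b * (a⁻¹ * a') := hA.comm (mul_mem (inv_mem ha) ha') hb
      have hcc : c - c' ∈ fx V A := sub_mem hc hc'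
      rw [← mul_smul, e3, mul_smul, mul_smul, e2, smul_add, inv_smul_smul, hcc _ (inv_mem ha),
        smul_add, hcc _ hb]
    rw [mem_ct]
    intro w hw
    rw [hW] at hw
    induction hw using AddSubgroup.closure_induction with
    | mem x hx =>
      obtain ⟨b, hb, rfl⟩ := hx
      have h3 := h1 1 (one_mem _)
      rw [one_smul] at h3
      rw [smul_sub, h1 b hb, h3]; abel
    | zero => rw [smul_zero]
    | add x y _ _ hx hy => rw [smul_add, hx, hy]
    | neg x _ hx => rw [smul_neg, hx]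
  let f : (A ⧸ B.subgroupOf A) × ↥(fx V A) → ↥(W ⊔ fx V A) := fun p =>
    ⟨((Quotient.out p.1 : A) : G) • v - v + p.2,
      add_mem (AddSubgroup.mem_sup_left (hmem _ (Quotient.out p.1 : A).2)) (AddSubgroup.mem_sup_right p.2.2)⟩
  have hf : Function.Injective f := by
    rintro ⟨q, c⟩ ⟨q', c'⟩ e
    have e' : ((Quotient.out q : A) : G) • v - v + (c : V) = ((Quotient.out q' : A) : G) • v - v + (c' : V) :=
      congrArg Subtype.val e
    have h1 := key _ (Quotient.out q : A).2 _ (Quotient.out q' : A).2 _ c.2 _ c'.2 e'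
    have h2 : q = q' := by
      rw [← Quotient.out_eq q, ← Quotient.out_eq q']
      exact QuotientGroup.eq.2 (Subgroup.mem_subgroupOf.2 h1)
    subst h2
    have h3 : (c : V) = c' := add_left_cancel e'
    rw [Subtype.ext h3]
  have h1 := Nat.card_le_card_of_injective f hf
  rw [Nat.card_prod] at h1
  have h2 := Subgroup.card_eq_card_quotient_mul_card_subgroup (B.subgroupOf A)
  have h3 : Nat.card (B.subgroupOf A) = Nat.card B :=
    Nat.card_congr (Subgroup.subgroupOfEquivOfLe inf_le_left).toEquiv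
  rw [h2, h3]
  calc Nat.card (A ⧸ B.subgroupOf A) * Nat.card B * Nat.card ↥(fx V A)
      = Nat.card B * (Nat.card (A ⧸ B.subgroupOf A) * Nat.card ↥(fx V A)) := by ring
    _ ≤ _ := by gcongr

/-- minimal members act quadratically -/
theorem Ctx.quad (h : Ctx S X μ) {A : Subgroup G} (hA : DD V μ A)
    (hmin : ∀ B : Subgroup G, DD V μ B → B ≤ A → B = A) : Qd V A := by
  have main : ∀ v : V, A ≤ ct (AddSubgroup.closure {x : V | ∃ a ∈ A, x = a • v - v}) := by
    intro v
    set W := AddSubgroup.closure {x : V | ∃ a ∈ A, x = a • v - v} with hW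
    have h1 := quad_card hA.1 v
    rw [← hW] at h1
    have h2 : W ⊔ fx V A ≤ fx V (A ⊓ ct W) :=
      sup_le (le_ct_iff.1 inf_le_right) (fx_anti inf_le_left)
    have h3 := AddSubgroup.card_le_of_le h2
    have h4 := h.mx (A ⊓ ct W) (hA.1.anti inf_le_left)
    have h5 : Nat.card ↥(A ⊓ ct W) * Nat.card ↥(fx V (A ⊓ ct W)) = μ := by
      apply le_antisymm h4
      rw [← hA.2.2]
      exact h1.trans (Nat.mul_le_mul_left _ h3)
    by_cases hB : A ⊓ ct W = ⊥
    · exfalso
      have h6 : Nat.card V ≤ μ := by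
        have := h.mx ⊥ (fun e he => by rw [mem_bot] at he; rw [he, one_mul])
        rw [fx_bot, Subgroup.card_bot, one_mul] at this
        rwa [← Nat.card_congr (AddSubgroup.topEquiv (G := V)).toEquiv]
      rw [hB, Subgroup.card_bot, one_mul, hA.2.2] at h1
      have h7 : W ⊔ fx V A = ⊤ := AddSubgroup.eq_top_of_le_card _ (h6.trans h1)
      have h8 : v ∈ W ⊔ fx V A := by rw [h7]; exact AddSubgroup.mem_top v
      obtain ⟨w, hw, c, hc, hv⟩ := AddSubgroup.mem_sup.1 h8
      have h9 : ∀ a ∈ A, a • v - v = a • w - w := by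
        intro a ha
        rw [← hv, smul_add, hc a ha]; abel
      have h10 : w = 0 := by
        apply nilp hA.1 h.h2
        have : {x : V | ∃ a ∈ A, x = a • w - w} = {x : V | ∃ a ∈ A, x = a • v - v} := by
          ext x
          constructor
          · rintro ⟨a, ha, rfl⟩; exact ⟨a, ha, (h9 a ha).symm⟩
          · rintro ⟨a, ha, rfl⟩; exact ⟨a, ha, h9 a ha⟩
        rw [this]; exact hw
      have h11 : W = ⊥ := by
        rw [hW, AddSubgroup.closure_eq_bot_iff]
        rintro x ⟨a, ha, rfl⟩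
        rw [h9 a ha, h10]; simp
      have h12 : fx V A = ⊤ := by rw [← h7, h11, bot_sup_eq]
      apply hA.2.1
      rw [eq_bot_iff]
      intro a ha
      rw [mem_bot]
      apply h.faith
      intro u
      have : u ∈ fx V A := by rw [h12]; exact AddSubgroup.mem_top u
      exact this a ha
    · have h6 := hmin _ ⟨hA.1.anti inf_le_left, hB, h5⟩ inf_le_left
      rw [← h6]; exact inf_le_right
  intro a ha b hb v
  exact main v ha _ (AddSubgroup.subset_closure ⟨b, hb, rfl⟩)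

theorem Ctx.exists_quad (h : Ctx S X μ) : ∃ A : Subgroup G, DD V μ A ∧ Qd V A ∧ A ≤ sb X := by
  obtain ⟨A, hA⟩ := h.ex
  obtain ⟨B, hB, hmin⟩ := (Set.toFinite {A : Subgroup G | DD V μ A}).exists_minimal ⟨A, hA⟩
  have h1 : Qd V B := h.quad hB (fun C hC hCB => le_antisymm hCB (hmin hC hCB))
  obtain ⟨g, hg⟩ := h.exists_le hB
  exact ⟨cj g⁻¹ B, hB.cj g⁻¹, h1.cj g⁻¹, by rw [← le_cj_iff]; exact hg⟩

theorem Ctx.pair_top (h : Ctx S X μ) {A B : Subgroup G} (hA : DD V μ A) (hB : DD V μ B) {g k : G}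
    (hAg : A ≤ cj g (sb X : Subgroup G)) (hBk : B ≤ cj k (sb X : Subgroup G))
    (hne : cj g (sb X : Subgroup G) ≠ cj k (sb X : Subgroup G)) : A ⊔ B = ⊤ := by
  by_contra hcon
  have h1 : FusionH12.cj g⁻¹ A ≤ (sb X : Subgroup G) := le_cj_iff.1 hAg
  have h3 := h.p4 (hA.cj g⁻¹) h1 (cj_mono (le_sup_left : A ≤ A ⊔ B)) (fun e => hcon (by
    rw [← cj_inj (a := g⁻¹), e, cj_top]))
  rw [← le_cj_iff] at h3
  exact hne (h.unique hB (le_sup_right.trans h3) hBk)

theorem Ctx.pair_fx (h : Ctx S X μ) {A B : Subgroup G} (hA : DD V μ A) (hB : DD V μ B)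
    (qA : Qd V A) (qB : Qd V B) {g k : G}
    (hAg : A ≤ cj g (sb X : Subgroup G)) (hBk : B ≤ cj k (sb X : Subgroup G))
    (hne : cj g (sb X : Subgroup G) ≠ cj k (sb X : Subgroup G)) : fx V A ⊔ fx V B = ⊤ := by
  have htop := h.pair_top hA hB hAg hBk hne
  have key : ∀ C : Subgroup G, Qd V C → C ≤ sb (fx V C) ∧ ∀ (U : AddSubgroup V), fx V C ≤ U → C ≤ sb U := by
    intro C hC
    have : ∀ (U : AddSubgroup V), fx V C ≤ U → C ≤ sb U := by
      intro U hU
      apply le_sb_of_forall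
      intro e he w hw
      have h1 : e • w - w ∈ U := hU (fun c hc => hC c hc e he w)
      have : e • w = (e • w - w) + w := by abel
      rw [this]; exact add_mem h1 hw
    exact ⟨this _ le_rfl, this⟩
  have h1 : (⊤ : Subgroup G) ≤ sb (fx V A ⊔ fx V B) := by
    rw [← htop]
    exact sup_le ((key A qA).2 _ le_sup_left) ((key B qB).2 _ le_sup_right)
  rw [eq_top_iff]
  have h2 : oc (⊤ : Subgroup G) (tr k X) = (⊤ : AddSubgroup V) := by
    have := tr_oc k ⊤ X
    rw [h.gen, cj_top] at this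
    rw [← this]
    rw [eq_top_iff]
    intro v _
    rw [mem_tr]; exact AddSubgroup.mem_top _
  rw [← h2]
  exact oc_le_of_sb ((le_ct_iff.1 (h.le_ct hB hBk)).trans le_sup_right) h1

/-- regularity -/
theorem Ctx.regular (h : Ctx S X μ) {A : Subgroup G} (hA : DD V μ A) (qA : Qd V A) {a : G}
    (ha : a ∈ A) (haM : a ∉ (M0 X : Subgroup G)) {v : V} (hv : a • v - v ∈ fx V (⊤ : Subgroup G)) :
    v ∈ fx V A := by
  obtain ⟨g, hg⟩ := h.exists_le hA
  have : ∃ k, a ∉ cj k (sb X : Subgroup G) := by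
    by_contra hcon
    push Not at hcon
    exact haM (mem_M0.2 hcon)
  obtain ⟨k, hk⟩ := this
  have hB1 : cj (k * g⁻¹) A ≤ cj k (sb X : Subgroup G) := by
    rw [cj_mul]
    exact cj_mono (le_cj_iff.1 hg)
  have hB2 : cj a (cj (k * g⁻¹) A) ≤ cj (a * k) (sb X : Subgroup G) := by
    rw [cj_mul a k]; exact cj_mono hB1
  have hne1 : cj g (sb X : Subgroup G) ≠ cj k (sb X : Subgroup G) := fun e => hk (by
    rw [← e]; exact hg ha)
  have hne2 : cj k (sb X : Subgroup G) ≠ cj (a * k) (sb X : Subgroup G) := by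
    intro e
    have := h.cj_eq e
    apply hk
    rw [mem_cj]
    simpa [mul_assoc] using this
  have dB := hA.cj (k * g⁻¹)
  have qB := qA.cj (k * g⁻¹)
  have hs := h.pair_fx hA dB qA qB hg hB1 hne1
  have ht := h.pair_top dB (dB.cj a) hB1 hB2 hne2
  have hv' : v ∈ fx V A ⊔ fx V (cj (k * g⁻¹) A) := by rw [hs]; exact AddSubgroup.mem_top v
  obtain ⟨c, hc, w, hw, rfl⟩ := AddSubgroup.mem_sup.1 hv'
  have e1 : a • (c + w) - (c + w) = a • w - w := by
    rw [smul_add, hc a ha]; abel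
  rw [e1] at hv
  have h1 : a • w ∈ fx V (cj a (cj (k * g⁻¹) A)) := by
    rw [← tr_fx]; exact smul_mem_tr hw
  have h2 : w ∈ fx V (cj a (cj (k * g⁻¹) A)) := by
    have : w = a • w - (a • w - w) := by abel
    rw [this]
    exact sub_mem h1 (fx_anti le_top hv)
  have h3 : w ∈ fx V (⊤ : Subgroup G) := by
    rw [← ht, fx_sup]; exact AddSubgroup.mem_inf.2 ⟨hw, h2⟩
  exact add_mem hc (fx_anti le_top h3)

end Quad

end CfsgLib.NO9
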