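import Cfsg.Agent.LibNO9C
import Cfsg.Agent.LibFus21J3
import Cfsg.Agent.LibFus21Sect

/-! No offenders: invariant subgroups split in halves; no section `S₃`. -/

set_option autoImplicit false

namespace CfsgLib.NO9

open Cfsg Subgroup CfsgLib.FusionH12

universe u v

section Count

variable {G : Type u} {V : Type v} [Group G] [AddCommGroup V] [Finite G] [Finite V]

theorem count {A A0 : Subgroup G} (hA0 : A0 ≤ A) {Z D : AddSubgroup V} (hZD : Z ≤ D) (f : G → V)
    (hD : ∀ a ∈ A, f a ∈ D) (hinj : ∀ a ∈ A, ∀ a' ∈ A, f a - f a' ∈ Z → a⁻¹ * a' ∈ A0) :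
    Nat.card A * Nat.card Z ≤ Nat.card A0 * Nat.card D ∧
    (Nat.card A0 * Nat.card D ≤ Nat.card A * Nat.card Z → ∀ d ∈ D, ∃ a ∈ A, f a - d ∈ Z) := by
  let F : (A ⧸ A0.subgroupOf A) × ↥Z → ↥D := fun p =>
    ⟨f (Quotient.out p.1 : A) + p.2, add_mem (hD _ (Quotient.out p.1 : A).2) (hZD p.2.2)⟩
  have hF : Function.Injective F := by
    rintro ⟨q, c⟩ ⟨q', c'⟩ e
    have e' : f (Quotient.out q : A) + (c : V) = f (Quotient.out q' : A) + (c' : V) :=
      congrArg Subtype.val e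
    have e2 : f (Quotient.out q : A) - f (Quotient.out q' : A) = (c' : V) - c := by
      rw [sub_eq_sub_iff_add_eq_add, e', add_comm]
    have h1 := hinj _ (Quotient.out q : A).2 _ (Quotient.out q' : A).2 (by
      rw [e2]; exact sub_mem c'.2 c.2)
    have h2 : q = q' := by
      rw [← Quotient.out_eq q, ← Quotient.out_eq q']
      exact QuotientGroup.eq.2 (Subgroup.mem_subgroupOf.2 h1)
    subst h2
    have h3 : (c : V) = c' := add_left_cancel e'
    rw [Subtype.ext h3]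
  have h2 := Subgroup.card_eq_card_quotient_mul_card_subgroup (A0.subgroupOf A)
  have h3 : Nat.card (A0.subgroupOf A) = Nat.card A0 :=
    Nat.card_congr (Subgroup.subgroupOfEquivOfLe hA0).toEquiv
  rw [h3] at h2
  have hp : 0 < Nat.card A0 := Nat.card_pos
  constructor
  · have h1 := Nat.card_le_card_of_injective F hF
    rw [Nat.card_prod] at h1
    rw [h2]
    calc _ = Nat.card A0 * (Nat.card (A ⧸ A0.subgroupOf A) * Nat.card Z) := by ring
      _ ≤ _ := by gcongr
  · intro hle d hd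
    have h4 : Nat.card ↥D ≤ Nat.card ((A ⧸ A0.subgroupOf A) × ↥Z) := by
      rw [Nat.card_prod]
      rw [h2] at hle
      refine Nat.le_of_mul_le_mul_left ?_ hp
      calc _ ≤ _ := hle
        _ = _ := by ring
    have hbij : Function.Bijective F := by
      have : Fintype ((A ⧸ A0.subgroupOf A) × ↥Z) := Fintype.ofFinite _
      have : Fintype ↥D := Fintype.ofFinite _
      rw [Fintype.bijective_iff_injective_and_card]
      refine ⟨hF, ?_⟩
      rw [← Nat.card_eq_fintype_card, ← Nat.card_eq_fintype_card]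
      exact le_antisymm (Nat.card_le_card_of_injective F hF) h4
    obtain ⟨⟨q, c⟩, hq⟩ := hbij.2 ⟨d, hd⟩
    have hq' : f (Quotient.out q : A) + (c : V) = d := congrArg Subtype.val hq
    refine ⟨_, (Quotient.out q : A).2, ?_⟩
    rw [← hq']
    have : f (Quotient.out q : A) - (f (Quotient.out q : A) + (c : V)) = - (c : V) := by abel
    rw [this]
    exact neg_mem c.2

theorem count_add {U C Z D : AddSubgroup V} (hCU : C ≤ U) (hZD : Z ≤ D) (f : V → V)
    (hD : ∀ a ∈ U, f a ∈ D) (hinj : ∀ a ∈ U, ∀ a' ∈ U, f a - f a' ∈ Z → -a + a' ∈ C) :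
    Nat.card U * Nat.card Z ≤ Nat.card C * Nat.card D := by
  let F : (U ⧸ C.addSubgroupOf U) × ↥Z → ↥D := fun p =>
    ⟨f (Quotient.out p.1 : U) + p.2, add_mem (hD _ (Quotient.out p.1 : U).2) (hZD p.2.2)⟩
  have hF : Function.Injective F := by
    rintro ⟨q, c⟩ ⟨q', c'⟩ e
    have e' : f (Quotient.out q : U) + (c : V) = f (Quotient.out q' : U) + (c' : V) :=
      congrArg Subtype.val e
    have e2 : f (Quotient.out q : U) - f (Quotient.out q' : U) = (c' : V) - c := by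
      rw [sub_eq_sub_iff_add_eq_add, e', add_comm]
    have h1 := hinj _ (Quotient.out q : U).2 _ (Quotient.out q' : U).2 (by
      rw [e2]; exact sub_mem c'.2 c.2)
    have h2 : q = q' := by
      rw [← Quotient.out_eq q, ← Quotient.out_eq q']
      exact QuotientAddGroup.eq.2 (AddSubgroup.mem_addSubgroupOf.2 h1)
    subst h2
    have h3 : (c : V) = c' := add_left_cancel e'
    rw [Subtype.ext h3]
  have h2 := AddSubgroup.card_eq_card_quotient_mul_card_addSubgroup (C.addSubgroupOf U)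
  have h3 : Nat.card (C.addSubgroupOf U) = Nat.card C :=
    Nat.card_congr (AddSubgroup.addSubgroupOfEquivOfLe hCU).toEquiv
  rw [h3] at h2
  have h1 := Nat.card_le_card_of_injective F hF
  rw [Nat.card_prod] at h1
  rw [h2]
  calc _ = Nat.card C * (Nat.card (U ⧸ C.addSubgroupOf U) * Nat.card Z) := by ring
    _ ≤ _ := by gcongr

end Count

variable {G : Type u} {V : Type v} [Group G] [AddCommGroup V] [DistribMulAction G V]

theorem card_three {α : Type*} {u v w : α} (huv : u ≠ v) (huw : u ≠ w) (hvw : v ≠ w) :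
    Nat.card {c : α // c = u ∨ c = v ∨ c = w} = 3 := by
  classical
  have : {c : α | c = u ∨ c = v ∨ c = w} = (({u, v, w} : Finset α) : Set α) := by
    ext c; simp
  show Nat.card ↥{c : α | c = u ∨ c = v ∨ c = w} = 3
  rw [this]
  simp [huv, huw, hvw]

/-- the action on a quotient -/
def qact (Z : AddSubgroup V) (hZ : ∀ g : G, g ∈ sb Z) : MulAction G (V ⧸ Z) where
  smul g c := QuotientAddGroup.map Z Z (DistribMulAction.toAddMonoidHom V g)
    (fun z hz => smul_mem_of_sb (hZ g) hz) c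
  one_smul c := by
    obtain ⟨v, rfl⟩ := QuotientAddGroup.mk_surjective c
    show ((((1 : G) • v : V)) : V ⧸ Z) = v
    rw [one_smul]
  mul_smul a b c := by
    obtain ⟨v, rfl⟩ := QuotientAddGroup.mk_surjective c
    show ((((a * b) • v : V)) : V ⧸ Z) = ((a • b • v : V) : V ⧸ Z)
    rw [mul_smul]

theorem s3_of [Finite G] [Finite V] (h2 : ∀ v : V, v + v = 0) {Z : AddSubgroup V} (hZ : ∀ g : G, g ∈ sb Z)
    {a b : G} (ha : a * a = 1) (hb : b * b = 1) {x y : V} (hx : x ∉ Z) (hy : y ∉ Z)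
    (hax : a • x - x ∈ Z) (hay : a • y - y - x ∈ Z) (hby : b • y - y ∈ Z) (hbx : b • x - x - y ∈ Z) :
    Involves (Equiv.Perm (Fin 3)) G := by
  classical
  letI := qact Z hZ
  have hsm : ∀ (g : G) (v : V), g • (v : V ⧸ Z) = ((g • v : V) : V ⧸ Z) := fun _ _ => rfl
  have hmk : ∀ {u v : V}, ((u : V ⧸ Z) = v) ↔ u - v ∈ Z := by
    intro u v
    rw [QuotientAddGroup.eq_iff_sub_mem]
  have h2' : ∀ v : V, -v = v := fun v => neg_eq_of_add_eq_zero_left (h2 v)
  have hne : x - y ∉ Z := by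
    intro hh
    have h1 : a • (x - y) ∈ Z := smul_mem_of_sb (hZ a) hh
    have h3 : x = -((a • (x - y) - (x - y)) - (a • x - x) + (a • y - y - x)) := by
      rw [smul_sub]; abel
    apply hx
    rw [h3]
    exact neg_mem (add_mem (sub_mem (sub_mem h1 hh) hax) hay)
  have eax : a • (x : V ⧸ Z) = x := hmk.2 hax
  have ebx : b • (x : V ⧸ Z) = ((x + y : V) : V ⧸ Z) := hmk.2 (by
    show b • x - (x + y) ∈ Z
    have : b • x - (x + y) = b • x - x - y := by abel
    rw [this]; exact hbx)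
  have eay : a • (y : V ⧸ Z) = ((x + y : V) : V ⧸ Z) := hmk.2 (by
    show a • y - (x + y) ∈ Z
    have : a • y - (x + y) = a • y - y - x := by abel
    rw [this]; exact hay)
  have eby : b • (y : V ⧸ Z) = y := hmk.2 hby
  have eaa : ∀ c : V ⧸ Z, a • a • c = c := fun c => by rw [← mul_smul, ha, one_smul]
  have ebb : ∀ c : V ⧸ Z, b • b • c = c := fun c => by rw [← mul_smul, hb, one_smul]
  have eaxy : a • ((x + y : V) : V ⧸ Z) = y := by rw [← eay, eaa]
  have ebxy : b • ((x + y : V) : V ⧸ Z) = x := by rw [← ebx, ebb]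
  let p : V ⧸ Z → Prop := fun c => c = x ∨ c = y ∨ c = ((x + y : V) : V ⧸ Z)
  have d1 : ((x : V) : V ⧸ Z) ≠ y := fun e => hne (hmk.1 e)
  have d2 : ((x : V) : V ⧸ Z) ≠ ((x + y : V) : V ⧸ Z) := fun e => hy (by
    have := hmk.1 e
    have h3 : x - (x + y) = -y := by abel
    rw [h3, neg_mem_iff] at this
    exact this)
  have d3 : ((y : V) : V ⧸ Z) ≠ ((x + y : V) : V ⧸ Z) := fun e => hx (by
    have := hmk.1 e
    have h3 : y - (x + y) = -x := by abel
    rw [h3, neg_mem_iff] at this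
    exact this)
  have hcard : Nat.card {c // p c} = 3 := card_three d1 d2 d3
  have hfin : Finite {c // p c} := inferInstance
  have e0 : {c // p c} ≃ Fin 3 := Finite.equivFinOfCardEq hcard
  let K : Subgroup G :=
    { carrier := {g | ∀ c, p (g • c) ↔ p c}
      one_mem' := fun c => by rw [one_smul]
      mul_mem' := fun {g k} hg hk c => by rw [mul_smul, hg, hk]
      inv_mem' := fun {g} hg c => by rw [← hg, smul_inv_smul] }
  have haK : a ∈ K := by
    have h1 : ∀ c, p c → p (a • c) := by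
      rintro c (rfl | rfl | rfl)
      · rw [eax]; exact Or.inl rfl
      · rw [eay]; exact Or.inr (Or.inr rfl)
      · rw [eaxy]; exact Or.inr (Or.inl rfl)
    intro c
    exact ⟨fun hc => by have := h1 _ hc; rwa [eaa] at this, h1 c⟩
  have hbK : b ∈ K := by
    have h1 : ∀ c, p c → p (b • c) := by
      rintro c (rfl | rfl | rfl)
      · rw [ebx]; exact Or.inr (Or.inr rfl)
      · rw [eby]; exact Or.inr (Or.inl rfl)
      · rw [ebxy]; exact Or.inl rfl
    intro c
    exact ⟨fun hc => by have := h1 _ hc; rwa [ebb] at this, h1 c⟩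
  let f0 : K →* Equiv.Perm {c // p c} :=
    { toFun := fun g => (MulAction.toPerm (g : G)).subtypePerm (fun c => g.2 c)
      map_one' := by ext c; show (((1 : K) : G) • (c : V ⧸ Z)) = c; exact one_smul _ _
      map_mul' := fun g k => by
        ext c; show (((g * k : K) : G) • (c : V ⧸ Z)) = (g : G) • ((k : G) • (c : V ⧸ Z))
        rw [← mul_smul]; rfl }
  let f : K →* Equiv.Perm (Fin 3) := (e0.permCongrHom).toMonoidHom.comp f0
  have hnc : f ⟨a, haK⟩ * f ⟨b, hbK⟩ ≠ f ⟨b, hbK⟩ * f ⟨a, haK⟩ := by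
    intro h
    have h1 : f0 (⟨a, haK⟩ * ⟨b, hbK⟩) = f0 (⟨b, hbK⟩ * ⟨a, haK⟩) := by
      apply e0.permCongrHom.injective
      rw [map_mul, map_mul, map_mul, map_mul]
      exact h
    have h3 := congrArg (fun g : Equiv.Perm {c // p c} => ((g ⟨x, Or.inl rfl⟩ : {c // p c}) : V ⧸ Z)) h1
    have h4 : (a * b) • ((x : V) : V ⧸ Z) = (b * a) • ((x : V) : V ⧸ Z) := h3
    rw [mul_smul, mul_smul, ebx, eax, eaxy, ebx] at h4
    exact d3 h4
  have hrange : f.range = ⊤ := Fus21.s3_top ⟨⟨a, haK⟩, rfl⟩ ⟨⟨b, hbK⟩, rfl⟩ hnc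
  have hsurj : Function.Surjective f := MonoidHom.range_eq_top.1 hrange
  have h5 : Involves (Equiv.Perm (Fin 3)) K :=
    Fus21.involves_of_surjective f hsurj (Fus21.involves_refl _)
  exact Fus21.involves_of_injective K.subtype K.subtype_injective h5

variable [Finite G] [Finite V] {S : Subgroup G} {X : AddSubgroup V} {μ : ℕ}

theorem Ctx.halves (h : Ctx S X μ) (hS3 : ¬ Involves (Equiv.Perm (Fin 3)) G) {A : Subgroup G}
    (hA : DD V μ A) (qA : Qd V A) (hAM : A ≤ sb X) {g : G} (hg : g ∉ (sb X : Subgroup G))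
    {W : AddSubgroup V} (hZW : fx V (⊤ : Subgroup G) < W) (hW : (⊤ : Subgroup G) ≤ sb W) :
    Nat.card W * Nat.card ↥(fx V (⊤ : Subgroup G)) = Nat.card ↥(W ⊓ fx V A) ^ 2 ∧
    Nat.card A * Nat.card ↥(fx V (⊤ : Subgroup G)) < Nat.card ↥(A ⊓ M0 X) * Nat.card ↥(W ⊓ fx V A) := by
  set Z := fx V (⊤ : Subgroup G) with hZ
  have hB1 : cj g A ≤ cj g (sb X : Subgroup G) := cj_mono hAM
  have hA1 : A ≤ cj 1 (sb X : Subgroup G) := by rw [cj_one]; exact hAM
  have hne : cj 1 (sb X : Subgroup G) ≠ cj g (sb X : Subgroup G) := fun e => hg (by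
    have := h.cj_eq e; simpa using this)
  have htop := h.pair_top hA (hA.cj g) hA1 hB1 hne
  have hfx := h.pair_fx hA (hA.cj g) qA (qA.cj g) hA1 hB1 hne
  have hZ2 : fx V A ⊓ fx V (cj g A) = Z := by rw [← fx_sup, htop]
  have htrW : ∀ k : G, tr k W = W := fun k => tr_of_mem_sb (hW (mem_top k))
  have hcB : Nat.card ↥(W ⊓ fx V (cj g A)) = Nat.card ↥(W ⊓ fx V A) := by
    rw [← card_tr g (W ⊓ fx V A), tr_inf, tr_fx, htrW]
  have hZA : Z ≤ W ⊓ fx V A := le_inf hZW.le (fx_anti le_top)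
  have hsm : ∀ k : G, ∀ w ∈ W, k • w - w ∈ W := fun k w hw =>
    sub_mem (smul_mem_of_sb (hW (mem_top k)) hw) hw
  obtain ⟨a, ha, haM⟩ : ∃ a ∈ A, a ∉ (M0 X : Subgroup G) := by
    by_contra hcon
    push Not at hcon
    exact h.not_le_M0 hA hcon
  have c1 : Nat.card W * Nat.card Z ≤ Nat.card ↥(W ⊓ fx V A) * Nat.card ↥(W ⊓ fx V A) := by
    refine count_add inf_le_left hZA (fun w => a • w - w) (fun w hw => ⟨hsm a w hw, fun b hb => qA b hb a ha w⟩) ?_
    intro w hw w' hw' hd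
    have : a • (-w + w') - (-w + w') ∈ Z := by
      have e : a • (-w + w') - (-w + w') = -((a • w - w) - (a • w' - w')) := by
        rw [smul_add, smul_neg]; abel
      rw [e]; exact neg_mem hd
    exact AddSubgroup.mem_inf.2 ⟨add_mem (neg_mem hw) hw', h.regular hA qA ha haM this⟩
  have c2 : Nat.card ↥(W ⊓ fx V A) * Nat.card ↥(W ⊓ fx V A) ≤ Nat.card W * Nat.card Z := by
    have h1 := card_sup_mul (W ⊓ fx V A) (W ⊓ fx V (cj g A))
    have h3 : (W ⊓ fx V A) ⊓ (W ⊓ fx V (cj g A)) = Z := by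
      rw [inf_inf_inf_comm, inf_idem, hZ2]; exact inf_eq_right.2 hZW.le
    rw [h3, hcB] at h1
    rw [← h1]
    exact Nat.mul_le_mul_right _ (AddSubgroup.card_le_of_le (sup_le inf_le_left inf_le_left))
  have c3 := le_antisymm c1 c2
  refine ⟨by rw [c3, sq], ?_⟩
  -- strictness
  have hltc : Nat.card Z < Nat.card W := by
    by_contra hc
    exact hZW.ne (AddSubgroup.eq_of_le_of_card_ge hZW.le (not_lt.1 hc))
  have hposZ : 0 < Nat.card Z := Nat.card_pos
  have hlt2 : Nat.card Z < Nat.card ↥(W ⊓ fx V A) := by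
    by_contra hc
    have : Nat.card ↥(W ⊓ fx V A) * Nat.card ↥(W ⊓ fx V A) ≤ Nat.card Z * Nat.card Z :=
      Nat.mul_le_mul (not_lt.1 hc) (not_lt.1 hc)
    have h4 : Nat.card Z * Nat.card Z < Nat.card W * Nat.card Z := Nat.mul_lt_mul_of_pos_right hltc hposZ
    omega
  have hexA : ∃ x ∈ W ⊓ fx V A, x ∉ Z := by
    by_contra hcon
    push Not at hcon
    exact absurd (AddSubgroup.card_le_of_le (show W ⊓ fx V A ≤ Z from hcon)) (not_le.2 hlt2)
  have hexB : ∃ y ∈ W ⊓ fx V (cj g A), y ∉ Z := by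
    by_contra hcon
    push Not at hcon
    have := AddSubgroup.card_le_of_le (show W ⊓ fx V (cj g A) ≤ Z from hcon)
    rw [hcB] at this
    exact absurd this (not_le.2 hlt2)
  obtain ⟨x, hx, hxZ⟩ := hexA
  obtain ⟨y, hy, hyZ⟩ := hexB
  by_contra hcon
  rw [not_lt] at hcon
  have key : ∀ (C : Subgroup G), DD V μ C → Qd V C → ∀ w ∈ W, w ∉ fx V C →
      Nat.card ↥(C ⊓ M0 X) * Nat.card ↥(W ⊓ fx V C) ≤ Nat.card C * Nat.card Z →
      ∀ d ∈ W ⊓ fx V C, ∃ c ∈ C, (c • w - w) - d ∈ Z := by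
    intro C hC qC w hw hwC hcard
    have hZC : Z ≤ W ⊓ fx V C := le_inf hZW.le (fx_anti le_top)
    refine (count (G := G) (A := C) (A0 := C ⊓ M0 X) inf_le_left hZC (fun c => c • w - w)
      (fun c hc => ⟨hsm c w hw, fun b hb => qC b hb c hc w⟩) ?_).2 hcard
    intro c hc c' hc' hd
    refine mem_inf.2 ⟨mul_mem (inv_mem hc) hc', ?_⟩
    by_contra hn
    apply hwC
    refine h.regular hC qC (mul_mem (inv_mem hc) hc') hn ?_
    have e1 : (c⁻¹ * c') • w - w = -(c⁻¹ • ((c • w - w) - (c' • w - w))) := by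
      rw [smul_sub, smul_sub, smul_sub, mul_smul, inv_smul_smul]; abel
    rw [e1]
    refine neg_mem ?_
    have : c⁻¹ • ((c • w - w) - (c' • w - w)) = (c • w - w) - (c' • w - w) := hd c⁻¹ (mem_top _)
    rw [this]; exact hd
  have hyA : y ∉ fx V A := fun hh => hyZ (by rw [← hZ2]; exact ⟨hh, hy.2⟩)
  have hxB : x ∉ fx V (cj g A) := fun hh => hxZ (by rw [← hZ2]; exact ⟨hx.2, hh⟩)
  obtain ⟨a₁, ha₁, h₁⟩ := key A hA qA y hy.1 hyA hcon x hx
  have hcon' : Nat.card ↥(cj g A ⊓ M0 X) * Nat.card ↥(W ⊓ fx V (cj g A)) ≤ Nat.card (cj g A) * Nat.card Z := by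
    rw [hcB, card_cj]
    have : cj g A ⊓ M0 X = cj g (A ⊓ M0 X) := by
      rw [cj_inf, mem_nrm.1 (nrm_M0 (mem_top g))]
    rw [this, card_cj]; exact hcon
  obtain ⟨b₁, hb₁, h₂⟩ := key (cj g A) (hA.cj g) (qA.cj g) x hx.1 hxB hcon' y hy
  have hZsb : ∀ k : G, k ∈ sb Z := by
    intro k
    rw [mem_sb_iff, hZ, tr_fx, cj_top]
  refine hS3 (s3_of h.h2 hZsb (hA.1 a₁ ha₁) ((hA.cj g).1 b₁ hb₁) hxZ hyZ ?_ h₁ ?_ h₂)
  · rw [hx.2 a₁ ha₁, sub_self]; exact zero_mem _
  · rw [hy.2 b₁ hb₁, sub_self]; exact zero_mem _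

end CfsgLib.NO9
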