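import Cfsg.Agent.LibNO9D

/-! No offenders: the normal subgroup `N`. -/

set_option autoImplicit false

namespace CfsgLib.NO9

open Cfsg Subgroup CfsgLib.FusionH12

universe u v

variable {G : Type u} {V : Type v} [Group G] [AddCommGroup V] [DistribMulAction G V]

/-- elements with `[V,g] ≤ C_V(G)` -/
def cz (G : Type u) (V : Type v) [Group G] [AddCommGroup V] [DistribMulAction G V] : Subgroup G where
  carrier := {g | ∀ v : V, g • v - v ∈ fx V (⊤ : Subgroup G)}
  one_mem' := fun v => by rw [one_smul, sub_self]; exact zero_mem _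
  mul_mem' := fun {a b} ha hb v => by
    have e : (a * b) • v - v = a • (b • v - v) + (a • v - v) := by
      rw [mul_smul, smul_sub]; abel
    rw [e, hb v a (mem_top _)]
    exact add_mem (hb v) (ha v)
  inv_mem' := fun {a} ha v => by
    have h1 := ha (a⁻¹ • v)
    rw [smul_inv_smul] at h1
    have e : a⁻¹ • v - v = -(v - a⁻¹ • v) := by abel
    rw [e]; exact neg_mem h1

theorem mem_cz {g : G} : g ∈ cz G V ↔ ∀ v : V, g • v - v ∈ fx V (⊤ : Subgroup G) := Iff.rfl

theorem smul_fx_top {z : V} (hz : z ∈ fx V (⊤ : Subgroup G)) (g : G) : g • z = z := hz g (mem_top _)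

theorem nrm_cz : (⊤ : Subgroup G) ≤ normalizer ((cz G V : Subgroup G) : Set G) := by
  intro k _
  rw [mem_nrm]
  have key : ∀ k : G, cz G V ≤ cj k (cz G V) := by
    intro k g hg
    rw [mem_cj, mem_cz]
    intro v
    have h1 := hg (k • v)
    have e : (k⁻¹ * g * k) • v - v = k⁻¹ • (g • k • v - k • v) := by
      rw [smul_sub, mul_smul, mul_smul, inv_smul_smul]
    rw [e, smul_fx_top h1]; exact h1
  apply le_antisymm
  · rw [cj_le_iff]; exact key k⁻¹
  · exact key k

/-- the normal subgroup -/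
def NN (S : Subgroup G) (X : AddSubgroup V) : Subgroup G := (S ⊓ M0 X) ⊓ cz G V

variable [Finite G] [Finite V] {S : Subgroup G} {X : AddSubgroup V} {μ : ℕ}

theorem Ctx.nrm_NN (h : Ctx S X μ) : (⊤ : Subgroup G) ≤ normalizer ((NN S X : Subgroup G) : Set G) := by
  intro k hk
  rw [mem_nrm]
  unfold NN
  rw [FusionH12.cj_inf, mem_nrm.1 (h.R_normal hk), mem_nrm.1 (nrm_cz hk)]

theorem Ctx.El_NN (h : Ctx S X μ) : El (NN S X : Subgroup G) := by
  intro g hg
  apply h.faith
  intro v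
  have h1 := hg.2 v
  rw [mul_smul]
  have h3 := h.h2 (g • v - v)
  calc g • g • v = g • ((g • v - v) + v) := by rw [sub_add_cancel]
    _ = (g • v - v) + g • v := by rw [smul_add, smul_fx_top h1]
    _ = (g • v - v + (g • v - v)) + v := by abel
    _ = v := by rw [h3, zero_add]

/-- Step 5 -/
theorem Ctx.step5 (h : Ctx S X μ) (hS3 : ¬ Involves (Equiv.Perm (Fin 3)) G) {A : Subgroup G}
    (hA : DD V μ A) (qA : Qd V A) (hAM : A ≤ sb X) {g : G} (hg : g ∉ (sb X : Subgroup G))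
    (hZt : fx V (⊤ : Subgroup G) < ⊤) :
    A ⊓ M0 X ≤ NN S X ∧ Nat.card ↥(A ⊓ M0 X) * Nat.card ↥(A ⊓ M0 X) ≤ Nat.card ↥(NN S X : Subgroup G) := by
  set Z := fx V (⊤ : Subgroup G) with hZ
  have hA1 : A ≤ cj 1 (sb X : Subgroup G) := by rw [cj_one]; exact hAM
  have hneq : ∀ k : G, k ∉ (sb X : Subgroup G) → cj 1 (sb X : Subgroup G) ≠ cj k (sb X : Subgroup G) :=
    fun k hk e => hk (by have := h.cj_eq e; simpa using this)
  have hinf : ∀ k : G, k ∉ (sb X : Subgroup G) → fx V A ⊓ fx V (cj k A) = Z := by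
    intro k hk
    rw [← fx_sup, h.pair_top hA (hA.cj k) hA1 (cj_mono hAM) (hneq k hk)]
  have hXA : X ≤ fx V A := by
    have := h.le_ct hA hA1
    rw [tr_one] at this
    exact le_ct_iff.1 this
  obtain ⟨a, ha, haM⟩ : ∃ a ∈ A, a ∉ (M0 X : Subgroup G) := by
    by_contra hcon
    push Not at hcon
    exact h.not_le_M0 hA hcon
  -- the subgroup `V'`
  let V' : AddSubgroup V := AddSubgroup.closure {y | ∃ k : G, k ∉ (sb X : Subgroup G) ∧ ∃ x ∈ X, y = k • x}
  have hV'X : V' ⊔ X = ⊤ := by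
    rw [eq_top_iff, ← h.gen]
    apply oc_le
    intro k _ v hv
    rw [mem_tr] at hv
    by_cases hk : k ∈ (sb X : Subgroup G)
    · exact AddSubgroup.mem_sup_right (by
        have := smul_mem_of_sb hk hv
        rwa [smul_inv_smul] at this)
    · exact AddSubgroup.mem_sup_left (AddSubgroup.subset_closure ⟨k, hk, _, hv, by rw [smul_inv_smul]⟩)
  have hV'A : ∀ m ∈ (sb X : Subgroup G), ∀ v ∈ V', m • v ∈ V' := by
    intro m hm v hv
    induction hv using AddSubgroup.closure_induction with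
    | mem y hy =>
      obtain ⟨k, hk, x, hx, rfl⟩ := hy
      refine AddSubgroup.subset_closure ⟨m * k, fun hmk => hk ?_, x, hx, by rw [mul_smul]⟩
      have := mul_mem (inv_mem hm) hmk
      simpa using this
    | zero => rw [smul_zero]; exact zero_mem _
    | add a b _ _ ha hb => rw [smul_add]; exact add_mem ha hb
    | neg a _ ha => rw [smul_neg]; exact neg_mem ha
  have hcom : ∀ v : V, a • v - v ∈ V' := by
    intro v
    have hv : v ∈ V' ⊔ X := by rw [hV'X]; exact AddSubgroup.mem_top v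
    obtain ⟨c, hc, x, hx, rfl⟩ := AddSubgroup.mem_sup.1 hv
    have e : a • (c + x) - (c + x) = a • c - c := by
      rw [smul_add, hXA hx a ha]; abel
    rw [e]
    exact sub_mem (hV'A a (hAM ha) c hc) hc
  have hh := h.halves hS3 hA qA hAM hg hZt (fun k _ => by
    rw [mem_sb]; intro v; exact ⟨fun _ => AddSubgroup.mem_top _, fun _ => AddSubgroup.mem_top _⟩)
  rw [top_inf_eq] at hh
  have hZA : Z ≤ fx V A := fx_anti le_top
  have hfxA : fx V A ≤ V' ⊔ Z := by
    have c1 : Nat.card ↥(⊤ : AddSubgroup V) * Nat.card Z ≤ Nat.card ↥(fx V A) * Nat.card ↥((V' ⊔ Z) ⊓ fx V A) := by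
      refine count_add le_top (le_inf le_sup_right hZA) (fun w => a • w - w)
        (fun w hw => AddSubgroup.mem_inf.2 ⟨AddSubgroup.mem_sup_left (hcom w), fun b hb => qA b hb a ha w⟩) ?_
      intro w _ w' _ hd
      have : a • (-w + w') - (-w + w') ∈ Z := by
        have e : a • (-w + w') - (-w + w') = -((a • w - w) - (a • w' - w')) := by
          rw [smul_add, smul_neg]; abel
        rw [e]; exact neg_mem hd
      exact h.regular hA qA ha haM this
    rw [hh.1, sq] at c1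
    have c2 : Nat.card ↥(fx V A) ≤ Nat.card ↥((V' ⊔ Z) ⊓ fx V A) :=
      Nat.le_of_mul_le_mul_left c1 Nat.card_pos
    have c3 := AddSubgroup.eq_of_le_of_card_ge (inf_le_right : (V' ⊔ Z) ⊓ fx V A ≤ fx V A) c2
    rw [← c3]; exact inf_le_left
  have hVtop : V' ⊔ Z = ⊤ := by
    rw [eq_top_iff, ← hV'X]
    exact sup_le le_sup_left (hXA.trans hfxA)
  -- `A₀` centralizes `V/Z`
  have hA0 : A ⊓ M0 X ≤ cz G V := by
    intro c hc
    rw [mem_cz]
    intro v
    have hv : v ∈ V' ⊔ Z := by rw [hVtop]; exact AddSubgroup.mem_top v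
    obtain ⟨w, hw, z, hz, rfl⟩ := AddSubgroup.mem_sup.1 hv
    have e : c • (w + z) - (w + z) = c • w - w := by
      rw [smul_add, smul_fx_top hz c]; abel
    rw [e]
    clear e hv
    induction hw using AddSubgroup.closure_induction with
    | mem y hy =>
      obtain ⟨k, hk, x, hx, rfl⟩ := hy
      rw [← hZ, ← hinf k hk]
      refine AddSubgroup.mem_inf.2 ⟨fun b hb => qA b hb c hc.1 _, ?_⟩
      have h1 : c ∈ sb (tr k X) := by
        rw [← cj_sb]; exact mem_M0.1 hc.2 k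
      have h3 : tr k X ≤ fx V (cj k A) := le_ct_iff.1 (h.le_ct (hA.cj k) (cj_mono hAM))
      exact h3 (sub_mem (smul_mem_of_sb h1 (smul_mem_tr hx)) (smul_mem_tr hx))
    | zero => rw [smul_zero, sub_zero]; exact zero_mem _
    | add a b _ _ ha hb =>
      have e : c • (a + b) - (a + b) = (c • a - a) + (c • b - b) := by rw [smul_add]; abel
      rw [e]; exact add_mem ha hb
    | neg a _ ha =>
      have e : c • (-a) - (-a) = -(c • a - a) := by rw [smul_neg]; abel
      rw [e]; exact neg_mem ha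
  have hle : A ⊓ M0 X ≤ NN S X :=
    le_inf (h.le_R (hA.1.anti inf_le_left).isPGroup inf_le_right) hA0
  refine ⟨hle, ?_⟩
  have hle2 : cj g (A ⊓ M0 X) ≤ NN S X := by
    rw [cj_le_iff, mem_nrm.1 (h.nrm_NN (mem_top g⁻¹))]; exact hle
  have hbot : (A ⊓ M0 X) ⊓ cj g (A ⊓ M0 X) = ⊥ := by
    rw [eq_bot_iff]
    intro x hx
    rw [mem_bot]
    apply h.faith
    intro v
    have hfx := h.pair_fx hA (hA.cj g) qA (qA.cj g) hA1 (cj_mono hAM) (hneq g hg)
    have hv : v ∈ fx V A ⊔ fx V (cj g A) := by rw [hfx]; exact AddSubgroup.mem_top v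
    obtain ⟨c, hc, w, hw, rfl⟩ := AddSubgroup.mem_sup.1 hv
    rw [smul_add, hc x hx.1.1, hw x (cj_mono inf_le_left hx.2)]
  have hc := card_sup_mul_of_comm (A := A ⊓ M0 X) (B := cj g (A ⊓ M0 X))
    (fun x hx y hy => h.El_NN.comm (hle hx) (hle2 hy))
  rw [hbot, Subgroup.card_bot, mul_one, card_cj] at hc
  rw [← hc]
  exact Subgroup.card_le_of_le (sup_le hle hle2)

/-- Step 6 -/
theorem Ctx.step6 (h : Ctx S X μ) {E : Subgroup G} (hE : E ≤ NN S X) (hE1 : E ≠ ⊥) :
    Nat.card E * Nat.card ↥(fx V E) < Nat.card V := by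
  -- the set of maximizers
  obtain ⟨E₀, hE₀, hmax⟩ := (Set.toFinite {E : Subgroup G | E ≤ NN S X}).exists_maximalFor
    (fun E : Subgroup G => Nat.card E * Nat.card ↥(fx V E)) _ ⟨⊥, (bot_le : ⊥ ≤ NN S X)⟩
  set m := Nat.card E₀ * Nat.card ↥(fx V E₀) with hm
  have hle : ∀ F : Subgroup G, F ≤ NN S X → Nat.card F * Nat.card ↥(fx V F) ≤ m := by
    intro F hF
    by_contra hc
    have := hmax hF (not_le.1 hc).le
    exact hc this
  obtain ⟨E₁, hE₁, hmax₁⟩ := (Set.toFinite {E : Subgroup G | E ≤ NN S X ∧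
    Nat.card E * Nat.card ↥(fx V E) = m}).exists_maximalFor
    (fun E : Subgroup G => Nat.card E) _ ⟨E₀, hE₀, rfl⟩
  have hall : ∀ F : Subgroup G, F ≤ NN S X → Nat.card F * Nat.card ↥(fx V F) = m → F ≤ E₁ := by
    intro F hF hFm
    have hc := card_sup_mul_of_comm (A := F) (B := E₁)
      (fun x hx y hy => h.El_NN.comm (hF hx) (hE₁.1 hy))
    have hv := card_sup_mul (fx V F) (fx V E₁)
    rw [← fx_sup] at hv
    have hle1 : fx V F ⊔ fx V E₁ ≤ fx V (F ⊓ E₁) := sup_le (fx_anti inf_le_left) (fx_anti inf_le_right)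
    have hle2 := AddSubgroup.card_le_of_le hle1
    have hi := hle (F ⊓ E₁) (inf_le_left.trans hF)
    have hmpos : 0 < m := by rw [hm]; exact Nat.mul_pos Nat.card_pos Nat.card_pos
    have hs : m ≤ Nat.card ↥(F ⊔ E₁) * Nat.card ↥(fx V (F ⊔ E₁)) := by
      refine Nat.le_of_mul_le_mul_right ?_ hmpos
      calc m * m = (Nat.card F * Nat.card ↥(fx V F)) * (Nat.card E₁ * Nat.card ↥(fx V E₁)) := by
            rw [hFm, hE₁.2]
        _ = (Nat.card F * Nat.card E₁) * (Nat.card ↥(fx V F) * Nat.card ↥(fx V E₁)) := by ring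
        _ = (Nat.card ↥(F ⊔ E₁) * Nat.card ↥(F ⊓ E₁)) *
            (Nat.card ↥(fx V F ⊔ fx V E₁) * Nat.card ↥(fx V (F ⊔ E₁))) := by rw [hc, hv]
        _ ≤ (Nat.card ↥(F ⊔ E₁) * Nat.card ↥(F ⊓ E₁)) *
            (Nat.card ↥(fx V (F ⊓ E₁)) * Nat.card ↥(fx V (F ⊔ E₁))) := by gcongr
        _ = (Nat.card ↥(F ⊔ E₁) * Nat.card ↥(fx V (F ⊔ E₁))) *
            (Nat.card ↥(F ⊓ E₁) * Nat.card ↥(fx V (F ⊓ E₁))) := by ring
        _ ≤ _ := by gcongr
    have hs' := le_antisymm (hle (F ⊔ E₁) (sup_le hF hE₁.1)) hs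
    have h5 : Nat.card ↥(F ⊔ E₁) ≤ Nat.card E₁ :=
      hmax₁ ⟨sup_le hF hE₁.1, hs'⟩ (Subgroup.card_le_of_le le_sup_right)
    have h6 := Subgroup.eq_of_le_of_card_ge (le_sup_right : E₁ ≤ F ⊔ E₁) h5
    rw [h6]; exact le_sup_left
  have hnorm : (⊤ : Subgroup G) ≤ normalizer (E₁ : Set G) := by
    intro k hk
    rw [mem_nrm]
    have h1 : cj k E₁ ≤ E₁ := by
      apply hall
      · rw [cj_le_iff, mem_nrm.1 (h.nrm_NN (mem_top k⁻¹))]; exact hE₁.1
      · rw [card_cj, ← tr_fx, card_tr]; exact hE₁.2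
    exact Subgroup.eq_of_le_of_card_ge h1 (by rw [card_cj])
  have hE₁S : E₁ ≤ S := hE₁.1.trans (inf_le_left.trans inf_le_left)
  have hbot : E₁ = ⊥ := by
    apply h.normal_trivial hnorm
    by_contra hcon
    have h1 : ∃ e ∈ E₁, ∃ w ∈ X, e • w ≠ w := by
      by_contra hc
      push Not at hc
      exact hcon hc
    have h3 := h.no E₁ hE₁S (fun e he w _ => by rw [← mul_smul, h.El_NN e (hE₁.1 he), one_smul]) h1
    have h4 := off (A := E₁) (W := X) hE₁.2 (hle _ (inf_le_left.trans hE₁.1))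
    omega
  have hVm : Nat.card V = m := by
    have := hE₁.2
    rw [hbot, fx_bot, Subgroup.card_bot, one_mul] at this
    rw [← this]
    exact (Nat.card_congr (AddSubgroup.topEquiv (G := V)).toEquiv).symm
  rw [hVm]
  refine lt_of_le_of_ne (hle E hE) fun e => hE1 ?_
  rw [eq_bot_iff, ← hbot]
  exact hall E hE e

end CfsgLib.NO9
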