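import Mathlib

/-! Linear algebra for the "no offenders" theorem: splitting by an irreducible polynomial. -/

set_option autoImplicit false

namespace CfsgLib.NO9

open Polynomial
open scoped Pointwise

universe u v w

instance fact2 : Fact (Nat.Prime 2) := ⟨Nat.prime_two⟩

/-- modules over `F₂[X]` killed by a power of an irreducible polynomial -/
theorem card_torsion {p : (ZMod 2)[X]} (hp : Irreducible p) (n : ℕ) :
    ∀ (W : Type v) [AddCommGroup W] [Module (ZMod 2)[X] W] [Finite W], Nat.card W ≤ n →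
      (∃ k : ℕ, ∀ w : W, p ^ k • w = 0) → ∃ j, Nat.card W = (2 ^ p.natDegree) ^ j := by
  induction n with
  | zero =>
    intro W _ _ _ h
    have : 0 < Nat.card W := Nat.card_pos
    omega
  | succ n ih =>
    intro W _ _ _ hn hk
    obtain ⟨k, hk⟩ := hk
    by_cases hW : Subsingleton W
    · refine ⟨0, ?_⟩
      rw [pow_zero]
      exact Nat.card_eq_one_iff_unique.2 ⟨hW, ⟨0⟩⟩
    · set I : Ideal (ZMod 2)[X] := Ideal.span {p} with hI
      haveI : I.IsMaximal := PrincipalIdealRing.isMaximal_of_irreducible hp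
      letI : Field ((ZMod 2)[X] ⧸ I) := Ideal.Quotient.field I
      let W' : Submodule (ZMod 2)[X] W := I • ⊤
      have hmem : ∀ x ∈ W', ∃ y, x = p • y := by
        intro x hx
        have : W' = p • (⊤ : Submodule (ZMod 2)[X] W) := Submodule.ideal_span_singleton_smul p ⊤
        rw [this] at hx
        obtain ⟨y, -, hy⟩ := (Submodule.mem_smul_pointwise_iff_exists x p ⊤).1 hx
        exact ⟨y, hy.symm⟩
      have hne : W' ≠ ⊤ := by
        intro htop
        have hsurj : Function.Surjective (fun y : W => p • y) := by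
          intro x
          obtain ⟨y, hy⟩ := hmem x (by rw [htop]; trivial)
          exact ⟨y, hy.symm⟩
        have hinj : Function.Injective (fun y : W => p • y) := Finite.injective_iff_surjective.2 hsurj
        have hinjk : ∀ m : ℕ, Function.Injective (fun y : W => p ^ m • y) := by
          intro m
          induction m with
          | zero => intro a b h; simpa using h
          | succ m ihm =>
            intro a b h
            apply hinj
            apply ihm
            show p ^ m • p • a = p ^ m • p • b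
            rw [← mul_smul, ← mul_smul, ← pow_succ]
            exact h
        apply hW
        constructor
        intro a b
        apply hinjk k
        show p ^ k • a = p ^ k • b
        rw [hk, hk]
      have hlt : Nat.card W' < Nat.card W := by
        by_contra hc
        apply hne
        have h1 : Nat.card W' = Nat.card W :=
          le_antisymm (Nat.card_le_card_of_injective _ W'.injective_subtype) (not_lt.1 hc)
        rw [eq_top_iff]
        intro x _
        have hbij : Function.Bijective (W'.subtype) := by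
          haveI := Fintype.ofFinite W
          haveI := Fintype.ofFinite W'
          rw [Fintype.bijective_iff_injective_and_card]
          exact ⟨W'.injective_subtype, by rw [← Nat.card_eq_fintype_card, ← Nat.card_eq_fintype_card, h1]⟩
        obtain ⟨y, hy⟩ := hbij.2 x
        rw [← hy]; exact y.2
      obtain ⟨j, hj⟩ := ih W' (by omega) ⟨k, fun w => by
        apply Subtype.ext
        show p ^ k • (w : W) = 0
        exact hk _⟩
      have hq : Nat.card (W ⧸ W') = Nat.card ((ZMod 2)[X] ⧸ I) ^ Module.finrank ((ZMod 2)[X] ⧸ I) (W ⧸ W') := by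
        haveI : Finite (W ⧸ W') := Quotient.finite _
        haveI : Finite ((ZMod 2)[X] ⧸ I) := by
          have : Module.Finite (ZMod 2) (AdjoinRoot p) := (AdjoinRoot.powerBasis hp.ne_zero).finite
          exact Module.finite_of_finite (ZMod 2) (M := AdjoinRoot p)
        exact Module.natCard_eq_pow_finrank
      have hK : Nat.card ((ZMod 2)[X] ⧸ I) = 2 ^ p.natDegree := by
        have : Module.Finite (ZMod 2) (AdjoinRoot p) := (AdjoinRoot.powerBasis hp.ne_zero).finite
        have h1 : Nat.card (AdjoinRoot p) = Nat.card (ZMod 2) ^ Module.finrank (ZMod 2) (AdjoinRoot p) :=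
          Module.natCard_eq_pow_finrank
        rw [(AdjoinRoot.powerBasis hp.ne_zero).finrank, AdjoinRoot.powerBasis_dim, Nat.card_zmod] at h1
        exact h1
      refine ⟨j + Module.finrank ((ZMod 2)[X] ⧸ I) (W ⧸ W'), ?_⟩
      rw [Submodule.card_eq_card_quotient_mul_card W', hj, hq, hK]
      ring

theorem exists_irr_end (D : Type u) (T : Type v) [Field D] [Finite D] [CharP D 2] [AddCommGroup T]
    [Module D T] [Finite T] [Nontrivial T] [Module (ZMod 2) T] :
    ∃ (f : T →ₗ[D] T) (f' : Module.End (ZMod 2) T) (p : (ZMod 2)[X]), (∀ x, f x = f' x) ∧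
      Irreducible p ∧ aeval f' p = 0 ∧ Nat.card T = 2 ^ p.natDegree := by
  have hn : Module.finrank D T ≠ 0 := (Module.finrank_pos (R := D) (M := T)).ne'
  haveI : NeZero (Module.finrank D T) := ⟨hn⟩
  let L := FiniteField.Extension D 2 (Module.finrank D T)
  have e : T ≃ₗ[D] L := LinearEquiv.ofFinrankEq T L (FiniteField.finrank_extension D 2 _).symm
  obtain ⟨α, hα⟩ := Field.exists_primitive_element (ZMod 2) L
  have hint : IsIntegral (ZMod 2) α := IsIntegral.of_finite (ZMod 2) α
  let E' : L ≃ₗ[ZMod 2] T :=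
    { e.symm.toAddEquiv with map_smul' := ZMod.map_smul e.symm.toAddEquiv }
  let Ψ : L →ₐ[ZMod 2] Module.End (ZMod 2) T := (E'.conjAlgEquiv (ZMod 2)).toAlgHom.comp (Algebra.lmul (ZMod 2) L)
  refine ⟨e.symm.toLinearMap ∘ₗ LinearMap.mulLeft D α ∘ₗ e.toLinearMap, Ψ α, minpoly (ZMod 2) α, fun x => rfl,
    minpoly.irreducible hint, ?_, ?_⟩
  · rw [Polynomial.aeval_algHom_apply, minpoly.aeval, map_zero]
  · have h1 : Nat.card L = 2 ^ Module.finrank (ZMod 2) L := by
      have := Module.natCard_eq_pow_finrank (K := ZMod 2) (V := L)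
      rwa [Nat.card_zmod] at this
    have h2 : Module.finrank (ZMod 2) L = (minpoly (ZMod 2) α).natDegree := by
      rw [← IntermediateField.adjoin.finrank hint, hα, IntermediateField.finrank_top']
    rw [Nat.card_congr e.toEquiv, h1, h2]

theorem density (R : Type u) (T : Type v) [Ring R] [Algebra (ZMod 2) R] [AddCommGroup T]
    [Module (ZMod 2) T] [Module R T] [IsScalarTower (ZMod 2) R T] [Finite T] [IsSimpleModule R T] :
    ∃ (r : R) (p : (ZMod 2)[X]), Irreducible p ∧ (∀ x : T, aeval r p • x = 0) ∧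
      Nat.card T = 2 ^ p.natDegree := by
  classical
  haveI : Nontrivial T := IsSimpleModule.nontrivial R T
  haveI : Finite (Module.End R T) := Finite.of_injective (fun f : Module.End R T => (f : T → T)) DFunLike.coe_injective
  letI : DivisionRing (Module.End R T) := Module.End.instDivisionRing
  haveI : CharP (Module.End R T) 2 := by
    apply CharTwo.of_one_ne_zero_of_two_eq_zero one_ne_zero
    ext x
    show (2 : Module.End R T) x = 0
    rw [← one_add_one_eq_two]
    show x + x = 0
    have h1 : (2 : ZMod 2) • x = x + x := two_smul (ZMod 2) x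
    rw [← h1]
    have : (2 : ZMod 2) = 0 := rfl
    rw [this, zero_smul]
  obtain ⟨f, f', p, hff, hp, hfp, hcard⟩ := exists_irr_end (Module.End R T) T
  haveI := Fintype.ofFinite T
  obtain ⟨r, hr⟩ := jacobson_density (R := R) (M := T) f Finset.univ
  refine ⟨r, p, hp, ?_, hcard⟩
  intro x
  have h1 : Algebra.lsmul (ZMod 2) (ZMod 2) T r = f' := by
    ext y
    rw [← hff, hr y (Finset.mem_univ _)]; rfl
  have h2 : Algebra.lsmul (ZMod 2) (ZMod 2) T (aeval r p) = 0 := by
    rw [← Polynomial.aeval_algHom_apply, h1, hfp]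
  have h3 := congrArg (fun g : Module.End (ZMod 2) T => g x) h2
  exact h3

end CfsgLib.NO9

namespace CfsgLib.NO9

open Polynomial

universe u v w

/-- a power which is idempotent -/
theorem exists_idem {M : Type*} [Monoid M] [Finite M] (f : M) : ∃ k : ℕ, f ^ k * f ^ k = f ^ k ∧ 0 < k := by
  obtain ⟨i, j, hij, h⟩ := Finite.exists_ne_map_eq_of_infinite (fun n : ℕ => f ^ n)
  wlog hlt : i < j generalizing i j
  · exact this j i (Ne.symm hij) h.symm (by omega)
  obtain ⟨d, hd, rfl⟩ : ∃ d, 0 < d ∧ j = i + d := ⟨j - i, by omega, by omega⟩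
  have h1 : ∀ n, i ≤ n → f ^ (n + d) = f ^ n := by
    intro n hn
    obtain ⟨m, rfl⟩ := Nat.exists_eq_add_of_le hn
    have : i + m + d = (i + d) + m := by ring
    have h' : f ^ i = f ^ (i + d) := h
    rw [this, pow_add, pow_add f i m, ← h']
  have h2 : ∀ m n, i ≤ n → f ^ (n + m * d) = f ^ n := by
    intro m
    induction m with
    | zero => intro n _; simp
    | succ m ihm =>
      intro n hn
      have : n + (m + 1) * d = (n + m * d) + d := by ring
      rw [this, h1 _ (by omega), ihm n hn]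
  refine ⟨(i + 1) * d, ?_, Nat.mul_pos (by omega) hd⟩
  rw [← pow_add]
  refine h2 _ _ ?_
  nlinarith

theorem card_torsion' {p : (ZMod 2)[X]} (hp : Irreducible p) {W : Type v} [AddCommGroup W] [Module (ZMod 2) W]
    [Finite W] (t : Module.End (ZMod 2) W) (N : Submodule (ZMod 2) W) (ht : ∀ x ∈ N, t x ∈ N) (k : ℕ)
    (hk : ∀ x ∈ N, (aeval t (p ^ k)) x = 0) : ∃ j, Nat.card N = (2 ^ p.natDegree) ^ j := by
  letI : Module (ZMod 2)[X] W := Module.compHom W ((aeval t : (ZMod 2)[X] →ₐ[ZMod 2] Module.End (ZMod 2) W).toRingHom)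
  have hsm : ∀ (q : (ZMod 2)[X]) (x : W), q • x = (aeval t q) x := fun _ _ => rfl
  have hinv : ∀ (q : (ZMod 2)[X]) (x : W), x ∈ N → (aeval t q) x ∈ N := by
    intro q
    induction q using Polynomial.induction_on' with
    | add a b ha hb => intro x hx; rw [map_add]; exact N.add_mem (ha x hx) (hb x hx)
    | monomial n a =>
      intro x hx
      rw [aeval_monomial]
      have : ∀ n : ℕ, ∀ x ∈ N, (t ^ n) x ∈ N := by
        intro n
        induction n with
        | zero => intro x hx; exact hx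
        | succ n ih => intro x hx; rw [pow_succ]; exact ih _ (ht _ hx)
      have h1 := this n x hx
      show (algebraMap (ZMod 2) (Module.End (ZMod 2) W) a) ((t ^ n) x) ∈ N
      rw [Module.algebraMap_end_apply]
      exact N.smul_mem a h1
  let N' : Submodule (ZMod 2)[X] W :=
    { carrier := N
      add_mem' := fun ha hb => N.add_mem ha hb
      zero_mem' := N.zero_mem
      smul_mem' := fun q x hx => hinv q x hx }
  exact card_torsion hp _ N' le_rfl ⟨k, fun w => Subtype.ext (hk _ w.2)⟩

theorem card_ker_range {W U : Type*} [AddCommGroup W] [AddCommGroup U] [Module (ZMod 2) W] [Module (ZMod 2) U]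
    (f : W →ₗ[ZMod 2] U) : Nat.card W = Nat.card (LinearMap.ker f) * Nat.card (LinearMap.range f) := by
  rw [Submodule.card_eq_card_quotient_mul_card (LinearMap.ker f), Nat.card_congr f.quotKerEquivRange.toEquiv]

/-- the linear algebra lemma -/
theorem la {M : Type u} {U : Type w} [AddCommGroup M] [AddCommGroup U] [Module (ZMod 2) M] [Module (ZMod 2) U]
    [Finite M] [Finite U] [Nontrivial M] (R : Subalgebra (ZMod 2) (Module.End (ZMod 2) M))
    (H : Submodule (ZMod 2) (M →ₗ[ZMod 2] U)) (hH : ∀ r ∈ R, ∀ φ ∈ H, φ ∘ₗ r ∈ H)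
    (hb : ∀ (W : Submodule (ZMod 2) M) (K : Submodule (ZMod 2) (M →ₗ[ZMod 2] U)), K ≤ H →
      (∀ φ ∈ K, ∀ w ∈ W, φ w = 0) → K ≠ ⊥ → Nat.card K * Nat.card W < Nat.card M) :
    ∃ T : Submodule (ZMod 2) M, T ≠ ⊥ ∧ (∀ r ∈ R, ∀ x ∈ T, r x ∈ T) ∧ Nat.card H * Nat.card T ≤ Nat.card M := by
  haveI : Finite (M →ₗ[ZMod 2] U) := Finite.of_injective (fun f => (f : M → U)) DFunLike.coe_injective
  haveI : Finite (Module.End (ZMod 2) M) := Finite.of_injective (fun f => (f : M → M)) DFunLike.coe_injective
  obtain ⟨T₀, hT₀, -⟩ := (eq_bot_or_exists_atom_le (⊤ : Submodule ↥R M)).resolve_left (by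
    intro h
    obtain ⟨x, hx⟩ := exists_ne (0 : M)
    have : x ∈ (⊥ : Submodule ↥R M) := by rw [← h]; trivial
    exact hx ((Submodule.mem_bot ↥R).1 this))
  haveI : IsSimpleModule ↥R T₀ := isSimpleModule_iff_isAtom.2 hT₀
  obtain ⟨r, p, hp, hr, hcard⟩ := density ↥R T₀
  -- the idempotent
  set θ : Module.End (ZMod 2) M := r.1 with hθ
  obtain ⟨k, hk, hk0⟩ := exists_idem (aeval θ p)
  set e : Module.End (ZMod 2) M := (aeval θ p) ^ k with he
  have heR : e ∈ R := by
    rw [he]
    refine pow_mem ?_ _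
    have : aeval θ p = ((aeval r p : ↥R) : Module.End (ZMod 2) M) := by
      have := Polynomial.aeval_algHom_apply R.val r p
      exact this
    rw [this]; exact (aeval r p : ↥R).2
  have hθR : θ ∈ R := r.2
  have hepow : aeval θ (p ^ k) = e := by rw [map_pow]
  have hcomm : e * θ = θ * e := by
    rw [← hepow]
    have h1 : aeval θ (p ^ k) * aeval θ (X : (ZMod 2)[X]) = aeval θ (X : (ZMod 2)[X]) * aeval θ (p ^ k) := by
      rw [← map_mul, ← map_mul, mul_comm]
    rwa [aeval_X] at h1
  -- decomposition of `M`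
  have hM := card_ker_range e
  -- decomposition of `H`
  let ε : ↥H →ₗ[ZMod 2] (M →ₗ[ZMod 2] U) := (LinearMap.lcomp (ZMod 2) U e) ∘ₗ H.subtype
  have hε : ∀ φ : H, ε φ = (φ : M →ₗ[ZMod 2] U) ∘ₗ e := fun _ => rfl
  have hHc := card_ker_range ε
  -- kernel of `ε`
  let H₁ : Submodule (ZMod 2) (M →ₗ[ZMod 2] U) := (LinearMap.ker ε).map H.subtype
  have hH₁mem : ∀ φ, φ ∈ H₁ ↔ φ ∈ H ∧ φ ∘ₗ e = 0 := by
    intro φ
    constructor
    · rintro ⟨ψ, hψ, rfl⟩
      exact ⟨ψ.2, hψ⟩
    · rintro ⟨h1, h2⟩
      exact ⟨⟨φ, h1⟩, h2, rfl⟩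
  have hH₁c : Nat.card H₁ = Nat.card (LinearMap.ker ε) :=
    (Nat.card_congr (Submodule.equivMapOfInjective H.subtype H.injective_subtype _).toEquiv).symm
  have hR : LinearMap.range ε ≤ H := by
    rintro _ ⟨φ, rfl⟩
    exact hH e heR φ φ.2
  -- counting
  have hT₀pos : 1 < Nat.card T₀ := by
    haveI : Nontrivial T₀ := IsSimpleModule.nontrivial ↥R T₀
    exact Finite.one_lt_card
  have hker : ∀ x ∈ T₀, x ∈ LinearMap.ker e := by
    intro x hx
    rw [LinearMap.mem_ker]
    have h1 := hr ⟨x, hx⟩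
    have h2 : (aeval θ p) x = 0 := by
      have h3 : aeval θ p = ((aeval r p : ↥R) : Module.End (ZMod 2) M) := Polynomial.aeval_algHom_apply R.val r p
      rw [h3]
      exact congrArg Subtype.val h1
    rw [he]
    obtain ⟨m, rfl⟩ : ∃ m, k = m + 1 := ⟨k - 1, by omega⟩
    rw [pow_succ]
    show ((aeval θ p) ^ m) ((aeval θ p) x) = 0
    rw [h2, map_zero]
  have hker1 : 1 < Nat.card (LinearMap.ker e) := by
    refine lt_of_lt_of_le hT₀pos ?_
    exact Nat.card_le_card_of_injective (fun x : T₀ => (⟨x, hker x x.2⟩ : LinearMap.ker e))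
      (fun a b h => Subtype.ext (congrArg (fun z : LinearMap.ker e => (z : M)) h))
  have hRpos : 0 < Nat.card (LinearMap.range e) := Nat.card_pos
  have hKpos : 0 < Nat.card (LinearMap.ker e) := Nat.card_pos
  -- range part
  have c2 : Nat.card (LinearMap.range ε) ≤ Nat.card (LinearMap.range e) := by
    by_cases h0 : LinearMap.range ε = ⊥
    · rw [h0]
      have : Nat.card (⊥ : Submodule (ZMod 2) (M →ₗ[ZMod 2] U)) = 1 := Nat.card_unique
      omega
    · have h1 := hb (LinearMap.ker e) (LinearMap.range ε) hR (by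
        rintro _ ⟨φ, rfl⟩ w hw
        rw [hε]
        show (φ : M →ₗ[ZMod 2] U) (e w) = 0
        rw [LinearMap.mem_ker.1 hw, map_zero]) h0
      rw [hM] at h1
      have h2 : Nat.card (LinearMap.range ε) * Nat.card (LinearMap.ker e) <
          Nat.card (LinearMap.range e) * Nat.card (LinearMap.ker e) := by
        calc _ < _ := h1
          _ = _ := mul_comm _ _
      exact (Nat.lt_of_mul_lt_mul_right h2).le
  -- kernel part
  have c1 : Nat.card H₁ < Nat.card (LinearMap.ker e) := by
    by_cases h0 : H₁ = ⊥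
    · rw [h0]
      have : Nat.card (⊥ : Submodule (ZMod 2) (M →ₗ[ZMod 2] U)) = 1 := Nat.card_unique
      omega
    · have h1 := hb (LinearMap.range e) H₁ (fun φ hφ => ((hH₁mem φ).1 hφ).1) (by
        rintro φ hφ w ⟨x, rfl⟩
        exact congrArg (fun g : M →ₗ[ZMod 2] U => g x) ((hH₁mem φ).1 hφ).2) h0
      rw [hM] at h1
      exact Nat.lt_of_mul_lt_mul_right h1
  obtain ⟨j₁, hj₁⟩ := card_torsion' hp (LinearMap.lcomp (ZMod 2) U θ) H₁ (by
    intro φ hφ
    rw [hH₁mem] at hφ ⊢
    refine ⟨hH θ hθR φ hφ.1, ?_⟩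
    have h1 : (φ ∘ₗ θ) ∘ₗ e = (φ ∘ₗ e) ∘ₗ θ := by
      rw [LinearMap.comp_assoc, LinearMap.comp_assoc]
      congr 1
      exact hcomm.symm
    show (φ ∘ₗ θ) ∘ₗ e = 0
    rw [h1, hφ.2, LinearMap.zero_comp]) k (by
    intro φ hφ
    have key : ∀ q : (ZMod 2)[X], ∀ φ : M →ₗ[ZMod 2] U, (aeval (LinearMap.lcomp (ZMod 2) U θ) q) φ = φ ∘ₗ (aeval θ q) := by
      intro q
      induction q using Polynomial.induction_on' with
      | add a b ha hb => intro φ; rw [map_add, map_add, LinearMap.add_apply, ha, hb, LinearMap.comp_add]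
      | monomial n a =>
        intro φ
        rw [aeval_monomial, aeval_monomial]
        have hpow : ∀ n : ℕ, ∀ φ : M →ₗ[ZMod 2] U, ((LinearMap.lcomp (ZMod 2) U θ) ^ n) φ = φ ∘ₗ (θ ^ n) := by
          intro n
          induction n with
          | zero => intro φ; rfl
          | succ n ih =>
            intro φ
            rw [pow_succ, pow_succ']
            show ((LinearMap.lcomp (ZMod 2) U θ) ^ n) (φ ∘ₗ θ) = φ ∘ₗ (θ ∘ₗ θ ^ n)
            rw [ih]; rfl
        show (algebraMap (ZMod 2) (Module.End (ZMod 2) (M →ₗ[ZMod 2] U)) a) (((LinearMap.lcomp (ZMod 2) U θ) ^ n) φ) = _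
        rw [hpow, Module.algebraMap_end_apply]
        ext x
        show a • φ ((θ ^ n) x) = φ ((algebraMap (ZMod 2) (Module.End (ZMod 2) M) a) ((θ ^ n) x))
        rw [Module.algebraMap_end_apply, map_smul]
    rw [key, hepow]
    exact ((hH₁mem φ).1 hφ).2)
  obtain ⟨j₂, hj₂⟩ := card_torsion' hp θ (LinearMap.ker e) (by
    intro x hx
    rw [LinearMap.mem_ker] at hx ⊢
    show (e * θ) x = 0
    rw [hcomm]
    show θ (e x) = 0
    rw [hx, map_zero]) k (fun x hx => by rw [hepow]; exact hx)
  have c3 : Nat.card H₁ * Nat.card T₀ ≤ Nat.card (LinearMap.ker e) := by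
    rw [hj₁, hj₂] at c1
    rw [hj₁, hj₂, hcard, ← pow_succ]
    have hb1 : 1 < 2 ^ p.natDegree := by rw [← hcard]; exact hT₀pos
    have : j₁ < j₂ := (Nat.pow_lt_pow_iff_right hb1).1 c1
    exact Nat.pow_le_pow_right (by omega) this
  refine ⟨T₀.restrictScalars (ZMod 2), ?_, ?_, ?_⟩
  · intro h
    apply hT₀.1
    rw [eq_bot_iff]
    intro x hx
    have : x ∈ T₀.restrictScalars (ZMod 2) := hx
    rw [h] at this
    exact this
  · intro s hs x hx
    exact T₀.smul_mem (⟨s, hs⟩ : ↥R) hx
  · have hTc : Nat.card (T₀.restrictScalars (ZMod 2)) = Nat.card T₀ := rfl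
    rw [hTc, hHc, ← hH₁c, hM]
    calc Nat.card H₁ * Nat.card (LinearMap.range ε) * Nat.card T₀
        = (Nat.card H₁ * Nat.card T₀) * Nat.card (LinearMap.range ε) := by ring
      _ ≤ Nat.card (LinearMap.ker e) * Nat.card (LinearMap.range e) := Nat.mul_le_mul c3 c2

end CfsgLib.NO9
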