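import Cfsg.Agent.LibNO9E
import Cfsg.Agent.LibNO9F

/-! No offenders: the contradiction. -/

set_option autoImplicit false

namespace CfsgLib.NO9

open Cfsg Subgroup CfsgLib.FusionH12

universe u v

variable {G : Type u} {V : Type v} [Group G] [AddCommGroup V] [DistribMulAction G V]

theorem card_comap_mk [Finite V] (Z : AddSubgroup V) (W : AddSubgroup (V ⧸ Z)) :
    Nat.card ↥(W.comap (QuotientAddGroup.mk' Z)) = Nat.card W * Nat.card Z := by
  have h1 := AddSubgroup.index_comap_of_surjective W (QuotientAddGroup.mk'_surjective Z)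
  have h2 := AddSubgroup.card_mul_index (W.comap (QuotientAddGroup.mk' Z))
  haveI : Finite (V ⧸ Z) := Quotient.finite _
  have h3 := AddSubgroup.card_mul_index W
  have h4 := AddSubgroup.card_eq_card_quotient_mul_card_addSubgroup Z
  have h5 : 0 < W.index := Nat.pos_of_ne_zero AddSubgroup.FiniteIndex.index_ne_zero
  rw [h1] at h2
  refine Nat.eq_of_mul_eq_mul_right h5 ?_
  rw [h2, h4, ← h3]; ring

theorem fin7 [Finite G] [Finite V] (h2 : ∀ v : V, v + v = 0)
    (faith : ∀ g : G, (∀ v : V, g • v = v) → g = 1) (hZt : fx V (⊤ : Subgroup G) ≠ ⊤)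
    {N : Subgroup G} (hN : (⊤ : Subgroup G) ≤ normalizer (N : Set G)) (hNc : N ≤ cz G V)
    (hb : ∀ E : Subgroup G, E ≤ N → E ≠ ⊥ → Nat.card E * Nat.card ↥(fx V E) < Nat.card V) :
    ∃ T : AddSubgroup V, fx V (⊤ : Subgroup G) < T ∧ (⊤ : Subgroup G) ≤ sb T ∧
      Nat.card N * Nat.card T ≤ Nat.card V := by
  set Z := fx V (⊤ : Subgroup G) with hZ
  letI m1 : Module (ZMod 2) V := AddCommGroup.zmodModule (fun x => by rw [two_nsmul]; exact h2 x)
  letI m2 : Module (ZMod 2) (V ⧸ Z) := AddCommGroup.zmodModule (fun x => by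
    obtain ⟨y, rfl⟩ := QuotientAddGroup.mk_surjective x
    rw [two_nsmul, ← QuotientAddGroup.mk_add, h2 y]; rfl)
  haveI : Finite (V ⧸ Z) := Quotient.finite _
  haveI : Nontrivial (V ⧸ Z) := by
    by_contra hc
    rw [not_nontrivial_iff_subsingleton, QuotientAddGroup.subsingleton_iff] at hc
    exact hZt hc
  have hZsb : ∀ k : G, k ∈ sb Z := by
    intro k
    rw [mem_sb_iff, hZ, tr_fx, cj_top]
  let ρ : G → Module.End (ZMod 2) (V ⧸ Z) := fun g =>
    (QuotientAddGroup.map Z Z (DistribMulAction.toAddMonoidHom V g)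
      (fun z hz => smul_mem_of_sb (hZsb g) hz)).toZModLinearMap 2
  have hρ : ∀ (g : G) (v : V), ρ g (v : V ⧸ Z) = ((g • v : V) : V ⧸ Z) := fun _ _ => rfl
  let R : Subalgebra (ZMod 2) (Module.End (ZMod 2) (V ⧸ Z)) := Algebra.adjoin (ZMod 2) (Set.range ρ)
  have hmul : ∀ g k : G, g ∈ N → k ∈ N → ∀ v : V, (g * k) • v - v = (g • v - v) + (k • v - v) := by
    intro g k hg hk v
    have h1 := smul_fx_top (hNc hk v) g
    have : (g * k) • v - v = g • (k • v - v) + (g • v - v) := by rw [mul_smul, smul_sub]; abel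
    rw [this, h1]; abel
  have hinv : ∀ g : G, g ∈ N → ∀ v : V, g⁻¹ • v - v = -(g • v - v) := by
    intro g hg v
    have h1 := hmul g g⁻¹ hg (inv_mem hg) v
    rw [mul_inv_cancel, one_smul, sub_self] at h1
    exact (neg_eq_of_add_eq_zero_right h1.symm).symm
  let H0 : AddSubgroup ((V ⧸ Z) →ₗ[ZMod 2] V) :=
    { carrier := {ψ | ∃ g ∈ N, ∀ v : V, ψ (v : V ⧸ Z) = g • v - v}
      zero_mem' := ⟨1, one_mem _, fun v => by rw [one_smul, sub_self]; rfl⟩
      add_mem' := by
        rintro a b ⟨g, hg, h1⟩ ⟨k, hk, h3⟩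
        exact ⟨g * k, mul_mem hg hk, fun v => by rw [hmul g k hg hk, ← h1, ← h3]; rfl⟩
      neg_mem' := by
        rintro a ⟨g, hg, h1⟩
        exact ⟨g⁻¹, inv_mem hg, fun v => by rw [hinv g hg, ← h1]; rfl⟩ }
  let H : Submodule (ZMod 2) ((V ⧸ Z) →ₗ[ZMod 2] V) :=
    { H0 with smul_mem' := fun c x hx => ZMod.smul_mem (K := H0) hx c }
  have hHmem : ∀ ψ, ψ ∈ H ↔ ∃ g ∈ N, ∀ v : V, ψ (v : V ⧸ Z) = g • v - v := fun _ => Iff.rfl
  have hHR : ∀ r ∈ R, ∀ φ ∈ H, φ ∘ₗ r ∈ H := by
    intro r hr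
    induction hr using Algebra.adjoin_induction with
    | mem x hx =>
      obtain ⟨k, rfl⟩ := hx
      rintro φ ⟨g, hg, h1⟩
      refine ⟨k⁻¹ * g * k, ?_, ?_⟩
      · have := (Subgroup.mem_normalizer_iff.1 (hN (mem_top k⁻¹)) g).1 hg
        simpa using this
      · intro v
        show φ ((k • v : V) : V ⧸ Z) = _
        rw [h1, mul_smul, mul_smul]
        have h3 := smul_fx_top (hNc hg (k • v)) k⁻¹
        rw [smul_sub, inv_smul_smul] at h3
        exact h3.symm
    | algebraMap c =>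
      intro φ hφ
      have : φ ∘ₗ (algebraMap (ZMod 2) (Module.End (ZMod 2) (V ⧸ Z)) c) = c • φ := by
        ext x
        show φ ((algebraMap (ZMod 2) (Module.End (ZMod 2) (V ⧸ Z)) c) x) = c • φ x
        rw [Module.algebraMap_end_apply, map_smul]
      rw [this]; exact H.smul_mem c hφ
    | add x y _ _ hx hy =>
      intro φ hφ
      rw [LinearMap.comp_add]; exact H.add_mem (hx φ hφ) (hy φ hφ)
    | mul x y _ _ hx hy =>
      intro φ hφ
      exact hy _ (hx φ hφ)
  have hVM : Nat.card V = Nat.card (V ⧸ Z) * Nat.card Z := AddSubgroup.card_eq_card_quotient_mul_card_addSubgroup Z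
  have hZpos : 0 < Nat.card Z := Nat.card_pos
  obtain ⟨T, hT0, hTR, hTc⟩ := la R H hHR (by
    intro W K hK hKW hK0
    let E : Subgroup G :=
      { carrier := {g | g ∈ N ∧ ∃ ψ ∈ K, ∀ v : V, ψ (v : V ⧸ Z) = g • v - v}
        one_mem' := ⟨one_mem _, 0, K.zero_mem, fun v => by rw [one_smul, sub_self]; rfl⟩
        mul_mem' := by
          rintro g k ⟨hg, a, ha, h1⟩ ⟨hk, b, hb, h3⟩
          exact ⟨mul_mem hg hk, a + b, K.add_mem ha hb, fun v => by rw [hmul g k hg hk, ← h1, ← h3]; rfl⟩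
        inv_mem' := by
          rintro g ⟨hg, a, ha, h1⟩
          exact ⟨inv_mem hg, -a, K.neg_mem ha, fun v => by rw [hinv g hg, ← h1]; rfl⟩ }
    have hEN : E ≤ N := fun g hg => hg.1
    have hch : ∀ ψ : K, ∃ g : E, ∀ v : V, (ψ : (V ⧸ Z) →ₗ[ZMod 2] V) (v : V ⧸ Z) = (g : G) • v - v := by
      intro ψ
      obtain ⟨g, hg, h1⟩ := hK ψ.2
      exact ⟨⟨g, hg, ψ, ψ.2, h1⟩, h1⟩
    choose γ hγ using hch
    have hγinj : Function.Injective γ := by
      intro a b hab
      apply Subtype.ext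
      ext x
      obtain ⟨v, rfl⟩ := QuotientAddGroup.mk_surjective x
      rw [hγ a v, hγ b v, hab]
    have hcE : Nat.card K ≤ Nat.card E := Nat.card_le_card_of_injective γ hγinj
    have hE0 : E ≠ ⊥ := by
      intro hE
      apply hK0
      rw [eq_bot_iff]
      intro ψ hψ
      rw [Submodule.mem_bot]
      ext x
      obtain ⟨v, rfl⟩ := QuotientAddGroup.mk_surjective x
      have h1 := hγ ⟨ψ, hψ⟩ v
      have h3 : ((γ ⟨ψ, hψ⟩ : E) : G) = 1 := mem_bot.1 (hE.le (γ ⟨ψ, hψ⟩).2)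
      rw [h3, one_smul, sub_self] at h1
      exact h1
    have h1 := hb E hEN hE0
    have h3 : W.toAddSubgroup.comap (QuotientAddGroup.mk' Z) ≤ fx V E := by
      intro v hv g hg
      obtain ⟨-, ψ, hψ, h4⟩ := hg
      have h5 : ψ (v : V ⧸ Z) = 0 := hKW ψ hψ _ hv
      rw [h4 v, sub_eq_zero] at h5
      exact h5
    have h4 := AddSubgroup.card_le_of_le h3
    rw [card_comap_mk] at h4
    have h5 : Nat.card W.toAddSubgroup = Nat.card W := rfl
    rw [h5] at h4
    rw [hVM] at h1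
    refine Nat.lt_of_mul_lt_mul_right (a := Nat.card Z) ?_
    calc Nat.card K * Nat.card W * Nat.card Z = Nat.card K * (Nat.card W * Nat.card Z) := by ring
      _ ≤ Nat.card E * Nat.card ↥(fx V E) := Nat.mul_le_mul hcE h4
      _ < _ := h1)
  refine ⟨T.toAddSubgroup.comap (QuotientAddGroup.mk' Z), ?_, ?_, ?_⟩
  · refine lt_of_le_of_ne ?_ ?_
    · intro z hz
      show ((z : V) : V ⧸ Z) ∈ T
      rw [(QuotientAddGroup.eq_zero_iff z).2 hz]; exact T.zero_mem
    · intro he
      apply hT0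
      rw [eq_bot_iff]
      intro x hx
      obtain ⟨v, rfl⟩ := QuotientAddGroup.mk_surjective x
      have : v ∈ T.toAddSubgroup.comap (QuotientAddGroup.mk' Z) := hx
      rw [← he] at this
      rw [Submodule.mem_bot]
      exact (QuotientAddGroup.eq_zero_iff v).2 this
  · apply le_sb_of_forall
    intro g _ w hw
    exact hTR (ρ g) (Algebra.subset_adjoin ⟨g, rfl⟩) _ hw
  · rw [card_comap_mk]
    have h5 : Nat.card T.toAddSubgroup = Nat.card T := rfl
    rw [h5, hVM]
    have hNH : Nat.card N ≤ Nat.card H := by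
      have hex : ∀ g : N, ∃ ψ : H, ∀ v : V, (ψ : (V ⧸ Z) →ₗ[ZMod 2] V) (v : V ⧸ Z) = (g : G) • v - v := by
        intro g
        let φ : V →+ V := DistribMulAction.toAddMonoidHom V (g : G) - AddMonoidHom.id V
        have hφ : Z ≤ φ.ker := by
          intro z hz
          rw [AddMonoidHom.mem_ker]
          show (g : G) • z - z = 0
          rw [smul_fx_top hz, sub_self]
        exact ⟨⟨(QuotientAddGroup.lift Z φ hφ).toZModLinearMap 2, g, g.2, fun v => rfl⟩, fun v => rfl⟩
      choose δ hδ using hex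
      haveI : Finite H := by
        haveI : Finite ((V ⧸ Z) →ₗ[ZMod 2] V) := Finite.of_injective (fun f => (f : V ⧸ Z → V)) DFunLike.coe_injective
        infer_instance
      refine Nat.card_le_card_of_injective δ ?_
      intro a b hab
      apply Subtype.ext
      have h1 : ((a : G)⁻¹ * b) = 1 := by
        apply faith
        intro v
        have h3 := hδ a v
        have h4 := hδ b v
        rw [hab, h4] at h3
        have h6 : (b : G) • v = (a : G) • v := by
          have := congrArg (fun x => x + v) h3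
          simpa using this
        rw [mul_smul, h6, inv_smul_smul]
      exact (inv_mul_eq_one.1 h1)
    calc Nat.card N * (Nat.card T * Nat.card Z) ≤ Nat.card H * (Nat.card T * Nat.card Z) := by gcongr
      _ = (Nat.card H * Nat.card T) * Nat.card Z := by ring
      _ ≤ _ := by gcongr

theorem Ctx.false [Finite G] [Finite V] {S : Subgroup G} {X : AddSubgroup V} {μ : ℕ}
    (h : Ctx S X μ) (hS3 : ¬ Involves (Equiv.Perm (Fin 3)) G) : False := by
  obtain ⟨A, hA, qA, hAM⟩ := h.exists_quad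
  have hZt : fx V (⊤ : Subgroup G) ≠ ⊤ := by
    intro he
    apply hA.2.1
    rw [eq_bot_iff]
    intro a _
    rw [mem_bot]
    apply h.faith
    intro v
    have : v ∈ fx V (⊤ : Subgroup G) := by rw [he]; exact AddSubgroup.mem_top v
    exact smul_fx_top this a
  have hZlt : fx V (⊤ : Subgroup G) < ⊤ := lt_top_iff_ne_top.2 hZt
  obtain ⟨g, hg⟩ : ∃ g, g ∉ (sb X : Subgroup G) := by
    by_contra hc
    push Not at hc
    exact h.ne (eq_top_iff.2 fun g _ => hc g)
  obtain ⟨-, h5⟩ := h.step5 hS3 hA qA hAM hg hZlt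
  obtain ⟨T, hZT, hTs, hTc⟩ := fin7 h.h2 h.faith hZt h.nrm_NN (inf_le_right : NN S X ≤ cz G V)
    (fun E hE hE1 => h.step6 hE hE1)
  have h1 := (h.halves hS3 hA qA hAM hg hZlt (fun k _ => by
    rw [mem_sb]; intro v; exact ⟨fun _ => AddSubgroup.mem_top _, fun _ => AddSubgroup.mem_top _⟩)).1
  obtain ⟨h3, h4⟩ := h.halves hS3 hA qA hAM hg hZT hTs
  have h6 := h.mx ⊥ (fun e he => by rw [mem_bot] at he; rw [he, one_mul])
  rw [fx_bot, Subgroup.card_bot, one_mul, ← hA.2.2] at h6
  rw [top_inf_eq] at h1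
  have htop : Nat.card ↥(⊤ : AddSubgroup V) = Nat.card V := Nat.card_congr (AddSubgroup.topEquiv (G := V)).toEquiv
  rw [htop] at h1 h6
  have p1 : 0 < Nat.card V := Nat.card_pos
  have p2 : 0 < Nat.card ↥(fx V (⊤ : Subgroup G)) := Nat.card_pos
  set z := Nat.card ↥(fx V (⊤ : Subgroup G))
  set v := Nat.card V
  set c := Nat.card ↥(fx V A)
  set a := Nat.card A
  set a0 := Nat.card ↥(A ⊓ M0 X)
  set n := Nat.card ↥(NN S X : Subgroup G)
  set t := Nat.card ↥T
  set τ := Nat.card ↥(T ⊓ fx V A)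
  -- h1 : v * z = c^2, h6 : v ≤ a * c, h4 : a * z < a0 * τ, h3 : t * z = τ^2, hTc : n * t ≤ v, h5 : a0 * a0 ≤ n
  have e1 : v * v ≤ a * a * (v * z) := by
    rw [h1]
    calc v * v ≤ (a * c) * (a * c) := Nat.mul_le_mul h6 h6
      _ = _ := by ring
  have e2 : v ≤ a * a * z := by
    refine Nat.le_of_mul_le_mul_right ?_ p1
    calc v * v ≤ _ := e1
      _ = _ := by ring
  have e3 : (a * z) * (a * z) < (a0 * τ) * (a0 * τ) := Nat.mul_lt_mul'' h4 h4
  have e4 : v * z < v * z := by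
    calc v * z ≤ (a * a * z) * z := by gcongr
      _ = (a * z) * (a * z) := by ring
      _ < (a0 * τ) * (a0 * τ) := e3
      _ = (a0 * a0) * (τ ^ 2) := by ring
      _ = (a0 * a0) * (t * z) := by rw [h3]
      _ ≤ n * (t * z) := by gcongr
      _ = (n * t) * z := by ring
      _ ≤ v * z := by gcongr
  exact lt_irrefl _ e4

end CfsgLib.NO9
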