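import Cfsg.Agent.LibNO9G

/-! No offenders: the general theorem. -/

set_option autoImplicit false

namespace CfsgLib.NO9

open Cfsg Subgroup CfsgLib.FusionH12

universe u v w

section Transfer

variable {G : Type*} {V : Type*} [Group G] [AddCommGroup V] [DistribMulAction G V]
variable {G₁ : Type*} {V₁ : Type*} [Group G₁] [AddCommGroup V₁] [DistribMulAction G₁ V₁]
variable {π : G →* G₁} {ι : V₁ →+ V}

theorem card_map_mul [Finite G] (π : G →* G₁) (E : Subgroup G) :
    Nat.card E = Nat.card (E.map π) * Nat.card ↥(E ⊓ π.ker) := by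
  have h1 := Subgroup.card_eq_card_quotient_mul_card_subgroup (π.comp E.subtype).ker
  rw [Nat.card_congr (QuotientGroup.quotientKerEquivRange (π.comp E.subtype)).toEquiv] at h1
  have h2 : (π.comp E.subtype).range = E.map π := by
    rw [MonoidHom.range_comp, Subgroup.range_subtype]
  have h3 : Nat.card (π.comp E.subtype).ker = Nat.card ↥(E ⊓ π.ker) := by
    have : (π.comp E.subtype).ker = (E ⊓ π.ker).subgroupOf E := by
      ext x
      simp [MonoidHom.mem_ker, Subgroup.mem_subgroupOf]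
    rw [this]
    exact Nat.card_congr (Subgroup.subgroupOfEquivOfLe inf_le_left).toEquiv
  rw [h2, h3] at h1
  exact h1

theorem map_fx (hι : Function.Injective ι) (heq : ∀ (g : G) (v : V₁), ι (π g • v) = g • ι v)
    (E : Subgroup G) (W : AddSubgroup V₁) : W.map ι ⊓ fx V E = (W ⊓ fx V₁ (E.map π)).map ι := by
  ext x
  constructor
  · rintro ⟨⟨w, hw, rfl⟩, hx⟩
    refine ⟨w, ⟨hw, ?_⟩, rfl⟩
    rintro _ ⟨e, he, rfl⟩
    apply hι
    rw [heq]; exact hx e he
  · rintro ⟨w, hw, rfl⟩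
    refine ⟨⟨w, hw.1, rfl⟩, fun e he => ?_⟩
    rw [← heq, hw.2 (π e) ⟨e, he, rfl⟩]

theorem map_ct (hι : Function.Injective ι) (heq : ∀ (g : G) (v : V₁), ι (π g • v) = g • ι v)
    (E : Subgroup G) (W : AddSubgroup V₁) : (E ⊓ ct (W.map ι)).map π = E.map π ⊓ ct W := by
  ext x
  constructor
  · rintro ⟨e, he, rfl⟩
    refine ⟨⟨e, he.1, rfl⟩, fun w hw => ?_⟩
    apply hι
    rw [heq]; exact he.2 _ ⟨w, hw, rfl⟩
  · rintro ⟨⟨e, he, rfl⟩, hx⟩
    refine ⟨e, ⟨he, ?_⟩, rfl⟩
    rintro _ ⟨w, hw, rfl⟩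
    rw [← heq, hx w hw]

theorem ker_le_ct (heq : ∀ (g : G) (v : V₁), ι (π g • v) = g • ι v) (W : AddSubgroup V₁) :
    π.ker ≤ ct (W.map ι) := by
  rintro g hg _ ⟨w, hw, rfl⟩
  rw [← heq, MonoidHom.mem_ker.1 hg, one_smul]

theorem ineq_iff [Finite G] (hι : Function.Injective ι)
    (heq : ∀ (g : G) (v : V₁), ι (π g • v) = g • ι v) (E : Subgroup G) (W : AddSubgroup V₁) :
    Nat.card E * Nat.card ↥(W.map ι ⊓ fx V E) < Nat.card (W.map ι) * Nat.card ↥(E ⊓ ct (W.map ι)) ↔
    Nat.card (E.map π) * Nat.card ↥(W ⊓ fx V₁ (E.map π)) < Nat.card W * Nat.card ↥(E.map π ⊓ ct W) := by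
  have c1 := card_map_mul π E
  have c2 := card_map_mul π (E ⊓ ct (W.map ι))
  rw [map_ct hι heq] at c2
  have c3 : (E ⊓ ct (W.map ι)) ⊓ π.ker = E ⊓ π.ker := by
    rw [inf_assoc, inf_eq_right.2 (ker_le_ct heq W)]
  rw [c3] at c2
  have c4 : Nat.card (W.map ι) = Nat.card W := (Nat.card_congr (W.equivMapOfInjective ι hι).toEquiv).symm
  have c5 : Nat.card ↥(W.map ι ⊓ fx V E) = Nat.card ↥(W ⊓ fx V₁ (E.map π)) := by
    rw [map_fx hι heq]
    exact (Nat.card_congr (AddSubgroup.equivMapOfInjective _ ι hι).toEquiv).symm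
  have p : 0 < Nat.card ↥(E ⊓ π.ker) := Nat.card_pos
  rw [c1, c2, c4, c5]
  have e1 : Nat.card (E.map π) * Nat.card ↥(E ⊓ π.ker) * Nat.card ↥(W ⊓ fx V₁ (E.map π)) =
    Nat.card (E.map π) * Nat.card ↥(W ⊓ fx V₁ (E.map π)) * Nat.card ↥(E ⊓ π.ker) := by ring
  have e2 : Nat.card W * (Nat.card ↥(E.map π ⊓ ct W) * Nat.card ↥(E ⊓ π.ker)) =
    Nat.card W * Nat.card ↥(E.map π ⊓ ct W) * Nat.card ↥(E ⊓ π.ker) := by ring
  rw [e1, e2, Nat.mul_lt_mul_right p]

theorem NO.map [Finite G] (hι : Function.Injective ι)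
    (heq : ∀ (g : G) (v : V₁), ι (π g • v) = g • ι v) {T : Subgroup G} {W : AddSubgroup V₁}
    (h : NO T (W.map ι)) : NO (T.map π) W := by
  intro E₁ hE₁ h1 h2
  have hmap : (T ⊓ E₁.comap π).map π = E₁ := by
    ext x
    constructor
    · rintro ⟨t, ht, rfl⟩; exact ht.2
    · intro hx
      obtain ⟨t, ht, rfl⟩ := hE₁ hx
      exact ⟨t, ⟨ht, hx⟩, rfl⟩
  have h3 := h (T ⊓ E₁.comap π) inf_le_left ?_ ?_
  · rw [ineq_iff hι heq, hmap] at h3
    exact h3
  · rintro e he _ ⟨w, hw, rfl⟩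
    rw [← heq, ← heq, h1 (π e) he.2 w hw]
  · obtain ⟨e, he, w, hw, hne⟩ := h2
    obtain ⟨t, ht, rfl⟩ := hE₁ he
    refine ⟨t, ⟨ht, he⟩, ι w, ⟨w, hw, rfl⟩, fun hh => hne (hι ?_)⟩
    rw [heq]; exact hh

theorem NO.of_map [Finite G] (hι : Function.Injective ι)
    (heq : ∀ (g : G) (v : V₁), ι (π g • v) = g • ι v) {T : Subgroup G} {W : AddSubgroup V₁}
    (h : NO (T.map π) W) : NO T (W.map ι) := by
  intro E hE h1 h2
  rw [ineq_iff hι heq]
  refine h (E.map π) (Subgroup.map_mono hE) ?_ ?_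
  · rintro _ ⟨e, he, rfl⟩ w hw
    apply hι
    rw [heq, heq]; exact h1 e he _ ⟨w, hw, rfl⟩
  · obtain ⟨e, he, _, ⟨w, hw, rfl⟩, hne⟩ := h2
    exact ⟨π e, ⟨e, he, rfl⟩, w, hw, fun hh => hne (by rw [← heq, hh])⟩

end Transfer

section Core

variable {G : Type u} {V : Type v} [Group G] [AddCommGroup V] [DistribMulAction G V] [Finite G] [Finite V]

theorem core2 {S : Subgroup G} {X : AddSubgroup V} (h2 : ∀ v : V, v + v = 0)
    (faith : ∀ g : G, (∀ v : V, g • v = v) → g = 1) (syl : SylIn 2 S ⊤)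
    (gen : oc (⊤ : Subgroup G) X = (⊤ : AddSubgroup V)) (hSX : S ≤ sb X) (no : NO S X)
    (ih : ∀ K : Subgroup G, K ≠ ⊤ → ∀ T, SylIn 2 T K → ∀ Y : AddSubgroup V, T ≤ sb Y → NO T Y →
      NO T (oc K Y))
    (hS3 : ¬ Involves (Equiv.Perm (Fin 3)) G) : NO S (⊤ : AddSubgroup V) := by
  intro E hE h1 h3
  by_contra hcon
  rw [not_lt, top_inf_eq] at hcon
  have hEl : El E := fun e he => faith _ fun v => by
    rw [mul_smul]; exact h1 e he v (AddSubgroup.mem_top v)
  have hct : E ⊓ ct (⊤ : AddSubgroup V) = ⊥ := by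
    rw [eq_bot_iff]
    intro e he
    rw [mem_bot]
    exact faith e fun v => he.2 v (AddSubgroup.mem_top v)
  rw [hct, Subgroup.card_bot, mul_one] at hcon
  have hE1 : E ≠ ⊥ := by
    rintro rfl
    obtain ⟨e, he, w, -, hne⟩ := h3
    rw [mem_bot] at he
    rw [he, one_smul] at hne
    exact hne rfl
  have hbot : El (⊥ : Subgroup G) := fun e he => by rw [mem_bot] at he; rw [he, one_mul]
  obtain ⟨E₀, hE₀, hmax⟩ := (Set.toFinite {E : Subgroup G | El E}).exists_maximalFor
    (fun E : Subgroup G => Nat.card E * Nat.card ↥(fx V E)) _ ⟨⊥, hbot⟩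
  obtain ⟨μ, hμ⟩ : ∃ μ, μ = Nat.card E₀ * Nat.card ↥(fx V E₀) := ⟨_, rfl⟩
  have mx : ∀ F : Subgroup G, El F → Nat.card F * Nat.card ↥(fx V F) ≤ μ := by
    intro F hF
    by_contra hc
    rw [hμ] at hc
    exact hc (hmax hF (not_le.1 hc).le)
  have ex : ∃ A : Subgroup G, DD V μ A := by
    by_cases h0 : E₀ = ⊥
    · refine ⟨E, hEl, hE1, le_antisymm (mx E hEl) ?_⟩
      rw [hμ, h0, fx_bot, Subgroup.card_bot, one_mul]
      exact hcon
    · exact ⟨E₀, hE₀, h0, hμ.symm⟩
  have hJX : JJ V μ S ≤ ct X := sSup_le fun _ hA => hA.1.le_ct hA.2 no mx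
  have hJne : JJ V μ S ≠ ⊥ := by
    obtain ⟨A, hA⟩ := ex
    obtain ⟨a, -, ha⟩ := syl.exists_conj_le hA.1.isPGroup le_top
    intro he
    apply (hA.cj a).2.1
    rw [eq_bot_iff, ← he]
    exact le_JJ (hA.cj a) ha
  have hNne : normalizer (JJ V μ S : Set G) ≠ ⊤ := by
    intro he
    apply hJne
    rw [eq_bot_iff]
    intro g hg
    rw [mem_bot]
    apply faith
    intro v
    have h4 : (⊤ : AddSubgroup V) ≤ fx V (JJ V μ S) := by
      rw [← gen]
      refine oc_le_of_sb (le_ct_iff.1 hJX) ?_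
      intro a ha
      rw [mem_sb_iff, tr_fx, mem_nrm.1 (he.ge ha)]
    exact h4 (AddSubgroup.mem_top v) g hg
  set K := normalizer (JJ V μ S : Set G) with hK
  have hSK : S ≤ K := Subgroup.le_normalizer.trans (nrm_le_nrm_JJ μ S)
  have hNO : NO S (oc K X) := ih K hNne S (syl.mono hSK le_top) X hSX no
  have hXX : X ≤ oc K X := le_oc
  have ctx : Ctx S (oc K X) μ :=
    { h2 := h2
      faith := faith
      syl := syl
      gen := by rw [eq_top_iff, ← gen]; exact oc_mono le_rfl hXX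
      no := hNO
      mx := mx
      ex := ex
      ih := ih
      nj := le_sb_oc K X
      ne := by
        intro he
        have h5 : oc K X = ⊤ := by
          rw [eq_top_iff, ← gen]
          exact oc_le_of_sb hXX he.ge
        rw [h5] at hNO
        have h6 := hNO E hE h1 h3
        rw [hct, Subgroup.card_bot, mul_one, top_inf_eq] at h6
        omega }
  exact ctx.false hS3

end Core

/-- the key theorem: no offenders on `X` implies no offenders on `⟨X^P⟩`, for `P` without section `S₃`. -/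
theorem clm_aux (n : ℕ) : ∀ (G V : Type u) [Group G] [AddCommGroup V] [DistribMulAction G V] [Finite G]
    [Finite V], (∀ v : V, v + v = 0) → ∀ (P S : Subgroup G) (X : AddSubgroup V), Nat.card P ≤ n →
    ¬ Involves (Equiv.Perm (Fin 3)) P → SylIn 2 S P → S ≤ sb X → NO S X → NO S (oc P X) := by
  induction n with
  | zero =>
    intro G V _ _ _ _ _ _ P S X h
    have : 0 < Nat.card P := Nat.card_pos
    omega
  | succ n IH =>
    intro G V _ _ _ _ _ h2 P S X hPn hS3 hS hSX hno
    -- the action on `V₁`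
    have hPs := le_sb_oc P X
    let V₁ : Type u := ↥(oc P X)
    letI act : DistribMulAction ↥P V₁ :=
      { smul := fun g v => ⟨(g : G) • (v : V), smul_mem_of_sb (hPs g.2) v.2⟩
        one_smul := fun v => Subtype.ext (one_smul G (v : V))
        mul_smul := fun a b v => Subtype.ext (mul_smul (a : G) (b : G) (v : V))
        smul_zero := fun a => Subtype.ext (smul_zero (a : G))
        smul_add := fun a x y => Subtype.ext (smul_add (a : G) (x : V) (y : V)) }
    let f : ↥P →* Equiv.Perm V₁ := MulAction.toPermHom ↥P V₁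
    let G₁ : Type u := ↥f.range
    letI act₁ : DistribMulAction G₁ V₁ :=
      { smul := fun g v => (g : Equiv.Perm V₁) v
        one_smul := fun v => rfl
        mul_smul := fun a b v => rfl
        smul_zero := fun a => by
          obtain ⟨p, hp⟩ := a.2
          show (a : Equiv.Perm V₁) 0 = 0
          rw [← hp]
          exact smul_zero p
        smul_add := fun a x y => by
          obtain ⟨p, hp⟩ := a.2
          show (a : Equiv.Perm V₁) (x + y) = (a : Equiv.Perm V₁) x + (a : Equiv.Perm V₁) y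
          rw [← hp]
          exact smul_add p x y }
    let π : ↥P →* G₁ := f.rangeRestrict
    have hπs : Function.Surjective π := f.rangeRestrict_surjective
    have hact : ∀ (g : ↥P) (v : V₁), π g • v = g • v := fun _ _ => rfl
    let ι : V₁ →+ V := (oc P X).subtype
    have hι : Function.Injective ι := Subtype.val_injective
    have heq : ∀ (g : ↥P) (v : V₁), ι (π g • v) = g • ι v := fun _ _ => rfl
    haveI : Finite G₁ := Finite.of_surjective π hπs
    have h2' : ∀ v : V₁, v + v = 0 := fun v => Subtype.ext (h2 v)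
    have faith : ∀ g : G₁, (∀ v : V₁, g • v = v) → g = 1 := by
      intro g hg
      apply Subtype.ext
      ext v
      exact congrArg Subtype.val (hg v)
    have hcard : Nat.card G₁ ≤ n + 1 :=
      (Nat.card_le_card_of_surjective π hπs).trans hPn
    have hS3' : ¬ Involves (Equiv.Perm (Fin 3)) G₁ := fun h => hS3 (Fus21.involves_of_surjective π hπs h)
    let S₀ : Subgroup ↥P := S.subgroupOf P
    have hS₀ : SylIn 2 S₀ (⊤ : Subgroup ↥P) := ⟨le_top, hS.pg.comap_subtype, by
      rw [relIndex_top_right]; exact hS.idx⟩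
    let S₁ : Subgroup G₁ := S₀.map π
    have hS₁ : SylIn 2 S₁ (⊤ : Subgroup G₁) := by
      refine ⟨le_top, hS₀.pg.map π, ?_⟩
      rw [relIndex_top_right]
      intro hd
      apply hS₀.idx
      rw [relIndex_top_right]
      exact hd.trans (Subgroup.index_map_dvd S₀ hπs)
    let X₁ : AddSubgroup V₁ := X.comap ι
    have hX₁ : X₁.map ι = X := by
      ext x
      constructor
      · rintro ⟨y, hy, rfl⟩; exact hy
      · intro hx; exact ⟨⟨x, le_oc hx⟩, hx, rfl⟩
    -- subgroup types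
    have hmapS : S₀.map P.subtype = S := by
      rw [Subgroup.subgroupOf_map_subtype, inf_eq_left.2 hS.le]
    have hnoP : NO S₀ X := by
      -- compare `P`-subgroups with `G`-subgroups
      have := NO.of_map (G := ↥P) (V := V) (G₁ := G) (V₁ := V) (π := P.subtype) (ι := AddMonoidHom.id V)
        Function.injective_id (fun _ _ => rfl) (T := S₀) (W := X) (by rw [hmapS]; exact hno)
      rwa [AddSubgroup.map_id] at this
    have hnoX₁ : NO S₁ X₁ := NO.map hι heq (by rw [hX₁]; exact hnoP)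
    have hgen : oc (⊤ : Subgroup G₁) X₁ = (⊤ : AddSubgroup V₁) := by
      have key : oc P X ≤ (oc (⊤ : Subgroup G₁) X₁).map ι := by
        unfold oc
        rw [AddSubgroup.closure_le]
        rintro y ⟨k, hk, x, hx, rfl⟩
        exact ⟨π ⟨k, hk⟩ • (⟨x, le_oc hx⟩ : V₁), smul_mem_oc (mem_top _) hx, rfl⟩
      rw [eq_top_iff]
      intro v _
      obtain ⟨w, hw, hwv⟩ := key v.2
      have : w = v := Subtype.ext hwv
      rw [← this]; exact hw
    have hSX₁ : S₁ ≤ sb X₁ := by
      apply le_sb_of_forall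
      rintro _ ⟨s, hs, rfl⟩ w hw
      show (s : G) • (w : V) ∈ X
      exact smul_mem_of_sb (hSX hs) hw
    have ih : ∀ K : Subgroup G₁, K ≠ ⊤ → ∀ T, SylIn 2 T K → ∀ Y : AddSubgroup V₁, T ≤ sb Y →
        NO T Y → NO T (oc K Y) := by
      intro K hK T hT Y hTY hn
      have hlt : Nat.card K < Nat.card G₁ := by
        by_contra hc
        exact hK (Subgroup.eq_top_of_le_card K (not_lt.1 hc))
      exact IH G₁ V₁ h2' K T Y (by omega)
        (fun h => hS3' (Fus21.involves_of_injective K.subtype K.subtype_injective h)) hT hTY hn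
    have hfin := core2 h2' faith hS₁ hgen hSX₁ hnoX₁ ih hS3'
    -- back to `G`, `V`
    have hback : NO S₀ ((⊤ : AddSubgroup V₁).map ι) := NO.of_map hι heq hfin
    have htop : (⊤ : AddSubgroup V₁).map ι = oc P X := by
      ext x
      constructor
      · rintro ⟨y, -, rfl⟩; exact y.2
      · intro hx; exact ⟨⟨x, hx⟩, AddSubgroup.mem_top _, rfl⟩
    rw [htop] at hback
    have := NO.map (G := ↥P) (V := V) (G₁ := G) (V₁ := V) (π := P.subtype) (ι := AddMonoidHom.id V)
        Function.injective_id (fun _ _ => rfl) (T := S₀) (W := oc P X) (by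
          rw [AddSubgroup.map_id]; exact hback)
    rwa [hmapS] at this

theorem clm {G V : Type u} [Group G] [AddCommGroup V] [DistribMulAction G V] [Finite G]
    [Finite V] (h2 : ∀ v : V, v + v = 0) {P S : Subgroup G} {X : AddSubgroup V}
    (hS3 : ¬ Involves (Equiv.Perm (Fin 3)) P) (hS : SylIn 2 S P) (hSX : S ≤ sb X) (hno : NO S X) :
    NO S (oc P X) := clm_aux _ G V h2 P S X le_rfl hS3 hS hSX hno

end CfsgLib.NO9
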