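import Cfsg.Agent.LibNO9H

/-! No offenders inside a finite group (conjugation action). -/

set_option autoImplicit false

namespace CfsgLib.NO9

open Cfsg Subgroup CfsgLib.FusionH12

universe u v

/-- version of `clm` where only the group induced on `V` is assumed to have no section `S₃` -/
theorem clm' {G V : Type u} [Group G] [AddCommGroup V] [DistribMulAction G V] [Finite G]
    [Finite V] (h2 : ∀ v : V, v + v = 0) {P S : Subgroup G} {X : AddSubgroup V}
    (hS3 : ¬ Involves (Equiv.Perm (Fin 3)) (P.map (MulAction.toPermHom G V))) (hS : SylIn 2 S P)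
    (hSX : S ≤ sb X) (hno : NO S X) : NO S (oc P X) := by
  let f : G →* Equiv.Perm V := MulAction.toPermHom G V
  let G₁ : Type u := ↥f.range
  letI act₁ : DistribMulAction G₁ V :=
    { smul := fun g v => (g : Equiv.Perm V) v
      one_smul := fun v => rfl
      mul_smul := fun a b v => rfl
      smul_zero := fun a => by
        obtain ⟨p, hp⟩ := a.2
        show (a : Equiv.Perm V) 0 = 0
        rw [← hp]
        exact smul_zero p
      smul_add := fun a x y => by
        obtain ⟨p, hp⟩ := a.2
        show (a : Equiv.Perm V) (x + y) = (a : Equiv.Perm V) x + (a : Equiv.Perm V) y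
        rw [← hp]
        exact smul_add p x y }
  let π : G →* G₁ := f.rangeRestrict
  have hπs : Function.Surjective π := f.rangeRestrict_surjective
  haveI : Finite G₁ := Finite.of_surjective π hπs
  have heq : ∀ (g : G) (v : V), AddMonoidHom.id V (π g • v) = g • AddMonoidHom.id V v := fun _ _ => rfl
  have hSyl : SylIn 2 (S.map π) (P.map π) := by
    refine ⟨Subgroup.map_mono hS.le, hS.pg.map π, ?_⟩
    intro hd
    apply hS.idx
    refine hd.trans ?_
    obtain ⟨Q, hQ⟩ := hS.toSylow
    have h1 : (S.map π).relIndex (P.map π) ∣ S.relIndex P := by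
      unfold Subgroup.relIndex
      let g : ↥P →* ↥(P.map π) := π.subgroupMap P
      have hg : Function.Surjective g := π.subgroupMap_surjective P
      have h2 : (S.subgroupOf P).map g = (S.map π).subgroupOf (P.map π) := by
        ext x
        constructor
        · rintro ⟨y, hy, rfl⟩
          exact Subgroup.mem_subgroupOf.2 ⟨y, hy, rfl⟩
        · intro hx
          obtain ⟨s, hs, hsx⟩ := Subgroup.mem_subgroupOf.1 hx
          exact ⟨⟨s, hS.le hs⟩, hs, Subtype.ext hsx⟩
      rw [← h2]
      exact Subgroup.index_map_dvd _ hg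
    exact h1
  have h1 : NO (S.map π) X := by
    apply NO.map (π := π) (ι := AddMonoidHom.id V) Function.injective_id heq
    rw [AddSubgroup.map_id]; exact hno
  have h3 : S.map π ≤ sb X := by
    rintro _ ⟨s, hs, rfl⟩
    exact hSX hs
  have hS3' : ¬ Involves (Equiv.Perm (Fin 3)) (P.map π) := by
    intro h
    apply hS3
    let j : ↥(P.map π) →* ↥(P.map f) :=
      { toFun := fun x => ⟨((x : G₁) : Equiv.Perm V), by
          obtain ⟨p, hp, hpx⟩ := x.2
          exact ⟨p, hp, congrArg Subtype.val hpx⟩⟩
        map_one' := rfl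
        map_mul' := fun _ _ => rfl }
    have hj : Function.Injective j := fun a b hab => by
      apply Subtype.ext; apply Subtype.ext
      exact congrArg (fun x : ↥(P.map f) => (x : Equiv.Perm V)) hab
    exact Fus21.involves_of_injective j hj h
  have h4 := clm h2 hS3' hSyl h3 h1
  have h5 : oc (P.map π) X = oc P X := by
    unfold oc
    congr 1
    ext y
    constructor
    · rintro ⟨_, ⟨k, hk, rfl⟩, x, hx, rfl⟩
      exact ⟨k, hk, x, hx, rfl⟩
    · rintro ⟨k, hk, x, hx, rfl⟩
      exact ⟨π k, ⟨k, hk, rfl⟩, x, hx, rfl⟩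
  rw [h5] at h4
  have := NO.of_map (π := π) (ι := AddMonoidHom.id V) Function.injective_id heq h4
  rwa [AddSubgroup.map_id] at this

section Grp

variable {G : Type u} [Group G]

/-- no offenders, in a group -/
def NOg (T W : Subgroup G) : Prop :=
  ∀ E : Subgroup G, E ≤ T → (∀ e ∈ E, ∀ w ∈ W, e * (e * w * e⁻¹) * e⁻¹ = w) →
    ¬ E ≤ centralizer (W : Set G) →
    Nat.card E * Nat.card ↥(W ⊓ centralizer (E : Set G)) <
      Nat.card W * Nat.card ↥(E ⊓ centralizer (W : Set G))

/-- the subgroup generated by the `K`-conjugates of `X` -/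
def og (K X : Subgroup G) : Subgroup G := Subgroup.closure {y | ∃ k ∈ K, ∃ x ∈ X, y = k * x * k⁻¹}

theorem conj_mem_nrm {V : Subgroup G} {n v : G} (hn : n ∈ normalizer (V : Set G)) (hv : v ∈ V) :
    n * v * n⁻¹ ∈ V := (Subgroup.mem_normalizer_iff.1 hn v).1 hv

/-- commutativity instance of an elementary abelian subgroup -/
@[reducible] def elComm {V : Subgroup G} (hV : El V) : CommGroup ↥V :=
  { (inferInstance : Group ↥V) with
    mul_comm := fun a b => Subtype.ext (hV.comm a.2 b.2) }

/-- the normalizer acting on the additive version of `V` -/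
@[reducible] def nact (V : Subgroup G) (hV : El V) :
    letI := elComm hV
    DistribMulAction ↥(normalizer (V : Set G)) (Additive ↥V) :=
  letI := elComm hV
  { smul := fun n v => Additive.ofMul ⟨(n : G) * (v.toMul : G) * (n : G)⁻¹, conj_mem_nrm n.2 v.toMul.2⟩
    one_smul := fun v => by
      apply Additive.toMul.injective
      apply Subtype.ext
      show (1 : G) * (v.toMul : G) * (1 : G)⁻¹ = v.toMul
      simp
    mul_smul := fun a b v => by
      apply Additive.toMul.injective
      apply Subtype.ext
      show ((a : G) * b) * (v.toMul : G) * ((a : G) * b)⁻¹ = (a : G) * ((b : G) * (v.toMul : G) * (b : G)⁻¹) * (a : G)⁻¹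
      group
    smul_zero := fun a => by
      apply Additive.toMul.injective
      apply Subtype.ext
      show (a : G) * 1 * (a : G)⁻¹ = 1
      simp
    smul_add := fun a x y => by
      apply Additive.toMul.injective
      apply Subtype.ext
      show (a : G) * ((x.toMul : G) * (y.toMul : G)) * (a : G)⁻¹ = ((a : G) * (x.toMul : G) * (a : G)⁻¹) * ((a : G) * (y.toMul : G) * (a : G)⁻¹)
      group }

theorem og_le {K X W : Subgroup G} (h : ∀ k ∈ K, cj k X ≤ W) : og K X ≤ W := by
  unfold og
  rw [Subgroup.closure_le]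
  rintro y ⟨k, hk, x, hx, rfl⟩
  exact h k hk (conj_mem_cj hx)

theorem cj_le_og {K X : Subgroup G} {k : G} (hk : k ∈ K) : cj k X ≤ og K X := by
  rw [cj_le']
  intro d hd
  exact Subgroup.subset_closure ⟨k, hk, d, hd, rfl⟩

theorem le_og {K X : Subgroup G} : X ≤ og K X := by
  have := cj_le_og (K := K) (X := X) (one_mem K)
  rwa [cj_one] at this

theorem le_nrm_og (K X : Subgroup G) : K ≤ normalizer (og K X : Set G) := by
  have key : ∀ k ∈ K, cj k (og K X) ≤ og K X := by
    intro k hk
    rw [cj_le_iff]
    apply og_le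
    intro m hm
    rw [le_cj_iff, inv_inv, ← cj_mul]
    exact cj_le_og (mul_mem hk hm)
  intro k hk
  rw [mem_nrm]
  apply le_antisymm (key k hk)
  rw [le_cj_iff]
  exact key _ (inv_mem hk)

theorem og_le_of_nrm {K X W : Subgroup G} (hX : X ≤ W) (hK : K ≤ normalizer (W : Set G)) :
    og K X ≤ W := og_le fun k hk => by
      have := cj_mono (a := k) hX
      rwa [mem_nrm.1 (hK hk)] at this

theorem og_mono {K L X Y : Subgroup G} (h : K ≤ L) (h' : X ≤ Y) : og K X ≤ og L Y :=
  og_le fun _ hk => (cj_mono h').trans (cj_le_og (h hk))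

/-- **the key theorem in a finite group** -/
theorem clm_group [Finite G] {V P S X : Subgroup G} (hV : El V) (hPV : P ≤ normalizer (V : Set G))
    (hS3 : ¬ Involves (Equiv.Perm (Fin 3)) (↥(normalizer (V : Set G)) ⧸
      (centralizer (V : Set G)).subgroupOf (normalizer (V : Set G))))
    (hS : SylIn 2 S P) (hXV : X ≤ V) (hSX : S ≤ normalizer (X : Set G)) (hno : NOg S X) :
    NOg S (og P X) := by
  letI := elComm hV
  let N : Subgroup G := normalizer (V : Set G)
  letI i2 : DistribMulAction ↥N (Additive ↥V) := nact V hV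
  have hsm : ∀ (n : ↥N) (v : Additive ↥V),
      (((n • v : Additive ↥V).toMul : ↥V) : G) = (n : G) * ((v.toMul : ↥V) : G) * (n : G)⁻¹ :=
    fun n v => by
      have : (n • v : Additive ↥V) = i2.smul n v := rfl
      rfl
  let cs : Subgroup G → AddSubgroup (Additive ↥V) := fun W => Subgroup.toAddSubgroup (W.subgroupOf V)
  have mem_cs : ∀ (W : Subgroup G) (v : Additive ↥V), v ∈ cs W ↔ ((v.toMul : ↥V) : G) ∈ W := fun _ _ => Iff.rfl
  have card_cs : ∀ W : Subgroup G, W ≤ V → Nat.card ↥(cs W) = Nat.card W := by
    intro W hW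
    exact Nat.card_congr (Subgroup.subgroupOfEquivOfLe hW).toEquiv
  have card_ts : ∀ T : Subgroup G, T ≤ N → Nat.card ↥(T.subgroupOf N) = Nat.card T := by
    intro T hT
    exact Nat.card_congr (Subgroup.subgroupOfEquivOfLe hT).toEquiv
  have hfx : ∀ (W T : Subgroup G), T ≤ N → cs W ⊓ fx (Additive ↥V) (T.subgroupOf N) = cs (W ⊓ centralizer (T : Set G)) := by
    intro W T hT
    ext v
    constructor
    · rintro ⟨h1, h2⟩
      refine ⟨h1, mem_centralizer_iff.2 ?_⟩
      intro t ht
      have := h2 ⟨t, hT ht⟩ ht
      have h3 := congrArg (fun x : Additive ↥V => ((x.toMul : ↥V) : G)) this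
      simp only [hsm] at h3
      exact mul_inv_eq_iff_eq_mul.1 h3
    · rintro ⟨h1, h2⟩
      refine ⟨h1, fun t ht => ?_⟩
      replace h2 := mem_centralizer_iff.1 h2
      apply Additive.toMul.injective
      apply Subtype.ext
      rw [hsm]
      exact mul_inv_eq_iff_eq_mul.2 (h2 t ht)
  have hct : ∀ (W T : Subgroup G), W ≤ V → T.subgroupOf N ⊓ ct (cs W) = (T ⊓ centralizer (W : Set G)).subgroupOf N := by
    intro W T hW
    ext n
    constructor
    · rintro ⟨h1, h2⟩
      refine ⟨h1, mem_centralizer_iff.2 ?_⟩
      intro w hw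
      have := h2 (Additive.ofMul ⟨w, hW hw⟩) hw
      have h3 := congrArg (fun x : Additive ↥V => ((x.toMul : ↥V) : G)) this
      simp only [hsm] at h3
      exact (mul_inv_eq_iff_eq_mul.1 h3).symm
    · rintro ⟨h1, h2⟩
      refine ⟨h1, fun w hw => ?_⟩
      replace h2 := mem_centralizer_iff.1 h2
      apply Additive.toMul.injective
      apply Subtype.ext
      rw [hsm]
      exact mul_inv_eq_iff_eq_mul.2 (h2 _ hw).symm
  have hNO : ∀ (T W : Subgroup G), T ≤ N → W ≤ V → (NO (T.subgroupOf N) (cs W) ↔ NOg T W) := by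
    intro T W hT hW
    constructor
    · intro h E hE h1 h3
      have hEN : E ≤ N := hE.trans hT
      have h4 := h (E.subgroupOf N) (fun x hx => hE hx) ?_ ?_
      · rw [hfx W E hEN, hct W E hW, card_cs _ hW, card_cs _ (inf_le_left.trans hW), card_ts _ hEN,
          card_ts _ (inf_le_left.trans hEN)] at h4
        exact h4
      · intro e he w hw
        apply Additive.toMul.injective
        apply Subtype.ext
        rw [hsm, hsm]
        exact h1 _ he _ hw
      · by_contra hc
        push Not at hc
        apply h3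
        intro e he
        rw [mem_centralizer_iff]
        intro w hw
        have := hc ⟨e, hEN he⟩ he (Additive.ofMul ⟨w, hW hw⟩) hw
        have h5 := congrArg (fun x : Additive ↥V => ((x.toMul : ↥V) : G)) this
        simp only [hsm] at h5
        exact (mul_inv_eq_iff_eq_mul.1 h5).symm
    · intro h E hE h1 h3
      have hEe : (E.map N.subtype).subgroupOf N = E := by
        rw [Subgroup.subgroupOf, Subgroup.comap_map_eq_self_of_injective N.subtype_injective]
      have hEN : E.map N.subtype ≤ N := Subgroup.map_subtype_le _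
      have h4 := h (E.map N.subtype) (by
          rintro _ ⟨e, he, rfl⟩
          exact hE he) ?_ ?_
      · rw [← card_cs _ hW, ← card_cs _ ((inf_le_left : W ⊓ centralizer ((E.map N.subtype : Subgroup G) : Set G) ≤ W).trans hW),
          ← hfx W _ hEN, ← card_ts _ hEN, ← card_ts _ ((inf_le_left : (E.map N.subtype) ⊓ centralizer (W : Set G) ≤ _).trans hEN),
          ← hct W _ hW, hEe] at h4
        exact h4
      · rintro _ ⟨e, he, rfl⟩ w hw
        have := h1 e he (Additive.ofMul ⟨w, hW hw⟩) hw
        have h5 := congrArg (fun x : Additive ↥V => ((x.toMul : ↥V) : G)) this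
        simp only [hsm] at h5
        exact h5
      · intro hc
        obtain ⟨e, he, w, hw, hne⟩ := h3
        apply hne
        apply Additive.toMul.injective
        apply Subtype.ext
        rw [hsm]
        have := hc ⟨e, he, rfl⟩
        rw [mem_centralizer_iff] at this
        exact mul_inv_eq_iff_eq_mul.2 (this _ hw).symm
  have hPc : ∀ K : Subgroup G, K ≤ N → oc (K.subgroupOf N) (cs X) = cs (og K X) := by
    intro K hK
    apply le_antisymm
    · apply oc_le
      intro k hk v hv
      rw [mem_tr, mem_cs, hsm] at hv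
      rw [mem_cs]
      have : ((v.toMul : ↥V) : G) = (k : G) * (((k⁻¹ : ↥N) : G) * ((v.toMul : ↥V) : G) * ((k⁻¹ : ↥N) : G)⁻¹) * (k : G)⁻¹ := by
        simp [mul_assoc]
      rw [this]
      exact Subgroup.subset_closure ⟨k, hk, _, hv, rfl⟩
    · have key : og K X ≤ ((AddSubgroup.toSubgroup' (oc (K.subgroupOf N) (cs X)))).map V.subtype := by
        unfold og
        rw [Subgroup.closure_le]
        rintro y ⟨k, hk, x, hx, rfl⟩
        refine ⟨⟨k * x * k⁻¹, conj_mem_nrm (hK hk) (hXV hx)⟩, ?_, rfl⟩
        exact smul_mem_oc (K := K.subgroupOf N) (X := cs X) (k := (⟨k, hK hk⟩ : ↥N)) hk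
          (x := (Additive.ofMul (⟨x, hXV hx⟩ : ↥V) : Additive ↥V)) hx
      intro v hv
      rw [mem_cs] at hv
      obtain ⟨w, hw, hwv⟩ := key hv
      have : w = v.toMul := Subtype.ext hwv
      rw [this] at hw
      exact hw
  have h2 : ∀ v : Additive ↥V, v + v = 0 := fun v => by
    apply Additive.toMul.injective
    apply Subtype.ext
    exact hV _ v.toMul.2
  have hSN : S ≤ N := hS.le.trans hPV
  have hSyl : SylIn 2 (S.subgroupOf N) (P.subgroupOf N) := by
    refine ⟨fun x hx => hS.le hx, hS.pg.comap_subtype, ?_⟩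
    have : (S.subgroupOf N).relIndex (P.subgroupOf N) = S.relIndex P := by
      have h1 := Subgroup.relIndex_map_map_of_injective (S.subgroupOf N) (P.subgroupOf N) N.subtype_injective
      rw [Subgroup.subgroupOf_map_subtype, Subgroup.subgroupOf_map_subtype, inf_eq_left.2 hSN, inf_eq_left.2 hPV] at h1
      exact h1.symm
    rw [this]; exact hS.idx
  have hS3' : ¬ Involves (Equiv.Perm (Fin 3)) ((P.subgroupOf N).map (MulAction.toPermHom ↥N (Additive ↥V))) := by
    intro h
    apply hS3
    let f := MulAction.toPermHom ↥N (Additive ↥V)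
    have h1 : Involves (Equiv.Perm (Fin 3)) f.range :=
      Fus21.involves_of_injective (Subgroup.inclusion (Subgroup.map_le_range f _)) (Subgroup.inclusion_injective _) h
    have hker : (centralizer (V : Set G)).subgroupOf N ≤ f.ker := by
      intro n hn
      rw [MonoidHom.mem_ker]
      ext v
      show (((n • v : Additive ↥V).toMul : ↥V) : G) = _
      rw [hsm]
      have := mem_subgroupOf.1 hn
      rw [mem_centralizer_iff] at this
      exact mul_inv_eq_iff_eq_mul.2 (this _ v.toMul.2).symm
    let f' := QuotientGroup.lift ((centralizer (V : Set G)).subgroupOf N) f.rangeRestrict (by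
      intro n hn
      rw [MonoidHom.mem_ker]
      apply Subtype.ext
      exact hker hn)
    have hf' : Function.Surjective f' := by
      intro y
      obtain ⟨n, hn⟩ := f.rangeRestrict_surjective y
      exact ⟨QuotientGroup.mk n, hn⟩
    exact Fus21.involves_of_surjective f' hf' h1
  have hsb : S.subgroupOf N ≤ sb (cs X) := by
    apply le_sb_of_forall
    intro s hs w hw
    rw [mem_cs, hsm]
    exact conj_mem_nrm (hSX hs) hw
  have hmain := clm' h2 hS3' hSyl hsb ((hNO S X hSN hXV).2 hno)
  rw [hPc P hPV] at hmain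
  exact (hNO S _ hSN (og_le_of_nrm hXV hPV)).1 hmain

end Grp

end CfsgLib.NO9
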