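import Cfsg.Agent.LibNO9I
import Cfsg.Agent.LibH2Thomp

/-! Factorizations of groups without section `S₄`. -/

set_option autoImplicit false

namespace CfsgLib.NO9

open Cfsg Subgroup CfsgLib.FusionH12

universe u v

variable {G : Type u} [Group G]

theorem elab_of_El {A : Subgroup G} (h : El A) : IsElementaryAbelian 2 A :=
  ⟨H2Quad.mulComm_of_comm fun x hx y hy => h.comm hx hy, fun a ha => by rw [pow_two]; exact h a ha⟩

theorem El_of_elab {A : Subgroup G} (h : IsElementaryAbelian 2 A) : El A := fun e he => by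
  rw [← pow_two]; exact h.2 e he

/-- the product of two commuting elementary abelian groups -/
theorem El.sup {A B : Subgroup G} (hA : El A) (hB : El B) (h : A ≤ centralizer (B : Set G)) : El (A ⊔ B) := by
  have hBc : B ≤ centralizer (B : Set G) := fun b hb => by
    rw [mem_centralizer_iff]; intro c hc; exact hB.comm hc hb
  have hAc : A ≤ centralizer (A : Set G) := fun b hb => by
    rw [mem_centralizer_iff]; intro c hc; exact hA.comm hc hb
  have hBA : B ≤ centralizer (A : Set G) := Subgroup.le_centralizer_iff.1 h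
  have h1 : A ⊔ B ≤ centralizer ((A ⊔ B : Subgroup G) : Set G) := by
    rw [← Subgroup.le_centralizer_iff]
    refine sup_le ?_ ?_
    · rw [Subgroup.le_centralizer_iff]; exact sup_le hAc hBA
    · rw [Subgroup.le_centralizer_iff]; exact sup_le h hBc
  intro e he
  rw [Subgroup.sup_eq_closure] at he
  induction he using Subgroup.closure_induction with
  | mem x hx =>
    rcases hx with hx | hx
    · exact hA x hx
    · exact hB x hx
  | one => exact one_mul 1
  | mul x y hx hy ihx ihy =>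
    rw [← Subgroup.sup_eq_closure] at hx hy
    have hc : y * x = x * y := (mem_centralizer_iff.1 (h1 hx)) y hy
    calc x * y * (x * y) = x * (y * x) * y := by group
      _ = x * (x * y) * y := by rw [hc]
      _ = (x * x) * (y * y) := by group
      _ = 1 := by rw [ihx, ihy, one_mul]
  | inv x _ ihx => rw [← mul_inv_rev, ihx, inv_one]

/-- elementary abelian subgroups of maximal order centralize modules without offenders -/
theorem max_le_centralizer [Finite G] {S V A : Subgroup G} (hV : El V) (hVS : V ≤ S)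
    (hSV : S ≤ normalizer (V : Set G)) (hno : NOg S V)
    (hA : A ∈ H2Thomp.maxIn (IsElementaryAbelian 2) S) : A ≤ centralizer (V : Set G) := by
  by_contra hcon
  have hAel := El_of_elab hA.2.1
  have h1 := hno A hA.1 (fun e he w _ => by
    have h2 := hAel e he
    have h3 : e⁻¹ = e := inv_eq_of_mul_eq_one_left h2
    calc e * (e * w * e⁻¹) * e⁻¹ = (e * e) * w * (e⁻¹ * e⁻¹) := by group
      _ = w := by rw [h3, h2]; simp) hcon
  have hB : El (V ⊔ (A ⊓ centralizer (V : Set G))) :=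
    hV.sup (hAel.anti inf_le_left) (Subgroup.le_centralizer_iff.1 inf_le_right)
  have h2 := hA.2.2 _ (sup_le hVS (inf_le_left.trans hA.1)) (elab_of_El hB)
  have h3 := card_sup_mul_of_comm (A := V) (B := A ⊓ centralizer (V : Set G)) (fun x hx y hy => by
    exact (mem_centralizer_iff.1 hy.2 x hx))
  have h4 : V ⊓ (A ⊓ centralizer (V : Set G)) ≤ V ⊓ centralizer (A : Set G) := by
    refine le_inf inf_le_left ?_
    intro x hx
    rw [mem_centralizer_iff]
    intro a ha
    exact hAel.comm ha hx.2.1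
  have h5 := Subgroup.card_le_of_le h4
  have h6 : Nat.card V * Nat.card ↥(A ⊓ centralizer (V : Set G)) ≤ Nat.card A * Nat.card ↥(V ⊓ centralizer (A : Set G)) := by
    rw [← h3]
    exact Nat.mul_le_mul h2 h5
  omega

/-- `Ω₁(Z(S))` -/
def Om (S : Subgroup G) : Subgroup G := omegaOne 2 (S ⊓ centralizer (S : Set G))

theorem mem_Om {S : Subgroup G} {x : G} : x ∈ Om S ↔ x ∈ S ⊓ centralizer (S : Set G) ∧ x ^ 2 = 1 :=
  H2Thomp.mem_omegaOne_of_comm (H2Thomp.center_comm S)

theorem El_Om (S : Subgroup G) : El (Om S) := El_of_elab (H2Thomp.omegaOne_elab (H2Thomp.center_comm S))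

theorem Om_le (S : Subgroup G) : Om S ≤ S ⊓ centralizer (S : Set G) := H2Thomp.omegaOne_le 2 _

theorem cj_Om (g : G) (S : Subgroup G) : cj g (Om S) = Om (cj g S) := by
  ext x
  rw [mem_cj, mem_Om, mem_Om, mem_inf, mem_inf, ← mem_cj, ← mem_cj (D := centralizer (S : Set G)), cj_centralizer]
  have : (g⁻¹ * x * g) ^ 2 = g⁻¹ * x ^ 2 * g := by rw [pow_two, pow_two]; group
  rw [this]
  refine and_congr_right fun _ => ?_
  constructor
  · intro h
    have h2 : x ^ 2 = g * (g⁻¹ * x ^ 2 * g) * g⁻¹ := by group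
    rw [h2, h]; group
  · intro h; rw [h]; group

theorem nrm_le_nrm_Om (S : Subgroup G) : normalizer (S : Set G) ≤ normalizer (Om S : Set G) := by
  intro g hg
  rw [mem_nrm] at hg ⊢
  rw [cj_Om, hg]

theorem NOg_of_central {S X : Subgroup G} (h : X ≤ centralizer (S : Set G)) : NOg S X := by
  intro E hE _ h1
  exact absurd (hE.trans (Subgroup.le_centralizer_iff.1 h)) h1

theorem s3_of_s4 [Finite G] (h4 : ¬ Involves (Equiv.Perm (Fin 4)) G) {V : Subgroup G} (hV : IsPGroup 2 V) :
    ¬ Involves (Equiv.Perm (Fin 3)) (↥(normalizer (V : Set G)) ⧸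
      (centralizer (V : Set G)).subgroupOf (normalizer (V : Set G))) :=
  fun h => h4 (KD2.s2759.2 ⟨V, hV, h⟩)

/-- no offenders on `⟨X^P⟩`, group without section `S₄` -/
theorem NOg_og [Finite G] (h4 : ¬ Involves (Equiv.Perm (Fin 4)) G) {V P S X : Subgroup G} (hV : El V)
    (hPV : P ≤ normalizer (V : Set G)) (hS : SylIn 2 S P) (hXV : X ≤ V)
    (hSX : S ≤ normalizer (X : Set G)) (hno : NOg S X) : NOg S (og P X) :=
  clm_group hV hPV (s3_of_s4 h4 hV.isPGroup) hS hXV hSX hno

/-- Theorem B -/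
theorem thmB [Finite G] (h4 : ¬ Involves (Equiv.Perm (Fin 4)) G) {V P S : Subgroup G} (hV : El V)
    (hPV : P ≤ normalizer (V : Set G)) (hS : SylIn 2 S P) (hXV : Om S ≤ V) (hVS : V ≤ S) :
    NOg S (og P (Om S)) ∧ H2Thomp.Je 2 S ≤ centralizer (og P (Om S) : Set G) := by
  have h1 : NOg S (og P (Om S)) := NOg_og h4 hV hPV hS hXV
    (Subgroup.le_normalizer.trans (nrm_le_nrm_Om S)) (NOg_of_central ((Om_le S).trans inf_le_right))
  refine ⟨h1, sSup_le fun A hA => ?_⟩
  exact max_le_centralizer (hV.anti (og_le_of_nrm hXV hPV)) ((og_le_of_nrm hXV hPV).trans hVS)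
    (hS.le.trans (le_nrm_og P _)) h1 hA

theorem Je_cj (g : G) (S : Subgroup G) : cj g (H2Thomp.Je 2 S) = H2Thomp.Je 2 (cj g S) :=
  (H2Thomp.Je_map 2 (MulAut.conj g).toMonoidHom (MulAut.conj g).injective.injOn).symm

theorem nrm_le_nrm_Je (S : Subgroup G) : normalizer (S : Set G) ≤ normalizer (H2Thomp.Je 2 S : Set G) := by
  intro g hg
  rw [mem_nrm] at hg ⊢
  rw [Je_cj, hg]

theorem Je_le (S : Subgroup G) : H2Thomp.Je 2 S ≤ S := H2Thomp.JQ_le _ _

theorem Je_eq [Finite G] {S T : Subgroup G} (h : T ≤ S) (hJ : H2Thomp.Je 2 S ≤ T) : H2Thomp.Je 2 T = H2Thomp.Je 2 S :=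
  H2Thomp.JQ_eq_of_le (H2Thomp.elab_bot 2) h hJ

/-- a Frattini argument: factorization -/
theorem factor_of_le [Finite G] {P S D : Subgroup G} (hS : SylIn 2 S P) (hD : D ≤ P)
    (hPD : P ≤ normalizer (D : Set G)) (hJ : H2Thomp.Je 2 S ≤ D) {g : G} (hg : g ∈ P) :
    ∃ d ∈ D, ∃ n ∈ normalizer (H2Thomp.Je 2 S : Set G), g = d * n := by
  have hT : SylIn 2 (S ⊓ D) D := hS.inf_normal hD hPD
  obtain ⟨n, hn, hng⟩ := frattini hT hPD hg
  have h1 : H2Thomp.Je 2 (S ⊓ D) = H2Thomp.Je 2 S := Je_eq inf_le_left (le_inf (Je_le S) hJ)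
  refine ⟨n⁻¹, inv_mem hn, n * g, ?_, by group⟩
  rw [← h1]
  exact nrm_le_nrm_Je _ hng

section Trace

/-- fixed points of a Sylow subgroup: involutions suffice -/
theorem trace_fix {D A : Type*} [Group D] [Finite D] [CommGroup A] [Finite A] [MulDistribMulAction D A]
    (hA : IsPGroup 2 A) (T : Subgroup D) (hT : ¬ 2 ∣ T.index)
    (hinv : ∀ a : A, a ^ 2 = 1 → (∀ t ∈ T, t • a = a) → ∀ d : D, d • a = a) :
    ∀ a : A, (∀ t ∈ T, t • a = a) → ∀ d : D, d • a = a := by
  classical
  haveI : Fintype (D ⧸ T) := Fintype.ofFinite _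
  let tr : A → A := fun a => ∏ q : D ⧸ T, (Quotient.out q) • a
  have htr_mul : ∀ a b, tr (a * b) = tr a * tr b := by
    intro a b
    show ∏ q : D ⧸ T, (Quotient.out q) • (a * b) = (∏ q : D ⧸ T, (Quotient.out q) • a) * ∏ q : D ⧸ T, (Quotient.out q) • b
    rw [← Finset.prod_mul_distrib]
    exact Finset.prod_congr rfl fun q _ => smul_mul' _ _ _
  have htr_fix : ∀ a, (∀ d : D, d • a = a) → tr a = a ^ T.index := by
    intro a ha
    show ∏ q : D ⧸ T, (Quotient.out q) • a = _
    rw [Finset.prod_congr rfl (fun q _ => ha _), Finset.prod_const, Finset.card_univ, Subgroup.index,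
      Nat.card_eq_fintype_card]
  have htr_inv : ∀ a, (∀ t ∈ T, t • a = a) → ∀ d : D, d • tr a = tr a := by
    intro a ha d
    show d • ∏ q : D ⧸ T, (Quotient.out q) • a = ∏ q : D ⧸ T, (Quotient.out q) • a
    rw [Finset.smul_prod']
    refine Fintype.prod_equiv (MulAction.toPerm d) _ _ fun q => ?_
    show d • (Quotient.out q) • a = (Quotient.out (d • q)) • a
    have h1 : (Quotient.out (d • q) : D)⁻¹ * (d * Quotient.out q) ∈ T := by
      apply QuotientGroup.eq.1
      rw [QuotientGroup.out_eq']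
      show d • q = ((d * Quotient.out q : D) : D ⧸ T)
      conv_lhs => rw [← QuotientGroup.out_eq' q]
      rfl
    have h2 := ha _ h1
    rw [mul_smul, inv_smul_eq_iff, mul_smul] at h2
    exact h2
  have htr_pow : ∀ a (k : ℕ), tr (a ^ k) = tr a ^ k := by
    intro a k
    induction k with
    | zero => rw [pow_zero, pow_zero, htr_fix 1 (fun d => smul_one d), one_pow]
    | succ k ih => rw [pow_succ, htr_mul, ih, pow_succ]
  intro a ha
  set m := T.index with hm
  let w : A := a ^ m * (tr a)⁻¹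
  have hwT : ∀ t ∈ T, t • w = w := by
    intro t ht
    show t • (a ^ m * (tr a)⁻¹) = a ^ m * (tr a)⁻¹
    rw [smul_mul', smul_inv', htr_inv a ha t, smul_pow', ha t ht]
  have htrinv : ∀ b, tr b⁻¹ = (tr b)⁻¹ := by
    intro b
    have := htr_mul b b⁻¹
    rw [mul_inv_cancel, htr_fix 1 (fun d => smul_one d), one_pow] at this
    exact (inv_eq_of_mul_eq_one_right this.symm).symm
  have htrw : tr w = 1 := by
    show tr (a ^ m * (tr a)⁻¹) = 1
    rw [htr_mul, htr_pow, htrinv, htr_fix (tr a) (htr_inv a ha), mul_inv_cancel]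
  have hw1 : w = 1 := by
    by_contra hne
    obtain ⟨k, hk⟩ := (IsPGroup.iff_orderOf.1 hA) w
    have hk0 : k ≠ 0 := by
      rintro rfl
      rw [pow_zero, orderOf_eq_one_iff] at hk
      exact hne hk
    obtain ⟨j, rfl⟩ : ∃ j, k = j + 1 := ⟨k - 1, by omega⟩
    have hu2 : (w ^ 2 ^ j) ^ 2 = 1 := by
      rw [← pow_mul, ← pow_succ, ← hk]; exact pow_orderOf_eq_one w
    have hu1 : w ^ 2 ^ j ≠ 1 := by
      intro h
      have := orderOf_dvd_of_pow_eq_one h
      rw [hk] at this
      have := (Nat.pow_dvd_pow_iff_le_right (by norm_num : 1 < 2)).1 this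
      omega
    have huT : ∀ t ∈ T, t • (w ^ 2 ^ j) = w ^ 2 ^ j := fun t ht => by rw [smul_pow', hwT t ht]
    have huD := hinv _ hu2 huT
    have h1 := htr_fix _ huD
    rw [htr_pow, htrw, one_pow] at h1
    apply hu1
    obtain ⟨c, hc⟩ : ∃ c, m = 2 * c + 1 := ⟨m / 2, by omega⟩
    rw [hc, pow_succ, pow_mul, hu2, one_pow, one_mul] at h1
    exact h1.symm
  have h3 : a ^ m = tr a := by
    have : a ^ m * (tr a)⁻¹ = 1 := hw1
    exact mul_inv_eq_one.1 this
  have h4 : ∀ d : D, d • a ^ m = a ^ m := fun d => by rw [h3]; exact htr_inv a ha d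
  intro d
  have hb : ((d • a) * a⁻¹) ^ m = 1 := by
    rw [mul_pow, inv_pow, ← smul_pow', h4 d, mul_inv_cancel]
  obtain ⟨k, hk⟩ := (IsPGroup.iff_orderOf.1 hA) ((d • a) * a⁻¹)
  have h5 := orderOf_dvd_of_pow_eq_one hb
  rw [hk] at h5
  have hk0 : k = 0 := by
    by_contra hne
    exact hT ((dvd_pow_self 2 hne).trans h5)
  rw [hk0, pow_zero, orderOf_eq_one_iff] at hk
  exact mul_inv_eq_one.1 hk

end Trace

end CfsgLib.NO9
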