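import Cfsg.Agent.LibNO9J
import Cfsg.Agent.LibH2Con

/-! Factorizations of groups of characteristic `2` without section `S₄`. -/

set_option autoImplicit false

namespace CfsgLib.NO9

open Cfsg Subgroup CfsgLib.FusionH12
open CfsgLib.H2Con (CP)
open scoped commutatorElement

universe u v

variable {G : Type u} [Group G]

theorem trace_group [Finite G] {A D S : Subgroup G} (hA : ∀ x ∈ A, ∀ y ∈ A, x * y = y * x)
    (hA2 : IsPGroup 2 A) (hD : D ≤ normalizer (A : Set G)) (hS : SylIn 2 S D)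
    (hinv : ∀ x ∈ A, x ^ 2 = 1 → x ∈ centralizer (S : Set G) → x ∈ centralizer (D : Set G)) :
    A ⊓ centralizer (S : Set G) ≤ centralizer (D : Set G) := by
  letI : CommGroup ↥A := { (inferInstance : Group ↥A) with
    mul_comm := fun a b => Subtype.ext (hA a a.2 b b.2) }
  letI i2 : MulDistribMulAction ↥D ↥A :=
    { smul := fun n v => ⟨(n : G) * (v : G) * (n : G)⁻¹, conj_mem_nrm (hD n.2) v.2⟩
      one_smul := fun v => Subtype.ext (by show (1 : G) * (v : G) * (1 : G)⁻¹ = v; simp)
      mul_smul := fun a b v => Subtype.ext (by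
        show ((a : G) * b) * (v : G) * ((a : G) * b)⁻¹ = (a : G) * ((b : G) * (v : G) * (b : G)⁻¹) * (a : G)⁻¹
        group)
      smul_one := fun a => Subtype.ext (by show (a : G) * 1 * (a : G)⁻¹ = 1; simp)
      smul_mul := fun a x y => Subtype.ext (by
        show (a : G) * ((x : G) * (y : G)) * (a : G)⁻¹ = ((a : G) * (x : G) * (a : G)⁻¹) * ((a : G) * (y : G) * (a : G)⁻¹)
        group) }
  have hsm : ∀ (n : ↥D) (v : ↥A), ((n • v : ↥A) : G) = (n : G) * (v : G) * (n : G)⁻¹ := fun _ _ => rfl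
  have key := trace_fix (D := ↥D) (A := ↥A) hA2 (S.subgroupOf D) hS.idx (by
    intro a ha ht d
    apply Subtype.ext
    rw [hsm]
    have h1 : (a : G) ∈ centralizer (D : Set G) := by
      apply hinv a a.2
      · have := congrArg Subtype.val ha
        exact this
      · rw [mem_centralizer_iff]
        intro s hs
        have := congrArg Subtype.val (ht ⟨s, hS.le hs⟩ hs)
        rw [hsm] at this
        exact mul_inv_eq_iff_eq_mul.1 this
    rw [mem_centralizer_iff] at h1
    exact mul_inv_eq_iff_eq_mul.2 (h1 d d.2))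
  intro x hx
  rw [mem_centralizer_iff]
  intro d hd
  have h1 := key ⟨x, hx.1⟩ (by
    intro t ht
    apply Subtype.ext
    rw [hsm]
    have := mem_centralizer_iff.1 hx.2 t ht
    exact mul_inv_eq_iff_eq_mul.2 this) ⟨d, hd⟩
  have h2 := congrArg Subtype.val h1
  rw [hsm] at h2
  exact mul_inv_eq_iff_eq_mul.1 h2

theorem pCore_le_SylIn [Finite G] {S : Subgroup G} (hS : SylIn 2 S ⊤) : pCore 2 G ≤ S := by
  obtain ⟨P, hP⟩ := hS.exists_sylow_coe
  rw [← hP]; exact Cores.pCore_le_sylow P

theorem top_le_nrm {N : Subgroup G} [N.Normal] : (⊤ : Subgroup G) ≤ normalizer (N : Set G) := by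
  rw [Subgroup.normalizer_eq_top]

theorem normal_of_top_le {N : Subgroup G} (h : (⊤ : Subgroup G) ≤ normalizer (N : Set G)) : N.Normal :=
  Subgroup.normalizer_eq_top_iff.1 (top_le_iff.1 h)

theorem centralizer_S_le [Finite G] (hcp : CP 2 G) {S : Subgroup G} (hS : SylIn 2 S ⊤) :
    centralizer (S : Set G) ≤ pCore 2 G :=
  (Subgroup.centralizer_le (pCore_le_SylIn hS)).trans hcp

/-- the basic module -/
theorem cp_basic [Finite G] (h4 : ¬ Involves (Equiv.Perm (Fin 4)) G) (hcp : CP 2 G) {S : Subgroup G}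
    (hS : SylIn 2 S ⊤) : og ⊤ (Om S) ≤ Om (pCore 2 G) ∧ NOg S (og ⊤ (Om S)) ∧
      H2Thomp.Je 2 S ≤ centralizer (og ⊤ (Om S) : Set G) := by
  have hQ := pCore_le_SylIn hS
  have h1 : Om S ≤ Om (pCore 2 G) := by
    intro x hx
    rw [mem_Om] at hx ⊢
    exact ⟨⟨centralizer_S_le hcp hS hx.1.2, Subgroup.centralizer_le hQ hx.1.2⟩, hx.2⟩
  have h2 : (⊤ : Subgroup G) ≤ normalizer (Om (pCore 2 G) : Set G) :=
    (top_le_nrm (N := pCore 2 G)).trans (nrm_le_nrm_Om _)
  have h3 : Om (pCore 2 G) ≤ S := (Om_le _).trans (inf_le_left.trans hQ)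
  exact ⟨og_le_of_nrm h1 h2, thmB h4 (El_Om _) h2 hS h1 h3⟩

/-- a normal subgroup centralizing `Ω₁(Z(S))` centralizes `Z(S)` -/
theorem cp_center [Finite G] (hcp : CP 2 G) {S D : Subgroup G} (hS : SylIn 2 S ⊤)
    (hD : D ≤ centralizer (Om S : Set G)) (hDn : (⊤ : Subgroup G) ≤ normalizer (D : Set G)) :
    D ≤ centralizer ((S ⊓ centralizer (S : Set G) : Subgroup G) : Set G) := by
  have hQ := pCore_le_SylIn hS
  set Q := pCore 2 G with hQdef
  set A := Q ⊓ centralizer (Q : Set G) with hA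
  have hDS : SylIn 2 S (D ⊔ S) := hS.mono le_sup_right le_top
  have hAn : (⊤ : Subgroup G) ≤ normalizer (A : Set G) :=
    (top_le_nrm (N := Q)).trans (H2Thomp.normalizer_le_center Q)
  have h1 := trace_group (A := A) (D := D ⊔ S) (S := S) (fun x hx y hy => mem_centralizer_iff.1 hy.2 x hx.1)
    ((Cores.pCore_isPGroup 2).to_le inf_le_left) (le_top.trans hAn) hDS (by
      intro x hx hx2 hxS
      have h2 : x ∈ Om S := mem_Om.2 ⟨⟨hQ hx.1, hxS⟩, hx2⟩
      have h3 : D ⊔ S ≤ centralizer ({x} : Set G) := by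
        refine sup_le ?_ ?_
        · intro d hd
          have := mem_centralizer_iff.1 (hD hd) x h2
          rw [mem_centralizer_iff]
          intro y hy
          rw [Set.mem_singleton_iff.1 hy]; exact this
        · intro d hd
          have := mem_centralizer_iff.1 hxS d hd
          rw [mem_centralizer_iff]
          intro y hy
          rw [Set.mem_singleton_iff.1 hy]; exact this.symm
      rw [mem_centralizer_iff]
      intro d hd
      have := mem_centralizer_iff.1 (h3 hd) x rfl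
      exact this.symm)
  have h2 : S ⊓ centralizer (S : Set G) ≤ A ⊓ centralizer (S : Set G) := by
    intro x hx
    exact ⟨⟨centralizer_S_le hcp hS hx.2, Subgroup.centralizer_le hQ hx.2⟩, hx.2⟩
  have h3 := h2.trans h1
  rw [Subgroup.le_centralizer_iff] at h3
  exact le_sup_left.trans h3

/-- **factorization** `G = C(Z(S)) N(J_e(S))` -/
theorem cp_factor [Finite G] (h4 : ¬ Involves (Equiv.Perm (Fin 4)) G) (hcp : CP 2 G) {S : Subgroup G}
    (hS : SylIn 2 S ⊤) (g : G) : ∃ c ∈ centralizer ((S ⊓ centralizer (S : Set G) : Subgroup G) : Set G),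
      ∃ n ∈ normalizer (H2Thomp.Je 2 S : Set G), g = c * n := by
  obtain ⟨-, -, h3⟩ := cp_basic h4 hcp hS
  set U := og ⊤ (Om S) with hU
  have hUn : (⊤ : Subgroup G) ≤ normalizer (U : Set G) := le_nrm_og _ _
  have hDn : (⊤ : Subgroup G) ≤ normalizer ((centralizer (U : Set G) : Subgroup G) : Set G) :=
    hUn.trans (H2Thomp.normalizer_le_normalizer_centralizer U)
  obtain ⟨d, hd, n, hn, e⟩ := factor_of_le hS le_top hDn h3 (mem_top g)
  have h5 := cp_center hcp hS (D := centralizer (U : Set G)) (Subgroup.centralizer_le le_og) hDn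
  exact ⟨d, h5 hd, n, hn, e⟩

theorem isPGroup_of_forall [Finite G] {K : Subgroup G} (h : ∀ x ∈ K, Nat.Coprime (orderOf x) 2 → x = 1) :
    IsPGroup 2 K := by
  rw [IsPGroup.iff_card]
  obtain ⟨k, hk⟩ : ∃ k, Nat.card K = 2 ^ k := by
    refine ⟨_, Nat.eq_prime_pow_of_unique_prime_dvd Nat.card_pos.ne' ?_⟩
    intro r hr hrK
    haveI : Fact r.Prime := ⟨hr⟩
    obtain ⟨x, hx⟩ := exists_prime_orderOf_dvd_card' (G := K) r hrK
    by_contra hne
    have h1 : orderOf (x : G) = r := by rw [Subgroup.orderOf_coe]; exact hx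
    have h2 := h x x.2 (by
      rw [h1]; exact (Nat.coprime_primes hr Nat.prime_two).2 hne)
    rw [h2, orderOf_one] at h1
    exact hr.one_lt.ne h1
  exact ⟨k, hk⟩

/-- class at most two -/
theorem cp_class2 [Finite G] (h4 : ¬ Involves (Equiv.Perm (Fin 4)) G) (hcp : CP 2 G) {S : Subgroup G}
    (hS : SylIn 2 S ⊤) (hcl : ⁅⁅S, S⁆, S⁆ = ⊥) :
    (⊤ : Subgroup G) ≤ normalizer (H2Thomp.Je 2 S : Set G) := by
  obtain ⟨-, -, h3⟩ := cp_basic h4 hcp hS
  have hQ := pCore_le_SylIn hS
  set Q := pCore 2 G with hQdef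
  set U := og ⊤ (Om S) with hU
  set Z := S ⊓ centralizer (S : Set G) with hZ
  set D := centralizer (U : Set G) with hD
  have hUn : (⊤ : Subgroup G) ≤ normalizer (U : Set G) := le_nrm_og _ _
  have hDn : (⊤ : Subgroup G) ≤ normalizer (D : Set G) :=
    hUn.trans (H2Thomp.normalizer_le_normalizer_centralizer U)
  have h5 : D ≤ centralizer (Z : Set G) := cp_center hcp hS (Subgroup.centralizer_le le_og) hDn
  set W := og ⊤ Z with hW
  have hWn : (⊤ : Subgroup G) ≤ normalizer (W : Set G) := le_nrm_og _ _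
  have hDW : D ≤ centralizer (W : Set G) := by
    rw [Subgroup.le_centralizer_iff]
    refine og_le_of_nrm (Subgroup.le_centralizer_iff.1 h5) ?_
    exact hDn.trans (H2Thomp.normalizer_le_normalizer_centralizer D)
  have hWQ : W ≤ Q := og_le_of_nrm (inf_le_right.trans (centralizer_S_le hcp hS)) (top_le_nrm (N := Q))
  have hSSZ : ⁅S, S⁆ ≤ Z := by
    refine le_inf (Subgroup.commutator_le_self S) ?_
    rw [← Subgroup.commutator_eq_bot_iff_le_centralizer]
    exact hcl
  -- `L` centralizes `Q/W`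
  let L : Subgroup G :=
    { carrier := {g | ∀ k : G, ∀ q ∈ Q, ⁅k * g * k⁻¹, q⁆ ∈ W}
      one_mem' := fun k q _ => by
        have : ⁅k * 1 * k⁻¹, q⁆ = 1 := by simp [commutatorElement_def]
        rw [this]; exact one_mem _
      mul_mem' := by
        intro a b ha hb k q hq
        have e : ⁅k * (a * b) * k⁻¹, q⁆ = (k * a * k⁻¹) * ⁅k * b * k⁻¹, q⁆ * (k * a * k⁻¹)⁻¹ * ⁅k * a * k⁻¹, q⁆ := by
          simp only [commutatorElement_def]; group
        rw [e]
        exact mul_mem (conj_mem_nrm (hWn (mem_top _)) (hb k q hq)) (ha k q hq)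
      inv_mem' := by
        intro a ha k q hq
        have e : ⁅k * a⁻¹ * k⁻¹, q⁆ = (k * a * k⁻¹)⁻¹ * ⁅k * a * k⁻¹, q⁆⁻¹ * ((k * a * k⁻¹)⁻¹)⁻¹ := by
          simp only [commutatorElement_def]; group
        rw [e]
        exact conj_mem_nrm (hWn (mem_top _)) (inv_mem (ha k q hq)) }
  have hLn : (⊤ : Subgroup G) ≤ normalizer (L : Set G) := by
    have key : ∀ m : G, cj m L ≤ L := by
      intro m
      rw [cj_le']
      intro d hd k q hq
      have := hd (k * m) q hq
      have e : k * (m * d * m⁻¹) * k⁻¹ = k * m * d * (k * m)⁻¹ := by group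
      rw [e]; exact this
    intro m _
    rw [mem_nrm]
    apply le_antisymm (key m)
    rw [le_cj_iff]; exact key _
  have hSL : S ≤ L := by
    intro s hs k q hq
    have h6 : ⁅s, k⁻¹ * q * k⁆ ∈ W := by
      apply le_og (K := (⊤ : Subgroup G))
      apply hSSZ
      apply Subgroup.commutator_mem_commutator hs
      apply hQ
      have := conj_mem_nrm (top_le_nrm (N := Q) (mem_top k⁻¹)) hq
      rwa [inv_inv] at this
    have e : ⁅k * s * k⁻¹, q⁆ = k * ⁅s, k⁻¹ * q * k⁆ * k⁻¹ := by
      simp only [commutatorElement_def]; group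
    rw [e]
    exact conj_mem_nrm (hWn (mem_top _)) h6
  have hp : IsPGroup 2 ↥(D ⊓ L) := by
    apply isPGroup_of_forall
    intro x hx hodd
    have h6 : x ∈ centralizer (Q : Set G) := by
      rw [mem_centralizer_iff]
      intro q hq
      have h7 : ⁅x, q⁆ ∈ W := by
        have := hx.2 1 q hq
        simpa using this
      set w := ⁅x, q⁆ with hw
      have h8 : x * w = w * x := (mem_centralizer_iff.1 (hDW hx.1) w h7).symm
      have h9 : ∀ n : ℕ, x ^ n * q * (x ^ n)⁻¹ = w ^ n * q := by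
        intro n
        induction n with
        | zero => simp
        | succ n ih =>
          have h10 : x * q * x⁻¹ = w * q := by rw [hw, commutatorElement_def]; group
          have h11 : Commute x (w ^ n) := (show Commute x w from h8).pow_right n
          calc x ^ (n + 1) * q * (x ^ (n + 1))⁻¹ = x * (x ^ n * q * (x ^ n)⁻¹) * x⁻¹ := by
                rw [pow_succ']; group
            _ = x * (w ^ n * q) * x⁻¹ := by rw [ih]
            _ = (x * w ^ n) * q * x⁻¹ := by group
            _ = (w ^ n * x) * q * x⁻¹ := by rw [h11.eq]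
            _ = w ^ n * (x * q * x⁻¹) := by group
            _ = w ^ (n + 1) * q := by rw [h10, pow_succ]; group
      have h12 := h9 (orderOf x)
      rw [pow_orderOf_eq_one] at h12
      have h13 : w ^ orderOf x = 1 := by
        have : q = w ^ orderOf x * q := by simpa using h12
        exact (mul_eq_right.1 this.symm)
      have h14 : w = 1 := by
        have hwQ : IsPGroup 2 Q := Cores.pCore_isPGroup 2
        obtain ⟨k, hk⟩ := (IsPGroup.iff_orderOf.1 hwQ) ⟨w, hWQ h7⟩
        have hk' : orderOf w = 2 ^ k := by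
          rw [← hk, ← Subgroup.orderOf_coe]
        have h15 := orderOf_dvd_of_pow_eq_one h13
        have h16 : Nat.Coprime (orderOf w) (orderOf x) := by
          rw [hk']; exact (Nat.Coprime.pow_left k hodd.symm)
        have h17 : orderOf w = 1 := Nat.Coprime.eq_one_of_dvd h16 h15
        exact orderOf_eq_one_iff.1 h17
      have h18 : ⁅x, q⁆ = 1 := h14
      exact (commutatorElement_eq_one_iff_mul_comm.1 h18).symm
    have h7 := hcp h6
    obtain ⟨k, hk⟩ := (IsPGroup.iff_orderOf.1 (Cores.pCore_isPGroup (G := G) 2)) ⟨x, h7⟩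
    have hk' : orderOf x = 2 ^ k := by
      rw [← hk, ← Subgroup.orderOf_coe]
    rw [← orderOf_eq_one_iff]
    rw [hk'] at hodd ⊢
    rcases Nat.eq_zero_or_pos k with h0 | h0
    · rw [h0, pow_zero]
    · exfalso
      have := (Nat.coprime_pow_left_iff h0 2 2).1 hodd
      norm_num at this
  have hnorm : (D ⊓ L).Normal := by
    haveI := normal_of_top_le hDn
    haveI := normal_of_top_le hLn
    infer_instance
  have hDLQ : D ⊓ L ≤ Q := Cores.le_pCore hnorm hp
  have hJQ : H2Thomp.Je 2 S ≤ Q := (le_inf h3 ((Je_le S).trans hSL)).trans hDLQ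
  have hJe : H2Thomp.Je 2 Q = H2Thomp.Je 2 S := Je_eq hQ hJQ
  rw [← hJe]
  exact (top_le_nrm (N := Q)).trans (nrm_le_nrm_Je Q)

theorem constrained_class2 [Finite G] (hcon : IsPConstrained 2 G) (hS4 : ¬ Involves (Equiv.Perm (Fin 4)) G)
    (S : Sylow 2 G) (hcl : Subgroup.lowerCentralSeries (S : Subgroup G) 2 = ⊥) :
    Subgroup.normalizer ((thompsonSubgroupOf 2 (S : Subgroup G)) : Set G) ⊔ pPrimeCore 2 G = ⊤ := by
  have hcp := H2Con.isPConstrained_iff.1 hcon
  set O := pPrimeCore 2 G with hO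
  have hOc : (Nat.card O).Coprime 2 := Cores.pPrimeCore_coprime 2
  let π := QuotientGroup.mk' O
  have hπ : Function.Surjective π := QuotientGroup.mk'_surjective O
  have h4' : ¬ Involves (Equiv.Perm (Fin 4)) (G ⧸ O) := fun h => hS4 (Fus21.involves_of_surjective π hπ h)
  have hSyl : SylIn 2 ((S : Subgroup G).map π) (⊤ : Subgroup (G ⧸ O)) := by
    refine ⟨le_top, S.2.map π, ?_⟩
    rw [relIndex_top_right]
    intro hd
    exact S.not_dvd_index (hd.trans (Subgroup.index_map_dvd _ hπ))
  have hcl' : ⁅⁅(S : Subgroup G).map π, (S : Subgroup G).map π⁆, (S : Subgroup G).map π⁆ = ⊥ := by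
    rw [← Subgroup.map_commutator, ← Subgroup.map_commutator]
    have : ⁅⁅(S : Subgroup G), (S : Subgroup G)⁆, (S : Subgroup G)⁆ = ⊥ := hcl
    rw [this, Subgroup.map_bot]
  have hmain := cp_class2 h4' hcp hSyl hcl'
  have hinj : Set.InjOn π (S : Subgroup G) := by
    intro x hx y hy hxy
    have h1 : x⁻¹ * y ∈ (S : Subgroup G) ⊓ O := by
      refine Subgroup.mem_inf.2 ⟨mul_mem (inv_mem hx) hy, ?_⟩
      exact QuotientGroup.eq.1 hxy
    have h2 : (S : Subgroup G) ⊓ O = ⊥ := by
      rw [Subgroup.eq_bot_iff_card]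
      have hd1 : Nat.card ↥((S : Subgroup G) ⊓ O) ∣ Nat.card O := Subgroup.card_dvd_of_le inf_le_right
      obtain ⟨k, hk⟩ := IsPGroup.iff_card.1 (S.2.to_le (inf_le_left : (S : Subgroup G) ⊓ O ≤ S))
      rw [hk] at hd1 ⊢
      have := Nat.Coprime.coprime_dvd_left hd1 hOc
      rcases Nat.eq_zero_or_pos k with h0 | h0
      · rw [h0, pow_zero]
      · exfalso
        have := (Nat.coprime_pow_left_iff h0 2 2).1 this
        norm_num at this
    rw [h2, mem_bot] at h1
    exact inv_mul_eq_one.1 h1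
  rw [H2Thomp.Je_map 2 π hinj] at hmain
  have h3 := H2Lift.normalizer_map_eq (X := H2Thomp.Je 2 (S : Subgroup G)) (N := O) (p := 2)
    (S.2.to_le (Je_le _)) hOc
  rw [H2Thomp.thompsonSubgroupOf_eq]
  have h5 : (normalizer (H2Thomp.Je 2 (S : Subgroup G) : Set G)).map π = ⊤ := by
    rw [← top_le_iff]
    exact hmain.trans h3.le
  have h6 := congrArg (Subgroup.comap π) h5
  rw [Subgroup.comap_map_eq, Subgroup.comap_top, QuotientGroup.ker_mk'] at h6
  exact h6

end CfsgLib.NO9
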