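import Cfsg.Agent.LibNO9K
import Cfsg.Agent.LibKQd2
import Cfsg.Agent.LibQd9D
import Cfsg.Agent.LibFusionH12f

/-! Control of strong fusion by `Z` and `J_e` in groups without section `S₄`. -/

set_option autoImplicit false

namespace CfsgLib.NO9

open Cfsg Subgroup CfsgLib.FusionH12 CfsgLib.FusionH12b CfsgLib.FusionH12c CfsgLib.SecH12
open CfsgLib.FusionH12e CfsgLib.FusionH12f
open CfsgLib.H2Con (CP)

universe u

/-- the centre as a functor -/
def fZ (Q : Type u) [Group Q] : Subgroup Q := Subgroup.center Q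

/-- the Thompson subgroup as a functor -/
def fJ (Q : Type u) [Group Q] : Subgroup Q := thompsonSubgroup 2 Q

theorem induced_fZ {G : Type u} [Group G] (P : Subgroup G) :
    inducedFunctor (G := G) fZ P = P ⊓ centralizer (P : Set G) := by
  ext x
  constructor
  · rintro ⟨y, hy, rfl⟩
    refine ⟨y.2, mem_centralizer_iff.2 ?_⟩
    intro h hh
    exact congrArg Subtype.val ((Subgroup.mem_center_iff.1 hy) ⟨h, hh⟩)
  · rintro ⟨h1, h2⟩
    refine ⟨⟨x, h1⟩, ?_, rfl⟩
    show _ ∈ Subgroup.center _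
    rw [Subgroup.mem_center_iff]
    intro h
    exact Subtype.ext (mem_centralizer_iff.1 h2 h h.2)

theorem induced_fJ {G : Type u} [Group G] (P : Subgroup G) :
    inducedFunctor (G := G) fJ P = thompsonSubgroupOf 2 P := rfl

theorem fZ_char {p : ℕ} [hp : Fact p.Prime] : IsCharPFunctor.{u} p fZ := by
  refine ⟨fun Q _ _ hQ hn h0 => CfsgLib.Kfun9.center_ne_bot hQ h0, ?_⟩
  intro Q R _ _ _ hQ φ
  ext x
  constructor
  · rintro ⟨y, hy, rfl⟩
    show φ y ∈ Subgroup.center R
    rw [Subgroup.mem_center_iff]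
    intro r
    obtain ⟨q, rfl⟩ := φ.surjective r
    rw [← map_mul, ← map_mul, Subgroup.mem_center_iff.1 hy q]
  · intro hx
    refine ⟨φ.symm x, ?_, φ.apply_symm_apply x⟩
    show φ.symm x ∈ Subgroup.center Q
    rw [Subgroup.mem_center_iff]
    intro q
    apply φ.injective
    rw [map_mul, map_mul, φ.apply_symm_apply]
    exact Subgroup.mem_center_iff.1 hx (φ q)

theorem fJ_char : IsCharPFunctor.{u} 2 fJ := by
  refine ⟨?_, ?_⟩
  · intro Q _ _ hQ hn h0
    obtain ⟨x, hx⟩ := exists_ne (1 : Q)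
    obtain ⟨k, hk⟩ := (IsPGroup.iff_orderOf.1 hQ) x
    have hk0 : k ≠ 0 := by
      rintro rfl
      rw [pow_zero, orderOf_eq_one_iff] at hk
      exact hx hk
    obtain ⟨j, rfl⟩ : ∃ j, k = j + 1 := ⟨k - 1, by omega⟩
    have hu2 : (x ^ 2 ^ j) ^ 2 = 1 := by
      rw [← pow_mul, ← pow_succ, ← hk]; exact pow_orderOf_eq_one x
    have hu1 : x ^ 2 ^ j ≠ 1 := by
      intro h
      have := orderOf_dvd_of_pow_eq_one h
      rw [hk] at this
      have := (Nat.pow_dvd_pow_iff_le_right (by norm_num : 1 < 2)).1 this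
      omega
    have hel : El (zpowers (x ^ 2 ^ j)) := by
      rintro e ⟨n, rfl⟩
      show (x ^ 2 ^ j) ^ n * (x ^ 2 ^ j) ^ n = 1
      rw [← (Commute.refl (x ^ 2 ^ j)).mul_zpow, ← pow_two, hu2, one_zpow]
    have h1 : thompsonSubgroup 2 Q = ⊥ := h0
    rw [← H2Thomp.Je_top] at h1
    obtain ⟨A, hA⟩ := H2Thomp.exists_maxIn (Q := IsElementaryAbelian 2) (P := (⊤ : Subgroup Q)) le_top (elab_of_El hel)
    have h2 : A = ⊥ := le_bot_iff.1 (h1 ▸ (le_sSup hA))
    have h3 := hA.2.2 _ le_top (elab_of_El hel)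
    rw [h2, Subgroup.card_bot, Nat.card_zpowers] at h3
    have h4 : orderOf (x ^ 2 ^ j) ≠ 1 := fun h => hu1 (orderOf_eq_one_iff.1 h)
    have h5 : 0 < orderOf (x ^ 2 ^ j) := orderOf_pos _
    omega
  · intro Q R _ _ _ hQ φ
    haveI : Finite R := Finite.of_equiv Q φ.toEquiv
    show (thompsonSubgroup 2 Q).map φ.toMonoidHom = thompsonSubgroup 2 R
    rw [← H2Thomp.Je_top, ← H2Thomp.Je_top, ← H2Thomp.Je_map 2 φ.toMonoidHom φ.injective.injOn,
      ← MonoidHom.range_eq_map, MonoidHom.range_eq_top.2 φ.surjective]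

/-- fusion in groups of characteristic `2` without section `S₄` -/
theorem cp_fusIn {G : Type u} [Group G] [Finite G] (h4 : ¬ Involves (Equiv.Perm (Fin 4)) G) (hcp : CP 2 G)
    {S : Subgroup G} (hS : SylIn 2 S ⊤) :
    FusIn S ⊤ {normalizer ((S ⊓ centralizer (S : Set G) : Subgroup G) : Set G),
      normalizer (H2Thomp.Je 2 S : Set G)} := by
  obtain ⟨-, -, h3⟩ := cp_basic h4 hcp hS
  set U := og ⊤ (Om S) with hU
  have hUn : (⊤ : Subgroup G) ≤ normalizer (U : Set G) := le_nrm_og _ _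
  have hDn : (⊤ : Subgroup G) ≤ normalizer ((centralizer (U : Set G) : Subgroup G) : Set G) :=
    hUn.trans (H2Thomp.normalizer_le_normalizer_centralizer U)
  have h5 := cp_center hcp hS (D := centralizer (U : Set G)) (Subgroup.centralizer_le le_og) hDn
  haveI := normal_of_top_le hDn
  refine FusIn.mono (fusIn_pair (C := centralizer (U : Set G)) (N := normalizer (H2Thomp.Je 2 S : Set G)) hS
    (Subgroup.le_normalizer.trans (nrm_le_nrm_Je S)) (fun g => factor_of_le hS le_top hDn h3 (mem_top g))) ?_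
  rintro N (rfl | rfl)
  · exact ⟨_, Or.inr rfl, le_rfl⟩
  · refine ⟨_, Or.inl rfl, sup_le (Subgroup.le_normalizer.trans (H2Thomp.normalizer_le_center S)) ?_⟩
    exact h5.trans (fun g hg => mem_nrm.2 (cj_of_mem_centralizer hg))

/-- the two functors -/
def fam2 : Set (∀ (Q : Type u) [Group Q], Subgroup Q) := {W | W = @fZ.{u} ∨ W = @fJ.{u}}

theorem fam2_char : ∀ W ∈ fam2.{u}, IsCharPFunctor.{u} 2 W := by
  rintro W (rfl | rfl)
  · exact fZ_char
  · exact fJ_char

theorem fam_s4 {G : Type u} [Group G] [Finite G] (h4 : ¬ Involves (Equiv.Perm (Fin 4)) G) :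
    FamilyControlsStrongFusionIn 2 (indSet fam2.{u} G) ⊤ := by
  refine main_fusion fam2_char _ G le_rfl ?_
  intro H _ hH hc
  haveI := hH.finite
  have h4' : ¬ Involves (Equiv.Perm (Fin 4)) H := by
    intro h
    rw [Qd9.involves_iff] at h h4
    exact h4 (h.trans hH)
  obtain ⟨S⟩ : Nonempty (Sylow 2 H) := inferInstance
  have hS := SylIn.ofSylow S
  rw [famFusion_iff' (indSet_isConj fam2_char H) hS]
  refine FusIn.mono (cp_fusIn h4' hc hS) ?_
  rintro N (rfl | rfl)
  · refine ⟨_, ⟨_, ⟨@fZ.{u}, Or.inl rfl, rfl⟩, rfl⟩, ?_⟩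
    beta_reduce
    rw [induced_fZ, top_inf_eq]
  · refine ⟨_, ⟨_, ⟨@fJ.{u}, Or.inr rfl, rfl⟩, rfl⟩, ?_⟩
    beta_reduce
    rw [induced_fJ, top_inf_eq, H2Thomp.thompsonSubgroupOf_eq]

/-! ### failure in `Qd(p)` -/

theorem agree_of_reach {G : Type*} [Group G] {T N : Subgroup G} {D : Subgroup G} {g : G}
    (h : Reach (FStep T {N}) D g) : ∃ x ∈ N, x⁻¹ * g ∈ centralizer (D : Set G) := by
  induction h with
  | refl D => exact ⟨1, one_mem _, by simp⟩
  | @cons D x y hx _ ih =>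
    obtain ⟨x', hx', h1⟩ := ih
    rw [mem_centralizer_iff'] at h1
    obtain ⟨hD, hxD, ⟨M, rfl, hxM⟩ | hc⟩ := hx
    · refine ⟨x' * x, mul_mem hx' hxM, ?_⟩
      rw [mem_centralizer_iff']
      intro d hd
      have h2 := h1 _ (conj_mem_cj (g := x) hd)
      calc (x' * x)⁻¹ * (y * x) * d * ((x' * x)⁻¹ * (y * x))⁻¹
          = x⁻¹ * (x'⁻¹ * y * (x * d * x⁻¹) * (x'⁻¹ * y)⁻¹) * x := by group
        _ = d := by rw [h2]; group
    · refine ⟨x', hx', ?_⟩
      rw [mem_centralizer_iff'] at hc ⊢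
      intro d hd
      have h2 := h1 _ (conj_mem_cj (g := x) hd)
      have h3 := hc d hd
      calc x'⁻¹ * (y * x) * d * (x'⁻¹ * (y * x))⁻¹
          = x'⁻¹ * y * (x * d * x⁻¹) * (x'⁻¹ * y)⁻¹ := by group
        _ = x * d * x⁻¹ := h2
        _ = d := h3

theorem nrm_induced {p : ℕ} [hp : Fact p.Prime] {H : Type u} [Group H] [Finite H] (e : H ≃* ↥(qd p))
    {W : ∀ (Q : Type u) [Group Q], Subgroup Q} (hW : IsCharPFunctor.{u} p W) (T : Sylow p H)
    (hT : Nontrivial ↥(T : Subgroup H)) :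
    normalizer (inducedFunctor (G := H) W (T : Subgroup H) : Set H) = normalizer ((T : Subgroup H) : Set H) := by
  have h1 : SylIn p ((T : Subgroup H).map e.toMonoidHom) ⊤ := by
    refine ⟨le_top, T.2.map _, ?_⟩
    rw [relIndex_top_right]
    intro hd
    exact T.not_dvd_index (hd.trans (Subgroup.index_map_dvd _ e.surjective))
  obtain ⟨S', hS'⟩ := h1.exists_sylow_coe
  let eT : ↥(T : Subgroup H) ≃* ↥(S' : Subgroup ↥(qd p)) :=
    (Subgroup.equivMapOfInjective (T : Subgroup H) e.toMonoidHom e.injective).trans (MulEquiv.subgroupCongr hS'.symm)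
  have heT : ∀ x : ↥(T : Subgroup H), ((eT x : ↥(S' : Subgroup ↥(qd p))) : ↥(qd p)) = e x := fun _ => rfl
  let C' : Subgroup ↥(S' : Subgroup ↥(qd p)) := (W ↥(T : Subgroup H)).map eT.toMonoidHom
  have hC' : C' ≠ ⊥ := by
    intro h
    rw [Subgroup.map_eq_bot_iff_of_injective _ eT.injective] at h
    exact hW.1 _ T.2 hT h
  have hchar : C'.Characteristic := by
    rw [Subgroup.characteristic_iff_map_eq]
    intro φ'
    have h2 := hW.2 _ _ T.2 ((eT.trans φ').trans eT.symm)
    have h3 := congrArg (Subgroup.map eT.toMonoidHom) h2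
    rw [Subgroup.map_map] at h3
    show ((W ↥(T : Subgroup H)).map eT.toMonoidHom).map φ'.toMonoidHom = _
    rw [Subgroup.map_map]
    refine Eq.trans ?_ h3
    congr 1
    refine MonoidHom.ext fun x => ?_
    show φ' (eT x) = eT (eT.symm (φ' (eT x)))
    rw [eT.apply_symm_apply]
  have h2 := (KQd.s2763 S' C' hC' hchar).1
  have h3 : C'.map (S' : Subgroup ↥(qd p)).subtype = (inducedFunctor (G := H) W (T : Subgroup H)).map e.toMonoidHom := by
    show ((W ↥(T : Subgroup H)).map eT.toMonoidHom).map _ = ((W ↥(T : Subgroup H)).map (T : Subgroup H).subtype).map e.toMonoidHom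
    rw [Subgroup.map_map, Subgroup.map_map]
    rfl
  rw [h3, hS'] at h2
  apply Subgroup.map_injective (f := e.toMonoidHom) e.injective
  have key : ∀ X : Subgroup H, (normalizer (X : Set H)).map e.toMonoidHom =
      normalizer ((X.map e.toMonoidHom : Subgroup ↥(qd p)) : Set ↥(qd p)) := by
    intro X
    ext y
    obtain ⟨x, rfl⟩ := e.surjective y
    constructor
    · rintro ⟨z, hz, hzx⟩
      have : z = x := e.injective hzx
      subst this
      have hz' := mem_nrm.1 hz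
      rw [mem_nrm]
      have := map_cj e.toMonoidHom z X
      rw [hz'] at this
      exact this.symm
    · intro hx
      refine ⟨x, ?_, rfl⟩
      have h5 := mem_nrm.1 hx
      have h6 := map_cj e.toMonoidHom x X
      have h7 : (cj x X).map e.toMonoidHom = X.map e.toMonoidHom := h6.trans h5
      exact mem_nrm.2 (Subgroup.map_injective (f := e.toMonoidHom) e.injective h7)
  have e1 := key (inducedFunctor (G := H) W (T : Subgroup H))
  have e2 := key (T : Subgroup H)
  exact e1.trans (h2.trans e2.symm)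

theorem fam_fail {p : ℕ} [hp : Fact p.Prime] {H : Type u} [Group H] [Finite H] (e : H ≃* ↥(qd p))
    {𝓦 : Set (∀ (Q : Type u) [Group Q], Subgroup Q)} (h𝓦 : ∀ W ∈ 𝓦, IsCharPFunctor.{u} p W)
    (h : FamilyControlsStrongFusionIn p (indSet 𝓦 H) ⊤) : False := by
  obtain ⟨T, hT⟩ := Qd9.exists_S0 e
  have hTn : Nontrivial ↥(T : Subgroup H) := by
    rw [hT]
    have h1 := Qd9.card_S0 e
    apply Finite.one_lt_card_iff_nontrivial.1
    rw [h1]
    exact Nat.one_lt_pow (by norm_num) hp.out.one_lt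
  rw [famFusion_iff' (indSet_isConj h𝓦 H) (SylIn.ofSylow T)] at h
  have h2 : FusIn (T : Subgroup H) ⊤ {normalizer ((T : Subgroup H) : Set H)} := by
    refine FusIn.mono h ?_
    rintro _ ⟨_, ⟨W, hW, rfl⟩, rfl⟩
    refine ⟨_, rfl, ?_⟩
    beta_reduce
    rw [top_inf_eq, nrm_induced e (h𝓦 W hW) T hTn]
  refine Qd9.top_fail e ⟨T, hT.ge, fun A hA => ⟨hA, fun g hg => ?_⟩⟩
  have h3 := h2 (Subgroup.closure A) g ((Subgroup.closure_le _).2 hA) (mem_top g) (by
    rw [cj_le']
    intro d hd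
    induction hd using Subgroup.closure_induction with
    | mem x hx => exact hg ⟨x, hx, rfl⟩
    | one => simp
    | mul a b _ _ ha hb =>
      have : g * (a * b) * g⁻¹ = (g * a * g⁻¹) * (g * b * g⁻¹) := by group
      rw [this]; exact mul_mem ha hb
    | inv a _ ha =>
      have : g * a⁻¹ * g⁻¹ = (g * a * g⁻¹)⁻¹ := by group
      rw [this]; exact inv_mem ha)
  obtain ⟨x, hx, h4⟩ := agree_of_reach h3
  refine ⟨x, by rw [← hT]; exact hx, fun a ha => ?_⟩
  rw [mem_centralizer_iff'] at h4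
  have h5 := h4 a (Subgroup.subset_closure ha)
  have : g * a * g⁻¹ = x * (x⁻¹ * g * a * (x⁻¹ * g)⁻¹) * x⁻¹ := by group
  rw [this, h5]

end CfsgLib.NO9
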