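import Cfsg.Agent.EqBase
import Cfsg.Agent.LibFgElt

/-!
Nilpotent minimal covers of finite groups with trivial centre, abelian Sylow subgroups.
-/

set_option autoImplicit false
set_option linter.style.haveILetI false
open Cfsg
open CfsgLib.FgElt

namespace CfsgLib.NilCov4

variable {G : Type*} [Group G] [Finite G]

def NMC (𝓐 : Finset (Subgroup G)) : Prop :=
  ((∀ A ∈ 𝓐, A ≠ ⊤) ∧ (∀ g : G, ∃ A ∈ 𝓐, g ∈ A)) ∧
  (∀ 𝓑 : Finset (Subgroup G), (∀ A ∈ 𝓑, A ≠ ⊤) ∧ (∀ g : G, ∃ A ∈ 𝓑, g ∈ A) → 𝓐.card ≤ 𝓑.card) ∧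
  (∀ A ∈ 𝓐, Group.IsNilpotent ↥A)

theorem unique_below {𝓐 : Finset (Subgroup G)} (h : NMC 𝓐) {M : Subgroup G} (hM : M ≠ ⊤)
    {A B : Subgroup G} (hA : A ∈ 𝓐) (hB : B ∈ 𝓐) (hAM : A ≤ M) (hBM : B ≤ M) : A = B := by
  classical
  by_contra hne
  have h1 := h.2.1 (insert M (𝓐.filter (fun C => ¬ C ≤ M))) ⟨?_, ?_⟩
  · have h2 : (insert M (𝓐.filter (fun C => ¬ C ≤ M))).card ≤ (𝓐.filter (fun C => ¬ C ≤ M)).card + 1 :=
      Finset.card_insert_le _ _
    have h3 : (𝓐.filter (fun C => C ≤ M)).card + (𝓐.filter (fun C => ¬ C ≤ M)).card = 𝓐.card :=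
      Finset.card_filter_add_card_filter_not _
    have h4 : 1 < (𝓐.filter (fun C => C ≤ M)).card :=
      Finset.one_lt_card.2 ⟨A, by simp [hA, hAM], B, by simp [hB, hBM], hne⟩
    omega
  · intro C hC
    rw [Finset.mem_insert] at hC
    rcases hC with rfl | hC
    · exact hM
    · exact h.1.1 C (Finset.mem_of_mem_filter _ hC)
  · intro g
    obtain ⟨C, hC, hg⟩ := h.1.2 g
    by_cases hCM : C ≤ M
    · exact ⟨M, Finset.mem_insert_self _ _, hCM hg⟩
    · exact ⟨C, by simp [hC, hCM], hg⟩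

theorem comm_pelts {p : ℕ} [Fact p.Prime] (P : Sylow p G)
    (hab : ∀ x ∈ (P : Subgroup G), ∀ y ∈ (P : Subgroup G), x * y = y * x)
    {Q : Subgroup G} (hQ : IsPGroup p Q) {x y : G} (hx : x ∈ Q) (hy : y ∈ Q) : x * y = y * x := by
  obtain ⟨R, hR⟩ := hQ.exists_le_sylow
  obtain ⟨g, hg⟩ := MulAction.exists_smul_eq G P R
  have key : ∀ u ∈ (R : Subgroup G), g⁻¹ * u * g ∈ (P : Subgroup G) := by
    intro u hu
    rw [← hg, Sylow.coe_subgroup_smul, Subgroup.mem_pointwise_smul_iff_inv_smul_mem] at hu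
    simpa [MulAut.smul_def, ← map_inv] using hu
  have h1 := hab _ (key x (hR hx)) _ (key y (hR hy))
  have h2 : g⁻¹ * (x * y) * g = g⁻¹ * (y * x) * g := by
    calc g⁻¹ * (x * y) * g = (g⁻¹ * x * g) * (g⁻¹ * y * g) := by group
      _ = _ := by rw [h1]; group
  exact mul_left_cancel (mul_right_cancel h2)

theorem isP_of_order {p : ℕ} [hp : Fact p.Prime] {x : G} {k : ℕ} (h : orderOf x = p ^ k) :
    IsPGroup p (Subgroup.zpowers x) :=
  IsPGroup.of_card (n := k) (by rw [Nat.card_zpowers, h])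

/-- A normalizing element of `p`-power order lies in a Sylow subgroup. -/
theorem mem_of_norm {p : ℕ} [hp : Fact p.Prime] (P : Sylow p G) {x : G} {k : ℕ}
    (hk : orderOf x = p ^ k) (hx : x ∈ Subgroup.normalizer ((P : Subgroup G) : Set G)) :
    x ∈ (P : Subgroup G) := by
  have h1 : IsPGroup p ((P : Subgroup G) ⊔ Subgroup.zpowers x : Subgroup G) := by
    rw [sup_comm]
    exact IsPGroup.to_sup_of_normal_right' (isP_of_order hk) P.2 ((Subgroup.zpowers_le).2 hx)
  have h2 := P.3 h1 le_sup_left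
  have h3 : Subgroup.zpowers x ≤ (P : Subgroup G) := by
    calc Subgroup.zpowers x ≤ (P : Subgroup G) ⊔ Subgroup.zpowers x := le_sup_right
      _ = _ := h2
  exact h3 (Subgroup.mem_zpowers x)

/-- In a nilpotent subgroup elements of `p`-power order commute (abelian Sylows). -/
theorem comm_nilp {p : ℕ} [hp : Fact p.Prime] (P : Sylow p G)
    (hab : ∀ x ∈ (P : Subgroup G), ∀ y ∈ (P : Subgroup G), x * y = y * x)
    {A : Subgroup G} (hA : Group.IsNilpotent A) {x y : G} {k l : ℕ} (hx : x ∈ A) (hy : y ∈ A)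
    (hk : orderOf x = p ^ k) (hl : orderOf y = p ^ l) : x * y = y * x := by
  obtain ⟨S⟩ : Nonempty (Sylow p A) := inferInstance
  have hSn : (S : Subgroup A).Normal := by
    have := ((Group.isNilpotent_of_finite_tfae (G := A)).out 0 3).1 hA
    exact this p hp S
  have key : ∀ (u : G) (m : ℕ) (hu : u ∈ A), orderOf u = p ^ m → (⟨u, hu⟩ : A) ∈ (S : Subgroup A) := by
    intro u m hu hm
    refine mem_of_norm S (k := m) ?_ ?_
    · rw [← hm]; exact (Subgroup.orderOf_mk u hu)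
    · rw [Subgroup.normalizer_eq_top]; trivial
  have hS : IsPGroup p ((S : Subgroup A).map A.subtype) := S.2.map _
  exact comm_pelts P hab hS ⟨_, key x k hx hk, rfl⟩ ⟨_, key y l hy hl, rfl⟩

theorem le_cent {p : ℕ} [hp : Fact p.Prime] (P : Sylow p G)
    (hab : ∀ x ∈ (P : Subgroup G), ∀ y ∈ (P : Subgroup G), x * y = y * x)
    {A : Subgroup G} (hA : Group.IsNilpotent A) {z : G} {k : ℕ} (hz : z ∈ A)
    (hk : orderOf z = p ^ k) : A ≤ Subgroup.centralizer {z} := by
  intro y hy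
  rw [Subgroup.mem_centralizer_singleton_iff]
  obtain ⟨a, b, ha, hb, hab', -, ⟨l, hl⟩, hc⟩ := exists_p_decomp hp.out y
  have haA : a ∈ A := (Subgroup.zpowers_le.2 hy) ha
  have hbA : b ∈ A := (Subgroup.zpowers_le.2 hy) hb
  have h1 : a * z = z * a := comm_nilp P hab hA haA hz hl hk
  have h2 : b * z = z * b := commute_of_nilpotent hA hbA hz (by rw [hk]; exact hc.pow_right _)
  rw [← hab']
  calc a * b * z = a * (b * z) := by group
    _ = a * z * b := by rw [h2]; group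
    _ = z * (a * b) := by rw [h1]; group

theorem cent_ne_top (hZ : Subgroup.center G = ⊥) {z : G} (hz : z ≠ 1) :
    Subgroup.centralizer {z} ≠ ⊤ := by
  intro h
  apply hz
  have : z ∈ Subgroup.center G := by
    rw [Subgroup.mem_center_iff]
    intro g
    have hg : g ∈ Subgroup.centralizer {z} := by rw [h]; trivial
    rw [Subgroup.mem_centralizer_singleton_iff] at hg
    exact hg
  rwa [hZ, Subgroup.mem_bot] at this

theorem uniq {𝓐 : Finset (Subgroup G)} (h : NMC 𝓐) (hZ : Subgroup.center G = ⊥)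
    {p : ℕ} [hp : Fact p.Prime] (P : Sylow p G)
    (hab : ∀ x ∈ (P : Subgroup G), ∀ y ∈ (P : Subgroup G), x * y = y * x)
    {A B : Subgroup G} (hA : A ∈ 𝓐) (hB : B ∈ 𝓐) {z : G} {k : ℕ} (hk : orderOf z = p ^ k)
    (hz : z ≠ 1) (hzA : z ∈ A) (hzB : z ∈ B) : A = B :=
  unique_below h (cent_ne_top hZ hz) hA hB (le_cent P hab (h.2.2 A hA) hzA hk)
    (le_cent P hab (h.2.2 B hB) hzB hk)

theorem order_of_mem {p : ℕ} [hp : Fact p.Prime] (P : Sylow p G) {x : G} (hx : x ∈ (P : Subgroup G)) :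
    ∃ k, orderOf x = p ^ k := by
  obtain ⟨k, hk⟩ := (IsPGroup.iff_orderOf.1 P.2) ⟨x, hx⟩
  exact ⟨k, by rw [← hk]; exact (Subgroup.orderOf_mk x hx).symm⟩

theorem exists_member {𝓐 : Finset (Subgroup G)} (h : NMC 𝓐) (hZ : Subgroup.center G = ⊥)
    {p : ℕ} [hp : Fact p.Prime] (P : Sylow p G)
    (hab : ∀ x ∈ (P : Subgroup G), ∀ y ∈ (P : Subgroup G), x * y = y * x)
    (hc : (∃ x : G, (P : Subgroup G) ≤ Subgroup.zpowers x) ∨ (∃ x ∈ (P : Subgroup G), x ^ p ≠ 1)) :
    ∃ A ∈ 𝓐, (P : Subgroup G) ≤ A := by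
  rcases hc with ⟨x, hx⟩ | ⟨x, hx, hx1⟩
  · obtain ⟨A, hA, hxA⟩ := h.1.2 x
    exact ⟨A, hA, hx.trans (Subgroup.zpowers_le.2 hxA)⟩
  · obtain ⟨A, hA, hxA⟩ := h.1.2 x
    refine ⟨A, hA, ?_⟩
    have key : ∀ y ∈ (P : Subgroup G), y ^ p = 1 → y ∈ A := by
      intro y hy hy1
      obtain ⟨B, hB, hxB⟩ := h.1.2 (x * y)
      have h1 : (x * y) ^ p = x ^ p := by
        rw [(show Commute x y from hab x hx y hy).mul_pow, hy1, mul_one]
      have h2 : x ^ p ∈ B := by rw [← h1]; exact B.pow_mem hxB p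
      have h3 : x ^ p ∈ A := A.pow_mem hxA p
      obtain ⟨k, hk⟩ := order_of_mem P ((P : Subgroup G).pow_mem hx p)
      have h4 := uniq h hZ P hab hA hB hk hx1 h3 h2
      rw [← h4] at hxB
      have := A.mul_mem (A.inv_mem hxA) hxB
      simpa using this
    intro y hy
    by_cases hy1 : y = 1
    · rw [hy1]; exact A.one_mem
    obtain ⟨k, hk⟩ := order_of_mem P hy
    obtain ⟨j, rfl⟩ : ∃ j, k = j + 1 := by
      rcases k with _ | j
      · rw [pow_zero, orderOf_eq_one_iff] at hk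
        exact absurd hk hy1
      · exact ⟨j, rfl⟩
    have hw1 : y ^ p ^ j ≠ 1 := by
      intro hcon
      have h1 := orderOf_dvd_of_pow_eq_one hcon
      rw [hk] at h1
      have := (Nat.pow_dvd_pow_iff_le_right hp.out.one_lt).1 h1
      omega
    have hw2 : (y ^ p ^ j) ^ p = 1 := by
      rw [← pow_mul, ← pow_succ, ← hk, pow_orderOf_eq_one]
    have hwA := key _ ((P : Subgroup G).pow_mem hy _) hw2
    obtain ⟨B, hB, hyB⟩ := h.1.2 y
    obtain ⟨l, hl⟩ := order_of_mem P ((P : Subgroup G).pow_mem hy (p ^ j))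
    have h4 := uniq h hZ P hab hA hB hl hw1 hwA (B.pow_mem hyB _)
    rwa [h4]

/-- transfer to conjugates -/
theorem exists_member' {𝓐 : Finset (Subgroup G)} (h : NMC 𝓐) (hZ : Subgroup.center G = ⊥)
    {p : ℕ} [hp : Fact p.Prime] (P : Sylow p G)
    (hab : ∀ x ∈ (P : Subgroup G), ∀ y ∈ (P : Subgroup G), x * y = y * x)
    (hc : (∃ x : G, (P : Subgroup G) ≤ Subgroup.zpowers x) ∨ (∃ x ∈ (P : Subgroup G), x ^ p ≠ 1))
    (Q : Sylow p G) : ∃ A ∈ 𝓐, (Q : Subgroup G) ≤ A := by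
  refine exists_member h hZ Q (fun x hx y hy => comm_pelts P hab Q.2 hx hy) ?_
  obtain ⟨g, rfl⟩ := MulAction.exists_smul_eq G P Q
  have key : ∀ u : G, u ∈ ((g • P : Sylow p G) : Subgroup G) ↔ g⁻¹ * u * g ∈ (P : Subgroup G) := by
    intro u
    rw [Sylow.coe_subgroup_smul, Subgroup.mem_pointwise_smul_iff_inv_smul_mem]
    simp [MulAut.smul_def, ← map_inv]
  rcases hc with ⟨x, hx⟩ | ⟨x, hx, hx1⟩
  · refine Or.inl ⟨g * x * g⁻¹, ?_⟩
    intro u hu
    rw [key] at hu
    obtain ⟨k, hk⟩ := Subgroup.mem_zpowers_iff.1 (hx hu)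
    rw [Subgroup.mem_zpowers_iff]
    refine ⟨k, ?_⟩
    rw [conj_zpow, hk]; group
  · refine Or.inr ⟨g * x * g⁻¹, ?_, ?_⟩
    · rw [key]
      have : g⁻¹ * (g * x * g⁻¹) * g = x := by group
      rwa [this]
    · rw [conj_pow]
      intro hcon
      exact hx1 (conj_eq_one_iff.1 hcon)

theorem cent_eq {𝓐 : Finset (Subgroup G)} (h : NMC 𝓐) (hZ : Subgroup.center G = ⊥)
    {p : ℕ} [hp : Fact p.Prime] (P : Sylow p G)
    (hab : ∀ x ∈ (P : Subgroup G), ∀ y ∈ (P : Subgroup G), x * y = y * x)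
    (hc : (∃ x : G, (P : Subgroup G) ≤ Subgroup.zpowers x) ∨ (∃ x ∈ (P : Subgroup G), x ^ p ≠ 1))
    {A : Subgroup G} (hA : A ∈ 𝓐) {z : G} {k : ℕ} (hk : orderOf z = p ^ k)
    (hz : z ≠ 1) (hzA : z ∈ A) : Subgroup.centralizer {z} = A := by
  refine le_antisymm ?_ (le_cent P hab (h.2.2 A hA) hzA hk)
  intro y hy
  rw [Subgroup.mem_centralizer_singleton_iff] at hy
  obtain ⟨a, b, ha, hb, hab', -, ⟨l, hl⟩, hcop⟩ := exists_p_decomp hp.out y
  have haz : a * z = z * a := commute_of_mem_zpowers ha hy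
  have hbz : b * z = z * b := commute_of_mem_zpowers hb hy
  rw [← hab']
  refine A.mul_mem ?_ ?_
  · have hpg : IsPGroup p (Subgroup.zpowers z ⊔ Subgroup.zpowers a : Subgroup G) := by
      refine IsPGroup.to_sup_of_normal_right' (isP_of_order hk) (isP_of_order hl) ?_
      rw [Subgroup.zpowers_le, Subgroup.mem_normalizer_iff]
      intro u
      have hcomm : ∀ v ∈ Subgroup.zpowers a, z * v * z⁻¹ = v := by
        intro v hv
        rw [← commute_of_mem_zpowers hv haz]; group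
      constructor
      · intro hu; rwa [hcomm u hu]
      · intro hu
        have h1 := hcomm _ hu
        have h2 : z * u * z⁻¹ = u := by
          have := mul_left_cancel (mul_right_cancel (h1 : z * (z * u * z⁻¹) * z⁻¹ = z * u * z⁻¹))
          exact this
        rwa [h2] at hu
    obtain ⟨R, hR⟩ := hpg.exists_le_sylow
    obtain ⟨B, hB, hRB⟩ := exists_member' h hZ P hab hc R
    have hzB : z ∈ B := hRB (hR ((le_sup_left : Subgroup.zpowers z ≤ _) (Subgroup.mem_zpowers z)))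
    have haB : a ∈ B := hRB (hR ((le_sup_right : Subgroup.zpowers a ≤ _) (Subgroup.mem_zpowers a)))
    rwa [uniq h hZ P hab hA hB hk hz hzA hzB]
  · obtain ⟨B, hB, hzb⟩ := h.1.2 (z * b)
    have hzB : z ∈ B := by
      have h1 : (z * b) ^ orderOf b = z ^ orderOf b := by
        rw [(show Commute z b from hbz.symm).mul_pow, pow_orderOf_eq_one, mul_one]
      have h2 : z ^ orderOf b ∈ B := by rw [← h1]; exact B.pow_mem hzb _
      have h3 : z ∈ Subgroup.zpowers (z ^ orderOf b) := by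
        rw [mem_zpowers_pow_iff, hk]
        exact hcop.pow_right _
      exact (Subgroup.zpowers_le.2 h2) h3
    have h4 := uniq h hZ P hab hA hB hk hz hzA hzB
    have h5 := B.mul_mem (B.inv_mem hzB) hzb
    rw [inv_mul_cancel_left] at h5
    rwa [h4]

theorem main {𝓐 : Finset (Subgroup G)} (h : NMC 𝓐) (hZ : Subgroup.center G = ⊥)
    {p : ℕ} [hp : Fact p.Prime] (P : Sylow p G)
    (hab : ∀ x ∈ (P : Subgroup G), ∀ y ∈ (P : Subgroup G), x * y = y * x)
    (hc : (∃ x : G, (P : Subgroup G) ≤ Subgroup.zpowers x) ∨ (∃ x ∈ (P : Subgroup G), x ^ p ≠ 1))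
    (hnn : ¬ (P : Subgroup G).Normal) :
    ∃ A ∈ 𝓐, (P : Subgroup G) ≤ A ∧ Subgroup.centralizer ((P : Subgroup G) : Set G) = A ∧
      IsCoatom (Subgroup.normalizer ((P : Subgroup G) : Set G)) ∧
      (∀ M : Subgroup G, IsCoatom M → Subgroup.centralizer ((P : Subgroup G) : Set G) ≤ M →
        M = Subgroup.normalizer ((P : Subgroup G) : Set G)) ∧
      (∀ g : G, g ∉ Subgroup.normalizer ((P : Subgroup G) : Set G) →
        ¬ p ∣ Nat.card ↥(Subgroup.normalizer ((P : Subgroup G) : Set G) ⊓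
          (Subgroup.normalizer ((P : Subgroup G) : Set G)).map (MulAut.conj g).toMonoidHom)) := by
  obtain ⟨A, hA, hPA⟩ := exists_member h hZ P hab hc
  have hPne : ∃ z ∈ (P : Subgroup G), z ≠ 1 := by
    by_contra hcon
    push Not at hcon
    apply hnn
    have : (P : Subgroup G) = ⊥ := (Subgroup.eq_bot_iff_forall _).2 hcon
    rw [this]; infer_instance
  obtain ⟨z, hzP, hz⟩ := hPne
  obtain ⟨k, hk⟩ := order_of_mem P hzP
  have hCz : ∀ w ∈ (P : Subgroup G), w ≠ 1 → Subgroup.centralizer {w} = A := by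
    intro w hw hw1
    obtain ⟨l, hl⟩ := order_of_mem P hw
    exact cent_eq h hZ P hab hc hA hl hw1 (hPA hw)
  have hCP : Subgroup.centralizer ((P : Subgroup G) : Set G) = A := by
    apply le_antisymm
    · rw [← hCz z hzP hz]
      exact Subgroup.centralizer_le (by intro w hw; rw [Set.mem_singleton_iff] at hw; rw [hw]; exact hzP)
    · intro y hy
      rw [Subgroup.mem_centralizer_iff]
      intro w hw
      by_cases hw1 : w = 1
      · rw [hw1, one_mul, mul_one]
      · rw [← hCz w hw hw1, Subgroup.mem_centralizer_singleton_iff] at hy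
        exact hy.symm
  have hAP : A ≤ Subgroup.normalizer ((P : Subgroup G) : Set G) := by
    rw [← hCP]; exact Subgroup.centralizer_le_normalizer _
  have hconj : ∀ g w : G, Subgroup.centralizer {g * w * g⁻¹} =
      (Subgroup.centralizer {w}).map (MulAut.conj g).toMonoidHom := by
    intro g w
    ext y
    rw [Subgroup.mem_centralizer_singleton_iff, Subgroup.mem_map]
    constructor
    · intro hy
      refine ⟨g⁻¹ * y * g, ?_, by simp [mul_assoc]⟩
      rw [Subgroup.mem_centralizer_singleton_iff]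
      have : g⁻¹ * (y * (g * w * g⁻¹)) * g = g⁻¹ * ((g * w * g⁻¹) * y) * g := by rw [hy]
      calc g⁻¹ * y * g * w = g⁻¹ * (y * (g * w * g⁻¹)) * g := by group
        _ = _ := by rw [this]; group
    · rintro ⟨u, hu, rfl⟩
      rw [Subgroup.mem_centralizer_singleton_iff] at hu
      simp only [MulEquiv.coe_toMonoidHom, MulAut.conj_apply]
      calc g * u * g⁻¹ * (g * w * g⁻¹) = g * (u * w) * g⁻¹ := by group
        _ = _ := by rw [hu]; group
  have hAnorm : ∀ g : G, A.map (MulAut.conj g).toMonoidHom = A → ∀ y ∈ (P : Subgroup G),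
      g * y * g⁻¹ ∈ (P : Subgroup G) := by
    intro g hg y hy
    obtain ⟨l, hl⟩ := order_of_mem P hy
    refine mem_of_norm P (k := l) ?_ ?_
    · rw [← hl]
      exact orderOf_injective (MulAut.conj g).toMonoidHom (MulAut.conj g).injective y
    · apply hAP
      rw [← hg]
      exact ⟨y, hPA hy, rfl⟩
  have hmemN : ∀ g : G, A.map (MulAut.conj g).toMonoidHom = A → A.map (MulAut.conj g⁻¹).toMonoidHom = A →
      g ∈ Subgroup.normalizer ((P : Subgroup G) : Set G) := by
    intro g hg hg'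
    rw [Subgroup.mem_normalizer_iff]
    intro y
    constructor
    · exact hAnorm g hg y
    · intro hy
      have := hAnorm g⁻¹ hg' _ hy
      have h1 : g⁻¹ * (g * y * g⁻¹) * g⁻¹⁻¹ = y := by group
      rwa [h1] at this
  have hcoat : ∀ M : Subgroup G, IsCoatom M → A ≤ M →
        M = Subgroup.normalizer ((P : Subgroup G) : Set G) := by
    intro M hM hAM
    have h1 : M ≤ Subgroup.normalizer ((P : Subgroup G) : Set G) := by
      have key : ∀ g ∈ M, A.map (MulAut.conj g).toMonoidHom = A := by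
        intro g hg
        obtain ⟨B, hB, hPB⟩ := exists_member' h hZ P hab hc (g • P)
        have hz' : g * z * g⁻¹ ∈ ((g • P : Sylow p G) : Subgroup G) := by
          rw [Sylow.coe_subgroup_smul, Subgroup.mem_pointwise_smul_iff_inv_smul_mem]
          simp only [MulAut.smul_def, ← map_inv, MulAut.conj_apply]
          have : g⁻¹ * (g * z * g⁻¹) * g⁻¹⁻¹ = z := by group
          rwa [this]
        obtain ⟨l, hl⟩ := order_of_mem (g • P) hz'
        have h2 := cent_eq h hZ P hab hc hB hl (fun hcon => hz (conj_eq_one_iff.1 hcon)) (hPB hz')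
        rw [hconj, hCz z hzP hz] at h2
        rw [h2]
        refine unique_below h hM.1 hB hA ?_ hAM
        rw [← h2]
        rintro _ ⟨u, hu, rfl⟩
        exact M.mul_mem (M.mul_mem hg (hAM hu)) (M.inv_mem hg)
      intro g hg
      exact hmemN g (key g hg) (key _ (M.inv_mem hg))
    have h2 : Subgroup.normalizer ((P : Subgroup G) : Set G) ≠ ⊤ := by
      intro hcon
      exact hnn (Subgroup.normalizer_eq_top_iff.1 hcon)
    rcases hM.le_iff.1 h1 with h3 | h3
    · exact absurd h3 h2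
    · exact h3.symm
  refine ⟨A, hA, hPA, hCP, ?_, ?_, ?_⟩
  · rcases eq_top_or_exists_le_coatom A with h1 | ⟨M, hM, hAM⟩
    · exact absurd h1 (h.1.1 A hA)
    · rw [← hcoat M hM hAM]
      exact hM
  · rw [hCP]; exact hcoat
  · intro g hg hdvd
    apply hg
    obtain ⟨x, hx⟩ := exists_prime_orderOf_dvd_card' p hdvd
    have hx1 : (x : G) ≠ 1 := by
      intro hcon
      have : x = 1 := Subtype.ext hcon
      rw [this, orderOf_one] at hx
      exact hp.out.one_lt.ne hx
    have hox : orderOf (x : G) = p ^ 1 := by rw [pow_one]; exact (Subgroup.orderOf_coe x).trans hx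
    have hxP : (x : G) ∈ (P : Subgroup G) := mem_of_norm P hox x.2.1
    obtain ⟨w, hw, hwx⟩ := x.2.2
    have hwx' : g * w * g⁻¹ = x := hwx
    have how : orderOf w = p ^ 1 := by
      rw [← hox, ← hwx]
      exact (orderOf_injective (MulAut.conj g).toMonoidHom (MulAut.conj g).injective w).symm
    have hwP : w ∈ (P : Subgroup G) := mem_of_norm P how hw
    have hw1 : w ≠ 1 := by
      rintro rfl
      apply hx1
      rw [← hwx']; group
    have h1 := hCz _ hxP hx1
    have h2 := hCz w hwP hw1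
    rw [← hwx', hconj, h2] at h1
    refine hmemN g h1 ?_
    nth_rewrite 1 [← h1]
    rw [Subgroup.map_map]
    ext y
    simp [Subgroup.mem_map, mul_assoc]

theorem hyp_of (p : ℕ) [hp : Fact p.Prime] (P : Sylow p G)
    (hP : IsCyclic ↥(P : Subgroup G) ∨ (IsMulCommutative ↥(P : Subgroup G) ∧ ¬ Cfsg.IsElementaryAbelian p (P : Subgroup G))) :
    (∀ x ∈ (P : Subgroup G), ∀ y ∈ (P : Subgroup G), x * y = y * x) ∧
    ((∃ x : G, (P : Subgroup G) ≤ Subgroup.zpowers x) ∨ (∃ x ∈ (P : Subgroup G), x ^ p ≠ 1)) := by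
  rcases hP with hP | ⟨hP, hP'⟩
  · obtain ⟨⟨x, hx⟩, hgen⟩ := hP.exists_generator
    have h1 : (P : Subgroup G) ≤ Subgroup.zpowers x := by
      intro y hy
      obtain ⟨k, hk⟩ := Subgroup.mem_zpowers_iff.1 (hgen ⟨y, hy⟩)
      exact Subgroup.mem_zpowers_iff.2 ⟨k, congrArg Subtype.val hk⟩
    refine ⟨?_, Or.inl ⟨x, h1⟩⟩
    intro a ha b hb
    obtain ⟨k, rfl⟩ := Subgroup.mem_zpowers_iff.1 (h1 ha)
    obtain ⟨l, rfl⟩ := Subgroup.mem_zpowers_iff.1 (h1 hb)
    rw [← zpow_add, ← zpow_add, add_comm]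
  · have hcomm : ∀ x ∈ (P : Subgroup G), ∀ y ∈ (P : Subgroup G), x * y = y * x := by
      intro x hx y hy
      exact congrArg Subtype.val (hP.is_comm.comm (⟨x, hx⟩ : (P : Subgroup G)) ⟨y, hy⟩)
    refine ⟨hcomm, Or.inr ?_⟩
    by_contra hcon
    push Not at hcon
    exact hP' ⟨hP, hcon⟩

end CfsgLib.NilCov4
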