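import Mathlib

set_option autoImplicit false
set_option linter.style.haveILetI false

/-!
Covers of a finite group by proper subgroups: a criterion for the non-existence of a minimal cover
by nilpotent subgroups.
-/

namespace CfsgLib.NilCover

open scoped Pointwise

variable {G : Type*} [Group G] [Finite G]

/-- Replacement: in a minimal cover `𝓐`, a subfamily whose elements are covered by the rest and a
family `𝓑` of proper subgroups has at most `𝓑.card` members. -/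
theorem card_le_of_replace (𝓐 𝓐₁ 𝓑 : Finset (Subgroup G)) (hsub : 𝓐₁ ⊆ 𝓐)
    (hA : (∀ A ∈ 𝓐, A ≠ ⊤) ∧ (∀ g : G, ∃ A ∈ 𝓐, g ∈ A))
    (hmin : ∀ 𝓒 : Finset (Subgroup G), (∀ A ∈ 𝓒, A ≠ ⊤) ∧ (∀ g : G, ∃ A ∈ 𝓒, g ∈ A) → 𝓐.card ≤ 𝓒.card)
    (hB : ∀ B ∈ 𝓑, B ≠ ⊤)
    (hcov : ∀ A ∈ 𝓐₁, ∀ g ∈ A, (∃ B ∈ 𝓑, g ∈ B) ∨ ∃ A' ∈ 𝓐, A' ∉ 𝓐₁ ∧ g ∈ A') :
    𝓐₁.card ≤ 𝓑.card := by
  classical
  have h1 := hmin ((𝓐 \ 𝓐₁) ∪ 𝓑) ⟨by
    intro A hA'
    rcases Finset.mem_union.1 hA' with h | h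
    · exact hA.1 A (Finset.mem_sdiff.1 h).1
    · exact hB A h, by
    intro g
    obtain ⟨A, hAm, hg⟩ := hA.2 g
    by_cases hA1 : A ∈ 𝓐₁
    · rcases hcov A hA1 g hg with ⟨B, hB', hgB⟩ | ⟨A', hA', hA'1, hgA'⟩
      · exact ⟨B, Finset.mem_union_right _ hB', hgB⟩
      · exact ⟨A', Finset.mem_union_left _ (Finset.mem_sdiff.2 ⟨hA', hA'1⟩), hgA'⟩
    · exact ⟨A, Finset.mem_union_left _ (Finset.mem_sdiff.2 ⟨hAm, hA1⟩), hg⟩⟩
  have h2 := Finset.card_union_le (𝓐 \ 𝓐₁) 𝓑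
  have h3 := Finset.card_sdiff_add_card_eq_card hsub
  omega

/-- A criterion. `L ≤ B < G` and `N` are subgroups with `#N < #B`, every nilpotent subgroup containing
`t` lies in `L`, and `g t g⁻¹ ∈ L` forces `g ∈ N`. Then no minimal cover of `G` consists of nilpotent
subgroups. -/
theorem no_nilpotent_minimal_cover (t : G) (L N B : Subgroup G) (hLB : L ≤ B) (hB : B ≠ ⊤)
    (hnil : ∀ A : Subgroup G, Group.IsNilpotent A → t ∈ A → A ≤ L)
    (hN : ∀ g : G, g * t * g⁻¹ ∈ L → g ∈ N)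
    (hcard : Nat.card N < Nat.card B) :
    ¬ ∃ 𝓐 : Finset (Subgroup G), ((∀ A ∈ 𝓐, A ≠ ⊤) ∧ (∀ g : G, ∃ A ∈ 𝓐, g ∈ A)) ∧
      (∀ 𝓑 : Finset (Subgroup G), (∀ A ∈ 𝓑, A ≠ ⊤) ∧ (∀ g : G, ∃ A ∈ 𝓑, g ∈ A) → 𝓐.card ≤ 𝓑.card) ∧
      (∀ A ∈ 𝓐, Group.IsNilpotent A) := by
  classical
  rintro ⟨𝓐, hA, hmin, hnilA⟩
  let 𝓐₁ : Finset (Subgroup G) := 𝓐.filter (fun A => ∃ g : G, g * t * g⁻¹ ∈ A)
  haveI : Fintype (G ⧸ B) := Fintype.ofFinite _
  haveI : Fintype (G ⧸ N) := Fintype.ofFinite _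
  let 𝓑 : Finset (Subgroup G) := Finset.univ.image (fun c : G ⧸ B => B.map (MulAut.conj (Quotient.out c)).toMonoidHom)
  -- for A in 𝓐₁ choose g
  have hsel : ∀ A : Subgroup G, A ∈ 𝓐₁ → ∃ g : G, g * t * g⁻¹ ∈ A ∧ ∀ a ∈ A, g⁻¹ * a * g ∈ L := by
    intro A hA1
    obtain ⟨hAm, g, hg⟩ := Finset.mem_filter.1 hA1
    refine ⟨g, hg, ?_⟩
    have hn : Group.IsNilpotent (A.map (MulAut.conj g⁻¹).toMonoidHom : Subgroup G) := by
      haveI := hnilA A hAm
      let e : A ≃* (A.map (MulAut.conj g⁻¹).toMonoidHom : Subgroup G) := A.equivMapOfInjective _ (MulAut.conj g⁻¹).injective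
      exact Group.nilpotent_of_mulEquiv e
    have ht : t ∈ (A.map (MulAut.conj g⁻¹).toMonoidHom : Subgroup G) := by
      refine ⟨g * t * g⁻¹, hg, ?_⟩
      simp [mul_assoc]
    have hle := hnil _ hn ht
    intro a ha
    apply hle
    exact ⟨a, ha, by simp⟩
  choose! f hf1 hf2 using hsel
  have h1 : 𝓐₁.card ≤ 𝓑.card := by
    apply card_le_of_replace 𝓐 𝓐₁ 𝓑 (Finset.filter_subset _ _) hA hmin
    · intro C hC
      obtain ⟨c, _, rfl⟩ := Finset.mem_image.1 hC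
      intro htop
      apply hB
      have := congrArg (fun H : Subgroup G => H.comap (MulAut.conj (Quotient.out c)).toMonoidHom) htop
      rwa [Subgroup.comap_map_eq_self_of_injective (MulAut.conj (Quotient.out c)).injective, Subgroup.comap_top] at this
    · intro A hA1 a ha
      left
      have h2 := hf2 A hA1 a ha
      refine ⟨B.map (MulAut.conj (Quotient.out (QuotientGroup.mk (f A) : G ⧸ B))).toMonoidHom,
        Finset.mem_image.2 ⟨QuotientGroup.mk (f A), Finset.mem_univ _, rfl⟩, ?_⟩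
      obtain ⟨b, hb⟩ := QuotientGroup.mk_out_eq_mul B (f A)
      have hb' : Quotient.out (QuotientGroup.mk (f A) : G ⧸ B) = f A * b := hb
      rw [hb']
      refine ⟨(b : G)⁻¹ * ((f A)⁻¹ * a * f A) * b, mul_mem (mul_mem (inv_mem b.2) (hLB h2)) b.2, ?_⟩
      simp only [MulEquiv.coe_toMonoidHom, MulAut.conj_apply]
      group
  have h2 : 𝓑.card ≤ B.index := by
    refine Finset.card_image_le.trans ?_
    rw [Finset.card_univ, ← Nat.card_eq_fintype_card]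
    rfl
  have h3 : N.index ≤ 𝓐₁.card := by
    have hs : Function.Surjective (fun A : 𝓐₁ => (QuotientGroup.mk (f A.1) : G ⧸ N)) := by
      intro c
      obtain ⟨g, rfl⟩ := QuotientGroup.mk_surjective c
      obtain ⟨A, hAm, hg⟩ := hA.2 (g * t * g⁻¹)
      have hA1 : A ∈ 𝓐₁ := Finset.mem_filter.2 ⟨hAm, g, hg⟩
      refine ⟨⟨A, hA1⟩, ?_⟩
      have h4 := hf2 A hA1 _ hg
      have h5 : ((f A)⁻¹ * g) * t * ((f A)⁻¹ * g)⁻¹ ∈ L := by
        have : ((f A)⁻¹ * g) * t * ((f A)⁻¹ * g)⁻¹ = (f A)⁻¹ * (g * t * g⁻¹) * f A := by group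
        rw [this]; exact h4
      have h6 := hN _ h5
      exact QuotientGroup.eq.2 h6
    have := Nat.card_le_card_of_surjective _ hs
    rw [Nat.card_eq_fintype_card (α := 𝓐₁), Fintype.card_coe] at this
    exact this
  have h4 : N.index ≤ B.index := h3.trans (h1.trans h2)
  have h5 := N.card_mul_index
  have h6 := B.card_mul_index
  have h7 : 0 < N.index := Nat.pos_of_ne_zero Subgroup.index_ne_zero_of_finite
  have h8 : Nat.card N * N.index < Nat.card B * B.index :=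
    calc Nat.card N * N.index < Nat.card B * N.index := Nat.mul_lt_mul_of_pos_right hcard h7
      _ ≤ Nat.card B * B.index := Nat.mul_le_mul_left _ h4
  omega

/-- a nontrivial nilpotent subgroup has a nontrivial central element -/
theorem exists_central {A : Subgroup G} (hA : Group.IsNilpotent A) {t : G} (ht : t ∈ A) (ht1 : t ≠ 1) :
    ∃ z ∈ A, z ≠ 1 ∧ ∀ a ∈ A, z * a = a * z := by
  haveI := hA
  haveI : Nontrivial A := ⟨⟨⟨t, ht⟩, 1, fun h => ht1 (congrArg Subtype.val h)⟩⟩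
  have hc : Subgroup.center A ≠ ⊥ := Group.IsNilpotent.center_ne_bot A
  obtain ⟨z, hz⟩ := Subgroup.ne_bot_iff_exists_ne_one.1 hc
  refine ⟨(z : A), (z : A).2, fun h => hz (Subtype.ext (Subtype.ext h)), fun a ha => ?_⟩
  have := Subgroup.mem_center_iff.1 z.2 ⟨a, ha⟩
  exact (congrArg Subtype.val this).symm

end CfsgLib.NilCover
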