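import Mathlib
import Cfsg.Agent.EqBase
import Cfsg.Agent.LibTwoDeg19

set_option autoImplicit false
set_option maxHeartbeats 400000
set_option linter.unusedSectionVars false

/-! Groups with character degrees `1` and `p` (helper19) -/

namespace CfsgLib.TwoDeg19

open Cfsg CfsgLib.CharBasic CfsgLib.Clifford CfsgLib.Extend CfsgLib.CharIndA
open scoped ComplexConjugate commutatorElement

universe u v

/-- self-centralizing abelian subgroups containing the commutator subgroup -/
structure MA {G : Type u} [Group G] (A : Subgroup G) : Prop where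
  comm_le : commutator G ≤ A
  ab : ∀ a ∈ A, ∀ b ∈ A, a * b = b * a
  self : ∀ g : G, (∀ a ∈ A, g * a = a * g) → g ∈ A

theorem exists_MA {G : Type u} [Group G] [Finite G] {B : Subgroup G} (hB : commutator G ≤ B)
    (hab : ∀ a ∈ B, ∀ b ∈ B, a * b = b * a) : ∃ A : Subgroup G, B ≤ A ∧ MA A := by
  classical
  let S : Set (Subgroup G) := {A | B ≤ A ∧ ∀ a ∈ A, ∀ b ∈ A, a * b = b * a}
  obtain ⟨A, hBA, hA⟩ := (Set.toFinite S).exists_le_maximal (show B ∈ S from ⟨le_rfl, hab⟩)
  refine ⟨A, hBA, hB.trans hBA, hA.1.2, fun g hg => ?_⟩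
  have h1 : ∀ x ∈ (A : Set G) ∪ {g}, ∀ y ∈ (A : Set G) ∪ {g}, x * y = y * x := by
    rintro x (hx | hx) y (hy | hy)
    · exact hA.1.2 x hx y hy
    · rw [Set.mem_singleton_iff.1 hy]; exact (hg x hx).symm
    · rw [Set.mem_singleton_iff.1 hx]; exact hg y hy
    · rw [Set.mem_singleton_iff.1 hx, Set.mem_singleton_iff.1 hy]
  have h2 : ∀ x ∈ Subgroup.closure ((A : Set G) ∪ {g}), ∀ y ∈ Subgroup.closure ((A : Set G) ∪ {g}), x * y = y * x := by
    intro x hx y hy
    letI := Subgroup.closureCommGroupOfComm h1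
    exact congrArg Subtype.val (mul_comm (⟨x, hx⟩ : Subgroup.closure ((A : Set G) ∪ {g})) ⟨y, hy⟩)
  have h3 : A ≤ Subgroup.closure ((A : Set G) ∪ {g}) := fun x hx => Subgroup.subset_closure (Or.inl hx)
  have h4 : Subgroup.closure ((A : Set G) ∪ {g}) ≤ A := hA.2 (show _ ∈ S from ⟨hBA.trans h3, h2⟩) h3
  exact h4 (Subgroup.subset_closure (Or.inr rfl))

theorem normal_of_comm_le {G : Type u} [Group G] {A : Subgroup G} (h : commutator G ≤ A) : A.Normal := by
  refine ⟨fun n hn g => ?_⟩
  have h4 : ⁅g, n⁆ ∈ A := h (Subgroup.commutator_mem_commutator (Subgroup.mem_top _) (Subgroup.mem_top _))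
  have h5 : g * n * g⁻¹ = ⁅g, n⁆ * n := by rw [commutatorElement_def]; group
  rw [h5]
  exact A.mul_mem h4 hn

namespace MA

variable {G : Type u} [Group G] [Finite G] {A : Subgroup G} (hA : MA A) {p : ℕ} [hp : Fact p.Prime]

include hA

theorem normal : A.Normal := normal_of_comm_le hA.comm_le

theorem center_le : Subgroup.center G ≤ A := fun z hz => hA.self z fun a _ => (Subgroup.mem_center_iff.1 hz a).symm

theorem index_Tl (hd : Deg G p) (f : A →* ℂˣ) : (Tl hA.normal f).index = 1 ∨ (Tl hA.normal f).index = p := by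
  classical
  letI := Fintype.ofFinite G
  letI := Fintype.ofFinite A
  obtain ⟨χ, hχ, hne⟩ := exists_above A (isIrrCharacter_hom f)
  have h1 := clifford_degree hA.normal hχ (isIrrCharacter_hom f) hne
  obtain ⟨n, hn⟩ := char_mult (isCharacter_restrict (irr_isCharacter hχ) A) (irr_isCharacter (isIrrCharacter_hom f))
  rw [hn, CfsgLib.CharInt.irr_one_eq_charDegree hχ, map_one, Units.val_one, mul_one] at h1
  have h2 : (Tl hA.normal f).index ∣ charDegree χ := by
    refine Dvd.intro_left n ?_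
    have h3 : charDegree χ = n * (inertia hA.normal (fun n => (f n : ℂ))).index := by exact_mod_cast h1
    rw [h3]; rfl
  rcases hd ⟨χ, hχ⟩ with h | h
  · change charDegree χ = 1 at h
    rw [h] at h2
    left; exact Nat.dvd_one.1 h2
  · change charDegree χ = p at h
    rw [h] at h2
    exact (Nat.dvd_prime hp.out).1 h2

theorem Tl_normal (f : A →* ℂˣ) : (Tl hA.normal f).Normal :=
  normal_of_comm_le (hA.comm_le.trans (le_Tl _ f))

/-- the stabilizer of a non-invariant character: the character is trivial on its commutators -/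
theorem comm_Tl (hd : Deg G p) {f : A →* ℂˣ} (hf : (Tl hA.normal f).index = p) {x y : G} (hx : x ∈ Tl hA.normal f)
    (hy : y ∈ Tl hA.normal f) (hxy : ⁅x, y⁆ ∈ A) : f ⟨⁅x, y⁆, hxy⟩ = 1 := by
  classical
  letI := Fintype.ofFinite G
  letI := Fintype.ofFinite A
  set T := Tl hA.normal f with hT
  letI := Fintype.ofFinite T
  letI := Fintype.ofFinite (A.subgroupOf T)
  have hAT : A ≤ T := le_Tl _ f
  have hirr : IsIrrCharacter (A.subgroupOf T) (toSub T (fun n => (f n : ℂ))) := (toSub_irr hAT).2 (isIrrCharacter_hom f)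
  obtain ⟨ψ, hψ, hne⟩ := exists_above (A.subgroupOf T) hirr
  rw [← toSub_resT hAT, ci_toSub hAT] at hne
  have h3 := (clifford_corr hA.normal hAT (isIrrCharacter_hom f) (fun g => mem_inertia hA.normal) hψ hne).1
  have h4 : charDegree (indFun T ψ) = p * charDegree ψ := by
    have h5 := CfsgLib.CharInt.irr_one_eq_charDegree h3
    rw [ind_one, CfsgLib.CharInt.irr_one_eq_charDegree hψ, hf] at h5
    exact_mod_cast h5.symm
  have h5 : ψ 1 = 1 := by
    apply deg_one hψ
    rcases hd ⟨_, h3⟩ with h | h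
    · change charDegree (indFun T ψ) = 1 at h
      rw [h4] at h
      exact Nat.eq_one_of_mul_eq_one_left h
    · change charDegree (indFun T ψ) = p at h
      rw [h4] at h
      exact Nat.eq_of_mul_eq_mul_left hp.out.pos (by rw [h, mul_one])
  obtain ⟨μ, hμ⟩ := exists_hom_of_linear (irr_isCharacter hψ) h5
  have h6 : ∀ a : A, μ ⟨a, hAT a.2⟩ = f a := by
    have h7 := resT_of_invariant hA.normal hAT hψ (isIrrCharacter_hom f) (fun t ht => ht) hne
    have h8 := congrFun h7 1
    have h9 : resT hAT ψ 1 = 1 := by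
      change ψ ⟨_, _⟩ = 1
      exact h5
    rw [h9, Pi.smul_apply, map_one, Units.val_one, smul_eq_mul, mul_one] at h8
    rw [← h8, one_smul] at h7
    intro a
    apply Units.ext
    rw [← hμ]
    exact congrFun h7 a
  have h7 := h6 ⟨⁅x, y⁆, hxy⟩
  rw [← h7]
  have h8 : (⟨⁅x, y⁆, hAT hxy⟩ : T) = ⁅(⟨x, hx⟩ : T), ⟨y, hy⟩⁆ := rfl
  change μ ⟨⁅x, y⁆, hAT hxy⟩ = 1
  rw [h8, commutatorElement_def, map_mul, map_mul, map_mul, map_inv, map_inv, mul_comm (μ ⟨x, hx⟩), mul_inv_cancel_right, mul_inv_cancel]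

end MA

end CfsgLib.TwoDeg19
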