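import Mathlib
import Cfsg.Agent.EqBase
import Cfsg.Agent.LibTwoDegB19

set_option autoImplicit false
set_option maxHeartbeats 400000
set_option linter.unusedSectionVars false

/-! Groups with character degrees `1` and `p`, II (helper19) -/

namespace CfsgLib.TwoDeg19

open Cfsg CfsgLib.CharBasic CfsgLib.Clifford CfsgLib.Extend CfsgLib.CharIndA
open scoped ComplexConjugate commutatorElement

universe u v

theorem exists_pow_mul {G : Type u} [Group G] [Finite G] {p : ℕ} [hp : Fact p.Prime] {T : Subgroup G} (hT : T.Normal)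
    (hi : T.index = p) {r : G} (hr : r ∉ T) (g : G) : ∃ (i : ℕ) (t : G), t ∈ T ∧ g = r ^ i * t := by
  have h1 : Nat.card (G ⧸ T) = p := by rw [← Subgroup.index_eq_card]; exact hi
  have h2 : (r : G ⧸ T) ≠ 1 := fun h => hr ((QuotientGroup.eq_one_iff r).1 h)
  have h3 : (g : G ⧸ T) ∈ Subgroup.zpowers (r : G ⧸ T) := mem_zpowers_of_prime_card h1 h2
  rw [← mem_powers_iff_mem_zpowers] at h3
  obtain ⟨i, hi⟩ := h3
  refine ⟨i, (r ^ i)⁻¹ * g, ?_, by group⟩
  apply (QuotientGroup.eq).1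
  rw [QuotientGroup.mk_pow]
  exact hi

theorem eq_of_le_index {G : Type u} [Group G] [Finite G] {p : ℕ} [hp : Fact p.Prime] {S T : Subgroup G} (hS : S.index = p)
    (hT : T.index = p) (h : S ≤ T) : S = T := by
  apply le_antisymm h
  have h5 := Subgroup.relIndex_mul_index h
  rw [hS, hT] at h5
  have h6 : S.relIndex T = 1 := Nat.eq_of_mul_eq_mul_right hp.out.pos (by rw [h5, one_mul])
  exact Subgroup.relIndex_eq_one.1 h6

theorem sup_eq_top {G : Type u} [Group G] [Finite G] {p : ℕ} [hp : Fact p.Prime] {S T : Subgroup G} (hS : S.index = p)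
    (hT : T.index = p) (h : S ≠ T) : S ⊔ T = ⊤ := by
  have h1 : (S ⊔ T).index ∣ p := by rw [← hS]; exact Subgroup.index_dvd_of_le le_sup_left
  rcases (Nat.dvd_prime hp.out).1 h1 with h2 | h2
  · exact Subgroup.index_eq_one.1 h2
  · exfalso
    apply h
    rw [eq_of_le_index hS h2 le_sup_left]
    conv_rhs => rw [eq_of_le_index hT h2 le_sup_right]

section Abs
variable {G : Type u} [Group G] [Finite G] {X : Type v} [CommGroup X] (φ : G →* MulAut X) {S : X → Subgroup G}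
  (hS : ∀ x g, g ∈ S x ↔ φ g x = x) (hn : ∀ x, (S x).Normal) {p : ℕ} [hp : Fact p.Prime]
  (hi : ∀ x, (S x).index = 1 ∨ (S x).index = p)

include hS hn in
theorem act_conj {f : X} {t : G} (ht : t ∈ S f) (r : G) : φ t (φ r f) = φ r f := by
  have h1 : r⁻¹ * t * r ∈ S f := by
    have := (hn f).conj_mem t ht r⁻¹
    simpa using this
  have h2 := (hS f _).1 h1
  rw [← MulAut.mul_apply, ← map_mul]
  have h3 : t * r = r * (r⁻¹ * t * r) := by group
  rw [h3, map_mul, MulAut.mul_apply, h2]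

theorem act_pow {f δ : X} {r : G} (h : φ r f = f * δ) (hδ : φ r δ = δ) (i : ℕ) : φ (r ^ i) f = f * δ ^ i := by
  induction i with
  | zero => rw [pow_zero, pow_zero, mul_one, map_one]; rfl
  | succ i ih => rw [pow_succ', map_mul, MulAut.mul_apply, ih, map_mul, h, map_pow, hδ, mul_assoc, ← pow_succ']

include hS hn hi in
/-- two characters with different stabilizers -/
theorem pair {l m : X} (hl : (S l).index = p) (hm : (S m).index = p)
    (hne : S l ≠ S m) : ∃ δ : X, δ ≠ 1 ∧ δ ^ p = 1 ∧ (∀ g, φ g δ = δ) ∧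
      (∀ g, ∃ i : ℕ, φ g l = l * δ ^ i) ∧ (∀ g, ∃ i : ℕ, φ g m = m * δ ^ i) ∧ ∃ g, φ g l = l * δ := by
  set R := S (l * m) with hR
  have hactlm : ∀ r ∈ R, φ r l * φ r m = l * m := by
    intro r hr
    rw [← map_mul]
    exact (hS (l * m) r).1 hr
  have hnl : ¬ S l ≤ R := by
    intro h
    apply hne
    apply eq_of_le_index hl hm
    intro t ht
    have h1 := hactlm t (h ht)
    rw [(hS l t).1 ht] at h1
    exact (hS m t).2 (mul_left_cancel h1)
  have hnm : ¬ S m ≤ R := by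
    intro h
    apply hne.symm
    apply eq_of_le_index hm hl
    intro t ht
    have h1 := hactlm t (h ht)
    rw [(hS m t).1 ht] at h1
    exact (hS l t).2 (mul_right_cancel h1)
  have hRi : R.index = p := by
    rcases hi (l * m) with h | h
    · exfalso
      apply hnl
      rw [hR, Subgroup.index_eq_one.1 h]; exact le_top
    · exact h
  have h1 : ¬ R ≤ S l := fun h => hnl (eq_of_le_index hRi hl h).ge
  obtain ⟨r, hr, hrl⟩ := SetLike.not_le_iff_exists.1 h1
  set δ := φ r l * l⁻¹ with hδ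
  have hδ' : φ r l = l * δ := by rw [hδ, mul_comm l, inv_mul_cancel_right]
  have hδm : φ r m = m * δ⁻¹ := by
    have h2 := hactlm r hr
    rw [hδ'] at h2
    have h3 : φ r m = (l * δ)⁻¹ * (l * m) := by rw [← h2, inv_mul_cancel_left]
    rw [h3, mul_inv_rev, mul_assoc, inv_mul_cancel_left, mul_comm]
  have hfix : ∀ g, φ g δ = δ := by
    intro g
    have h2 : S l ⊔ S m ≤ S δ := by
      apply sup_le
      · intro t ht
        rw [hS, hδ, map_mul, act_conj φ hS hn ht, map_inv, (hS l t).1 ht]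
      · intro t ht
        have h3 : δ = (φ r m * m⁻¹)⁻¹ := by rw [hδm, mul_inv_rev, inv_inv, mul_inv_rev, inv_inv, mul_comm δ, mul_inv_cancel_left]
        rw [hS, h3, map_inv, map_mul, act_conj φ hS hn ht, map_inv, (hS m t).1 ht]
    rw [sup_eq_top hl hm hne] at h2
    exact (hS δ g).1 (h2 (Subgroup.mem_top _))
  have hδ1 : δ ≠ 1 := by
    intro h
    apply hrl
    rw [hS, hδ', h, mul_one]
  have hrm : r ∉ S m := by
    intro h
    rw [hS, hδm] at h
    apply hδ1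
    exact inv_eq_one.1 (mul_eq_left.1 h)
  have hpow : δ ^ p = 1 := by
    haveI := hn l
    have h2 : r ^ p ∈ S l := by rw [← hl]; exact Subgroup.pow_index_mem _ r
    have h3 := act_pow φ hδ' (hfix r) p
    rw [(hS l _).1 h2] at h3
    exact mul_eq_left.1 h3.symm
  refine ⟨δ, hδ1, hpow, hfix, fun g => ?_, fun g => ?_, r, hδ'⟩
  · obtain ⟨i, t, ht, rfl⟩ := exists_pow_mul (hn l) hl hrl g
    refine ⟨i, ?_⟩
    rw [map_mul, MulAut.mul_apply, (hS l t).1 ht, act_pow φ hδ' (hfix r)]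
  · obtain ⟨i, t, ht, rfl⟩ := exists_pow_mul (hn m) hm hrm g
    have h4 : φ r δ⁻¹ = δ⁻¹ := by rw [map_inv, hfix]
    refine ⟨(p - 1) * i, ?_⟩
    rw [map_mul, MulAut.mul_apply, (hS m t).1 ht, act_pow φ hδm h4]
    congr 1
    have h5 : δ⁻¹ = δ ^ (p - 1) := by
      rw [inv_eq_iff_mul_eq_one, ← pow_succ', Nat.sub_add_cancel hp.out.one_lt.le, hpow]
    rw [h5, ← pow_mul]

include hS hn hi in
theorem exists_delta {l m : X} (hl : (S l).index = p) (hm : (S m).index = p) (hne : S l ≠ S m) :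
    ∃ δ : X, δ ≠ 1 ∧ δ ^ p = 1 ∧ (∀ g, φ g δ = δ) ∧
      (∀ (f : X) g, ∃ i : ℕ, φ g f = f * δ ^ i) ∧ ∃ (f : X) (g : G), φ g f = f * δ := by
  obtain ⟨δ, h1, h2, h3, h4, h5, g₀, hg₀⟩ := pair φ hS hn hi hl hm hne
  refine ⟨δ, h1, h2, h3, ?_, l, g₀, hg₀⟩
  intro f g
  rcases hi f with h | h
  · refine ⟨0, ?_⟩
    rw [pow_zero, mul_one, ← hS, Subgroup.index_eq_one.1 h]; exact Subgroup.mem_top _
  -- general comparison
  have key : ∀ l' : X, (S l').index = p → (∃ g' : G, ∃ j : ℕ, δ ^ j ≠ 1 ∧ φ g' l' = l' * δ ^ j) →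
      S l' ≠ S f → ∃ i : ℕ, φ g f = f * δ ^ i := by
    rintro l' hl' ⟨g', j, hj, hg'⟩ hne'
    obtain ⟨δ', h1', h2', h3', h4', h5', -⟩ := pair φ hS hn hi hl' h hne'
    obtain ⟨i, hi⟩ := h4' g'
    rw [hg'] at hi
    have h6 : δ ^ j = δ' ^ i := mul_left_cancel hi
    have ho : orderOf δ' = p := orderOf_eq_prime h2' h1'
    have ho' : orderOf (δ ^ j) = p := orderOf_eq_prime (by rw [← pow_mul, mul_comm, pow_mul, h2, one_pow]) hj
    have hfin : Finite (Subgroup.zpowers δ') := Nat.finite_of_card_ne_zero (by rw [Nat.card_zpowers, ho]; exact hp.out.ne_zero)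
    have h7 : δ' ∈ Subgroup.zpowers (δ ^ j) := by
      have h8 : Subgroup.zpowers (δ ^ j) = Subgroup.zpowers δ' := by
        apply Subgroup.eq_of_le_of_card_ge
        · rw [Subgroup.zpowers_le, h6]; exact Subgroup.npow_mem_zpowers _ _
        · rw [Nat.card_zpowers, Nat.card_zpowers, ho, ho']
      rw [h8]; exact Subgroup.mem_zpowers _
    have hfo : IsOfFinOrder (δ ^ j) := isOfFinOrder_iff_pow_eq_one.2 ⟨p, hp.out.pos, by rw [← ho']; exact pow_orderOf_eq_one _⟩
    rw [← hfo.mem_powers_iff_mem_zpowers] at h7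
    obtain ⟨k, hk⟩ := h7
    obtain ⟨i', hi'⟩ := h5' g
    refine ⟨j * k * i', ?_⟩
    rw [hi', pow_mul, pow_mul, ← hk]
  by_cases h6 : S l = S f
  · have h7 : S m ≠ S f := by rw [← h6]; exact hne.symm
    refine key m hm ?_ h7
    have h8 : S m ≠ ⊤ := by
      intro h9
      rw [h9, Subgroup.index_top] at hm
      exact hp.out.one_lt.ne hm
    obtain ⟨g', -, hg'⟩ := SetLike.exists_of_lt (lt_top_iff_ne_top.2 h8)
    obtain ⟨j, hj⟩ := h5 g'
    refine ⟨g', j, ?_, hj⟩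
    intro h9
    apply hg'
    rw [hS, hj, h9, mul_one]
  · exact key l hl ⟨g₀, 1, by rwa [pow_one], by rwa [pow_one]⟩ h6

end Abs

namespace MA

variable {G : Type u} [Group G] [Finite G] {A : Subgroup G} (hA : MA A) {p : ℕ} [hp : Fact p.Prime]

include hA

/-- hypothesis: no abelian normal subgroup of index `p` -/
theorem exists_pair (hd : Deg G p) (hab : ∃ a b : G, a * b ≠ b * a)
    (hno : ¬ ∃ B : Subgroup G, B.Normal ∧ (∀ a ∈ B, ∀ b ∈ B, a * b = b * a) ∧ B.index = p) :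
    ∃ l m : A →* ℂˣ, (Tl hA.normal l).index = p ∧ (Tl hA.normal m).index = p ∧ Tl hA.normal l ≠ Tl hA.normal m := by
  have h0 : ∀ g : G, (∀ f : A →* ℂˣ, g ∈ Tl hA.normal f) → g ∈ A := fun g hg =>
    hA.self g (comm_of_Tl hA.normal hA.ab hg)
  have h1 : ∃ l : A →* ℂˣ, (Tl hA.normal l).index = p := by
    by_contra hcon
    push Not at hcon
    obtain ⟨a, b, hne⟩ := hab
    have h2 : ∀ g : G, g ∈ A := fun g => h0 g fun f => by
      rw [Subgroup.index_eq_one.1 ((hA.index_Tl hd f).resolve_right (hcon f))]; exact Subgroup.mem_top _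
    exact hne (hA.ab a (h2 a) b (h2 b))
  obtain ⟨l, hl⟩ := h1
  by_contra hcon
  push Not at hcon
  apply hno
  refine ⟨A, hA.normal, hA.ab, ?_⟩
  have h3 : Tl hA.normal l ≤ A := by
    intro g hg
    apply h0
    intro f
    rcases hA.index_Tl hd f with h | h
    · rw [Subgroup.index_eq_one.1 h]; exact Subgroup.mem_top _
    · rw [← hcon l f hl h]; exact hg
  rw [← hl]
  congr 1
  exact le_antisymm (le_Tl _ l) h3

/-- the distinguished character of `A` -/
theorem exists_del (hd : Deg G p) (hab : ∃ a b : G, a * b ≠ b * a)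
    (hno : ¬ ∃ B : Subgroup G, B.Normal ∧ (∀ a ∈ B, ∀ b ∈ B, a * b = b * a) ∧ B.index = p) :
    ∃ δ : A →* ℂˣ, (∃ a, δ a ≠ 1) ∧ (∀ a, (δ a) ^ p = 1) ∧
      (∀ (g : G) (a : A), δ ⟨g * a * g⁻¹, hA.normal.conj_mem a a.2 g⟩ = δ a) ∧
      (∀ (f : A →* ℂˣ) (g : G), ∃ i : ℕ, ∀ a : A, f ⟨g * a * g⁻¹, hA.normal.conj_mem a a.2 g⟩ = f a * (δ a) ^ i) ∧
      ∃ (f : A →* ℂˣ) (g : G), ∀ a : A, f ⟨g * a * g⁻¹, hA.normal.conj_mem a a.2 g⟩ = f a * δ a := by
  haveI := hA.normal
  obtain ⟨l, m, hl, hm, hne⟩ := hA.exists_pair hd hab hno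
  obtain ⟨δ, h1, h2, h3, h4, f₀, g₀, h5⟩ := exists_delta (actX hA.normal) (S := Tl hA.normal)
    (fun x g => (actX_fix hA.normal g x).symm) (hA.Tl_normal) (hA.index_Tl hd) hl hm hne
  have hval : ∀ (f : A →* ℂˣ) (g : G) (a : A), actX hA.normal g⁻¹ f a = f ⟨g * a * g⁻¹, hA.normal.conj_mem a a.2 g⟩ := by
    intro f g a
    change f ((MulAut.conjNormal (g⁻¹)⁻¹ : MulAut A) a) = _
    congr 1
    apply Subtype.ext
    rw [MulAut.conjNormal_apply, inv_inv]
  refine ⟨δ, ?_, ?_, ?_, ?_, f₀, g₀⁻¹, ?_⟩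
  · by_contra hcon
    push Not at hcon
    exact h1 (MonoidHom.ext hcon)
  · intro a
    have := DFunLike.congr_fun h2 a
    exact this
  · intro g a
    rw [← hval, h3]
  · intro f g
    obtain ⟨i, hi⟩ := h4 f g⁻¹
    refine ⟨i, fun a => ?_⟩
    rw [← hval, hi]; rfl
  · intro a
    rw [← hval, inv_inv, h5]; rfl

end MA

end CfsgLib.TwoDeg19
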