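import Mathlib
import Cfsg.Agent.EqBase
import Cfsg.Agent.LibTwoDegC19

set_option autoImplicit false
set_option maxHeartbeats 400000
set_option linter.unusedSectionVars false

/-! Groups with character degrees `1` and `p`, III (helper19) -/

namespace CfsgLib.TwoDeg19

open Cfsg CfsgLib.CharBasic CfsgLib.Clifford CfsgLib.Extend CfsgLib.CharIndA
open scoped ComplexConjugate commutatorElement

universe u v

/-- the data obtained so far -/
structure Del {G : Type u} [Group G] [Finite G] {A : Subgroup G} (hA : MA A) (p : ℕ) (δ : A →* ℂˣ) : Prop where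
  ne : ∃ a, δ a ≠ 1
  pow : ∀ a, (δ a) ^ p = 1
  inv : ∀ (g : G) (a : A), δ ⟨g * a * g⁻¹, hA.normal.conj_mem a a.2 g⟩ = δ a
  act : ∀ (f : A →* ℂˣ) (g : G), ∃ i : ℕ, ∀ a : A, f ⟨g * a * g⁻¹, hA.normal.conj_mem a a.2 g⟩ = f a * (δ a) ^ i
  ex : ∃ (f : A →* ℂˣ) (g : G), ∀ a : A, f ⟨g * a * g⁻¹, hA.normal.conj_mem a a.2 g⟩ = f a * δ a

namespace Del

variable {G : Type u} [Group G] [Finite G] {A : Subgroup G} {hA : MA A} {p : ℕ} [hp : Fact p.Prime] {δ : A →* ℂˣ}
  (h : Del hA p δ)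

include h

theorem mem_center (a : A) : (a : G) ∈ Subgroup.center G ↔ δ a = 1 := by
  constructor
  · intro ha
    obtain ⟨f, g, hfg⟩ := h.ex
    have h1 := hfg a
    have h2 : (⟨g * a * g⁻¹, hA.normal.conj_mem a a.2 g⟩ : A) = a := by
      apply Subtype.ext
      change g * (a : G) * g⁻¹ = a
      rw [Subgroup.mem_center_iff.1 ha g, mul_inv_cancel_right]
    rw [h2] at h1
    exact mul_eq_left.1 h1.symm
  · intro ha
    rw [Subgroup.mem_center_iff]
    intro g
    by_contra hcon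
    have hab' : ∀ a b : A, a * b = b * a := fun a b => Subtype.ext (hA.ab a a.2 b b.2)
    have h1 : (⟨g * a * g⁻¹, hA.normal.conj_mem a a.2 g⟩ : A) * a⁻¹ ≠ 1 := by
      intro h2
      apply hcon
      have h3 := congrArg Subtype.val (mul_inv_eq_one.1 h2)
      change g * (a : G) * g⁻¹ = a at h3
      exact mul_inv_eq_iff_eq_mul.1 h3
    obtain ⟨f, hf⟩ := exists_hom_ne_one hab' h1
    apply hf
    obtain ⟨i, hi⟩ := h.act f g
    rw [map_mul, map_inv, hi a, ha, one_pow, mul_one, mul_inv_cancel]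

theorem relIndex_center : (Subgroup.center G).relIndex A = p := by
  have h1 : (Subgroup.center G).subgroupOf A = δ.ker := by
    ext a
    rw [Subgroup.mem_subgroupOf, h.mem_center, MonoidHom.mem_ker]
  have h2 : (Subgroup.center G).relIndex A = Nat.card δ.range := by
    rw [Subgroup.relIndex, h1, Subgroup.index_ker]
  have h3 : δ.range ≤ rootsOfUnity p ℂ := by
    rintro _ ⟨a, rfl⟩
    rw [mem_rootsOfUnity]; exact h.pow a
  have h4 : Nat.card δ.range ∣ p := by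
    have h5 : Nat.card (rootsOfUnity p ℂ) = p := by
      exact Complex.card_rootsOfUnity p
    have h6 := Subgroup.card_dvd_of_le h3
    rwa [h5] at h6
  rw [h2]
  refine ((Nat.dvd_prime hp.out).1 h4).resolve_left ?_
  intro h5
  obtain ⟨a, ha⟩ := h.ne
  apply ha
  have h6 : δ.range = ⊥ := Subgroup.card_eq_one.1 h5
  have h7 : δ a ∈ δ.range := ⟨a, rfl⟩
  rw [h6, Subgroup.mem_bot] at h7
  exact h7

theorem exists_form {a : G} (ha : a ∈ A) (haZ : a ∉ Subgroup.center G) {b : G} (hb : b ∈ A) :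
    ∃ (i : ℕ) (z : G), z ∈ Subgroup.center G ∧ b = a ^ i * z := by
  have h1 : ((Subgroup.center G).subgroupOf A).Normal := inferInstance
  obtain ⟨i, t, ht, hbt⟩ := exists_pow_mul h1 h.relIndex_center (r := (⟨a, ha⟩ : A)) (fun h2 => haZ (Subgroup.mem_subgroupOf.1 h2)) ⟨b, hb⟩
  exact ⟨i, t, Subgroup.mem_subgroupOf.1 ht, congrArg Subtype.val hbt⟩

theorem centralizer_eq {a : G} (ha : a ∈ A) (haZ : a ∉ Subgroup.center G) {g : G} (hg : g * a = a * g) : g ∈ A := by
  apply hA.self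
  intro b hb
  obtain ⟨i, z, hz, rfl⟩ := h.exists_form ha haZ hb
  have h1 : Commute g a := hg
  have h2 : Commute g z := (Subgroup.mem_center_iff.1 hz g)
  exact (h1.pow_right i).mul_right h2

theorem pow_mem (g : G) : g ^ p ∈ A := by
  apply hA.self
  apply comm_of_Tl hA.normal hA.ab
  intro f
  rw [mem_Tl]
  obtain ⟨i, hi⟩ := h.act f g
  have h1 : ∀ (k : ℕ) (a : A), f ⟨g ^ k * a * (g ^ k)⁻¹, hA.normal.conj_mem a a.2 (g ^ k)⟩ = f a * (δ a) ^ (i * k) := by
    intro k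
    induction k with
    | zero =>
      intro a
      have h0 : (δ a) ^ (i * 0) = 1 := pow_zero _
      rw [h0, mul_one]
      congr 1
      apply Subtype.ext
      change g ^ 0 * (a : G) * (g ^ 0)⁻¹ = a
      rw [pow_zero, one_mul, inv_one, mul_one]
    | succ k ih =>
      intro a
      have h2 : (⟨g ^ (k + 1) * a * (g ^ (k + 1))⁻¹, hA.normal.conj_mem a a.2 (g ^ (k + 1))⟩ : A) =
          ⟨g ^ k * (⟨g * a * g⁻¹, hA.normal.conj_mem a a.2 g⟩ : A) * (g ^ k)⁻¹, hA.normal.conj_mem _ (⟨g * a * g⁻¹, hA.normal.conj_mem a a.2 g⟩ : A).2 (g ^ k)⟩ := by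
        apply Subtype.ext
        change g ^ (k + 1) * (a : G) * (g ^ (k + 1))⁻¹ = g ^ k * (g * a * g⁻¹) * (g ^ k)⁻¹
        rw [pow_succ, mul_inv_rev]; group
      rw [h2, ih, h.inv, hi, mul_assoc, ← pow_add]
      congr 2; ring
  intro a
  rw [h1, mul_comm i, pow_mul, h.pow, one_pow, mul_one]

theorem exists_index : ∃ n : ℕ, A.index = p ^ n := by
  haveI := hA.normal
  have h1 : IsPGroup p (G ⧸ A) := by
    intro q
    obtain ⟨g, rfl⟩ := QuotientGroup.mk_surjective q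
    refine ⟨1, ?_⟩
    rw [pow_one, ← QuotientGroup.mk_pow]
    exact (QuotientGroup.eq_one_iff _).2 (h.pow_mem g)
  obtain ⟨n, hn⟩ := IsPGroup.iff_card.1 h1
  exact ⟨n, by rw [Subgroup.index_eq_card]; exact hn⟩

theorem exists_out : ∃ a ∈ A, a ∉ Subgroup.center G := by
  obtain ⟨a, ha⟩ := h.ne
  exact ⟨a, a.2, fun h1 => ha ((h.mem_center a).1 h1)⟩

theorem comm_mem_center {a : G} (ha : a ∈ A) (g : G) : g * a * g⁻¹ * a⁻¹ ∈ Subgroup.center G := by
  have h1 : (⟨g * a * g⁻¹, hA.normal.conj_mem a ha g⟩ : A) * (⟨a, ha⟩ : A)⁻¹ ∈ A.subtype.ker ⊔ ⊤ := by simp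
  have h2 := (h.mem_center ((⟨g * a * g⁻¹, hA.normal.conj_mem a ha g⟩ : A) * (⟨a, ha⟩ : A)⁻¹)).2 (by
    rw [map_mul, map_inv, h.inv g ⟨a, ha⟩, mul_inv_cancel])
  exact h2

/-- the commutator map with a fixed element of `A` -/
def cmap {a : G} (ha : a ∈ A) : G →* G where
  toFun g := g * a * g⁻¹ * a⁻¹
  map_one' := by group
  map_mul' x y := by
    have h1 := Subgroup.mem_center_iff.1 (h.comm_mem_center ha y)
    have h2 : x * y * a * (x * y)⁻¹ * a⁻¹ = x * (y * a * y⁻¹ * a⁻¹) * (a * x⁻¹ * a⁻¹) := by group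
    rw [h2, h1 x]
    have h3 := Subgroup.mem_center_iff.1 (h.comm_mem_center ha x)
    rw [h1 (x * a * x⁻¹ * a⁻¹)]
    group

/-- if the index is at least `p³` then the commutators are central -/
theorem comm_central (hd : Deg G p) {n : ℕ} (hn : A.index = p ^ n) (hn3 : 3 ≤ n) : commutator G ≤ Subgroup.center G := by
  classical
  haveI := hA.normal
  rw [commutator_def, Subgroup.commutator_le]
  intro x _ y _
  have hxyA : ⁅x, y⁆ ∈ A := hA.comm_le (Subgroup.commutator_mem_commutator (Subgroup.mem_top _) (Subgroup.mem_top _))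
  obtain ⟨a, haA, haZ⟩ := h.exists_out
  -- the proper subgroup containing A, x, y
  have hcommQ : ∀ u v : G ⧸ A, u * v = v * u := by
    intro u v
    obtain ⟨g, rfl⟩ := QuotientGroup.mk_surjective u
    obtain ⟨k, rfl⟩ := QuotientGroup.mk_surjective v
    rw [← QuotientGroup.mk_mul, ← QuotientGroup.mk_mul, QuotientGroup.eq]
    have h1 : (g * k)⁻¹ * (k * g) = ⁅k⁻¹, g⁻¹⁆ := by rw [commutatorElement_def]; group
    rw [h1]
    exact hA.comm_le (Subgroup.commutator_mem_commutator (Subgroup.mem_top _) (Subgroup.mem_top _))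
  have hcard : ∀ u : G ⧸ A, Nat.card (Subgroup.zpowers u) ≤ p := by
    intro u
    obtain ⟨g, rfl⟩ := QuotientGroup.mk_surjective u
    rw [Nat.card_zpowers]
    apply Nat.le_of_dvd hp.out.pos
    apply orderOf_dvd_of_pow_eq_one
    rw [← QuotientGroup.mk_pow]
    exact (QuotientGroup.eq_one_iff _).2 (h.pow_mem g)
  set V : Subgroup (G ⧸ A) := Subgroup.zpowers (x : G ⧸ A) ⊔ Subgroup.zpowers (y : G ⧸ A) with hV
  have hVcard : Nat.card V ≤ p * p := by
    haveI : (Subgroup.zpowers (y : G ⧸ A)).Normal := ⟨fun v hv g => by rwa [hcommQ g v, mul_inv_cancel_right]⟩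
    have h1 := Subgroup.relIndex_mul_relIndex (⊥ : Subgroup (G ⧸ A)) (Subgroup.zpowers (y : G ⧸ A)) V bot_le le_sup_right
    rw [Subgroup.relIndex_bot_left, Subgroup.relIndex_bot_left, hV, Subgroup.relIndex_sup_right] at h1
    rw [hV, ← h1]
    exact Nat.mul_le_mul (hcard y) ((Nat.le_of_dvd Nat.card_pos (Subgroup.relIndex_dvd_card _ _)).trans (hcard x))
  have hVtop : V ≠ ⊤ := by
    intro h1
    rw [h1, Subgroup.card_top, ← Subgroup.index_eq_card, hn] at hVcard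
    have h2 : p ^ 3 ≤ p ^ n := Nat.pow_le_pow_right hp.out.pos hn3
    have h3 : p * p < p ^ 3 := by
      have := hp.out.one_lt
      have h4 : 0 < p * p := Nat.mul_pos hp.out.pos hp.out.pos
      nlinarith
    omega
  set U : Subgroup G := V.comap (QuotientGroup.mk' A) with hU
  have hAU : A ≤ U := by
    intro b hb
    rw [hU, Subgroup.mem_comap]
    have : QuotientGroup.mk' A b = 1 := (QuotientGroup.eq_one_iff b).2 hb
    rw [this]; exact V.one_mem
  have hxU : x ∈ U := Subgroup.mem_sup_left (Subgroup.mem_zpowers _)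
  have hyU : y ∈ U := Subgroup.mem_sup_right (Subgroup.mem_zpowers _)
  obtain ⟨q, -, hq⟩ := SetLike.exists_of_lt (lt_top_iff_ne_top.2 hVtop)
  obtain ⟨g, rfl⟩ := QuotientGroup.mk_surjective q
  have hgU : g ∉ U := hq
  set c := h.cmap haA with hc
  have hcdef : ∀ k, c k = k * a * k⁻¹ * a⁻¹ := fun k => rfl
  have hcZ : ∀ k, c k ∈ Subgroup.center G := fun k => h.comm_mem_center haA k
  have hcA : ∀ k, c k ∈ A := fun k => hA.center_le (hcZ k)
  have hgK : c g ∉ U.map c := by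
    rintro ⟨u, hu, hue⟩
    apply hgU
    have h1 : c (g * u⁻¹) = 1 := by rw [map_mul, map_inv, hue, mul_inv_cancel]
    rw [hcdef, mul_inv_eq_one, mul_inv_eq_iff_eq_mul] at h1
    have h2 := h.centralizer_eq haA haZ h1
    have h3 := U.mul_mem (hAU h2) hu
    rwa [inv_mul_cancel_right] at h3
  haveI hKn : ((U.map c).subgroupOf A).Normal := ⟨fun k hk b => by
    have : b * k * b⁻¹ = k := by
      apply Subtype.ext
      change (b : G) * k * (b : G)⁻¹ = k
      rw [hA.ab b b.2 k k.2, mul_inv_cancel_right]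
    rwa [this]⟩
  have hne : ((⟨c g, hcA g⟩ : A) : A ⧸ (U.map c).subgroupOf A) ≠ 1 := by
    intro h1
    exact hgK (Subgroup.mem_subgroupOf.1 ((QuotientGroup.eq_one_iff _).1 h1))
  have habQ : ∀ u v : A ⧸ (U.map c).subgroupOf A, u * v = v * u := by
    intro u v
    obtain ⟨b, rfl⟩ := QuotientGroup.mk_surjective u
    obtain ⟨b', rfl⟩ := QuotientGroup.mk_surjective v
    rw [← QuotientGroup.mk_mul, ← QuotientGroup.mk_mul]
    congr 1
    exact Subtype.ext (hA.ab b b.2 b' b'.2)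
  obtain ⟨f₀, hf₀⟩ := exists_hom_ne_one habQ hne
  let ν : A →* ℂˣ := f₀.comp (QuotientGroup.mk' _)
  have hνK : ∀ k (hk : k ∈ U), ν ⟨c k, hcA k⟩ = 1 := by
    intro k hk
    change f₀ ((⟨c k, hcA k⟩ : A) : A ⧸ (U.map c).subgroupOf A) = 1
    have h1 : ((⟨c k, hcA k⟩ : A) : A ⧸ (U.map c).subgroupOf A) = 1 :=
      (QuotientGroup.eq_one_iff _).2 (Subgroup.mem_subgroupOf.2 ⟨k, hk, rfl⟩)
    rw [h1, map_one]
  have hνg : ν ⟨c g, hcA g⟩ ≠ 1 := hf₀
  have hform : ∀ (k : G) (b : A), ∃ i : ℕ, (⟨k * b * k⁻¹, hA.normal.conj_mem b b.2 k⟩ : A) = ⟨c k, hcA k⟩ ^ i * b := by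
    intro k b
    obtain ⟨i, z, hz, hb⟩ := h.exists_form haA haZ b.2
    refine ⟨i, ?_⟩
    apply Subtype.ext
    change k * (b : G) * k⁻¹ = (c k) ^ i * b
    have h1 : Commute (c k) a := (Subgroup.mem_center_iff.1 (hcZ k) a).symm
    have h2 : k * a * k⁻¹ = c k * a := by rw [hcdef]; group
    have h3 : k * z * k⁻¹ = z := by rw [Subgroup.mem_center_iff.1 hz k, mul_inv_cancel_right]
    calc k * (b : G) * k⁻¹ = (k * a ^ i * k⁻¹) * (k * z * k⁻¹) := by rw [hb]; group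
      _ = (c k * a) ^ i * z := by rw [← conj_pow, h2, h3]
      _ = (c k) ^ i * b := by rw [h1.mul_pow, hb, mul_assoc]
  have hmem : ∀ (f : A →* ℂˣ), (∀ k ∈ U, f ⟨c k, hcA k⟩ = 1) → ∀ k ∈ U, k ∈ Tl hA.normal f := by
    intro f hf k hk
    rw [mem_Tl]
    intro b
    obtain ⟨i, hi⟩ := hform k b
    rw [hi, map_mul, map_pow, hf k hk, one_pow, one_mul]
  have hnmem : ∀ (f : A →* ℂˣ), f ⟨c g, hcA g⟩ ≠ 1 → g ∉ Tl hA.normal f := by
    intro f hf h1
    apply hf
    have h2 := (mem_Tl hA.normal).1 h1 ⟨a, haA⟩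
    have h3 : (⟨g * (⟨a, haA⟩ : A) * g⁻¹, hA.normal.conj_mem a haA g⟩ : A) = ⟨c g, hcA g⟩ * ⟨a, haA⟩ := by
      apply Subtype.ext
      change g * a * g⁻¹ = c g * a
      rw [hcdef]; group
    rw [h3, map_mul] at h2
    exact mul_eq_right.1 h2
  have hδc : ∀ k, δ ⟨c k, hcA k⟩ = 1 := fun k => (h.mem_center _).1 (hcZ k)
  have hkey : ∀ (f : A →* ℂˣ), (∀ k ∈ U, f ⟨c k, hcA k⟩ = 1) → f ⟨c g, hcA g⟩ ≠ 1 → f ⟨⁅x, y⁆, hxyA⟩ = 1 := by
    intro f hf hfg
    have h1 : (Tl hA.normal f).index = p := by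
      refine (hA.index_Tl hd f).resolve_left fun h2 => hnmem f hfg ?_
      rw [Subgroup.index_eq_one.1 h2]; exact Subgroup.mem_top _
    exact hA.comm_Tl hd h1 (hmem f hf x hxU) (hmem f hf y hyU) hxyA
  have h1 := hkey ν hνK hνg
  have h2 := hkey (ν * δ) (fun k hk => by rw [MonoidHom.mul_apply, hνK k hk, hδc, mul_one])
    (by rw [MonoidHom.mul_apply, hδc, mul_one]; exact hνg)
  rw [MonoidHom.mul_apply, h1, one_mul] at h2
  exact (h.mem_center ⟨⁅x, y⁆, hxyA⟩).2 h2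

end Del

end CfsgLib.TwoDeg19
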