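import Mathlib
import Cfsg.Agent.EqBase
import Cfsg.Agent.LibTwoDegD19

set_option autoImplicit false
set_option maxHeartbeats 400000
set_option linter.unusedSectionVars false

/-! Groups with character degrees `1` and `p`, IV (helper19) -/

namespace CfsgLib.TwoDeg19

open Cfsg CfsgLib.CharBasic CfsgLib.Clifford CfsgLib.Extend CfsgLib.CharIndA
open scoped ComplexConjugate commutatorElement

universe u v

variable {G : Type u} [Group G] [Finite G] {p : ℕ} [hp : Fact p.Prime]

theorem exists_Del {A : Subgroup G} (hA : MA A) (hd : Deg G p) (hab : ∃ a b : G, a * b ≠ b * a)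
    (hno : ¬ ∃ B : Subgroup G, B.Normal ∧ (∀ a ∈ B, ∀ b ∈ B, a * b = b * a) ∧ B.index = p) : ∃ δ, Del hA p δ := by
  obtain ⟨δ, h1, h2, h3, h4, h5⟩ := hA.exists_del hd hab hno
  exact ⟨δ, ⟨h1, h2, h3, h4, h5⟩⟩

theorem card_cent_le (hd : Deg G p) (hab : ∃ a b : G, a * b ≠ b * a)
    (hno : ¬ ∃ B : Subgroup G, B.Normal ∧ (∀ a ∈ B, ∀ b ∈ B, a * b = b * a) ∧ B.index = p)
    (hZ : commutator G ≤ Subgroup.center G) {x : G} (hx : x ∉ Subgroup.center G) :
    Nat.card {g : G // Commute x g} ≤ p * Nat.card (Subgroup.center G) := by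
  have h1 : ∀ u ∈ (Subgroup.center G : Set G) ∪ {x}, ∀ v ∈ (Subgroup.center G : Set G) ∪ {x}, u * v = v * u := by
    rintro u (hu | hu) v (hv | hv)
    · exact Subgroup.mem_center_iff.1 hv u
    · rw [Set.mem_singleton_iff.1 hv]; exact (Subgroup.mem_center_iff.1 hu x).symm
    · rw [Set.mem_singleton_iff.1 hu]; exact Subgroup.mem_center_iff.1 hv x
    · rw [Set.mem_singleton_iff.1 hu, Set.mem_singleton_iff.1 hv]
  have h2 : ∀ u ∈ Subgroup.closure ((Subgroup.center G : Set G) ∪ {x}), ∀ v ∈ Subgroup.closure ((Subgroup.center G : Set G) ∪ {x}),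
      u * v = v * u := by
    intro u hu v hv
    letI := Subgroup.closureCommGroupOfComm h1
    exact congrArg Subtype.val (mul_comm (⟨u, hu⟩ : Subgroup.closure ((Subgroup.center G : Set G) ∪ {x})) ⟨v, hv⟩)
  have h3 : Subgroup.center G ≤ Subgroup.closure ((Subgroup.center G : Set G) ∪ {x}) := fun u hu => Subgroup.subset_closure (Or.inl hu)
  obtain ⟨B, hB1, hB⟩ := exists_MA (hZ.trans h3) h2
  obtain ⟨δ, h⟩ := exists_Del hB hd hab hno
  have hxB : x ∈ B := hB1 (Subgroup.subset_closure (Or.inr rfl))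
  have h4 : Nat.card B = p * Nat.card (Subgroup.center G) := by
    have h5 := Subgroup.relIndex_mul_relIndex (⊥ : Subgroup G) (Subgroup.center G) B bot_le hB.center_le
    rw [Subgroup.relIndex_bot_left, Subgroup.relIndex_bot_left, h.relIndex_center] at h5
    rw [← h5, mul_comm]
  rw [← h4]
  exact Nat.card_le_card_of_injective (fun g : {g : G // Commute x g} => (⟨g, h.centralizer_eq hxB hx g.2.symm⟩ : B))
    (fun g k hgk => Subtype.ext (congrArg (fun y : B => (y : G)) hgk))

theorem card_le_of_deg (hd : Deg G p) : Nat.card G ≤ Nat.card (ConjClasses G) * p ^ 2 := by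
  classical
  rw [← CfsgLib.Tor.sum_deg, ← CfsgLib.Tor.count_irr, Finset.sum_mul]
  apply Finset.sum_le_sum
  intro χ _
  rw [one_mul]
  rcases hd χ with h | h
  · rw [h]; nlinarith [hp.out.pos]
  · rw [h]

theorem forward (hd : Deg G p) (hm : ∃ χ : IrrCharacter G, charDegree (χ : G → ℂ) = p) (hab : ∃ a b : G, a * b ≠ b * a)
    (hno : ¬ ∃ B : Subgroup G, B.Normal ∧ (∀ a ∈ B, ∀ b ∈ B, a * b = b * a) ∧ B.index = p) :
    (Subgroup.center G).index = p ^ 3 := by
  classical
  letI := Fintype.ofFinite G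
  have hder := derived_comm hd hm hp.out.one_lt.ne'
  obtain ⟨A, -, hA⟩ := exists_MA (B := commutator G) le_rfl hder
  obtain ⟨δ, h⟩ := exists_Del hA hd hab hno
  obtain ⟨n, hn⟩ := h.exists_index
  have hidx : (Subgroup.center G).index = p * p ^ n := by
    rw [← Subgroup.relIndex_mul_index hA.center_le, h.relIndex_center, hn]
  rcases lt_or_ge n 3 with hlt | hge
  · have h3 : n = 0 ∨ n = 1 ∨ n = 2 := by omega
    rcases h3 with h3 | h3 | h3
    · exfalso
      rw [h3, pow_zero] at hn
      obtain ⟨a, b, hne⟩ := hab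
      have hAt := Subgroup.index_eq_one.1 hn
      exact hne (hA.ab a (by rw [hAt]; exact Subgroup.mem_top _) b (by rw [hAt]; exact Subgroup.mem_top _))
    · exfalso
      rw [h3, pow_one] at hn
      exact hno ⟨A, hA.normal, hA.ab, hn⟩
    · rw [hidx, h3]; ring
  exfalso
  have hZ := h.comm_central hd hn hge
  have h1 := card_comm_eq_card_conjClasses_mul_card G
  have h2 : Nat.card {q : G × G // Commute q.1 q.2} = ∑ x : G, Nat.card {g : G // Commute x g} := by
    rw [Nat.card_congr (Equiv.subtypeProdEquivSigmaSubtype Commute), Nat.card_sigma]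
  set z := Nat.card (Subgroup.center G) with hz
  have h3 : ∀ x : G, Nat.card {g : G // Commute x g} ≤ (if x ∈ Subgroup.center G then Nat.card G else 0) + p * z := by
    intro x
    split_ifs with hx
    · exact (Nat.card_le_card_of_injective Subtype.val Subtype.val_injective).trans (Nat.le_add_right _ _)
    · rw [zero_add]; exact card_cent_le hd hab hno hZ hx
  have h4 : ∑ x : G, Nat.card {g : G // Commute x g} ≤ Nat.card G * (z * (1 + p)) := by
    refine (Finset.sum_le_sum (fun x _ => h3 x)).trans ?_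
    rw [Finset.sum_add_distrib, Finset.sum_const, Finset.card_univ, smul_eq_mul, ← Finset.sum_filter, Finset.sum_const,
      smul_eq_mul, ← Nat.card_eq_fintype_card]
    have h5 : (Finset.univ.filter (fun x : G => x ∈ Subgroup.center G)).card = z := by
      rw [hz, Nat.card_eq_fintype_card, ← Fintype.card_subtype]
    rw [h5]
    apply le_of_eq; ring
  rw [← h2, h1, mul_comm] at h4
  have hG : 0 < Nat.card G := Nat.card_pos
  have h5 : Nat.card (ConjClasses G) ≤ z * (1 + p) := Nat.le_of_mul_le_mul_left h4 hG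
  have h6 := card_le_of_deg hd
  have h7 : Nat.card G = z * (p * p ^ n) := by rw [← hidx, hz]; exact (Subgroup.card_mul_index _).symm
  have h8 : z * (p * p ^ n) ≤ z * ((1 + p) * p ^ 2) := by
    rw [← h7]
    refine h6.trans ?_
    rw [← mul_assoc]
    exact Nat.mul_le_mul_right _ h5
  have h9 : p * p ^ n ≤ (1 + p) * p ^ 2 := Nat.le_of_mul_le_mul_left h8 Nat.card_pos
  have h10 : p ^ 3 ≤ p ^ n := Nat.pow_le_pow_right hp.out.pos hge
  have h11 : p * p ^ 3 ≤ (1 + p) * p ^ 2 := (Nat.mul_le_mul_left p h10).trans h9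
  have h12 : p * p * p ^ 2 ≤ (1 + p) * p ^ 2 := by calc p * p * p ^ 2 = p * p ^ 3 := by ring
      _ ≤ _ := h11
  have h13 : p * p ≤ 1 + p := Nat.le_of_mul_le_mul_right h12 (pow_pos hp.out.pos 2)
  have := hp.out.two_le
  nlinarith

theorem sq_le_index {χ : G → ℂ} (hχ : IsIrrCharacter G χ) : charDegree χ ^ 2 ≤ (Subgroup.center G).index := by
  classical
  letI := Fintype.ofFinite G
  have h1 := irr_inner_self hχ
  rw [inner_self_eq] at h1
  have h2 : (Nat.card G : ℝ)⁻¹ * ∑ g : G, ‖χ g‖ ^ 2 = 1 := by exact_mod_cast h1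
  have hG : (0 : ℝ) < Nat.card G := by exact_mod_cast Nat.card_pos
  have h3 : ∑ g : G, ‖χ g‖ ^ 2 = Nat.card G := by
    rwa [inv_mul_eq_one₀ hG.ne', eq_comm] at h2
  have h4 : ∑ g ∈ Finset.univ.filter (fun x : G => x ∈ Subgroup.center G), ‖χ g‖ ^ 2 ≤ Nat.card G := by
    rw [← h3]
    exact Finset.sum_le_sum_of_subset_of_nonneg (Finset.filter_subset _ _) (fun g _ _ => by positivity)
  have h5 : ∀ g ∈ Finset.univ.filter (fun x : G => x ∈ Subgroup.center G), ‖χ g‖ ^ 2 = (charDegree χ : ℝ) ^ 2 := by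
    intro g hg
    rw [irr_center hχ (Finset.mem_filter.1 hg).2, CfsgLib.CharInt.irr_one_eq_charDegree hχ, Complex.natCast_re]
  rw [Finset.sum_congr rfl h5, Finset.sum_const, nsmul_eq_mul] at h4
  have h6 : (Finset.univ.filter (fun x : G => x ∈ Subgroup.center G)).card = Nat.card (Subgroup.center G) := by
    rw [Nat.card_eq_fintype_card, ← Fintype.card_subtype]
  rw [h6] at h4
  have h7 : Nat.card (Subgroup.center G) * charDegree χ ^ 2 ≤ Nat.card (Subgroup.center G) * (Subgroup.center G).index := by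
    rw [Subgroup.card_mul_index]
    exact_mod_cast h4
  exact Nat.le_of_mul_le_mul_left h7 Nat.card_pos

theorem backward (hab : ∃ a b : G, a * b ≠ b * a)
    (h : (∃ B : Subgroup G, B.Normal ∧ (∀ a ∈ B, ∀ b ∈ B, a * b = b * a) ∧ B.index = p) ∨ (Subgroup.center G).index = p ^ 3) :
    (∀ χ : IrrCharacter G, charDegree (χ : G → ℂ) = 1 ∨ charDegree (χ : G → ℂ) = p) ∧
      ∃ χ : IrrCharacter G, charDegree (χ : G → ℂ) = p := by
  have h1 : ∀ χ : IrrCharacter G, charDegree (χ : G → ℂ) = 1 ∨ charDegree (χ : G → ℂ) = p := by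
    intro χ
    rcases h with ⟨B, hB, hBab, hBi⟩ | h
    · haveI := hB
      have h2 := CfsgLib.CharMore.ito χ.2 B hBab
      rw [hBi] at h2
      exact (Nat.dvd_prime hp.out).1 h2
    · have h2 := CfsgLib.CharMore.ito χ.2 (Subgroup.center G) (fun a ha b _ => (Subgroup.mem_center_iff.1 ha b).symm)
      have h3 := sq_le_index χ.2
      rw [h] at h2 h3
      obtain ⟨k, hk, hkd⟩ := (Nat.dvd_prime_pow hp.out).1 h2
      rw [hkd] at h3 ⊢
      rw [← pow_mul] at h3
      have h4 := (Nat.pow_le_pow_iff_right hp.out.one_lt).1 h3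
      have h5 : k = 0 ∨ k = 1 := by omega
      rcases h5 with h5 | h5
      · left; rw [h5, pow_zero]
      · right; rw [h5, pow_one]
  refine ⟨h1, ?_⟩
  by_contra hcon
  push Not at hcon
  obtain ⟨a, b, hne⟩ := hab
  exact hne (CfsgLib.FixIrr19.comm_of_linear (fun χ => deg_one χ.2 ((h1 χ).resolve_right (hcon χ))) a b)

end CfsgLib.TwoDeg19
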