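import Mathlib
import Cfsg.Agent.EqBase
import Cfsg.Agent.LibTwoDegE19
import Cfsg.Agent.LibTransNil
import Cfsg.Agent.LibExtraH28

set_option autoImplicit false
set_option maxHeartbeats 400000
set_option linter.unusedSectionVars false

/-! Nilpotent groups with a unique character of degree divisible by `p` (helper19) -/

namespace CfsgLib.NilExt19

open Cfsg CfsgLib.CharBasic CfsgLib.Clifford CfsgLib.Extend CfsgLib.CharIndA CfsgLib.TwoDeg19
open scoped ComplexConjugate commutatorElement Pointwise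

universe u v

variable {G : Type u} [Group G] [Finite G] {p : ℕ} [hp : Fact p.Prime]

theorem charDegree_mul_lin (l : G →* ℂˣ) {χ : G → ℂ} (hχ : IsIrrCharacter G χ) :
    charDegree (fun g => (l g : ℂ) * χ g) = charDegree χ := by
  letI := Fintype.ofFinite G
  have h1 := CfsgLib.CharInt.irr_one_eq_charDegree (CfsgLib.Once19.irr_mul_lin hχ l)
  rw [map_one, Units.val_one, one_mul, CfsgLib.CharInt.irr_one_eq_charDegree hχ] at h1
  exact_mod_cast h1.symm

/-- uniqueness gives invariance under multiplication by linear characters -/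
theorem mul_lin_eq (h1 : Nat.card {χ : IrrCharacter G // p ∣ charDegree (χ : G → ℂ)} = 1) {χ : G → ℂ} (hχ : IsIrrCharacter G χ)
    (hd : p ∣ charDegree χ) (l : G →* ℂˣ) (g : G) : (l g : ℂ) * χ g = χ g := by
  letI := Fintype.ofFinite G
  haveI := (Nat.card_eq_one_iff_unique.1 h1).1
  have h2 : p ∣ charDegree (fun g => (l g : ℂ) * χ g) := by rw [charDegree_mul_lin l hχ]; exact hd
  have h3 : (⟨⟨_, CfsgLib.Once19.irr_mul_lin hχ l⟩, h2⟩ : {χ : IrrCharacter G // p ∣ charDegree (χ : G → ℂ)}) = ⟨⟨χ, hχ⟩, hd⟩ :=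
    Subsingleton.elim _ _
  have h4 := congrArg (fun x : {χ : IrrCharacter G // p ∣ charDegree (χ : G → ℂ)} => (x.1 : G → ℂ)) h3
  exact congrFun h4 g

theorem isPGroup_of_unique [Group.IsNilpotent G] (h1 : Nat.card {χ : IrrCharacter G // p ∣ charDegree (χ : G → ℂ)} = 1) :
    IsPGroup p G := by
  classical
  obtain ⟨⟨χ₀, hχ₀⟩⟩ := (Nat.card_eq_one_iff_unique.1 h1).2
  let P : Sylow p G := default
  have hPn : (P : Subgroup G).Normal := by
    have := (Group.isNilpotent_of_finite_tfae (G := G)).out 0 3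
    exact this.1 inferInstance p inferInstance P
  have hcop : (Nat.card (P : Subgroup G)).Coprime (P : Subgroup G).index := P.card_coprime_index
  obtain ⟨H, hH⟩ := Subgroup.exists_right_complement'_of_coprime hcop
  have hcardP : ∃ k, Nat.card (P : Subgroup G) = p ^ k := IsPGroup.iff_card.1 P.2
  have hHi : H.index = Nat.card (P : Subgroup G) := hH.index_eq_card
  have hHc : Nat.card H = (P : Subgroup G).index := hH.symm.index_eq_card.symm
  have hcomm : ∀ x ∈ (P : Subgroup G), ∀ y ∈ H, x * y = y * x := by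
    intro x hx y hy
    apply CfsgLib.TransNil.commute_of_coprime
    have h2 : orderOf x ∣ Nat.card (P : Subgroup G) := by
      rw [← Subgroup.orderOf_mk x hx]; exact orderOf_dvd_natCard _
    have h3 : orderOf y ∣ Nat.card H := by
      rw [← Subgroup.orderOf_mk y hy]; exact orderOf_dvd_natCard _
    rw [hHc] at h3
    exact Nat.Coprime.coprime_dvd_left h2 (Nat.Coprime.coprime_dvd_right h3 hcop)
  have hdec : ∀ g : G, ∃ x ∈ (P : Subgroup G), ∃ y ∈ H, g = x * y := by
    intro g
    have h2 : g ∈ ((P : Subgroup G) : Set G) * (H : Set G) := by rw [hH.mul_eq]; exact Set.mem_univ _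
    obtain ⟨x, hx, y, hy, rfl⟩ := Set.mem_mul.1 h2
    exact ⟨x, hx, y, hy, rfl⟩
  have hHn : H.Normal := by
    refine ⟨fun n hn g => ?_⟩
    obtain ⟨x, hx, y, hy, rfl⟩ := hdec g
    have h2 : y * n * y⁻¹ ∈ H := H.mul_mem (H.mul_mem hy hn) (H.inv_mem hy)
    have h3 : x * y * n * (x * y)⁻¹ = x * (y * n * y⁻¹) * x⁻¹ := by group
    rw [h3, hcomm x hx _ h2, mul_inv_cancel_right]
    exact h2
  have hinf : ∀ g, g ∈ (P : Subgroup G) → g ∈ H → g = 1 := by
    intro g hg1 hg2
    have := hH.disjoint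
    exact (Subgroup.disjoint_def.1 this) hg1 hg2
  -- a character of G/H
  have hnl : ∃ ψ : IrrCharacter (G ⧸ H), charDegree (ψ : G ⧸ H → ℂ) ≠ 1 := by
    by_contra hcon
    push Not at hcon
    have h1 := CfsgLib.FixIrr19.comm_of_linear (G := G ⧸ H) (fun χ => deg_one χ.2 (hcon χ))
    have hPab : ∀ a ∈ (P : Subgroup G), ∀ b ∈ (P : Subgroup G), a * b = b * a := by
      intro a ha b hb
      have h2 := h1 (a : G ⧸ H) (b : G ⧸ H)
      have h3 : a * b * (b * a)⁻¹ ∈ H := by
        refine (QuotientGroup.eq_one_iff _).1 ?_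
        rw [QuotientGroup.mk_mul, QuotientGroup.mk_mul, h2, QuotientGroup.mk_inv, QuotientGroup.mk_mul, mul_inv_cancel]
      have h4 := hinf _ ((P : Subgroup G).mul_mem ((P : Subgroup G).mul_mem ha hb) ((P : Subgroup G).inv_mem ((P : Subgroup G).mul_mem hb ha))) h3
      exact mul_inv_eq_one.1 h4
    haveI := hPn
    exact P.not_dvd_index (hχ₀.trans (CfsgLib.CharMore.ito χ₀.2 (P : Subgroup G) hPab))
  obtain ⟨ψ, hψ⟩ := hnl
  obtain ⟨χ, hχi, hχd⟩ := CfsgLib.FixIrr19.charDegree_infl H ψ
  obtain ⟨k, hk⟩ := hcardP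
  have hpχ : p ∣ charDegree (χ : G → ℂ) := by
    rw [hχd]
    have h2 : charDegree (ψ : G ⧸ H → ℂ) ∣ p ^ k := by
      rw [← hk, ← hHi, Subgroup.index_eq_card]
      exact CfsgLib.CharInt2.charDegree_dvd_card ψ.2
    obtain ⟨e, -, he⟩ := (Nat.dvd_prime_pow hp.out).1 h2
    rw [he] at hψ ⊢
    apply dvd_pow_self
    rintro rfl
    exact hψ (pow_zero _)
  by_cases hHt : H = ⊥
  · rw [hHt, Subgroup.index_bot, hk] at hHi
    exact IsPGroup.of_card hHi
  exfalso
  haveI := hPn
  haveI : Nontrivial (G ⧸ (P : Subgroup G)) := by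
    rw [← Finite.one_lt_card_iff_nontrivial, ← Subgroup.index_eq_card, ← hHc]
    exact Subgroup.one_lt_card_iff_ne_bot H |>.2 hHt
  have h5 : commutator (G ⧸ (P : Subgroup G)) < ⊤ := IsSolvable.commutator_lt_top_of_nontrivial _
  have h6 : Nat.card ((G ⧸ (P : Subgroup G)) →* ℂˣ) ≠ 1 := by
    rw [card_hom]
    intro h7
    exact h5.ne (Subgroup.index_eq_one.1 h7)
  have h7 : ∃ f : (G ⧸ (P : Subgroup G)) →* ℂˣ, f ≠ 1 := by
    by_contra hcon
    push Not at hcon
    apply h6
    rw [Nat.card_eq_one_iff_unique]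
    exact ⟨⟨fun a b => by rw [hcon a, hcon b]⟩, ⟨1⟩⟩
  obtain ⟨f, hf⟩ := h7
  have h8 : ∃ h ∈ H, f (h : G ⧸ (P : Subgroup G)) ≠ 1 := by
    by_contra hcon
    push Not at hcon
    apply hf
    apply MonoidHom.ext
    intro q
    obtain ⟨g, rfl⟩ := QuotientGroup.mk_surjective q
    obtain ⟨x, hx, y, hy, rfl⟩ := hdec g
    rw [QuotientGroup.mk_mul, (QuotientGroup.eq_one_iff x).2 hx, one_mul, hcon y hy]; rfl
  obtain ⟨y, hy, hfy⟩ := h8
  have h9 := mul_lin_eq h1 χ.2 hpχ (f.comp (QuotientGroup.mk' (P : Subgroup G))) y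
  have h10 : (χ : G → ℂ) y = (χ : G → ℂ) 1 := by
    rw [hχi, hχi]
    have h13 : ((y : G) : G ⧸ H) = ((1 : G) : G ⧸ H) := by rw [QuotientGroup.mk_one]; exact (QuotientGroup.eq_one_iff y).2 hy
    rw [h13]
  rw [h10] at h9
  have h11 := CfsgLib.CharInt.irr_one_ne_zero χ.2
  have h12 := mul_left_eq_self₀.1 h9
  rcases h12 with h12 | h12
  · exact hfy (Units.ext h12)
  · exact h11 h12

theorem sum_nonlinear [Fintype G] [DecidablePred fun χ : IrrCharacter G => charDegree (χ : G → ℂ) = 1] :
    (commutator G).index + ∑ χ ∈ Finset.univ.filter (fun χ : IrrCharacter G => ¬ charDegree (χ : G → ℂ) = 1), charDegree (χ : G → ℂ) ^ 2 = Nat.card G := by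
  classical
  rw [← CfsgLib.Tor.sum_deg (N := G), ← Finset.sum_filter_add_sum_filter_not Finset.univ (fun χ : IrrCharacter G => charDegree (χ : G → ℂ) = 1)]
  congr 1
  rw [Finset.sum_congr rfl (g := fun _ => 1) (fun χ hχ => by rw [(Finset.mem_filter.1 hχ).2, one_pow]), Finset.sum_const, smul_eq_mul, mul_one,
    ← card_linear, ← Fintype.card_subtype, ← Nat.card_eq_fintype_card]
  apply Nat.card_congr
  apply Equiv.subtypeEquivRight
  intro χ
  rw [CfsgLib.CharInt.irr_one_eq_charDegree χ.2]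
  norm_cast

theorem ne_one_iff_dvd (hG : IsPGroup p G) {χ : G → ℂ} (hχ : IsIrrCharacter G χ) : (¬ charDegree χ = 1) ↔ p ∣ charDegree χ := by
  obtain ⟨k, hk⟩ := IsPGroup.iff_card.1 hG
  have h1 := CfsgLib.CharInt2.charDegree_dvd_card hχ
  rw [hk] at h1
  obtain ⟨e, -, he⟩ := (Nat.dvd_prime_pow hp.out).1 h1
  rw [he]
  constructor
  · intro h
    apply dvd_pow_self
    rintro rfl
    exact h (pow_zero _)
  · intro h h2
    rw [h2] at h
    exact hp.out.one_lt.ne' (Nat.dvd_one.1 h)

theorem forward [Group.IsNilpotent G] (h1 : Nat.card {χ : IrrCharacter G // p ∣ charDegree (χ : G → ℂ)} = 1) :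
    p = 2 ∧ IsExtraspecial 2 G := by
  classical
  letI := Fintype.ofFinite G
  have hG := isPGroup_of_unique h1
  obtain ⟨⟨χ₀, hχ₀⟩⟩ := (Nat.card_eq_one_iff_unique.1 h1).2
  haveI := (Nat.card_eq_one_iff_unique.1 h1).1
  have h2 : Finset.univ.filter (fun χ : IrrCharacter G => ¬ charDegree (χ : G → ℂ) = 1) = {χ₀} := by
    ext χ
    rw [Finset.mem_filter, Finset.mem_singleton]
    constructor
    · rintro ⟨-, h⟩
      have h3 : (⟨χ, (ne_one_iff_dvd hG χ.2).1 h⟩ : {χ : IrrCharacter G // p ∣ charDegree (χ : G → ℂ)}) = ⟨χ₀, hχ₀⟩ := Subsingleton.elim _ _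
      exact congrArg Subtype.val h3
    · rintro rfl
      exact ⟨Finset.mem_univ _, (ne_one_iff_dvd hG χ.2).2 hχ₀⟩
  have h3 := sum_nonlinear (G := G)
  rw [h2, Finset.sum_singleton, ← Subgroup.card_mul_index (commutator G)] at h3
  set a := (commutator G).index with ha
  set b := Nat.card (commutator G) with hb
  set d := charDegree (χ₀ : G → ℂ) with hd
  obtain ⟨k, hk⟩ := IsPGroup.iff_card.1 hG
  have hd0 : 0 < d := by
    rw [Nat.pos_iff_ne_zero]
    intro h
    have := CfsgLib.CharInt.irr_one_eq_charDegree χ₀.2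
    rw [← hd, h, Nat.cast_zero] at this
    exact CfsgLib.CharInt.irr_one_ne_zero χ₀.2 this
  have ha0 : 0 < a := Nat.pos_of_ne_zero Subgroup.index_ne_zero_of_finite
  obtain ⟨j, -, hj⟩ := (Nat.dvd_prime_pow hp.out).1 (by rw [← hk]; exact Subgroup.card_subgroup_dvd_card (commutator G) : b ∣ p ^ k)
  obtain ⟨i, -, hi⟩ := (Nat.dvd_prime_pow hp.out).1 (by rw [← hk]; exact CfsgLib.CharInt2.charDegree_dvd_card χ₀.2 : d ∣ p ^ k)
  have hb1 : 1 < b := by
    by_contra hcon
    have h4 : b * a ≤ 1 * a := Nat.mul_le_mul_right _ (by omega)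
    have : 0 < d ^ 2 := pow_pos hd0 2
    omega
  have h4 : d ^ 2 = (b - 1) * a := by
    rw [Nat.sub_mul, one_mul]; omega
  have h5 : (b - 1) ∣ p ^ (i * 2) := by
    rw [pow_mul, ← hi, h4]; exact Dvd.intro _ rfl
  obtain ⟨c, -, hc⟩ := (Nat.dvd_prime_pow hp.out).1 h5
  have hj0 : j ≠ 0 := by
    rintro rfl
    rw [pow_zero] at hj
    omega
  have hpb : p ∣ b := by rw [hj]; exact dvd_pow_self _ hj0
  have hc0 : c = 0 := by
    by_contra hc0
    have h6 : p ∣ b - 1 := by rw [hc]; exact dvd_pow_self _ hc0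
    have h7 : p ∣ b - (b - 1) := Nat.dvd_sub hpb h6
    have h8 : b - (b - 1) = 1 := by omega
    rw [h8] at h7
    exact hp.out.one_lt.ne' (Nat.dvd_one.1 h7)
  have hb2 : b = 2 := by rw [hc0, pow_zero] at hc; omega
  have hp2 : p = 2 := by
    rw [hb2] at hpb
    exact (Nat.prime_dvd_prime_iff_eq hp.out Nat.prime_two).1 hpb
  subst hp2
  refine ⟨rfl, ?_⟩
  -- the commutator subgroup is central
  have hcZ : commutator G ≤ Subgroup.center G := by
    intro z hz
    rw [Subgroup.mem_center_iff]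
    intro g
    obtain ⟨x, y, hxy, huniv⟩ := Nat.card_eq_two_iff.1 hb2
    have hmem : ∀ w ∈ commutator G, w ≠ 1 → w = x ∨ w = y := by
      intro w hw _
      have : (⟨w, hw⟩ : commutator G) ∈ ({x, y} : Set (commutator G)) := by rw [huniv]; exact Set.mem_univ _
      rcases this with h | h
      · left; exact congrArg Subtype.val h
      · right; exact congrArg Subtype.val h
    have h1m : (x : G) = 1 ∨ (y : G) = 1 := by
      have : (1 : commutator G) ∈ ({x, y} : Set (commutator G)) := by rw [huniv]; exact Set.mem_univ _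
      rcases this with h | h
      · left; rw [← h]; rfl
      · right; rw [← h]; rfl
    by_cases hz1 : z = 1
    · rw [hz1, mul_one, one_mul]
    have hg1 : g * z * g⁻¹ ≠ 1 := by
      intro h
      apply hz1
      have := mul_inv_eq_one.1 h
      exact mul_eq_left.1 this
    have hgm : g * z * g⁻¹ ∈ commutator G := (inferInstance : (commutator G).Normal).conj_mem z hz g
    have h6 : g * z * g⁻¹ = z := by
      rcases hmem _ hgm hg1 with h7 | h7 <;> rcases hmem z hz hz1 with h8 | h8
      · rw [h7, h8]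
      · rcases h1m with h9 | h9
        · exact absurd (h7.trans h9) hg1
        · exact absurd (h8.trans h9) hz1
      · rcases h1m with h9 | h9
        · exact absurd (h8.trans h9) hz1
        · exact absurd (h7.trans h9) hg1
      · rw [h7, h8]
    exact mul_inv_eq_iff_eq_mul.1 h6
  have hZi : (Subgroup.center G).index = a := by
    have h6 := sq_le_index χ₀.2
    rw [← hd, h4, hb2] at h6
    have h7 : (Subgroup.center G).index ∣ a := Subgroup.index_dvd_of_le hcZ
    have h8 := Nat.le_of_dvd ha0 h7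
    omega
  have hZeq : commutator G = Subgroup.center G := by
    apply le_antisymm hcZ
    have h6 := Subgroup.relIndex_mul_index hcZ
    rw [hZi, ← ha] at h6
    have h7 : (commutator G).relIndex (Subgroup.center G) = 1 := Nat.eq_of_mul_eq_mul_right ha0 (by rw [h6, one_mul])
    exact Subgroup.relIndex_eq_one.1 h7
  have hZ2 : Nat.card (Subgroup.center G) = 2 := by rw [← hZeq, ← hb2]
  have hfr : frattini G = Subgroup.center G := by
    apply le_antisymm
    · apply CfsgLib.ExtraH28.frattini_le_of_elem (p := 2)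
      · intro x
        rw [Subgroup.mem_center_iff]
        intro g
        have h6 : ⁅g, x⁆ ∈ Subgroup.center G := hcZ (Subgroup.commutator_mem_commutator (Subgroup.mem_top _) (Subgroup.mem_top _))
        have h7 : ⁅g, x⁆ ^ 2 = 1 := by
          have : (⟨⁅g, x⁆, h6⟩ : Subgroup.center G) ^ Nat.card (Subgroup.center G) = 1 := pow_card_eq_one'
          rw [hZ2] at this
          exact congrArg Subtype.val this
        have h8 : g * x * g⁻¹ = ⁅g, x⁆ * x := by rw [commutatorElement_def]; group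
        have h9 : Commute ⁅g, x⁆ x := (Subgroup.mem_center_iff.1 h6 x).symm
        have h10 : g * x ^ 2 * g⁻¹ = x ^ 2 := by
          rw [← conj_pow, h8, h9.mul_pow, h7, one_mul]
        exact mul_inv_eq_iff_eq_mul.1 h10
      · intro x y
        exact hcZ (Subgroup.commutator_mem_commutator (Subgroup.mem_top _) (Subgroup.mem_top _))
    · rw [← hZeq]
      exact CfsgLib.ExtraH28.commutator_le_frattini hG
  exact ⟨⟨hG, hfr, hZeq⟩, hZ2⟩

theorem backward (h : IsExtraspecial 2 G) : Nat.card {χ : IrrCharacter G // 2 ∣ charDegree (χ : G → ℂ)} = 1 := by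
  classical
  letI := Fintype.ofFinite G
  haveI : Fact (Nat.Prime 2) := ⟨Nat.prime_two⟩
  obtain ⟨⟨hG, -, hcz⟩, hZ2⟩ := h
  have hsq : ∀ χ : IrrCharacter G, ¬ charDegree (χ : G → ℂ) = 1 → charDegree (χ : G → ℂ) ^ 2 * 2 = Nat.card G := by
    intro χ hχ
    have hne := CfsgLib.CharInt.irr_one_ne_zero χ.2
    obtain ⟨x, y, hxy, huniv⟩ := Nat.card_eq_two_iff.1 hZ2
    have hvan : ∀ g : G, g ∉ Subgroup.center G → (χ : G → ℂ) g = 0 := by
      intro g hg
      rw [Subgroup.mem_center_iff] at hg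
      push Not at hg
      obtain ⟨k, hk⟩ := hg
      set z := ⁅k, g⁆ with hz
      have hz1 : z ≠ 1 := by
        rw [hz]
        intro h
        exact hk (commutatorElement_eq_one_iff_mul_comm.1 h)
      have hzZ : z ∈ Subgroup.center G := by
        rw [← hcz]; exact Subgroup.commutator_mem_commutator (Subgroup.mem_top _) (Subgroup.mem_top _)
      have h1 : (χ : G → ℂ) (k * g * k⁻¹) = (χ : G → ℂ) g := irr_classFun χ.2 g k
      have h2 : k * g * k⁻¹ = z * g := by rw [hz, commutatorElement_def]; group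
      rw [h2] at h1
      by_contra hg0
      have h3 : (χ : G → ℂ) z = (χ : G → ℂ) 1 := by
        rw [char_mul_of_scalar (irr_isCharacter χ.2) hne (irr_center χ.2 hzZ) g] at h1
        have h4 := mul_left_eq_self₀.1 h1
        rcases h4 with h4 | h4
        · rwa [div_eq_one_iff_eq hne] at h4
        · exact absurd h4 hg0
      apply hχ
      have h4 : (χ : G → ℂ) 1 = 1 := by
        apply CfsgLib.Monomial.linear_of_commutator_le χ.2
        intro n hn
        rw [hcz] at hn
        have hall : ∀ w ∈ Subgroup.center G, w = x ∨ w = y := by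
          intro w hw
          have : (⟨w, hw⟩ : Subgroup.center G) ∈ ({x, y} : Set (Subgroup.center G)) := by rw [huniv]; exact Set.mem_univ _
          rcases this with h | h
          · left; exact congrArg Subtype.val h
          · right; exact congrArg Subtype.val h
        by_cases hn1 : n = 1
        · rw [hn1]
        have h5 : n = z := by
          rcases hall n hn with h7 | h7 <;> rcases hall z hzZ with h8 | h8 <;> rcases hall 1 (Subgroup.one_mem _) with h9 | h9
          all_goals first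
            | exact h7.trans h8.symm
            | exact absurd (h7.trans h9.symm) hn1
            | exact absurd (h8.trans h9.symm) hz1
        rw [h5, h3]
      rw [CfsgLib.CharInt.irr_one_eq_charDegree χ.2] at h4
      exact_mod_cast h4
    have h1 := irr_inner_self χ.2
    rw [inner_self_eq] at h1
    have h2 : (Nat.card G : ℝ)⁻¹ * ∑ g : G, ‖(χ : G → ℂ) g‖ ^ 2 = 1 := by exact_mod_cast h1
    have hGp : (0 : ℝ) < Nat.card G := by exact_mod_cast Nat.card_pos
    have h3 : ∑ g : G, ‖(χ : G → ℂ) g‖ ^ 2 = Nat.card G := by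
      rwa [inv_mul_eq_one₀ hGp.ne', eq_comm] at h2
    rw [← Finset.sum_filter_add_sum_filter_not Finset.univ (fun g : G => g ∈ Subgroup.center G)] at h3
    have h4 : ∀ g ∈ Finset.univ.filter (fun g : G => ¬ g ∈ Subgroup.center G), ‖(χ : G → ℂ) g‖ ^ 2 = 0 := by
      intro g hg
      rw [hvan g (Finset.mem_filter.1 hg).2]; simp
    have h5 : ∀ g ∈ Finset.univ.filter (fun x : G => x ∈ Subgroup.center G), ‖(χ : G → ℂ) g‖ ^ 2 = (charDegree (χ : G → ℂ) : ℝ) ^ 2 := by
      intro g hg
      rw [irr_center χ.2 (Finset.mem_filter.1 hg).2, CfsgLib.CharInt.irr_one_eq_charDegree χ.2, Complex.natCast_re]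
    rw [Finset.sum_congr rfl h4, Finset.sum_congr rfl h5, Finset.sum_const, nsmul_eq_mul, Finset.sum_const_zero, add_zero] at h3
    have h6 : (Finset.univ.filter (fun x : G => x ∈ Subgroup.center G)).card = 2 := by
      rw [← hZ2, Nat.card_eq_fintype_card, ← Fintype.card_subtype]
    rw [h6, mul_comm] at h3
    exact_mod_cast h3
  have h3 := sum_nonlinear (G := G)
  rw [Finset.sum_congr rfl (g := fun _ => (commutator G).index) (fun χ hχ => by
    have h4 := hsq χ (Finset.mem_filter.1 hχ).2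
    rw [← Subgroup.card_mul_index (commutator G), hcz, hZ2, mul_comm] at h4
    rw [hcz]
    exact Nat.eq_of_mul_eq_mul_left two_pos h4), Finset.sum_const, smul_eq_mul, ← Subgroup.card_mul_index (commutator G), hcz, hZ2] at h3
  have hi0 : 0 < (Subgroup.center G).index := Nat.pos_of_ne_zero Subgroup.index_ne_zero_of_finite
  have h4 : (Finset.univ.filter (fun χ : IrrCharacter G => ¬ charDegree (χ : G → ℂ) = 1)).card * (Subgroup.center G).index =
      1 * (Subgroup.center G).index := by omega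
  have h5 := Nat.eq_of_mul_eq_mul_right hi0 h4
  rw [← h5, ← Fintype.card_subtype, ← Nat.card_eq_fintype_card]
  apply Nat.card_congr
  apply Equiv.subtypeEquivRight
  intro χ
  exact (ne_one_iff_dvd hG χ.2).symm

end CfsgLib.NilExt19
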