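import Mathlib
import Cfsg.Agent.LibOI6

set_option autoImplicit false
set_option linter.all false
set_option maxRecDepth 1000000
set_option maxHeartbeats 4000000

/-! involutions of Chevalley groups in odd characteristic, 7: tables (seat helper23) -/

namespace CfsgLib.OI

open Cfsg.Lie Matrix CfsgLib.Chev CfsgLib.Chev.Good3

def cdG2 : CData where
  k := 1
  b1 := 8
  b2 := 5
  pt := [(0, 1), (1, 3), (2, 2), (3, 3), (4, 1), (5, 2), (6, 2), (7, 1), (8, 3), (9, 2), (10, 3), (11, 1)]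
  M := [[], [1, 0, 1, 0, 1]]
  Λ := [[0, 1], [0, -1]]
  JL := [0]

def cdF4a : CData where
  k := 0
  b1 := 33
  b2 := 40
  pt := [(0, 1), (1, 3), (2, 6), (3, 8), (4, 14), (5, 11), (6, 9), (7, 12), (8, 4), (9, 4), (10, 4), (11, 12), (12, 12), (13, 12), (14, 4), (15, 10), (16, 15), (17, 13), (18, 8), (19, 8), (20, 8), (21, 7), (22, 5), (23, 2), (24, 2), (25, 5), (26, 7), (27, 8), (28, 8), (29, 8), (30, 13), (31, 15), (32, 10), (33, 4), (34, 12), (35, 12), (36, 12), (37, 4), (38, 4), (39, 4), (40, 12), (41, 9), (42, 11), (43, 14), (44, 8), (45, 6), (46, 3), (47, 1)]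
  M := [[], [0, 1, 2, 1, 0], [0, 1, 3, 2, 1, 0], [0, 2, 1, 3, 2, 1, 0], [1, 0, 2, 1, 3, 2, 1, 0], [2, 1, 0, 2, 1, 3, 2, 1, 0], [3, 2, 1, 0, 2, 1, 3, 2, 1, 0], [0, 1, 2, 1, 0, 3, 2, 1, 0, 2, 1, 3, 2, 1, 0]]
  Λ := [[1, 0, 0, 0], [-1, 0, 0, 2], [-1, 0, 2, -2], [-1, 2, -2, 0], [1, -2, 2, 0], [1, 0, -2, 2], [1, 0, 0, -2], [-1, 0, 0, 0]]
  JL := [1, 2, 3]

def cdF4b : CData where
  k := 3
  b1 := 6
  b2 := 44
  pt := [(0, 1), (1, 3), (2, 6), (3, 8), (4, 14), (5, 11), (6, 9), (7, 12), (8, 4), (9, 4), (10, 4), (11, 12), (12, 12), (13, 12), (14, 4), (15, 10), (16, 15), (17, 13), (18, 8), (19, 8), (20, 8), (21, 7), (22, 5), (23, 2), (24, 2), (25, 5), (26, 7), (27, 8), (28, 8), (29, 8), (30, 13), (31, 15), (32, 10), (33, 4), (34, 12), (35, 12), (36, 12), (37, 4), (38, 4), (39, 4), (40, 12), (41, 9), (42, 11), (43, 14), (44, 8), (45, 6), (46, 3), (47, 1)]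
  M := [[], [3, 2, 1, 0, 2, 1, 2, 3, 2, 1, 0, 2, 1, 2, 3]]
  Λ := [[0, 0, 0, 1], [0, 0, 0, -1]]
  JL := [0, 1, 2]

def cdE8a : CData where
  k := 0
  b1 := 226
  b2 := 239
  pt := [(0, 1), (1, 3), (2, 6), (3, 12), (4, 24), (5, 112), (6, 224), (7, 96), (8, 240), (9, 152), (10, 140), (11, 134), (12, 131), (13, 129), (14, 192), (15, 208), (16, 184), (17, 172), (18, 166), (19, 163), (20, 161), (21, 40), (22, 60), (23, 54), (24, 51), (25, 49), (26, 84), (27, 94), (28, 91), (29, 89), (30, 74), (31, 79), (32, 77), (33, 69), (34, 71), (35, 66), (36, 68), (37, 78), (38, 75), (39, 73), (40, 90), (41, 95), (42, 93), (43, 85), (44, 87), (45, 82), (46, 50), (47, 55), (48, 53), (49, 61), (50, 63), (51, 58), (52, 41), (53, 43), (54, 46), (55, 36), (56, 162), (57, 167), (58, 165), (59, 173), (60, 175), (61, 170), (62, 185), (63, 187), (64, 190), (65, 180), (66, 209), (67, 211), (68, 214), (69, 220), (70, 200), (71, 193),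 (72, 195), (73, 198), (74, 204), (75, 216), (76, 176), (77, 32), (78, 130), (79, 135), (80, 133), (81, 141), (82, 143), (83, 138), (84, 153), (85, 155), (86, 158), (87, 148), (88, 241), (89, 243), (90, 246), (91, 252), (92, 232), (93, 97), (94, 99), (95, 102), (96, 108), (97, 120), (98, 16), (99, 225), (100, 227), (101, 230), (102, 236), (103, 248), (104, 144), (105, 113), (106, 115), (107, 118), (108, 124), (109, 104), (110, 25), (111, 27), (112, 30), (113, 20), (114, 13), (115, 15), (116, 10), (117, 7), (118, 5), (119, 2), (120, 2), (121, 5), (122, 7), (123, 10), (124, 15), (125, 13), (126, 20), (127, 30), (128, 27), (129, 25), (130, 104), (131, 124), (132, 118), (133, 115), (134, 113), (135, 144), (136, 248), (137, 236), (138, 230), (139, 227), (140, 225), (141, 16), (142, 120), (143, 108), (144, 102), (145, 99), (146, 97), (147, 232), (148, 252), (149, 246), (150, 243), (151, 241), (152, 148), (153,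 158), (154, 155), (155, 153), (156, 138), (157, 143), (158, 141), (159, 133), (160, 135), (161, 130), (162, 32), (163, 176), (164, 216), (165, 204), (166, 198), (167, 195), (168, 193), (169, 200), (170, 220), (171, 214), (172, 211), (173, 209), (174, 180), (175, 190), (176, 187), (177, 185), (178, 170), (179, 175), (180, 173), (181, 165), (182, 167), (183, 162), (184, 36), (185, 46), (186, 43), (187, 41), (188, 58), (189, 63), (190, 61), (191, 53), (192, 55), (193, 50), (194, 82), (195, 87), (196, 85), (197, 93), (198, 95), (199, 90), (200, 73), (201, 75), (202, 78), (203, 68), (204, 66), (205, 71), (206, 69), (207, 77), (208, 79), (209, 74), (210, 89), (211, 91), (212, 94), (213, 84), (214, 49), (215, 51), (216, 54), (217, 60), (218, 40), (219, 161), (220, 163), (221, 166), (222, 172), (223, 184), (224, 208), (225, 192), (226, 129), (227, 131), (228, 134), (229, 140), (230, 152), (231, 240), (232, 96),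 (233, 224), (234, 112), (235, 24), (236, 12), (237, 6), (238, 3), (239, 1)]
  M := [[], [0, 2, 3, 1, 4, 3, 2, 0, 5, 4, 3, 1, 2, 3, 4, 5, 6, 5, 4, 3, 1, 2, 0, 3, 2, 4, 3, 1, 5, 4, 3, 2, 0], [0, 2, 3, 1, 4, 3, 2, 0, 5, 4, 3, 1, 2, 3, 4, 5, 7, 6, 5, 4, 3, 1, 2, 0, 3, 2, 4, 3, 1, 5, 4, 3, 2, 0], [0, 2, 3, 1, 4, 3, 2, 0, 6, 5, 4, 3, 1, 2, 3, 4, 5, 7, 6, 5, 4, 3, 1, 2, 0, 3, 2, 4, 3, 1, 5, 4, 3, 2, 0], [0, 2, 3, 1, 5, 4, 3, 2, 0, 6, 5, 4, 3, 1, 2, 3, 4, 5, 7, 6, 5, 4, 3, 1, 2, 0, 3, 2, 4, 3, 1, 5, 4, 3, 2, 0], [0, 2, 4, 3, 1, 5, 4, 3, 2, 0, 6, 5, 4, 3, 1, 2, 3, 4, 5, 7, 6, 5, 4, 3, 1, 2, 0, 3, 2, 4, 3, 1, 5, 4, 3, 2, 0], [0, 3, 2, 4, 3, 1, 5, 4, 3, 2, 0, 6, 5, 4, 3, 1, 2, 3, 4, 5, 7, 6, 5, 4, 3, 1, 2, 0, 3, 2, 4, 3, 1, 5, 4, 3, 2, 0], [0, 1, 3, 2, 4, 3, 1, 5, 4, 3, 2, 0, 6, 5, 4, 3, 1, 2, 3, 4, 5, 7, 6, 5, 4, 3, 1, 2, 0, 3, 2, 4, 3, 1, 5, 4, 3, 2, 0], [2, 0, 3, 2, 4, 3, 1, 5, 4, 3, 2, 0, 6, 5, 4, 3, 1, 2, 3,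 4, 5, 7, 6, 5, 4, 3, 1, 2, 0, 3, 2, 4, 3, 1, 5, 4, 3, 2, 0], [1, 2, 0, 3, 2, 4, 3, 1, 5, 4, 3, 2, 0, 6, 5, 4, 3, 1, 2, 3, 4, 5, 7, 6, 5, 4, 3, 1, 2, 0, 3, 2, 4, 3, 1, 5, 4, 3, 2, 0], [3, 1, 2, 0, 3, 2, 4, 3, 1, 5, 4, 3, 2, 0, 6, 5, 4, 3, 1, 2, 3, 4, 5, 7, 6, 5, 4, 3, 1, 2, 0, 3, 2, 4, 3, 1, 5, 4, 3, 2, 0], [4, 3, 1, 2, 0, 3, 2, 4, 3, 1, 5, 4, 3, 2, 0, 6, 5, 4, 3, 1, 2, 3, 4, 5, 7, 6, 5, 4, 3, 1, 2, 0, 3, 2, 4, 3, 1, 5, 4, 3, 2, 0], [5, 4, 3, 1, 2, 0, 3, 2, 4, 3, 1, 5, 4, 3, 2, 0, 6, 5, 4, 3, 1, 2, 3, 4, 5, 7, 6, 5, 4, 3, 1, 2, 0, 3, 2, 4, 3, 1, 5, 4, 3, 2, 0], [6, 5, 4, 3, 1, 2, 0, 3, 2, 4, 3, 1, 5, 4, 3, 2, 0, 6, 5, 4, 3, 1, 2, 3, 4, 5, 7, 6, 5, 4, 3, 1, 2, 0, 3, 2, 4, 3, 1, 5, 4, 3, 2, 0], [7, 6, 5, 4, 3, 1, 2, 0, 3, 2, 4, 3, 1, 5, 4, 3, 2, 0, 6, 5, 4, 3, 1, 2, 3, 4, 5, 7, 6, 5, 4, 3, 1, 2, 0, 3, 2, 4, 3, 1, 5, 4, 3, 2, 0], [0, 2, 3, 1, 4, 3, 2, 0, 5, 4, 3, 1, 2, 3, 4, 5, 6, 5, 4, 3, 1, 2, 0, 3, 2, 4,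 3, 1, 5, 4, 3, 2, 0, 7, 6, 5, 4, 3, 1, 2, 0, 3, 2, 4, 3, 1, 5, 4, 3, 2, 0, 6, 5, 4, 3, 1, 2, 3, 4, 5, 7, 6, 5, 4, 3, 1, 2, 0, 3, 2, 4, 3, 1, 5, 4, 3, 2, 0]]
  Λ := [[1, 0, 0, 0, 0, 0, 0, 0], [-1, 0, 0, 0, 0, 0, 0, 2], [-1, 0, 0, 0, 0, 0, 2, -2], [-1, 0, 0, 0, 0, 2, -2, 0], [-1, 0, 0, 0, 2, -2, 0, 0], [-1, 0, 0, 2, -2, 0, 0, 0], [-1, 2, 2, -2, 0, 0, 0, 0], [-1, -2, 2, 0, 0, 0, 0, 0], [1, 2, -2, 0, 0, 0, 0, 0], [1, -2, -2, 2, 0, 0, 0, 0], [1, 0, 0, -2, 2, 0, 0, 0], [1, 0, 0, 0, -2, 2, 0, 0], [1, 0, 0, 0, 0, -2, 2, 0], [1, 0, 0, 0, 0, 0, -2, 2], [1, 0, 0, 0, 0, 0, 0, -2], [-1, 0, 0, 0, 0, 0, 0, 0]]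
  JL := [1, 2, 3, 4, 5, 6, 7]

def cdE8b : CData where
  k := 7
  b1 := 120
  b2 := 238
  pt := [(0, 1), (1, 3), (2, 6), (3, 12), (4, 24), (5, 112), (6, 224), (7, 96), (8, 240), (9, 152), (10, 140), (11, 134), (12, 131), (13, 129), (14, 192), (15, 208), (16, 184), (17, 172), (18, 166), (19, 163), (20, 161), (21, 40), (22, 60), (23, 54), (24, 51), (25, 49), (26, 84), (27, 94), (28, 91), (29, 89), (30, 74), (31, 79), (32, 77), (33, 69), (34, 71), (35, 66), (36, 68), (37, 78), (38, 75), (39, 73), (40, 90), (41, 95), (42, 93), (43, 85), (44, 87), (45, 82), (46, 50), (47, 55), (48, 53), (49, 61), (50, 63), (51, 58), (52, 41), (53, 43), (54, 46), (55, 36), (56, 162), (57, 167), (58, 165), (59, 173), (60, 175), (61, 170), (62, 185), (63, 187), (64, 190), (65, 180), (66, 209), (67, 211), (68, 214), (69, 220), (70, 200), (71, 193), (72, 195), (73, 198), (74, 204), (75, 216), (76, 176), (77, 32), (78, 130), (79,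 135), (80, 133), (81, 141), (82, 143), (83, 138), (84, 153), (85, 155), (86, 158), (87, 148), (88, 241), (89, 243), (90, 246), (91, 252), (92, 232), (93, 97), (94, 99), (95, 102), (96, 108), (97, 120), (98, 16), (99, 225), (100, 227), (101, 230), (102, 236), (103, 248), (104, 144), (105, 113), (106, 115), (107, 118), (108, 124), (109, 104), (110, 25), (111, 27), (112, 30), (113, 20), (114, 13), (115, 15), (116, 10), (117, 7), (118, 5), (119, 2), (120, 2), (121, 5), (122, 7), (123, 10), (124, 15), (125, 13), (126, 20), (127, 30), (128, 27), (129, 25), (130, 104), (131, 124), (132, 118), (133, 115), (134, 113), (135, 144), (136, 248), (137, 236), (138, 230), (139, 227), (140, 225), (141, 16), (142, 120), (143, 108), (144, 102), (145, 99), (146, 97), (147, 232), (148, 252), (149, 246), (150, 243), (151, 241), (152, 148), (153, 158), (154, 155), (155, 153), (156, 138), (157, 143), (158, 141), (159, 133), (160,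 135), (161, 130), (162, 32), (163, 176), (164, 216), (165, 204), (166, 198), (167, 195), (168, 193), (169, 200), (170, 220), (171, 214), (172, 211), (173, 209), (174, 180), (175, 190), (176, 187), (177, 185), (178, 170), (179, 175), (180, 173), (181, 165), (182, 167), (183, 162), (184, 36), (185, 46), (186, 43), (187, 41), (188, 58), (189, 63), (190, 61), (191, 53), (192, 55), (193, 50), (194, 82), (195, 87), (196, 85), (197, 93), (198, 95), (199, 90), (200, 73), (201, 75), (202, 78), (203, 68), (204, 66), (205, 71), (206, 69), (207, 77), (208, 79), (209, 74), (210, 89), (211, 91), (212, 94), (213, 84), (214, 49), (215, 51), (216, 54), (217, 60), (218, 40), (219, 161), (220, 163), (221, 166), (222, 172), (223, 184), (224, 208), (225, 192), (226, 129), (227, 131), (228, 134), (229, 140), (230, 152), (231, 240), (232, 96), (233, 224), (234, 112), (235, 24), (236, 12), (237, 6), (238, 3), (239, 1)]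
  M := [[], [7, 6, 5, 4, 3, 1, 2, 0, 3, 2, 4, 3, 1, 5, 4, 3, 2, 0, 6, 5, 4, 3, 1, 2, 3, 4, 5, 6, 7, 6, 5, 4, 3, 1, 2, 0, 3, 2, 4, 3, 1, 5, 4, 3, 2, 0, 6, 5, 4, 3, 1, 2, 3, 4, 5, 6, 7]]
  Λ := [[0, 0, 0, 0, 0, 0, 0, 1], [0, 0, 0, 0, 0, 0, 0, -1]]
  JL := [0, 1, 2, 3, 4, 5, 6]

theorem ccG2 : CChk tG2 cdG2 where
  k0 := by decide +kernel
  b1 := by decide +kernel
  b2 := by decide +kernel
  dual := by decide +kernel
  M1 := by decide +kernel
  M2 := by decide +kernel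
  M3 := by decide +kernel
  L1 := by decide +kernel
  L2 := by decide +kernel
  P1 := by decide +kernel
  P2 := by decide +kernel
  J1 := by decide +kernel
  J2 := by decide +kernel

theorem ccF4a : CChk tF4 cdF4a where
  k0 := by decide +kernel
  b1 := by decide +kernel
  b2 := by decide +kernel
  dual := by decide +kernel
  M1 := by decide +kernel
  M2 := by decide +kernel
  M3 := by decide +kernel
  L1 := by decide +kernel
  L2 := by decide +kernel
  P1 := by decide +kernel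
  P2 := by decide +kernel
  J1 := by decide +kernel
  J2 := by decide +kernel

theorem ccF4b : CChk tF4 cdF4b where
  k0 := by decide +kernel
  b1 := by decide +kernel
  b2 := by decide +kernel
  dual := by decide +kernel
  M1 := by decide +kernel
  M2 := by decide +kernel
  M3 := by decide +kernel
  L1 := by decide +kernel
  L2 := by decide +kernel
  P1 := by decide +kernel
  P2 := by decide +kernel
  J1 := by decide +kernel
  J2 := by decide +kernel

theorem ccE8a : CChk tE8 cdE8a where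
  k0 := by decide +kernel
  b1 := by decide +kernel
  b2 := by decide +kernel
  dual := by decide +kernel
  M1 := by decide +kernel
  M2 := by decide +kernel
  M3 := by decide +kernel
  L1 := by decide +kernel
  L2 := by decide +kernel
  P1 := by decide +kernel
  P2 := by decide +kernel
  J1 := by decide +kernel
  J2 := by decide +kernel

theorem ccE8b : CChk tE8 cdE8b where
  k0 := by decide +kernel
  b1 := by decide +kernel
  b2 := by decide +kernel
  dual := by decide +kernel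
  M1 := by decide +kernel
  M2 := by decide +kernel
  M3 := by decide +kernel
  L1 := by decide +kernel
  L2 := by decide +kernel
  P1 := by decide +kernel
  P2 := by decide +kernel
  J1 := by decide +kernel
  J2 := by decide +kernel

end CfsgLib.OI
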