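import Mathlib
import Cfsg.Agent.EqBase
import Cfsg.Agent.LibBR11q
import Cfsg.Agent.S0183
import Cfsg.Agent.S2475
import Cfsg.Agent.S0144
import Cfsg.Agent.S1230

/-! Groups with all elements of prime order (seat helper11). -/

set_option autoImplicit false
set_option linter.all false

namespace CfsgLib.Orb11

open Subgroup Cfsg

universe u

/-- all non-trivial elements have prime order -/
def PO (G : Type u) [Group G] : Prop := ∀ x : G, x ≠ 1 → (orderOf x).Prime

section
variable {G : Type u} [Group G] [Finite G]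

theorem PO.sub (h : PO G) (H : Subgroup G) : PO H := by
  intro x hx
  rw [← Subgroup.orderOf_coe]
  exact h x (fun h0 => hx (Subtype.ext h0))

theorem PO.comm (h : PO G) {x y : G} (hx : x ≠ 1) (hy : y ≠ 1) (hc : x * y = y * x) : orderOf x = orderOf y := by
  by_contra hne
  have h1 := h x hx
  have h2 := h y hy
  have hcop : Nat.Coprime (orderOf x) (orderOf y) := (Nat.coprime_primes h1 h2).2 hne
  have h3 := (show Commute x y from hc).orderOf_mul_eq_mul_orderOf_of_coprime hcop
  have h4 : x * y ≠ 1 := by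
    intro h0
    rw [h0, orderOf_one] at h3
    have := h1.two_le
    have := h2.two_le
    nlinarith
  have h5 := h _ h4
  rw [h3] at h5
  exact Nat.not_prime_mul h1.one_lt.ne' h2.one_lt.ne' h5

theorem PO.cent (h : PO G) {x : G} (hx : x ≠ 1) : IsPGroup (orderOf x) (centralizer ({x} : Set G)) := by
  haveI : Fact (orderOf x).Prime := ⟨h x hx⟩
  intro y
  refine ⟨1, ?_⟩
  rw [pow_one]
  by_cases hy : (y : G) = 1
  · apply Subtype.ext
    rw [Subgroup.coe_pow, hy, one_pow, Subgroup.coe_one]
  · apply Subtype.ext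
    rw [Subgroup.coe_pow, Subgroup.coe_one, h.comm hx hy (mem_centralizer_singleton_iff.1 y.2).symm]
    exact pow_orderOf_eq_one _

theorem PO.cn (h : PO G) : IsCNGroup G := by
  intro x hx
  haveI : Fact (orderOf x).Prime := ⟨h x hx⟩
  exact (h.cent hx).isNilpotent

theorem PO.odd_solvable (h : PO G) (hodd : Odd (Nat.card G)) : Group.IsSolvable G := Cfsg.Agent.S0183.result hodd h.cn

theorem exists_three (hns : ¬ Group.IsSolvable G) : ∃ p q r : ℕ, p.Prime ∧ q.Prime ∧ r.Prime ∧ p ≠ q ∧ p ≠ r ∧ q ≠ r ∧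
    p ∣ Nat.card G ∧ q ∣ Nat.card G ∧ r ∣ Nat.card G := by
  classical
  set s := (Nat.card G).primeFactors with hs
  have hG0 : Nat.card G ≠ 0 := Nat.card_pos.ne'
  have h3 : 2 < s.card := by
    by_contra hle
    have hex : ∃ p q : ℕ, p.Prime ∧ q.Prime ∧ p ≠ q ∧ s ⊆ {p, q} := by
      have hc : s.card = 0 ∨ s.card = 1 ∨ s.card = 2 := by omega
      rcases hc with h | h | h
      · refine ⟨2, 3, Nat.prime_two, Nat.prime_three, by norm_num, ?_⟩
        rw [Finset.card_eq_zero.1 h]; exact Finset.empty_subset _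
      · obtain ⟨p, hp⟩ := Finset.card_eq_one.1 h
        have hpp : p.Prime := Nat.prime_of_mem_primeFactors (n := Nat.card G) (by rw [← hs, hp]; exact Finset.mem_singleton_self _)
        by_cases h2 : p = 2
        · refine ⟨p, 3, hpp, Nat.prime_three, by omega, ?_⟩
          rw [hp]; intro x hx; rw [Finset.mem_singleton] at hx; rw [hx]; exact Finset.mem_insert_self _ _
        · refine ⟨p, 2, hpp, Nat.prime_two, h2, ?_⟩
          rw [hp]; intro x hx; rw [Finset.mem_singleton] at hx; rw [hx]; exact Finset.mem_insert_self _ _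
      · obtain ⟨p, q, hpq, hp⟩ := Finset.card_eq_two.1 h
        refine ⟨p, q, Nat.prime_of_mem_primeFactors (n := Nat.card G) (by rw [← hs, hp]; simp),
          Nat.prime_of_mem_primeFactors (n := Nat.card G) (by rw [← hs, hp]; simp), hpq, by rw [hp]⟩
    obtain ⟨p, q, hp, hq, hpq, hsub⟩ := hex
    apply hns
    apply Cfsg.Agent.S0144.result p q ((Nat.card G).factorization p) ((Nat.card G).factorization q) hp hq
    conv_lhs => rw [← Nat.prod_factorization_pow_eq_self hG0]
    rw [Finsupp.prod_of_support_subset _ (s := {p, q}) (by rw [Nat.support_factorization]; exact hsub) _ (fun _ _ => pow_zero _)]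
    rw [Finset.prod_pair hpq]
  obtain ⟨p, hp, q, hq, r, hr, h1, h2, h4⟩ := Finset.two_lt_card.1 h3
  exact ⟨p, q, r, Nat.prime_of_mem_primeFactors hp, Nat.prime_of_mem_primeFactors hq, Nat.prime_of_mem_primeFactors hr, h1, h2, h4,
    Nat.dvd_of_mem_primeFactors hp, Nat.dvd_of_mem_primeFactors hq, Nat.dvd_of_mem_primeFactors hr⟩

theorem PO.two_sq (h : PO G) {T : Subgroup G} (hT : IsPGroup 2 T) {x : G} (hx : x ∈ T) : x ^ 2 = 1 := by
  by_cases h1 : x = 1
  · rw [h1, one_pow]
  · have h2 := h x h1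
    obtain ⟨k, hk⟩ := (IsPGroup.iff_orderOf.1 hT) ⟨x, hx⟩
    rw [← Subgroup.orderOf_coe] at hk
    have hk' : orderOf x = 2 ^ k := hk
    have h3 : orderOf x ∣ 2 ^ k := by rw [hk']
    have h4 := (Nat.prime_dvd_prime_iff_eq h2 Nat.prime_two).1 (h2.dvd_of_dvd_pow h3)
    rw [← h4]; exact pow_orderOf_eq_one x

theorem PO.psl (h : PO G) (hns : ¬ Group.IsSolvable G) : ∃ (n : ℕ) (F : Type) (_ : Field F) (_ : Fintype F), 2 ≤ n ∧ Fintype.card F = 2 ^ n ∧
    Nonempty (G ≃* Matrix.ProjectiveSpecialLinearGroup (Fin 2) F) := by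
  classical
  haveI : Fact (Nat.Prime 2) := ⟨Nat.prime_two⟩
  have hev : 2 ∣ Nat.card G := by
    by_contra hne
    exact hns (h.odd_solvable (Nat.not_even_iff_odd.1 (fun he => hne he.two_dvd)))
  obtain ⟨T⟩ := (inferInstance : Nonempty (Sylow 2 G))
  have hTpos : T.card_eq_multiplicity = T.card_eq_multiplicity := rfl
  have hTc1 : Nat.card (T : Subgroup G) ≠ 1 := by
    intro h1
    have h2 := T.card_eq_multiplicity
    have h3 : 0 < (Nat.card G).factorization 2 := Nat.prime_two.factorization_pos_of_dvd Nat.card_pos.ne' hev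
    have h4 := Nat.one_lt_pow h3.ne' (show 1 < 2 by norm_num)
    have h5 : Nat.card (T : Subgroup G) = 2 ^ (Nat.card G).factorization 2 := h2
    omega
  have hsolT : Group.IsSolvable (T : Subgroup G) := by
    haveI := T.2.isNilpotent
    infer_instance
  have hnc : ¬ IsCyclic (T : Subgroup G) := by
    intro hc
    have hmin : (Nat.card G).minFac = 2 := Nat.minFac_eq_two_iff _ |>.2 hev
    have h1 := IsCyclic.isComplement' (P := T) hmin hc
    set K := (MonoidHom.transferSylow T (hc.normalizer_le_centralizer hmin)).ker with hK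
    have h2 := h1.card_mul
    have h3 : Odd (Nat.card K) := by
      have h4 := (T : Subgroup G).card_mul_index
      have h5 : Nat.card K = (T : Subgroup G).index := by
        rw [mul_comm, ← h4] at h2
        exact Nat.eq_of_mul_eq_mul_left Nat.card_pos h2
      rw [h5]
      exact Nat.not_even_iff_odd.1 (fun he => T.not_dvd_index he.two_dvd)
    have hKs : Group.IsSolvable K := (h.sub K).odd_solvable h3
    apply hns
    exact Group.isSolvable_of_ker_le_range K.subtype (MonoidHom.transferSylow T (hc.normalizer_le_centralizer hmin)) (by rw [Subgroup.range_subtype])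
  have hnn : ¬ (T : Subgroup G).Normal := by
    intro hN
    obtain ⟨K, hK⟩ := Subgroup.exists_right_complement'_of_coprime (N := (T : Subgroup G)) T.card_coprime_index
    have h3 : Odd (Nat.card K) := by
      have h2 := hK.card_mul
      have h4 := (T : Subgroup G).card_mul_index
      have h5 : Nat.card K = (T : Subgroup G).index := Nat.eq_of_mul_eq_mul_left Nat.card_pos (h2.trans h4.symm)
      rw [h5]
      exact Nat.not_even_iff_odd.1 (fun he => T.not_dvd_index he.two_dvd)
    haveI hKs : Group.IsSolvable K := (h.sub K).odd_solvable h3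
    have hsurj : Function.Surjective ((QuotientGroup.mk' (T : Subgroup G)).comp K.subtype) := by
      intro y
      obtain ⟨g, rfl⟩ := QuotientGroup.mk'_surjective _ y
      have h6 : g ∈ (T : Subgroup G) ⊔ K := by rw [hK.sup_eq_top]; exact mem_top g
      rw [Subgroup.mem_sup_of_normal_left] at h6
      obtain ⟨t, ht, k, hk, rfl⟩ := h6
      refine ⟨⟨k, hk⟩, ?_⟩
      show (QuotientGroup.mk' (T : Subgroup G)) k = (QuotientGroup.mk' (T : Subgroup G)) (t * k)
      rw [map_mul, (show (QuotientGroup.mk' (T : Subgroup G)) t = 1 from (QuotientGroup.eq_one_iff (N := (T : Subgroup G)) t).2 ht), one_mul]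
    haveI hQ : Group.IsSolvable (G ⧸ (T : Subgroup G)) := Group.isSolvable_of_surjective hsurj
    exact hns (Group.isSolvable_of_ker_le_range (T : Subgroup G).subtype (QuotientGroup.mk' (T : Subgroup G)) (by simp))
  have hinv : ∀ t : G, orderOf t = 2 → IsMulCommutative (centralizer ({t} : Set G)) ∧ ∀ c ∈ centralizer ({t} : Set G), c ^ 2 = 1 := by
    intro t ht
    have ht1 : t ≠ 1 := by rintro rfl; rw [orderOf_one] at ht; norm_num at ht
    have h1 := h.cent ht1
    rw [ht] at h1
    have h2 : ∀ c ∈ centralizer ({t} : Set G), c ^ 2 = 1 := fun c hc => h.two_sq h1 hc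
    refine ⟨⟨⟨fun x y => ?_⟩⟩, h2⟩
    apply Subtype.ext
    have h3 := h2 _ (mul_mem x.2 y.2)
    have h4 := h2 _ x.2
    have h5 := h2 _ y.2
    rw [sq] at h3 h4 h5
    have h6 : (x : G) * y = ((x : G) * y)⁻¹ := (inv_eq_of_mul_eq_one_left h3).symm
    rw [mul_inv_rev, inv_eq_of_mul_eq_one_left h4, inv_eq_of_mul_eq_one_left h5] at h6
    exact h6
  obtain ⟨F, iF, iFt, hFc, hφ⟩ := Cfsg.Agent.S1230.result T hnc hnn hinv
  obtain ⟨m, hm⟩ := T.2.exists_card_eq
  have hm' : Nat.card T = 2 ^ m := hm
  refine ⟨m, F, iF, iFt, ?_, by rw [hFc, hm'], hφ⟩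
  by_contra hlt
  apply hnc
  have hm2 : m = 0 ∨ m = 1 := by omega
  have hm'' : Nat.card (T : Subgroup G) = 2 ^ m := hm
  rcases hm2 with rfl | rfl
  · exact absurd hm'' (by rw [pow_zero]; exact hTc1)
  · rw [pow_one] at hm''
    exact isCyclic_of_prime_card (p := 2) hm''

end
end CfsgLib.Orb11
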