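import Mathlib

/-! Basic Sylow counting and simple group criteria (seat helper15). -/

set_option autoImplicit false

namespace CfsgLib.SmallSyl

open MulAction
open scoped Pointwise

section basic

variable {G : Type*} [Group G]

theorem mem_smul_sylow {p : ℕ} {g x : G} {P : Sylow p G} :
    x ∈ ((g • P : Sylow p G) : Subgroup G) ↔ g⁻¹ * x * g ∈ (P : Subgroup G) := by
  rw [Sylow.coe_subgroup_smul]
  show x ∈ (MulAut.conj g • (P : Subgroup G) : Subgroup G) ↔ _
  rw [Subgroup.mem_pointwise_smul_iff_inv_smul_mem, ← map_inv, MulAut.smul_def, MulAut.conj_apply, inv_inv]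

theorem index_normalizer [Finite G] {p : ℕ} [Fact p.Prime] (P : Sylow p G) :
    (Subgroup.normalizer ((P : Subgroup G) : Set G)).index = Nat.card (Sylow p G) :=
  P.card_eq_index_normalizer.symm

theorem card_normalizer_mul [Finite G] {p : ℕ} [Fact p.Prime] (P : Sylow p G) :
    Nat.card (Subgroup.normalizer ((P : Subgroup G) : Set G)) * Nat.card (Sylow p G) = Nat.card G := by
  rw [← index_normalizer P]
  exact Subgroup.card_mul_index _

theorem normal_of_card_one [Finite G] {p : ℕ} [Fact p.Prime] (h : Nat.card (Sylow p G) = 1)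
    (P : Sylow p G) : (P : Subgroup G).Normal := by
  rw [← Subgroup.normalizer_eq_top_iff, ← Subgroup.index_eq_one, index_normalizer P, h]

theorem card_one_of_normal [Finite G] {p : ℕ} [Fact p.Prime] (P : Sylow p G)
    (h : (P : Subgroup G).Normal) : Nat.card (Sylow p G) = 1 := by
  rw [← index_normalizer P, Subgroup.index_eq_one, Subgroup.normalizer_eq_top_iff]
  exact h

/-- order of a Sylow subgroup when `|G| = p ^ n * m` with `p ∤ m` -/
theorem card_sylow [Finite G] {p : ℕ} [hp : Fact p.Prime] {n m : ℕ} (hG : Nat.card G = p ^ n * m)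
    (hm : ¬ p ∣ m) (P : Sylow p G) : Nat.card (P : Subgroup G) = p ^ n := by
  obtain ⟨k, hk⟩ := IsPGroup.iff_card.mp P.2
  have h1 : p ^ n ∣ Nat.card P := P.pow_dvd_card_of_pow_dvd_card (by rw [hG]; exact dvd_mul_right _ _)
  have h2 : Nat.card P ∣ p ^ n * m := by rw [← hG]; exact Subgroup.card_subgroup_dvd_card _
  have h3 : Nat.card (P : Subgroup G) = p ^ k := hk
  rw [show Nat.card P = p ^ k from hk] at h1 h2
  have h4 : p ^ k ∣ p ^ n := by
    have : Nat.Coprime (p ^ k) m := Nat.Coprime.pow_left k ((Nat.Prime.coprime_iff_not_dvd hp.out).mpr hm)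
    exact this.dvd_of_dvd_mul_right h2
  rw [h3]
  exact Nat.dvd_antisymm h4 h1

theorem card_sylow_dvd [Finite G] {p : ℕ} [hp : Fact p.Prime] {n m : ℕ} (hG : Nat.card G = p ^ n * m)
    (hm : ¬ p ∣ m) : Nat.card (Sylow p G) ∣ m := by
  let P : Sylow p G := default
  have h1 := P.card_dvd_index
  have h2 := Subgroup.card_mul_index (P : Subgroup G)
  rw [card_sylow hG hm P, hG] at h2
  have h3 : (P : Subgroup G).index = m := Nat.eq_of_mul_eq_mul_left (pow_pos hp.out.pos n) h2
  rwa [h3] at h1

/-- subgroups containing a Sylow subgroup and its behaviour: a `p`-subgroup of `N` normal coprime index. -/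
theorem le_normal_of_coprime_index [Finite G] {K : Subgroup G} [K.Normal] {H : Subgroup G}
    (h : Nat.Coprime (Nat.card H) K.index) : H ≤ K := by
  intro x hx
  have h1 : (QuotientGroup.mk x : G ⧸ K) = 1 := by
    rw [← orderOf_eq_one_iff]
    have h2 : orderOf (QuotientGroup.mk x : G ⧸ K) ∣ Nat.card H := by
      have h3 : orderOf (QuotientGroup.mk x : G ⧸ K) ∣ orderOf x := orderOf_map_dvd (QuotientGroup.mk' K) x
      have h4 : orderOf x ∣ Nat.card H := by
        have := orderOf_dvd_natCard (⟨x, hx⟩ : H)
        rwa [Subgroup.orderOf_mk] at this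
      exact h3.trans h4
    have h3 : orderOf (QuotientGroup.mk x : G ⧸ K) ∣ K.index := orderOf_dvd_natCard _
    exact Nat.eq_one_of_dvd_coprimes h h2 h3
  rwa [QuotientGroup.eq_one_iff] at h1

end basic

section simple

variable {G : Type*} [Group G] [Finite G] [IsSimpleGroup G]

theorem one_lt_card_sylow (hG : ¬ IsMulCommutative G) {p : ℕ} [hp : Fact p.Prime] (hdvd : p ∣ Nat.card G) :
    1 < Nat.card (Sylow p G) := by
  have hpos : 0 < Nat.card (Sylow p G) := Nat.card_pos
  by_contra hcon
  have h1 : Nat.card (Sylow p G) = 1 := by omega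
  let P : Sylow p G := default
  have h2 := normal_of_card_one h1 P
  rcases h2.eq_bot_or_eq_top with h3 | h3
  · have h4 : p ∣ Nat.card P := P.dvd_card_of_dvd_card hdvd
    rw [show Nat.card P = Nat.card (P : Subgroup G) from rfl, h3, Subgroup.card_bot] at h4
    exact hp.out.one_lt.ne' (Nat.dvd_one.mp h4)
  · have h5 : IsPGroup p G := by
      have := P.2
      rw [h3] at this
      exact this.of_equiv Subgroup.topEquiv
    have hnt : Nontrivial G := IsSimpleGroup.toNontrivial
    have h6 := h5.center_nontrivial
    rcases (inferInstance : (Subgroup.center G).Normal).eq_bot_or_eq_top with h7 | h7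
    · rw [h7] at h6
      exact not_subsingleton (⊥ : Subgroup G) inferInstance
    · apply hG
      refine ⟨⟨fun a b => ?_⟩⟩
      have h8 : a ∈ Subgroup.center G := by rw [h7]; trivial
      exact (Subgroup.mem_center_iff.mp h8 b).symm

/-- A nonabelian simple group embeds in the alternating group on the cosets of a proper subgroup. -/
theorem card_dvd_factorial (hG : ¬ IsMulCommutative G) (H : Subgroup G) (hH : H ≠ ⊤) :
    2 * Nat.card G ∣ H.index.factorial := by
  classical
  have hfin : Finite (G ⧸ H) := inferInstance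
  have hft : Fintype (G ⧸ H) := Fintype.ofFinite _
  let φ : G →* Equiv.Perm (G ⧸ H) := MulAction.toPermHom G (G ⧸ H)
  have hfinj : Function.Injective φ := by
    rw [← MonoidHom.ker_eq_bot_iff]
    rcases (inferInstance : φ.ker.Normal).eq_bot_or_eq_top with h | h
    · exact h
    · exfalso
      apply hH
      rw [eq_top_iff, ← h]
      have h2 : φ.ker = H.normalCore := (Subgroup.normalCore_eq_ker H).symm
      rw [h2]
      exact H.normalCore_le
  have hsign : ∀ g : G, Equiv.Perm.sign (φ g) = 1 := by
    let s : G →* ℤˣ := (Equiv.Perm.sign : Equiv.Perm (G ⧸ H) →* ℤˣ).comp φ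
    rcases (inferInstance : s.ker.Normal).eq_bot_or_eq_top with h | h
    · exfalso
      apply hG
      have h3 : Function.Injective s := (MonoidHom.ker_eq_bot_iff s).mp h
      refine ⟨⟨fun a b => h3 ?_⟩⟩
      rw [map_mul, map_mul, mul_comm]
    · intro g
      have : g ∈ s.ker := by rw [h]; trivial
      exact this
  let ψ : G →* alternatingGroup (G ⧸ H) := φ.codRestrict _ (fun g => Equiv.Perm.mem_alternatingGroup.mpr (hsign g))
  have hψ : Function.Injective ψ := fun a b hab => hfinj (congrArg Subtype.val hab)
  have hnt : Nontrivial (G ⧸ H) := by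
    rw [← Finite.one_lt_card_iff_nontrivial]
    have h1 : H.index ≠ 1 := by rwa [Ne, Subgroup.index_eq_one]
    have h2 : H.index ≠ 0 := Subgroup.index_ne_zero_of_finite
    have h3 : Nat.card (G ⧸ H) = H.index := rfl
    omega
  have h1 : Nat.card G ∣ Nat.card (alternatingGroup (G ⧸ H)) := Subgroup.card_dvd_of_injective ψ hψ
  have h2 := nat_card_alternatingGroup (α := G ⧸ H)
  have h3 : 2 * Nat.card (alternatingGroup (G ⧸ H)) = H.index.factorial := by
    have h4 : 2 * Nat.card (alternatingGroup (G ⧸ H)) = (Nat.card (G ⧸ H)).factorial := by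
      rw [h2]
      have h5 : 2 ∣ (Nat.card (G ⧸ H)).factorial := by
        apply Nat.dvd_factorial (by norm_num)
        exact Finite.one_lt_card
      omega
    exact h4
  rw [← h3]
  exact Nat.mul_dvd_mul_left 2 h1

/-- Burnside: in a nonabelian simple group no Sylow subgroup of order divisible by `p` is central in
its normaliser. -/
theorem burnside (hG : ¬ IsMulCommutative G) {p : ℕ} [hp : Fact p.Prime] (hdvd : p ∣ Nat.card G) (P : Sylow p G) :
    ¬ Subgroup.normalizer ((P : Subgroup G) : Set G) ≤ Subgroup.centralizer ((P : Subgroup G) : Set G) := by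
  intro hle
  have h1 := MonoidHom.ker_transferSylow_isComplement' P hle
  have h3 : ¬ p ∣ Nat.card (MonoidHom.transferSylow P hle).ker := MonoidHom.not_dvd_card_ker_transferSylow P hle
  rcases (inferInstance : (MonoidHom.transferSylow P hle).ker.Normal).eq_bot_or_eq_top with h | h
  · -- G is a p-group
    have hone := one_lt_card_sylow hG hdvd
    rw [h] at h1
    have h4 : (P : Subgroup G) = ⊤ := by
      have h5 := h1.card_mul_card
      rw [Subgroup.card_bot, one_mul] at h5
      exact Subgroup.eq_top_of_card_eq _ h5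
    have h5 : Nat.card (Sylow p G) = 1 := card_one_of_normal P (by rw [h4]; infer_instance)
    omega
  · rw [h, Subgroup.card_top] at h3
    exact h3 hdvd

end simple

end CfsgLib.SmallSyl
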