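import Cfsg.Statements.S0985
import Mathlib
import Cfsg.Agent.LibSmallSyl
-- import your own Cfsg.Agent.* helpers here

set_option autoImplicit false
open Cfsg

namespace Cfsg.Agent.S0985

open MulAction

/-- If the number of Sylow p-subgroups of a finite group is not congruent to 1 modulo p^k, then there are two distinct Sylow p-subgroups P and R such that the index of P ∩ R in P is at most p^(k-1). -/
theorem result {G : Type*} [Group G] [Finite G] (p k : ℕ) [Fact p.Prime] (h : ¬ Nat.card (Sylow p G) ≡ 1 [MOD p ^ k]) : ∃ P R : Sylow p G, P ≠ R ∧ ((R : Subgroup G).subgroupOf (P : Subgroup G)).index ≤ p ^ (k - 1) := by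
  classical
  have hp : Fact p.Prime := inferInstance
  by_contra hcon
  push Not at hcon
  apply h
  rcases Nat.eq_zero_or_pos k with hk | hk
  · rw [hk, pow_zero]; exact Nat.modEq_one
  let P : Sylow p G := default
  have hft : Fintype (orbitRel.Quotient (P : Subgroup G) (Sylow p G)) := Fintype.ofFinite _
  -- orbit sizes
  have hsize : ∀ R : Sylow p G, P ≠ R → p ^ k ∣ Nat.card (orbit (P : Subgroup G) R) := by
    intro R hR
    have h1 := hcon P R hR
    have h2 : Nat.card (orbit (P : Subgroup G) R) = ((R : Subgroup G).subgroupOf (P : Subgroup G)).index := by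
      have h3 := MulAction.index_stabilizer (P : Subgroup G) R
      rw [show Nat.card (orbit (P : Subgroup G) R) = (orbit (P : Subgroup G) R).ncard from rfl, ← h3]
      congr 1
      ext x
      rw [mem_stabilizer_iff, Subgroup.mem_subgroupOf]
      have h4 : (x • R = R) ↔ (x : G) ∈ Subgroup.normalizer ((R : Subgroup G) : Set G) := Sylow.smul_eq_iff_mem_normalizer
      rw [h4]
      have h5 : (P : Subgroup G) ⊓ Subgroup.normalizer ((R : Subgroup G) : Set G) = (P : Subgroup G) ⊓ R := P.2.inf_normalizer_sylow R
      constructor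
      · intro h6
        have h7 : (x : G) ∈ (P : Subgroup G) ⊓ Subgroup.normalizer ((R : Subgroup G) : Set G) := ⟨x.2, h6⟩
        rw [h5] at h7
        exact h7.2
      · intro h6
        exact Subgroup.le_normalizer h6
    rw [h2]
    obtain ⟨m, hm⟩ := IsPGroup.iff_card.mp P.2
    have h3 : ((R : Subgroup G).subgroupOf (P : Subgroup G)).index ∣ p ^ m := by
      rw [← hm]; exact Subgroup.index_dvd_card _
    obtain ⟨l, hl, hl'⟩ := (Nat.dvd_prime_pow hp.out).mp h3
    rw [hl'] at h1 ⊢
    have h4 : k - 1 < l := (Nat.pow_lt_pow_iff_right hp.out.one_lt).mp h1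
    exact pow_dvd_pow p (by omega)
  have h1 := Nat.card_congr (selfEquivSigmaOrbits' (P : Subgroup G) (Sylow p G))
  rw [Nat.card_sigma] at h1
  have h2 : ((Nat.card (Sylow p G) : ℕ) : ZMod (p ^ k)) = ((1 : ℕ) : ZMod (p ^ k)) := by
    rw [h1, Nat.cast_sum]
    rw [Finset.sum_eq_single (Quotient.mk'' P : orbitRel.Quotient (P : Subgroup G) (Sylow p G))]
    · have h4 : orbit (P : Subgroup G) P = {P} := by
        ext R
        rw [Set.mem_singleton_iff]
        constructor
        · rintro ⟨x, rfl⟩
          have h5 : ((x : G) • P = P) ↔ (x : G) ∈ Subgroup.normalizer ((P : Subgroup G) : Set G) := Sylow.smul_eq_iff_mem_normalizer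
          exact h5.mpr (Subgroup.le_normalizer x.2)
        · rintro rfl; exact mem_orbit_self _
      rw [orbitRel.Quotient.orbit_mk, h4]
      simp
    · intro ω _ hω
      induction ω using Quotient.inductionOn' with
      | h R =>
        have hR : P ≠ R := by
          rintro rfl; exact hω rfl
        obtain ⟨c, hc⟩ := hsize R hR
        rw [orbitRel.Quotient.orbit_mk, hc]
        simp
    · intro h; exact absurd (Finset.mem_univ _) h
  exact (ZMod.natCast_eq_natCast_iff _ _ _).mp h2

end Cfsg.Agent.S0985
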