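import Cfsg.Statements.S0992
import Mathlib
import Cfsg.Agent.LibSmallSyl
-- import your own Cfsg.Agent.* helpers here

set_option autoImplicit false
open Cfsg

namespace Cfsg.Agent.S0992

open MulAction

/-- Let G be a non-abelian finite simple group of even order not divisible by 8, and T a Sylow 2-subgroup. Then T is a Klein four-group and the centralizer of T has index 3 in the normalizer of T. -/
theorem result {G : Type*} [Group G] [Finite G] [IsSimpleGroup G] (hG : ¬ IsMulCommutative G) (h2 : Even (Nat.card G)) (h8 : ¬ 8 ∣ Nat.card G) (T : Sylow 2 G) : IsKleinFour ↥(T : Subgroup G) ∧ (Subgroup.centralizer ((T : Subgroup G) : Set G)).relIndex (Subgroup.normalizer ((T : Subgroup G) : Set G)) = 3 := by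
  classical
  haveI : Fact (Nat.Prime 2) := ⟨Nat.prime_two⟩
  have hmin : (Nat.card G).minFac = 2 := by rw [Nat.minFac_eq_two_iff]; exact h2.two_dvd
  have hnc : ¬ IsCyclic (T : Subgroup G) := by
    intro hc
    exact CfsgLib.SmallSyl.burnside hG h2.two_dvd T (IsCyclic.normalizer_le_centralizer hmin hc)
  obtain ⟨k, hk⟩ := IsPGroup.iff_card.mp T.2
  have hk' : Nat.card (T : Subgroup G) = 2 ^ k := hk
  have hk2 : k = 2 := by
    have h1 : k ≤ 2 := by
      by_contra hcon
      apply h8
      have h3 : 2 ^ 3 ∣ Nat.card (T : Subgroup G) := by rw [hk']; exact pow_dvd_pow 2 (by omega)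
      exact (by norm_num : (8 : ℕ) = 2 ^ 3) ▸ (h3.trans (Subgroup.card_subgroup_dvd_card _))
    interval_cases k
    · exfalso
      apply hnc
      have : Subsingleton (T : Subgroup G) := (Nat.card_eq_one_iff_unique.mp (by rw [hk', pow_zero])).1
      infer_instance
    · exfalso
      exact hnc (isCyclic_of_prime_card (p := 2) (by rw [hk', pow_one]))
    · rfl
  have hcard : Nat.card (T : Subgroup G) = 4 := by rw [hk', hk2]; norm_num
  have hord : ∀ x : (T : Subgroup G), x ^ 2 = 1 := by
    intro x
    have h1 : orderOf x ∣ 2 ^ 2 := by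
      have h0 := orderOf_dvd_natCard x
      rwa [hcard] at h0
    obtain ⟨j, hj, hj'⟩ := (Nat.dvd_prime_pow Nat.prime_two).mp h1
    rcases Nat.lt_or_ge j 2 with h | h
    · apply orderOf_dvd_iff_pow_eq_one.mp
      rw [hj']
      exact (pow_dvd_pow 2 (by omega : j ≤ 1)).trans (by norm_num)
    · exfalso
      apply hnc
      have hj2 : j = 2 := by omega
      apply isCyclic_of_orderOf_eq_card x
      rw [hj', hj2, hcard]; norm_num
  have hK : IsKleinFour (T : Subgroup G) := by
    constructor
    · exact hcard
    · have h1 : Monoid.exponent (T : Subgroup G) ∣ 2 := Monoid.exponent_dvd_of_forall_pow_eq_one hord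
      rcases (Nat.dvd_prime Nat.prime_two).mp h1 with h | h
      · exfalso
        rw [Monoid.exp_eq_one_iff] at h
        have : Nat.card (T : Subgroup G) ≤ 1 := Finite.card_le_one_iff_subsingleton.mpr h
        omega
      · exact h
  refine ⟨hK, ?_⟩
  set N : Subgroup G := Subgroup.normalizer ((T : Subgroup G) : Set G) with hN
  set C : Subgroup G := Subgroup.centralizer ((T : Subgroup G) : Set G) with hC
  have hTC : (T : Subgroup G) ≤ C := by
    intro x hx
    rw [hC, Subgroup.mem_centralizer_iff]
    intro y hy
    have h1 : ∀ z : (T : Subgroup G), z * z = 1 := fun z => by rw [← pow_two]; exact hord z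
    have h2 : ∀ z : (T : Subgroup G), z⁻¹ = z := fun z => inv_eq_of_mul_eq_one_left (h1 z)
    have h3 : (⟨y, hy⟩ : (T : Subgroup G)) * ⟨x, hx⟩ = ⟨x, hx⟩ * ⟨y, hy⟩ := by
      have h4 := h2 ((⟨y, hy⟩ : (T : Subgroup G)) * ⟨x, hx⟩)
      rw [mul_inv_rev, h2, h2] at h4
      exact h4.symm
    exact congrArg Subtype.val h3
  -- odd
  have hodd : ¬ 2 ∣ C.relIndex N := by
    intro h
    have h1 : C.relIndex N ∣ (T : Subgroup G).relIndex N := Subgroup.relIndex_dvd_of_le_left N hTC
    have h3 : (T : Subgroup G).relIndex N ∣ (T : Subgroup G).index := Subgroup.relIndex_dvd_index_of_le Subgroup.le_normalizer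
    exact T.not_dvd_index (h.trans (h1.trans h3))
  have h24 : C.relIndex N ∣ 24 := by
    let φ : N →* Equiv.Perm (T : Subgroup G) := (MulAut.toPerm (T : Subgroup G)).comp (T : Subgroup G).normalizerMonoidHom
    have h1 : φ.ker = C.subgroupOf N := by
      rw [← Subgroup.normalizerMonoidHom_ker]
      ext x
      rw [MonoidHom.mem_ker, MonoidHom.mem_ker]
      constructor
      · intro h
        apply MulEquiv.ext
        intro y
        exact congrArg (fun f : Equiv.Perm (T : Subgroup G) => f y) h
      · intro h
        show MulAut.toPerm (T : Subgroup G) ((T : Subgroup G).normalizerMonoidHom x) = 1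
        rw [h, map_one]
    have h3 : C.relIndex N = Nat.card φ.range := by
      rw [← Subgroup.index_ker, h1]; rfl
    rw [h3]
    have h4 := Subgroup.card_subgroup_dvd_card φ.range
    rw [Nat.card_perm, hcard] at h4
    exact h4
  have hle : C.relIndex N ≤ 24 := Nat.le_of_dvd (by norm_num) h24
  have hne : C.relIndex N ≠ 1 := by
    intro h
    rw [Subgroup.relIndex_eq_one] at h
    exact CfsgLib.SmallSyl.burnside hG h2.two_dvd T h
  generalize C.relIndex N = m at *
  interval_cases m <;> omega

end Cfsg.Agent.S0992
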