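import Mathlib
import Cfsg.Agent.LibSmallSyl
import Cfsg.Agent.LibTransPC
import Cfsg.Agent.S0985
import Cfsg.Agent.S0992

/-!
# Orders of simple groups (helper12)
-/

set_option autoImplicit false
set_option linter.style.haveILetI false
set_option linter.unusedSectionVars false

namespace CfsgLib.OrdH12

open Subgroup CfsgLib.SmallSyl

universe u

variable {G : Type u} [Group G] [Finite G]

/-- `N_G(P) ≤ C_G(P)` when `|N_G(P)|` is prime to `|Aut(P)|`. -/
theorem cent_of_coprime (P : Subgroup G) (h : Nat.Coprime (Nat.card (normalizer (P : Set G))) (Nat.card (MulAut P))) :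
    normalizer (P : Set G) ≤ centralizer (P : Set G) := by
  intro g hg
  have h1 : P.normalizerMonoidHom ⟨g, hg⟩ = 1 := by
    rw [← orderOf_eq_one_iff]
    apply Nat.eq_one_of_dvd_one
    rw [← h]
    exact Nat.dvd_gcd ((orderOf_map_dvd _ _).trans (orderOf_dvd_natCard _)) (orderOf_dvd_natCard _)
  rw [mem_centralizer_iff]
  intro x hx
  have h2 := congrArg (fun f : MulAut P => ((f ⟨x, hx⟩ : P) : G)) h1
  have h3 : g * x * g⁻¹ = x := h2
  rw [mul_inv_eq_iff_eq_mul] at h3
  exact h3.symm

theorem cent_of_coprime' (P : Subgroup G) {p : ℕ} (hp : p.Prime) (hP : Nat.card P = p)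
    (h : Nat.Coprime (Nat.card (normalizer (P : Set G))) (p - 1)) :
    normalizer (P : Set G) ≤ centralizer (P : Set G) := by
  haveI : Fact p.Prime := ⟨hp⟩
  haveI : IsCyclic P := isCyclic_of_prime_card hP
  apply cent_of_coprime
  rw [IsCyclic.card_mulAut, hP, Nat.totient_prime hp]
  exact h

theorem notComm [IsSimpleGroup G] (h : ¬ (Nat.card G).Prime) : ¬ IsMulCommutative G := by
  intro hc
  apply h
  haveI := hc
  letI : CommGroup G := { (inferInstance : Group G) with mul_comm := fun a b => hc.is_comm.comm a b }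
  haveI : IsSimpleGroup G := inferInstance
  exact IsSimpleGroup.prime_card (α := G)

theorem s0994 [IsSimpleGroup G] : Nat.card G ≠ 1188 := by
  intro hG
  have hnc : ¬ IsMulCommutative G := notComm (by rw [hG]; norm_num)
  haveI : Fact (Nat.Prime 11) := ⟨by norm_num⟩
  have hdvd : 11 ∣ Nat.card G := by rw [hG]; norm_num
  have h1 := one_lt_card_sylow hnc hdvd
  have h2 := card_sylow_dvd (p := 11) (n := 1) (m := 108) (G := G) (by rw [hG]; norm_num) (by norm_num)
  have h3 : Nat.card (Sylow 11 G) ≡ 1 [MOD 11] := card_sylow_modEq_one 11 G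
  let P : Sylow 11 G := default
  have h4 := card_normalizer_mul P
  have h5 : Nat.card (Sylow 11 G) = 12 := by
    have h6 : Nat.card (Sylow 11 G) ∈ Nat.divisors 108 := Nat.mem_divisors.2 ⟨h2, by norm_num⟩
    rw [show Nat.divisors 108 = {1, 2, 3, 4, 6, 9, 12, 18, 27, 36, 54, 108} from by decide +kernel] at h6
    simp only [Finset.mem_insert, Finset.mem_singleton] at h6
    unfold Nat.ModEq at h3
    omega
  have h6 : Nat.card (normalizer ((P : Subgroup G) : Set G)) = 99 := by
    rw [h5, hG] at h4; omega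
  have hP : Nat.card (P : Subgroup G) = 11 := by
    have := card_sylow (p := 11) (n := 1) (m := 108) (G := G) (by rw [hG]; norm_num) (by norm_num) P
    rw [this, pow_one]
  exact burnside hnc hdvd P (cent_of_coprime' _ (by norm_num) hP (by rw [h6]; norm_num))

theorem s1015 [IsSimpleGroup G] : Nat.card G ≠ 1200 := by
  intro hG
  have hnc : ¬ IsMulCommutative G := notComm (by rw [hG]; norm_num)
  haveI : Fact (Nat.Prime 5) := ⟨by norm_num⟩
  have hdvd : 5 ∣ Nat.card G := by rw [hG]; norm_num
  have h1 := one_lt_card_sylow hnc hdvd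
  have h2 := card_sylow_dvd (p := 5) (n := 2) (m := 48) (G := G) (by rw [hG]; norm_num) (by norm_num)
  have h3 : Nat.card (Sylow 5 G) ≡ 1 [MOD 5] := card_sylow_modEq_one 5 G
  have hcP : ∀ P : Sylow 5 G, Nat.card (P : Subgroup G) = 25 := by
    intro P
    have := card_sylow (p := 5) (n := 2) (m := 48) (G := G) (by rw [hG]; norm_num) (by norm_num) P
    rw [this]; norm_num
  have h4 : Nat.card (Sylow 5 G) = 6 ∨ Nat.card (Sylow 5 G) = 16 := by
    have h6 : Nat.card (Sylow 5 G) ∈ Nat.divisors 48 := Nat.mem_divisors.2 ⟨h2, by norm_num⟩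
    rw [show Nat.divisors 48 = {1, 2, 3, 4, 6, 8, 12, 16, 24, 48} from by decide +kernel] at h6
    simp only [Finset.mem_insert, Finset.mem_singleton] at h6
    unfold Nat.ModEq at h3
    omega
  obtain ⟨P, R, hPR, hidx⟩ := Cfsg.Agent.S0985.result (G := G) 5 2 (by
    unfold Nat.ModEq
    rcases h4 with h | h <;> rw [h] <;> norm_num)
  set D := (P : Subgroup G) ⊓ (R : Subgroup G) with hD
  have hDP : Nat.card D * ((R : Subgroup G).subgroupOf (P : Subgroup G)).index = 25 := by
    rw [← hcP P]
    have h5 := ((R : Subgroup G).subgroupOf (P : Subgroup G)).card_mul_index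
    have h6 : Nat.card ((R : Subgroup G).subgroupOf (P : Subgroup G)) = Nat.card D := by
      rw [← Subgroup.card_map_of_injective (P : Subgroup G).subtype_injective, Subgroup.subgroupOf_map_subtype, inf_comm]
    rw [← h6]; exact h5
  have hDne : D ≠ ⊥ := by
    intro h
    rw [h, Subgroup.card_bot, one_mul] at hDP
    norm_num at hidx
    omega
  have hPcomm : ∀ Q : Sylow 5 G, ∀ a ∈ (Q : Subgroup G), ∀ b ∈ (Q : Subgroup G), a * b = b * a := by
    intro Q a ha b hb
    have h5 := IsPGroup.commutative_of_card_eq_prime_sq (G := (Q : Subgroup G)) (p := 5) (by rw [hcP Q]; norm_num) ⟨a, ha⟩ ⟨b, hb⟩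
    exact congrArg Subtype.val h5
  set H := normalizer (D : Set G) with hH
  have hle : ∀ Q : Sylow 5 G, D ≤ Q → (Q : Subgroup G) ≤ H := by
    intro Q hDQ a ha
    rw [hH, mem_normalizer_iff]
    intro x
    constructor
    · intro hx
      have : a * x * a⁻¹ = x := by rw [hPcomm Q a ha x (hDQ hx), mul_inv_cancel_right]
      rwa [this]
    · intro hx
      have h5 := hPcomm Q a⁻¹ (inv_mem ha) _ (hDQ hx)
      have h6 : x = a⁻¹ * (a * x * a⁻¹) * a := by group
      rw [h6, h5]
      have h7 : a * x * a⁻¹ * a⁻¹ * a = a * x * a⁻¹ := by group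
      rwa [h7]
  have hPH := hle P inf_le_left
  have hRH := hle R inf_le_right
  have hHtop : H ≠ ⊤ := by
    intro h
    haveI : D.Normal := normalizer_eq_top_iff.1 h
    rcases (inferInstance : D.Normal).eq_bot_or_eq_top with h5 | h5
    · exact hDne h5
    · have h6 : (P : Subgroup G) = ⊤ := by rw [eq_top_iff, ← h5]; exact inf_le_left
      have h7 := hcP P
      rw [h6, Subgroup.card_top, hG] at h7
      omega
  have hfac := card_dvd_factorial hnc H hHtop
  rw [hG] at hfac
  have hmul := H.card_mul_index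
  rw [hG] at hmul
  have h25 : 25 ∣ Nat.card H := by rw [← hcP P]; exact Subgroup.card_dvd_of_le hPH
  obtain ⟨m, hm⟩ := h25
  have hidx10 : 10 ≤ H.index := by
    by_contra hcon
    have h5 : H.index ≤ 9 := by omega
    have h6 : H.index.factorial ∣ (9 : ℕ).factorial := Nat.factorial_dvd_factorial h5
    have h7 := hfac.trans h6
    rw [show (9 : ℕ).factorial = 362880 from rfl] at h7
    omega
  have hm4 : m ≤ 4 := by
    rw [hm] at hmul
    by_contra hcon
    have h5 : 5 * 10 ≤ m * H.index := Nat.mul_le_mul (by omega) hidx10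
    have h6 : 25 * (m * H.index) = 1200 := by rw [← mul_assoc]; exact hmul
    omega
  have hm0 : m ≠ 0 := by
    rintro rfl
    rw [hm] at hmul
    omega
  have h5m : ¬ 5 ∣ m := by omega
  have hn1 := card_sylow_dvd (p := 5) (n := 2) (m := m) (G := H) (by rw [hm]; norm_num) h5m
  have hn2 : Nat.card (Sylow 5 H) ≡ 1 [MOD 5] := card_sylow_modEq_one 5 H
  have hn3 : Nat.card (Sylow 5 H) = 1 := by
    have := Nat.le_of_dvd (by omega) hn1
    have h8 : 0 < Nat.card (Sylow 5 H) := Nat.card_pos
    unfold Nat.ModEq at hn2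
    omega
  haveI : Subsingleton (Sylow 5 H) := (Nat.card_eq_one_iff_unique.1 hn3).1
  have h9 : (P.subtype hPH : Sylow 5 H) = R.subtype hRH := Subsingleton.elim _ _
  have h10 := congrArg (fun Q : Sylow 5 H => (Q : Subgroup H).map H.subtype) h9
  simp only [Sylow.coe_subtype] at h10
  rw [Subgroup.map_subgroupOf_eq_of_le hPH, Subgroup.map_subgroupOf_eq_of_le hRH] at h10
  exact hPR (Sylow.ext h10)

/-- sign of an involution with two fixed points on 24 points -/
theorem sign_inv {α : Type*} [Fintype α] [DecidableEq α] (σ : Equiv.Perm α) (h2 : σ ^ 2 = 1) (h1 : σ ≠ 1)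
    (k : ℕ) (hk : σ.support.card = 2 * k) (hodd : Odd k) : Equiv.Perm.sign σ = -1 := by
  have ho : orderOf σ = 2 := orderOf_eq_prime h2 h1
  obtain ⟨n, hn⟩ := Equiv.Perm.cycleType_prime_order (σ := σ) (by rw [ho]; exact Nat.prime_two)
  rw [ho] at hn
  have hs := σ.sum_cycleType
  rw [hn, Multiset.sum_replicate, hk, smul_eq_mul] at hs
  have hnk : n + 1 = k := by omega
  rw [Equiv.Perm.sign_of_cycleType, hn, Multiset.sum_replicate, Multiset.card_replicate, smul_eq_mul, hnk]
  apply Odd.neg_one_pow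
  rw [mul_comm]
  exact (even_two_mul k).add_odd hodd

theorem s1014 [IsSimpleGroup G] : Nat.card G ≠ 1104 := by
  classical
  intro hG
  have hnc : ¬ IsMulCommutative G := notComm (by rw [hG]; norm_num)
  haveI : Fact (Nat.Prime 23) := ⟨by norm_num⟩
  have hdvd : 23 ∣ Nat.card G := by rw [hG]; norm_num
  have h1 := one_lt_card_sylow hnc hdvd
  have h2 := card_sylow_dvd (p := 23) (n := 1) (m := 48) (G := G) (by rw [hG]; norm_num) (by norm_num)
  have h3 : Nat.card (Sylow 23 G) ≡ 1 [MOD 23] := card_sylow_modEq_one 23 G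
  have hcP : ∀ P : Sylow 23 G, Nat.card (P : Subgroup G) = 23 := by
    intro P
    have := card_sylow (p := 23) (n := 1) (m := 48) (G := G) (by rw [hG]; norm_num) (by norm_num) P
    rw [this]; norm_num
  have h5 : Nat.card (Sylow 23 G) = 24 := by
    have h6 : Nat.card (Sylow 23 G) ∈ Nat.divisors 48 := Nat.mem_divisors.2 ⟨h2, by norm_num⟩
    rw [show Nat.divisors 48 = {1, 2, 3, 4, 6, 8, 12, 16, 24, 48} from by decide +kernel] at h6
    simp only [Finset.mem_insert, Finset.mem_singleton] at h6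
    unfold Nat.ModEq at h3
    omega
  let P : Sylow 23 G := default
  have h4 := card_normalizer_mul P
  have h6 : Nat.card (normalizer ((P : Subgroup G) : Set G)) = 46 := by
    rw [h5, hG] at h4; omega
  haveI : Fact (Nat.Prime 2) := ⟨Nat.prime_two⟩
  obtain ⟨t0, ht0⟩ := exists_prime_orderOf_dvd_card' (G := normalizer ((P : Subgroup G) : Set G)) 2 (by rw [h6]; norm_num)
  obtain ⟨t, htP, ht2⟩ : ∃ t : G, t ∈ normalizer ((P : Subgroup G) : Set G) ∧ orderOf t = 2 :=
    ⟨t0, t0.2, by rw [Subgroup.orderOf_coe, ht0]⟩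
  let ρ : G →* Equiv.Perm (Sylow 23 G) := MulAction.toPermHom G (Sylow 23 G)
  have hρ : ∀ g (Q : Sylow 23 G), ρ g Q = g • Q := fun _ _ => rfl
  have hker : ρ.ker = ⊥ := by
    rcases (inferInstance : ρ.ker.Normal).eq_bot_or_eq_top with h | h
    · exact h
    · exfalso
      have h7 : normalizer ((P : Subgroup G) : Set G) = ⊤ := by
        rw [eq_top_iff]
        intro g _
        have h8 : g ∈ ρ.ker := by rw [h]; exact mem_top _
        have h9 : ρ g P = P := by rw [MonoidHom.mem_ker.1 h8]; rfl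
        exact Sylow.smul_eq_iff_mem_normalizer.1 h9
      rw [h7, Subgroup.card_top, hG] at h6
      omega
  have hσ1 : ρ t ≠ 1 := by
    intro h
    have h7 : t ∈ ρ.ker := h
    rw [hker, Subgroup.mem_bot] at h7
    rw [h7, orderOf_one] at ht2
    omega
  have hσ2 : (ρ t) ^ 2 = 1 := by
    rw [← map_pow, ← ht2, pow_orderOf_eq_one, map_one]
  letI : Fintype (Sylow 23 G) := Fintype.ofFinite _
  have hc24 : Fintype.card (Sylow 23 G) = 24 := by rw [← Nat.card_eq_fintype_card, h5]
  -- fixed points
  have hPfix : ρ t P = P := Sylow.smul_eq_iff_mem_normalizer.2 htP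
  have hcy : ∀ x ∈ (P : Subgroup G), x ≠ 1 → zpowers x = P := by
    intro x hx hx1
    refine Subgroup.eq_of_le_of_card_ge (by rw [zpowers_le]; exact hx) ?_
    have h7 : Nat.card (zpowers x) ∣ 23 := by
      rw [← hcP P]; exact Subgroup.card_dvd_of_le (by rw [zpowers_le]; exact hx)
    rcases (Nat.dvd_prime (by norm_num)).1 h7 with h8 | h8
    · rw [Subgroup.card_eq_one, zpowers_eq_bot] at h8
      exact absurd h8 hx1
    · rw [h8, hcP P]
  have htrivial : ∀ Q : Sylow 23 G, Q ≠ P → ∀ x ∈ (P : Subgroup G), x • Q = Q → x = 1 := by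
    intro Q hQ x hx hxQ
    by_contra hx1
    have h7 := hcy x hx hx1
    have h8 : (P : Subgroup G) ≤ normalizer ((Q : Subgroup G) : Set G) := by
      rw [← h7, zpowers_le]
      exact Sylow.smul_eq_iff_mem_normalizer.1 hxQ
    have h9 : (P : Subgroup G) ⊔ Q ≤ normalizer ((Q : Subgroup G) : Set G) := sup_le h8 Subgroup.le_normalizer
    have h10 : IsPGroup 23 ((P : Subgroup G) ⊔ Q : Subgroup G) := P.isPGroup'.to_sup_of_normal_right' Q.isPGroup' h8
    have h11 := P.is_maximal' h10 le_sup_left
    have h12 : (Q : Subgroup G) ≤ P := by rw [← h11]; exact le_sup_right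
    exact hQ (Sylow.ext (Subgroup.eq_of_le_of_card_ge h12 (by rw [hcP, hcP])))
  have htrans : ∀ Q Q' : Sylow 23 G, Q ≠ P → Q' ≠ P → ∃ x ∈ (P : Subgroup G), x • Q = Q' := by
    intro Q Q' hQ hQ'
    have hinj : Function.Injective (fun x : (P : Subgroup G) => (⟨(x : G) • Q, fun h => hQ (by
        have h7 : (x : G)⁻¹ • ((x : G) • Q) = (x : G)⁻¹ • P := by rw [h]
        rw [inv_smul_smul] at h7
        rw [h7]
        exact Sylow.smul_eq_iff_mem_normalizer.2 (Subgroup.le_normalizer (inv_mem x.2)))⟩ : {R : Sylow 23 G // R ≠ P})) := by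
      intro x y hxy
      have h7 : (x : G) • Q = (y : G) • Q := congrArg Subtype.val hxy
      have h8 : ((y : G)⁻¹ * x) • Q = Q := by rw [mul_smul, h7, inv_smul_smul]
      have h9 := htrivial Q hQ _ (mul_mem (inv_mem y.2) x.2) h8
      exact Subtype.ext (inv_mul_eq_one.1 h9).symm
    have hcard : Nat.card (P : Subgroup G) = Nat.card {R : Sylow 23 G // R ≠ P} := by
      rw [hcP, Nat.card_eq_fintype_card, Fintype.card_subtype_compl, hc24]
      simp
    obtain ⟨x, hx⟩ := (hinj.bijective_of_nat_card_le hcard.ge).2 ⟨Q', hQ'⟩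
    exact ⟨x, x.2, congrArg Subtype.val hx⟩
  have heven : Even (Fintype.card (Sylow 23 G) - (ρ t).support.card) := by
    obtain ⟨n, hn⟩ := Equiv.Perm.cycleType_prime_order (σ := ρ t) (by rw [orderOf_eq_prime hσ2 hσ1]; exact Nat.prime_two)
    rw [orderOf_eq_prime hσ2 hσ1] at hn
    have hs := (ρ t).sum_cycleType
    rw [hn, Multiset.sum_replicate, smul_eq_mul] at hs
    have h7 := (ρ t).support.card_le_univ
    rw [hc24] at h7 ⊢
    rw [← hs]
    rw [Nat.even_iff]
    omega
  have hfixle : ∀ Q Q' : Sylow 23 G, Q ≠ P → Q' ≠ P → ρ t Q = Q → ρ t Q' = Q' → Q = Q' := by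
    intro Q Q' hQ hQ' hf hf'
    by_contra hne
    obtain ⟨x, hx, hxQ⟩ := htrans Q Q' hQ hQ'
    have hx1 : x ≠ 1 := by
      rintro rfl
      rw [one_smul] at hxQ
      exact hne hxQ
    -- t commutes with x
    have h7 : t * x * t⁻¹ ∈ (P : Subgroup G) := (mem_normalizer_iff.1 htP x).1 hx
    have h8 : (x⁻¹ * (t * x * t⁻¹)) • Q = Q := by
      have e1 : t⁻¹ • Q = Q := by
        have : t • Q = Q := hf
        rw [inv_smul_eq_iff, this]
      rw [mul_smul, mul_smul, mul_smul, e1, hxQ]
      have e2 : t • Q' = Q' := hf'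
      rw [e2, ← hxQ, inv_smul_smul]
    have h9 := htrivial Q hQ _ (mul_mem (inv_mem hx) h7) h8
    have h10 : t * x = x * t := by
      rw [inv_mul_eq_one] at h9
      calc t * x = (t * x * t⁻¹) * t := by group
        _ = x * t := by rw [← h9]
    -- t centralises P
    have h11 : ∀ y ∈ (P : Subgroup G), t * y = y * t := by
      intro y hy
      rw [← hcy x hx hx1] at hy
      obtain ⟨k, rfl⟩ := hy
      exact (Commute.zpow_right (show Commute t x from h10) k).eq
    apply hσ1
    ext1 R
    by_cases hR : R = P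
    · rw [hR, hPfix]; rfl
    · obtain ⟨y, hy, hyQ⟩ := htrans Q R hQ hR
      have : t • R = R := by
        rw [← hyQ, ← mul_smul, h11 y hy, mul_smul]
        have : t • Q = Q := hf
        rw [this]
      exact this
  have hsupp : (ρ t).support.card = 22 := by
    have h7 : (ρ t).supportᶜ.card = 24 - (ρ t).support.card := by rw [Finset.card_compl, hc24]
    have h8 : (ρ t).supportᶜ.card ≤ 2 := by
      have h9 : (((ρ t).supportᶜ).erase P).card ≤ 1 := by
        rw [Finset.card_le_one]
        intro a ha b hb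
        rw [Finset.mem_erase, Finset.mem_compl, Equiv.Perm.notMem_support] at ha hb
        exact hfixle a b ha.1 hb.1 ha.2 hb.2
      have h10 := Finset.pred_card_le_card_erase (s := (ρ t).supportᶜ) (a := P)
      omega
    have h9 : 0 < (ρ t).supportᶜ.card := by
      apply Finset.card_pos.2
      exact ⟨P, by rw [Finset.mem_compl, Equiv.Perm.notMem_support]; exact hPfix⟩
    rw [hc24, Nat.even_iff] at heven
    omega
  have hsign := sign_inv (ρ t) hσ2 hσ1 11 hsupp (by decide)
  let ψ : G →* ℤˣ := Equiv.Perm.sign.comp ρ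
  have hψt : ψ t = -1 := hsign
  rcases (inferInstance : ψ.ker.Normal).eq_bot_or_eq_top with h | h
  · apply hnc
    refine ⟨⟨fun a b => ?_⟩⟩
    apply (MonoidHom.ker_eq_bot_iff ψ).1 h
    rw [map_mul, map_mul, mul_comm]
  · have h7 : t ∈ ψ.ker := by rw [h]; exact mem_top _
    rw [MonoidHom.mem_ker, hψt] at h7
    exact absurd h7 (by decide)

/-- automorphisms of odd prime order of groups of order at most 8 -/
theorem odd_aut {Q : Type*} [Group Q] [Finite Q] (hQ2 : IsPGroup 2 Q) (h8 : Nat.card Q ≤ 8) (σ : MulAut Q) {r : ℕ} (hr : r.Prime)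
    (hr2 : r ≠ 2) (hσ : orderOf σ = r) : r = 3 ∨ (r = 7 ∧ Nat.card Q = 8) := by
  haveI : Fact r.Prime := ⟨hr⟩
  haveI : Fact (Nat.Prime 2) := ⟨Nat.prime_two⟩
  haveI : Finite (MulAut Q) := inferInstance
  have hz : IsPGroup r (Subgroup.zpowers σ) := IsPGroup.of_card (n := 1) (by rw [Nat.card_zpowers, hσ, pow_one])
  have hmod := hz.card_modEq_card_fixedPoints Q
  let F : Subgroup Q := (σ : MulAut Q).toMonoidHom.eqLocus (MonoidHom.id Q)
  have hF : ∀ x, x ∈ F ↔ σ x = x := fun x => Iff.rfl
  have hfix : MulAction.fixedPoints (Subgroup.zpowers σ) Q = (F : Set Q) := by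
    ext x
    rw [MulAction.mem_fixedPoints, SetLike.mem_coe, hF]
    constructor
    · intro h
      exact h ⟨σ, Subgroup.mem_zpowers σ⟩
    · rintro h ⟨_, k, rfl⟩
      change (σ ^ k) x = x
      have h1 : σ ∈ MulAction.stabilizer (MulAut Q) x := h
      have h2 : σ ^ k ∈ MulAction.stabilizer (MulAut Q) x := zpow_mem h1 k
      exact h2
  rw [hfix] at hmod
  have hFtop : F ≠ ⊤ := by
    intro h
    have h1 : σ = 1 := by
      ext x
      have : x ∈ F := by rw [h]; exact Subgroup.mem_top _
      exact this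
    rw [h1, orderOf_one] at hσ
    exact hr.one_lt.ne hσ
  have hmod' : Nat.card Q ≡ Nat.card F [MOD r] := hmod
  have hlt : Nat.card F < Nat.card Q := by
    rcases lt_or_ge (Nat.card F) (Nat.card Q) with h | h
    · exact h
    · exact absurd (Subgroup.eq_top_of_le_card F h) hFtop
  obtain ⟨a, ha⟩ := IsPGroup.iff_card.1 hQ2
  obtain ⟨b, hb⟩ := IsPGroup.iff_card.1 (hQ2.to_subgroup F)
  have hdv : r ∣ Nat.card Q - Nat.card F := (Nat.modEq_iff_dvd' hlt.le).1 hmod'.symm
  rw [ha, hb] at hlt hdv
  rw [ha] at h8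
  have ha3 : a ≤ 3 := by
    by_contra hcon
    have : 2 ^ 4 ≤ 2 ^ a := Nat.pow_le_pow_right (by norm_num) (by omega)
    omega
  have hba : b < a := (Nat.pow_lt_pow_iff_right (by norm_num)).1 hlt
  have hcase : ∀ m : ℕ, r ∣ 2 ^ m → False := by
    intro m hm
    exact hr2 ((Nat.prime_dvd_prime_iff_eq hr Nat.prime_two).1 (hr.dvd_of_dvd_pow hm))
  have h3 : r ∣ 3 → r = 3 := fun h => (Nat.prime_dvd_prime_iff_eq hr Nat.prime_three).1 h
  have h7 : r ∣ 7 → r = 7 := fun h => (Nat.prime_dvd_prime_iff_eq hr (by norm_num)).1 h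
  interval_cases a
  · omega
  · interval_cases b
    · exact absurd (hcase 0 (by simpa using hdv)) id
  · interval_cases b
    · left; exact h3 (by simpa using hdv)
    · exact absurd (hcase 1 (by simpa using hdv)) id
  · interval_cases b
    · right; exact ⟨h7 (by simpa using hdv), by rw [ha]; norm_num⟩
    · left
      have h6 : r ∣ 2 * 3 := by simpa using hdv
      rcases hr.dvd_mul.1 h6 with h | h
      · exact absurd (hcase 1 (by simpa using h)) id
      · exact h3 h
    · exact absurd (hcase 2 (by simpa using hdv)) id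

theorem s0499 [IsSimpleGroup G] (hG : ¬ IsMulCommutative G) (h2 : Even (Nat.card G)) :
    12 ∣ Nat.card G ∨ 16 ∣ Nat.card G ∨ 56 ∣ Nat.card G := by
  haveI : Fact (Nat.Prime 2) := ⟨Nat.prime_two⟩
  let P : Sylow 2 G := default
  by_cases h8 : 8 ∣ Nat.card G
  · by_cases h16 : 16 ∣ Nat.card G
    · exact Or.inr (Or.inl h16)
    by_cases h3 : 3 ∣ Nat.card G
    · left
      omega
    by_cases h7 : 7 ∣ Nat.card G
    · right; right
      omega
    exfalso
    have hcP : Nat.card (P : Subgroup G) ≤ 8 := by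
      obtain ⟨k, hk⟩ := IsPGroup.iff_card.1 P.isPGroup'
      have h4 : Nat.card (P : Subgroup G) ∣ Nat.card G := Subgroup.card_subgroup_dvd_card _
      rw [hk] at h4 ⊢
      by_contra hcon
      have hk4 : 4 ≤ k := by
        by_contra hk4
        have : 2 ^ k ≤ 2 ^ 3 := Nat.pow_le_pow_right (by norm_num) (by omega)
        omega
      exact h16 ((pow_dvd_pow 2 hk4).trans h4)
    have hN : ∃ N : Subgroup G, CfsgLib.TransPC.IsNPC 2 N := by
      rw [CfsgLib.TransPC.frobenius_iff P]
      intro Q hQP g hg ho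
      by_contra hcon
      set σ := Q.normalizerMonoidHom ⟨g, hg⟩ with hσ
      have hσ1 : σ ≠ 1 := by
        intro h
        apply hcon
        rw [mem_centralizer_iff]
        intro x hx
        have h2 := congrArg (fun f : MulAut Q => ((f ⟨x, hx⟩ : Q) : G)) h
        have h3 : g * x * g⁻¹ = x := h2
        rw [mul_inv_eq_iff_eq_mul] at h3
        exact h3.symm
      have hord : orderOf σ ≠ 1 := fun h => hσ1 (orderOf_eq_one_iff.1 h)
      set r := (orderOf σ).minFac with hr
      have hrp : r.Prime := Nat.minFac_prime hord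
      have hrd : r ∣ orderOf σ := Nat.minFac_dvd _
      have hrg : r ∣ orderOf g := by
        refine hrd.trans ?_
        have h5 := orderOf_map_dvd (Q.normalizerMonoidHom) (⟨g, hg⟩ : normalizer (Q : Set G))
        rwa [Subgroup.orderOf_mk] at h5
      have hrG : r ∣ Nat.card G := hrg.trans (orderOf_dvd_natCard g)
      have hr2 : r ≠ 2 := by
        intro h5
        rw [h5] at hrg
        have := Nat.dvd_gcd hrg (dvd_refl 2)
        rw [Nat.Coprime.gcd_eq_one ho] at this
        omega
      have hτ : orderOf (σ ^ (orderOf σ / r)) = r := orderOf_pow_orderOf_div (orderOf_pos σ).ne' hrd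
      have hQp : IsPGroup 2 Q := P.isPGroup'.to_le hQP
      have hQ8 : Nat.card Q ≤ 8 := (Subgroup.card_le_of_le hQP).trans hcP
      rcases odd_aut hQp hQ8 _ hrp hr2 hτ with h5 | ⟨h5, _⟩
      · exact h3 (h5 ▸ hrG)
      · exact h7 (h5 ▸ hrG)
    obtain ⟨N, hN⟩ := hN
    have hcomp := hN.isComplement' P
    have hNn := hN.normal
    rcases hNn.eq_bot_or_eq_top with h | h
    · rw [h] at hcomp
      have h5 := Subgroup.isComplement'_bot_left.1 hcomp
      have h6 := one_lt_card_sylow hG (even_iff_two_dvd.1 h2)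
      have h7 := card_one_of_normal P (by rw [h5]; infer_instance)
      omega
    · rw [h] at hcomp
      have h5 := Subgroup.isComplement'_top_left.1 hcomp
      have h6 : 2 ∣ Nat.card (P : Subgroup G) := P.dvd_card_of_dvd_card (even_iff_two_dvd.1 h2)
      rw [h5, Subgroup.card_bot] at h6
      omega
  · left
    obtain ⟨h5, h6⟩ := Cfsg.Agent.S0992.result hG h2 h8 P
    have h7 : 4 ∣ Nat.card G := by
      have h9 := h5.card_four
      rw [← h9]
      exact Subgroup.card_subgroup_dvd_card _
    have h8 : 3 ∣ Nat.card G := by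
      rw [← h6]
      exact (Subgroup.relIndex_dvd_card _ _).trans (Subgroup.card_subgroup_dvd_card _)
    omega

end CfsgLib.OrdH12
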