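import Mathlib

set_option autoImplicit false

/-! Normalising an automorphism on a chain `x, y, s` (seat helper15). -/

namespace CfsgLib.OutM

open Subgroup

theorem zpow_mem_of_coprime {G : Type*} [Group G] {x : G} {p : ℕ} (hx : x ^ p = 1) {k : ℤ} (hk : IsCoprime k (p : ℤ)) :
    ∃ j : ℤ, x = (x ^ k) ^ j := by
  obtain ⟨a, b, h⟩ := hk
  refine ⟨a, ?_⟩
  rw [← zpow_mul]
  conv_lhs => rw [← zpow_one x, ← h, zpow_add, mul_comm b, zpow_mul x (p : ℤ) b, zpow_natCast, hx, one_zpow, mul_one]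
  rw [mul_comm]

open scoped Classical in
theorem aut_norm {G : Type*} [Group G] [Finite G] {p e : ℕ} [Fact p.Prime] {x y s : G} {r m : ℤ}
    (hx : orderOf x = p) (hcard : ¬ p ^ 2 ∣ Nat.card G)
    (hcx : ∀ c : G, c * x = x * c → c ∈ zpowers x)
    (hyx : y * x * y⁻¹ = x ^ r) (hr : IsCoprime (1 - r) (p : ℤ))
    (Z : Set G) (hcy : ∀ c : G, c * y = y * c → ∃ i : ℤ, ∃ z ∈ Z, c = y ^ i * z)
    (hzy : ∀ z ∈ Z, z * y = y * z)
    (hsy : s * y * s⁻¹ = y ^ m) (hy : y ^ e = 1) (hm : IsCoprime (1 - m) (e : ℤ))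
    (α : MulAut G) : ∃ g : G, ∃ k : ℕ, k < p ∧ k ≠ 0 ∧ ∃ z ∈ Z, (g * α x * g⁻¹ = x ^ k) ∧ (g * α y * g⁻¹ = y) ∧
      (g * α s * g⁻¹ = s * z) := by
  have hp : p.Prime := Fact.out
  have hxp : x ^ p = 1 := by rw [← hx]; exact pow_orderOf_eq_one x
  have hx1 : x ≠ 1 := by
    intro h; rw [h, orderOf_one] at hx; exact hp.one_lt.ne hx
  have hfac : (Nat.card G).factorization p = 1 := by
    have h1 : p ∣ Nat.card G := hx ▸ orderOf_dvd_natCard x
    have hne : Nat.card G ≠ 0 := Nat.card_pos.ne'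
    have h2 : 1 ≤ (Nat.card G).factorization p := (hp.dvd_iff_one_le_factorization hne).1 h1
    by_contra hcon
    apply hcard
    rw [hp.pow_dvd_iff_le_factorization hne]; omega
  have ho : orderOf (α x) = p := by rw [← hx]; exact orderOf_injective α.toMonoidHom α.injective x
  let Q1 : Sylow p G := Sylow.ofCard (zpowers x) (by rw [hfac, pow_one, Nat.card_zpowers, hx])
  let Q2 : Sylow p G := Sylow.ofCard (zpowers (α x)) (by rw [hfac, pow_one, Nat.card_zpowers, ho])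
  obtain ⟨g1, hg1⟩ := MulAction.exists_smul_eq G Q2 Q1
  have h1 : g1 * α x * g1⁻¹ ∈ zpowers x := by
    have : g1 * α x * g1⁻¹ ∈ (g1 • Q2 : Sylow p G) := by
      rw [Sylow.smul_def]
      have h2 : α x ∈ (Q2 : Subgroup G) := mem_zpowers _
      exact (Subgroup.smul_mem_pointwise_smul (α x) (MulAut.conj g1) (Q2 : Subgroup G) h2)
    rw [hg1] at this
    exact this
  obtain ⟨k, hk⟩ := mem_zpowers_iff.1 h1
  -- k is prime to p
  have hcop : ∀ j : ℤ, x ^ j ≠ 1 → IsCoprime j (p : ℤ) := by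
    intro j hj
    rw [isCoprime_comm]
    apply (Prime.coprime_iff_not_dvd (Nat.prime_iff_prime_int.1 hp)).2
    intro hd
    apply hj
    rw [← orderOf_dvd_iff_zpow_eq_one, hx]; exact hd
  have hkc : IsCoprime k (p : ℤ) := by
    apply hcop
    rw [hk]
    intro h
    rw [mul_inv_eq_one, mul_eq_left] at h
    apply hx1
    exact α.injective (h.trans (map_one α).symm)
  have hrc : IsCoprime r (p : ℤ) := by
    apply hcop
    rw [← hyx]
    intro h
    rw [mul_inv_eq_one, mul_eq_left] at h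
    exact hx1 h
  -- commuting with a coprime power
  have hcomm : ∀ (c : G) (j : ℤ), IsCoprime j (p : ℤ) → c * x ^ j = x ^ j * c → c ∈ zpowers x := by
    intro c j hj h
    apply hcx
    obtain ⟨t, ht⟩ := zpow_mem_of_coprime hxp hj
    have : Commute c (x ^ j) := h
    rw [ht]
    exact (this.zpow_right t)
  have hyz : ∀ j : ℤ, y * x ^ j * y⁻¹ = x ^ (r * j) := by
    intro j
    rw [← conj_zpow, hyx, zpow_mul]
  -- step 2
  have h2 : (g1 * α y * g1⁻¹) * y⁻¹ ∈ zpowers x := by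
    apply hcomm _ (r * k) (hrc.mul_left hkc)
    have e1 : (g1 * α y * g1⁻¹) * x ^ k * (g1 * α y * g1⁻¹)⁻¹ = x ^ (r * k) := by
      rw [hk]
      have : (g1 * α y * g1⁻¹) * (g1 * α x * g1⁻¹) * (g1 * α y * g1⁻¹)⁻¹ = g1 * α (y * x * y⁻¹) * g1⁻¹ := by
        rw [map_mul, map_mul, map_inv]; group
      rw [this, hyx, map_zpow]
      rw [← conj_zpow, ← hk, ← zpow_mul, mul_comm]
    have e2 := hyz k
    have e3 : (g1 * α y * g1⁻¹) * y⁻¹ * x ^ (r * k) = (g1 * α y * g1⁻¹) * y⁻¹ * (y * x ^ k * y⁻¹) := by rw [e2]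
    rw [e3, ← e1]; group
  obtain ⟨i, hi⟩ := mem_zpowers_iff.1 h2
  obtain ⟨u, v, huv⟩ := hr
  -- b = -i u : b (1 - r) + i = i v p
  have hb : x ^ (-i * u) * (g1 * α y * g1⁻¹) * (x ^ (-i * u))⁻¹ = y := by
    have e1 : g1 * α y * g1⁻¹ = x ^ i * y := by rw [hi]; group
    rw [e1]
    have e2 : x ^ (-i * u) * (x ^ i * y) * (x ^ (-i * u))⁻¹ = x ^ (-i * u) * x ^ i * (y * x ^ (i * u) * y⁻¹) * y := by
      rw [← zpow_neg]
      have : -(-i * u) = i * u := by ring
      rw [this]; group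
    rw [e2, hyz, ← zpow_add, ← zpow_add]
    have e3 : -i * u + i + r * (i * u) = (p : ℤ) * (i * v) := by
      linear_combination (-i) * huv
    rw [e3, zpow_mul, zpow_natCast, hxp, one_zpow, one_mul]
  set g2 : G := x ^ (-i * u) * g1 with hg2
  have hx2 : g2 * α x * g2⁻¹ ∈ zpowers x := by
    have : g2 * α x * g2⁻¹ = x ^ (-i * u) * (g1 * α x * g1⁻¹) * (x ^ (-i * u))⁻¹ := by rw [hg2]; group
    rw [this]
    exact Subgroup.mul_mem _ (Subgroup.mul_mem _ (zpow_mem (mem_zpowers x) _) h1) (Subgroup.inv_mem _ (zpow_mem (mem_zpowers x) _))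
  have hy2 : g2 * α y * g2⁻¹ = y := by
    have : g2 * α y * g2⁻¹ = x ^ (-i * u) * (g1 * α y * g1⁻¹) * (x ^ (-i * u))⁻¹ := by rw [hg2]; group
    rw [this, hb]
  -- step 3
  have h3 : (s⁻¹ * (g2 * α s * g2⁻¹)) * y = y * (s⁻¹ * (g2 * α s * g2⁻¹)) := by
    have e1 : (g2 * α s * g2⁻¹) * y * (g2 * α s * g2⁻¹)⁻¹ = s * y * s⁻¹ := by
      have : (g2 * α s * g2⁻¹) * y * (g2 * α s * g2⁻¹)⁻¹ = g2 * α (s * y * s⁻¹) * g2⁻¹ := by
        conv_lhs => rw [← hy2]
        rw [map_mul, map_mul, map_inv]; group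
      rw [this, hsy, map_zpow, ← conj_zpow, hy2]
    have e2 : (g2 * α s * g2⁻¹) * y = s * y * s⁻¹ * (g2 * α s * g2⁻¹) := by
      rw [← e1]; group
    rw [mul_assoc, e2]; group
  obtain ⟨i', z, hz, hiz⟩ := hcy _ h3
  have e4 : g2 * α s * g2⁻¹ = s * (y ^ i' * z) := by rw [← hiz]; group
  obtain ⟨u', v', huv'⟩ := hm
  -- c = -i' u'
  set c : ℤ := -i' * u' with hc
  have hys : ∀ j : ℤ, y ^ (m * j) * s = s * y ^ j := by
    intro j
    rw [zpow_mul, ← hsy, conj_zpow]; group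
  have hzc : ∀ j : ℤ, z * y ^ j = y ^ j * z := by
    intro j
    have : Commute z y := hzy z hz
    exact this.zpow_right j
  have e5 : y ^ (m * c) * (g2 * α s * g2⁻¹) * (y ^ (m * c))⁻¹ = s * z := by
    rw [e4, ← mul_assoc, hys, ← zpow_neg]
    have e7 : s * y ^ c * (y ^ i' * z) * y ^ (-(m * c)) = s * ((y ^ c * y ^ i') * (z * y ^ (-(m * c)))) := by
      simp only [mul_assoc]
    rw [e7, hzc, ← zpow_add, ← mul_assoc (y ^ (c + i')), ← zpow_add]
    have e6 : c + i' + -(m * c) = (e : ℤ) * (i' * v') := by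
      rw [hc]
      linear_combination (-i') * huv'
    rw [e6, zpow_mul, zpow_natCast, hy, one_zpow, one_mul]
  refine ⟨y ^ (m * c) * g2, ?_⟩
  have hyN : ∀ j : ℤ, ∀ t ∈ zpowers x, y ^ j * t * (y ^ j)⁻¹ ∈ zpowers x := by
    intro j t ht
    have hN : y ∈ Subgroup.normalizer ((zpowers x : Subgroup G) : Set G) := by
      rw [Subgroup.mem_normalizer_iff]
      intro t
      constructor
      · intro ht
        obtain ⟨a, rfl⟩ := mem_zpowers_iff.1 ht
        rw [hyz]; exact zpow_mem (mem_zpowers x) _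
      · intro ht
        obtain ⟨a, ha⟩ := mem_zpowers_iff.1 ht
        -- t = y⁻¹ x^a y ; x^a = (x^r)^b
        obtain ⟨b, hb'⟩ := zpow_mem_of_coprime hxp hrc
        have : t = x ^ (b * a) := by
          have h7 : y * t * y⁻¹ = y * x ^ (b * a) * y⁻¹ := by
            rw [hyz, ← ha]
            conv_lhs => rw [hb', ← zpow_mul, ← zpow_mul]
          have := mul_right_cancel h7
          exact mul_left_cancel this
        rw [this]; exact zpow_mem (mem_zpowers x) _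
    exact (Subgroup.mem_normalizer_iff.1 (Subgroup.zpow_mem _ hN j) t).1 ht
  have h8 : (y ^ (m * c) * g2) * α x * (y ^ (m * c) * g2)⁻¹ ∈ zpowers x := by
    have : (y ^ (m * c) * g2) * α x * (y ^ (m * c) * g2)⁻¹ = y ^ (m * c) * (g2 * α x * g2⁻¹) * (y ^ (m * c))⁻¹ := by group
    rw [this]; exact hyN _ _ hx2
  have hfo : IsOfFinOrder x := isOfFinOrder_of_finite x
  rw [← hfo.mem_powers_iff_mem_zpowers, hfo.mem_powers_iff_mem_range_orderOf] at h8
  rw [Finset.mem_image] at h8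
  obtain ⟨k', hk', e8⟩ := h8
  rw [Finset.mem_range, hx] at hk'
  refine ⟨k', hk', ?_, z, hz, e8.symm, ?_, ?_⟩
  · rintro rfl
    rw [pow_zero] at e8
    have : (y ^ (m * c) * g2) * α x * (y ^ (m * c) * g2)⁻¹ = 1 := e8.symm
    rw [mul_inv_eq_one, mul_eq_left] at this
    exact hx1 (α.injective (this.trans (map_one α).symm))
  · have : (y ^ (m * c) * g2) * α y * (y ^ (m * c) * g2)⁻¹ = y ^ (m * c) * (g2 * α y * g2⁻¹) * (y ^ (m * c))⁻¹ := by group
    rw [this, hy2]; group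
  · rw [← e5]; group

end CfsgLib.OutM
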