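import Cfsg.Agent.LibM24f
import Cfsg.Agent.LibOutM1

set_option autoImplicit false

/-! Computations with explicit elements of `M24`: products, straight line programs, centralisers (seat helper15). -/

namespace CfsgLib.OutM

open Cfsg CfsgLib.Golay CfsgLib.M24
open scoped Pointwise

/-- composition -/
def cl (P Q : List ℕ) : List ℕ := Q.map (fun i => P.getD i 0)

/-- identity -/
def il : List ℕ := List.range 24

theorem pt_mk {P : List ℕ} (hP : valid P = true) {i : ℕ} (hi : i < 24) : mkPerm P (pt i) = pt (P.getD i 0) := by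
  apply idx_injective
  rw [idx_mkPerm hP, idx_pt i hi]
  obtain ⟨h1, h2, h3⟩ := valid_spec hP
  rw [idx_pt]
  have : i < P.length := by rw [h1]; exact hi
  rw [List.getD_eq_getElem _ _ this]
  exact h2 _ (List.getElem_mem this)

theorem getD_lt {P : List ℕ} (hP : valid P = true) {i : ℕ} (hi : i < 24) : P.getD i 0 < 24 := by
  obtain ⟨h1, h2, h3⟩ := valid_spec hP
  have : i < P.length := by rw [h1]; exact hi
  rw [List.getD_eq_getElem _ _ this]
  exact h2 _ (List.getElem_mem this)

theorem perm_ext {g h : Equiv.Perm GolayPt} (H : ∀ i < 24, g (pt i) = h (pt i)) : g = h := by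
  ext1 p
  rw [← pt_idx p]
  exact H _ (idx_lt p)

theorem getD_cl {P Q : List ℕ} (hQ : valid Q = true) {i : ℕ} (hi : i < 24) : (cl P Q).getD i 0 = P.getD (Q.getD i 0) 0 := by
  obtain ⟨h1, h2, h3⟩ := valid_spec hQ
  have : i < Q.length := by rw [h1]; exact hi
  unfold cl
  rw [List.getD_eq_getElem _ _ (by rw [List.length_map]; exact this), List.getElem_map, ← List.getD_eq_getElem Q 0 this]

theorem mk_cl {P Q : List ℕ} (hP : valid P = true) (hQ : valid Q = true) (hPQ : valid (cl P Q) = true) :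
    mkPerm (cl P Q) = mkPerm P * mkPerm Q := by
  apply perm_ext
  intro i hi
  rw [pt_mk hPQ hi, Equiv.Perm.mul_apply, pt_mk hQ hi, pt_mk hP (getD_lt hQ hi), getD_cl hQ hi]

theorem valid_il : valid il = true := by decide +kernel

theorem mk_il : mkPerm il = 1 := by
  apply perm_ext
  intro i hi
  rw [pt_mk valid_il hi]
  unfold il
  rw [List.getD_eq_getElem _ _ (by simpa using hi), List.getElem_range]
  rfl

theorem mk_inj {P Q : List ℕ} (hP : valid P = true) (hQ : valid Q = true) (h : mkPerm P = mkPerm Q) : P = Q := by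
  obtain ⟨h1, h2, _⟩ := valid_spec hP
  obtain ⟨h1', h2', _⟩ := valid_spec hQ
  apply List.ext_getElem (by rw [h1, h1'])
  intro i hi hi'
  have hi24 : i < 24 := by rw [← h1]; exact hi
  have : idx (mkPerm P (pt i)) = idx (mkPerm Q (pt i)) := by rw [h]
  rw [pt_mk hP hi24, pt_mk hQ hi24, idx_pt _ (getD_lt hP hi24), idx_pt _ (getD_lt hQ hi24),
    List.getD_eq_getElem _ _ hi, List.getD_eq_getElem _ _ hi'] at this
  exact this

/-- powers -/
def pwl (P : List ℕ) : ℕ → List ℕ
  | 0 => il
  | n + 1 => cl P (pwl P n)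

/-- all the powers up to `n` are valid -/
def pwOK (P : List ℕ) : ℕ → Bool
  | 0 => true
  | n + 1 => and (valid (pwl P (n + 1))) (pwOK P n)

theorem valid_pw {P : List ℕ} (hP : valid P = true) {n : ℕ} (h : pwOK P n = true) :
    valid (pwl P n) = true ∧ mkPerm (pwl P n) = mkPerm P ^ n := by
  induction n with
  | zero => exact ⟨valid_il, by rw [pow_zero]; exact mk_il⟩
  | succ n ih =>
    rw [pwOK, Bool.and_eq_true] at h
    have h2 := ih h.2
    exact ⟨h.1, by
      show mkPerm (cl P (pwl P n)) = _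
      rw [mk_cl hP h2.1 h.1, h2.2, pow_succ']⟩

/-! ### straight line programs -/

/-- inverse list -/
def ivl (P : List ℕ) : List ℕ := (List.range 24).map (fun j => P.idxOf j)

/-- one step: append a product (kind 0) or an inverse (kind 1) -/
def stp (acc : List (List ℕ)) (op : ℕ × ℕ × ℕ) : List (List ℕ) :=
  acc ++ [if op.1 = 0 then cl (acc.getD op.2.1 []) (acc.getD op.2.2 []) else ivl (acc.getD op.2.1 [])]

/-- check of one step -/
def stpOK (acc : List (List ℕ)) (op : ℕ × ℕ × ℕ) : Bool :=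
  if op.1 = 0 then and (Nat.blt op.2.1 acc.length) (and (Nat.blt op.2.2 acc.length)
      (valid (cl (acc.getD op.2.1 []) (acc.getD op.2.2 []))))
  else and (Nat.blt op.2.1 acc.length) (and (valid (ivl (acc.getD op.2.1 [])))
      (cl (ivl (acc.getD op.2.1 [])) (acc.getD op.2.1 []) == il))

/-- run -/
def run (acc : List (List ℕ)) : List (ℕ × ℕ × ℕ) → List (List ℕ)
  | [] => acc
  | op :: ops => run (stp acc op) ops

/-- run check -/
def runOK (acc : List (List ℕ)) : List (ℕ × ℕ × ℕ) → Bool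
  | [] => true
  | op :: ops => and (stpOK acc op) (runOK (stp acc op) ops)

theorem getD_mem {acc : List (List ℕ)} {i : ℕ} (h : Nat.blt i acc.length = true) : acc.getD i [] ∈ acc := by
  rw [Nat.blt_eq] at h
  rw [List.getD_eq_getElem _ _ h]
  exact List.getElem_mem h

theorem run_spec (H : Subgroup (Equiv.Perm GolayPt)) (ops : List (ℕ × ℕ × ℕ)) :
    ∀ (acc : List (List ℕ)), (∀ P ∈ acc, valid P = true ∧ mkPerm P ∈ H) → runOK acc ops = true →
      ∀ P ∈ run acc ops, valid P = true ∧ mkPerm P ∈ H := by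
  induction ops with
  | nil => intro acc h _; exact h
  | cons op ops ih =>
    intro acc h h2
    rw [runOK, Bool.and_eq_true] at h2
    rw [run]
    apply ih _ _ h2.2
    intro P hP
    unfold stp at hP
    rw [List.mem_append, List.mem_singleton] at hP
    rcases hP with hP | rfl
    · exact h P hP
    · have h3 := h2.1
      unfold stpOK at h3
      by_cases h0 : op.1 = 0
      · rw [if_pos h0] at h3 ⊢
        rw [Bool.and_eq_true, Bool.and_eq_true] at h3
        obtain ⟨ha, hb, hc⟩ := h3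
        obtain ⟨a1, a2⟩ := h _ (getD_mem ha)
        obtain ⟨b1, b2⟩ := h _ (getD_mem hb)
        refine ⟨hc, ?_⟩
        rw [mk_cl a1 b1 hc]
        exact H.mul_mem a2 b2
      · rw [if_neg h0] at h3 ⊢
        rw [Bool.and_eq_true, Bool.and_eq_true] at h3
        obtain ⟨ha, hb, hc⟩ := h3
        obtain ⟨a1, a2⟩ := h _ (getD_mem ha)
        refine ⟨hb, ?_⟩
        rw [beq_iff_eq] at hc
        have e : mkPerm (ivl (acc.getD op.2.1 [])) * mkPerm (acc.getD op.2.1 []) = 1 := by
          rw [← mk_cl hb a1 (by rw [hc]; exact valid_il), hc, mk_il]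
        rw [mul_eq_one_iff_eq_inv] at e
        rw [e]
        exact H.inv_mem a2

/-! ### orbits -/

/-- add the images of a mask under all the permutations of the list -/
def grow (A : List (List ℕ)) (m : ℕ) : ℕ := A.foldl (fun a P => Nat.lor a (pmask P m)) m

/-- iterate -/
def growN (A : List (List ℕ)) : ℕ → ℕ → ℕ
  | 0, m => m
  | n + 1, m => growN A n (grow A m)

theorem grow_spec (A : List (List ℕ)) (m : ℕ) (q : GolayPt) (hA : ∀ P ∈ A, valid P = true) (h : q ∈ fset (grow A m)) :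
    q ∈ fset m ∨ ∃ P ∈ A, ∃ r ∈ fset m, q = mkPerm P r := by
  have key : ∀ (A : List (List ℕ)), (∀ P ∈ A, valid P = true) → ∀ a : ℕ,
      q ∈ fset (A.foldl (fun a P => Nat.lor a (pmask P m)) a) → q ∈ fset a ∨ ∃ P ∈ A, ∃ r ∈ fset m, q = mkPerm P r := by
    intro A
    induction A with
    | nil => intro _ a h; exact Or.inl h
    | cons P A ih =>
      intro hA a h
      rw [List.foldl_cons] at h
      rcases ih (fun P hP => hA P (List.mem_cons_of_mem _ hP)) _ h with h1 | ⟨Q, hQ, r, hr, e⟩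
      · have h2 : q ∈ fset (a ||| pmask P m) := h1
        rw [fset_or, Finset.mem_union] at h2
        rcases h2 with h2 | h2
        · exact Or.inl h2
        · rw [← smul_fset (hA P List.mem_cons_self), Finset.mem_smul_finset] at h2
          obtain ⟨r, hr, e⟩ := h2
          exact Or.inr ⟨P, List.mem_cons_self, r, hr, e.symm⟩
      · exact Or.inr ⟨Q, List.mem_cons_of_mem _ hQ, r, hr, e⟩
  exact key A hA m h

theorem growN_spec (H : Subgroup (Equiv.Perm GolayPt)) (A : List (List ℕ)) (hA : ∀ P ∈ A, valid P = true)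
    (hH : ∀ P ∈ A, mkPerm P ∈ H) (b : GolayPt) : ∀ (n m : ℕ), (∀ q ∈ fset m, ∃ h ∈ H, h b = q) →
    ∀ q ∈ fset (growN A n m), ∃ h ∈ H, h b = q := by
  intro n
  induction n with
  | zero => intro m h; exact h
  | succ n ih =>
    intro m h
    apply ih
    intro q hq
    rcases grow_spec A m q hA hq with h1 | ⟨P, hP, r, hr, rfl⟩
    · exact h q h1
    · obtain ⟨k, hk, rfl⟩ := h r hr
      exact ⟨mkPerm P * k, H.mul_mem (hH P hP) hk, rfl⟩

/-- subgroup of elements fixing the listed points -/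
def fixH (H : Subgroup (Equiv.Perm GolayPt)) (l : List ℕ) : Subgroup (Equiv.Perm GolayPt) where
  carrier := {g | g ∈ H ∧ ∀ i ∈ l, g (pt i) = pt i}
  one_mem' := ⟨Subgroup.one_mem _, fun _ _ => rfl⟩
  mul_mem' := by
    rintro g h ⟨hg, hg2⟩ ⟨hh, hh2⟩
    refine ⟨Subgroup.mul_mem _ hg hh, fun i hi => ?_⟩
    rw [Equiv.Perm.mul_apply, hh2 i hi, hg2 i hi]
  inv_mem' := by
    rintro g ⟨hg, hg2⟩
    refine ⟨Subgroup.inv_mem _ hg, fun i hi => ?_⟩
    rw [Equiv.Perm.inv_eq_iff_eq, hg2 i hi]

/-- level check: the nodes with indices `ix` fix `l` and move `b` over the mask -/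
def lvOK (N : List (List ℕ)) (l : List ℕ) (b : ℕ) (mask : ℕ) (ix : List ℕ) : Bool :=
  and (ix.all fun i => and (Nat.blt i N.length) (l.all fun j => Nat.beq ((N.getD i []).getD j 0) j))
    (Nat.beq (Nat.land (growN (ix.map fun i => N.getD i []) 24 (2 ^ b)) mask) mask)

theorem lv_spec {H : Subgroup (Equiv.Perm GolayPt)} {N : List (List ℕ)} (hN : ∀ P ∈ N, valid P = true ∧ mkPerm P ∈ H)
    {l : List ℕ} (hl : ∀ i ∈ l, i < 24) {b : ℕ} (hb : b < 24) {mask : ℕ} {ix : List ℕ} (h : lvOK N l b mask ix = true) :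
    ∀ q ∈ fset mask, ∃ h ∈ fixH H l, h (pt b) = q := by
  rw [lvOK, Bool.and_eq_true, List.all_eq_true, beq_iff] at h
  obtain ⟨h1, h2⟩ := h
  intro q hq
  apply growN_spec (fixH H l) (ix.map fun i => N.getD i []) _ _ (pt b) 24 (2 ^ b) _ q
  · have h3 : q ∈ fset (growN (ix.map fun i => N.getD i []) 24 (2 ^ b) &&& mask) := by
      have : (growN (ix.map fun i => N.getD i []) 24 (2 ^ b) &&& mask) = mask := h2
      rw [this]; exact hq
    rw [fset_and, Finset.mem_inter] at h3
    exact h3.1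
  · intro P hP
    rw [List.mem_map] at hP
    obtain ⟨i, hi, rfl⟩ := hP
    have := h1 i hi
    rw [Bool.and_eq_true] at this
    exact (hN _ (getD_mem this.1)).1
  · intro P hP
    rw [List.mem_map] at hP
    obtain ⟨i, hi, rfl⟩ := hP
    have := h1 i hi
    rw [Bool.and_eq_true, List.all_eq_true] at this
    obtain ⟨v, w⟩ := hN _ (getD_mem this.1)
    refine ⟨w, fun j hj => ?_⟩
    rw [pt_mk v (hl j hj), beq_iff.1 (this.2 j hj)]
  · intro q hq
    rw [mem_fset, Nat.testBit_two_pow] at hq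
    refine ⟨1, Subgroup.one_mem _, ?_⟩
    rw [Equiv.Perm.one_apply]
    have : b = idx q := by simpa using hq
    rw [this, pt_idx]

/-- one step of the chain -/
theorem chain_step {S H : Subgroup (Equiv.Perm GolayPt)} (hHS : H ≤ S) {l : List ℕ} {b : ℕ} {mask : ℕ}
    (h1 : ∀ q ∈ fset mask, ∃ h ∈ fixH H l, h (pt b) = q)
    (h2 : ∀ g ∈ fixH S l, g (pt b) ∈ fset mask)
    (h3 : ∀ g ∈ fixH S (l ++ [b]), g ∈ H) : ∀ g ∈ fixH S l, g ∈ H := by
  intro g hg
  obtain ⟨h, hh, e⟩ := h1 _ (h2 g hg)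
  have h4 : h⁻¹ * g ∈ fixH S (l ++ [b]) := by
    have hh' : h ∈ fixH S l := ⟨hHS hh.1, hh.2⟩
    have h5 := (fixH S l).mul_mem ((fixH S l).inv_mem hh') hg
    refine ⟨h5.1, fun i hi => ?_⟩
    rw [List.mem_append, List.mem_singleton] at hi
    rcases hi with hi | rfl
    · exact h5.2 i hi
    · rw [Equiv.Perm.mul_apply, ← e]
      exact h.symm_apply_apply _
  have h5 := H.mul_mem hh.1 (h3 _ h4)
  rwa [mul_inv_cancel_left] at h5

/-! ### centralisers -/

/-- bad partial maps -/
def incons (known : List (ℕ × ℕ)) (acc : List (ℕ × ℕ)) : Bool :=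
  or (acc.any fun a => acc.any fun b => xor (Nat.beq a.1 b.1) (Nat.beq a.2 b.2))
    (acc.any fun a => known.any fun k => xor (k.1.testBit a.1) (k.2.testBit a.2))

/-- contradiction by a pair of octads -/
def cert (acc : List (ℕ × ℕ)) (O : ℕ × ℕ) : Bool :=
  and (Nat.ble 5 (pop (acc.foldl (fun m a => if O.1.testBit a.1 && O.2.testBit a.2 then Nat.lor m (2 ^ a.2) else m) 0)))
    (acc.any fun a => xor (O.1.testBit a.1) (O.2.testBit a.2))

/-- the pairs obtained from `p ↦ j` and the fact that the map commutes with `S` -/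
def orbP (SS : List (List ℕ)) (p j : ℕ) : List (ℕ × ℕ) := SS.map fun P => (P.getD p 0, P.getD j 0)

/-- search -/
def cchk (SS : List (List ℕ)) (known : List (ℕ × ℕ)) (goods : List (List ℕ)) (certs : List (ℕ × ℕ)) :
    List ℕ → List (ℕ × ℕ) → Bool
  | [], acc => or (goods.any fun g => acc.all fun a => Nat.beq (g.getD a.1 0) a.2)
      (certs.any fun O => cert acc O)
  | b :: bs, acc => (List.range 24).all fun j =>
      or (incons known (orbP SS b j ++ acc)) (or (certs.any fun O => cert (orbP SS b j ++ acc) O)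
        (cchk SS known goods certs bs (orbP SS b j ++ acc)))

/-- `c` realises the pairs -/
def Real (c : Equiv.Perm GolayPt) (acc : List (ℕ × ℕ)) : Prop :=
  ∀ a ∈ acc, a.1 < 24 ∧ a.2 < 24 ∧ c (pt a.1) = pt a.2

theorem pt_inj {i j : ℕ} (hi : i < 24) (hj : j < 24) (h : pt i = pt j) : i = j := by
  rw [← idx_pt i hi, h, idx_pt j hj]

theorem not_incons {c : Equiv.Perm GolayPt} {known acc : List (ℕ × ℕ)} (hk : ∀ k ∈ known, c • fset k.1 = fset k.2)
    (hr : Real c acc) : incons known acc = false := by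
  by_contra h
  rw [Bool.not_eq_false, incons, Bool.or_eq_true, List.any_eq_true, List.any_eq_true] at h
  rcases h with ⟨a, ha, h⟩ | ⟨a, ha, h⟩
  · rw [List.any_eq_true] at h
    obtain ⟨b, hb, h⟩ := h
    obtain ⟨a1, a2, a3⟩ := hr a ha
    obtain ⟨b1, b2, b3⟩ := hr b hb
    have : a.1 = b.1 ↔ a.2 = b.2 := by
      constructor
      · intro e
        apply pt_inj a2 b2
        rw [← a3, ← b3, e]
      · intro e
        apply pt_inj a1 b1
        apply c.injective
        rw [a3, b3, e]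
    by_cases e : a.1 = b.1
    · have e2 := this.1 e
      rw [e, e2] at h; simp at h
    · have e2 : ¬ a.2 = b.2 := fun h => e (this.2 h)
      have h1 : Nat.beq a.1 b.1 = false := by rw [← Bool.not_eq_true, beq_iff]; exact e
      have h2 : Nat.beq a.2 b.2 = false := by rw [← Bool.not_eq_true, beq_iff]; exact e2
      rw [h1, h2] at h; simp at h
  · rw [List.any_eq_true] at h
    obtain ⟨k, hk', h⟩ := h
    obtain ⟨a1, a2, a3⟩ := hr a ha
    have h1 : pt a.1 ∈ fset k.1 ↔ pt a.2 ∈ fset k.2 := by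
      rw [← hk k hk', ← a3]
      exact (Finset.smul_mem_smul_finset_iff c).symm
    rw [mem_fset, mem_fset, idx_pt _ a1, idx_pt _ a2] at h1
    cases h8 : k.1.testBit a.1 <;> cases h9 : k.2.testBit a.2 <;> simp [h8, h9] at h h1

theorem not_cert {c : Equiv.Perm GolayPt} (hc : c ∈ M24) {acc : List (ℕ × ℕ)} (hr : Real c acc) {O : ℕ × ℕ}
    (h1 : fset O.1 ∈ octads) (h2 : fset O.2 ∈ octads) : cert acc O = false := by
  by_contra h
  rw [Bool.not_eq_false, cert, Bool.and_eq_true, List.any_eq_true, Nat.ble_eq] at h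
  obtain ⟨h5, a, ha, h⟩ := h
  have h6 : ∀ (acc' : List (ℕ × ℕ)) (m : ℕ), (∀ a ∈ acc', a ∈ acc) → fset m ⊆ (c • fset O.1) ∩ fset O.2 →
      fset (acc'.foldl (fun m a => if O.1.testBit a.1 && O.2.testBit a.2 then Nat.lor m (2 ^ a.2) else m) m) ⊆
        (c • fset O.1) ∩ fset O.2 := by
    intro acc'
    induction acc' with
    | nil => intro m _ hm; exact hm
    | cons b acc' ih =>
      intro m hsub hm
      rw [List.foldl_cons]
      apply ih _ (fun a ha => hsub a (List.mem_cons_of_mem _ ha))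
      by_cases hb : (O.1.testBit b.1 && O.2.testBit b.2) = true
      · rw [if_pos hb, Bool.and_eq_true] at *
        intro q hq
        have hq' : q ∈ fset (m ||| 2 ^ b.2) := hq
        rw [fset_or, Finset.mem_union] at hq'
        rcases hq' with hq' | hq'
        · exact hm hq'
        · obtain ⟨b1, b2, b3⟩ := hr b (hsub b List.mem_cons_self)
          rw [mem_fset, Nat.testBit_two_pow] at hq'
          have e : b.2 = idx q := by simpa using hq'
          have e2 : q = pt b.2 := by rw [e, pt_idx]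
          rw [Finset.mem_inter, e2]
          constructor
          · rw [← b3]
            apply Finset.smul_mem_smul_finset
            rw [mem_fset, idx_pt _ b1]; exact hb.1
          · rw [mem_fset, idx_pt _ b2]; exact hb.2
      · rw [if_neg hb]; exact hm
  have h7 := h6 acc 0 (fun _ h => h) (by intro q hq; rw [mem_fset] at hq; simp at hq)
  have h8 : c • fset O.1 = fset O.2 := by
    apply octad_eq (smul_mem_octads hc h1) h2
    rw [← card_fset] at h5
    exact h5.trans (Finset.card_le_card h7)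
  obtain ⟨a1, a2, a3⟩ := hr a ha
  have h9 : pt a.1 ∈ fset O.1 ↔ pt a.2 ∈ fset O.2 := by
    rw [← h8, ← a3]
    exact (Finset.smul_mem_smul_finset_iff c).symm
  rw [mem_fset, mem_fset, idx_pt _ a1, idx_pt _ a2] at h9
  cases h10 : O.1.testBit a.1 <;> cases h11 : O.2.testBit a.2 <;> simp [h10, h11] at h h9

theorem real_orbP {c : Equiv.Perm GolayPt} {SS : List (List ℕ)}
    (hS : ∀ P ∈ SS, valid P = true ∧ c * mkPerm P = mkPerm P * c) {b : ℕ} (hb : b < 24) :
    Real c (orbP SS b (idx (c (pt b)))) := by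
  intro a ha
  unfold orbP at ha
  rw [List.mem_map] at ha
  obtain ⟨P, hP, rfl⟩ := ha
  obtain ⟨v, e⟩ := hS P hP
  refine ⟨getD_lt v hb, getD_lt v (idx_lt _), ?_⟩
  simp only
  rw [← pt_mk v hb, ← pt_mk v (idx_lt _), pt_idx, ← Equiv.Perm.mul_apply, e, Equiv.Perm.mul_apply]

theorem cchk_spec {c : Equiv.Perm GolayPt} (hc : c ∈ M24) {SS : List (List ℕ)}
    (hS : ∀ P ∈ SS, valid P = true ∧ c * mkPerm P = mkPerm P * c)
    {known : List (ℕ × ℕ)} (hk : ∀ k ∈ known, c • fset k.1 = fset k.2) {goods : List (List ℕ)}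
    {certs : List (ℕ × ℕ)} (hcert : ∀ O ∈ certs, fset O.1 ∈ octads ∧ fset O.2 ∈ octads) :
    ∀ (base : List ℕ) (acc : List (ℕ × ℕ)), (∀ b ∈ base, b < 24) → Real c acc →
      cchk SS known goods certs base acc = true →
      ∃ g ∈ goods, ∃ acc' : List (ℕ × ℕ), (∀ a ∈ acc, a ∈ acc') ∧ (∀ b ∈ base, ∀ P ∈ SS, ∃ j, (P.getD b 0, j) ∈ acc') ∧
        Real c acc' ∧ ∀ a ∈ acc', g.getD a.1 0 = a.2 := by
  intro base
  induction base with
  | nil =>
    intro acc _ hr h
    rw [cchk, Bool.or_eq_true, List.any_eq_true, List.any_eq_true] at h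
    rcases h with ⟨g, hg, h⟩ | ⟨O, hO, h⟩
    · rw [List.all_eq_true] at h
      exact ⟨g, hg, acc, fun _ h => h, by simp, hr, fun a ha => beq_iff.1 (h a ha)⟩
    · rw [not_cert hc hr (hcert O hO).1 (hcert O hO).2] at h
      exact absurd h (by simp)
  | cons b base ih =>
    intro acc hb hr h
    rw [cchk, List.all_eq_true] at h
    have h1 := h (idx (c (pt b))) (List.mem_range.2 (idx_lt _))
    have hr' : Real c (orbP SS b (idx (c (pt b))) ++ acc) := by
      intro a ha
      rw [List.mem_append] at ha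
      rcases ha with ha | ha
      · exact real_orbP hS (hb b List.mem_cons_self) a ha
      · exact hr a ha
    have hce : (certs.any fun O => cert (orbP SS b (idx (c (pt b))) ++ acc) O) = false := by
      rw [List.any_eq_false]
      intro O hO
      rw [not_cert hc hr' (hcert O hO).1 (hcert O hO).2]; simp
    rw [not_incons hk hr', Bool.false_or, hce, Bool.false_or] at h1
    obtain ⟨g, hg, acc', a1, a2, a3, a4⟩ := ih _ (fun k hk => hb k (List.mem_cons_of_mem _ hk)) hr' h1
    refine ⟨g, hg, acc', fun a ha => a1 a (List.mem_append_right _ ha), ?_, a3, a4⟩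
    intro k hk' P hP
    rcases List.mem_cons.1 hk' with rfl | hk'
    · refine ⟨P.getD (idx (c (pt k))) 0, a1 _ (List.mem_append_left _ ?_)⟩
      unfold orbP
      exact List.mem_map.2 ⟨P, hP, rfl⟩
    · exact a2 k hk' P hP

/-- the list of points covered by the base -/
def covM (SS : List (List ℕ)) (base : List ℕ) : ℕ :=
  base.foldl (fun m b => SS.foldl (fun m P => Nat.lor m (2 ^ (P.getD b 0))) m) 0

/-- main theorem on centralisers: every `c` commuting with `S` is one of the `goods` -/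
theorem cent_spec {c : Equiv.Perm GolayPt} (hc : c ∈ M24) {SS : List (List ℕ)}
    (hS : ∀ P ∈ SS, valid P = true ∧ c * mkPerm P = mkPerm P * c)
    {known : List (ℕ × ℕ)} (hk : ∀ k ∈ known, c • fset k.1 = fset k.2) {goods : List (List ℕ)}
    (hgood : ∀ g ∈ goods, valid g = true ∧ mkPerm g ∈ M24)
    {certs : List (ℕ × ℕ)} (hcert : ∀ O ∈ certs, fset O.1 ∈ octads ∧ fset O.2 ∈ octads)
    (base : List ℕ) (fix : List ℕ) (hb : ∀ b ∈ base, b < 24) (hf : ∀ i ∈ fix, i < 24 ∧ c (pt i) = pt i)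
    (h : cchk SS known goods certs base (fix.map fun i => (i, i)) = true)
    (h9 : 9 ≤ ((Finset.univ.filter fun p : GolayPt => (∃ b ∈ base, ∃ P ∈ SS, p = pt (P.getD b 0)) ∨ (∃ i ∈ fix, p = pt i)).card)) :
    ∃ g ∈ goods, c = mkPerm g := by
  classical
  obtain ⟨g, hg, acc', a1, a2, a3, a4⟩ := cchk_spec hc hS hk hcert base _ hb (by
    intro a ha
    rw [List.mem_map] at ha
    obtain ⟨i, hi, rfl⟩ := ha
    exact ⟨(hf i hi).1, (hf i hi).1, (hf i hi).2⟩) h
  refine ⟨g, hg, ?_⟩
  obtain ⟨gv, gM⟩ := hgood g hg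
  have key : (mkPerm g)⁻¹ * c = 1 := by
    apply eq_one_of_nine (M24.mul_mem (M24.inv_mem gM) hc)
    refine h9.trans (Finset.card_le_card ?_)
    intro p hp
    rw [Finset.mem_filter] at hp ⊢
    refine ⟨Finset.mem_univ _, ?_⟩
    rw [Equiv.Perm.mul_apply, Equiv.Perm.inv_eq_iff_eq]
    rcases hp.2 with ⟨b, hb', P, hP, rfl⟩ | ⟨i, hi, rfl⟩
    · obtain ⟨j, hj⟩ := a2 b hb' P hP
      obtain ⟨c1, c2, c3⟩ := a3 _ hj
      rw [c3, pt_mk gv c1, a4 _ hj]
    · have hj := a1 (i, i) (List.mem_map.2 ⟨i, hi, rfl⟩)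
      obtain ⟨c1, c2, c3⟩ := a3 _ hj
      rw [c3, pt_mk gv c1, a4 _ hj]
  rw [inv_mul_eq_one] at key
  exact key.symm

end CfsgLib.OutM
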