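import Cfsg.Agent.LibOutM2
import Cfsg.Prelude.Def_KGroupFacts

set_option autoImplicit false

/-! Outer automorphisms of subgroups of `M24` given by explicit generators (seat helper15). -/

namespace CfsgLib.OutM

open Cfsg CfsgLib.Golay CfsgLib.M24
open scoped Pointwise

/-- `(X^a S^b)^n` -/
def wd (X S : List ℕ) (a b n : ℕ) : List ℕ := pwl (cl (pwl X a) (pwl S b)) n

def wdOK (X S : List ℕ) (a b n : ℕ) : Bool :=
  and (pwOK X a) (and (pwOK S b) (and (valid (cl (pwl X a) (pwl S b))) (pwOK (cl (pwl X a) (pwl S b)) n)))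

theorem wd_spec {X S : List ℕ} (hX : valid X = true) (hS : valid S = true) {a b n : ℕ} (h : wdOK X S a b n = true) :
    valid (wd X S a b n) = true ∧ mkPerm (wd X S a b n) = (mkPerm X ^ a * mkPerm S ^ b) ^ n := by
  rw [wdOK, Bool.and_eq_true, Bool.and_eq_true, Bool.and_eq_true] at h
  obtain ⟨h1, h2, h3, h4⟩ := h
  obtain ⟨a1, a2⟩ := valid_pw hX h1
  obtain ⟨b1, b2⟩ := valid_pw hS h2
  obtain ⟨c1, c2⟩ := valid_pw h3 h4
  refine ⟨c1, ?_⟩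
  unfold wd
  rw [c2, mk_cl a1 b1 h3, a2, b2]

/-- the candidate `x ↦ x^k`, `s ↦ s z` is killed by `(x^a s^b)^n = 1` -/
def kill (X S Z : List ℕ) (k : ℕ) (t : ℕ × ℕ × ℕ) : Bool :=
  and (wdOK X S t.1 t.2.1 t.2.2) (and (wd X S t.1 t.2.1 t.2.2 == il)
    (and (pwOK X k) (and (valid (cl S Z)) (and (wdOK (pwl X k) (cl S Z) t.1 t.2.1 t.2.2)
      (not (wd (pwl X k) (cl S Z) t.1 t.2.1 t.2.2 == il))))))

theorem kill_spec {X S Z : List ℕ} (hX : valid X = true) (hS : valid S = true) (hZ : valid Z = true) {k : ℕ} {t : ℕ × ℕ × ℕ}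
    (h : kill X S Z k t = true) (hrel : (mkPerm X ^ t.1 * mkPerm S ^ t.2.1) ^ t.2.2 = 1 →
      ((mkPerm X ^ k) ^ t.1 * (mkPerm S * mkPerm Z) ^ t.2.1) ^ t.2.2 = 1) : False := by
  simp only [kill, Bool.and_eq_true, beq_iff_eq, Bool.not_eq_true', beq_eq_false_iff_ne] at h
  obtain ⟨h1, h2, h3, h4, h5, h6⟩ := h
  obtain ⟨a1, a2⟩ := wd_spec hX hS h1
  obtain ⟨b1, b2⟩ := valid_pw hX h3
  obtain ⟨c1, c2⟩ := wd_spec b1 h4 h5
  have h7 := hrel (by rw [← a2, h2, mk_il])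
  rw [← b2, ← mk_cl hS hZ h4, ← c2, ← mk_il] at h7
  exact h6 (mk_inj c1 valid_il h7)

theorem hom_of_gen {S : Subgroup (Equiv.Perm GolayPt)} {A : Set (Equiv.Perm GolayPt)} (hA : S ≤ Subgroup.closure A) (hAS : A ⊆ S)
    (α : MulAut S) (g : S) (τ : Equiv.Perm GolayPt)
    (hτ : ∀ (a : Equiv.Perm GolayPt) (ha : a ∈ A), ((g * α ⟨a, hAS ha⟩ * g⁻¹ : S) : Equiv.Perm GolayPt) = τ * a * τ⁻¹) :
    ∀ s : S, ((g * α s * g⁻¹ : S) : Equiv.Perm GolayPt) = τ * s * τ⁻¹ := by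
  let K : Subgroup (Equiv.Perm GolayPt) :=
    { carrier := {a | ∃ ha : a ∈ S, ((g * α ⟨a, ha⟩ * g⁻¹ : S) : Equiv.Perm GolayPt) = τ * a * τ⁻¹}
      mul_mem' := by
        rintro a b ⟨ha, ha'⟩ ⟨hb, hb'⟩
        refine ⟨S.mul_mem ha hb, ?_⟩
        have e : (⟨a * b, S.mul_mem ha hb⟩ : S) = ⟨a, ha⟩ * ⟨b, hb⟩ := rfl
        have e2 : g * α ⟨a * b, S.mul_mem ha hb⟩ * g⁻¹ = (g * α ⟨a, ha⟩ * g⁻¹) * (g * α ⟨b, hb⟩ * g⁻¹) := by
          rw [e, map_mul]; group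
        rw [e2, Subgroup.coe_mul, ha', hb']; group
      one_mem' := by
        refine ⟨S.one_mem, ?_⟩
        have e : (⟨1, S.one_mem⟩ : S) = 1 := rfl
        rw [e, map_one]; simp
      inv_mem' := by
        rintro a ⟨ha, ha'⟩
        refine ⟨S.inv_mem ha, ?_⟩
        have e : (⟨a⁻¹, S.inv_mem ha⟩ : S) = ⟨a, ha⟩⁻¹ := rfl
        have e2 : g * α ⟨a⁻¹, S.inv_mem ha⟩ * g⁻¹ = (g * α ⟨a, ha⟩ * g⁻¹)⁻¹ := by
          rw [e, map_inv]; group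
        rw [e2, Subgroup.coe_inv, ha']; group }
  intro s
  have h1 : Subgroup.closure A ≤ K := by
    rw [Subgroup.closure_le]
    intro a ha
    exact ⟨hAS ha, hτ a ha⟩
  obtain ⟨_, h2⟩ := h1 (hA s.2)
  exact h2

/-- automorphism in the inner class of conjugation by `τ` -/
theorem inn_of_gen {S : Subgroup (Equiv.Perm GolayPt)} {A : Set (Equiv.Perm GolayPt)} (hA : S ≤ Subgroup.closure A) (hAS : A ⊆ S)
    (α : MulAut S) (g : S)
    (hτ : ∀ (a : Equiv.Perm GolayPt) (ha : a ∈ A), ((g * α ⟨a, hAS ha⟩ * g⁻¹ : S) : Equiv.Perm GolayPt) = a) :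
    α ∈ Inn S := by
  have h := hom_of_gen hA hAS α g 1 (fun a ha => by rw [hτ a ha]; group)
  refine ⟨g⁻¹, ?_⟩
  ext s
  have h2 := h s
  rw [MulAut.conj_apply]
  have h3 : g * α s * g⁻¹ = s := Subtype.ext (by rw [h2]; group)
  have h4 : α s = g⁻¹ * s * g := by
    rw [← h3]
    have : g⁻¹ * (g * α s * g⁻¹) * g = α s := by group
    rw [h3] at this ⊢
    exact this.symm
  rw [h4]; simp

theorem card_out_one {G : Type} [Group G] (h : ∀ α : MulAut G, α ∈ Inn G) : Nat.card (Out G) = 1 := by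
  have : (Inn G).index = 1 := by
    rw [Subgroup.index_eq_one, eq_top_iff]
    intro α _; exact h α
  exact this

/-- the data of a chain -/
structure Dat (S : Subgroup (Equiv.Perm GolayPt)) (X Y W : List ℕ) (p e : ℕ) (r m : ℕ) (ZS : List (List ℕ)) : Prop where
  le : S ≤ M24
  vX : valid X = true
  vY : valid Y = true
  vW : valid W = true
  vZ : ∀ Z ∈ ZS, valid Z = true ∧ mkPerm Z ∈ S ∧ mkPerm Z * mkPerm Y = mkPerm Y * mkPerm Z
  mX : mkPerm X ∈ S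
  mY : mkPerm Y ∈ S
  mW : mkPerm W ∈ S
  pp : p.Prime
  oX : mkPerm X ^ p = 1
  nX : mkPerm X ≠ 1
  oY : mkPerm Y ^ e = 1
  card : ¬ p ^ 2 ∣ Nat.card S
  r1 : IsCoprime (1 - (r : ℤ)) (p : ℤ)
  m1 : IsCoprime (1 - (m : ℤ)) (e : ℤ)
  yx : mkPerm Y * mkPerm X * (mkPerm Y)⁻¹ = mkPerm X ^ r
  wy : mkPerm W * mkPerm Y * (mkPerm W)⁻¹ = mkPerm Y ^ m
  cX : ∀ c ∈ S, c * mkPerm X = mkPerm X * c → ∃ i : ℕ, c = mkPerm X ^ i
  cY : ∀ c ∈ S, c * mkPerm Y = mkPerm Y * c → ∃ i : ℕ, ∃ Z ∈ ZS, c = mkPerm Y ^ i * mkPerm Z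

theorem Dat.main {S : Subgroup (Equiv.Perm GolayPt)} {X Y W : List ℕ} {p e r m : ℕ} {ZS : List (List ℕ)}
    (d : Dat S X Y W p e r m ZS) (α : MulAut S) :
    ∃ g : S, ∃ k < p, k ≠ 0 ∧ ∃ Z ∈ ZS, ((g * α ⟨_, d.mX⟩ * g⁻¹ : S) : Equiv.Perm GolayPt) = mkPerm X ^ k ∧
      ((g * α ⟨_, d.mY⟩ * g⁻¹ : S) : Equiv.Perm GolayPt) = mkPerm Y ∧
      ((g * α ⟨_, d.mW⟩ * g⁻¹ : S) : Equiv.Perm GolayPt) = mkPerm W * mkPerm Z ∧
      ∀ t, kill X W Z k t = false := by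
  classical
  haveI : Fact p.Prime := ⟨d.pp⟩
  have hox : orderOf (⟨mkPerm X, d.mX⟩ : S) = p := by
    apply orderOf_eq_prime
    · exact Subtype.ext d.oX
    · intro h; exact d.nX (congrArg Subtype.val h)
  obtain ⟨g, k, hk, hk0, z, hz, e1, e2, e3⟩ := aut_norm (G := S) (p := p) (e := e) (x := ⟨mkPerm X, d.mX⟩)
    (y := ⟨mkPerm Y, d.mY⟩) (s := ⟨mkPerm W, d.mW⟩) (r := r) (m := m) hox d.card
    (by
      rintro ⟨c, hc⟩ h
      obtain ⟨i, hi⟩ := d.cX c hc (congrArg Subtype.val h)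
      rw [Subgroup.mem_zpowers_iff]
      exact ⟨i, Subtype.ext (by rw [zpow_natCast, Subgroup.coe_pow]; exact hi.symm)⟩)
    (Subtype.ext (by
      rw [zpow_natCast, Subgroup.coe_pow]; exact d.yx))
    d.r1 {z : S | ∃ Z ∈ ZS, (z : Equiv.Perm GolayPt) = mkPerm Z}
    (by
      rintro ⟨c, hc⟩ h
      obtain ⟨i, Z, hZ, hi⟩ := d.cY c hc (congrArg Subtype.val h)
      exact ⟨i, ⟨mkPerm Z, (d.vZ Z hZ).2.1⟩, ⟨Z, hZ, rfl⟩, Subtype.ext (by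
        rw [zpow_natCast, Subgroup.coe_mul, Subgroup.coe_pow]; exact hi)⟩)
    (by
      rintro ⟨z, hz⟩ ⟨Z, hZ, e⟩
      exact Subtype.ext (by
        rw [Subgroup.coe_mul, Subgroup.coe_mul]
        show z * mkPerm Y = mkPerm Y * z
        have e' : z = mkPerm Z := e
        rw [e']; exact (d.vZ Z hZ).2.2))
    (Subtype.ext (by rw [zpow_natCast, Subgroup.coe_pow]; exact d.wy))
    (Subtype.ext d.oY) d.m1 α
  obtain ⟨Z, hZ, ez⟩ := hz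
  have f1 : ((g * α ⟨_, d.mX⟩ * g⁻¹ : S) : Equiv.Perm GolayPt) = mkPerm X ^ k := by
    rw [e1, Subgroup.coe_pow]
  have f3 : ((g * α ⟨_, d.mW⟩ * g⁻¹ : S) : Equiv.Perm GolayPt) = mkPerm W * mkPerm Z := by
    rw [e3, Subgroup.coe_mul, ez]
  refine ⟨g, k, hk, hk0, Z, hZ, f1, by rw [e2], f3, ?_⟩
  intro t
  by_contra h
  rw [Bool.not_eq_false] at h
  apply kill_spec d.vX d.vW (d.vZ Z hZ).1 h
  intro hrel
  have h1 : ((⟨_, d.mX⟩ : S) ^ t.1 * (⟨_, d.mW⟩ : S) ^ t.2.1) ^ t.2.2 = 1 := Subtype.ext (by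
    rw [Subgroup.coe_pow, Subgroup.coe_mul, Subgroup.coe_pow, Subgroup.coe_pow]; exact hrel)
  have h2 := congrArg (fun s => MulAut.conj g (α s)) h1
  simp only [map_pow, map_mul, map_one] at h2
  have h3 := congrArg Subtype.val h2
  rw [Subgroup.coe_pow, Subgroup.coe_mul, Subgroup.coe_pow, Subgroup.coe_pow] at h3
  rw [MulAut.conj_apply, MulAut.conj_apply, f1, f3] at h3
  exact h3

end CfsgLib.OutM
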