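import Cfsg.Agent.LibOutM3

set_option autoImplicit false

/-! Checks for the chain data (seat helper15). -/

namespace CfsgLib.OutM

open Cfsg CfsgLib.Golay CfsgLib.M24
open scoped Pointwise

def octOK (O : ℕ × ℕ) : Bool := and (and (isCW O.1) (Nat.beq (pop O.1) 8)) (and (isCW O.2) (Nat.beq (pop O.2) 8))

theorem octOK_spec {O : ℕ × ℕ} (h : octOK O = true) : fset O.1 ∈ octads ∧ fset O.2 ∈ octads := by
  simp only [octOK, Bool.and_eq_true, beq_iff] at h
  exact ⟨⟨isCW_mem_supports h.1.1, by rw [card_fset]; exact h.1.2⟩, ⟨isCW_mem_supports h.2.1, by rw [card_fset]; exact h.2.2⟩⟩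

/-- powers of `X` below `n` -/
def pws (X : List ℕ) (n : ℕ) : List (List ℕ) := (List.range n).map (pwl X)

/-- candidates -/
def goodsL (X : List ℕ) (n : ℕ) (ZS : List (List ℕ)) : List (List ℕ) := (pws X n).flatMap fun P => ZS.map fun Z => cl P Z

def centOK (X : List ℕ) (n : ℕ) (known : List (ℕ × ℕ)) (fix : List ℕ) (certs : List (ℕ × ℕ)) (base : List ℕ)
    (ZS : List (List ℕ)) (M : ℕ) : Bool :=
  and ((goodsL X n ZS).all valid) (and (certs.all octOK) (and (base.all fun b => Nat.blt b 24)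
    (and (cchk (pws X n) known (goodsL X n ZS) certs base (fix.map fun i => (i, i)))
      (and (Nat.ble 9 (pop M)) ((List.range 24).all fun i => or (not (M.testBit i))
        (or (base.any fun b => (pws X n).any fun P => Nat.beq i (P.getD b 0)) (fix.any fun j => Nat.beq i j)))))))

theorem pwOK_le {X : List ℕ} {n k : ℕ} (h : pwOK X n = true) (hk : k ≤ n) : pwOK X k = true := by
  induction n with
  | zero => rw [Nat.le_zero.1 hk]; rfl
  | succ n ih =>
    rcases Nat.lt_or_ge n k with h1 | h1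
    · have : k = n + 1 := by omega
      rw [this]; exact h
    · rw [pwOK, Bool.and_eq_true] at h
      exact ih h.2 h1

theorem cent_pow {S : Subgroup (Equiv.Perm GolayPt)} (hS : S ≤ M24) {X : List ℕ} (vX : valid X = true) (mX : mkPerm X ∈ M24)
    {n : ℕ} (hpw : pwOK X n = true) {known : List (ℕ × ℕ)} {fix : List ℕ} {certs : List (ℕ × ℕ)} {base : List ℕ}
    {ZS : List (List ℕ)} {M : ℕ} (hZ : ∀ Z ∈ ZS, valid Z = true ∧ mkPerm Z ∈ M24)
    (hk : ∀ c ∈ S, ∀ k ∈ known, c • fset k.1 = fset k.2)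
    (hfix : ∀ c ∈ S, ∀ i ∈ fix, i < 24 ∧ c (pt i) = pt i)
    (h : centOK X n known fix certs base ZS M = true) :
    ∀ c ∈ S, c * mkPerm X = mkPerm X * c → ∃ i : ℕ, ∃ Z ∈ ZS, c = mkPerm X ^ i * mkPerm Z := by
  intro c hc hcomm
  rw [centOK, Bool.and_eq_true, Bool.and_eq_true, Bool.and_eq_true, Bool.and_eq_true, Bool.and_eq_true,
    List.all_eq_true, List.all_eq_true, List.all_eq_true, List.all_eq_true, Nat.ble_eq] at h
  obtain ⟨h1, h2, h3, h4, h5, h6⟩ := h
  have hpows : ∀ P ∈ pws X n, ∃ i, valid P = true ∧ mkPerm P = mkPerm X ^ i := by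
    intro P hP
    unfold pws at hP
    rw [List.mem_map] at hP
    obtain ⟨i, hi, rfl⟩ := hP
    rw [List.mem_range] at hi
    obtain ⟨a, b⟩ := valid_pw vX (pwOK_le hpw (le_of_lt hi))
    exact ⟨i, a, b⟩
  have hg : ∀ g ∈ goodsL X n ZS, ∃ i : ℕ, ∃ Z ∈ ZS, mkPerm g = mkPerm X ^ i * mkPerm Z := by
    intro g hg
    have hv := h1 g hg
    unfold goodsL at hg
    rw [List.mem_flatMap] at hg
    obtain ⟨P, hP, hg⟩ := hg
    rw [List.mem_map] at hg
    obtain ⟨Z, hZ', rfl⟩ := hg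
    obtain ⟨i, a, b⟩ := hpows P hP
    exact ⟨i, Z, hZ', by rw [mk_cl a (hZ Z hZ').1 hv, b]⟩
  obtain ⟨g, hg', e⟩ := cent_spec (hS hc) (SS := pws X n) (by
      intro P hP
      obtain ⟨i, a, b⟩ := hpows P hP
      refine ⟨a, ?_⟩
      rw [b]
      have : Commute c (mkPerm X) := hcomm
      exact this.pow_right i) (hk c hc) (goods := goodsL X n ZS) (by
      intro g hg'
      refine ⟨h1 g hg', ?_⟩
      obtain ⟨i, Z, hZ', e⟩ := hg g hg'
      rw [e]
      exact M24.mul_mem (M24.pow_mem mX i) (hZ Z hZ').2) (fun O hO => octOK_spec (h2 O hO)) base fix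
      (fun b hb => by have := h3 b hb; rwa [Nat.blt_eq] at this) (hfix c hc) h4 (by
      rw [← card_fset] at h5
      refine h5.trans (Finset.card_le_card ?_)
      intro p hp
      rw [Finset.mem_filter]
      refine ⟨Finset.mem_univ _, ?_⟩
      rw [mem_fset] at hp
      have h7 := h6 (idx p) (List.mem_range.2 (idx_lt p))
      rw [hp, Bool.not_true, Bool.false_or, Bool.or_eq_true, List.any_eq_true, List.any_eq_true] at h7
      rcases h7 with ⟨b, hb, h7⟩ | ⟨j, hj, h7⟩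
      · rw [List.any_eq_true] at h7
        obtain ⟨P, hP, h7⟩ := h7
        left
        exact ⟨b, hb, P, hP, by rw [← beq_iff.1 h7, pt_idx]⟩
      · right
        exact ⟨j, hj, by rw [← beq_iff.1 h7, pt_idx]⟩)
  obtain ⟨i, Z, hZ', e2⟩ := hg g hg'
  exact ⟨i, Z, hZ', by rw [e, e2]⟩

/-- check of the relations -/
def relOK (X Y W : List ℕ) (p e r m : ℕ) (ZS : List (List ℕ)) : Bool :=
  and (pwOK X p) (and (pwl X p == il) (and (not (X == il)) (and (pwOK Y e) (and (pwl Y e == il)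
    (and (pwOK X r) (and (valid (cl Y X)) (and (cl Y X == cl (pwl X r) Y)
      (and (pwOK Y m) (and (valid (cl W Y)) (and (cl W Y == cl (pwl Y m) W)
        (ZS.all fun Z => and (valid (cl Z Y)) (cl Z Y == cl Y Z))))))))))))

theorem rel_spec {X Y W : List ℕ} {p e r m : ℕ} {ZS : List (List ℕ)} (vX : valid X = true) (vY : valid Y = true)
    (vW : valid W = true) (vZ : ∀ Z ∈ ZS, valid Z = true) (h : relOK X Y W p e r m ZS = true) :
    mkPerm X ^ p = 1 ∧ mkPerm X ≠ 1 ∧ mkPerm Y ^ e = 1 ∧ mkPerm Y * mkPerm X * (mkPerm Y)⁻¹ = mkPerm X ^ r ∧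
      mkPerm W * mkPerm Y * (mkPerm W)⁻¹ = mkPerm Y ^ m ∧ ∀ Z ∈ ZS, mkPerm Z * mkPerm Y = mkPerm Y * mkPerm Z := by
  simp only [relOK, Bool.and_eq_true, beq_iff_eq, Bool.not_eq_true', beq_eq_false_iff_ne, List.all_eq_true] at h
  obtain ⟨h1, h2, h3, h4, h5, h6, h7, h8, h9, h10, h11, h12⟩ := h
  refine ⟨?_, ?_, ?_, ?_, ?_, ?_⟩
  · rw [← (valid_pw vX h1).2, h2, mk_il]
  · intro h
    rw [← mk_il] at h
    exact h3 (mk_inj vX valid_il h)
  · rw [← (valid_pw vY h4).2, h5, mk_il]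
  · obtain ⟨a, b⟩ := valid_pw vX h6
    rw [mul_inv_eq_iff_eq_mul, ← mk_cl vY vX h7, h8, mk_cl a vY (by rw [← h8]; exact h7), b]
  · obtain ⟨a, b⟩ := valid_pw vY h9
    rw [mul_inv_eq_iff_eq_mul, ← mk_cl vW vY h10, h11, mk_cl a vW (by rw [← h11]; exact h10), b]
  · intro Z hZ
    obtain ⟨a, b⟩ := h12 Z hZ
    rw [← mk_cl (vZ Z hZ) vY a, b, mk_cl vY (vZ Z hZ) (by rw [← b]; exact a)]

/-- kill all candidates in the list -/
def killAll (X W : List ℕ) (T : List (ℕ × List ℕ × (ℕ × ℕ × ℕ))) : Bool := T.all fun t => kill X W t.2.1 t.1 t.2.2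

theorem valid_of {P : List ℕ} (h : isM24 P = true) : valid P = true := by
  rw [isM24, Bool.and_eq_true] at h
  exact h.1

end CfsgLib.OutM
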