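import Cfsg.Agent.LibOutM4

set_option autoImplicit false

/-! Outer automorphisms of Mathieu groups: assembling (seat helper15). -/

namespace CfsgLib.OutM

open Cfsg CfsgLib.Golay CfsgLib.M24
open scoped Pointwise

/-- elements of `M24` preserving the sets in `K` and fixing the points in `f` -/
def T (K f : List ℕ) : Subgroup (Equiv.Perm GolayPt) where
  carrier := {g | g ∈ M24 ∧ (∀ k ∈ K, g • fset k = fset k) ∧ ∀ i ∈ f, g (pt i) = pt i}
  one_mem' := ⟨Subgroup.one_mem _, fun _ _ => one_smul _ _, fun _ _ => rfl⟩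
  mul_mem' := by
    rintro g h ⟨hg, hg1, hg2⟩ ⟨hh, hh1, hh2⟩
    refine ⟨Subgroup.mul_mem _ hg hh, fun k hk => by rw [mul_smul, hh1 k hk, hg1 k hk], fun i hi => ?_⟩
    rw [Equiv.Perm.mul_apply, hh2 i hi, hg2 i hi]
  inv_mem' := by
    rintro g ⟨hg, hg1, hg2⟩
    refine ⟨Subgroup.inv_mem _ hg, fun k hk => by rw [inv_smul_eq_iff, hg1 k hk], fun i hi => ?_⟩
    rw [Equiv.Perm.inv_eq_iff_eq, hg2 i hi]

def inT (K f : List ℕ) (P : List ℕ) : Bool :=
  and (isM24 P) (and (K.all fun k => Nat.beq (pmask P k) k) (f.all fun i => and (Nat.blt i 24) (Nat.beq (P.getD i 0) i)))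

theorem inT_spec {K f P : List ℕ} (h : inT K f P = true) : valid P = true ∧ mkPerm P ∈ T K f := by
  rw [inT, Bool.and_eq_true, Bool.and_eq_true, List.all_eq_true, List.all_eq_true] at h
  have hv := valid_of h.1
  refine ⟨hv, isM24_spec h.1, fun k hk => ?_, fun i hi => ?_⟩
  · rw [smul_fset hv, beq_iff.1 (h.2.1 k hk)]
  · have := h.2.2 i hi
    rw [Bool.and_eq_true, Nat.blt_eq] at this
    rw [pt_mk hv this.1, beq_iff.1 this.2]

theorem T_le (K f : List ℕ) : T K f ≤ M24 := fun _ h => h.1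

/-- assembling the data -/
theorem dat_of {K f X Y W : List ℕ} {p e r m : ℕ} {ZS : List (List ℕ)} (hp : p.Prime)
    (h1 : (([X, Y, W] ++ ZS).all (inT K f)) = true) (hrel : relOK X Y W p e r m ZS = true)
    (hcard : ¬ p ^ 2 ∣ Nat.card (T K f)) (hr : IsCoprime (1 - (r : ℤ)) (p : ℤ)) (hm : IsCoprime (1 - (m : ℤ)) (e : ℤ))
    {known : List (ℕ × ℕ)} (hknown : known = K.map fun k => (k, k)) (hf : ∀ i ∈ f, i < 24)
    {cX cY : List (ℕ × ℕ)} {bX bY : List ℕ} {MX MY : ℕ}
    (hX : centOK X p known f cX bX [il] MX = true) (hY : centOK Y e known f cY bY ZS MY = true) :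
    Dat (T K f) X Y W p e r m ZS := by
  rw [List.all_eq_true] at h1
  have iX := inT_spec (h1 X (by simp))
  have iY := inT_spec (h1 Y (by simp))
  have iW := inT_spec (h1 W (by simp))
  have iZ : ∀ Z ∈ ZS, valid Z = true ∧ mkPerm Z ∈ T K f := fun Z hZ => inT_spec (h1 Z (by simp [hZ]))
  obtain ⟨a1, a2, a3, a4, a5, a6⟩ := rel_spec iX.1 iY.1 iW.1 (fun Z hZ => (iZ Z hZ).1) hrel
  have hpX : pwOK X p = true := by rw [relOK, Bool.and_eq_true] at hrel; exact hrel.1
  have hpY : pwOK Y e = true := by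
    simp only [relOK, Bool.and_eq_true] at hrel; exact hrel.2.2.2.1
  have hk : ∀ c ∈ T K f, ∀ k ∈ known, c • fset k.1 = fset k.2 := by
    intro c hc k hk
    rw [hknown, List.mem_map] at hk
    obtain ⟨j, hj, rfl⟩ := hk
    exact hc.2.1 j hj
  have hfix : ∀ c ∈ T K f, ∀ i ∈ f, i < 24 ∧ c (pt i) = pt i := fun c hc i hi => ⟨hf i hi, hc.2.2 i hi⟩
  exact
    { le := T_le K f
      vX := iX.1
      vY := iY.1
      vW := iW.1
      vZ := fun Z hZ => ⟨(iZ Z hZ).1, (iZ Z hZ).2, a6 Z hZ⟩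
      mX := iX.2
      mY := iY.2
      mW := iW.2
      pp := hp
      oX := a1
      nX := a2
      oY := a3
      card := hcard
      r1 := hr
      m1 := hm
      yx := a4
      wy := a5
      cX := by
        intro c hc hcomm
        obtain ⟨i, Z, hZ, e⟩ := cent_pow (T_le K f) iX.1 iX.2.1 hpX (ZS := [il]) (by
          intro Z hZ
          rw [List.mem_singleton] at hZ
          subst hZ
          exact ⟨valid_il, by rw [mk_il]; exact Subgroup.one_mem _⟩) hk hfix hX c hc hcomm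
        rw [List.mem_singleton] at hZ
        subst hZ
        exact ⟨i, by rw [e, mk_il, mul_one]⟩
      cY := cent_pow (T_le K f) iY.1 iY.2.1 hpY (fun Z hZ => ⟨(iZ Z hZ).1, (iZ Z hZ).2.1⟩) hk hfix hY }

/-- every surviving candidate is trivial -/
theorem inner_of {S : Subgroup (Equiv.Perm GolayPt)} {X Y W : List ℕ} {p e r m : ℕ} {ZS : List (List ℕ)}
    (d : Dat S X Y W p e r m ZS) (hgen : S ≤ Subgroup.closure {mkPerm X, mkPerm Y, mkPerm W})
    (hk : ∀ k < p, k ≠ 0 → ∀ Z ∈ ZS, (∃ t, kill X W Z k t = true) ∨ (k = 1 ∧ mkPerm Z = 1)) (α : MulAut S) : α ∈ Inn S := by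
  obtain ⟨g, k, hkp, hk0, Z, hZ, e1, e2, e3, hkill⟩ := d.main α
  rcases hk k hkp hk0 Z hZ with ⟨t, ht⟩ | ⟨rfl, hZ1⟩
  · rw [hkill t] at ht; exact absurd ht (by simp)
  · rw [pow_one] at e1
    rw [hZ1, mul_one] at e3
    apply inn_of_gen (A := {mkPerm X, mkPerm Y, mkPerm W}) hgen (by
      intro a ha
      rcases ha with rfl | rfl | rfl
      · exact d.mX
      · exact d.mY
      · exact d.mW) α g
    intro a ha
    rcases ha with rfl | rfl | rfl
    · exact e1
    · exact e2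
    · exact e3

/-- run specification for a subgroup generated by the lists -/
theorem gens_run {gens : List (List ℕ)} {ops : List (ℕ × ℕ × ℕ)} (hv : (gens.all valid) = true) (h : runOK gens ops = true) :
    ∀ P ∈ run gens ops, valid P = true ∧ mkPerm P ∈ Subgroup.closure {a | ∃ P ∈ gens, a = mkPerm P} := by
  rw [List.all_eq_true] at hv
  apply run_spec _ ops gens _ h
  intro P hP
  exact ⟨hv P hP, Subgroup.subset_closure ⟨P, hP, rfl⟩⟩

theorem fix_T {K f l : List ℕ} : fixH (T K f) l = T K (f ++ l) := by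
  ext g
  constructor
  · rintro ⟨⟨h1, h2, h3⟩, h4⟩
    refine ⟨h1, h2, fun i hi => ?_⟩
    rcases List.mem_append.1 hi with hi | hi
    · exact h3 i hi
    · exact h4 i hi
  · rintro ⟨h1, h2, h3⟩
    exact ⟨⟨h1, h2, fun i hi => h3 i (List.mem_append_left _ hi)⟩, fun i hi => h3 i (List.mem_append_right _ hi)⟩

theorem T_fixL (f : List ℕ) : T [] f = fixL f := by
  ext g
  constructor
  · rintro ⟨h1, _, h3⟩; exact ⟨h1, h3⟩
  · rintro ⟨h1, h3⟩; exact ⟨h1, by simp, h3⟩

/-- the outer case -/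
theorem outer_of {S : Subgroup (Equiv.Perm GolayPt)} (τ : Equiv.Perm GolayPt) (hτ2 : τ * τ = 1)
    (hτS : ∀ s ∈ S, τ * s * τ⁻¹ ∈ S) (hτn : ∀ h ∈ S, ¬ ∀ s ∈ S, τ * s * τ⁻¹ = h * s * h⁻¹)
    (hall : ∀ α : MulAut S, α ∈ Inn S ∨ ∃ g : S, ∀ s : S, ((g * α s * g⁻¹ : S) : Equiv.Perm GolayPt) = τ * s * τ⁻¹) :
    Nat.card (Out S) = 2 := by
  have hτi : τ⁻¹ = τ := by rw [inv_eq_iff_mul_eq_one]; exact hτ2
  let a : MulAut S :=
    { toFun := fun s => ⟨τ * s * τ⁻¹, hτS s s.2⟩
      invFun := fun s => ⟨τ * s * τ⁻¹, hτS s s.2⟩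
      left_inv := by
        intro s; apply Subtype.ext
        show τ * (τ * s * τ⁻¹) * τ⁻¹ = s
        rw [hτi]
        calc τ * (τ * (s : Equiv.Perm GolayPt) * τ) * τ = (τ * τ) * s * (τ * τ) := by group
          _ = s := by rw [hτ2]; group
      right_inv := by
        intro s; apply Subtype.ext
        show τ * (τ * s * τ⁻¹) * τ⁻¹ = s
        rw [hτi]
        calc τ * (τ * (s : Equiv.Perm GolayPt) * τ) * τ = (τ * τ) * s * (τ * τ) := by group
          _ = s := by rw [hτ2]; group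
      map_mul' := by
        intro s t; apply Subtype.ext
        show τ * (s * t : S) * τ⁻¹ = (τ * s * τ⁻¹) * (τ * t * τ⁻¹)
        rw [Subgroup.coe_mul]; group }
  have ha : ∀ s : S, ((a s : S) : Equiv.Perm GolayPt) = τ * s * τ⁻¹ := fun s => rfl
  have ha2 : a * a = 1 := by
    apply MulEquiv.ext
    intro s
    apply Subtype.ext
    have e1 : (a * a) s = a (a s) := rfl
    rw [e1, ha, ha, hτi]
    have : τ * (τ * (s : Equiv.Perm GolayPt) * τ) * τ = s := by
      calc τ * (τ * (s : Equiv.Perm GolayPt) * τ) * τ = (τ * τ) * s * (τ * τ) := by group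
        _ = s := by rw [hτ2]; group
    rw [this]; rfl
  have han : a ∉ Inn S := by
    rintro ⟨h, hh⟩
    apply hτn h h.2
    intro s hs
    have := congrArg (fun β : MulAut S => ((β ⟨s, hs⟩ : S) : Equiv.Perm GolayPt)) hh
    simp only [MulAut.conj_apply] at this
    rw [ha] at this
    exact this.symm
  have h2 : (Inn S).index = 2 := by
    rw [Subgroup.index_eq_two_iff]
    refine ⟨a, fun b => ?_⟩
    rcases hall b with hb | ⟨g, hg⟩
    · right
      refine ⟨hb, fun hba => han ?_⟩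
      have := (Inn S).mul_mem ((Inn S).inv_mem hb) hba
      rwa [inv_mul_cancel_left] at this
    · have hb : b = MulAut.conj g⁻¹ * a := by
        apply MulEquiv.ext
        intro s
        have h3 : g * b s * g⁻¹ = a s := Subtype.ext (hg s)
        have h4 : b s = g⁻¹ * a s * g := by rw [← h3]; group
        rw [MulAut.mul_apply, MulAut.conj_apply, inv_inv, h4]
      left
      refine ⟨?_, fun hbI => han ?_⟩
      · rw [hb, mul_assoc, ha2, mul_one]
        exact ⟨g⁻¹, rfl⟩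
      · rw [hb] at hbI
        have h5 : MulAut.conj g⁻¹ ∈ Inn S := ⟨g⁻¹, rfl⟩
        have := (Inn S).mul_mem ((Inn S).inv_mem h5) hbI
        rwa [inv_mul_cancel_left] at this
  exact h2

end CfsgLib.OutM
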