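import Cfsg.Agent.LibOutM4

set_option autoImplicit false
set_option maxRecDepth 100000

namespace CfsgLib.OutM

open CfsgLib.Golay CfsgLib.M24

namespace D22

def X : List ℕ := [0, 2, 4, 6, 8, 10, 12, 14, 16, 18, 20, 22, 1, 3, 5, 7, 9, 11, 13, 15, 17, 19, 21, 23]
def Y : List ℕ := [0, 1, 16, 12, 3, 5, 8, 17, 2, 6, 11, 22, 13, 18, 19, 14, 9, 10, 4, 21, 15, 20, 7, 23]
def W : List ℕ := [0, 5, 2, 17, 22, 1, 16, 18, 6, 8, 13, 4, 11, 7, 14, 20, 9, 3, 10, 21, 19, 15, 12, 23]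

def ZS : List (List ℕ) := [[0, 1, 2, 3, 4, 5, 6, 7, 8, 9, 10, 11, 12, 13, 14, 15, 16, 17, 18, 19, 20, 21, 22, 23]]

def cX : List (ℕ × ℕ) := [(5279, 1148257), (5279, 2121909), (5279, 1250945), (5279, 6302745), (5279, 542009), (5279, 4505735), (5279, 4597797), (5279, 563843), (5279, 1460739), (5279, 2854977), (5279, 7864649)]
def cY : List (ℕ × ℕ) := [(45159, 45159), (1116327, 6292775), (1116327, 1116327), (262637, 8663097), (45159, 2162811), (1065303, 12717187), (45159, 786999), (1116327, 10496547), (1116327, 4424227), (45159, 3719203), (11010247, 262637), (1065303, 8663097), (11010247, 334433), (262637, 12717187), (11010247, 4203377), (11010247, 75309), (11010247, 201013)]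

def known : List (ℕ × ℕ) := []
def fixl : List ℕ := [0, 23]

theorem cX_ok : centOK X 11 known fixl cX [1] [il] 8729439 = true := by decide +kernel

theorem cY_ok : centOK Y 5 known fixl cY [1, 5, 2, 7] ZS 12783591 = true := by decide +kernel

theorem rel_ok : relOK X Y W 11 5 4 2 ZS = true := by decide +kernel

theorem mem_ok : (([X, Y, W] ++ ZS).all isM24) = true := by decide +kernel

def ops : List (ℕ × ℕ × ℕ) := [(1, 0, 0), (0, 0, 0), (0, 0, 4), (0, 0, 5), (0, 0, 6), (0, 0, 7), (0, 0, 8), (0, 0, 9), (0, 1, 1), (0, 1, 11), (0, 0, 2), (0, 2, 4), (0, 2, 13), (0, 2, 15), (0, 2, 16), (0, 2, 0), (0, 18, 1), (0, 19, 0), (0, 10, 20), (0, 0, 1), (0, 13, 2), (0, 23, 1), (0, 3, 24), (0, 1, 25), (0, 15, 0), (1, 14, 0), (0, 28, 27), (0, 29, 1), (0, 1, 29), (0, 29, 29), (0, 1, 30), (0, 29, 31), (0, 1, 33), (0, 29, 34), (0, 29, 35), (0, 32, 12), (0, 38, 21), (0, 21, 38), (0, 21, 39), (0, 38, 40), (0, 22, 1), (0, 43, 0), (1, 17,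 0), (0, 45, 44), (1, 37, 0), (0, 47, 46), (1, 42, 0), (0, 49, 48), (0, 50, 50), (0, 20, 0), (0, 9, 52), (1, 36, 0), (0, 54, 53), (1, 40, 0), (0, 56, 55), (0, 50, 57), (1, 41, 0), (0, 59, 56), (0, 51, 60), (0, 13, 1), (0, 62, 0), (0, 45, 63), (0, 51, 64)]

def gens : List (List ℕ) := [X, Y, W] ++ []

theorem run_ok : runOK gens ops = true := by decide +kernel

theorem lv0 : lvOK (run gens ops) [23, 0] 1 8388606 [0, 2, 1, 29, 21, 38, 50, 26, 58, 61, 65] = true := by decide +kernel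

theorem lv1 : lvOK (run gens ops) [23, 0, 1] 2 8388604 [1, 29, 21, 38, 50, 26, 58, 61, 65] = true := by decide +kernel

theorem lv2 : lvOK (run gens ops) [23, 0, 1, 2] 3 8388600 [21, 38, 50, 26, 58, 61, 65] = true := by decide +kernel

theorem lv3 : lvOK (run gens ops) [23, 0, 1, 2, 3] 5 147488 [50, 26, 58, 61, 65] = true := by decide +kernel

theorem lv4 : lvOK (run gens ops) [23, 0, 1, 2, 3, 5] 4 8241104 [26, 58, 61, 65] = true := by decide +kernel

def kt : List (ℕ × List ℕ × (ℕ × ℕ × ℕ)) := [(2, ZS.getD 0 [], (1, 2, 3)), (3, ZS.getD 0 [], (1, 2, 3)), (4, ZS.getD 0 [], (1, 2, 3)), (5, ZS.getD 0 [], (1, 2, 3)), (6, ZS.getD 0 [], (1, 2, 3)), (7, ZS.getD 0 [], (1, 2, 3)), (8, ZS.getD 0 [], (1, 2, 3)), (9, ZS.getD 0 [], (1, 2, 3))]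

theorem kt_ok : killAll X W kt = true := by decide +kernel

end D22

end CfsgLib.OutM
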