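import Cfsg.Agent.LibOutM4

set_option autoImplicit false
set_option maxRecDepth 100000

namespace CfsgLib.OutM

open CfsgLib.Golay CfsgLib.M24

namespace D23

def X : List ℕ := [1, 2, 3, 4, 5, 6, 7, 8, 9, 10, 11, 12, 13, 14, 15, 16, 17, 18, 19, 20, 21, 22, 0, 23]
def Y : List ℕ := [0, 2, 4, 6, 8, 10, 12, 14, 16, 18, 20, 22, 1, 3, 5, 7, 9, 11, 13, 15, 17, 19, 21, 23]
def W : List ℕ := [0, 1, 16, 12, 3, 5, 8, 17, 2, 6, 11, 22, 13, 18, 19, 14, 9, 10, 4, 21, 15, 20, 7, 23]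

def ZS : List (List ℕ) := [[0, 1, 2, 3, 4, 5, 6, 7, 8, 9, 10, 11, 12, 13, 14, 15, 16, 17, 18, 19, 20, 21, 22, 23]]

def cX : List (ℕ × ℕ) := []
def cY : List (ℕ × ℕ) := [(8683614, 5280930), (8683614, 2769128), (8683614, 3294342), (8683614, 7409024), (8683614, 580704), (8683614, 7397512), (8683614, 4361520), (8683614, 5024896), (8683614, 1722420), (8683614, 3050016), (8683614, 8077824)]

def known : List (ℕ × ℕ) := []
def fixl : List ℕ := [23]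

theorem cX_ok : centOK X 23 known fixl cX [0] [il] 16777215 = true := by decide +kernel

theorem cY_ok : centOK Y 11 known fixl cY [1] ZS 8729438 = true := by decide +kernel

theorem rel_ok : relOK X Y W 23 11 2 4 ZS = true := by decide +kernel

theorem mem_ok : (([X, Y, W] ++ ZS).all isM24) = true := by decide +kernel

def ops : List (ℕ × ℕ × ℕ) := [(1, 0, 0), (0, 0, 0), (0, 0, 4), (0, 0, 5), (0, 0, 6), (0, 0, 7), (0, 0, 8), (0, 0, 9), (0, 0, 10), (0, 0, 11), (0, 0, 12), (0, 0, 13), (0, 0, 14), (0, 0, 15), (0, 0, 16), (0, 0, 17), (0, 0, 18), (0, 0, 19), (0, 0, 20), (0, 0, 21), (0, 1, 2), (0, 23, 2), (0, 24, 2), (0, 25, 1), (0, 2, 0), (0, 27, 2), (0, 3, 28), (0, 29, 1), (0, 1, 29), (0, 1, 30), (0, 29, 30), (0, 1, 31), (0, 29, 31), (0, 29, 33), (0, 1, 34), (0, 1, 35), (0, 29, 36), (0, 2, 1), (0, 40, 0), (0, 41, 0), (0, 22, 42), (1, 37, 0), (0, 44, 43), (0, 45, 2), (0, 2, 45), (0,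 45, 45), (0, 2, 46), (0, 2, 47), (0, 45, 47), (0, 45, 48), (0, 2, 52), (1, 33, 0), (0, 54, 40), (0, 45, 55), (0, 40, 2), (0, 54, 57), (1, 49, 0), (0, 59, 58), (0, 60, 56), (0, 60, 60), (0, 56, 61), (0, 60, 61), (0, 60, 64), (1, 39, 0), (0, 66, 26), (0, 48, 67), (1, 65, 0), (0, 69, 68), (0, 28, 2), (0, 71, 0), (0, 9, 72), (1, 32, 0), (0, 74, 73), (1, 53, 0), (0, 76, 75), (0, 70, 77), (0, 40, 1), (1, 35, 0), (0, 80, 79), (1, 50, 0), (0, 82, 81), (0, 62, 83), (0, 57, 1), (0, 38, 85), (1, 63, 0), (0, 87, 86), (0, 70, 88), (0, 9, 41), (1, 36, 0), (0, 91, 90), (1, 51, 0), (0, 93, 92), (1, 61, 0), (0, 95, 94)]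

def gens : List (List ℕ) := [X, Y, W] ++ []

theorem run_ok : runOK gens ops = true := by decide +kernel

theorem lv0 : lvOK (run gens ops) [23] 0 8388607 [0, 1, 29, 2, 45, 56, 60, 70, 78, 84, 89, 96] = true := by decide +kernel

theorem lv1 : lvOK (run gens ops) [23, 0] 1 8388606 [1, 29, 2, 45, 56, 60, 70, 78, 84, 89, 96] = true := by decide +kernel

theorem lv2 : lvOK (run gens ops) [23, 0, 1] 2 8388604 [2, 45, 56, 60, 70, 78, 84, 89, 96] = true := by decide +kernel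

theorem lv3 : lvOK (run gens ops) [23, 0, 1, 2] 3 8388600 [56, 60, 70, 78, 84, 89, 96] = true := by decide +kernel

theorem lv4 : lvOK (run gens ops) [23, 0, 1, 2, 3] 5 147488 [70, 78, 84, 89, 96] = true := by decide +kernel

theorem lv5 : lvOK (run gens ops) [23, 0, 1, 2, 3, 5] 4 8241104 [78, 84, 89, 96] = true := by decide +kernel

def kt : List (ℕ × List ℕ × (ℕ × ℕ × ℕ)) := [(2, ZS.getD 0 [], (1, 1, 5)), (3, ZS.getD 0 [], (1, 1, 5)), (4, ZS.getD 0 [], (1, 1, 5)), (5, ZS.getD 0 [], (1, 1, 5)), (6, ZS.getD 0 [], (1, 1, 5)), (7, ZS.getD 0 [], (1, 1, 5)), (8, ZS.getD 0 [], (1, 1, 5)), (9, ZS.getD 0 [], (1, 1, 5)), (10, ZS.getD 0 [], (1, 1, 5)), (11, ZS.getD 0 [], (1, 1, 5)), (12, ZS.getD 0 [], (1, 1, 5)), (13, ZS.getD 0 [], (1, 1, 5)), (14, ZS.getD 0 [], (1, 1, 5)), (15, ZS.getD 0 [], (1, 1, 5)), (16, ZS.getD 0 [], (1, 1, 5)), (17, ZS.getD 0 [], (1, 1, 5)), (18, ZS.getD 0 [], (1,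 1, 5)), (19, ZS.getD 0 [], (1, 1, 5)), (20, ZS.getD 0 [], (1, 1, 5)), (21, ZS.getD 0 [], (1, 1, 5)), (22, ZS.getD 0 [], (1, 1, 5))]

theorem kt_ok : killAll X W kt = true := by decide +kernel

end D23

end CfsgLib.OutM
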