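import Cfsg.Agent.LibOutM4

set_option autoImplicit false
set_option maxRecDepth 100000

namespace CfsgLib.OutM

open CfsgLib.Golay CfsgLib.M24

namespace D24

def X : List ℕ := [1, 2, 3, 4, 5, 6, 7, 8, 9, 10, 11, 12, 13, 14, 15, 16, 17, 18, 19, 20, 21, 22, 0, 23]
def Y : List ℕ := [0, 2, 4, 6, 8, 10, 12, 14, 16, 18, 20, 22, 1, 3, 5, 7, 9, 11, 13, 15, 17, 19, 21, 23]
def W : List ℕ := [23, 5, 20, 22, 11, 1, 19, 13, 21, 14, 4, 3, 7, 17, 6, 9, 15, 18, 10, 8, 16, 2, 12, 0]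

def ZS : List (List ℕ) := [[0, 1, 2, 3, 4, 5, 6, 7, 8, 9, 10, 11, 12, 13, 14, 15, 16, 17, 18, 19, 20, 21, 22, 23]]

def cX : List (ℕ × ℕ) := []
def cY : List (ℕ × ℕ) := [(8683614, 5280930), (8683614, 2769128), (8683614, 3294342), (8683614, 7409024), (8683614, 580704), (8683614, 7397512), (8683614, 4361520), (8683614, 5024896), (8683614, 1722420), (8683614, 3050016), (8683614, 8077824)]

def known : List (ℕ × ℕ) := []
def fixl : List ℕ := []

theorem cX_ok : centOK X 23 known fixl cX [0] [il] 8388607 = true := by decide +kernel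

theorem cY_ok : centOK Y 11 known fixl cY [1] ZS 340830 = true := by decide +kernel

theorem rel_ok : relOK X Y W 23 11 2 2 ZS = true := by decide +kernel

theorem mem_ok : (([X, Y, W] ++ ZS).all isM24) = true := by decide +kernel

def ops : List (ℕ × ℕ × ℕ) := [(1, 0, 0), (0, 0, 0), (0, 0, 4), (0, 0, 5), (0, 0, 6), (0, 0, 7), (0, 0, 8), (0, 0, 9), (0, 0, 10), (0, 0, 11), (0, 0, 12), (0, 0, 13), (0, 0, 14), (0, 0, 15), (0, 0, 16), (0, 1, 1), (0, 1, 18), (0, 1, 19), (0, 1, 20), (0, 1, 21), (0, 1, 22), (0, 1, 23), (0, 1, 0), (0, 25, 1), (0, 26, 2), (0, 27, 27), (0, 2, 28), (0, 27, 28), (0, 27, 29), (0, 27, 30), (0, 2, 2), (0, 33, 0), (0, 3, 34), (0, 35, 1), (0, 1, 35), (0, 35, 35), (0, 35, 36), (0, 1, 37), (0, 1, 38), (0, 35, 38), (0, 35, 39), (0, 35, 40), (0, 1, 41), (0, 35, 43), (0, 35, 44), (0, 6, 2), (0, 28, 48), (0, 12, 49), (1, 43, 0), (0, 51, 50), (0, 52, 52), (0, 52, 53), (0, 52,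 54), (0, 52, 55), (0, 52, 56), (1, 47, 0), (0, 58, 22), (0, 59, 59), (0, 59, 53), (0, 52, 60), (0, 52, 61), (0, 59, 61), (0, 59, 62), (0, 2, 0), (0, 66, 2), (0, 67, 1), (0, 68, 0), (1, 31, 0), (0, 70, 69), (0, 0, 71), (1, 40, 0), (0, 73, 72), (0, 74, 74), (0, 74, 75), (0, 74, 76), (0, 0, 2), (0, 32, 78), (0, 0, 79), (1, 45, 0), (0, 81, 80), (1, 65, 0), (0, 83, 82), (0, 84, 84), (1, 46, 0), (0, 86, 24), (0, 56, 87), (0, 84, 88), (0, 42, 19), (1, 63, 0), (0, 91, 90), (0, 77, 92), (1, 64, 0), (0, 94, 33), (0, 74, 95), (0, 74, 96), (0, 33, 1), (1, 41, 0), (0, 99, 98), (1, 61, 0), (0, 101, 100), (0, 75, 102), (0, 85, 103), (0, 78, 0), (1, 97, 0), (0, 105, 1), (0, 32, 107), (0, 17, 108), (0, 99, 109), (0, 57, 110), (0, 106, 111), (0, 85, 112)]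

def gens : List (List ℕ) := [X, Y, W] ++ []

theorem run_ok : runOK gens ops = true := by decide +kernel

theorem lv0 : lvOK (run gens ops) [] 23 16777215 [2, 27, 0, 1, 35, 52, 59, 74, 95, 84, 89, 93, 104, 113] = true := by decide +kernel

theorem lv1 : lvOK (run gens ops) [23] 0 8388607 [0, 1, 35, 52, 59, 74, 95, 84, 89, 93, 104, 113] = true := by decide +kernel

theorem lv2 : lvOK (run gens ops) [23, 0] 1 8388606 [1, 35, 52, 59, 74, 95, 84, 89, 93, 104, 113] = true := by decide +kernel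

theorem lv3 : lvOK (run gens ops) [23, 0, 1] 2 8388604 [52, 59, 74, 95, 84, 89, 93, 104, 113] = true := by decide +kernel

theorem lv4 : lvOK (run gens ops) [23, 0, 1, 2] 3 8388600 [74, 95, 84, 89, 93, 104, 113] = true := by decide +kernel

theorem lv5 : lvOK (run gens ops) [23, 0, 1, 2, 3] 5 147488 [84, 89, 93, 104, 113] = true := by decide +kernel

theorem lv6 : lvOK (run gens ops) [23, 0, 1, 2, 3, 5] 4 8241104 [89, 93, 104, 113] = true := by decide +kernel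

def kt : List (ℕ × List ℕ × (ℕ × ℕ × ℕ)) := [(2, ZS.getD 0 [], (1, 2, 5)), (3, ZS.getD 0 [], (1, 2, 5)), (4, ZS.getD 0 [], (1, 2, 5)), (5, ZS.getD 0 [], (1, 2, 5)), (6, ZS.getD 0 [], (1, 2, 5)), (7, ZS.getD 0 [], (1, 2, 5)), (8, ZS.getD 0 [], (1, 2, 5)), (9, ZS.getD 0 [], (1, 2, 5)), (10, ZS.getD 0 [], (1, 2, 5)), (11, ZS.getD 0 [], (1, 2, 5)), (12, ZS.getD 0 [], (1, 2, 5)), (13, ZS.getD 0 [], (1, 2, 5)), (14, ZS.getD 0 [], (1, 2, 5)), (15, ZS.getD 0 [], (1, 2, 5)), (16, ZS.getD 0 [], (1, 2, 5)), (17, ZS.getD 0 [], (1, 2, 5)), (18, ZS.getD 0 [], (1, 2, 5)), (19, ZS.getD 0 [], (1, 2, 5)), (20, ZS.getD 0 [], (1, 2, 5)), (21, ZS.getD 0 [], (1, 2, 5)), (22, ZS.getD 0 [], (1, 2, 5))]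

theorem kt_ok : killAll X W kt = true := by decide +kernel

end D24

end CfsgLib.OutM
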