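import Cfsg.Agent.LibOutM5
import Cfsg.Agent.LibOutMD24
import Cfsg.Agent.LibOutMD23
import Cfsg.Agent.LibOutMD22
import Cfsg.Prelude.Def_Spor_Mathieu

set_option autoImplicit false

/-! Outer automorphisms of M24, M23, M22 (seat helper15). -/

namespace CfsgLib.OutM

open Cfsg CfsgLib.Golay CfsgLib.M24
open scoped Pointwise

def covK (p : ℕ) (ZS : List (List ℕ)) (kt : List (ℕ × List ℕ × (ℕ × ℕ × ℕ))) (sv : List (ℕ × List ℕ)) : Bool :=
  (List.range p).all fun k => or (k == 0) (ZS.all fun Z => or (kt.any fun t => and (t.1 == k) (t.2.1 == Z))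
    (sv.any fun s => and (s.1 == k) (s.2 == Z)))

theorem cov_spec {X W : List ℕ} {p : ℕ} {ZS : List (List ℕ)} {kt : List (ℕ × List ℕ × (ℕ × ℕ × ℕ))} {sv : List (ℕ × List ℕ)}
    (h1 : killAll X W kt = true) (h2 : covK p ZS kt sv = true) :
    ∀ k < p, k ≠ 0 → ∀ Z ∈ ZS, (∃ t, kill X W Z k t = true) ∨ (k, Z) ∈ sv := by
  intro k hk hk0 Z hZ
  rw [covK, List.all_eq_true] at h2
  have h3 := h2 k (List.mem_range.2 hk)
  rw [Bool.or_eq_true, beq_iff_eq] at h3
  rcases h3 with h3 | h3
  · exact absurd h3 hk0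
  rw [List.all_eq_true] at h3
  have h4 := h3 Z hZ
  rw [Bool.or_eq_true, List.any_eq_true, List.any_eq_true] at h4
  rcases h4 with ⟨t, ht, h4⟩ | ⟨s, hs, h4⟩
  · left
    rw [Bool.and_eq_true, beq_iff_eq, beq_iff_eq] at h4
    rw [killAll, List.all_eq_true] at h1
    have := h1 t ht
    rw [h4.1, h4.2] at this
    exact ⟨_, this⟩
  · right
    rw [Bool.and_eq_true, beq_iff_eq, beq_iff_eq] at h4
    rw [← h4.1, ← h4.2]; exact hs

theorem toL {K f l : List ℕ} {g : Equiv.Perm GolayPt} (h : g ∈ fixH (T K f) l) : g ∈ fixL l := ⟨h.1.1, h.2⟩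

theorem last24 (H : Subgroup (Equiv.Perm GolayPt)) {f : List ℕ} : ∀ g ∈ fixH (T [] f) [23, 0, 1, 2, 3, 5, 4], g ∈ H := by
  intro g hg
  have := toL hg
  rw [fixL_base, Subgroup.mem_bot] at this
  rw [this]; exact H.one_mem

theorem gens_le {gens : List (List ℕ)} {S : Subgroup (Equiv.Perm GolayPt)} (h : ∀ P ∈ gens, mkPerm P ∈ S) :
    Subgroup.closure {a | ∃ P ∈ gens, a = mkPerm P} ≤ S := by
  rw [Subgroup.closure_le]
  rintro a ⟨P, hP, rfl⟩
  exact h P hP

theorem gens_three {X Y W : List ℕ} : Subgroup.closure {a : Equiv.Perm GolayPt | ∃ P ∈ ([X, Y, W] ++ [] : List (List ℕ)), a = mkPerm P} =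
    Subgroup.closure {mkPerm X, mkPerm Y, mkPerm W} := by
  congr 1
  ext a
  simp

theorem gen24 : T [] [] ≤ Subgroup.closure {mkPerm D24.X, mkPerm D24.Y, mkPerm D24.W} := by
  have hv : (D24.gens.all valid) = true := by decide +kernel
  have hN := gens_run hv D24.run_ok
  have hin : (D24.gens.all (inT [] [])) = true := by decide +kernel
  rw [List.all_eq_true] at hin
  have hHS := gens_le (gens := D24.gens) (S := T [] []) (fun P hP => (inT_spec (hin P hP)).2)
  have s7 := last24 (Subgroup.closure {a | ∃ P ∈ D24.gens, a = mkPerm P}) (f := [])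
  have s6 := chain_step hHS (lv_spec hN (by decide) (by decide) D24.lv6) (fun g hg => orb6 g (toL hg)) s7
  have s5 := chain_step hHS (lv_spec hN (by decide) (by decide) D24.lv5) (fun g hg => orb5 g (toL hg)) s6
  have s4 := chain_step hHS (lv_spec hN (by decide) (by decide) D24.lv4) (fun g hg => orb4 g (toL hg)) s5
  have s3 := chain_step hHS (lv_spec hN (by decide) (by decide) D24.lv3) (fun g hg => orb3 g (toL hg)) s4
  have s2 := chain_step hHS (lv_spec hN (by decide) (by decide) D24.lv2) (fun g hg => orb2 g (toL hg)) s3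
  have s1 := chain_step hHS (lv_spec hN (by decide) (by decide) D24.lv1) (fun g hg => orb1 g (toL hg)) s2
  have s0 := chain_step hHS (lv_spec hN (by decide) (by decide) D24.lv0) (fun g hg => by
    generalize g (pt 23) = p; revert p; decide +kernel) s1
  intro g hg
  have := s0 g ⟨hg, by simp⟩
  rw [← gens_three]; exact this

theorem gen23 : T [] [23] ≤ Subgroup.closure {mkPerm D23.X, mkPerm D23.Y, mkPerm D23.W} := by
  have hv : (D23.gens.all valid) = true := by decide +kernel
  have hN := gens_run hv D23.run_ok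
  have hin : (D23.gens.all (inT [] [23])) = true := by decide +kernel
  rw [List.all_eq_true] at hin
  have hHS := gens_le (gens := D23.gens) (S := T [] [23]) (fun P hP => (inT_spec (hin P hP)).2)
  have s7 := last24 (Subgroup.closure {a | ∃ P ∈ D23.gens, a = mkPerm P}) (f := [23])
  have s6 := chain_step hHS (lv_spec hN (by decide) (by decide) D23.lv5) (fun g hg => orb6 g (toL hg)) s7
  have s5 := chain_step hHS (lv_spec hN (by decide) (by decide) D23.lv4) (fun g hg => orb5 g (toL hg)) s6
  have s4 := chain_step hHS (lv_spec hN (by decide) (by decide) D23.lv3) (fun g hg => orb4 g (toL hg)) s5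
  have s3 := chain_step hHS (lv_spec hN (by decide) (by decide) D23.lv2) (fun g hg => orb3 g (toL hg)) s4
  have s2 := chain_step hHS (lv_spec hN (by decide) (by decide) D23.lv1) (fun g hg => orb2 g (toL hg)) s3
  have s1 := chain_step hHS (lv_spec hN (by decide) (by decide) D23.lv0) (fun g hg => orb1 g (toL hg)) s2
  intro g hg
  have := s1 g ⟨hg, hg.2.2⟩
  rw [← gens_three]; exact this

theorem gen22 : T [] [0, 23] ≤ Subgroup.closure {mkPerm D22.X, mkPerm D22.Y, mkPerm D22.W} := by
  have hv : (D22.gens.all valid) = true := by decide +kernel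
  have hN := gens_run hv D22.run_ok
  have hin : (D22.gens.all (inT [] [0, 23])) = true := by decide +kernel
  rw [List.all_eq_true] at hin
  have hHS := gens_le (gens := D22.gens) (S := T [] [0, 23]) (fun P hP => (inT_spec (hin P hP)).2)
  have s7 := last24 (Subgroup.closure {a | ∃ P ∈ D22.gens, a = mkPerm P}) (f := [0, 23])
  have s6 := chain_step hHS (lv_spec hN (by decide) (by decide) D22.lv4) (fun g hg => orb6 g (toL hg)) s7
  have s5 := chain_step hHS (lv_spec hN (by decide) (by decide) D22.lv3) (fun g hg => orb5 g (toL hg)) s6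
  have s4 := chain_step hHS (lv_spec hN (by decide) (by decide) D22.lv2) (fun g hg => orb4 g (toL hg)) s5
  have s3 := chain_step hHS (lv_spec hN (by decide) (by decide) D22.lv1) (fun g hg => orb3 g (toL hg)) s4
  have s2 := chain_step hHS (lv_spec hN (by decide) (by decide) D22.lv0) (fun g hg => orb2 g (toL hg)) s3
  intro g hg
  have := s2 g ⟨hg, by
    intro i hi
    apply hg.2.2
    rcases List.mem_cons.1 hi with rfl | hi
    · simp
    · rw [List.mem_singleton] at hi; subst hi; simp⟩
  rw [← gens_three]; exact this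

theorem M24_eq : M24 = T [] [] := by rw [T_fixL, fixL_nil]

theorem M23_eq : Spor.M23 = T [] [23] := by
  ext g
  constructor
  · rintro ⟨h1, h2⟩
    exact ⟨h1, by simp, by
      intro i hi
      rw [List.mem_singleton] at hi; subst hi
      exact h2⟩
  · rintro ⟨h1, _, h2⟩
    exact ⟨h1, h2 23 (by simp)⟩

theorem M22_eq : Spor.M22 = T [] [0, 23] := by
  ext g
  constructor
  · rintro ⟨⟨h1, h2⟩, h3⟩
    exact ⟨h1, by simp, by
      intro i hi
      rcases List.mem_cons.1 hi with rfl | hi
      · exact h3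
      · rw [List.mem_singleton] at hi; subst hi; exact h2⟩
  · rintro ⟨h1, _, h2⟩
    exact ⟨⟨h1, h2 23 (by simp)⟩, h2 0 (by simp)⟩

theorem dat24 : Dat (T [] []) D24.X D24.Y D24.W 23 11 2 2 D24.ZS :=
  dat_of (by norm_num) (by decide +kernel) D24.rel_ok (by
    rw [← M24_eq, card_M24]; norm_num) (by norm_num) (by norm_num) (by decide) (by simp) D24.cX_ok D24.cY_ok

theorem dat23 : Dat (T [] [23]) D23.X D23.Y D23.W 23 11 2 4 D23.ZS :=
  dat_of (by norm_num) (by decide +kernel) D23.rel_ok (by
    rw [T_fixL, card1]; norm_num) (by norm_num) (by norm_num) (by decide) (by simp) D23.cX_ok D23.cY_ok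

theorem card22 : Nat.card (T [] [0, 23]) = 443520 := by
  rw [← card2]
  congr 2
  rw [T_fixL]
  ext g
  constructor
  · rintro ⟨h1, h2⟩
    exact ⟨h1, by intro i hi; apply h2; revert hi; simp; tauto⟩
  · rintro ⟨h1, h2⟩
    exact ⟨h1, by intro i hi; apply h2; revert hi; simp; tauto⟩

theorem dat22 : Dat (T [] [0, 23]) D22.X D22.Y D22.W 11 5 4 2 D22.ZS :=
  dat_of (by norm_num) (by decide +kernel) D22.rel_ok (by
    rw [card22]; norm_num) (by norm_num) (by norm_num) (by decide) (by simp) D22.cX_ok D22.cY_ok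

theorem out24 : Nat.card (Out ↥M24) = 1 := by
  rw [M24_eq]
  apply card_out_one
  apply inner_of dat24 gen24
  intro k hk hk0 Z hZ
  rcases cov_spec D24.kt_ok (p := 23) (ZS := D24.ZS) (sv := [(1, il)]) (by decide +kernel) k hk hk0 Z hZ with h | h
  · exact Or.inl h
  · right
    rw [List.mem_singleton, Prod.mk.injEq] at h
    exact ⟨h.1, by rw [h.2, mk_il]⟩

theorem out23 : Nat.card (Out ↥Spor.M23) = 1 := by
  rw [M23_eq]
  apply card_out_one
  apply inner_of dat23 gen23
  intro k hk hk0 Z hZ
  rcases cov_spec D23.kt_ok (p := 23) (ZS := D23.ZS) (sv := [(1, il)]) (by decide +kernel) k hk hk0 Z hZ with h | h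
  · exact Or.inl h
  · right
    rw [List.mem_singleton, Prod.mk.injEq] at h
    exact ⟨h.1, by rw [h.2, mk_il]⟩

/-- the outer element -/
def tau : List ℕ := [23, 5, 14, 17, 7, 1, 20, 4, 15, 21, 12, 13, 10, 11, 2, 8, 19, 3, 22, 16, 6, 9, 18, 0]

theorem tau_M24 : isM24 tau = true := by decide +kernel

theorem tau_sq : mkPerm tau * mkPerm tau = 1 := by
  have hv := valid_of tau_M24
  have : cl tau tau = il := by decide +kernel
  rw [← mk_cl hv hv (by rw [this]; exact valid_il), this, mk_il]

/-- the centraliser in `M24` of the element of order eleven -/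
theorem cent_y {c : Equiv.Perm GolayPt} (hc : c ∈ M24) (h : c * mkPerm D24.Y = mkPerm D24.Y * c) :
    ∃ i : ℕ, c = mkPerm D24.Y ^ i := by
  rw [M24_eq] at hc
  obtain ⟨i, Z, hZ, e⟩ := dat24.cY c hc h
  have : D24.ZS = [il] := by decide +kernel
  rw [this, List.mem_singleton] at hZ
  subst hZ
  exact ⟨i, by rw [e, mk_il, mul_one]⟩

theorem tau_not_inner {S : Subgroup (Equiv.Perm GolayPt)} (hS : S ≤ M24) (hy : mkPerm D24.Y ∈ S) (hτ : mkPerm tau ∉ S) :
    ∀ h ∈ S, ¬ ∀ s ∈ S, mkPerm tau * s * (mkPerm tau)⁻¹ = h * s * h⁻¹ := by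
  intro h hh hall
  have h1 := hall _ hy
  obtain ⟨i, hi⟩ := cent_y (c := h⁻¹ * mkPerm tau) (M24.mul_mem (M24.inv_mem (hS hh)) (isM24_spec tau_M24)) (by
    have : h⁻¹ * mkPerm tau * mkPerm D24.Y = h⁻¹ * (mkPerm tau * mkPerm D24.Y * (mkPerm tau)⁻¹) * mkPerm tau := by group
    rw [this, h1]; group)
  apply hτ
  have : mkPerm tau = h * (h⁻¹ * mkPerm tau) := by group
  rw [this, hi]
  exact S.mul_mem hh (S.pow_mem hy i)

theorem tau_apply {i : ℕ} (hi : i < 24) : mkPerm tau (pt i) = pt (tau.getD i 0) := pt_mk (valid_of tau_M24) hi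

theorem out22 : Nat.card (Out ↥Spor.M22) = 2 := by
  rw [M22_eq]
  have hv := valid_of tau_M24
  have hτ0 : mkPerm tau (pt 0) = pt 23 := by rw [tau_apply (by norm_num)]; rfl
  have hτ23 : mkPerm tau (pt 23) = pt 0 := by rw [tau_apply (by norm_num)]; rfl
  have hτi : (mkPerm tau)⁻¹ = mkPerm tau := by rw [inv_eq_iff_mul_eq_one]; exact tau_sq
  have hXY : D22.X = D24.Y := by decide +kernel
  apply outer_of (mkPerm tau) tau_sq
  · rintro s ⟨h1, _, h2⟩
    refine ⟨M24.mul_mem (M24.mul_mem (isM24_spec tau_M24) h1) (M24.inv_mem (isM24_spec tau_M24)), by simp, ?_⟩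
    intro i hi
    rw [hτi, Equiv.Perm.mul_apply, Equiv.Perm.mul_apply]
    rcases List.mem_cons.1 hi with rfl | hi
    · rw [hτ0, h2 23 (by simp), hτ23]
    · rw [List.mem_singleton] at hi; subst hi
      rw [hτ23, h2 0 (by simp), hτ0]
  · apply tau_not_inner (T_le _ _)
    · rw [← hXY]; exact dat22.mX
    · rintro ⟨_, _, h⟩
      have := h 0 (by simp)
      rw [hτ0] at this
      exact absurd (pt_inj (by norm_num) (by norm_num) this) (by norm_num)
  · intro α
    obtain ⟨g, k, hkp, hk0, Z, hZ, e1, e2, e3, hkill⟩ := dat22.main α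
    rcases cov_spec D22.kt_ok (p := 11) (ZS := D22.ZS) (sv := [(1, il), (10, il)]) (by decide +kernel) k hkp hk0 Z hZ with ⟨t, ht⟩ | h
    · rw [hkill t] at ht; exact absurd ht (by simp)
    · have hA : ({mkPerm D22.X, mkPerm D22.Y, mkPerm D22.W} : Set (Equiv.Perm GolayPt)) ⊆ T [] [0, 23] := by
        intro a ha
        rcases ha with rfl | rfl | rfl
        · exact dat22.mX
        · exact dat22.mY
        · exact dat22.mW
      simp only [List.mem_cons, List.not_mem_nil, or_false, Prod.mk.injEq] at h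
      rcases h with ⟨rfl, rfl⟩ | ⟨rfl, rfl⟩
      · left
        rw [pow_one] at e1
        rw [mk_il, mul_one] at e3
        apply inn_of_gen gen22 hA α g
        intro a ha
        rcases ha with rfl | rfl | rfl
        · exact e1
        · exact e2
        · exact e3
      · right
        refine ⟨g, hom_of_gen gen22 hA α g (mkPerm tau) ?_⟩
        rw [mk_il, mul_one] at e3
        intro a ha
        rcases ha with rfl | rfl | rfl
        · rw [e1]
          have h1 : cl tau D22.X = cl (pwl D22.X 10) tau := by decide +kernel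
          have h2 : valid (cl tau D22.X) = true := by decide +kernel
          obtain ⟨a1, a2⟩ := valid_pw dat22.vX (n := 10) (by decide +kernel)
          rw [eq_mul_inv_iff_mul_eq, ← mk_cl hv dat22.vX h2, h1, mk_cl a1 hv (by rw [← h1]; exact h2), a2]
        · rw [e2]
          have h1 : cl tau D22.Y = cl D22.Y tau := by decide +kernel
          have h2 : valid (cl tau D22.Y) = true := by decide +kernel
          rw [eq_mul_inv_iff_mul_eq, ← mk_cl hv dat22.vY h2, h1, mk_cl dat22.vY hv (by rw [← h1]; exact h2)]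
        · rw [e3]
          have h1 : cl tau D22.W = cl D22.W tau := by decide +kernel
          have h2 : valid (cl tau D22.W) = true := by decide +kernel
          rw [eq_mul_inv_iff_mul_eq, ← mk_cl hv dat22.vW h2, h1, mk_cl dat22.vW hv (by rw [← h1]; exact h2)]

end CfsgLib.OutM
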