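import Cfsg.Agent.LibOutM4

set_option autoImplicit false
set_option maxRecDepth 100000

namespace CfsgLib.OutM

open CfsgLib.Golay CfsgLib.M24

namespace D11

def X : List ℕ := [0, 2, 4, 6, 8, 10, 12, 14, 16, 18, 20, 22, 1, 3, 5, 7, 9, 11, 13, 15, 17, 19, 21, 23]
def Y : List ℕ := [0, 1, 16, 12, 3, 5, 8, 17, 2, 6, 11, 22, 13, 18, 19, 14, 9, 10, 4, 21, 15, 20, 7, 23]
def W : List ℕ := [0, 1, 2, 3, 18, 23, 16, 20, 6, 8, 21, 15, 13, 4, 17, 22, 9, 14, 12, 11, 10, 7, 19, 5]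

def ZS : List (List ℕ) := [[0, 1, 2, 3, 4, 5, 6, 7, 8, 9, 10, 11, 12, 13, 14, 15, 16, 17, 18, 19, 20, 21, 22, 23]]

def cX : List (ℕ × ℕ) := []
def cY : List (ℕ × ℕ) := [(5279, 786999), (5279, 5279), (5279, 45159), (530245, 8663097), (5279, 272595), (5279, 1053483), (5279, 2634003), (5279, 1413139)]

def known : List (ℕ × ℕ) := [(340831, 340831)]
def fixl : List ℕ := [0]

theorem cX_ok : centOK X 11 known fixl cX [1] [il] 340831 = true := by decide +kernel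

theorem cY_ok : centOK Y 5 known fixl cY [1, 2, 3] ZS 340831 = true := by decide +kernel

theorem rel_ok : relOK X Y W 11 5 4 2 ZS = true := by decide +kernel

theorem mem_ok : (([X, Y, W] ++ ZS).all isM24) = true := by decide +kernel

def ops : List (ℕ × ℕ × ℕ) := [(1, 0, 0), (0, 0, 0), (0, 0, 4), (0, 0, 5), (0, 0, 6), (0, 2, 2), (0, 2, 8), (0, 2, 0), (0, 10, 2), (0, 11, 0), (0, 7, 12), (0, 1, 13), (0, 13, 13), (0, 1, 2), (0, 16, 1), (0, 15, 17), (0, 17, 0), (0, 4, 19), (0, 9, 0), (0, 3, 21), (1, 14, 0), (0, 23, 22), (0, 18, 24)]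

def gens : List (List ℕ) := [X, Y, W] ++ []

theorem run_ok : runOK gens ops = true := by decide +kernel

theorem lv0 : lvOK (run gens ops) [0] 1 340830 [0, 1, 13, 18, 20, 2, 25] = true := by decide +kernel

theorem lv1 : lvOK (run gens ops) [0, 1] 2 340828 [1, 13, 18, 20, 2, 25] = true := by decide +kernel

theorem lv2 : lvOK (run gens ops) [0, 1, 2] 3 340824 [18, 20, 2, 25] = true := by decide +kernel

theorem lv3 : lvOK (run gens ops) [0, 1, 2, 3] 4 340816 [2, 25] = true := by decide +kernel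

def kt : List (ℕ × List ℕ × (ℕ × ℕ × ℕ)) := [(2, ZS.getD 0 [], (1, 2, 3)), (3, ZS.getD 0 [], (1, 2, 3)), (4, ZS.getD 0 [], (1, 2, 3)), (5, ZS.getD 0 [], (1, 2, 3)), (6, ZS.getD 0 [], (1, 2, 3)), (7, ZS.getD 0 [], (1, 2, 3)), (8, ZS.getD 0 [], (1, 2, 3)), (9, ZS.getD 0 [], (1, 2, 3)), (10, ZS.getD 0 [], (3, 1, 5))]

theorem kt_ok : killAll X W kt = true := by decide +kernel

end D11

end CfsgLib.OutM
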