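import Cfsg.Agent.LibOutM6
import Cfsg.Agent.LibOutMD12
import Cfsg.Agent.LibOutMD11

set_option autoImplicit false

/-! Outer automorphisms of M12, M11 (seat helper15). -/

namespace CfsgLib.OutM

open Cfsg CfsgLib.Golay CfsgLib.M24
open scoped Pointwise

theorem SQ_eq : Spor.squareDodecad = fset 340831 := by
  rw [Spor.squareDodecad, ← support_word]
  congr 1
  funext p
  revert p
  decide +kernel

theorem SQ_mem : fset 340831 ∈ dodecads := by
  refine ⟨?_, ?_⟩
  · exact isCW_mem_supports (by decide +kernel)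
  · rw [card_fset]; decide +kernel

theorem M12_eq : Spor.M12 = T [340831] [] := by
  ext g
  constructor
  · rintro ⟨h1, h2⟩
    refine ⟨h1, ?_, by simp⟩
    intro k hk
    rw [List.mem_singleton] at hk; subst hk
    have h3 : g • Spor.squareDodecad = Spor.squareDodecad := h2
    rw [SQ_eq] at h3; exact h3
  · rintro ⟨h1, h2, _⟩
    refine ⟨h1, ?_⟩
    show g • Spor.squareDodecad = Spor.squareDodecad
    rw [SQ_eq]; exact h2 _ (by simp)

theorem M11_eq : Spor.M11 = T [340831] [0] := by
  ext g
  constructor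
  · rintro ⟨h0, h3⟩
    rw [M12_eq] at h0
    refine ⟨h0.1, h0.2.1, ?_⟩
    intro k hk
    rw [List.mem_singleton] at hk; subst hk
    exact h3
  · rintro ⟨h1, h2, h3⟩
    refine ⟨?_, h3 0 (by simp)⟩
    rw [M12_eq]
    exact ⟨h1, h2, by simp⟩

theorem card12 : Nat.card (T [340831] []) = 95040 := by
  rw [← card_M12 SQ_mem, ← M12_eq]
  have : Spor.M12 = M24 ⊓ StS (fset 340831) := by
    unfold Spor.M12 StS
    rw [SQ_eq]
  rw [this]

theorem card11 : Nat.card (T [340831] [0]) = 7920 := by
  rw [← card_M11 SQ_mem (p := pt 0) (by rw [mem_fset, idx_pt 0 (by norm_num)]; decide), ← M11_eq]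
  have : Spor.M11 = M24 ⊓ StS (fset 340831) ⊓ St (pt 0) := by
    unfold Spor.M11 Spor.M12 StS St
    rw [SQ_eq]; rfl
  rw [this]

/-- five base points of the dodecad -/
def emb5 : Fin 5 ↪ GolayPt := ⟨fun i => pt i.val, fun i j h => Fin.ext (pt_inj (by omega) (by omega) h)⟩

theorem last12 (H : Subgroup (Equiv.Perm GolayPt)) {f : List ℕ} : ∀ g ∈ fixH (T [340831] f) [0, 1, 2, 3, 4], g ∈ H := by
  intro g hg
  have : g = 1 := by
    apply eq_one_of_dodecad hg.1.1 SQ_mem (hg.1.2.1 _ (by simp)) emb5
    · intro i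
      rw [mem_fset]
      show Nat.testBit 340831 (idx (pt i.val)) = true
      rw [idx_pt _ (by omega)]
      revert i; decide
    · intro i
      apply hg.2
      revert i; decide
  rw [this]; exact H.one_mem

theorem sq_img {f l : List ℕ} {g : Equiv.Perm GolayPt} (hg : g ∈ fixH (T [340831] f) l) {b : ℕ} (hb : pt b ∈ fset 340831) :
    g (pt b) ∈ fset 340831 := by
  have h1 := hg.1.2.1 340831 (by simp)
  have h2 : g • (pt b) ∈ g • fset 340831 := Finset.smul_mem_smul_finset hb
  rw [h1] at h2; exact h2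

theorem img_ne {f l : List ℕ} {g : Equiv.Perm GolayPt} (hg : g ∈ fixH (T [340831] f) l) {b i : ℕ} (hi : i ∈ l) (hb : b < 24)
    (hi' : i < 24) (hne : b ≠ i) : g (pt b) ≠ pt i := by
  intro h
  apply hne
  apply pt_inj hb hi'
  apply g.injective
  rw [h, hg.2 i hi]

theorem o0 {f : List ℕ} (g : Equiv.Perm GolayPt) (hg : g ∈ fixH (T [340831] f) []) : g (pt 0) ∈ fset 340831 :=
  sq_img hg (by rw [mem_fset, idx_pt 0 (by norm_num)]; decide)

theorem o1 {f : List ℕ} (g : Equiv.Perm GolayPt) (hg : g ∈ fixH (T [340831] f) [0]) : g (pt 1) ∈ fset 340830 := by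
  have h0 := sq_img hg (b := 1) (by rw [mem_fset, idx_pt 1 (by norm_num)]; decide)
  have h1 := img_ne hg (b := 1) (i := 0) (by decide) (by norm_num) (by norm_num) (by norm_num)
  revert h0 h1; generalize g (pt 1) = p; revert p; decide +kernel

theorem o2 {f : List ℕ} (g : Equiv.Perm GolayPt) (hg : g ∈ fixH (T [340831] f) [0, 1]) : g (pt 2) ∈ fset 340828 := by
  have h0 := sq_img hg (b := 2) (by rw [mem_fset, idx_pt 2 (by norm_num)]; decide)
  have h1 := img_ne hg (b := 2) (i := 0) (by decide) (by norm_num) (by norm_num) (by norm_num)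
  have h2 := img_ne hg (b := 2) (i := 1) (by decide) (by norm_num) (by norm_num) (by norm_num)
  revert h0 h1 h2; generalize g (pt 2) = p; revert p; decide +kernel

theorem o3 {f : List ℕ} (g : Equiv.Perm GolayPt) (hg : g ∈ fixH (T [340831] f) [0, 1, 2]) : g (pt 3) ∈ fset 340824 := by
  have h0 := sq_img hg (b := 3) (by rw [mem_fset, idx_pt 3 (by norm_num)]; decide)
  have h1 := img_ne hg (b := 3) (i := 0) (by decide) (by norm_num) (by norm_num) (by norm_num)
  have h2 := img_ne hg (b := 3) (i := 1) (by decide) (by norm_num) (by norm_num) (by norm_num)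
  have h3 := img_ne hg (b := 3) (i := 2) (by decide) (by norm_num) (by norm_num) (by norm_num)
  revert h0 h1 h2 h3; generalize g (pt 3) = p; revert p; decide +kernel

theorem o4 {f : List ℕ} (g : Equiv.Perm GolayPt) (hg : g ∈ fixH (T [340831] f) [0, 1, 2, 3]) : g (pt 4) ∈ fset 340816 := by
  have h0 := sq_img hg (b := 4) (by rw [mem_fset, idx_pt 4 (by norm_num)]; decide)
  have h1 := img_ne hg (b := 4) (i := 0) (by decide) (by norm_num) (by norm_num) (by norm_num)
  have h2 := img_ne hg (b := 4) (i := 1) (by decide) (by norm_num) (by norm_num) (by norm_num)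
  have h3 := img_ne hg (b := 4) (i := 2) (by decide) (by norm_num) (by norm_num) (by norm_num)
  have h4 := img_ne hg (b := 4) (i := 3) (by decide) (by norm_num) (by norm_num) (by norm_num)
  revert h0 h1 h2 h3 h4; generalize g (pt 4) = p; revert p; decide +kernel

theorem gen11 : T [340831] [0] ≤ Subgroup.closure {mkPerm D11.X, mkPerm D11.Y, mkPerm D11.W} := by
  have hv : (D11.gens.all valid) = true := by decide +kernel
  have hN := gens_run hv D11.run_ok
  have hin : (D11.gens.all (inT [340831] [0])) = true := by decide +kernel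
  rw [List.all_eq_true] at hin
  have hHS := gens_le (gens := D11.gens) (S := T [340831] [0]) (fun P hP => (inT_spec (hin P hP)).2)
  have s7 := last12 (Subgroup.closure {a | ∃ P ∈ D11.gens, a = mkPerm P}) (f := [0])
  have s4 := chain_step hHS (lv_spec hN (by decide) (by decide) D11.lv3) o4 s7
  have s3 := chain_step hHS (lv_spec hN (by decide) (by decide) D11.lv2) o3 s4
  have s2 := chain_step hHS (lv_spec hN (by decide) (by decide) D11.lv1) o2 s3
  have s1 := chain_step hHS (lv_spec hN (by decide) (by decide) D11.lv0) o1 s2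
  intro g hg
  have := s1 g ⟨hg, hg.2.2⟩
  rw [← gens_three]; exact this

/-- the central involution in the centraliser of `Y` -/
def Z12 : List ℕ := [1, 0, 3, 2, 8, 23, 18, 15, 4, 13, 19, 21, 16, 9, 17, 7, 12, 14, 6, 10, 22, 11, 20, 5]

theorem gen12 : T [340831] [] ≤ Subgroup.closure {mkPerm D12.X, mkPerm D12.Y, mkPerm D12.W, mkPerm Z12} := by
  have hv : (D12.gens.all valid) = true := by decide +kernel
  have hN := gens_run hv D12.run_ok
  have hin : (D12.gens.all (inT [340831] [])) = true := by decide +kernel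
  rw [List.all_eq_true] at hin
  have hHS := gens_le (gens := D12.gens) (S := T [340831] []) (fun P hP => (inT_spec (hin P hP)).2)
  have s7 := last12 (Subgroup.closure {a | ∃ P ∈ D12.gens, a = mkPerm P}) (f := [])
  have s4 := chain_step hHS (lv_spec hN (by decide) (by decide) D12.lv4) o4 s7
  have s3 := chain_step hHS (lv_spec hN (by decide) (by decide) D12.lv3) o3 s4
  have s2 := chain_step hHS (lv_spec hN (by decide) (by decide) D12.lv2) o2 s3
  have s1 := chain_step hHS (lv_spec hN (by decide) (by decide) D12.lv1) o1 s2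
  have s0 := chain_step hHS (lv_spec hN (by decide) (by decide) D12.lv0) o0 s1
  intro g hg
  have h1 := s0 g ⟨hg, by simp⟩
  have h2 : {a : Equiv.Perm GolayPt | ∃ P ∈ D12.gens, a = mkPerm P} = {mkPerm D12.X, mkPerm D12.Y, mkPerm D12.W, mkPerm Z12} := by
    ext a
    unfold D12.gens Z12
    simp
  rw [← h2]; exact h1

theorem dat11 : Dat (T [340831] [0]) D11.X D11.Y D11.W 11 5 4 2 D11.ZS :=
  dat_of (by norm_num) (by decide +kernel) D11.rel_ok (by
    rw [card11]; norm_num) (by norm_num) (by norm_num) (by decide) (by simp) D11.cX_ok D11.cY_ok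

theorem dat12 : Dat (T [340831] []) D12.X D12.Y D12.W 11 5 4 2 D12.ZS :=
  dat_of (by norm_num) (by decide +kernel) D12.rel_ok (by
    rw [card12]; norm_num) (by norm_num) (by norm_num) (by decide) (by simp) D12.cX_ok D12.cY_ok

theorem out11 : Nat.card (Out ↥Spor.M11) = 1 := by
  rw [M11_eq]
  apply card_out_one
  apply inner_of dat11 gen11
  intro k hk hk0 Z hZ
  rcases cov_spec D11.kt_ok (p := 11) (ZS := D11.ZS) (sv := [(1, il)]) (by decide +kernel) k hk hk0 Z hZ with h | h
  · exact Or.inl h
  · right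
    rw [List.mem_singleton, Prod.mk.injEq] at h
    exact ⟨h.1, by rw [h.2, mk_il]⟩

theorem z12_in : inT [340831] [] Z12 = true := by decide +kernel

theorem ZS12 : D12.ZS = [il, Z12] := by decide +kernel

/-- the involution `z` is fixed by a normalised automorphism -/
theorem z_fixed (α : MulAut ↥(T [340831] [])) (g : ↥(T [340831] []))
    (e2 : ((g * α ⟨_, dat12.mY⟩ * g⁻¹ : ↥(T [340831] [])) : Equiv.Perm GolayPt) = mkPerm D12.Y) :
    ((g * α ⟨_, (inT_spec z12_in).2⟩ * g⁻¹ : ↥(T [340831] [])) : Equiv.Perm GolayPt) = mkPerm Z12 := by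
  set z : ↥(T [340831] []) := ⟨mkPerm Z12, (inT_spec z12_in).2⟩ with hz
  set y : ↥(T [340831] []) := ⟨mkPerm D12.Y, dat12.mY⟩ with hy
  set c : ↥(T [340831] []) := g * α z * g⁻¹ with hc
  have hvz := (inT_spec z12_in).1
  have hzz : mkPerm Z12 * mkPerm Z12 = 1 := by
    have : cl Z12 Z12 = il := by decide +kernel
    rw [← mk_cl hvz hvz (by rw [this]; exact valid_il), this, mk_il]
  have hz1 : mkPerm Z12 ≠ 1 := by
    intro h
    rw [← mk_il] at h
    have := mk_inj hvz valid_il h
    revert this; decide +kernel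
  have hzy : mkPerm Z12 * mkPerm D12.Y = mkPerm D12.Y * mkPerm Z12 := (dat12.vZ Z12 (by rw [ZS12]; simp)).2.2
  have hzy' : z * y = y * z := Subtype.ext hzy
  have hcomm : c * y = y * c := by
    have ey : g * α y * g⁻¹ = y := Subtype.ext e2
    have h1 : c * (g * α y * g⁻¹) = (g * α y * g⁻¹) * c := by
      rw [hc]
      have : g * α z * g⁻¹ * (g * α y * g⁻¹) = g * α (z * y) * g⁻¹ := by rw [map_mul]; group
      rw [this, hzy', map_mul]; group
    rw [ey] at h1; exact h1
  have hcc : c * c = 1 := by
    rw [hc]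
    have : g * α z * g⁻¹ * (g * α z * g⁻¹) = g * α (z * z) * g⁻¹ := by rw [map_mul]; group
    rw [this]
    have e : z * z = 1 := Subtype.ext hzz
    rw [e, map_one]; group
  have hc1 : c ≠ 1 := by
    intro h
    rw [hc, mul_inv_eq_one, mul_eq_left] at h
    exact hz1 (congrArg Subtype.val (α.injective (h.trans (map_one α).symm)))
  obtain ⟨i, Z, hZ, e⟩ := dat12.cY c c.2 (congrArg Subtype.val hcomm)
  have hcc' : (c : Equiv.Perm GolayPt) * c = 1 := congrArg Subtype.val hcc
  have hZ2 : mkPerm Z * mkPerm Z = 1 ∧ Commute (mkPerm Z) (mkPerm D12.Y) := by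
    rw [ZS12] at hZ
    simp only [List.mem_cons, List.not_mem_nil, or_false] at hZ
    rcases hZ with rfl | rfl
    · rw [mk_il]; exact ⟨one_mul 1, Commute.one_left _⟩
    · exact ⟨hzz, hzy⟩
  have h5 : mkPerm D12.Y ^ (2 * i) = 1 := by
    rw [e] at hcc'
    have : mkPerm D12.Y ^ i * mkPerm Z * (mkPerm D12.Y ^ i * mkPerm Z) = mkPerm D12.Y ^ i * (mkPerm Z * mkPerm D12.Y ^ i) * mkPerm Z := by group
    rw [this, (hZ2.2.pow_right i).eq] at hcc'
    have : mkPerm D12.Y ^ i * (mkPerm D12.Y ^ i * mkPerm Z) * mkPerm Z = mkPerm D12.Y ^ i * mkPerm D12.Y ^ i * (mkPerm Z * mkPerm Z) := by group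
    rw [this, hZ2.1, mul_one, ← pow_add, ← two_mul] at hcc'
    exact hcc'
  have h6 : mkPerm D12.Y ^ i = 1 := by
    have h7 := dat12.oY
    have key : ∀ w : Equiv.Perm GolayPt, w ^ 5 = 1 → w ^ (2 * i) = 1 → w ^ i = 1 := by
      intro w h5 h7
      have e1 : w ^ (i + 5 * i) = w ^ (2 * i * 3) := congrArg _ (by ring)
      rw [pow_add, pow_mul w 5 i, h5, one_pow, mul_one, pow_mul w (2 * i) 3, h7, one_pow] at e1
      exact e1
    exact key _ h7 h5
  rw [h6, one_mul] at e
  rw [ZS12] at hZ
  simp only [List.mem_cons, List.not_mem_nil, or_false] at hZ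
  rcases hZ with rfl | rfl
  · exfalso
    apply hc1
    apply Subtype.ext
    rw [e, mk_il]; rfl
  · exact e

theorem out12 : Nat.card (Out ↥Spor.M12) = 2 := by
  rw [M12_eq]
  have hv := valid_of tau_M24
  have hτi : (mkPerm tau)⁻¹ = mkPerm tau := by rw [inv_eq_iff_mul_eq_one]; exact tau_sq
  have hXY : D12.X = D24.Y := by decide +kernel
  have hτ1 : mkPerm tau • fset 340831 = fset (Nat.xor 16777215 340831) := by
    rw [smul_fset hv]; congr 1
  have hτ2 : mkPerm tau • fset (Nat.xor 16777215 340831) = fset 340831 := by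
    rw [smul_fset hv]; congr 1
  have hcomp : fset (Nat.xor 16777215 340831) = (fset 340831)ᶜ := by
    ext p
    rw [Finset.mem_compl]
    revert p; decide +kernel
  apply outer_of (mkPerm tau) tau_sq
  · rintro s ⟨h1, h2, _⟩
    refine ⟨M24.mul_mem (M24.mul_mem (isM24_spec tau_M24) h1) (M24.inv_mem (isM24_spec tau_M24)), ?_, by simp⟩
    intro k hk
    rw [List.mem_singleton] at hk; subst hk
    have h3 : s • fset (Nat.xor 16777215 340831) = fset (Nat.xor 16777215 340831) := by
      rw [hcomp]
      ext p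
      rw [← Finset.inv_smul_mem_iff, Finset.mem_compl, Finset.mem_compl, Finset.inv_smul_mem_iff, h2 _ (by simp)]
    rw [hτi, mul_smul, mul_smul, hτ1, h3, hτ2]
  · apply tau_not_inner (T_le _ _)
    · rw [← hXY]; exact dat12.mX
    · rintro ⟨_, h, _⟩
      have h4 := h 340831 (by simp)
      rw [hτ1] at h4
      have h5 := fset_injective (by decide) (by decide) h4
      revert h5; decide
  · intro α
    obtain ⟨g, k, hkp, hk0, Z, hZ, e1, e2, e3, hkill⟩ := dat12.main α
    have e4 := z_fixed α g e2
    rcases cov_spec D12.kt_ok (p := 11) (ZS := D12.ZS) (sv := [(1, il), (10, Z12)]) (by decide +kernel) k hkp hk0 Z hZ with ⟨t, ht⟩ | h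
    · rw [hkill t] at ht; exact absurd ht (by simp)
    · have hA : ({mkPerm D12.X, mkPerm D12.Y, mkPerm D12.W, mkPerm Z12} : Set (Equiv.Perm GolayPt)) ⊆ T [340831] [] := by
        intro a ha
        rcases ha with rfl | rfl | rfl | rfl
        · exact dat12.mX
        · exact dat12.mY
        · exact dat12.mW
        · exact (inT_spec z12_in).2
      simp only [List.mem_cons, List.not_mem_nil, or_false, Prod.mk.injEq] at h
      rcases h with ⟨rfl, rfl⟩ | ⟨rfl, rfl⟩
      · left
        rw [pow_one] at e1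
        rw [mk_il, mul_one] at e3
        apply inn_of_gen gen12 hA α g
        intro a ha
        rcases ha with rfl | rfl | rfl | rfl
        · exact e1
        · exact e2
        · exact e3
        · exact e4
      · right
        refine ⟨g, hom_of_gen gen12 hA α g (mkPerm tau) ?_⟩
        intro a ha
        rcases ha with rfl | rfl | rfl | rfl
        · rw [e1]
          have h1 : cl tau D12.X = cl (pwl D12.X 10) tau := by decide +kernel
          have h2 : valid (cl tau D12.X) = true := by decide +kernel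
          obtain ⟨a1, a2⟩ := valid_pw dat12.vX (n := 10) (by decide +kernel)
          rw [eq_mul_inv_iff_mul_eq, ← mk_cl hv dat12.vX h2, h1, mk_cl a1 hv (by rw [← h1]; exact h2), a2]
        · rw [e2]
          have h1 : cl tau D12.Y = cl D12.Y tau := by decide +kernel
          have h2 : valid (cl tau D12.Y) = true := by decide +kernel
          rw [eq_mul_inv_iff_mul_eq, ← mk_cl hv dat12.vY h2, h1, mk_cl dat12.vY hv (by rw [← h1]; exact h2)]
        · rw [e3]
          have h1 : cl tau D12.W = cl (cl D12.W Z12) tau := by decide +kernel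
          have h2 : valid (cl tau D12.W) = true := by decide +kernel
          have h3 : valid (cl D12.W Z12) = true := by decide +kernel
          rw [eq_mul_inv_iff_mul_eq, ← mk_cl hv dat12.vW h2, h1, mk_cl h3 hv (by rw [← h1]; exact h2),
            mk_cl dat12.vW (inT_spec z12_in).1 h3]
        · rw [e4]
          have h1 : cl tau Z12 = cl Z12 tau := by decide +kernel
          have h2 : valid (cl tau Z12) = true := by decide +kernel
          rw [eq_mul_inv_iff_mul_eq, ← mk_cl hv (inT_spec z12_in).1 h2, h1, mk_cl (inT_spec z12_in).1 hv (by rw [← h1]; exact h2)]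

end CfsgLib.OutM
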