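import Cfsg.Agent.LibOy2

set_option autoImplicit false
set_option linter.unusedSectionVars false

/-! Weight spaces for orthogonal groups (helper26). -/

namespace CfsgLib.Oy

open Cfsg.Agent.H22 Module CfsgLib.Wt CfsgLib.WtQ CfsgLib.WtSp CfsgLib.SLw

section gen
variable {G E M : Type*} [Group G] [AddCommGroup E] [Module ℂ E] [AddCommGroup M] [Fintype M]
  (ρ : Representation ℂ G E) (j : Multiplicative M →* G)

theorem mul_pr_of_fix {T : E →ₗ[ℂ] E} {χ : AddChar M ℂ} (h : ∀ v ∈ wt ρ j χ, T v = v) : T * pr ρ j χ = pr ρ j χ := by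
  apply LinearMap.ext
  intro v
  exact h _ (pr_mem ρ j χ v)

theorem trace_move [FiniteDimensional ℂ E] {T : E →ₗ[ℂ] E} {χ χ' : AddChar M ℂ} (hne : χ ≠ χ')
    (h : ∀ v ∈ wt ρ j χ, T v ∈ wt ρ j χ') : LinearMap.trace ℂ E (T * pr ρ j χ) = 0 := by
  classical
  have h1 : T * pr ρ j χ = pr ρ j χ' * (T * pr ρ j χ) := by
    apply LinearMap.ext
    intro v
    rw [Module.End.mul_apply, Module.End.mul_apply, Module.End.mul_apply]
    rw [pr_of_mem ρ j χ' χ' (h _ (pr_mem ρ j χ v)), if_pos rfl]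
  have h2 : pr ρ j χ * pr ρ j χ' = 0 := by
    apply LinearMap.ext
    intro v
    rw [Module.End.mul_apply, pr_of_mem ρ j χ χ' (pr_mem ρ j χ' v), if_neg hne]
    rfl
  rw [h1, LinearMap.trace_mul_comm, mul_assoc, h2, mul_zero, map_zero]

theorem trace_fix [FiniteDimensional ℂ E] {T : E →ₗ[ℂ] E} {χ : AddChar M ℂ} (h : ∀ v ∈ wt ρ j χ, T v = v) :
    LinearMap.trace ℂ E (T * pr ρ j χ) = (finrank ℂ (wt ρ j χ) : ℂ) := by
  rw [mul_pr_of_fix ρ j h, trace_pr]

theorem pr_idem (χ : AddChar M ℂ) : pr ρ j χ * pr ρ j χ = pr ρ j χ := by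
  classical
  apply LinearMap.ext
  intro v
  rw [Module.End.mul_apply, pr_of_mem ρ j χ χ (pr_mem ρ j χ v), if_pos rfl]

theorem sum_pr_eq_one : ∑ χ : AddChar M ℂ, pr ρ j χ = 1 := by
  apply LinearMap.ext
  intro v
  rw [LinearMap.sum_apply]
  exact sum_pr ρ j v

end gen

section rep
variable {F V : Type*} [Field F] [Finite F] [AddCommGroup V] [Module F V] [FiniteDimensional F V] {Q : QuadraticForm F V}
  {E : Type*} [AddCommGroup E] [Module ℂ E] (ρ : Representation ℂ (EG Q) E) (ψ : AddChar F ℂ)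

/-- the homomorphism from the complement of a hyperbolic pair -/
noncomputable def jx {x x' : V} (h : HP Q x x') : Multiplicative (perp2 Q x x') →* EG Q :=
  J x (perp2 Q x x') h.1 (fun _ hw => hw.1)

theorem jx_apply {x x' : V} (h : HP Q x x') (w : perp2 Q x x') : jx h (Multiplicative.ofAdd w) = El Q x (w : V) := rfl

/-- weight spaces -/
noncomputable def wx {x x' : V} (h : HP Q x x') (r : V) : Submodule ℂ E := wt ρ (jx h) (chi Q ψ _ r)

/-- the projection on a weight space -/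
noncomputable def pw {x x' : V} (h : HP Q x x') (r : V) : E →ₗ[ℂ] E := pr ρ (jx h) (chi Q ψ _ r)

theorem mem_wx {x x' : V} {h : HP Q x x'} {r : V} {v : E} : v ∈ wx ρ ψ h r ↔
    ∀ w ∈ perp2 Q x x', ρ (El Q x w) v = ψ (QuadraticMap.polar Q r w) • v :=
  ⟨fun hv w hw => hv ⟨w, hw⟩, fun hv w => hv w w.2⟩

theorem wx_move {x x' : V} (h : HP Q x x') {c : F} (hc : c ≠ 0) (g : EG Q) (h1 : g.1.1 x = c • x)
    (h2 : g.1.1 x' = c⁻¹ • x') {r : V} {v : E} (hv : v ∈ wx ρ ψ h r) : ρ g v ∈ wx ρ ψ h (c⁻¹ • g.1.1 r) := by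
  rw [mem_wx] at hv ⊢
  intro w hw
  have hgw : ∀ y, QuadraticMap.polar Q y ((g⁻¹ : EG Q).1.1 w) = QuadraticMap.polar Q (g.1.1 y) w := by
    intro y
    exact og_polar_inv g.1 y w
  have hw' : c⁻¹ • (g⁻¹ : EG Q).1.1 w ∈ perp2 Q x x' := by
    constructor
    · rw [QuadraticMap.polar_smul_right, hgw, h1, QuadraticMap.polar_smul_left, hw.1, smul_zero, smul_zero]
    · rw [QuadraticMap.polar_smul_right, hgw, h2, QuadraticMap.polar_smul_left, hw.2, smul_zero, smul_zero]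
  have hginv : (g⁻¹ : EG Q).1.1 x = c⁻¹ • x := by
    have : (g⁻¹ : EG Q).1.1 (g.1.1 x) = x := eg_inv' g x
    rw [h1, map_smul] at this
    rw [← this, smul_smul, inv_mul_cancel₀ hc, one_smul, this]
  have key : El Q x w * g = g * El Q x (c⁻¹ • (g⁻¹ : EG Q).1.1 w) := by
    have e1 := El_conj (g⁻¹) h.1 hw.1
    rw [inv_inv] at e1
    have e2 : El Q x w * g = g * (g⁻¹ * El Q x w * g) := by group
    rw [e2, e1, hginv, El_scale c⁻¹ h.1]
    rw [hgw, h1, QuadraticMap.polar_smul_left, hw.1, smul_zero]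
  rw [← Module.End.mul_apply, ← map_mul, key, map_mul, Module.End.mul_apply, hv _ hw', map_smul]
  congr 2
  rw [QuadraticMap.polar_smul_right, hgw, QuadraticMap.polar_smul_left]

theorem wx_stab {x x' : V} (h : HP Q x x') (g : EG Q) (h1 : g.1.1 x = x) (h2 : g.1.1 x' = x') {r : V} {v : E}
    (hv : v ∈ wx ρ ψ h r) : ρ g v ∈ wx ρ ψ h (g.1.1 r) := by
  have := wx_move ρ ψ h one_ne_zero g (by rw [one_smul, h1]) (by rw [inv_one, one_smul, h2]) hv
  rwa [inv_one, one_smul] at this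

theorem wx_map {x x' y y' : V} (h : HP Q x x') (h' : HP Q y y') (g : EG Q) (h1 : g.1.1 x = y) (h2 : g.1.1 x' = y') {r : V}
    {v : E} (hv : v ∈ wx ρ ψ h r) : ρ g v ∈ wx ρ ψ h' (g.1.1 r) := by
  rw [mem_wx] at hv ⊢
  intro w hw
  have hgw : ∀ y, QuadraticMap.polar Q y ((g⁻¹ : EG Q).1.1 w) = QuadraticMap.polar Q (g.1.1 y) w := by
    intro y
    exact og_polar_inv g.1 y w
  have hw' : (g⁻¹ : EG Q).1.1 w ∈ perp2 Q x x' := by
    constructor
    · rw [hgw, h1, hw.1]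
    · rw [hgw, h2, hw.2]
  have hginv : (g⁻¹ : EG Q).1.1 y = x := by rw [← h1]; exact eg_inv' g x
  have key : El Q y w * g = g * El Q x ((g⁻¹ : EG Q).1.1 w) := by
    have e1 := El_conj (g⁻¹) h'.1 hw.1
    rw [inv_inv] at e1
    have e2 : El Q y w * g = g * (g⁻¹ * El Q y w * g) := by group
    rw [e2, e1, hginv]
  rw [← Module.End.mul_apply, ← map_mul, key, map_mul, Module.End.mul_apply, hv _ hw', map_smul, hgw]

theorem finrank_map {x x' y y' : V} (h : HP Q x x') (h' : HP Q y y') (g : EG Q) (h1 : g.1.1 x = y) (h2 : g.1.1 x' = y')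
    (r : V) : finrank ℂ (wx ρ ψ h r) = finrank ℂ (wx ρ ψ h' (g.1.1 r)) := by
  have hi1 : (g⁻¹ : EG Q).1.1 y = x := by rw [← h1]; exact eg_inv' g x
  have hi2 : (g⁻¹ : EG Q).1.1 y' = x' := by rw [← h2]; exact eg_inv' g x'
  refine LinearEquiv.finrank_eq (LinearEquiv.ofLinear
    ((ρ g).restrict (p := wx ρ ψ h r) (q := wx ρ ψ h' (g.1.1 r)) (fun v hv => wx_map ρ ψ h h' g h1 h2 hv))
    ((ρ g⁻¹).restrict (p := wx ρ ψ h' (g.1.1 r)) (q := wx ρ ψ h r) (fun v hv => by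
      have := wx_map ρ ψ h' h g⁻¹ hi1 hi2 hv
      rwa [eg_inv'] at this)) ?_ ?_)
  · apply LinearMap.ext
    intro v
    exact Subtype.ext (rho_cancel ρ g (v : E))
  · apply LinearMap.ext
    intro v
    exact Subtype.ext (rho_cancel' ρ g (v : E))

variable (Q) in
/-- the orthogonal Eichler elements act trivially on the weight spaces of norm `c` -/
def Trv (c : F) : Prop := ∀ (x x' : V) (h : HP Q x x') (r : V), r ∈ perp2 Q x x' → r ≠ 0 → Q r = c →
  finrank ℂ (wx ρ ψ h r) = 1 → ∀ z w : V, z ∈ perp2 Q x x' → w ∈ perp2 Q x x' → Q z = 0 → QuadraticMap.polar Q z r = 0 →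
  QuadraticMap.polar Q w r = 0 → QuadraticMap.polar Q z w = 0 → ∀ v ∈ wx ρ ψ h r, ρ (El Q z w) v = v

variable (Q) in
/-- all nontrivial weights are singular with multiplicity one -/
def One : Prop := (∀ (x x' : V) (h : HP Q x x') (r : V), r ∈ perp2 Q x x' → r ≠ 0 →
  (Q r = 0 → finrank ℂ (wx ρ ψ h r) = 1) ∧ (Q r ≠ 0 → wx ρ ψ h r = ⊥)) ∧ Trv Q ρ ψ 0

variable (Q) in
/-- all nontrivial weights have norm `c` and multiplicity one -/
def OneC (c : F) : Prop := (∀ (x x' : V) (h : HP Q x x') (r : V), r ∈ perp2 Q x x' → r ≠ 0 →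
  (Q r = c → finrank ℂ (wx ρ ψ h r) = 1) ∧ (Q r ≠ c → wx ρ ψ h r = ⊥)) ∧ Trv Q ρ ψ c

variable {ρ ψ}

/-- Eichler elements orthogonal to a weight act trivially on the weight space -/
theorem triv (H : One Q ρ ψ) {x x' : V} (h : HP Q x x') {r : V} (hr : r ∈ perp2 Q x x') (hr0 : r ≠ 0) (hQr : Q r = 0)
    (h1 : finrank ℂ (wx ρ ψ h r) = 1) {z w : V} (hzm : z ∈ perp2 Q x x') (hwm : w ∈ perp2 Q x x') (hz : Q z = 0)
    (hzr : QuadraticMap.polar Q z r = 0) (hwr : QuadraticMap.polar Q w r = 0) (hzw : QuadraticMap.polar Q z w = 0)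
    {v : E} (hv : v ∈ wx ρ ψ h r) : ρ (El Q z w) v = v :=
  H.2 x x' h r hr hr0 hQr h1 z w hzm hwm hz hzr hwr hzw v hv

end rep

end CfsgLib.Oy
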