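import Mathlib
import Cfsg.Agent.LibBlockDefect
import Cfsg.Agent.LibCharBasic3
import Cfsg.Agent.LibPB19

/-!
# Principal block and linear characters of a Sylow subgroup (helper20)

* `one_mem`, `isPBlock_principal`
* `height_zero_principal_iff` : height zero in the principal block iff degree prime to `p`
* `exists_over_linear` : every linear character of a Sylow `p`-subgroup lies under a member of degree
  prime to `p` of the principal block.
-/

set_option autoImplicit false
set_option linter.all false

namespace CfsgLib.PB20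

open Cfsg CfsgLib.CharInt CfsgLib.BlockR CfsgLib.BlockCore CfsgLib.BlockIdem CfsgLib.BlockIdeal CfsgLib.BlockDefect
  CfsgLib.BlockOrth
open scoped ComplexConjugate

universe u
variable {G : Type u} [Group G] [Finite G] {p : ℕ} [Fact p.Prime] {M : Ideal AlgInt}

noncomputable def one (G : Type u) [Group G] [Finite G] : IrrCharacter G :=
  ⟨fun _ => (1 : ℂ), by haveI := Fintype.ofFinite G; exact CfsgLib.CharBasic.isIrrCharacter_one⟩

theorem one_apply (g : G) : (one G : G → ℂ) g = 1 := rfl

theorem isPBlock_principal : IsPBlock M (principalBlock M G) := ⟨one G, rfl⟩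

theorem one_mem (hM : IsPModular p M) : one G ∈ principalBlock M G :=
  mem_blockOf_self (isPrime_of_modular hM) (one G)

theorem charDegree_one : charDegree (one G : G → ℂ) = 1 := by
  have h := irr_one_eq_charDegree (one G).2
  rw [one_apply] at h
  exact_mod_cast h.symm

theorem height_zero_principal_iff (hM : IsPModular p M) {χ : IrrCharacter G} :
    blockHeight p (principalBlock M G) (χ : G → ℂ) = 0 ↔ ¬ p ∣ charDegree (χ : G → ℂ) := by
  have h1 : sInf ((fun ψ : IrrCharacter G => (charDegree (ψ : G → ℂ)).factorization p) '' principalBlock M G) = 0 := by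
    rw [Nat.sInf_eq_zero]
    left
    exact ⟨one G, one_mem hM, by simp [charDegree_one]⟩
  unfold blockHeight
  rw [h1, Nat.sub_zero, Nat.factorization_eq_zero_iff]
  have hpp : p.Prime := Fact.out
  have h2 := (irr_charDegree_pos χ.2).ne'
  constructor
  · rintro (h | h | h)
    · exact absurd hpp h
    · exact h
    · exact absurd h h2
  · intro h; exact Or.inr (Or.inl h)

theorem exists_over_linear (hM : IsPModular p M) (P : Sylow p G) (μ : (P : Subgroup G) →* ℂˣ) :
    ∃ χ ∈ principalBlock M G, ¬ p ∣ charDegree (χ : G → ℂ) ∧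
      ∑ᶠ y : (P : Subgroup G), (χ : G → ℂ) y * conj (μ y : ℂ) ≠ 0 := by
  classical
  haveI := Fintype.ofFinite G
  haveI := Fintype.ofFinite (P : Subgroup G)
  have hp := isPrime_of_modular hM
  have hpp : p.Prime := Fact.out
  obtain ⟨g, hg⟩ := exists_defectClass hp (isPBlock_principal (G := G) (M := M))
  -- the class of g has size prime to p
  have hidx : ¬ MemLocalIdeal M ((Subgroup.centralizer ({g} : Set G)).index : ℂ) := by
    have := hg.2.2 (one G) (one_mem hM)
    unfold centralChar at this
    simpa [one_apply] using this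
  have hgreg : ¬ p ∣ orderOf g := by
    intro h
    apply hg.2.1
    rw [blockCoeff_eq_zero hM isPBlock_principal h]
    exact ideal_zero hp
  have hsmall : ∀ χ ∈ principalBlock M G, p ∣ charDegree (χ : G → ℂ) → MemLocalIdeal M (conj ((χ : G → ℂ) g)) := by
    intro χ hχ hd
    have h1 : ((Subgroup.centralizer ({g} : Set G)).index : ℂ) * conj ((χ : G → ℂ) g) =
        centralChar (χ : G → ℂ) g⁻¹ * (charDegree (χ : G → ℂ) : ℂ) := by
      unfold centralChar
      have h2 : Subgroup.centralizer ({g⁻¹} : Set G) = Subgroup.centralizer ({g} : Set G) := by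
        ext x
        rw [Subgroup.mem_centralizer_singleton_iff, Subgroup.mem_centralizer_singleton_iff]
        exact (Commute.inv_right_iff (a := x) (b := g))
      have h3 := CfsgLib.CharInt.irr_one_ne_zero χ.2
      rw [h2, ← irr_one_eq_charDegree χ.2, CfsgLib.BlockOrth.irr_inv χ.2]
      field_simp
    have h4 : MemLocalIdeal M (((Subgroup.centralizer ({g} : Set G)).index : ℂ) * conj ((χ : G → ℂ) g)) := by
      rw [h1]
      exact ideal_mul_left hp (centralChar_ring hp χ _) ((ideal_nat_iff hM).mpr hd)
    have h5 : MemLocalRing M (conj ((χ : G → ℂ) g)) := by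
      rw [← CfsgLib.BlockOrth.irr_inv χ.2]; exact irr_ring hp χ _
    rcases ideal_prime hp (ring_nat hp _) h5 h4 with h | h
    · exact absurd h hidx
    · exact h
  set S : IrrCharacter G → ℂ := fun χ => ∑ y : (P : Subgroup G), (χ : G → ℂ) y * conj (μ y : ℂ) with hS
  have hSm : ∀ χ : IrrCharacter G, ∃ m : ℕ, S χ = (Nat.card P : ℂ) * m := by
    intro χ
    have hr : IsCharacter (P : Subgroup G) (fun y : (P : Subgroup G) => (χ : G → ℂ) y) :=
      CfsgLib.CharBasic.isCharacter_comp (CfsgLib.CharBasic.irr_isCharacter χ.2) (P : Subgroup G).subtype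
    obtain ⟨m, hm⟩ := (CfsgLib.CharBasic.isCharacter_iff.mp hr).2 _ (CfsgLib.CharBasic.isIrrCharacter_hom μ)
    refine ⟨m, ?_⟩
    rw [← hm]
    unfold classInner
    have : (Nat.card (P : Subgroup G) : ℂ) ≠ 0 := by exact_mod_cast Nat.card_pos.ne'
    rw [← mul_assoc, mul_inv_cancel₀ this, one_mul]
  -- the sum
  have hsum : ∑ χ : IrrCharacter G, ind (principalBlock M G) χ * (conj ((χ : G → ℂ) g) * S χ) =
      (Nat.card G : ℂ) * blockCoeff (principalBlock M G) g := by
    have h1 : ∀ y : (P : Subgroup G), ∑ χ : IrrCharacter G, ind (principalBlock M G) χ * ((χ : G → ℂ) y * conj ((χ : G → ℂ) g)) =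
        if y = 1 then (Nat.card G : ℂ) * blockCoeff (principalBlock M G) g else 0 := by
      intro y
      rw [sum_ind]
      split_ifs with hy
      · have : (Nat.card G : ℂ) ≠ 0 := by exact_mod_cast Nat.card_pos.ne'
        unfold blockCoeff
        rw [← mul_assoc, mul_inv_cancel₀ this, one_mul, hy]
        rfl
      · refine block_orth_conj hM isPBlock_principal (isPPart_self (x := (y : G)) ?_) (isPPart_one hgreg) ?_
        · obtain ⟨k, hk⟩ := (IsPGroup.iff_orderOf.mp P.2) y
          exact ⟨k, by rw [Subgroup.orderOf_coe, hk]⟩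
        · rw [isConj_one_left]
          intro h
          exact hy (Subtype.ext h)
    have h2 : ∑ y : (P : Subgroup G), conj (μ y : ℂ) * ∑ χ : IrrCharacter G, ind (principalBlock M G) χ * ((χ : G → ℂ) y * conj ((χ : G → ℂ) g)) =
        (Nat.card G : ℂ) * blockCoeff (principalBlock M G) g := by
      rw [Finset.sum_congr rfl fun y _ => by rw [h1 y]]
      simp
    rw [← h2]
    simp only [Finset.mul_sum, hS]
    rw [Finset.sum_comm]
    exact Finset.sum_congr rfl fun y _ => Finset.sum_congr rfl fun χ _ => by ring
  -- divide by |P|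
  choose m hm using hSm
  have hsum2 : ∑ χ : IrrCharacter G, ind (principalBlock M G) χ * (conj ((χ : G → ℂ) g) * (m χ : ℂ)) =
      ((P : Subgroup G).index : ℂ) * blockCoeff (principalBlock M G) g := by
    have hP0 : (Nat.card (P : Subgroup G) : ℂ) ≠ 0 := by exact_mod_cast Nat.card_pos.ne'
    apply mul_left_cancel₀ hP0
    rw [← mul_assoc, ← Nat.cast_mul, Subgroup.card_mul_index, ← hsum, Finset.mul_sum]
    exact Finset.sum_congr rfl fun χ _ => by rw [hm χ]; ring
  by_contra hcon
  push Not at hcon
  have h6 : ¬ MemLocalIdeal M (((P : Subgroup G).index : ℂ) * blockCoeff (principalBlock M G) g) := by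
    apply not_ideal_mul hp (ring_nat hp _) hg.1
    · rw [ideal_nat_iff hM]; exact P.not_dvd_index
    · exact hg.2.1
  apply h6
  rw [← hsum2]
  refine ideal_sum hp _ _ fun χ _ => ?_
  by_cases hm1 : χ ∈ principalBlock M G
  · have h7 : ind (principalBlock M G) χ = 1 := by unfold ind; rw [Set.indicator_of_mem hm1]
    rw [h7, one_mul]
    by_cases hd : p ∣ charDegree (χ : G → ℂ)
    · exact ideal_mul_right hp (hsmall χ hm1 hd) (ring_nat hp _)
    · have h8 := hcon χ hm1 hd
      rw [finsum_eq_sum_of_fintype] at h8
      have h9 : (m χ : ℂ) = 0 := by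
        have h10 := hm χ
        rw [show S χ = 0 from h8] at h10
        have hP0 : (Nat.card P : ℂ) ≠ 0 := by exact_mod_cast Nat.card_pos.ne'
        rcases mul_eq_zero.mp h10.symm with h | h
        · exact absurd h hP0
        · exact h
      rw [h9, mul_zero]; exact ideal_zero hp
  · have h7 : ind (principalBlock M G) χ = 0 := by unfold ind; rw [Set.indicator_of_notMem hm1]
    rw [h7, zero_mul]; exact ideal_zero hp

end CfsgLib.PB20
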