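import Mathlib
import Cfsg.Agent.LibExtend8
import Cfsg.Agent.LibPB20
import Cfsg.Agent.LibBlockBrauer
import Cfsg.Agent.LibBlockInd

/-!
# Principal blocks and normal subgroups (helper20)

`mem_of_above` : a character of a normal subgroup under a member of the principal block is in the principal block.
`principal_stable` : the principal block is stable under power maps.
-/

set_option autoImplicit false
set_option linter.all false

namespace CfsgLib.PBNormal

open Cfsg

open CfsgLib.CharBasic CfsgLib.Clifford CfsgLib.CharNorm CfsgLib.BlockR CfsgLib.BlockCore CfsgLib.BlockIdem CfsgLib.BlockIdeal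
  CfsgLib.BlockBrauer CfsgLib.GalChar
open scoped ComplexConjugate

universe u
variable {G : Type u} [Group G] [Fintype G] {M : Ideal AlgInt}

theorem centralizer_pow {k : ℕ} (hk : k.Coprime (Nat.card G)) (g : G) :
    Subgroup.centralizer ({g ^ k} : Set G) = Subgroup.centralizer ({g} : Set G) := by
  obtain ⟨m, hm⟩ := exists_pow_eq_self_of_coprime (Nat.Coprime.coprime_dvd_right (orderOf_dvd_natCard g) hk)
  ext x
  rw [Subgroup.mem_centralizer_singleton_iff, Subgroup.mem_centralizer_singleton_iff]
  constructor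
  · intro h
    have h1 : Commute x (g ^ k) := h
    have h2 := h1.pow_right m
    rw [hm] at h2
    exact h2
  · intro h
    have h1 : Commute x g := h
    exact h1.pow_right k

theorem principal_stable (π : G → G) (hπ : Function.Surjective π)
    (hC : ∀ g, Subgroup.centralizer ({π g} : Set G) = Subgroup.centralizer ({g} : Set G)) (h1 : π 1 = 1)
    {ψ ψ' : IrrCharacter G} (h : ∀ g, (ψ' : G → ℂ) g = (ψ : G → ℂ) (π g)) :
    ψ' ∈ principalBlock M G ↔ ψ ∈ principalBlock M G := by
  have key : ∀ g, centralChar (fun _ : G => (1 : ℂ)) g - centralChar (ψ' : G → ℂ) g =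
      centralChar (fun _ : G => (1 : ℂ)) (π g) - centralChar (ψ : G → ℂ) (π g) := by
    intro g
    unfold centralChar
    rw [hC, h, h, h1]
  constructor
  · intro h2 g
    obtain ⟨g', rfl⟩ := hπ g
    rw [← key]
    exact h2 g'
  · intro h2 g
    rw [key]
    exact h2 (π g)

theorem sum_fixed_ideal [Fact (Nat.Prime 2)] {X : Type*} [Fintype X] [DecidableEq X] (hM : IsPModular 2 M) (σ : Equiv.Perm X)
    (e : ℕ) (hσ : σ ^ (2 ^ e) = 1) (f : X → ℂ) (hf : ∀ x, f (σ x) = f x) (hR : ∀ x, MemLocalRing M (f x)) :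
    MemLocalIdeal M (∑ x, f x - ∑ x : X with σ x = x, f x) := by
  classical
  have hA : IsPGroup 2 (Subgroup.zpowers σ) := by
    obtain ⟨b, hb, hb'⟩ := (Nat.dvd_prime_pow Nat.prime_two).mp (orderOf_dvd_of_pow_eq_one hσ)
    exact IsPGroup.of_card (by rw [Nat.card_zpowers, hb'])
  have hfz : ∀ (g : Subgroup.zpowers σ) (x : X), f (g • x) = f x := by
    intro g x
    have h1 : g ∈ (⊤ : Subgroup (Subgroup.zpowers σ)) := trivial
    obtain ⟨g, n, rfl⟩ := g
    have h2 : ∀ n : ℕ, ∀ x, f ((σ ^ n) x) = f x := by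
      intro n
      induction n with
      | zero => intro x; simp
      | succ n ih => intro x; rw [pow_succ, Equiv.Perm.mul_apply, ih, hf]
    have h3 : ∀ n : ℕ, ∀ x, f ((σ ^ n)⁻¹ x) = f x := by
      intro n x
      have h4 := h2 n ((σ ^ n)⁻¹ x)
      have h5 : (σ ^ n) ((σ ^ n)⁻¹ x) = x := by
        rw [← Equiv.Perm.mul_apply, mul_inv_cancel, Equiv.Perm.one_apply]
      rw [h5] at h4
      exact h4.symm
    change f ((σ ^ n) x) = f x
    rcases n with n | n
    · exact h2 n x
    · rw [zpow_negSucc]; exact h3 (n + 1) x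
  obtain ⟨r, hr, hr'⟩ := sum_sub_fixed hA (isPrime_of_modular hM) f hfz hR
  have h4 : (Finset.univ.filter fun x : X => x ∈ MulAction.fixedPoints (Subgroup.zpowers σ) X) = Finset.univ.filter fun x => σ x = x := by
    ext x
    simp only [Finset.mem_filter, Finset.mem_univ, true_and, MulAction.mem_fixedPoints]
    constructor
    · intro h
      exact h ⟨σ, Subgroup.mem_zpowers σ⟩
    · rintro h ⟨g, n, rfl⟩
      change (σ ^ n) x = x
      exact Equiv.Perm.zpow_apply_eq_self_of_apply_eq_self h n
  rw [h4] at hr'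
  rw [hr']
  exact ideal_mul_right (isPrime_of_modular hM) (by exact_mod_cast ideal_p hM) hr

open Classical in
/-- the weights -/
noncomputable def wt (M : Ideal AlgInt) (N : Subgroup G) [Fintype N] (θ : N → ℂ) (ψ : IrrCharacter G) : ℂ :=
  if ψ ∈ principalBlock M G then classInner (fun n : N => (ψ : G → ℂ) n) θ * (ψ : G → ℂ) 1 / θ 1 else 0

theorem wt_ring [Fact (Nat.Prime 2)] (hM : IsPModular 2 M) (N : Subgroup G) [hN : N.Normal] [Fintype N] (θ : IrrCharacter N) (ψ : IrrCharacter G) :
    MemLocalRing M (wt M N (θ : N → ℂ) ψ) := by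
  have hp := isPrime_of_modular hM
  unfold wt
  split_ifs with h
  · obtain ⟨r, hr⟩ := char_mult (isCharacter_restrict (irr_isCharacter ψ.2) N) (irr_isCharacter θ.2)
    by_cases h0 : classInner (fun n : N => (ψ : G → ℂ) n) (θ : N → ℂ) = 0
    · rw [h0, zero_mul, zero_div]; exact ring_zero hp
    · obtain ⟨e, he, -⟩ := CfsgLib.Extend.ratio_dvd_index θ.2 ψ.2 h0
      have h1 := CfsgLib.CharInt.irr_one_ne_zero θ.2
      rw [hr, he, ← mul_assoc, mul_div_assoc, div_self h1, mul_one]
      exact ring_mul hp (ring_nat hp r) (ring_nat hp e)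
  · exact ring_zero hp

/-- the sum of the weights -/
theorem sum_wt (N : Subgroup G) [Fintype N] (θ : IrrCharacter N) :
    ∑ ψ : IrrCharacter G, wt M N (θ : N → ℂ) ψ = N.index * omg (θ : N → ℂ) (fun n : N => blockCoeff (principalBlock M G) (n : G)) := by
  classical
  have hG : (Nat.card G : ℂ) = N.index * Nat.card N := by
    rw [← Subgroup.index_mul_card N]; push_cast; ring
  have hN0 : (Nat.card N : ℂ) ≠ 0 := by exact_mod_cast Nat.card_pos.ne'
  have hI0 : (N.index : ℂ) ≠ 0 := by exact_mod_cast Subgroup.index_ne_zero_of_finite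
  have hci : ∀ ψ : IrrCharacter G, ∑ n : N, conj ((ψ : G → ℂ) n) * (θ : N → ℂ) n = Nat.card N * classInner (fun n : N => (ψ : G → ℂ) n) (θ : N → ℂ) := by
    intro ψ
    obtain ⟨r, hr⟩ := char_mult (isCharacter_restrict (irr_isCharacter ψ.2) N) (irr_isCharacter θ.2)
    have h1 : classInner (fun n : N => (ψ : G → ℂ) n) (θ : N → ℂ) = classInner (θ : N → ℂ) (fun n : N => (ψ : G → ℂ) n) := by
      rw [← ci_conj (fun n : N => (ψ : G → ℂ) n) (θ : N → ℂ), hr, Complex.conj_natCast]
    rw [h1]
    unfold classInner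
    rw [mul_inv_cancel_left₀ hN0]
    exact Finset.sum_congr rfl fun n _ => mul_comm _ _
  unfold omg
  simp only [blockCoeff_eq_fou]
  unfold fou
  have h1 : ∑ x : N, (Nat.card G : ℂ)⁻¹ * (∑ ψ : IrrCharacter G, ind (principalBlock M G) ψ * ((ψ : G → ℂ) 1 * conj ((ψ : G → ℂ) x))) * (θ : N → ℂ) x =
      (Nat.card G : ℂ)⁻¹ * ∑ ψ : IrrCharacter G, ind (principalBlock M G) ψ * ((ψ : G → ℂ) 1 * (Nat.card N * classInner (fun n : N => (ψ : G → ℂ) n) (θ : N → ℂ))) := by
    rw [Finset.mul_sum]
    simp only [Finset.mul_sum, Finset.sum_mul, ← hci]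
    rw [Finset.sum_comm]
    refine Finset.sum_congr rfl fun ψ _ => Finset.sum_congr rfl fun x _ => ?_
    ring
  rw [h1, hG, Finset.mul_sum, Finset.sum_div, Finset.mul_sum]
  have h0 := CfsgLib.CharInt.irr_one_ne_zero θ.2
  refine Finset.sum_congr rfl fun ψ _ => ?_
  unfold wt
  split_ifs with h
  · rw [ind_of h]; field_simp
  · rw [ind_not h]; simp

/-- conjugates of a function under an invariant class function -/
theorem omg_res (N : Subgroup G) [hN : N.Normal] [Fintype N] (a : N → ℂ) (ha : ∀ (g : G) (n : N), a (MulAut.conjNormal g n) = a n)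
    (θ : IrrCharacter N) (χ : IrrCharacter G) (hover : classInner (fun n : N => (χ : G → ℂ) n) (θ : N → ℂ) ≠ 0) :
    omg (fun n : N => (χ : G → ℂ) n) a = omg (θ : N → ℂ) a := by
  have h1 := clifford_sum hN χ.2 θ.2 hover
  have h2 : ∀ x : G, ∑ n : N, a n * cj hN x (θ : N → ℂ) n = ∑ n : N, a n * (θ : N → ℂ) n := by
    intro x
    refine Fintype.sum_equiv (MulAut.conjNormal x : MulAut N).toEquiv _ _ fun n => ?_
    show a n * cj hN x (θ : N → ℂ) n = a (MulAut.conjNormal x n) * (θ : N → ℂ) (MulAut.conjNormal x n)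
    rw [ha]
    rfl
  set c := classInner (fun n : N => (χ : G → ℂ) n) (θ : N → ℂ) / (Nat.card (inertia hN (θ : N → ℂ)) : ℂ) with hc
  have h0 := CfsgLib.CharInt.irr_one_ne_zero θ.2
  have hc0 : c ≠ 0 := div_ne_zero hover (by exact_mod_cast Nat.card_pos.ne')
  have hG0 : (Nat.card G : ℂ) ≠ 0 := by exact_mod_cast Nat.card_pos.ne'
  unfold omg
  rw [h1]
  simp only [Pi.smul_apply, Finset.sum_apply, smul_eq_mul, cj_one_apply, Finset.sum_const, nsmul_eq_mul,
    Finset.card_univ, ← Nat.card_eq_fintype_card]
  have h3 : ∑ x : N, a x * (c * ∑ c : G, cj hN c (θ : N → ℂ) x) = c * (Nat.card G * ∑ n : N, a n * (θ : N → ℂ) n) := by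
    have h4 : ∑ x : N, a x * (c * ∑ c : G, cj hN c (θ : N → ℂ) x) = c * ∑ y : G, ∑ x : N, a x * cj hN y (θ : N → ℂ) x := by
      rw [Finset.sum_comm, Finset.mul_sum]
      refine Finset.sum_congr rfl fun x _ => ?_
      rw [← Finset.mul_sum]; ring
    rw [h4, Finset.sum_congr rfl (fun y _ => h2 y), Finset.sum_const, Finset.card_univ, nsmul_eq_mul, Nat.card_eq_fintype_card]
  rw [h3]
  field_simp

/-- the principal block of `N` is stable in `G` -/
theorem principal_cj (N : Subgroup G) [hN : N.Normal] [Finite N] (g : G) (θ θ' : IrrCharacter N)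
    (h : (θ' : N → ℂ) = cj hN g (θ : N → ℂ)) : θ' ∈ principalBlock M N ↔ θ ∈ principalBlock M N := by
  have key : ∀ n : N, centralChar (fun _ : N => (1 : ℂ)) n - centralChar (θ' : N → ℂ) n =
      centralChar (fun _ : N => (1 : ℂ)) (MulAut.conjNormal g n) - centralChar (θ : N → ℂ) (MulAut.conjNormal g n) := by
    intro n
    have h1 : (Subgroup.centralizer ({n} : Set N)).index = (Subgroup.centralizer ({MulAut.conjNormal g n} : Set N)).index := by
      have h2 : (Subgroup.centralizer ({MulAut.conjNormal g n} : Set N)) =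
          (Subgroup.centralizer ({n} : Set N)).map (MulAut.conjNormal g : MulAut N).toMonoidHom := by
        ext x
        rw [Subgroup.mem_centralizer_singleton_iff, Subgroup.mem_map]
        constructor
        · intro hx
          refine ⟨(MulAut.conjNormal g : MulAut N).symm x, ?_, by simp⟩
          rw [Subgroup.mem_centralizer_singleton_iff]
          apply (MulAut.conjNormal g : MulAut N).injective
          rw [map_mul, map_mul]
          simpa using hx
        · rintro ⟨y, hy, rfl⟩
          rw [Subgroup.mem_centralizer_singleton_iff] at hy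
          show (MulAut.conjNormal g : MulAut N) y * (MulAut.conjNormal g : MulAut N) n = (MulAut.conjNormal g : MulAut N) n * (MulAut.conjNormal g : MulAut N) y
          rw [← map_mul, hy, map_mul]
      rw [h2]
      exact (Subgroup.index_map_equiv _ (MulAut.conjNormal g : MulAut N)).symm
    unfold centralChar
    rw [h1, h, cj_one_apply]
    rfl
  constructor
  · intro h2 n
    have h3 := h2 ((MulAut.conjNormal g : MulAut N).symm n)
    rw [key] at h3
    simpa using h3
  · intro h2 n
    rw [key]
    exact h2 _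

/-- characters under the principal block are in the principal block -/
theorem mem_of_above {p : ℕ} [Fact p.Prime] (hM : IsPModular p M) (N : Subgroup G) [hN : N.Normal] [Fintype N] (θ : IrrCharacter N) (χ : IrrCharacter G)
    (hover : classInner (fun n : N => (χ : G → ℂ) n) (θ : N → ℂ) ≠ 0) (h : χ ∈ principalBlock M G) : θ ∈ principalBlock M N := by
  classical
  have hp := isPrime_of_modular hM
  set a : N → ℂ := fou (ind (principalBlock M N)) with ha
  have hainv : ∀ (g : G) (n : N), a (MulAut.conjNormal g n) = a n := by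
    intro g n
    rw [ha]
    unfold fou
    congr 1
    -- reindex by conjugation
    let E : IrrCharacter N ≃ IrrCharacter N :=
      { toFun := fun ψ => ⟨cj hN g (ψ : N → ℂ), cj_irr hN g ψ.2⟩
        invFun := fun ψ => ⟨cj hN g⁻¹ (ψ : N → ℂ), cj_irr hN g⁻¹ ψ.2⟩
        left_inv := fun ψ => Subtype.ext (by show cj hN g⁻¹ (cj hN g (ψ : N → ℂ)) = ψ; rw [cj_cj, mul_inv_cancel, cj_one])
        right_inv := fun ψ => Subtype.ext (by show cj hN g (cj hN g⁻¹ (ψ : N → ℂ)) = ψ; rw [cj_cj, inv_mul_cancel, cj_one]) }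
    refine Fintype.sum_equiv E _ _ fun ψ => ?_
    have h1 : ind (principalBlock M N) (E ψ) = ind (principalBlock M N) ψ := by
      have h2 := principal_cj (M := M) N g ψ (E ψ) rfl
      by_cases h3 : ψ ∈ principalBlock M N
      · rw [ind_of h3, ind_of (h2.mpr h3)]
      · rw [ind_not h3, ind_not (fun h4 => h3 (h2.mp h4))]
    rw [h1]
    have h4 : (E ψ : N → ℂ) 1 = (ψ : N → ℂ) 1 := cj_one_apply hN g _
    rw [h4]
    rfl
  -- extension by zero
  have hR : ∀ n, MemLocalRing M (a n) := by
    intro n
    rw [ha, ← blockCoeff_eq_fou]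
    exact blockCoeff_ring hp CfsgLib.PB20.isPBlock_principal n
  set b : G → ℂ := extendByZero N a with hb
  have hbc : IsClassFunction G b := by
    intro x g
    by_cases hx : x ∈ N
    · have h1 : g * x * g⁻¹ ∈ N := hN.conj_mem x hx g
      rw [hb, CfsgLib.CharIndA.ext_mem N a h1, CfsgLib.CharIndA.ext_mem N a hx]
      exact hainv g ⟨x, hx⟩
    · have h1 : g * x * g⁻¹ ∉ N := by
        intro h2
        apply hx
        have := hN.conj_mem _ h2 g⁻¹
        simpa [mul_assoc] using this
      rw [hb, CfsgLib.CharIndA.ext_not_mem N a h1, CfsgLib.CharIndA.ext_not_mem N a hx]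
  have hbR : ∀ x, MemLocalRing M (b x) := by
    intro x
    by_cases hx : x ∈ N
    · rw [hb, CfsgLib.CharIndA.ext_mem N a hx]; exact hR _
    · rw [hb, CfsgLib.CharIndA.ext_not_mem N a hx]; exact ring_zero hp
  have h1 := omg_sameBlock hp (χ := CfsgLib.PB20.one G) (ψ := χ) h hbc hbR
  have hsum : ∀ f : G → ℂ, omg f b = omg (fun n : N => f n) a := by
    intro f
    unfold omg
    have h2 : ∑ x : G, b x * f x = ∑ n : N, a n * f n := by
      rw [CfsgLib.BlockInd.sum_subgroup N (fun x => b x * f x) (fun x hx => by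
        show b x * f x = 0
        rw [hb, CfsgLib.CharIndA.ext_not_mem N a hx, zero_mul])]
      refine Finset.sum_congr rfl fun n _ => ?_
      rw [hb, CfsgLib.CharIndA.ext_coe]
    rw [h2]
    rfl
  rw [hsum, hsum, omg_res N a hainv θ χ hover] at h1
  have h2 : omg (fun n : N => (CfsgLib.PB20.one G : G → ℂ) n) a = 1 := by
    have h3 : (fun n : N => (CfsgLib.PB20.one G : G → ℂ) n) = (CfsgLib.PB20.one N : N → ℂ) := rfl
    rw [h3, ha, omg_fou, ind_of (CfsgLib.PB20.one_mem hM)]
  rw [h2, ha, omg_fou] at h1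
  by_contra hcon
  rw [ind_not hcon, sub_zero] at h1
  exact not_ideal_one hp h1

/-- the sum of the weights over a principal block character is odd -/
theorem wt_sum_not_ideal [Fact (Nat.Prime 2)] (hM : IsPModular 2 M) (N : Subgroup G) [hN : N.Normal] [Fintype N] (hidx : Odd N.index)
    (θ : IrrCharacter N) (h : θ ∈ principalBlock M N) : ¬ MemLocalIdeal M (∑ ψ : IrrCharacter G, wt M N (θ : N → ℂ) ψ) := by
  classical
  have hp := isPrime_of_modular hM
  intro hcon
  rw [sum_wt] at hcon
  have hac : IsClassFunction N (fun n : N => blockCoeff (principalBlock M G) (n : G)) := by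
    intro x g
    apply blockCoeff_isConj
    exact (isConj_iff.mpr ⟨(g : G), rfl⟩ : IsConj (x : G) _).symm
  have h1 := omg_sameBlock hp (χ := CfsgLib.PB20.one N) (ψ := θ) h hac
    (fun n => blockCoeff_ring hp CfsgLib.PB20.isPBlock_principal _)
  have h2 : MemLocalIdeal M (∑ ψ : IrrCharacter G, wt M N (CfsgLib.PB20.one N : N → ℂ) ψ) := by
    rw [sum_wt]
    have h3 := ideal_add hp (ideal_mul_left hp (ring_nat hp N.index) h1) hcon
    convert h3 using 1
    ring
  -- complex conjugation
  have h3 := sum_fixed_ideal hM (conjIrr (G := G)) 1 (by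
    ext χ g
    simp [pow_two, conjIrr_apply]) (wt M N (CfsgLib.PB20.one N : N → ℂ)) (fun ψ => by
      unfold wt
      have h4 : conjIrr ψ ∈ principalBlock M G ↔ ψ ∈ principalBlock M G := by
        refine principal_stable (fun g => g⁻¹) inv_surjective ?_ inv_one ?_
        · intro g
          ext x
          rw [Subgroup.mem_centralizer_singleton_iff, Subgroup.mem_centralizer_singleton_iff]
          exact Commute.inv_right_iff
        · intro g
          rw [conjIrr_apply, char_inv_eq_conj (irr_isCharacter ψ.2)]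
      have h5 : classInner (fun n : N => (conjIrr ψ : G → ℂ) n) (CfsgLib.PB20.one N : N → ℂ) = classInner (fun n : N => (ψ : G → ℂ) n) (CfsgLib.PB20.one N : N → ℂ) := by
        obtain ⟨r, hr⟩ := char_mult (isCharacter_restrict (irr_isCharacter ψ.2) N) (irr_isCharacter (CfsgLib.PB20.one N).2)
        have h6 : classInner (fun n : N => (conjIrr ψ : G → ℂ) n) (CfsgLib.PB20.one N : N → ℂ) = conj (classInner (fun n : N => (ψ : G → ℂ) n) (CfsgLib.PB20.one N : N → ℂ)) := by
          unfold classInner
          rw [map_mul, map_inv₀, Complex.conj_natCast, map_sum]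
          congr 1
          refine Finset.sum_congr rfl fun n _ => ?_
          rw [map_mul, conjIrr_apply, CfsgLib.PB20.one_apply, map_one, map_one]
        rw [h6, hr, Complex.conj_natCast]
      have h6 : (conjIrr ψ : G → ℂ) 1 = (ψ : G → ℂ) 1 := by
        obtain ⟨d, -, hd⟩ := irr_one_nat ψ.2
        rw [conjIrr_apply, hd, Complex.conj_natCast]
      simp only [h4, h5, h6]) (wt_ring hM N _)
  have h4 : ∑ x : IrrCharacter G with conjIrr x = x, wt M N (CfsgLib.PB20.one N : N → ℂ) x = 1 := by
    rw [Finset.sum_eq_single (CfsgLib.PB20.one G)]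
    · unfold wt
      rw [if_pos (CfsgLib.PB20.one_mem hM)]
      have h5 : (fun n : N => (CfsgLib.PB20.one G : G → ℂ) n) = (CfsgLib.PB20.one N : N → ℂ) := rfl
      rw [h5, irr_inner_self (CfsgLib.PB20.one N).2, CfsgLib.PB20.one_apply, CfsgLib.PB20.one_apply]
      norm_num
    · intro ψ hψ hne
      rw [Finset.mem_filter] at hψ
      by_contra hw
      apply hne
      unfold wt at hw
      split_ifs at hw with hB
      · have h5 : classInner (fun n : N => (ψ : G → ℂ) n) (CfsgLib.PB20.one N : N → ℂ) ≠ 0 := by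
          intro h6; rw [h6] at hw; simp at hw
        have h6 := restrict_of_invariant hN ψ.2 (CfsgLib.PB20.one N).2 (fun g => by ext n; rfl) h5
        have h7 : ∀ n ∈ N, (ψ : G → ℂ) n = (ψ : G → ℂ) 1 := by
          intro n hn
          have h8 := congrFun h6 ⟨n, hn⟩
          have h9 := congrFun h6 1
          simp only [Pi.smul_apply, CfsgLib.PB20.one_apply] at h8 h9
          rw [h8, ← h9]
          rfl
        have h8 := CfsgLib.Extend.real_irr_odd' hidx ψ.2 h7 (fun g => by
          have h9 := congrArg (fun x : IrrCharacter G => (x : G → ℂ) g) hψ.2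
          simp only [conjIrr_apply] at h9
          rw [char_inv_eq_conj (irr_isCharacter ψ.2), h9])
        exact Subtype.ext h8
      · exact absurd rfl hw
    · intro h5
      exact absurd (Finset.mem_filter.mpr ⟨Finset.mem_univ _, by
        ext g
        rw [conjIrr_apply, CfsgLib.PB20.one_apply, map_one]⟩) h5
  rw [h4] at h3
  apply not_ideal_one hp (M := M)
  have h5 := ideal_sub hp h2 h3
  simpa using h5

end CfsgLib.PBNormal
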