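import Mathlib
import Cfsg.Agent.LibPBNormal
import Cfsg.Agent.LibTate2
import Cfsg.Agent.LibNpc9
import Cfsg.Agent.LibSolvFrat
import Cfsg.Agent.LibPB19
import Cfsg.Agent.LibQuot19
import Cfsg.Agent.LibTate3
import Cfsg.Agent.LibExtend7

/-!
# The principal 2-block and the automorphism cubing 2-power roots of unity (helper20)
-/

set_option autoImplicit false
set_option linter.all false

namespace CfsgLib.PBSigma

open Cfsg

open CfsgLib.CharBasic CfsgLib.Clifford CfsgLib.CharNorm CfsgLib.BlockR CfsgLib.BlockCore CfsgLib.BlockIdem CfsgLib.BlockIdeal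
  CfsgLib.BlockBrauer CfsgLib.GalChar CfsgLib.BlockOrth CfsgLib.PBNormal CfsgLib.PB20
open scoped ComplexConjugate commutatorElement

universe u
variable {G : Type u} [Group G] [Fintype G] {M : Ideal AlgInt} {k : ℕ}
  (hk₁ : ∀ g : G, (∃ j : ℕ, orderOf g = 2 ^ j) → g ^ k = g ^ 3) (hk₂ : ∀ g : G, Odd (orderOf g) → g ^ k = g)

include hk₁ hk₂ in
theorem coprime_of : k.Coprime (Nat.card G) := by
  by_contra hne
  obtain ⟨q, hq, hqk, hqG⟩ := Nat.Prime.not_coprime_iff_dvd.mp hne
  haveI : Fact q.Prime := ⟨hq⟩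
  obtain ⟨g, hg⟩ := exists_prime_orderOf_dvd_card' q hqG
  have hgk : g ^ k = 1 := by rw [← orderOf_dvd_iff_pow_eq_one, hg]; exact hqk
  have hg1 : g ≠ 1 := by
    rintro rfl
    rw [orderOf_one] at hg
    exact hq.one_lt.ne hg
  rcases hq.eq_two_or_odd' with h2 | ho
  · have h1 := hk₁ g ⟨1, by rw [hg, h2, pow_one]⟩
    rw [hgk] at h1
    have h3 : g ^ 2 = 1 := by rw [← orderOf_dvd_iff_pow_eq_one, hg, h2]
    apply hg1
    calc g = g ^ 3 * (g ^ 2)⁻¹ := by group
      _ = 1 := by rw [← h1, h3]; simp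
  · have h1 := hk₂ g (by rw [hg]; exact ho)
    exact hg1 (h1.symm.trans hgk)

theorem three_pow (a e : ℕ) (h : a ≤ e) : 3 ^ (2 ^ e) ≡ 1 [MOD 2 ^ a] := by
  rcases Nat.eq_zero_or_pos a with rfl | ha
  · rw [pow_zero]; exact Nat.modEq_one
  have h1 : Nat.Coprime 3 (2 ^ a) := Nat.Coprime.pow_right _ (by norm_num)
  have h2 := Nat.ModEq.pow_totient h1
  have h3 : Nat.totient (2 ^ a) ∣ 2 ^ e := by
    rw [Nat.totient_prime_pow Nat.prime_two ha]
    simp only [Nat.add_one_sub_one, mul_one]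
    exact pow_dvd_pow 2 (by omega)
  obtain ⟨m, hm⟩ := h3
  rw [hm, pow_mul]
  simpa using h2.pow m

include hk₁ hk₂ in
theorem iter (g : G) : g ^ (k ^ (2 ^ Nat.card G)) = g := by
  haveI : Fact (Nat.Prime 2) := ⟨Nat.prime_two⟩
  obtain ⟨x, x', hxx', hc, ⟨a, ha⟩, hx'⟩ := isPPart_exists 2 g
  have h1 : ∀ n, x ^ (k ^ n) = x ^ (3 ^ n) := by
    intro n
    induction n with
    | zero => simp
    | succ n ih =>
      rw [pow_succ, pow_mul, ih, pow_succ 3, pow_mul x]
      apply hk₁
      have h2 : orderOf (x ^ 3 ^ n) ∣ 2 ^ a := by rw [← ha]; exact orderOf_pow_dvd _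
      obtain ⟨b, _, hb⟩ := (Nat.dvd_prime_pow Nat.prime_two).mp h2
      exact ⟨b, hb⟩
  have h2 : ∀ n, x' ^ (k ^ n) = x' := by
    intro n
    induction n with
    | zero => simp
    | succ n ih =>
      rw [pow_succ, pow_mul, ih]
      apply hk₂
      exact Nat.odd_iff.mpr (by omega)
  have h3 : a ≤ Nat.card G := by
    have h4 : 2 ^ a ∣ Nat.card G := by rw [← ha]; exact orderOf_dvd_natCard x
    have h5 := Nat.le_of_dvd Nat.card_pos h4
    exact (Nat.lt_two_pow_self.le.trans h5)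
  rw [hxx'.symm] 
  rw [hc.mul_pow, h1, h2]
  congr 1
  have h4 := three_pow a (Nat.card G) h3
  rw [← ha] at h4
  rw [← pow_mod_orderOf x, h4, pow_mod_orderOf, pow_one]

include hk₁ hk₂ in
theorem exists_perm : ∃ σ : Equiv.Perm (IrrCharacter G), (∀ χ g, (σ χ : G → ℂ) g = (χ : G → ℂ) (g ^ k)) ∧ σ ^ (2 ^ Nat.card G) = 1 := by
  obtain ⟨τ, hτ⟩ := exists_gal_of_coprime (coprime_of hk₁ hk₂)
  have h1 : ∀ (χ : IrrCharacter G) g, (galIrr τ χ : G → ℂ) g = (χ : G → ℂ) (g ^ k) := fun χ g => by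
    rw [galIrr_apply, hτ _ (irr_isCharacter χ.2)]
  refine ⟨galIrr τ, h1, ?_⟩
  have h2 : ∀ n (χ : IrrCharacter G) g, (((galIrr τ : Equiv.Perm (IrrCharacter G)) ^ n) χ : G → ℂ) g = (χ : G → ℂ) (g ^ (k ^ n)) := by
    intro n
    induction n with
    | zero => intro χ g; simp
    | succ n ih =>
      intro χ g
      rw [pow_succ, Equiv.Perm.mul_apply, ih, h1, ← pow_mul, pow_succ]
  refine Equiv.ext fun χ => Subtype.ext (funext fun g => ?_)
  rw [h2, iter hk₁ hk₂]
  rfl

variable [Fact (Nat.Prime 2)]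

/-- the weights -/
noncomputable def w (M : Ideal AlgInt) (P : Subgroup G) [Fintype P] (μ : P →* ℂˣ) (χ : IrrCharacter G) : ℂ :=
  ind (principalBlock M G) χ * ((χ : G → ℂ) 1 * classInner (fun y : P => (χ : G → ℂ) y) (fun y => (μ y : ℂ)))

omit [Fact (Nat.Prime 2)] in
theorem mult_nat (P : Subgroup G) [Fintype P] (μ : P →* ℂˣ) (χ : IrrCharacter G) :
    ∃ m : ℕ, classInner (fun y : P => (χ : G → ℂ) y) (fun y => (μ y : ℂ)) = m :=
  (isCharacter_iff.mp (isCharacter_restrict (irr_isCharacter χ.2) P)).2 _ (isIrrCharacter_hom μ)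

omit [Fact (Nat.Prime 2)] in
theorem w_ring (hp : M.IsPrime) (P : Subgroup G) [Fintype P] (μ : P →* ℂˣ) (χ : IrrCharacter G) : MemLocalRing M (w M P μ χ) := by
  obtain ⟨m, hm⟩ := mult_nat P μ χ
  unfold w
  rw [hm]
  apply ring_mul hp
  · unfold ind
    by_cases h : χ ∈ principalBlock M G
    · rw [Set.indicator_of_mem h]; exact ring_one hp
    · rw [Set.indicator_of_notMem h]; exact ring_zero hp
  · exact ring_mul hp (irr_ring hp χ 1) (ring_nat hp m)

theorem sum_w (hM : IsPModular 2 M) (P : Sylow 2 G) [Fintype (P : Subgroup G)] (μ : (P : Subgroup G) →* ℂˣ) :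
    ∑ χ : IrrCharacter G, w M (P : Subgroup G) μ χ =
      (Nat.card (P : Subgroup G) : ℂ)⁻¹ * ∑ χ : IrrCharacter G, ind (principalBlock M G) χ * ((χ : G → ℂ) 1 * (χ : G → ℂ) 1) := by
  classical
  unfold w classInner
  have h1 : ∀ y : (P : Subgroup G), ∑ χ : IrrCharacter G, ind (principalBlock M G) χ * ((χ : G → ℂ) 1 * (χ : G → ℂ) y) =
      if y = 1 then ∑ χ : IrrCharacter G, ind (principalBlock M G) χ * ((χ : G → ℂ) 1 * (χ : G → ℂ) 1) else 0 := by
    intro y
    split_ifs with hy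
    · rw [hy]; rfl
    · have h2 : 2 ∣ orderOf (y : G) := by
        obtain ⟨j, hj⟩ := (IsPGroup.iff_orderOf.mp P.2) y
        rw [Subgroup.orderOf_coe, hj]
        rcases Nat.eq_zero_or_pos j with rfl | hj0
        · rw [pow_zero, orderOf_eq_one_iff] at hj
          exact absurd hj hy
        · exact dvd_pow_self 2 hj0.ne'
      have h3 := weak_block_orth hM isPBlock_principal (x := (1 : G)) (y := ((y : G))⁻¹) (by rw [orderOf_one]; norm_num) (by rw [orderOf_inv]; exact h2)
      rw [← sum_ind] at h3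
      rw [← h3]
      refine Finset.sum_congr rfl fun χ _ => ?_
      rw [← char_inv_eq_conj (irr_isCharacter χ.2), inv_inv]
  have h2 : ∀ χ : IrrCharacter G, ind (principalBlock M G) χ * ((χ : G → ℂ) 1 * ((Nat.card (P : Subgroup G) : ℂ)⁻¹ * ∑ y : (P : Subgroup G), (χ : G → ℂ) y * conj ((μ y : ℂˣ) : ℂ))) =
      ∑ y : (P : Subgroup G), (Nat.card (P : Subgroup G) : ℂ)⁻¹ * conj ((μ y : ℂˣ) : ℂ) * (ind (principalBlock M G) χ * ((χ : G → ℂ) 1 * (χ : G → ℂ) y)) := by
    intro χ
    rw [Finset.mul_sum, Finset.mul_sum, Finset.mul_sum]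
    exact Finset.sum_congr rfl fun y _ => by ring
  rw [Finset.sum_congr rfl fun χ _ => h2 χ, Finset.sum_comm]
  rw [Finset.sum_congr rfl fun y _ => by rw [← Finset.mul_sum, h1 y]]
  rw [Finset.sum_eq_single (1 : (P : Subgroup G))]
  · rw [if_pos rfl, map_one, Units.val_one, map_one, mul_one]
  · intro y _ hy
    rw [if_neg hy, mul_zero]
  · intro h; exact absurd (Finset.mem_univ _) h

omit [Fact (Nat.Prime 2)] in
theorem pow_bij {X : Type*} [Group X] [Finite X] {n : ℕ} (hn : n.Coprime (Nat.card X)) : Function.Bijective (fun x : X => x ^ n) := by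
  have h1 : Function.Injective (fun x : X => x ^ n) := by
    intro a b hab
    obtain ⟨m, hm⟩ := exists_pow_eq_self_of_coprime (n := n) (x := a) (Nat.Coprime.coprime_dvd_right (orderOf_dvd_natCard a) hn)
    obtain ⟨m', hm'⟩ := exists_pow_eq_self_of_coprime (n := n) (x := b) (Nat.Coprime.coprime_dvd_right (orderOf_dvd_natCard b) hn)
    have h2 : (powCoprime hn.symm) a = (powCoprime hn.symm) b := hab
    exact (powCoprime hn.symm).injective h2
  exact ⟨h1, Finite.surjective_of_injective h1⟩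

omit [Fact (Nat.Prime 2)] in
theorem ind_pow {n : ℕ} (hn : n.Coprime (Nat.card G)) {χ χ' : IrrCharacter G} (h : ∀ g, (χ' : G → ℂ) g = (χ : G → ℂ) (g ^ n)) :
    ind (principalBlock M G) χ' = ind (principalBlock M G) χ := by
  have h1 := principal_stable (M := M) (fun g : G => g ^ n) (pow_bij hn).2 (centralizer_pow hn) (one_pow n) h
  unfold ind
  by_cases h2 : χ ∈ principalBlock M G
  · rw [Set.indicator_of_mem h2, Set.indicator_of_mem (h1.mpr h2)]
  · rw [Set.indicator_of_notMem h2, Set.indicator_of_notMem (fun h3 => h2 (h1.mp h3))]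

omit [Fact (Nat.Prime 2)] in
theorem w_pow {n : ℕ} (hn : n.Coprime (Nat.card G)) {χ χ' : IrrCharacter G} (h : ∀ g, (χ' : G → ℂ) g = (χ : G → ℂ) (g ^ n))
    (P : Subgroup G) [Fintype P] (μ : P →* ℂˣ) (hμ : ∀ y, μ y ^ n = μ y) : w M P μ χ' = w M P μ χ := by
  unfold w
  rw [ind_pow hn h, h, one_pow]
  congr 2
  unfold classInner
  congr 1
  have hnP : n.Coprime (Nat.card P) := Nat.Coprime.coprime_dvd_right (Subgroup.card_subgroup_dvd_card P) hn
  rw [← Function.Bijective.sum_comp (pow_bij hnP) (fun y : P => (χ : G → ℂ) y * conj ((μ y : ℂˣ) : ℂ))]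
  refine Finset.sum_congr rfl fun y _ => ?_
  simp only [map_pow, hμ, h, Subgroup.coe_pow]

omit [Fact (Nat.Prime 2)] in
theorem inner_hom (P : Subgroup G) [Fintype P] (a b : P →* ℂˣ) :
    classInner (fun y : P => (a y : ℂ)) (fun y => (b y : ℂ)) = if a = b then 1 else 0 := by
  split_ifs with h
  · subst h; exact irr_inner_self (isIrrCharacter_hom a)
  · refine irr_inner_ne (isIrrCharacter_hom a) (isIrrCharacter_hom b) (fun h1 => h ?_)
    ext y
    exact congrFun h1 y

include hk₁ hk₂ in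
/-- under the hypothesis of S4549, linear characters of order two of the Sylow subgroup extend -/
theorem exists_ext (hM : IsPModular 2 M) (P : Sylow 2 G)
    (hyp : ∀ χ ∈ principalBlock M G, Odd (charDegree (χ : G → ℂ)) → (∀ g : G, (χ : G → ℂ) (g ^ k) = (χ : G → ℂ) g) → charDegree (χ : G → ℂ) = 1)
    (μ : (P : Subgroup G) →* ℂˣ) (hμ : ∀ y, μ y ^ 2 = 1) : ∃ lam : G →* ℂˣ, ∀ y : (P : Subgroup G), lam y = μ y := by
  classical
  haveI := Fintype.ofFinite (P : Subgroup G)
  have hp := isPrime_of_modular hM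
  obtain ⟨σ, hσ, hσe⟩ := exists_perm hk₁ hk₂
  have hcop := coprime_of hk₁ hk₂
  -- the general term
  have hterm : ∀ (ν : (P : Subgroup G) →* ℂˣ) (χ : IrrCharacter G), σ χ = χ →
      (∀ lam : G →* ℂˣ, (∀ g, (χ : G → ℂ) g = lam g) → lam.comp (P : Subgroup G).subtype ≠ ν) →
      MemLocalIdeal M (w M (P : Subgroup G) ν χ) := by
    intro ν χ hfix hno
    unfold w
    by_cases hχ : χ ∈ principalBlock M G
    · rcases Nat.even_or_odd (charDegree (χ : G → ℂ)) with he | ho
      · obtain ⟨m, hm⟩ := mult_nat (P : Subgroup G) ν χ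
        rw [hm, CfsgLib.CharInt.irr_one_eq_charDegree χ.2]
        apply ideal_mul_left hp
        · unfold ind; rw [Set.indicator_of_mem hχ]; exact ring_one hp
        · exact ideal_mul_right hp ((ideal_nat_iff hM).mpr (even_iff_two_dvd.mp he)) (ring_nat hp m)
      · have h1 := hyp χ hχ ho (fun g => by rw [← hσ, hfix])
        obtain ⟨lam, hlam⟩ := exists_hom_of_linear (irr_isCharacter χ.2) (by rw [CfsgLib.CharInt.irr_one_eq_charDegree χ.2, h1, Nat.cast_one])
        have h2 : (fun y : (P : Subgroup G) => (χ : G → ℂ) y) = fun y => ((lam.comp (P : Subgroup G).subtype y : ℂˣ) : ℂ) := by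
          ext y; exact hlam y
        rw [h2, inner_hom, if_neg (hno lam hlam), mul_zero, mul_zero]
        exact ideal_zero hp
    · unfold ind; rw [Set.indicator_of_notMem hχ, zero_mul]; exact ideal_zero hp
  by_contra hcon
  push Not at hcon
  have hkodd : Odd k ∨ Nat.card (P : Subgroup G) = 1 := by
    by_cases h2 : 2 ∣ Nat.card G
    · left
      rw [← Nat.not_even_iff_odd]
      intro he
      have := Nat.dvd_gcd (even_iff_two_dvd.mp he) h2
      rw [hcop] at this
      omega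
    · right
      obtain ⟨j, hj⟩ := (IsPGroup.iff_card.mp P.2)
      rcases Nat.eq_zero_or_pos j with rfl | hj0
      · rw [hj, pow_zero]
      · exact absurd ((dvd_pow_self 2 hj0.ne').trans (hj ▸ Subgroup.card_subgroup_dvd_card _)) h2
  have hμk : ∀ y, μ y ^ k = μ y := by
    intro y
    rcases hkodd with ⟨r, hr⟩ | h1
    · rw [hr, pow_succ, pow_mul, hμ, one_pow, one_mul]
    · have : y = 1 := by
        haveI := (Nat.card_eq_one_iff_unique.mp h1).1
        exact Subsingleton.elim _ _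
      rw [this, map_one, one_pow]
  -- the sum over all characters for μ
  have hsum1 : MemLocalIdeal M (∑ χ : IrrCharacter G, w M (P : Subgroup G) μ χ) := by
    have h1 := sum_fixed_ideal hM σ (Nat.card G) hσe (w M (P : Subgroup G) μ) (fun χ => w_pow hcop (hσ χ) _ μ hμk) (w_ring hp _ μ)
    have h2 : MemLocalIdeal M (∑ χ : IrrCharacter G with σ χ = χ, w M (P : Subgroup G) μ χ) := by
      refine ideal_sum hp _ _ fun χ hχ => ?_
      refine hterm μ χ (Finset.mem_filter.mp hχ).2 (fun lam hlam h3 => ?_)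
      obtain ⟨y, hy⟩ := hcon lam
      exact hy (DFunLike.congr_fun h3 y)
    have h3 := ideal_add hp h1 h2
    rwa [sub_add_cancel] at h3
  -- conjugation
  let c : Equiv.Perm (IrrCharacter G) :=
    { toFun := fun χ => ⟨_, isIrrCharacter_conj χ.2⟩
      invFun := fun χ => ⟨_, isIrrCharacter_conj χ.2⟩
      left_inv := fun χ => Subtype.ext (funext fun g => Complex.conj_conj _)
      right_inv := fun χ => Subtype.ext (funext fun g => Complex.conj_conj _) }
  have hc : ∀ (χ : IrrCharacter G) g, (c χ : G → ℂ) g = conj ((χ : G → ℂ) g) := fun χ g => rfl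
  have hc2 : c ^ (2 ^ 1) = 1 := by
    rw [pow_one, pow_two]
    refine Equiv.ext fun χ => Subtype.ext (funext fun g => Complex.conj_conj _)
  have hinv : ∀ (χ : IrrCharacter G) g, (c χ : G → ℂ) g = (χ : G → ℂ) (g ^ (Nat.card G - 1)) := by
    intro χ g
    rw [hc, ← char_inv_eq_conj (irr_isCharacter χ.2)]
    have : g⁻¹ = g ^ (Nat.card G - 1) := by
      rw [inv_eq_iff_mul_eq_one, ← pow_succ', Nat.sub_add_cancel Nat.card_pos, pow_card_eq_one']
    rw [this]
  have hcop1 : (Nat.card G - 1).Coprime (Nat.card G) := by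
    rw [Nat.coprime_comm]
    exact (Nat.coprime_self_sub_right Nat.card_pos).mpr (Nat.coprime_one_right _)
  have hσc : ∀ χ, σ (c χ) = c χ ↔ σ χ = χ := by
    intro χ
    have h1 : σ (c χ) = c (σ χ) := by
      apply Subtype.ext; funext g
      rw [hσ, hc, hc, hσ]
    rw [h1]
    exact c.injective.eq_iff
  set f : IrrCharacter G → ℂ := fun χ => if σ χ = χ then w M (P : Subgroup G) 1 χ else 0 with hf
  have hsum2 := sum_fixed_ideal hM σ (Nat.card G) hσe (w M (P : Subgroup G) 1) (fun χ => w_pow hcop (hσ χ) _ 1 (fun y => by simp)) (w_ring hp _ 1)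
  have hsum3 := sum_fixed_ideal hM c 1 hc2 f (fun χ => by
    simp only [hf, hσc]
    split_ifs
    · exact w_pow hcop1 (hinv χ) _ 1 (fun y => by simp)
    · rfl) (fun χ => by
    simp only [hf]
    split_ifs
    · exact w_ring hp _ 1 χ
    · exact ring_zero hp)
  have hsum4 : MemLocalIdeal M (∑ χ : IrrCharacter G with c χ = χ, f χ - 1) := by
    have h1 : one G ∈ Finset.univ.filter (fun χ : IrrCharacter G => c χ = χ) := by
      rw [Finset.mem_filter]
      refine ⟨Finset.mem_univ _, Subtype.ext (funext fun g => ?_)⟩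
      rw [hc, one_apply, map_one]
    rw [← Finset.add_sum_erase _ _ h1]
    have h2 : f (one G) = 1 := by
      have h3 : σ (one G) = one G := Subtype.ext (funext fun g => by rw [hσ, one_apply, one_apply])
      simp only [hf]
      rw [if_pos h3]
      unfold w ind
      rw [Set.indicator_of_mem (PB20.one_mem hM), one_apply, one_mul, one_mul]
      exact (inner_hom (P : Subgroup G) 1 1).trans (if_pos rfl)
    rw [h2, add_sub_cancel_left]
    refine ideal_sum hp _ _ fun χ hχ => ?_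
    rw [Finset.mem_erase, Finset.mem_filter] at hχ
    simp only [hf]
    split_ifs with hfix
    · refine hterm 1 χ hfix (fun lam hlam h3 => hχ.1 ?_)
      -- χ is trivial
      have hP : ∀ y ∈ (P : Subgroup G), lam y = 1 := fun y hy => DFunLike.congr_fun h3 ⟨y, hy⟩
      have hsq : ∀ g, lam g ^ 2 = 1 := by
        intro g
        have h4 : conj ((lam g : ℂˣ) : ℂ) = lam g := by
          have := hc χ g
          rw [hχ.2.2, hlam] at this
          exact this.symm
        have h5 : ((lam g⁻¹ : ℂˣ) : ℂ) = conj ((lam g : ℂˣ) : ℂ) := char_inv_eq_conj (isCharacter_hom lam) g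
        rw [h4] at h5
        have h6 := Units.ext h5
        rw [map_inv, inv_eq_iff_mul_eq_one, ← pow_two] at h6
        exact h6
      apply Subtype.ext
      funext g
      rw [hlam, one_apply]
      obtain ⟨x, x', hxx', hcm, ⟨a, ha⟩, hx'⟩ := isPPart_exists 2 g
      have hx1 : lam x = 1 := by
        have h4 : IsPGroup 2 (Subgroup.zpowers x) := IsPGroup.of_card (n := a) (by rw [Nat.card_zpowers, ha])
        obtain ⟨Q, hQ⟩ := h4.exists_le_sylow
        obtain ⟨z, hz⟩ := MulAction.exists_smul_eq G Q P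
        have h5 : z * x * z⁻¹ ∈ (P : Subgroup G) := by
          rw [← hz]
          exact Subgroup.smul_mem_pointwise_smul x (MulAut.conj z) (Q : Subgroup G) (hQ (Subgroup.mem_zpowers x))
        have h6 := hP _ h5
        rw [map_mul, map_mul, mul_comm (lam z), mul_assoc, ← map_mul, mul_inv_cancel, map_one, mul_one] at h6
        exact h6
      have hx1' : lam x' = 1 := by
        have h4 : lam x' ^ orderOf x' = 1 := by rw [← map_pow, pow_orderOf_eq_one, map_one]
        have h5 : Odd (orderOf x') := Nat.odd_iff.mpr (by omega)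
        obtain ⟨r, hr⟩ := h5
        rw [hr, pow_succ, pow_mul, hsq, one_pow, one_mul] at h4
        exact h4
      rw [← hxx', map_mul, hx1, hx1', one_mul, Units.val_one]
    · exact ideal_zero hp
  have hfin : MemLocalIdeal M 1 := by
    rw [sum_w hM P μ, ← sum_w hM P 1] at hsum1
    have h1 : ∑ χ : IrrCharacter G with σ χ = χ, w M (P : Subgroup G) 1 χ = ∑ χ : IrrCharacter G, f χ := by
      rw [Finset.sum_filter]
    rw [h1] at hsum2
    have h2 := ideal_add hp (ideal_add hp hsum2 hsum3) hsum4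
    have h3 := ideal_sub hp hsum1 h2
    have h4 : (∑ χ : IrrCharacter G, w M (P : Subgroup G) 1 χ) -
        ((∑ χ : IrrCharacter G, w M (P : Subgroup G) 1 χ - ∑ χ : IrrCharacter G, f χ) +
        (∑ χ : IrrCharacter G, f χ - ∑ χ : IrrCharacter G with c χ = χ, f χ) +
        (∑ χ : IrrCharacter G with c χ = χ, f χ - 1)) = 1 := by ring
    rwa [h4] at h3
  have h5 : MemLocalIdeal M ((1 : ℕ) : ℂ) := by rwa [Nat.cast_one]
  rw [ideal_nat_iff hM] at h5
  omega

theorem npc_of_ext (P : Sylow 2 G)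
    (h : ∀ μ : (P : Subgroup G) →* ℂˣ, (∀ y, μ y ^ 2 = 1) → ∃ lam : G →* ℂˣ, ∀ y : (P : Subgroup G), lam y = μ y) :
    HasNormalPComplement 2 G := by
  haveI hRn : (pResidual 2 G).Normal := CfsgLib.TransFus.pResidual_normal 2
  have key : pResidual 2 G ⊓ (P : Subgroup G) ≤ (frattini P).map (P : Subgroup G).subtype := by
    intro y hy
    obtain ⟨hyR, hyP⟩ := Subgroup.mem_inf.mp hy
    by_contra hno
    have hPp : IsPGroup 2 (P : Subgroup G) := P.2
    set Q := (P : Subgroup G) with hQ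
    have hyΦ : (⟨y, hyP⟩ : Q) ∉ frattini Q := fun h1 => hno ⟨⟨y, hyP⟩, h1, rfl⟩
    have hab : ∀ a b : Q ⧸ frattini Q, a * b = b * a := by
      intro a b
      induction a using QuotientGroup.induction_on with
      | H a =>
        induction b using QuotientGroup.induction_on with
        | H b =>
          rw [← QuotientGroup.mk_mul, ← QuotientGroup.mk_mul, QuotientGroup.eq]
          have h1 := CfsgLib.SolvFrat.commutator_le_frattini Nat.prime_two hPp
            (Subgroup.commutator_mem_commutator (Subgroup.mem_top b⁻¹) (Subgroup.mem_top a⁻¹))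
          have h2 : (a * b)⁻¹ * (b * a) = ⁅b⁻¹, a⁻¹⁆ := by rw [commutatorElement_def]; group
          rw [h2]; exact h1
    have hne : ((⟨y, hyP⟩ : Q) : Q ⧸ frattini Q) ≠ 1 := fun h1 => hyΦ ((QuotientGroup.eq_one_iff _).mp h1)
    obtain ⟨f, hf⟩ := exists_hom_ne_one hab hne
    obtain ⟨lam, hlam⟩ := h (f.comp (QuotientGroup.mk' (frattini Q))) (fun z => by
      rw [← map_pow]
      have h1 : (QuotientGroup.mk' (frattini Q)) (z ^ 2) = 1 := (QuotientGroup.eq_one_iff _).mpr (CfsgLib.SolvFrat.pow_mem_frattini Nat.prime_two hPp z)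
      rw [MonoidHom.comp_apply, h1, map_one])
    have h1 : ∀ r ∈ pResidual 2 G, ∃ j : ℕ, Odd j ∧ lam r ^ j = 1 := by
      intro r hr
      unfold pResidual at hr
      induction hr using Subgroup.closure_induction with
      | mem x hx =>
        refine ⟨orderOf x, ?_, by rw [← map_pow, pow_orderOf_eq_one, map_one]⟩
        exact Nat.coprime_two_right.mp hx
      | one => exact ⟨1, odd_one, by simp⟩
      | mul a b _ _ iha ihb =>
        obtain ⟨i, hi, hi'⟩ := iha
        obtain ⟨j, hj, hj'⟩ := ihb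
        refine ⟨i * j, hi.mul hj, ?_⟩
        rw [map_mul, mul_pow, pow_mul, hi', one_pow, one_mul, mul_comm, pow_mul, hj', one_pow]
      | inv a _ iha =>
        obtain ⟨i, hi, hi'⟩ := iha
        exact ⟨i, hi, by rw [map_inv, inv_pow, hi', inv_one]⟩
    obtain ⟨j, ⟨r, hr⟩, hj⟩ := h1 y hyR
    have h2 : lam y = f ((⟨y, hyP⟩ : Q) : Q ⧸ frattini Q) := hlam ⟨y, hyP⟩
    have h3 : (lam y) ^ 2 = 1 := by
      rw [h2, ← map_pow]
      have h1 : ((⟨y, hyP⟩ : Q) : Q ⧸ frattini Q) ^ 2 = 1 := by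
        rw [← QuotientGroup.mk_pow]
        exact (QuotientGroup.eq_one_iff _).mpr (CfsgLib.SolvFrat.pow_mem_frattini Nat.prime_two hPp _)
      rw [h1, map_one]
    rw [hr, pow_succ, pow_mul, h3, one_pow, one_mul, h2] at hj
    exact hf hj
  have h1 := CfsgLib.Tate.tate P (pResidual 2 G) key
  rw [CfsgLib.TransFus.hasNPC_iff_pResidual] at h1 ⊢
  rw [CfsgLib.Tate.pResidual_pResidual] at h1
  rwa [Subgroup.card_top] at h1

theorem degree_one_of_npc (hM : IsPModular 2 M) (h : HasNormalPComplement 2 G) {χ : IrrCharacter G} (hχ : χ ∈ principalBlock M G)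
    (hodd : Odd (charDegree (χ : G → ℂ))) : charDegree (χ : G → ℂ) = 1 := by
  obtain ⟨k, hk⟩ := CfsgLib.Npc9.hnpc_iff_pPrimeCore.mp h
  obtain ⟨χ', h1, h2⟩ := CfsgLib.Quot19.irr_deflate (pPrimeCore 2 G) χ.2 (CfsgLib.PB19.ker_principal hM hχ)
  have h3 : χ' 1 = (charDegree (χ : G → ℂ) : ℂ) := by
    rw [← CfsgLib.CharInt.irr_one_eq_charDegree χ.2, ← h2]
    rfl
  have h4 := CfsgLib.Extend.degree_dvd_card h1 h3
  rw [← Subgroup.index_eq_card, hk] at h4
  obtain ⟨j, _, hj⟩ := (Nat.dvd_prime_pow Nat.prime_two).mp h4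
  rw [hj] at hodd ⊢
  rcases Nat.eq_zero_or_pos j with rfl | hj0
  · rw [pow_zero]
  · exact absurd (even_iff_two_dvd.mpr (dvd_pow_self 2 hj0.ne')) (Nat.not_even_iff_odd.mpr hodd)

end CfsgLib.PBSigma
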