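import Cfsg.Agent.LibFus21Sect
import Cfsg.Agent.LibQd9

set_option autoImplicit false

/-! Groups with a normal Sylow `p`-subgroup, and a criterion for not involving groups. -/

namespace CfsgLib.PCl

open Cfsg

/-- there is a normal `p`-subgroup of index prime to `p` -/
def PCl (p : ℕ) (H : Type*) [Group H] : Prop := ∃ N : Subgroup H, N.Normal ∧ IsPGroup p N ∧ ¬ p ∣ N.index

theorem PCl.subgroup {p : ℕ} {H : Type*} [Group H] (h : PCl p H) (K : Subgroup H) : PCl p K := by
  obtain ⟨N, hN, hp, hi⟩ := h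
  refine ⟨N.subgroupOf K, inferInstance, hp.comap_of_injective K.subtype K.subtype_injective, fun hd => hi ?_⟩
  exact hd.trans (Subgroup.relIndex_dvd_index_of_normal N K)

theorem PCl.of_surj {p : ℕ} {H X : Type*} [Group H] [Group X] (h : PCl p H) (f : H →* X)
    (hf : Function.Surjective f) : PCl p X := by
  obtain ⟨N, hN, hp, hi⟩ := h
  exact ⟨N.map f, hN.map f hf, hp.map f, fun hd => hi (hd.trans (Subgroup.index_map_dvd N hf))⟩

/-- a normal `p`-subgroup containing all `p`-elements -/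
theorem PCl.of_normal {p : ℕ} [hp : Fact p.Prime] {H : Type*} [Group H] [Finite H] (N : Subgroup H) (hN : N.Normal)
    (hpN : IsPGroup p N) (h : ∀ x : H, (∃ k, x ^ p ^ k = 1) → x ∈ N) : PCl p H := by
  refine ⟨N, hN, hpN, fun hd => ?_⟩
  obtain ⟨P⟩ : Nonempty (Sylow p H) := inferInstance
  have hle : (P : Subgroup H) ≤ N := fun x hx => by
    obtain ⟨k, hk⟩ := P.2 ⟨x, hx⟩
    exact h x ⟨k, by simpa using congrArg Subtype.val hk⟩
  have := Subgroup.index_dvd_of_le hle
  exact P.not_dvd_index (hd.trans this)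

/-- in a group with the Sylow `p`-subgroup normal, the `p`-elements are closed under products -/
theorem PCl.mul {p : ℕ} [hp : Fact p.Prime] {H : Type*} [Group H] [Finite H] (h : PCl p H) {x y : H}
    (hx : ∃ k, x ^ p ^ k = 1) (hy : ∃ k, y ^ p ^ k = 1) : ∃ k, (x * y) ^ p ^ k = 1 := by
  obtain ⟨N, hN, hpN, hi⟩ := h
  have key : ∀ x : H, (∃ k, x ^ p ^ k = 1) → x ∈ N := by
    rintro x ⟨k, hk⟩
    have h1 : (QuotientGroup.mk' N x) ^ p ^ k = 1 := by rw [← map_pow, hk, map_one]
    have h2 : (QuotientGroup.mk' N x) ^ N.index = 1 := by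
      rw [← map_pow]
      exact (QuotientGroup.eq_one_iff _).2 (N.pow_index_mem x)
    have h3 : Nat.Coprime (p ^ k) N.index := ((Nat.Prime.coprime_iff_not_dvd hp.out).2 hi).pow_left k
    have h4 : orderOf (QuotientGroup.mk' N x) = 1 :=
      Nat.eq_one_of_dvd_coprimes h3 (orderOf_dvd_of_pow_eq_one h1) (orderOf_dvd_of_pow_eq_one h2)
    rw [orderOf_eq_one_iff] at h4
    exact (QuotientGroup.eq_one_iff _).1 h4
  obtain ⟨k, hk⟩ := hpN ⟨x * y, N.mul_mem (key x hx) (key y hy)⟩
  exact ⟨k, by simpa using congrArg Subtype.val hk⟩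

/-- the criterion -/
theorem not_involves {p : ℕ} [hp : Fact p.Prime] {G I : Type*} [Group G] [Finite G] [MulAction G I]
    (h1 : ∀ u : G, u ≠ 1 → (∃ k, u ^ p ^ k = 1) → ∃! x : I, u • x = x)
    (h2 : ∀ x : I, PCl p (MulAction.stabilizer G x))
    {X : Type*} [Group X] (N : Subgroup X) (hN : N.Normal) (hNb : N ≠ ⊥) (hNp : IsPGroup p N)
    (hX : Involves X G) : PCl p X := by
  obtain ⟨K, π, hπ⟩ := CfsgLib.Fus21.involves_iff.1 hX
  haveI : Finite X := Finite.of_surjective π hπ
  let K0 : Subgroup K := N.comap π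
  haveI : K0.Normal := hN.comap π
  obtain ⟨P⟩ : Nonempty (Sylow p K0) := inferInstance
  have hF := Sylow.normalizer_sup_eq_top P
  set P0 : Subgroup K := (P : Subgroup K0).map K0.subtype with hP0
  have hP0p : IsPGroup p P0 := P.2.map _
  -- `P0` maps onto `N`
  let π0 : K0 →* N := (π.comp K0.subtype).codRestrict N (fun x => x.2)
  have hπ0 : Function.Surjective π0 := by
    rintro ⟨y, hy⟩
    obtain ⟨x, rfl⟩ := hπ y
    exact ⟨⟨x, hy⟩, rfl⟩
  have hPN : (P : Subgroup K0).map π0 = ⊤ := by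
    have h3 := Subgroup.index_map_dvd (P : Subgroup K0) hπ0
    obtain ⟨n, hn⟩ := IsPGroup.iff_card.1 hNp
    have h4 : ((P : Subgroup K0).map π0).index ∣ p ^ n := by
      rw [← hn]
      exact Subgroup.index_dvd_card _
    have h5 : Nat.Coprime (p ^ n) ((P : Subgroup K0).map π0).index := by
      refine (((Nat.Prime.coprime_iff_not_dvd hp.out).2 fun hd => P.not_dvd_index (hd.trans h3))).pow_left n
    have h6 := Nat.Coprime.eq_one_of_dvd h5.symm h4
    exact Subgroup.index_eq_one.1 h6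
  have hmap : P0.map π = N := by
    apply le_antisymm
    · rintro _ ⟨_, ⟨x, hx, rfl⟩, rfl⟩
      exact x.2
    · intro y hy
      have : (⟨y, hy⟩ : N) ∈ (P : Subgroup K0).map π0 := by rw [hPN]; trivial
      obtain ⟨x, hx, hxy⟩ := this
      exact ⟨x, ⟨x, hx, rfl⟩, congrArg Subtype.val hxy⟩
  have hsurj : ∀ y : X, ∃ g : K, g ∈ Subgroup.normalizer (P0 : Set K) ∧ π g = y := by
    intro y
    obtain ⟨x, rfl⟩ := hπ y
    have hx : x ∈ Subgroup.normalizer (P0 : Set K) ⊔ K0 := by rw [hF]; trivial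
    obtain ⟨a, ha, b, hb, rfl⟩ := Subgroup.mem_sup_of_normal_right.1 hx
    have hb' : π b ∈ P0.map π := by rw [hmap]; exact hb
    obtain ⟨c, hc, hcb⟩ := hb'
    exact ⟨a * c, Subgroup.mul_mem _ ha (Subgroup.le_normalizer hc), by rw [map_mul, map_mul, hcb]⟩
  -- a central element of `P0`
  have hP0b : Nontrivial P0 := by
    rw [Subgroup.nontrivial_iff_ne_bot]
    rintro h
    rw [h, Subgroup.map_bot] at hmap
    exact hNb hmap.symm
  haveI : Finite P0 := inferInstance
  have hc : Nontrivial (Subgroup.center P0) := hP0p.center_nontrivial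
  obtain ⟨z, hz, hz1⟩ := (Subgroup.nontrivial_iff_exists_ne_one _).1 hc
  have hzp : ∀ x : P0, ∃ k, ((x : K) : G) ^ p ^ k = 1 := by
    intro x
    obtain ⟨k, hk⟩ := hP0p x
    exact ⟨k, by simpa using congrArg (fun t : P0 => ((t : K) : G)) hk⟩
  have hne : ∀ x : P0, x ≠ 1 → ((x : K) : G) ≠ 1 := by
    intro x hx h
    exact hx (Subtype.ext (Subtype.ext h))
  obtain ⟨w, hw, hwu⟩ := h1 _ (hne z hz1) (hzp z)
  have hfix : ∀ x : P0, ((x : K) : G) • w = w := by
    intro x
    apply hwu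
    change ((z : K) : G) • ((x : K) : G) • w = ((x : K) : G) • w
    rw [← mul_smul]
    have : ((z : K) : G) * ((x : K) : G) = ((x : K) : G) * ((z : K) : G) :=
      congrArg (fun t : P0 => ((t : K) : G)) (Subgroup.mem_center_iff.1 hz x).symm
    rw [this, mul_smul, hw]
  have hnorm : ∀ g : K, g ∈ Subgroup.normalizer (P0 : Set K) → (g : G) • w = w := by
    intro g hg
    have hz' : g * z * g⁻¹ ∈ P0 := (Subgroup.mem_normalizer_iff.1 hg _).1 z.2
    have hne' : (⟨_, hz'⟩ : P0) ≠ 1 := by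
      intro h
      have h' : g * (z : K) * g⁻¹ = 1 := congrArg Subtype.val h
      rw [mul_inv_eq_one, mul_eq_left] at h'
      exact hz1 (Subtype.ext h')
    obtain ⟨w', hw', hwu'⟩ := h1 _ (hne _ hne') (hzp _)
    have e1 : w = w' := hwu' w (hfix _)
    have e2 : (g : G) • w = w' := by
      apply hwu'
      change ((g : G) * ((z : K) : G) * (g : G)⁻¹) • (g : G) • w = (g : G) • w
      rw [mul_smul, mul_smul, inv_smul_smul, hw]
    rw [e2, e1]
  -- conclude
  let S := MulAction.stabilizer G w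
  let T : Subgroup S := ((Subgroup.normalizer (P0 : Set K)).map K.subtype).subgroupOf S
  have hT := (h2 w).subgroup T
  have hle : ∀ t : T, ((t : S) : G) ∈ K := fun t => by
    obtain ⟨x, hx, hxt⟩ := Subgroup.mem_subgroupOf.1 t.2
    rw [← hxt]; exact x.2
  let φ : T →* X :=
    { toFun := fun t => π ⟨((t : S) : G), hle t⟩
      map_one' := by
        rw [← map_one π]; rfl
      map_mul' := fun a b => by
        rw [← map_mul]; rfl }
  refine hT.of_surj φ ?_
  intro y
  obtain ⟨g, hg, rfl⟩ := hsurj y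
  exact ⟨⟨⟨(g : G), hnorm g hg⟩, Subgroup.mem_subgroupOf.2 ⟨g, hg, rfl⟩⟩, rfl⟩

end CfsgLib.PCl
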