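import Cfsg.Agent.LibPCl26

set_option autoImplicit false

/-! Flag stabilisers in characteristic `p`. -/

namespace CfsgLib.PCl

open Cfsg Matrix

section flag

variable {p : ℕ} [hp : Fact p.Prime] {K : Type*} [Field K] [CharP K p] {n : ℕ} [NeZero n]
  {H : Type*} [Group H] [Finite H] (ρ : H →* Matrix (Fin n) (Fin n) K)

omit [NeZero n] [Finite H] hp [CharP K p] in
theorem rho_inv (h : H) (v : Fin n → K) : ρ h⁻¹ *ᵥ (ρ h *ᵥ v) = v := by
  rw [mulVec_mulVec, ← map_mul, inv_mul_cancel, map_one, one_mulVec]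

omit [NeZero n] [Finite H] hp [CharP K p] in
theorem rho_inv' (h : H) (v : Fin n → K) : ρ h *ᵥ (ρ h⁻¹ *ᵥ v) = v := by
  rw [mulVec_mulVec, ← map_mul, mul_inv_cancel, map_one, one_mulVec]

omit [NeZero n] in
theorem eq_one_of_pow {c : K} {k : ℕ} (h : c ^ p ^ k = 1) : c = 1 := by
  have h1 : (c - 1) ^ p ^ k = 0 := by rw [sub_pow_char_pow, h, one_pow, sub_self]
  exact sub_eq_zero.1 (pow_eq_zero_iff (pow_ne_zero _ hp.out.ne_zero) |>.1 h1)

/-- a flag stabiliser is `p`-closed -/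
theorem flag (hρ : Function.Injective ρ) (F : ℕ → Submodule K (Fin n → K)) (m : ℕ) (h0 : F 0 = ⊥) (hm : F m = ⊤)
    (hst : ∀ h i, ∀ v ∈ F i, ρ h *ᵥ v ∈ F i)
    (hd : ∀ i, ∃ w ∈ F (i + 1), ∀ v ∈ F (i + 1), ∃ c : K, v - c • w ∈ F i) : PCl p H := by
  let N : Subgroup H :=
    { carrier := {h | ∀ i, ∀ v ∈ F (i + 1), ρ h *ᵥ v - v ∈ F i}
      one_mem' := by
        intro i v hv
        rw [map_one, one_mulVec, sub_self]
        exact (F i).zero_mem
      mul_mem' := by
        intro a b ha hb i v hv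
        have : ρ (a * b) *ᵥ v - v = ρ a *ᵥ (ρ b *ᵥ v - v) + (ρ a *ᵥ v - v) := by
          rw [map_mul, ← mulVec_mulVec, mulVec_sub]
          abel
        rw [this]
        exact (F i).add_mem (hst _ _ _ (hb i v hv)) (ha i v hv)
      inv_mem' := by
        intro a ha i v hv
        have : ρ a⁻¹ *ᵥ v - v = -(ρ a⁻¹ *ᵥ (ρ a *ᵥ v - v)) := by
          rw [mulVec_sub, rho_inv]
          abel
        rw [this]
        exact (F i).neg_mem (hst _ _ _ (ha i v hv)) }
  have hN : N.Normal := by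
    refine ⟨fun a ha g i v hv => ?_⟩
    have : ρ (g * a * g⁻¹) *ᵥ v - v = ρ g *ᵥ (ρ a *ᵥ (ρ g⁻¹ *ᵥ v) - ρ g⁻¹ *ᵥ v) := by
      rw [mulVec_sub, rho_inv', map_mul, map_mul, ← mulVec_mulVec, ← mulVec_mulVec]
    rw [this]
    exact hst _ _ _ (ha i _ (hst _ _ _ hv))
  refine PCl.of_normal N hN ?_ ?_
  · rintro ⟨h, hh⟩
    refine ⟨m, Subtype.ext (hρ ?_)⟩
    have key : ∀ j, ∀ v ∈ F j, (ρ h - 1) ^ j *ᵥ v = 0 := by
      intro j
      induction j with
      | zero =>
        intro v hv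
        rw [h0, Submodule.mem_bot] at hv
        rw [hv, mulVec_zero]
      | succ j ih =>
        intro v hv
        rw [pow_succ, ← mulVec_mulVec]
        apply ih
        rw [sub_mulVec, one_mulVec]
        exact hh j v hv
    have h1 : (ρ h - 1) ^ m = 0 := by
      apply Matrix.toLin'.injective
      apply LinearMap.ext
      intro v
      rw [toLin'_apply, key m v (by rw [hm]; trivial), map_zero, LinearMap.zero_apply]
    have h2 : (ρ h - 1) ^ p ^ m = 0 := by
      have : m ≤ p ^ m := (Nat.lt_pow_self hp.out.one_lt).le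
      rw [← Nat.sub_add_cancel this, pow_add, h1, mul_zero]
    have h3 : ρ h ^ p ^ m = 1 := by
      have := sub_pow_char_pow_of_commute p m (Commute.one_right (ρ h))
      rw [h2, one_pow, eq_comm, sub_eq_zero] at this
      exact this
    change ρ (((⟨h, hh⟩ : N) ^ p ^ m : N) : H) = ρ 1
    rw [SubmonoidClass.coe_pow, map_pow, h3, map_one]
  · rintro h ⟨k, hk⟩ i v hv
    obtain ⟨w, hw, hws⟩ := hd i
    obtain ⟨c, hc⟩ := hws _ (hst h _ w hw)
    have key : ∀ j : ℕ, ρ (h ^ j) *ᵥ w - c ^ j • w ∈ F i := by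
      intro j
      induction j with
      | zero => rw [pow_zero, map_one, one_mulVec, pow_zero, one_smul, sub_self]; exact (F i).zero_mem
      | succ j ih =>
        have : ρ (h ^ (j + 1)) *ᵥ w - c ^ (j + 1) • w = ρ h *ᵥ (ρ (h ^ j) *ᵥ w - c ^ j • w) +
            c ^ j • (ρ h *ᵥ w - c • w) := by
          rw [mulVec_sub, mulVec_smul, mulVec_mulVec, ← map_mul, ← pow_succ', smul_sub, smul_smul, ← pow_succ]
          abel
        rw [this]
        exact (F i).add_mem (hst _ _ _ ih) ((F i).smul_mem _ hc)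
    have h1 : ρ h *ᵥ w - w ∈ F i := by
      by_cases hwi : w ∈ F i
      · exact (F i).sub_mem (hst _ _ _ hwi) hwi
      · have h2 := key (p ^ k)
        rw [hk, map_one, one_mulVec] at h2
        have h3 : (1 - c ^ p ^ k) • w ∈ F i := by rw [sub_smul, one_smul]; exact h2
        have h4 : c ^ p ^ k = 1 := by
          by_contra hne
          exact hwi (((F i).smul_mem_iff (sub_ne_zero.2 (Ne.symm hne))).1 h3)
        have h5 := eq_one_of_pow h4
        rw [h5, one_smul] at hc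
        exact hc
    obtain ⟨a, ha⟩ := hws v hv
    have : ρ h *ᵥ v - v = (ρ h *ᵥ (v - a • w) - (v - a • w)) + a • (ρ h *ᵥ w - w) := by
      rw [mulVec_sub, mulVec_smul, smul_sub]
      abel
    rw [this]
    exact (F i).add_mem ((F i).sub_mem (hst _ _ _ ha) ha) ((F i).smul_mem _ h1)

end flag

section qd

variable {p : ℕ} [hp : Fact p.Prime]

open CfsgLib.Qd9

/-- the normal subgroup of translations -/
def trans (p : ℕ) [Fact p.Prime] : Subgroup (qd p) where
  carrier := {x | ∃ i j, (x : Matrix.SpecialLinearGroup (Fin 3) (ZMod p)) = aff 1 i j}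
  one_mem' := ⟨0, 0, aff_one.symm⟩
  mul_mem' := by
    rintro x y ⟨i, j, h⟩ ⟨i', j', h'⟩
    exact ⟨_, _, by rw [Subgroup.coe_mul, h, h', aff_mul, one_mul]⟩
  inv_mem' := by
    rintro x ⟨i, j, h⟩
    refine ⟨-i, -j, ?_⟩
    rw [Subgroup.coe_inv, h, inv_eq_iff_mul_eq_one, aff_mul, one_mul, ← aff_one]
    simp

theorem trans_normal : (trans p).Normal := by
  refine ⟨?_⟩
  rintro x ⟨i, j, h⟩ g
  obtain ⟨m, a, b, hg⟩ := mem_qd.1 g.2
  obtain ⟨m', a', b', hg'⟩ := mem_qd.1 (g⁻¹).2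
  have h1 : aff m a b * aff m' a' b' = aff 1 0 0 := by
    rw [← hg, ← hg', aff_one, ← Subgroup.coe_mul, mul_inv_cancel, Subgroup.coe_one]
  rw [aff_mul] at h1
  have h2 := (aff_inj h1).1
  refine ⟨m 0 0 * i + m 0 1 * j, m 1 0 * i + m 1 1 * j, ?_⟩
  rw [Subgroup.coe_mul, Subgroup.coe_mul, hg, hg', h, aff_mul, aff_mul, mul_one, h2]
  have h3 := (aff_inj h1).2.1
  have h4 := (aff_inj h1).2.2
  congr 1
  · linear_combination h3
  · linear_combination h4

theorem trans_ne_bot : trans p ≠ ⊥ := by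
  intro h
  have h1 : (⟨aff 1 1 0, aff_mem _ _ _⟩ : qd p) ∈ trans p := ⟨1, 0, rfl⟩
  rw [h, Subgroup.mem_bot] at h1
  have h2 : aff (1 : Matrix.SpecialLinearGroup (Fin 2) (ZMod p)) 1 0 = aff 1 0 0 := by
    rw [aff_one]; exact congrArg Subtype.val h1
  exact one_ne_zero (aff_inj h2).2.1

theorem aff_pow (i j : ZMod p) (n : ℕ) :
    aff (1 : Matrix.SpecialLinearGroup (Fin 2) (ZMod p)) i j ^ n = aff 1 ((n : ZMod p) * i) ((n : ZMod p) * j) := by
  induction n with
  | zero => rw [pow_zero, Nat.cast_zero, zero_mul, zero_mul, aff_one]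
  | succ n ih =>
    rw [pow_succ, ih, aff_mul, one_mul]
    congr 1
    · simp; ring
    · simp; ring

theorem trans_isPGroup : IsPGroup p (trans p) := by
  rintro ⟨x, i, j, h⟩
  refine ⟨1, Subtype.ext (Subtype.ext ?_)⟩
  change (x : Matrix.SpecialLinearGroup (Fin 3) (ZMod p)) ^ p ^ 1 = 1
  rw [pow_one, h, aff_pow]
  simp [aff_one]

/-- `Qd(p)` is not `p`-closed -/
theorem not_pcl_qd (h2 : p ≠ 2) : ¬ PCl p (qd p) := by
  intro h
  let A : Matrix.SpecialLinearGroup (Fin 2) (ZMod p) := ⟨!![1, 1; 0, 1], by simp [Matrix.det_fin_two]⟩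
  let B : Matrix.SpecialLinearGroup (Fin 2) (ZMod p) := ⟨!![1, 0; 1, 1], by simp [Matrix.det_fin_two]⟩
  have hA : ∀ n : ℕ, (A ^ n : Matrix.SpecialLinearGroup (Fin 2) (ZMod p)).1 = !![1, (n : ZMod p); 0, 1] := by
    intro n
    induction n with
    | zero => ext i j; fin_cases i <;> fin_cases j <;> simp
    | succ n ih =>
      rw [pow_succ, Matrix.SpecialLinearGroup.coe_mul, ih]
      ext i j; fin_cases i <;> fin_cases j <;> simp [A, Matrix.mul_apply, Fin.sum_univ_two]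
      ring
  have hB : ∀ n : ℕ, (B ^ n : Matrix.SpecialLinearGroup (Fin 2) (ZMod p)).1 = !![1, 0; (n : ZMod p), 1] := by
    intro n
    induction n with
    | zero => ext i j; fin_cases i <;> fin_cases j <;> simp
    | succ n ih =>
      rw [pow_succ, Matrix.SpecialLinearGroup.coe_mul, ih]
      ext i j; fin_cases i <;> fin_cases j <;> simp [B, Matrix.mul_apply, Fin.sum_univ_two]
  have hpow : ∀ (M : Matrix.SpecialLinearGroup (Fin 2) (ZMod p)) (n : ℕ), aff M 0 0 ^ n = aff (M ^ n) 0 0 := by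
    intro M n
    induction n with
    | zero => rw [pow_zero, pow_zero, aff_one]
    | succ n ih => rw [pow_succ, ih, aff_mul, pow_succ]; simp
  have hA1 : A ^ p = 1 := by
    apply Subtype.ext
    rw [hA]
    ext i j; fin_cases i <;> fin_cases j <;> simp
  have hB1 : B ^ p = 1 := by
    apply Subtype.ext
    rw [hB]
    ext i j; fin_cases i <;> fin_cases j <;> simp
  obtain ⟨k, hk⟩ := h.mul (x := ⟨aff A 0 0, aff_mem _ _ _⟩) (y := ⟨aff B 0 0, aff_mem _ _ _⟩)
    ⟨1, Subtype.ext (by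
      change aff A 0 0 ^ p ^ 1 = 1
      rw [pow_one, hpow, hA1, aff_one])⟩ ⟨1, Subtype.ext (by
      change aff B 0 0 ^ p ^ 1 = 1
      rw [pow_one, hpow, hB1, aff_one])⟩
  have hk' : (aff A 0 0 * aff B 0 0) ^ p ^ k = 1 := congrArg Subtype.val hk
  rw [aff_mul] at hk'
  simp only [mul_zero, add_zero] at hk'
  rw [hpow, ← aff_one] at hk'
  have hk2 := (aff_inj hk').1
  have hk3 : (A * B : Matrix.SpecialLinearGroup (Fin 2) (ZMod p)).1 ^ p ^ k = 1 := by
    have := congrArg Subtype.val hk2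
    rwa [Matrix.SpecialLinearGroup.coe_pow] at this
  have hAB : (A * B : Matrix.SpecialLinearGroup (Fin 2) (ZMod p)).1 = !![2, 1; 1, 1] := by
    rw [Matrix.SpecialLinearGroup.coe_mul]
    ext i j; fin_cases i <;> fin_cases j <;> simp [A, B, Matrix.mul_apply, Fin.sum_univ_two]
    norm_num
  rw [hAB] at hk3
  -- the matrix `M - 1` is nilpotent, but its determinant is `-1`
  have h4 : ((!![2, 1; 1, 1] : Matrix (Fin 2) (Fin 2) (ZMod p)) - 1) ^ p ^ k = 0 := by
    have := sub_pow_char_pow_of_commute p k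
      (Commute.one_right (!![2, 1; 1, 1] : Matrix (Fin 2) (Fin 2) (ZMod p)))
    rw [this, hk3, one_pow, sub_self]
  have h5 := congrArg Matrix.det h4
  rw [Matrix.det_pow] at h5
  have h6 : ((!![2, 1; 1, 1] : Matrix (Fin 2) (Fin 2) (ZMod p)) - 1).det = -1 := by
    rw [Matrix.det_fin_two]
    simp
  rw [h6] at h5
  have h7 : (0 : Matrix (Fin 2) (Fin 2) (ZMod p)).det = 0 := by simp
  rw [h7] at h5
  exact neg_ne_zero.2 one_ne_zero (pow_eq_zero_iff (pow_ne_zero _ hp.out.ne_zero) |>.1 h5)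

end qd

end CfsgLib.PCl
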