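import Cfsg.Agent.LibPCl26B

set_option autoImplicit false

/-! Rank one groups in characteristic `p`. -/

namespace CfsgLib.PCl

open Cfsg Matrix

/-- a reflexive sesquilinear form -/
structure Frm {K : Type*} [Field K] {n : ℕ} (h : (Fin n → K) → (Fin n → K) → K) : Prop where
  add_left : ∀ u v w, h (u + v) w = h u w + h v w
  smul_left : ∀ (a : K) u v, h (a • u) v = a * h u v
  sub_right : ∀ u v w, h u (v - w) = h u v - h u w
  smul_right : ∀ a : K, ∃ b : K, ∀ u v, h u (b • v) = a * h u v
  refl : ∀ u v, h u v = 0 → h v u = 0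
  nondeg : ∀ v, (∀ u, h u v = 0) → v = 0

section

variable {p : ℕ} [hp : Fact p.Prime] {K : Type*} [Field K] [CharP K p] {n : ℕ} [NeZero n]
  {h : (Fin n → K) → (Fin n → K) → K} (hh : Frm h)
  {G : Type*} [Group G] [Finite G] (ρ : G →* Matrix (Fin n) (Fin n) K)

include hh

omit [NeZero n] in
theorem Frm.sub_left (u v w : Fin n → K) : h (u - v) w = h u w - h v w := by
  have h1 : u - v = u + (-1 : K) • v := by simp [sub_eq_add_neg]
  rw [h1, hh.add_left, hh.smul_left]
  ring

/-- the orthogonal space of `w` -/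
def Frm.perp (w : Fin n → K) : Submodule K (Fin n → K) where
  carrier := {u | h u w = 0}
  add_mem' := by
    intro a b ha hb
    change h (a + b) w = 0
    rw [hh.add_left, ha, hb, add_zero]
  zero_mem' := by
    change h 0 w = 0
    have := hh.smul_left 0 0 w
    rwa [zero_smul, zero_mul] at this
  smul_mem' := by
    intro c a ha
    change h (c • a) w = 0
    rw [hh.smul_left, ha, mul_zero]

omit [NeZero n] in
theorem Frm.mem_perp {w u : Fin n → K} : u ∈ hh.perp w ↔ h u w = 0 := Iff.rfl

omit [NeZero n] in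
theorem Frm.exists_one {w : Fin n → K} (hw : w ≠ 0) : ∃ y, h y w = 1 := by
  by_contra hc
  push Not at hc
  apply hw
  apply hh.nondeg
  intro u
  by_contra hu
  apply hc ((h u w)⁻¹ • u)
  rw [hh.smul_left, inv_mul_cancel₀ hu]

omit [NeZero n] in
theorem Frm.perp_span (hn : n ≤ 3) {w : Fin n → K} (hw : w ≠ 0) (hiso : h w w = 0) {w' : Fin n → K}
    (hw' : h w' w = 0) (hne : w' ∉ Submodule.span K {w}) {v : Fin n → K} (hv : h v w = 0) :
    ∃ a b : K, v = a • w + b • w' := by
  have hlt : Module.finrank K (hh.perp w) < n := by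
    have h1 : hh.perp w < ⊤ := by
      rw [lt_top_iff_ne_top]
      intro ht
      obtain ⟨y, hy⟩ := hh.exists_one hw
      have : y ∈ hh.perp w := by rw [ht]; trivial
      rw [hh.mem_perp, hy] at this
      exact one_ne_zero this
    have := Submodule.finrank_lt_finrank_of_lt h1
    rwa [finrank_top, Module.finrank_fin_fun] at this
  have hli : LinearIndependent K ![w, w'] := by
    rw [LinearIndependent.pair_iff]
    intro a b hab
    have hb : b = 0 := by
      by_contra hb
      apply hne
      rw [Submodule.mem_span_singleton]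
      refine ⟨-(b⁻¹ * a), ?_⟩
      have : b⁻¹ • (a • w + b • w') = 0 := by rw [hab, smul_zero]
      rw [smul_add, smul_smul, smul_smul, inv_mul_cancel₀ hb, one_smul] at this
      rw [neg_smul]
      exact neg_eq_of_add_eq_zero_right this
    subst hb
    rw [zero_smul, add_zero] at hab
    exact ⟨(smul_eq_zero.1 hab).resolve_right hw, rfl⟩
  have hsp : Submodule.span K (Set.range ![w, w']) ≤ hh.perp w := by
    rw [Submodule.span_le]
    rintro _ ⟨i, rfl⟩
    fin_cases i
    · exact hiso
    · exact hw'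
  have h2 := finrank_span_eq_card hli
  rw [Fintype.card_fin] at h2
  have h3 : Submodule.span K (Set.range ![w, w']) = hh.perp w := by
    apply Submodule.eq_of_le_of_finrank_le hsp
    rw [h2]
    omega
  have h4 : v ∈ Submodule.span K (Set.range ![w, w']) := by rw [h3]; exact hv
  rw [show Set.range ![w, w'] = {w, w'} from by ext; simp [eq_comm, or_comm], Submodule.mem_span_pair] at h4
  obtain ⟨a, b, hab⟩ := h4
  exact ⟨a, b, hab.symm⟩

omit [NeZero n] in
theorem Frm.mem_span_of_iso (hn : n ≤ 3) {w : Fin n → K} (hw : w ≠ 0) (hiso : h w w = 0) {w' : Fin n → K}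
    (hiso' : h w' w' = 0) (hw' : h w' w = 0) : w' ∈ Submodule.span K {w} := by
  by_contra hne
  obtain ⟨y, hy⟩ := hh.exists_one hw
  have h1 : ∀ v, h v w' = h v w * h y w' := by
    intro v
    have h2 : h (v - h v w • y) w = 0 := by
      rw [hh.sub_left, hh.smul_left, hy, mul_one, sub_self]
    obtain ⟨a, b, hab⟩ := hh.perp_span hn hw hiso hw' hne h2
    have h3 : h (v - h v w • y) w' = 0 := by
      rw [hab, hh.add_left, hh.smul_left, hh.smul_left, hiso', hh.refl _ _ hw', mul_zero, mul_zero, add_zero]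
    rw [hh.sub_left, hh.smul_left, sub_eq_zero] at h3
    exact h3
  obtain ⟨b, hb⟩ := hh.smul_right (h y w')
  have h4 : w' - b • w = 0 := by
    apply hh.nondeg
    intro u
    rw [hh.sub_right, h1, hb]
    ring
  rw [sub_eq_zero] at h4
  exact hne (Submodule.mem_span_singleton.2 ⟨b, h4.symm⟩)

variable (h) in
omit hh [NeZero n] in
/-- isotropic points -/
def Pt : Type _ := {L : Submodule K (Fin n → K) // ∃ w, w ≠ 0 ∧ h w w = 0 ∧ L = Submodule.span K {w}}

omit hh [NeZero n] in
/-- an isotropic point -/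
def mkPt (w : Fin n → K) (hw : w ≠ 0) (hi : h w w = 0) : Pt h := ⟨Submodule.span K {w}, w, hw, hi, rfl⟩

omit [NeZero n] hh [Finite G] in
theorem rho_ne (g : G) {w : Fin n → K} (hw : w ≠ 0) : ρ g *ᵥ w ≠ 0 := by
  intro h0
  apply hw
  rw [← rho_inv ρ g w, h0, mulVec_zero]

/-- the action on isotropic points -/
@[reducible] def actPt (hG : ∀ g u v, h (ρ g *ᵥ u) (ρ g *ᵥ v) = h u v) : MulAction G (Pt h) where
  smul g L := ⟨L.1.map (toLin' (ρ g)), by
    obtain ⟨w, hw, hi, hL⟩ := L.2
    refine ⟨ρ g *ᵥ w, rho_ne ρ g hw, by rw [hG]; exact hi, ?_⟩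
    rw [hL, Submodule.map_span, Set.image_singleton, toLin'_apply]⟩
  one_smul L := Subtype.ext (by
    change L.1.map (toLin' (ρ 1)) = L.1
    rw [map_one, toLin'_one, Submodule.map_id])
  mul_smul a b L := Subtype.ext (by
    change L.1.map (toLin' (ρ (a * b))) = (L.1.map (toLin' (ρ b))).map (toLin' (ρ a))
    rw [map_mul, toLin'_mul, Submodule.map_comp])

theorem rank_one (hn : n ≤ 3) (hρ : Function.Injective ρ) (hG : ∀ g u v, h (ρ g *ᵥ u) (ρ g *ᵥ v) = h u v)
    {X : Type*} [Group X] (N : Subgroup X) (hN : N.Normal) (hNb : N ≠ ⊥) (hNp : IsPGroup p N)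
    (hX : Involves X G) : PCl p X := by
  letI := actPt ρ hG
  have hst : ∀ (g : G) {w : Fin n → K} (hw : w ≠ 0) (hi : h w w = 0),
      (g • mkPt w hw hi = mkPt w hw hi) ↔
      ∃ c : K, c ≠ 0 ∧ ρ g *ᵥ w = c • w := by
    intro g w hw hi
    have : (g • mkPt w hw hi).1 = Submodule.span K {ρ g *ᵥ w} := by
      change (Submodule.span K {w}).map (toLin' (ρ g)) = _
      rw [Submodule.map_span, Set.image_singleton, toLin'_apply]
    constructor
    · intro he
      have h1 : ρ g *ᵥ w ∈ Submodule.span K {w} := by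
        have := this.symm.trans (congrArg Subtype.val he)
        change Submodule.span K {ρ g *ᵥ w} = Submodule.span K {w} at this
        rw [← this]
        exact Submodule.mem_span_singleton_self _
      obtain ⟨c, hc⟩ := Submodule.mem_span_singleton.1 h1
      refine ⟨c, ?_, hc.symm⟩
      rintro rfl
      rw [zero_smul] at hc
      exact rho_ne ρ g hw hc.symm
    · rintro ⟨c, hc, hcw⟩
      apply Subtype.ext
      rw [this, hcw]
      exact Submodule.span_singleton_smul_eq (IsUnit.mk0 c hc) w
  have hmk : ∀ (x : Pt h), ∃ (w : _) (hw : w ≠ 0) (hi : h w w = 0), x = mkPt w hw hi := by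
    rintro ⟨L, w, hw, hi, hL⟩
    exact ⟨w, hw, hi, Subtype.ext hL⟩
  refine not_involves (p := p) (G := G) (I := Pt h) ?_ ?_ N hN hNb hNp hX
  · rintro u hu ⟨k, hk⟩
    have hnil : (ρ u - 1) ^ p ^ k = 0 := by
      have := sub_pow_char_pow_of_commute p k (Commute.one_right (ρ u))
      rw [this, ← map_pow, hk, map_one, one_pow, sub_self]
    have hne : ρ u - 1 ≠ 0 := by
      intro h0
      exact hu (hρ (by rw [map_one]; exact sub_eq_zero.1 h0))
    -- a vector
    have hex : ∃ m, (ρ u - 1) ^ m = 0 := ⟨_, hnil⟩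
    classical
    have hm := Nat.find_spec hex
    have hmin := fun j (hj : j < Nat.find hex) => Nat.find_min hex hj
    set m := Nat.find hex with hmdef
    have hm2 : 2 ≤ m := by
      by_contra hlt
      interval_cases m
      · rw [pow_zero] at hm
        exact one_ne_zero hm
      · rw [pow_one] at hm
        exact hne hm
    have h1 : (ρ u - 1) ^ (m - 1) ≠ 0 := hmin (m - 1) (by omega)
    obtain ⟨x, hx⟩ : ∃ x, (ρ u - 1) ^ (m - 1) *ᵥ x ≠ 0 := by
      by_contra hc
      push Not at hc
      apply h1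
      apply Matrix.toLin'.injective
      apply LinearMap.ext
      intro v
      rw [toLin'_apply, hc v, map_zero, LinearMap.zero_apply]
    set w := (ρ u - 1) ^ (m - 1) *ᵥ x with hwdef
    have hNw : ρ u *ᵥ w = w := by
      have : (ρ u - 1) *ᵥ w = 0 := by
        rw [hwdef, mulVec_mulVec, ← pow_succ', show m - 1 + 1 = m by omega, hm, zero_mulVec]
      rw [sub_mulVec, one_mulVec, sub_eq_zero] at this
      exact this
    obtain ⟨y, hy⟩ : ∃ y, w = ρ u *ᵥ y - y := by
      refine ⟨(ρ u - 1) ^ (m - 2) *ᵥ x, ?_⟩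
      have : w = (ρ u - 1) *ᵥ ((ρ u - 1) ^ (m - 2) *ᵥ x) := by
        rw [mulVec_mulVec, ← pow_succ', show m - 2 + 1 = m - 1 by omega]
      rw [this, sub_mulVec, one_mulVec]
    have hperp : ∀ z, ρ u *ᵥ z = z → h w z = 0 := by
      intro z hz
      rw [hy, hh.sub_left]
      have := hG u y z
      rw [hz] at this
      rw [this, sub_self]
    have hwi := hperp w hNw
    refine ⟨mkPt w hx hwi, (hst u hx hwi).2 ⟨1, one_ne_zero, by rw [hNw, one_smul]⟩, ?_⟩
    intro L hf
    obtain ⟨w', hw', hi', rfl⟩ := hmk L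
    obtain ⟨c, hc, hcw⟩ := (hst u hw' hi').1 hf
    have hpow : ∀ j : ℕ, ρ (u ^ j) *ᵥ w' = c ^ j • w' := by
      intro j
      induction j with
      | zero => rw [pow_zero, map_one, one_mulVec, pow_zero, one_smul]
      | succ j ih => rw [pow_succ', map_mul, ← mulVec_mulVec, ih, mulVec_smul, hcw, smul_smul, ← pow_succ]
    have hc1 : c = 1 := by
      apply eq_one_of_pow (p := p) (k := k)
      have h2 := hpow (p ^ k)
      rw [hk, map_one, one_mulVec] at h2
      have h3 : (1 - c ^ p ^ k) • w' = 0 := by rw [sub_smul, one_smul, ← h2, sub_self]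
      rcases smul_eq_zero.1 h3 with h4 | h4
      · exact (sub_eq_zero.1 h4).symm
      · exact absurd h4 hw'
    rw [hc1, one_smul] at hcw
    have h5 := hh.mem_span_of_iso hn hx hwi hi' (hh.refl _ _ (hperp w' hcw))
    apply Subtype.ext
    change Submodule.span K {w'} = Submodule.span K {w}
    obtain ⟨b, hb⟩ := Submodule.mem_span_singleton.1 h5
    have hb0 : b ≠ 0 := by
      rintro rfl
      rw [zero_smul] at hb
      exact hw' hb.symm
    rw [← hb]
    exact Submodule.span_singleton_smul_eq (IsUnit.mk0 b hb0) w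
  · intro L
    obtain ⟨w, hw, hi, rfl⟩ := hmk L
    let S := MulAction.stabilizer G (mkPt w hw hi)
    have hS : ∀ s : S, ∃ c : K, c ≠ 0 ∧ ρ s *ᵥ w = c • w := fun s => (hst s hw hi).1 s.2
    let F : ℕ → Submodule K (Fin n → K) := fun i => if i = 0 then ⊥ else if i = 1 then Submodule.span K {w} else
      if i = 2 then hh.perp w else ⊤
    obtain ⟨y, hy⟩ := hh.exists_one hw
    refine flag (p := p) (ρ.comp S.subtype) (hρ.comp S.subtype_injective) F 3 rfl rfl ?_ ?_
    · intro s i v hv
      obtain ⟨c, hc, hcw⟩ := hS s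
      match i with
      | 0 =>
        change v ∈ (⊥ : Submodule K (Fin n → K)) at hv
        rw [Submodule.mem_bot] at hv
        rw [hv, mulVec_zero]
        exact (F 0).zero_mem
      | 1 =>
        change v ∈ Submodule.span K {w} at hv
        obtain ⟨a, rfl⟩ := Submodule.mem_span_singleton.1 hv
        change ρ s *ᵥ (a • w) ∈ Submodule.span K {w}
        rw [mulVec_smul, hcw]
        exact Submodule.smul_mem _ _ (Submodule.smul_mem _ _ (Submodule.mem_span_singleton_self _))
      | 2 =>
        change h v w = 0 at hv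
        change h (ρ s *ᵥ v) w = 0
        apply hh.refl
        have h1 : h (ρ s *ᵥ w) (ρ s *ᵥ v) = 0 := by rw [hG]; exact hh.refl _ _ hv
        rw [hcw, hh.smul_left] at h1
        exact (mul_eq_zero.1 h1).resolve_left hc
      | i + 3 => trivial
    · intro i
      match i with
      | 0 =>
        refine ⟨w, Submodule.mem_span_singleton_self _, ?_⟩
        intro v hv
        obtain ⟨a, rfl⟩ := Submodule.mem_span_singleton.1 hv
        exact ⟨a, by rw [sub_self]; exact (F 0).zero_mem⟩
      | 1 =>
        by_cases hc : ∀ w', h w' w = 0 → w' ∈ Submodule.span K {w}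
        · refine ⟨0, (F 2).zero_mem, fun v hv => ⟨0, ?_⟩⟩
          rw [smul_zero, sub_zero]
          exact hc v hv
        · push Not at hc
          obtain ⟨w', h1, h2⟩ := hc
          refine ⟨w', h1, fun v hv => ?_⟩
          obtain ⟨a, b, hab⟩ := hh.perp_span hn hw hi h1 h2 hv
          refine ⟨b, ?_⟩
          rw [hab, add_sub_cancel_right]
          exact Submodule.smul_mem _ _ (Submodule.mem_span_singleton_self _)
      | 2 =>
        refine ⟨y, trivial, fun v _ => ⟨h v w, ?_⟩⟩
        change h (v - h v w • y) w = 0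
        rw [hh.sub_left, hh.smul_left, hy, mul_one, sub_self]
      | i + 3 => exact ⟨0, trivial, fun v _ => ⟨0, trivial⟩⟩

end

end CfsgLib.PCl
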