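import Cfsg.Agent.LibH2Con
import Cfsg.Agent.S0631
import Cfsg.Agent.LibCoprime2
import Cfsg.Agent.LibLE11Syl
import Cfsg.Agent.LibKconn8
import Cfsg.Agent.LibLE13

/-! p-constraint of local subgroups (helper12) -/

set_option autoImplicit false
set_option linter.all false

namespace CfsgLib.PConH12

open Subgroup Cfsg CfsgLib.Cores CfsgLib.H2Con CfsgLib.LE11Syl
open CfsgLib.FusionH12f (charP_equiv)
open scoped commutatorElement Pointwise

universe u v

theorem constr_equiv {G : Type u} {G' : Type v} [Group G] [Group G'] [Finite G] [Finite G'] {p : ℕ} [hp : Fact p.Prime]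
    (e : G ≃* G') (h : IsPConstrained p G') : IsPConstrained p G := by
  have hc := isPConstrained_iff.1 h
  refine (of_surj ((QuotientGroup.mk' (pPrimeCore p G')).comp e.toMonoidHom)
    ((QuotientGroup.mk'_surjective _).comp e.surjective) ?_ hc).2
  have h1 : ((QuotientGroup.mk' (pPrimeCore p G')).comp e.toMonoidHom).ker = (pPrimeCore p G').comap e.toMonoidHom := by
    rw [← MonoidHom.comap_ker, QuotientGroup.ker_mk']
  rw [h1]
  have h2 : Nat.card ((pPrimeCore p G').comap e.toMonoidHom) = Nat.card (pPrimeCore p G') := by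
    have h3 : ((pPrimeCore p G').comap e.toMonoidHom).map e.toMonoidHom = pPrimeCore p G' :=
      Subgroup.map_comap_eq_self_of_surjective e.surjective _
    conv_rhs => rw [← h3]
    exact (Nat.card_congr (Subgroup.equivMapOfInjective _ e.toMonoidHom e.injective).toEquiv)
  rw [h2]
  exact pPrimeCore_coprime p

variable {G : Type u} [Group G] [Finite G] {p : ℕ} [hp : Fact p.Prime]

/-- a group is `p`-constrained if the centralizer of a normal `p`-subgroup is -/
theorem constr_of_cent (T : Subgroup G) [hT : T.Normal] (hTp : IsPGroup p T)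
    (h : IsPConstrained p ↥(centralizer (T : Set G))) : IsPConstrained p G := by
  rw [isPConstrained_iff]
  set O := pPrimeCore p G with hO
  have hOc : (Nat.card O).Coprime p := pPrimeCore_coprime p
  have hinf : T ⊓ O = ⊥ := CfsgLib.H2Lift.inf_eq_bot_of_isPGroup hTp hOc
  have hOC : O ≤ centralizer (T : Set G) := by
    intro x hx
    rw [mem_centralizer_iff]
    intro y hy
    have h2 : ⁅y, x⁆ ∈ T ⊓ O := commutator_le_inf T O (commutator_mem_commutator hy hx)
    rw [hinf, mem_bot, commutatorElement_eq_one_iff_mul_comm] at h2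
    exact h2
  haveI hCn : (centralizer (T : Set G)).Normal := inferInstance
  set C := centralizer (T : Set G) with hC
  -- the image of `C`
  obtain ⟨f, hf, hk, hfx⟩ := exists_restrict (O := O) (N := C) (X := C.map (QuotientGroup.mk' O)) rfl
  have hkO : f.ker.map C.subtype = O := by rw [hk, inf_eq_left.2 hOC]
  have hker : f.ker = pPrimeCore p C := by
    apply le_antisymm
    · apply le_pPrimeCore inferInstance
      have h2 : Nat.card (f.ker.map C.subtype) = Nat.card f.ker :=
        Nat.card_congr (f.ker.equivMapOfInjective _ (subtype_injective _)).symm.toEquiv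
      rw [← h2, hkO]; exact hOc
    · have h2 := map_pPrimeCore_of_normal p C
      intro x hx
      have h3 : (x : G) ∈ (pPrimeCore p C).map C.subtype := ⟨x, hx, rfl⟩
      rw [h2] at h3
      have h4 : (x : G) ∈ f.ker.map C.subtype := by rw [hkO]; exact h3.1
      obtain ⟨y, hy, hxy⟩ := h4
      have : y = x := Subtype.ext hxy
      rw [← this]; exact hy
  have hcp : CP p ↥(C.map (QuotientGroup.mk' O)) := by
    have h2 := isPConstrained_iff.1 h
    have e : ↥(C.map (QuotientGroup.mk' O)) ≃* (C ⧸ pPrimeCore p C) :=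
      ((QuotientGroup.quotientMulEquivOfEq hker.symm).trans (QuotientGroup.quotientKerEquivOfSurjective f hf)).symm
    exact charP_equiv e h2
  haveI hCm : (C.map (QuotientGroup.mk' O)).Normal := hCn.map _ (QuotientGroup.mk'_surjective O)
  have hTm : T.map (QuotientGroup.mk' O) ≤ pCore p (G ⧸ O) :=
    le_pCore (hT.map _ (QuotientGroup.mk'_surjective O)) (hTp.map _)
  have hle : centralizer (pCore p (G ⧸ O) : Set (G ⧸ O)) ≤ C.map (QuotientGroup.mk' O) := by
    rw [← CfsgLib.H2Lift.centralizer_map_eq hTp hOc]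
    exact centralizer_le hTm
  have hpc := map_pCore_of_normal p (C.map (QuotientGroup.mk' O))
  intro x hx
  have hxC := hle hx
  have h3 : (⟨x, hxC⟩ : ↥(C.map (QuotientGroup.mk' O))) ∈ centralizer (pCore p ↥(C.map (QuotientGroup.mk' O)) : Set _) := by
    rw [mem_centralizer_iff]
    intro y hy
    have h4 : (y : G ⧸ O) ∈ pCore p (G ⧸ O) := by
      have h5 : (y : G ⧸ O) ∈ (pCore p ↥(C.map (QuotientGroup.mk' O))).map (C.map (QuotientGroup.mk' O)).subtype := ⟨y, hy, rfl⟩
      rw [hpc] at h5
      exact h5.1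
    exact Subtype.ext (mem_centralizer_iff.1 hx _ h4)
  have h4 := hcp h3
  have h5 : x ∈ (pCore p ↥(C.map (QuotientGroup.mk' O))).map (C.map (QuotientGroup.mk' O)).subtype := ⟨⟨x, hxC⟩, h4, rfl⟩
  rw [hpc] at h5
  exact h5.1

/-- centralisers within a subgroup containing them -/
noncomputable def centEquiv {M T : Subgroup G} (hT : T ≤ M) (h : centralizer (T : Set G) ≤ M) :
    ↥(centralizer (T : Set G)) ≃* ↥(centralizer ((T.subgroupOf M : Subgroup M) : Set M)) where
  toFun x := ⟨⟨x.1, h x.2⟩, by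
    rw [mem_centralizer_iff]
    intro y hy
    exact Subtype.ext (mem_centralizer_iff.1 x.2 _ hy)⟩
  invFun x := ⟨x.1.1, by
    rw [mem_centralizer_iff]
    intro y hy
    exact congrArg Subtype.val (mem_centralizer_iff.1 x.2 (⟨y, hT hy⟩ : M) hy)⟩
  left_inv x := rfl
  right_inv x := rfl
  map_mul' x y := rfl

noncomputable def normEquiv {M T : Subgroup G} (hT : T ≤ M) (h : normalizer (T : Set G) ≤ M) :
    ↥(normalizer (T : Set G)) ≃* ↥(normalizer ((T.subgroupOf M : Subgroup M) : Set M)) where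
  toFun x := ⟨⟨x.1, h x.2⟩, by
    rw [mem_normalizer_iff]
    intro y
    exact mem_normalizer_iff.1 x.2 y⟩
  invFun x := ⟨x.1.1, by
    rw [mem_normalizer_iff]
    intro y
    constructor
    · intro hy
      exact (mem_normalizer_iff.1 x.2 (⟨y, hT hy⟩ : M)).1 hy
    · intro hy
      have h1 : y ∈ M := by
        have h2 := M.mul_mem (M.mul_mem (M.inv_mem x.1.2) (hT hy)) x.1.2
        have h3 : (x.1.1)⁻¹ * (x.1.1 * y * (x.1.1)⁻¹) * x.1.1 = y := by group
        rwa [h3] at h2
      exact (mem_normalizer_iff.1 x.2 (⟨y, h1⟩ : M)).2 hy⟩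
  left_inv x := rfl
  right_inv x := rfl
  map_mul' x y := rfl

/-- local subgroups from an overgroup -/
theorem local_of_le {M T : Subgroup G} (hM : IsPConstrained p ↥M) (hTp : IsPGroup p T) (hT : T ≤ M) (h : normalizer (T : Set G) ≤ M) :
    IsPConstrained p ↥(normalizer (T : Set G)) :=
  constr_equiv (normEquiv hT h)
    (Cfsg.Agent.S0631.result hM (T.subgroupOf M) (hTp.comap_of_injective M.subtype M.subtype_injective)).1

/-- local subgroups from centralisers of elements of order `p` -/
theorem local_of_cent {T : Subgroup G} (hTp : IsPGroup p T) (hT1 : T ≠ ⊥)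
    (h : ∀ x : G, orderOf x = p → IsPConstrained p ↥(centralizer ({x} : Set G))) :
    IsPConstrained p ↥(normalizer (T : Set G)) := by
  haveI : Nontrivial T := (Subgroup.nontrivial_iff_ne_bot T).2 hT1
  have hZ : Nontrivial (center T) := hTp.center_nontrivial
  obtain ⟨z, hz⟩ := exists_prime_orderOf_dvd_card' (G := center T) p (by
    have h5 : IsPGroup p (center T) := hTp.to_subgroup _
    obtain ⟨n, hn⟩ := IsPGroup.iff_card.1 h5
    rw [hn]
    apply dvd_pow_self
    rintro rfl
    rw [pow_zero] at hn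
    exact (Finite.one_lt_card_iff_nontrivial.2 hZ).ne' hn)
  have hz' : orderOf ((z : T) : G) = p := by rw [Subgroup.orderOf_coe, Subgroup.orderOf_coe]; exact hz
  have hTM : T ≤ centralizer ({((z : T) : G)} : Set G) := by
    intro x hx
    rw [mem_centralizer_singleton_iff]
    exact congrArg Subtype.val (mem_center_iff.1 z.2 ⟨x, hx⟩)
  have hCM : centralizer (T : Set G) ≤ centralizer ({((z : T) : G)} : Set G) :=
    centralizer_le (by simp)
  have h1 : IsPConstrained p ↥(centralizer (T : Set G)) :=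
    constr_equiv (centEquiv hTM hCM)
      (Cfsg.Agent.S0631.result (h _ hz') (T.subgroupOf _) (hTp.comap_of_injective _ (Subgroup.subtype_injective _))).2
  -- in the normalizer
  haveI : (T.subgroupOf (normalizer (T : Set G))).Normal := Subgroup.normal_in_normalizer
  refine constr_of_cent (T.subgroupOf (normalizer (T : Set G))) (hTp.comap_of_injective _ (Subgroup.subtype_injective _)) ?_
  exact constr_equiv (centEquiv (le_normalizer (H := T)) (centralizer_le_normalizer _)).symm h1

theorem card_rel {H K : Subgroup G} (h : H ≤ K) : Nat.card H * H.relIndex K = Nat.card K := by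
  rw [Subgroup.relIndex, ← Subgroup.card_mul_index (H.subgroupOf K), Nat.card_congr (Subgroup.subgroupOfEquivOfLe h).toEquiv]

theorem relIndex_pos (H K : Subgroup G) : 0 < H.relIndex K := by
  rw [Subgroup.relIndex]
  exact Nat.pos_of_ne_zero Subgroup.index_ne_zero_of_finite

/-- the core argument -/
theorem core_half (hC : centralizer (pCore 2 G : Set G) ≤ pCore 2 G) {Y T : Subgroup G} (hY : Odd (Nat.card Y))
    (hT : IsPGroup 2 T) (hTY : T ≤ normalizer (Y : Set G)) (hidx : ∀ S : Sylow 2 G, Nat.card S ≤ 2 * Nat.card T) : Y = ⊥ := by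
  haveI : Fact (Nat.Prime 2) := ⟨Nat.prime_two⟩
  set R := pCore 2 G with hR
  have hRp : IsPGroup 2 R := pCore_isPGroup 2
  haveI hRn : R.Normal := inferInstance
  have hYR : Y ⊓ R = ⊥ := by
    rw [inf_comm]
    exact CfsgLib.H2Lift.inf_eq_bot_of_isPGroup hRp (Nat.Coprime.symm ((Nat.Prime.coprime_iff_not_dvd Nat.prime_two).2 (by
      intro h; exact (Nat.not_even_iff_odd.2 hY) (even_iff_two_dvd.2 h))))
  obtain ⟨k, hk⟩ := IsPGroup.iff_card.1 hRp
  have hcop : (Nat.card Y).Coprime (Nat.card R) := by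
    rw [hk]
    exact Nat.Coprime.pow_right k (Nat.Coprime.symm ((Nat.Prime.coprime_iff_not_dvd Nat.prime_two).2 (by
      intro h; exact (Nat.not_even_iff_odd.2 hY) (even_iff_two_dvd.2 h))))
  have hYN : Y ≤ normalizer (R : Set G) := by rw [normalizer_eq_top]; exact le_top
  -- `Y` centralises `R ∩ T`
  have hD : ⁅R ⊓ T, Y⁆ = ⊥ := by
    rw [eq_bot_iff, ← hYR, commutator_le]
    intro d hd y hy
    refine mem_inf.2 ⟨?_, ?_⟩
    · rw [commutatorElement_def]
      exact Y.mul_mem ((mem_normalizer_iff.1 (hTY hd.2) y).1 hy) (Y.inv_mem hy)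
    · rw [commutatorElement_def, mul_assoc, mul_assoc]
      exact R.mul_mem hd.1 (by rw [← mul_assoc]; exact hRn.conj_mem _ (R.inv_mem hd.1) y)
  -- index
  have hrel : (R ⊓ T).relIndex R ≤ 2 := by
    have h1 : IsPGroup 2 (R ⊔ T : Subgroup G) := hRp.to_sup_of_normal_left hT
    obtain ⟨S, hS⟩ := h1.exists_le_sylow
    have h2 : Nat.card (R ⊔ T : Subgroup G) ≤ 2 * Nat.card T := (Subgroup.card_le_of_le hS).trans (hidx S)
    have h3 : R.relIndex (R ⊔ T) * Nat.card R = Nat.card (R ⊔ T : Subgroup G) := by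
      rw [mul_comm]; exact card_rel (le_sup_left)
    have h4 : R.relIndex (R ⊔ T) = R.relIndex T := Subgroup.relIndex_sup_left T R
    have h5 : (R ⊓ T).relIndex T * Nat.card (R ⊓ T : Subgroup G) = Nat.card T := by
      rw [mul_comm]; exact card_rel inf_le_right
    have h6 : (R ⊓ T).relIndex R * Nat.card (R ⊓ T : Subgroup G) = Nat.card R := by
      rw [mul_comm]; exact card_rel inf_le_left
    rw [Subgroup.inf_relIndex_right] at h5
    rw [h4] at h3
    have h7 : 0 < Nat.card (R ⊓ T : Subgroup G) := Nat.card_pos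
    have h8 : 0 < R.relIndex T := relIndex_pos R T
    rw [← h3, ← h6, ← h5] at h2
    have h9 : (R.relIndex T * Nat.card (R ⊓ T : Subgroup G)) * (R ⊓ T).relIndex R ≤ (R.relIndex T * Nat.card (R ⊓ T : Subgroup G)) * 2 := by
      nlinarith
    exact Nat.le_of_mul_le_mul_left h9 (Nat.mul_pos h8 h7)
  have hYR' : ⁅R, Y⁆ ≤ R := by
    rw [commutator_le]
    intro r hr y hy
    rw [commutatorElement_def, mul_assoc, mul_assoc]
    exact R.mul_mem hr (by rw [← mul_assoc]; exact hRn.conj_mem _ (R.inv_mem hr) y)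
  have hch : ⁅R, Y⁆ ≤ R ⊓ T := by
    rcases eq_or_ne ((R ⊓ T).relIndex R) 1 with h1 | h1
    · rw [Subgroup.relIndex_eq_one] at h1
      exact hYR'.trans h1
    · have h2 : (R ⊓ T).relIndex R = 2 := by
        have := relIndex_pos (R ⊓ T) R
        omega
      have h2' : ((R ⊓ T).subgroupOf R).index = 2 := h2
      rw [commutator_le]
      intro r hr y hy
      by_cases hrT : r ∈ R ⊓ T
      · have h3 : ⁅r, y⁆ ∈ ⁅R ⊓ T, Y⁆ := commutator_mem_commutator hrT hy
        rw [hD, mem_bot] at h3
        rw [h3]; exact one_mem _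
      · have h3 : y * r⁻¹ * y⁻¹ ∈ R := hRn.conj_mem _ (R.inv_mem hr) y
        have h4 : y * r⁻¹ * y⁻¹ ∉ R ⊓ T := by
          intro h5
          apply hrT
          have h6 : ⁅(y * r⁻¹ * y⁻¹), y⁻¹⁆ ∈ ⁅R ⊓ T, Y⁆ := commutator_mem_commutator h5 (Y.inv_mem hy)
          rw [hD, mem_bot, commutatorElement_eq_one_iff_mul_comm] at h6
          have h7 : r⁻¹ = y * r⁻¹ * y⁻¹ := by
            calc r⁻¹ = y⁻¹ * (y * r⁻¹ * y⁻¹) * y := by group
              _ = (y * r⁻¹ * y⁻¹) * y⁻¹ * y := by rw [h6]
              _ = _ := by group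
          rw [← h7] at h5
          exact (inv_mem_iff).1 h5
        have h5 := (Subgroup.mul_mem_iff_of_index_two h2' (a := (⟨r, hr⟩ : R)) (b := ⟨_, h3⟩)).2
          ⟨fun h => absurd (Subgroup.mem_subgroupOf.1 h) hrT, fun h => absurd (Subgroup.mem_subgroupOf.1 h) h4⟩
        have h6 := Subgroup.mem_subgroupOf.1 h5
        rw [commutatorElement_def, mul_assoc, mul_assoc, ← mul_assoc y]
        exact h6
  have hRs : Group.IsSolvable R := by
    haveI := hRp.isNilpotent
    infer_instance
  have hRY : ⁅R, Y⁆ = ⊥ := CfsgLib.Coprime.commutator_eq_bot_of_chain hYN hcop (Or.inr hRs) hch hD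
  have hYR2 : Y ≤ R := by
    refine le_trans ?_ hC
    intro y hy
    rw [mem_centralizer_iff]
    intro r hr
    have h3 : ⁅r, y⁆ ∈ ⁅R, Y⁆ := commutator_mem_commutator hr hy
    rw [hRY, mem_bot, commutatorElement_eq_one_iff_mul_comm] at h3
    exact h3
  rw [← hYR]
  exact (inf_eq_left.2 hYR2).symm

/-- maximal 2-local subgroups above a 2-local subgroup -/
theorem exists_maximal {T : Subgroup G} (hT : IsPGroup 2 T) (hT1 : T ≠ ⊥) :
    ∃ M : Subgroup G, IsMaximalTwoLocal M ∧ normalizer (T : Set G) ≤ M := by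
  have hfin : {M : Subgroup G | IsTwoLocal M}.Finite := Set.toFinite _
  obtain ⟨M, hle, hM⟩ := hfin.exists_le_maximal (a := normalizer (T : Set G)) ⟨T, hT, hT1, rfl⟩
  exact ⟨M, ⟨hM.1, fun N hN h => le_antisymm (hM.2 hN h) h⟩, hle⟩

theorem char_of {M : Subgroup G} [Fact (Nat.Prime 2)] (h : IsPConstrained 2 ↥M) (h1 : oddCore ↥M = ⊥) :
    centralizer (pCore 2 M : Set M) ≤ pCore 2 M := by
  have h2 := isPConstrained_iff.1 h
  have e : M ≃* (M ⧸ pPrimeCore 2 M) :=
    (QuotientGroup.quotientBot.symm).trans (QuotientGroup.quotientMulEquivOfEq h1.symm)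
  exact charP_equiv e h2

theorem card_le_sylow [Fact (Nat.Prime 2)] (S : Sylow 2 G) {P : Subgroup G} (h : IsPGroup 2 P) : Nat.card P ≤ Nat.card S := by
  obtain ⟨Q, hQ⟩ := h.exists_le_sylow
  exact (Subgroup.card_le_of_le hQ).trans_eq (by rw [Q.card_eq_multiplicity, S.card_eq_multiplicity])

end CfsgLib.PConH12
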