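import Cfsg.Statements.S3968
import Cfsg.Agent.LibCharBasic3
import Cfsg.Agent.LibCharInt2
import Cfsg.Agent.S0142

set_option autoImplicit false
open Cfsg

namespace Cfsg.Agent.S3968

set_option linter.style.haveILetI false
set_option linter.unusedSectionVars false

universe u
open Subgroup CfsgLib.CharBasic

section
variable {G : Type u} [Group G] [Finite G]

theorem vanish (p : ℕ) (χ : G → ℂ) (hχ : IsIrrCharacter G χ) (hdeg : χ 1 = p)
    (hfaith : ∀ g : G, χ g = χ 1 → g = 1) (hZ : center G = ⊥) (z : G) (hz : z ≠ 1)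
    (hcop : Nat.Coprime p (centralizer ({z} : Set G)).index) : χ z = 0 := by
  obtain ⟨n, ρ, hρ, rfl⟩ := hχ
  haveI := hρ
  have hfin : (Module.finrank ℂ (Fin n → ℂ) : ℂ) = p := by rw [← Representation.char_one ρ, hdeg]
  have hfin' : Module.finrank ℂ (Fin n → ℂ) = p := by exact_mod_cast hfin
  rcases Cfsg.Agent.S0142.result ρ z (by rw [hfin']; exact hcop) with h | h
  · exact h
  · exfalso
    rw [norm_character_eq_iff] at h
    obtain ⟨ω, hω⟩ := h
    have hcen : z ∈ center G := by
      rw [mem_center_iff]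
      intro g
      have h1 : ρ (g * z) = ρ (z * g) := by
        rw [map_mul, map_mul, hω, mul_smul_comm, smul_mul_assoc]
        rfl
      have h2 : ρ ((g * z) * (z * g)⁻¹) = 1 := by
        rw [map_mul, h1, ← map_mul, mul_inv_cancel, map_one]
      have h3 : ρ.character ((g * z) * (z * g)⁻¹) = ρ.character 1 := by
        simp only [Representation.character, h2, map_one ρ]
      exact mul_inv_eq_one.mp (hfaith _ h3)
    rw [hZ, mem_bot] at hcen
    exact hz hcen

end

/-- Let `p` be a prime and `G` a finite group with a faithful irreducible complex character of degree `p` (so `G` is an irreducible linear group in `p` variables). If `p ^ 2` divides the order of `G`, then the centre of `G` is nontrivial. -/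
theorem result {G : Type*} [Group G] [Finite G] (p : ℕ) (hp : p.Prime) (χ : Cfsg.IrrCharacter G) (hdeg : χ.1 1 = p) (hfaith : ∀ g : G, χ.1 g = χ.1 1 → g = 1) (hdiv : p ^ 2 ∣ Nat.card G) : Subgroup.center G ≠ ⊥ := by
  classical
  intro hZ
  haveI : Fact p.Prime := ⟨hp⟩
  haveI := Fintype.ofFinite G
  obtain ⟨P⟩ := (inferInstance : Nonempty (Sylow p G))
  have hPc : p ^ 2 ∣ Nat.card (P : Subgroup G) := P.pow_dvd_card_of_pow_dvd_card hdiv
  have hcenP : ∀ z : (P : Subgroup G), z ∈ center (P : Subgroup G) → z ≠ 1 → χ.1 (z : G) = 0 := by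
    intro z hz hz1
    refine vanish p χ.1 χ.2 hdeg hfaith hZ (z : G) (fun h => hz1 (Subtype.ext h)) ?_
    rw [hp.coprime_iff_not_dvd]
    intro hd
    refine P.not_dvd_index (hd.trans (index_dvd_of_le ?_))
    intro y hy
    rw [mem_centralizer_singleton_iff]
    exact congrArg Subtype.val (mem_center_iff.mp hz ⟨y, hy⟩)
  set θ : ↥(P : Subgroup G) → ℂ := fun x => χ.1 (x : G) with hθ
  have hθc : IsCharacter (P : Subgroup G) θ := isCharacter_restrict (irr_isCharacter χ.2) _
  obtain ⟨m, hm, hexp, -⟩ := char_expand hθc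
  have hd : ∀ ψ : IrrCharacter (P : Subgroup G), ∃ d : ℕ, 0 < d ∧ (ψ : ↥(P : Subgroup G) → ℂ) 1 = d :=
    fun ψ => irr_one_nat ψ.2
  choose d hd0 hd using hd
  have hθ1 : θ 1 = p := by rw [hθ]; exact hdeg
  have hsum : p = ∑ ψ : IrrCharacter (P : Subgroup G), m ψ * d ψ := by
    have h1 := congrFun hexp 1
    rw [hθ1] at h1
    simp only [Finset.sum_apply, Pi.smul_apply, smul_eq_mul, hd] at h1
    exact_mod_cast h1
  have hdp : ∀ ψ, ∃ e, d ψ = p ^ e := by
    intro ψ
    have h0 : d ψ = charDegree (ψ : ↥(P : Subgroup G) → ℂ) := by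
      have := CfsgLib.CharInt.irr_one_eq_charDegree ψ.2
      rw [hd] at this
      exact_mod_cast this
    have h1 := CfsgLib.CharInt2.charDegree_dvd_card ψ.2
    rw [← h0] at h1
    obtain ⟨a, ha⟩ := IsPGroup.iff_card.mp P.isPGroup'
    rw [ha] at h1
    obtain ⟨e, -, he⟩ := (Nat.dvd_prime_pow hp).mp h1
    exact ⟨e, he⟩
  have hPnt : Nontrivial (P : Subgroup G) := by
    rw [← Finite.one_lt_card_iff_nontrivial]
    have := Nat.le_of_dvd Nat.card_pos hPc
    have h2 := hp.one_lt
    nlinarith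
  by_cases hlin : ∀ ψ, m ψ ≠ 0 → d ψ = 1
  · -- P is abelian
    have hab : ∀ a b : (P : Subgroup G), a * b = b * a := by
      intro a b
      have h1 : θ ((a * b) * (b * a)⁻¹) = θ 1 := by
        rw [hexp]
        simp only [Finset.sum_apply, Pi.smul_apply, smul_eq_mul]
        refine Finset.sum_congr rfl fun ψ _ => ?_
        by_cases hψ : m ψ = 0
        · rw [hψ]; simp
        · have h2 : (ψ : ↥(P : Subgroup G) → ℂ) 1 = 1 := by rw [hd, hlin ψ hψ, Nat.cast_one]
          have h3 := linear_mul (irr_isCharacter ψ.2) h2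
          congr 1
          rw [h3, h3, mul_comm ((ψ : ↥(P : Subgroup G) → ℂ) a), ← h3 b a, ← h3, mul_inv_cancel]
      have h4 := hfaith _ h1
      rw [OneMemClass.coe_eq_one] at h4
      exact mul_inv_eq_one.mp h4
    have h0 : ∀ z : (P : Subgroup G), z ≠ 1 → θ z = 0 := fun z hz =>
      hcenP z (mem_center_iff.mpr fun g => hab g z) hz
    have h1 := hm ⟨fun _ => 1, isIrrCharacter_one⟩
    have h2 : classInner θ (fun _ => 1) = (Nat.card (P : Subgroup G) : ℂ)⁻¹ * p := by
      rw [inner_one_right, Finset.sum_eq_single 1, hθ1]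
      · intro z _ hz; exact h0 z hz
      · intro h; exact absurd (Finset.mem_univ _) h
    rw [h2] at h1
    have h3 : (p : ℂ) = Nat.card (P : Subgroup G) * m ⟨fun _ => 1, isIrrCharacter_one⟩ := by
      rw [← h1, ← mul_assoc, mul_inv_cancel₀, one_mul]
      exact_mod_cast Nat.card_pos.ne'
    have h4 : p = Nat.card (P : Subgroup G) * m ⟨fun _ => 1, isIrrCharacter_one⟩ := by exact_mod_cast h3
    have h5 : p ^ 2 ∣ p := by
      conv_rhs => rw [h4]
      exact Dvd.dvd.mul_right hPc _
    have h6 := Nat.le_of_dvd hp.pos h5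
    have h7 := hp.one_lt
    nlinarith
  · push Not at hlin
    obtain ⟨ψ, hψ0, hψ1⟩ := hlin
    obtain ⟨e, he⟩ := hdp ψ
    have he0 : e ≠ 0 := by rintro rfl; exact hψ1 (by rw [he, pow_zero])
    have hge : p ≤ d ψ := by
      rw [he]
      exact Nat.le_of_dvd (pow_pos hp.pos _) (dvd_pow_self p he0)
    have hle : m ψ * d ψ + ∑ ψ' ∈ Finset.univ.erase ψ, m ψ' * d ψ' = p := by
      rw [Finset.add_sum_erase _ (fun ψ' => m ψ' * d ψ') (Finset.mem_univ ψ), ← hsum]
    have hmψ : m ψ = 1 := by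
      have h1 : m ψ * d ψ ≤ p := by omega
      have h2 : 1 ≤ m ψ := Nat.one_le_iff_ne_zero.mpr hψ0
      by_contra hne
      have h3 : 2 ≤ m ψ := by omega
      have h4 := hp.pos
      nlinarith
    have hrest : ∀ ψ' ∈ Finset.univ.erase ψ, m ψ' = 0 := by
      intro ψ' hψ'
      have h1 : ∑ ψ' ∈ Finset.univ.erase ψ, m ψ' * d ψ' = 0 := by
        rw [hmψ] at hle; omega
      have h2 := (Finset.sum_eq_zero_iff.mp h1) ψ' hψ'
      rcases Nat.mul_eq_zero.mp h2 with h3 | h3
      · exact h3
      · exact absurd h3 (hd0 ψ').ne'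
    have hθψ : θ = (ψ : ↥(P : Subgroup G) → ℂ) := by
      rw [hexp, ← Finset.add_sum_erase _ (fun χ : IrrCharacter (P : Subgroup G) => (m χ : ℂ) • (χ : ↥(P : Subgroup G) → ℂ)) (Finset.mem_univ ψ)]
      simp only [hmψ]
      rw [Finset.sum_eq_zero fun ψ' hψ' => by rw [hrest ψ' hψ']; simp]
      simp
    haveI := P.isPGroup'.center_nontrivial
    obtain ⟨z, hz⟩ := exists_ne (1 : center (P : Subgroup G))
    have h1 := irr_center ψ.2 z.2
    rw [← hθψ, hθ1] at h1
    have h2 := hcenP z.1 z.2 (fun h => hz (Subtype.ext h))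
    change θ z.1 = 0 at h2
    rw [h2, norm_zero] at h1
    have h3 : (p : ℝ) = 0 := by rw [h1]; simp
    have h4 : p = 0 := by exact_mod_cast h3
    exact hp.ne_zero h4

end Cfsg.Agent.S3968
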