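import Mathlib
import Cfsg.Agent.EqBase
import Cfsg.Agent.S3968
import Cfsg.Agent.S4441
import Cfsg.Agent.LibQuot19
import Cfsg.Agent.LibGallagher
import Cfsg.Agent.LibExtend5
import Cfsg.Agent.LibZStar2
import Cfsg.Agent.LibSmallSyl
import Cfsg.Agent.LibFixIrr19

/-! Groups all of whose nonlinear character degrees are primes (seat helper11). -/

set_option autoImplicit false
set_option linter.all false

open Cfsg CfsgLib.CharBasic CfsgLib.Clifford
open scoped ComplexConjugate

namespace CfsgLib.PD11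

universe u v

/-- all nonlinear degrees are primes -/
def PD (G : Type u) [Group G] : Prop := ∀ χ : IrrCharacter G, charDegree (χ : G → ℂ) = 1 ∨ (charDegree (χ : G → ℂ)).Prime

section simple
variable {G : Type u} [Group G] [Finite G] [hsimp : IsSimpleGroup G]

theorem deg_eq {G : Type u} [Group G] [Finite G] {χ : G → ℂ} (h : IsIrrCharacter G χ) : χ 1 = (charDegree χ : ℂ) :=
  CfsgLib.CharInt.irr_one_eq_charDegree h

theorem faithful {χ : G → ℂ} (h : IsIrrCharacter G χ) (hd : charDegree χ ≠ 1) : ∀ g : G, χ g = χ 1 → g = 1 := by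
  have hχ := h
  obtain ⟨n, ρ, hρ, rfl⟩ := h
  have hn : (MonoidHom.ker (show G →* _ from ρ)).Normal := inferInstance
  rcases hn.eq_bot_or_eq_top with h1 | h1
  · intro g hg
    have h2 : ρ g = 1 := by
      rw [Representation.char_one, character_eq_finrank_iff] at hg
      rw [hg]; rfl
    have h3 : g ∈ MonoidHom.ker (show G →* _ from ρ) := h2
    rw [h1] at h3
    exact h3
  · exfalso
    have h2 : ∀ g, ρ g = 1 := by
      intro g
      have h3 : g ∈ MonoidHom.ker (show G →* _ from ρ) := by rw [h1]; trivial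
      exact h3
    have h4 : ∀ g, ρ.character g = ρ.character 1 := by
      intro g
      unfold Representation.character
      simp only [h2]
    have h5 := CfsgLib.Quot19.irr_eq_one_of_ker_top hχ h4
    have h6 := deg_eq hχ
    rw [h5] at h6 hd
    apply hd
    have h7 : (1 : ℂ) = (charDegree (fun _ : G => (1 : ℂ)) : ℂ) := h6
    exact_mod_cast h7.symm

theorem linear_triv (hcomm : ¬ ∀ a b : G, a * b = b * a) {χ : G → ℂ} (h : IsIrrCharacter G χ) (hd : charDegree χ = 1) :
    χ = fun _ => 1 := by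
  have h1 : χ 1 = 1 := by rw [deg_eq h, hd, Nat.cast_one]
  obtain ⟨f, hf⟩ := exists_hom_of_linear (irr_isCharacter h) h1
  rcases (inferInstance : f.ker.Normal).eq_bot_or_eq_top with h2 | h2
  · exfalso
    rw [MonoidHom.ker_eq_bot_iff] at h2
    exact hcomm fun a b => h2 (by rw [map_mul, map_mul, mul_comm])
  · funext g
    have h3 : g ∈ f.ker := by rw [h2]; trivial
    rw [hf g, MonoidHom.mem_ker.1 h3, Units.val_one]

theorem sylow_prime (hcomm : ¬ ∀ a b : G, a * b = b * a) {χ : G → ℂ} (h : IsIrrCharacter G χ) {p : ℕ} (hp : p.Prime)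
    (hd : charDegree χ = p) (P : Sylow p G) : p ∣ Nat.card G ∧ Nat.card (P : Subgroup G) = p := by
  haveI : Fact p.Prime := ⟨hp⟩
  have hpd : p ∣ Nat.card G := by rw [← hd]; exact CfsgLib.CharInt2.charDegree_dvd_card h
  refine ⟨hpd, ?_⟩
  have hne : charDegree χ ≠ 1 := by rw [hd]; exact hp.ne_one
  have hZ : Subgroup.center G = ⊥ := by
    rcases (inferInstance : (Subgroup.center G).Normal).eq_bot_or_eq_top with h1 | h1
    · exact h1
    · exfalso
      refine hcomm fun a b => ?_
      have h2 : b ∈ Subgroup.center G := by rw [h1]; trivial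
      exact (Subgroup.mem_center_iff.1 h2) a
  have hsq : ¬ p ^ 2 ∣ Nat.card G := fun hdiv =>
    Cfsg.Agent.S3968.result p hp ⟨χ, h⟩ (by show χ 1 = p; rw [deg_eq h, hd]) (faithful h hne) hdiv hZ
  obtain ⟨m, hm⟩ := hpd
  have := SmallSyl.card_sylow (p := p) (n := 1) (m := m) (G := G) (by rw [hm, pow_one])
    (fun hd' => hsq (by rw [hm, pow_two]; exact Nat.mul_dvd_mul_left p hd')) P
  simpa using this

theorem no_deg_two (hcomm : ¬ ∀ a b : G, a * b = b * a) {χ : G → ℂ} (h : IsIrrCharacter G χ) : charDegree χ ≠ 2 := by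
  intro hd
  haveI : Fact (Nat.Prime 2) := ⟨Nat.prime_two⟩
  let P : Sylow 2 G := default
  obtain ⟨h1, h2⟩ := sylow_prime hcomm h Nat.prime_two hd P
  have hcyc : IsCyclic P := isCyclic_of_prime_card (p := 2) h2
  have hmin : (Nat.card G).minFac = 2 := (Nat.minFac_eq_two_iff _).mpr h1
  exact SmallSyl.burnside (fun hc => hcomm (isMulCommutative_iff.1 hc)) h1 P (hcyc.normalizer_le_centralizer hmin)

theorem simple_false (hcomm : ¬ ∀ a b : G, a * b = b * a) (hPD : PD G) : False := by
  classical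
  haveI : Fintype G := Fintype.ofFinite G
  haveI hfin : Finite (IrrCharacter G) := inferInstance
  -- a nonlinear character
  obtain ⟨χ₁, h1⟩ : ∃ χ : IrrCharacter G, charDegree (χ : G → ℂ) ≠ 1 := by
    by_contra hcon
    push Not at hcon
    exact hcomm fun a b => CfsgLib.FixIrr19.comm_of_linear (fun χ => by rw [deg_eq χ.2, hcon χ, Nat.cast_one]) a b
  haveI : Nonempty (IrrCharacter G) := ⟨χ₁⟩
  obtain ⟨χ₀, h0⟩ := Finite.exists_max (fun χ : IrrCharacter G => charDegree (χ : G → ℂ))
  have hp : (charDegree (χ₀ : G → ℂ)).Prime := by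
    rcases hPD χ₀ with h2 | h2
    · exfalso
      have h3 := h0 χ₁
      rw [h2] at h3
      rcases hPD χ₁ with h4 | h4
      · exact h1 h4
      · exact absurd h4.two_le (by omega)
    · exact h2
  obtain ⟨p, hpe⟩ : ∃ p, p = charDegree (χ₀ : G → ℂ) := ⟨_, rfl⟩
  rw [← hpe] at hp h0
  haveI : Fact p.Prime := ⟨hp⟩
  have hodd : p ≠ 2 := fun h2 => no_deg_two hcomm χ₀.2 (by rw [← hpe, h2])
  let P : Sylow p G := default
  obtain ⟨hpd, hP⟩ := sylow_prime hcomm χ₀.2 hp hpe.symm P
  obtain ⟨M, hM⟩ := CfsgLib.ZStar.exists_modular hp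
  obtain ⟨X, Y, -, -, hXc, -, εX, ε, hX, -⟩ := Cfsg.Agent.S4441.result p M hM hodd P hP _ rfl
  have he1 : (Subgroup.centralizer ((P : Subgroup G) : Set G)).relIndex (Subgroup.normalizer ((P : Subgroup G) : Set G)) ≠ 1 := by
    intro h2
    exact SmallSyl.burnside (fun hc => hcomm (isMulCommutative_iff.1 hc)) hpd P (Subgroup.relIndex_eq_one.1 h2)
  have he0 : (Subgroup.centralizer ((P : Subgroup G) : Set G)).relIndex (Subgroup.normalizer ((P : Subgroup G) : Set G)) ≠ 0 :=
    Subgroup.index_ne_zero_of_finite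
  obtain ⟨χ, hχX, hχ1⟩ : ∃ χ ∈ X, charDegree (χ : G → ℂ) ≠ 1 := by
    by_contra hcon
    push Not at hcon
    have hsub : Subsingleton X := by
      constructor
      rintro ⟨a, ha⟩ ⟨b, hb⟩
      apply Subtype.ext
      apply Subtype.ext
      show (a : G → ℂ) = b
      rw [linear_triv hcomm a.2 (hcon a ha), linear_triv hcomm b.2 (hcon b hb)]
    have := Finite.card_le_one_iff_subsingleton.2 hsub
    rw [hXc] at this
    omega
  obtain ⟨hε, hmod, -⟩ := hX χ hχX
  have hq : (charDegree (χ : G → ℂ)).Prime := (hPD χ).resolve_left hχ1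
  have hqp := h0 χ
  obtain ⟨q, hqe⟩ : ∃ q, q = charDegree (χ : G → ℂ) := ⟨_, rfl⟩
  rw [← hqe] at hq hqp hmod
  have hp3 : 3 ≤ p := by have := hp.two_le; omega
  rcases hε with h2 | h2
  · rw [h2] at hmod
    have h3 := (Int.modEq_iff_dvd.1 hmod.symm)
    have h4 : (p : ℤ) ∣ ((q - 1 : ℕ) : ℤ) := by
      rw [Nat.cast_sub hq.one_lt.le]; exact_mod_cast h3
    have h5 := Nat.le_of_dvd (by have := hq.two_le; omega) (Int.natCast_dvd_natCast.1 h4)
    have := hq.two_le
    omega
  · rw [h2] at hmod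
    have h3 := (Int.modEq_iff_dvd.1 hmod.symm)
    have h4 : (p : ℤ) ∣ ((q + 1 : ℕ) : ℤ) := by
      push_cast
      have : (q : ℤ) - -1 = q + 1 := by ring
      rw [← this]; exact h3
    have h5 := Int.natCast_dvd_natCast.1 h4
    have h6 : q + 1 = p := by
      obtain ⟨k, hk⟩ := h5
      have hk1 : k = 1 := by
        rcases Nat.lt_or_ge k 2 with h7 | h7
        · interval_cases k
          · omega
          · rfl
        · have : p * 2 ≤ p * k := Nat.mul_le_mul_left p h7
          omega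
      rw [hk1, mul_one] at hk
      exact hk
    have h7 : ¬ 2 ∣ p := fun h8 => hodd ((Nat.prime_dvd_prime_iff_eq Nat.prime_two hp).1 h8).symm
    have h8 : 2 ∣ q := by omega
    have h9 : q = 2 := ((Nat.prime_dvd_prime_iff_eq Nat.prime_two hq).1 h8).symm
    exact no_deg_two hcomm χ.2 (by rw [← hqe, h9])

end simple

section hered
variable {G : Type u} [Group G] [Finite G]

theorem PD.quot (h : PD G) (N : Subgroup G) [N.Normal] : PD (G ⧸ N) := by
  intro χ
  have h1 := CfsgLib.Quot19.irr_inflate N χ.2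
  have h2 : charDegree (fun g : G => (χ : G ⧸ N → ℂ) g) = charDegree (χ : G ⧸ N → ℂ) := by
    have e1 := deg_eq h1
    have e2 := deg_eq χ.2
    have e3 : (χ : G ⧸ N → ℂ) ((1 : G) : G ⧸ N) = (χ : G ⧸ N → ℂ) 1 := rfl
    rw [e3, e2] at e1
    exact_mod_cast e1.symm
  have h3 := h ⟨_, h1⟩
  rw [← h2]
  exact h3

theorem PD.sub (h : PD G) (N : Subgroup G) [hN : N.Normal] : PD N := by
  classical
  haveI : Fintype G := Fintype.ofFinite G
  haveI : Fintype N := Fintype.ofFinite N
  intro θ
  obtain ⟨χ, hχ, hne⟩ := exists_above N θ.2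
  obtain ⟨e, he, -⟩ := CfsgLib.Extend.ratio_dvd_index θ.2 hχ hne
  rw [deg_eq hχ, deg_eq θ.2] at he
  have he' : charDegree χ = e * charDegree (θ : N → ℂ) := by exact_mod_cast he
  rcases h ⟨χ, hχ⟩ with h1 | h1
  · have h1' : charDegree χ = 1 := h1
    rw [h1'] at he'
    left
    exact Nat.eq_one_of_mul_eq_one_left he'.symm
  · have h1' : (charDegree χ).Prime := h1
    have hd : charDegree (θ : N → ℂ) ∣ charDegree χ := ⟨e, by rw [he', mul_comm]⟩
    rcases (Nat.dvd_prime h1').1 hd with h2 | h2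
    · exact Or.inl h2
    · right; rw [h2]; exact h1'

end hered

theorem solv (n : ℕ) : ∀ (G : Type u) [Group G] [Finite G], Nat.card G = n → PD G → Group.IsSolvable G := by
  induction n using Nat.strong_induction_on with
  | _ n ih =>
  intro G _ _ hn hPD
  by_cases hcomm : ∀ a b : G, a * b = b * a
  · exact Group.isSolvable_of_comm hcomm
  haveI hnt : Nontrivial G := by
    by_contra h1
    rw [not_nontrivial_iff_subsingleton] at h1
    exact hcomm fun a b => Subsingleton.elim _ _
  by_cases hs : ∀ N : Subgroup G, N.Normal → N = ⊥ ∨ N = ⊤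
  · exfalso
    haveI : IsSimpleGroup G := ⟨hs⟩
    exact simple_false hcomm hPD
  · push Not at hs
    obtain ⟨N, hN, hb, ht⟩ := hs
    haveI := hN
    have h1 : Nat.card N < n := by
      rw [← hn]
      refine lt_of_le_of_ne (Subgroup.card_le_card_group N) fun h2 => ht (Subgroup.eq_top_of_card_eq N h2)
    have h2 : Nat.card (G ⧸ N) < n := by
      rw [← hn, Subgroup.card_eq_card_quotient_mul_card_subgroup N]
      have h3 : 1 < Nat.card N := (Subgroup.one_lt_card_iff_ne_bot N).2 hb
      have h4 : 0 < Nat.card (G ⧸ N) := Nat.card_pos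
      nlinarith
    haveI := ih _ h1 N rfl (hPD.sub N)
    haveI := ih _ h2 (G ⧸ N) rfl (hPD.quot N)
    refine Group.isSolvable_of_ker_le_range N.subtype (QuotientGroup.mk' N) ?_
    rw [QuotientGroup.ker_mk', Subgroup.range_subtype]
end CfsgLib.PD11
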