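import Mathlib
import Cfsg.Agent.EqBase
import Cfsg.Agent.LibPDa
import Cfsg.Agent.LibExtend7

/-! Groups all of whose nonlinear character degrees are primes, part 2 (seat helper11). -/

set_option autoImplicit false
set_option linter.all false

open Cfsg CfsgLib.CharBasic CfsgLib.Clifford
open scoped ComplexConjugate commutatorElement

namespace CfsgLib.PD11

universe u v

section red
variable {H : Type u} [Group H] [Finite H]

/-- nonlinear characters are faithful, in kernel form -/
def Minq (H : Type u) [Group H] : Prop := ∀ M : Subgroup H, M.Normal → M ≠ ⊥ → ∀ ψ : IrrCharacter H,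
  (∀ m ∈ M, (ψ : H → ℂ) m = (ψ : H → ℂ) 1) → charDegree (ψ : H → ℂ) = 1

theorem Minq.faithful (h : Minq H) {χ : H → ℂ} (hχ : IsIrrCharacter H χ) (hd : charDegree χ ≠ 1) :
    ∀ g, χ g = χ 1 → g = 1 := by
  have hχ' := hχ
  obtain ⟨n, ρ, hρ, rfl⟩ := hχ
  have hn : (MonoidHom.ker (show H →* _ from ρ)).Normal := inferInstance
  by_cases h1 : MonoidHom.ker (show H →* _ from ρ) = ⊥
  · intro g hg
    have h2 : ρ g = 1 := by
      rw [Representation.char_one, character_eq_finrank_iff] at hg
      rw [hg]; rfl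
    have h3 : g ∈ MonoidHom.ker (show H →* _ from ρ) := h2
    rw [h1] at h3
    exact h3
  · exfalso
    refine hd (h _ hn h1 ⟨_, hχ'⟩ ?_)
    intro m hm
    have h2 : ρ m = 1 := hm
    show ρ.character m = ρ.character 1
    have h3 : ρ 1 = 1 := ρ.map_one
    unfold Representation.character
    rw [h2, h3]

theorem Minq.comm_le (h : Minq H) (M : Subgroup H) (hM : M.Normal) (hb : M ≠ ⊥) : commutator H ≤ M := by
  haveI := hM
  have h1 : ∀ a b : H ⧸ M, a * b = b * a := fun a b => CfsgLib.FixIrr19.comm_of_linear (fun ψ => by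
    have h2 := CfsgLib.Quot19.irr_inflate M ψ.2
    have h3 : charDegree (fun g : H => (ψ : H ⧸ M → ℂ) g) = 1 := h M hM hb ⟨_, h2⟩ (CfsgLib.Quot19.infl_ker M (ψ : H ⧸ M → ℂ))
    have e1 := deg_eq h2
    rw [h3, Nat.cast_one] at e1
    exact e1) a b
  rw [commutator_def, Subgroup.commutator_le]
  intro a _ b _
  rw [← QuotientGroup.eq_one_iff]
  have h4 : ((⁅a, b⁆ : H) : H ⧸ M) = ((a : H ⧸ M) * (b : H ⧸ M)) * ((b : H ⧸ M) * (a : H ⧸ M))⁻¹ := by
    rw [commutatorElement_def, mul_inv_rev, ← mul_assoc]; rfl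
  rw [h4, h1 (a : H ⧸ M) (b : H ⧸ M), mul_inv_cancel]

theorem lin_of (A : Subgroup H) (hA : A.Normal) (K : Subgroup H) (hK : K.Normal)
    (hKc : ∀ a ∈ K, ∀ b ∈ K, a * b = b * a) {β : H → ℂ} (hβ : IsIrrCharacter H β) {r : ℕ}
    (hd : charDegree β = r) (hcop : r.Coprime (K.relIndex A)) {ψ : A → ℂ} (hψ : IsIrrCharacter A ψ)
    (hne : ∀ [Fintype A], classInner (fun a : A => β a) ψ ≠ 0) : ψ 1 = 1 := by
  classical
  haveI := hA
  haveI := hK
  haveI : Fintype H := Fintype.ofFinite H
  haveI : Fintype A := Fintype.ofFinite A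
  haveI : Fintype (K.subgroupOf A) := Fintype.ofFinite _
  obtain ⟨e, he, -⟩ := CfsgLib.Extend.ratio_dvd_index hψ hβ hne
  rw [deg_eq hβ, deg_eq hψ, hd] at he
  have he' : r = e * charDegree ψ := by exact_mod_cast he
  obtain ⟨l, hl, hlne⟩ := exists_below (K.subgroupOf A) hψ
  obtain ⟨f, hf, hfi⟩ := CfsgLib.Extend.ratio_dvd_index hl hψ hlne
  have hl1 : l 1 = 1 := irr_degree_one_of_comm (fun a b => by
    apply Subtype.ext
    apply Subtype.ext
    exact hKc _ a.2 _ b.2) hl
  rw [deg_eq hψ, hl1, mul_one] at hf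
  have hf' : charDegree ψ = f := by exact_mod_cast hf
  have h1 : charDegree ψ ∣ r := ⟨e, by rw [he', mul_comm]⟩
  have h2 : charDegree ψ ∣ K.relIndex A := by rw [hf']; exact hfi
  have h3 := Nat.eq_one_of_dvd_coprimes hcop h1 h2
  rw [deg_eq hψ, h3, Nat.cast_one]

theorem comm_of_faithful (A : Subgroup H) {β : H → ℂ} (hβ : IsIrrCharacter H β) (hfaith : ∀ g, β g = β 1 → g = 1)
    (hlin : ∀ ψ : A → ℂ, IsIrrCharacter A ψ → (∀ [Fintype A], classInner (fun a : A => β a) ψ ≠ 0) → ψ 1 = 1) :
    ∀ a b : A, a * b = b * a := by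
  classical
  haveI : Fintype H := Fintype.ofFinite H
  haveI : Fintype A := Fintype.ofFinite A
  obtain ⟨m, hm, hexp, -⟩ := char_expand (isCharacter_restrict (irr_isCharacter hβ) A)
  intro a b
  have h1 : (fun x : A => β x) ((a * b) * (b * a)⁻¹) = (fun x : A => β x) 1 := by
    rw [hexp]
    simp only [Finset.sum_apply, Pi.smul_apply, smul_eq_mul]
    refine Finset.sum_congr rfl fun ψ _ => ?_
    by_cases hψ : m ψ = 0
    · rw [hψ]; simp
    · have h2 : (ψ : A → ℂ) 1 = 1 := by
        apply hlin ψ ψ.2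
        intro inst
        have h5 := hm ψ
        intro h6
        apply hψ
        have h7 : (m ψ : ℂ) = 0 := by
          rw [← h5]
          convert h6
        exact_mod_cast h7
      have h3 := linear_mul (irr_isCharacter ψ.2) h2
      congr 1
      rw [h3, h3, mul_comm ((ψ : A → ℂ) a), ← h3 b a, ← h3, mul_inv_cancel]
  have h4 := hfaith _ h1
  rw [OneMemClass.coe_eq_one] at h4
  exact mul_inv_eq_one.mp h4

theorem Minq.primes (h : Minq H) (hPD : PD H) (β : IrrCharacter H) (hβ1 : charDegree (β : H → ℂ) ≠ 1) :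
    (Nat.card H).primeFactors.card ≤ 2 := by
  classical
  haveI : Group.IsSolvable H := solv _ H rfl hPD
  set K := commutator H with hKdef
  have hKne : K ≠ ⊥ := by
    intro hK
    apply hβ1
    have hab : ∀ a b : H, a * b = b * a := by
      intro a b
      have h1 : ⁅a, b⁆ ∈ K := Subgroup.commutator_mem_commutator (Subgroup.mem_top a) (Subgroup.mem_top b)
      rw [hK, Subgroup.mem_bot, commutatorElement_eq_one_iff_mul_comm] at h1
      exact h1
    haveI : Fintype H := Fintype.ofFinite H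
    have h2 := irr_degree_one_of_comm hab β.2
    rw [deg_eq β.2] at h2
    exact_mod_cast h2
  have hKn : K.Normal := inferInstance
  have hKK : ⁅K, K⁆ = ⊥ := by
    by_contra hne
    have h1 := h.comm_le ⁅K, K⁆ inferInstance hne
    exact absurd h1 (not_le_of_gt (Group.IsSolvable.commutator_lt_of_ne_bot hKne))
  have hKc : ∀ a ∈ K, ∀ b ∈ K, a * b = b * a := by
    intro a ha b hb
    have h1 : ⁅a, b⁆ ∈ ⁅K, K⁆ := Subgroup.commutator_mem_commutator ha hb
    rw [hKK, Subgroup.mem_bot, commutatorElement_eq_one_iff_mul_comm] at h1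
    exact h1
  have hr : (charDegree (β : H → ℂ)).Prime := (hPD β).resolve_left hβ1
  have hfaith := h.faithful β.2 hβ1
  have key : ∀ s : ℕ, s.Prime → s ∣ Nat.card H → s ≠ charDegree (β : H → ℂ) → ∃ k, Nat.card K ∣ s ^ k := by
    intro s hs hsd hsr
    haveI : Fact s.Prime := ⟨hs⟩
    let S : Sylow s H := default
    obtain ⟨k, hk⟩ := IsPGroup.iff_card.mp S.isPGroup'
    refine ⟨k, ?_⟩
    set A : Subgroup H := (S : Subgroup H) ⊔ K with hA
    have hKA : K ≤ A := le_sup_right
    have hAn : A.Normal := by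
      constructor
      intro n hn g
      have h1 : g * n * g⁻¹ = ⁅g, n⁆ * n := by rw [commutatorElement_def]; group
      rw [h1]
      exact mul_mem (hKA (Subgroup.commutator_mem_commutator (Subgroup.mem_top g) (Subgroup.mem_top n))) hn
    have hrel : K.relIndex A ∣ s ^ k := by
      rw [hA, Subgroup.relIndex_sup_right, ← hk]
      exact Subgroup.relIndex_dvd_card _ _
    have hcop : (charDegree (β : H → ℂ)).Coprime (K.relIndex A) :=
      Nat.Coprime.coprime_dvd_right hrel (Nat.Coprime.pow_right _ ((Nat.coprime_primes hr hs).2 (Ne.symm hsr)))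
    have hAc := comm_of_faithful A β.2 hfaith (fun ψ hψ hne => lin_of A hAn K hKn hKc β.2 rfl hcop hψ hne)
    have hSA : (S : Subgroup H) ≤ A := le_sup_left
    have hSn : (S : Subgroup H).Normal := by
      rw [← Subgroup.normalizer_eq_top_iff, eq_top_iff]
      intro g _
      apply (Sylow.smul_eq_iff_mem_normalizer).1
      have hgA : ((g • S : Sylow s H) : Subgroup H) ≤ A := by
        intro x hx
        rw [SmallSyl.mem_smul_sylow] at hx
        have h1 := hAn.conj_mem _ (hSA hx) g
        have h2 : g * (g⁻¹ * x * g) * g⁻¹ = x := by group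
        rwa [h2] at h1
      have hn : ((S.subtype hSA : Sylow s A) : Subgroup A).Normal := by
        constructor
        intro n hn g
        rw [hAc g n, mul_inv_cancel_right]
        exact hn
      haveI : Subsingleton (Sylow s A) := by
        have h1 := SmallSyl.card_one_of_normal (S.subtype hSA) hn
        exact Finite.card_le_one_iff_subsingleton.1 h1.le
      have h2 : ((g • S : Sylow s H).subtype hgA : Sylow s A) = S.subtype hSA := Subsingleton.elim _ _
      exact Sylow.subtype_injective h2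
    have hSne : (S : Subgroup H) ≠ ⊥ := by
      intro hb
      have h1 : s ∣ Nat.card (S : Subgroup H) := S.dvd_card_of_dvd_card hsd
      rw [hb, Subgroup.card_bot] at h1
      exact hs.one_lt.ne' (Nat.dvd_one.1 h1)
    have := Subgroup.card_dvd_of_le (h.comm_le (S : Subgroup H) hSn hSne)
    rwa [show Nat.card (S : Subgroup H) = s ^ k from hk] at this
  have hK1 : 1 < Nat.card K := (Subgroup.one_lt_card_iff_ne_bot K).2 hKne
  obtain ⟨t, ht, htd⟩ := Nat.exists_prime_and_dvd hK1.ne'
  have hsub : (Nat.card H).primeFactors ⊆ {charDegree (β : H → ℂ), t} := by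
    intro s hs
    rw [Nat.mem_primeFactors] at hs
    rw [Finset.mem_insert, Finset.mem_singleton]
    by_cases h1 : s = charDegree (β : H → ℂ)
    · exact Or.inl h1
    · right
      obtain ⟨k, hk⟩ := key s hs.1 hs.2.1 h1
      exact ((Nat.prime_dvd_prime_iff_eq ht hs.1).1 (ht.dvd_of_dvd_pow (htd.trans hk))).symm
  exact (Finset.card_le_card hsub).trans Finset.card_le_two

end red

theorem main {G : Type u} [Group G] [Finite G] (hPD : PD G) : Nat.card ↥(charDegrees G) ≤ 3 := by
  classical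
  haveI : Fintype G := Fintype.ofFinite G
  by_cases hlin : ∀ χ : IrrCharacter G, charDegree (χ : G → ℂ) = 1
  · have h1 : charDegrees G ⊆ ({1} : Finset ℕ) := by
      rintro d ⟨χ, rfl⟩
      simp [hlin χ]
    have h2 : (charDegrees G).ncard ≤ 1 := by
      have := Set.ncard_le_ncard h1 (Finset.finite_toSet _)
      rw [Set.ncard_coe_finset] at this
      simpa using this
    have h3 : Nat.card ↥(charDegrees G) = (charDegrees G).ncard := rfl
    omega
  push Not at hlin
  obtain ⟨χ₁, hχ₁⟩ := hlin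
  -- a maximal kernel
  let 𝒩 : Set (Subgroup G) := {N | N.Normal ∧ ∃ β : IrrCharacter G, charDegree (β : G → ℂ) ≠ 1 ∧ ∀ n ∈ N, (β : G → ℂ) n = (β : G → ℂ) 1}
  have hne : 𝒩.Nonempty := ⟨⊥, inferInstance, χ₁, hχ₁, fun n hn => by rw [Subgroup.mem_bot.1 hn]⟩
  obtain ⟨N, hNmax⟩ := (Set.toFinite 𝒩).exists_maximal hne
  obtain ⟨⟨hN, β, hβ1, hβN⟩, hmax⟩ := hNmax
  haveI := hN
  haveI : Fintype N := Fintype.ofFinite N
  have hMin : Minq (G ⧸ N) := by
    intro M hM hMb ψ hψ
    by_contra hψ1
    haveI := hM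
    have hM' : (M.comap (QuotientGroup.mk' N)).Normal := inferInstance
    have h2 := CfsgLib.Quot19.irr_inflate N ψ.2
    have h4 : charDegree (fun g : G => (ψ : G ⧸ N → ℂ) g) = charDegree (ψ : G ⧸ N → ℂ) := by
      have e1 := deg_eq h2
      have e2 := deg_eq ψ.2
      have e3 : (ψ : G ⧸ N → ℂ) ((1 : G) : G ⧸ N) = (ψ : G ⧸ N → ℂ) 1 := rfl
      rw [e3, e2] at e1
      exact_mod_cast e1.symm
    have h3 : M.comap (QuotientGroup.mk' N) ∈ 𝒩 := by
      refine ⟨hM', ⟨_, h2⟩, ?_, ?_⟩
      · show charDegree (fun g : G => (ψ : G ⧸ N → ℂ) g) ≠ 1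
        rw [h4]; exact hψ1
      · intro n hn
        exact hψ _ hn
    have h5 : N ≤ M.comap (QuotientGroup.mk' N) := by
      intro n hn
      rw [Subgroup.mem_comap, QuotientGroup.mk'_apply, (QuotientGroup.eq_one_iff n).2 hn]
      exact M.one_mem
    have h6 := hmax h3 h5
    apply hMb
    rw [Subgroup.eq_bot_iff_forall]
    intro x hx
    obtain ⟨g, rfl⟩ := QuotientGroup.mk_surjective x
    exact (QuotientGroup.eq_one_iff g).2 (h6 hx)
  obtain ⟨β', hβ', hβe⟩ := CfsgLib.Quot19.irr_deflate N β.2 hβN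
  have hβ'1 : charDegree β' ≠ 1 := by
    have e1 := deg_eq β.2
    have e2 := deg_eq hβ'
    have e3 := hβe 1
    have e4 : β' ((1 : G) : G ⧸ N) = β' 1 := rfl
    rw [e4, e2, e1] at e3
    have e5 : charDegree β' = charDegree (β : G → ℂ) := by exact_mod_cast e3
    rw [e5]; exact hβ1
  have hcard := hMin.primes (hPD.quot N) ⟨β', hβ'⟩ hβ'1
  have hβp : (charDegree (β : G → ℂ)).Prime := (hPD β).resolve_left hβ1
  have hsub : charDegrees G ⊆ ((insert 1 (Nat.card (G ⧸ N)).primeFactors : Finset ℕ) : Set ℕ) := by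
    rintro d ⟨χ, rfl⟩
    rw [Finset.mem_coe, Finset.mem_insert, Nat.mem_primeFactors]
    rcases hPD χ with h1 | h1
    · exact Or.inl h1
    · right
      refine ⟨h1, ?_, Nat.card_pos.ne'⟩
      by_contra hnd
      have hcop : (charDegree (χ : G → ℂ)).Coprime N.index := (Nat.Prime.coprime_iff_not_dvd h1).2 hnd
      have hχN := CfsgLib.Extend.restrict_irr_of_coprime χ.2 hcop
      have hprod := CfsgLib.Gallagher.gallagher_irr N χ.2 hχN β.2 hβN
      have hdeg : charDegree ((β : G → ℂ) * (χ : G → ℂ)) = charDegree (β : G → ℂ) * charDegree (χ : G → ℂ) := by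
        have e1 := deg_eq hprod
        rw [Pi.mul_apply, deg_eq β.2, deg_eq χ.2] at e1
        exact_mod_cast e1.symm
      rcases hPD ⟨_, hprod⟩ with h2 | h2
      · have h3 : charDegree ((β : G → ℂ) * (χ : G → ℂ)) = 1 := h2
        rw [hdeg] at h3
        exact hβ1 (Nat.eq_one_of_mul_eq_one_right h3)
      · have h3 : (charDegree ((β : G → ℂ) * (χ : G → ℂ))).Prime := h2
        rw [hdeg] at h3
        exact Nat.not_prime_mul hβ1 h1.ne_one h3
  have h2 : (charDegrees G).ncard ≤ 3 := by
    have h3 := Set.ncard_le_ncard hsub (Finset.finite_toSet _)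
    rw [Set.ncard_coe_finset] at h3
    have h4 := Finset.card_insert_le 1 (Nat.card (G ⧸ N)).primeFactors
    omega
  exact h2

end CfsgLib.PD11
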