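import Mathlib
import Cfsg.Agent.EqBase
import Cfsg.Agent.LibPDb

/-! The character degree graph of a solvable group has at most two components (seat helper11). -/

set_option autoImplicit false
set_option linter.all false

open Cfsg CfsgLib.CharBasic CfsgLib.Clifford
open scoped ComplexConjugate commutatorElement

namespace CfsgLib.PD11

universe u v

section red
variable {H : Type u} [Group H] [Finite H]

theorem Minq.two (h : Minq H) [hsol : Group.IsSolvable H] (β : IrrCharacter H) (hβ1 : charDegree (β : H → ℂ) ≠ 1) :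
    ∃ t : ℕ, t.Prime ∧ ∀ s : ℕ, s.Prime → s ∣ Nat.card H → ¬ s ∣ charDegree (β : H → ℂ) → s = t := by
  classical
  set K := commutator H with hKdef
  have hKne : K ≠ ⊥ := by
    intro hK
    apply hβ1
    have hab : ∀ a b : H, a * b = b * a := by
      intro a b
      have h1 : ⁅a, b⁆ ∈ K := Subgroup.commutator_mem_commutator (Subgroup.mem_top a) (Subgroup.mem_top b)
      rw [hK, Subgroup.mem_bot, commutatorElement_eq_one_iff_mul_comm] at h1
      exact h1
    haveI : Fintype H := Fintype.ofFinite H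
    have h2 := irr_degree_one_of_comm hab β.2
    rw [deg_eq β.2] at h2
    exact_mod_cast h2
  have hKn : K.Normal := inferInstance
  have hKK : ⁅K, K⁆ = ⊥ := by
    by_contra hne
    have h1 := h.comm_le ⁅K, K⁆ inferInstance hne
    exact absurd h1 (not_le_of_gt (Group.IsSolvable.commutator_lt_of_ne_bot hKne))
  have hKc : ∀ a ∈ K, ∀ b ∈ K, a * b = b * a := by
    intro a ha b hb
    have h1 : ⁅a, b⁆ ∈ ⁅K, K⁆ := Subgroup.commutator_mem_commutator ha hb
    rw [hKK, Subgroup.mem_bot, commutatorElement_eq_one_iff_mul_comm] at h1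
    exact h1
  have hfaith := h.faithful β.2 hβ1
  have key : ∀ s : ℕ, s.Prime → s ∣ Nat.card H → ¬ s ∣ charDegree (β : H → ℂ) → ∃ k, Nat.card K ∣ s ^ k := by
    intro s hs hsd hsr
    haveI : Fact s.Prime := ⟨hs⟩
    let S : Sylow s H := default
    obtain ⟨k, hk⟩ := IsPGroup.iff_card.mp S.isPGroup'
    refine ⟨k, ?_⟩
    set A : Subgroup H := (S : Subgroup H) ⊔ K with hA
    have hKA : K ≤ A := le_sup_right
    have hAn : A.Normal := by
      constructor
      intro n hn g
      have h1 : g * n * g⁻¹ = ⁅g, n⁆ * n := by rw [commutatorElement_def]; group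
      rw [h1]
      exact mul_mem (hKA (Subgroup.commutator_mem_commutator (Subgroup.mem_top g) (Subgroup.mem_top n))) hn
    have hrel : K.relIndex A ∣ s ^ k := by
      rw [hA, Subgroup.relIndex_sup_right, ← hk]
      exact Subgroup.relIndex_dvd_card _ _
    have hcop : (charDegree (β : H → ℂ)).Coprime (K.relIndex A) :=
      Nat.Coprime.coprime_dvd_right hrel (Nat.Coprime.pow_right _ ((Nat.Prime.coprime_iff_not_dvd hs).2 hsr).symm)
    have hAc := comm_of_faithful A β.2 hfaith (fun ψ hψ hne => lin_of A hAn K hKn hKc β.2 rfl hcop hψ hne)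
    have hSA : (S : Subgroup H) ≤ A := le_sup_left
    have hSn : (S : Subgroup H).Normal := by
      rw [← Subgroup.normalizer_eq_top_iff, eq_top_iff]
      intro g _
      apply (Sylow.smul_eq_iff_mem_normalizer).1
      have hgA : ((g • S : Sylow s H) : Subgroup H) ≤ A := by
        intro x hx
        rw [SmallSyl.mem_smul_sylow] at hx
        have h1 := hAn.conj_mem _ (hSA hx) g
        have h2 : g * (g⁻¹ * x * g) * g⁻¹ = x := by group
        rwa [h2] at h1
      have hn : ((S.subtype hSA : Sylow s A) : Subgroup A).Normal := by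
        constructor
        intro n hn g
        rw [hAc g n, mul_inv_cancel_right]
        exact hn
      haveI : Subsingleton (Sylow s A) := by
        have h1 := SmallSyl.card_one_of_normal (S.subtype hSA) hn
        exact Finite.card_le_one_iff_subsingleton.1 h1.le
      have h2 : ((g • S : Sylow s H).subtype hgA : Sylow s A) = S.subtype hSA := Subsingleton.elim _ _
      exact Sylow.subtype_injective h2
    have hSne : (S : Subgroup H) ≠ ⊥ := by
      intro hb
      have h1 : s ∣ Nat.card (S : Subgroup H) := S.dvd_card_of_dvd_card hsd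
      rw [hb, Subgroup.card_bot] at h1
      exact hs.one_lt.ne' (Nat.dvd_one.1 h1)
    have := Subgroup.card_dvd_of_le (h.comm_le (S : Subgroup H) hSn hSne)
    rwa [show Nat.card (S : Subgroup H) = s ^ k from hk] at this
  have hK1 : 1 < Nat.card K := (Subgroup.one_lt_card_iff_ne_bot K).2 hKne
  obtain ⟨t, ht, htd⟩ := Nat.exists_prime_and_dvd hK1.ne'
  refine ⟨t, ht, fun s hs hsd hsf => ?_⟩
  obtain ⟨k, hk⟩ := key s hs hsd hsf
  exact ((Nat.prime_dvd_prime_iff_eq ht hs).1 (ht.dvd_of_dvd_pow (htd.trans hk))).symm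

end red

section graph
variable {G : Type u} [Group G]

theorem reach_of_dvd {p q : degreePrimes G} {d : ℕ} (hd : d ∈ charDegrees G) (hp : (p : ℕ) ∣ d) (hq : (q : ℕ) ∣ d) :
    ((degreeGraph G).induce (degreePrimes G)).Reachable p q := by
  by_cases h : p = q
  · subst h; exact SimpleGraph.Reachable.refl _
  · apply SimpleGraph.Adj.reachable
    show (degreeGraph G).Adj p q
    have hne : (p : ℕ) ≠ q := fun h1 => h (Subtype.ext h1)
    exact ⟨hne, p.2.1, q.2.1, d, hd, Nat.Coprime.mul_dvd_of_dvd_of_dvd ((Nat.coprime_primes p.2.1 q.2.1).2 hne) hp hq⟩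

end graph

theorem comps {G : Type u} [Group G] [Finite G] [hsol : Group.IsSolvable G] :
    Nat.card ((degreeGraph G).induce (degreePrimes G)).ConnectedComponent ≤ 2 := by
  classical
  haveI : Fintype G := Fintype.ofFinite G
  by_cases hlin : ∀ χ : IrrCharacter G, charDegree (χ : G → ℂ) = 1
  · have hemp : IsEmpty ((degreeGraph G).induce (degreePrimes G)).ConnectedComponent := by
      constructor
      intro c
      induction c using SimpleGraph.ConnectedComponent.ind with
      | _ v =>
        obtain ⟨p, hp, d, ⟨χ, rfl⟩, hd⟩ := v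
        rw [hlin χ] at hd
        exact hp.one_lt.ne' (Nat.dvd_one.1 hd)
    rw [Nat.card_of_isEmpty]
    omega
  push Not at hlin
  obtain ⟨χ₁, hχ₁⟩ := hlin
  -- a maximal kernel
  let 𝒩 : Set (Subgroup G) := {N | N.Normal ∧ ∃ β : IrrCharacter G, charDegree (β : G → ℂ) ≠ 1 ∧ ∀ n ∈ N, (β : G → ℂ) n = (β : G → ℂ) 1}
  have hne : 𝒩.Nonempty := ⟨⊥, inferInstance, χ₁, hχ₁, fun n hn => by rw [Subgroup.mem_bot.1 hn]⟩
  obtain ⟨N, hNmax⟩ := (Set.toFinite 𝒩).exists_maximal hne
  obtain ⟨⟨hN, β, hβ1, hβN⟩, hmax⟩ := hNmax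
  haveI := hN
  haveI : Fintype N := Fintype.ofFinite N
  have hMin : Minq (G ⧸ N) := by
    intro M hM hMb ψ hψ
    by_contra hψ1
    haveI := hM
    have hM' : (M.comap (QuotientGroup.mk' N)).Normal := inferInstance
    have h2 := CfsgLib.Quot19.irr_inflate N ψ.2
    have h4 : charDegree (fun g : G => (ψ : G ⧸ N → ℂ) g) = charDegree (ψ : G ⧸ N → ℂ) := by
      have e1 := deg_eq h2
      have e2 := deg_eq ψ.2
      have e3 : (ψ : G ⧸ N → ℂ) ((1 : G) : G ⧸ N) = (ψ : G ⧸ N → ℂ) 1 := rfl
      rw [e3, e2] at e1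
      exact_mod_cast e1.symm
    have h3 : M.comap (QuotientGroup.mk' N) ∈ 𝒩 := by
      refine ⟨hM', ⟨_, h2⟩, ?_, ?_⟩
      · show charDegree (fun g : G => (ψ : G ⧸ N → ℂ) g) ≠ 1
        rw [h4]; exact hψ1
      · intro n hn
        exact hψ _ hn
    have h5 : N ≤ M.comap (QuotientGroup.mk' N) := by
      intro n hn
      rw [Subgroup.mem_comap, QuotientGroup.mk'_apply, (QuotientGroup.eq_one_iff n).2 hn]
      exact M.one_mem
    have h6 := hmax h3 h5
    apply hMb
    rw [Subgroup.eq_bot_iff_forall]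
    intro x hx
    obtain ⟨g, rfl⟩ := QuotientGroup.mk_surjective x
    exact (QuotientGroup.eq_one_iff g).2 (h6 hx)
  obtain ⟨β', hβ', hβe⟩ := CfsgLib.Quot19.irr_deflate N β.2 hβN
  have hβ'1 : charDegree β' ≠ 1 := by
    have e1 := deg_eq β.2
    have e2 := deg_eq hβ'
    have e3 := hβe 1
    have e4 : β' ((1 : G) : G ⧸ N) = β' 1 := rfl
    rw [e4, e2, e1] at e3
    have e5 : charDegree β' = charDegree (β : G → ℂ) := by exact_mod_cast e3
    rw [e5]; exact hβ1
  haveI : Group.IsSolvable (G ⧸ N) := Group.isSolvable_of_surjective (QuotientGroup.mk'_surjective N)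
  obtain ⟨t, ht, hkey⟩ := hMin.two ⟨β', hβ'⟩ hβ'1
  have hdegβ : charDegree β' = charDegree (β : G → ℂ) := by
    have e1 := deg_eq β.2
    have e2 := deg_eq hβ'
    have e3 := hβe 1
    have e4 : β' ((1 : G) : G ⧸ N) = β' 1 := rfl
    rw [e4, e2, e1] at e3
    exact_mod_cast e3
  obtain ⟨r, hr, hrd⟩ := Nat.exists_prime_and_dvd hβ1
  have hβm : charDegree (β : G → ℂ) ∈ charDegrees G := ⟨β, rfl⟩
  let vr : degreePrimes G := ⟨r, hr, _, hβm, hrd⟩
  have hall : ∀ q : degreePrimes G, ((degreeGraph G).induce (degreePrimes G)).Reachable q vr ∨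
      ∃ htt : t ∈ degreePrimes G, ((degreeGraph G).induce (degreePrimes G)).Reachable q ⟨t, htt⟩ := by
    intro q
    obtain ⟨hq, d, ⟨χ, rfl⟩, hqd⟩ := q.2
    by_cases hcop : (charDegree (χ : G → ℂ)).Coprime N.index
    · left
      have hχN := CfsgLib.Extend.restrict_irr_of_coprime χ.2 hcop
      have hprod := CfsgLib.Gallagher.gallagher_irr N χ.2 hχN β.2 hβN
      have hdeg : charDegree ((β : G → ℂ) * (χ : G → ℂ)) = charDegree (β : G → ℂ) * charDegree (χ : G → ℂ) := by
        have e1 := deg_eq hprod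
        rw [Pi.mul_apply, deg_eq β.2, deg_eq χ.2] at e1
        exact_mod_cast e1.symm
      refine reach_of_dvd (d := charDegree (β : G → ℂ) * charDegree (χ : G → ℂ)) ⟨⟨_, hprod⟩, hdeg⟩ ?_ ?_
      · exact hqd.mul_left _
      · exact hrd.mul_right _
    · obtain ⟨s, hs, hs1, hs2⟩ := Nat.Prime.not_coprime_iff_dvd.1 hcop
      have hsm : s ∈ degreePrimes G := ⟨hs, _, ⟨χ, rfl⟩, hs1⟩
      have hqs : ((degreeGraph G).induce (degreePrimes G)).Reachable q ⟨s, hsm⟩ :=
        reach_of_dvd (d := charDegree (χ : G → ℂ)) ⟨χ, rfl⟩ hqd hs1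
      by_cases hsf : s ∣ charDegree (β : G → ℂ)
      · left
        exact hqs.trans (reach_of_dvd hβm hsf hrd)
      · right
        have hst : s = t := hkey s hs hs2 (by
          show ¬ s ∣ charDegree β'
          rw [hdegβ]; exact hsf)
        subst hst
        exact ⟨hsm, hqs⟩
  let F : Bool → ((degreeGraph G).induce (degreePrimes G)).ConnectedComponent := fun b =>
    if b then SimpleGraph.connectedComponentMk _ vr
    else if htt : t ∈ degreePrimes G then SimpleGraph.connectedComponentMk _ ⟨t, htt⟩ else SimpleGraph.connectedComponentMk _ vr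
  have hF : Function.Surjective F := by
    intro c
    induction c using SimpleGraph.ConnectedComponent.ind with
    | _ v =>
      rcases hall v with h1 | ⟨htt, h1⟩
      · refine ⟨true, ?_⟩
        show (if (true : Bool) = true then SimpleGraph.connectedComponentMk _ vr else _) = _
        rw [if_pos rfl]
        exact (SimpleGraph.ConnectedComponent.eq.2 h1).symm
      · refine ⟨false, ?_⟩
        have e : F false = SimpleGraph.connectedComponentMk _ ⟨t, htt⟩ := by
          simp only [F, Bool.false_eq_true, if_false, dif_pos htt]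
        rw [e]
        exact (SimpleGraph.ConnectedComponent.eq.2 h1).symm
  have := Nat.card_le_card_of_surjective F hF
  simpa using this

end CfsgLib.PD11
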