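import Cfsg.Agent.EqBase
import Cfsg.Agent.LibZas20
/-!
# Sharply 3-transitive groups with abelian two-point stabilizers: PGL(2,q) (helper16)
-/
set_option autoImplicit false
set_option linter.all false
open Cfsg MulAction OnePoint
open scoped Pointwise MatrixGroups
namespace CfsgLib.Zas

universe u v

/-- the algebra behind the swapping element -/
theorem swap_alg {F : Type} [Field F] (h2 : (2 : F) ≠ 0) (t : Fˣ → Fˣ) (hmul : ∀ x y, t (x * y) = t x * t y) (hpm : ∀ z : Fˣ, (z : F) * t z = 1 ∨ (z : F) * t z = -1)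
    (h1 : t 1 = 1) (hm1 : t (-1) = -1) (heq : ∀ y u v : Fˣ, (u : F) = 1 + y → (v : F) = 1 + t y → (t v : F) = 1 - t u) (z : Fˣ) : (z : F) * t z = 1 := by
  -- elements with value `-1`
  have key : ∀ y : Fˣ, (y : F) * t y = -1 → ∃ u : Fˣ, (u : F) = 1 + y ∧ (u : F) * t u = -1 ∧ (y : F) * y + y = 1 := by
    intro y hy
    have hy0 : (y : F) ≠ 0 := y.ne_zero
    have hu0 : (1 : F) + y ≠ 0 := by
      intro h
      have h3 : y = -1 := Units.ext (by push_cast; linear_combination h)
      rw [h3, hm1] at hy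
      push_cast at hy
      apply h2
      linear_combination hy
    have hw0 : (y : F) - 1 ≠ 0 := by
      intro h
      have h3 : y = 1 := Units.ext (by push_cast; linear_combination h)
      rw [h3, h1] at hy
      push_cast at hy
      apply h2
      linear_combination hy
    have hty : (t y : F) = -1 / y := by
      field_simp
      linear_combination hy
    have hv0 : (1 : F) + t y ≠ 0 := by
      rw [hty]
      intro h
      field_simp at h
      exact hw0 (by linear_combination h)
    obtain ⟨u, hu⟩ : ∃ u : Fˣ, (u : F) = 1 + y := ⟨Units.mk0 _ hu0, rfl⟩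
    obtain ⟨v, hv⟩ : ∃ v : Fˣ, (v : F) = 1 + t y := ⟨Units.mk0 _ hv0, rfl⟩
    obtain ⟨w, hw⟩ : ∃ w : Fˣ, (w : F) = y - 1 := ⟨Units.mk0 _ hw0, rfl⟩
    have hvy : v * y = w := by
      apply Units.ext
      push_cast
      rw [hv, hw]
      linear_combination hy
    have htv : (t v : F) * t y = t w := by
      rw [← hvy, hmul]
      push_cast; ring
    have hE := heq y u v hu hv
    have hwt := hpm w
    have hut := hpm u
    rw [hw] at hwt
    rw [hu] at hut
    -- `t v = - y t w`
    have htv' : (t v : F) = -(y * t w) := by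
      rw [← htv]
      linear_combination (t v : F) * hy
    rw [htv'] at hE
    -- multiply by `(y-1)(y+1)`
    rcases hut with hut | hut
    · exfalso
      have e1 : -((y : F) * (((y : F) - 1) * t w)) * (1 + y) = (y - 1) * ((1 + y) - (1 + y) * t u) := by linear_combination (y - 1) * (1 + y) * hE
      rw [hut] at e1
      rcases hwt with hwt | hwt
      · rw [hwt] at e1
        have e2 : (y : F) * (2 * y) = 0 := by linear_combination -e1
        rcases mul_eq_zero.mp e2 with h | h
        · exact hy0 h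
        · rcases mul_eq_zero.mp h with h | h
          · exact h2 h
          · exact hy0 h
      · rw [hwt] at e1
        have e2 : (y : F) * 2 = 0 := by linear_combination e1
        rcases mul_eq_zero.mp e2 with h | h
        · exact hy0 h
        · exact h2 h
    · have e1 : -((y : F) * (((y : F) - 1) * t w)) * (1 + y) = (y - 1) * ((1 + y) - (1 + y) * t u) := by linear_combination (y - 1) * (1 + y) * hE
      rw [hut] at e1
      rcases hwt with hwt | hwt
      · rw [hwt] at e1
        refine ⟨u, hu, by rw [hu]; exact hut, ?_⟩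
        have e2 : (2 : F) * ((y : F) * y + y - 1) = 0 := by linear_combination -e1
        rcases mul_eq_zero.mp e2 with h | h
        · exact absurd h h2
        · linear_combination h
      · exfalso
        rw [hwt] at e1
        apply h2
        linear_combination e1
  rcases hpm z with h | h
  · exact h
  · exfalso
    obtain ⟨u, hu, hut, hz⟩ := key z h
    obtain ⟨u', hu', -, hu2⟩ := key u hut
    rw [hu] at hu2
    have h3 : (2 : F) * (1 + z) = 0 := by linear_combination hu2 - hz
    rcases mul_eq_zero.mp h3 with h4 | h4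
    · exact h2 h4
    · rw [← hu] at h4
      exact u.ne_zero h4

namespace Coord
variable {G : Type u} {Ω : Type v} [Group G] [MulAction G Ω] [Finite G] [Fintype Ω] {a b : Ω} {H : Subgroup G} {F : Type} [Field F] [Fintype F]
  (C : Coord G Ω a b H F) (D : Dat G Ω a b H)
include D

theorem K_top (he : Nat.card (EE G a b) + 1 = Nat.card H) (z : Fˣ) : ∃ x : EE G a b, C.κ x = z := by
  classical
  have h1 : C.K = ⊤ := by
    apply Subgroup.eq_top_of_card_eq
    rw [C.card_K D, Nat.card_eq_fintype_card (α := Fˣ), Fintype.card_units, C.card_F D, ← he, Nat.add_sub_cancel]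
  exact C.mem_K.mp (h1 ▸ Subgroup.mem_top z)

theorem swap_t (he : Nat.card (EE G a b) + 1 = Nat.card H) (h2 : (2 : F) ≠ 0) {s : G} (hs : s • a = b ∧ s • b = a) (hs1 : s • C.pt 1 = C.pt 1) (z : Fˣ) :
    (z : F) * C.t D hs z = 1 := by
  have hab := D.hab
  have hpa : ∀ x : F, C.pt x ≠ a := C.pt_ne D
  have hpb : ∀ x : F, x ≠ 0 → C.pt x ≠ b := fun x hx h => hx (C.pt_inj D (h.trans (C.pt_zero D).symm))
  have free : ∀ (g : G) (x y : F), x ≠ 0 → g • a = a → g • b = b → g • C.pt x = C.pt x → g = 1 := fun g x _ hx h3 h4 h5 =>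
    D.sharp_free g a b (C.pt x) hab (hpa x).symm (hpb x hx).symm h3 h4 h5
  have hss : s * s = 1 := by
    apply free (s * s) 1 1 one_ne_zero
    · rw [mul_smul, hs.1, hs.2]
    · rw [mul_smul, hs.2, hs.1]
    · rw [mul_smul, hs1, hs1]
  have hsne : s ≠ 1 := by
    rintro rfl
    rw [one_smul] at hs
    exact hab hs.1
  have ht1 : C.t D hs 1 = 1 := C.t_eq D hs (by rw [Units.val_one, hs1])
  have htt := C.t_t D hs hss
  have hinj : Function.Injective (C.t D hs) := by
    intro x y h
    rw [← htt x, h, htt]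
  -- multiplicativity
  have hmulκ : ∀ (x : EE G a b) (z : Fˣ), ∃ y : EE G a b, (C.t D hs (C.κ.toHomUnits x * z) = C.κ.toHomUnits y * C.t D hs z) ∧ (y : G) = s * x * s⁻¹ := by
    intro x z
    have hsi : s⁻¹ • a = b ∧ s⁻¹ • b = a := ⟨by rw [inv_smul_eq_iff, hs.2], by rw [inv_smul_eq_iff, hs.1]⟩
    refine ⟨⟨s * x * s⁻¹, ?_, ?_⟩, ?_, rfl⟩
    · show (s * x * s⁻¹) • a = a
      rw [mul_smul, mul_smul, hsi.1, show (x : G) • b = b from x.2.2, hs.2]
    · show (s * x * s⁻¹) • b = b
      rw [mul_smul, mul_smul, hsi.2, show (x : G) • a = a from x.2.1, hs.1]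
    · apply C.t_eq D hs
      have h1 : C.pt ((C.κ.toHomUnits x * z : Fˣ) : F) = (x : G) • C.pt z := by rw [C.E_pt]; rfl
      have h2 : ∀ (y : EE G a b) (w : Fˣ), C.pt ((C.κ.toHomUnits y * w : Fˣ) : F) = (y : G) • C.pt w := by
        intro y w
        rw [C.E_pt]; rfl
      rw [h1, h2, ← C.t_spec D hs, ← mul_smul, ← mul_smul]
      congr 1
      show s * (x : G) = s * x * s⁻¹ * s
      group
  have hmul : ∀ x y, C.t D hs (x * y) = C.t D hs x * C.t D hs y := by
    intro x y
    obtain ⟨x', hx'⟩ := C.K_top D he x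
    have hx : x = C.κ.toHomUnits x' := Units.ext hx'.symm
    obtain ⟨y', hy1, hy'⟩ := hmulκ x' y
    obtain ⟨y'', hy2, hy''⟩ := hmulκ x' 1
    have h3 : y' = y'' := Subtype.ext (hy'.trans hy''.symm)
    rw [mul_one, ht1, mul_one] at hy2
    rw [hx, hy1, hy2, h3]
  have hm1 : C.t D hs (-1) = -1 := by
    have h3 : C.t D hs (-1) * C.t D hs (-1) = 1 := by rw [← hmul, neg_mul_neg, one_mul, ht1]
    have h4 : ((C.t D hs (-1) : Fˣ) : F) * ((C.t D hs (-1) : Fˣ) : F) = 1 := by rw [← Units.val_mul, h3, Units.val_one]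
    rcases mul_self_eq_one_iff.mp h4 with h5 | h5
    · exfalso
      have h6 : C.t D hs (-1) = C.t D hs 1 := by rw [ht1]; exact Units.ext h5
      have h7 := congrArg (fun z : Fˣ => (z : F)) (hinj h6)
      push_cast at h7
      apply h2
      linear_combination -h7
    · exact Units.ext (by rw [h5]; push_cast; rfl)
  have hneg1 : (-1 : F) ≠ 1 := by
    intro h
    apply h2
    linear_combination -h
  have hsm1 : s • C.pt (-1) = C.pt (-1) := by
    have := C.t_spec D hs (-1)
    rw [hm1] at this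
    push_cast at this
    exact this
  have hfix : ∀ w : Fˣ, C.t D hs w = w → w = 1 ∨ w = -1 := by
    intro w hw
    by_contra hcon
    push Not at hcon
    have h3 : s • C.pt (w : F) = C.pt w := by
      have := C.t_spec D hs w
      rwa [hw] at this
    apply hsne
    apply D.sharp_free s (C.pt 1) (C.pt (-1)) (C.pt (w : F)) _ _ _ hs1 hsm1 h3
    · intro h; exact hneg1 (C.pt_inj D h).symm
    · intro h; exact hcon.1 (Units.ext (C.pt_inj D h).symm)
    · intro h; exact hcon.2 (Units.ext (by push_cast; exact (C.pt_inj D h).symm))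
  have hpm : ∀ z : Fˣ, (z : F) * C.t D hs z = 1 ∨ (z : F) * C.t D hs z = -1 := by
    intro z
    rcases hfix (z * C.t D hs z) (by rw [hmul, htt, mul_comm]) with h | h
    · left
      rw [← Units.val_mul, h, Units.val_one]
    · right
      rw [← Units.val_mul, h]; push_cast; rfl
  refine swap_alg h2 (C.t D hs) hmul hpm ht1 hm1 ?_ z
  intro y u v hu hv
  obtain ⟨x₀, hx₀⟩ := C.K_top D he (-1)
  have hx₀' : C.κ x₀ = (-1 : F) := by rw [hx₀]; push_cast; rfl
  have hφa : ∀ x : F, C.φ x • a = a := C.φ_a D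
  have e1 : C.pt (0 : F) = b := C.pt_zero D
  have hgh : C.φ (-1) * (s * (C.φ 1 * (s * C.φ (-1)))) = (x₀ : G) * s := by
    have h3 : (((x₀ : G) * s)⁻¹ * (C.φ (-1) * (s * (C.φ 1 * (s * C.φ (-1)))))) = 1 := by
      apply free _ 1 1 one_ne_zero
      · have h4 : C.φ 1 • b = C.pt 1 := rfl
        rw [mul_smul, inv_smul_eq_iff, mul_smul, mul_smul, mul_smul, mul_smul, mul_smul, hφa, hs.1, h4, hs1, C.φ_pt, neg_add_cancel, e1]
        exact x₀.2.2.symm
      · rw [mul_smul, inv_smul_eq_iff, mul_smul, mul_smul, mul_smul, mul_smul, mul_smul, hs.2]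
        have h4 : C.φ (-1) • b = C.pt (-1) := rfl
        rw [h4, hsm1, C.φ_pt, add_neg_cancel, e1, hs.2, hφa]
        exact x₀.2.1.symm
      · rw [mul_smul, inv_smul_eq_iff, mul_smul, mul_smul, mul_smul, mul_smul, mul_smul, hs1, C.φ_pt, neg_add_cancel, e1, hs.2, hφa, hs.1, C.E_pt, hx₀']
        have h4 : C.φ (-1) • b = C.pt (-1) := rfl
        rw [h4, mul_one]
    exact (inv_mul_eq_one.mp h3).symm
  have h5 := congrArg (fun g : G => g • C.pt (u : F)) hgh
  simp only [mul_smul] at h5
  rw [C.φ_pt, hu] at h5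
  have e2 : (-1 : F) + (1 + y) = y := by ring
  rw [e2, C.t_spec D hs y, C.φ_pt, ← hv, C.t_spec D hs v, C.φ_pt, ← hu, C.t_spec D hs u, C.E_pt, hx₀'] at h5
  have h6 := C.pt_inj D h5
  linear_combination h6

theorem pgl (he : Nat.card (EE G a b) + 1 = Nat.card H) (hgood : letI := Classical.decEq F; ∀ g : G, CfsgLib.S3T8.Good (C.chart D) g) :
    Nonempty (G ≃* Matrix.ProjGenLinGroup (Fin 2) F) := by
  letI := Classical.decEq F
  obtain ⟨Φ, hΦ⟩ := C.exists_hom D hgood
  have hq := C.card_F D
  have hh := D.two_le_H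
  have hcard : Nat.card G = Nat.card PGL(2, F) := by
    rw [CfsgLib.Dk29.card_PGL, D.card_G, ← D.hcard, hq]
    have h3 : Nat.card H - 1 = Nat.card (EE G a b) := by omega
    rw [h3]; ring
  haveI : Finite PGL(2, F) := by
    apply Nat.finite_of_card_ne_zero
    rw [← hcard]
    exact Nat.card_pos.ne'
  exact ⟨MulEquiv.ofBijective Φ ((Nat.bijective_iff_injective_and_card Φ).mpr ⟨hΦ, hcard⟩)⟩

end Coord

namespace Dat
variable {G : Type u} {Ω : Type v} [Group G] [MulAction G Ω] [Finite G] [Fintype Ω] {a b : Ω} {H : Subgroup G} (D : Dat G Ω a b H)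
include D

theorem pgl_of_comm (he : Nat.card (EE G a b) + 1 = Nat.card H) (hE : ∀ x ∈ EE G a b, ∀ y ∈ EE G a b, x * y = y * x) (hodd : Odd (Nat.card H)) :
    ∃ (F : Type) (_ : Field F) (_ : Fintype F), Fintype.card F = Nat.card H ∧ Nonempty (G ≃* Matrix.ProjGenLinGroup (Fin 2) F) := by
  classical
  have hbig : Nat.card H - 1 ≤ 2 * Nat.card (EE G a b) := by omega
  obtain ⟨F, hF, hFF, ⟨C⟩⟩ := D.exists_coord (D.big_elem hbig).1 hbig hE
  refine ⟨F, hF, hFF, C.card_F D, ?_⟩
  have h2 : (2 : F) ≠ 0 := by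
    intro h
    have h3 : ringChar F = 2 := by
      haveI : CharP F 2 := CharTwo.of_one_ne_zero_of_two_eq_zero one_ne_zero h
      exact ringChar.eq F 2
    have h4 : Fintype.card F % 2 = 0 := (FiniteField.even_card_iff_char_two (F := F)).mp h3
    rw [C.card_F D] at h4
    obtain ⟨k, hk⟩ := hodd
    omega
  have hpb : C.pt (1 : F) ≠ b := fun h => one_ne_zero (C.pt_inj D (h.trans (C.pt_zero D).symm))
  obtain ⟨s, hsa, hsb, hs1⟩ := D.sharp he a b (C.pt 1) b a (C.pt 1) D.hab (C.pt_ne D 1).symm hpb.symm D.hab.symm hpb.symm (C.pt_ne D 1).symm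
  have hs : s • a = b ∧ s • b = a := ⟨hsa, hsb⟩
  refine C.pgl D he (C.good_all D hsa (C.good_s D hs (c := 1) one_ne_zero ?_))
  intro x hx
  have h3 := C.t_spec D hs (Units.mk0 x hx)
  rw [Units.val_mk0] at h3
  rw [h3]
  congr 1
  have h4 := C.swap_t D he h2 hs hs1 (Units.mk0 x hx)
  rw [Units.val_mk0] at h4
  rw [eq_div_iff hx, mul_comm]
  exact h4

end Dat
end CfsgLib.Zas
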