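import Cfsg.Agent.EqBase
import Cfsg.Agent.LibPG1
/-!
# Regular normal subgroups normalized by an abelian transitive group: semi-affine maps (helper16)
-/
set_option autoImplicit false
set_option linter.all false
open Cfsg MulAction
open scoped Pointwise
namespace CfsgLib.PG

universe u v

/-- groups of automorphisms with fixed field of order two -/
theorem card_fix {F : Type} [Field F] [Fintype F] (S : Subgroup (RingAut F)) (h : ∀ x : F, (∀ σ ∈ S, σ x = x) → x = 0 ∨ x = 1) : Fintype.card F = 2 ^ Nat.card S := by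
  classical
  haveI : Finite (RingAut F) := Finite.of_injective (fun σ : RingAut F => (σ : F → F)) (fun σ τ h => RingEquiv.ext fun x => congrFun h x)
  haveI : Fintype S := Fintype.ofFinite S
  haveI : FaithfulSMul S F := ⟨fun {s t} hst => Subtype.ext (RingEquiv.ext fun x => hst x)⟩
  have h1 := FixedPoints.finrank_eq_card S F
  haveI : Fintype (FixedPoints.subfield S F) := Fintype.ofFinite _
  have h2 := Module.card_eq_pow_finrank (K := FixedPoints.subfield S F) (V := F)
  have h3 : Fintype.card (FixedPoints.subfield S F) = 2 := by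
    rw [← Fintype.card_bool]
    apply Fintype.card_congr
    refine Equiv.ofBijective (fun x => decide ((x : F) = 1)) ⟨?_, ?_⟩
    · intro x y hxy
      have hx := h x (fun σ hσ => x.2 ⟨σ, hσ⟩)
      have hy := h y (fun σ hσ => y.2 ⟨σ, hσ⟩)
      apply Subtype.ext
      have hxy' : decide ((x : F) = 1) = decide ((y : F) = 1) := hxy
      rw [decide_eq_decide] at hxy'
      rcases hx with hx | hx
      · rcases hy with hy | hy
        · rw [hx, hy]
        · exact absurd (hx.symm.trans (hxy'.mpr hy)) zero_ne_one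
      · rw [hx, hxy'.mp hx]
    · intro b
      cases b
      · exact ⟨0, by simp⟩
      · exact ⟨1, by simp⟩
  rw [h3, h1] at h2
  rw [h2, Nat.card_eq_fintype_card]

/-- a regular normal subgroup `N`, an abelian normal subgroup `K` of the point stabilizer transitive on the remaining points -/
structure RN (G : Type u) (Ω : Type v) [Group G] [MulAction G Ω] (a : Ω) (N K : Subgroup G) : Prop where
  hN : N.Normal
  htr : ∀ c : Ω, ∃ n ∈ N, n • a = c
  hfree : ∀ n ∈ N, n • a = a → n = 1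
  hKa : ∀ x ∈ K, x • a = a
  hKc : ∀ x ∈ K, ∀ y ∈ K, x * y = y * x
  hKn : ∀ g : G, g • a = a → ∀ x ∈ K, g * x * g⁻¹ ∈ K
  hKt : ∀ c d : Ω, c ≠ a → d ≠ a → ∃ x ∈ K, x • c = d

namespace RN
variable {G : Type u} {Ω : Type v} [Group G] [MulAction G Ω] {a : Ω} {N K : Subgroup G} (R : RN G Ω a N K)
include R

theorem eq_of {n m : G} (hn : n ∈ N) (hm : m ∈ N) (h : n • a = m • a) : n = m := by
  have h1 := R.hfree (m⁻¹ * n) (N.mul_mem (N.inv_mem hm) hn) (by rw [mul_smul, h, inv_smul_smul])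
  exact (inv_mul_eq_one.mp h1).symm

theorem conj_act {g n : G} (hg : g • a = a) : (g * n * g⁻¹) • a = g • n • a := by
  have : g⁻¹ • a = a := by rw [inv_smul_eq_iff, hg]
  rw [mul_smul, mul_smul, this]

theorem conj_N {g n : G} (hn : n ∈ N) : g * n * g⁻¹ ∈ N := R.hN.conj_mem n hn g

/-- transitivity on the non-identity elements -/
theorem conj_tr {n m : G} (hn : n ∈ N) (hm : m ∈ N) (hn1 : n ≠ 1) (hm1 : m ≠ 1) : ∃ x ∈ K, x * n * x⁻¹ = m := by
  have h1 : n • a ≠ a := fun h => hn1 (R.hfree n hn h)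
  have h2 : m • a ≠ a := fun h => hm1 (R.hfree m hm h)
  obtain ⟨x, hx, hxc⟩ := R.hKt _ _ h1 h2
  exact ⟨x, hx, R.eq_of (R.conj_N hn) hm (by rw [R.conj_act (R.hKa x hx), hxc])⟩

theorem ncomm [Finite G] : ∀ x ∈ N, ∀ y ∈ N, x * y = y * x := by
  classical
  by_cases hN1 : N = ⊥
  · intro x hx y hy
    rw [hN1, Subgroup.mem_bot] at hx hy
    rw [hx, hy]
  haveI hnt : Nontrivial N := (Subgroup.nontrivial_iff_ne_bot N).mpr hN1
  obtain ⟨r, hr, hrd⟩ := Nat.exists_prime_and_dvd (Finite.one_lt_card_iff_nontrivial.mpr hnt).ne'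
  haveI := Fact.mk hr
  obtain ⟨⟨v, hv⟩, hvo⟩ := exists_prime_orderOf_dvd_card' (G := N) r hrd
  rw [Subgroup.orderOf_mk] at hvo
  have hv1 : v ≠ 1 := by
    rintro rfl
    rw [orderOf_one] at hvo
    exact hr.one_lt.ne hvo
  have hall : ∀ w ∈ N, w ^ r = 1 := by
    intro w hw
    by_cases hw1 : w = 1
    · rw [hw1, one_pow]
    obtain ⟨x, -, hx⟩ := R.conj_tr hv hw hv1 hw1
    rw [← hx, conj_pow, ← hvo, pow_orderOf_eq_one]; group
  have hp : IsPGroup r N := fun w => ⟨1, Subtype.ext (by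
    show (w : G) ^ r ^ 1 = 1
    rw [pow_one]; exact hall w w.2)⟩
  haveI := hp.center_nontrivial
  obtain ⟨⟨⟨z, hz⟩, hzc⟩, hz1⟩ := exists_ne (1 : Subgroup.center N)
  have hz1' : z ≠ 1 := fun h => hz1 (Subtype.ext (Subtype.ext h))
  have hzc' : ∀ y ∈ N, y * z = z * y := fun y hy => congrArg Subtype.val (Subgroup.mem_center_iff.mp hzc ⟨y, hy⟩)
  intro x hx y hy
  by_cases hx1 : x = 1
  · rw [hx1, one_mul, mul_one]
  obtain ⟨k, -, hk⟩ := R.conj_tr hz hx hz1' hx1
  have h1 := hzc' (k⁻¹ * y * k) (by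
    have := R.hN.conj_mem y hy k⁻¹
    rwa [inv_inv] at this)
  calc x * y = k * (z * (k⁻¹ * y * k)) * k⁻¹ := by rw [← hk]; group
    _ = k * ((k⁻¹ * y * k) * z) * k⁻¹ := by rw [h1]
    _ = y * x := by rw [← hk]; group

/-- the semi-affine form -/
theorem semi [Finite G] {b : Ω} (hb : b ≠ a) : ∃ (F : Type) (_ : Field F) (_ : Fintype F) (pt : F ≃ Ω), pt 0 = a ∧ pt 1 = b ∧
    ∀ g : G, ∃ (u : Fˣ) (w : F) (σ : F ≃+* F), ∀ z, g • pt z = pt (u * σ z + w) := by
  classical
  have hNc := R.ncomm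
  letI cg : CommGroup N := { (inferInstance : Group N) with mul_comm := fun x y => Subtype.ext (hNc x x.2 y y.2) }
  let ρ : K →* AddMonoid.End (Additive N) :=
    { toFun := fun x =>
        { toFun := fun u => Additive.ofMul ⟨(x : G) * (u.toMul : G) * (x : G)⁻¹, R.conj_N u.toMul.2⟩
          map_zero' := by
            apply Additive.toMul.injective
            apply Subtype.ext
            show (x : G) * 1 * (x : G)⁻¹ = 1
            group
          map_add' := fun u w => by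
            apply Additive.toMul.injective
            apply Subtype.ext
            show (x : G) * ((u.toMul : G) * (w.toMul : G)) * (x : G)⁻¹ = ((x : G) * u.toMul * (x : G)⁻¹) * ((x : G) * w.toMul * (x : G)⁻¹)
            group }
      map_one' := by
        apply AddMonoidHom.ext
        intro u
        apply Additive.toMul.injective
        apply Subtype.ext
        show (1 : G) * (u.toMul : G) * (1 : G)⁻¹ = u.toMul
        group
      map_mul' := fun x y => by
        apply AddMonoidHom.ext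
        intro u
        apply Additive.toMul.injective
        apply Subtype.ext
        show ((x : G) * y) * (u.toMul : G) * ((x : G) * y)⁻¹ = (x : G) * ((y : G) * u.toMul * (y : G)⁻¹) * (x : G)⁻¹
        group }
  obtain ⟨v, hv, hvb⟩ := R.htr b
  have hv1 : v ≠ 1 := by
    rintro rfl
    rw [one_smul] at hvb
    exact hb hvb.symm
  have hirr : ∀ B : AddSubgroup (Additive N), (∀ x : K, ∀ u ∈ B, ρ x u ∈ B) → B = ⊥ ∨ B = ⊤ := by
    intro B hB
    by_cases hB1 : B = ⊥
    · exact Or.inl hB1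
    right
    haveI := (AddSubgroup.nontrivial_iff_ne_bot B).mpr hB1
    obtain ⟨⟨u, huB⟩, hu0⟩ := exists_ne (0 : B)
    rw [eq_top_iff]
    intro w _
    by_cases hw : w = 0
    · rw [hw]; exact B.zero_mem
    have hu1 : ((u.toMul : N) : G) ≠ 1 := by
      intro h
      apply hu0
      apply Subtype.ext
      apply Additive.toMul.injective
      exact Subtype.ext h
    have hw1 : ((w.toMul : N) : G) ≠ 1 := by
      intro h
      apply hw
      apply Additive.toMul.injective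
      exact Subtype.ext h
    obtain ⟨x, hx, hxw⟩ := R.conj_tr u.toMul.2 w.toMul.2 hu1 hw1
    have h2 := hB ⟨x, hx⟩ u huB
    have h3 : ρ ⟨x, hx⟩ u = w := by
      apply Additive.toMul.injective
      exact Subtype.ext hxw
    rwa [h3] at h2
  obtain ⟨F, iF, iFt, φ, κ, hφ1, hφκ⟩ := CfsgLib.Zas.exists_field (A := Additive N) ρ (fun x y => Subtype.ext (R.hKc x x.2 y y.2)) hirr (Additive.ofMul ⟨v, hv⟩) (by
    intro h
    apply hv1
    have h1 : (⟨v, hv⟩ : N) = 1 := h
    exact congrArg (fun z : N => (z : G)) h1)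
  -- the group elements
  let P : F → G := fun z => ((φ z).toMul : N)
  have hPN : ∀ z, P z ∈ N := fun z => ((φ z).toMul : N).2
  have hPsurj : ∀ n ∈ N, ∃ z, P z = n := fun n hn => ⟨φ.symm (Additive.ofMul ⟨n, hn⟩), by
    show ((φ (φ.symm (Additive.ofMul ⟨n, hn⟩))).toMul : N) = n
    rw [AddEquiv.apply_symm_apply]; rfl⟩
  have hPinj : ∀ z w, P z = P w → z = w := fun z w h => φ.injective (Additive.toMul.injective (Subtype.ext h))
  have hPadd : ∀ z w, P (z + w) = P z * P w := fun z w => by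
    show (((φ (z + w)).toMul : N) : G) = _
    rw [map_add]; rfl
  have hP1 : P 1 = v := by
    show ((φ 1).toMul : N) = v
    rw [hφ1]; rfl
  have hP0 : P 0 = 1 := by
    have h1 := hPadd 0 0
    rw [add_zero] at h1
    exact (mul_eq_left.mp h1.symm)
  have hPκ : ∀ (x : K) z, (x : G) * P z * (x : G)⁻¹ = P (κ x * z) := fun x z => by
    show _ = (((φ (κ x * z)).toMul : N) : G)
    rw [← hφκ]; rfl
  have hκs : ∀ z : F, z ≠ 0 → ∃ x : K, κ x = z := by
    intro z hz
    have h1 : P z ≠ 1 := fun h => hz (hPinj z 0 (h.trans hP0.symm))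
    obtain ⟨x, hx, hxz⟩ := R.conj_tr hv (hPN z) hv1 h1
    refine ⟨⟨x, hx⟩, ?_⟩
    have h2 := hPκ ⟨x, hx⟩ 1
    rw [hP1, mul_one] at h2
    exact (hPinj _ _ (hxz.symm.trans h2)).symm
  let pt : F ≃ Ω := Equiv.ofBijective (fun z => P z • a) ⟨fun z w h => hPinj z w (R.eq_of (hPN z) (hPN w) h), fun c => by
    obtain ⟨n, hn, hnc⟩ := R.htr c
    obtain ⟨z, hz⟩ := hPsurj n hn
    exact ⟨z, by show P z • a = c; rw [hz, hnc]⟩⟩
  have hpt : ∀ z, pt z = P z • a := fun z => rfl
  refine ⟨F, iF, iFt, pt, by rw [hpt, hP0, one_smul], by rw [hpt, hP1, hvb], ?_⟩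
  intro g
  obtain ⟨w, hw⟩ : ∃ w, pt w = g • a := ⟨pt.symm (g • a), pt.apply_symm_apply _⟩
  obtain ⟨g₀, hg₀⟩ : ∃ g₀, g₀ = (P w)⁻¹ * g := ⟨_, rfl⟩
  have hg₀a : g₀ • a = a := by rw [hg₀, mul_smul, ← hw, hpt, inv_smul_smul]
  have hgg : g = P w * g₀ := by rw [hg₀, mul_inv_cancel_left]
  have hθ : ∀ z, ∃ z', P z' = g₀ * P z * g₀⁻¹ := fun z => hPsurj _ (R.conj_N (hPN z))
  choose θ hθ using hθ
  have hθadd : ∀ z z', θ (z + z') = θ z + θ z' := by
    intro z z'
    apply hPinj
    rw [hθ, hPadd, hPadd, hθ, hθ]; group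
  have hθinj : Function.Injective θ := by
    intro z z' h
    apply hPinj
    have h1 : g₀ * P z * g₀⁻¹ = g₀ * P z' * g₀⁻¹ := by rw [← hθ, ← hθ, h]
    exact mul_left_cancel (mul_right_cancel h1)
  have hθκ : ∀ (x : K) z, θ (κ x * z) = κ ⟨g₀ * x * g₀⁻¹, R.hKn g₀ hg₀a x x.2⟩ * θ z := by
    intro x z
    apply hPinj
    rw [hθ, ← hPκ, ← hPκ, hθ]
    show g₀ * ((x : G) * P z * (x : G)⁻¹) * g₀⁻¹ = (g₀ * x * g₀⁻¹) * (g₀ * P z * g₀⁻¹) * (g₀ * x * g₀⁻¹)⁻¹
    group
  have hθ0 : θ 0 = 0 := by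
    have h1 := hθadd 0 0
    rw [add_zero] at h1
    exact left_eq_add.mp h1
  have hu0 : θ 1 ≠ 0 := fun h => one_ne_zero (hθinj (h.trans hθ0.symm))
  have hmul : ∀ z z', θ (z * z') * θ 1 = θ z * θ z' := by
    intro z z'
    by_cases hz : z = 0
    · rw [hz, zero_mul, hθ0, zero_mul, zero_mul]
    obtain ⟨x, rfl⟩ := hκs z hz
    have h1 := hθκ x 1
    rw [mul_one] at h1
    rw [hθκ, h1]; ring
  let σ : F ≃+* F :=
    { Equiv.ofBijective (fun z => (θ 1)⁻¹ * θ z) (Finite.injective_iff_bijective.mp (fun z z' h => hθinj (mul_left_cancel₀ (inv_ne_zero hu0) h))) with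
      map_mul' := fun z z' => by
        show (θ 1)⁻¹ * θ (z * z') = ((θ 1)⁻¹ * θ z) * ((θ 1)⁻¹ * θ z')
        have h1 := hmul z z'
        field_simp
        linear_combination h1
      map_add' := fun z z' => by
        show (θ 1)⁻¹ * θ (z + z') = (θ 1)⁻¹ * θ z + (θ 1)⁻¹ * θ z'
        rw [hθadd]; ring }
  have hσ : ∀ z, θ z = θ 1 * σ z := by
    intro z
    show θ z = θ 1 * ((θ 1)⁻¹ * θ z)
    rw [mul_inv_cancel_left₀ hu0]
  refine ⟨Units.mk0 (θ 1) hu0, w, σ, ?_⟩
  intro z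
  rw [Units.val_mk0, ← hσ, hpt, hpt, add_comm, hPadd, hθ, hgg]
  rw [mul_smul, mul_smul]
  congr 1
  rw [R.conj_act hg₀a]

end RN
end CfsgLib.PG
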