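import Cfsg.Agent.EqBase
import Cfsg.Agent.LibPG2
import Cfsg.Agent.LibCNS5
import Cfsg.Agent.S0042
/-!
# Regular normal subgroups II (helper16): the degree is `2 ^ p`
-/
set_option autoImplicit false
set_option linter.all false
open Cfsg MulAction
open scoped Pointwise
namespace CfsgLib.PG

universe u v

theorem RN.card_E {G : Type u} {Ω : Type v} [Group G] [MulAction G Ω] {a : Ω} {N K : Subgroup G} (R : RN G Ω a N K) [Finite G] [Fintype Ω] [FaithfulSMul G Ω]
    {b : Ω} (hb : b ≠ a) (h3 : ∀ (g : G) (c : Ω), c ≠ a → c ≠ b → g • a = a → g • b = b → g • c = c → g = 1)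
    {E : Subgroup G} (hE : ∀ e ∈ E, e • a = a ∧ e • b = b) (hE1 : E ≠ ⊥) : Fintype.card Ω = 2 ^ Nat.card E := by
  classical
  obtain ⟨F, iF, iFF, pt, hpt0, hpt1, hsemi⟩ := R.semi hb
  have key : ∀ e ∈ E, ∃ σ : RingAut F, ∀ z, e • pt z = pt (σ z) := by
    intro e he
    obtain ⟨u, w, σ, h⟩ := hsemi e
    have h0 := h 0
    rw [map_zero σ, mul_zero, zero_add, hpt0, (hE e he).1, ← hpt0] at h0
    have hw : w = 0 := (pt.injective h0).symm
    have h1 := h 1
    rw [map_one σ, mul_one, hw, add_zero, hpt1, (hE e he).2, ← hpt1] at h1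
    have hu : (u : F) = 1 := (pt.injective h1).symm
    exact ⟨σ, fun z => by rw [h z, hu, hw, one_mul, add_zero]⟩
  let S : Subgroup (RingAut F) :=
    { carrier := {σ | ∃ e ∈ E, ∀ z, e • pt z = pt (σ z)}
      one_mem' := ⟨1, E.one_mem, fun z => by rw [one_smul]; rfl⟩
      mul_mem' := by
        rintro σ τ ⟨e, he, hσ⟩ ⟨f, hf, hτ⟩
        exact ⟨e * f, E.mul_mem he hf, fun z => by rw [mul_smul, hτ, hσ]; rfl⟩
      inv_mem' := by
        rintro σ ⟨e, he, hσ⟩
        refine ⟨e⁻¹, E.inv_mem he, fun z => ?_⟩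
        rw [inv_smul_eq_iff, hσ]
        congr 1
        exact (RingEquiv.apply_symm_apply σ z).symm }
  have hfixx : ∀ x : F, (∀ σ ∈ S, σ x = x) → x = 0 ∨ x = 1 := by
    intro x hx
    obtain ⟨e, he, he1⟩ := (Subgroup.bot_or_exists_ne_one E).resolve_left hE1
    obtain ⟨σ, hσ⟩ := key e he
    by_contra hcon
    push Not at hcon
    apply he1
    apply h3 e (pt x) (fun h => hcon.1 (pt.injective (h.trans hpt0.symm))) (fun h => hcon.2 (pt.injective (h.trans hpt1.symm))) (hE e he).1 (hE e he).2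
    rw [hσ, hx σ ⟨e, he, hσ⟩]
  have h5 := card_fix S hfixx
  have h6 : Nat.card E = Nat.card S := by
    have hk : ∀ e : E, ∃ σ : RingAut F, ∀ z, (e : G) • pt z = pt (σ z) := fun e => key e e.2
    choose Ψ hΨ using hk
    apply Nat.card_congr
    refine Equiv.ofBijective (fun e => (⟨Ψ e, e, e.2, hΨ e⟩ : S)) ⟨?_, ?_⟩
    · intro e f h
      have h7 : Ψ e = Ψ f := congrArg (fun s : S => (s : RingAut F)) h
      apply Subtype.ext
      apply FaithfulSMul.eq_of_smul_eq_smul (α := Ω)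
      intro c
      obtain ⟨z, rfl⟩ := pt.surjective c
      rw [hΨ, hΨ, h7]
    · rintro ⟨σ, e, he, hσ⟩
      refine ⟨⟨e, he⟩, Subtype.ext (RingEquiv.ext fun z => ?_)⟩
      apply pt.injective
      rw [← hσ]
      exact (hΨ ⟨e, he⟩ z).symm
  rw [h6, ← h5]
  exact (Fintype.card_congr pt).symm

/-- a doubly transitive group with a regular normal subgroup and involutory structure: elementary facts -/
theorem reg_facts {G : Type u} {Ω : Type v} [Group G] [MulAction G Ω] {a : Ω} {N : Subgroup G} (hN : N.Normal)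
    (hfree : ∀ n ∈ N, n • a = a → n = 1) {n m : G} (hn : n ∈ N) (hm : m ∈ N) {k : G} (hk : k • a = a) (h : k • n • a = m • a) : k * n * k⁻¹ = m := by
  have h1 : (k * n * k⁻¹) • a = m • a := by
    have : k⁻¹ • a = a := by rw [inv_smul_eq_iff, hk]
    rw [mul_smul, mul_smul, this, h]
  have h2 := hfree (m⁻¹ * (k * n * k⁻¹)) (N.mul_mem (N.inv_mem hm) (hN.conj_mem n hn k)) (by rw [mul_smul, h1, inv_smul_smul])
  exact (inv_mul_eq_one.mp h2).symm

theorem s0341 {G : Type u} {Ω : Type v} [Group G]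
    [MulAction G Ω] [Fintype Ω] [FaithfulSMul G Ω] (h2 : MulAction.IsMultiplyPretransitive G Ω 2)
    (h3 : ∀ g : G, ∀ a b c : Ω, a ≠ b → b ≠ c → a ≠ c → g • a = a → g • b = b → g • c = c → g = 1)
    (hfix : ∃ g : G, g ≠ 1 ∧ ∃ a b : Ω, a ≠ b ∧ g • a = a ∧ g • b = b)
    (N : Subgroup G) [hN : N.Normal] (hNt : MulAction.IsPretransitive N Ω)
    (hNr : ∀ a : Ω, MulAction.stabilizer N a = ⊥) :
    ∃ p : ℕ, p.Prime ∧ Fintype.card Ω = 2 ^ p := by
  classical
  haveI : Finite G := Finite.of_injective _ (MulAction.toPerm_injective (α := G) (β := Ω))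
  obtain ⟨g, hg1, a, b, hab, hga, hgb⟩ := hfix
  have htwo : ∀ {x y z w : Ω}, x ≠ y → z ≠ w → ∃ g : G, g • x = z ∧ g • y = w := by
    intro x y z w h h'
    exact (is_two_pretransitive_iff.mp h2) h h'
  have hfree : ∀ n ∈ N, ∀ c : Ω, n • c = c → n = 1 := by
    intro n hn c hc
    have h4 : (⟨n, hn⟩ : N) ∈ stabilizer N c := hc
    rw [hNr c] at h4
    exact congrArg Subtype.val (Subgroup.mem_bot.mp h4)
  have htr : ∀ c : Ω, ∃ n ∈ N, n • a = c := by
    intro c
    obtain ⟨⟨n, hn⟩, hnc⟩ := hNt.exists_smul_eq a c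
    exact ⟨n, hn, hnc⟩
  -- the normal subgroup is an elementary abelian 2-group
  obtain ⟨v, hv, hvb⟩ := htr b
  have hv1 : v ≠ 1 := by
    rintro rfl
    rw [one_smul] at hvb
    exact hab hvb
  have hgv : g * v * g⁻¹ = v := reg_facts hN (fun n hn => hfree n hn a) hv hv hga (by rw [hvb, hgb])
  have hvv : v * v = 1 := by
    by_contra hvv
    apply hg1
    apply h3 g a b ((v * v) • a) hab
    · intro h
      rw [mul_smul, hvb] at h
      exact hv1 (hfree v hv b h.symm)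
    · intro h
      exact hvv (hfree _ (N.mul_mem hv hv) a h.symm)
    · exact hga
    · exact hgb
    · have h4 : g * (v * v) = (v * v) * g := by
        calc g * (v * v) = (g * v * g⁻¹) * (g * v * g⁻¹) * g := by group
          _ = (v * v) * g := by rw [hgv]
      rw [← mul_smul, h4, mul_smul, hga]
  have hctr : ∀ n ∈ N, n ≠ 1 → ∀ m ∈ N, m ≠ 1 → ∃ k : G, k • a = a ∧ k * n * k⁻¹ = m := by
    intro n hn hn1 m hm hm1
    have e1 : a ≠ n • a := fun h => hn1 (hfree n hn a h.symm)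
    have e2 : a ≠ m • a := fun h => hm1 (hfree m hm a h.symm)
    obtain ⟨k, hka, hkb⟩ := htwo e1 e2
    exact ⟨k, hka, reg_facts hN (fun n hn => hfree n hn a) hn hm hka hkb⟩
  have hsq : ∀ n ∈ N, n * n = 1 := by
    intro n hn
    by_cases hn1 : n = 1
    · rw [hn1, mul_one]
    obtain ⟨k, -, hk⟩ := hctr v hv hv1 n hn hn1
    rw [← hk]
    calc k * v * k⁻¹ * (k * v * k⁻¹) = k * (v * v) * k⁻¹ := by group
      _ = 1 := by rw [hvv]; group
  have hΩN : Nat.card N = Fintype.card Ω := by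
    rw [← Nat.card_eq_fintype_card]
    refine Nat.card_congr (Equiv.ofBijective (fun n : N => (n : G) • a) ⟨?_, ?_⟩)
    · intro n m h
      have h4 := hfree ((m : G)⁻¹ * n) (N.mul_mem (N.inv_mem m.2) n.2) a (by
        have h5 : (n : G) • a = (m : G) • a := h
        rw [mul_smul, h5, inv_smul_smul])
      exact Subtype.ext (inv_mul_eq_one.mp h4).symm
    · intro c
      obtain ⟨n, hn, hnc⟩ := htr c
      exact ⟨⟨n, hn⟩, hnc⟩
  have hΩeven : Even (Fintype.card Ω) := by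
    rw [← hΩN, even_iff_two_dvd]
    have h4 := orderOf_dvd_natCard (⟨v, hv⟩ : N)
    rw [Subgroup.orderOf_mk] at h4
    haveI := Fact.mk Nat.prime_two
    rwa [orderOf_eq_prime (by rw [pow_two]; exact hvv) hv1] at h4
  -- the Frobenius complement
  let Γ := stabilizer G a
  let Hs : Subgroup Γ := (stabilizer G b).subgroupOf Γ
  have hmemΓ : ∀ x : G, x ∈ Γ ↔ x • a = a := fun x => Iff.rfl
  have hmemH : ∀ x : Γ, x ∈ Hs ↔ (x : G) • b = b := fun x => Iff.rfl
  have hmove : ∀ x : Γ, (x : G) • b ≠ a := fun x h => hab.symm (MulAction.injective (x : G) (h.trans (show (x : G) • a = a from x.2).symm))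
  have hFC : IsFrobeniusComplement Hs := by
    refine ⟨?_, ?_, ?_⟩
    · intro h
      have h4 : (⟨g, hga⟩ : Γ) ∈ Hs := hgb
      rw [h, Subgroup.mem_bot] at h4
      exact hg1 (congrArg Subtype.val h4)
    · intro h
      apply hg1
      apply FaithfulSMul.eq_of_smul_eq_smul (α := Ω)
      intro c
      rw [one_smul]
      by_cases hc : c = a
      · rw [hc, hga]
      · obtain ⟨k, hka, hkb⟩ := htwo hab (Ne.symm hc)
        have h4 : (⟨k, hka⟩ : Γ) ∈ Hs := h ▸ Subgroup.mem_top _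
        have h5 : k • b = b := h4
        rw [← hkb, h5, hgb]
    · intro k hk
      rw [eq_bot_iff]
      rintro x ⟨hx, hx2⟩
      have hx2' : x ∈ MulAut.conj k • Hs := hx2
      rw [Subgroup.mem_pointwise_smul_iff_inv_smul_mem] at hx2'
      have h5 : k⁻¹ * x * k ∈ Hs := by
        rw [← MulAut.conj_inv_apply]; exact hx2'
      have h6 : (x : G) • (k : G) • b = (k : G) • b := by
        have h7 : ((k⁻¹ * x * k : Γ) : G) • b = b := h5
        have h8 : ((k⁻¹ * x * k : Γ) : G) = (k : G)⁻¹ * x * k := rfl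
        rw [h8, mul_smul, mul_smul, inv_smul_eq_iff] at h7
        exact h7
      rw [Subgroup.mem_bot]
      apply Subtype.ext
      exact h3 x a b ((k : G) • b) hab (fun h => hk h.symm) (hmove k).symm x.2 hx h6
  obtain ⟨Kn, hKn1, hKnn, hKc⟩ := Cfsg.Agent.S0035.result Hs hFC
  have hKnil : Group.IsNilpotent Kn := by
    obtain ⟨Kn', h4, -, h5⟩ := Cfsg.Agent.S0042.result Hs hFC
    have h6 : Kn = Kn' := SetLike.coe_injective (hKn1.trans h4.symm)
    rw [h6]; exact h5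
  have hKinf : ∀ x ∈ Kn, x ∈ Hs → x = 1 := by
    intro x h4 h5
    have h6 : x ∈ Kn ⊓ Hs := ⟨h4, h5⟩
    rw [hKc.disjoint.eq_bot, Subgroup.mem_bot] at h6
    exact h6
  obtain ⟨K, hK⟩ : ∃ K, K = Kn.map Γ.subtype := ⟨_, rfl⟩
  have hKmem : ∀ x : Γ, (x : G) ∈ K ↔ x ∈ Kn := by
    intro x
    rw [hK, Subgroup.mem_map]
    constructor
    · rintro ⟨y, hy, hyx⟩
      have : y = x := Subtype.ext hyx
      rw [← this]; exact hy
    · intro h; exact ⟨x, h, rfl⟩
  have hKa : ∀ x ∈ K, x • a = a := by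
    intro x hx
    rw [hK] at hx
    obtain ⟨y, -, rfl⟩ := hx
    exact y.2
  have hKb : ∀ c : Ω, c ≠ a → ∃ x ∈ K, x • b = c := by
    intro c hc
    obtain ⟨k, hka, hkb⟩ := htwo hab (Ne.symm hc)
    obtain ⟨⟨⟨x, hx⟩, ⟨y, hy⟩⟩, hxy⟩ := hKc.2 (⟨k, hka⟩ : Γ)
    have hxy' : x * y = (⟨k, hka⟩ : Γ) := hxy
    have h4 : (x : G) * (y : G) = k := congrArg Subtype.val hxy'
    have h5 : (y : G) • b = b := hy
    exact ⟨x, (hKmem x).mpr hx, by rw [← hkb, ← h4, mul_smul, h5]⟩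
  have hKfree : ∀ x ∈ K, ∀ c : Ω, c ≠ a → x • c = c → x = 1 := by
    intro x hx c hc hxc
    obtain ⟨l, hl, hlb⟩ := hKb c hc
    have h4 : l⁻¹ * x * l ∈ K := K.mul_mem (K.mul_mem (K.inv_mem hl) hx) hl
    have h5 : (⟨l⁻¹ * x * l, hKa _ h4⟩ : Γ) = 1 := by
      apply hKinf _ ((hKmem _).mp h4)
      show (l⁻¹ * x * l) • b = b
      rw [mul_smul, mul_smul, hlb, hxc, ← hlb, inv_smul_smul]
    have h6 : l⁻¹ * x * l = 1 := congrArg Subtype.val h5
    have h7 : x = l * (l⁻¹ * x * l) * l⁻¹ := by group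
    rw [h7, h6]; group
  have hKcard : Nat.card K = Fintype.card Ω - 1 := by
    have h4 : Fintype.card {c : Ω // c ≠ a} = Fintype.card Ω - 1 := by
      rw [Fintype.card_subtype_compl, Fintype.card_subtype_eq]
    rw [← h4, ← Nat.card_eq_fintype_card]
    refine Nat.card_congr (Equiv.ofBijective (fun x : K => (⟨(x : G) • b, fun h => hab.symm (MulAction.injective (x : G) (h.trans (hKa x x.2).symm))⟩ : {c : Ω // c ≠ a})) ⟨?_, ?_⟩)
    · intro x y h
      have h5 : (x : G) • b = (y : G) • b := congrArg (fun c : {c : Ω // c ≠ a} => c.1) h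
      have h6 := hKfree ((y : G)⁻¹ * x) (K.mul_mem (K.inv_mem y.2) x.2) b hab.symm (by rw [mul_smul, h5, inv_smul_smul])
      exact Subtype.ext (inv_mul_eq_one.mp h6).symm
    · rintro ⟨c, hc⟩
      obtain ⟨x, hx, hxc⟩ := hKb c hc
      exact ⟨⟨x, hx⟩, Subtype.ext hxc⟩
  have hKodd : Odd (Nat.card K) := by
    rw [hKcard]
    obtain ⟨m, hm⟩ := hΩeven
    have : 0 < Fintype.card Ω := Fintype.card_pos_iff.mpr ⟨a⟩
    exact ⟨m - 1, by omega⟩
  have hN1 : N ≠ ⊥ := by
    intro h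
    rw [h, Subgroup.mem_bot] at hv
    exact hv1 hv
  have hKF : CfsgLib.H6Zas.IsFpf K := CfsgLib.CNS.fpf_conj hN hN1 (by
    intro t ht ht1 w hw hw1 h
    apply ht1
    apply hKfree t ht (w • a) (fun h' => hw1 (hfree w hw a h'))
    rw [← mul_smul, h, mul_smul, hKa t ht])
  haveI hKnil' : Group.IsNilpotent K := by
    rw [hK]
    exact Group.nilpotent_of_mulEquiv (Kn.equivMapOfInjective _ Γ.subtype_injective)
  have hKcyc := CfsgLib.CNS.cyclic_of_nil_odd hKF hKodd
  have hKcomm := CfsgLib.CNS.comm_of_cyclic hKcyc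
  have R : RN G Ω a N K :=
    { hN := hN, htr := htr, hfree := fun n hn => hfree n hn a, hKa := hKa, hKc := hKcomm
      hKn := by
        intro k hk x hx
        have h4 : (⟨k, hk⟩ : Γ) * ⟨x, hKa x hx⟩ * (⟨k, hk⟩ : Γ)⁻¹ ∈ Kn := hKnn.conj_mem _ ((hKmem _).mp hx) _
        exact (hKmem _).mpr h4
      hKt := by
        intro c d hc hd
        obtain ⟨x, hx, hxc⟩ := hKb c hc
        obtain ⟨y, hy, hyd⟩ := hKb d hd
        exact ⟨y * x⁻¹, K.mul_mem hy (K.inv_mem hx), by rw [mul_smul, ← hxc, inv_smul_smul, hyd]⟩ }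
  obtain ⟨r, k, hr, hrk⟩ := CfsgLib.CNOdd.exists_pow_prime hg1
  have hga' : ∀ k : ℕ, g ^ k • a = a ∧ g ^ k • b = b := fun k => by
    have h4 : g ^ k ∈ stabilizer G a ⊓ stabilizer G b := Subgroup.pow_mem (stabilizer G a ⊓ stabilizer G b) (show g ∈ stabilizer G a ⊓ stabilizer G b from ⟨hga, hgb⟩) k
    exact ⟨h4.1, h4.2⟩
  refine ⟨r, hr, ?_⟩
  have h4 := R.card_E hab.symm (fun g c hca hcb h5 h6 h7 => h3 g a b c hab hcb.symm hca.symm h5 h6 h7) (E := Subgroup.zpowers (g ^ k)) (by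
    intro e he
    have h5 : Subgroup.zpowers (g ^ k) ≤ stabilizer G a ⊓ stabilizer G b := by
      rw [Subgroup.zpowers_le]
      exact ⟨(hga' k).1, (hga' k).2⟩
    exact ⟨(h5 he).1, (h5 he).2⟩) (by
    intro h
    rw [Subgroup.zpowers_eq_bot] at h
    rw [h, orderOf_one] at hrk
    exact hr.one_lt.ne hrk)
  rw [h4, Nat.card_zpowers, hrk]

end CfsgLib.PG
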