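import Cfsg.Agent.EqBase
import Cfsg.Agent.LibPG3
/-!
# Sharply 3-transitive groups of degree `p ^ f + 1`, `f` odd (helper16): two-point stabilizers are abelian
-/
set_option autoImplicit false
set_option linter.all false
open Cfsg MulAction
open scoped Pointwise
namespace CfsgLib.PG

universe u v

/-- commutativity from an involutory automorphism -/
theorem comm_of_inv {E : Type u} [Group E] [Finite E] (hev : Even (Nat.card E)) (θ : E ≃* E) (hθθ : ∀ x, θ (θ x) = x)
    (hfix : Nat.card (MonoidHom.eqLocus θ.toMonoidHom (MonoidHom.id E)) ≤ 2)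
    (hB : ∀ x y : E, y * x * y⁻¹ = x⁻¹ → x * x = 1) (P : Sylow 2 E) (hP : IsCyclic (P : Subgroup E)) : ∀ x y : E, x * y = y * x := by
  classical
  haveI := Fact.mk Nat.prime_two
  have hmin : (Nat.card E).minFac = 2 := (Nat.minFac_eq_two_iff _).mpr (even_iff_two_dvd.mp hev)
  have hc := hP.normalizer_le_centralizer hmin
  obtain ⟨f, hf⟩ : ∃ f : E →* (P : Subgroup E), f = MonoidHom.transferSylow P hc := ⟨_, rfl⟩
  have hnot : ¬ 2 ∣ Nat.card f.ker := by rw [hf]; exact MonoidHom.not_dvd_card_ker_transferSylow P hc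
  have hKodd : ∀ k ∈ f.ker, Odd (orderOf k) := by
    intro k hk
    rw [← Nat.not_even_iff_odd, even_iff_two_dvd]
    intro h
    apply hnot
    have h1 := orderOf_dvd_natCard (⟨k, hk⟩ : f.ker)
    rw [Subgroup.orderOf_mk] at h1
    exact h.trans h1
  have hmemK : ∀ x : E, Odd (orderOf x) → x ∈ f.ker := by
    intro x hx
    rw [MonoidHom.mem_ker]
    have h1 : orderOf (f x) ∣ orderOf x := orderOf_map_dvd f x
    obtain ⟨k, hk⟩ := CfsgLib.CNOdd.orderOf_mem_pgroup Nat.prime_two P.isPGroup' (f x).2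
    rw [Subgroup.orderOf_coe] at hk
    rw [← orderOf_eq_one_iff, hk]
    rcases Nat.eq_zero_or_pos k with h0 | h0
    · rw [h0, pow_zero]
    · exfalso
      have h2 : 2 ∣ orderOf x := ((dvd_pow_self 2 h0.ne').trans (hk ▸ dvd_rfl)).trans h1
      rw [← Nat.not_even_iff_odd, even_iff_two_dvd] at hx
      exact hx h2
  have hfix1 : ∀ x : E, θ x = x → Odd (orderOf x) → x = 1 := by
    intro x hx hodd
    have h1 : orderOf x ∣ Nat.card (MonoidHom.eqLocus θ.toMonoidHom (MonoidHom.id E)) := by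
      have h0 := orderOf_dvd_natCard (⟨x, hx⟩ : MonoidHom.eqLocus θ.toMonoidHom (MonoidHom.id E))
      rw [← Subgroup.orderOf_coe] at h0
      exact h0
    have h2 : orderOf x ≤ 2 := (Nat.le_of_dvd Nat.card_pos h1).trans hfix
    have h3 : 0 < orderOf x := orderOf_pos x
    rw [← orderOf_eq_one_iff]
    obtain ⟨m, hm⟩ := hodd
    omega
  have hθo : ∀ x, orderOf (θ x) = orderOf x := fun x => MulEquiv.orderOf_eq θ x
  have hθK : ∀ x ∈ f.ker, θ x ∈ f.ker := fun x hx => hmemK _ (by rw [hθo]; exact hKodd x hx)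
  -- `θ` inverts the kernel
  have hinv : ∀ k ∈ f.ker, θ k = k⁻¹ := by
    let ψ : f.ker → f.ker := fun x => ⟨(x : E)⁻¹ * θ x, f.ker.mul_mem (f.ker.inv_mem x.2) (hθK x x.2)⟩
    have hψ : Function.Injective ψ := by
      rintro ⟨x, hx⟩ ⟨y, hy⟩ h
      have h1 : x⁻¹ * θ x = y⁻¹ * θ y := congrArg Subtype.val h
      have h2 : θ (y * x⁻¹) = y * x⁻¹ := by
        rw [map_mul, map_inv]
        calc θ y * (θ x)⁻¹ = y * (y⁻¹ * θ y) * (θ x)⁻¹ := by group
          _ = y * (x⁻¹ * θ x) * (θ x)⁻¹ := by rw [h1]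
          _ = y * x⁻¹ := by group
      have h3 := hfix1 _ h2 (hKodd _ (f.ker.mul_mem hy (f.ker.inv_mem hx)))
      exact Subtype.ext (mul_inv_eq_one.mp h3).symm
    intro k hk
    obtain ⟨⟨x, hx⟩, h⟩ := Finite.injective_iff_surjective.mp hψ ⟨k, hk⟩
    have h1 : x⁻¹ * θ x = k := congrArg Subtype.val h
    rw [← h1, map_mul, map_inv, hθθ]; group
  -- `y⁻¹ θ y` centralizes the kernel
  have hcen : ∀ y : E, y⁻¹ * θ y ∈ Subgroup.centralizer (f.ker : Set E) := by
    intro y
    rw [Subgroup.mem_centralizer_iff]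
    intro k hk
    have hn : y * k * y⁻¹ ∈ f.ker := (inferInstance : f.ker.Normal).conj_mem k hk y
    have h1 := hinv _ hn
    rw [map_mul, map_mul, map_inv, hinv k hk] at h1
    have h2 : θ y * k⁻¹ * (θ y)⁻¹ = y * k⁻¹ * y⁻¹ := by rw [h1]; group
    have h3 : θ y * k * (θ y)⁻¹ = y * k * y⁻¹ := by
      have := congrArg (fun z => z⁻¹) h2
      simp only [mul_inv_rev, inv_inv] at this
      calc θ y * k * (θ y)⁻¹ = θ y * (k * (θ y)⁻¹) := by group
        _ = y * (k * y⁻¹) := this
        _ = y * k * y⁻¹ := by group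
    calc k * (y⁻¹ * θ y) = y⁻¹ * (y * k * y⁻¹) * θ y := by group
      _ = y⁻¹ * (θ y * k * (θ y)⁻¹) * θ y := by rw [h3]
      _ = y⁻¹ * θ y * k := by group
  -- counting
  haveI := Fintype.ofFinite E
  have hcardE : Nat.card E ≤ Nat.card (Subgroup.centralizer (f.ker : Set E)) * 2 := by
    haveI := Fintype.ofFinite (Subgroup.centralizer (f.ker : Set E))
    let g : E → Subgroup.centralizer (f.ker : Set E) := fun y => ⟨y⁻¹ * θ y, hcen y⟩
    have e := Equiv.sigmaFiberEquiv g
    rw [← Nat.card_congr e, Nat.card_sigma]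
    have h1 : ∀ c, Nat.card {y // g y = c} ≤ 2 := by
      intro c
      by_cases hne : Nonempty {y // g y = c}
      · obtain ⟨y₀, hy₀⟩ := hne
        refine le_trans (Nat.card_le_card_of_injective (fun y : {y // g y = c} => (⟨y₀ * (y : E)⁻¹, ?_⟩ : MonoidHom.eqLocus θ.toMonoidHom (MonoidHom.id E))) ?_) hfix
        · have h2 : y₀⁻¹ * θ y₀ = (y : E)⁻¹ * θ y := congrArg Subtype.val (hy₀.trans y.2.symm)
          show θ (y₀ * (y : E)⁻¹) = y₀ * (y : E)⁻¹
          rw [map_mul, map_inv]
          calc θ y₀ * (θ y)⁻¹ = y₀ * (y₀⁻¹ * θ y₀) * (θ y)⁻¹ := by group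
            _ = y₀ * ((y : E)⁻¹ * θ y) * (θ y)⁻¹ := by rw [h2]
            _ = y₀ * (y : E)⁻¹ := by group
        · intro y y' h
          have h2 : y₀ * (y : E)⁻¹ = y₀ * (y' : E)⁻¹ := congrArg (fun z : MonoidHom.eqLocus θ.toMonoidHom (MonoidHom.id E) => (z : E)) h
          exact Subtype.ext (inv_injective (mul_left_cancel h2))
      · rw [not_nonempty_iff] at hne
        rw [Nat.card_of_isEmpty]
        exact Nat.zero_le _
    calc ∑ c, Nat.card {y // g y = c} ≤ ∑ c : Subgroup.centralizer (f.ker : Set E), 2 := Finset.sum_le_sum fun c _ => h1 c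
      _ = Nat.card (Subgroup.centralizer (f.ker : Set E)) * 2 := by
        rw [Finset.sum_const, smul_eq_mul, Finset.card_univ, Nat.card_eq_fintype_card]
  have hsq : ∀ y : E, y * y ∈ Subgroup.centralizer (f.ker : Set E) := by
    intro y
    have h1 := Subgroup.card_mul_index (Subgroup.centralizer (f.ker : Set E))
    have h2 : (Subgroup.centralizer (f.ker : Set E)).index ≤ 2 := by
      rw [← h1] at hcardE
      exact Nat.le_of_mul_le_mul_left hcardE Nat.card_pos
    have h3 : 0 < (Subgroup.centralizer (f.ker : Set E)).index := Nat.pos_of_ne_zero Subgroup.index_ne_zero_of_finite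
    rcases (by omega : (Subgroup.centralizer (f.ker : Set E)).index = 1 ∨ (Subgroup.centralizer (f.ker : Set E)).index = 2) with h4 | h4
    · rw [Subgroup.index_eq_one.mp h4]; trivial
    · exact Subgroup.mul_self_mem_of_index_two h4 y
  have hcenter : f.ker ≤ Subgroup.center E := by
    intro k hk
    rw [Subgroup.mem_center_iff]
    intro y
    have hn : y * k * y⁻¹ ∈ f.ker := (inferInstance : f.ker.Normal).conj_mem k hk y
    have hk' : k⁻¹ * (y * k * y⁻¹) ∈ f.ker := f.ker.mul_mem (f.ker.inv_mem hk) hn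
    have h1 : y * (k⁻¹ * (y * k * y⁻¹)) * y⁻¹ = (k⁻¹ * (y * k * y⁻¹))⁻¹ := by
      have h2 := Subgroup.mem_centralizer_iff.mp (hsq y) k hk
      calc y * (k⁻¹ * (y * k * y⁻¹)) * y⁻¹ = (y * k⁻¹ * y⁻¹) * ((y * y) * k) * (y * y)⁻¹ := by group
        _ = (y * k⁻¹ * y⁻¹) * (k * (y * y)) * (y * y)⁻¹ := by rw [h2]
        _ = (k⁻¹ * (y * k * y⁻¹))⁻¹ := by group
    have h2 := hB _ _ h1
    have h3 : k⁻¹ * (y * k * y⁻¹) = 1 := by
      have h4 : orderOf (k⁻¹ * (y * k * y⁻¹)) ∣ 2 := orderOf_dvd_of_pow_eq_one (by rw [pow_two]; exact h2)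
      rw [← orderOf_eq_one_iff]
      obtain ⟨m, hm⟩ := hKodd _ hk'
      have h5 := Nat.le_of_dvd (by norm_num) h4
      omega
    rw [inv_mul_eq_one] at h3
    calc y * k = y * k * y⁻¹ * y := by group
      _ = k * y := by rw [← h3]
  exact commutative_of_cyclic_center_quotient f hcenter

/-- real elements in odd dimension -/
theorem real_sq {p f : ℕ} [hp : Fact p.Prime] (hp2 : p ≠ 2) (hf : Odd f) {V : Type u} [AddCommGroup V] [Module (ZMod p) V] [Finite V] (hcard : Nat.card V = p ^ f)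
    {E : Type v} [Group E] (ρ : E →* AddMonoid.End V) (hfpf : ∀ g : E, g ≠ 1 → ∀ v : V, ρ g v = v → v = 0) {x y : E} (hxy : y * x * y⁻¹ = x⁻¹) : x * x = 1 := by
  by_contra hxx
  let L : E → (V →ₗ[ZMod p] V) := fun g => AddMonoidHom.toZModLinearMap p (ρ g : V →+ V)
  have hLv : ∀ (g : E) (v : V), L g v = ρ g v := fun g v => rfl
  have hLmul : ∀ g h : E, L g * L h = L (g * h) := by
    intro g h
    apply LinearMap.ext
    intro v
    rw [Module.End.mul_apply, hLv, hLv, hLv, map_mul]; rfl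
  have hL1 : L 1 = 1 := by
    apply LinearMap.ext
    intro v
    rw [hLv, map_one]; rfl
  obtain ⟨w, hw⟩ : ∃ w, w = L x - L x⁻¹ := ⟨_, rfl⟩
  have e1 : L y * w = -(w * L y) := by
    have h1 : y * x = x⁻¹ * y := by rw [← hxy]; group
    have h2 : y * x⁻¹ = x * y := by
      have h3 := congrArg (fun z => z⁻¹) hxy
      simp only [mul_inv_rev, inv_inv] at h3
      calc y * x⁻¹ = y * (x⁻¹ * y⁻¹) * y := by group
        _ = x * y := by rw [h3]
    rw [hw, mul_sub, sub_mul, hLmul, hLmul, hLmul, hLmul, h1, h2, neg_sub]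
  have hfin : Module.finrank (ZMod p) V = f := by
    haveI := Fintype.ofFinite V
    have h1 := Module.card_eq_pow_finrank (K := ZMod p) (V := V)
    rw [ZMod.card, ← Nat.card_eq_fintype_card, hcard] at h1
    exact (Nat.pow_right_injective hp.out.two_le h1).symm
  have hdety : LinearMap.det (L y) ≠ 0 := by
    have h1 : L y * L y⁻¹ = 1 := by rw [hLmul, mul_inv_cancel, hL1]
    intro h
    have h2 := congrArg LinearMap.det h1
    rw [map_mul, h, zero_mul, map_one] at h2
    exact zero_ne_one h2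
  have hdet : LinearMap.det w = 0 := by
    have h1 := congrArg LinearMap.det e1
    have h2 : -(w * L y) = (-1 : ZMod p) • (w * L y) := by rw [neg_smul, one_smul]
    rw [h2, LinearMap.det_smul, hfin, hf.neg_one_pow, map_mul, map_mul] at h1
    have h3 : (2 : ZMod p) * (LinearMap.det (L y) * LinearMap.det w) = 0 := by linear_combination h1
    have h4 : (2 : ZMod p) ≠ 0 := by
      intro h
      have h5 : ((2 : ℕ) : ZMod p) = 0 := by exact_mod_cast h
      rw [ZMod.natCast_eq_zero_iff] at h5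
      exact hp2 ((Nat.prime_dvd_prime_iff_eq hp.out Nat.prime_two).mp h5)
    rcases mul_eq_zero.mp h3 with h5 | h5
    · exact absurd h5 h4
    · exact (mul_eq_zero.mp h5).resolve_left hdety
  have hker := LinearMap.bot_lt_ker_of_det_eq_zero hdet
  obtain ⟨v, hv, hv0⟩ := (Submodule.ne_bot_iff _).mp hker.ne'
  rw [LinearMap.mem_ker, hw, LinearMap.sub_apply, sub_eq_zero, hLv, hLv] at hv
  apply hv0
  apply hfpf (x * x) hxx
  rw [map_mul]
  show ρ x (ρ x v) = v
  rw [hv]
  show (ρ x * ρ x⁻¹) v = v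
  rw [← map_mul, mul_inv_cancel, map_one]; rfl

end CfsgLib.PG

namespace CfsgLib.Zas

universe u v

namespace Dat
variable {G : Type u} {Ω : Type v} [Group G] [MulAction G Ω] [Finite G] [Fintype Ω] {a b : Ω} {H : Subgroup G} (D : Dat G Ω a b H)
include D

/-- real elements of the two-point stabilizer are involutions -/
theorem real_sq {p f : ℕ} (hp : p.Prime) (hp2 : p ≠ 2) (hf : Odd f) (hc : ∀ x ∈ H, ∀ y ∈ H, x * y = y * x) (hpow : ∀ u ∈ H, u ^ p = 1)
    (hcard : Nat.card H = p ^ f) {x y : EE G a b} (hxy : y * x * y⁻¹ = x⁻¹) : x * x = 1 := by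
  classical
  haveI := Fact.mk hp
  letI cg : CommGroup H := { (inferInstance : Group H) with mul_comm := fun x y => Subtype.ext (hc x x.2 y y.2) }
  letI : Module (ZMod p) (Additive H) := AddCommGroup.zmodModule (fun v => by
    apply Additive.toMul.injective
    apply Subtype.ext
    show ((v.toMul ^ p : H) : G) = 1
    rw [Subgroup.coe_pow]; exact hpow _ v.toMul.2)
  let ρ : EE G a b →* AddMonoid.End (Additive H) :=
    { toFun := fun x =>
        { toFun := fun u => Additive.ofMul ⟨(x : G) * (u.toMul : G) * (x : G)⁻¹, D.conj_H x.2.1 u.toMul.2⟩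
          map_zero' := by
            apply Additive.toMul.injective
            apply Subtype.ext
            show (x : G) * 1 * (x : G)⁻¹ = 1
            group
          map_add' := fun u w => by
            apply Additive.toMul.injective
            apply Subtype.ext
            show (x : G) * ((u.toMul : G) * (w.toMul : G)) * (x : G)⁻¹ = ((x : G) * u.toMul * (x : G)⁻¹) * ((x : G) * w.toMul * (x : G)⁻¹)
            group }
      map_one' := by
        apply AddMonoidHom.ext
        intro u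
        apply Additive.toMul.injective
        apply Subtype.ext
        show (1 : G) * (u.toMul : G) * (1 : G)⁻¹ = u.toMul
        group
      map_mul' := fun x y => by
        apply AddMonoidHom.ext
        intro u
        apply Additive.toMul.injective
        apply Subtype.ext
        show ((x : G) * y) * (u.toMul : G) * ((x : G) * y)⁻¹ = (x : G) * ((y : G) * u.toMul * (y : G)⁻¹) * (x : G)⁻¹
        group }
  refine CfsgLib.PG.real_sq hp2 hf (V := Additive H) hcard ρ ?_ hxy
  intro g hg v hv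
  have h1 : (g : G) * v.toMul * (g : G)⁻¹ = v.toMul := by
    have h2 := congrArg (fun z : Additive H => ((z.toMul : H) : G)) hv
    exact h2
  apply Additive.toMul.injective
  apply Subtype.ext
  show ((v.toMul : H) : G) = 1
  apply D.fpf (x := (g : G)) g.2.1 (D.not_mem_H g.2 (fun h => hg (Subtype.ext h))) v.toMul.2
  calc (g : G) * v.toMul = (g : G) * v.toMul * (g : G)⁻¹ * g := by group
    _ = v.toMul * g := by rw [h1]

/-- the two-point stabilizer is a fixed point free group -/
theorem EE_isFpf : CfsgLib.H6Zas.IsFpf (EE G a b) := by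
  classical
  haveI : Nontrivial H := (Subgroup.nontrivial_iff_ne_bot H).mpr D.H_ne_bot
  let φ : EE G a b →* MulAut H :=
    { toFun := fun g =>
        { toFun := fun u => ⟨(g : G) * u * (g : G)⁻¹, D.conj_H g.2.1 u.2⟩
          invFun := fun u => ⟨(g : G)⁻¹ * u * ((g : G)⁻¹)⁻¹, D.conj_H (by rw [inv_smul_eq_iff]; exact g.2.1.symm) u.2⟩
          left_inv := fun u => Subtype.ext (by show (g : G)⁻¹ * ((g : G) * u * (g : G)⁻¹) * ((g : G)⁻¹)⁻¹ = u; group)
          right_inv := fun u => Subtype.ext (by show (g : G) * ((g : G)⁻¹ * u * ((g : G)⁻¹)⁻¹) * (g : G)⁻¹ = u; group)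
          map_mul' := fun u w => Subtype.ext (by show (g : G) * (u * w) * (g : G)⁻¹ = ((g : G) * u * (g : G)⁻¹) * ((g : G) * w * (g : G)⁻¹); group) }
      map_one' := by
        apply MulEquiv.ext
        intro u
        exact Subtype.ext (by show (1 : G) * u * (1 : G)⁻¹ = u; group)
      map_mul' := fun g h => by
        apply MulEquiv.ext
        intro u
        exact Subtype.ext (by show ((g : G) * h) * u * ((g : G) * h)⁻¹ = (g : G) * ((h : G) * u * (h : G)⁻¹) * (g : G)⁻¹; group) }
  refine CfsgLib.H6Zas.isFpf_of_action φ ?_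
  intro g hg v hv
  have h1 : (g : G) * v * (g : G)⁻¹ = v := congrArg Subtype.val hv
  apply Subtype.ext
  apply D.fpf (x := (g : G)) g.2.1 (D.not_mem_H g.2 (fun h => hg (Subtype.ext h))) v.2
  calc (g : G) * v = (g : G) * v * (g : G)⁻¹ * g := by group
    _ = v * g := by rw [h1]

/-- Sylow 2-subgroups of the two-point stabilizer are cyclic -/
theorem EE_two_cyclic (hB : ∀ x y : EE G a b, y * x * y⁻¹ = x⁻¹ → x * x = 1) (P : Sylow 2 (EE G a b)) : IsCyclic (P : Subgroup (EE G a b)) := by
  rcases D.EE_isFpf.two_sub P P.isPGroup' with h | ⟨n, ⟨e⟩⟩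
  · exact h
  · let A : (P : Subgroup (EE G a b)) := e.symm (QuaternionGroup.a (1 : ZMod (2 * 2 ^ n)))
    let X : (P : Subgroup (EE G a b)) := e.symm (QuaternionGroup.xa (0 : ZMod (2 * 2 ^ n)))
    have hA : e A = QuaternionGroup.a (1 : ZMod (2 * 2 ^ n)) := e.apply_symm_apply _
    have hX : e X = QuaternionGroup.xa (0 : ZMod (2 * 2 ^ n)) := e.apply_symm_apply _
    have h1 : X * A * X⁻¹ = A⁻¹ := by
      apply e.injective
      rw [map_mul, map_mul, map_inv, map_inv, hA, hX, mul_inv_eq_iff_eq_mul]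
      have h2 : (QuaternionGroup.a (1 : ZMod (2 * 2 ^ n)))⁻¹ = QuaternionGroup.a (-1) := rfl
      rw [h2, QuaternionGroup.xa_mul_a, QuaternionGroup.a_mul_xa]
      congr 1
      ring
    have h2 : A * A = 1 := Subtype.ext (hB A.1 X.1 (congrArg Subtype.val h1))
    have h3 : (QuaternionGroup.a (2 : ZMod (2 * 2 ^ n))) = QuaternionGroup.a 0 := by
      have h4 := congrArg e h2
      rw [map_mul, map_one, hA, QuaternionGroup.a_mul_a, QuaternionGroup.one_def] at h4
      rw [← h4]
      congr 1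
      ring
    have h4 := QuaternionGroup.a.inj h3
    have h5 : ((2 : ℕ) : ZMod (2 * 2 ^ n)) = 0 := by exact_mod_cast h4
    rw [ZMod.natCast_eq_zero_iff] at h5
    have h6 : n = 0 := by
      by_contra hn
      have h7 := Nat.le_of_dvd (by norm_num) h5
      have h8 : 2 ≤ 2 ^ n := by
        calc 2 = 2 ^ 1 := by norm_num
          _ ≤ 2 ^ n := Nat.pow_le_pow_right (by norm_num) (by omega)
      omega
    subst h6
    haveI h7 : IsCyclic (QuaternionGroup (2 ^ 0)) := QuaternionGroup.quaternionGroup_one_isCyclic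
    exact isCyclic_of_surjective e.symm.toMonoidHom e.symm.surjective

theorem EE_comm {p f : ℕ} (hp : p.Prime) (hp2 : p ≠ 2) (hf : Odd f) (hcard : Nat.card H = p ^ f) (he : Nat.card (EE G a b) + 1 = Nat.card H) :
    ∀ x ∈ EE G a b, ∀ y ∈ EE G a b, x * y = y * x := by
  classical
  obtain ⟨hc, p', f', hp', hpow, hcard'⟩ := D.big_elem (by omega)
  have hpp : p' = p := by
    have h1 : p ∣ p' ^ f' := by rw [← hcard', hcard]; exact dvd_pow_self p hf.pos.ne'
    exact ((Nat.prime_dvd_prime_iff_eq hp hp').mp (hp.dvd_of_dvd_pow h1)).symm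
  subst hpp
  have hB : ∀ x y : EE G a b, y * x * y⁻¹ = x⁻¹ → x * x = 1 := fun x y h => D.real_sq hp hp2 hf hc hpow hcard h
  have hev : Even (Nat.card (EE G a b)) := by
    have h1 : Odd (p' ^ f) := (hp.odd_of_ne_two hp2).pow
    rw [← hcard, ← he] at h1
    obtain ⟨m, hm⟩ := h1
    exact ⟨m, by omega⟩
  have h3 := D.two_le_H
  obtain ⟨c, hca, hcb⟩ : ∃ c : Ω, c ≠ a ∧ c ≠ b := by
    by_contra hcon
    push Not at hcon
    have h6 : Fintype.card Ω ≤ Fintype.card (Fin 2) := by
      apply Fintype.card_le_of_surjective (fun i : Fin 2 => if i = 0 then a else b)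
      intro c
      by_cases hca : c = a
      · exact ⟨0, by simp [hca]⟩
      · exact ⟨1, by simp [hcon c hca]⟩
    rw [Fintype.card_fin, ← D.hcard] at h6
    omega
  obtain ⟨s, hsa, hsb, hsc⟩ := D.sharp he a b c b a c D.hab hca.symm hcb.symm D.hab.symm hcb.symm hca.symm
  have hss : s * s = 1 := by
    apply D.sharp_free (s * s) a b c D.hab hca.symm hcb.symm
    · rw [mul_smul, hsa, hsb]
    · rw [mul_smul, hsb, hsa]
    · rw [mul_smul, hsc, hsc]
  have hsi : s⁻¹ = s := inv_eq_of_mul_eq_one_left hss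
  have hs1 : s ≠ 1 := by
    rintro rfl
    rw [one_smul] at hsa
    exact D.hab hsa
  obtain ⟨P⟩ : Nonempty (Sylow 2 (EE G a b)) := inferInstance
  have hfin := CfsgLib.PG.comm_of_inv hev (conjE s ⟨hsa, hsb⟩) (by
    intro x
    apply Subtype.ext
    show s * (s * (x : G) * s⁻¹) * s⁻¹ = x
    rw [hsi]
    calc s * (s * (x : G) * s) * s = (s * s) * x * (s * s) := by group
      _ = x := by rw [hss]; group) (by
    have h4 : Nat.card (MonoidHom.eqLocus (conjE (a := a) (b := b) s ⟨hsa, hsb⟩).toMonoidHom (MonoidHom.id (EE G a b))) ≤ Nat.card (fixedBy Ω s) := by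
      apply Nat.card_le_card_of_injective (fun y : MonoidHom.eqLocus (conjE (a := a) (b := b) s ⟨hsa, hsb⟩).toMonoidHom (MonoidHom.id (EE G a b)) => (⟨((y : EE G a b) : G) • c, by
        have h5 : s * ((y : EE G a b) : G) * s⁻¹ = y := congrArg Subtype.val y.2
        show s • ((y : EE G a b) : G) • c = ((y : EE G a b) : G) • c
        have h6 : s * ((y : EE G a b) : G) = ((y : EE G a b) : G) * s := by
          calc s * ((y : EE G a b) : G) = s * ((y : EE G a b) : G) * s⁻¹ * s := by group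
            _ = _ := by rw [h5]
        rw [← mul_smul, h6, mul_smul, hsc]⟩ : fixedBy Ω s))
      intro y y' h
      have h5 : ((y : EE G a b) : G) • c = ((y' : EE G a b) : G) • c := congrArg (fun z : fixedBy Ω s => (z : Ω)) h
      have h6 : (((y' : EE G a b) : G)⁻¹ * ((y : EE G a b) : G)) • c = c := by rw [mul_smul, h5, inv_smul_smul]
      have h7 := (EE G a b).mul_mem ((EE G a b).inv_mem (y' : EE G a b).2) (y : EE G a b).2
      have h8 := D.sharp_free _ a b c D.hab hca.symm hcb.symm h7.1 h7.2 h6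
      exact Subtype.ext (Subtype.ext (inv_mul_eq_one.mp h8).symm)
    refine h4.trans ?_
    by_contra hlt
    push Not at hlt
    haveI : Fintype (fixedBy Ω s) := Fintype.ofFinite _
    rw [Nat.card_eq_fintype_card, Fintype.two_lt_card_iff] at hlt
    obtain ⟨x, y, z, hxy, hxz, hyz⟩ := hlt
    apply hs1
    exact D.sharp_free s x y z (fun h => hxy (Subtype.ext h)) (fun h => hxz (Subtype.ext h)) (fun h => hyz (Subtype.ext h)) x.2 y.2 z.2) hB P (D.EE_two_cyclic hB P)
  intro x hx y hy
  exact congrArg Subtype.val (hfin ⟨x, hx⟩ ⟨y, hy⟩)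

end Dat
end CfsgLib.Zas
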