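import Cfsg.Agent.EqBase
import Cfsg.Agent.LibPG4
import Cfsg.Agent.LibDkH29
import Cfsg.Agent.LibFrob6
import Cfsg.Agent.LibPermBasic2
/-!
# Sharply 3-transitive groups of degree `p ^ f + 1`, `f` odd; transitive groups of degree `p + 1` (helper16)
-/
set_option autoImplicit false
set_option linter.all false
open Cfsg MulAction
open scoped Pointwise MatrixGroups
namespace CfsgLib.PG

universe u v

theorem perm_pgl {α : Type u} [Fintype α] [DecidableEq α] (F : Type) [Field F] [Fintype F] (hα : Fintype.card α = Fintype.card F + 1)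
    (hcard : (Fintype.card F + 1).factorial = Fintype.card F * ((Fintype.card F - 1) * (Fintype.card F + 1)))
    (G : Subgroup (Equiv.Perm α)) (hG : Nat.card G = (Fintype.card F + 1).factorial) : Nonempty (G ≃* Matrix.ProjGenLinGroup (Fin 2) F) := by
  classical
  have hT : G = ⊤ := by
    apply Subgroup.eq_top_of_card_eq
    rw [hG, Nat.card_eq_fintype_card, Fintype.card_perm, hα]
  subst hT
  have hcO : Fintype.card (OnePoint F) = Fintype.card F + 1 := by
    exact Fintype.card_option
  let φ : Matrix.ProjGenLinGroup (Fin 2) F →* Equiv.Perm (OnePoint F) := MulAction.toPermHom (Matrix.ProjGenLinGroup (Fin 2) F) (OnePoint F)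
  have hinj : Function.Injective φ := by
    intro g h hgh
    have h1 : ∀ x : OnePoint F, g • x = h • x := fun x => congrArg (fun s : Equiv.Perm (OnePoint F) => s x) hgh
    exact CfsgLib.Dk29.pgl_ext g h (h1 _) (h1 _) (h1 _)
  have hbij : Function.Bijective φ := by
    refine (Nat.bijective_iff_injective_and_card φ).mpr ⟨hinj, ?_⟩
    rw [CfsgLib.Dk29.card_PGL, Nat.card_eq_fintype_card, Fintype.card_perm, hcO, hcard]
  have e : α ≃ OnePoint F := Fintype.equivOfCardEq (by rw [hα, hcO])
  exact ⟨Subgroup.topEquiv.trans ((Equiv.permCongrHom e).trans (MulEquiv.ofBijective φ hbij).symm)⟩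

theorem noreg {G : Type u} {Ω : Type v} [Group G] [MulAction G Ω] [Finite G] [Fintype Ω] {a b : Ω}
    (h2 : ∀ x y : Ω, x ≠ a → y ≠ a → ∃ g : G, g • a = a ∧ g • x = y)
    (N : Subgroup G) (hN : N.Normal) (htr : ∀ y : Ω, ∃ n ∈ N, n • a = y) (hfr : ∀ n ∈ N, n • a = a → n = 1)
    (hev : Even (Fintype.card Ω)) (h4 : 4 < Fintype.card Ω) (hab : a ≠ b) {e : G} (hee : e * e = 1) (hea : e • a = a) (heb : e • b = b)
    (hef : ∀ c, e • c = c → c = a ∨ c = b) : False := by
  classical
  have heq : ∀ n ∈ N, ∀ m ∈ N, n • a = m • a → n = m := by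
    intro n hn m hm h
    have h1 := hfr (m⁻¹ * n) (N.mul_mem (N.inv_mem hm) hn) (by rw [mul_smul, h, inv_smul_smul])
    exact (inv_mul_eq_one.mp h1).symm
  have hcard : Nat.card N = Fintype.card Ω := by
    rw [← Nat.card_eq_fintype_card]
    apply Nat.card_congr
    refine Equiv.ofBijective (fun n : N => (n : G) • a) ⟨fun n m h => Subtype.ext (heq n n.2 m m.2 h), fun y => ?_⟩
    obtain ⟨n, hn, hny⟩ := htr y
    exact ⟨⟨n, hn⟩, hny⟩
  haveI := Fact.mk Nat.prime_two
  obtain ⟨⟨v0, hv0⟩, hvo⟩ := exists_prime_orderOf_dvd_card' (G := N) 2 (by rw [hcard]; exact even_iff_two_dvd.mp hev)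
  rw [Subgroup.orderOf_mk] at hvo
  have hv0s : v0 * v0 = 1 := by rw [← pow_two, ← hvo, pow_orderOf_eq_one]
  have hv01 : v0 ≠ 1 := by
    rintro rfl
    rw [orderOf_one] at hvo
    omega
  have hsq : ∀ n ∈ N, n * n = 1 := by
    intro n hn
    by_cases hn1 : n = 1
    · rw [hn1, one_mul]
    obtain ⟨k, hk, hkn⟩ := h2 (v0 • a) (n • a) (fun h => hv01 (hfr _ hv0 h)) (fun h => hn1 (hfr _ hn h))
    have h3 := reg_facts hN hfr hv0 hn hk hkn
    calc n * n = k * (v0 * v0) * k⁻¹ := by rw [← h3]; group
      _ = 1 := by rw [hv0s]; group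
  have hcm : ∀ n ∈ N, ∀ m ∈ N, n * m = m * n := by
    intro n hn m hm
    have h3 := hsq (n * m) (N.mul_mem hn hm)
    have h4 := eq_inv_of_mul_eq_one_left h3
    rw [h4, mul_inv_rev, inv_eq_of_mul_eq_one_left (hsq n hn), inv_eq_of_mul_eq_one_left (hsq m hm)]
  obtain ⟨v, hv, hvb⟩ := htr b
  have hei : e⁻¹ = e := inv_eq_of_mul_eq_one_left hee
  have hact : ∀ n, (e * n * e⁻¹) • a = e • n • a := by
    intro n
    have h3 : e⁻¹ • a = a := by rw [hei, hea]
    rw [mul_smul, mul_smul, h3]
  have hcen : ∀ w ∈ N, e * w * e⁻¹ = w → w = 1 ∨ w = v := by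
    intro w hw h
    have h3 := hact w
    rw [h] at h3
    rcases hef _ h3.symm with h4 | h4
    · exact Or.inl (hfr w hw h4)
    · exact Or.inr (heq w hw v hv (h4.trans hvb.symm))
  have key : ∀ r ∈ N, r • a ≠ a → r • a ≠ b → e * r * e⁻¹ = r * v := by
    intro r hr hra hrb
    have hr' : e * r * e⁻¹ ∈ N := hN.conj_mem r hr e
    have h3 : e * (r * (e * r * e⁻¹)) * e⁻¹ = r * (e * r * e⁻¹) := by
      calc e * (r * (e * r * e⁻¹)) * e⁻¹ = (e * r * e⁻¹) * ((e * e) * r * (e * e)⁻¹) := by group
        _ = (e * r * e⁻¹) * r := by rw [hee]; group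
        _ = _ := hcm _ hr' _ hr
    rcases hcen _ (N.mul_mem hr hr') h3 with h4 | h4
    · exfalso
      have h5 : e * r * e⁻¹ = r := by
        have h6 : r * (e * r * e⁻¹) = r * r := by rw [h4, hsq r hr]
        exact mul_left_cancel h6
      rcases hcen r hr h5 with h6 | h6
      · rw [h6, one_smul] at hra; exact hra rfl
      · rw [h6, hvb] at hrb; exact hrb rfl
    · have h5 : r * (r * (e * r * e⁻¹)) = r * v := by rw [h4]
      rw [← mul_assoc, hsq r hr, one_mul] at h5
      exact h5
  obtain ⟨x, hx⟩ : ∃ x : Ω, x ∉ ({a, b} : Finset Ω) := by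
    by_contra hcon
    push Not at hcon
    have h3 : Fintype.card Ω ≤ ({a, b} : Finset Ω).card := by
      rw [← Finset.card_univ]; exact Finset.card_le_card (fun y _ => hcon y)
    have h5 : ({a, b} : Finset Ω).card ≤ 2 := Finset.card_le_two
    omega
  obtain ⟨r, hr, hrx⟩ := htr x
  obtain ⟨y, hy⟩ : ∃ y : Ω, y ∉ ({a, b, r • a, (r * v) • a} : Finset Ω) := by
    by_contra hcon
    push Not at hcon
    have h3 : Fintype.card Ω ≤ ({a, b, r • a, (r * v) • a} : Finset Ω).card := by
      rw [← Finset.card_univ]; exact Finset.card_le_card (fun y _ => hcon y)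
    have h5 : ({a, b, r • a, (r * v) • a} : Finset Ω).card ≤ 4 := Finset.card_le_four
    omega
  obtain ⟨s, hs, hsy⟩ := htr y
  simp only [Finset.mem_insert, Finset.mem_singleton, not_or] at hx hy
  have h5 := key r hr (by rw [hrx]; exact hx.1) (by rw [hrx]; exact hx.2)
  have h6 := key s hs (by rw [hsy]; exact hy.1) (by rw [hsy]; exact hy.2.1)
  have h7 := key (r * s) (N.mul_mem hr hs) (by
    intro h
    have h8 := hfr _ (N.mul_mem hr hs) h
    apply hy.2.2.1
    rw [← hsy]
    have h9 : s = r := by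
      have := eq_inv_of_mul_eq_one_right h8
      rw [this, inv_eq_of_mul_eq_one_left (hsq r hr)]
    rw [h9]) (by
    intro h
    have h8 := heq _ (N.mul_mem hr hs) v hv (h.trans hvb.symm)
    apply hy.2.2.2
    rw [← hsy]
    have h9 : r * (r * s) = r * v := by rw [h8]
    rw [← mul_assoc, hsq r hr, one_mul] at h9
    rw [h9])
  have h8 : e * (r * s) * e⁻¹ = (e * r * e⁻¹) * (e * s * e⁻¹) := by group
  rw [h8, h5, h6] at h7
  have h9 : r * v * (s * v) = r * s := by
    calc r * v * (s * v) = r * (v * s) * v := by group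
      _ = r * (s * v) * v := by rw [hcm v hv s hs]
      _ = r * s * (v * v) := by group
      _ = r * s := by rw [hsq v hv, mul_one]
  rw [h9] at h7
  have h10 : v = 1 := by
    have h11 : (r * s) * 1 = (r * s) * v := by rw [mul_one]; exact h7
    exact (mul_left_cancel h11).symm
  rw [h10, one_smul] at hvb
  exact hab hvb

theorem s0730 {α : Type u} [Fintype α] [DecidableEq α] {p f : ℕ} (hp : p.Prime) (hp2 : p ≠ 2) (hfo : Odd f) (hα : Fintype.card α = p ^ f + 1)
    (G : Subgroup (Equiv.Perm α)) (h3 : MulAction.IsMultiplyPretransitive G α 3) (hsharp : ∀ x : Fin 3 ↪ α, MulAction.stabilizer G x = ⊥) :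
    ∃ (F : Type) (_ : Field F) (_ : Fintype F), Fintype.card F = p ^ f ∧ Nonempty (G ≃* Matrix.ProjGenLinGroup (Fin 2) F) := by
  classical
  have h3' := CfsgLib.PermBasic2.three_iff.mp h3
  have hfree : ∀ g : G, ∀ a b c : α, a ≠ b → b ≠ c → a ≠ c → g • a = a → g • b = b → g • c = c → g = 1 := by
    intro g a b c hab hbc hac ha hb hc
    have hinj : Function.Injective (![a, b, c] : Fin 3 → α) := by
      intro i j hij
      fin_cases i <;> fin_cases j
      · rfl
      · exact absurd hij hab
      · exact absurd hij hac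
      · exact absurd hij (Ne.symm hab)
      · rfl
      · exact absurd hij hbc
      · exact absurd hij (Ne.symm hac)
      · exact absurd hij (Ne.symm hbc)
      · rfl
    let x : Fin 3 ↪ α := ⟨![a, b, c], hinj⟩
    have h4 : g ∈ stabilizer G x := by
      rw [mem_stabilizer_iff]
      ext i
      fin_cases i
      · exact ha
      · exact hb
      · exact hc
    rw [hsharp x] at h4
    exact Subgroup.mem_bot.mp h4
  have hpf : 3 ≤ p ^ f := by
    have h4 : 3 ≤ p := by have := hp.two_le; omega
    calc 3 ≤ p := h4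
      _ = p ^ 1 := (pow_one p).symm
      _ ≤ p ^ f := Nat.pow_le_pow_right hp.pos hfo.pos
  have hodd : Odd (p ^ f) := (hp.odd_of_ne_two hp2).pow
  -- another point
  have hthird : ∀ a b : α, ∃ c : α, c ≠ a ∧ c ≠ b := by
    intro a b
    by_contra hcon
    push Not at hcon
    have h4 : Fintype.card α ≤ ({a, b} : Finset α).card := by
      rw [← Finset.card_univ]
      exact Finset.card_le_card (fun y _ => by
        rw [Finset.mem_insert, Finset.mem_singleton]
        by_cases h : y = a
        · exact Or.inl h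
        · exact Or.inr (hcon y h))
    have h5 : ({a, b} : Finset α).card ≤ 2 := Finset.card_le_two
    omega
  have htwo : ∀ x y z w : α, x ≠ y → z ≠ w → ∃ g : G, g • x = z ∧ g • y = w := by
    intro x y z w h h'
    obtain ⟨c, hc1, hc2⟩ := hthird x y
    obtain ⟨d, hd1, hd2⟩ := hthird z w
    obtain ⟨g, hg1, hg2, -⟩ := h3' x y c z w d h (Ne.symm hc1) (Ne.symm hc2) h' (Ne.symm hd1) (Ne.symm hd2)
    exact ⟨g, hg1, hg2⟩
  have hcardE : ∀ a b : α, a ≠ b → Nat.card (CfsgLib.Zas.EE G a b) + 2 = Fintype.card α := by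
    intro a b hab
    obtain ⟨c, hca, hcb⟩ := hthird a b
    have h1 : Fintype.card {x : α // x ≠ a ∧ x ≠ b} = Fintype.card α - 2 := by
      have h2 : (Finset.univ.filter fun x : α => x ≠ a ∧ x ≠ b) = Finset.univ \ {a, b} := by
        ext x; simp [not_or]
      rw [Fintype.card_subtype, h2, Finset.card_sdiff_of_subset (Finset.subset_univ _), Finset.card_pair hab]; rfl
    have h2 : Nat.card (CfsgLib.Zas.EE G a b) = Nat.card {x : α // x ≠ a ∧ x ≠ b} := by
      apply Nat.card_congr
      refine Equiv.ofBijective (fun k : CfsgLib.Zas.EE G a b => (⟨(k : G) • c, fun h => hca (MulAction.injective (k : G) (h.trans (Eq.symm k.2.1))),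
        fun h => hcb (MulAction.injective (k : G) (h.trans (Eq.symm k.2.2)))⟩ : {x : α // x ≠ a ∧ x ≠ b})) ⟨?_, ?_⟩
      · intro k k' h
        have h1 : (k : G) • c = (k' : G) • c := congrArg Subtype.val h
        have h2 : ((k : G)⁻¹ * k') • c = c := by rw [mul_smul, ← h1, inv_smul_smul]
        have h3 := ((CfsgLib.Zas.EE G a b).mul_mem ((CfsgLib.Zas.EE G a b).inv_mem k.2) k'.2)
        have h4 := hfree ((k : G)⁻¹ * k') a b c hab (Ne.symm hcb) (Ne.symm hca) h3.1 h3.2 h2
        exact Subtype.ext (inv_mul_eq_one.mp h4)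
      · rintro ⟨d, hda, hdb⟩
        obtain ⟨g, hga, hgb, hgc⟩ := h3' a b c a b d hab (Ne.symm hca) (Ne.symm hcb) hab (Ne.symm hda) (Ne.symm hdb)
        exact ⟨⟨g, hga, hgb⟩, Subtype.ext hgc⟩
    rw [h2, Nat.card_eq_fintype_card, h1]
    omega
  obtain ⟨a⟩ : Nonempty α := by
    rw [← Fintype.card_pos_iff, hα]; omega
  obtain ⟨b, hba, -⟩ := hthird a a
  have hab : a ≠ b := Ne.symm hba
  by_cases hsmall : p ^ f = 3
  · -- the symmetric group of degree four
    haveI := Fact.mk (by decide : Nat.Prime 3)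
    refine ⟨ZMod 3, inferInstance, inferInstance, ?_, ?_⟩
    · rw [ZMod.card, hsmall]
    · apply perm_pgl (ZMod 3) (by rw [hα, hsmall, ZMod.card]) (by rw [ZMod.card]; decide) G
      rw [ZMod.card]
      haveI : IsPretransitive G α := ⟨fun x y => by
        obtain ⟨x', hx', -⟩ := hthird x x
        obtain ⟨y', hy', -⟩ := hthird y y
        obtain ⟨g, hg, -⟩ := htwo x x' y y' (Ne.symm hx') (Ne.symm hy')
        exact ⟨g, hg⟩⟩
      have h1 := hcardE a b hab
      have h2 : (stabilizer G a).index = 4 := by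
        rw [index_stabilizer_of_transitive, Nat.card_eq_fintype_card, hα, hsmall]
      have h4 : ((stabilizer G b).subgroupOf (stabilizer G a)).index = 3 := by
        let S : SubMulAction (stabilizer G a) α :=
          { carrier := {c | c ≠ a}
            smul_mem' := by
              intro g c hc h
              apply hc
              have h5 : (g : G) • a = a := g.2
              exact MulAction.injective (g : G) (h.trans h5.symm) }
        have hS : IsPretransitive (stabilizer G a) S := ⟨fun x y => by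
          obtain ⟨g, hga, hgb⟩ := htwo a x a y (Ne.symm x.2) (Ne.symm y.2)
          exact ⟨⟨g, hga⟩, Subtype.ext hgb⟩⟩
        have h5 : (stabilizer G b).subgroupOf (stabilizer G a) = stabilizer (stabilizer G a) (⟨b, hba⟩ : S) := by
          ext g
          constructor
          · intro h
            exact Subtype.ext h
          · intro h
            exact congrArg (fun s : S => (s : α)) h
        rw [h5, index_stabilizer_of_transitive, Nat.card_eq_fintype_card]
        have h6 : Fintype.card S = Fintype.card α - 1 := by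
          have h7 : Fintype.card {x : α // x ≠ a} = Fintype.card α - 1 := by
            rw [Fintype.card_subtype_compl, Fintype.card_subtype_eq]
          rw [← h7]
          exact Fintype.card_congr (Equiv.refl _)
        rw [h6, hα, hsmall]
      have h5 := (stabilizer G a).card_mul_index
      have h6 := ((stabilizer G b).subgroupOf (stabilizer G a)).card_mul_index
      have h7 : Nat.card ((stabilizer G b).subgroupOf (stabilizer G a)) = Nat.card (CfsgLib.Zas.EE G a b) := by
        have h8 := Subgroup.card_map_of_injective (K := (stabilizer G b).subgroupOf (stabilizer G a)) (stabilizer G a).subtype_injective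
        rw [← h8, Subgroup.subgroupOf_map_subtype]
        have h9 : stabilizer G b ⊓ stabilizer G a = CfsgLib.Zas.EE G a b := by
          ext g
          exact ⟨fun h => ⟨h.2, h.1⟩, fun h => ⟨h.2, h.1⟩⟩
        rw [h9]
      rw [hα, hsmall] at h1
      rw [h7, h4] at h6
      rw [h2] at h5
      have h10 : (4 : ℕ).factorial = 24 := by decide
      show Nat.card G = (4 : ℕ).factorial
      rw [h10]
      omega
  have hE := hcardE a b hab
  have h4 : 4 < Fintype.card α := by
    obtain ⟨k, hk⟩ := hodd
    omega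
  have hZ : Cfsg.IsZassenhausGroup G α := by
    refine ⟨⟨fun {g h} hgh => Subtype.ext (Equiv.ext hgh)⟩, ?_, hfree, ?_, ?_⟩
    · rw [is_two_pretransitive_iff]
      intro x y z w h h'
      exact htwo x y z w h h'
    · have h5 : CfsgLib.Zas.EE G a b ≠ ⊥ := by
        intro h
        rw [h, Subgroup.card_bot] at hE
        omega
      obtain ⟨e, he, he1⟩ := (Subgroup.bot_or_exists_ne_one _).resolve_left h5
      exact ⟨e, he1, a, b, hab, he.1, he.2⟩
    · intro N hN hNt
      refine ⟨a, fun hNs => ?_⟩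
      haveI := Fact.mk Nat.prime_two
      obtain ⟨⟨e, he⟩, heo⟩ := exists_prime_orderOf_dvd_card' (G := CfsgLib.Zas.EE G a b) 2 (by
        obtain ⟨k, hk⟩ := hodd
        rw [hα] at hE
        omega)
      rw [Subgroup.orderOf_mk] at heo
      have he1 : e ≠ 1 := by
        rintro rfl
        rw [orderOf_one] at heo
        omega
      refine noreg (a := a) (b := b) ?_ N hN ?_ ?_ ?_ h4 hab (e := e) (by rw [← pow_two, ← heo, pow_orderOf_eq_one]) he.1 he.2 ?_
      · intro x y hx hy
        exact htwo a x a y (Ne.symm hx) (Ne.symm hy)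
      · intro y
        obtain ⟨⟨n, hn⟩, hny⟩ := hNt.exists_smul_eq a y
        exact ⟨n, hn, hny⟩
      · intro n hn hna
        have h5 : (⟨n, hn⟩ : N) ∈ stabilizer N a := hna
        rw [hNs] at h5
        exact congrArg Subtype.val (Subgroup.mem_bot.mp h5)
      · rw [hα]
        exact hodd.add_one
      · intro c hc
        by_contra hcon
        push Not at hcon
        exact he1 (hfree e a b c hab (Ne.symm hcon.2) (Ne.symm hcon.1) he.1 he.2 hc)
  obtain ⟨H, hHa, hHcard, hHfix⟩ := CfsgLib.Zas.exists_H (a := a) hZ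
  have D : CfsgLib.Zas.Dat G α a b H := ⟨hZ, hab, hHa, hHcard, hHfix⟩
  have hcH : Nat.card H = p ^ f := by omega
  have he : Nat.card (CfsgLib.Zas.EE G a b) + 1 = Nat.card H := by omega
  obtain ⟨F, iF, iFF, hF1, hF2⟩ := D.pgl_of_comm he (D.EE_comm hp hp2 hfo hcH he) (by rw [hcH]; exact hodd)
  exact ⟨F, iF, iFF, by rw [hF1, hcH], hF2⟩

end CfsgLib.PG
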