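import Cfsg.Agent.EqBase
import Cfsg.Agent.LibPG5
/-!
# Transitive groups of degree `p + 1` (helper16)
-/
set_option autoImplicit false
set_option linter.all false
open Cfsg MulAction
open scoped Pointwise MatrixGroups
namespace CfsgLib.PG

universe u v

/-- a normal `p`-subgroup of order `p` of the point stabilizer -/
theorem deg_H {G : Type u} {Ω : Type v} [Group G] [MulAction G Ω] [Finite G] [Fintype Ω] [FaithfulSMul G Ω] {p d : ℕ} (hp : p.Prime) (hΩ : Fintype.card Ω = p + 1)
    (a : Ω) (hcard : Nat.card (stabilizer G a) = p * d) (hd : d < p) :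
    ∃ H : Subgroup G, H ≤ stabilizer G a ∧ Nat.card H = p ∧ (∀ g ∈ stabilizer G a, ∀ x ∈ H, g * x * g⁻¹ ∈ H) ∧
      (∀ u ∈ H, u ≠ 1 → ∀ c : Ω, u • c = c → c = a) ∧ (∀ x y : Ω, x ≠ a → y ≠ a → ∃ u ∈ H, u • x = y) := by
  classical
  haveI := Fact.mk hp
  set Γ := stabilizer G a with hΓ
  have hd0 : 0 < d := by
    rcases Nat.eq_zero_or_pos d with h | h
    · rw [h, Nat.mul_zero] at hcard
      exact absurd hcard Nat.card_pos.ne'
    · exact h
  have hnd : ¬ p ∣ d := fun h => absurd (Nat.le_of_dvd hd0 h) (by omega)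
  obtain ⟨P⟩ : Nonempty (Sylow p Γ) := inferInstance
  have hPc : Nat.card P = p := by
    rw [P.card_eq_multiplicity, hcard, Nat.factorization_mul hp.ne_zero hd0.ne', Finsupp.add_apply, hp.factorization_self,
      Nat.factorization_eq_zero_of_not_dvd hnd, add_zero, pow_one]
  have hPi : (P : Subgroup Γ).index = d := by
    have h1 := (P : Subgroup Γ).card_mul_index
    rw [hcard, hPc] at h1
    exact Nat.eq_of_mul_eq_mul_left hp.pos h1
  have hs : Nat.card (Sylow p Γ) = 1 := by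
    have h1 : Nat.card (Sylow p Γ) ∣ d := by rw [← hPi]; exact P.card_dvd_index
    have h2 : Nat.card (Sylow p Γ) ≡ 1 [MOD p] := card_sylow_modEq_one p Γ
    have h3 : Nat.card (Sylow p Γ) < p := lt_of_le_of_lt (Nat.le_of_dvd hd0 h1) hd
    have h4 : Nat.card (Sylow p Γ) % p = 1 % p := h2
    rwa [Nat.mod_eq_of_lt h3, Nat.mod_eq_of_lt hp.one_lt] at h4
  haveI hsub : Subsingleton (Sylow p Γ) := (Nat.card_eq_one_iff_unique.mp hs).1
  haveI hPn : (P : Subgroup Γ).Normal := Sylow.normal_of_subsingleton P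
  let H : Subgroup G := (P : Subgroup Γ).map Γ.subtype
  have hHc : Nat.card H = p := by
    rw [Subgroup.card_map_of_injective Γ.subtype_injective]; exact hPc
  have hHa : H ≤ Γ := by
    rintro _ ⟨x, -, rfl⟩
    exact x.2
  have hfix : ∀ u ∈ H, u ≠ 1 → ∀ c : Ω, u • c = c → c = a := by
    intro u hu hu1 c hc
    by_contra hca
    have hua : u • a = a := hHa hu
    have huo : orderOf u = p := by
      have h1 : orderOf u ∣ p := by
        rw [← hHc]
        exact Subgroup.orderOf_dvd_natCard H hu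
      rcases (Nat.dvd_prime hp).mp h1 with h2 | h2
      · exact absurd (orderOf_eq_one_iff.mp h2) hu1
      · exact h2
    have hpg : IsPGroup p (Subgroup.zpowers u) := by
      apply IsPGroup.of_card (n := 1)
      rw [Nat.card_zpowers, huo, pow_one]
    haveI : Fintype (fixedPoints (Subgroup.zpowers u) Ω) := Fintype.ofFinite _
    have h1 := hpg.card_modEq_card_fixedPoints Ω
    rw [Nat.card_eq_fintype_card, hΩ] at h1
    have hfp : ∀ x : Ω, u • x = x → x ∈ fixedPoints (Subgroup.zpowers u) Ω := by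
      intro x hx
      rw [mem_fixedPoints]
      rintro ⟨g, hg⟩
      have h2 : Subgroup.zpowers u ≤ stabilizer G x := by
        rw [Subgroup.zpowers_le]; exact hx
      exact h2 hg
    have h2 : 1 < Nat.card (fixedPoints (Subgroup.zpowers u) Ω) := by
      rw [Finite.one_lt_card_iff_nontrivial]
      exact ⟨⟨⟨a, hfp a hua⟩, ⟨c, hfp c hc⟩, fun h => hca (congrArg Subtype.val h).symm⟩⟩
    have h3 : Nat.card (fixedPoints (Subgroup.zpowers u) Ω) ≤ p + 1 := by
      rw [← hΩ, ← Nat.card_eq_fintype_card]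
      exact Nat.card_le_card_of_injective Subtype.val Subtype.val_injective
    have h4 : Nat.card (fixedPoints (Subgroup.zpowers u) Ω) = p + 1 := by
      have h5 : (p + 1) % p = Nat.card (fixedPoints (Subgroup.zpowers u) Ω) % p := h1
      rw [Nat.add_mod_left, Nat.mod_eq_of_lt hp.one_lt] at h5
      by_contra hne
      rcases Nat.lt_or_ge (Nat.card (fixedPoints (Subgroup.zpowers u) Ω)) p with h6 | h6
      · rw [Nat.mod_eq_of_lt h6] at h5
        omega
      · have h7 : Nat.card (fixedPoints (Subgroup.zpowers u) Ω) = p := by omega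
        rw [h7, Nat.mod_self] at h5
        omega
    apply hu1
    apply FaithfulSMul.eq_of_smul_eq_smul (α := Ω)
    intro x
    rw [one_smul]
    have h5 : Function.Surjective (Subtype.val : fixedPoints (Subgroup.zpowers u) Ω → Ω) := by
      apply (Function.Injective.bijective_of_nat_card_le Subtype.val_injective _).2
      rw [h4, Nat.card_eq_fintype_card, hΩ]
    obtain ⟨⟨y, hy⟩, rfl⟩ := h5 x
    exact hy ⟨u, Subgroup.mem_zpowers u⟩
  refine ⟨H, hHa, hHc, ?_, hfix, ?_⟩
  · rintro g hg _ ⟨x, hx, rfl⟩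
    exact ⟨⟨g, hg⟩ * x * ⟨g, hg⟩⁻¹, hPn.conj_mem x hx ⟨g, hg⟩, rfl⟩
  · intro x y hx hy
    have hmv : ∀ u ∈ H, ∀ z : Ω, z ≠ a → u • z ≠ a := by
      intro u hu z hz h
      exact hz (MulAction.injective u (h.trans (Eq.symm (hHa hu))))
    let f : H → {z : Ω // z ≠ a} := fun u => ⟨(u : G) • x, hmv u u.2 x hx⟩
    have hf : Function.Injective f := by
      intro u w h
      have h1 : (u : G) • x = (w : G) • x := congrArg Subtype.val h
      by_contra hne
      have h2 : (w : G)⁻¹ * u ≠ 1 := fun h => hne (Subtype.ext (inv_mul_eq_one.mp h).symm)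
      exact hx (hfix _ (H.mul_mem (H.inv_mem w.2) u.2) h2 x (by rw [mul_smul, h1, inv_smul_smul]))
    have h7 : Fintype.card {x : Ω // x ≠ a} = Fintype.card Ω - 1 := by
      rw [Fintype.card_subtype_compl, Fintype.card_subtype_eq]
    have hsur : Function.Surjective f := (Function.Injective.bijective_of_nat_card_le hf (by
      rw [hHc, Nat.card_eq_fintype_card, h7, hΩ]; omega)).2
    obtain ⟨u, hu⟩ := hsur ⟨y, hy⟩
    exact ⟨u, u.2, congrArg Subtype.val hu⟩


/-- the two-point stabilizers act semiregularly on the remaining points, and are commutative -/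
theorem deg_three {G : Type u} {Ω : Type v} [Group G] [MulAction G Ω] [Finite G] [Fintype Ω] [FaithfulSMul G Ω] {p : ℕ} (hp : p.Prime)
    {a : Ω} {H : Subgroup G} (hHa : H ≤ stabilizer G a) (hHc : Nat.card H = p) (hHn : ∀ g ∈ stabilizer G a, ∀ x ∈ H, g * x * g⁻¹ ∈ H)
    (hfix : ∀ u ∈ H, u ≠ 1 → ∀ c : Ω, u • c = c → c = a) (htr : ∀ x y : Ω, x ≠ a → y ≠ a → ∃ u ∈ H, u • x = y) :
    (∀ (g : G) (b c : Ω), b ≠ a → c ≠ a → b ≠ c → g • a = a → g • b = b → g • c = c → g = 1) ∧
    (∀ b : Ω, b ≠ a → ∀ x ∈ CfsgLib.Zas.EE G a b, ∀ y ∈ CfsgLib.Zas.EE G a b, x * y = y * x) := by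
  classical
  haveI := Fact.mk hp
  have hpow : ∀ h ∈ H, h ≠ 1 → ∀ k ∈ H, ∃ n : ℤ, h ^ n = k := by
    intro h hh h1 k hk
    have h2 := mem_zpowers_of_prime_card hHc (g := (⟨h, hh⟩ : H)) (g' := ⟨k, hk⟩) (fun h3 => h1 (congrArg Subtype.val h3))
    obtain ⟨n, hn⟩ := h2
    exact ⟨n, congrArg Subtype.val hn⟩
  have hcomm : ∀ (g : G) (b c : Ω), b ≠ a → c ≠ a → b ≠ c → g • a = a → g • b = b → g • c = c → g = 1 := by
    intro g b c hba hca hbc hga hgb hgc
    obtain ⟨h, hh, hhb⟩ := htr b c hba hca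
    have h1 : h ≠ 1 := by
      rintro rfl
      rw [one_smul] at hhb
      exact hbc hhb
    have h2 : g * h * g⁻¹ = h := by
      by_contra hne
      have h3 : h⁻¹ * (g * h * g⁻¹) ≠ 1 := fun h4 => hne (inv_mul_eq_one.mp h4).symm
      apply hba
      apply hfix _ (H.mul_mem (H.inv_mem hh) (hHn g hga h hh)) h3
      have h4 : g⁻¹ • b = b := by rw [inv_smul_eq_iff, hgb]
      rw [mul_smul, mul_smul, mul_smul, h4, hhb, hgc, inv_smul_eq_iff, hhb]
    have h3 : ∀ n : ℤ, g * h ^ n = h ^ n * g := by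
      intro n
      have h4 : Commute g h := by
        show g * h = h * g
        calc g * h = g * h * g⁻¹ * g := by group
          _ = h * g := by rw [h2]
      exact h4.zpow_right n
    apply FaithfulSMul.eq_of_smul_eq_smul (α := Ω)
    intro x
    rw [one_smul]
    by_cases hxa : x = a
    · rw [hxa, hga]
    · obtain ⟨k, hk, hkx⟩ := htr b x hba hxa
      obtain ⟨n, rfl⟩ := hpow h hh h1 k hk
      rw [← hkx, ← mul_smul, h3, mul_smul, hgb]
  refine ⟨hcomm, ?_⟩
  intro b hba x hx y hy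
  haveI : Nontrivial H := by
    rw [← Finite.one_lt_card_iff_nontrivial, hHc]; exact hp.one_lt
  obtain ⟨⟨h, hh⟩, hh1⟩ := exists_ne (1 : H)
  have h1 : h ≠ 1 := fun h2 => hh1 (Subtype.ext h2)
  obtain ⟨n, hn⟩ := hpow h hh h1 _ (hHn x hx.1 h hh)
  obtain ⟨m, hm⟩ := hpow h hh h1 _ (hHn y hy.1 h hh)
  have h2 : (x * y) * h * (x * y)⁻¹ = (y * x) * h * (y * x)⁻¹ := by
    calc (x * y) * h * (x * y)⁻¹ = x * (y * h * y⁻¹) * x⁻¹ := by group
      _ = (x * h * x⁻¹) ^ m := by rw [← hm, conj_zpow]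
      _ = (h ^ n) ^ m := by rw [← hn]
      _ = (h ^ m) ^ n := by rw [← zpow_mul, ← zpow_mul, mul_comm]
      _ = (y * h * y⁻¹) ^ n := by rw [hm]
      _ = y * h ^ n * y⁻¹ := by rw [conj_zpow]
      _ = (y * x) * h * (y * x)⁻¹ := by rw [hn]; group
  have h3 : (y * x)⁻¹ * (x * y) ∈ CfsgLib.Zas.EE G a b :=
    (CfsgLib.Zas.EE G a b).mul_mem ((CfsgLib.Zas.EE G a b).inv_mem ((CfsgLib.Zas.EE G a b).mul_mem hy hx)) ((CfsgLib.Zas.EE G a b).mul_mem hx hy)
  have h4 : ((y * x)⁻¹ * (x * y)) * h = h * ((y * x)⁻¹ * (x * y)) := by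
    calc ((y * x)⁻¹ * (x * y)) * h = (y * x)⁻¹ * ((x * y) * h * (x * y)⁻¹) * (x * y) := by group
      _ = (y * x)⁻¹ * ((y * x) * h * (y * x)⁻¹) * (x * y) := by rw [h2]
      _ = _ := by group
  have h5 : (y * x)⁻¹ * (x * y) = 1 := by
    have hhb : h • b ≠ b := fun h6 => hba (hfix h hh h1 b h6)
    have hha : h • b ≠ a := fun h6 => hba (MulAction.injective h (h6.trans (Eq.symm (hHa hh))))
    refine hcomm _ b (h • b) hba hha (Ne.symm hhb) h3.1 h3.2 ?_
    rw [← mul_smul, h4, mul_smul, h3.2]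
  exact (inv_mul_eq_one.mp h5).symm

theorem card_EE_mul {G : Type u} {Ω : Type v} [Group G] [MulAction G Ω] [Finite G] [Fintype Ω] {a b : Ω} (hba : b ≠ a)
    (htr : ∀ x y : Ω, x ≠ a → y ≠ a → ∃ g : G, g • a = a ∧ g • x = y) :
    Nat.card (CfsgLib.Zas.EE G a b) * (Fintype.card Ω - 1) = Nat.card (stabilizer G a) := by
  classical
  let S : SubMulAction (stabilizer G a) Ω :=
    { carrier := {c | c ≠ a}
      smul_mem' := by
        intro g c hc h
        apply hc
        have h5 : (g : G) • a = a := g.2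
        exact MulAction.injective (g : G) (h.trans h5.symm) }
  have hS : IsPretransitive (stabilizer G a) S := ⟨fun x y => by
    obtain ⟨g, hga, hgb⟩ := htr x y x.2 y.2
    exact ⟨⟨g, hga⟩, Subtype.ext hgb⟩⟩
  have h5 : (stabilizer G b).subgroupOf (stabilizer G a) = stabilizer (stabilizer G a) (⟨b, hba⟩ : S) := by
    ext g
    constructor
    · intro h
      exact Subtype.ext h
    · intro h
      exact congrArg (fun s : S => (s : Ω)) h
  have h4 : ((stabilizer G b).subgroupOf (stabilizer G a)).index = Fintype.card Ω - 1 := by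
    rw [h5, index_stabilizer_of_transitive, Nat.card_eq_fintype_card]
    have h7 : Fintype.card {x : Ω // x ≠ a} = Fintype.card Ω - 1 := by
      rw [Fintype.card_subtype_compl, Fintype.card_subtype_eq]
    rw [← h7]
    exact Fintype.card_congr (Equiv.refl _)
  have h6 := ((stabilizer G b).subgroupOf (stabilizer G a)).card_mul_index
  have h7 : Nat.card ((stabilizer G b).subgroupOf (stabilizer G a)) = Nat.card (CfsgLib.Zas.EE G a b) := by
    have h8 := Subgroup.card_map_of_injective (K := (stabilizer G b).subgroupOf (stabilizer G a)) (stabilizer G a).subtype_injective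
    rw [← h8, Subgroup.subgroupOf_map_subtype]
    have h9 : stabilizer G b ⊓ stabilizer G a = CfsgLib.Zas.EE G a b := by
      ext g
      exact ⟨fun h => ⟨h.2, h.1⟩, fun h => ⟨h.2, h.1⟩⟩
    rw [h9]
  rw [h7, h4] at h6
  exact h6

theorem semi_gf {α : Type u} [Fintype α] (G : Subgroup (Equiv.Perm α)) {F : Type} [Field F] [Fintype F] (pt : F ≃ α)
    (h : ∀ g : G, ∃ (u : Fˣ) (w : F) (σ : F ≃+* F), ∀ z, g • pt z = pt (u * σ z + w)) {q : ℕ} (hq : q.Prime) (hF : Fintype.card F = 2 ^ q) :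
    ∃ e : α ≃ GaloisField 2 q, ∀ g : G, (e.symm.trans (((g : Equiv.Perm α)).trans e)) ∈ Cfsg.semiaffineGroup (GaloisField 2 q) := by
  classical
  haveI : Fintype (GaloisField 2 q) := Fintype.ofFinite _
  have hc : Fintype.card F = Fintype.card (GaloisField 2 q) := by
    rw [hF, ← Nat.card_eq_fintype_card, GaloisField.card 2 q hq.ne_zero]
  let r : F ≃+* GaloisField 2 q := FiniteField.ringEquivOfCardEq hc
  refine ⟨pt.symm.trans r.toEquiv, fun g => ?_⟩
  obtain ⟨u, w, σ, hg⟩ := h g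
  refine ⟨Units.map (r : F →* GaloisField 2 q) u, r w, r.symm.trans (σ.trans r), fun x => ?_⟩
  show r (pt.symm ((g : Equiv.Perm α) (pt (r.symm x)))) = r u * r (σ (r.symm x)) + r w
  have h1 : (g : Equiv.Perm α) (pt (r.symm x)) = pt (u * σ (r.symm x) + w) := hg (r.symm x)
  rw [h1, Equiv.symm_apply_apply, map_add, map_mul]

theorem s0732 {α : Type u} [Fintype α] [DecidableEq α] {p d : ℕ} (hp : p.Prime) (hα : Fintype.card α = p + 1) (G : Subgroup (Equiv.Perm α))
    (hpt : MulAction.IsPretransitive G α) (hG : Nat.card G = (p + 1) * p * d) (hd : d < p) :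
    (d = p - 1 ∧ Nonempty (G ≃* Matrix.ProjGenLinGroup (Fin 2) (ZMod p))) ∨
    (2 * d = p - 1 ∧ Nonempty (G ≃* Matrix.ProjectiveSpecialLinearGroup (Fin 2) (ZMod p))) ∨
    (∃ q : ℕ, q.Prime ∧ p + 1 = 2 ^ q ∧ (d = 1 ∨ d = q) ∧ ∃ e : α ≃ GaloisField 2 q, ∀ g : G,
      (e.symm.trans (((g : Equiv.Perm α)).trans e)) ∈ Cfsg.semiaffineGroup (GaloisField 2 q)) := by
  classical
  haveI := Fact.mk hp
  have hd0 : 0 < d := by
    rcases Nat.eq_zero_or_pos d with h | h
    · rw [h, Nat.mul_zero] at hG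
      exact absurd hG Nat.card_pos.ne'
    · exact h
  by_cases hp2 : p = 2
  · subst hp2
    have hd1 : d = 1 := by omega
    subst hd1
    left
    refine ⟨rfl, ?_⟩
    apply perm_pgl (ZMod 2) (by rw [hα, ZMod.card]) (by rw [ZMod.card]; decide) G
    rw [ZMod.card, hG]
    decide
  have hp3 : 3 ≤ p := by have := hp.two_le; omega
  haveI hf : FaithfulSMul G α := ⟨fun {g h} hgh => Subtype.ext (Equiv.ext hgh)⟩
  have hΓ : ∀ a : α, Nat.card (stabilizer G a) = p * d := by
    intro a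
    have h1 := (stabilizer G a).card_mul_index
    rw [index_stabilizer_of_transitive, Nat.card_eq_fintype_card (α := α), hα, hG] at h1
    have h2 : Nat.card (stabilizer G a) * (p + 1) = (p * d) * (p + 1) := by rw [h1]; ring
    exact Nat.eq_of_mul_eq_mul_right (by omega) h2
  obtain ⟨a⟩ : Nonempty α := by
    rw [← Fintype.card_pos_iff, hα]; omega
  obtain ⟨b, hba⟩ : ∃ b : α, b ≠ a := by
    haveI : Nontrivial α := by
      rw [← Fintype.one_lt_card_iff_nontrivial, hα]; omega
    exact exists_ne a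
  obtain ⟨H, hHa, hHc, hHn, hHfix, hHtr⟩ := deg_H hp hα a (hΓ a) hd
  obtain ⟨h3, hEc⟩ := deg_three hp hHa hHc hHn hHfix hHtr
  have htr1 : ∀ c x y : α, x ≠ c → y ≠ c → ∃ g : G, g • c = c ∧ g • x = y := by
    intro c x y hx hy
    obtain ⟨K, hKa, hKc, hKn, hKfix, hKtr⟩ := deg_H hp hα c (hΓ c) hd
    obtain ⟨u, hu, huxy⟩ := hKtr x y hx hy
    exact ⟨u, hKa hu, huxy⟩
  have hEE : ∀ c x : α, x ≠ c → Nat.card (CfsgLib.Zas.EE G c x) = d := by
    intro c x hx
    have h4 := card_EE_mul hx (htr1 c)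
    rw [hΓ c, hα, Nat.add_sub_cancel, mul_comm p d] at h4
    exact Nat.eq_of_mul_eq_mul_right hp.pos h4
  by_cases hreg : ∃ N : Subgroup G, N.Normal ∧ (∀ c : α, ∃ n ∈ N, n • a = c) ∧ (∀ n ∈ N, n • a = a → n = 1)
  · -- a regular normal subgroup
    right; right
    obtain ⟨N, hN, hNt, hNf⟩ := hreg
    have hHcomm : ∀ x ∈ H, ∀ y ∈ H, x * y = y * x := by
      haveI := isCyclic_of_prime_card hHc
      intro x hx y hy
      have h4 := (IsCyclic.commGroup (α := H)).mul_comm (⟨x, hx⟩ : H) ⟨y, hy⟩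
      exact congrArg Subtype.val h4
    have R : RN G α a N H := ⟨hN, hNt, hNf, fun x hx => hHa hx, hHcomm, fun g hg x hx => hHn g hg x hx, hHtr⟩
    obtain ⟨F, iF, iFF, pt, hpt0, hpt1, hsemi⟩ := R.semi hba
    have hFc : Fintype.card F = p + 1 := by rw [← hα]; exact Fintype.card_congr pt
    have hq : ∃ q : ℕ, q.Prime ∧ p + 1 = 2 ^ q ∧ (d = 1 ∨ d = q) := by
      by_cases hd1 : d = 1
      · obtain ⟨r, _, n, hr, hrn⟩ := FiniteField.card' F
        rw [hFc] at hrn
        have hev : 2 ∣ r ^ (n : ℕ) := by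
          rw [← hrn]
          obtain ⟨k, hk⟩ := hp.odd_of_ne_two hp2
          exact ⟨k + 1, by omega⟩
        have hr2 : 2 = r := (Nat.prime_dvd_prime_iff_eq Nat.prime_two hr).mp (Nat.prime_two.dvd_of_dvd_pow hev)
        subst hr2
        have h4 : (2 ^ (n : ℕ) - 1).Prime := by
          rw [← hrn, Nat.add_sub_cancel]; exact hp
        have hn1 : (n : ℕ) ≠ 1 := by
          intro h5
          rw [h5] at hrn
          omega
        exact ⟨n, (Nat.prime_of_pow_sub_one_prime hn1 h4).2, hrn, Or.inl hd1⟩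
      · have h4 := R.card_E hba (fun g c hca hcb hga hgb hgc => h3 g b c hba hca (Ne.symm hcb) hga hgb hgc)
          (E := CfsgLib.Zas.EE G a b) (fun e he => ⟨he.1, he.2⟩) (by
            intro h5
            have h6 := hEE a b hba
            rw [h5, Subgroup.card_bot] at h6
            exact hd1 h6.symm)
        rw [hEE a b hba, hα] at h4
        have h5 : (2 ^ d - 1).Prime := by
          rw [← h4, Nat.add_sub_cancel]; exact hp
        exact ⟨d, (Nat.prime_of_pow_sub_one_prime hd1 h5).2, h4, Or.inr rfl⟩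
    obtain ⟨q, hq, hpq, hdq⟩ := hq
    exact ⟨q, hq, hpq, hdq, semi_gf G pt hsemi hq (by rw [hFc, hpq])⟩
  have hd1 : d ≠ 1 := by
    intro hd1
    apply hreg
    obtain ⟨N, -, hN, hcomp⟩ := CfsgLib.Frob6.frobenius_kernel (stabilizer G a) (by
      intro g hg
      rw [eq_bot_iff]
      rintro x ⟨hx1, hx2⟩
      rw [Subgroup.mem_bot]
      have hga : g • a ≠ a := hg
      have hx3 : x ∈ CfsgLib.Zas.EE G a (g • a) := by
        refine ⟨hx1, ?_⟩
        obtain ⟨y, hy, hyx⟩ := hx2
        have hya : y • a = a := hy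
        have hyx' : g * y * g⁻¹ = x := hyx
        show x • g • a = g • a
        rw [← hyx', ← mul_smul]
        have h5 : g * y * g⁻¹ * g = g * y := by group
        rw [h5, mul_smul, hya]
      have h4 := hEE a (g • a) hga
      rw [hd1] at h4
      have h5 : CfsgLib.Zas.EE G a (g • a) = ⊥ := Subgroup.card_eq_one.mp h4
      rw [h5] at hx3
      exact Subgroup.mem_bot.mp hx3)
    have hNf : ∀ n ∈ N, n • a = a → n = 1 := by
      intro n hn hna
      have h4 : n ∈ N ⊓ stabilizer G a := ⟨hn, hna⟩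
      rw [hcomp.disjoint.eq_bot] at h4
      exact Subgroup.mem_bot.mp h4
    refine ⟨N, hN, ?_, hNf⟩
    have hNc : Nat.card N = p + 1 := by
      have h4 := hcomp.card_mul
      rw [hΓ a, hG, hd1, mul_one, mul_one] at h4
      exact Nat.eq_of_mul_eq_mul_right hp.pos h4
    have hinj : Function.Injective (fun n : N => (n : G) • a) := by
      intro n m h
      have h4 : (n : G) • a = (m : G) • a := h
      have h5 := hNf ((m : G)⁻¹ * n) (N.mul_mem (N.inv_mem m.2) n.2) (by rw [mul_smul, h4, inv_smul_smul])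
      exact Subtype.ext (inv_mul_eq_one.mp h5).symm
    have hsur := (Function.Injective.bijective_of_nat_card_le hinj (by rw [hNc, Nat.card_eq_fintype_card, hα])).2
    intro c
    obtain ⟨n, hn⟩ := hsur c
    exact ⟨n, n.2, hn⟩
  -- the Zassenhaus case
  have hab : a ≠ b := Ne.symm hba
  have hZ : Cfsg.IsZassenhausGroup G α := by
    refine ⟨hf, ?_, ?_, ?_, ?_⟩
    · rw [is_two_pretransitive_iff]
      intro x y z w h h'
      obtain ⟨g, hg⟩ := hpt.exists_smul_eq x z
      obtain ⟨k, hk1, hk2⟩ := htr1 z (g • y) w (fun h5 => h (MulAction.injective g (hg.trans h5.symm))) (Ne.symm h')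
      exact ⟨k * g, by rw [mul_smul, hg, hk1], by rw [mul_smul, hk2]⟩
    · intro g x y z hxy hyz hxz hx hy hz
      obtain ⟨k, hk⟩ := hpt.exists_smul_eq x a
      have h4 : k * g * k⁻¹ = 1 := by
        have hka : k⁻¹ • a = x := by rw [inv_smul_eq_iff, hk]
        refine h3 (k * g * k⁻¹) (k • y) (k • z) (fun h5 => hxy (MulAction.injective k (hk.trans h5.symm))) (fun h5 => hxz (MulAction.injective k (hk.trans h5.symm)))
          (fun h5 => hyz (MulAction.injective k h5)) ?_ ?_ ?_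
        · rw [mul_smul, mul_smul, hka, hx, hk]
        · rw [mul_smul, mul_smul, inv_smul_smul, hy]
        · rw [mul_smul, mul_smul, inv_smul_smul, hz]
      calc g = k⁻¹ * (k * g * k⁻¹) * k := by group
        _ = 1 := by rw [h4]; group
    · have h5 : CfsgLib.Zas.EE G a b ≠ ⊥ := by
        intro h5
        have h6 := hEE a b hba
        rw [h5, Subgroup.card_bot] at h6
        exact hd1 h6.symm
      obtain ⟨e, he, he1⟩ := (Subgroup.bot_or_exists_ne_one _).resolve_left h5
      exact ⟨e, he1, a, b, hab, he.1, he.2⟩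
    · intro N hN hNt
      refine ⟨a, fun hNs => hreg ⟨N, hN, ?_, ?_⟩⟩
      · intro y
        obtain ⟨⟨n, hn⟩, hny⟩ := hNt.exists_smul_eq a y
        exact ⟨n, hn, hny⟩
      · intro n hn hna
        have h5 : (⟨n, hn⟩ : N) ∈ stabilizer N a := hna
        rw [hNs] at h5
        exact congrArg Subtype.val (Subgroup.mem_bot.mp h5)
  have D : CfsgLib.Zas.Dat G α a b H := ⟨hZ, hab, hHa, by rw [hHc, hα], hHfix⟩
  have hHcomm : ∀ x ∈ H, ∀ y ∈ H, x * y = y * x := by
    haveI := isCyclic_of_prime_card hHc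
    intro x hx y hy
    have h4 := (IsCyclic.commGroup (α := H)).mul_comm (⟨x, hx⟩ : H) ⟨y, hy⟩
    exact congrArg Subtype.val h4
  rcases D.abelian_case hHcomm with he | ⟨he, F, iF, iFF, hF1, ⟨e⟩⟩
  · left
    obtain ⟨F, iF, iFF, hF1, ⟨e⟩⟩ := D.pgl_of_comm he (hEc b hba) (by rw [hHc]; exact hp.odd_of_ne_two hp2)
    rw [hHc] at hF1
    refine ⟨?_, ⟨e.trans (CfsgLib.Dk29.pglCongr (FiniteField.ringEquivOfCardEq (by rw [hF1, ZMod.card])))⟩⟩
    rw [hEE a b hba, hHc] at he
    omega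
  · right; left
    rw [hHc] at hF1
    refine ⟨?_, ⟨e.trans (CfsgLib.Dk29.pslCongr (FiniteField.ringEquivOfCardEq (by rw [hF1, ZMod.card])))⟩⟩
    rw [hEE a b hba, hHc] at he
    omega

end CfsgLib.PG
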