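import Mathlib
import Cfsg.Agent.LibPRk9A
import Cfsg.Agent.LibH2Sup3
import Cfsg.Agent.LibChief9
import Cfsg.Agent.LibBGRk2

/-! S1895: chief factors in rank two, second part -/

set_option autoImplicit false
set_option maxHeartbeats 1000000

namespace CfsgLib.PRk9

open Subgroup Cfsg
open scoped commutatorElement

universe u

theorem case1 {G : Type u} [Group G] [Finite G] {p : ℕ} [hp : Fact p.Prime] (V P : Subgroup G) [hVn : V.Normal]
    [hPn : P.Normal] (hV : IsPGroup p V) (hV1 : V ≠ ⊥) (hmin : ∀ L : Subgroup G, L.Normal → L ≤ V → L = ⊥ ∨ L = V)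
    (hP : IsPGroup p P) (hcomm : ∀ g h : G, ⁅g, h⁆ ∈ P) (hpow : ∀ g : G, g ^ (p - 1) ∈ P) : Nat.card V = p := by
  have hch : IsChiefFactor V ⊥ := ⟨bot_lt_iff_ne_bot.2 hV1, hVn, inferInstance, fun L hL _ hLV => hmin L hL hLV⟩
  have hVP : ∀ v ∈ V, ∀ x ∈ P, v * x = x * v := by
    have h1 := CfsgLib.Chief9.pGroup_trivial hch hV hPn hP
    intro v hv x hx
    have h2 : ⁅v, x⁆ = 1 := by
      rw [← Subgroup.mem_bot]; exact h1 (commutator_mem_commutator hv hx)
    exact commutatorElement_eq_one_iff_mul_comm.1 h2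
  have hVV : ∀ v ∈ V, ∀ x ∈ V, v * x = x * v := by
    have h1 := CfsgLib.Chief9.pGroup_trivial hch hV hVn hV
    intro v hv x hx
    have h2 : ⁅v, x⁆ = 1 := by
      rw [← Subgroup.mem_bot]; exact h1 (commutator_mem_commutator hv hx)
    exact commutatorElement_eq_one_iff_mul_comm.1 h2
  have hVp : ∀ v ∈ V, v ^ p = 1 := by
    let L : Subgroup G :=
      { carrier := {v | v ∈ V ∧ v ^ p = 1}
        one_mem' := ⟨one_mem _, one_pow _⟩
        mul_mem' := by
          rintro a b ⟨ha, ha'⟩ ⟨hb, hb'⟩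
          refine ⟨V.mul_mem ha hb, ?_⟩
          rw [(show Commute a b from hVV a ha b hb).mul_pow, ha', hb', one_mul]
        inv_mem' := by
          rintro a ⟨ha, ha'⟩
          exact ⟨V.inv_mem ha, by rw [inv_pow, ha', inv_one]⟩ }
    have hLn : L.Normal := by
      refine ⟨fun x hx g => ⟨hVn.conj_mem x hx.1 g, ?_⟩⟩
      rw [conj_pow, hx.2]; group
    rcases hmin L hLn (fun x hx => hx.1) with h | h
    · exfalso
      have hpc : p ∣ Nat.card V := CfsgLib.BGPi.pgroup_dvd_card hp.out hV hV1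
      obtain ⟨v, hv⟩ := exists_prime_orderOf_dvd_card' p hpc
      have h1 : (v : G) ∈ L := ⟨v.2, by
        have := pow_orderOf_eq_one v
        rw [hv] at this
        exact congrArg Subtype.val this⟩
      rw [h, Subgroup.mem_bot] at h1
      have h2 : v = 1 := Subtype.ext h1
      rw [h2, orderOf_one] at hv
      exact hp.out.one_lt.ne hv
    · intro v hv
      rw [← h] at hv
      exact hv.2
  have key : ∀ h : G, ∃ c : ℕ, ∀ v ∈ V, h * v * h⁻¹ = v ^ c := by
    intro h
    obtain ⟨c, u, hu, hu1, huc⟩ := CfsgLib.H2Sup3.exists_eigen (N := V) (fun x hx y hy => hVV x hx y hy) hVp hV1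
      (h := h) (by rw [normalizer_eq_top]; trivial) (fun x hx => (hVP x hx _ (hpow h)).symm)
    refine ⟨c, ?_⟩
    let L : Subgroup G :=
      { carrier := {v | v ∈ V ∧ h * v * h⁻¹ = v ^ c}
        one_mem' := ⟨one_mem _, by rw [one_pow]; group⟩
        mul_mem' := by
          rintro a b ⟨ha, ha'⟩ ⟨hb, hb'⟩
          refine ⟨V.mul_mem ha hb, ?_⟩
          rw [(show Commute a b from hVV a ha b hb).mul_pow, ← ha', ← hb']; group
        inv_mem' := by
          rintro a ⟨ha, ha'⟩
          refine ⟨V.inv_mem ha, ?_⟩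
          rw [inv_pow, ← ha']; group }
    have hLn : L.Normal := by
      refine ⟨fun x hx g => ⟨hVn.conj_mem x hx.1 g, ?_⟩⟩
      have h1 : g * h * x * h⁻¹ * g⁻¹ ∈ V := by
        have h2 := hVn.conj_mem _ (hVn.conj_mem x hx.1 h) g
        have e : g * (h * x * h⁻¹) * g⁻¹ = g * h * x * h⁻¹ * g⁻¹ := by group
        rwa [e] at h2
      have h3 := hVP _ h1 _ (hcomm h g)
      rw [conj_pow, ← hx.2]
      calc h * (g * x * g⁻¹) * h⁻¹ = (⁅h, g⁆ * (g * h * x * h⁻¹ * g⁻¹)) * ⁅h, g⁆⁻¹ := by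
            rw [commutatorElement_def]; group
        _ = ((g * h * x * h⁻¹ * g⁻¹) * ⁅h, g⁆) * ⁅h, g⁆⁻¹ := by rw [h3]
        _ = g * (h * x * h⁻¹) * g⁻¹ := by group
    rcases hmin L hLn (fun x hx => hx.1) with h1 | h1
    · exfalso
      have h2 : u ∈ L := ⟨hu, huc⟩
      rw [h1, Subgroup.mem_bot] at h2
      exact hu1 h2
    · intro v hv
      rw [← h1] at hv
      exact hv.2
  obtain ⟨u, hu, hu1⟩ : ∃ u ∈ V, u ≠ 1 := by
    by_contra h
    push Not at h
    exact hV1 (eq_bot_iff.2 (fun x hx => Subgroup.mem_bot.2 (h x hx)))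
  have hzn : (zpowers u).Normal := by
    refine ⟨fun x hx g => ?_⟩
    obtain ⟨k, rfl⟩ := mem_zpowers_iff.1 hx
    obtain ⟨c, hc⟩ := key g
    rw [← conj_zpow, hc u hu]
    exact (zpowers u).zpow_mem ((zpowers u).pow_mem (mem_zpowers u) _) _
  rcases hmin (zpowers u) hzn (zpowers_le.2 hu) with h | h
  · exact absurd (zpowers_eq_bot.1 h) hu1
  · rw [← h, Nat.card_zpowers]
    exact orderOf_eq_prime (hVp u hu) hu1

theorem card_map_eq {G : Type u} [Group G] (H K : Subgroup G) [K.Normal] :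
    Nat.card (H.map (QuotientGroup.mk' K)) = K.relIndex H := by
  rw [← relIndex_bot_left, ← relIndex_comap, MonoidHom.comap_bot, QuotientGroup.ker_mk']

theorem case1' {G : Type u} [Group G] [Finite G] {p : ℕ} [hp : Fact p.Prime] {H K : Subgroup G} [hHn : H.Normal] [hKn : K.Normal]
    (hKH : K < H) (hpw : ∃ n, K.relIndex H = p ^ n)
    (hchief : ∀ L : Subgroup G, L.Normal → K ≤ L → L ≤ H → L = K ∨ L = H)
    (P : Subgroup G) [hPn : P.Normal] (hP : IsPGroup p P) (hcomm : ∀ g h : G, ⁅g, h⁆ ∈ P) (hpow : ∀ g : G, g ^ (p - 1) ∈ P) :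
    K.relIndex H = p := by
  rw [← card_map_eq]
  haveI : (H.map (QuotientGroup.mk' K)).Normal := hHn.map _ (QuotientGroup.mk'_surjective K)
  haveI : (P.map (QuotientGroup.mk' K)).Normal := hPn.map _ (QuotientGroup.mk'_surjective K)
  apply case1 _ (P.map (QuotientGroup.mk' K))
  · obtain ⟨n, hn⟩ := hpw
    rw [← card_map_eq] at hn
    exact IsPGroup.of_card hn
  · intro h
    have h1 : H ≤ K := by
      intro x hx
      have h2 : QuotientGroup.mk' K x ∈ H.map (QuotientGroup.mk' K) := mem_map_of_mem _ hx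
      rw [h, Subgroup.mem_bot] at h2
      exact (QuotientGroup.eq_one_iff x).1 h2
    exact hKH.not_ge h1
  · intro L hL hLV
    have h1 : (L.comap (QuotientGroup.mk' K)).map (QuotientGroup.mk' K) = L :=
      Subgroup.map_comap_eq_self_of_surjective (QuotientGroup.mk'_surjective K) L
    rcases hchief (L.comap (QuotientGroup.mk' K)) inferInstance (by
        intro x hx
        rw [mem_comap, QuotientGroup.mk'_apply, (QuotientGroup.eq_one_iff x).2 hx]; exact one_mem _) (by
        intro x hx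
        obtain ⟨y, hy, hyx⟩ := hLV hx
        have h2 : y⁻¹ * x ∈ K := QuotientGroup.eq.1 hyx
        have h3 : x = y * (y⁻¹ * x) := by group
        rw [h3]; exact H.mul_mem hy (hKH.le h2)) with h | h
    · left
      rw [← h1, h, Subgroup.map_eq_bot_iff, QuotientGroup.ker_mk']
    · right
      rw [← h1, h]
  · exact hP.map _
  · intro g h
    obtain ⟨g, rfl⟩ := QuotientGroup.mk'_surjective K g
    obtain ⟨h, rfl⟩ := QuotientGroup.mk'_surjective K h
    rw [← map_commutatorElement]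
    exact mem_map_of_mem _ (hcomm g h)
  · intro g
    obtain ⟨g, rfl⟩ := QuotientGroup.mk'_surjective K g
    rw [← map_pow]
    exact mem_map_of_mem _ (hpow g)

theorem transfer {G : Type u} [Group G] [Finite G] {H K N : Subgroup G} [hHn : H.Normal] [hKn : K.Normal] [N.Normal]
    (hKH : K ≤ H) (hchief : ∀ L : Subgroup G, L.Normal → K ≤ L → L ≤ H → L = K ∨ L = H) (hN : H ⊓ N ≤ K) :
    (K.map (QuotientGroup.mk' N)).relIndex (H.map (QuotientGroup.mk' N)) = K.relIndex H ∧
    ∀ L : Subgroup (G ⧸ N), L.Normal → K.map (QuotientGroup.mk' N) ≤ L → L ≤ H.map (QuotientGroup.mk' N) →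
      L = K.map (QuotientGroup.mk' N) ∨ L = H.map (QuotientGroup.mk' N) := by
  constructor
  · rw [← relIndex_comap, ← inf_relIndex_right]
    congr 1
    apply le_antisymm
    · rintro x ⟨⟨k, hk, hkx⟩, hx⟩
      have h1 : k⁻¹ * x ∈ N := QuotientGroup.eq.1 hkx
      have h2 : k⁻¹ * x ∈ K := hN ⟨H.mul_mem (H.inv_mem (hKH hk)) hx, h1⟩
      have h3 : x = k * (k⁻¹ * x) := by group
      rw [h3]; exact K.mul_mem hk h2
    · intro x hx
      exact ⟨⟨x, hx, rfl⟩, hKH hx⟩
  · intro L hL hKL hLH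
    have hLc : (L.comap (QuotientGroup.mk' N)).Normal := inferInstance
    rcases hchief (L.comap (QuotientGroup.mk' N) ⊓ H) inferInstance
      (le_inf (by rw [← map_le_iff_le_comap]; exact hKL) hKH) inf_le_right with h | h
    · left
      apply le_antisymm _ hKL
      intro y hy
      obtain ⟨x, hx, rfl⟩ := hLH hy
      have h1 : x ∈ L.comap (QuotientGroup.mk' N) ⊓ H := ⟨hy, hx⟩
      rw [h] at h1
      exact mem_map_of_mem _ h1
    · right
      apply le_antisymm hLH
      rw [map_le_iff_le_comap, ← h]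
      exact inf_le_left

theorem small_act {G : Type u} [Group G] [Finite G] {p : ℕ} [hp : Fact p.Prime] {X Y : Subgroup G} [hXn : X.Normal] [hYn : Y.Normal]
    (hpw : ∃ n, X.relIndex Y = p ^ n) (hle : X.relIndex Y ≤ p)
    {d : G} (hd : ∃ g h : G, d = ⁅g, h⁆ ∨ d = g ^ (p - 1)) : d ∈ CfsgLib.Chief9.kerCF Y X := by
  obtain ⟨n, hn⟩ := hpw
  rw [CfsgLib.Chief9.mem_kerCF]
  intro u hu
  have hn1 : n = 0 ∨ n = 1 := by
    have : p ^ n ≤ p ^ 1 := by rw [← hn, pow_one]; exact hle
    have := (Nat.pow_le_pow_iff_right hp.out.one_lt).1 this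
    omega
  rcases hn1 with rfl | rfl
  · rw [pow_zero, relIndex_eq_one] at hn
    apply hn
    have e : ⁅u, d⁆ = u * (d * u⁻¹ * d⁻¹) := by rw [commutatorElement_def]; group
    rw [e]
    exact Y.mul_mem hu (hYn.conj_mem _ (Y.inv_mem hu) d)
  · rw [pow_one, ← card_map_eq] at hn
    haveI : (Y.map (QuotientGroup.mk' X)).Normal := hYn.map _ (QuotientGroup.mk'_surjective X)
    have h1 := CfsgLib.H2Sup3.comm_prime hn (d := QuotientGroup.mk' X d) (by
      obtain ⟨g, h, h2 | h2⟩ := hd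
      · exact ⟨QuotientGroup.mk' X g, QuotientGroup.mk' X h, Or.inl (by rw [h2, map_commutatorElement])⟩
      · exact ⟨QuotientGroup.mk' X g, QuotientGroup.mk' X h, Or.inr (by rw [h2, map_pow])⟩)
      (QuotientGroup.mk' X u) (mem_map_of_mem _ hu)
    have h3 : QuotientGroup.mk' X ⁅u, d⁆ = 1 := by
      rw [map_commutatorElement, commutatorElement_eq_one_iff_mul_comm]
      have := mul_inv_eq_iff_eq_mul.1 h1
      exact this.symm
    exact (QuotientGroup.eq_one_iff _).1 h3

end CfsgLib.PRk9
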