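import Mathlib
import Cfsg.Agent.LibPRk9B
import Cfsg.Agent.LibCoprime

/-! S1895: chief factors in rank two, third part -/

set_option autoImplicit false
set_option maxHeartbeats 1000000

namespace CfsgLib.PRk9

open Subgroup Cfsg CfsgLib.Chief9
open scoped commutatorElement

universe u

/-- generation of `C` modulo `C'` by two elements, for centralizers -/
theorem cent_of_two {G : Type u} [Group G] {C : Subgroup G} (hC2 : ⁅C, C⁆ ≤ centralizer (C : Set G)) {c d w : G}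
    (hgen : C ≤ (zpowers c ⊔ ⁅C, C⁆) ⊔ zpowers d) (hc : c ∈ C) (hd : d ∈ C) (hwc : w * c = c * w) (hwd : w * d = d * w) :
    w ∈ centralizer (C : Set G) := by
  set D : Subgroup G := C ⊓ centralizer ({w} : Set G) with hD
  have hcD : c ∈ D := mem_inf.2 ⟨hc, mem_centralizer_iff.2 (by rintro _ rfl; exact hwc)⟩
  have hdD : d ∈ D := mem_inf.2 ⟨hd, mem_centralizer_iff.2 (by rintro _ rfl; exact hwd)⟩
  have hCC : ⁅C, C⁆ ≤ C := commutator_le_self C
  have hnn : ⁅C, C⁆ ≤ centralizer (C : Set G) := hC2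
  -- every element of `C` is `x z` with `x ∈ D`, `z ∈ C'`
  let Q : Subgroup G :=
    { carrier := {x | ∃ a ∈ D, ∃ z ∈ (⁅C, C⁆ : Subgroup G), x = a * z}
      one_mem' := ⟨1, one_mem _, 1, one_mem _, by simp⟩
      mul_mem' := by
        rintro _ _ ⟨a, ha, z, hz, rfl⟩ ⟨b, hb, y, hy, rfl⟩
        refine ⟨a * b, D.mul_mem ha hb, z * y, mul_mem hz hy, ?_⟩
        have h1 : b * z = z * b := mem_centralizer_iff.1 (hC2 hz) b hb.1
        calc a * z * (b * y) = a * (z * b) * y := by group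
          _ = a * (b * z) * y := by rw [h1]
          _ = a * b * (z * y) := by group
      inv_mem' := by
        rintro _ ⟨a, ha, z, hz, rfl⟩
        refine ⟨a⁻¹, D.inv_mem ha, z⁻¹, inv_mem hz, ?_⟩
        have h1 : a * z = z * a := mem_centralizer_iff.1 (hC2 hz) a ha.1
        rw [h1]; group }
  have hCQ : C ≤ Q := by
    refine hgen.trans (sup_le (sup_le ?_ ?_) ?_)
    · rw [zpowers_le]; exact ⟨c, hcD, 1, one_mem _, by simp⟩
    · intro z hz; exact ⟨1, one_mem _, z, hz, by simp⟩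
    · rw [zpowers_le]; exact ⟨d, hdD, 1, one_mem _, by simp⟩
  have hCD : ⁅C, C⁆ ≤ D := by
    rw [commutator_le]
    intro x hx y hy
    obtain ⟨a, ha, z, hz, rfl⟩ := hCQ hx
    obtain ⟨b, hb, v, hv, rfl⟩ := hCQ hy
    have hz1 : ∀ u ∈ C, u * z = z * u := fun u hu => mem_centralizer_iff.1 (hC2 hz) u hu
    have hv1 : ∀ u ∈ C, u * v = v * u := fun u hu => mem_centralizer_iff.1 (hC2 hv) u hu
    have e : ⁅a * z, b * v⁆ = ⁅a, b⁆ := by
      rw [commutatorElement_def, commutatorElement_def]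
      have h1 := hz1 b hb.1
      have h2 := hv1 a ha.1
      have h3 := hz1 v (hCC hv)
      calc a * z * (b * v) * (a * z)⁻¹ * (b * v)⁻¹ = a * (z * b) * v * (z⁻¹ * a⁻¹) * (v⁻¹ * b⁻¹) := by group
        _ = a * (b * z) * v * (z⁻¹ * a⁻¹) * (v⁻¹ * b⁻¹) := by rw [h1]
        _ = a * b * (z * v) * z⁻¹ * a⁻¹ * v⁻¹ * b⁻¹ := by group
        _ = a * b * (v * z) * z⁻¹ * a⁻¹ * v⁻¹ * b⁻¹ := by rw [h3]
        _ = a * b * (v * a⁻¹) * v⁻¹ * b⁻¹ := by group
        _ = a * b * (a⁻¹ * v) * v⁻¹ * b⁻¹ := by rw [hv1 a⁻¹ (C.inv_mem ha.1)]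
        _ = a * b * a⁻¹ * b⁻¹ := by group
    rw [e, commutatorElement_def]
    exact D.mul_mem (D.mul_mem (D.mul_mem ha hb) (D.inv_mem ha)) (D.inv_mem hb)
  rw [mem_centralizer_iff]
  intro x hx
  obtain ⟨a, ha, z, hz, rfl⟩ := hCQ hx
  have h1 : a * z ∈ D := D.mul_mem ha (hCD hz)
  exact (mem_centralizer_iff.1 h1.2 w rfl).symm

/-- the index of the centralizer -/
theorem relIndex_cent {G : Type u} [Group G] [Finite G] {p : ℕ} [hp : Fact p.Prime] {C P : Subgroup G} [C.Normal]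
    (hC2 : ⁅C, C⁆ ≤ centralizer (C : Set G)) (hcard : Nat.card (⁅C, C⁆ : Subgroup G) ≤ p)
    (hPC : ⁅C, P⁆ ≤ ⁅C, C⁆) {c d : G} (hgen : C ≤ (zpowers c ⊔ ⁅C, C⁆) ⊔ zpowers d) (hc : c ∈ C) (hd : d ∈ C) :
    (P ⊓ centralizer (C : Set G)).relIndex P ≤ p ^ 2 := by
  set Z : Subgroup G := ⁅C, C⁆ with hZ
  set E := P ⊓ centralizer (C : Set G) with hE
  let F : (P ⧸ E.subgroupOf P) → Z × Z := fun q =>
    (⟨⁅c, ((q.out : P) : G)⁆, hPC (commutator_mem_commutator hc q.out.2)⟩,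
      ⟨⁅d, ((q.out : P) : G)⁆, hPC (commutator_mem_commutator hd q.out.2)⟩)
  have hF : Function.Injective F := by
    intro q r h
    have h1 : ⁅c, ((q.out : P) : G)⁆ = ⁅c, ((r.out : P) : G)⁆ := congrArg (fun x => ((x.1 : Z) : G)) h
    have h2 : ⁅d, ((q.out : P) : G)⁆ = ⁅d, ((r.out : P) : G)⁆ := congrArg (fun x => ((x.2 : Z) : G)) h
    have hcom : ∀ (e x y : G), ⁅e, x⁆ = ⁅e, y⁆ → (x⁻¹ * y) * e = e * (x⁻¹ * y) := by
      intro e x y h
      rw [commutatorElement_def, commutatorElement_def] at h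
      have h3 : x * e⁻¹ * x⁻¹ = y * e⁻¹ * y⁻¹ := by
        have : e * (x * e⁻¹ * x⁻¹) = e * (y * e⁻¹ * y⁻¹) := by
          calc e * (x * e⁻¹ * x⁻¹) = e * x * e⁻¹ * x⁻¹ := by group
            _ = e * y * e⁻¹ * y⁻¹ := h
            _ = e * (y * e⁻¹ * y⁻¹) := by group
        exact mul_left_cancel this
      have h4 : x * e * x⁻¹ = y * e * y⁻¹ := by
        have := congrArg (·⁻¹) h3
        simpa [mul_assoc] using this
      calc (x⁻¹ * y) * e = x⁻¹ * (y * e * y⁻¹) * y := by group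
        _ = x⁻¹ * (x * e * x⁻¹) * y := by rw [h4]
        _ = e * (x⁻¹ * y) := by group
    have h5 := cent_of_two hC2 hgen hc hd (hcom _ _ _ h1) (hcom _ _ _ h2)
    rw [← QuotientGroup.out_eq' q, ← QuotientGroup.out_eq' r]
    apply QuotientGroup.eq.2
    rw [mem_subgroupOf]
    exact mem_inf.2 ⟨(q.out⁻¹ * r.out).2, h5⟩
  have h1 : E.relIndex P = Nat.card (P ⧸ E.subgroupOf P) := rfl
  rw [h1]
  refine (Nat.card_le_card_of_injective F hF).trans ?_
  rw [Nat.card_prod, pow_two]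
  exact Nat.mul_le_mul hcard hcard

end CfsgLib.PRk9
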