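import Mathlib
import Cfsg.Agent.LibPRk9C
import Cfsg.Agent.LibCoprime
import Cfsg.Agent.LibPSolv19
import Cfsg.Agent.LibH2Stab
import Cfsg.Prelude.Def_CaseTheorems

/-! S1895: chief factors in rank two, main part -/

set_option autoImplicit false
set_option maxHeartbeats 1000000

namespace CfsgLib.PRk9

open Subgroup Cfsg CfsgLib.Chief9
open scoped commutatorElement

universe u

theorem gl_part {p : ℕ} [hp : Fact p.Prime] {e n : ℕ} (he : e ≤ 2) (h : p ^ n ∣ Nat.card (GL (Fin e) (ZMod p))) :
    p ^ n ≤ p ^ 2 := by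
  have hp1 := hp.out.one_lt
  have hp0 := hp.out.pos
  rw [Matrix.card_GL_field] at h
  rw [ZMod.card] at h
  interval_cases e
  · simp at h
    have h1 : p ^ n = 1 := by
      rcases h with h | h
      · exact absurd h hp1.ne'
      · rw [h, pow_zero]
    rw [h1]; exact Nat.one_le_pow _ _ hp0
  · simp at h
    have h1 : p ^ n ≤ p - 1 := Nat.le_of_dvd (by omega) h
    have h2 : p ≤ p ^ 2 := Nat.le_self_pow (by norm_num) p
    omega
  · rw [Fin.prod_univ_two] at h
    simp only [Fin.val_zero, Fin.val_one, pow_zero, pow_one] at h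
    apply Nat.pow_le_pow_right hp0
    by_contra hn
    have hn2 : 2 ≤ n := by omega
    have h1 : p ^ 2 ∣ (p ^ 2 - 1) * (p ^ 2 - p) := (pow_dvd_pow p hn2).trans h
    have h2 : p ^ 2 - p = p * (p - 1) := by
      rw [Nat.mul_sub, mul_one, pow_two]
    have h3 : p ∣ (p ^ 2 - 1) * (p - 1) := by
      rw [h2] at h1
      have h4 : p * p ∣ p * ((p ^ 2 - 1) * (p - 1)) := by
        have e1 : (p ^ 2 - 1) * (p * (p - 1)) = p * ((p ^ 2 - 1) * (p - 1)) := by ring
        rw [← e1, ← pow_two]; exact h1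
      exact Nat.dvd_of_mul_dvd_mul_left hp0 h4
    rcases hp.out.dvd_mul.1 h3 with h4 | h4
    · have h5 : p ∣ p ^ 2 := dvd_pow_self p (by norm_num)
      have h6 : 1 ≤ p ^ 2 := Nat.one_le_pow _ _ hp0
      have h7 : p ∣ 1 := by
        have := (Nat.dvd_sub h5 h4)
        rwa [Nat.sub_sub_self h6] at this
      exact hp1.ne' (Nat.dvd_one.1 h7)
    · have h5 := Nat.le_of_dvd (by omega) h4
      omega

theorem mem_of_rank {G : Type u} [Group G] [Finite G] {p : ℕ} (hr : PRankLE p 2 G) {A : Subgroup G}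
    (hAc : ∀ x ∈ A, ∀ y ∈ A, x * y = y * x) (hAp : ∀ a ∈ A, a ^ p = 1) (hA : p ^ 2 ≤ Nat.card A) {x : G}
    (hxp : x ^ p = 1) (hxA : ∀ a ∈ A, a * x = x * a) : x ∈ A := by
  let L : Subgroup G :=
    { carrier := {y | ∃ a ∈ A, ∃ k : ℤ, y = a * x ^ k}
      one_mem' := ⟨1, one_mem _, 0, by simp⟩
      mul_mem' := by
        rintro _ _ ⟨a, ha, k, rfl⟩ ⟨b, hb, l, rfl⟩
        refine ⟨a * b, A.mul_mem ha hb, k + l, ?_⟩
        have h1 : Commute b (x ^ k) := Commute.zpow_right (show Commute b x from hxA b hb) k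
        rw [zpow_add]
        calc a * x ^ k * (b * x ^ l) = a * (x ^ k * b) * x ^ l := by group
          _ = a * (b * x ^ k) * x ^ l := by rw [h1.eq]
          _ = a * b * (x ^ k * x ^ l) := by group
      inv_mem' := by
        rintro _ ⟨a, ha, k, rfl⟩
        refine ⟨a⁻¹, A.inv_mem ha, -k, ?_⟩
        have h1 : Commute a⁻¹ (x ^ (-k)) := Commute.zpow_right (Commute.inv_left (show Commute a x from hxA a ha)) (-k)
        rw [mul_inv_rev, ← zpow_neg, h1.eq] }
  have hAL : A ≤ L := fun a ha => ⟨a, ha, 0, by simp⟩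
  have hxL : x ∈ L := ⟨1, one_mem _, 1, by simp⟩
  have hcard : Nat.card L ≤ p ^ 2 := by
    apply hr
    · refine ⟨⟨?_⟩⟩
      rintro ⟨_, a, ha, k, rfl⟩ ⟨_, b, hb, l, rfl⟩
      apply Subtype.ext
      change (a * x ^ k) * (b * x ^ l) = (b * x ^ l) * (a * x ^ k)
      have h1 : Commute b (x ^ k) := Commute.zpow_right (show Commute b x from hxA b hb) k
      have h2 : Commute a (x ^ l) := Commute.zpow_right (show Commute a x from hxA a ha) l
      have h3 : Commute a b := hAc a ha b hb
      have h4 : Commute (x ^ k) (x ^ l) := (Commute.refl x).zpow_zpow k l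
      exact ((h3.mul_right h2).mul_left (h1.symm.mul_right h4)).eq
    · rintro _ ⟨a, ha, k, rfl⟩
      have h2 : Commute a (x ^ k) := Commute.zpow_right (show Commute a x from hxA a ha) k
      rw [h2.mul_pow, hAp a ha, ← zpow_natCast, ← zpow_mul, mul_comm k, zpow_mul, zpow_natCast, hxp, one_zpow, one_mul]
  have h5 : A = L := Subgroup.eq_of_le_of_card_ge hAL (hcard.trans hA)
  rw [h5]; exact hxL

theorem main1 {G : Type u} [Group G] [Finite G] {p : ℕ} [hp : Fact p.Prime] (hp2 : p ≠ 2) (hr : PRankLE p 2 G)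
    (hHH : centralizer (pCore p G : Set G) ≤ pCore p G) {H K : Subgroup G} [hHn : H.Normal] [hKn : K.Normal]
    (hKH : K < H) (hpw : ∃ n, K.relIndex H = p ^ n)
    (hchief : ∀ L : Subgroup G, L.Normal → K ≤ L → L ≤ H → L = K ∨ L = H) : K.relIndex H ≤ p ^ 2 := by
  have hp1 := hp.out.one_lt
  have hp0 := hp.out.pos
  set P := pCore p G with hP
  have hPp : IsPGroup p P := CfsgLib.Cores.pCore_isPGroup p
  have hPn : P.Normal := inferInstance
  have hnz : ∀ (N : Subgroup G), N.Normal → ∀ (M : Subgroup G), M ≤ normalizer (N : Set G) := by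
    intro N hN M
    rw [normalizer_eq_top]; exact le_top
  obtain ⟨C, hCP, hRC, hC1, hC2, hCA⟩ := CfsgLib.BGPi.exists_crit hp.out hp2 hPp
  have hCn : C.Normal := by
    rw [← normalizer_eq_top_iff, eq_top_iff]
    exact (hnz P hPn ⊤).trans hRC
  have hCp : IsPGroup p C := hPp.to_le hCP
  have hsmall := CfsgLib.BGPi.small_crit hp.out hCp hC1 hC2 (CfsgLib.BGPi.rank_of_top hr)
  set C' : Subgroup G := ⁅C, C⁆ with hC'
  have hC'C : C' ≤ C := commutator_le_self C
  have hC'n : C'.Normal := inferInstance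
  have hpwr : ∀ X Y : Subgroup G, Y ≤ C → ∃ n, X.relIndex Y = p ^ n := by
    intro X Y hY
    obtain ⟨k, hk⟩ := IsPGroup.iff_card.1 (hCp.to_le hY)
    have h1 : X.relIndex Y ∣ p ^ k := by rw [← hk]; exact relIndex_dvd_card _ _
    obtain ⟨m, -, hm⟩ := (Nat.dvd_prime_pow hp.out).1 h1
    exact ⟨m, hm⟩
  have hker : ∀ x : G, (orderOf x).Coprime p → ⁅C, zpowers x⁆ ≤ C' → x = 1 := by
    intro x hx h
    have hcop : (Nat.card (zpowers x)).Coprime p := by rw [Nat.card_zpowers]; exact hx
    have h1 := CfsgLib.BGPi.cz_of_comm_le hp.out hCp (hnz C hCn _) hcop hC2 h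
    have h2 := hCA (zpowers x) (hnz P hPn _) hcop h1
    exact eq_one_of_mem_pGroup hPp (hHH (h2 (mem_zpowers x))) hx
  by_cases hI : ∃ L : Subgroup G, L.Normal ∧ C' ≤ L ∧ L ≤ C ∧ C'.relIndex L ≤ p ∧ L.relIndex C ≤ p
  · obtain ⟨L, hLn, h1, h2, h3, h4⟩ := hI
    haveI := kerCF_normal C L
    haveI := kerCF_normal L C'
    have hK₂ : IsPGroup p (kerCF C L ⊓ kerCF L C' : Subgroup G) := by
      apply isPGroup_of_no_coprime
      intro x hx hxo
      apply hker x hxo
      have h5 : ⁅C, zpowers x⁆ ≤ L := zpowers_kerCF.1 hx.1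
      have h6 : ⁅L, zpowers x⁆ ≤ C' := zpowers_kerCF.1 hx.2
      have hcop : (Nat.card (zpowers x)).Coprime (Nat.card C) := by
        obtain ⟨k, hk⟩ := IsPGroup.iff_card.1 hCp
        rw [Nat.card_zpowers, hk]
        exact Nat.Coprime.pow_right k hxo
      rw [← CfsgLib.Coprime.commutator_commutator_eq (A := zpowers x) (K := C) (hnz C hCn _) hcop (Or.inl inferInstance)]
      exact (commutator_mono h5 le_rfl).trans h6
    have hK₂P : (kerCF C L ⊓ kerCF L C' : Subgroup G) ≤ P := CfsgLib.Cores.le_pCore inferInstance hK₂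
    have hJ : ∀ d : G, (∃ g h : G, d = ⁅g, h⁆ ∨ d = g ^ (p - 1)) → d ∈ P := fun d hd =>
      hK₂P (mem_inf.2 ⟨small_act (hpwr L C le_rfl) h4 hd, small_act (hpwr C' L h2) h3 hd⟩)
    rw [case1' hKH hpw hchief P hPp (fun g h => hJ _ ⟨g, h, Or.inl rfl⟩) (fun g => hJ _ ⟨g, 1, Or.inr rfl⟩)]
    exact Nat.le_self_pow (by norm_num) p
  · have hC'idx : C'.relIndex C = p ^ 2 := by
      obtain ⟨n, hn⟩ := hpwr C' C le_rfl
      have h1 : n ≤ 2 := by
        rw [hn] at hsmall
        exact (Nat.pow_le_pow_iff_right hp1).1 hsmall.1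
      have h2 : ¬ n ≤ 1 := by
        intro h
        apply hI
        refine ⟨C', hC'n, le_rfl, hC'C, ?_, ?_⟩
        · rw [relIndex_self]; exact hp1.le
        · rw [hn]
          calc p ^ n ≤ p ^ 1 := Nat.pow_le_pow_right hp0 h
            _ = p := pow_one p
      rw [hn, show n = 2 by omega]
    have hcardC : Nat.card C' * p ^ 2 = Nat.card C := by
      rw [← hC'idx]
      exact CfsgLib.BGPi.card_mul_relIndex hC'C
    have hC'card : Nat.card C' ≤ p := by
      have h1 := hsmall.2
      rw [← hcardC] at h1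
      have h2 : Nat.card C' * p ^ 2 ≤ p * p ^ 2 := by
        calc _ ≤ p ^ 3 := h1
          _ = p * p ^ 2 := by ring
      exact Nat.le_of_mul_le_mul_right h2 (pow_pos hp0 2)
    have hlt : C' < C := by
      refine lt_of_le_of_ne hC'C (fun h => ?_)
      rw [h, relIndex_self] at hC'idx
      have := Nat.one_lt_pow (n := 2) (by norm_num) hp1
      omega
    have hchiefC : IsChiefFactor C C' := by
      refine ⟨hlt, hCn, hC'n, fun L hL h1 h2 => ?_⟩
      by_contra hcon
      push Not at hcon
      obtain ⟨hLC', hLC⟩ := hcon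
      obtain ⟨a, ha⟩ := hpwr C' L h2
      obtain ⟨b, hb⟩ := hpwr L C le_rfl
      have hab : C'.relIndex L * L.relIndex C = C'.relIndex C := relIndex_mul_relIndex C' L C h1 h2
      rw [ha, hb, hC'idx, ← pow_add] at hab
      have hab' : a + b = 2 := Nat.pow_right_injective hp.out.two_le hab
      have ha0 : a ≠ 0 := by
        rintro rfl
        rw [pow_zero, relIndex_eq_one] at ha
        exact hLC' (le_antisymm ha h1)
      have hb0 : b ≠ 0 := by
        rintro rfl
        rw [pow_zero, relIndex_eq_one] at hb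
        exact hLC (le_antisymm h2 hb)
      apply hI
      refine ⟨L, hL, h1, h2, ?_, ?_⟩
      · rw [ha, show a = 1 by omega, pow_one]
      · rw [hb, show b = 1 by omega, pow_one]
    have hPC : ⁅C, P⁆ ≤ C' := pGroup_trivial hchiefC hCp hPn hPp
    -- generators
    obtain ⟨c, hc, hcC'⟩ := SetLike.exists_of_lt hlt
    set A₀ : Subgroup G := zpowers c ⊔ C' with hA₀
    have hA₀C : A₀ ≤ C := sup_le (zpowers_le.2 hc) hC'C
    have hA₀idx : C'.relIndex A₀ ≤ p := by
      rw [hA₀, relIndex_sup_right]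
      have h1 : C'.relIndex (zpowers c) ∣ p := by
        refine (relIndex_dvd_card _ _).trans ?_
        rw [Nat.card_zpowers]; exact orderOf_dvd_of_pow_eq_one (hC1 c hc)
      exact Nat.le_of_dvd hp0 h1
    have hA₀lt : A₀ < C := by
      refine lt_of_le_of_ne hA₀C (fun h => ?_)
      rw [h, hC'idx] at hA₀idx
      have : p ^ 1 < p ^ 2 := Nat.pow_lt_pow_right hp1 (by norm_num)
      rw [pow_one] at this
      omega
    obtain ⟨d, hd, hdA₀⟩ := SetLike.exists_of_lt hA₀lt
    have hC'A₀ : C' < A₀ := by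
      refine lt_of_le_of_ne le_sup_right (fun h => hcC' ?_)
      rw [h]; exact mem_sup_left (mem_zpowers c)
    have hcard1 : p * Nat.card C' ≤ Nat.card A₀ :=
      CfsgLib.BGPi.pgroup_mul_card_le hp.out (hCp.to_le hA₀C) hC'A₀
    have hgen : C ≤ (zpowers c ⊔ C') ⊔ zpowers d := by
      have h1 : A₀ < A₀ ⊔ zpowers d := by
        refine lt_of_le_of_ne le_sup_left (fun h => hdA₀ ?_)
        rw [h]; exact mem_sup_right (mem_zpowers d)
      have h2 : A₀ ⊔ zpowers d ≤ C := sup_le hA₀C (zpowers_le.2 hd)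
      have h3 := CfsgLib.BGPi.pgroup_mul_card_le hp.out (hCp.to_le h2) h1
      have h4 : A₀ ⊔ zpowers d = C := by
        apply Subgroup.eq_of_le_of_card_ge h2
        rw [← hcardC]
        calc Nat.card C' * p ^ 2 = p * (p * Nat.card C') := by ring
          _ ≤ p * Nat.card A₀ := Nat.mul_le_mul_left p hcard1
          _ ≤ _ := h3
      exact h4.ge
    -- a large elementary abelian subgroup of `C`
    have hAex : ∃ A ≤ C, (∀ x ∈ A, ∀ y ∈ A, x * y = y * x) ∧ p ^ 2 ≤ Nat.card A := by
      by_cases h1 : C' = ⊥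
      · refine ⟨C, le_rfl, ?_, ?_⟩
        · intro x hx y hy
          have h2 : ⁅x, y⁆ ∈ C' := commutator_mem_commutator hx hy
          rw [h1, Subgroup.mem_bot] at h2
          exact commutatorElement_eq_one_iff_mul_comm.1 h2
        · rw [← hcardC]
          exact Nat.le_mul_of_pos_left _ Nat.card_pos
      · refine ⟨A₀, hA₀C, ?_, ?_⟩
        · have h2 : A₀ ≤ centralizer (A₀ : Set G) := by
            rw [hA₀]
            apply sup_le
            · rw [zpowers_le, mem_centralizer_iff]
              intro y hy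
              have h3 : zpowers c ⊔ C' ≤ centralizer ({c} : Set G) := by
                apply sup_le
                · rw [zpowers_le, mem_centralizer_iff]
                  rintro _ rfl; rfl
                · intro z hz
                  rw [mem_centralizer_iff]
                  rintro _ rfl
                  exact mem_centralizer_iff.1 (hC2 hz) _ hc
              exact (mem_centralizer_iff.1 (h3 hy) c rfl).symm
            · exact hC2.trans (centralizer_le hA₀C)
          intro x hx y hy
          exact (mem_centralizer_iff.1 (h2 hx) y hy).symm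
        · have h2 : p ≤ Nat.card C' :=
            Nat.le_of_dvd Nat.card_pos (CfsgLib.BGPi.pgroup_dvd_card hp.out (hCp.to_le hC'C) h1)
          calc p ^ 2 = p * p := pow_two p
            _ ≤ p * Nat.card C' := Nat.mul_le_mul_left p h2
            _ ≤ _ := hcard1
    obtain ⟨A, hAC, hAc, hAcard⟩ := hAex
    have hAle : Nat.card A ≤ p ^ 2 :=
      hr A ⟨⟨fun x y => Subtype.ext (hAc x x.2 y y.2)⟩⟩ (fun a ha => hC1 a (hAC ha))
    set E : Subgroup G := P ⊓ centralizer (C : Set G) with hE
    haveI : (centralizer (C : Set G)).Normal := inferInstance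
    haveI hEn : E.Normal := inferInstance
    have hEA : ∀ x ∈ E, x ^ p = 1 → x ∈ A := by
      intro x hx hxp
      exact mem_of_rank hr (fun x hx y hy => hAc x hx y hy) (fun a ha => hC1 a (hAC ha)) hAcard hxp
        (fun a ha => mem_centralizer_iff.1 hx.2 a (hAC ha))
    have hEcen : ∀ x ∈ E, x ^ p = 1 → ∀ y ∈ E, x * y = y * x := by
      intro x hx hxp y hy
      exact mem_centralizer_iff.1 hy.2 x (hAC (hEA x hx hxp))
    have hEP : E ≤ P := inf_le_left
    rcases pcentral_chief hp2 E (hPp.to_le hEP) hEcen A hAle hEA hKH.le hchief with h | h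
    swap
    · exact h
    rcases step hKH.le hchief hEP h with h | h
    swap
    · have h1 := relIndex_cent (p := p) hC2 hC'card hPC hgen hc hd
      refine le_trans (Nat.le_of_dvd (Nat.pos_of_ne_zero ?_) h) h1
      exact Subgroup.index_ne_zero_of_finite (H := E.subgroupOf P)
    rcases step hKH.le hchief (le_top : P ≤ ⊤) h with h | h
    · exfalso
      rw [inf_top_eq] at h
      exact hKH.not_ge h
    · obtain ⟨n, hn⟩ := hpw
      rw [hn]
      obtain ⟨e, he, φ, hφ⟩ := CfsgLib.BGPi.act_small (A := (⊤ : Subgroup G)) hp.out hCp hC1 (hnz C hCn _) hsmall.1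
      apply gl_part he
      haveI := kerCF_normal C C'
      have hK₁ : IsPGroup p (kerCF C C' : Subgroup G) := by
        apply isPGroup_of_no_coprime
        intro x hx hxo
        exact hker x hxo (zpowers_kerCF.1 hx)
      have hK₁P : (kerCF C C' : Subgroup G) ≤ P := CfsgLib.Cores.le_pCore inferInstance hK₁
      have h1 : φ.ker ≤ P.subgroupOf ⊤ := by
        intro a ha
        rw [mem_subgroupOf]
        apply hK₁P
        rw [mem_kerCF]
        intro c hc
        have h2 := hφ a ha c hc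
        have h3 : ⁅c, (a : G)⁆ = ((a : G) * c * (a : G)⁻¹ * c⁻¹)⁻¹ := by
          rw [commutatorElement_def]; group
        rw [h3]
        exact C'.inv_mem h2
      rw [hn] at h
      refine h.trans ((index_dvd_of_le h1).trans ?_)
      rw [index_ker]
      exact Subgroup.card_subgroup_dvd_card _

end CfsgLib.PRk9
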