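import Mathlib
import Cfsg.Agent.LibPRk9D
import Cfsg.Agent.LibPSolv19
import Cfsg.Agent.LibH2Stab
import Cfsg.Prelude.Def_CaseTheorems
import Cfsg.Prelude.Def_Local

/-! S1895: chief factors in rank two, conclusion -/

set_option autoImplicit false
set_option maxHeartbeats 1000000

namespace CfsgLib.PRk9

open Subgroup Cfsg
open scoped commutatorElement

universe u

theorem rank_quot {G : Type u} [Group G] [Finite G] {p : ℕ} [hp : Fact p.Prime] (N : Subgroup G) [N.Normal]
    (hN : (Nat.card N).Coprime p) (hr : PRankLE p 2 G) : PRankLE p 2 (G ⧸ N) := by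
  intro A hA hAp
  have hApg : IsPGroup p A := fun a => ⟨1, Subtype.ext (by rw [pow_one]; exact hAp a a.2)⟩
  obtain ⟨W, hW, hWA⟩ := CfsgLib.H2Stab.exists_isPGroup_map_eq (N := N) A hApg
  have hinj : ∀ w ∈ W, w ∈ N → w = 1 := by
    intro w hw hwN
    have hco : (Nat.card W).Coprime (Nat.card N) := by
      obtain ⟨k, hk⟩ := IsPGroup.iff_card.1 hW
      rw [hk]; exact (Nat.Coprime.pow_right k hN).symm
    have h1 : W ⊓ N = ⊥ := disjoint_iff.1 (Subgroup.disjoint_of_coprime_natCard hco)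
    rw [← Subgroup.mem_bot, ← h1]
    exact mem_inf.2 ⟨hw, hwN⟩
  have hcard : Nat.card W = Nat.card A := by
    apply Nat.card_congr
    refine Equiv.ofBijective (fun w => ⟨QuotientGroup.mk' N w, by rw [← hWA]; exact mem_map_of_mem _ w.2⟩) ⟨?_, ?_⟩
    · intro v w h
      have h1 : QuotientGroup.mk' N v = QuotientGroup.mk' N w := congrArg Subtype.val h
      have h2 : (v : G)⁻¹ * w ∈ N := QuotientGroup.eq.1 h1
      have h3 := hinj _ (W.mul_mem (W.inv_mem v.2) w.2) h2
      exact Subtype.ext (inv_mul_eq_one.1 h3)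
    · rintro ⟨a, ha⟩
      rw [← hWA] at ha
      obtain ⟨w, hw, rfl⟩ := ha
      exact ⟨⟨w, hw⟩, rfl⟩
  rw [← hcard]
  apply hr W
  · refine ⟨⟨?_⟩⟩
    rintro ⟨v, hv⟩ ⟨w, hw⟩
    apply Subtype.ext
    change v * w = w * v
    rw [← commutatorElement_eq_one_iff_mul_comm]
    apply hinj
    · rw [commutatorElement_def]
      exact W.mul_mem (W.mul_mem (W.mul_mem hv hw) (W.inv_mem hv)) (W.inv_mem hw)
    · apply (QuotientGroup.eq_one_iff _).1
      change QuotientGroup.mk' N ⁅v, w⁆ = 1
      rw [map_commutatorElement, commutatorElement_eq_one_iff_mul_comm]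
      have h1 : QuotientGroup.mk' N v ∈ A := by rw [← hWA]; exact mem_map_of_mem _ hv
      have h2 : QuotientGroup.mk' N w ∈ A := by rw [← hWA]; exact mem_map_of_mem _ hw
      exact congrArg Subtype.val (hA.is_comm.comm (⟨_, h1⟩ : A) ⟨_, h2⟩)
  · intro w hw
    apply hinj _ (W.pow_mem hw _)
    apply (QuotientGroup.eq_one_iff _).1
    change QuotientGroup.mk' N (w ^ p) = 1
    rw [map_pow]
    exact hAp _ (by rw [← hWA]; exact mem_map_of_mem _ hw)

theorem main {G : Type u} [Group G] [Finite G] {p : ℕ} [hp : Fact p.Prime] (hp2 : p ≠ 2)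
    (hG : IsPSolvable p G) (hr : PRankLE p 2 G)
    (H K : Subgroup G) [hHn : H.Normal] [hKn : K.Normal] (hKH : K < H) (hpow : ∃ n : ℕ, K.relIndex H = p ^ n)
    (hchief : ∀ L : Subgroup G, L.Normal → K ≤ L → L ≤ H → L = K ∨ L = H) :
    K.relIndex H = p ∨ K.relIndex H = p ^ 2 := by
  obtain ⟨n, hn⟩ := hpow
  have hn0 : n ≠ 0 := by
    rintro rfl
    rw [pow_zero, relIndex_eq_one] at hn
    exact hKH.not_ge hn
  have hle : K.relIndex H ≤ p ^ 2 := by
    set N := pPrimeCore p G with hNdef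
    have hNco : (Nat.card N).Coprime p := CfsgLib.Cores.pPrimeCore_coprime p
    have hN : H ⊓ N ≤ K := by
      rcases step hKH.le hchief (bot_le : ⊥ ≤ N) (by rw [inf_bot_eq]; exact bot_le) with h | h
      · exact h
      · exfalso
        rw [relIndex_bot_left, hn] at h
        have h1 : p ∣ Nat.card N := (dvd_pow_self p hn0).trans h
        exact ((Nat.Prime.coprime_iff_not_dvd hp.out).1 hNco.symm) h1
    obtain ⟨h1, h2⟩ := transfer hKH.le hchief hN
    rw [← h1]
    haveI : (H.map (QuotientGroup.mk' N)).Normal := hHn.map _ (QuotientGroup.mk'_surjective N)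
    haveI : (K.map (QuotientGroup.mk' N)).Normal := hKn.map _ (QuotientGroup.mk'_surjective N)
    apply main1 hp2 (rank_quot N hNco hr)
    · exact CfsgLib.PSolv19.hall_higman (CfsgLib.PSolv19.psolv_quotient hp.out hG N)
        (CfsgLib.Cores.pPrimeCore_quotient_pPrimeCore p)
    · refine lt_of_le_of_ne (Subgroup.map_mono hKH.le) (fun h => ?_)
      rw [h, relIndex_self, hn] at h1
      exact (Nat.one_lt_pow hn0 hp.out.one_lt).ne h1
    · exact ⟨n, h1.trans hn⟩
    · exact h2
  rw [hn] at hle ⊢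
  have h1 := (Nat.pow_le_pow_iff_right hp.out.one_lt).1 hle
  have h2 : n = 1 ∨ n = 2 := by omega
  rcases h2 with rfl | rfl
  · left; exact pow_one p
  · right; rfl

end CfsgLib.PRk9
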