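import Mathlib
import Cfsg.Agent.LibH2PSt

/-! S1902, linear part -/

set_option autoImplicit false
set_option maxHeartbeats 800000

namespace CfsgLib.PS9

open Subgroup

section lin
variable {p : ℕ} [hp : Fact p.Prime] {V : Type*} [AddCommGroup V] [Module (ZMod p) V]

theorem geom (f : Module.End (ZMod p) V) : ∑ i ∈ Finset.range p, f ^ i = (f - 1) ^ (p - 1) := by
  have h1 : (∑ i ∈ Finset.range p, (Polynomial.X : Polynomial (ZMod p)) ^ i) = (Polynomial.X - 1) ^ (p - 1) := by
    rw [← Polynomial.cyclotomic_prime]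
    have h2 := Polynomial.cyclotomic_mul_prime_eq_pow_of_not_dvd (ZMod p) (p := p) (n := 1) hp.out.not_dvd_one
    rw [one_mul, Polynomial.cyclotomic_one] at h2
    exact h2
  have h3 := congrArg (Polynomial.aeval f) h1
  rw [map_sum, map_pow, map_sub, Polynomial.aeval_X, map_one] at h3
  rw [← h3]
  apply Finset.sum_congr rfl
  intro i _
  rw [map_pow, Polynomial.aeval_X]

theorem card_pow [Finite V] : ∃ k, Nat.card V = p ^ k := by
  refine ⟨Module.finrank (ZMod p) V, ?_⟩
  rw [Module.natCard_eq_pow_finrank (K := ZMod p) (V := V), Nat.card_zmod]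

theorem card_map_ker [Finite V] (T : Module.End (ZMod p) V) (W : Submodule (ZMod p) V) :
    Nat.card W = Nat.card (LinearMap.ker T ⊓ W : Submodule (ZMod p) V) * Nat.card (W.map T) := by
  let φ : W →ₗ[ZMod p] V := T.domRestrict W
  have h1 : Nat.card W = Nat.card (LinearMap.ker φ) * Nat.card (LinearMap.range φ) := by
    have h2 := Submodule.card_eq_card_quotient_mul_card (LinearMap.ker φ)
    rw [h2, Nat.card_congr φ.quotKerEquivRange.toEquiv, mul_comm]
  have h3 : LinearMap.range φ = W.map T := by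
    ext x
    constructor
    · rintro ⟨w, rfl⟩; exact ⟨w, w.2, rfl⟩
    · rintro ⟨w, hw, rfl⟩; exact ⟨⟨w, hw⟩, rfl⟩
  have h4 : Nat.card (LinearMap.ker φ) = Nat.card (LinearMap.ker T ⊓ W : Submodule (ZMod p) V) := by
    apply Nat.card_congr
    exact { toFun := fun x => ⟨x.1.1, ⟨x.2, x.1.2⟩⟩
            invFun := fun x => ⟨⟨x.1, x.2.2⟩, x.2.1⟩
            left_inv := fun x => rfl
            right_inv := fun x => rfl }
  rw [h1, h3, h4]

theorem no_even [Finite V] (hp2 : p ≠ 2) (T : Module.End (ZMod p) V) (hT : T ^ p = 0)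
    (hk : Nat.card (LinearMap.ker T) ≤ p) {n : ℕ} (hV : Nat.card V = p ^ (2 * n)) : T ^ (p - 1) = 0 := by
  by_contra hne
  have key : ∀ k ≤ p, Nat.card V = p ^ k * Nat.card (LinearMap.range (T ^ k)) := by
    intro k
    induction k with
    | zero =>
      intro _
      rw [pow_zero, pow_zero, one_mul]
      have : LinearMap.range (1 : Module.End (ZMod p) V) = ⊤ := LinearMap.range_id
      rw [this]
      exact (Nat.card_congr (Submodule.topEquiv (R := ZMod p) (M := V)).toEquiv).symm
    | succ k ih =>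
      intro hk1
      rw [ih (by omega)]
      have h1 := card_map_ker T (LinearMap.range (T ^ k))
      have h2 : (LinearMap.range (T ^ k)).map T = LinearMap.range (T ^ (k + 1)) := by
        rw [pow_succ', Module.End.mul_eq_comp, LinearMap.range_comp]
      have h3 : Nat.card (LinearMap.ker T ⊓ LinearMap.range (T ^ k) : Submodule (ZMod p) V) = p := by
        have h4 : Nat.card (LinearMap.ker T ⊓ LinearMap.range (T ^ k) : Submodule (ZMod p) V) ≤ p := by
          refine le_trans ?_ hk
          exact Nat.card_le_card_of_injective (Submodule.inclusion inf_le_left) (Submodule.inclusion_injective _)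
        have h5 : Nat.card (LinearMap.ker T ⊓ LinearMap.range (T ^ k) : Submodule (ZMod p) V) ≠ 1 := by
          intro h6
          -- `T` injective on the range, hence the range is trivial
          have h7 : LinearMap.ker T ⊓ LinearMap.range (T ^ k) = ⊥ := by
            rw [Submodule.eq_bot_iff]
            intro x hx
            haveI : Subsingleton (LinearMap.ker T ⊓ LinearMap.range (T ^ k) : Submodule (ZMod p) V) :=
              (Nat.card_eq_one_iff_unique.1 h6).1
            exact congrArg Subtype.val (Subsingleton.elim (⟨x, hx⟩ : (LinearMap.ker T ⊓ LinearMap.range (T ^ k) : Submodule (ZMod p) V)) 0)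
          have h8 : ∀ j : ℕ, ∀ v, (T ^ (k + j)) v = 0 → (T ^ k) v = 0 := by
            intro j
            induction j with
            | zero => intro v hv; exact hv
            | succ j ihj =>
              intro v hv
              apply ihj
              have h9 : (T ^ (k + j)) v ∈ LinearMap.ker T ⊓ LinearMap.range (T ^ k) := by
                refine ⟨?_, ?_⟩
                · rw [SetLike.mem_coe, LinearMap.mem_ker, ← Module.End.mul_apply, ← pow_succ']
                  exact hv
                · exact ⟨(T ^ j) v, by rw [← Module.End.mul_apply, ← pow_add]⟩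
              rw [h7] at h9
              exact (Submodule.mem_bot _).1 h9
          apply hne
          ext v
          have h10 : (T ^ k) v = 0 := h8 (p - k) v (by
            have : k + (p - k) = p := by omega
            rw [this, hT]; rfl)
          have h11 : T ^ (p - 1) = T ^ (p - 1 - k) * T ^ k := by
            rw [← pow_add]; congr 1; omega
          rw [h11, Module.End.mul_apply, h10, map_zero]; rfl
        obtain ⟨j, hj⟩ := card_pow (p := p) (V := (LinearMap.ker T ⊓ LinearMap.range (T ^ k) : Submodule (ZMod p) V))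
        rw [hj] at h4 h5 ⊢
        have h12 : j ≠ 0 := by rintro rfl; exact h5 (pow_zero p)
        have h13 : j ≤ 1 := by
          by_contra hcon
          have : p ^ 2 ≤ p ^ j := Nat.pow_le_pow_right hp.out.pos (by omega)
          have h14 := hp.out.two_le
          nlinarith
        have : j = 1 := by omega
        rw [this, pow_one]
      rw [h3, h2] at h1
      rw [h1, pow_succ]; ring
  have h1 := key p le_rfl
  rw [hT, LinearMap.range_zero] at h1
  have h2 : Nat.card (⊥ : Submodule (ZMod p) V) = 1 := by simp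
  rw [h2, mul_one, hV] at h1
  have h3 := Nat.pow_right_injective hp.out.two_le h1
  have h4 : 2 ∣ p := ⟨n, h3.symm⟩
  exact hp2 ((Nat.prime_dvd_prime_iff_eq Nat.prime_two hp.out).1 h4).symm

/-- Frobenius type action -/
theorem frob {H : Type*} [Group H] [Finite H] (ρ : H →* Module.End (ZMod p) V) [Finite V] (hp2 : p ≠ 2)
    (X : Subgroup H) (hX : ¬ p ∣ Nat.card X) (b : H) (hb : b ^ p = 1) (hbX : ∀ x ∈ X, b * x * b⁻¹ ∈ X)
    (hC : ∀ x ∈ X, b * x = x * b → x = 1) (hCV : ∀ v : V, (∀ x ∈ X, ρ x v = v) → v = 0)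
    (hk : Nat.card {v : V // ρ b v = v} ≤ p) {n : ℕ} (hV : Nat.card V = p ^ (2 * n)) : Subsingleton V := by
  classical
  haveI := Fintype.ofFinite X
  by_contra hnt
  rw [not_subsingleton_iff_nontrivial] at hnt
  haveI : CharP (Module.End (ZMod p) V) p := charP_of_injective_algebraMap' (ZMod p) p
  have hT : (ρ b - 1) ^ p = 0 := by
    rw [sub_pow_char_of_commute p (Commute.one_right _), one_pow, ← map_pow, hb, map_one, sub_self]
  have hker : Nat.card (LinearMap.ker (ρ b - 1)) ≤ p := by
    refine le_trans (le_of_eq ?_) hk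
    apply Nat.card_congr
    exact { toFun := fun x => ⟨x.1, sub_eq_zero.1 x.2⟩
            invFun := fun x => ⟨x.1, sub_eq_zero.2 x.2⟩
            left_inv := fun x => rfl
            right_inv := fun x => rfl }
  have h0 := no_even hp2 (ρ b - 1) hT hker hV
  rw [← geom] at h0
  -- the sum over `X` vanishes
  have hsum : ∑ x : X, ρ (x : H) = 0 := by
    ext v
    change (∑ x : X, ρ (x : H)) v = 0
    apply hCV
    intro y hy
    rw [← Module.End.mul_apply, Finset.mul_sum]
    congr 1
    have : ∀ x : X, ρ y * ρ (x : H) = ρ (((⟨y, hy⟩ : X) * x : X) : H) := fun x => by rw [← map_mul]; rfl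
    simp only [this]
    exact Fintype.sum_equiv (Equiv.mulLeft (⟨y, hy⟩ : X)) _ _ (fun x => rfl)
  have hbpow : ∀ i : ℕ, ∀ x ∈ X, b ^ i * x * (b ^ i)⁻¹ ∈ X := by
    intro i
    induction i with
    | zero => intro x hx; simpa using hx
    | succ i ih =>
      intro x hx
      have := hbX _ (ih x hx)
      have h1 : b ^ (i + 1) * x * (b ^ (i + 1))⁻¹ = b * (b ^ i * x * (b ^ i)⁻¹) * b⁻¹ := by rw [pow_succ']; group
      rw [h1]; exact this
  have hi : ∀ i : ℕ, 0 < i → i < p → ∑ x : X, ρ (x : H) * ρ b ^ i * ρ ((x : H)⁻¹) = 0 := by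
    intro i hi0 hip
    let φ : X → X := fun x => x * ⟨b ^ i * ((x : H)⁻¹) * (b ^ i)⁻¹, hbpow i _ (X.inv_mem x.2)⟩
    have hφ : Function.Injective φ := by
      intro x y hxy
      have h1 : (x : H) * (b ^ i * ((x : H)⁻¹) * (b ^ i)⁻¹) = (y : H) * (b ^ i * ((y : H)⁻¹) * (b ^ i)⁻¹) :=
        congrArg Subtype.val hxy
      have h2 : (x : H) * b ^ i * (x : H)⁻¹ = (y : H) * b ^ i * (y : H)⁻¹ := by
        have := congrArg (fun z => z * b ^ i) h1
        simpa [mul_assoc] using this
      have h3 : Commute ((y : H)⁻¹ * x) (b ^ i) := by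
        change (y : H)⁻¹ * x * b ^ i = b ^ i * ((y : H)⁻¹ * x)
        calc (y : H)⁻¹ * x * b ^ i = (y : H)⁻¹ * ((x : H) * b ^ i * (x : H)⁻¹) * x := by group
          _ = (y : H)⁻¹ * ((y : H) * b ^ i * (y : H)⁻¹) * x := by rw [h2]
          _ = _ := by group
      have h4 : i.Coprime (orderOf b) := by
        have h5 : orderOf b ∣ p := orderOf_dvd_of_pow_eq_one hb
        refine Nat.Coprime.coprime_dvd_right h5 ?_
        exact (Nat.coprime_of_lt_prime hi0.ne' hip hp.out).symm
      obtain ⟨m, hm⟩ := exists_pow_eq_self_of_coprime h4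
      have h6 : Commute ((y : H)⁻¹ * x) b := by
        rw [← hm]; exact h3.pow_right m
      have h7 := hC _ (X.mul_mem (X.inv_mem y.2) x.2) h6.symm.eq
      exact Subtype.ext (inv_mul_eq_one.1 h7).symm
    have hbij := Finite.injective_iff_bijective.1 hφ
    have h1 : ∀ x : X, ρ (x : H) * ρ b ^ i * ρ ((x : H)⁻¹) = ρ ((φ x : X) : H) * ρ b ^ i := by
      intro x
      rw [← map_pow, ← map_mul, ← map_mul, ← map_mul]
      congr 1
      change (x : H) * b ^ i * (x : H)⁻¹ = (x : H) * (b ^ i * ((x : H)⁻¹) * (b ^ i)⁻¹) * b ^ i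
      group
    simp only [h1]
    rw [← Finset.sum_mul]
    have h2 : ∑ x : X, ρ ((φ x : X) : H) = ∑ x : X, ρ (x : H) :=
      Fintype.sum_bijective φ hbij _ _ (fun x => rfl)
    rw [h2, hsum, zero_mul]
  have htot : ∑ x : X, ρ (x : H) * (∑ i ∈ Finset.range p, ρ b ^ i) * ρ ((x : H)⁻¹) = 0 := by
    rw [h0]; simp
  have h1 : ∑ x : X, ρ (x : H) * (∑ i ∈ Finset.range p, ρ b ^ i) * ρ ((x : H)⁻¹) =
      ∑ i ∈ Finset.range p, ∑ x : X, ρ (x : H) * ρ b ^ i * ρ ((x : H)⁻¹) := by
    rw [Finset.sum_comm]
    apply Finset.sum_congr rfl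
    intro x _
    rw [Finset.mul_sum, Finset.sum_mul]
  rw [htot] at h1
  have h2 : ∑ i ∈ Finset.range p, ∑ x : X, ρ (x : H) * ρ b ^ i * ρ ((x : H)⁻¹) =
      ∑ x : X, ρ (x : H) * ρ b ^ 0 * ρ ((x : H)⁻¹) := by
    apply Finset.sum_eq_single_of_mem
    · exact Finset.mem_range.2 hp.out.pos
    · intro i hir hi0
      exact hi i (Nat.pos_of_ne_zero hi0) (Finset.mem_range.1 hir)
  rw [h2] at h1
  have h3 : ∀ x : X, ρ (x : H) * ρ b ^ 0 * ρ ((x : H)⁻¹) = 1 := by
    intro x
    rw [pow_zero, mul_one, ← map_mul, mul_inv_cancel, map_one]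
  simp only [h3] at h1
  rw [Finset.sum_const, Finset.card_univ, nsmul_eq_mul, mul_one] at h1
  have h4 : ((Fintype.card X : ℕ) : Module.End (ZMod p) V) = 0 := h1.symm
  rw [CharP.cast_eq_zero_iff (Module.End (ZMod p) V) p] at h4
  rw [Nat.card_eq_fintype_card] at hX
  exact hX h4

end lin

end CfsgLib.PS9
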