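import Mathlib
import Cfsg.Agent.LibPS9A
import Cfsg.Agent.LibCoprime
import Cfsg.Agent.LibCoprime2
import Cfsg.Agent.LibPQ
import Cfsg.Agent.LibH2Prod
import Cfsg.Agent.LibExForm2
import Cfsg.Agent.LibExtraH28

/-! S1902, the minimal configuration -/

set_option autoImplicit false
set_option maxHeartbeats 1000000

namespace CfsgLib.PS9

open Subgroup
open scoped commutatorElement

universe u

theorem card_ker_range {A B : Type*} [Group A] [Group B] [Finite A] (f : A →* B) :
    Nat.card f.ker * Nat.card f.range = Nat.card A := by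
  rw [← Subgroup.index_ker, Subgroup.card_mul_index]

theorem card_map_mk {G : Type u} [Group G] [Finite G] (N K : Subgroup G) [N.Normal] (h : N ≤ K) :
    Nat.card N * Nat.card (K.map (QuotientGroup.mk' N)) = Nat.card K := by
  have h1 := card_ker_range ((QuotientGroup.mk' N).domRestrict K)
  have h2 : Nat.card ((QuotientGroup.mk' N).domRestrict K).ker = Nat.card N := by
    apply Nat.card_congr
    exact { toFun := fun x => ⟨x.1.1, (QuotientGroup.eq_one_iff _).1 x.2⟩
            invFun := fun x => ⟨⟨x.1, h x.2⟩, (QuotientGroup.eq_one_iff _).2 x.2⟩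
            left_inv := fun x => rfl
            right_inv := fun x => rfl }
  have h3 : ((QuotientGroup.mk' N).domRestrict K).range = K.map (QuotientGroup.mk' N) := by
    ext x
    constructor
    · rintro ⟨w, rfl⟩; exact ⟨w, w.2, rfl⟩
    · rintro ⟨w, hw, rfl⟩; exact ⟨⟨w, hw⟩, rfl⟩
  rw [h2, h3] at h1
  exact h1

theorem lemA {G : Type u} [Group G] [Finite G] {p : ℕ} [hp : Fact p.Prime] (hp2 : p ≠ 2) (K : Subgroup G) [hKn : K.Normal]
    (hK : IsPGroup p K) (X : Subgroup G) (hX : (Nat.card X).Coprime p) (b : G) (hb : b ^ p = 1)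
    (hbX : ∀ x ∈ X, b * x * b⁻¹ ∈ X) (hC : ∀ x ∈ X, b * x = x * b → x = 1)
    (hKX : ⁅K, X⁆ = K)
    (hmin : ∀ K' : Subgroup G, K' ≤ K → K' ≠ K → X ≤ normalizer (K' : Set G) → b ∈ normalizer (K' : Set G) →
      X ≤ centralizer (K' : Set G))
    (hexp : ∀ y ∈ K, y ^ p = 1)
    (hfix : ∀ y ∈ K, b * y = y * b → ∀ x ∈ X, x * y = y * x)
    (hcard : Nat.card (K ⊓ centralizer ({b} : Set G) : Subgroup G) ≤ p) : K = ⊥ := by
  by_contra hK0
  have hcop : (Nat.card X).Coprime (Nat.card K) := by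
    obtain ⟨k, hk⟩ := IsPGroup.iff_card.1 hK
    rw [hk]; exact Nat.Coprime.pow_right k hX
  have hsolv : Group.IsSolvable X ∨ Group.IsSolvable K := Or.inr (by haveI := hK.isNilpotent; infer_instance)
  have hbp : IsPGroup p (zpowers b) := by
    rw [IsPGroup.iff_card]
    have h1 : Nat.card (zpowers b) ∣ p ^ 1 := by
      rw [Nat.card_zpowers, pow_one]; exact orderOf_dvd_of_pow_eq_one hb
    obtain ⟨k, -, hk⟩ := (Nat.dvd_prime_pow hp.out).1 h1
    exact ⟨k, hk⟩
  set D := ⁅K, K⁆ with hD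
  have hDK : D ≤ K := Subgroup.commutator_le_right K K
  have hDne : D ≠ K := (CfsgLib.PQ.commutator_lt_of_pgroup hK hK le_normalizer hK0).ne
  have hXD : X ≤ centralizer (D : Set G) :=
    hmin D hDK hDne (by rw [normalizer_eq_top]; exact le_top) (by rw [normalizer_eq_top]; trivial)
  set C := K ⊓ centralizer (X : Set G) with hCdef
  have hKC : ⁅K, C⁆ = ⊥ := by
    have h1 : ⁅⁅K, X⁆, C⁆ = ⊥ := by
      apply Subgroup.commutator_commutator_eq_bot_of_rotate
      · have : ⁅X, C⁆ = ⊥ := by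
          rw [commutator_eq_bot_iff_le_centralizer, le_centralizer_iff]
          exact inf_le_right
        rw [this, commutator_bot_left]
      · have h2 : ⁅C, K⁆ ≤ D := commutator_mono inf_le_left le_rfl
        have h3 : ⁅D, X⁆ = ⊥ := by
          rw [commutator_eq_bot_iff_le_centralizer, le_centralizer_iff]; exact hXD
        rw [eq_bot_iff, ← h3]
        exact commutator_mono h2 le_rfl
    rwa [hKX] at h1
  set Z := K ⊓ centralizer (K : Set G) with hZdef
  have hCZ : C ≤ Z := by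
    refine le_inf inf_le_left ?_
    rw [le_centralizer_iff, ← commutator_eq_bot_iff_le_centralizer]
    exact hKC
  by_cases hZK : Z = K
  · have hcomm : IsMulCommutative K := ⟨⟨fun x y => Subtype.ext (by
      have h1 : (x : G) ∈ Z := by rw [hZK]; exact x.2
      exact (mem_centralizer_iff.1 h1.2 y y.2).symm)⟩⟩
    have h1 := (CfsgLib.Coprime2.abelian_decomp (A := X) (V := K) (by rw [normalizer_eq_top]; exact le_top) hcop).1
    rw [hKX] at h1
    have h2 : K ⊓ centralizer (zpowers b : Set G) ≠ ⊥ := CfsgLib.H2Prod.inf_cen hK hK0 hbp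
    apply h2
    rw [eq_bot_iff, ← h1]
    intro y hy
    have hyb : b * y = y * b := mem_centralizer_iff.1 hy.2 b (mem_zpowers b)
    exact ⟨⟨hy.1, mem_centralizer_iff.2 (fun x hx => hfix y hy.1 hyb x hx)⟩, hy.1⟩
  have hZn : Z.Normal := inferInstance
  have hXZ : X ≤ centralizer (Z : Set G) :=
    hmin Z inf_le_left hZK (by rw [normalizer_eq_top]; exact le_top) (by rw [normalizer_eq_top]; trivial)
  have hZC : Z ≤ C := by
    refine le_inf inf_le_left ?_
    rw [le_centralizer_iff]; exact hXZ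
  have hDZ : D ≤ Z := by
    refine le_trans ?_ hCZ
    refine le_inf hDK ?_
    rw [le_centralizer_iff]; exact hXD
  have hZD : Z ≤ D := by
    have hcomm : IsMulCommutative (K.map (QuotientGroup.mk' D)) := ⟨⟨by
      rintro ⟨_, x, hx, rfl⟩ ⟨_, y, hy, rfl⟩
      apply Subtype.ext
      change QuotientGroup.mk' D x * QuotientGroup.mk' D y = QuotientGroup.mk' D y * QuotientGroup.mk' D x
      rw [← map_mul, ← map_mul]
      apply QuotientGroup.eq.2
      have h3 : (x * y)⁻¹ * (y * x) = ⁅y⁻¹, x⁻¹⁆ := by rw [commutatorElement_def]; group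
      rw [h3]
      exact commutator_mem_commutator (K.inv_mem hy) (K.inv_mem hx)⟩⟩
    have hKn' : (K.map (QuotientGroup.mk' D)).Normal := hKn.map _ (QuotientGroup.mk'_surjective D)
    have hcop' : (Nat.card (X.map (QuotientGroup.mk' D))).Coprime (Nat.card (K.map (QuotientGroup.mk' D))) :=
      Nat.Coprime.of_dvd (Subgroup.card_map_dvd _ _) (Subgroup.card_map_dvd _ _) hcop
    have h1 := (CfsgLib.Coprime2.abelian_decomp (A := X.map (QuotientGroup.mk' D)) (V := K.map (QuotientGroup.mk' D))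
      (by rw [normalizer_eq_top]; exact le_top) hcop').1
    rw [← Subgroup.map_commutator, hKX] at h1
    have h2 : Z.map (QuotientGroup.mk' D) ≤ ⊥ := by
      rw [← h1]
      rintro _ ⟨z, hz, rfl⟩
      have hzK : QuotientGroup.mk' D z ∈ K.map (QuotientGroup.mk' D) := mem_map_of_mem _ hz.1
      have hzX : QuotientGroup.mk' D z ∈ centralizer ((X.map (QuotientGroup.mk' D) : Subgroup (G ⧸ D)) : Set (G ⧸ D)) := by
        rw [mem_centralizer_iff]
        rintro _ ⟨x, hx, rfl⟩
        rw [← map_mul, ← map_mul, mem_centralizer_iff.1 (hZC hz).2 x hx]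
      exact ⟨⟨hzK, hzX⟩, hzK⟩
    intro z hz
    have h3 : QuotientGroup.mk' D z = 1 := (Subgroup.mem_bot).1 (h2 (mem_map_of_mem _ hz))
    exact (QuotientGroup.eq_one_iff z).1 h3
  have hZDe : Z = D := le_antisymm hZD hDZ
  have hZ0 : Z ≠ ⊥ := by
    intro h
    apply hK0
    by_contra hK0'
    have h2 : ⁅K, K⁆ = ⊥ := by rw [← hD, ← hZDe, h]
    apply hZK
    exact inf_eq_left.2 ((commutator_eq_bot_iff_le_centralizer).1 h2)
  have hcb : ∀ y ∈ K, b * y = y * b → y ∈ Z := fun y hy hyb =>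
    hCZ ⟨hy, mem_centralizer_iff.2 (fun x hx => hfix y hy hyb x hx)⟩
  have hZcen : ∀ z ∈ Z, ∀ k ∈ K, z * k = k * z := fun z hz k hk => (mem_centralizer_iff.1 hz.2 k hk).symm
  set mk := QuotientGroup.mk' Z with hmk
  -- `W`
  set W : Subgroup G := K ⊓ (centralizer ({mk b} : Set (G ⧸ Z))).comap mk with hW
  have hWK : W ≤ K := inf_le_left
  have hWZ : ∀ w ∈ W, w * (b * w⁻¹ * b⁻¹) ∈ Z := by
    intro w hw
    have h1 : mk b * mk w = mk w * mk b := mem_centralizer_iff.1 hw.2 (mk b) rfl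
    have h2 : mk (w * (b * w⁻¹ * b⁻¹)) = 1 := by
      rw [map_mul, map_mul, map_mul, map_inv, map_inv]
      calc mk w * (mk b * (mk w)⁻¹ * (mk b)⁻¹) = (mk w * mk b) * (mk w)⁻¹ * (mk b)⁻¹ := by group
        _ = (mk b * mk w) * (mk w)⁻¹ * (mk b)⁻¹ := by rw [h1]
        _ = 1 := by group
    exact (QuotientGroup.eq_one_iff _).1 h2
  have hZW : Z ≤ W := by
    intro z hz
    refine ⟨hz.1, ?_⟩
    have h1 : mk z = 1 := (QuotientGroup.eq_one_iff z).2 hz
    change mk z ∈ centralizer ({mk b} : Set (G ⧸ Z))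
    rw [h1]; exact one_mem _
  let F : W →* G :=
    { toFun := fun w => w * (b * (w : G)⁻¹ * b⁻¹)
      map_one' := by simp
      map_mul' := by
        intro w v
        have h1 := hZcen _ (hWZ v v.2) (b * (w : G)⁻¹ * b⁻¹) (hKn.conj_mem _ (K.inv_mem (hWK w.2)) b)
        calc ((w * v : W) : G) * (b * ((w * v : W) : G)⁻¹ * b⁻¹)
            = (w : G) * (((v : G) * (b * (v : G)⁻¹ * b⁻¹)) * (b * (w : G)⁻¹ * b⁻¹)) := by
              rw [Subgroup.coe_mul]; group
          _ = _ := by rw [h1]; group }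
  have hF : ∀ w : W, F w = w * (b * (w : G)⁻¹ * b⁻¹) := fun w => rfl
  have hFker : ∀ w : W, F w = 1 ↔ b * (w : G) = w * b := by
    intro w
    rw [hF]
    constructor
    · intro h
      have h1 : (w : G) * b = (w * (b * (w : G)⁻¹ * b⁻¹)) * b * w := by group
      rw [h1, h, one_mul]
    · intro h
      calc (w : G) * (b * (w : G)⁻¹ * b⁻¹) = (w * b) * (w : G)⁻¹ * b⁻¹ := by group
        _ = (b * w) * (w : G)⁻¹ * b⁻¹ := by rw [h]
        _ = 1 := by group
  set c := Nat.card (K ⊓ centralizer ({b} : Set G) : Subgroup G) with hc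
  have hkerF : Nat.card F.ker = c := by
    apply Nat.card_congr
    exact { toFun := fun x => ⟨x.1.1, ⟨hWK x.1.2, mem_centralizer_iff.2 (by
              rintro _ rfl; exact (hFker x.1).1 x.2)⟩⟩
            invFun := fun x => ⟨⟨x.1, hZW (hcb x.1 x.2.1 (mem_centralizer_iff.1 x.2.2 b rfl))⟩,
              (hFker _).2 (mem_centralizer_iff.1 x.2.2 b rfl)⟩
            left_inv := fun x => rfl
            right_inv := fun x => rfl }
  have hWcard : Nat.card W ≤ p * Nat.card Z := by
    rw [← card_ker_range F, hkerF]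
    apply Nat.mul_le_mul hcard
    apply Subgroup.card_le_of_le
    rintro _ ⟨w, rfl⟩
    exact hWZ w w.2
  -- `Y`
  let FZ : Z →* G := F.comp (Subgroup.inclusion hZW)
  have hFZ : ∀ z : Z, FZ z = z * (b * (z : G)⁻¹ * b⁻¹) := fun z => rfl
  set Y : Subgroup G := FZ.range with hY
  have hYZ : Y ≤ Z := by
    rintro _ ⟨z, rfl⟩
    exact hWZ z (hZW z.2)
  have hkerFZ : Nat.card FZ.ker = c := by
    apply Nat.card_congr
    exact { toFun := fun x => ⟨x.1.1, ⟨x.1.2.1, mem_centralizer_iff.2 (by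
              rintro _ rfl; exact (hFker (Subgroup.inclusion hZW x.1)).1 x.2)⟩⟩
            invFun := fun x => ⟨⟨x.1, hcb x.1 x.2.1 (mem_centralizer_iff.1 x.2.2 b rfl)⟩,
              (hFker (Subgroup.inclusion hZW ⟨x.1, hcb x.1 x.2.1 (mem_centralizer_iff.1 x.2.2 b rfl)⟩)).2
                (mem_centralizer_iff.1 x.2.2 b rfl)⟩
            left_inv := fun x => rfl
            right_inv := fun x => rfl }
  have hZY : c * Nat.card Y = Nat.card Z := by
    rw [← card_ker_range FZ, hkerFZ]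
  have hc1 : c ≠ 1 := by
    intro h
    have h2 : K ⊓ centralizer (zpowers b : Set G) ≠ ⊥ := CfsgLib.H2Prod.inf_cen hK hK0 hbp
    apply h2
    rw [eq_bot_iff, ← Subgroup.card_eq_one.1 h]
    intro y hy
    exact ⟨hy.1, mem_centralizer_iff.2 (by rintro _ rfl; exact mem_centralizer_iff.1 hy.2 _ (mem_zpowers _))⟩
  have hcp : c = p := by
    obtain ⟨k, hk⟩ := IsPGroup.iff_card.1 (hK.to_le (inf_le_left : K ⊓ centralizer ({b} : Set G) ≤ K))
    have hk' : c = p ^ k := hk
    have h12 : k ≠ 0 := by rintro rfl; exact hc1 (by rw [hk', pow_zero])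
    have h13 : k ≤ 1 := by
      by_contra hcon
      have h14 : p ^ 2 ≤ p ^ k := Nat.pow_le_pow_right hp.out.pos (by omega)
      have h15 := hp.out.two_le
      rw [hk'] at hcard
      nlinarith
    rw [hk', show k = 1 by omega, pow_one]
  -- normality data for `Y`
  have hbY : ∀ y ∈ Y, b * y * b⁻¹ ∈ Y := by
    rintro _ ⟨z, rfl⟩
    refine ⟨⟨b * z * b⁻¹, hZn.conj_mem z z.2 b⟩, ?_⟩
    rw [hFZ, hFZ]; group
  have hbY' : ∀ y ∈ Y, b⁻¹ * y * b ∈ Y := by
    rintro _ ⟨z, rfl⟩
    refine ⟨⟨b⁻¹ * z * b, by simpa using hZn.conj_mem z z.2 b⁻¹⟩, ?_⟩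
    rw [hFZ, hFZ]; group
  have hYcen : ∀ y ∈ Y, ∀ k ∈ K, y * k = k * y := fun y hy => hZcen y (hYZ hy)
  haveI hYn : (Y.subgroupOf K).Normal := ⟨by
    intro y hy k
    have h1 : (y : G) ∈ Y := hy
    have h2 : k * y * k⁻¹ = y := by
      apply Subtype.ext
      change (k : G) * y * (k : G)⁻¹ = y
      rw [← hYcen y h1 k k.2, mul_inv_cancel_right]
    rw [h2]; exact hy⟩
  -- the radical
  set E := K ⧸ (Y.subgroupOf K) with hE
  have hmemE : ∀ k : K, (QuotientGroup.mk' (Y.subgroupOf K) k ∈ center E) ↔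
      ∀ l ∈ K, (k : G) * l * (k : G)⁻¹ * l⁻¹ ∈ Y := by
    intro k
    rw [mem_center_iff]
    constructor
    · intro h l hl
      have h1 := h (QuotientGroup.mk' (Y.subgroupOf K) ⟨l, hl⟩)
      rw [← map_mul, ← map_mul] at h1
      have h2 := QuotientGroup.eq.1 h1
      have h3 : ((⟨l, hl⟩ * k : K)⁻¹ * (k * ⟨l, hl⟩) : K) ∈ Y.subgroupOf K := h2
      have h4 : (l * (k : G))⁻¹ * ((k : G) * l) ∈ Y := h3
      have h5 : (k : G) * l * (k : G)⁻¹ * l⁻¹ = (l * k) * ((l * (k : G))⁻¹ * ((k : G) * l)) * (l * k)⁻¹ := by group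
      rw [h5, ← hYcen _ h4 (l * k) (K.mul_mem hl k.2), mul_inv_cancel_right]
      exact h4
    · intro h q
      obtain ⟨l, rfl⟩ := QuotientGroup.mk'_surjective (Y.subgroupOf K) q
      rw [← map_mul, ← map_mul]
      apply QuotientGroup.eq.2
      change (((l : G) * (k : G))⁻¹ * ((k : G) * l)) ∈ Y
      have h4 := h l l.2
      have h5 : ((l : G) * (k : G))⁻¹ * ((k : G) * l) = (l * k : G)⁻¹ * ((k : G) * l * (k : G)⁻¹ * (l : G)⁻¹) * (l * k) := by group
      rw [h5, mul_assoc, hYcen _ h4 (l * k) (K.mul_mem l.2 k.2), inv_mul_cancel_left]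
      exact h4
  set Rad : Subgroup G := ((center E).comap (QuotientGroup.mk' (Y.subgroupOf K))).map K.subtype with hRad
  have hmemR : ∀ k : G, k ∈ Rad ↔ k ∈ K ∧ ∀ l ∈ K, k * l * k⁻¹ * l⁻¹ ∈ Y := by
    intro k
    constructor
    · rintro ⟨k', hk', rfl⟩
      exact ⟨k'.2, (hmemE k').1 hk'⟩
    · rintro ⟨hk, h⟩
      exact ⟨⟨k, hk⟩, (hmemE ⟨k, hk⟩).2 h, rfl⟩
  have hRK : Rad ≤ K := fun k hk => ((hmemR k).1 hk).1
  have hZR : Z ≤ Rad := by
    intro z hz
    rw [hmemR]
    refine ⟨hz.1, fun l hl => ?_⟩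
    rw [hZcen z hz l hl, mul_inv_cancel_right, mul_inv_cancel]
    exact one_mem _
  have hRne : Rad ≠ K := by
    intro h
    have h1 : D ≤ Y := by
      rw [hD, commutator_le]
      intro k hk l hl
      rw [← h, hmemR] at hk
      exact hk.2 l hl
    have h2 : Nat.card Z ≤ Nat.card Y := by
      rw [hZDe]; exact Subgroup.card_le_of_le h1
    have h3 : 0 < Nat.card Y := Nat.card_pos
    have h4 := hp.out.two_le
    rw [← hZY, hcp] at h2
    nlinarith
  have hRX : X ≤ normalizer (Rad : Set G) := by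
    intro x hx
    apply Subgroup.mem_normalizer_fintype
    intro k hk
    have hk' := (hmemR k).1 hk
    apply (hmemR _).2
    refine ⟨hKn.conj_mem k hk'.1 x, fun l hl => ?_⟩
    have h1 := hk'.2 (x⁻¹ * l * x) (by simpa using hKn.conj_mem l hl x⁻¹)
    have h2 : x * (k * (x⁻¹ * l * x) * k⁻¹ * (x⁻¹ * l * x)⁻¹) * x⁻¹ = x * k * x⁻¹ * l * (x * k * x⁻¹)⁻¹ * l⁻¹ := by group
    rw [← h2]
    have h3 : x * (k * (x⁻¹ * l * x) * k⁻¹ * (x⁻¹ * l * x)⁻¹) = (k * (x⁻¹ * l * x) * k⁻¹ * (x⁻¹ * l * x)⁻¹) * x :=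
      mem_centralizer_iff.1 (hZC (hYZ h1)).2 x hx
    rw [h3, mul_inv_cancel_right]; exact h1
  have hRb : b ∈ normalizer (Rad : Set G) := by
    apply Subgroup.mem_normalizer_fintype
    intro k hk
    have hk' := (hmemR k).1 hk
    apply (hmemR _).2
    refine ⟨hKn.conj_mem k hk'.1 b, fun l hl => ?_⟩
    have h1 := hk'.2 (b⁻¹ * l * b) (by simpa using hKn.conj_mem l hl b⁻¹)
    have h2 : b * (k * (b⁻¹ * l * b) * k⁻¹ * (b⁻¹ * l * b)⁻¹) * b⁻¹ = b * k * b⁻¹ * l * (b * k * b⁻¹)⁻¹ * l⁻¹ := by group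
    rw [← h2]
    exact hbY _ h1
  have hRZ : Rad = Z := by
    apply le_antisymm _ hZR
    refine le_trans ?_ hCZ
    refine le_inf hRK ?_
    rw [le_centralizer_iff]
    exact hmin Rad hRK hRne hRX hRb
  have hcenE : Nat.card (center E) = p := by
    have h1 : Nat.card Rad = Nat.card ((center E).comap (QuotientGroup.mk' (Y.subgroupOf K))) :=
      Subgroup.card_map_of_injective K.subtype_injective
    have h2 := CfsgLib.Cores.card_comap_mk (Y.subgroupOf K) (center E)
    have h3 : Nat.card (Y.subgroupOf K) = Nat.card Y :=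
      Nat.card_congr (Subgroup.subgroupOfEquivOfLe (hYZ.trans inf_le_left)).toEquiv
    rw [← h1, hRZ, h3, ← hZY, hcp, mul_comm] at h2
    exact (Nat.eq_of_mul_eq_mul_left Nat.card_pos h2).symm
  have hEp : IsPGroup p E := hK.to_quotient _
  have hnab : ∃ x y : E, x * y ≠ y * x := by
    by_contra hcon
    push Not at hcon
    apply hRne
    apply le_antisymm hRK
    intro k hk
    rw [hmemR]
    refine ⟨hk, (hmemE ⟨k, hk⟩).1 ?_⟩
    rw [mem_center_iff]
    intro g
    exact hcon _ _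
  have hExt : Cfsg.IsExtraspecial p E := by
    apply CfsgLib.ExtraH28.isExtraspecial_of hEp hcenE
    · intro x
      obtain ⟨k, rfl⟩ := QuotientGroup.mk'_surjective (Y.subgroupOf K) x
      rw [← map_pow]
      have : k ^ p = 1 := Subtype.ext (hexp k k.2)
      rw [this, map_one]; exact one_mem _
    · intro x y
      obtain ⟨k, rfl⟩ := QuotientGroup.mk'_surjective (Y.subgroupOf K) x
      obtain ⟨l, rfl⟩ := QuotientGroup.mk'_surjective (Y.subgroupOf K) y
      rw [← map_inv, ← map_inv, ← map_mul, ← map_mul, ← map_mul, hmemE]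
      intro j hj
      have h1 : ((k * l * k⁻¹ * l⁻¹ : K) : G) ∈ Z := hDZ (by
        have := commutator_mem_commutator k.2 l.2
        exact this)
      rw [hZcen _ h1 j hj, mul_inv_cancel_right, mul_inv_cancel]
      exact one_mem _
    · exact hnab
  obtain ⟨n, -, hn⟩ := CfsgLib.ExForm.extraspecial_card hExt
  -- the module
  set V : Subgroup (G ⧸ Z) := K.map mk with hV
  haveI hVn : V.Normal := hKn.map _ (QuotientGroup.mk'_surjective Z)
  have hVcard : Nat.card V = p ^ (2 * n) := by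
    have h1 : Nat.card Z * Nat.card V = Nat.card K := card_map_mk Z K inf_le_left
    have h2 := Subgroup.card_eq_card_quotient_mul_card_subgroup (Y.subgroupOf K)
    have h3 : Nat.card (Y.subgroupOf K) = Nat.card Y :=
      Nat.card_congr (Subgroup.subgroupOfEquivOfLe (hYZ.trans inf_le_left)).toEquiv
    have h4 : Nat.card (K ⧸ Y.subgroupOf K) = p ^ (2 * n + 1) := hn
    rw [h4, h3, ← h1, ← hZY, hcp] at h2
    have h5 : p * Nat.card Y * Nat.card V = p * Nat.card Y * p ^ (2 * n) := by rw [h2, pow_succ]; ring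
    exact Nat.eq_of_mul_eq_mul_left (Nat.mul_pos hp.out.pos Nat.card_pos) h5
  have hVcomm : ∀ x y : V, x * y = y * x := by
    rintro ⟨_, x, hx, rfl⟩ ⟨_, y, hy, rfl⟩
    apply Subtype.ext
    change mk x * mk y = mk y * mk x
    rw [← map_mul, ← map_mul]
    apply QuotientGroup.eq.2
    have h3 : (x * y)⁻¹ * (y * x) = ⁅y⁻¹, x⁻¹⁆ := by rw [commutatorElement_def]; group
    rw [h3]
    exact hDZ (commutator_mem_commutator (K.inv_mem hy) (K.inv_mem hx))
  letI : CommGroup V := { (inferInstance : Group V) with mul_comm := hVcomm }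
  obtain ⟨A, i1, i2, i3, ρ, e, he, hρ⟩ := CfsgLib.H2PSt.rep_of_hom (p := p) (V' := V) (fun x => by
      obtain ⟨_, x, hx, rfl⟩ := x
      apply Subtype.ext
      change (mk x) ^ p = 1
      rw [← map_pow, hexp x hx, map_one])
    (MulAut.conjNormal : G ⧸ Z →* MulAut V)
  have he1 : e 1 = 0 := by
    have := he 1 1
    rw [mul_one] at this
    exact left_eq_add.mp this
  have hact : ∀ (g : G ⧸ Z) (v : V), ρ g (e v) = e v ↔ g * v = v * g := by
    intro g v
    rw [hρ, e.injective.eq_iff]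
    constructor
    · intro h
      have h1 := congrArg Subtype.val h
      rw [MulAut.conjNormal_apply] at h1
      exact mul_inv_eq_iff_eq_mul.1 h1
    · intro h
      apply Subtype.ext
      rw [MulAut.conjNormal_apply]
      exact mul_inv_eq_iff_eq_mul.2 h
  have hsub : Subsingleton A := by
    refine frob (p := p) ρ hp2 (X.map mk) ?_ (mk b) (by rw [← map_pow, hb, map_one]) ?_ ?_ ?_ ?_ (n := n) ?_
    · intro h
      have h1 := h.trans (Subgroup.card_map_dvd X mk)
      have h2 : Nat.gcd (Nat.card X) p = 1 := hX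
      have h3 := Nat.dvd_gcd h1 (dvd_refl p)
      rw [h2] at h3
      exact hp.out.one_lt.ne' (Nat.dvd_one.1 h3)
    · rintro _ ⟨x, hx, rfl⟩
      rw [← map_inv, ← map_mul, ← map_mul]
      exact mem_map_of_mem _ (hbX x hx)
    · rintro _ ⟨x, hx, rfl⟩ h
      have h1 : b * x * b⁻¹ * x⁻¹ ∈ Z := by
        have h2 : mk (b * x * b⁻¹ * x⁻¹) = 1 := by
          rw [map_mul, map_mul, map_mul, map_inv, map_inv, h]; group
        exact (QuotientGroup.eq_one_iff _).1 h2
      have h2 : b * x * b⁻¹ * x⁻¹ ∈ X := X.mul_mem (hbX x hx) (X.inv_mem hx)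
      have h3 : b * x * b⁻¹ * x⁻¹ = 1 := by
        have h4 : K ⊓ X = ⊥ := by
          rw [inf_comm]
          exact Subgroup.inf_eq_bot_of_coprime hcop
        rw [← Subgroup.mem_bot, ← h4]
        exact ⟨h1.1, h2⟩
      have h4 : b * x = x * b := by
        have := mul_inv_eq_one.1 h3
        exact mul_inv_eq_iff_eq_mul.1 this
      rw [hC x hx h4, map_one]
    · intro v hv
      obtain ⟨⟨_, k, hk, rfl⟩, rfl⟩ := e.surjective v
      have h1 : ∀ x ∈ X, x * k * x⁻¹ * k⁻¹ ∈ Z := by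
        intro x hx
        have h2 := (hact _ _).1 (hv (mk x) (mem_map_of_mem _ hx))
        have h2' : mk x * mk k = mk k * mk x := h2
        have h3 : mk (x * k * x⁻¹ * k⁻¹) = 1 := by
          rw [map_mul, map_mul, map_mul, map_inv, map_inv, h2']; group
        exact (QuotientGroup.eq_one_iff _).1 h3
      obtain ⟨w, hw, hkw⟩ := CfsgLib.Coprime.exists_fixed_in_coset (A := X) (K := K)
        (by rw [normalizer_eq_top]; exact le_top) hcop hsolv (N := Z) inf_le_left
        (by rw [normalizer_eq_top]; exact le_top) hk (by rw [normalizer_eq_top]; trivial) h1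
      have h2 : k ∈ Z := by
        have h3 : k = w * (k⁻¹ * w)⁻¹ := by group
        rw [h3]
        exact Z.mul_mem (hCZ hw) (Z.inv_mem hkw)
      have h3 : (⟨mk k, mem_map_of_mem mk hk⟩ : V) = 1 := Subtype.ext ((QuotientGroup.eq_one_iff k).2 h2)
      have h4 : e ⟨mk k, mem_map_of_mem mk hk⟩ = 0 := by rw [h3, he1]
      exact h4
    · have h1 : Nat.card {v : A // ρ (mk b) v = v} = Nat.card (W.map mk) := by
        apply Nat.card_congr
        refine Equiv.ofBijective (fun v => ⟨((e.symm v.1 : V) : G ⧸ Z), ?_⟩) ⟨?_, ?_⟩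
        · obtain ⟨k, hk, hkv⟩ := (e.symm v.1).2
          refine ⟨k, ⟨hk, ?_⟩, hkv⟩
          have h2 := v.2
          rw [← e.apply_symm_apply v.1, hact] at h2
          change mk k ∈ centralizer ({mk b} : Set (G ⧸ Z))
          rw [mem_centralizer_iff]
          rintro _ rfl
          rw [hkv]; exact h2
        · intro v w hvw
          have h2 := congrArg Subtype.val hvw
          exact Subtype.ext (e.symm.injective (Subtype.ext h2))
        · rintro ⟨_, w, hw, rfl⟩
          refine ⟨⟨e ⟨mk w, mem_map_of_mem mk hw.1⟩, (hact _ _).2 (mem_centralizer_iff.1 hw.2 (mk b) rfl)⟩, ?_⟩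
          apply Subtype.ext
          change ((e.symm (e _) : V) : G ⧸ Z) = mk w
          rw [e.symm_apply_apply]
      rw [h1]
      have h2 : Nat.card Z * Nat.card (W.map mk) = Nat.card W := card_map_mk Z W hZW
      rw [← h2, mul_comm] at hWcard
      exact Nat.le_of_mul_le_mul_right hWcard Nat.card_pos
    · rw [← hVcard]
      exact (Nat.card_congr e).symm
  apply hZK
  apply le_antisymm inf_le_left
  intro k hk
  have h1 : e ⟨mk k, mem_map_of_mem mk hk⟩ = e 1 := Subsingleton.elim _ _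
  have h2 := congrArg Subtype.val (e.injective h1)
  exact (QuotientGroup.eq_one_iff k).1 h2

end CfsgLib.PS9
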