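import Mathlib
import Cfsg.Agent.LibPS9B
import Cfsg.Agent.LibCollect
import Cfsg.Agent.LibH2ZJe
import Cfsg.Agent.LibAxB9
import Cfsg.Agent.LibPSolv19
import Cfsg.Agent.LibCores

/-! S1902, core lemma -/

set_option autoImplicit false
set_option maxHeartbeats 1000000

namespace CfsgLib.PS9

open Subgroup
open scoped commutatorElement Pointwise

universe u

theorem lemA' {G : Type u} [Group G] [Finite G] {p : ℕ} [hp : Fact p.Prime] (hp2 : p ≠ 2) (K : Subgroup G)
    (hK : IsPGroup p K) (X : Subgroup G) (hX : (Nat.card X).Coprime p) (b : G) (hb : b ^ p = 1)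
    (hXN : X ≤ normalizer (K : Set G)) (hbN : b ∈ normalizer (K : Set G))
    (hbX : ∀ x ∈ X, b * x * b⁻¹ ∈ X) (hC : ∀ x ∈ X, b * x = x * b → x = 1)
    (hKX : ⁅K, X⁆ = K)
    (hmin : ∀ K' : Subgroup G, K' ≤ K → K' ≠ K → X ≤ normalizer (K' : Set G) → b ∈ normalizer (K' : Set G) →
      X ≤ centralizer (K' : Set G))
    (hexp : ∀ y ∈ K, y ^ p = 1)
    (hfix : ∀ y ∈ K, b * y = y * b → ∀ x ∈ X, x * y = y * x)
    (hcard : Nat.card (K ⊓ centralizer ({b} : Set G) : Subgroup G) ≤ p) : K = ⊥ := by
  set N : Subgroup G := normalizer (K : Set G) with hN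
  have hKN : K ≤ N := le_normalizer
  have hinj : Function.Injective (Subgroup.map N.subtype) := Subgroup.map_injective N.subtype_injective
  have hmK : (K.subgroupOf N).map N.subtype = K := Subgroup.map_subgroupOf_eq_of_le hKN
  have hmX : (X.subgroupOf N).map N.subtype = X := Subgroup.map_subgroupOf_eq_of_le hXN
  haveI : (K.subgroupOf N).Normal := by rw [hN]; exact Subgroup.normal_in_normalizer
  have key := lemA (G := N) hp2 (K.subgroupOf N) hK.comap_subtype (X.subgroupOf N)
    (by rw [Nat.card_congr (Subgroup.subgroupOfEquivOfLe hXN).toEquiv]; exact hX)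
    ⟨b, hbN⟩ (Subtype.ext hb) (fun x hx => hbX x hx)
    (fun x hx h => Subtype.ext (hC x hx (congrArg Subtype.val h)))
    (by
      apply hinj
      rw [Subgroup.map_commutator, hmK, hmX, hKX])
    (by
      intro K' h1 h2 h3 h4
      have h5 : X ≤ centralizer ((K'.map N.subtype : Subgroup G) : Set G) := by
        apply hmin
        · rw [← hmK]; exact Subgroup.map_mono h1
        · rw [← hmK]; intro h; exact h2 (hinj h)
        · rw [← hmX]
          exact (Subgroup.map_mono h3).trans (Subgroup.le_normalizer_map N.subtype)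
        · exact Subgroup.le_normalizer_map N.subtype ⟨⟨b, hbN⟩, h4, rfl⟩
      intro x hx
      rw [mem_centralizer_iff]
      intro k hk
      apply Subtype.ext
      exact mem_centralizer_iff.1 (h5 hx) k ⟨k, hk, rfl⟩)
    (fun y hy => Subtype.ext (hexp y hy))
    (fun y hy h x hx => Subtype.ext (hfix y hy (congrArg Subtype.val h) x hx))
    (by
      refine le_trans ?_ hcard
      refine Nat.card_le_card_of_injective
        (fun y => (⟨y.1.1, mem_inf.2 ⟨y.2.1, mem_centralizer_iff.2 ?_⟩⟩ :
          (K ⊓ centralizer ({b} : Set G) : Subgroup G))) ?_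
      · rintro _ rfl
        exact congrArg Subtype.val (mem_centralizer_iff.1 y.2.2 _ rfl)
      · intro y z h
        have h' := congrArg Subtype.val h
        exact Subtype.ext (Subtype.ext h'))
  rw [← hmK, key, Subgroup.map_bot]

theorem core {G : Type u} [Group G] [Finite G] {p : ℕ} [hp : Fact p.Prime] (hp2 : p ≠ 2) (R : Subgroup G)
    (hR : IsPGroup p R) (X : Subgroup G) (hX : (Nat.card X).Coprime p) (b : G) (hb : b ^ p = 1)
    (hbX : ∀ x ∈ X, b * x * b⁻¹ ∈ X) (hC : ∀ x ∈ X, b * x = x * b → x = 1)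
    (hfix : ∀ y ∈ R, y ^ p = 1 → b * y = y * b → ∀ x ∈ X, x * y = y * x)
    (B₁ : Subgroup G) (hB₁ : Nat.card B₁ ≤ p) (hB₁' : ∀ y ∈ R, y ^ p = 1 → b * y = y * b → y ∈ B₁) :
    ∀ (n : ℕ) (K : Subgroup G), Nat.card K = n → K ≤ R → X ≤ normalizer (K : Set G) →
      b ∈ normalizer (K : Set G) → X ≤ centralizer (K : Set G) := by
  intro n
  induction n using Nat.strong_induction_on with
  | _ n ih =>
  intro K hn hKR hXK hbK
  by_contra hcon
  have hKp : IsPGroup p K := hR.to_le hKR
  have hmin : ∀ K' : Subgroup G, K' ≤ K → K' ≠ K → X ≤ normalizer (K' : Set G) → b ∈ normalizer (K' : Set G) →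
      X ≤ centralizer (K' : Set G) := by
    intro K' h1 h2 h3 h4
    refine ih (Nat.card K') ?_ K' rfl (h1.trans hKR) h3 h4
    rw [← hn]
    exact lt_of_le_of_ne (Subgroup.card_le_of_le h1) (fun h => h2 (Subgroup.eq_of_le_of_card_ge h1 h.ge))
  have hK0 : K ≠ ⊥ := by
    intro h
    apply hcon
    rw [h, le_centralizer_iff]
    exact bot_le
  have hcop : (Nat.card X).Coprime (Nat.card K) := by
    obtain ⟨k, hk⟩ := IsPGroup.iff_card.1 hKp
    rw [hk]; exact Nat.Coprime.pow_right k hX
  have hsolv : Group.IsSolvable X ∨ Group.IsSolvable K := Or.inr (by haveI := hKp.isNilpotent; infer_instance)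
  have hcomm_norm : ∀ (g : G) (A B : Subgroup G), MulAut.conj g • A = A → MulAut.conj g • B = B →
      g ∈ normalizer ((⁅A, B⁆ : Subgroup G) : Set G) := by
    intro g A B hA hB
    rw [CfsgLib.Coprime.mem_normalizer_iff_conj_smul]
    have h1 : MulAut.conj g • ⁅A, B⁆ = ⁅MulAut.conj g • A, MulAut.conj g • B⁆ :=
      Subgroup.map_commutator A B _
    rw [h1, hA, hB]
  have hbX' : MulAut.conj b • X = X := by
    apply Subgroup.eq_of_le_of_card_ge
    · rintro _ ⟨x, hx, rfl⟩
      exact hbX x hx
    · have : Nat.card (MulAut.conj b • X : Subgroup G) = Nat.card X := Subgroup.card_map_of_injective (MulAut.conj b).injective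
      rw [this]
  have hXX : ∀ x ∈ X, MulAut.conj x • X = X := fun x hx =>
    CfsgLib.Coprime.mem_normalizer_iff_conj_smul.1 (le_normalizer hx)
  have hbK' : MulAut.conj b • K = K := CfsgLib.Coprime.mem_normalizer_iff_conj_smul.1 hbK
  have hXK' : ∀ x ∈ X, MulAut.conj x • K = K := fun x hx =>
    CfsgLib.Coprime.mem_normalizer_iff_conj_smul.1 (hXK hx)
  have hKX : ⁅K, X⁆ = K := by
    by_contra h
    have h1 : X ≤ centralizer ((⁅K, X⁆ : Subgroup G) : Set G) := by
      apply hmin _ (le_normalizer_iff_commutator_le_left.1 hXK) h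
      · intro x hx; exact hcomm_norm x K X (hXK' x hx) (hXX x hx)
      · exact hcomm_norm b K X hbK' hbX'
    apply hcon
    rw [le_centralizer_iff, ← commutator_eq_bot_iff_le_centralizer]
    apply CfsgLib.Coprime.commutator_eq_bot_of_commutator_commutator hXK hcop hsolv
    rw [commutator_eq_bot_iff_le_centralizer, le_centralizer_iff]
    exact h1
  set D := ⁅K, K⁆ with hD
  have hDK : D ≤ K := Subgroup.commutator_le_self K
  have hDne : D ≠ K := (CfsgLib.PQ.commutator_lt_of_pgroup hKp hKp le_normalizer hK0).ne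
  have hXD : X ≤ centralizer (D : Set G) :=
    hmin D hDK hDne (fun x hx => hcomm_norm x K K (hXK' x hx) (hXK' x hx)) (hcomm_norm b K K hbK' hbK')
  set C := K ⊓ centralizer (X : Set G) with hCdef
  have hKC : ⁅K, C⁆ = ⊥ := by
    have h1 : ⁅⁅K, X⁆, C⁆ = ⊥ := by
      apply Subgroup.commutator_commutator_eq_bot_of_rotate
      · have : ⁅X, C⁆ = ⊥ := by
          rw [commutator_eq_bot_iff_le_centralizer, le_centralizer_iff]
          exact inf_le_right
        rw [this, commutator_bot_left]
      · have h2 : ⁅C, K⁆ ≤ D := commutator_mono inf_le_left le_rfl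
        have h3 : ⁅D, X⁆ = ⊥ := by
          rw [commutator_eq_bot_iff_le_centralizer, le_centralizer_iff]; exact hXD
        rw [eq_bot_iff, ← h3]
        exact commutator_mono h2 le_rfl
    rwa [hKX] at h1
  have hDC : D ≤ C := by
    refine le_inf hDK ?_
    rw [le_centralizer_iff]; exact hXD
  have hDcen : ∀ d ∈ D, ∀ k ∈ K, d * k = k * d := by
    intro d hd k hk
    have h1 : K ≤ centralizer (C : Set G) := commutator_eq_bot_iff_le_centralizer.1 hKC
    exact mem_centralizer_iff.1 (h1 hk) d (hDC hd)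
  -- `Ω = K`
  set S : Set G := {y | y ∈ K ∧ y ^ p = 1} with hS
  have hΩK : closure S = K := by
    by_contra h
    have hle : closure S ≤ K := (closure_le _).2 (fun y hy => hy.1)
    have hnorm : ∀ g : G, MulAut.conj g • K = K → g ∈ normalizer ((closure S : Subgroup G) : Set G) := by
      intro g hg
      rw [CfsgLib.Coprime.mem_normalizer_iff_conj_smul]
      apply Subgroup.eq_of_le_of_card_ge
      · have h1 : MulAut.conj g • closure S = closure ((MulAut.conj g).toMonoidHom '' S) :=
          MonoidHom.map_closure _ _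
        rw [h1, closure_le]
        rintro _ ⟨y, hy, rfl⟩
        apply Subgroup.subset_closure
        refine ⟨?_, ?_⟩
        · rw [← hg]; exact ⟨y, hy.1, rfl⟩
        · rw [← map_pow, hy.2, map_one]
      · have : Nat.card (MulAut.conj g • closure S : Subgroup G) = Nat.card (closure S) := Subgroup.card_map_of_injective (MulAut.conj g).injective
        rw [this]
    have h1 : X ≤ centralizer ((closure S : Subgroup G) : Set G) :=
      hmin _ hle h (fun x hx => hnorm x (hXK' x hx)) (hnorm b hbK')
    apply hcon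
    intro x hx
    apply CfsgLib.H2ZJe.mem_centralizer_of_omega hp2 hKp (hXK hx)
    · refine Nat.Coprime.coprime_dvd_left ?_ hX
      have := orderOf_dvd_natCard (⟨x, hx⟩ : X)
      rwa [← Subgroup.orderOf_coe] at this
    · intro y hy hyp
      exact (mem_centralizer_iff.1 (h1 hx) y (subset_closure ⟨hy, hyp⟩)).symm
  have hexp : ∀ y ∈ K, y ^ p = 1 := by
    intro y hy
    have h1 : (closure {x : K | x ^ p = 1}).map K.subtype = K := by
      rw [MonoidHom.map_closure]
      have h2 : K.subtype '' {x : K | x ^ p = 1} = S := by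
        ext z
        constructor
        · rintro ⟨w, hw, rfl⟩
          exact ⟨w.2, congrArg Subtype.val hw⟩
        · rintro ⟨hz, hz'⟩
          exact ⟨⟨z, hz⟩, Subtype.ext hz', rfl⟩
      rw [h2, hΩK]
    have h3 : y ∈ (closure {x : K | x ^ p = 1}).map K.subtype := by rw [h1]; exact hy
    obtain ⟨z, hz, rfl⟩ := h3
    have h4 := CfsgLib.Collect.pow_eq_one_of_class_two (G := K) hp.out hp2 (by
      intro x y g
      apply Subtype.ext
      have h5 : ((⁅y⁻¹, x⁻¹⁆ : K) : G) ∈ D := by
        have : ((⁅y⁻¹, x⁻¹⁆ : K) : G) = ⁅((y⁻¹ : K) : G), ((x⁻¹ : K) : G)⁆ := rfl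
        rw [this]
        exact commutator_mem_commutator (y⁻¹).2 (x⁻¹).2
      exact hDcen _ h5 g g.2) hz
    exact congrArg Subtype.val h4
  have hbot := lemA' hp2 K hKp X hX b hb hXK hbK hbX hC hKX hmin hexp
    (fun y hy h => hfix y (hKR hy) (hexp y hy) h)
    (by
      refine le_trans (Subgroup.card_le_of_le ?_) hB₁
      intro y hy
      exact hB₁' y (hKR hy.1) (hexp y hy.1) (mem_centralizer_iff.1 hy.2 b rfl))
  exact hK0 hbot

end CfsgLib.PS9
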