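import Mathlib
import Cfsg.Agent.LibPS9C
import Cfsg.Prelude.Def_Transfer
import Cfsg.Prelude.Def_Local

/-! S1902, main -/

set_option autoImplicit false
set_option maxHeartbeats 1000000

namespace CfsgLib.PS9

open Subgroup Cfsg
open scoped commutatorElement Pointwise

universe u

theorem main {G : Type u} [Group G] [Finite G] {p : ℕ} [hp : Fact p.Prime] (hp2 : p ≠ 2)
    (hG : IsPSolvable p G) (B : Subgroup G) (hB : IsElementaryAbelian p B) (hBc : Nat.card B = p ^ 2)
    (b₀ : G) (hb₀ : b₀ ∈ B) (P : Sylow p ↥(Subgroup.centralizer ({b₀} : Set G)))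
    (hBP : B = Subgroup.closure {x : G | x ∈ ((P : Subgroup ↥(Subgroup.centralizer ({b₀} : Set G))).map
      (Subgroup.centralizer ({b₀} : Set G)).subtype : Subgroup G) ∧ orderOf x = p})
    (Q : Subgroup G) (hQ : ¬ p ∣ Nat.card Q) (hinv : ∀ b ∈ B, ∀ x ∈ Q, b * x * b⁻¹ ∈ Q) :
    Q ≤ pPrimeCore p G := by
  set N := pPrimeCore p G with hN
  have hNco : (Nat.card N).Coprime p := CfsgLib.Cores.pPrimeCore_coprime p
  set f := QuotientGroup.mk' N with hf
  have hfs : Function.Surjective f := QuotientGroup.mk'_surjective N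
  have hker : ∀ x : G, f x = 1 ↔ x ∈ N := fun x => QuotientGroup.eq_one_iff x
  set R := pCore p (G ⧸ N) with hR
  have hRp : IsPGroup p R := CfsgLib.Cores.pCore_isPGroup p
  have hRn : R.Normal := inferInstance
  have hRtop : ∀ g : G ⧸ N, g ∈ normalizer (R : Set (G ⧸ N)) := fun g => by rw [normalizer_eq_top]; trivial
  have hHH : centralizer (R : Set (G ⧸ N)) ≤ R :=
    CfsgLib.PSolv19.hall_higman (CfsgLib.PSolv19.psolv_quotient hp.out hG N)
      (CfsgLib.Cores.pPrimeCore_quotient_pPrimeCore p)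
  set X := Q.map f with hX
  set B' := B.map f with hB'
  set b := f b₀ with hb
  have hbp : b ^ p = 1 := by rw [hb, ← map_pow, hB.2 b₀ hb₀, map_one]
  have hQc : (Nat.card Q).Coprime p := ((Nat.Prime.coprime_iff_not_dvd hp.out).2 hQ).symm
  have hXc : (Nat.card X).Coprime p := Nat.Coprime.coprime_dvd_left (Subgroup.card_map_dvd Q f) hQc
  have hBX : ∀ c ∈ B', ∀ x ∈ X, c * x * c⁻¹ ∈ X := by
    rintro _ ⟨c, hc, rfl⟩ _ ⟨x, hx, rfl⟩
    exact ⟨c * x * c⁻¹, hinv c hc x hx, by simp⟩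
  have hbB : b ∈ B' := ⟨b₀, hb₀, rfl⟩
  have hTD : R ⊓ X = ⊥ := by
    obtain ⟨n, hn⟩ := IsPGroup.iff_card.1 hRp
    have hco : (Nat.card R).Coprime (Nat.card X) := by
      rw [hn]; exact (Nat.Coprime.pow_right n hXc).symm
    exact disjoint_iff.1 (Subgroup.disjoint_of_coprime_natCard hco)
  have hzp : ∀ {H : Type u} [Group H] [Finite H] (h : H), h ^ p = 1 → IsPGroup p (zpowers h) := by
    intro H _ _ h hh
    rw [IsPGroup.iff_card]
    have h1 : Nat.card (zpowers h) ∣ p ^ 1 := by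
      rw [Nat.card_zpowers, pow_one]; exact orderOf_dvd_of_pow_eq_one hh
    obtain ⟨k, -, hk⟩ := (Nat.dvd_prime_pow hp.out).1 h1
    exact ⟨k, hk⟩
  have hlift : ∀ y : G ⧸ N, b * y = y * b → ∃ g ∈ centralizer ({b₀} : Set G), f g = y := by
    intro y hy
    obtain ⟨s, rfl⟩ := hfs y
    have hs : ∀ a ∈ zpowers b₀, s⁻¹ * (a * s * a⁻¹) ∈ N := by
      intro a ha
      obtain ⟨k, rfl⟩ := mem_zpowers_iff.1 ha
      rw [← hker]
      have h1 : b ^ k * f s = f s * b ^ k := (Commute.zpow_left (show Commute b (f s) from hy) k)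
      have h2 : f (s⁻¹ * (b₀ ^ k * s * (b₀ ^ k)⁻¹)) = (f s)⁻¹ * (b ^ k * f s * (b ^ k)⁻¹) := by
        rw [map_mul, map_mul, map_mul, map_inv, map_inv, map_zpow]
      rw [h2, h1]; group
    obtain ⟨n, hn, hsn⟩ := CfsgLib.AxB9.exists_fixed_in_coset (hzp b₀ (hB.2 b₀ hb₀)) hNco
      (by rw [Subgroup.normalizer_eq_top]; exact le_top) hs
    refine ⟨s * n, mem_centralizer_iff.2 ?_, ?_⟩
    · rintro _ rfl
      exact hsn _ (mem_zpowers _)
    · rw [map_mul, (hker n).2 hn, mul_one]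
  have hF : ∀ y ∈ R, y ^ p = 1 → b * y = y * b → y ∈ B' := by
    intro y hy hyp hyb
    have hφ0 : ∀ c : centralizer ({b₀} : Set G), f c ∈ centralizer ({b} : Set (G ⧸ N)) := by
      intro c
      rw [mem_centralizer_iff]
      rintro _ rfl
      have := mem_centralizer_iff.1 c.2 b₀ rfl
      rw [hb, ← map_mul, this, map_mul]
    let φ : centralizer ({b₀} : Set G) →* centralizer ({b} : Set (G ⧸ N)) :=
      (f.comp (centralizer ({b₀} : Set G)).subtype).codRestrict _ hφ0
    have hφ : Function.Surjective φ := by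
      rintro ⟨z, hz⟩
      obtain ⟨g, hg, hgz⟩ := hlift z (mem_centralizer_iff.1 hz b rfl)
      exact ⟨⟨g, hg⟩, Subtype.ext hgz⟩
    have h1 : R.subgroupOf (centralizer ({b} : Set (G ⧸ N))) ≤ (P.mapSurjective hφ : Sylow p _) :=
      (CfsgLib.Cores.le_pCore inferInstance hRp.comap_subtype).trans (CfsgLib.Cores.pCore_le_sylow _)
    have hyC : y ∈ centralizer ({b} : Set (G ⧸ N)) := by
      rw [mem_centralizer_iff]
      rintro _ rfl
      exact hyb
    have h2 : (⟨y, hyC⟩ : centralizer ({b} : Set (G ⧸ N))) ∈ ((P.mapSurjective hφ : Sylow p _) : Subgroup _) :=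
      h1 hy
    rw [Sylow.coe_mapSurjective] at h2
    obtain ⟨⟨c, hc⟩, hcP, hcy⟩ := h2
    have hfc : f c = y := congrArg Subtype.val hcy
    have hcN : c ^ p ∈ N := by
      rw [← hker, map_pow, hfc, hyp]
    obtain ⟨k, hk⟩ := P.isPGroup' ⟨⟨c, hc⟩, hcP⟩
    have hk' : c ^ p ^ k = 1 := congrArg (fun z => ((z : centralizer ({b₀} : Set G)) : G)) (congrArg Subtype.val hk)
    have h3 : orderOf (c ^ p) ∣ p ^ k := by
      apply orderOf_dvd_of_pow_eq_one
      rw [← pow_mul, mul_comm, pow_mul, hk', one_pow]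
    have h4 : orderOf (c ^ p) ∣ Nat.card N := by
      have := orderOf_dvd_natCard (⟨c ^ p, hcN⟩ : N)
      rwa [← Subgroup.orderOf_coe] at this
    have h5 : orderOf (c ^ p) = 1 :=
      Nat.eq_one_of_dvd_coprimes (Nat.Coprime.pow_right k hNco) h4 h3
    have h6 : c ^ p = 1 := orderOf_eq_one_iff.1 h5
    rcases (Nat.dvd_prime hp.out).1 (orderOf_dvd_of_pow_eq_one h6) with h7 | h7
    · rw [← hfc, orderOf_eq_one_iff.1 h7, map_one]; exact one_mem _
    · refine ⟨c, ?_, hfc⟩
      have h8 : c ∈ B := by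
        rw [hBP]
        exact Subgroup.subset_closure ⟨⟨⟨c, hc⟩, hcP, rfl⟩, h7⟩
      exact h8
  have hfix : ∀ y ∈ R, y ^ p = 1 → b * y = y * b → ∀ x ∈ X, x * y = y * x := by
    intro y hy hyp hyb x hx
    have h1 : y * x * y⁻¹ * x⁻¹ ∈ R ⊓ X := by
      refine mem_inf.2 ⟨?_, X.mul_mem (hBX y (hF y hy hyp hyb) x hx) (X.inv_mem hx)⟩
      have e : y * x * y⁻¹ * x⁻¹ = y * (x * y⁻¹ * x⁻¹) := by group
      rw [e]; exact R.mul_mem hy (hRn.conj_mem _ (R.inv_mem hy) x)
    rw [hTD, Subgroup.mem_bot] at h1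
    have h2 : y * x = x * y := mul_inv_eq_iff_eq_mul.1 (mul_inv_eq_one.1 h1)
    exact h2.symm
  have hC : ∀ x ∈ X, b * x = x * b → x = 1 := by
    intro x hx hxb
    have hxo : (orderOf x).Coprime p := by
      refine Nat.Coprime.coprime_dvd_left ?_ hXc
      have := orderOf_dvd_natCard (⟨x, hx⟩ : X)
      rwa [← Subgroup.orderOf_coe] at this
    have hxC : x ∈ centralizer ({b} : Set (G ⧸ N)) := by
      rw [mem_centralizer_iff]
      rintro _ rfl
      exact hxb
    have h1 : x ∈ centralizer ((R ⊓ centralizer ({b} : Set (G ⧸ N)) : Subgroup (G ⧸ N)) : Set (G ⧸ N)) := by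
      apply CfsgLib.H2ZJe.mem_centralizer_of_omega hp2 (hRp.to_le inf_le_left) _ hxo
      · intro y hy hyp
        exact hfix y hy.1 hyp (mem_centralizer_iff.1 hy.2 b rfl) x hx
      · exact Subgroup.inf_normalizer_le_normalizer_inf (mem_inf.2 ⟨hRtop x, le_normalizer hxC⟩)
    have key := CfsgLib.AxB9.thompson_AxB (A := zpowers b) (B := zpowers x) (hzp b hbp)
      (by rw [Nat.card_zpowers]; exact hxo)
      (by
        rw [commutator_eq_bot_iff_le_centralizer, zpowers_le, mem_centralizer_iff]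
        intro z hz
        obtain ⟨k, rfl⟩ := mem_zpowers_iff.1 hz
        exact (Commute.zpow_left (show Commute x b from hxb.symm) k)) _ R rfl hRp
      (fun z _ => hRtop z) (fun z _ => hRtop z)
      (by
        rw [commutator_eq_bot_iff_le_centralizer, le_centralizer_iff, zpowers_le, mem_centralizer_iff]
        intro y hy
        refine mem_centralizer_iff.1 h1 y (mem_inf.2 ⟨hy.1, mem_centralizer_iff.2 ?_⟩)
        rintro _ rfl
        exact mem_centralizer_iff.1 hy.2 b (mem_zpowers b))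
    have h2 : x ∈ centralizer (R : Set (G ⧸ N)) := by
      rw [commutator_eq_bot_iff_le_centralizer, le_centralizer_iff, zpowers_le] at key
      exact key
    have h3 : x ∈ R ⊓ X := mem_inf.2 ⟨hHH h2, hx⟩
    rwa [hTD, Subgroup.mem_bot] at h3
  have hX0 : X = ⊥ := by
    rw [eq_bot_iff]
    intro x hx
    rw [Subgroup.mem_bot]
    by_cases hbR : b ∈ R
    · exact hC x hx (hfix b hbR hbp rfl x hx).symm
    · have hcard : Nat.card (B' ⊓ R : Subgroup (G ⧸ N)) ≤ p := by
        have h1 : Nat.card (B' ⊓ R : Subgroup (G ⧸ N)) ∣ Nat.card B' := card_dvd_of_le inf_le_left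
        have h2 : Nat.card B' ∣ p ^ 2 := hBc ▸ Subgroup.card_map_dvd B f
        obtain ⟨k, hk, hk'⟩ := (Nat.dvd_prime_pow hp.out).1 (h1.trans h2)
        have hk2 : k ≠ 2 := by
          rintro rfl
          have h3 : B' ⊓ R = B' := Subgroup.eq_of_le_of_card_ge inf_le_left (by
            rw [hk']; exact Nat.le_of_dvd (pow_pos hp.out.pos 2) h2)
          exact hbR ((inf_eq_left.1 h3) hbB)
        have hk3 : k = 0 ∨ k = 1 := by omega
        rcases hk3 with rfl | rfl
        · rw [hk', pow_zero]; exact hp.out.one_lt.le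
        · rw [hk', pow_one]
      have hcore := core hp2 R hRp X hXc b hbp (hBX b hbB) hC hfix (B' ⊓ R) hcard
        (fun y hy hyp hyb => mem_inf.2 ⟨hF y hy hyp hyb, hy⟩) _ R rfl le_rfl (fun z _ => hRtop z) (hRtop b)
      have h1 : x ∈ R := hHH (hcore hx)
      have h2 : x ∈ R ⊓ X := mem_inf.2 ⟨h1, hx⟩
      rwa [hTD, Subgroup.mem_bot] at h2
  intro q hq
  rw [← hker]
  have h1 : f q ∈ X := ⟨q, hq, rfl⟩
  rwa [hX0, Subgroup.mem_bot] at h1

end CfsgLib.PS9
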