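import Cfsg.Agent.LibDkM29

/-! Element orders in `PSL_2(F)` (seat helper14). -/

set_option autoImplicit false

namespace CfsgLib.PSLord14

open Matrix CfsgLib.Dk29
open scoped MatrixGroups

variable {F : Type*} [Field F] [Fintype F]

theorem d_cases (q : ℕ) (hq : 1 < q) : Nat.gcd 2 (q - 1) ∣ q - 1 ∧ Nat.gcd 2 (q - 1) ∣ q + 1 ∧ 0 < Nat.gcd 2 (q - 1) := by
  refine ⟨Nat.gcd_dvd_right _ _, ?_, Nat.gcd_pos_of_pos_left _ (by norm_num)⟩
  have h1 : Nat.gcd 2 (q - 1) ∣ q - 1 := Nat.gcd_dvd_right _ _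
  have h2 : Nat.gcd 2 (q - 1) ∣ 2 := Nat.gcd_dvd_left _ _
  have : q + 1 = (q - 1) + 2 := by omega
  rw [this]
  exact dvd_add h1 h2

theorem cases (p : ℕ) [CharP F p] (g : ProjectiveSpecialLinearGroup (Fin 2) F) :
    g ^ p = 1 ∨ g ^ ((Fintype.card F - 1) / Nat.gcd 2 (Fintype.card F - 1)) = 1 ∨
      g ^ ((Fintype.card F + 1) / Nat.gcd 2 (Fintype.card F - 1)) = 1 := by
  classical
  have h := ord_cases p (Nat.gcd 2 (Fintype.card F - 1)) (ProjectiveSpecialLinearGroup.toPGL g)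
    (Or.inr ⟨rfl, by rintro _ rfl; exact toPGL_mem _⟩)
  have hinj : Function.Injective (ProjectiveSpecialLinearGroup.toPGL : ProjectiveSpecialLinearGroup (Fin 2) F →* PGL(2, F)) :=
    ProjectiveSpecialLinearGroup.toPGL_injective
  simp only [← map_pow] at h
  rcases h with h | h | h
  · exact Or.inl (hinj (by rw [h, map_one]))
  · exact Or.inr (Or.inl (hinj (by rw [h, map_one])))
  · exact Or.inr (Or.inr (hinj (by rw [h, map_one])))

theorem exists_plus : ∃ g : ProjectiveSpecialLinearGroup (Fin 2) F,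
    orderOf g = (Fintype.card F + 1) / Nat.gcd 2 (Fintype.card F - 1) := by
  classical
  obtain ⟨T, N, hT, -⟩ := nonsplit_torus (F := F) (ProjectiveSpecialLinearGroup.toPGL : ProjectiveSpecialLinearGroup (Fin 2) F →* PGL(2, F))
    ProjectiveSpecialLinearGroup.toPGL_injective (by rw [toPGL_range]) _ card_PSL
  obtain ⟨t, ht⟩ := hT.cyc
  refine ⟨t, ?_⟩
  rw [← hT.card, ← orderOf_eq_card_of_forall_mem_zpowers ht, Subgroup.orderOf_coe]

theorem exists_minus : ∃ g : ProjectiveSpecialLinearGroup (Fin 2) F,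
    orderOf g = (Fintype.card F - 1) / Nat.gcd 2 (Fintype.card F - 1) := by
  classical
  obtain ⟨T, N, hT, hd⟩ := split_torus (F := F) (ProjectiveSpecialLinearGroup.toPGL : ProjectiveSpecialLinearGroup (Fin 2) F →* PGL(2, F))
    ProjectiveSpecialLinearGroup.toPGL_injective (by rw [toPGL_range]) _ card_PSL
  have hq : 1 < Fintype.card F := Fintype.one_lt_card
  have hpos : 0 < (Fintype.card F - 1) / Nat.gcd 2 (Fintype.card F - 1) := Nat.div_pos (Nat.le_of_dvd (by omega) hd) (Nat.gcd_pos_of_pos_left _ (by norm_num))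
  by_cases h2 : 2 ≤ (Fintype.card F - 1) / Nat.gcd 2 (Fintype.card F - 1)
  · obtain ⟨t, ht⟩ := (hT h2).cyc
    refine ⟨t, ?_⟩
    rw [← (hT h2).card, ← orderOf_eq_card_of_forall_mem_zpowers ht, Subgroup.orderOf_coe]
  · exact ⟨1, by rw [orderOf_one]; omega⟩

theorem exists_char (p : ℕ) [hp : Fact p.Prime] [CharP F p] : ∃ g : ProjectiveSpecialLinearGroup (Fin 2) F, orderOf g = p := by
  have h1 : p ∣ Fintype.card F := by
    obtain ⟨n, -, hn⟩ := FiniteField.card F p
    rw [hn]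
    exact dvd_pow_self _ n.2.ne'
  have hq : 1 < Fintype.card F := Fintype.one_lt_card
  have h2 : p ∣ Nat.gcd 2 (Fintype.card F - 1) * Nat.card (ProjectiveSpecialLinearGroup (Fin 2) F) := by
    rw [card_PSL]
    exact dvd_mul_of_dvd_left h1 _
  have h3 : Nat.Coprime p (Nat.gcd 2 (Fintype.card F - 1)) := by
    rw [Nat.Prime.coprime_iff_not_dvd hp.out]
    intro h
    have h4 : p ∣ Fintype.card F - 1 := h.trans (Nat.gcd_dvd_right _ _)
    have h5 : p ∣ 1 := by
      have := (Nat.dvd_sub_iff_right (by omega) h1).mp h4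
      exact this
    exact hp.out.one_lt.ne' (Nat.dvd_one.mp h5)
  exact exists_prime_orderOf_dvd_card' p (h3.dvd_of_dvd_mul_left h2)

end CfsgLib.PSLord14
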