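import Mathlib
import Cfsg.Prelude

set_option autoImplicit false

/-!
Polynomial sequences in filtered groups and the Hall–Petrescu formula (helper4).
-/

namespace CfsgLib.PSeq

open Subgroup
open scoped commutatorElement

universe u

section Filt

variable {G : Type u} [Group G] (Gm : ℕ → Subgroup G)

/-- the difference sequence -/
def dif (f : ℕ → G) : ℕ → G := fun n => (f n)⁻¹ * f (n + 1)

/-- polynomial sequences up to depth `k` -/
def PS : ℕ → ℕ → (ℕ → G) → Prop
  | 0, j, f => ∀ n, f n ∈ Gm j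
  | k + 1, j, f => (∀ n, f n ∈ Gm j) ∧ PS k (j + 1) (dif f)

/-- the conditions on the filtration -/
structure IsFilt : Prop where
  anti : ∀ i, Gm (i + 1) ≤ Gm i
  comm : ∀ i j, ⁅Gm i, Gm j⁆ ≤ Gm (i + j)

variable {Gm}

theorem PS.val {k j : ℕ} {f : ℕ → G} (h : PS Gm k j f) (n : ℕ) : f n ∈ Gm j := by
  cases k with
  | zero => exact h n
  | succ k => exact h.1 n

theorem PS.depth {k : ℕ} : ∀ {j : ℕ} {f : ℕ → G}, PS Gm (k + 1) j f → PS Gm k j f := by
  induction k with
  | zero => intro j f h; exact h.1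
  | succ k ih => intro j f h; exact ⟨h.1, ih h.2⟩

theorem PS.mono (hG : IsFilt Gm) {k : ℕ} : ∀ {j : ℕ} {f : ℕ → G}, PS Gm k (j + 1) f → PS Gm k j f := by
  induction k with
  | zero => intro j f h n; exact hG.anti j (h n)
  | succ k ih => intro j f h; exact ⟨fun n => hG.anti j (h.1 n), ih h.2⟩

theorem PS.mono' (hG : IsFilt Gm) {k j : ℕ} (a : ℕ) {f : ℕ → G} (h : PS Gm k (j + a) f) : PS Gm k j f := by
  induction a with
  | zero => exact h
  | succ a ih => exact ih (PS.mono hG h)

theorem PS.le (hG : IsFilt Gm) {k i j : ℕ} (hij : i ≤ j) {f : ℕ → G} (h : PS Gm k j f) : PS Gm k i f := by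
  obtain ⟨a, rfl⟩ := Nat.exists_eq_add_of_le hij
  exact PS.mono' hG a h

theorem PS.shift {k : ℕ} : ∀ {j : ℕ} {f : ℕ → G}, PS Gm k j f → PS Gm k j (fun n => f (n + 1)) := by
  induction k with
  | zero => intro j f h n; exact h (n + 1)
  | succ k ih => intro j f h; exact ⟨fun n => h.1 (n + 1), ih h.2⟩

theorem PS.one {k : ℕ} : ∀ {j : ℕ}, PS Gm k j (fun _ => (1 : G)) := by
  induction k with
  | zero => intro j n; exact one_mem _
  | succ k ih =>
    intro j
    refine ⟨fun n => one_mem _, ?_⟩
    have : dif (fun _ : ℕ => (1 : G)) = fun _ => 1 := by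
      funext n; simp [dif]
    rw [this]
    exact ih

theorem PS.const {k j : ℕ} {x : G} (hx : x ∈ Gm j) : PS Gm k j (fun _ => x) := by
  cases k with
  | zero => intro n; exact hx
  | succ k =>
    refine ⟨fun n => hx, ?_⟩
    have : dif (fun _ : ℕ => x) = fun _ => 1 := by
      funext n; simp [dif]
    rw [this]
    exact PS.one

theorem PS.main (hG : IsFilt Gm) (k : ℕ) :
    (∀ (j : ℕ) (f g : ℕ → G), PS Gm k j f → PS Gm k j g → PS Gm k j (fun n => f n * g n)) ∧
    (∀ (j : ℕ) (f : ℕ → G), PS Gm k j f → PS Gm k j (fun n => (f n)⁻¹)) ∧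
    (∀ (i j : ℕ) (f g : ℕ → G), PS Gm k i f → PS Gm k j g → PS Gm k (i + j) (fun n => ⁅f n, g n⁆)) := by
  induction k with
  | zero =>
    refine ⟨fun j f g hf hg n => mul_mem (hf n) (hg n), fun j f hf n => inv_mem (hf n), fun i j f g hf hg n => ?_⟩
    exact hG.comm i j (commutator_mem_commutator (hf n) (hg n))
  | succ k ih =>
    obtain ⟨ihm, ihi, ihc⟩ := ih
    -- conjugation
    have hconj : ∀ (i j : ℕ) (u v : ℕ → G), PS Gm k i u → PS Gm k j v → PS Gm k i (fun n => v n * u n * (v n)⁻¹) := by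
      intro i j u v hu hv
      have h1 := ihc j i v u hv hu
      have h2 : PS Gm k i (fun n => ⁅v n, u n⁆) := PS.le hG (by omega) h1
      have h3 := ihm i _ _ h2 hu
      have h4 : (fun n => v n * u n * (v n)⁻¹) = fun n => ⁅v n, u n⁆ * u n := by
        funext n
        rw [commutatorElement_def]; group
      rw [h4]; exact h3
    refine ⟨?_, ?_, ?_⟩
    · intro j f g hf hg
      refine ⟨fun n => mul_mem (hf.1 n) (hg.1 n), ?_⟩
      have h1 : dif (fun n => f n * g n) = fun n => ((g n)⁻¹ * dif f n * ((g n)⁻¹)⁻¹) * dif g n := by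
        funext n
        simp only [dif]
        group
      rw [h1]
      exact ihm _ _ _ (hconj (j + 1) j _ _ hf.2 (ihi j g hg.depth)) hg.2
    · intro j f hf
      refine ⟨fun n => inv_mem (hf.1 n), ?_⟩
      have h1 : dif (fun n => (f n)⁻¹) = fun n => f n * (dif f n)⁻¹ * (f n)⁻¹ := by
        funext n
        simp only [dif]
        group
      rw [h1]
      exact hconj (j + 1) j _ _ (ihi _ _ hf.2) hf.depth
    · intro i j f g hf hg
      refine ⟨fun n => hG.comm i j (commutator_mem_commutator (hf.1 n) (hg.1 n)), ?_⟩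
      have h1 : dif (fun n => ⁅f n, g n⁆) = fun n =>
          ((⁅f n, g n⁆)⁻¹ * (f n * ⁅dif f n, g (n + 1)⁆ * (f n)⁻¹) * ((⁅f n, g n⁆)⁻¹)⁻¹) * (g n * ⁅f n, dif g n⁆ * (g n)⁻¹) := by
        funext n
        simp only [dif, commutatorElement_def]
        group
      rw [h1]
      have hX : PS Gm k (i + j + 1) (fun n => f n * ⁅dif f n, g (n + 1)⁆ * (f n)⁻¹) := by
        have h2 := ihc (i + 1) j (dif f) (fun n => g (n + 1)) hf.2 (PS.shift hg.depth)
        have h3 : i + 1 + j = i + j + 1 := by omega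
        rw [h3] at h2
        exact hconj _ i _ _ h2 hf.depth
      have hY : PS Gm k (i + j + 1) (fun n => g n * ⁅f n, dif g n⁆ * (g n)⁻¹) := by
        have h2 := ihc i (j + 1) f (dif g) hf.depth hg.2
        have h3 : i + (j + 1) = i + j + 1 := by omega
        rw [h3] at h2
        exact hconj _ j _ _ h2 hg.depth
      exact ihm _ _ _ (hconj _ (i + j) _ _ hX (ihi _ _ (ihc i j f g hf.depth hg.depth))) hY

theorem PS.binom (hG : IsFilt Gm) {k : ℕ} : ∀ {a i : ℕ} {x : G}, x ∈ Gm (a + i) → PS Gm k a (fun n => x ^ (n.choose i)) := by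
  have hanti : ∀ a i : ℕ, Gm (a + i) ≤ Gm a := by
    intro a i
    induction i with
    | zero => exact le_rfl
    | succ i ih => exact (hG.anti _).trans ih
  induction k with
  | zero =>
    intro a i x hx n
    exact pow_mem (hanti a i hx) _
  | succ k ih =>
    intro a i x hx
    refine ⟨fun n => pow_mem (hanti a i hx) _, ?_⟩
    rcases i with _ | i
    · have : dif (fun n : ℕ => x ^ (n.choose 0)) = fun _ => 1 := by
        funext n; simp [dif]
      rw [this]
      exact PS.one
    · have : dif (fun n : ℕ => x ^ (n.choose (i + 1))) = fun n => x ^ (n.choose i) := by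
        funext n
        simp only [dif]
        have h1 : (n + 1).choose (i + 1) = n.choose (i + 1) + n.choose i := by
          rw [Nat.choose_succ_succ']; ring
        rw [h1, pow_add, inv_mul_cancel_left]
      rw [this]
      apply ih
      have : a + 1 + i = a + (i + 1) := by omega
      rw [this]; exact hx

theorem PS.first {m : ℕ} : ∀ {j : ℕ} {r : ℕ → G}, PS Gm m j r → (∀ n < m, r n = 1) → r m ∈ Gm (j + m) := by
  induction m with
  | zero => intro j r h _; exact h 0
  | succ m ih =>
    intro j r h hr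
    have h1 := ih h.2 (fun n hn => by
      simp only [dif]
      rw [hr n (by omega), hr (n + 1) (by omega), inv_one, one_mul])
    have h2 : dif r m = r (m + 1) := by
      simp only [dif]
      rw [hr m (by omega), inv_one, one_mul]
    rw [h2] at h1
    have h3 : j + 1 + m = j + (m + 1) := by omega
    rw [h3] at h1
    exact h1

/-- the Taylor polynomial -/
def tay (g : ℕ → G) (m n : ℕ) : G := ((List.range m).map (fun i => g i ^ (n.choose i))).prod

theorem tay_succ (g : ℕ → G) (m n : ℕ) : tay g (m + 1) n = tay g m n * g m ^ (n.choose m) := by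
  rw [tay, tay, List.range_succ, List.map_append, List.prod_append]
  simp

theorem tay_congr {g g' : ℕ → G} {m : ℕ} (h : ∀ i < m, g i = g' i) (n : ℕ) : tay g m n = tay g' m n := by
  rw [tay, tay]
  congr 1
  apply List.map_congr_left
  intro i hi
  rw [List.mem_range] at hi
  rw [h i hi]

theorem taylor (hG : IsFilt Gm) {f : ℕ → G} (hf : ∀ k, PS Gm k 0 f) (m : ℕ) :
    ∃ g : ℕ → G, (∀ i < m, g i ∈ Gm i) ∧ (∀ k, PS Gm k 0 (fun n => (tay g m n)⁻¹ * f n)) ∧ ∀ n < m, f n = tay g m n := by
  induction m with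
  | zero =>
    refine ⟨fun _ => 1, fun i hi => absurd hi (Nat.not_lt_zero i), fun k => ?_, fun n hn => absurd hn (Nat.not_lt_zero n)⟩
    have : (fun n => (tay (fun _ => (1 : G)) 0 n)⁻¹ * f n) = f := by
      funext n; simp [tay]
    rw [this]; exact hf k
  | succ m ih =>
    obtain ⟨g, hg, hgr, hgf⟩ := ih
    set x := (tay g m m)⁻¹ * f m with hx
    have hxm : x ∈ Gm m := by
      have h1 := PS.first (m := m) (hgr m) (fun n hn => by rw [hgf n hn, inv_mul_cancel])
      rw [zero_add] at h1
      exact h1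
    set g' : ℕ → G := fun i => if i = m then x else g i with hg'
    have hcongr : ∀ i < m, g' i = g i := by
      intro i hi
      rw [hg']
      simp only
      rw [if_neg (by omega)]
    have hgm : g' m = x := by
      rw [hg']
      simp
    have htay : ∀ n, tay g' (m + 1) n = tay g m n * x ^ (n.choose m) := by
      intro n
      rw [tay_succ, tay_congr hcongr, hgm]
    refine ⟨g', ?_, ?_, ?_⟩
    · intro i hi
      rcases Nat.lt_succ_iff_lt_or_eq.1 hi with h1 | h1
      · rw [hcongr i h1]; exact hg i h1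
      · rw [h1, hgm]; exact hxm
    · intro k
      have h1 : (fun n => (tay g' (m + 1) n)⁻¹ * f n) = fun n => (x ^ (n.choose m))⁻¹ * ((tay g m n)⁻¹ * f n) := by
        funext n
        rw [htay, mul_inv_rev, mul_assoc]
      rw [h1]
      exact (PS.main hG k).1 _ _ _ ((PS.main hG k).2.1 _ _ (PS.binom hG (by rwa [zero_add]))) (hgr k)
    · intro n hn
      rcases Nat.lt_succ_iff_lt_or_eq.1 hn with h1 | h1
      · rw [htay, Nat.choose_eq_zero_of_lt h1, pow_zero, mul_one, hgf n h1]
      · rw [htay, h1, Nat.choose_self, pow_one, hx, mul_inv_cancel_left]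

end Filt

section LCS

variable {G : Type u} [Group G]

theorem three_le {N A B C : Subgroup G} [N.Normal] (h1 : ⁅⁅B, C⁆, A⁆ ≤ N)
    (h2 : ⁅⁅C, A⁆, B⁆ ≤ N) : ⁅⁅A, B⁆, C⁆ ≤ N := by
  have key : ∀ X Y Z : Subgroup G, ⁅⁅X, Y⁆, Z⁆ ≤ N ↔
      ⁅⁅X.map (QuotientGroup.mk' N), Y.map (QuotientGroup.mk' N)⁆, Z.map (QuotientGroup.mk' N)⁆ = ⊥ := by
    intro X Y Z
    rw [← Subgroup.map_commutator, ← Subgroup.map_commutator, Subgroup.map_eq_bot_iff, QuotientGroup.ker_mk']
  rw [key] at h1 h2 ⊢
  exact Subgroup.commutator_commutator_eq_bot_of_rotate h1 h2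

theorem lcs_comm (i j : ℕ) : ⁅(⊤ : Subgroup G).lowerCentralSeries i, (⊤ : Subgroup G).lowerCentralSeries j⁆ ≤
    (⊤ : Subgroup G).lowerCentralSeries (i + j + 1) := by
  induction j generalizing i with
  | zero => exact le_rfl
  | succ j ih =>
    haveI : ((⊤ : Subgroup G).lowerCentralSeries (i + (j + 1) + 1)).Normal := inferInstance
    rw [commutator_comm, Subgroup.lowerCentralSeries_succ]
    apply three_le
    · -- ⁅⁅⊤, lcs i⁆, lcs j⁆
      rw [commutator_comm (⊤ : Subgroup G), ← Subgroup.lowerCentralSeries_succ]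
      refine (ih (i + 1)).trans ?_
      have : i + 1 + j + 1 = i + (j + 1) + 1 := by omega
      rw [this]
    · refine (commutator_mono (ih i) le_rfl).trans ?_
      rw [← Subgroup.lowerCentralSeries_succ]
      have : i + j + 1 + 1 = i + (j + 1) + 1 := by omega
      rw [this]

/-- the lower central filtration -/
def lf (G : Type u) [Group G] : ℕ → Subgroup G
  | 0 => ⊤
  | i + 1 => (⊤ : Subgroup G).lowerCentralSeries i

theorem lf_isFilt : IsFilt (lf G) := by
  constructor
  · intro i
    cases i with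
    | zero => exact le_top
    | succ i => exact (⊤ : Subgroup G).lowerCentralSeries_antitone (Nat.le_succ i)
  · intro i j
    rcases i with _ | i
    · rcases j with _ | j
      · exact le_top
      · rw [zero_add]
        show ⁅(⊤ : Subgroup G), (⊤ : Subgroup G).lowerCentralSeries j⁆ ≤ (⊤ : Subgroup G).lowerCentralSeries j
        exact commutator_le_right _ _
    · rcases j with _ | j
      · rw [add_zero]
        show ⁅(⊤ : Subgroup G).lowerCentralSeries i, (⊤ : Subgroup G)⁆ ≤ (⊤ : Subgroup G).lowerCentralSeries i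
        exact commutator_le_left _ _
      · have : i + 1 + (j + 1) = i + j + 1 + 1 := by omega
        rw [this]
        exact lcs_comm i j

/-- the Hall–Petrescu formula -/
theorem hall_petrescu (x y : G) (N : ℕ) (hN : 1 ≤ N) : ∃ g : ℕ → G, (∀ i ≤ N, 1 ≤ i → g i ∈ (⊤ : Subgroup G).lowerCentralSeries (i - 1)) ∧
    g 0 = 1 ∧ g 1 = x * y ∧ x ^ N * y ^ N = ((List.range (N + 1)).map (fun i => g i ^ (N.choose i))).prod := by
  have hpow : ∀ (z : G) (k : ℕ), PS (lf G) k 0 (fun n => z ^ n) := by
    intro z k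
    have h1 := PS.binom (k := k) (lf_isFilt (G := G)) (a := 0) (i := 1) (x := z) (mem_top z)
    have h2 : (fun n : ℕ => z ^ (n.choose 1)) = fun n => z ^ n := by
      funext n; rw [Nat.choose_one_right]
    rw [h2] at h1
    exact h1
  obtain ⟨g, hg, -, hgf⟩ := taylor (lf_isFilt (G := G)) (f := fun n => x ^ n * y ^ n)
    (fun k => (PS.main lf_isFilt k).1 _ _ _ (hpow x k) (hpow y k)) (N + 1)
  have h0 := hgf 0 (by omega)
  have h1 := hgf 1 (by omega)
  have hz : ∀ m : ℕ, tay g (m + 1) 0 = g 0 := by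
    intro m
    induction m with
    | zero => simp [tay]
    | succ m ih => rw [tay_succ, ih, Nat.choose_zero_succ, pow_zero, mul_one]
  have hg0 : g 0 = 1 := by
    rw [hz] at h0
    simpa using h0.symm
  have ho : ∀ m : ℕ, tay g (m + 2) 1 = g 1 := by
    intro m
    induction m with
    | zero =>
      rw [tay_succ, tay_succ]
      simp [tay, hg0]
    | succ m ih => rw [tay_succ, ih, Nat.choose_eq_zero_of_lt (by omega), pow_zero, mul_one]
  refine ⟨g, ?_, hg0, ?_, hgf N (by omega)⟩
  · intro i hi hi1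
    obtain ⟨j, rfl⟩ := Nat.exists_eq_add_of_le hi1
    have h2 := hg (1 + j) (by omega)
    have h3 : 1 + j - 1 = j := by omega
    rw [h3]
    rw [add_comm 1 j] at h2 ⊢
    exact h2
  · obtain ⟨m, rfl⟩ := Nat.exists_eq_add_of_le hN
    have h3 : 1 + m + 1 = m + 2 := by omega
    rw [h3, ho] at h1
    simpa using h1.symm

end LCS

end CfsgLib.PSeq
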