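import Cfsg.Agent.LibPair29

/-! The stabiliser of a pair of complementary totally isotropic subspaces in the symplectic group, odd characteristic. -/

namespace CfsgLib.PairSp29

open scoped MatrixGroups Matrix
open Cfsg CfsgLib.MaxTv29 CfsgLib.SympTv29 CfsgLib.Pair29 CfsgLib.SpSub29

variable {ι : Type} [Fintype ι] [DecidableEq ι] {F : Type*} [Field F]
variable {f : (ι → F) → (ι → F) → F}

/-- `sg u v ∈ M` with `u ⊥ v` -/
def S (hf : Geo.IsSymplecticForm f) (M : Subgroup (GL ι F)) (u v : ι → F) : Prop := f u v = 0 ∧ sg hf u v ∈ M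

theorem S.symm {hf : Geo.IsSymplecticForm f} {M : Subgroup (GL ι F)} {u v : ι → F} (h : S hf M u v) : S hf M v u :=
  ⟨swap_eq hf h.1, by rw [← sg_comm hf h.1]; exact h.2⟩

theorem S.smul {hf : Geo.IsSymplecticForm f} {M : Subgroup (GL ι F)} {u v : ι → F} {k : F} (h : S hf M (k • u) v) (h0 : f u v = 0) : S hf M u (k • v) :=
  ⟨by rw [hf.bilinear.smul_right, h0, mul_zero], by rw [← sg_smul hf h0]; exact h.2⟩

theorem S.add {hf : Geo.IsSymplecticForm f} {M : Subgroup (GL ι F)} {u v w : ι → F} (h : S hf M u v) (h' : S hf M u w) (hvw : f v w = 0) : S hf M u (v + w) :=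
  ⟨by rw [hf.bilinear.add_right, h.1, h'.1, add_zero], by rw [← sg_mul_add hf h.1 h'.1 hvw]; exact M.mul_mem h.2 h'.2⟩

theorem S.sub {hf : Geo.IsSymplecticForm f} {M : Subgroup (GL ι F)} {u v w : ι → F} (h : S hf M u (v + w)) (h' : S hf M u v) (hvw : f v w = 0) : S hf M u w := by
  have h0 : f u w = 0 := by
    have := h.1
    rw [hf.bilinear.add_right, h'.1, zero_add] at this
    exact this
  exact ⟨h0, sg_right_mem hf h'.1 h0 hvw h.2 h'.2⟩

theorem S.conj {hf : Geo.IsSymplecticForm f} {M : Subgroup (GL ι F)} {u v : ι → F} (h : S hf M u v) {g : GL ι F} (hg : g ∈ M) (hgi : g ∈ iso f) :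
    S hf M ((g : Matrix ι ι F) *ᵥ u) ((g : Matrix ι ι F) *ᵥ v) :=
  ⟨by rw [(mem_iso g).mp hgi]; exact h.1, sg_mem_conj hf hg hgi h.2⟩

/-- key step -/
theorem S.step {hf : Geo.IsSymplecticForm f} {M : Subgroup (GL ι F)} {u v a b : ι → F} (h : S hf M u v) (hab : S hf M a b) (hua : f u a = 0) (hub : f u b = 1)
    (hva : f v a = 0) (hvb : f v b = 0) : S hf M v a := by
  have h1 := h.conj hab.2 (sg_mem_iso hf _ _)
  rw [sg_mulVec hf _ _ hab.1, sg_mulVec hf _ _ hab.1, hua, hub, hva, hvb] at h1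
  simp only [zero_smul, one_smul, add_zero] at h1
  exact h1.symm.sub h.symm hua

section pair
variable {X Y : Submodule F (ι → F)} (hf : Geo.IsSymplecticForm f) (hX : ∀ x ∈ X, ∀ x' ∈ X, f x x' = 0) (hY : ∀ y ∈ Y, ∀ y' ∈ Y, f y y' = 0) (hsup : X ⊔ Y = ⊤)
include hf hX hY hsup

omit hX hY hf in
theorem dec (v : ι → F) : ∃ v0 ∈ X, ∃ v1 ∈ Y, v = v0 + v1 := by
  have : v ∈ X ⊔ Y := by rw [hsup]; exact Submodule.mem_top
  obtain ⟨a, ha, b, hb, h⟩ := Submodule.mem_sup.mp this
  exact ⟨a, ha, b, hb, h.symm⟩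

/-- duality -/
theorem dual (W : Submodule F (ι → F)) {x : ι → F} (hx : x ∉ W) (hxX : x ∈ X) (hW : W ≤ X) : ∃ b ∈ Y, f x b = 1 ∧ ∀ w ∈ W, f w b = 0 := by
  obtain ⟨z, hz1, hz2⟩ := exists_perp hf W x hx
  obtain ⟨z0, hz0, z1, hz1', rfl⟩ := dec hsup z
  refine ⟨z1, hz1', ?_, fun w hw => ?_⟩
  · rw [hf.bilinear.add_right, hX x hxX z0 hz0, zero_add] at hz1; exact hz1
  · have := hz2 w hw
    rw [hf.bilinear.add_right, hX w (hW hw) z0 hz0, zero_add] at this; exact this

theorem perpX {v : ι → F} (h : ∀ x ∈ X, f x v = 0) : v ∈ X := by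
  obtain ⟨v0, hv0, v1, hv1, rfl⟩ := dec hsup v
  have h1 : v1 = 0 := by
    by_contra hne
    obtain ⟨⟨z, hz⟩, _⟩ := hf.nondegenerate v1 hne
    obtain ⟨z0, hz0, z1, hz1, rfl⟩ := dec hsup z
    apply hz
    have h2 := h z0 hz0
    rw [hf.bilinear.add_right, hX z0 hz0 v0 hv0, zero_add] at h2
    rw [hf.bilinear.add_left, h2, hY z1 hz1 v1 hv1, add_zero]
  rw [h1, add_zero]; exact hv0

/-- swapping `X` and `Y` -/
theorem exists_swap : ∃ g ∈ iso f, X.map (le g).toLinearMap ≤ Y ∧ Y.map (le g).toLinearMap ≤ X := by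
  classical
  let b := Module.finBasis F X
  have hc : ∀ j, ∃ c ∈ Y, f (b j : ι → F) c = 1 ∧ ∀ i, i ≠ j → f (b i : ι → F) c = 0 := by
    intro j
    let W : Submodule F (ι → F) := Submodule.span F ((fun i => (b i : ι → F)) '' {j}ᶜ)
    have hli : LinearIndependent F (fun i => (b i : ι → F)) := b.linearIndependent.map' X.subtype (Submodule.ker_subtype X)
    have hjW : (b j : ι → F) ∉ W := hli.notMem_span_image (by simp)
    obtain ⟨c, hcY, h1, h2⟩ := dual hf hX hY hsup W hjW (b j).2 (by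
      rw [Submodule.span_le]
      rintro _ ⟨i, _, rfl⟩
      exact (b i).2)
    exact ⟨c, hcY, h1, fun i hi => h2 _ (Submodule.subset_span ⟨i, hi, rfl⟩)⟩
  choose c hcY hc1 hc0 using hc
  have key : ∀ s : Finset (Fin (Module.finrank F X)), ∃ g ∈ iso f, (∀ i ∈ s, (g : Matrix ι ι F) *ᵥ (b i : ι → F) = c i ∧ (g : Matrix ι ι F) *ᵥ (c i) = -(b i : ι → F)) ∧
      (∀ i ∉ s, (g : Matrix ι ι F) *ᵥ (b i : ι → F) = b i ∧ (g : Matrix ι ι F) *ᵥ (c i) = c i) := by
    intro s
    induction s using Finset.induction_on with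
    | empty =>
      refine ⟨1, (iso f).one_mem, by simp, fun i _ => ?_⟩
      rw [Units.val_one, Matrix.one_mulVec, Matrix.one_mulVec]
      exact ⟨rfl, rfl⟩
    | insert j s hj ih =>
      obtain ⟨g, hg, h1, h2⟩ := ih
      have hbb : ∀ i k, f (b i : ι → F) (b k : ι → F) = 0 := fun i k => hX _ (b i).2 _ (b k).2
      have hcc : ∀ i k, f (c i) (c k) = 0 := fun i k => hY _ (hcY i) _ (hcY k)
      let w : GL ι F := st hf (b j) 1 * st hf (c j) 1 * st hf (b j) 1
      have hw : w ∈ iso f := (iso f).mul_mem ((iso f).mul_mem (st_mem_iso hf _ _) (st_mem_iso hf _ _)) (st_mem_iso hf _ _)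
      have hwx : ∀ x, (w : Matrix ι ι F) *ᵥ x = ((st hf (b j) 1 : GL ι F) : Matrix ι ι F) *ᵥ (((st hf (c j) 1 : GL ι F) : Matrix ι ι F) *ᵥ (((st hf (b j) 1 : GL ι F) : Matrix ι ι F) *ᵥ x)) := by
        intro x
        rw [Matrix.mulVec_mulVec, Matrix.mulVec_mulVec]
        rfl
      have hcb : f (c j) (b j : ι → F) = -1 := by rw [hf.skew, hc1]
      have w1 : (w : Matrix ι ι F) *ᵥ (b j : ι → F) = c j := by
        rw [hwx]
        simp only [st_mulVec, hf.bilinear.add_left, hf.bilinear.smul_left, hbb, hcc, hc1, hcb]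
        module
      have w2 : (w : Matrix ι ι F) *ᵥ (c j) = -(b j : ι → F) := by
        rw [hwx]
        simp only [st_mulVec, hf.bilinear.add_left, hf.bilinear.smul_left, hbb, hcc, hc1, hcb]
        module
      have w3 : ∀ i, i ≠ j → (w : Matrix ι ι F) *ᵥ (b i : ι → F) = b i := by
        intro i hi
        rw [hwx]
        simp only [st_mulVec, hbb, hc0 j i hi, mul_zero, zero_smul, add_zero]
      have w4 : ∀ i, i ≠ j → (w : Matrix ι ι F) *ᵥ (c i) = c i := by
        intro i hi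
        have e : f (c i) (b j : ι → F) = 0 := swap_eq hf (hc0 i j (Ne.symm hi))
        rw [hwx]
        simp only [st_mulVec, hcc, e, mul_zero, zero_smul, add_zero]
      refine ⟨w * g, (iso f).mul_mem hw hg, fun i hi => ?_, fun i hi => ?_⟩
      · rw [Units.val_mul, ← Matrix.mulVec_mulVec, ← Matrix.mulVec_mulVec]
        rcases Finset.mem_insert.mp hi with rfl | his
        · rw [(h2 i hj).1, (h2 i hj).2]; exact ⟨w1, w2⟩
        · have hij : i ≠ j := by rintro rfl; exact hj his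
          rw [(h1 i his).1, (h1 i his).2, Matrix.mulVec_neg, w3 i hij, w4 i hij]
          exact ⟨rfl, rfl⟩
      · rw [Units.val_mul, ← Matrix.mulVec_mulVec, ← Matrix.mulVec_mulVec]
        have hi' : i ∉ s := fun h => hi (Finset.mem_insert_of_mem h)
        have hij : i ≠ j := by rintro rfl; exact hi (Finset.mem_insert_self _ _)
        rw [(h2 i hi').1, (h2 i hi').2]
        exact ⟨w3 i hij, w4 i hij⟩
  obtain ⟨g, hg, h1, _⟩ := key Finset.univ
  have hspan : ∀ x ∈ X, ∃ a : Fin (Module.finrank F X) → F, x = ∑ i, a i • (b i : ι → F) := by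
    intro x hx
    refine ⟨fun i => b.repr ⟨x, hx⟩ i, ?_⟩
    have := congrArg Subtype.val (b.sum_repr ⟨x, hx⟩)
    rw [Submodule.coe_sum] at this
    exact this.symm
  refine ⟨g, hg, ?_, ?_⟩
  · rintro _ ⟨x, hx, rfl⟩
    obtain ⟨a, rfl⟩ := hspan x hx
    rw [map_sum]
    apply Y.sum_mem
    intro i _
    rw [map_smul]
    apply Y.smul_mem
    change (g : Matrix ι ι F) *ᵥ (b i : ι → F) ∈ Y
    rw [(h1 i (Finset.mem_univ _)).1]; exact hcY i
  · rintro _ ⟨y, hy, rfl⟩
    apply perpX hf hX hY hsup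
    intro x hx
    obtain ⟨a, rfl⟩ := hspan x hx
    have h2 : ∀ i, f (b i : ι → F) ((g : Matrix ι ι F) *ᵥ y) = 0 := by
      intro i
      have : (b i : ι → F) = -((g : Matrix ι ι F) *ᵥ (c i)) := by rw [(h1 i (Finset.mem_univ _)).2, neg_neg]
      rw [this, neg_left hf, (mem_iso g).mp hg, hY _ (hcY i) _ hy, neg_zero]
    change (fd hf ((g : Matrix ι ι F) *ᵥ y)) _ = 0
    rw [map_sum]
    exact Finset.sum_eq_zero fun i _ => by rw [map_smul, fd_apply, h2, smul_zero]

variable {M : Subgroup (GL ι F)} (hM : ∀ a ∈ X, ∀ b ∈ Y, f a b = 0 → sg hf a b ∈ M) (hXr : 4 ≤ Module.finrank F X)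
include hM hXr

theorem exists_in (L : List (ι → F)) (W : Submodule F (ι → F)) (h : L.length + Module.finrank F W < Module.finrank F X) :
    ∃ a ∈ X, (∀ l ∈ L, f l a = 0) ∧ a ∉ W := by
  by_contra hcon
  push Not at hcon
  have h1 : X ⊓ perp hf (Submodule.span F {x | x ∈ L}) ≤ W := fun a ha => hcon a ha.1 (fun l hl => ha.2 l (Submodule.subset_span hl))
  have h2 := Submodule.finrank_mono h1
  have h3 := Submodule.finrank_sup_add_finrank_inf_eq X (perp hf (Submodule.span F {x | x ∈ L}))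
  have h4 := finrank_perp_ge hf (Submodule.span F {x | x ∈ L})
  have h5 : Module.finrank F (Submodule.span F {x | x ∈ L}) ≤ L.length := finrank_span_list_le L
  have h6 := Submodule.finrank_le (X ⊔ perp hf (Submodule.span F {x | x ∈ L}))
  omega

omit [DecidableEq ι] [Fintype ι] hf hX hY hsup hM hXr in
theorem pair_span_le {W : Submodule F (ι → F)} {a b : ι → F} (ha : a ∈ W) (hb : b ∈ W) : Submodule.span F {a, b} ≤ W := by
  rw [Submodule.span_le]
  rintro x (rfl | rfl)
  · exact ha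
  · exact hb

/-- a pair with independent `X`-components gives an independent pair in `X` -/
theorem pair_in_X (hXr7 : 6 ≤ Module.finrank F X) {u v u0 u1 v0 v1 : ι → F} (h : S hf M u v) (hu0 : u0 ∈ X) (hu1 : u1 ∈ Y) (hv0 : v0 ∈ X) (hv1 : v1 ∈ Y)
    (hu : u = u0 + u1) (hv : v = v0 + v1) (h0 : u0 ≠ 0) (h1 : v0 ∉ Submodule.span F {u0}) :
    ∃ a ∈ X, ∃ a' ∈ X, a ≠ 0 ∧ a' ∉ Submodule.span F {a} ∧ S hf M a a' := by
  have hu0v : u0 ∉ Submodule.span F {v0} := by
    intro hcon
    obtain ⟨k, hk⟩ := Submodule.mem_span_singleton.mp hcon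
    have hk0 : k ≠ 0 := by rintro rfl; rw [zero_smul] at hk; exact h0 hk.symm
    exact h1 (Submodule.mem_span_singleton.mpr ⟨k⁻¹, by rw [← hk, smul_smul, inv_mul_cancel₀ hk0, one_smul]⟩)
  have hv00 : v0 ≠ 0 := by rintro rfl; exact h1 (Submodule.zero_mem _)
  obtain ⟨b, hb, hb1, hb2⟩ := dual hf hX hY hsup (Submodule.span F {v0}) hu0v hu0 (by
    rw [Submodule.span_singleton_le_iff_mem]; exact hv0)
  have hvb : f v b = 0 := by rw [hv, hf.bilinear.add_left, hb2 v0 (Submodule.mem_span_singleton_self _), hY v1 hv1 b hb, add_zero]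
  have hub : f u b = 1 := by rw [hu, hf.bilinear.add_left, hb1, hY u1 hu1 b hb, add_zero]
  -- a ∈ X with a ⊥ u1, v1, b, a ∉ span v0
  obtain ⟨a, ha, haL, haW⟩ := exists_in hf hX hY hsup hM hXr [u1, v1, b] (Submodule.span F {v0}) (by
    rw [finrank_span_singleton hv00]; simp; omega)
  have e1 : f u a = 0 := by rw [hu, hf.bilinear.add_left, hX u0 hu0 a ha, haL u1 (by simp), add_zero]
  have e2 : f v a = 0 := by rw [hv, hf.bilinear.add_left, hX v0 hv0 a ha, haL v1 (by simp), add_zero]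
  have e3 : f a b = 0 := swap_eq hf (haL b (by simp))
  have s1 : S hf M v a := h.step ⟨e3, hM a ha b hb e3⟩ e1 hub e2 hvb
  have ha0 : a ≠ 0 := by rintro rfl; exact haW (Submodule.zero_mem _)
  -- second step
  have hv0a : v0 ∉ Submodule.span F {a} := by
    intro hcon
    obtain ⟨k, hk⟩ := Submodule.mem_span_singleton.mp hcon
    have hk0 : k ≠ 0 := by rintro rfl; rw [zero_smul] at hk; exact hv00 hk.symm
    exact haW (Submodule.mem_span_singleton.mpr ⟨k⁻¹, by rw [← hk, smul_smul, inv_mul_cancel₀ hk0, one_smul]⟩)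
  obtain ⟨b', hb', hb1', hb2'⟩ := dual hf hX hY hsup (Submodule.span F {a}) hv0a hv0 (by
    rw [Submodule.span_singleton_le_iff_mem]; exact ha)
  obtain ⟨a', ha', haL', haW'⟩ := exists_in hf hX hY hsup hM hXr [v1, b'] (Submodule.span F {a}) (by
    rw [finrank_span_singleton ha0]; simp; omega)
  have e4 : f v a' = 0 := by rw [hv, hf.bilinear.add_left, hX v0 hv0 a' ha', haL' v1 (by simp), add_zero]
  have e5 : f v b' = 1 := by rw [hv, hf.bilinear.add_left, hb1', hY v1 hv1 b' hb', add_zero]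
  have e6 : f a' b' = 0 := swap_eq hf (haL' b' (by simp))
  have s2 : S hf M a a' := s1.step ⟨e6, hM a' ha' b' hb' e6⟩ e4 e5 (hX a ha a' ha') (hb2' a (Submodule.mem_span_singleton_self _))
  exact ⟨a, ha, a', ha', ha0, haW', s2⟩

/-- the whole group of `sg x x'` -/
theorem all_in_X (hXr7 : 6 ≤ Module.finrank F X) {a a' : ι → F} (ha : a ∈ X) (ha' : a' ∈ X) (ha0 : a ≠ 0) (haa : a' ∉ Submodule.span F {a}) (h : S hf M a a') :
    ∀ x ∈ X, ∀ x' ∈ X, S hf M x x' := by
  -- N_a = X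
  have hstep : ∀ a ∈ X, ∀ a' ∈ X, a' ∉ Submodule.span F {a} → S hf M a a' → ∀ c ∈ X, S hf M a c := by
    intro a ha a' ha' haa h
    have h1 : ∀ c ∈ X, a' ∉ Submodule.span F {a, c} → S hf M a c := by
      intro c hc hn
      obtain ⟨b, hb, hb1, hb2⟩ := dual hf hX hY hsup (Submodule.span F {a, c}) hn ha' (pair_span_le ha hc)
      have e1 : f c b = 0 := hb2 c (Submodule.subset_span (by simp))
      exact h.symm.step ⟨e1, hM c hc b hb e1⟩ (hX a' ha' c hc) hb1 (hX a ha c hc) (hb2 a (Submodule.subset_span (by simp)))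
    intro c hc
    by_cases hn : a' ∈ Submodule.span F {a, c}
    · obtain ⟨c1, hc1, _, hc1n⟩ := exists_in hf hX hY hsup hM hXr [] (Submodule.span F {a, a'}) (by
        have := finrank_pair_le (F := F) a a'
        simp; omega)
      have hac' : c ∈ Submodule.span F {a, a'} := by
        obtain ⟨k, l, hkl⟩ := Submodule.mem_span_pair.mp hn
        have hl0 : l ≠ 0 := by
          rintro rfl
          apply haa
          rw [Submodule.mem_span_singleton]
          exact ⟨k, by rw [← hkl, zero_smul, add_zero]⟩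
        rw [Submodule.mem_span_pair]
        refine ⟨-(l⁻¹ * k), l⁻¹, ?_⟩
        rw [← hkl, smul_add, smul_smul, smul_smul, inv_mul_cancel₀ hl0]
        module
      have h2 : S hf M a c1 := h1 c1 hc1 (notMem_pair haa hc1n)
      have h3 : S hf M a (c1 + c) := by
        apply h1 _ (X.add_mem hc1 hc)
        apply notMem_pair haa
        intro hcon
        apply hc1n
        have := Submodule.sub_mem _ hcon hac'
        rwa [add_sub_cancel_right] at this
      exact h3.sub h2 (hX c1 hc1 c hc)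
    · exact h1 c hc hn
  have hNa := hstep a ha a' ha' haa h
  intro x hx
  by_cases hxa : a ∈ Submodule.span F {x}
  · obtain ⟨k, rfl⟩ := Submodule.mem_span_singleton.mp hxa
    intro x' hx'
    have hk0 : k ≠ 0 := by rintro rfl; exact ha0 (zero_smul _ _)
    have h1 := hNa (k⁻¹ • x') (X.smul_mem _ hx')
    have h2 := h1.smul (hX x hx _ (X.smul_mem _ hx'))
    rwa [smul_smul, mul_inv_cancel₀ hk0, one_smul] at h2
  · exact hstep x hx a ha hxa (hNa x hx).symm

end pair

theorem pair_maximal {D : Fin 2 → Submodule F (ι → F)} {m : ℕ} (hm : 6 ≤ m) (hf : Geo.IsSymplecticForm f) (h2 : (2 : F) ≠ 0) (hD : Geo.IsMDecomposition m D)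
    (hts : ∀ i, Geo.IsTotallySingularFor f (D i)) : Geo.IsMaximalIn (iso f) (Geo.decompositionStabilizer D ⊓ iso f) := by
  have hX : ∀ x ∈ D 0, ∀ x' ∈ D 0, f x x' = 0 := hts 0
  have hY : ∀ y ∈ D 1, ∀ y' ∈ D 1, f y y' = 0 := hts 1
  have hsup := sup_eq_top hD
  have hsup' : D 1 ⊔ D 0 = ⊤ := by rw [sup_comm]; exact hsup
  have hinf := inf_eq_bot hD
  have hXr := hD.finrank_eq 0
  have hYr := hD.finrank_eq 1
  have hsgH : ∀ a ∈ D 0, ∀ b ∈ D 1, f a b = 0 → sg hf a b ∈ Geo.decompositionStabilizer D ⊓ iso f := by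
    intro a ha b hb hab
    refine ⟨mem_stab_two hD _ ⟨Or.inl ?_, Or.inr ?_⟩, sg_mem_iso hf _ _⟩
    · rintro _ ⟨x, hx, rfl⟩
      change ((sg hf a b : GL ι F) : Matrix ι ι F) *ᵥ x ∈ D 0
      rw [sg_mulVec hf a b hab, hX x hx a ha, zero_smul, add_zero]
      exact (D 0).add_mem hx ((D 0).smul_mem _ ha)
    · rintro _ ⟨y, hy, rfl⟩
      change ((sg hf a b : GL ι F) : Matrix ι ι F) *ᵥ y ∈ D 1
      rw [sg_mulVec hf a b hab, hY y hy b hb, zero_smul, add_zero]
      exact (D 1).add_mem hy ((D 1).smul_mem _ hb)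
  obtain ⟨τ, hτi, hτX, hτY⟩ := exists_swap hf hX hY hsup
  have hτH : τ ∈ Geo.decompositionStabilizer D ⊓ iso f := ⟨mem_stab_two hD _ ⟨Or.inr hτX, Or.inl hτY⟩, hτi⟩
  refine ⟨⟨inf_le_right, fun hle => ?_⟩, fun M hHM hMK => ?_⟩
  · -- a transvection not stabilising
    obtain ⟨x, hx, hx0⟩ : ∃ x ∈ D 0, x ≠ 0 := by
      apply Submodule.exists_mem_ne_zero_of_ne_bot
      intro h
      rw [h] at hXr; simp at hXr; omega
    obtain ⟨y, hy, hxy, _⟩ := dual hf hX hY hsup ⊥ (x := x) (by simpa using hx0) hx bot_le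
    obtain ⟨σ, hσ⟩ := (hle (st_mem_iso hf (x + y) 1)).1
    have hσ0 := hσ 0
    have himg : ((st hf (x + y) 1 : GL ι F) : Matrix ι ι F) *ᵥ x = (x + x) + y := by
      rw [st_mulVec, hf.bilinear.add_right, hf.alternating, hxy]; module
    have h1 : (x + x) + y ∈ D (σ 0) := by
      rw [← hσ0, map_toLin]
      exact ⟨x, hx, himg⟩
    -- another fixed vector
    obtain ⟨x', hx', hx'L, hx'n⟩ : ∃ a ∈ D 0, (∀ l ∈ [y], f l a = 0) ∧ a ∉ (⊥ : Submodule F (ι → F)) := by
      by_contra hcon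
      push Not at hcon
      have h1 : D 0 ⊓ LinearMap.ker (fd hf y) ≤ ⊥ := fun a ha => hcon a ha.1 (fun l hl => by
        rw [List.mem_singleton] at hl
        rw [hl]; exact swap_eq hf ha.2)
      have h2 := Submodule.finrank_mono h1
      have h3 := finrank_inf_ker (D 0) (fd hf y)
      rw [finrank_bot] at h2
      omega
    have hx'0 : x' ≠ 0 := by simpa using hx'n
    have hfix : ((st hf (x + y) 1 : GL ι F) : Matrix ι ι F) *ᵥ x' = x' := by
      apply st_fix
      rw [hf.bilinear.add_right, hX x' hx' x hx, swap_eq hf (hx'L y (by simp)), add_zero]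
    have h2' : x' ∈ D (σ 0) := by
      rw [← hσ0, map_toLin]
      exact ⟨x', hx', hfix⟩
    have hy0 : y ≠ 0 := by rintro rfl; rw [zero_right hf] at hxy; exact zero_ne_one hxy
    have : σ 0 = 0 ∨ σ 0 = 1 := by
      have := (σ 0).isLt
      omega
    rcases this with h | h
    · rw [h] at h1
      have h3 : y ∈ D 0 ⊓ D 1 := ⟨by
        have := (D 0).sub_mem h1 ((D 0).add_mem hx hx)
        rwa [add_sub_cancel_left] at this, hy⟩
      rw [hinf] at h3
      exact hy0 ((Submodule.mem_bot F).mp h3)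
    · rw [h] at h2'
      have h3 : x' ∈ D 0 ⊓ D 1 := ⟨hx', h2'⟩
      rw [hinf] at h3
      exact hx'0 ((Submodule.mem_bot F).mp h3)
  · by_cases hMH : M = Geo.decompositionStabilizer D ⊓ iso f
    · exact Or.inl hMH
    right
    obtain ⟨g, hgM, hg⟩ : ∃ g ∈ M, g ∉ Geo.decompositionStabilizer D := by
      by_contra hcon
      push Not at hcon
      exact hMH (le_antisymm (le_inf hcon hMK) hHM)
    have hM : ∀ a ∈ D 0, ∀ b ∈ D 1, f a b = 0 → sg hf a b ∈ M := fun a ha b hb hab => hHM (hsgH a ha b hb hab)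
    have hτM : τ ∈ M := hHM hτH
    have hgi := hMK hgM
    -- find an independent pair in X
    have hmain : ∃ a ∈ D 0, ∃ a' ∈ D 0, a ≠ 0 ∧ a' ∉ Submodule.span F {a} ∧ S hf M a a' := by
      by_contra hno
      apply hg
      apply mem_stab_two hD
      apply stab_of_bad hsup (fd hf) (by omega) (by omega)
      intro a ha b hb hab u0 hu0 u1 hu1 v0 hv0 v1 hv1 hu hv
      have hab' : f a b = 0 := by
        rcases hab with h | h
        · exact swap_eq hf h
        · exact h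
      have hS : S hf M ((g : Matrix ι ι F) *ᵥ a) ((g : Matrix ι ι F) *ᵥ b) := S.conj ⟨hab', hM a ha b hb hab'⟩ hgM hgi
      constructor
      · by_contra hcon
        push Not at hcon
        exact hno (pair_in_X hf hX hY hsup hM (by omega) (by omega) hS hu0 hu1 hv0 hv1 hu hv hcon.1 hcon.2)
      · by_contra hcon
        push Not at hcon
        apply hno
        have hS' := hS.conj hτM hτi
        have hτu1 : (τ : Matrix ι ι F) *ᵥ u1 ∈ D 0 := hτY ⟨u1, hu1, rfl⟩
        have hτv1 : (τ : Matrix ι ι F) *ᵥ v1 ∈ D 0 := hτY ⟨v1, hv1, rfl⟩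
        have hτu0 : (τ : Matrix ι ι F) *ᵥ u0 ∈ D 1 := hτX ⟨u0, hu0, rfl⟩
        have hτv0 : (τ : Matrix ι ι F) *ᵥ v0 ∈ D 1 := hτX ⟨v0, hv0, rfl⟩
        refine pair_in_X hf hX hY hsup hM (by omega) (by omega) hS' hτu1 hτu0 hτv1 hτv0 (by rw [hu, Matrix.mulVec_add, add_comm]) (by rw [hv, Matrix.mulVec_add, add_comm]) ?_ ?_
        · intro h0
          exact hcon.1 (mulVec_injective τ (h0.trans (Matrix.mulVec_zero _).symm))
        · intro h0
          obtain ⟨k, hk⟩ := Submodule.mem_span_singleton.mp h0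
          rw [← Matrix.mulVec_smul] at hk
          exact hcon.2 (Submodule.mem_span_singleton.mpr ⟨k, mulVec_injective τ hk⟩)
    obtain ⟨a, ha, a', ha', ha0, haa, hS⟩ := hmain
    have hall := all_in_X hf hX hY hsup hM (by omega) (by omega) ha ha' ha0 haa hS
    have hfullX : ∀ x ∈ D 0, SFull hf M x := by
      intro x hx c
      have h1 := (hall x hx ((c * 2⁻¹) • x) ((D 0).smul_mem _ hx)).2
      have h2' : sg hf x ((c * 2⁻¹) • x) = st hf x c := by
        apply gl_ext
        intro v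
        rw [sg_mulVec hf _ _ (by rw [hf.bilinear.smul_right, hf.alternating, mul_zero]), st_mulVec, hf.bilinear.smul_right]
        have : c * f v x = (c * 2⁻¹) * f v x + (c * 2⁻¹) * f v x := by field_simp; ring
        rw [this]
        module
      rwa [h2'] at h1
    have hτsurj : ∀ y ∈ D 1, ∃ x ∈ D 0, (τ : Matrix ι ι F) *ᵥ x = y := by
      intro y hy
      have h1 : (D 0).map (le τ).toLinearMap = D 1 := by
        apply Submodule.eq_of_le_of_finrank_eq hτX
        rw [hYr, ← hXr]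
        exact LinearEquiv.finrank_map_eq (le τ) _
      rw [← h1] at hy
      obtain ⟨x, hx, hxy⟩ := hy
      exact ⟨x, hx, hxy⟩
    have hfullY : ∀ y ∈ D 1, SFull hf M y := by
      intro y hy
      obtain ⟨x, hx, rfl⟩ := hτsurj y hy
      exact (hfullX x hx).mulVec hτM hτi
    refine le_antisymm hMK (iso_le_of_sfull hf M fun v => ?_)
    obtain ⟨x, hx, y, hy, rfl⟩ := dec hsup v
    by_cases hxy : f x y = 0
    · intro c
      rw [st_sum hf hxy]
      exact M.mul_mem (M.mul_mem (hM _ ((D 0).smul_mem c hx) y hy (by rw [hf.bilinear.smul_left, hxy, mul_zero])) (hfullX x hx c)) (hfullY y hy c)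
    · have := SFull.add (hfullX x hx) (hfullY y hy) hxy 1
      rwa [one_smul] at this

end CfsgLib.PairSp29
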