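import Cfsg.Agent.LibPairSp29
import Cfsg.Agent.LibUnSub29

/-! The stabiliser of a pair of complementary totally isotropic subspaces in the special unitary group. -/

namespace CfsgLib.PairUn29

open scoped MatrixGroups Matrix
open Cfsg CfsgLib.MaxTv29 CfsgLib.Un29 CfsgLib.Pair29

variable {ι : Type} [Fintype ι] [DecidableEq ι] {F : Type*} [Field F] {σ : F ≃+* F}
variable {f : (ι → F) → (ι → F) → F}

/-- short root pair in `M` -/
structure S (f : (ι → F) → (ι → F) → F) (M : Subgroup (GL ι F)) (u v : ι → F) : Prop where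
  uu : f u u = 0
  vv : f v v = 0
  uv : f u v = 0
  sr : SR f M u v

theorem S.symm (hf : Geo.IsUnitaryForm σ f) {M : Subgroup (GL ι F)} {u v : ι → F} (h : S f M u v) : S f M v u :=
  ⟨h.vv, h.uu, swap_eq hf h.uv, h.sr.symm hf h.uu h.vv h.uv⟩

theorem S.neg (hf : Geo.IsUnitaryForm σ f) {M : Subgroup (GL ι F)} {u v : ι → F} (h : S f M u v) : S f M u (-v) :=
  ⟨h.uu, by rw [neg_left hf, neg_right hf, h.vv]; ring, by rw [neg_right hf, h.uv, neg_zero], h.sr.neg hf h.uu h.vv h.uv⟩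

theorem S.smul (hf : Geo.IsUnitaryForm σ f) {M : Subgroup (GL ι F)} {u v : ι → F} {k : F} (hk : k ≠ 0) (h : S f M (k • u) v) : S f M u (σ k • v) := by
  have h1 : f u u = 0 := by
    have := h.uu
    rw [hf.smul_left, smul_right hf] at this
    exact (mul_eq_zero.mp ((mul_eq_zero.mp this).resolve_left hk)).resolve_left (fun h => hk ((map_eq_zero σ).mp h))
  have h2 : f u v = 0 := by
    have := h.uv
    rw [hf.smul_left] at this
    exact (mul_eq_zero.mp this).resolve_left hk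
  exact ⟨h1, by rw [hf.smul_left, smul_right hf, h.vv]; ring, by rw [smul_right hf, h2, mul_zero], h.sr.smul_swap hf⟩

theorem S.sub (hf : Geo.IsUnitaryForm σ f) {M : Subgroup (GL ι F)} {u v w : ι → F} (h : S f M u (v + w)) (h' : S f M u v) (hw : f w w = 0) (huw : f u w = 0)
    (hvw : f v w = 0) : S f M u w :=
  ⟨h.uu, hw, huw, SR.sub hf h.sr h'.sr h.uu h'.vv h'.uv huw hvw⟩

theorem S.conj (hf : Geo.IsUnitaryForm σ f) {M : Subgroup (GL ι F)} {u v : ι → F} (h : S f M u v) {g : GL ι F} (hg : g ∈ M) (hgi : g ∈ iso f) :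
    S f M ((g : Matrix ι ι F) *ᵥ u) ((g : Matrix ι ι F) *ᵥ v) :=
  ⟨by rw [(mem_iso g).mp hgi]; exact h.uu, by rw [(mem_iso g).mp hgi]; exact h.vv, by rw [(mem_iso g).mp hgi]; exact h.uv, h.sr.conj hf hg hgi⟩

/-- key step -/
theorem S.step (hf : Geo.IsUnitaryForm σ f) {M : Subgroup (GL ι F)} {u v a b : ι → F} (h : S f M u v) (hab : S f M a b) (hua : f u a = 0) (hub : f u b = 1)
    (hva : f v a = 0) (hvb : f v b = 0) : S f M v a := by
  obtain ⟨g, hg, hgx⟩ := hab.sr
  have hgi : g ∈ iso f := sr_mem_iso hf hab.uu hab.vv hab.uv hgx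
  have h1 := h.conj hf hg hgi
  rw [hgx, hgx, hua, hub, hva, hvb] at h1
  simp only [zero_smul, one_smul, add_zero, sub_zero] at h1
  have h2 := h1.symm hf
  rw [sub_eq_add_neg] at h2
  have h3 := h2.sub hf (h.symm hf) (by rw [neg_left hf, neg_right hf, hab.uu]; ring) (by rw [neg_right hf, hva, neg_zero]) (by rw [neg_right hf, hua, neg_zero])
  have h4 := h3.neg hf
  rwa [neg_neg] at h4

section pair
variable {X Y : Submodule F (ι → F)} (hf : Geo.IsUnitaryForm σ f) (hX : ∀ x ∈ X, ∀ x' ∈ X, f x x' = 0) (hY : ∀ y ∈ Y, ∀ y' ∈ Y, f y y' = 0) (hsup : X ⊔ Y = ⊤)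
include hf hX hY hsup

omit hX hY hf in
theorem dec (v : ι → F) : ∃ v0 ∈ X, ∃ v1 ∈ Y, v = v0 + v1 := by
  have : v ∈ X ⊔ Y := by rw [hsup]; exact Submodule.mem_top
  obtain ⟨a, ha, b, hb, h⟩ := Submodule.mem_sup.mp this
  exact ⟨a, ha, b, hb, h.symm⟩

/-- duality -/
theorem dual (W : Submodule F (ι → F)) {x : ι → F} (hx : x ∉ W) (hxX : x ∈ X) (hW : W ≤ X) : ∃ b ∈ Y, f x b = 1 ∧ ∀ w ∈ W, f w b = 0 := by
  obtain ⟨z, hz1, hz2⟩ := exists_perp hf W x hx
  obtain ⟨z0, hz0, z1, hz1', rfl⟩ := dec hsup z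
  refine ⟨z1, hz1', ?_, fun w hw => ?_⟩
  · rw [add_right hf, hX x hxX z0 hz0, zero_add] at hz1; exact hz1
  · have := hz2 w hw
    rw [add_right hf, hX w (hW hw) z0 hz0, zero_add] at this; exact this

theorem perpX {v : ι → F} (h : ∀ x ∈ X, f x v = 0) : v ∈ X := by
  obtain ⟨v0, hv0, v1, hv1, rfl⟩ := dec hsup v
  have h1 : v1 = 0 := by
    by_contra hne
    obtain ⟨⟨z, hz⟩, _⟩ := hf.nondegenerate v1 hne
    obtain ⟨z0, hz0, z1, hz1, rfl⟩ := dec hsup z
    apply hz
    have h2 := h z0 hz0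
    rw [add_right hf, hX z0 hz0 v0 hv0, zero_add] at h2
    rw [hf.add_left, h2, hY z1 hz1 v1 hv1, add_zero]
  rw [h1, add_zero]; exact hv0

/-- swapping `X` and `Y` -/
theorem exists_swap : ∃ g ∈ TG hf ⊤, X.map (le g).toLinearMap ≤ Y ∧ Y.map (le g).toLinearMap ≤ X := by
  classical
  obtain ⟨δ, hδ0, hδ⟩ := exists_skew hf
  have hδ' : σ (-δ⁻¹) = - -δ⁻¹ := by rw [map_neg, map_inv₀, hδ, inv_neg]
  let b := Module.finBasis F X
  have hc : ∀ j, ∃ c ∈ Y, f (b j : ι → F) c = 1 ∧ ∀ i, i ≠ j → f (b i : ι → F) c = 0 := by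
    intro j
    let W : Submodule F (ι → F) := Submodule.span F ((fun i => (b i : ι → F)) '' {j}ᶜ)
    have hli : LinearIndependent F (fun i => (b i : ι → F)) := b.linearIndependent.map' X.subtype (Submodule.ker_subtype X)
    have hjW : (b j : ι → F) ∉ W := hli.notMem_span_image (by simp)
    obtain ⟨c, hcY, h1, h2⟩ := dual hf hX hY hsup W hjW (b j).2 (by
      rw [Submodule.span_le]
      rintro _ ⟨i, _, rfl⟩
      exact (b i).2)
    exact ⟨c, hcY, h1, fun i hi => h2 _ (Submodule.subset_span ⟨i, hi, rfl⟩)⟩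
  choose c hcY hc1 hc0 using hc
  have hbb : ∀ i k, f (b i : ι → F) (b k : ι → F) = 0 := fun i k => hX _ (b i).2 _ (b k).2
  have hcc : ∀ i k, f (c i) (c k) = 0 := fun i k => hY _ (hcY i) _ (hcY k)
  have key : ∀ s : Finset (Fin (Module.finrank F X)), ∃ g ∈ TG hf ⊤, (∀ i ∈ s, (g : Matrix ι ι F) *ᵥ (b i : ι → F) = (-δ⁻¹) • c i ∧ (g : Matrix ι ι F) *ᵥ (c i) = δ • (b i : ι → F)) ∧
      (∀ i ∉ s, (g : Matrix ι ι F) *ᵥ (b i : ι → F) = b i ∧ (g : Matrix ι ι F) *ᵥ (c i) = c i) := by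
    intro s
    induction s using Finset.induction_on with
    | empty =>
      refine ⟨1, (TG hf ⊤).one_mem, by simp, fun i _ => ?_⟩
      rw [Units.val_one, Matrix.one_mulVec, Matrix.one_mulVec]
      exact ⟨rfl, rfl⟩
    | insert j s hj ih =>
      obtain ⟨g, hg, h1, h2⟩ := ih
      let w : GL ι F := ut hf (b j) δ * ut hf (c j) (-δ⁻¹) * ut hf (b j) δ
      have hw : w ∈ TG hf ⊤ := (TG hf ⊤).mul_mem ((TG hf ⊤).mul_mem (ut_mem_TG hf Submodule.mem_top (hbb j j) hδ) (ut_mem_TG hf Submodule.mem_top (hcc j j) hδ'))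
        (ut_mem_TG hf Submodule.mem_top (hbb j j) hδ)
      have hwx : ∀ x, (w : Matrix ι ι F) *ᵥ x = ((ut hf (b j) δ : GL ι F) : Matrix ι ι F) *ᵥ (((ut hf (c j) (-δ⁻¹) : GL ι F) : Matrix ι ι F) *ᵥ (((ut hf (b j) δ : GL ι F) : Matrix ι ι F) *ᵥ x)) := by
        intro x
        rw [Matrix.mulVec_mulVec, Matrix.mulVec_mulVec]
        rfl
      have hcb : f (c j) (b j : ι → F) = 1 := by rw [hf.herm, hc1, map_one]
      have hd1 : δ * δ⁻¹ = 1 := mul_inv_cancel₀ hδ0
      have w1 : (w : Matrix ι ι F) *ᵥ (b j : ι → F) = (-δ⁻¹) • c j := by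
        rw [hwx]
        simp only [ut_mulVec hf (hbb j j), ut_mulVec hf (hcc j j), hf.add_left, hf.smul_left, hbb, hcc, hc1, hcb]
        match_scalars <;> field_simp <;> ring
      have w2 : (w : Matrix ι ι F) *ᵥ (c j) = δ • (b j : ι → F) := by
        rw [hwx]
        simp only [ut_mulVec hf (hbb j j), ut_mulVec hf (hcc j j), hf.add_left, hf.smul_left, hbb, hcc, hc1, hcb]
        match_scalars <;> field_simp <;> ring
      have w3 : ∀ i, i ≠ j → (w : Matrix ι ι F) *ᵥ (b i : ι → F) = b i := by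
        intro i hi
        rw [hwx]
        simp only [ut_mulVec hf (hbb j j), ut_mulVec hf (hcc j j), hbb, hc0 j i hi, mul_zero, zero_smul, add_zero]
      have w4 : ∀ i, i ≠ j → (w : Matrix ι ι F) *ᵥ (c i) = c i := by
        intro i hi
        have e : f (c i) (b j : ι → F) = 0 := swap_eq hf (hc0 i j (Ne.symm hi))
        rw [hwx]
        simp only [ut_mulVec hf (hbb j j), ut_mulVec hf (hcc j j), hcc, e, mul_zero, zero_smul, add_zero]
      refine ⟨w * g, (TG hf ⊤).mul_mem hw hg, fun i hi => ?_, fun i hi => ?_⟩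
      · rw [Units.val_mul, ← Matrix.mulVec_mulVec, ← Matrix.mulVec_mulVec]
        rcases Finset.mem_insert.mp hi with rfl | his
        · rw [(h2 i hj).1, (h2 i hj).2]; exact ⟨w1, w2⟩
        · have hij : i ≠ j := by rintro rfl; exact hj his
          rw [(h1 i his).1, (h1 i his).2, Matrix.mulVec_smul, Matrix.mulVec_smul, w3 i hij, w4 i hij]
          exact ⟨rfl, rfl⟩
      · rw [Units.val_mul, ← Matrix.mulVec_mulVec, ← Matrix.mulVec_mulVec]
        have hi' : i ∉ s := fun h => hi (Finset.mem_insert_of_mem h)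
        have hij : i ≠ j := by rintro rfl; exact hi (Finset.mem_insert_self _ _)
        rw [(h2 i hi').1, (h2 i hi').2]
        exact ⟨w3 i hij, w4 i hij⟩
  obtain ⟨g, hg, h1, _⟩ := key Finset.univ
  have hgi := TG_le_iso hf ⊤ hg
  have hspan : ∀ x ∈ X, ∃ a : Fin (Module.finrank F X) → F, x = ∑ i, a i • (b i : ι → F) := by
    intro x hx
    refine ⟨fun i => b.repr ⟨x, hx⟩ i, ?_⟩
    have := congrArg Subtype.val (b.sum_repr ⟨x, hx⟩)
    rw [Submodule.coe_sum] at this
    exact this.symm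
  refine ⟨g, hg, ?_, ?_⟩
  · rintro _ ⟨x, hx, rfl⟩
    obtain ⟨a, rfl⟩ := hspan x hx
    rw [map_sum]
    apply Y.sum_mem
    intro i _
    rw [map_smul]
    apply Y.smul_mem
    change (g : Matrix ι ι F) *ᵥ (b i : ι → F) ∈ Y
    rw [(h1 i (Finset.mem_univ _)).1]; exact Y.smul_mem _ (hcY i)
  · rintro _ ⟨y, hy, rfl⟩
    apply perpX hf hX hY hsup
    intro x hx
    obtain ⟨a, rfl⟩ := hspan x hx
    have h2 : ∀ i, f (b i : ι → F) ((g : Matrix ι ι F) *ᵥ y) = 0 := by
      intro i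
      have : (b i : ι → F) = δ⁻¹ • ((g : Matrix ι ι F) *ᵥ (c i)) := by rw [(h1 i (Finset.mem_univ _)).2, smul_smul, inv_mul_cancel₀ hδ0, one_smul]
      rw [this, hf.smul_left, (mem_iso g).mp hgi, hY _ (hcY i) _ hy, mul_zero]
    change (fd hf ((g : Matrix ι ι F) *ᵥ y)) _ = 0
    rw [map_sum]
    exact Finset.sum_eq_zero fun i _ => by rw [map_smul, fd_apply, h2, smul_zero]

variable {M : Subgroup (GL ι F)} (hM : ∀ a ∈ X, ∀ b ∈ Y, f a b = 0 → S f M a b)

omit hX hY hsup in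
theorem exists_in (L : List (ι → F)) (W : Submodule F (ι → F)) (h : L.length + Module.finrank F W < Module.finrank F X) :
    ∃ a ∈ X, (∀ l ∈ L, f l a = 0) ∧ a ∉ W := by
  classical
  by_contra hcon
  push Not at hcon
  have h1 : X ⊓ perp hf (Submodule.span F {x | x ∈ L}) ≤ W := fun a ha => hcon a ha.1 (fun l hl => ha.2 l (Submodule.subset_span hl))
  have h2 := Submodule.finrank_mono h1
  have h3 := finrank_inf_perp hf (U := X) (Submodule.span F {x | x ∈ L})
  have h5 : Module.finrank F (Submodule.span F {x | x ∈ L}) ≤ L.length := CfsgLib.SympTv29.finrank_span_list_le L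
  omega

include hM

/-- a pair with independent `X`-components gives an independent pair in `X` -/
theorem pair_in_X (hXr7 : 6 ≤ Module.finrank F X) {u v u0 u1 v0 v1 : ι → F} (h : S f M u v) (hu0 : u0 ∈ X) (hu1 : u1 ∈ Y) (hv0 : v0 ∈ X) (hv1 : v1 ∈ Y)
    (hu : u = u0 + u1) (hv : v = v0 + v1) (h0 : u0 ≠ 0) (h1 : v0 ∉ Submodule.span F {u0}) :
    ∃ a ∈ X, ∃ a' ∈ X, a ≠ 0 ∧ a' ∉ Submodule.span F {a} ∧ S f M a a' := by
  have hu0v : u0 ∉ Submodule.span F {v0} := by
    intro hcon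
    obtain ⟨k, hk⟩ := Submodule.mem_span_singleton.mp hcon
    have hk0 : k ≠ 0 := by rintro rfl; rw [zero_smul] at hk; exact h0 hk.symm
    exact h1 (Submodule.mem_span_singleton.mpr ⟨k⁻¹, by rw [← hk, smul_smul, inv_mul_cancel₀ hk0, one_smul]⟩)
  have hv00 : v0 ≠ 0 := by rintro rfl; exact h1 (Submodule.zero_mem _)
  obtain ⟨b, hb, hb1, hb2⟩ := dual hf hX hY hsup (Submodule.span F {v0}) hu0v hu0 (by
    rw [Submodule.span_singleton_le_iff_mem]; exact hv0)
  have hvb : f v b = 0 := by rw [hv, hf.add_left, hb2 v0 (Submodule.mem_span_singleton_self _), hY v1 hv1 b hb, add_zero]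
  have hub : f u b = 1 := by rw [hu, hf.add_left, hb1, hY u1 hu1 b hb, add_zero]
  obtain ⟨a, ha, haL, haW⟩ := exists_in (X := X) hf [u1, v1, b] (Submodule.span F {v0}) (by
    rw [finrank_span_singleton hv00]; simp; omega)
  have e1 : f u a = 0 := by rw [hu, hf.add_left, hX u0 hu0 a ha, haL u1 (by simp), add_zero]
  have e2 : f v a = 0 := by rw [hv, hf.add_left, hX v0 hv0 a ha, haL v1 (by simp), add_zero]
  have e3 : f a b = 0 := swap_eq hf (haL b (by simp))
  have s1 : S f M v a := h.step hf (hM a ha b hb e3) e1 hub e2 hvb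
  have ha0 : a ≠ 0 := by rintro rfl; exact haW (Submodule.zero_mem _)
  have hv0a : v0 ∉ Submodule.span F {a} := by
    intro hcon
    obtain ⟨k, hk⟩ := Submodule.mem_span_singleton.mp hcon
    have hk0 : k ≠ 0 := by rintro rfl; rw [zero_smul] at hk; exact hv00 hk.symm
    exact haW (Submodule.mem_span_singleton.mpr ⟨k⁻¹, by rw [← hk, smul_smul, inv_mul_cancel₀ hk0, one_smul]⟩)
  obtain ⟨b', hb', hb1', hb2'⟩ := dual hf hX hY hsup (Submodule.span F {a}) hv0a hv0 (by
    rw [Submodule.span_singleton_le_iff_mem]; exact ha)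
  obtain ⟨a', ha', haL', haW'⟩ := exists_in (X := X) hf [v1, b'] (Submodule.span F {a}) (by
    rw [finrank_span_singleton ha0]; simp; omega)
  have e4 : f v a' = 0 := by rw [hv, hf.add_left, hX v0 hv0 a' ha', haL' v1 (by simp), add_zero]
  have e5 : f v b' = 1 := by rw [hv, hf.add_left, hb1', hY v1 hv1 b' hb', add_zero]
  have e6 : f a' b' = 0 := swap_eq hf (haL' b' (by simp))
  have s2 : S f M a a' := s1.step hf (hM a' ha' b' hb' e6) e4 e5 (hX a ha a' ha') (hb2' a (Submodule.mem_span_singleton_self _))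
  exact ⟨a, ha, a', ha', ha0, haW', s2⟩

theorem all_in_X (hXr7 : 6 ≤ Module.finrank F X) {a a' : ι → F} (ha : a ∈ X) (ha' : a' ∈ X) (ha0 : a ≠ 0) (haa : a' ∉ Submodule.span F {a}) (h : S f M a a') :
    ∀ x ∈ X, ∀ x' ∈ X, S f M x x' := by
  have hstep : ∀ a ∈ X, ∀ a' ∈ X, a' ∉ Submodule.span F {a} → S f M a a' → ∀ c ∈ X, S f M a c := by
    intro a ha a' ha' haa h
    have h1 : ∀ c ∈ X, a' ∉ Submodule.span F {a, c} → S f M a c := by
      intro c hc hn
      obtain ⟨b, hb, hb1, hb2⟩ := dual hf hX hY hsup (Submodule.span F {a, c}) hn ha' (CfsgLib.PairSp29.pair_span_le ha hc)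
      have e1 : f c b = 0 := hb2 c (Submodule.subset_span (by simp))
      exact (h.symm hf).step hf (hM c hc b hb e1) (hX a' ha' c hc) hb1 (hX a ha c hc) (hb2 a (Submodule.subset_span (by simp)))
    intro c hc
    by_cases hn : a' ∈ Submodule.span F {a, c}
    · obtain ⟨c1, hc1, _, hc1n⟩ := exists_in (X := X) hf [] (Submodule.span F {a, a'}) (by
        have := CfsgLib.Pair29.finrank_pair_le (F := F) a a'
        simp; omega)
      have hac' : c ∈ Submodule.span F {a, a'} := by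
        obtain ⟨k, l, hkl⟩ := Submodule.mem_span_pair.mp hn
        have hl0 : l ≠ 0 := by
          rintro rfl
          apply haa
          rw [Submodule.mem_span_singleton]
          exact ⟨k, by rw [← hkl, zero_smul, add_zero]⟩
        rw [Submodule.mem_span_pair]
        refine ⟨-(l⁻¹ * k), l⁻¹, ?_⟩
        rw [← hkl, smul_add, smul_smul, smul_smul, inv_mul_cancel₀ hl0]
        module
      have h2 : S f M a c1 := h1 c1 hc1 (CfsgLib.SpSub29.notMem_pair haa hc1n)
      have h3 : S f M a (c1 + c) := by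
        apply h1 _ (X.add_mem hc1 hc)
        apply CfsgLib.SpSub29.notMem_pair haa
        intro hcon
        apply hc1n
        have := Submodule.sub_mem _ hcon hac'
        rwa [add_sub_cancel_right] at this
      exact h3.sub hf h2 (hX c hc c hc) (hX a ha c hc) (hX c1 hc1 c hc)
    · exact h1 c hc hn
  have hNa := hstep a ha a' ha' haa h
  intro x hx
  by_cases hxa : a ∈ Submodule.span F {x}
  · obtain ⟨k, rfl⟩ := Submodule.mem_span_singleton.mp hxa
    intro x' hx'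
    have hk0 : k ≠ 0 := by rintro rfl; exact ha0 (zero_smul _ _)
    have hk0' : σ k ≠ 0 := fun h => hk0 ((map_eq_zero σ).mp h)
    have h1 := hNa ((σ k)⁻¹ • x') (X.smul_mem _ hx')
    have h2 := h1.smul hf hk0
    rwa [smul_smul, mul_inv_cancel₀ hk0', one_smul] at h2
  · exact hstep x hx a ha hxa ((hNa x hx).symm hf)

end pair

theorem pair_maximal [Finite F] {D : Fin 2 → Submodule F (ι → F)} {m : ℕ} (hm : 6 ≤ m) (hn : 4 ≤ Fintype.card ι) (hf : Geo.IsUnitaryForm σ f) (hD : Geo.IsMDecomposition m D)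
    (hts : ∀ i, Geo.IsTotallySingularFor f (D i)) :
    Geo.IsMaximalIn (iso f ⊓ Geo.specialLinear ι F) (Geo.decompositionStabilizer D ⊓ (iso f ⊓ Geo.specialLinear ι F)) := by
  have hX : ∀ x ∈ D 0, ∀ x' ∈ D 0, f x x' = 0 := hts 0
  have hY : ∀ y ∈ D 1, ∀ y' ∈ D 1, f y y' = 0 := hts 1
  have hsup := sup_eq_top hD
  have hinf := inf_eq_bot hD
  have hXr := hD.finrank_eq 0
  have hYr := hD.finrank_eq 1
  obtain ⟨δ, hδ0, hδ⟩ := exists_skew hf
  have hTG : TG hf ⊤ ≤ iso f ⊓ Geo.specialLinear ι F := le_inf (TG_le_iso hf ⊤) (TG_le_special hf ⊤)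
  have hsH : ∀ a ∈ D 0, ∀ b ∈ D 1, f a b = 0 → S f (Geo.decompositionStabilizer D ⊓ (iso f ⊓ Geo.specialLinear ι F)) a b := by
    intro a ha b hb hab
    obtain ⟨g, hg, hgx⟩ := SR.of_TG hf (U := ⊤) Submodule.mem_top Submodule.mem_top (hX a ha a ha) (hY b hb b hb) hab
    refine ⟨hX a ha a ha, hY b hb b hb, hab, g, ⟨mem_stab_two hD _ ⟨Or.inl ?_, Or.inr ?_⟩, hTG hg⟩, hgx⟩
    · rintro _ ⟨x, hx, rfl⟩
      change (g : Matrix ι ι F) *ᵥ x ∈ D 0
      rw [hgx, hX x hx a ha, zero_smul, add_zero]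
      exact (D 0).sub_mem hx ((D 0).smul_mem _ ha)
    · rintro _ ⟨y, hy, rfl⟩
      change (g : Matrix ι ι F) *ᵥ y ∈ D 1
      rw [hgx, hY y hy b hb, zero_smul, sub_zero]
      exact (D 1).add_mem hy ((D 1).smul_mem _ hb)
  obtain ⟨τ, hτT, hτX, hτY⟩ := exists_swap hf hX hY hsup
  have hτi := TG_le_iso hf ⊤ hτT
  have hτH : τ ∈ Geo.decompositionStabilizer D ⊓ (iso f ⊓ Geo.specialLinear ι F) := ⟨mem_stab_two hD _ ⟨Or.inr hτX, Or.inl hτY⟩, hTG hτT⟩
  refine ⟨⟨inf_le_right, fun hle => ?_⟩, fun M hHM hMK => ?_⟩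
  · obtain ⟨x, hx, hx0⟩ : ∃ x ∈ D 0, x ≠ 0 := by
      apply Submodule.exists_mem_ne_zero_of_ne_bot
      intro h
      rw [h] at hXr; simp at hXr; omega
    obtain ⟨y, hy, hxy, _⟩ := dual hf hX hY hsup ⊥ (x := x) (by simpa using hx0) hx bot_le
    have hyx : f y x = 1 := by rw [hf.herm, hxy, map_one]
    have hviso : f (x + δ • y) (x + δ • y) = 0 := by
      rw [hf.add_left, add_right hf, add_right hf, hf.smul_left, hf.smul_left, smul_right hf, smul_right hf, hX x hx x hx, hY y hy y hy, hxy, hyx, hδ]; ring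
    obtain ⟨ρ, hρ⟩ := (hle (hTG (ut_mem_TG hf Submodule.mem_top hviso hδ))).1
    have hρ0 := hρ 0
    have himg : ((ut hf (x + δ • y) δ : GL ι F) : Matrix ι ι F) *ᵥ x = (1 - δ * δ) • x + (-(δ * δ * δ)) • y := by
      rw [ut_mulVec hf hviso, add_right hf, smul_right hf, hX x hx x hx, hxy, hδ]; module
    have h1 : (1 - δ * δ) • x + (-(δ * δ * δ)) • y ∈ D (ρ 0) := by
      rw [← hρ0, map_toLin]
      exact ⟨x, hx, himg⟩
    obtain ⟨x', hx', hx'L, hx'n⟩ := exists_in (X := D 0) hf [y] (⊥ : Submodule F (ι → F)) (by rw [finrank_bot]; simp; omega)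
    have hx'0 : x' ≠ 0 := by simpa using hx'n
    have hfix : ((ut hf (x + δ • y) δ : GL ι F) : Matrix ι ι F) *ᵥ x' = x' := by
      apply ut_fix hf hviso
      rw [add_right hf, smul_right hf, hX x' hx' x hx, swap_eq hf (hx'L y (by simp)), mul_zero, add_zero]
    have h2' : x' ∈ D (ρ 0) := by
      rw [← hρ0, map_toLin]
      exact ⟨x', hx', hfix⟩
    have hy0 : y ≠ 0 := by rintro rfl; rw [zero_right hf] at hxy; exact zero_ne_one hxy
    have : ρ 0 = 0 ∨ ρ 0 = 1 := by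
      have := (ρ 0).isLt
      omega
    rcases this with h | h
    · rw [h] at h1
      have h3 : (-(δ * δ * δ)) • y ∈ D 0 := by
        have := (D 0).sub_mem h1 ((D 0).smul_mem (1 - δ * δ) hx)
        rwa [add_sub_cancel_left] at this
      have hd3 : (-(δ * δ * δ)) ≠ 0 := neg_ne_zero.mpr (mul_ne_zero (mul_ne_zero hδ0 hδ0) hδ0)
      have h4 : y ∈ D 0 ⊓ D 1 := ⟨((D 0).smul_mem_iff hd3).mp h3, hy⟩
      rw [hinf] at h4
      exact hy0 ((Submodule.mem_bot F).mp h4)
    · rw [h] at h2'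
      have h3 : x' ∈ D 0 ⊓ D 1 := ⟨hx', h2'⟩
      rw [hinf] at h3
      exact hx'0 ((Submodule.mem_bot F).mp h3)
  · by_cases hMH : M = Geo.decompositionStabilizer D ⊓ (iso f ⊓ Geo.specialLinear ι F)
    · exact Or.inl hMH
    right
    obtain ⟨g, hgM, hg⟩ : ∃ g ∈ M, g ∉ Geo.decompositionStabilizer D := by
      by_contra hcon
      push Not at hcon
      exact hMH (le_antisymm (le_inf hcon hMK) hHM)
    have hM : ∀ a ∈ D 0, ∀ b ∈ D 1, f a b = 0 → S f M a b := fun a ha b hb hab =>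
      ⟨hX a ha a ha, hY b hb b hb, hab, (hsH a ha b hb hab).sr.mono hHM⟩
    have hτM : τ ∈ M := hHM hτH
    have hgi := (hMK hgM).1
    have hmain : ∃ a ∈ D 0, ∃ a' ∈ D 0, a ≠ 0 ∧ a' ∉ Submodule.span F {a} ∧ S f M a a' := by
      by_contra hno
      apply hg
      apply mem_stab_two hD
      apply stab_of_bad hsup (fd hf) (by omega) (by omega)
      intro a ha b hb hab u0 hu0 u1 hu1 v0 hv0 v1 hv1 hu hv
      have hab' : f a b = 0 := by
        rcases hab with h | h
        · exact swap_eq hf h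
        · exact h
      have hS : S f M ((g : Matrix ι ι F) *ᵥ a) ((g : Matrix ι ι F) *ᵥ b) := (hM a ha b hb hab').conj hf hgM hgi
      constructor
      · by_contra hcon
        push Not at hcon
        exact hno (pair_in_X hf hX hY hsup hM (by omega) hS hu0 hu1 hv0 hv1 hu hv hcon.1 hcon.2)
      · by_contra hcon
        push Not at hcon
        apply hno
        have hS' := hS.conj hf hτM hτi
        have hτu1 : (τ : Matrix ι ι F) *ᵥ u1 ∈ D 0 := hτY ⟨u1, hu1, rfl⟩
        have hτv1 : (τ : Matrix ι ι F) *ᵥ v1 ∈ D 0 := hτY ⟨v1, hv1, rfl⟩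
        have hτu0 : (τ : Matrix ι ι F) *ᵥ u0 ∈ D 1 := hτX ⟨u0, hu0, rfl⟩
        have hτv0 : (τ : Matrix ι ι F) *ᵥ v0 ∈ D 1 := hτX ⟨v0, hv0, rfl⟩
        refine pair_in_X hf hX hY hsup hM (by omega) hS' hτu1 hτu0 hτv1 hτv0 (by rw [hu, Matrix.mulVec_add, add_comm]) (by rw [hv, Matrix.mulVec_add, add_comm]) ?_ ?_
        · intro h0
          exact hcon.1 (mulVec_injective τ (h0.trans (Matrix.mulVec_zero _).symm))
        · intro h0
          obtain ⟨k, hk⟩ := Submodule.mem_span_singleton.mp h0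
          rw [← Matrix.mulVec_smul] at hk
          exact hcon.2 (Submodule.mem_span_singleton.mpr ⟨k, mulVec_injective τ hk⟩)
    obtain ⟨a, ha, a', ha', ha0, haa, hS⟩ := hmain
    have hall := all_in_X hf hX hY hsup hM (by omega) ha ha' ha0 haa hS
    obtain ⟨t, ht⟩ := exists_trace_one hf
    have hfullX : ∀ x ∈ D 0, ∀ c, σ c = -c → ut hf x c ∈ M := by
      intro x hx c hc
      obtain ⟨g1, hg1, hgx1⟩ := (hall x hx ((c * t) • x) ((D 0).smul_mem _ hx)).sr
      have h2' : g1 = ut hf x c := by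
        apply gl_ext
        intro v
        rw [hgx1, ut_mulVec hf (hX x hx x hx), smul_right hf, map_mul, hc]
        have : f v x • (c * t) • x - (-c * σ t * f v x) • x = ((c * f v x) * (t + σ t)) • x := by module
        rw [add_sub_assoc, this, ht, mul_one]
      rwa [h2'] at hg1
    have hτsurj : ∀ y ∈ D 1, ∃ x ∈ D 0, (τ : Matrix ι ι F) *ᵥ x = y := by
      intro y hy
      have h1 : (D 0).map (le τ).toLinearMap = D 1 := by
        apply Submodule.eq_of_le_of_finrank_eq hτX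
        rw [hYr, ← hXr]
        exact LinearEquiv.finrank_map_eq (le τ) _
      rw [← h1] at hy
      obtain ⟨x, hx, hxy⟩ := hy
      exact ⟨x, hx, hxy⟩
    have hfullY : ∀ y ∈ D 1, ∀ c, σ c = -c → ut hf y c ∈ M := by
      intro y hy c hc
      obtain ⟨x, hx, rfl⟩ := hτsurj y hy
      exact ut_mem_conj hf hτM hτi (hX x hx x hx) (hfullX x hx c hc)
    refine le_antisymm hMK ((su_le_TG4 hf hn).trans ?_)
    rw [TG_le_iff]
    intro v _ hv c hc
    obtain ⟨x, hx, y, hy, rfl⟩ := dec hsup v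
    have hxx := hX x hx x hx
    have hyy := hY y hy y hy
    by_cases hxy : f x y = 0
    · obtain ⟨g1, hg1, hgx1⟩ := (hM x hx (c • y) ((D 1).smul_mem c hy) (by rw [smul_right hf, hxy, mul_zero])).sr
      have : ut hf (x + y) c = g1 * ut hf x c * ut hf y c := by
        apply gl_ext
        intro z
        rw [Units.val_mul, Units.val_mul, ← Matrix.mulVec_mulVec, ← Matrix.mulVec_mulVec, hgx1, ut_mulVec hf hv, ut_mulVec hf hxx, ut_mulVec hf hyy]
        simp only [hf.add_left, add_right hf, hf.smul_left, smul_right hf, hxx, hyy, hxy, swap_eq hf hxy, hc]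
        module
      rw [this]
      exact M.mul_mem (M.mul_mem hg1 (hfullX x hx c hc)) (hfullY y hy c hc)
    · have hyx := swap_ne hf hxy
      have hsk : σ (f y x)⁻¹ = -(f y x)⁻¹ := by
        rw [hf.add_left, add_right hf, add_right hf, hxx, hyy, zero_add, add_zero] at hv
        rw [map_inv₀, ← hf.herm, eq_neg_of_add_eq_zero_left hv, inv_neg]
      have h1 := ut_mem_conj hf (hfullX x hx _ hsk) (ut_mem_iso hf hxx hsk) hyy (hfullY y hy c hc)
      rw [ut_mulVec hf hxx, inv_mul_cancel₀ hyx, one_smul, add_comm] at h1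
      exact h1

end CfsgLib.PairUn29
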