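import Mathlib
import Cfsg.Agent.EqBase

/-! stabilisers of uniform partitions in alternating groups -/

set_option autoImplicit false

universe u

namespace CfsgLib.PartH12

open Equiv Equiv.Perm
open scoped Pointwise

variable {Ω : Type u} [Fintype Ω] [DecidableEq Ω] {b : ℕ}

/-- stabiliser of the partition -/
def G0 (f : Ω → Fin b) : Subgroup (Perm Ω) where
  carrier := {g | ∀ x y : Ω, f x = f y ↔ f (g x) = f (g y)}
  one_mem' := fun x y => Iff.rfl
  mul_mem' := by
    intro g h hg hh x y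
    rw [Perm.mul_apply, Perm.mul_apply, ← hg, ← hh]
  inv_mem' := by
    intro g hg x y
    have := hg (g⁻¹ x) (g⁻¹ y)
    have e1 : g (g⁻¹ x) = x := g.apply_symm_apply x
    have e2 : g (g⁻¹ y) = y := g.apply_symm_apply y
    rw [e1, e2] at this
    exact this.symm

theorem mem_G0 (f : Ω → Fin b) (g : Perm Ω) :
    g ∈ G0 f ↔ ∀ x y : Ω, f x = f y ↔ f (g x) = f (g y) := Iff.rfl

theorem f_swap (f : Ω → Fin b) {x y : Ω} (h : f x = f y) (z : Ω) : f (swap x y z) = f z := by
  by_cases h1 : z = x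
  · rw [h1, swap_apply_left, h]
  · by_cases h2 : z = y
    · rw [h2, swap_apply_right, h]
    · rw [swap_apply_of_ne_of_ne h1 h2]

theorem swap_mem (f : Ω → Fin b) {x y : Ω} (h : f x = f y) : swap x y ∈ G0 f := by
  intro z w
  rw [f_swap f h, f_swap f h]

/-- W -/
def Wp (f : Ω → Fin b) : Subgroup (Perm Ω) := G0 f ⊓ alternatingGroup Ω

theorem dswap_mem (f : Ω → Fin b) {x y z w : Ω} (h : f x = f y) (h' : f z = f w) (hxy : x ≠ y)
    (hzw : z ≠ w) : swap x y * swap z w ∈ Wp f := by
  refine ⟨(G0 f).mul_mem (swap_mem f h) (swap_mem f h'), ?_⟩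
  change swap x y * swap z w ∈ alternatingGroup Ω
  rw [mem_alternatingGroup, map_mul, sign_swap hxy, sign_swap hzw]
  norm_num

section
variable (f : Ω → Fin b) {a : ℕ} (hf : ∀ i : Fin b, Nat.card {x : Ω // f x = i} = a)
include hf

theorem exists_coord : ∃ Φ : Ω ≃ Fin b × Fin a, ∀ x, (Φ x).1 = f x := by
  have h1 : ∀ i : Fin b, Nonempty ({x : Ω // f x = i} ≃ Fin a) := by
    intro i
    have := hf i
    rw [Nat.card_eq_fintype_card] at this
    exact ⟨Fintype.equivFinOfCardEq this⟩
  let e : ∀ i : Fin b, {x : Ω // f x = i} ≃ Fin a := fun i => (h1 i).some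
  exact ⟨(Equiv.sigmaFiberEquiv f).symm.trans
    ((Equiv.sigmaCongrRight e).trans (Equiv.sigmaEquivProd (Fin b) (Fin a))), fun x => rfl⟩

theorem exists_other (i : Fin b) (s : Finset Ω) (h : s.card < a) : ∃ z, f z = i ∧ z ∉ s := by
  have h1 : (Finset.univ.filter (fun x => f x = i)).card = a := by
    have := hf i
    rw [Nat.card_eq_fintype_card, Fintype.card_subtype] at this
    exact this
  obtain ⟨z, hz, hzs⟩ := Finset.exists_mem_notMem_of_card_lt_card (h1 ▸ h)
  exact ⟨z, (Finset.mem_filter.mp hz).2, hzs⟩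

omit hf [Fintype Ω] [DecidableEq Ω] in
theorem exists_block (s : Finset (Fin b)) (h : s.card < b) : ∃ i, i ∉ s := by
  have h1 : (Finset.univ : Finset (Fin b)).card = b := by simp
  obtain ⟨z, -, hzs⟩ := Finset.exists_mem_notMem_of_card_lt_card (by rw [h1]; exact h : s.card < (Finset.univ : Finset (Fin b)).card)
  exact ⟨z, hzs⟩

theorem exists_perm (ha : 2 ≤ a) (π : Perm (Fin b)) : ∃ w ∈ Wp f, ∀ x, f (w x) = π (f x) := by
  obtain ⟨Φ, hΦ⟩ := exists_coord f hf
  let w0 : Perm Ω := Φ.trans ((Equiv.prodCongr π (Equiv.refl (Fin a))).trans Φ.symm)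
  have hw0 : ∀ x, f (w0 x) = π (f x) := by
    intro x
    rw [← hΦ (w0 x)]
    change (Φ (Φ.symm ((Equiv.prodCongr π (Equiv.refl (Fin a))) (Φ x)))).1 = _
    rw [Equiv.apply_symm_apply]
    change π (Φ x).1 = _
    rw [hΦ]
  have hmem : ∀ w : Perm Ω, (∀ x, f (w x) = π (f x)) → w ∈ G0 f := by
    intro w hw x y
    rw [hw, hw]
    exact ⟨fun h => by rw [h], fun h => π.injective h⟩
  rcases Int.units_eq_one_or (sign w0) with h | h
  · exact ⟨w0, ⟨hmem w0 hw0, mem_alternatingGroup.mpr h⟩, hw0⟩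
  · have hne : Nonempty Ω := by
      by_contra hemp
      rw [not_nonempty_iff] at hemp
      have : w0 = 1 := Subsingleton.elim _ _
      rw [this, Equiv.Perm.sign_one] at h
      exact absurd h (by decide)
    obtain ⟨x⟩ := hne
    obtain ⟨y, hy, hyx⟩ := exists_other f hf (f x) {x} (by simp; omega)
    rw [Finset.mem_singleton] at hyx
    have hw : ∀ z, f ((w0 * swap x y) z) = π (f z) := by
      intro z
      rw [Perm.mul_apply, hw0, f_swap f hy.symm]
    refine ⟨w0 * swap x y, ⟨hmem _ hw, ?_⟩, hw⟩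
    change w0 * swap x y ∈ alternatingGroup Ω
    rw [mem_alternatingGroup, map_mul, h, sign_swap (Ne.symm hyx)]
    norm_num

/-- two points in a block avoiding the block of `x` and the point `y` -/
theorem avoid (ha : 2 ≤ a) (hb : 2 ≤ b) (hab : ¬ (a = 2 ∧ b = 2)) (x y : Ω) (hxy : f x ≠ f y) :
    ∃ u v, u ≠ v ∧ f u = f v ∧ f u ≠ f x ∧ u ≠ y ∧ v ≠ y := by
  by_cases h3 : 3 ≤ b
  · obtain ⟨j, hj⟩ := exists_block (b := b) {f x, f y} (lt_of_le_of_lt (Finset.card_le_two) h3)
    simp only [Finset.mem_insert, Finset.mem_singleton, not_or] at hj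
    obtain ⟨u, hu, -⟩ := exists_other f hf j ∅ (by simp; omega)
    obtain ⟨v, hv, hvu⟩ := exists_other f hf j {u} (by simp; omega)
    rw [Finset.mem_singleton] at hvu
    refine ⟨u, v, Ne.symm hvu, by rw [hu, hv], by rw [hu]; exact hj.1, ?_, ?_⟩
    · rintro rfl; exact hj.2 hu.symm
    · rintro rfl; exact hj.2 hv.symm
  · have ha3 : 3 ≤ a := by
      by_contra hlt
      exact hab ⟨by omega, by omega⟩
    obtain ⟨u, hu, huy⟩ := exists_other f hf (f y) {y} (by simp; omega)
    obtain ⟨v, hv, hvu⟩ := exists_other f hf (f y) {y, u} (lt_of_le_of_lt (Finset.card_le_two) ha3)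
    simp only [Finset.mem_insert, Finset.mem_singleton, not_or] at hvu huy
    exact ⟨u, v, Ne.symm hvu.2, by rw [hu, hv], by rw [hu]; exact Ne.symm hxy, huy, hvu.1⟩

theorem pretrans (ha : 2 ≤ a) (hb : 2 ≤ b) (x y : Ω) : ∃ w ∈ Wp f, w x = y := by
  obtain ⟨w, hw, hwf⟩ := exists_perm f hf ha (swap (f x) (f y))
  have h1 : f (w x) = f y := by rw [hwf, swap_apply_left]
  by_cases h2 : w x = y
  · exact ⟨w, hw, h2⟩
  · obtain ⟨j, hj⟩ := exists_block (b := b) {f y} (by simp; omega)
    rw [Finset.mem_singleton] at hj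
    obtain ⟨u, hu, -⟩ := exists_other f hf j ∅ (by simp; omega)
    obtain ⟨v, hv, hvu⟩ := exists_other f hf j {u} (by simp; omega)
    rw [Finset.mem_singleton] at hvu
    refine ⟨(swap (w x) y * swap u v) * w, (Wp f).mul_mem
      (dswap_mem f h1 (by rw [hu, hv]) h2 (Ne.symm hvu)) hw, ?_⟩
    have e1 : w x ≠ u := fun h => hj (by rw [← hu, ← h, h1])
    have e2 : w x ≠ v := fun h => hj (by rw [← hv, ← h, h1])
    rw [Perm.mul_apply, Perm.mul_apply, swap_apply_of_ne_of_ne e1 e2, swap_apply_left]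

theorem prim (ha : 2 ≤ a) (hb : 2 ≤ b) (hab : ¬ (a = 2 ∧ b = 2)) (M : Subgroup (Perm Ω))
    (hWM : Wp f ≤ M) (hM : ¬ M ≤ G0 f) : MulAction.IsPreprimitive M Ω := by
  have hpt : MulAction.IsPretransitive M Ω := ⟨fun x y => by
    obtain ⟨w, hw, hwx⟩ := pretrans f hf ha hb x y
    exact ⟨⟨w, hWM hw⟩, hwx⟩⟩
  refine { toIsPretransitive := hpt, isTrivialBlock_of_isBlock := ?_ }
  intro B hBb
  rw [MulAction.isBlock_iff_smul_eq_of_mem] at hBb
  have hB : ∀ m ∈ M, ∀ z ∈ B, m z ∈ B → ∀ w ∈ B, m w ∈ B := by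
    intro m hm z hz hmz w hw
    have h1 := hBb (g := (⟨m, hm⟩ : M)) hz hmz
    have h2 : (⟨m, hm⟩ : M) • w ∈ (⟨m, hm⟩ : M) • B := Set.smul_mem_smul_set hw
    rw [h1] at h2
    exact h2
  by_cases hsub : B.Subsingleton
  · exact Or.inl hsub
  · right
    rw [Set.not_subsingleton_iff] at hsub
    obtain ⟨x0, hx0, y0, hy0, hxy0⟩ := hsub
    -- step (i)
    have step : ∀ x ∈ B, ∀ y ∈ B, x ≠ y → ∀ z, f z = f x → z ∈ B := by
      intro x hx y hy hxy z hz
      by_cases hzx : z = x
      · rw [hzx]; exact hx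
      by_cases hfxy : f x = f y
      · by_cases hzy : z = y
        · rw [hzy]; exact hy
        · obtain ⟨j, hj⟩ := exists_block (b := b) {f x} (by simp; omega)
          rw [Finset.mem_singleton] at hj
          obtain ⟨u, hu, -⟩ := exists_other f hf j ∅ (by simp; omega)
          obtain ⟨v, hv, hvu⟩ := exists_other f hf j {u} (by simp; omega)
          rw [Finset.mem_singleton] at hvu
          have hne : ∀ p, f p = f x → p ≠ u ∧ p ≠ v := fun p hp =>
            ⟨fun h => hj (by rw [← hu, ← h, hp]), fun h => hj (by rw [← hv, ← h, hp])⟩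
          have hmem := hWM (dswap_mem f (show f y = f z by rw [hz, hfxy]) (by rw [hu, hv] : f u = f v)
            (Ne.symm hzy) (Ne.symm hvu))
          have e1 : (swap y z * swap u v) x = x := by
            rw [Perm.mul_apply, swap_apply_of_ne_of_ne (hne x rfl).1 (hne x rfl).2,
              swap_apply_of_ne_of_ne hxy (Ne.symm hzx)]
          have e2 : (swap y z * swap u v) y = z := by
            rw [Perm.mul_apply, swap_apply_of_ne_of_ne (hne y hfxy.symm).1 (hne y hfxy.symm).2,
              swap_apply_left]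
          have := hB _ hmem x hx (by rw [e1]; exact hx) y hy
          rwa [e2] at this
      · obtain ⟨u, v, huv, hfuv, hfux, huy, hvy⟩ := avoid f hf ha hb hab x y hfxy
        have hmem := hWM (dswap_mem f (show f x = f z from hz.symm) hfuv (Ne.symm hzx) huv)
        have e1 : (swap x z * swap u v) y = y := by
          rw [Perm.mul_apply, swap_apply_of_ne_of_ne (Ne.symm huy) (Ne.symm hvy),
            swap_apply_of_ne_of_ne (Ne.symm hxy) (fun h => hfxy (by rw [h, hz]))]
        have hxu : x ≠ u := fun h => hfux (by rw [h])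
        have hxv : x ≠ v := fun h => hfux (by rw [hfuv, ← h])
        have e2 : (swap x z * swap u v) x = z := by
          rw [Perm.mul_apply, swap_apply_of_ne_of_ne hxu hxv, swap_apply_left]
        have := hB _ hmem y hy (by rw [e1]; exact hy) x hx
        rwa [e2] at this
    have full : ∀ p ∈ B, ∀ z, f z = f p → z ∈ B := by
      intro p hp z hz
      by_cases h : p = x0
      · exact step p hp y0 hy0 (by rw [h]; exact hxy0) z hz
      · exact step p hp x0 hx0 h z hz
    by_cases hcase : ∃ p ∈ B, ∃ q ∈ B, f p ≠ f q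
    · obtain ⟨p, hp, q, hq, hpq⟩ := hcase
      rw [Set.eq_univ_iff_forall]
      intro z
      by_cases hzp : f z = f p
      · exact full p hp z hzp
      · obtain ⟨w, hw, hwf⟩ := exists_perm f hf ha (swap (f q) (f z))
        have e1 : f (w p) = f p := by
          rw [hwf, swap_apply_of_ne_of_ne hpq (Ne.symm hzp)]
        have e2 : f (w q) = f z := by rw [hwf, swap_apply_left]
        have h1 : w p ∈ B := full p hp _ e1
        have h2 := hB w (hWM hw) p hp h1 q hq
        exact full _ h2 z e2.symm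
    · exfalso
      push Not at hcase
      apply hM
      have key : ∀ g ∈ M, ∀ u v, f u = f v → f (g u) = f (g v) := by
        intro g hg u v huv
        obtain ⟨w, hw, hwf⟩ := exists_perm f hf ha (swap (f u) (f x0))
        have hu : w u ∈ B := full x0 hx0 _ (by rw [hwf, swap_apply_left])
        have hv : w v ∈ B := full x0 hx0 _ (by rw [hwf, ← huv, swap_apply_left])
        obtain ⟨w', hw', hwf'⟩ := exists_perm f hf ha (swap (f (g u)) (f x0))
        have hgu : w' (g u) ∈ B := full x0 hx0 _ (by rw [hwf', swap_apply_left])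
        have hm : w' * g * w⁻¹ ∈ M := M.mul_mem (M.mul_mem (hWM hw') hg) (M.inv_mem (hWM hw))
        have e1 : ∀ p, (w' * g * w⁻¹) (w p) = w' (g p) := by
          intro p
          rw [Perm.mul_apply, Perm.mul_apply]
          congr 2
          exact w.symm_apply_apply p
        have h1 := hB _ hm (w u) hu (by rw [e1]; exact hgu) (w v) hv
        rw [e1] at h1
        have h2 := hcase _ h1 x0 hx0
        rw [hwf'] at h2
        have h3 : swap (f (g u)) (f x0) (f (g u)) = f x0 := swap_apply_left _ _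
        exact ((swap (f (g u)) (f x0)).injective (h2.trans h3.symm)).symm
      intro g hg x y
      refine ⟨key g hg x y, fun h => ?_⟩
      have := key g⁻¹ (M.inv_mem hg) _ _ h
      rwa [show g⁻¹ (g x) = x from g.symm_apply_apply x,
        show g⁻¹ (g y) = y from g.symm_apply_apply y] at this

theorem exists_three (ha : 2 ≤ a) (hb : 2 ≤ b) (hcase : 3 ≤ a ∨ 5 ≤ b) (M : Subgroup (Perm Ω))
    (hWM : Wp f ≤ M) (hM : ¬ M ≤ G0 f) : ∃ t ∈ M, t.IsThreeCycle := by
  rcases hcase with h3 | h5
  · obtain ⟨i, -⟩ := exists_block (b := b) ∅ (by simp; omega)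
    obtain ⟨x, hx, -⟩ := exists_other f hf i ∅ (by simp; omega)
    obtain ⟨y, hy, hyx⟩ := exists_other f hf i {x} (by simp; omega)
    obtain ⟨z, hz, hzx⟩ := exists_other f hf i {x, y} (lt_of_le_of_lt (Finset.card_le_two) h3)
    simp only [Finset.mem_insert, Finset.mem_singleton, not_or] at hyx hzx
    exact ⟨swap x y * swap x z, hWM (dswap_mem f (by rw [hx, hy]) (by rw [hx, hz]) (Ne.symm hyx)
      (Ne.symm hzx.1)), isThreeCycle_swap_mul_swap_same (Ne.symm hyx) (Ne.symm hzx.1)
      (Ne.symm hzx.2)⟩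
  · -- find g with a broken pair
    have hg : ∃ g ∈ M, ∃ u v, u ≠ v ∧ f u = f v ∧ f (g u) ≠ f (g v) := by
      by_contra hcon
      push Not at hcon
      apply hM
      intro g hg x y
      have key : ∀ g ∈ M, ∀ u v, f u = f v → f (g u) = f (g v) := by
        intro g hg u v huv
        by_cases huv' : u = v
        · rw [huv']
        · exact hcon g hg u v huv' huv
      refine ⟨key g hg x y, fun h => ?_⟩
      have := key g⁻¹ (M.inv_mem hg) _ _ h
      rwa [show g⁻¹ (g x) = x from g.symm_apply_apply x,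
        show g⁻¹ (g y) = y from g.symm_apply_apply y] at this
    obtain ⟨g, hg, u, v, huv, hfuv, hne⟩ := hg
    obtain ⟨p', hp', hp'p⟩ := exists_other f hf (f (g u)) {g u} (by simp; omega)
    rw [Finset.mem_singleton] at hp'p
    -- choose the block C
    obtain ⟨j, hj⟩ := exists_block (b := b) {f u, f (g⁻¹ p')}
      (lt_of_le_of_lt (Finset.card_le_two) (by omega))
    simp only [Finset.mem_insert, Finset.mem_singleton, not_or] at hj
    obtain ⟨c, hc, -⟩ := exists_other f hf j ∅ (by simp; omega)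
    obtain ⟨c', hc', hcc⟩ := exists_other f hf j {c} (by simp; omega)
    rw [Finset.mem_singleton] at hcc
    -- choose the block Z
    obtain ⟨k, hk⟩ := exists_block (b := b) {f (g u), f (g v), f (g c), f (g c')}
      (lt_of_le_of_lt (Finset.card_le_four) (by omega))
    simp only [Finset.mem_insert, Finset.mem_singleton, not_or] at hk
    obtain ⟨z, hz, -⟩ := exists_other f hf k ∅ (by simp; omega)
    obtain ⟨z', hz', hzz⟩ := exists_other f hf k {z} (by simp; omega)
    rw [Finset.mem_singleton] at hzz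
    have hgc : ∀ c'' : Ω, f c'' = j → g c'' ≠ p' := by
      intro c'' hc'' h
      apply hj.2
      rw [← h, show g⁻¹ (g c'') = c'' from g.symm_apply_apply c'', hc'']
    obtain ⟨h, hh⟩ : ∃ h, h = swap (g u) (g v) * swap (g c) (g c') := ⟨_, rfl⟩
    have hhM : h ∈ M := by
      have h1 : h = g * (swap u v * swap c c') * g⁻¹ := by
        have e1 := mul_swap_eq_swap_mul g u v
        have e2 := mul_swap_eq_swap_mul g c c'
        calc h = swap (g u) (g v) * (swap (g c) (g c') * g) * g⁻¹ := by rw [hh]; group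
          _ = swap (g u) (g v) * (g * swap c c') * g⁻¹ := by rw [e2]
          _ = (swap (g u) (g v) * g) * swap c c' * g⁻¹ := by group
          _ = (g * swap u v) * swap c c' * g⁻¹ := by rw [e1]
          _ = _ := by group
      rw [h1]
      exact M.mul_mem (M.mul_mem hg (hWM (dswap_mem f hfuv (by rw [hc, hc']) huv
        (Ne.symm hcc)))) (M.inv_mem hg)
    have hdM : swap (g u) p' * swap z z' ∈ M :=
      hWM (dswap_mem f hp'.symm (by rw [hz, hz']) (Ne.symm hp'p) (Ne.symm hzz))
    have hguc : g u ≠ g c := fun h => hj.1 (by rw [← hc, ← g.injective h])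
    have hguc' : g u ≠ g c' := fun h => hj.1 (by rw [← hc', ← g.injective h])
    have hzne : ∀ z'', f z'' = k → z'' ≠ g u ∧ z'' ≠ g v ∧ z'' ≠ g c ∧ z'' ≠ g c' := by
      intro z'' hz''
      refine ⟨fun h => hk.1 ?_, fun h => hk.2.1 ?_, fun h => hk.2.2.1 ?_, fun h => hk.2.2.2 ?_⟩ <;>
        rw [← hz'', h]
    have hpv : p' ≠ g v := fun h => hne (by rw [← h, hp'])
    have f1 : h (g u) = g v := by
      rw [hh, Perm.mul_apply, swap_apply_of_ne_of_ne hguc hguc', swap_apply_left]
    have f2 : h p' = p' := by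
      rw [hh, Perm.mul_apply, swap_apply_of_ne_of_ne (Ne.symm (hgc c hc)) (Ne.symm (hgc c' hc')),
        swap_apply_of_ne_of_ne hp'p hpv]
    have f3 : ∀ z'', f z'' = k → h z'' = z'' := by
      intro z'' hz''
      obtain ⟨e1, e2, e3, e4⟩ := hzne z'' hz''
      rw [hh, Perm.mul_apply, swap_apply_of_ne_of_ne e3 e4, swap_apply_of_ne_of_ne e1 e2]
    have e1 := mul_swap_eq_swap_mul h (g u) p'
    have e2 := mul_swap_eq_swap_mul h z z'
    rw [f1, f2] at e1
    rw [f3 z hz, f3 z' hz'] at e2
    refine ⟨h * (swap (g u) p' * swap z z') * h⁻¹ * (swap (g u) p' * swap z z')⁻¹,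
      M.mul_mem (M.mul_mem (M.mul_mem hhM hdM) (M.inv_mem hhM)) (M.inv_mem hdM), ?_⟩
    have h5 : h * (swap (g u) p' * swap z z') * h⁻¹ * (swap (g u) p' * swap z z')⁻¹ =
        swap p' (g v) * swap p' (g u) := by
      calc h * (swap (g u) p' * swap z z') * h⁻¹ * (swap (g u) p' * swap z z')⁻¹
          = (h * swap (g u) p') * swap z z' * h⁻¹ * (swap z z')⁻¹ * (swap (g u) p')⁻¹ := by group
        _ = (swap (g v) p' * h) * swap z z' * h⁻¹ * (swap z z')⁻¹ * (swap (g u) p')⁻¹ := by rw [e1]
        _ = swap (g v) p' * (h * swap z z') * h⁻¹ * (swap z z')⁻¹ * (swap (g u) p')⁻¹ := by group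
        _ = swap (g v) p' * (swap z z' * h) * h⁻¹ * (swap z z')⁻¹ * (swap (g u) p')⁻¹ := by rw [e2]
        _ = swap (g v) p' * (swap (g u) p')⁻¹ := by group
        _ = _ := by rw [swap_inv, swap_comm (g v) p', swap_comm (g u) p']
    rw [h5]
    exact isThreeCycle_swap_mul_swap_same hpv hp'p (fun h => hne (by rw [← h]))

end

end CfsgLib.PartH12
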