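import Mathlib

/-! Basic lemmas about multiply transitive actions (seat helper15). -/

set_option autoImplicit false

namespace CfsgLib.PermBasic

open MulAction SubMulAction

/-- Multiple transitivity in terms of injective functions. -/
theorem mt_iff {G α : Type*} [Group G] [MulAction G α] {n : ℕ} :
    IsMultiplyPretransitive G α n ↔
      ∀ x y : Fin n → α, Function.Injective x → Function.Injective y →
        ∃ g : G, ∀ i, g • x i = y i := by
  rw [isMultiplyPretransitive_iff]
  constructor
  · intro h x y hx hy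
    obtain ⟨g, hg⟩ := h ⟨x, hx⟩ ⟨y, hy⟩
    refine ⟨g, fun i => ?_⟩
    have := DFunLike.congr_fun hg i
    simpa using this
  · intro h x y
    obtain ⟨g, hg⟩ := h x y x.injective y.injective
    refine ⟨g, ?_⟩
    ext i
    simpa using hg i

/-- If `G` is `m`-transitive and the pointwise stabiliser of an `m`-set is `k`-transitive on the
complement, then `G` is `(m+k)`-transitive. -/
theorem mt_of_fixing {G α : Type*} [Group G] [MulAction G α] {m k : ℕ}
    (hm : IsMultiplyPretransitive G α m) (s : Set α) (hsf : s.Finite) (hs : s.ncard = m)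
    (h : ∀ x y : Fin k → α, Function.Injective x → Function.Injective y → (∀ i, x i ∉ s) →
      (∀ i, y i ∉ s) → ∃ g : G, (∀ a ∈ s, g • a = a) ∧ ∀ i, g • x i = y i) :
    IsMultiplyPretransitive G α (m + k) := by
  rw [mt_iff] at hm ⊢
  intro x y hx hy
  have : Finite s := hsf
  obtain ⟨e⟩ : Nonempty (Fin m ≃ s) := by
    have : Nat.card s = m := by rw [Nat.card_coe_set_eq, hs]
    exact ⟨(Finite.equivFinOfCardEq this).symm⟩
  obtain ⟨g, hg⟩ := hm (fun i => x (Fin.castAdd k i)) (fun i => (e i : α))
    (fun i j hij => by simpa using hx hij) (fun i j hij => e.injective (Subtype.ext hij))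
  obtain ⟨g', hg'⟩ := hm (fun i => y (Fin.castAdd k i)) (fun i => (e i : α))
    (fun i j hij => by simpa using hy hij) (fun i j hij => e.injective (Subtype.ext hij))
  have key : ∀ (z : Fin (m + k) → α) (hz : Function.Injective z) (c : G)
      (hc : ∀ i, c • z (Fin.castAdd k i) = (e i : α)) (i : Fin k), c • z (Fin.natAdd m i) ∉ s := by
    intro z hz c hc i hi
    obtain ⟨j, hj⟩ := e.surjective ⟨_, hi⟩
    have h1 : c • z (Fin.castAdd k j) = c • z (Fin.natAdd m i) := by
      rw [hc, hj]
    have h2 := hz (MulAction.injective c h1)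
    have h3 := congrArg Fin.val h2
    simp only [Fin.val_castAdd, Fin.val_natAdd] at h3
    omega
  obtain ⟨l, hl, hl'⟩ := h (fun i => g • x (Fin.natAdd m i)) (fun i => g' • y (Fin.natAdd m i))
    (fun i j hij => by simpa using hx (MulAction.injective g hij))
    (fun i j hij => by simpa using hy (MulAction.injective g' hij))
    (key x hx g hg) (key y hy g' hg')
  refine ⟨g'⁻¹ * l * g, fun i => ?_⟩
  refine Fin.addCases (fun i => ?_) (fun i => ?_) i
  · rw [mul_smul, mul_smul, hg, hl _ (e i).2, ← hg' i, inv_smul_smul]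
  · rw [mul_smul, mul_smul, hl' i, inv_smul_smul]

/-- A version with `fixingSubgroup`. -/
theorem mt_of_fixingSubgroup {G α : Type*} [Group G] [MulAction G α] {m k : ℕ}
    (hm : IsMultiplyPretransitive G α m) (s : Set α) (hsf : s.Finite) (hs : s.ncard = m)
    (h : IsMultiplyPretransitive (fixingSubgroup G s) (ofFixingSubgroup G s) k) :
    IsMultiplyPretransitive G α (m + k) := by
  refine mt_of_fixing hm s hsf hs fun x y hx hy hxs hys => ?_
  rw [mt_iff] at h
  obtain ⟨g, hg⟩ := h (fun i => ⟨x i, hxs i⟩) (fun i => ⟨y i, hys i⟩)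
    (fun i j hij => hx (congrArg Subtype.val hij)) (fun i j hij => hy (congrArg Subtype.val hij))
  refine ⟨g, fun a ha => ?_, fun i => ?_⟩
  · exact (mem_fixingSubgroup_iff G).mp g.2 a ha
  · exact congrArg Subtype.val (hg i)

/-- Conversely, in an `(m+k)`-transitive group the pointwise stabiliser of an `m`-set is
`k`-transitive on the complement. -/
theorem fixing_of_mt {G α : Type*} [Group G] [MulAction G α] {m k : ℕ}
    (hm : IsMultiplyPretransitive G α (m + k)) (s : Set α) (hsf : s.Finite) (hs : s.ncard = m)
    (x y : Fin k → α) (hx : Function.Injective x) (hy : Function.Injective y)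
    (hxs : ∀ i, x i ∉ s) (hys : ∀ i, y i ∉ s) :
    ∃ g : G, (∀ a ∈ s, g • a = a) ∧ ∀ i, g • x i = y i := by
  rw [mt_iff] at hm
  have : Finite s := hsf
  obtain ⟨e⟩ : Nonempty (Fin m ≃ s) := by
    have : Nat.card s = m := by rw [Nat.card_coe_set_eq, hs]
    exact ⟨(Finite.equivFinOfCardEq this).symm⟩
  have key : ∀ (z : Fin k → α) (hz : Function.Injective z) (hzs : ∀ i, z i ∉ s),
      Function.Injective (Fin.addCases (fun i => (e i : α)) z : Fin (m + k) → α) := by
    intro z hz hzs i j
    refine Fin.addCases (fun i => ?_) (fun i => ?_) i <;>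
      refine Fin.addCases (fun j => ?_) (fun j => ?_) j <;>
      simp only [Fin.addCases_left, Fin.addCases_right]
    · intro hij
      rw [e.injective (Subtype.ext hij)]
    · intro hij
      exact absurd (hij ▸ (e i).2) (hzs j)
    · intro hij
      exact absurd (hij ▸ (e j).2) (hzs i)
    · intro hij
      rw [hz hij]
  obtain ⟨g, hg⟩ := hm _ _ (key x hx hxs) (key y hy hys)
  refine ⟨g, fun a ha => ?_, fun i => ?_⟩
  · obtain ⟨j, hj⟩ := e.surjective ⟨a, ha⟩
    have := hg (Fin.castAdd k j)
    simp only [Fin.addCases_left] at this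
    rw [hj] at this
    exact this
  · have := hg (Fin.natAdd m i)
    simpa only [Fin.addCases_right] using this

end CfsgLib.PermBasic
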