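import Cfsg.Agent.EqBase
import Mathlib
import Cfsg.Agent.LibNilCover

set_option autoImplicit false
set_option linter.style.haveILetI false

/-!
No nilpotent minimal cover for groups between PSL and PGL, dimension at least 3.
-/

namespace CfsgLib.PglCoverA

variable {F K : Type*} [Field F] [Field K] [Algebra F K] [Finite F] [Finite K]
variable {P : Type*} [Group P]

local notation "E" => Module.End F (F × K)

/-- line and hyperplane stabiliser -/
def Lh : Subgroup (Module.End F (F × K))ˣ where
  carrier := {u | ((u : Module.End F (F × K)) (1, 0)).2 = 0 ∧ ∀ k : K, ((u : Module.End F (F × K)) (0, k)).1 = 0}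
  mul_mem' := by
    rintro u v ⟨h1, h2⟩ ⟨h3, h4⟩
    refine ⟨?_, fun k => ?_⟩
    · have h5 : (v : Module.End F (F × K)) (1, 0) = ((v : Module.End F (F × K)) (1, 0)).1 • ((1 : F), (0 : K)) := by
        ext <;> simp [h3]
      rw [Units.val_mul, Module.End.mul_apply, h5, map_smul]
      simp [h1]
    · have h5 : (v : Module.End F (F × K)) (0, k) = (0, ((v : Module.End F (F × K)) (0, k)).2) := by
        ext <;> simp [h4]
      rw [Units.val_mul, Module.End.mul_apply, h5]
      exact h2 _
  one_mem' := by simp
  inv_mem' := by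
    rintro u ⟨h1, h2⟩
    have hu : ∀ x, ((u⁻¹ : (Module.End F (F × K))ˣ) : Module.End F (F × K)) ((u : Module.End F (F × K)) x) = x := by
      intro x
      rw [← Module.End.mul_apply, ← Units.val_mul, inv_mul_cancel]
      simp
    have hinj : Function.Injective (u : Module.End F (F × K)) := Function.LeftInverse.injective hu
    have h5 : (u : Module.End F (F × K)) (1, 0) = ((u : Module.End F (F × K)) (1, 0)).1 • ((1 : F), (0 : K)) := by
      ext <;> simp [h1]
    have ha : ((u : Module.End F (F × K)) (1, 0)).1 ≠ 0 := by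
      intro h
      rw [h, zero_smul] at h5
      have := hinj (h5.trans (map_zero _).symm)
      have := congrArg Prod.fst this
      simp at this
    refine ⟨?_, fun k => ?_⟩
    · have h6 := hu (1, 0)
      rw [h5, map_smul] at h6
      have h7 := congrArg Prod.snd h6
      simp only [Prod.smul_snd, smul_eq_zero] at h7
      exact h7.resolve_left ha
    · -- the restriction to the hyperplane is injective hence surjective
      let f : K → K := fun k => ((u : Module.End F (F × K)) (0, k)).2
      have hf : Function.Injective f := by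
        intro k k' hk
        have : (u : Module.End F (F × K)) (0, k) = (u : Module.End F (F × K)) (0, k') := by
          ext
          · rw [h2, h2]
          · exact hk
        exact congrArg Prod.snd (hinj this)
      obtain ⟨k', hk'⟩ := (Finite.injective_iff_surjective.1 hf) k
      have h8 : (u : Module.End F (F × K)) (0, k') = (0, k) := by
        ext
        · exact h2 k'
        · exact hk'
      have h9 := hu (0, k')
      rw [h8] at h9
      rw [h9]

theorem mem_Lh {u : (Module.End F (F × K))ˣ} : u ∈ (Lh : Subgroup (Module.End F (F × K))ˣ) ↔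
    ((u : Module.End F (F × K)) (1, 0)).2 = 0 ∧ ∀ k : K, ((u : Module.End F (F × K)) (0, k)).1 = 0 := Iff.rfl

/-- line stabiliser -/
def Bh : Subgroup (Module.End F (F × K))ˣ where
  carrier := {u | ((u : Module.End F (F × K)) (1, 0)).2 = 0}
  mul_mem' := by
    rintro u v h1 h3
    change ((u : Module.End F (F × K)) (1, 0)).2 = 0 at h1
    change ((v : Module.End F (F × K)) (1, 0)).2 = 0 at h3
    have h5 : (v : Module.End F (F × K)) (1, 0) = ((v : Module.End F (F × K)) (1, 0)).1 • ((1 : F), (0 : K)) := by
      ext <;> simp [h3]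
    change (((u * v : (Module.End F (F × K))ˣ) : Module.End F (F × K)) (1, 0)).2 = 0
    rw [Units.val_mul, Module.End.mul_apply, h5, map_smul]
    simp [h1]
  one_mem' := by simp
  inv_mem' := by
    rintro u h1
    change ((u : Module.End F (F × K)) (1, 0)).2 = 0 at h1
    have hu : ∀ x, ((u⁻¹ : (Module.End F (F × K))ˣ) : Module.End F (F × K)) ((u : Module.End F (F × K)) x) = x := by
      intro x
      rw [← Module.End.mul_apply, ← Units.val_mul, inv_mul_cancel]
      simp
    have hinj : Function.Injective (u : Module.End F (F × K)) := Function.LeftInverse.injective hu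
    have h5 : (u : Module.End F (F × K)) (1, 0) = ((u : Module.End F (F × K)) (1, 0)).1 • ((1 : F), (0 : K)) := by
      ext <;> simp [h1]
    have ha : ((u : Module.End F (F × K)) (1, 0)).1 ≠ 0 := by
      intro h
      rw [h, zero_smul] at h5
      have := hinj (h5.trans (map_zero _).symm)
      have := congrArg Prod.fst this
      simp at this
    change (((u⁻¹ : (Module.End F (F × K))ˣ) : Module.End F (F × K)) (1, 0)).2 = 0
    have h6 := hu (1, 0)
    rw [h5, map_smul] at h6
    have h7 := congrArg Prod.snd h6
    simp only [Prod.smul_snd, smul_eq_zero] at h7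
    exact h7.resolve_left ha

theorem mem_Bh {u : (Module.End F (F × K))ˣ} : u ∈ (Bh : Subgroup (Module.End F (F × K))ˣ) ↔
    ((u : Module.End F (F × K)) (1, 0)).2 = 0 := Iff.rfl

variable (F K) in
/-- the element `t` -/
noncomputable def tEnd (c : F) (α : K) : Module.End F (F × K) :=
  LinearMap.prodMap (c • LinearMap.id) (LinearMap.mulLeft F α)

omit [Finite F] [Finite K] in
theorem tEnd_apply (c : F) (α : K) (x : F × K) : tEnd F K c α x = (c * x.1, α * x.2) := by
  simp [tEnd, LinearMap.prodMap_apply]

noncomputable def tUnit (c : F) (hc : c ≠ 0) (α : K) (hα : α ≠ 0) : (Module.End F (F × K))ˣ :=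
  ⟨tEnd F K c α, tEnd F K c⁻¹ α⁻¹, by
    ext x <;> simp [tEnd_apply, hc, hα], by
    ext x <;> simp [tEnd_apply, hc, hα]⟩

omit [Finite F] [Finite K] in
/-- `f (α k) = c f k` for all `k` with `α ∉ F` forces `f = 0` -/
theorem functional_zero {α : K} {c : F} (hα : α ≠ algebraMap F K c) (f : K → F) (hf : ∀ k k', f (k - k') = f k - f k')
    (hfs : ∀ (a : F) k, f (a • k) = a * f k) (h : ∀ k, f (α * k) = c * f k) : ∀ k, f k = 0 := by
  intro k
  have hne : α - algebraMap F K c ≠ 0 := sub_ne_zero.2 hα
  have h1 : k = α * ((α - algebraMap F K c)⁻¹ * k) - c • ((α - algebraMap F K c)⁻¹ * k) := by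
    rw [Algebra.smul_def, ← sub_mul, mul_inv_cancel_left₀ hne]
  rw [h1, hf, hfs, h, sub_self]


omit [Finite F] [Finite K] in
/-- an element commuting with `t` up to scalars -/
theorem comm_t {α : K} (hαF : ∀ c : F, α ≠ algebraMap F K c) (hα : Algebra.adjoin F {α} = ⊤) {c μ : F} (hc : c ≠ 0)
    (hμ : μ ≠ 0)
    (z : (Module.End F (F × K))ˣ) (h : (z : Module.End F (F × K)) * tEnd F K c α = μ • (tEnd F K c α * (z : Module.End F (F × K)))) :
    ∃ (a : F) (β : K), ∀ x : F × K, (z : Module.End F (F × K)) x = (a * x.1, β * x.2) := by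
  have happ : ∀ x, (z : Module.End F (F × K)) (tEnd F K c α x) = μ • tEnd F K c α ((z : Module.End F (F × K)) x) := by
    intro x
    have := congrArg (fun f : Module.End F (F × K) => f x) h
    simpa [Module.End.mul_apply] using this
  have hz : ∀ x, ((z⁻¹ : (Module.End F (F × K))ˣ) : Module.End F (F × K)) ((z : Module.End F (F × K)) x) = x := by
    intro x
    rw [← Module.End.mul_apply, ← Units.val_mul, inv_mul_cancel]
    simp
  have hinj : Function.Injective (z : Module.End F (F × K)) := Function.LeftInverse.injective hz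
  -- the vector (1,0)
  obtain ⟨x0, y0⟩ : ∃ p : F × K, (z : Module.End F (F × K)) (1, 0) = p := ⟨_, rfl⟩
  set p := (z : Module.End F (F × K)) (1, 0) with hp
  have h1 : c • p = μ • tEnd F K c α p := by
    rw [hp, ← happ, ← map_smul]
    congr 1
    rw [tEnd_apply]
    ext <;> simp
  rw [tEnd_apply] at h1
  have h11 : c * p.1 = μ * (c * p.1) := by simpa using congrArg Prod.fst h1
  have h12 : c • p.2 = μ • (α * p.2) := by simpa using congrArg Prod.snd h1
  have hp2 : p.2 = 0 := by
    by_contra hne
    rw [Algebra.smul_def, Algebra.smul_def, ← mul_assoc] at h12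
    have h13 := mul_right_cancel₀ hne h12
    apply hαF (μ⁻¹ * c)
    rw [map_mul, h13, ← mul_assoc, ← map_mul, inv_mul_cancel₀ hμ, map_one, one_mul]
  have hp1 : p.1 ≠ 0 := by
    intro hne
    have : p = 0 := Prod.ext hne hp2
    rw [hp] at this
    have := hinj (this.trans (map_zero _).symm)
    have := congrArg Prod.fst this
    simp at this
  have hμ1 : μ = 1 := by
    have : c * p.1 ≠ 0 := mul_ne_zero hc hp1
    exact (mul_right_cancel₀ this (by rw [one_mul]; exact h11)).symm
  subst hμ1
  simp only [one_smul] at happ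
  -- the hyperplane
  let f : K → F := fun k => ((z : Module.End F (F × K)) (0, k)).1
  let T : K → K := fun k => ((z : Module.End F (F × K)) (0, k)).2
  have hadd : ∀ k k' : K, ((0 : F), k + k') = (0, k) + (0, k') := by intro k k'; ext <;> simp
  have hsub : ∀ k k' : K, ((0 : F), k - k') = (0, k) - (0, k') := by intro k k'; ext <;> simp
  have hsm : ∀ (a : F) (k : K), ((0 : F), a • k) = a • ((0 : F), k) := by intro a k; ext <;> simp
  have hf0 : ∀ k, f k = 0 := by
    apply functional_zero (hαF c) f
    · intro k k'; simp only [f, hsub, map_sub]; rfl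
    · intro a k; simp only [f, hsm, map_smul]; rfl
    · intro k
      have := happ (0, k)
      rw [tEnd_apply, tEnd_apply] at this
      have := congrArg Prod.fst this
      simpa [f] using this
  have hTα : ∀ k, T (α * k) = α * T k := by
    intro k
    have := happ (0, k)
    rw [tEnd_apply, tEnd_apply] at this
    have := congrArg Prod.snd this
    simpa [T] using this
  have hTadd : ∀ k k', T (k + k') = T k + T k' := by intro k k'; simp only [T, hadd, map_add]; rfl
  have hTsm : ∀ (a : F) k, T (a • k) = a • T k := by intro a k; simp only [T, hsm, map_smul]; rfl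
  have hT : ∀ b ∈ Algebra.adjoin F {α}, ∀ k, T (b * k) = b * T k := by
    intro b hb
    induction hb using Algebra.adjoin_induction with
    | mem x hx => rw [Set.mem_singleton_iff.1 hx]; exact hTα
    | algebraMap r => intro k; rw [← Algebra.smul_def, hTsm, Algebra.smul_def]
    | add x y _ _ hx hy => intro k; rw [add_mul, hTadd, hx, hy, add_mul]
    | mul x y _ _ hx hy => intro k; rw [mul_assoc, hx, hy, mul_assoc]
  have hT1 : ∀ k, T k = T 1 * k := by
    intro k
    have := hT k (by rw [hα]; trivial) 1
    rw [mul_one] at this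
    rw [this, mul_comm]
  refine ⟨p.1, T 1, fun x => ?_⟩
  have hx : x = x.1 • ((1 : F), (0 : K)) + (0, x.2) := by ext <;> simp
  have h20 : (z : Module.End F (F × K)) (0, x.2) = (0, T 1 * x.2) := by
    ext
    · exact hf0 x.2
    · exact hT1 x.2
  conv_lhs => rw [hx]
  rw [map_add, map_smul, h20, ← hp]
  ext
  · simp [mul_comm]
  · simp [hp2]

omit [Finite F] [Finite K] in
/-- an element commuting up to scalars with a nonscalar `(a, β)` stabilises the line and the hyperplane -/
theorem comm_z (hdim : 2 ≤ Module.finrank F K) {a μ : F} {β : K} (hμ : μ ≠ 0) (ha : a ≠ 0)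
    (hβ0 : β ≠ 0) (hβ : β ≠ algebraMap F K a) (z g : (Module.End F (F × K))ˣ)
    (hz : ∀ x : F × K, (z : Module.End F (F × K)) x = (a * x.1, β * x.2))
    (h : (g : Module.End F (F × K)) * z = μ • ((z : Module.End F (F × K)) * g)) :
    ((g : Module.End F (F × K)) (1, 0)).2 = 0 ∧ ∀ k : K, ((g : Module.End F (F × K)) (0, k)).1 = 0 := by
  have happ : ∀ x, (g : Module.End F (F × K)) ((z : Module.End F (F × K)) x) = μ • (z : Module.End F (F × K)) ((g : Module.End F (F × K)) x) := by
    intro x
    have := congrArg (fun f : Module.End F (F × K) => f x) h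
    simpa [Module.End.mul_apply] using this
  have hg : ∀ x, ((g⁻¹ : (Module.End F (F × K))ˣ) : Module.End F (F × K)) ((g : Module.End F (F × K)) x) = x := by
    intro x
    rw [← Module.End.mul_apply, ← Units.val_mul, inv_mul_cancel]
    simp
  have hinj : Function.Injective (g : Module.End F (F × K)) := Function.LeftInverse.injective hg
  set p := (g : Module.End F (F × K)) (1, 0) with hp
  have h1 : a • p = μ • (a * p.1, β * p.2) := by
    rw [← hz, hp, ← happ, ← map_smul, hz]
    congr 1
    ext <;> simp
  have h11 : a * p.1 = μ * (a * p.1) := by simpa using congrArg Prod.fst h1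
  have h12 : a • p.2 = μ • (β * p.2) := by simpa using congrArg Prod.snd h1
  let f : K → F := fun k => ((g : Module.End F (F × K)) (0, k)).1
  let T : K → K := fun k => ((g : Module.End F (F × K)) (0, k)).2
  have hadd : ∀ k k' : K, ((0 : F), k + k') = (0, k) + (0, k') := by intro k k'; ext <;> simp
  have hsub : ∀ k k' : K, ((0 : F), k - k') = (0, k) - (0, k') := by intro k k'; ext <;> simp
  have hsm : ∀ (a : F) (k : K), ((0 : F), a • k) = a • ((0 : F), k) := by intro a k; ext <;> simp
  have hfβ : ∀ k, f (β * k) = μ * (a * f k) := by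
    intro k
    have := happ (0, k)
    rw [hz, hz] at this
    have := congrArg Prod.fst this
    simpa [f] using this
  have hTβ : ∀ k, T (β * k) = μ • (β * T k) := by
    intro k
    have := happ (0, k)
    rw [hz, hz] at this
    have := congrArg Prod.snd this
    simpa [T] using this
  have hfsub : ∀ k k', f (k - k') = f k - f k' := by intro k k'; simp only [f, hsub, map_sub]; rfl
  have hfsm : ∀ (a : F) k, f (a • k) = a * f k := by intro a k; simp only [f, hsm, map_smul]; rfl
  have hTsm : ∀ (a : F) k, T (a • k) = a • T k := by intro a k; simp only [T, hsm, map_smul]; rfl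
  by_cases hβF : ∃ b : F, β = algebraMap F K b
  · obtain ⟨b, rfl⟩ := hβF
    have hb0 : b ≠ 0 := by rintro rfl; simp at hβ0
    have hba : b ≠ a := by rintro rfl; exact hβ rfl
    by_cases hμ1 : μ = 1
    · subst hμ1
      refine ⟨?_, fun k => ?_⟩
      · rw [one_smul, ← Algebra.smul_def] at h12
        have : (a - b) • p.2 = 0 := by rw [sub_smul, h12, sub_self]
        exact (smul_eq_zero.1 this).resolve_left (sub_ne_zero.2 hba.symm)
      · have h3 := hfβ k
        rw [← Algebra.smul_def, hfsm, one_mul] at h3
        have : (b - a) * f k = 0 := by rw [sub_mul, h3, sub_self]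
        exact (mul_eq_zero.1 this).resolve_left (sub_ne_zero.2 hba)
    · exfalso
      have hT0 : ∀ k, T k = 0 := by
        intro k
        have h3 := hTβ k
        rw [← Algebra.smul_def, hTsm, ← Algebra.smul_def, smul_smul] at h3
        have : (b - μ * b) • T k = 0 := by rw [sub_smul, h3, sub_self]
        apply (smul_eq_zero.1 this).resolve_left
        intro h4
        apply hμ1
        have : b * (1 - μ) = 0 := by rw [← h4]; ring
        rcases mul_eq_zero.1 this with h5 | h5
        · exact absurd h5 hb0
        · exact (sub_eq_zero.1 h5).symm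
      -- f is an injective functional on K : contradiction
      let fl : K →ₗ[F] F :=
        { toFun := f
          map_add' := by intro k k'; simp only [f, hadd, map_add]; rfl
          map_smul' := by intro a k; exact hfsm a k }
      have hflinj : Function.Injective fl := by
        intro k k' hk
        have : (g : Module.End F (F × K)) (0, k) = (g : Module.End F (F × K)) (0, k') := by
          ext
          · exact hk
          · exact (hT0 k).trans (hT0 k').symm
        exact congrArg Prod.snd (hinj this)
      have := LinearMap.finrank_le_finrank_of_injective hflinj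
      rw [Module.finrank_self] at this
      omega
  · push Not at hβF
    have hp2 : p.2 = 0 := by
      by_contra hne
      rw [Algebra.smul_def, Algebra.smul_def, ← mul_assoc] at h12
      have h13 := mul_right_cancel₀ hne h12
      apply hβF (μ⁻¹ * a)
      rw [map_mul, h13, ← mul_assoc, ← map_mul, inv_mul_cancel₀ hμ, map_one, one_mul]
    refine ⟨hp2, ?_⟩
    apply functional_zero (hβF (μ * a)) f hfsub hfsm
    intro k
    rw [hfβ, mul_assoc]

omit [Finite F] in
/-- if `g t g⁻¹` stabilises line and hyperplane, so does `g⁻¹` -/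
theorem conj_t {α : K} (hαF : ∀ c : F, α ≠ algebraMap F K c) {c : F} 
    (s h : (Module.End F (F × K))ˣ) (hs : s ∈ (Lh : Subgroup (Module.End F (F × K))ˣ))
    (hsh : tEnd F K c α * (h : Module.End F (F × K)) = h * s) : h ∈ (Lh : Subgroup (Module.End F (F × K))ˣ) := by
  obtain ⟨hs1, hs2⟩ := hs
  have happ : ∀ x, tEnd F K c α ((h : Module.End F (F × K)) x) = (h : Module.End F (F × K)) ((s : Module.End F (F × K)) x) := by
    intro x
    have := congrArg (fun f : Module.End F (F × K) => f x) hsh
    simpa [Module.End.mul_apply] using this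
  have hh : ∀ x, ((h⁻¹ : (Module.End F (F × K))ˣ) : Module.End F (F × K)) ((h : Module.End F (F × K)) x) = x := by
    intro x
    rw [← Module.End.mul_apply, ← Units.val_mul, inv_mul_cancel]
    simp
  have hinj : Function.Injective (h : Module.End F (F × K)) := Function.LeftInverse.injective hh
  have h5 : (s : Module.End F (F × K)) (1, 0) = ((s : Module.End F (F × K)) (1, 0)).1 • ((1 : F), (0 : K)) := by
    ext <;> simp [hs1]
  set a := ((s : Module.End F (F × K)) (1, 0)).1 with ha
  set p := (h : Module.End F (F × K)) (1, 0) with hp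
  have hp2 : p.2 = 0 := by
    have h6 := happ (1, 0)
    rw [h5, map_smul, ← hp, tEnd_apply] at h6
    have h7 := congrArg Prod.snd h6
    simp only [Prod.smul_snd] at h7
    by_contra hne
    rw [Algebra.smul_def] at h7
    exact hαF a (mul_right_cancel₀ hne h7)
  have hp1 : p.1 ≠ 0 := by
    intro hne
    have : p = 0 := Prod.ext hne hp2
    rw [hp] at this
    have := hinj (this.trans (map_zero _).symm)
    have := congrArg Prod.fst this
    simp at this
  let T : K → K := fun k => ((h : Module.End F (F × K)) (0, k)).2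
  let f : K → F := fun k => ((h : Module.End F (F × K)) (0, k)).1
  have hadd : ∀ k k' : K, ((0 : F), k + k') = (0, k) + (0, k') := by intro k k'; ext <;> simp
  have hsub : ∀ k k' : K, ((0 : F), k - k') = (0, k) - (0, k') := by intro k k'; ext <;> simp
  have hsm : ∀ (a : F) (k : K), ((0 : F), a • k) = a • ((0 : F), k) := by intro a k; ext <;> simp
  have hfsub : ∀ k k', f (k - k') = f k - f k' := by intro k k'; simp only [f, hsub, map_sub]; rfl
  have hTsub : ∀ k k', T (k - k') = T k - T k' := by intro k k'; simp only [T, hsub, map_sub]; rfl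
  have hfsm : ∀ (a : F) k, f (a • k) = a * f k := by intro a k; simp only [f, hsm, map_smul]; rfl
  have hTsm : ∀ (a : F) k, T (a • k) = a • T k := by intro a k; simp only [T, hsm, map_smul]; rfl
  have hTinj : Function.Injective T := by
    intro k k' hk
    have h8 : T (k - k') = 0 := by rw [hTsub, hk, sub_self]
    have h9 : (h : Module.End F (F × K)) (0, k - k') = (h : Module.End F (F × K)) ((f (k - k') * p.1⁻¹) • ((1 : F), (0 : K))) := by
      rw [map_smul, ← hp]
      ext
      · simp [f, hp1]
      · rw [Prod.smul_snd, hp2, smul_zero]; exact h8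
    have := congrArg Prod.snd (hinj h9)
    simp only [Prod.smul_snd, smul_zero] at this
    exact sub_eq_zero.1 this
  have hTsurj := Finite.injective_iff_surjective.1 hTinj
  choose Ti hTi using hTsurj
  have hTi' : ∀ k, Ti (T k) = k := fun k => hTinj (hTi _)
  have hTisub : ∀ k k', Ti (k - k') = Ti k - Ti k' := by
    intro k k'; apply hTinj; rw [hTi, hTsub, hTi, hTi]
  have hTism : ∀ (a : F) k, Ti (a • k) = a • Ti k := by
    intro a k; apply hTinj; rw [hTi, hTsm, hTi]
  have hzero : ∀ k, f (Ti k) = 0 := by
    apply functional_zero (hαF c) (fun k => f (Ti k))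
    · intro k k'; simp only [hTisub, hfsub]
    · intro a k; simp only [hTism, hfsm]
    · intro k
      have h6 := happ (0, Ti k)
      have h7 : (s : Module.End F (F × K)) (0, Ti k) = (0, ((s : Module.End F (F × K)) (0, Ti k)).2) := by
        ext
        · exact hs2 _
        · rfl
      rw [h7, tEnd_apply] at h6
      set k1 := ((s : Module.End F (F × K)) (0, Ti k)).2
      have h8 : c * f (Ti k) = f k1 := congrArg Prod.fst h6
      have h9 : α * T (Ti k) = T k1 := congrArg Prod.snd h6
      rw [hTi] at h9
      rw [h9, hTi', h8]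
  refine ⟨hp2, fun k => ?_⟩
  have := hzero (T k)
  rwa [hTi'] at this


/-- No nilpotent minimal cover for groups between `PSL(F × K)` and `PGL(F × K)`. -/
theorem main (π : (Module.End F (F × K))ˣ →* P) (hsurj : Function.Surjective π)
    (hker : ∀ u, π u = 1 ↔ ∃ c : F, (u : Module.End F (F × K)) = c • 1)
    (hdim : 2 ≤ Module.finrank F K) (α : K) (hα : Algebra.adjoin F {α} = ⊤)
    (G : Subgroup P) [Finite G] (hG : ∀ u : (Module.End F (F × K))ˣ, LinearMap.det (u : Module.End F (F × K)) = 1 → π u ∈ G) :
    ¬ ∃ 𝓐 : Finset (Subgroup ↥G), ((∀ A ∈ 𝓐, A ≠ ⊤) ∧ (∀ g : ↥G, ∃ A ∈ 𝓐, g ∈ A)) ∧ (∀ 𝓑 : Finset (Subgroup ↥G), (∀ A ∈ 𝓑, A ≠ ⊤) ∧ (∀ g : ↥G, ∃ A ∈ 𝓑, g ∈ A) → 𝓐.card ≤ 𝓑.card) ∧ (∀ A ∈ 𝓐, Group.IsNilpotent ↥A) := by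
  classical
  haveI : Module.Finite F K := .of_finite
  have hαF : ∀ c : F, α ≠ algebraMap F K c := by
    intro c hc
    have h1 : Algebra.adjoin F {α} = ⊥ := by
      rw [hc]
      apply Algebra.adjoin_singleton_algebraMap
    rw [hα] at h1
    have h2 : Module.finrank F K = 1 := by
      rw [← Subalgebra.bot_eq_top_iff_finrank_eq_one]
      exact h1.symm
    omega
  have hα0 : α ≠ 0 := by
    have := hαF 0
    simpa using this
  have hcomm : ∀ u v : (Module.End F (F × K))ˣ, π u * π v = π v * π u →
      ∃ μ : F, μ ≠ 0 ∧ (u : Module.End F (F × K)) * v = μ • ((v : Module.End F (F × K)) * u) := by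
    intro u v h
    have h1 : π (u * v * (v * u)⁻¹) = 1 := by
      rw [map_mul, map_inv, map_mul, map_mul, h, mul_inv_cancel]
    obtain ⟨c, hc⟩ := (hker _).1 h1
    have h2 : ((u * v : (Module.End F (F × K))ˣ) : Module.End F (F × K)) = c • ((v * u : (Module.End F (F × K))ˣ) : Module.End F (F × K)) := by
      have : (u * v : (Module.End F (F × K))ˣ) = (u * v * (v * u)⁻¹) * (v * u) := by group
      rw [this, Units.val_mul, hc, smul_mul_assoc, one_mul]
    refine ⟨c, ?_, by simpa using h2⟩
    rintro rfl
    rw [zero_smul] at h2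
    exact (u * v).ne_zero h2
  have hLker : π.ker ≤ Lh := by
    intro u hu
    obtain ⟨c, hc⟩ := (hker u).1 hu
    rw [mem_Lh, hc]
    simp
  have hBker : π.ker ≤ Bh := by
    intro u hu
    obtain ⟨c, hc⟩ := (hker u).1 hu
    rw [mem_Bh, hc]
    simp
  have hmL : ∀ u, π u ∈ (Lh : Subgroup (Module.End F (F × K))ˣ).map π ↔ u ∈ (Lh : Subgroup (Module.End F (F × K))ˣ) := by
    intro u
    rw [← Subgroup.mem_comap, Subgroup.comap_map_eq_self hLker]
  have hmB : ∀ u, π u ∈ (Bh : Subgroup (Module.End F (F × K))ˣ).map π ↔ u ∈ (Bh : Subgroup (Module.End F (F × K))ˣ) := by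
    intro u
    rw [← Subgroup.mem_comap, Subgroup.comap_map_eq_self hBker]
  -- the element t
  have hd0 : LinearMap.det (LinearMap.mulLeft F α) ≠ 0 := by
    intro h
    have h1 : (LinearMap.mulLeft F α) * (LinearMap.mulLeft F α⁻¹) = 1 := by
      ext x; simp [hα0]
    have h2 := congrArg LinearMap.det h1
    rw [map_mul, h, zero_mul, map_one] at h2
    exact zero_ne_one h2
  set c : F := (LinearMap.det (LinearMap.mulLeft F α))⁻¹ with hc
  have hc0 : c ≠ 0 := inv_ne_zero hd0
  have htG : π (tUnit c hc0 α hα0) ∈ G := by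
    apply hG
    change LinearMap.det (tEnd F K c α) = 1
    rw [tEnd, LinearMap.det_prodMap, LinearMap.det_smul, Module.finrank_self, pow_one, LinearMap.det_id, mul_one, hc,
      inv_mul_cancel₀ hd0]
  let t : G := ⟨_, htG⟩
  have ht1 : t ≠ 1 := by
    intro h
    have h1 : π (tUnit c hc0 α hα0) = 1 := congrArg Subtype.val h
    obtain ⟨a, ha⟩ := (hker _).1 h1
    have h2 := congrArg (fun f : Module.End F (F × K) => (f (0, 1)).2) ha
    simp only [tUnit, tEnd_apply, mul_one, LinearMap.smul_apply, Module.End.one_apply, Prod.smul_snd] at h2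
    apply hαF a
    rw [h2, Algebra.smul_def, mul_one]
  apply CfsgLib.NilCover.no_nilpotent_minimal_cover t ((Lh.map π).subgroupOf G) ((Lh.map π).subgroupOf G) ((Bh.map π).subgroupOf G)
  · intro x hx
    rw [Subgroup.mem_subgroupOf] at hx ⊢
    obtain ⟨u, hu, hux⟩ := hx
    exact ⟨u, hu.1, hux⟩
  · -- proper
    intro htop
    let fl : Module.Dual F (F × K) := LinearMap.fst F F K
    let v : F × K := (0, 1)
    have hfv : fl v = 0 := by simp [fl, v]
    let e := LinearEquiv.transvection hfv
    let u : (Module.End F (F × K))ˣ := LinearMap.GeneralLinearGroup.ofLinearEquiv e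
    have hu : π u ∈ G := by
      apply hG
      change LinearMap.det (e : (F × K) →ₗ[F] (F × K)) = 1
      rw [LinearEquiv.transvection.coe_toLinearMap, LinearMap.transvection.det, hfv, add_zero]
    have h2 : (⟨π u, hu⟩ : G) ∈ (Bh.map π).subgroupOf G := by rw [htop]; trivial
    rw [Subgroup.mem_subgroupOf] at h2
    have h3 := (hmB u).1 h2
    rw [mem_Bh] at h3
    have h4 : (u : Module.End F (F × K)) (1, 0) = (1, 1) := by
      change e (1, 0) = (1, 1)
      rw [LinearEquiv.transvection.apply]
      simp [fl, v]
    rw [h4] at h3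
    exact one_ne_zero h3
  · intro A hA htA
    obtain ⟨z, hzA, hz1, hzc⟩ := CfsgLib.NilCover.exists_central hA htA ht1
    obtain ⟨zu, hzu⟩ := hsurj (z : P)
    have h1 : π zu * π (tUnit c hc0 α hα0) = π (tUnit c hc0 α hα0) * π zu := by
      rw [hzu]; exact congrArg Subtype.val (hzc t htA)
    obtain ⟨μ, hμ, h2⟩ := hcomm _ _ h1
    obtain ⟨a, β, haβ⟩ := comm_t hαF hα hc0 hμ zu h2
    have hzinj : Function.Injective (zu : Module.End F (F × K)) := by
      have hz : ∀ x, ((zu⁻¹ : (Module.End F (F × K))ˣ) : Module.End F (F × K)) ((zu : Module.End F (F × K)) x) = x := by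
        intro x
        rw [← Module.End.mul_apply, ← Units.val_mul, inv_mul_cancel]
        simp
      exact Function.LeftInverse.injective hz
    have ha0 : a ≠ 0 := by
      rintro rfl
      have h3 : (zu : Module.End F (F × K)) (1, 0) = (zu : Module.End F (F × K)) (0, 0) := by
        rw [haβ, haβ]; simp
      have := congrArg Prod.fst (hzinj h3)
      simp at this
    have hβ0 : β ≠ 0 := by
      rintro rfl
      have h3 : (zu : Module.End F (F × K)) (0, 1) = (zu : Module.End F (F × K)) (0, 0) := by
        rw [haβ, haβ]; simp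
      have := congrArg Prod.snd (hzinj h3)
      simp at this
    have hβa : β ≠ algebraMap F K a := by
      rintro rfl
      apply hz1
      apply Subtype.ext
      rw [← hzu]
      refine (hker _).2 ⟨a, ?_⟩
      apply LinearMap.ext
      intro x
      rw [haβ]
      ext
      · simp
      · simp [Algebra.smul_def]
    intro g hg
    rw [Subgroup.mem_subgroupOf]
    obtain ⟨gu, hgu⟩ := hsurj (g : P)
    rw [← hgu, hmL]
    have h4 : π gu * π zu = π zu * π gu := by
      rw [hgu, hzu]; exact congrArg Subtype.val (hzc g hg).symm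
    obtain ⟨ν, hν, h5⟩ := hcomm _ _ h4
    exact comm_z hdim hν ha0 hβ0 hβa zu gu haβ h5
  · intro g hg
    rw [Subgroup.mem_subgroupOf] at hg ⊢
    obtain ⟨gu, hgu⟩ := hsurj (g : P)
    have h1 : π (gu * tUnit c hc0 α hα0 * gu⁻¹) ∈ (Lh : Subgroup (Module.End F (F × K))ˣ).map π := by
      rw [map_mul, map_mul, map_inv, hgu]; exact hg
    rw [hmL] at h1
    rw [← hgu, hmL]
    rw [← inv_mem_iff]
    apply conj_t hαF _ gu⁻¹ h1 (c := c)
    have : tUnit c hc0 α hα0 * gu⁻¹ = gu⁻¹ * (gu * tUnit c hc0 α hα0 * gu⁻¹) := by group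
    exact congrArg Units.val this
  · -- cardinalities
    apply Set.ncard_lt_ncard (s := ((((Lh : Subgroup (Module.End F (F × K))ˣ).map π).subgroupOf G : Subgroup G) : Set G)) (t := ((((Bh : Subgroup (Module.End F (F × K))ˣ).map π).subgroupOf G : Subgroup G) : Set G))
    rw [Set.ssubset_iff_of_subset]
    · -- a functional on K
      obtain ⟨φ, hφ⟩ : ∃ φ : Module.Dual F K, φ 1 ≠ 0 := by
        by_contra hcon
        push Not at hcon
        exact one_ne_zero ((Module.forall_dual_apply_eq_zero_iff F (1 : K)).1 hcon)
      let fl : Module.Dual F (F × K) := φ.comp (LinearMap.snd F F K)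
      let v : F × K := (1, 0)
      have hfv : fl v = 0 := by simp [fl, v]
      let e := LinearEquiv.transvection hfv
      let u : (Module.End F (F × K))ˣ := LinearMap.GeneralLinearGroup.ofLinearEquiv e
      have hu : π u ∈ G := by
        apply hG
        change LinearMap.det (e : (F × K) →ₗ[F] (F × K)) = 1
        rw [LinearEquiv.transvection.coe_toLinearMap, LinearMap.transvection.det, hfv, add_zero]
      refine ⟨⟨π u, hu⟩, ?_, ?_⟩
      · change _ ∈ ((Bh.map π).subgroupOf G)
        rw [Subgroup.mem_subgroupOf]
        rw [hmB, mem_Bh]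
        change (e (1, 0)).2 = 0
        rw [LinearEquiv.transvection.apply]
        simp [fl, v]
      · change ¬ _ ∈ ((Lh.map π).subgroupOf G)
        rw [Subgroup.mem_subgroupOf]
        rw [hmL, mem_Lh]
        rintro ⟨_, h6⟩
        have h7 := h6 1
        change (e (0, 1)).1 = 0 at h7
        rw [LinearEquiv.transvection.apply] at h7
        simp [fl, v] at h7
        exact hφ h7
    · intro x hx
      change _ ∈ ((Lh.map π).subgroupOf G) at hx
      change _ ∈ ((Bh.map π).subgroupOf G)
      rw [Subgroup.mem_subgroupOf] at hx ⊢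
      obtain ⟨u, hu, hux⟩ := hx
      exact ⟨u, hu.1, hux⟩

end CfsgLib.PglCoverA
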