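import Cfsg.Agent.EqBase
import Mathlib
import Cfsg.Agent.LibPglCoverA

set_option autoImplicit false
set_option linter.style.haveILetI false

namespace CfsgLib.PglCoverB

open Matrix

theorem toLin'_coe {R V : Type*} {n : Type*} [Fintype n] [DecidableEq n] [CommRing R] [AddCommGroup V] [Module R V]
    (b : Module.Basis n R V) (M : GL n R) :
    ((Matrix.GeneralLinearGroup.toLin' b M : LinearMap.GeneralLinearGroup R V) : Module.End R V) = Matrix.toLin b b (M : Matrix n n R) := by
  apply LinearMap.ext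
  intro v
  have := Matrix.GeneralLinearGroup.toLin'_apply b M v
  have h2 : (Matrix.GeneralLinearGroup.toLin' b M).toLinearEquiv v = ((Matrix.GeneralLinearGroup.toLin' b M : LinearMap.GeneralLinearGroup R V) : Module.End R V) v := rfl
  rw [h2] at this
  rw [this, Matrix.toLin_apply, Fintype.linearCombination_apply]

/-- The case `n ≥ 3`. -/
theorem ge_three {F : Type*} [Field F] [Fintype F] (n : ℕ) (hn : 3 ≤ n)
    (G : Subgroup (GL (Fin n) F ⧸ Subgroup.center (GL (Fin n) F)))
    (hG : ((Matrix.SpecialLinearGroup.toGL : Matrix.SpecialLinearGroup (Fin n) F →* GL (Fin n) F).range).map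
      (QuotientGroup.mk' (Subgroup.center (GL (Fin n) F))) ≤ G) :
    ¬ ∃ 𝓐 : Finset (Subgroup ↥G), ((∀ A ∈ 𝓐, A ≠ ⊤) ∧ (∀ g : ↥G, ∃ A ∈ 𝓐, g ∈ A)) ∧ (∀ 𝓑 : Finset (Subgroup ↥G), (∀ A ∈ 𝓑, A ≠ ⊤) ∧ (∀ g : ↥G, ∃ A ∈ 𝓑, g ∈ A) → 𝓐.card ≤ 𝓑.card) ∧ (∀ A ∈ 𝓐, Group.IsNilpotent ↥A) := by
  classical
  obtain ⟨p, hp⟩ := CharP.exists F
  haveI : CharP F p := hp
  haveI : Fact p.Prime := ⟨CharP.char_is_prime F p⟩
  haveI : NeZero (n - 1) := ⟨by omega⟩
  letI K := FiniteField.Extension F p (n - 1)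
  have hfr : Module.finrank F K = n - 1 := FiniteField.finrank_extension F p (n - 1)
  haveI : Module.Finite F K := .of_finite
  obtain ⟨α, hα⟩ := Field.exists_primitive_element F K
  have hα' : Algebra.adjoin F {α} = ⊤ := by
    rw [← IntermediateField.adjoin_simple_toSubalgebra_of_isAlgebraic (Algebra.IsAlgebraic.isAlgebraic α), hα]
    rfl
  have hfr2 : Module.finrank F (F × K) = n := by
    rw [Module.finrank_prod, hfr, Module.finrank_self]; omega
  let b : Module.Basis (Fin n) F (F × K) := Module.finBasisOfFinrankEq F (F × K) hfr2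
  let e : GL (Fin n) F ≃* (Module.End F (F × K))ˣ := Matrix.GeneralLinearGroup.toLin' b
  let π : (Module.End F (F × K))ˣ →* GL (Fin n) F ⧸ Subgroup.center (GL (Fin n) F) :=
    (QuotientGroup.mk' (Subgroup.center (GL (Fin n) F))).comp e.symm.toMonoidHom
  have he : ∀ M : GL (Fin n) F, ((e M : (Module.End F (F × K))ˣ) : Module.End F (F × K)) = Matrix.toLin b b (M : Matrix (Fin n) (Fin n) F) :=
    fun M => toLin'_coe b M
  refine CfsgLib.PglCoverA.main π ?_ ?_ (by omega) α hα' G ?_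
  · exact (QuotientGroup.mk'_surjective _).comp e.symm.surjective
  · intro u
    obtain ⟨M, rfl⟩ := e.surjective u
    have h1 : π (e M) = (QuotientGroup.mk' (Subgroup.center (GL (Fin n) F))) M := by
      simp [π]
    rw [h1, ← MonoidHom.mem_ker, QuotientGroup.ker_mk', Matrix.GeneralLinearGroup.mem_center_iff_val_mem_range_scalar, he]
    constructor
    · rintro ⟨c, hc⟩
      refine ⟨c, ?_⟩
      rw [← hc, Matrix.scalar_apply, ← Matrix.smul_one_eq_diagonal, map_smul, Matrix.toLin_one]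
      rfl
    · rintro ⟨c, hc⟩
      refine ⟨c, ?_⟩
      apply (Matrix.toLin b b).injective
      rw [hc, Matrix.scalar_apply, ← Matrix.smul_one_eq_diagonal, map_smul, Matrix.toLin_one]
      rfl
  · intro u hu
    obtain ⟨M, rfl⟩ := e.surjective u
    have h1 : π (e M) = (QuotientGroup.mk' (Subgroup.center (GL (Fin n) F))) M := by
      simp [π]
    rw [h1]
    rw [he, LinearMap.det_toLin] at hu
    apply hG
    refine ⟨M, ⟨⟨(M : Matrix (Fin n) (Fin n) F), hu⟩, ?_⟩, rfl⟩
    apply Units.ext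
    rfl

end CfsgLib.PglCoverB
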