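import Cfsg.Agent.EqBase
import Mathlib
import Cfsg.Agent.LibNilCover

set_option autoImplicit false
set_option linter.style.haveILetI false

/-!
No nilpotent minimal cover for groups between PSL(2,q) and PGL(2,q), q ≥ 4.
-/

namespace CfsgLib.PglCoverC

open Matrix

section abstractcover

variable {G : Type*} [Group G] [Finite G]

/-- counting criterion -/
theorem no_cover_of {ι : Type*} [Finite ι] (X : Set G) (B : ι → Subgroup G) (u : ι → G) (x0 : G)
    (hB : ∀ i, B i ≠ ⊤)
    (h1 : ∀ A : Subgroup G, Group.IsNilpotent A → ∀ x ∈ A, x ∈ X → ∀ a ∈ A, (∃ i, a ∈ B i) ∨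
      ∃ g : G, a ∈ Subgroup.zpowers g ∧ ∀ A' : Subgroup G, Group.IsNilpotent A' → g ∈ A' → ∀ x ∈ A', x ∉ X)
    (h2 : ∀ i, u i ∈ X) (h3 : x0 ∈ X)
    (h4 : ∀ A : Subgroup G, Group.IsNilpotent A → ∀ i j, u i ∈ A → u j ∈ A → i = j)
    (h5 : ∀ A : Subgroup G, Group.IsNilpotent A → ∀ i, u i ∈ A → x0 ∈ A → False) :
    ¬ ∃ 𝓐 : Finset (Subgroup G), ((∀ A ∈ 𝓐, A ≠ ⊤) ∧ (∀ g : G, ∃ A ∈ 𝓐, g ∈ A)) ∧
      (∀ 𝓑 : Finset (Subgroup G), (∀ A ∈ 𝓑, A ≠ ⊤) ∧ (∀ g : G, ∃ A ∈ 𝓑, g ∈ A) → 𝓐.card ≤ 𝓑.card) ∧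
      (∀ A ∈ 𝓐, Group.IsNilpotent A) := by
  classical
  rintro ⟨𝓐, hA, hmin, hnil⟩
  haveI : Fintype ι := Fintype.ofFinite ι
  let 𝓐₁ : Finset (Subgroup G) := 𝓐.filter (fun A => ∃ x ∈ A, x ∈ X)
  let 𝓑 : Finset (Subgroup G) := Finset.univ.image B
  have e1 : 𝓐₁.card ≤ 𝓑.card := by
    apply CfsgLib.NilCover.card_le_of_replace 𝓐 𝓐₁ 𝓑 (Finset.filter_subset _ _) hA hmin
    · intro C hC
      obtain ⟨i, _, rfl⟩ := Finset.mem_image.1 hC
      exact hB i
    · intro A hA1 a ha
      obtain ⟨hAm, x, hxA, hxX⟩ := Finset.mem_filter.1 hA1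
      rcases h1 A (hnil A hAm) x hxA hxX a ha with ⟨i, hi⟩ | ⟨g, hg, hg2⟩
      · exact Or.inl ⟨B i, Finset.mem_image.2 ⟨i, Finset.mem_univ _, rfl⟩, hi⟩
      · obtain ⟨A', hA', hgA'⟩ := hA.2 g
        refine Or.inr ⟨A', hA', ?_, ?_⟩
        · intro hA'1
          obtain ⟨_, y, hyA, hyX⟩ := Finset.mem_filter.1 hA'1
          exact hg2 A' (hnil A' hA') hgA' y hyA hyX
        · exact (Subgroup.zpowers_le.2 hgA') hg
  have e2 : 𝓑.card ≤ Fintype.card ι := by
    refine Finset.card_image_le.trans ?_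
    rw [Finset.card_univ]
  have e3 : Fintype.card (Option ι) ≤ 𝓐₁.card := by
    have hsel : ∀ o : Option ι, ∃ A : Subgroup G, A ∈ 𝓐₁ ∧ (o.elim x0 u) ∈ A := by
      intro o
      obtain ⟨A, hA', hoA⟩ := hA.2 (o.elim x0 u)
      refine ⟨A, Finset.mem_filter.2 ⟨hA', _, hoA, ?_⟩, hoA⟩
      cases o with
      | none => exact h3
      | some i => exact h2 i
    choose f hf1 hf2 using hsel
    have hinj : Function.Injective (fun o => (⟨f o, hf1 o⟩ : 𝓐₁)) := by
      intro o o' h
      have h' : f o = f o' := congrArg Subtype.val h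
      have hn : Group.IsNilpotent (f o) := hnil _ (Finset.mem_filter.1 (hf1 o)).1
      cases o with
      | none =>
        cases o' with
        | none => rfl
        | some j =>
          exfalso
          refine h5 (f none) hn j ?_ (hf2 none)
          rw [h']; exact hf2 (some j)
      | some i =>
        cases o' with
        | none =>
          exfalso
          refine h5 (f (some i)) hn i (hf2 (some i)) ?_
          rw [h']; exact hf2 none
        | some j =>
          congr 1
          refine h4 (f (some i)) hn i j (hf2 (some i)) ?_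
          rw [h']; exact hf2 (some j)
    have := Fintype.card_le_of_injective _ hinj
    rwa [Fintype.card_coe] at this
  rw [Fintype.card_option] at e3
  omega

end abstractcover

section matrices

variable {F : Type*} [Field F]

/-- `v` is an eigenvector -/
def Eig (a : Matrix (Fin 2) (Fin 2) F) (v : Fin 2 → F) : Prop :=
  ∃ l : F, a 0 0 * v 0 + a 0 1 * v 1 = l * v 0 ∧ a 1 0 * v 0 + a 1 1 * v 1 = l * v 1

/-- scalar matrix -/
def Scal (a : Matrix (Fin 2) (Fin 2) F) : Prop := ∃ c : F, a = c • (1 : Matrix (Fin 2) (Fin 2) F)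

theorem scal_iff (a : Matrix (Fin 2) (Fin 2) F) : Scal a ↔ a 0 1 = 0 ∧ a 1 0 = 0 ∧ a 0 0 = a 1 1 := by
  constructor
  · rintro ⟨c, rfl⟩; simp
  · rintro ⟨h1, h2, h3⟩
    refine ⟨a 0 0, ?_⟩
    ext i j
    fin_cases i <;> fin_cases j <;> simp [h1, h2, h3]

theorem Eig.add {a b : Matrix (Fin 2) (Fin 2) F} {v : Fin 2 → F} {s t : F} (h : Eig a v)
    (hb : b = s • (1 : Matrix (Fin 2) (Fin 2) F) + t • a) : Eig b v := by
  obtain ⟨l, h1, h2⟩ := h
  subst hb
  refine ⟨s + t * l, ?_, ?_⟩
  · simp; linear_combination t * h1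
  · simp; linear_combination t * h2

theorem comm_nonscal {a b : Matrix (Fin 2) (Fin 2) F} (ha : ¬ Scal a) (h : a * b = b * a) :
    ∃ s t : F, b = s • (1 : Matrix (Fin 2) (Fin 2) F) + t • a := by
  rw [scal_iff] at ha
  have e00 := congrFun (congrFun h 0) 0
  have e01 := congrFun (congrFun h 0) 1
  have e10 := congrFun (congrFun h 1) 0
  have e11 := congrFun (congrFun h 1) 1
  simp only [Matrix.mul_apply, Fin.sum_univ_two] at e00 e01 e10 e11
  by_cases h01 : a 0 1 = 0
  · by_cases h10 : a 1 0 = 0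
    · have hne : a 0 0 - a 1 1 ≠ 0 := fun hh => ha ⟨h01, h10, sub_eq_zero.1 hh⟩
      have b01 : b 0 1 = 0 := by
        have : (a 0 0 - a 1 1) * b 0 1 = 0 := by rw [h01] at e01; linear_combination e01
        exact (mul_eq_zero.1 this).resolve_left hne
      have b10 : b 1 0 = 0 := by
        have : (a 0 0 - a 1 1) * b 1 0 = 0 := by rw [h10] at e10; linear_combination -e10
        exact (mul_eq_zero.1 this).resolve_left hne
      refine ⟨b 0 0 - (b 0 0 - b 1 1) / (a 0 0 - a 1 1) * a 0 0, (b 0 0 - b 1 1) / (a 0 0 - a 1 1), ?_⟩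
      ext i j
      fin_cases i <;> fin_cases j
      · simp
      · simp [h01, b01]
      · simp [h10, b10]
      · simp
        field_simp
        ring
    · refine ⟨b 0 0 - b 1 0 / a 1 0 * a 0 0, b 1 0 / a 1 0, ?_⟩
      ext i j
      fin_cases i <;> fin_cases j
      · simp
      · simp
        field_simp
        rw [h01] at e00 ⊢
        have : b 0 1 * a 1 0 = 0 := by linear_combination -e00
        rw [this]; ring
      · simp [h10]
      · simp
        field_simp
        linear_combination -e10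
  · refine ⟨b 0 0 - b 0 1 / a 0 1 * a 0 0, b 0 1 / a 0 1, ?_⟩
    ext i j
    fin_cases i <;> fin_cases j
    · simp
    · simp [h01]
    · simp
      field_simp
      linear_combination e00
    · simp
      field_simp
      linear_combination e01

theorem mu_sq {a b : Matrix (Fin 2) (Fin 2) F} {μ : F} (ha : a.det ≠ 0) (hb : b.det ≠ 0)
    (h : a * b = μ • (b * a)) : μ ^ 2 = 1 := by
  have h1 := congrArg Matrix.det h
  rw [Matrix.det_smul, Matrix.det_mul, Matrix.det_mul, Fintype.card_fin, mul_comm b.det] at h1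
  exact (mul_right_cancel₀ (mul_ne_zero ha hb) (by rw [one_mul]; exact h1)).symm

theorem trace_zero {a b : Matrix (Fin 2) (Fin 2) F} {μ : F} (hb : b.det ≠ 0)
    (h : a * b = μ • (b * a)) (hμ : μ ≠ 1) : a.trace = 0 := by
  have hu : IsUnit b.det := isUnit_iff_ne_zero.2 hb
  have h1 : a = μ • (b * a * b⁻¹) := by
    calc a = a * b * b⁻¹ := by rw [mul_assoc, Matrix.mul_nonsing_inv _ hu, mul_one]
      _ = _ := by rw [h, smul_mul_assoc]
  have h2 := congrArg Matrix.trace h1
  rw [Matrix.trace_smul, Matrix.trace_mul_comm (b * a), ← mul_assoc, Matrix.nonsing_inv_mul _ hu, one_mul, smul_eq_mul] at h2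
  have h3 : (1 - μ) * a.trace = 0 := by rw [sub_mul, one_mul, ← h2, sub_self]
  exact (mul_eq_zero.1 h3).resolve_left (sub_ne_zero.2 (Ne.symm hμ))

theorem sq_of_trace_zero {a : Matrix (Fin 2) (Fin 2) F} (h : a.trace = 0) :
    a * a = (-a.det) • (1 : Matrix (Fin 2) (Fin 2) F) := by
  rw [Matrix.trace_fin_two] at h
  have h1 : a 1 1 = - a 0 0 := by linear_combination h
  rw [Matrix.det_fin_two]
  ext i j
  fin_cases i <;> fin_cases j <;> simp [Matrix.mul_apply, Fin.sum_univ_two, h1] <;> ring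

/-- points of the projective line -/
def pt : Option F → (Fin 2 → F)
  | none => ![0, 1]
  | some c => ![1, c]

theorem exists_pt {a : Matrix (Fin 2) (Fin 2) F} {v : Fin 2 → F} (hv : v ≠ 0) (h : Eig a v) : ∃ i, Eig a (pt i) := by
  obtain ⟨l, h1, h2⟩ := h
  by_cases h0 : v 0 = 0
  · have hv1 : v 1 ≠ 0 := by
      intro h3; apply hv; funext i; fin_cases i
      · exact h0
      · exact h3
    refine ⟨none, l, ?_, ?_⟩
    · rw [h0] at h1
      simp [pt]
      have : a 0 1 * v 1 = 0 := by linear_combination h1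
      exact (mul_eq_zero.1 this).resolve_right hv1
    · rw [h0] at h2
      simp [pt]
      have : a 1 1 * v 1 = l * v 1 := by linear_combination h2
      exact mul_right_cancel₀ hv1 this
  · refine ⟨some (v 1 / v 0), l, ?_, ?_⟩
    · simp [pt]
      field_simp
      linear_combination h1
    · simp [pt]
      field_simp
      linear_combination h2

/-- unipotent with centre `pt i` -/
def um : Option F → Matrix (Fin 2) (Fin 2) F
  | none => !![1, 0; 1, 1]
  | some c => !![1 - c, 1; -(c * c), 1 + c]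

theorem um_det (i : Option F) : (um i).det = 1 := by
  cases i <;> simp [um, Matrix.det_fin_two]; ring

theorem um_trace (i : Option F) : (um i).trace = 2 := by
  cases i <;> simp [um, Matrix.trace_fin_two] <;> ring

theorem um_eig (i : Option F) : Eig (um i) (pt i) := by
  cases i with
  | none => exact ⟨1, by simp [um, pt], by simp [um, pt]⟩
  | some c => exact ⟨1, by simp [um, pt], by simp [um, pt]; ring⟩

theorem um_not_scal (i : Option F) : ¬ Scal (um i) := by
  rw [scal_iff]
  cases i <;> simp [um]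

/-- the only eigenline of a nonscalar `s + t u` is the centre -/
theorem eig_um {i : Option F} {s t : F} (ht : t ≠ 0) {v : Fin 2 → F}
    (h : Eig (s • (1 : Matrix (Fin 2) (Fin 2) F) + t • um i) v) : ∃ c : F, v = c • pt i := by
  obtain ⟨l, h1, h2⟩ := h
  cases i with
  | none =>
    simp [um] at h1 h2
    by_cases hv : v 0 = 0
    · refine ⟨v 1, ?_⟩
      funext j; fin_cases j <;> simp [pt, hv]
    · exfalso
      have hl : s + t = l := h1.resolve_right hv
      subst hl
      have : t * v 0 = 0 := by linear_combination h2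
      rcases mul_eq_zero.1 this with h3 | h3
      · exact ht h3
      · exact hv h3
  | some c =>
    simp [um] at h1 h2
    -- (s + t(1-c)) v0 + t v1 = l v0 ; -(t c c) v0 + (s + t (1+c)) v1 = l v1
    set w := v 1 - c * v 0 with hw
    have e1 : (s + t - l) * v 0 + t * w = 0 := by rw [hw]; linear_combination h1
    have e2 : (s + t - l) * w = 0 := by
      rw [hw]; linear_combination h2 - c * h1
    by_cases hw0 : w = 0
    · refine ⟨v 0, ?_⟩
      have hv1 : v 1 = c * v 0 := by rw [hw] at hw0; linear_combination hw0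
      funext j; fin_cases j
      · simp [pt]
      · simp [pt, hv1, mul_comm]
    · exfalso
      have hl := (mul_eq_zero.1 e2).resolve_right hw0
      rw [hl] at e1
      have : t * w = 0 := by linear_combination e1
      rcases mul_eq_zero.1 this with h3 | h3
      · exact ht h3
      · exact hw0 h3

theorem pt_inj {i j : Option F} {c : F} (h : pt i = c • pt j) : i = j := by
  have h0 := congrFun h 0
  have h1 := congrFun h 1
  cases i with
  | none =>
    cases j with
    | none => rfl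
    | some d =>
      simp [pt] at h0 h1
      rw [← h0] at h1; simp at h1
  | some d =>
    cases j with
    | none => simp [pt] at h0
    | some d' =>
      simp [pt] at h0 h1
      rw [← h0, one_mul] at h1
      rw [h1]

end matrices


section groups

variable {F : Type*} [Field F] {P : Type*} [Group P]

theorem eig_iff (a : Matrix (Fin 2) (Fin 2) F) (v : Fin 2 → F) : Eig a v ↔ ∃ l : F, a *ᵥ v = l • v := by
  constructor
  · rintro ⟨l, h1, h2⟩
    refine ⟨l, ?_⟩
    funext i
    fin_cases i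
    · simpa [Matrix.mulVec, dotProduct, Fin.sum_univ_two] using h1
    · simpa [Matrix.mulVec, dotProduct, Fin.sum_univ_two] using h2
  · rintro ⟨l, h⟩
    refine ⟨l, ?_, ?_⟩
    · have := congrFun h 0
      simpa [Matrix.mulVec, dotProduct, Fin.sum_univ_two] using this
    · have := congrFun h 1
      simpa [Matrix.mulVec, dotProduct, Fin.sum_univ_two] using this

theorem pt_ne_zero (i : Option F) : pt i ≠ 0 := by
  intro h
  cases i with
  | none => have := congrFun h 1; simp [pt] at this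
  | some c => have := congrFun h 0; simp [pt] at this

/-- line stabilisers -/
def Bhat (i : Option F) : Subgroup (GL (Fin 2) F) where
  carrier := {u | Eig (u : Matrix (Fin 2) (Fin 2) F) (pt i)}
  mul_mem' := by
    rintro u v hu hv
    rw [Set.mem_setOf_eq, eig_iff] at hu hv ⊢
    obtain ⟨l, hl⟩ := hu
    obtain ⟨m, hm⟩ := hv
    refine ⟨m * l, ?_⟩
    rw [Units.val_mul, ← Matrix.mulVec_mulVec, hm, Matrix.mulVec_smul, hl, smul_smul]
  one_mem' := by
    rw [Set.mem_setOf_eq, eig_iff]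
    exact ⟨1, by simp⟩
  inv_mem' := by
    intro u hu
    rw [Set.mem_setOf_eq, eig_iff] at hu ⊢
    obtain ⟨l, hl⟩ := hu
    have hinv : ((u⁻¹ : GL (Fin 2) F) : Matrix (Fin 2) (Fin 2) F) *ᵥ ((u : Matrix (Fin 2) (Fin 2) F) *ᵥ pt i) = pt i := by
      rw [Matrix.mulVec_mulVec, ← Units.val_mul, inv_mul_cancel, Units.val_one, Matrix.one_mulVec]
    have hl0 : l ≠ 0 := by
      rintro rfl
      rw [hl, zero_smul, Matrix.mulVec_zero] at hinv
      exact pt_ne_zero i hinv.symm
    refine ⟨l⁻¹, ?_⟩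
    rw [hl, Matrix.mulVec_smul] at hinv
    rw [← hinv, smul_smul, inv_mul_cancel₀ hl0, one_smul, hinv]

theorem mem_Bhat {i : Option F} {u : GL (Fin 2) F} : u ∈ Bhat i ↔ Eig (u : Matrix (Fin 2) (Fin 2) F) (pt i) := Iff.rfl

theorem Scal.eig {a : Matrix (Fin 2) (Fin 2) F} (h : Scal a) (v : Fin 2 → F) : Eig a v := by
  obtain ⟨c, rfl⟩ := h
  exact ⟨c, by simp, by simp⟩

variable (π : GL (Fin 2) F →* P)

theorem lift_comm (hker : ∀ u, π u = 1 ↔ Scal (u : Matrix (Fin 2) (Fin 2) F)) {u v : GL (Fin 2) F}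
    (h : π u * π v = π v * π u) :
    ∃ μ : F, μ ^ 2 = 1 ∧ (u : Matrix (Fin 2) (Fin 2) F) * v = μ • ((v : Matrix (Fin 2) (Fin 2) F) * u) := by
  have h1 : π (u * v * (v * u)⁻¹) = 1 := by
    rw [map_mul, map_inv, map_mul, map_mul, h, mul_inv_cancel]
  obtain ⟨c, hc⟩ := (hker _).1 h1
  have h2 : (u : Matrix (Fin 2) (Fin 2) F) * v = c • ((v : Matrix (Fin 2) (Fin 2) F) * u) := by
    have h3 : (u * v : GL (Fin 2) F) = (u * v * (v * u)⁻¹) * (v * u) := by group
    rw [← Units.val_mul, h3, Units.val_mul, hc, smul_mul_assoc, one_mul, Units.val_mul]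
  have hdu : (u : Matrix (Fin 2) (Fin 2) F).det ≠ 0 := ((Matrix.isUnit_iff_isUnit_det _).1 u.isUnit).ne_zero
  have hdv : (v : Matrix (Fin 2) (Fin 2) F).det ≠ 0 := ((Matrix.isUnit_iff_isUnit_det _).1 v.isUnit).ne_zero
  exact ⟨c, mu_sq hdu hdv h2, h2⟩

theorem mem_map_Bhat (hker : ∀ u, π u = 1 ↔ Scal (u : Matrix (Fin 2) (Fin 2) F)) {i : Option F} {u : GL (Fin 2) F} :
    π u ∈ (Bhat i).map π ↔ Eig (u : Matrix (Fin 2) (Fin 2) F) (pt i) := by
  have hk : π.ker ≤ Bhat i := by
    intro w hw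
    exact ((hker w).1 hw).eig _
  rw [← Subgroup.mem_comap, Subgroup.comap_map_eq_self hk, mem_Bhat]

/-- the unipotent element -/
def umU (i : Option F) : GL (Fin 2) F := Matrix.SpecialLinearGroup.toGL ⟨um i, um_det i⟩

theorem umU_coe (i : Option F) : (umU i : Matrix (Fin 2) (Fin 2) F) = um i := rfl

theorem det_ne (u : GL (Fin 2) F) : (u : Matrix (Fin 2) (Fin 2) F).det ≠ 0 :=
  ((Matrix.isUnit_iff_isUnit_det _).1 u.isUnit).ne_zero

theorem det_s_t_um (i : Option F) (s t : F) : (s • (1 : Matrix (Fin 2) (Fin 2) F) + t • um i).det = (s + t) ^ 2 := by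
  cases i <;> simp [um, Matrix.det_fin_two] <;> ring

theorem trace_s_t_um (i : Option F) (s t : F) : (s • (1 : Matrix (Fin 2) (Fin 2) F) + t • um i).trace = 2 * (s + t) := by
  rw [Matrix.trace_add, Matrix.trace_smul, Matrix.trace_smul, um_trace, Matrix.trace_one, Fintype.card_fin]
  simp; ring

/-- members containing `u i` -/
theorem um_members (hsurj : Function.Surjective π) (hker : ∀ u, π u = 1 ↔ Scal (u : Matrix (Fin 2) (Fin 2) F))
    (G : Subgroup P) [Finite G] (hG : ∀ u : GL (Fin 2) F, (u : Matrix (Fin 2) (Fin 2) F).det = 1 → π u ∈ G)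
    (i : Option F) (A : Subgroup G) (hA : Group.IsNilpotent A) (hu : (⟨π (umU i), hG _ (um_det i)⟩ : G) ∈ A)
    (g : GL (Fin 2) F) (hg : π g ∈ G) (hgA : (⟨π g, hg⟩ : G) ∈ A) :
    ∃ s t : F, (g : Matrix (Fin 2) (Fin 2) F) = s • (1 : Matrix (Fin 2) (Fin 2) F) + t • um i := by
  have hne : (⟨π (umU i), hG _ (um_det i)⟩ : G) ≠ 1 := by
    intro h
    exact um_not_scal i ((hker _).1 (congrArg Subtype.val h))
  obtain ⟨z, hzA, hz1, hzc⟩ := CfsgLib.NilCover.exists_central hA hu hne
  obtain ⟨zu, hzu⟩ := hsurj (z : P)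
  obtain ⟨μ, hμ, h2⟩ := lift_comm π hker (u := umU i) (v := zu) (by
    rw [hzu]; exact congrArg Subtype.val (hzc _ hu).symm)
  rw [umU_coe] at h2
  have hμ1 : μ = 1 := by
    by_contra hne1
    have h3 := trace_zero (det_ne zu) h2 hne1
    rw [um_trace] at h3
    have h4 : (μ - 1) ^ 2 = 0 := by linear_combination hμ + (1 - μ) * h3
    exact hne1 (sub_eq_zero.1 (pow_eq_zero_iff (two_ne_zero) |>.1 h4))
  rw [hμ1, one_smul] at h2
  obtain ⟨s, t, hst⟩ := comm_nonscal (um_not_scal i) h2
  have hzs : ¬ Scal (zu : Matrix (Fin 2) (Fin 2) F) := by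
    intro h
    apply hz1
    apply Subtype.ext
    rw [← hzu]
    exact (hker _).2 h
  have ht : t ≠ 0 := by
    rintro rfl
    apply hzs
    exact ⟨s, by rw [hst]; simp⟩
  have hst0 : s + t ≠ 0 := by
    intro h
    have h5 := det_ne zu
    rw [hst, det_s_t_um, h] at h5
    simp at h5
  obtain ⟨ν, hν, h6⟩ := lift_comm π hker (u := zu) (v := g) (by
    rw [hzu]; exact congrArg Subtype.val (hzc _ hgA))
  have hν1 : ν = 1 := by
    by_contra hne1
    have h3 := trace_zero (det_ne g) h6 hne1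
    rw [hst, trace_s_t_um] at h3
    have h3' : (2 : F) = 0 := (mul_eq_zero.1 h3).resolve_right hst0
    have h4 : (ν - 1) ^ 2 = 0 := by linear_combination hν + (1 - ν) * h3'
    exact hne1 (sub_eq_zero.1 (pow_eq_zero_iff (two_ne_zero) |>.1 h4))
  rw [hν1, one_smul] at h6
  obtain ⟨s', t', hst'⟩ := comm_nonscal hzs h6
  refine ⟨s' + t' * s, t' * t, ?_⟩
  rw [hst', hst, smul_add, smul_smul, smul_smul, add_smul, add_assoc]

end groups

end CfsgLib.PglCoverC
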