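import Cfsg.Agent.EqBase
import Mathlib
import Cfsg.Agent.LibPglCoverC

set_option autoImplicit false
set_option linter.style.haveILetI false

namespace CfsgLib.PglCoverC

open Matrix

variable {F : Type*} [Field F] {P : Type*} [Group P] (π : GL (Fin 2) F →* P)

/-- a matrix of trace zero and determinant `D` with `-D` a square has an eigenvector -/
theorem eig_of_sq {a : Matrix (Fin 2) (Fin 2) F} {s : F} (htr : a.trace = 0) (hs : s ^ 2 = -a.det) :
    ∃ i, Eig a (pt i) := by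
  have h1 : (a - s • (1 : Matrix (Fin 2) (Fin 2) F)).det = 0 := by
    rw [Matrix.trace_fin_two] at htr
    rw [Matrix.det_fin_two] at hs ⊢
    simp
    linear_combination -s * htr + hs
  obtain ⟨v, hv, hv2⟩ := Matrix.exists_mulVec_eq_zero_iff.2 h1
  apply exists_pt hv
  rw [eig_iff]
  refine ⟨s, ?_⟩
  rw [Matrix.sub_mulVec, Matrix.smul_mulVec, Matrix.one_mulVec, sub_eq_zero] at hv2
  exact hv2

theorem exists_not_sq_one [Finite F] (hF : 4 ≤ Nat.card F) : ∃ a : F, a ≠ 0 ∧ a ^ 2 ≠ 1 := by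
  classical
  haveI : Fintype F := Fintype.ofFinite F
  by_contra hcon
  push Not at hcon
  have : Fintype.card F ≤ 3 := by
    rw [← Finset.card_univ]
    calc (Finset.univ : Finset F).card ≤ ({0, 1, -1} : Finset F).card := by
          apply Finset.card_le_card
          intro x _
          by_cases hx : x = 0
          · simp [hx]
          · have h1 := hcon x hx
            have h2 : (x - 1) * (x + 1) = 0 := by linear_combination h1
            rcases mul_eq_zero.1 h2 with h3 | h3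
            · simp [sub_eq_zero.1 h3]
            · simp [eq_neg_of_add_eq_zero_left h3]
      _ ≤ 3 := Finset.card_le_three
  rw [Nat.card_eq_fintype_card] at hF
  omega

theorem lin_indep_like {a : Matrix (Fin 2) (Fin 2) F} (ha : ¬ Scal a) {x y x' y' : F}
    (h : x • (1 : Matrix (Fin 2) (Fin 2) F) + y • a = x' • (1 : Matrix (Fin 2) (Fin 2) F) + y' • a) : x = x' ∧ y = y' := by
  have hy : y = y' := by
    by_contra hne
    apply ha
    refine ⟨(y - y')⁻¹ * (x' - x), ?_⟩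
    have h1 : (y - y') • a = (x' - x) • (1 : Matrix (Fin 2) (Fin 2) F) := by
      rw [sub_smul, sub_smul, sub_eq_sub_iff_add_eq_add, add_comm, h, add_comm]
    rw [← smul_smul, ← h1, smul_smul, inv_mul_cancel₀ (sub_ne_zero.2 hne), one_smul]
  subst hy
  refine ⟨?_, rfl⟩
  have h1 := add_right_cancel h
  have := congrFun (congrFun h1 0) 0
  simpa using this

/-- Bad involutions are powers of elements of a nonsplit torus. -/
theorem bad_lemma [Finite F] (h20 : (2 : F) ≠ 0) (hF : 5 ≤ Nat.card F)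
    (hsurj : Function.Surjective π) (hker : ∀ u, π u = 1 ↔ Scal (u : Matrix (Fin 2) (Fin 2) F))
    (G : Subgroup P) [Finite G] (hG : ∀ u : GL (Fin 2) F, (u : Matrix (Fin 2) (Fin 2) F).det = 1 → π u ∈ G)
    (a : GL (Fin 2) F) (haG : π a ∈ G) (htr : (a : Matrix (Fin 2) (Fin 2) F).trace = 0)
    (hne : ∀ i, ¬ Eig (a : Matrix (Fin 2) (Fin 2) F) (pt i)) :
    ∃ g : G, (⟨π a, haG⟩ : G) ∈ Subgroup.zpowers g ∧ ∀ A' : Subgroup G, Group.IsNilpotent A' → g ∈ A' →
      ∀ x ∈ A', ∀ (u : GL (Fin 2) F), π u = x → (∃ i, Eig (u : Matrix (Fin 2) (Fin 2) F) (pt i)) → x ^ 2 = 1 := by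
  classical
  set d : F := -(a : Matrix (Fin 2) (Fin 2) F).det with hd
  have hsqa : (a : Matrix (Fin 2) (Fin 2) F) * a = d • (1 : Matrix (Fin 2) (Fin 2) F) := sq_of_trace_zero htr
  have hdns : ∀ s : F, s ^ 2 ≠ d := by
    intro s hs
    obtain ⟨i, hi⟩ := eig_of_sq htr hs
    exact hne i hi
  have has : ¬ Scal (a : Matrix (Fin 2) (Fin 2) F) := fun h => hne none (h.eig _)
  have hd0 : d ≠ 0 := by
    intro h; apply hdns 0; rw [h]; ring
  have hmulform : ∀ x y x' y' : F, (x • (1 : Matrix (Fin 2) (Fin 2) F) + y • (a : Matrix (Fin 2) (Fin 2) F)) *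
      (x' • (1 : Matrix (Fin 2) (Fin 2) F) + y' • (a : Matrix (Fin 2) (Fin 2) F)) =
      (x * x' + d * (y * y')) • (1 : Matrix (Fin 2) (Fin 2) F) + (x * y' + y * x') • (a : Matrix (Fin 2) (Fin 2) F) := by
    intro x y x' y'
    simp only [add_mul, mul_add, smul_mul_assoc, mul_smul_comm, one_mul, mul_one, hsqa]
    module
  -- the subgroup C
  let C : Subgroup (GL (Fin 2) F) :=
    { carrier := {u | π u ∈ G ∧ ∃ x y : F, (u : Matrix (Fin 2) (Fin 2) F) = x • (1 : Matrix (Fin 2) (Fin 2) F) + y • (a : Matrix (Fin 2) (Fin 2) F)}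
      mul_mem' := by
        rintro u v ⟨hu, x, y, hxy⟩ ⟨hv, x', y', hxy'⟩
        refine ⟨by rw [map_mul]; exact mul_mem hu hv, x * x' + d * (y * y'), x * y' + y * x', ?_⟩
        rw [Units.val_mul, hxy, hxy', hmulform]
      one_mem' := ⟨by rw [map_one]; exact one_mem _, 1, 0, by simp⟩
      inv_mem' := by
        rintro u ⟨hu, x, y, hxy⟩
        refine ⟨by rw [map_inv]; exact inv_mem hu, ?_⟩
        have hn : x ^ 2 - d * y ^ 2 ≠ 0 := by
          intro h
          by_cases hy : y = 0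
          · subst hy
            have hx : x = 0 := by
              have : x ^ 2 = 0 := by linear_combination h
              exact pow_eq_zero_iff (two_ne_zero) |>.1 this
            subst hx
            apply u.ne_zero
            rw [hxy]; simp
          · apply hdns (x / y)
            field_simp
            linear_combination h
        refine ⟨x / (x ^ 2 - d * y ^ 2), -y / (x ^ 2 - d * y ^ 2), ?_⟩
        apply Units.inv_eq_of_mul_eq_one_right
        rw [hxy, hmulform]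
        have e1 : x * (x / (x ^ 2 - d * y ^ 2)) + d * (y * (-y / (x ^ 2 - d * y ^ 2))) = 1 := by
          field_simp
          ring
        have e2 : x * (-y / (x ^ 2 - d * y ^ 2)) + y * (x / (x ^ 2 - d * y ^ 2)) = 0 := by
          field_simp
          ring
        rw [e1, e2]; simp }
  have hC : ∀ u : GL (Fin 2) F, u ∈ C ↔ π u ∈ G ∧ ∃ x y : F, (u : Matrix (Fin 2) (Fin 2) F) = x • (1 : Matrix (Fin 2) (Fin 2) F) + y • (a : Matrix (Fin 2) (Fin 2) F) := fun _ => Iff.rfl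
  -- embedding in an algebraically closed field
  let Ω := AlgebraicClosure F
  obtain ⟨s, hs⟩ := IsAlgClosed.exists_pow_nat_eq (algebraMap F Ω d) (n := 2) (by norm_num)
  choose! X Y hXY using fun (u : GL (Fin 2) F) (hu : u ∈ C) => ((hC u).1 hu).2
  have huniq : ∀ (u : GL (Fin 2) F) (hu : u ∈ C) (x y : F), (u : Matrix (Fin 2) (Fin 2) F) = x • (1 : Matrix (Fin 2) (Fin 2) F) + y • (a : Matrix (Fin 2) (Fin 2) F) → X u = x ∧ Y u = y := by
    intro u hu x y h
    apply lin_indep_like has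
    rw [← hXY u hu, h]
  let f : C →* Ω :=
    { toFun := fun u => algebraMap F Ω (X u) + algebraMap F Ω (Y u) * s
      map_one' := by
        obtain ⟨h1, h2⟩ := huniq 1 C.one_mem 1 0 (by simp)
        simp [h1, h2]
      map_mul' := by
        intro u v
        obtain ⟨h1, h2⟩ := huniq (u * v : GL (Fin 2) F) (mul_mem u.2 v.2) _ _ (by
          rw [Units.val_mul, hXY u u.2, hXY v v.2, hmulform])
        simp only [Subgroup.coe_mul, h1, h2, map_add, map_mul]
        rw [← hs]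
        ring }
  have hfinj : Function.Injective f := by
    intro u v huv
    have h1 : algebraMap F Ω (X u) + algebraMap F Ω (Y u) * s = algebraMap F Ω (X v) + algebraMap F Ω (Y v) * s := huv
    have hY : Y u = Y v := by
      by_contra hne1
      have hne2 : Y u - Y v ≠ 0 := sub_ne_zero.2 hne1
      apply hdns ((X v - X u) / (Y u - Y v))
      apply (algebraMap F Ω).injective
      rw [map_pow, map_div₀, ← hs]
      congr 1
      have hne3 : algebraMap F Ω (Y u - Y v) ≠ 0 := by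
        rw [Ne, map_eq_zero]; exact hne2
      rw [div_eq_iff hne3, map_sub, map_sub]
      linear_combination -h1
    rw [hY] at h1
    have hX := (algebraMap F Ω).injective (add_right_cancel h1)
    apply Subtype.ext
    apply Units.ext
    rw [hXY u u.2, hXY v v.2, hX, hY]
  haveI : Finite C := inferInstance
  haveI : IsCyclic C := isCyclic_of_injective_ringHom f hfinj
  obtain ⟨g0, hg0⟩ := IsCyclic.exists_generator (α := C)
  -- scalars in the group
  have hscal : ∀ (c : F) (hc : c ≠ 0), ∃ w : GL (Fin 2) F, (w : Matrix (Fin 2) (Fin 2) F) = c • (1 : Matrix (Fin 2) (Fin 2) F) := by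
    intro c hc
    refine ⟨⟨c • 1, c⁻¹ • 1, ?_, ?_⟩, rfl⟩
    · rw [smul_mul_smul_comm, mul_inv_cancel₀ hc, one_smul, one_mul]
    · rw [smul_mul_smul_comm, inv_mul_cancel₀ hc, one_smul, one_mul]
  -- an element t with t ≠ 0, t^2 + d ≠ 0
  obtain ⟨t, ht0, ht1⟩ : ∃ t : F, t ≠ 0 ∧ t ^ 2 + d ≠ 0 := by
    by_cases h1 : (1 : F) + d = 0
    · obtain ⟨b, hb0, hb1⟩ := exists_not_sq_one (F := F) (by omega)
      refine ⟨b, hb0, fun h => hb1 ?_⟩
      linear_combination h - h1
    · exact ⟨1, one_ne_zero, by rw [one_pow]; exact h1⟩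
  have hg0sq : ¬ Scal ((g0 * g0 : C) : GL (Fin 2) F).val := by
    rintro ⟨c, hc⟩
    -- every element of C has scalar square
    have hall : ∀ h : C, Scal ((h * h : C) : GL (Fin 2) F).val := by
      intro h
      obtain ⟨k, hk⟩ := Subgroup.mem_zpowers_iff.1 (hg0 h)
      have h1 : h * h = (g0 * g0) ^ k := by
        rw [← hk, (Commute.refl g0).mul_zpow]
      have h2 : π ((g0 * g0 : C) : GL (Fin 2) F) = 1 := (hker _).2 ⟨c, hc⟩
      apply (hker _).1
      rw [h1, Subgroup.coe_zpow, map_zpow, h2, _root_.one_zpow]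
    -- κ
    have hκdet : (t • (1 : Matrix (Fin 2) (Fin 2) F) + (1 : F) • (a : Matrix (Fin 2) (Fin 2) F)).det ≠ 0 := by
      have h1 : (t • (1 : Matrix (Fin 2) (Fin 2) F) + (1 : F) • (a : Matrix (Fin 2) (Fin 2) F)) *
          (t • (1 : Matrix (Fin 2) (Fin 2) F) + (-1 : F) • (a : Matrix (Fin 2) (Fin 2) F)) = (t ^ 2 - d) • (1 : Matrix (Fin 2) (Fin 2) F) := by
        rw [hmulform]
        module
      intro h2
      have h3 := congrArg Matrix.det h1
      rw [Matrix.det_mul, h2, zero_mul, Matrix.det_smul, Matrix.det_one, mul_one, Fintype.card_fin] at h3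
      have h4 : t ^ 2 - d = 0 := pow_eq_zero_iff (two_ne_zero) |>.1 h3.symm
      exact hdns t (sub_eq_zero.1 h4)
    let κ : GL (Fin 2) F := Matrix.GeneralLinearGroup.mkOfDetNeZero _ hκdet
    have hκ : (κ : Matrix (Fin 2) (Fin 2) F) = t • (1 : Matrix (Fin 2) (Fin 2) F) + (1 : F) • (a : Matrix (Fin 2) (Fin 2) F) := rfl
    obtain ⟨w, hw⟩ := hscal (κ : Matrix (Fin 2) (Fin 2) F).det (det_ne κ)
    have hκG : π (κ * κ) ∈ G := by
      have h1 : π (κ * κ * w⁻¹) ∈ G := by
        apply hG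
        have h2 : ((κ * κ * w⁻¹ : GL (Fin 2) F) : Matrix (Fin 2) (Fin 2) F).det * (w : Matrix (Fin 2) (Fin 2) F).det =
            (κ : Matrix (Fin 2) (Fin 2) F).det * (κ : Matrix (Fin 2) (Fin 2) F).det := by
          rw [← Matrix.det_mul, ← Matrix.det_mul, ← Units.val_mul, ← Units.val_mul, inv_mul_cancel_right]
        have h3 : (w : Matrix (Fin 2) (Fin 2) F).det = (κ : Matrix (Fin 2) (Fin 2) F).det * (κ : Matrix (Fin 2) (Fin 2) F).det := by
          rw [hw, Matrix.det_smul, Matrix.det_one, Fintype.card_fin]; ring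
        rw [← h3] at h2
        exact mul_right_cancel₀ (det_ne w) (by rw [h2, one_mul])
      have h4 : π w = 1 := (hker _).2 ⟨_, hw⟩
      rwa [map_mul, map_inv, h4, inv_one, mul_one] at h1
    have hκC : κ * κ ∈ C := by
      rw [hC]
      refine ⟨hκG, t * t + d * (1 * 1), t * 1 + 1 * t, ?_⟩
      rw [Units.val_mul, hκ, hmulform]
    obtain ⟨c', hc'⟩ := hall ⟨κ * κ, hκC⟩
    have h5 : ((κ * κ * (κ * κ) : GL (Fin 2) F) : Matrix (Fin 2) (Fin 2) F) = c' • 1 := hc'
    rw [Units.val_mul, Units.val_mul, hκ, hmulform, hmulform] at h5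
    have h6 : c' • (1 : Matrix (Fin 2) (Fin 2) F) = c' • (1 : Matrix (Fin 2) (Fin 2) F) + (0 : F) • (a : Matrix (Fin 2) (Fin 2) F) := by simp
    rw [h6] at h5
    have h7 := (lin_indep_like has h5).2
    have h8 : 2 * 2 * (t * (t ^ 2 + d)) = 0 := by linear_combination h7
    rcases mul_eq_zero.1 h8 with h9 | h9
    · exact (mul_ne_zero h20 h20) h9
    · rcases mul_eq_zero.1 h9 with h10 | h10
      · exact ht0 h10
      · exact ht1 h10
  have hg0s : ¬ Scal ((g0 : GL (Fin 2) F) : Matrix (Fin 2) (Fin 2) F) := by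
    rintro ⟨c, hc⟩
    apply hg0sq
    refine ⟨c * c, ?_⟩
    rw [Subgroup.coe_mul, Units.val_mul, hc, smul_mul_smul_comm, one_mul]
  obtain ⟨hg0G, x0, y0, hxy0⟩ := (hC g0).1 g0.2
  refine ⟨⟨π g0, hg0G⟩, ?_, ?_⟩
  · have haC : a ∈ C := by
      rw [hC]
      exact ⟨haG, 0, 1, by simp⟩
    obtain ⟨k, hk⟩ := Subgroup.mem_zpowers_iff.1 (hg0 ⟨a, haC⟩)
    refine Subgroup.mem_zpowers_iff.2 ⟨k, ?_⟩
    apply Subtype.ext
    have h1 : (g0 : GL (Fin 2) F) ^ k = a := by
      have := congrArg Subtype.val hk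
      simpa using this
    rw [Subgroup.coe_zpow]
    simp only
    rw [← map_zpow, h1]
  · intro A' hA' hgA x hxA u hux ⟨i, hi⟩
    have hgne : (⟨π g0, hg0G⟩ : G) ≠ 1 := by
      intro h
      exact hg0s ((hker _).1 (congrArg Subtype.val h))
    obtain ⟨z, hzA, hz1, hzc⟩ := CfsgLib.NilCover.exists_central hA' hgA hgne
    obtain ⟨zu, hzu⟩ := hsurj (z : P)
    have hzs : ¬ Scal (zu : Matrix (Fin 2) (Fin 2) F) := by
      intro h
      apply hz1
      apply Subtype.ext
      rw [← hzu]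
      exact (hker _).2 h
    obtain ⟨μ, hμ, h2⟩ := lift_comm π hker (u := g0) (v := zu) (by
      rw [hzu]; exact congrArg Subtype.val (hzc _ hgA).symm)
    have hμ1 : μ = 1 := by
      by_contra hne1
      have h3 := trace_zero (det_ne zu) h2 hne1
      apply hg0sq
      exact ⟨_, sq_of_trace_zero h3⟩
    rw [hμ1, one_smul] at h2
    obtain ⟨s1, t1, hst1⟩ := comm_nonscal hg0s h2
    obtain ⟨ν, hν, h6⟩ := lift_comm π hker (u := u) (v := zu) (by
      rw [hux, hzu]; exact congrArg Subtype.val (hzc _ hxA).symm)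
    by_cases hν1 : ν = 1
    · rw [hν1, one_smul] at h6
      obtain ⟨s2, t2, hst2⟩ := comm_nonscal hzs h6.symm
      -- u = s2 + t2 (s1 + t1 (x0 + y0 a))
      have h7 : (u : Matrix (Fin 2) (Fin 2) F) = (s2 + t2 * (s1 + t1 * x0)) • (1 : Matrix (Fin 2) (Fin 2) F) + (t2 * t1 * y0) • (a : Matrix (Fin 2) (Fin 2) F) := by
        rw [hst2, hst1, hxy0]
        module
      by_cases h8 : t2 * t1 * y0 = 0
      · rw [h8, zero_smul, add_zero] at h7
        have h9 : π u = 1 := (hker _).2 ⟨_, h7⟩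
        apply Subtype.ext
        rw [Subgroup.coe_pow, ← hux, h9, one_pow]; rfl
      · exfalso
        apply hne i
        apply hi.add (s := -(t2 * t1 * y0)⁻¹ * (s2 + t2 * (s1 + t1 * x0))) (t := (t2 * t1 * y0)⁻¹)
        rw [h7, smul_add, smul_smul, smul_smul, inv_mul_cancel₀ h8]
        module
    · have h3 := trace_zero (det_ne zu) h6 hν1
      apply Subtype.ext
      rw [Subgroup.coe_pow, ← hux, ← map_pow, Subgroup.coe_one, hker, pow_two, Units.val_mul]
      exact ⟨_, sq_of_trace_zero h3⟩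


section final

variable [Finite F] (hsurj : Function.Surjective π) (hker : ∀ u, π u = 1 ↔ Scal (u : Matrix (Fin 2) (Fin 2) F))
    (G : Subgroup P) [Finite G] (hG : ∀ u : GL (Fin 2) F, (u : Matrix (Fin 2) (Fin 2) F).det = 1 → π u ∈ G)

include hker hG in
omit [Finite F] [Finite G] in
theorem B_ne_top (i : Option F) : ((Bhat i).map π).subgroupOf G ≠ ⊤ := by
  intro htop
  obtain ⟨j, hj⟩ := exists_ne i
  have h1 : (⟨π (umU j), hG _ (um_det j)⟩ : G) ∈ ((Bhat i).map π).subgroupOf G := by rw [htop]; trivial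
  rw [Subgroup.mem_subgroupOf, mem_map_Bhat π hker, umU_coe] at h1
  have h2 : Eig ((0 : F) • (1 : Matrix (Fin 2) (Fin 2) F) + (1 : F) • um j) (pt i) := by
    simpa using h1
  obtain ⟨c, hc⟩ := eig_um one_ne_zero h2
  exact hj (pt_inj hc).symm

include hsurj hker in
omit [Finite F] in
theorem um_um (A : Subgroup G) (hA : Group.IsNilpotent A) (i j : Option F)
    (hi : (⟨π (umU i), hG _ (um_det i)⟩ : G) ∈ A) (hj : (⟨π (umU j), hG _ (um_det j)⟩ : G) ∈ A) : i = j := by
  obtain ⟨s, t, hst⟩ := um_members π hsurj hker G hG i A hA hi (umU j) _ hj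
  rw [umU_coe] at hst
  have ht : t ≠ 0 := by
    rintro rfl
    exact um_not_scal j ⟨s, by rw [hst]; simp⟩
  have h1 := um_eig j
  rw [hst] at h1
  obtain ⟨c, hc⟩ := eig_um ht h1
  exact (pt_inj hc).symm

include hsurj hker in
omit [Finite F] in
theorem um_x0 (x0 : GL (Fin 2) F) (hx0G : π x0 ∈ G) (hx0a : Eig (x0 : Matrix (Fin 2) (Fin 2) F) (pt none))
    (hx0b : Eig (x0 : Matrix (Fin 2) (Fin 2) F) (pt (some 0))) (hx0s : ¬ Scal (x0 : Matrix (Fin 2) (Fin 2) F))
    (A : Subgroup G) (hA : Group.IsNilpotent A) (i : Option F)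
    (hi : (⟨π (umU i), hG _ (um_det i)⟩ : G) ∈ A) (hj : (⟨π x0, hx0G⟩ : G) ∈ A) : False := by
  obtain ⟨s, t, hst⟩ := um_members π hsurj hker G hG i A hA hi x0 _ hj
  have ht : t ≠ 0 := by
    rintro rfl
    exact hx0s ⟨s, by rw [hst]; simp⟩
  rw [hst] at hx0a hx0b
  obtain ⟨c, hc⟩ := eig_um ht hx0a
  obtain ⟨c', hc'⟩ := eig_um ht hx0b
  have h1 := pt_inj hc
  have h2 := pt_inj hc'
  rw [← h1] at h2
  exact absurd h2 (by simp)

include hsurj hker hG in
theorem caseII (h20 : (2 : F) ≠ 0) (hF : 5 ≤ Nat.card F)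
    (x0 : GL (Fin 2) F) (hx0G : π x0 ∈ G) (hx0a : Eig (x0 : Matrix (Fin 2) (Fin 2) F) (pt none))
    (hx0b : Eig (x0 : Matrix (Fin 2) (Fin 2) F) (pt (some 0))) (hx0s : ¬ Scal ((x0 * x0 : GL (Fin 2) F) : Matrix (Fin 2) (Fin 2) F)) :
    ¬ ∃ 𝓐 : Finset (Subgroup ↥G), ((∀ A ∈ 𝓐, A ≠ ⊤) ∧ (∀ g : ↥G, ∃ A ∈ 𝓐, g ∈ A)) ∧ (∀ 𝓑 : Finset (Subgroup ↥G), (∀ A ∈ 𝓑, A ≠ ⊤) ∧ (∀ g : ↥G, ∃ A ∈ 𝓑, g ∈ A) → 𝓐.card ≤ 𝓑.card) ∧ (∀ A ∈ 𝓐, Group.IsNilpotent ↥A) := by
  have hx0s' : ¬ Scal (x0 : Matrix (Fin 2) (Fin 2) F) := by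
    rintro ⟨c, hc⟩
    apply hx0s
    refine ⟨c * c, ?_⟩
    rw [Units.val_mul, hc, smul_mul_smul_comm, one_mul]
  apply no_cover_of (ι := Option F) {x : G | x ^ 2 ≠ 1 ∧ ∃ u : GL (Fin 2) F, π u = x ∧ ∃ i, Eig (u : Matrix (Fin 2) (Fin 2) F) (pt i)}
    (fun i => ((Bhat i).map π).subgroupOf G) (fun i => ⟨π (umU i), hG _ (um_det i)⟩) ⟨π x0, hx0G⟩
  · exact B_ne_top π hker G hG
  · rintro A hA x hxA ⟨hx2, u, hux, i, hi⟩ a haA
    have hx1 : x ≠ 1 := by rintro rfl; exact hx2 (one_pow 2)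
    have hus : ¬ Scal (u : Matrix (Fin 2) (Fin 2) F) := by
      intro h
      apply hx1
      apply Subtype.ext
      rw [← hux]
      exact (hker _).2 h
    obtain ⟨z, hzA, hz1, hzc⟩ := CfsgLib.NilCover.exists_central hA hxA hx1
    obtain ⟨zu, hzu⟩ := hsurj (z : P)
    have hzs : ¬ Scal (zu : Matrix (Fin 2) (Fin 2) F) := by
      intro h
      apply hz1
      apply Subtype.ext
      rw [← hzu]
      exact (hker _).2 h
    obtain ⟨μ, hμ, h2⟩ := lift_comm π hker (u := u) (v := zu) (by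
      rw [hzu, hux]; exact congrArg Subtype.val (hzc _ hxA).symm)
    have hμ1 : μ = 1 := by
      by_contra hne1
      have h3 := trace_zero (det_ne zu) h2 hne1
      apply hx2
      apply Subtype.ext
      rw [Subgroup.coe_pow, ← hux, ← map_pow, Subgroup.coe_one, hker, pow_two, Units.val_mul]
      exact ⟨_, sq_of_trace_zero h3⟩
    rw [hμ1, one_smul] at h2
    obtain ⟨s1, t1, hst1⟩ := comm_nonscal hus h2
    have hzi : Eig (zu : Matrix (Fin 2) (Fin 2) F) (pt i) := hi.add hst1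
    obtain ⟨au, hau⟩ := hsurj (a : P)
    have hauG : π au ∈ G := by rw [hau]; exact a.2
    have haeq : (⟨π au, hauG⟩ : G) = a := Subtype.ext hau
    obtain ⟨ν, hν, h6⟩ := lift_comm π hker (u := au) (v := zu) (by
      rw [hau, hzu]; exact congrArg Subtype.val (hzc _ haA).symm)
    by_cases hex : ∃ j, Eig (au : Matrix (Fin 2) (Fin 2) F) (pt j)
    · obtain ⟨j, hj⟩ := hex
      left
      refine ⟨j, ?_⟩
      rw [Subgroup.mem_subgroupOf, ← hau, mem_map_Bhat π hker]
      exact hj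
    · push Not at hex
      right
      have hν1 : ν ≠ 1 := by
        intro hν1
        rw [hν1, one_smul] at h6
        obtain ⟨s2, t2, hst2⟩ := comm_nonscal hzs h6.symm
        exact hex i (hzi.add hst2)
      have h3 := trace_zero (det_ne zu) h6 hν1
      obtain ⟨g, hg1, hg2⟩ := bad_lemma π h20 hF hsurj hker G hG au hauG h3 hex
      rw [haeq] at hg1
      refine ⟨g, hg1, ?_⟩
      rintro A' hA' hgA' y hy ⟨hy2, w, hwy, hw⟩
      exact hy2 (hg2 A' hA' hgA' y hy w hwy hw)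
  · intro i
    refine ⟨?_, umU i, rfl, i, um_eig i⟩
    intro h
    have h1 : π (umU i * umU i) = 1 := by
      have := congrArg Subtype.val h
      rw [Subgroup.coe_pow, Subgroup.coe_one, ← map_pow, pow_two] at this
      exact this
    rw [hker, Units.val_mul, umU_coe, scal_iff] at h1
    obtain ⟨e1, e2, _⟩ := h1
    cases i with
    | none =>
      simp [um, Matrix.mul_apply, Fin.sum_univ_two] at e2
      apply h20; linear_combination e2
    | some c =>
      simp [um, Matrix.mul_apply, Fin.sum_univ_two] at e1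
      apply h20; linear_combination e1
  · refine ⟨?_, x0, rfl, none, hx0a⟩
    intro h
    have h1 : π (x0 * x0) = 1 := by
      have := congrArg Subtype.val h
      rw [Subgroup.coe_pow, Subgroup.coe_one, ← map_pow, pow_two] at this
      exact this
    exact hx0s ((hker _).1 h1)
  · intro A hA i j hi hj
    exact um_um π hsurj hker G hG A hA i j hi hj
  · intro A hA i hi hj
    exact um_x0 π hsurj hker G hG x0 hx0G hx0a hx0b hx0s' A hA i hi hj

include hsurj hker hG in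
theorem caseI (hnb : ∀ u : GL (Fin 2) F, π u ∈ G → (u : Matrix (Fin 2) (Fin 2) F).trace = 0 →
      (∃ i, Eig (u : Matrix (Fin 2) (Fin 2) F) (pt i)) ∨ (2 : F) = 0)
    (x0 : GL (Fin 2) F) (hx0G : π x0 ∈ G) (hx0a : Eig (x0 : Matrix (Fin 2) (Fin 2) F) (pt none))
    (hx0b : Eig (x0 : Matrix (Fin 2) (Fin 2) F) (pt (some 0))) (hx0s : ¬ Scal (x0 : Matrix (Fin 2) (Fin 2) F)) :
    ¬ ∃ 𝓐 : Finset (Subgroup ↥G), ((∀ A ∈ 𝓐, A ≠ ⊤) ∧ (∀ g : ↥G, ∃ A ∈ 𝓐, g ∈ A)) ∧ (∀ 𝓑 : Finset (Subgroup ↥G), (∀ A ∈ 𝓑, A ≠ ⊤) ∧ (∀ g : ↥G, ∃ A ∈ 𝓑, g ∈ A) → 𝓐.card ≤ 𝓑.card) ∧ (∀ A ∈ 𝓐, Group.IsNilpotent ↥A) := by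
  -- a common step
  have key : ∀ (u v : GL (Fin 2) F), π v ∈ G → (∃ i, Eig (u : Matrix (Fin 2) (Fin 2) F) (pt i)) → ¬ Scal (u : Matrix (Fin 2) (Fin 2) F) →
      π v * π u = π u * π v → ∃ i, Eig (v : Matrix (Fin 2) (Fin 2) F) (pt i) := by
    rintro u v hv ⟨i, hi⟩ hu h
    obtain ⟨μ, hμ, h2⟩ := lift_comm π hker (u := v) (v := u) h
    by_cases hμ1 : μ = 1
    · rw [hμ1, one_smul] at h2
      obtain ⟨s1, t1, hst1⟩ := comm_nonscal hu h2.symm
      exact ⟨i, hi.add hst1⟩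
    · have h3 := trace_zero (det_ne u) h2 hμ1
      rcases hnb v hv h3 with h4 | h4
      · exact h4
      · exfalso
        have h5 : (μ - 1) ^ 2 = 0 := by linear_combination hμ + (1 - μ) * h4
        exact hμ1 (sub_eq_zero.1 (pow_eq_zero_iff (two_ne_zero) |>.1 h5))
  apply no_cover_of (ι := Option F) {x : G | x ≠ 1 ∧ ∃ u : GL (Fin 2) F, π u = x ∧ ∃ i, Eig (u : Matrix (Fin 2) (Fin 2) F) (pt i)}
    (fun i => ((Bhat i).map π).subgroupOf G) (fun i => ⟨π (umU i), hG _ (um_det i)⟩) ⟨π x0, hx0G⟩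
  · exact B_ne_top π hker G hG
  · rintro A hA x hxA ⟨hx1, u, hux, hi⟩ a haA
    left
    have hus : ¬ Scal (u : Matrix (Fin 2) (Fin 2) F) := by
      intro h
      apply hx1
      apply Subtype.ext
      rw [← hux]
      exact (hker _).2 h
    obtain ⟨z, hzA, hz1, hzc⟩ := CfsgLib.NilCover.exists_central hA hxA hx1
    obtain ⟨zu, hzu⟩ := hsurj (z : P)
    have hzs : ¬ Scal (zu : Matrix (Fin 2) (Fin 2) F) := by
      intro h
      apply hz1
      apply Subtype.ext
      rw [← hzu]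
      exact (hker _).2 h
    have h1 := key u zu (by rw [hzu]; exact z.2) hi hus (by
      rw [hzu, hux]; exact congrArg Subtype.val (hzc _ hxA))
    obtain ⟨au, hau⟩ := hsurj (a : P)
    have hauG : π au ∈ G := by rw [hau]; exact a.2
    obtain ⟨j, hj⟩ := key zu au hauG h1 hzs (by
      rw [hzu, hau]; exact congrArg Subtype.val (hzc _ haA).symm)
    refine ⟨j, ?_⟩
    rw [Subgroup.mem_subgroupOf, ← hau, mem_map_Bhat π hker]
    exact hj
  · intro i
    refine ⟨?_, umU i, rfl, i, um_eig i⟩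
    intro h
    exact um_not_scal i ((hker _).1 (congrArg Subtype.val h))
  · refine ⟨?_, x0, rfl, none, hx0a⟩
    intro h
    exact hx0s ((hker _).1 (congrArg Subtype.val h))
  · intro A hA i j hi hj
    exact um_um π hsurj hker G hG A hA i j hi hj
  · intro A hA i hi hj
    exact um_x0 π hsurj hker G hG x0 hx0G hx0a hx0b hx0s A hA i hi hj

/-- diagonal matrices -/
def dg (a b : F) (h : a ≠ 0 ∧ b ≠ 0) : GL (Fin 2) F :=
  Matrix.GeneralLinearGroup.mkOfDetNeZero !![a, 0; 0, b] (by simp [Matrix.det_fin_two, h.1, h.2])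

omit [Finite F] in
theorem dg_coe (a b : F) (h : a ≠ 0 ∧ b ≠ 0) : (dg a b h : Matrix (Fin 2) (Fin 2) F) = !![a, 0; 0, b] := rfl

omit [Finite F] in
theorem dg_eig1 (a b : F) (h : a ≠ 0 ∧ b ≠ 0) : Eig (dg a b h : Matrix (Fin 2) (Fin 2) F) (pt none) :=
  ⟨b, by simp [dg_coe, pt], by simp [dg_coe, pt]⟩

omit [Finite F] in
theorem dg_eig2 (a b : F) (h : a ≠ 0 ∧ b ≠ 0) : Eig (dg a b h : Matrix (Fin 2) (Fin 2) F) (pt (some 0)) :=
  ⟨a, by simp [dg_coe, pt], by simp [dg_coe, pt]⟩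

include hsurj hker hG in
theorem two_dim (hF : 4 ≤ Nat.card F) :
    ¬ ∃ 𝓐 : Finset (Subgroup ↥G), ((∀ A ∈ 𝓐, A ≠ ⊤) ∧ (∀ g : ↥G, ∃ A ∈ 𝓐, g ∈ A)) ∧ (∀ 𝓑 : Finset (Subgroup ↥G), (∀ A ∈ 𝓑, A ≠ ⊤) ∧ (∀ g : ↥G, ∃ A ∈ 𝓑, g ∈ A) → 𝓐.card ≤ 𝓑.card) ∧ (∀ A ∈ 𝓐, Group.IsNilpotent ↥A) := by
  classical
  haveI : Fintype F := Fintype.ofFinite F
  obtain ⟨b, hb0, hb2⟩ := exists_not_sq_one hF
  have hdgG : ∀ (a : F) (ha : a ≠ 0), π (dg a a⁻¹ ⟨ha, inv_ne_zero ha⟩) ∈ G := by
    intro a ha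
    apply hG
    rw [dg_coe, Matrix.det_fin_two]
    simp [ha]
  have hbs : ¬ Scal (dg b b⁻¹ ⟨hb0, inv_ne_zero hb0⟩ : Matrix (Fin 2) (Fin 2) F) := by
    rw [scal_iff, dg_coe]
    rintro ⟨_, _, h⟩
    simp at h
    apply hb2
    rw [pow_two]
    nth_rewrite 2 [h]
    exact mul_inv_cancel₀ hb0
  by_cases h20 : (2 : F) = 0
  · exact caseI π hsurj hker G hG (fun _ _ _ => Or.inr h20) _ (hdgG b hb0) (dg_eig1 _ _ _) (dg_eig2 _ _ _) hbs
  have hodd : Odd (Fintype.card F) := by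
    have hch : ringChar F ≠ 2 := by
      intro h
      apply h20
      haveI : CharP F 2 := by rw [← h]; infer_instance
      exact CharTwo.two_eq_zero
    exact Nat.odd_iff.2 (FiniteField.odd_card_of_char_ne_two hch)
  have hF5 : 5 ≤ Nat.card F := by
    rw [Nat.card_eq_fintype_card] at hF ⊢
    rcases hodd with ⟨k, hk⟩
    omega
  by_cases h4 : ∃ a : F, a ≠ 0 ∧ a ^ 4 ≠ 1
  · obtain ⟨a, ha0, ha4⟩ := h4
    refine caseII π hsurj hker G hG h20 hF5 _ (hdgG a ha0) (dg_eig1 _ _ _) (dg_eig2 _ _ _) ?_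
    rw [scal_iff, Units.val_mul, dg_coe]
    rintro ⟨_, _, h⟩
    simp [Matrix.mul_apply, Fin.sum_univ_two] at h
    apply ha4
    have h1 : (a * a) * (a * a) = 1 := by
      nth_rewrite 2 [h]
      field_simp
    linear_combination h1
  · push Not at h4
    -- q = 5
    have hcard : Fintype.card F ≤ 5 := by
      have h5 : ∀ x ∈ (Finset.univ : Finset F), x ∈ insert (0 : F) (Polynomial.nthRoots 4 (1 : F)).toFinset := by
        intro x _
        by_cases hx : x = 0
        · simp [hx]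
        · rw [Finset.mem_insert, Multiset.mem_toFinset, Polynomial.mem_nthRoots (by norm_num)]
          exact Or.inr (h4 x hx)
      have h6 := Finset.card_le_card h5
      rw [Finset.card_univ] at h6
      have h7 := Finset.card_insert_le (0 : F) (Polynomial.nthRoots 4 (1 : F)).toFinset
      have h8 := Multiset.toFinset_card_le (Polynomial.nthRoots 4 (1 : F))
      have h9 := Polynomial.card_nthRoots 4 (1 : F)
      omega
    have hcard5 : Fintype.card F = 5 := by
      rw [Nat.card_eq_fintype_card] at hF5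
      omega
    have hneg : IsSquare (-1 : F) := by
      rw [FiniteField.isSquare_neg_one_iff, hcard5]
      norm_num
    obtain ⟨j, hj⟩ := hneg
    by_cases hdet : ∃ u : GL (Fin 2) F, π u ∈ G ∧ ¬ IsSquare (u : Matrix (Fin 2) (Fin 2) F).det
    · obtain ⟨u, huG, hu⟩ := hdet
      set ε := (u : Matrix (Fin 2) (Fin 2) F).det with hε
      have hε0 : ε ≠ 0 := det_ne u
      -- dg ε 1 ∈ G
      have h1 : π (dg ε 1 ⟨hε0, one_ne_zero⟩) ∈ G := by
        have h2 : π (u * (dg ε 1 ⟨hε0, one_ne_zero⟩)⁻¹) ∈ G := by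
          apply hG
          have h3 : ((u * (dg ε 1 ⟨hε0, one_ne_zero⟩)⁻¹ : GL (Fin 2) F) : Matrix (Fin 2) (Fin 2) F).det *
              (dg ε 1 ⟨hε0, one_ne_zero⟩ : Matrix (Fin 2) (Fin 2) F).det = ε := by
            rw [← Matrix.det_mul, ← Units.val_mul, inv_mul_cancel_right]
          have h4 : (dg ε 1 ⟨hε0, one_ne_zero⟩ : Matrix (Fin 2) (Fin 2) F).det = ε := by
            rw [dg_coe, Matrix.det_fin_two]; simp
          rw [h4] at h3
          exact mul_right_cancel₀ hε0 (by rw [h3, one_mul])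
        rw [map_mul, map_inv] at h2
        have h5 := mul_mem (inv_mem h2) huG
        simpa [_root_.mul_inv_rev] using h5
      refine caseII π hsurj hker G hG h20 hF5 _ h1 (dg_eig1 _ _ _) (dg_eig2 _ _ _) ?_
      rw [scal_iff, Units.val_mul, dg_coe]
      rintro ⟨_, _, h⟩
      simp [Matrix.mul_apply, Fin.sum_univ_two] at h
      apply hu
      have h6 : (ε - 1) * (ε + 1) = 0 := by linear_combination h
      rcases mul_eq_zero.1 h6 with h7 | h7
      · rw [sub_eq_zero.1 h7]; exact ⟨1, by ring⟩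
      · rw [eq_neg_of_add_eq_zero_left h7]; exact ⟨j, hj⟩
    · push Not at hdet
      refine caseI π hsurj hker G hG ?_ _ (hdgG b hb0) (dg_eig1 _ _ _) (dg_eig2 _ _ _) hbs
      intro u hu htr
      left
      obtain ⟨r, hr⟩ := hdet u hu
      apply eig_of_sq (s := j * r) htr
      rw [hr]
      linear_combination (-r * r) * hj

end final

end CfsgLib.PglCoverC
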