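import Cfsg.Agent.LibH7Pron

set_option autoImplicit false

/-! Pronormality of overgroups of a Sylow 2-subgroup: reductions (seat helper26). -/

namespace CfsgLib.Pm

open CfsgLib.FgSub CfsgLib.H7Pron Cfsg
open scoped Pointwise

variable {G : Type*} [Group G] [Finite G]

/-- conjugate Sylow subgroups inside a subgroup -/
theorem conj_in {p : ℕ} [Fact p.Prime] {K : Subgroup G} (S T : Sylow p G) (hS : (S : Subgroup G) ≤ K) (hT : (T : Subgroup G) ≤ K) :
    ∃ x ∈ K, cj x (S : Subgroup G) = T := by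
  obtain ⟨x, hx⟩ := MulAction.exists_smul_eq K (S.subtype hS) (T.subtype hT)
  refine ⟨x, x.2, ?_⟩
  ext y
  rw [mem_cj]
  have h1 : ∀ z : K, z ∈ (x • S.subtype hS : Sylow p K) ↔ x⁻¹ * z * x ∈ (S.subtype hS : Sylow p K) := by
    intro z
    rw [Sylow.smul_def]
    change z ∈ (MulAut.conj x • ((S.subtype hS : Sylow p K) : Subgroup K)) ↔ _
    rw [Subgroup.mem_pointwise_smul_iff_inv_smul_mem]
    simp [MulAut.smul_def]
    rfl
  constructor
  · intro hy
    have hyK : y ∈ K := by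
      have := K.mul_mem (K.mul_mem x.2 (hS hy)) (K.inv_mem x.2)
      have e : (x : G) * ((x : G)⁻¹ * y * x) * (x : G)⁻¹ = y := by group
      rwa [e] at this
    have h2 : (⟨y, hyK⟩ : K) ∈ (x • S.subtype hS : Sylow p K) := (h1 _).2 hy
    rw [hx] at h2
    exact h2
  · intro hy
    have h2 : (⟨y, hT hy⟩ : K) ∈ (T.subtype hT : Sylow p K) := hy
    rw [← hx] at h2
    exact (h1 _).1 h2

/-- reduction to elements normalizing a Sylow subgroup -/
theorem pron_aux {p : ℕ} [Fact p.Prime] {H : Subgroup G} (S : Sylow p G) (hS : (S : Subgroup G) ≤ H)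
    (hN : ∀ n, cj n (S : Subgroup G) = S → ∃ x ∈ H ⊔ cj n H, cj n H = cj x H) : IsPronormal H := by
  intro g
  rw [← cj_def]
  have hgS : ((g • S : Sylow p G) : Subgroup G) = cj g (S : Subgroup G) := by
    ext y
    rw [mem_cj]
    change y ∈ (MulAut.conj g • (S : Subgroup G)) ↔ _
    rw [Subgroup.mem_pointwise_smul_iff_inv_smul_mem]
    simp [MulAut.smul_def]
  obtain ⟨x, hx, hxe⟩ := conj_in (K := H ⊔ cj g H) (g • S) S (by rw [hgS]; exact (cj_mono hS).trans le_sup_right) (hS.trans le_sup_left)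
  rw [hgS, cj_cj] at hxe
  obtain ⟨y, hy, hye⟩ := hN (x * g) hxe
  have hK : cj x (H ⊔ cj g H) = H ⊔ cj g H := cj_eq_of_mem hx
  have hle : H ⊔ cj (x * g) H ≤ H ⊔ cj g H := by
    refine sup_le le_sup_left ?_
    rw [← cj_cj]
    calc cj x (cj g H) ≤ cj x (H ⊔ cj g H) := cj_mono le_sup_right
      _ = _ := hK
  refine ⟨x⁻¹ * y, Subgroup.mul_mem _ (Subgroup.inv_mem _ hx) (hle hy), ?_⟩
  rw [← cj_def, ← cj_cj x⁻¹ y, ← hye, cj_cj]
  simp

theorem pron_of_norm {p : ℕ} [Fact p.Prime] {H : Subgroup G} (S : Sylow p G) (hS : (S : Subgroup G) ≤ H)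
    (hN : ∀ n, cj n (S : Subgroup G) = S → cj n H = H) : IsPronormal H := by
  apply pron_aux S hS
  intro n hn
  refine ⟨1, Subgroup.one_mem _, ?_⟩
  rw [hN n hn, cj_eq_of_mem (Subgroup.one_mem H)]

/-- reduction to overgroups of a fixed Sylow subgroup in a central (normal) extension -/
theorem pron_quot {p : ℕ} [Fact p.Prime] (Z : Subgroup G) [Z.Normal] (S : Sylow p G)
    (key : ∀ H : Subgroup G, (S : Subgroup G) ≤ H → Z ≤ H → IsPronormal H)
    (H : Subgroup (G ⧸ Z)) (hH : ¬ p ∣ H.index) : IsPronormal H := by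
  have hsurj := QuotientGroup.mk'_surjective Z
  have e : (H.comap (QuotientGroup.mk' Z)).map (QuotientGroup.mk' Z) = H := Subgroup.map_comap_eq_self_of_surjective hsurj H
  rw [← e, pronormal_quotient (by
    intro z hz
    rw [Subgroup.mem_comap, QuotientGroup.mk'_apply, (QuotientGroup.eq_one_iff z).2 hz]
    exact H.one_mem)]
  have hi : ¬ p ∣ (H.comap (QuotientGroup.mk' Z)).index := by
    rwa [Subgroup.index_comap_of_surjective H hsurj]
  obtain ⟨P, hP⟩ := (exists_sylow_le_iff _).2 hi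
  obtain ⟨g, hg, hge⟩ := conj_in (K := ⊤) P S le_top le_top
  have h1 : IsPronormal (cj g (H.comap (QuotientGroup.mk' Z))) := by
    apply key
    · rw [← hge]; exact cj_mono hP
    · have hZ : Z ≤ H.comap (QuotientGroup.mk' Z) := by
        intro z hz
        rw [Subgroup.mem_comap, QuotientGroup.mk'_apply, (QuotientGroup.eq_one_iff z).2 hz]
        exact H.one_mem
      have := cj_mono (g := g) hZ
      rwa [cj_of_normal] at this
  have h2 := pronormal_cj g⁻¹ h1
  rwa [cj_cj, inv_mul_cancel, cj_eq_of_mem (Subgroup.one_mem _)] at h2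

/-- a `p`-element normalizing a Sylow `p`-subgroup lies in it -/
theorem mem_of_norm {p : ℕ} [Fact p.Prime] (S : Sylow p G) {g : G} (hg : cj g (S : Subgroup G) = S) {k : ℕ} (hk : g ^ p ^ k = 1) :
    g ∈ S := by
  have h1 : IsPGroup p (Subgroup.zpowers g) := by
    rintro ⟨x, hx⟩
    obtain ⟨n, rfl⟩ := Subgroup.mem_zpowers_iff.1 hx
    refine ⟨k, Subtype.ext ?_⟩
    show (g ^ n) ^ p ^ k = 1
    rw [← zpow_natCast, zpow_comm, zpow_natCast, hk, one_zpow]
  have h2 : Subgroup.zpowers g ≤ Subgroup.normalizer ((S : Subgroup G) : Set G) := by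
    rw [Subgroup.zpowers_le]
    exact mem_normalizer_iff_cj.2 hg
  have h3 : IsPGroup p ((S : Subgroup G) ⊔ Subgroup.zpowers g : Subgroup G) := by
    rw [sup_comm]
    exact IsPGroup.to_sup_of_normal_right' h1 S.isPGroup' h2
  have h4 := S.is_maximal' h3 le_sup_left
  have : g ∈ (S : Subgroup G) ⊔ Subgroup.zpowers g := (le_sup_right : Subgroup.zpowers g ≤ _) (Subgroup.mem_zpowers g)
  rw [h4] at this
  exact this

/-- an element normalizing a Sylow 2-subgroup `S ≤ H` with a 2-power power in `H` lies in `H` -/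
theorem mem_of_norm_pow {S : Sylow 2 G} {H : Subgroup G} (hS : (S : Subgroup G) ≤ H) {g : G} (hg : cj g (S : Subgroup G) = S) {k : ℕ}
    (hk : g ^ 2 ^ k ∈ H) : g ∈ H := by
  have ho : orderOf g ≠ 0 := (orderOf_pos g).ne'
  obtain ⟨a, b, hb, hab⟩ := Nat.exists_eq_two_pow_mul_odd ho
  have h1 : g ^ b ∈ S := by
    apply mem_of_norm S (k := a)
    · have hmem : g ∈ Subgroup.normalizer ((S : Subgroup G) : Set G) := mem_normalizer_iff_cj.2 hg
      exact mem_normalizer_iff_cj.1 (Subgroup.pow_mem _ hmem b)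
    · rw [← pow_mul, mul_comm, ← hab, pow_orderOf_eq_one]
  have h2 : Nat.Coprime b (2 ^ k) := (hb.coprime_two_right).pow_right k
  have h3 : (1 : ℤ) = b * Nat.gcdA b (2 ^ k) + (2 ^ k : ℕ) * Nat.gcdB b (2 ^ k) := by
    have := Nat.gcd_eq_gcd_ab b (2 ^ k)
    rw [h2] at this
    exact_mod_cast this
  have h4 : g = (g ^ b) ^ (Nat.gcdA b (2 ^ k)) * (g ^ 2 ^ k) ^ (Nat.gcdB b (2 ^ k)) := by
    conv_lhs => rw [← zpow_one g, h3, zpow_add, zpow_mul, zpow_mul, zpow_natCast, zpow_natCast]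
  rw [h4]
  exact H.mul_mem (H.zpow_mem (hS h1) _) (H.zpow_mem hk _)

end CfsgLib.Pm
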