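import Cfsg.Agent.LibPm1

set_option autoImplicit false

/-! Overgroups of the unitriangular group in `SL_d(F)` (seat helper26). -/

namespace CfsgLib.Pm

open Matrix CfsgLib.FgSub

variable {d : ℕ} {F : Type*} [Field F]

/-- transvections -/
def tr (x ψ : Fin d → F) (h : ψ ⬝ᵥ x = 0) : SpecialLinearGroup (Fin d) F :=
  ⟨1 + vecMulVec x ψ, by rw [vecMulVec_eq Unit, det_one_add_replicateCol_mul_replicateRow, h, add_zero]⟩

theorem tr_val (x ψ : Fin d → F) (h : ψ ⬝ᵥ x = 0) : ((tr x ψ h : SpecialLinearGroup (Fin d) F) : Matrix (Fin d) (Fin d) F) = 1 + vecMulVec x ψ := rfl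

theorem cm (g h : SpecialLinearGroup (Fin d) F) : ((g * h : SpecialLinearGroup (Fin d) F) : Matrix (Fin d) (Fin d) F) =
    (g : Matrix (Fin d) (Fin d) F) * (h : Matrix (Fin d) (Fin d) F) := rfl

theorem tr_mulVec (x ψ : Fin d → F) (h : ψ ⬝ᵥ x = 0) (v : Fin d → F) :
    ((tr x ψ h : SpecialLinearGroup (Fin d) F) : Matrix (Fin d) (Fin d) F) *ᵥ v = v + (ψ ⬝ᵥ v) • x := by
  rw [tr_val, add_mulVec, one_mulVec, vecMulVec_mulVec]
  simp

theorem tr_conj {g : SpecialLinearGroup (Fin d) F} {x y φ ψ : Fin d → F} {h : ψ ⬝ᵥ x = 0} {h' : φ ⬝ᵥ y = 0}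
    (hy : (g : Matrix (Fin d) (Fin d) F) *ᵥ x = y) (hφ : φ ᵥ* (g : Matrix (Fin d) (Fin d) F) = ψ) : g * tr x ψ h = tr y φ h' * g := by
  apply Subtype.ext
  change (g : Matrix (Fin d) (Fin d) F) * (1 + vecMulVec x ψ) = (1 + vecMulVec y φ) * (g : Matrix (Fin d) (Fin d) F)
  rw [mul_add, add_mul, mul_one, one_mul, mul_vecMulVec, vecMulVec_mul, hy, hφ]

/-- conjugates of transvections -/
theorem conj_tr (g : SpecialLinearGroup (Fin d) F) (x ψ : Fin d → F) (h : ψ ⬝ᵥ x = 0) :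
    ∃ h', g * tr x ψ h * g⁻¹ = tr ((g : Matrix (Fin d) (Fin d) F) *ᵥ x) (ψ ᵥ* ((g⁻¹ : SpecialLinearGroup (Fin d) F) : Matrix (Fin d) (Fin d) F)) h' := by
  have hinv : ((g⁻¹ : SpecialLinearGroup (Fin d) F) : Matrix (Fin d) (Fin d) F) * (g : Matrix (Fin d) (Fin d) F) = 1 := by
    rw [← cm, inv_mul_cancel]; rfl
  refine ⟨?_, ?_⟩
  · rw [← dotProduct_mulVec, mulVec_mulVec, hinv, one_mulVec, h]
  · rw [mul_inv_eq_iff_eq_mul]
    apply tr_conj rfl
    rw [vecMul_vecMul, hinv, vecMul_one]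

theorem mem_iff_conj {H : Subgroup (SpecialLinearGroup (Fin d) F)} {g : SpecialLinearGroup (Fin d) F} (hg : g ∈ H)
    {x y : SpecialLinearGroup (Fin d) F} (h : g * x = y * g) : x ∈ H ↔ y ∈ H := by
  have e : y = g * x * g⁻¹ := by rw [h, mul_inv_cancel_right]
  rw [e]
  constructor
  · intro hx
    exact H.mul_mem (H.mul_mem hg hx) (H.inv_mem hg)
  · intro hx
    have := H.mul_mem (H.mul_mem (H.inv_mem hg) hx) hg
    have e2 : g⁻¹ * (g * x * g⁻¹) * g = x := by group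
    rwa [e2] at this

/-- unitriangular monoid -/
def Um (d : ℕ) (F : Type*) [Field F] : Submonoid (SpecialLinearGroup (Fin d) F) where
  carrier := {g | ∀ i j, j ≤ i → (g : Matrix (Fin d) (Fin d) F) i j = (1 : Matrix (Fin d) (Fin d) F) i j}
  one_mem' := fun i j _ => rfl
  mul_mem' := by
    intro g h hg hh i j hij
    rw [cm, Matrix.mul_apply, Finset.sum_eq_single i]
    · rw [hg i i le_rfl, one_apply_eq, one_mul, hh i j hij]
    · intro k _ hk
      rcases lt_or_gt_of_ne hk with h1 | h1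
      · rw [hg i k h1.le, one_apply_ne (Ne.symm hk), zero_mul]
      · rw [hh k j (hij.trans h1.le), one_apply_ne (ne_of_gt (lt_of_le_of_lt hij h1)), mul_zero]
    · intro h; exact absurd (Finset.mem_univ i) h

/-- unitriangular group -/
def Ut (d : ℕ) (F : Type*) [Field F] [Finite F] : Subgroup (SpecialLinearGroup (Fin d) F) where
  __ := Um d F
  inv_mem' := by
    intro g hg
    have h1 : g⁻¹ = g ^ (orderOf g - 1) := by
      rw [eq_comm, eq_inv_iff_mul_eq_one, ← pow_succ, Nat.sub_add_cancel (orderOf_pos g), pow_orderOf_eq_one]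
    rw [h1]
    exact (Um d F).pow_mem hg _

variable [Finite F]

theorem mem_Ut {g : SpecialLinearGroup (Fin d) F} : g ∈ Ut d F ↔
    ∀ i j, j ≤ i → (g : Matrix (Fin d) (Fin d) F) i j = (1 : Matrix (Fin d) (Fin d) F) i j := Iff.rfl

theorem tr_mem_Ut {x ψ : Fin d → F} {h : ψ ⬝ᵥ x = 0} (h1 : ∀ i j, j ≤ i → x i * ψ j = 0) : tr x ψ h ∈ Ut d F := by
  rw [mem_Ut]
  intro i j hij
  rw [tr_val, Matrix.add_apply, vecMulVec_apply, h1 i j hij, add_zero]

/-- normal form of transvections modulo `U` -/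
theorem tr_normal {H : Subgroup (SpecialLinearGroup (Fin d) F)} (hU : Ut d F ≤ H) {x ψ : Fin d → F} (h : ψ ⬝ᵥ x = 0)
    {s t : Fin d} (hts : t < s) (hxs : x s ≠ 0) (hx : ∀ i, s < i → x i = 0) (hψt : ψ t ≠ 0) (hψ : ∀ j, j < t → ψ j = 0) :
    ∃ h', (tr x ψ h ∈ H ↔ tr (Pi.single s (x s)) (Pi.single t (ψ t)) h' ∈ H) := by
  have hst : s ≠ t := ne_of_gt hts
  -- first step
  set y : Fin d → F := fun i => if i < s then -(x i / x s) else 0 with hy
  have hys : y s = 0 := by simp [hy]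
  have hu1 : (Pi.single s (1 : F) : Fin d → F) ⬝ᵥ y = 0 := by rw [single_dotProduct, hys, mul_zero]
  have hu1m : tr y (Pi.single s 1) hu1 ∈ Ut d F := by
    apply tr_mem_Ut
    intro i j hij
    by_cases hjs : j = s
    · subst hjs
      have : y i = 0 := by simp only [hy]; rw [if_neg (not_lt.2 hij)]
      rw [this, zero_mul]
    · rw [Pi.single_eq_of_ne hjs, mul_zero]
  have hxy : x + (x s) • y = Pi.single s (x s) := by
    ext i
    simp only [Pi.add_apply, Pi.smul_apply, smul_eq_mul, hy]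
    rcases lt_trichotomy i s with h1 | h1 | h1
    · rw [if_pos h1, Pi.single_eq_of_ne (ne_of_lt h1)]
      field_simp
      ring
    · subst h1
      rw [if_neg (lt_irrefl _), Pi.single_eq_same]
      ring
    · rw [if_neg (not_lt.2 h1.le), Pi.single_eq_of_ne (ne_of_gt h1), hx i h1]
      ring
  have hy1 : ((tr y (Pi.single s 1) hu1 : SpecialLinearGroup (Fin d) F) : Matrix (Fin d) (Fin d) F) *ᵥ x = Pi.single s (x s) := by
    rw [tr_mulVec, single_dotProduct, one_mul, hxy]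
  set φ : Fin d → F := ψ - (ψ ⬝ᵥ y) • Pi.single s (1 : F) with hφ
  have hφy : φ ⬝ᵥ y = ψ ⬝ᵥ y := by
    rw [hφ, sub_dotProduct, smul_dotProduct, hu1, smul_zero, sub_zero]
  have hφ1 : φ ᵥ* ((tr y (Pi.single s 1) hu1 : SpecialLinearGroup (Fin d) F) : Matrix (Fin d) (Fin d) F) = ψ := by
    rw [tr_val, vecMul_add, vecMul_one, vecMul_vecMulVec, hφy, hφ]
    simp
  have hφ0 : φ ⬝ᵥ Pi.single s (x s) = 0 := by
    rw [← hy1, dotProduct_mulVec, hφ1, h]
  have hφs : φ s = 0 := by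
    rw [dotProduct_single] at hφ0
    exact (mul_eq_zero.1 hφ0).resolve_right hxs
  have hφt : φ t = ψ t := by
    rw [hφ, Pi.sub_apply, Pi.smul_apply, Pi.single_eq_of_ne (Ne.symm hst), smul_zero, sub_zero]
  have hφj : ∀ j, j < t → φ j = 0 := by
    intro j hj
    rw [hφ, Pi.sub_apply, Pi.smul_apply, Pi.single_eq_of_ne (ne_of_lt (hj.trans hts)), smul_zero, sub_zero, hψ j hj]
  -- second step
  set η : Fin d → F := fun j => if t < j then φ j / ψ t else 0 with hη
  have hηt : η t = 0 := by simp [hη]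
  have hηs : η s = 0 := by simp only [hη]; rw [if_pos hts, hφs, zero_div]
  have hu2 : η ⬝ᵥ (Pi.single t (1 : F) : Fin d → F) = 0 := by rw [dotProduct_single, hηt, zero_mul]
  have hu2m : tr (Pi.single t 1) η hu2 ∈ Ut d F := by
    apply tr_mem_Ut
    intro i j hij
    by_cases hit : i = t
    · subst hit
      have : η j = 0 := by simp only [hη]; rw [if_neg (not_lt.2 hij)]
      rw [this, mul_zero]
    · rw [Pi.single_eq_of_ne hit, zero_mul]
  have hx2 : ((tr (Pi.single t 1) η hu2 : SpecialLinearGroup (Fin d) F) : Matrix (Fin d) (Fin d) F) *ᵥ (Pi.single s (x s)) = Pi.single s (x s) := by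
    rw [tr_mulVec, dotProduct_single, hηs, zero_mul, zero_smul, add_zero]
  have hψ2 : (Pi.single t (ψ t) : Fin d → F) ᵥ* ((tr (Pi.single t 1) η hu2 : SpecialLinearGroup (Fin d) F) : Matrix (Fin d) (Fin d) F) = φ := by
    rw [tr_val, vecMul_add, vecMul_one, vecMul_vecMulVec, single_dotProduct, Pi.single_eq_same, mul_one]
    ext j
    simp only [Pi.add_apply, Pi.smul_apply, smul_eq_mul, hη]
    rcases lt_trichotomy j t with h1 | h1 | h1
    · rw [if_neg (not_lt.2 h1.le), Pi.single_eq_of_ne (ne_of_lt h1), hφj j h1]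
      ring
    · subst h1
      rw [if_neg (lt_irrefl _), Pi.single_eq_same, hφt]
      ring
    · rw [if_pos h1, Pi.single_eq_of_ne (ne_of_gt h1)]
      field_simp
      ring
  have h' : (Pi.single t (ψ t) : Fin d → F) ⬝ᵥ Pi.single s (x s) = 0 := by
    rw [dotProduct_single, Pi.single_eq_of_ne hst, zero_mul]
  refine ⟨h', ?_⟩
  rw [mem_iff_conj (hU hu1m) (tr_conj (h' := hφ0) hy1 hφ1), mem_iff_conj (hU hu2m) (tr_conj (h' := h') hx2 hψ2)]

end CfsgLib.Pm
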