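import Mathlib
import Cfsg.Agent.LibH22SpOrder
import Cfsg.Agent.LibH22Sp3

set_option autoImplicit false

open Module Matrix Cfsg.Agent.H22

namespace CfsgLib.Pol

variable {F : Type*} [Field F] {d : ℕ}

/-- polar pairs -/
abbrev PP (d : ℕ) (F : Type*) [Field F] : Type _ :=
  {P : Submodule F (Fin d ⊕ Fin d → F) × Submodule F (Fin d ⊕ Fin d → F) // IsCompl P.1 P.2 ∧ (∀ u ∈ P.1, ∀ v ∈ P.1, Cfsg.sympForm d F u v = 0) ∧ (∀ u ∈ P.2, ∀ v ∈ P.2, Cfsg.sympForm d F u v = 0)}

theorem zero_of {P : Submodule F (Fin d ⊕ Fin d → F) × Submodule F (Fin d ⊕ Fin d → F)} (hP : IsCompl P.1 P.2) {v : Fin d ⊕ Fin d → F}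
    (h1 : ∀ u ∈ P.1, spB d F u v = 0) (h2 : ∀ u ∈ P.2, spB d F u v = 0) : v = 0 := by
  apply spB_nondeg.2
  intro u
  have hu : u ∈ P.1 ⊔ P.2 := hP.sup_eq_top ▸ Submodule.mem_top
  obtain ⟨a, ha, b, hb, rfl⟩ := Submodule.mem_sup.mp hu
  rw [map_add, LinearMap.add_apply, h1 a ha, h2 b hb, add_zero]

theorem finrank_of {P : Submodule F (Fin d ⊕ Fin d → F) × Submodule F (Fin d ⊕ Fin d → F)} (hP : IsCompl P.1 P.2)
    (h1 : ∀ u ∈ P.1, ∀ v ∈ P.1, spB d F u v = 0) (h2 : ∀ u ∈ P.2, ∀ v ∈ P.2, spB d F u v = 0) : finrank F P.1 = d ∧ finrank F P.2 = d := by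
  have hs : finrank F P.1 + finrank F P.2 = 2 * d := by
    rw [Submodule.finrank_add_eq_of_isCompl hP, Module.finrank_pi, Fintype.card_sum, Fintype.card_fin]; omega
  -- P.1 injects into the dual of P.2
  have key : ∀ A B : Submodule F (Fin d ⊕ Fin d → F), IsCompl A B → (∀ u ∈ A, ∀ v ∈ A, spB d F u v = 0) → finrank F A ≤ finrank F B := by
    intro A B hAB hA
    let φ : A →ₗ[F] Dual F B := (LinearMap.domRestrict₁₂ (spB d F) B A).flip
    have hφ : ∀ (a : A) (b : B), φ a b = spB d F b a := fun a b => rfl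
    have hinj : Function.Injective φ := by
      rw [← LinearMap.ker_eq_bot, eq_bot_iff]
      intro a ha
      have h3 : (a : Fin d ⊕ Fin d → F) = 0 := by
        apply zero_of (P := (A, B)) hAB
        · intro u hu
          exact hA u hu a a.2
        · intro u hu
          have h4 := LinearMap.congr_fun (show φ a = 0 from ha) ⟨u, hu⟩
          exact h4
      exact Subtype.ext h3
    have h5 := LinearMap.finrank_le_finrank_of_injective hinj
    rwa [Subspace.dual_finrank_eq] at h5
  have h3 := key P.1 P.2 hP h1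
  have h4 := key P.2 P.1 hP.symm h2
  omega

theorem span_zero {k : ℕ} {e f : Fin k → (Fin d ⊕ Fin d → F)} (h : ∀ i j, spB d F (e i) (f j) = 0) {u v : Fin d ⊕ Fin d → F}
    (hu : u ∈ Submodule.span F (Set.range e)) (hv : v ∈ Submodule.span F (Set.range f)) : spB d F u v = 0 := by
  rw [Submodule.mem_span_range_iff_exists_fun] at hu hv
  obtain ⟨a, rfl⟩ := hu
  obtain ⟨b, rfl⟩ := hv
  simp only [map_sum, LinearMap.sum_apply, map_smul, LinearMap.smul_apply, h, smul_zero, Finset.sum_const_zero]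

theorem li_of_dual {k : ℕ} {e f : Fin k → (Fin d ⊕ Fin d → F)} (h : ∀ i j, spB d F (e i) (f j) = if i = j then 1 else 0) : LinearIndependent F e := by
  rw [Fintype.linearIndependent_iff]
  intro g hg i
  have h1 := congrArg (fun x => spB d F x (f i)) hg
  simp only [map_sum, LinearMap.sum_apply, map_smul, LinearMap.smul_apply, h, map_zero, LinearMap.zero_apply, smul_eq_mul, mul_ite, mul_one, mul_zero] at h1
  rw [Finset.sum_ite_eq' Finset.univ i g, if_pos (Finset.mem_univ i)] at h1
  exact h1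

theorem li_of_dual' {k : ℕ} {e f : Fin k → (Fin d ⊕ Fin d → F)} (h : ∀ i j, spB d F (e i) (f j) = if i = j then 1 else 0) : LinearIndependent F f := by
  rw [Fintype.linearIndependent_iff]
  intro g hg i
  have h1 := congrArg (fun x => spB d F (e i) x) hg
  simp only [map_sum, map_smul, h, map_zero, smul_eq_mul, mul_ite, mul_one, mul_zero] at h1
  rw [Finset.sum_ite_eq Finset.univ i g, if_pos (Finset.mem_univ i)] at h1
  exact h1

/-- the polar pair of a hyperbolic family -/
def toPP (s : {s : Fin d → (Fin d ⊕ Fin d → F) × (Fin d ⊕ Fin d → F) // HypFam (spB d F) d s}) : PP d F := by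
  refine ⟨(Submodule.span F (Set.range fun i => (s.1 i).1), Submodule.span F (Set.range fun i => (s.1 i).2)), ?_, ?_, ?_⟩
  · have h1 : LinearIndependent F (fun i => (s.1 i).1) := li_of_dual (f := fun i => (s.1 i).2) (fun i j => (s.2 i j).2.2)
    have h2 : LinearIndependent F (fun i => (s.1 i).2) := li_of_dual' (e := fun i => (s.1 i).1) (fun i j => (s.2 i j).2.2)
    have hdis : Disjoint (Submodule.span F (Set.range fun i => (s.1 i).1)) (Submodule.span F (Set.range fun i => (s.1 i).2)) := by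
      rw [Submodule.disjoint_def]
      intro x hx1 hx2
      have hz : ∀ j, spB d F x (s.1 j).2 = 0 := fun j => span_zero (fun i j => (s.2 i j).2.1) hx2 (Submodule.subset_span ⟨j, rfl⟩)
      rw [Submodule.mem_span_range_iff_exists_fun] at hx1
      obtain ⟨a, rfl⟩ := hx1
      apply Finset.sum_eq_zero
      intro j _
      have h3 := hz j
      simp only [map_sum, LinearMap.sum_apply, map_smul, LinearMap.smul_apply, (s.2 _ _).2.2, smul_eq_mul, mul_ite, mul_one, mul_zero] at h3
      rw [Finset.sum_ite_eq' Finset.univ j a, if_pos (Finset.mem_univ j)] at h3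
      rw [h3, zero_smul]
    refine ⟨hdis, ?_⟩
    rw [codisjoint_iff]
    apply Submodule.eq_top_of_finrank_eq
    have h3 := Submodule.finrank_sup_add_finrank_inf_eq (Submodule.span F (Set.range fun i => (s.1 i).1)) (Submodule.span F (Set.range fun i => (s.1 i).2))
    rw [hdis.eq_bot, finrank_bot, add_zero, finrank_span_eq_card h1, finrank_span_eq_card h2, Fintype.card_fin] at h3
    rw [h3, Module.finrank_pi, Fintype.card_sum, Fintype.card_fin]
  · intro u hu v hv
    rw [← spB_apply]
    exact span_zero (fun i j => (s.2 i j).1) hu hv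
  · intro u hu v hv
    rw [← spB_apply]
    exact span_zero (fun i j => (s.2 i j).2.1) hu hv

theorem card_fib [Fintype F] (hd : 1 ≤ d) (P : PP d F) : Nat.card {s : {s : Fin d → (Fin d ⊕ Fin d → F) × (Fin d ⊕ Fin d → F) // HypFam (spB d F) d s} // toPP s = P} =
    ∏ i : Fin d, (Fintype.card F ^ d - Fintype.card F ^ (i : ℕ)) := by
  classical
  have hB1 : ∀ u ∈ P.1.1, ∀ v ∈ P.1.1, spB d F u v = 0 := fun u hu v hv => by rw [spB_apply]; exact P.2.2.1 u hu v hv
  have hB2 : ∀ u ∈ P.1.2, ∀ v ∈ P.1.2, spB d F u v = 0 := fun u hu v hv => by rw [spB_apply]; exact P.2.2.2 u hu v hv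
  obtain ⟨hr1, hr2⟩ := finrank_of P.2.1 hB1 hB2
  have : Nonempty (Fin d) := ⟨⟨0, hd⟩⟩
  haveI : Finite P.1.1 := Module.finite_of_finite F
  have h0 := card_linearIndependent (K := F) (V := P.1.1) (k := d) (by rw [hr1])
  rw [hr1] at h0
  rw [← h0]
  have hmem : ∀ s : {s : {s : Fin d → (Fin d ⊕ Fin d → F) × (Fin d ⊕ Fin d → F) // HypFam (spB d F) d s} // toPP s = P}, ∀ i, (s.1.1 i).1 ∈ P.1.1 := by
    intro s i
    have h1 : Submodule.span F (Set.range fun i => (s.1.1 i).1) = P.1.1 := congrArg (fun Q : PP d F => Q.1.1) s.2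
    rw [← h1]
    exact Submodule.subset_span ⟨i, rfl⟩
  have hmem2 : ∀ s : {s : {s : Fin d → (Fin d ⊕ Fin d → F) × (Fin d ⊕ Fin d → F) // HypFam (spB d F) d s} // toPP s = P}, ∀ i, (s.1.1 i).2 ∈ P.1.2 := by
    intro s i
    have h1 : Submodule.span F (Set.range fun i => (s.1.1 i).2) = P.1.2 := congrArg (fun Q : PP d F => Q.1.2) s.2
    rw [← h1]
    exact Submodule.subset_span ⟨i, rfl⟩
  refine Nat.card_congr (Equiv.ofBijective (fun s => (⟨fun i => ⟨(s.1.1 i).1, hmem s i⟩, ?_⟩ : {e : Fin d → P.1.1 // LinearIndependent F e})) ⟨?_, ?_⟩)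
  · have h1 : LinearIndependent F (fun i => (s.1.1 i).1) := li_of_dual (f := fun i => (s.1.1 i).2) (fun i j => (s.1.2 i j).2.2)
    exact LinearIndependent.of_comp P.1.1.subtype h1
  · intro s s' hss
    have h1 : ∀ i, (s.1.1 i).1 = (s'.1.1 i).1 := fun i => congrArg Subtype.val (congrFun (congrArg Subtype.val hss) i)
    apply Subtype.ext
    apply Subtype.ext
    funext i
    apply Prod.ext (h1 i)
    rw [← sub_eq_zero]
    apply zero_of P.2.1
    · intro u hu
      have h2 : Submodule.span F (Set.range fun i => (s.1.1 i).1) = P.1.1 := congrArg (fun Q : PP d F => Q.1.1) s.2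
      rw [← h2, Submodule.mem_span_range_iff_exists_fun] at hu
      obtain ⟨a, rfl⟩ := hu
      rw [map_sum, LinearMap.sum_apply]
      apply Finset.sum_eq_zero
      intro j _
      rw [map_smul, LinearMap.smul_apply, map_sub, (s.1.2 j i).2.2, h1 j, (s'.1.2 j i).2.2, sub_self, smul_zero]
    · intro u hu
      exact hB2 u hu _ (Submodule.sub_mem _ (hmem2 s i) (hmem2 s' i))
  · rintro ⟨e, he⟩
    -- the dual basis
    let b : Basis (Fin d) F P.1.1 := basisOfLinearIndependentOfCardEqFinrank he (by rw [hr1, Fintype.card_fin])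
    have hb : ∀ i, b i = e i := fun i => by
      show basisOfLinearIndependentOfCardEqFinrank he _ i = _
      rw [coe_basisOfLinearIndependentOfCardEqFinrank]
    let π : (Fin d ⊕ Fin d → F) →ₗ[F] P.1.1 := P.1.1.projectionOnto P.1.2 P.2.1
    have hex : ∀ j, ∃ v, ∀ x, spB d F x v = b.coord j (π x) := by
      intro j
      let φ : Dual F (Fin d ⊕ Fin d → F) := (b.coord j).comp π
      obtain ⟨v, hv⟩ := (LinearMap.BilinForm.toDual (spB d F).flip (by
        exact LinearMap.BilinForm.nondegenerate_flip_iff.mpr spB_nondeg)).surjective φ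
      exact ⟨v, fun x => by
        have := LinearMap.congr_fun hv x
        rw [LinearMap.BilinForm.toDual_def] at this
        exact this⟩
    choose f hf using hex
    have hf2 : ∀ j, f j ∈ P.1.2 := by
      intro j
      have h2 : f j ∈ P.1.1 ⊔ P.1.2 := P.2.1.sup_eq_top ▸ Submodule.mem_top
      obtain ⟨u, hu, w, hw, huw⟩ := Submodule.mem_sup.mp h2
      have h3 : u = 0 := by
        apply zero_of P.2.1
        · intro x hx; exact hB1 x hx u hu
        · intro x hx
          have h4 : spB d F x (f j) = 0 := by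
            rw [hf]
            have : π x = 0 := Submodule.projectionOnto_apply_right P.2.1 ⟨x, hx⟩
            rw [this, map_zero]
          rw [← huw, map_add, hB2 x hx w hw, add_zero] at h4
          exact h4
      rw [← huw, h3, zero_add]
      exact hw
    have hef : ∀ i j, spB d F (e i) (f j) = if i = j then 1 else 0 := by
      intro i j
      rw [hf]
      have : π (e i) = e i := Submodule.projectionOnto_apply_left P.2.1 (e i)
      rw [this, ← hb, Basis.coord_apply, Basis.repr_self, Finsupp.single_apply]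
    have hs : HypFam (spB d F) d (fun i => ((e i : Fin d ⊕ Fin d → F), f i)) := fun i j => ⟨hB1 _ (e i).2 _ (e j).2, hB2 _ (hf2 i) _ (hf2 j), hef i j⟩
    have hP : toPP ⟨_, hs⟩ = P := by
      apply Subtype.ext
      apply Prod.ext
      · show Submodule.span F (Set.range fun i => (e i : Fin d ⊕ Fin d → F)) = P.1.1
        apply Submodule.eq_of_le_of_finrank_eq
        · rw [Submodule.span_le]
          rintro _ ⟨i, rfl⟩
          exact (e i).2
        · rw [finrank_span_eq_card (li_of_dual hef), Fintype.card_fin, hr1]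
      · show Submodule.span F (Set.range f) = P.1.2
        apply Submodule.eq_of_le_of_finrank_eq
        · rw [Submodule.span_le]
          rintro _ ⟨i, rfl⟩
          exact hf2 i
        · rw [finrank_span_eq_card (li_of_dual' hef), Fintype.card_fin, hr2]
    exact ⟨⟨⟨_, hs⟩, hP⟩, rfl⟩

theorem card_sigma_fib {α β : Type*} [Finite α] [Finite β] (f : α → β) (c : ℕ) (h : ∀ b, Nat.card {a // f a = b} = c) : Nat.card α = Nat.card β * c := by
  classical
  haveI := Fintype.ofFinite α
  haveI := Fintype.ofFinite β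
  rw [← Nat.card_congr (Equiv.sigmaFiberEquiv f), Nat.card_sigma, Finset.sum_congr rfl (fun b _ => h b), Finset.sum_const, smul_eq_mul, Finset.card_univ, Nat.card_eq_fintype_card]

/-- the number of polar pairs -/
theorem card_PP [Fintype F] (hd : 1 ≤ d) : Nat.card (PP d F) = Fintype.card F ^ (d * (d + 1) / 2) * ∏ i ∈ Finset.range d, (Fintype.card F ^ (i + 1) + 1) := by
  classical
  have hq : 1 < Fintype.card F := Fintype.one_lt_card
  have h1 : Nat.card (Matrix.symplecticGroup (Fin d) F) = Nat.card (PP d F) * ∏ i : Fin d, (Fintype.card F ^ d - Fintype.card F ^ (i : ℕ)) := by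
    rw [Nat.card_congr spEquivHyp]
    haveI : Finite (Submodule F (Fin d ⊕ Fin d → F)) := Finite.of_injective (fun P => (P : Set (Fin d ⊕ Fin d → F))) SetLike.coe_injective
    exact card_sigma_fib toPP _ (card_fib hd)
  rw [card_sp] at h1
  set q := Fintype.card F
  have h2 : ∏ i : Fin d, (q ^ d - q ^ (i : ℕ)) = q ^ (d * (d - 1) / 2) * ∏ i ∈ Finset.range d, (q ^ (i + 1) - 1) := by
    rw [Fin.prod_univ_eq_prod_range (fun i => q ^ d - q ^ i) d]
    have h3 : ∀ i ∈ Finset.range d, q ^ d - q ^ i = q ^ i * (q ^ (d - i) - 1) := by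
      intro i hi
      rw [Finset.mem_range] at hi
      rw [Nat.mul_sub, mul_one, ← pow_add]
      congr 2
      omega
    rw [Finset.prod_congr rfl h3, Finset.prod_mul_distrib, Finset.prod_pow_eq_pow_sum, Finset.sum_range_id, ← Finset.prod_range_reflect (fun i => q ^ (i + 1) - 1) d]
    congr 1
    apply Finset.prod_congr rfl
    intro i hi
    rw [Finset.mem_range] at hi
    congr 2
    omega
  have h3 : ∏ i ∈ Finset.range d, (q ^ (2 * (i + 1)) - 1) = (∏ i ∈ Finset.range d, (q ^ (i + 1) - 1)) * ∏ i ∈ Finset.range d, (q ^ (i + 1) + 1) := by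
    rw [← Finset.prod_mul_distrib]
    apply Finset.prod_congr rfl
    intro i _
    rw [mul_comm 2, pow_mul, mul_comm (q ^ (i + 1) - 1)]
    have := Nat.sq_sub_sq (q ^ (i + 1)) 1
    rwa [one_pow] at this
  rw [h2, h3] at h1
  have hpos : 0 < ∏ i ∈ Finset.range d, (q ^ (i + 1) - 1) := by
    apply Finset.prod_pos
    intro i _
    have : q ^ 1 ≤ q ^ (i + 1) := Nat.pow_le_pow_right (by omega) (by omega)
    rw [pow_one] at this
    omega
  have hqpos : 0 < q ^ (d * (d - 1) / 2) := Nat.pow_pos (by omega)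
  have hexp : d ^ 2 = d * (d - 1) / 2 + d * (d + 1) / 2 := by
    obtain ⟨e, rfl⟩ := Nat.exists_eq_add_of_le' hd
    have h4 : (e + 1) * (e + 1 - 1) / 2 + (e + 1) * (e + 1 + 1) / 2 = (e + 1) ^ 2 := by
      have e1 : (e + 1) * (e + 1 - 1) = e * (e + 1) := by rw [Nat.add_sub_cancel, mul_comm]
      obtain ⟨a, ha⟩ := Nat.even_mul_succ_self e
      obtain ⟨b, hb⟩ := Nat.even_mul_succ_self (e + 1)
      rw [e1]
      have h5 : (e + 1) * (e + 1 + 1) = e * (e + 1) + 2 * (e + 1) := by ring
      have h6 : (e + 1) ^ 2 = e * (e + 1) + (e + 1) := by ring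
      rw [h5, h6]
      omega
    exact h4.symm
  rw [hexp, pow_add] at h1
  have h7 : (q ^ (d * (d - 1) / 2) * ∏ i ∈ Finset.range d, (q ^ (i + 1) - 1)) * Nat.card (PP d F) =
      (q ^ (d * (d - 1) / 2) * ∏ i ∈ Finset.range d, (q ^ (i + 1) - 1)) * (q ^ (d * (d + 1) / 2) * ∏ i ∈ Finset.range d, (q ^ (i + 1) + 1)) := by
    rw [mul_comm _ (Nat.card (PP d F)), ← h1]
    ring
  exact Nat.eq_of_mul_eq_mul_left (Nat.mul_pos hqpos hpos) h7

end CfsgLib.Pol
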