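import Mathlib
import Cfsg.Agent.LibBenderMax

set_option autoImplicit false
set_option linter.all false

/-! Bender's theorem on primitive pairs (adapted from LibBenderMax). -/

namespace CfsgLib.PrimPair

open Subgroup Cfsg CfsgLib.Comp CfsgLib.Comp2 CfsgLib.Comp3 CfsgLib.PComp CfsgLib.PQ CfsgLib.PQ2
  CfsgLib.PQ3 CfsgLib.PQ4 CfsgLib.BenderMax
open scoped commutatorElement Pointwise

universe u

variable {G : Type u} [Group G] [Finite G]

/-- one half of the primitive pair condition -/
def PP (A B : Subgroup G) : Prop :=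
  ∀ Z : Subgroup G, Z ≠ ⊥ → Z ≤ A ⊓ B → A ≤ normalizer (Z : Set G) →
    B ⊓ normalizer (Z : Set G) ≤ A

theorem PP.norm {A B : Subgroup G} (h : PP A B) (Z : Subgroup A) [Z.Normal] (hZ : Z ≠ ⊥)
    (hZB : Z.map A.subtype ≤ B) : B ⊓ normalizer ((Z.map A.subtype : Subgroup G) : Set G) ≤ A := by
  apply h _ _ (le_inf (map_subtype_le _) hZB) (le_normalizer_map Z)
  intro h1
  rw [Subgroup.map_eq_bot_iff_of_injective _ (subtype_injective A)] at h1
  exact hZ h1

theorem PP.cent {A B : Subgroup G} (h : PP A B) (Z : Subgroup A) [Z.Normal] (hZ : Z ≠ ⊥)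
    (hZB : Z.map A.subtype ≤ B) : B ⊓ centralizer ((Z.map A.subtype : Subgroup G) : Set G) ≤ A :=
  (inf_le_inf_left _ (centralizer_le_normalizer' _)).trans (h.norm Z hZ hZB)

variable {A S : Subgroup G}

theorem main1 (hSA : S ≤ A)
    (hSF : S.subgroupOf A ≤ generalizedFittingSubgroup A) (hS : (S.subgroupOf A).IsSubnormal)
    (hSC : generalizedFittingSubgroup A ⊓ centralizer ((S.subgroupOf A : Subgroup A) : Set A) ≤
      S.subgroupOf A) {B : Subgroup G} (hSB : S ≤ B) {q : ℕ} (hq : q.Prime)
    (hqA : pCore q A = ⊥) : (pCore q B).map B.subtype ⊓ A = ⊥ := by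
  haveI := Fact.mk hq
  have hT : IsPGroup q ((pCore q B).map B.subtype) :=
    (CfsgLib.Cores.pCore_isPGroup (G := B) q).map _
  have h1 := eq_bot_of_normalizes hSF hS hSC hq hqA
    (R := ((pCore q B).map B.subtype).subgroupOf A)
    (hT.comap_of_injective _ (subtype_injective _)) (by
      intro s hs
      rw [mem_normalizer_iff]
      intro x
      rw [mem_subgroupOf, mem_subgroupOf]
      exact mem_normalizer_iff.1 (le_normalizer_map (pCore q B) (hSB (mem_subgroupOf.1 hs))) x)
  rwa [subgroupOf_eq_bot, disjoint_iff] at h1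

theorem main2 {B : Subgroup G} (hA : PP A B) (hSA : S ≤ A)
    (hSF : S.subgroupOf A ≤ generalizedFittingSubgroup A) (hS : (S.subgroupOf A).IsSubnormal)
    (hSC : generalizedFittingSubgroup A ⊓ centralizer ((S.subgroupOf A : Subgroup A) : Set A) ≤
      S.subgroupOf A) (hSB : S ≤ B) {p : ℕ} (hp : p.Prime)
    (hpA : pCore p A ≠ ⊥) :
    ⁅(pCore p B).map B.subtype, (uu p A).map A.subtype⁆ = ⊥ := by
  haveI := Fact.mk hp
  obtain ⟨T, hT⟩ : ∃ T, T = (pCore p B).map B.subtype := ⟨_, rfl⟩
  obtain ⟨S', hS'⟩ : ∃ S', S' = S.subgroupOf A := ⟨_, rfl⟩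
  have hTp : IsPGroup p T := hT ▸ (CfsgLib.Cores.pCore_isPGroup (G := B) p).map _
  have hBT : B ≤ normalizer (T : Set G) := hT ▸ le_normalizer_map (pCore p B)
  have hTB : T ≤ B := by rw [hT]; exact map_subtype_le _
  have hST : S ≤ normalizer (T : Set G) := hSB.trans hBT
  have hS'map : S'.map A.subtype = S := by rw [hS', map_subgroupOf_eq_of_le hSA]
  rw [← hT]
  rw [← hS'] at hSF hS hSC
  have hE := layer_le hS hSC
  have hRp : IsPGroup p (T.subgroupOf A) := hTp.comap_of_injective _ (subtype_injective _)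
  have hSR : S' ≤ normalizer ((T.subgroupOf A : Subgroup A) : Set A) := by
    intro s hs
    rw [hS'] at hs
    rw [mem_normalizer_iff]
    intro x
    rw [mem_subgroupOf, mem_subgroupOf]
    exact mem_normalizer_iff.1 (hST (mem_subgroupOf.1 hs)) x
  have hRE := layer_commute_of_normalizes hp hRp (hE.trans hSR)
  have hRr : ∀ r : ℕ, r.Prime → r ≠ p → ⁅pCore r A ⊓ S', T.subgroupOf A⁆ = ⊥ := fun r hr hrp =>
    core_commute_of_normalizes hp hr hrp hRp hSR
  obtain ⟨Q, hQ⟩ : ∃ Q, Q = ⨆ r : {r : ℕ // r.Prime ∧ r ≠ p}, (pCore (r : ℕ) A ⊓ S') := ⟨_, rfl⟩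
  obtain ⟨W, hW⟩ : ∃ W, W = layer A ⊔ Q := ⟨_, rfl⟩
  have hQS : Q ≤ S' := hQ ▸ iSup_le fun r => inf_le_right
  have hWS : W ≤ S' := hW ▸ sup_le hE hQS
  have hWSG : W.map A.subtype ≤ S := by rw [← hS'map]; exact map_mono hWS
  have hQcop : (Nat.card Q).Coprime p := by
    have h1 : Q ≤ pPrimeCore p A := by
      rw [hQ]
      exact iSup_le fun r => inf_le_left.trans (pCore_le_pPrimeCore hp r.2.1 r.2.2)
    exact Nat.Coprime.coprime_dvd_left (card_dvd_of_le h1) (CfsgLib.Cores.pPrimeCore_coprime p)
  have hstab : StabTriv p (W.map A.subtype) := by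
    apply stab_ext (O := Q.map A.subtype) (map_mono (hW ▸ le_sup_right))
    · apply stab_of_coprime
      rwa [card_map_of_injective (subtype_injective _)]
    · rw [← map_commutator, ← Subgroup.map_sup]
      apply map_mono
      conv_lhs => rw [hW]
      apply sup_le _ le_sup_right
      refine le_trans ?_ le_sup_left
      rw [← commutator_layer (G := A)]
      exact commutator_mono (hW ▸ le_sup_left) (hW ▸ le_sup_left)
  have hRW : ⁅T.subgroupOf A, W⁆ = ⊥ := by
    rw [commutator_comm, commutator_eq_bot_iff_le_centralizer, hW]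
    apply sup_le (commutator_eq_bot_iff_le_centralizer.1 hRE)
    rw [hQ]
    exact iSup_le fun r => commutator_eq_bot_iff_le_centralizer.1 (hRr r r.2.1 r.2.2)
  have hTW : ⁅T, W.map A.subtype⁆ = ⊥ := by
    apply pxq (P := (pCore p A ⊓ S').map A.subtype) hTp
      (((CfsgLib.Cores.pCore_isPGroup (G := A) p).to_le inf_le_left).map _) _
      (hWSG.trans hST) _ hstab
    · -- C_T(P) ≤ A
      have h1 : B ⊓ centralizer (((pCore p A ⊓ S').map A.subtype : Subgroup G) : Set G) ≤ A := by
        refine le_trans (inf_le_inf_left _ (centralizer_le (map_mono (center_core_le hSF hS hSC hp)))) ?_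
        apply PP.cent hA _ (center_ne_bot_of_pgroup
          (CfsgLib.Cores.pCore_isPGroup (G := A) p) hpA)
        refine (map_mono (center_core_le hSF hS hSC hp)).trans ?_
        refine (map_mono inf_le_right).trans ?_
        rw [hS'map]; exact hSB
      have h2 : T ⊓ centralizer (((pCore p A ⊓ S').map A.subtype : Subgroup G) : Set G) ≤
          (T.subgroupOf A).map A.subtype := by
        rw [subgroupOf_map_subtype]
        exact le_inf inf_le_left ((inf_le_inf_right _ hTB).trans h1)
      rw [eq_bot_iff]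
      refine (commutator_mono h2 le_rfl).trans ?_
      rw [← map_commutator, hRW, Subgroup.map_bot]
    · refine le_trans ?_ hST
      rw [← hS'map]
      exact map_mono inf_le_right
    · rw [← map_commutator]
      have : ⁅pCore p A ⊓ S', W⁆ = ⊥ := by
        rw [commutator_comm, commutator_eq_bot_iff_le_centralizer, hW]
        apply sup_le
        · rw [← commutator_eq_bot_iff_le_centralizer, eq_bot_iff, ← layer_commute_pCore (H := A) hp]
          exact commutator_mono le_rfl inf_le_left
        · rw [hQ]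
          apply iSup_le
          intro r
          rw [← commutator_eq_bot_iff_le_centralizer, eq_bot_iff,
            ← pCore_commute (H := A) r.2.1 hp r.2.2]
          exact commutator_mono inf_le_left inf_le_left
      rw [this, Subgroup.map_bot]
  -- now T centralizes O_r(A) for r ≠ p
  rw [commutator_comm, commutator_eq_bot_iff_le_centralizer, uu, Subgroup.map_sup,
    Subgroup.map_iSup]
  apply sup_le
  · rw [← commutator_eq_bot_iff_le_centralizer, eq_bot_iff, ← hTW,
      commutator_comm T]
    exact commutator_mono (map_mono (hW ▸ le_sup_left)) le_rfl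
  · apply iSup_le
    rintro ⟨r, hr, hrp⟩
    haveI := Fact.mk hr
    by_cases hrA : pCore r A = ⊥
    · change (pCore r A).map A.subtype ≤ _
      rw [hrA, Subgroup.map_bot]; exact bot_le
    -- T ≤ A
    have hQr : pCore r A ⊓ S' ≤ W := by
      refine le_trans ?_ (hW ▸ le_sup_right)
      rw [hQ]
      exact le_iSup (fun r : {r : ℕ // r.Prime ∧ r ≠ p} => (pCore (r : ℕ) A ⊓ S')) ⟨r, hr, hrp⟩
    have hTA : T ≤ A := by
      have h1 : T ≤ centralizer ((W.map A.subtype : Subgroup G) : Set G) :=
        commutator_eq_bot_iff_le_centralizer.1 hTW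
      refine (le_inf hTB (h1.trans (centralizer_le (map_mono
        ((center_core_le hSF hS hSC hr).trans hQr))))).trans ?_
      apply PP.cent hA _ (center_ne_bot_of_pgroup
          (CfsgLib.Cores.pCore_isPGroup (G := A) r) hrA)
      refine (map_mono (center_core_le hSF hS hSC hr)).trans ?_
      refine (map_mono inf_le_right).trans ?_
      rw [hS'map]; exact hSB
    have h2 := commute_core_of hSF hS hSC hr (stab_of_other hp hr hrp hRp) (hRr r hr hrp)
    have h3 := congrArg (Subgroup.map A.subtype) h2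
    rw [map_commutator, map_subgroupOf_eq_of_le hTA, Subgroup.map_bot] at h3
    exact commutator_eq_bot_iff_le_centralizer.1 h3

/-! ### two maximal subgroups -/

variable {M N : Subgroup G}

theorem mm_hyp (M : Subgroup G) :
    ((generalizedFittingSubgroup M).map M.subtype).subgroupOf M = generalizedFittingSubgroup M :=
  comap_map_eq_self_of_injective (subtype_injective _) _

theorem mm1 (h1 : (generalizedFittingSubgroup M).map M.subtype ≤ N)
    (h2 : (generalizedFittingSubgroup N).map N.subtype ≤ M) {q : ℕ} (hq : q.Prime)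
    (hqM : pCore q M = ⊥) : pCore q N = ⊥ := by
  haveI := Fact.mk hq
  have h := main1 (A := M) (S := (generalizedFittingSubgroup M).map M.subtype) (map_subtype_le _)
    (by rw [mm_hyp]) (by rw [mm_hyp]; exact gfitting_subnormal) (by rw [mm_hyp]; exact inf_le_left)
    h1 hq hqM
  have h3 : (pCore q N).map N.subtype ≤ M := by
    refine le_trans (map_mono ?_) h2
    exact (CfsgLib.Cores.pCore_le_fittingSubgroup q).trans fitting_le_gfitting
  rwa [inf_eq_left.2 h3, Subgroup.map_eq_bot_iff_of_injective _ (subtype_injective _)] at h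

theorem mm2 (hM : PP M N) (h1 : (generalizedFittingSubgroup M).map M.subtype ≤ N)
    {p : ℕ} (hp : p.Prime) (hpM : pCore p M ≠ ⊥) :
    ⁅(pCore p N).map N.subtype, (uu p M).map M.subtype⁆ = ⊥ :=
  main2 (A := M) (S := (generalizedFittingSubgroup M).map M.subtype) hM (map_subtype_le _)
    (by rw [mm_hyp]) (by rw [mm_hyp]; exact gfitting_subnormal) (by rw [mm_hyp]; exact inf_le_left)
    h1 hp hpM

theorem layer_map_le (hM : PP M N) (h1 : (generalizedFittingSubgroup M).map M.subtype ≤ N)
    (h2 : (generalizedFittingSubgroup N).map N.subtype ≤ M) :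
    (layer M).map M.subtype ≤ (layer N).map N.subtype := by
  obtain ⟨D, hD⟩ : ∃ D, D = M ⊓ N := ⟨_, rfl⟩
  have hDM : D ≤ M := hD ▸ inf_le_left
  have hDN : D ≤ N := hD ▸ inf_le_right
  have hEND : (layer N).map N.subtype ≤ D := by
    rw [hD]
    exact le_inf ((map_mono layer_le_gfitting).trans h2) (map_subtype_le _)
  haveI hEn : (((layer N).map N.subtype).subgroupOf D).Normal := by
    rw [normal_subgroupOf_iff_le_normalizer hEND]
    exact hDN.trans (le_normalizer_map _)
  conv_lhs => rw [layer]
  rw [sSup_eq_iSup', Subgroup.map_iSup]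
  apply iSup_le
  rintro ⟨K, hK⟩
  change K.map M.subtype ≤ _
  have hKD : K.map M.subtype ≤ D := by
    rw [hD]
    refine le_inf (map_subtype_le _) ?_
    exact (map_mono ((component_le_layer hK).trans layer_le_gfitting)).trans h1
  have hKc : IsComponent ((K.map M.subtype).subgroupOf D) := by
    constructor
    · have e : (K.map M.subtype).subgroupOf D = K.comap (inclusion hDM) := by
        ext x
        rw [mem_subgroupOf, mem_comap]
        constructor
        · rintro ⟨y, hy, hxy⟩
          have : inclusion hDM x = y := Subtype.ext (by rw [← subtype_apply y, hxy]; rfl)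
          rw [this]; exact hy
        · intro h
          exact ⟨_, h, rfl⟩
      rw [e]
      exact hK.1.comap _
    · exact quasisimple_equiv ((K.equivMapOfInjective _ (subtype_injective M)).trans
        (subgroupOfEquivOfLe hKD).symm) hK.2
  rcases component_le_or_commute hKc hEn.isSubnormal with h | h
  · have h3 := map_mono (f := D.subtype) h
    rwa [map_subgroupOf_eq_of_le hKD, map_subgroupOf_eq_of_le hEND] at h3
  · exfalso
    have h3 := congrArg (Subgroup.map D.subtype) h
    rw [map_commutator, map_subgroupOf_eq_of_le hKD, map_subgroupOf_eq_of_le hEND,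
      Subgroup.map_bot] at h3
    -- K centralizes F(N) too
    have h4 : ∀ p : ℕ, p.Prime → ⁅(pCore p N).map N.subtype, K.map M.subtype⁆ = ⊥ := by
      intro p hp
      by_cases hpM : pCore p M = ⊥
      · rw [mm1 h1 h2 hp hpM, Subgroup.map_bot]; exact commutator_bot_left _
      · rw [eq_bot_iff, ← mm2 hM h1 hp hpM]
        exact commutator_mono le_rfl (map_mono ((component_le_layer hK).trans le_sup_left))
    have h5 : K.map M.subtype ≤ N := hKD.trans hDN
    have h6 : (K.map M.subtype).subgroupOf N ≤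
        centralizer ((generalizedFittingSubgroup N : Subgroup N) : Set N) := by
      rw [← commutator_eq_bot_iff_le_centralizer, commutator_comm,
        commutator_eq_bot_iff_le_centralizer, generalizedFittingSubgroup,
        CfsgLib.Cores.fittingSubgroup_eq_iSup_pCore]
      apply sup_le
      · rw [← commutator_eq_bot_iff_le_centralizer, commutator_comm]
        apply commutator_eq_bot_of_subgroupOf' h5 h3
      · apply iSup_le
        intro r
        rw [← commutator_eq_bot_iff_le_centralizer, commutator_comm]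
        apply commutator_eq_bot_of_subgroupOf' h5
        rw [commutator_comm]; exact h4 r r.2
    have h7 := h6.trans centralizer_gfitting_le_fitting
    have h8 : Group.IsNilpotent ((K.map M.subtype).subgroupOf N) := by
      haveI := CfsgLib.Cores.fittingSubgroup_isNilpotent (G := N)
      let f : (K.map M.subtype).subgroupOf N →* fittingSubgroup N := inclusion h7
      exact Group.nilpotent_of_mulEquiv (MonoidHom.ofInjective (inclusion_injective h7)).symm
    have h9 : IsQuasisimple ((K.map M.subtype).subgroupOf N) :=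
      quasisimple_equiv ((K.equivMapOfInjective _ (subtype_injective M)).trans
        (subgroupOfEquivOfLe h5).symm) hK.2
    apply quasisimple_not_solvable h9
    infer_instance

theorem key (hN : PP N M)
    (h2 : (generalizedFittingSubgroup N).map N.subtype ≤ M) (hEM : layer M = ⊥) {p : ℕ}
    (hp : p.Prime) (hpN : pCore p N ≠ ⊥) {r : ℕ} (hr : r.Prime) (hrp : r ≠ p)
    (hrN : pCore r N ≠ ⊥) {x : G} (hxM : x ∈ M) (hxp : ∃ k, x ^ p ^ k = 1)
    (hxc : x ∈ centralizer (((up p M).map M.subtype : Subgroup G) : Set G)) :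
    x ∈ N ∧ x ∈ centralizer (((up p N).map N.subtype : Subgroup G) : Set G) := by
  haveI := Fact.mk hp
  have main : x ∈ centralizer (((up p N).map N.subtype : Subgroup G) : Set G) := by
    rw [mem_centralizer_iff]
    intro y hy
    have hyM : y ∈ M := h2 (map_mono (up_le_gfitting N p) hy)
    -- y commutes with O_p(M)
    have hyp : ∀ z ∈ pCore p M, (z : G) * y = y * z := by
      intro z hz
      have h3 := mm2 (M := N) (N := M) hN h2 hp hpN
      exact commute_of_commutator_eq_bot h3 ⟨z, hz, rfl⟩ (map_mono le_sup_right hy)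
    obtain ⟨x', hx'⟩ : ∃ x' : M, (x' : G) = x := ⟨⟨x, hxM⟩, rfl⟩
    obtain ⟨y', hy'⟩ : ∃ y' : M, (y' : G) = y := ⟨⟨y, hyM⟩, rfl⟩
    have hx1 : x' ∈ centralizer ((up p M : Subgroup M) : Set M) := by
      rw [mem_centralizer_iff]
      intro z hz
      apply Subtype.ext
      rw [Subgroup.coe_mul, Subgroup.coe_mul, hx']
      exact mem_centralizer_iff.1 hxc z ⟨z, hz, rfl⟩
    have hy1 : y' ∈ centralizer ((pCore p M : Subgroup M) : Set M) := by
      rw [mem_centralizer_iff]
      intro z hz
      apply Subtype.ext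
      rw [Subgroup.coe_mul, Subgroup.coe_mul, hy']
      exact hyp z hz
    have hle : generalizedFittingSubgroup M ≤ up p M ⊔ pCore p M := by
      have h3 := gfitting_le_uu_sup (H := M) hp
      have h4 : uu p M = up p M := by unfold uu up; rw [hEM, bot_sup_eq]
      rwa [h4] at h3
    have hc1 : x' * y' * x'⁻¹ * y'⁻¹ ∈ centralizer ((up p M : Subgroup M) : Set M) := by
      have e : x' * y' * x'⁻¹ * y'⁻¹ = x' * (y' * x'⁻¹ * y'⁻¹) := by group
      rw [e]
      exact mul_mem hx1 ((inferInstance : (centralizer ((up p M : Subgroup M) : Set M)).Normal).conj_mem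
        _ (inv_mem hx1) _)
    have hc2 : x' * y' * x'⁻¹ * y'⁻¹ ∈ centralizer ((pCore p M : Subgroup M) : Set M) :=
      mul_mem ((inferInstance : (centralizer ((pCore p M : Subgroup M) : Set M)).Normal).conj_mem
        _ hy1 _) (inv_mem hy1)
    have hc3 : x' * y' * x'⁻¹ * y'⁻¹ ∈
        centralizer ((generalizedFittingSubgroup M : Subgroup M) : Set M) := by
      have h5 : up p M ⊔ pCore p M ≤ centralizer ({x' * y' * x'⁻¹ * y'⁻¹} : Set M) := by
        apply sup_le
        · intro z hz
          rw [mem_centralizer_one]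
          exact (mem_centralizer_iff.1 hc1 z hz).symm
        · intro z hz
          rw [mem_centralizer_one]
          exact (mem_centralizer_iff.1 hc2 z hz).symm
      rw [mem_centralizer_iff]
      intro z hz
      exact (mem_centralizer_one.1 (h5 (hle hz))).symm
    have hc4 := hle (fitting_le_gfitting (centralizer_gfitting_le_fitting hc3))
    obtain ⟨c2, hc2', c1, hc1', hcc⟩ := mem_sup_of_normal_left.1 hc4
    have e1 : c1 * c2 = c2 * c1 := commute_of_commutator_eq_bot (pCore_commute_up M hp) hc1' hc2'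
    have e2 : x' * c2 = c2 * x' := (mem_centralizer_iff.1 hx1 c2 hc2').symm
    have e3 : c1 * y' = y' * c1 := mem_centralizer_iff.1 hy1 c1 hc1'
    have e4 : x' * y' * x'⁻¹ = c1 * (c2 * y') := by
      calc x' * y' * x'⁻¹ = (x' * y' * x'⁻¹ * y'⁻¹) * y' := by group
        _ = (c2 * c1) * y' := by rw [hcc]
        _ = c1 * (c2 * y') := by rw [← e1]; group
    -- the p'-group V
    obtain ⟨V, hV⟩ : ∃ V : Subgroup M, V =
      ((up p N).map N.subtype).subgroupOf M ⊔ up p M := ⟨_, rfl⟩
    have hVcop : (Nat.card V).Coprime p := by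
      rw [hV]
      apply Nat.Coprime.coprime_dvd_left (CfsgLib.Cores.card_sup_dvd_of_normal _ _)
      apply Nat.Coprime.mul_left
      · have h6 : (up p N).map N.subtype ≤ M := (map_mono (up_le_gfitting N p)).trans h2
        rw [Nat.card_congr (subgroupOfEquivOfLe h6).toEquiv,
          card_map_of_injective (subtype_injective N)]
        exact Nat.Coprime.coprime_dvd_left (card_dvd_of_le (up_le_pPrimeCore N hp))
          (CfsgLib.Cores.pPrimeCore_coprime p)
      · exact Nat.Coprime.coprime_dvd_left (card_dvd_of_le (up_le_pPrimeCore M hp))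
          (CfsgLib.Cores.pPrimeCore_coprime p)
    have hyV : y' ∈ V := by
      rw [hV]
      apply mem_sup_left
      rw [mem_subgroupOf, hy']
      exact hy
    have hc2V : c2 ∈ V := hV ▸ mem_sup_right hc2'
    have hpow : ∀ v ∈ V, v ^ Nat.card V = 1 := by
      intro v hv
      have : (⟨v, hv⟩ : V) ^ Nat.card V = 1 := pow_card_eq_one'
      exact congrArg Subtype.val this
    have hc1one : c1 = 1 := by
      have h7 : (x' * y' * x'⁻¹) ^ Nat.card V = 1 := by
        rw [conj_pow, hpow y' hyV, mul_one, mul_inv_cancel]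
      have h8 : Commute c1 (c2 * y') := by
        have a1 : Commute c1 c2 := e1
        have a2 : Commute c1 y' := e3
        exact a1.mul_right a2
      rw [e4, h8.mul_pow, hpow _ (mul_mem hc2V hyV), mul_one] at h7
      obtain ⟨k, hk⟩ := (CfsgLib.Cores.pCore_isPGroup (G := M) p) ⟨c1, hc1'⟩
      have hk' : c1 ^ p ^ k = 1 := congrArg Subtype.val hk
      rw [← orderOf_eq_one_iff]
      exact Nat.eq_one_of_dvd_coprimes (Nat.Coprime.pow_right k hVcop)
        (orderOf_dvd_of_pow_eq_one h7) (orderOf_dvd_of_pow_eq_one hk')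
    have hc2one : c2 = 1 := by
      rw [hc1one, one_mul] at e4
      obtain ⟨k, hk⟩ := hxp
      have hk' : x' ^ p ^ k = 1 := Subtype.ext (by rw [coe_pow, hx', hk]; rfl)
      have h9 := pow_conj_eq e2 e4 (p ^ k)
      rw [hk', one_mul, inv_one, mul_one] at h9
      have h10 : c2 ^ p ^ k = 1 := right_eq_mul.1 h9
      rw [← orderOf_eq_one_iff]
      exact Nat.eq_one_of_dvd_coprimes (Nat.Coprime.pow_right k hVcop)
        (orderOf_dvd_of_pow_eq_one (hpow c2 hc2V)) (orderOf_dvd_of_pow_eq_one h10)
    rw [hc1one, hc2one, one_mul, one_mul] at e4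
    have h11 : x' * y' = y' * x' := mul_inv_eq_iff_eq_mul.1 e4
    have h12 := congrArg Subtype.val h11
    rw [Subgroup.coe_mul, Subgroup.coe_mul, hx', hy'] at h12
    exact h12.symm
  refine ⟨?_, main⟩
  haveI := Fact.mk hr
  apply hN.cent (pCore r N) hrN
    ((map_mono ((CfsgLib.Cores.pCore_le_fittingSubgroup r).trans fitting_le_gfitting)).trans h2)
  refine ⟨hxM, ?_⟩
  apply centralizer_le _ main
  apply map_mono
  exact le_iSup (fun r : {r : ℕ // r.Prime ∧ r ≠ p} => pCore (r : ℕ) N) ⟨r, hr, hrp⟩

theorem le_norm_closure {M : Subgroup G} {S : Set G}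
    (h : ∀ m ∈ M, ∀ x ∈ S, m * x * m⁻¹ ∈ S) :
    M ≤ normalizer ((Subgroup.closure S : Subgroup G) : Set G) := by
  have h1 : ∀ m ∈ M, Subgroup.closure S ≤ (Subgroup.closure S).comap (MulAut.conj m).toMonoidHom := by
    intro m hm
    rw [closure_le]
    intro x hx
    exact Subgroup.subset_closure (h m hm x hx)
  intro m hm
  rw [mem_normalizer_iff]
  intro x
  constructor
  · intro hx; exact h1 m hm hx
  · intro hx
    have := h1 m⁻¹ (inv_mem hm) hx
    rw [mem_comap] at this
    simpa [mul_assoc] using this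

theorem no_two_primes (hM : PP M N) (hN : PP N M) (hMN : M ≠ N)
    (h1 : (generalizedFittingSubgroup M).map M.subtype ≤ N)
    (h2 : (generalizedFittingSubgroup N).map N.subtype ≤ M) (hEM : layer M = ⊥)
    (hEN : layer N = ⊥) {p : ℕ}
    (hp : p.Prime) (hpM : pCore p M ≠ ⊥) (hpN : pCore p N ≠ ⊥) {r : ℕ} (hr : r.Prime) (hrp : r ≠ p)
    (hrM : pCore r M ≠ ⊥) (hrN : pCore r N ≠ ⊥) : False := by
  haveI := Fact.mk hp
  obtain ⟨SM, hSM⟩ : ∃ SM : Set G, SM = {x | x ∈ M ∧ (∃ k, x ^ p ^ k = 1) ∧
    x ∈ centralizer (((up p M).map M.subtype : Subgroup G) : Set G)} := ⟨_, rfl⟩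
  obtain ⟨SN, hSN⟩ : ∃ SN : Set G, SN = {x | x ∈ N ∧ (∃ k, x ^ p ^ k = 1) ∧
    x ∈ centralizer (((up p N).map N.subtype : Subgroup G) : Set G)} := ⟨_, rfl⟩
  have heq : SM = SN := by
    rw [hSM, hSN]
    ext x
    constructor
    · rintro ⟨a, b, c⟩
      obtain ⟨d, e⟩ := key hN h2 hEM hp hpN hr hrp hrN a b c
      exact ⟨d, b, e⟩
    · rintro ⟨a, b, c⟩
      obtain ⟨d, e⟩ := key hM h1 hEN hp hpM hr hrp hrM a b c
      exact ⟨d, b, e⟩
  have hconj : ∀ (A : Subgroup G), ∀ m ∈ A, ∀ x ∈ {x : G | x ∈ A ∧ (∃ k, x ^ p ^ k = 1) ∧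
      x ∈ centralizer (((up p A).map A.subtype : Subgroup G) : Set G)},
      m * x * m⁻¹ ∈ {x : G | x ∈ A ∧ (∃ k, x ^ p ^ k = 1) ∧
      x ∈ centralizer (((up p A).map A.subtype : Subgroup G) : Set G)} := by
    rintro A m hm x ⟨a, ⟨k, hk⟩, c⟩
    refine ⟨mul_mem (mul_mem hm a) (inv_mem hm), ⟨k, ?_⟩, ?_⟩
    · rw [conj_pow, hk, mul_one, mul_inv_cancel]
    · have h3 := normalizer_le_normalizer_centralizer _ (le_normalizer_map (up p A) hm)
      exact (mem_normalizer_iff.1 h3 x).1 c
  obtain ⟨W, hW⟩ : ∃ W, W = Subgroup.closure SM := ⟨_, rfl⟩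
  have hMW : M ≤ normalizer (W : Set G) := by
    rw [hW]
    apply le_norm_closure
    rw [hSM]
    exact hconj M
  have hNW : N ≤ normalizer (W : Set G) := by
    rw [hW, heq]
    apply le_norm_closure
    rw [hSN]
    exact hconj N
  have hWM : W ≤ M := by
    rw [hW, closure_le, hSM]
    rintro x ⟨a, _⟩
    exact a
  have hpW : (pCore p M).map M.subtype ≤ W := by
    rw [hW, hSM]
    rintro _ ⟨x, hx, rfl⟩
    apply Subgroup.subset_closure
    obtain ⟨k, hk⟩ := (CfsgLib.Cores.pCore_isPGroup (G := M) p) ⟨x, hx⟩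
    have hk' : x ^ p ^ k = 1 := congrArg Subtype.val hk
    refine ⟨x.2, ⟨k, ?_⟩, ?_⟩
    · have := congrArg Subtype.val hk'
      rwa [coe_pow] at this
    · rw [mem_centralizer_iff]
      rintro _ ⟨z, hz, rfl⟩
      exact congrArg Subtype.val (commute_of_commutator_eq_bot (pCore_commute_up M hp) hx hz).symm
  have hWN : W ≤ N := by
    rw [hW, heq, closure_le, hSN]
    rintro x ⟨a, _⟩
    exact a
  have hW1 : W ≠ ⊥ := by
    intro h
    rw [h, le_bot_iff, Subgroup.map_eq_bot_iff_of_injective _ (subtype_injective _)] at hpW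
    exact hpM hpW
  have e1 := hM W hW1 (le_inf hWM hWN) hMW
  have e2 := hN W hW1 (le_inf hWN hWM) hNW
  rw [inf_eq_left.2 hNW] at e1
  rw [inf_eq_left.2 hMW] at e2
  exact hMN (le_antisymm e2 e1)

theorem bender_max (hM : PP M N) (hN : PP N M) (hMN : M ≠ N)
    (h1 : (generalizedFittingSubgroup M).map M.subtype ≤ N)
    (h2 : (generalizedFittingSubgroup N).map N.subtype ≤ M) :
    ∃ p : ℕ, p.Prime ∧ IsPGroup p (generalizedFittingSubgroup M) ∧
      IsPGroup p (generalizedFittingSubgroup N) := by
  have hEeq : (layer M).map M.subtype = (layer N).map N.subtype :=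
    le_antisymm (layer_map_le hM h1 h2) (layer_map_le hN h2 h1)
  have hEM : layer M = ⊥ := by
    by_contra hne
    have hne2 : layer N ≠ ⊥ := by
      intro h
      rw [h, Subgroup.map_bot, Subgroup.map_eq_bot_iff_of_injective _ (subtype_injective _)] at hEeq
      exact hne hEeq
    have hE1 : (layer M).map M.subtype ≤ N := (map_mono layer_le_gfitting).trans h1
    have hE2 : (layer N).map N.subtype ≤ M := (map_mono layer_le_gfitting).trans h2
    have h3 : M ≤ N := by
      refine le_trans (le_inf le_rfl (le_normalizer_map (layer M))) ?_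
      rw [hEeq]
      exact hN.norm _ hne2 hE2
    have h4 : N ≤ M := by
      refine le_trans (le_inf le_rfl (le_normalizer_map (layer N))) ?_
      rw [← hEeq]
      exact hM.norm _ hne hE1
    exact hMN (le_antisymm h3 h4)
  have hEN : layer N = ⊥ := by
    rw [hEM, Subgroup.map_bot] at hEeq
    rwa [eq_comm, Subgroup.map_eq_bot_iff_of_injective _ (subtype_injective _)] at hEeq
  have hup : ∀ (A : Subgroup G) (p : ℕ), p.Prime → layer A = ⊥ →
      (∀ r : ℕ, r.Prime → r ≠ p → pCore r A = ⊥) →
      generalizedFittingSubgroup A ≤ pCore p A := by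
    intro A p hp hE hr
    refine (gfitting_le_uu_sup hp).trans ?_
    apply sup_le _ le_rfl
    unfold uu
    rw [hE, bot_sup_eq]
    apply iSup_le
    intro r
    rw [hr r r.2.1 r.2.2]; exact bot_le
  by_cases hex : ∃ p : ℕ, p.Prime ∧ pCore p M ≠ ⊥
  · obtain ⟨p, hp, hpM⟩ := hex
    haveI := Fact.mk hp
    have hpN : pCore p N ≠ ⊥ := fun h => hpM (mm1 h2 h1 hp h)
    have hall : ∀ r : ℕ, r.Prime → r ≠ p → pCore r M = ⊥ := by
      intro r hr hrp
      by_contra hrM
      have hrN : pCore r N ≠ ⊥ := fun h => hrM (mm1 h2 h1 hr h)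
      exact no_two_primes hM hN hMN h1 h2 hEM hEN hp hpM hpN hr hrp hrM hrN
    refine ⟨p, hp, ?_, ?_⟩
    · exact (CfsgLib.Cores.pCore_isPGroup (G := M) p).to_le (hup M p hp hEM hall)
    · exact (CfsgLib.Cores.pCore_isPGroup (G := N) p).to_le
        (hup N p hp hEN fun r hr hrp => mm1 h1 h2 hr (hall r hr hrp))
  · exfalso
    push Not at hex
    have hb : ∀ (A : Subgroup G), layer A = ⊥ → (∀ r : ℕ, r.Prime → pCore r A = ⊥) → A = ⊥ := by
      intro A hEA hexA
      have h3 : generalizedFittingSubgroup A = ⊥ := by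
        rw [eq_bot_iff]
        refine (hup A 2 Nat.prime_two hEA fun r hr _ => hexA r hr).trans ?_
        rw [hexA 2 Nat.prime_two]
      have h4 := centralizer_gfitting_le (G := A)
      rw [h3] at h4
      have h5 : (⊤ : Subgroup A) ≤ ⊥ := by
        refine le_trans ?_ h4
        intro x _
        rw [mem_centralizer_iff]
        intro y hy
        rw [SetLike.mem_coe, mem_bot] at hy
        rw [hy, one_mul, mul_one]
      rw [eq_bot_iff]
      intro x hx
      have := h5 (mem_top (⟨x, hx⟩ : A))
      rw [mem_bot] at this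
      exact congrArg Subtype.val this
    have hM0 := hb M hEM hex
    have hN0 := hb N hEN (fun r hr => mm1 h1 h2 hr (hex r hr))
    exact hMN (hM0.trans hN0.symm)

theorem pair_char (hM : PP M N) (hN : PP N M) (hMN : M ≠ N)
    (h1 : (generalizedFittingSubgroup M).map M.subtype ≤ N)
    (h2 : (generalizedFittingSubgroup N).map N.subtype ≤ M) :
    ∃ p : ℕ, p.Prime ∧ centralizer (pCore p M : Set M) ≤ pCore p M ∧
      centralizer (pCore p N : Set N) ≤ pCore p N ∧
      (pCore p M).map M.subtype ⊔ (pCore p N).map N.subtype ≤ M ⊓ N := by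
  obtain ⟨p, hp, hpM, hpN⟩ := bender_max hM hN hMN h1 h2
  haveI := Fact.mk hp
  have key : ∀ (A : Subgroup G), IsPGroup p (generalizedFittingSubgroup A) →
      pCore p A = generalizedFittingSubgroup A := by
    intro A hA
    exact le_antisymm ((CfsgLib.Cores.pCore_le_fittingSubgroup p).trans fitting_le_gfitting)
      (CfsgLib.Cores.le_pCore inferInstance hA)
  refine ⟨p, hp, ?_, ?_, ?_⟩
  · rw [key M hpM]; exact centralizer_gfitting_le
  · rw [key N hpN]; exact centralizer_gfitting_le
  · rw [key M hpM, key N hpN]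
    exact sup_le (le_inf (map_subtype_le _) h1) (le_inf h2 (map_subtype_le _))

end CfsgLib.PrimPair
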