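import Cfsg.Agent.LibTorI
import Cfsg.Agent.LibTorH

set_option autoImplicit false

/-! the McKay numbers of SL_2(q), q odd (helper1) -/

namespace CfsgLib.Tor

open Finset Matrix Cfsg CfsgLib.CharBasic CfsgLib.G2B CfsgLib.G2C CfsgLib.G2F CfsgLib.G2J CfsgLib.G2K CfsgLib.G2L

universe u v

section

variable {F : Type v} [Field F]

theorem sl_inv (g : SpecialLinearGroup (Fin 2) F) : ((g⁻¹ : SpecialLinearGroup (Fin 2) F) : Matrix (Fin 2) (Fin 2) F) =
    !![(g : Matrix (Fin 2) (Fin 2) F) 1 1, -(g : Matrix (Fin 2) (Fin 2) F) 0 1; -(g : Matrix (Fin 2) (Fin 2) F) 1 0, (g : Matrix (Fin 2) (Fin 2) F) 0 0] :=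
  adjugate_fin_two g.1

/-- the upper unitriangular subgroup -/
def UU (F : Type v) [Field F] : Subgroup (SpecialLinearGroup (Fin 2) F) where
  carrier := {g | ∃ c : F, (g : Matrix (Fin 2) (Fin 2) F) = !![1, c; 0, 1]}
  mul_mem' := by
    rintro a b ⟨c, hc⟩ ⟨d, hd⟩
    refine ⟨d + c, ?_⟩
    show (a : Matrix (Fin 2) (Fin 2) F) * b = _
    rw [hc, hd]
    simp
  one_mem' := ⟨0, by
    show (1 : Matrix (Fin 2) (Fin 2) F) = _
    exact Matrix.one_fin_two⟩
  inv_mem' := by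
    rintro a ⟨c, hc⟩
    refine ⟨-c, ?_⟩
    rw [sl_inv]
    erw [hc]
    simp

theorem mem_UU (g : SpecialLinearGroup (Fin 2) F) : g ∈ UU F ↔ ∃ c : F, (g : Matrix (Fin 2) (Fin 2) F) = !![1, c; 0, 1] := Iff.rfl

theorem card_UU [Fintype F] : Nat.card (UU F) = Fintype.card F := by
  rw [← Nat.card_eq_fintype_card]
  symm
  apply Nat.card_congr
  refine Equiv.ofBijective (fun c : F => (⟨mkSL !![1, c; 0, 1] (by rw [det_fin_two_of]; ring), c, rfl⟩ : UU F)) ⟨?_, ?_⟩
  · intro c d h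
    have h1 : (!![1, c; 0, 1] : Matrix (Fin 2) (Fin 2) F) = !![1, d; 0, 1] := congrArg (fun z : UU F => ((z : SpecialLinearGroup (Fin 2) F) : Matrix (Fin 2) (Fin 2) F)) h
    have := congrFun (congrFun h1 0) 1
    exact this
  · rintro ⟨g, c, hc⟩
    exact ⟨c, Subtype.ext (Subtype.ext hc.symm)⟩

theorem UU_comm : ∀ a ∈ UU F, ∀ b ∈ UU F, a * b = b * a := by
  rintro a ⟨c, hc⟩ b ⟨d, hd⟩
  apply Subtype.ext
  show (a : Matrix (Fin 2) (Fin 2) F) * b = (b : Matrix (Fin 2) (Fin 2) F) * a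
  rw [hc, hd]
  simp [add_comm]

theorem norm_UU : Subgroup.normalizer (UU F : Set (SpecialLinearGroup (Fin 2) F)) = (upperTriangularGL 2 F).comap Matrix.SpecialLinearGroup.toGL := by
  have key : ∀ g : SpecialLinearGroup (Fin 2) F, (g : Matrix (Fin 2) (Fin 2) F) 1 0 = 0 → ∀ u ∈ UU F, g * u * g⁻¹ ∈ UU F := by
    rintro g hg u ⟨c, hc⟩
    have hd : (g : Matrix (Fin 2) (Fin 2) F) 0 0 * (g : Matrix (Fin 2) (Fin 2) F) 1 1 = 1 := by
      have := g.2
      rw [det_fin_two, hg, mul_zero, sub_zero] at this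
      exact this
    refine ⟨(g : Matrix (Fin 2) (Fin 2) F) 0 0 ^ 2 * c, ?_⟩
    show (g : Matrix (Fin 2) (Fin 2) F) * (u : Matrix (Fin 2) (Fin 2) F) * ((g⁻¹ : SpecialLinearGroup (Fin 2) F) : Matrix (Fin 2) (Fin 2) F) = _
    rw [hc, sl_inv]
    apply ext2
    · simp [Matrix.mul_apply, Fin.sum_univ_two, hg]; linear_combination hd
    · simp [Matrix.mul_apply, Fin.sum_univ_two, hg]; ring
    · simp [Matrix.mul_apply, Fin.sum_univ_two, hg]
    · simp [Matrix.mul_apply, Fin.sum_univ_two, hg]; linear_combination hd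
  ext g
  rw [mem_upper_sl, Subgroup.mem_normalizer_iff]
  constructor
  · intro h
    obtain ⟨c, hc⟩ := (h (mkSL !![1, 1; 0, 1] (by rw [det_fin_two_of]; ring))).mp ⟨1, rfl⟩
    have h1 : (g : Matrix (Fin 2) (Fin 2) F) * !![1, 1; 0, 1] * ((g⁻¹ : SpecialLinearGroup (Fin 2) F) : Matrix (Fin 2) (Fin 2) F) = !![1, c; 0, 1] := hc
    rw [sl_inv] at h1
    have h2 := congrFun (congrFun h1 1) 0
    simp [Matrix.mul_apply, Fin.sum_univ_two] at h2
    have h3 : (g : Matrix (Fin 2) (Fin 2) F) 1 0 * (g : Matrix (Fin 2) (Fin 2) F) 1 0 = 0 := by linear_combination -h2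
    exact mul_self_eq_zero.mp h3
  · intro hg u
    refine ⟨key g hg u, fun h => ?_⟩
    have hg' : ((g⁻¹ : SpecialLinearGroup (Fin 2) F) : Matrix (Fin 2) (Fin 2) F) 1 0 = 0 := by
      rw [sl_inv]
      simp [hg]
    have := key g⁻¹ hg' _ h
    have e : g⁻¹ * (g * u * g⁻¹) * g⁻¹⁻¹ = u := by group
    rwa [e] at this

/-- the defining characteristic -/
theorem sylow_p [Fintype F] {p : ℕ} [Fact p.Prime] [CharP F p] (hodd : Odd (Fintype.card F)) (S : Sylow p (SpecialLinearGroup (Fin 2) F)) :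
    Nat.card {ψ : IrrCharacter (Subgroup.normalizer ((S : Subgroup (SpecialLinearGroup (Fin 2) F)) : Set (SpecialLinearGroup (Fin 2) F))) //
      ¬ p ∣ charDegree (ψ : Subgroup.normalizer ((S : Subgroup (SpecialLinearGroup (Fin 2) F)) : Set (SpecialLinearGroup (Fin 2) F)) → ℂ)} = Fintype.card F + 3 := by
  classical
  have hp : p.Prime := Fact.out
  obtain ⟨n, -, hn⟩ := FiniteField.card F p
  have hq1 : 1 < Fintype.card F := Fintype.one_lt_card
  have hpq : p ∣ Fintype.card F := by rw [hn]; exact dvd_pow_self p n.ne_zero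
  have hfac : (Nat.card (SpecialLinearGroup (Fin 2) F)).factorization p = n := by
    rw [card_SL, Nat.factorization_mul (by omega) (Nat.mul_ne_zero (by omega) (by omega)), Finsupp.add_apply,
      Nat.factorization_mul (by omega) (by omega), Finsupp.add_apply, hn, Nat.factorization_pow]
    have h1 : (p ^ (n : ℕ) - 1).factorization p = 0 := by
      apply Nat.factorization_eq_zero_of_not_dvd
      intro h
      rw [← hn] at h
      have := (Nat.dvd_sub hpq h)
      have e : Fintype.card F - (Fintype.card F - 1) = 1 := by omega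
      rw [e] at this
      exact hp.one_lt.ne' (Nat.dvd_one.mp this)
    have h3 : (p ^ (n : ℕ) + 1).factorization p = 0 := by
      apply Nat.factorization_eq_zero_of_not_dvd
      intro h
      rw [← hn] at h
      have := (Nat.dvd_sub h hpq)
      have e : Fintype.card F + 1 - Fintype.card F = 1 := by omega
      rw [e] at this
      exact hp.one_lt.ne' (Nat.dvd_one.mp this)
    rw [h1, h3]
    simp [hp.factorization_self]
  let QS : Sylow p (SpecialLinearGroup (Fin 2) F) := Sylow.ofCard (UU F) (by rw [card_UU, hfac]; exact hn)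
  obtain ⟨c, hc⟩ := MulAction.exists_smul_eq (SpecialLinearGroup (Fin 2) F) QS S
  have hcS : (UU F : Subgroup (SpecialLinearGroup (Fin 2) F)).map (MulAut.conj c).toMonoidHom = S := by
    have := congrArg (fun S : Sylow p _ => (S : Subgroup (SpecialLinearGroup (Fin 2) F))) hc
    exact this
  have hN : (Subgroup.normalizer (UU F : Set (SpecialLinearGroup (Fin 2) F))).map (MulAut.conj c).toMonoidHom =
      Subgroup.normalizer ((S : Subgroup (SpecialLinearGroup (Fin 2) F)) : Set (SpecialLinearGroup (Fin 2) F)) := by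
    rw [← hcS]
    exact Subgroup.map_equiv_normalizer_eq (UU F) (MulAut.conj c)
  set NN := Subgroup.normalizer ((S : Subgroup (SpecialLinearGroup (Fin 2) F)) : Set (SpecialLinearGroup (Fin 2) F)) with hNN
  have hk : Nat.card (ConjClasses NN) = Fintype.card F + 3 := by
    rw [← card_bor_classes hodd, ← norm_UU, ← hN]
    exact (CfsgLib.Glaub2.card_conjClasses_congr (Subgroup.equivMapOfInjective _ _ (MulAut.conj c).injective)).symm
  have hScomm : ∀ a ∈ (S : Subgroup (SpecialLinearGroup (Fin 2) F)), ∀ b ∈ (S : Subgroup (SpecialLinearGroup (Fin 2) F)), a * b = b * a := by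
    rw [← hcS]
    rintro _ ⟨x, hx, rfl⟩ _ ⟨y, hy, rfl⟩
    rw [← map_mul, ← map_mul, UU_comm x hx y hy]
  haveI : ((S : Subgroup (SpecialLinearGroup (Fin 2) F)).subgroupOf NN).Normal := Subgroup.normal_in_normalizer
  rw [← hk]
  apply all_coprime p ((S : Subgroup (SpecialLinearGroup (Fin 2) F)).subgroupOf NN)
  · intro a ha b hb
    exact Subtype.ext (hScomm _ ha _ hb)
  · intro h
    exact S.not_dvd_index (h.trans (Subgroup.relIndex_dvd_index_of_le Subgroup.le_normalizer))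

/-- the prime two -/
theorem sylow_2 [Fintype F] (hodd : Odd (Fintype.card F)) (S : Sylow 2 (SpecialLinearGroup (Fin 2) F)) :
    Nat.card {ψ : IrrCharacter (Subgroup.normalizer ((S : Subgroup (SpecialLinearGroup (Fin 2) F)) : Set (SpecialLinearGroup (Fin 2) F))) //
      ¬ 2 ∣ charDegree (ψ : Subgroup.normalizer ((S : Subgroup (SpecialLinearGroup (Fin 2) F)) : Set (SpecialLinearGroup (Fin 2) F)) → ℂ)} = 4 := by
  classical
  have h2 := two_ne_of_odd hodd
  have h8 : (Fintype.card F % 8 = 1 ∨ Fintype.card F % 8 = 7) ∨ (Fintype.card F % 8 = 3 ∨ Fintype.card F % 8 = 5) := by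
    obtain ⟨k, hk⟩ := hodd
    omega
  rcases h8 with hq | hq
  · rw [norm_large hodd S hq]
    obtain ⟨T, m', hT, h4, hTc, hG, hm', hS⟩ := sylow_two_torus hodd S
    obtain ⟨⟨w, hwS, hwT⟩, hprod, hA, hSc, hmem⟩ := two_facts h2 S hT h4 hG hm' hS
    have hT0 : 0 < Nat.card T := Nat.card_pos
    have h3 : 2 < Nat.card T := by
      obtain ⟨l, hl⟩ := h4; omega
    obtain ⟨t₀, ht₀, hns⟩ := exists_nonsc h3
    have hm1T : (-1 : SpecialLinearGroup (Fin 2) F) ∈ T := by
      rw [← hT.cent t₀ ht₀ hns, Subgroup.mem_centralizer_singleton_iff]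
      exact (neg_one_central t₀).symm
    have hm1S : (-1 : SpecialLinearGroup (Fin 2) F) ∈ (S : Subgroup (SpecialLinearGroup (Fin 2) F)) := by
      apply hmem _ hm1T
      refine ⟨1, ?_⟩
      rw [pow_one, sq, neg_mul_neg, one_mul]
    obtain ⟨h5, h6, h7⟩ := cc_TD h2 hT ⟨t₀, ht₀, hns⟩ hS (fun h => hwT (h hwS)) hm1S
    haveI : (T.subgroupOf (S : Subgroup (SpecialLinearGroup (Fin 2) F))).Normal := Subgroup.normal_of_index_eq_two h5
    exact odd_four (T.subgroupOf (S : Subgroup (SpecialLinearGroup (Fin 2) F))) h6 h5 h7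
  · apply odd_four'
    · rw [(norm_small hodd S hq).1, (norm_small hodd S hq).2]
    · exact cc_small hodd S hq


theorem g_count [Fintype F] (hodd : Odd (Fintype.card F)) (ℓ : ℕ) :
    2 * Nat.card {χ : IrrCharacter (SpecialLinearGroup (Fin 2) F) // ¬ ℓ ∣ charDegree (χ : SpecialLinearGroup (Fin 2) F → ℂ)} =
      2 * (if ¬ ℓ ∣ 1 then 1 else 0) + (Fintype.card F - 3) * (if ¬ ℓ ∣ Fintype.card F + 1 then 1 else 0) + 2 * (if ¬ ℓ ∣ Fintype.card F then 1 else 0) +
      4 * (if ¬ ℓ ∣ (Fintype.card F + 1) / 2 then 1 else 0) + 4 * (if ¬ ℓ ∣ (Fintype.card F - 1) / 2 then 1 else 0) +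
      (Fintype.card F - 1) * (if ¬ ℓ ∣ Fintype.card F - 1 then 1 else 0) := by
  classical
  obtain ⟨K, s, hd, ty, n1, n2, n3, n4, n5, n6⟩ := g_types hodd
  have hq1 : 1 < Fintype.card F := Fintype.one_lt_card
  set q := Fintype.card F with hq
  rw [card_sub]
  have e : ∀ χ : IrrCharacter (SpecialLinearGroup (Fin 2) F), (if ¬ ℓ ∣ charDegree (χ : SpecialLinearGroup (Fin 2) F → ℂ) then 1 else 0) =
      (if K χ = 1 ∧ s χ = 0 then 1 else 0) * (if ¬ ℓ ∣ 1 then 1 else 0) + (if K χ = 2 ∧ s χ = 2 then 1 else 0) * (if ¬ ℓ ∣ q + 1 then 1 else 0) +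
      (if K χ = 1 ∧ s χ = 2 then 1 else 0) * (if ¬ ℓ ∣ q then 1 else 0) + (if K χ = 1 ∧ s χ = 1 then 1 else 0) * (if ¬ ℓ ∣ (q + 1) / 2 then 1 else 0) +
      (if K χ = 0 ∧ s χ = 1 then 1 else 0) * (if ¬ ℓ ∣ (q - 1) / 2 then 1 else 0) + (if K χ = 0 ∧ s χ = 2 then 1 else 0) * (if ¬ ℓ ∣ q - 1 then 1 else 0) := by
    intro χ
    have h1 := hd χ
    rcases ty χ with ⟨a, b⟩ | ⟨a, b⟩ | ⟨a, b⟩ | ⟨a, b⟩ | ⟨a, b⟩ | ⟨a, b⟩
    · have : charDegree (χ : SpecialLinearGroup (Fin 2) F → ℂ) = 1 := by rw [a, b] at h1; omega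
      rw [this, a, b]; simp
    · have : charDegree (χ : SpecialLinearGroup (Fin 2) F → ℂ) = q + 1 := by rw [a, b] at h1; omega
      rw [this, a, b]; simp
    · have : charDegree (χ : SpecialLinearGroup (Fin 2) F → ℂ) = q := by rw [a, b] at h1; omega
      rw [this, a, b]; simp
    · have : charDegree (χ : SpecialLinearGroup (Fin 2) F → ℂ) = (q + 1) / 2 := by rw [a, b] at h1; omega
      rw [this, a, b]; simp
    · have : charDegree (χ : SpecialLinearGroup (Fin 2) F → ℂ) = (q - 1) / 2 := by rw [a, b] at h1; omega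
      rw [this, a, b]; simp
    · have : charDegree (χ : SpecialLinearGroup (Fin 2) F → ℂ) = q - 1 := by rw [a, b] at h1; omega
      rw [this, a, b]; simp
  rw [Finset.sum_congr rfl (fun χ _ => e χ)]
  simp only [Finset.sum_add_distrib, ← Finset.sum_mul]
  rw [n1, n3, n4, n5, ← n2, ← n6]
  ring

theorem mckay [Fintype F] (hodd : Odd (Fintype.card F)) (ℓ : ℕ) [Fact ℓ.Prime] (S : Sylow ℓ (SpecialLinearGroup (Fin 2) F)) :
    Nat.card {χ : IrrCharacter (SpecialLinearGroup (Fin 2) F) // ¬ ℓ ∣ charDegree (χ : SpecialLinearGroup (Fin 2) F → ℂ)} =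
      Nat.card {ψ : IrrCharacter (Subgroup.normalizer ((S : Subgroup (SpecialLinearGroup (Fin 2) F)) : Set (SpecialLinearGroup (Fin 2) F))) //
        ¬ ℓ ∣ charDegree (ψ : Subgroup.normalizer ((S : Subgroup (SpecialLinearGroup (Fin 2) F)) : Set (SpecialLinearGroup (Fin 2) F)) → ℂ)} := by
  classical
  have h2 := two_ne_of_odd hodd
  have hℓ : ℓ.Prime := Fact.out
  have hℓ2 := hℓ.two_le
  have hℓ1 : ¬ ℓ ∣ 1 := fun h => by have := Nat.dvd_one.mp h; omega
  have hq1 : 1 < Fintype.card F := Fintype.one_lt_card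
  have hc := g_count hodd ℓ
  have hG := card_SL F
  obtain ⟨p, hp⟩ := CharP.exists F
  haveI := hp
  haveI hpf : Fact p.Prime := ⟨CharP.char_is_prime F p⟩
  obtain ⟨n, -, hn⟩ := FiniteField.card F p
  have hpq : p ∣ Fintype.card F := by rw [hn]; exact dvd_pow_self p n.ne_zero
  obtain ⟨ν, hν⟩ := FiniteField.exists_nonsquare (ringChar_ne_two h2)
  have hν0 : ν ≠ 0 := fun h => hν (h ▸ IsSquare.zero)
  obtain ⟨k, hk⟩ := hodd
  have hodd' : Odd (Fintype.card F) := ⟨k, hk⟩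
  set q := Fintype.card F with hq
  have hqp : ∀ r : ℕ, r.Prime → r ∣ q → r = p := by
    intro r hr h
    rw [hn] at h
    exact (Nat.prime_dvd_prime_iff_eq hr hpf.out).mp (hr.dvd_of_dvd_pow h)
  by_cases h1 : ℓ ∣ q
  · have : ℓ = p := hqp ℓ hℓ h1
    subst this
    rw [sylow_p hodd' S]
    have a1 : ¬ ℓ ∣ q + 1 := fun h => hℓ1 ((Nat.dvd_add_right h1).mp h)
    have a2 : ¬ ℓ ∣ q - 1 := fun h => by
      have := Nat.dvd_sub h1 h
      have e : q - (q - 1) = 1 := by omega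
      rw [e] at this
      exact hℓ1 this
    have a3 : ¬ ℓ ∣ (q + 1) / 2 := fun h => a1 (h.trans ⟨2, by omega⟩)
    have a4 : ¬ ℓ ∣ (q - 1) / 2 := fun h => a2 (h.trans ⟨2, by omega⟩)
    rw [if_pos hℓ1, if_pos a1, if_pos a2, if_neg (not_not.mpr h1), if_pos a3, if_pos a4] at hc
    have : 3 ≤ q := by omega
    omega
  by_cases h22 : ℓ = 2
  · subst h22
    rw [sylow_2 hodd' S]
    have a1 : 2 ∣ q + 1 := ⟨k + 1, by omega⟩
    have a2 : 2 ∣ q - 1 := ⟨k, by omega⟩
    have e1 : (q + 1) / 2 = k + 1 := by omega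
    have e2 : (q - 1) / 2 = k := by omega
    rw [if_pos hℓ1, if_pos h1, if_neg (not_not.mpr a1), if_neg (not_not.mpr a2), e1, e2] at hc
    rcases Nat.even_or_odd k with hk2 | hk2
    · rw [if_pos (fun h => by obtain ⟨l, hl⟩ := hk2; omega), if_neg (not_not.mpr hk2.two_dvd)] at hc
      omega
    · rw [if_neg (not_not.mpr (by obtain ⟨l, hl⟩ := hk2; omega)), if_pos (fun h => by obtain ⟨l, hl⟩ := hk2; omega)] at hc
      omega
  have hodd2 : ∀ m, ℓ ∣ 2 * m → ℓ ∣ m := by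
    intro m h
    rcases (Nat.Prime.dvd_mul hℓ).mp h with h | h
    · exact absurd ((Nat.prime_dvd_prime_iff_eq hℓ Nat.prime_two).mp h) h22
    · exact h
  by_cases h3 : ℓ ∣ q - 1
  · have a1 : ¬ ℓ ∣ q + 1 := fun h => by
      have := Nat.dvd_sub h h3
      have e : q + 1 - (q - 1) = 2 * 1 := by omega
      rw [e] at this
      exact hℓ1 (hodd2 1 this)
    have e5 : 2 * ((q - 1) / 2) = q - 1 := by omega
    have a2 : ℓ ∣ (q - 1) / 2 := hodd2 _ (by rw [e5]; exact h3)
    have a3 : ¬ ℓ ∣ (q + 1) / 2 := fun h => a1 (h.trans ⟨2, by omega⟩)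
    rw [if_pos hℓ1, if_pos h1, if_pos a1, if_neg (not_not.mpr h3), if_neg (not_not.mpr a2), if_pos a3] at hc
    have h5 := sylow_norm h22 S h2 JS_t JS_d (cyc_TS h2) (q - 1) (q * (q + 1)) (card_TS h2) (by rw [hG]; ring) h3
      (fun h => (hℓ.dvd_mul.mp h).elim h1 a1) w_TS
    omega
  by_cases h4 : ℓ ∣ q + 1
  · have e5 : 2 * ((q + 1) / 2) = q + 1 := by omega
    have a2 : ℓ ∣ (q + 1) / 2 := hodd2 _ (by rw [e5]; exact h4)
    have a3 : ¬ ℓ ∣ (q - 1) / 2 := fun h => h3 (h.trans ⟨2, by omega⟩)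
    rw [if_pos hℓ1, if_pos h1, if_pos h3, if_neg (not_not.mpr h4), if_neg (not_not.mpr a2), if_pos a3] at hc
    obtain ⟨w, hw⟩ := w_TN (F := F) hodd' hν0
    have h5 := sylow_norm h22 S h2 (JN_t ν) (JN_d hν0) (cyc_TN hν) (q + 1) (q * (q - 1)) (card_TN h2 hν) (by rw [hG]; ring) h4
      (fun h => (hℓ.dvd_mul.mp h).elim h1 h3) hw
    omega
  -- the remaining primes
  have h5 : ¬ ℓ ∣ Nat.card (SpecialLinearGroup (Fin 2) F) := by
    rw [hG]
    intro h
    rcases hℓ.dvd_mul.mp h with h | h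
    · exact h1 h
    rcases hℓ.dvd_mul.mp h with h | h
    · exact h3 h
    · exact h4 h
  have hS : (S : Subgroup (SpecialLinearGroup (Fin 2) F)) = ⊥ := by
    rw [← Subgroup.card_eq_one, S.card_eq_multiplicity, Nat.factorization_eq_zero_of_not_dvd h5, pow_zero]
  have hN : Subgroup.normalizer ((S : Subgroup (SpecialLinearGroup (Fin 2) F)) : Set (SpecialLinearGroup (Fin 2) F)) = ⊤ := by
    rw [hS]
    exact Subgroup.normalizer_eq_top _
  rw [hN, all_coprime ℓ (⊥ : Subgroup (SpecialLinearGroup (Fin 2) F)) (by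
      intro a ha b hb
      rw [Subgroup.mem_bot.mp ha, Subgroup.mem_bot.mp hb]) (by rw [Subgroup.index_bot]; exact h5),
    all_coprime ℓ (⊥ : Subgroup (⊤ : Subgroup (SpecialLinearGroup (Fin 2) F))) (by
      intro a ha b hb
      rw [Subgroup.mem_bot.mp ha, Subgroup.mem_bot.mp hb]) (by
      rw [Subgroup.index_bot, Nat.card_congr Subgroup.topEquiv.toEquiv]; exact h5)]
  exact CfsgLib.Glaub2.card_conjClasses_congr Subgroup.topEquiv.symm

end

end CfsgLib.Tor
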