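import Mathlib
import Cfsg.Agent.EqBase
import Cfsg.Agent.LibTorJ
import Cfsg.Agent.LibH22PSL2

set_option autoImplicit false
set_option maxHeartbeats 800000
set_option linter.unusedSectionVars false

/-! Degrees of the irreducible characters of PSL(2,q) (helper19) -/

namespace CfsgLib.Psl19

open Finset Matrix Cfsg CfsgLib.CharBasic CfsgLib.G2B CfsgLib.G2C CfsgLib.G2F CfsgLib.G2J CfsgLib.G2K CfsgLib.G2L CfsgLib.Tor
open scoped ComplexConjugate

universe v
variable {F : Type v} [Field F] [Fintype F]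

/-- inflation from PSL to SL -/
def infl (χ : IrrCharacter (ProjectiveSpecialLinearGroup (Fin 2) F)) : IrrCharacter (SpecialLinearGroup (Fin 2) F) :=
  ⟨fun g => (χ : ProjectiveSpecialLinearGroup (Fin 2) F → ℂ) (QuotientGroup.mk g),
    isIrrCharacter_comp_surj χ.2 (QuotientGroup.mk' _) (QuotientGroup.mk'_surjective _)⟩

theorem infl_apply (χ : IrrCharacter (ProjectiveSpecialLinearGroup (Fin 2) F)) (g : SpecialLinearGroup (Fin 2) F) :
    (infl χ : SpecialLinearGroup (Fin 2) F → ℂ) g = (χ : ProjectiveSpecialLinearGroup (Fin 2) F → ℂ) (QuotientGroup.mk g) := rfl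

theorem infl_inj : Function.Injective (infl (F := F)) := by
  intro χ ψ h
  apply Subtype.ext
  funext x
  obtain ⟨g, rfl⟩ := QuotientGroup.mk_surjective x
  exact congrFun (congrArg Subtype.val h) g

theorem infl_deg (χ : IrrCharacter (ProjectiveSpecialLinearGroup (Fin 2) F)) :
    charDegree (infl χ : SpecialLinearGroup (Fin 2) F → ℂ) = charDegree (χ : ProjectiveSpecialLinearGroup (Fin 2) F → ℂ) := by
  unfold charDegree
  rw [infl_apply]; rfl

theorem mk_u {c : F} (hc : c ≠ 0) : (QuotientGroup.mk ((frSL F).u c) : ProjectiveSpecialLinearGroup (Fin 2) F) ≠ 1 := by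
  intro h
  rw [QuotientGroup.eq_one_iff, Matrix.SpecialLinearGroup.mem_center_iff] at h
  obtain ⟨r, -, hr⟩ := h
  have h1 : (((frSL F).u c : SpecialLinearGroup (Fin 2) F) : Matrix (Fin 2) (Fin 2) F) = !![1, c; 0, 1] := (frSL F).mat_u c
  rw [h1] at hr
  have h2 := congrFun (congrFun hr 0) 1
  simp at h2
  exact hc h2.symm

open Classical in
theorem psl_counts (hodd : Odd (Fintype.card F)) {k : ℕ} (hk : Fintype.card F = 2 * k + 1) (hk2 : 2 ≤ k) :
    ∃ K s : IrrCharacter (ProjectiveSpecialLinearGroup (Fin 2) F) → ℕ,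
    (∀ χ : IrrCharacter (ProjectiveSpecialLinearGroup (Fin 2) F),
      charDegree (χ : ProjectiveSpecialLinearGroup (Fin 2) F → ℂ) = K χ + k * s χ) ∧
    (∀ χ, (K χ = 1 ∧ s χ = 0) ∨ (K χ = 2 ∧ s χ = 2) ∨ (K χ = 1 ∧ s χ = 2) ∨ (K χ = 1 ∧ s χ = 1) ∨ (K χ = 0 ∧ s χ = 1) ∨ (K χ = 0 ∧ s χ = 2)) ∧
    (Finset.univ.filter (fun χ => K χ = 1 ∧ s χ = 2)).card = 1 ∧
    0 < (Finset.univ.filter (fun χ => K χ = 0 ∧ s χ = 2)).card ∧
    (3 ≤ k → 0 < (Finset.univ.filter (fun χ => K χ = 2 ∧ s χ = 2)).card) := by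
  have h20 := two_ne_of_odd hodd
  obtain ⟨ν, hν⟩ := FiniteField.exists_nonsquare (ringChar_ne_two h20)
  obtain ⟨ψ, hψ⟩ := exists_addChar (F := F)
  obtain ⟨K, a, b, h0, h1, h2, h3, ha, hb, hK, hK2, hK0, n1, n2, n3, n4, n5, n6⟩ := odd_main hodd hν hψ
  have hq : 1 ≤ Fintype.card F := Fintype.card_pos
  have ty : ∀ χ, (K χ = 1 ∧ a χ + b χ = 0) ∨ (K χ = 2 ∧ a χ + b χ = 2) ∨ (K χ = 1 ∧ a χ + b χ = 2) ∨ (K χ = 1 ∧ a χ + b χ = 1) ∨
      (K χ = 0 ∧ a χ + b χ = 1) ∨ (K χ = 0 ∧ a χ + b χ = 2) := by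
    intro χ
    have h4 := ha χ
    have h5 := hb χ
    have h6 := hK χ
    have h7 := hK2 χ
    have h8 := hK0 χ
    omega
  have hdeg : ∀ χ : IrrCharacter (ProjectiveSpecialLinearGroup (Fin 2) F),
      charDegree (χ : ProjectiveSpecialLinearGroup (Fin 2) F → ℂ) = K (infl χ) + k * (a (infl χ) + b (infl χ)) := by
    intro χ
    have h4 := (nat2 hq (h1 (infl χ)) (charDegree (infl χ : SpecialLinearGroup (Fin 2) F → ℂ))).mp (CfsgLib.CharInt.irr_one_eq_charDegree (infl χ).2)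
    rw [infl_deg] at h4
    have h5 : Fintype.card F - 1 = 2 * k := by omega
    rw [h5] at h4
    have h6 : 2 * k * (a (infl χ) + b (infl χ)) = 2 * (k * (a (infl χ) + b (infl χ))) := by ring
    omega
  have hcard : Nat.card (ProjectiveSpecialLinearGroup (Fin 2) F) = (2 * k + 1) * (2 * k * (k + 1)) := by
    have h4 := Cfsg.Agent.H22.card_PSL2 (F := F)
    rw [hk] at h4
    have h5 : Nat.gcd 2 (2 * k + 1 - 1) = 2 := by
      rw [Nat.add_sub_cancel]
      exact Nat.gcd_eq_left (Dvd.intro _ rfl)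
    rw [h5, Nat.add_sub_cancel] at h4
    have h6 : (2 * k + 1) * (2 * k * (2 * k + 1 + 1)) = 2 * ((2 * k + 1) * (2 * k * (k + 1))) := by ring
    omega
  -- the two sums
  have e2 := sum_deg (N := ProjectiveSpecialLinearGroup (Fin 2) F)
  have e1 : ∑ χ : IrrCharacter (ProjectiveSpecialLinearGroup (Fin 2) F), charDegree (χ : ProjectiveSpecialLinearGroup (Fin 2) F → ℂ) * K (infl χ) =
      2 * k * (k + 1) := by
    have h4 : ∑ χ : IrrCharacter (ProjectiveSpecialLinearGroup (Fin 2) F), (χ : ProjectiveSpecialLinearGroup (Fin 2) F → ℂ) 1 *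
        ((Fintype.card F : ℂ) * K (infl χ)) = Nat.card (ProjectiveSpecialLinearGroup (Fin 2) F) := by
      have h5 : ∀ χ : IrrCharacter (ProjectiveSpecialLinearGroup (Fin 2) F), (χ : ProjectiveSpecialLinearGroup (Fin 2) F → ℂ) 1 *
        ((Fintype.card F : ℂ) * K (infl χ)) = ∑ c : F, (χ : ProjectiveSpecialLinearGroup (Fin 2) F → ℂ) (QuotientGroup.mk ((frSL F).u c)) *
          conj ((χ : ProjectiveSpecialLinearGroup (Fin 2) F → ℂ) 1) := by
        intro χ
        rw [← h0, ← Finset.sum_mul, CfsgLib.CharInt.irr_one_eq_charDegree χ.2, map_natCast, mul_comm]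
        rfl
      rw [Finset.sum_congr rfl (fun χ _ => h5 χ), Finset.sum_comm]
      have h6 : ∀ c : F, ∑ χ : IrrCharacter (ProjectiveSpecialLinearGroup (Fin 2) F),
          (χ : ProjectiveSpecialLinearGroup (Fin 2) F → ℂ) (QuotientGroup.mk ((frSL F).u c)) *
          conj ((χ : ProjectiveSpecialLinearGroup (Fin 2) F → ℂ) 1) = if c = 0 then (Nat.card (ProjectiveSpecialLinearGroup (Fin 2) F) : ℂ) else 0 := by
        intro c
        rw [column_orthogonality]
        by_cases hc : c = 0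
        · rw [if_pos hc, hc, (frSL F).u_zero, QuotientGroup.mk_one, if_pos (IsConj.refl _)]
          have : Subgroup.centralizer ({(1 : ProjectiveSpecialLinearGroup (Fin 2) F)} : Set (ProjectiveSpecialLinearGroup (Fin 2) F)) = ⊤ := by
            rw [eq_top_iff]
            intro x _
            rw [Subgroup.mem_centralizer_singleton_iff]; simp
          rw [this, Subgroup.card_top]
        · rw [if_neg hc, if_neg]
          intro h
          exact mk_u hc (isConj_one_right.1 h.symm)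
      rw [Finset.sum_congr rfl (fun c _ => h6 c)]
      simp
    have h7 : ((Fintype.card F * ∑ χ : IrrCharacter (ProjectiveSpecialLinearGroup (Fin 2) F), charDegree (χ : ProjectiveSpecialLinearGroup (Fin 2) F → ℂ) * K (infl χ) : ℕ) : ℂ) =
        (Nat.card (ProjectiveSpecialLinearGroup (Fin 2) F) : ℕ) := by
      rw [← h4]
      push_cast
      rw [Finset.mul_sum]
      refine Finset.sum_congr rfl fun χ _ => ?_
      rw [CfsgLib.CharInt.irr_one_eq_charDegree χ.2]
      ring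
    have h8 : Fintype.card F * ∑ χ : IrrCharacter (ProjectiveSpecialLinearGroup (Fin 2) F), charDegree (χ : ProjectiveSpecialLinearGroup (Fin 2) F → ℂ) * K (infl χ) =
        Nat.card (ProjectiveSpecialLinearGroup (Fin 2) F) := by exact_mod_cast h7
    rw [hcard, hk] at h8
    exact Nat.eq_of_mul_eq_mul_left (by omega) h8
  -- abbreviations
  set K' : IrrCharacter (ProjectiveSpecialLinearGroup (Fin 2) F) → ℕ := fun χ => K (infl χ) with hK'
  set s' : IrrCharacter (ProjectiveSpecialLinearGroup (Fin 2) F) → ℕ := fun χ => a (infl χ) + b (infl χ) with hs'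
  have ty' : ∀ χ, (K' χ = 1 ∧ s' χ = 0) ∨ (K' χ = 2 ∧ s' χ = 2) ∨ (K' χ = 1 ∧ s' χ = 2) ∨ (K' χ = 1 ∧ s' χ = 1) ∨
      (K' χ = 0 ∧ s' χ = 1) ∨ (K' χ = 0 ∧ s' χ = 2) := fun χ => ty (infl χ)
  have hdeg' : ∀ χ : IrrCharacter (ProjectiveSpecialLinearGroup (Fin 2) F),
      charDegree (χ : ProjectiveSpecialLinearGroup (Fin 2) F → ℂ) = K' χ + k * s' χ := hdeg
  -- cardinality bounds
  have hle : ∀ (Q : IrrCharacter (SpecialLinearGroup (Fin 2) F) → Prop) [DecidablePred Q],
      (Finset.univ.filter (fun χ : IrrCharacter (ProjectiveSpecialLinearGroup (Fin 2) F) => Q (infl χ))).card ≤ Nat.card {χ // Q χ} := by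
    intro Q _
    have h4 : (Finset.univ.filter (fun χ : IrrCharacter (ProjectiveSpecialLinearGroup (Fin 2) F) => Q (infl χ))).card =
        Nat.card {χ : IrrCharacter (ProjectiveSpecialLinearGroup (Fin 2) F) // Q (infl χ)} := by
      rw [Nat.card_eq_fintype_card, Fintype.card_subtype]
    rw [h4]
    exact Nat.card_le_card_of_injective (fun χ : {χ : IrrCharacter (ProjectiveSpecialLinearGroup (Fin 2) F) // Q (infl χ)} =>
      (⟨infl χ.1, χ.2⟩ : {χ // Q χ})) (fun χ ψ h => Subtype.ext (infl_inj (congrArg Subtype.val h)))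
  set t0 := (Finset.univ.filter (fun χ => K' χ = 1 ∧ s' χ = 0)).card with ht0
  set t1 := (Finset.univ.filter (fun χ => K' χ = 2 ∧ s' χ = 2)).card with ht1
  set t2 := (Finset.univ.filter (fun χ => K' χ = 1 ∧ s' χ = 2)).card with ht2
  set t3 := (Finset.univ.filter (fun χ => K' χ = 1 ∧ s' χ = 1)).card with ht3
  set t4 := (Finset.univ.filter (fun χ => K' χ = 0 ∧ s' χ = 1)).card with ht4
  set t5 := (Finset.univ.filter (fun χ => K' χ = 0 ∧ s' χ = 2)).card with ht5
  have b0 : t0 ≤ 1 := by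
    rw [← n1]
    refine le_trans ?_ (hle (fun χ => a χ + b χ = 0))
    apply Finset.card_le_card
    intro χ hχ
    rw [Finset.mem_filter] at hχ ⊢
    exact ⟨hχ.1, hχ.2.2⟩
  have b2 : t2 ≤ 1 := by
    rw [← n3]
    exact hle (fun χ => K χ = 1 ∧ a χ + b χ = 2)
  have b3 : t3 ≤ 2 := by
    rw [← n4]
    exact hle (fun χ => K χ = 1 ∧ a χ + b χ = 1)
  have b4 : t4 ≤ 2 := by
    rw [← n5]
    exact hle (fun χ => K χ = 0 ∧ a χ + b χ = 1)
  have b0' : 1 ≤ t0 := by
    apply Finset.card_pos.2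
    let o : IrrCharacter (ProjectiveSpecialLinearGroup (Fin 2) F) := ⟨fun _ => 1, isIrrCharacter_one⟩
    refine ⟨o, ?_⟩
    rw [Finset.mem_filter]
    refine ⟨Finset.mem_univ _, ?_⟩
    have h4 : charDegree (o : ProjectiveSpecialLinearGroup (Fin 2) F → ℂ) = 1 := by
      unfold charDegree
      change ⌊((1 : ℂ)).re⌋₊ = 1
      simp
    rw [hdeg' o] at h4
    rcases ty' o with h | h | h | h | h | h <;> rw [h.1, h.2] at h4 <;> first | exact h | omega
  have c1 : ∑ χ : IrrCharacter (ProjectiveSpecialLinearGroup (Fin 2) F), charDegree (χ : ProjectiveSpecialLinearGroup (Fin 2) F → ℂ) * K' χ =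
      t0 * 1 + t1 * (4 * (k + 1)) + t2 * (2 * k + 1) + t3 * (k + 1) := by
    have h4 : ∀ χ : IrrCharacter (ProjectiveSpecialLinearGroup (Fin 2) F), charDegree (χ : ProjectiveSpecialLinearGroup (Fin 2) F → ℂ) * K' χ =
        (if K' χ = 1 ∧ s' χ = 0 then 1 else 0) * 1 + (if K' χ = 2 ∧ s' χ = 2 then 1 else 0) * (4 * (k + 1)) +
        (if K' χ = 1 ∧ s' χ = 2 then 1 else 0) * (2 * k + 1) + (if K' χ = 1 ∧ s' χ = 1 then 1 else 0) * (k + 1) := by
      intro χ
      rw [hdeg' χ]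
      rcases ty' χ with h | h | h | h | h | h <;> rw [h.1, h.2] <;> simp <;> ring
    rw [Finset.sum_congr rfl (fun χ _ => h4 χ), Finset.sum_add_distrib, Finset.sum_add_distrib, Finset.sum_add_distrib,
      ← Finset.sum_mul, ← Finset.sum_mul, ← Finset.sum_mul, ← Finset.sum_mul, ← Finset.card_filter, ← Finset.card_filter,
      ← Finset.card_filter, ← Finset.card_filter]
  have c2 : ∑ χ : IrrCharacter (ProjectiveSpecialLinearGroup (Fin 2) F), charDegree (χ : ProjectiveSpecialLinearGroup (Fin 2) F → ℂ) ^ 2 =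
      t0 * 1 + t1 * (4 * (k + 1) ^ 2) + t2 * (2 * k + 1) ^ 2 + t3 * (k + 1) ^ 2 + t4 * k ^ 2 + t5 * (4 * k ^ 2) := by
    have h4 : ∀ χ : IrrCharacter (ProjectiveSpecialLinearGroup (Fin 2) F), charDegree (χ : ProjectiveSpecialLinearGroup (Fin 2) F → ℂ) ^ 2 =
        (if K' χ = 1 ∧ s' χ = 0 then 1 else 0) * 1 + (if K' χ = 2 ∧ s' χ = 2 then 1 else 0) * (4 * (k + 1) ^ 2) +
        (if K' χ = 1 ∧ s' χ = 2 then 1 else 0) * (2 * k + 1) ^ 2 + (if K' χ = 1 ∧ s' χ = 1 then 1 else 0) * (k + 1) ^ 2 +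
        (if K' χ = 0 ∧ s' χ = 1 then 1 else 0) * k ^ 2 + (if K' χ = 0 ∧ s' χ = 2 then 1 else 0) * (4 * k ^ 2) := by
      intro χ
      rw [hdeg' χ]
      rcases ty' χ with h | h | h | h | h | h <;> rw [h.1, h.2] <;> simp <;> ring
    rw [Finset.sum_congr rfl (fun χ _ => h4 χ), Finset.sum_add_distrib, Finset.sum_add_distrib, Finset.sum_add_distrib,
      Finset.sum_add_distrib, Finset.sum_add_distrib,
      ← Finset.sum_mul, ← Finset.sum_mul, ← Finset.sum_mul, ← Finset.sum_mul, ← Finset.sum_mul, ← Finset.sum_mul,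
      ← Finset.card_filter, ← Finset.card_filter,
      ← Finset.card_filter, ← Finset.card_filter, ← Finset.card_filter, ← Finset.card_filter]
  have e1' : t0 * 1 + t1 * (4 * (k + 1)) + t2 * (2 * k + 1) + t3 * (k + 1) = 2 * k * (k + 1) := by rw [← c1]; exact e1
  have e2' : t0 * 1 + t1 * (4 * (k + 1) ^ 2) + t2 * (2 * k + 1) ^ 2 + t3 * (k + 1) ^ 2 + t4 * k ^ 2 + t5 * (4 * k ^ 2) =
      (2 * k + 1) * (2 * k * (k + 1)) := by rw [← c2, ← hcard]; exact e2
  have ht0' : t0 = 1 := le_antisymm b0 b0'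
  have ht2' : t2 = 1 := by
    rcases Nat.lt_or_ge t2 1 with h | h
    · exfalso
      have h4 : t2 = 0 := by omega
      rw [ht0', h4] at e1'
      have h5 : (k + 1) ∣ 1 := by
        have h6 : (k + 1) ∣ 1 + (4 * t1 + t3) * (k + 1) := by
          have : 1 + (4 * t1 + t3) * (k + 1) = 2 * k * (k + 1) := by linarith
          rw [this]; exact Dvd.intro_left _ rfl
        exact (Nat.dvd_add_left (Dvd.intro_left _ rfl)).1 h6
      have := Nat.dvd_one.1 h5
      omega
    · exact le_antisymm b2 h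
  rw [ht0', ht2'] at e1' e2'
  have f1 : 4 * t1 + t3 + 2 = 2 * k := by
    have h4 : (4 * t1 + t3 + 2) * (k + 1) = 2 * k * (k + 1) := by linarith
    exact Nat.eq_of_mul_eq_mul_right (by omega) h4
  have f2 : 4 * t5 + t4 = 2 * k := by
    have h4 : (4 * t5 + t4) * k ^ 2 = 2 * k * k ^ 2 := by
      zify at e2' f1 ⊢
      have h5 : (t3 : ℤ) = 2 * k - 2 - 4 * t1 := by linarith
      rw [h5] at e2'
      linarith [e2']
    exact Nat.eq_of_mul_eq_mul_right (by positivity) h4
  exact ⟨K', s', hdeg', ty', ht2', by omega, fun h => by omega⟩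

end CfsgLib.Psl19
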