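import Cfsg.Agent.EqBase
import Cfsg.Agent.LibG2L

set_option autoImplicit false
open Cfsg

namespace Cfsg.Agent.S2299


open scoped ComplexConjugate
open CfsgLib.CharBasic CfsgLib.G2A CfsgLib.G2B CfsgLib.G2C CfsgLib.G2D CfsgLib.G2E CfsgLib.G2F CfsgLib.G2G CfsgLib.G2H CfsgLib.G2I CfsgLib.G2J CfsgLib.G2K CfsgLib.G2L


/-- Over a finite field F with q elements, q odd, every irreducible complex character of SL₂ has degree 1, q, q + 1, q − 1, (q + 1)/2 or (q − 1)/2; and when q ≥ 5 (so that these six numbers are distinct) there are exactly one irreducible character of degree 1, one of degree q, (q − 3)/2 of degree q + 1, (q − 1)/2 of degree q − 1, two of degree (q + 1)/2 and two of degree (q − 1)/2. -/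
theorem result {F : Type*} [Field F] [Fintype F] (hodd : Odd (Fintype.card F)) :
    (∀ χ : Matrix.SpecialLinearGroup (Fin 2) F → ℂ, Cfsg.IsIrrCharacter (Matrix.SpecialLinearGroup (Fin 2) F) χ →
      χ 1 = 1 ∨ χ 1 = (Fintype.card F : ℂ) ∨ χ 1 = (Fintype.card F : ℂ) + 1 ∨ χ 1 = (Fintype.card F : ℂ) - 1 ∨
        χ 1 = (((Fintype.card F + 1) / 2 : ℕ) : ℂ) ∨ χ 1 = (((Fintype.card F - 1) / 2 : ℕ) : ℂ)) ∧
    (5 ≤ Fintype.card F →
      Nat.card {χ : Cfsg.IrrCharacter (Matrix.SpecialLinearGroup (Fin 2) F) // (χ : Matrix.SpecialLinearGroup (Fin 2) F → ℂ) 1 = 1} = 1 ∧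
      Nat.card {χ : Cfsg.IrrCharacter (Matrix.SpecialLinearGroup (Fin 2) F) // (χ : Matrix.SpecialLinearGroup (Fin 2) F → ℂ) 1 = (Fintype.card F : ℂ)} = 1 ∧
      Nat.card {χ : Cfsg.IrrCharacter (Matrix.SpecialLinearGroup (Fin 2) F) // (χ : Matrix.SpecialLinearGroup (Fin 2) F → ℂ) 1 = (Fintype.card F : ℂ) + 1} = (Fintype.card F - 3) / 2 ∧
      Nat.card {χ : Cfsg.IrrCharacter (Matrix.SpecialLinearGroup (Fin 2) F) // (χ : Matrix.SpecialLinearGroup (Fin 2) F → ℂ) 1 = (Fintype.card F : ℂ) - 1} = (Fintype.card F - 1) / 2 ∧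
      Nat.card {χ : Cfsg.IrrCharacter (Matrix.SpecialLinearGroup (Fin 2) F) // (χ : Matrix.SpecialLinearGroup (Fin 2) F → ℂ) 1 = (((Fintype.card F + 1) / 2 : ℕ) : ℂ)} = 2 ∧
      Nat.card {χ : Cfsg.IrrCharacter (Matrix.SpecialLinearGroup (Fin 2) F) // (χ : Matrix.SpecialLinearGroup (Fin 2) F → ℂ) 1 = (((Fintype.card F - 1) / 2 : ℕ) : ℂ)} = 2) := by

  classical
  have hq : 3 ≤ Fintype.card F := by
    have h2 : 2 ≤ Fintype.card F := Fintype.one_lt_card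
    obtain ⟨k, hk⟩ := hodd
    omega
  obtain ⟨ν, hν⟩ := FiniteField.exists_nonsquare (ringChar_ne_two (two_ne_of_odd hodd))
  obtain ⟨ψ, hψ⟩ := exists_addChar (F := F)
  obtain ⟨K, a, b, h0, h1, h2, h3, ha, hb, hK, hK2, hK0, n1, n2, n3, n4, n5, n6⟩ := odd_main hodd hν hψ
  have e1 : (1 : ℂ) = ((1 : ℕ) : ℂ) := by simp
  have e2 : (Fintype.card F : ℂ) + 1 = ((Fintype.card F + 1 : ℕ) : ℂ) := by push_cast; ring
  have e3 : (Fintype.card F : ℂ) - 1 = ((Fintype.card F - 1 : ℕ) : ℂ) := by push_cast [Nat.cast_sub (by omega : 1 ≤ Fintype.card F)]; ring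
  constructor
  · intro χ hχ
    have h1' : 2 * χ 1 = 2 * K ⟨χ, hχ⟩ + ((Fintype.card F : ℂ) - 1) * (a ⟨χ, hχ⟩ + b ⟨χ, hχ⟩) := h1 ⟨χ, hχ⟩
    have hn := nat2 (by omega : 1 ≤ Fintype.card F) h1'
    have ht := type_cases hq hodd (ha ⟨χ, hχ⟩) (hb ⟨χ, hχ⟩) (hK ⟨χ, hχ⟩) (hK2 ⟨χ, hχ⟩) (hK0 ⟨χ, hχ⟩)
    rw [e2, e3]
    conv => lhs; rw [e1]
    rw [hn, hn, hn, hn, hn, hn]
    tauto
  · intro hq5
    have key : ∀ χ : IrrCharacter (Matrix.SpecialLinearGroup (Fin 2) F), ∀ n : ℕ,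
        (χ : Matrix.SpecialLinearGroup (Fin 2) F → ℂ) 1 = (n : ℂ) ↔ 2 * K χ + (Fintype.card F - 1) * (a χ + b χ) = 2 * n :=
      fun χ => nat2 (by omega : 1 ≤ Fintype.card F) (h1 χ)
    have tt := fun χ => type_iff hq5 hodd (ha χ) (hb χ) (hK χ) (hK2 χ) (hK0 χ)
    refine ⟨?_, ?_, ?_, ?_, ?_, ?_⟩
    · rw [← n1]
      refine Nat.card_congr (Equiv.subtypeEquivRight fun χ => ?_)
      rw [← (tt χ).1, ← key χ 1, Nat.cast_one]
    · rw [← n3]
      refine Nat.card_congr (Equiv.subtypeEquivRight fun χ => ?_)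
      rw [← (tt χ).2.1, ← key χ]
    · have : Nat.card {χ : IrrCharacter (Matrix.SpecialLinearGroup (Fin 2) F) // (χ : Matrix.SpecialLinearGroup (Fin 2) F → ℂ) 1 = (Fintype.card F : ℂ) + 1} = Nat.card {χ // K χ = 2} := by
        refine Nat.card_congr (Equiv.subtypeEquivRight fun χ => ?_)
        rw [← (tt χ).2.2.1, ← key χ, e2]
      omega
    · have : Nat.card {χ : IrrCharacter (Matrix.SpecialLinearGroup (Fin 2) F) // (χ : Matrix.SpecialLinearGroup (Fin 2) F → ℂ) 1 = (Fintype.card F : ℂ) - 1} = Nat.card {χ // K χ = 0 ∧ a χ + b χ = 2} := by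
        refine Nat.card_congr (Equiv.subtypeEquivRight fun χ => ?_)
        rw [← (tt χ).2.2.2.1, ← key χ, e3]
      omega
    · refine Eq.trans (Nat.card_congr (Equiv.subtypeEquivRight fun χ => ?_)) n4
      rw [← (tt χ).2.2.2.2.1, ← key χ]
    · refine Eq.trans (Nat.card_congr (Equiv.subtypeEquivRight fun χ => ?_)) n5
      rw [← (tt χ).2.2.2.2.2, ← key χ]

end Cfsg.Agent.S2299
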