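import Mathlib
import Cfsg.Agent.EqBase
import Cfsg.Agent.LibPslA19
import Cfsg.Agent.S2299
import Cfsg.Agent.S2300

set_option autoImplicit false
set_option maxHeartbeats 800000
set_option linter.unusedSectionVars false

/-! Degrees of the irreducible characters of PSL(2,q), the degree graph (helper19) -/

namespace CfsgLib.Psl19

open Finset Matrix Cfsg CfsgLib.CharBasic CfsgLib.G2B CfsgLib.G2C CfsgLib.G2F CfsgLib.G2J CfsgLib.G2K CfsgLib.G2L CfsgLib.Tor
open scoped ComplexConjugate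

universe u v w
variable {F : Type v} [Field F] [Fintype F]

theorem deg_comp {G : Type u} {H : Type w} [Group G] [Group H] (f : G ≃* H) (χ : IrrCharacter H) :
    charDegree ((χ : H → ℂ) ∘ f) = charDegree (χ : H → ℂ) := by
  unfold charDegree
  rw [Function.comp_apply, map_one]

theorem charDegrees_congr {G : Type u} {H : Type w} [Group G] [Group H] (f : G ≃* H) : charDegrees G = charDegrees H := by
  ext d
  constructor
  · rintro ⟨χ, hχ⟩
    refine ⟨⟨(χ : G → ℂ) ∘ f.symm, isIrrCharacter_comp_equiv χ.2 f.symm⟩, ?_⟩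
    rw [← hχ]
    exact deg_comp f.symm χ
  · rintro ⟨χ, hχ⟩
    refine ⟨⟨(χ : H → ℂ) ∘ f, isIrrCharacter_comp_equiv χ.2 f⟩, ?_⟩
    rw [← hχ]
    exact deg_comp f χ

/-- in characteristic two `PSL` is `SL` -/
noncomputable def slPsl [CharP F 2] : SpecialLinearGroup (Fin 2) F ≃* ProjectiveSpecialLinearGroup (Fin 2) F :=
  MulEquiv.ofBijective (QuotientGroup.mk' (Subgroup.center (SpecialLinearGroup (Fin 2) F))) (by
    refine ⟨?_, QuotientGroup.mk'_surjective _⟩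
    rw [← MonoidHom.ker_eq_bot_iff, QuotientGroup.ker_mk', Subgroup.eq_bot_iff_forall]
    intro g hg
    rw [Matrix.SpecialLinearGroup.mem_center_iff] at hg
    obtain ⟨r, h1, h2⟩ := hg
    have h3 : r = 1 := by
      rw [Fintype.card_fin] at h1
      have h4 : (r - 1) ^ 2 = 0 := by
        have h5 : (2 : F) = 0 := CharP.cast_eq_zero F 2
        linear_combination h1 + (1 - r) * h5
      exact sub_eq_zero.1 (pow_eq_zero_iff (two_ne_zero) |>.1 h4)
    apply Subtype.ext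
    rw [← h2, h3]
    simp)

theorem deg_iff {G : Type u} [Group G] [Finite G] (d : ℕ) : d ∈ charDegrees G ↔ ∃ χ : IrrCharacter G, (χ : G → ℂ) 1 = (d : ℂ) := by
  constructor
  · rintro ⟨χ, hχ⟩
    exact ⟨χ, by rw [CfsgLib.CharInt.irr_one_eq_charDegree χ.2, hχ]⟩
  · rintro ⟨χ, hχ⟩
    refine ⟨χ, ?_⟩
    rw [CfsgLib.CharInt.irr_one_eq_charDegree χ.2] at hχ
    exact_mod_cast hχ

/-- degrees of SL(2,q), q even -/
theorem degs_even [CharP F 2] (h4 : 4 ≤ Fintype.card F) (d : ℕ) :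
    d ∈ charDegrees (SpecialLinearGroup (Fin 2) F) ↔ d = 1 ∨ d = Fintype.card F ∨ d = Fintype.card F + 1 ∨ d = Fintype.card F - 1 := by
  obtain ⟨h1, h2⟩ := Cfsg.Agent.S2300.result (F := F)
  obtain ⟨n1, n2, n3, n4⟩ := h2 h4
  have e2 : (Fintype.card F : ℂ) + 1 = ((Fintype.card F + 1 : ℕ) : ℂ) := by push_cast; ring
  have e3 : (Fintype.card F : ℂ) - 1 = ((Fintype.card F - 1 : ℕ) : ℂ) := by push_cast [Nat.cast_sub (by omega : 1 ≤ Fintype.card F)]; ring
  rw [deg_iff]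
  constructor
  · rintro ⟨χ, hχ⟩
    rcases h1 _ χ.2 with h | h | h | h
    · rw [hχ] at h; left; exact_mod_cast h
    · rw [hχ, e3] at h; right; right; right; exact_mod_cast h
    · rw [hχ] at h; right; left; exact_mod_cast h
    · rw [hχ, e2] at h; right; right; left; exact_mod_cast h
  · have hne : ∀ {n : ℕ} {P : IrrCharacter (SpecialLinearGroup (Fin 2) F) → Prop}, Nat.card {χ // P χ} = n → 0 < n → ∃ χ, P χ := by
      intro n P h h0
      have : Nonempty {χ // P χ} := by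
        by_contra hcon
        rw [not_nonempty_iff] at hcon
        rw [Nat.card_of_isEmpty] at h
        omega
      obtain ⟨⟨χ, hχ⟩⟩ := this
      exact ⟨χ, hχ⟩
    rintro (h | h | h | h)
    · obtain ⟨χ, hχ⟩ := hne n1 (by omega)
      exact ⟨χ, by rw [hχ, h, Nat.cast_one]⟩
    · obtain ⟨χ, hχ⟩ := hne n2 (by omega)
      exact ⟨χ, by rw [hχ, h]⟩
    · obtain ⟨χ, hχ⟩ := hne n3 (by omega)
      exact ⟨χ, by rw [hχ, h, e2]⟩
    · obtain ⟨χ, hχ⟩ := hne n4 (by omega)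
      exact ⟨χ, by rw [hχ, h, e3]⟩

theorem sq_sub {q : ℕ} (hq : 1 ≤ q) : q ^ 2 - 1 = (q + 1) * (q - 1) := by
  have := Nat.sq_sub_sq q 1
  simpa using this

theorem s4812 [CharP F 2] (q : ℕ) (hq : Fintype.card F = q) (h4 : 4 ≤ q) {S : Type u} [Group S] [Finite S]
    (hS : Nonempty (S ≃* Matrix.ProjectiveSpecialLinearGroup (Fin 2) F) ∨ Nonempty (S ≃* Matrix.SpecialLinearGroup (Fin 2) F)) :
    Cfsg.degreePrimes S = {r : ℕ | r.Prime ∧ r ∣ q * (q ^ 2 - 1)} ∧ ∀ r s : ℕ, (Cfsg.degreeGraph S).Adj r s ↔ (r ≠ s ∧ r.Prime ∧ s.Prime ∧ ((r ∣ q + 1 ∧ s ∣ q + 1) ∨ (r ∣ q - 1 ∧ s ∣ q - 1))) := by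
  have hdeg : ∀ d, d ∈ charDegrees S ↔ d = 1 ∨ d = q ∨ d = q + 1 ∨ d = q - 1 := by
    intro d
    rw [← hq, ← degs_even (by omega : 4 ≤ Fintype.card F) d]
    rcases hS with ⟨⟨f⟩⟩ | ⟨⟨f⟩⟩
    · rw [charDegrees_congr (f.trans slPsl.symm)]
    · rw [charDegrees_congr f]
  obtain ⟨n, hn⟩ : ∃ n : ℕ, q = 2 ^ n := by
    obtain ⟨n, -, hn⟩ := FiniteField.card F 2
    exact ⟨n, by rw [← hq, hn]⟩
  constructor
  · ext r
    constructor
    · rintro ⟨hr, d, hd, hrd⟩
      refine ⟨hr, ?_⟩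
      rw [sq_sub (by omega)]
      rcases (hdeg d).1 hd with h | h | h | h
      · rw [h] at hrd
        exact absurd (Nat.dvd_one.1 hrd) hr.one_lt.ne'
      · rw [h] at hrd
        exact Dvd.dvd.mul_right hrd _
      · rw [h] at hrd
        exact Dvd.dvd.mul_left (Dvd.dvd.mul_right hrd _) _
      · rw [h] at hrd
        exact Dvd.dvd.mul_left (Dvd.dvd.mul_left hrd _) _
    · rintro ⟨hr, hrd⟩
      rw [sq_sub (by omega), hr.dvd_mul, hr.dvd_mul] at hrd
      refine ⟨hr, ?_⟩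
      rcases hrd with h | h | h
      · exact ⟨q, (hdeg _).2 (Or.inr (Or.inl rfl)), h⟩
      · exact ⟨q + 1, (hdeg _).2 (Or.inr (Or.inr (Or.inl rfl))), h⟩
      · exact ⟨q - 1, (hdeg _).2 (Or.inr (Or.inr (Or.inr rfl))), h⟩
  · intro r s
    constructor
    · rintro ⟨hrs, hr, hs, d, hd, hrd⟩
      refine ⟨hrs, hr, hs, ?_⟩
      have h1 : r ∣ d := (Dvd.intro _ rfl).trans hrd
      have h2 : s ∣ d := (Dvd.intro_left _ rfl).trans hrd
      rcases (hdeg d).1 hd with h | h | h | h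
      · rw [h] at h1
        exact absurd (Nat.dvd_one.1 h1) hr.one_lt.ne'
      · exfalso
        rw [h, hn] at h1 h2
        have h5 := (Nat.prime_dvd_prime_iff_eq hr Nat.prime_two).1 (hr.dvd_of_dvd_pow h1)
        have h6 := (Nat.prime_dvd_prime_iff_eq hs Nat.prime_two).1 (hs.dvd_of_dvd_pow h2)
        exact hrs (h5.trans h6.symm)
      · rw [h] at h1 h2; exact Or.inl ⟨h1, h2⟩
      · rw [h] at h1 h2; exact Or.inr ⟨h1, h2⟩
    · rintro ⟨hrs, hr, hs, h⟩
      refine ⟨hrs, hr, hs, ?_⟩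
      have hc : Nat.Coprime r s := (Nat.coprime_primes hr hs).2 hrs
      rcases h with h | h
      · exact ⟨q + 1, (hdeg _).2 (Or.inr (Or.inr (Or.inl rfl))), hc.mul_dvd_of_dvd_of_dvd h.1 h.2⟩
      · exact ⟨q - 1, (hdeg _).2 (Or.inr (Or.inr (Or.inr rfl))), hc.mul_dvd_of_dvd_of_dvd h.1 h.2⟩

theorem graph_odd {S : Type u} [Group S] (t : ℕ) (ht : t.Prime) {q n : ℕ} (hn : q = t ^ n) (hodd : Odd q) (h3 : 3 ≤ q)
    (hsub : ∀ d ∈ charDegrees S, d = 1 ∨ d = q ∨ d ∣ q + 1 ∨ d ∣ q - 1)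
    (h1 : q ∈ charDegrees S) (h2 : q + 1 ∈ charDegrees S) (h3' : q - 1 ∈ charDegrees S) :
    Cfsg.degreePrimes S = {r : ℕ | r.Prime ∧ r ∣ q * (q ^ 2 - 1)} ∧ ∀ r s : ℕ, (Cfsg.degreeGraph S).Adj r s ↔ (r ≠ s ∧ r.Prime ∧ s.Prime ∧ r ∣ q ^ 2 - 1 ∧ s ∣ q ^ 2 - 1 ∧ (r = 2 ∨ s = 2 ∨ (r ∣ q + 1 ∧ s ∣ q + 1) ∨ (r ∣ q - 1 ∧ s ∣ q - 1))) := by
  have h21 : 2 ∣ q + 1 := by obtain ⟨k, hk⟩ := hodd; omega
  have h22 : 2 ∣ q - 1 := by obtain ⟨k, hk⟩ := hodd; omega
  constructor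
  · ext r
    constructor
    · rintro ⟨hr, d, hd, hrd⟩
      refine ⟨hr, ?_⟩
      rw [sq_sub (by omega)]
      rcases hsub d hd with h | h | h | h
      · rw [h] at hrd
        exact absurd (Nat.dvd_one.1 hrd) hr.one_lt.ne'
      · rw [h] at hrd
        exact Dvd.dvd.mul_right hrd _
      · exact Dvd.dvd.mul_left (Dvd.dvd.mul_right (hrd.trans h) _) _
      · exact Dvd.dvd.mul_left (Dvd.dvd.mul_left (hrd.trans h) _) _
    · rintro ⟨hr, hrd⟩
      rw [sq_sub (by omega), hr.dvd_mul, hr.dvd_mul] at hrd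
      refine ⟨hr, ?_⟩
      rcases hrd with h | h | h
      · exact ⟨q, h1, h⟩
      · exact ⟨q + 1, h2, h⟩
      · exact ⟨q - 1, h3', h⟩
  · intro r s
    rw [sq_sub (by omega)]
    constructor
    · rintro ⟨hrs, hr, hs, d, hd, hrd⟩
      refine ⟨hrs, hr, hs, ?_⟩
      have h1 : r ∣ d := (Dvd.intro _ rfl).trans hrd
      have h2 : s ∣ d := (Dvd.intro_left _ rfl).trans hrd
      rcases hsub d hd with h | h | h | h
      · rw [h] at h1
        exact absurd (Nat.dvd_one.1 h1) hr.one_lt.ne'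
      · exfalso
        rw [h, hn] at h1 h2
        have h5 := (Nat.prime_dvd_prime_iff_eq hr ht).1 (hr.dvd_of_dvd_pow h1)
        have h6 := (Nat.prime_dvd_prime_iff_eq hs ht).1 (hs.dvd_of_dvd_pow h2)
        exact hrs (h5.trans h6.symm)
      · have h5 := h1.trans h
        have h6 := h2.trans h
        exact ⟨Dvd.dvd.mul_right h5 _, Dvd.dvd.mul_right h6 _, Or.inr (Or.inr (Or.inl ⟨h5, h6⟩))⟩
      · have h5 := h1.trans h
        have h6 := h2.trans h
        exact ⟨Dvd.dvd.mul_left h5 _, Dvd.dvd.mul_left h6 _, Or.inr (Or.inr (Or.inr ⟨h5, h6⟩))⟩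
    · rintro ⟨hrs, hr, hs, hrd, hsd, h⟩
      refine ⟨hrs, hr, hs, ?_⟩
      have hc : Nat.Coprime r s := (Nat.coprime_primes hr hs).2 hrs
      rw [hr.dvd_mul] at hrd
      rw [hs.dvd_mul] at hsd
      have fin : (r ∣ q + 1 ∧ s ∣ q + 1) ∨ (r ∣ q - 1 ∧ s ∣ q - 1) := by
        rcases h with h | h | h
        · subst h
          rcases hsd with h | h
          · exact Or.inl ⟨h21, h⟩
          · exact Or.inr ⟨h22, h⟩
        · subst h
          rcases hrd with h | h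
          · exact Or.inl ⟨h, h21⟩
          · exact Or.inr ⟨h, h22⟩
        · exact h
      rcases fin with h | h
      · exact ⟨q + 1, h2, hc.mul_dvd_of_dvd_of_dvd h.1 h.2⟩
      · exact ⟨q - 1, h3', hc.mul_dvd_of_dvd_of_dvd h.1 h.2⟩

/-- degrees of SL(2,q), q odd -/
theorem degs_sl_odd (hodd : Odd (Fintype.card F)) (h5 : 5 < Fintype.card F) :
    (∀ d ∈ charDegrees (SpecialLinearGroup (Fin 2) F), d = 1 ∨ d = Fintype.card F ∨ d ∣ Fintype.card F + 1 ∨ d ∣ Fintype.card F - 1) ∧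
    Fintype.card F ∈ charDegrees (SpecialLinearGroup (Fin 2) F) ∧ Fintype.card F + 1 ∈ charDegrees (SpecialLinearGroup (Fin 2) F) ∧
    Fintype.card F - 1 ∈ charDegrees (SpecialLinearGroup (Fin 2) F) := by
  obtain ⟨h1, h2⟩ := Cfsg.Agent.S2299.result (F := F) hodd
  obtain ⟨n1, n2, n3, n4, n5, n6⟩ := h2 (by omega)
  have e2 : (Fintype.card F : ℂ) + 1 = ((Fintype.card F + 1 : ℕ) : ℂ) := by push_cast; ring
  have e3 : (Fintype.card F : ℂ) - 1 = ((Fintype.card F - 1 : ℕ) : ℂ) := by push_cast [Nat.cast_sub (by omega : 1 ≤ Fintype.card F)]; ring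
  have hne : ∀ {n : ℕ} {P : IrrCharacter (SpecialLinearGroup (Fin 2) F) → Prop}, Nat.card {χ // P χ} = n → 0 < n → ∃ χ, P χ := by
    intro n P h h0
    have : Nonempty {χ // P χ} := by
      by_contra hcon
      rw [not_nonempty_iff] at hcon
      rw [Nat.card_of_isEmpty] at h
      omega
    obtain ⟨⟨χ, hχ⟩⟩ := this
    exact ⟨χ, hχ⟩
  refine ⟨?_, ?_, ?_, ?_⟩
  · intro d hd
    rw [deg_iff] at hd
    obtain ⟨χ, hχ⟩ := hd
    obtain ⟨k, hk⟩ := hodd
    have hd2 : (Fintype.card F + 1) / 2 ∣ Fintype.card F + 1 := ⟨2, by omega⟩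
    have hd3 : (Fintype.card F - 1) / 2 ∣ Fintype.card F - 1 := ⟨2, by omega⟩
    rcases h1 _ χ.2 with h | h | h | h | h | h
    · rw [hχ] at h; left; exact_mod_cast h
    · rw [hχ] at h; right; left; exact_mod_cast h
    · rw [hχ, e2] at h; right; right; left
      have : d = Fintype.card F + 1 := by exact_mod_cast h
      rw [this]
    · rw [hχ, e3] at h; right; right; right
      have : d = Fintype.card F - 1 := by exact_mod_cast h
      rw [this]
    · rw [hχ] at h; right; right; left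
      have : d = (Fintype.card F + 1) / 2 := by exact_mod_cast h
      rw [this]; exact hd2
    · rw [hχ] at h; right; right; right
      have : d = (Fintype.card F - 1) / 2 := by exact_mod_cast h
      rw [this]; exact hd3
  · rw [deg_iff]
    exact hne n2 (by omega)
  · rw [deg_iff, ← e2]
    exact hne n3 (by omega)
  · rw [deg_iff, ← e3]
    exact hne n4 (by omega)

theorem exists_of_card {α : Type*} {s : Finset α} (h : 0 < s.card) : ∃ x, x ∈ s := Finset.card_pos.1 h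

theorem degs_psl_odd (hodd : Odd (Fintype.card F)) (h5 : 5 < Fintype.card F) :
    (∀ d ∈ charDegrees (ProjectiveSpecialLinearGroup (Fin 2) F), d = 1 ∨ d = Fintype.card F ∨ d ∣ Fintype.card F + 1 ∨ d ∣ Fintype.card F - 1) ∧
    Fintype.card F ∈ charDegrees (ProjectiveSpecialLinearGroup (Fin 2) F) ∧ Fintype.card F + 1 ∈ charDegrees (ProjectiveSpecialLinearGroup (Fin 2) F) ∧
    Fintype.card F - 1 ∈ charDegrees (ProjectiveSpecialLinearGroup (Fin 2) F) := by
  classical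
  obtain ⟨k, hk⟩ := hodd
  obtain ⟨K, s, hd, ty, n1, n2, n3⟩ := psl_counts (F := F) ⟨k, hk⟩ hk (by omega)
  refine ⟨?_, ?_, ?_, ?_⟩
  · rintro d ⟨χ, rfl⟩
    rw [hd χ, hk]
    rcases ty χ with h | h | h | h | h | h <;> rw [h.1, h.2]
    · left; ring
    · right; right; left; exact ⟨1, by ring⟩
    · right; left; ring
    · right; right; left; exact ⟨2, by ring⟩
    · right; right; right; exact ⟨2, by rw [Nat.add_sub_cancel]; ring⟩
    · right; right; right; exact ⟨1, by rw [Nat.add_sub_cancel]; ring⟩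
  · obtain ⟨χ, hχ⟩ := exists_of_card (by rw [n1]; norm_num)
    rw [Finset.mem_filter] at hχ
    exact ⟨χ, by rw [hd, hχ.2.1, hχ.2.2, hk]; ring⟩
  · obtain ⟨χ, hχ⟩ := exists_of_card (n3 (by omega))
    rw [Finset.mem_filter] at hχ
    exact ⟨χ, by rw [hd, hχ.2.1, hχ.2.2, hk]; ring⟩
  · obtain ⟨χ, hχ⟩ := exists_of_card n2
    rw [Finset.mem_filter] at hχ
    exact ⟨χ, by rw [hd, hχ.2.1, hχ.2.2, hk, Nat.add_sub_cancel]; ring⟩

theorem s4774 (t : ℕ) [ht0 : Fact t.Prime] [CharP F t] (ht : t ≠ 2) (q : ℕ) (hq : Fintype.card F = q) (h5 : 5 < q) {S : Type u} [Group S] [Finite S]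
    (hS : Nonempty (S ≃* Matrix.ProjectiveSpecialLinearGroup (Fin 2) F) ∨ Nonempty (S ≃* Matrix.SpecialLinearGroup (Fin 2) F)) :
    Cfsg.degreePrimes S = {r : ℕ | r.Prime ∧ r ∣ q * (q ^ 2 - 1)} ∧ ∀ r s : ℕ, (Cfsg.degreeGraph S).Adj r s ↔ (r ≠ s ∧ r.Prime ∧ s.Prime ∧ r ∣ q ^ 2 - 1 ∧ s ∣ q ^ 2 - 1 ∧ (r = 2 ∨ s = 2 ∨ (r ∣ q + 1 ∧ s ∣ q + 1) ∨ (r ∣ q - 1 ∧ s ∣ q - 1))) := by
  obtain ⟨n, -, hn⟩ := FiniteField.card F t
  have hodd : Odd (Fintype.card F) := by
    rw [hn]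
    exact (ht0.out.odd_of_ne_two ht).pow
  have key : (∀ d ∈ charDegrees S, d = 1 ∨ d = q ∨ d ∣ q + 1 ∨ d ∣ q - 1) ∧ q ∈ charDegrees S ∧ q + 1 ∈ charDegrees S ∧ q - 1 ∈ charDegrees S := by
    subst hq
    rcases hS with ⟨⟨f⟩⟩ | ⟨⟨f⟩⟩
    · rw [charDegrees_congr f]
      exact degs_psl_odd hodd h5
    · rw [charDegrees_congr f]
      exact degs_sl_odd hodd h5
  obtain ⟨k1, k2, k3, k4⟩ := key
  exact graph_odd t ht0.out (n := n) (by rw [← hq, hn]) (by rw [← hq]; exact hodd) (by omega) k1 k2 k3 k4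

theorem s4765 (p : ℕ) [hp : Fact p.Prime] [CharP F p] (hF : 4 ≤ Fintype.card F) :
    Nat.card {χ : Cfsg.IrrCharacter (Matrix.ProjectiveSpecialLinearGroup (Fin 2) F) // p ∣ Cfsg.charDegree (χ : Matrix.ProjectiveSpecialLinearGroup (Fin 2) F → ℂ)} = 1 ∧
    ∀ χ : Cfsg.IrrCharacter (Matrix.ProjectiveSpecialLinearGroup (Fin 2) F), p ∣ Cfsg.charDegree (χ : Matrix.ProjectiveSpecialLinearGroup (Fin 2) F → ℂ) →
      Cfsg.charDegree (χ : Matrix.ProjectiveSpecialLinearGroup (Fin 2) F → ℂ) = Fintype.card F := by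
  classical
  obtain ⟨n, -, hn⟩ := FiniteField.card F p
  have hpq : p ∣ Fintype.card F := by rw [hn]; exact dvd_pow_self p n.ne_zero
  have hp1 : ¬ p ∣ 1 := fun h => hp.out.one_lt.ne' (Nat.dvd_one.1 h)
  have hq1 : ¬ p ∣ Fintype.card F + 1 := fun h => hp1 ((Nat.dvd_add_right hpq).1 h)
  have hq2 : ¬ p ∣ Fintype.card F - 1 := fun h => hp1 (by
    have h1 := (Nat.dvd_sub hpq h)
    rwa [show Fintype.card F - (Fintype.card F - 1) = 1 by omega] at h1)
  by_cases h2 : p = 2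
  · subst h2
    have hd : ∀ χ : IrrCharacter (ProjectiveSpecialLinearGroup (Fin 2) F), 2 ∣ charDegree (χ : ProjectiveSpecialLinearGroup (Fin 2) F → ℂ) ↔
        charDegree (χ : ProjectiveSpecialLinearGroup (Fin 2) F → ℂ) = Fintype.card F := by
      intro χ
      have h3 : charDegree (χ : ProjectiveSpecialLinearGroup (Fin 2) F → ℂ) ∈ charDegrees (SpecialLinearGroup (Fin 2) F) := by
        rw [charDegrees_congr slPsl]; exact ⟨χ, rfl⟩
      rw [degs_even hF] at h3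
      constructor
      · intro h
        rcases h3 with h4 | h4 | h4 | h4
        · rw [h4] at h; exact absurd h hp1
        · exact h4
        · rw [h4] at h; exact absurd h hq1
        · rw [h4] at h; exact absurd h hq2
      · intro h; rw [h]; exact hpq
    refine ⟨?_, fun χ h => (hd χ).1 h⟩
    obtain ⟨-, h4⟩ := Cfsg.Agent.S2300.result (F := F)
    obtain ⟨-, n2, -, -⟩ := h4 hF
    rw [← n2]
    refine Nat.card_congr ⟨fun χ => ⟨⟨(χ.1 : ProjectiveSpecialLinearGroup (Fin 2) F → ℂ) ∘ slPsl, isIrrCharacter_comp_equiv χ.1.2 slPsl⟩, ?_⟩,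
      fun χ => ⟨⟨(χ.1 : SpecialLinearGroup (Fin 2) F → ℂ) ∘ slPsl.symm, isIrrCharacter_comp_equiv χ.1.2 slPsl.symm⟩, ?_⟩, ?_, ?_⟩
    · change (χ.1 : ProjectiveSpecialLinearGroup (Fin 2) F → ℂ) (slPsl 1) = _
      rw [map_one, CfsgLib.CharInt.irr_one_eq_charDegree χ.1.2, (hd χ.1).1 χ.2]
    · rw [hd]
      have h5 : charDegree ((χ.1 : SpecialLinearGroup (Fin 2) F → ℂ) ∘ slPsl.symm) = charDegree (χ.1 : SpecialLinearGroup (Fin 2) F → ℂ) := deg_comp slPsl.symm χ.1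
      have h6 := χ.2
      rw [CfsgLib.CharInt.irr_one_eq_charDegree χ.1.2] at h6
      have h7 : charDegree (χ.1 : SpecialLinearGroup (Fin 2) F → ℂ) = Fintype.card F := by exact_mod_cast h6
      exact h5.trans h7
    · intro χ
      apply Subtype.ext
      apply Subtype.ext
      funext x
      simp
    · intro χ
      apply Subtype.ext
      apply Subtype.ext
      funext x
      simp
  · have hodd : Odd (Fintype.card F) := by
      rw [hn]
      exact (hp.out.odd_of_ne_two h2).pow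
    obtain ⟨k, hk⟩ := hodd
    obtain ⟨K, s, hd, ty, n1, -, -⟩ := psl_counts (F := F) ⟨k, hk⟩ hk (by omega)
    have key : ∀ χ : IrrCharacter (ProjectiveSpecialLinearGroup (Fin 2) F), p ∣ charDegree (χ : ProjectiveSpecialLinearGroup (Fin 2) F → ℂ) ↔
        (K χ = 1 ∧ s χ = 2) := by
      intro χ
      rw [hd χ]
      have h3 : ¬ p ∣ k := fun h => hq2 (by rw [hk, Nat.add_sub_cancel]; exact Dvd.dvd.mul_left h 2)
      have h4 : ¬ p ∣ k + 1 := fun h => hq1 (by rw [hk, show 2 * k + 1 + 1 = 2 * (k + 1) by ring]; exact Dvd.dvd.mul_left h 2)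
      rcases ty χ with h | h | h | h | h | h <;> rw [h.1, h.2]
      · simp [hp.out.one_lt.ne']
      · constructor
        · intro h5; exfalso; apply hq1; rw [hk, show 2 * k + 1 + 1 = 2 + k * 2 by ring]; exact h5
        · intro h5; omega
      · refine ⟨fun _ => ⟨rfl, rfl⟩, fun _ => ?_⟩
        rw [show 1 + k * 2 = 2 * k + 1 by ring, ← hk]; exact hpq
      · constructor
        · intro h5; exfalso; apply h4; rw [show k + 1 = 1 + k * 1 by ring]; exact h5
        · intro h5; omega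
      · constructor
        · intro h5; exfalso; apply h3; rw [show k = 0 + k * 1 by ring]; exact h5
        · intro h5; omega
      · constructor
        · intro h5; exfalso; apply hq2; rw [hk, Nat.add_sub_cancel, show 2 * k = 0 + k * 2 by ring]; exact h5
        · intro h5; omega
    constructor
    · rw [← n1, Nat.card_eq_fintype_card, Fintype.card_subtype]
      congr 1
      ext χ
      rw [Finset.mem_filter, Finset.mem_filter, key]
    · intro χ h
      rw [hd χ, ((key χ).1 h).1, ((key χ).1 h).2, hk]; ring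

end CfsgLib.Psl19
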