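import Mathlib
import Cfsg.Agent.LibQForm27
import Cfsg.Agent.LibGUemb2H13
import Cfsg.Agent.LibH22OOrd3

set_option autoImplicit false

/-! Classification of even-dimensional quadratic forms over finite fields (after LibEps27c, seat helper13). -/

namespace CfsgLib.QCls

open Cfsg.Agent.H22 CfsgLib.QForm27 Module Matrix

universe u

section quad
open Polynomial

theorem exists_adjoin {F : Type u} [Field F] [Finite F] {a b : F} (hab : ∀ z₁ z₂ : F, z₁ ^ 2 + a * z₁ * z₂ + b * z₂ ^ 2 = 0 → z₁ = 0 ∧ z₂ = 0) :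
    ∃ (K : Type u) (_ : Field K) (_ : Algebra F K), finrank F K = 2 ∧ ∃ θ : K, θ ^ 2 + algebraMap F K a * θ + algebraMap F K b = 0 := by
  classical
  obtain ⟨f, hf⟩ : ∃ f : F[X], f = X ^ 2 + (C a * X + C b) := ⟨_, rfl⟩
  have hdeg : f.degree = 2 := by
    rw [hf]
    have : (C a * X + C b : F[X]).degree < 2 := by
      refine lt_of_le_of_lt (degree_linear_le) ?_
      decide
    rw [degree_add_eq_left_of_degree_lt (by rw [degree_X_pow]; exact this), degree_X_pow]; rfl
  have hnat : f.natDegree = 2 := natDegree_eq_of_degree_eq_some hdeg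
  have hmonic : f.Monic := by
    rw [hf]
    refine monic_X_pow_add ?_
    refine lt_of_le_of_lt (degree_linear_le) ?_
    decide
  have hirr : Irreducible f := by
    rw [hmonic.irreducible_iff_roots_eq_zero_of_degree_le_three (by rw [hnat]) (by rw [hnat]; norm_num)]
    apply Multiset.eq_zero_of_forall_notMem
    intro x hx
    rw [mem_roots hmonic.ne_zero, IsRoot.def, hf] at hx
    simp only [eval_add, eval_pow, eval_X, eval_mul, eval_C] at hx
    have h1 := hab x 1 (by linear_combination hx)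
    exact one_ne_zero h1.2
  haveI : Fact (Irreducible f) := ⟨hirr⟩
  have hfr : Module.finrank F (AdjoinRoot f) = 2 := by
    rw [(AdjoinRoot.powerBasis hirr.ne_zero).finrank, AdjoinRoot.powerBasis_dim, hnat]
  refine ⟨AdjoinRoot f, inferInstance, inferInstance, hfr, AdjoinRoot.root f, ?_⟩
  have h1 : (AdjoinRoot.root f) ^ 2 + (AdjoinRoot.of f a) * (AdjoinRoot.root f) + AdjoinRoot.of f b = 0 := by
    have := AdjoinRoot.eval₂_root f
    have h2 : ∀ g : F[X], g = X ^ 2 + (C a * X + C b) → g.eval₂ (AdjoinRoot.of f) (AdjoinRoot.root f) = (AdjoinRoot.root f) ^ 2 + ((AdjoinRoot.of f a) * (AdjoinRoot.root f) + AdjoinRoot.of f b) := by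
      intro g hg
      rw [hg]
      simp only [eval₂_add, eval₂_pow, eval₂_X, eval₂_mul, eval₂_C]
    rw [h2 f hf] at this
    rw [add_assoc]; exact this
  exact h1

theorem root_of_quad {F : Type u} [Field F] [Finite F] {K : Type*} [Field K] [Algebra F K] (hK : finrank F K = 2) {a b : F}
    (hab : ∀ z₁ z₂ : F, z₁ ^ 2 + a * z₁ * z₂ + b * z₂ ^ 2 = 0 → z₁ = 0 ∧ z₂ = 0) :
    ∃ θ : K, θ ^ 2 + algebraMap F K a * θ + algebraMap F K b = 0 := by
  haveI : Module.Finite F K := Module.finite_of_finrank_pos (by rw [hK]; norm_num)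
  haveI : Finite K := Module.finite_of_finite F
  obtain ⟨L, _, _, hL, θ, hθ⟩ := exists_adjoin hab
  haveI : Module.Finite F L := Module.finite_of_finrank_pos (by rw [hL]; norm_num)
  haveI : Finite L := Module.finite_of_finite F
  obtain ⟨φ⟩ := FiniteField.nonempty_algHom_of_finrank_dvd (F := F) (K := L) (L := K) (by rw [hK, hL])
  refine ⟨φ θ, ?_⟩
  have := congrArg φ hθ
  rw [map_add, map_add, map_mul, map_pow, map_zero, AlgHom.commutes, AlgHom.commutes] at this
  exact this


end quad

/-- anisotropic binary forms are equivalent -/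
theorem quad_equiv {F : Type u} [Field F] [Finite F] {a b a₁ b₁ : F} (hab : ∀ z₁ z₂ : F, z₁ ^ 2 + a * z₁ * z₂ + b * z₂ ^ 2 = 0 → z₁ = 0 ∧ z₂ = 0)
    (hab₁ : ∀ z₁ z₂ : F, z₁ ^ 2 + a₁ * z₁ * z₂ + b₁ * z₂ ^ 2 = 0 → z₁ = 0 ∧ z₂ = 0) :
    ∃ s t : F, t ≠ 0 ∧ a = 2 * s + a₁ * t ∧ b = s ^ 2 + a₁ * s * t + b₁ * t ^ 2 := by
  obtain ⟨K, _, _, hK, θ₁, hθ₁⟩ := exists_adjoin hab₁
  obtain ⟨θ, hθ⟩ := root_of_quad (K := K) hK hab
  haveI : Module.Finite F K := Module.finite_of_finrank_pos (by rw [hK]; norm_num)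
  have hj : Function.Injective (algebraMap F K) := (algebraMap F K).injective
  have hno : ∀ x : F, θ₁ ≠ algebraMap F K x := by
    intro x hx
    rw [hx, ← map_pow, ← map_mul, ← map_add, ← map_add, map_eq_zero_iff _ hj] at hθ₁
    exact one_ne_zero (hab₁ x 1 (by linear_combination hθ₁)).2
  have hno' : ∀ x : F, θ ≠ algebraMap F K x := by
    intro x hx
    rw [hx, ← map_pow, ← map_mul, ← map_add, ← map_add, map_eq_zero_iff _ hj] at hθ
    exact one_ne_zero (hab x 1 (by linear_combination hθ)).2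
  have hind : ∀ x y : F, algebraMap F K x + algebraMap F K y * θ₁ = 0 → x = 0 ∧ y = 0 := by
    intro x y h
    have hy : y = 0 := by
      by_contra hy
      have hy' : algebraMap F K y ≠ 0 := (map_ne_zero_iff _ hj).2 hy
      apply hno (-x / y)
      rw [map_div₀, map_neg, eq_div_iff hy']
      linear_combination h
    subst hy
    rw [map_zero, zero_mul, add_zero, map_eq_zero_iff _ hj] at h
    exact ⟨h, rfl⟩
  let φ : (F × F) →ₗ[F] K :=
    { toFun := fun p => algebraMap F K p.1 + algebraMap F K p.2 * θ₁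
      map_add' := fun p q => by simp only [Prod.fst_add, Prod.snd_add, map_add]; ring
      map_smul' := fun c p => by
        show algebraMap F K (c * p.1) + algebraMap F K (c * p.2) * θ₁ = c • (algebraMap F K p.1 + algebraMap F K p.2 * θ₁)
        rw [Algebra.smul_def, map_mul, map_mul]; ring }
  have hφi : Function.Injective φ := by
    rw [← LinearMap.ker_eq_bot, LinearMap.ker_eq_bot']
    rintro ⟨x, y⟩ h
    obtain ⟨h1, h2⟩ := hind x y h
    rw [h1, h2]; rfl
  have hφs : Function.Surjective φ := (LinearMap.injective_iff_surjective_of_finrank_eq_finrank (by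
    rw [hK, Module.finrank_prod, Module.finrank_self])).1 hφi
  obtain ⟨⟨x, y⟩, hxy⟩ := hφs θ
  have hxy' : algebraMap F K x + algebraMap F K y * θ₁ = θ := hxy
  have hy : y ≠ 0 := by
    rintro rfl
    rw [map_zero, zero_mul, add_zero] at hxy'
    exact hno' x hxy'.symm
  have key := hind (x ^ 2 - b₁ * y ^ 2 + a * x + b) (2 * x * y - a₁ * y ^ 2 + a * y) (by
    simp only [map_add, map_sub, map_mul, map_pow, map_ofNat]
    rw [← hxy'] at hθ
    linear_combination hθ - (algebraMap F K y) ^ 2 * hθ₁)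
  obtain ⟨k1, k2⟩ := key
  have k3 : a = a₁ * y - 2 * x := by
    have : y * (a - (a₁ * y - 2 * x)) = 0 := by linear_combination k2
    exact sub_eq_zero.1 ((mul_eq_zero.1 this).resolve_left hy)
  refine ⟨-x, y, hy, by rw [k3]; ring, ?_⟩
  rw [k3] at k1
  linear_combination k1

section coord
variable {F : Type u} [Field F] [Fintype F] {V : Type*} [AddCommGroup V] [Module F V] [FiniteDimensional F V] {Q : QuadraticForm F V}

theorem plus_coord {m : ℕ} (hfr : finrank F V = 2 * m) {s : Fin m → V × V} (hs : QFam Q m s) :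
    ∃ φ : (Fin m ⊕ Fin m → F) ≃ₗ[F] V, ∀ x, Q (φ x) = qPlus m F x := by
  let b : Fin m ⊕ Fin m → V := Sum.elim (fun i => (s i).1) (fun i => (s i).2)
  let φ0 : (Fin m ⊕ Fin m → F) →ₗ[F] V := (Pi.basisFun F _).constr F b
  have hφ0 : ∀ i, φ0 (Pi.single i 1) = b i := by
    intro i
    have := (Pi.basisFun F (Fin m ⊕ Fin m)).constr_basis F b i
    rwa [Pi.basisFun_apply] at this
  have hform : Q.comp φ0 = qPlus m F := by
    apply qf_ext (Pi.basisFun F _)
    · intro i
      rw [Pi.basisFun_apply, QuadraticMap.comp_apply, hφ0]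
      rcases i with i | i
      · show Q (s i).1 = _
        rw [(hs.1 i).1, coe_qPlus]; unfold Cfsg.quadFormPlus; simp [Pi.single_apply]
      · show Q (s i).2 = _
        rw [(hs.1 i).2, coe_qPlus]; unfold Cfsg.quadFormPlus; simp [Pi.single_apply]
    · intro i j
      have e1 : QuadraticMap.polar (⇑(Q.comp φ0)) (Pi.basisFun F _ i) (Pi.basisFun F _ j) = QuadraticMap.polar Q (b i) (b j) := by
        unfold QuadraticMap.polar
        simp only [QuadraticMap.comp_apply, map_add, Pi.basisFun_apply, hφ0]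
      rw [e1, Pi.basisFun_apply, Pi.basisFun_apply, polar_qPlus]
      rcases i with i | i <;> rcases j with j | j
      · show QuadraticMap.polar Q (s i).1 (s j).1 = _
        rw [(hs.2 i j).1]; simp [Pi.single_apply]
      · show QuadraticMap.polar Q (s i).1 (s j).2 = _
        rw [(hs.2 i j).2.2]
        by_cases h : i = j
        · subst h; simp [Pi.single_apply]
        · simp [Pi.single_apply, h, Ne.symm h]
      · show QuadraticMap.polar Q (s i).2 (s j).1 = _
        rw [QuadraticMap.polar_comm, (hs.2 j i).2.2]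
        by_cases h : i = j
        · subst h; simp [Pi.single_apply]
        · simp [Pi.single_apply, h, Ne.symm h]
      · show QuadraticMap.polar Q (s i).2 (s j).2 = _
        rw [(hs.2 i j).2.1]; simp [Pi.single_apply]
  have hq : ∀ x, Q (φ0 x) = 1 * qPlus m F x := fun x => by rw [one_mul]; exact congrArg (fun D : QuadraticForm F _ => D x) hform
  have hinj := inj_of_nondeg φ0 (nondeg_qPlus m) one_ne_zero hq
  exact ⟨φ0.linearEquivOfInjective hinj (by rw [hfr]; simp; omega), fun x => by rw [← one_mul (qPlus m F x)]; exact hq x⟩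

theorem minus_coord {m : ℕ} (hfr : finrank F V = 2 * m + 2) {s : Fin m → V × V} (hs : QFam Q m s) {w0 w1 : V} (hw0 : w0 ∈ cp Q s) (hw1 : w1 ∈ cp Q s)
    {d a b : F} (hd : d ≠ 0) (hab : ∀ z₁ z₂ : F, z₁ ^ 2 + a * z₁ * z₂ + b * z₂ ^ 2 = 0 → z₁ = 0 ∧ z₂ = 0) (h0 : Q w0 = d) (h01 : QuadraticMap.polar Q w0 w1 = d * a) (h1 : Q w1 = d * b) :
    ∃ φ : ((Fin m ⊕ Fin m) ⊕ Fin 2 → F) ≃ₗ[F] V, ∀ x, Q (φ x) = d * qMinus m F a b x := by
  let bs : (Fin m ⊕ Fin m) ⊕ Fin 2 → V := Sum.elim (Sum.elim (fun i => (s i).1) (fun i => d • (s i).2)) ![w0, w1]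
  let φ0 : ((Fin m ⊕ Fin m) ⊕ Fin 2 → F) →ₗ[F] V := (Pi.basisFun F _).constr F bs
  have hφ0 : ∀ i, φ0 (Pi.single i 1) = bs i := by
    intro i
    have := (Pi.basisFun F ((Fin m ⊕ Fin m) ⊕ Fin 2)).constr_basis F bs i
    rwa [Pi.basisFun_apply] at this
  have hform : Q.comp φ0 = d • qMinus m F a b := by
    apply qf_ext (Pi.basisFun F _)
    · intro i
      rw [Pi.basisFun_apply, QuadraticMap.comp_apply, hφ0, QuadraticMap.smul_apply, smul_eq_mul]
      rcases i with (i | i) | i
      · show Q (s i).1 = _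
        rw [(hs.1 i).1, coe_qMinus]; unfold Cfsg.quadFormMinus; simp [Pi.single_apply]
      · show Q (d • (s i).2) = _
        rw [qsmul, (hs.1 i).2, coe_qMinus]; unfold Cfsg.quadFormMinus; simp [Pi.single_apply]
      · fin_cases i
        · show Q w0 = _
          rw [h0, coe_qMinus]; unfold Cfsg.quadFormMinus; simp [Pi.single_apply]
        · show Q w1 = _
          rw [h1, coe_qMinus]; unfold Cfsg.quadFormMinus; simp [Pi.single_apply]
    · intro i j
      have e1 : QuadraticMap.polar (⇑(Q.comp φ0)) (Pi.basisFun F _ i) (Pi.basisFun F _ j) = QuadraticMap.polar Q (bs i) (bs j) := by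
        unfold QuadraticMap.polar
        simp only [QuadraticMap.comp_apply, map_add, Pi.basisFun_apply, hφ0]
      have e2 : QuadraticMap.polar (⇑(d • qMinus m F a b)) (Pi.basisFun F _ i) (Pi.basisFun F _ j) =
          d * QuadraticMap.polar (qMinus m F a b) (Pi.single i 1) (Pi.single j 1) := by
        unfold QuadraticMap.polar
        simp only [QuadraticMap.smul_apply, Pi.basisFun_apply, smul_eq_mul]; ring
      rw [e1, e2, polar_qMinus]
      rcases i with (i | i) | i <;> rcases j with (j | j) | j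
      · show QuadraticMap.polar Q (s i).1 (s j).1 = _
        rw [(hs.2 i j).1]; simp [Pi.single_apply]
      · show QuadraticMap.polar Q (s i).1 (d • (s j).2) = _
        rw [QuadraticMap.polar_smul_right, (hs.2 i j).2.2]
        by_cases h : i = j
        · subst h; simp [Pi.single_apply]
        · simp [Pi.single_apply, h, Ne.symm h]
      · have h3 : QuadraticMap.polar Q (s i).1 (bs (.inr j)) = 0 := by
          fin_cases j
          · exact (hw0 i).1
          · exact (hw1 i).1
        show QuadraticMap.polar Q (s i).1 (bs (.inr j)) = _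
        rw [h3]; simp [Pi.single_apply]
      · show QuadraticMap.polar Q (d • (s i).2) (s j).1 = _
        rw [QuadraticMap.polar_smul_left, QuadraticMap.polar_comm, (hs.2 j i).2.2]
        by_cases h : i = j
        · subst h; simp [Pi.single_apply]
        · simp [Pi.single_apply, h, Ne.symm h]
      · show QuadraticMap.polar Q (d • (s i).2) (d • (s j).2) = _
        rw [QuadraticMap.polar_smul_left, QuadraticMap.polar_smul_right, (hs.2 i j).2.1]; simp [Pi.single_apply]
      · have h3 : QuadraticMap.polar Q (s i).2 (bs (.inr j)) = 0 := by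
          fin_cases j
          · exact (hw0 i).2
          · exact (hw1 i).2
        show QuadraticMap.polar Q (d • (s i).2) (bs (.inr j)) = _
        rw [QuadraticMap.polar_smul_left, h3]; simp [Pi.single_apply]
      · have h3 : QuadraticMap.polar Q (s j).1 (bs (.inr i)) = 0 := by
          fin_cases i
          · exact (hw0 j).1
          · exact (hw1 j).1
        show QuadraticMap.polar Q (bs (.inr i)) (s j).1 = _
        rw [QuadraticMap.polar_comm, h3]; simp [Pi.single_apply]
      · have h3 : QuadraticMap.polar Q (s j).2 (bs (.inr i)) = 0 := by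
          fin_cases i
          · exact (hw0 j).2
          · exact (hw1 j).2
        show QuadraticMap.polar Q (bs (.inr i)) (d • (s j).2) = _
        rw [QuadraticMap.polar_smul_right, QuadraticMap.polar_comm, h3]; simp [Pi.single_apply]
      · fin_cases i <;> fin_cases j
        · show QuadraticMap.polar Q w0 w0 = _
          rw [pself, h0]; simp; ring
        · show QuadraticMap.polar Q w0 w1 = _
          rw [h01]; simp
        · show QuadraticMap.polar Q w1 w0 = _
          rw [QuadraticMap.polar_comm, h01]; simp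
        · show QuadraticMap.polar Q w1 w1 = _
          rw [pself, h1]; simp; ring
  have hq : ∀ x, Q (φ0 x) = d * qMinus m F a b x := fun x => congrArg (fun D : QuadraticForm F _ => D x) hform
  have hinj := inj_of_nondeg φ0 (nondeg_qMinus m a b hab) hd hq
  exact ⟨φ0.linearEquivOfInjective hinj (by rw [hfr]; simp; omega), hq⟩

end coord

section cls
variable {F : Type u} [Field F] [Fintype F] {V : Type*} [AddCommGroup V] [Module F V] [FiniteDimensional F V] {Q : QuadraticForm F V}

/-- classification in even dimension -/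
theorem even_coord (hQ : (QuadraticMap.polarBilin Q).Nondegenerate) {m : ℕ} (hfr : finrank F V = 2 * m + 2) :
    (∃ φ : (Fin (m + 1) ⊕ Fin (m + 1) → F) ≃ₗ[F] V, ∀ x, Q (φ x) = qPlus (m + 1) F x) ∨
    (∀ a b : F, (∀ z₁ z₂ : F, z₁ ^ 2 + a * z₁ * z₂ + b * z₂ ^ 2 = 0 → z₁ = 0 ∧ z₂ = 0) →
      ∃ (d : F) (φ : ((Fin m ⊕ Fin m) ⊕ Fin 2 → F) ≃ₗ[F] V), d ≠ 0 ∧ ∀ x, Q (φ x) = d * qMinus m F a b x) := by
  obtain ⟨s, hs⟩ := exists_fam m Q hQ (by omega)
  have h1 := finrank_cp hs
  have hcp : finrank F (cp Q s) = 2 := by omega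
  have hnd := nondeg_cp hs hQ
  by_cases hsing : ∃ v : cp Q s, v ≠ 0 ∧ Q (v : V) = 0
  · left
    obtain ⟨v, hv0, hv⟩ := hsing
    obtain ⟨f, hf⟩ := exists_HP_of_singular hnd v hv0 hv
    have hv' : Q (v : V) = 0 := hf.1
    have hf' : Q (f : V) = 0 := hf.2.1
    have hvf : QuadraticMap.polar Q (v : V) (f : V) = 1 := hf.2.2
    have hs' : QFam Q (m + 1) (Fin.snoc s ((v : V), (f : V))) := by
      refine ⟨fun i => ?_, fun i j => ?_⟩
      · refine Fin.lastCases ?_ (fun i => ?_) i
        · simp only [Fin.snoc_last]; exact ⟨hv', hf'⟩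
        · simp only [Fin.snoc_castSucc]; exact hs.1 i
      · refine Fin.lastCases ?_ (fun i => ?_) i <;> refine Fin.lastCases ?_ (fun j => ?_) j
        · simp only [Fin.snoc_last, if_true]
          exact ⟨by rw [pself, hv', mul_zero], by rw [pself, hf', mul_zero], hvf⟩
        · simp only [Fin.snoc_last, Fin.snoc_castSucc]
          rw [if_neg (Fin.castSucc_lt_last j).ne']
          exact ⟨by rw [QuadraticMap.polar_comm]; exact (v.2 j).1, by rw [QuadraticMap.polar_comm]; exact (f.2 j).2, by rw [QuadraticMap.polar_comm]; exact (v.2 j).2⟩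
        · simp only [Fin.snoc_last, Fin.snoc_castSucc]
          rw [if_neg (Fin.castSucc_lt_last i).ne]
          exact ⟨(v.2 i).1, (f.2 i).2, (f.2 i).1⟩
        · simp only [Fin.snoc_castSucc]
          refine ⟨(hs.2 i j).1, (hs.2 i j).2.1, ?_⟩
          rw [(hs.2 i j).2.2]
          simp only [Fin.castSucc_inj]
    exact plus_coord (by omega) hs'
  · right
    push Not at hsing
    intro a b hab
    haveI : Nontrivial (cp Q s) := Module.nontrivial_of_finrank_pos (R := F) (by omega)
    obtain ⟨w, hw⟩ := exists_ne (0 : cp Q s)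
    have hw' : Q (w : V) ≠ 0 := hsing w hw
    -- a second vector
    obtain ⟨v, hv⟩ : ∃ v : cp Q s, v ∉ Submodule.span F {w} := by
      by_contra hcon
      push Not at hcon
      have h3 : (⊤ : Submodule F (cp Q s)) ≤ Submodule.span F {w} := fun v _ => hcon v
      have h4 := Submodule.finrank_mono h3
      rw [finrank_top, hcp, finrank_span_singleton hw] at h4
      omega
    obtain ⟨d, hd⟩ : ∃ d, d = Q (w : V) := ⟨_, rfl⟩
    rw [← hd] at hw'
    obtain ⟨a₁, ha₁⟩ : ∃ a₁, a₁ = QuadraticMap.polar Q (w : V) (v : V) / d := ⟨_, rfl⟩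
    obtain ⟨b₁, hb₁⟩ : ∃ b₁, b₁ = Q (v : V) / d := ⟨_, rfl⟩
    have ha₁' : QuadraticMap.polar Q (w : V) (v : V) = d * a₁ := by rw [ha₁]; field_simp
    have hb₁' : Q (v : V) = d * b₁ := by rw [hb₁]; field_simp
    have hQc : ∀ z₁ z₂ : F, Q ((z₁ • w + z₂ • v : cp Q s) : V) = d * (z₁ ^ 2 + a₁ * z₁ * z₂ + b₁ * z₂ ^ 2) := by
      intro z₁ z₂
      have : ((z₁ • w + z₂ • v : cp Q s) : V) = z₁ • (w : V) + z₂ • (v : V) := rfl
      rw [this, qadd, qsmul, qsmul, QuadraticMap.polar_smul_left, QuadraticMap.polar_smul_right, ← hd, ha₁', hb₁', smul_eq_mul, smul_eq_mul]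
      ring
    have hab₁ : ∀ z₁ z₂ : F, z₁ ^ 2 + a₁ * z₁ * z₂ + b₁ * z₂ ^ 2 = 0 → z₁ = 0 ∧ z₂ = 0 := by
      intro z₁ z₂ hz
      have h3 : z₁ • w + z₂ • v = 0 := by
        by_contra h4
        exact hsing _ h4 (by rw [hQc, hz, mul_zero])
      have hz2 : z₂ = 0 := by
        by_contra hz2
        apply hv
        rw [Submodule.mem_span_singleton]
        refine ⟨-z₁ / z₂, ?_⟩
        have h5 : z₂ • v = -z₁ • w := by rw [neg_smul]; exact eq_neg_of_add_eq_zero_right h3
        rw [div_eq_inv_mul, mul_smul, ← h5, smul_smul, inv_mul_cancel₀ hz2, one_smul]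
      subst hz2
      rw [zero_smul, add_zero] at h3
      exact ⟨(smul_eq_zero.1 h3).resolve_right hw, rfl⟩
    obtain ⟨x, y, hy, ha, hb⟩ := quad_equiv hab hab₁
    refine ⟨d, ?_⟩
    obtain ⟨φ, hφ⟩ := minus_coord (a := a) (b := b) hfr hs w.2 (x • w + y • v : cp Q s).2 hw' hab hd.symm (by
      have : ((x • w + y • v : cp Q s) : V) = x • (w : V) + y • (v : V) := rfl
      rw [this, QuadraticMap.polar_add_right, QuadraticMap.polar_smul_right, QuadraticMap.polar_smul_right, pself, ← hd, ha₁', ha, smul_eq_mul, smul_eq_mul]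
      ring) (by rw [hQc, hb])
    exact ⟨φ, hw', hφ⟩

end cls


end CfsgLib.QCls
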