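import Mathlib
import Cfsg.Agent.EqBase
import Cfsg.Agent.LibCt5
import Cfsg.Agent.LibBlkS2

/-!
# A quadratic form bound for subsections (helper17)
-/

set_option autoImplicit false
set_option linter.unusedSectionVars false
set_option linter.style.haveILetI false
set_option linter.unusedSimpArgs false
set_option linter.unusedVariables false

namespace CfsgLib.Qb

open CfsgLib.CharInt hiding irr_isCharacter irr_classFun irr_one_ne_zero schur_scalar
open Cfsg CfsgLib.CharInt2 CfsgLib.CharBasic CfsgLib.BlockR CfsgLib.BlockCore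
  CfsgLib.BlockIdem CfsgLib.BlockIdeal CfsgLib.BlockConj CfsgLib.BlockBrauer CfsgLib.BlockInd
  CfsgLib.BlockFMT CfsgLib.BlockFMT2 CfsgLib.PLocalInd CfsgLib.BlockOrth CfsgLib.BlockDefect
  CfsgLib.BlockReg CfsgLib.BlockReg2 CfsgLib.BlockCount CfsgLib.BlockCount2 CfsgLib.BlockQP
  CfsgLib.BlockCov CfsgLib.BlockCov2 CfsgLib.BlockCov3 CfsgLib.BlockCov4 CfsgLib.BlockQuo
  CfsgLib.BlkS2
open scoped ComplexConjugate Pointwise

universe u

section QB
variable {M : Ideal AlgInt} {p : ℕ} [hpF : Fact p.Prime] {G : Type u} [Group G] [Fintype G]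
variable {x : G} [hFC : Fintype (Subgroup.centralizer ({x} : Set G))]

theorem inner_mem {n : ℕ} (hxn : x ^ (p ^ n) = 1) {a : Subgroup.centralizer ({x} : Set G) → ℂ}
    (ha : IsGeneralizedCharacter _ a) (χ : IrrCharacter G) :
    classInner a (Ct.th x (χ : G → ℂ)) ∈ Ct.Op p n := by
  obtain ⟨m, -, hm, -⟩ := gen_expand ha
  rw [hm, CharBasic.inner_sum_left]
  refine Subring.sum_mem _ fun ψ _ => ?_
  rw [CharBasic.inner_smul_left]
  refine Subring.mul_mem _ (intCast_mem _ _) ?_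
  rw [← CharBasic.inner_conj_symm]
  exact Ct.conj_mem (Ct.inner_th_mem hxn χ ψ)

/-- counting characters through norms of projective class functions -/
theorem qb {n : ℕ} (hxn : x ^ (p ^ n) = 1) {ι : Type*} [Fintype ι]
    (Θ : ι → Subgroup.centralizer ({x} : Set G) → ℂ) (hgen : ∀ i, IsGeneralizedCharacter _ (Θ i))
    (hs : ∀ i c, p ∣ orderOf c → Θ i c = 0) (S : Finset (IrrCharacter G)) (N : ℕ)
    [∀ χ : IrrCharacter G, DecidablePred (fun i => classInner (Θ i) (Ct.th x (χ : G → ℂ)) ≠ 0)]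
    (hS : ∀ χ ∈ S, N ≤ (Finset.univ.filter
      (fun i => classInner (Θ i) (Ct.th x (χ : G → ℂ)) ≠ 0)).card) (T : ℕ)
    (hT : ∑ i, classInner (Θ i) (Θ i) = T) : S.card * N ≤ T := by
  classical
  have hx : ∃ k : ℕ, orderOf x = p ^ k := by
    obtain ⟨k, _, hk⟩ := (Nat.dvd_prime_pow hpF.out).1 (orderOf_dvd_of_pow_eq_one hxn)
    exact ⟨k, hk⟩
  have h1 : ∀ i, ∀ k : (ZMod (p ^ n))ˣ, (∑ χ : IrrCharacter G,
      ‖Ct.sg p n k (classInner (Θ i) (Ct.th x (χ : G → ℂ)))‖ ^ 2 : ℝ) = (classInner (Θ i) (Θ i)).re := by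
    intro i k
    obtain ⟨t, ht⟩ := gen_inner_int (hgen i) (hgen i)
    have h2 := Ct.lift_inner hx (gen_classFun (hgen i)) (hs i) (hs i)
    have h3 := congrArg (Ct.sg p n k) h2
    rw [ht, map_sum, map_intCast] at h3
    have h4 : ∀ χ : IrrCharacter G, Ct.sg p n k (classInner (Θ i) (Ct.th x (χ : G → ℂ)) *
        conj (classInner (Θ i) (Ct.th x (χ : G → ℂ)))) =
        ((‖Ct.sg p n k (classInner (Θ i) (Ct.th x (χ : G → ℂ)))‖ ^ 2 : ℝ) : ℂ) := by
      intro χ
      rw [map_mul, Ct.sg_conj _ (inner_mem hxn (hgen i) χ), Complex.mul_conj, Complex.normSq_eq_norm_sq]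
    rw [Finset.sum_congr rfl (fun χ _ => h4 χ), ← Complex.ofReal_sum] at h3
    have h5 := congrArg Complex.re h3
    rw [Complex.ofReal_re] at h5
    rw [h5, ht]
  have hN : (0 : ℝ) < (Fintype.card (ZMod (p ^ n))ˣ : ℝ) := by
    exact_mod_cast Fintype.card_pos
  have h6 : ∑ i, ∑ χ ∈ S, ∑ k : (ZMod (p ^ n))ˣ,
      ‖Ct.sg p n k (classInner (Θ i) (Ct.th x (χ : G → ℂ)))‖ ^ 2 ≤
      (Fintype.card (ZMod (p ^ n))ˣ : ℝ) * T := by
    calc ∑ i, ∑ χ ∈ S, ∑ k : (ZMod (p ^ n))ˣ,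
        ‖Ct.sg p n k (classInner (Θ i) (Ct.th x (χ : G → ℂ)))‖ ^ 2
        ≤ ∑ i, ∑ χ : IrrCharacter G, ∑ k : (ZMod (p ^ n))ˣ,
          ‖Ct.sg p n k (classInner (Θ i) (Ct.th x (χ : G → ℂ)))‖ ^ 2 :=
          Finset.sum_le_sum fun i _ => Finset.sum_le_sum_of_subset_of_nonneg (Finset.subset_univ _)
            fun _ _ _ => Finset.sum_nonneg fun _ _ => by positivity
      _ = ∑ i, (Fintype.card (ZMod (p ^ n))ˣ : ℝ) * (classInner (Θ i) (Θ i)).re := by
          refine Finset.sum_congr rfl fun i _ => ?_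
          rw [Finset.sum_comm, Finset.sum_congr rfl (fun k _ => h1 i k), Finset.sum_const,
            Finset.card_univ, nsmul_eq_mul]
      _ = _ := by
          rw [← Finset.mul_sum, ← Complex.re_sum, hT, Complex.natCast_re]
  have h7 : ∀ χ ∈ S, (Fintype.card (ZMod (p ^ n))ˣ : ℝ) * N ≤ ∑ i, ∑ k : (ZMod (p ^ n))ˣ,
      ‖Ct.sg p n k (classInner (Θ i) (Ct.th x (χ : G → ℂ)))‖ ^ 2 := by
    intro χ hχ
    calc (Fintype.card (ZMod (p ^ n))ˣ : ℝ) * N ≤ (Fintype.card (ZMod (p ^ n))ˣ : ℝ) *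
        (Finset.univ.filter (fun i => classInner (Θ i) (Ct.th x (χ : G → ℂ)) ≠ 0)).card := by
          apply mul_le_mul_of_nonneg_left _ hN.le
          exact_mod_cast hS χ hχ
      _ = ∑ i ∈ Finset.univ.filter (fun i => classInner (Θ i) (Ct.th x (χ : G → ℂ)) ≠ 0),
          (Fintype.card (ZMod (p ^ n))ˣ : ℝ) := by
          rw [Finset.sum_const, nsmul_eq_mul, mul_comm]
      _ ≤ ∑ i ∈ Finset.univ.filter (fun i => classInner (Θ i) (Ct.th x (χ : G → ℂ)) ≠ 0),
          ∑ k : (ZMod (p ^ n))ˣ, ‖Ct.sg p n k (classInner (Θ i) (Ct.th x (χ : G → ℂ)))‖ ^ 2 :=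
          Finset.sum_le_sum fun i hi => Ct.card_le p n (inner_mem hxn (hgen i) χ)
            (Finset.mem_filter.1 hi).2
      _ ≤ _ := Finset.sum_le_sum_of_subset_of_nonneg (Finset.filter_subset _ _)
            fun _ _ _ => Finset.sum_nonneg fun _ _ => by positivity
  have h8 : (Fintype.card (ZMod (p ^ n))ˣ : ℝ) * (S.card * N : ℝ) ≤
      (Fintype.card (ZMod (p ^ n))ˣ : ℝ) * T := by
    refine le_trans ?_ h6
    rw [Finset.sum_comm]
    calc (Fintype.card (ZMod (p ^ n))ˣ : ℝ) * (S.card * N : ℝ) =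
        ∑ χ ∈ S, (Fintype.card (ZMod (p ^ n))ˣ : ℝ) * N := by
          rw [Finset.sum_const, nsmul_eq_mul]; ring
      _ ≤ _ := Finset.sum_le_sum h7
  have h9 := le_of_mul_le_mul_left h8 hN
  exact_mod_cast h9

end QB

/-! ### Lifting projective class functions from a quotient by a `p`-group -/

section Lift
variable {M : Ideal AlgInt} {p : ℕ} [hpF : Fact p.Prime] {K : Type u} [Group K] [Fintype K]
variable {Q : Subgroup K} [hQn : Q.Normal]

/-- the lift -/
noncomputable def til (p : ℕ) (Q : Subgroup K) [Q.Normal] (Ψ : K ⧸ Q → ℂ) : K → ℂ :=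
  (Nat.card Q : ℂ) • reg p (fun c : K => Ψ (c : K ⧸ Q))

theorem til_reg {Ψ : K ⧸ Q → ℂ} {c : K} (hc : ¬ p ∣ orderOf c) :
    til p Q Ψ c = (Nat.card Q : ℂ) * Ψ (c : K ⧸ Q) := by
  rw [til, Pi.smul_apply, reg_of hc, smul_eq_mul]

theorem til_sing {Ψ : K ⧸ Q → ℂ} {c : K} (hc : p ∣ orderOf c) : til p Q Ψ c = 0 := by
  rw [til, Pi.smul_apply, reg_not hc, smul_zero]

theorem til_sub (Ψ Ψ' : K ⧸ Q → ℂ) : til p Q (Ψ - Ψ') = til p Q Ψ - til p Q Ψ' := by
  funext c
  by_cases hc : p ∣ orderOf c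
  · rw [Pi.sub_apply, til_sing hc, til_sing hc, til_sing hc, sub_zero]
  · rw [Pi.sub_apply, til_reg hc, til_reg hc, til_reg hc, Pi.sub_apply]; ring

theorem lift_unique (hQ : IsPGroup p Q) (hC : ∀ g : K, ¬ p ∣ orderOf g → g ∈ Subgroup.centralizer (Q : Set K))
    {c c' : K} (hc : ¬ p ∣ orderOf c) (hc' : ¬ p ∣ orderOf c') (h : (c : K ⧸ Q) = c') : c = c' := by
  have h4 : c⁻¹ * c' ∈ Q := QuotientGroup.eq.mp h
  have h5 : Commute c (c⁻¹ * c') := (Subgroup.mem_centralizer_iff.mp (hC c hc) _ h4).symm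
  have h6 := eq_one_of_reg_mul (p := p) h5 (exists_pow_of_isPGroup hQ h4) hc
    (by rw [mul_inv_cancel_left]; exact hc')
  rw [inv_mul_eq_one] at h6
  exact h6

theorem mk_reg {c : K} (hc : ¬ p ∣ orderOf c) : ¬ p ∣ orderOf (c : K ⧸ Q) := fun h =>
  hc (h.trans (orderOf_map_dvd (QuotientGroup.mk' Q) c))

/-- sums over regular elements of the group and the quotient -/
theorem sum_reg [Fintype (K ⧸ Q)] (hQ : IsPGroup p Q)
    (hC : ∀ g : K, ¬ p ∣ orderOf g → g ∈ Subgroup.centralizer (Q : Set K))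
    (F : K → ℂ) (F' : K ⧸ Q → ℂ) (h : ∀ c : K, ¬ p ∣ orderOf c → F c = F' (c : K ⧸ Q)) :
    ∑ c : K, reg p F c = ∑ y : K ⧸ Q, reg p F' y := by
  classical
  rw [← Finset.sum_filter_add_sum_filter_not Finset.univ (fun g : K => p ∣ orderOf g)]
  rw [Finset.sum_eq_zero (s := Finset.univ.filter (fun g : K => p ∣ orderOf g))
    (fun g hg => reg_not (Finset.mem_filter.mp hg).2), zero_add]
  symm
  rw [← Finset.sum_filter_add_sum_filter_not Finset.univ (fun y : K ⧸ Q => p ∣ orderOf y)]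
  rw [Finset.sum_eq_zero (s := Finset.univ.filter (fun y : K ⧸ Q => p ∣ orderOf y))
    (fun g hg => reg_not (Finset.mem_filter.mp hg).2), zero_add]
  symm
  refine Finset.sum_bij (fun g _ => (g : K ⧸ Q)) ?_ ?_ ?_ ?_
  · intro g hg
    rw [Finset.mem_filter] at hg ⊢
    exact ⟨Finset.mem_univ _, mk_reg hg.2⟩
  · intro g hg g' hg' hgg
    exact lift_unique hQ hC (Finset.mem_filter.mp hg).2 (Finset.mem_filter.mp hg').2 hgg
  · intro y hy
    obtain ⟨g, hg, hgy⟩ := exists_reg_lift Q (Finset.mem_filter.mp hy).2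
    exact ⟨g, Finset.mem_filter.mpr ⟨Finset.mem_univ _, hg⟩, hgy⟩
  · intro g hg
    rw [reg_of (Finset.mem_filter.mp hg).2, reg_of (mk_reg (Finset.mem_filter.mp hg).2)]
    exact h g (Finset.mem_filter.mp hg).2

/-- inner products with lifts -/
theorem inner_til [Fintype (K ⧸ Q)] (hQ : IsPGroup p Q)
    (hC : ∀ g : K, ¬ p ∣ orderOf g → g ∈ Subgroup.centralizer (Q : Set K))
    (Ψ : K ⧸ Q → ℂ) (hΨ : ∀ y, p ∣ orderOf y → Ψ y = 0) (f : K → ℂ) (f' : K ⧸ Q → ℂ)
    (h : ∀ c : K, ¬ p ∣ orderOf c → f c = f' (c : K ⧸ Q)) :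
    classInner (til p Q Ψ) f = classInner Ψ f' := by
  have hQ0 : (Nat.card Q : ℂ) ≠ 0 := by exact_mod_cast Nat.card_pos.ne'
  have hH0 : (Nat.card (K ⧸ Q) : ℂ) ≠ 0 := by exact_mod_cast Nat.card_pos.ne'
  have h4 : (Nat.card K : ℂ) = (Nat.card (K ⧸ Q) : ℂ) * (Nat.card Q : ℂ) := by
    exact_mod_cast Subgroup.card_eq_card_quotient_mul_card_subgroup Q
  have h1 := sum_reg hQ hC (fun c : K => Ψ (c : K ⧸ Q) * conj (f c)) (fun y => Ψ y * conj (f' y))
    (fun c hc => by simp only [h c hc])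
  have h2 : ∀ c : K, til p Q Ψ c * conj (f c) =
      (Nat.card Q : ℂ) * reg p (fun c : K => Ψ (c : K ⧸ Q) * conj (f c)) c := by
    intro c
    by_cases hc : p ∣ orderOf c
    · rw [til_sing hc, reg_not hc, zero_mul, mul_zero]
    · rw [til_reg hc, reg_of hc]; ring
  have h3 : ∀ y : K ⧸ Q, Ψ y * conj (f' y) = reg p (fun y => Ψ y * conj (f' y)) y := by
    intro y
    by_cases hy : p ∣ orderOf y
    · rw [hΨ y hy, reg_not hy, zero_mul]
    · rw [reg_of hy]
  unfold classInner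
  rw [Finset.sum_congr rfl (fun c _ => h2 c), ← Finset.mul_sum, h1,
    Finset.sum_congr rfl (fun y _ => h3 y), h4]
  field_simp

theorem norm_til [Fintype (K ⧸ Q)] (hQ : IsPGroup p Q)
    (hC : ∀ g : K, ¬ p ∣ orderOf g → g ∈ Subgroup.centralizer (Q : Set K))
    (Ψ : K ⧸ Q → ℂ) (hΨ : ∀ y, p ∣ orderOf y → Ψ y = 0) :
    classInner (til p Q Ψ) (til p Q Ψ) = (Nat.card Q : ℂ) * classInner Ψ Ψ := by
  rw [inner_til hQ hC Ψ hΨ (til p Q Ψ) ((Nat.card Q : ℂ) • Ψ) (fun c hc => til_reg hc),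
    CharBasic.inner_smul_right, Complex.conj_natCast]

open Classical in
/-- the regular lift of the `p'`-part -/
noncomputable def rl (p : ℕ) [Fact p.Prime] (Q : Subgroup K) [Q.Normal] (y : K ⧸ Q) : K :=
  (exists_reg_lift (p := p) Q (isPPart_exists p y).choose_spec.choose_spec.2.2.2).choose

theorem rl_spec (y : K ⧸ Q) : ¬ p ∣ orderOf (rl p Q y) ∧ ∃ u, IsPPart p y u ∧ u * ((rl p Q y : K) : K ⧸ Q) = y := by
  have h := (exists_reg_lift (p := p) Q (isPPart_exists p y).choose_spec.choose_spec.2.2.2).choose_spec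
  refine ⟨h.1, (isPPart_exists p y).choose, (isPPart_exists p y).choose_spec, ?_⟩
  have h2 : ((rl p Q y : K) : K ⧸ Q) = (isPPart_exists p y).choose_spec.choose := h.2
  rw [h2]
  exact (isPPart_exists p y).choose_spec.choose_spec.1

theorem rl_unique (hQ : IsPGroup p Q) (hC : ∀ g : K, ¬ p ∣ orderOf g → g ∈ Subgroup.centralizer (Q : Set K))
    {y u : K ⧸ Q} (hu : IsPPart p y u) {c : K} (hc : ¬ p ∣ orderOf c) (h : u * (c : K ⧸ Q) = y) :
    rl p Q y = c := by
  obtain ⟨h1, u', h2, h3⟩ := rl_spec (p := p) y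
  have h4 : u' = u := isPPart_unique h2 hu
  apply lift_unique hQ hC h1 hc
  rw [h4] at h3
  exact mul_left_cancel (h3.trans h.symm)

theorem til_classFun {Ψ : K ⧸ Q → ℂ} (hΨ : IsClassFunction (K ⧸ Q) Ψ) :
    IsClassFunction K (til p Q Ψ) := by
  apply classFun_smul
  apply reg_classFun
  intro g h
  exact hΨ (g : K ⧸ Q) (h : K ⧸ Q)

/-- the lift of a projective generalized character is a generalized character -/
theorem til_gen [Fintype (K ⧸ Q)] (hQ : IsPGroup p Q)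
    (hC : ∀ g : K, ¬ p ∣ orderOf g → g ∈ Subgroup.centralizer (Q : Set K))
    {Ψ : K ⧸ Q → ℂ} (hg : IsGeneralizedCharacter (K ⧸ Q) Ψ) (hΨ : ∀ y, p ∣ orderOf y → Ψ y = 0) :
    IsGeneralizedCharacter K (til p Q Ψ) := by
  classical
  have hmk : IsGeneralizedCharacter K (fun c : K => Ψ (c : K ⧸ Q)) := by
    obtain ⟨m, -, hm, -⟩ := gen_expand hg
    have h1 : (fun c : K => Ψ (c : K ⧸ Q)) = ∑ ξ : IrrCharacter (K ⧸ Q),
        (m ξ : ℂ) • (fun c : K => (ξ : K ⧸ Q → ℂ) (c : K ⧸ Q)) := by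
      funext c
      conv_lhs => rw [hm]
      rw [Finset.sum_apply, Finset.sum_apply]
      rfl
    rw [h1]
    refine gen_sum _ _ fun ξ _ => gen_intsmul ?_ _
    exact gen_of_irr (isIrrCharacter_comp_surj ξ.2 (QuotientGroup.mk' Q) (QuotientGroup.mk'_surjective Q))
  apply gen_of_forall_local (til_classFun (gen_classFun hg))
  · intro q M hq hM ψ
    have hp := isPrime_of_modular hM
    by_cases hqp : q = p
    · subst hqp
      -- the conjugate character read on the quotient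
      set F : K ⧸ Q → ℂ := fun y => conj ((ψ : K → ℂ) (rl q Q y)) with hF
      have hFc : IsClassFunction (K ⧸ Q) F := by
        intro y h
        obtain ⟨k, rfl⟩ := QuotientGroup.mk_surjective h
        obtain ⟨h1, u, h2, h3⟩ := rl_spec (p := q) y
        have h4 : rl q Q ((k : K ⧸ Q) * y * (k : K ⧸ Q)⁻¹) = k * rl q Q y * k⁻¹ := by
          apply rl_unique hQ hC (isPPart_conj h2 (k : K ⧸ Q)) (by rwa [orderOf_conj])
          conv_rhs => rw [← h3]
          rw [QuotientGroup.mk_mul, QuotientGroup.mk_mul, QuotientGroup.mk_inv]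
          group
        change conj ((ψ : K → ℂ) (rl q Q ((k : K ⧸ Q) * y * (k : K ⧸ Q)⁻¹))) = _
        rw [h4, CharBasic.irr_classFun ψ.2]
      have hFR : RComb M F := by
        apply rcomb_of_secConst (p := q) hM hFc
        · intro y
          have h1 := irr_ring hp (⟨_, isIrrCharacter_conj ψ.2⟩ : IrrCharacter K) (rl q Q y)
          exact h1
        · intro y u hc hy hu
          obtain ⟨h1, u', h2, h3⟩ := rl_spec (p := q) y
          have h5 : u' = 1 := isPPart_unique h2 (isPPart_one hy)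
          rw [h5, one_mul] at h3
          have h4 : rl q Q (u * y) = rl q Q y := by
            apply rl_unique hQ hC (isPPart_mul hu hy hc) h1
            rw [h3]
          simp only [hF, h4]
      have h1 : classInner (til q Q Ψ) (ψ : K → ℂ) = (Nat.card (K ⧸ Q) : ℂ)⁻¹ * ∑ y : K ⧸ Q, Ψ y * F y := by
        rw [inner_til hQ hC Ψ hΨ (ψ : K → ℂ) (fun y => (ψ : K → ℂ) (rl q Q y))]
        · rfl
        · intro c hc
          have h2 : rl q Q (c : K ⧸ Q) = c :=
            rl_unique hQ hC (isPPart_one (mk_reg hc)) hc (one_mul _)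
          rw [h2]
      rw [h1]
      exact bil_ring hp (rcomb_gen hp hg) hFR
    · have h1 := rcomb_smul hp (ring_nat hp (Nat.card Q))
        (rcomb_reg hq hM hqp (rcomb_gen hp hmk))
      exact h1.2 ψ
  · intro σ ψ
    obtain ⟨m, -, hm, -⟩ := gen_expand hmk
    have h1 : reg p (fun c : K => Ψ (c : K ⧸ Q)) = ∑ ξ : IrrCharacter K, (m ξ : ℂ) • reg p (ξ : K → ℂ) := by
      funext c
      rw [Finset.sum_apply]
      by_cases hc : p ∣ orderOf c
      · rw [reg_not hc, Finset.sum_eq_zero]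
        intro ξ _
        rw [Pi.smul_apply, reg_not hc, smul_zero]
      · rw [reg_of hc]
        have := congrFun hm c
        rw [this, Finset.sum_apply]
        refine Finset.sum_congr rfl fun ξ _ => ?_
        rw [Pi.smul_apply, Pi.smul_apply, reg_of hc]
    rw [til, CharBasic.inner_smul_left, h1, CharBasic.inner_sum_left, map_mul, map_natCast, map_sum]
    congr 1
    refine Finset.sum_congr rfl fun ξ _ => ?_
    rw [CharBasic.inner_smul_left, map_mul, map_intCast,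
      gal_reg_inner (irr_isCharacter ξ.2) (irr_isCharacter ψ.2)]

end Lift

end CfsgLib.Qb
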