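import Mathlib
import Cfsg.Agent.EqBase
import Cfsg.Agent.LibQb1

/-!
# A quadratic form bound for subsections: star-shaped blocks (helper17)
-/

set_option autoImplicit false
set_option linter.unusedSectionVars false
set_option linter.style.haveILetI false
set_option linter.unusedSimpArgs false
set_option linter.unusedVariables false

namespace CfsgLib.Qb

open CfsgLib.CharInt hiding irr_isCharacter irr_classFun irr_one_ne_zero schur_scalar
open Cfsg CfsgLib.CharInt2 CfsgLib.CharBasic CfsgLib.BlockR CfsgLib.BlockCore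
  CfsgLib.BlockIdem CfsgLib.BlockIdeal CfsgLib.BlockConj CfsgLib.BlockBrauer CfsgLib.BlockInd
  CfsgLib.BlockFMT CfsgLib.BlockFMT2 CfsgLib.PLocalInd CfsgLib.BlockOrth CfsgLib.BlockDefect
  CfsgLib.BlockReg CfsgLib.BlockReg2 CfsgLib.BlockCount CfsgLib.BlockCount2 CfsgLib.BlockQP
  CfsgLib.BlockCov CfsgLib.BlockCov2 CfsgLib.BlockCov3 CfsgLib.BlockCov4 CfsgLib.BlockQuo
  CfsgLib.BlkS2
open scoped ComplexConjugate Pointwise

universe u

/-- unequal pairs -/
theorem pairs_card {O : Type*} [Fintype O] [DecidableEq O] (w : O → ℂ) {i0 j0 : O} (h : w i0 ≠ w j0)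
    [DecidablePred (fun ij : O × O => w ij.1 - w ij.2 ≠ 0)] :
    2 * (Fintype.card O - 1) ≤ (Finset.univ.filter (fun ij : O × O => w ij.1 - w ij.2 ≠ 0)).card := by
  classical
  set A : Finset O := Finset.univ.filter (fun i => w i = w i0) with hA
  have h1 : (A ×ˢ Aᶜ) ∪ (Aᶜ ×ˢ A) ⊆ Finset.univ.filter (fun ij : O × O => w ij.1 - w ij.2 ≠ 0) := by
    intro ij hij
    rw [Finset.mem_union, Finset.mem_product, Finset.mem_product] at hij
    rw [Finset.mem_filter]
    refine ⟨Finset.mem_univ _, ?_⟩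
    simp only [hA, Finset.mem_compl, Finset.mem_filter, Finset.mem_univ, true_and] at hij
    rcases hij with ⟨a, b⟩ | ⟨a, b⟩
    · rw [a]; exact fun e => b (sub_eq_zero.1 e).symm
    · rw [b]; exact fun e => a (sub_eq_zero.1 e)
  have h2 : Disjoint (A ×ˢ Aᶜ) (Aᶜ ×ˢ A) := by
    rw [Finset.disjoint_left]
    intro ij h3 h4
    rw [Finset.mem_product] at h3 h4
    exact (Finset.mem_compl.1 h4.1) h3.1
  have h3 := Finset.card_le_card h1
  rw [Finset.card_union_of_disjoint h2, Finset.card_product, Finset.card_product] at h3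
  have h4 : A.card + Aᶜ.card = Fintype.card O := Finset.card_add_card_compl A
  have h5 : 1 ≤ A.card := Finset.card_pos.2 ⟨i0, by simp [hA]⟩
  have h6 : 1 ≤ Aᶜ.card := Finset.card_pos.2 ⟨j0, by simp [hA, h.symm]⟩
  refine le_trans ?_ h3
  obtain ⟨a, ha⟩ := Nat.exists_eq_add_of_le h5
  obtain ⟨b, hb⟩ := Nat.exists_eq_add_of_le h6
  rw [← h4, ha, hb]
  have e : 1 + a + (1 + b) - 1 = 1 + a + b := by omega
  rw [e]
  nlinarith [Nat.zero_le (a * b)]

section Bound
variable {M : Ideal AlgInt} {p : ℕ} [hpF : Fact p.Prime] {G : Type u} [Group G] [Fintype G]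
variable {x : G} [hFC : Fintype (Subgroup.centralizer ({x} : Set G))]
variable {Q : Subgroup (Subgroup.centralizer ({x} : Set G))} [hQn : Q.Normal]
  [hFQ : Fintype (Subgroup.centralizer ({x} : Set G) ⧸ Q)]

/-- the bound from a family with Gram matrix `I + m J` -/
theorem gram_bound {n : ℕ} (hxn : x ^ (p ^ n) = 1) (hQ : IsPGroup p Q)
    (hC : ∀ g : Subgroup.centralizer ({x} : Set G), ¬ p ∣ orderOf g →
      g ∈ Subgroup.centralizer (Q : Set (Subgroup.centralizer ({x} : Set G))))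
    {X : Type*} [Fintype X] [DecidableEq X] [Nonempty X]
    (Φ : X → (Subgroup.centralizer ({x} : Set G) ⧸ Q) → ℂ)
    (hgen : ∀ i, IsGeneralizedCharacter _ (Φ i)) (hs : ∀ i y, p ∣ orderOf y → Φ i y = 0) (m : ℕ)
    (hgram : ∀ i j, classInner (Φ i) (Φ j) = (m : ℂ) + (if i = j then 1 else 0))
    (S : Finset (IrrCharacter G))
    (hS : ∀ χ ∈ S, ∃ i, classInner (til p Q (Φ i)) (Ct.th x (χ : G → ℂ)) ≠ 0) :
    S.card ≤ Nat.card Q * (m + Fintype.card X) := by
  classical
  let Φ' : Option X → (Subgroup.centralizer ({x} : Set G) ⧸ Q) → ℂ := fun o => o.elim 0 Φ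
  have hgen' : ∀ o, IsGeneralizedCharacter _ (Φ' o) := by
    intro o
    cases o with
    | none => exact gen_zero
    | some i => exact hgen i
  have hs' : ∀ o y, p ∣ orderOf y → Φ' o y = 0 := by
    intro o y hy
    cases o with
    | none => rfl
    | some i => exact hs i y hy
  let Θ : Option X × Option X → Subgroup.centralizer ({x} : Set G) → ℂ :=
    fun ij => til p Q (Φ' ij.1 - Φ' ij.2)
  have hΘs : ∀ ij c, p ∣ orderOf c → Θ ij c = 0 := fun ij c hc => til_sing hc
  have hdif : ∀ ij : Option X × Option X, ∀ y, p ∣ orderOf y → (Φ' ij.1 - Φ' ij.2) y = 0 := by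
    intro ij y hy
    rw [Pi.sub_apply, hs' _ y hy, hs' _ y hy, sub_zero]
  have hΘg : ∀ ij, IsGeneralizedCharacter _ (Θ ij) := fun ij =>
    til_gen hQ hC (gen_sub (hgen' _) (hgen' _)) (hdif ij)
  -- norms
  have hn : ∀ ij : Option X × Option X, classInner (Θ ij) (Θ ij) = (Nat.card Q : ℂ) *
      (match ij with
      | (none, none) => 0
      | (none, some _) => (m + 1 : ℂ)
      | (some _, none) => (m + 1 : ℂ)
      | (some i, some j) => if i = j then 0 else 2) := by
    intro ij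
    rw [norm_til hQ hC _ (hdif ij)]
    congr 1
    rw [CharBasic.inner_sub_left, CharBasic.inner_sub_right, CharBasic.inner_sub_right]
    rcases ij with ⟨_ | i, _ | j⟩
    · simp [Φ', CharBasic.inner_zero_left]
    · simp only [Φ', Option.elim_none, Option.elim_some, CharBasic.inner_zero_left,
        CharBasic.inner_zero_right, hgram, if_true]
      ring
    · simp only [Φ', Option.elim_none, Option.elim_some, CharBasic.inner_zero_left,
        CharBasic.inner_zero_right, hgram, if_true]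
      ring
    · simp only [Φ', Option.elim_some, hgram, if_true]
      by_cases hij : i = j
      · rw [if_pos hij, if_pos hij.symm, if_pos hij]; ring
      · rw [if_neg hij, if_neg (fun e => hij e.symm), if_neg hij]; ring
  set e := Fintype.card X with he
  have hsum : ∑ ij, classInner (Θ ij) (Θ ij) = ((Nat.card Q * (2 * e * (m + e)) : ℕ) : ℂ) := by
    rw [Finset.sum_congr rfl (fun ij _ => hn ij), ← Finset.mul_sum, Fintype.sum_prod_type]
    simp only [Fintype.sum_option]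
    have h1 : ∀ i : X, ∑ j : X, (if i = j then (0 : ℂ) else 2) = 2 * ((e : ℂ) - 1) := by
      intro i
      have h2 : ∀ j : X, (if i = j then (0 : ℂ) else 2) = 2 - (if i = j then 2 else 0) := by
        intro j; split_ifs <;> ring
      rw [Finset.sum_congr rfl (fun j _ => h2 j), Finset.sum_sub_distrib, Finset.sum_const,
        Finset.sum_ite_eq, if_pos (Finset.mem_univ _), Finset.card_univ, nsmul_eq_mul, ← he]
      ring
    simp only [h1, Finset.sum_const, Finset.card_univ, nsmul_eq_mul, ← he]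
    push_cast
    ring
  have hcnt : ∀ χ ∈ S, 2 * e ≤ (Finset.univ.filter
      (fun ij => classInner (Θ ij) (Ct.th x (χ : G → ℂ)) ≠ 0)).card := by
    intro χ hχ
    obtain ⟨i, hi⟩ := hS χ hχ
    let w : Option X → ℂ := fun o => classInner (til p Q (Φ' o)) (Ct.th x (χ : G → ℂ))
    have hw0 : w none = 0 := by
      have h1 : til p Q (Φ' none) = 0 := by
        funext c
        by_cases hc : p ∣ orderOf c
        · rw [til_sing hc]; rfl
        · rw [til_reg hc]
          change _ * (0 : ℂ) = 0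
          ring
      change classInner (til p Q (Φ' none)) _ = 0
      rw [h1, CharBasic.inner_zero_left]
    have hw : w (some i) ≠ w none := by rw [hw0]; exact hi
    have h2 := pairs_card w hw
    rw [Fintype.card_option, Nat.add_sub_cancel] at h2
    refine le_trans h2 (le_of_eq ?_)
    congr 1
    ext ij
    rw [Finset.mem_filter, Finset.mem_filter]
    have h3 : classInner (Θ ij) (Ct.th x (χ : G → ℂ)) = w ij.1 - w ij.2 := by
      change classInner (til p Q (Φ' ij.1 - Φ' ij.2)) _ = _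
      rw [til_sub, CharBasic.inner_sub_left]
    rw [h3]
  have h4 := qb hxn Θ hΘg hΘs S (2 * e) hcnt _ hsum
  have he0 : 0 < e := Fintype.card_pos
  have h5 : (2 * e) * S.card ≤ (2 * e) * (Nat.card Q * (m + e)) := by
    calc (2 * e) * S.card = S.card * (2 * e) := by ring
      _ ≤ _ := h4
      _ = _ := by ring
  exact Nat.le_of_mul_le_mul_left h5 (by omega)

end Bound

/-! ### star-shaped blocks -/

/-- a block whose irreducible characters satisfy the relations of cyclic type -/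
structure Star (p : ℕ) {H : Type u} [Group H] [Fintype H] (b : Set (IrrCharacter H))
    (X Y : Finset (IrrCharacter H)) (δ : IrrCharacter H → ℤ) (ε : ℤ) : Prop where
  mem : ∀ χ, χ ∈ b ↔ χ ∈ X ∨ χ ∈ Y
  disj : ∀ χ ∈ X, χ ∉ Y
  Xne : X.Nonempty
  Yne : Y.Nonempty
  sgn : ∀ χ ∈ X, δ χ = 1 ∨ δ χ = -1
  eps : ε = 1 ∨ ε = -1
  reg_eq : ∀ ψ ∈ Y, ∀ g : H, ¬ p ∣ orderOf g → (ε : ℂ) * (ψ : H → ℂ) g =
    ∑ χ ∈ X, (δ χ : ℂ) * (χ : H → ℂ) g
  sing : ∀ χ ∈ X, ∀ g : H, p ∣ orderOf g → (δ χ : ℂ) * (χ : H → ℂ) g +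
    (ε : ℂ) * ∑ ψ ∈ Y, (ψ : H → ℂ) g = 0

section StarSec
variable {M : Ideal AlgInt} {p : ℕ} [hpF : Fact p.Prime] {H : Type u} [Group H] [Fintype H]
variable {b : Set (IrrCharacter H)} {X Y : Finset (IrrCharacter H)} {δ : IrrCharacter H → ℤ} {ε : ℤ}

/-- the projective class functions -/
noncomputable def Ph (Y : Finset (IrrCharacter H)) (δ : IrrCharacter H → ℤ) (ε : ℤ)
    (χ : IrrCharacter H) : H → ℂ :=
  (δ χ : ℂ) • (χ : H → ℂ) + (ε : ℂ) • ∑ ψ ∈ Y, (ψ : H → ℂ)

theorem Ph_gen (χ : IrrCharacter H) : IsGeneralizedCharacter H (Ph Y δ ε χ) :=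
  gen_add (gen_intsmul (gen_of_irr χ.2) _) (gen_intsmul (gen_sum _ _ fun ψ _ => gen_of_irr ψ.2) _)

theorem Star.Ph_sing (h : Star p b X Y δ ε) {χ : IrrCharacter H} (hχ : χ ∈ X) {g : H}
    (hg : p ∣ orderOf g) : Ph Y δ ε χ g = 0 := by
  have := h.sing χ hχ g hg
  rw [← this, Ph, Pi.add_apply, Pi.smul_apply, Pi.smul_apply, Finset.sum_apply]
  rfl

theorem inner_irr [DecidableEq (IrrCharacter H)] (χ ψ : IrrCharacter H) :
    classInner (χ : H → ℂ) (ψ : H → ℂ) = if χ = ψ then 1 else 0 := by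
  rw [irr_inner χ.2 ψ.2]
  by_cases h : χ = ψ
  · rw [if_pos h, if_pos (by rw [h])]
  · rw [if_neg h, if_neg (fun e => h (Subtype.ext e))]

theorem Ph_inner [DecidableEq (IrrCharacter H)] (χ ψ : IrrCharacter H) :
    classInner (Ph Y δ ε χ) (ψ : H → ℂ) = (if χ = ψ then (δ χ : ℂ) else 0) +
      (if ψ ∈ Y then (ε : ℂ) else 0) := by
  rw [Ph, CharBasic.inner_add_left, CharBasic.inner_smul_left, CharBasic.inner_smul_left,
    CharBasic.inner_sum_left, inner_irr, Finset.sum_congr rfl (fun φ _ => inner_irr φ ψ),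
    Finset.sum_ite_eq' Y ψ]
  split_ifs <;> ring

theorem Star.gram [DecidableEq (IrrCharacter H)] (h : Star p b X Y δ ε) {χ χ' : IrrCharacter H}
    (hχ : χ ∈ X) (hχ' : χ' ∈ X) :
    classInner (Ph Y δ ε χ) (Ph Y δ ε χ') = (Y.card : ℂ) + (if χ = χ' then 1 else 0) := by
  have h1 : classInner (Ph Y δ ε χ) (Ph Y δ ε χ') = (δ χ' : ℂ) * classInner (Ph Y δ ε χ) (χ' : H → ℂ) +
      (ε : ℂ) * ∑ ψ ∈ Y, classInner (Ph Y δ ε χ) (ψ : H → ℂ) := by
    conv_lhs => rw [show Ph Y δ ε χ' = (δ χ' : ℂ) • (χ' : H → ℂ) + (ε : ℂ) • ∑ ψ ∈ Y, (ψ : H → ℂ) from rfl]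
    rw [CharBasic.inner_add_right, CharBasic.inner_smul_right, CharBasic.inner_smul_right,
      CharBasic.inner_sum_right, map_intCast, map_intCast]
  have h2 : ∀ ψ ∈ Y, classInner (Ph Y δ ε χ) (ψ : H → ℂ) = (ε : ℂ) := by
    intro ψ hψ
    rw [Ph_inner, if_pos hψ, if_neg (fun e : χ = ψ => h.disj χ hχ (e ▸ hψ)), zero_add]
  rw [h1, Finset.sum_congr rfl h2, Ph_inner, if_neg (h.disj χ' hχ'), Finset.sum_const, nsmul_eq_mul]
  have hε : (ε : ℂ) * ε = 1 := by rcases h.eps with r | r <;> rw [r] <;> norm_num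
  by_cases hc : χ = χ'
  · subst hc
    rw [if_pos rfl, if_pos rfl]
    have hδ : (δ χ : ℂ) * δ χ = 1 := by rcases h.sgn χ hχ with r | r <;> rw [r] <;> norm_num
    linear_combination hδ + (Y.card : ℂ) * hε
  · rw [if_neg hc, if_neg hc]
    linear_combination (Y.card : ℂ) * hε

theorem Star.Ph_block (h : Star p b X Y δ ε) {χ ψ : IrrCharacter H} (hχ : χ ∈ X) (hψ : ψ ∉ b) :
    classInner (Ph Y δ ε χ) (ψ : H → ℂ) = 0 := by
  classical
  rw [h.mem, not_or] at hψ
  rw [Ph_inner, if_neg (fun e : χ = ψ => hψ.1 (e ▸ hχ)), if_neg hψ.2, zero_add]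

/-- regular combinations of the block are detected by the `Ph` -/
theorem Star.detect (h : Star p b X Y δ ε) {F : H → ℂ} (c : IrrCharacter H → ℂ)
    (hF : ∀ g, ¬ p ∣ orderOf g → F g = ∑ ξ ∈ X ∪ Y, c ξ * (ξ : H → ℂ) g)
    (h0 : ∀ χ ∈ X, classInner (Ph Y δ ε χ) F = 0) {g : H} (hg : ¬ p ∣ orderOf g) : F g = 0 := by
  classical
  have hε : (ε : ℂ) * ε = 1 := by rcases h.eps with r | r <;> rw [r] <;> norm_num
  -- rewrite on X
  set d : IrrCharacter H → ℂ := fun χ => c χ + (ε : ℂ) * (δ χ : ℂ) * ∑ ψ ∈ Y, c ψ with hd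
  have h1 : ∀ g, ¬ p ∣ orderOf g → F g = ∑ χ ∈ X, d χ * (χ : H → ℂ) g := by
    intro g hg
    rw [hF g hg, Finset.sum_union (Finset.disjoint_left.2 h.disj)]
    have h2 : ∀ ψ ∈ Y, c ψ * (ψ : H → ℂ) g = c ψ * ((ε : ℂ) * ∑ χ ∈ X, (δ χ : ℂ) * (χ : H → ℂ) g) := by
      intro ψ hψ
      rw [← h.reg_eq ψ hψ g hg]
      linear_combination (-(c ψ * (ψ : H → ℂ) g)) * hε
    rw [Finset.sum_congr rfl h2, ← Finset.sum_mul, Finset.mul_sum, Finset.mul_sum,
      ← Finset.sum_add_distrib]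
    refine Finset.sum_congr rfl fun χ _ => ?_
    rw [hd]; ring
  have h3 : ∀ χ ∈ X, d χ = 0 := by
    intro χ hχ
    have h4 := h0 χ hχ
    have h5 : classInner (Ph Y δ ε χ) F = classInner (Ph Y δ ε χ) (∑ χ ∈ X, d χ • (χ : H → ℂ)) := by
      unfold classInner
      congr 1
      refine Finset.sum_congr rfl fun g _ => ?_
      by_cases hg : p ∣ orderOf g
      · rw [h.Ph_sing hχ hg, zero_mul, zero_mul]
      · rw [h1 g hg, Finset.sum_apply]; rfl
    rw [h5, CharBasic.inner_sum_right, Finset.sum_eq_single χ] at h4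
    · rw [CharBasic.inner_smul_right, Ph_inner, if_pos rfl, if_neg (h.disj χ hχ), add_zero] at h4
      rcases mul_eq_zero.1 h4 with h6 | h6
      · exact (map_eq_zero _).1 h6
      · rcases h.sgn χ hχ with r | r <;> rw [r] at h6 <;> norm_num at h6
    · intro χ' hχ' hne
      rw [CharBasic.inner_smul_right, Ph_inner, if_neg hne.symm, if_neg (h.disj χ' hχ'), add_zero,
        mul_zero]
    · intro hn; exact absurd hχ hn
  rw [h1 g hg]
  exact Finset.sum_eq_zero fun χ hχ => by rw [h3 χ hχ, zero_mul]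

end StarSec

end CfsgLib.Qb
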