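import Mathlib
import Cfsg.Agent.EqBase
import Cfsg.Agent.LibQb2

/-!
# A quadratic form bound for subsections: nonvanishing (helper17)
-/

set_option autoImplicit false
set_option linter.unusedSectionVars false
set_option linter.style.haveILetI false
set_option linter.unusedSimpArgs false
set_option linter.unusedVariables false

namespace CfsgLib.Qb

open CfsgLib.CharInt hiding irr_isCharacter irr_classFun irr_one_ne_zero schur_scalar
open Cfsg CfsgLib.CharInt2 CfsgLib.CharBasic CfsgLib.BlockR CfsgLib.BlockCore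
  CfsgLib.BlockIdem CfsgLib.BlockIdeal CfsgLib.BlockConj CfsgLib.BlockBrauer CfsgLib.BlockInd
  CfsgLib.BlockFMT CfsgLib.BlockFMT2 CfsgLib.PLocalInd CfsgLib.BlockOrth CfsgLib.BlockDefect
  CfsgLib.BlockReg CfsgLib.BlockReg2 CfsgLib.BlockCount CfsgLib.BlockCount2 CfsgLib.BlockQP
  CfsgLib.BlockCov CfsgLib.BlockCov2 CfsgLib.BlockCov3 CfsgLib.BlockCov4 CfsgLib.BlockQuo
  CfsgLib.BlkS2
open scoped ComplexConjugate Pointwise

universe u

section Red
variable {M : Ideal AlgInt} {p : ℕ} [hpF : Fact p.Prime] {K : Type u} [Group K] [Fintype K]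
variable {Q : Subgroup K} [hQn : Q.Normal]

open Classical in
/-- the regular part of a function, seen on the quotient -/
noncomputable def rd (p : ℕ) [Fact p.Prime] (Q : Subgroup K) [Q.Normal] (f : K → ℂ) (y : K ⧸ Q) : ℂ :=
  if p ∣ orderOf y then 0 else f (rl p Q y)

theorem rd_mk (hQ : IsPGroup p Q) (hC : ∀ g : K, ¬ p ∣ orderOf g → g ∈ Subgroup.centralizer (Q : Set K))
    (f : K → ℂ) {c : K} (hc : ¬ p ∣ orderOf c) : rd p Q f (c : K ⧸ Q) = f c := by
  rw [rd, if_neg (mk_reg hc)]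
  rw [rl_unique hQ hC (isPPart_one (mk_reg hc)) hc (one_mul _)]

theorem rd_sing (f : K → ℂ) {y : K ⧸ Q} (hy : p ∣ orderOf y) : rd p Q f y = 0 := if_pos hy

theorem rd_classFun [Fintype (K ⧸ Q)] (hQ : IsPGroup p Q)
    (hC : ∀ g : K, ¬ p ∣ orderOf g → g ∈ Subgroup.centralizer (Q : Set K))
    {f : K → ℂ} (hf : IsClassFunction K f) : IsClassFunction (K ⧸ Q) (rd p Q f) := by
  intro y z
  obtain ⟨z, rfl⟩ := QuotientGroup.mk_surjective z
  by_cases hy : p ∣ orderOf y
  · rw [rd_sing f hy, rd_sing f (by rwa [orderOf_conj])]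
  · obtain ⟨c, hc, rfl⟩ := exists_reg_lift Q hy
    have h1 : (z : K ⧸ Q) * (c : K ⧸ Q) * (z : K ⧸ Q)⁻¹ = ((z * c * z⁻¹ : K) : K ⧸ Q) := rfl
    rw [h1, rd_mk hQ hC f hc, rd_mk hQ hC f (by rwa [orderOf_conj])]
    exact hf c z

theorem inner_rd [Fintype (K ⧸ Q)] (hQ : IsPGroup p Q)
    (hC : ∀ g : K, ¬ p ∣ orderOf g → g ∈ Subgroup.centralizer (Q : Set K))
    (f : K → ℂ) (ξ : IrrCharacter (K ⧸ Q)) :
    classInner (rd p Q f) (ξ : K ⧸ Q → ℂ) =
      (Nat.card Q : ℂ) * classInner (reg p f) (infl Q ξ : K → ℂ) := by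
  have hQ0 : (Nat.card Q : ℂ) ≠ 0 := by exact_mod_cast Nat.card_pos.ne'
  have hH0 : (Nat.card (K ⧸ Q) : ℂ) ≠ 0 := by exact_mod_cast Nat.card_pos.ne'
  have h4 : (Nat.card K : ℂ) = (Nat.card (K ⧸ Q) : ℂ) * (Nat.card Q : ℂ) := by
    exact_mod_cast Subgroup.card_eq_card_quotient_mul_card_subgroup Q
  have h1 := sum_reg hQ hC (fun c : K => f c * conj ((ξ : K ⧸ Q → ℂ) (c : K ⧸ Q)))
    (fun y => rd p Q f y * conj ((ξ : K ⧸ Q → ℂ) y))
    (fun c hc => by simp only [rd_mk hQ hC f hc])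
  have h2 : ∀ c : K, reg p f c * conj ((infl Q ξ : K → ℂ) c) =
      reg p (fun c : K => f c * conj ((ξ : K ⧸ Q → ℂ) (c : K ⧸ Q))) c := by
    intro c
    by_cases hc : p ∣ orderOf c
    · rw [reg_not hc, reg_not hc, zero_mul]
    · rw [reg_of hc, reg_of hc, infl_apply]
  have h3 : ∀ y : K ⧸ Q, rd p Q f y * conj ((ξ : K ⧸ Q → ℂ) y) =
      reg p (fun y => rd p Q f y * conj ((ξ : K ⧸ Q → ℂ) y)) y := by
    intro y
    by_cases hy : p ∣ orderOf y
    · rw [rd_sing f hy, reg_not hy, zero_mul]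
    · rw [reg_of hy]
  unfold classInner
  rw [Finset.sum_congr rfl (fun c _ => h2 c), h1, Finset.sum_congr rfl (fun y _ => h3 y), h4]
  field_simp

/-- projections of regular parts lie in the block -/
theorem inner_reg_prj (hM : IsPModular p M) {b : Set (IrrCharacter K)} (hb : IsPBlock M b)
    (f : K → ℂ) {ψ : IrrCharacter K} (hψ : ψ ∉ b) :
    classInner (reg p (prj b f)) (ψ : K → ℂ) = 0 := by
  classical
  have h1 : reg p (prj b f) = ∑ χ : IrrCharacter K,
      (ind b χ * classInner f (χ : K → ℂ)) • reg p (χ : K → ℂ) := by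
    funext g
    by_cases hg : p ∣ orderOf g
    · rw [reg_not hg, Finset.sum_apply]
      symm
      refine Finset.sum_eq_zero fun χ _ => ?_
      rw [Pi.smul_apply, reg_not hg, smul_zero]
    · rw [reg_of hg, prj_apply, Finset.sum_apply]
      refine Finset.sum_congr rfl fun χ _ => ?_
      rw [Pi.smul_apply, reg_of hg, smul_eq_mul]
  rw [h1, CharBasic.inner_sum_left]
  refine Finset.sum_eq_zero fun χ _ => ?_
  rw [CharBasic.inner_smul_left]
  by_cases hχ : χ ∈ b
  · rw [inner_reg_zero hM, mul_zero]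
    intro h
    exact hψ (mem_of_sameBlock (isPrime_of_modular hM) hb hχ h)
  · rw [ind_not hχ, zero_mul, zero_mul]

end Red

section Non
variable {M : Ideal AlgInt} {p : ℕ} [hpF : Fact p.Prime] {G : Type u} [Group G] [Fintype G]
variable {x : G} [hFC : Fintype (Subgroup.centralizer ({x} : Set G))]
variable {Q : Subgroup (Subgroup.centralizer ({x} : Set G))} [hQn : Q.Normal]
  [hFQ : Fintype (Subgroup.centralizer ({x} : Set G) ⧸ Q)]
variable {b : Set (IrrCharacter (Subgroup.centralizer ({x} : Set G)))}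
variable {X Y : Finset (IrrCharacter (Subgroup.centralizer ({x} : Set G) ⧸ Q))}
  {δ : IrrCharacter (Subgroup.centralizer ({x} : Set G) ⧸ Q) → ℤ} {ε : ℤ}

/-- characters of height zero are seen by the projective class functions -/
theorem nonvan (hM : IsPModular p M) (hx : ∃ k : ℕ, orderOf x = p ^ k)
    {B : Set (IrrCharacter G)} (hb : IsInducedBlock M (Subgroup.centralizer ({x} : Set G)) b B)
    (hQ : IsPGroup p Q)
    (hC : ∀ g : Subgroup.centralizer ({x} : Set G), ¬ p ∣ orderOf g →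
      g ∈ Subgroup.centralizer (Q : Set (Subgroup.centralizer ({x} : Set G))))
    (hst : Star p {ξ : IrrCharacter (Subgroup.centralizer ({x} : Set G) ⧸ Q) | infl Q ξ ∈ b} X Y δ ε)
    {χ : IrrCharacter G} (hχ : χ ∈ B) (h0 : blockHeight p B (χ : G → ℂ) = 0) :
    ∃ ξ ∈ X, classInner (til p Q (Ph Y δ ε ξ)) (Ct.th x (χ : G → ℂ)) ≠ 0 := by
  classical
  haveI := LocR.isPrime hM
  by_contra hcon
  push Not at hcon
  have hbB := hb.1
  set F := Ct.Af p x b (χ : G → ℂ) with hF
  -- F is zero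
  have hFth : F = prj b (reg p (Ct.th x (χ : G → ℂ))) := rfl
  have hFc : IsClassFunction _ F := Ct.Af_classFun _
  -- the lifts lie in the block
  have hblk : ∀ ξ ∈ X, ∀ lam : IrrCharacter (Subgroup.centralizer ({x} : Set G)), lam ∉ b →
      classInner (til p Q (Ph Y δ ε ξ)) (lam : Subgroup.centralizer ({x} : Set G) → ℂ) = 0 := by
    intro ξ hξ lam hlam
    rw [inner_til hQ hC _ (fun y hy => hst.Ph_sing hξ hy) _ (rd p Q (lam : Subgroup.centralizer ({x} : Set G) → ℂ))
      (fun c hc => (rd_mk hQ hC _ hc).symm)]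
    rw [classFun_expand (rd_classFun hQ hC (irr_classFun lam.2)), CharBasic.inner_sum_right]
    refine Finset.sum_eq_zero fun η _ => ?_
    rw [CharBasic.inner_smul_right]
    by_cases hη : infl Q η ∈ b
    · rw [inner_rd hQ hC, inner_reg_zero hM, mul_zero, map_zero, zero_mul]
      intro h
      exact hlam (mem_of_sameBlock (isPrime_of_modular hM) hbB hη (sameBlock_symm h))
    · rw [hst.Ph_block hξ (ψ := η) hη, mul_zero]
  have h1 : ∀ ξ ∈ X, classInner (Ph Y δ ε ξ) (rd p Q F) = 0 := by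
    intro ξ hξ
    rw [← inner_til hQ hC _ (fun y hy => hst.Ph_sing hξ hy) F (rd p Q F)
      (fun c hc => (rd_mk hQ hC _ hc).symm)]
    rw [hFth]
    have hcT : IsClassFunction _ (til p Q (Ph Y δ ε ξ)) := til_classFun (gen_classFun (Ph_gen ξ))
    have hcH : IsClassFunction _ (reg p (Ct.th x (χ : G → ℂ))) :=
      reg_classFun (Ct.th_classFun (irr_classFun χ.2))
    rw [← Ct.prj_adj hcT hcH]
    have h2 : prj b (til p Q (Ph Y δ ε ξ)) = til p Q (Ph Y δ ε ξ) := by
      conv_rhs => rw [classFun_expand hcT]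
      unfold prj
      refine Finset.sum_congr rfl fun lam _ => ?_
      by_cases hl : lam ∈ b
      · rw [ind_of hl, one_mul]
      · rw [hblk ξ hξ lam hl, mul_zero]
    rw [h2, ← inner_reg_adj]
    have h3 : reg p (til p Q (Ph Y δ ε ξ)) = til p Q (Ph Y δ ε ξ) := by
      funext c
      by_cases hc : p ∣ orderOf c
      · rw [reg_not hc, til_sing hc]
      · rw [reg_of hc]
    rw [h3]
    exact hcon ξ hξ
  -- detection
  have h4 : ∀ y : Subgroup.centralizer ({x} : Set G) ⧸ Q, ¬ p ∣ orderOf y → rd p Q F y = 0 := by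
    intro y hy
    refine hst.detect (fun η => classInner (rd p Q F) (η : _ → ℂ)) ?_ h1 hy
    intro g hg
    conv_lhs => rw [classFun_expand (rd_classFun hQ hC hFc)]
    rw [Finset.sum_apply]
    symm
    apply Finset.sum_subset (Finset.subset_univ _)
    intro η _ hη
    have h5 : infl Q η ∉ b := by
      intro h6
      apply hη
      have h7 := (hst.mem η).1 h6
      rw [Finset.mem_union]
      exact h7
    rw [inner_rd hQ hC, hFth, inner_reg_prj hM hbB _ h5, mul_zero]
    simp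
  have h5 : F = 0 := by
    funext c
    by_cases hc : p ∣ orderOf c
    · exact Ct.Af_sing hM hbB _ hc
    · have h6 := h4 (c : _ ⧸ Q) (mk_reg hc)
      rw [rd_mk hQ hC F hc] at h6
      exact h6
  have h6 := Ct.Mc_unit hM hx hb hχ hχ h0 h0
  apply h6
  have h7 : Ct.Pc p x b χ χ = 0 := by
    rw [Ct.Pc_eq hM hbB]
    change classInner F _ = 0
    rw [h5, CharBasic.inner_zero_left]
  unfold Ct.Mc
  rw [h7, mul_zero]
  exact LocR.memI_zero

/-- the bound -/
theorem star_bound (hM : IsPModular p M) (hx : ∃ k : ℕ, orderOf x = p ^ k)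
    {B : Set (IrrCharacter G)} (hb : IsInducedBlock M (Subgroup.centralizer ({x} : Set G)) b B)
    (hQ : IsPGroup p Q)
    (hC : ∀ g : Subgroup.centralizer ({x} : Set G), ¬ p ∣ orderOf g →
      g ∈ Subgroup.centralizer (Q : Set (Subgroup.centralizer ({x} : Set G))))
    (hst : Star p {ξ : IrrCharacter (Subgroup.centralizer ({x} : Set G) ⧸ Q) | infl Q ξ ∈ b} X Y δ ε)
    (S : Finset (IrrCharacter G)) (hS : ∀ χ ∈ S, χ ∈ B ∧ blockHeight p B (χ : G → ℂ) = 0) :
    S.card ≤ Nat.card Q * (Y.card + X.card) := by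
  classical
  obtain ⟨n, hn⟩ := hx
  haveI : Nonempty X := by
    obtain ⟨ξ, hξ⟩ := hst.Xne
    exact ⟨⟨ξ, hξ⟩⟩
  have h := gram_bound (p := p) (x := x) (n := n) (by rw [← hn]; exact pow_orderOf_eq_one x) hQ hC
    (X := X) (fun ξ => Ph Y δ ε ξ) (fun ξ => Ph_gen _) (fun ξ y hy => hst.Ph_sing ξ.2 hy) Y.card
    (fun i j => by
      rw [hst.gram i.2 j.2]
      congr 1
      by_cases hij : i = j
      · rw [if_pos hij, if_pos (by rw [hij])]
      · rw [if_neg hij, if_neg (fun e => hij (Subtype.ext e))])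
    S (fun χ hχ => by
      obtain ⟨ξ, hξ, h1⟩ := nonvan hM ⟨n, hn⟩ hb hQ hC hst (hS χ hχ).1 (hS χ hχ).2
      exact ⟨⟨ξ, hξ⟩, h1⟩)
  rwa [Fintype.card_coe] at h

end Non

end CfsgLib.Qb
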