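import Cfsg.Agent.LibQdF9
/-! `Qd(p)`-sections as configurations: existence and extension. Seat helper9. -/
set_option autoImplicit false
set_option maxHeartbeats 400000

namespace CfsgLib.QdF9

open Subgroup Cfsg CfsgLib.Dick9 CfsgLib.QuadSL9 CfsgLib.SecH12 CfsgLib.Stab9 CfsgLib.BGPi CfsgLib.Qd9 CfsgLib.Bad9 CfsgLib.StP9
open scoped commutatorElement CfsgLib.BGPi Pointwise

variable {p : ℕ} [hp : Fact p.Prime] {G : Type*} [Group G]

/-- a section `Qd(p)` gives a configuration -/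
theorem exists_qdo [Finite G] (h : IsSec (qd p) G) : ∃ (R L : Subgroup G) (φ : G → Matrix.SpecialLinearGroup (Fin 2) (ZMod p))
    (ψ : G → ZMod p × ZMod p), QdO p R L φ ψ := by
  classical
  obtain ⟨K, f, hf⟩ := h
  let e : qd p ≃* qd p := MulEquiv.refl _
  haveI := Q_normal e
  obtain ⟨P, hP, hPf, hN⟩ := exists_lift f hf (Q_pgroup e)
  rw [normalizer_eq_top, top_le_iff] at hN
  -- coordinates
  have hc : ∀ x : qd p, ∃ (m : Matrix.SpecialLinearGroup (Fin 2) (ZMod p)) (v : ZMod p × ZMod p), x = el e m v.1 v.2 := by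
    intro x
    obtain ⟨m, i, j, h⟩ := el_surj e x
    exact ⟨m, (i, j), h⟩
  choose mat vec hmv using hc
  have hmat : ∀ m i j, mat (el e m i j) = m := by
    intro m i j
    exact (el_inj e (hmv (el e m i j))).1.symm
  have hvec : ∀ m i j, vec (el e m i j) = (i, j) := by
    intro m i j
    obtain ⟨-, h1, h2⟩ := el_inj e (hmv (el e m i j))
    exact Prod.ext h1.symm h2.symm
  have mm : ∀ x y, mat (x * y) = mat x * mat y := by
    intro x y
    obtain ⟨m, i, j, rfl⟩ := el_surj e x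
    obtain ⟨n, i', j', rfl⟩ := el_surj e y
    rw [el_mul, hmat, hmat, hmat]
  let φ : G → Matrix.SpecialLinearGroup (Fin 2) (ZMod p) := fun g => if hg : g ∈ K then mat (f ⟨g, hg⟩) else 1
  let ψ : G → ZMod p × ZMod p := fun g => if hg : g ∈ K then vec (f ⟨g, hg⟩) else 0
  have hφ : ∀ g (hg : g ∈ K), φ g = mat (f ⟨g, hg⟩) := fun g hg => dif_pos hg
  have hψ : ∀ g (hg : g ∈ K), ψ g = vec (f ⟨g, hg⟩) := fun g hg => dif_pos hg
  have hPQ : ∀ x ∈ P, ∃ i j, f x = el e 1 i j := by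
    intro x hx
    have : f x ∈ Q e := by rw [← hPf]; exact ⟨x, hx, rfl⟩
    exact this
  refine ⟨P.map K.subtype, (normalizer (P : Set K)).map K.subtype, φ, ψ, ?_, ?_, ?_, ?_, ?_, ?_, ?_, ?_⟩
  · exact hP.map _
  · exact Subgroup.map_mono le_normalizer
  · rintro _ ⟨l, hl, rfl⟩ _ ⟨r, hr, rfl⟩
    exact ⟨l * r * l⁻¹, (mem_normalizer_iff.1 hl r).1 hr, rfl⟩
  · rintro _ ⟨l, hl, rfl⟩ _ ⟨l', hl', rfl⟩
    show φ ((l : G) * l') = φ l * φ l'
    rw [hφ _ (mul_mem l.2 l'.2), hφ _ l.2, hφ _ l'.2, ← mm, ← map_mul]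
    rfl
  · intro m
    have h1 : el e m 0 0 ∈ (normalizer (P : Set K)).map f := by rw [hN]; exact mem_top _
    obtain ⟨l, hl, h2⟩ := h1
    refine ⟨l, ⟨l, hl, rfl⟩, ?_⟩
    rw [hφ _ l.2]
    have : f ⟨(l : G), l.2⟩ = f l := rfl
    rw [this, h2, hmat]
  · rintro _ ⟨r, hr, rfl⟩ _ ⟨s, hs, rfl⟩
    show ψ ((r : G) * s) = ψ r + ψ s
    obtain ⟨i, j, h1⟩ := hPQ r hr
    obtain ⟨i', j', h2⟩ := hPQ s hs
    have e1 : f ⟨(r : G) * s, mul_mem r.2 s.2⟩ = el e 1 (i + i') (j + j') := by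
      rw [← el1_mul, ← h1, ← h2, ← map_mul]; rfl
    have e2 : f ⟨(r : G), r.2⟩ = el e 1 i j := h1
    have e3 : f ⟨(s : G), s.2⟩ = el e 1 i' j' := h2
    rw [hψ _ (mul_mem r.2 s.2), hψ _ r.2, hψ _ s.2, e1, e2, e3, hvec, hvec, hvec]
    rfl
  · intro v
    have h1 : el e 1 v.1 v.2 ∈ P.map f := by rw [hPf]; exact ⟨v.1, v.2, rfl⟩
    obtain ⟨r, hr, h2⟩ := h1
    refine ⟨r, ⟨r, hr, rfl⟩, ?_⟩
    rw [hψ _ r.2]
    have : f ⟨(r : G), r.2⟩ = f r := rfl
    rw [this, h2, hvec]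
  · rintro _ ⟨l, hl, rfl⟩ _ ⟨r, hr, rfl⟩
    show ψ ((l : G) * r * (l : G)⁻¹) = Bad9.act (φ l) (ψ r)
    obtain ⟨i, j, h1⟩ := hPQ r hr
    obtain ⟨m, a, b, h2⟩ := el_surj e (f l)
    have e1 : f ⟨(l : G) * r * (l : G)⁻¹, mul_mem (mul_mem l.2 r.2) (inv_mem l.2)⟩ =
        el e 1 (m 0 0 * i + m 0 1 * j) (m 1 0 * i + m 1 1 * j) := by
      rw [← el_conj e m a b i j, ← h1, ← h2, ← map_inv, ← map_mul, ← map_mul]; rfl
    have e2 : f ⟨(l : G), l.2⟩ = el e m a b := h2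
    have e3 : f ⟨(r : G), r.2⟩ = el e 1 i j := h1
    rw [hψ _ (mul_mem (mul_mem l.2 r.2) (inv_mem l.2)), hφ _ l.2, hψ _ r.2, e1, e2, e3, hvec, hvec, hmat]
    rfl

variable {R L : Subgroup G} {φ : G → Matrix.SpecialLinearGroup (Fin 2) (ZMod p)} {ψ : G → ZMod p × ZMod p}

/-- moving the configuration into the normalizer of a Sylow subgroup of `R C_G(R)` -/
theorem QdO.extend [Finite G] (h : QdO p R L φ ψ) {T : Subgroup G}
    (hT : FusionH12.SylIn p T (R ⊔ centralizer (R : Set G))) (hRT : R ≤ T) :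
    ∃ (X : Subgroup G) (φ' : G → Matrix.SpecialLinearGroup (Fin 2) (ZMod p)), X ≤ normalizer (T : Set G) ∧
      QdO p R X φ' ψ := by
  classical
  obtain ⟨C, hC⟩ : ∃ C, C = centralizer (R : Set G) := ⟨_, rfl⟩
  rw [← hC] at hT
  have hCc : ∀ c ∈ C, ∀ r ∈ R, c * r * c⁻¹ = r := by
    intro c hc r hr
    rw [hC] at hc
    rw [← mem_centralizer_iff.1 hc r hr, mul_inv_cancel_right]
  have hCn : ∀ l ∈ L, ∀ c ∈ C, l * c * l⁻¹ ∈ C := by
    intro l hl c hc
    rw [hC, mem_centralizer_iff]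
    intro r hr
    have h1 : l⁻¹ * r * l ∈ R := by
      have := h.nrm _ (inv_mem hl) r hr
      rwa [inv_inv] at this
    have h2 := hCc c hc _ h1
    have h3 : r * (l * c * l⁻¹) = l * ((l⁻¹ * r * l) * c) * l⁻¹ := by group
    have h4 : (l⁻¹ * r * l) * c = c * (l⁻¹ * r * l) := by
      have := mul_inv_eq_iff_eq_mul.1 h2
      exact this.symm
    rw [h3, h4]; group
  -- the group `LC`
  let M : Subgroup G :=
    { carrier := {x | ∃ l ∈ L, ∃ c ∈ C, x = l * c}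
      mul_mem' := by
        rintro _ _ ⟨l, hl, c, hc, rfl⟩ ⟨l', hl', c', hc', rfl⟩
        refine ⟨l * l', mul_mem hl hl', (l'⁻¹ * c * l') * c', mul_mem ?_ hc', by group⟩
        have := hCn _ (inv_mem hl') c hc
        rwa [inv_inv] at this
      one_mem' := ⟨1, one_mem _, 1, one_mem _, by group⟩
      inv_mem' := by
        rintro _ ⟨l, hl, c, hc, rfl⟩
        exact ⟨l⁻¹, inv_mem hl, l * c⁻¹ * l⁻¹, hCn l hl _ (inv_mem hc), by group⟩ }
  have hLM : ∀ l ∈ L, l ∈ M := fun l hl => ⟨l, hl, 1, one_mem _, by group⟩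
  have hCM : ∀ c ∈ C, c ∈ M := fun c hc => ⟨1, one_mem _, c, hc, by group⟩
  have hwd : ∀ l ∈ L, ∀ c ∈ C, ∀ l' ∈ L, ∀ c' ∈ C, l * c = l' * c' → φ l = φ l' := by
    intro l hl c hc l' hl' c' hc' e
    have h1 : l'⁻¹ * l = c' * c⁻¹ := by
      rw [inv_mul_eq_iff_eq_mul, ← mul_assoc, ← e, mul_inv_cancel_right]
    have h2 : φ (l'⁻¹ * l) = 1 := by
      refine h.f_triv (mul_mem (inv_mem hl') hl) fun r hr => ?_
      rw [h1, hCc _ (mul_mem hc' (inv_mem hc)) r hr]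
    rw [h.fm _ (inv_mem hl') _ hl, f_inv h.fm hl', inv_mul_eq_one] at h2
    exact h2.symm
  let φ' : G → Matrix.SpecialLinearGroup (Fin 2) (ZMod p) := fun x =>
    if hx : ∃ l ∈ L, ∃ c ∈ C, x = l * c then φ hx.choose else 1
  have hφ' : ∀ l ∈ L, ∀ c ∈ C, φ' (l * c) = φ l := by
    intro l hl c hc
    have hx : ∃ l' ∈ L, ∃ c' ∈ C, l * c = l' * c' := ⟨l, hl, c, hc, rfl⟩
    have h1 : φ' (l * c) = φ hx.choose := dif_pos hx
    rw [h1]
    obtain ⟨h2, c', hc', h3⟩ := hx.choose_spec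
    exact (hwd _ hl _ hc _ h2 _ hc' h3).symm
  have hRM : ∀ r ∈ R, r ∈ M := fun r hr => hLM r (h.le hr)
  have hMR : ∀ x ∈ M, ∀ r ∈ R, x * r * x⁻¹ ∈ R := by
    rintro _ ⟨l, hl, c, hc, rfl⟩ r hr
    have : l * c * r * (l * c)⁻¹ = l * (c * r * c⁻¹) * l⁻¹ := by group
    rw [this, hCc c hc r hr]
    exact h.nrm l hl r hr
  have hfm : ∀ x ∈ M, ∀ y ∈ M, φ' (x * y) = φ' x * φ' y := by
    rintro _ ⟨l, hl, c, hc, rfl⟩ _ ⟨l', hl', c', hc', rfl⟩
    have h1 : l'⁻¹ * c * l' ∈ C := by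
      have := hCn _ (inv_mem hl') c hc
      rwa [inv_inv] at this
    have h2 : l * c * (l' * c') = (l * l') * ((l'⁻¹ * c * l') * c') := by group
    rw [h2, hφ' _ (mul_mem hl hl') _ (mul_mem h1 hc'), hφ' _ hl _ hc, hφ' _ hl' _ hc', h.fm _ hl _ hl']
  have heqv : ∀ x ∈ M, ∀ r ∈ R, ψ (x * r * x⁻¹) = Bad9.act (φ' x) (ψ r) := by
    rintro _ ⟨l, hl, c, hc, rfl⟩ r hr
    have : l * c * r * (l * c)⁻¹ = l * (c * r * c⁻¹) * l⁻¹ := by group
    rw [this, hCc c hc r hr, hφ' _ hl _ hc]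
    exact h.eqv l hl r hr
  refine ⟨M ⊓ normalizer (T : Set G), φ', inf_le_right, ?_⟩
  refine ⟨h.pg, ?_, ?_, ?_, ?_, h.gm, h.gs, ?_⟩
  · exact fun r hr => ⟨hRM r hr, le_normalizer (hRT hr)⟩
  · exact fun x hx r hr => hMR x hx.1 r hr
  · exact fun x hx y hy => hfm x hx.1 y hy.1
  · intro m
    obtain ⟨l, hl, rfl⟩ := h.fs m
    -- `l` normalizes `RC`
    have hlN : FusionH12.cj l (R ⊔ C) = R ⊔ C := by
      rw [FusionH12.cj_sup]
      have h1 : ∀ x ∈ L, FusionH12.cj x R ≤ R := fun x hx => FusionH12.cj_le'.2 fun r hr => h.nrm x hx r hr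
      have h2 : ∀ x ∈ L, FusionH12.cj x C ≤ C := fun x hx => FusionH12.cj_le'.2 fun c hc => hCn x hx c hc
      apply le_antisymm (sup_le_sup (h1 l hl) (h2 l hl))
      refine sup_le_sup ?_ ?_
      · rw [FusionH12.le_cj_iff]; exact h1 _ (inv_mem hl)
      · rw [FusionH12.le_cj_iff]; exact h2 _ (inv_mem hl)
    have hTl := hT.cj l
    rw [hlN] at hTl
    obtain ⟨a, ha, haT⟩ := hT.exists_conj hTl
    have haM : ∃ c ∈ C, ∃ r ∈ R, a = r * c := by
      let A : Subgroup G :=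
        { carrier := {x | ∃ c ∈ C, ∃ r ∈ R, x = r * c}
          mul_mem' := by
            rintro _ _ ⟨c, hc, r, hr, rfl⟩ ⟨c', hc', r', hr', rfl⟩
            refine ⟨c * c', mul_mem hc hc', r * r', mul_mem hr hr', ?_⟩
            have := hCc c hc r' hr'
            rw [mul_inv_eq_iff_eq_mul] at this
            have e : r * c * (r' * c') = r * (c * r') * c' := by group
            rw [e, this]; group
          one_mem' := ⟨1, one_mem _, 1, one_mem _, by group⟩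
          inv_mem' := by
            rintro _ ⟨c, hc, r, hr, rfl⟩
            refine ⟨c⁻¹, inv_mem hc, r⁻¹, inv_mem hr, ?_⟩
            have := hCc _ (inv_mem hc) _ (inv_mem hr)
            rw [mul_inv_eq_iff_eq_mul] at this
            rw [mul_inv_rev, this] }
      have h1 : R ⊔ C ≤ A := sup_le (fun r hr => ⟨1, one_mem _, r, hr, by group⟩) (fun c hc => ⟨c, hc, 1, one_mem _, by group⟩)
      exact h1 ha
    obtain ⟨c, hc, r, hr, rfl⟩ := haM
    refine ⟨r * c * l, ⟨?_, ?_⟩, ?_⟩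
    · exact mul_mem (mul_mem (hRM r hr) (hCM c hc)) (hLM l hl)
    · show r * c * l ∈ normalizer (T : Set G)
      rw [FusionH12.mem_nrm, FusionH12.cj_mul]; exact haT
    · have h1 : φ' r = 1 := by
        have := hφ' r (h.le hr) 1 (one_mem _)
        rw [mul_one] at this
        rw [this]; exact h.f_R hr
      have h2 : φ' c = 1 := by
        have := hφ' 1 (one_mem _) c hc
        rw [one_mul] at this
        rw [this]; exact f_one h.fm
      have h3 : φ' l = φ l := by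
        have := hφ' l hl 1 (one_mem _)
        rw [mul_one] at this
        exact this
      rw [hfm _ (mul_mem (hRM r hr) (hCM c hc)) _ (hLM l hl), hfm _ (hRM r hr) _ (hCM c hc), h1, h2, h3, one_mul, one_mul]
  · exact fun x hx r hr => heqv x hx.1 r hr

end CfsgLib.QdF9
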