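import Cfsg.Agent.LibQdF9B
import Cfsg.Agent.LibFus21Fac2
import Cfsg.Agent.LibKLc9C
/-! `Qd(p)`-free groups and their fusion systems. Seat helper9. -/
set_option autoImplicit false
set_option maxHeartbeats 400000

namespace CfsgLib.QdF9

open Cfsg Cfsg.FusionSystem CfsgLib.Fus21

universe u

section real

variable {G : Type*} [Group G] [Finite G] {p : ℕ} [hp : Fact p.Prime]

/-- `N_G(Q)` realizes `N_F(Q)` -/
theorem group_norm_real (S : Sylow p G) {Q : Subgroup G} (hQ : (groupFusionSystem (S : Subgroup G)).IsFullyNormalized Q) :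
    ∃ ι : normalizerIn (S : Subgroup G) Q →* ↥(Subgroup.normalizer (Q : Set G)), 
      (∀ x, ((ι x : ↥(Subgroup.normalizer (Q : Set G))) : G) = x) ∧
      (normSys (groupFusionSystem (S : Subgroup G)) Q hQ.1).IsRealizedBy ι ∧
      (∃ T : Sylow p ↥(Subgroup.normalizer (Q : Set G)), (T : Subgroup ↥(Subgroup.normalizer (Q : Set G))) = ι.range) ∧
      (img ι Q).Normal := by
  have hQS := hQ.1
  have hQN : Q ≤ normalizerIn (S : Subgroup G) Q := le_normalizerIn hQS
  let ι : normalizerIn (S : Subgroup G) Q →* ↥(Subgroup.normalizer (Q : Set G)) := Subgroup.inclusion inf_le_right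
  have hι : ∀ x, ((ι x : ↥(Subgroup.normalizer (Q : Set G))) : G) = x := fun x => rfl
  refine ⟨ι, hι, ⟨Subgroup.inclusion_injective _, fun P hP φ hφN => ⟨?_, ?_⟩⟩, ?_, ?_⟩
  · intro hφ
    obtain ⟨ψ, ⟨-, -, g, hg⟩, h1, κ, h2⟩ := normSys_ext hφ
    have hgN : g ∈ Subgroup.normalizer (Q : Set G) := by
      refine mem_normalizer_of_maps fun x hx => ?_
      rw [← hg ⟨x, Subgroup.mem_sup_right hx⟩, h2 x hx]
      exact (κ _).2
    refine ⟨⟨g, hgN⟩, fun x => Subtype.ext ?_⟩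
    show φ x = g * x * g⁻¹
    rw [← hg ⟨x, Subgroup.mem_sup_left x.2⟩, h1 x x.2]
  · rintro ⟨⟨g, hgN⟩, hg⟩
    have hg' : ∀ x : P, φ x = g * x * g⁻¹ := fun x => congrArg Subtype.val (hg x)
    obtain ⟨κ, hκ⟩ := exists_conjAut hgN
    have hPS : P ≤ (S : Subgroup G) := hP.trans (normalizerIn_le _ _)
    have hW : P ⊔ Q ≤ (S : Subgroup G) := sup_le hPS hQS
    have hgW : P ⊔ Q ≤ (S : Subgroup G).comap (MulAut.conj g).toMonoidHom := by
      refine sup_le (fun x hx => ?_) (fun x hx => ?_)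
      · show g * x * g⁻¹ ∈ (S : Subgroup G)
        rw [← hg' ⟨x, hx⟩]; exact normalizerIn_le _ _ (hφN _)
      · show g * x * g⁻¹ ∈ (S : Subgroup G)
        exact hQS ((Subgroup.mem_normalizer_iff.1 hgN x).1 hx)
    refine mem_normSys_of (hQ := hQS) (R := P ⊔ Q) (ψ := conjHom (P ⊔ Q) g) hP ⟨hW, fun x => hgW x.2, g, fun x => rfl⟩
      le_sup_left le_sup_right (fun x hx => (hg' ⟨x, hx⟩).symm) κ (fun x hx => (hκ ⟨x, hx⟩).symm)
  · obtain ⟨R, hR⟩ := (sylow_normalizer_iff S).2 ((fn_group_iff S hQS).1 hQ)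
    refine ⟨R, ?_⟩
    rw [hR]
    exact (Subgroup.inclusion_range _).symm
  · refine ⟨?_⟩
    rintro _ ⟨x, hx, rfl⟩ g
    have hx' : (x : G) ∈ Q := hx
    have h1 : (g : G) * x * (g : G)⁻¹ ∈ Q := (Subgroup.mem_normalizer_iff.1 g.2 x).1 hx'
    exact ⟨⟨_, hQN h1⟩, h1, rfl⟩

end real

variable {G : Type u} [Group G] [Finite G] {p : ℕ} [hp : Fact p.Prime]

/-- the model at a centric subgroup -/
theorem group_centric_model (S : Sylow p G) {Q : Subgroup G} (hQ : (groupFusionSystem (S : Subgroup G)).IsFullyNormalized Q)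
    (hQc : (groupFusionSystem (S : Subgroup G)).IsCentric Q) :
    ∃ ι : normalizerIn (S : Subgroup G) Q →* ↥(Subgroup.normalizer (Q : Set G)) ⧸ pPrimeCore p ↥(Subgroup.normalizer (Q : Set G)),
      (normSys (groupFusionSystem (S : Subgroup G)) Q hQ.1).IsModel p
        (↥(Subgroup.normalizer (Q : Set G)) ⧸ pPrimeCore p ↥(Subgroup.normalizer (Q : Set G))) ι := by
  obtain ⟨ι, -, hr, ⟨T, hT⟩, hn⟩ := group_norm_real S hQ
  have hcc : (normSys (groupFusionSystem (S : Subgroup G)) Q hQ.1).IsCentric Q :=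
    centric_sub (normSys_sub _ Q hQ.1) (normalizerIn_le _ _) (le_normalizerIn hQ.1) hQc
  exact ⟨_, group_model hr hT hcc hn⟩

theorem sectionFree_group {H : Type*} [Group H] (S : Sylow p G) (hG : ¬ Involves H G) :
    (groupFusionSystem (S : Subgroup G)).IsSectionFree p H := by
  intro Q hQ hQc N hN L _ ι' hm hinv
  have hNe := normSys_unique hQ.1 hN
  subst hNe
  obtain ⟨ι, hι⟩ := group_centric_model S hQ hQc
  obtain ⟨φ, -⟩ := model_unique hm hι
  refine hG (involves_of_injective (Subgroup.subtype _) (Subgroup.subtype_injective _)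
    (involves_of_surjective (QuotientGroup.mk' _) (QuotientGroup.mk'_surjective _)
      (involves_of_injective φ.toMonoidHom φ.injective hinv)))

theorem qd_free_of_sectionFree (hp2 : p ≠ 2) (S : Sylow p G)
    (hfree : (groupFusionSystem (S : Subgroup G)).IsSectionFree p (qd p)) : ¬ Involves (qd p) G := by
  intro hinv
  rw [Qd9.involves_iff] at hinv
  obtain ⟨R, L, φ, ψ, h⟩ := exists_qdo hinv
  obtain ⟨T, hRT, hT⟩ := FusionH12.SylIn.exists_ge (H := R ⊔ Subgroup.centralizer (R : Set G)) h.pg le_sup_left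
  obtain ⟨g, hg⟩ := exists_conj_le_sylow S hT.pg
  obtain ⟨T₂, hc, hfn⟩ := exists_fullyNormalized (groupFusionSystem (S : Subgroup G)) hg
  obtain ⟨-, -, g', hg'⟩ := isConj_group.1 hc
  have hT₂ : FusionH12.cj (g' * g) T = T₂ := by rw [FusionH12.cj_mul]; exact hg'
  have h1 := h.conj (g' * g)
  have hT1 := hT.cj (g' * g)
  rw [FusionH12.cj_sup, FusionH12.cj_centralizer, hT₂] at hT1
  have hRT1 : FusionH12.cj (g' * g) R ≤ T₂ := by rw [← hT₂]; exact FusionH12.cj_mono hRT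
  set R₁ := FusionH12.cj (g' * g) R with hR₁
  obtain ⟨X, φ', hX, h2⟩ := h1.extend hT1 hRT1
  have h3 := (h2.sub hX).sec hp2 (D := pPrimeCore p ↥(Subgroup.normalizer (T₂ : Set G))) (CfsgLib.Cores.pPrimeCore_coprime p)
  -- `T₂` is centric
  have hcen : (groupFusionSystem (S : Subgroup G)).IsCentric T₂ := by
    refine ⟨hfn.1, fun Q' hQ' => ?_⟩
    obtain ⟨-, hQ'S, b, hb⟩ := isConj_group.1 hQ'
    have hb' : FusionH12.cj b T₂ = Q' := hb
    have hT3 := hT1.cj b
    rw [FusionH12.cj_sup, FusionH12.cj_centralizer, hb'] at hT3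
    intro x hx
    obtain ⟨hxS, hxc⟩ := mem_centralizerIn'.1 hx
    have h4 : Q' ⊔ Subgroup.zpowers x ≤ (S : Subgroup G) := sup_le hQ'S (by rw [Subgroup.zpowers_le]; exact hxS)
    have h5 : Subgroup.zpowers x ≤ Subgroup.centralizer ((FusionH12.cj b R₁ : Subgroup G) : Set G) := by
      rw [Subgroup.zpowers_le, Subgroup.mem_centralizer_iff]
      intro r hr
      have h6 : r ∈ Q' := by
        rw [← hb']; exact FusionH12.cj_mono hRT1 hr
      exact (mul_inv_eq_iff_eq_mul.1 (hxc r h6)).symm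
    have h6 := hT3.eq_of_le (P := Q' ⊔ Subgroup.zpowers x) (S.2.to_le h4)
      (sup_le hT3.le (h5.trans le_sup_right)) le_sup_left
    rw [← h6]
    exact Subgroup.mem_sup_right (Subgroup.mem_zpowers x)
  obtain ⟨ι, hι⟩ := group_centric_model S hfn hcen
  exact hfree T₂ hfn hcen _ (normSys_is _ T₂ hfn.1) _ ι hι (Qd9.involves_iff.2 h3)

end CfsgLib.QdF9
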