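import Mathlib
import Cfsg.Agent.LibKQd2
import Cfsg.Agent.LibExtraH28
import Cfsg.Prelude.Def_PLocal
import Cfsg.Prelude.Def_Transfer

/-!
# The Sylow `p`-subgroup of `Qd(p)` (helper12)
-/

set_option autoImplicit false
set_option linter.style.haveILetI false
set_option linter.unusedSectionVars false

namespace CfsgLib.QdSylH12

open Cfsg Subgroup CfsgLib.KQd

variable {p : ℕ} [hp : Fact p.Prime]

abbrev E (p : ℕ) [Fact p.Prime] := ↥(S0 : Subgroup ↥(qdOver (ZMod p)))

theorem mk0_inj {a u v a' u' v' : ZMod p} (h : (mk0 a u v : E p) = mk0 a' u' v') : a = a' ∧ u = u' ∧ v = v' := by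
  have h1 := congrArg co h
  rw [co_mk0, co_mk0] at h1
  exact ⟨congrArg (fun t => t.1) h1, congrArg (fun t => t.2.1) h1, congrArg (fun t => t.2.2) h1⟩

theorem card_E : Nat.card (E p) = p ^ 3 := by
  have h : Function.Bijective (fun t : ZMod p × (ZMod p × ZMod p) => (mk0 t.1 t.2.1 t.2.2 : E p)) := by
    constructor
    · rintro ⟨a, u, v⟩ ⟨a', u', v'⟩ h
      obtain ⟨h1, h2, h3⟩ := mk0_inj h
      exact Prod.ext h1 (Prod.ext h2 h3)
    · intro x
      obtain ⟨a, u, v, rfl⟩ := mk0_surj x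
      exact ⟨⟨a, u, v⟩, rfl⟩
  rw [← Nat.card_eq_of_bijective _ h, Nat.card_prod, Nat.card_prod, Nat.card_zmod]
  ring

theorem mk0_one : (mk0 0 0 0 : E p) = 1 := by
  have h : (mk0 0 0 0 : E p) * mk0 0 0 0 = mk0 0 0 0 := by rw [mk0_mul]; simp
  exact mul_eq_left.1 h

theorem mk0_inv (a u v : ZMod p) : (mk0 a u v : E p)⁻¹ = mk0 (-a) (a * v - u) (-v) := by
  rw [inv_eq_iff_mul_eq_one, mk0_mul, ← mk0_one]
  congr 1 <;> ring

theorem mk0_pow (a u v : ZMod p) (n : ℕ) : (mk0 a u v : E p) ^ n = mk0 (n * a) (n * u + (n.choose 2 : ℕ) * (a * v)) (n * v) := by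
  induction n with
  | zero => rw [pow_zero, ← mk0_one]; simp
  | succ n ih =>
    rw [pow_succ, ih, mk0_mul]
    have h : ((n + 1).choose 2 : ℕ) = n + n.choose 2 := by
      rw [Nat.choose_succ_succ' n 1, Nat.choose_one_right]
    rw [h]
    congr 1 <;> push_cast <;> ring

theorem pow_p (hp2 : p ≠ 2) (x : E p) : x ^ p = 1 := by
  obtain ⟨a, u, v, rfl⟩ := mk0_surj x
  rw [mk0_pow]
  have h1 : ((p : ℕ) : ZMod p) = 0 := ZMod.natCast_self p
  have h2 : ((p.choose 2 : ℕ) : ZMod p) = 0 := by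
    rw [ZMod.natCast_eq_zero_iff]
    have h3 := hp.out.two_le
    exact hp.out.dvd_choose_self (by norm_num) (by omega)
  rw [h1, h2, ← mk0_one]
  simp

theorem mem_center {x : E p} : x ∈ center (E p) ↔ ∃ u, x = mk0 0 u 0 := by
  rw [Subgroup.mem_center_iff]
  constructor
  · intro h
    obtain ⟨a, u, v, rfl⟩ := mk0_surj x
    have h1 := h (mk0 1 0 0)
    have h2 := h (mk0 0 0 1)
    rw [mk0_mul, mk0_mul] at h1 h2
    obtain ⟨_, h3, _⟩ := mk0_inj h1
    obtain ⟨_, h4, _⟩ := mk0_inj h2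
    have hv : v = 0 := by linear_combination h3
    have ha : a = 0 := by linear_combination -h4
    exact ⟨u, by rw [ha, hv]⟩
  · rintro ⟨u, rfl⟩ y
    obtain ⟨a, u', v, rfl⟩ := mk0_surj y
    rw [mk0_mul, mk0_mul]
    congr 1 <;> ring

theorem card_center : Nat.card (center (E p)) = p := by
  have h : Function.Bijective (fun u : ZMod p => (⟨mk0 0 u 0, mem_center.2 ⟨u, rfl⟩⟩ : center (E p))) := by
    constructor
    · intro u v h
      exact (mk0_inj (congrArg Subtype.val h)).2.1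
    · rintro ⟨x, hx⟩
      obtain ⟨u, rfl⟩ := mem_center.1 hx
      exact ⟨u, rfl⟩
  rw [← Nat.card_eq_of_bijective _ h, Nat.card_zmod]

theorem extra (hp2 : p ≠ 2) : IsExtraspecial p (E p) := by
  haveI : Finite (E p) := Nat.finite_of_card_ne_zero (by rw [card_E]; exact pow_ne_zero _ hp.out.ne_zero)
  refine CfsgLib.ExtraH28.isExtraspecial_of (IsPGroup.of_card card_E) card_center ?_ ?_ ?_
  · intro x
    rw [pow_p hp2]; exact one_mem _
  · intro x y
    obtain ⟨a, u, v, rfl⟩ := mk0_surj x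
    obtain ⟨a', u', v', rfl⟩ := mk0_surj y
    rw [mk0_inv, mk0_inv, mk0_mul, mk0_mul, mk0_mul, mem_center]
    refine ⟨a * v' - a' * v, ?_⟩
    congr 1 <;> ring
  · refine ⟨mk0 1 0 0, mk0 0 0 1, ?_⟩
    rw [mk0_mul, mk0_mul]
    intro h
    have := (mk0_inj h).2.1
    simp at this

theorem s3074 (hp2 : p ≠ 2) (P : Sylow p ↥(qd p)) :
    IsExtraspecial p ↥P ∧ Nat.card P = p ^ 3 ∧ Monoid.exponent ↥P = p := by
  let Q : Sylow p ↥(qd p) := (Sy0 : Sylow p ↥(qdOver (ZMod p)))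
  have e : E p ≃* P := Sylow.equiv Q P
  haveI : Finite (E p) := Nat.finite_of_card_ne_zero (by rw [card_E]; exact pow_ne_zero _ hp.out.ne_zero)
  refine ⟨CfsgLib.ExtraH28.isExtraspecial_congr e (extra hp2), ?_, ?_⟩
  · rw [← Nat.card_congr e.toEquiv]; exact card_E
  · have h1 : Monoid.exponent (↥P) ∣ p := by
      apply Monoid.exponent_dvd_of_forall_pow_eq_one
      intro x
      have h2 := pow_p hp2 (e.symm x)
      rw [← map_pow] at h2
      exact (MulEquiv.map_eq_one_iff e.symm).1 h2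
    rcases (Nat.dvd_prime hp.out).1 h1 with h2 | h2
    · exfalso
      rw [Monoid.exp_eq_one_iff] at h2
      haveI := h2
      have h3 : Nat.card P = 1 := Nat.card_of_subsingleton 1
      rw [← Nat.card_congr e.toEquiv, card_E] at h3
      have h4 := Nat.one_lt_pow (by norm_num : 3 ≠ 0) hp.out.one_lt
      omega
    · exact h2

end CfsgLib.QdSylH12
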