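import Cfsg.Agent.EqBase
import Cfsg.Agent.LibRL1
import Cfsg.Agent.LibH6ZasP
import Cfsg.Agent.LibSL23b
/-!
# Regular solvable linear groups (helper16): groups of fixed point free type without subgroups of index two
-/
set_option autoImplicit false
set_option linter.all false
open Cfsg
namespace CfsgLib.RL

universe u v

theorem p5 : ∃ σ τ : Equiv.Perm (Fin 5), Equiv.Perm.sign σ = 1 ∧ Equiv.Perm.sign τ = 1 ∧ σ * τ ≠ τ * σ :=
  ⟨Equiv.swap 0 1 * Equiv.swap 2 3, Equiv.swap 1 2 * Equiv.swap 3 4, by decide, by decide, by decide⟩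

/-- no subgroup of index two: the quotient by the core is the alternating group of degree four -/
theorem struct {G : Type u} [Group G] [Finite G] (hF : CfsgLib.H6Zas.IsFpf G) (hs : Group.IsSolvable G) (hev : 2 ∣ Nat.card G)
    (hno : ¬ ∃ N : Subgroup G, N.Normal ∧ N.index = 2) :
    ∃ Θ : G →* Equiv.Perm (Fin 4), (∀ g, Equiv.Perm.sign (Θ g) = 1) ∧ (∀ σ, Equiv.Perm.sign σ = 1 → ∃ g, Θ g = σ) := by
  classical
  obtain ⟨N, hN, hNZ, h⟩ := hF.core_exists
  have hcyc : ∀ T : Sylow 2 G, ¬ IsCyclic (T : Subgroup G) := by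
    intro T hT
    obtain ⟨H, hH⟩ := Cfsg.Agent.S0219.result (even_iff_two_dvd.mpr hev) T hT
    exact hno ⟨H, Subgroup.normal_of_index_eq_two hH, hH⟩
  rcases h with h | h | h | h
  · exfalso
    subst h
    haveI : IsZGroup G := IsZGroup.of_injective (f := (Subgroup.topEquiv (G := G)).symm.toMonoidHom) (Subgroup.topEquiv (G := G)).symm.injective
    obtain ⟨T⟩ : Nonempty (Sylow 2 G) := inferInstance
    exact hcyc T (IsZGroup.isZGroup 2 Nat.prime_two T)
  · exfalso
    obtain ⟨f, hf, hfk⟩ := id h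
    apply hno
    apply idx2 N
    · intro x y
      rw [← hfk, MonoidHom.mem_ker, map_mul, map_mul, map_mul, map_inv, map_inv, CfsgLib.H6Zas.d2facts.1 (f x) (f y)]
      group
    · rw [CfsgLib.H6Zas.Klein.index h]
      norm_num
  · obtain ⟨Θ, -, hA⟩ := h
    have hsg : ∀ g, Equiv.Perm.sign (Θ g) = 1 := by
      intro g
      by_contra hg
      apply hno
      let f : G →* ℤˣ := (Equiv.Perm.sign : Equiv.Perm (Fin 4) →* ℤˣ).comp Θ
      refine ⟨f.ker, inferInstance, ?_⟩
      have h1 : Function.Surjective f := by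
        intro u
        rcases Int.units_eq_one_or u with h2 | h2
        · exact ⟨1, by rw [map_one, h2]⟩
        · refine ⟨g, ?_⟩
          rw [h2]
          rcases Int.units_eq_one_or (f g) with h3 | h3
          · exact absurd h3 hg
          · exact h3
      rw [Subgroup.index_ker, MonoidHom.range_eq_top.mpr h1, Subgroup.card_top, Nat.card_eq_fintype_card]
      rfl
    refine ⟨Θ, hsg, ?_⟩
    intro σ hσ
    have h1 : σ ∈ alternatingGroup (Fin 4) := Equiv.Perm.mem_alternatingGroup.mpr hσ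
    exact hA h1
  · exfalso
    obtain ⟨Θ, -, hA⟩ := h
    haveI := hs
    haveI h1 : Group.IsSolvable Θ.range := Group.isSolvable_of_surjective Θ.rangeRestrict_surjective
    haveI h2 : Group.IsSolvable (alternatingGroup (Fin 5)) := Group.isSolvable_of_isSolvable_injective (Subgroup.inclusion_injective hA)
    have h3 := IsSimpleGroup.comm_iff_isSolvable.mpr h2
    obtain ⟨σ, τ, hσ, hτ, hne⟩ := p5
    exact hne (congrArg Subtype.val (h3 ⟨σ, Equiv.Perm.mem_alternatingGroup.mpr hσ⟩ ⟨τ, Equiv.Perm.mem_alternatingGroup.mpr hτ⟩))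

theorem p4a : ∀ σ v : Equiv.Perm (Fin 4), Equiv.Perm.sign σ = 1 → Equiv.Perm.sign v = 1 → σ * σ ≠ 1 → v * v = 1 → v ≠ 1 → σ * v * σ⁻¹ ≠ v := by decide +kernel
theorem p4b : ∀ a b : Equiv.Perm (Fin 4), Equiv.Perm.sign a = 1 → Equiv.Perm.sign b = 1 → a * a = 1 → b * b = 1 → (a * b) * (a * b) = 1 := by decide +kernel
theorem p4c : ∀ σ : Equiv.Perm (Fin 4), Equiv.Perm.sign σ = 1 → σ * σ = 1 ∨ σ * σ * σ = 1 := by decide +kernel
theorem p4d : ∃ σ : Equiv.Perm (Fin 4), Equiv.Perm.sign σ = 1 ∧ σ * σ ≠ 1 := by decide +kernel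

section
variable {G : Type u} [Group G] [Finite G] (Θ : G →* Equiv.Perm (Fin 4)) (h1 : ∀ g, Equiv.Perm.sign (Θ g) = 1)
  (h2 : ∀ σ, Equiv.Perm.sign σ = 1 → ∃ g, Θ g = σ)
include h1 h2

theorem two_elt {s : G} (hs : IsPGroup 2 (Subgroup.zpowers s)) : Θ s * Θ s = 1 := by
  rcases p4c (Θ s) (h1 s) with h | h
  · exact h
  · obtain ⟨k, hk⟩ := hs ⟨s, Subgroup.mem_zpowers s⟩
    have hk' : s ^ 2 ^ k = 1 := congrArg Subtype.val hk
    have h3 : (Θ s) ^ 2 ^ k = 1 := by rw [← map_pow, hk', map_one]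
    have h4 : (Θ s) ^ 3 = 1 := by rw [pow_succ, pow_two]; exact h
    have h5 : orderOf (Θ s) ∣ Nat.gcd (2 ^ k) 3 := Nat.dvd_gcd (orderOf_dvd_of_pow_eq_one h3) (orderOf_dvd_of_pow_eq_one h4)
    have h6 : Nat.gcd (2 ^ k) 3 = 1 := Nat.Coprime.pow_left k (by norm_num)
    rw [h6, Nat.dvd_one, orderOf_eq_one_iff] at h5
    rw [h5, one_mul]

/-- Frattini argument -/
theorem exists_norm (S : Sylow 2 G) : ∃ n ∈ Subgroup.normalizer ((S : Subgroup G) : Set G), Θ n * Θ n ≠ 1 := by
  classical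
  haveI := Fact.mk Nat.prime_two
  let U : Subgroup G :=
    { carrier := {g | Θ g * Θ g = 1}
      one_mem' := by
        show Θ 1 * Θ 1 = 1
        rw [map_one, one_mul]
      mul_mem' := by
        intro a b ha hb
        show Θ (a * b) * Θ (a * b) = 1
        rw [map_mul]
        exact p4b _ _ (h1 a) (h1 b) ha hb
      inv_mem' := by
        intro a ha
        have ha' : Θ a * Θ a = 1 := ha
        show Θ a⁻¹ * Θ a⁻¹ = 1
        rw [map_inv, ← mul_inv_rev, ha', inv_one] }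
  haveI hU : U.Normal := ⟨by
    intro a ha g
    have ha' : Θ a * Θ a = 1 := ha
    show Θ (g * a * g⁻¹) * Θ (g * a * g⁻¹) = 1
    rw [map_mul, map_mul, map_inv]
    calc Θ g * Θ a * (Θ g)⁻¹ * (Θ g * Θ a * (Θ g)⁻¹) = Θ g * (Θ a * Θ a) * (Θ g)⁻¹ := by group
      _ = 1 := by rw [ha']; group⟩
  have hSU : (S : Subgroup G) ≤ U := by
    intro s hs
    exact two_elt Θ h1 h2 (S.isPGroup'.to_le (by rw [Subgroup.zpowers_le]; exact hs))
  have h3 := S.normalizer_sup_eq_top' hSU
  obtain ⟨σ, hσ1, hσ2⟩ := p4d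
  obtain ⟨y, hy⟩ := h2 σ hσ1
  have h4 : y ∈ Subgroup.normalizer ((S : Subgroup G) : Set G) ⊔ U := by
    rw [show Subgroup.normalizer ((S : Subgroup G) : Set G) ⊔ U = ⊤ from h3]; trivial
  rw [Subgroup.mem_sup_of_normal_right] at h4
  obtain ⟨n, hn, u, hu, rfl⟩ := h4
  refine ⟨n, hn, fun h5 => hσ2 ?_⟩
  rw [← hy, map_mul]
  exact p4b _ _ (h1 n) (h1 u) h5 hu

end

theorem q16 : ∀ x y : QuaternionGroup 4, x * x * x * x ≠ 1 → y * y * y * y ≠ 1 → y = x ∨ y = x * x * x ∨ y = x * x * x * x * x ∨ y = x * x * x * x * x * x * x := by decide +kernel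
theorem q16a : ∃ x : QuaternionGroup 4, x * x * x * x ≠ 1 := by decide +kernel
theorem q16b : ∀ x : QuaternionGroup 4, x * x * x * x ≠ 1 → x * x * x * x * x * x * x * x = 1 := by decide +kernel

/-- no quaternion Sylow subgroup of order 16 -/
theorem no16 {G : Type u} [Group G] [Finite G] (Θ : G →* Equiv.Perm (Fin 4)) (h1 : ∀ g, Equiv.Perm.sign (Θ g) = 1)
    (h2 : ∀ σ, Equiv.Perm.sign σ = 1 → ∃ g, Θ g = σ) (h8 : ¬ 8 ∣ Nat.card Θ.ker) (S : Sylow 2 G) (e : (S : Subgroup G) ≃* QuaternionGroup 4) : False := by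
  classical
  obtain ⟨n, hn, hnΘ⟩ := exists_norm Θ h1 h2 S
  obtain ⟨x, hx⟩ := q16a
  obtain ⟨a, ha⟩ : ∃ a, a = e.symm x := ⟨_, rfl⟩
  have hea : e a = x := by rw [ha]; exact e.apply_symm_apply x
  let b : (S : Subgroup G) := ⟨n * a * n⁻¹, (Subgroup.mem_normalizer_iff.mp hn _).mp a.2⟩
  have ha4 : a * a * a * a ≠ 1 := by
    intro h
    apply hx
    rw [← hea, ← map_mul, ← map_mul, ← map_mul, h, map_one]
  have hb4 : e b * e b * e b * e b ≠ 1 := by
    intro h
    rw [← map_mul, ← map_mul, ← map_mul] at h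
    have h3 : b * b * b * b = 1 := e.injective (h.trans (map_one e).symm)
    apply ha4
    apply Subtype.ext
    have h4 : (n * (a : G) * n⁻¹) * (n * a * n⁻¹) * (n * a * n⁻¹) * (n * a * n⁻¹) = 1 := congrArg Subtype.val h3
    show (a : G) * a * a * a = 1
    calc (a : G) * a * a * a = n⁻¹ * ((n * (a : G) * n⁻¹) * (n * a * n⁻¹) * (n * a * n⁻¹) * (n * a * n⁻¹)) * n := by group
      _ = 1 := by rw [h4]; group
  have hS2 : ∀ s : (S : Subgroup G), Θ s * Θ s = 1 := fun s => two_elt Θ h1 h2 (S.isPGroup'.to_le (by rw [Subgroup.zpowers_le]; exact s.2))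
  have hvv := hS2 a
  have hv1 : Θ a ≠ 1 := by
    intro h
    apply h8
    have h3 : orderOf (a : G) = 2 ^ 3 := by
      apply orderOf_eq_prime_pow
      · intro h4
        apply ha4
        apply Subtype.ext
        show (a : G) * a * a * a = 1
        have h4' : (a : G) ^ 4 = 1 := h4
        rw [← h4']
        simp only [pow_succ, pow_zero, one_mul, mul_assoc]
      · have h5 : a * a * a * a * a * a * a * a = 1 := by
          apply e.injective
          rw [map_mul, map_mul, map_mul, map_mul, map_mul, map_mul, map_mul, map_one, hea]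
          exact q16b x hx
        have h6 : (a : G) * a * a * a * a * a * a * a = 1 := congrArg Subtype.val h5
        show (a : G) ^ 8 = 1
        rw [← h6]
        simp only [pow_succ, pow_zero, one_mul, mul_assoc]
    have h4 : orderOf (a : G) ∣ Nat.card Θ.ker := Subgroup.orderOf_dvd_natCard Θ.ker h
    rw [h3] at h4
    exact h4
  apply p4a (Θ n) (Θ a) (h1 n) (h1 a) hnΘ hvv hv1
  have h3 : Θ (b : G) = Θ n * Θ a * (Θ n)⁻¹ := by
    show Θ (n * a * n⁻¹) = _
    rw [map_mul, map_mul, map_inv]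
  rw [← h3]
  rcases q16 (e a) (e b) (by rw [hea]; exact hx) hb4 with h | h | h | h
  · rw [e.injective h]
  · rw [← map_mul, ← map_mul] at h
    rw [e.injective h]
    show Θ ((a : G) * a * a) = Θ a
    rw [map_mul, map_mul, hvv, one_mul]
  · rw [← map_mul, ← map_mul, ← map_mul, ← map_mul] at h
    rw [e.injective h]
    show Θ ((a : G) * a * a * a * a) = Θ a
    rw [map_mul, map_mul, map_mul, map_mul, hvv, one_mul, hvv, one_mul]
  · rw [← map_mul, ← map_mul, ← map_mul, ← map_mul, ← map_mul, ← map_mul] at h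
    rw [e.injective h]
    show Θ ((a : G) * a * a * a * a * a * a) = Θ a
    rw [map_mul, map_mul, map_mul, map_mul, map_mul, map_mul, hvv, one_mul, hvv, one_mul, hvv, one_mul]

end CfsgLib.RL
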