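import Cfsg.Agent.EqBase
import Cfsg.Agent.LibRL2
/-!
# Regular solvable linear groups (helper16): identification of SL(2,3) and its product with C5
-/
set_option autoImplicit false
set_option linter.all false
open Cfsg
open scoped MatrixGroups
namespace CfsgLib.RL

universe u v

theorem q8 : ∀ x y z : QuaternionGroup 2, x * x ≠ 1 → y * y ≠ 1 → z * z ≠ 1 → y ≠ x → y ≠ x * x * x → z ≠ x → z ≠ x * x * x → z ≠ y → z ≠ y * y * y →
    (x * x * x * x = 1 ∧ y * y = x * x ∧ y * x = x * x * x * y ∧ z = x * y) ∨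
    ((x * x * x) * (x * x * x) * (x * x * x) * (x * x * x) = 1 ∧ (y * y * y) * (y * y * y) = (x * x * x) * (x * x * x) ∧
      (y * y * y) * (x * x * x) = (x * x * x) * (x * x * x) * (x * x * x) * (y * y * y) ∧ z * z * z = (x * x * x) * (y * y * y)) := by decide +kernel

theorem q8b : ∃ x : QuaternionGroup 2, x * x ≠ 1 := by decide +kernel
theorem q8c : ∀ x : QuaternionGroup 2, x * x * x * x = 1 := by decide +kernel

/-- generators -/
theorem rel8 {G : Type u} [Group G] [Finite G] (Θ : G →* Equiv.Perm (Fin 4)) (h1 : ∀ g, Equiv.Perm.sign (Θ g) = 1)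
    (h2 : ∀ σ, Equiv.Perm.sign σ = 1 → ∃ g, Θ g = σ) (h4 : ¬ 4 ∣ Nat.card Θ.ker) (h9 : ¬ 9 ∣ Nat.card G)
    (S : Sylow 2 G) (e : (S : Subgroup G) ≃* QuaternionGroup 2) :
    ∃ i j g : G, CfsgLib.SL23.Rel i j g ∧ i * i ≠ 1 := by
  classical
  obtain ⟨n, hn, hnΘ⟩ := exists_norm Θ h1 h2 S
  -- the element of order three
  obtain ⟨g, hg, hgΘ, hg3⟩ : ∃ g ∈ Subgroup.normalizer ((S : Subgroup G) : Set G), Θ g * Θ g ≠ 1 ∧ g * g * g = 1 := by
    have hn3 : (Θ n) ^ 3 = 1 := by
      rcases p4c (Θ n) (h1 n) with h | h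
      · exact absurd h hnΘ
      · rw [pow_succ, pow_two]; exact h
    obtain ⟨b, hb, hbn⟩ : ∃ b : ℕ, ¬ 3 ∣ b ∧ n ^ (3 * b) = 1 := by
      by_cases h3 : 3 ∣ orderOf n
      · obtain ⟨b, hb⟩ := h3
        refine ⟨b, ?_, ?_⟩
        · rintro ⟨c, rfl⟩
          apply h9
          refine Dvd.dvd.trans ?_ (orderOf_dvd_natCard n)
          rw [hb]
          exact ⟨c, by ring⟩
        · rw [← hb, pow_orderOf_eq_one]
      · refine ⟨orderOf n, h3, ?_⟩
        rw [mul_comm, pow_mul, pow_orderOf_eq_one, one_pow]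
    refine ⟨n ^ b, Subgroup.pow_mem _ hn b, ?_, ?_⟩
    · intro h
      apply hnΘ
      rw [map_pow] at h
      have h5 : (Θ n) ^ (2 * b) = 1 := by rw [two_mul, pow_add]; exact h
      have h6 : orderOf (Θ n) ∣ 3 := orderOf_dvd_of_pow_eq_one hn3
      have h7 : orderOf (Θ n) ∣ 2 * b := orderOf_dvd_of_pow_eq_one h5
      rcases (Nat.dvd_prime Nat.prime_three).mp h6 with h8 | h8
      · rw [orderOf_eq_one_iff] at h8
        rw [h8, one_mul]
      · rw [h8] at h7
        exact absurd ((Nat.Coprime.dvd_of_dvd_mul_left (by norm_num) h7)) hb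
    · rw [← pow_add, ← pow_add, show b + b + b = 3 * b by ring, hbn]
  obtain ⟨x, hx⟩ := q8b
  obtain ⟨a, ha⟩ : ∃ a, a = e.symm x := ⟨_, rfl⟩
  have hea : e a = x := by rw [ha]; exact e.apply_symm_apply x
  obtain ⟨b, hb⟩ : ∃ b : (S : Subgroup G), (b : G) = g * a * g⁻¹ := ⟨⟨g * a * g⁻¹, (Subgroup.mem_normalizer_iff.mp hg _).mp a.2⟩, rfl⟩
  obtain ⟨c, hc⟩ : ∃ c : (S : Subgroup G), (c : G) = g * b * g⁻¹ := ⟨⟨g * b * g⁻¹, (Subgroup.mem_normalizer_iff.mp hg _).mp b.2⟩, rfl⟩
  have hca : g * (c : G) * g⁻¹ = a := by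
    rw [hc, hb]
    calc g * (g * (g * (a : G) * g⁻¹) * g⁻¹) * g⁻¹ = (g * g * g) * a * (g * g * g)⁻¹ := by group
      _ = a := by rw [hg3]; group
  -- squares
  have sq : ∀ u v : (S : Subgroup G), (v : G) = g * u * g⁻¹ → e u * e u ≠ 1 → e v * e v ≠ 1 := by
    intro u v huv hu hv
    apply hu
    rw [← map_mul] at hv ⊢
    have h5 : v * v = 1 := e.injective (hv.trans (map_one e).symm)
    have h6 : (v : G) * v = 1 := congrArg Subtype.val h5
    have h7 : u * u = 1 := by
      apply Subtype.ext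
      show (u : G) * u = 1
      rw [huv] at h6
      calc (u : G) * u = g⁻¹ * (g * u * g⁻¹ * (g * u * g⁻¹)) * g := by group
        _ = 1 := by rw [h6]; group
    rw [h7, map_one]
  have hx2 : e a * e a ≠ 1 := by rw [hea]; exact hx
  have hy2 := sq a b hb hx2
  have hz2 := sq b c hc hy2
  have hS2 : ∀ s : (S : Subgroup G), Θ s * Θ s = 1 := fun s => two_elt Θ h1 h2 (S.isPGroup'.to_le (by rw [Subgroup.zpowers_le]; exact s.2))
  have nt : ∀ s : (S : Subgroup G), e s * e s ≠ 1 → Θ s ≠ 1 := by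
    intro s hs h
    apply h4
    have h3 : orderOf (s : G) = 2 ^ 2 := by
      apply orderOf_eq_prime_pow
      · intro h5
        apply hs
        rw [← map_mul]
        have h6 : s * s = 1 := by
          apply Subtype.ext
          show (s : G) * s = 1
          have h5' : (s : G) ^ 2 = 1 := h5
          rw [← pow_two, h5']
        rw [h6, map_one]
      · have h5 : s * s * s * s = 1 := by
          apply e.injective
          rw [map_mul, map_mul, map_mul, map_one]
          exact q8c _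
        have h6 : (s : G) * s * s * s = 1 := congrArg Subtype.val h5
        show (s : G) ^ 4 = 1
        rw [← h6]
        simp only [pow_succ, pow_zero, one_mul, mul_assoc]
    have h5 : orderOf (s : G) ∣ Nat.card Θ.ker := Subgroup.orderOf_dvd_natCard Θ.ker h
    rw [h3] at h5
    exact h5
  have ne1 : ∀ u v : (S : Subgroup G), (v : G) = g * u * g⁻¹ → e u * e u ≠ 1 → Θ v ≠ Θ u := by
    intro u v huv hu h
    apply p4a (Θ g) (Θ u) (h1 g) (h1 u) hgΘ (hS2 u) (nt u hu)
    rw [← map_inv, ← map_mul, ← map_mul, ← huv, h]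
  have ne2 : ∀ u v : (S : Subgroup G), Θ v ≠ Θ u → e v ≠ e u ∧ e v ≠ e u * e u * e u := by
    intro u v h
    refine ⟨fun h5 => h (by rw [e.injective h5]), fun h5 => h ?_⟩
    rw [← map_mul, ← map_mul] at h5
    rw [e.injective h5]
    show Θ ((u : G) * u * u) = Θ u
    rw [map_mul, map_mul, hS2 u, one_mul]
  have hba := ne2 a b (ne1 a b hb hx2)
  have hcb := ne2 b c (ne1 b c hc hy2)
  have hca' := ne2 a c (ne1 c a hca.symm hz2).symm
  -- transfer
  have tr : ∀ {u v : (S : Subgroup G)}, e u = e v → (u : G) = v := fun h => congrArg Subtype.val (e.injective h)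
  rcases q8 (e a) (e b) (e c) hx2 hy2 hz2 hba.1 hba.2 hca'.1 hca'.2 hcb.1 hcb.2 with ⟨k1, k2, k3, k4⟩ | ⟨k1, k2, k3, k4⟩
  · rw [← map_mul, ← map_mul, ← map_mul, ← map_one e] at k1
    rw [← map_mul, ← map_mul] at k2
    rw [← map_mul, ← map_mul, ← map_mul, ← map_mul] at k3
    rw [← map_mul] at k4
    have m1 : (a : G) * a * a * a = 1 := tr k1
    have m2 : (b : G) * b = a * a := tr k2
    have m3 : (b : G) * a = a * a * a * b := tr k3
    have m4 : (c : G) = a * b := tr k4
    refine ⟨a, b, g, ⟨m1, m2, m3, ?_, ?_, hg3⟩, ?_⟩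
    · rw [hb]; group
    · rw [← m4, hc]; group
    · intro h
      apply hx2
      rw [← map_mul]
      have h6 : a * a = 1 := Subtype.ext h
      rw [h6, map_one]
  · simp only [← map_mul] at k1 k2 k3 k4
    rw [← map_one e] at k1
    have m1 : ((a : G) * a * a) * (a * a * a) * (a * a * a) * (a * a * a) = 1 := tr k1
    have m2 : ((b : G) * b * b) * (b * b * b) = (a * a * a) * (a * a * a) := tr k2
    have m3 : ((b : G) * b * b) * (a * a * a) = (a * a * a) * (a * a * a) * (a * a * a) * (b * b * b) := tr k3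
    have m4 : (c : G) * c * c = (a * a * a) * (b * b * b) := tr k4
    refine ⟨(a : G) * a * a, b * b * b, g, ⟨m1, m2, m3, ?_, ?_, hg3⟩, ?_⟩
    · rw [hb]; group
    · rw [← m4, hc]; group
    · intro h
      have h4 : (a : G) * a * a * a = 1 := by
        have h5 : a * a * a * a = 1 := by
          apply e.injective
          rw [map_mul, map_mul, map_mul, map_one]
          exact q8c _
        exact congrArg Subtype.val h5
      apply hx2
      rw [← map_mul]
      have h6 : a * a = 1 := by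
        apply Subtype.ext
        show (a : G) * a = 1
        calc (a : G) * a = ((a : G) * a * a * a)⁻¹ * ((a * a * a) * (a * a * a)) := by
              rw [eq_inv_mul_iff_mul_eq]
              simp only [mul_assoc]
          _ = 1 := by rw [h4, h, inv_one, one_mul]
      rw [h6, map_one]

theorem card_Θ {G : Type u} [Group G] [Finite G] (Θ : G →* Equiv.Perm (Fin 4)) (h1 : ∀ g, Equiv.Perm.sign (Θ g) = 1)
    (h2 : ∀ σ, Equiv.Perm.sign σ = 1 → ∃ g, Θ g = σ) : Nat.card G = 12 * Nat.card Θ.ker := by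
  classical
  have h3 : Θ.range = alternatingGroup (Fin 4) := by
    ext σ
    rw [Equiv.Perm.mem_alternatingGroup]
    constructor
    · rintro ⟨g, rfl⟩; exact h1 g
    · intro h; exact h2 σ h
  have h4 : Nat.card Θ.range = 12 := by
    rw [h3]
    have h5 := nat_card_alternatingGroup (α := Fin 4)
    rw [h5]
    simp
    rfl
  rw [← Subgroup.card_mul_index Θ.ker, Subgroup.index_ker, h4, mul_comm]

end CfsgLib.RL
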