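import Cfsg.Agent.EqBase
import Cfsg.Agent.LibRL3
/-!
# Regular solvable linear groups (helper16): groups of fixed point free type without subgroups of index two, small orders
-/
set_option autoImplicit false
set_option linter.all false
open Cfsg
open scoped MatrixGroups
namespace CfsgLib.RL

universe u v

theorem noidx24 {G : Type u} [Group G] [Finite G] {i j g : G} (hR : CfsgLib.SL23.Rel i j g) (hi : i * i ≠ 1) (hG : Nat.card G = 24) :
    Nonempty (G ≃* SL(2, ZMod 3)) := by
  obtain ⟨Ψ, h1, h2, h3⟩ := CfsgLib.SL23.exists_hom hR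
  have hinj := CfsgLib.SL23.injective_of Ψ (by rw [h1]; exact hi)
  have hb : Function.Bijective Ψ := (Nat.bijective_iff_injective_and_card Ψ).mpr ⟨hinj, by rw [CfsgLib.SL23.card_sl, hG]⟩
  exact ⟨(MulEquiv.ofBijective Ψ hb).symm⟩

/-- a normal subgroup of order five is central if there is no subgroup of index two -/
theorem central5 {G : Type u} [Group G] [Finite G] (hno : ¬ ∃ N : Subgroup G, N.Normal ∧ N.index = 2) (P : Subgroup G) [P.Normal]
    (hP : Nat.card P = 5) : ∀ g : G, ∀ x ∈ P, g * x * g⁻¹ = x := by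
  classical
  haveI := Fact.mk Nat.prime_five
  haveI hPc : IsCyclic P := isCyclic_of_prime_card hP
  let f : G →* MulAut P := MulAut.conjNormal
  have hcomm : ∀ a b : MulAut P, a * b = b * a := by
    intro a b
    apply (IsCyclic.mulAutMulEquiv P).injective
    rw [map_mul, map_mul, mul_comm]
  have hc : ∀ x y : G, x * y * x⁻¹ * y⁻¹ ∈ f.ker := by
    intro x y
    rw [MonoidHom.mem_ker, map_mul, map_mul, map_mul, map_inv, map_inv, hcomm (f x) (f y)]
    group
  have hcard : Nat.card (MulAut P) = 4 := by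
    rw [Nat.card_congr (IsCyclic.mulAutMulEquiv P).toEquiv, hP, Nat.card_eq_fintype_card, ZMod.card_units_eq_totient]
    decide
  have h1 : f.ker.index ∣ 4 := by
    rw [Subgroup.index_ker, ← hcard]
    exact Subgroup.card_subgroup_dvd_card _
  have h2 : f.ker.index = 1 := by
    by_contra h3
    apply hno
    apply idx2 f.ker hc
    have h4 : f.ker.index ≤ 4 := Nat.le_of_dvd (by norm_num) h1
    interval_cases f.ker.index <;> omega
  rw [Subgroup.index_eq_one] at h2
  intro g x hx
  have h3 : g ∈ f.ker := by rw [h2]; trivial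
  have h4 : f g = 1 := h3
  have h5 : f g ⟨x, hx⟩ = ⟨x, hx⟩ := by rw [h4]; rfl
  exact congrArg Subtype.val h5

/-- the subgroup of order five -/
theorem normal5 {G : Type u} [Group G] [Finite G] (K : Subgroup G) [K.Normal] (hK : Nat.card K = 10) : ∃ P : Subgroup G, P.Normal ∧ Nat.card P = 5 := by
  classical
  haveI := Fact.mk Nat.prime_five
  obtain ⟨t, ht⟩ := exists_prime_orderOf_dvd_card' (G := K) 5 (by rw [hK]; norm_num)
  have hz : Nat.card (Subgroup.zpowers t) = 5 := by rw [Nat.card_zpowers, ht]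
  have hi : (Subgroup.zpowers t).index = 2 := by
    have h1 := Subgroup.card_mul_index (Subgroup.zpowers t)
    rw [hz, hK] at h1
    omega
  have key : ∀ x : K, x ^ 5 = 1 ↔ x ∈ Subgroup.zpowers t := by
    intro x
    constructor
    · intro hx
      have h1 : x * x ∈ Subgroup.zpowers t := Subgroup.mul_self_mem_of_index_two hi x
      have h2 : x = (x * x) ^ 3 := by
        calc x = x ^ 5 * x := by rw [hx, one_mul]
          _ = (x * x) ^ 3 := by rw [← pow_succ, ← pow_two, ← pow_mul]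
      rw [h2]
      exact Subgroup.pow_mem _ h1 3
    · intro hx
      have h1 : orderOf (⟨x, hx⟩ : Subgroup.zpowers t) ∣ 5 := by rw [← hz]; exact orderOf_dvd_natCard _
      have h2 := orderOf_dvd_iff_pow_eq_one.mp h1
      exact congrArg Subtype.val h2
  refine ⟨(Subgroup.zpowers t).map K.subtype, ⟨?_⟩, ?_⟩
  · rintro _ ⟨x, hx, rfl⟩ g
    refine ⟨⟨g * x * g⁻¹, (inferInstance : K.Normal).conj_mem x x.2 g⟩, ?_, rfl⟩
    apply (key _).mp
    apply Subtype.ext
    show (g * (x : G) * g⁻¹) ^ 5 = 1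
    have h1 : (x : G) ^ 5 = 1 := congrArg Subtype.val ((key x).mpr hx)
    rw [conj_pow, h1]; group
  · rw [Nat.card_congr (Subgroup.equivMapOfInjective _ K.subtype K.subtype_injective).symm.toEquiv, hz]

theorem noidx120 {G : Type u} [Group G] [Finite G] (hno : ¬ ∃ N : Subgroup G, N.Normal ∧ N.index = 2) (K : Subgroup G) [K.Normal] (hK : Nat.card K = 10)
    {i j g : G} (hR : CfsgLib.SL23.Rel i j g) (hi : i * i ≠ 1) (hG : Nat.card G = 120) :
    Nonempty (G ≃* SL(2, ZMod 3) × Multiplicative (ZMod 5)) := by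
  classical
  haveI := Fact.mk Nat.prime_five
  obtain ⟨Ψ, h1, h2, h3⟩ := CfsgLib.SL23.exists_hom hR
  have hinj := CfsgLib.SL23.injective_of Ψ (by rw [h1]; exact hi)
  obtain ⟨P, hPn, hP⟩ := normal5 K hK
  haveI := hPn
  have hcen := central5 hno P hP
  have hcomm : ∀ a : G, ∀ y : P, a * y = y * a := by
    intro a y
    have h4 := hcen a y y.2
    calc a * (y : G) = (a * y * a⁻¹) * a := by group
      _ = y * a := by rw [h4]
  let f : SL(2, ZMod 3) × P →* G :=
    MonoidHom.mk' (fun z => Ψ z.1 * z.2) (by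
      intro z w
      show Ψ (z.1 * w.1) * ((z.2 * w.2 : P) : G) = Ψ z.1 * z.2 * (Ψ w.1 * w.2)
      rw [map_mul, Subgroup.coe_mul, mul_assoc, mul_assoc, ← mul_assoc (Ψ w.1), ← mul_assoc (z.2 : G), hcomm (Ψ w.1) z.2])
  have hf : Function.Injective f := by
    rw [injective_iff_map_eq_one]
    rintro ⟨x, y⟩ hxy
    have hxy' : Ψ x * (y : G) = 1 := hxy
    have h4 : Ψ x = (y : G)⁻¹ := eq_inv_of_mul_eq_one_left hxy'
    have h5 : orderOf x ∣ 24 := by rw [← CfsgLib.SL23.card_sl]; exact orderOf_dvd_natCard x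
    have h6 : orderOf y ∣ 5 := by rw [← hP]; exact orderOf_dvd_natCard y
    have h7 : orderOf x = orderOf y := by
      rw [← orderOf_injective Ψ hinj x, h4, orderOf_inv]
      exact Subgroup.orderOf_coe y
    have h8 : orderOf x ∣ Nat.gcd 24 5 := Nat.dvd_gcd h5 (h7 ▸ h6)
    have h9 : orderOf x = 1 := Nat.dvd_one.mp (by simpa using h8)
    have h10 : orderOf y = 1 := by rw [← h7, h9]
    rw [orderOf_eq_one_iff] at h9 h10
    rw [h9, h10]; rfl
  have hb : Function.Bijective f := (Nat.bijective_iff_injective_and_card f).mpr ⟨hf, by rw [Nat.card_prod, CfsgLib.SL23.card_sl, hP, hG]⟩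
  have h5 : Nat.card (Multiplicative (ZMod 5)) = 5 := by rw [Nat.card_eq_fintype_card]; rfl
  let e : P ≃* Multiplicative (ZMod 5) := mulEquivOfPrimeCardEq hP h5
  exact ⟨(MulEquiv.ofBijective f hb).symm.trans (MulEquiv.prodCongr (MulEquiv.refl _) e)⟩

theorem noidx {G : Type u} [Group G] [Finite G] (hF : CfsgLib.H6Zas.IsFpf G) (hs : Group.IsSolvable G)
    (hno : ¬ ∃ N : Subgroup G, N.Normal ∧ N.index = 2)
    (hG : Nat.card G = 24 ∨ Nat.card G = 48 ∨ Nat.card G = 120 ∨ Nat.card G = 528) :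
    (Nat.card G = 24 ∧ Nonempty (G ≃* SL(2, ZMod 3))) ∨ (Nat.card G = 120 ∧ Nonempty (G ≃* SL(2, ZMod 3) × Multiplicative (ZMod 5))) := by
  classical
  haveI := Fact.mk Nat.prime_two
  have hev : 2 ∣ Nat.card G := by rcases hG with h | h | h | h <;> rw [h] <;> norm_num
  obtain ⟨Θ, h1, h2⟩ := struct hF hs hev hno
  have hker := card_Θ Θ h1 h2
  have hcyc : ∀ T : Sylow 2 G, ¬ IsCyclic (T : Subgroup G) := by
    intro T hT
    obtain ⟨H, hH⟩ := Cfsg.Agent.S0219.result (even_iff_two_dvd.mpr hev) T hT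
    exact hno ⟨H, Subgroup.normal_of_index_eq_two hH, hH⟩
  obtain ⟨S⟩ : Nonempty (Sylow 2 G) := inferInstance
  obtain ⟨n, ⟨e⟩⟩ := (hF.two_sub S S.isPGroup').resolve_left (hcyc S)
  haveI : NeZero (2 ^ n) := ⟨by positivity⟩
  have hS1 : Nat.card (S : Subgroup G) = 4 * 2 ^ n := by
    rw [Nat.card_congr e.toEquiv, Nat.card_eq_fintype_card, QuaternionGroup.card]
  have hS2 : Nat.card (S : Subgroup G) = 2 ^ (Nat.card G).factorization 2 := S.card_eq_multiplicity
  have hf : ∀ m k : ℕ, Nat.card G = 2 ^ k * m → ¬ 2 ∣ m → (Nat.card G).factorization 2 = k := by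
    intro m k h hm
    have hm0 : m ≠ 0 := by rintro rfl; exact hm (dvd_zero 2)
    rw [h, Nat.factorization_mul (by positivity) hm0, Finsupp.add_apply, Nat.prime_two.factorization_pow, Finsupp.single_eq_same,
      Nat.factorization_eq_zero_of_not_dvd hm]
    rfl
  rcases hG with h | h | h | h
  · left
    refine ⟨h, ?_⟩
    have h3 := hf 3 3 (by rw [h]; norm_num) (by norm_num)
    rw [h3, hS1] at hS2
    have hn : n = 1 := Nat.pow_right_injective (le_refl 2) (show 2 ^ n = 2 ^ 1 by omega)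
    subst hn
    obtain ⟨i, j, g, hR, hi⟩ := rel8 Θ h1 h2 (by intro h4; have := Nat.le_of_dvd (by omega) h4; omega) (by rw [h]; norm_num) S e
    exact noidx24 hR hi h
  · exfalso
    have h3 := hf 3 4 (by rw [h]; norm_num) (by norm_num)
    rw [h3, hS1] at hS2
    have hn : n = 2 := Nat.pow_right_injective (le_refl 2) (show 2 ^ n = 2 ^ 2 by omega)
    subst hn
    exact no16 Θ h1 h2 (by intro h4; have := Nat.le_of_dvd (by omega) h4; omega) S e
  · right
    refine ⟨h, ?_⟩
    have h3 := hf 15 3 (by rw [h]; norm_num) (by norm_num)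
    rw [h3, hS1] at hS2
    have hn : n = 1 := Nat.pow_right_injective (le_refl 2) (show 2 ^ n = 2 ^ 1 by omega)
    subst hn
    have hk : Nat.card Θ.ker = 10 := by omega
    obtain ⟨i, j, g, hR, hi⟩ := rel8 Θ h1 h2 (by rw [hk]; norm_num) (by rw [h]; norm_num) S e
    exact noidx120 hno Θ.ker hk hR hi h
  · exfalso
    have h3 := hf 33 4 (by rw [h]; norm_num) (by norm_num)
    rw [h3, hS1] at hS2
    have hn : n = 2 := Nat.pow_right_injective (le_refl 2) (show 2 ^ n = 2 ^ 2 by omega)
    subst hn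
    have hk : Nat.card Θ.ker = 44 := by omega
    exact no16 Θ h1 h2 (by rw [hk]; norm_num) S e

end CfsgLib.RL
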