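import Cfsg.Agent.EqBase
import Cfsg.Agent.LibRL4
/-!
# Regular solvable linear groups (helper16): semilinear groups have a subgroup of index two
-/
set_option autoImplicit false
set_option linter.all false
open Cfsg
namespace CfsgLib.RL

universe u v w

theorem semi_idx2 {G : Type u} [Group G] [Finite G] (hev : 2 ∣ Nat.card G) {A : Type v} [AddCommGroup A] {F : Type w} [Field F] [Finite F]
    (e : A ≃+ F) (f : G → A → A) (hmul : ∀ g h v, f (g * h) v = f g (f h v)) (h1 : ∀ v, f 1 v = v) (hfaith : ∀ g, (∀ v, f g v = v) → g = 1)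
    (hsl : ∀ g, ∃ (a : F) (σ : F ≃+* F), ∀ v, e (f g v) = a * σ (e v)) : ∃ N : Subgroup G, N.Normal ∧ N.index = 2 := by
  classical
  haveI := Fact.mk Nat.prime_two
  obtain ⟨v₀, hv₀⟩ : ∃ v₀, v₀ = e.symm 1 := ⟨_, rfl⟩
  have hev₀ : e v₀ = 1 := by rw [hv₀]; exact e.apply_symm_apply 1
  have hinv1 : ∀ g v, f g (f g⁻¹ v) = v := by
    intro g v
    rw [← hmul, mul_inv_cancel, h1]
  have hinv2 : ∀ g v, f g⁻¹ (f g v) = v := by
    intro g v
    rw [← hmul, inv_mul_cancel, h1]
  -- no zero multiplier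
  have hne : ∀ (g : G) (a : F) (σ : F ≃+* F), (∀ v, e (f g v) = a * σ (e v)) → a ≠ 0 := by
    intro g a σ h ha
    have h2 : ∀ v, f g v = 0 := by
      intro v
      apply e.injective
      rw [h v, ha, zero_mul, map_zero]
    have h3 : v₀ = 0 := by
      calc v₀ = f g⁻¹ (f g v₀) := (hinv2 g v₀).symm
        _ = f g⁻¹ (f g 0) := by rw [h2, h2]
        _ = 0 := hinv2 g 0
    rw [h3, map_zero] at hev₀
    exact zero_ne_one hev₀
  let Z : Subgroup G :=
    { carrier := {g | ∃ c : F, ∀ v, e (f g v) = c * e v}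
      one_mem' := ⟨1, fun v => by rw [h1, one_mul]⟩
      mul_mem' := by
        rintro g h ⟨c, hc⟩ ⟨d, hd⟩
        exact ⟨c * d, fun v => by rw [hmul, hc, hd, mul_assoc]⟩
      inv_mem' := by
        rintro g ⟨c, hc⟩
        have hc0 : c ≠ 0 := hne g c (RingEquiv.refl F) hc
        refine ⟨c⁻¹, fun v => ?_⟩
        have h2 := hc (f g⁻¹ v)
        rw [hinv1] at h2
        rw [h2, inv_mul_cancel_left₀ hc0] }
  haveI hZn : Z.Normal := ⟨by
    rintro z ⟨c, hc⟩ g
    obtain ⟨a, σ, h⟩ := hsl g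
    refine ⟨σ c, fun v => ?_⟩
    have h2 : e v = a * σ (e (f g⁻¹ v)) := by rw [← h, hinv1]
    rw [hmul, hmul, h, hc, map_mul, h2]
    ring⟩
  have hcomm : ∀ x y : G, x * y * x⁻¹ * y⁻¹ ∈ Z := by
    intro x y
    obtain ⟨a, σ, ha⟩ := hsl x
    obtain ⟨b, τ, hb⟩ := hsl y
    have ha0 := hne x a σ ha
    have hb0 := hne y b τ hb
    have hta : τ a ≠ 0 := (map_ne_zero_iff τ τ.injective).mpr ha0
    refine ⟨a * σ b * (b * τ a)⁻¹, fun v => ?_⟩
    have h2 : x * y * x⁻¹ * y⁻¹ = (x * y) * (y * x)⁻¹ := by group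
    rw [h2, hmul]
    set u := f (y * x)⁻¹ v with hu
    have h3 : v = f (y * x) u := by rw [hu, hinv1]
    rw [h3, hmul, hmul, ha, hb, hb, ha, map_mul, map_mul, ringAut_comm σ τ]
    field_simp
  by_cases hZ : 2 ∣ Z.index
  · exact idx2 Z hcomm hZ
  · let κ : Z →* F :=
      { toFun := fun g => e (f g v₀)
        map_one' := by
          show e (f 1 v₀) = 1
          rw [h1, hev₀]
        map_mul' := by
          rintro ⟨g, c, hc⟩ ⟨h, d, hd⟩
          show e (f (g * h) v₀) = e (f g v₀) * e (f h v₀)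
          rw [hmul, hc, hd, hc, hev₀]
          ring }
    have hκ : Function.Injective κ := by
      rw [injective_iff_map_eq_one]
      rintro ⟨g, c, hc⟩ h
      have h' : e (f g v₀) = 1 := h
      rw [hc, hev₀, mul_one] at h'
      apply Subtype.ext
      apply hfaith g
      intro v
      apply e.injective
      rw [hc, h', one_mul]
    haveI hZc : IsCyclic Z := isCyclic_of_subgroup_isDomain κ hκ
    obtain ⟨T⟩ : Nonempty (Sylow 2 G) := inferInstance
    have hTZ : (T : Subgroup G) ≤ Z := by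
      intro t ht
      rw [← QuotientGroup.eq_one_iff, ← orderOf_eq_one_iff]
      obtain ⟨k, hk⟩ := T.isPGroup' ⟨t, ht⟩
      have hk' : t ^ 2 ^ k = 1 := congrArg Subtype.val hk
      have h3 : orderOf (t : G ⧸ Z) ∣ 2 ^ k := by
        apply orderOf_dvd_of_pow_eq_one
        rw [← QuotientGroup.mk_pow, hk']; rfl
      have h4 : orderOf (t : G ⧸ Z) ∣ Z.index := orderOf_dvd_natCard _
      have h5 : Nat.Coprime (2 ^ k) Z.index := Nat.Coprime.pow_left k ((Nat.Prime.coprime_iff_not_dvd Nat.prime_two).mpr hZ)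
      have h6 := Nat.dvd_gcd h3 h4
      rw [h5] at h6
      exact Nat.dvd_one.mp h6
    have hTc : IsCyclic (T : Subgroup G) := isCyclic_of_injective (Subgroup.inclusion hTZ) (Subgroup.inclusion_injective hTZ)
    obtain ⟨H, hH⟩ := Cfsg.Agent.S0219.result (even_iff_two_dvd.mpr hev) T hTc
    exact ⟨H, Subgroup.normal_of_index_eq_two hH, hH⟩

end CfsgLib.RL
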