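import Mathlib

set_option autoImplicit false
set_option linter.unusedSectionVars false
set_option linter.unusedVariables false

/-! Point stabilisers in groups with a split pair of rank one -/

namespace CfsgLib.Rank1

variable {G : Type*} [Group G] {B U H : Subgroup G} {n : G}

theorem mem_stab_mk {x g : G} : x ∈ MulAction.stabilizer G (QuotientGroup.mk g : G ⧸ B) ↔ g⁻¹ * x * g ∈ B := by
  rw [MulAction.mem_stabilizer_iff]
  show (QuotientGroup.mk (x * g) : G ⧸ B) = QuotientGroup.mk g ↔ _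
  rw [QuotientGroup.eq, ← inv_mem_iff (H := B)]
  have e : ((x * g)⁻¹ * g)⁻¹ = g⁻¹ * x * g := by group
  rw [e]

structure Split (B U H : Subgroup G) (n : G) : Prop where
  UB : U ≤ B
  HB : H ≤ B
  cell : ∀ g, g ∉ B → ∃ u ∈ U, ∃ b ∈ B, g = u * n * b
  nB : n ∉ B
  BB : ∀ x ∈ B, n⁻¹ * x * n ∈ B → x ∈ H
  Hn : ∀ h ∈ H, n⁻¹ * h * n ∈ H
  UH : U ⊓ H = ⊥
  HU : ∀ h ∈ H, ∀ u ∈ U, h * u * h⁻¹ ∈ U

variable (S : Split B U H n)
include S

/-- the stabiliser of the three standard points -/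
theorem Split.stab3 {u : G} (hu : u ∈ U) : MulAction.stabilizer G (QuotientGroup.mk 1 : G ⧸ B) ⊓ MulAction.stabilizer G (QuotientGroup.mk n : G ⧸ B) ⊓
    MulAction.stabilizer G (QuotientGroup.mk (u * n) : G ⧸ B) = H ⊓ Subgroup.centralizer {u} := by
  ext x
  simp only [Subgroup.mem_inf, mem_stab_mk, inv_one, one_mul, mul_one, Subgroup.mem_centralizer_singleton_iff]
  constructor
  · rintro ⟨⟨h1, h2⟩, h3⟩
    have hH := S.BB x h1 h2
    refine ⟨hH, ?_⟩
    have h4 : n⁻¹ * (u⁻¹ * x * u) * n ∈ B := by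
      have e : n⁻¹ * (u⁻¹ * x * u) * n = (u * n)⁻¹ * x * (u * n) := by group
      rw [e]; exact h3
    have h5 : u⁻¹ * x * u ∈ B := Subgroup.mul_mem _ (Subgroup.mul_mem _ (Subgroup.inv_mem _ (S.UB hu)) h1) (S.UB hu)
    have h6 := S.BB _ h5 h4
    -- x⁻¹ u⁻¹ x u ∈ U ∩ H
    have h7 : x⁻¹ * (u⁻¹ * x * u) ∈ U ⊓ H := by
      refine ⟨?_, Subgroup.mul_mem _ (Subgroup.inv_mem _ hH) h6⟩
      have e : x⁻¹ * (u⁻¹ * x * u) = (x⁻¹ * u⁻¹ * x⁻¹⁻¹) * u := by group
      rw [e]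
      exact Subgroup.mul_mem _ (S.HU _ (Subgroup.inv_mem _ hH) _ (Subgroup.inv_mem _ hu)) hu
    rw [S.UH, Subgroup.mem_bot] at h7
    have h8 : u⁻¹ * x * u = x := (eq_of_inv_mul_eq_one h7).symm
    calc x * u = u * (u⁻¹ * x * u) := by group
      _ = u * x := by rw [h8]
  · rintro ⟨h1, h2⟩
    refine ⟨⟨S.HB h1, S.HB (S.Hn x h1)⟩, ?_⟩
    have e : (u * n)⁻¹ * x * (u * n) = n⁻¹ * x * n := by
      have : u⁻¹ * x * u = x := by
        calc u⁻¹ * x * u = u⁻¹ * (x * u) := by group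
          _ = x := by rw [h2]; group
      calc (u * n)⁻¹ * x * (u * n) = n⁻¹ * (u⁻¹ * x * u) * n := by group
        _ = _ := by rw [this]
    rw [e]; exact S.HB (S.Hn x h1)

theorem Split.exists_std (x y z : G ⧸ B) (hxy : x ≠ y) (hxz : x ≠ z) (hyz : y ≠ z) : ∃ u ∈ U, u ≠ 1 ∧ ∃ a : G,
    x = a • (QuotientGroup.mk 1 : G ⧸ B) ∧ y = a • (QuotientGroup.mk n : G ⧸ B) ∧ z = a • (QuotientGroup.mk (u * n) : G ⧸ B) := by
  obtain ⟨a, rfl⟩ := QuotientGroup.mk_surjective x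
  obtain ⟨b, rfl⟩ := QuotientGroup.mk_surjective y
  obtain ⟨c, rfl⟩ := QuotientGroup.mk_surjective z
  have h1 : a⁻¹ * b ∉ B := by rwa [Ne, QuotientGroup.eq] at hxy
  obtain ⟨u, hu, b', hb', e⟩ := S.cell _ h1
  -- base point: a * u
  have h2 : (a * u)⁻¹ * c ∉ B := by
    intro h
    apply hxz
    rw [QuotientGroup.eq]
    have : a⁻¹ * c = u * ((a * u)⁻¹ * c) := by group
    rw [this]; exact Subgroup.mul_mem _ (S.UB hu) h
  obtain ⟨v, hv, c', hc', e'⟩ := S.cell _ h2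
  refine ⟨v, hv, ?_, a * u, ?_, ?_, ?_⟩
  · rintro rfl
    apply hyz
    rw [QuotientGroup.eq]
    have e1 : b = a * (u * n * b') := by rw [← e]; group
    have e2 : c = a * u * (1 * n * c') := by rw [← e']; group
    have : b⁻¹ * c = b'⁻¹ * c' := by rw [e1, e2]; group
    rw [this]; exact Subgroup.mul_mem _ (Subgroup.inv_mem _ hb') hc'
  · show QuotientGroup.mk a = (QuotientGroup.mk (a * u * 1) : G ⧸ B)
    rw [QuotientGroup.eq]
    have : a⁻¹ * (a * u * 1) = u := by group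
    rw [this]; exact S.UB hu
  · show QuotientGroup.mk b = (QuotientGroup.mk (a * u * n) : G ⧸ B)
    rw [QuotientGroup.eq]
    have e1 : b = a * (u * n * b') := by rw [← e]; group
    have : b⁻¹ * (a * u * n) = b'⁻¹ := by rw [e1]; group
    rw [this]; exact Subgroup.inv_mem _ hb'
  · show QuotientGroup.mk c = (QuotientGroup.mk (a * u * (v * n)) : G ⧸ B)
    rw [QuotientGroup.eq]
    have e2 : c = a * u * (v * n * c') := by rw [← e']; group
    have : c⁻¹ * (a * u * (v * n)) = c'⁻¹ := by rw [e2]; group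
    rw [this]; exact Subgroup.inv_mem _ hc'

theorem Split.card_stab3 (x y z : G ⧸ B) (hxy : x ≠ y) (hxz : x ≠ z) (hyz : y ≠ z) : ∃ u ∈ U, u ≠ 1 ∧
    Nat.card ↥(MulAction.stabilizer G x ⊓ MulAction.stabilizer G y ⊓ MulAction.stabilizer G z) = Nat.card ↥(H ⊓ Subgroup.centralizer {u}) := by
  obtain ⟨u, hu, hu1, a, rfl, rfl, rfl⟩ := S.exists_std x y z hxy hxz hyz
  refine ⟨u, hu, hu1, ?_⟩
  rw [← S.stab3 hu, MulAction.stabilizer_smul_eq_stabilizer_map_conj, MulAction.stabilizer_smul_eq_stabilizer_map_conj,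
    MulAction.stabilizer_smul_eq_stabilizer_map_conj, ← Subgroup.map_inf _ _ _ (MulAut.conj a).injective, ← Subgroup.map_inf _ _ _ (MulAut.conj a).injective]
  exact (Nat.card_congr ((Subgroup.equivMapOfInjective _ _ (MulAut.conj a).injective)).toEquiv).symm

/-- distinctness of the standard points -/
theorem Split.std_ne {u : G} (hu : u ∈ U) (hu1 : u ≠ 1) : (QuotientGroup.mk 1 : G ⧸ B) ≠ QuotientGroup.mk n ∧
    (QuotientGroup.mk 1 : G ⧸ B) ≠ QuotientGroup.mk (u * n) ∧ (QuotientGroup.mk n : G ⧸ B) ≠ QuotientGroup.mk (u * n) := by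
  refine ⟨?_, ?_, ?_⟩
  · rw [Ne, QuotientGroup.eq, inv_one, one_mul]; exact S.nB
  · rw [Ne, QuotientGroup.eq, inv_one, one_mul]
    intro h
    apply S.nB
    have : n = u⁻¹ * (u * n) := by group
    rw [this]; exact Subgroup.mul_mem _ (Subgroup.inv_mem _ (S.UB hu)) h
  · rw [Ne, QuotientGroup.eq]
    intro h
    have h1 : n⁻¹ * u * n ∈ B := by
      have : n⁻¹ * u * n = n⁻¹ * (u * n) := by group
      rw [this]; exact h
    have h2 := S.BB u (S.UB hu) h1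
    have h3 : u ∈ U ⊓ H := ⟨hu, h2⟩
    rw [S.UH, Subgroup.mem_bot] at h3
    exact hu1 h3

end CfsgLib.Rank1
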