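import Mathlib
import Cfsg.Agent.LibRank1H12b
import Cfsg.Agent.LibFpfH12b
import Cfsg.Agent.LibSolvNilp

/-! The split rank one set-up, part 3: nilpotency of `Q`, involutions are central in `Q`. -/

set_option autoImplicit false

namespace CfsgLib.Rank1H12

open Cfsg Subgroup CfsgLib.Invol CfsgLib.FusionH12 CfsgLib.StrongH12
open scoped Pointwise

section Trans

variable {G Ω : Type*} [Group G] [MulAction G Ω] {a : Ω} {t : G} {Q : Subgroup G} [Finite G]

local notation "Ga" => MulAction.stabilizer G a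

theorem transport_setup (hS : IsRankOneSetup G Ω a t Q) (g : G) {u : G} (hu : orderOf u = 2)
    (hux : u • (g • a) ≠ g • a) : IsRankOneSetup G Ω (g • a) u (cj g Q) where
  two_transitive := hS.two_transitive
  mul_self := mul_self hu
  ne_one := ne_one hu
  not_mem := fun h => hux (MulAction.mem_stabilizer_iff.1 h)
  le := by rw [stab_smul]; exact cj_mono hS.le
  conj_mem := by
    intro h hh x hx
    rw [stab_smul, mem_cj] at hh
    rw [mem_cj] at hx ⊢
    have := hS.conj_mem _ hh _ hx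
    convert this using 1
    group
  inf_eq_bot := by
    rw [eq_bot_iff]
    intro q hq
    obtain ⟨h1, h2⟩ := mem_inf.1 hq
    rw [mem_cj] at h1
    rw [MulAction.mem_stabilizer_iff] at h2
    have h3 : g⁻¹ • u • g • a ≠ a := by
      intro h
      apply hux
      rw [inv_smul_eq_iff] at h; exact h
    have h4 := Q_free hS h3 h1 (by
      simp only [mul_smul, smul_inv_smul, h2])
    rw [mem_bot]
    have : q = g * (g⁻¹ * q * g) * g⁻¹ := by group
    rw [this, h4]; group
  sup_eq := by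
    apply le_antisymm
    · apply sup_le
      · rw [stab_smul]; exact cj_mono hS.le
      · exact inf_le_left
    · intro h hh
      have h3 : g⁻¹ • u • g • a ≠ a := by
        intro h
        apply hux
        rw [inv_smul_eq_iff] at h; exact h
      rw [stab_smul, mem_cj] at hh
      have h4 : (g⁻¹ * h * g) • (g⁻¹ • u • g • a) ≠ a := by
        intro h5
        apply h3
        exact smul_left_cancel (g⁻¹ * h * g) (h5.trans (MulAction.mem_stabilizer_iff.1 hh).symm)
      obtain ⟨⟨q, hq⟩, hq1, -⟩ := Q_regular hS h3 h4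
      have hq1' : q • (g⁻¹ • u • g • a) = (g⁻¹ * h * g) • (g⁻¹ • u • g • a) := hq1
      have h6 : (g * q * g⁻¹) • (u • g • a) = h • (u • g • a) := by
        rw [mul_smul, mul_smul, hq1', mul_smul, mul_smul, smul_inv_smul, smul_inv_smul]
      have h7 : (g * q * g⁻¹)⁻¹ * h ∈ MulAction.stabilizer G (g • a) ⊓ MulAction.stabilizer G (u • g • a) := by
        rw [mem_inf]
        constructor
        · apply mul_mem
          · apply inv_mem
            rw [stab_smul]; exact conj_mem_cj (hS.le hq)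
          · rw [stab_smul, mem_cj]; exact hh
        · rw [MulAction.mem_stabilizer_iff, mul_smul, ← h6, inv_smul_smul]
      have h8 := mul_mem ((le_sup_left : cj g Q ≤ cj g Q ⊔ (MulAction.stabilizer G (g • a) ⊓
        MulAction.stabilizer G (u • g • a))) (conj_mem_cj hq)) ((le_sup_right :
          _ ≤ cj g Q ⊔ (MulAction.stabilizer G (g • a) ⊓
        MulAction.stabilizer G (u • g • a))) h7)
      rwa [mul_inv_cancel_left] at h8
  even_card := by rw [card_cj]; exact hS.even_card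
  odd_card := odd_two hS (Ne.symm hux)

theorem exists_setup (hS : IsRankOneSetup G Ω a t Q) (x : Ω) {u : G} (hu : orderOf u = 2)
    (hux : u • x ≠ x) : ∃ R : Subgroup G, IsRankOneSetup G Ω x u R := by
  obtain ⟨g, rfl⟩ := trans hS a x
  exact ⟨_, transport_setup hS g hu hux⟩

/-- two distinct commuting involutions -/
def Rank2 (G : Type*) [Group G] : Prop :=
  ∃ x y : G, x ≠ 1 ∧ y ≠ 1 ∧ x ≠ y ∧ x * x = 1 ∧ y * y = 1 ∧ x * y = y * x

theorem exists_K_ne_one (hS : IsRankOneSetup G Ω a t Q) (h2 : Rank2 G) :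
    ∃ k ∈ invertedBy (D2 a t) t, k ≠ 1 := by
  obtain ⟨x, y, hx1, hy1, hxy, hx, hy, hc⟩ := h2
  have hxo : orderOf x = 2 := orderOf_eq_two hx1 hx
  have hyo : orderOf y = 2 := orderOf_eq_two hy1 hy
  obtain ⟨b, hb, -⟩ := unique_fix' hS hxo
  have hb' : x • b = b := hb
  have hyb : y • b = b := fix_of_comm hS hxo hb' hc.symm
  obtain ⟨g, hg⟩ := trans hS b a
  have h1 : ∀ z : G, z • b = b → g * z * g⁻¹ ∈ Ga := by
    intro z hz
    rw [MulAction.mem_stabilizer_iff, mul_smul, mul_smul, ← hg, inv_smul_smul, hz]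
  obtain ⟨k, hk, hkx⟩ := K_trans hS (h1 x hb') (by rw [orderOf_conj, hxo]) (h1 y hyb)
    (by rw [orderOf_conj, hyo])
  refine ⟨k, hk, ?_⟩
  rintro rfl
  apply hxy
  simp only [inv_one, one_mul, mul_one] at hkx
  exact mul_left_cancel (mul_right_cancel hkx)

theorem K_pow (hS : IsRankOneSetup G Ω a t Q) {k : G} (hk : k ∈ invertedBy (D2 a t) t) (n : ℕ) :
    k ^ n ∈ invertedBy (D2 a t) t :=
  ⟨pow_mem hk.1 n, inverts_pow hk.2 n⟩

theorem Q_nilpotent (hS : IsRankOneSetup G Ω a t Q) (h2 : Rank2 G) : Group.IsNilpotent Q := by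
  obtain ⟨k, hk, hk1⟩ := exists_K_ne_one hS h2
  have hk1' : orderOf k ≠ 1 := fun h => hk1 (orderOf_eq_one_iff.1 h)
  obtain ⟨p, hp, hpd⟩ := Nat.exists_prime_and_dvd hk1'
  obtain ⟨m, hm⟩ := hpd
  have hpos := orderOf_pos k
  have hm0 : m ≠ 0 := by rintro rfl; omega
  have hko : orderOf (k ^ m) = p := by
    rw [orderOf_pow_of_dvd hm0 (by rw [hm]; exact dvd_mul_left _ _), hm,
      Nat.mul_div_cancel _ (Nat.pos_of_ne_zero hm0)]
  have hkm := K_pow hS hk m
  have hkm1 : k ^ m ≠ 1 := by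
    intro h
    rw [h, orderOf_one] at hko
    exact hp.one_lt.ne hko
  generalize k ^ m = l at hko hkm hkm1
  have hQ : Q.map (MulAut.conj l).toMonoidHom = Q := by
    change cj l Q = Q
    apply Subgroup.eq_of_le_of_card_ge
    · rw [cj_le']
      intro x hx
      exact hS.conj_mem l (mem_inf.1 hkm.1).1 x hx
    · rw [card_cj]
  refine CfsgLib.FpfH12.main (Nat.card Q) Q rfl (CfsgLib.FpfH12.restr (MulAut.conj l) Q hQ) p hp ?_ ?_
  · apply MulEquiv.ext
    intro q
    apply Subtype.ext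
    rw [CfsgLib.FpfH12.restr_pow, ← map_pow, ← hko, pow_orderOf_eq_one, map_one]; rfl
  · intro q hq
    have h1 : l * q * l⁻¹ = q := congrArg Subtype.val hq
    exact Subtype.ext (K_cent_Q hS hkm hkm1 q.2 (mul_inv_eq_iff_eq_mul.1 h1).symm)

theorem exists_central (hS : IsRankOneSetup G Ω a t Q) (h2 : Rank2 G) :
    ∃ z ∈ Q, orderOf z = 2 ∧ ∀ x ∈ Q, Commute z x := by
  haveI := Q_nilpotent hS h2
  haveI : Fact (Nat.Prime 2) := ⟨Nat.prime_two⟩
  obtain ⟨P⟩ : Nonempty (Sylow 2 Q) := inferInstance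
  have hPn : (P : Subgroup Q).Normal := inferInstance
  have hPne : (P : Subgroup Q) ≠ ⊥ := P.ne_bot_of_dvd_card (even_iff_two_dvd.1 hS.even_card)
  have hne := CfsgLib.SolvNilp.inf_center_ne_bot (P : Subgroup Q) hPne
  have hp : IsPGroup 2 ((P : Subgroup Q) ⊓ center Q : Subgroup Q) := P.2.to_le inf_le_left
  haveI : Nontrivial ((P : Subgroup Q) ⊓ center Q : Subgroup Q) := (nontrivial_iff_ne_bot _).2 hne
  obtain ⟨n, hn, hn'⟩ := hp.nontrivial_iff_card.1 this
  obtain ⟨z, hz⟩ := exists_prime_orderOf_dvd_card' (G := ((P : Subgroup Q) ⊓ center Q : Subgroup Q)) 2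
    (by rw [hn']; exact dvd_pow_self _ hn.ne')
  refine ⟨((z : Q) : G), z.1.2, ?_, ?_⟩
  · rw [orderOf_submonoid, orderOf_submonoid, hz]
  · intro x hx
    have := (mem_center_iff.1 (mem_inf.1 z.2).2) ⟨x, hx⟩
    exact (congrArg Subtype.val this).symm

theorem invol_central (hS : IsRankOneSetup G Ω a t Q) (h2 : Rank2 G) {s : G} (hs : s ∈ Ga)
    (hs2 : orderOf s = 2) : ∀ x ∈ Q, Commute s x := by
  obtain ⟨z, hz, hz2, hzc⟩ := exists_central hS h2
  obtain ⟨k, hk, hks⟩ := K_trans hS (hS.le hz) hz2 hs hs2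
  intro x hx
  have h1 : Commute z (k * x * k⁻¹) := hzc _ (hS.conj_mem k (mem_inf.1 hk.1).1 x hx)
  rw [← hks]
  change k⁻¹ * z * k * x = x * (k⁻¹ * z * k)
  calc k⁻¹ * z * k * x = k⁻¹ * (z * (k * x * k⁻¹)) * k := by group
    _ = k⁻¹ * ((k * x * k⁻¹) * z) * k := by rw [h1.eq]
    _ = x * (k⁻¹ * z * k) := by group

theorem prod_invol (hS : IsRankOneSetup G Ω a t Q) (h2 : Rank2 G) {s s' : G} (hs : s ∈ Ga)
    (hs2 : orderOf s = 2) (hs' : s' ∈ Ga) (hs2' : orderOf s' = 2) : (s * s') * (s * s') = 1 := by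
  have h := invol_central hS h2 hs hs2 s' (involution_mem_Q hS hs' hs2')
  calc s * s' * (s * s') = (s' * s) * (s * s') := by rw [h.eq]
    _ = s' * (s * s) * s' := by group
    _ = 1 := by rw [mul_self hs2, mul_one, mul_self hs2']

end Trans

end CfsgLib.Rank1H12
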