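import Cfsg.Agent.EqBase
import Cfsg.Agent.LibKconn8
import Cfsg.Agent.LibTrCtl
import Cfsg.Agent.LibThompTrH12

set_option autoImplicit false

/-! Groups without subgroups of index 2 and ranks (seat helper8). -/

namespace CfsgLib.Rank8

open Subgroup CfsgLib.BGPi Cfsg
open scoped Pointwise commutatorElement IsMulCommutative

universe u

theorem exists_index_two_of_even {A : Type u} [CommGroup A] [Finite A] (h : 2 ∣ Nat.card A) :
    ∃ K : Subgroup A, K.index = 2 := by
  haveI : Fact (Nat.Prime 2) := ⟨Nat.prime_two⟩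
  let φ : A →* A := powMonoidHom 2
  have hidx : φ.range.index = Nat.card φ.ker := by
    have h1 := φ.ker.card_mul_index
    rw [Subgroup.index_ker] at h1
    have h2 := φ.range.card_mul_index
    rw [← h2, mul_comm] at h1
    exact (Nat.eq_of_mul_eq_mul_left Nat.card_pos h1).symm
  have hB : IsPGroup 2 (A ⧸ φ.range) := by
    intro b
    refine ⟨1, ?_⟩
    obtain ⟨a, rfl⟩ := QuotientGroup.mk_surjective b
    rw [pow_one, ← QuotientGroup.mk_pow, QuotientGroup.eq_one_iff]
    exact ⟨a, rfl⟩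
  obtain ⟨k, hk⟩ := hB.exists_card_eq
  have hker : 1 < Nat.card φ.ker := by
    obtain ⟨t, ht⟩ := exists_prime_orderOf_dvd_card' 2 h
    rw [Finite.one_lt_card_iff_nontrivial]
    refine ⟨⟨⟨t, ?_⟩, 1, ?_⟩⟩
    · rw [MonoidHom.mem_ker]
      change t ^ 2 = 1
      rw [← ht, pow_orderOf_eq_one]
    · intro h
      have : t = 1 := congrArg Subtype.val h
      rw [this, orderOf_one] at ht
      omega
  have hk1 : k ≠ 0 := by
    rintro rfl
    rw [pow_zero] at hk
    have : φ.range.index = 1 := hk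
    omega
  obtain ⟨j, rfl⟩ := Nat.exists_eq_succ_of_ne_zero hk1
  obtain ⟨K, hK⟩ := Sylow.exists_subgroup_card_pow_prime (G := A ⧸ φ.range) 2 (n := j)
    (by rw [hk]; exact pow_dvd_pow 2 (Nat.le_succ j))
  have hKi : K.index = 2 := by
    have := K.card_mul_index
    rw [hK, hk, Nat.succ_eq_add_one, pow_succ] at this
    exact Nat.eq_of_mul_eq_mul_left (pow_pos (by norm_num) j) this
  refine ⟨K.comap (QuotientGroup.mk' φ.range), ?_⟩
  rw [Subgroup.index_comap_of_surjective _ (QuotientGroup.mk'_surjective _), hKi]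

variable {G : Type u} [Group G] [Finite G]

theorem sylow_le_commutator (hno : ∀ H : Subgroup G, H.index ≠ 2) (S : Sylow 2 G) :
    (S : Subgroup G) ≤ commutator G := by
  haveI : Fact (Nat.Prime 2) := ⟨Nat.prime_two⟩
  have h1 : ¬ 2 ∣ Nat.card (Abelianization G) := by
    intro h
    obtain ⟨K, hK⟩ := exists_index_two_of_even h
    apply hno (K.comap Abelianization.of)
    have hs : Function.Surjective (Abelianization.of : G →* Abelianization G) :=
      fun a => QuotientGroup.mk_surjective a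
    rw [Subgroup.index_comap_of_surjective K hs, hK]
  intro s hs
  rw [← Abelianization.ker_of, MonoidHom.mem_ker]
  obtain ⟨k, hk⟩ := S.2 ⟨s, hs⟩
  have hk' : s ^ 2 ^ k = 1 := congrArg Subtype.val hk
  have h2 : orderOf (Abelianization.of s) ∣ 2 ^ k := by
    apply orderOf_dvd_of_pow_eq_one
    rw [← map_pow, hk', map_one]
  obtain ⟨j, -, hj⟩ := (Nat.dvd_prime_pow Nat.prime_two).1 h2
  rcases Nat.eq_zero_or_pos j with h0 | hpos
  · rw [h0, pow_zero, orderOf_eq_one_iff] at hj
    exact hj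
  · exfalso
    apply h1
    have h3 := orderOf_dvd_natCard (Abelianization.of s)
    rw [hj] at h3
    exact (dvd_pow_self 2 (by omega)).trans h3

/-- the 2-group part of S0221 -/
theorem exists_M {S : Type u} [Group S] [Finite S] (hS : IsPGroup 2 S)
    (hr : ¬ PRankLE 2 2 (⊤ : Subgroup S)) : ∃ M : Subgroup S, (M = ⊤ ∨ M.index = 2) ∧
      ∀ x ∈ M, orderOf x = 2 → ¬ PRankLE 2 2 (Subgroup.centralizer {x}) := by
  have hp := Nat.prime_two
  have hP : IsPGroup 2 (⊤ : Subgroup S) := hS.to_subgroup ⊤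
  obtain ⟨U, h1, h2, h3, h4⟩ := CfsgLib.Kconn8.component hp hP hr
  have h5 : ¬ PRankLE 2 2 𝓒(U) := (h4 U h2 h3.ge).1 Relation.ReflTransGen.refl
  have hrel := CfsgLib.Kconn8.relIndex_cent hp hP le_top h1 h2 h3
  rw [Subgroup.relIndex_top_right] at hrel
  refine ⟨𝓒(U), ?_, ?_⟩
  · have h6 : (𝓒(U)).index ≠ 0 := Subgroup.index_ne_zero_of_finite
    rcases Nat.lt_or_ge (𝓒(U)).index 2 with h | h
    · left; rw [← Subgroup.index_eq_one]; omega
    · right; omega
  · intro x hx hxo hrx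
    have hx2 : x ^ 2 = 1 := by rw [← hxo, pow_orderOf_eq_one]
    by_cases hxU : x ∈ U
    · apply h5
      refine rank_mono ?_ hrx
      exact Subgroup.centralizer_le (Set.singleton_subset_iff.2 hxU)
    · have h7 : IsElementaryAbelian 2 (U ⊔ zpowers x) :=
        elab_sup_zpowers h2 hx2 (fun a ha => mem_cz.1 hx a ha)
      have h8 : U < U ⊔ zpowers x := lt_of_le_of_ne le_sup_left fun h =>
        hxU (by rw [h]; exact mem_sup_right (mem_zpowers x))
      haveI : Fact (Nat.Prime 2) := ⟨hp⟩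
      have h9 := pgroup_mul_card_le hp (hS.to_subgroup _) h8
      have h10 : U ⊔ zpowers x ≤ Subgroup.centralizer {x} := by
        refine sup_le ?_ ?_
        · intro a ha
          rw [mem_centralizer_singleton_iff]
          exact mem_cz.1 hx a ha
        · rw [zpowers_le, mem_centralizer_singleton_iff]
      have h11 := rank_iff.1 hrx _ h10 h7
      rw [h3] at h9
      omega

theorem rank_three_centralizers (hno : ∀ H : Subgroup G, H.index ≠ 2)
    (hr : ¬ PRankLE 2 2 (⊤ : Subgroup G)) (x : G) (hx : orderOf x = 2) :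
    ¬ PRankLE 2 2 (Subgroup.centralizer {x}) := by
  have hp := Nat.prime_two
  haveI : Fact (Nat.Prime 2) := ⟨hp⟩
  -- a Sylow 2-subgroup of rank at least 3 containing a conjugate of everything
  obtain ⟨E, -, hE, hEc⟩ := (not_rank_iff hp).1 hr
  obtain ⟨S, hES⟩ := (IsPGroup.of_card hEc).exists_le_sylow
  have hrS : ¬ PRankLE 2 2 (⊤ : Subgroup (S : Subgroup G)) := by
    intro h
    have h1 := rank_iff.1 h (E.subgroupOf S) le_top ⟨⟨⟨fun a b => Subtype.ext (Subtype.ext
      (mem_cz.1 (comm_iff_le_cz.1 hE.1 b.2) a.1.1 a.2))⟩⟩, fun a ha => Subtype.ext (hE.2 a ha)⟩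
    rw [card_subgroupOf hES, hEc] at h1
    norm_num at h1
  obtain ⟨M, hM, hMx⟩ := exists_M S.2 hrS
  -- a conjugate of `x` in `M`
  have hkey : ∃ g : G, ∃ h : g * x * g⁻¹ ∈ (S : Subgroup G), (⟨g * x * g⁻¹, h⟩ : (S : Subgroup G)) ∈ M := by
    rcases hM with hM | hM
    · have h1 : IsPGroup 2 (zpowers x) := IsPGroup.of_card (n := 1) (by rw [Nat.card_zpowers, hx, pow_one])
      obtain ⟨Q, hQ⟩ := h1.exists_le_sylow
      obtain ⟨g, hg⟩ := MulAction.exists_smul_eq G Q S
      have h2 : g * x * g⁻¹ ∈ (S : Subgroup G) := by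
        rw [← hg, Sylow.coe_subgroup_smul, Subgroup.mem_pointwise_smul_iff_inv_smul_mem]
        simpa [MulAut.smul_def, mul_assoc] using hQ (mem_zpowers x)
      exact ⟨g, h2, by rw [hM]; exact mem_top _⟩
    · by_contra hcon
      push Not at hcon
      have h1 : (M.map (S : Subgroup G).subtype).relIndex (S : Subgroup G) = 2 := by
        unfold Subgroup.relIndex
        rw [Subgroup.subgroupOf, Subgroup.comap_map_eq_self_of_injective (S : Subgroup G).subtype_injective]
        exact hM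
      obtain ⟨N, -, hN, -⟩ := CfsgLib.ThompTrH12.thompson_transfer S (M.map (S : Subgroup G).subtype) h1 x hx (by
        rintro g ⟨m, hm, hmx⟩
        have h2 : g * x * g⁻¹ ∈ (S : Subgroup G) := by
          rw [← hmx]; exact m.2
        apply hcon g h2
        have h3 : (⟨g * x * g⁻¹, h2⟩ : (S : Subgroup G)) = m := Subtype.ext hmx.symm
        rw [h3]; exact hm)
      exact hno N hN
  obtain ⟨g, hgS, hgM⟩ := hkey
  have hgo : orderOf (⟨g * x * g⁻¹, hgS⟩ : (S : Subgroup G)) = 2 := by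
    rw [← orderOf_coe]
    change orderOf (g * x * g⁻¹) = 2
    rw [← hx]
    exact orderOf_injective (MulAut.conj g).toMonoidHom (MulAut.conj g).injective x
  have h1 := hMx _ hgM hgo
  obtain ⟨A, hA, hAe, hAc⟩ := (not_rank_iff hp).1 h1
  rw [not_rank_iff hp]
  refine ⟨(A.map (S : Subgroup G).subtype) ^ᵍ g⁻¹, ?_, elab_cj (elab_map hAe _) _, ?_⟩
  · rintro y hy
    rw [mem_cj] at hy
    obtain ⟨a, ha, hay⟩ := hy
    have h2 := mem_centralizer_singleton_iff.1 (hA ha)
    have h3 : (a : G) * (g * x * g⁻¹) = (g * x * g⁻¹) * a := congrArg Subtype.val h2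
    have h4 : (a : G) = g⁻¹⁻¹ * y * g⁻¹ := hay
    rw [h4, inv_inv] at h3
    rw [mem_centralizer_singleton_iff]
    have h5 : g * (y * x) * g⁻¹ = g * (x * y) * g⁻¹ := by
      calc g * (y * x) * g⁻¹ = g * y * g⁻¹ * (g * x * g⁻¹) := by group
        _ = g * x * g⁻¹ * (g * y * g⁻¹) := h3
        _ = _ := by group
    exact mul_left_cancel (mul_right_cancel h5)
  · rw [card_cj, card_map_subtype, hAc]

/-- an involution of an abelian Sylow 2-subgroup is not fixed by its normalizer -/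
theorem not_fixed (hno : ∀ H : Subgroup G, H.index ≠ 2) (S : Sylow 2 G)
    (hS : IsMulCommutative (S : Subgroup G)) {z : G} (hz : z ∈ (S : Subgroup G)) (hz1 : z ≠ 1)
    (hfix : ∀ n ∈ normalizer ((S : Subgroup G) : Set G), n * z * n⁻¹ = z) : False := by
  haveI : Fact (Nat.Prime 2) := ⟨Nat.prime_two⟩
  have h1 := sylow_le_commutator hno S hz
  have hcm : ∀ a ∈ (S : Subgroup G), ∀ b ∈ (S : Subgroup G), a * b = b * a := fun a ha b hb =>
    congrArg Subtype.val (hS.is_comm.comm (⟨a, ha⟩ : (S : Subgroup G)) (⟨b, hb⟩ : (S : Subgroup G)))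
  refine CfsgLib.TrCtl.not_mem_commutator (p := 2) (S : Subgroup G) ⊥ bot_le ?_ ?_ ?_ z hz ?_ ?_ ?_ h1
  · rw [bot_subgroupOf]; infer_instance
  · intro x hx y hy
    rw [hcm x hx y hy, mul_inv_cancel_right, mul_inv_cancel]
    exact one_mem _
  · rw [Nat.coprime_comm]
    exact (Nat.coprime_comm.1 ((Nat.Prime.coprime_iff_not_dvd Nat.prime_two).2 S.not_dvd_index))
  · rw [mem_bot]; exact hz1
  · obtain ⟨k, hk⟩ := IsPGroup.iff_orderOf.1 S.2 ⟨z, hz⟩
    exact ⟨k, by rw [← hk, ← orderOf_coe]⟩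
  · intro m a ha
    rw [mem_bot, mul_inv_eq_one]
    haveI := hS
    obtain ⟨n, hn, hn'⟩ := S.conj_eq_normalizer_conj_of_mem (z ^ m) a⁻¹ (zpow_mem hz m) (by rwa [inv_inv])
    rw [inv_inv] at hn'
    rw [hn']
    have h2 := hfix n⁻¹ (inv_mem hn)
    have h3 : n⁻¹ * z ^ m * n = (n⁻¹ * z * n⁻¹⁻¹) ^ m := by rw [conj_zpow, inv_inv]
    rw [h3, h2]

/-- **S1244** -/
theorem conj_into {S : Sylow 2 G} (hno : ∀ H : Subgroup G, H.index ≠ 2)
    (hS : IsMulCommutative (S : Subgroup G)) {W H : Subgroup G} (hWS : W ≤ S) (hW : normalizer ((S : Subgroup G) : Set G) ≤ 𝓝(W))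
    (hHW : H ≤ W) (hc : Nat.card W = 2 * Nat.card H) {t : G} (ht : t ∈ W) :
    ∃ n ∈ normalizer ((S : Subgroup G) : Set G), n * t * n⁻¹ ∈ H := by
  classical
  by_contra hcon
  push Not at hcon
  haveI : Fact (Nat.Prime 2) := ⟨Nat.prime_two⟩
  obtain ⟨N, hN⟩ : ∃ N : Subgroup G, N = normalizer ((S : Subgroup G) : Set G) := ⟨_, rfl⟩
  rw [← hN] at hcon hW
  have hcm : ∀ a ∈ (S : Subgroup G), ∀ b ∈ (S : Subgroup G), a * b = b * a := fun a ha b hb =>
    congrArg Subtype.val (hS.is_comm.comm (⟨a, ha⟩ : (S : Subgroup G)) (⟨b, hb⟩ : (S : Subgroup G)))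
  letI : CommGroup W :=
    { (inferInstance : Group W) with
      mul_comm := fun a b => Subtype.ext (hcm a (hWS a.2) b (hWS b.2)) }
  have hSN : (S : Subgroup G) ≤ N := by rw [hN]; exact le_normalizer
  let S' := (S : Subgroup G).subgroupOf N
  have hconjW : ∀ n : N, (n : G) * t * (n : G)⁻¹ ∈ W := fun n => (mem_normalizer_iff.1 (hW n.2) t).1 ht
  let φ : N ⧸ S' → W := Quotient.lift (fun n : N => (⟨(n : G) * t * (n : G)⁻¹, hconjW n⟩ : W)) (by
    intro a b hab
    apply Subtype.ext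
    change (a : G) * t * (a : G)⁻¹ = (b : G) * t * (b : G)⁻¹
    have h1 : a⁻¹ * b ∈ S' := QuotientGroup.leftRel_apply.1 hab
    have h2 : (a : G)⁻¹ * b ∈ (S : Subgroup G) := h1
    have h3 := hcm _ h2 t (hWS ht)
    calc (a : G) * t * (a : G)⁻¹ = a * (t * ((a : G)⁻¹ * b)) * (b : G)⁻¹ := by group
      _ = a * (((a : G)⁻¹ * b) * t) * (b : G)⁻¹ := by rw [h3]
      _ = _ := by group)
  have hφ : ∀ n : N, ((φ (QuotientGroup.mk n) : W) : G) = (n : G) * t * (n : G)⁻¹ := fun n => rfl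
  haveI : Fintype (N ⧸ S') := Fintype.ofFinite _
  obtain ⟨z, hz⟩ : ∃ z : W, z = ∏ q : N ⧸ S', φ q := ⟨_, rfl⟩
  -- `z` is fixed
  have hfix : ∀ n ∈ N, n * (z : G) * n⁻¹ = z := by
    intro n hn
    let c : W →* W := 
      { toFun := fun w => ⟨n * w * n⁻¹, (mem_normalizer_iff.1 (hW hn) w).1 w.2⟩
        map_one' := Subtype.ext (by simp)
        map_mul' := fun a b => Subtype.ext (by
          change n * ((a : G) * b) * n⁻¹ = (n * a * n⁻¹) * (n * b * n⁻¹); group) }
    have h1 : c z = z := by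
      rw [hz, map_prod]
      apply Fintype.prod_equiv (MulAction.toPerm (⟨n, hn⟩ : N))
      intro q
      obtain ⟨m, rfl⟩ := QuotientGroup.mk_surjective q
      apply Subtype.ext
      change n * ((φ (QuotientGroup.mk m) : W) : G) * n⁻¹ = ((φ (QuotientGroup.mk (⟨n, hn⟩ * m)) : W) : G)
      rw [hφ, hφ]
      change n * ((m : G) * t * (m : G)⁻¹) * n⁻¹ = (n * (m : G)) * t * (n * (m : G))⁻¹
      group
    exact congrArg Subtype.val h1
  -- `z ≠ 1`
  have hidx : (H.subgroupOf W).index = 2 := by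
    have h1 := (H.subgroupOf W).card_mul_index
    rw [card_subgroupOf hHW, hc, mul_comm] at h1
    exact Nat.eq_of_mul_eq_mul_right Nat.card_pos h1
  obtain ⟨χ, hχ⟩ := CfsgLib.ThompTrH12.exists_hom (H.subgroupOf W) hidx
  have hodd : Odd (Fintype.card (N ⧸ S')) := by
    rw [← Nat.card_eq_fintype_card]
    have h1 : S'.index ∣ (S : Subgroup G).index := by
      have : (S : Subgroup G).relIndex N ∣ (S : Subgroup G).index :=
        Subgroup.relIndex_dvd_index_of_le hSN
      exact this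
    have h2 : ¬ 2 ∣ S'.index := fun h => S.not_dvd_index (h.trans h1)
    rw [← Nat.not_even_iff_odd, even_iff_two_dvd]
    exact h2
  have hz1 : (z : G) ≠ 1 := by
    intro h
    have hz' : z = 1 := Subtype.ext h
    have h1 : χ z = 1 := by rw [hz', map_one]
    rw [hz, map_prod] at h1
    obtain ⟨c, hc1⟩ : ∃ c : Multiplicative (ZMod 2), c ≠ 1 := exists_ne 1
    have h2 : ∀ q : N ⧸ S', χ (φ q) = c := by
      intro q
      apply CfsgLib.ThompTrH12.eq_of_ne_one _ hc1
      intro h3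
      rw [hχ, mem_subgroupOf] at h3
      obtain ⟨m, rfl⟩ := QuotientGroup.mk_surjective q
      rw [hφ] at h3
      exact hcon m m.2 h3
    rw [Finset.prod_congr rfl (fun q _ => h2 q), Finset.prod_const, Finset.card_univ] at h1
    obtain ⟨m, hm⟩ := hodd
    rw [hm, pow_succ, pow_mul, CfsgLib.ThompTrH12.mul_self_c, one_pow, one_mul] at h1
    exact hc1 h1
  rw [hN] at hfix
  exact not_fixed hno S hS (hWS z.2) hz1 hfix

end CfsgLib.Rank8
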