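import Mathlib

/-!
Semidirect products with a group of automorphisms, element orders; the action of `SL₂(q) × {±1}` on
`2 × 2` matrices twisted by the Frobenius map, in characteristic 3.
-/

set_option autoImplicit false

namespace CfsgLib.Rcube

open Matrix
open scoped MatrixGroups

section sd

variable {X : Type} [CommGroup X] {L : Subgroup (MulAut X)}

abbrev SDL (X : Type) [CommGroup X] (L : Subgroup (MulAut X)) := X ⋊[L.subtype] L

theorem pow_right (x : SDL X L) (n : ℕ) : (x ^ n).right = x.right ^ n :=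
  map_pow (SemidirectProduct.rightHom : SDL X L →* L) x n

theorem pow_fix (x : SDL X L) {n : ℕ} (h : (x.right : MulAut X) ^ n = 1) :
    ∃ w : X, x ^ n = SemidirectProduct.inl w ∧ (x.right : MulAut X) w = w := by
  have hr : (x ^ n).right = 1 := by
    rw [pow_right]; exact Subtype.ext h
  refine ⟨(x ^ n).left, ?_, ?_⟩
  · ext1
    · rfl
    · exact hr
  · have h1 : x * x ^ n = x ^ n * x := (Commute.refl x).pow_right n
    have h2 := congrArg SemidirectProduct.left h1
    rw [SemidirectProduct.mul_left, SemidirectProduct.mul_left, hr] at h2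
    change x.left * (x.right : MulAut X) (x ^ n).left = (x ^ n).left * x.left at h2
    rw [mul_comm] at h2
    exact mul_right_cancel h2

theorem pow_one_of_nofix (x : SDL X L) {n : ℕ} (h : (x.right : MulAut X) ^ n = 1)
    (hf : ∀ w, (x.right : MulAut X) w = w → w = 1) : x ^ n = 1 := by
  obtain ⟨w, hw, hw'⟩ := pow_fix x h
  rw [hw, hf w hw', map_one]

theorem pow_one_of_exp (x : SDL X L) {n p : ℕ} (h : (x.right : MulAut X) ^ n = 1)
    (hp : ∀ w : X, w ^ p = 1) : x ^ (n * p) = 1 := by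
  obtain ⟨w, hw, -⟩ := pow_fix x h
  rw [pow_mul, hw, ← map_pow, hp, map_one]

end sd

section act

variable {F : Type} [Field F] [Fintype F] [CharP F 3]

abbrev M2 (F : Type) := Matrix (Fin 2) (Fin 2) F

/-- the Frobenius map on `SL₂` -/
noncomputable def fr (F : Type) [Field F] [CharP F 3] : SL(2, F) →* SL(2, F) :=
  haveI : Fact (Nat.Prime 3) := ⟨Nat.prime_three⟩
  Matrix.SpecialLinearGroup.map (frobenius F 3)

theorem fr_apply (g : SL(2, F)) (i j : Fin 2) : (fr F g).1 i j = g.1 i j ^ 3 := rfl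

/-- sign as an element of the field -/
def sg (F : Type) [Field F] : ℤˣ →* F where
  toFun e := ((e : ℤ) : F)
  map_one' := by simp
  map_mul' := by intro a b; simp

theorem sg_sq (e : ℤˣ) : sg F e * sg F e = 1 := by
  rw [← map_mul, Int.units_mul_self, map_one]

theorem sg_cases (e : ℤˣ) : (e = 1 ∧ sg F e = 1) ∨ (e = -1 ∧ sg F e = -1) := by
  rcases Int.units_eq_one_or e with rfl | rfl
  · left; simp [sg]
  · right; simp [sg]

/-- the twisted action -/
noncomputable def TT (g : SL(2, F)) (e : ℤˣ) (X : M2 F) : M2 F := sg F e • (g.1 * X * (fr F g).1ᵀ)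

theorem TT_mul (g h : SL(2, F)) (e f : ℤˣ) (X : M2 F) : TT (g * h) (e * f) X = TT g e (TT h f X) := by
  unfold TT
  rw [map_mul, map_mul, Matrix.SpecialLinearGroup.coe_mul, Matrix.SpecialLinearGroup.coe_mul,
    Matrix.transpose_mul]
  simp only [Matrix.mul_smul, Matrix.smul_mul, smul_smul, Matrix.mul_assoc]

theorem TT_one (X : M2 F) : TT (1 : SL(2, F)) 1 X = X := by
  unfold TT
  rw [map_one, map_one]
  simp

theorem TT_add (g : SL(2, F)) (e : ℤˣ) (X Y : M2 F) : TT g e (X + Y) = TT g e X + TT g e Y := by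
  unfold TT
  rw [Matrix.mul_add, Matrix.add_mul, smul_add]

/-- The module: `k` copies of the `2 × 2` matrices -/
abbrev Vk (F : Type) (k : ℕ) := Multiplicative (Fin k → M2 F)

noncomputable def actE (k : ℕ) (g : SL(2, F)) (e : ℤˣ) : Vk F k ≃* Vk F k :=
  AddEquiv.toMultiplicative
    { toFun := fun v i => TT g e (v i)
      invFun := fun v i => TT g⁻¹ e⁻¹ (v i)
      left_inv := fun v => by
        funext i
        change TT g⁻¹ e⁻¹ (TT g e (v i)) = v i
        rw [← TT_mul, inv_mul_cancel, inv_mul_cancel, TT_one]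
      right_inv := fun v => by
        funext i
        change TT g e (TT g⁻¹ e⁻¹ (v i)) = v i
        rw [← TT_mul, mul_inv_cancel, mul_inv_cancel, TT_one]
      map_add' := fun v w => by
        funext i
        exact TT_add g e (v i) (w i) }

theorem actE_apply (k : ℕ) (g : SL(2, F)) (e : ℤˣ) (v : Vk F k) (i : Fin k) :
    Multiplicative.toAdd (actE k g e v) i = TT g e (Multiplicative.toAdd v i) := rfl

theorem vk_ext {k : ℕ} {v w : Vk F k}
    (h : ∀ i, Multiplicative.toAdd v i = Multiplicative.toAdd w i) : v = w :=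
  Multiplicative.toAdd.injective (funext h)

noncomputable def ψ (F : Type) [Field F] [Fintype F] [CharP F 3] (k : ℕ) :
    SL(2, F) × ℤˣ →* MulAut (Vk F k) :=
  MonoidHom.mk' (fun p => actE k p.1 p.2) (by
    rintro ⟨g, e⟩ ⟨h, f⟩
    ext1 v
    apply vk_ext
    intro i
    exact TT_mul g h e f _)

theorem ψ_apply (k : ℕ) (g : SL(2, F)) (e : ℤˣ) (v : Vk F k) (i : Fin k) :
    Multiplicative.toAdd (ψ F k (g, e) v) i = TT g e (Multiplicative.toAdd v i) := rfl

/-- trace of an element -/
def tr (g : SL(2, F)) : F := g.1 0 0 + g.1 1 1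

theorem det_eq (g : SL(2, F)) : g.1 0 0 * g.1 1 1 - g.1 0 1 * g.1 1 0 = 1 := by
  have := g.2
  rwa [Matrix.det_fin_two] at this

theorem inv_coe (g : SL(2, F)) : (g⁻¹).1 = !![g.1 1 1, -g.1 0 1; -g.1 1 0, g.1 0 0] := by
  rw [Matrix.SpecialLinearGroup.coe_inv, Matrix.adjugate_fin_two]

theorem add_inv (g : SL(2, F)) : g.1 + (g⁻¹).1 = tr g • (1 : M2 F) := by
  rw [inv_coe]
  ext i j
  fin_cases i <;> fin_cases j <;> simp [tr] <;> ring

theorem tr_fr (g : SL(2, F)) : tr (fr F g) = tr g ^ 3 := by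
  haveI : Fact (Nat.Prime 3) := ⟨Nat.prime_three⟩
  unfold tr
  rw [fr_apply, fr_apply, add_pow_char]

theorem sq_coe (g : SL(2, F)) : g.1 * g.1 = tr g • g.1 - 1 := by
  have h := add_inv g
  have h1 : g.1 * (g⁻¹).1 = 1 := by
    rw [← Matrix.SpecialLinearGroup.coe_mul, mul_inv_cancel, Matrix.SpecialLinearGroup.coe_one]
  calc g.1 * g.1 = g.1 * (g.1 + (g⁻¹).1) - g.1 * (g⁻¹).1 := by rw [Matrix.mul_add]; abel
    _ = tr g • g.1 - 1 := by rw [h, h1, Matrix.mul_smul, Matrix.mul_one]

theorem three_zero : (3 : F) = 0 := by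
  have : ((3 : ℕ) : F) = 0 := CharP.cast_eq_zero F 3
  exact_mod_cast this

/-- elements acting trivially -/
theorem ψ_scalar {k : ℕ} {g : SL(2, F)} {c : F} (hc : c * c = 1) (hg : g.1 = c • (1 : M2 F)) :
    ψ F k (g, 1) = 1 := by
  ext1 v
  apply vk_ext
  intro i
  rw [ψ_apply]
  unfold TT
  have hfr : (fr F g).1 = c • (1 : M2 F) := by
    ext a b
    rw [fr_apply, hg]
    fin_cases a <;> fin_cases b <;> simp [pow_succ, hc]
  rw [map_one, one_smul, hg, hfr, Matrix.transpose_smul, Matrix.transpose_one, Matrix.mul_smul,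
    Matrix.mul_one, Matrix.smul_mul, Matrix.one_mul, smul_smul, hc, one_smul]
  rfl

/-- fixed points of the action -/
theorem fix_trace {g : SL(2, F)} {e : ℤˣ} {W : M2 F} (hW : W ≠ 0) (h : TT g e W = W) :
    tr g = sg F e * tr g ^ 3 := by
  have h1 : (g⁻¹).1 * W = sg F e • (W * (fr F g).1ᵀ) := by
    have hgi : (g⁻¹).1 * g.1 = 1 := by
      rw [← Matrix.SpecialLinearGroup.coe_mul, inv_mul_cancel, Matrix.SpecialLinearGroup.coe_one]
    calc (g⁻¹).1 * W = (g⁻¹).1 * TT g e W := by rw [h]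
      _ = sg F e • ((g⁻¹).1 * g.1 * W * (fr F g).1ᵀ) := by
          unfold TT; rw [Matrix.mul_smul]; simp only [Matrix.mul_assoc]
      _ = sg F e • (W * (fr F g).1ᵀ) := by rw [hgi, Matrix.one_mul]
  have h2 : g.1 * W = sg F e • (W * ((fr F g)⁻¹).1ᵀ) := by
    have hgi : (fr F g).1ᵀ * ((fr F g)⁻¹).1ᵀ = 1 := by
      rw [← Matrix.transpose_mul, ← Matrix.SpecialLinearGroup.coe_mul, inv_mul_cancel,
        Matrix.SpecialLinearGroup.coe_one, Matrix.transpose_one]
    have h3 : sg F e • (W * ((fr F g)⁻¹).1ᵀ) = sg F e • (TT g e W * ((fr F g)⁻¹).1ᵀ) := by rw [h]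
    rw [h3]
    unfold TT
    rw [Matrix.smul_mul, smul_smul, sg_sq, one_smul, Matrix.mul_assoc (g.1 * W), hgi, Matrix.mul_one]
  have h3 : tr g • W = (sg F e * tr g ^ 3) • W := by
    calc tr g • W = (g.1 + (g⁻¹).1) * W := by rw [add_inv, Matrix.smul_mul, Matrix.one_mul]
      _ = sg F e • (W * ((fr F g).1 + ((fr F g)⁻¹).1)ᵀ) := by
          rw [Matrix.add_mul, h1, h2, Matrix.transpose_add, Matrix.mul_add, smul_add]
          abel
      _ = (sg F e * tr g ^ 3) • W := by
          rw [add_inv, tr_fr, Matrix.transpose_smul, Matrix.transpose_one, Matrix.mul_smul,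
            Matrix.mul_one, smul_smul]
  by_contra hne
  apply hW
  have h4 : (tr g - sg F e * tr g ^ 3) • W = 0 := by rw [sub_smul, h3, sub_self]
  exact (smul_eq_zero.1 h4).resolve_left (sub_ne_zero.2 hne)

theorem fix_cases (hns : ¬ IsSquare (-1 : F)) {k : ℕ} {g : SL(2, F)} {e : ℤˣ} {v : Vk F k}
    (hv : v ≠ 1) (h : ψ F k (g, e) v = v) : ψ F k (g, e) ^ 2 = 1 ∨ ψ F k (g, e) ^ 3 = 1 := by
  obtain ⟨i, hi⟩ : ∃ i, Multiplicative.toAdd v i ≠ 0 := by
    by_contra hcon
    push Not at hcon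
    exact hv (vk_ext hcon)
  have h1 : TT g e (Multiplicative.toAdd v i) = Multiplicative.toAdd v i := by
    rw [← ψ_apply k g e v i, h]
  have h2 := fix_trace hi h1
  by_cases ht : tr g = 0
  · left
    have h3 : (g * g).1 = (-1 : F) • (1 : M2 F) := by
      rw [Matrix.SpecialLinearGroup.coe_mul, sq_coe, ht, zero_smul, zero_sub, neg_one_smul]
    rw [← map_pow, Prod.pow_mk, pow_two, pow_two, Int.units_mul_self]
    exact ψ_scalar (by ring) h3
  · right
    have h4 : 1 = sg F e * tr g ^ 2 := by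
      apply mul_right_cancel₀ ht
      rw [one_mul, mul_assoc, ← pow_succ]
      exact h2
    rcases sg_cases (F := F) e with ⟨he, hs⟩ | ⟨he, hs⟩
    · rw [hs, one_mul] at h4
      have h5 : (g * g * g).1 = (-tr g) • (1 : M2 F) := by
        rw [Matrix.SpecialLinearGroup.coe_mul, Matrix.SpecialLinearGroup.coe_mul, sq_coe,
          Matrix.sub_mul, Matrix.smul_mul, sq_coe, smul_sub, smul_smul, ← pow_two, ← h4,
          Matrix.one_mul, one_smul, neg_smul]
        abel
      rw [← map_pow, Prod.pow_mk, he, one_pow, pow_succ, pow_two]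
      exact ψ_scalar (by rw [neg_mul_neg, ← pow_two, ← h4]) h5
    · exfalso
      apply hns
      rw [hs] at h4
      refine ⟨tr g, ?_⟩
      have : tr g ^ 2 = -1 := by
        have h5 : -(1 : F) = -(-1 * tr g ^ 2) := by rw [← h4]
        rw [h5]; ring
      rw [← pow_two, this]

theorem ψ_pow_iff {k : ℕ} (g : SL(2, F)) (e : ℤˣ) (n : ℕ) :
    ψ F (k + 1) (g, e) ^ n = 1 ↔ ((QuotientGroup.mk g : Matrix.ProjectiveSpecialLinearGroup (Fin 2) F) ^ n = 1 ∧ e ^ n = 1) := by
  rw [← map_pow, Prod.pow_mk, ← QuotientGroup.mk_pow, QuotientGroup.eq_one_iff]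
  generalize g ^ n = g
  generalize e ^ n = e
  constructor
  · intro h
    have h1 : ∀ X : M2 F, TT g e X = X := by
      intro X
      have := congrArg (fun z : Vk F (k + 1) => Multiplicative.toAdd z 0) (DFunLike.congr_fun h (Multiplicative.ofAdd (fun _ => X)))
      exact this
    have h2 : (fr F g).1ᵀ = sg F e • (g⁻¹).1 := by
      have h3 := h1 1
      unfold TT at h3
      rw [Matrix.mul_one] at h3
      have hgi : (g⁻¹).1 * g.1 = 1 := by
        rw [← Matrix.SpecialLinearGroup.coe_mul, inv_mul_cancel, Matrix.SpecialLinearGroup.coe_one]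
      calc (fr F g).1ᵀ = (g⁻¹).1 * g.1 * (fr F g).1ᵀ := by rw [hgi, Matrix.one_mul]
        _ = (sg F e * sg F e) • ((g⁻¹).1 * (g.1 * (fr F g).1ᵀ)) := by
            rw [sg_sq, one_smul, Matrix.mul_assoc]
        _ = sg F e • ((g⁻¹).1 * (sg F e • (g.1 * (fr F g).1ᵀ))) := by
            rw [Matrix.mul_smul, smul_smul]
        _ = sg F e • (g⁻¹).1 := by rw [h3, Matrix.mul_one]
    have h4 : ∀ X : M2 F, g.1 * X = X * g.1 := by
      intro X
      have h3 := h1 X
      unfold TT at h3
      rw [h2, Matrix.mul_smul, smul_smul, sg_sq, one_smul] at h3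
      have hgi : (g⁻¹).1 * g.1 = 1 := by
        rw [← Matrix.SpecialLinearGroup.coe_mul, inv_mul_cancel, Matrix.SpecialLinearGroup.coe_one]
      calc g.1 * X = g.1 * X * ((g⁻¹).1 * g.1) := by rw [hgi, Matrix.mul_one]
        _ = (g.1 * X * (g⁻¹).1) * g.1 := by simp only [Matrix.mul_assoc]
        _ = X * g.1 := by rw [h3]
    have hcen : g ∈ Subgroup.center (SL(2, F)) := by
      rw [Subgroup.mem_center_iff]
      intro x
      apply Subtype.ext
      exact (h4 x.1).symm
    refine ⟨hcen, ?_⟩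
    obtain ⟨r, hr, hrg⟩ := Matrix.SpecialLinearGroup.mem_center_iff.1 hcen
    rw [Fintype.card_fin] at hr
    rcases sg_cases (F := F) e with ⟨he, hs⟩ | ⟨he, hs⟩
    · exact he
    · exfalso
      have h5 := congrFun (congrFun h2 0) 0
      rw [Matrix.transpose_apply, fr_apply, hs, inv_coe] at h5
      have h6 : g.1 0 0 = r := by rw [← hrg]; simp
      have h7 : g.1 1 1 = r := by rw [← hrg]; simp
      have h8 : g.1 0 0 ^ 3 = -g.1 1 1 := by
        rw [h5]; simp
      rw [h6, h7, pow_succ, hr, one_mul] at h8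
      have h9 : r ≠ 0 := by
        rintro rfl
        rw [zero_pow (by norm_num)] at hr
        exact zero_ne_one hr
      have h10 : (2 : F) * r = 0 := by
        calc (2 : F) * r = r + r := by ring
          _ = -r + r := by rw [← h8]
          _ = 0 := by ring
      have h11 : (2 : F) ≠ 0 := by
        intro h
        have : (1 : F) = 0 := by
          calc (1 : F) = 3 - 2 := by norm_num
            _ = 0 := by rw [three_zero, h, sub_zero]
        exact one_ne_zero this
      rcases mul_eq_zero.1 h10 with h | h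
      · exact h11 h
      · exact h9 h
  · rintro ⟨hg, rfl⟩
    obtain ⟨r, hr, hrg⟩ := Matrix.SpecialLinearGroup.mem_center_iff.1 hg
    rw [Fintype.card_fin] at hr
    refine ψ_scalar (c := r) (by rw [← pow_two, hr]) ?_
    rw [← hrg]
    ext i j
    fin_cases i <;> fin_cases j <;> simp

end act

end CfsgLib.Rcube
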