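import Cfsg.Agent.LibRcube1
import Cfsg.Agent.S2475

/-!
Element orders of the semidirect products of the twisted modules with `PSL₂(q) × {±1}`.
-/

set_option autoImplicit false

namespace CfsgLib.Rcube

open Matrix
open scoped MatrixGroups

variable {F : Type} [Field F] [Fintype F] [CharP F 3]

noncomputable abbrev LL (F : Type) [Field F] [Fintype F] [CharP F 3] (k : ℕ) :
    Subgroup (MulAut (Vk F k)) := (ψ F k).range

abbrev KK (F : Type) [Field F] [Fintype F] [CharP F 3] (k : ℕ) := SDL (Vk F k) (LL F k)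

theorem vk_cube {k : ℕ} (v : Vk F k) : v ^ 3 = 1 := by
  apply vk_ext
  intro i
  change (3 : ℕ) • (Multiplicative.toAdd v i) = 0
  rw [← Nat.cast_smul_eq_nsmul F, Nat.cast_ofNat, three_zero, zero_smul]

variable {m : ℕ} (hm : 1 ≤ m) (hF : Fintype.card F = 3 ^ (2 * m + 1))

include hF in
theorem card_mod : Fintype.card F % 8 = 3 := by
  rw [hF, pow_succ, pow_mul]
  have h : 9 ^ m % 8 = 1 := by
    rw [Nat.pow_mod]; norm_num
  have : (3 ^ 2) ^ m * 3 % 8 = (9 ^ m % 8) * 3 % 8 := by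
    rw [show (3 : ℕ) ^ 2 = 9 by norm_num, Nat.mul_mod, Nat.mod_mul_mod]
  rw [this, h]

include hF in
theorem neg_one_not_sq : ¬ IsSquare (-1 : F) := by
  rw [FiniteField.isSquare_neg_one_iff, not_not]
  have := card_mod hF
  omega

include hF hm in
theorem psl_orders (x : Matrix.ProjectiveSpecialLinearGroup (Fin 2) F) :
    orderOf x ∣ 3 ∨ orderOf x ∣ (Fintype.card F - 1) / 2 ∨ orderOf x ∣ (Fintype.card F + 1) / 2 := by
  haveI : Fact (Nat.Prime 3) := ⟨Nat.prime_three⟩
  have h4 : 4 ≤ Fintype.card F := by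
    rw [hF]
    calc 4 ≤ 3 ^ 3 := by norm_num
      _ ≤ 3 ^ (2 * m + 1) := Nat.pow_le_pow_right (by norm_num) (by omega)
  have h := Cfsg.Agent.S2475.result (F := F) 3 h4
  have hg : Nat.gcd 2 (Fintype.card F - 1) = 2 := by
    apply Nat.gcd_eq_left
    have := card_mod hF
    omega
  rw [hg] at h
  have hx : orderOf x ∈ Set.range (orderOf : Matrix.ProjectiveSpecialLinearGroup (Fin 2) F → ℕ) :=
    ⟨x, rfl⟩
  rw [h] at hx
  exact hx

include hF hm in
theorem psl_exists {n : ℕ} (hn : n ∣ 3 ∨ n ∣ (Fintype.card F - 1) / 2 ∨ n ∣ (Fintype.card F + 1) / 2) :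
    ∃ g : SL(2, F), orderOf (QuotientGroup.mk g : Matrix.ProjectiveSpecialLinearGroup (Fin 2) F) = n := by
  haveI : Fact (Nat.Prime 3) := ⟨Nat.prime_three⟩
  have h4 : 4 ≤ Fintype.card F := by
    rw [hF]
    calc 4 ≤ 3 ^ 3 := by norm_num
      _ ≤ 3 ^ (2 * m + 1) := Nat.pow_le_pow_right (by norm_num) (by omega)
  have h := Cfsg.Agent.S2475.result (F := F) 3 h4
  have hg : Nat.gcd 2 (Fintype.card F - 1) = 2 := by
    apply Nat.gcd_eq_left
    have := card_mod hF
    omega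
  rw [hg] at h
  have hx : n ∈ Set.range (orderOf : Matrix.ProjectiveSpecialLinearGroup (Fin 2) F → ℕ) := by
    rw [h]; exact hn
  obtain ⟨x, hx⟩ := hx
  obtain ⟨g, rfl⟩ := QuotientGroup.mk_surjective x
  exact ⟨g, hx⟩

include hF hm in
theorem orders_KK {k : ℕ} (x : KK F (k + 1)) : orderOf x ∣ 6 ∨ orderOf x ∣ 9 ∨
    orderOf x ∣ Fintype.card F - 1 ∨ orderOf x ∣ (Fintype.card F + 1) / 2 := by
  obtain ⟨⟨g, e⟩, hge⟩ := x.right.2
  have hr : (x.right : MulAut (Vk F (k + 1))) = ψ F (k + 1) (g, e) := hge.symm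
  by_cases hfix : ∀ w, (x.right : MulAut (Vk F (k + 1))) w = w → w = 1
  · have key : ∀ n, ψ F (k + 1) (g, e) ^ n = 1 → orderOf x ∣ n := fun n hn =>
      orderOf_dvd_of_pow_eq_one (pow_one_of_nofix x (by rw [hr]; exact hn) hfix)
    have he2 : ∀ n, (e : ℤˣ) ^ (2 * n) = 1 := fun n => by
      rw [pow_mul, pow_two, Int.units_mul_self, one_pow]
    have hc := card_mod hF
    rcases psl_orders hm hF (QuotientGroup.mk g) with h | h | h
    · left
      apply key
      rw [ψ_pow_iff]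
      exact ⟨orderOf_dvd_iff_pow_eq_one.1 (h.trans (by norm_num)), he2 3⟩
    · right; right; left
      apply key
      rw [ψ_pow_iff]
      have h2 : Fintype.card F - 1 = 2 * ((Fintype.card F - 1) / 2) := by omega
      exact ⟨orderOf_dvd_iff_pow_eq_one.1 (h.trans (Dvd.intro_left 2 h2.symm)), by
        rw [h2]; exact he2 _⟩
    · right; right; right
      apply key
      rw [ψ_pow_iff]
      have h2 : (Fintype.card F + 1) / 2 = 2 * ((Fintype.card F + 1) / 4) := by omega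
      exact ⟨orderOf_dvd_iff_pow_eq_one.1 h, by rw [h2]; exact he2 _⟩
  · push Not at hfix
    obtain ⟨w, hw, hw1⟩ := hfix
    rw [hr] at hw
    rcases fix_cases (neg_one_not_sq hF) hw1 hw with h | h
    · left
      have := pow_one_of_exp x (n := 2) (p := 3) (by rw [hr]; exact h) vk_cube
      exact orderOf_dvd_of_pow_eq_one this
    · right; left
      have := pow_one_of_exp x (n := 3) (p := 3) (by rw [hr]; exact h) vk_cube
      exact orderOf_dvd_of_pow_eq_one this

/-- the unipotent element -/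
def uu (F : Type) [Field F] : SL(2, F) := ⟨!![1, 1; 0, 1], by simp⟩

theorem uu_pow (n : ℕ) : (uu F ^ n).1 = !![1, (n : F); 0, 1] := by
  induction n with
  | zero =>
    rw [pow_zero, Matrix.SpecialLinearGroup.coe_one]
    ext i j; fin_cases i <;> fin_cases j <;> simp
  | succ n ih =>
    rw [pow_succ, Matrix.SpecialLinearGroup.coe_mul, ih]
    ext i j
    fin_cases i <;> fin_cases j <;> simp [uu, Matrix.mul_apply, Fin.sum_univ_two, add_comm]

theorem uu_cube : uu F ^ 3 = 1 := by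
  apply Subtype.ext
  rw [uu_pow, Matrix.SpecialLinearGroup.coe_one]
  ext i j
  fin_cases i <;> fin_cases j <;> simp [three_zero]

theorem uu_ne : (QuotientGroup.mk (uu F) : Matrix.ProjectiveSpecialLinearGroup (Fin 2) F) ≠ 1 := by
  intro h
  rw [QuotientGroup.eq_one_iff, Matrix.SpecialLinearGroup.mem_center_iff] at h
  obtain ⟨r, -, hr⟩ := h
  have := congrFun (congrFun hr 0) 1
  simp [uu] at this

theorem order_uu : orderOf (QuotientGroup.mk (uu F) : Matrix.ProjectiveSpecialLinearGroup (Fin 2) F) = 3 :=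
  orderOf_eq_prime (hp := ⟨Nat.prime_three⟩) (by rw [← QuotientGroup.mk_pow, uu_cube]; rfl) uu_ne

/-- order of an element of the complement -/
theorem order_inr {k : ℕ} (g : SL(2, F)) (e : ℤˣ) {n : ℕ}
    (h : Nat.lcm (orderOf (QuotientGroup.mk g : Matrix.ProjectiveSpecialLinearGroup (Fin 2) F)) (orderOf e) = n) :
    orderOf (SemidirectProduct.inr ⟨ψ F (k + 1) (g, e), MonoidHom.mem_range.2 ⟨(g, e), rfl⟩⟩ : KK F (k + 1)) = n := by
  rw [orderOf_injective _ SemidirectProduct.inr_injective, Subgroup.orderOf_mk]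
  apply Nat.dvd_antisymm
  · apply orderOf_dvd_of_pow_eq_one
    rw [ψ_pow_iff, ← h]
    exact ⟨orderOf_dvd_iff_pow_eq_one.1 (Nat.dvd_lcm_left _ _),
      orderOf_dvd_iff_pow_eq_one.1 (Nat.dvd_lcm_right _ _)⟩
  · have h1 := (ψ_pow_iff g e _).1 (pow_orderOf_eq_one (ψ F (k + 1) (g, e)))
    rw [← h]
    exact Nat.lcm_dvd (orderOf_dvd_iff_pow_eq_one.2 h1.1) (orderOf_dvd_iff_pow_eq_one.2 h1.2)

theorem order_neg_one : orderOf (-1 : ℤˣ) = 2 :=
  orderOf_eq_prime (by simp) (by decide)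

/-- an element of order 9 -/
theorem exists_nine (k : ℕ) : ∃ x : KK F (k + 1), orderOf x = 9 := by
  let α : LL F (k + 1) := ⟨ψ F (k + 1) (uu F, 1), MonoidHom.mem_range.2 ⟨(uu F, 1), rfl⟩⟩
  let E : M2 F := !![0, 0; 0, 1]
  let v : Vk F (k + 1) := Multiplicative.ofAdd (fun _ => E)
  let x : KK F (k + 1) := ⟨v, α⟩
  have hα3 : (α : MulAut (Vk F (k + 1))) ^ 3 = 1 := by
    change ψ F (k + 1) (uu F, 1) ^ 3 = 1
    rw [ψ_pow_iff, one_pow, ← QuotientGroup.mk_pow, uu_cube]
    exact ⟨rfl, rfl⟩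
  have h9 : x ^ (3 ^ (1 + 1)) = 1 := by
    have := pow_one_of_exp x (n := 3) (p := 3) hα3 vk_cube
    norm_num
    exact this
  have h3 : ¬ x ^ (3 ^ 1) = 1 := by
    intro h
    rw [pow_one] at h
    have h1 := congrArg SemidirectProduct.left h
    rw [pow_succ, pow_two, SemidirectProduct.mul_left, SemidirectProduct.mul_left,
      SemidirectProduct.mul_right, SemidirectProduct.one_left] at h1
    have h2 := congrArg (fun z : Vk F (k + 1) => Multiplicative.toAdd z 0 0 0) h1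
    have h3 : E 0 0 + TT (uu F) 1 E 0 0 + TT (uu F) 1 (TT (uu F) 1 E) 0 0 = 0 := h2
    have hT : ∀ X : M2 F, TT (uu F) 1 X = (uu F).1 * X * ((uu F).1)ᵀ := by
      intro X
      unfold TT
      rw [map_one, one_smul]
      congr 2
      ext i j
      rw [fr_apply]
      fin_cases i <;> fin_cases j <;> simp [uu]
    have ent : ∀ X : M2 F, ∀ i j, TT (uu F) 1 X i j = !![X 0 0 + X 1 0 + X 0 1 + X 1 1, X 0 1 + X 1 1;
        X 1 0 + X 1 1, X 1 1] i j := by
      intro X i j
      have u00 : (uu F).1 0 0 = 1 := rfl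
      have u01 : (uu F).1 0 1 = 1 := rfl
      have u10 : (uu F).1 1 0 = 0 := rfl
      have u11 : (uu F).1 1 1 = 1 := rfl
      rw [hT, Matrix.mul_apply, Fin.sum_univ_two, Matrix.mul_apply, Matrix.mul_apply,
        Fin.sum_univ_two, Fin.sum_univ_two, Matrix.transpose_apply, Matrix.transpose_apply]
      fin_cases i <;> fin_cases j
      · change ((uu F).1 0 0 * X 0 0 + (uu F).1 0 1 * X 1 0) * (uu F).1 0 0 +
          ((uu F).1 0 0 * X 0 1 + (uu F).1 0 1 * X 1 1) * (uu F).1 0 1 = X 0 0 + X 1 0 + X 0 1 + X 1 1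
        rw [u00, u01]; ring
      · change ((uu F).1 0 0 * X 0 0 + (uu F).1 0 1 * X 1 0) * (uu F).1 1 0 +
          ((uu F).1 0 0 * X 0 1 + (uu F).1 0 1 * X 1 1) * (uu F).1 1 1 = X 0 1 + X 1 1
        rw [u00, u01, u10, u11]; ring
      · change ((uu F).1 1 0 * X 0 0 + (uu F).1 1 1 * X 1 0) * (uu F).1 0 0 +
          ((uu F).1 1 0 * X 0 1 + (uu F).1 1 1 * X 1 1) * (uu F).1 0 1 = X 1 0 + X 1 1
        rw [u00, u01, u10, u11]; ring
      · change ((uu F).1 1 0 * X 0 0 + (uu F).1 1 1 * X 1 0) * (uu F).1 1 0 +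
          ((uu F).1 1 0 * X 0 1 + (uu F).1 1 1 * X 1 1) * (uu F).1 1 1 = X 1 1
        rw [u10, u11]; ring
    have e00 : E 0 0 = 0 := rfl
    have e01 : E 0 1 = 0 := rfl
    have e10 : E 1 0 = 0 := rfl
    have e11 : E 1 1 = 1 := rfl
    have a00 : TT (uu F) 1 E 0 0 = 1 := by rw [ent]; simp [e00, e01, e10, e11]
    have a01 : TT (uu F) 1 E 0 1 = 1 := by rw [ent]; simp [e00, e01, e10, e11]
    have a10 : TT (uu F) 1 E 1 0 = 1 := by rw [ent]; simp [e00, e01, e10, e11]
    have a11 : TT (uu F) 1 E 1 1 = 1 := by rw [ent]; simp [e00, e01, e10, e11]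
    have b00 : TT (uu F) 1 (TT (uu F) 1 E) 0 0 = 1 + 1 + 1 + 1 := by
      rw [ent]; simp [a00, a01, a10, a11]
    rw [e00, a00, b00] at h3
    have h4 : (1 : F) + 3 + 1 = 0 := by
      calc (1 : F) + 3 + 1 = 0 + 1 + (1 + 1 + 1 + 1) := by ring
        _ = 0 := h3
    rw [three_zero] at h4
    have h5 : (1 : F) = 0 := by
      calc (1 : F) = 3 - (1 + 0 + 1) := by ring
        _ = 0 := by rw [three_zero, h4, sub_zero]
    exact one_ne_zero h5
  haveI : Fact (Nat.Prime 3) := ⟨Nat.prime_three⟩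
  exact ⟨x, by rw [orderOf_eq_prime_pow h3 h9]; norm_num⟩

include hF hm in
theorem range_KK (k : ℕ) : Set.range (orderOf : KK F (k + 1) → ℕ) =
    {d : ℕ | d ∣ 6 ∨ d ∣ 9 ∨ d ∣ Fintype.card F - 1 ∨ d ∣ (Fintype.card F + 1) / 2} := by
  have hc := card_mod hF
  ext d
  constructor
  · rintro ⟨x, rfl⟩
    exact orders_KK hm hF x
  · intro hd
    have key : ∀ (n : ℕ), n ≠ 0 → d ∣ n → (∃ x : KK F (k + 1), orderOf x = n) →
        d ∈ Set.range (orderOf : KK F (k + 1) → ℕ) := by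
      rintro n hn ⟨c, rfl⟩ ⟨x, hx⟩
      refine ⟨x ^ c, ?_⟩
      have hc0 : c ≠ 0 := by rintro rfl; simp at hn
      rw [orderOf_pow' _ hc0, hx, Nat.gcd_eq_right (Dvd.intro_left d rfl)]
      exact Nat.mul_div_cancel _ (Nat.pos_of_ne_zero hc0)
    rcases hd with h | h | h | h
    · exact key 6 (by norm_num) h ⟨_, order_inr (uu F) (-1) (by rw [order_uu, order_neg_one]; rfl)⟩
    · exact key 9 (by norm_num) h (exists_nine k)
    · obtain ⟨g, hg⟩ := psl_exists hm hF (n := (Fintype.card F - 1) / 2) (Or.inr (Or.inl dvd_rfl))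
      refine key _ (by omega) h ⟨_, order_inr g (-1) ?_⟩
      rw [hg, order_neg_one]
      have hcop : Nat.Coprime ((Fintype.card F - 1) / 2) 2 := by
        rw [Nat.coprime_comm, Nat.Prime.coprime_iff_not_dvd Nat.prime_two]
        omega
      rw [hcop.lcm_eq_mul]
      omega
    · obtain ⟨g, hg⟩ := psl_exists hm hF (n := (Fintype.card F + 1) / 2) (Or.inr (Or.inr dvd_rfl))
      refine key _ (by omega) h ⟨_, order_inr g 1 ?_⟩
      rw [hg, orderOf_one, Nat.lcm_one_right]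

theorem finite_KK (k : ℕ) : Finite (KK F k) := by
  classical
  haveI : Finite (Vk F k) := Finite.of_equiv (Fin k → M2 F) Multiplicative.ofAdd
  haveI : Finite (MulAut (Vk F k)) := inferInstance
  exact Finite.of_equiv _ SemidirectProduct.equivProd.symm

theorem card_KK_gt (k : ℕ) : k < Nat.card (KK F (k + 1)) := by
  haveI := finite_KK (F := F) (k + 1)
  haveI : Finite (Vk F (k + 1)) := Finite.of_equiv (Fin (k + 1) → M2 F) Multiplicative.ofAdd
  have h1 : Nat.card (Vk F (k + 1)) ≤ Nat.card (KK F (k + 1)) :=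
    Nat.card_le_card_of_injective _ (SemidirectProduct.inl_injective)
  have h2 : Nat.card (Fin (k + 1) → Bool) ≤ Nat.card (Vk F (k + 1)) := by
    refine Nat.card_le_card_of_injective (fun f => Multiplicative.ofAdd
      (fun i => if f i then (1 : M2 F) else 0)) ?_
    intro f g hfg
    funext i
    have h3 := congrFun (congrArg Multiplicative.toAdd hfg) i
    have h4 : (if f i then (1 : M2 F) else 0) = (if g i then (1 : M2 F) else 0) := h3
    cases hf : f i <;> cases hg : g i <;> simp [hf, hg] at h4 ⊢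
  have h3 : Nat.card (Fin (k + 1) → Bool) = 2 ^ (k + 1) := by simp
  have h4 : k + 1 < 2 ^ (k + 1) := Nat.lt_two_pow_self
  omega

end CfsgLib.Rcube
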