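import Cfsg.Agent.LibRee17

set_option autoImplicit false
set_option linter.unusedSectionVars false
set_option linter.unusedVariables false
set_option linter.unusedSimpArgs false

/-! The 7-dimensional representation of G2 in characteristic 3: faithfulness -/

namespace CfsgLib.ReeA

open Matrix CfsgLib.Chev Cfsg.Lie

theorem ch1 : chevG2.chainEntry 11 2 = [(8, 1)] := by decide +kernel
theorem ch2 : chevG2.chainEntry 9 8 = [(11, -3)] := by decide +kernel
theorem ch3 : chevG2.neg 9 = 2 := by decide +kernel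
theorem ch4 : chevG2.neg 11 = 0 := by decide +kernel

theorem rho7_ne {K : Type*} [Field K] [Fintype K] [CharP K 3] (h3 : (3 : K) = 0) {m : ℕ} {f : K ≃+* K} (hf : ∀ t, f t = t ^ (3 ^ m)) :
    rho7 h3 m ⟨TwG2.uW f 0 0 1, TwG2.uW_mem hf 0 0 1⟩ ≠ 1 := by
  intro h
  have h1 := congrArg (fun M : Matrix (Fin 7) (Fin 7) K => M 6 1) h
  have h2 : (TwG2.uW f 0 0 1 : Matrix chevG2.Idx chevG2.Idx K) (Sum.inr (9 : Fin 12)) (Sum.inr (2 : Fin 12)) = 0 := by
    have : (1 : Matrix (Fin 7) (Fin 7) K) 6 1 = 0 := Matrix.one_apply_ne (by decide)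
    rw [← this]; exact h1
  have e1 : TwG2.uW f 0 0 1 = TwG2.X 9 1 * TwG2.X 11 1 := by
    unfold TwG2.uW TwG2.R8 TwG2.X
    simp only [map_zero, map_one, zero_mul, zero_add, good3_G2.X_zero, one_mul, mul_one]
  have e2 : (TwG2.uW f 0 0 1 : Matrix chevG2.Idx chevG2.Idx K) = chevG2.x K 9 1 * chevG2.x K 11 1 := by
    rw [e1, Units.val_mul]; rfl
  have e3 : (TwG2.uW f 0 0 1 : Matrix chevG2.Idx chevG2.Idx K) *ᵥ eV chevG2 K 2 = chevG2.x K 9 1 *ᵥ (chevG2.x K 11 1 *ᵥ eV chevG2 K 2) := by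
    rw [e2, Matrix.mulVec_mulVec]
  have e4 : chevG2.x K 11 1 *ᵥ eV chevG2 K 2 = eV chevG2 K 2 + eV chevG2 K 8 := by
    rw [x_e (D := chevG2) (by decide : (11 : ℕ) < 12) (by decide : (2 : ℕ) < 12) (by decide) (by rw [ch4]; decide) (shc6 11 (by decide)), ch1]
    simp
  have e5 : chevG2.x K 9 1 *ᵥ eV chevG2 K 8 = eV chevG2 K 8 := by
    rw [x_e (D := chevG2) (by decide : (9 : ℕ) < 12) (by decide : (8 : ℕ) < 12) (by decide) (by rw [ch3]; decide) (shc6 9 (by decide)), ch2]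
    simp [h3]
  have e6 := x_e_neg (D := chevG2) (F := K) (r := 9) (by decide : (9 : ℕ) < 12) (by rw [ch3]; decide : chevG2.neg 9 < 12) (by rw [ch3]; decide) 1
  rw [ch3] at e6
  rw [e4, Matrix.mulVec_add, e5, e6] at e3
  have e7 := congrFun e3 (Sum.inr (9 : Fin 12))
  rw [mulVec_eV (D := chevG2) _ (by decide : (2 : ℕ) < 12)] at e7
  have e8 : (TwG2.uW f 0 0 1 : Matrix chevG2.Idx chevG2.Idx K) (Sum.inr (9 : Fin 12)) (Sum.inr ⟨2, by decide⟩) = 0 := h2
  rw [e8] at e7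
  have k1 : eV chevG2 K 2 (Sum.inr (9 : Fin 12)) = 0 := (eV_inr (D := chevG2) (s := 2) (9 : Fin 12)).trans (if_neg (by decide))
  have k2 : eV chevG2 K 9 (Sum.inr (9 : Fin 12)) = 1 := (eV_inr (D := chevG2) (s := 9) (9 : Fin 12)).trans (if_pos rfl)
  have k3 : eV chevG2 K 8 (Sum.inr (9 : Fin 12)) = 0 := (eV_inr (D := chevG2) (s := 8) (9 : Fin 12)).trans (if_neg (by decide))
  have ks : (∑ i ∈ Finset.range chevG2.rank, (((cor chevG2 9 i : ℤ) : K) * 1) • hV chevG2 K i) (Sum.inr (9 : Fin 12)) = 0 := by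
    rw [Finset.sum_apply]
    apply Finset.sum_eq_zero
    intro i _
    have : hV chevG2 K i (Sum.inr (9 : Fin 12)) = 0 := hV_inr (D := chevG2) (i := i) (9 : Fin 12)
    rw [Pi.smul_apply, this, smul_zero]
  have key : ∀ a s b d : K, a = 0 → s = 0 → b = 1 → d = 0 → (0 : K) = a + s + (-(1 : K) ^ 2) • b + d → False := by
    rintro a s b d rfl rfl rfl rfl h
    simp at h
  simp only [Pi.add_apply, Pi.smul_apply] at e7
  exact key _ _ _ _ k1 ks k2 k3 e7

/-- the 7-dimensional representation is faithful -/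
theorem exists_rho {K : Type*} [Field K] [Fintype K] {m : ℕ} (hm : 1 ≤ m) (hK : Fintype.card K = 3 ^ (2 * m + 1)) :
    ∃ ρ : ↥(twistedG2 K (3 ^ m)) →* Matrix (Fin 7) (Fin 7) K, Function.Injective ρ := by
  have : Fact (Nat.Prime 3) := ⟨Nat.prime_three⟩
  have : CharP K 3 := charP_of_card Nat.prime_three hK
  obtain ⟨f, hf⟩ := exists_frobp K 3 m
  have h3 : (3 : K) = 0 := by
    have : ((3 : ℕ) : K) = 0 := CharP.cast_eq_zero K 3
    push_cast at this
    exact this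
  obtain ⟨-, -, -, -, -, hs⟩ := exists_RGm hm hK
  refine ⟨rho7 h3 m, ?_⟩
  rw [← MonoidHom.ker_eq_bot_iff]
  rcases hs.eq_bot_or_eq_top_of_normal (rho7 h3 m).ker inferInstance with h | h
  · exact h
  · exfalso
    apply rho7_ne h3 hf
    rw [← MonoidHom.mem_ker, h]
    exact Subgroup.mem_top _

end CfsgLib.ReeA
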