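import Cfsg.Agent.LibRee25

set_option autoImplicit false
set_option linter.unusedSectionVars false
set_option linter.unusedVariables false
set_option linter.unusedSimpArgs false

/-! Groups of Ree type: element orders -/

namespace CfsgLib.ReeA

open Matrix CfsgLib.Chev CfsgLib.Rank1 CfsgLib.SL2P

variable {G : Type*} [Group G] [Finite G] {K : Type*} [Field K] [Fintype K] {m : ℕ} (R : RG G K m)

theorem exists_ord {x : G} {n d : ℕ} (hx : orderOf x = n) (hd : d ∣ n) : ∃ g : G, orderOf g = d := by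
  refine ⟨x ^ (orderOf x / d), orderOf_pow_orderOf_div (orderOf_pos x).ne' (by rw [hx]; exact hd)⟩

include R in
theorem RG.exists6 : ∃ x : G, orderOf x = 6 := by
  have htr : tr (xx (1 : K)) = 2 := by
    unfold tr; rw [x00, x11]; norm_num
  have h3 := R.setB_cube (x := R.τ * R.φ (xx 1)) ⟨xx 1, htr, rfl⟩
  set x := R.τ * R.φ (xx 1) with hx
  have h2 : x ^ 2 ≠ 1 := by
    intro h
    have hc : Commute R.τ (R.φ (xx 1)) := R.τcen (xx 1)
    rw [hx, hc.mul_pow, pow_two R.τ, R.τ2, one_mul, ← map_pow, R.ker'] at h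
    have e : ((xx 1 : Matrix.SpecialLinearGroup (Fin 2) K) ^ 2) 0 1 = 2 := by
      rw [pow_two, m01, x00, x01, x11]; norm_num
    rcases h with h | h
    · rw [h] at e
      exact R.two_ne e.symm
    · rw [h, n00] at e
      have : (-(1 : Matrix.SpecialLinearGroup (Fin 2) K) 0 1) = 0 := by
        have : (1 : Matrix.SpecialLinearGroup (Fin 2) K) 0 1 = 0 := rfl
        rw [this, neg_zero]
      rw [this] at e
      exact R.two_ne e.symm
  refine ⟨x, ?_⟩
  have h6 : orderOf x ∣ 6 := orderOf_dvd_of_pow_eq_one (by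
    have : (6 : ℕ) = 3 * 2 := by norm_num
    rw [this, pow_mul, h3, pow_two, R.τ2])
  rcases dvd6 h6 with h | h | h | h
  · exfalso; apply h2
    rw [orderOf_eq_one_iff.1 h, one_pow]
  · exfalso; apply h2
    rw [← h]; exact pow_orderOf_eq_one x
  · exfalso; apply R.τ1
    rw [← h3, ← h]; exact pow_orderOf_eq_one x
  · exact h

include R in
theorem RG.exists9 : ∃ x : G, orderOf x = 9 := by
  obtain ⟨u, hu, hu3⟩ : ∃ u ∈ R.U, u ^ 3 ≠ 1 := by
    by_contra hcon
    push Not at hcon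
    have h1 := R.U3
    have h2 : Nat.card {u : G // u ∈ R.U ∧ u ^ 3 = 1} = Nat.card R.U :=
      Nat.card_congr ⟨fun u => ⟨u.1, u.2.1⟩, fun u => ⟨u.1, u.2, hcon u.1 u.2⟩, fun u => rfl, fun u => rfl⟩
    rw [h2, R.cU] at h1
    have hq : 3 ≤ 3 ^ (2 * m + 1) := by
      calc 3 = 3 ^ 1 := by norm_num
        _ ≤ 3 ^ (2 * m + 1) := Nat.pow_le_pow_right (by norm_num) (by omega)
    have h3 : (3 ^ (2 * m + 1)) ^ 2 < (3 ^ (2 * m + 1)) ^ 3 := Nat.pow_lt_pow_right (by omega) (by norm_num)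
    omega
  have : Fact (Nat.Prime 3) := ⟨Nat.prime_three⟩
  refine ⟨u, ?_⟩
  have := orderOf_eq_prime_pow (p := 3) (n := 1) (x := u) (by rw [pow_one]; exact hu3) (by
    have := R.U9 u hu
    norm_num; exact this)
  rw [this]; norm_num

theorem RG.TD.ord_el {D : Subgroup G} {a : G} (h : R.TD D a) {x : G} (hx : x ∈ D) : orderOf x ∣ (3 ^ (2 * m + 1) + 1) / 2 := by
  obtain ⟨e, he, i, hi⟩ := h.el x hx
  have heD : e ∈ D := by
    rcases he with rfl | rfl | rfl | rfl
    · exact D.one_mem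
    · exact h.τm
    · exact h.nm
    · exact D.mul_mem h.τm h.nm
  have hee : e * e = 1 := by
    rcases he with rfl | rfl | rfl | rfl
    · simp
    · exact R.τ2
    · exact R.n2
    · exact R.τn2
  have h2 : (3 ^ (2 * m + 1) + 1) / 2 = 2 * orderOf a := by
    rw [h.oa]; have := hmod8 m; omega
  have hc : Commute e (a ^ i) := (show Commute e a from h.comm _ heD _ h.am).zpow_right i
  rw [h2]
  apply orderOf_dvd_of_pow_eq_one
  rw [hi, hc.mul_pow, pow_mul, pow_two, hee, one_pow, one_mul, ← zpow_natCast, ← _root_.zpow_mul, mul_comm, _root_.zpow_mul, zpow_natCast, mul_comm,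
    pow_mul, pow_orderOf_eq_one, one_pow, _root_.one_zpow]

theorem RG.TD.exists_q2 {D : Subgroup G} {a : G} (h : R.TD D a) : ∃ x : G, orderOf x = (3 ^ (2 * m + 1) + 1) / 2 := by
  refine ⟨R.τ * a, ?_⟩
  have h5 : orderOf R.τ = 2 := orderOf_eq_prime (by rw [pow_two]; exact R.τ2) R.τ1
  have h2 : (3 ^ (2 * m + 1) + 1) / 2 = 2 * orderOf a := by
    rw [h.oa]; have := hmod8 m; omega
  have hc : Commute R.τ a := h.comm _ h.τm _ h.am
  rw [hc.orderOf_mul_eq_mul_orderOf_of_coprime (by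
    rw [h5]; exact (Nat.coprime_two_left).2 (h.zodd R)), h5, h2]

include R in
/-- the element orders -/
theorem RG.orders (hperf : commutator G = ⊤) (ρ : G →* Matrix (Fin 7) (Fin 7) K) (hρ : Function.Injective ρ) (hm : 1 ≤ m) (d : ℕ) :
    (∃ g : G, orderOf g = d) ↔
      (d ∣ 6 ∨ d ∣ 9 ∨ d ∣ 3 ^ (2 * m + 1) - 1 ∨ d ∣ (3 ^ (2 * m + 1) + 1) / 2 ∨
        d ∣ 3 ^ (2 * m + 1) - 3 ^ (m + 1) + 1 ∨ d ∣ 3 ^ (2 * m + 1) + 3 ^ (m + 1) + 1) := by
  obtain ⟨T1, T2, t1, t2, h3, h4, h5, -, -⟩ := R.two_tori hperf ρ hρ hm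
  obtain ⟨D, a, hT⟩ := R.exists_TD
  constructor
  · rintro ⟨y, rfl⟩
    rcases R.cover hperf ρ hρ hT y with h | h | h | h | h | h
    · left; rw [h, orderOf_one]; exact one_dvd _
    · right; left; exact (R.ordA h).1
    · left; exact (R.ordB h).1
    · right; right; left; exact (R.ordC h).1
    · right; right; right; left
      obtain ⟨x, ⟨hx, -⟩, e⟩ := orderOf_cls h
      rw [e]; exact hT.ord_el R hx
    · obtain ⟨s, hs, h6, h7⟩ := h
      rw [← h3] at h6
      rcases (Nat.Prime.dvd_mul hs).1 h6 with h8 | h8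
      · right; right; right; right; left
        obtain ⟨g, hg, -⟩ := t1.into R hperf ρ hρ hs h8 h7
        have := orderOf_dvd_natCard (⟨_, hg⟩ : T1)
        rw [← Subgroup.orderOf_coe, h4] at this
        simp only at this
        rwa [CfsgLib.TransFus.orderOf_conj g y] at this
      · right; right; right; right; right
        obtain ⟨g, hg, -⟩ := t2.into R hperf ρ hρ hs h8 h7
        have := orderOf_dvd_natCard (⟨_, hg⟩ : T2)
        rw [← Subgroup.orderOf_coe, h5] at this
        simp only at this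
        rwa [CfsgLib.TransFus.orderOf_conj g y] at this
  · rintro (h | h | h | h | h | h)
    · obtain ⟨x, hx⟩ := R.exists6
      exact exists_ord hx h
    · obtain ⟨x, hx⟩ := R.exists9
      exact exists_ord hx h
    · obtain ⟨x, -, hx⟩ := exists_gen R.Hc
      exact exists_ord (hx.trans R.cH) h
    · obtain ⟨x, hx⟩ := hT.exists_q2
      exact exists_ord hx h
    · obtain ⟨x, -, hx⟩ := exists_gen t1.cyc
      exact exists_ord (hx.trans h4) h
    · obtain ⟨x, -, hx⟩ := exists_gen t2.cyc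
      exact exists_ord (hx.trans h5) h

end CfsgLib.ReeA
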