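import Cfsg.Agent.LibRcube2
import Cfsg.Agent.S1159

/-!
The cube of a small Ree group is not determined by its element orders.
-/

set_option autoImplicit false

namespace CfsgLib.Rcube

theorem order_prod3 {A B C : Type*} [Group A] [Group B] [Group C] (a : A) (b : B) (c : C) :
    orderOf (a, b, c) = Nat.lcm (orderOf a) (Nat.lcm (orderOf b) (orderOf c)) := by
  rw [Prod.orderOf, Prod.orderOf]

/-- combinatorics of orders -/
theorem cube_orders {R S K : Type*} [Group R] [Group S] [Group K] {P : ℕ → Prop} {u v : ℕ}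
    (hR : ∀ d, (∃ g : R, orderOf g = d) ↔ (P d ∨ d ∣ u ∨ d ∣ v))
    (hS : ∀ d, (∃ g : S, orderOf g = d) ↔ (P d ∨ d ∣ u ∨ d ∣ v))
    (hK : ∀ d, (∃ g : K, orderOf g = d) ↔ P d) :
    Set.range (orderOf : S × S × K → ℕ) = Set.range (orderOf : R × R × R → ℕ) := by
  have hone : ∃ k : K, orderOf k = 1 := ⟨1, orderOf_one⟩
  have hcast : ∀ r : R, ∃ s : S, orderOf s = orderOf r := fun r => (hS _).2 ((hR _).1 ⟨r, rfl⟩)
  ext d
  constructor
  · rintro ⟨⟨a, b, k⟩, rfl⟩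
    obtain ⟨a', ha⟩ := (hR _).2 ((hS _).1 ⟨a, rfl⟩)
    obtain ⟨b', hb⟩ := (hR _).2 ((hS _).1 ⟨b, rfl⟩)
    obtain ⟨c', hc⟩ := (hR _).2 (Or.inl ((hK _).1 ⟨k, rfl⟩))
    exact ⟨(a', b', c'), by rw [order_prod3, order_prod3, ha, hb, hc]⟩
  · rintro ⟨⟨x, y, z⟩, rfl⟩
    rw [order_prod3]
    obtain ⟨x', hx'⟩ := hcast x
    obtain ⟨y', hy'⟩ := hcast y
    obtain ⟨z', hz'⟩ := hcast z
    obtain ⟨k1, hk1⟩ := hone
    have hx := (hR _).1 ⟨x, rfl⟩
    have hy := (hR _).1 ⟨y, rfl⟩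
    have hz := (hR _).1 ⟨z, rfl⟩
    by_cases pz : P (orderOf z)
    · obtain ⟨k, hk⟩ := (hK _).2 pz
      exact ⟨(x', y', k), by rw [order_prod3, hx', hy', hk]⟩
    by_cases py : P (orderOf y)
    · obtain ⟨k, hk⟩ := (hK _).2 py
      exact ⟨(x', z', k), by rw [order_prod3, hx', hz', hk, Nat.lcm_comm (orderOf z)]⟩
    by_cases px : P (orderOf x)
    · obtain ⟨k, hk⟩ := (hK _).2 px
      refine ⟨(y', z', k), ?_⟩
      rw [order_prod3, hy', hz', hk, Nat.lcm_comm (orderOf x), Nat.lcm_assoc]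
    have hx2 := hx.resolve_left px
    have hy2 := hy.resolve_left py
    have hz2 := hz.resolve_left pz
    -- two of the orders divide the same number
    have key : ∀ a b c : R, ((orderOf a ∣ u ∧ orderOf b ∣ u) ∨ (orderOf a ∣ v ∧ orderOf b ∣ v)) →
        ∃ w : S × S × K, orderOf w = Nat.lcm (orderOf c) (Nat.lcm (orderOf a) (orderOf b)) := by
      intro a b c h
      obtain ⟨c', hc'⟩ := hcast c
      have h1 : Nat.lcm (orderOf a) (orderOf b) ∣ u ∨ Nat.lcm (orderOf a) (orderOf b) ∣ v := by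
        rcases h with h | h
        · exact Or.inl (Nat.lcm_dvd h.1 h.2)
        · exact Or.inr (Nat.lcm_dvd h.1 h.2)
      obtain ⟨s, hs⟩ := (hS (Nat.lcm (orderOf a) (orderOf b))).2 (Or.inr h1)
      exact ⟨(c', s, k1), by rw [order_prod3, hc', hs, hk1, Nat.lcm_one_right]⟩
    rcases hx2 with h1 | h1 <;> rcases hy2 with h2 | h2 <;> rcases hz2 with h3 | h3
    · exact key y z x (Or.inl ⟨h2, h3⟩)
    · obtain ⟨w, hw⟩ := key x y z (Or.inl ⟨h1, h2⟩)
      exact ⟨w, by rw [hw, Nat.lcm_comm (orderOf z), Nat.lcm_assoc]⟩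
    · obtain ⟨w, hw⟩ := key x z y (Or.inl ⟨h1, h3⟩)
      exact ⟨w, by rw [hw, ← Nat.lcm_assoc, Nat.lcm_comm (orderOf y), Nat.lcm_assoc]⟩
    · exact key y z x (Or.inr ⟨h2, h3⟩)
    · exact key y z x (Or.inl ⟨h2, h3⟩)
    · obtain ⟨w, hw⟩ := key x z y (Or.inr ⟨h1, h3⟩)
      exact ⟨w, by rw [hw, ← Nat.lcm_assoc, Nat.lcm_comm (orderOf y), Nat.lcm_assoc]⟩
    · obtain ⟨w, hw⟩ := key x y z (Or.inr ⟨h1, h2⟩)
      exact ⟨w, by rw [hw, Nat.lcm_comm (orderOf z), Nat.lcm_assoc]⟩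
    · exact key y z x (Or.inr ⟨h2, h3⟩)

theorem main {K : Type*} [Field K] [Fintype K] {m : ℕ} (hm : 1 ≤ m)
    (hK : Fintype.card K = 3 ^ (2 * m + 1)) (N : ℕ) :
    ∃ (H : Type) (_ : Group H) (_ : Fintype H), N < Fintype.card H ∧
      Set.range (orderOf : H → ℕ) = Set.range (orderOf : ↥(Cfsg.Lie.twistedG2 K (3 ^ m)) ×
        ↥(Cfsg.Lie.twistedG2 K (3 ^ m)) × ↥(Cfsg.Lie.twistedG2 K (3 ^ m)) → ℕ) := by
  classical
  haveI : Fact (Nat.Prime 3) := ⟨Nat.prime_three⟩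
  let F := GaloisField 3 (2 * m + 1)
  haveI : Finite F := inferInstance
  letI : Fintype F := Fintype.ofFinite F
  have hF : Fintype.card F = 3 ^ (2 * m + 1) := by
    rw [← Nat.card_eq_fintype_card]
    exact GaloisField.card 3 (2 * m + 1) (by omega)
  let R0 := ↥(Cfsg.Lie.twistedG2 F (3 ^ m))
  have hR0fin : Finite R0 := by
    obtain ⟨g, hg⟩ := (Cfsg.Agent.S1159.result hm hF 1).2 (Or.inl (one_dvd _))
    infer_instance
  haveI := hR0fin
  haveI := finite_KK (F := F) (N + 1)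
  letI hfin : Fintype (R0 × R0 × KK F (N + 1)) := Fintype.ofFinite _
  refine ⟨R0 × R0 × KK F (N + 1), inferInstance, hfin, ?_, ?_⟩
  · have h1 := card_KK_gt (F := F) N
    have h2 : Nat.card (KK F (N + 1)) ≤ Nat.card (R0 × R0 × KK F (N + 1)) := by
      apply Nat.card_le_card_of_injective (fun k => ((1, 1, k) : R0 × R0 × KK F (N + 1)))
      intro a b hab
      exact congrArg (fun p => p.2.2) hab
    rw [← Nat.card_eq_fintype_card]
    exact lt_of_lt_of_le h1 h2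
  · have hKr := range_KK (F := F) hm hF N
    apply cube_orders (P := fun d => d ∣ 6 ∨ d ∣ 9 ∨ d ∣ 3 ^ (2 * m + 1) - 1 ∨
      d ∣ (3 ^ (2 * m + 1) + 1) / 2) (u := 3 ^ (2 * m + 1) - 3 ^ (m + 1) + 1)
      (v := 3 ^ (2 * m + 1) + 3 ^ (m + 1) + 1)
    · intro d
      rw [Cfsg.Agent.S1159.result hm hK d]
      tauto
    · intro d
      rw [Cfsg.Agent.S1159.result hm hF d]
      tauto
    · intro d
      rw [← hF]
      have h1 : (∃ g : KK F (N + 1), orderOf g = d) ↔ d ∈ Set.range (orderOf : KK F (N + 1) → ℕ) :=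
        Iff.rfl
      rw [h1, hKr]
      rfl

end CfsgLib.Rcube
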