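import Cfsg.Agent.EqBase
import Mathlib

set_option autoImplicit false

/-!
Real elements.
-/

namespace CfsgLib.Real4

open Subgroup
open scoped commutatorElement

universe u
variable {G : Type u} [Group G] [Finite G]

/-- conjugation by powers of an inverting element -/
theorem conj_pow_odd {g x : G} (h : g * x * g⁻¹ = x⁻¹) (m : ℕ) (hm : Odd m) :
    g ^ m * x * (g ^ m)⁻¹ = x⁻¹ := by
  obtain ⟨k, rfl⟩ := hm
  have h2 : g ^ 2 * x * (g ^ 2)⁻¹ = x := by
    have e : g ^ 2 * x * (g ^ 2)⁻¹ = g * (g * x * g⁻¹) * g⁻¹ := by rw [pow_two]; group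
    rw [e, h]
    have e2 : g * x⁻¹ * g⁻¹ = (g * x * g⁻¹)⁻¹ := by group
    rw [e2, h, inv_inv]
  have h3 : Commute (g ^ 2) x := by
    change g ^ 2 * x = x * g ^ 2
    rw [mul_inv_eq_iff_eq_mul] at h2; exact h2
  have h4 : Commute ((g ^ 2) ^ k) x := h3.pow_left k
  have e : g ^ (2 * k + 1) = g * (g ^ 2) ^ k := by rw [pow_succ', pow_mul]
  rw [e]
  calc g * (g ^ 2) ^ k * x * (g * (g ^ 2) ^ k)⁻¹ = g * ((g ^ 2) ^ k * x) * ((g ^ 2) ^ k)⁻¹ * g⁻¹ := by group
    _ = g * x * g⁻¹ := by rw [h4.eq]; group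
    _ = _ := h

theorem exists_two_element {x : G} (h : IsConj x x⁻¹) :
    ∃ t : G, (∃ j : ℕ, orderOf t = 2 ^ j) ∧ t * x * t⁻¹ = x⁻¹ := by
  obtain ⟨g, hg⟩ := isConj_iff.1 h
  obtain ⟨n, m, hm, hx⟩ := Nat.exists_eq_pow_mul_and_not_dvd (orderOf_pos g).ne' 2 (by norm_num)
  have hodd : Odd m := by rw [← Nat.not_even_iff_odd, even_iff_two_dvd]; exact hm
  refine ⟨g ^ m, ⟨n, ?_⟩, conj_pow_odd hg m hodd⟩
  rw [orderOf_pow, hx, Nat.gcd_eq_right (Dvd.intro_left _ rfl),
    Nat.mul_div_cancel _ (Nat.pos_of_ne_zero (by rintro rfl; exact hm (dvd_zero _)))]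

/-- a real element of a group of odd order is trivial -/
theorem eq_one_of_odd (hG : Odd (Nat.card G)) {x : G} (h : IsConj x x⁻¹) : x = 1 := by
  obtain ⟨t, ⟨j, hj⟩, ht⟩ := exists_two_element h
  have h1 : orderOf t ∣ Nat.card G := orderOf_dvd_natCard t
  have h2 : orderOf t = 1 := by
    rcases Nat.eq_zero_or_pos j with h0 | h0
    · rw [hj, h0, pow_zero]
    · exfalso
      have : 2 ∣ Nat.card G := (dvd_pow_self 2 h0.ne').trans (hj ▸ h1)
      rw [← Nat.not_even_iff_odd, even_iff_two_dvd] at hG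
      exact hG this
  rw [orderOf_eq_one_iff] at h2
  subst h2
  simp only [one_mul, inv_one, mul_one] at ht
  have h3 : x ^ 2 = 1 := by rw [pow_two]; nth_rw 1 [ht]; group
  have h4 : orderOf x ∣ 2 := orderOf_dvd_of_pow_eq_one h3
  have h5 : orderOf x ∣ Nat.card G := orderOf_dvd_natCard x
  have h6 : orderOf x ∣ 1 := by
    have := Nat.dvd_gcd h4 h5
    rwa [Nat.Coprime.gcd_eq_one (Nat.coprime_two_left.2 hG)] at this
  exact orderOf_eq_one_iff.1 (Nat.dvd_one.1 h6)

theorem sq_eq_one_of_odd_index {x : G} (h : IsConj x x⁻¹)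
    (hodd : Odd (Subgroup.centralizer ({x} : Set G)).index) : x ^ 2 = 1 := by
  obtain ⟨g, hg⟩ := isConj_iff.1 h
  by_contra hx
  have hne : x⁻¹ ≠ x := by
    intro h1
    apply hx
    rw [pow_two]; nth_rw 1 [← h1]; group
  let C : Subgroup G :=
    { carrier := {y | y * x * y⁻¹ = x ∨ y * x * y⁻¹ = x⁻¹}
      one_mem' := by simp
      mul_mem' := by
        rintro a b ha hb
        have e : a * b * x * (a * b)⁻¹ = a * (b * x * b⁻¹) * a⁻¹ := by group
        have e2 : a * x⁻¹ * a⁻¹ = (a * x * a⁻¹)⁻¹ := by group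
        simp only [Set.mem_setOf_eq] at ha hb ⊢
        rw [e]
        rcases hb with hb | hb <;> rw [hb]
        · exact ha
        · rw [e2]
          rcases ha with ha | ha <;> rw [ha]
          · exact Or.inr rfl
          · left; rw [inv_inv]
      inv_mem' := by
        rintro a ha
        simp only [Set.mem_setOf_eq] at ha ⊢
        rcases ha with ha | ha
        · left
          nth_rw 1 [← ha]; group
        · right
          have : x = a⁻¹ * (a * x * a⁻¹) * a := by group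
          have e2 : a⁻¹ * x * a⁻¹⁻¹ = (a⁻¹ * x⁻¹ * a)⁻¹ := by group
          rw [e2]
          congr 1
          rw [← ha]; group }
  have hle : Subgroup.centralizer ({x} : Set G) ≤ C := by
    intro y hy
    left
    rw [Subgroup.mem_centralizer_singleton_iff] at hy
    rw [hy, mul_inv_cancel_right]
  have hrel : (Subgroup.centralizer ({x} : Set G)).relIndex C = 2 := by
    rw [Subgroup.relIndex, Subgroup.index_eq_two_iff]
    refine ⟨⟨g, Or.inr hg⟩, ?_⟩
    rintro ⟨b, hb⟩
    simp only [Subgroup.mem_subgroupOf, Subgroup.mem_centralizer_singleton_iff, MulMemClass.mk_mul_mk]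
    have key : ∀ y : G, (y * x = x * y ↔ y * x * y⁻¹ = x) := fun y => by
      rw [mul_inv_eq_iff_eq_mul]
    have e : b * g * x * (b * g)⁻¹ = (b * x * b⁻¹)⁻¹ := by
      have : b * g * x * (b * g)⁻¹ = b * (g * x * g⁻¹) * b⁻¹ := by group
      rw [this, hg]; group
    rw [key, key, e]
    rcases hb with hb | hb
    · rw [hb]
      simp [Xor, hne]
    · rw [hb, inv_inv]
      simp [Xor, hne]
  have h2 := Subgroup.relIndex_mul_index hle
  rw [hrel] at h2
  rw [← h2] at hodd
  exact (Nat.not_even_iff_odd.2 hodd) (even_two_mul _)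

end CfsgLib.Real4
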