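import Mathlib
import Cfsg.Agent.EqBase

/-! `GL_p(q)`, `p ∥ q - 1`: every `p`-element lies in two Sylow `p`-subgroups. -/

set_option autoImplicit false

open Matrix

namespace Cfsg.Agent.LibRedSyl

variable {F : Type*} [Field F] {p : ℕ} [hp : Fact p.Prime]

abbrev GLp (p : ℕ) (F : Type*) [Field F] := Matrix.GeneralLinearGroup (Fin p) F

/-- monomial matrix -/
def Mo (r : Fin p → F) (k : Fin p) : Matrix (Fin p) (Fin p) F := fun i j => if j = i + k then r i else 0

theorem Mo_mul (r s : Fin p → F) (k l : Fin p) :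
    Mo r k * Mo s l = Mo (fun i => r i * s (i + k)) (k + l) := by
  ext i j
  rw [Matrix.mul_apply, Finset.sum_eq_single (i + k)]
  · simp only [Mo, if_true]
    rw [add_assoc]
    split_ifs <;> simp
  · intro b _ hb
    simp only [Mo, if_neg hb, zero_mul]
  · simp

theorem Mo_one : Mo (fun _ => (1 : F)) (0 : Fin p) = 1 := by
  ext i j
  simp only [Mo, add_zero, Matrix.one_apply]
  by_cases h : i = j
  · simp [h]
  · rw [if_neg (fun h' => h h'.symm), if_neg h]

theorem Mo_mulVec (r : Fin p → F) (k : Fin p) (v : Fin p → F) (i : Fin p) :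
    (Mo r k *ᵥ v) i = r i * v (i + k) := by
  rw [Matrix.mulVec, dotProduct, Finset.sum_eq_single (i + k)]
  · simp [Mo]
  · intro b _ hb
    simp [Mo, hb]
  · simp

/-- monomial element -/
def mo (r : Fin p → Fˣ) (k : Fin p) : GLp p F where
  val := Mo (fun i => (r i : F)) k
  inv := Mo (fun i => ((r (i - k))⁻¹ : Fˣ)) (-k)
  val_inv := by
    rw [Mo_mul, ← Mo_one]
    congr 1
    · ext i; simp
    · simp
  inv_val := by
    rw [Mo_mul, ← Mo_one]
    congr 1
    · ext i; simp [sub_eq_add_neg]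
    · simp

theorem mo_val (r : Fin p → Fˣ) (k : Fin p) : (mo r k : GLp p F).val = Mo (fun i => (r i : F)) k := rfl

theorem mo_mul (r s : Fin p → Fˣ) (k l : Fin p) :
    (mo r k * mo s l : GLp p F) = mo (fun i => r i * s (i + k)) (k + l) := by
  apply Units.ext
  rw [Units.val_mul, mo_val, mo_val, mo_val, Mo_mul]
  congr 1

theorem mo_one : (mo (fun _ => 1) 0 : GLp p F) = 1 := by
  apply Units.ext
  rw [mo_val]
  simpa using Mo_one

theorem mo_inv (r : Fin p → Fˣ) (k : Fin p) : (mo r k : GLp p F)⁻¹ = mo (fun i => (r (i - k))⁻¹) (-k) := by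
  rw [inv_eq_iff_mul_eq_one, mo_mul, ← mo_one]
  congr 1
  · ext i; simp
  · simp

def Q0 (p : ℕ) (F : Type*) [Field F] [hp : Fact p.Prime] : Subgroup (GLp p F) where
  carrier := {g | ∃ (r : Fin p → Fˣ) (k : Fin p), (∀ i, r i ^ p = 1) ∧ g = mo r k}
  mul_mem' := by
    rintro _ _ ⟨r, k, hr, rfl⟩ ⟨s, l, hs, rfl⟩
    refine ⟨_, _, ?_, mo_mul r s k l⟩
    intro i
    rw [mul_pow, hr, hs, one_mul]
  one_mem' := ⟨fun _ => 1, 0, by simp, mo_one.symm⟩
  inv_mem' := by
    rintro _ ⟨r, k, hr, rfl⟩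
    refine ⟨_, _, ?_, mo_inv r k⟩
    intro i
    rw [inv_pow, hr, inv_one]

theorem mo_inj {r s : Fin p → Fˣ} {k l : Fin p} (h : (mo r k : GLp p F) = mo s l) : r = s ∧ k = l := by
  have h1 : ∀ i j, Mo (fun i => (r i : F)) k i j = Mo (fun i => (s i : F)) l i j := by
    intro i j
    rw [← mo_val, ← mo_val, h]
  have hkl : k = l := by
    have h2 := h1 0 k
    simp only [Mo, zero_add, if_true] at h2
    by_contra hne
    rw [if_neg hne] at h2
    exact (r 0).ne_zero h2
  subst hkl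
  refine ⟨?_, rfl⟩
  ext i
  have h2 := h1 i (i + k)
  simpa [Mo] using h2

theorem card_Q0 [Fintype F] (h1 : p ∣ Fintype.card F - 1) : Nat.card (Q0 p F) = p ^ (p + 1) := by
  classical
  have hcyc : IsCyclic Fˣ := inferInstance
  have hcard : Nat.card Fˣ = Fintype.card F - 1 := by
    rw [Nat.card_eq_fintype_card, Fintype.card_units]
  have hroot : Nat.card {x : Fˣ // x ^ p = 1} = p := by
    obtain ⟨g, hg⟩ := IsCyclic.exists_ofOrder_eq_natCard (α := Fˣ)
    have h2 : Nat.card (powMonoidHom p : Fˣ →* Fˣ).ker = Nat.gcd (Nat.card Fˣ) p :=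
      IsCyclic.card_powMonoidHom_ker _ _
    rw [hcard, Nat.gcd_eq_right h1] at h2
    exact h2
  let f : (Fin p → {x : Fˣ // x ^ p = 1}) × Fin p → Q0 p F :=
    fun x => ⟨mo (fun i => (x.1 i : Fˣ)) x.2, _, _, fun i => (x.1 i).2, rfl⟩
  have hf : Function.Bijective f := by
    constructor
    · rintro ⟨r, k⟩ ⟨s, l⟩ h
      have h2 := mo_inj (congrArg Subtype.val h)
      ext i
      · have := congrFun h2.1 i
        simp only at this
        rw [this]
      · exact congrArg Fin.val h2.2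
    · rintro ⟨_, r, k, hr, rfl⟩
      exact ⟨(fun i => ⟨r i, hr i⟩, k), rfl⟩
  rw [← Nat.card_congr (Equiv.ofBijective f hf), Nat.card_prod, Nat.card_fun, hroot, pow_succ]
  simp

theorem fact_GL [Fintype F] (hp2 : p ≠ 2) (h1 : p ∣ Fintype.card F - 1)
    (h2 : ¬ p ^ 2 ∣ Fintype.card F - 1) : (Nat.card (GLp p F)).factorization p = p + 1 := by
  classical
  set q := Fintype.card F with hq
  have hq1 : 1 < q := Fintype.one_lt_card
  have hpq : ¬ p ∣ q := by
    intro h
    have h3 : p ∣ 1 := by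
      have h4 : p ∣ q - (q - 1) := Nat.dvd_sub h h1
      rwa [Nat.sub_sub_self hq1.le] at h4
    exact hp.out.one_lt.ne' (Nat.dvd_one.1 h3)
  have hv1 : padicValNat p (q - 1) = 1 := by
    have h3 : q - 1 ≠ 0 := by omega
    have h4 : 1 ≤ padicValNat p (q - 1) := (padicValNat_dvd_iff_le h3).1 (by simpa using h1)
    have h5 : ¬ 2 ≤ padicValNat p (q - 1) := fun h => h2 ((padicValNat_dvd_iff_le h3).2 h)
    omega
  have hodd : Odd p := hp.out.odd_of_ne_two hp2
  have hterm : ∀ i : Fin p, (q ^ p - q ^ (i : ℕ)).factorization p = 1 + if i = 0 then 1 else 0 := by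
    intro i
    have h3 : q ^ p - q ^ (i : ℕ) = q ^ (i : ℕ) * (q ^ (p - i) - 1) := by
      rw [Nat.mul_sub, ← pow_add, mul_one, Nat.add_sub_cancel' i.2.le]
    have hm : p - (i : ℕ) ≠ 0 := by have := i.2; omega
    have h4 : q ^ (p - (i : ℕ)) - 1 ≠ 0 := by
      have := Nat.one_lt_pow hm hq1
      omega
    rw [h3, Nat.factorization_mul (pow_ne_zero _ (by omega)) h4, Finsupp.add_apply,
      Nat.factorization_pow, Finsupp.smul_apply, Nat.factorization_eq_zero_of_not_dvd hpq,
      smul_zero, zero_add, Nat.factorization_def _ hp.out]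
    have h5 := padicValNat.pow_sub_pow (p := p) (x := q) (y := 1) (hp := hp) hodd hq1 h1 hpq hm
    rw [one_pow] at h5
    rw [h5, hv1]
    congr 1
    split_ifs with h6
    · subst h6
      simp
    · apply padicValNat.eq_zero_of_not_dvd
      intro h7
      have h8 := Nat.le_of_dvd (by omega) h7
      have h9 : (i : ℕ) ≠ 0 := fun h => h6 (Fin.ext (by simpa using h))
      omega
  rw [Matrix.card_GL_field, Nat.factorization_prod]
  · rw [Finsupp.finsetSum_apply, Finset.sum_congr rfl (fun i _ => hterm i), Finset.sum_add_distrib]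
    simp
  · intro i _
    have h3 : q ^ (i : ℕ) < q ^ p := Nat.pow_lt_pow_right hq1 i.2
    exact (Nat.sub_pos_of_lt h3).ne'

/-- `x` lies in two different Sylow subgroups -/
def Two (x : GLp p F) : Prop := ∃ P₁ P₂ : Sylow p (GLp p F), P₁ ≠ P₂ ∧ x ∈ P₁ ∧ x ∈ P₂

theorem mem_smul {G : Type*} [Group G] (g x : G) (P : Sylow p G) : g * x * g⁻¹ ∈ g • P ↔ x ∈ P := by
  rw [← SetLike.mem_coe, Sylow.coe_smul, ← SetLike.mem_coe]
  rw [Set.mem_smul_set_iff_inv_smul_mem]
  simp [mul_assoc]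

theorem Two.conj {x : GLp p F} (h : Two x) (g : GLp p F) : Two (g * x * g⁻¹) := by
  obtain ⟨P₁, P₂, hne, h1, h2⟩ := h
  refine ⟨g • P₁, g • P₂, fun h => hne (MulAction.injective g h), (mem_smul g x P₁).2 h1,
    (mem_smul g x P₂).2 h2⟩

theorem two_of (P : Sylow p (GLp p F)) (hP : (P : Subgroup (GLp p F)) = Q0 p F) {y w a : GLp p F}
    (hy : y ∈ Q0 p F) (hw : w * y = y * w) (ha : a ∈ Q0 p F) (hwa : w * a * w⁻¹ ∉ Q0 p F) : Two y := by
  have hy' : y ∈ P := by
    change y ∈ (P : Subgroup (GLp p F))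
    rw [hP]; exact hy
  have ha' : a ∈ P := by
    change a ∈ (P : Subgroup (GLp p F))
    rw [hP]; exact ha
  refine ⟨P, w • P, ?_, hy', ?_⟩
  · intro h
    apply hwa
    have h1 : w * a * w⁻¹ ∈ w • P := (mem_smul w a P).2 ha'
    rw [← h] at h1
    have h2 : w * a * w⁻¹ ∈ (P : Subgroup (GLp p F)) := h1
    rwa [hP] at h2
  · have h1 : w * y * w⁻¹ = y := by rw [hw, mul_inv_cancel_right]
    rw [← h1]
    exact (mem_smul w y P).2 hy'

theorem two_ne {k : Fin p} (hp2 : p ≠ 2) (hk : k ≠ 0) : k + k ≠ 0 := by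
  intro h
  apply hk
  have h1 : (2 : ℕ) • k = 0 := by rw [two_nsmul]; exact h
  have h2 : (p : ℕ) • k = 0 := by
    have := card_nsmul_eq_zero (x := k)
    rwa [Fintype.card_fin] at this
  have h3 : (Nat.gcd 2 p) • k = 0 := by
    have h4 : addOrderOf k ∣ Nat.gcd 2 p := Nat.dvd_gcd (addOrderOf_dvd_of_nsmul_eq_zero h1)
      (addOrderOf_dvd_of_nsmul_eq_zero h2)
    exact addOrderOf_dvd_iff_nsmul_eq_zero.1 h4
  have h5 : Nat.gcd 2 p = 1 := (Nat.coprime_primes Nat.prime_two hp.out).2 (Ne.symm hp2)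
  rwa [h5, one_nsmul] at h3

/-- a monomial element fixing a vector with support of size two is diagonal, trivial there -/
theorem fixed_two (hp2 : p ≠ 2) {r : Fin p → Fˣ} {k : Fin p} {v : Fin p → F}
    (hfix : Mo (fun i => (r i : F)) k *ᵥ v = v) {j j' : Fin p} (hjj : j ≠ j') (hj : v j ≠ 0)
    (hj' : v j' ≠ 0) (hv : ∀ i, i ≠ j → i ≠ j' → v i = 0) : k = 0 ∧ r j = 1 ∧ r j' = 1 := by
  have h1 : ∀ i, (r i : F) * v (i + k) = v i := fun i => by
    have := Mo_mulVec (fun i => (r i : F)) k v i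
    rw [hfix] at this
    exact this.symm
  have h2 : ∀ i, v i ≠ 0 → i + k = j ∨ i + k = j' := by
    intro i hi
    by_contra hcon
    push Not at hcon
    apply hi
    rw [← h1 i, hv _ hcon.1 hcon.2, mul_zero]
  have hk : k = 0 := by
    by_contra hk
    rcases h2 j hj with h3 | h3
    · exact hk (by simpa using h3)
    · rcases h2 j' hj' with h4 | h4
      · apply two_ne hp2 hk
        rw [← h3, add_assoc] at h4
        simpa using h4
      · exact hk (by simpa using h4)
  subst hk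
  refine ⟨rfl, ?_, ?_⟩
  · have := h1 j
    rw [add_zero] at this
    apply Units.ext
    exact mul_right_cancel₀ hj (by rw [this, Units.val_one, one_mul])
  · have := h1 j'
    rw [add_zero] at this
    apply Units.ext
    exact mul_right_cancel₀ hj' (by rw [this, Units.val_one, one_mul])

/-- the reflection -/
def refl0 (z : Fˣ) (i₀ : Fin p) : Fin p → Fˣ := fun i => if i = i₀ then z else 1

theorem mo_mulVec (r : Fin p → Fˣ) (k : Fin p) (v : Fin p → F) (i : Fin p) :
    ((mo r k : GLp p F).val *ᵥ v) i = (r i : F) * v (i + k) := by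
  rw [mo_val, Mo_mulVec]

theorem mulVec_ext {A B : Matrix (Fin p) (Fin p) F}
    (h : ∀ j, A *ᵥ (Pi.single j 1) = B *ᵥ (Pi.single j 1)) : A = B := by
  ext i j
  have := congrFun (h j) i
  simpa [Matrix.mulVec_single] using this


theorem qmul {w q : GLp p F} {z : Fˣ} {i₀ : Fin p} (hq : q = w * mo (refl0 z i₀) 0 * w⁻¹) (j : Fin p) :
    q.val *ᵥ (w.val *ᵥ (Pi.single j 1)) = ((refl0 z i₀ j : Fˣ) : F) • (w.val *ᵥ (Pi.single j 1)) := by
  have h1 : q * w = w * mo (refl0 z i₀) 0 := by rw [hq, inv_mul_cancel_right]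
  rw [Matrix.mulVec_mulVec, ← Units.val_mul, h1, Units.val_mul, ← Matrix.mulVec_mulVec,
    ← Matrix.mulVec_smul]
  congr 1
  ext i
  rw [mo_mulVec, add_zero, Pi.smul_apply, smul_eq_mul]
  by_cases h2 : i = j
  · subst h2; rfl
  · simp [h2]

theorem qfix {w q : GLp p F} {z : Fˣ} {i₀ : Fin p} (hq : q = w * mo (refl0 z i₀) 0 * w⁻¹) {j : Fin p}
    (hj : j ≠ i₀) : q.val *ᵥ (w.val *ᵥ (Pi.single j 1)) = w.val *ᵥ (Pi.single j 1) := by
  rw [qmul hq j, refl0, if_neg hj, Units.val_one, one_smul]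

theorem contra {w : GLp p F} {z : Fˣ} (hz : z ≠ 1) {i₀ : Fin p} {r : Fin p → Fˣ} {k : Fin p}
    (hq : mo r k = w * mo (refl0 z i₀) 0 * w⁻¹) (hr : ∀ i, r i = 1) (hk : k = 0) : False := by
  have h1 : (mo r k : GLp p F) = 1 := by
    rw [← mo_one, hk]
    congr 1
    ext i
    rw [hr i]
  rw [h1] at hq
  have h2 : (mo (refl0 z i₀) 0 : GLp p F) = 1 := by
    have h3 := eq_mul_inv_iff_mul_eq.1 hq
    rw [one_mul] at h3
    exact (mul_eq_left.1 h3.symm)
  rw [← mo_one] at h2
  have h4 := congrFun (mo_inj h2).1 i₀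
  simp only [refl0, if_true] at h4
  exact hz h4

theorem refl_mem {z : Fˣ} (hz : z ^ p = 1) (i₀ : Fin p) : (mo (refl0 z i₀) 0 : GLp p F) ∈ Q0 p F := by
  refine ⟨_, _, fun i => ?_, rfl⟩
  unfold refl0
  split_ifs
  · exact hz
  · exact one_pow p

theorem gen {k : Fin p} (hk : k ≠ 0) {C : Fin p → Prop} (h0 : C 0) (hadd : ∀ i, C i → C (i + k)) :
    ∀ i, C i := by
  intro i
  have h1 : i ∈ AddSubmonoid.multiples k := mem_multiples_of_prime_card (p := p) (by simp) hk
  obtain ⟨n, rfl⟩ := h1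
  change C (n • k)
  induction n with
  | zero => rw [zero_nsmul]; exact h0
  | succ n ih => rw [succ_nsmul]; exact hadd _ ih

theorem mo_pow (r : Fin p → Fˣ) (k : Fin p) (n : ℕ) :
    ∃ s : Fin p → Fˣ, (mo r k : GLp p F) ^ n = mo s (n • k) ∧ (n = 0 → s = fun _ => 1) := by
  induction n with
  | zero => exact ⟨fun _ => 1, by rw [pow_zero, zero_nsmul, mo_one], fun _ => rfl⟩
  | succ n ih =>
    obtain ⟨s, hs, -⟩ := ih
    refine ⟨fun i => s i * r (i + n • k), ?_, fun h => absurd h (Nat.succ_ne_zero n)⟩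
    rw [pow_succ, hs, mo_mul, succ_nsmul]

theorem mo_single (d : Fin p → Fˣ) (k j : Fin p) :
    (mo d k : GLp p F).val *ᵥ (Pi.single j 1) = ((d (j - k) : Fˣ) : F) • Pi.single (j - k) (1 : F) := by
  ext i
  rw [mo_mulVec, Pi.smul_apply, smul_eq_mul]
  by_cases h : i = j - k
  · subst h; simp
  · have h2 : i + k ≠ j := fun h3 => h (by rw [← h3]; simp)
    simp [h, h2]

/-- transvection case -/
theorem caseA (hp2 : p ≠ 2) (P : Sylow p (GLp p F)) (hP : (P : Subgroup (GLp p F)) = Q0 p F)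
    {z : Fˣ} (hz : z ≠ 1) (hzp : z ^ p = 1) {d : Fin p → Fˣ} (hd : ∀ i, d i ^ p = 1)
    {i j : Fin p} (hij : i ≠ j) (hdd : d i = d j) : Two (mo d 0 : GLp p F) := by
  let w : GLp p F :=
    { val := Matrix.transvection i j 1
      inv := Matrix.transvection i j (-1)
      val_inv := by rw [Matrix.transvection_mul_transvection_same _ _ hij]; simp
      inv_val := by rw [Matrix.transvection_mul_transvection_same _ _ hij]; simp }
  have hwv : w.val = 1 + Matrix.single i j 1 := rfl
  have hws : ∀ l, w.val *ᵥ (Pi.single l 1) = Pi.single l 1 + if l = j then Pi.single i 1 else 0 := by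
    intro l
    rw [hwv, Matrix.add_mulVec, Matrix.one_mulVec]
    congr 1
    ext m
    by_cases h : l = j
    · subst h
      simp [Matrix.mulVec_single, Matrix.single_apply, Pi.single_apply, eq_comm]
    · rw [if_neg h]
      simp [Matrix.mulVec_single, Matrix.single_apply, h, Ne.symm h]
  refine two_of P hP (w := w) (a := mo (refl0 z i) 0) ⟨d, 0, hd, rfl⟩ ?_ (refl_mem hzp i) ?_
  · apply Units.ext
    apply mulVec_ext
    intro l
    rw [Units.val_mul, Units.val_mul, ← Matrix.mulVec_mulVec, ← Matrix.mulVec_mulVec, mo_single,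
      sub_zero, Matrix.mulVec_smul, hws, Matrix.mulVec_add, mo_single, sub_zero, smul_add]
    congr 1
    split_ifs with h
    · subst h
      rw [mo_single, sub_zero, hdd]
    · simp
  · rintro ⟨r, k, hr, hq⟩
    have h1 := qfix hq.symm (Ne.symm hij)
    rw [hws j, if_pos rfl, mo_val] at h1
    obtain ⟨hk, -, h2⟩ := fixed_two hp2 h1 (j := j) (j' := i) (Ne.symm hij) (by simp [hij, Ne.symm hij])
      (by simp [hij, Ne.symm hij]) (fun m hm hm' => by simp [hm, hm'])
    have h3 := qmul hq.symm i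
    rw [hws i, if_neg hij, add_zero, hk, mo_single, sub_zero, h2] at h3
    have h4 := congrFun h3 i
    simp only [refl0, if_true, Pi.smul_apply, Pi.single_eq_same, smul_eq_mul, mul_one] at h4
    exact hz (Units.ext h4.symm)

theorem p_smul (k : Fin p) : p • k = 0 := by
  have := card_nsmul_eq_zero (x := k)
  rwa [Fintype.card_fin] at this

/-- `y ^ p ≠ 1` -/
theorem caseB (hp2 : p ≠ 2) (P : Sylow p (GLp p F)) (hP : (P : Subgroup (GLp p F)) = Q0 p F)
    {z : Fˣ} (hz : z ≠ 1) (hzp : z ^ p = 1) {d : Fin p → Fˣ} (hd : ∀ i, d i ^ p = 1)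
    {k : Fin p} (hk : k ≠ 0) (hy : (mo d k : GLp p F) ^ p ≠ 1) : Two (mo d k : GLp p F) := by
  have hodd : Odd p := hp.out.odd_of_ne_two hp2
  set y : GLp p F := mo d k with hyd
  obtain ⟨s, hs, -⟩ := mo_pow (F := F) d k p
  rw [p_smul, ← hyd] at hs
  have hyQ : y ∈ Q0 p F := ⟨d, k, hd, rfl⟩
  have hsp : ∀ i, s i ^ p = 1 := by
    obtain ⟨s', k', hs', h1⟩ := (Q0 p F).pow_mem hyQ p
    rw [hs] at h1
    rw [(mo_inj h1).1]
    exact hs'
  have hcomm : ∀ i, s i = s (i + k) := by
    intro i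
    have h1 : mo s 0 * y = y * mo s 0 := by rw [← hs, ← pow_succ, ← pow_succ']
    rw [hyd, mo_mul, mo_mul] at h1
    have h2 := congrFun (mo_inj h1).1 i
    simp only [add_zero] at h2
    rw [mul_comm (d i)] at h2
    exact mul_right_cancel h2
  have hconst : ∀ i, s i = s 0 := gen hk (C := fun i => s i = s 0) rfl fun i hi => by
    rw [← hcomm i]; exact hi
  have hs1 : ∀ i, s i ≠ 1 := by
    intro i hi
    apply hy
    rw [hs, ← mo_one]
    congr 1
    ext m
    rw [hconst m, ← hconst i, hi]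
  have hdet : (1 + y.val).det ≠ 0 := by
    intro h
    obtain ⟨v, hv, hyv⟩ := Matrix.exists_mulVec_eq_zero_iff.2 h
    rw [Matrix.add_mulVec, Matrix.one_mulVec] at hyv
    have h1 : y.val *ᵥ v = (-1 : F) • v := by
      rw [neg_one_smul]
      exact eq_neg_of_add_eq_zero_right hyv
    have h2 : ∀ n : ℕ, (y.val ^ n) *ᵥ v = ((-1 : F) ^ n) • v := by
      intro n
      induction n with
      | zero => simp
      | succ n ih => rw [pow_succ', ← Matrix.mulVec_mulVec, ih, Matrix.mulVec_smul, h1, smul_smul, pow_succ]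
    have h3 := h2 p
    rw [hodd.neg_one_pow, ← Units.val_pow_eq_pow_val, hs] at h3
    obtain ⟨i, hi⟩ : ∃ i, v i ≠ 0 := by
      by_contra hcon
      push Not at hcon
      exact hv (funext hcon)
    have h4 := congrFun h3 i
    rw [mo_mulVec, add_zero, Pi.smul_apply, smul_eq_mul] at h4
    have h5 : ((s i : Fˣ) : F) = -1 := mul_right_cancel₀ hi h4
    have h6 : ((s i : Fˣ) : F) ^ p = 1 := by
      rw [← Units.val_pow_eq_pow_val, hsp i, Units.val_one]
    rw [h5, hodd.neg_one_pow] at h6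
    apply hs1 i
    apply Units.ext
    rw [h5, h6, Units.val_one]
  let w : GLp p F := Matrix.GeneralLinearGroup.mkOfDetNeZero (1 + y.val) hdet
  have hwv : w.val = 1 + y.val := rfl
  have hws : ∀ l, w.val *ᵥ (Pi.single l 1) =
      Pi.single l 1 + ((d (l - k) : Fˣ) : F) • Pi.single (l - k) (1 : F) := by
    intro l
    rw [hwv, Matrix.add_mulVec, Matrix.one_mulVec, hyd, mo_single]
  refine two_of P hP (w := w) (a := mo (refl0 z 0) 0) hyQ ?_ (refl_mem hzp 0) ?_
  · apply Units.ext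
    rw [Units.val_mul, Units.val_mul, hwv, add_mul, mul_add, one_mul, mul_one]
  · rintro ⟨r, k', hr, hq⟩
    have key : ∀ j : Fin p, j ≠ 0 → k' = 0 ∧ r j = 1 ∧ r (j - k) = 1 := by
      intro j hj
      have h1 := qfix hq.symm hj
      rw [hws j, mo_val] at h1
      have hjk : j - k ≠ j := by
        intro h
        apply hk
        simpa using h
      refine fixed_two hp2 h1 (j := j) (j' := j - k) (Ne.symm hjk) ?_ ?_ ?_
      · simp [Ne.symm hjk]
      · simp [hjk]
      · intro m hm hm'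
        simp [hm, hm']
    have hk' : k' = 0 := (key k hk).1
    refine contra hz hq.symm (fun i => ?_) hk'
    by_cases h : i = 0
    · have := (key k hk).2.2
      rw [sub_self] at this
      rw [h, this]
    · exact (key i h).2.1

theorem prod_e {e : Matrix (Fin p) (Fin p) F} (hee : e * e = e) {a b : F} (hab : a + b + a * b = 0) :
    (1 + a • e) * (1 + b • e) = 1 := by
  have h1 : (a • e) * (b • e) = (a * b) • e := by
    rw [Matrix.smul_mul, Matrix.mul_smul, hee, smul_smul]
  have h2 : (1 + a • e) * (1 + b • e) = 1 + (a + b + a * b) • e := by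
    rw [add_mul, one_mul, mul_add, mul_one, h1, add_smul, add_smul]
    abel
  rw [h2, hab, zero_smul, add_zero]

/-- `y ^ p = 1` -/
theorem caseC (hp2 : p ≠ 2) (hpF : (p : F) ≠ 0) (P : Sylow p (GLp p F))
    (hP : (P : Subgroup (GLp p F)) = Q0 p F)
    {z : Fˣ} (hz : z ≠ 1) (hzp : z ^ p = 1) {d : Fin p → Fˣ} (hd : ∀ i, d i ^ p = 1)
    {k : Fin p} (hk : k ≠ 0) (hy : (mo d k : GLp p F) ^ p = 1) : Two (mo d k : GLp p F) := by
  set y : GLp p F := mo d k with hyd
  have hyQ : y ∈ Q0 p F := ⟨d, k, hd, rfl⟩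
  have hyp : y.val ^ p = 1 := by rw [← Units.val_pow_eq_pow_val, hy, Units.val_one]
  set S : Matrix (Fin p) (Fin p) F := ∑ l ∈ Finset.range p, y.val ^ l with hS
  set e : Matrix (Fin p) (Fin p) F := (p : F)⁻¹ • S with he
  have hyS : y.val * S = S := by
    have := mul_geom_sum y.val p
    rw [hyp, sub_self, sub_mul, one_mul, sub_eq_zero] at this
    exact this
  have hSy : S * y.val = S := by
    have := geom_sum_mul y.val p
    rw [hyp, sub_self, mul_sub, mul_one, sub_eq_zero] at this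
    exact this
  have hye : y.val * e = e := by rw [he, Matrix.mul_smul, hyS]
  have hey : e * y.val = e := by rw [he, Matrix.smul_mul, hSy]
  have hyle : ∀ l : ℕ, y.val ^ l * e = e := by
    intro l
    induction l with
    | zero => rw [pow_zero, one_mul]
    | succ l ih => rw [pow_succ, mul_assoc, hye, ih]
  have hee : e * e = e := by
    have h1 : S * e = (p : F) • e := by
      rw [hS, Finset.sum_mul, Finset.sum_congr rfl (fun l _ => hyle l), Finset.sum_const,
        Finset.card_range]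
      ext i j
      simp
    conv_lhs => rw [he]
    rw [Matrix.smul_mul, ← he, h1, smul_smul, inv_mul_cancel₀ hpF, one_smul]
  have hprod : ∀ a b : F, a + b + a * b = 0 → (1 + a • e) * (1 + b • e) = 1 :=
    fun a b hab => prod_e hee hab
  have hzz : ((z : F) - 1) + (((z⁻¹ : Fˣ) : F) - 1) + ((z : F) - 1) * (((z⁻¹ : Fˣ) : F) - 1) = 0 := by
    have : (z : F) * ((z⁻¹ : Fˣ) : F) = 1 := by rw [← Units.val_mul, mul_inv_cancel, Units.val_one]
    linear_combination this
  let w : GLp p F :=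
    { val := 1 + ((z : F) - 1) • e
      inv := 1 + (((z⁻¹ : Fˣ) : F) - 1) • e
      val_inv := hprod _ _ hzz
      inv_val := hprod _ _ (by rw [← hzz]; ring) }
  have hwv : w.val = 1 + ((z : F) - 1) • e := rfl
  set v : Fin p → F := e *ᵥ (Pi.single 0 1) with hv
  have hv0 : v 0 ≠ 0 := by
    have h1 : v 0 = (p : F)⁻¹ * ∑ l ∈ Finset.range p, ((y.val ^ l) *ᵥ (Pi.single 0 1)) 0 := by
      rw [hv, he, Matrix.smul_mulVec, Pi.smul_apply, smul_eq_mul, hS, Matrix.sum_mulVec,
        Finset.sum_apply]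
    have h2 : ∀ l ∈ Finset.range p, ((y.val ^ l) *ᵥ (Pi.single (0 : Fin p) (1 : F))) 0 = if l = 0 then 1 else 0 := by
      intro l hl
      obtain ⟨s, hs, hs0⟩ := mo_pow (F := F) d k l
      rw [← Units.val_pow_eq_pow_val, hyd, hs, mo_mulVec, zero_add]
      split_ifs with h0
      · subst h0
        rw [hs0 rfl]
        simp
      · have h3 : l • k ≠ 0 := by
          intro h4
          have h5 : addOrderOf k ∣ l := addOrderOf_dvd_of_nsmul_eq_zero h4
          have h6 : addOrderOf k = p := by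
            refine addOrderOf_eq_prime (p_smul k) hk
          rw [h6] at h5
          have := Nat.le_of_dvd (by omega) h5
          have := Finset.mem_range.1 hl
          omega
        simp [h3]
    rw [h1, Finset.sum_congr rfl h2]
    simp only [Finset.sum_ite_eq', Finset.mem_range, hp.out.pos, if_true, mul_one]
    exact inv_ne_zero hpF
  have hcol : ∀ j : Fin p, ∃ μ : F, μ ≠ 0 ∧ e *ᵥ (Pi.single j 1) = μ • v := by
    refine gen hk ⟨1, one_ne_zero, by rw [one_smul]⟩ ?_
    rintro i ⟨μ, hμ, hi⟩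
    have h1 : e *ᵥ (Pi.single (i + k) 1) = ((d i : Fˣ) : F) • (e *ᵥ (Pi.single i 1)) := by
      conv_lhs => rw [← hey]
      rw [← Matrix.mulVec_mulVec, hyd, mo_single, add_sub_cancel_right, Matrix.mulVec_smul]
    exact ⟨(d i : F) * μ, mul_ne_zero (d i).ne_zero hμ, by rw [h1, hi, smul_smul]⟩
  choose μ hμ0 hμ using hcol
  have hz1 : (z : F) - 1 ≠ 0 := fun h => hz (Units.ext (by rw [Units.val_one]; exact sub_eq_zero.1 h))
  have hws : ∀ l, w.val *ᵥ (Pi.single l 1) = Pi.single l 1 + (((z : F) - 1) * μ l) • v := by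
    intro l
    rw [hwv, Matrix.add_mulVec, Matrix.one_mulVec, Matrix.smul_mulVec, hμ, smul_smul]
  refine two_of P hP (w := w) (a := mo (refl0 z 0) 0) hyQ ?_ (refl_mem hzp 0) ?_
  · apply Units.ext
    rw [Units.val_mul, Units.val_mul, hwv, add_mul, mul_add, one_mul, mul_one, Matrix.smul_mul,
      Matrix.mul_smul, hye, hey]
  · rintro ⟨r, k', hr, hq⟩
    have key : ∀ j j' : Fin p, j ≠ 0 → j' ≠ 0 → j ≠ j' → k' = 0 ∧ r j = 1 ∧ r j' = 1 := by
      intro j j' hj hj' hjj
      have h1 := qfix hq.symm hj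
      have h2 := qfix hq.symm hj'
      rw [mo_val] at h1 h2
      have h3 : Mo (fun i => (r i : F)) k' *ᵥ (μ j' • (Pi.single j 1 : Fin p → F) - μ j • Pi.single j' 1) =
          μ j' • Pi.single j 1 - μ j • Pi.single j' 1 := by
        have h4 : (μ j' • (Pi.single j 1 : Fin p → F) - μ j • Pi.single j' 1) =
            μ j' • (w.val *ᵥ (Pi.single j 1)) - μ j • (w.val *ᵥ (Pi.single j' 1)) := by
          rw [hws, hws, smul_add, smul_add, smul_smul, smul_smul]
          rw [show μ j' * (((z : F) - 1) * μ j) = μ j * (((z : F) - 1) * μ j') by ring]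
          abel
        rw [h4, Matrix.mulVec_sub, Matrix.mulVec_smul, Matrix.mulVec_smul, h1, h2]
      refine fixed_two hp2 h3 hjj ?_ ?_ ?_
      · simp [hjj, hμ0]
      · simp [Ne.symm hjj, hμ0]
      · intro m hm hm'
        simp [hm, hm']
    have hkk : k + k ≠ 0 := two_ne hp2 hk
    have hkk' : k ≠ k + k := fun h => hk (by simpa using h.symm)
    have hk' : k' = 0 := (key k (k + k) hk hkk hkk').1
    have hr1 : ∀ i, i ≠ 0 → r i = 1 := by
      intro i hi
      by_cases h : i = k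
      · rw [h]; exact (key k (k + k) hk hkk hkk').2.1
      · exact (key i k hi hk h).2.1
    refine contra hz hq.symm (fun i => ?_) hk'
    by_cases h : i = 0
    · subst h
      have h1 := qfix hq.symm hk
      rw [mo_val] at h1
      have h2 := congrFun h1 0
      rw [Mo_mulVec, hk', add_zero, hws] at h2
      have h3 : (Pi.single k (1 : F) + (((z : F) - 1) * μ k) • v : Fin p → F) 0 ≠ 0 := by
        simp only [Pi.add_apply, Pi.smul_apply, smul_eq_mul]
        rw [Pi.single_eq_of_ne (Ne.symm hk), zero_add]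
        exact mul_ne_zero (mul_ne_zero hz1 (hμ0 k)) hv0
      apply Units.ext
      rw [Units.val_one]
      exact mul_right_cancel₀ h3 (by rw [one_mul]; exact h2)
    · exact hr1 i h

theorem mulVec_single_col {A : Matrix (Fin p) (Fin p) F} (j : Fin p) (i : Fin p) :
    (A *ᵥ (Pi.single j 1)) i = A i j := by
  simp [Matrix.mulVec_single]

/-- injective diagonal case -/
theorem caseD (hp2 : p ≠ 2) (hpF : (p : F) ≠ 0) (P : Sylow p (GLp p F))
    (hP : (P : Subgroup (GLp p F)) = Q0 p F)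
    {z : Fˣ} (hz : z ≠ 1) (hzp : z ^ p = 1) {d : Fin p → Fˣ} (hd : ∀ i, d i ^ p = 1)
    (hinj : Function.Injective d) : Two (mo d 0 : GLp p F) := by
  have hp1 : (1 : Fin p) ≠ 0 := by
    intro h
    have h1 := congrArg Fin.val h
    rw [Fin.coe_ofNat_eq_mod, Fin.val_zero, Nat.mod_eq_of_lt hp.out.one_lt] at h1
    exact one_ne_zero h1
  set σ : GLp p F := mo (fun _ => 1) 1 with hσ
  have hσp : σ ^ p = 1 := by
    have h1 : ∀ n : ℕ, σ ^ n = mo (fun _ => 1) (n • (1 : Fin p)) := by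
      intro n
      induction n with
      | zero => rw [pow_zero, zero_nsmul, mo_one]
      | succ n ih =>
        rw [pow_succ, ih, hσ, mo_mul, succ_nsmul]
        congr 1
        ext i
        simp
    rw [h1, p_smul, mo_one]
  have hT : Two σ := caseC hp2 hpF P hP hz hzp (fun i => one_pow p) hp1 hσp
  have hdF : ∀ i, ((d i : Fˣ) : F) ^ p = 1 := fun i => by
    rw [← Units.val_pow_eq_pow_val, hd i, Units.val_one]
  have hdet : (Matrix.of fun i j : Fin p => ((d j : Fˣ) : F) ^ (i : ℕ)).det ≠ 0 := by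
    have h1 : (Matrix.of fun i j : Fin p => ((d j : Fˣ) : F) ^ (i : ℕ)) =
        (Matrix.vandermonde fun j => ((d j : Fˣ) : F))ᵀ := by
      ext i j
      rfl
    rw [h1, Matrix.det_transpose]
    exact Matrix.det_vandermonde_ne_zero_iff.2 fun i j h => hinj (Units.ext h)
  let Φ : GLp p F := Matrix.GeneralLinearGroup.mkOfDetNeZero _ hdet
  have hΦ : ∀ i j, Φ.val i j = ((d j : Fˣ) : F) ^ (i : ℕ) := fun i j => rfl
  have hcomm : σ * Φ = Φ * mo d 0 := by
    apply Units.ext
    apply mulVec_ext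
    intro j
    ext i
    rw [Units.val_mul, Units.val_mul, ← Matrix.mulVec_mulVec, ← Matrix.mulVec_mulVec, mo_single,
      sub_zero, Matrix.mulVec_smul, hσ, mo_mulVec, Pi.smul_apply, mulVec_single_col,
      mulVec_single_col, hΦ, hΦ, Units.val_one, one_mul, smul_eq_mul]
    rw [Fin.val_add, Fin.coe_ofNat_eq_mod, Nat.mod_eq_of_lt hp.out.one_lt]
    by_cases h : (i : ℕ) + 1 = p
    · rw [h, Nat.mod_self, pow_zero, ← pow_succ', h, hdF]
    · rw [Nat.mod_eq_of_lt (by have := i.2; omega), pow_succ']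
  have h2 : (mo d 0 : GLp p F) = Φ⁻¹ * σ * (Φ⁻¹)⁻¹ := by
    rw [inv_inv, mul_assoc, hcomm, inv_mul_cancel_left]
  rw [h2]
  exact hT.conj _

theorem main_thm [Fintype F] (hp2 : p ≠ 2) (h1 : p ∣ Fintype.card F - 1) (h2 : ¬ p ^ 2 ∣ Fintype.card F - 1) :
    ∃ Q : Sylow p (GLp p F), ∀ x : GLp p F,
      (∃ k : ℕ, orderOf x = p ^ k) → ∃ P : Sylow p (GLp p F), P ≠ Q ∧ x ∈ P := by
  classical
  have hq1 : 1 < Fintype.card F := Fintype.one_lt_card
  have hpF : (p : F) ≠ 0 := by
    intro h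
    obtain ⟨c, hc⟩ := h1
    have h3 : ((Fintype.card F : ℕ) : F) = 1 := by
      have h4 : Fintype.card F = p * c + 1 := by omega
      rw [h4, Nat.cast_add, Nat.cast_mul, h, zero_mul, zero_add, Nat.cast_one]
    rw [FiniteField.cast_card_eq_zero] at h3
    exact zero_ne_one h3
  obtain ⟨z, hz⟩ : ∃ z : Fˣ, orderOf z = p := by
    apply exists_prime_orderOf_dvd_card p
    rw [Fintype.card_units]
    exact h1
  have hzp : z ^ p = 1 := by rw [← hz]; exact pow_orderOf_eq_one z
  have hz1 : z ≠ 1 := by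
    rintro rfl
    rw [orderOf_one] at hz
    exact hp.out.one_lt.ne hz
  let P : Sylow p (GLp p F) := Sylow.ofCard (Q0 p F) (by rw [card_Q0 h1, fact_GL hp2 h1 h2])
  have hP : (P : Subgroup (GLp p F)) = Q0 p F := rfl
  have hQ : ∀ y ∈ Q0 p F, Two y := by
    rintro _ ⟨d, k, hd, rfl⟩
    by_cases hk : k = 0
    · subst hk
      by_cases hinj : Function.Injective d
      · exact caseD hp2 hpF P hP hz1 hzp hd hinj
      · rw [Function.Injective] at hinj
        push Not at hinj
        obtain ⟨i, j, hij, hne⟩ := hinj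
        exact caseA hp2 P hP hz1 hzp hd hne hij
    · by_cases hy : (mo d k : GLp p F) ^ p = 1
      · exact caseC hp2 hpF P hP hz1 hzp hd hk hy
      · exact caseB hp2 P hP hz1 hzp hd hk hy
  have hall : ∀ x : GLp p F, (∃ k : ℕ, orderOf x = p ^ k) → Two x := by
    rintro x ⟨k, hk⟩
    have hpg : IsPGroup p (Subgroup.zpowers x) := by
      apply IsPGroup.of_card (n := k)
      rw [Nat.card_zpowers, hk]
    obtain ⟨R, hR⟩ := hpg.exists_le_sylow
    obtain ⟨g, hg⟩ := MulAction.exists_smul_eq (GLp p F) P R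
    have hx : x ∈ R := hR (Subgroup.mem_zpowers x)
    rw [← hg] at hx
    have hx2 : x = g * (g⁻¹ * x * g) * g⁻¹ := by group
    rw [hx2, mem_smul] at hx
    rw [hx2]
    exact (hQ _ hx).conj g
  refine ⟨P, fun x hx => ?_⟩
  obtain ⟨P₁, P₂, hne, hx1, hx2⟩ := hall x hx
  by_cases h : P₁ = P
  · exact ⟨P₂, fun h' => hne (h.trans h'.symm), hx2⟩
  · exact ⟨P₁, h, hx1⟩

end Cfsg.Agent.LibRedSyl
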