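import Cfsg.Agent.LibTwP4
import Cfsg.Agent.LibRank1

set_option autoImplicit false
set_option linter.unusedSectionVars false
set_option linter.unusedVariables false

/-! The small Ree groups: structure as a rank one group -/

namespace CfsgLib.Chev.TwG2

open Cfsg.Lie Matrix CfsgLib.Chev CfsgLib.Rank1
open scoped commutatorElement

variable {K : Type*} [Field K] [Fintype K] [CharP K 3]

section
variable {m : ℕ} {f : K ≃+* K} (hf : ∀ t, f t = t ^ (3 ^ m)) (hK : Fintype.card K = 3 ^ (2 * m + 1))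

/-- the monomial element -/
noncomputable def nG (K : Type*) [Field K] : GL chevG2.Idx K := good3_G2.nw (F := K) (orb 0)

theorem nG_conj_U {u : GL chevG2.Idx K} (hu : u ∈ chevG2.posUnipotent K) : nG K * u * (nG K)⁻¹ ∈ chevG2.negUnipotent K := by
  rw [← Um0] at hu
  exact good3_G2.Um_conj VW0 hu

theorem nG_N : nG K ∈ chevG2.monomialSubgroup K := good3_G2.nw_mem_N VW0

theorem nG_sq : nG K * nG K ∈ chevG2.diagonalSubgroup K := by
  unfold nG
  rw [← Good3.nw_append]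
  apply good3_G2.nw_mem_H (good3_G2.VW_append VW0 VW0)
  intro r hr
  rw [Good3.wact_append]
  have O := (OO (RingEquiv.refl K)).sq 0 (by decide) r hr
  exact O

theorem nG_conj_U' {u : GL chevG2.Idx K} (hu : u ∈ chevG2.posUnipotent K) : (nG K)⁻¹ * u * nG K ∈ chevG2.negUnipotent K := by
  have h1 := nG_conj_U hu
  have h2 := good3_G2.H_norm_V (Subgroup.inv_mem _ nG_sq) h1
  have e : (nG K * nG K)⁻¹ * (nG K * u * (nG K)⁻¹) * ((nG K * nG K)⁻¹)⁻¹ = (nG K)⁻¹ * u * nG K := by group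
  rwa [e] at h2

theorem nG_nB : nG K ∉ chevG2.borelSubgroup K := by
  intro h
  have h1 := good3_G2.BN_inter h nG_N
  unfold nG at h1
  rw [good3_G2.nw_mem_H_iff VW0] at h1
  have h2 := h1 6 (by decide)
  have h3 := orb_long 6 (by decide) (by decide)
  rw [h2] at h3
  exact absurd h3 (by decide)

include hf hK in
/-- the cells -/
theorem cells {x : GL chevG2.Idx K} (hx : x ∈ twistedG2 K (3 ^ m)) (hB : x ∉ chevG2.borelSubgroup K) :
    ∃ u ∈ chevG2.posUnipotent K ⊓ twistedG2 K (3 ^ m), ∃ h ∈ chevG2.diagonalSubgroup K ⊓ twistedG2 K (3 ^ m),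
      ∃ v ∈ chevG2.posUnipotent K ⊓ twistedG2 K (3 ^ m), x = u * nG K * h * v := by
  have RR := R hf hK
  obtain ⟨w, hw, u, hu, h, hh, hn, v, hv, rfl⟩ := RR.canonE hx
  have hv' : v ∈ chevG2.posUnipotent K ⊓ twistedG2 K (3 ^ m) := ⟨good3_G2.Um_le_U _ hv.1, hv.2⟩
  rcases IW_cases hf hK hw with h1 | h1
  · exfalso
    apply hB
    have h2 : good3_G2.nw (F := K) w ∈ chevG2.diagonalSubgroup K := by
      apply good3_G2.nw_mem_H hw.1
      intro r hr
      rw [← good3_G2.pw_val hw.1 ⟨r, hr⟩, h1]; rfl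
    exact Subgroup.mul_mem _ (Subgroup.mul_mem _ (Good3.U_le_B hu.1) (Good3.H_le_B (Subgroup.mul_mem _ h2 hh))) (Good3.U_le_B hv'.1)
  · obtain ⟨y, hy, e⟩ := good3_G2.nw_of_pw (F := K) hw.1 VW0 h1
    refine ⟨u, hu, y * h, ⟨Subgroup.mul_mem _ hy hh, ?_⟩, v, hv', ?_⟩
    · have e1 : y * h = (nG K)⁻¹ * (good3_G2.nw w * h) := by rw [e]; unfold nG; group
      rw [e1]
      exact Subgroup.mul_mem _ (Subgroup.inv_mem _ (nw_mem hf)) hn
    · rw [e]; unfold nG; group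

include hf hK in
/-- the Borel subgroup of the twisted group -/
theorem mem_B1 {x : GL chevG2.Idx K} (hx : x ∈ twistedG2 K (3 ^ m)) (hB : x ∈ chevG2.borelSubgroup K) :
    ∃ u ∈ chevG2.posUnipotent K ⊓ twistedG2 K (3 ^ m), ∃ h ∈ chevG2.diagonalSubgroup K ⊓ twistedG2 K (3 ^ m), x = u * h := by
  have RR := R hf hK
  obtain ⟨w, hw, u, hu, h, hh, hn, v, hv, rfl⟩ := RR.canonE hx
  have hv' : v ∈ chevG2.posUnipotent K ⊓ twistedG2 K (3 ^ m) := ⟨good3_G2.Um_le_U _ hv.1, hv.2⟩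
  have h0 : good3_G2.nw (F := K) w * h ∈ chevG2.borelSubgroup K := by
    have : good3_G2.nw (F := K) w * h = u⁻¹ * (u * (good3_G2.nw w * h) * v) * v⁻¹ := by group
    rw [this]
    exact Subgroup.mul_mem _ (Subgroup.mul_mem _ (Subgroup.inv_mem _ (Good3.U_le_B hu.1)) hB) (Subgroup.inv_mem _ (Good3.U_le_B hv'.1))
  have h1 : good3_G2.nw (F := K) w * h ∈ chevG2.diagonalSubgroup K :=
    good3_G2.BN_inter h0 (Subgroup.mul_mem _ (good3_G2.nw_mem_N hw.1) (Good3.H_le_N hh))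
  refine ⟨u * ((good3_G2.nw w * h) * v * (good3_G2.nw w * h)⁻¹), Subgroup.mul_mem _ hu ⟨good3_G2.H_norm_U h1 hv'.1,
    Subgroup.mul_mem _ (Subgroup.mul_mem _ hn hv'.2) (Subgroup.inv_mem _ hn)⟩, good3_G2.nw w * h, ⟨h1, hn⟩, by group⟩

include hf hK in
/-- the split pair of rank one -/
theorem split : Split ((chevG2.borelSubgroup K ⊓ twistedG2 K (3 ^ m)).subgroupOf (twistedG2 K (3 ^ m)))
    ((chevG2.posUnipotent K ⊓ twistedG2 K (3 ^ m)).subgroupOf (twistedG2 K (3 ^ m)))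
    ((chevG2.diagonalSubgroup K ⊓ twistedG2 K (3 ^ m)).subgroupOf (twistedG2 K (3 ^ m))) (⟨nG K, nw_mem hf⟩ : ↥(twistedG2 K (3 ^ m))) where
  UB := fun x hx => ⟨Good3.U_le_B hx.1, hx.2⟩
  HB := fun x hx => ⟨Good3.H_le_B hx.1, hx.2⟩
  cell := by
    intro x hx
    obtain ⟨u, hu, h, hh, v, hv, e⟩ := cells hf hK x.2 (fun h => hx ⟨h, x.2⟩)
    refine ⟨⟨u, hu.2⟩, hu, ⟨h * v, Subgroup.mul_mem _ hh.2 hv.2⟩, ⟨Subgroup.mul_mem _ (Good3.H_le_B hh.1) (Good3.U_le_B hv.1),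
      Subgroup.mul_mem _ hh.2 hv.2⟩, ?_⟩
    apply Subtype.ext
    show (x : GL chevG2.Idx K) = u * nG K * (h * v)
    rw [e]; group
  nB := fun h => nG_nB h.1
  BB := by
    intro x hx hx'
    obtain ⟨u, hu, h, hh, e⟩ := mem_B1 hf hK x.2 hx.1
    have h1 : (nG K)⁻¹ * (u * h) * nG K ∈ chevG2.borelSubgroup K := by
      rw [← e]; exact hx'.1
    have h2 : (nG K)⁻¹ * h * nG K ∈ chevG2.diagonalSubgroup K := by
      have := good3_G2.N_H (Subgroup.inv_mem _ nG_N) hh.1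
      rwa [inv_inv] at this
    have h3 : (nG K)⁻¹ * u * nG K ∈ chevG2.borelSubgroup K := by
      have : (nG K)⁻¹ * u * nG K = ((nG K)⁻¹ * (u * h) * nG K) * ((nG K)⁻¹ * h * nG K)⁻¹ := by group
      rw [this]
      exact Subgroup.mul_mem _ h1 (Subgroup.inv_mem _ (Good3.H_le_B h2))
    have h4 := good3_G2.B_inf_V h3 (nG_conj_U' hu.1)
    have h5 : u = 1 := by
      have : u = nG K * ((nG K)⁻¹ * u * nG K) * (nG K)⁻¹ := by group
      rw [this, h4]; group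
    refine ⟨?_, x.2⟩
    show (x : GL chevG2.Idx K) ∈ chevG2.diagonalSubgroup K
    rw [e, h5, one_mul]; exact hh.1
  Hn := by
    intro h hh
    have := good3_G2.N_H (Subgroup.inv_mem _ nG_N) hh.1
    rw [inv_inv] at this
    exact ⟨this, Subgroup.mul_mem _ (Subgroup.mul_mem _ (Subgroup.inv_mem _ (nw_mem hf)) h.2) (nw_mem hf)⟩
  UH := by
    rw [eq_bot_iff]
    rintro x ⟨h1, h2⟩
    have : (x : GL chevG2.Idx K) ∈ chevG2.posUnipotent K ⊓ chevG2.diagonalSubgroup K := ⟨h1.1, h2.1⟩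
    rw [good3_G2.U_inf_H, Subgroup.mem_bot] at this
    exact Subtype.ext this
  HU := by
    intro h hh u hu
    exact ⟨good3_G2.H_norm_U hh.1 hu.1, Subgroup.mul_mem _ (Subgroup.mul_mem _ h.2 u.2) (Subgroup.inv_mem _ h.2)⟩

include hf hK in
/-- trivial intersections -/
theorem ti {k y : GL chevG2.Idx K} (hk : k ∈ twistedG2 K (3 ^ m)) (hy : y ∈ chevG2.posUnipotent K) (hz : k * y * k⁻¹ ∈ chevG2.posUnipotent K)
    (hy1 : y ≠ 1) : k ∈ chevG2.borelSubgroup K := by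
  by_contra hB
  obtain ⟨u, hu, h, hh, v, hv, rfl⟩ := cells hf hK hk hB
  have h1 : u⁻¹ * (u * nG K * h * v * y * (u * nG K * h * v)⁻¹) * u ∈ chevG2.posUnipotent K :=
    Subgroup.mul_mem _ (Subgroup.mul_mem _ (Subgroup.inv_mem _ hu.1) hz) hu.1
  have h2 : h * (v * y * v⁻¹) * h⁻¹ ∈ chevG2.posUnipotent K :=
    good3_G2.H_norm_U hh.1 (Subgroup.mul_mem _ (Subgroup.mul_mem _ hv.1 hy) (Subgroup.inv_mem _ hv.1))
  have e : u⁻¹ * (u * nG K * h * v * y * (u * nG K * h * v)⁻¹) * u = nG K * (h * (v * y * v⁻¹) * h⁻¹) * (nG K)⁻¹ := by group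
  rw [e] at h1
  have h3 := good3_G2.B_inf_V (Good3.U_le_B h1) (nG_conj_U h2)
  apply hy1
  have : y = (h * v)⁻¹ * ((nG K)⁻¹ * (nG K * (h * (v * y * v⁻¹) * h⁻¹) * (nG K)⁻¹) * nG K) * (h * v) := by group
  rw [this, h3]; group

end
end CfsgLib.Chev.TwG2
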