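import Cfsg.Agent.LibRee9
import Cfsg.Agent.LibH22SL2

set_option autoImplicit false
set_option linter.unusedSectionVars false
set_option linter.unusedVariables false
set_option linter.unusedSimpArgs false

/-! Groups of Ree type: the torus of order q + 1 -/

namespace CfsgLib.ReeA

open Matrix CfsgLib.Chev CfsgLib.Rank1 CfsgLib.SL2P

section T
variable {K : Type*} [Field K]

theorem mem_T {A : Matrix.SpecialLinearGroup (Fin 2) K} : A * ww = ww * A ↔ A 1 1 = A 0 0 ∧ A 1 0 = -(A 0 1) := by
  constructor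
  · intro h1
    have e := fun i j => congrArg (fun B : Matrix.SpecialLinearGroup (Fin 2) K => B i j) h1
    have a1 := e 0 0
    have a2 := e 0 1
    simp only [m00, m01, m10, m11, w00, w01, w10, w11] at a1 a2
    exact ⟨by linear_combination -a2, by linear_combination -a1⟩
  · rintro ⟨h1, h2⟩
    apply ext2 <;> simp only [m00, m01, m10, m11, w00, w01, w10, w11]
    · linear_combination -h2
    · linear_combination -h1
    · linear_combination -h1
    · linear_combination h2

/-- elements commuting with a nonscalar element of T -/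
theorem T_cent {A B : Matrix.SpecialLinearGroup (Fin 2) K} (hA : A * ww = ww * A) (hb : A 0 1 ≠ 0) (h : A * B = B * A) : B * ww = ww * B := by
  obtain ⟨h1, h2⟩ := mem_T.1 hA
  rw [mem_T]
  have e := fun i j => congrArg (fun B : Matrix.SpecialLinearGroup (Fin 2) K => B i j) h
  have a1 := e 0 0
  have a2 := e 0 1
  simp only [m00, m01, m10, m11] at a1 a2
  rw [h2] at a1
  rw [h1] at a2
  constructor
  · exact mul_left_cancel₀ hb (by linear_combination a2)
  · exact mul_left_cancel₀ hb (by linear_combination a1)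

theorem T_anti (h2 : (2 : K) ≠ 0) {A B : Matrix.SpecialLinearGroup (Fin 2) K} (hA : A * ww = ww * A) (h : A * B = -(B * A)) : A 0 0 = 0 := by
  obtain ⟨h1, h2'⟩ := mem_T.1 hA
  have e := fun i j => congrArg (fun B : Matrix.SpecialLinearGroup (Fin 2) K => B i j) h
  have a1 := e 0 0
  have a2 := e 0 1
  have a3 := e 1 0
  have a4 := e 1 1
  simp only [m00, m01, m10, m11, n00] at a1 a2 a3 a4
  have hd := det2 B
  rw [h1] at a2 a3 a4
  rw [h2'] at a1 a3 a4
  have h4 : (2 * 2 : K) * A 0 0 = 0 := by
    linear_combination (B 1 1) * a1 - (B 1 0) * a2 - (B 0 1) * a3 + (B 0 0) * a4 - 4 * (A 0 0) * hd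
  exact (mul_eq_zero.1 h4).resolve_left (mul_ne_zero h2 h2)

/-- T is cyclic if -1 is not a square -/
theorem T_cyclic [Finite K] (hns : ∀ a : K, a * a ≠ -1) : IsCyclic ↥(Subgroup.centralizer {(ww : Matrix.SpecialLinearGroup (Fin 2) K)}) := by
  obtain ⟨i, hi⟩ := IsAlgClosed.exists_pow_nat_eq (-1 : AlgebraicClosure K) (n := 2) (by norm_num)
  let c := algebraMap K (AlgebraicClosure K)
  have hT : ∀ A : ↥(Subgroup.centralizer {(ww : Matrix.SpecialLinearGroup (Fin 2) K)}), A.1 1 1 = A.1 0 0 ∧ A.1 1 0 = -(A.1 0 1) := by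
    intro A
    exact mem_T.1 (Subgroup.mem_centralizer_singleton_iff.1 A.2)
  let f : ↥(Subgroup.centralizer {(ww : Matrix.SpecialLinearGroup (Fin 2) K)}) →* AlgebraicClosure K :=
    { toFun := fun A => c (A.1 0 0) + c (A.1 0 1) * i
      map_one' := by
        show c ((1 : Matrix.SpecialLinearGroup (Fin 2) K) 0 0) + c ((1 : Matrix.SpecialLinearGroup (Fin 2) K) 0 1) * i = 1
        simp
      map_mul' := by
        intro A B
        obtain ⟨h1, h2⟩ := hT A
        obtain ⟨h3, h4⟩ := hT B
        show c ((A.1 * B.1) 0 0) + c ((A.1 * B.1) 0 1) * i = (c (A.1 0 0) + c (A.1 0 1) * i) * (c (B.1 0 0) + c (B.1 0 1) * i)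
        rw [m00, m01, h3, h4]
        simp only [map_add, map_mul, map_neg]
        linear_combination (-(c (A.1 0 1)) * c (B.1 0 1)) * hi }
  apply isCyclic_of_injective_ringHom f
  intro A B h
  have h' : c (A.1 0 0) + c (A.1 0 1) * i = c (B.1 0 0) + c (B.1 0 1) * i := h
  have e1 : A.1 0 1 = B.1 0 1 := by
    by_contra hne
    have hne' : c (A.1 0 1 - B.1 0 1) ≠ 0 := by
      rw [Ne, map_eq_zero]; exact sub_ne_zero.2 hne
    have h5 : i = c ((B.1 0 0 - A.1 0 0) / (A.1 0 1 - B.1 0 1)) := by
      rw [map_div₀, eq_div_iff hne', map_sub, map_sub]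
      linear_combination h'
    rw [h5, ← map_pow] at hi
    have h6 : c (((B.1 0 0 - A.1 0 0) / (A.1 0 1 - B.1 0 1)) ^ 2) = c (-1) := by rw [hi]; simp
    have h7 := (algebraMap K (AlgebraicClosure K)).injective h6
    exact hns _ (by rw [← pow_two]; exact h7)
  have e2 : A.1 0 0 = B.1 0 0 := by
    rw [e1] at h'
    exact (algebraMap K (AlgebraicClosure K)).injective (add_right_cancel h')
  obtain ⟨h1, h2⟩ := hT A
  obtain ⟨h3, h4⟩ := hT B
  apply Subtype.ext
  apply ext2
  · exact e2
  · exact e1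
  · rw [h2, h4, e1]
  · rw [h1, h3, e2]

/-- rational parametrisation of the circle -/
def tt (t : K) (h : 1 + t ^ 2 ≠ 0) : Matrix.SpecialLinearGroup (Fin 2) K :=
  ⟨!![(1 - t ^ 2) / (1 + t ^ 2), 2 * t / (1 + t ^ 2); -(2 * t / (1 + t ^ 2)), (1 - t ^ 2) / (1 + t ^ 2)], by
      rw [Matrix.det_fin_two]
      simp
      field_simp
      ring⟩

theorem T_card [Fintype K] (h2 : (2 : K) ≠ 0) (hns : ∀ a : K, a * a ≠ -1) :
    Nat.card ↥(Subgroup.centralizer {(ww : Matrix.SpecialLinearGroup (Fin 2) K)}) = Fintype.card K + 1 := by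
  have hpos : ∀ t : K, 1 + t ^ 2 ≠ 0 := by
    intro t h
    exact hns t (by linear_combination h)
  have hmem : ∀ t : K, tt t (hpos t) ∈ Subgroup.centralizer {(ww : Matrix.SpecialLinearGroup (Fin 2) K)} := by
    intro t
    rw [Subgroup.mem_centralizer_singleton_iff, mem_T]
    exact ⟨rfl, rfl⟩
  have hT : ∀ A : ↥(Subgroup.centralizer {(ww : Matrix.SpecialLinearGroup (Fin 2) K)}), A.1 1 1 = A.1 0 0 ∧ A.1 1 0 = -(A.1 0 1) := by
    intro A
    exact mem_T.1 (Subgroup.mem_centralizer_singleton_iff.1 A.2)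
  have hm1 : (-1 : Matrix.SpecialLinearGroup (Fin 2) K) ∈ Subgroup.centralizer {(ww : Matrix.SpecialLinearGroup (Fin 2) K)} := by
    rw [Subgroup.mem_centralizer_singleton_iff]; simp
  have e : Nat.card (Option K) = Nat.card ↥(Subgroup.centralizer {(ww : Matrix.SpecialLinearGroup (Fin 2) K)}) := by
    refine Nat.card_eq_of_bijective (fun o => match o with
      | none => ⟨-1, hm1⟩
      | some t => ⟨_, hmem t⟩) ⟨?_, ?_⟩
    · intro o o' h
      match o, o', h with
      | none, none, _ => rfl
      | none, some t, h =>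
        exfalso
        have h1 := congrArg (fun A : ↥(Subgroup.centralizer {(ww : Matrix.SpecialLinearGroup (Fin 2) K)}) => A.1 0 0) h
        have h3 : (-1 : K) = (1 - t ^ 2) / (1 + t ^ 2) := h1
        rw [eq_div_iff (hpos t)] at h3
        apply h2
        linear_combination -h3
      | some t, none, h =>
        exfalso
        have h1 := congrArg (fun A : ↥(Subgroup.centralizer {(ww : Matrix.SpecialLinearGroup (Fin 2) K)}) => A.1 0 0) h
        have h3 : (1 - t ^ 2) / (1 + t ^ 2) = (-1 : K) := h1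
        rw [div_eq_iff (hpos t)] at h3
        apply h2
        linear_combination h3
      | some t, some t', h =>
        have h1 := congrArg (fun A : ↥(Subgroup.centralizer {(ww : Matrix.SpecialLinearGroup (Fin 2) K)}) => A.1 0 0) h
        have h3 := congrArg (fun A : ↥(Subgroup.centralizer {(ww : Matrix.SpecialLinearGroup (Fin 2) K)}) => A.1 0 1) h
        have h4 : (1 - t ^ 2) / (1 + t ^ 2) = (1 - t' ^ 2) / (1 + t' ^ 2) := h1
        have h5 : 2 * t / (1 + t ^ 2) = 2 * t' / (1 + t' ^ 2) := h3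
        have k1 := hpos t
        have k2 := hpos t'
        -- 1 + cos = 2/(1+t²)
        have h6 : (1 + t ^ 2) = (1 + t' ^ 2) := by
          rw [div_eq_div_iff k1 k2] at h4
          apply mul_left_cancel₀ h2
          linear_combination -h4
        rw [h6, div_left_inj' k2] at h5
        rw [mul_left_cancel₀ h2 h5]
    · intro A
      obtain ⟨h1, h3⟩ := hT A
      by_cases ha : A.1 0 0 = -1
      · refine ⟨none, ?_⟩
        apply Subtype.ext
        have hd := det2 A.1
        rw [h1, h3, ha] at hd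
        have hb : A.1 0 1 = 0 := by
          have : A.1 0 1 * A.1 0 1 = 0 := by linear_combination hd
          exact mul_self_eq_zero.1 this
        apply ext2
        · rw [ha]; simp
        · rw [hb]; simp
        · rw [h3, hb]; simp
        · rw [h1, ha]; simp
      · have ha' : 1 + A.1 0 0 ≠ 0 := fun h => ha (by linear_combination h)
        refine ⟨some (A.1 0 1 / (1 + A.1 0 0)), ?_⟩
        have hd := det2 A.1
        rw [h1, h3] at hd
        have hb : A.1 0 1 ^ 2 = 1 - A.1 0 0 ^ 2 := by linear_combination hd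
        have k1 := hpos (A.1 0 1 / (1 + A.1 0 0))
        have h5 : 1 + (A.1 0 1 / (1 + A.1 0 0)) ^ 2 = 2 / (1 + A.1 0 0) := by
          rw [div_pow, hb]; field_simp; ring
        have h6 : (1 - (A.1 0 1 / (1 + A.1 0 0)) ^ 2) / (1 + (A.1 0 1 / (1 + A.1 0 0)) ^ 2) = A.1 0 0 := by
          rw [h5, div_pow, hb]; field_simp; ring
        have h7 : 2 * (A.1 0 1 / (1 + A.1 0 0)) / (1 + (A.1 0 1 / (1 + A.1 0 0)) ^ 2) = A.1 0 1 := by
          rw [h5]; field_simp
        apply Subtype.ext
        apply ext2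
        · exact h6
        · exact h7
        · rw [h3]; exact congrArg Neg.neg h7
        · rw [h1]; exact h6
  rw [← e]
  simp [Nat.card_eq_fintype_card]

end T

end CfsgLib.ReeA
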