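import Cfsg.Agent.LibRee10

set_option autoImplicit false
set_option linter.unusedSectionVars false
set_option linter.unusedVariables false
set_option linter.unusedSimpArgs false

/-! Groups of Ree type: the torus of order q + 1 -/

namespace CfsgLib.ReeA

open Matrix CfsgLib.Chev CfsgLib.Rank1 CfsgLib.SL2P

section general
variable {G : Type*} [Group G] [Finite G]

theorem conj_into_sub {p : ℕ} (hp : p.Prime) (M A : Subgroup G) (hAM : A ≤ M) (hA : ¬ p ∣ A.relIndex M) {x : G} (hxM : x ∈ M)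
    (hx : ∃ k, orderOf x = p ^ k) : ∃ g ∈ M, g * x * g⁻¹ ∈ A := by
  obtain ⟨k, hk⟩ := hx
  obtain ⟨g, hg⟩ := conj_into_elt hp (A.subgroupOf M) hA (x := (⟨x, hxM⟩ : M)) ⟨k, by rw [← hk, ← Subgroup.orderOf_coe]⟩
  exact ⟨g, g.2, hg⟩

end general

variable {G : Type*} [Group G] [Finite G] {K : Type*} [Field K] [Fintype K] {m : ℕ} (R : RG G K m)

include R in
theorem RG.hns (a : K) : a * a ≠ -1 := by
  intro h
  have h1 : IsSquare (-1 : K) := ⟨a, h.symm⟩
  rw [FiniteField.isSquare_neg_one_iff, R.hK] at h1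
  have := hmod8 m
  omega

/-- data of the torus -/
structure RG.TD (R : RG G K m) (D : Subgroup G) (a : G) : Prop where
  cD : Nat.card D = 3 ^ (2 * m + 1) + 1
  oa : orderOf a = (3 ^ (2 * m + 1) + 1) / 4
  am : a ∈ D
  τm : R.τ ∈ D
  nm : R.n ∈ D
  el : ∀ x ∈ D, ∃ e, (e = 1 ∨ e = R.τ ∨ e = R.n ∨ e = R.τ * R.n) ∧ ∃ i : ℤ, x = e * a ^ i
  comm : ∀ x ∈ D, ∀ y ∈ D, x * y = y * x
  aL : a ∈ R.φ.range
  cen : ∀ x ∈ Subgroup.zpowers a, x ≠ 1 → ∀ y, y * x = x * y → y * R.τ = R.τ * y → y ∈ D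
  zinv : R.z * a * R.z⁻¹ = a⁻¹

theorem RG.exists_TD : ∃ D a, R.TD D a := by
  have h3 := R.three
  have hns := R.hns
  have hcyc := T_cyclic (K := K) hns
  have hcard := T_card (K := K) R.two_ne hns
  rw [R.hK] at hcard
  obtain ⟨k, hk, hkodd⟩ : ∃ k, 3 ^ (2 * m + 1) + 1 = 4 * k ∧ k % 2 = 1 := by
    have := hmod8 m
    exact ⟨(3 ^ (2 * m + 1) + 1) / 4, by omega, by omega⟩
  obtain ⟨⟨A1, hA1⟩, hgen⟩ := hcyc.exists_generator
  have hA1' : A1 * ww = ww * A1 := Subgroup.mem_centralizer_singleton_iff.1 hA1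
  have hgen' : ∀ A, A * ww = ww * A → ∃ i : ℤ, A = A1 ^ i := by
    intro A hA
    obtain ⟨i, hi⟩ := Subgroup.mem_zpowers_iff.1 (hgen ⟨A, Subgroup.mem_centralizer_singleton_iff.2 hA⟩)
    exact ⟨i, (congrArg Subtype.val hi).symm⟩
  have hTpow : ∀ i : ℤ, A1 ^ i * ww = ww * A1 ^ i := by
    intro i
    have : Commute A1 ww := hA1'
    exact (this.zpow_left i).eq
  have hoA : orderOf A1 = 4 * k := by
    have h1 := orderOf_eq_card_of_forall_mem_zpowers hgen
    rw [hcard, hk, ← Subgroup.orderOf_coe] at h1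
    exact h1
  have hsq1 : ∀ A : Matrix.SpecialLinearGroup (Fin 2) K, A * ww = ww * A → A * A = 1 → A = 1 ∨ A = -1 := by
    intro A hA h
    obtain ⟨h1, h2⟩ := mem_T.1 hA
    have e := congrArg (fun B : Matrix.SpecialLinearGroup (Fin 2) K => B 0 0) h
    simp only [m00] at e
    have hd := det2 A
    rw [h1, h2] at hd
    rw [h2] at e
    have e' : A 0 0 * A 0 0 + A 0 1 * -(A 0 1) = 1 := by rw [e]; simp
    have hb : A 0 1 = 0 := by
      have : (2 : K) * (A 0 1 * A 0 1) = 0 := by linear_combination hd - e'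
      exact mul_self_eq_zero.1 ((mul_eq_zero.1 this).resolve_left R.two_ne)
    rw [hb] at hd h2
    have : A 0 0 * A 0 0 = 1 := by linear_combination hd
    rcases mul_self_eq_one_iff.1 this with h | h
    · left; apply ext2
      · rw [h]; simp
      · rw [hb]; simp
      · rw [h2]; simp
      · rw [h1, h]; simp
    · right; apply ext2
      · rw [h]; simp
      · rw [hb]; simp
      · rw [h2]; simp
      · rw [h1, h]; simp
  set t0 := R.φ A1 with ht0
  have hot : orderOf t0 = 2 * k := by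
    apply Nat.dvd_antisymm
    · apply orderOf_dvd_of_pow_eq_one
      rw [ht0, ← map_pow, R.ker']
      apply hsq1
      · have := hTpow ((2 * k : ℕ) : ℤ)
        rwa [zpow_natCast] at this
      · rw [← pow_add, ← orderOf_dvd_iff_pow_eq_one, hoA]
        exact ⟨1, by ring⟩
    · have h1 : t0 ^ orderOf t0 = 1 := pow_orderOf_eq_one _
      rw [ht0, ← map_pow, R.ker'] at h1
      have h2 : A1 ^ (2 * orderOf (R.φ A1)) = 1 := by
        rw [mul_comm, pow_mul, pow_two]
        rcases h1 with h | h <;> rw [h] <;> simp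
      have h3 := orderOf_dvd_of_pow_eq_one h2
      rw [hoA] at h3
      have h4 : 2 * (2 * k) ∣ 2 * orderOf (R.φ A1) := by
        have : 2 * (2 * k) = 4 * k := by ring
        rw [this]; exact h3
      exact Nat.dvd_of_mul_dvd_mul_left (by norm_num) h4
  have hoa : orderOf (t0 ^ 2) = k := by
    rw [orderOf_pow' t0 (by norm_num), hot]
    have : Nat.gcd (2 * k) 2 = 2 := Nat.gcd_eq_right ⟨k, rfl⟩
    rw [this, Nat.mul_div_cancel_left _ (by norm_num)]
  have hn : R.n = t0 ^ k := by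
    obtain ⟨j, hj⟩ := hgen' ww rfl
    have h1 : R.n = t0 ^ j := by rw [← R.hw]; conv_lhs => rw [hj]
                                 rw [map_zpow]
    have h2 : t0 ^ (j + j) = 1 := by rw [_root_.zpow_add, ← h1, R.n2]
    rw [← orderOf_dvd_iff_zpow_eq_one, hot] at h2
    have h3 : (k : ℤ) ∣ j := by
      obtain ⟨c, hc⟩ := h2
      exact ⟨c, by push_cast at hc; linarith⟩
    obtain ⟨l, hl⟩ := h3
    rcases Int.even_or_odd' l with ⟨c, hc | hc⟩
    · exfalso
      apply R.n1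
      rw [h1, ← orderOf_dvd_iff_zpow_eq_one, hot, hl, hc]
      exact ⟨c, by push_cast; ring⟩
    · have : j = (2 * k : ℕ) * c + k := by rw [hl, hc]; push_cast; ring
      rw [h1, this, _root_.zpow_add, _root_.zpow_mul, zpow_natCast, ← hot, pow_orderOf_eq_one]
      simp
  have hτt : ∀ i : ℤ, R.τ * t0 ^ i = t0 ^ i * R.τ := by
    intro i
    have : Commute R.τ t0 := R.τcen A1
    exact (this.zpow_right i).eq
  have hτinv : R.τ⁻¹ = R.τ := inv_eq_of_mul_eq_one_right R.τ2
  have hτnot : ∀ i : ℤ, t0 ^ i ≠ R.τ := by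
    intro i
    rw [ht0, ← map_zpow]; exact R.τφ _
  let D : Subgroup G :=
    { carrier := {x | ∃ i : ℤ, x = t0 ^ i ∨ x = R.τ * t0 ^ i}
      mul_mem' := by
        rintro x y ⟨i, hi⟩ ⟨j, hj⟩
        refine ⟨i + j, ?_⟩
        rcases hi with rfl | rfl <;> rcases hj with rfl | rfl
        · left; rw [_root_.zpow_add]
        · right
          rw [_root_.zpow_add, ← mul_assoc, ← hτt i, mul_assoc]
        · right
          rw [_root_.zpow_add, mul_assoc]
        · left
          calc R.τ * t0 ^ i * (R.τ * t0 ^ j) = R.τ * (t0 ^ i * R.τ) * t0 ^ j := by group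
            _ = (R.τ * R.τ) * (t0 ^ i * t0 ^ j) := by rw [← hτt i]; group
            _ = _ := by rw [R.τ2, one_mul, _root_.zpow_add]
      one_mem' := ⟨0, Or.inl (by simp)⟩
      inv_mem' := by
        rintro x ⟨i, hi⟩
        refine ⟨-i, ?_⟩
        rcases hi with rfl | rfl
        · left; rw [_root_.zpow_neg]
        · right; rw [_root_.mul_inv_rev, hτinv, _root_.zpow_neg, ← _root_.zpow_neg, hτt (-i)] }
  have hDm : ∀ x, x ∈ D ↔ ∃ i : ℤ, x = t0 ^ i ∨ x = R.τ * t0 ^ i := fun x => Iff.rfl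
  refine ⟨D, t0 ^ 2, ?_⟩
  have hcomm : ∀ x ∈ D, ∀ y ∈ D, x * y = y * x := by
    rintro x ⟨i, hi⟩ y ⟨j, hj⟩
    have c1 : Commute R.τ (t0 ^ i) := hτt i
    have c2 : Commute R.τ (t0 ^ j) := hτt j
    have c3 : Commute (t0 ^ i) (t0 ^ j) := ((Commute.refl t0).zpow_left i).zpow_right j
    rcases hi with rfl | rfl <;> rcases hj with rfl | rfl
    · exact c3.eq
    · exact (c1.symm.mul_right c3).eq
    · exact (c2.mul_left c3).eq
    · exact (((Commute.refl R.τ).mul_right c2).mul_left (c1.symm.mul_right c3)).eq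
  refine ⟨?_, ?_, ?_, ?_, ?_, ?_, hcomm, ?_, ?_, ?_⟩
  · have h1 : (D : Set G) = (Subgroup.zpowers t0 : Set G) ∪ (fun x => R.τ * x) '' (Subgroup.zpowers t0 : Set G) := by
      ext x
      constructor
      · rintro ⟨i, rfl | rfl⟩
        · exact Or.inl ⟨i, rfl⟩
        · exact Or.inr ⟨t0 ^ i, ⟨i, rfl⟩, rfl⟩
      · rintro (⟨i, rfl⟩ | ⟨_, ⟨i, rfl⟩, rfl⟩)
        · exact ⟨i, Or.inl rfl⟩
        · exact ⟨i, Or.inr rfl⟩
    have h2 : Disjoint (Subgroup.zpowers t0 : Set G) ((fun x => R.τ * x) '' (Subgroup.zpowers t0 : Set G)) := by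
      rw [Set.disjoint_left]
      rintro _ ⟨i, rfl⟩ ⟨_, ⟨j, rfl⟩, e⟩
      apply hτnot (i - j)
      have e' : R.τ * t0 ^ j = t0 ^ i := e
      rw [_root_.zpow_sub, ← e', mul_inv_cancel_right]
    have h3 : Nat.card D = Set.ncard (D : Set G) := rfl
    have h4 : Set.ncard (Subgroup.zpowers t0 : Set G) = 2 * k := by
      have : Set.ncard (Subgroup.zpowers t0 : Set G) = Nat.card (Subgroup.zpowers t0) := rfl
      rw [this, Nat.card_zpowers, hot]
    rw [h3, h1, Set.ncard_union_eq h2, Set.ncard_image_of_injective _ (mul_right_injective R.τ), h4, hk]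
    ring
  · rw [hoa, hk]; omega
  · exact ⟨2, Or.inl (by norm_cast)⟩
  · exact ⟨0, Or.inr (by simp)⟩
  · exact ⟨k, Or.inl (by rw [hn]; norm_cast)⟩
  · have key : ∀ i : ℤ, ∃ e, (e = 1 ∨ e = R.n) ∧ ∃ j : ℤ, t0 ^ i = e * (t0 ^ 2) ^ j := by
      intro i
      rcases Int.even_or_odd' i with ⟨c, hc | hc⟩
      · refine ⟨1, Or.inl rfl, c, ?_⟩
        rw [hc, _root_.zpow_mul, one_mul]; norm_cast
      · obtain ⟨d, hd⟩ : ∃ d : ℤ, (k : ℤ) = 2 * d + 1 := ⟨k / 2, by omega⟩
        refine ⟨R.n, Or.inr rfl, c - d, ?_⟩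
        rw [hn, ← zpow_natCast, ← zpow_natCast, ← _root_.zpow_mul, ← _root_.zpow_add]
        congr 1
        rw [hc, hd]; push_cast; ring
    rintro x ⟨i, rfl | rfl⟩
    · obtain ⟨e, he, j, hj⟩ := key i
      refine ⟨e, ?_, j, hj⟩
      rcases he with h | h
      · exact Or.inl h
      · exact Or.inr (Or.inr (Or.inl h))
    · obtain ⟨e, he, j, hj⟩ := key i
      refine ⟨R.τ * e, ?_, j, by rw [hj, mul_assoc]⟩
      rcases he with h | h
      · right; left; rw [h, mul_one]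
      · right; right; right; rw [h]
  · exact ⟨A1 ^ 2, by rw [map_pow]⟩
  · rintro x ⟨i, hxi⟩ hx1 y hyx hyτ
    have hxi : (t0 ^ 2) ^ i = x := hxi
    subst hxi
    have hx : (t0 ^ 2) ^ i = R.φ (A1 ^ (2 * i)) := by
      rw [map_zpow, _root_.zpow_mul]; norm_cast
    have hA : A1 ^ (2 * i) * ww = ww * A1 ^ (2 * i) := hTpow _
    obtain ⟨B, hB⟩ := (R.cen y).1 hyτ.symm
    have hBx : R.φ B * (t0 ^ 2) ^ i = (t0 ^ 2) ^ i * R.φ B := by
      rcases hB with h | h
      · rw [← h]; exact hyx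
      · have h5 : R.φ B = R.τ * y := by rw [h, ← mul_assoc, R.τ2, one_mul]
        have c1 : Commute R.τ ((t0 ^ 2) ^ i) := by
          rw [hx]; exact R.τcen _
        rw [h5]
        exact (c1.mul_left hyx).eq
    have hyB : R.φ B ∈ D → y ∈ D := by
      intro h
      rcases hB with h' | h'
      · rw [h']; exact h
      · rw [h']; exact D.mul_mem ⟨0, Or.inr (by simp)⟩ h
    apply hyB
    rw [hx, ← map_mul, ← map_mul, R.φ_eq] at hBx
    rcases hBx with h | h
    · have hb : (A1 ^ (2 * i)) 0 1 ≠ 0 := by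
        intro h0
        apply hx1
        rw [hx, R.ker']
        apply hsq1 _ hA
        obtain ⟨g1, g2⟩ := mem_T.1 hA
        have hd := det2 (A1 ^ (2 * i))
        rw [g1, g2, h0] at hd
        apply ext2
        · rw [m00, h0, g2, h0]; simp; linear_combination hd
        · rw [m01, h0]; simp
        · rw [m10, g2, h0]; simp
        · rw [m11, g1, g2, h0]; simp; linear_combination hd
      have hBT := T_cent hA hb h.symm
      obtain ⟨j, hj⟩ := hgen' B hBT
      rw [hj, map_zpow]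
      exact ⟨j, Or.inl rfl⟩
    · exfalso
      have h0 := T_anti R.two_ne hA (A := A1 ^ (2 * i)) (B := B) (by
        rw [h, neg_neg])
      obtain ⟨g1, g2⟩ := mem_T.1 hA
      have hd := det2 (A1 ^ (2 * i))
      rw [g1, g2, h0] at hd
      have hAA : A1 ^ (2 * i) * A1 ^ (2 * i) = -1 := by
        apply ext2
        · rw [m00, h0, g2]; simp; linear_combination hd
        · rw [m01, g1, h0]; simp
        · rw [m10, g1, h0]; simp
        · rw [m11, g1, g2, h0]; simp; linear_combination hd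
      have hxx : (t0 ^ 2) ^ i * (t0 ^ 2) ^ i = 1 := by
        rw [hx, ← map_mul, hAA, R.ker']; exact Or.inr rfl
      apply hx1
      have hxk : ((t0 ^ 2) ^ i) ^ k = 1 := by
        rw [← zpow_natCast, ← _root_.zpow_mul, mul_comm, _root_.zpow_mul, zpow_natCast, ← hoa, pow_orderOf_eq_one, _root_.one_zpow]
      obtain ⟨d, hd⟩ : ∃ d, k = 2 * d + 1 := ⟨k / 2, by omega⟩
      rw [hd, pow_succ, pow_mul, pow_two, hxx, one_pow, one_mul] at hxk
      exact hxk
  · have h1 : t0 * R.z * t0 = R.z := by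
      unfold RG.z
      rw [ht0, ← map_mul, ← map_mul]
      congr 1
      obtain ⟨g1, g2⟩ := mem_T.1 hA1'
      have hd := det2 A1
      rw [g1, g2] at hd
      apply ext2 <;> simp only [m00, m01, m10, m11, j00, j01, j10, j11]
      · linear_combination hd + (A1 0 0 - A1 0 1) * g2
      · linear_combination hd + (A1 0 0 - A1 0 1) * g1
      · linear_combination hd + (A1 0 0 + A1 1 0 - A1 0 1 - A1 1 1) * g2 + (A1 0 0 + A1 0 1) * g1
      · linear_combination -hd + (A1 0 1 + A1 1 1) * g2 - (A1 1 1 + A1 0 0) * g1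
    have h2 : R.z * t0 * R.z⁻¹ = t0⁻¹ := by
      rw [mul_inv_eq_iff_eq_mul, eq_inv_mul_iff_mul_eq, ← mul_assoc]
      exact h1
    calc R.z * t0 ^ 2 * R.z⁻¹ = (R.z * t0 * R.z⁻¹) * (R.z * t0 * R.z⁻¹) := by rw [pow_two]; group
      _ = _ := by rw [h2, pow_two]; group

end CfsgLib.ReeA
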