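import Cfsg.Agent.LibRee11

set_option autoImplicit false
set_option linter.unusedSectionVars false
set_option linter.unusedVariables false
set_option linter.unusedSimpArgs false

/-! Groups of Ree type: 3-elements, the centraliser of elements of the torus of order q + 1 -/

namespace CfsgLib.ReeA

open Matrix CfsgLib.Chev CfsgLib.Rank1 CfsgLib.SL2P

variable {G : Type*} [Group G] [Finite G] {K : Type*} [Field K] [Fintype K] {m : ℕ} (R : RG G K m)

theorem RG.ni : R.n⁻¹ = R.n := inv_eq_of_mul_eq_one_right R.n2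
theorem RG.τi : R.τ⁻¹ = R.τ := inv_eq_of_mul_eq_one_right R.τ2

theorem RG.Bnorm {b u : G} (hb : b ∈ R.B) (hu : u ∈ R.U) : b * u * b⁻¹ ∈ R.U := by
  obtain ⟨v, hv, h, hh, rfl⟩ := R.BUH b hb
  have : v * h * u * (v * h)⁻¹ = v * (h * u * h⁻¹) * v⁻¹ := by group
  rw [this]
  exact Subgroup.mul_mem _ (Subgroup.mul_mem _ hv (R.S.HU h hh u hu)) (Subgroup.inv_mem _ hv)

theorem RG.U_TI {u g : G} (hu : u ∈ R.U) (hu1 : u ≠ 1) (hg : g * u * g⁻¹ ∈ R.U) : g ∈ R.B := by
  by_contra hB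
  obtain ⟨v, hv, b, hb, rfl⟩ := R.S.cell g hB
  have h1 := R.Bnorm hb hu
  have h2 : R.n * (b * u * b⁻¹) * R.n ∈ R.U := by
    have : R.n * (b * u * b⁻¹) * R.n = v⁻¹ * (v * R.n * b * u * (v * R.n * b)⁻¹) * v := by
      nth_rewrite 2 [← R.ni]; group
    rw [this]
    exact Subgroup.mul_mem _ (Subgroup.mul_mem _ (Subgroup.inv_mem _ hv) hg) hv
  have h3 : b * u * b⁻¹ ∈ R.H := by
    apply R.S.BB _ (R.S.UB h1)
    rw [R.ni]; exact R.S.UB h2
  have h4 : b * u * b⁻¹ ∈ R.U ⊓ R.H := ⟨h1, h3⟩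
  rw [R.S.UH, Subgroup.mem_bot] at h4
  apply hu1
  have : u = b⁻¹ * (b * u * b⁻¹) * b := by group
  rw [this, h4]; group

theorem RG.cent_U {u x : G} (hu : u ∈ R.U) (hu1 : u ≠ 1) (h : x * u = u * x) : x ∈ R.B := by
  apply R.U_TI hu hu1
  rw [h]; simpa using hu

theorem RG.card_B : Nat.card R.B = (3 ^ (2 * m + 1)) ^ 3 * (3 ^ (2 * m + 1) - 1) := by
  have e : Nat.card (R.U × R.H) = Nat.card R.B := by
    refine Nat.card_eq_of_bijective (fun p => ⟨p.1 * p.2, Subgroup.mul_mem _ (R.S.UB p.1.2) (R.S.HB p.2.2)⟩) ⟨?_, ?_⟩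
    · rintro ⟨u, h⟩ ⟨u', h'⟩ e
      obtain ⟨e1, e2⟩ := R.UH_split u.2 u'.2 h.2 h'.2 (congrArg Subtype.val e)
      exact Prod.ext (Subtype.ext e1) (Subtype.ext e2)
    · rintro ⟨b, hb⟩
      obtain ⟨u, hu, h, hh, e⟩ := R.BUH b hb
      exact ⟨(⟨u, hu⟩, ⟨h, hh⟩), Subtype.ext e.symm⟩
  rw [← e, Nat.card_prod, R.cU, R.cH]

theorem not3 (m : ℕ) : ¬ 3 ∣ (3 ^ (2 * m + 1) - 1) * ((3 ^ (2 * m + 1)) ^ 3 + 1) := by
  intro h
  have h3 : 3 ^ (2 * m + 1) = 3 * 3 ^ (2 * m) := by rw [pow_succ]; ring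
  have hp : 1 ≤ 3 ^ (2 * m) := Nat.one_le_pow _ _ (by norm_num)
  rcases (Nat.Prime.dvd_mul Nat.prime_three).1 h with h | h
  · rw [h3] at h; omega
  · have : (3 ^ (2 * m + 1)) ^ 3 = 3 * (3 ^ (2 * m) * (3 ^ (2 * m + 1)) ^ 2) := by rw [pow_succ 3 (2 * m)]; ring
    omega

theorem RG.into_U {x : G} (hx : ∃ k, orderOf x = 3 ^ k) : ∃ g : G, g * x * g⁻¹ ∈ R.U := by
  apply conj_into_elt Nat.prime_three R.U _ hx
  intro hi
  have h1 := Subgroup.card_mul_index R.U
  rw [R.cU, R.cG] at h1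
  have hq : 0 < (3 ^ (2 * m + 1)) ^ 3 := by positivity
  have h3 : R.U.index = (3 ^ (2 * m + 1) - 1) * ((3 ^ (2 * m + 1)) ^ 3 + 1) := by
    apply Nat.eq_of_mul_eq_mul_left hq
    rw [h1]; ring
  rw [h3] at hi
  exact not3 m hi

include R in
/-- elements commuting with a nontrivial 3-element -/
theorem RG.comm3 {u x : G} (hu : ∃ k, orderOf u = 3 ^ k) (hu1 : u ≠ 1) (h : x * u = u * x) {s : ℕ} (hs : s.Prime) (hs3 : s ≠ 3)
    (hsx : s ∣ orderOf x) : s ∣ 3 ^ (2 * m + 1) - 1 := by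
  obtain ⟨g, hg⟩ := R.into_U hu
  have h1 : g * x * g⁻¹ ∈ R.B := by
    apply R.cent_U hg
    · intro e; apply hu1
      have : u = g⁻¹ * (g * u * g⁻¹) * g := by group
      rw [this, e]; group
    · calc g * x * g⁻¹ * (g * u * g⁻¹) = g * (x * u) * g⁻¹ := by group
        _ = _ := by rw [h]; group
  have h2 : orderOf (g * x * g⁻¹) ∣ Nat.card R.B := by
    have := orderOf_dvd_natCard (⟨_, h1⟩ : R.B)
    rwa [← Subgroup.orderOf_coe] at this
  have h3 : orderOf (g * x * g⁻¹) = orderOf x := CfsgLib.TransFus.orderOf_conj g x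
  rw [h3, R.card_B] at h2
  rcases (Nat.Prime.dvd_mul hs).1 (hsx.trans h2) with h4 | h4
  · exfalso
    have h5 := hs.dvd_of_dvd_pow (hs.dvd_of_dvd_pow h4)
    exact hs3 ((Nat.prime_dvd_prime_iff_eq hs Nat.prime_three).1 h5)
  · exact h4

theorem RG.card_range : 2 * Nat.card R.φ.range = 3 ^ (2 * m + 1) * ((3 ^ (2 * m + 1) - 1) * (3 ^ (2 * m + 1) + 1)) := by
  have h1 := Cfsg.Agent.H22.card_SL2 (F := K)
  rw [R.hK] at h1
  have h2 := Subgroup.card_mul_index R.φ.ker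
  rw [Subgroup.index_ker, h1] at h2
  have h3 : Nat.card R.φ.ker = 2 := by
    have h4 : (R.φ.ker : Set (Matrix.SpecialLinearGroup (Fin 2) K)) = {1, -1} := by
      ext A
      rw [SetLike.mem_coe, MonoidHom.mem_ker, R.ker']; simp
    have h5 : Nat.card R.φ.ker = Set.ncard (R.φ.ker : Set (Matrix.SpecialLinearGroup (Fin 2) K)) := rfl
    rw [h5, h4, Set.ncard_pair]
    intro h
    have := congrArg (fun A : Matrix.SpecialLinearGroup (Fin 2) K => A 0 0) h
    exact R.one_ne_neg (by simpa using this)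
  rw [h3] at h2
  exact h2

theorem RG.card_Cτ : Nat.card ↥(Subgroup.centralizer {R.τ}) = 3 ^ (2 * m + 1) * ((3 ^ (2 * m + 1) - 1) * (3 ^ (2 * m + 1) + 1)) := by
  have h1 : (Subgroup.centralizer {R.τ} : Set G) = (R.φ.range : Set G) ∪ (fun x => R.τ * x) '' (R.φ.range : Set G) := by
    ext x
    rw [SetLike.mem_coe, Subgroup.mem_centralizer_singleton_iff]
    constructor
    · intro h
      obtain ⟨A, hA | hA⟩ := (R.cen x).1 h.symm
      · exact Or.inl ⟨A, hA.symm⟩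
      · exact Or.inr ⟨_, ⟨A, rfl⟩, hA.symm⟩
    · rintro (⟨A, rfl⟩ | ⟨_, ⟨A, rfl⟩, rfl⟩)
      · exact (R.τcen A).symm
      · exact ((R.cen _).2 ⟨A, Or.inr rfl⟩).symm
  have h2 : Disjoint (R.φ.range : Set G) ((fun x => R.τ * x) '' (R.φ.range : Set G)) := by
    rw [Set.disjoint_left]
    rintro _ ⟨A, rfl⟩ ⟨_, ⟨B, rfl⟩, e⟩
    apply R.τφ (A * B⁻¹)
    have e' : R.τ * R.φ B = R.φ A := e
    rw [map_mul, map_inv, ← e']; group
  have h3 : Nat.card ↥(Subgroup.centralizer {R.τ}) = Set.ncard (Subgroup.centralizer {R.τ} : Set G) := rfl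
  have h4 : Set.ncard (R.φ.range : Set G) = Nat.card R.φ.range := rfl
  rw [h3, h1, Set.ncard_union_eq h2, Set.ncard_image_of_injective _ (mul_right_injective R.τ), h4, ← R.card_range]
  ring

theorem RG.TD.le_Cτ {D : Subgroup G} {a : G} (h : R.TD D a) : D ≤ Subgroup.centralizer {R.τ} := by
  intro x hx
  rw [Subgroup.mem_centralizer_singleton_iff]
  exact h.comm x hx _ h.τm

theorem RG.TD.relIndex {D : Subgroup G} {a : G} (h : R.TD D a) : D.relIndex (Subgroup.centralizer {R.τ}) = 3 ^ (2 * m + 1) * (3 ^ (2 * m + 1) - 1) := by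
  have h1 := Subgroup.card_mul_index (D.subgroupOf (Subgroup.centralizer {R.τ}))
  rw [Nat.card_congr (Subgroup.subgroupOfEquivOfLe (h.le_Cτ R)).toEquiv, h.cD, R.card_Cτ] at h1
  have hq : 0 < 3 ^ (2 * m + 1) + 1 := by positivity
  apply Nat.eq_of_mul_eq_mul_left hq
  rw [Subgroup.relIndex, h1]; ring

/-- odd order elements of D -/
theorem RG.TD.odd {D : Subgroup G} {a : G} (h : R.TD D a) {x : G} (hx : x ∈ D) (ho : Odd (orderOf x)) : x ∈ Subgroup.zpowers a := by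
  obtain ⟨e, he, i, hi⟩ := h.el x hx
  have heD : e ∈ D := by
    rcases he with rfl | rfl | rfl | rfl
    · exact D.one_mem
    · exact h.τm
    · exact h.nm
    · exact D.mul_mem h.τm h.nm
  have hee : e * e = 1 := by
    rcases he with rfl | rfl | rfl | rfl
    · simp
    · exact R.τ2
    · exact R.n2
    · calc R.τ * R.n * (R.τ * R.n) = R.τ * (R.n * R.τ) * R.n := by group
        _ = (R.τ * R.τ) * (R.n * R.n) := by rw [h.comm _ h.nm _ h.τm]; group
        _ = 1 := by rw [R.τ2, R.n2, one_mul]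
  obtain ⟨k, hk⟩ := ho
  have h1 : x * x = a ^ (i + i) := by
    have hc : Commute e (a ^ i) := (show Commute e a from h.comm _ heD _ h.am).zpow_right i
    rw [hi]
    calc e * a ^ i * (e * a ^ i) = e * (a ^ i * e) * a ^ i := by group
      _ = (e * e) * (a ^ i * a ^ i) := by rw [← hc.eq]; group
      _ = _ := by rw [hee, one_mul, _root_.zpow_add]
  have h2 : x = (x * x) ^ (k + 1) := by
    calc x = x ^ (2 * k + 1) * x := by rw [← hk, pow_orderOf_eq_one, one_mul]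
      _ = (x * x) ^ (k + 1) := by rw [← pow_two, ← pow_mul, ← pow_succ]; congr 1
  rw [h2, h1]
  exact Subgroup.pow_mem _ (Subgroup.mem_zpowers_iff.2 ⟨i + i, rfl⟩) _

theorem RG.TD.inv_el {D : Subgroup G} {a : G} (h : R.TD D a) {x : G} (hx : x ∈ D) (ho : x * x = 1) : x = 1 ∨ x = R.τ ∨ x = R.n ∨ x = R.τ * R.n := by
  obtain ⟨e, he, i, hi⟩ := h.el x hx
  have heD : e ∈ D := by
    rcases he with rfl | rfl | rfl | rfl
    · exact D.one_mem
    · exact h.τm
    · exact h.nm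
    · exact D.mul_mem h.τm h.nm
  have hee : e * e = 1 := by
    rcases he with rfl | rfl | rfl | rfl
    · simp
    · exact R.τ2
    · exact R.n2
    · calc R.τ * R.n * (R.τ * R.n) = R.τ * (R.n * R.τ) * R.n := by group
        _ = (R.τ * R.τ) * (R.n * R.n) := by rw [h.comm _ h.nm _ h.τm]; group
        _ = 1 := by rw [R.τ2, R.n2, one_mul]
  have h1 : x * x = a ^ (i + i) := by
    have hc : Commute e (a ^ i) := (show Commute e a from h.comm _ heD _ h.am).zpow_right i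
    rw [hi]
    calc e * a ^ i * (e * a ^ i) = e * (a ^ i * e) * a ^ i := by group
      _ = (e * e) * (a ^ i * a ^ i) := by rw [← hc.eq]; group
      _ = _ := by rw [hee, one_mul, _root_.zpow_add]
  rw [ho] at h1
  have h2 : a ^ i = 1 := by
    rw [← orderOf_dvd_iff_zpow_eq_one]
    have h3 : (orderOf a : ℤ) ∣ i + i := orderOf_dvd_iff_zpow_eq_one.2 h1.symm
    have h4 : Int.gcd (orderOf a) 2 = 1 := by
      have : orderOf a % 2 = 1 := by
        rw [h.oa]; have := hmod8 m; omega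
      show Int.gcd ((orderOf a : ℕ) : ℤ) ((2 : ℕ) : ℤ) = 1
      rw [Int.gcd_natCast_natCast]
      exact Nat.coprime_two_right.2 (Nat.odd_iff.2 this)
    have h5 : (orderOf a : ℤ) ∣ 2 * i := by rw [two_mul]; exact h3
    exact Int.dvd_of_dvd_mul_right_of_gcd_one h5 h4
  rw [hi, h2, mul_one]
  exact he

theorem RG.TD.zodd {D : Subgroup G} {a : G} (h : R.TD D a) : Odd (orderOf a) := by
  rw [Nat.odd_iff, h.oa]; have := hmod8 m; omega

theorem RG.TD.zD {D : Subgroup G} {a : G} (h : R.TD D a) {x : G} (hx : x ∈ Subgroup.zpowers a) : x ∈ D :=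
  (Subgroup.zpowers_le.2 h.am) hx

/-- centralisers of involutions in centralisers of torus elements -/
theorem RG.TD.cent_e (hperf : commutator G = ⊤) {D : Subgroup G} {a : G} (h : R.TD D a) {x : G} (hx : x ∈ Subgroup.zpowers a) (hx1 : x ≠ 1)
    {e : G} (heD : e ∈ D) (he1 : e ≠ 1) (he2 : e * e = 1) {y : G} (hy : y * x = x * y) (hye : y * e = e * y) : y ∈ D := by
  obtain ⟨g, hg⟩ := R.inv_conj hperf he1 he2
  have hox : orderOf x ≠ 1 := fun h => hx1 (orderOf_eq_one_iff.1 h)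
  obtain ⟨s, hs, hsd⟩ := Nat.exists_prime_and_dvd hox
  obtain ⟨j, hj⟩ := hsd
  have hoxa : orderOf x ∣ orderOf a := orderOf_dvd_of_mem_zpowers hx
  set x1 := x ^ j with hx1d
  have hj0 : j ≠ 0 := by
    rintro rfl
    rw [mul_zero] at hj
    exact (orderOf_pos x).ne' hj
  have hox1 : orderOf x1 = s := by
    rw [hx1d, orderOf_pow' x hj0, hj, Nat.gcd_eq_right ⟨s, by ring⟩, Nat.mul_div_cancel _ (Nat.pos_of_ne_zero hj0)]
  have hxe : x * e = e * x := h.comm _ (h.zD R hx) _ heD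
  have hx1e : Commute x1 e := (show Commute x e from hxe).pow_left j
  set x2 := g⁻¹ * x1 * g with hx2
  have hx2τ : x2 * R.τ = R.τ * x2 := by
    rw [← hg] at hx1e
    calc g⁻¹ * x1 * g * R.τ = g⁻¹ * (x1 * (g * R.τ * g⁻¹)) * g := by group
      _ = R.τ * (g⁻¹ * x1 * g) := by rw [hx1e.eq]; group
  have hox2 : orderOf x2 = s := by
    rw [← hox1, hx2]
    have := CfsgLib.TransFus.orderOf_conj g⁻¹ x1
    rwa [inv_inv] at this
  have hsa : s ∣ (3 ^ (2 * m + 1) + 1) / 4 := by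
    rw [← h.oa]; exact (Dvd.intro j hj.symm).trans hoxa
  have hsodd : s ≠ 2 := by
    rintro rfl
    have := h.zodd R
    rw [h.oa] at this
    exact absurd (even_iff_two_dvd.2 hsa) (Nat.not_even_iff_odd.2 this)
  have hidx : ¬ s ∣ D.relIndex (Subgroup.centralizer {R.τ}) := by
    rw [h.relIndex R]
    intro hd
    have h4 : 4 * ((3 ^ (2 * m + 1) + 1) / 4) = 3 ^ (2 * m + 1) + 1 := by have := hmod8 m; omega
    have hsq : s ∣ 3 ^ (2 * m + 1) + 1 := by rw [← h4]; exact hsa.mul_left 4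
    rcases (Nat.Prime.dvd_mul hs).1 hd with h5 | h5
    · have := (Nat.dvd_add_right h5).1 hsq
      exact hs.one_lt.ne' (Nat.dvd_one.1 this)
    · have h6 := Nat.dvd_sub hsq h5
      have : 3 ^ (2 * m + 1) + 1 - (3 ^ (2 * m + 1) - 1) = 2 := by
        have : 1 ≤ 3 ^ (2 * m + 1) := Nat.one_le_pow _ _ (by norm_num)
        omega
      rw [this] at h6
      exact hsodd ((Nat.prime_dvd_prime_iff_eq hs Nat.prime_two).1 h6)
  obtain ⟨c, hc, hcD⟩ := conj_into_sub hs _ D (h.le_Cτ R) hidx (x := x2) (Subgroup.mem_centralizer_singleton_iff.2 hx2τ) ⟨1, by rw [hox2, pow_one]⟩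
  rw [Subgroup.mem_centralizer_singleton_iff] at hc
  have hcz : c * x2 * c⁻¹ ∈ Subgroup.zpowers a := by
    apply h.odd R hcD
    rw [CfsgLib.TransFus.orderOf_conj c x2, hox2]
    exact hs.odd_of_ne_two hsodd
  have hc1 : c * x2 * c⁻¹ ≠ 1 := by
    intro h0
    have h1 := CfsgLib.TransFus.orderOf_conj c x2
    rw [h0, orderOf_one, hox2] at h1
    exact hs.one_lt.ne h1
  -- the conjugation map
  set k := c * g⁻¹ with hk
  have hmap : ∀ w : G, w * x = x * w → w * e = e * w → k * w * k⁻¹ ∈ D := by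
    intro w hw hwe
    apply h.cen _ hcz hc1
    · have hw1 : Commute w x1 := (show Commute w x from hw).pow_right j
      have e1 : c * x2 * c⁻¹ = k * x1 * k⁻¹ := by rw [hk, hx2]; group
      rw [e1]
      calc k * w * k⁻¹ * (k * x1 * k⁻¹) = k * (w * x1) * k⁻¹ := by group
        _ = _ := by rw [hw1.eq]; group
    · have e1 : R.τ = k * e * k⁻¹ := by
        rw [hk, ← hg]
        calc R.τ = (c * R.τ) * c⁻¹ := by rw [hc]; group
          _ = _ := by group
      rw [e1]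
      calc k * w * k⁻¹ * (k * e * k⁻¹) = k * (w * e) * k⁻¹ := by group
        _ = _ := by rw [hwe]; group
  -- D ⊆ C(x) ∩ C(e), whose conjugate is in D
  have hfin : D.map (MulAut.conj k).toMonoidHom = D := by
    apply Subgroup.eq_of_le_of_card_ge
    · rintro _ ⟨w, hw, rfl⟩
      exact hmap w (h.comm _ hw _ (h.zD R hx)) (h.comm _ hw _ heD)
    · rw [Nat.card_congr (Subgroup.equivMapOfInjective D _ (MulAut.conj k).injective).toEquiv.symm]
  have hy' := hmap y hy hye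
  rw [← hfin] at hy'
  obtain ⟨w, hw, e'⟩ := hy'
  have e'' : k * w * k⁻¹ = k * y * k⁻¹ := e'
  have : w = y := mul_left_cancel (mul_right_cancel e'')
  rw [← this]; exact hw

end CfsgLib.ReeA
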