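import Cfsg.Agent.LibRee12

set_option autoImplicit false
set_option linter.unusedSectionVars false
set_option linter.unusedVariables false
set_option linter.unusedSimpArgs false

/-! Groups of Ree type: the centraliser of elements of the torus of order q + 1 -/

namespace CfsgLib.ReeA

open Matrix CfsgLib.Chev CfsgLib.Rank1 CfsgLib.SL2P

section general
variable {G : Type*} [Group G] [Finite G]

/-- a normal complement of a four-group -/
theorem four_compl {t n : G} (htn : t * n = n * t) (ht : t * t = 1) (hn : n * n = 1)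
    (h1 : ∀ Q : Sylow 2 G, t ∈ Q → n ∈ Q → ∀ x ∈ Q, x = 1 ∨ x = t ∨ x = n ∨ x = t * n)
    (h2 : ∀ g : G, (g * t * g⁻¹ = t ∨ g * t * g⁻¹ = n ∨ g * t * g⁻¹ = t * n) → (g * n * g⁻¹ = t ∨ g * n * g⁻¹ = n ∨ g * n * g⁻¹ = t * n) →
      g * t = t * g ∧ g * n = n * g) (ht1 : t ≠ 1) (hn1 : n ≠ 1) :
    ∃ N : Subgroup G, N.Normal ∧ Odd (Nat.card N) ∧ ∀ g : G, ∃ x ∈ N, g = x ∨ g = x * t ∨ g = x * n ∨ g = x * (t * n) := by
  have : Fact (Nat.Prime 2) := ⟨Nat.prime_two⟩
  let E : Subgroup G :=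
    { carrier := {1, t, n, t * n}
      mul_mem' := by
        have e1 : t * (t * n) = n := by rw [← mul_assoc, ht, one_mul]
        have e2 : n * t = t * n := htn.symm
        have e3 : n * (t * n) = t := by rw [htn, ← mul_assoc, hn, one_mul]
        have e4 : t * n * t = n := by rw [htn, mul_assoc, ht, mul_one]
        have e5 : t * n * n = t := by rw [mul_assoc, hn, mul_one]
        have e6 : t * n * (t * n) = 1 := by rw [← mul_assoc, e4, hn]
        rintro a b (rfl | rfl | rfl | rfl) (rfl | rfl | rfl | rfl) <;> simp [e1, e2, e3, e4, e5, e6, ht, hn]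
      one_mem' := by simp
      inv_mem' := by
        have ti : t⁻¹ = t := inv_eq_of_mul_eq_one_right ht
        have ni : n⁻¹ = n := inv_eq_of_mul_eq_one_right hn
        rintro a (rfl | rfl | rfl | rfl)
        · simp
        · simp [ti]
        · simp [ni]
        · simp [ti, ni, htn] }
  have hE2 : IsPGroup 2 E := by
    rintro ⟨a, ha⟩
    refine ⟨1, Subtype.ext ?_⟩
    show a ^ (2 ^ 1) = 1
    rw [pow_one, pow_two]
    rcases ha with rfl | rfl | rfl | rfl
    · simp
    · exact ht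
    · exact hn
    · calc t * n * (t * n) = (t * n) * (n * t) := by rw [htn]
        _ = t * (n * n) * t := by group
        _ = 1 := by rw [hn, mul_one, ht]
  obtain ⟨Q, hQ⟩ := hE2.exists_le_sylow
  have htQ : t ∈ Q := hQ (show t ∈ ({1, t, n, t * n} : Set G) by simp)
  have hnQ : n ∈ Q := hQ (show n ∈ ({1, t, n, t * n} : Set G) by simp)
  have hel := h1 Q htQ hnQ
  have hconj1 : ∀ g y : G, g * y * g⁻¹ = 1 → y = 1 := by
    intro g y h
    have : y = g⁻¹ * (g * y * g⁻¹) * g := by group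
    rw [this, h]; group
  have hP : Subgroup.normalizer ((Q : Subgroup G) : Set G) ≤ Subgroup.centralizer ((Q : Subgroup G) : Set G) := by
    intro g hg
    have k1 : g * t * g⁻¹ ∈ (Q : Subgroup G) := (Subgroup.mem_normalizer_iff.1 hg t).1 htQ
    have k2 : g * n * g⁻¹ ∈ (Q : Subgroup G) := (Subgroup.mem_normalizer_iff.1 hg n).1 hnQ
    obtain ⟨e1, e2⟩ := h2 g ((hel _ k1).resolve_left (fun h => ht1 (hconj1 _ _ h))) ((hel _ k2).resolve_left (fun h => hn1 (hconj1 _ _ h)))
    rw [Subgroup.mem_centralizer_iff]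
    intro x hx
    rcases hel x hx with rfl | rfl | rfl | rfl
    · simp
    · exact e1.symm
    · exact e2.symm
    · calc t * n * g = t * (n * g) := by group
        _ = (t * g) * n := by rw [← e2]; group
        _ = _ := by rw [← e1]; group
  refine ⟨(MonoidHom.transferSylow Q hP).ker, inferInstance, ?_, ?_⟩
  · have := MonoidHom.not_dvd_card_ker_transferSylow Q hP
    rw [← Nat.not_even_iff_odd, even_iff_two_dvd]; exact this
  · intro g
    have h := MonoidHom.ker_transferSylow_isComplement' Q hP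
    obtain ⟨⟨x, y⟩, hxy⟩ := h.surjective g
    have hxy' : (x : G) * (y : G) = g := hxy
    refine ⟨x, x.2, ?_⟩
    rw [← hxy']
    rcases hel y y.2 with e | e | e | e <;> rw [e]
    · left; simp
    · right; left; rfl
    · right; right; left; rfl
    · right; right; right; rfl

end general

variable {G : Type*} [Group G] [Finite G] {K : Type*} [Field K] [Fintype K] {m : ℕ} (R : RG G K m)

theorem RG.τn1 : R.τ * R.n ≠ 1 := by
  intro h
  apply R.τφ ww
  rw [R.hw, mul_eq_one_iff_eq_inv.1 h, R.ni]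

theorem RG.τn : R.τ * R.n = R.n * R.τ := by
  rw [← R.hw]; exact R.τcen _

theorem RG.τn2 : (R.τ * R.n) * (R.τ * R.n) = 1 := by
  calc R.τ * R.n * (R.τ * R.n) = R.τ * (R.n * R.τ) * R.n := by group
    _ = (R.τ * R.τ) * (R.n * R.n) := by rw [← R.τn]; group
    _ = 1 := by rw [R.τ2, R.n2, one_mul]

include R in
/-- two-elements of G commuting... -/
theorem RG.two_elt (Q : Subgroup G) (hQ : IsPGroup 2 Q) : (∀ x ∈ Q, x * x = 1) ∧ ∀ x ∈ Q, ∀ y ∈ Q, x * y = y * x := by
  obtain ⟨S, hS⟩ := hQ.exists_le_sylow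
  have h := (R.syl2 S).2
  have h1 : ∀ x ∈ Q, x * x = 1 := fun x hx => h x (hS hx)
  refine ⟨h1, fun x hx y hy => ?_⟩
  have e1 := h1 _ (Subgroup.mul_mem _ hx hy)
  have e2 := h1 _ hx
  have e3 := h1 _ hy
  calc x * y = x * (x * y * (x * y)) * y := by rw [e1, mul_one]
    _ = (x * x) * (y * x) * (y * y) := by group
    _ = y * x := by rw [e2, e3]; group

theorem RG.TD.cent_D (hperf : commutator G = ⊤) {D : Subgroup G} {a : G} (h : R.TD D a) {x : G} (hx : x ∈ Subgroup.zpowers a) (hx1 : x ≠ 1) :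
    Subgroup.centralizer {x} = D := by
  have hDC : D ≤ Subgroup.centralizer {x} := by
    intro y hy
    rw [Subgroup.mem_centralizer_singleton_iff]
    exact h.comm _ hy _ (h.zD R hx)
  apply le_antisymm _ hDC
  set C := Subgroup.centralizer {x} with hC
  have hmC : ∀ y ∈ C, y * x = x * y := fun y hy => Subgroup.mem_centralizer_singleton_iff.1 hy
  -- prime divisor
  have hox : orderOf x ≠ 1 := fun h => hx1 (orderOf_eq_one_iff.1 h)
  obtain ⟨s, hs, hsd⟩ := Nat.exists_prime_and_dvd hox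
  have hsa : s ∣ (3 ^ (2 * m + 1) + 1) / 4 := by
    rw [← h.oa]; exact hsd.trans (orderOf_dvd_of_mem_zpowers hx)
  have hs2 : s ≠ 2 := by
    rintro rfl
    have := h.zodd R
    rw [h.oa] at this
    exact absurd (even_iff_two_dvd.2 hsa) (Nat.not_even_iff_odd.2 this)
  have h4 : 4 * ((3 ^ (2 * m + 1) + 1) / 4) = 3 ^ (2 * m + 1) + 1 := by have := hmod8 m; omega
  have hsq : s ∣ 3 ^ (2 * m + 1) + 1 := by rw [← h4]; exact hsa.mul_left 4
  have hs3 : s ≠ 3 := by
    rintro rfl
    have h5 : 3 ∣ 3 ^ (2 * m + 1) := dvd_pow_self 3 (by omega)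
    have := (Nat.dvd_add_right h5).1 hsq
    omega
  have hsq1 : ¬ s ∣ 3 ^ (2 * m + 1) - 1 := by
    intro h5
    have h6 := Nat.dvd_sub hsq h5
    have : 3 ^ (2 * m + 1) + 1 - (3 ^ (2 * m + 1) - 1) = 2 := by
      have : 1 ≤ 3 ^ (2 * m + 1) := Nat.one_le_pow _ _ (by norm_num)
      omega
    rw [this] at h6
    exact hs2 ((Nat.prime_dvd_prime_iff_eq hs Nat.prime_two).1 h6)
  have hτC : R.τ ∈ C := hDC h.τm
  have hnC : R.n ∈ C := hDC h.nm
  have ceτ : ∀ y ∈ C, y * R.τ = R.τ * y → y ∈ D := fun y hy h' => h.cent_e R hperf hx hx1 h.τm R.τ1 R.τ2 (hmC y hy) h'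
  have cen : ∀ y ∈ C, y * R.n = R.n * y → y ∈ D := fun y hy h' => h.cent_e R hperf hx hx1 h.nm R.n1 R.n2 (hmC y hy) h'
  have ceτn : ∀ y ∈ C, y * (R.τ * R.n) = (R.τ * R.n) * y → y ∈ D :=
    fun y hy h' => h.cent_e R hperf hx hx1 (D.mul_mem h.τm h.nm) R.τn1 R.τn2 (hmC y hy) h'
  -- three cycles
  have h3cyc : ∀ g ∈ C, g * R.τ ≠ R.τ * g → (g * g * g) * R.τ = R.τ * (g * g * g) → False := by
    intro g hg h5 h6
    have hg3 : g * g * g ∈ D := ceτ _ (Subgroup.mul_mem _ (Subgroup.mul_mem _ hg hg) hg) h6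
    obtain ⟨j, hj⟩ : ∃ j, 3 ^ (2 * m + 1) = 3 * j := ⟨3 ^ (2 * m), by rw [pow_succ]; ring⟩
    have hq1 : (g ^ 3) ^ (3 ^ (2 * m + 1) + 1) = 1 := by
      have : g ^ 3 = g * g * g := by rw [pow_succ, pow_two]
      rw [this]
      have h7 : (⟨g * g * g, hg3⟩ : D) ^ Nat.card D = 1 := pow_card_eq_one'
      rw [h.cD] at h7
      exact congrArg Subtype.val h7
    set g' := g ^ (3 ^ (2 * m + 1) + 1) with hg'
    have h7 : g' ^ 3 = 1 := by rw [hg', ← pow_mul, mul_comm, pow_mul]; exact hq1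
    have h8 : g' = g * (g * g * g) ^ j := by
      have : g * g * g = g ^ 3 := by rw [pow_succ, pow_two]
      rw [hg', hj, this, ← pow_mul, ← pow_succ']
    have h9 : g' ≠ 1 := by
      intro h9
      apply h5
      rw [h8] at h9
      have h10 : g = ((g * g * g) ^ j)⁻¹ := mul_eq_one_iff_eq_inv.1 h9
      rw [h10]
      exact h.comm _ (Subgroup.inv_mem _ (Subgroup.pow_mem _ hg3 _)) _ h.τm
    have hxg : x * g' = g' * x := by
      have : Commute x g := (hmC g hg).symm
      exact (this.pow_right _).eq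
    apply hsq1
    refine R.comm3 (u := g') (x := x) ⟨1, ?_⟩ h9 hxg hs hs3 hsd
    rw [pow_one]; exact orderOf_eq_prime h7 h9
  let t' : ↥C := ⟨R.τ, hτC⟩
  let n' : ↥C := ⟨R.n, hnC⟩
  obtain ⟨N, hN1, hN2, hN3⟩ := four_compl (G := ↥C) (t := t') (n := n') (Subtype.ext R.τn) (Subtype.ext R.τ2) (Subtype.ext R.n2) (by
    intro Q ht hn y hy
    obtain ⟨q1, q2⟩ := R.two_elt ((Q : Subgroup C).map C.subtype) (Q.isPGroup'.map _)
    have hyQ : (y : G) ∈ (Q : Subgroup C).map C.subtype := ⟨y, hy, rfl⟩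
    have hτQ : R.τ ∈ (Q : Subgroup C).map C.subtype := ⟨t', ht, rfl⟩
    have hyD : (y : G) ∈ D := ceτ _ y.2 (q2 _ hyQ _ hτQ)
    rcases h.inv_el R hyD (q1 _ hyQ) with e | e | e | e
    · left; exact Subtype.ext e
    · right; left; exact Subtype.ext e
    · right; right; left; exact Subtype.ext e
    · right; right; right; exact Subtype.ext e) (by
    rintro ⟨g, hg⟩ h5 h6
    have h5' : g * R.τ * g⁻¹ = R.τ ∨ g * R.τ * g⁻¹ = R.n ∨ g * R.τ * g⁻¹ = R.τ * R.n := by
      rcases h5 with e | e | e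
      · left; exact congrArg Subtype.val e
      · right; left; exact congrArg Subtype.val e
      · right; right; exact congrArg Subtype.val e
    have h6' : g * R.n * g⁻¹ = R.τ ∨ g * R.n * g⁻¹ = R.n ∨ g * R.n * g⁻¹ = R.τ * R.n := by
      rcases h6 with e | e | e
      · left; exact congrArg Subtype.val e
      · right; left; exact congrArg Subtype.val e
      · right; right; exact congrArg Subtype.val e
    have hprod : g * (R.τ * R.n) * g⁻¹ = (g * R.τ * g⁻¹) * (g * R.n * g⁻¹) := by group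
    suffices hgD : g ∈ D from ⟨Subtype.ext (h.comm _ hgD _ h.τm), Subtype.ext (h.comm _ hgD _ h.nm)⟩
    have hinj : g * R.τ * g⁻¹ ≠ g * R.n * g⁻¹ := by
      intro e
      have : R.τ = R.n := mul_left_cancel (mul_right_cancel e)
      apply R.τφ ww
      rw [R.hw, this]
    have c3 : ∀ y, (g * g * g) * y * (g * g * g)⁻¹ = g * (g * (g * y * g⁻¹) * g⁻¹) * g⁻¹ := fun y => by group
    rcases h5' with a1 | a1 | a1 <;> rcases h6' with a2 | a2 | a2
    · exact absurd (a1.trans a2.symm) hinj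
    · exact ceτ g hg (mul_inv_eq_iff_eq_mul.1 a1)
    · exact ceτ g hg (mul_inv_eq_iff_eq_mul.1 a1)
    · -- swap
      apply ceτn g hg
      rw [a1, a2, ← R.τn] at hprod
      exact mul_inv_eq_iff_eq_mul.1 hprod
    · exact absurd (a1.trans a2.symm) hinj
    · -- τ → n → τn
      exfalso
      apply h3cyc g hg
      · intro e
        have e' := mul_inv_eq_iff_eq_mul.2 e
        rw [a1] at e'
        apply R.τφ ww; rw [R.hw, e']
      · apply mul_inv_eq_iff_eq_mul.1
        rw [c3, a1, a2, hprod, a1, a2]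
        rw [R.τn, ← mul_assoc, R.n2, one_mul]
    · -- τ → τn → n, n → τ
      exfalso
      apply h3cyc g hg
      · intro e
        have e' := mul_inv_eq_iff_eq_mul.2 e
        rw [a1] at e'
        apply R.n1
        exact mul_eq_left.1 e'
      · apply mul_inv_eq_iff_eq_mul.1
        rw [c3, a1, hprod, a1, a2]
        have : R.τ * R.n * R.τ = R.n := by rw [R.τn, mul_assoc, R.τ2, mul_one]
        rw [this, a2]
    · exact cen g hg (mul_inv_eq_iff_eq_mul.1 a2)
    · exact absurd (a1.trans a2.symm) hinj) (fun h => R.τ1 (congrArg Subtype.val h)) (fun h => R.n1 (congrArg Subtype.val h))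
  set N' := N.map C.subtype with hN'
  have hNC : ∀ y ∈ N', y ∈ C := by rintro _ ⟨y, hy, rfl⟩; exact y.2
  have hconj : ∀ c ∈ C, ∀ y ∈ N', c * y * c⁻¹ ∈ N' := by
    rintro c hc _ ⟨y, hy, rfl⟩
    exact ⟨_, hN1.conj_mem y hy ⟨c, hc⟩, rfl⟩
  have hodd : Odd (Nat.card N') := by
    rw [hN', Nat.card_congr (Subgroup.equivMapOfInjective N C.subtype C.subtype_injective).toEquiv.symm]; exact hN2
  have hfour := odd_four (N := N') hodd R.τ2 R.n2 R.τn
    (fun y hy => by have := hconj _ hτC y hy; rwa [R.τi] at this)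
    (fun y hy => by have := hconj _ hnC y hy; rwa [R.ni] at this)
    (fun y hy e => (h.comm _ (cen y (hNC y hy) e.symm) _ h.τm).symm)
    (fun y hy e => (h.comm _ (ceτn y (hNC y hy) e.symm) _ h.τm).symm)
  have hND : ∀ y ∈ N', y ∈ D := fun y hy => ceτ y (hNC y hy) (hfour y hy).symm
  intro c hc
  obtain ⟨y, hy, e⟩ := hN3 ⟨c, hc⟩
  have hyD : (y : G) ∈ D := hND _ ⟨y, hy, rfl⟩
  rcases e with e | e | e | e
  · have : c = y := congrArg Subtype.val e
    rw [this]; exact hyD
  · have : c = y * R.τ := congrArg Subtype.val e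
    rw [this]; exact D.mul_mem hyD h.τm
  · have : c = y * R.n := congrArg Subtype.val e
    rw [this]; exact D.mul_mem hyD h.nm
  · have : c = y * (R.τ * R.n) := congrArg Subtype.val e
    rw [this]; exact D.mul_mem hyD (D.mul_mem h.τm h.nm)

end CfsgLib.ReeA
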