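import Cfsg.Agent.LibRee13

set_option autoImplicit false
set_option linter.unusedSectionVars false
set_option linter.unusedVariables false
set_option linter.unusedSimpArgs false

/-! Groups of Ree type: the normaliser of the torus of order q + 1 -/

namespace CfsgLib.ReeA

open Matrix CfsgLib.Chev CfsgLib.Rank1 CfsgLib.SL2P

section general
variable {G : Type*} [Group G] [Finite G]

theorem map_conj_mem (A : Subgroup G) (g x : G) : x ∈ A.map (MulAut.conj g).toMonoidHom ↔ g⁻¹ * x * g ∈ A := by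
  constructor
  · rintro ⟨y, hy, rfl⟩
    have : g⁻¹ * (g * y * g⁻¹) * g = y := by group
    show g⁻¹ * (g * y * g⁻¹) * g ∈ A
    rw [this]; exact hy
  · intro h
    refine ⟨_, h, ?_⟩
    show g * (g⁻¹ * x * g) * g⁻¹ = x
    group

theorem card_map_conj (A : Subgroup G) (g : G) : Nat.card ↥(A.map (MulAut.conj g).toMonoidHom) = Nat.card A :=
  Nat.card_congr (Subgroup.equivMapOfInjective A _ (MulAut.conj g).injective).toEquiv.symm

/-- normaliser of a conjugate -/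
theorem norm_conj (A : Subgroup G) (g x : G) :
    x ∈ Subgroup.normalizer (A.map (MulAut.conj g).toMonoidHom : Set G) ↔ g⁻¹ * x * g ∈ Subgroup.normalizer (A : Set G) := by
  rw [Subgroup.mem_normalizer_iff, Subgroup.mem_normalizer_iff]
  constructor
  · intro h y
    have h1 := h (g * y * g⁻¹)
    rw [map_conj_mem, map_conj_mem] at h1
    have e1 : g⁻¹ * (g * y * g⁻¹) * g = y := by group
    have e2 : g⁻¹ * (x * (g * y * g⁻¹) * x⁻¹) * g = g⁻¹ * x * g * y * (g⁻¹ * x * g)⁻¹ := by group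
    rw [e1, e2] at h1
    exact h1
  · intro h y
    have h1 := h (g⁻¹ * y * g)
    rw [map_conj_mem, map_conj_mem]
    have e2 : g⁻¹ * x * g * (g⁻¹ * y * g) * (g⁻¹ * x * g)⁻¹ = g⁻¹ * (x * y * x⁻¹) * g := by group
    rw [e2] at h1
    exact h1

theorem cent_conj (A : Subgroup G) (g x : G) :
    x ∈ Subgroup.centralizer (A.map (MulAut.conj g).toMonoidHom : Set G) ↔ g⁻¹ * x * g ∈ Subgroup.centralizer (A : Set G) := by
  rw [Subgroup.mem_centralizer_iff, Subgroup.mem_centralizer_iff]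
  constructor
  · intro h y hy
    have h1 := h (g * y * g⁻¹) (by
      rw [SetLike.mem_coe, map_conj_mem]
      have e1 : g⁻¹ * (g * y * g⁻¹) * g = y := by group
      rw [e1]; exact hy)
    calc y * (g⁻¹ * x * g) = g⁻¹ * (g * y * g⁻¹ * x) * g := by group
      _ = _ := by rw [h1]; group
  · intro h y hy
    rw [SetLike.mem_coe, map_conj_mem] at hy
    have h1 := h _ hy
    calc y * x = g * (g⁻¹ * y * g * (g⁻¹ * x * g)) * g⁻¹ := by group
      _ = _ := by rw [h1]; group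

/-- subgroups of cyclic groups are determined by their order -/
theorem cyclic_sub_unique (A : Subgroup G) (hA : IsCyclic A) {B B' : Subgroup G} (hB : B ≤ A) (hB' : B' ≤ A) (hc : Nat.card B = Nat.card B') : B = B' := by
  classical
  have : Fintype ↥A := Fintype.ofFinite _
  have h := IsCyclic.card_pow_eq_one_le (α := ↥A) (n := Nat.card B) Nat.card_pos
  set T := Finset.univ.filter fun x : ↥A => x ^ Nat.card B = 1 with hT
  have key : ∀ C : Subgroup G, C ≤ A → Nat.card C = Nat.card B → ∀ x ∈ T, (x : G) ∈ C := by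
    intro C hC hcc
    have h1 : (Finset.univ.filter fun x : ↥A => (x : G) ∈ C) ⊆ T := by
      intro x hx
      rw [Finset.mem_filter] at hx
      rw [hT, Finset.mem_filter]
      refine ⟨Finset.mem_univ _, Subtype.ext ?_⟩
      have := pow_card_eq_one' (x := (⟨x, hx.2⟩ : C))
      rw [hcc] at this
      show (x : G) ^ Nat.card B = 1
      exact congrArg (fun y : C => (y : G)) this
    have h2 : (Finset.univ.filter fun x : ↥A => (x : G) ∈ C).card = Nat.card B := by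
      rw [← hcc, ← Nat.card_congr (Subgroup.subgroupOfEquivOfLe hC).toEquiv, Nat.card_eq_fintype_card, Fintype.card_subtype]
      rfl
    have h3 := Finset.eq_of_subset_of_card_le h1 (by rw [h2]; exact h)
    intro x hx
    rw [← h3, Finset.mem_filter] at hx
    exact hx.2
  have k1 := key B hB rfl
  have k2 := key B' hB' hc.symm
  have hmem : ∀ C : Subgroup G, C ≤ A → Nat.card C = Nat.card B → ∀ x ∈ C, ∃ h : x ∈ A, (⟨x, h⟩ : A) ∈ T := by
    intro C hC hcc x hx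
    refine ⟨hC hx, ?_⟩
    rw [hT, Finset.mem_filter]
    refine ⟨Finset.mem_univ _, Subtype.ext ?_⟩
    have := pow_card_eq_one' (x := (⟨x, hx⟩ : C))
    rw [hcc] at this
    show (x : G) ^ Nat.card B = 1
    exact congrArg (fun y : C => (y : G)) this
  apply le_antisymm
  · intro x hx
    obtain ⟨h1, h2⟩ := hmem B hB rfl x hx
    exact k2 _ h2
  · intro x hx
    obtain ⟨h1, h2⟩ := hmem B' hB' hc.symm x hx
    exact k1 _ h2

/-- subgroups of cyclic groups are normalised by the normaliser -/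
theorem norm_sub_cyclic (A A₀ : Subgroup G) (hA : IsCyclic A) (hle : A₀ ≤ A) :
    Subgroup.normalizer (A : Set G) ≤ Subgroup.normalizer (A₀ : Set G) := by
  intro g hg
  have huniq : ∀ B : Subgroup G, B ≤ A → Nat.card B = Nat.card A₀ → B = A₀ := fun B hB hc => cyclic_sub_unique A hA hB hle hc
  have h2 := huniq (A₀.map (MulAut.conj g).toMonoidHom) (by
    rintro _ ⟨y, hy, rfl⟩
    exact (Subgroup.mem_normalizer_iff.1 hg y).1 (hle hy)) (card_map_conj _ _)
  rw [Subgroup.mem_normalizer_iff]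
  intro y
  have h3 := map_conj_mem A₀ g (g * y * g⁻¹)
  have e1 : g⁻¹ * (g * y * g⁻¹) * g = y := by group
  rw [e1] at h3
  rw [← h3, h2]

/-- a normaliser normalises the centraliser -/
theorem norm_le_norm_cent (A : Subgroup G) : Subgroup.normalizer (A : Set G) ≤ Subgroup.normalizer (Subgroup.centralizer (A : Set G) : Set G) := by
  intro g hg
  have key : ∀ g ∈ Subgroup.normalizer (A : Set G), ∀ y ∈ Subgroup.centralizer (A : Set G), g * y * g⁻¹ ∈ Subgroup.centralizer (A : Set G) := by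
    intro g hg y hy
    rw [Subgroup.mem_centralizer_iff] at hy ⊢
    intro x hx
    have h1 := hy (g⁻¹ * x * g) (by
      have := (Subgroup.mem_normalizer_iff.1 (Subgroup.inv_mem _ hg) x).1 hx
      rwa [inv_inv] at this)
    calc x * (g * y * g⁻¹) = g * (g⁻¹ * x * g * y) * g⁻¹ := by group
      _ = _ := by rw [h1]; group
  rw [Subgroup.mem_normalizer_iff]
  intro y
  constructor
  · exact key g hg y
  · intro h
    have := key g⁻¹ (Subgroup.inv_mem _ hg) _ h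
    have e : g⁻¹ * (g * y * g⁻¹) * g⁻¹⁻¹ = y := by group
    rwa [e] at this

end general

variable {G : Type*} [Group G] [Finite G] {K : Type*} [Field K] [Fintype K] {m : ℕ} (R : RG G K m)

theorem prime_facts {s : ℕ} (hs : s.Prime) (hsa : s ∣ (3 ^ (2 * m + 1) + 1) / 4) : s ≠ 2 ∧ s ≠ 3 ∧ s ∣ 3 ^ (2 * m + 1) + 1 ∧
    ¬ s ∣ 3 ^ (2 * m + 1) - 1 ∧ ¬ s ∣ (3 ^ (2 * m + 1)) ^ 2 - 3 ^ (2 * m + 1) + 1 := by
  have h8 := hmod8 m
  have h4 : 4 * ((3 ^ (2 * m + 1) + 1) / 4) = 3 ^ (2 * m + 1) + 1 := by omega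
  have hsq : s ∣ 3 ^ (2 * m + 1) + 1 := by rw [← h4]; exact hsa.mul_left 4
  have hs2 : s ≠ 2 := by
    rintro rfl
    omega
  have hs3 : s ≠ 3 := by
    rintro rfl
    have h5 : 3 ∣ 3 ^ (2 * m + 1) := dvd_pow_self 3 (by omega)
    have := (Nat.dvd_add_right h5).1 hsq
    omega
  refine ⟨hs2, hs3, hsq, ?_, ?_⟩
  · intro h5
    have h6 := Nat.dvd_sub hsq h5
    have : 3 ^ (2 * m + 1) + 1 - (3 ^ (2 * m + 1) - 1) = 2 := by
      have : 1 ≤ 3 ^ (2 * m + 1) := Nat.one_le_pow _ _ (by norm_num)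
      omega
    rw [this] at h6
    exact hs2 ((Nat.prime_dvd_prime_iff_eq hs Nat.prime_two).1 h6)
  · intro h5
    have h6 : (3 ^ (2 * m + 1) + 1) * 3 ^ (2 * m + 1) + 3 = ((3 ^ (2 * m + 1)) ^ 2 - 3 ^ (2 * m + 1) + 1) + 2 * (3 ^ (2 * m + 1) + 1) := by
      have h1 : 3 ^ (2 * m + 1) ≤ (3 ^ (2 * m + 1)) ^ 2 := Nat.le_self_pow (by norm_num) _
      zify [h1]
      ring
    have h7 : s ∣ (3 ^ (2 * m + 1) + 1) * 3 ^ (2 * m + 1) + 3 := by
      rw [h6]; exact dvd_add h5 (hsq.mul_left 2)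
    have h8 := (Nat.dvd_add_right (hsq.mul_right (3 ^ (2 * m + 1)))).1 h7
    exact hs3 ((Nat.prime_dvd_prime_iff_eq hs Nat.prime_three).1 h8)

theorem cube_add_one (q : ℕ) (hq : 1 ≤ q) : q ^ 3 + 1 = (q + 1) * (q ^ 2 - q + 1) := by
  have h1 : q ≤ q ^ 2 := Nat.le_self_pow (by norm_num) _
  zify [h1]
  ring

theorem RG.TD.index {D : Subgroup G} {a : G} (h : R.TD D a) :
    D.index = (3 ^ (2 * m + 1)) ^ 3 * (3 ^ (2 * m + 1) - 1) * ((3 ^ (2 * m + 1)) ^ 2 - 3 ^ (2 * m + 1) + 1) := by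
  have h1 := Subgroup.card_mul_index D
  rw [h.cD, R.cG, cube_add_one _ (Nat.one_le_pow _ _ (by norm_num))] at h1
  apply Nat.eq_of_mul_eq_mul_left (show 0 < 3 ^ (2 * m + 1) + 1 by positivity)
  rw [h1]; ring

/-- elements of prime power order dividing (q+1)/4 -/
theorem RG.TD.into_A {D : Subgroup G} {a : G} (h : R.TD D a) {s : ℕ} (hs : s.Prime) (hsa : s ∣ (3 ^ (2 * m + 1) + 1) / 4)
    {x : G} (hx : ∃ k, orderOf x = s ^ k) : ∃ g : G, g * x * g⁻¹ ∈ Subgroup.zpowers a := by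
  obtain ⟨hs2, hs3, hsq, hsq1, hsq2⟩ := prime_facts hs hsa
  have hidx : ¬ s ∣ D.index := by
    rw [h.index R]
    intro hd
    rcases (Nat.Prime.dvd_mul hs).1 hd with h5 | h5
    · rcases (Nat.Prime.dvd_mul hs).1 h5 with h6 | h6
      · exact hs3 ((Nat.prime_dvd_prime_iff_eq hs Nat.prime_three).1 (hs.dvd_of_dvd_pow (hs.dvd_of_dvd_pow h6)))
      · exact hsq1 h6
    · exact hsq2 h5
  obtain ⟨g, hg⟩ := conj_into_elt hs D hidx hx
  refine ⟨g, h.odd R hg ?_⟩
  obtain ⟨k, hk⟩ := hx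
  rw [CfsgLib.TransFus.orderOf_conj g x, hk]
  exact (hs.odd_of_ne_two hs2).pow

/-- a power of prime order -/
theorem exists_prime_pow_elt {x : G} {s : ℕ} (hs : s.Prime) (hd : s ∣ orderOf x) : ∃ j : ℕ, orderOf (x ^ j) = s := by
  obtain ⟨j, hj⟩ := hd
  have hj0 : j ≠ 0 := by
    rintro rfl
    rw [mul_zero] at hj
    exact (orderOf_pos x).ne' hj
  refine ⟨j, ?_⟩
  rw [orderOf_pow' x hj0, hj, Nat.gcd_eq_right ⟨s, by ring⟩, Nat.mul_div_cancel _ (Nat.pos_of_ne_zero hj0)]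

theorem RG.TD.into_D (hperf : commutator G = ⊤) {D : Subgroup G} {a : G} (h : R.TD D a) {s : ℕ} (hs : s.Prime)
    (hsa : s ∣ (3 ^ (2 * m + 1) + 1) / 4) {x : G} (hx : s ∣ orderOf x) :
    ∃ g : G, (∀ y, y * x = x * y → g * y * g⁻¹ ∈ D) ∧ ∃ j : ℕ, g * x ^ j * g⁻¹ ∈ Subgroup.zpowers a ∧ orderOf (x ^ j) = s := by
  obtain ⟨j, hj⟩ := exists_prime_pow_elt hs hx
  obtain ⟨g, hg⟩ := h.into_A R hs hsa (x := x ^ j) ⟨1, by rw [hj, pow_one]⟩
  refine ⟨g, fun y hy => ?_, j, hg, hj⟩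
  have hne : g * x ^ j * g⁻¹ ≠ 1 := by
    intro e
    have h1 := CfsgLib.TransFus.orderOf_conj g (x ^ j)
    rw [e, orderOf_one, hj] at h1
    exact hs.one_lt.ne h1
  rw [← h.cent_D R hperf hg hne, Subgroup.mem_centralizer_singleton_iff]
  have hc : Commute y (x ^ j) := (show Commute y x from hy).pow_right j
  calc g * y * g⁻¹ * (g * x ^ j * g⁻¹) = g * (y * x ^ j) * g⁻¹ := by group
    _ = _ := by rw [hc.eq]; group

/-- cyclic subgroups of order (q+1)/4 -/
theorem RG.TD.conj_A (hperf : commutator G = ⊤) (hm : 1 ≤ m) {D : Subgroup G} {a : G} (h : R.TD D a) (A : Subgroup G) (hA : IsCyclic A)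
    (hc : Nat.card A = (3 ^ (2 * m + 1) + 1) / 4) : ∃ g : G, A.map (MulAut.conj g).toMonoidHom = Subgroup.zpowers a := by
  obtain ⟨⟨x, hxA⟩, hx⟩ := hA.exists_generator
  have hox : orderOf x = (3 ^ (2 * m + 1) + 1) / 4 := by
    have := orderOf_eq_card_of_forall_mem_zpowers hx
    rw [hc, ← Subgroup.orderOf_coe] at this
    exact this
  have hq := R.q_ge hm
  obtain ⟨s, hs, hsd⟩ := Nat.exists_prime_and_dvd (n := (3 ^ (2 * m + 1) + 1) / 4) (by omega)
  obtain ⟨g, hg, -⟩ := h.into_D R hperf hs hsd (x := x) (by rw [hox]; exact hsd)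
  have hgx : g * x * g⁻¹ ∈ Subgroup.zpowers a := by
    apply h.odd R (hg x rfl)
    rw [CfsgLib.TransFus.orderOf_conj g x, hox, ← h.oa]
    exact h.zodd R
  refine ⟨g, Subgroup.eq_of_le_of_card_ge ?_ ?_⟩
  · rintro _ ⟨y, hy, rfl⟩
    obtain ⟨i, hi⟩ := Subgroup.mem_zpowers_iff.1 (hx ⟨y, hy⟩)
    have hi' : x ^ i = y := congrArg Subtype.val hi
    show g * y * g⁻¹ ∈ _
    rw [← hi', ← conj_zpow]
    exact Subgroup.zpow_mem _ hgx _
  · rw [card_map_conj, hc, Nat.card_zpowers, h.oa]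

/-- the same for H -/
theorem RG.into_Hcent {s : ℕ} (hs : s.Prime) (h2 : s ≠ 2) (hd : s ∣ 3 ^ (2 * m + 1) - 1) {x : G} (hx : s ∣ orderOf x) :
    ∃ g : G, (∀ y, y * x = x * y → g * y * g⁻¹ ∈ R.H) ∧ ∃ j : ℕ, g * x ^ j * g⁻¹ ∈ R.H ∧ orderOf (x ^ j) = s := by
  obtain ⟨j, hj⟩ := exists_prime_pow_elt hs hx
  obtain ⟨g, hg⟩ := R.into_H hs h2 hd (x := x ^ j) ⟨1, by rw [hj, pow_one]⟩
  refine ⟨g, fun y hy => ?_, j, hg, hj⟩
  have hor := CfsgLib.TransFus.orderOf_conj g (x ^ j)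
  rw [hj] at hor
  have hne : g * x ^ j * g⁻¹ ≠ 1 := by
    intro e
    rw [e, orderOf_one] at hor
    exact hs.one_lt.ne hor
  have hne2 : g * x ^ j * g⁻¹ ≠ R.τ := by
    intro e
    rw [e] at hor
    have h3 : orderOf R.τ = 2 := orderOf_eq_prime (by rw [pow_two]; exact R.τ2) R.τ1
    exact h2 (by rw [← hor, h3])
  rw [← R.cent_H hg hne hne2, Subgroup.mem_centralizer_singleton_iff]
  have hc : Commute y (x ^ j) := (show Commute y x from hy).pow_right j
  calc g * y * g⁻¹ * (g * x ^ j * g⁻¹) = g * (y * x ^ j) * g⁻¹ := by group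
    _ = _ := by rw [hc.eq]; group

theorem RG.conj_H (hm : 1 ≤ m) (A : Subgroup G) (hA : IsCyclic A) (hc : Nat.card A = (3 ^ (2 * m + 1) - 1) / 2) :
    ∃ g : G, ∀ x ∈ A, g * x * g⁻¹ ∈ R.H := by
  obtain ⟨⟨x, hxA⟩, hx⟩ := hA.exists_generator
  have hox : orderOf x = (3 ^ (2 * m + 1) - 1) / 2 := by
    have := orderOf_eq_card_of_forall_mem_zpowers hx
    rw [hc, ← Subgroup.orderOf_coe] at this
    exact this
  have hq := R.q_ge hm
  have h8 := hmod8 m
  obtain ⟨s, hs, hsd⟩ := Nat.exists_prime_and_dvd (n := (3 ^ (2 * m + 1) - 1) / 2) (by omega)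
  have hs2 : s ≠ 2 := by rintro rfl; omega
  have hsd' : s ∣ 3 ^ (2 * m + 1) - 1 := by
    have : 3 ^ (2 * m + 1) - 1 = 2 * ((3 ^ (2 * m + 1) - 1) / 2) := by omega
    rw [this]; exact hsd.mul_left 2
  obtain ⟨g, hg, -⟩ := R.into_Hcent hs hs2 hsd' (x := x) (by rw [hox]; exact hsd)
  refine ⟨g, fun y hy => hg y ?_⟩
  obtain ⟨i, hi⟩ := Subgroup.mem_zpowers_iff.1 (hx ⟨y, hy⟩)
  have hi' : x ^ i = y := congrArg Subtype.val hi
  rw [← hi']
  exact ((Commute.refl x).zpow_left i).eq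

end CfsgLib.ReeA
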