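import Cfsg.Agent.LibRee14

set_option autoImplicit false
set_option linter.unusedSectionVars false
set_option linter.unusedVariables false
set_option linter.unusedSimpArgs false

/-! Groups of Ree type: the normaliser of the torus of order q + 1 -/

namespace CfsgLib.ReeA

open Matrix CfsgLib.Chev CfsgLib.Rank1 CfsgLib.SL2P

variable {G : Type*} [Group G] [Finite G] {K : Type*} [Field K] [Fintype K] {m : ℕ} (R : RG G K m)

theorem T_comm {A B : Matrix.SpecialLinearGroup (Fin 2) K} (hA : A * ww = ww * A) (hB : B * ww = ww * B) : A * B = B * A := by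
  obtain ⟨h1, h2⟩ := mem_T.1 hA
  obtain ⟨h3, h4⟩ := mem_T.1 hB
  apply ext2 <;> simp only [m00, m01, m10, m11, h1, h2, h3, h4] <;> ring

theorem RG.TD.zin {D : Subgroup G} {a : G} (h : R.TD D a) {x : G} (hx : x ∈ Subgroup.zpowers a) : R.z * x * R.z⁻¹ = x⁻¹ := by
  obtain ⟨i, rfl⟩ := Subgroup.mem_zpowers_iff.1 hx
  rw [← conj_zpow, h.zinv, _root_.inv_zpow]

theorem RG.zτ : R.z * R.τ = R.τ * R.z := by
  unfold RG.z; exact (R.τcen _).symm

theorem RG.TD.a1 (hm : 1 ≤ m) {D : Subgroup G} {a : G} (h : R.TD D a) : a ≠ 1 ∧ a * a ≠ 1 := by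
  have hq := R.q_ge hm
  have ho := h.oa
  constructor
  · rintro rfl
    rw [orderOf_one] at ho; omega
  · intro e
    have h1 : orderOf a ∣ 2 := orderOf_dvd_of_pow_eq_one (by rw [pow_two]; exact e)
    have := Nat.le_of_dvd (by norm_num) h1
    omega

theorem RG.TD.z_notD (hm : 1 ≤ m) {D : Subgroup G} {a : G} (h : R.TD D a) : R.z ∉ D := by
  intro hz
  apply (h.a1 R hm).2
  have h1 := h.zinv
  have h2 := h.comm _ hz _ h.am
  rw [h2] at h1
  have h3 : a * R.z * R.z⁻¹ = a := by group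
  rw [h3] at h1
  nth_rewrite 1 [h1]
  simp

/-- the centraliser of the four-group -/
theorem RG.TD.cent_E (hm : 1 ≤ m) {D : Subgroup G} {a : G} (h : R.TD D a) {y : G} (h1 : y * R.τ = R.τ * y) (h2 : y * R.n = R.n * y) :
    y ∈ D ∨ y * R.z ∈ D := by
  -- a is the image of a square in T
  obtain ⟨a', ha', haa⟩ : ∃ a' ∈ Subgroup.zpowers a, a' * a' = a := by
    obtain ⟨k, hk⟩ := h.zodd R
    refine ⟨a ^ (k + 1), Subgroup.pow_mem _ (Subgroup.mem_zpowers a) _, ?_⟩
    calc a ^ (k + 1) * a ^ (k + 1) = a ^ (2 * k + 1) * a := by rw [← pow_add, ← pow_succ]; congr 1; ring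
      _ = a := by rw [← hk, pow_orderOf_eq_one, one_mul]
  obtain ⟨B, hB⟩ : a' ∈ R.φ.range := (Subgroup.zpowers_le.2 h.aL) ha'
  have hBn : R.φ B * R.n = R.n * R.φ B := by rw [hB]; exact h.comm _ (h.zD R ha') _ h.nm
  have hBB : (B * B) * ww = ww * (B * B) := by
    rw [← R.hw, ← map_mul, ← map_mul, R.φ_eq] at hBn
    rcases hBn with e | e
    · rw [mul_assoc, e, ← mul_assoc, e, mul_assoc]
    · rw [mul_assoc, e, mul_neg, ← mul_assoc, e, neg_mul, neg_neg, mul_assoc]
  have haB : a = R.φ (B * B) := by rw [map_mul, hB, haa]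
  have key : ∀ A : Matrix.SpecialLinearGroup (Fin 2) K, A * ww = ww * A → R.φ A ∈ D := by
    intro A hA
    apply h.cen a (Subgroup.mem_zpowers a) (h.a1 R hm).1
    · rw [haB, ← map_mul, ← map_mul, T_comm hA hBB]
    · exact (R.τcen A).symm
  have key2 : ∀ A : Matrix.SpecialLinearGroup (Fin 2) K, R.φ A * R.n = R.n * R.φ A → R.φ A ∈ D ∨ R.φ A * R.z ∈ D := by
    intro A hA
    rw [← R.hw, ← map_mul, ← map_mul, R.φ_eq] at hA
    rcases hA with e | e
    · left; exact key A e
    · right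
      unfold RG.z
      rw [← map_mul]
      apply key
      rw [mul_assoc, jw R.char3, mul_neg, ← mul_assoc, e, neg_mul, neg_neg, mul_assoc]
  obtain ⟨A, e | e⟩ := (R.cen y).1 h1.symm
  · rw [e]; rw [e] at h2; exact key2 A h2
  · have h3 : R.φ A * R.n = R.n * R.φ A := by
      have : R.τ * (R.φ A * R.n) = R.τ * (R.n * R.φ A) := by
        calc R.τ * (R.φ A * R.n) = R.τ * R.φ A * R.n := by group
          _ = R.n * (R.τ * R.φ A) := by rw [← e]; exact h2
          _ = (R.n * R.τ) * R.φ A := by group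
          _ = _ := by rw [← R.τn]; group
      exact mul_left_cancel this
    rcases key2 A h3 with h4 | h4
    · left; rw [e]; exact D.mul_mem h.τm h4
    · right; rw [e, mul_assoc]; exact D.mul_mem h.τm h4

theorem RG.TD.z_cE {D : Subgroup G} {a : G} (h : R.TD D a) : R.z ∈ Subgroup.centralizer {R.τ} ⊓ Subgroup.centralizer {R.n} :=
  mci.2 ⟨Subgroup.mem_centralizer_singleton_iff.2 R.zτ, R.nz.symm⟩

theorem RG.TD.D_cE {D : Subgroup G} {a : G} (h : R.TD D a) : D ≤ Subgroup.centralizer {R.τ} ⊓ Subgroup.centralizer {R.n} :=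
  fun x hx => mci.2 ⟨Subgroup.mem_centralizer_singleton_iff.2 (h.comm _ hx _ h.τm), h.comm _ hx _ h.nm⟩

theorem RG.TD.card_CE (hm : 1 ≤ m) {D : Subgroup G} {a : G} (h : R.TD D a) :
    Nat.card ↥(Subgroup.centralizer {R.τ} ⊓ Subgroup.centralizer {R.n}) = 2 * (3 ^ (2 * m + 1) + 1) := by
  set C := Subgroup.centralizer {R.τ} ⊓ Subgroup.centralizer {R.n} with hC
  have hzi : R.z⁻¹ = R.z := inv_eq_of_mul_eq_one_right R.z2
  have h1 : (C : Set G) = (D : Set G) ∪ (fun x => x * R.z) '' (D : Set G) := by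
    ext y
    rw [SetLike.mem_coe]
    constructor
    · intro hy
      obtain ⟨hy1, hy2⟩ := mci.1 hy
      rcases h.cent_E R hm (Subgroup.mem_centralizer_singleton_iff.1 hy1) hy2 with h3 | h3
      · exact Or.inl h3
      · right
        refine ⟨_, h3, ?_⟩
        show y * R.z * R.z = y
        rw [mul_assoc, R.z2, mul_one]
    · rintro (h3 | ⟨x, hx, rfl⟩)
      · exact h.D_cE R h3
      · exact Subgroup.mul_mem _ (h.D_cE R hx) (h.z_cE R)
  have h2 : Disjoint (D : Set G) ((fun x => x * R.z) '' (D : Set G)) := by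
    rw [Set.disjoint_left]
    rintro x hx ⟨y, hy, rfl⟩
    apply h.z_notD R hm
    have : R.z = y⁻¹ * (y * R.z) := by group
    rw [this]; exact Subgroup.mul_mem _ (Subgroup.inv_mem _ hy) hx
  have h3 : Nat.card ↥C = Set.ncard (C : Set G) := rfl
  have h4 : Set.ncard (D : Set G) = 3 ^ (2 * m + 1) + 1 := h.cD
  rw [h3, h1, Set.ncard_union_eq h2, Set.ncard_image_of_injective _ (mul_left_injective R.z), h4]
  ring

/-- elements of Dz are involutions -/
theorem RG.TD.Dz {D : Subgroup G} {a : G} (h : R.TD D a) {x : G} (hx : x ∈ D) : (x * R.z) * (x * R.z) = 1 := by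
  obtain ⟨e, he, i, hi⟩ := h.el x hx
  have hze : R.z * e = e * R.z := by
    rcases he with rfl | rfl | rfl | rfl
    · simp
    · exact R.zτ
    · exact R.nz.symm
    · calc R.z * (R.τ * R.n) = (R.z * R.τ) * R.n := by group
        _ = R.τ * (R.z * R.n) := by rw [R.zτ]; group
        _ = _ := by rw [← R.nz]; group
  have heD : e ∈ D := by
    rcases he with rfl | rfl | rfl | rfl
    · exact D.one_mem
    · exact h.τm
    · exact h.nm
    · exact D.mul_mem h.τm h.nm
  have hee : e * e = 1 := by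
    rcases he with rfl | rfl | rfl | rfl
    · simp
    · exact R.τ2
    · exact R.n2
    · exact R.τn2
  have hai : a ^ i ∈ Subgroup.zpowers a := Subgroup.mem_zpowers_iff.2 ⟨i, rfl⟩
  have h1 := h.zin R hai
  have hzi : R.z⁻¹ = R.z := inv_eq_of_mul_eq_one_right R.z2
  rw [hzi] at h1
  have hea : e * a ^ i = a ^ i * e := h.comm _ heD _ (h.zD R hai)
  rw [hi]
  calc e * a ^ i * R.z * (e * a ^ i * R.z) = e * a ^ i * (R.z * e) * a ^ i * R.z := by group
    _ = (e * a ^ i) * e * (R.z * a ^ i * R.z) := by rw [hze]; group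
    _ = a ^ i * (e * e) * (a ^ i)⁻¹ := by rw [h1, hea]; group
    _ = 1 := by rw [hee]; group

/-- odd order elements centralising the four-group -/
theorem RG.TD.odd_cE (hm : 1 ≤ m) {D : Subgroup G} {a : G} (h : R.TD D a) {y : G} (h1 : y * R.τ = R.τ * y) (h2 : y * R.n = R.n * y)
    (ho : Odd (orderOf y)) : y ∈ Subgroup.zpowers a := by
  rcases h.cent_E R hm h1 h2 with h3 | h3
  · exact h.odd R h3 ho
  · have h4 := h.Dz R h3
    have h5 : y * R.z * R.z = y := by rw [mul_assoc, R.z2, mul_one]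
    rw [h5] at h4
    have h6 : orderOf y ∣ 2 := orderOf_dvd_of_pow_eq_one (by rw [pow_two]; exact h4)
    have h7 : orderOf y = 1 := by
      rcases (Nat.dvd_prime Nat.prime_two).1 h6 with e | e
      · exact e
      · rw [e] at ho; exact absurd ho (by decide)
    rw [orderOf_eq_one_iff] at h7
    rw [h7]; exact Subgroup.one_mem _

theorem RG.TD.cent_zp (hperf : commutator G = ⊤) {D : Subgroup G} {a : G} (h : R.TD D a) {A : Subgroup G} (hA : A ≤ Subgroup.zpowers a)
    (hA1 : A ≠ ⊥) : Subgroup.centralizer (A : Set G) = D := by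
  obtain ⟨x, hxA, hx1⟩ : ∃ x ∈ A, x ≠ (1 : G) := by
    by_contra hcon
    push_neg at hcon
    exact hA1 ((Subgroup.eq_bot_iff_forall A).2 hcon)
  apply le_antisymm
  · intro y hy
    rw [← h.cent_D R hperf (hA hxA) hx1, Subgroup.mem_centralizer_singleton_iff]
    exact (Subgroup.mem_centralizer_iff.1 hy x hxA).symm
  · intro y hy
    rw [Subgroup.mem_centralizer_iff]
    intro x hx
    exact h.comm _ (h.zD R (hA hx)) _ hy

theorem RG.TD.norm_sub (hperf : commutator G = ⊤) {D : Subgroup G} {a : G} (h : R.TD D a) {A : Subgroup G} (hA : A ≤ Subgroup.zpowers a)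
    (hA1 : A ≠ ⊥) : Subgroup.normalizer (A : Set G) = Subgroup.normalizer (Subgroup.zpowers a : Set G) := by
  apply le_antisymm
  · refine (norm_le_norm_cent A).trans ?_
    rw [h.cent_zp R hperf hA hA1]
    intro g hg
    rw [Subgroup.mem_normalizer_iff]
    intro x
    constructor
    · intro hx
      apply h.odd R ((Subgroup.mem_normalizer_iff.1 hg x).1 (h.zD R hx))
      rw [CfsgLib.TransFus.orderOf_conj g x]
      exact Odd.of_dvd_nat (h.zodd R) (orderOf_dvd_of_mem_zpowers hx)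
    · intro hx
      apply h.odd R ((Subgroup.mem_normalizer_iff.1 hg x).2 (h.zD R hx))
      rw [← CfsgLib.TransFus.orderOf_conj g x]
      exact Odd.of_dvd_nat (h.zodd R) (orderOf_dvd_of_mem_zpowers hx)
  · exact norm_sub_cyclic _ _ inferInstance hA

/-- three-cycle on the four-group -/
theorem RG.exists_u (hperf : commutator G = ⊤) : ∃ u e : G, (e = R.n ∨ e = R.τ * R.n) ∧ u * R.τ * u⁻¹ = e ∧ u * e * u⁻¹ = R.τ * e := by
  obtain ⟨P, h⟩ := R.exists_PD
  have hO := (h.orbit R hperf).1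
  obtain ⟨g1, hg1, e1⟩ : R.n ∈ {y | ∃ g ∈ Subgroup.normalizer (P : Set G), y = g * R.τ * g⁻¹} := by
    rw [hO]; exact ⟨h.nm, R.n1⟩
  set g := g1⁻¹ with hg
  have hgN : g ∈ Subgroup.normalizer (P : Set G) := Subgroup.inv_mem _ hg1
  have e2 : g * R.n * g⁻¹ = R.τ := by rw [e1, hg]; group
  have hwN := h.wN
  have hwn := R.wn
  have hwz := R.wz
  have hwτ := R.wτ
  set w := R.φ (xx 1) with hw
  have hwnz : w * (R.n * R.z) * w⁻¹ = R.n := by
    have : w * (R.n * R.z) * w⁻¹ = (w * R.n * w⁻¹) * (w * R.z * w⁻¹) := by group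
    rw [this, hwn, hwz, R.nz, ← mul_assoc, R.z2, one_mul]
  have hmul : ∀ k a b c d : G, k * a * k⁻¹ = c → k * b * k⁻¹ = d → k * (a * b) * k⁻¹ = c * d := by
    rintro k a b c d rfl rfl; group
  -- find k
  have key : ∀ k : G, k * R.n * k⁻¹ = R.τ → (k * R.z * k⁻¹ = R.n ∨ k * R.z * k⁻¹ = R.τ * R.n) →
      ∃ u e : G, (e = R.n ∨ e = R.τ * R.n) ∧ u * R.τ * u⁻¹ = e ∧ u * e * u⁻¹ = R.τ * e := by
    intro k k1 k2
    refine ⟨k * w * k⁻¹, k * R.z * k⁻¹, k2, ?_, ?_⟩
    · rw [← k1]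
      calc k * w * k⁻¹ * (k * R.n * k⁻¹) * (k * w * k⁻¹)⁻¹ = k * (w * R.n * w⁻¹) * k⁻¹ := by group
        _ = _ := by rw [hwn]
    · rw [← k1]
      calc k * w * k⁻¹ * (k * R.z * k⁻¹) * (k * w * k⁻¹)⁻¹ = k * (w * R.z * w⁻¹) * k⁻¹ := by group
        _ = _ := by rw [hwz]; group
  have hgz : g * R.z * g⁻¹ ∈ P := (Subgroup.mem_normalizer_iff.1 hgN _).1 h.zm
  have hstep : ∀ k : G, k * R.n * k⁻¹ = R.τ → (w * k) * R.n * (w * k)⁻¹ = R.τ := by
    intro k hk
    calc w * k * R.n * (w * k)⁻¹ = w * (k * R.n * k⁻¹) * w⁻¹ := by group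
      _ = R.τ := by rw [hk]; exact hwτ
  have hstep2 : ∀ k a b : G, k * R.z * k⁻¹ = a → w * a * w⁻¹ = b → (w * k) * R.z * (w * k)⁻¹ = b := by
    intro k a b hk hb
    calc w * k * R.z * (w * k)⁻¹ = w * (k * R.z * k⁻¹) * w⁻¹ := by group
      _ = b := by rw [hk]; exact hb
  have t1 := hmul w _ _ _ _ hwτ hwz
  have t2 := hmul w _ _ _ _ hwτ hwnz
  rcases h.el _ hgz with e | e | e | e | e | e | e | e
  · exfalso
    apply R.z1
    have : R.z = g⁻¹ * (g * R.z * g⁻¹) * g := by group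
    rw [this, e]; group
  · exfalso
    apply R.n_ne_z
    rw [← e2] at e
    exact (mul_left_cancel (mul_right_cancel e)).symm
  · exact key g e2 (Or.inl e)
  · -- z → nz → n : two steps
    exact key _ (hstep _ (hstep _ e2)) (Or.inl (hstep2 _ _ _ (hstep2 _ _ _ e hwz) hwnz))
  · exact key g e2 (Or.inr e)
  · exact key _ (hstep _ (hstep _ e2)) (Or.inr (hstep2 _ _ _ (hstep2 _ _ _ e t1) t2))
  · exact key _ (hstep _ e2) (Or.inl (hstep2 _ _ _ e hwnz))
  · rw [mul_assoc R.τ] at e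
    exact key _ (hstep _ e2) (Or.inr (hstep2 _ _ _ e t2))

/-- the normaliser of the four-group normalises A -/
theorem RG.TD.norm_E (hm : 1 ≤ m) {D : Subgroup G} {a : G} (h : R.TD D a) {g : G}
    (h1 : g⁻¹ * R.τ * g = R.τ ∨ g⁻¹ * R.τ * g = R.n ∨ g⁻¹ * R.τ * g = R.τ * R.n)
    (h2 : g⁻¹ * R.n * g = R.τ ∨ g⁻¹ * R.n * g = R.n ∨ g⁻¹ * R.n * g = R.τ * R.n) : g ∈ Subgroup.normalizer (Subgroup.zpowers a : Set G) := by
  have key : ∀ y ∈ Subgroup.zpowers a, g * y * g⁻¹ ∈ Subgroup.zpowers a := by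
    intro y hy
    have hyD := h.zD R hy
    have hcy : ∀ e, (e = R.τ ∨ e = R.n ∨ e = R.τ * R.n) → y * e = e * y := by
      rintro e (rfl | rfl | rfl)
      · exact h.comm _ hyD _ h.τm
      · exact h.comm _ hyD _ h.nm
      · exact h.comm _ hyD _ (D.mul_mem h.τm h.nm)
    apply h.odd_cE R hm
    · have := hcy _ h1
      calc g * y * g⁻¹ * R.τ = g * (y * (g⁻¹ * R.τ * g)) * g⁻¹ := by group
        _ = _ := by rw [this]; group
    · have := hcy _ h2
      calc g * y * g⁻¹ * R.n = g * (y * (g⁻¹ * R.n * g)) * g⁻¹ := by group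
        _ = _ := by rw [this]; group
    · rw [CfsgLib.TransFus.orderOf_conj g y]
      exact Odd.of_dvd_nat (h.zodd R) (orderOf_dvd_of_mem_zpowers hy)
  have hmap : (Subgroup.zpowers a).map (MulAut.conj g).toMonoidHom = Subgroup.zpowers a := by
    apply Subgroup.eq_of_le_of_card_ge
    · rintro _ ⟨y, hy, rfl⟩; exact key y hy
    · rw [card_map_conj]
  rw [Subgroup.mem_normalizer_iff]
  intro y
  have h3 := map_conj_mem (Subgroup.zpowers a) g (g * y * g⁻¹)
  have e1 : g⁻¹ * (g * y * g⁻¹) * g = y := by group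
  rw [e1, hmap] at h3
  exact h3.symm

theorem RG.TD.norm_el (hperf : commutator G = ⊤) (hm : 1 ≤ m) {D : Subgroup G} {a : G} (h : R.TD D a) {g : G}
    (hg : g ∈ Subgroup.normalizer (Subgroup.zpowers a : Set G)) {e : G} (he : e ∈ D) (he1 : e ≠ 1) (he2 : e * e = 1) :
    g * e * g⁻¹ = R.τ ∨ g * e * g⁻¹ = R.n ∨ g * e * g⁻¹ = R.τ * R.n := by
  have h1 := norm_le_norm_cent _ hg
  rw [h.cent_zp R hperf le_rfl (by
    intro e
    rw [Subgroup.zpowers_eq_bot] at e
    exact (h.a1 R hm).1 e)] at h1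
  have h2 := (Subgroup.mem_normalizer_iff.1 h1 e).1 he
  refine (h.inv_el R h2 ?_).resolve_left ?_
  · calc g * e * g⁻¹ * (g * e * g⁻¹) = g * (e * e) * g⁻¹ := by group
      _ = 1 := by rw [he2]; group
  · intro h3
    apply he1
    have : e = g⁻¹ * (g * e * g⁻¹) * g := by group
    rw [this, h3]; group

/-- the order of the normaliser -/
theorem RG.TD.card_N (hperf : commutator G = ⊤) (hm : 1 ≤ m) {D : Subgroup G} {a : G} (h : R.TD D a) :
    Nat.card ↥(Subgroup.normalizer (Subgroup.zpowers a : Set G)) = 6 * (3 ^ (2 * m + 1) + 1) := by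
  have o := orbstab (Subgroup.normalizer (Subgroup.zpowers a : Set G)) R.τ
  have e1 : Subgroup.normalizer (Subgroup.zpowers a : Set G) ⊓ Subgroup.centralizer {R.τ} = Subgroup.centralizer {R.τ} ⊓ Subgroup.centralizer {R.n} := by
    ext g
    rw [mci, mci, Subgroup.mem_centralizer_singleton_iff]
    constructor
    · rintro ⟨hg, hgτ⟩
      refine ⟨hgτ, ?_⟩
      apply mul_inv_eq_iff_eq_mul.1
      rcases h.norm_el R hperf hm hg h.nm R.n1 R.n2 with e | e | e
      · exfalso
        apply R.τφ ww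
        rw [R.hw]
        have : R.n = g⁻¹ * (g * R.n * g⁻¹) * g := by group
        rw [this, e]
        calc g⁻¹ * R.τ * g = g⁻¹ * (R.τ * g) := by group
          _ = R.τ := by rw [← hgτ]; group
      · exact e
      · exfalso
        obtain ⟨A, hA⟩ := (R.cen g).1 hgτ.symm
        have h3 : g * R.n * g⁻¹ = R.φ (A * ww * A⁻¹) := by
          rw [map_mul, map_mul, map_inv, R.hw]
          rcases hA with hA | hA
          · rw [hA]
          · have h4 := R.τcen (A * ww * A⁻¹)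
            rw [map_mul, map_mul, map_inv, R.hw] at h4
            rw [hA]
            calc R.τ * R.φ A * R.n * (R.τ * R.φ A)⁻¹ = R.τ * (R.φ A * R.n * (R.φ A)⁻¹) * R.τ⁻¹ := by group
              _ = _ := by rw [h4]; group
        rw [h3] at e
        apply R.τφ (A * ww * A⁻¹ * ww⁻¹)
        rw [map_mul, map_inv, R.hw, e]; group
    · rintro ⟨hgτ, hgn⟩
      refine ⟨h.norm_E R hm (Or.inl ?_) (Or.inr (Or.inl ?_)), hgτ⟩
      · rw [mul_assoc, ← hgτ]; group
      · rw [mul_assoc, ← hgn]; group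
  have e2 : {y | ∃ g ∈ Subgroup.normalizer (Subgroup.zpowers a : Set G), y = g * R.τ * g⁻¹} = {R.τ, R.n, R.τ * R.n} := by
    apply Set.Subset.antisymm
    · rintro y ⟨g, hg, rfl⟩
      rcases h.norm_el R hperf hm hg h.τm R.τ1 R.τ2 with e | e | e <;> simp [e]
    · obtain ⟨u, e, he, hu1, hu2⟩ := R.exists_u hperf
      have hu3 : u * (R.τ * e) * u⁻¹ = R.τ := by
        have h3 : u * (R.τ * e) * u⁻¹ = (u * R.τ * u⁻¹) * (u * e * u⁻¹) := by group
        rw [h3, hu1, hu2]
        rcases he with rfl | rfl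
        · rw [R.τn, ← mul_assoc, R.n2, one_mul]
        · rw [← mul_assoc R.τ R.τ, R.τ2, one_mul, mul_assoc, R.n2, mul_one]
      have hi : ∀ x y : G, u * x * u⁻¹ = y → u⁻¹ * y * u = x := by rintro x y rfl; group
      have huN : u ∈ Subgroup.normalizer (Subgroup.zpowers a : Set G) := by
        apply h.norm_E R hm
        · rw [hi _ _ hu3]
          rcases he with rfl | rfl
          · right; right; rfl
          · right; left; rw [← mul_assoc, R.τ2, one_mul]
        · rcases he with rfl | rfl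
          · left; exact hi _ _ hu1
          · right; right
            apply hi
            rw [hu2, ← mul_assoc, R.τ2, one_mul]
      have m1 : e ∈ {y | ∃ g ∈ Subgroup.normalizer (Subgroup.zpowers a : Set G), y = g * R.τ * g⁻¹} := ⟨u, huN, hu1.symm⟩
      have m2 : R.τ * e ∈ {y | ∃ g ∈ Subgroup.normalizer (Subgroup.zpowers a : Set G), y = g * R.τ * g⁻¹} := by
        refine ⟨u * u, Subgroup.mul_mem _ huN huN, ?_⟩
        rw [← hu2]; nth_rewrite 1 [← hu1]; group
      rintro y (rfl | rfl | rfl)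
      · exact ⟨1, Subgroup.one_mem _, by group⟩
      · rcases he with rfl | rfl
        · exact m1
        · rw [← mul_assoc, R.τ2, one_mul] at m2; exact m2
      · rcases he with rfl | rfl
        · exact m2
        · exact m1
  rw [e1, e2, h.card_CE R hm] at o
  rw [o]
  have e3 : R.n ≠ R.τ * R.n := fun e => R.τ1 (right_eq_mul.1 e)
  have : Set.ncard ({R.τ, R.n, R.τ * R.n} : Set G) = 3 := by
    rw [Set.ncard_insert_of_notMem, Set.ncard_pair e3]
    simp only [Set.mem_insert_iff, Set.mem_singleton_iff, not_or]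
    exact ⟨fun e => R.τφ ww (by rw [R.hw, e]), fun e => R.n1 (left_eq_mul.1 e)⟩
  rw [this]; ring

end CfsgLib.ReeA
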