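import Cfsg.Agent.LibRee15

set_option autoImplicit false
set_option linter.unusedSectionVars false
set_option linter.unusedVariables false
set_option linter.unusedSimpArgs false

/-! Groups of Ree type: centralisers of cyclic subgroups -/

namespace CfsgLib.ReeA

open Matrix CfsgLib.Chev CfsgLib.Rank1 CfsgLib.SL2P

variable {G : Type*} [Group G] [Finite G] {K : Type*} [Field K] [Fintype K] {m : ℕ} (R : RG G K m)

theorem cent_eq_map (A : Subgroup G) (g : G) : Subgroup.centralizer (A : Set G) =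
    (Subgroup.centralizer (A.map (MulAut.conj g).toMonoidHom : Set G)).map (MulAut.conj g⁻¹).toMonoidHom := by
  ext x
  rw [map_conj_mem, cent_conj]
  have : g⁻¹ * (g⁻¹⁻¹ * x * g⁻¹) * g = x := by group
  rw [this]

theorem isCyclic_map_conj (A : Subgroup G) (g : G) (h : IsCyclic A) : IsCyclic ↥(A.map (MulAut.conj g).toMonoidHom) :=
  isCyclic_of_surjective _ (Subgroup.equivMapOfInjective A _ (MulAut.conj g).injective).surjective

theorem exists_ne_one {A : Subgroup G} (h : A ≠ ⊥) : ∃ x ∈ A, x ≠ 1 := by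
  by_contra hcon
  push Not at hcon
  exact h ((Subgroup.eq_bot_iff_forall A).2 hcon)

theorem RG.cent_Hsub {A : Subgroup G} (hA : A ≤ R.H) (hA1 : A ≠ ⊥) (ho : Odd (Nat.card A)) : Subgroup.centralizer (A : Set G) = R.H := by
  obtain ⟨x, hxA, hx1⟩ := exists_ne_one hA1
  have hxτ : x ≠ R.τ := by
    rintro rfl
    have h2 : orderOf R.τ = 2 := orderOf_eq_prime (by rw [pow_two]; exact R.τ2) R.τ1
    have h3 : orderOf R.τ ∣ Nat.card A := by
      have := orderOf_dvd_natCard (⟨R.τ, hxA⟩ : A)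
      rwa [← Subgroup.orderOf_coe] at this
    rw [h2, ← even_iff_two_dvd] at h3
    exact absurd h3 (Nat.not_even_iff_odd.2 ho)
  apply le_antisymm
  · intro y hy
    rw [← R.cent_H (hA hxA) hx1 hxτ, Subgroup.mem_centralizer_singleton_iff]
    exact (Subgroup.mem_centralizer_iff.1 hy x hxA).symm
  · intro y hy
    rw [Subgroup.mem_centralizer_iff]
    intro x hx
    exact R.Hcomm (hA hx) hy

include R in
theorem RG.cyc_H (hm : 1 ≤ m) (H : Subgroup G) (hH : IsCyclic H) (hc : Nat.card H = (3 ^ (2 * m + 1) - 1) / 2) :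
    IsCyclic ↥(Subgroup.centralizer (H : Set G)) ∧
        Nat.card ↥(Subgroup.centralizer (H : Set G)) = 3 ^ (2 * m + 1) - 1 ∧
        ∀ A : Subgroup G, A ≤ H → A ≠ ⊥ →
          Subgroup.centralizer (A : Set G) = Subgroup.centralizer (H : Set G) := by
  have hq := R.q_ge hm
  have h8 := hmod8 m
  obtain ⟨g, hg⟩ := R.conj_H hm H hH hc
  have hodd : Odd (Nat.card H) := by rw [hc, Nat.odd_iff]; omega
  have hle : H.map (MulAut.conj g).toMonoidHom ≤ R.H := by
    rintro _ ⟨y, hy, rfl⟩; exact hg y hy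
  have hne : ∀ A : Subgroup G, A ≠ ⊥ → A.map (MulAut.conj g).toMonoidHom ≠ ⊥ := by
    intro A hA h
    apply hA
    rwa [Subgroup.map_eq_bot_iff_of_injective _ (MulAut.conj g).injective] at h
  have key : ∀ A : Subgroup G, A ≤ H → A ≠ ⊥ → Subgroup.centralizer (A : Set G) = R.H.map (MulAut.conj g⁻¹).toMonoidHom := by
    intro A hA hA1
    rw [cent_eq_map A g, R.cent_Hsub ((Subgroup.map_mono hA).trans hle) (hne A hA1)]
    rw [card_map_conj]
    exact Odd.of_dvd_nat hodd (Subgroup.card_dvd_of_le hA)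
  have hH1 : H ≠ ⊥ := by
    rintro rfl
    rw [Subgroup.card_bot] at hc
    omega
  refine ⟨?_, ?_, fun A hA hA1 => ?_⟩
  · rw [key H le_rfl hH1]; exact isCyclic_map_conj _ _ R.Hc
  · rw [key H le_rfl hH1, card_map_conj, R.cH]
  · rw [key A hA hA1, key H le_rfl hH1]

include R in
theorem RG.cyc_A (hperf : commutator G = ⊤) (hm : 1 ≤ m) (H : Subgroup G) (hH : IsCyclic H) (hc : Nat.card H = (3 ^ (2 * m + 1) + 1) / 4) :
    IsMulCommutative ↥(Subgroup.centralizer (H : Set G)) ∧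
        Nat.card ↥(Subgroup.centralizer (H : Set G)) = 3 ^ (2 * m + 1) + 1 ∧
        (∀ x ∈ Subgroup.centralizer (H : Set G), orderOf x ≠ 4) ∧
        ∀ A : Subgroup G, A ≤ H → A ≠ ⊥ →
          Subgroup.centralizer (A : Set G) = Subgroup.centralizer (H : Set G) := by
  have hq := R.q_ge hm
  obtain ⟨D, a, h⟩ := R.exists_TD
  obtain ⟨g, hg⟩ := h.conj_A R hperf hm H hH hc
  have hne : ∀ A : Subgroup G, A ≠ ⊥ → A.map (MulAut.conj g).toMonoidHom ≠ ⊥ := by
    intro A hA h
    apply hA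
    rwa [Subgroup.map_eq_bot_iff_of_injective _ (MulAut.conj g).injective] at h
  have key : ∀ A : Subgroup G, A ≤ H → A ≠ ⊥ → Subgroup.centralizer (A : Set G) = D.map (MulAut.conj g⁻¹).toMonoidHom := by
    intro A hA hA1
    rw [cent_eq_map A g, h.cent_zp R hperf ((Subgroup.map_mono hA).trans hg.le) (hne A hA1)]
  have hH1 : H ≠ ⊥ := by
    rintro rfl
    rw [Subgroup.card_bot] at hc
    omega
  refine ⟨?_, ?_, ?_, fun A hA hA1 => ?_⟩
  · rw [key H le_rfl hH1]
    constructor; constructor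
    rintro ⟨_, x, hx, rfl⟩ ⟨_, y, hy, rfl⟩
    apply Subtype.ext
    show (MulAut.conj g⁻¹).toMonoidHom x * (MulAut.conj g⁻¹).toMonoidHom y = (MulAut.conj g⁻¹).toMonoidHom y * (MulAut.conj g⁻¹).toMonoidHom x
    rw [← map_mul, ← map_mul, h.comm _ hx _ hy]
  · rw [key H le_rfl hH1, card_map_conj, h.cD]
  · rw [key H le_rfl hH1]
    rintro _ ⟨x, hx, rfl⟩ ho
    have ho' : orderOf (g⁻¹ * x * g⁻¹⁻¹) = 4 := ho
    rw [CfsgLib.TransFus.orderOf_conj g⁻¹ x] at ho'
    have h1 : IsPGroup 2 (Subgroup.zpowers x) := IsPGroup.of_card (n := 2) (by rw [Nat.card_zpowers, ho']; norm_num)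
    have h2 := (R.two_elt _ h1).1 x (Subgroup.mem_zpowers x)
    have h3 : orderOf x ∣ 2 := orderOf_dvd_of_pow_eq_one (by rw [pow_two]; exact h2)
    rw [ho'] at h3
    exact absurd h3 (by norm_num)
  · rw [key A hA hA1, key H le_rfl hH1]

end CfsgLib.ReeA
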