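import Cfsg.Agent.LibReeM
import Cfsg.Agent.LibChevBase

set_option autoImplicit false
set_option linter.unusedSectionVars false
set_option linter.unusedVariables false
set_option linter.unusedSimpArgs false

/-! The 7-dimensional representation of G2 in characteristic 3 -/

namespace CfsgLib.ReeA

open Matrix CfsgLib.Chev Cfsg.Lie

/-- short roots of G2 -/
def shG (s : ℕ) : Bool := s == 2 || s == 3 || s == 4 || s == 7 || s == 8 || s == 9

theorem shc1 : ∀ r < 12, shG r = true ∨ chevG2.cartan 0 r % 3 = 0 := by decide +kernel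
theorem shc2 : ∀ r < 12, shG r = true → cor chevG2 r 1 % 3 = 0 := by decide +kernel
theorem shc3 : ∀ r < 12, shG (chevG2.neg r) = shG r := by decide +kernel
theorem shc4 : ∀ r < 12, ∀ s < 12, shG s = true → ∀ q ∈ chevG2.chainEntry r s, shG q.1 = true ∨ q.2 % 3 = 0 := by decide +kernel
theorem shc5 : ∀ r < 12, chevG2.neg r < 12 ∧ chevG2.neg r ≠ r := by decide +kernel
theorem shc6 : ∀ r < 12, ((chevG2.chain.getD r #[]).toList.map Prod.fst).Nodup := by decide +kernel

/-- the embedding of the index set -/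
def f7 : Fin 7 → chevG2.Idx := ![Sum.inl (0 : Fin 2), Sum.inr (2 : Fin 12), Sum.inr (3 : Fin 12), Sum.inr (4 : Fin 12), Sum.inr (7 : Fin 12),
  Sum.inr (8 : Fin 12), Sum.inr (9 : Fin 12)]

theorem f7_inj : Function.Injective f7 := by
  intro i j h
  revert h
  revert i j
  decide +kernel

section K
variable {K : Type*} [Field K]

/-- vectors supported on the short part -/
def InW (v : chevG2.Idx → K) : Prop := ∀ k, k ∉ Set.range f7 → v k = 0

theorem InW.add {v w : chevG2.Idx → K} (h1 : InW v) (h2 : InW w) : InW (v + w) := fun k hk => by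
  rw [Pi.add_apply, h1 k hk, h2 k hk, add_zero]

theorem InW.smul {v : chevG2.Idx → K} (c : K) (h1 : InW v) : InW (c • v) := fun k hk => by
  rw [Pi.smul_apply, h1 k hk, smul_zero]

theorem InW.zero : InW (0 : chevG2.Idx → K) := fun k hk => rfl

theorem InW.e {s : ℕ} (hs : shG s = true) : InW (eV chevG2 K s) := by
  intro k hk
  cases k with
  | inl i => exact eV_inl i
  | inr u =>
    rw [eV_inr, if_neg]
    intro h
    apply hk
    unfold shG at hs
    simp only [Bool.or_eq_true, beq_iff_eq] at hs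
    have hu : ∀ (n : Fin 12), u.val = n.val → Sum.inr u = (Sum.inr n : chevG2.Idx) := by
      intro n hn
      congr 1
      exact Fin.ext hn
    rcases hs with ((((hs | hs) | hs) | hs) | hs) | hs
    · exact ⟨1, (hu 2 (by rw [h, hs]; rfl)).symm⟩
    · exact ⟨2, (hu 3 (by rw [h, hs]; rfl)).symm⟩
    · exact ⟨3, (hu 4 (by rw [h, hs]; rfl)).symm⟩
    · exact ⟨4, (hu 7 (by rw [h, hs]; rfl)).symm⟩
    · exact ⟨5, (hu 8 (by rw [h, hs]; rfl)).symm⟩
    · exact ⟨6, (hu 9 (by rw [h, hs]; rfl)).symm⟩

theorem InW.h : InW (hV chevG2 K 0) := by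
  intro k hk
  cases k with
  | inl i =>
    rw [hV_inl, if_neg]
    intro h
    apply hk
    refine ⟨0, ?_⟩
    have : i = (0 : Fin 2) := Fin.ext h
    rw [this]; rfl
  | inr u => exact hV_inr u

theorem c3 (h3 : (3 : K) = 0) {z : ℤ} (hz : z % 3 = 0) : (z : K) = 0 := by
  obtain ⟨k, rfl⟩ := Int.dvd_of_emod_eq_zero hz
  push_cast
  rw [h3, zero_mul]

theorem InW.xh (h3 : (3 : K) = 0) {r : ℕ} (hr : r < 12) (t : K) : InW (chevG2.x K r t *ᵥ hV chevG2 K 0) := by
  rw [x_h (D := chevG2) hr (by decide : (0 : ℕ) < 2)]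
  apply InW.add InW.h
  rcases shc1 r hr with h | h
  · exact InW.smul _ (InW.e h)
  · rw [c3 h3 h]; simp only [neg_zero, zero_mul, zero_smul]; exact InW.zero

theorem InW.xe (h3 : (3 : K) = 0) {r s : ℕ} (hr : r < 12) (hs : s < 12) (hsh : shG s = true) (t : K) : InW (chevG2.x K r t *ᵥ eV chevG2 K s) := by
  by_cases h1 : s = r
  · rw [h1, x_e_self (D := chevG2) hr]
    rw [← h1]; exact InW.e hsh
  · by_cases h2 : s = chevG2.neg r
    · obtain ⟨h4, h5⟩ := shc5 r hr
      rw [h2, x_e_neg (D := chevG2) hr h4 h5]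
      rw [h2, shc3 r hr] at hsh
      apply InW.add
      · apply InW.add
        · apply InW.e; rw [shc3 r hr]; exact hsh
        · have : chevG2.rank = 2 := rfl
          rw [this, Finset.sum_range_succ, Finset.sum_range_one]
          apply InW.add
          · exact InW.smul _ InW.h
          · rw [c3 h3 (shc2 r hr hsh), zero_mul, zero_smul]; exact InW.zero
      · exact InW.smul _ (InW.e hsh)
    · rw [x_e (D := chevG2) hr hs h1 h2 (shc6 r hr)]
      apply InW.add (InW.e hsh)
      have h4 := shc4 r hr s hs hsh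
      have hz : ∀ (L : List ((ℕ × ℤ) × ℕ)), (∀ q ∈ L, shG q.1.1 = true ∨ q.1.2 % 3 = 0) →
          InW (L.map (fun q => (((q.1.2 : ℤ) : K) * t ^ (q.2 + 1)) • eV chevG2 K q.1.1)).sum := by
        intro L hL
        induction L with
        | nil => exact InW.zero
        | cons q L ih =>
          rw [List.map_cons, List.sum_cons]
          apply InW.add _ (ih (fun q hq => hL q (List.mem_cons_of_mem _ hq)))
          rcases hL q List.mem_cons_self with h | h
          · exact InW.smul _ (InW.e h)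
          · rw [c3 h3 h, zero_mul, zero_smul]; exact InW.zero
      apply hz
      intro q hq
      apply h4
      obtain ⟨⟨a, b⟩, i⟩ := q
      rw [List.mem_zipIdx_iff_getElem?] at hq
      exact List.mem_of_getElem? hq

/-- matrices preserving the short part -/
def Inv7 (M : Matrix chevG2.Idx chevG2.Idx K) : Prop := ∀ j, InW (fun k => M k (f7 j))

theorem Inv7.one : Inv7 (1 : Matrix chevG2.Idx chevG2.Idx K) := by
  intro j k hk
  apply Matrix.one_apply_ne
  rintro rfl
  exact hk ⟨j, rfl⟩

theorem Inv7.mul {M N : Matrix chevG2.Idx chevG2.Idx K} (hM : Inv7 M) (hN : Inv7 N) : Inv7 (M * N) := by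
  intro j k hk
  show (M * N) k (f7 j) = 0
  rw [Matrix.mul_apply]
  apply Finset.sum_eq_zero
  intro l _
  by_cases hl : l ∈ Set.range f7
  · obtain ⟨i, rfl⟩ := hl
    have := hM i k hk
    simp only at this
    rw [this, zero_mul]
  · have := hN j l hl
    simp only at this
    rw [this, mul_zero]

theorem sub7_mul {M N : Matrix chevG2.Idx chevG2.Idx K} (hN : Inv7 N) : (M * N).submatrix f7 f7 = M.submatrix f7 f7 * N.submatrix f7 f7 := by
  ext i j
  rw [Matrix.submatrix_apply, Matrix.mul_apply, Matrix.mul_apply]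
  symm
  apply Fintype.sum_of_injective f7 f7_inj
  · intro k hk
    have := hN j k hk
    simp only at this
    rw [this, mul_zero]
  · intro l; rfl

theorem Inv7.x (h3 : (3 : K) = 0) (r : ℕ) (t : K) : Inv7 (chevG2.x K r t) := by
  by_cases hr : r < 12
  · have hcol : ∀ (s : Fin 12), shG s.val = true → InW (fun k => chevG2.x K r t k (Sum.inr s)) := by
      intro s hs k hk
      have := InW.xe h3 hr s.isLt hs t k hk
      rw [mulVec_eV (D := chevG2) _ s.isLt] at this
      exact this
    intro j
    have hj : ∀ j : Fin 7, j = 0 ∨ j = 1 ∨ j = 2 ∨ j = 3 ∨ j = 4 ∨ j = 5 ∨ j = 6 := by decide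
    rcases hj j with rfl | rfl | rfl | rfl | rfl | rfl | rfl
    · intro k hk
      have := InW.xh h3 hr t k hk
      rw [mulVec_hV (D := chevG2) _ (by decide : (0 : ℕ) < 2)] at this
      exact this
    · exact hcol 2 rfl
    · exact hcol 3 rfl
    · exact hcol 4 rfl
    · exact hcol 7 rfl
    · exact hcol 8 rfl
    · exact hcol 9 rfl
  · have : chevG2.x K r t = 1 := by
      unfold ChevalleyDatum.x
      exact dif_neg hr
    rw [this]; exact Inv7.one

theorem Inv7.word (h3 : (3 : K) = 0) (w : List (ℕ × K)) : Inv7 (chevG2.wordMat K w) := by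
  unfold ChevalleyDatum.wordMat
  induction w with
  | nil => exact Inv7.one
  | cons a w ih =>
    rw [List.map_cons, List.prod_cons]
    exact Inv7.mul (Inv7.x h3 _ _) ih

theorem Inv7.pow {M : Matrix chevG2.Idx chevG2.Idx K} (hM : Inv7 M) (k : ℕ) : Inv7 (M ^ k) := by
  induction k with
  | zero => rw [pow_zero]; exact Inv7.one
  | succ k ih => rw [pow_succ]; exact Inv7.mul ih hM

theorem Inv7.gen [Finite K] (h3 : (3 : K) = 0) (S : Set (List (ℕ × K))) {g : GL chevG2.Idx K} (hg : g ∈ chevG2.genSubgroup K S) :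
    Inv7 (g : Matrix chevG2.Idx chevG2.Idx K) := by
  induction hg using Subgroup.closure_induction with
  | mem x hx =>
    obtain ⟨w, _, e⟩ := hx
    rw [e]; exact Inv7.word h3 w
  | one => exact Inv7.one
  | mul x y _ _ hx hy => rw [Units.val_mul]; exact Inv7.mul hx hy
  | inv x _ hx =>
    have : x⁻¹ = x ^ (orderOf x - 1) := by
      rw [eq_comm, ← mul_eq_one_iff_eq_inv, ← pow_succ]
      rw [Nat.sub_add_cancel (orderOf_pos x)]
      exact pow_orderOf_eq_one x
    rw [this, Units.val_pow_eq_pow_val]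
    exact Inv7.pow hx _

end K

/-- the 7-dimensional representation -/
noncomputable def rho7 {K : Type*} [Field K] [Fintype K] (h3 : (3 : K) = 0) (m : ℕ) : ↥(twistedG2 K (3 ^ m)) →* Matrix (Fin 7) (Fin 7) K where
  toFun g := (g.1 : Matrix chevG2.Idx chevG2.Idx K).submatrix f7 f7
  map_one' := by
    show (1 : Matrix chevG2.Idx chevG2.Idx K).submatrix f7 f7 = 1
    exact Matrix.submatrix_one f7 f7_inj
  map_mul' g h := by
    show ((g.1 * h.1 : GL chevG2.Idx K) : Matrix chevG2.Idx chevG2.Idx K).submatrix f7 f7 = _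
    rw [Units.val_mul]
    exact sub7_mul (Inv7.gen h3 _ h.2)

end CfsgLib.ReeA
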