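import Cfsg.Agent.LibRee16

set_option autoImplicit false
set_option linter.unusedSectionVars false
set_option linter.unusedVariables false
set_option linter.unusedSimpArgs false

/-! Eigenfunctionals of matrices over finite fields -/

namespace CfsgLib.Eig7

open Matrix Polynomial

section
variable {K L : Type*} [Field K] [Fintype K] [Field L] [Algebra K L]

/-- Frobenius conjugates are distinct -/
def Hd (K : Type*) [Fintype K] {L : Type*} [Field L] (ζ : L) : Prop := Function.Injective (fun i : Fin 6 => ζ ^ (Fintype.card K ^ (i : ℕ)))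

/-- eigenfunctional -/
def EF (T : Matrix (Fin 7) (Fin 7) K) (ζ : L) (ψ : (Fin 7 → K) →ₗ[K] L) : Prop := ∀ w, ψ (T *ᵥ w) = ζ * ψ w

theorem aeval_frob (P : K[X]) (ζ : L) (h : aeval ζ P = 0) (i : ℕ) : aeval (ζ ^ (Fintype.card K ^ i)) P = 0 := by
  induction i with
  | zero => simpa using h
  | succ i ih =>
    have h1 := expand_aeval (Fintype.card K) P (ζ ^ (Fintype.card K ^ i))
    rw [FiniteField.expand_card, map_pow, ih, zero_pow Fintype.card_ne_zero, ← pow_mul, ← pow_succ] at h1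
    exact h1.symm

theorem li6 {ζ : L} (hd : Hd K ζ) {P : K[X]} (hP : P.natDegree < 6) (h : aeval ζ P = 0) : P = 0 := by
  have h1 : P.map (algebraMap K L) = 0 := by
    apply eq_zero_of_natDegree_lt_card_of_eval_eq_zero _ hd
    · intro i
      rw [eval_map_algebraMap]
      exact aeval_frob P ζ h i
    · rw [Fintype.card_fin, natDegree_map]; exact hP
  exact (Polynomial.map_eq_zero _).1 h1

theorem EF.pow {T : Matrix (Fin 7) (Fin 7) K} {ζ : L} {ψ : (Fin 7 → K) →ₗ[K] L} (h : EF T ζ ψ) (j : ℕ) (w : Fin 7 → K) :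
    ψ (T ^ j *ᵥ w) = ζ ^ j * ψ w := by
  induction j with
  | zero => simp
  | succ j ih => rw [pow_succ', ← Matrix.mulVec_mulVec, h, ih, pow_succ']; ring

theorem EF.li {T : Matrix (Fin 7) (Fin 7) K} {ζ : L} {ψ : (Fin 7 → K) →ₗ[K] L} (h : EF T ζ ψ) (hd : Hd K ζ) {w : Fin 7 → K} (hw : ψ w ≠ 0)
    (a : Fin 6 → K) (ha : ∑ j, a j • ψ (T ^ (j : ℕ) *ᵥ w) = 0) : ∀ j, a j = 0 := by
  have h1 : (∑ j : Fin 6, C (a j) * X ^ (j : ℕ) : K[X]) = 0 := by
    apply li6 hd
    · have : (∑ j : Fin 6, C (a j) * X ^ (j : ℕ) : K[X]).natDegree ≤ 5 := by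
        apply natDegree_sum_le_of_forall_le
        intro j _
        exact (natDegree_C_mul_X_pow_le _ _).trans (by omega)
      omega
    · rw [map_sum]
      have h2 : (∑ j : Fin 6, aeval ζ (C (a j) * X ^ (j : ℕ) : K[X])) * ψ w = 0 := by
        rw [Finset.sum_mul, ← ha]
        apply Finset.sum_congr rfl
        intro j _
        rw [h.pow, map_mul, aeval_C, map_pow, aeval_X, Algebra.smul_def, mul_assoc]
      exact (mul_eq_zero.1 h2).resolve_right hw
  intro j
  have h2 := congrArg (fun P : K[X] => P.coeff (j : ℕ)) h1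
  simp only [finset_sum_coeff, coeff_C_mul, coeff_X_pow, coeff_zero] at h2
  rw [Finset.sum_eq_single j] at h2
  · simpa using h2
  · intro b _ hb
    rw [if_neg, mul_zero]
    intro e; exact hb (Fin.ext e.symm)
  · intro h; exact absurd (Finset.mem_univ _) h

theorem EF.ker_le {T : Matrix (Fin 7) (Fin 7) K} {ζ : L} {ψ : (Fin 7 → K) →ₗ[K] L} (h : EF T ζ ψ) (hd : Hd K ζ) (h0 : ψ ≠ 0) :
    Module.finrank K (LinearMap.ker ψ) ≤ 1 := by
  obtain ⟨w, hw⟩ : ∃ w, ψ w ≠ 0 := by
    by_contra hcon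
    push Not at hcon
    exact h0 (LinearMap.ext hcon)
  have h1 := LinearMap.finrank_range_add_finrank_ker ψ
  rw [Module.finrank_fin_fun] at h1
  have h2 : LinearIndependent K (fun j : Fin 6 => (⟨ψ (T ^ (j : ℕ) *ᵥ w), LinearMap.mem_range_self _ _⟩ : LinearMap.range ψ)) := by
    rw [Fintype.linearIndependent_iff]
    intro a ha
    apply h.li hd hw a
    have := congrArg Subtype.val ha
    simpa using this
  have h3 := h2.fintype_card_le_finrank
  rw [Fintype.card_fin] at h3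
  omega

theorem EF.unique {T : Matrix (Fin 7) (Fin 7) K} {ζ : L} {ψ θ : (Fin 7 → K) →ₗ[K] L} (h : EF T ζ ψ) (hd : Hd K ζ) (h0 : ψ ≠ 0) (h' : EF T ζ θ) :
    ∃ μ : L, ∀ w, θ w = μ * ψ w := by
  obtain ⟨w0, hw⟩ : ∃ w, ψ w ≠ 0 := by
    by_contra hcon
    push Not at hcon
    exact h0 (LinearMap.ext hcon)
  refine ⟨θ w0 / ψ w0, ?_⟩
  set μ := θ w0 / ψ w0 with hμ
  let η : (Fin 7 → K) →ₗ[K] L := θ - (LinearMap.mulLeft K μ).comp ψ
  have hη : ∀ w, η w = θ w - μ * ψ w := fun w => rfl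
  have hη1 : EF T ζ η := by
    intro w
    rw [hη, hη, h, h']; ring
  by_contra hcon
  push Not at hcon
  obtain ⟨w, hw'⟩ := hcon
  have hne : η ≠ 0 := by
    intro e
    apply hw'
    have := congrArg (fun f : (Fin 7 → K) →ₗ[K] L => f w) e
    exact sub_eq_zero.1 this
  have h1 := hη1.ker_le hd hne
  have hη0 : η w0 = 0 := by rw [hη, hμ, div_mul_cancel₀ _ hw, sub_self]
  have h2 : LinearIndependent K (fun j : Fin 6 => (⟨T ^ (j : ℕ) *ᵥ w0, by
      rw [LinearMap.mem_ker, hη1.pow, hη0, mul_zero]⟩ : LinearMap.ker η)) := by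
    rw [Fintype.linearIndependent_iff]
    intro a ha
    apply h.li hd hw a
    have h3 := congrArg Subtype.val ha
    have h4 : ∑ j, a j • (T ^ (j : ℕ) *ᵥ w0) = 0 := by simpa using h3
    have h5 := congrArg ψ h4
    rw [map_sum, map_zero] at h5
    rw [← h5]
    apply Finset.sum_congr rfl
    intro j _
    rw [map_smul]
  have h3 := h2.fintype_card_le_finrank
  rw [Fintype.card_fin] at h3
  omega

theorem mulVec_aeval (T : Matrix (Fin 7) (Fin 7) K) (P : K[X]) {ζ : L} {ψ : (Fin 7 → K) →ₗ[K] L} (h : EF T ζ ψ) (w : Fin 7 → K) :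
    ψ ((aeval T P) *ᵥ w) = aeval ζ P * ψ w := by
  induction P using Polynomial.induction_on' with
  | add p q hp hq => rw [map_add, map_add, Matrix.add_mulVec, map_add, hp, hq, add_mul]
  | monomial n a =>
    rw [aeval_monomial, aeval_monomial, Algebra.algebraMap_eq_smul_one, smul_mul_assoc, one_mul, Matrix.smul_mulVec, map_smul, h.pow, Algebra.smul_def, mul_assoc]

theorem EF.charpoly {T : Matrix (Fin 7) (Fin 7) K} {ζ : L} {ψ : (Fin 7 → K) →ₗ[K] L} (h : EF T ζ ψ) (h0 : ψ ≠ 0) : aeval ζ T.charpoly = 0 := by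
  obtain ⟨w0, hw⟩ : ∃ w, ψ w ≠ 0 := by
    by_contra hcon
    push Not at hcon
    exact h0 (LinearMap.ext hcon)
  have h1 := mulVec_aeval T T.charpoly h w0
  rw [Matrix.aeval_self_charpoly, Matrix.zero_mulVec, map_zero] at h1
  exact (mul_eq_zero.1 h1.symm).resolve_right hw

/-- two eigenvalues are conjugate -/
theorem conj_eig {T : Matrix (Fin 7) (Fin 7) K} {ζ ζ' : L} {ψ ψ' : (Fin 7 → K) →ₗ[K] L} (h : EF T ζ ψ) (h' : EF T ζ' ψ') (h0 : ψ ≠ 0) (h0' : ψ' ≠ 0)
    (hd : Hd K ζ) (hd' : Hd K ζ') (hp : ζ ^ (Fintype.card K ^ 6) = ζ) (hp' : ζ' ^ (Fintype.card K ^ 6) = ζ') :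
    ∃ i : ℕ, ζ' = ζ ^ (Fintype.card K ^ i) := by
  by_contra hcon
  push Not at hcon
  let F : Fin 6 ⊕ Fin 6 → L := Sum.elim (fun i => ζ ^ (Fintype.card K ^ (i : ℕ))) (fun i => ζ' ^ (Fintype.card K ^ (i : ℕ)))
  have hF : Function.Injective F := by
    apply Function.Injective.sumElim hd hd'
    intro i j e
    apply hcon (i + (6 - j))
    have hj : (j : ℕ) + (6 - j) = 6 := by omega
    calc ζ' = ζ' ^ (Fintype.card K ^ 6) := hp'.symm
      _ = (ζ' ^ (Fintype.card K ^ (j : ℕ))) ^ (Fintype.card K ^ (6 - (j : ℕ))) := by rw [← pow_mul, ← pow_add, hj]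
      _ = (ζ ^ (Fintype.card K ^ (i : ℕ))) ^ (Fintype.card K ^ (6 - (j : ℕ))) := by rw [e]
      _ = _ := by rw [← pow_mul, ← pow_add]
  have h1 : T.charpoly.map (algebraMap K L) = 0 := by
    apply eq_zero_of_natDegree_lt_card_of_eval_eq_zero _ hF
    · rintro (i | i)
      · rw [eval_map_algebraMap]
        exact aeval_frob _ ζ (h.charpoly h0) i
      · rw [eval_map_algebraMap]
        exact aeval_frob _ ζ' (h'.charpoly h0') i
    · rw [natDegree_map, Matrix.charpoly_natDegree_eq_dim, Fintype.card_sum, Fintype.card_fin, Fintype.card_fin]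
      norm_num
  have h2 := (Polynomial.map_eq_zero _).1 h1
  exact (Matrix.charpoly_monic T).ne_zero h2

end

/-- existence of eigenfunctionals -/
theorem exists_EF {K L : Type*} [Field K] [Fintype K] [Field L] [Algebra K L] {T : Matrix (Fin 7) (Fin 7) K} (hT : T ≠ 1) {p : ℕ} (hp : 0 < p)
    (hTp : T ^ p = 1) {ζ0 : L} (hζ : IsPrimitiveRoot ζ0 p) :
    ∃ (ζ : L) (ψ : (Fin 7 → K) →ₗ[K] L), ζ ^ p = 1 ∧ ζ ≠ 1 ∧ ψ ≠ 0 ∧ EF T ζ ψ := by
  classical
  set TL := T.map (algebraMap K L) with hTL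
  have hinj : Function.Injective (algebraMap K L) := (algebraMap K L).injective
  have hTL1 : TL ≠ 1 := by
    intro e
    apply hT
    have h1 : (1 : Matrix (Fin 7) (Fin 7) L) = (1 : Matrix (Fin 7) (Fin 7) K).map (algebraMap K L) := by
      rw [Matrix.map_one _ (map_zero _) (map_one _)]
    rw [h1, hTL] at e
    exact Matrix.map_injective hinj e
  have hTLp : TL ^ p = 1 := by
    have : TL = (algebraMap K L).mapMatrix T := rfl
    rw [this, ← map_pow, hTp, map_one]
  -- products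
  have key : ∀ S : Finset L, ∀ M : Matrix (Fin 7) (Fin 7) L, M ≠ 0 → M * aeval TL (∏ ζ ∈ S, (X - C ζ) : L[X]) = 0 →
      ∃ ζ ∈ S, ∃ M' : Matrix (Fin 7) (Fin 7) L, M' ≠ 0 ∧ M' * (TL - algebraMap L _ ζ) = 0 := by
    intro S
    induction S using Finset.induction_on with
    | empty =>
      intro M hM h
      rw [Finset.prod_empty, map_one, mul_one] at h
      exact absurd h hM
    | insert a S ha ih =>
      intro M hM h
      rw [Finset.prod_insert ha, map_mul, map_sub, aeval_X, aeval_C, ← mul_assoc] at h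
      by_cases h1 : M * (TL - algebraMap L _ a) = 0
      · exact ⟨a, Finset.mem_insert_self _ _, M, hM, h1⟩
      · obtain ⟨ζ, hζ, M', h2, h3⟩ := ih _ h1 h
        exact ⟨ζ, Finset.mem_insert_of_mem hζ, M', h2, h3⟩
  have h1 : (1 : L) ∈ nthRootsFinset p (1 : L) := by rw [mem_nthRootsFinset hp]; exact one_pow p
  have hprod := X_pow_sub_one_eq_prod hp hζ
  rw [← Finset.mul_prod_erase _ _ h1] at hprod
  have h2 : (TL - 1) * aeval TL (∏ ζ ∈ (nthRootsFinset p (1 : L)).erase 1, (X - C ζ) : L[X]) = 0 := by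
    have h3 := congrArg (aeval TL) hprod
    rw [map_mul, map_sub, map_sub, map_pow, aeval_X, aeval_C, map_one, map_one, hTLp, sub_self] at h3
    exact h3.symm
  obtain ⟨ζ, hζS, M, hM, hM2⟩ := key _ (TL - 1) (sub_ne_zero.2 hTL1) h2
  rw [Finset.mem_erase, mem_nthRootsFinset hp] at hζS
  obtain ⟨i, j, hij⟩ : ∃ i j, M i j ≠ 0 := by
    by_contra hcon
    push Not at hcon
    exact hM (by ext i j; exact hcon i j)
  let ψ : (Fin 7 → K) →ₗ[K] L :=
    { toFun := fun w => ∑ k, M i k * algebraMap K L (w k)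
      map_add' := by intro v w; simp [mul_add, Finset.sum_add_distrib]
      map_smul' := by
        intro c v
        simp only [Pi.smul_apply, smul_eq_mul, map_mul, RingHom.id_apply, Algebra.smul_def, Finset.mul_sum]
        apply Finset.sum_congr rfl
        intro k _
        ring }
  have hψ : ∀ w, ψ w = ∑ k, M i k * algebraMap K L (w k) := fun w => rfl
  refine ⟨ζ, ψ, hζS.2, hζS.1, ?_, ?_⟩
  · intro e
    apply hij
    have h4 : ψ (Pi.single j 1) = 0 := by rw [e]; rfl
    rw [hψ, Finset.sum_eq_single j] at h4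
    · simpa using h4
    · intro k _ hk; rw [Pi.single_eq_of_ne hk, map_zero, mul_zero]
    · intro h; exact absurd (Finset.mem_univ _) h
  · intro w
    have h4 : ∀ k, ∑ l, M i l * TL l k = ζ * M i k := by
      intro k
      have h5 := congrArg (fun N : Matrix (Fin 7) (Fin 7) L => N i k) hM2
      simp only [mul_sub, Matrix.sub_apply, Matrix.zero_apply] at h5
      rw [sub_eq_zero, Matrix.mul_apply] at h5
      rw [h5, Algebra.algebraMap_eq_smul_one, mul_smul_comm, mul_one, Matrix.smul_apply, smul_eq_mul]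
    rw [hψ, hψ, Finset.mul_sum]
    have h6 : ∀ l, M i l * algebraMap K L ((T *ᵥ w) l) = ∑ k, M i l * TL l k * algebraMap K L (w k) := by
      intro l
      rw [Matrix.mulVec, dotProduct, map_sum, Finset.mul_sum]
      apply Finset.sum_congr rfl
      intro k _
      rw [map_mul, hTL, Matrix.map_apply, mul_assoc]
    rw [Finset.sum_congr rfl (fun l _ => h6 l), Finset.sum_comm]
    apply Finset.sum_congr rfl
    intro k _
    rw [← Finset.sum_mul, h4, mul_assoc]

end CfsgLib.Eig7
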