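import Cfsg.Agent.LibRee1

set_option autoImplicit false
set_option linter.unusedSectionVars false
set_option linter.unusedVariables false

/-! The small Ree groups: elements of U and H -/

namespace CfsgLib.Chev.TwG2

open Cfsg.Lie Matrix CfsgLib.Chev CfsgLib.Rank1
open scoped commutatorElement

variable {K : Type*} [Field K] [Fintype K] [CharP K 3]

theorem zchk : (chkWordsP 3 tG2.acc [(8, [((1, 1, 0) : Mon)]), (7, [((1, 0, 1) : Mon)])] [(7, [((1, 0, 1) : Mon)]), (8, [((1, 1, 0) : Mon)]), (9, [((-1, 1, 1) : Mon)])] &&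
  chkWordsP 3 tG2.acc [(10, [((1, 1, 0) : Mon)]), (6, [((1, 0, 1) : Mon)])] [(6, [((1, 0, 1) : Mon)]), (10, [((1, 1, 0) : Mon)]), (11, [((-1, 1, 1) : Mon)])] &&
  cmB 8 6 && cmB 9 6 && cmB 9 7 && cmB 10 7 && cmB 11 6 && cmB 11 7 &&
  chkWordsP 3 tG2.acc [(7, [((1, 0, 1) : Mon)]), (6, [((1, 1, 0) : Mon)]), (7, [((1, 0, 1) : Mon)]), (6, [((1, 1, 0) : Mon)]), (7, [((1, 0, 1) : Mon)]), (6, [((1, 1, 0) : Mon)])]
    [(9, [((-1, 1, 2) : Mon)]), (11, [((-1, 2, 3) : Mon)])]) = true := by decide +kernel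

theorem R8_w (a b c d T t : K) : R8 a b c d * (X 7 T * X 6 t) = (X 7 T * X 6 t) * R8 a (b - a * T) c (d - c * t) := by
  have h := zchk
  simp only [Bool.and_eq_true] at h
  obtain ⟨⟨⟨⟨⟨⟨⟨⟨h1, h2⟩, h3⟩, h4⟩, h5⟩, h6⟩, h7⟩, h8⟩, h9⟩ := h
  have e87 : X 8 a * X 7 T = X 7 T * (X 8 a * X 9 (-(a * T))) := by
    have := good3_G2.wd_eq_of_chk2 (hp3 (K := K)) a T h1
    simpa [Good3.wd, pev, mev, mul_assoc] using this
  have e106 : X 10 c * X 6 t = X 6 t * (X 10 c * X 11 (-(c * t))) := by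
    have := good3_G2.wd_eq_of_chk2 (hp3 (K := K)) c t h2
    simpa [Good3.wd, pev, mev, mul_assoc] using this
  have c86 := (comm_of 8 6 h3 a t).eq
  have c96 := (comm_of 9 6 h4 b t).eq
  have c96' := (comm_of 9 6 h4 (-(a * T)) t).eq
  have c97 := (comm_of 9 7 h5 b T).eq
  have c107 := (comm_of 10 7 h6 c T).eq
  have c116 := (comm_of 11 6 h7 d t).eq
  have c117 := (comm_of 11 7 h8 d T).eq
  have e1 : R8 a b c d * X 7 T = X 7 T * (X 8 a * X 9 (-(a * T)) * X 9 b * X 10 c * X 11 d) := by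
    unfold R8
    calc X 8 a * X 9 b * X 10 c * X 11 d * X 7 T = X 8 a * X 9 b * X 10 c * (X 11 d * X 7 T) := by group
      _ = X 8 a * X 9 b * (X 10 c * X 7 T) * X 11 d := by rw [c117]; group
      _ = X 8 a * (X 9 b * X 7 T) * X 10 c * X 11 d := by rw [c107]; group
      _ = (X 8 a * X 7 T) * X 9 b * X 10 c * X 11 d := by rw [c97]; group
      _ = _ := by rw [e87]; group
  have e2 : (X 8 a * X 9 (-(a * T)) * X 9 b * X 10 c * X 11 d) * X 6 t = X 6 t * (X 8 a * X 9 (-(a * T)) * X 9 b * (X 10 c * X 11 (-(c * t))) * X 11 d) := by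
    calc (X 8 a * X 9 (-(a * T)) * X 9 b * X 10 c * X 11 d) * X 6 t = X 8 a * X 9 (-(a * T)) * X 9 b * X 10 c * (X 11 d * X 6 t) := by group
      _ = X 8 a * X 9 (-(a * T)) * X 9 b * (X 10 c * X 6 t) * X 11 d := by rw [c116]; group
      _ = X 8 a * X 9 (-(a * T)) * (X 9 b * X 6 t) * (X 10 c * X 11 (-(c * t))) * X 11 d := by rw [e106]; group
      _ = X 8 a * (X 9 (-(a * T)) * X 6 t) * X 9 b * (X 10 c * X 11 (-(c * t))) * X 11 d := by rw [c96]; group
      _ = (X 8 a * X 6 t) * X 9 (-(a * T)) * X 9 b * (X 10 c * X 11 (-(c * t))) * X 11 d := by rw [c96']; group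
      _ = _ := by rw [c86]; group
  calc R8 a b c d * (X 7 T * X 6 t) = (R8 a b c d * X 7 T) * X 6 t := by group
    _ = X 7 T * ((X 8 a * X 9 (-(a * T)) * X 9 b * X 10 c * X 11 d) * X 6 t) := by rw [e1]; group
    _ = X 7 T * X 6 t * (X 8 a * (X 9 (-(a * T)) * X 9 b) * X 10 c * (X 11 (-(c * t)) * X 11 d)) := by rw [e2]; group
    _ = _ := by
      have a1 : X 9 (-(a * T)) * X 9 b = X 9 (b - a * T) := by
        unfold X; rw [← good3_G2.X_add]; congr 1; ring
      have a2 : X 11 (-(c * t)) * X 11 d = X 11 (d - c * t) := by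
        unfold X; rw [← good3_G2.X_add]; congr 1; ring
      rw [a1, a2]
      rfl

theorem w_cube (T t : K) : (X 7 T * X 6 t) * (X 7 T * X 6 t) * (X 7 T * X 6 t) = R8 0 (-(t * T ^ 2)) 0 (-(t ^ 2 * T ^ 3)) := by
  have h := zchk
  simp only [Bool.and_eq_true] at h
  obtain ⟨_, h9⟩ := h
  have := good3_G2.wd_eq_of_chk2 (hp3 (K := K)) t T h9
  have hz : ∀ r, X r (0 : K) = 1 := fun r => good3_G2.X_zero r
  unfold R8
  rw [hz, hz]
  simpa [Good3.wd, pev, mev, mul_assoc] using this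

theorem three_mul (x : K) : x + x + x = 0 := by
  have h : ((3 : ℕ) : K) = 0 := hp3
  have : x + x + x = ((3 : ℕ) : K) * x := by push_cast; ring
  rw [this, h, zero_mul]

theorem wz_cube (T t a b c d : K) : ((X 7 T * X 6 t) * R8 a b c d) ^ 3 = R8 0 (-(t * T ^ 2)) 0 (-(t ^ 2 * T ^ 3)) := by
  set w := X 7 T * X 6 t with hw
  have h1 : R8 a b c d * w = w * R8 a (b - a * T) c (d - c * t) := R8_w a b c d T t
  have h2 := R8_w (a + a) (b - a * T + b) (c + c) (d - c * t + d) T t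
  rw [← hw] at h2
  have h3 : R8 a (b - a * T) c (d - c * t) * R8 a b c d = R8 (a + a) (b - a * T + b) (c + c) (d - c * t + d) := R8_mul _ _ _ _ _ _ _ _
  calc (w * R8 a b c d) ^ 3 = w * (R8 a b c d * w) * R8 a b c d * w * R8 a b c d := by rw [pow_three]; simp only [mul_assoc]
    _ = w * w * ((R8 a (b - a * T) c (d - c * t) * R8 a b c d) * w) * R8 a b c d := by rw [h1]; group
    _ = w * w * w * (R8 (a + a) (b - a * T + b - (a + a) * T) (c + c) (d - c * t + d - (c + c) * t) * R8 a b c d) := by rw [h3, h2]; group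
    _ = w * w * w := by
      rw [R8_mul]
      have e1 : a + a + a = 0 := three_mul a
      have e2 : b - a * T + b - (a + a) * T + b = 0 := by
        have := three_mul b
        have := three_mul (a * T)
        linear_combination (three_mul b) - (three_mul (a * T))
      have e3 : c + c + c = 0 := three_mul c
      have e4 : d - c * t + d - (c + c) * t + d = 0 := by
        linear_combination (three_mul d) - (three_mul (c * t))
      rw [e1, e2, e3, e4, R8_zero, mul_one]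
    _ = _ := by rw [hw]; exact w_cube T t

section
variable {m : ℕ} {f : K ≃+* K} (hf : ∀ t, f t = t ^ (3 ^ m)) (hK : Fintype.card K = 3 ^ (2 * m + 1))

theorem uW_cube (t u v : K) : (uW f t u v) ^ 3 = R8 0 (-(t * f t ^ 2)) 0 (-(t ^ 2 * f t ^ 3)) := wz_cube _ _ _ _ _ _

theorem uW_cube_one {t u v : K} : (uW f t u v) ^ 3 = 1 ↔ t = 0 := by
  rw [uW_cube, ← R8_zero]
  constructor
  · intro h
    obtain ⟨_, _, _, h4⟩ := R8_inj h
    have h5 : t ^ 2 * f t ^ 3 = 0 := neg_eq_zero.1 h4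
    rcases mul_eq_zero.1 h5 with h | h
    · exact eq_zero_of_pow_eq_zero h
    · have h6 := eq_zero_of_pow_eq_zero h
      exact f.injective (by rw [h6, map_zero])
  · rintro rfl
    congr 1
    · ring
    · ring

theorem uW_one : uW f (0 : K) 0 0 = 1 := by
  rw [uW0, map_zero, R8_zero]

theorem uW_eq_one {t u v : K} : uW f t u v = 1 ↔ t = 0 ∧ u = 0 ∧ v = 0 := by
  constructor
  · intro h
    rw [← uW_one (f := f)] at h
    exact uW_inj h
  · rintro ⟨rfl, rfl, rfl⟩; exact uW_one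

include hf hK in
/-- elements of the torus commuting with elements of U -/
theorem comm_iff0 (s : Kˣ) (u v : K) : hG f s * uW f 0 u v = uW f 0 u v * hG f s ↔ (psi f s : K) * u = u ∧ (s : K) * v = v := by
  rw [← mul_inv_eq_iff_eq_mul, uW0, hG_R8 hf hK]
  constructor
  · intro h
    obtain ⟨_, _, h3, h4⟩ := R8_inj h
    exact ⟨h3, h4⟩
  · rintro ⟨h1, h2⟩
    rw [h1, h2]

include hf hK in
theorem comm_t {s : Kˣ} {t u v : K} (h : hG f s * uW f t u v = uW f t u v * hG f s) : (chi0 f s : K) * t = t := by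
  obtain ⟨p7, p6, _⟩ := pair_vals
  obtain ⟨y2, hy2, c2⟩ := crd1 (f t) t (R8_Uge (t * f t + f u) (t * f t ^ 2 + f v) u v)
  have hh := ((H_iff hf hK).2 ⟨s, rfl⟩ : hG f s ∈ _)
  have c2' : uW f t u v = y2 * X 6 t := c2
  have c3 : hG f s * uW f t u v * (hG f s)⁻¹ = (hG f s * y2 * (hG f s)⁻¹) * good3_G2.X (tG2.sim 1) ((chi0 f s : K) * t) := by
    have h3 := hG_X (f := f) s (r := 6) (by decide) t
    rw [p6.1, p6.2] at h3
    have h4 : good3_G2.X (tG2.sim 1) ((chi0 f s : K) * t) = hG f s * X 6 t * (hG f s)⁻¹ := h3.symm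
    rw [h4, c2']; group
  have hy3 : hG f s * y2 * (hG f s)⁻¹ ∈ good3_G2.Up 1 := good3_G2.Up_H hh.1 hy2
  have h5 : hG f s * uW f t u v * (hG f s)⁻¹ = uW f t u v := by rw [h]; group
  rw [h5] at c3
  exact good3_G2.crd_uniq (i := 1) (by decide) hy3 hy2 (c3.symm.trans c2)

include hf in
/-- exponents -/
theorem psi_pow (s : Kˣ) : psi f s * s = s ^ (3 ^ (m + 1)) := by
  unfold psi
  have h2 : fu f s ^ (3 : ℤ) = s ^ (3 ^ (m + 1)) := by
    rw [show fu f s ^ (3 : ℤ) = fu f s ^ 3 from rfl, fu_pow hf, ← pow_mul, pow_succ]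
  rw [h2, _root_.zpow_neg, zpow_one, inv_mul_cancel_right]

include hf in
theorem chi_pow (s : Kˣ) : chi0 f s * s ^ (3 ^ (m + 1)) = s ^ 2 := by
  unfold chi0
  have h2 : fu f s ^ (3 : ℤ) = s ^ (3 ^ (m + 1)) := by
    rw [show fu f s ^ (3 : ℤ) = fu f s ^ 3 from rfl, fu_pow hf, ← pow_mul, pow_succ]
  rw [← h2, _root_.zpow_neg, mul_comm, ← mul_assoc, mul_inv_cancel, one_mul]
  rfl

include hK in
theorem pow_r_sq (s : Kˣ) : (s ^ (3 ^ (m + 1))) ^ (3 ^ (m + 1)) = s ^ 3 := by
  rw [← pow_mul, ← pow_add]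
  have : m + 1 + (m + 1) = (2 * m + 1) + 1 := by ring
  rw [this, pow_succ, pow_mul]
  congr 1
  apply Units.ext
  rw [Units.val_pow_eq_pow_val, ← hK, FiniteField.pow_card]

include hf hK in
theorem chi_one {s : Kˣ} (h : chi0 f s = 1) : s = 1 := by
  have h1 := chi_pow hf s
  rw [h, one_mul] at h1
  have h2 := pow_r_sq hK s
  rw [h1, ← pow_mul, mul_comm, pow_mul, h1] at h2
  -- s^4 = s^3
  have h3 : s ^ 3 * s = s ^ 3 := by
    rw [← pow_succ]
    calc s ^ 4 = (s ^ 2) ^ 2 := by rw [← pow_mul]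
      _ = s ^ 3 := h2
  exact mul_eq_left.1 h3

include hf hK in
theorem psi_one {s : Kˣ} (h : psi f s = 1) : s ^ 2 = 1 := by
  have h1 := psi_pow hf s
  rw [h, one_mul] at h1
  have h2 := pow_r_sq hK s
  rw [← h1, ← h1] at h2
  -- s = s^3
  have h3 : s ^ 2 * s = 1 * s := by rw [one_mul, ← pow_succ]; exact h2.symm
  exact mul_right_cancel h3

theorem sq_one {s : Kˣ} (h : s ^ 2 = 1) : s = 1 ∨ s = -1 := by
  have h3 := congrArg Units.val h
  rw [Units.val_pow_eq_pow_val, Units.val_one, pow_two] at h3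
  rcases mul_self_eq_one_iff.1 h3 with h | h
  · exact Or.inl (Units.ext h)
  · exact Or.inr (Units.ext (by rw [h]; simp))

include hf in
theorem psi_neg_one : psi f (-1) = 1 := by
  have h := psi_pow hf (-1 : Kˣ)
  have hodd : Odd (3 ^ (m + 1)) := Odd.pow (by decide)
  rw [hodd.neg_one_pow] at h
  exact mul_eq_right.1 h

include hf hK in
/-- an element of the torus commuting with a nontrivial element of U is ±1 -/
theorem comm_pm {s : Kˣ} {t u v : K} (hne : uW f t u v ≠ 1) (h : hG f s * uW f t u v = uW f t u v * hG f s) : s = 1 ∨ s = -1 := by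
  have h1 := comm_t hf hK h
  by_cases ht : t = 0
  · subst ht
    rw [comm_iff0 hf hK] at h
    by_cases hu : u = 0
    · by_cases hv : v = 0
      · exact absurd (uW_eq_one.2 ⟨rfl, hu, hv⟩) hne
      · left
        have := h.2
        exact Units.ext (mul_right_cancel₀ hv (by rw [this]; simp))
    · apply sq_one
      apply psi_one hf hK
      have := h.1
      exact Units.ext (mul_right_cancel₀ hu (by rw [this]; simp))
  · left
    apply chi_one hf hK
    exact Units.ext (mul_right_cancel₀ ht (by rw [h1]; simp))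

include hf hK in
theorem comm_odd {s : Kˣ} {t u v : K} (hne : uW f t u v ≠ 1) (h : hG f s * uW f t u v = uW f t u v * hG f s) (ho : Odd (orderOf s)) : s = 1 := by
  rcases comm_pm hf hK hne h with h1 | h1
  · exact h1
  · exfalso
    rw [h1] at ho
    have h2 : (-1 : Kˣ) ^ 2 = 1 := by simp
    have h3 := orderOf_dvd_of_pow_eq_one h2
    have h4 : orderOf (-1 : Kˣ) = 1 := by
      rcases (Nat.dvd_prime Nat.prime_two).1 h3 with h | h
      · exact h
      · rw [h] at ho; exact absurd ho (by decide)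
    rw [orderOf_eq_one_iff] at h4
    have h5 := congrArg Units.val h4
    simp only [Units.val_neg, Units.val_one] at h5
    have h6 : (2 : K) = 0 := by
      have : (1 : K) + 1 = 0 := by nth_rewrite 1 [← h5]; ring
      rw [← this]; norm_num
    have h7 : (1 : K) = 0 := by
      have h8 := hp3 (K := K)
      push_cast at h8
      calc (1 : K) = 3 - 2 := by norm_num
        _ = 0 := by rw [h6, h8, sub_zero]
    exact one_ne_zero h7

end
end CfsgLib.Chev.TwG2
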