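import Cfsg.Agent.LibRee19

set_option autoImplicit false
set_option linter.unusedSectionVars false
set_option linter.unusedVariables false
set_option linter.unusedSimpArgs false

/-! Centralisers of elements with a primitive divisor order in 7-dimensional groups -/

namespace CfsgLib.Eig7

open Matrix Polynomial

theorem pow_modEq {L : Type*} [Field L] {ζ : L} (h0 : ζ ≠ 0) {a b : ℕ} (h : ζ ^ a = ζ ^ b) : a ≡ b [MOD orderOf ζ] := by
  have h1 : (Units.mk0 ζ h0) ^ a = (Units.mk0 ζ h0) ^ b := by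
    ext; simpa using h
  have h2 := (pow_inj_mod (x := Units.mk0 ζ h0)).1 h1
  rw [← orderOf_units, Units.val_mk0] at h2
  exact h2

section
variable {K L : Type*} [Field K] [Fintype K] [Field L] [Algebra K L]

theorem Hd_of {p : ℕ} (hp : p.Prime) (h6 : ∀ d, 0 < d → d < 6 → ¬ p ∣ Fintype.card K ^ d - 1) (h6' : p ∣ Fintype.card K ^ 6 - 1)
    {ζ : L} (h1 : ζ ^ p = 1) (h2 : ζ ≠ 1) : Hd K ζ ∧ ζ ^ (Fintype.card K ^ 6) = ζ := by
  set q := Fintype.card K with hq
  have hq0 : 0 < q := Fintype.card_pos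
  have ho : orderOf ζ = p := by
    have : Fact p.Prime := ⟨hp⟩
    exact orderOf_eq_prime h1 h2
  have hpq : Nat.Coprime p q := by
    rw [Nat.Prime.coprime_iff_not_dvd hp]
    intro h
    have h3 : p ∣ q ^ 6 := dvd_pow h (by norm_num)
    have h4 := Nat.dvd_sub h3 h6'
    have h5 : q ^ 6 - (q ^ 6 - 1) = 1 := by
      have : 1 ≤ q ^ 6 := Nat.one_le_pow _ _ hq0
      omega
    rw [h5] at h4
    exact hp.one_lt.ne' (Nat.dvd_one.1 h4)
  have key : ∀ i j : ℕ, i < j → j < 6 → ζ ^ (q ^ i) ≠ ζ ^ (q ^ j) := by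
    intro i j hij hj e
    have hζ0 : ζ ≠ 0 := by
      rintro rfl
      rw [zero_pow hp.ne_zero] at h1
      exact zero_ne_one h1
    have h4 := pow_modEq hζ0 e
    rw [ho] at h4
    have h5 : p ∣ q ^ j - q ^ i := (Nat.modEq_iff_dvd' (Nat.pow_le_pow_right hq0 hij.le)).1 h4
    have h7 : q ^ j - q ^ i = q ^ i * (q ^ (j - i) - 1) := by
      rw [Nat.mul_sub, mul_one, ← pow_add, Nat.add_sub_cancel' hij.le]
    rw [h7] at h5
    exact h6 (j - i) (by omega) (by omega) ((Nat.Coprime.pow_right i hpq).dvd_of_dvd_mul_left h5)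
  constructor
  · intro i j e
    rcases lt_trichotomy (i : ℕ) (j : ℕ) with h | h | h
    · exact absurd e (key i j h j.isLt)
    · exact Fin.ext h
    · exact absurd e.symm (key j i h i.isLt)
  · obtain ⟨k, hk⟩ := h6'
    have h3 : q ^ 6 = p * k + 1 := by
      have : 1 ≤ q ^ 6 := Nat.one_le_pow _ _ hq0
      omega
    rw [h3, pow_succ, pow_mul, h1, one_pow, one_mul]

end

section grp
variable {G : Type*} [Group G] [Finite G] {K : Type*} [Field K] [Fintype K]

/-- the centraliser is cyclic -/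
theorem cent_cyclic (h3 : (3 : K) = 0) (ρ : G →* Matrix (Fin 7) (Fin 7) K) (hρ : Function.Injective ρ) {x : G} {p : ℕ} (hp : p.Prime)
    (hox : orderOf x = p) (h6 : ∀ d, 0 < d → d < 6 → ¬ p ∣ Fintype.card K ^ d - 1) (h6' : p ∣ Fintype.card K ^ 6 - 1)
    (hc : ∀ y : G, y * x = x * y → (orderOf y).Coprime 3 ∧ (orderOf y).Coprime (Fintype.card K - 1)) : IsCyclic ↥(Subgroup.centralizer {x}) := by
  classical
  let L := AlgebraicClosure K
  have hpK : ((p : ℕ) : L) ≠ 0 := by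
    intro e
    have e1 : algebraMap K L (p : K) = algebraMap K L 0 := by rw [map_natCast, map_zero]; exact e
    have e2 : (p : K) = 0 := (algebraMap K L).injective e1
    have h3' : ((3 : ℕ) : K) = 0 := by push_cast; exact h3
    have := hc x rfl
    rw [hox] at this
    have hcop : Nat.Coprime p 3 := this.1
    have hg := Nat.gcd_eq_gcd_ab p 3
    rw [hcop] at hg
    have h1 := congrArg (fun z : ℤ => (z : K)) hg
    simp only [Nat.cast_one, Int.cast_one, Int.cast_add, Int.cast_mul, Int.cast_natCast] at h1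
    rw [e2, h3', zero_mul, zero_mul, add_zero] at h1
    exact one_ne_zero h1
  have : NeZero ((p : ℕ) : L) := ⟨hpK⟩
  have := IsSepClosed.hasEnoughRootsOfUnity L p
  obtain ⟨ζ0, hζ0⟩ := HasEnoughRootsOfUnity.exists_primitiveRoot L p
  have hx1 : x ≠ 1 := by
    rintro rfl
    rw [orderOf_one] at hox
    exact hp.one_lt.ne hox
  have hT1 : ρ x ≠ 1 := by
    intro e; apply hx1; apply hρ; rw [e, map_one]
  obtain ⟨ζ, ψ, hζ1, hζ2, hψ0, hψ⟩ := exists_EF (L := L) hT1 hp.pos (by rw [← map_pow, ← hox, pow_orderOf_eq_one, map_one]) hζ0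
  obtain ⟨hd, -⟩ := Hd_of (K := K) hp h6 h6' hζ1 hζ2
  -- the character
  have hEF : ∀ c : ↥(Subgroup.centralizer {x}), EF (ρ x) ζ (ψ.comp (Matrix.mulVecLin (ρ c.1))) := by
    intro c w
    show ψ (ρ c.1 *ᵥ (ρ x *ᵥ w)) = ζ * ψ (ρ c.1 *ᵥ w)
    rw [Matrix.mulVec_mulVec, ← map_mul, Subgroup.mem_centralizer_singleton_iff.1 c.2, map_mul, ← Matrix.mulVec_mulVec, hψ]
  have hμ : ∀ c : ↥(Subgroup.centralizer {x}), ∃ μ : L, ∀ w, ψ (ρ c.1 *ᵥ w) = μ * ψ w := fun c => hψ.unique hd hψ0 (hEF c)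
  choose μ hμ using hμ
  obtain ⟨w0, hw0⟩ : ∃ w, ψ w ≠ 0 := by
    by_contra hcon
    push Not at hcon
    exact hψ0 (LinearMap.ext hcon)
  let f : ↥(Subgroup.centralizer {x}) →* L :=
    { toFun := μ
      map_one' := by
        apply mul_right_cancel₀ hw0
        rw [← hμ]
        show ψ (ρ 1 *ᵥ w0) = 1 * ψ w0
        rw [map_one, Matrix.one_mulVec, one_mul]
      map_mul' := by
        intro c d
        apply mul_right_cancel₀ hw0
        rw [← hμ]
        show ψ (ρ (c.1 * d.1) *ᵥ w0) = μ c * μ d * ψ w0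
        rw [map_mul, ← Matrix.mulVec_mulVec, hμ, hμ, mul_assoc] }
  apply isCyclic_of_injective_ringHom f
  rw [injective_iff_map_eq_one]
  intro c hcμ
  have hc1 : ∀ w, ψ (ρ c.1 *ᵥ w) = ψ w := by
    intro w; rw [hμ]; have : μ c = 1 := hcμ; rw [this, one_mul]
  have hker := hψ.ker_le hd hψ0
  rw [finrank_le_one_iff] at hker
  obtain ⟨⟨v0, hv0⟩, hgen⟩ := hker
  rw [LinearMap.mem_ker] at hv0
  have hgen' : ∀ w, ψ w = 0 → ∃ a : K, w = a • v0 := by
    intro w hw
    obtain ⟨a, ha⟩ := hgen ⟨w, LinearMap.mem_ker.2 hw⟩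
    exact ⟨a, (congrArg Subtype.val ha).symm⟩
  have hsub : ∀ w, ∃ a : K, ρ c.1 *ᵥ w = w + a • v0 := by
    intro w
    obtain ⟨a, ha⟩ := hgen' (ρ c.1 *ᵥ w - w) (by rw [map_sub, hc1, sub_self])
    exact ⟨a, by rw [← ha]; abel⟩
  obtain ⟨κ, hκ⟩ := hgen' (ρ c.1 *ᵥ v0) (by rw [hc1, hv0])
  set n := orderOf c.1 with hn
  have hcn := hc c.1 (Subgroup.mem_centralizer_singleton_iff.1 c.2)
  have hfix : ρ c.1 *ᵥ v0 = v0 := by
    by_cases hv : v0 = 0
    · rw [hv, Matrix.mulVec_zero]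
    · have hpow : ∀ k : ℕ, ρ (c.1 ^ k) *ᵥ v0 = κ ^ k • v0 := by
        intro k
        induction k with
        | zero => simp
        | succ k ih => rw [pow_succ, map_mul, ← Matrix.mulVec_mulVec, hκ, Matrix.mulVec_smul, ih, smul_smul, pow_succ']
      have h1 := hpow n
      rw [hn, pow_orderOf_eq_one, map_one, Matrix.one_mulVec, ← hn] at h1
      have hκn : κ ^ n = 1 := by
        obtain ⟨i, hi⟩ : ∃ i, v0 i ≠ 0 := by
          by_contra hcon
          push Not at hcon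
          exact hv (funext hcon)
        have h2 := congrFun h1 i
        rw [Pi.smul_apply, smul_eq_mul] at h2
        exact mul_right_cancel₀ hi (by rw [← h2, one_mul])
      have hκ0 : κ ≠ 0 := by
        rintro rfl
        rw [zero_pow (orderOf_pos c.1).ne'] at hκn
        exact zero_ne_one hκn
      have hκq : κ ^ (Fintype.card K - 1) = 1 := FiniteField.pow_card_sub_one_eq_one κ hκ0
      have h4 : orderOf κ ∣ Nat.gcd n (Fintype.card K - 1) := Nat.dvd_gcd (orderOf_dvd_of_pow_eq_one hκn) (orderOf_dvd_of_pow_eq_one hκq)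
      rw [hcn.2] at h4
      have h5 : κ = 1 := orderOf_eq_one_iff.1 (Nat.dvd_one.1 h4)
      rw [hκ, h5, one_smul]
  have hcube : c.1 ^ 3 = 1 := by
    apply hρ
    rw [map_one]
    apply Matrix.ext_of_mulVec_single
    intro i
    rw [Matrix.one_mulVec]
    set w : Fin 7 → K := Pi.single i 1
    obtain ⟨a, ha⟩ := hsub w
    rw [pow_succ, pow_two, map_mul, map_mul, ← Matrix.mulVec_mulVec, ha, Matrix.mulVec_add, Matrix.mulVec_smul, ← Matrix.mulVec_mulVec, ← Matrix.mulVec_mulVec,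
      hfix, hfix, ha, Matrix.mulVec_add, Matrix.mulVec_smul, hfix, ha]
    have : w + a • v0 + a • v0 + a • v0 = w + (3 : K) • (a • v0) := by
      rw [show (3 : K) = 1 + 1 + 1 by norm_num, add_smul, add_smul, one_smul]; abel
    rw [this, h3, zero_smul, add_zero]
  have h7 : n ∣ Nat.gcd n 3 := Nat.dvd_gcd dvd_rfl (orderOf_dvd_of_pow_eq_one hcube)
  rw [hcn.1] at h7
  exact Subtype.ext (orderOf_eq_one_iff.1 (Nat.dvd_one.1 h7))

/-- the normaliser -/
theorem norm_six (h3 : ((3 : ℕ) : K) = 0) (ρ : G →* Matrix (Fin 7) (Fin 7) K) (hρ : Function.Injective ρ) {x : G} {p : ℕ} (hp : p.Prime) (hp3 : p ≠ 3)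
    (hox : orderOf x = p) (h6 : ∀ d, 0 < d → d < 6 → ¬ p ∣ Fintype.card K ^ d - 1) (h6' : p ∣ Fintype.card K ^ 6 - 1) :
    ∃ e, e ∣ 6 ∧ Nat.card ↥(Subgroup.normalizer (Subgroup.zpowers x : Set G)) = e * Nat.card ↥(Subgroup.centralizer (Subgroup.zpowers x : Set G)) := by
  classical
  let L := AlgebraicClosure K
  have hcop : Nat.Coprime p 3 := (Nat.coprime_primes hp Nat.prime_three).2 hp3
  have hpK : ((p : ℕ) : L) ≠ 0 := by
    intro e
    have e1 : algebraMap K L (p : K) = algebraMap K L 0 := by rw [map_natCast, map_zero]; exact e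
    have e2 : (p : K) = 0 := (algebraMap K L).injective e1
    have hg := Nat.gcd_eq_gcd_ab p 3
    rw [hcop] at hg
    have h1 := congrArg (fun z : ℤ => (z : K)) hg
    simp only [Nat.cast_one, Int.cast_one, Int.cast_add, Int.cast_mul, Int.cast_natCast] at h1
    rw [e2, h3, zero_mul, zero_mul, add_zero] at h1
    exact one_ne_zero h1
  have : NeZero ((p : ℕ) : L) := ⟨hpK⟩
  have := IsSepClosed.hasEnoughRootsOfUnity L p
  obtain ⟨ζ0, hζ0⟩ := HasEnoughRootsOfUnity.exists_primitiveRoot L p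
  have hx1 : x ≠ 1 := by
    rintro rfl
    rw [orderOf_one] at hox
    exact hp.one_lt.ne hox
  have hT1 : ρ x ≠ 1 := by
    intro e; apply hx1; apply hρ; rw [e, map_one]
  obtain ⟨ζ, ψ, hζ1, hζ2, hψ0, hψ⟩ := exists_EF (L := L) hT1 hp.pos (by rw [← map_pow, ← hox, pow_orderOf_eq_one, map_one]) hζ0
  obtain ⟨hd, hζq⟩ := Hd_of (K := K) hp h6 h6' hζ1 hζ2
  have hoζ : orderOf ζ = p := by
    have : Fact p.Prime := ⟨hp⟩
    exact orderOf_eq_prime hζ1 hζ2
  set q := Fintype.card K with hq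
  -- conjugates of x
  have hconj : ∀ g ∈ Subgroup.normalizer (Subgroup.zpowers x : Set G), ∃ i : ℕ, g * x * g⁻¹ = x ^ (q ^ i) := by
    intro g hg
    have h1 := (Subgroup.mem_normalizer_iff.1 hg x).1 (Subgroup.mem_zpowers x)
    obtain ⟨k, hk⟩ : ∃ k : ℕ, g * x * g⁻¹ = x ^ k := by
      obtain ⟨k, hk⟩ := (mem_powers_iff_mem_zpowers (x := x) (y := g * x * g⁻¹)).2 h1
      exact ⟨k, hk.symm⟩
    have hgx : g * x = x ^ k * g := mul_inv_eq_iff_eq_mul.1 hk
    have hk1 : ζ ^ k ≠ 1 := by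
      intro e
      have h2 : p ∣ k := by rw [← hoζ]; exact orderOf_dvd_of_pow_eq_one e
      have h4 : x ^ k = 1 := orderOf_dvd_iff_pow_eq_one.1 (by rw [hox]; exact h2)
      rw [h4] at hk
      apply hx1
      have : x = g⁻¹ * (g * x * g⁻¹) * g := by group
      rw [this, hk]; group
    have hkp : (ζ ^ k) ^ p = 1 := by rw [← pow_mul, mul_comm, pow_mul, hζ1, one_pow]
    obtain ⟨hd', hζq'⟩ := Hd_of (K := K) hp h6 h6' hkp hk1
    have hψ' : EF (ρ x) (ζ ^ k) (ψ.comp (Matrix.mulVecLin (ρ g))) := by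
      intro w
      show ψ (ρ g *ᵥ (ρ x *ᵥ w)) = ζ ^ k * ψ (ρ g *ᵥ w)
      rw [Matrix.mulVec_mulVec, ← map_mul, hgx, map_mul, map_pow, ← Matrix.mulVec_mulVec, hψ.pow]
    have hψ0' : ψ.comp (Matrix.mulVecLin (ρ g)) ≠ 0 := by
      intro e
      apply hψ0
      refine LinearMap.ext fun w => ?_
      have h4 := congrArg (fun f : (Fin 7 → K) →ₗ[K] L => f (ρ g⁻¹ *ᵥ w)) e
      have h5 : ψ (ρ g *ᵥ (ρ g⁻¹ *ᵥ w)) = 0 := h4
      rw [Matrix.mulVec_mulVec, ← map_mul, mul_inv_cancel, map_one, Matrix.one_mulVec] at h5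
      exact h5
    obtain ⟨i, hi⟩ := conj_eig hψ hψ' hψ0 hψ0' hd hd' hζq hζq'
    refine ⟨i, ?_⟩
    rw [hk]
    have hζ0 : ζ ≠ 0 := by
      rintro rfl
      rw [zero_pow hp.ne_zero] at hζ1
      exact zero_ne_one hζ1
    have h7 := pow_modEq hζ0 hi
    rw [hoζ, ← hox] at h7
    exact (pow_inj_mod (x := x)).2 h7
  -- the power automorphism
  have hqp : Nat.Coprime p q := by
    rw [Nat.Prime.coprime_iff_not_dvd hp]
    intro h
    have h4 : p ∣ q ^ 6 := dvd_pow h (by norm_num)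
    have h5 := Nat.dvd_sub h4 h6'
    have h7 : q ^ 6 - (q ^ 6 - 1) = 1 := by
      have : 1 ≤ q ^ 6 := Nat.one_le_pow _ _ Fintype.card_pos
      omega
    rw [h7] at h5
    exact hp.one_lt.ne' (Nat.dvd_one.1 h5)
  have hx6 : x ^ (q ^ 6) = x := by
    obtain ⟨k, hk⟩ := h6'
    have h4 : q ^ 6 = p * k + 1 := by
      have : 1 ≤ q ^ 6 := Nat.one_le_pow _ _ Fintype.card_pos
      omega
    rw [h4, pow_succ, pow_mul, ← hox, pow_orderOf_eq_one, one_pow, one_mul]
  let x' : ↥(Subgroup.zpowers x) := ⟨x, Subgroup.mem_zpowers x⟩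
  have hgenx : ∀ y : ↥(Subgroup.zpowers x), ∃ k : ℤ, y = x' ^ k := by
    rintro ⟨y, hy⟩
    obtain ⟨k, rfl⟩ := Subgroup.mem_zpowers_iff.1 hy
    exact ⟨k, Subtype.ext rfl⟩
  have hpow6 : ∀ y : ↥(Subgroup.zpowers x), y ^ (q ^ 6) = y := by
    intro y
    obtain ⟨k, rfl⟩ := hgenx y
    have : x' ^ (q ^ 6) = x' := Subtype.ext hx6
    rw [← zpow_natCast, ← _root_.zpow_mul, mul_comm, _root_.zpow_mul, zpow_natCast, this]
  let σ : MulAut ↥(Subgroup.zpowers x) :=
    { toFun := fun y => y ^ q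
      invFun := fun y => y ^ (q ^ 5)
      left_inv := by
        intro y
        show (y ^ q) ^ (q ^ 5) = y
        rw [← pow_mul, ← pow_succ']; exact hpow6 y
      right_inv := by
        intro y
        show (y ^ (q ^ 5)) ^ q = y
        rw [← pow_mul, ← pow_succ]; exact hpow6 y
      map_mul' := fun a b => by
        obtain ⟨k, rfl⟩ := hgenx a
        obtain ⟨l, rfl⟩ := hgenx b
        exact (((Commute.refl x').zpow_left k).zpow_right l).mul_pow q }
  have hσ : ∀ y, σ y = y ^ q := fun y => rfl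
  have hσi : ∀ i : ℕ, ∀ y, (σ ^ i) y = y ^ (q ^ i) := by
    intro i
    induction i with
    | zero => intro y; simp
    | succ i ih => intro y; rw [pow_succ, MulAut.mul_apply, hσ, ih, ← pow_mul, ← pow_succ']
  have hσ6 : σ ^ 6 = 1 := by
    ext1 y
    rw [hσi, hpow6]; rfl
  have hrange : (Subgroup.normalizerMonoidHom (Subgroup.zpowers x)).range ≤ Subgroup.zpowers σ := by
    rintro _ ⟨g, rfl⟩
    obtain ⟨i, hi⟩ := hconj g.1 g.2
    have : Subgroup.normalizerMonoidHom (Subgroup.zpowers x) g = σ ^ i := by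
      ext1 y
      obtain ⟨k, rfl⟩ := hgenx y
      rw [map_zpow, map_zpow]
      congr 1
      rw [hσi]
      apply Subtype.ext
      exact hi
    rw [this]
    exact Subgroup.pow_mem _ (Subgroup.mem_zpowers σ) i
  refine ⟨Nat.card (Subgroup.normalizerMonoidHom (Subgroup.zpowers x)).range, ?_, ?_⟩
  · refine (Subgroup.card_dvd_of_le hrange).trans ?_
    rw [Nat.card_zpowers]
    exact orderOf_dvd_of_pow_eq_one hσ6
  · have h4 := Subgroup.card_mul_index (Subgroup.normalizerMonoidHom (Subgroup.zpowers x)).ker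
    rw [Subgroup.index_ker, Subgroup.normalizerMonoidHom_ker] at h4
    rw [← h4, mul_comm]
    congr 1
    exact Nat.card_congr (Subgroup.subgroupOfEquivOfLe (Subgroup.centralizer_le_normalizer _)).toEquiv

end grp

end CfsgLib.Eig7
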