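import Cfsg.Agent.LibRee20

set_option autoImplicit false
set_option linter.unusedSectionVars false
set_option linter.unusedVariables false
set_option linter.unusedSimpArgs false

/-! Groups of Ree type: the tori of order dividing q² - q + 1 -/

namespace CfsgLib.ReeA

open Matrix CfsgLib.Chev CfsgLib.Rank1 CfsgLib.SL2P

/-- q² - q + 1 -/
def Ph (m : ℕ) : ℕ := (3 ^ (2 * m + 1)) ^ 2 - 3 ^ (2 * m + 1) + 1

theorem Ph_eq (m : ℕ) : Ph m + 3 ^ (2 * m + 1) = (3 ^ (2 * m + 1)) ^ 2 + 1 := by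
  unfold Ph
  have h1 : 3 ^ (2 * m + 1) ≤ (3 ^ (2 * m + 1)) ^ 2 := Nat.le_self_pow (by norm_num) _
  omega

theorem Ph_mul (m : ℕ) : (3 ^ (2 * m + 1) + 1) * Ph m = (3 ^ (2 * m + 1)) ^ 3 + 1 := by
  rw [cube_add_one _ (Nat.one_le_pow _ _ (by norm_num))]; rfl

theorem Ph_fac {m : ℕ} {s : ℕ} (hs : s.Prime) (h : s ∣ Ph m) : s ≠ 2 ∧ s ≠ 3 ∧ 7 ≤ s ∧ (¬ s ∣ 3 ^ (2 * m + 1) - 1) ∧ (¬ s ∣ 3 ^ (2 * m + 1) + 1) ∧
    (∀ d, 0 < d → d < 6 → ¬ s ∣ (3 ^ (2 * m + 1)) ^ d - 1) ∧ s ∣ (3 ^ (2 * m + 1)) ^ 6 - 1 := by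
  have e1 := Ph_eq m
  have e2 := Ph_mul m
  set q := 3 ^ (2 * m + 1) with hq
  have hq3 : 3 ≤ q := by
    calc 3 = 3 ^ 1 := by norm_num
      _ ≤ 3 ^ (2 * m + 1) := Nat.pow_le_pow_right (by norm_num) (by omega)
  have hq3d : 3 ∣ q := dvd_pow_self 3 (by omega)
  have hqo : q % 2 = 1 := by have := hmod8 m; omega
  have hs1 : ¬ s ∣ 1 := fun h => hs.one_lt.ne' (Nat.dvd_one.1 h)
  -- integer version
  have z1 : (s : ℤ) ∣ (q : ℤ) ^ 2 - q + 1 := by
    have h1 : ((s : ℕ) : ℤ) ∣ ((Ph m : ℕ) : ℤ) := Int.natCast_dvd_natCast.2 h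
    have h2 : ((Ph m : ℕ) : ℤ) = (q : ℤ) ^ 2 - q + 1 := by
      have := congrArg (fun n : ℕ => (n : ℤ)) e1
      push_cast at this
      linarith
    rwa [h2] at h1
  have zi : ∀ k : ℤ, (s : ℤ) ∣ (((q : ℤ) ^ 2 - q + 1) * k) := fun k => z1.mul_right k
  have nat_of : ∀ a : ℕ, (s : ℤ) ∣ (a : ℤ) → s ∣ a := fun a h => Int.natCast_dvd_natCast.1 h
  have hnq : ¬ s ∣ q := by
    intro h1
    have h2 : (s : ℤ) ∣ (q : ℤ) := Int.natCast_dvd_natCast.2 h1
    have h3 : (s : ℤ) ∣ ((1 : ℕ) : ℤ) := by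
      have : ((1 : ℕ) : ℤ) = ((q : ℤ) ^ 2 - q + 1) - q * (q - 1) := by push_cast; ring
      rw [this]; exact dvd_sub z1 (h2.mul_right _)
    exact hs1 (nat_of 1 h3)
  have hs2 : s ≠ 2 := by
    rintro rfl
    have h1 := Int.emod_emod_of_dvd
    have h2 : ((q : ℤ) ^ 2 - q + 1) % 2 = 0 := Int.emod_eq_zero_of_dvd z1
    have h3 : (q : ℤ) % 2 = 1 := by omega
    obtain ⟨k, hk⟩ : ∃ k : ℤ, (q : ℤ) = 2 * k + 1 := ⟨(q : ℤ) / 2, by omega⟩
    rw [hk] at h2
    have : ((2 * k + 1) ^ 2 - (2 * k + 1) + 1 : ℤ) = 2 * (2 * k ^ 2 + k) + 1 := by ring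
    omega
  have hs3 : s ≠ 3 := by rintro rfl; exact hnq hq3d
  have hm1 : ¬ s ∣ q - 1 := by
    intro h1
    have h2 : (s : ℤ) ∣ ((q - 1 : ℕ) : ℤ) := Int.natCast_dvd_natCast.2 h1
    rw [Nat.cast_sub (by omega)] at h2
    push_cast at h2
    have h3 : (s : ℤ) ∣ ((1 : ℕ) : ℤ) := by
      have : ((1 : ℕ) : ℤ) = ((q : ℤ) ^ 2 - q + 1) - (q - 1) * q := by push_cast; ring
      rw [this]; exact dvd_sub z1 (h2.mul_right _)
    exact hs1 (nat_of 1 h3)
  have hp1 : ¬ s ∣ q + 1 := by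
    intro h1
    have h2 : (s : ℤ) ∣ ((q + 1 : ℕ) : ℤ) := Int.natCast_dvd_natCast.2 h1
    push_cast at h2
    have h3 : (s : ℤ) ∣ ((3 : ℕ) : ℤ) := by
      have : ((3 : ℕ) : ℤ) = ((q : ℤ) ^ 2 - q + 1) - (q + 1) * (q - 2) := by push_cast; ring
      rw [this]; exact dvd_sub z1 (h2.mul_right _)
    exact hs3 ((Nat.prime_dvd_prime_iff_eq hs Nat.prime_three).1 (nat_of 3 h3))
  have hd : ∀ d, 0 < d → d < 6 → ¬ s ∣ q ^ d - 1 := by
    intro d hd0 hd6 h1
    have h2 : (s : ℤ) ∣ ((q ^ d - 1 : ℕ) : ℤ) := Int.natCast_dvd_natCast.2 h1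
    rw [Nat.cast_sub (Nat.one_le_pow _ _ (by omega))] at h2
    push_cast at h2
    have hd' : d = 1 ∨ d = 2 ∨ d = 3 ∨ d = 4 ∨ d = 5 := by omega
    rcases hd' with rfl | rfl | rfl | rfl | rfl
    · apply hm1; rwa [pow_one] at h1
    · -- q² - 1 = (q²-q+1) + q - 2 
      have h3 : (s : ℤ) ∣ ((q - 1 : ℕ) * (q + 1) : ℕ) := by
        rw [Nat.cast_mul, Nat.cast_sub (by omega)]
        push_cast
        have : ((q : ℤ) - 1) * (q + 1) = q ^ 2 - 1 := by ring
        rw [this]; exact h2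
      rcases (Nat.Prime.dvd_mul hs).1 (nat_of _ h3) with h4 | h4
      · exact hm1 h4
      · exact hp1 h4
    · have h3 : (s : ℤ) ∣ ((2 : ℕ) : ℤ) := by
        have : ((2 : ℕ) : ℤ) = ((q : ℤ) ^ 2 - q + 1) * (q + 1) - (q ^ 3 - 1) := by push_cast; ring
        rw [this]; exact dvd_sub (zi _) h2
      exact hs2 ((Nat.prime_dvd_prime_iff_eq hs Nat.prime_two).1 (nat_of 2 h3))
    · apply hp1
      apply nat_of
      have : ((q + 1 : ℕ) : ℤ) = ((q : ℤ) ^ 2 - q + 1) * ((q + 1) * q) - (q ^ 4 - 1) := by push_cast; ring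
      rw [this]; exact dvd_sub (zi _) h2
    · apply hnq
      apply nat_of
      have : (q : ℤ) = ((q : ℤ) ^ 2 - q + 1) * (q ^ 2 * (q + 1) - 1) - (q ^ 5 - 1) := by ring
      rw [this]; exact dvd_sub (zi _) h2
  have hd6 : s ∣ q ^ 6 - 1 := by
    apply nat_of
    rw [Nat.cast_sub (Nat.one_le_pow _ _ (by omega))]
    push_cast
    have : (q : ℤ) ^ 6 - 1 = ((q : ℤ) ^ 2 - q + 1) * ((q + 1) * (q ^ 3 - 1)) := by ring
    rw [this]; exact zi _
  refine ⟨hs2, hs3, ?_, hm1, hp1, hd, hd6⟩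
  by_contra hlt
  push Not at hlt
  have h5 : s = 5 := by
    have h2 := hs.two_le
    interval_cases s
    · exact absurd rfl hs2
    · exact absurd rfl hs3
    · exact absurd hs (by norm_num)
    · rfl
    · exact absurd hs (by norm_num)
  subst h5
  apply hd 4 (by norm_num) (by norm_num)
  have h6 : q % 5 = 1 ∨ q % 5 = 2 ∨ q % 5 = 3 ∨ q % 5 = 4 := by
    have : q % 5 ≠ 0 := fun h => hnq (Nat.dvd_of_mod_eq_zero h)
    omega
  have h7 : q ^ 4 % 5 = 1 := by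
    rw [Nat.pow_mod]
    rcases h6 with h | h | h | h <;> rw [h]
  omega

variable {G : Type*} [Group G] [Finite G] {K : Type*} [Field K] [Fintype K] {m : ℕ} (R : RG G K m)

include R in
theorem RG.cG' : Nat.card G = (3 ^ (2 * m + 1)) ^ 3 * (3 ^ (2 * m + 1) - 1) * (3 ^ (2 * m + 1) + 1) * Ph m := by
  rw [R.cG, ← Ph_mul]; ring

include R in
/-- orders of elements commuting with an element of prime order dividing q² - q + 1 -/
theorem RG.comm_Ph (hperf : commutator G = ⊤) {x y : G} {s : ℕ} (hs : s.Prime) (hsP : s ∣ Ph m) (hx : orderOf x = s) (h : y * x = x * y)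
    {r : ℕ} (hr : r.Prime) (hry : r ∣ orderOf y) : r ∣ Ph m ∧ r ≠ 3 ∧ ¬ r ∣ 3 ^ (2 * m + 1) - 1 ∧ ¬ r ∣ 3 ^ (2 * m + 1) + 1 := by
  obtain ⟨hs2, hs3, hs7, hm1, hp1, -, -⟩ := Ph_fac hs hsP
  have hr3 : r ≠ 3 := by
    rintro rfl
    obtain ⟨j, hj⟩ := exists_prime_pow_elt hr hry
    apply hm1
    apply R.comm3 (u := y ^ j) (x := x) ⟨1, by rw [hj, pow_one]⟩ _ _ hs hs3 (by rw [hx])
    · intro e; rw [e, orderOf_one] at hj; omega
    · have : Commute x y := h.symm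
      exact (this.pow_right j).eq
  have hr2 : r ≠ 2 := by
    rintro rfl
    obtain ⟨j, hj⟩ := exists_prime_pow_elt hr hry
    have h1 : y ^ j ≠ 1 := by intro e; rw [e, orderOf_one] at hj; omega
    have h2 : y ^ j * y ^ j = 1 := by rw [← pow_two, ← hj]; exact pow_orderOf_eq_one _
    obtain ⟨g, hg⟩ := R.inv_conj hperf h1 h2
    have hc : x * y ^ j = y ^ j * x := by
      have : Commute x y := h.symm
      exact (this.pow_right j).eq
    have h3 : g⁻¹ * x * g ∈ Subgroup.centralizer {R.τ} := by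
      rw [Subgroup.mem_centralizer_singleton_iff]
      rw [← hg] at hc
      calc g⁻¹ * x * g * R.τ = g⁻¹ * (x * (g * R.τ * g⁻¹)) * g := by group
        _ = _ := by rw [hc]; group
    have h4 := orderOf_dvd_natCard (⟨_, h3⟩ : ↥(Subgroup.centralizer {R.τ}))
    have h5 := CfsgLib.TransFus.orderOf_conj g⁻¹ x
    rw [inv_inv] at h5
    rw [← Subgroup.orderOf_coe, R.card_Cτ] at h4
    simp only at h4
    rw [h5, hx] at h4
    rcases (Nat.Prime.dvd_mul hs).1 h4 with h6 | h6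
    · exact hs3 ((Nat.prime_dvd_prime_iff_eq hs Nat.prime_three).1 (hs.dvd_of_dvd_pow h6))
    · rcases (Nat.Prime.dvd_mul hs).1 h6 with h7 | h7
      · exact hm1 h7
      · exact hp1 h7
  have hrm : ¬ r ∣ 3 ^ (2 * m + 1) - 1 := by
    intro hd
    obtain ⟨g, hg, -⟩ := R.into_Hcent hr hr2 hd hry
    have h1 := hg x h.symm
    have h2 := orderOf_dvd_natCard (⟨_, h1⟩ : R.H)
    rw [← Subgroup.orderOf_coe, R.cH] at h2
    simp only at h2
    rw [CfsgLib.TransFus.orderOf_conj g x, hx] at h2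
    exact hm1 h2
  have hrp : ¬ r ∣ 3 ^ (2 * m + 1) + 1 := by
    intro hd
    have h8 := hmod8 m
    have h4 : 4 * ((3 ^ (2 * m + 1) + 1) / 4) = 3 ^ (2 * m + 1) + 1 := by omega
    have hd' : r ∣ (3 ^ (2 * m + 1) + 1) / 4 := by
      rw [← h4] at hd
      rcases (Nat.Prime.dvd_mul hr).1 hd with h5 | h5
      · exfalso
        have : r ∣ 2 ^ 2 := by norm_num; exact h5
        exact hr2 ((Nat.prime_dvd_prime_iff_eq hr Nat.prime_two).1 (hr.dvd_of_dvd_pow this))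
      · exact h5
    obtain ⟨D, a, hT⟩ := R.exists_TD
    obtain ⟨g, hg, -⟩ := hT.into_D R hperf hr hd' hry
    have h1 := hg x h.symm
    have h2 := orderOf_dvd_natCard (⟨_, h1⟩ : D)
    rw [← Subgroup.orderOf_coe, hT.cD] at h2
    simp only at h2
    rw [CfsgLib.TransFus.orderOf_conj g x, hx] at h2
    exact hp1 h2
  refine ⟨?_, hr3, hrm, hrp⟩
  have h1 : r ∣ Nat.card G := hry.trans (orderOf_dvd_natCard y)
  rw [R.cG'] at h1
  rcases (Nat.Prime.dvd_mul hr).1 h1 with h2 | h2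
  · exfalso
    rcases (Nat.Prime.dvd_mul hr).1 h2 with h2 | h2
    · rcases (Nat.Prime.dvd_mul hr).1 h2 with h2 | h2
      · exact hr3 ((Nat.prime_dvd_prime_iff_eq hr Nat.prime_three).1 (hr.dvd_of_dvd_pow (hr.dvd_of_dvd_pow h2)))
      · exact hrm h2
    · exact hrp h2
  · exact h2

/-- tori of the third kind -/
structure RG.TT (R : RG G K m) (T : Subgroup G) : Prop where
  cyc : IsCyclic T
  ne : T ≠ ⊥
  cen : ∀ y ∈ T, y ≠ 1 → Subgroup.centralizer {y} = T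
  cd : Nat.card T ∣ Ph m
  norm : ∃ e, e ∣ 6 ∧ Nat.card ↥(Subgroup.normalizer (T : Set G)) = e * Nat.card T

theorem cyc_comm {T : Subgroup G} (h : IsCyclic T) {x y : G} (hx : x ∈ T) (hy : y ∈ T) : x * y = y * x := by
  obtain ⟨⟨g, hg⟩, hgen⟩ := h.exists_generator
  obtain ⟨i, hi⟩ := Subgroup.mem_zpowers_iff.1 (hgen ⟨x, hx⟩)
  obtain ⟨j, hj⟩ := Subgroup.mem_zpowers_iff.1 (hgen ⟨y, hy⟩)
  have hi' : g ^ i = x := congrArg Subtype.val hi
  have hj' : g ^ j = y := congrArg Subtype.val hj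
  rw [← hi', ← hj']
  exact (((Commute.refl g).zpow_left i).zpow_right j).eq

/-- subgroups of self-centralising cyclic subgroups -/
theorem TTcen_sub {T : Subgroup G} (hcyc : IsCyclic T) (cen : ∀ y ∈ T, y ≠ 1 → Subgroup.centralizer {y} = T) {A : Subgroup G} (hA : A ≤ T) (hA1 : A ≠ ⊥) :
    Subgroup.centralizer (A : Set G) = T ∧ Subgroup.normalizer (A : Set G) = Subgroup.normalizer (T : Set G) := by
  obtain ⟨x, hxA, hx1⟩ := exists_ne_one hA1
  have h1 : Subgroup.centralizer (A : Set G) = T := by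
    apply le_antisymm
    · intro y hy
      rw [← cen x (hA hxA) hx1, Subgroup.mem_centralizer_singleton_iff]
      exact (Subgroup.mem_centralizer_iff.1 hy x hxA).symm
    · intro y hy
      rw [Subgroup.mem_centralizer_iff]
      intro z hz
      exact cyc_comm hcyc (hA hz) hy
  refine ⟨h1, le_antisymm ?_ (norm_sub_cyclic _ _ hcyc hA)⟩
  have := norm_le_norm_cent A
  rwa [h1] at this

theorem RG.exists_TT (hperf : commutator G = ⊤) (ρ : G →* Matrix (Fin 7) (Fin 7) K) (hρ : Function.Injective ρ) {x : G} {s : ℕ} (hs : s.Prime)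
    (hsP : s ∣ Ph m) (hx : s ∣ orderOf x) : ∃ T, R.TT T ∧ x ∈ T ∧ (∀ y, y * x = x * y → y ∈ T) ∧ s ∣ Nat.card T := by
  have hfac : ∀ {r : ℕ}, r.Prime → r ∣ Ph m → (∀ d, 0 < d → d < 6 → ¬ r ∣ Fintype.card K ^ d - 1) ∧ r ∣ Fintype.card K ^ 6 - 1 := by
    intro r hr hrP
    rw [R.hK]
    obtain ⟨-, -, -, -, -, h1, h2⟩ := Ph_fac hr hrP
    exact ⟨h1, h2⟩
  have hcyc : ∀ {r : ℕ} {y : G}, r.Prime → r ∣ Ph m → orderOf y = r → IsCyclic ↥(Subgroup.centralizer {y}) := by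
    intro r y hr hrP hy
    apply CfsgLib.Eig7.cent_cyclic R.three ρ hρ hr hy (hfac hr hrP).1 (hfac hr hrP).2
    intro z hz
    constructor
    · rw [Nat.coprime_comm, Nat.Prime.coprime_iff_not_dvd Nat.prime_three]
      intro h3
      exact (R.comm_Ph hperf hr hrP hy hz Nat.prime_three h3).2.1 rfl
    · rw [R.hK]
      apply Nat.coprime_of_dvd
      intro t ht h1 h2
      exact (R.comm_Ph hperf hr hrP hy hz ht h1).2.2.1 h2
  obtain ⟨j, hj⟩ := exists_prime_pow_elt hs hx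
  set x' := x ^ j with hx'
  have hx1 : x' ≠ 1 := by intro e; rw [e, orderOf_one] at hj; exact hs.one_lt.ne hj
  have hC := hcyc hs hsP hj
  have hx'T : x' ∈ Subgroup.centralizer {x'} := Subgroup.mem_centralizer_singleton_iff.2 rfl
  have hcen : ∀ y ∈ Subgroup.centralizer {x'}, y ≠ 1 → Subgroup.centralizer {y} = Subgroup.centralizer {x'} := by
    intro y hy hy1
    have hoy : orderOf y ≠ 1 := fun h => hy1 (orderOf_eq_one_iff.1 h)
    obtain ⟨r, hr, hry⟩ := Nat.exists_prime_and_dvd hoy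
    have hyx := Subgroup.mem_centralizer_singleton_iff.1 hy
    have hrP := (R.comm_Ph hperf hs hsP hj hyx hr hry).1
    obtain ⟨i, hi⟩ := exists_prime_pow_elt hr hry
    have hC' := hcyc hr hrP hi
    have hyi : y ^ i ∈ Subgroup.centralizer {x'} := Subgroup.pow_mem _ hy i
    have hx'' : x' ∈ Subgroup.centralizer {y ^ i} := by
      rw [Subgroup.mem_centralizer_singleton_iff]
      exact (Subgroup.mem_centralizer_singleton_iff.1 hyi).symm
    apply le_antisymm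
    · intro z hz
      have hz' : z ∈ Subgroup.centralizer {y ^ i} := by
        rw [Subgroup.mem_centralizer_singleton_iff] at hz ⊢
        exact ((show Commute z y from hz).pow_right i).eq
      rw [Subgroup.mem_centralizer_singleton_iff]
      exact cyc_comm hC' hz' hx''
    · intro z hz
      rw [Subgroup.mem_centralizer_singleton_iff]
      exact cyc_comm hC hz hy
  refine ⟨Subgroup.centralizer {x'}, ⟨hC, ?_, hcen, ?_, ?_⟩, ?_, ?_, ?_⟩
  · intro e
    rw [e, Subgroup.mem_bot] at hx'T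
    exact hx1 hx'T
  · have h1 : Nat.card ↥(Subgroup.centralizer {x'}) ∣ Nat.card G := Subgroup.card_subgroup_dvd_card _
    rw [R.cG'] at h1
    apply Nat.Coprime.dvd_of_dvd_mul_left _ h1
    apply Nat.coprime_of_dvd
    intro r hr h2 h3
    have : Fact r.Prime := ⟨hr⟩
    obtain ⟨⟨y, hy⟩, hy2⟩ := exists_prime_orderOf_dvd_card' (G := ↥(Subgroup.centralizer {x'})) r h2
    rw [← Subgroup.orderOf_coe] at hy2
    obtain ⟨-, k1, k2, k3⟩ := R.comm_Ph hperf hs hsP hj (Subgroup.mem_centralizer_singleton_iff.1 hy) hr (dvd_of_eq hy2.symm)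
    rcases (Nat.Prime.dvd_mul hr).1 h3 with h4 | h4
    · rcases (Nat.Prime.dvd_mul hr).1 h4 with h4 | h4
      · exact k1 ((Nat.prime_dvd_prime_iff_eq hr Nat.prime_three).1 (hr.dvd_of_dvd_pow (hr.dvd_of_dvd_pow h4)))
      · exact k2 h4
    · exact k3 h4
  · obtain ⟨e, he, h1⟩ := CfsgLib.Eig7.norm_six R.char3 ρ hρ hs (Ph_fac hs hsP).2.1 hj (hfac hs hsP).1 (hfac hs hsP).2
    refine ⟨e, he, ?_⟩
    obtain ⟨h2, h3⟩ := TTcen_sub hC hcen (A := Subgroup.zpowers x') (by rw [Subgroup.zpowers_le]; exact hx'T) (by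
      rw [Ne, Subgroup.zpowers_eq_bot]; exact hx1)
    rw [h3, h2] at h1
    exact h1
  · rw [Subgroup.mem_centralizer_singleton_iff]
    exact ((Commute.refl x).pow_right j).eq
  · intro y hy
    rw [Subgroup.mem_centralizer_singleton_iff]
    exact ((show Commute y x from hy).pow_right j).eq
  · rw [← hj]
    have := orderOf_dvd_natCard (⟨x', hx'T⟩ : ↥(Subgroup.centralizer {x'}))
    rwa [← Subgroup.orderOf_coe] at this

/-- tori contain Sylow subgroups -/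
theorem RG.TT.index {T : Subgroup G} (h : R.TT T) {s : ℕ} (hs : s.Prime) (hsT : s ∣ Nat.card T) : ¬ s ∣ T.index := by
  have : Fact s.Prime := ⟨hs⟩
  obtain ⟨⟨x, hxT⟩, hx⟩ := exists_prime_orderOf_dvd_card' (G := ↥T) s hsT
  rw [← Subgroup.orderOf_coe] at hx
  simp only at hx
  have hx1 : x ≠ 1 := by intro e; rw [e, orderOf_one] at hx; exact hs.one_lt.ne hx
  have hpg : IsPGroup s (Subgroup.zpowers x) := IsPGroup.of_card (n := 1) (by rw [Nat.card_zpowers, hx, pow_one])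
  obtain ⟨P, hP⟩ := hpg.exists_le_sylow
  have hxP : x ∈ P := hP (Subgroup.mem_zpowers x)
  have hnt : Nontrivial ↥(P : Subgroup G) := ⟨⟨⟨x, hxP⟩, 1, fun e => hx1 (congrArg Subtype.val e)⟩⟩
  have hz := P.isPGroup'.center_nontrivial
  obtain ⟨⟨z, hz⟩, hz1⟩ := exists_ne (1 : Subgroup.center ↥(P : Subgroup G))
  have hz1' : (z : G) ≠ 1 := fun e => hz1 (Subtype.ext (Subtype.ext e))
  have hzc : ∀ y ∈ P, y * z = z * y := by
    intro y hy
    have := Subgroup.mem_center_iff.1 hz ⟨y, hy⟩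
    exact congrArg Subtype.val this
  have hzT : (z : G) ∈ T := by
    rw [← h.cen x hxT hx1, Subgroup.mem_centralizer_singleton_iff]
    exact (hzc x hxP).symm
  have hPT : (P : Subgroup G) ≤ T := by
    intro y hy
    rw [← h.cen z hzT hz1', Subgroup.mem_centralizer_singleton_iff]
    exact hzc y hy
  intro hd
  exact P.not_dvd_index (hd.trans (Subgroup.index_dvd_of_le hPT))

/-- tori with a common prime are conjugate -/
theorem RG.TT.conj {T T' : Subgroup G} (h : R.TT T) (h' : R.TT T') {s : ℕ} (hs : s.Prime) (hsT : s ∣ Nat.card T) (hsT' : s ∣ Nat.card T') :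
    ∃ g : G, T'.map (MulAut.conj g).toMonoidHom = T := by
  have : Fact s.Prime := ⟨hs⟩
  obtain ⟨⟨x, hxT⟩, hx⟩ := exists_prime_orderOf_dvd_card' (G := ↥T') s hsT'
  rw [← Subgroup.orderOf_coe] at hx
  simp only at hx
  have hx1 : x ≠ 1 := by intro e; rw [e, orderOf_one] at hx; exact hs.one_lt.ne hx
  obtain ⟨g, hg⟩ := conj_into_elt hs T (h.index R hs hsT) (x := x) ⟨1, by rw [hx, pow_one]⟩
  refine ⟨g, ?_⟩
  have hg1 : g * x * g⁻¹ ≠ 1 := by
    intro e
    apply hx1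
    have : x = g⁻¹ * (g * x * g⁻¹) * g := by group
    rw [this, e]; group
  ext y
  rw [map_conj_mem, ← h.cen _ hg hg1, ← h'.cen x hxT hx1, Subgroup.mem_centralizer_singleton_iff, Subgroup.mem_centralizer_singleton_iff]
  constructor
  · intro e
    calc y * (g * x * g⁻¹) = g * (g⁻¹ * y * g * x) * g⁻¹ := by group
      _ = _ := by rw [e]; group
  · intro e
    calc g⁻¹ * y * g * x = g⁻¹ * (y * (g * x * g⁻¹)) * g := by group
      _ = _ := by rw [e]; group

theorem RG.TT.ge {T : Subgroup G} (h : R.TT T) : 7 ≤ Nat.card T := by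
  have h1 : Nat.card T ≠ 1 := fun e => h.ne (Subgroup.card_eq_one.1 e)
  obtain ⟨s, hs, hsd⟩ := Nat.exists_prime_and_dvd h1
  exact (Ph_fac hs (hsd.trans h.cd)).2.2.1.trans (Nat.le_of_dvd Nat.card_pos hsd)

/-- different tori have coprime orders -/
theorem RG.TT.coprime {T T' : Subgroup G} (h : R.TT T) (h' : R.TT T') (hne : ∀ g : G, T'.map (MulAut.conj g).toMonoidHom ≠ T) :
    Nat.Coprime (Nat.card T) (Nat.card T') := by
  apply Nat.coprime_of_dvd
  intro s hs h1 h2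
  obtain ⟨g, hg⟩ := h.conj R h' hs h1 h2
  exact hne g hg

/-- number of elements in conjugates of T -/
theorem RG.TT.count {T : Subgroup G} (h : R.TT T) :
    ∃ e, e ∣ 6 ∧ Nat.card ↥(Subgroup.normalizer (T : Set G)) = e * Nat.card T ∧
      Set.ncard {y | ∃ g : G, ∃ x ∈ {x | x ∈ T ∧ x ≠ 1}, y = g * x * g⁻¹} * (e * Nat.card T) = Nat.card G * (Nat.card T - 1) := by
  obtain ⟨e, he, h1⟩ := h.norm
  refine ⟨e, he, h1, ?_⟩
  have h2 := ti_count (Subgroup.normalizer (T : Set G)) {x | x ∈ T ∧ x ≠ 1} (by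
    rintro n hn x ⟨hx, hx1⟩
    refine ⟨(Subgroup.mem_normalizer_iff.1 hn x).1 hx, fun e => hx1 ?_⟩
    have : x = n⁻¹ * (n * x * n⁻¹) * n := by group
    rw [this, e]; group) (by
    rintro g x ⟨hx, hx1⟩ ⟨hg, hg1⟩
    have h3 : T.map (MulAut.conj g).toMonoidHom = T := by
      ext y
      have hyT : y ∈ T ↔ y ∈ Subgroup.centralizer {g * x * g⁻¹} := by rw [h.cen _ hg hg1]
      have hyT' : g⁻¹ * y * g ∈ T ↔ g⁻¹ * y * g ∈ Subgroup.centralizer {x} := by rw [h.cen x hx hx1]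
      rw [map_conj_mem, hyT, hyT', Subgroup.mem_centralizer_singleton_iff, Subgroup.mem_centralizer_singleton_iff]
      constructor
      · intro e
        calc y * (g * x * g⁻¹) = g * (g⁻¹ * y * g * x) * g⁻¹ := by group
          _ = _ := by rw [e]; group
      · intro e
        calc g⁻¹ * y * g * x = g⁻¹ * (y * (g * x * g⁻¹)) * g := by group
          _ = _ := by rw [e]; group
    rw [Subgroup.mem_normalizer_iff]
    intro y
    have h4 := map_conj_mem T g (g * y * g⁻¹)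
    have e1 : g⁻¹ * (g * y * g⁻¹) * g = y := by group
    rw [e1, h3] at h4
    exact h4.symm)
  rw [h1] at h2
  rw [h2]
  congr 1
  have h3 : {x | x ∈ T ∧ x ≠ 1} = (T : Set G) \ {1} := by ext y; simp
  rw [h3, Set.ncard_sdiff_singleton_of_mem (Subgroup.one_mem T)]
  rfl

end CfsgLib.ReeA
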