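import Cfsg.Agent.LibRee21

set_option autoImplicit false
set_option linter.unusedSectionVars false
set_option linter.unusedVariables false
set_option linter.unusedSimpArgs false

/-! Groups of Ree type: counting elements -/

namespace CfsgLib.ReeA

open Matrix CfsgLib.Chev CfsgLib.Rank1 CfsgLib.SL2P

section SL
variable {K : Type*} [Field K]

/-- trace -/
def tr (A : Matrix.SpecialLinearGroup (Fin 2) K) : K := A 0 0 + A 1 1

theorem tr_conj (A B : Matrix.SpecialLinearGroup (Fin 2) K) : tr (A * B * A⁻¹) = tr B := by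
  have h : ∀ C : Matrix.SpecialLinearGroup (Fin 2) K, tr C = Matrix.trace (C : Matrix (Fin 2) (Fin 2) K) := by
    intro C; rw [Matrix.trace_fin_two]; rfl
  rw [h, h, Matrix.SpecialLinearGroup.coe_mul, Matrix.trace_mul_comm, ← Matrix.SpecialLinearGroup.coe_mul, ← mul_assoc, inv_mul_cancel, one_mul]

theorem cube_of_tr (h3 : (3 : K) = 0) {A : Matrix.SpecialLinearGroup (Fin 2) K} (h : tr A = 2) : A ^ 3 = 1 := by
  have hd := det2 A
  unfold tr at h
  have e : A 1 1 = 2 - A 0 0 := by linear_combination h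
  rw [e] at hd
  have h2 : A 0 1 * A 1 0 = -(A 0 0 - 1) ^ 2 := by linear_combination -hd
  rw [pow_succ, pow_two]
  apply ext2 <;> simp only [m00, m01, m10, m11]
  · rw [e]
    have : (1 : Matrix.SpecialLinearGroup (Fin 2) K) 0 0 = 1 := rfl
    rw [this]
    linear_combination (2 * A 0 0 + (2 - A 0 0)) * h2 + (A 0 0 - 1) * h3
  · rw [e]
    have : (1 : Matrix.SpecialLinearGroup (Fin 2) K) 0 1 = 0 := rfl
    rw [this]
    linear_combination (A 0 1) * h2 + (A 0 1) * h3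
  · rw [e]
    have : (1 : Matrix.SpecialLinearGroup (Fin 2) K) 1 0 = 0 := rfl
    rw [this]
    linear_combination (A 1 0) * h2 + (A 1 0) * h3
  · rw [e]
    have : (1 : Matrix.SpecialLinearGroup (Fin 2) K) 1 1 = 1 := rfl
    rw [this]
    linear_combination (2 * (2 - A 0 0) + A 0 0) * h2 + (1 - A 0 0) * h3

theorem tr_of_pow [Fintype K] (h3 : ((3 : ℕ) : K) = 0) {A : Matrix.SpecialLinearGroup (Fin 2) K} {k : ℕ} (h : A ^ 3 ^ k = 1) : tr A = 2 := by
  have hp : Fact (Nat.Prime 3) := ⟨Nat.prime_three⟩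
  have hc : CharP K 3 := by
    rw [CharP.charP_iff_prime_eq_zero Nat.prime_three]; exact h3
  have h1 : ((A : Matrix (Fin 2) (Fin 2) K) - 1) ^ 3 ^ k = 0 := by
    rw [sub_pow_char_pow_of_commute (R := Matrix (Fin 2) (Fin 2) K) (p := 3) k (Commute.one_right _), one_pow, ← Matrix.SpecialLinearGroup.coe_pow, h]
    simp
  have h2 : ((A : Matrix (Fin 2) (Fin 2) K) - 1).det = 0 := by
    have := congrArg Matrix.det h1
    rw [Matrix.det_pow, Matrix.det_zero] at this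
    exact eq_zero_of_pow_eq_zero this
  rw [Matrix.det_fin_two] at h2
  simp at h2
  have hd := det2 A
  unfold tr
  linear_combination -h2 + hd

/-- matrices of trace two -/
def p2 (a b : K) (hb : b ≠ 0) : Matrix.SpecialLinearGroup (Fin 2) K :=
  ⟨!![1 + a, b; -(a ^ 2) / b, 1 - a], by rw [Matrix.det_fin_two]; simp; field_simp; ring⟩
def p3 (a : K) : Matrix.SpecialLinearGroup (Fin 2) K := ⟨!![1, 0; a, 1], by rw [Matrix.det_fin_two]; simp⟩

theorem card_tr2 [Fintype K] : Set.ncard {A : Matrix.SpecialLinearGroup (Fin 2) K | tr A = 2} = Fintype.card K ^ 2 := by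
  classical
  have h1 : Nat.card (K × K) = Nat.card ↥{A : Matrix.SpecialLinearGroup (Fin 2) K | tr A = 2} := by
    refine Nat.card_eq_of_bijective (fun p => if hb : p.2 ≠ 0 then ⟨p2 p.1 p.2 hb, ?_⟩ else ⟨p3 p.1, ?_⟩) ⟨?_, ?_⟩
    · show (1 + p.1) + (1 - p.1) = 2
      ring
    · show (1 : K) + 1 = 2
      ring
    · rintro ⟨a, b⟩ ⟨a', b'⟩ h
      simp only at h
      by_cases hb : b ≠ 0 <;> by_cases hb' : b' ≠ 0
      · rw [dif_pos hb, dif_pos hb'] at h
        have e := congrArg Subtype.val h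
        have e1 : 1 + a = 1 + a' := congrArg (fun A : Matrix.SpecialLinearGroup (Fin 2) K => A 0 0) e
        have e2 : b = b' := congrArg (fun A : Matrix.SpecialLinearGroup (Fin 2) K => A 0 1) e
        rw [add_left_cancel e1, e2]
      · rw [dif_pos hb, dif_neg hb'] at h
        have e := congrArg Subtype.val h
        have e2 : b = 0 := congrArg (fun A : Matrix.SpecialLinearGroup (Fin 2) K => A 0 1) e
        exact absurd e2 hb
      · rw [dif_neg hb, dif_pos hb'] at h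
        have e := congrArg Subtype.val h
        have e2 : 0 = b' := congrArg (fun A : Matrix.SpecialLinearGroup (Fin 2) K => A 0 1) e
        exact absurd e2.symm hb'
      · rw [dif_neg hb, dif_neg hb'] at h
        have e := congrArg Subtype.val h
        have e2 : a = a' := congrArg (fun A : Matrix.SpecialLinearGroup (Fin 2) K => A 1 0) e
        push Not at hb hb'
        rw [e2, hb, hb']
    · rintro ⟨A, hA⟩
      have hd := det2 A
      have hA' : A 1 1 = 2 - A 0 0 := by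
        have : A 0 0 + A 1 1 = 2 := hA
        linear_combination this
      rw [hA'] at hd
      by_cases hb : A 0 1 = 0
      · refine ⟨(A 1 0, 0), ?_⟩
        simp only [ne_eq, not_true_eq_false, dite_false]
        apply Subtype.ext
        have h2 : A 0 0 = 1 := by
          have : (A 0 0 - 1) * (A 0 0 - 1) = 0 := by linear_combination -hd - (A 1 0) * hb
          have := mul_self_eq_zero.1 this
          linear_combination this
        apply ext2
        · exact h2.symm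
        · exact hb.symm
        · rfl
        · show (1 : K) = A 1 1
          rw [hA', h2]; ring
      · refine ⟨(A 0 0 - 1, A 0 1), ?_⟩
        simp only [ne_eq, hb, not_false_eq_true, dite_true]
        apply Subtype.ext
        apply ext2
        · show 1 + (A 0 0 - 1) = A 0 0; ring
        · rfl
        · show -((A 0 0 - 1) ^ 2) / A 0 1 = A 1 0
          rw [div_eq_iff hb]
          linear_combination hd
        · show 1 - (A 0 0 - 1) = A 1 1
          rw [hA']; ring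
  have h2 : Nat.card ↥{A : Matrix.SpecialLinearGroup (Fin 2) K | tr A = 2} = Set.ncard {A : Matrix.SpecialLinearGroup (Fin 2) K | tr A = 2} := rfl
  rw [← h2, ← h1, Nat.card_prod, Nat.card_eq_fintype_card, pow_two]

end SL

variable {G : Type*} [Group G] [Finite G] {K : Type*} [Field K] [Fintype K] {m : ℕ} (R : RG G K m)

/-- classes -/
def Cls (X : Set G) : Set G := {y | ∃ g : G, ∃ x ∈ X, y = g * x * g⁻¹}

theorem RG.setA_count : Set.ncard (Cls {x | x ∈ R.U ∧ x ≠ 1}) = ((3 ^ (2 * m + 1)) ^ 3 + 1) * ((3 ^ (2 * m + 1)) ^ 3 - 1) := by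
  have h2 := ti_count R.B {x | x ∈ R.U ∧ x ≠ 1} (by
    rintro n hn x ⟨hx, hx1⟩
    refine ⟨R.Bnorm hn hx, fun e => hx1 ?_⟩
    have : x = n⁻¹ * (n * x * n⁻¹) * n := by group
    rw [this, e]; group) (by
    rintro g x ⟨hx, hx1⟩ ⟨hg, hg1⟩
    exact R.U_TI hx hx1 hg)
  have h3 : {x | x ∈ R.U ∧ x ≠ 1} = (R.U : Set G) \ {1} := by ext y; simp
  have h4 : Set.ncard (R.U : Set G) = (3 ^ (2 * m + 1)) ^ 3 := R.cU
  nth_rewrite 2 [h3] at h2
  rw [Set.ncard_sdiff_singleton_of_mem (Subgroup.one_mem R.U), h4, R.card_B, R.cG] at h2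
  have hq : 0 < 3 ^ (2 * m + 1) - 1 := by
    have : 3 ≤ 3 ^ (2 * m + 1) := by
      calc 3 = 3 ^ 1 := by norm_num
        _ ≤ 3 ^ (2 * m + 1) := Nat.pow_le_pow_right (by norm_num) (by omega)
    omega
  have hpos : 0 < (3 ^ (2 * m + 1)) ^ 3 * (3 ^ (2 * m + 1) - 1) := by positivity
  apply Nat.eq_of_mul_eq_mul_right hpos
  unfold Cls
  rw [h2]; ring

/-- the elements of order dividing 3 in L -/
theorem RG.L3 : Set.ncard {x | ∃ A : Matrix.SpecialLinearGroup (Fin 2) K, tr A = 2 ∧ x = R.τ * R.φ A} = (3 ^ (2 * m + 1)) ^ 2 := by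
  have h1 : {x | ∃ A : Matrix.SpecialLinearGroup (Fin 2) K, tr A = 2 ∧ x = R.τ * R.φ A} = (fun A => R.τ * R.φ A) '' {A : Matrix.SpecialLinearGroup (Fin 2) K | tr A = 2} := by
    ext x
    constructor
    · rintro ⟨A, hA, rfl⟩; exact ⟨A, hA, rfl⟩
    · rintro ⟨A, hA, rfl⟩; exact ⟨A, hA, rfl⟩
  rw [h1, Set.InjOn.ncard_image, card_tr2, R.hK]
  intro A hA B hB h
  have h2 : R.φ A = R.φ B := mul_left_cancel h
  rw [R.φ_eq] at h2
  rcases h2 with e | e
  · exact e
  · exfalso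
    have hA' : A 0 0 + A 1 1 = 2 := hA
    have hB' : B 0 0 + B 1 1 = 2 := hB
    rw [e, n00, n00] at hA'
    have h3 := R.three
    have : (1 : K) = 0 := by linear_combination -hA' - hB' - h3
    exact one_ne_zero this

theorem RG.setB_cube {x : G} (h : ∃ A : Matrix.SpecialLinearGroup (Fin 2) K, tr A = 2 ∧ x = R.τ * R.φ A) : x ^ 3 = R.τ := by
  obtain ⟨A, hA, rfl⟩ := h
  have hc : Commute R.τ (R.φ A) := R.τcen A
  rw [hc.mul_pow, ← map_pow, cube_of_tr R.three hA, map_one, mul_one, pow_succ, pow_two, R.τ2, one_mul]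

theorem RG.setB_count : Set.ncard (Cls {x | ∃ A : Matrix.SpecialLinearGroup (Fin 2) K, tr A = 2 ∧ x = R.τ * R.φ A}) = (3 ^ (2 * m + 1)) ^ 4 * Ph m := by
  have h2 := ti_count (Subgroup.centralizer {R.τ}) {x | ∃ A : Matrix.SpecialLinearGroup (Fin 2) K, tr A = 2 ∧ x = R.τ * R.φ A} (by
    rintro n hn x ⟨A, hA, rfl⟩
    rw [Subgroup.mem_centralizer_singleton_iff] at hn
    have h1 : ∃ C, n * R.φ A * n⁻¹ = R.φ (C * A * C⁻¹) := by
      obtain ⟨C, h | h⟩ := (R.cen n).1 hn.symm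
      · exact ⟨C, by rw [h]; simp⟩
      · refine ⟨C, ?_⟩
        have h4 := R.τcen (C * A * C⁻¹)
        rw [map_mul, map_mul, map_inv] at h4 ⊢
        rw [h]
        calc R.τ * R.φ C * R.φ A * (R.τ * R.φ C)⁻¹ = R.τ * (R.φ C * R.φ A * (R.φ C)⁻¹) * R.τ⁻¹ := by group
          _ = _ := by rw [h4]; group
    obtain ⟨C, hC⟩ := h1
    refine ⟨C * A * C⁻¹, by rw [tr_conj]; exact hA, ?_⟩
    rw [← hC]
    calc n * (R.τ * R.φ A) * n⁻¹ = (n * R.τ) * R.φ A * n⁻¹ := by group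
      _ = _ := by rw [hn]; group) (by
    rintro g x hx hg
    have h3 := R.setB_cube hx
    have h4 := R.setB_cube hg
    rw [conj_pow, h3] at h4
    rw [Subgroup.mem_centralizer_singleton_iff]
    exact mul_inv_eq_iff_eq_mul.1 h4)
  rw [R.L3, R.card_Cτ, R.cG'] at h2
  have hq : 0 < 3 ^ (2 * m + 1) - 1 := by
    have : 3 ≤ 3 ^ (2 * m + 1) := by
      calc 3 = 3 ^ 1 := by norm_num
        _ ≤ 3 ^ (2 * m + 1) := Nat.pow_le_pow_right (by norm_num) (by omega)
    omega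
  have hpos : 0 < 3 ^ (2 * m + 1) * ((3 ^ (2 * m + 1) - 1) * (3 ^ (2 * m + 1) + 1)) := by positivity
  apply Nat.eq_of_mul_eq_mul_right hpos
  unfold Cls
  rw [h2]; ring

theorem RG.H_sub_conj {h c : G} (hh : h ∈ R.H) (h1 : h ≠ 1) (h2 : h ≠ R.τ) (hc : c * h * c⁻¹ ∈ R.H) (hm : 1 ≤ m) : c ∈ Subgroup.normalizer (R.H : Set G) :=
  (R.norm_H_mem hm).2 (R.H_conj hh h1 h2 hc)

theorem RG.setC_count (hm : 1 ≤ m) : 2 * Set.ncard (Cls {x | x ∈ R.H ∧ x ≠ 1 ∧ x ≠ R.τ}) = (3 ^ (2 * m + 1)) ^ 3 * ((3 ^ (2 * m + 1)) ^ 3 + 1) * (3 ^ (2 * m + 1) - 3) := by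
  have hq3 := R.q_ge hm
  have h2 := ti_count (Subgroup.normalizer (R.H : Set G)) {x | x ∈ R.H ∧ x ≠ 1 ∧ x ≠ R.τ} (by
    rintro n hn x ⟨hx, hx1, hx2⟩
    have e1 : x = n⁻¹ * (n * x * n⁻¹) * n := by group
    refine ⟨(Subgroup.mem_normalizer_iff.1 hn x).1 hx, fun e => hx1 ?_, fun e => hx2 ?_⟩
    · rw [e1, e]; group
    · apply R.unique_inv hx hx1
      have : x * x = n⁻¹ * ((n * x * n⁻¹) * (n * x * n⁻¹)) * n := by group
      rw [this, e, R.τ2]; group) (by
    rintro g x ⟨hx, hx1, hx2⟩ ⟨hg, -, -⟩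
    exact R.H_sub_conj hx hx1 hx2 hg hm)
  have h3 : {x | x ∈ R.H ∧ x ≠ 1 ∧ x ≠ R.τ} = ((R.H : Set G) \ {1}) \ {R.τ} := by ext y; simp [and_assoc]
  have h4 : Set.ncard (R.H : Set G) = 3 ^ (2 * m + 1) - 1 := R.cH
  nth_rewrite 2 [h3] at h2
  rw [Set.ncard_sdiff_singleton_of_mem (show R.τ ∈ (R.H : Set G) \ {1} from ⟨R.τH, R.τ1⟩),
    Set.ncard_sdiff_singleton_of_mem (Subgroup.one_mem R.H), h4, R.card_NH hm, R.cG] at h2
  have hpos : 0 < 3 ^ (2 * m + 1) - 1 := by omega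
  apply Nat.eq_of_mul_eq_mul_right hpos
  have e : 3 ^ (2 * m + 1) - 1 - 1 - 1 = 3 ^ (2 * m + 1) - 3 := by omega
  rw [e] at h2
  unfold Cls
  calc _ = Set.ncard {y | ∃ g : G, ∃ x ∈ {x | x ∈ R.H ∧ x ≠ 1 ∧ x ≠ R.τ}, y = g * x * g⁻¹} * (2 * (3 ^ (2 * m + 1) - 1)) := by ring
    _ = _ := by rw [h2]; ring

theorem RG.TD.setD_elt (hm : 1 ≤ m) {D : Subgroup G} {a : G} (h : R.TD D a) {x : G} (hx : x ∈ D) (hx2 : x * x ≠ 1) :
    ∃ j : ℕ, x ^ j ∈ Subgroup.zpowers a ∧ x ^ j ≠ 1 := by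
  refine ⟨2 * 2, ?_, ?_⟩
  · obtain ⟨e, he, i, hi⟩ := h.el x hx
    have heD : e ∈ D := by
      rcases he with rfl | rfl | rfl | rfl
      · exact D.one_mem
      · exact h.τm
      · exact h.nm
      · exact D.mul_mem h.τm h.nm
    have hee : e * e = 1 := by
      rcases he with rfl | rfl | rfl | rfl
      · simp
      · exact R.τ2
      · exact R.n2
      · exact R.τn2
    have hc : Commute e (a ^ i) := (show Commute e a from h.comm _ heD _ h.am).zpow_right i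
    rw [hi, pow_mul, hc.mul_pow, pow_two e, hee, one_mul]
    exact Subgroup.pow_mem _ (Subgroup.pow_mem _ (Subgroup.mem_zpowers_iff.2 ⟨i, rfl⟩) _) _
  · intro h4
    have h1 : orderOf x ∣ 4 := orderOf_dvd_of_pow_eq_one h4
    have h5 : IsPGroup 2 (Subgroup.zpowers x) := by
      obtain ⟨k, _, hk⟩ := (Nat.dvd_prime_pow Nat.prime_two (m := 2)).1 (by norm_num; exact h1)
      exact IsPGroup.of_card (n := k) (by rw [Nat.card_zpowers, hk])
    exact hx2 ((R.two_elt _ h5).1 x (Subgroup.mem_zpowers x))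

theorem RG.TD.norm_of (hperf : commutator G = ⊤) (hm : 1 ≤ m) {D : Subgroup G} {a : G} (h : R.TD D a) {x g : G} (hx : x ∈ D) (hx2 : x * x ≠ 1)
    (hg : g * x * g⁻¹ ∈ D) : g ∈ Subgroup.normalizer (Subgroup.zpowers a : Set G) := by
  obtain ⟨j, hj1, hj2⟩ := h.setD_elt R hm hx hx2
  have h1 : g * x ^ j * g⁻¹ ∈ Subgroup.zpowers a := by
    apply h.odd R
    · rw [← conj_pow]; exact Subgroup.pow_mem _ hg j
    · rw [CfsgLib.TransFus.orderOf_conj g (x ^ j)]
      exact Odd.of_dvd_nat (h.zodd R) (orderOf_dvd_of_mem_zpowers hj1)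
  have h2 : g * x ^ j * g⁻¹ ≠ 1 := by
    intro e
    apply hj2
    have : x ^ j = g⁻¹ * (g * x ^ j * g⁻¹) * g := by group
    rw [this, e]; group
  -- g normalises D
  have hmap : D.map (MulAut.conj g).toMonoidHom = D := by
    ext y
    have hyT : y ∈ D ↔ y ∈ Subgroup.centralizer {g * x ^ j * g⁻¹} := by rw [h.cent_D R hperf h1 h2]
    have hyT' : g⁻¹ * y * g ∈ D ↔ g⁻¹ * y * g ∈ Subgroup.centralizer {x ^ j} := by rw [h.cent_D R hperf hj1 hj2]
    rw [map_conj_mem, hyT, hyT', Subgroup.mem_centralizer_singleton_iff, Subgroup.mem_centralizer_singleton_iff]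
    constructor
    · intro e
      calc y * (g * x ^ j * g⁻¹) = g * (g⁻¹ * y * g * x ^ j) * g⁻¹ := by group
        _ = _ := by rw [e]; group
    · intro e
      calc g⁻¹ * y * g * x ^ j = g⁻¹ * (y * (g * x ^ j * g⁻¹)) * g := by group
        _ = _ := by rw [e]; group
  have hD : ∀ y, y ∈ D ↔ g * y * g⁻¹ ∈ D := by
    intro y
    have h4 := map_conj_mem D g (g * y * g⁻¹)
    have e1 : g⁻¹ * (g * y * g⁻¹) * g = y := by group
    rw [e1, hmap] at h4
    exact h4.symm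
  rw [Subgroup.mem_normalizer_iff]
  intro y
  constructor
  · intro hy
    apply h.odd R ((hD y).1 (h.zD R hy))
    rw [CfsgLib.TransFus.orderOf_conj g y]
    exact Odd.of_dvd_nat (h.zodd R) (orderOf_dvd_of_mem_zpowers hy)
  · intro hy
    apply h.odd R ((hD y).2 (h.zD R hy))
    rw [← CfsgLib.TransFus.orderOf_conj g y]
    exact Odd.of_dvd_nat (h.zodd R) (orderOf_dvd_of_mem_zpowers hy)

theorem RG.TD.normD (hperf : commutator G = ⊤) (hm : 1 ≤ m) {D : Subgroup G} {a : G} (h : R.TD D a) {n x : G}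
    (hn : n ∈ Subgroup.normalizer (Subgroup.zpowers a : Set G)) (hx : x ∈ D) : n * x * n⁻¹ ∈ D := by
  have h1 := norm_le_norm_cent _ hn
  rw [h.cent_zp R hperf le_rfl (by
    intro e
    rw [Subgroup.zpowers_eq_bot] at e
    exact (h.a1 R hm).1 e)] at h1
  exact (Subgroup.mem_normalizer_iff.1 h1 x).1 hx

theorem RG.TD.setD_count (hperf : commutator G = ⊤) (hm : 1 ≤ m) {D : Subgroup G} {a : G} (h : R.TD D a) :
    6 * Set.ncard (Cls {x | x ∈ D ∧ x * x ≠ 1}) = (3 ^ (2 * m + 1)) ^ 3 * (3 ^ (2 * m + 1) - 1) * Ph m * (3 ^ (2 * m + 1) - 3) := by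
  have hq3 := R.q_ge hm
  have h2 := ti_count (Subgroup.normalizer (Subgroup.zpowers a : Set G)) {x | x ∈ D ∧ x * x ≠ 1} (by
    rintro n hn x ⟨hx, hx1⟩
    refine ⟨h.normD R hperf hm hn hx, fun e => hx1 ?_⟩
    have : x * x = n⁻¹ * ((n * x * n⁻¹) * (n * x * n⁻¹)) * n := by group
    rw [this, e]; group) (by
    rintro g x ⟨hx, hx1⟩ ⟨hg, -⟩
    exact h.norm_of R hperf hm hx hx1 hg)
  have h3 : {x | x ∈ D ∧ x * x ≠ 1} = (D : Set G) \ {1, R.τ, R.n, R.τ * R.n} := by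
    ext y
    constructor
    · rintro ⟨hy, hy2⟩
      refine ⟨hy, fun hy3 => hy2 ?_⟩
      rcases hy3 with rfl | rfl | rfl | rfl
      · simp
      · exact R.τ2
      · exact R.n2
      · exact R.τn2
    · rintro ⟨hy, hy2⟩
      refine ⟨hy, fun hy3 => hy2 ?_⟩
      rcases h.inv_el R hy hy3 with rfl | rfl | rfl | rfl <;> simp
  have h4 : Set.ncard (D : Set G) = 3 ^ (2 * m + 1) + 1 := h.cD
  have h5 : Set.ncard ({1, R.τ, R.n, R.τ * R.n} : Set G) = 4 := by
    have e3 : R.n ≠ R.τ * R.n := fun e => R.τ1 (right_eq_mul.1 e)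
    rw [Set.ncard_insert_of_notMem, Set.ncard_insert_of_notMem, Set.ncard_pair e3]
    · simp only [Set.mem_insert_iff, Set.mem_singleton_iff, not_or]
      exact ⟨fun e => R.τφ ww (by rw [R.hw, e]), fun e => R.n1 (left_eq_mul.1 e)⟩
    · simp only [Set.mem_insert_iff, Set.mem_singleton_iff, not_or]
      exact ⟨R.τ1.symm, R.n1.symm, R.τn1.symm⟩
  have h6 : ({1, R.τ, R.n, R.τ * R.n} : Set G) ⊆ (D : Set G) := by
    rintro y (rfl | rfl | rfl | rfl)
    · exact D.one_mem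
    · exact h.τm
    · exact h.nm
    · exact D.mul_mem h.τm h.nm
  nth_rewrite 2 [h3] at h2
  rw [Set.ncard_sdiff h6, h4, h5, h.card_N R hperf hm, R.cG'] at h2
  apply Nat.eq_of_mul_eq_mul_right (show 0 < 3 ^ (2 * m + 1) + 1 by positivity)
  have e : 3 ^ (2 * m + 1) + 1 - 4 = 3 ^ (2 * m + 1) - 3 := by omega
  rw [e] at h2
  unfold Cls
  calc _ = Set.ncard {y | ∃ g : G, ∃ x ∈ {x | x ∈ D ∧ x * x ≠ 1}, y = g * x * g⁻¹} * (6 * (3 ^ (2 * m + 1) + 1)) := by ring
    _ = _ := by rw [h2]; ring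

end CfsgLib.ReeA
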