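import Cfsg.Agent.LibRee22

set_option autoImplicit false
set_option linter.unusedSectionVars false
set_option linter.unusedVariables false
set_option linter.unusedSimpArgs false

/-! Groups of Ree type: the partition by orders -/

namespace CfsgLib.ReeA

open Matrix CfsgLib.Chev CfsgLib.Rank1 CfsgLib.SL2P

variable {G : Type*} [Group G] [Finite G] {K : Type*} [Field K] [Fintype K] {m : ℕ} (R : RG G K m)

theorem orderOf_cls {X : Set G} {y : G} (h : y ∈ Cls X) : ∃ x ∈ X, orderOf y = orderOf x := by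
  obtain ⟨g, x, hx, rfl⟩ := h
  exact ⟨x, hx, CfsgLib.TransFus.orderOf_conj g x⟩

theorem RG.ordA {y : G} (h : y ∈ Cls {x | x ∈ R.U ∧ x ≠ 1}) : orderOf y ∣ 9 ∧ orderOf y ≠ 1 := by
  obtain ⟨x, ⟨hx, hx1⟩, e⟩ := orderOf_cls h
  rw [e]
  exact ⟨orderOf_dvd_of_pow_eq_one (R.U9 x hx), fun h => hx1 (orderOf_eq_one_iff.1 h)⟩

theorem RG.ordB {y : G} (h : y ∈ Cls {x | ∃ A : Matrix.SpecialLinearGroup (Fin 2) K, tr A = 2 ∧ x = R.τ * R.φ A}) : orderOf y ∣ 6 ∧ 2 ∣ orderOf y := by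
  obtain ⟨x, hx, e⟩ := orderOf_cls h
  rw [e]
  have h3 := R.setB_cube hx
  have h6 : orderOf x ∣ 6 := orderOf_dvd_of_pow_eq_one (by
    have : (6 : ℕ) = 3 * 2 := by norm_num
    rw [this, pow_mul, h3, pow_two, R.τ2])
  refine ⟨h6, ?_⟩
  by_contra h2
  have h4 : orderOf x ∣ 3 := by
    have : Nat.Coprime (orderOf x) 2 := by
      rw [Nat.coprime_comm, Nat.Prime.coprime_iff_not_dvd Nat.prime_two]; exact h2
    have h5 : orderOf x ∣ 2 * 3 := h6
    exact this.dvd_of_dvd_mul_left h5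
  rw [orderOf_dvd_iff_pow_eq_one, h3] at h4
  exact R.τ1 h4

include R in
theorem RG.pow_two_elt {x : G} (h : ∀ s, s.Prime → s ∣ orderOf x → s = 2) : x * x = 1 := by
  have h1 : orderOf x = 2 ^ (orderOf x).primeFactorsList.length := Nat.eq_prime_pow_of_unique_prime_dvd (orderOf_pos x).ne' (fun {d} hd hd' => h d hd hd')
  have h5 : IsPGroup 2 (Subgroup.zpowers x) := IsPGroup.of_card (n := (orderOf x).primeFactorsList.length) (by rw [Nat.card_zpowers]; exact h1)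
  exact (R.two_elt _ h5).1 x (Subgroup.mem_zpowers x)

theorem RG.ordC {y : G} (h : y ∈ Cls {x | x ∈ R.H ∧ x ≠ 1 ∧ x ≠ R.τ}) :
    orderOf y ∣ 3 ^ (2 * m + 1) - 1 ∧ ∃ s, s.Prime ∧ s ≠ 2 ∧ s ∣ 3 ^ (2 * m + 1) - 1 ∧ s ∣ orderOf y := by
  obtain ⟨x, ⟨hx, hx1, hx2⟩, e⟩ := orderOf_cls h
  rw [e]
  have h1 : orderOf x ∣ 3 ^ (2 * m + 1) - 1 := by
    have := orderOf_dvd_natCard (⟨x, hx⟩ : R.H)
    rwa [← Subgroup.orderOf_coe, R.cH] at this
  refine ⟨h1, ?_⟩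
  by_contra hcon
  push Not at hcon
  apply hx2
  apply R.unique_inv hx hx1
  apply R.pow_two_elt
  intro s hs hsx
  by_contra hs2
  exact hcon s hs hs2 (hsx.trans h1) hsx

theorem RG.TD.ordD (hm : 1 ≤ m) {D : Subgroup G} {a : G} (hT : R.TD D a) {y : G} (h : y ∈ Cls {x | x ∈ D ∧ x * x ≠ 1}) :
    orderOf y ∣ 3 ^ (2 * m + 1) + 1 ∧ ∃ s, s.Prime ∧ s ∣ (3 ^ (2 * m + 1) + 1) / 4 ∧ s ∣ orderOf y := by
  obtain ⟨x, ⟨hx, hx2⟩, e⟩ := orderOf_cls h
  rw [e]
  constructor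
  · have := orderOf_dvd_natCard (⟨x, hx⟩ : D)
    rwa [← Subgroup.orderOf_coe, hT.cD] at this
  · obtain ⟨j, hj1, hj2⟩ := hT.setD_elt R hm hx hx2
    obtain ⟨s, hs, hsd⟩ := Nat.exists_prime_and_dvd (n := orderOf (x ^ j)) (fun h => hj2 (orderOf_eq_one_iff.1 h))
    refine ⟨s, hs, ?_, hsd.trans (orderOf_pow_dvd j)⟩
    rw [← hT.oa]
    exact hsd.trans (orderOf_dvd_of_mem_zpowers hj1)

/-- the elements of the tori of the third kind -/
def setE (G : Type*) [Group G] (m : ℕ) : Set G := {y | ∃ s, s.Prime ∧ s ∣ Ph m ∧ s ∣ orderOf y}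

include R in
theorem RG.ordE (hperf : commutator G = ⊤) (ρ : G →* Matrix (Fin 7) (Fin 7) K) (hρ : Function.Injective ρ) {y : G} (h : y ∈ setE G m) :
    orderOf y ∣ Ph m := by
  obtain ⟨s, hs, h1, h2⟩ := h
  obtain ⟨T, hT, hy, -, -⟩ := R.exists_TT hperf ρ hρ hs h1 h2
  have := orderOf_dvd_natCard (⟨y, hy⟩ : T)
  rw [← Subgroup.orderOf_coe] at this
  exact this.trans hT.cd

include R in
theorem RG.memA {y : G} (hy1 : y ≠ 1) (h : ∀ s, s.Prime → s ∣ orderOf y → s = 3) : y ∈ Cls {x | x ∈ R.U ∧ x ≠ 1} := by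
  have h1 : orderOf y = 3 ^ (orderOf y).primeFactorsList.length := Nat.eq_prime_pow_of_unique_prime_dvd (orderOf_pos y).ne' (fun {d} hd hd' => h d hd hd')
  obtain ⟨g, hg⟩ := R.into_U ⟨_, h1⟩
  refine ⟨g⁻¹, g * y * g⁻¹, ⟨hg, fun e => hy1 ?_⟩, by group⟩
  have : y = g⁻¹ * (g * y * g⁻¹) * g := by group
  rw [this, e]; group

/-- elements of 3-power order in the centraliser of τ -/
theorem RG.L3mem {v : G} (hv : v * R.τ = R.τ * v) {k : ℕ} (hk : v ^ 3 ^ k = 1) : ∃ A : Matrix.SpecialLinearGroup (Fin 2) K, tr A = 2 ∧ v = R.φ A := by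
  have hodd : Odd (3 ^ k) := Odd.pow (by decide)
  have hneg : (-1 : Matrix.SpecialLinearGroup (Fin 2) K) ^ 3 ^ k = -1 := hodd.neg_one_pow
  obtain ⟨A, hA | hA⟩ := (R.cen v).1 hv.symm
  · rw [hA, ← map_pow, R.ker'] at hk
    rcases hk with h | h
    · exact ⟨A, tr_of_pow R.char3 h, hA⟩
    · refine ⟨-A, tr_of_pow (k := k) R.char3 ?_, by rw [R.φ_neg, hA]⟩
      rw [neg_pow, hneg, h]; simp
  · exfalso
    have hc : Commute R.τ (R.φ A) := R.τcen A
    have h2 : R.τ ^ 3 ^ k = R.τ := by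
      obtain ⟨j, hj⟩ := hodd
      rw [hj, pow_succ, pow_mul, pow_two, R.τ2, one_pow, one_mul]
    rw [hA, hc.mul_pow, h2, ← map_pow] at hk
    apply R.τφ (A ^ 3 ^ k)
    have h3 : R.φ (A ^ 3 ^ k) = R.τ⁻¹ := (inv_eq_of_mul_eq_one_right hk).symm
    rw [h3, R.τi]

theorem RG.memB (hperf : commutator G = ⊤) {y : G} (h : ∀ s, s.Prime → s ∣ orderOf y → s = 3 ∨ s = 2) (h2 : 2 ∣ orderOf y) :
    y ∈ Cls {x | ∃ A : Matrix.SpecialLinearGroup (Fin 2) K, tr A = 2 ∧ x = R.τ * R.φ A} := by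
  -- order is 2 * 3^b
  obtain ⟨a, b, hb, hab⟩ := Nat.exists_eq_pow_mul_and_not_dvd (orderOf_pos y).ne' 2 (by norm_num)
  have hb3 : b = 3 ^ b.primeFactorsList.length := by
    apply Nat.eq_prime_pow_of_unique_prime_dvd
    · rintro rfl; exact hb (dvd_zero 2)
    · intro s hs hsb
      rcases h s hs (by rw [hab]; exact hsb.mul_left _) with e | e
      · exact e
      · exfalso; rw [e] at hsb; exact hb hsb
  set k := b.primeFactorsList.length
  have hbpos : 0 < b := by rw [hb3]; positivity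
  -- y^b is an involution
  have hyb : orderOf (y ^ b) = 2 ^ a := by
    rw [orderOf_pow' y hbpos.ne', hab, Nat.gcd_eq_right ⟨2 ^ a, by ring⟩, Nat.mul_div_cancel _ hbpos]
  have hyb2 : y ^ b * y ^ b = 1 := by
    apply R.pow_two_elt
    intro s hs hsd
    rw [hyb] at hsd
    exact (Nat.prime_dvd_prime_iff_eq hs Nat.prime_two).1 (hs.dvd_of_dvd_pow hsd)
  have ha : a ≠ 0 := by
    rintro rfl
    rw [pow_zero, one_mul] at hab
    rw [hab] at h2
    exact hb h2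
  have hyb1 : y ^ b ≠ 1 := by
    intro e
    rw [e, orderOf_one] at hyb
    have : 1 < 2 ^ a := Nat.one_lt_pow ha (by norm_num)
    omega
  obtain ⟨g, hg⟩ := R.inv_conj hperf hyb1 hyb2
  set y' := g⁻¹ * y * g with hy'
  have hy'b : y' ^ b = R.τ := by
    have : y' = g⁻¹ * y * g⁻¹⁻¹ := by rw [hy', inv_inv]
    rw [this, conj_pow, ← hg]; group
  have hyc : y' * R.τ = R.τ * y' := by rw [← hy'b, ← pow_succ', ← pow_succ]
  have hbodd : Odd b := by rw [← Nat.not_even_iff_odd, even_iff_two_dvd]; exact hb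
  have hτb : R.τ ^ b = R.τ := by
    obtain ⟨j, hj⟩ := hbodd
    rw [hj, pow_succ, pow_mul, pow_two, R.τ2, one_pow, one_mul]
  have hv : (R.τ * y') ^ 3 ^ k = 1 := by
    have hc : Commute R.τ y' := hyc.symm
    rw [← hb3, hc.mul_pow, hτb, hy'b, R.τ2]
  obtain ⟨A, hA, e⟩ := R.L3mem (v := R.τ * y') (by rw [mul_assoc, hyc]) hv
  refine ⟨g, y', ⟨A, hA, ?_⟩, ?_⟩
  · rw [← e, ← mul_assoc, R.τ2, one_mul]
  · rw [hy']; group

theorem RG.cover (hperf : commutator G = ⊤) (ρ : G →* Matrix (Fin 7) (Fin 7) K) (hρ : Function.Injective ρ) {D : Subgroup G} {a : G} (hT : R.TD D a) (y : G) :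
    y = 1 ∨ y ∈ Cls {x | x ∈ R.U ∧ x ≠ 1} ∨ y ∈ Cls {x | ∃ A : Matrix.SpecialLinearGroup (Fin 2) K, tr A = 2 ∧ x = R.τ * R.φ A} ∨
      y ∈ Cls {x | x ∈ R.H ∧ x ≠ 1 ∧ x ≠ R.τ} ∨ y ∈ Cls {x | x ∈ D ∧ x * x ≠ 1} ∨ y ∈ setE G m := by
  by_cases hy1 : y = 1
  · exact Or.inl hy1
  right
  by_cases hE : y ∈ setE G m
  · right; right; right; right; exact hE
  by_cases hD : ∃ s, s.Prime ∧ s ∣ (3 ^ (2 * m + 1) + 1) / 4 ∧ s ∣ orderOf y
  · right; right; right; left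
    obtain ⟨s, hs, h1, h2⟩ := hD
    obtain ⟨g, hg, j, hj1, hj2⟩ := hT.into_D R hperf hs h1 h2
    refine ⟨g⁻¹, g * y * g⁻¹, ⟨hg y rfl, fun e => ?_⟩, by group⟩
    have h3 : y * y = 1 := by
      have : y * y = g⁻¹ * ((g * y * g⁻¹) * (g * y * g⁻¹)) * g := by group
      rw [this, e]; group
    have h4 : orderOf y ∣ 2 := orderOf_dvd_of_pow_eq_one (by rw [pow_two]; exact h3)
    exact (prime_facts hs h1).1 ((Nat.prime_dvd_prime_iff_eq hs Nat.prime_two).1 (h2.trans h4))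
  by_cases hC : ∃ s, s.Prime ∧ s ≠ 2 ∧ s ∣ 3 ^ (2 * m + 1) - 1 ∧ s ∣ orderOf y
  · right; right; left
    obtain ⟨s, hs, h1, h2, h3⟩ := hC
    obtain ⟨g, hg, -⟩ := R.into_Hcent hs h1 h2 h3
    have ho := CfsgLib.TransFus.orderOf_conj g y
    refine ⟨g⁻¹, g * y * g⁻¹, ⟨hg y rfl, fun e => ?_, fun e => ?_⟩, by group⟩
    · rw [e, orderOf_one] at ho
      rw [← ho] at h3
      exact hs.one_lt.ne' (Nat.dvd_one.1 h3)
    · have h5 : orderOf R.τ = 2 := orderOf_eq_prime (by rw [pow_two]; exact R.τ2) R.τ1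
      rw [e, h5] at ho
      rw [← ho] at h3
      exact h1 ((Nat.prime_dvd_prime_iff_eq hs Nat.prime_two).1 h3)
  have hall : ∀ s, s.Prime → s ∣ orderOf y → s = 3 ∨ s = 2 := by
    intro s hs hsy
    have h1 : s ∣ Nat.card G := hsy.trans (orderOf_dvd_natCard y)
    rw [R.cG'] at h1
    have h8 := hmod8 m
    rcases (Nat.Prime.dvd_mul hs).1 h1 with h2 | h2
    · rcases (Nat.Prime.dvd_mul hs).1 h2 with h2 | h2
      · rcases (Nat.Prime.dvd_mul hs).1 h2 with h2 | h2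
        · left; exact (Nat.prime_dvd_prime_iff_eq hs Nat.prime_three).1 (hs.dvd_of_dvd_pow (hs.dvd_of_dvd_pow h2))
        · right
          by_contra hs2
          exact hC ⟨s, hs, hs2, h2, hsy⟩
      · have h4 : 4 * ((3 ^ (2 * m + 1) + 1) / 4) = 3 ^ (2 * m + 1) + 1 := by omega
        rw [← h4] at h2
        rcases (Nat.Prime.dvd_mul hs).1 h2 with h5 | h5
        · right
          have : s ∣ 2 ^ 2 := by norm_num; exact h5
          exact (Nat.prime_dvd_prime_iff_eq hs Nat.prime_two).1 (hs.dvd_of_dvd_pow this)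
        · exact absurd ⟨s, hs, h5, hsy⟩ hD
    · exact absurd ⟨s, hs, h2, hsy⟩ hE
  by_cases h2 : 2 ∣ orderOf y
  · right; left; exact R.memB hperf hall h2
  · left
    apply R.memA hy1
    intro s hs hsy
    rcases hall s hs hsy with e | e
    · exact e
    · rw [e] at hsy; exact absurd hsy h2

theorem three_q (m : ℕ) : ¬ 3 ∣ 3 ^ (2 * m + 1) - 1 ∧ ¬ 3 ∣ (3 ^ (2 * m + 1) + 1) / 4 := by
  have h3 : 3 ^ (2 * m + 1) = 3 * 3 ^ (2 * m) := by rw [pow_succ]; ring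
  have hp : 1 ≤ 3 ^ (2 * m) := Nat.one_le_pow _ _ (by norm_num)
  have h8 := hmod8 m
  refine ⟨by omega, fun h => ?_⟩
  have h4 : 4 * ((3 ^ (2 * m + 1) + 1) / 4) = 3 ^ (2 * m + 1) + 1 := by omega
  have h5 : 3 ∣ 3 ^ (2 * m + 1) + 1 := by rw [← h4]; exact h.mul_left 4
  omega

theorem RG.total (hperf : commutator G = ⊤) (ρ : G →* Matrix (Fin 7) (Fin 7) K) (hρ : Function.Injective ρ) (hm : 1 ≤ m) {D : Subgroup G} {a : G} (hT : R.TD D a) :
    Nat.card G = 1 + (Set.ncard (Cls {x | x ∈ R.U ∧ x ≠ 1}) + (Set.ncard (Cls {x | ∃ A : Matrix.SpecialLinearGroup (Fin 2) K, tr A = 2 ∧ x = R.τ * R.φ A}) +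
      (Set.ncard (Cls {x | x ∈ R.H ∧ x ≠ 1 ∧ x ≠ R.τ}) + (Set.ncard (Cls {x | x ∈ D ∧ x * x ≠ 1}) + Set.ncard (setE G m))))) := by
  set A := Cls {x | x ∈ R.U ∧ x ≠ 1} with hA
  set B := Cls {x | ∃ A : Matrix.SpecialLinearGroup (Fin 2) K, tr A = 2 ∧ x = R.τ * R.φ A} with hB
  set C := Cls {x | x ∈ R.H ∧ x ≠ 1 ∧ x ≠ R.τ} with hC
  set D' := Cls {x | x ∈ D ∧ x * x ≠ 1} with hD
  obtain ⟨t1, t2⟩ := three_q m
  have hs9 : ∀ s, s.Prime → s ∣ 9 → s = 3 := fun s hs h => (Nat.prime_dvd_prime_iff_eq hs Nat.prime_three).1 (hs.dvd_of_dvd_pow (show s ∣ 3 ^ 2 by norm_num; exact h))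
  have hs6 : ∀ s, s.Prime → s ∣ 6 → s = 2 ∨ s = 3 := by
    intro s hs h
    have h' : s ∣ 2 * 3 := h
    rcases (Nat.Prime.dvd_mul hs).1 h' with h1 | h1
    · left; exact (Nat.prime_dvd_prime_iff_eq hs Nat.prime_two).1 h1
    · right; exact (Nat.prime_dvd_prime_iff_eq hs Nat.prime_three).1 h1
  have hone : ∀ s, s.Prime → ¬ s ∣ 1 := fun s hs h => hs.one_lt.ne' (Nat.dvd_one.1 h)
  have h1A : (1 : G) ∉ A := fun h => (R.ordA h).2 orderOf_one
  have h1B : (1 : G) ∉ B := fun h => by have := (R.ordB h).2; rw [orderOf_one] at this; omega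
  have h1C : (1 : G) ∉ C := fun h => by
    obtain ⟨-, s, hs, -, -, h4⟩ := R.ordC h
    rw [orderOf_one] at h4; exact hone s hs h4
  have h1D : (1 : G) ∉ D' := fun h => by
    obtain ⟨-, s, hs, -, h4⟩ := hT.ordD R hm h
    rw [orderOf_one] at h4; exact hone s hs h4
  have h1E : (1 : G) ∉ setE G m := fun h => by
    obtain ⟨s, hs, -, h4⟩ := h
    rw [orderOf_one] at h4; exact hone s hs h4
  have hAB : ∀ y ∈ A, y ∉ B := fun y h h' => by
    have := (R.ordB h').2.trans (R.ordA h).1; omega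
  have hAC : ∀ y ∈ A, y ∉ C := fun y h h' => by
    obtain ⟨-, s, hs, -, h3, h4⟩ := R.ordC h'
    have := hs9 s hs (h4.trans (R.ordA h).1)
    rw [this] at h3; exact t1 h3
  have hAD : ∀ y ∈ A, y ∉ D' := fun y h h' => by
    obtain ⟨-, s, hs, h3, h4⟩ := hT.ordD R hm h'
    have := hs9 s hs (h4.trans (R.ordA h).1)
    rw [this] at h3; exact t2 h3
  have hAE : ∀ y ∈ A, y ∉ setE G m := fun y h h' => by
    obtain ⟨s, hs, h3, h4⟩ := h'
    exact (Ph_fac hs h3).2.1 (hs9 s hs (h4.trans (R.ordA h).1))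
  have hBC : ∀ y ∈ B, y ∉ C := fun y h h' => by
    obtain ⟨-, s, hs, h2, h3, h4⟩ := R.ordC h'
    rcases hs6 s hs (h4.trans (R.ordB h).1) with e | e
    · exact h2 e
    · rw [e] at h3; exact t1 h3
  have hBD : ∀ y ∈ B, y ∉ D' := fun y h h' => by
    obtain ⟨-, s, hs, h3, h4⟩ := hT.ordD R hm h'
    rcases hs6 s hs (h4.trans (R.ordB h).1) with e | e
    · exact (prime_facts hs h3).1 e
    · rw [e] at h3; exact t2 h3
  have hBE : ∀ y ∈ B, y ∉ setE G m := fun y h h' => by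
    obtain ⟨s, hs, h3, h4⟩ := h'
    rcases hs6 s hs (h4.trans (R.ordB h).1) with e | e
    · exact (Ph_fac hs h3).1 e
    · exact (Ph_fac hs h3).2.1 e
  have hCD : ∀ y ∈ C, y ∉ D' := fun y h h' => by
    obtain ⟨-, s, hs, h3, h4⟩ := hT.ordD R hm h'
    exact (prime_facts hs h3).2.2.2.1 (h4.trans (R.ordC h).1)
  have hCE : ∀ y ∈ C, y ∉ setE G m := fun y h h' => by
    obtain ⟨s, hs, h3, h4⟩ := h'
    exact (Ph_fac hs h3).2.2.2.1 (h4.trans (R.ordC h).1)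
  have hDE : ∀ y ∈ D', y ∉ setE G m := fun y h h' => by
    obtain ⟨s, hs, h3, h4⟩ := h'
    exact (Ph_fac hs h3).2.2.2.2.1 (h4.trans (hT.ordD R hm h).1)
  have huniv : (Set.univ : Set G) = {1} ∪ (A ∪ (B ∪ (C ∪ (D' ∪ setE G m)))) := by
    ext y
    refine ⟨fun _ => ?_, fun _ => Set.mem_univ y⟩
    rcases R.cover hperf ρ hρ hT y with h | h | h | h | h | h
    · left; exact h
    · right; left; exact h
    · right; right; left; exact h
    · right; right; right; left; exact h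
    · right; right; right; right; left; exact h
    · right; right; right; right; right; exact h
  rw [← Set.ncard_univ, huniv, Set.ncard_union_eq, Set.ncard_union_eq, Set.ncard_union_eq, Set.ncard_union_eq, Set.ncard_union_eq, Set.ncard_singleton]
  · rw [Set.disjoint_left]; exact hDE
  · rw [Set.disjoint_left]
    rintro y hy (h | h)
    · exact hCD y hy h
    · exact hCE y hy h
  · rw [Set.disjoint_left]
    rintro y hy (h | h | h)
    · exact hBC y hy h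
    · exact hBD y hy h
    · exact hBE y hy h
  · rw [Set.disjoint_left]
    rintro y hy (h | h | h | h)
    · exact hAB y hy h
    · exact hAC y hy h
    · exact hAD y hy h
    · exact hAE y hy h
  · rw [Set.disjoint_left]
    rintro y rfl (h | h | h | h | h)
    · exact h1A h
    · exact h1B h
    · exact h1C h
    · exact h1D h
    · exact h1E h

include R in
/-- the number of elements of the third kind -/
theorem RG.cardE (hperf : commutator G = ⊤) (ρ : G →* Matrix (Fin 7) (Fin 7) K) (hρ : Function.Injective ρ) (hm : 1 ≤ m) :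
    3 * Set.ncard (setE G m) = (3 ^ (2 * m + 1)) ^ 4 * (3 ^ (2 * m + 1) - 2) * ((3 ^ (2 * m + 1)) ^ 2 - 1) := by
  obtain ⟨D, a, hT⟩ := R.exists_TD
  have h0 := R.total hperf ρ hρ hm hT
  have h1 := R.setA_count
  have h2 := R.setB_count
  have h3 := R.setC_count hm
  have h4 := hT.setD_count R hperf hm
  have h5 := R.cG
  have h6 := Ph_eq m
  have hq := R.q_ge hm
  set A := Set.ncard (Cls {x | x ∈ R.U ∧ x ≠ 1})
  set B := Set.ncard (Cls {x | ∃ A : Matrix.SpecialLinearGroup (Fin 2) K, tr A = 2 ∧ x = R.τ * R.φ A})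
  set C := Set.ncard (Cls {x | x ∈ R.H ∧ x ≠ 1 ∧ x ≠ R.τ})
  set D' := Set.ncard (Cls {x | x ∈ D ∧ x * x ≠ 1})
  set E := Set.ncard (setE G m)
  set q := 3 ^ (2 * m + 1)
  have hq3 : 1 ≤ q ^ 3 := Nat.one_le_pow _ _ (by omega)
  have hq2 : 1 ≤ q ^ 2 := Nat.one_le_pow _ _ (by omega)
  zify [hq3, hq2, (by omega : 2 ≤ q), (by omega : 3 ≤ q), (by omega : 1 ≤ q)] at h0 h1 h2 h3 h4 h5 h6 ⊢
  have hP : (Ph m : ℤ) = (q : ℤ) ^ 2 - q + 1 := by linarith
  rw [hP] at h2 h4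
  apply mul_left_cancel₀ (show (2 : ℤ) ≠ 0 by norm_num)
  linear_combination (-6) * h0 + 6 * h5 - 6 * h1 - 6 * h2 - 3 * h3 - h4

end CfsgLib.ReeA
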