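import Cfsg.Agent.LibRee23

set_option autoImplicit false
set_option linter.unusedSectionVars false
set_option linter.unusedVariables false
set_option linter.unusedSimpArgs false

/-! Groups of Ree type: the two classes of tori of the third kind -/

namespace CfsgLib.ReeA

open Matrix CfsgLib.Chev CfsgLib.Rank1 CfsgLib.SL2P

variable {G : Type*} [Group G] [Finite G] {K : Type*} [Field K] [Fintype K] {m : ℕ} (R : RG G K m)

/-- nontrivial elements of conjugates -/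
def CT {G : Type*} [Group G] (T : Subgroup G) : Set G := Cls {x | x ∈ T ∧ x ≠ 1}

include R in
theorem RG.exists_TT' (hperf : commutator G = ⊤) (ρ : G →* Matrix (Fin 7) (Fin 7) K) (hρ : Function.Injective ρ) {s : ℕ} (hs : s.Prime)
    (hsP : s ∣ Ph m) : ∃ T, R.TT T ∧ s ∣ Nat.card T := by
  have : Fact s.Prime := ⟨hs⟩
  obtain ⟨x, hx⟩ := exists_prime_orderOf_dvd_card' (G := G) s (by rw [R.cG']; exact hsP.mul_left _)
  obtain ⟨T, hT, -, -, h⟩ := R.exists_TT hperf ρ hρ hs hsP (x := x) (by rw [hx])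
  exact ⟨T, hT, h⟩

theorem RG.TT.sub {T : Subgroup G} (h : R.TT T) : CT T ⊆ setE G m := by
  rintro y hy
  obtain ⟨x, ⟨hx, hx1⟩, e⟩ := orderOf_cls hy
  obtain ⟨s, hs, hsd⟩ := Nat.exists_prime_and_dvd (n := orderOf x) (fun h => hx1 (orderOf_eq_one_iff.1 h))
  refine ⟨s, hs, ?_, by rw [e]; exact hsd⟩
  have := orderOf_dvd_natCard (⟨x, hx⟩ : T)
  rw [← Subgroup.orderOf_coe] at this
  exact (hsd.trans this).trans h.cd

theorem RG.TT.disj {T T' : Subgroup G} (hc : Nat.Coprime (Nat.card T) (Nat.card T')) : Disjoint (CT T) (CT T') := by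
  rw [Set.disjoint_left]
  intro y hy hy'
  obtain ⟨x, ⟨hx, hx1⟩, e⟩ := orderOf_cls hy
  obtain ⟨x', ⟨hx', hx1'⟩, e'⟩ := orderOf_cls hy'
  have h1 := orderOf_dvd_natCard (⟨x, hx⟩ : T)
  have h2 := orderOf_dvd_natCard (⟨x', hx'⟩ : T')
  rw [← Subgroup.orderOf_coe] at h1 h2
  simp only at h1 h2
  rw [← e'] at h2
  rw [← e] at h1
  have h3 := Nat.dvd_gcd h1 h2
  rw [hc] at h3
  apply hx1
  rw [← orderOf_eq_one_iff, ← e]
  exact Nat.dvd_one.1 h3

theorem RG.TT.coprime' {T T' : Subgroup G} (h : R.TT T) (h' : R.TT T') {s : ℕ} (h1 : s ∣ Nat.card T') (h2 : ¬ s ∣ Nat.card T) :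
    Nat.Coprime (Nat.card T) (Nat.card T') := by
  apply h.coprime R h'
  intro g hg
  apply h2
  rw [← hg, card_map_conj]; exact h1

theorem RG.TT.seven {T : Subgroup G} (h : R.TT T) : Nat.card G ≤ 7 * Set.ncard (CT T) := by
  obtain ⟨e, he, -, h1⟩ := h.count R
  have h7 := h.ge R
  have he6 : e ≤ 6 := Nat.le_of_dvd (by norm_num) he
  have he0 : 0 < e := Nat.pos_of_dvd_of_pos he (by norm_num)
  have hpos : 0 < e * Nat.card T := by positivity
  apply Nat.le_of_mul_le_mul_right _ hpos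
  have h2 : Set.ncard (CT T) * (e * Nat.card T) = Nat.card G * (Nat.card T - 1) := h1
  calc Nat.card G * (e * Nat.card T) ≤ Nat.card G * (6 * Nat.card T) := Nat.mul_le_mul_left _ (Nat.mul_le_mul_right _ he6)
    _ ≤ Nat.card G * (7 * (Nat.card T - 1)) := Nat.mul_le_mul_left _ (by omega)
    _ = 7 * (Set.ncard (CT T) * (e * Nat.card T)) := by rw [h2]; ring
    _ = _ := by ring

theorem RG.TT.into {T : Subgroup G} (hperf : commutator G = ⊤) (ρ : G →* Matrix (Fin 7) (Fin 7) K) (hρ : Function.Injective ρ) (h : R.TT T) {y : G} {s : ℕ}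
    (hs : s.Prime) (h1 : s ∣ Nat.card T) (h2 : s ∣ orderOf y) : ∃ g : G, g * y * g⁻¹ ∈ T ∧ ∀ z, z * y = y * z → g * z * g⁻¹ ∈ T := by
  obtain ⟨T', hT', hy, hc, hs'⟩ := R.exists_TT hperf ρ hρ hs (h1.trans h.cd) h2
  obtain ⟨g, hg⟩ := h.conj R hT' hs h1 hs'
  have key : ∀ z ∈ T', g * z * g⁻¹ ∈ T := by
    intro z hz
    rw [← hg, map_conj_mem]
    have : g⁻¹ * (g * z * g⁻¹) * g = z := by group
    rw [this]; exact hz
  exact ⟨g, key y hy, fun z hz => key z (hc z hz)⟩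

theorem RG.TT.memCT {T : Subgroup G} (hperf : commutator G = ⊤) (ρ : G →* Matrix (Fin 7) (Fin 7) K) (hρ : Function.Injective ρ) (h : R.TT T) {y : G} {s : ℕ}
    (hs : s.Prime) (h1 : s ∣ Nat.card T) (h2 : s ∣ orderOf y) : y ∈ CT T := by
  obtain ⟨g, hg, -⟩ := h.into R hperf ρ hρ hs h1 h2
  refine ⟨g⁻¹, g * y * g⁻¹, ⟨hg, fun e => ?_⟩, by group⟩
  have h3 := CfsgLib.TransFus.orderOf_conj g y
  rw [e, orderOf_one] at h3
  rw [← h3] at h2
  exact hs.one_lt.ne' (Nat.dvd_one.1 h2)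

theorem RG.TT.notdvd {T : Subgroup G} (h : R.TT T) {k s : ℕ} (hs : s.Prime) (hk : Ph m = Nat.card T * k) (hsk : s ∣ k) : ¬ s ∣ Nat.card T := by
  intro hsT
  apply h.index R hs hsT
  have h1 := Subgroup.card_mul_index T
  rw [R.cG', hk] at h1
  have h2 : T.index = (3 ^ (2 * m + 1)) ^ 3 * (3 ^ (2 * m + 1) - 1) * (3 ^ (2 * m + 1) + 1) * k := by
    apply Nat.eq_of_mul_eq_mul_left (show 0 < Nat.card T from Nat.card_pos)
    rw [h1]; ring
  rw [h2]; exact hsk.mul_left _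

theorem lin_aux {P c1 c2 q A B u v w : ℤ} (x1 : A = P - c2) (x2 : B = P - c1) (x3 : w = P - q - 1) (s1 : 2 * A ≤ u) (s2 : 1 * B ≤ v)
    (a3 : u + v = 2 * w) (p1 : 7 * c2 ≤ P) (p2 : 7 * c1 ≤ P) (hq : 27 ≤ q) (p0 : 0 ≤ P) : False := by
  linarith

theorem lin_aux' {P c1 c2 q A B u v w : ℤ} (x1 : A = P - c2) (x2 : B = P - c1) (x3 : w = P - q - 1) (s1 : 1 * A ≤ u) (s2 : 2 * B ≤ v)
    (a3 : u + v = 2 * w) (p1 : 7 * c2 ≤ P) (p2 : 7 * c1 ≤ P) (hq : 27 ≤ q) (p0 : 0 ≤ P) : False := by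
  linarith

theorem dvd6 {e : ℕ} (h : e ∣ 6) : e = 1 ∨ e = 2 ∨ e = 3 ∨ e = 6 := by
  have h1 : e ≤ 6 := Nat.le_of_dvd (by norm_num) h
  interval_cases e <;> simp_all

include R in
/-- the two classes of tori -/
theorem RG.two_tori0 (hperf : commutator G = ⊤) (ρ : G →* Matrix (Fin 7) (Fin 7) K) (hρ : Function.Injective ρ) (hm : 1 ≤ m) :
    ∃ T1 T2, R.TT T1 ∧ R.TT T2 ∧ Nat.card T1 * Nat.card T2 = Ph m ∧ Nat.card T1 + Nat.card T2 = 2 * 3 ^ (2 * m + 1) + 2 ∧
      Nat.card ↥(Subgroup.normalizer (T1 : Set G)) = 6 * Nat.card T1 ∧ Nat.card ↥(Subgroup.normalizer (T2 : Set G)) = 6 * Nat.card T2 := by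
  have hq := R.q_ge hm
  have hE := R.cardE hperf ρ hρ hm
  have hG := R.cG'
  have hPe := Ph_eq m
  set q := 3 ^ (2 * m + 1) with hqd
  have hq2 : q * 27 ≤ q ^ 2 := by nlinarith
  have hPh1 : Ph m ≠ 1 := by
    intro h; rw [h] at hPe; omega
  have hM : q ^ 4 * (q - 2) * (q ^ 2 - 1) = q * (q - 2) * (q ^ 3 * (q - 1) * (q + 1)) := by
    have : q ^ 2 - 1 = (q - 1) * (q + 1) := by
      have h1 : 1 ≤ q ^ 2 := Nat.one_le_pow _ _ (by omega)
      zify [h1, (by omega : 1 ≤ q)]; ring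
    rw [this]; ring
  rw [hM] at hE
  set M := q ^ 3 * (q - 1) * (q + 1) with hMd
  have hMpos : 0 < M := by
    rw [hMd]
    have : 0 < q - 1 := by omega
    positivity
  obtain ⟨s1, hs1, hs1P⟩ := Nat.exists_prime_and_dvd hPh1
  obtain ⟨T1, hT1, hsT1⟩ := R.exists_TT' hperf ρ hρ hs1 hs1P
  obtain ⟨k, hk⟩ := hT1.cd
  obtain ⟨e1, he1, hN1, hc1⟩ := hT1.count R
  have hc1' : Set.ncard (CT T1) * (e1 * Nat.card T1) = Nat.card G * (Nat.card T1 - 1) := hc1
  have h71 := hT1.ge R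
  by_cases hk1 : k = 1
  · exfalso
    rw [hk1, mul_one] at hk
    have hEq : setE G m = CT T1 := by
      apply Set.Subset.antisymm _ (hT1.sub R)
      rintro y ⟨s, hs, h1, h2⟩
      exact hT1.memCT R hperf ρ hρ hs (by rw [← hk]; exact h1) h2
    rw [hEq] at hE
    rw [← hk, hG] at hc1'
    have h2 : Set.ncard (CT T1) * e1 = M * (Ph m - 1) := by
      apply Nat.eq_of_mul_eq_mul_right (show 0 < Ph m by omega)
      calc Set.ncard (CT T1) * e1 * Ph m = Set.ncard (CT T1) * (e1 * Ph m) := by ring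
        _ = _ := by rw [hc1']; ring
    have h3 : 3 * (Ph m - 1) = e1 * (q * (q - 2)) := by
      apply Nat.eq_of_mul_eq_mul_left hMpos
      calc M * (3 * (Ph m - 1)) = 3 * (Set.ncard (CT T1) * e1) := by rw [h2]; ring
        _ = (3 * Set.ncard (CT T1)) * e1 := by ring
        _ = _ := by rw [hE]; ring
    have h4 : Ph m - 1 = q * (q - 1) := by
      have : q * (q - 1) = q ^ 2 - q := by rw [Nat.mul_sub, mul_one, pow_two]
      rw [this]; omega
    rw [h4] at h3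
    have h5 : 3 * (q - 1) = e1 * (q - 2) := by
      apply Nat.eq_of_mul_eq_mul_left (show 0 < q by omega)
      calc q * (3 * (q - 1)) = 3 * (q * (q - 1)) := by ring
        _ = _ := by rw [h3]; ring
    rcases dvd6 he1 with rfl | rfl | rfl | rfl <;> omega
  · obtain ⟨s2, hs2, hs2k⟩ := Nat.exists_prime_and_dvd hk1
    have hn2 := hT1.notdvd R hs2 hk hs2k
    obtain ⟨T2, hT2, hsT2⟩ := R.exists_TT' hperf ρ hρ hs2 (by rw [hk]; exact hs2k.mul_left _)
    have hcop := hT1.coprime' R hT2 hsT2 hn2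
    obtain ⟨e2, he2, hN2, hc2⟩ := hT2.count R
    have hc2' : Set.ncard (CT T2) * (e2 * Nat.card T2) = Nat.card G * (Nat.card T2 - 1) := hc2
    have h72 := hT2.ge R
    obtain ⟨k', hk'⟩ := hcop.mul_dvd_of_dvd_of_dvd hT1.cd hT2.cd
    by_cases hk1' : k' = 1
    · rw [hk1', mul_one] at hk'
      set c1 := Nat.card T1 with hc1d
      set c2 := Nat.card T2 with hc2d
      have hEq : setE G m = CT T1 ∪ CT T2 := by
        apply Set.Subset.antisymm
        · rintro y ⟨s, hs, h1, h2⟩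
          rw [hk'] at h1
          rcases (Nat.Prime.dvd_mul hs).1 h1 with h3 | h3
          · left; exact hT1.memCT R hperf ρ hρ hs h3 h2
          · right; exact hT2.memCT R hperf ρ hρ hs h3 h2
        · exact Set.union_subset (hT1.sub R) (hT2.sub R)
      rw [hEq, Set.ncard_union_eq (RG.TT.disj hcop)] at hE
      rw [hG, hk'] at hc1' hc2'
      obtain ⟨f1, hf1⟩ := he1
      obtain ⟨f2, hf2⟩ := he2
      set N1 := Set.ncard (CT T1)
      set N2 := Set.ncard (CT T2)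
      have a1 : N1 * e1 = M * (c2 * (c1 - 1)) := by
        apply Nat.eq_of_mul_eq_mul_right (show 0 < c1 by omega)
        calc N1 * e1 * c1 = N1 * (e1 * c1) := by ring
          _ = _ := by rw [hc1']; ring
      have a2 : N2 * e2 = M * (c1 * (c2 - 1)) := by
        apply Nat.eq_of_mul_eq_mul_right (show 0 < c2 by omega)
        calc N2 * e2 * c2 = N2 * (e2 * c2) := by ring
          _ = _ := by rw [hc2']; ring
      have a3 : f1 * (c2 * (c1 - 1)) + f2 * (c1 * (c2 - 1)) = 2 * (q * (q - 2)) := by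
        apply Nat.eq_of_mul_eq_mul_left hMpos
        calc M * (f1 * (c2 * (c1 - 1)) + f2 * (c1 * (c2 - 1))) = f1 * (M * (c2 * (c1 - 1))) + f2 * (M * (c1 * (c2 - 1))) := by ring
          _ = N1 * (e1 * f1) + N2 * (e2 * f2) := by rw [← a1, ← a2]; ring
          _ = 2 * (3 * (N1 + N2)) := by rw [← hf1, ← hf2]; ring
          _ = _ := by rw [hE]; ring
      have hf1p : 1 ≤ f1 := by
        rcases Nat.eq_zero_or_pos f1 with h | h
        · rw [h] at hf1; omega
        · exact h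
      have hf2p : 1 ≤ f2 := by
        rcases Nat.eq_zero_or_pos f2 with h | h
        · rw [h] at hf2; omega
        · exact h
      zify [(by omega : 1 ≤ c1), (by omega : 1 ≤ c2), (by omega : 2 ≤ q)] at a3
      have b1 : (c1 : ℤ) * c2 = (q : ℤ) ^ 2 - q + 1 := by
        have := congrArg (fun n : ℕ => (n : ℤ)) hPe
        rw [hk'] at this
        push_cast at this
        linarith
      have z1 : (7 : ℤ) ≤ c1 := by exact_mod_cast h71
      have z2 : (7 : ℤ) ≤ c2 := by exact_mod_cast h72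
      have z1' : (0 : ℤ) ≤ c1 := by linarith
      have z2' : (0 : ℤ) ≤ c2 := by linarith
      have p1 : (7 : ℤ) * c2 ≤ c1 * c2 := mul_le_mul_of_nonneg_right z1 z2'
      have p2 : (7 : ℤ) * c1 ≤ c1 * c2 := by rw [mul_comm (c1 : ℤ) c2]; exact mul_le_mul_of_nonneg_right z2 z1'
      have p0 : (0 : ℤ) ≤ c1 * c2 := mul_nonneg z1' z2'
      have q1 : (1 : ℤ) ≤ f1 := by exact_mod_cast hf1p
      have q2 : (1 : ℤ) ≤ f2 := by exact_mod_cast hf2p
      have r1 : (0 : ℤ) ≤ c2 * (c1 - 1) := mul_nonneg z2' (by linarith)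
      have r2 : (0 : ℤ) ≤ c1 * (c2 - 1) := mul_nonneg z1' (by linarith)
      have hqz : (27 : ℤ) ≤ q := by exact_mod_cast hq
      have x1 : (c2 : ℤ) * (c1 - 1) = c1 * c2 - c2 := by ring
      have x2 : (c1 : ℤ) * (c2 - 1) = c1 * c2 - c1 := by ring
      have x3 : (q : ℤ) * (q - 2) = c1 * c2 - q - 1 := by rw [b1]; ring
      have g1 : f1 = 1 := by
        by_contra hne
        have h2 : (2 : ℤ) ≤ f1 := by
          have : 2 ≤ f1 := by omega
          exact_mod_cast this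
        have s1 : 2 * ((c2 : ℤ) * (c1 - 1)) ≤ f1 * (c2 * (c1 - 1)) := mul_le_mul_of_nonneg_right h2 r1
        have s2 : 1 * ((c1 : ℤ) * (c2 - 1)) ≤ f2 * (c1 * (c2 - 1)) := mul_le_mul_of_nonneg_right q2 r2
        exact lin_aux x1 x2 x3 s1 s2 a3 p1 p2 hqz p0
      have g2 : f2 = 1 := by
        by_contra hne
        have h2 : (2 : ℤ) ≤ f2 := by
          have : 2 ≤ f2 := by omega
          exact_mod_cast this
        have s1 : 1 * ((c2 : ℤ) * (c1 - 1)) ≤ f1 * (c2 * (c1 - 1)) := mul_le_mul_of_nonneg_right q1 r1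
        have s2 : 2 * ((c1 : ℤ) * (c2 - 1)) ≤ f2 * (c1 * (c2 - 1)) := mul_le_mul_of_nonneg_right h2 r2
        exact lin_aux' x1 x2 x3 s1 s2 a3 p1 p2 hqz p0
      rw [g1, mul_one] at hf1
      rw [g2, mul_one] at hf2
      rw [g1, g2] at a3
      refine ⟨T1, T2, hT1, hT2, hk'.symm, ?_, by rw [hN1, ← hf1], by rw [hN2, ← hf2]⟩
      have : ((c1 + c2 : ℕ) : ℤ) = ((2 * q + 2 : ℕ) : ℤ) := by
        push_cast at a3 ⊢
        linarith
      exact_mod_cast this
    · exfalso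
      obtain ⟨s3, hs3, hs3k⟩ := Nat.exists_prime_and_dvd hk1'
      have hn31 : ¬ s3 ∣ Nat.card T1 := hT1.notdvd R hs3 (k := Nat.card T2 * k') (by rw [hk']; ring) (hs3k.mul_left _)
      have hn32 : ¬ s3 ∣ Nat.card T2 := hT2.notdvd R hs3 (k := Nat.card T1 * k') (by rw [hk']; ring) (hs3k.mul_left _)
      obtain ⟨T3, hT3, hsT3⟩ := R.exists_TT' hperf ρ hρ hs3 (by rw [hk']; exact hs3k.mul_left _)
      have d13 : Disjoint (CT T1) (CT T3) := RG.TT.disj (hT1.coprime' R hT3 hsT3 hn31)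
      have d23 : Disjoint (CT T2) (CT T3) := RG.TT.disj (hT2.coprime' R hT3 hsT3 hn32)
      have d12 : Disjoint (CT T1) (CT T2) := RG.TT.disj hcop
      have hsub : CT T1 ∪ (CT T2 ∪ CT T3) ⊆ setE G m :=
        Set.union_subset (hT1.sub R) (Set.union_subset (hT2.sub R) (hT3.sub R))
      have hle := Set.ncard_le_ncard hsub
      rw [Set.ncard_union_eq (Set.disjoint_union_right.2 ⟨d12, d13⟩), Set.ncard_union_eq d23] at hle
      have s1 := hT1.seven R
      have s2 := hT2.seven R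
      have s3 := hT3.seven R
      have h9 : 9 * Nat.card G ≤ 7 * (q * (q - 2) * M) := by
        rw [← hE]; omega
      rw [hG] at h9
      have h10 : 9 * Ph m ≤ 7 * (q * (q - 2)) := by
        apply Nat.le_of_mul_le_mul_left _ hMpos
        calc M * (9 * Ph m) = 9 * (M * Ph m) := by ring
          _ ≤ _ := h9
          _ = _ := by ring
      have h11 : q * (q - 2) = q ^ 2 - 2 * q := by rw [Nat.mul_sub, pow_two]; ring_nf
      rw [h11] at h10
      omega

include R in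
theorem RG.two_tori (hperf : commutator G = ⊤) (ρ : G →* Matrix (Fin 7) (Fin 7) K) (hρ : Function.Injective ρ) (hm : 1 ≤ m) :
    ∃ T1 T2, R.TT T1 ∧ R.TT T2 ∧ Nat.card T1 * Nat.card T2 = Ph m ∧ Nat.card T1 = 3 ^ (2 * m + 1) - 3 ^ (m + 1) + 1 ∧
      Nat.card T2 = 3 ^ (2 * m + 1) + 3 ^ (m + 1) + 1 ∧
      Nat.card ↥(Subgroup.normalizer (T1 : Set G)) = 6 * Nat.card T1 ∧ Nat.card ↥(Subgroup.normalizer (T2 : Set G)) = 6 * Nat.card T2 := by
  obtain ⟨T1, T2, h1, h2, h3, h4, h5, h6⟩ := R.two_tori0 hperf ρ hρ hm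
  have hPe := Ph_eq m
  have hr : (3 ^ (m + 1)) ^ 2 = 3 * 3 ^ (2 * m + 1) := by rw [← pow_mul, ← pow_succ']; congr 1; ring
  have hrq : 3 ^ (m + 1) ≤ 3 ^ (2 * m + 1) := Nat.pow_le_pow_right (by norm_num) (by omega)
  set q := 3 ^ (2 * m + 1) with hqd
  set r := 3 ^ (m + 1) with hrd
  set c1 := Nat.card T1 with hc1
  set c2 := Nat.card T2 with hc2
  have e1 : ((c1 : ℤ) - (q + 1)) * (c1 - (q + 1)) = (r : ℤ) * r := by
    have a1 : (c1 : ℤ) * c2 = (q : ℤ) ^ 2 - q + 1 := by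
      have := congrArg (fun n : ℕ => (n : ℤ)) hPe
      rw [← h3] at this
      push_cast at this
      linarith
    have a2 : (c2 : ℤ) = 2 * q + 2 - c1 := by
      have := congrArg (fun n : ℕ => (n : ℤ)) h4
      push_cast at this
      linarith
    have a3 : (r : ℤ) ^ 2 = 3 * q := by exact_mod_cast hr
    rw [a2] at a1
    linear_combination -a1 - a3
  rcases mul_self_eq_mul_self_iff.1 e1 with e | e
  · have c1e : c1 = q + r + 1 := by
      have : (c1 : ℤ) = ((q + r + 1 : ℕ) : ℤ) := by push_cast; linarith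
      exact_mod_cast this
    refine ⟨T2, T1, h2, h1, by rw [← h3]; ring, ?_, c1e, h6, h5⟩
    show c2 = _
    omega
  · have c1e : c1 + r = q + 1 := by
      have : ((c1 + r : ℕ) : ℤ) = ((q + 1 : ℕ) : ℤ) := by push_cast; linarith
      exact_mod_cast this
    refine ⟨T1, T2, h1, h2, h3, ?_, ?_, h5, h6⟩
    · show c1 = _
      omega
    · show c2 = _
      omega

end CfsgLib.ReeA
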