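import Cfsg.Agent.LibRee24

set_option autoImplicit false
set_option linter.unusedSectionVars false
set_option linter.unusedVariables false
set_option linter.unusedSimpArgs false

/-! Groups of Ree type: Sylow subgroups, cyclic subgroups -/

namespace CfsgLib.ReeA

open Matrix CfsgLib.Chev CfsgLib.Rank1 CfsgLib.SL2P

section general
variable {G : Type*} [Group G] [Finite G]

theorem cyc_of_le {A B : Subgroup G} (h : A ≤ B) (hB : IsCyclic B) : IsCyclic A :=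
  isCyclic_of_injective (Subgroup.inclusion h) (Subgroup.inclusion_injective h)

theorem cyc_of_conj {P A : Subgroup G} {g : G} (h : ∀ x ∈ P, g * x * g⁻¹ ∈ A) (hA : IsCyclic A) : IsCyclic P := by
  have h1 : P.map (MulAut.conj g).toMonoidHom ≤ A := by
    rintro _ ⟨x, hx, rfl⟩; exact h x hx
  have h2 := cyc_of_le h1 hA
  exact isCyclic_of_injective (Subgroup.equivMapOfInjective P (MulAut.conj g).toMonoidHom (MulAut.conj g).injective).toMonoidHom
    (Subgroup.equivMapOfInjective P (MulAut.conj g).toMonoidHom (MulAut.conj g).injective).injective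

theorem map_conj_conj (A : Subgroup G) (g h : G) : (A.map (MulAut.conj g).toMonoidHom).map (MulAut.conj h).toMonoidHom = A.map (MulAut.conj (h * g)).toMonoidHom := by
  ext x
  rw [map_conj_mem, map_conj_mem, map_conj_mem]
  have : g⁻¹ * (h⁻¹ * x * h) * g = (h * g)⁻¹ * x * (h * g) := by group
  rw [this]

theorem conj_of_into {T A B : Subgroup G} (hT : IsCyclic T) {g g' : G} (h : A.map (MulAut.conj g).toMonoidHom ≤ T)
    (h' : B.map (MulAut.conj g').toMonoidHom ≤ T) (hc : Nat.card A = Nat.card B) : ∃ k : G, B = A.map (MulAut.conj k).toMonoidHom := by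
  refine ⟨g'⁻¹ * g, ?_⟩
  rw [← map_conj_conj, cyclic_sub_unique T hT h h' (by rw [card_map_conj, card_map_conj, hc]), map_conj_conj]
  ext x
  rw [map_conj_mem]
  have : (g'⁻¹ * g')⁻¹ * x * (g'⁻¹ * g') = x := by group
  rw [this]

theorem map_le_of_gen {A T : Subgroup G} {g x : G} (hx : A = Subgroup.zpowers x) (h : g * x * g⁻¹ ∈ T) : A.map (MulAut.conj g).toMonoidHom ≤ T := by
  rintro _ ⟨y, hy, rfl⟩
  have hy' : y ∈ A := hy
  rw [hx] at hy'
  obtain ⟨i, rfl⟩ := Subgroup.mem_zpowers_iff.1 hy'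
  show g * x ^ i * g⁻¹ ∈ T
  rw [← conj_zpow]
  exact Subgroup.zpow_mem _ h i

theorem exists_gen {A : Subgroup G} (hA : IsCyclic A) : ∃ x, A = Subgroup.zpowers x ∧ orderOf x = Nat.card A := by
  obtain ⟨⟨x, hxA⟩, hx⟩ := hA.exists_generator
  have h1 : A = Subgroup.zpowers x := by
    apply le_antisymm
    · intro y hy
      obtain ⟨i, hi⟩ := Subgroup.mem_zpowers_iff.1 (hx ⟨y, hy⟩)
      exact Subgroup.mem_zpowers_iff.2 ⟨i, congrArg Subtype.val hi⟩
    · rw [Subgroup.zpowers_le]; exact hxA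
  exact ⟨x, h1, by rw [h1, Nat.card_zpowers]⟩

end general

variable {G : Type*} [Group G] [Finite G] {K : Type*} [Field K] [Fintype K] {m : ℕ} (R : RG G K m)

theorem half_odd (m : ℕ) : ¬ 2 ∣ (3 ^ (2 * m + 1) - 1) / 2 := by
  have := hmod8 m
  generalize 3 ^ (2 * m + 1) = q at *
  omega

theorem quarter_odd (m : ℕ) : Odd ((3 ^ (2 * m + 1) + 1) / 4) := by
  have := hmod8 m
  generalize 3 ^ (2 * m + 1) = q at *
  rw [Nat.odd_iff]; omega

theorem half_dvd (m : ℕ) {s : ℕ} (h : s ∣ (3 ^ (2 * m + 1) - 1) / 2) : s ∣ 3 ^ (2 * m + 1) - 1 := by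
  have := hmod8 m
  have h1 : 3 ^ (2 * m + 1) - 1 = 2 * ((3 ^ (2 * m + 1) - 1) / 2) := by omega
  rw [h1]; exact h.mul_left 2

theorem four_mul (m : ℕ) : 4 * ((3 ^ (2 * m + 1) + 1) / 4) = 3 ^ (2 * m + 1) + 1 := by have := hmod8 m; omega

theorem RG.index_H {p : ℕ} (hp : p.Prime) (hp2 : p ≠ 2) (hd : p ∣ 3 ^ (2 * m + 1) - 1) : ¬ p ∣ R.H.index := by
  have h1 := Subgroup.card_mul_index R.H
  rw [R.cH, R.cG'] at h1
  have hq : 3 ≤ 3 ^ (2 * m + 1) := by
    calc 3 = 3 ^ 1 := by norm_num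
      _ ≤ 3 ^ (2 * m + 1) := Nat.pow_le_pow_right (by norm_num) (by omega)
  have h3 : R.H.index = (3 ^ (2 * m + 1)) ^ 3 * (3 ^ (2 * m + 1) + 1) * Ph m := by
    apply Nat.eq_of_mul_eq_mul_left (show 0 < 3 ^ (2 * m + 1) - 1 by omega)
    rw [h1]; ring
  rw [h3]
  intro h
  rcases (Nat.Prime.dvd_mul hp).1 h with h | h
  · rcases (Nat.Prime.dvd_mul hp).1 h with h | h
    · have h4 := (Nat.prime_dvd_prime_iff_eq hp Nat.prime_three).1 (hp.dvd_of_dvd_pow (hp.dvd_of_dvd_pow h))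
      rw [h4] at hd
      exact (three_q m).1 hd
    · have h6 := Nat.dvd_sub h hd
      have : 3 ^ (2 * m + 1) + 1 - (3 ^ (2 * m + 1) - 1) = 2 := by omega
      rw [this] at h6
      exact hp2 ((Nat.prime_dvd_prime_iff_eq hp Nat.prime_two).1 h6)
  · exact (Ph_fac hp h).2.2.2.1 hd

include R in
/-- prime divisors of the order -/
theorem RG.primes {p : ℕ} (hp : p.Prime) (h : p ∣ Nat.card G) : p = 2 ∨ p = 3 ∨ (p ≠ 2 ∧ p ∣ 3 ^ (2 * m + 1) - 1) ∨ p ∣ (3 ^ (2 * m + 1) + 1) / 4 ∨ p ∣ Ph m := by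
  rw [R.cG'] at h
  rcases (Nat.Prime.dvd_mul hp).1 h with h2 | h2
  · rcases (Nat.Prime.dvd_mul hp).1 h2 with h2 | h2
    · rcases (Nat.Prime.dvd_mul hp).1 h2 with h2 | h2
      · right; left; exact (Nat.prime_dvd_prime_iff_eq hp Nat.prime_three).1 (hp.dvd_of_dvd_pow (hp.dvd_of_dvd_pow h2))
      · by_cases hp2 : p = 2
        · left; exact hp2
        · right; right; left; exact ⟨hp2, h2⟩
    · rw [← four_mul m] at h2
      rcases (Nat.Prime.dvd_mul hp).1 h2 with h5 | h5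
      · left
        have : p ∣ 2 ^ 2 := by norm_num; exact h5
        exact (Nat.prime_dvd_prime_iff_eq hp Nat.prime_two).1 (hp.dvd_of_dvd_pow this)
      · right; right; right; left; exact h5
  · right; right; right; right; exact h2

theorem RG.TD.index_D {D : Subgroup G} {a : G} (h : R.TD D a) {p : ℕ} (hp : p.Prime) (hd : p ∣ (3 ^ (2 * m + 1) + 1) / 4) : ¬ p ∣ D.index := by
  obtain ⟨h2, h3, h4, h5, h6⟩ := prime_facts hp hd
  rw [h.index R]
  intro hd
  rcases (Nat.Prime.dvd_mul hp).1 hd with h7 | h7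
  · rcases (Nat.Prime.dvd_mul hp).1 h7 with h8 | h8
    · exact h3 ((Nat.prime_dvd_prime_iff_eq hp Nat.prime_three).1 (hp.dvd_of_dvd_pow (hp.dvd_of_dvd_pow h8)))
    · exact h5 h8
  · exact h6 h7

include R in
theorem RG.syl_cyclic (hperf : commutator G = ⊤) (ρ : G →* Matrix (Fin 7) (Fin 7) K) (hρ : Function.Injective ρ) {p : ℕ} [Fact p.Prime] (hp3 : 3 < p)
    (P : Sylow p G) : IsCyclic (P : Subgroup G) := by
  have hp : p.Prime := Fact.out
  by_cases hpG : p ∣ Nat.card G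
  · rcases R.primes hp hpG with h | h | ⟨h2, h⟩ | h | h
    · omega
    · omega
    · obtain ⟨g, hg⟩ := conj_into R.H (R.index_H hp h2 h) (P : Subgroup G) P.isPGroup'
      exact cyc_of_conj hg R.Hc
    · obtain ⟨D, a, hT⟩ := R.exists_TD
      obtain ⟨g, hg⟩ := conj_into D (hT.index_D R hp h) (P : Subgroup G) P.isPGroup'
      apply cyc_of_conj (A := Subgroup.zpowers a) (g := g) _ inferInstance
      intro x hx
      apply hT.odd R (hg x hx)
      rw [CfsgLib.TransFus.orderOf_conj g x]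
      obtain ⟨k, hk⟩ := IsPGroup.iff_orderOf.1 P.isPGroup' ⟨x, hx⟩
      rw [← Subgroup.orderOf_coe] at hk
      simp only at hk
      rw [hk]
      exact (hp.odd_of_ne_two (by omega)).pow
    · obtain ⟨T, hT, hpT⟩ := R.exists_TT' hperf ρ hρ hp h
      obtain ⟨g, hg⟩ := conj_into T (hT.index R hp hpT) (P : Subgroup G) P.isPGroup'
      exact cyc_of_conj hg hT.cyc
  · have h1 : Nat.card (P : Subgroup G) = 1 := by
      have : Nat.card (P : Subgroup G) = p ^ (Nat.card G).factorization p := P.card_eq_multiplicity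
      rw [this, Nat.factorization_eq_zero_of_not_dvd hpG, pow_zero]
    have : Subsingleton ↥(P : Subgroup G) := (Nat.card_eq_one_iff_unique.1 h1).1
    infer_instance

include R in
/-- the subgroup of index two in H -/
theorem RG.exists_H2 (hm : 1 ≤ m) : ∃ A : Subgroup G, IsCyclic A ∧ Nat.card A = (3 ^ (2 * m + 1) - 1) / 2 ∧
    Nat.card ↥(Subgroup.normalizer (A : Set G)) = 2 * (3 ^ (2 * m + 1) - 1) ∧
    ∀ A₀ : Subgroup G, A₀ ≤ A → A₀ ≠ ⊥ → Subgroup.normalizer (A₀ : Set G) = Subgroup.normalizer (A : Set G) := by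
  have hq := R.q_ge hm
  have h8 := hmod8 m
  obtain ⟨h, hh, ho⟩ := exists_gen R.Hc
  rw [R.cH] at ho
  have hhH : h ∈ R.H := by rw [hh]; exact Subgroup.mem_zpowers h
  have hA : Subgroup.zpowers (h ^ 2) ≤ R.H := by rw [Subgroup.zpowers_le]; exact Subgroup.pow_mem _ hhH 2
  have hcA : Nat.card ↥(Subgroup.zpowers (h ^ 2)) = (3 ^ (2 * m + 1) - 1) / 2 := by
    rw [Nat.card_zpowers, orderOf_pow' h (by norm_num), ho]
    have : Nat.gcd (3 ^ (2 * m + 1) - 1) 2 = 2 := Nat.gcd_eq_right (by omega)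
    rw [this]
  have key : ∀ A₀ : Subgroup G, A₀ ≤ Subgroup.zpowers (h ^ 2) → A₀ ≠ ⊥ → Subgroup.normalizer (A₀ : Set G) = Subgroup.normalizer (R.H : Set G) := by
    intro A₀ h1 h2
    apply le_antisymm
    · have h3 := norm_le_norm_cent A₀
      rwa [R.cent_Hsub (h1.trans hA) h2 (by
        apply Odd.of_dvd_nat _ (Subgroup.card_dvd_of_le h1)
        rw [hcA, Nat.odd_iff]; omega)] at h3
    · exact norm_sub_cyclic _ _ R.Hc (h1.trans hA)
  have hne : Subgroup.zpowers (h ^ 2) ≠ ⊥ := by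
    intro e
    rw [e, Subgroup.card_bot] at hcA
    omega
  refine ⟨Subgroup.zpowers (h ^ 2), inferInstance, hcA, ?_, ?_⟩
  · rw [key _ le_rfl hne, R.card_NH hm]
  · intro A₀ h1 h2
    rw [key _ h1 h2, key _ le_rfl hne]

theorem RG.TT.norm_eq {T : Subgroup G} (h : R.TT T) {A₀ : Subgroup G} (h1 : A₀ ≤ T) (h2 : A₀ ≠ ⊥) :
    Subgroup.normalizer (A₀ : Set G) = Subgroup.normalizer (T : Set G) := (TTcen_sub h.cyc h.cen h1 h2).2

include R in
/-- the statement on cyclic Hall subgroups -/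
theorem RG.hall (hperf : commutator G = ⊤) (ρ : G →* Matrix (Fin 7) (Fin 7) K) (hρ : Function.Injective ρ) (hm : 1 ≤ m) :
    ∀ kn ∈ ({((3 ^ (2 * m + 1) - 1) / 2, 2 * (3 ^ (2 * m + 1) - 1)), ((3 ^ (2 * m + 1) + 1) / 4, 6 * (3 ^ (2 * m + 1) + 1)),
        (3 ^ (2 * m + 1) - 3 ^ (m + 1) + 1, 6 * (3 ^ (2 * m + 1) - 3 ^ (m + 1) + 1)),
        (3 ^ (2 * m + 1) + 3 ^ (m + 1) + 1, 6 * (3 ^ (2 * m + 1) + 3 ^ (m + 1) + 1))} : Set (ℕ × ℕ)),
      ∃ A : Subgroup G, IsCyclic A ∧ Nat.card A = kn.1 ∧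
        Nat.card (Subgroup.normalizer (A : Set G)) = kn.2 ∧
        ∀ A₀ : Subgroup G, A₀ ≤ A → A₀ ≠ ⊥ → Subgroup.normalizer (A₀ : Set G) = Subgroup.normalizer (A : Set G) := by
  obtain ⟨T1, T2, h1, h2, h3, h4, h5, h6, h7⟩ := R.two_tori hperf ρ hρ hm
  rintro kn (rfl | rfl | rfl | rfl)
  · exact R.exists_H2 hm
  · obtain ⟨D, a, hT⟩ := R.exists_TD
    exact ⟨Subgroup.zpowers a, inferInstance, by rw [Nat.card_zpowers, hT.oa], hT.card_N R hperf hm,
      fun A₀ h8 h9 => hT.norm_sub R hperf h8 h9⟩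
  · exact ⟨T1, h1.cyc, h4, by rw [h6, h4], fun A₀ h8 h9 => h1.norm_eq R h8 h9⟩
  · exact ⟨T2, h2.cyc, h5, by rw [h7, h5], fun A₀ h8 h9 => h2.norm_eq R h8 h9⟩

include R in
/-- conjugacy of cyclic subgroups -/
theorem RG.cyc_conj (hperf : commutator G = ⊤) (ρ : G →* Matrix (Fin 7) (Fin 7) K) (hρ : Function.Injective ρ) (hm : 1 ≤ m) (d : ℕ)
    (hd : d ∣ (3 ^ (2 * m + 1) - 1) / 2 ∨ d ∣ (3 ^ (2 * m + 1) + 1) / 4 ∨ d ∣ 3 ^ (2 * m + 1) - 3 ^ (m + 1) + 1 ∨ d ∣ 3 ^ (2 * m + 1) + 3 ^ (m + 1) + 1)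
    (A B : Subgroup G) (hA : IsCyclic A) (hB : IsCyclic B) (hAd : Nat.card A = d) (hBd : Nat.card B = d) :
    ∃ g : G, B = A.map (MulAut.conj g).toMonoidHom := by
  obtain ⟨T1, T2, t1, t2, h3, h4, h5, -, -⟩ := R.two_tori hperf ρ hρ hm
  obtain ⟨D, a, hT⟩ := R.exists_TD
  by_cases hd1 : d = 1
  · rw [hd1] at hAd hBd
    refine ⟨1, ?_⟩
    rw [Subgroup.card_eq_one.1 hAd, Subgroup.card_eq_one.1 hBd, Subgroup.map_bot]
  obtain ⟨s, hs, hsd⟩ := Nat.exists_prime_and_dvd hd1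
  obtain ⟨x, hx, hox⟩ := exists_gen hA
  obtain ⟨y, hy, hoy⟩ := exists_gen hB
  rw [hAd] at hox
  rw [hBd] at hoy
  have hsx : s ∣ orderOf x := by rw [hox]; exact hsd
  have hsy : s ∣ orderOf y := by rw [hoy]; exact hsd
  have h8 := hmod8 m
  rcases hd with hd | hd | hd | hd
  · have hs2 : s ≠ 2 := by
      rintro rfl
      exact half_odd m (hsd.trans hd)
    have hs' : s ∣ 3 ^ (2 * m + 1) - 1 := half_dvd m (hsd.trans hd)
    obtain ⟨g, hg, -⟩ := R.into_Hcent hs hs2 hs' hsx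
    obtain ⟨g', hg', -⟩ := R.into_Hcent hs hs2 hs' hsy
    exact conj_of_into R.Hc (map_le_of_gen hx (hg x rfl)) (map_le_of_gen hy (hg' y rfl)) (by rw [hAd, hBd])
  · have hodd : Odd d := Odd.of_dvd_nat (quarter_odd m) hd
    obtain ⟨g, hg, -⟩ := hT.into_D R hperf hs (hsd.trans hd) hsx
    obtain ⟨g', hg', -⟩ := hT.into_D R hperf hs (hsd.trans hd) hsy
    have k1 : g * x * g⁻¹ ∈ Subgroup.zpowers a := by
      apply hT.odd R (hg x rfl)
      rw [CfsgLib.TransFus.orderOf_conj g x, hox]; exact hodd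
    have k2 : g' * y * g'⁻¹ ∈ Subgroup.zpowers a := by
      apply hT.odd R (hg' y rfl)
      rw [CfsgLib.TransFus.orderOf_conj g' y, hoy]; exact hodd
    exact conj_of_into (inferInstance : IsCyclic ↥(Subgroup.zpowers a)) (map_le_of_gen hx k1) (map_le_of_gen hy k2) (by rw [hAd, hBd])
  · have hs' : s ∣ Nat.card T1 := by rw [h4]; exact hsd.trans hd
    obtain ⟨g, hg, -⟩ := t1.into R hperf ρ hρ hs hs' hsx
    obtain ⟨g', hg', -⟩ := t1.into R hperf ρ hρ hs hs' hsy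
    exact conj_of_into t1.cyc (map_le_of_gen hx hg) (map_le_of_gen hy hg') (by rw [hAd, hBd])
  · have hs' : s ∣ Nat.card T2 := by rw [h5]; exact hsd.trans hd
    obtain ⟨g, hg, -⟩ := t2.into R hperf ρ hρ hs hs' hsx
    obtain ⟨g', hg', -⟩ := t2.into R hperf ρ hρ hs hs' hsy
    exact conj_of_into t2.cyc (map_le_of_gen hx hg) (map_le_of_gen hy hg') (by rw [hAd, hBd])

end CfsgLib.ReeA
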