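import Cfsg.Agent.LibRee2
import Cfsg.Agent.LibChevSL2

set_option autoImplicit false
set_option linter.unusedSectionVars false
set_option linter.unusedVariables false
set_option linter.unusedSimpArgs false

/-! The small Ree groups: the centraliser of an involution -/

namespace CfsgLib.Rank1

variable {G : Type*} [Group G] {B U H : Subgroup G} {n : G} (S : Split B U H n)
include S

/-- uniqueness in the big cell -/
theorem Split.uniq {u u' b b' : G} (hu : u ∈ U) (hu' : u' ∈ U) (hb : b ∈ B) (hb' : b' ∈ B) (e : u * n * b = u' * n * b') :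
    u = u' ∧ b = b' := by
  have h1 : n⁻¹ * (u'⁻¹ * u) * n ∈ B := by
    have : n⁻¹ * (u'⁻¹ * u) * n = b' * b⁻¹ := by
      calc n⁻¹ * (u'⁻¹ * u) * n = n⁻¹ * u'⁻¹ * (u * n * b) * b⁻¹ := by group
        _ = n⁻¹ * u'⁻¹ * (u' * n * b') * b⁻¹ := by rw [e]
        _ = _ := by group
    rw [this]; exact Subgroup.mul_mem _ hb' (Subgroup.inv_mem _ hb)
  have h2 : u'⁻¹ * u ∈ U := Subgroup.mul_mem _ (Subgroup.inv_mem _ hu') hu
  have h3 := S.BB _ (S.UB h2) h1
  have h4 : u'⁻¹ * u ∈ U ⊓ H := ⟨h2, h3⟩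
  rw [S.UH, Subgroup.mem_bot] at h4
  have h5 : u = u' := (inv_mul_eq_one.1 h4).symm
  refine ⟨h5, ?_⟩
  rw [h5] at e
  exact mul_left_cancel e

end CfsgLib.Rank1

namespace CfsgLib.Chev

open Cfsg.Lie Matrix CfsgLib.SL2P

variable {F : Type*} [Field F] {G : Type*} [Group G]

theorem comm_ext {ψ : Matrix.SpecialLinearGroup (Fin 2) F →* G} {x : G} (h1 : ∀ t, Commute x (ψ (xx t))) (h2 : Commute x (ψ ww))
    (B : Matrix.SpecialLinearGroup (Fin 2) F) : Commute x (ψ B) := by
  let S : Subgroup (Matrix.SpecialLinearGroup (Fin 2) F) :=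
    { carrier := {B | Commute x (ψ B)}
      mul_mem' := by
        intro a b ha hb
        show Commute x (ψ (a * b))
        rw [map_mul]; exact Commute.mul_right ha hb
      one_mem' := by
        show Commute x (ψ 1)
        rw [map_one]; exact Commute.one_right x
      inv_mem' := by
        intro a ha
        show Commute x (ψ a⁻¹)
        rw [map_inv]; exact Commute.inv_right ha }
  exact mem_of_gens S h1 h2 B

/-- diagonal elements of SL₂ -/
def dd (c : Fˣ) : Matrix.SpecialLinearGroup (Fin 2) F := ⟨!![(c : F), 0; 0, ((c⁻¹ : Fˣ) : F)], by simp [Matrix.det_fin_two]⟩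

theorem d00 (c : Fˣ) : (dd c : Matrix.SpecialLinearGroup (Fin 2) F) 0 0 = c := rfl
theorem d01 (c : Fˣ) : (dd c : Matrix.SpecialLinearGroup (Fin 2) F) 0 1 = 0 := rfl
theorem d10 (c : Fˣ) : (dd c : Matrix.SpecialLinearGroup (Fin 2) F) 1 0 = 0 := rfl
theorem d11 (c : Fˣ) : (dd c : Matrix.SpecialLinearGroup (Fin 2) F) 1 1 = ((c⁻¹ : Fˣ) : F) := rfl

theorem dd_eq (c : Fˣ) : (dd c : Matrix.SpecialLinearGroup (Fin 2) F) = xx (c : F) * yy (-((c⁻¹ : Fˣ) : F)) * xx (c : F) * (ww)⁻¹ := by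
  rw [eq_mul_inv_iff_mul_eq]
  apply ext2 <;>
  · simp only [m00, m01, m10, m11, x00, x01, x10, x11, y00, y01, y10, y11, w00, w01, w10, w11, d00, d01, d10, d11]
    simp

/-- the Bruhat decomposition of SL₂ -/
theorem bruhat (A : Matrix.SpecialLinearGroup (Fin 2) F) : (∃ c b, A = dd c * xx b) ∨ (∃ a c b, A = xx a * dd c * ww * xx b) := by
  have hdet := det2 A
  by_cases hc : A 1 0 = 0
  · left
    rw [hc, mul_zero, sub_zero] at hdet
    have ha : A 0 0 ≠ 0 := by intro h; rw [h, zero_mul] at hdet; exact zero_ne_one hdet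
    refine ⟨Units.mk0 _ ha, A 0 1 / A 0 0, ?_⟩
    apply ext2
    · simp only [m00, x00, x10, d00, d01]; simp
    · simp only [m01, x01, x11, d00, d01]; simp; field_simp
    · simp only [m10, x00, x10, d10, d11]; simp [hc]
    · simp only [m11, x01, x11, d10, d11]; simp
      exact eq_inv_of_mul_eq_one_right hdet
  · right
    refine ⟨A 0 0 / A 1 0, -(Units.mk0 _ hc)⁻¹, A 1 1 / A 1 0, ?_⟩
    apply ext2
    · simp only [m00, m01, m10, m11, x00, x01, x10, x11, w00, w01, w10, w11, d00, d01, d10, d11]; simp; field_simp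
    · simp only [m00, m01, m10, m11, x00, x01, x10, x11, w00, w01, w10, w11, d00, d01, d10, d11]; simp; field_simp; linear_combination -hdet
    · simp only [m00, m01, m10, m11, x00, x01, x10, x11, w00, w01, w10, w11, d00, d01, d10, d11]; simp
    · simp only [m00, m01, m10, m11, x00, x01, x10, x11, w00, w01, w10, w11, d00, d01, d10, d11]; simp; field_simp

end CfsgLib.Chev

namespace CfsgLib.Chev.TwG2

open Cfsg.Lie Matrix CfsgLib.Chev CfsgLib.Rank1 CfsgLib.SL2P
open scoped commutatorElement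

variable {K : Type*} [Field K] [Fintype K] [CharP K 3]

section
variable {m : ℕ} {f : K ≃+* K} (hf : ∀ t, f t = t ^ (3 ^ m)) (hK : Fintype.card K = 3 ^ (2 * m + 1))

/-- the homomorphism from SL₂ onto a subgroup of the Ree group -/
theorem exists_phi (f : K ≃+* K) : ∃ φ : Matrix.SpecialLinearGroup (Fin 2) K →* GL chevG2.Idx K,
    (∀ t, φ (xx t) = uW f 0 t 0) ∧ φ ww = nG K ∧ (∀ c : Kˣ, φ (dd c) = hd chevG2 tG2 8 (fu f c) * hd chevG2 tG2 10 c) := by
  obtain ⟨p8, h1, h2, h3⟩ := good3_G2.exists_sl2 (F := K) (r := 8) (by decide)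
  obtain ⟨p10, k1, k2, k3⟩ := good3_G2.exists_sl2 (F := K) (r := 10) (by decide)
  have oc := fun t u : K => good3_G2.oc_comm (F := K) (r := 8) (s := 10) (by decide) (by decide) oc810 t u
  have c1 : ∀ t B, Commute (good3_G2.X 8 t) (p10 B) := by
    intro t B
    apply comm_ext
    · intro u; rw [k1]; exact (oc t u).1
    · rw [k3]; unfold Good3.Ng
      exact ((oc t _).1.mul_right (oc t _).2.1).mul_right (oc t _).1
  have c2 : ∀ t B, Commute (good3_G2.X (tG2.n - 1 - 8) t) (p10 B) := by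
    intro t B
    apply comm_ext
    · intro u; rw [k1]; exact (oc t u).2.2.1
    · rw [k3]; unfold Good3.Ng
      exact ((oc t _).2.2.1.mul_right (oc t _).2.2.2).mul_right (oc t _).2.2.1
  have c3 : ∀ B, Commute (good3_G2.Ng 8 (1 : K)) (p10 B) := by
    intro B
    unfold Good3.Ng
    exact ((c1 _ B).mul_left (c2 _ B)).mul_left (c1 _ B)
  have c4 : ∀ A B, Commute (p8 A) (p10 B) := by
    intro A B
    symm
    apply comm_ext
    · intro t; rw [h1]; exact (c1 t B).symm
    · rw [h3]; exact (c3 B).symm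
  let fm : Matrix.SpecialLinearGroup (Fin 2) K →* Matrix.SpecialLinearGroup (Fin 2) K := Matrix.SpecialLinearGroup.map (f : K →+* K)
  have fe : ∀ A i j, (fm A) i j = f (A i j) := fun _ _ _ => rfl
  have fx : ∀ t, fm (xx t) = xx (f t) := by
    intro t
    apply ext2 <;> rw [fe] <;> simp [x00, x01, x10, x11]
  have fw : fm ww = ww := by
    apply ext2 <;> rw [fe] <;> simp [w00, w01, w10, w11]
  let φ : Matrix.SpecialLinearGroup (Fin 2) K →* GL chevG2.Idx K := MonoidHom.mk' (fun A => p8 (fm A) * p10 A) (by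
    intro A B
    rw [map_mul, map_mul, map_mul]
    have := (c4 (fm B) A).eq
    calc p8 (fm A) * p8 (fm B) * (p10 A * p10 B) = p8 (fm A) * (p8 (fm B) * p10 A) * p10 B := by group
      _ = _ := by rw [this]; group)
  have hφ : ∀ A, φ A = p8 (fm A) * p10 A := fun _ => rfl
  have hdd : ∀ (r : ℕ) (hr : r < tG2.n) (p : Matrix.SpecialLinearGroup (Fin 2) K →* GL chevG2.Idx K),
      (∀ t, p (xx t) = good3_G2.X r t) → (∀ t, p (yy t) = good3_G2.X (tG2.n - 1 - r) t) → p ww = good3_G2.Ng r 1 →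
      ∀ c : Kˣ, p (dd c) = hd chevG2 tG2 r c := by
    intro r hr p q1 q2 q3 c
    rw [dd_eq, map_mul, map_mul, map_mul, map_inv, q1, q2, q3, ← good3_G2.Hg_eq hr]
    unfold Good3.Hg
    rw [good3_G2.Ng_neg]
    unfold Good3.Ng
    rw [Units.val_inv_eq_inv_val]
  refine ⟨φ, ?_, ?_, ?_⟩
  · intro t
    rw [hφ, fx, h1, k1]
    unfold uW R8 X
    simp [good3_G2.X_zero]
  · rw [hφ, fw, h3, k3]
    unfold nG
    rw [nw_orb]
    simp [Good3.PN]
  · intro c
    have fd : fm (dd c) = dd (fu f c) := by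
      apply ext2 <;> rw [fe] <;> simp [d00, d01, d10, d11, fu_val]
    rw [hφ, fd, hdd 8 (by decide) p8 h1 h2 h3, hdd 10 (by decide) p10 k1 k2 k3]

end
end CfsgLib.Chev.TwG2
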