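import Cfsg.Agent.LibRee3

set_option autoImplicit false
set_option linter.unusedSectionVars false
set_option linter.unusedVariables false
set_option linter.unusedSimpArgs false

/-! The small Ree groups: the centraliser of an involution -/

namespace CfsgLib.Chev.TwG2

open Cfsg.Lie Matrix CfsgLib.Chev CfsgLib.Rank1 CfsgLib.SL2P
open scoped commutatorElement

variable {K : Type*} [Field K] [Fintype K] [CharP K 3]

theorem one_ne_neg : (1 : Kˣ) ≠ -1 := by
  intro h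
  have h5 := congrArg Units.val h
  simp only [Units.val_neg, Units.val_one] at h5
  have h6 : (2 : K) = 0 := by
    have : (1 : K) + 1 = 0 := by nth_rewrite 1 [h5]; ring
    rw [← this]; norm_num
  have h8 := hp3 (K := K)
  push_cast at h8
  exact one_ne_zero (α := K) (by
    calc (1 : K) = 3 - 2 := by norm_num
      _ = 0 := by rw [h6, h8, sub_zero])

theorem neg_self {v : K} (h : -v = v) : v = 0 := by
  have h8 := hp3 (K := K)
  push_cast at h8
  have h1 : v + v = 0 := by nth_rewrite 1 [← h]; ring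
  have h2 : (3 : K) * v = v + v + v := by ring
  rw [h8, zero_mul, h1, zero_add] at h2
  exact h2.symm

section
variable {m : ℕ} {f : K ≃+* K} (hf : ∀ t, f t = t ^ (3 ^ m)) (hK : Fintype.card K = 3 ^ (2 * m + 1))

include hf hK in
/-- the elements of U commuting with the involution -/
theorem comm_tau {t u v : K} : hG f (-1) * uW f t u v = uW f t u v * hG f (-1) ↔ t = 0 ∧ v = 0 := by
  constructor
  · intro h
    have h1 := comm_t hf hK h
    have ht : t = 0 := by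
      by_contra ht
      exact one_ne_neg (K := K) (chi_one hf hK (Units.ext (mul_right_cancel₀ ht (by rw [h1]; simp)))).symm
    subst ht
    rw [comm_iff0 hf hK] at h
    refine ⟨rfl, neg_self ?_⟩
    have := h.2
    simpa using this
  · rintro ⟨rfl, rfl⟩
    rw [comm_iff0 hf hK, psi_neg_one hf]
    simp

theorem hG_one : hG f (1 : Kˣ) = 1 := (hGh f).map_one

include hf hK in
theorem hG_hd (u : Kˣ) : hd chevG2 tG2 8 (fu f u) * hd chevG2 tG2 10 u = hG f (fu f u ^ 3 * u) := by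
  obtain ⟨c1, c2, c3, c4⟩ := c_vals
  rw [Good3.hd_hel, Good3.hd_hel, ← hel_mul']
  unfold hG
  apply hel_congr
  intro i hi
  have hi' : i < 2 := hi
  interval_cases i
  · rw [if_pos rfl, c1, c3, map_mul, map_pow, fu3 hf hK, zpow_one, zpow_one, mul_comm]
  · rw [if_neg (by decide), c2, c4, zpow_one]
    rfl

include hf hK in
theorem fu_sq (s : Kˣ) : fu f (s ^ (3 ^ (m + 1) - 1)) ^ 3 * s ^ (3 ^ (m + 1) - 1) = s ^ 2 := by
  rw [fu_pow hf, ← pow_mul, ← pow_mul, ← pow_add]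
  have h1 : (3 ^ (m + 1) - 1) * (3 ^ m * 3) + (3 ^ (m + 1) - 1) = 2 + 3 * (3 ^ (2 * m + 1) - 1) := by
    have h2 : 1 ≤ 3 ^ m := Nat.one_le_pow _ _ (by norm_num)
    have h3 : 3 ^ (m + 1) = 3 * 3 ^ m := by ring
    have h4 : 3 ^ (2 * m + 1) = 3 * (3 ^ m * 3 ^ m) := by rw [pow_succ, two_mul, pow_add]; ring
    obtain ⟨k, hk⟩ := Nat.exists_eq_add_of_le h2
    rw [h3, h4, hk]
    have h5 : 3 * (1 + k) - 1 = 3 * k + 2 := by omega
    have h6 : 3 * ((1 + k) * (1 + k)) - 1 = 3 * (k * k) + 6 * k + 2 := by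
      have : 3 * ((1 + k) * (1 + k)) = 3 * (k * k) + 6 * k + 3 := by ring
      omega
    rw [h5, h6]
    ring
  rw [h1, pow_add, mul_comm 3, pow_mul, pow_q1 hf hK, one_pow, mul_one]

include hf hK in
theorem fu_cube_one {s : Kˣ} : fu f s ^ 3 * s = 1 ↔ s = 1 ∨ s = -1 := by
  constructor
  · intro h
    apply sq_one
    have h1 := fu_sq hf hK s
    have h2 : fu f (s ^ (3 ^ (m + 1) - 1)) ^ 3 * s ^ (3 ^ (m + 1) - 1) = (fu f s ^ 3 * s) ^ (3 ^ (m + 1) - 1) := by
      rw [mul_pow, map_pow, ← pow_mul, ← pow_mul, mul_comm 3]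
    rw [h2, h, one_pow] at h1
    exact h1.symm
  · rintro (rfl | rfl)
    · simp
    · have : fu f (-1 : Kˣ) = -1 := by
        apply Units.ext
        rw [fu_val]
        simp
      rw [this]
      simp
      rw [Odd.neg_one_pow (by decide)]; simp

include hf hK in
/-- every unit is plus or minus a square -/
theorem pm_sq (v : Kˣ) : ∃ s : Kˣ, v = s ^ 2 ∨ v = -1 * s ^ 2 := by
  have hmod : ∀ k : ℕ, 3 ^ (2 * k + 1) % 4 = 3 := by
    intro k
    induction k with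
    | zero => rfl
    | succ k ih =>
      have : 3 ^ (2 * (k + 1) + 1) = 9 * 3 ^ (2 * k + 1) := by ring
      rw [this, Nat.mul_mod, ih]
  have hq := hmod m
  set q := 3 ^ (2 * m + 1) with hqd
  have h1 : (v ^ ((q - 1) / 2)) ^ 2 = 1 := by
    rw [← pow_mul]
    have : (q - 1) / 2 * 2 = q - 1 := by omega
    rw [this]
    exact pow_q1 hf hK v
  have h3 : (v ^ ((q + 1) / 4)) ^ 2 = v * v ^ ((q - 1) / 2) := by
    rw [← pow_mul, ← pow_succ']
    congr 1
    omega
  refine ⟨v ^ ((q + 1) / 4), ?_⟩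
  rcases sq_one h1 with h | h
  · left
    rw [h3, h, mul_one]
  · right
    rw [h3, h]; simp

include hf hK in
/-- the main facts on the homomorphism from SL₂ -/
theorem exists_phi2 : ∃ φ : Matrix.SpecialLinearGroup (Fin 2) K →* GL chevG2.Idx K,
    (∀ t, φ (xx t) = uW f 0 t 0) ∧ φ ww = nG K ∧ (∀ c : Kˣ, φ (dd c) = hG f (fu f c ^ 3 * c)) ∧
    (∀ A, φ A ∈ twistedG2 K (3 ^ m)) ∧ (∀ A, φ A = 1 ↔ A = 1 ∨ A = dd (-1)) ∧
    (∀ A, hG f (-1) * φ A = φ A * hG f (-1)) ∧ (∀ A, φ A ≠ hG f (-1)) ∧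
    (∀ x ∈ twistedG2 K (3 ^ m), hG f (-1) * x = x * hG f (-1) → ∃ A, x = φ A ∨ x = hG f (-1) * φ A) := by
  obtain ⟨φ, h1, h2, h3⟩ := exists_phi f
  have h3' : ∀ c : Kˣ, φ (dd c) = hG f (fu f c ^ 3 * c) := fun c => by rw [h3, hG_hd hf hK]
  have hmem : ∀ A, φ A ∈ twistedG2 K (3 ^ m) := by
    intro A
    exact mem_of_gens ((twistedG2 K (3 ^ m)).comap φ) (fun t => by
      show φ (xx t) ∈ twistedG2 K (3 ^ m)
      rw [h1]; exact uW_mem hf 0 t 0) (by
      show φ ww ∈ twistedG2 K (3 ^ m)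
      rw [h2]; exact nw_mem hf) A
  have hn1 : nG K * hG f (-1) * (nG K)⁻¹ = hG f (-1) := by
    -- the unique involution of the torus
    have e : nG K * hG f (-1) * (nG K)⁻¹ ∈ chevG2.diagonalSubgroup K ⊓ twistedG2 K (3 ^ m) :=
      ⟨good3_G2.N_H nG_N ((H_iff hf hK).2 ⟨-1, rfl⟩).1, Subgroup.mul_mem _ (Subgroup.mul_mem _ (nw_mem hf) (hG_mem hf hK _)) (Subgroup.inv_mem _ (nw_mem hf))⟩
    rw [← hGh_range hf hK] at e
    obtain ⟨s, hs⟩ := e
    have hs' : hG f s = nG K * hG f (-1) * (nG K)⁻¹ := hs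
    have h4 : hG f (s ^ 2) = hG f 1 := by
      rw [pow_two, hG_mul, hs']
      have : nG K * hG f (-1) * (nG K)⁻¹ * (nG K * hG f (-1) * (nG K)⁻¹) = nG K * (hG f (-1) * hG f (-1)) * (nG K)⁻¹ := by group
      rw [this, ← hG_mul]
      have : (-1 : Kˣ) * -1 = 1 := by simp
      rw [this, hG_one]; group
    have h5 := hG_inj h4
    rcases sq_one h5 with h | h
    · exfalso
      rw [h, hG_one] at hs'
      have h6 : hG f (-1 : Kˣ) = hG f 1 := by
        rw [hG_one]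
        have : hG f (-1 : Kˣ) = (nG K)⁻¹ * (nG K * hG f (-1) * (nG K)⁻¹) * nG K := by group
        rw [this, ← hs']; group
      exact one_ne_neg (K := K) (hG_inj h6).symm
    · rw [← hs', h]
  have hcen : ∀ A, hG f (-1) * φ A = φ A * hG f (-1) := by
    intro A
    apply (comm_ext (x := hG f (-1 : Kˣ)) (ψ := φ) _ _ A).eq
    · intro t
      rw [h1]
      exact (comm_tau hf hK).2 ⟨rfl, rfl⟩
    · rw [h2]
      show hG f (-1) * nG K = nG K * hG f (-1)
      nth_rewrite 1 [← hn1]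
      group
  have hHH : ∀ s : Kˣ, hG f s ∈ chevG2.diagonalSubgroup K := fun s => ((H_iff hf hK).2 ⟨s, rfl⟩).1
  have hUB : ∀ t u v : K, uW f t u v ∈ chevG2.borelSubgroup K := fun t u v => Good3.U_le_B (uW_U t u v)
  have hUH : ∀ (s : Kˣ) (t u v : K), hG f s * uW f t u v ∈ chevG2.diagonalSubgroup K → t = 0 ∧ u = 0 ∧ v = 0 := by
    intro s t u v h
    have h4 : uW f t u v ∈ chevG2.posUnipotent K ⊓ chevG2.diagonalSubgroup K := by
      refine ⟨uW_U t u v, ?_⟩
      have : uW f t u v = (hG f s)⁻¹ * (hG f s * uW f t u v) := by group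
      rw [this]; exact Subgroup.mul_mem _ (Subgroup.inv_mem _ (hHH s)) h
    rw [good3_G2.U_inf_H, Subgroup.mem_bot] at h4
    exact uW_eq_one.1 h4
  have hdiag : ∀ A, φ A ∈ chevG2.diagonalSubgroup K → ∃ c : Kˣ, A = dd c := by
    intro A hA
    rcases bruhat A with ⟨c, b, rfl⟩ | ⟨a, c, b, rfl⟩
    · rw [map_mul, h3', h1] at hA
      obtain ⟨_, hb, _⟩ := hUH _ _ _ _ hA
      refine ⟨c, ?_⟩
      rw [hb]
      have : (xx (0 : K)) = 1 := by apply ext2 <;> simp [xx]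
      rw [this, mul_one]
    · exfalso
      rw [map_mul, map_mul, map_mul, h1, h1, h2, h3'] at hA
      apply nG_nB (K := K)
      have : nG K = (uW f 0 a 0 * hG f (fu f c ^ 3 * c))⁻¹ * (uW f 0 a 0 * hG f (fu f c ^ 3 * c) * nG K * uW f 0 b 0) * (uW f 0 b 0)⁻¹ := by group
      rw [this]
      exact Subgroup.mul_mem _ (Subgroup.mul_mem _ (Subgroup.inv_mem _ (Subgroup.mul_mem _ (hUB _ _ _) (Good3.H_le_B (hHH _)))) (Good3.H_le_B hA)) (Subgroup.inv_mem _ (hUB _ _ _))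
  refine ⟨φ, h1, h2, h3', hmem, ?_, hcen, ?_, ?_⟩
  · intro A
    constructor
    · intro hA
      obtain ⟨c, rfl⟩ := hdiag A (by rw [hA]; exact Subgroup.one_mem _)
      rw [h3', ← hG_one (f := f)] at hA
      rcases (fu_cube_one hf hK).1 (hG_inj hA) with h | h
      · left; rw [h]; apply ext2 <;> simp [dd]
      · right; rw [h]
    · rintro (rfl | rfl)
      · exact map_one _
      · rw [h3', (fu_cube_one hf hK).2 (Or.inr rfl), hG_one]
  · intro A hA
    obtain ⟨c, rfl⟩ := hdiag A (by rw [hA]; exact hHH _)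
    rw [h3'] at hA
    have h4 := hG_inj hA
    -- -1 is not of this form
    have h5 : (fu f c ^ 3 * c) ^ ((3 ^ (2 * m + 1) - 1) / 2) = 1 := by
      have h6 : Even (3 ^ (m + 1) + 1) := (Odd.pow (by decide)).add_odd odd_one
      obtain ⟨k, hk⟩ := h6
      have h7 : fu f c ^ 3 * c = (c ^ k) ^ 2 := by
        rw [fu_pow hf, ← pow_mul, ← pow_succ, ← pow_mul]
        congr 1
        have : 3 ^ m * 3 = 3 ^ (m + 1) := by ring
        rw [this, hk]; ring
      rw [h7, ← pow_mul]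
      have h8 : 2 * ((3 ^ (2 * m + 1) - 1) / 2) = 3 ^ (2 * m + 1) - 1 := by
        have : Odd (3 ^ (2 * m + 1)) := Odd.pow (by decide)
        obtain ⟨j, hj⟩ := this
        omega
      rw [h8]; exact pow_q1 hf hK _
    rw [h4] at h5
    have hodd : Odd ((3 ^ (2 * m + 1) - 1) / 2) := by
      have hmod : ∀ k : ℕ, 3 ^ (2 * k + 1) % 4 = 3 := by
        intro k
        induction k with
        | zero => rfl
        | succ k ih =>
          have : 3 ^ (2 * (k + 1) + 1) = 9 * 3 ^ (2 * k + 1) := by ring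
          rw [this, Nat.mul_mod, ih]
      have := hmod m
      rw [Nat.odd_iff]; omega
    rw [hodd.neg_one_pow] at h5
    exact one_ne_neg h5.symm
  · -- the centraliser
    have htorus : ∀ s : Kˣ, ∃ A, hG f s = φ A ∨ hG f s = hG f (-1) * φ A := by
      intro s
      obtain ⟨r, hr⟩ := pm_sq hf hK s
      refine ⟨dd (r ^ (3 ^ (m + 1) - 1)), ?_⟩
      rw [h3', fu_sq hf hK, ← hG_mul]
      rcases hr with h | h
      · left; rw [h]
      · right; rw [h]
    have hclosed : ∀ x y, (∃ A, x = φ A ∨ x = hG f (-1) * φ A) → (∃ A, y = φ A ∨ y = hG f (-1) * φ A) →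
        (∃ A, x * y = φ A ∨ x * y = hG f (-1) * φ A) := by
      rintro x y ⟨A, hA⟩ ⟨B, hB⟩
      refine ⟨A * B, ?_⟩
      rw [map_mul]
      have h11 : hG f (-1 : Kˣ) * hG f (-1) = 1 := by
        rw [← hG_mul]
        have : (-1 : Kˣ) * -1 = 1 := by simp
        rw [this, hG_one]
      rcases hA with h | h <;> rcases hB with h' | h' <;> rw [h, h']
      · exact Or.inl rfl
      · right
        rw [← mul_assoc, ← hcen A, mul_assoc]
      · right
        rw [mul_assoc]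
      · left
        calc hG f (-1) * φ A * (hG f (-1) * φ B) = hG f (-1) * (φ A * hG f (-1)) * φ B := by group
          _ = hG f (-1) * hG f (-1) * φ A * φ B := by rw [← hcen A]; group
          _ = φ A * φ B := by rw [h11, one_mul]
    intro x hx hxc
    have hHx : ∀ h ∈ chevG2.diagonalSubgroup K ⊓ twistedG2 K (3 ^ m), ∃ s, h = hG f s := fun h hh => (H_iff hf hK).1 ⟨hh.1, hE hf hK hh.2⟩
    have hUx : ∀ u ∈ chevG2.posUnipotent K ⊓ twistedG2 K (3 ^ m), ∃ t a v, u = uW f t a v := fun u hu => U_Fx hf hK ⟨hu.1, hE hf hK hu.2⟩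
    have hHc : ∀ s : Kˣ, hG f (-1) * hG f s = hG f s * hG f (-1) := fun s => by rw [← hG_mul, ← hG_mul, mul_comm]
    by_cases hB : x ∈ chevG2.borelSubgroup K
    · obtain ⟨u, hu, h, hh, rfl⟩ := mem_B1 hf hK hx hB
      obtain ⟨s, rfl⟩ := hHx h hh
      obtain ⟨t, a, v, rfl⟩ := hUx u hu
      have h4 : hG f (-1) * uW f t a v = uW f t a v * hG f (-1) := by
        have : hG f (-1) * uW f t a v * hG f s = uW f t a v * hG f (-1) * hG f s := by
          calc hG f (-1) * uW f t a v * hG f s = hG f (-1) * (uW f t a v * hG f s) := by group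
            _ = uW f t a v * (hG f s * hG f (-1)) := by rw [hxc]; group
            _ = _ := by rw [← hHc]; group
        exact mul_right_cancel this
      obtain ⟨rfl, rfl⟩ := (comm_tau hf hK).1 h4
      exact hclosed _ _ ⟨xx a, Or.inl (h1 a).symm⟩ (htorus s)
    · obtain ⟨u, hu, h, hh, v, hv, rfl⟩ := cells hf hK hx hB
      obtain ⟨s, rfl⟩ := hHx h hh
      -- uniqueness
      set τ := hG f (-1 : Kˣ) with hτ
      have hττ : τ ∈ chevG2.diagonalSubgroup K ⊓ twistedG2 K (3 ^ m) := ⟨hHH _, hG_mem hf hK _⟩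
      have hS := split hf hK
      have hconj : ∀ w ∈ chevG2.posUnipotent K ⊓ twistedG2 K (3 ^ m), τ * w * τ⁻¹ ∈ chevG2.posUnipotent K ⊓ twistedG2 K (3 ^ m) := fun w hw =>
        ⟨good3_G2.H_norm_U hττ.1 hw.1, Subgroup.mul_mem _ (Subgroup.mul_mem _ hττ.2 hw.2) (Subgroup.inv_mem _ hττ.2)⟩
      have hu' := hconj u hu
      have hv' := hconj v hv
      have hh' : hG f s ∈ chevG2.diagonalSubgroup K ⊓ twistedG2 K (3 ^ m) := hh
      have e : (⟨τ * u * τ⁻¹, hu'.2⟩ : ↥(twistedG2 K (3 ^ m))) * ⟨nG K, nw_mem hf⟩ * ⟨hG f s * (τ * v * τ⁻¹), Subgroup.mul_mem _ hh'.2 hv'.2⟩ =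
          ⟨u, hu.2⟩ * ⟨nG K, nw_mem hf⟩ * ⟨hG f s * v, Subgroup.mul_mem _ hh'.2 hv.2⟩ := by
        apply Subtype.ext
        show τ * u * τ⁻¹ * nG K * (hG f s * (τ * v * τ⁻¹)) = u * nG K * (hG f s * v)
        calc τ * u * τ⁻¹ * nG K * (hG f s * (τ * v * τ⁻¹)) = τ * u * τ⁻¹ * nG K * (hG f s * τ) * v * τ⁻¹ := by group
          _ = τ * u * τ⁻¹ * (nG K * τ * (nG K)⁻¹) * nG K * hG f s * v * τ⁻¹ := by rw [← hHc]; group
          _ = τ * (u * nG K * hG f s * v) * τ⁻¹ := by rw [hn1]; group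
          _ = _ := by rw [hxc]; group
      obtain ⟨e1, e2⟩ := hS.uniq (u := ⟨τ * u * τ⁻¹, hu'.2⟩) (u' := ⟨u, hu.2⟩) hu' hu
        (b := ⟨hG f s * (τ * v * τ⁻¹), Subgroup.mul_mem _ hh'.2 hv'.2⟩) (b' := ⟨hG f s * v, Subgroup.mul_mem _ hh'.2 hv.2⟩)
        ⟨Subgroup.mul_mem _ (Good3.H_le_B hh'.1) (Good3.U_le_B hv'.1), Subgroup.mul_mem _ hh'.2 hv'.2⟩
        ⟨Subgroup.mul_mem _ (Good3.H_le_B hh'.1) (Good3.U_le_B hv.1), Subgroup.mul_mem _ hh'.2 hv.2⟩ e
      have e1' : τ * u * τ⁻¹ = u := congrArg Subtype.val e1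
      have e2' : hG f s * (τ * v * τ⁻¹) = hG f s * v := congrArg Subtype.val e2
      have e3' : τ * v * τ⁻¹ = v := mul_left_cancel e2'
      obtain ⟨t, a, w, rfl⟩ := hUx u hu
      obtain ⟨t', a', w', rfl⟩ := hUx v hv
      obtain ⟨rfl, rfl⟩ := (comm_tau hf hK).1 (mul_inv_eq_iff_eq_mul.1 e1')
      obtain ⟨rfl, rfl⟩ := (comm_tau hf hK).1 (mul_inv_eq_iff_eq_mul.1 e3')
      exact hclosed _ _ (hclosed _ _ (hclosed _ _ ⟨xx a, Or.inl (h1 a).symm⟩ ⟨ww, Or.inl h2.symm⟩) (htorus s)) ⟨xx a', Or.inl (h1 a').symm⟩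

end
end CfsgLib.Chev.TwG2
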