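import Cfsg.Agent.LibRee3

set_option autoImplicit false
set_option linter.unusedSectionVars false
set_option linter.unusedVariables false
set_option linter.unusedSimpArgs false

/-! Groups of Ree type: abstract structure -/

namespace CfsgLib.ReeA

open Matrix CfsgLib.Chev CfsgLib.Rank1 CfsgLib.SL2P

/-- the data of a Ree group -/
structure RG (G : Type*) [Group G] [Finite G] (K : Type*) [Field K] [Fintype K] (m : ℕ) where
  B : Subgroup G
  U : Subgroup G
  H : Subgroup G
  n : G
  τ : G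
  φ : Matrix.SpecialLinearGroup (Fin 2) K →* G
  char3 : ((3 : ℕ) : K) = 0
  hK : Fintype.card K = 3 ^ (2 * m + 1)
  S : Split B U H n
  BUH : ∀ b ∈ B, ∃ u ∈ U, ∃ h ∈ H, b = u * h
  cU : Nat.card U = (3 ^ (2 * m + 1)) ^ 3
  cH : Nat.card H = 3 ^ (2 * m + 1) - 1
  cG : Nat.card G = (3 ^ (2 * m + 1)) ^ 3 * (3 ^ (2 * m + 1) - 1) * ((3 ^ (2 * m + 1)) ^ 3 + 1)
  Hc : IsCyclic H
  τH : τ ∈ H
  τ1 : τ ≠ 1
  τ2 : τ * τ = 1
  ker : ∀ A, φ A = 1 ↔ A = 1 ∨ A = dd (-1)
  τφ : ∀ A, φ A ≠ τ
  cen : ∀ x, τ * x = x * τ ↔ ∃ A, x = φ A ∨ x = τ * φ A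
  hU : ∀ t, φ (xx t) ∈ U
  hH : ∀ c, φ (dd c) ∈ H
  hw : φ ww = n
  free : ∀ h ∈ H, ∀ u ∈ U, u ≠ 1 → h * u = u * h → h = 1 ∨ h = τ
  ninv : ∀ h ∈ H, n * h * n⁻¹ = h⁻¹
  U9 : ∀ u ∈ U, u ^ 9 = 1
  U3 : Nat.card {u : G // u ∈ U ∧ u ^ 3 = 1} = (3 ^ (2 * m + 1)) ^ 2

variable {G : Type*} [Group G] [Finite G] {K : Type*} [Field K] [Fintype K] {m : ℕ} (R : RG G K m)

theorem RG.τcen (A : Matrix.SpecialLinearGroup (Fin 2) K) : R.τ * R.φ A = R.φ A * R.τ := (R.cen _).2 ⟨A, Or.inl rfl⟩

theorem hmod8 (m : ℕ) : 3 ^ (2 * m + 1) % 8 = 3 := by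
  induction m with
  | zero => rfl
  | succ k ih =>
    have : 3 ^ (2 * (k + 1) + 1) = 9 * 3 ^ (2 * k + 1) := by ring
    rw [this, Nat.mul_mod, ih]

theorem dd_neg_one : (dd (-1) : Matrix.SpecialLinearGroup (Fin 2) K) = -1 := by
  apply ext2 <;> simp [d00, d01, d10, d11]

include R in
theorem RG.two_ne : (2 : K) ≠ 0 := by
  intro h
  have := R.char3
  push_cast at this
  have h1 : (1 : K) = 3 - 2 := by norm_num
  rw [this, h, sub_zero] at h1
  exact one_ne_zero h1

theorem RG.ker' (A : Matrix.SpecialLinearGroup (Fin 2) K) : R.φ A = 1 ↔ A = 1 ∨ A = -1 := by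
  rw [R.ker, dd_neg_one]

theorem RG.φ_neg (A : Matrix.SpecialLinearGroup (Fin 2) K) : R.φ (-A) = R.φ A := by
  have : -A = -1 * A := by rw [neg_one_mul]
  rw [this, map_mul, (R.ker' (-1)).2 (Or.inr rfl), one_mul]

theorem RG.φ_eq {A B : Matrix.SpecialLinearGroup (Fin 2) K} : R.φ A = R.φ B ↔ A = B ∨ A = -B := by
  rw [← mul_inv_eq_one, ← map_inv, ← map_mul, R.ker']
  constructor
  · rintro (h | h)
    · left; exact mul_inv_eq_one.1 h
    · right
      have := mul_inv_eq_iff_eq_mul.1 h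
      rw [this, neg_one_mul]
  · rintro (rfl | rfl)
    · left; simp
    · right; rw [neg_mul, mul_inv_cancel]

theorem center_iff (A : Matrix.SpecialLinearGroup (Fin 2) K) : A ∈ Subgroup.center (Matrix.SpecialLinearGroup (Fin 2) K) ↔ A = 1 ∨ A = -1 := by
  rw [Matrix.SpecialLinearGroup.mem_center_iff]
  constructor
  · rintro ⟨r, hr, h⟩
    have h2 : r * r = 1 := by
      have : r ^ 2 = 1 := by simpa using hr
      rw [← this]; ring
    have e : ∀ i j, A i j = (Matrix.scalar (Fin 2) r) i j := fun i j => by rw [h]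
    rcases mul_self_eq_one_iff.1 h2 with h3 | h3
    · left
      apply ext2 <;> rw [e] <;> simp [h3]
    · right
      apply ext2 <;> rw [e] <;> simp [h3]
  · rintro (rfl | rfl)
    · exact ⟨1, by simp, by simp⟩
    · refine ⟨-1, by simp, ?_⟩
      ext i j
      fin_cases i <;> fin_cases j <;> simp

theorem RG.ker_eq : R.φ.ker = Subgroup.center (Matrix.SpecialLinearGroup (Fin 2) K) := by
  ext A
  rw [MonoidHom.mem_ker, R.ker', center_iff]

noncomputable def RG.rangeEquiv : R.φ.range ≃* Matrix.ProjectiveSpecialLinearGroup (Fin 2) K :=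
  ((QuotientGroup.quotientMulEquivOfEq R.ker_eq.symm).trans (QuotientGroup.quotientKerEquivRange R.φ)).symm

theorem RG.cent_iso : Nonempty (↥(Subgroup.centralizer {R.τ}) ≃* Multiplicative (ZMod 2) × Matrix.ProjectiveSpecialLinearGroup (Fin 2) K) := by
  have h2 : orderOf R.τ = 2 := by
    apply orderOf_eq_prime
    · rw [pow_two]; exact R.τ2
    · exact R.τ1
  have hz : ∀ a ∈ Subgroup.zpowers R.τ, a = 1 ∨ a = R.τ := by
    intro a ha
    obtain ⟨k, rfl⟩ := Subgroup.mem_zpowers_iff.1 ha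
    rw [← zpow_mod_orderOf, h2]
    rcases Int.emod_two_eq_zero_or_one k with h | h
    · left; push_cast; rw [h]; simp
    · right; push_cast; rw [h]; simp
  let μ : ↥(Subgroup.zpowers R.τ) × ↥(R.φ.range) →* ↥(Subgroup.centralizer {R.τ}) := MonoidHom.mk' (fun p => ⟨p.1 * p.2, by
      rw [Subgroup.mem_centralizer_singleton_iff]
      obtain ⟨A, hA⟩ := p.2.2
      have := (R.cen (p.1 * p.2)).2
      rcases hz p.1 p.1.2 with h | h
      · rw [h, one_mul, ← hA]; exact (R.τcen A).symm
      · rw [h, ← hA, mul_assoc, ← R.τcen A]⟩) (by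
      rintro ⟨a, b⟩ ⟨c, d⟩
      apply Subtype.ext
      show (a * c : G) * (b * d) = a * b * (c * d)
      obtain ⟨A, hA⟩ := b.2
      have : (c : G) * b = b * c := by
        rcases hz c c.2 with h | h
        · rw [h]; simp
        · rw [h, ← hA]; exact R.τcen A
      calc (a : G) * c * (b * d) = a * (c * b) * d := by group
        _ = _ := by rw [this]; group)
  have hμ : Function.Bijective μ := by
    constructor
    · rw [injective_iff_map_eq_one]
      rintro ⟨a, b⟩ h
      have h1 : (a : G) * b = 1 := congrArg Subtype.val h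
      obtain ⟨A, hA⟩ := b.2
      rcases hz a a.2 with h3 | h3
      · rw [h3, one_mul] at h1
        exact Prod.ext (Subtype.ext h3) (Subtype.ext h1)
      · exfalso
        rw [h3, ← hA] at h1
        apply R.τφ A
        have : R.φ A = R.τ * (R.τ * R.φ A) := by rw [← mul_assoc, R.τ2, one_mul]
        rw [this, h1, mul_one]
    · rintro ⟨x, hx⟩
      rw [Subgroup.mem_centralizer_singleton_iff] at hx
      obtain ⟨A, h | h⟩ := (R.cen x).1 hx.symm
      · exact ⟨(1, ⟨_, A, rfl⟩), Subtype.ext (by show (1 : G) * R.φ A = x; rw [one_mul, h])⟩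
      · exact ⟨(⟨R.τ, Subgroup.mem_zpowers _⟩, ⟨_, A, rfl⟩), Subtype.ext h.symm⟩
  have hc2 : Nat.card ↥(Subgroup.zpowers R.τ) = 2 := by rw [Nat.card_zpowers, h2]
  have e1 : ↥(Subgroup.zpowers R.τ) ≃* Multiplicative (ZMod 2) :=
    mulEquivOfPrimeCardEq (p := 2) hc2 (by simp)
  exact ⟨(MulEquiv.ofBijective μ hμ).symm.trans (MulEquiv.prodCongr e1 R.rangeEquiv)⟩

/-- three commuting independent involutions -/
theorem exists_E8 {x y z : G} (hx : x * x = 1) (hy : y * y = 1) (hz : z * z = 1) (hxy : x * y = y * x) (hxz : x * z = z * x)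
    (hyz : y * z = z * y) (h1 : x ≠ 1) (h2 : y ≠ 1) (h3 : z ≠ 1) (h4 : x ≠ y) (h5 : x ≠ z) (h6 : y ≠ z) (h7 : x ≠ y * z) :
    ∃ P : Subgroup G, Nat.card P = 8 ∧ (∀ g ∈ P, g * g = 1) ∧ x ∈ P ∧ y ∈ P ∧ z ∈ P ∧
      ∀ g ∈ P, g = 1 ∨ g = x ∨ g = y ∨ g = z ∨ g = x * y ∨ g = x * z ∨ g = y * z ∨ g = x * y * z := by
  classical
  have eyx : y * x = x * y := hxy.symm
  let f : Bool × Bool × Bool → G := fun p => (if p.1 then x else 1) * ((if p.2.1 then y else 1) * (if p.2.2 then z else 1))
  have hm : ∀ p p', f p * f p' = f (xor p.1 p'.1, xor p.2.1 p'.2.1, xor p.2.2 p'.2.2) := by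
    rintro ⟨a, b, c⟩ ⟨a', b', c'⟩
    have cxy : Commute x y := hxy
    have cxz : Commute x z := hxz
    have cyz : Commute y z := hyz
    have e : ∀ (w : G), w * w = 1 → ∀ s s' : Bool, (if s then w else 1) * (if s' then w else 1) = (if xor s s' then w else 1) := by
      intro w hw s s'
      cases s <;> cases s' <;> simp [hw]
    have cc : ∀ (v w : G), Commute v w → ∀ s s' : Bool, Commute (if s then v else 1) (if s' then w else 1) := by
      intro v w h s s'
      cases s <;> cases s' <;> simp [h]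
    simp only [f]
    rw [← e x hx a a', ← e y hy b b', ← e z hz c c']
    have k1 := (cc _ _ cxy.symm b a').eq
    have k2 := (cc _ _ cxz.symm c a').eq
    have k3 := (cc _ _ cyz.symm c b').eq
    calc (if a = true then x else 1) * ((if b = true then y else 1) * (if c = true then z else 1)) *
          ((if a' = true then x else 1) * ((if b' = true then y else 1) * (if c' = true then z else 1)))
        = (if a = true then x else 1) * ((if b = true then y else 1) * ((if c = true then z else 1) *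
          (if a' = true then x else 1)) * ((if b' = true then y else 1) * (if c' = true then z else 1))) := by simp only [mul_assoc]
      _ = (if a = true then x else 1) * (((if b = true then y else 1) * (if a' = true then x else 1)) * (((if c = true then z else 1) *
           (if b' = true then y else 1)) * (if c' = true then z else 1))) := by rw [k2]; simp only [mul_assoc]
      _ = _ := by rw [k1, k3]; simp only [mul_assoc]
  have hsq : ∀ p, f p * f p = 1 := by
    intro p
    rw [hm]; simp [f]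
  have hinj : Function.Injective f := by
    have key : ∀ p, f p = 1 → p = (false, false, false) := by
      rintro ⟨a, b, c⟩ h
      have i1 : ∀ v w : G, v * v = 1 → v * w = 1 → v = w := by
        intro v w h h'
        rw [← inv_eq_of_mul_eq_one_right h']
        exact (inv_eq_of_mul_eq_one_right h).symm
      cases a <;> cases b <;> cases c <;> simp [f] at h ⊢
      · exact h3 h
      · exact h2 h
      · exact h6 (i1 _ _ hy h)
      · exact h1 h
      · exact h5 (i1 _ _ hx h)
      · exact h4 (i1 _ _ hx h)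
      · exact h7 (i1 _ _ hx h)
    intro p p' h
    have h8 := key _ ((hm p p').symm.trans (by rw [← h]; exact hsq p))
    obtain ⟨a, b, c⟩ := p
    obtain ⟨a', b', c'⟩ := p'
    simp only [Prod.mk.injEq] at h8 ⊢
    obtain ⟨e1, e2, e3⟩ := h8
    have ex : ∀ s s' : Bool, xor s s' = false → s = s' := by decide
    exact ⟨ex _ _ e1, ex _ _ e2, ex _ _ e3⟩
  have hmul : ∀ p p', ∃ p'', f p * f p' = f p'' := fun p p' => ⟨_, hm p p'⟩
  let P : Subgroup G :=
    { carrier := Set.range f
      mul_mem' := by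
        rintro _ _ ⟨p, rfl⟩ ⟨p', rfl⟩
        obtain ⟨p'', h⟩ := hmul p p'
        exact ⟨p'', h.symm⟩
      one_mem' := ⟨(false, false, false), by simp [f]⟩
      inv_mem' := by
        rintro _ ⟨p, rfl⟩
        exact ⟨p, (inv_eq_of_mul_eq_one_right (hsq p)).symm⟩ }
  refine ⟨P, ?_, ?_, ⟨(true, false, false), by simp [f]⟩, ⟨(false, true, false), by simp [f]⟩, ⟨(false, false, true), by simp [f]⟩, ?_⟩
  · have : Nat.card P = Nat.card (Bool × Bool × Bool) := (Nat.card_congr (Equiv.ofInjective f hinj)).symm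
    rw [this]; simp
  · rintro _ ⟨p, rfl⟩; exact hsq p
  · rintro _ ⟨⟨a, b, c⟩, rfl⟩
    cases a <;> cases b <;> cases c <;> simp [f, mul_assoc]

end CfsgLib.ReeA
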