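import Cfsg.Agent.LibRee4
import Cfsg.Agent.LibRee5

set_option autoImplicit false
set_option linter.unusedSectionVars false
set_option linter.unusedVariables false
set_option linter.unusedSimpArgs false

/-! The small Ree groups: the abstract data -/

namespace CfsgLib.Chev.TwG2

open Cfsg.Lie Matrix CfsgLib.Chev CfsgLib.Rank1 CfsgLib.SL2P
open scoped commutatorElement

variable {K : Type*} [Field K] [Fintype K] [CharP K 3]

theorem hG_hd2 (f : K ≃+* K) (v : Kˣ) : hG f v = hd chevG2 tG2 7 (fu f v) * hd chevG2 tG2 6 v := by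
  rw [Good3.hd_hel, Good3.hd_hel, ← hel_mul']
  unfold hG
  apply hel_congr
  intro i hi
  have hi' : i < 2 := hi
  have c7 : tG2.c 7 0 = 1 ∧ tG2.c 7 1 = 0 := by decide +kernel
  have c6 : tG2.c 6 0 = 0 ∧ tG2.c 6 1 = 1 := by decide +kernel
  interval_cases i
  · rw [c7.1, c6.1]; simp
  · rw [c7.2, c6.2]; simp

theorem wact76 : wact tG2 (orb 0) 7 = tG2.n - 1 - 7 ∧ wact tG2 (orb 0) 6 = tG2.n - 1 - 6 := by decide +kernel

theorem nG_inv (f : K ≃+* K) (v : Kˣ) : nG K * hG f v * (nG K)⁻¹ = (hG f v)⁻¹ := by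
  have h7 := good3_G2.nw_hd (F := K) VW0 (r := 7) (by decide) (fu f v)
  have h6 := good3_G2.nw_hd (F := K) VW0 (r := 6) (by decide) v
  rw [wact76.1, good3_G2.hd_neg (by decide)] at h7
  rw [wact76.2, good3_G2.hd_neg (by decide)] at h6
  unfold nG
  rw [hG_hd2]
  calc good3_G2.nw (orb 0) * (hd chevG2 tG2 7 (fu f v) * hd chevG2 tG2 6 v) * (good3_G2.nw (orb 0))⁻¹
      = (good3_G2.nw (orb 0) * hd chevG2 tG2 7 (fu f v) * (good3_G2.nw (orb 0))⁻¹) * (good3_G2.nw (orb 0) * hd chevG2 tG2 6 v * (good3_G2.nw (orb 0))⁻¹) := by group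
    _ = (hd chevG2 tG2 6 v * hd chevG2 tG2 7 (fu f v))⁻¹ := by rw [h7, h6]; group
    _ = _ := by
      congr 1
      rw [Good3.hd_hel, Good3.hd_hel, ← hel_mul', ← hel_mul']
      apply hel_congr
      intro i _
      exact mul_comm _ _

section
variable {m : ℕ} {f : K ≃+* K} (hf : ∀ t, f t = t ^ (3 ^ m)) (hK : Fintype.card K = 3 ^ (2 * m + 1))

theorem R8_cube (a b c d : K) : (R8 a b c d) ^ 3 = 1 := by
  rw [pow_three, R8_mul, R8_mul, ← R8_zero]
  have h : ∀ x : K, x + (x + x) = 0 := fun x => by rw [← add_assoc]; exact three_mul x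
  rw [h, h, h, h]

theorem uW_nine (t u v : K) : (uW f t u v) ^ 9 = 1 := by
  have : (uW f t u v) ^ 9 = ((uW f t u v) ^ 3) ^ 3 := by rw [← pow_mul]
  rw [this, uW_cube, R8_cube]

include hf hK in
theorem exists_RG : ∃ R : CfsgLib.ReeA.RG ↥(twistedG2 K (3 ^ m)) K m,
    R.B = (chevG2.borelSubgroup K ⊓ twistedG2 K (3 ^ m)).subgroupOf (twistedG2 K (3 ^ m)) ∧
    R.U = (chevG2.posUnipotent K ⊓ twistedG2 K (3 ^ m)).subgroupOf (twistedG2 K (3 ^ m)) ∧
    R.H = (chevG2.diagonalSubgroup K ⊓ twistedG2 K (3 ^ m)).subgroupOf (twistedG2 K (3 ^ m)) := by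
  obtain ⟨φ, h1, h2, h3, h4, h5, h6, h7, h8⟩ := exists_phi2 hf hK
  have hRR := R hf hK
  have hcU : Nat.card ↥(chevG2.posUnipotent K ⊓ twistedG2 K (3 ^ m)) = (3 ^ (2 * m + 1)) ^ 3 := by
    obtain ⟨d, hd, hU⟩ := hRR.card_UE
    have hd' : d = 3 := by
      have : tG2.n / 2 = 6 := rfl
      omega
    rw [hd', hK] at hU
    exact hU
  have hHx : ∀ h ∈ chevG2.diagonalSubgroup K ⊓ twistedG2 K (3 ^ m), ∃ s, h = hG f s := fun h hh => (H_iff hf hK).1 ⟨hh.1, hE hf hK hh.2⟩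
  have hUx : ∀ u ∈ chevG2.posUnipotent K ⊓ twistedG2 K (3 ^ m), ∃ t a v, u = uW f t a v := fun u hu => U_Fx hf hK ⟨hu.1, hE hf hK hu.2⟩
  let φ' : Matrix.SpecialLinearGroup (Fin 2) K →* ↥(twistedG2 K (3 ^ m)) := φ.codRestrict _ h4
  have hφ' : ∀ A, ((φ' A : ↥(twistedG2 K (3 ^ m))) : GL chevG2.Idx K) = φ A := fun _ => rfl
  refine ⟨{
    B := (chevG2.borelSubgroup K ⊓ twistedG2 K (3 ^ m)).subgroupOf (twistedG2 K (3 ^ m))
    U := (chevG2.posUnipotent K ⊓ twistedG2 K (3 ^ m)).subgroupOf (twistedG2 K (3 ^ m))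
    H := (chevG2.diagonalSubgroup K ⊓ twistedG2 K (3 ^ m)).subgroupOf (twistedG2 K (3 ^ m))
    n := ⟨nG K, nw_mem hf⟩
    τ := ⟨hG f (-1), hG_mem hf hK _⟩
    φ := φ'
    char3 := hp3
    hK := hK
    S := split hf hK
    BUH := ?_
    cU := ?_
    cH := ?_
    cG := card_G hf hK
    Hc := ?_
    τH := ?_
    τ1 := ?_
    τ2 := ?_
    ker := ?_
    τφ := ?_
    cen := ?_
    hU := ?_
    hH := ?_
    hw := ?_
    free := ?_
    ninv := ?_
    U9 := ?_
    U3 := ?_ }, rfl, rfl, rfl⟩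
  · rintro ⟨b, hb⟩ hb'
    obtain ⟨u, hu, h, hh, e⟩ := mem_B1 hf hK hb hb'.1
    exact ⟨⟨u, hu.2⟩, hu, ⟨h, hh.2⟩, hh, Subtype.ext e⟩
  · rw [Nat.card_congr (Subgroup.subgroupOfEquivOfLe inf_le_right).toEquiv]
    exact hcU
  · rw [Nat.card_congr (Subgroup.subgroupOfEquivOfLe inf_le_right).toEquiv]
    exact card_H hf hK
  · have := cyc_H hf hK
    exact isCyclic_of_surjective (Subgroup.subgroupOfEquivOfLe (H := chevG2.diagonalSubgroup K ⊓ twistedG2 K (3 ^ m)) (K := twistedG2 K (3 ^ m)) inf_le_right).symm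
      (MulEquiv.surjective _)
  · exact ⟨((H_iff hf hK).2 ⟨-1, rfl⟩).1, hG_mem hf hK _⟩
  · intro h
    have h' : hG f (-1 : Kˣ) = 1 := congrArg Subtype.val h
    rw [← hG_one (f := f)] at h'
    exact one_ne_neg (hG_inj h').symm
  · apply Subtype.ext
    show hG f (-1 : Kˣ) * hG f (-1) = 1
    rw [← hG_mul]
    have : (-1 : Kˣ) * -1 = 1 := by simp
    rw [this, hG_one]
  · intro A
    rw [← h5 A]
    constructor
    · intro h; exact congrArg Subtype.val h
    · intro h; exact Subtype.ext h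
  · intro A h
    exact h7 A (congrArg Subtype.val h)
  · rintro ⟨x, hx⟩
    constructor
    · intro h
      obtain ⟨A, hA⟩ := h8 x hx (congrArg Subtype.val h)
      refine ⟨A, ?_⟩
      rcases hA with h | h
      · left; exact Subtype.ext h
      · right; exact Subtype.ext h
    · rintro ⟨A, h | h⟩
      · have h' : x = φ A := congrArg Subtype.val h
        apply Subtype.ext
        show hG f (-1) * x = x * hG f (-1)
        rw [h', h6 A]
      · have h' : x = hG f (-1) * φ A := congrArg Subtype.val h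
        apply Subtype.ext
        show hG f (-1) * x = x * hG f (-1)
        rw [h']
        rw [mul_assoc, ← h6 A]
  · intro t
    have : φ (xx t) ∈ chevG2.posUnipotent K := by rw [h1]; exact uW_U _ _ _
    exact ⟨this, (φ' (xx t)).2⟩
  · intro c
    have : φ (dd c) ∈ chevG2.diagonalSubgroup K := by rw [h3]; exact ((H_iff hf hK).2 ⟨_, rfl⟩).1
    exact ⟨this, (φ' (dd c)).2⟩
  · exact Subtype.ext h2
  · rintro ⟨h, hh⟩ hh' ⟨u, hu⟩ hu' hu1 e
    obtain ⟨s, hs⟩ := hHx h hh'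
    obtain ⟨t, a, v, hu''⟩ := hUx u hu'
    have e' : h * u = u * h := congrArg Subtype.val e
    rw [hs, hu''] at e'
    rcases comm_pm hf hK (by
      intro h; apply hu1; apply Subtype.ext; exact hu''.trans h) e' with h | h
    · left; apply Subtype.ext
      rw [h, hG_one] at hs
      exact hs
    · right; apply Subtype.ext
      rw [h] at hs
      exact hs
  · rintro ⟨h, hh⟩ hh'
    obtain ⟨s, hs⟩ := hHx h hh'
    apply Subtype.ext
    show nG K * h * (nG K)⁻¹ = h⁻¹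
    rw [hs]
    exact nG_inv f s
  · rintro ⟨u, hu⟩ hu'
    obtain ⟨t, a, v, hu''⟩ := hUx u hu'
    apply Subtype.ext
    show u ^ 9 = 1
    rw [hu'', uW_nine]
  · have e : Nat.card {u : ↥(twistedG2 K (3 ^ m)) // u ∈ (chevG2.posUnipotent K ⊓ twistedG2 K (3 ^ m)).subgroupOf (twistedG2 K (3 ^ m)) ∧ u ^ 3 = 1} = Nat.card (K × K) := by
      symm
      refine Nat.card_eq_of_bijective (fun p => ⟨⟨uW f 0 p.1 p.2, uW_mem hf _ _ _⟩, ⟨uW_U _ _ _, uW_mem hf _ _ _⟩, ?_⟩) ⟨?_, ?_⟩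
      · apply Subtype.ext
        show (uW f 0 p.1 p.2) ^ 3 = 1
        rw [uW_cube_one]
      · rintro ⟨a, b⟩ ⟨a', b'⟩ h
        have h' : uW f 0 a b = uW f 0 a' b' := congrArg (fun z => ((z.1 : ↥(twistedG2 K (3 ^ m))) : GL chevG2.Idx K)) h
        obtain ⟨_, e1, e2⟩ := uW_inj h'
        rw [e1, e2]
      · rintro ⟨⟨u, hu⟩, hu', h3⟩
        obtain ⟨t, a, v, hu''⟩ := hUx u hu'
        subst hu''
        have h3' : (uW f t a v) ^ 3 = 1 := congrArg Subtype.val h3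
        rw [uW_cube_one] at h3'
        subst h3'
        exact ⟨(a, v), rfl⟩
    rw [e, Nat.card_prod, Nat.card_eq_fintype_card, hK, pow_two]

end
end CfsgLib.Chev.TwG2
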