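import Cfsg.Agent.LibRee5

set_option autoImplicit false
set_option linter.unusedSectionVars false
set_option linter.unusedVariables false
set_option linter.unusedSimpArgs false

/-! Groups of Ree type: Sylow 2-subgroups -/

namespace CfsgLib.ReeA

open Matrix CfsgLib.Chev CfsgLib.Rank1 CfsgLib.SL2P

/-- the second generator of the quaternion group -/
def jj {K : Type*} [Field K] (h : ((3 : ℕ) : K) = 0) : Matrix.SpecialLinearGroup (Fin 2) K := ⟨!![1, 1; 1, -1], by
  rw [Matrix.det_fin_two]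
  push_cast at h
  simp
  linear_combination -h⟩

variable {G : Type*} [Group G] [Finite G] {K : Type*} [Field K] [Fintype K] {m : ℕ} (R : RG G K m)

include R in
theorem RG.three : (3 : K) = 0 := by
  have := R.char3
  push_cast at this
  exact this

theorem j00 (h : ((3 : ℕ) : K) = 0) : (jj h) 0 0 = 1 := rfl
theorem j01 (h : ((3 : ℕ) : K) = 0) : (jj h) 0 1 = 1 := rfl
theorem j10 (h : ((3 : ℕ) : K) = 0) : (jj h) 1 0 = 1 := rfl
theorem j11 (h : ((3 : ℕ) : K) = 0) : (jj h) 1 1 = -1 := rfl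
theorem n00 (A : Matrix.SpecialLinearGroup (Fin 2) K) (i j : Fin 2) : (-A) i j = -(A i j) := rfl

theorem ww_sq : (ww * ww : Matrix.SpecialLinearGroup (Fin 2) K) = -1 := by
  apply ext2 <;> simp only [m00, m01, m10, m11, w00, w01, w10, w11, n00] <;> simp

theorem jj_sq (h : ((3 : ℕ) : K) = 0) : jj h * jj h = -1 := by
  have h3 : (3 : K) = 0 := by push_cast at h; exact h
  apply ext2 <;> simp only [m00, m01, m10, m11, j00, j01, j10, j11, n00] <;> simp
  · linear_combination h3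
  · linear_combination h3

theorem jw (h : ((3 : ℕ) : K) = 0) : jj h * ww = -(ww * jj h) := by
  apply ext2 <;> simp only [m00, m01, m10, m11, j00, j01, j10, j11, n00, w00, w01, w10, w11] <;> simp

/-- the involution z in L -/
noncomputable def RG.z : G := R.φ (jj R.char3)

theorem RG.n2 : R.n * R.n = 1 := by
  rw [← R.hw, ← map_mul, ww_sq, R.ker']; exact Or.inr rfl

theorem RG.z2 : R.z * R.z = 1 := by
  unfold RG.z
  rw [← map_mul, jj_sq, R.ker']; exact Or.inr rfl

theorem RG.nz : R.n * R.z = R.z * R.n := by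
  unfold RG.z
  rw [← R.hw, ← map_mul, ← map_mul, jw, R.φ_neg]

include R in
theorem RG.one_ne_neg : (1 : K) ≠ -1 := by
  intro h
  have h1 := R.three
  have h2 : (1 : K) + 1 = 0 := by nth_rewrite 1 [h]; ring
  have h3 : (1 : K) = 3 - (1 + 1) := by norm_num
  rw [h1, h2, sub_zero] at h3
  exact one_ne_zero h3

theorem RG.n1 : R.n ≠ 1 := fun h => R.S.nB (by rw [h]; exact Subgroup.one_mem _)

theorem RG.z1 : R.z ≠ 1 := by
  unfold RG.z
  rw [Ne, R.ker']
  rintro (h | h)
  · have := congrArg (fun A : Matrix.SpecialLinearGroup (Fin 2) K => A 0 1) h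
    simp [j01] at this
  · have := congrArg (fun A : Matrix.SpecialLinearGroup (Fin 2) K => A 0 1) h
    simp [j01] at this

theorem RG.n_ne_z : R.n ≠ R.z := by
  unfold RG.z
  rw [← R.hw, Ne, R.φ_eq]
  rintro (h | h)
  · have := congrArg (fun A : Matrix.SpecialLinearGroup (Fin 2) K => A 0 0) h
    simp [j00, w00] at this
  · have := congrArg (fun A : Matrix.SpecialLinearGroup (Fin 2) K => A 0 0) h
    simp [j00, w00, n00] at this

/-- the elementary abelian subgroup of order 8 -/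
theorem RG.exists_P : ∃ P : Subgroup G, Nat.card P = 8 ∧ (∀ g ∈ P, g * g = 1) ∧ R.τ ∈ P ∧ R.n ∈ P ∧ R.z ∈ P ∧
      ∀ g ∈ P, g = 1 ∨ g = R.τ ∨ g = R.n ∨ g = R.z ∨ g = R.τ * R.n ∨ g = R.τ * R.z ∨ g = R.n * R.z ∨ g = R.τ * R.n * R.z := by
  apply exists_E8 R.τ2 R.n2 R.z2 _ (R.τcen _) R.nz R.τ1 R.n1 R.z1 _ (R.τφ _).symm R.n_ne_z
  · unfold RG.z
    rw [← R.hw, ← map_mul]
    exact (R.τφ _).symm
  · rw [← R.hw]; exact R.τcen _
  · rw [← R.hw]; exact (R.τφ _).symm

include R in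
theorem RG.card_fac : ∃ k, Odd k ∧ Nat.card G = 8 * k := by
  rw [R.cG]
  have h := hmod8 m
  set q := 3 ^ (2 * m + 1) with hq
  obtain ⟨a, ha⟩ : ∃ a, q = 8 * a + 3 := ⟨q / 8, by omega⟩
  refine ⟨q ^ 3 * (4 * a + 1) * ((q ^ 3 + 1) / 4), ?_, ?_⟩
  · have hodd : Odd q := by rw [Nat.odd_iff]; omega
    have h3 : (q ^ 3 + 1) / 4 = 128 * a ^ 3 + 144 * a ^ 2 + 54 * a + 7 := by
      rw [ha]
      have : (8 * a + 3) ^ 3 + 1 = 4 * (128 * a ^ 3 + 144 * a ^ 2 + 54 * a + 7) := by ring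
      rw [this, Nat.mul_div_cancel_left _ (by norm_num)]
    rw [h3]
    refine ((hodd.pow).mul ?_).mul ?_
    · rw [Nat.odd_iff]; omega
    · rw [Nat.odd_iff]; omega
  · have h3 : (8 * a + 3) ^ 3 + 1 = 4 * (128 * a ^ 3 + 144 * a ^ 2 + 54 * a + 7) := by ring
    rw [ha, h3, Nat.mul_div_cancel_left _ (by norm_num)]
    have : 8 * a + 3 - 1 = 2 * (4 * a + 1) := by omega
    rw [this]; ring

include R in
theorem RG.card_syl2 (S : Sylow 2 G) : Nat.card S = 8 := by
  have : Fact (Nat.Prime 2) := ⟨Nat.prime_two⟩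
  obtain ⟨k, hk, hc⟩ := R.card_fac
  rw [S.card_eq_multiplicity, hc]
  have hk0 : k ≠ 0 := by rintro rfl; exact absurd hk (by decide)
  have h2 : ¬ 2 ∣ k := by rw [← even_iff_two_dvd, Nat.not_even_iff_odd]; exact hk
  rw [Nat.factorization_mul (by norm_num) hk0, Finsupp.add_apply, Nat.factorization_eq_zero_of_not_dvd h2]
  have h8 : (8 : ℕ) = 2 ^ 3 := by norm_num
  rw [h8, Nat.Prime.factorization_pow Nat.prime_two]
  simp

include R in
theorem RG.syl2 (S : Sylow 2 G) : Nat.card S = 8 ∧ ∀ x ∈ S, x * x = 1 := by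
  have : Fact (Nat.Prime 2) := ⟨Nat.prime_two⟩
  refine ⟨R.card_syl2 S, ?_⟩
  obtain ⟨P, h1, h2, -⟩ := R.exists_P
  have hP : IsPGroup 2 P := IsPGroup.of_card (n := 3) (by rw [h1]; norm_num)
  obtain ⟨S0, hS0⟩ := hP.exists_le_sylow
  have hPS : P = (S0 : Subgroup G) := Subgroup.eq_of_le_of_card_ge hS0 (by rw [h1]; exact (R.card_syl2 S0).le)
  obtain ⟨g, rfl⟩ := MulAction.exists_smul_eq G S0 S
  intro x hx
  have hx' : g⁻¹ * x * g ∈ (S0 : Subgroup G) := by
    have := (Subgroup.mem_smul_pointwise_iff_exists x (MulAut.conj g) (S0 : Subgroup G)).1 hx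
    obtain ⟨s, hs, rfl⟩ := this
    have e : g⁻¹ * (MulAut.conj g • s) * g = s := by
      show g⁻¹ * (g * s * g⁻¹) * g = s
      group
    rw [e]; exact hs
  rw [← hPS] at hx'
  have h3 := h2 _ hx'
  have : x * x = g * ((g⁻¹ * x * g) * (g⁻¹ * x * g)) * g⁻¹ := by group
  rw [this, h3]; group

theorem RG.unique_inv {a : G} (ha : a ∈ R.H) (h1 : a ≠ 1) (h2 : a * a = 1) : a = R.τ := by
  have hc := R.Hc
  classical
  have : Fintype ↥R.H := Fintype.ofFinite _
  have h := IsCyclic.card_pow_eq_one_le (α := ↥R.H) (n := 2) (by norm_num)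
  by_contra hne
  have hs : ({1, ⟨R.τ, R.τH⟩, ⟨a, ha⟩} : Finset ↥R.H) ⊆ Finset.univ.filter fun x : ↥R.H => x ^ 2 = 1 := by
    intro x hx
    simp only [Finset.mem_insert, Finset.mem_singleton] at hx
    rw [Finset.mem_filter]
    refine ⟨Finset.mem_univ _, ?_⟩
    rcases hx with rfl | rfl | rfl
    · simp
    · apply Subtype.ext; show R.τ ^ 2 = 1; rw [pow_two]; exact R.τ2
    · apply Subtype.ext; show a ^ 2 = 1; rw [pow_two]; exact h2
  have h3 := (Finset.card_le_card hs).trans h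
  rw [Finset.card_insert_of_notMem, Finset.card_pair] at h3
  · omega
  · intro h; exact hne (congrArg Subtype.val h).symm
  · simp only [Finset.mem_insert, Finset.mem_singleton, not_or]
    exact ⟨fun h => R.τ1 (congrArg Subtype.val h).symm, fun h => h1 (congrArg Subtype.val h).symm⟩

end CfsgLib.ReeA
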