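import Cfsg.Agent.LibRee7
import Cfsg.Agent.LibTransFus

set_option autoImplicit false
set_option linter.unusedSectionVars false
set_option linter.unusedVariables false
set_option linter.unusedSimpArgs false

/-! Groups of Ree type: the normaliser of a Sylow 2-subgroup -/

namespace CfsgLib.ReeA

open Matrix CfsgLib.Chev CfsgLib.Rank1 CfsgLib.SL2P

section general
variable {G : Type*} [Group G] [Finite G]

theorem mci {N : Subgroup G} {x y : G} : y ∈ N ⊓ Subgroup.centralizer {x} ↔ y ∈ N ∧ y * x = x * y := by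
  rw [Subgroup.mem_inf, Subgroup.mem_centralizer_singleton_iff]

/-- orbit-stabiliser for conjugation -/
theorem orbstab (N : Subgroup G) (x : G) : Nat.card N = Set.ncard {y | ∃ g ∈ N, y = g * x * g⁻¹} * Nat.card ↥(N ⊓ Subgroup.centralizer {x}) := by
  classical
  let _ : MulAction ↥N G := MulAction.compHom G ((ConjAct.toConjAct.toMonoidHom : G →* ConjAct G).comp N.subtype)
  have hsm : ∀ (g : ↥N) (y : G), g • y = (g : G) * y * (g : G)⁻¹ := fun g y => rfl
  have h := Nat.card_congr (MulAction.orbitProdStabilizerEquivGroup ↥N x)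
  rw [Nat.card_prod] at h
  rw [← h]
  congr 1
  · have : MulAction.orbit ↥N x = {y | ∃ g ∈ N, y = g * x * g⁻¹} := by
      ext y
      constructor
      · rintro ⟨g, rfl⟩; exact ⟨g, g.2, rfl⟩
      · rintro ⟨g, hg, rfl⟩; exact ⟨⟨g, hg⟩, rfl⟩
    rw [this]; rfl
  · refine Nat.card_congr ⟨fun g => ⟨g.1.1, ?_⟩, fun g => ⟨⟨g.1, g.2.1⟩, ?_⟩, fun g => rfl, fun g => rfl⟩
    · rw [mci]
      have h1 : g.1 • x = x := g.2
      rw [hsm] at h1
      exact ⟨g.1.2, mul_inv_eq_iff_eq_mul.1 h1⟩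
    · have h1 := (mci.1 g.2).2
      show (⟨g.1, g.2.1⟩ : ↥N) • x = x
      rw [hsm]
      exact mul_inv_eq_iff_eq_mul.2 h1

theorem card_eight_odd {P M : Subgroup G} (hP : Nat.card P = 8) (hPM : P ≤ M) (hG : ∃ k, Odd k ∧ Nat.card G = 8 * k) :
    ∃ k, Odd k ∧ Nat.card M = 8 * k := by
  obtain ⟨k, hk, h⟩ := hG
  obtain ⟨j, hj⟩ := Subgroup.card_dvd_of_le hPM
  rw [hP] at hj
  refine ⟨j, ?_, hj⟩
  have h1 := Subgroup.card_subgroup_dvd_card M
  rw [hj, h] at h1
  exact Odd.of_dvd_nat hk (Nat.dvd_of_mul_dvd_mul_left (by norm_num) h1)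

end general

variable {G : Type*} [Group G] [Finite G] {K : Type*} [Field K] [Fintype K] {m : ℕ} (R : RG G K m)

include R in
theorem RG.two_zero {b : K} (h : b + b = 0) : b = 0 := by
  have : (2 : K) * b = 0 := by linear_combination h
  exact (mul_eq_zero.1 this).resolve_left R.two_ne

include R in
theorem RG.scalar {A : Matrix.SpecialLinearGroup (Fin 2) K} (h1 : A * ww = ww * A) (h2 : A * jj R.char3 = jj R.char3 * A) : A = 1 ∨ A = -1 := by
  have e := fun i j => congrArg (fun B : Matrix.SpecialLinearGroup (Fin 2) K => B i j) h1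
  have e' := fun i j => congrArg (fun B : Matrix.SpecialLinearGroup (Fin 2) K => B i j) h2
  have a1 := e 0 0
  have a2 := e 0 1
  have a3 := e' 0 0
  have a4 := e' 0 1
  simp only [m00, m01, m10, m11, j00, j01, j10, j11, w00, w01, w10, w11] at a1 a2 a3 a4
  have hd := det2 A
  have b1 : A 1 0 = -(A 0 1) := by linear_combination -a1
  have b2 : A 1 1 = A 0 0 := by linear_combination -a2
  have b3 : A 0 1 = 0 := by
    apply R.two_zero
    rw [b1] at a3
    linear_combination a3
  rw [b3, neg_zero] at b1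
  rw [b1, b2, b3] at hd
  have h : A 0 0 * A 0 0 = 1 := by linear_combination hd
  rcases mul_self_eq_one_iff.1 h with h | h
  · left; apply ext2
    · rw [h]; rfl
    · rw [b3]; rfl
    · rw [b1]; rfl
    · rw [b2, h]; rfl
  · right; apply ext2
    · rw [h]; rfl
    · rw [b3]; simp
    · rw [b1]; simp
    · rw [b2, h]; rfl

/-- elements of L commuting with n and z -/
theorem RG.centV {A : Matrix.SpecialLinearGroup (Fin 2) K} (h1 : R.φ A * R.n = R.n * R.φ A) (h2 : R.φ A * R.z = R.z * R.φ A) :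
    R.φ A = 1 ∨ R.φ A = R.n ∨ R.φ A = R.z ∨ R.φ A = R.n * R.z := by
  rw [← R.hw, ← map_mul, ← map_mul, R.φ_eq] at h1
  unfold RG.z at h2
  rw [← map_mul, ← map_mul, R.φ_eq] at h2
  have hjw := jw R.char3
  have hwj : ww * jj R.char3 = -(jj R.char3 * ww) := by rw [hjw, neg_neg]
  have key : ∀ B : Matrix.SpecialLinearGroup (Fin 2) K, B * ww = ww * B → B * jj R.char3 = jj R.char3 * B → R.φ B = 1 := by
    intro B k1 k2
    rw [R.ker']; exact R.scalar k1 k2
  have e1 : R.n⁻¹ = R.n := (inv_eq_of_mul_eq_one_right R.n2)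
  have e2 : R.z⁻¹ = R.z := (inv_eq_of_mul_eq_one_right R.z2)
  rcases h1 with h1 | h1 <;> rcases h2 with h2 | h2
  · left; exact key A h1 h2
  · right; left
    have := key (A * ww) (by rw [← mul_assoc, h1]) (by
      rw [mul_assoc, hwj, mul_neg, ← mul_assoc, h2, neg_mul, neg_neg, mul_assoc])
    rw [map_mul, R.hw] at this
    rw [mul_eq_one_iff_eq_inv.1 this, e1]
  · right; right; left
    have := key (A * jj R.char3) (by
      rw [mul_assoc, hjw, mul_neg, ← mul_assoc, h1, neg_mul, neg_neg, mul_assoc]) (by rw [← mul_assoc, h2])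
    rw [map_mul] at this
    rw [mul_eq_one_iff_eq_inv.1 this]
    exact e2
  · right; right; right
    have := key (A * (ww * jj R.char3)) (by
      calc A * (ww * jj R.char3) * ww = A * ww * (jj R.char3 * ww) := by simp only [mul_assoc]
        _ = ww * (A * (ww * jj R.char3)) := by rw [hjw, h1]; simp only [mul_neg, neg_mul, neg_neg, mul_assoc]) (by
      calc A * (ww * jj R.char3) * jj R.char3 = A * (ww * jj R.char3) * jj R.char3 := rfl
        _ = -(A * jj R.char3) * (ww * jj R.char3) := by rw [hwj]; simp only [mul_neg, neg_mul, neg_neg, mul_assoc, hwj]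
        _ = _ := by rw [h2]; simp only [mul_neg, neg_mul, neg_neg, mul_assoc])
    rw [map_mul, map_mul, R.hw] at this
    have h3 : R.φ A = (R.n * R.z)⁻¹ := mul_eq_one_iff_eq_inv.1 this
    rw [h3, _root_.mul_inv_rev, e1, e2, R.nz]

/-- the structure of a Sylow 2-subgroup and its normaliser -/
structure RG.PD (R : RG G K m) (P : Subgroup G) : Prop where
  c : Nat.card P = 8
  sq : ∀ g ∈ P, g * g = 1
  τm : R.τ ∈ P
  nm : R.n ∈ P
  zm : R.z ∈ P
  el : ∀ g ∈ P, g = 1 ∨ g = R.τ ∨ g = R.n ∨ g = R.z ∨ g = R.τ * R.n ∨ g = R.τ * R.z ∨ g = R.n * R.z ∨ g = R.τ * R.n * R.z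

theorem RG.exists_PD : ∃ P : Subgroup G, R.PD P := by
  obtain ⟨P, h1, h2, h3, h4, h5, h6⟩ := R.exists_P
  exact ⟨P, h1, h2, h3, h4, h5, h6⟩

theorem RG.PD.comm {P : Subgroup G} (h : R.PD P) {x y : G} (hx : x ∈ P) (hy : y ∈ P) : x * y = y * x := by
  have h1 := h.sq _ (Subgroup.mul_mem _ hx hy)
  have h2 := h.sq _ hx
  have h3 := h.sq _ hy
  calc x * y = x * (x * y * (x * y)) * y := by rw [h1, mul_one]
    _ = (x * x) * (y * x) * (y * y) := by group
    _ = y * x := by rw [h2, h3]; group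

theorem RG.PD.centr {P : Subgroup G} (h : R.PD P) {x : G} (h1 : x * R.τ = R.τ * x) (h2 : x * R.n = R.n * x) (h3 : x * R.z = R.z * x) : x ∈ P := by
  have key : ∀ A, R.φ A * R.n = R.n * R.φ A → R.φ A * R.z = R.z * R.φ A → R.φ A ∈ P := by
    intro A k1 k2
    rcases R.centV k1 k2 with e | e | e | e <;> rw [e]
    · exact Subgroup.one_mem _
    · exact h.nm
    · exact h.zm
    · exact Subgroup.mul_mem _ h.nm h.zm
  obtain ⟨A, e | e⟩ := (R.cen x).1 h1.symm
  · rw [e]; rw [e] at h2 h3; exact key A h2 h3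
  · rw [e]
    rw [e] at h2 h3
    refine Subgroup.mul_mem _ h.τm (key A ?_ ?_)
    · have hτn := h.comm R h.τm h.nm
      have : R.τ * (R.φ A * R.n) = R.τ * (R.n * R.φ A) := by
        calc R.τ * (R.φ A * R.n) = R.τ * R.φ A * R.n := by group
          _ = R.n * (R.τ * R.φ A) := h2
          _ = (R.n * R.τ) * R.φ A := by group
          _ = _ := by rw [← hτn]; group
      exact mul_left_cancel this
    · have hτn := h.comm R h.τm h.zm
      have : R.τ * (R.φ A * R.z) = R.τ * (R.z * R.φ A) := by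
        calc R.τ * (R.φ A * R.z) = R.τ * R.φ A * R.z := by group
          _ = R.z * (R.τ * R.φ A) := h3
          _ = (R.z * R.τ) * R.φ A := by group
          _ = _ := by rw [← hτn]; group
      exact mul_left_cancel this

theorem RG.PD.cP {P : Subgroup G} (h : R.PD P) : Subgroup.centralizer (P : Set G) = P := by
  apply le_antisymm
  · intro x hx
    rw [Subgroup.mem_centralizer_iff] at hx
    exact h.centr R (hx _ h.τm).symm (hx _ h.nm).symm (hx _ h.zm).symm
  · intro x hx
    rw [Subgroup.mem_centralizer_iff]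
    intro y hy
    exact h.comm R hy hx

/-- the elements of P in L -/
theorem RG.PD.inL {P : Subgroup G} (h : R.PD P) {A : Matrix.SpecialLinearGroup (Fin 2) K} (hA : R.φ A ∈ P) :
    R.φ A = 1 ∨ R.φ A = R.n ∨ R.φ A = R.z ∨ R.φ A = R.n * R.z := by
  apply R.centV
  · exact h.comm R hA h.nm
  · exact h.comm R hA h.zm

theorem RG.wn : R.φ (xx 1) * R.n * (R.φ (xx 1))⁻¹ = R.z := by
  rw [mul_inv_eq_iff_eq_mul]
  unfold RG.z
  rw [← R.hw, ← map_mul, ← map_mul, R.φ_eq]
  right
  have h3 := R.three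
  apply ext2 <;> simp only [n00, m00, m01, m10, m11, j00, j01, j10, j11, w00, w01, w10, w11, x00, x01, x10, x11]
  · ring
  · linear_combination h3
  · ring
  · ring

theorem RG.wz : R.φ (xx 1) * R.z * (R.φ (xx 1))⁻¹ = R.n * R.z := by
  rw [mul_inv_eq_iff_eq_mul]
  unfold RG.z
  rw [← R.hw, ← map_mul, ← map_mul, ← map_mul, R.φ_eq]
  right
  have h3 := R.three
  apply ext2 <;> simp only [n00, m00, m01, m10, m11, j00, j01, j10, j11, w00, w01, w10, w11, x00, x01, x10, x11]
  · linear_combination h3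
  · ring
  · ring
  · linear_combination -h3

theorem RG.wτ : R.φ (xx 1) * R.τ * (R.φ (xx 1))⁻¹ = R.τ := by
  rw [mul_inv_eq_iff_eq_mul]
  exact (R.τcen _).symm

theorem RG.PD.wN {P : Subgroup G} (h : R.PD P) : R.φ (xx 1) ∈ Subgroup.normalizer (P : Set G) := by
  have hc : ∀ g ∈ P, R.φ (xx 1) * g * (R.φ (xx 1))⁻¹ ∈ P := by
    intro g hg
    have h1 := R.wn
    have h2 := R.wz
    have h3 := R.wτ
    set w := R.φ (xx 1)
    have hm : ∀ a b : G, w * a * w⁻¹ ∈ P → w * b * w⁻¹ ∈ P → w * (a * b) * w⁻¹ ∈ P := by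
      intro a b ha hb
      have : w * (a * b) * w⁻¹ = (w * a * w⁻¹) * (w * b * w⁻¹) := by group
      rw [this]; exact Subgroup.mul_mem _ ha hb
    have k1 : w * R.n * w⁻¹ ∈ P := by rw [h1]; exact h.zm
    have k2 : w * R.z * w⁻¹ ∈ P := by rw [h2]; exact Subgroup.mul_mem _ h.nm h.zm
    have k3 : w * R.τ * w⁻¹ ∈ P := by rw [h3]; exact h.τm
    rcases h.el g hg with e | e | e | e | e | e | e | e <;> rw [e]
    · simp
    · exact k3
    · exact k1
    · exact k2
    · exact hm _ _ k3 k1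
    · exact hm _ _ k3 k2
    · exact hm _ _ k1 k2
    · exact hm _ _ (hm _ _ k3 k1) k2
  rw [Subgroup.mem_normalizer_iff]
  intro g
  constructor
  · exact hc g
  · intro hg
    -- w has finite order: use that conjugation is injective on the finite set P
    have hmap : P.map (MulAut.conj (R.φ (xx 1))).toMonoidHom = P := by
      apply Subgroup.eq_of_le_of_card_ge
      · rintro _ ⟨x, hx, rfl⟩; exact hc x hx
      · rw [Nat.card_congr (Subgroup.equivMapOfInjective P _ (MulAut.conj (R.φ (xx 1))).injective).toEquiv.symm]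
    rw [← hmap] at hg
    obtain ⟨x, hx, e⟩ := hg
    have e' : R.φ (xx 1) * x * (R.φ (xx 1))⁻¹ = R.φ (xx 1) * g * (R.φ (xx 1))⁻¹ := e
    have : x = g := mul_left_cancel (mul_right_cancel e')
    rw [← this]; exact hx

/-- the part of the normaliser centralising τ -/
theorem RG.PD.card24 {P : Subgroup G} (h : R.PD P) : Nat.card ↥(Subgroup.normalizer (P : Set G) ⊓ Subgroup.centralizer {R.τ}) = 24 := by
  set M := Subgroup.normalizer (P : Set G) ⊓ Subgroup.centralizer {R.τ} with hM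
  have hPM : P ≤ M := le_inf Subgroup.le_normalizer (fun x hx => by
    rw [Subgroup.mem_centralizer_singleton_iff]; exact h.comm R hx h.τm)
  have hw : R.φ (xx 1) ∈ M := mci.2 ⟨h.wN, (R.τcen _).symm⟩
  have hstab : ∀ g ∈ M, ∀ A, R.φ A ∈ P → ∃ B, g * R.φ A * g⁻¹ = R.φ B ∧ R.φ B ∈ P := by
    intro g hg A hA
    have h1 := (Subgroup.mem_normalizer_iff.1 hg.1 (R.φ A)).1 hA
    have h2 := (mci.1 hg).2
    obtain ⟨B, e | e⟩ := (R.cen g).1 h2.symm
    · refine ⟨B * A * B⁻¹, ?_, ?_⟩
      · rw [e]; simp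
      · rw [map_mul, map_mul, map_inv, ← e]; exact h1
    · have e2 : g * R.φ A * g⁻¹ = R.φ (B * A * B⁻¹) := by
        rw [e, map_mul, map_mul, map_inv]
        have := R.τcen (B * A * B⁻¹)
        rw [map_mul, map_mul, map_inv] at this
        calc R.τ * R.φ B * R.φ A * (R.τ * R.φ B)⁻¹ = R.τ * (R.φ B * R.φ A * (R.φ B)⁻¹) * R.τ⁻¹ := by group
          _ = _ := by rw [this]; group
      exact ⟨_, e2, by rw [← e2]; exact h1⟩
  have o1 := orbstab M R.n
  have s1 : {y | ∃ g ∈ M, y = g * R.n * g⁻¹} = {R.n, R.z, R.n * R.z} := by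
    apply Set.Subset.antisymm
    · rintro y ⟨g, hg, rfl⟩
      obtain ⟨B, e, hB⟩ := hstab g hg ww (by rw [R.hw]; exact h.nm)
      rw [R.hw] at e
      rw [e]
      rcases h.inL R hB with e' | e' | e' | e'
      · exfalso
        rw [e'] at e
        apply R.n1
        have : R.n = g⁻¹ * (g * R.n * g⁻¹) * g := by group
        rw [this, e]; group
      · simp [e']
      · simp [e']
      · simp [e']
    · rintro y (rfl | rfl | rfl)
      · exact ⟨1, Subgroup.one_mem _, by group⟩
      · exact ⟨_, hw, R.wn.symm⟩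
      · refine ⟨_, Subgroup.mul_mem _ hw hw, ?_⟩
        calc R.n * R.z = R.φ (xx 1) * R.z * (R.φ (xx 1))⁻¹ := R.wz.symm
          _ = R.φ (xx 1) * (R.φ (xx 1) * R.n * (R.φ (xx 1))⁻¹) * (R.φ (xx 1))⁻¹ := by rw [R.wn]
          _ = _ := by group
  have hnz1 : R.n ≠ R.n * R.z := fun e => R.z1 (left_eq_mul.1 e)
  have hnz2 : R.z ≠ R.n * R.z := fun e => R.n1 (right_eq_mul.1 e)
  have c1 : Set.ncard ({R.n, R.z, R.n * R.z} : Set G) = 3 := by
    rw [Set.ncard_insert_of_notMem, Set.ncard_pair hnz2]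
    simp only [Set.mem_insert_iff, Set.mem_singleton_iff, not_or]
    exact ⟨R.n_ne_z, hnz1⟩
  have o2 := orbstab (M ⊓ Subgroup.centralizer {R.n}) R.z
  have s2 : Set.ncard {y | ∃ g ∈ M ⊓ Subgroup.centralizer {R.n}, y = g * R.z * g⁻¹} ≤ 2 := by
    have : {y | ∃ g ∈ M ⊓ Subgroup.centralizer {R.n}, y = g * R.z * g⁻¹} ⊆ {R.z, R.n * R.z} := by
      rintro y ⟨g, hg, rfl⟩
      obtain ⟨B, e, hB⟩ := hstab g hg.1 (jj R.char3) h.zm
      have e0 : g * R.z * g⁻¹ = R.φ B := e
      rw [e0]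
      have hgn := (mci.1 hg).2
      rcases h.inL R hB with e' | e' | e' | e'
      · exfalso
        rw [e'] at e0
        apply R.z1
        have : R.z = g⁻¹ * (g * R.z * g⁻¹) * g := by group
        rw [this, e0]; group
      · exfalso
        rw [e'] at e0
        apply R.n_ne_z
        have h5 : g * R.n * g⁻¹ = R.n := mul_inv_eq_iff_eq_mul.2 hgn
        have : g * R.z * g⁻¹ = g * R.n * g⁻¹ := by rw [e0, h5]
        exact (mul_left_cancel (mul_right_cancel this)).symm
      · simp [e']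
      · simp [e']
    calc _ ≤ Set.ncard ({R.z, R.n * R.z} : Set G) := Set.ncard_le_ncard this
      _ ≤ 2 := (Set.ncard_insert_le _ _).trans (by rw [Set.ncard_singleton])
  have e3 : M ⊓ Subgroup.centralizer {R.n} ⊓ Subgroup.centralizer {R.z} = P := by
    apply le_antisymm
    · intro x hx
      obtain ⟨hx1, hx3⟩ := mci.1 hx
      obtain ⟨hx0, hx2⟩ := mci.1 hx1
      exact h.centr R (mci.1 hx0).2 hx2 hx3
    · intro x hx
      exact mci.2 ⟨mci.2 ⟨hPM hx, h.comm R hx h.nm⟩, h.comm R hx h.zm⟩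
  rw [e3, h.c] at o2
  rw [s1, c1] at o1
  obtain ⟨k, hk, hck⟩ := card_eight_odd h.c hPM R.card_fac
  set o := Set.ncard {y | ∃ g ∈ M ⊓ Subgroup.centralizer {R.n}, y = g * R.z * g⁻¹}
  rw [Nat.odd_iff] at hk
  have : o = 0 ∨ o = 1 ∨ o = 2 := by omega
  rcases this with h0 | h0 | h0
  · rw [h0, zero_mul] at o2
    rw [o2] at o1
    omega
  · rw [o1, o2, h0]
  · exfalso; rw [h0] at o2; omega

theorem RG.comm_L {M : Subgroup G} (hM : M ≤ Subgroup.centralizer {R.τ}) : ⁅M, M⁆ ≤ R.φ.range := by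
  rw [Subgroup.commutator_le]
  intro x hx y hy
  have hx' := hM hx
  have hy' := hM hy
  rw [Subgroup.mem_centralizer_singleton_iff] at hx' hy'
  obtain ⟨A, hA⟩ := (R.cen x).1 hx'.symm
  obtain ⟨B, hB⟩ := (R.cen y).1 hy'.symm
  refine ⟨A * B * A⁻¹ * B⁻¹, ?_⟩
  rw [map_mul, map_mul, map_mul, map_inv, map_inv]
  have hcA : Commute R.τ (R.φ A) := R.τcen A
  have hcB : Commute R.τ (R.φ B) := R.τcen B
  have L1 : ∀ a b : G, Commute R.τ a → Commute R.τ b → (R.τ * a) * b * (R.τ * a)⁻¹ = a * b * a⁻¹ := by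
    intro a b ha hb
    have c : Commute R.τ (a * b * a⁻¹) := (ha.mul_right hb).mul_right ha.inv_right
    calc (R.τ * a) * b * (R.τ * a)⁻¹ = R.τ * (a * b * a⁻¹) * R.τ⁻¹ := by group
      _ = _ := by rw [c.eq]; group
  have L2 : ∀ a b : G, Commute R.τ a → Commute R.τ b → a * (R.τ * b) * a⁻¹ * (R.τ * b)⁻¹ = a * b * a⁻¹ * b⁻¹ := by
    intro a b ha hb
    have c : Commute R.τ (a * b * a⁻¹ * b⁻¹) := ((ha.mul_right hb).mul_right ha.inv_right).mul_right hb.inv_right
    calc a * (R.τ * b) * a⁻¹ * (R.τ * b)⁻¹ = (a * R.τ) * b * a⁻¹ * b⁻¹ * R.τ⁻¹ := by group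
      _ = R.τ * (a * b * a⁻¹ * b⁻¹) * R.τ⁻¹ := by rw [← ha.eq]; group
      _ = _ := by rw [c.eq]; group
  have cx : Commute R.τ x := hx'.symm
  rw [commutatorElement_def]
  have h1 : x * y * x⁻¹ = R.φ A * y * (R.φ A)⁻¹ := by
    rcases hA with h | h
    · rw [h]
    · rw [h]; exact L1 _ _ hcA hy'.symm
  rw [h1]
  rcases hB with h | h
  · rw [h]
  · rw [h]; exact (L2 _ _ hcA hcB).symm

/-- the normaliser of a Sylow 2-subgroup -/
theorem RG.PD.orbit {P : Subgroup G} (h : R.PD P) (hperf : commutator G = ⊤) :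
    {y | ∃ g ∈ Subgroup.normalizer (P : Set G), y = g * R.τ * g⁻¹} = {y | y ∈ P ∧ y ≠ 1} ∧
    Nat.card ↥(Subgroup.normalizer (P : Set G)) = 168 := by
  have : Fact (Nat.Prime 2) := ⟨Nat.prime_two⟩
  set N := Subgroup.normalizer (P : Set G) with hN
  have hPN : P ≤ N := Subgroup.le_normalizer
  obtain ⟨k, hk, hck⟩ := card_eight_odd h.c hPN R.card_fac
  have o := orbstab N R.τ
  rw [h.card24] at o
  set O := {y | ∃ g ∈ N, y = g * R.τ * g⁻¹} with hO
  have hOP : O ⊆ {y | y ∈ P ∧ y ≠ 1} := by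
    rintro y ⟨g, hg, rfl⟩
    refine ⟨(Subgroup.mem_normalizer_iff.1 hg _).1 h.τm, fun e => R.τ1 ?_⟩
    have : R.τ = g⁻¹ * (g * R.τ * g⁻¹) * g := by group
    rw [this, e]; group
  have hO1 : R.τ ∈ O := ⟨1, Subgroup.one_mem _, by group⟩
  have hOw : ∀ y ∈ O, R.φ (xx 1) * y * (R.φ (xx 1))⁻¹ ∈ O := by
    rintro y ⟨g, hg, rfl⟩
    exact ⟨_, Subgroup.mul_mem _ h.wN hg, by group⟩
  have e1 : R.n⁻¹ = R.n := (inv_eq_of_mul_eq_one_right R.n2)
  -- orbit of n
  have hwn := R.wn
  have hwz := R.wz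
  have hwτ := R.wτ
  have hwnz : R.φ (xx 1) * (R.n * R.z) * (R.φ (xx 1))⁻¹ = R.n := by
    have : R.φ (xx 1) * (R.n * R.z) * (R.φ (xx 1))⁻¹ = (R.φ (xx 1) * R.n * (R.φ (xx 1))⁻¹) * (R.φ (xx 1) * R.z * (R.φ (xx 1))⁻¹) := by group
    rw [this, hwn, hwz, R.nz, ← mul_assoc, R.z2, one_mul]
  have hwτ' : ∀ a b, R.φ (xx 1) * a * (R.φ (xx 1))⁻¹ = b → R.φ (xx 1) * (R.τ * a) * (R.φ (xx 1))⁻¹ = R.τ * b := by
    intro a b e
    have : R.φ (xx 1) * (R.τ * a) * (R.φ (xx 1))⁻¹ = (R.φ (xx 1) * R.τ * (R.φ (xx 1))⁻¹) * (R.φ (xx 1) * a * (R.φ (xx 1))⁻¹) := by group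
    rw [this, hwτ, e]
  have f1 : R.n ∈ O → R.z ∈ O := fun h => by have := hOw _ h; rwa [hwn] at this
  have f2 : R.z ∈ O → R.n * R.z ∈ O := fun h => by have := hOw _ h; rwa [hwz] at this
  have f3 : R.n * R.z ∈ O → R.n ∈ O := fun h => by have := hOw _ h; rwa [hwnz] at this
  have g1 : R.τ * R.n ∈ O → R.τ * R.z ∈ O := fun h => by have := hOw _ h; rwa [hwτ' _ _ hwn] at this
  have g2 : R.τ * R.z ∈ O → R.τ * (R.n * R.z) ∈ O := fun h => by have := hOw _ h; rwa [hwτ' _ _ hwz] at this
  have g3 : R.τ * (R.n * R.z) ∈ O → R.τ * R.n ∈ O := fun h => by have := hOw _ h; rwa [hwτ' _ _ hwnz] at this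
  have hnL : ∀ A, R.φ A ≠ R.τ := R.τφ
  have hnτ : R.n ≠ R.τ := by rw [← R.hw]; exact hnL _
  have hzτ : R.z ≠ R.τ := hnL _
  have hnzτ : R.n * R.z ≠ R.τ := by unfold RG.z; rw [← R.hw, ← map_mul]; exact hnL _
  have hnz : R.n ≠ R.z := R.n_ne_z
  have hnz1 : R.n ≠ R.n * R.z := fun e => R.z1 (left_eq_mul.1 e)
  have hnz2 : R.z ≠ R.n * R.z := fun e => R.n1 (right_eq_mul.1 e)
  -- the size of O
  have hsz : O.ncard = 1 → False := by
    intro h1
    rw [Set.ncard_eq_one] at h1
    obtain ⟨a, ha⟩ := h1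
    have haτ : a = R.τ := by rw [ha] at hO1; exact hO1.symm
    rw [haτ] at ha
    have hNC : N ≤ Subgroup.centralizer {R.τ} := by
      intro g hg
      have : g * R.τ * g⁻¹ ∈ O := ⟨g, hg, rfl⟩
      rw [ha] at this
      rw [Subgroup.mem_centralizer_singleton_iff]
      exact mul_inv_eq_iff_eq_mul.1 this
    have hPG : IsPGroup 2 P := IsPGroup.of_card (n := 3) (by rw [h.c]; norm_num)
    obtain ⟨S0, hS0⟩ := hPG.exists_le_sylow
    have hPS : P = (S0 : Subgroup G) := Subgroup.eq_of_le_of_card_ge hS0 (by rw [h.c]; exact (R.card_syl2 S0).le)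
    have hab : IsMulCommutative (S0 : Subgroup G) := by
      constructor; constructor
      rintro ⟨a, ha⟩ ⟨b, hb⟩
      apply Subtype.ext
      have ha' : a ∈ P := by rw [hPS]; exact ha
      have hb' : b ∈ P := by rw [hPS]; exact hb
      exact h.comm R ha' hb'
    have hc := CfsgLib.TransFus.commutator_inf_eq_of_controls S0 (Subgroup.normalizer ((S0 : Subgroup G) : Set G)) Subgroup.le_normalizer
      (fun x g hx hgx => CfsgLib.TransFus.abelian_controls S0 hab x g hx hgx)
    rw [hperf, top_inf_eq, ← hPS, ← hN] at hc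
    have hτ : R.τ ∈ ⁅N, N⁆ := by
      have : R.τ ∈ ⁅N, N⁆ ⊓ P := by rw [← hc]; exact h.τm
      exact this.1
    obtain ⟨A, hA⟩ := R.comm_L hNC hτ
    exact hnL A hA
  rw [Nat.odd_iff] at hk
  have hall : {y | y ∈ P ∧ y ≠ 1} ⊆ O := by
    by_cases hn : R.n ∈ O
    · by_cases ht : R.τ * R.n ∈ O
      · rintro y ⟨hy, hy1⟩
        rcases h.el y hy with e | e | e | e | e | e | e | e
        · exact absurd e hy1
        · rw [e]; exact hO1
        · rw [e]; exact hn
        · rw [e]; exact f1 hn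
        · rw [e]; exact ht
        · rw [e]; exact g1 ht
        · rw [e]; exact f2 (f1 hn)
        · rw [e, mul_assoc]; exact g2 (g1 ht)
      · exfalso
        have hO4 : O = {R.τ, R.n, R.z, R.n * R.z} := by
          apply Set.Subset.antisymm
          · intro y hy
            have hyP := hOP hy
            rcases h.el y hyP.1 with e | e | e | e | e | e | e | e
            · exact absurd e hyP.2
            · simp [e]
            · simp [e]
            · simp [e]
            · exact absurd (by rw [← e]; exact hy) ht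
            · exact absurd (g3 (g2 (by rw [← e]; exact hy))) ht
            · simp [e]
            · exact absurd (g3 (by rw [← mul_assoc, ← e]; exact hy)) ht
          · rintro y (rfl | rfl | rfl | rfl)
            · exact hO1
            · exact hn
            · exact f1 hn
            · exact f2 (f1 hn)
        have : O.ncard = 4 := by
          rw [hO4, Set.ncard_insert_of_notMem, Set.ncard_insert_of_notMem, Set.ncard_pair hnz2]
          · simp only [Set.mem_insert_iff, Set.mem_singleton_iff, not_or]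
            exact ⟨hnz, hnz1⟩
          · simp only [Set.mem_insert_iff, Set.mem_singleton_iff, not_or]
            exact ⟨hnτ.symm, hzτ.symm, hnzτ.symm⟩
        rw [this] at o
        omega
    · exfalso
      by_cases ht : R.τ * R.n ∈ O
      · have hO4 : O = {R.τ, R.τ * R.n, R.τ * R.z, R.τ * (R.n * R.z)} := by
          apply Set.Subset.antisymm
          · intro y hy
            have hyP := hOP hy
            rcases h.el y hyP.1 with e | e | e | e | e | e | e | e
            · exact absurd e hyP.2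
            · simp [e]
            · exact absurd (by rw [← e]; exact hy) hn
            · exact absurd (f3 (f2 (by rw [← e]; exact hy))) hn
            · simp [e]
            · simp [e]
            · exact absurd (f3 (by rw [← e]; exact hy)) hn
            · simp [e, mul_assoc]
          · rintro y (rfl | rfl | rfl | rfl)
            · exact hO1
            · exact ht
            · exact g1 ht
            · exact g2 (g1 ht)
        have : O.ncard = 4 := by
          rw [hO4, Set.ncard_insert_of_notMem, Set.ncard_insert_of_notMem, Set.ncard_pair]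
          · intro e; exact hnz2 (mul_left_cancel e)
          · simp only [Set.mem_insert_iff, Set.mem_singleton_iff, not_or]
            exact ⟨fun e => hnz (mul_left_cancel e), fun e => hnz1 (mul_left_cancel e)⟩
          · simp only [Set.mem_insert_iff, Set.mem_singleton_iff, not_or]
            refine ⟨fun e => R.n1 (left_eq_mul.1 e), fun e => R.z1 (left_eq_mul.1 e), fun e => hnz ?_⟩
            have : R.n * R.z = 1 := left_eq_mul.1 e
            rw [← inv_eq_of_mul_eq_one_right this, e1]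
        rw [this] at o
        omega
      · apply hsz
        rw [Set.ncard_eq_one]
        refine ⟨R.τ, Set.Subset.antisymm ?_ (by rintro y rfl; exact hO1)⟩
        intro y hy
        have hyP := hOP hy
        rcases h.el y hyP.1 with e | e | e | e | e | e | e | e
        · exact absurd e hyP.2
        · exact e
        · exact absurd (by rw [← e]; exact hy) hn
        · exact absurd (f3 (f2 (by rw [← e]; exact hy))) hn
        · exact absurd (by rw [← e]; exact hy) ht
        · exact absurd (g3 (g2 (by rw [← e]; exact hy))) ht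
        · exact absurd (f3 (by rw [← e]; exact hy)) hn
        · exact absurd (g3 (by rw [← mul_assoc, ← e]; exact hy)) ht
  have hOeq := Set.Subset.antisymm hOP hall
  refine ⟨hOeq, ?_⟩
  have h7 : O.ncard = 7 := by
    have hc8 : Set.ncard (P : Set G) = 8 := by
      have := h.c
      rwa [← Nat.card_coe_set_eq] 
    have : {y | y ∈ P ∧ y ≠ 1} = (P : Set G) \ {1} := by ext y; simp
    rw [hOeq, this, Set.ncard_sdiff_singleton_of_mem (Subgroup.one_mem P), hc8]
  rw [o, h7]

/-- every Sylow 2-subgroup is conjugate to P -/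
theorem RG.PD.conj {P : Subgroup G} (h : R.PD P) (S : Sylow 2 G) : ∃ g : G, ∀ x, x ∈ S ↔ g⁻¹ * x * g ∈ P := by
  have : Fact (Nat.Prime 2) := ⟨Nat.prime_two⟩
  have hPG : IsPGroup 2 P := IsPGroup.of_card (n := 3) (by rw [h.c]; norm_num)
  obtain ⟨S0, hS0⟩ := hPG.exists_le_sylow
  have hPS : P = (S0 : Subgroup G) := Subgroup.eq_of_le_of_card_ge hS0 (by rw [h.c]; exact (R.card_syl2 S0).le)
  obtain ⟨g, hg⟩ := MulAction.exists_smul_eq G S0 S
  refine ⟨g, fun x => ?_⟩
  rw [← hg, hPS]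
  constructor
  · intro hx
    obtain ⟨s, hs, e⟩ := (Subgroup.mem_smul_pointwise_iff_exists x (MulAut.conj g) (S0 : Subgroup G)).1 hx
    have e' : g * s * g⁻¹ = x := e
    have : g⁻¹ * (g * s * g⁻¹) * g = s := by group
    rw [← e', this]; exact hs
  · intro hx
    apply (Subgroup.mem_smul_pointwise_iff_exists x (MulAut.conj g) (S0 : Subgroup G)).2
    refine ⟨_, hx, ?_⟩
    show g * (g⁻¹ * x * g) * g⁻¹ = x
    group

include R in
theorem RG.sylow_norm (hperf : commutator G = ⊤) (S : Sylow 2 G) : Subgroup.centralizer ((S : Subgroup G) : Set G) = S ∧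
    Nat.card ↥(Subgroup.normalizer ((S : Subgroup G) : Set G)) = 168 := by
  have : Fact (Nat.Prime 2) := ⟨Nat.prime_two⟩
  obtain ⟨P, h⟩ := R.exists_PD
  constructor
  · obtain ⟨g, hg⟩ := h.conj R S
    ext x
    rw [Subgroup.mem_centralizer_iff]
    constructor
    · intro hx
      show x ∈ S
      rw [hg, ← h.cP R, Subgroup.mem_centralizer_iff]
      intro y hy
      have h1 := hx (g * y * g⁻¹) ((hg _).2 (by
        have : g⁻¹ * (g * y * g⁻¹) * g = y := by group
        rw [this]; exact hy))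
      calc y * (g⁻¹ * x * g) = g⁻¹ * (g * y * g⁻¹ * x) * g := by group
        _ = _ := by rw [h1]; group
    · intro hx y hy
      have hx1 := (hg x).1 hx
      have hy1 := (hg y).1 hy
      have h1 := h.comm R hy1 hx1
      calc y * x = g * ((g⁻¹ * y * g) * (g⁻¹ * x * g)) * g⁻¹ := by group
        _ = _ := by rw [h1]; group
  · have hPG : IsPGroup 2 P := IsPGroup.of_card (n := 3) (by rw [h.c]; norm_num)
    obtain ⟨S0, hS0⟩ := hPG.exists_le_sylow
    have hPS : P = (S0 : Subgroup G) := Subgroup.eq_of_le_of_card_ge hS0 (by rw [h.c]; exact (R.card_syl2 S0).le)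
    have h1 : Nat.card (Sylow 2 G) = (Subgroup.normalizer ((S : Subgroup G) : Set G)).index := S.card_eq_index_normalizer
    have h2 : Nat.card (Sylow 2 G) = (Subgroup.normalizer ((S0 : Subgroup G) : Set G)).index := S0.card_eq_index_normalizer
    have h3 := Subgroup.card_mul_index (Subgroup.normalizer ((S : Subgroup G) : Set G))
    have h4 := Subgroup.card_mul_index (Subgroup.normalizer ((S0 : Subgroup G) : Set G))
    have h5 := (h.orbit R hperf).2
    rw [hPS] at h5
    rw [← h1] at h3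
    rw [← h2, ← h3, h5] at h4
    have hpos : 0 < Nat.card (Sylow 2 G) := Nat.card_pos
    exact (Nat.eq_of_mul_eq_mul_right hpos h4).symm

/-- all involutions are conjugate -/
theorem RG.inv_conj (hperf : commutator G = ⊤) {x : G} (h1 : x ≠ 1) (h2 : x * x = 1) : ∃ g : G, g * R.τ * g⁻¹ = x := by
  have : Fact (Nat.Prime 2) := ⟨Nat.prime_two⟩
  obtain ⟨P, h⟩ := R.exists_PD
  have hPG : IsPGroup 2 P := IsPGroup.of_card (n := 3) (by rw [h.c]; norm_num)
  obtain ⟨S0, hS0⟩ := hPG.exists_le_sylow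
  have hPS : P = (S0 : Subgroup G) := Subgroup.eq_of_le_of_card_ge hS0 (by rw [h.c]; exact (R.card_syl2 S0).le)
  have hx : IsPGroup 2 (Subgroup.zpowers x) := by
    apply IsPGroup.of_card (n := 1)
    rw [Nat.card_zpowers, pow_one]
    exact orderOf_eq_prime (by rw [pow_two]; exact h2) h1
  obtain ⟨S1, hS1⟩ := hx.exists_le_sylow
  obtain ⟨g, hg⟩ := MulAction.exists_smul_eq G S0 S1
  have hx' : g⁻¹ * x * g ∈ P := by
    have hxs : x ∈ (S1 : Subgroup G) := hS1 (Subgroup.mem_zpowers x)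
    rw [← hg] at hxs
    obtain ⟨s, hs, e⟩ := (Subgroup.mem_smul_pointwise_iff_exists x (MulAut.conj g) (S0 : Subgroup G)).1 hxs
    have e' : g * s * g⁻¹ = x := e
    rw [← e', hPS]
    have : g⁻¹ * (g * s * g⁻¹) * g = s := by group
    rw [this]; exact hs
  have hmem : g⁻¹ * x * g ∈ {y | y ∈ P ∧ y ≠ 1} := ⟨hx', fun e => h1 (by
    have : x = g * (g⁻¹ * x * g) * g⁻¹ := by group
    rw [this, e]; group)⟩
  rw [← (h.orbit R hperf).1] at hmem
  obtain ⟨k, _, e⟩ := hmem
  refine ⟨g * k, ?_⟩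
  calc g * k * R.τ * (g * k)⁻¹ = g * (k * R.τ * k⁻¹) * g⁻¹ := by group
    _ = g * (g⁻¹ * x * g) * g⁻¹ := by rw [← e]
    _ = x := by group

end CfsgLib.ReeA
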