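import Cfsg.Agent.LibRee8

set_option autoImplicit false
set_option linter.unusedSectionVars false
set_option linter.unusedVariables false
set_option linter.unusedSimpArgs false

/-! Groups of Ree type: general lemmas and the torus H -/

namespace CfsgLib.ReeA

open Matrix CfsgLib.Chev CfsgLib.Rank1 CfsgLib.SL2P

section general
variable {G : Type*} [Group G] [Finite G]

/-- p-subgroups are conjugate into subgroups of index prime to p -/
theorem conj_into {p : ℕ} [Fact p.Prime] (A : Subgroup G) (hA : ¬ p ∣ A.index) (Q : Subgroup G) (hQ : IsPGroup p Q) :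
    ∃ g : G, ∀ x ∈ Q, g * x * g⁻¹ ∈ A := by
  obtain ⟨P⟩ : Nonempty (Sylow p A) := inferInstance
  have hc : Nat.card ↥((P : Subgroup A).map A.subtype) = p ^ (Nat.card G).factorization p := by
    rw [Nat.card_congr (Subgroup.equivMapOfInjective _ _ A.subtype_injective).toEquiv.symm]
    have h1 : Nat.card (P : Subgroup A) = p ^ (Nat.card A).factorization p := P.card_eq_multiplicity
    rw [h1, ← Subgroup.card_mul_index A, Nat.factorization_mul Nat.card_pos.ne' Subgroup.index_ne_zero_of_finite,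
      Finsupp.add_apply, Nat.factorization_eq_zero_of_not_dvd hA, add_zero]
  let P' : Sylow p G := Sylow.ofCard ((P : Subgroup A).map A.subtype) hc
  obtain ⟨S, hS⟩ := hQ.exists_le_sylow
  obtain ⟨g, hg⟩ := MulAction.exists_smul_eq G P' S
  refine ⟨g⁻¹, fun x hx => ?_⟩
  have hx' : x ∈ (S : Subgroup G) := hS hx
  rw [← hg] at hx'
  obtain ⟨s, hs, e⟩ := (Subgroup.mem_smul_pointwise_iff_exists x (MulAut.conj g) (P' : Subgroup G)).1 hx'
  have e' : g * s * g⁻¹ = x := e
  have : g⁻¹ * x * g⁻¹⁻¹ = s := by rw [← e']; group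
  rw [this]
  have hs' : s ∈ (P : Subgroup A).map A.subtype := hs
  obtain ⟨a, _, rfl⟩ := hs'
  exact a.2

/-- elements of prime order are conjugate into subgroups of index prime to p -/
theorem conj_into_elt {p : ℕ} (hp : p.Prime) (A : Subgroup G) (hA : ¬ p ∣ A.index) {x : G} (hx : ∃ k, orderOf x = p ^ k) :
    ∃ g : G, g * x * g⁻¹ ∈ A := by
  have : Fact p.Prime := ⟨hp⟩
  obtain ⟨k, hk⟩ := hx
  obtain ⟨g, hg⟩ := conj_into A hA (Subgroup.zpowers x) (IsPGroup.of_card (n := k) (by rw [Nat.card_zpowers, hk]))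
  exact ⟨g, hg x (Subgroup.mem_zpowers x)⟩

/-- counting for trivial intersection sets -/
theorem ti_count (N : Subgroup G) (X : Set G) (h1 : ∀ n ∈ N, ∀ x ∈ X, n * x * n⁻¹ ∈ X)
    (h2 : ∀ g : G, ∀ x ∈ X, g * x * g⁻¹ ∈ X → g ∈ N) :
    Set.ncard {y | ∃ g : G, ∃ x ∈ X, y = g * x * g⁻¹} * Nat.card N = Nat.card G * Set.ncard X := by
  classical
  set Y := {y | ∃ g : G, ∃ x ∈ X, y = g * x * g⁻¹} with hY
  have hch : ∀ y : Y, ∃ g : G, g⁻¹ * (y : G) * g ∈ X := by
    rintro ⟨y, g, x, hx, rfl⟩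
    refine ⟨g, ?_⟩
    have : g⁻¹ * (g * x * g⁻¹) * g = x := by group
    rw [this]; exact hx
  choose c hc using hch
  have e : Nat.card (Y × N) = Nat.card (G × X) := by
    refine Nat.card_congr ⟨fun p => (c p.1 * p.2, ⟨(p.2 : G)⁻¹ * ((c p.1)⁻¹ * (p.1 : G) * c p.1) * p.2, ?_⟩),
      fun p => (⟨p.1 * p.2 * p.1⁻¹, p.1, p.2, p.2.2, rfl⟩, ⟨(c ⟨p.1 * p.2 * p.1⁻¹, p.1, p.2, p.2.2, rfl⟩)⁻¹ * p.1, ?_⟩), ?_, ?_⟩
    · have := h1 (p.2 : G)⁻¹ (Subgroup.inv_mem _ p.2.2) _ (hc p.1)
      rwa [inv_inv] at this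
    · apply h2 _ _ p.2.2
      have := hc ⟨p.1 * p.2 * p.1⁻¹, p.1, p.2, p.2.2, rfl⟩
      have e : ∀ a : G, a⁻¹ * p.1 * (p.2 : G) * (a⁻¹ * p.1)⁻¹ = a⁻¹ * (p.1 * p.2 * p.1⁻¹) * a := fun a => by group
      rw [e]; exact this
    · rintro ⟨y, n⟩
      have e1 : c y * (n : G) * ((n : G)⁻¹ * ((c y)⁻¹ * (y : G) * c y) * n) * (c y * n)⁻¹ = y := by group
      apply Prod.ext
      · exact Subtype.ext e1
      · apply Subtype.ext
        show (c ⟨c y * (n : G) * ((n : G)⁻¹ * ((c y)⁻¹ * (y : G) * c y) * n) * (c y * n)⁻¹, _⟩)⁻¹ * (c y * n) = n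
        have e2 : (⟨c y * (n : G) * ((n : G)⁻¹ * ((c y)⁻¹ * (y : G) * c y) * n) * (c y * n)⁻¹, c y * n, _, by
          have := h1 (n : G)⁻¹ (Subgroup.inv_mem _ n.2) _ (hc y)
          rwa [inv_inv] at this, rfl⟩ : Y) = y := Subtype.ext e1
        rw [e2]; group
    · rintro ⟨g, x⟩
      apply Prod.ext
      · show c _ * ((c _)⁻¹ * g) = g
        group
      · apply Subtype.ext
        show ((c _)⁻¹ * g)⁻¹ * ((c _)⁻¹ * (g * x * g⁻¹) * c _) * ((c _)⁻¹ * g) = x
        group
  rw [Nat.card_prod, Nat.card_prod] at e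
  exact e

/-- a group of odd order with a four-group acting -/
theorem odd_four {N : Subgroup G} (hN : Odd (Nat.card N)) {t s : G} (ht : t * t = 1) (hs : s * s = 1) (hts : t * s = s * t)
    (nt : ∀ x ∈ N, t * x * t ∈ N) (ns : ∀ x ∈ N, s * x * s ∈ N)
    (c1 : ∀ x ∈ N, s * x = x * s → t * x = x * t) (c2 : ∀ x ∈ N, (t * s) * x = x * (t * s) → t * x = x * t) :
    ∀ x ∈ N, t * x = x * t := by
  have hodd : ∀ x ∈ N, Odd (orderOf x) := fun x hx => Odd.of_dvd_nat hN (by
    have := orderOf_dvd_natCard (⟨x, hx⟩ : N)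
    rwa [← Subgroup.orderOf_coe] at this)
  -- unique square roots
  have hsq : ∀ x ∈ N, ∀ y ∈ N, x * x = y * y → x = y := by
    intro x hx y hy h
    obtain ⟨k, hk⟩ := hN
    have hpow : ∀ z ∈ N, z = (z * z) ^ (k + 1) := by
      intro z hz
      have h1 : z ^ Nat.card N = 1 := by
        have := pow_card_eq_one' (x := (⟨z, hz⟩ : N))
        exact congrArg Subtype.val this
      rw [hk] at h1
      calc z = z ^ (2 * k + 1) * z := by rw [h1, one_mul]
        _ = (z * z) ^ (k + 1) := by rw [← pow_two, ← pow_mul, ← pow_succ]; congr 1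
    rw [hpow x hx, hpow y hy, h]
  have hroot : ∀ x ∈ N, ∃ y ∈ N, y * y = x ∧ (∀ g : G, g * x = x * g → g * y = y * g) := by
    intro x hx
    obtain ⟨k, hk⟩ := hN
    refine ⟨x ^ (k + 1), Subgroup.pow_mem _ hx _, ?_, ?_⟩
    · have h1 : x ^ Nat.card N = 1 := by
        have := pow_card_eq_one' (x := (⟨x, hx⟩ : N))
        exact congrArg Subtype.val this
      rw [hk] at h1
      calc x ^ (k + 1) * x ^ (k + 1) = x ^ (2 * k + 1) * x := by rw [← pow_add, ← pow_succ]; congr 1; ring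
        _ = x := by rw [h1, one_mul]
    · intro g hg
      exact (Commute.pow_right hg (k + 1)).eq
  -- unique solutions of z a z = b
  have huniq : ∀ a ∈ N, ∀ z ∈ N, ∀ z' ∈ N, z * a * z = z' * a * z' → z = z' := by
    intro a ha z hz z' hz' h
    obtain ⟨c, hc, hca, _⟩ := hroot a ha
    have h1 : (c * z * c) * (c * z * c) = (c * z' * c) * (c * z' * c) := by
      calc (c * z * c) * (c * z * c) = c * (z * (c * c) * z) * c := by group
        _ = c * (z' * (c * c) * z') * c := by rw [hca, h]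
        _ = _ := by group
    have h2 := hsq _ (Subgroup.mul_mem _ (Subgroup.mul_mem _ hc hz) hc) _ (Subgroup.mul_mem _ (Subgroup.mul_mem _ hc hz') hc) h1
    exact mul_left_cancel (mul_right_cancel h2)
  have hex : ∀ a ∈ N, ∀ b ∈ N, ∃ z ∈ N, z * a * z = b := by
    intro a ha b hb
    obtain ⟨c, hc, hca, _⟩ := hroot a ha
    obtain ⟨d, hd, hdd, _⟩ := hroot (c * b * c) (Subgroup.mul_mem _ (Subgroup.mul_mem _ hc hb) hc)
    refine ⟨c⁻¹ * d * c⁻¹, Subgroup.mul_mem _ (Subgroup.mul_mem _ (Subgroup.inv_mem _ hc) hd) (Subgroup.inv_mem _ hc), ?_⟩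
    calc c⁻¹ * d * c⁻¹ * a * (c⁻¹ * d * c⁻¹) = c⁻¹ * d * c⁻¹ * (c * c) * (c⁻¹ * d * c⁻¹) := by rw [hca]
      _ = c⁻¹ * (d * d) * c⁻¹ := by group
      _ = b := by rw [hdd]; group
  have hti : t⁻¹ = t := inv_eq_of_mul_eq_one_right ht
  have hsi : s⁻¹ = s := inv_eq_of_mul_eq_one_right hs
  have tmul : ∀ a b : G, t * (a * b) * t = (t * a * t) * (t * b * t) := by
    intro a b
    calc t * (a * b) * t = t * a * (t * t) * b * t := by rw [ht]; group
      _ = _ := by group
  have smul : ∀ a b : G, s * (a * b) * s = (s * a * s) * (s * b * s) := by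
    intro a b
    calc s * (a * b) * s = s * a * (s * s) * b * s := by rw [hs]; group
      _ = _ := by group
  have sinv : ∀ a : G, s * a⁻¹ * s = (s * a * s)⁻¹ := by
    intro a; rw [_root_.mul_inv_rev, _root_.mul_inv_rev, hsi]; group
  have tinv : ∀ a : G, t * a⁻¹ * t = (t * a * t)⁻¹ := by
    intro a; rw [_root_.mul_inv_rev, _root_.mul_inv_rev, hti]; group
  have ss : ∀ a : G, s * (s * a * s) * s = a := by
    intro a
    calc s * (s * a * s) * s = (s * s) * a * (s * s) := by group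
      _ = a := by rw [hs]; group
  have hfix : ∀ a : G, t * a * t = a → t * a = a * t := by
    intro a h
    calc t * a = t * a * (t * t) := by rw [ht, mul_one]
      _ = (t * a * t) * t := by group
      _ = a * t := by rw [h]
  have hfixs : ∀ a : G, s * a * s = a → s * a = a * s := by
    intro a h
    calc s * a = s * a * (s * s) := by rw [hs, mul_one]
      _ = (s * a * s) * s := by group
      _ = a * s := by rw [h]
  -- inverted elements are trivial
  have hinv : ∀ y ∈ N, t * y * t = y⁻¹ → y = 1 := by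
    intro y hy hty
    obtain ⟨z, hz, hzy⟩ := hex y⁻¹ (Subgroup.inv_mem _ hy) (s * y * s) (ns y hy)
    -- s z s = z
    have h1 : z * (s * y * s)⁻¹ * z = y := by
      rw [← hzy]; group
    have h2 : (s * z * s) * (s * y * s)⁻¹ * (s * z * s) = y := by
      calc (s * z * s) * (s * y * s)⁻¹ * (s * z * s) = s * (z * y⁻¹ * z) * s := by rw [smul, smul, sinv]
        _ = y := by rw [hzy, ss]
    have h3 : s * z * s = z := huniq _ (Subgroup.inv_mem _ (ns y hy)) _ (ns z hz) _ hz (by rw [h1, h2])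
    have h4 : t * z = z * t := c1 z hz (hfixs z h3)
    have h5 : t * z * t = z := by rw [h4, mul_assoc, ht, mul_one]
    -- z y z = (s y s)⁻¹
    have h6 : z * y * z = (s * y * s)⁻¹ := by
      have e : t * (z * y⁻¹ * z) * t = z * y * z := by
        rw [tmul, tmul, h5, tinv, hty, inv_inv]
      rw [← e, hzy]
      have e2 : t * (s * y * s) * t = s * (t * y * t) * s := by
        calc t * (s * y * s) * t = (t * s) * y * (s * t) := by group
          _ = (s * t) * y * (t * s) := by rw [hts]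
          _ = _ := by group
      rw [e2, hty, sinv]
    have h7 : z⁻¹ * y * z⁻¹ = (s * y * s)⁻¹ := by rw [← hzy]; group
    have h8 : z = z⁻¹ := huniq y hy z hz z⁻¹ (Subgroup.inv_mem _ hz) (by rw [h6, h7])
    have h9 : z = 1 := hsq z hz 1 (Subgroup.one_mem _) (by nth_rewrite 2 [h8]; simp)
    rw [h9, one_mul, mul_one] at hzy
    have h10 : (t * s) * y = y * (t * s) := by
      have e1 : s * y = y⁻¹ * s := by
        calc s * y = s * y * (s * s) := by rw [hs, mul_one]
          _ = (s * y * s) * s := by group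
          _ = _ := by rw [← hzy]
      have e2 : t * y⁻¹ = y * t := by
        calc t * y⁻¹ = t * y⁻¹ * (t * t) := by rw [ht, mul_one]
          _ = (t * y⁻¹ * t) * t := by group
          _ = _ := by rw [tinv, hty, inv_inv]
      calc t * s * y = t * (s * y) := by group
        _ = (t * y⁻¹) * s := by rw [e1]; group
        _ = _ := by rw [e2]; group
    have h11 := c2 y hy h10
    have h12 : y = y⁻¹ := by
      rw [← hty, h11, mul_assoc, ht, mul_one]
    exact hsq y hy 1 (Subgroup.one_mem _) (by nth_rewrite 2 [h12]; simp)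
  intro x hx
  have h1 : x⁻¹ * (t * x * t) = 1 := by
    apply hinv _ (Subgroup.mul_mem _ (Subgroup.inv_mem _ hx) (nt x hx))
    have e : t * (t * x * t) * t = x := by
      calc t * (t * x * t) * t = (t * t) * x * (t * t) := by group
        _ = x := by rw [ht]; group
    rw [tmul, tinv, e]; group
  have h2 : t * x * t = x := (inv_mul_eq_one.1 h1).symm
  exact hfix x h2

end general

variable {G : Type*} [Group G] [Finite G] {K : Type*} [Field K] [Fintype K] {m : ℕ} (R : RG G K m)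

theorem RG.ninv' {h : G} (hh : h ∈ R.H) : R.n⁻¹ * h * R.n = h⁻¹ := by
  have e1 : R.n⁻¹ = R.n := (inv_eq_of_mul_eq_one_right R.n2)
  have := R.ninv h hh
  rw [e1] at this ⊢
  exact this

theorem RG.Hcomm {a b : G} (ha : a ∈ R.H) (hb : b ∈ R.H) : a * b = b * a := by
  have hc := R.Hc
  have := IsCyclic.commGroup (α := ↥R.H)
  exact congrArg Subtype.val (mul_comm' (⟨a, ha⟩ : R.H) ⟨b, hb⟩)

theorem RG.UH_split {u u' h h' : G} (hu : u ∈ R.U) (hu' : u' ∈ R.U) (hh : h ∈ R.H) (hh' : h' ∈ R.H) (e : u * h = u' * h') : u = u' ∧ h = h' := by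
  have h1 : u'⁻¹ * u ∈ R.U ⊓ R.H := by
    refine ⟨Subgroup.mul_mem _ (Subgroup.inv_mem _ hu') hu, ?_⟩
    have : u'⁻¹ * u = h' * h⁻¹ := by
      calc u'⁻¹ * u = u'⁻¹ * (u * h) * h⁻¹ := by group
        _ = _ := by rw [e]; group
    rw [this]; exact Subgroup.mul_mem _ hh' (Subgroup.inv_mem _ hh)
  rw [R.S.UH, Subgroup.mem_bot] at h1
  have h2 : u = u' := (inv_mul_eq_one.1 h1).symm
  refine ⟨h2, ?_⟩
  rw [h2] at e
  exact mul_left_cancel e

/-- elements of H conjugated into H -/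
theorem RG.H_conj {h c : G} (hh : h ∈ R.H) (h1 : h ≠ 1) (h2 : h ≠ R.τ) (hc : c * h * c⁻¹ ∈ R.H) : c ∈ R.H ∨ R.n * c ∈ R.H := by
  have hn2 := R.n2
  have e1 : R.n⁻¹ = R.n := (inv_eq_of_mul_eq_one_right R.n2)
  -- the case of B
  have key : ∀ b ∈ R.B, ∀ k ∈ R.H, k ≠ 1 → k ≠ R.τ → b * k * b⁻¹ ∈ R.H → b ∈ R.H := by
    intro b hb k hk k1 k2 hbk
    obtain ⟨u, hu, k', hk', rfl⟩ := R.BUH b hb
    have e : u * k' * k * (u * k')⁻¹ = u * k * u⁻¹ := by
      have := R.Hcomm hk' hk
      calc u * k' * k * (u * k')⁻¹ = u * (k' * k) * k'⁻¹ * u⁻¹ := by group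
        _ = u * (k * k') * k'⁻¹ * u⁻¹ := by rw [this]
        _ = _ := by group
    rw [e] at hbk
    have h3 : (u * (k * u⁻¹ * k⁻¹)) ∈ R.U ⊓ R.H := by
      refine ⟨Subgroup.mul_mem _ hu (R.S.HU k hk _ (Subgroup.inv_mem _ hu)), ?_⟩
      have : u * (k * u⁻¹ * k⁻¹) = (u * k * u⁻¹) * k⁻¹ := by group
      rw [this]; exact Subgroup.mul_mem _ hbk (Subgroup.inv_mem _ hk)
    rw [R.S.UH, Subgroup.mem_bot] at h3
    have h4 : k * u = u * k := by
      have h5 : u = (k * u⁻¹ * k⁻¹)⁻¹ := mul_eq_one_iff_eq_inv.1 h3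
      have h6 : (k * u⁻¹ * k⁻¹)⁻¹ = k * u * k⁻¹ := by group
      rw [h6] at h5
      exact (mul_inv_eq_iff_eq_mul.1 h5.symm)
    by_cases hu1 : u = 1
    · rw [hu1, one_mul]; exact hk'
    · rcases R.free k hk u hu hu1 h4 with h | h
      · exact absurd h k1
      · exact absurd h k2
  by_cases hB : c ∈ R.B
  · left; exact key c hB h hh h1 h2 hc
  · right
    obtain ⟨u, hu, b, hb, rfl⟩ := R.S.cell c hB
    set h' := u * R.n * b * h * (u * R.n * b)⁻¹ with hh'
    have e : u * R.n * (b * h) = (h' * u * h'⁻¹) * R.n * (h'⁻¹ * b) := by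
      have h3 : h' * R.n = R.n * h'⁻¹ := by
        have := R.ninv' hc
        calc h' * R.n = R.n * (R.n⁻¹ * h' * R.n) := by group
          _ = _ := by rw [this]
      calc u * R.n * (b * h) = h' * (u * R.n * b) := by rw [hh']; group
        _ = (h' * u * h'⁻¹) * (h' * R.n) * b := by group
        _ = _ := by rw [h3]; group
    obtain ⟨f1, f2⟩ := R.S.uniq hu (R.S.HU h' hc u hu) (Subgroup.mul_mem _ hb (R.S.HB hh)) (Subgroup.mul_mem _ (R.S.HB (Subgroup.inv_mem _ hc)) hb) e
    have hh1 : h' ≠ 1 := by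
      intro h3
      apply h1
      have : h = (u * R.n * b)⁻¹ * h' * (u * R.n * b) := by rw [hh']; group
      rw [this, h3]; group
    have hhτ : h' ≠ R.τ := by
      intro h3
      apply h2
      apply R.unique_inv hh h1
      have : h = (u * R.n * b)⁻¹ * h' * (u * R.n * b) := by rw [hh']; group
      have h4 : h * h = (u * R.n * b)⁻¹ * (h' * h') * (u * R.n * b) := by
        calc h * h = ((u * R.n * b)⁻¹ * h' * (u * R.n * b)) * ((u * R.n * b)⁻¹ * h' * (u * R.n * b)) := by rw [← this]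
          _ = _ := by group
      rw [h4, h3, R.τ2]; group
    have hu1 : u = 1 := by
      by_contra hu1
      rcases R.free h' hc u hu hu1 (mul_inv_eq_iff_eq_mul.1 f1.symm) with h | h
      · exact hh1 h
      · exact hhτ h
    have hb' : b ∈ R.H := by
      apply key b hb h hh h1 h2
      have : b * h * b⁻¹ = h'⁻¹ := by rw [f2]; group
      rw [this]; exact Subgroup.inv_mem _ hc
    have : R.n * (u * R.n * b) = b := by rw [hu1, one_mul, ← mul_assoc, hn2, one_mul]
    rw [this]; exact hb'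

/-- centralisers of elements of H -/
theorem RG.cent_H {h : G} (hh : h ∈ R.H) (h1 : h ≠ 1) (h2 : h ≠ R.τ) : Subgroup.centralizer {h} = R.H := by
  ext c
  rw [Subgroup.mem_centralizer_singleton_iff]
  constructor
  · intro hc
    have hc' : c * h * c⁻¹ = h := mul_inv_eq_iff_eq_mul.2 hc
    rcases R.H_conj hh h1 h2 (by rw [hc']; exact hh) with h3 | h3
    · exact h3
    · exfalso
      -- n c ∈ H, so c inverts h
      have h4 := R.Hcomm h3 hh
      have h5 : R.n * h * R.n⁻¹ = h := by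
        calc R.n * h * R.n⁻¹ = R.n * (c * h * c⁻¹) * R.n⁻¹ := by rw [hc']
          _ = (R.n * c) * h * (R.n * c)⁻¹ := by group
          _ = h := by rw [h4]; group
      rw [R.ninv h hh] at h5
      apply h2
      apply R.unique_inv hh h1
      nth_rewrite 1 [← h5]
      group
  · intro hc; exact R.Hcomm hc hh

include R in
theorem RG.q_ge (hm : 1 ≤ m) : 27 ≤ 3 ^ (2 * m + 1) := by
  calc 27 = 3 ^ (2 * 1 + 1) := by norm_num
    _ ≤ 3 ^ (2 * m + 1) := Nat.pow_le_pow_right (by norm_num) (by omega)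

theorem RG.exists_h (hm : 1 ≤ m) : ∃ h ∈ R.H, h ≠ 1 ∧ h ≠ R.τ := by
  by_contra hcon
  push_neg at hcon
  have h1 : (R.H : Set G) ⊆ {1, R.τ} := by
    intro h hh
    by_cases h1 : h = 1
    · simp [h1]
    · simp [hcon h hh h1]
  have h2 := Set.ncard_le_ncard h1
  have h3 : Set.ncard (R.H : Set G) = 3 ^ (2 * m + 1) - 1 := R.cH
  have h4 : Set.ncard ({1, R.τ} : Set G) ≤ 2 := (Set.ncard_insert_le _ _).trans (by rw [Set.ncard_singleton])
  have := R.q_ge hm
  omega

theorem RG.norm_H_mem (hm : 1 ≤ m) {g : G} : g ∈ Subgroup.normalizer (R.H : Set G) ↔ g ∈ R.H ∨ R.n * g ∈ R.H := by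
  constructor
  · intro hg
    obtain ⟨h, hh, h1, h2⟩ := R.exists_h hm
    exact R.H_conj hh h1 h2 ((Subgroup.mem_normalizer_iff.1 hg h).1 hh)
  · intro hg
    have hn : R.n ∈ Subgroup.normalizer (R.H : Set G) := by
      rw [Subgroup.mem_normalizer_iff]
      intro h
      constructor
      · intro hh; rw [R.ninv h hh]; exact Subgroup.inv_mem _ hh
      · intro hh
        have h1 := R.ninv _ hh
        have e1 : R.n⁻¹ = R.n := (inv_eq_of_mul_eq_one_right R.n2)
        have h2 : R.n * (R.n * h * R.n⁻¹) * R.n⁻¹ = h := by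
          rw [e1]
          calc R.n * (R.n * h * R.n) * R.n = (R.n * R.n) * h * (R.n * R.n) := by group
            _ = h := by rw [R.n2]; group
        rw [h2] at h1
        rw [h1]; exact Subgroup.inv_mem _ hh
    rcases hg with hg | hg
    · exact Subgroup.le_normalizer hg
    · have : g = R.n⁻¹ * (R.n * g) := by group
      rw [this]
      exact Subgroup.mul_mem _ (Subgroup.inv_mem _ hn) (Subgroup.le_normalizer hg)

theorem RG.n_notH : R.n ∉ R.H := fun h => R.S.nB (R.S.HB h)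

theorem RG.card_NH (hm : 1 ≤ m) : Nat.card ↥(Subgroup.normalizer (R.H : Set G)) = 2 * (3 ^ (2 * m + 1) - 1) := by
  have h1 : (Subgroup.normalizer (R.H : Set G) : Set G) = (R.H : Set G) ∪ (fun x => R.n * x) '' (R.H : Set G) := by
    ext g
    rw [SetLike.mem_coe, R.norm_H_mem hm]
    constructor
    · rintro (h | h)
      · exact Or.inl h
      · right
        refine ⟨R.n * g, h, ?_⟩
        show R.n * (R.n * g) = g
        rw [← mul_assoc, R.n2, one_mul]
    · rintro (h | ⟨x, hx, rfl⟩)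
      · exact Or.inl h
      · right
        show R.n * (R.n * x) ∈ R.H
        rw [← mul_assoc, R.n2, one_mul]; exact hx
  have h2 : Disjoint (R.H : Set G) ((fun x => R.n * x) '' (R.H : Set G)) := by
    rw [Set.disjoint_left]
    rintro x hx ⟨y, hy, rfl⟩
    apply R.n_notH
    have : R.n = (R.n * y) * y⁻¹ := by group
    rw [this]; exact Subgroup.mul_mem _ hx (Subgroup.inv_mem _ hy)
  have h3 : Nat.card ↥(Subgroup.normalizer (R.H : Set G)) = Set.ncard (Subgroup.normalizer (R.H : Set G) : Set G) := rfl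
  have h4 : Set.ncard (R.H : Set G) = 3 ^ (2 * m + 1) - 1 := R.cH
  rw [h3, h1, Set.ncard_union_eq h2, Set.ncard_image_of_injective _ (mul_right_injective R.n), h4]
  ring

/-- elements of prime order dividing (q-1)/2 -/
theorem RG.into_H {s : ℕ} (hs : s.Prime) (h2 : s ≠ 2) (hd : s ∣ 3 ^ (2 * m + 1) - 1) {x : G} (hx : ∃ k, orderOf x = s ^ k) :
    ∃ g : G, g * x * g⁻¹ ∈ R.H := by
  apply conj_into_elt hs R.H _ hx
  intro hi
  have h1 := Subgroup.card_mul_index R.H
  rw [R.cH, R.cG] at h1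
  have hq : 1 ≤ 3 ^ (2 * m + 1) := Nat.one_le_pow _ _ (by norm_num)
  set q := 3 ^ (2 * m + 1) with hqd
  have hq3 : 3 ≤ q := by
    calc 3 = 3 ^ 1 := by norm_num
      _ ≤ 3 ^ (2 * m + 1) := Nat.pow_le_pow_right (by norm_num) (by omega)
  have h3 : R.H.index = q ^ 3 * (q ^ 3 + 1) := by
    apply Nat.eq_of_mul_eq_mul_left (show 0 < q - 1 by omega)
    rw [h1]; ring
  rw [h3] at hi
  have hcop : ∀ c, s ∣ q ^ c → False := by
    intro c hc
    have h4 : s ∣ q := hs.dvd_of_dvd_pow hc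
    have h5 := (Nat.dvd_sub h4 hd)
    have h6 : q - (q - 1) = 1 := by omega
    rw [h6] at h5
    exact hs.one_lt.ne' (Nat.dvd_one.1 h5)
  rcases (Nat.Prime.dvd_mul hs).1 hi with h4 | h4
  · exact hcop 3 h4
  · obtain ⟨k, hk⟩ : q - 1 ∣ q ^ 3 - 1 := by
      have := Nat.sub_dvd_pow_sub_pow q 1 3
      simpa using this
    have h5 : s ∣ q ^ 3 - 1 := hd.trans ⟨k, hk⟩
    have h6 := Nat.dvd_sub h4 h5
    have h7 : q ^ 3 + 1 - (q ^ 3 - 1) = 2 := by
      have : 1 ≤ q ^ 3 := Nat.one_le_pow _ _ hq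
      omega
    rw [h7] at h6
    exact h2 ((Nat.prime_dvd_prime_iff_eq hs Nat.prime_two).1 h6)

end CfsgLib.ReeA
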