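import Cfsg.Agent.LibRee6
import Cfsg.Agent.LibRee8

set_option autoImplicit false
set_option linter.unusedSectionVars false
set_option linter.unusedVariables false

/-! The small Ree groups: main interface to the abstract data -/

namespace CfsgLib.ReeA

open Cfsg.Lie CfsgLib.Chev
open scoped commutatorElement

theorem comm_top {G : Type*} [Group G] (h : IsSimpleGroup G) (h2 : ¬ IsMulCommutative G) : commutator G = ⊤ := by
  rcases h.eq_bot_or_eq_top_of_normal (commutator G) inferInstance with h1 | h1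
  · exfalso
    apply h2
    constructor; constructor
    intro a b
    have : ⁅a, b⁆ ∈ commutator G := Subgroup.commutator_mem_commutator (Subgroup.mem_top a) (Subgroup.mem_top b)
    rw [h1, Subgroup.mem_bot, commutatorElement_eq_one_iff_mul_comm] at this
    exact this
  · exact h1

theorem exists_RGm {K : Type*} [Field K] [Fintype K] {m : ℕ} (hm : 1 ≤ m) (hK : Fintype.card K = 3 ^ (2 * m + 1)) :
    ∃ R : RG ↥(twistedG2 K (3 ^ m)) K m,
    R.B = (chevG2.borelSubgroup K ⊓ twistedG2 K (3 ^ m)).subgroupOf (twistedG2 K (3 ^ m)) ∧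
    R.U = (chevG2.posUnipotent K ⊓ twistedG2 K (3 ^ m)).subgroupOf (twistedG2 K (3 ^ m)) ∧
    R.H = (chevG2.diagonalSubgroup K ⊓ twistedG2 K (3 ^ m)).subgroupOf (twistedG2 K (3 ^ m)) ∧
    commutator ↥(twistedG2 K (3 ^ m)) = ⊤ ∧ IsSimpleGroup ↥(twistedG2 K (3 ^ m)) := by
  have : Fact (Nat.Prime 3) := ⟨Nat.prime_three⟩
  have : CharP K 3 := charP_of_card Nat.prime_three hK
  obtain ⟨f, hf⟩ := exists_frobp K 3 m
  obtain ⟨R, h1, h2, h3⟩ := TwG2.exists_RG hf hK
  obtain ⟨hs, hc⟩ := TwG2.simple hf hK hm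
  exact ⟨R, h1, h2, h3, comm_top hs hc, hs⟩

end CfsgLib.ReeA
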