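import Cfsg.Agent.EqBase
import Cfsg.Agent.LibBlockIdem
import Cfsg.Agent.LibNpc9
import Cfsg.Agent.LibDZ19
import Cfsg.Agent.S0961
/-!
# Counting p-regular elements, the size of the principal block (helper19)
-/
set_option autoImplicit false
set_option linter.all false
open Cfsg CfsgLib.CharBasic
open scoped ComplexConjugate
namespace CfsgLib.Reg19

universe u v
variable {G : Type u} [Group G] [Finite G]

/-- the centralizer of a Sylow subgroup has a normal `p`-complement -/
theorem centralizer_sylow_npc {p : ℕ} [hp : Fact p.Prime] (P : Sylow p G) :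
    HasNormalPComplement p (Subgroup.centralizer ((P : Subgroup G) : Set G)) := by
  obtain ⟨Q⟩ : Nonempty (Sylow p (Subgroup.centralizer ((P : Subgroup G) : Set G))) := inferInstance
  have hQP : (Q : Subgroup _).map (Subgroup.centralizer ((P : Subgroup G) : Set G)).subtype ≤ (P : Subgroup G) := by
    have h1 : IsPGroup p ((Q : Subgroup _).map (Subgroup.centralizer ((P : Subgroup G) : Set G)).subtype) := Q.isPGroup'.map _
    have h2 : (Q : Subgroup _).map (Subgroup.centralizer ((P : Subgroup G) : Set G)).subtype ≤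
        Subgroup.normalizer ((P : Subgroup G) : Set G) := by
      rintro _ ⟨y, -, rfl⟩
      exact Subgroup.centralizer_le_normalizer _ y.2
    have h3 := IsPGroup.to_sup_of_normal_right' h1 P.isPGroup' h2
    have h4 := P.is_maximal' h3 le_sup_right
    exact le_sup_left.trans h4.le
  apply CfsgLib.Npc9.hnpc_of_central Q
  intro x _
  rw [Subgroup.mem_centralizer_iff]
  intro y hy
  apply Subtype.ext
  exact (Subgroup.mem_centralizer_iff.1 x.2) y (hQP ⟨y, hy, rfl⟩)

/-- the number of `p`-regular elements is prime to `p` -/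
theorem not_dvd_card_reg (p : ℕ) [hp : Fact p.Prime] : ¬ p ∣ Nat.card {x : G // ¬ p ∣ orderOf x} := by
  obtain ⟨P⟩ : Nonempty (Sylow p G) := inferInstance
  letI act : MulAction (P : Subgroup G) {x : G // ¬ p ∣ orderOf x} :=
    { smul := fun y r => ⟨(y : G) * r * (y : G)⁻¹, by
        have : orderOf ((y : G) * r * (y : G)⁻¹) = orderOf (r : G) := MulEquiv.orderOf_eq (MulAut.conj (y : G)) r
        rw [this]; exact r.2⟩
      one_smul := fun r => Subtype.ext (by change (1 : G) * r * (1 : G)⁻¹ = r; simp)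
      mul_smul := fun y z r => Subtype.ext (by
        change ((y : G) * z) * r * ((y : G) * z)⁻¹ = y * (z * r * (z : G)⁻¹) * (y : G)⁻¹
        group) }
  have hsm : ∀ (y : (P : Subgroup G)) (r : {x : G // ¬ p ∣ orderOf x}), ((y • r : {x : G // ¬ p ∣ orderOf x}) : G) = y * r * (y : G)⁻¹ :=
    fun y r => rfl
  have h1 := P.isPGroup'.card_modEq_card_fixedPoints {x : G // ¬ p ∣ orderOf x}
  intro hd
  set C := Subgroup.centralizer ((P : Subgroup G) : Set G) with hC
  have hnpc := centralizer_sylow_npc P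
  have h2 : Nat.card (MulAction.fixedPoints (P : Subgroup G) {x : G // ¬ p ∣ orderOf x}) = Nat.card (pPrimeCore p C) := by
    have hmem : ∀ r : {x : G // ¬ p ∣ orderOf x}, r ∈ MulAction.fixedPoints (P : Subgroup G) {x : G // ¬ p ∣ orderOf x} ↔ (r : G) ∈ C := by
      intro r
      rw [MulAction.mem_fixedPoints, hC, Subgroup.mem_centralizer_iff]
      constructor
      · intro h y hy
        have := congrArg Subtype.val (h ⟨y, hy⟩)
        rw [hsm] at this
        change y * r * y⁻¹ = r at this
        calc y * (r : G) = (y * r * y⁻¹) * y := by group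
          _ = r * y := by rw [this]
      · intro h y
        apply Subtype.ext
        rw [hsm, h y y.2]; group
    have hcop := CfsgLib.Cores.pPrimeCore_coprime (G := C) p
    apply Nat.card_congr
    refine ⟨fun r => ⟨⟨r.1.1, (hmem r.1).1 r.2⟩, ?_⟩, fun k => ⟨⟨(k.1 : G), ?_⟩, ?_⟩, ?_, ?_⟩
    · apply CfsgLib.Npc9.mem_pPrimeCore_of_coprime hnpc
      rw [Subgroup.orderOf_mk]
      exact ((Nat.Prime.coprime_iff_not_dvd hp.out).2 r.1.2).symm
    · intro hpd
      have h3 : orderOf (k.1 : G) ∣ Nat.card (pPrimeCore p C) := by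
        rw [Subgroup.orderOf_coe, Subgroup.orderOf_coe]
        exact orderOf_dvd_natCard k
      have h4 := Nat.dvd_gcd (hpd.trans h3) (dvd_refl p)
      rw [hcop] at h4
      exact hp.out.one_lt.ne' (Nat.dvd_one.1 h4)
    · exact (hmem _).2 k.1.2
    · intro r; rfl
    · intro k; rfl
  rw [h2] at h1
  have h3 : Nat.card (pPrimeCore p C) % p = 0 := by
    have h4 : Nat.card {x : G // ¬ p ∣ orderOf x} % p = Nat.card (pPrimeCore p C) % p := h1
    rw [← h4]; exact Nat.mod_eq_zero_of_dvd hd
  have h5 := Nat.dvd_gcd (Nat.dvd_of_mod_eq_zero h3) (dvd_refl p)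
  have hcop := CfsgLib.Cores.pPrimeCore_coprime (G := C) p
  rw [hcop] at h5
  exact hp.out.one_lt.ne' (Nat.dvd_one.1 h5)

/-- the `p`-regular indicator -/
noncomputable def rind (p : ℕ) (x : G) : ℂ := if p ∣ orderOf x then 0 else 1

theorem rind_classFun (p : ℕ) : IsClassFunction G (rind (G := G) p) := by
  intro g h
  unfold rind
  rw [show orderOf (h * g * h⁻¹) = orderOf g from MulEquiv.orderOf_eq (MulAut.conj h) g]

/-- the sum over the `p`-regular elements of a character in the principal block is nonzero -/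
theorem sum_reg_ne_zero {p : ℕ} [hp : Fact p.Prime] {M : Ideal AlgInt} (hM : IsPModular p M) [Fintype G]
    {χ : IrrCharacter G} (hχ : χ ∈ principalBlock M G) :
    ∑ x : G, rind p x * (χ : G → ℂ) x ≠ 0 := by
  classical
  have hMp := CfsgLib.BlockR.isPrime_of_modular hM
  let v : IrrCharacter G → ℂ := fun χ => CfsgLib.BlockCore.omg (χ : G → ℂ) (rind p)
  have hfou : CfsgLib.BlockCore.fou v = rind p := CfsgLib.BlockCore.fou_omg (rind_classFun p)
  have hAR : CfsgLib.BlockIdem.AR M v := by
    intro g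
    rw [hfou]
    unfold rind
    split_ifs
    · exact CfsgLib.BlockR.ring_zero hMp
    · exact CfsgLib.BlockR.ring_one hMp
  let e : IrrCharacter G := ⟨fun _ => 1, isIrrCharacter_one⟩
  have h1 := CfsgLib.BlockIdem.sameBlock_val hMp hAR (χ := e) (ψ := χ) hχ
  have h2 : v e = (Nat.card {x : G // ¬ p ∣ orderOf x} : ℂ) := by
    have : v e = (∑ x : G, rind p x * 1) / 1 := rfl
    rw [this]
    simp only [mul_one, div_one]
    unfold rind
    have h3 : ∀ x : G, (if p ∣ orderOf x then (0 : ℂ) else 1) = if ¬ p ∣ orderOf x then 1 else 0 := by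
      intro x; split_ifs <;> simp_all
    rw [Finset.sum_congr rfl fun x _ => h3 x, Finset.sum_boole, Nat.card_eq_fintype_card, Fintype.card_subtype]
  intro h0
  have h3 : v χ = 0 := by
    have : v χ = (∑ x : G, rind p x * (χ : G → ℂ) x) / (χ : G → ℂ) 1 := rfl
    rw [this, h0, zero_div]
  rw [h3, sub_zero, h2] at h1
  exact not_dvd_card_reg (G := G) p ((CfsgLib.BlockR.ideal_nat_iff hM).1 h1)

/-- the principal block has at most `|G|_p ^ 2` members -/
theorem card_principalBlock_le {p : ℕ} [hp : Fact p.Prime] {M : Ideal AlgInt} (hM : IsPModular p M) :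
    Nat.card (principalBlock M G) ≤ (p ^ (Nat.card G).factorization p) ^ 2 := by
  classical
  haveI : Fintype G := Fintype.ofFinite G
  set q : ℕ := p ^ (Nat.card G).factorization p with hq
  have hθ := Cfsg.Agent.S0961.result p (⟨fun _ => 1, isIrrCharacter_one⟩ : IrrCharacter G)
  set θ : G → ℂ := fun x : G => if p ∣ orderOf x then 0 else ((p ^ (Nat.card G).factorization p : ℕ) : ℂ) * ((⟨fun _ => 1, isIrrCharacter_one⟩ : IrrCharacter G) : G → ℂ) x with hθd
  have hθ' : ∀ x, θ x = q * rind p x := by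
    intro x
    simp only [hθd, rind]
    split_ifs <;> simp [hq]
  obtain ⟨m, hm1, hm2, hm3⟩ := gen_expand hθ
  have hGc : (Nat.card G : ℂ) ≠ 0 := by exact_mod_cast Nat.card_pos.ne'
  have hqc : (q : ℂ) ≠ 0 := by exact_mod_cast (pow_pos hp.out.pos _).ne'
  have hmne : ∀ χ ∈ principalBlock M G, m χ ≠ 0 := by
    intro χ hχ h0
    have h1 := hm1 χ
    rw [h0] at h1
    unfold classInner at h1
    have h2 : ∑ g : G, θ g * (starRingEnd ℂ) ((χ : G → ℂ) g) = q * conj (∑ x : G, rind p x * (χ : G → ℂ) x) := by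
      rw [map_sum, Finset.mul_sum]
      refine Finset.sum_congr rfl fun x _ => ?_
      rw [hθ' x, map_mul]
      have : conj (rind p x : ℂ) = rind p x := by unfold rind; split_ifs <;> simp
      rw [this]; ring
    rw [h2] at h1
    have h3 := sum_reg_ne_zero hM hχ
    simp only [Int.cast_zero, mul_eq_zero, inv_eq_zero, map_eq_zero] at h1
    rcases h1 with h | h | h
    · exact hGc h
    · exact hqc h
    · exact h3 h
  have hnorm : (∑ χ : IrrCharacter G, (m χ) ^ 2 : ℤ) ≤ (q : ℤ) ^ 2 := by
    have h1 : ((∑ χ : IrrCharacter G, (m χ) ^ 2 : ℤ) : ℂ) = classInner θ θ := by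
      rw [hm3]; push_cast; rfl
    have h2 : classInner θ θ = (q : ℂ) ^ 2 * ((Nat.card {x : G // ¬ p ∣ orderOf x} : ℂ) / Nat.card G) := by
      unfold classInner
      have h3 : ∑ g : G, θ g * (starRingEnd ℂ) (θ g) = (q : ℂ) ^ 2 * Nat.card {x : G // ¬ p ∣ orderOf x} := by
        rw [Nat.card_eq_fintype_card, Fintype.card_subtype, Finset.card_filter]
        push_cast
        rw [Finset.mul_sum]
        refine Finset.sum_congr rfl fun x _ => ?_
        rw [hθ' x]
        unfold rind
        split_ifs with h <;> simp [sq, h]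
      rw [h3]; field_simp
    have h4 : Nat.card {x : G // ¬ p ∣ orderOf x} ≤ Nat.card G := Nat.card_le_card_of_injective _ Subtype.val_injective
    rw [h2] at h1
    have h5 : (∑ χ : IrrCharacter G, (m χ) ^ 2 : ℤ) * (Nat.card G : ℤ) = (q : ℤ) ^ 2 * (Nat.card {x : G // ¬ p ∣ orderOf x} : ℤ) := by
      have : ((∑ χ : IrrCharacter G, (m χ) ^ 2 : ℤ) : ℂ) * (Nat.card G : ℂ) = (q : ℂ) ^ 2 * (Nat.card {x : G // ¬ p ∣ orderOf x} : ℂ) := by
        rw [h1]; field_simp
      exact_mod_cast this
    have h6 : (0 : ℤ) < Nat.card G := by exact_mod_cast Nat.card_pos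
    have h7 : (∑ χ : IrrCharacter G, (m χ) ^ 2 : ℤ) * (Nat.card G : ℤ) ≤ (q : ℤ) ^ 2 * (Nat.card G : ℤ) := by
      rw [h5]
      gcongr
    exact le_of_mul_le_mul_right h7 h6
  have hcard : (Nat.card (principalBlock M G) : ℤ) ≤ ∑ χ : IrrCharacter G, (m χ) ^ 2 := by
    rw [Nat.card_eq_fintype_card, ← Set.toFinset_card]
    rw [Finset.card_eq_sum_ones]
    push_cast
    calc ∑ x ∈ (principalBlock M G).toFinset, (1 : ℤ) ≤ ∑ x ∈ (principalBlock M G).toFinset, (m x) ^ 2 := by
          apply Finset.sum_le_sum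
          intro χ hχ
          have := hmne χ (Set.mem_toFinset.1 hχ)
          have h1 : 0 < (m χ) ^ 2 := by positivity
          omega
      _ ≤ _ := Finset.sum_le_sum_of_subset_of_nonneg (Finset.subset_univ _) fun _ _ _ => sq_nonneg _
  exact_mod_cast hcard.trans hnorm

end CfsgLib.Reg19
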