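import Mathlib
import Cfsg.Agent.EqBase
import Cfsg.Agent.LibSC11a
import Cfsg.Agent.S3224
import Cfsg.Agent.S0201
import Cfsg.Agent.LibCores
import Cfsg.Agent.LibH2Baer
/-!
# Groups whose non-cyclic subgroups are self-centralizing, part 2 (helper11)
-/
set_option autoImplicit false
set_option linter.all false
open Cfsg

namespace CfsgLib.SC11

universe u

theorem simple_no_compl {G : Type*} [Group G] [Finite G] [IsSimpleGroup G] (hna : ¬ IsMulCommutative G) {p : ℕ} [hp : Fact p.Prime]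
    (P : Sylow p G) (hpd : p ∣ Nat.card G) (N : Subgroup G) (hN : N.Normal) (hc : N.IsComplement' (P : Subgroup G)) : False := by
  rcases hN.eq_bot_or_eq_top with h | h
  · subst h
    have h1 : (P : Subgroup G) = ⊤ := Subgroup.isComplement'_bot_left.mp hc
    have h2 : IsPGroup p G := by
      intro g
      obtain ⟨k, hk⟩ := P.2 ⟨g, by rw [h1]; trivial⟩
      exact ⟨k, congrArg Subtype.val hk⟩
    haveI := h2.center_nontrivial
    rcases (inferInstance : (Subgroup.center G).Normal).eq_bot_or_eq_top with h3 | h3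
    · exact (Subgroup.nontrivial_iff_ne_bot _).mp inferInstance h3
    · apply hna
      rw [isMulCommutative_iff]
      intro a b
      have : a ∈ Subgroup.center G := by rw [h3]; trivial
      exact ((Subgroup.mem_center_iff.mp this) b).symm
  · subst h
    have h1 : (P : Subgroup G) = ⊥ := Subgroup.isComplement'_top_left.mp hc
    have h2 := P.not_dvd_index
    rw [h1, Subgroup.index_bot] at h2
    exact h2 hpd

theorem even_of_snc {G : Type u} [Group G] [Finite G] [IsSimpleGroup G] (hna : ¬ IsMulCommutative G) (h : SNC G) : 2 ∣ Nat.card G := by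
  by_contra h2
  set p := Nat.minFac (Nat.card G) with hpdef
  have hG1 : Nat.card G ≠ 1 := Finite.one_lt_card.ne'
  have hpp : p.Prime := Nat.minFac_prime hG1
  haveI : Fact p.Prime := ⟨hpp⟩
  have hpd : p ∣ Nat.card G := Nat.minFac_dvd _
  have hp2 : p ≠ 2 := by intro h3; rw [h3] at hpd; exact h2 hpd
  obtain P : Sylow p G := default
  have hcrit := (Cfsg.Agent.S0071.result P).mpr (by
    intro Q hQ g hg hgc
    by_contra hnc
    set φ := Q.normalizerMonoidHom with hφ
    have h1 : φ ⟨g, hg⟩ ≠ 1 := by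
      intro h3
      have h4 : (⟨g, hg⟩ : ↥(Subgroup.normalizer (Q : Set G))) ∈ φ.ker := h3
      rw [hφ, Subgroup.normalizerMonoidHom_ker, Subgroup.mem_subgroupOf] at h4
      exact hnc h4
    set α := φ ⟨g, hg⟩ with hα
    have ho1 : orderOf α ≠ 1 := fun h3 => h1 (orderOf_eq_one_iff.mp h3)
    set r := Nat.minFac (orderOf α) with hr
    have hrp : r.Prime := Nat.minFac_prime ho1
    haveI : Fact r.Prime := ⟨hrp⟩
    have hro : r ∣ orderOf α := Nat.minFac_dvd _
    have hog : orderOf α ∣ orderOf g := by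
      have := orderOf_map_dvd φ (⟨g, hg⟩ : ↥(Subgroup.normalizer (Q : Set G)))
      rwa [Subgroup.orderOf_mk] at this
    have hrg : r ∣ orderOf g := hro.trans hog
    have hrG : r ∣ Nat.card G := hrg.trans (orderOf_dvd_natCard g)
    have hrne : r ≠ p := by
      intro h3
      rw [h3] at hrg
      have := (Nat.Prime.coprime_iff_not_dvd hpp).mp hgc.symm
      exact this hrg
    have hge : p ≤ r := Nat.minFac_le_of_dvd hrp.two_le hrG
    have hlt : p < r := lt_of_le_of_ne hge (Ne.symm hrne)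
    have hQp : IsPGroup p ↥Q := P.2.to_le hQ
    have h5 := aut_triv hp2 hlt (Nat.card Q) ↥Q le_rfl hQp (snc_sub h Q) (α ^ (orderOf α / r)) (by
      rw [← pow_mul, Nat.div_mul_cancel hro, pow_orderOf_eq_one])
    have h6 := orderOf_dvd_of_pow_eq_one h5
    have h7 := Nat.le_of_dvd (Nat.div_pos (Nat.le_of_dvd (orderOf_pos α) hro) hrp.pos) h6
    have h8 : orderOf α / r < orderOf α := Nat.div_lt_self (orderOf_pos α) hrp.one_lt
    omega)
  obtain ⟨N, hN, hc⟩ := hcrit
  exact simple_no_compl hna P hpd N hN hc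

/-- elements of the subgroup generated by an inverted element and an involution -/
theorem dihedral_form {C : Type*} [Group C] {x y : C} (hx : x * x = 1) (hinv : x * y * x⁻¹ = y⁻¹) :
    ∀ g ∈ Subgroup.closure ({x, y} : Set C), (∃ i : ℤ, g = y ^ i) ∨ (∃ i : ℤ, g = x * y ^ i) := by
  have hxi : x⁻¹ = x := inv_eq_of_mul_eq_one_right hx
  have hk : ∀ i : ℤ, y ^ i * x = x * y ^ (-i) := by
    intro i
    have h1 : x * y ^ (-i) * x⁻¹ = y ^ i := by
      rw [← conj_zpow, hinv, inv_zpow, zpow_neg, inv_inv]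
    rw [← h1]
    rw [hxi, mul_assoc, hx, mul_one]
  intro g hg
  induction hg using Subgroup.closure_induction with
  | mem g hg =>
    rcases hg with rfl | hg
    · exact Or.inr ⟨0, by simp⟩
    · rw [Set.mem_singleton_iff] at hg
      exact Or.inl ⟨1, by simp [hg]⟩
  | one => exact Or.inl ⟨0, by simp⟩
  | mul a b _ _ ha hb =>
    rcases ha with ⟨i, rfl⟩ | ⟨i, rfl⟩ <;> rcases hb with ⟨j, rfl⟩ | ⟨j, rfl⟩
    · exact Or.inl ⟨i + j, by rw [zpow_add]⟩
    · refine Or.inr ⟨-i + j, ?_⟩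
      rw [← mul_assoc, hk, mul_assoc, ← zpow_add]
    · refine Or.inr ⟨i + j, ?_⟩
      rw [mul_assoc, ← zpow_add]
    · refine Or.inl ⟨-i + j, ?_⟩
      rw [mul_assoc, ← mul_assoc (y ^ i), hk, mul_assoc x (y ^ (-i)), ← mul_assoc x x, hx, one_mul, ← zpow_add]
  | inv a _ ha =>
    rcases ha with ⟨i, rfl⟩ | ⟨i, rfl⟩
    · exact Or.inl ⟨-i, by rw [zpow_neg]⟩
    · refine Or.inr ⟨i, ?_⟩
      rw [mul_inv_rev, hxi, ← zpow_neg, hk, neg_neg]

theorem odd_sq_one {C : Type*} [Group C] {y : C} (hy : Odd (orderOf y)) (h : y * y = 1) : y = 1 := by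
  have h1 : orderOf y ∣ 2 := orderOf_dvd_of_pow_eq_one (by rw [sq, h])
  rcases (Nat.dvd_prime Nat.prime_two).mp h1 with h2 | h2
  · exact orderOf_eq_one_iff.mp h2
  · rw [h2] at hy; exact absurd hy (by decide)

theorem inv_of_odd {C : Type*} [Group C] [Finite C] (h : SNC C) {z x y : C} (hz : orderOf z = 2) (hzc : ∀ c, z * c = c * z)
    (hx : orderOf x = 2) (hxz : x ≠ z) (hy : Odd (orderOf y)) (hinv : x * y * x⁻¹ = y⁻¹) : y = 1 := by
  have hx2 : x * x = 1 := by rw [← sq, ← hx, pow_orderOf_eq_one]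
  have hz2 : z * z = 1 := by rw [← sq, ← hz, pow_orderOf_eq_one]
  have hcomm : x * y = y * x → y = 1 := by
    intro hc
    rw [hc, mul_inv_cancel_right] at hinv
    apply odd_sq_one hy
    exact mul_eq_one_iff_eq_inv.mpr hinv
  by_contra hy1
  set H := Subgroup.closure ({x, y} : Set C) with hH
  have hxH : x ∈ H := Subgroup.subset_closure (by simp)
  have hyH : y ∈ H := Subgroup.subset_closure (by simp)
  have hn : ¬ IsCyclic ↥H := by
    intro hc
    have h1 := isMulCommutative_iff.mp (IsCyclic.commutative (α := ↥H)) ⟨x, hxH⟩ ⟨y, hyH⟩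
    exact hy1 (hcomm (congrArg Subtype.val h1))
  have hzH : z ∈ H := h H hn (by
    rw [Subgroup.mem_centralizer_iff]
    intro g _
    exact (hzc g).symm)
  rcases dihedral_form hx2 hinv z hzH with ⟨i, hi⟩ | ⟨i, hi⟩
  · have h1 : orderOf z ∣ orderOf y := orderOf_dvd_of_mem_zpowers (by rw [hi]; exact Subgroup.zpow_mem _ (Subgroup.mem_zpowers y) i)
    rw [hz] at h1
    exact (Nat.not_even_iff_odd.mpr hy) (even_iff_two_dvd.mpr h1)
  · apply hy1
    apply hcomm
    have h1 : x = z * y ^ (-i) := by rw [hi, mul_assoc, ← zpow_add, add_neg_cancel, zpow_zero, mul_one]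
    have h2 : y ^ (-i) * y = y * y ^ (-i) := (Commute.zpow_self y (-i)).eq
    rw [h1, mul_assoc, h2, ← mul_assoc, hzc y, mul_assoc]

theorem two_elt {C : Type*} [Group C] [Finite C] (h : SNC C) {z x : C} (hz : orderOf z = 2) (hzc : ∀ c, z * c = c * z)
    (hx : orderOf x = 2) (hxz : x ≠ z) (g : C) : ∃ k, orderOf (x * (g * x * g⁻¹)) = 2 ^ k := by
  have hx2 : x * x = 1 := by rw [← sq, ← hx, pow_orderOf_eq_one]
  have hxi : x⁻¹ = x := inv_eq_of_mul_eq_one_right hx2
  set d := x * (g * x * g⁻¹) with hd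
  have hinv : x * d * x⁻¹ = d⁻¹ := by
    rw [hd, mul_inv_rev, hxi]
    have e1 : (g * x * g⁻¹)⁻¹ = g * x * g⁻¹ := by rw [mul_inv_rev, mul_inv_rev, inv_inv, hxi, mul_assoc]
    rw [e1, ← mul_assoc, hx2, one_mul]
  obtain ⟨k, m, hm, hkm⟩ := Nat.exists_eq_two_pow_mul_odd (orderOf_pos d).ne'
  refine ⟨k, ?_⟩
  have h1 : orderOf (d ^ (2 ^ k)) = m := by
    rw [orderOf_pow_of_dvd (by positivity) (by rw [hkm]; exact dvd_mul_right _ _), hkm, Nat.mul_div_cancel_left _ (by positivity)]
  have h2 := inv_of_odd h hz hzc hx hxz (y := d ^ (2 ^ k)) (by rw [h1]; exact hm) (by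
    rw [← conj_pow, hinv, inv_pow])
  rw [h2, orderOf_one] at h1
  rw [hkm, ← h1, mul_one]

theorem mem_O2 {C : Type*} [Group C] [Finite C] (h : SNC C) {z x : C} (hz : orderOf z = 2) (hzc : ∀ c, z * c = c * z)
    (hx : orderOf x = 2) (hxz : x ≠ z) : x ∈ pCore 2 C := by
  haveI : Fact (Nat.Prime 2) := ⟨Nat.prime_two⟩
  have hx2 : x * x = 1 := by rw [← sq, ← hx, pow_orderOf_eq_one]
  have hxi : x⁻¹ = x := inv_eq_of_mul_eq_one_right hx2
  apply CfsgLib.H2Baer.baer_suzuki_elt
  intro g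
  set d := x * (g * x * g⁻¹) with hd
  have hinv : x * d * x⁻¹ = d⁻¹ := by
    rw [hd, mul_inv_rev, hxi]
    have e1 : (g * x * g⁻¹)⁻¹ = g * x * g⁻¹ := by rw [mul_inv_rev, mul_inv_rev, inv_inv, hxi, mul_assoc]
    rw [e1, ← mul_assoc, hx2, one_mul]
  obtain ⟨k, hk⟩ := two_elt h hz hzc hx hxz g
  have hle : Subgroup.closure {x, g * x * g⁻¹} ≤ Subgroup.zpowers x ⊔ Subgroup.zpowers d := by
    rw [Subgroup.closure_le]
    intro w hw
    rcases hw with rfl | hw
    · exact (le_sup_left : Subgroup.zpowers w ≤ _) (Subgroup.mem_zpowers w)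
    · rw [Set.mem_singleton_iff] at hw
      have e : w = x * d := by rw [hw, hd, ← mul_assoc, hx2, one_mul]
      rw [e]
      exact Subgroup.mul_mem_sup (Subgroup.mem_zpowers x) (Subgroup.mem_zpowers d)
  have h1 : IsPGroup 2 ↥(Subgroup.zpowers x) := IsPGroup.of_card (n := 1) (by rw [Nat.card_zpowers, hx, pow_one])
  have h2 : IsPGroup 2 ↥(Subgroup.zpowers d) := IsPGroup.of_card (n := k) (by rw [Nat.card_zpowers, hk])
  have h3 : Subgroup.zpowers x ≤ Subgroup.normalizer ((Subgroup.zpowers d : Subgroup C) : Set C) := by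
    rw [Subgroup.zpowers_le, Subgroup.mem_normalizer_iff]
    intro w
    constructor
    · intro hw
      obtain ⟨i, rfl⟩ := Subgroup.mem_zpowers_iff.mp hw
      rw [← conj_zpow, hinv]
      exact Subgroup.zpow_mem _ (Subgroup.inv_mem _ (Subgroup.mem_zpowers d)) i
    · intro hw
      obtain ⟨i, hi⟩ := Subgroup.mem_zpowers_iff.mp hw
      have e : w = x * d ^ i * x⁻¹ := by
        rw [hi, hxi]
        calc w = 1 * w * 1 := by group
          _ = (x * x) * w * (x * x) := by rw [hx2]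
          _ = _ := by group
      rw [e, ← conj_zpow, hinv]
      exact Subgroup.zpow_mem _ (Subgroup.inv_mem _ (Subgroup.mem_zpowers d)) i
  exact (h1.to_sup_of_normal_right' h2 h3).to_le hle

end CfsgLib.SC11
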