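import Mathlib
import Cfsg.Agent.EqBase
import Cfsg.Agent.LibSC11b
/-!
# Groups whose non-cyclic subgroups are self-centralizing, part 3 (helper11)
-/
set_option autoImplicit false
set_option linter.all false
open Cfsg

namespace CfsgLib.SC11

universe u

theorem klein_form {C : Type*} [Group C] {x z : C} (hx : x * x = 1) (hz : z * z = 1) (hc : z * x = x * z) :
    ∀ g ∈ Subgroup.closure ({x, z} : Set C), g = 1 ∨ g = x ∨ g = z ∨ g = x * z := by
  have e1 : z * (x * z) = x := by rw [← mul_assoc, hc, mul_assoc, hz, mul_one]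
  have e2 : x * (x * z) = z := by rw [← mul_assoc, hx, one_mul]
  have e3 : (x * z) * x = z := by rw [mul_assoc, hc, e2]
  have e4 : (x * z) * z = x := by rw [mul_assoc, hz, mul_one]
  have e5 : (x * z) * (x * z) = 1 := by rw [mul_assoc, e1, hx]
  have hxi : x⁻¹ = x := inv_eq_of_mul_eq_one_right hx
  have hzi : z⁻¹ = z := inv_eq_of_mul_eq_one_right hz
  have hxzi : (x * z)⁻¹ = x * z := inv_eq_of_mul_eq_one_right e5
  intro g hg
  induction hg using Subgroup.closure_induction with
  | mem g hg =>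
    rcases hg with rfl | hg
    · exact Or.inr (Or.inl rfl)
    · rw [Set.mem_singleton_iff] at hg
      exact Or.inr (Or.inr (Or.inl hg))
  | one => exact Or.inl rfl
  | mul a b _ _ ha hb =>
    rcases ha with rfl | rfl | rfl | rfl <;> rcases hb with rfl | rfl | rfl | rfl <;>
      simp [hx, hz, e1, e2, e3, e4, e5, hc]
  | inv a _ ha =>
    rcases ha with rfl | rfl | rfl | rfl
    · simp
    · simp [hxi]
    · simp [hzi]
    · rw [hxzi]; simp

/-- the centralizer of a non-central involution -/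
theorem cent_four {C : Type*} [Group C] [Finite C] (h : SNC C) {z x : C} (hz : orderOf z = 2) (hzc : ∀ c, z * c = c * z)
    (hx : orderOf x = 2) (hxz : x ≠ z) (c : C) (hc : c * x = x * c) : c = 1 ∨ c = x ∨ c = z ∨ c = x * z := by
  have hx2 : x * x = 1 := by rw [← sq, ← hx, pow_orderOf_eq_one]
  have hz2 : z * z = 1 := by rw [← sq, ← hz, pow_orderOf_eq_one]
  have hx1 : x ≠ 1 := by rintro rfl; rw [orderOf_one] at hx; omega
  have hz1 : z ≠ 1 := by rintro rfl; rw [orderOf_one] at hz; omega
  set E := Subgroup.closure ({x, z} : Set C) with hE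
  have hxE : x ∈ E := Subgroup.subset_closure (by simp)
  have hzE : z ∈ E := Subgroup.subset_closure (by simp)
  have hform := klein_form hx2 hz2 (hzc x)
  have e1 : z * (x * z) = x := by rw [← mul_assoc, hzc x, mul_assoc, hz2, mul_one]
  have e5 : (x * z) * (x * z) = 1 := by rw [mul_assoc, e1, hx2]
  have hn : ¬ IsCyclic ↥E := by
    intro hcyc
    obtain ⟨g, hg⟩ := hcyc.exists_generator
    have h2 : (g : C) * g = 1 := by
      rcases hform g g.2 with h | h | h | h
      · rw [h, one_mul]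
      · rw [h, hx2]
      · rw [h, hz2]
      · rw [h, e5]
    have h3 : ∀ w : ↥E, w = 1 ∨ w = g := by
      intro w
      obtain ⟨i, rfl⟩ := Subgroup.mem_zpowers_iff.mp (hg w)
      have h4 : g ^ (2 : ℤ) = 1 := by
        rw [zpow_two]
        exact Subtype.ext h2
      rcases Int.even_or_odd' i with ⟨k, hk | hk⟩
      · left; rw [hk, zpow_mul, h4, one_zpow]
      · right; rw [hk, zpow_add, zpow_mul, h4, one_zpow, one_mul, zpow_one]
    have h5 : (⟨x, hxE⟩ : ↥E) = g := by
      rcases h3 ⟨x, hxE⟩ with h | h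
      · exact absurd (congrArg Subtype.val h) hx1
      · exact h
    have h6 : (⟨z, hzE⟩ : ↥E) = g := by
      rcases h3 ⟨z, hzE⟩ with h | h
      · exact absurd (congrArg Subtype.val h) hz1
      · exact h
    exact hxz (congrArg Subtype.val (h5.trans h6.symm))
  apply hform
  apply h E hn
  rw [Subgroup.mem_centralizer_iff]
  intro y hy
  rcases hform y hy with rfl | rfl | rfl | rfl
  · simp
  · exact hc.symm
  · exact hzc c
  · rw [mul_assoc, hzc c, ← mul_assoc, ← hc, mul_assoc]

theorem cent_card {C : Type*} [Group C] [Finite C] (h : SNC C) {z x : C} (hz : orderOf z = 2) (hzc : ∀ c, z * c = c * z)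
    (hx : orderOf x = 2) (hxz : x ≠ z) : Nat.card ↥(Subgroup.centralizer ({x} : Set C)) = 4 := by
  have hx2 : x * x = 1 := by rw [← sq, ← hx, pow_orderOf_eq_one]
  have hz2 : z * z = 1 := by rw [← sq, ← hz, pow_orderOf_eq_one]
  have hx1 : x ≠ 1 := by rintro rfl; rw [orderOf_one] at hx; omega
  have hz1 : z ≠ 1 := by rintro rfl; rw [orderOf_one] at hz; omega
  have hset : ((Subgroup.centralizer ({x} : Set C) : Subgroup C) : Set C) = {1, x, z, x * z} := by
    ext c
    simp only [SetLike.mem_coe, Subgroup.mem_centralizer_singleton_iff, Set.mem_insert_iff, Set.mem_singleton_iff]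
    constructor
    · intro hc
      exact cent_four h hz hzc hx hxz c hc
    · rintro (rfl | rfl | rfl | rfl)
      · simp
      · rfl
      · exact hzc x
      · rw [mul_assoc, hzc x]
  have h1 : Nat.card ↥(Subgroup.centralizer ({x} : Set C)) = Set.ncard ((Subgroup.centralizer ({x} : Set C) : Subgroup C) : Set C) := rfl
  rw [h1, hset]
  have hxz1 : x * z ≠ 1 := fun h => hxz (by rw [mul_eq_one_iff_eq_inv.mp h, inv_eq_of_mul_eq_one_right hz2])
  rw [Set.ncard_insert_of_notMem, Set.ncard_insert_of_notMem, Set.ncard_insert_of_notMem, Set.ncard_singleton]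
  · rw [Set.mem_singleton_iff]
    intro h
    exact hx1 (mul_eq_right.mp h.symm)
  · simp only [Set.mem_insert_iff, Set.mem_singleton_iff, not_or]
    exact ⟨hxz, fun h => hz1 (mul_eq_left.mp h.symm)⟩
  · simp only [Set.mem_insert_iff, Set.mem_singleton_iff, not_or]
    exact ⟨fun h => hx1 h.symm, fun h => hz1 h.symm, fun h => hxz1 h.symm⟩

theorem comm_of_sq {C : Type*} [Group C] [Finite C] {w x : C} (hw : Odd (orderOf w)) (h : Commute (w ^ 2) x) : Commute w x := by
  obtain ⟨k, hk⟩ := hw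
  have h1 : (w ^ 2) ^ (k + 1) = w := by
    rw [← pow_mul, show 2 * (k + 1) = orderOf w + 1 by omega, pow_succ, pow_orderOf_eq_one, one_mul]
  rw [← h1]
  exact h.pow_left _

/-- an odd prime order element normalizing a 2-group with a cyclic subgroup of index 2 centralizes it -/
theorem comm_of_cyc {C : Type*} [Group C] [Finite C] (P : Subgroup C) (hP : P.Normal) (a : C) (ha : a ∈ P)
    (hidx : ∀ u ∈ P, ∀ v ∈ P, u ∉ Subgroup.zpowers a → v ∉ Subgroup.zpowers a → u⁻¹ * v ∈ Subgroup.zpowers a)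
    (hout : ∀ u ∈ P, u ∉ Subgroup.zpowers a → orderOf u < orderOf a) (k : ℕ) (hk : orderOf a = 2 ^ k)
    (w : C) (hw : Odd (orderOf w)) : ∀ u ∈ P, w * u = u * w := by
  set r := orderOf w with hr
  have hco2 : Nat.Coprime r 2 := Nat.coprime_two_right.mpr hw
  have hwP : ∀ u ∈ P, w * u * w⁻¹ ∈ P := fun u hu => hP.conj_mem u hu w
  have h1 : w * a * w⁻¹ ∈ Subgroup.zpowers a := by
    by_contra hcon
    have h2 := hout _ (hwP a ha) hcon
    have h3 : orderOf (w * a * w⁻¹) = orderOf a := by
      have := orderOf_injective (MulAut.conj w).toMonoidHom (MulAut.conj w).injective a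
      simpa using this
    omega
  have hwN : w ∈ Subgroup.normalizer ((Subgroup.zpowers a : Subgroup C) : Set C) := by
    rw [Subgroup.mem_normalizer_iff]
    have hmap : (Subgroup.zpowers a).map (MulAut.conj w).toMonoidHom = Subgroup.zpowers a := by
      apply Subgroup.eq_of_le_of_card_ge
      · rw [MonoidHom.map_zpowers, Subgroup.zpowers_le]
        exact h1
      · exact le_of_eq (Nat.card_congr ((Subgroup.zpowers a).equivMapOfInjective _ (MulAut.conj w).injective).toEquiv)
    intro v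
    constructor
    · intro hv
      rw [← hmap]
      exact ⟨v, hv, rfl⟩
    · intro hv
      rw [← hmap] at hv
      obtain ⟨v', hv', he⟩ := hv
      have : w * v' * w⁻¹ = w * v * w⁻¹ := he
      rw [← mul_left_cancel (mul_right_cancel this)]
      exact hv'
  have hwC : w ∈ Subgroup.centralizer ((Subgroup.zpowers a : Subgroup C) : Set C) := by
    set φ := (Subgroup.zpowers a).normalizerMonoidHom with hφ
    have h3 : orderOf (φ ⟨w, hwN⟩) ∣ r := by
      have := orderOf_map_dvd φ (⟨w, hwN⟩ : ↥(Subgroup.normalizer ((Subgroup.zpowers a : Subgroup C) : Set C)))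
      rwa [Subgroup.orderOf_mk] at this
    have h4 : orderOf (φ ⟨w, hwN⟩) ∣ Nat.totient (2 ^ k) := by
      rw [← hk, ← Nat.card_zpowers a, ← IsCyclic.card_mulAut]
      exact orderOf_dvd_natCard _
    have h5 : Nat.Coprime r (Nat.totient (2 ^ k)) := by
      rcases Nat.eq_zero_or_pos k with h0 | h0
      · rw [h0, pow_zero, Nat.totient_one]; exact Nat.coprime_one_right r
      · rw [Nat.totient_prime_pow Nat.prime_two h0]
        simp only [Nat.add_one_sub_one, mul_one]
        exact (Nat.Coprime.pow_right _ (hco2))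
    have h6 := Nat.eq_one_of_dvd_coprimes h5 h3 h4
    have h7 : φ ⟨w, hwN⟩ = 1 := orderOf_eq_one_iff.mp h6
    have h8 : (⟨w, hwN⟩ : ↥(Subgroup.normalizer ((Subgroup.zpowers a : Subgroup C) : Set C))) ∈ φ.ker := h7
    rw [hφ, Subgroup.normalizerMonoidHom_ker, Subgroup.mem_subgroupOf] at h8
    exact h8
  have hca : ∀ c ∈ Subgroup.zpowers a, c * w = w * c := fun c hc => Subgroup.mem_centralizer_iff.mp hwC c hc
  intro u hu
  by_cases hua : u ∈ Subgroup.zpowers a
  · exact (hca u hua).symm
  · have h3 : w * u * w⁻¹ ∉ Subgroup.zpowers a := by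
      intro h4
      apply hua
      exact (Subgroup.mem_normalizer_iff.mp hwN u).mpr h4
    set c := u⁻¹ * (w * u * w⁻¹) with hc
    have hcm : c ∈ Subgroup.zpowers a := hidx u hu _ (hwP u hu) hua h3
    have hcw := hca c hcm
    have hstep : w * u * w⁻¹ = u * c := by rw [hc, mul_inv_cancel_left]
    have hpow : ∀ n : ℕ, w ^ n * u * (w ^ n)⁻¹ = u * c ^ n := by
      intro n
      induction n with
      | zero => simp
      | succ n ih =>
        have e1 : w ^ (n + 1) * u * (w ^ (n + 1))⁻¹ = w * (w ^ n * u * (w ^ n)⁻¹) * w⁻¹ := by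
          rw [pow_succ']; group
        have e2 : w * c ^ n = c ^ n * w := ((show Commute c w from hcw).pow_left n).eq.symm
        have e3 : c ^ n * w⁻¹ = w⁻¹ * c ^ n := by
          rw [eq_inv_mul_iff_mul_eq, ← mul_assoc, e2, mul_inv_cancel_right]
        rw [e1, ih]
        calc w * (u * c ^ n) * w⁻¹ = w * u * (c ^ n * w⁻¹) := by group
          _ = (w * u * w⁻¹) * c ^ n := by rw [e3]; group
          _ = u * c ^ (n + 1) := by rw [hstep, mul_assoc, ← pow_succ']
    have h5 := hpow r
    rw [hr, pow_orderOf_eq_one, one_mul, inv_one, mul_one] at h5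
    have h6 : c ^ r = 1 := by
      rw [← hr] at h5
      exact mul_eq_left.mp h5.symm
    have h7 : orderOf c ∣ 2 ^ k := by rw [← hk]; exact orderOf_dvd_of_mem_zpowers hcm
    have h8 : orderOf c ∣ r := orderOf_dvd_of_pow_eq_one h6
    have h9 : orderOf c = 1 := Nat.eq_one_of_dvd_coprimes (Nat.Coprime.pow_right _ (hco2)) h8 h7
    have h10 : c = 1 := orderOf_eq_one_iff.mp h9
    rw [h10, mul_one] at hstep
    exact mul_inv_eq_iff_eq_mul.mp hstep


/-- **key**: a group with self-centralizing non-cyclic subgroups, a central involution and another involution is a 2-group -/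
theorem two_group {C : Type u} [Group C] [Finite C] (h : SNC C) {z x : C} (hz : orderOf z = 2) (hzc : ∀ c, z * c = c * z)
    (hx : orderOf x = 2) (hxz : x ≠ z) : IsPGroup 2 C := by
  haveI : Fact (Nat.Prime 2) := ⟨Nat.prime_two⟩
  have hx2 : x * x = 1 := by rw [← sq, ← hx, pow_orderOf_eq_one]
  have hz2 : z * z = 1 := by rw [← sq, ← hz, pow_orderOf_eq_one]
  have hx1 : x ≠ 1 := by rintro rfl; rw [orderOf_one] at hx; omega
  have hz1 : z ≠ 1 := by rintro rfl; rw [orderOf_one] at hz; omega
  set P := pCore 2 C with hP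
  have hPp : IsPGroup 2 ↥P := CfsgLib.Cores.pCore_isPGroup 2
  have hPn : P.Normal := inferInstance
  have hxP : x ∈ P := mem_O2 h hz hzc hx hxz
  have hzP : z ∈ P := by
    have h1 : (Subgroup.zpowers z).Normal := by
      refine ⟨fun y hy g => ?_⟩
      obtain ⟨i, rfl⟩ := Subgroup.mem_zpowers_iff.mp hy
      have h2 : g * z ^ i * g⁻¹ = z ^ i := by
        rw [mul_inv_eq_iff_eq_mul]
        exact ((show Commute z g from hzc g).zpow_left i).eq.symm
      rw [h2]; exact Subgroup.zpow_mem _ (Subgroup.mem_zpowers z) i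
    have h2 : IsPGroup 2 ↥(Subgroup.zpowers z) := IsPGroup.of_card (n := 1) (by rw [Nat.card_zpowers, hz, pow_one])
    exact CfsgLib.Cores.le_pCore h1 h2 (Subgroup.mem_zpowers z)
  by_contra hnot
  -- an element of odd prime order
  obtain ⟨w, hw1, hwo⟩ : ∃ w : C, w ≠ 1 ∧ Odd (orderOf w) := by
    by_contra hcon
    push Not at hcon
    apply hnot
    intro g
    obtain ⟨k, m, hm, hkm⟩ := Nat.exists_eq_two_pow_mul_odd (orderOf_pos g).ne'
    refine ⟨k, ?_⟩
    by_contra hg1
    have h1 : orderOf (g ^ (2 ^ k)) = m := by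
      rw [orderOf_pow_of_dvd (by positivity) (by rw [hkm]; exact dvd_mul_right _ _), hkm, Nat.mul_div_cancel_left _ (by positivity)]
    exact hcon _ hg1 (by rw [h1]; exact hm)
  -- it suffices that w commutes with x
  have hfin : ¬ w * x = x * w := by
    intro hc
    rcases cent_four h hz hzc hx hxz w hc with h1 | h1 | h1 | h1
    · exact hw1 h1
    · rw [h1, hx] at hwo; exact absurd hwo (by decide)
    · rw [h1, hz] at hwo; exact absurd hwo (by decide)
    · apply hw1
      apply odd_sq_one hwo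
      rw [h1, mul_assoc, ← mul_assoc z, hzc x, mul_assoc x z z, hz2, mul_one, hx2]
  set xP : ↥P := ⟨x, hxP⟩ with hxPdef
  set zP : ↥P := ⟨z, hzP⟩ with hzPdef
  have hxPo : orderOf xP = 2 := by rw [← hx]; exact Subgroup.orderOf_mk _ _
  have hzPo : orderOf zP = 2 := by rw [← hz]; exact Subgroup.orderOf_mk _ _
  have hc4 := cent_card (snc_sub h P) hzPo (fun c => Subtype.ext (hzc c)) hxPo (fun h => hxz (congrArg Subtype.val h))
  -- order 4
  have hcard4 : Nat.card ↥P = 4 → False := by
    intro h4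
    have htop : Subgroup.centralizer ({xP} : Set ↥P) = ⊤ := Subgroup.eq_top_of_card_eq _ (by rw [hc4, h4])
    have hall : ∀ u ∈ P, u = 1 ∨ u = x ∨ u = z ∨ u = x * z := by
      intro u hu
      have h5 : (⟨u, hu⟩ : ↥P) ∈ Subgroup.centralizer ({xP} : Set ↥P) := by rw [htop]; trivial
      rw [Subgroup.mem_centralizer_singleton_iff] at h5
      exact cent_four h hz hzc hx hxz u (congrArg Subtype.val h5)
    apply hfin
    have h6 := hall _ (hPn.conj_mem x hxP w)
    rcases h6 with h7 | h7 | h7 | h7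
    · exact absurd (conj_eq_one_iff.mp h7) hx1
    · exact mul_inv_eq_iff_eq_mul.mp h7
    · exfalso
      apply hxz
      have h8 : w * x = z * w := mul_inv_eq_iff_eq_mul.mp h7
      rw [hzc] at h8
      exact mul_left_cancel h8
    · apply (comm_of_sq hwo _).eq
      show w ^ 2 * x = x * w ^ 2
      have h8 : w * x = x * z * w := mul_inv_eq_iff_eq_mul.mp h7
      have h9 : w * z = z * w := (hzc w).symm
      calc w ^ 2 * x = w * (w * x) := by rw [sq, mul_assoc]
        _ = w * (x * z * w) := by rw [h8]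
        _ = (w * x) * z * w := by group
        _ = (x * z * w) * z * w := by rw [h8]
        _ = x * z * (w * z) * w := by group
        _ = x * z * (z * w) * w := by rw [h9]
        _ = x * (z * z) * (w * w) := by group
        _ = x * w ^ 2 := by rw [hz2, mul_one, sq]
  rcases Cfsg.Agent.S3224.result hPp xP hxPo hc4 with ⟨n, ⟨e⟩⟩ | ⟨n, hn3, hcard, a, b, hao, hbo, hba⟩ | h4
  · -- dihedral
    have hcP : Nat.card ↥P = 2 * n := by
      rw [Nat.card_congr e.toEquiv, DihedralGroup.nat_card]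
    have hn0 : n ≠ 0 := by
      rintro rfl
      have := Nat.card_pos (α := ↥P)
      omega
    haveI : NeZero n := ⟨hn0⟩
    have hd4 : 4 ∣ Nat.card ↥P := by rw [← hc4]; exact Subgroup.card_subgroup_dvd_card _
    have hn3 : 3 ≤ n := by
      by_contra hlt
      have h2n : n = 2 := by
        rw [hcP] at hd4
        have : 2 ∣ n := by
          obtain ⟨t, ht⟩ := hd4
          exact ⟨t, by omega⟩
        omega
      exact hcard4 (by rw [hcP, h2n])
    set a : ↥P := e.symm (DihedralGroup.r 1) with ha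
    have hao : orderOf a = n := by
      have h1 : orderOf a = orderOf (DihedralGroup.r 1 : DihedralGroup n) := e.symm.orderOf_eq _
      rw [h1, DihedralGroup.orderOf_r_one]
    have hmem : ∀ u : ↥P, u ∈ Subgroup.zpowers a ↔ ∃ i : ZMod n, e u = DihedralGroup.r i := by
      intro u
      constructor
      · intro hu
        obtain ⟨i, rfl⟩ := Subgroup.mem_zpowers_iff.mp hu
        refine ⟨(i : ZMod n), ?_⟩
        rw [map_zpow, ha, e.apply_symm_apply, DihedralGroup.r_one_zpow]
      · rintro ⟨i, hi⟩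
        obtain ⟨j, rfl⟩ := ZMod.intCast_surjective i
        rw [Subgroup.mem_zpowers_iff]
        refine ⟨j, ?_⟩
        apply e.injective
        rw [map_zpow, ha, e.apply_symm_apply, DihedralGroup.r_one_zpow, hi]
    have hnmem : ∀ u : ↥P, u ∉ Subgroup.zpowers a → ∃ i : ZMod n, e u = DihedralGroup.sr i := by
      intro u hu
      rcases hue : e u with i | i
      · exact absurd ((hmem u).mpr ⟨i, hue⟩) hu
      · exact ⟨i, rfl⟩
    obtain ⟨k, hk⟩ : ∃ k, orderOf a = 2 ^ k := (IsPGroup.iff_orderOf.mp hPp) a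
    have hzm : ∀ u : ↥P, (u : C) ∈ Subgroup.zpowers (a : C) ↔ u ∈ Subgroup.zpowers a := by
      intro u
      rw [Subgroup.mem_zpowers_iff, Subgroup.mem_zpowers_iff]
      constructor
      · rintro ⟨i, hi⟩; exact ⟨i, Subtype.ext hi⟩
      · rintro ⟨i, hi⟩; exact ⟨i, congrArg Subtype.val hi⟩
    apply hfin
    refine comm_of_cyc P hPn (a : C) a.2 ?_ ?_ k (by rw [Subgroup.orderOf_coe, hk]) w hwo x hxP
    · intro u hu v hv hua hva
      obtain ⟨i, hi⟩ := hnmem ⟨u, hu⟩ (fun h => hua ((hzm ⟨u, hu⟩).mpr h))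
      obtain ⟨j, hj⟩ := hnmem ⟨v, hv⟩ (fun h => hva ((hzm ⟨v, hv⟩).mpr h))
      apply (hzm (⟨u, hu⟩⁻¹ * ⟨v, hv⟩)).mpr
      rw [hmem]
      refine ⟨j - i, ?_⟩
      rw [map_mul, map_inv, hi, hj, DihedralGroup.inv_sr, DihedralGroup.sr_mul_sr]
    · intro u hu hua
      obtain ⟨i, hi⟩ := hnmem ⟨u, hu⟩ (fun h => hua ((hzm ⟨u, hu⟩).mpr h))
      have h1 : orderOf u = 2 := by
        have h2 : orderOf (⟨u, hu⟩ : ↥P) = orderOf (e ⟨u, hu⟩) := (e.orderOf_eq _).symm
        rw [Subgroup.orderOf_mk, hi, DihedralGroup.orderOf_sr] at h2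
        exact h2
      rw [h1, Subgroup.orderOf_coe, hao]
      omega
  · -- quasi-dihedral
    have hidx2 : (Subgroup.zpowers a).index = 2 := by
      have h1 := (Subgroup.zpowers a).card_mul_index
      rw [Nat.card_zpowers, hao, hcard, pow_succ] at h1
      exact Nat.eq_of_mul_eq_mul_left (by positivity) h1
    have ha1 : a ^ (2 ^ n) = 1 := by rw [← hao, pow_orderOf_eq_one]
    have hba' : ∀ i : ℤ, b * a ^ i * b⁻¹ = a ^ (((2 ^ (n - 1) - 1 : ℕ) : ℤ) * i) := by
      intro i
      rw [← conj_zpow, hba, ← zpow_natCast, ← zpow_mul]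
    have hbn : b ∉ Subgroup.zpowers a := by
      intro hb
      obtain ⟨i, hi⟩ := Subgroup.mem_zpowers_iff.mp hb
      have h1 : b * a * b⁻¹ = a := by
        rw [mul_inv_eq_iff_eq_mul, ← hi]
        exact (Commute.zpow_self a i).eq
      rw [hba] at h1
      have h2 : a ^ (2 ^ (n - 1) - 1) = a ^ 1 := by rw [h1, pow_one]
      have h3 := pow_inj_mod.mp h2
      rw [hao] at h3
      have e2 : 2 ^ n = 2 * 2 ^ (n - 1) := by rw [← pow_succ']; congr 1; omega
      have e3 : 4 ≤ 2 ^ (n - 1) := by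
        calc 4 = 2 ^ 2 := by norm_num
          _ ≤ 2 ^ (n - 1) := Nat.pow_le_pow_right (by norm_num) (by omega)
      rw [Nat.mod_eq_of_lt (by omega), Nat.mod_eq_of_lt (by omega)] at h3
      omega
    have hout : ∀ u : ↥P, u ∉ Subgroup.zpowers a → ∃ i : ℤ, u = a ^ i * b := by
      intro u hu
      have h1 := (Subgroup.mul_mem_iff_of_index_two hidx2 (a := u) (b := b)).mpr ⟨fun h => absurd h hu, fun h => absurd h hbn⟩
      obtain ⟨i, hi⟩ := Subgroup.mem_zpowers_iff.mp h1
      have hb2 : b * b = 1 := by rw [← sq, ← hbo, pow_orderOf_eq_one]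
      exact ⟨i, by rw [hi, mul_assoc, hb2, mul_one]⟩
    have hord : ∀ u : ↥P, u ∉ Subgroup.zpowers a → orderOf u ∣ 4 := by
      intro u hu
      obtain ⟨i, rfl⟩ := hout u hu
      have hb2 : b * b = 1 := by rw [← sq, ← hbo, pow_orderOf_eq_one]
      have hbi : b⁻¹ = b := inv_eq_of_mul_eq_one_right hb2
      have h1 : (a ^ i * b) * (a ^ i * b) = a ^ (((2 ^ (n - 1) : ℕ) : ℤ) * i) := by
        have h2 := hba' i
        rw [hbi] at h2
        calc (a ^ i * b) * (a ^ i * b) = a ^ i * (b * a ^ i * b) := by group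
          _ = a ^ i * a ^ (((2 ^ (n - 1) - 1 : ℕ) : ℤ) * i) := by rw [h2]
          _ = a ^ (((2 ^ (n - 1) : ℕ) : ℤ) * i) := by
            rw [← zpow_add]
            congr 1
            rw [Nat.cast_sub Nat.one_le_two_pow]
            push_cast
            ring
      apply orderOf_dvd_of_pow_eq_one
      have e4 : (a ^ i * b) ^ 4 = ((a ^ i * b) * (a ^ i * b)) * ((a ^ i * b) * (a ^ i * b)) := by
        rw [show 4 = 2 + 2 from rfl, pow_add, sq]
      rw [e4, h1, ← zpow_add]
      have e5 : ((2 ^ (n - 1) : ℕ) : ℤ) * i + ((2 ^ (n - 1) : ℕ) : ℤ) * i = ((2 ^ n : ℕ) : ℤ) * i := by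
        have e2 : 2 ^ n = 2 * 2 ^ (n - 1) := by rw [← pow_succ']; congr 1; omega
        rw [e2]; push_cast; ring
      rw [e5, zpow_mul, zpow_natCast, ha1, one_zpow]
    have hzm : ∀ u : ↥P, (u : C) ∈ Subgroup.zpowers (a : C) ↔ u ∈ Subgroup.zpowers a := by
      intro u
      rw [Subgroup.mem_zpowers_iff, Subgroup.mem_zpowers_iff]
      constructor
      · rintro ⟨i, hi⟩; exact ⟨i, Subtype.ext hi⟩
      · rintro ⟨i, hi⟩; exact ⟨i, congrArg Subtype.val hi⟩
    apply hfin
    refine comm_of_cyc P hPn (a : C) a.2 ?_ ?_ n (by rw [Subgroup.orderOf_coe, hao]) w hwo x hxP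
    · intro u hu v hv hua hva
      have h1 : (⟨u, hu⟩ : ↥P) ∉ Subgroup.zpowers a := fun h => hua ((hzm ⟨u, hu⟩).mpr h)
      have h2 : (⟨v, hv⟩ : ↥P) ∉ Subgroup.zpowers a := fun h => hva ((hzm ⟨v, hv⟩).mpr h)
      apply (hzm (⟨u, hu⟩⁻¹ * ⟨v, hv⟩)).mpr
      rw [Subgroup.mul_mem_iff_of_index_two hidx2, Subgroup.inv_mem_iff]
      exact ⟨fun h => absurd h h1, fun h => absurd h h2⟩
    · intro u hu hua
      have h1 := hord ⟨u, hu⟩ (fun h => hua ((hzm ⟨u, hu⟩).mpr h))
      rw [Subgroup.orderOf_mk] at h1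
      have h2 := Nat.le_of_dvd (by norm_num) h1
      rw [Subgroup.orderOf_coe, hao]
      calc orderOf u ≤ 4 := h2
        _ < 2 ^ 3 := by norm_num
        _ ≤ 2 ^ n := Nat.pow_le_pow_right (by norm_num) hn3
  · exact hcard4 h4

end CfsgLib.SC11
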