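import Mathlib
import Cfsg.Agent.EqBase
import Cfsg.Agent.LibSC11c
import Cfsg.Agent.LibNI8
import Cfsg.Agent.S0508
/-!
# Simple groups whose non-cyclic subgroups are self-centralizing (helper11)
-/
set_option autoImplicit false
set_option linter.all false
open Cfsg

namespace CfsgLib.SC11

universe u

theorem exists_central_inv {T : Type*} [Group T] [Finite T] [Nontrivial T] (hT : IsPGroup 2 T) :
    ∃ z : T, orderOf z = 2 ∧ ∀ c, z * c = c * z := by
  haveI : Fact (Nat.Prime 2) := ⟨Nat.prime_two⟩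
  haveI := hT.center_nontrivial
  have hc1 : 1 < Nat.card (Subgroup.center T) := Finite.one_lt_card
  obtain ⟨k, hk⟩ := (hT.to_subgroup (Subgroup.center T)).exists_card_eq
  have hk0 : k ≠ 0 := by rintro rfl; rw [pow_zero] at hk; omega
  have hdvd : 2 ∣ Nat.card (Subgroup.center T) := by rw [hk]; exact dvd_pow_self 2 hk0
  obtain ⟨z, hz⟩ := exists_prime_orderOf_dvd_card' 2 hdvd
  exact ⟨z, by rw [Subgroup.orderOf_coe, hz], fun c => ((Subgroup.mem_center_iff.mp z.2) c).symm⟩

theorem simple_center {G : Type*} [Group G] [IsSimpleGroup G] (hna : ¬ IsMulCommutative G) : Subgroup.center G = ⊥ := by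
  rcases (inferInstance : (Subgroup.center G).Normal).eq_bot_or_eq_top with h3 | h3
  · exact h3
  · exfalso
    apply hna
    rw [isMulCommutative_iff]
    intro a b
    have : a ∈ Subgroup.center G := by rw [h3]; trivial
    exact ((Subgroup.mem_center_iff.mp this) b).symm

theorem exists_comm_inv {G : Type u} [Group G] [Finite G] [IsSimpleGroup G] (hna : ¬ IsMulCommutative G) {z' : G} (hz : orderOf z' = 2) :
    ∃ x : G, orderOf x = 2 ∧ x ≠ z' ∧ x * z' = z' * x := by
  haveI : Fact (Nat.Prime 2) := ⟨Nat.prime_two⟩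
  have h1 : IsPGroup 2 ↥(Subgroup.zpowers z') := IsPGroup.of_card (n := 1) (by rw [Nat.card_zpowers, hz, pow_one])
  obtain ⟨T, hT⟩ := h1.exists_le_sylow
  have hzT : z' ∈ (T : Subgroup G) := hT (Subgroup.mem_zpowers z')
  have hz1 : z' ≠ 1 := by rintro rfl; rw [orderOf_one] at hz; omega
  haveI : Nontrivial ↥(T : Subgroup G) := ⟨⟨⟨z', hzT⟩, 1, fun h => hz1 (congrArg Subtype.val h)⟩⟩
  obtain ⟨z0, hz0, hz0c⟩ := exists_central_inv T.2
  by_contra hcon
  push Not at hcon
  have h0 : (z0 : G) = z' := by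
    by_contra hne
    refine hcon (z0 : G) (by rw [Subgroup.orderOf_coe, hz0]) hne ?_
    exact congrArg Subtype.val (hz0c ⟨z', hzT⟩)
  have hall : ∀ v : ↥(T : Subgroup G), orderOf v = 2 → v = z0 := by
    intro v hv
    by_contra hne
    refine hcon (v : G) (by rw [Subgroup.orderOf_coe, hv]) (fun h => hne (Subtype.ext (h.trans h0.symm))) ?_
    rw [← h0]
    exact (congrArg Subtype.val (hz0c v)).symm
  have huniq : ∀ H K : Subgroup ↥(T : Subgroup G), Nat.card H = 2 → Nat.card K = 2 → H = K := by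
    have key : ∀ H : Subgroup ↥(T : Subgroup G), Nat.card H = 2 → H = Subgroup.zpowers z0 := by
      intro H hH
      obtain ⟨v, hv⟩ := exists_prime_orderOf_dvd_card' (G := ↥H) 2 (by rw [hH])
      have h2 := hall v (by rw [Subgroup.orderOf_coe, hv])
      symm
      apply Subgroup.eq_of_le_of_card_ge
      · rw [Subgroup.zpowers_le, ← h2]; exact v.2
      · rw [hH, Nat.card_zpowers, hz0]
    intro H K hH hK
    rw [key H hH, key K hK]
  have h2G : 2 ∣ Nat.card G := by rw [← hz]; exact orderOf_dvd_natCard z'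
  have hcyc : ¬ IsCyclic ↥(T : Subgroup G) := by
    intro hc
    have hmf : (Nat.card G).minFac = 2 := (Nat.minFac_eq_two_iff _).mpr h2G
    exact simple_no_compl hna T h2G _ inferInstance (IsCyclic.isComplement' hmf hc)
  rcases Cfsg.Agent.S0016.result 2 T.2 huniq with h | ⟨-, n, ⟨e⟩⟩
  · exact hcyc h
  · rcases n with _ | m
    · rw [pow_zero] at e
      haveI := QuaternionGroup.quaternionGroup_one_isCyclic
      exact hcyc (isCyclic_of_surjective e.symm e.symm.surjective)
    · have h3 := Cfsg.Agent.S0201.result T m e (by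
        intro N hN hodd
        rcases hN.eq_bot_or_eq_top with h | h
        · exact h
        · exfalso
          rw [h, Subgroup.card_top] at hodd
          exact (Nat.not_even_iff_odd.mpr hodd) (even_iff_two_dvd.mpr h2G))
      rw [simple_center hna, Subgroup.card_bot] at h3
      omega

theorem cent_two {G : Type u} [Group G] [Finite G] [IsSimpleGroup G] (hna : ¬ IsMulCommutative G) (h : SNC G) {z : G} (hz : orderOf z = 2) :
    IsPGroup 2 ↥(Subgroup.centralizer ({z} : Set G)) := by
  obtain ⟨x, hx, hxz, hc⟩ := exists_comm_inv hna hz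
  have hzC : z ∈ Subgroup.centralizer ({z} : Set G) := by rw [Subgroup.mem_centralizer_singleton_iff]
  have hxC : x ∈ Subgroup.centralizer ({z} : Set G) := by rw [Subgroup.mem_centralizer_singleton_iff]; exact hc
  refine two_group (snc_sub h _) (z := ⟨z, hzC⟩) (x := ⟨x, hxC⟩) ?_ ?_ ?_ ?_
  · rw [Subgroup.orderOf_mk, hz]
  · rintro ⟨c, hc'⟩
    rw [Subgroup.mem_centralizer_singleton_iff] at hc'
    exact Subtype.ext hc'.symm
  · rw [Subgroup.orderOf_mk, hx]
  · intro h'
    exact hxz (congrArg Subtype.val h')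

theorem no_index_two {G : Type*} [Group G] [Finite G] [IsSimpleGroup G] (hna : ¬ IsMulCommutative G) (H : Subgroup G) : H.index ≠ 2 := by
  intro h
  have hn := Subgroup.normal_of_index_eq_two h
  rcases hn.eq_bot_or_eq_top with h1 | h1
  · rw [h1, Subgroup.index_bot] at h
    apply hna
    haveI : Fact (Nat.Prime 2) := ⟨Nat.prime_two⟩
    haveI := isCyclic_of_prime_card h
    exact IsCyclic.commutative
  · rw [h1, Subgroup.index_top] at h
    omega

theorem psl_of_snc {G : Type u} [Group G] [Finite G] [IsSimpleGroup G] (hna : ¬ IsMulCommutative G) (h : SNC G) :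
    ∃ (F : Type) (_ : Field F) (_ : Fintype F), Odd (Fintype.card F) ∧ Nonempty (G ≃* Matrix.ProjectiveSpecialLinearGroup (Fin 2) F) := by
  haveI : Fact (Nat.Prime 2) := ⟨Nat.prime_two⟩
  have h2G := even_of_snc hna h
  obtain T : Sylow 2 G := default
  haveI : Nontrivial ↥(T : Subgroup G) := by
    rw [Subgroup.nontrivial_iff_ne_bot]
    intro hb
    have h2 := T.not_dvd_index
    rw [hb, Subgroup.index_bot] at h2
    exact h2 h2G
  obtain ⟨z0, hz0, hz0c⟩ := exists_central_inv T.2
  set z : G := (z0 : G) with hzdef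
  have hz : orderOf z = 2 := by rw [hzdef, Subgroup.orderOf_coe, hz0]
  have hTC : (T : Subgroup G) ≤ Subgroup.centralizer ({z} : Set G) := by
    intro s hs
    rw [Subgroup.mem_centralizer_singleton_iff]
    exact (congrArg Subtype.val (hz0c ⟨s, hs⟩)).symm
  have hCT : Subgroup.centralizer ({z} : Set G) = (T : Subgroup G) := T.3 (cent_two hna h hz) hTC
  obtain ⟨x, hx, hxz, hc⟩ := exists_comm_inv hna hz
  have hxT : x ∈ (T : Subgroup G) := by rw [← hCT, Subgroup.mem_centralizer_singleton_iff]; exact hc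
  have hsT := snc_sub h (T : Subgroup G)
  set xT : ↥(T : Subgroup G) := ⟨x, hxT⟩ with hxTdef
  have hxTo : orderOf xT = 2 := by rw [hxTdef, Subgroup.orderOf_mk, hx]
  have hne : xT ≠ z0 := fun h' => hxz (congrArg Subtype.val h')
  have hc4 := cent_card hsT hz0 hz0c hxTo hne
  have hd4 : 4 ∣ Nat.card ↥(T : Subgroup G) := by rw [← hc4]; exact Subgroup.card_subgroup_dvd_card _
  -- the dihedral conclusion
  have hdih : ∀ n : ℕ, 2 ≤ n → Nonempty (↥(T : Subgroup G) ≃* DihedralGroup n) →
      ∃ (F : Type) (_ : Field F) (_ : Fintype F), Odd (Fintype.card F) ∧ Nonempty (G ≃* Matrix.ProjectiveSpecialLinearGroup (Fin 2) F) := by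
    intro n hn he
    have hO : Cfsg.oddCore ↥(Subgroup.centralizer ({z} : Set G)) = ⊥ := by
      have hp : IsPGroup 2 ↥(Subgroup.centralizer ({z} : Set G)) := by rw [hCT]; exact T.2
      rw [Subgroup.eq_bot_iff_card]
      have h1 := CfsgLib.Cores.pPrimeCore_coprime (G := ↥(Subgroup.centralizer ({z} : Set G))) 2
      obtain ⟨k, hk⟩ := (hp.to_subgroup (Cfsg.pPrimeCore 2 ↥(Subgroup.centralizer ({z} : Set G)))).exists_card_eq
      show Nat.card ↥(Cfsg.pPrimeCore 2 ↥(Subgroup.centralizer ({z} : Set G))) = 1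
      rw [hk] at h1 ⊢
      rcases k with _ | k
      · rfl
      · exfalso
        have h2 : 2 ∣ Nat.gcd (2 ^ (k + 1)) 2 := Nat.dvd_gcd (dvd_pow_self 2 (by omega)) dvd_rfl
        rw [Nat.Coprime] at h1
        rw [h1] at h2
        omega
    refine Cfsg.Agent.S0508.result T n hn he z hz z0.2 (fun s hs => (congrArg Subtype.val (hz0c ⟨s, hs⟩)).symm) ⊥ ?_ ?_ ?_ ?_
    · rw [hO, Subgroup.map_bot]
    · intro h'; exact absurd rfl h'
    · intro s _ hs
      exfalso
      apply hs
      rw [Subgroup.mem_centralizer_iff]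
      intro y hy
      have : y = 1 := Subgroup.mem_bot.mp hy
      rw [this]; simp
    · intro Y hY hY1
      exact absurd (le_bot_iff.mp hY) hY1
  rcases Cfsg.Agent.S3224.result T.2 xT hxTo hc4 with ⟨n, ⟨e⟩⟩ | hqd | h4
  · have hcP : Nat.card ↥(T : Subgroup G) = 2 * n := by
      rw [Nat.card_congr e.toEquiv, DihedralGroup.nat_card]
    have hpos := Nat.card_pos (α := ↥(T : Subgroup G))
    refine hdih n ?_ ⟨e⟩
    obtain ⟨t, ht⟩ := hd4
    omega
  · exfalso
    obtain ⟨k, x', y', hQ, -⟩ := CfsgLib.QD.exists_QDi hqd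
    obtain ⟨Q, hQT, ⟨eQ⟩⟩ := CfsgLib.NI8.qd_exists_quat hQ
    obtain ⟨c, hcN, hco, hcC⟩ := CfsgLib.NI8.qd_quat hQ (no_index_two hna) hQT ⟨eQ⟩
    have hq := CfsgLib.Q8.IsQ8.of_equiv eQ
    set t : G := ((eQ.symm (QuaternionGroup.a 2) : Q) : G) with ht
    have hto : orderOf t = 2 := by
      rw [orderOf_eq_prime_iff]
      exact ⟨by rw [sq]; exact hq.tt, hq.ne⟩
    have hct : c ∈ Subgroup.centralizer ({t} : Set G) := by
      rw [Subgroup.mem_centralizer_singleton_iff]
      exact mul_inv_eq_iff_eq_mul.mp (hq.conj_t hcN)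
    obtain ⟨j, hj⟩ := (cent_two hna h hto) ⟨c, hct⟩
    have hj' : c ^ (2 ^ j) = 1 := congrArg Subtype.val hj
    have h1 : orderOf c ∣ 2 ^ j := orderOf_dvd_of_pow_eq_one hj'
    have h2 : orderOf c = 1 := Nat.eq_one_of_dvd_coprimes (Nat.Coprime.pow_right j hco) dvd_rfl h1
    apply hcC
    rw [orderOf_eq_one_iff.mp h2]
    exact Subgroup.one_mem _
  · -- Klein four
    have htop : Subgroup.centralizer ({xT} : Set ↥(T : Subgroup G)) = ⊤ := Subgroup.eq_top_of_card_eq _ (by rw [hc4, h4])
    have hx2 : xT * xT = 1 := by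
      have := pow_orderOf_eq_one xT
      rwa [hxTo, sq] at this
    have hz2 : z0 * z0 = 1 := by
      have := pow_orderOf_eq_one z0
      rwa [hz0, sq] at this
    have hsq : ∀ u : ↥(T : Subgroup G), u ^ 2 = 1 := by
      intro u
      have h5 : u ∈ Subgroup.centralizer ({xT} : Set ↥(T : Subgroup G)) := by rw [htop]; trivial
      rw [Subgroup.mem_centralizer_singleton_iff] at h5
      rcases cent_four hsT hz0 hz0c hxTo hne u h5 with h6 | h6 | h6 | h6
      · rw [h6, one_pow]
      · rw [h6, sq, hx2]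
      · rw [h6, sq, hz2]
      · rw [h6, sq, mul_assoc, ← mul_assoc z0, hz0c xT, mul_assoc xT z0 z0, hz2, mul_one, hx2]
    haveI : IsKleinFour ↥(T : Subgroup G) := ⟨h4, by
      have h7 : Monoid.exponent ↥(T : Subgroup G) ∣ 2 := Monoid.exponent_dvd_of_forall_pow_eq_one hsq
      rcases (Nat.dvd_prime Nat.prime_two).mp h7 with h8 | h8
      · exfalso
        have h9 := Monoid.exp_eq_one_iff.mp h8
        exact not_subsingleton _ h9
      · exact h8⟩
    exact hdih 2 le_rfl IsKleinFour.nonempty_mulEquiv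

end CfsgLib.SC11
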