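import Mathlib
import Cfsg.Agent.LibCores
import Cfsg.Agent.LibCoprime
import Cfsg.Agent.LibH2SL3b
import Cfsg.Agent.LibH2PSt2
import Cfsg.Agent.LibPSolv19
import Cfsg.Agent.LibBGCore
import Cfsg.Prelude.Def_OddOrderLocal

/-! S1893: centralizers of self-centralizing normal subgroups of the Fitting subgroup of a Hall subgroup -/

set_option autoImplicit false
set_option maxHeartbeats 1000000

namespace CfsgLib.SCNH9

open Subgroup Cfsg
open scoped commutatorElement

universe u

theorem mem_fitting_of_stable {G : Type u} [Group G] [Finite G] [Group.IsSolvable G] {q : ℕ} [hq : Fact q.Prime]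
    (x : G) (hxK : ∀ p : ℕ, p.Prime → p ≠ q → x ∈ centralizer (pCore p G : Set G))
    (hxq : (QuotientGroup.mk x : G ⧸ centralizer (pCore q G : Set G)) ∈ pCore q (G ⧸ centralizer (pCore q G : Set G))) :
    x ∈ fittingSubgroup G := by
  set F := fittingSubgroup G with hF
  set K : Subgroup G := ⨆ p : {p : Nat.Primes // (p : ℕ) ≠ q}, pCore ((p : Nat.Primes) : ℕ) G with hK
  haveI hKn : K.Normal := by
    refine ⟨fun n hn g => ?_⟩
    have h1 : K.map (MulAut.conj g).toMonoidHom ≤ K := by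
      rw [hK, Subgroup.map_iSup]
      refine iSup_le fun p => ?_
      refine le_trans ?_ (le_iSup (fun p : {p : Nat.Primes // (p : ℕ) ≠ q} => pCore ((p : Nat.Primes) : ℕ) G) p)
      rintro _ ⟨y, hy, rfl⟩
      exact (inferInstance : (pCore ((p : Nat.Primes) : ℕ) G).Normal).conj_mem y hy g
    exact h1 ⟨n, hn, rfl⟩
  set C₀ := centralizer (pCore q G : Set G) with hC₀
  set U := (pCore q (G ⧸ C₀)).comap (QuotientGroup.mk' C₀) with hU
  set V := U ⊓ centralizer (K : Set G) with hV
  haveI : U.Normal := inferInstance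
  haveI : (centralizer (K : Set G)).Normal := inferInstance
  haveI : V.Normal := inferInstance
  have hFK : F ≤ pCore q G ⊔ K := by
    rw [hF, CfsgLib.Cores.fittingSubgroup_eq_iSup_pCore]
    refine iSup_le fun p => ?_
    by_cases h : (p : ℕ) = q
    · rw [h]; exact le_sup_left
    · exact (le_iSup (fun p : {p : Nat.Primes // (p : ℕ) ≠ q} => pCore ((p : Nat.Primes) : ℕ) G) ⟨p, h⟩).trans le_sup_right
  have hCF : ∀ y : G, y ∈ C₀ → y ∈ centralizer (K : Set G) → y ∈ F := by
    intro y h1 h2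
    apply CfsgLib.Cores.centralizer_fittingSubgroup_le
    have h3 : F ≤ centralizer ({y} : Set G) := by
      refine hFK.trans (sup_le ?_ ?_)
      · intro z hz
        rw [mem_centralizer_iff]
        rintro _ rfl
        exact (mem_centralizer_iff.1 h1 z hz).symm
      · intro z hz
        rw [mem_centralizer_iff]
        rintro _ rfl
        exact (mem_centralizer_iff.1 h2 z hz).symm
    rw [mem_centralizer_iff]
    intro z hz
    exact (mem_centralizer_iff.1 (h3 hz) y rfl).symm
  have hVq : IsPGroup q (V.map (QuotientGroup.mk' K)) := by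
    rintro ⟨_, v, hv, rfl⟩
    obtain ⟨k, hk⟩ := CfsgLib.Cores.pCore_isPGroup q ⟨_, hv.1⟩
    have hk' : (QuotientGroup.mk' C₀ v) ^ q ^ k = 1 := congrArg Subtype.val hk
    have h1 : v ^ q ^ k ∈ C₀ := by
      rw [← QuotientGroup.eq_one_iff (N := C₀), ← hk']; rfl
    have h2 : v ^ q ^ k ∈ centralizer (K : Set G) := pow_mem hv.2 _
    have h3 := hFK (hCF _ h1 h2)
    obtain ⟨a, ha, b, hb, hab⟩ := mem_sup_of_normal_right.1 h3
    obtain ⟨j, hj⟩ := CfsgLib.Cores.pCore_isPGroup q ⟨a, ha⟩
    have hj' : a ^ q ^ j = 1 := congrArg Subtype.val hj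
    refine ⟨k + j, Subtype.ext ?_⟩
    change (QuotientGroup.mk' K v) ^ q ^ (k + j) = 1
    rw [pow_add, pow_mul, ← map_pow, ← hab, map_mul]
    have hb' : QuotientGroup.mk' K b = 1 := (QuotientGroup.eq_one_iff b).2 hb
    rw [hb', mul_one, ← map_pow, hj', map_one]
  have hVn : Group.IsNilpotent V := by
    haveI := hVq.isNilpotent
    apply Subgroup.isNilpotent_of_ker_le_center ((QuotientGroup.mk' K).subgroupMap V)
    · intro v hv
      have hvK : (v : G) ∈ K := by
        rw [MonoidHom.mem_ker] at hv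
        exact (QuotientGroup.eq_one_iff _).1 (congrArg Subtype.val hv)
      rw [mem_center_iff]
      intro w
      apply Subtype.ext
      exact (mem_centralizer_iff.1 w.2.2 v hvK).symm
  apply CfsgLib.Cores.le_fittingSubgroup (N := V) inferInstance hVn
  refine mem_inf.2 ⟨hxq, ?_⟩
  rw [mem_centralizer_iff]
  have h1 : K ≤ centralizer ({x} : Set G) := by
    refine iSup_le fun p => ?_
    intro z hz
    rw [mem_centralizer_iff]
    rintro _ rfl
    exact (mem_centralizer_iff.1 (hxK _ p.1.2 p.2) z hz).symm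
  intro z hz
  exact (mem_centralizer_iff.1 (h1 hz) x rfl).symm

theorem quad_of_scn {G : Type u} [Group G] (F' A P₀ : Subgroup G) [hPn : P₀.Normal] (hPF : P₀ ≤ F')
    (hFA : F' ≤ normalizer (A : Set G)) (hCA : F' ⊓ centralizer (A : Set G) ≤ A)
    (x : G) (hx : x ∈ centralizer (A : Set G)) : ⁅⁅P₀, zpowers x⁆, zpowers x⁆ = ⊥ := by
  have hAx : ⁅A, zpowers x⁆ = ⊥ := by
    rw [commutator_eq_bot_iff_le_centralizer, le_centralizer_iff, zpowers_le]
    exact hx
  have h1 : ⁅A, P₀⁆ ≤ A := by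
    rw [← le_normalizer_iff_commutator_le_left]
    exact hPF.trans hFA
  have h2 : ⁅⁅P₀, zpowers x⁆, A⁆ = ⊥ := by
    apply commutator_commutator_eq_bot_of_rotate
    · rw [commutator_comm (zpowers x) A, hAx, commutator_bot_left]
    · rw [eq_bot_iff, ← hAx]
      exact commutator_mono h1 le_rfl
  have h3 : ⁅P₀, zpowers x⁆ ≤ P₀ := commutator_le_left _ _
  have h4 : ⁅P₀, zpowers x⁆ ≤ A :=
    le_trans (le_inf (h3.trans hPF) (commutator_eq_bot_iff_le_centralizer.1 h2)) hCA
  rw [eq_bot_iff, ← hAx]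
  exact commutator_mono h4 le_rfl

theorem le_of_prime_power {G : Type u} [Group G] [Finite G] (C A : Subgroup G)
    (h : ∀ q : ℕ, q.Prime → ∀ x ∈ C, (∃ k : ℕ, x ^ q ^ k = 1) → x ∈ A) : C ≤ A := by
  have key : ∀ n : ℕ, ∀ x ∈ C, orderOf x = n → x ∈ A := by
    intro n
    induction n using Nat.strong_induction_on with
    | _ n ih =>
    intro x hx hn
    by_cases h1 : n = 1
    · rw [h1] at hn
      rw [orderOf_eq_one_iff.1 hn]; exact one_mem _
    · obtain ⟨q, hq, hqn⟩ := Nat.exists_prime_and_dvd h1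
      have hn0 : n ≠ 0 := by rw [← hn]; exact (orderOf_pos x).ne'
      obtain ⟨e, m, hm, hem⟩ := Nat.exists_eq_pow_mul_and_not_dvd hn0 q hq.ne_one
      have hcop : (q ^ e).Coprime m := Nat.Coprime.pow_left e ((Nat.Prime.coprime_iff_not_dvd hq).2 hm)
      have he : e ≠ 0 := by
        rintro rfl
        rw [pow_zero, one_mul] at hem
        exact hm (hem ▸ hqn)
      have hm0 : m ≠ 0 := by rintro rfl; exact hn0 (by rw [hem, mul_zero])
      have h2 : x ^ m ∈ A := by
        apply h q hq _ (pow_mem hx m)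
        refine ⟨e, ?_⟩
        rw [← pow_mul, mul_comm, ← hem, ← hn, pow_orderOf_eq_one]
      have h3 : x ^ q ^ e ∈ A := by
        refine ih (orderOf (x ^ q ^ e)) ?_ _ (pow_mem hx _) rfl
        have h4 : orderOf (x ^ q ^ e) ∣ m := by
          apply orderOf_dvd_of_pow_eq_one
          rw [← pow_mul, ← hem, ← hn, pow_orderOf_eq_one]
        refine lt_of_le_of_lt (Nat.le_of_dvd (Nat.pos_of_ne_zero hm0) h4) ?_
        rw [hem]
        have h5 : 1 < q ^ e := Nat.one_lt_pow he hq.one_lt
        nlinarith [Nat.pos_of_ne_zero hm0]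
      have h6 := Nat.gcd_eq_gcd_ab (q ^ e) m
      rw [hcop] at h6
      have h7 : x = (x ^ q ^ e) ^ (Nat.gcdA (q ^ e) m) * (x ^ m) ^ (Nat.gcdB (q ^ e) m) := by
        rw [← zpow_natCast, ← zpow_natCast x m, ← zpow_mul, ← zpow_mul, ← zpow_add, ← h6]
        simp
      rw [h7]
      exact A.mul_mem (A.zpow_mem h3 _) (A.zpow_mem h2 _)
  intro x hx
  exact key _ x hx rfl

theorem cent_le {G : Type u} [Group G] [Finite G] [Group.IsSolvable G] (π : Set ℕ) (h2 : 2 ∉ π) (h3 : 3 ∉ π)
    (hπ : ∀ q : ℕ, q.Prime → q ∉ π → pCore q G = ⊥) (F' A : Subgroup G)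
    (hPF : ∀ p : ℕ, p.Prime → p ∈ π → pCore p G ≤ F')
    (hFA : F' ≤ normalizer (A : Set G)) (hCA : F' ⊓ centralizer (A : Set G) ≤ A) :
    centralizer (A : Set G) ≤ A := by
  have hPF' : ∀ p : ℕ, p.Prime → pCore p G ≤ F' := by
    intro p hp
    by_cases h : p ∈ π
    · exact hPF p hp h
    · rw [hπ p hp h]; exact bot_le
  have hFF : fittingSubgroup G ≤ F' := by
    rw [CfsgLib.Cores.fittingSubgroup_eq_iSup_pCore]
    exact iSup_le fun p => hPF' p p.2
  apply le_of_prime_power
  intro q hq x hx ⟨k, hk⟩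
  haveI := Fact.mk hq
  apply hCA
  refine mem_inf.2 ⟨hFF ?_, hx⟩
  have hxp : IsPGroup q (zpowers x) := by
    rintro ⟨y, hy⟩
    obtain ⟨j, rfl⟩ := mem_zpowers_iff.1 hy
    refine ⟨k, Subtype.ext ?_⟩
    change (x ^ j) ^ q ^ k = 1
    rw [← zpow_natCast, ← zpow_mul, mul_comm, zpow_mul, zpow_natCast, hk, one_zpow]
  have hother : ∀ p : ℕ, p.Prime → p ≠ q → x ∈ centralizer (pCore p G : Set G) := by
    intro p hp hpq
    haveI := Fact.mk hp
    have h1 := quad_of_scn F' A (pCore p G) (hPF' p hp) hFA hCA x hx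
    have hcop : (Nat.card (zpowers x)).Coprime (Nat.card (pCore p G)) := by
      obtain ⟨a, ha⟩ := IsPGroup.iff_card.1 hxp
      obtain ⟨b, hb⟩ := IsPGroup.iff_card.1 (CfsgLib.Cores.pCore_isPGroup (G := G) p)
      rw [ha, hb]
      exact Nat.Coprime.pow a b ((Nat.coprime_primes hq hp).2 hpq.symm)
    have h4 := CfsgLib.Coprime.commutator_eq_bot_of_commutator_commutator (A := zpowers x) (K := pCore p G)
      (by rw [normalizer_eq_top]; exact le_top) hcop (Or.inl inferInstance) h1
    rw [commutator_eq_bot_iff_le_centralizer, le_centralizer_iff, zpowers_le] at h4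
    exact h4
  by_cases hqπ : q ∈ π
  · have hq5 : 5 ≤ q := by
      have h5 : q ≠ 2 := fun h => h2 (h ▸ hqπ)
      have h6 : q ≠ 3 := fun h => h3 (h ▸ hqπ)
      have h7 : q ≠ 4 := fun h => by rw [h] at hq; revert hq; decide
      have := hq.two_le
      omega
    apply mem_fitting_of_stable (q := q) x hother
    have h1 := CfsgLib.H2PSt2.isPStableOn_of_noQuad
      (CfsgLib.H2SL3b.noQuad_all_of_psolv hq5 (CfsgLib.PSolv19.psolv_of_solvable _ rfl inferInstance))
      (pCore q G) (CfsgLib.Cores.pCore_isPGroup q)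
    exact h1 x (quad_of_scn F' A (pCore q G) (hPF' q hq) hFA hCA x hx)
  · apply CfsgLib.Cores.centralizer_fittingSubgroup_le
    have h4 : fittingSubgroup G ≤ centralizer ({x} : Set G) := by
      rw [CfsgLib.Cores.fittingSubgroup_eq_iSup_pCore]
      refine iSup_le fun p => ?_
      by_cases h : (p : ℕ) = q
      · rw [h, hπ q hq hqπ]; exact bot_le
      · intro z hz
        rw [mem_centralizer_iff]
        rintro _ rfl
        exact (mem_centralizer_iff.1 (hother p p.2 h) z hz).symm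
    rw [mem_centralizer_iff]
    intro z hz
    exact (mem_centralizer_iff.1 (h4 hz) x rfl).symm

theorem main {S : Type u} [Group S] [Finite S] [Group.IsSolvable S]
    (π : Set ℕ) (h2 : 2 ∉ π) (h3 : 3 ∉ π) (H : Subgroup S) (hH : IsPiHall π H)
    (A : Subgroup S) (hA : IsSCN ((fittingSubgroup H).map H.subtype) A) :
    ∃ D : Subgroup S, D ≤ Subgroup.centralizer (A : Set S) ∧
      (∀ c ∈ Subgroup.centralizer (A : Set S), ∀ d ∈ D, c * d * c⁻¹ ∈ D) ∧
      A ⊓ D = ⊥ ∧ A ⊔ D = Subgroup.centralizer (A : Set S) ∧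
      ∀ q : ℕ, q.Prime → q ∣ Nat.card D → q ∉ π := by
  obtain ⟨hAF, hFA, hCA⟩ := hA
  set F := (fittingSubgroup H).map H.subtype with hF
  have hFH : F ≤ H := map_subtype_le _
  have hAH : A ≤ H := hAF.trans hFH
  have hAA : A ≤ centralizer (A : Set S) := by rw [← hCA]; exact inf_le_right |>.trans (by rw [hCA])
  set N := piCore πᶜ S with hN
  have hNpi : ∀ q : ℕ, q.Prime → q ∣ Nat.card N → q ∉ π := CfsgLib.BGPi.isPi_piCore πᶜ
  set f := QuotientGroup.mk' N with hf
  have hfs : Function.Surjective f := QuotientGroup.mk'_surjective N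
  have hker : ∀ x : S, f x = 1 ↔ x ∈ N := fun x => QuotientGroup.eq_one_iff x
  have hHN : H ⊓ N = ⊥ := by
    have hco : (Nat.card H).Coprime (Nat.card N) := by
      apply Nat.Coprime.symm
      apply Nat.coprime_of_dvd
      intro k hk h4 h5
      exact hNpi k hk h4 (hH.1 k hk h5)
    exact disjoint_iff.1 (Subgroup.disjoint_of_coprime_natCard hco)
  have hinj : ∀ h ∈ H, h ∈ N → h = 1 := by
    intro h h4 h5
    have h6 : h ∈ H ⊓ N := mem_inf.2 ⟨h4, h5⟩
    rwa [hHN, Subgroup.mem_bot] at h6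
  have hcent : centralizer ((A.map f : Subgroup (S ⧸ N)) : Set (S ⧸ N)) ≤ A.map f := by
    apply cent_le π h2 h3 _ (F.map f)
    · intro p hp hpπ
      haveI := Fact.mk hp
      have hPH : pCore p (S ⧸ N) ≤ H.map f := by
        obtain ⟨T⟩ : Nonempty (Sylow p (H.map f)) := inferInstance
        have hTp : IsPGroup p ((T : Subgroup (H.map f)).map (H.map f).subtype) := T.isPGroup'.map _
        have hTi : ¬ p ∣ ((T : Subgroup (H.map f)).map (H.map f).subtype).index := by
          rw [index_map_subtype]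
          intro h
          rcases hp.dvd_mul.1 h with h | h
          · exact T.not_dvd_index h
          · exact hH.2 p hp hpπ (h.trans (H.index_map_dvd hfs))
        exact (CfsgLib.Cores.pCore_le_sylow (hTp.toSylow hTi)).trans (map_subtype_le _)
      intro y hy
      obtain ⟨h, hhH, rfl⟩ := hPH hy
      set P₁ : Subgroup H := ((pCore p (S ⧸ N)).comap f).subgroupOf H with hP₁
      have hP₁n : P₁.Normal := by
        have : ((pCore p (S ⧸ N)).comap f).Normal := inferInstance
        exact this.subgroupOf H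
      have hP₁p : IsPGroup p P₁ := by
        rintro ⟨⟨z, hz⟩, hz'⟩
        obtain ⟨k, hk⟩ := CfsgLib.Cores.pCore_isPGroup p ⟨f z, hz'⟩
        refine ⟨k, Subtype.ext (Subtype.ext ?_)⟩
        apply hinj _ (pow_mem hz _)
        rw [← hker, map_pow]
        exact congrArg Subtype.val hk
      have h4 : (⟨h, hhH⟩ : H) ∈ fittingSubgroup H :=
        CfsgLib.Cores.le_fittingSubgroup hP₁n hP₁p.isNilpotent hy
      exact ⟨h, ⟨⟨h, hhH⟩, h4, rfl⟩, rfl⟩
    · have h4 : F.map f ≤ (normalizer (A : Set S)).map f := Subgroup.map_mono hFA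
      exact h4.trans (Subgroup.le_normalizer_map f)
    · rintro _ ⟨⟨h, hh, rfl⟩, hc⟩
      refine ⟨h, ?_, rfl⟩
      have h4 : h ∈ F ⊓ centralizer (A : Set S) := by
        refine mem_inf.2 ⟨hh, mem_centralizer_iff.2 ?_⟩
        intro a ha
        have h5 : f a * f h = f h * f a := mem_centralizer_iff.1 hc (f a) ⟨a, ha, rfl⟩
        have h6 : (a * h) * (h * a)⁻¹ = 1 := by
          apply hinj
          · exact H.mul_mem (H.mul_mem (hAH ha) (hFH hh)) (H.inv_mem (H.mul_mem (hFH hh) (hAH ha)))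
          · rw [← hker, map_mul, map_inv, map_mul, map_mul, h5, mul_inv_cancel]
        exact mul_inv_eq_one.1 h6
      rwa [hCA] at h4
    · intro q hq hqπ
      haveI := Fact.mk hq
      have h4 : (pCore q (S ⧸ N)).comap f ≤ N := by
        apply CfsgLib.BGPi.le_piCore inferInstance
        intro r hr hrd
        rw [CfsgLib.Cores.card_comap_mk] at hrd
        rcases hr.dvd_mul.1 hrd with h | h
        · exact hNpi r hr h
        · obtain ⟨k, hk⟩ := IsPGroup.iff_card.1 (CfsgLib.Cores.pCore_isPGroup (G := S ⧸ N) q)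
          rw [hk] at h
          have h5 := (Nat.prime_dvd_prime_iff_eq hr hq).1 (hr.dvd_of_dvd_pow h)
          rw [h5]; exact hqπ
      rw [eq_bot_iff]
      intro y hy
      obtain ⟨s, rfl⟩ := hfs y
      rw [Subgroup.mem_bot, hker]
      exact h4 hy
  refine ⟨N ⊓ centralizer (A : Set S), inf_le_right, ?_, ?_, ?_, ?_⟩
  · intro c hc d hd
    refine mem_inf.2 ⟨(inferInstance : N.Normal).conj_mem d hd.1 c, ?_⟩
    exact mul_mem (mul_mem hc hd.2) (inv_mem hc)
  · rw [eq_bot_iff, ← hHN]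
    exact inf_le_inf hAH inf_le_left
  · apply le_antisymm (sup_le hAA inf_le_right)
    intro c hc
    have h4 : f c ∈ centralizer ((A.map f : Subgroup (S ⧸ N)) : Set (S ⧸ N)) := by
      rw [mem_centralizer_iff]
      rintro _ ⟨a, ha, rfl⟩
      rw [← map_mul, ← map_mul, mem_centralizer_iff.1 hc a ha]
    obtain ⟨a, ha, hac⟩ := hcent h4
    have h5 : a⁻¹ * c ∈ N ⊓ centralizer (A : Set S) := by
      refine mem_inf.2 ⟨?_, mul_mem (inv_mem (hAA ha)) hc⟩
      rw [← hker, map_mul, map_inv, hac, inv_mul_cancel]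
    have h6 : c = a * (a⁻¹ * c) := by group
    rw [h6]
    exact mul_mem (mem_sup_left ha) (mem_sup_right h5)
  · intro q hq hqd
    exact hNpi q hq (hqd.trans (card_dvd_of_le inf_le_left))

end CfsgLib.SCNH9
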