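import Mathlib

set_option autoImplicit false

/-! Groups whose Sylow `2`-subgroups `P` have `P/P'` elementary abelian: an abstract criterion (lead). -/

namespace CfsgLib.SOm

open Subgroup

/-- squares of elements of Sylow 2-subgroups are in the derived group -/
def SE (G : Type*) [Group G] : Prop :=
  ∀ (P : Sylow 2 G) (x : (P : Subgroup G)), x ^ 2 ∈ commutator (P : Subgroup G)

/-- the existence form -/
def SE' (G : Type*) [Group G] : Prop :=
  ∃ P : Subgroup G, IsPGroup 2 P ∧ ¬ 2 ∣ P.index ∧ ∀ x ∈ P, x ^ 2 ∈ ⁅P, P⁆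

lemma map_comm {G : Type*} [Group G] (P : Subgroup G) : (commutator P).map P.subtype = ⁅P, P⁆ := by
  rw [commutator_def, Subgroup.map_commutator]
  congr 1 <;> rw [← MonoidHom.range_eq_map, Subgroup.range_subtype]

lemma mem_comm_iff {G : Type*} [Group G] (P : Subgroup G) (x : P) : x ∈ commutator P ↔ (x : G) ∈ ⁅P, P⁆ := by
  rw [← map_comm P, Subgroup.mem_map]
  constructor
  · intro h
    exact ⟨x, h, rfl⟩
  · rintro ⟨y, hy, hyx⟩
    have : y = x := Subtype.ext hyx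
    rwa [← this]

theorem SE'.se {G : Type*} [Group G] [Finite G] (h : SE' G) : SE G := by
  obtain ⟨P0, hp, hi, hx⟩ := h
  intro P x
  have : Fact (Nat.Prime 2) := ⟨Nat.prime_two⟩
  rw [mem_comm_iff]
  let S0 : Sylow 2 G := hp.toSylow hi
  obtain ⟨g, hg⟩ := MulAction.exists_smul_eq G S0 P
  have hP : (P : Subgroup G) = P0.map (MulAut.conj g).toMonoidHom := by
    rw [← hg]
    rfl
  obtain ⟨x, hxm⟩ := x
  change x ^ 2 ∈ _
  rw [hP] at hxm ⊢
  rw [← Subgroup.map_commutator]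
  obtain ⟨y, hy, rfl⟩ := hxm
  rw [← map_pow]
  exact Subgroup.mem_map_of_mem _ (hx y hy)

theorem SE'.congr {G H : Type*} [Group G] [Group H] (e : G ≃* H) (h : SE' G) : SE' H := by
  obtain ⟨P0, hp, hi, hx⟩ := h
  refine ⟨P0.map e.toMonoidHom, hp.map _, ?_, ?_⟩
  · rw [Subgroup.index_map_of_bijective e.bijective]
    exact hi
  · rintro _ ⟨y, hy, rfl⟩
    rw [← Subgroup.map_commutator, ← map_pow]
    exact Subgroup.mem_map_of_mem _ (hx y hy)

/-- intersection of a subgroup with a normal subgroup -/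
lemma relIndex_dvd {G : Type*} [Group G] [Finite G] (P N : Subgroup G) [N.Normal] :
    P.relIndex N ∣ P.index := by
  have h1 : Nat.card P * P.relIndex (P ⊔ N) = Nat.card N * N.relIndex P := by
    rw [← Subgroup.relIndex_sup_right (K := N) (H := P), ← Subgroup.relIndex_bot_left, ← Subgroup.relIndex_bot_left,
      Subgroup.relIndex_mul_relIndex _ _ _ bot_le le_sup_left, Subgroup.relIndex_mul_relIndex _ _ _ bot_le le_sup_right]
  have h2 : Nat.card P = Nat.card (N ⊓ P : Subgroup G) * N.relIndex P := by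
    rw [← Subgroup.inf_relIndex_right, ← Subgroup.relIndex_bot_left, ← Subgroup.relIndex_bot_left,
      Subgroup.relIndex_mul_relIndex _ _ _ bot_le inf_le_right]
  have h3 : Nat.card N = Nat.card (N ⊓ P : Subgroup G) * P.relIndex N := by
    rw [← Subgroup.inf_relIndex_left, ← Subgroup.relIndex_bot_left, ← Subgroup.relIndex_bot_left,
      Subgroup.relIndex_mul_relIndex _ _ _ bot_le inf_le_left]
  have h4 : P.relIndex (P ⊔ N) = P.relIndex N := by
    have hpos : 0 < Nat.card (N ⊓ P : Subgroup G) * N.relIndex P := by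
      rw [← h2]
      exact Nat.card_pos
    rw [h2, h3] at h1
    apply Nat.eq_of_mul_eq_mul_left hpos
    rw [h1]
    ring
  rw [← h4]
  exact Subgroup.relIndex_dvd_index_of_le le_sup_left

/-- the criterion -/
theorem key {O R : Type*} [Group O] [Group R] {ι : Type*} (Ω : Subgroup O) [Ω.Normal]
    (i0 i1 : ι) (h01 : i1 ≠ i0) (emb : ι → R →* O)
    (hcomm : ∀ i, i ≠ i0 → ∀ a b, Commute (emb i a) (emb i0 b))
    (D : Subgroup R) (hD : D ≤ closure {r | r ∈ D ∧ r * r = 1})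
    (hD1 : ∀ d ∈ D, emb i0 d ∈ Ω → ∃ r ∈ D, r * r = 1 ∧ r * d⁻¹ * r⁻¹ = d)
    (hcl : ∀ i, ∀ d ∈ D, emb i d * emb i0 d⁻¹ ∈ Ω)
    (C : Set O) (hC : ∀ c ∈ C, c * c = 1 ∧ ∃ r ∈ D, r * r = 1 ∧ Commute c (emb i0 r) ∧ c * emb i0 r ∈ Ω)
    (T : Set O) (hT : ∀ t ∈ T, t * t = 1 ∧ t ∈ Ω) (P : Subgroup O)
    (hP : P = closure ({g | ∃ i, ∃ d ∈ D, g = emb i d} ∪ C ∪ T)) :
    ∀ x ∈ P ⊓ Ω, x ^ 2 ∈ ⁅P ⊓ Ω, P ⊓ Ω⁆ := by
  have hPe : ∀ i, ∀ d ∈ D, emb i d ∈ P := fun i d hd => by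
    rw [hP]
    exact subset_closure (Or.inl (Or.inl ⟨i, d, hd, rfl⟩))
  have hPC : ∀ c ∈ C, c ∈ P := fun c hc => by
    rw [hP]
    exact subset_closure (Or.inl (Or.inr hc))
  have hPT : ∀ c ∈ T, c ∈ P := fun c hc => by
    rw [hP]
    exact subset_closure (Or.inr hc)
  set P0 := P ⊓ Ω with hP0
  set K := ⁅P0, P0⁆ with hK
  have hKP : K ≤ P0 := Subgroup.commutator_le_self P0
  have hKn : ∀ k ∈ K, ∀ p ∈ P0, p * k * p⁻¹ ∈ K := by
    intro k hk p hp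
    have h1 : p * k * p⁻¹ * k⁻¹ ∈ K := commutator_mem_commutator hp (hKP hk)
    have h2 := K.mul_mem h1 hk
    simpa using h2
  -- S2
  have hmul : ∀ x ∈ P0, ∀ y ∈ P0, x ^ 2 ∈ K → y ^ 2 ∈ K → (x * y) ^ 2 ∈ K := by
    intro x hx y hy h1 h2
    have e : (x * y) ^ 2 = x ^ 2 * ((x⁻¹ * y * x⁻¹⁻¹ * y⁻¹) * (y ^ 2)) := by
      simp only [pow_two]
      group
    rw [e]
    refine K.mul_mem h1 (K.mul_mem ?_ h2)
    exact commutator_mem_commutator (P0.inv_mem hx) hy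
  let S : Subgroup O :=
    { carrier := {x | x ∈ P0 ∧ x ^ 2 ∈ K}
      mul_mem' := fun {x y} hx hy => ⟨P0.mul_mem hx.1 hy.1, hmul x hx.1 y hy.1 hx.2 hy.2⟩
      one_mem' := ⟨P0.one_mem, by rw [one_pow]; exact K.one_mem⟩
      inv_mem' := fun {x} hx => ⟨P0.inv_mem hx.1, by rw [inv_pow]; exact K.inv_mem hx.2⟩ }
  have hSinv : ∀ x ∈ P, x ∈ Ω → x * x = 1 → x ∈ S := fun x h1 h2 h3 => ⟨⟨h1, h2⟩, by rw [pow_two, h3]; exact K.one_mem⟩
  have hP0n : ∀ x ∈ P0, ∀ p ∈ P, p * x * p⁻¹ ∈ P0 := fun x hx p hp =>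
    ⟨P.mul_mem (P.mul_mem hp hx.1) (P.inv_mem hp), Normal.conj_mem inferInstance x hx.2 p⟩
  have hKnP : ∀ k ∈ K, ∀ p ∈ P, p * k * p⁻¹ ∈ K := by
    intro k hk p hp
    have : (P0.map (MulAut.conj p).toMonoidHom) ≤ P0 := by
      rintro _ ⟨y, hy, rfl⟩
      exact hP0n y hy p hp
    have h2 : K.map (MulAut.conj p).toMonoidHom ≤ K := by
      rw [hK, Subgroup.map_commutator]
      exact Subgroup.commutator_mono this this
    exact h2 ⟨k, hk, rfl⟩
  have hSn : ∀ x ∈ S, ∀ p ∈ P, p * x * p⁻¹ ∈ S := fun x hx p hp =>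
    ⟨hP0n x hx.1 p hp, by rw [conj_pow]; exact hKnP _ hx.2 p hp⟩
  -- pairs
  have hpair : ∀ i, ∀ d ∈ D, emb i d * emb i0 d⁻¹ ∈ S := by
    intro i
    by_cases hi : i = i0
    · intro d _
      rw [hi, ← map_mul, mul_inv_cancel, map_one]
      exact S.one_mem
    intro d hd
    have hD' : closure {r | r ∈ D ∧ r * r = 1} ≤ D := by
      rw [closure_le]
      exact fun r hr => hr.1
    refine Subgroup.closure_induction (p := fun d _ => emb i d * emb i0 d⁻¹ ∈ S) ?_ ?_ ?_ ?_ (hD hd)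
    · rintro r ⟨hr, hr2⟩
      have hri : r⁻¹ = r := inv_eq_of_mul_eq_one_left hr2
      refine hSinv _ (P.mul_mem (hPe _ _ hr) (hPe _ _ (D.inv_mem hr))) (hcl i r hr) ?_
      rw [hri]
      have := hcomm i hi r r
      calc emb i r * emb i0 r * (emb i r * emb i0 r) = emb i r * (emb i0 r * emb i r) * emb i0 r := by group
        _ = emb i r * (emb i r * emb i0 r) * emb i0 r := by rw [this.eq]
        _ = emb i (r * r) * emb i0 (r * r) := by rw [map_mul, map_mul]; group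
        _ = 1 := by rw [hr2, map_one, map_one, mul_one]
    · rw [inv_one, map_one, map_one, mul_one]
      exact S.one_mem
    · intro x y hx hy h1 h2
      have e : emb i (x * y) * emb i0 (x * y)⁻¹ = (emb i x * emb i0 x⁻¹) * (emb i0 x * (emb i y * emb i0 y⁻¹) * (emb i0 x)⁻¹) := by
        simp only [map_mul, map_inv, mul_inv_rev]
        group
      rw [e]
      exact S.mul_mem h1 (hSn _ h2 _ (hPe _ _ (hD' hx)))
    · intro x hx h1
      have e : emb i x⁻¹ * emb i0 x⁻¹⁻¹ = (emb i x * emb i0 x⁻¹)⁻¹ := by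
        rw [mul_inv_rev, ← map_inv, ← map_inv, (hcomm i hi x⁻¹ x⁻¹⁻¹).eq]
      rw [e]
      exact S.inv_mem h1
  -- every element of P
  have hall : ∀ g ∈ P, ∃ s ∈ S, ∃ d ∈ D, g = s * emb i0 d := by
    intro g hg
    rw [hP] at hg
    refine Subgroup.closure_induction (p := fun g _ => ∃ s ∈ S, ∃ d ∈ D, g = s * emb i0 d) ?_ ?_ ?_ ?_ hg
    · rintro g ((⟨i, d, hd, rfl⟩ | hg) | hg)
      · refine ⟨_, hpair i d hd, d, hd, ?_⟩
        rw [map_inv, inv_mul_cancel_right]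
      · obtain ⟨h1, r, hr, hr2, hcr, hΩ⟩ := hC g hg
        refine ⟨g * emb i0 r, hSinv _ (P.mul_mem (hPC g hg) (hPe _ _ hr)) hΩ ?_, r, hr, ?_⟩
        · calc g * emb i0 r * (g * emb i0 r) = g * (emb i0 r * g) * emb i0 r := by group
            _ = g * (g * emb i0 r) * emb i0 r := by rw [hcr.eq]
            _ = (g * g) * emb i0 (r * r) := by rw [map_mul]; group
            _ = 1 := by rw [h1, hr2, map_one, mul_one]
        · rw [mul_assoc, ← map_mul, hr2, map_one, mul_one]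
      · refine ⟨g, hSinv _ (hPT g hg) (hT g hg).2 (hT g hg).1, 1, D.one_mem, ?_⟩
        rw [map_one, mul_one]
    · exact ⟨1, S.one_mem, 1, D.one_mem, by rw [map_one, mul_one]⟩
    · rintro _ _ _ _ ⟨s, hs, d, hd, rfl⟩ ⟨s', hs', d', hd', rfl⟩
      refine ⟨s * (emb i0 d * s' * (emb i0 d)⁻¹), S.mul_mem hs (hSn _ hs' _ (hPe _ _ hd)), d * d', D.mul_mem hd hd', ?_⟩
      rw [map_mul]
      group
    · rintro _ _ ⟨s, hs, d, hd, rfl⟩
      refine ⟨emb i0 d⁻¹ * s⁻¹ * (emb i0 d⁻¹)⁻¹, hSn _ (S.inv_mem hs) _ (hPe _ _ (D.inv_mem hd)), d⁻¹, D.inv_mem hd, ?_⟩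
      simp only [map_inv]
      group
  intro x hx
  obtain ⟨s, hs, d, hd, rfl⟩ := hall x hx.1
  have hdΩ : emb i0 d ∈ Ω := by
    have := Ω.mul_mem (Ω.inv_mem hs.1.2) hx.2
    rwa [inv_mul_cancel_left] at this
  have hdS : emb i0 d ∈ S := by
    refine ⟨⟨hPe _ _ hd, hdΩ⟩, ?_⟩
    obtain ⟨r, hr, hr2, hrd⟩ := hD1 d hd hdΩ
    -- y = emb i1 r * emb i0 r
    have hri : r⁻¹ = r := inv_eq_of_mul_eq_one_left hr2
    have hy : emb i1 r * emb i0 r ∈ P0 := by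
      refine ⟨P.mul_mem (hPe _ _ hr) (hPe _ _ hr), ?_⟩
      have := hcl i1 r hr
      rwa [hri] at this
    have hd0 : emb i0 d ∈ P0 := ⟨hPe _ _ hd, hdΩ⟩
    have h1 : emb i0 d * (emb i1 r * emb i0 r) * (emb i0 d)⁻¹ * (emb i1 r * emb i0 r)⁻¹ ∈ K :=
      commutator_mem_commutator hd0 hy
    have e : emb i0 d * (emb i1 r * emb i0 r) * (emb i0 d)⁻¹ * (emb i1 r * emb i0 r)⁻¹ = (emb i0 d) ^ 2 := by
      rw [mul_inv_rev]
      have hc := hcomm i1 h01 r (r * d⁻¹ * r⁻¹)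
      calc emb i0 d * (emb i1 r * emb i0 r) * (emb i0 d)⁻¹ * ((emb i0 r)⁻¹ * (emb i1 r)⁻¹)
          = emb i0 d * (emb i1 r * emb i0 (r * d⁻¹ * r⁻¹)) * (emb i1 r)⁻¹ := by
            simp only [map_mul, map_inv]
            group
        _ = emb i0 d * (emb i0 (r * d⁻¹ * r⁻¹) * emb i1 r) * (emb i1 r)⁻¹ := by rw [hc.eq]
        _ = _ := by rw [hrd, pow_two]; group
    rwa [e] at h1
  exact (S.mul_mem hs hdS).2

/-- the final form -/
theorem se_of_key {O : Type*} [Group O] [Finite O] (Ω : Subgroup O) [Ω.Normal] (P : Subgroup O)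
    (hp : IsPGroup 2 P) (hi : ¬ 2 ∣ P.index) (h : ∀ x ∈ P ⊓ Ω, x ^ 2 ∈ ⁅P ⊓ Ω, P ⊓ Ω⁆) : SE' Ω := by
  refine ⟨P.subgroupOf Ω, ?_, ?_, ?_⟩
  · exact hp.comap_subtype
  · intro h2
    exact hi (h2.trans (relIndex_dvd P Ω))
  · intro x hx
    have h1 := h x ⟨hx, x.2⟩
    have e : ⁅P.subgroupOf Ω, P.subgroupOf Ω⁆.map Ω.subtype = ⁅P ⊓ Ω, P ⊓ Ω⁆ := by
      rw [Subgroup.map_commutator, Subgroup.subgroupOf_map_subtype]
    rw [← e] at h1
    obtain ⟨y, hy, hyx⟩ := h1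
    have : y = x ^ 2 := Subtype.ext hyx
    rwa [← this]

end CfsgLib.SOm
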