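import Mathlib
import Cfsg.Agent.EqBase
import Cfsg.Agent.LibZStar3
import Cfsg.Agent.LibPSolv19
import Cfsg.Agent.LibCores
/-!
# Groups with an involution centralizer Z₂ × S₄ (helper11)
-/
set_option autoImplicit false
set_option linter.all false
set_option maxRecDepth 100000
open Cfsg

namespace CfsgLib.SX11

universe u

abbrev H0 : Type := Multiplicative (ZMod 2) × Equiv.Perm (Fin 4)

/-- the central involution -/
def t0 : H0 := (Multiplicative.ofAdd 1, 1)
/-- a double transposition -/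
def zz : H0 := (1, Equiv.swap 0 1 * Equiv.swap 2 3)
/-- another double transposition -/
def vv : H0 := (1, Equiv.swap 0 2 * Equiv.swap 1 3)
/-- a transposition -/
def bb : H0 := (1, Equiv.swap 0 1)
/-- a four-cycle -/
def aa : H0 := (1, Equiv.swap 0 2 * Equiv.swap 1 3 * Equiv.swap 0 1)

theorem f_center : ∀ x : H0, (∀ y, x * y = y * x) → x = 1 ∨ x = t0 := by decide +kernel
theorem f_comm : ∀ x y : H0, x * zz = zz * x → y * zz = zz * y → x * y * x⁻¹ * y⁻¹ = 1 ∨ x * y * x⁻¹ * y⁻¹ = zz := by decide +kernel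
theorem f_comm2 : vv * zz = zz * vv ∧ bb * zz = zz * bb ∧ bb * vv * bb⁻¹ * vv⁻¹ = zz := by decide +kernel
theorem f_card : Fintype.card {x : H0 // x * zz = zz * x} = 16 := by decide +kernel
/-- the normal elementary abelian subgroup of order eight -/
def inE (x : H0) : Prop := x = 1 ∨ x = t0 ∨ x = zz ∨ x = t0 * zz ∨ x = vv ∨ x = t0 * vv ∨ x = zz * vv ∨ x = t0 * (zz * vv)
instance : DecidablePred inE := fun x => by unfold inE; infer_instance
theorem f_E : ∀ x : H0, inE x → x = 1 ∨ x = t0 ∨ (∃ h, h * zz * h⁻¹ = x) ∨ (∃ h, h * (t0 * zz) * h⁻¹ = x) := by decide +kernel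
theorem f_E2 : ∀ x : H0, ¬ inE x → ∃ h, (x * (h * x * h⁻¹)) ^ 3 = 1 ∧ x * (h * x * h⁻¹) ≠ 1 := by decide +kernel
theorem f_E3 : ∀ x y : H0, inE x → inE y → x * y = y * x := by decide +kernel
theorem f_E4 : ∀ x h : H0, inE x → inE (h * x * h⁻¹) := by decide +kernel
theorem f_V1 : ∃ a : H0, ∃ b : H0, a * a * a = 1 ∧ b * b * b = 1 ∧ zz = a * b := by decide +kernel
theorem f_V2 : ∃ a : H0, ∃ b : H0, a * a * a = 1 ∧ b * b * b = 1 ∧ vv = a * b := by decide +kernel
theorem f_vconj : (∃ h, h * zz * h⁻¹ = vv) ∧ (∃ h, h * zz * h⁻¹ = zz * vv) := by decide +kernel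
theorem f_t0c : ∀ x : H0, x * t0 = t0 * x := by decide +kernel
theorem f_t0 : t0 ≠ 1 ∧ t0 * t0 = 1 ∧ zz ≠ 1 ∧ zz * zz = 1 ∧ vv ≠ 1 ∧ vv * vv = 1 ∧ bb ≠ 1 ∧ bb * bb = 1 ∧ t0 ≠ zz := by decide +kernel
theorem f_H0 : Fintype.card H0 = 48 := by decide +kernel

end CfsgLib.SX11
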