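import Mathlib
import Cfsg.Agent.EqBase
import Cfsg.Agent.LibSX11a
/-!
# Groups with an involution centralizer Z₂ × S₄, part 2 (helper11)
-/
set_option autoImplicit false
set_option linter.all false
open Cfsg
open scoped commutatorElement

namespace CfsgLib.SX11

universe u

structure Cf {G : Type u} [Group G] (t : G) (ι : H0 →* G) : Prop where
  inj : Function.Injective ι
  rng : ∀ g, g * t = t * g ↔ ∃ x, ι x = g
  tt : ι t0 = t
  cz : ∀ g, g * ι zz = ι zz * g → g * t = t * g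
  syl : ∀ S : Sylow 2 G, Nat.card (S : Subgroup G) = 16

variable {G : Type u} [Group G] {t : G} {ι : H0 →* G}

theorem card_T0 {ι : H0 →* G} (hinj : Function.Injective ι) (T : Subgroup G) (hT : ∀ g, g ∈ T ↔ ∃ x, x * zz = zz * x ∧ ι x = g) :
    Nat.card T = 16 := by
  rw [← f_card, ← Nat.card_eq_fintype_card]
  symm
  apply Nat.card_congr
  refine Equiv.ofBijective (fun x => ⟨ι x.1, (hT _).mpr ⟨x.1, x.2, rfl⟩⟩) ⟨?_, ?_⟩
  · rintro ⟨x, hx⟩ ⟨y, hy⟩ hxy
    exact Subtype.ext (hinj (congrArg Subtype.val hxy))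
  · rintro ⟨g, hg⟩
    obtain ⟨x, hx, rfl⟩ := (hT g).mp hg
    exact ⟨⟨x, hx⟩, rfl⟩

theorem Cf.of_hyp [Finite G] (t : G) (ht : orderOf t = 2) (T : Sylow 2 G) (htc : ∀ s ∈ (T : Subgroup G), s * t = t * s)
    (e : ↥(Subgroup.centralizer ({t} : Set G)) ≃* H0)
    (h2 : ∀ S : Sylow 2 G, Subgroup.centralizer ((⁅(S : Subgroup G), (S : Subgroup G)⁆ : Subgroup G) : Set G) = (S : Subgroup G)) :
    Cf t ((Subgroup.centralizer ({t} : Set G)).subtype.comp e.symm.toMonoidHom) := by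
  haveI : Fact (Nat.Prime 2) := ⟨Nat.prime_two⟩
  set ι : H0 →* G := (Subgroup.centralizer ({t} : Set G)).subtype.comp e.symm.toMonoidHom with hι
  have hinj : Function.Injective ι := by
    rw [hι]
    exact (Subgroup.subtype_injective _).comp e.symm.injective
  have hrng : ∀ g, g * t = t * g ↔ ∃ x, ι x = g := by
    intro g
    rw [← Subgroup.mem_centralizer_singleton_iff]
    constructor
    · intro hg
      exact ⟨e ⟨g, hg⟩, by rw [hι]; simp⟩
    · rintro ⟨x, rfl⟩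
      exact (e.symm x).2
  have ht1 : t ≠ 1 := by rintro rfl; rw [orderOf_one] at ht; omega
  have htt : ι t0 = t := by
    obtain ⟨x, hx⟩ := (hrng t).mp rfl
    have h3 := f_center x (fun y => by
      apply hinj
      rw [map_mul, map_mul, hx]
      exact ((hrng (ι y)).mpr ⟨y, rfl⟩).symm)
    rcases h3 with h4 | h4
    · exfalso; apply ht1; rw [← hx, h4, map_one]
    · rw [← h4, hx]
  set z := ι zz with hz
  set T1 : Subgroup G := Subgroup.centralizer ({t} : Set G) ⊓ Subgroup.centralizer ({z} : Set G) with hT1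
  have hT1m : ∀ g, g ∈ T1 ↔ ∃ x, x * zz = zz * x ∧ ι x = g := by
    intro g
    rw [hT1, Subgroup.mem_inf, Subgroup.mem_centralizer_singleton_iff, Subgroup.mem_centralizer_singleton_iff]
    constructor
    · rintro ⟨h3, h4⟩
      obtain ⟨x, rfl⟩ := (hrng g).mp h3
      refine ⟨x, ?_, rfl⟩
      apply hinj
      rw [map_mul, map_mul]; exact h4
    · rintro ⟨x, hx, rfl⟩
      refine ⟨(hrng _).mpr ⟨x, rfl⟩, ?_⟩
      rw [hz, ← map_mul, hx, map_mul]
  have hc16 : Nat.card T1 = 16 := card_T0 hinj T1 hT1m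
  have hTC : (T : Subgroup G) ≤ Subgroup.centralizer ({t} : Set G) := by
    intro s hs
    rw [Subgroup.mem_centralizer_singleton_iff]; exact htc s hs
  have hC48 : Nat.card ↥(Subgroup.centralizer ({t} : Set G)) = 48 := by
    rw [Nat.card_congr e.toEquiv, Nat.card_eq_fintype_card, f_H0]
  obtain ⟨k, hk⟩ := T.2.exists_card_eq
  have hk4 : k ≤ 4 := by
    have h3 : Nat.card (T : Subgroup G) ∣ 48 := by rw [← hC48]; exact Subgroup.card_dvd_of_le hTC
    rw [hk] at h3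
    by_contra hlt
    have h4 : 2 ^ 5 ∣ 2 ^ k := pow_dvd_pow 2 (by omega)
    have h5 : 2 ^ 5 ∣ 48 := h4.trans h3
    revert h5; decide
  have hT1p : IsPGroup 2 ↥T1 := IsPGroup.of_card (n := 4) (by rw [hc16]; norm_num)
  obtain ⟨S1, hS1⟩ := hT1p.exists_le_sylow
  have hScard : ∀ S : Sylow 2 G, Nat.card (S : Subgroup G) = 2 ^ k := by
    intro S
    rw [← hk, S.card_eq_multiplicity, T.card_eq_multiplicity]
  have hk4' : k = 4 := by
    have h3 := Subgroup.card_le_of_le hS1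
    rw [hc16, hScard S1] at h3
    by_contra hne
    have h4 : 2 ^ k ≤ 2 ^ 3 := Nat.pow_le_pow_right (by norm_num) (by omega)
    omega
  have hsyl : ∀ S : Sylow 2 G, Nat.card (S : Subgroup G) = 16 := by
    intro S; rw [hScard S, hk4']; norm_num
  have hS1e : T1 = (S1 : Subgroup G) := Subgroup.eq_of_le_of_card_ge hS1 (by rw [hsyl, hc16])
  refine ⟨hinj, hrng, htt, ?_, hsyl⟩
  intro g hg
  have h3 : g ∈ T1 := by
    rw [hS1e, ← h2 S1, Subgroup.mem_centralizer_iff]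
    have hle : ⁅(S1 : Subgroup G), (S1 : Subgroup G)⁆ ≤ Subgroup.centralizer ({g} : Set G) := by
      rw [Subgroup.commutator_le]
      intro a ha b hb
      rw [← hS1e, hT1m] at ha hb
      obtain ⟨x, hx, rfl⟩ := ha
      obtain ⟨y, hy, rfl⟩ := hb
      rw [Subgroup.mem_centralizer_singleton_iff]
      have h4 : ⁅ι x, ι y⁆ = ι (x * y * x⁻¹ * y⁻¹) := by
        rw [commutatorElement_def]; simp [map_mul, map_inv]
      rw [h4]
      rcases f_comm x y hx hy with h5 | h5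
      · rw [h5, map_one, one_mul, mul_one]
      · rw [h5]; exact hg.symm
    intro y hy
    exact (Subgroup.mem_centralizer_singleton_iff.mp (hle hy))
  rw [hT1, Subgroup.mem_inf, Subgroup.mem_centralizer_singleton_iff] at h3
  exact h3.1

theorem Cf.mem_T (h : Cf t ι) (g : G) : g ∈ Subgroup.centralizer ({ι zz} : Set G) ↔ ∃ x, x * zz = zz * x ∧ ι x = g := by
  rw [Subgroup.mem_centralizer_singleton_iff]
  constructor
  · intro hg
    obtain ⟨x, rfl⟩ := (h.rng g).mp (h.cz g hg)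
    refine ⟨x, h.inj ?_, rfl⟩
    rw [map_mul, map_mul]; exact hg
  · rintro ⟨x, hx, rfl⟩
    rw [← map_mul, hx, map_mul]

theorem Cf.card_T (h : Cf t ι) : Nat.card ↥(Subgroup.centralizer ({ι zz} : Set G)) = 16 := card_T0 h.inj _ h.mem_T

theorem Cf.exists_syl [Finite G] (h : Cf t ι) : ∃ S : Sylow 2 G, (S : Subgroup G) = Subgroup.centralizer ({ι zz} : Set G) := by
  haveI : Fact (Nat.Prime 2) := ⟨Nat.prime_two⟩
  have hp : IsPGroup 2 ↥(Subgroup.centralizer ({ι zz} : Set G)) := IsPGroup.of_card (n := 4) (by rw [h.card_T]; norm_num)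
  obtain ⟨S, hS⟩ := hp.exists_le_sylow
  exact ⟨S, (Subgroup.eq_of_le_of_card_ge hS (by rw [h.syl, h.card_T])).symm⟩

theorem Cf.zne (h : Cf t ι) : ι zz ≠ 1 := by
  intro h1
  exact f_t0.2.2.1 (h.inj (by rw [h1, map_one]))

theorem Cf.norm_T (h : Cf t ι) {n : G} (hn : n ∈ Subgroup.normalizer ((Subgroup.centralizer ({ι zz} : Set G) : Subgroup G) : Set G)) :
    n ∈ Subgroup.centralizer ({ι zz} : Set G) := by
  have hb : ι bb ∈ Subgroup.centralizer ({ι zz} : Set G) := (h.mem_T _).mpr ⟨bb, f_comm2.2.1, rfl⟩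
  have hv : ι vv ∈ Subgroup.centralizer ({ι zz} : Set G) := (h.mem_T _).mpr ⟨vv, f_comm2.1, rfl⟩
  obtain ⟨x, hx, hx'⟩ := (h.mem_T _).mp ((Subgroup.mem_normalizer_iff.mp hn _).mp hb)
  obtain ⟨y, hy, hy'⟩ := (h.mem_T _).mp ((Subgroup.mem_normalizer_iff.mp hn _).mp hv)
  have h1 : n * ι zz * n⁻¹ = ι (x * y * x⁻¹ * y⁻¹) := by
    rw [← f_comm2.2.2]
    simp only [map_mul, map_inv, hx', hy']
    group
  rw [Subgroup.mem_centralizer_singleton_iff]
  rcases f_comm x y hx hy with h2 | h2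
  · exfalso
    rw [h2, map_one] at h1
    exact h.zne (conj_eq_one_iff.mp h1)
  · rw [h2] at h1
    exact mul_inv_eq_iff_eq_mul.mp h1

theorem Cf.burn [Finite G] (h : Cf t ι) {x : G} (hx : x ∈ Subgroup.centralizer ((Subgroup.centralizer ({ι zz} : Set G) : Subgroup G) : Set G)) (g : G)
    (hg : g⁻¹ * x * g ∈ Subgroup.centralizer ((Subgroup.centralizer ({ι zz} : Set G) : Subgroup G) : Set G)) : g⁻¹ * x * g = x := by
  haveI : Fact (Nat.Prime 2) := ⟨Nat.prime_two⟩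
  obtain ⟨S, hS⟩ := h.exists_syl
  rw [← hS] at hx hg
  obtain ⟨n, hn, hn2⟩ := Sylow.conj_eq_normalizer_conj_of_mem_centralizer S x g hx hg
  rw [hn2]
  have h1 : n ∈ (S : Subgroup G) := by
    rw [hS]
    apply h.norm_T
    rw [← hS]; exact hn
  have h2 := (Subgroup.mem_centralizer_iff.mp hx) n h1
  rw [mul_assoc, ← h2, inv_mul_cancel_left]

theorem Cf.cent_t (h : Cf t ι) : t ∈ Subgroup.centralizer ((Subgroup.centralizer ({ι zz} : Set G) : Subgroup G) : Set G) := by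
  rw [Subgroup.mem_centralizer_iff]
  intro y hy
  obtain ⟨x, hx, rfl⟩ := (h.mem_T _).mp hy
  exact (h.rng _).mpr ⟨x, rfl⟩

theorem Cf.cent_z (h : Cf t ι) : ι zz ∈ Subgroup.centralizer ((Subgroup.centralizer ({ι zz} : Set G) : Subgroup G) : Set G) := by
  rw [Subgroup.mem_centralizer_iff]
  intro y hy
  exact Subgroup.mem_centralizer_singleton_iff.mp hy

theorem Cf.t_E [Finite G] (h : Cf t ι) (g : G) (x : H0) (hx : inE x) (hg : g * t * g⁻¹ = ι x) : g * t * g⁻¹ = t := by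
  have ht1 : t ≠ 1 := by rw [← h.tt]; intro h1; exact f_t0.1 (h.inj (by rw [h1, map_one]))
  rcases f_E x hx with rfl | rfl | ⟨k, rfl⟩ | ⟨k, rfl⟩
  · exfalso
    rw [map_one] at hg
    exact ht1 (conj_eq_one_iff.mp hg)
  · rw [hg, h.tt]
  · exfalso
    have h1 : (g⁻¹ * ι k)⁻¹ * t * (g⁻¹ * ι k) = ι zz := by
      have : (g⁻¹ * ι k)⁻¹ * t * (g⁻¹ * ι k) = (ι k)⁻¹ * (g * t * g⁻¹) * ι k := by group
      rw [this, hg]; simp only [map_mul, map_inv]; group
    have h2 := h.burn h.cent_t (g⁻¹ * ι k) (by rw [h1]; exact h.cent_z)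
    rw [h1, ← h.tt] at h2
    exact f_t0.2.2.2.2.2.2.2.2 (h.inj h2).symm
  · exfalso
    have h1 : (g⁻¹ * ι k)⁻¹ * t * (g⁻¹ * ι k) = t * ι zz := by
      have : (g⁻¹ * ι k)⁻¹ * t * (g⁻¹ * ι k) = (ι k)⁻¹ * (g * t * g⁻¹) * ι k := by group
      rw [this, hg, ← h.tt]; simp only [map_mul, map_inv]; group
    have h2 := h.burn h.cent_t (g⁻¹ * ι k) (by rw [h1]; exact Subgroup.mul_mem _ h.cent_t h.cent_z)
    rw [h1] at h2
    exact h.zne (mul_eq_left.mp h2)

/-- an element inverted -/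
theorem Cf.inv_R [Finite G] (h : Cf t ι) (R : Subgroup G) (hR : R.Normal) (hodd : (Nat.card R).Coprime 2) (k : H0) :
    ∀ r ∈ R, ι (k * zz * k⁻¹) * r * (ι (k * zz * k⁻¹))⁻¹ = r⁻¹ := by
  set u := ι (k * zz * k⁻¹) with hu
  have huu : u * u = 1 := by
    rw [hu, ← map_mul]
    have : (k * zz * k⁻¹) * (k * zz * k⁻¹) = k * (zz * zz) * k⁻¹ := by group
    rw [this, f_t0.2.2.2.1, mul_one, mul_inv_cancel, map_one]
  have hfix : ∀ r ∈ R, u * r * u⁻¹ = r → r = 1 := by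
    intro r hr hur
    have h1 : (ι k)⁻¹ * r * ι k ∈ R := by
      have := hR.conj_mem r hr (ι k)⁻¹
      rwa [inv_inv] at this
    have h2 : (ι k)⁻¹ * r * ι k ∈ Subgroup.centralizer ({ι zz} : Set G) := by
      rw [Subgroup.mem_centralizer_singleton_iff]
      have h3 : u * r = r * u := mul_inv_eq_iff_eq_mul.mp hur
      have h4 : ι zz = (ι k)⁻¹ * u * ι k := by rw [hu]; simp only [map_mul, map_inv]; group
      rw [h4]
      calc (ι k)⁻¹ * r * ι k * ((ι k)⁻¹ * u * ι k) = (ι k)⁻¹ * (r * u) * ι k := by group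
        _ = (ι k)⁻¹ * (u * r) * ι k := by rw [h3]
        _ = (ι k)⁻¹ * u * ι k * ((ι k)⁻¹ * r * ι k) := by group
    have h5 : orderOf ((ι k)⁻¹ * r * ι k) ∣ 16 := by
      rw [← h.card_T]; exact Subgroup.orderOf_dvd_natCard _ h2
    have h6 : orderOf ((ι k)⁻¹ * r * ι k) ∣ Nat.card R := Subgroup.orderOf_dvd_natCard _ h1
    have h7 : orderOf ((ι k)⁻¹ * r * ι k) = 1 := Nat.eq_one_of_dvd_coprimes (Nat.Coprime.pow_right 4 hodd) h6 h5
    have h8 := orderOf_eq_one_iff.mp h7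
    have h9 : (ι k)⁻¹ * r * ((ι k)⁻¹)⁻¹ = 1 := by rw [inv_inv]; exact h8
    exact conj_eq_one_iff.mp h9
  haveI := hR
  let φ : ↥R →* ↥R := (MulAut.conjNormal u : MulAut ↥R).toMonoidHom
  have hφ : ∀ r : ↥R, ((φ r : ↥R) : G) = u * r * u⁻¹ := fun r => MulAut.conjNormal_apply u r
  have hff : MonoidHom.FixedPointFree φ := by
    intro r hr
    apply Subtype.ext
    apply hfix r r.2
    rw [← hφ, hr]
  have hinvol : Function.Involutive φ := by
    intro r
    apply Subtype.ext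
    rw [hφ, hφ]
    calc u * (u * r * u⁻¹) * u⁻¹ = (u * u) * r * (u * u)⁻¹ := by group
      _ = r := by rw [huu]; group
  intro r hr
  have h1 := MonoidHom.FixedPointFree.coe_eq_inv_of_involutive hff hinvol
  have h2 := congrFun h1 ⟨r, hr⟩
  have h3 := congrArg Subtype.val h2
  have h4 : ((φ ⟨r, hr⟩ : ↥R) : G) = r⁻¹ := h3
  rw [hφ] at h4
  exact h4

theorem Cf.oddCore_bot [Finite G] (h : Cf t ι) : oddCore G = ⊥ := by
  obtain ⟨R, hRdef⟩ : ∃ R, R = oddCore G := ⟨_, rfl⟩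
  have hR : R.Normal := by rw [hRdef]; unfold oddCore; infer_instance
  have hodd : (Nat.card R).Coprime 2 := by rw [hRdef]; exact CfsgLib.Cores.pPrimeCore_coprime 2
  rw [← hRdef, Subgroup.eq_bot_iff_forall]
  intro r hr
  obtain ⟨⟨k1, hk1⟩, ⟨k2, hk2⟩⟩ := f_vconj
  have e0 := h.inv_R R hR hodd 1
  have e1 := h.inv_R R hR hodd k1
  have e2 := h.inv_R R hR hodd k2
  rw [one_mul, inv_one, mul_one] at e0
  rw [hk1] at e1
  rw [hk2] at e2
  have h1 := e2 r hr
  have h2 : ι (zz * vv) * r * (ι (zz * vv))⁻¹ = ι zz * (ι vv * r * (ι vv)⁻¹) * (ι zz)⁻¹ := by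
    rw [map_mul]; group
  rw [h2, e1 r hr, e0 r⁻¹ (R.inv_mem hr), inv_inv] at h1
  have h3 : r * r = 1 := mul_eq_one_iff_eq_inv.mpr h1
  have h4 : orderOf r ∣ 2 := orderOf_dvd_of_pow_eq_one (by rw [sq, h3])
  have h5 : orderOf r ∣ Nat.card R := Subgroup.orderOf_dvd_natCard _ hr
  exact orderOf_eq_one_iff.mp (Nat.eq_one_of_dvd_coprimes hodd h5 h4)

/-- if all conjugates of `t` commuting with `t` lie in `E`, then `t` is central -/
theorem Cf.central_of [Finite G] (h : Cf t ι) (hE : ∀ g, (g * t * g⁻¹) * t = t * (g * t * g⁻¹) → ∃ x, inE x ∧ g * t * g⁻¹ = ι x) :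
    ∀ g, g * t = t * g := by
  have hto : orderOf t = 2 := by
    rw [orderOf_eq_prime_iff (p := 2), ← h.tt]
    refine ⟨by rw [sq, ← map_mul, f_t0.2.1, map_one], ?_⟩
    intro h1; exact f_t0.1 (h.inj (by rw [h1, map_one]))
  have hiso : Cfsg.IsIsolatedInvolution t := by
    refine ⟨hto, ?_⟩
    intro g hg
    obtain ⟨x, hx, hgx⟩ := hE g (by first | exact hg.eq | exact hg.eq.symm)
    exact h.t_E g x hx hgx
  intro g
  have h1 := CfsgLib.ZStar.zstar hiso g
  rw [h.oddCore_bot, Subgroup.mem_bot] at h1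
  have h2 : t * g * (g * t)⁻¹ = 1 := by rw [← h1]; group
  exact (mul_inv_eq_one.mp h2).symm

theorem Cf.solv [Finite G] (h : Cf t ι) (hs : Group.IsSolvable G) : ∀ g, g * t = t * g := by
  haveI : Fact (Nat.Prime 2) := ⟨Nat.prime_two⟩
  have hps : IsPSolvable 2 G := by
    first
    | exact CfsgLib.PSolv19.psolv_of_solvable (Nat.card G) rfl hs
    | exact CfsgLib.PSolv19.psolv_of_solvable _ rfl
  have hHH := CfsgLib.PSolv19.hall_higman hps h.oddCore_bot
  set P := pCore 2 G with hP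
  have hPp : IsPGroup 2 ↥P := CfsgLib.Cores.pCore_isPGroup 2
  have hPn : P.Normal := inferInstance
  obtain ⟨S, hS⟩ := h.exists_syl
  have hPS : P ≤ (S : Subgroup G) := by
    have h1 : IsPGroup 2 ↥(P ⊔ (S : Subgroup G)) := hPp.to_sup_of_normal_left S.2
    have h2 := S.3 h1 le_sup_right
    rw [← h2]; exact le_sup_left
  have hPE : ∀ y ∈ P, ∃ x, inE x ∧ y = ι x := by
    intro y hy
    have h1 := hPS hy
    rw [hS] at h1
    obtain ⟨x, hx, rfl⟩ := (h.mem_T y).mp h1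
    refine ⟨x, ?_, rfl⟩
    by_contra hno
    obtain ⟨k, hk1, hk2⟩ := f_E2 x hno
    apply hk2
    apply h.inj
    rw [map_one]
    have h3 : ι (x * (k * x * k⁻¹)) ∈ P := by
      rw [map_mul, map_mul, map_mul, map_inv]
      exact P.mul_mem hy (hPn.conj_mem _ hy _)
    obtain ⟨j, hj⟩ := hPp ⟨_, h3⟩
    have hj' : (ι (x * (k * x * k⁻¹))) ^ (2 ^ j) = 1 := congrArg Subtype.val hj
    have h4 := orderOf_dvd_of_pow_eq_one hj'
    have h5 : orderOf (ι (x * (k * x * k⁻¹))) ∣ 3 := orderOf_dvd_of_pow_eq_one (by rw [← map_pow, hk1, map_one])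
    have h6 : Nat.Coprime 3 (2 ^ j) := Nat.Coprime.pow_right _ (by norm_num)
    exact orderOf_eq_one_iff.mp (Nat.eq_one_of_dvd_coprimes h6 h5 h4)
  have hEP : ∀ x, inE x → ι x ∈ P := by
    intro x hx
    apply hHH
    rw [Subgroup.mem_centralizer_iff]
    intro y hy
    obtain ⟨x', hx', rfl⟩ := hPE y hy
    rw [← map_mul, f_E3 x' x hx' hx, map_mul]
  intro g
  have h1 : g * t * g⁻¹ ∈ P := by
    apply hPn.conj_mem
    rw [← h.tt]; exact hEP t0 (Or.inr (Or.inl rfl))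
  obtain ⟨x, hx, hx2⟩ := hPE _ h1
  exact mul_inv_eq_iff_eq_mul.mp (h.t_E g x hx hx2)

end CfsgLib.SX11
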