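import Mathlib
import Cfsg.Agent.EqBase
import Cfsg.Agent.LibSX11a
/-!
# Groups with an involution centralizer Z₂ × S₄, part 3: more facts (helper11)
-/
set_option autoImplicit false
set_option linter.all false
set_option maxRecDepth 100000
open Cfsg

namespace CfsgLib.SX11

theorem f_E5 : ∀ x : H0, inE (x * t0) → inE x := by decide +kernel
theorem f_inv : ∀ y : H0, y * y = 1 → ∃ h : H0, (h * y * h⁻¹) * zz = zz * (h * y * h⁻¹) := by decide +kernel
theorem f_B : ∀ x : H0, x * zz = zz * x → ¬ inE x →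
    (x = bb ∨ x * zz = bb ∨ x * vv = bb ∨ x * (zz * vv) = bb) ∨ (x = t0 * bb ∨ x * zz = t0 * bb ∨ x * vv = t0 * bb ∨ x * (zz * vv) = t0 * bb) := by decide +kernel
theorem f_T : ∀ x : H0, x * zz = zz * x → ∃ c : Fin 2, ∃ d : Fin 2, ∃ e : Fin 2, ∃ f : Fin 2, x = t0 ^ (c : ℕ) * zz ^ (d : ℕ) * vv ^ (e : ℕ) * bb ^ (f : ℕ) := by decide +kernel

/-- the element of order four -/
def al (β : H0) : H0 := β * vv
theorem f_DD1 : ∀ x : H0, x * zz = zz * x → ((∃ i : Fin 4, x = al bb ^ (i : ℕ)) ∨ (∃ i : Fin 4, vv * x = al bb ^ (i : ℕ)) ∨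
    (∃ i : Fin 4, t0 * x = al bb ^ (i : ℕ)) ∨ (∃ i : Fin 4, vv * (t0 * x) = al bb ^ (i : ℕ))) := by decide +kernel
theorem f_DD2 : ∀ x : H0, x * zz = zz * x → ((∃ i : Fin 4, x = al (t0 * bb) ^ (i : ℕ)) ∨ (∃ i : Fin 4, vv * x = al (t0 * bb) ^ (i : ℕ)) ∨
    (∃ i : Fin 4, t0 * x = al (t0 * bb) ^ (i : ℕ)) ∨ (∃ i : Fin 4, vv * (t0 * x) = al (t0 * bb) ^ (i : ℕ))) := by decide +kernel
theorem f_al1 : al bb * al bb = zz ∧ vv * al bb = (al bb)⁻¹ * vv ∧ (∀ i : Fin 4, vv ≠ al bb ^ (i : ℕ)) ∧ al bb * zz = zz * al bb := by decide +kernel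
theorem f_al2 : al (t0 * bb) * al (t0 * bb) = zz ∧ vv * al (t0 * bb) = (al (t0 * bb))⁻¹ * vv ∧ (∀ i : Fin 4, vv ≠ al (t0 * bb) ^ (i : ℕ)) ∧
    al (t0 * bb) * zz = zz * al (t0 * bb) := by decide +kernel

/-- the isomorphism from `Z₂ × D₈` -/
def fD (p : Multiplicative (ZMod 2) × DihedralGroup 4) : H0 :=
  (p.1, match p.2 with
    | DihedralGroup.r i => (Equiv.swap 0 2 * Equiv.swap 1 3 * Equiv.swap 0 1) ^ (i.val)
    | DihedralGroup.sr i => (Equiv.swap 0 1) * (Equiv.swap 0 2 * Equiv.swap 1 3 * Equiv.swap 0 1) ^ (i.val))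
theorem fD_mul : ∀ p q : Multiplicative (ZMod 2) × DihedralGroup 4, fD (p * q) = fD p * fD q := by decide +kernel
theorem fD_inj : ∀ p q : Multiplicative (ZMod 2) × DihedralGroup 4, fD p = fD q → p = q := by decide +kernel
theorem fD_range : ∀ x : H0, x * zz = zz * x → ∃ p, fD p = x := by decide +kernel
theorem fD_comm : ∀ p, fD p * zz = zz * fD p := by decide +kernel

/-- conjugates of an involution outside `E` -/
theorem f_six : ∀ y : H0, y * y = 1 → ¬ inE y → 6 ≤ (Finset.univ.image (fun h : H0 => h * y * h⁻¹)).card := by decide +kernel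

end CfsgLib.SX11
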