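import Cfsg.Statements.S2911


set_option autoImplicit false
open Cfsg

namespace Cfsg.Agent.S2911

theorem aux_cent : ∀ d : DihedralGroup 4, (∀ x : DihedralGroup 4, x * d = d * x) →
    ∃ a b : DihedralGroup 4, d = a * b * a⁻¹ * b⁻¹ := by decide


/-- A finite group whose Sylow 2-subgroups are isomorphic to the direct product of a group of order 2 and a dihedral group of order 8 has a subgroup of index two. -/
theorem result {G : Type*} [Group G] [Finite G] (S : Sylow 2 G) (hS : Nonempty (↥(S : Subgroup G) ≃* Multiplicative (ZMod 2) × DihedralGroup 4)) : ∃ H : Subgroup G, H.index = 2 := by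
  classical
  obtain ⟨e⟩ := hS
  by_contra hno
  push Not at hno
  haveI : Fact (Nat.Prime 2) := ⟨Nat.prime_two⟩
  set π : ↥(S : Subgroup G) →* Multiplicative (ZMod 2) := (MonoidHom.fst _ _).comp e.toMonoidHom with hπ
  have hπe : ∀ x, π x = (e x).1 := fun x => rfl
  set M : Subgroup G := π.ker.map (S : Subgroup G).subtype with hM
  have hMS : M ≤ (S : Subgroup G) := Subgroup.map_subtype_le _
  have hScard : Nat.card ↥(S : Subgroup G) = 16 := by
    rw [Nat.card_congr e.toEquiv, Nat.card_prod, DihedralGroup.nat_card, Nat.card_congr Multiplicative.toAdd, Nat.card_zmod]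
  have hπs : Function.Surjective π := by
    intro a
    exact ⟨e.symm (a, 1), by rw [hπe, e.apply_symm_apply]⟩
  have hMcard : Nat.card ↥M = 8 := by
    have h1 : Nat.card ↥M = Nat.card ↥π.ker := Nat.card_congr (π.ker.equivMapOfInjective _ (Subgroup.subtype_injective _)).toEquiv.symm
    have h2 := π.ker.card_mul_index
    rw [Subgroup.index_ker, MonoidHom.range_eq_top.2 hπs, Subgroup.card_top, Nat.card_congr Multiplicative.toAdd, Nat.card_zmod, hScard] at h2
    omega
  set c : G := ((e.symm (Multiplicative.ofAdd 1, 1) : ↥(S : Subgroup G)) : G) with hc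
  have hcS : c ∈ (S : Subgroup G) := Subtype.mem _
  have hccomm : ∀ s ∈ (S : Subgroup G), s * c = c * s := by
    intro s hs
    have h1 : (⟨s, hs⟩ : ↥(S : Subgroup G)) * e.symm (Multiplicative.ofAdd 1, 1) = e.symm (Multiplicative.ofAdd 1, 1) * ⟨s, hs⟩ := by
      apply e.injective
      rw [map_mul, map_mul, e.apply_symm_apply]
      apply Prod.ext
      · exact mul_comm _ _
      · show (e ⟨s, hs⟩).2 * 1 = 1 * (e ⟨s, hs⟩).2
        rw [mul_one, one_mul]
    exact congrArg Subtype.val h1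
  have hc2 : c ^ 2 = 1 := by
    have h1 : (e.symm (Multiplicative.ofAdd 1, 1) : ↥(S : Subgroup G)) ^ 2 = 1 := by
      rw [← map_pow]
      have h2 : ((Multiplicative.ofAdd 1, 1) : Multiplicative (ZMod 2) × DihedralGroup 4) ^ 2 = 1 := by decide
      rw [h2]
      exact e.symm.map_one
    have := congrArg Subtype.val h1
    simpa using this
  letI : Fintype (G ⧸ M) := Fintype.ofFinite _
  letI : Fintype ↥(S : Subgroup G) := Fintype.ofFinite _
  let φ : G →* ℤˣ := Equiv.Perm.sign.comp (MulAction.toPermHom G (G ⧸ M))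
  have hφ1 : φ c = 1 := by
    by_contra h
    apply hno φ.ker
    rw [Subgroup.index_ker]
    have h5 : φ.range = ⊤ := by
      rw [MonoidHom.range_eq_top]
      intro x
      rcases Int.units_eq_one_or x with rfl | rfl
      · exact ⟨1, map_one _⟩
      · exact ⟨c, by rcases Int.units_eq_one_or (φ c) with h' | h'; exact absurd h' h; exact h'⟩
    rw [h5, Subgroup.card_top, Nat.card_eq_fintype_card]
    rfl
  have hidx : M.index = 2 * (S : Subgroup G).index := by
    have h1 := M.card_mul_index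
    have h2 := (S : Subgroup G).card_mul_index
    rw [hMcard] at h1
    rw [hScard] at h2
    omega
  have hodd : ¬ 2 ∣ (S : Subgroup G).index := S.not_dvd_index
  set F := Function.fixedPoints (MulAction.toPermHom G (G ⧸ M) c) with hF
  have hfix : ¬ 4 ∣ Fintype.card ↥F := by
    have h1 := Equiv.Perm.sign_of_pow_two_eq_one (σ := MulAction.toPermHom G (G ⧸ M) c) (by rw [← map_pow, hc2, map_one])
    have h2 : Equiv.Perm.sign (MulAction.toPermHom G (G ⧸ M) c) = 1 := hφ1
    rw [h2, ← Nat.card_eq_fintype_card (α := G ⧸ M), ← Subgroup.index_eq_card, hidx] at h1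
    have h3 : Even ((2 * (S : Subgroup G).index - Fintype.card ↥F) / 2) := by
      by_contra h
      rw [Nat.not_even_iff_odd] at h
      have h4 := h.neg_one_pow (α := ℤˣ)
      rw [h4] at h1
      exact absurd h1 (by decide)
    have h4 : Fintype.card ↥F ≤ 2 * (S : Subgroup G).index := by
      rw [← hidx, Subgroup.index_eq_card, Nat.card_eq_fintype_card]
      exact Fintype.card_subtype_le _
    obtain ⟨k, hk⟩ := h3
    intro ⟨l, hl⟩
    omega
  -- `S` acts on the fixed points of `c`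
  have hFm : ∀ q : G ⧸ M, q ∈ F ↔ c • q = q := fun q => Iff.rfl
  letI : MulAction ↥(S : Subgroup G) ↥F :=
    { smul := fun s q => ⟨(s : G) • (q : G ⧸ M), by
        rw [hFm, ← mul_smul, ← hccomm _ s.2, mul_smul, (hFm _).1 q.2]⟩
      one_smul := fun q => Subtype.ext (one_smul G (q : G ⧸ M))
      mul_smul := fun s t q => Subtype.ext (mul_smul (s : G) (t : G) (q : G ⧸ M)) }
  have hsm : ∀ (s : ↥(S : Subgroup G)) (q : ↥F), ((s • q : ↥F) : G ⧸ M) = (s : G) • (q : G ⧸ M) := fun s q => rfl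
  have hex : ∃ q : ↥F, ¬ 4 ∣ Nat.card ↥(S : Subgroup G) / Nat.card ↥(MulAction.stabilizer ↥(S : Subgroup G) q) := by
    by_contra hcon
    push Not at hcon
    apply hfix
    letI : Fintype (MulAction.orbitRel.Quotient ↥(S : Subgroup G) ↥F) := Fintype.ofFinite _
    letI : ∀ q : ↥F, Fintype ↥(MulAction.stabilizer ↥(S : Subgroup G) q) := fun q => Fintype.ofFinite _
    rw [MulAction.card_eq_sum_card_group_div_card_stabilizer ↥(S : Subgroup G) ↥F]
    apply Finset.dvd_sum
    intro ω _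
    have := hcon (Quotient.out ω)
    rwa [Nat.card_eq_fintype_card, Nat.card_eq_fintype_card] at this
  obtain ⟨⟨q, hqF⟩, hq⟩ := hex
  obtain ⟨g, rfl⟩ := QuotientGroup.mk_surjective q
  have hstab : ∀ s : ↥(S : Subgroup G), s ∈ MulAction.stabilizer ↥(S : Subgroup G) (⟨(g : G ⧸ M), hqF⟩ : ↥F) ↔
      g⁻¹ * (s : G) * g ∈ M := by
    intro s
    rw [MulAction.mem_stabilizer_iff, Subtype.ext_iff, hsm]
    show (((s : G) * g : G) : G ⧸ M) = (g : G ⧸ M) ↔ _
    rw [eq_comm, QuotientGroup.eq]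
    rw [mul_assoc]
  have hsc : 8 ≤ Nat.card ↥(MulAction.stabilizer ↥(S : Subgroup G) (⟨(g : G ⧸ M), hqF⟩ : ↥F)) := by
    have h1 := Subgroup.card_subgroup_dvd_card (MulAction.stabilizer ↥(S : Subgroup G) (⟨(g : G ⧸ M), hqF⟩ : ↥F))
    rw [hScard] at h1 hq
    set m := Nat.card ↥(MulAction.stabilizer ↥(S : Subgroup G) (⟨(g : G ⧸ M), hqF⟩ : ↥F)) with hm
    have h2 : m ∈ Nat.divisors 16 := Nat.mem_divisors.2 ⟨h1, by norm_num⟩
    have h3 : Nat.divisors 16 = {1, 2, 4, 8, 16} := by decide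
    rw [h3] at h2
    simp only [Finset.mem_insert, Finset.mem_singleton] at h2
    rcases h2 with h | h | h | h | h <;> rw [h] at hq ⊢ <;> first | (exfalso; apply hq; norm_num; done) | norm_num
  -- `g M g⁻¹ ≤ S`
  have hle : ∀ m ∈ M, g * m * g⁻¹ ∈ (S : Subgroup G) := by
    set D : Subgroup G := (MulAction.stabilizer ↥(S : Subgroup G) (⟨(g : G ⧸ M), hqF⟩ : ↥F)).map (S : Subgroup G).subtype with hD
    have hDle : D ≤ M.map (MulAut.conj g).toMonoidHom := by
      rintro _ ⟨s, hs, rfl⟩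
      refine ⟨g⁻¹ * (s : G) * g, (hstab s).1 hs, ?_⟩
      show g * (g⁻¹ * (s : G) * g) * g⁻¹ = s
      group
    have hDc : Nat.card ↥D = Nat.card ↥(MulAction.stabilizer ↥(S : Subgroup G) (⟨(g : G ⧸ M), hqF⟩ : ↥F)) :=
      Nat.card_congr ((MulAction.stabilizer ↥(S : Subgroup G) (⟨(g : G ⧸ M), hqF⟩ : ↥F)).equivMapOfInjective _ (Subgroup.subtype_injective _)).toEquiv.symm
    have hMc : Nat.card ↥(M.map (MulAut.conj g).toMonoidHom) = 8 := by
      rw [← hMcard]
      exact Nat.card_congr (M.equivMapOfInjective _ (MulAut.conj g).injective).toEquiv.symm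
    have hDM : D = M.map (MulAut.conj g).toMonoidHom := by
      apply Subgroup.eq_of_le_of_card_ge hDle
      rw [hMc, hDc]; exact hsc
    intro m hm
    have h1 : g * m * g⁻¹ ∈ D := by rw [hDM]; exact ⟨m, hm, rfl⟩
    exact Subgroup.map_subtype_le _ h1
  have hcM : g⁻¹ * c * g ∈ M := by
    have h1 := (hFm _).1 hqF
    have h2 : ((c * g : G) : G ⧸ M) = (g : G ⧸ M) := h1
    rw [eq_comm, QuotientGroup.eq] at h2
    rwa [mul_assoc]
  -- `g⁻¹ c g` is central in `M`
  obtain ⟨m, hm, hmc⟩ := hcM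
  have hmM : (m : G) ∈ M := ⟨m, hm, rfl⟩
  have hcm : c = g * (m : G) * g⁻¹ := by
    have : (m : G) = g⁻¹ * c * g := hmc
    rw [this]; group
  have hmcen : ∀ y : ↥(S : Subgroup G), y ∈ π.ker → y * m = m * y := by
    intro y hy
    have h1 := hccomm _ (hle (y : G) ⟨y, hy, rfl⟩)
    apply Subtype.ext
    show (y : G) * (m : G) = (m : G) * (y : G)
    rw [hcm] at h1
    calc (y : G) * (m : G) = g⁻¹ * (g * (y : G) * g⁻¹ * (g * (m : G) * g⁻¹)) * g := by group
      _ = g⁻¹ * (g * (m : G) * g⁻¹ * (g * (y : G) * g⁻¹)) * g := by rw [h1]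
      _ = (m : G) * (y : G) := by group
  have hd : ∀ x : DihedralGroup 4, x * (e m).2 = (e m).2 * x := by
    intro x
    have h1 := hmcen (e.symm (1, x)) (by rw [MonoidHom.mem_ker, hπe, e.apply_symm_apply])
    have h2 := congrArg e h1
    rw [map_mul, map_mul, e.apply_symm_apply] at h2
    exact congrArg Prod.snd h2
  obtain ⟨a, b, hab⟩ := aux_cent _ hd
  have hm' : m = e.symm (1, a) * e.symm (1, b) * (e.symm (1, a))⁻¹ * (e.symm (1, b))⁻¹ := by
    apply e.injective
    simp only [map_mul, map_inv, e.apply_symm_apply]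
    apply Prod.ext
    · have h1 : (e m).1 = 1 := hm
      rw [h1]; simp
    · exact hab
  have haM : ((e.symm (1, a) : ↥(S : Subgroup G)) : G) ∈ M := ⟨_, by
    rw [SetLike.mem_coe, MonoidHom.mem_ker, hπe, e.apply_symm_apply], rfl⟩
  have hbM : ((e.symm (1, b) : ↥(S : Subgroup G)) : G) ∈ M := ⟨_, by
    rw [SetLike.mem_coe, MonoidHom.mem_ker, hπe, e.apply_symm_apply], rfl⟩
  have hfin : π ⟨c, hcS⟩ = 1 := by
    have h1 : (⟨c, hcS⟩ : ↥(S : Subgroup G)) = ⟨_, hle _ haM⟩ * ⟨_, hle _ hbM⟩ * (⟨_, hle _ haM⟩)⁻¹ * (⟨_, hle _ hbM⟩)⁻¹ := by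
      apply Subtype.ext
      show c = (g * _ * g⁻¹) * (g * _ * g⁻¹) * (g * _ * g⁻¹)⁻¹ * (g * _ * g⁻¹)⁻¹
      rw [hcm, hm']
      push_cast
      group
    rw [h1, map_mul, map_mul, map_mul, map_inv, map_inv]
    rw [mul_comm (π _) (π _)]
    group
  have hfin2 : π ⟨c, hcS⟩ = Multiplicative.ofAdd 1 := by
    have : (⟨c, hcS⟩ : ↥(S : Subgroup G)) = e.symm (Multiplicative.ofAdd 1, 1) := Subtype.ext rfl
    rw [this, hπe, e.apply_symm_apply]
  rw [hfin] at hfin2
  exact absurd hfin2 (by decide)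

end Cfsg.Agent.S2911
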