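import Cfsg.Statements.S3261
import Mathlib
import Cfsg.Agent.LibDi11f
import Cfsg.Agent.LibA6c
import Cfsg.Agent.LibDihedral

set_option autoImplicit false
set_option linter.all false
open Cfsg

namespace Cfsg.Agent.S3261

open Subgroup Cfsg CfsgLib.Di11
set_option maxRecDepth 1000000

theorem DD.equiv {G : Type*} [Group G] {z a b : G} (h : DD z a b) : Nonempty (centralizer ({z} : Set G) ≃* DihedralGroup 4) := by
  have ho : orderOf a = 4 := h.oa
  have h1 : b * a * b⁻¹ = a⁻¹ := by rw [h.ba, mul_inv_cancel_right]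
  obtain ⟨e⟩ := CfsgLib.Dihedral.nonempty_equiv_dihedral ho h.bb h1 h.bn
  have h2 : closure ({a, b} : Set G) = centralizer ({z} : Set G) := by
    apply le_antisymm
    · rw [closure_le]
      rintro x (rfl | hx)
      · exact mem_centralizer_singleton_iff.2 h.az
      · rw [Set.mem_singleton_iff] at hx
        subst hx
        exact mem_centralizer_singleton_iff.2 h.bz
    · intro x hx
      have ha : a ∈ closure ({a, b} : Set G) := subset_closure (by simp)
      have hb : b ∈ closure ({a, b} : Set G) := subset_closure (by simp)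
      have hz : zpowers a ≤ closure ({a, b} : Set G) := by rw [zpowers_le]; exact ha
      rcases h.cent x (mem_centralizer_singleton_iff.1 hx) with h3 | h3
      · exact hz h3
      · have : x = b⁻¹ * (b * x) := by group
        rw [this]; exact mul_mem (inv_mem hb) (hz h3)
  rw [h2] at e
  exact ⟨e⟩

theorem DD.mk' {G : Type*} [Group G] [Finite G] {z a b : G} (oa : orderOf a = 4) (aa : a * a = z) (bb : b * b = 1) (ba : b * a = a⁻¹ * b)
    (bn : b ∉ zpowers a) (cent : ∀ x, x * z = z * x → x ∈ zpowers a ∨ b * x ∈ zpowers a) : DD z a b := by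
  refine ⟨oa, aa, bb, ba, bn, cent, ?_⟩
  have haz : a * z = z * a := by rw [← aa, mul_assoc]
  have hbi : b⁻¹ = b := inv_eq_of_mul_eq_one_left bb
  have hbz : b * z = z * b := by
    rw [← aa]
    calc b * (a * a) = (b * a) * a := by group
      _ = a⁻¹ * (b * a) := by nth_rewrite 1 [ba]; rw [mul_assoc]
      _ = (a * a)⁻¹ * b := by rw [ba]; group
      _ = a * a * b := by
        congr 1
        rw [inv_eq_iff_mul_eq_one]
        have h4 : a ^ 4 = 1 := by rw [← oa]; exact pow_orderOf_eq_one a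
        calc a * a * (a * a) = a ^ 4 := by simp only [pow_succ, pow_zero, one_mul, mul_assoc]
          _ = 1 := h4
  have hzp : zpowers a ≤ centralizer ({z} : Set G) := by
    rw [zpowers_le]; exact mem_centralizer_singleton_iff.2 haz
  have hbC : b ∈ centralizer ({z} : Set G) := mem_centralizer_singleton_iff.2 hbz
  have hb : Function.Bijective (fun y : Bool × zpowers a => (⟨(if y.1 then b else 1) * (y.2 : G), by
      apply mul_mem _ (hzp y.2.2)
      split_ifs
      · exact hbC
      · exact one_mem _⟩ : centralizer ({z} : Set G))) := by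
    constructor
    · rintro ⟨i, y⟩ ⟨j, w⟩ h1
      have h2 : (if i then b else 1) * (y : G) = (if j then b else 1) * (w : G) := congrArg Subtype.val h1
      cases i <;> cases j <;> simp only [Bool.false_eq_true, if_true, if_false, one_mul] at h2
      · rw [Subtype.ext h2]
      · exfalso; apply bn
        have : b = (y : G) * (w : G)⁻¹ := by rw [h2]; group
        rw [this]; exact mul_mem y.2 (inv_mem w.2)
      · exfalso; apply bn
        have : b = (w : G) * (y : G)⁻¹ := by rw [← h2]; group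
        rw [this]; exact mul_mem w.2 (inv_mem y.2)
      · rw [Subtype.ext (mul_left_cancel h2)]
    · rintro ⟨x, hx⟩
      rcases cent x (mem_centralizer_singleton_iff.1 hx) with h3 | h3
      · exact ⟨(false, ⟨x, h3⟩), Subtype.ext (by simp)⟩
      · refine ⟨(true, ⟨b * x, h3⟩), Subtype.ext ?_⟩
        simp only [if_true]
        rw [← mul_assoc, bb, one_mul]
  rw [← Nat.card_eq_of_bijective _ hb, Nat.card_prod, Nat.card_zpowers, oa]
  simp

theorem DD.map {G H : Type*} [Group G] [Group H] [Finite H] (φ : G ≃* H) {z a b : G} (h : DD z a b) : DD (φ z) (φ a) (φ b) := by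
  have hzp : ∀ x, φ x ∈ zpowers (φ a) ↔ x ∈ zpowers a := by
    intro x
    rw [mem_zpowers_iff, mem_zpowers_iff]
    constructor
    · rintro ⟨k, hk⟩; exact ⟨k, φ.injective (by rw [map_zpow]; exact hk)⟩
    · rintro ⟨k, rfl⟩; exact ⟨k, by rw [map_zpow]⟩
  refine DD.mk' (by rw [MulEquiv.orderOf_eq]; exact h.oa) (by rw [← map_mul, h.aa]) (by rw [← map_mul, h.bb, map_one])
    (by rw [← map_mul, h.ba, map_mul, map_inv]) (by rw [hzp]; exact h.bn) ?_
  intro x hx
  obtain ⟨y, rfl⟩ := φ.surjective x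
  rw [← map_mul, ← map_mul] at hx
  rcases h.cent y (φ.injective hx) with h3 | h3
  · exact Or.inl ((hzp y).2 h3)
  · right; rw [← map_mul]; exact (hzp _).2 h3

def Z6 : Equiv.Perm (Fin 6) := Equiv.swap 0 1 * Equiv.swap 2 3
def A6 : Equiv.Perm (Fin 6) := Equiv.swap 0 3 * Equiv.swap 0 1 * Equiv.swap 0 2 * Equiv.swap 4 5
def B6 : Equiv.Perm (Fin 6) := Equiv.swap 0 1 * Equiv.swap 4 5
theorem c1 : A6 * A6 = Z6 := by decide +kernel
theorem c2 : B6 * B6 = 1 := by decide +kernel
theorem c3 : B6 * A6 = A6⁻¹ * B6 := by decide +kernel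
theorem c4 : ∀ x : Equiv.Perm (Fin 6), x * Z6 = Z6 * x → Equiv.Perm.sign x = 1 →
  (x = 1 ∨ x = A6 ∨ x = A6 * A6 ∨ x = A6 * A6 * A6 ∨ B6 * x = 1 ∨ B6 * x = A6 ∨ B6 * x = A6 * A6 ∨ B6 * x = A6 * A6 * A6) := by decide +kernel
theorem c5 : Equiv.Perm.sign Z6 = 1 ∧ Equiv.Perm.sign A6 = 1 ∧ Equiv.Perm.sign B6 = 1 := by decide +kernel
theorem c6 : A6 ≠ 1 ∧ A6 * A6 ≠ 1 ∧ A6 * A6 * A6 * A6 = 1 ∧ B6 ≠ 1 ∧ B6 ≠ A6 ∧ B6 ≠ A6 * A6 ∧ B6 ≠ A6 * A6 * A6 := by decide +kernel
theorem c7 : Z6.support.card = 4 ∧ Z6 * Z6 = 1 ∧ Z6 ≠ 1 := by decide +kernel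

abbrev Al := ↥(alternatingGroup (Fin 6))
def z6 : Al := ⟨Z6, c5.1⟩
def a6 : Al := ⟨A6, c5.2.1⟩
def b6 : Al := ⟨B6, c5.2.2⟩

theorem dd6 : DD z6 a6 b6 := by
  have h4 : a6 ^ 4 = 1 := Subtype.ext (by
    change A6 ^ 4 = 1
    rw [← c6.2.2.1]; simp only [pow_succ, pow_zero, one_mul])
  have ho : orderOf a6 = 4 := by
    have h1 : orderOf a6 ∣ 2 ^ 2 := orderOf_dvd_of_pow_eq_one (by norm_num; exact h4)
    obtain ⟨k, hk, hk2⟩ := (Nat.dvd_prime_pow Nat.prime_two).1 h1
    interval_cases k
    · exfalso; rw [pow_zero, orderOf_eq_one_iff] at hk2; exact c6.1 (congrArg Subtype.val hk2)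
    · exfalso
      have h2 := pow_orderOf_eq_one a6
      rw [hk2, pow_one, pow_two] at h2
      exact c6.2.1 (congrArg Subtype.val h2)
    · rw [hk2]; norm_num
  have hp : ∀ x : Al, x ∈ zpowers a6 ↔ ((x : Equiv.Perm (Fin 6)) = 1 ∨ (x : Equiv.Perm (Fin 6)) = A6 ∨ (x : Equiv.Perm (Fin 6)) = A6 * A6 ∨
      (x : Equiv.Perm (Fin 6)) = A6 * A6 * A6) := by
    intro x
    constructor
    · intro hx
      haveI := Classical.decEq Al
      rw [mem_zpowers_iff_mem_range_orderOf, Finset.mem_image] at hx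
      obtain ⟨k, hk, rfl⟩ := hx
      rw [ho, Finset.mem_range] at hk
      interval_cases k
      · left; rfl
      · right; left; rw [pow_one]; rfl
      · right; right; left; rw [pow_two]; rfl
      · right; right; right; rw [pow_succ, pow_two]; rfl
    · rintro (h | h | h | h)
      · rw [show x = 1 from Subtype.ext h]; exact one_mem _
      · rw [show x = a6 from Subtype.ext h]; exact mem_zpowers _
      · rw [show x = a6 * a6 from Subtype.ext h]; exact mul_mem (mem_zpowers _) (mem_zpowers _)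
      · rw [show x = a6 * a6 * a6 from Subtype.ext h]; exact mul_mem (mul_mem (mem_zpowers _) (mem_zpowers _)) (mem_zpowers _)
  refine DD.mk' ho (Subtype.ext c1) (Subtype.ext c2) (Subtype.ext c3) ?_ ?_
  · rw [hp]
    rintro (h | h | h | h)
    · exact c6.2.2.2.1 h
    · exact c6.2.2.2.2.1 h
    · exact c6.2.2.2.2.2.1 h
    · exact c6.2.2.2.2.2.2 h
  · intro x hx
    rw [hp, hp]
    rcases c4 x (congrArg Subtype.val hx) x.2 with h | h | h | h | h | h | h | h
    · left; left; exact h
    · left; right; left; exact h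
    · left; right; right; left; exact h
    · left; right; right; right; exact h
    · right; left; exact h
    · right; right; left; exact h
    · right; right; right; left; exact h
    · right; right; right; right; exact h

theorem ct {σ : Equiv.Perm (Fin 6)} (h2 : orderOf σ = 2) (h4 : σ.support.card = 4) : σ.cycleType = Multiset.replicate 2 2 := by
  obtain ⟨n, hn⟩ := Equiv.Perm.cycleType_prime_order (σ := σ) (by rw [h2]; exact Nat.prime_two)
  rw [h2] at hn
  have h5 := Equiv.Perm.sum_cycleType σ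
  rw [hn, h4, Multiset.sum_replicate, smul_eq_mul] at h5
  have h6 : n = 1 := by omega
  rw [hn, h6]

theorem cent_equiv (αt : Al) (hαt : orderOf αt = 2) (hsupp : (αt : Equiv.Perm (Fin 6)).support.card = 4) :
    Nonempty (centralizer ({αt} : Set Al) ≃* DihedralGroup 4) := by
  have h1 : orderOf (αt : Equiv.Perm (Fin 6)) = 2 := by rw [Subgroup.orderOf_coe]; exact hαt
  have h2 : orderOf Z6 = 2 := orderOf_eq_prime (by rw [pow_two]; exact c7.2.1) c7.2.2
  have h3 : IsConj Z6 (αt : Equiv.Perm (Fin 6)) := by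
    rw [Equiv.Perm.isConj_iff_cycleType_eq, ct h1 hsupp, ct h2 c7.1]
  obtain ⟨σ, hσ⟩ := isConj_iff.1 h3
  have h4 := DD.map (MulAut.conjNormal (H := alternatingGroup (Fin 6)) σ) dd6
  have h5 : (MulAut.conjNormal (H := alternatingGroup (Fin 6)) σ) z6 = αt := Subtype.ext (by
    rw [MulAut.conjNormal_apply]; exact hσ)
  rw [h5] at h4
  exact DD.equiv h4

theorem index_two_sym {G : Type*} [Group G] {n : ℕ} (hn : 2 ≤ n) (h : Nonempty (G ≃* Equiv.Perm (Fin n))) : ∃ H : Subgroup G, H.index = 2 := by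
  obtain ⟨e⟩ := h
  obtain ⟨m, rfl⟩ : ∃ m, n = m + 2 := ⟨n - 2, by omega⟩
  refine ⟨(Equiv.Perm.sign.comp e.toMonoidHom).ker, ?_⟩
  have hs : Function.Surjective (Equiv.Perm.sign.comp e.toMonoidHom) :=
    (Equiv.Perm.sign_surjective (Fin (m + 2))).comp e.surjective
  rw [Subgroup.index_ker, MonoidHom.range_eq_top.2 hs, Subgroup.card_top, Nat.card_eq_fintype_card]
  rfl

theorem index_two_isolated {G : Type*} [Group G] [Finite G] {z a b : G} (h : DD z a b)
    (htop : centralizer ({z} : Set G) ⊔ oddCore G = ⊤) : ∃ H : Subgroup G, H.index = 2 := by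
  obtain ⟨N, hN⟩ : ∃ N, N = oddCore G := ⟨_, rfl⟩
  haveI hNn : N.Normal := by rw [hN]; unfold oddCore; infer_instance
  have hNodd : (Nat.card N).Coprime 2 := by rw [hN]; exact CfsgLib.Cores.pPrimeCore_coprime 2
  rw [← hN] at htop
  haveI : Fact (Nat.Prime 2) := ⟨Nat.prime_two⟩
  have hsurj : Function.Surjective ((QuotientGroup.mk' N).comp (centralizer ({z} : Set G)).subtype) := by
    rw [← MonoidHom.range_eq_top, MonoidHom.range_eq_map, ← Subgroup.map_map, ← MonoidHom.range_eq_map, Subgroup.range_subtype]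
    have h1 : (centralizer ({z} : Set G) ⊔ N).map (QuotientGroup.mk' N) = ⊤ := by
      rw [htop, ← MonoidHom.range_eq_map, MonoidHom.range_eq_top]
      exact QuotientGroup.mk'_surjective N
    rw [Subgroup.map_sup, QuotientGroup.map_mk'_self, sup_bot_eq] at h1
    exact h1
  have hp : IsPGroup 2 (G ⧸ N) := h.isPGroup.of_surjective _ hsurj
  have hNt : N ≠ ⊤ := by
    intro h1
    have hzN : z ∈ N := h1 ▸ mem_top z
    have hoz : orderOf z = 2 := orderOf_eq_prime (by rw [pow_two]; exact h.zz) h.z1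
    have h2 : orderOf z ∣ Nat.card N := Subgroup.orderOf_dvd_natCard _ hzN
    rw [hoz] at h2
    have h3 := Nat.Coprime.eq_one_of_dvd hNodd.symm h2
    omega
  haveI : Nontrivial (G ⧸ N) := QuotientGroup.nontrivial_iff.2 hNt
  obtain ⟨k, hk0, hk⟩ := hp.nontrivial_iff_card.1 inferInstance
  obtain ⟨m, rfl⟩ : ∃ m, k = m + 1 := ⟨k - 1, by omega⟩
  obtain ⟨K, hK⟩ := Sylow.exists_subgroup_card_pow_prime (G := G ⧸ N) 2 (n := m) (by rw [hk, pow_succ]; exact dvd_mul_right _ _)
  refine ⟨K.comap (QuotientGroup.mk' N), ?_⟩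
  rw [Subgroup.index_comap_of_surjective _ (QuotientGroup.mk'_surjective N)]
  have h5 := Subgroup.card_mul_index K
  rw [hK, hk, pow_succ] at h5
  exact Nat.eq_of_mul_eq_mul_left (by positivity) h5

/-- Let α̃ be an involution of the alternating group A₆ that is a product of two disjoint transpositions (it lies in the centre of a Sylow 2-subgroup of A₆; its centralizer is dihedral of order 8). Let G be a finite group that has no subgroup of index 2 and contains an involution α, central in some Sylow 2-subgroup of G, with C_G(α) ≅ C_{A₆}(α̃). Then G is isomorphic to A₆ or to PSL₂(7). -/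
theorem result {G : Type*} [Group G] [Finite G]
    (hG : ∀ H : Subgroup G, H.index ≠ 2)
    (αt : ↥(alternatingGroup (Fin 6))) (hαt : orderOf αt = 2) (hsupp : (αt : Equiv.Perm (Fin 6)).support.card = 4)
    (α : G) (hα : orderOf α = 2) (S : Sylow 2 G) (hαS : α ∈ (S : Subgroup G)) (hαc : ∀ s ∈ (S : Subgroup G), s * α = α * s)
    (e : ↥(Subgroup.centralizer ({α} : Set G)) ≃* ↥(Subgroup.centralizer ({αt} : Set ↥(alternatingGroup (Fin 6))))) :
    Nonempty (G ≃* ↥(alternatingGroup (Fin 6))) ∨
      (∃ (F : Type) (_ : Field F) (_ : Fintype F), Fintype.card F = 7 ∧ Nonempty (G ≃* Matrix.ProjectiveSpecialLinearGroup (Fin 2) F)) := by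
  obtain ⟨e2⟩ := cent_equiv αt hαt hsupp
  obtain ⟨a, b, h⟩ := exists_DD hα (e.trans e2)
  have hb' : ∀ {a b : G}, DD α a b → IsConj α b → ¬ IsConj α (b * a) → False := by
    intro a b h hb hba
    have h1 : ∃ H : Subgroup G, H.index = 2 := by
      rcases h.order_b hb hba with h1 | h1
      · exact index_two_sym (by norm_num) (h.sym_four hb h1)
      · exact index_two_sym (by norm_num) (h.sym_five hb hba h1)
    obtain ⟨H, hH⟩ := h1
    exact hG H hH
  by_cases hb : IsConj α b
  · by_cases hba : IsConj α (b * a)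
    · haveI := h.simple hb hba
      rcases h.order_c hb hba with h1 | h1
      · right
        exact ⟨ZMod 7, inferInstance, inferInstance, ZMod.card 7, CfsgLib.PL11.psl_168 h1 (ZMod.card 7)⟩
      · left; exact CfsgLib.A611.alt_six h1
    · exact absurd (hb' h hb hba) id
  · by_cases hba : IsConj α (b * a)
    · exfalso
      apply hb' (h.swap (mem_zpowers a)) hba
      intro h1
      apply hb
      have h2 : b * a * a = b * α := by rw [mul_assoc, h.aa]
      rw [h2] at h1
      exact h1.trans h.conj_b.symm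
    · obtain ⟨H, hH⟩ := index_two_isolated h (h.isolated hb hba)
      exact absurd hH (hG H)

end Cfsg.Agent.S3261
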