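import Mathlib
import Cfsg.Agent.EqBase
import Cfsg.Agent.LibSX11b
import Cfsg.Agent.LibSX11c
import Cfsg.Agent.S2911
import Cfsg.Agent.S3261
/-!
# Groups with an involution centralizer Z₂ × S₄, part 4 (helper11)
-/
set_option autoImplicit false
set_option linter.all false
open Cfsg
open scoped commutatorElement

namespace CfsgLib.SX11

universe u

open CfsgLib.Di11

section OO
variable {G : Type u} [Group G]

/-- the subgroup generated by the elements of odd order -/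
def OO (G : Type u) [Group G] : Subgroup G := Subgroup.closure {g : G | Odd (orderOf g)}

theorem mem_OO {g : G} (hg : Odd (orderOf g)) : g ∈ OO G := Subgroup.subset_closure hg

instance OO_normal : (OO G).Normal := by
  refine ⟨fun n hn g => ?_⟩
  have h1 : (OO G).map (MulAut.conj g).toMonoidHom ≤ OO G := by
    rw [OO, MonoidHom.map_closure, Subgroup.closure_le]
    rintro _ ⟨x, hx, rfl⟩
    apply Subgroup.subset_closure
    show Odd (orderOf ((MulAut.conj g) x))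
    rw [(MulAut.conj g).orderOf_eq]
    exact hx
  exact h1 ⟨n, hn, rfl⟩

theorem OO_pow [Finite G] (g : G) : ∃ k, g ^ (2 ^ k) ∈ OO G := by
  obtain ⟨k, m, hm, hkm⟩ := Nat.exists_eq_two_pow_mul_odd (orderOf_pos g).ne'
  refine ⟨k, mem_OO ?_⟩
  rw [orderOf_pow_of_dvd (by positivity) (by rw [hkm]; exact dvd_mul_right _ _), hkm, Nat.mul_div_cancel_left _ (by positivity)]
  exact hm

theorem OO_no_index_two [Finite G] (H : Subgroup ↥(OO G)) : H.index ≠ 2 := by
  intro hH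
  have h1 : OO G ≤ H.map (OO G).subtype := by
    conv_lhs => rw [OO]
    rw [Subgroup.closure_le]
    intro g hg
    have hgM : g ∈ OO G := mem_OO hg
    refine ⟨⟨g, hgM⟩, ?_, rfl⟩
    obtain ⟨m, hm⟩ := hg
    have h2 : (⟨g, hgM⟩ : ↥(OO G)) ^ 2 ∈ H := Subgroup.sq_mem_of_index_two hH _
    have h3 : ((⟨g, hgM⟩ : ↥(OO G)) ^ 2) ^ (m + 1) = ⟨g, hgM⟩ := by
      apply Subtype.ext
      show (g ^ 2) ^ (m + 1) = g
      rw [← pow_mul, show 2 * (m + 1) = orderOf g + 1 by omega, pow_succ, pow_orderOf_eq_one, one_mul]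
    rw [← h3]
    exact H.pow_mem h2 _
  have h2 : H = ⊤ := by
    rw [eq_top_iff]
    rintro ⟨g, hg⟩ -
    obtain ⟨y, hy, hyg⟩ := h1 hg
    have : y = ⟨g, hg⟩ := Subtype.ext hyg
    rw [← this]; exact hy
  rw [h2, Subgroup.index_top] at hH
  omega

theorem OO_sup [Finite G] (S : Sylow 2 G) : OO G ⊔ (S : Subgroup G) = ⊤ := by
  haveI : Fact (Nat.Prime 2) := ⟨Nat.prime_two⟩
  have hq : IsPGroup 2 (G ⧸ OO G) := by
    intro x
    obtain ⟨g, rfl⟩ := QuotientGroup.mk_surjective x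
    obtain ⟨k, hk⟩ := OO_pow g
    exact ⟨k, by rw [← QuotientGroup.mk_pow]; exact (QuotientGroup.eq_one_iff _).mpr hk⟩
  obtain ⟨k, hk⟩ := hq.exists_card_eq
  have h1 : (OO G).index = 2 ^ k := by rw [← hk]; rfl
  have h2 : (OO G ⊔ (S : Subgroup G)).index ∣ 2 ^ k := by rw [← h1]; exact Subgroup.index_dvd_of_le le_sup_left
  have h3 : (OO G ⊔ (S : Subgroup G)).index ∣ (S : Subgroup G).index := Subgroup.index_dvd_of_le le_sup_right
  have h4 : Nat.Coprime (2 ^ k) (S : Subgroup G).index := Nat.Coprime.pow_left _ ((Nat.Prime.coprime_iff_not_dvd Nat.prime_two).mpr S.not_dvd_index)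
  exact Subgroup.index_eq_one.mp (Nat.eq_one_of_dvd_coprimes h4 h2 h3)

end OO

theorem simple_of_DD {M : Type u} [Group M] [Finite M] (hM : ∀ H : Subgroup M, H.index ≠ 2) {z a b : M} (h : DD z a b) :
    IsSimpleGroup M ∧ (Nat.card M = 168 ∨ Nat.card M = 360) := by
  have hb' : ∀ {a b : M}, DD z a b → IsConj z b → ¬ IsConj z (b * a) → False := by
    intro a b h hb hba
    have h1 : ∃ H : Subgroup M, H.index = 2 := by
      rcases h.order_b hb hba with h1 | h1
      · exact Cfsg.Agent.S3261.index_two_sym (by norm_num) (h.sym_four hb h1)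
      · exact Cfsg.Agent.S3261.index_two_sym (by norm_num) (h.sym_five hb hba h1)
    obtain ⟨H, hH⟩ := h1
    exact hM H hH
  by_cases hb : IsConj z b
  · by_cases hba : IsConj z (b * a)
    · exact ⟨h.simple hb hba, h.order_c hb hba⟩
    · exact absurd (hb' h hb hba) id
  · by_cases hba : IsConj z (b * a)
    · exfalso
      apply hb' (h.swap (Subgroup.mem_zpowers a)) hba
      intro h1
      apply hb
      have h2 : b * a * a = b * z := by rw [mul_assoc, h.aa]
      rw [h2] at h1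
      exact h1.trans h.conj_b.symm
    · obtain ⟨H, hH⟩ := Cfsg.Agent.S3261.index_two_isolated h (h.isolated hb hba)
      exact absurd hH (hM H)

variable {G : Type u} [Group G] {t : G} {ι : H0 →* G}

theorem odd_three {x : G} (h : x * x * x = 1) : Odd (orderOf x) := by
  have h1 : orderOf x ∣ 3 := orderOf_dvd_of_pow_eq_one (by rw [pow_succ, sq]; exact h)
  rcases (Nat.dvd_prime Nat.prime_three).mp h1 with h2 | h2
  · rw [h2]; exact odd_one
  · rw [h2]; decide

theorem Cf.zM (h : Cf t ι) : ι zz ∈ OO G ∧ ι vv ∈ OO G := by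
  constructor
  · obtain ⟨a, b, ha, hb, hab⟩ := f_V1
    rw [hab, map_mul]
    exact (OO G).mul_mem (mem_OO (odd_three (by rw [← map_mul, ← map_mul, ha, map_one]))) (mem_OO (odd_three (by rw [← map_mul, ← map_mul, hb, map_one])))
  · obtain ⟨a, b, ha, hb, hab⟩ := f_V2
    rw [hab, map_mul]
    exact (OO G).mul_mem (mem_OO (odd_three (by rw [← map_mul, ← map_mul, ha, map_one]))) (mem_OO (odd_three (by rw [← map_mul, ← map_mul, hb, map_one])))

/-- the quotient by `OO G` is abelian -/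
theorem Cf.comm_M [Finite G] (h : Cf t ι) (a b : G) : a * b * a⁻¹ * b⁻¹ ∈ OO G := by
  obtain ⟨S, hS⟩ := h.exists_syl
  have htop := OO_sup S
  have hdec : ∀ g : G, ∃ x : H0, x * zz = zz * x ∧ (QuotientGroup.mk g : G ⧸ OO G) = QuotientGroup.mk (ι x) := by
    intro g
    have hg : g ∈ OO G ⊔ (S : Subgroup G) := by rw [htop]; trivial
    obtain ⟨m, hm, s, hs, rfl⟩ := Subgroup.mem_sup_of_normal_left.mp hg
    rw [hS] at hs
    obtain ⟨x, hx, rfl⟩ := (h.mem_T s).mp hs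
    refine ⟨x, hx, ?_⟩
    rw [QuotientGroup.mk_mul, (QuotientGroup.eq_one_iff m).mpr hm, one_mul]
  obtain ⟨x, hx, hxa⟩ := hdec a
  obtain ⟨y, hy, hyb⟩ := hdec b
  rw [← QuotientGroup.eq_one_iff, QuotientGroup.mk_mul, QuotientGroup.mk_mul, QuotientGroup.mk_mul, QuotientGroup.mk_inv, QuotientGroup.mk_inv, hxa, hyb,
    ← QuotientGroup.mk_inv, ← QuotientGroup.mk_inv, ← QuotientGroup.mk_mul, ← QuotientGroup.mk_mul, ← QuotientGroup.mk_mul, QuotientGroup.eq_one_iff]
  rw [← map_inv, ← map_inv, ← map_mul, ← map_mul, ← map_mul]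
  rcases f_comm x y hx hy with h1 | h1
  · rw [h1, map_one]; exact (OO G).one_mem
  · rw [h1]; exact h.zM.1

/-- fusion of t when not central -/
theorem Cf.exists_fus [Finite G] (h : Cf t ι) (hnc : ¬ ∀ g, g * t = t * g) :
    ∃ (g : G) (y : H0), g * t * g⁻¹ = ι y ∧ ¬ inE y ∧ y * zz = zz * y := by
  by_contra hcon
  push Not at hcon
  apply hnc
  apply h.central_of
  intro g hg
  obtain ⟨y, hy⟩ := (h.rng _).mp hg
  refine ⟨y, ?_, hy.symm⟩
  by_contra hyE
  have htt : t * t = 1 := by rw [← h.tt, ← map_mul, f_t0.2.1, map_one]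
  have hyy : y * y = 1 := by
    apply h.inj
    rw [map_mul, hy, map_one]
    calc g * t * g⁻¹ * (g * t * g⁻¹) = g * (t * t) * g⁻¹ := by group
      _ = 1 := by rw [htt]; group
  obtain ⟨k, hk⟩ := f_inv y hyy
  apply hcon (ι k * g) (k * y * k⁻¹)
  · simp only [map_mul, map_inv, hy]
    group
  · intro h1
    apply hyE
    have h2 := f_E4 _ k⁻¹ h1
    have h3 : k⁻¹ * (k * y * k⁻¹) * k⁻¹⁻¹ = y := by group
    rwa [h3] at h2
  · exact hk

theorem Cf.exists_beta [Finite G] (h : Cf t ι) (hnc : ¬ ∀ g, g * t = t * g) : ι bb ∈ OO G ∨ ι (t0 * bb) ∈ OO G := by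
  obtain ⟨g, y, hgy, hyE, hyz⟩ := h.exists_fus hnc
  have h1 : ι (y * t0) ∈ OO G := by
    have h2 := h.comm_M g t
    have htt : t * t = 1 := by rw [← h.tt, ← map_mul, f_t0.2.1, map_one]
    have hti : t⁻¹ = t := inv_eq_of_mul_eq_one_right htt
    rw [hgy, hti, ← h.tt, ← map_mul] at h2
    exact h2
  have h2 : ¬ inE (y * t0) := fun h3 => hyE (f_E5 y h3)
  have h3 : (y * t0) * zz = zz * (y * t0) := by
    rw [mul_assoc, ← f_t0c zz, ← mul_assoc, hyz, mul_assoc]
  obtain ⟨hz, hv⟩ := h.zM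
  have hmul : ∀ a b : H0, ι a ∈ OO G → ι b ∈ OO G → ι (a * b) ∈ OO G := by
    intro a b ha hb; rw [map_mul]; exact (OO G).mul_mem ha hb
  rcases f_B _ h3 h2 with h4 | h4
  · left
    rcases h4 with h5 | h5 | h5 | h5
    · rw [← h5]; exact h1
    · rw [← h5]; exact hmul _ _ h1 hz
    · rw [← h5]; exact hmul _ _ h1 hv
    · rw [← h5]; exact hmul _ _ h1 (hmul _ _ hz hv)
  · right
    rcases h4 with h5 | h5 | h5 | h5
    · rw [← h5]; exact h1
    · rw [← h5]; exact hmul _ _ h1 hz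
    · rw [← h5]; exact hmul _ _ h1 hv
    · rw [← h5]; exact hmul _ _ h1 (hmul _ _ hz hv)

theorem Cf.t_notin [Finite G] (h : Cf t ι) (hnc : ¬ ∀ g, g * t = t * g) : t ∉ OO G := by
  haveI : Fact (Nat.Prime 2) := ⟨Nat.prime_two⟩
  intro ht
  obtain ⟨hz, hv⟩ := h.zM
  rw [← h.tt] at ht
  have hb : ι bb ∈ OO G := by
    rcases h.exists_beta hnc with h1 | h1
    · exact h1
    · have h2 := (OO G).mul_mem ht h1
      rw [← map_mul, ← mul_assoc, f_t0.2.1, one_mul] at h2
      exact h2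
  obtain ⟨S, hS⟩ := h.exists_syl
  have hle : (S : Subgroup G) ≤ OO G := by
    rw [hS]
    intro g hg
    obtain ⟨x, hx, rfl⟩ := (h.mem_T g).mp hg
    obtain ⟨c, d, e, f, hx2⟩ := f_T x hx
    rw [hx2, map_mul, map_mul, map_mul, map_pow, map_pow, map_pow, map_pow]
    exact (OO G).mul_mem ((OO G).mul_mem ((OO G).mul_mem ((OO G).pow_mem ht _) ((OO G).pow_mem hz _)) ((OO G).pow_mem hv _)) ((OO G).pow_mem hb _)
  have htop : OO G = ⊤ := by
    have := OO_sup S
    rwa [sup_eq_left.mpr hle] at this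
  -- index two subgroup
  let F : Multiplicative (ZMod 2) × DihedralGroup 4 →* G := ι.comp (MonoidHom.mk' fD fD_mul)
  have hFi : Function.Injective F := by
    intro p q hpq
    exact fD_inj p q (h.inj hpq)
  have hFr : F.range = (S : Subgroup G) := by
    rw [hS]
    ext g
    rw [h.mem_T]
    constructor
    · rintro ⟨p, rfl⟩
      exact ⟨fD p, fD_comm p, rfl⟩
    · rintro ⟨x, hx, rfl⟩
      obtain ⟨p, rfl⟩ := fD_range x hx
      exact ⟨p, rfl⟩
  obtain ⟨H, hH⟩ := Cfsg.Agent.S2911.result S ⟨((MonoidHom.ofInjective hFi).trans (MulEquiv.subgroupCongr hFr)).symm⟩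
  have h1 := OO_no_index_two (G := G) (H.comap (OO G).subtype)
  apply h1
  have h2 : (H.comap (OO G).subtype).index = H.relIndex (OO G) := rfl
  rw [h2, htop, Subgroup.relIndex_top_right, hH]

theorem pow_fin_mem {β : H0} {x : H0} (hx : ∃ i : Fin 4, x = β ^ (i : ℕ)) : ι x ∈ Subgroup.zpowers (ι β) := by
  obtain ⟨i, hi⟩ := hx
  rw [hi, map_pow]
  exact Subgroup.pow_mem _ (Subgroup.mem_zpowers _) _

/-- the dihedral structure in `OO G` and index two -/
theorem Cf.struct_aux [Finite G] (h : Cf t ι) (htM : t ∉ OO G) (α : H0) (hα : ι α ∈ OO G)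
    (fD : ∀ x : H0, x * zz = zz * x → ((∃ i : Fin 4, x = α ^ (i : ℕ)) ∨ (∃ i : Fin 4, vv * x = α ^ (i : ℕ)) ∨
    (∃ i : Fin 4, t0 * x = α ^ (i : ℕ)) ∨ (∃ i : Fin 4, vv * (t0 * x) = α ^ (i : ℕ))))
    (f1 : α * α = zz) (f2 : vv * α = α⁻¹ * vv) (f3 : ∀ i : Fin 4, vv ≠ α ^ (i : ℕ)) :
    ∃ z a b : ↥(OO G), DD z a b ∧ (z : G) = ι zz := by
  obtain ⟨hz, hv⟩ := h.zM
  have hoa : orderOf (ι α) = 4 := by
    haveI : Fact (Nat.Prime 2) := ⟨Nat.prime_two⟩
    have : orderOf (ι α) = 2 ^ (1 + 1) := by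
      apply orderOf_eq_prime_pow
      · rw [pow_one, sq, ← map_mul, f1]; exact h.zne
      · rw [show 2 ^ (1 + 1) = 2 * 2 by norm_num, pow_mul, sq (ι α), ← map_mul, f1, sq, ← map_mul, f_t0.2.2.2.1, map_one]
    rw [this]; norm_num
  refine ⟨⟨ι zz, hz⟩, ⟨ι α, hα⟩, ⟨ι vv, hv⟩, ?_, rfl⟩
  have hzp : ∀ u : ↥(OO G), (u : G) ∈ Subgroup.zpowers (ι α) → u ∈ Subgroup.zpowers (⟨ι α, hα⟩ : ↥(OO G)) := by
    intro u hu
    obtain ⟨i, hi⟩ := Subgroup.mem_zpowers_iff.mp hu
    exact Subgroup.mem_zpowers_iff.mpr ⟨i, Subtype.ext hi⟩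
  apply Cfsg.Agent.S3261.DD.mk'
  · rw [Subgroup.orderOf_mk, hoa]
  · apply Subtype.ext
    show ι α * ι α = ι zz
    rw [← map_mul, f1]
  · apply Subtype.ext
    show ι vv * ι vv = 1
    rw [← map_mul, f_t0.2.2.2.2.2.1, map_one]
  · apply Subtype.ext
    show ι vv * ι α = (ι α)⁻¹ * ι vv
    rw [← map_mul, f2, map_mul, map_inv]
  · intro hmem
    have h1 : ι vv ∈ Subgroup.zpowers (ι α) := by
      obtain ⟨i, hi⟩ := Subgroup.mem_zpowers_iff.mp hmem
      exact Subgroup.mem_zpowers_iff.mpr ⟨i, congrArg Subtype.val hi⟩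
    have h2 : ι vv ∈ Submonoid.powers (ι α) := mem_powers_iff_mem_zpowers.mpr h1
    obtain ⟨n, hn⟩ := h2
    have h3 : (ι α) ^ (n % 4) = ι vv := by
      have : (ι α) ^ (n % 4) = (ι α) ^ n := by
        have h5 := pow_mod_orderOf (ι α) n
        rwa [hoa] at h5
      rw [this]; exact hn
    apply f3 ⟨n % 4, Nat.mod_lt _ (by norm_num)⟩
    apply h.inj
    rw [map_pow]
    exact h3.symm
  · rintro ⟨x, hxM⟩ hx
    have hx' : x * ι zz = ι zz * x := congrArg Subtype.val hx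
    obtain ⟨y, hy, hyx⟩ := (h.mem_T x).mp (Subgroup.mem_centralizer_singleton_iff.mpr hx')
    subst hyx
    have hzpM : Subgroup.zpowers (ι α) ≤ OO G := by rw [Subgroup.zpowers_le]; exact hα
    rcases fD y hy with h1 | h1 | h1 | h1
    · left; exact hzp _ (pow_fin_mem h1)
    · right
      apply hzp
      show ι vv * ι y ∈ _
      rw [← map_mul]
      exact pow_fin_mem h1
    · exfalso
      apply htM
      have h2 : ι (t0 * y) ∈ OO G := hzpM (pow_fin_mem h1)
      have h3 := (OO G).mul_mem h2 ((OO G).inv_mem hxM)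
      rw [map_mul, mul_inv_cancel_right, h.tt] at h3
      exact h3
    · exfalso
      apply htM
      have h2 : ι (vv * (t0 * y)) ∈ OO G := hzpM (pow_fin_mem h1)
      have h3 := (OO G).mul_mem ((OO G).mul_mem ((OO G).inv_mem hv) h2) ((OO G).inv_mem hxM)
      rw [map_mul, map_mul, inv_mul_cancel_left, mul_inv_cancel_right, h.tt] at h3
      exact h3

theorem Cf.struct [Finite G] (h : Cf t ι) (hnc : ¬ ∀ g, g * t = t * g) :
    ∃ z a b : ↥(OO G), DD z a b ∧ (z : G) = ι zz := by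
  have htM := h.t_notin hnc
  obtain ⟨hz, hv⟩ := h.zM
  rcases h.exists_beta hnc with h1 | h1
  · exact h.struct_aux htM (al bb) (by rw [al, map_mul]; exact (OO G).mul_mem h1 hv) f_DD1 f_al1.1 f_al1.2.1 f_al1.2.2.1
  · exact h.struct_aux htM (al (t0 * bb)) (by rw [al, map_mul]; exact (OO G).mul_mem h1 hv) f_DD2 f_al2.1 f_al2.2.1 f_al2.2.2.1

theorem Cf.simple [Finite G] (h : Cf t ι) (hnc : ¬ ∀ g, g * t = t * g) :
    IsSimpleGroup ↥(OO G) ∧ (Nat.card ↥(OO G) = 168 ∨ Nat.card ↥(OO G) = 360) := by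
  obtain ⟨z, a, b, hD, -⟩ := h.struct hnc
  exact simple_of_DD OO_no_index_two hD

end CfsgLib.SX11
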