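import Mathlib
import Cfsg.Agent.EqBase
import Cfsg.Agent.LibSX11d
import Cfsg.Agent.LibH2Baer
/-!
# Groups with an involution centralizer Z₂ × S₄, part 5 (helper11)
-/
set_option autoImplicit false
set_option linter.all false
open Cfsg
open scoped commutatorElement

namespace CfsgLib.SX11

universe u

open CfsgLib.Di11

variable {G : Type u} [Group G] {t : G} {ι : H0 →* G}

theorem Cf.tt1 (h : Cf t ι) : t * t = 1 := by rw [← h.tt, ← map_mul, f_t0.2.1, map_one]

theorem Cf.two [Finite G] (h : Cf t ι) (hnc : ¬ ∀ g, g * t = t * g) (g : G) : g ∈ OO G ∨ t * g ∈ OO G := by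
  obtain ⟨S, hS⟩ := h.exists_syl
  have hg : g ∈ OO G ⊔ (S : Subgroup G) := by rw [OO_sup S]; trivial
  obtain ⟨m, hm, s, hs, rfl⟩ := Subgroup.mem_sup_of_normal_left.mp hg
  rw [hS] at hs
  obtain ⟨x, hx, rfl⟩ := (h.mem_T s).mp hs
  obtain ⟨hz, hv⟩ := h.zM
  set π := QuotientGroup.mk' (OO G) with hπ
  have hπ1 : ∀ y : G, π y = 1 ↔ y ∈ OO G := fun y => QuotientGroup.eq_one_iff y
  have htt : π t * π t = 1 := by rw [← map_mul, h.tt1, map_one]
  have hb : π (ι bb) = 1 ∨ π (ι bb) = π t := by
    rcases h.exists_beta hnc with h1 | h1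
    · left; exact (hπ1 _).mpr h1
    · right
      have h2 := (hπ1 _).mpr h1
      rw [map_mul, map_mul, h.tt] at h2
      have h3 : π t * π (ι bb) = π t * π t := by rw [h2, htt]
      exact mul_left_cancel h3
  have key : π (m * ι x) = 1 ∨ π (m * ι x) = π t := by
    obtain ⟨c, d, e, f, hx2⟩ := f_T x hx
    have h1 : π (m * ι x) = π t ^ (c : ℕ) * π (ι bb) ^ (f : ℕ) := by
      rw [hx2]
      simp only [map_mul, map_pow, h.tt]
      rw [(hπ1 m).mpr hm, (hπ1 _).mpr hz, (hπ1 _).mpr hv, one_pow, one_pow, one_mul, mul_one, mul_one]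
    rw [h1]
    fin_cases c <;> fin_cases f <;> rcases hb with hb | hb <;> simp [hb, htt]
  rcases key with h1 | h1
  · left; exact (hπ1 _).mp h1
  · right
    rw [← hπ1, map_mul, h1, htt]

theorem Cf.index_two [Finite G] (h : Cf t ι) (hnc : ¬ ∀ g, g * t = t * g) : (OO G).index = 2 := by
  rw [Subgroup.index_eq_two_iff]
  refine ⟨t, fun b => ?_⟩
  have htM := h.t_notin hnc
  have hc : b * t ∈ OO G ↔ t * b ∈ OO G := by
    constructor
    · intro h1
      have := OO_normal.conj_mem _ h1 t
      have h2 : t * (b * t) * t⁻¹ = t * b := by group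
      rwa [h2] at this
    · intro h1
      have := OO_normal.conj_mem _ h1 t⁻¹
      have h2 : t⁻¹ * (t * b) * t⁻¹⁻¹ = b * t := by group
      rwa [h2] at this
  by_cases hb : b ∈ OO G
  · right
    refine ⟨hb, ?_⟩
    intro h1
    apply htM
    have := (OO G).mul_mem ((OO G).inv_mem hb) h1
    rwa [inv_mul_cancel_left] at this
  · left
    refine ⟨?_, hb⟩
    rw [hc]
    exact (h.two hnc b).resolve_left hb

theorem Cf.card_C [Finite G] (h : Cf t ι) : Nat.card ↥(Subgroup.centralizer ({t} : Set G)) = 48 := by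
  rw [← f_H0, ← Nat.card_eq_fintype_card]
  symm
  apply Nat.card_congr
  refine Equiv.ofBijective (fun x => ⟨ι x, Subgroup.mem_centralizer_singleton_iff.mpr ((h.rng _).mpr ⟨x, rfl⟩)⟩) ⟨?_, ?_⟩
  · intro x y hxy
    exact h.inj (congrArg Subtype.val hxy)
  · rintro ⟨g, hg⟩
    obtain ⟨x, rfl⟩ := (h.rng g).mp (Subgroup.mem_centralizer_singleton_iff.mp hg)
    exact ⟨x, rfl⟩

/-- upper bound for the conjugacy class -/
theorem conj_card_le {G : Type*} [Group G] [Finite G] (t : G) : {w : G | ∃ g, w = g * t * g⁻¹}.ncard ≤ (Subgroup.centralizer ({t} : Set G)).index := by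
  classical
  rw [← Nat.card_coe_set_eq]
  have hch : ∀ w : {w : G | ∃ g, w = g * t * g⁻¹}, ∃ g, (w : G) = g * t * g⁻¹ := fun w => w.2
  choose f hf using hch
  have hinj : Function.Injective (fun w : {w : G | ∃ g, w = g * t * g⁻¹} => (QuotientGroup.mk (f w) : G ⧸ Subgroup.centralizer ({t} : Set G))) := by
    intro w w' hww
    have h1 := QuotientGroup.eq.mp hww
    rw [Subgroup.mem_centralizer_singleton_iff] at h1
    apply Subtype.ext
    rw [hf w, hf w']
    have h2 : (f w)⁻¹ * f w' * t * ((f w)⁻¹ * f w')⁻¹ = t := mul_inv_eq_iff_eq_mul.mpr h1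
    have h3 : f w' * t * (f w')⁻¹ = f w * ((f w)⁻¹ * f w' * t * ((f w)⁻¹ * f w')⁻¹) * (f w)⁻¹ := by group
    rw [h3, h2]
  exact Nat.card_le_card_of_injective _ hinj

theorem Cf.not_168 [Finite G] (h : Cf t ι) (hnc : ¬ ∀ g, g * t = t * g) : Nat.card ↥(OO G) ≠ 168 := by
  classical
  haveI : Fact (Nat.Prime 2) := ⟨Nat.prime_two⟩
  intro h168
  have hG : Nat.card G = 336 := by
    have := (OO G).card_mul_index
    rw [h.index_two hnc, h168] at this
    exact this.symm
  have h7 : (Subgroup.centralizer ({t} : Set G)).index = 7 := by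
    have := (Subgroup.centralizer ({t} : Set G)).card_mul_index
    rw [h.card_C, hG] at this
    omega
  obtain ⟨g1, y, hgy, hyE, hyz⟩ := h.exists_fus hnc
  have htt := h.tt1
  have hyy : y * y = 1 := by
    apply h.inj
    rw [map_mul, ← hgy, map_one]
    calc g1 * t * g1⁻¹ * (g1 * t * g1⁻¹) = g1 * (t * t) * g1⁻¹ := by group
      _ = 1 := by rw [htt]; group
  have hsix := f_six y hyy hyE
  -- all conjugates commute with t
  have hcomm : ∀ g, (g * t * g⁻¹) * t = t * (g * t * g⁻¹) := by
    intro g0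
    by_contra hno
    set A : Finset H0 := Finset.univ.image (fun h : H0 => h * y * h⁻¹) with hA
    set B : Finset G := insert t (insert (g0 * t * g0⁻¹) (A.image ι)) with hB
    have hBs : (B : Set G) ⊆ {w : G | ∃ g, w = g * t * g⁻¹} := by
      intro w hw
      rw [Finset.mem_coe, hB, Finset.mem_insert, Finset.mem_insert, Finset.mem_image] at hw
      rcases hw with rfl | rfl | ⟨x, hx, rfl⟩
      · exact ⟨1, by group⟩
      · exact ⟨g0, rfl⟩
      · rw [hA, Finset.mem_image] at hx
        obtain ⟨k, -, rfl⟩ := hx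
        refine ⟨ι k * g1, ?_⟩
        rw [map_mul, map_mul, map_inv, ← hgy]
        group
    have h8 : 8 ≤ B.card := by
      rw [hB, Finset.card_insert_of_notMem, Finset.card_insert_of_notMem, Finset.card_image_of_injective _ h.inj]
      · omega
      · rw [Finset.mem_image]
        rintro ⟨x, -, hx⟩
        exact hno (by rw [← hx]; exact (h.rng _).mpr ⟨x, rfl⟩)
      · rw [Finset.mem_insert, Finset.mem_image]
        rintro (h1 | ⟨x, hx, hxt⟩)
        · apply hno; rw [← h1]
        · rw [hA, Finset.mem_image] at hx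
          obtain ⟨k, -, rfl⟩ := hx
          rw [← h.tt] at hxt
          have h2 := h.inj hxt
          apply hyE
          have h3 := f_E4 t0 k⁻¹ (Or.inr (Or.inl rfl))
          rw [← h2] at h3
          have h4 : k⁻¹ * (k * y * k⁻¹) * k⁻¹⁻¹ = y := by group
          rwa [h4] at h3
    have h9 := Set.ncard_le_ncard hBs (Set.toFinite _)
    rw [Set.ncard_coe_finset] at h9
    have h10 := conj_card_le t
    omega
  -- t lies in the 2-core
  have hto : IsPGroup 2 ↥(Subgroup.zpowers t) := by
    have : orderOf t = 2 := orderOf_eq_prime (by rw [sq]; exact htt) (by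
      rw [← h.tt]; intro h1; exact f_t0.1 (h.inj (by rw [h1, map_one])))
    exact IsPGroup.of_card (n := 1) (by rw [Nat.card_zpowers, this, pow_one])
  have htP : t ∈ pCore 2 G := by
    apply CfsgLib.H2Baer.baer_suzuki_elt
    intro g
    set w := g * t * g⁻¹ with hw
    have hwo : IsPGroup 2 ↥(Subgroup.zpowers w) := by
      have h1 : orderOf w = 2 := by
        apply orderOf_eq_prime
        · rw [sq, hw]
          calc g * t * g⁻¹ * (g * t * g⁻¹) = g * (t * t) * g⁻¹ := by group
            _ = 1 := by rw [htt]; group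
        · intro h1
          have h2 : t = 1 := conj_eq_one_iff.mp h1
          rw [← h.tt] at h2; exact f_t0.1 (h.inj (by rw [h2, map_one]))
      exact IsPGroup.of_card (n := 1) (by rw [Nat.card_zpowers, h1, pow_one])
    have hle : Subgroup.closure {t, w} ≤ Subgroup.zpowers t ⊔ Subgroup.zpowers w := by
      rw [Subgroup.closure_le]
      rintro v (rfl | hv)
      · exact (le_sup_left : Subgroup.zpowers v ≤ _) (Subgroup.mem_zpowers v)
      · rw [Set.mem_singleton_iff] at hv
        rw [hv]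
        exact (le_sup_right : Subgroup.zpowers w ≤ _) (Subgroup.mem_zpowers w)
    have hN : Subgroup.zpowers t ≤ Subgroup.normalizer ((Subgroup.zpowers w : Subgroup G) : Set G) := by
      refine le_trans ?_ (Subgroup.centralizer_le_normalizer _)
      rw [Subgroup.zpowers_le, Subgroup.mem_centralizer_iff]
      intro v hv
      obtain ⟨i, rfl⟩ := Subgroup.mem_zpowers_iff.mp hv
      exact ((show Commute w t from hcomm g).zpow_left i).eq
    exact (hto.to_sup_of_normal_right' hwo hN).to_le hle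
  obtain ⟨hsimp, -⟩ := h.simple hnc
  haveI := hsimp
  have hPn : (pCore 2 G).Normal := inferInstance
  have hPp : IsPGroup 2 ↥(pCore 2 G) := CfsgLib.Cores.pCore_isPGroup 2
  have hn : ((pCore 2 G).subgroupOf (OO G)).Normal := inferInstance
  rcases hn.eq_bot_or_eq_top with h1 | h1
  · have hcen : OO G ≤ Subgroup.centralizer ({t} : Set G) := by
      intro m hm
      rw [Subgroup.mem_centralizer_singleton_iff]
      have h2 : m * t * m⁻¹ * t⁻¹ ∈ pCore 2 G := (pCore 2 G).mul_mem (hPn.conj_mem t htP m) ((pCore 2 G).inv_mem htP)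
      have h3 : m * t * m⁻¹ * t⁻¹ ∈ OO G := by
        have : m * t * m⁻¹ * t⁻¹ = m * (t * m⁻¹ * t⁻¹) := by group
        rw [this]
        exact (OO G).mul_mem hm (OO_normal.conj_mem _ ((OO G).inv_mem hm) t)
      have h4 : (⟨_, h3⟩ : ↥(OO G)) ∈ (pCore 2 G).subgroupOf (OO G) := h2
      rw [h1, Subgroup.mem_bot] at h4
      have h5 : m * t * m⁻¹ * t⁻¹ = 1 := congrArg Subtype.val h4
      have h6 : m * t * (t * m)⁻¹ = 1 := by rw [← h5]; group
      exact mul_inv_eq_one.mp h6
    have h2 := Subgroup.card_le_of_le hcen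
    rw [h168, h.card_C] at h2
    omega
  · have h2 : OO G ≤ pCore 2 G := Subgroup.subgroupOf_eq_top.mp h1
    have h3 : IsPGroup 2 ↥(OO G) := hPp.to_le h2
    obtain ⟨k, hk⟩ := h3.exists_card_eq
    rw [h168] at hk
    have h4 : 7 ∣ 2 ^ k := by rw [← hk]; norm_num
    have h5 := (Nat.Prime.dvd_of_dvd_pow (by norm_num : Nat.Prime 7) h4)
    revert h5; decide

end CfsgLib.SX11
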