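import Mathlib
import Cfsg.Agent.EqBase
import Cfsg.Agent.LibSX11e
import Cfsg.Agent.LibA6c
import Cfsg.Agent.LibDi11f
/-!
# Groups with an involution centralizer Z₂ × S₄, part 6 (helper11)
-/
set_option autoImplicit false
set_option linter.all false
open Cfsg
open scoped commutatorElement

namespace CfsgLib.SX11

universe u

open CfsgLib.Di11

abbrev A6 := alternatingGroup (Fin 6)

theorem perm5 (g : Equiv.Perm (Fin 6)) (h : orderOf g = 5) : ∃ j, g j = j ∧ ∀ k l, k ≠ j → l ≠ j → ∃ i : ℤ, (g ^ i) k = l := by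
  have hc : g.IsCycle := by
    apply Equiv.Perm.isCycle_of_prime_order (by rw [h]; norm_num)
    rw [h]
    calc g.support.card ≤ Fintype.card (Fin 6) := Finset.card_le_univ _
      _ < 2 * 5 := by simp
  have h5 : g.support.card = 5 := by rw [← hc.orderOf, h]
  have h1 : (g.supportᶜ).card = 1 := by
    rw [Finset.card_compl, h5]; simp
  obtain ⟨j, hj⟩ := Finset.card_eq_one.mp h1
  have hm : ∀ k, k ≠ j → g k ≠ k := by
    intro k hk hgk
    apply hk
    have : k ∈ g.supportᶜ := by rw [Finset.mem_compl, Equiv.Perm.mem_support, not_not]; exact hgk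
    rw [hj, Finset.mem_singleton] at this
    exact this
  refine ⟨j, ?_, ?_⟩
  · have : j ∈ g.supportᶜ := by rw [hj]; exact Finset.mem_singleton_self j
    rwa [Finset.mem_compl, Equiv.Perm.mem_support, not_not] at this
  · intro k l hk hl
    exact hc.exists_zpow_eq (hm k hk) (hm l hl)

theorem fix_of_not_trans (X : Subgroup A6) (h5 : 5 ∣ Nat.card X) (hnt : ∃ p q : Fin 6, ∀ x ∈ X, x • p ≠ q) :
    ∃ j : Fin 6, ∀ x ∈ X, x • j = j := by
  haveI : Fact (Nat.Prime 5) := ⟨by norm_num⟩
  obtain ⟨g, hg⟩ := exists_prime_orderOf_dvd_card' 5 h5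
  have hg2 : orderOf ((g : A6) : Equiv.Perm (Fin 6)) = 5 := by
    rw [Subgroup.orderOf_coe, Subgroup.orderOf_coe, hg]
  obtain ⟨j, hj1, hj2⟩ := perm5 _ hg2
  refine ⟨j, ?_⟩
  by_contra hno
  push Not at hno
  obtain ⟨x, hx, hxj⟩ := hno
  have hall : ∀ l : Fin 6, ∃ y ∈ X, y • j = l := by
    intro l
    by_cases hl : l = j
    · exact ⟨1, X.one_mem, by rw [hl, one_smul]⟩
    · obtain ⟨i, hi⟩ := hj2 (x • j) l hxj hl
      refine ⟨(g : A6) ^ i * x, X.mul_mem (X.zpow_mem g.2 i) hx, ?_⟩
      rw [mul_smul, ← hi]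
      rfl
  obtain ⟨p, q, hpq⟩ := hnt
  obtain ⟨y, hy, hyp⟩ := hall p
  obtain ⟨w, hw, hwq⟩ := hall q
  apply hpq (w * y⁻¹) (X.mul_mem hw (X.inv_mem hy))
  rw [mul_smul, ← hyp, inv_smul_smul, hwq]

theorem orbit_card {D : Type*} [Group D] [Finite D] {X : Type*} [Finite X] [MulAction D X] (p : X) :
    Nat.card (MulAction.orbit D p) * Nat.card (MulAction.stabilizer D p) = Nat.card D := by
  rw [← Nat.card_prod]
  exact Nat.card_congr (MulAction.orbitProdStabilizerEquivGroup D p)

theorem exists_stab_four {D : Type*} [Group D] [Finite D] [MulAction D (Fin 6)] (hD : Nat.card D = 8) :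
    ∃ p : Fin 6, 4 ∣ Nat.card (MulAction.stabilizer D p) := by
  classical
  by_contra hno
  push Not at hno
  have h4 : ∀ p : Fin 6, 4 ∣ Nat.card (MulAction.orbit D p) := by
    intro p
    have h1 := orbit_card (D := D) p
    have h2 := hno p
    rw [hD] at h1
    have h3 : Nat.card (MulAction.stabilizer D p) ∣ 8 := ⟨_, by rw [mul_comm]; exact h1.symm⟩
    have h5 : Nat.card (MulAction.stabilizer D p) ≤ 8 := Nat.le_of_dvd (by norm_num) h3
    generalize Nat.card (MulAction.stabilizer D p) = s at *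
    interval_cases s
    · omega
    · omega
    · omega
    · omega
    · omega
    · omega
    · omega
    · omega
    · omega
  have h6 : Nat.card (Fin 6) = ∑ ω : MulAction.orbitRel.Quotient D (Fin 6), Nat.card (MulAction.orbitRel.Quotient.orbit ω) := by
    rw [Nat.card_congr (MulAction.selfEquivSigmaOrbits' D (Fin 6)), Nat.card_sigma]
  have h7 : 4 ∣ Nat.card (Fin 6) := by
    rw [h6]
    apply Finset.dvd_sum
    intro ω _
    rw [MulAction.orbitRel.Quotient.orbit_eq_orbit_out ω Quotient.out_eq']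
    exact h4 _
  rw [Nat.card_eq_fintype_card, Fintype.card_fin] at h7
  omega

theorem card_A6 : Nat.card A6 = 360 := by
  rw [nat_card_alternatingGroup, Nat.card_eq_fintype_card, Fintype.card_fin]
  rfl

theorem trans_A6 (p q : Fin 6) : ∃ m : A6, m • p = q := by
  haveI : MulAction.IsPretransitive A6 (Fin 6) := alternatingGroup.isPretransitive_of_three_le_card (Fin 6) (by simp)
  exact MulAction.exists_smul_eq A6 p q

theorem card_stab_A6 (p : Fin 6) : Nat.card (MulAction.stabilizer A6 p) = 60 := by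
  have h1 := orbit_card (D := A6) p
  have h2 : MulAction.orbit A6 p = Set.univ := by
    rw [Set.eq_univ_iff_forall]
    intro q
    obtain ⟨m, hm⟩ := trans_A6 p q
    exact ⟨m, hm⟩
  rw [h2, card_A6] at h1
  have h3 : Nat.card (Set.univ : Set (Fin 6)) = 6 := by simp
  rw [h3] at h1
  omega

theorem card_inf_stab (D : Subgroup A6) (p : Fin 6) :
    Nat.card ↥(D ⊓ MulAction.stabilizer A6 p : Subgroup A6) = Nat.card (MulAction.stabilizer (↥D) p) := by
  apply Nat.card_congr
  exact ⟨fun x => ⟨⟨x.1, x.2.1⟩, x.2.2⟩, fun x => ⟨x.1.1, ⟨x.1.2, x.2⟩⟩, fun x => rfl, fun x => rfl⟩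

theorem A6_aut (α : A6 ≃* A6) (D : Subgroup A6) (hD : Nat.card D = 8) (hfix : ∀ x ∈ D, α x = x) :
    ∃ p q : Fin 6, ∀ x : A6, x • p = p → α x • q = q := by
  obtain ⟨p, hp⟩ := exists_stab_four (D := ↥D) hD
  have hW : Nat.card ↥(D ⊓ MulAction.stabilizer A6 p : Subgroup A6) = Nat.card (MulAction.stabilizer (↥D) p) :=
    card_inf_stab D p
  obtain ⟨X, hX⟩ : ∃ X, X = (MulAction.stabilizer A6 p).map α.toMonoidHom := ⟨_, rfl⟩
  have hXc : Nat.card X = 60 := by
    rw [hX, Subgroup.card_map_of_injective α.injective, card_stab_A6]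
  have hWX : D ⊓ MulAction.stabilizer A6 p ≤ X := by
    rintro x ⟨hx, hx2⟩
    rw [hX]
    exact ⟨x, hx2, hfix x hx⟩
  have hnt : ∃ p q : Fin 6, ∀ x ∈ X, x • p ≠ q := by
    by_contra hno
    push Not at hno
    have h1 := orbit_card (D := ↥X) p
    have h2 : MulAction.orbit (↥X) p = Set.univ := by
      rw [Set.eq_univ_iff_forall]
      intro q
      obtain ⟨m, hm, hm2⟩ := hno p q
      exact ⟨⟨m, hm⟩, hm2⟩
    rw [h2, hXc] at h1
    have h3 : Nat.card (Set.univ : Set (Fin 6)) = 6 := by simp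
    rw [h3] at h1
    have h4 : Nat.card ↥(D ⊓ MulAction.stabilizer A6 p : Subgroup A6) ∣ Nat.card (MulAction.stabilizer (↥X) p) := by
      have h5 : Nat.card (MulAction.stabilizer (↥X) p) = Nat.card ↥(X ⊓ MulAction.stabilizer A6 p : Subgroup A6) :=
        (card_inf_stab X p).symm
      rw [h5]
      exact Subgroup.card_dvd_of_le (le_inf hWX inf_le_right)
    rw [hW] at h4
    have h6 := hp.trans h4
    omega
  obtain ⟨q, hq⟩ := fix_of_not_trans X (by rw [hXc]; norm_num) hnt
  refine ⟨p, q, ?_⟩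
  intro x hx
  apply hq
  rw [hX]
  exact ⟨x, hx, rfl⟩

variable {G : Type u} [Group G] {t : G} {ι : H0 →* G}

theorem Cf.sym6 [Finite G] (h : Cf t ι) (hnc : ¬ ∀ g, g * t = t * g) : Nonempty (G ≃* Equiv.Perm (Fin 6)) := by
  classical
  obtain ⟨hsimp, hc⟩ := h.simple hnc
  haveI := hsimp
  have hM : Nat.card ↥(OO G) = 360 := hc.resolve_left (h.not_168 hnc)
  have hG : Nat.card G = 720 := by
    have := (OO G).card_mul_index
    rw [h.index_two hnc, hM] at this
    exact this.symm
  have htM := h.t_notin hnc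
  obtain ⟨φ⟩ := CfsgLib.A611.alt_six hM
  obtain ⟨z, a, b, hD, hz⟩ := h.struct hnc
  let α : A6 ≃* A6 := (φ.symm.trans (MulAut.conjNormal t : MulAut ↥(OO G))).trans φ
  have hα : ∀ y : ↥(OO G), α (φ y) = φ (MulAut.conjNormal t y) := by
    intro y
    show φ (MulAut.conjNormal t (φ.symm (φ y))) = _
    rw [φ.symm_apply_apply]
  obtain ⟨p, q, hpq⟩ := A6_aut α ((Subgroup.centralizer ({z} : Set ↥(OO G))).map φ.toMonoidHom)
    (by rw [Subgroup.card_map_of_injective φ.injective]; exact hD.card) (by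
      rintro x ⟨y, hy, rfl⟩
      have h1 : (y : G) * ι zz = ι zz * y := by
        rw [← hz]
        exact congrArg Subtype.val (Subgroup.mem_centralizer_singleton_iff.mp hy)
      have h2 := h.cz _ h1
      show α (φ y) = φ y
      rw [hα]
      congr 1
      apply Subtype.ext
      rw [MulAut.conjNormal_apply, ← h2]
      group)
  obtain ⟨m, hm⟩ := trans_A6 p q
  obtain ⟨L0, hL0⟩ : ∃ L0 : Subgroup ↥(OO G), L0 = (MulAction.stabilizer A6 p).comap φ.toMonoidHom := ⟨_, rfl⟩
  have hL0m : ∀ x, x ∈ L0 ↔ φ x • p = p := by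
    intro x; rw [hL0]; rfl
  have hL0c : Nat.card L0 = 60 := by
    rw [← card_stab_A6 p, ← Subgroup.card_map_of_injective (f := φ.toMonoidHom) φ.injective, hL0,
      Subgroup.map_comap_eq_self_of_surjective φ.surjective]
  set L := L0.map (OO G).subtype with hL
  have hLc : Nat.card L = 60 := by
    rw [hL, Subgroup.card_map_of_injective (Subgroup.subtype_injective _), hL0c]
  obtain ⟨w, hw⟩ : ∃ w : ↥(OO G), φ w = m := φ.surjective m
  set g0 : G := (w : G)⁻¹ * t with hg0
  have hg0M : g0 ∉ OO G := by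
    intro h1
    apply htM
    have := (OO G).mul_mem w.2 h1
    rwa [hg0, mul_inv_cancel_left] at this
  have hg0N : g0 ∈ Subgroup.normalizer (L : Set G) := by
    apply Subgroup.mem_normalizer_fintype
    intro n hn
    obtain ⟨x, hx, rfl⟩ := hn
    have hx' := (hL0m x).mp hx
    refine ⟨w⁻¹ * MulAut.conjNormal t x * w, ?_, ?_⟩
    · show _ ∈ L0
      rw [hL0m, map_mul, map_mul, mul_smul, mul_smul, ← hα, hw, hm, hpq _ hx', map_inv, hw, ← hm, inv_smul_smul]
    · show (w : G)⁻¹ * ((MulAut.conjNormal t x : ↥(OO G)) : G) * w = g0 * x * g0⁻¹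
      rw [MulAut.conjNormal_apply, hg0]
      group
  set N := Subgroup.normalizer (L : Set G) with hN
  have hLN : L ≤ N := Subgroup.le_normalizer
  have hLM : L ≤ OO G := by rw [hL]; exact Subgroup.map_subtype_le _
  have hNc : 120 ≤ Nat.card N := by
    obtain ⟨k, hk⟩ := Subgroup.card_dvd_of_le hLN
    have h1 : Nat.card L ≠ Nat.card N := by
      intro h1
      have h2 := Subgroup.eq_of_le_of_card_ge hLN h1.ge
      apply hg0M
      apply hLM
      rw [h2]; exact hg0N
    have h2 : 0 < Nat.card N := Nat.card_pos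
    rw [hLc] at hk h1
    have h3 : k ≠ 0 := by rintro rfl; omega
    have h4 : k ≠ 1 := by rintro rfl; omega
    omega
  have hidx : N.index ≤ 6 := by
    have h1 := N.card_mul_index
    rw [hG] at h1
    by_contra hlt
    have h2 : 7 ≤ N.index := by omega
    have h3 : 120 * 7 ≤ Nat.card N * N.index := Nat.mul_le_mul hNc h2
    omega
  have hKM : N.normalCore ⊓ OO G = ⊥ := by
    have hn : ((N.normalCore).subgroupOf (OO G)).Normal := inferInstance
    rcases hn.eq_bot_or_eq_top with h1 | h1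
    · rw [Subgroup.eq_bot_iff_forall]
      rintro x ⟨hx, hx2⟩
      have h2 : (⟨x, hx2⟩ : ↥(OO G)) ∈ (N.normalCore).subgroupOf (OO G) := hx
      rw [h1, Subgroup.mem_bot] at h2
      exact congrArg Subtype.val h2
    · exfalso
      have h2 : OO G ≤ N := (Subgroup.subgroupOf_eq_top.mp h1).trans (Subgroup.normalCore_le N)
      have h3 : L0.Normal := by
        refine ⟨fun x hx g => ?_⟩
        have h4 : ((g : G) * (x : G) * (g : G)⁻¹) ∈ L := (Subgroup.mem_normalizer_iff.mp (h2 g.2) (x : G)).mp ⟨x, hx, rfl⟩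
        obtain ⟨y, hy, hy2⟩ := h4
        have h5 : y = g * x * g⁻¹ := Subtype.ext hy2
        rw [← h5]; exact hy
      rcases h3.eq_bot_or_eq_top with h4 | h4
      · rw [h4, Subgroup.card_bot] at hL0c; omega
      · rw [h4, Subgroup.card_top, hM] at hL0c; omega
  have hcore : N.normalCore = ⊥ := by
    rw [Subgroup.eq_bot_iff_forall]
    intro k hk
    have hkM : ∀ x ∈ OO G, k * x = x * k := by
      intro x hx
      have h1 : k * x * k⁻¹ * x⁻¹ ∈ N.normalCore ⊓ OO G := by
        refine ⟨?_, ?_⟩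
        · have h2 : k * x * k⁻¹ * x⁻¹ = k * (x * k⁻¹ * x⁻¹) := by group
          rw [h2]
          exact (N.normalCore).mul_mem hk ((inferInstance : (N.normalCore).Normal).conj_mem _ ((N.normalCore).inv_mem hk) x)
        · exact (OO G).mul_mem (OO_normal.conj_mem _ hx k) ((OO G).inv_mem hx)
      rw [hKM, Subgroup.mem_bot] at h1
      have h2 : k * x * (x * k)⁻¹ = 1 := by rw [← h1]; group
      exact mul_inv_eq_one.mp h2
    have hkt : k * t = t * k := h.cz k (hkM _ h.zM.1)
    have hkG : ∀ g, k * g = g * k := by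
      intro g
      rcases h.two hnc g with h1 | h1
      · exact hkM g h1
      · have h2 := hkM _ h1
        have h3 : t * (k * g) = t * (g * k) := by
          rw [← mul_assoc, ← hkt, mul_assoc, h2, mul_assoc]
        exact mul_left_cancel h3
    obtain ⟨y, rfl⟩ := (h.rng k).mp hkt
    rcases f_center y (fun y' => h.inj (by rw [map_mul, map_mul]; exact hkG _)) with h1 | h1
    · rw [h1, map_one]
    · exfalso
      apply hnc
      intro g
      have := hkG g
      rw [h1, h.tt] at this
      exact this.symm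
  have hinj : Function.Injective (MulAction.toPermHom G (G ⧸ N)) := by
    rw [← MonoidHom.ker_eq_bot_iff, ← Subgroup.normalCore_eq_ker, hcore]
  have hX : Nat.card (G ⧸ N) = 6 := by
    have h1 : Nat.card G ≤ Nat.card (Equiv.Perm (G ⧸ N)) := Nat.card_le_card_of_injective _ hinj
    rw [hG, Nat.card_perm, ← Subgroup.index_eq_card] at h1
    rw [← Subgroup.index_eq_card]
    by_contra hne
    have h2 : N.index ≤ 5 := by omega
    have h3 : (N.index).factorial ≤ (5 : ℕ).factorial := Nat.factorial_le h2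
    have h4 : (5 : ℕ).factorial = 120 := rfl
    omega
  exact perm_fin hX _ hinj (by rw [hG]; rfl)

end CfsgLib.SX11
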