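import Cfsg.Agent.EqBase
import Cfsg.Prelude.Def_KGroupFacts

/-! The Schur multiplier `M Q = R ∩ F' / [R, F]` of a group `Q`, and its relation with
`Cfsg.HasSchurMultiplier`. -/

set_option autoImplicit false
set_option linter.style.haveILetI false
set_option linter.unusedSectionVars false

namespace CfsgLib.Schur

open Subgroup
open scoped commutatorElement

universe u v w

/-! ### General facts on central extensions -/

section general

variable {Γ : Type u} {H : Type v} [Group Γ] [Group H]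

theorem comm_of_central {a b z w : Γ} (hz : z ∈ center Γ) (hw : w ∈ center Γ) :
    ⁅a * z, b * w⁆ = ⁅a, b⁆ := by
  have hz' : ∀ x, x * z = z * x := fun x => mem_center_iff.mp hz x
  have hw' : ∀ x, x * w = w * x := fun x => mem_center_iff.mp hw x
  have e1 : z⁻¹ * a⁻¹ = a⁻¹ * z⁻¹ := by rw [← mul_inv_rev, ← mul_inv_rev, hz']
  rw [commutatorElement_def, commutatorElement_def, mul_inv_rev, mul_inv_rev, e1]
  calc a * z * (b * w) * (a⁻¹ * z⁻¹) * (w⁻¹ * b⁻¹)
      = a * (z * b) * (w * a⁻¹) * z⁻¹ * w⁻¹ * b⁻¹ := by group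
    _ = a * (b * z) * (a⁻¹ * w) * z⁻¹ * w⁻¹ * b⁻¹ := by rw [← hz' b, ← hw' a⁻¹]
    _ = a * b * (z * a⁻¹) * (w * z⁻¹) * w⁻¹ * b⁻¹ := by group
    _ = a * b * (a⁻¹ * z) * (z⁻¹ * w) * w⁻¹ * b⁻¹ := by rw [← hz' a⁻¹, ← hw' z⁻¹]
    _ = a * b * a⁻¹ * b⁻¹ := by group

/-- If `Γ` is generated by the image of `φ` and the centre then `Γ' = φ(H')`. -/
theorem commutator_eq_map (φ : H →* Γ) (h : ∀ g : Γ, ∃ x : H, ∃ z ∈ center Γ, g = φ x * z) :
    commutator Γ = (commutator H).map φ := by
  apply le_antisymm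
  · rw [_root_.commutator_def, Subgroup.commutator_le]
    intro a _ b _
    obtain ⟨x, z, hz, rfl⟩ := h a
    obtain ⟨y, w, hw, rfl⟩ := h b
    rw [comm_of_central hz hw, ← map_commutatorElement]
    exact mem_map_of_mem _ (commutator_mem_commutator (mem_top x) (mem_top y))
  · rw [_root_.commutator_def, _root_.commutator_def, Subgroup.map_commutator]
    exact commutator_mono le_top le_top

end general

section defs

variable (Q : Type u) [Group Q]

/-- The canonical presentation. -/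
def pr : FreeGroup Q →* Q := FreeGroup.lift id

theorem pr_of (q : Q) : pr Q (FreeGroup.of q) = q := by simp [pr]

theorem pr_surj : Function.Surjective (pr Q) := fun q => ⟨FreeGroup.of q, pr_of Q q⟩

/-- `[R, F]` -/
def KK : Subgroup (FreeGroup Q) := ⁅(pr Q).ker, (⊤ : Subgroup (FreeGroup Q))⁆

instance : (KK Q).Normal := by unfold KK; infer_instance

theorem KK_le_ker : KK Q ≤ (pr Q).ker := by
  unfold KK; exact commutator_le_left _ _

theorem KK_le_comm : KK Q ≤ commutator (FreeGroup Q) := by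
  unfold KK; exact commutator_mono le_top le_rfl

/-- The group `F / [R, F]`, a central extension of `Q`. -/
def E : Type u := FreeGroup Q ⧸ KK Q

instance : Group (E Q) := by unfold E; infer_instance

/-- `F → F / [R, F]` -/
def toE : FreeGroup Q →* E Q := QuotientGroup.mk' (KK Q)

theorem toE_surj : Function.Surjective (toE Q) := QuotientGroup.mk'_surjective (KK Q)

/-- `F / [R, F] → Q` -/
def e : E Q →* Q := QuotientGroup.lift (KK Q) (pr Q) (fun _ hx => (MonoidHom.mem_ker).mp (KK_le_ker Q hx))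

theorem e_toE (x : FreeGroup Q) : e Q (toE Q x) = pr Q x := rfl

theorem e_comp : (e Q).comp (toE Q) = pr Q := MonoidHom.ext fun x => e_toE Q x

theorem e_surj : Function.Surjective (e Q) := fun q => by
  obtain ⟨x, hx⟩ := pr_surj Q q
  exact ⟨toE Q x, by rw [e_toE, hx]⟩

theorem ker_toE : (toE Q).ker = KK Q := QuotientGroup.ker_mk' _

theorem e_central : (e Q).ker ≤ center (E Q) := by
  intro x hx
  obtain ⟨x, rfl⟩ := toE_surj Q x
  rw [mem_center_iff]
  intro y
  obtain ⟨y, rfl⟩ := toE_surj Q y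
  have hx' : x ∈ (pr Q).ker := by
    rw [MonoidHom.mem_ker, ← e_toE]; exact hx
  have h1 : ⁅x, y⁆ ∈ KK Q := commutator_mem_commutator hx' (mem_top y)
  have h2 : ⁅toE Q x, toE Q y⁆ = 1 := by
    rw [← map_commutatorElement, ← MonoidHom.mem_ker, ker_toE]
    exact h1
  exact (commutatorElement_eq_one_iff_commute.mp h2).eq.symm

instance : IsMulCommutative (e Q).ker :=
  ⟨⟨fun a b => Subtype.ext (mem_center_iff.mp (e_central Q b.2) a)⟩⟩

/-- The Schur multiplier `R ∩ F' / [R, F]`. -/
def MS : Subgroup (E Q) := (e Q).ker ⊓ commutator (E Q)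

theorem MS_le_ker : MS Q ≤ (e Q).ker := inf_le_left

theorem MS_le_comm : MS Q ≤ commutator (E Q) := inf_le_right

theorem MS_central : MS Q ≤ center (E Q) := (MS_le_ker Q).trans (e_central Q)

instance : (MS Q).Normal := by unfold MS; infer_instance

/-- The Schur multiplier as a type. -/
abbrev M : Type u := ↥(MS Q)

instance : CommGroup (M Q) :=
  { (inferInstance : Group (MS Q)) with
    mul_comm := fun a b => Subtype.ext (mem_center_iff.mp (MS_central Q b.2) a) }

end defs

section lift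

variable {Q : Type u} [Group Q] {Γ : Type w} [Group Γ]

/-- Central extensions of `Q` receive a homomorphism from `E Q`. -/
theorem exists_lift (σ : Γ →* Q) (hσ : Function.Surjective σ) (hc : σ.ker ≤ center Γ) :
    ∃ φ : E Q →* Γ, σ.comp φ = e Q := by
  choose f hf using hσ
  let g : FreeGroup Q →* Γ := FreeGroup.lift f
  have hg : σ.comp g = pr Q := by
    ext q
    simp [g, pr, hf]
  have hg' : ∀ x, σ (g x) = pr Q x := fun x => DFunLike.congr_fun hg x
  have hK : KK Q ≤ g.ker := by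
    unfold KK
    rw [commutator_le]
    intro x hx y _
    have h1 : g x ∈ center Γ := hc (by rw [MonoidHom.mem_ker, hg']; exact hx)
    rw [MonoidHom.mem_ker, map_commutatorElement, commutatorElement_eq_one_iff_commute]
    exact (mem_center_iff.mp h1 (g y)).symm
  refine ⟨QuotientGroup.lift (KK Q) g (fun x hx => hK hx), ?_⟩
  apply MonoidHom.ext
  intro x
  obtain ⟨x, rfl⟩ := toE_surj Q x
  exact hg' x

/-- more generally, homs into `Γ` which is a central extension, over a hom `Q → P` -/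
theorem exists_lift' {P : Type v} [Group P] (σ : Γ →* P) (hσ : Function.Surjective σ) (hc : σ.ker ≤ center Γ)
    (f : Q →* P) : ∃ φ : E Q →* Γ, σ.comp φ = f.comp (e Q) := by
  choose s hs using hσ
  let g : FreeGroup Q →* Γ := FreeGroup.lift (fun q => s (f q))
  have hg : σ.comp g = f.comp (pr Q) := by
    ext q
    simp [g, pr, hs]
  have hg' : ∀ x, σ (g x) = f (pr Q x) := fun x => DFunLike.congr_fun hg x
  have hK : KK Q ≤ g.ker := by
    unfold KK
    rw [commutator_le]
    intro x hx y _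
    have h1 : g x ∈ center Γ := hc (by rw [MonoidHom.mem_ker, hg', (MonoidHom.mem_ker).mp hx, map_one])
    rw [MonoidHom.mem_ker, map_commutatorElement, commutatorElement_eq_one_iff_commute]
    exact (mem_center_iff.mp h1 (g y)).symm
  refine ⟨QuotientGroup.lift (KK Q) g (fun x hx => hK hx), ?_⟩
  apply MonoidHom.ext
  intro x
  obtain ⟨x, rfl⟩ := toE_surj Q x
  exact hg' x

variable {σ : Γ →* Q} {φ : E Q →* Γ}

theorem lift_apply (h : σ.comp φ = e Q) (x : E Q) : σ (φ x) = e Q x := DFunLike.congr_fun h x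

theorem exists_mul (hc : σ.ker ≤ center Γ) (h : σ.comp φ = e Q) (g : Γ) :
    ∃ x : E Q, ∃ z ∈ center Γ, g = φ x * z := by
  obtain ⟨x, hx⟩ := e_surj Q (σ g)
  refine ⟨x, (φ x)⁻¹ * g, ?_, by group⟩
  apply hc
  rw [MonoidHom.mem_ker, map_mul, map_inv, lift_apply h, hx, inv_mul_cancel]

/-- The image of the multiplier in a central extension. -/
theorem map_MS (hc : σ.ker ≤ center Γ) (h : σ.comp φ = e Q) :
    (MS Q).map φ = σ.ker ⊓ commutator Γ := by
  apply le_antisymm
  · rintro _ ⟨x, hx, rfl⟩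
    refine Subgroup.mem_inf.mpr ⟨?_, ?_⟩
    · rw [MonoidHom.mem_ker, lift_apply h]; exact MS_le_ker Q hx
    · rw [commutator_eq_map φ (exists_mul hc h)]
      exact mem_map_of_mem _ (MS_le_comm Q hx)
  · intro x hx
    obtain ⟨hx1, hx2⟩ := Subgroup.mem_inf.mp hx
    rw [commutator_eq_map φ (exists_mul hc h)] at hx2
    obtain ⟨y, hy, rfl⟩ := hx2
    refine ⟨y, Subgroup.mem_inf.mpr ⟨?_, hy⟩, rfl⟩
    rw [MonoidHom.mem_ker, ← lift_apply h]; exact hx1

/-- A central extension: the intersection of its kernel with the commutator subgroup is an image of `M Q`. -/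
theorem exists_surj_inf (σ : Γ →* Q) (hσ : Function.Surjective σ) (hc : σ.ker ≤ center Γ) :
    ∃ f : M Q →* ↥(σ.ker ⊓ commutator Γ), Function.Surjective f := by
  obtain ⟨φ, hφ⟩ := exists_lift σ hσ hc
  have h := map_MS hc hφ
  refine ⟨((φ.comp (MS Q).subtype).codRestrict (σ.ker ⊓ commutator Γ) (fun x => ?_)), ?_⟩
  · rw [← h]; exact mem_map_of_mem _ x.2
  · rintro ⟨x, hx⟩
    rw [← h] at hx
    obtain ⟨y, hy, rfl⟩ := hx
    exact ⟨⟨y, hy⟩, Subtype.ext rfl⟩

theorem exists_surj (σ : Γ →* Q) (hσ : Cfsg.IsStemExtension σ) :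
    ∃ f : M Q →* ↥σ.ker, Function.Surjective f := by
  obtain ⟨f, hf⟩ := exists_surj_inf σ hσ.1 hσ.2.1
  have h : σ.ker ⊓ commutator Γ ≤ σ.ker := inf_le_left
  refine ⟨(inclusion h).comp f, ?_⟩
  intro x
  obtain ⟨y, hy⟩ := hf ⟨x, Subgroup.mem_inf.mpr ⟨x.2, hσ.2.2 x.2⟩⟩
  exact ⟨y, by rw [MonoidHom.comp_apply, hy]; exact Subtype.ext rfl⟩

/-- The lift to a stem extension is surjective. -/
theorem lift_surj (hσ : Cfsg.IsStemExtension σ) (h : σ.comp φ = e Q) : Function.Surjective φ := by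
  intro g
  obtain ⟨x, hx⟩ := e_surj Q (σ g)
  have h1 : (φ x)⁻¹ * g ∈ σ.ker := by
    rw [MonoidHom.mem_ker, map_mul, map_inv, lift_apply h, hx, inv_mul_cancel]
  have h2 := hσ.2.2 h1
  rw [commutator_eq_map φ (exists_mul hσ.2.1 h)] at h2
  obtain ⟨y, -, hy⟩ := h2
  exact ⟨x * y, by rw [map_mul, hy]; group⟩

end lift

end CfsgLib.Schur
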