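import Mathlib
import Cfsg.Agent.EqBase
import Cfsg.Agent.LibZas20

set_option autoImplicit false
set_option linter.all false
set_option maxHeartbeats 1000000

/-! # Sharply triply transitive groups (helper20): no regular normal subgroup -/

namespace CfsgLib.Sharp20

open MulAction Cfsg CfsgLib.Zas

universe u v

variable {G : Type u} [Group G] [Finite G] {Ω : Type v} [Fintype Ω] [MulAction G Ω]

/-- explicit form of sharp triple transitivity -/
structure Sharp (G : Type u) [Group G] (Ω : Type v) [MulAction G Ω] : Prop where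
  tr : ∀ a b c a' b' c' : Ω, a ≠ b → a ≠ c → b ≠ c → a' ≠ b' → a' ≠ c' → b' ≠ c' → ∃ g : G, g • a = a' ∧ g • b = b' ∧ g • c = c'
  fr : ∀ (g : G) (a b c : Ω), a ≠ b → a ≠ c → b ≠ c → g • a = a → g • b = b → g • c = c → g = 1

theorem Sharp.of {α : Type v} [Fintype α] [MulAction G α] (h3 : MulAction.IsMultiplyPretransitive G α 3) (hsharp : ∀ x : Fin 3 ↪ α, MulAction.stabilizer G x = ⊥) :
    Sharp G α := by
  have key : ∀ a b c : α, a ≠ b → a ≠ c → b ≠ c → Function.Injective ![a, b, c] := by
    intro a b c h1 h2 h3 i j h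
    fin_cases i <;> fin_cases j <;> simp_all
  constructor
  · intro a b c a' b' c' h1 h2 h3 h1' h2' h3'
    obtain ⟨g, hg⟩ := MulAction.exists_smul_eq G (⟨![a, b, c], key a b c h1 h2 h3⟩ : Fin 3 ↪ α) ⟨![a', b', c'], key a' b' c' h1' h2' h3'⟩
    exact ⟨g, congrArg (fun e : Fin 3 ↪ α => e 0) hg, congrArg (fun e : Fin 3 ↪ α => e 1) hg, congrArg (fun e : Fin 3 ↪ α => e 2) hg⟩
  · intro g a b c h1 h2 h3 ha hb hc
    have hg : g ∈ MulAction.stabilizer G (⟨![a, b, c], key a b c h1 h2 h3⟩ : Fin 3 ↪ α) := by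
      rw [MulAction.mem_stabilizer_iff]
      ext i
      fin_cases i
      · exact ha
      · exact hb
      · exact hc
    rw [hsharp, Subgroup.mem_bot] at hg
    exact hg

namespace Sharp

variable (S : Sharp G Ω)
include S

theorem exists_third (h4 : 4 ≤ Fintype.card Ω) (a b : Ω) : ∃ c : Ω, a ≠ c ∧ b ≠ c := by
  classical
  by_contra hcon
  push Not at hcon
  have h1 : (Finset.univ : Finset Ω) ⊆ {a, b} := by
    intro c _
    simp only [Finset.mem_insert, Finset.mem_singleton]
    by_cases h : a = c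
    · exact Or.inl h.symm
    · exact Or.inr (hcon c h).symm
  have h2 := Finset.card_le_card h1
  have h3 := Finset.card_le_two (a := a) (b := b)
  rw [Finset.card_univ] at h2
  omega

theorem two (h4 : 4 ≤ Fintype.card Ω) {a b a' b' : Ω} (h : a ≠ b) (h' : a' ≠ b') : ∃ g : G, g • a = a' ∧ g • b = b' := by
  obtain ⟨c, hc1, hc2⟩ := S.exists_third h4 a b
  obtain ⟨c', hc1', hc2'⟩ := S.exists_third h4 a' b'
  obtain ⟨g, h1, h2, -⟩ := S.tr a b c a' b' c' h hc1 hc2 h' hc1' hc2'
  exact ⟨g, h1, h2⟩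

theorem card_E (h4 : 4 ≤ Fintype.card Ω) {a b : Ω} (h : a ≠ b) : Nat.card (EE G a b) + 2 = Fintype.card Ω := by
  classical
  obtain ⟨c, hc1, hc2⟩ := S.exists_third h4 a b
  let f : EE G a b → {x : Ω // x ≠ a ∧ x ≠ b} := fun k => ⟨(k : G) • c, fun h => hc1 (MulAction.injective (k : G) (Eq.trans k.2.1 h.symm)),
      fun h => hc2 (MulAction.injective (k : G) (Eq.trans k.2.2 h.symm))⟩
  have hf : Function.Bijective f := by
    constructor
    · intro k k' hk
      have h1 : (k : G) • c = (k' : G) • c := congrArg Subtype.val hk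
      have h2 : ((k : G)⁻¹ * k') • c = c := by rw [mul_smul, ← h1, inv_smul_smul]
      have h3 := ((EE G a b).mul_mem ((EE G a b).inv_mem k.2) k'.2)
      exact Subtype.ext (inv_mul_eq_one.mp (S.fr _ a b c h hc1 hc2 h3.1 h3.2 h2))
    · rintro ⟨d, hd1, hd2⟩
      obtain ⟨g, h1, h2, h3⟩ := S.tr a b c a b d h hc1 hc2 h hd1.symm hd2.symm
      exact ⟨⟨g, h1, h2⟩, Subtype.ext h3⟩
  have h1 : Fintype.card {x : Ω // x ≠ a ∧ x ≠ b} = Fintype.card Ω - 2 := by
    have h2 : (Finset.univ.filter fun x : Ω => x ≠ a ∧ x ≠ b) = Finset.univ \ {a, b} := by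
      ext x; simp [not_or]
    rw [Fintype.card_subtype, h2, Finset.card_sdiff_of_subset (Finset.subset_univ _), Finset.card_pair h]; rfl
  rw [Nat.card_congr (Equiv.ofBijective f hf), Nat.card_eq_fintype_card, h1]
  omega

/-- no regular normal subgroup -/
theorem no_reg (h5 : 5 ≤ Fintype.card Ω) (hev : Even (Fintype.card Ω)) (N : Subgroup G) (hN : N.Normal) (hNt : MulAction.IsPretransitive N Ω) :
    ∃ a : Ω, MulAction.stabilizer N a ≠ ⊥ := by
  classical
  by_contra hcon
  push Not at hcon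
  haveI : Nonempty Ω := Fintype.card_pos_iff.mp (by omega)
  obtain ⟨a⟩ : Nonempty Ω := inferInstance
  obtain ⟨b, -, hab⟩ : ∃ b : Ω, True ∧ a ≠ b := by
    obtain ⟨c, hc, -⟩ := S.exists_third (by omega) a a
    exact ⟨c, trivial, hc⟩
  have hNf : ∀ n ∈ N, ∀ x : Ω, n • x = x → n = 1 := by
    intro n hn x hx
    have h1 : (⟨n, hn⟩ : N) ∈ stabilizer N x := hx
    rw [hcon x, Subgroup.mem_bot] at h1
    exact congrArg Subtype.val h1
  have hinj : ∀ n ∈ N, ∀ n' ∈ N, n • a = n' • a → n = n' := by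
    intro n hn n' hn' h
    have h1 : n'⁻¹ * n = 1 := hNf _ (N.mul_mem (N.inv_mem hn') hn) a (by rw [mul_smul, h, inv_smul_smul])
    exact (inv_mul_eq_one.mp h1).symm
  have hNc : Nat.card N = Fintype.card Ω := by
    rw [← Nat.card_eq_fintype_card]
    refine Nat.card_congr (Equiv.ofBijective (fun n : N => (n : G) • a) ⟨?_, ?_⟩)
    · rintro ⟨n, hn⟩ ⟨n', hn'⟩ h
      exact Subtype.ext (hinj n hn n' hn' h)
    · intro x
      obtain ⟨n, hn⟩ := MulAction.exists_smul_eq N a x
      exact ⟨n, hn⟩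
  have hconjP : ∀ u : G, u • a = a → ∀ n ∈ N, (u * n * u⁻¹) • a = u • n • a := by
    intro u hu n hn
    rw [mul_smul, mul_smul, inv_smul_eq_iff.mpr hu.symm]
  have hreg : ∀ n ∈ N, ∀ n' ∈ N, n ≠ 1 → n' ≠ 1 → ∃ u : G, u * n * u⁻¹ = n' := by
    intro n hn n' hn' h h'
    obtain ⟨u, hu, hu2⟩ := S.two (by omega) (a := a) (b := n • a) (a' := a) (b' := n' • a) (fun h1 => h (hNf n hn a h1.symm)) (fun h1 => h' (hNf n' hn' a h1.symm))
    refine ⟨u, hinj _ (hN.conj_mem n hn u) _ hn' ?_⟩
    rw [hconjP u hu n hn, hu2]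
  have hsq : ∀ n ∈ N, n * n = 1 := by
    haveI := Fact.mk Nat.prime_two
    obtain ⟨t, ht⟩ := exists_prime_orderOf_dvd_card' (G := N) 2 (by
      rw [hNc]
      exact hev.two_dvd)
    have ht1 : (t : G) ≠ 1 := by
      intro h
      have : t = 1 := Subtype.ext h
      rw [this, orderOf_one] at ht
      omega
    have ht2 : (t : G) * t = 1 := by
      have := pow_orderOf_eq_one t
      rw [ht, pow_two] at this
      exact congrArg Subtype.val this
    intro n hn
    by_cases hn1 : n = 1
    · rw [hn1, one_mul]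
    · obtain ⟨u, rfl⟩ := hreg t t.2 n hn ht1 hn1
      rw [show u * (t : G) * u⁻¹ * (u * t * u⁻¹) = u * (t * t) * u⁻¹ by group, ht2]
      group
  have hcom : ∀ x ∈ N, ∀ y ∈ N, x * y = y * x := by
    intro x hx y hy
    have h1 := hsq _ (N.mul_mem hx hy)
    have h4 : x * y = (x * y)⁻¹ := eq_inv_of_mul_eq_one_left h1
    rw [mul_inv_rev, ← eq_inv_of_mul_eq_one_left (hsq x hx), ← eq_inv_of_mul_eq_one_left (hsq y hy)] at h4
    exact h4
  -- the involution in `E`
  obtain ⟨z, hz⟩ : ∃ z : EE G a b, orderOf z = 2 := by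
    haveI := Fact.mk Nat.prime_two
    apply exists_prime_orderOf_dvd_card'
    have h1 := S.card_E (by omega) hab
    have h2 := hev.two_dvd
    omega
  have hz1 : (z : G) ≠ 1 := by
    intro h
    have : z = 1 := Subtype.ext h
    rw [this, orderOf_one] at hz
    omega
  have hz2 : (z : G) * z = 1 := by
    have := pow_orderOf_eq_one z
    rw [hz, pow_two] at this
    exact congrArg Subtype.val this
  have hzi : (z : G)⁻¹ = z := inv_eq_of_mul_eq_one_left hz2
  have hza : (z : G) • a = a := z.2.1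
  have hzb : (z : G) • b = b := z.2.2
  -- the homomorphism
  obtain ⟨τ, hτ⟩ : ∃ τ : N →* N, ∀ n : N, ((τ n : N) : G) = z * n * z * n := by
    refine ⟨{ toFun := fun n => ⟨(z : G) * n * z * n, ?_⟩, map_one' := ?_, map_mul' := ?_ }, fun n => rfl⟩
    · have h1 := hN.conj_mem n n.2 z
      rw [hzi] at h1
      exact N.mul_mem h1 n.2
    · apply Subtype.ext
      show (z : G) * 1 * z * 1 = 1
      rw [mul_one, mul_one, hz2]
    · intro n m
      apply Subtype.ext
      show (z : G) * (n * m) * z * (n * m) = (z * n * z * n) * (z * m * z * m)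
      have h1 : (z : G) * m * z ∈ N := by
        have := hN.conj_mem m m.2 z
        rwa [hzi] at this
      have h2 : (n : G) * (z * m * z) = z * m * z * n := hcom _ n.2 _ h1
      have h3 : (z : G) * (n * m) * z = z * n * z * (z * m * z) := by
        calc (z : G) * (n * m) * z = z * n * 1 * m * z := by group
          _ = z * n * (z * z) * m * z := by rw [hz2]
          _ = z * n * z * (z * m * z) := by group
      rw [h3]
      calc (z : G) * n * z * (z * m * z) * (n * m) = z * n * z * ((z * m * z) * n) * m := by group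
        _ = z * n * z * (n * (z * m * z)) * m := by rw [h2]
        _ = (z * n * z * n) * (z * m * z * m) := by group
  have hC : ∀ n : N, (z : G) * n = n * z → (n : G) • a = a ∨ (n : G) • a = b := by
    intro n hn
    by_contra h
    push Not at h
    apply hz1
    apply S.fr z a b ((n : G) • a) hab h.1.symm h.2.symm hza hzb
    rw [← mul_smul, hn, mul_smul, hza]
  have hCcard : ∀ K : Subgroup N, (∀ n ∈ K, (z : G) * n = n * z) → Nat.card K ≤ 2 := by
    intro K hK
    have h1 : Nat.card K ≤ Nat.card ({a, b} : Set Ω) := by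
      refine Nat.card_le_card_of_injective (fun n : K => (⟨((n : N) : G) • a, ?_⟩ : ({a, b} : Set Ω))) ?_
      · rcases hC n (hK n n.2) with h | h
        · exact Or.inl h
        · exact Or.inr h
      · intro n m h
        have h1 : ((n : N) : G) • a = ((m : N) : G) • a := congrArg Subtype.val h
        exact Subtype.ext (Subtype.ext (hinj _ (n : N).2 _ (m : N).2 h1))
    refine h1.trans ?_
    rw [Nat.card_coe_set_eq, Set.ncard_pair hab]
  have hker : Nat.card τ.ker ≤ 2 := by
    apply hCcard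
    intro n hn
    have h1 : ((τ n : N) : G) = 1 := by
      rw [MonoidHom.mem_ker.mp hn]; rfl
    rw [hτ] at h1
    have h2 : (n : G)⁻¹ = n := inv_eq_of_mul_eq_one_left (hsq n n.2)
    have h3 : (z : G) * n * z = n := by rw [← h2]; exact (eq_inv_of_mul_eq_one_left (by rw [h2]; exact h1))
    calc (z : G) * n = z * n * (z * z) := by rw [hz2, mul_one]
      _ = (z * n * z) * z := by group
      _ = n * z := by rw [h3]
  have hrange : Nat.card τ.range ≤ 2 := by
    apply hCcard
    rintro _ ⟨n, rfl⟩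
    rw [hτ]
    have h1 : (z : G) * n * z ∈ N := by
      have := hN.conj_mem n n.2 z
      rwa [hzi] at this
    have h2 : (n : G) * (z * n * z) = z * n * z * n := hcom _ n.2 _ h1
    calc (z : G) * (z * n * z * n) = (z * z) * (n * z * n) := by group
      _ = n * z * n := by rw [hz2, one_mul]
      _ = n * z * n * (z * z) := by rw [hz2, mul_one]
      _ = n * (z * n * z) * z := by group
      _ = z * n * z * n * z := by rw [h2]
  have h1 := Subgroup.index_ker τ
  have h2 := τ.ker.index_mul_card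
  rw [h1, hNc] at h2
  have h3 : Nat.card τ.range * Nat.card τ.ker ≤ 2 * 2 := Nat.mul_le_mul hrange hker
  omega

theorem zas (h5 : 5 ≤ Fintype.card Ω) (hev : Even (Fintype.card Ω)) : IsZassenhausGroup G Ω := by
  classical
  haveI : Nonempty Ω := Fintype.card_pos_iff.mp (by omega)
  obtain ⟨a⟩ : Nonempty Ω := inferInstance
  obtain ⟨b, hab, -⟩ := S.exists_third (by omega) a a
  obtain ⟨c, hac, hbc⟩ := S.exists_third (by omega) a b
  refine ⟨⟨?_⟩, ?_, ?_, ?_, ?_⟩
  · intro g g' h
    have h1 : ∀ x : Ω, (g'⁻¹ * g) • x = x := fun x => by rw [mul_smul, h, inv_smul_smul]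
    exact (inv_mul_eq_one.mp (S.fr _ a b c hab hac hbc (h1 a) (h1 b) (h1 c))).symm
  · rw [MulAction.is_two_pretransitive_iff]
    intro x y u v hxy huv
    exact S.two (by omega) hxy huv
  · intro g x y w hxy hyw hxw h1 h2 h3
    exact S.fr g x y w hxy hxw hyw h1 h2 h3
  · have h1 := S.card_E (by omega) hab
    have h2 : 1 < Nat.card (EE G a b) := by omega
    haveI := (Finite.one_lt_card_iff_nontrivial).mp h2
    obtain ⟨g, hg⟩ := exists_ne (1 : EE G a b)
    exact ⟨(g : G), fun h => hg (Subtype.ext h), a, b, hab, g.2.1, g.2.2⟩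
  · intro N hN hNt
    exact S.no_reg h5 hev N hN hNt

end Sharp

end CfsgLib.Sharp20
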