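import Cfsg.Agent.LibSharp20a
import Cfsg.Agent.LibPpOneC20

set_option autoImplicit false
set_option linter.all false
set_option maxHeartbeats 1000000

/-! # Sharply triply transitive groups (helper20): the odd case -/

namespace CfsgLib.Sharp20

open MulAction Cfsg CfsgLib.Zas OnePoint
open scoped Pointwise MatrixGroups

universe u v

theorem semi_trivial {F : Type} [Field F] [Fintype F] {p f : ℕ} [Fact p.Prime] (hF : Fintype.card F = p ^ f) (hf : Odd f) (hodd : Fintype.card F % 2 = 1)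
    (c : F → F) (hinj : Function.Injective c) (hadd : ∀ x y, c (x + y) = c x + c y) (hsq : ∀ w : F, w ≠ 0 → ∃ m', ∀ z, c (w ^ 2 * z) = m' * c z)
    (hcc : ∃ k, ∀ z, c (c z) = k * z) : ∀ z, c z = c 1 * z := by
  classical
  have hcz : c 0 = 0 := by
    have := hadd 0 0
    rw [add_zero] at this
    exact (add_eq_left.mp this.symm)
  have hc1 : c 1 ≠ 0 := by
    intro h
    rw [← hcz] at h
    exact one_ne_zero (hinj h)
  have hsq' : ∀ w : F, ∃ m', ∀ z, c (w ^ 2 * z) = m' * c z := by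
    intro w
    by_cases hw : w = 0
    · refine ⟨0, fun z => ?_⟩
      rw [hw, zero_pow two_ne_zero, zero_mul, zero_mul, hcz]
    · exact hsq w hw
  have hall : ∀ m : F, ∃ m', ∀ z, c (m * z) = m' * c z := by
    intro m
    obtain ⟨x, y, rfl⟩ := sum_two_sq hodd m
    obtain ⟨m1, h1⟩ := hsq' x
    obtain ⟨m2, h2⟩ := hsq' y
    refine ⟨m1 + m2, fun z => ?_⟩
    rw [add_mul, hadd, h1, h2, add_mul]
  have hcmul : ∀ m x, c (m * x) * c 1 = c m * c x := by
    intro m x
    obtain ⟨m', h1⟩ := hall m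
    have h2 := h1 1
    rw [mul_one] at h2
    rw [h1, h2]; ring
  obtain ⟨φ, hφ⟩ : ∃ φ : F →+* F, ∀ x, φ x = c x / c 1 := by
    refine ⟨{ toFun := fun x => c x / c 1, map_one' := div_self hc1, map_zero' := by rw [hcz, zero_div], map_add' := ?_, map_mul' := ?_ }, fun x => rfl⟩
    · intro x y
      rw [div_mul_div_comm, div_eq_div_iff hc1 (mul_ne_zero hc1 hc1), ← mul_assoc, hcmul]
    · intro x y
      rw [hadd, add_div]
  have hc : ∀ x, c x = c 1 * φ x := fun x => by rw [hφ, mul_div_cancel₀ _ hc1]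
  obtain ⟨σ, hσ⟩ : ∃ σ : F ≃+* F, ∀ x, σ x = φ x := ⟨RingEquiv.ofBijective φ ⟨φ.injective, Finite.surjective_of_injective φ.injective⟩, fun x => rfl⟩
  have hσ2 : σ ^ 2 = 1 := by
    obtain ⟨k, hk⟩ := hcc
    have h1 : ∀ z, c 1 * φ (c 1) * φ (φ z) = k * z := by
      intro z
      rw [← hk z, hc z, hc (c 1 * φ z), map_mul]; ring
    have h2 := h1 1
    rw [map_one, map_one, mul_one, mul_one] at h2
    have hk0 : k ≠ 0 := by
      rw [← h2]
      exact mul_ne_zero hc1 ((map_ne_zero φ).mpr hc1)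
    rw [pow_two]
    ext z
    show σ (σ z) = z
    rw [hσ, hσ]
    have h3 := h1 z
    rw [h2] at h3
    exact mul_left_cancel₀ hk0 h3
  have hσf : σ ^ f = 1 := by
    haveI : Finite (F ≃+* F) := Finite.of_injective (fun f : F ≃+* F => (f : F → F)) DFunLike.coe_injective
    have h1 := CfsgLib.PpOne20.ringAut_card p f (F := F) (by rw [Nat.card_eq_fintype_card, hF])
    rw [← h1]
    exact pow_card_eq_one'
  have hσ1 : σ = 1 := by
    obtain ⟨k, rfl⟩ := hf
    rw [pow_succ, pow_mul, hσ2, one_pow, one_mul] at hσf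
    exact hσf
  intro z
  rw [hc z, ← hσ, hσ1]; rfl

variable {G : Type u} [Group G] [Finite G] {Ω : Type v} [Fintype Ω] [MulAction G Ω] {a b : Ω} {H : Subgroup G}

theorem good_of_swap (D : Dat G Ω a b H) (h2 : 2 * Nat.card (EE G a b) + 1 = Nat.card H) {s : G} (hs : s • a = b ∧ s • b = a) (hss : s * s = 1)
    (hinv : ∀ x ∈ EE G a b, s * x * s⁻¹ = x⁻¹)
    (hc : (Even (Nat.card (EE G a b)) ∧ ∃ c : Ω, s • c = c) ∨ (Odd (Nat.card (EE G a b)) ∧ ∀ c : Ω, s • c ≠ c)) :
    ∃ (F : Type) (_ : Field F) (_ : Fintype F) (_ : DecidableEq F) (C : Coord G Ω a b H F), ∀ g : G, CfsgLib.S3T8.Good (C.chart D) g := by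
  classical
  have hbig : Nat.card H - 1 ≤ 2 * Nat.card (EE G a b) := by omega
  obtain ⟨F, hF, hFF, ⟨C⟩⟩ := D.exists_coord (D.big_elem hbig).1 hbig (Dat.comm_of_inv hinv)
  refine ⟨F, hF, hFF, inferInstance, C, C.good_all D hs.1 ?_⟩
  have ht : ∀ z : Fˣ, C.t D hs z = C.t D hs 1 / z := by
    rcases hc with ⟨he, c, hc⟩ | ⟨he, hc⟩
    · exact C.t_even D hs hss hinv h2 he hc
    · exact C.t_odd D hs hss hinv h2 he hc
  refine C.good_s D hs (c := ((C.t D hs 1 : Fˣ) : F)) (Units.ne_zero _) ?_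
  intro x hx
  have h3 := C.t_spec D hs (Units.mk0 x hx)
  rw [ht] at h3
  rw [Units.val_mk0] at h3
  rw [h3]
  congr 1
  rw [Units.val_div_eq_div_val, Units.val_mk0]

/-- groups of half size act by projectivities -/
theorem exists_good (D : Dat G Ω a b H) (h2 : 2 * Nat.card (EE G a b) + 1 = Nat.card H) :
    ∃ (F : Type) (_ : Field F) (_ : Fintype F) (_ : DecidableEq F) (C : Coord G Ω a b H F), ∀ g : G, CfsgLib.S3T8.Good (C.chart D) g := by
  classical
  rcases Nat.even_or_odd (Nat.card (EE G a b)) with hev | hodd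
  · have h5 := D.half hev h2
    have h6 : ∀ s : G, (s • a = b ∧ s • b = a) → s * s = 1 := fun s hs => by rw [← pow_two, ← (h5 s hs).1, pow_orderOf_eq_one]
    obtain ⟨s, hs⟩ := two_trans D.hZ D.hab D.hab.symm
    refine good_of_swap D h2 hs (h6 s hs) (Dat.inv_of_all h6 hs) (Or.inl ⟨hev, ?_⟩)
    have h7 := (h5 s hs).2
    have h8 : 0 < Nat.card (fixedBy Ω s) := by omega
    obtain ⟨⟨c, hc⟩⟩ := (Nat.card_pos_iff.mp h8).1
    exact ⟨c, hc⟩
  · have hS := D.simple_of_half (D.big_elem (by omega)).1 hodd h2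
    have D' := D.toO hS hodd
    obtain ⟨s, hs⟩ := two_trans D.hZ D.hab D.hab.symm
    refine good_of_swap D h2 hs (D'.swap_sq hs) (D'.hinv s hs) (Or.inr ⟨hodd, ?_⟩)
    have h7 := D'.inv_fix_card (D'.swap_order hs)
    rw [if_neg (by rw [← h2, Nat.not_even_iff_odd]; exact ⟨_, rfl⟩)] at h7
    exact (D.fix_zero_iff).mp h7

/-- the two-point stabilizer acts by scalars -/
theorem scalars (D : Dat G Ω a b H) {N : Subgroup G} (hN : N.Normal) (hN1 : N ≠ ⊥) (hidx : N.index = 2) {F : Type} [Field F] [Fintype F]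
    (C : Coord N Ω a b (H.subgroupOf N) F) (h2 : 2 * Nat.card (EE N a b) + 1 = Nat.card (H.subgroupOf N)) {p f : ℕ} [Fact p.Prime] (hF : Fintype.card F = p ^ f) (hf : Odd f)
    {x : G} (hx : x ∈ EE G a b) : ∃ m : F, m ≠ 0 ∧ ∀ z, x • C.pt z = C.pt (m * z) := by
  classical
  have DN := D.restrict hN hN1
  have hHN := D.H_le_normal hN1
  have h1 : ∀ z : F, ∃ w : F, x * (C.φ z : G) * x⁻¹ = (C.φ w : G) := by
    intro z
    have h3 : x * (C.φ z : G) * x⁻¹ ∈ H := D.conj_H hx.1 (C.mem z)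
    obtain ⟨w, hw⟩ := C.surj ⟨_, hHN h3⟩ h3
    exact ⟨w, by rw [hw]⟩
  choose c hc using h1
  have hinj : Function.Injective c := by
    intro z w h
    have h3 : x * (C.φ z : G) * x⁻¹ = x * (C.φ w : G) * x⁻¹ := by rw [hc, hc, h]
    exact C.inj (Subtype.ext (mul_left_cancel (mul_right_cancel h3)))
  have hadd : ∀ z w, c (z + w) = c z + c w := by
    intro z w
    apply C.inj
    apply Subtype.ext
    rw [← hc, C.add, C.add]
    show x * ((C.φ z : G) * (C.φ w : G)) * x⁻¹ = (C.φ (c z) : G) * (C.φ (c w) : G)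
    rw [← hc, ← hc]
    group
  have hconj : ∀ e : EE N a b, ∀ z, c (C.κ e * z) = C.κ ⟨⟨x * (e : N) * x⁻¹, hN.conj_mem _ (e : N).2 x⟩, by
      have h3 : (x * ((e : N) : G) * x⁻¹) ∈ EE G a b := (EE G a b).mul_mem ((EE G a b).mul_mem hx ⟨e.2.1, e.2.2⟩) ((EE G a b).inv_mem hx)
      exact ⟨h3.1, h3.2⟩⟩ * c z := by
    intro e z
    apply C.inj
    rw [← C.conj]
    apply Subtype.ext
    rw [← hc, ← C.conj]
    show x * (((e : N) : G) * (C.φ z : G) * ((e : N) : G)⁻¹) * x⁻¹ = (x * ((e : N) : G) * x⁻¹) * (C.φ (c z) : G) * (x * ((e : N) : G) * x⁻¹)⁻¹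
    rw [← hc]
    group
  have hidxK := C.index_K DN h2
  have hodd : Fintype.card F % 2 = 1 := by
    rw [C.card_F DN, ← h2]
    omega
  have hxx : x * x ∈ N := by
    have := Subgroup.sq_mem_of_index_two hidx x
    rwa [pow_two] at this
  have hccz : ∃ k, ∀ z, c (c z) = k * z := by
    refine ⟨C.κ ⟨⟨x * x, hxx⟩, ?_⟩, ?_⟩
    · have h3 : (x * x) ∈ EE G a b := (EE G a b).mul_mem hx hx
      exact ⟨h3.1, h3.2⟩
    · intro z
      apply C.inj
      rw [← C.conj]
      apply Subtype.ext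
      rw [← hc, ← hc]
      show x * (x * (C.φ z : G) * x⁻¹) * x⁻¹ = (x * x) * (C.φ z : G) * (x * x)⁻¹
      group
  have key := semi_trivial hF hf hodd c hinj hadd (by
    intro w hw
    have h3 : Units.mk0 w hw * Units.mk0 w hw ∈ C.K := by rw [Subgroup.mul_mem_iff_of_index_two hidxK]
    obtain ⟨e, he⟩ := C.mem_K.mp h3
    rw [Units.val_mul, Units.val_mk0, ← pow_two] at he
    rw [← he]
    exact ⟨_, hconj e⟩) hccz
  refine ⟨c 1, ?_, ?_⟩
  · intro h
    have h3 := key 0
    rw [mul_zero] at h3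
    exact zero_ne_one (hinj (h3.trans h.symm))
  · intro z
    rw [← key z, C.pt_def, C.pt_def]
    have h3 : x • (C.φ z : G) • b = (C.φ (c z) : G) • b := by
      have h4 : x⁻¹ • b = b := inv_smul_eq_iff.mpr (Eq.symm hx.2)
      rw [← hc, mul_smul, mul_smul, h4]
    exact h3

theorem main_odd (S : Sharp G Ω) {p f : ℕ} (hp : p.Prime) (hp2 : p ≠ 2) (hf : Odd f) (hΩ : Fintype.card Ω = p ^ f + 1) (h5 : 5 ≤ Fintype.card Ω) :
    ∃ (F : Type) (_ : Field F) (_ : Fintype F), Fintype.card F = p ^ f ∧ Nonempty (G ≃* PGL(2, F)) := by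
  classical
  haveI := Fact.mk hp
  have hev : Even (Fintype.card Ω) := by
    rw [hΩ]
    exact Odd.add_one ((hp.odd_of_ne_two hp2).pow)
  have hZ := S.zas h5 hev
  haveI : Nonempty Ω := Fintype.card_pos_iff.mp (by omega)
  obtain ⟨a⟩ : Nonempty Ω := inferInstance
  obtain ⟨b, hab, -⟩ := S.exists_third (by omega) a a
  obtain ⟨H, hHa, hHc, hHf⟩ := exists_H hZ (a := a)
  have D : Dat G Ω a b H := { hZ := hZ, hab := hab, hHa := hHa, hcard := hHc, hfix := hHf }
  have hE := S.card_E (by omega) hab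
  have he : Nat.card (EE G a b) + 1 = Nat.card H := by omega
  have hEev : Even (Nat.card (EE G a b)) := by
    obtain ⟨k, hk⟩ := hev
    exact ⟨k - 1, by omega⟩
  have hcH : ∀ x ∈ H, ∀ y ∈ H, x * y = y * x := (D.big_elem (by omega)).1
  obtain ⟨N, hN, hN1, hN2⟩ : ∃ N : Subgroup G, N.Normal ∧ N ≠ ⊥ ∧ N ≠ ⊤ := by
    by_contra hcon
    push Not at hcon
    haveI : Nontrivial G := by
      obtain ⟨x, -, hx⟩ := exists_EE D.hZ D.hab
      exact ⟨x, 1, hx⟩
    haveI := Fintype.ofFinite G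
    exact D.not_simple_of_sharp he hEev { eq_bot_or_eq_top_of_normal := fun M hM => by
                                            by_cases h : M = ⊥
                                            · exact Or.inl h
                                            · exact Or.inr (hcon M hM h) }
  haveI := hN
  have DN := D.restrict hN hN1
  have hHN := D.H_le_normal hN1
  have hcHN : Nat.card (H.subgroupOf N) = Nat.card H := Nat.card_congr (Subgroup.subgroupOfEquivOfLe hHN).toEquiv
  have hNG := DN.card_G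
  rw [hcHN] at hNG
  have hGG := D.card_G
  have hDN2 : 2 * Nat.card (EE N a b) + 1 = Nat.card (H.subgroupOf N) := by
    rcases DN.one_or_two (DN.big_of_comm (fun x hx y hy => Subtype.ext (hcH x hx y hy))) with h | h
    · exfalso
      apply hN2
      apply Subgroup.eq_top_of_card_eq
      have h6 : Nat.card (EE G a b) = Nat.card (EE N a b) := by omega
      rw [hNG, hGG, h6]
    · exact h
  have hidx : N.index = 2 := by
    have h6 := N.card_mul_index
    rw [hNG, hGG] at h6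
    have h7 : Nat.card (EE G a b) = Nat.card (EE N a b) * 2 := by omega
    rw [h7] at h6
    have h8 : 0 < Fintype.card Ω * (Nat.card H * Nat.card (EE N a b)) := by
      have h9 : 0 < Nat.card (EE N a b) := Nat.card_pos
      have h10 : 0 < Nat.card H := Nat.card_pos
      have h11 : 0 < Fintype.card Ω := by omega
      positivity
    apply Nat.eq_of_mul_eq_mul_left h8
    rw [h6]; ring
  obtain ⟨F, _, _, _, C, hgood⟩ := exists_good DN hDN2
  have hF : Fintype.card F = p ^ f := by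
    rw [C.card_F DN, hcHN]
    omega
  refine ⟨F, inferInstance, inferInstance, hF, ?_⟩
  have hgoodN : ∀ n : G, n ∈ N → CfsgLib.S3T8.Good (C.chart DN) n := fun n hn => hgood ⟨n, hn⟩
  have hgoodE : ∀ x ∈ EE G a b, CfsgLib.S3T8.Good (C.chart DN) x := by
    intro x hx
    obtain ⟨m, hm, hmz⟩ := scalars D hN hN1 hidx C hDN2 hF hf hx
    obtain ⟨h, h1, h2⟩ := CfsgLib.S3T8.exists_affine m 0 hm
    refine ⟨h, fun c => ?_⟩
    rcases C.cases DN c with rfl | ⟨y, rfl⟩
    · have : x • c = c := hx.1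
      rw [this, C.chart_a DN, h1]
    · rw [hmz, C.chart_pt DN, C.chart_pt DN, h2, add_zero, mul_comm]
  have hall : ∀ g : G, CfsgLib.S3T8.Good (C.chart DN) g := by
    intro g
    obtain ⟨n, hn⟩ := two_trans DN.hZ DN.hab (c := g • a) (d := g • b) (fun h => hab (MulAction.injective g h))
    have h1 : (n : G)⁻¹ * g ∈ EE G a b := by
      constructor
      · show ((n : G)⁻¹ * g) • a = a
        rw [mul_smul, inv_smul_eq_iff]
        exact hn.1.symm
      · show ((n : G)⁻¹ * g) • b = b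
        rw [mul_smul, inv_smul_eq_iff]
        exact hn.2.symm
    have h2 : g = n * ((n : G)⁻¹ * g) := by group
    rw [h2]
    exact (hgoodN n n.2).mul (hgoodE _ h1)
  exact CfsgLib.S3T8.equiv_of_good hall S.tr S.fr

end CfsgLib.Sharp20
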