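import Mathlib.GroupTheory.SpecificGroups.KleinFour
import Mathlib.GroupTheory.SpecificGroups.Dihedral
import Mathlib.GroupTheory.SpecificGroups.Cyclic
import Mathlib.Tactic

set_option autoImplicit false

/-! Groups of order 2, 4, 8. -/

namespace CfsgLib.Small27

section
variable {G : Type*} [Group G]

theorem z2 (h : Nat.card G = 2) : Nonempty (G ≃* Multiplicative (ZMod 2)) := by
  haveI : Fact (Nat.Prime 2) := ⟨Nat.prime_two⟩
  exact ⟨mulEquivOfPrimeCardEq (p := 2) h (by simp)⟩

theorem v4 (h : Nat.card G = 4) (hsq : ∀ g : G, g * g = 1) : Nonempty (G ≃* Multiplicative (ZMod 2 × ZMod 2)) := by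
  haveI : IsKleinFour G := ⟨h, by
    apply Nat.dvd_antisymm
    · exact Monoid.exponent_dvd_of_forall_pow_eq_one fun g => by rw [pow_two, hsq]
    · have h1 : Monoid.exponent G ≠ 1 := by
        intro he
        rw [Monoid.exp_eq_one_iff] at he
        have := Nat.card_of_subsingleton (1 : G)
        omega
      have h2 : Monoid.exponent G ∣ 2 := Monoid.exponent_dvd_of_forall_pow_eq_one fun g => by rw [pow_two, hsq]
      rcases (Nat.dvd_prime Nat.prime_two).1 h2 with h3 | h3
      · exact absurd h3 h1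
      · rw [h3]⟩
  haveI : IsKleinFour (Multiplicative (ZMod 2 × ZMod 2)) := inferInstance
  exact IsKleinFour.nonempty_mulEquiv

theorem z4 (h : Nat.card G = 4) {g : G} (hg : g * g ≠ 1) : Nonempty (G ≃* Multiplicative (ZMod 4)) := by
  haveI : Finite G := Nat.finite_of_card_ne_zero (by omega)
  have h1 : orderOf g ∣ 4 := by rw [← h]; exact orderOf_dvd_natCard g
  have h2 : ¬ orderOf g ∣ 2 := by
    intro h2
    apply hg
    rw [← pow_two]
    exact orderOf_dvd_iff_pow_eq_one.1 h2
  have h3 : orderOf g = 4 := by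
    have h4 : orderOf g ≤ 4 := Nat.le_of_dvd (by norm_num) h1
    interval_cases hh : orderOf g <;> simp_all
  haveI : IsCyclic G := isCyclic_of_orderOf_eq_card g (by rw [h3, h])
  exact ⟨mulEquivOfCyclicCardEq (by rw [h]; simp)⟩

theorem v4_of (h : Nat.card G = 4) {x y : G} (hx : x ≠ 1) (hy : y ≠ 1) (hxy : x ≠ y) (hx2 : x * x = 1) (hy2 : y * y = 1) : ∀ g : G, g * g = 1 := by
  by_contra hcon
  push Not at hcon
  obtain ⟨g, hg⟩ := hcon
  haveI : Finite G := Nat.finite_of_card_ne_zero (by omega)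
  have h1 : orderOf g ∣ 4 := by rw [← h]; exact orderOf_dvd_natCard g
  have h2 : ¬ orderOf g ∣ 2 := by
    intro h2
    apply hg
    rw [← pow_two]
    exact orderOf_dvd_iff_pow_eq_one.1 h2
  have h3 : orderOf g = 4 := by
    have h4 : orderOf g ≤ 4 := Nat.le_of_dvd (by norm_num) h1
    interval_cases hh : orderOf g <;> simp_all
  have hall : ∀ z : G, z ∈ Subgroup.zpowers g := by
    intro z
    have : Subgroup.zpowers g = ⊤ := by
      apply Subgroup.eq_top_of_card_eq
      rw [Nat.card_zpowers, h3, h]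
    rw [this]; trivial
  have key : ∀ z : G, z ≠ 1 → z * z = 1 → z = g * g := by
    intro z hz hz2
    obtain ⟨k, hk⟩ := (mem_powers_iff_mem_zpowers.2 (hall z))
    have hk' : g ^ k = z := hk
    have h5 : g ^ (k % 4) = z := by rw [← hk', ← h3, pow_mod_orderOf]
    have h6 : k % 4 < 4 := Nat.mod_lt _ (by norm_num)
    have h7 : g ^ 4 = 1 := by rw [← h3, pow_orderOf_eq_one]
    interval_cases hh : k % 4
    · exact absurd (by rw [← h5, pow_zero]) hz
    · exfalso
      rw [pow_one] at h5
      rw [← h5] at hz2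
      exact hg hz2
    · rw [← h5, pow_two]
    · exfalso
      apply hg
      have h8 : g ^ 3 * g ^ 3 = 1 := by rw [h5, hz2]
      calc g * g = g ^ 3 * g ^ 3 * (g ^ 4)⁻¹ := by rw [← pow_two]; group
        _ = 1 := by rw [h8, h7]; simp
  exact hxy ((key x hx hx2).trans (key y hy hy2).symm)

/-- a nonabelian group of order 8 with enough involutions -/
theorem d8_of {a b : G} (h : Nat.card G = 8) (ha2 : a * a ≠ 1) (ha4 : a * a * (a * a) = 1) (hb : b * b = 1) (hab : b * a * b = a⁻¹) :
    Nonempty (G ≃* DihedralGroup 4) := by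
  haveI : Finite G := Nat.finite_of_card_ne_zero (by omega)
  have ha4' : a ^ 4 = 1 := by
    have : a ^ 4 = a * a * (a * a) := by simp only [pow_succ, pow_zero, one_mul, mul_assoc]
    rw [this, ha4]
  have hbi : b⁻¹ = b := inv_eq_of_mul_eq_one_left hb
  have hconj : ∀ k : ℕ, b * a ^ k * b = (a ^ k)⁻¹ := by
    intro k
    have : b * a ^ k * b = (b * a * b⁻¹) ^ k := by rw [conj_pow, hbi]
    rw [this, hbi, hab, inv_pow]
  have hpow : ∀ i j : ZMod 4, a ^ (i + j).val = a ^ i.val * a ^ j.val := by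
    intro i j
    rw [ZMod.val_add, ← pow_add]
    conv_rhs => rw [← Nat.mod_add_div (i.val + j.val) 4, pow_add, pow_mul, ha4', one_pow, mul_one]
  have hneg : ∀ i : ZMod 4, a ^ (-i).val = (a ^ i.val)⁻¹ := by
    intro i
    rw [eq_inv_iff_mul_eq_one, ← hpow]
    simp
  have hconj' : ∀ i : ZMod 4, b * a ^ i.val * b = a ^ (-i).val := by
    intro i
    rw [hconj, hneg]
  have hswap : ∀ i : ZMod 4, a ^ i.val * b = b * a ^ (-i).val := by
    intro i
    have h1 := hconj' (-i)
    rw [neg_neg] at h1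
    rw [← h1, mul_assoc, hb, mul_one]
  let f : DihedralGroup 4 → G := fun x => match x with
    | .r i => a ^ i.val
    | .sr i => b * a ^ i.val
  let φ : DihedralGroup 4 →* G := MonoidHom.mk' f (by
    intro x y
    rcases x with i | i <;> rcases y with j | j
    · show a ^ (i + j).val = a ^ i.val * a ^ j.val
      rw [hpow]
    · show b * a ^ (j - i).val = a ^ i.val * (b * a ^ j.val)
      rw [← mul_assoc, hswap, mul_assoc, ← hpow]
      congr 3
      ring
    · show b * a ^ (i + j).val = b * a ^ i.val * a ^ j.val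
      rw [mul_assoc, hpow]
    · show a ^ (j - i).val = b * a ^ i.val * (b * a ^ j.val)
      rw [← mul_assoc, hconj', ← hpow]
      congr 2
      ring)
  have hinj : Function.Injective φ := by
    rw [injective_iff_map_eq_one]
    have hord : orderOf a = 4 := by
      have h1 : orderOf a ∣ 4 := orderOf_dvd_of_pow_eq_one ha4'
      have h2 : ¬ orderOf a ∣ 2 := by
        intro h2
        apply ha2
        rw [← pow_two]
        exact orderOf_dvd_iff_pow_eq_one.1 h2
      have h4 : orderOf a ≤ 4 := Nat.le_of_dvd (by norm_num) h1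
      interval_cases hh : orderOf a <;> simp_all
    intro x hx
    rcases x with i | i
    · have h1 : a ^ i.val = 1 := hx
      have h2 := orderOf_dvd_of_pow_eq_one h1
      rw [hord] at h2
      have h3 := i.val_lt
      have h4 : i.val = 0 := Nat.eq_zero_of_dvd_of_lt h2 h3
      have h5 : i = 0 := (ZMod.val_eq_zero i).1 h4
      rw [h5]; rfl
    · exfalso
      have h1 : b * a ^ i.val = 1 := hx
      have h2 : b = (a ^ i.val)⁻¹ := eq_inv_of_mul_eq_one_left h1
      apply ha2
      have h3 : b * a * b = a := by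
        have : Commute b a := by
          rw [h2]
          exact ((Commute.refl a).pow_left _).inv_left
        rw [this.eq, mul_assoc, hb, mul_one]
      rw [h3] at hab
      nth_rw 1 [hab]
      rw [inv_mul_cancel]
  have hcard : Nat.card (DihedralGroup 4) = Nat.card G := by rw [h, DihedralGroup.nat_card]
  exact ⟨(MulEquiv.ofBijective φ ((Nat.bijective_iff_injective_and_card φ).2 ⟨hinj, hcard⟩)).symm⟩

theorem d8 {r D : G} (h : Nat.card G = 8) (hr : r * r = 1) (hc : r * (D * r * D⁻¹) = (D * r * D⁻¹) * r) (hz : r * (D * r * D⁻¹) ≠ 1)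
    (hD : D * D = 1 ∨ D * D = r * (D * r * D⁻¹)) : Nonempty (G ≃* DihedralGroup 4) := by
  obtain ⟨s, hs⟩ : ∃ s, s = D * r * D⁻¹ := ⟨_, rfl⟩
  have hss : s * s = 1 := by
    have : s * s = D * (r * r) * D⁻¹ := by rw [hs]; group
    rw [this, hr]; group
  have hrs : (r * s) * (r * s) = 1 := by
    have hc' : s * r = r * s := by rw [hs]; exact hc.symm
    rw [mul_assoc, ← mul_assoc s, hc', mul_assoc r s s, hss, mul_one, hr]
  rw [← hs] at hc hz hD
  have hri : r⁻¹ = r := inv_eq_of_mul_eq_one_left hr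
  rcases hD with hD | hD
  · have hDi : D⁻¹ = D := inv_eq_of_mul_eq_one_left hD
    have h1 : D * r * (D * r) = r * s := by
      rw [hc, hs, hDi]; group
    refine d8_of (a := D * r) (b := r) h (by rw [h1]; exact hz) (by rw [h1]; exact hrs) hr ?_
    rw [mul_inv_rev, hri, hDi]
    rw [mul_assoc, mul_assoc D, hr, mul_one]
  · refine d8_of (a := D) (b := r) h (by rw [hD]; exact hz) (by rw [hD]; exact hrs) hr ?_
    rw [eq_inv_iff_mul_eq_one]
    have h1 : r * D * r * D = r * s * (D * D) := by rw [hs]; group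
    rw [h1, hD, hrs]

end

section
/-- factoring through the image -/
theorem exists_phi {X Γ H : Type*} [Group X] [Group Γ] [Group H] (ρ : Γ →* X) (N P : Subgroup X) (hP : P = ρ.range) (ψ : Γ →* H)
    (hψ : Function.Surjective ψ) (hker : ψ.ker = N.comap ρ) : ∃ φ : P →* H, Function.Surjective φ ∧ φ.ker = N.subgroupOf P := by
  subst hP
  have hs : Function.Surjective ρ.rangeRestrict := ρ.rangeRestrict_surjective
  have hle : ρ.rangeRestrict.ker ≤ ψ.ker := by
    intro g hg
    rw [hker, Subgroup.mem_comap]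
    have : ρ g = 1 := by
      have h1 := congrArg Subtype.val (MonoidHom.mem_ker.1 hg)
      exact h1
    rw [this]; exact N.one_mem
  let φ : ρ.range →* H := ρ.rangeRestrict.liftOfSurjective hs ⟨ψ, hle⟩
  have hφ : ∀ g, φ (ρ.rangeRestrict g) = ψ g := fun g => MonoidHom.liftOfRightInverse_comp_apply _ _ _ ⟨ψ, hle⟩ g
  refine ⟨φ, ?_, ?_⟩
  · intro h
    obtain ⟨g, rfl⟩ := hψ h
    exact ⟨_, hφ g⟩
  · ext x
    obtain ⟨g, rfl⟩ := hs x
    rw [MonoidHom.mem_ker, hφ, ← MonoidHom.mem_ker, hker]
    exact Iff.rfl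

theorem exists_phi_quot {X Γ H : Type*} [Group X] [Group Γ] [Group H] (ρ : Γ →* X) (N P : Subgroup X) [N.Normal] (hP : P = ρ.range)
    (e : Nonempty (Γ ⧸ (N.comap ρ) ≃* H)) : ∃ φ : P →* H, Function.Surjective φ ∧ φ.ker = N.subgroupOf P := by
  obtain ⟨e⟩ := e
  refine exists_phi ρ N P hP ((e : Γ ⧸ (N.comap ρ) →* H).comp (QuotientGroup.mk' (N.comap ρ))) ?_ ?_
  · exact e.surjective.comp (QuotientGroup.mk'_surjective _)
  · ext g
    rw [MonoidHom.mem_ker]
    show e (QuotientGroup.mk' (N.comap ρ) g) = 1 ↔ _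
    rw [map_eq_one_iff e e.injective]
    exact QuotientGroup.eq_one_iff g

end

end CfsgLib.Small27
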