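import Cfsg.Agent.LibSnA29
import Cfsg.Agent.LibDkJJ29

set_option autoImplicit false

/-! Subgroups of index six of the symmetric group of degree six. -/

namespace CfsgLib.Sn29

open Equiv Equiv.Perm MulAction
open scoped Pointwise MatrixGroups

instance five_prime : Fact (Nat.Prime 5) := ⟨by norm_num⟩

theorem exists_line : ∃ H : Subgroup (Perm (OnePoint (ZMod 5))), H.index = 6 ∧ IsPretransitive H (OnePoint (ZMod 5)) := by
  refine ⟨(toPermHom PGL(2, ZMod 5) (OnePoint (ZMod 5))).range, ?_, ?_⟩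
  · have hinj : Function.Injective (toPermHom PGL(2, ZMod 5) (OnePoint (ZMod 5))) := by
      rw [injective_iff_map_eq_one]
      intro g hg
      have h1 : ∀ x : OnePoint (ZMod 5), g • x = x := fun x => by
        have := congrArg (fun f : Perm (OnePoint (ZMod 5)) => f x) hg
        exact this
      exact CfsgLib.Dk29.pgl_three g OnePoint.infty ((0 : ZMod 5) : OnePoint (ZMod 5)) ((1 : ZMod 5) : OnePoint (ZMod 5)) (OnePoint.infty_ne_coe _) (OnePoint.infty_ne_coe _)
        CfsgLib.Dk29.zero_ne_one' (h1 _) (h1 _) (h1 _)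
    have h1 : Nat.card (toPermHom PGL(2, ZMod 5) (OnePoint (ZMod 5))).range = 120 := by
      rw [← Nat.card_congr (MonoidHom.ofInjective hinj).toEquiv, CfsgLib.Dk29.card_PGL, ZMod.card]
    have h2 := Subgroup.card_mul_index (toPermHom PGL(2, ZMod 5) (OnePoint (ZMod 5))).range
    have h3 : Nat.card (OnePoint (ZMod 5)) = 6 := by
      have : Nat.card (OnePoint (ZMod 5)) = Nat.card (Option (ZMod 5)) := rfl
      rw [this, Nat.card_eq_fintype_card, Fintype.card_option, ZMod.card]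
    rw [h1, Nat.card_perm, h3] at h2
    have h4 : (6 : ℕ).factorial = 720 := rfl
    omega
  · refine ⟨fun x y => ?_⟩
    obtain ⟨g, hg⟩ := CfsgLib.Dk29.mk_surj_smul x y
    exact ⟨⟨toPermHom PGL(2, ZMod 5) (OnePoint (ZMod 5)) g, ⟨g, rfl⟩⟩, hg⟩

section
variable {Ω : Type*} [Fintype Ω] [DecidableEq Ω]

theorem exists_outer (h6 : Fintype.card Ω = 6) : ∃ H : Subgroup (Perm Ω), H.index = 6 ∧ ∀ x : Ω, H ≠ stabilizer (Perm Ω) x := by
  obtain ⟨H, hH, ht⟩ := exists_line
  have h3 : Nat.card (OnePoint (ZMod 5)) = Nat.card Ω := by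
    have : Nat.card (OnePoint (ZMod 5)) = Nat.card (Option (ZMod 5)) := rfl
    rw [this, Nat.card_eq_fintype_card, Fintype.card_option, ZMod.card, Nat.card_eq_fintype_card, h6]
  haveI : Finite (OnePoint (ZMod 5)) := inferInstanceAs (Finite (Option (ZMod 5)))
  obtain ⟨e⟩ := Finite.card_eq.mp h3
  let ψ : Perm (OnePoint (ZMod 5)) ≃* Perm Ω := e.permCongrHom
  refine ⟨H.map ψ.toMonoidHom, ?_, ?_⟩
  · rw [Subgroup.index_map_of_injective _ ψ.injective, hH, MonoidHom.range_eq_top.mpr ψ.surjective, Subgroup.index_top]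
  · intro x hx
    haveI : Nontrivial Ω := Fintype.one_lt_card_iff_nontrivial.mp (by omega)
    obtain ⟨y, hy⟩ := exists_ne x
    obtain ⟨g, hg⟩ := ht.exists_smul_eq (e.symm x) (e.symm y)
    have h1 : ψ (g : Perm (OnePoint (ZMod 5))) ∈ H.map ψ.toMonoidHom := ⟨g, g.2, rfl⟩
    rw [hx, mem_stabilizer_iff] at h1
    have h2 : ψ (g : Perm (OnePoint (ZMod 5))) • x = e ((g : Perm (OnePoint (ZMod 5))) (e.symm x)) := rfl
    have h4 : (g : Perm (OnePoint (ZMod 5))) (e.symm x) = e.symm y := hg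
    rw [h2, h4, Equiv.apply_symm_apply] at h1
    exact hy h1

variable {Ω' : Type*} [Fintype Ω'] [DecidableEq Ω']

/-- triple transpositions -/
def Tri (t : Perm Ω) : Prop := t.cycleType = Multiset.replicate 3 2

theorem tri_not_swap (t : Perm Ω) (ht : Tri t) : ¬ t.IsSwap := by
  intro h
  rw [isSwap_iff_cycleType, ht] at h
  have := congrArg Multiset.card h
  simp at this

/-- if some transposition is mapped to a transposition, all are -/
theorem all_swap (φ : Perm Ω ≃* Perm Ω') (s : Perm Ω) (hs : s.IsSwap) (hs' : (φ s).IsSwap) (t : Perm Ω) (ht : t.IsSwap) : (φ t).IsSwap := by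
  have h1 : IsConj s t := by rw [isConj_iff_cycleType_eq, isSwap_iff_cycleType.mp hs, isSwap_iff_cycleType.mp ht]
  obtain ⟨g, hg⟩ := isConj_iff.mp h1
  have h2 : IsConj (φ s) (φ t) := isConj_iff.mpr ⟨φ g, by rw [← hg]; simp⟩
  rw [isConj_iff_cycleType_eq, isSwap_iff_cycleType.mp hs'] at h2
  exact isSwap_iff_cycleType.mpr h2.symm

/-- if transpositions are mapped to triple transpositions, the converse also holds -/
theorem tri_swap (φ : Perm Ω ≃* Perm Ω') (h6 : Fintype.card Ω = 6) (hc : Fintype.card Ω = Fintype.card Ω') (s : Perm Ω) (hs : s.IsSwap) (hs' : Tri (φ s))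
    (t : Perm Ω) (ht : Tri t) : (φ t).IsSwap := by
  have h2 : orderOf (φ t) = 2 := by
    rw [MulEquiv.orderOf_eq, ← lcm_cycleType, ht]; rfl
  obtain ⟨k, hk⟩ := cycleType_prime_order (σ := φ t) (by rw [h2]; exact Nat.prime_two)
  rw [h2] at hk
  have h3 := card_cent_equiv φ t
  obtain ⟨a1, a2⟩ := card_cent_invol t 3 (by norm_num) ht
  obtain ⟨b1, b2⟩ := card_cent_invol (φ t) (k + 1) (by omega) hk
  rw [a2, b2, ← hc, h6] at h3
  rw [← hc, h6] at b1
  have hk2 : k = 0 ∨ k = 2 := by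
    have : k = 0 ∨ k = 1 ∨ k = 2 := by omega
    rcases this with h | h | h
    · exact Or.inl h
    · subst h; exact absurd h3 (by decide)
    · exact Or.inr h
  rcases hk2 with rfl | rfl
  · exact isSwap_iff_cycleType.mpr hk
  · exfalso
    have h4 : IsConj (φ s) (φ t) := by rw [isConj_iff_cycleType_eq, hk]; exact hs'
    obtain ⟨g, hg⟩ := isConj_iff.mp h4
    obtain ⟨g, rfl⟩ := φ.surjective g
    rw [← map_inv, ← map_mul, ← map_mul] at hg
    have h5 : IsConj s t := isConj_iff.mpr ⟨g, φ.injective hg⟩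
    rw [isConj_iff_cycleType_eq, isSwap_iff_cycleType.mp hs] at h5
    exact tri_not_swap t ht (isSwap_iff_cycleType.mpr h5.symm)

theorem card_eq' (H : Subgroup (Perm Ω)) [Fintype (Perm Ω ⧸ H)] (hH : H.index = Fintype.card Ω) : Fintype.card Ω = Fintype.card (Perm Ω ⧸ H) := by
  rw [← hH, Subgroup.index, Nat.card_eq_fintype_card]

/-- for `H` not a point stabilizer, the coset action maps transpositions to triple transpositions -/
theorem outer_tri (h6 : Fintype.card Ω = 6) (H : Subgroup (Perm Ω)) [Fintype (Perm Ω ⧸ H)] [DecidableEq (Perm Ω ⧸ H)] (hH : H.index = 6) (hns : ∀ x : Ω, H ≠ stabilizer (Perm Ω) x)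
    (φ : Perm Ω ≃* Perm (Perm Ω ⧸ H)) (hφ : ∀ (g : Perm Ω) (d : Perm Ω ⧸ H), φ g d = g • d) (s : Perm Ω) (hs : s.IsSwap) : Tri (φ s) := by
  have hc := card_eq' H (by rw [hH, h6])
  rcases swap_image φ hc s hs with h | ⟨_, h⟩
  · exfalso
    obtain ⟨x, hx⟩ := comap_stab_of_swap φ (by omega) hc (fun t ht => all_swap φ s hs h t ht) ((1 : Perm Ω) : Perm Ω ⧸ H)
    rw [comap_coset H φ hφ, stab_one] at hx
    exact hns x hx
  · exact h

theorem stab_coset (H : Subgroup (Perm Ω)) (g : Perm Ω) : stabilizer (Perm Ω) ((g : Perm Ω) : Perm Ω ⧸ H) = H.map (MulAut.conj g).toMonoidHom := by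
  have h1 : ((g : Perm Ω) : Perm Ω ⧸ H) = g • ((1 : Perm Ω) : Perm Ω ⧸ H) := by
    rw [MulAction.Quotient.smul_coe, smul_eq_mul, mul_one]
  rw [h1, MulAction.stabilizer_smul_eq_stabilizer_map_conj, stab_one]

/-- **the non-standard subgroups of index six are conjugate** -/
theorem outer_conj (h6 : Fintype.card Ω = 6) (H K : Subgroup (Perm Ω)) (hH : H.index = 6) (hK : K.index = 6) (hHs : ∀ x : Ω, H ≠ stabilizer (Perm Ω) x)
    (hKs : ∀ x : Ω, K ≠ stabilizer (Perm Ω) x) : ∃ d : Perm Ω ⧸ H, stabilizer (Perm Ω) d = K := by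
  haveI : Fintype (Perm Ω ⧸ H) := Fintype.ofFinite _
  haveI : DecidableEq (Perm Ω ⧸ H) := Classical.decEq _
  haveI : Fintype (Perm Ω ⧸ K) := Fintype.ofFinite _
  haveI : DecidableEq (Perm Ω ⧸ K) := Classical.decEq _
  obtain ⟨φ, hφ⟩ := exists_coset_iso H (by rw [hH, h6]) (by omega)
  obtain ⟨θ, hθ⟩ := exists_coset_iso K (by rw [hK, h6]) (by omega)
  have hcH := card_eq' H (by rw [hH, h6])
  have hcK := card_eq' K (by rw [hK, h6])
  have h1 : ∀ s : Perm (Perm Ω ⧸ H), s.IsSwap → ((φ.symm.trans θ) s).IsSwap := by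
    intro s hs
    obtain ⟨t, rfl⟩ := φ.surjective s
    have e1 : (φ.symm.trans θ) (φ t) = θ t := by
      show θ (φ.symm (φ t)) = θ t
      rw [φ.symm_apply_apply]
    rw [e1]
    -- `t` is a triple transposition
    have ht : Tri t := by
      rcases swap_image φ.symm hcH.symm (φ t) hs with h | ⟨_, h⟩
      · rw [φ.symm_apply_apply] at h
        exact absurd hs (tri_not_swap _ (outer_tri h6 H hH hHs φ hφ t h))
      · rw [φ.symm_apply_apply] at h
        exact h
    haveI : Nontrivial Ω := Fintype.one_lt_card_iff_nontrivial.mp (by omega)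
    obtain ⟨a, b, hab⟩ := exists_pair_ne Ω
    exact tri_swap θ h6 hcK (swap a b) ⟨a, b, hab, rfl⟩ (outer_tri h6 K hK hKs θ hθ _ ⟨a, b, hab, rfl⟩) t ht
  obtain ⟨d, hd⟩ := comap_stab_of_swap (φ.symm.trans θ) (by omega) (by rw [← hcH, ← hcK]) h1 ((1 : Perm Ω) : Perm Ω ⧸ K)
  refine ⟨d, ?_⟩
  rw [← comap_coset H φ hφ, ← hd]
  have hK1 : K = (stabilizer (Perm (Perm Ω ⧸ K)) ((1 : Perm Ω) : Perm Ω ⧸ K)).comap θ.toMonoidHom := by
    rw [comap_coset K θ hθ, stab_one]
  refine Eq.trans ?_ hK1.symm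
  ext g
  rw [Subgroup.mem_comap, Subgroup.mem_comap, Subgroup.mem_comap]
  have : (φ.symm.trans θ).toMonoidHom (φ.toMonoidHom g) = θ.toMonoidHom g := by
    show θ (φ.symm (φ g)) = θ g
    rw [φ.symm_apply_apply]
  rw [this]

theorem stab_inj (h3 : 3 ≤ Fintype.card Ω) (x y : Ω) (h : stabilizer (Perm Ω) x = stabilizer (Perm Ω) y) : x = y := by
  by_contra hne
  have h1 : ∃ z : Ω, z ≠ x ∧ z ≠ y := by
    have : ({x, y} : Finset Ω).card < (Finset.univ : Finset Ω).card := by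
      rw [Finset.card_univ]
      exact lt_of_le_of_lt Finset.card_le_two (by omega)
    obtain ⟨z, _, hz⟩ := Finset.exists_mem_notMem_of_card_lt_card this
    rw [Finset.mem_insert, Finset.mem_singleton] at hz
    push Not at hz
    exact ⟨z, hz.1, hz.2⟩
  obtain ⟨z, hz1, hz2⟩ := h1
  have h2 : swap y z ∈ stabilizer (Perm Ω) x := by
    rw [mem_stabilizer_iff]
    exact swap_apply_of_ne_of_ne hne (fun h => hz1 h.symm)
  rw [h, mem_stabilizer_iff] at h2
  have h4 : swap y z y = y := h2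
  rw [swap_apply_left] at h4
  exact hz2 h4

theorem coset_stab_inj (h6 : Fintype.card Ω = 6) (H : Subgroup (Perm Ω)) (hH : H.index = 6) (d e : Perm Ω ⧸ H) (h : stabilizer (Perm Ω) d = stabilizer (Perm Ω) e) : d = e := by
  haveI : Fintype (Perm Ω ⧸ H) := Fintype.ofFinite _
  haveI : DecidableEq (Perm Ω ⧸ H) := Classical.decEq _
  obtain ⟨φ, hφ⟩ := exists_coset_iso H (by rw [hH, h6]) (by omega)
  have hcH := card_eq' H (by rw [hH, h6])
  apply stab_inj (by rw [← hcH]; omega)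
  rw [← comap_coset H φ hφ, ← comap_coset H φ hφ] at h
  exact Subgroup.comap_injective φ.surjective h

theorem outer_not_stab (H : Subgroup (Perm Ω)) (hHs : ∀ x : Ω, H ≠ stabilizer (Perm Ω) x) (d : Perm Ω ⧸ H) (x : Ω) : stabilizer (Perm Ω) d ≠ stabilizer (Perm Ω) x := by
  intro h
  obtain ⟨g, rfl⟩ := QuotientGroup.mk_surjective d
  have h1 : ((g : Perm Ω) : Perm Ω ⧸ H) = g • ((1 : Perm Ω) : Perm Ω ⧸ H) := by
    rw [MulAction.Quotient.smul_coe, smul_eq_mul, mul_one]
  apply hHs (g⁻¹ • x)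
  ext k
  rw [mem_stabilizer_iff]
  have h2 : k ∈ H ↔ g * k * g⁻¹ ∈ stabilizer (Perm Ω) ((g : Perm Ω) : Perm Ω ⧸ H) := by
    rw [stab_coset]
    constructor
    · intro hk; exact ⟨k, hk, rfl⟩
    · rintro ⟨k', hk', he⟩
      have : k' = k := (MulAut.conj g).injective he
      rwa [← this]
  rw [h2]
  rw [show ((QuotientGroup.mk g : Perm Ω ⧸ H)) = ((g : Perm Ω) : Perm Ω ⧸ H) from rfl] at h
  rw [h, mem_stabilizer_iff, mul_smul, mul_smul, smul_eq_iff_eq_inv_smul]

theorem coset_index (h6 : Fintype.card Ω = 6) (H : Subgroup (Perm Ω)) (hH : H.index = 6) (d : Perm Ω ⧸ H) : (stabilizer (Perm Ω) d).index = 6 := by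
  rw [MulAction.index_stabilizer_of_transitive, ← Subgroup.index, hH]

noncomputable def stabIso (h6 : Fintype.card Ω = 6) (x : Ω) : stabilizer (Perm Ω) x ≃* Perm {y : Ω // y ≠ x} where
  toFun g := (g : Perm Ω).subtypePerm (fun y => by
    have hg : (g : Perm Ω) x = x := g.2
    constructor
    · intro h h'
      apply h
      rw [h', hg]
    · intro h h'
      apply h
      apply (g : Perm Ω).injective
      rw [h', hg])
  invFun g := ⟨Equiv.Perm.ofSubtype g, by
    rw [mem_stabilizer_iff]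
    exact Equiv.Perm.ofSubtype_apply_of_not_mem g (by simp)⟩
  left_inv g := by
    apply Subtype.ext
    apply Equiv.Perm.ofSubtype_subtypePerm
    intro y hy h
    apply hy
    rw [h]
    exact g.2
  right_inv g := by
    ext y
    simp
  map_mul' g h := by
    ext y
    rfl

theorem stab_iso_five (h6 : Fintype.card Ω = 6) (x : Ω) : Nonempty (stabilizer (Perm Ω) x ≃* Perm (Fin 5)) := by
  have h1 : Fintype.card {y : Ω // y ≠ x} = Fintype.card (Fin 5) := by
    rw [Fintype.card_subtype_compl, h6, Fintype.card_subtype_eq, Fintype.card_fin]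
  obtain ⟨e⟩ := Fintype.card_eq.mp h1
  exact ⟨(stabIso h6 x).trans e.permCongrHom⟩

theorem coset_iso_five (h6 : Fintype.card Ω = 6) (H : Subgroup (Perm Ω)) (hH : H.index = 6) : Nonempty (H ≃* Perm (Fin 5)) := by
  haveI : Fintype (Perm Ω ⧸ H) := Fintype.ofFinite _
  haveI : DecidableEq (Perm Ω ⧸ H) := Classical.decEq _
  obtain ⟨φ, hφ⟩ := exists_coset_iso H (by rw [hH, h6]) (by omega)
  have hcH := card_eq' H (by rw [hH, h6])
  obtain ⟨e⟩ := stab_iso_five (Ω := Perm Ω ⧸ H) (by rw [← hcH, h6]) ((1 : Perm Ω) : Perm Ω ⧸ H)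
  have h1 : H.map φ.toMonoidHom = stabilizer (Perm (Perm Ω ⧸ H)) ((1 : Perm Ω) : Perm Ω ⧸ H) := by
    have h2 := Subgroup.map_comap_eq_self_of_surjective (f := φ.toMonoidHom) φ.surjective (stabilizer (Perm (Perm Ω ⧸ H)) ((1 : Perm Ω) : Perm Ω ⧸ H))
    have h3 := comap_coset H φ hφ ((1 : Perm Ω) : Perm Ω ⧸ H)
    rw [stab_one] at h3
    rw [h3] at h2
    exact h2
  exact ⟨(φ.subgroupMap H).trans ((MulEquiv.subgroupCongr h1).trans e)⟩

end

end CfsgLib.Sn29
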