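import Mathlib
import Cfsg.Prelude

set_option autoImplicit false

/-!
Soft subgroups of `p`-groups (Héthelyi) (helper4).
-/

namespace CfsgLib.Soft

open Subgroup
open scoped commutatorElement

universe u

section Basic

variable {P : Type u} [Group P]

/-- soft subgroups -/
structure IsSoft (p : ℕ) (E : Subgroup P) : Prop where
  ab : ∀ a ∈ E, ∀ b ∈ E, a * b = b * a
  cen : centralizer (E : Set P) ≤ E
  idx : E.relIndex (normalizer (E : Set P)) = p

/-- the conclusions -/
structure Good (p : ℕ) (E : Subgroup P) : Prop where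
  tot : ∀ K L : Subgroup P, E ≤ K → E ≤ L → K ≤ L ∨ L ≤ K
  step : ∀ K : Subgroup P, E ≤ K → K ≠ ⊤ → K.relIndex (normalizer (K : Set P)) = p
  cls : ∀ (M : Subgroup P) (m : ℕ), E ≤ M → M.index = p → E.index = p ^ m → M.lowerCentralSeries m = ⊥

variable [Finite P] {p : ℕ} [hp : Fact p.Prime]

theorem index_cent_le (hP : IsPGroup p P) (N : Subgroup P) [N.Normal] (hN : Nat.card N = p ^ 2) {e : P} (he : e ∈ N)
    (he1 : e ≠ 1) : (centralizer ({e} : Set P)).index ≤ p := by
  have h1 : (centralizer ({e} : Set P)).index = (MulAction.orbit (ConjAct P) e).ncard := by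
    rw [← MulAction.index_stabilizer, ConjAct.stabilizer_eq_centralizer]
    rfl
  have h2 : MulAction.orbit (ConjAct P) e ⊆ (N : Set P) \ {1} := by
    rintro _ ⟨g, rfl⟩
    refine ⟨?_, ?_⟩
    · show g • e ∈ N
      rw [ConjAct.smul_def]
      exact Normal.conj_mem inferInstance e he _
    · intro h
      apply he1
      have h3 : g • e = 1 := h
      rw [ConjAct.smul_def] at h3
      have h4 : ConjAct.ofConjAct g * e = ConjAct.ofConjAct g := mul_inv_eq_one.1 h3
      exact mul_eq_left.1 h4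
  have h3 : (MulAction.orbit (ConjAct P) e).ncard ≤ p ^ 2 - 1 := by
    calc _ ≤ ((N : Set P) \ {1}).ncard := Set.ncard_le_ncard h2 (Set.toFinite _)
      _ = (N : Set P).ncard - 1 := Set.ncard_diff_singleton_of_mem (one_mem N)
      _ = p ^ 2 - 1 := by rw [← hN]; rfl
  obtain ⟨n, hn⟩ := IsPGroup.iff_card.1 hP
  have h4 : (centralizer ({e} : Set P)).index ∣ p ^ n := by
    rw [← hn]; exact Subgroup.index_dvd_card _
  obtain ⟨j, -, hj⟩ := (Nat.dvd_prime_pow hp.out).1 h4
  rw [hj]
  have h5 : p ^ j < p ^ 2 := by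
    rw [← hj, h1]
    have : 0 < p ^ 2 := pow_pos hp.out.pos 2
    omega
  have h6 : j < 2 := (Nat.pow_lt_pow_iff_right hp.out.one_lt).1 h5
  have h7 : j ≤ 1 := by omega
  calc p ^ j ≤ p ^ 1 := Nat.pow_le_pow_right hp.out.pos h7
    _ = p := pow_one p

theorem relIndex_pow (hP : IsPGroup p P) (H K : Subgroup P) : ∃ j, H.relIndex K = p ^ j := by
  obtain ⟨n, hn⟩ := IsPGroup.iff_card.1 (hP.to_subgroup K)
  have h4 : H.relIndex K ∣ p ^ n := by
    rw [← hn]; exact Subgroup.index_dvd_card _
  obtain ⟨j, -, hj⟩ := (Nat.dvd_prime_pow hp.out).1 h4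
  exact ⟨j, hj⟩

theorem lt_norm (hP : IsPGroup p P) {H : Subgroup P} (hH : H ≠ ⊤) : H < normalizer (H : Set P) := by
  haveI := hP.isNilpotent
  exact Group.normalizerCondition_of_isNilpotent H (lt_top_iff_ne_top.2 hH)

/-- between `E` and an overgroup of prime index -/
theorem eq_of_prime {E K N : Subgroup P} (hEK : E ≤ K) (hKN : K ≤ N) (hN : E.relIndex N = p) : K = E ∨ K = N := by
  have h1 : E.relIndex K * K.relIndex N = p := by rw [relIndex_mul_relIndex E K N hEK hKN, hN]
  have h2 : K.relIndex N ∣ p := Dvd.intro_left _ h1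
  rcases (Nat.dvd_prime hp.out).1 h2 with h3 | h3
  · right
    exact le_antisymm hKN (relIndex_eq_one.1 h3)
  · left
    rw [h3] at h1
    have h4 : E.relIndex K = 1 := Nat.eq_of_mul_eq_mul_right hp.out.pos (by rw [h1, one_mul])
    exact le_antisymm (relIndex_eq_one.1 h4) hEK

/-- the second step of the normalizer tower -/
theorem stepS (hP : IsPGroup p P) {E : Subgroup P} (hE : IsSoft p E) (hN : normalizer (E : Set P) ≠ ⊤) :
    (normalizer (E : Set P)).relIndex (normalizer ((normalizer (E : Set P) : Subgroup P) : Set P)) = p := by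
  set N1 := normalizer (E : Set P) with hN1
  set N2 := normalizer (N1 : Set P) with hN2
  have hEN1 : E ≤ N1 := le_normalizer
  have hN12 : N1 ≤ N2 := le_normalizer
  have hlt : N1 < N2 := lt_norm hP hN
  obtain ⟨y, hy2, hy1⟩ := SetLike.exists_of_lt hlt
  -- the conjugate
  set E' := E.map (MulAut.conj y).toMonoidHom with hE'
  have hmemE' : ∀ x, x ∈ E' ↔ y⁻¹ * x * y ∈ E := by
    intro x
    rw [hE', mem_map]
    constructor
    · rintro ⟨z, hz, rfl⟩
      have : y⁻¹ * ((MulAut.conj y).toMonoidHom z) * y = z := by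
        show y⁻¹ * (y * z * y⁻¹) * y = z
        group
      rw [this]; exact hz
    · intro h
      refine ⟨_, h, ?_⟩
      show y * (y⁻¹ * x * y) * y⁻¹ = x
      group
  have hyN1 : ∀ x, x ∈ N1 ↔ y⁻¹ * x * y ∈ N1 := by
    intro x
    have := mem_normalizer_iff.1 (inv_mem hy2) x
    rw [inv_inv] at this
    exact this
  have hE'N1 : E' ≤ N1 := by
    intro x hx
    rw [hyN1]
    exact hEN1 ((hmemE' x).1 hx)
  have hcardE' : Nat.card E' = Nat.card E := Subgroup.card_map_of_injective (MulAut.conj y).injective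
  have hEE' : E ≠ E' := by
    intro heq
    apply hy1
    rw [hN1, mem_normalizer_iff]
    intro x
    constructor
    · intro hx
      rw [heq, hmemE']
      have : y⁻¹ * (y * x * y⁻¹) * y = x := by group
      rw [this]; exact hx
    · intro hx
      rw [heq, hmemE'] at hx
      have : y⁻¹ * (y * x * y⁻¹) * y = x := by group
      rw [this] at hx
      exact hx
  -- `E ⊔ E' = N1`
  have hsup : E ⊔ E' = N1 := by
    rcases eq_of_prime (p := p) (le_sup_left : E ≤ E ⊔ E') (sup_le hEN1 hE'N1) hE.idx with h | h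
    · exfalso
      apply hEE'
      have h1 : E' ≤ E := by rw [← h]; exact le_sup_right
      exact (eq_of_le_of_card_ge h1 hcardE'.ge).symm
    · exact h
  set Z := E ⊓ E' with hZ
  -- `Z` is the centre of `N1`
  have hab' : ∀ a ∈ E', ∀ b ∈ E', a * b = b * a := by
    intro a ha b hb
    have h1 := hE.ab _ ((hmemE' a).1 ha) _ ((hmemE' b).1 hb)
    have h2 : y⁻¹ * (a * b) * y = y⁻¹ * (b * a) * y := by
      calc y⁻¹ * (a * b) * y = (y⁻¹ * a * y) * (y⁻¹ * b * y) := by group
        _ = (y⁻¹ * b * y) * (y⁻¹ * a * y) := h1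
        _ = _ := by group
    exact mul_left_cancel (mul_right_cancel h2)
  have hZc : ∀ z ∈ Z, ∀ x ∈ N1, x * z = z * x := by
    intro z hz x hx
    have h1 : N1 ≤ centralizer ({z} : Set P) := by
      rw [← hsup, sup_le_iff]
      constructor
      · intro e he
        rw [mem_centralizer_singleton_iff]
        exact hE.ab e he z hz.1
      · intro e he
        rw [mem_centralizer_singleton_iff]
        exact hab' e he z hz.2
    exact mem_centralizer_singleton_iff.1 (h1 hx)
  have hcen' : centralizer (N1 : Set P) ≤ Z := by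
    intro x hx
    refine mem_inf.2 ⟨hE.cen (centralizer_le (by exact_mod_cast hEN1) hx), ?_⟩
    rw [hmemE']
    apply hE.cen
    rw [mem_centralizer_iff]
    intro e he
    have h1 : y * e * y⁻¹ ∈ N1 := (mem_normalizer_iff.1 hy2 e).1 (hEN1 he)
    have h2 := mem_centralizer_iff.1 hx _ h1
    calc e * (y⁻¹ * x * y) = y⁻¹ * ((y * e * y⁻¹) * x) * y := by group
      _ = y⁻¹ * (x * (y * e * y⁻¹)) * y := by rw [h2]
      _ = _ := by group
  have hZN1 : Z ≤ N1 := inf_le_left.trans hEN1
  -- `Z` is normalized by `N2`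
  have hZN2 : ∀ g ∈ N2, ∀ z ∈ Z, g * z * g⁻¹ ∈ Z := by
    intro g hg z hz
    apply hcen'
    rw [mem_centralizer_iff]
    intro x hx
    have h1 : g⁻¹ * x * g ∈ N1 := by
      have := (mem_normalizer_iff.1 (inv_mem hg) x).1 hx
      rwa [inv_inv] at this
    have h2 := hZc z hz _ h1
    calc x * (g * z * g⁻¹) = g * ((g⁻¹ * x * g) * z) * g⁻¹ := by group
      _ = g * (z * (g⁻¹ * x * g)) * g⁻¹ := by rw [h2]
      _ = _ := by group
  -- the index of `Z` in `N1`
  have hcard1 : Nat.card N1 = Nat.card E * p := by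
    rw [← hE.idx]
    have h1 : Nat.card E = Nat.card (E.subgroupOf N1) := (Nat.card_congr (subgroupOfEquivOfLe hEN1).toEquiv).symm
    rw [h1]
    exact ((E.subgroupOf N1).card_mul_index).symm
  have hcardZ : Nat.card N1 * Nat.card Z = Nat.card E * Nat.card E' := by
    have hEn : E' ≤ normalizer (E : Set P) := hE'N1
    have h1 : Z.relIndex E' = E.relIndex E' := by
      rw [hZ, inf_relIndex_right]
    have h2 : E.relIndex (E ⊔ E') = E.relIndex E' := by
      haveI : (E.subgroupOf N1).Normal := normal_subgroupOf_of_le_normalizer le_rfl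
      have h3 := relIndex_sup_left (E'.subgroupOf N1) (E.subgroupOf N1)
      rw [← subgroupOf_sup hEN1 hE'N1, relIndex_subgroupOf (sup_le hEN1 hE'N1), relIndex_subgroupOf hE'N1] at h3
      exact h3
    have h4 : Nat.card Z * Z.relIndex E' = Nat.card E' := by
      have h5 : Nat.card Z = Nat.card (Z.subgroupOf E') := (Nat.card_congr (subgroupOfEquivOfLe inf_le_right).toEquiv).symm
      rw [h5]
      exact (Z.subgroupOf E').card_mul_index
    rw [hsup] at h2
    rw [h1, ← h2] at h4
    have h6 : E.relIndex N1 = p := hE.idx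
    rw [h6] at h4
    rw [hcard1, ← h4]
    ring
  have hZcard : Nat.card E = Nat.card Z * p := by
    rw [hcardE', hcard1] at hcardZ
    have h1 : Nat.card E * (p * Nat.card Z) = Nat.card E * Nat.card E := by rw [← hcardZ]; ring
    have h2 := Nat.eq_of_mul_eq_mul_left Nat.card_pos h1
    rw [← h2, mul_comm]
  -- pass to the group `N2 / Z`
  set Z' := Z.subgroupOf N2 with hZ'
  haveI hZ'n : Z'.Normal := by
    refine ⟨fun z hz g => ?_⟩
    rw [hZ', mem_subgroupOf] at hz ⊢
    exact hZN2 g g.2 z hz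
  set N1' := (N1.subgroupOf N2).map (QuotientGroup.mk' Z') with hN1'
  haveI : (N1.subgroupOf N2).Normal := normal_subgroupOf_of_le_normalizer le_rfl
  haveI : N1'.Normal := Subgroup.Normal.map inferInstance _ (QuotientGroup.mk'_surjective Z')
  have hN1'card : Nat.card N1' = p ^ 2 := by
    have h1 : Nat.card N1' = Z'.relIndex (N1.subgroupOf N2) := by
      rw [← relIndex_bot_left, hN1', ← relIndex_comap, MonoidHom.comap_bot, QuotientGroup.ker_mk']
    rw [h1, hZ', relIndex_subgroupOf hN12]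
    have h3 : Nat.card Z * Z.relIndex N1 = Nat.card N1 := by
      have h5 : Nat.card Z = Nat.card (Z.subgroupOf N1) := (Nat.card_congr (subgroupOfEquivOfLe hZN1).toEquiv).symm
      rw [h5]
      exact (Z.subgroupOf N1).card_mul_index
    rw [hcard1, hZcard] at h3
    have h4 : Nat.card Z * Z.relIndex N1 = Nat.card Z * p ^ 2 := by rw [h3]; ring
    exact Nat.eq_of_mul_eq_mul_left Nat.card_pos h4
  obtain ⟨e, heE, heZ⟩ : ∃ e ∈ E, e ∉ Z := by
    by_contra hcon
    push Not at hcon
    have h1 : Nat.card E ≤ Nat.card Z := Nat.le_of_dvd Nat.card_pos (card_dvd_of_le hcon)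
    rw [hZcard] at h1
    have h2 : 0 < Nat.card Z := Nat.card_pos
    have h3 := hp.out.one_lt
    nlinarith
  have heN2 : e ∈ N2 := hN12 (hEN1 heE)
  set e' : N2 ⧸ Z' := QuotientGroup.mk' Z' ⟨e, heN2⟩ with he'
  have he'1 : e' ≠ 1 := by
    intro h
    have h1 : (⟨e, heN2⟩ : N2) ∈ Z' := (QuotientGroup.eq_one_iff _).1 h
    exact heZ (mem_subgroupOf.1 h1)
  have he'N : e' ∈ N1' := ⟨⟨e, heN2⟩, mem_subgroupOf.2 (hEN1 heE), rfl⟩
  have hle := index_cent_le ((hP.to_subgroup N2).to_quotient Z') N1' hN1'card he'N he'1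
  -- the centralizer is in `N1`
  have hC : (centralizer ({e'} : Set (N2 ⧸ Z'))).comap (QuotientGroup.mk' Z') ≤ N1.subgroupOf N2 := by
    intro g hg
    rw [mem_comap, mem_centralizer_singleton_iff, he', ← map_mul, ← map_mul] at hg
    rw [mem_subgroupOf]
    have h1 : (g * ⟨e, heN2⟩)⁻¹ * (⟨e, heN2⟩ * g) ∈ Z' := by
      rw [← QuotientGroup.eq_one_iff]
      show QuotientGroup.mk' Z' _ = 1
      rw [map_mul, map_inv, hg, inv_mul_cancel]
    rw [hZ', mem_subgroupOf] at h1
    have h2 : ((g : P) * e)⁻¹ * (e * g) ∈ Z := h1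
    -- `g e g⁻¹ ∈ E`
    have h3 : (g : P) * e * (g : P)⁻¹ ∈ E := by
      have h4 : (g : P) * e * (g : P)⁻¹ = e * ((g : P) * (((g : P) * e)⁻¹ * (e * g))⁻¹ * (g : P)⁻¹) := by group
      rw [h4]
      exact E.mul_mem heE (hZN2 g g.2 _ (inv_mem h2)).1
    -- `E = Z ⊔ ⟨e⟩`
    have h5 : Z ⊔ zpowers e = E := by
      have h6 : Z.relIndex E = p := by
        have h7 : Nat.card Z * Z.relIndex E = Nat.card E := by
          have h5 : Nat.card Z = Nat.card (Z.subgroupOf E) := (Nat.card_congr (subgroupOfEquivOfLe inf_le_left).toEquiv).symm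
          rw [h5]
          exact (Z.subgroupOf E).card_mul_index
        rw [hZcard] at h7
        exact Nat.eq_of_mul_eq_mul_left Nat.card_pos h7
      rcases eq_of_prime (p := p) (le_sup_left : Z ≤ Z ⊔ zpowers e) (sup_le inf_le_left (by rw [zpowers_le]; exact heE)) h6 with h | h
      · exfalso
        apply heZ
        rw [← h]
        exact (le_sup_right : zpowers e ≤ _) (mem_zpowers e)
      · exact h
    have h6 : E.map (MulAut.conj (g : P)).toMonoidHom ≤ E := by
      rw [map_le_iff_le_comap]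
      have h7 : Z ⊔ zpowers e ≤ E.comap (MulAut.conj (g : P)).toMonoidHom := by
        rw [sup_le_iff, zpowers_le]
        exact ⟨fun z hz => (hZN2 g g.2 z hz).1, h3⟩
      rw [h5] at h7
      exact h7
    have h7 : E.map (MulAut.conj (g : P)).toMonoidHom = E := eq_of_le_of_card_ge h6 (by
      rw [Subgroup.card_map_of_injective (MulAut.conj (g : P)).injective])
    rw [hN1, mem_normalizer_iff]
    intro x
    constructor
    · intro hx
      exact h6 ⟨x, hx, rfl⟩
    · intro hx
      rw [← h7] at hx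
      obtain ⟨x', hx', hxx⟩ := hx
      have h8 : (g : P) * x' * (g : P)⁻¹ = g * x * (g : P)⁻¹ := hxx
      have h9 : x' = x := mul_left_cancel (mul_right_cancel h8)
      rw [← h9]; exact hx'
  have h1 : N1.relIndex N2 ≤ p := by
    calc N1.relIndex N2 ≤ ((centralizer ({e'} : Set (N2 ⧸ Z'))).comap (QuotientGroup.mk' Z')).index :=
          Nat.le_of_dvd (Nat.pos_of_ne_zero Subgroup.index_ne_zero_of_finite) (index_dvd_of_le hC)
      _ = (centralizer ({e'} : Set (N2 ⧸ Z'))).index := index_comap_of_surjective _ (QuotientGroup.mk'_surjective Z')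
      _ ≤ p := hle
  obtain ⟨j, hj⟩ := relIndex_pow hP N1 N2
  have hj0 : j ≠ 0 := by
    rintro rfl
    rw [pow_zero] at hj
    exact hlt.not_ge (relIndex_eq_one.1 hj)
  rw [hj] at h1 ⊢
  have h2 : j ≤ 1 := (Nat.pow_le_pow_iff_right hp.out.one_lt).1 (by rw [pow_one]; exact h1)
  have h3 : j = 1 := by omega
  rw [h3, pow_one]

end Basic

end CfsgLib.Soft
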