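import Cfsg.Agent.LibSoft

set_option autoImplicit false

/-!
Soft subgroups of `p`-groups (Héthelyi), part 2 (helper4).
-/

namespace CfsgLib.Soft

open Subgroup
open scoped commutatorElement

universe u

theorem main (p : ℕ) [hp : Fact p.Prime] (n : ℕ) : ∀ (P : Type u) [Group P] [Finite P], Nat.card P = n → IsPGroup p P →
    ∀ E : Subgroup P, IsSoft p E → Good p E := by
  induction n using Nat.strong_induction_on with
  | _ n ih =>
    intro P _ _ hn hP E hE
    classical
    set N1 := normalizer (E : Set P) with hN1
    have hEN1 : E ≤ N1 := le_normalizer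
    by_cases hNt : N1 = ⊤
    · -- `E` has index `p`
      have hEi : E.index = p := by
        have := hE.idx
        rw [← hN1, hNt, relIndex_top_right] at this
        exact this
      have hbet : ∀ K : Subgroup P, E ≤ K → K = E ∨ K = ⊤ := fun K hK =>
        eq_of_prime (p := p) hK le_top (by rw [relIndex_top_right, hEi])
      refine ⟨?_, ?_, ?_⟩
      · intro K L hK hL
        rcases hbet K hK with h | h
        · left; rw [h]; exact hL
        · right; rw [h]; exact le_top
      · intro K hK hK1
        rcases hbet K hK with h | h
        · rw [h]; exact hE.idx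
        · exact absurd h hK1
      · intro M m hM hMi hEm
        have hME : M = E := by
          rcases hbet M hM with h | h
          · exact h
          · rw [h, index_top] at hMi
            exact absurd hMi.symm hp.out.one_lt.ne'
        have hm : m = 1 := by
          rw [hEi] at hEm
          have h1 : p ^ 1 = p ^ m := by rw [pow_one]; exact hEm
          exact (Nat.pow_right_injective hp.out.two_le h1).symm
        rw [hm, hME, Subgroup.lowerCentralSeries_succ, Subgroup.lowerCentralSeries_zero, eq_bot_iff, commutator_le]
        intro a ha b hb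
        rw [mem_bot, commutatorElement_eq_one_iff_mul_comm]
        exact hE.ab a ha b hb
    -- the general case
    haveI hPn : Nontrivial P := by
      by_contra hcon
      rw [not_nontrivial_iff_subsingleton] at hcon
      exact hNt (Subsingleton.elim _ _)
    haveI : Nontrivial (center P) := hP.center_nontrivial
    obtain ⟨z, hz⟩ := exists_prime_orderOf_dvd_card' (G := center P) p (by
      obtain ⟨m, hm⟩ := IsPGroup.iff_card.1 (hP.to_subgroup (center P))
      rw [hm]
      apply dvd_pow_self
      rintro rfl
      rw [pow_zero] at hm
      exact Finite.one_lt_card.ne' hm)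
    set Z0 := zpowers (z : P) with hZ0
    have hZ0c : Z0 ≤ center P := by rw [hZ0, zpowers_le]; exact z.2
    have hZ0card : Nat.card Z0 = p := by
      rw [hZ0, Nat.card_zpowers, orderOf_coe, hz]
    haveI hZ0n : Z0.Normal := by
      refine ⟨fun w hw g => ?_⟩
      rw [mem_center_iff.1 (hZ0c hw) g, mul_inv_cancel_right]
      exact hw
    have hZ0E : Z0 ≤ E := by
      intro x hx
      apply hE.cen
      rw [mem_centralizer_iff]
      intro e _
      exact (mem_center_iff.1 (hZ0c hx) e)
    set π := QuotientGroup.mk' Z0 with hπ
    have hsurj : Function.Surjective π := QuotientGroup.mk'_surjective Z0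
    have hcm : ∀ K : Subgroup P, E ≤ K → (K.map π).comap π = K := by
      intro K hK
      rw [comap_map_eq, hπ, QuotientGroup.ker_mk', sup_eq_left]
      exact hZ0E.trans hK
    have hmle : ∀ K L : Subgroup P, E ≤ K → E ≤ L → K.map π ≤ L.map π → K ≤ L := by
      intro K L hK hL h
      rw [← hcm K hK, ← hcm L hL]
      exact comap_mono h
    have hnorm : ∀ K : Subgroup P, E ≤ K → normalizer ((K.map π : Subgroup _) : Set (P ⧸ Z0)) = (normalizer (K : Set P)).map π := by
      intro K hK
      have h1 := comap_normalizer_eq_of_surjective (K.map π) hsurj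
      rw [hcm K hK] at h1
      rw [← h1, map_comap_eq_self_of_surjective hsurj]
    have hrel : ∀ K L : Subgroup P, E ≤ K → (K.map π).relIndex (L.map π) = K.relIndex L := by
      intro K L hK
      rw [← relIndex_comap, hcm K hK]
    have hidx : ∀ K : Subgroup P, E ≤ K → (K.map π).index = K.index := by
      intro K hK
      rw [← index_comap_of_surjective _ hsurj, hcm K hK]
    have htop : ∀ K : Subgroup P, E ≤ K → K.map π = ⊤ → K = ⊤ := by
      intro K hK h
      rw [← hcm K hK, h, comap_top]
    have hlt : Nat.card (P ⧸ Z0) < n := by
      have h1 := card_eq_card_quotient_mul_card_subgroup Z0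
      rw [hn, hZ0card] at h1
      rw [h1]
      exact lt_mul_of_one_lt_right Nat.card_pos hp.out.one_lt
    have hPq : IsPGroup p (P ⧸ Z0) := hP.to_quotient Z0
    -- commutators with `Z0`
    have hlcs : ∀ (M : Subgroup P) (m : ℕ), (M.map π).lowerCentralSeries m = ⊥ → M.lowerCentralSeries m ≤ Z0 := by
      intro M m h
      rw [← map_lowerCentralSeries, Subgroup.map_eq_bot_iff, hπ, QuotientGroup.ker_mk'] at h
      exact h
    by_cases hA : centralizer ((E.map π : Subgroup _) : Set (P ⧸ Z0)) ≤ E.map π
    · -- case A
      have hsoft : IsSoft p (E.map π) := by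
        refine ⟨?_, hA, ?_⟩
        · rintro _ ⟨a, ha, rfl⟩ _ ⟨b, hb, rfl⟩
          rw [← map_mul, ← map_mul, hE.ab a ha b hb]
        · rw [hnorm E le_rfl, hrel E _ le_rfl]
          exact hE.idx
      have hgood := ih _ hlt (P ⧸ Z0) rfl hPq _ hsoft
      have htot : ∀ K L : Subgroup P, E ≤ K → E ≤ L → K ≤ L ∨ L ≤ K := by
        intro K L hK hL
        rcases hgood.tot (K.map π) (L.map π) (map_mono hK) (map_mono hL) with h | h
        · exact Or.inl (hmle K L hK hL h)
        · exact Or.inr (hmle L K hL hK h)
      have hstep : ∀ K : Subgroup P, E ≤ K → K ≠ ⊤ → K.relIndex (normalizer (K : Set P)) = p := by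
        intro K hK hK1
        rw [← hrel K _ hK, ← hnorm K hK]
        exact hgood.step _ (map_mono hK) (fun h => hK1 (htop K hK h))
      refine ⟨htot, hstep, ?_⟩
      intro M m hM hMi hEm
      have hM1 : M ≠ ⊤ := by
        rintro rfl
        rw [index_top] at hMi
        exact hp.out.one_lt.ne hMi
      have hMn : M.Normal := by
        rw [← normalizer_eq_top_iff]
        have h1 := relIndex_mul_index (le_normalizer : M ≤ normalizer (M : Set P))
        rw [hstep M hM hM1, hMi] at h1
        have h2 : (normalizer (M : Set P)).index = 1 := Nat.eq_of_mul_eq_mul_left hp.out.pos (by rw [h1, mul_one])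
        exact index_eq_one.1 h2
      have hm0 : m ≠ 0 := by
        rintro rfl
        rw [pow_zero] at hEm
        have := index_eq_one.1 hEm
        apply hM1
        rw [eq_top_iff, ← this]
        exact hM
      obtain ⟨m', rfl⟩ := Nat.exists_eq_succ_of_ne_zero hm0
      have h1 := hlcs M (m' + 1) (hgood.cls (M.map π) (m' + 1) (map_mono hM) (by rw [hidx M hM]; exact hMi)
        (by rw [hidx E le_rfl]; exact hEm))
      -- `γ_m(M) ≤ E`
      have h2 : M.lowerCentralSeries m' ≤ E := by
        intro t ht
        have h3 : π t ∈ centralizer ((E.map π : Subgroup _) : Set (P ⧸ Z0)) := by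
          rw [mem_centralizer_iff]
          rintro _ ⟨e, he, rfl⟩
          have h4 : ⁅t, e⁆ ∈ Z0 := h1 (by
            rw [Subgroup.lowerCentralSeries_succ]
            exact commutator_mem_commutator ht (hM he))
          have h5 : π ⁅t, e⁆ = 1 := (QuotientGroup.eq_one_iff _).2 h4
          rw [map_commutatorElement, commutatorElement_eq_one_iff_mul_comm] at h5
          exact h5.symm
        have h4 := hA h3
        have h5 : t ∈ (E.map π).comap π := h4
        rwa [hcm E le_rfl] at h5
      haveI hγn : (M.lowerCentralSeries m').Normal := by
        have hall : ∀ k, (M.lowerCentralSeries k).Normal := by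
          intro k
          induction k with
          | zero => exact hMn
          | succ k ihk =>
            rw [Subgroup.lowerCentralSeries_succ]
            haveI := ihk
            infer_instance
        exact hall m'
      -- the normal closure of `E` is `M`
      have hcl : M ≤ normalClosure (E : Set P) := by
        have h3 : E ≤ normalClosure (E : Set P) := le_normalClosure
        have h4 : normalClosure (E : Set P) ≤ M := normalClosure_le_normal hM
        have h5 : normalClosure (E : Set P) ≠ ⊤ := fun h => hM1 (eq_top_iff.2 (h ▸ h4))
        have h6 := hstep _ h3 h5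
        rw [normalizer_eq_top, relIndex_top_right] at h6
        have h7 : Nat.card (normalClosure (E : Set P)) = Nat.card M := by
          have h8 := (normalClosure (E : Set P)).card_mul_index
          have h9 := M.card_mul_index
          rw [h6] at h8
          rw [hMi, ← h8] at h9
          exact (Nat.eq_of_mul_eq_mul_right hp.out.pos h9).symm
        exact (eq_of_le_of_card_ge h4 h7.ge).ge
      rw [eq_bot_iff, Subgroup.lowerCentralSeries_succ, commutator_le]
      intro t ht u hu
      rw [mem_bot, commutatorElement_eq_one_iff_mul_comm]
      have h3 : normalClosure (E : Set P) ≤ centralizer ({t} : Set P) := by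
        rw [normalClosure, closure_le]
        intro w hw
        rw [Group.mem_conjugatesOfSet_iff] at hw
        obtain ⟨e, he, hew⟩ := hw
        obtain ⟨g, rfl⟩ := isConj_iff.1 hew
        rw [SetLike.mem_coe, mem_centralizer_singleton_iff]
        have h4 : g⁻¹ * t * g ∈ E := h2 (by
          have := hγn.conj_mem t ht g⁻¹
          rwa [inv_inv] at this)
        have h5 := hE.ab e he _ h4
        calc g * e * g⁻¹ * t = g * (e * (g⁻¹ * t * g)) * g⁻¹ := by group
          _ = g * ((g⁻¹ * t * g) * e) * g⁻¹ := by rw [h5]
          _ = _ := by group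
      exact (mem_centralizer_singleton_iff.1 (h3 (hcl hu))).symm
    · -- case B
      obtain ⟨c, hc, hcE⟩ := SetLike.not_le_iff_exists.1 hA
      have hcN : c ∈ N1.map π := by
        rw [← hnorm E le_rfl]
        exact centralizer_le_normalizer _ hc
      have hEi : (E.map π).relIndex (N1.map π) = p := by
        rw [hrel E _ le_rfl]; exact hE.idx
      have hsup : E.map π ⊔ zpowers c = N1.map π := by
        rcases eq_of_prime (p := p) (le_sup_left : E.map π ≤ E.map π ⊔ zpowers c)
          (sup_le (map_mono hEN1) (by rw [zpowers_le]; exact hcN)) hEi with h | h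
        · exfalso
          apply hcE
          rw [← h]
          exact (le_sup_right : zpowers c ≤ _) (mem_zpowers c)
        · exact h
      have hEab : ∀ a ∈ E.map π, ∀ b ∈ E.map π, a * b = b * a := by
        rintro _ ⟨a, ha, rfl⟩ _ ⟨b, hb, rfl⟩
        rw [← map_mul, ← map_mul, hE.ab a ha b hb]
      have hcc : ∀ a ∈ E.map π, a * c = c * a := fun a ha => mem_centralizer_iff.1 hc a ha
      have hNab : ∀ a ∈ N1.map π, ∀ b ∈ N1.map π, a * b = b * a := by
        have h1 : ∀ a ∈ N1.map π, (∀ b ∈ E.map π, b * a = a * b) ∧ c * a = a * c := by
          intro a ha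
          have h2 : N1.map π ≤ centralizer ((E.map π : Subgroup _) : Set (P ⧸ Z0)) ⊓ centralizer ({c} : Set (P ⧸ Z0)) := by
            rw [← hsup, sup_le_iff, zpowers_le]
            refine ⟨fun x hx => mem_inf.2 ⟨mem_centralizer_iff.2 fun b hb => hEab b hb x hx,
              mem_centralizer_singleton_iff.2 (hcc x hx)⟩, mem_inf.2 ⟨hc, mem_centralizer_singleton_iff.2 rfl⟩⟩
          have h3 := mem_inf.1 (h2 ha)
          exact ⟨fun b hb => mem_centralizer_iff.1 h3.1 b hb, (mem_centralizer_singleton_iff.1 h3.2).symm⟩
        intro a ha b hb
        have h2 : N1.map π ≤ centralizer ({a} : Set (P ⧸ Z0)) := by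
          rw [← hsup, sup_le_iff, zpowers_le]
          exact ⟨fun x hx => mem_centralizer_singleton_iff.2 ((h1 a ha).1 x hx), mem_centralizer_singleton_iff.2 (h1 a ha).2⟩
        exact (mem_centralizer_singleton_iff.1 (h2 hb)).symm
      have hstepS := stepS hP hE hNt
      have hsoft : IsSoft p (N1.map π) := by
        refine ⟨hNab, ?_, ?_⟩
        · intro x hx
          have h1 : x ∈ centralizer ((E.map π : Subgroup _) : Set (P ⧸ Z0)) :=
            centralizer_le (by exact_mod_cast (map_mono hEN1 : E.map π ≤ N1.map π)) hx
          rw [← hnorm E le_rfl]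
          exact centralizer_le_normalizer _ h1
        · rw [hnorm N1 hEN1, hrel N1 _ hEN1]
          exact hstepS
      have hgood := ih _ hlt (P ⧸ Z0) rfl hPq _ hsoft
      -- subgroups strictly containing `E` contain `N1`
      have hbig : ∀ K : Subgroup P, E ≤ K → K = E ∨ N1 ≤ K := by
        intro K hK
        by_cases hKE : K = E
        · exact Or.inl hKE
        right
        have hKp : IsPGroup p K := hP.to_subgroup K
        have h1 : E.subgroupOf K ≠ ⊤ := by
          intro h
          exact hKE (le_antisymm (subgroupOf_eq_top.1 h) hK)
        have h2 := lt_norm hKp h1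
        obtain ⟨x, hx, hxE⟩ := SetLike.exists_of_lt h2
        rw [mem_subgroupOf] at hxE
        have hxN : (x : P) ∈ N1 := by
          rw [hN1, mem_normalizer_iff]
          intro y
          constructor
          · intro hy
            exact mem_subgroupOf.1 ((mem_normalizer_iff.1 hx ⟨y, hK hy⟩).1 (mem_subgroupOf.2 hy))
          · intro hy
            have hyK : y ∈ K := by
              have : y = (x : P)⁻¹ * ((x : P) * y * (x : P)⁻¹) * x := by group
              rw [this]
              exact K.mul_mem (K.mul_mem (K.inv_mem x.2) (hK hy)) x.2
            exact mem_subgroupOf.1 ((mem_normalizer_iff.1 hx ⟨y, hyK⟩).2 (mem_subgroupOf.2 hy))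
        rcases eq_of_prime (p := p) (le_inf hK hEN1 : E ≤ K ⊓ N1) inf_le_right hE.idx with h | h
        · exfalso
          apply hxE
          rw [← h]
          exact mem_inf.2 ⟨x.2, hxN⟩
        · rw [← h]; exact inf_le_left
      refine ⟨?_, ?_, ?_⟩
      · intro K L hK hL
        rcases hbig K hK with h | h
        · left; rw [h]; exact hL
        · rcases hbig L hL with h' | h'
          · right; rw [h']; exact hK
          · rcases hgood.tot (K.map π) (L.map π) (map_mono h) (map_mono h') with h3 | h3
            · exact Or.inl (hmle K L hK hL h3)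
            · exact Or.inr (hmle L K hL hK h3)
      · intro K hK hK1
        rcases hbig K hK with h | h
        · rw [h]; exact hE.idx
        · rw [← hrel K _ hK, ← hnorm K hK]
          exact hgood.step _ (map_mono h) (fun h' => hK1 (htop K hK h'))
      · intro M m hM hMi hEm
        have hEi' : E.index = p * N1.index := by
          have h1 := relIndex_mul_index hEN1
          rw [hE.idx] at h1
          exact h1.symm
        have hN1M : N1 ≤ M := by
          rcases hbig M hM with h | h
          · exfalso
            apply hNt
            rw [h, hEi'] at hMi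
            have h2 : N1.index = 1 := Nat.eq_of_mul_eq_mul_left hp.out.pos (by rw [hMi, mul_one])
            exact index_eq_one.1 h2
          · exact h
        have hm0 : m ≠ 0 := by
          rintro rfl
          rw [pow_zero, hEi'] at hEm
          exact hp.out.one_lt.ne' (Nat.eq_one_of_mul_eq_one_right hEm)
        obtain ⟨m', rfl⟩ := Nat.exists_eq_succ_of_ne_zero hm0
        have hN1i : N1.index = p ^ m' := by
          rw [hEi', Nat.succ_eq_add_one, pow_succ'] at hEm
          exact Nat.eq_of_mul_eq_mul_left hp.out.pos hEm
        have h1 := hlcs M m' (hgood.cls (M.map π) m' (map_mono hN1M) (by rw [hidx M hM]; exact hMi)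
          (by rw [hidx N1 hEN1]; exact hN1i))
        rw [eq_bot_iff, Nat.succ_eq_add_one, Subgroup.lowerCentralSeries_succ, commutator_le]
        intro t ht u _
        rw [mem_bot, commutatorElement_eq_one_iff_mul_comm]
        exact (mem_center_iff.1 (hZ0c (h1 ht)) u).symm

end CfsgLib.Soft
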