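import Mathlib
import Cfsg.Agent.LibCQH13
import Cfsg.Agent.LibHomg2H13

set_option autoImplicit false

open Module Polynomial Matrix

namespace CfsgLib.SpBlk

variable {F : Type*} [Field F]

/-- the regrouping of indices -/
def eb (a b : ℕ) : (Fin a ⊕ Fin a) ⊕ (Fin b ⊕ Fin b) ≃ Fin (a + b) ⊕ Fin (a + b) :=
  (Equiv.sumSumSumComm _ _ _ _).trans (Equiv.sumCongr finSumFinEquiv finSumFinEquiv)

theorem J_eb (a b : ℕ) (u v : (Fin a ⊕ Fin a) ⊕ (Fin b ⊕ Fin b)) :
    Matrix.J (Fin (a + b)) F (eb a b u) (eb a b v) = Matrix.fromBlocks (Matrix.J (Fin a) F) 0 0 (Matrix.J (Fin b) F) u v := by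
  rcases u with (u | u) | (u | u) <;> rcases v with (v | v) | (v | v) <;>
    simp [eb, Matrix.J, Matrix.one_apply, Matrix.fromBlocks, Fin.ext_iff]
  all_goals omega

/-- block diagonal embedding -/
noncomputable def blk (a b : ℕ) : Matrix.symplecticGroup (Fin a) F × Matrix.symplecticGroup (Fin b) F →* Matrix.symplecticGroup (Fin (a + b)) F where
  toFun x := ⟨Matrix.reindexAlgEquiv F F (eb a b) (Matrix.fromBlocks x.1.1 0 0 x.2.1), by
    rw [SymplecticGroup.mem_iff]
    have hJ : Matrix.J (Fin (a + b)) F = Matrix.reindexAlgEquiv F F (eb a b) (Matrix.fromBlocks (Matrix.J (Fin a) F) 0 0 (Matrix.J (Fin b) F)) := by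
      ext i j
      obtain ⟨i, rfl⟩ := (eb a b).surjective i
      obtain ⟨j, rfl⟩ := (eb a b).surjective j
      rw [J_eb, Matrix.reindexAlgEquiv_apply, Matrix.reindex_apply, Matrix.submatrix_apply, Equiv.symm_apply_apply, Equiv.symm_apply_apply]
    have hT : ∀ M : Matrix ((Fin a ⊕ Fin a) ⊕ (Fin b ⊕ Fin b)) ((Fin a ⊕ Fin a) ⊕ (Fin b ⊕ Fin b)) F,
        (Matrix.reindexAlgEquiv F F (eb a b) M)ᵀ = Matrix.reindexAlgEquiv F F (eb a b) Mᵀ := fun M => rfl
    rw [hJ, hT, ← map_mul, ← map_mul, Matrix.fromBlocks_transpose, Matrix.fromBlocks_multiply, Matrix.fromBlocks_multiply]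
    have h1 := SymplecticGroup.mem_iff.mp x.1.2
    have h2 := SymplecticGroup.mem_iff.mp x.2.2
    simp only [Matrix.zero_mul, Matrix.mul_zero, add_zero, zero_add, Matrix.transpose_zero, h1, h2]⟩
  map_one' := by
    apply Subtype.ext
    show Matrix.reindexAlgEquiv F F (eb a b) (Matrix.fromBlocks 1 0 0 1) = 1
    rw [Matrix.fromBlocks_one, map_one]
  map_mul' x y := by
    apply Subtype.ext
    show Matrix.reindexAlgEquiv F F (eb a b) (Matrix.fromBlocks (x.1.1 * y.1.1) 0 0 (x.2.1 * y.2.1)) =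
      Matrix.reindexAlgEquiv F F (eb a b) (Matrix.fromBlocks x.1.1 0 0 x.2.1) * Matrix.reindexAlgEquiv F F (eb a b) (Matrix.fromBlocks y.1.1 0 0 y.2.1)
    rw [← map_mul, Matrix.fromBlocks_multiply]
    simp only [Matrix.zero_mul, Matrix.mul_zero, add_zero, zero_add]

theorem blk_injective (a b : ℕ) : Function.Injective (blk (F := F) a b) := by
  intro x y h
  have h1 : Matrix.reindexAlgEquiv F F (eb a b) (Matrix.fromBlocks x.1.1 0 0 x.2.1) = Matrix.reindexAlgEquiv F F (eb a b) (Matrix.fromBlocks y.1.1 0 0 y.2.1) := congrArg Subtype.val h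
  have h2 := (Matrix.reindexAlgEquiv F F (eb a b)).injective h1
  rw [Matrix.fromBlocks_inj] at h2
  exact Prod.ext (Subtype.ext h2.1) (Subtype.ext h2.2.2.2)

/-- intertwining polynomials -/
theorem aeval_intertwine {ι : Type*} [Fintype ι] [DecidableEq ι] (X Y P : Matrix ι ι F) (h : X * P = P * Y) (g : F[X]) : aeval X g * P = P * aeval Y g := by
  induction g using Polynomial.induction_on' with
  | add p q hp hq => rw [map_add, map_add, add_mul, mul_add, hp, hq]
  | monomial n a =>
    rw [aeval_monomial, aeval_monomial]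
    have h1 : X ^ n * P = P * Y ^ n := by
      induction n with
      | zero => rw [pow_zero, pow_zero, one_mul, mul_one]
      | succ n ih => rw [pow_succ, mul_assoc, h, ← mul_assoc, ih, mul_assoc, ← pow_succ]
    rw [mul_assoc, h1, ← mul_assoc, Algebra.commutes, mul_assoc]

theorem aeval_transpose {ι : Type*} [Fintype ι] [DecidableEq ι] (X : Matrix ι ι F) (g : F[X]) : aeval Xᵀ g = (aeval X g)ᵀ := by
  induction g using Polynomial.induction_on' with
  | add p q hp hq => rw [map_add, map_add, Matrix.transpose_add, hp, hq]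
  | monomial n a =>
    rw [aeval_monomial, aeval_monomial, Matrix.transpose_mul, Matrix.transpose_pow]
    have h1 : (algebraMap F (Matrix ι ι F) a)ᵀ = algebraMap F (Matrix ι ι F) a := by
      rw [Matrix.algebraMap_eq_diagonal, Matrix.diagonal_transpose]
    rw [h1, Algebra.commutes]

/-- adjoints of polynomials in symplectic matrices -/
theorem adj {n : ℕ} (B B' : Matrix (Fin n ⊕ Fin n) (Fin n ⊕ Fin n) F) (hB : B ∈ Matrix.symplecticGroup (Fin n) F) (hBB : B' * B = 1) (g : F[X]) (hg : aeval B g = 0) :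
    aeval B' g = 0 := by
  have h1 := SymplecticGroup.mem_iff.mp hB
  have h2 : B' * Matrix.J (Fin n) F = Matrix.J (Fin n) F * Bᵀ := by
    calc B' * Matrix.J (Fin n) F = B' * (B * Matrix.J (Fin n) F * Bᵀ) := by rw [h1]
      _ = (B' * B) * Matrix.J (Fin n) F * Bᵀ := by simp only [mul_assoc]
      _ = Matrix.J (Fin n) F * Bᵀ := by rw [hBB, one_mul]
  have h3 := aeval_intertwine B' Bᵀ _ h2 g
  rw [aeval_transpose, hg, Matrix.transpose_zero, mul_zero] at h3
  calc aeval B' g = -(aeval B' g * Matrix.J (Fin n) F * Matrix.J (Fin n) F) := by rw [mul_assoc, Matrix.J_squared, mul_neg, mul_one, neg_neg]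
    _ = 0 := by rw [h3, zero_mul, neg_zero]

end CfsgLib.SpBlk
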