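import Cfsg.Agent.LibSolvFrat
import Cfsg.Agent.LibSolvNilp
import Cfsg.Agent.LibThompson
import Cfsg.Agent.LibCollect
import Cfsg.Prelude.Def_Transfer

/-! Coprime automorphisms trivial on characteristic abelian subgroups -/

set_option autoImplicit false

namespace CfsgLib.SpecialCop

open Subgroup Cfsg
open scoped commutatorElement

universe u

variable {G : Type u} [Group G]

/-- if every characteristic abelian subgroup is central, the class is at most two -/
theorem commutator_le_center [Finite G] [Group.IsNilpotent G]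
    (h : ∀ H : Subgroup G, H.Characteristic → IsMulCommutative H → H ≤ center G) :
    commutator G ≤ center G := by
  by_contra hcon
  obtain ⟨x, hx, hxZ, hx2⟩ := CfsgLib.SolvNilp.exists_central_mod (center G) (commutator G) hcon
  -- the second centre
  have hZ2 : ∀ z ∈ Subgroup.upperCentralSeriesStep (center G), ∀ y ∈ commutator G, y * z = z * y := by
    intro z hz
    rw [Subgroup.mem_upperCentralSeriesStep] at hz
    have h1 : ∀ a b : G, ⁅a, b⁆ * z = z * ⁅a, b⁆ := by
      intro a b
      -- conjugation by z moves a and b by central elements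
      have ha : ∀ g, g * (z * a * z⁻¹ * a⁻¹) = (z * a * z⁻¹ * a⁻¹) * g := mem_center_iff.mp (hz a)
      have hb : ∀ g, g * (z * b * z⁻¹ * b⁻¹) = (z * b * z⁻¹ * b⁻¹) * g := mem_center_iff.mp (hz b)
      have e1 : z * a * z⁻¹ = (z * a * z⁻¹ * a⁻¹) * a := by group
      have e2 : z * b * z⁻¹ = (z * b * z⁻¹ * b⁻¹) * b := by group
      generalize z * a * z⁻¹ * a⁻¹ = u at *
      generalize z * b * z⁻¹ * b⁻¹ = v at *
      have e3 : z * ⁅a, b⁆ * z⁻¹ = ⁅a, b⁆ := by
        have : z * ⁅a, b⁆ * z⁻¹ = ⁅z * a * z⁻¹, z * b * z⁻¹⁆ := by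
          simp only [commutatorElement_def]; group
        rw [this, e1, e2, commutatorElement_def, commutatorElement_def]
        have hu : ∀ g, g * u = u * g := ha
        have hv : ∀ g, g * v = v * g := hb
        calc u * a * (v * b) * (u * a)⁻¹ * (v * b)⁻¹
            = u * (a * v) * b * a⁻¹ * (u⁻¹ * b⁻¹) * v⁻¹ := by group
          _ = u * v * (a * b * a⁻¹ * u⁻¹) * b⁻¹ * v⁻¹ := by rw [hv a]; group
          _ = u * v * (u⁻¹ * (a * b * a⁻¹)) * b⁻¹ * v⁻¹ := by
              have : a * b * a⁻¹ * u⁻¹ = u⁻¹ * (a * b * a⁻¹) :=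
                ((show Commute (a * b * a⁻¹) u from hu _).inv_right).eq
              rw [this]
          _ = (u * v) * u⁻¹ * (a * b * a⁻¹ * b⁻¹ * v⁻¹) := by group
          _ = (v * u) * u⁻¹ * (v⁻¹ * (a * b * a⁻¹ * b⁻¹)) := by
              have : a * b * a⁻¹ * b⁻¹ * v⁻¹ = v⁻¹ * (a * b * a⁻¹ * b⁻¹) :=
                ((show Commute (a * b * a⁻¹ * b⁻¹) v from hv _).inv_right).eq
              rw [this, hv u]
          _ = a * b * a⁻¹ * b⁻¹ := by group
      have e4 := mul_inv_eq_iff_eq_mul.mp e3
      exact e4.symm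
    intro y hy
    have h2 : commutator G ≤ centralizer ({z} : Set G) := by
      rw [_root_.commutator_def, commutator_le]
      intro a _ b _
      rw [mem_centralizer_singleton_iff]
      exact h1 a b
    exact (mem_centralizer_singleton_iff.mp (h2 hy))
  have hchar : (commutator G ⊓ Subgroup.upperCentralSeriesStep (center G)).Characteristic := by
    haveI : (Subgroup.upperCentralSeriesStep (center G)).Characteristic := inferInstance
    haveI : (commutator G).Characteristic := inferInstance
    infer_instance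
  have hcomm : IsMulCommutative (commutator G ⊓ Subgroup.upperCentralSeriesStep (center G) : Subgroup G) := by
    constructor
    constructor
    intro a b
    exact Subtype.ext (hZ2 b b.2.2 a a.2.1)
  apply hxZ
  apply h _ hchar hcomm
  refine ⟨hx, ?_⟩
  change x ∈ Subgroup.upperCentralSeriesStep (center G)
  rw [Subgroup.mem_upperCentralSeriesStep]
  exact hx2

theorem main [Finite G] {p : ℕ} [hp : Fact p.Prime] (hG : IsPGroup p G) (A : Subgroup (MulAut G))
    (hA : Nat.Coprime (Nat.card A) p)
    (hGA : Subgroup.closure {x : G | ∃ g : G, ∃ a ∈ A, x = g⁻¹ * a g} = ⊤)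
    (hchar : ∀ H : Subgroup G, H.Characteristic → IsMulCommutative H → ∀ a ∈ A, ∀ h ∈ H, a h = h) :
    IsSpecial p G ∧ (∀ g : G, (g ∈ Subgroup.center G ↔ ∀ a ∈ A, a g = g)) := by
  classical
  haveI : Group.IsNilpotent G := hG.isNilpotent
  haveI : Finite (MulAut G) := inferInstance
  haveI : Fintype A := Fintype.ofFinite A
  have hcen : ∀ H : Subgroup G, H.Characteristic → IsMulCommutative H → H ≤ center G := by
    intro D hD hDc d hd
    rw [mem_center_iff]
    have h1 : closure {x : G | ∃ g : G, ∃ a ∈ A, x = g⁻¹ * a g} ≤ centralizer ({d} : Set G) := by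
      rw [closure_le]
      rintro _ ⟨g, a, ha, rfl⟩
      rw [SetLike.mem_coe, mem_centralizer_singleton_iff]
      haveI := hD
      have h2 : a d = d := hchar D hD hDc a ha d hd
      have h3 : a (g * d * g⁻¹) = g * d * g⁻¹ := hchar D hD hDc a ha _ (Normal.conj_mem inferInstance d hd g)
      rw [map_mul, map_mul, map_inv, h2] at h3
      have h4 : a g * d = g * d * g⁻¹ * a g := mul_inv_eq_iff_eq_mul.mp h3
      calc g⁻¹ * a g * d = g⁻¹ * (a g * d) := by group
        _ = d * (g⁻¹ * a g) := by rw [h4]; group
    intro g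
    rw [hGA] at h1
    exact mem_centralizer_singleton_iff.mp (h1 (mem_top g))
  have hG' : commutator G ≤ center G := commutator_le_center hcen
  -- the trace on the abelianization
  have hAG : ∀ (a : MulAut G) (x : G), x ∈ commutator G ↔ a x ∈ commutator G :=
    fun a x => (CfsgLib.Thompson.char_invariant (inferInstance : (commutator G).Characteristic) a x).symm
  let π : G →* Abelianization G := Abelianization.of
  have hπ : ∀ x : G, π x = 1 ↔ x ∈ commutator G := by
    intro x
    rw [← MonoidHom.mem_ker, Abelianization.ker_of]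
  let T : G → Abelianization G := fun g => ∏ a : A, π ((a : MulAut G) g)
  have hTmul : ∀ g h, T (g * h) = T g * T h := by
    intro g h
    change ∏ a : A, π ((a : MulAut G) (g * h)) = _
    rw [← Finset.prod_mul_distrib]
    exact Finset.prod_congr rfl fun a _ => by rw [map_mul, map_mul]
  let T' : G →* Abelianization G := MonoidHom.mk' T hTmul
  have hT1 : ∀ g, T' g = 1 := by
    intro g
    have h1 : closure {x : G | ∃ g : G, ∃ a ∈ A, x = g⁻¹ * a g} ≤ T'.ker := by
      rw [closure_le]
      rintro _ ⟨g, a, ha, rfl⟩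
      rw [SetLike.mem_coe, MonoidHom.mem_ker, map_mul, map_inv, inv_mul_eq_one]
      change ∏ b : A, π ((b : MulAut G) g) = ∏ b : A, π ((b : MulAut G) (a g))
      symm
      apply Fintype.prod_bijective (fun b : A => b * ⟨a, ha⟩) (Group.mulRight_bijective _)
      intro b; rfl
    rw [hGA] at h1
    exact MonoidHom.mem_ker.mp (h1 (mem_top g))
  have hfix : ∀ g : G, (∀ a ∈ A, a g = g) → g ∈ commutator G := by
    intro g hg
    have h1 := hT1 g
    have h2 : T' g = π g ^ (Nat.card A) := by
      change ∏ a : A, π ((a : MulAut G) g) = _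
      rw [Finset.prod_congr rfl (g := fun _ => π g) (fun a _ => by rw [hg a a.2]), Finset.prod_const,
        Finset.card_univ, Nat.card_eq_fintype_card]
    rw [h2] at h1
    rw [← hπ]
    obtain ⟨k, hk⟩ := hG g
    have h3 : (π g) ^ (p ^ k) = 1 := by rw [← map_pow, hk, map_one]
    have h4 : Nat.Coprime (Nat.card A) (p ^ k) := hA.pow_right k
    have h5 : orderOf (π g) ∣ 1 := by
      rw [← Nat.coprime_iff_gcd_eq_one.mp h4]
      exact Nat.dvd_gcd (orderOf_dvd_of_pow_eq_one h1) (orderOf_dvd_of_pow_eq_one h3)
    exact orderOf_eq_one_iff.mp (Nat.dvd_one.mp h5)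
  have hZfix : ∀ g ∈ center G, ∀ a ∈ A, a g = g := fun g hg a ha =>
    hchar (center G) inferInstance inferInstance a ha g hg
  have hZG' : center G = commutator G :=
    le_antisymm (fun g hg => hfix g (hZfix g hg)) hG'
  have hZc : ∀ z ∈ commutator G, ∀ g, Commute z g := fun z hz g => (mem_center_iff.mp (hG' hz) g).symm
  have hcm : ∀ x y : G, ⁅x, y⁆ ∈ commutator G := fun x y => by
    rw [_root_.commutator_def]; exact commutator_mem_commutator (mem_top _) (mem_top _)
  -- `x ^ n` central for `n` a power of `p`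
  have hpow : ∀ e : ℕ, (∀ x : G, x ^ (p ^ (e + 1)) ∈ center G) → ∀ x : G, x ^ p ∈ center G := by
    intro e
    induction e with
    | zero => intro h x; simpa using h x
    | succ e ih =>
      intro h
      apply ih
      -- the subgroup generated by the `p ^ (e+1)`-th powers
      have hcomm : ∀ x y : G, Commute (x ^ (p ^ (e + 1))) (y ^ (p ^ (e + 1))) := by
        intro x y
        have h1 : x ^ (p ^ (e + 1)) * y = y * x ^ (p ^ (e + 1)) * ⁅x⁻¹, y⁻¹⁆ ^ (p ^ (e + 1)) := by
          have := CfsgLib.Collect.pow_mul_of₂ (x := y) (y := x) (c := ⁅x⁻¹, y⁻¹⁆) (e := 1)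
            (by rw [commutatorElement_def]; group) (by rw [(hZc _ (hcm _ _) x).eq, mul_one])
            (Commute.one_left _) (Commute.one_left _) (p ^ (e + 1))
          rwa [one_pow, mul_one] at this
        have h2 : ∀ n : ℕ, x ^ (p ^ (e + 1)) * y ^ n = y ^ n * x ^ (p ^ (e + 1)) * (⁅x⁻¹, y⁻¹⁆ ^ (p ^ (e + 1))) ^ n := by
          intro n
          set X := x ^ (p ^ (e + 1)) with hX
          set c := ⁅x⁻¹, y⁻¹⁆ ^ (p ^ (e + 1)) with hcdef
          have hc : ∀ g, Commute c g := fun g => (hZc _ (hcm _ _) g).pow_left _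
          induction n with
          | zero => simp
          | succ n ih =>
            calc X * y ^ (n + 1) = (X * y ^ n) * y := by rw [pow_succ]; group
              _ = y ^ n * X * (c ^ n * y) := by rw [ih]; group
              _ = y ^ n * (X * y) * c ^ n := by rw [((hc y).pow_left n).eq]; group
              _ = y ^ n * y * X * (c ^ n * c) := by rw [h1, ← pow_succ, pow_succ']; group
              _ = _ := by rw [← pow_succ, ← pow_succ]
        have h3 := h2 (p ^ (e + 1))
        have h4 : (⁅x⁻¹, y⁻¹⁆ ^ (p ^ (e + 1))) ^ (p ^ (e + 1)) = 1 := by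
          rw [← pow_mul, ← pow_add]
          have h5 : x ^ (p ^ (e + 1 + (e + 1))) ∈ center G := by
            have : p ^ (e + 1 + (e + 1)) = p ^ (e + 1 + 1) * p ^ e := by rw [← pow_add]; congr 1; ring
            rw [this, pow_mul]
            exact pow_mem (h x) _
          have h6 := CfsgLib.Collect.pow_mul_of₂ (x := y) (y := x) (c := ⁅x⁻¹, y⁻¹⁆) (e := 1)
            (by rw [commutatorElement_def]; group) (by rw [(hZc _ (hcm _ _) x).eq, mul_one])
            (Commute.one_left _) (Commute.one_left _) (p ^ (e + 1 + (e + 1)))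
          rw [one_pow, mul_one] at h6
          have h7 := mem_center_iff.mp h5 y
          rw [← h7] at h6
          exact (left_eq_mul.mp h6)
        rw [h4, mul_one] at h3
        exact h3
      intro x
      set D : Subgroup G := closure {y : G | ∃ x : G, y = x ^ (p ^ (e + 1))} with hD
      have hDchar : D.Characteristic := by
        rw [characteristic_iff_map_le]
        intro φ
        rw [hD, MonoidHom.map_closure, closure_le]
        rintro _ ⟨_, ⟨x, rfl⟩, rfl⟩
        apply Subgroup.subset_closure
        exact ⟨φ x, by simp⟩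
      have hDcomm : IsMulCommutative D := by
        apply isMulCommutative_closure
        rintro _ ⟨x, rfl⟩ _ ⟨y, rfl⟩
        exact hcomm x y
      exact hcen D hDchar hDcomm (Subgroup.subset_closure ⟨x, rfl⟩)
  have hp1 : ∀ x : G, x ^ p ∈ center G := by
    obtain ⟨k, hk⟩ := IsPGroup.iff_card.mp hG
    apply hpow k
    intro x
    have : x ^ (p ^ (k + 1)) = 1 := by
      rw [pow_succ, pow_mul, ← hk, pow_card_eq_one', one_pow]
    rw [this]; exact one_mem _
  refine ⟨⟨hG, ?_, hZG'.symm⟩, fun g => ⟨fun hg => hZfix g hg, fun hg => hG' (hfix g hg)⟩⟩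
  apply le_antisymm
  · exact CfsgLib.SolvFrat.frattini_le_of_elementary hp.out (center G) hG' hp1
  · rw [hZG']
    exact CfsgLib.SolvFrat.commutator_le_frattini hp.out hG

end CfsgLib.SpecialCop
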