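import Cfsg.Prelude.Def_SporCoxeter
set_option autoImplicit false
set_option linter.all false

/-! The subgroup of the presented Fi₂₄ on the letters l, k, a, b, c, d, e, f, h, i. -/

namespace Cfsg
namespace Spor

namespace Fi24Y

inductive Gen
  | l
  | k
  | a
  | b
  | c
  | d
  | e
  | f
  | h
  | i
  deriving DecidableEq

abbrev l : FreeGroup Gen := FreeGroup.of Gen.l
abbrev k : FreeGroup Gen := FreeGroup.of Gen.k
abbrev a : FreeGroup Gen := FreeGroup.of Gen.a
abbrev b : FreeGroup Gen := FreeGroup.of Gen.b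
abbrev c : FreeGroup Gen := FreeGroup.of Gen.c
abbrev d : FreeGroup Gen := FreeGroup.of Gen.d
abbrev e : FreeGroup Gen := FreeGroup.of Gen.e
abbrev f : FreeGroup Gen := FreeGroup.of Gen.f
abbrev h : FreeGroup Gen := FreeGroup.of Gen.h
abbrev i : FreeGroup Gen := FreeGroup.of Gen.i

def edges : List (Gen × ℕ × Gen) :=
  [(.l, 3, .k), (.k, 3, .a), (.a, 3, .b), (.b, 3, .c), (.c, 3, .d), (.d, 3, .e), (.d, 3, .h), (.e, 3, .f), (.h, 3, .i)]

def extra : List (FreeGroup Gen) := [
  l * (((a * b * c * d * e * f * h) ^ 9)⁻¹) ]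

end Fi24Y

abbrev Fi24Y : Type := CoxPresented Fi24Y.Gen Fi24Y.edges Fi24Y.extra

end Spor
end Cfsg
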