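import Cfsg.Statements.S2469
import Cfsg.Agent.LibSpBlkH13
import Cfsg.Agent.LibHomg3H13
import Cfsg.Agent.LibHc3H13
import Cfsg.Agent.LibH22SpOrder
import Cfsg.Agent.LibH22Sp3

set_option autoImplicit false
open Cfsg

namespace Cfsg.Agent.S2469

open Module Polynomial

theorem center_pow {F : Type*} [Field F] [Fintype F] {n : ℕ} (hn : 1 ≤ n) : ∀ z ∈ Subgroup.center (Matrix.symplecticGroup (Fin n) F), z ^ (Nat.gcd 2 (Fintype.card F - 1)) = 1 := by
  intro z hz
  have h1 : (⟨z, hz⟩ : Subgroup.center (Matrix.symplecticGroup (Fin n) F)) ^ (Nat.gcd 2 (Fintype.card F - 1)) = 1 := by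
    rw [← Cfsg.Agent.H22.card_center_sp hn]
    exact pow_card_eq_one'
  exact congrArg Subtype.val h1

theorem cop_r {F : Type*} [Field F] [Fintype F] {r : ℕ} (hr : r.Prime) (hr2 : r ≠ 2) : Nat.Coprime r (Nat.gcd 2 (Fintype.card F - 1)) :=
  Nat.Coprime.coprime_dvd_right (Nat.gcd_dvd_left _ _) ((Nat.coprime_primes hr Nat.prime_two).mpr hr2)

theorem exists_of_embed {G : Type*} [Group G] {m : ℕ} (hm : 0 < m) (f : (Fin 1 → Multiplicative (ZMod m)) →* G) (hf : Function.Injective f) : ∃ g : G, orderOf g = m := by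
  classical
  haveI : NeZero m := ⟨by omega⟩
  have hcard : Nat.card (Fin 1 → Multiplicative (ZMod m)) = m := by
    rw [Nat.card_fun, Nat.card_eq_fintype_card (α := Fin 1), Fintype.card_fin, pow_one]
    exact Nat.card_zmod m
  haveI : Finite (Multiplicative (ZMod m)) := inferInstance
  refine ⟨f (fun _ => Multiplicative.ofAdd 1), ?_⟩
  rw [orderOf_injective f hf]
  apply Nat.dvd_antisymm
  · exact (orderOf_dvd_natCard (G := Fin 1 → Multiplicative (ZMod m)) _).trans hcard.dvd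
  · set x : Fin 1 → Multiplicative (ZMod m) := fun _ => Multiplicative.ofAdd 1 with hx
    have h1 : x ^ orderOf x = 1 := pow_orderOf_eq_one x
    have h2 := congrFun h1 0
    rw [Pi.pow_apply] at h2
    have h3 : Multiplicative.toAdd ((Multiplicative.ofAdd (1 : ZMod m)) ^ orderOf x) = 0 := by
      show Multiplicative.toAdd (x 0 ^ orderOf x) = 0
      rw [h2]
      rfl
    rw [toAdd_pow, toAdd_ofAdd, nsmul_eq_mul, mul_one, ZMod.natCast_eq_zero_iff] at h3
    exact h3

theorem exists_sp {F : Type*} [Field F] [Fintype F] {r : ℕ} (hr : r.Prime) {m j : ℕ}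
    (hj1 : 1 ≤ j) (hjm : j ≤ m) (hrj : r ∣ Fintype.card F ^ (2 * j) - 1) : ∃ A : Matrix.symplecticGroup (Fin m) F, orderOf A = r := by
  classical
  haveI : Fact r.Prime := ⟨hr⟩
  have h1 : r ∣ Nat.card (Matrix.symplecticGroup (Fin m) F) := by
    rw [Cfsg.Agent.H22.card_sp]
    apply Dvd.dvd.mul_left
    have h2 := Finset.dvd_prod_of_mem (fun i => Fintype.card F ^ (2 * (i + 1)) - 1) (Finset.mem_range.mpr (show j - 1 < m by omega))
    refine dvd_trans hrj (dvd_trans ?_ h2)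
    show Fintype.card F ^ (2 * j) - 1 ∣ Fintype.card F ^ (2 * (j - 1 + 1)) - 1
    rw [Nat.sub_add_cancel hj1]
  exact exists_prime_orderOf_dvd_card' r h1

theorem dvd_sp {F : Type*} [Field F] [Fintype F] {r n : ℕ} (hr : r.Prime) (hrq : ¬ r ∣ Fintype.card F) (h : r ∣ Nat.card (Cfsg.PSp n F)) :
    ∃ j, 1 ≤ j ∧ j ≤ n ∧ r ∣ Fintype.card F ^ (2 * j) - 1 := by
  classical
  have h1 : r ∣ Nat.card (Matrix.symplecticGroup (Fin n) F) := h.trans (Subgroup.card_quotient_dvd_card _)
  rw [Cfsg.Agent.H22.card_sp, hr.dvd_mul, Prime.dvd_finsetProd_iff hr.prime] at h1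
  rcases h1 with h1 | ⟨i, hi, h1⟩
  · exact absurd (hr.dvd_of_dvd_pow h1) hrq
  · rw [Finset.mem_range] at hi
    exact ⟨i + 1, by omega, by omega, h1⟩

theorem odd_lemma {r q k j : ℕ} [Fact r.Prime] (hr2 : r ≠ 2) (hk : k = orderOf ((q : ℕ) : ZMod r)) (hk0 : 0 < k) (hj : r ∣ q ^ j + 1) : ∃ c u, k = 2 * c ∧ Odd u ∧ j = c * u := by
  have h1 : ((q : ℕ) : ZMod r) ^ j = -1 := by
    have h2 : ((q ^ j + 1 : ℕ) : ZMod r) = 0 := (ZMod.natCast_eq_zero_iff _ _).mpr hj
    push_cast at h2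
    exact eq_neg_of_add_eq_zero_left h2
  have hne : ¬ k ∣ j := by
    rw [hk, orderOf_dvd_iff_pow_eq_one, h1]
    intro h3
    have h4 : ((2 : ℕ) : ZMod r) = 0 := by
      have h5 : (1 : ZMod r) + 1 = 0 := by nth_rewrite 1 [← h3]; ring
      push_cast
      rw [← one_add_one_eq_two]
      exact h5
    rw [ZMod.natCast_eq_zero_iff] at h4
    exact hr2 ((Nat.prime_dvd_prime_iff_eq Fact.out Nat.prime_two).mp h4)
  have h2 : k ∣ 2 * j := by
    rw [hk, orderOf_dvd_iff_pow_eq_one, mul_comm, pow_mul, h1]; ring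
  rcases Nat.even_or_odd k with heven | hodd
  · obtain ⟨c, hc⟩ := heven
    obtain ⟨u, hu⟩ := h2
    have h3 : j = c * u := by
      have : 2 * j = 2 * (c * u) := by rw [hu, hc]; ring
      omega
    refine ⟨c, u, by omega, ?_, h3⟩
    by_contra hcon
    rw [Nat.not_odd_iff_even] at hcon
    obtain ⟨v, hv⟩ := hcon
    apply hne
    refine ⟨v, ?_⟩
    rw [h3, hv, hc]; ring
  · exact absurd (Nat.Coprime.dvd_of_dvd_mul_left (Nat.coprime_two_right.mpr hodd) h2) hne

theorem half_lemma {r q k c : ℕ} [Fact r.Prime] (hk : k = orderOf ((q : ℕ) : ZMod r)) (hk0 : 0 < k) (hc : 2 * c = k) : r ∣ q ^ c + 1 := by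
  rw [← ZMod.natCast_eq_zero_iff]
  push_cast
  have h1 : ((q : ZMod r) ^ c) ^ 2 = 1 := by rw [← pow_mul, mul_comm, hc, hk]; exact pow_orderOf_eq_one _
  have h2 : (q : ZMod r) ^ c ≠ 1 := by
    intro h
    have h3 := Nat.le_of_dvd (by omega) (orderOf_dvd_of_pow_eq_one h)
    rw [← hk] at h3
    omega
  have h4 : ((q : ZMod r) ^ c - 1) * ((q : ZMod r) ^ c + 1) = 0 := by
    have : ((q : ZMod r) ^ c - 1) * ((q : ZMod r) ^ c + 1) = ((q : ZMod r) ^ c) ^ 2 - 1 := by ring
    rw [this, h1, sub_self]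
  rcases mul_eq_zero.mp h4 with h3 | h3
  · exact absurd (sub_eq_zero.mp h3) h2
  · exact h3

/-- Adjacency of two odd primes in the prime graph of PSp(2n,q): let F be a finite field of characteristic p with q elements, n ≥ 2 with PSp(2n,F) simple, and let r ≠ s be odd primes different from p dividing the order of PSp(2n,F). Let k, l be the multiplicative orders of q modulo r and s, put η(m) = m for odd m and η(m) = m/2 for even m, and suppose η(k) ≤ η(l). Then PSp(2n,F) has NO element of order r·s if and only if η(k) + η(l) > n and l/k is not an odd integer. -/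
theorem result {F : Type*} [Field F] [Fintype F] (p : ℕ) [Fact p.Prime] [CharP F p] (n : ℕ) (hn : 2 ≤ n) (hsmall : n = 2 → 3 ≤ Fintype.card F)
    (r s : ℕ) (hr : r.Prime) (hs : s.Prime) (hr2 : r ≠ 2) (hs2 : s ≠ 2) (hrp : r ≠ p) (hsp : s ≠ p) (hrs : r ≠ s)
    (hrG : r ∣ Nat.card (Cfsg.PSp n F)) (hsG : s ∣ Nat.card (Cfsg.PSp n F))
    (k l ηk ηl : ℕ) (hk : k = orderOf ((Fintype.card F : ℕ) : ZMod r)) (hl : l = orderOf ((Fintype.card F : ℕ) : ZMod s))
    (hηk : (Odd k ∧ ηk = k) ∨ (Even k ∧ 2 * ηk = k)) (hηl : (Odd l ∧ ηl = l) ∨ (Even l ∧ 2 * ηl = l)) (hkl : ηk ≤ ηl) :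
    (r * s ∉ Set.range (orderOf : Cfsg.PSp n F → ℕ)) ↔ (n < ηk + ηl ∧ ¬ ∃ t : ℕ, Odd t ∧ l = k * t) := by
  classical
  haveI : Fact r.Prime := ⟨hr⟩
  haveI : Fact s.Prime := ⟨hs⟩
  have hq1 : 1 < Fintype.card F := Fintype.one_lt_card
  have hnq : ∀ t : ℕ, t.Prime → t ≠ p → ¬ t ∣ Fintype.card F := by
    intro t ht htp
    obtain ⟨k, _, hk⟩ := FiniteField.card F p
    rw [hk]
    intro h
    exact htp ((Nat.prime_dvd_prime_iff_eq ht (Fact.out)).mp (ht.dvd_of_dvd_pow h))
  have hdvd : ∀ t : ℕ, ∀ j, t ∣ Fintype.card F ^ j - 1 ↔ orderOf ((Fintype.card F : ℕ) : ZMod t) ∣ j := by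
    intro t j
    rw [orderOf_dvd_iff_pow_eq_one, ← ZMod.natCast_eq_zero_iff, Nat.cast_sub (Nat.one_le_pow _ _ (by omega)), Nat.cast_pow, Nat.cast_one, sub_eq_zero]
  have hdr : ∀ j, r ∣ Fintype.card F ^ j - 1 ↔ k ∣ j := fun j => by rw [hk]; exact hdvd r j
  have hds : ∀ j, s ∣ Fintype.card F ^ j - 1 ↔ l ∣ j := fun j => by rw [hl]; exact hdvd s j
  have hpos : ∀ (t : ℕ) [Fact t.Prime], ¬ t ∣ Fintype.card F → 0 < orderOf ((Fintype.card F : ℕ) : ZMod t) := by
    intro t _ ht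
    have hq0 : ((Fintype.card F : ℕ) : ZMod t) ≠ 0 := by rwa [Ne, ZMod.natCast_eq_zero_iff]
    have h1 := orderOf_pos (Units.mk0 ((Fintype.card F : ℕ) : ZMod t) hq0)
    rw [← orderOf_units, Units.val_mk0] at h1
    exact h1
  have hk0 : 0 < k := by rw [hk]; exact hpos r (hnq r hr hrp)
  have hl0 : 0 < l := by rw [hl]; exact hpos s (hnq s hs hsp)
  have hcop : Nat.Coprime r s := (Nat.coprime_primes hr hs).mpr hrs
  have hn0 : 1 ≤ n := by omega
  have hηk2 : k ∣ 2 * ηk := by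
    rcases hηk with ⟨_, h⟩ | ⟨_, h⟩
    · rw [h]; exact Dvd.intro_left 2 rfl
    · rw [h]
  have hηl2 : l ∣ 2 * ηl := by
    rcases hηl with ⟨_, h⟩ | ⟨_, h⟩
    · rw [h]; exact Dvd.intro_left 2 rfl
    · rw [h]
  have hηk1 : 1 ≤ ηk := by rcases hηk with ⟨_, h⟩ | ⟨_, h⟩ <;> omega
  have hηl1 : 1 ≤ ηl := by rcases hηl with ⟨_, h⟩ | ⟨_, h⟩ <;> omega
  have hηln : ηl ≤ n := by
    obtain ⟨j, hj1, hj2, hj3⟩ := dvd_sp hs (hnq s hs hsp) hsG
    rw [hds] at hj3
    rcases hηl with ⟨hodd, h⟩ | ⟨_, h⟩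
    · have h1 : l ∣ j := Nat.Coprime.dvd_of_dvd_mul_left (Nat.coprime_two_right.mpr hodd) hj3
      have := Nat.le_of_dvd (by omega) h1
      omega
    · have := Nat.le_of_dvd (by omega) hj3
      omega
  have hcrs : Nat.Coprime (r * s) (Nat.gcd 2 (Fintype.card F - 1)) := Nat.Coprime.mul_left (cop_r hr hr2) (cop_r hs hs2)
  constructor
  · intro hcon
    by_contra hne
    apply hcon
    suffices h : ∃ A : Matrix.symplecticGroup (Fin n) F, orderOf A = r * s by
      obtain ⟨A, hA⟩ := h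
      exact ⟨QuotientGroup.mk A, by rw [CfsgLib.CQ.order_mk (center_pow hn0) _ (by rw [hA]; exact hcrs), hA]⟩
    by_cases h1 : ηk + ηl ≤ n
    · obtain ⟨m, hm⟩ := Nat.exists_eq_add_of_le (show ηk ≤ n by omega)
      obtain ⟨A, hA⟩ := exists_sp (F := F) (m := ηk) (j := ηk) hr hηk1 le_rfl ((hdr _).mpr hηk2)
      obtain ⟨B, hB⟩ := exists_sp (F := F) (m := m) (j := ηl) hs hηl1 (by omega) ((hds _).mpr hηl2)
      subst hm
      refine ⟨CfsgLib.SpBlk.blk ηk m (A, B), ?_⟩
      rw [orderOf_injective _ (CfsgLib.SpBlk.blk_injective ηk m), Prod.orderOf_mk, hA, hB]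
      exact hcop.lcm_eq_mul
    · have h2 : ∃ t : ℕ, Odd t ∧ l = k * t := by
        by_contra h3
        exact hne ⟨by omega, h3⟩
      obtain ⟨t, ht, hlt⟩ := h2
      have hrs0 : 0 < r * s := Nat.mul_pos hr.pos hs.pos
      rcases hηl with ⟨hlodd, hle⟩ | ⟨hleven, hle⟩
      · have hkl' : k ∣ l := ⟨t, hlt⟩
        obtain ⟨f, hf⟩ := CfsgLib.Hc.torus_gl (F := F) (n := n) (d := l) (a := 1) (m := r * s) hl0 (by omega)
          (hcop.mul_dvd_of_dvd_of_dvd ((hdr l).mpr hkl') ((hds l).mpr dvd_rfl))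
        obtain ⟨g, hg⟩ := CfsgLib.Hc.gl_sp (F := F) n
        exact exists_of_embed hrs0 (g.comp f) (hg.comp hf)
      · have hkeven : Even k := by
          by_contra h3
          rw [Nat.not_even_iff_odd] at h3
          have h4 : Odd l := by rw [hlt]; exact h3.mul ht
          exact (Nat.not_odd_iff_even.mpr hleven) h4
        have hηk3 : 2 * ηk = k := by
          rcases hηk with ⟨h, _⟩ | ⟨_, h⟩
          · exact absurd hkeven (Nat.not_even_iff_odd.mpr h)
          · exact h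
        have h3 : ηl = ηk * t := by
          have : 2 * ηl = 2 * (ηk * t) := by rw [hle, hlt, ← hηk3]; ring
          omega
        have h4 : r ∣ Fintype.card F ^ ηl + 1 := by
          refine (half_lemma hk hk0 hηk3).trans ?_
          rw [h3, pow_mul]
          have := ht.nat_add_dvd_pow_add_pow (Fintype.card F ^ ηk) 1
          rwa [one_pow] at this
        have h5 : s ∣ Fintype.card F ^ ηl + 1 := half_lemma hl hl0 hle
        obtain ⟨f, hf⟩ := CfsgLib.Hc.torus_sp (F := F) (n := n) (e := ηl) (a := 1) (m := r * s) (by omega) (by omega)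
          (hcop.mul_dvd_of_dvd_of_dvd h4 h5)
        exact exists_of_embed hrs0 f hf
  · rintro ⟨hn1, hno⟩ ⟨g, hg⟩
    have hrs1 : 1 < r * s := Nat.lt_of_lt_of_le hr.one_lt (Nat.le_mul_of_pos_right r hs.pos)
    obtain ⟨G, rfl, hG⟩ := CfsgLib.CQ.exists_lift (center_pow (F := F) hn0) hrs1 hcrs.symm g (by rw [← hg]; exact pow_orderOf_eq_one g)
    have hne : ∀ t : ℕ, 0 < t → t < r * s → G ^ t ≠ 1 := by
      intro t ht1 ht2 h
      have h1 : (QuotientGroup.mk G : Cfsg.PSp n F) ^ t = 1 := by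
        rw [← QuotientGroup.mk_pow, h]; rfl
      have h2 := Nat.le_of_dvd ht1 (orderOf_dvd_of_pow_eq_one h1)
      rw [hg] at h2
      omega
    have hG1 : G ^ s ≠ 1 := hne s hs.pos (by have := hr.one_lt; have := hs.pos; nlinarith)
    have hG2 : G ^ r ≠ 1 := hne r hr.pos (by have := hs.one_lt; have := hr.pos; nlinarith)
    let f : Matrix (Fin n ⊕ Fin n) (Fin n ⊕ Fin n) F ≃ₐ[F] Module.End F ((Fin n ⊕ Fin n) → F) := Matrix.toLinAlgEquiv'
    have hfr : finrank F ((Fin n ⊕ Fin n) → F) = 2 * n := by rw [Module.finrank_pi, Fintype.card_sum, Fintype.card_fin]; omega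
    have hcoe : ∀ (X : Matrix.symplecticGroup (Fin n) F) (j : ℕ), (X ^ j).1 = X.1 ^ j := fun X j => rfl
    have hpow1 : ∀ (X : Matrix.symplecticGroup (Fin n) F) (t : ℕ), X ^ t = 1 → f X.1 ^ t = 1 := by
      intro X t h
      rw [← map_pow, ← hcoe, h]
      exact map_one f
    have hnone : ∀ (X : Matrix.symplecticGroup (Fin n) F), X ≠ 1 → f X.1 ≠ 1 := by
      intro X h h1
      apply h
      apply Subtype.ext
      apply f.injective
      rw [h1]
      exact (map_one f).symm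
    have hadj : ∀ (X : Matrix.symplecticGroup (Fin n) F) (t : ℕ), 1 ≤ t → X ^ t = 1 → ∀ g : F[X], aeval (f X.1) g = 0 → aeval (f X.1 ^ (t - 1)) (g.map (iterateFrobenius F p 0)) = 0 := by
      intro X t ht hX g hg
      rw [iterateFrobenius_zero, Polynomial.map_id]
      have h1 : aeval X.1 g = 0 := by
        apply f.injective
        rw [← Polynomial.aeval_algHom_apply, map_zero]
        exact hg
      have h2 := CfsgLib.SpBlk.adj X.1 (X.1 ^ (t - 1)) X.2 (by
        rw [← pow_succ, Nat.sub_add_cancel ht, ← hcoe, hX]; rfl) g h1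
      rw [← map_pow]
      have h3 : aeval (f (X.1 ^ (t - 1))) g = f (aeval (X.1 ^ (t - 1)) g) := Polynomial.aeval_algHom_apply f _ _
      rw [h3, h2, map_zero]
    have hrF : (r : F) ≠ 0 := CfsgLib.Flg.cast_ne (p := p) hr hrp
    have hsF : (s : F) ≠ 0 := CfsgLib.Flg.cast_ne (p := p) hs hsp
    -- dimension of the non-fixed part
    have hdim : ∀ (t : ℕ) (ht : t.Prime) (ht2 : t ≠ 2) (htp : t ≠ p) (d η : ℕ) (hd : d = orderOf ((Fintype.card F : ℕ) : ZMod t)) (hη : (Odd d ∧ η = d) ∨ (Even d ∧ 2 * η = d))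
        (X : Matrix.symplecticGroup (Fin n) F), X ^ t = 1 → X ≠ 1 → 2 * η ≤ finrank F (LinearMap.range (f X.1 - 1)) := by
      intro t ht ht2 htp d η hd hη X hX hX1
      haveI : Fact t.Prime := ⟨ht⟩
      have htF : (t : F) ≠ 0 := CfsgLib.Flg.cast_ne (p := p) ht htp
      have hXt := hpow1 X t hX
      have hU : ∀ x ∈ LinearMap.range (f X.1 - 1), f X.1 x ∈ LinearMap.range (f X.1 - 1) := by
        rintro x ⟨y, rfl⟩
        refine ⟨f X.1 y, ?_⟩
        simp only [LinearMap.sub_apply, Module.End.one_apply, map_sub]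
      have h1 := CfsgLib.Flg.dvd_finrank ht htF (f X.1) hXt _ hU le_rfl
      have h2 : 0 < finrank F (LinearMap.range (f X.1 - 1)) := by
        rw [Nat.pos_iff_ne_zero, Ne, Submodule.finrank_eq_zero, LinearMap.range_eq_bot, sub_eq_zero]
        exact hnone X hX1
      have h3 := Nat.le_of_dvd h2 h1
      rw [← hd] at h1 h3
      have hd0 : 0 < d := by rw [hd]; exact hpos t (hnq t ht htp)
      rcases hη with ⟨hodd, hη⟩ | ⟨heven, hη⟩
      · by_contra hcon
        have h4 : finrank F (LinearMap.range (f X.1 - 1)) = d := by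
          obtain ⟨c, hc⟩ := h1
          have hc1 : c = 1 := by
            have h0 : c ≠ 0 := by rintro rfl; omega
            by_contra hne1
            have h2c : 2 ≤ c := by omega
            have h3c : d * 2 ≤ d * c := Nat.mul_le_mul_left d h2c
            omega
          rw [hc, hc1, mul_one]
        obtain ⟨w, hw, hwU⟩ := CfsgLib.Homg.exists_irred ht htF (f X.1) hXt _ hU le_rfl (by rw [h4, hd]) h2
        have hXX : f X.1 * f X.1 ^ (t - 1) = 1 := by rw [← pow_succ', Nat.sub_add_cancel ht.one_lt.le, hXt]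
        have hXX' : f X.1 ^ (t - 1) * f X.1 = 1 := by rw [← pow_succ, Nat.sub_add_cancel ht.one_lt.le, hXt]
        obtain ⟨j, hj⟩ := CfsgLib.Homg.dual ht (p := p) 0 (f X.1) (f X.1 ^ (t - 1)) hXX hXX' hXt (hadj X t ht.one_lt.le hX) (hnone X hX1) hw hwU
          (CfsgLib.Flg.ker_inf_range htF (f X.1) hXt)
        rw [pow_zero, one_mul] at hj
        obtain ⟨c, u, hc, -, -⟩ := odd_lemma ht2 hd hd0 hj
        exact (Nat.not_even_iff_odd.mpr hodd) ⟨c, by omega⟩
      · omega
    have hdimR := hdim r hr hr2 hrp k ηk hk hηk (G ^ s) (by rw [← pow_mul, mul_comm, hG]) hG1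
    have hdimS := hdim s hs hs2 hsp l ηl hl hηl (G ^ r) (by rw [← pow_mul, hG]) hG2
    have hfs : f (G ^ s).1 = f G.1 ^ s := by rw [hcoe, map_pow]
    have hfr' : f (G ^ r).1 = f G.1 ^ r := by rw [hcoe, map_pow]
    rw [hfs] at hdimR
    rw [hfr'] at hdimS
    by_cases hX : LinearMap.range (f G.1 ^ s - 1) ⊓ LinearMap.range (f G.1 ^ r - 1) = ⊥
    · have h1 := Submodule.finrank_sup_add_finrank_inf_eq (LinearMap.range (f G.1 ^ s - 1)) (LinearMap.range (f G.1 ^ r - 1))
      rw [hX, finrank_bot, add_zero] at h1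
      have h2 : finrank F ↥(LinearMap.range (f G.1 ^ s - 1) ⊔ LinearMap.range (f G.1 ^ r - 1)) ≤ finrank F ((Fin n ⊕ Fin n) → F) := Submodule.finrank_le _
      rw [hfr, h1] at h2
      omega
    · obtain ⟨h1, h2⟩ := CfsgLib.Homg.dimX (p := p) 0 hr hs hrF hsF (f G.1) (hpow1 G _ hG) (hadj G (r * s) hrs1.le hG) hX
      rw [← hk, ← hl, hfr] at h1 h2
      have hm0 : 0 < Nat.lcm k l := Nat.lcm_pos hk0 hl0
      obtain ⟨c, hc⟩ := Nat.dvd_lcm_right k l
      have hc0 : c ≠ 0 := by rintro rfl; rw [mul_zero] at hc; omega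
      have hmk : ¬ k ∣ l → l * 2 ≤ Nat.lcm k l := by
        intro h
        have hc1 : c ≠ 1 := by
          rintro rfl
          rw [mul_one] at hc
          exact h (hc ▸ Nat.dvd_lcm_left k l)
        rw [hc]
        exact Nat.mul_le_mul_left l (by omega)
      have hml : l ≤ Nat.lcm k l := Nat.le_of_dvd hm0 (Nat.dvd_lcm_right k l)
      rcases Nat.lt_or_ge (2 * n) (2 * Nat.lcm k l) with h3 | h3
      · obtain ⟨j, hj1, hj2⟩ := h2 h3
        rw [pow_zero, one_mul] at hj1 hj2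
        obtain ⟨c1, u, hc1, hu, hju⟩ := odd_lemma hr2 hk hk0 hj1
        obtain ⟨c2, v, hc2, hv, hjv⟩ := odd_lemma hs2 hl hl0 hj2
        have hnk : ¬ k ∣ l := by
          rintro ⟨t, ht⟩
          apply hno
          refine ⟨t, ?_, ht⟩
          have h4 : c2 = c1 * t := by
            have : 2 * c2 = 2 * (c1 * t) := by rw [← hc2, ht, hc1]; ring
            omega
          have h5 : u = t * v := by
            have h6 : c1 * u = c1 * (t * v) := by rw [← hju, hjv, h4]; ring
            exact Nat.eq_of_mul_eq_mul_left (by omega) h6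
          rw [h5] at hu
          exact (Nat.odd_mul.mp hu).1
        have h4 := hmk hnk
        have h5 : 2 * ηk = k := by
          rcases hηk with ⟨h, _⟩ | ⟨_, h⟩
          · exact absurd ⟨c1, by omega⟩ (Nat.not_even_iff_odd.mpr h)
          · exact h
        have h6 : 2 * ηl = l := by
          rcases hηl with ⟨h, _⟩ | ⟨_, h⟩
          · exact absurd ⟨c2, by omega⟩ (Nat.not_even_iff_odd.mpr h)
          · exact h
        omega
      · rcases hηl with ⟨hlodd, hle⟩ | ⟨hleven, hle⟩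
        · rcases hηk with ⟨hkodd, hke⟩ | ⟨hkeven, hke⟩
          · have hnk : ¬ k ∣ l := by
              rintro ⟨t, ht⟩
              apply hno
              refine ⟨t, ?_, ht⟩
              rw [ht] at hlodd
              exact (Nat.odd_mul.mp hlodd).2
            have h4 := hmk hnk
            omega
          · have hnk : ¬ k ∣ l := by
              rintro ⟨t, ht⟩
              rw [ht] at hlodd
              exact (Nat.not_odd_iff_even.mpr hkeven) (Nat.odd_mul.mp hlodd).1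
            have h4 := hmk hnk
            omega
        · omega

end Cfsg.Agent.S2469
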