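import Cfsg.Statements.S2472
import Cfsg.Agent.LibSpBlkH13
import Cfsg.Agent.LibH22SpOrder
import Cfsg.Agent.LibH22Sp3

set_option autoImplicit false
open Cfsg

namespace Cfsg.Agent.S2472

open Module Polynomial

theorem center_pow {F : Type*} [Field F] [Fintype F] {n : ℕ} (hn : 1 ≤ n) : ∀ z ∈ Subgroup.center (Matrix.symplecticGroup (Fin n) F), z ^ (Nat.gcd 2 (Fintype.card F - 1)) = 1 := by
  intro z hz
  have h1 : (⟨z, hz⟩ : Subgroup.center (Matrix.symplecticGroup (Fin n) F)) ^ (Nat.gcd 2 (Fintype.card F - 1)) = 1 := by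
    rw [← Cfsg.Agent.H22.card_center_sp hn]
    exact pow_card_eq_one'
  exact congrArg Subtype.val h1

theorem cop_r {F : Type*} [Field F] [Fintype F] {r : ℕ} (hr : r.Prime) (hr2 : r ≠ 2) : Nat.Coprime r (Nat.gcd 2 (Fintype.card F - 1)) :=
  Nat.Coprime.coprime_dvd_right (Nat.gcd_dvd_left _ _) ((Nat.coprime_primes hr Nat.prime_two).mpr hr2)

theorem cop_p {F : Type*} [Field F] [Fintype F] {p : ℕ} [Fact p.Prime] [CharP F p] : Nat.Coprime p (Nat.gcd 2 (Fintype.card F - 1)) :=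
  Nat.Coprime.coprime_dvd_right (Nat.gcd_dvd_right _ _) ((Nat.Prime.coprime_iff_not_dvd Fact.out).mpr CfsgLib.Flg.p_not_dvd)

theorem exists_order {F : Type*} [Field F] [Fintype F] {p : ℕ} [hp : Fact p.Prime] [CharP F p] {r : ℕ} (hr : r.Prime) (hr2 : r ≠ 2) (hrp : r ≠ p) {m j : ℕ}
    (hj1 : 1 ≤ j) (hjm : j ≤ m) (hrj : r ∣ Fintype.card F ^ (2 * j) - 1) : ∃ g : Cfsg.PSp (m + 1) F, orderOf g = r * p := by
  classical
  haveI : Fact r.Prime := ⟨hr⟩
  have h1 : r ∣ Nat.card (Matrix.symplecticGroup (Fin m) F) := by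
    rw [Cfsg.Agent.H22.card_sp]
    apply Dvd.dvd.mul_left
    have h2 := Finset.dvd_prod_of_mem (fun i => Fintype.card F ^ (2 * (i + 1)) - 1) (Finset.mem_range.mpr (show j - 1 < m by omega))
    refine dvd_trans hrj (dvd_trans ?_ h2)
    show Fintype.card F ^ (2 * j) - 1 ∣ Fintype.card F ^ (2 * (j - 1 + 1)) - 1
    rw [Nat.sub_add_cancel hj1]
  obtain ⟨A, hA⟩ := exists_prime_orderOf_dvd_card' r h1
  have h2 : p ∣ Nat.card (Matrix.symplecticGroup (Fin 1) F) := by
    rw [Cfsg.Agent.H22.card_sp]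
    apply Dvd.dvd.mul_right
    obtain ⟨k, hp', hk⟩ := FiniteField.card F p
    rw [hk, one_pow, pow_one]
    exact dvd_pow_self p k.2.ne'
  obtain ⟨T, hT⟩ := exists_prime_orderOf_dvd_card' p h2
  refine ⟨QuotientGroup.mk (CfsgLib.SpBlk.blk m 1 (A, T)), ?_⟩
  have ho : orderOf (CfsgLib.SpBlk.blk m 1 (A, T)) = r * p := by
    rw [orderOf_injective _ (CfsgLib.SpBlk.blk_injective m 1), Prod.orderOf_mk, hA, hT]
    exact ((Nat.coprime_primes hr hp.out).mpr hrp).lcm_eq_mul
  rw [CfsgLib.CQ.order_mk (center_pow (by omega)) _ (by rw [ho]; exact Nat.Coprime.mul_left (cop_r hr hr2) cop_p), ho]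

/-- Adjacency of a prime and the characteristic in the prime graph of PSp(2n,q): let F be a finite field of characteristic p with q elements, n ≥ 2 with PSp(2n,F) simple, and let r ≠ p be an odd prime dividing the order of PSp(2n,F), with k the multiplicative order of q modulo r and η(k) = k for odd k, k/2 for even k. Then PSp(2n,F) has NO element of order r·p if and only if η(k) > n − 1. -/
theorem result {F : Type*} [Field F] [Fintype F] (p : ℕ) [Fact p.Prime] [CharP F p] (n : ℕ) (hn : 2 ≤ n) (hsmall : n = 2 → 3 ≤ Fintype.card F)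
    (r : ℕ) (hr : r.Prime) (hr2 : r ≠ 2) (hrp : r ≠ p) (hrG : r ∣ Nat.card (Cfsg.PSp n F))
    (k ηk : ℕ) (hk : k = orderOf ((Fintype.card F : ℕ) : ZMod r)) (hηk : (Odd k ∧ ηk = k) ∨ (Even k ∧ 2 * ηk = k)) :
    (r * p ∉ Set.range (orderOf : Cfsg.PSp n F → ℕ)) ↔ n - 1 < ηk := by
  classical
  haveI : Fact r.Prime := ⟨hr⟩
  have hq1 : 1 < Fintype.card F := Fintype.one_lt_card
  have hrq : ¬ r ∣ Fintype.card F := by
    obtain ⟨k, _, hk⟩ := FiniteField.card F p
    rw [hk]
    intro h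
    exact hrp ((Nat.prime_dvd_prime_iff_eq hr (Fact.out)).mp (hr.dvd_of_dvd_pow h))
  have hq0 : ((Fintype.card F : ℕ) : ZMod r) ≠ 0 := by rwa [Ne, ZMod.natCast_eq_zero_iff]
  have hk0 : 0 < k := by
    have h1 := orderOf_pos (Units.mk0 ((Fintype.card F : ℕ) : ZMod r) hq0)
    rw [← orderOf_units, Units.val_mk0] at h1
    rw [hk]
    exact h1
  have hdvd : ∀ j, r ∣ Fintype.card F ^ j - 1 ↔ k ∣ j := by
    intro j
    rw [hk, orderOf_dvd_iff_pow_eq_one, ← ZMod.natCast_eq_zero_iff, Nat.cast_sub (Nat.one_le_pow _ _ (by omega)), Nat.cast_pow, Nat.cast_one, sub_eq_zero]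
  constructor
  · intro hcon
    by_contra hne
    apply hcon
    obtain ⟨m, rfl⟩ := Nat.exists_eq_add_of_le' (show 1 ≤ n by omega)
    have hη1 : 1 ≤ ηk := by rcases hηk with ⟨_, h⟩ | ⟨_, h⟩ <;> omega
    obtain ⟨g, hg⟩ := exists_order (F := F) (p := p) hr hr2 hrp hη1 (show ηk ≤ m by omega) ((hdvd _).mpr (by
      rcases hηk with ⟨_, h⟩ | ⟨_, h⟩
      · rw [h]; exact Dvd.intro_left 2 rfl
      · rw [h]))
    exact ⟨g, hg⟩
  · rintro hcase ⟨g, hg⟩
    have ha : (g ^ r) ^ p = 1 := by rw [← pow_mul, ← hg]; exact pow_orderOf_eq_one g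
    have hb : (g ^ p) ^ r = 1 := by rw [← pow_mul, mul_comm, ← hg]; exact pow_orderOf_eq_one g
    have hp2 := (Fact.out : p.Prime).two_le
    have hr2' := hr.two_le
    have ha1 : g ^ r ≠ 1 := by
      intro h
      have h1 := Nat.le_of_dvd (by omega) (orderOf_dvd_of_pow_eq_one h)
      rw [hg] at h1
      nlinarith
    have hb1 : g ^ p ≠ 1 := by
      intro h
      have h1 := Nat.le_of_dvd (by omega) (orderOf_dvd_of_pow_eq_one h)
      rw [hg] at h1
      nlinarith
    have hab : Commute (g ^ r) (g ^ p) := (Commute.refl g).pow_pow r p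
    obtain ⟨A, B, hA, hB, hA1, hB1, hAB⟩ := CfsgLib.CQ.exists_pair (center_pow (F := F) (n := n) (by omega)) hr (Fact.out : p.Prime) (cop_r hr hr2).symm cop_p.symm _ _ ha hb ha1 hb1 hab
    let f : Matrix (Fin n ⊕ Fin n) (Fin n ⊕ Fin n) F ≃ₐ[F] Module.End F ((Fin n ⊕ Fin n) → F) := Matrix.toLinAlgEquiv'
    have hfr : finrank F ((Fin n ⊕ Fin n) → F) = 2 * n := by rw [Module.finrank_pi, Fintype.card_sum, Fintype.card_fin]; omega
    haveI : Nonempty (Fin n ⊕ Fin n) := ⟨Sum.inl ⟨0, by omega⟩⟩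
    haveI : CharP (Matrix (Fin n ⊕ Fin n) (Fin n ⊕ Fin n) F) p := by infer_instance
    have hcoe : ∀ (X : Matrix.symplecticGroup (Fin n) F) (j : ℕ), (X ^ j).1 = X.1 ^ j := fun X j => rfl
    have hBf : f B.1 ^ r = 1 := by
      rw [← map_pow, ← hcoe, hB]
      exact map_one f
    have hf1 : f B.1 ≠ 1 := by
      intro h
      apply hB1
      apply Subtype.ext
      apply f.injective
      rw [h]
      exact (map_one f).symm
    have hAB' : Commute A.1 B.1 := congrArg Subtype.val hAB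
    have hN : IsNilpotent (f (A.1 - 1)) := by
      refine ⟨p, ?_⟩
      rw [← map_pow, sub_pow_char_of_commute (p := p) (Commute.one_right A.1), ← hcoe, hA]
      show f ((1 : Matrix (Fin n ⊕ Fin n) (Fin n ⊕ Fin n) F) - 1 ^ p) = 0
      rw [one_pow, sub_self, map_zero]
    have hN0 : f (A.1 - 1) ≠ 0 := by
      rw [Ne, EmbeddingLike.map_eq_zero_iff, sub_eq_zero]
      intro h
      exact hA1 (Subtype.ext h)
    have hcomm : Commute (f B.1) (f (A.1 - 1)) := (hAB'.symm.sub_right (Commute.one_right _)).map f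
    have hrF : (r : F) ≠ 0 := CfsgLib.Flg.cast_ne (p := p) hr hrp
    rcases hηk with ⟨hodd, hη⟩ | ⟨heven, hη⟩
    · have hinv1 : B.1 * (B⁻¹).1 = 1 := congrArg Subtype.val (mul_inv_cancel B)
      have hinv2 : (B⁻¹).1 * B.1 = 1 := congrArg Subtype.val (inv_mul_cancel B)
      obtain ⟨j, hj⟩ := CfsgLib.Homg.no_nilp (K := F) (V := (Fin n ⊕ Fin n) → F) hr (p := p) hrF 0 (f B.1) (f (B⁻¹).1)
        (by rw [← map_mul, hinv1, map_one]) (by rw [← map_mul, hinv2, map_one]) hBf
        (by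
          intro g hg
          rw [iterateFrobenius_zero, Polynomial.map_id]
          have h1 : aeval B.1 g = 0 := by
            apply f.injective
            rw [← Polynomial.aeval_algHom_apply, map_zero]
            exact hg
          have h2 := CfsgLib.SpBlk.adj B.1 (B⁻¹).1 B.2 hinv2 g h1
          have h3 : aeval (f (B⁻¹).1) g = f (aeval (B⁻¹).1 g) := Polynomial.aeval_algHom_apply f _ _
          rw [h3, h2, map_zero])
        (f (A.1 - 1)) hcomm hN hN0 hf1 (by rw [← hk]; omega) (by rw [← hk, hfr]; omega)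
      rw [pow_zero, one_mul] at hj
      have h1 : ((Fintype.card F : ℕ) : ZMod r) ^ j = -1 := by
        have h2 : ((Fintype.card F ^ j + 1 : ℕ) : ZMod r) = 0 := (ZMod.natCast_eq_zero_iff _ _).mpr hj
        push_cast at h2
        exact eq_neg_of_add_eq_zero_left h2
      have h2 : k ∣ 2 * j := by
        rw [hk, orderOf_dvd_iff_pow_eq_one, mul_comm, pow_mul, h1]; ring
      have h3 : k ∣ j := (Nat.Coprime.dvd_of_dvd_mul_left (Nat.coprime_two_right.mpr hodd) h2)
      rw [hk, orderOf_dvd_iff_pow_eq_one, h1] at h3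
      have h4 : ((2 : ℕ) : ZMod r) = 0 := by
        have h5 : (1 : ZMod r) + 1 = 0 := by nth_rewrite 1 [← h3]; ring
        push_cast
        rw [← one_add_one_eq_two]
        exact h5
      rw [ZMod.natCast_eq_zero_iff] at h4
      exact hr2 ((Nat.prime_dvd_prime_iff_eq hr Nat.prime_two).mp h4)
    · apply hf1
      apply CfsgLib.Flg.flag hr hrq (by rw [hfr]; omega) ?_ (f B.1) (f (A.1 - 1)) hBf hcomm hN hN0
      intro j hj1 hj2 hj3
      rw [hdvd] at hj3
      have := Nat.le_of_dvd (by omega) hj3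
      rw [hfr] at hj2
      omega

end Cfsg.Agent.S2472
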