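import Cfsg.Agent.LibMC
import Cfsg.Agent.S2469
import Cfsg.Agent.S2472
import Cfsg.Agent.S0245
import Cfsg.Agent.LibH22Sp3

/-!
The prime graph of `PSp₆(3)`.
-/

set_option autoImplicit false
set_option linter.all false
set_option maxRecDepth 100000

namespace CfsgLib.Spsix

open CfsgLib.TC CfsgLib.MC Matrix

abbrev F3 := ZMod 3
instance : Fact (Nat.Prime 3) := ⟨Nat.prime_three⟩
abbrev M6 := Matrix (Fin 6) (Fin 6) F3

noncomputable def mC (a b : ℕ) : ℕ := mulC 3 (addp 3) (mulp 3) 6 a b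
noncomputable def oneC : ℕ := scC 3 6 1
noncomputable def twoC : ℕ := scC 3 6 2
noncomputable def tM (a : ℕ) : M6 := toM 3 (fun a => (a : ZMod 3)) 6 a

theorem tM_mul (a b : ℕ) : tM (mC a b) = tM a * tM b := toM_mul (cod_zmod 3) 6 a b
theorem tM_one : tM oneC = 1 := toM_one (cod_zmod 3)
theorem tM_two : tM twoC = -1 := by
  have h : tM twoC = ((2 : ℕ) : ZMod 3) • (1 : M6) := toM_sc (cod_zmod 3) (by norm_num)
  rw [h]
  have : ((2 : ℕ) : ZMod 3) = -1 := by decide
  rw [this, neg_one_smul]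

noncomputable def pw (c n : ℕ) : ℕ := Nat.rec (motive := fun _ => ℕ) oneC (fun _ ih => mC ih c) n

theorem tM_pw (c n : ℕ) : tM (pw c n) = tM c ^ n := by
  induction n with
  | zero => rw [pow_zero]; exact tM_one
  | succ n ih => rw [pow_succ, ← ih, ← tM_mul]; rfl

abbrev Sp3 := Matrix.symplecticGroup (Fin 3) F3

/-- reindexing -/
def eS : Fin 3 ⊕ Fin 3 ≃ Fin 6 := finSumFinEquiv

noncomputable def co : Sp3 →* M6 where
  toFun g := (g : Matrix (Fin 3 ⊕ Fin 3) (Fin 3 ⊕ Fin 3) F3).submatrix (⇑eS.symm) (⇑eS.symm)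
  map_one' := Matrix.submatrix_one_equiv eS.symm
  map_mul' g h := (Matrix.submatrix_mul_equiv (g : Matrix (Fin 3 ⊕ Fin 3) (Fin 3 ⊕ Fin 3) F3)
    (h : Matrix (Fin 3 ⊕ Fin 3) (Fin 3 ⊕ Fin 3) F3) (⇑eS.symm) eS.symm (⇑eS.symm)).symm

theorem co_inj : Function.Injective co := by
  intro a b h
  apply Subtype.ext
  ext i j
  have h1 := congrFun (congrFun h (eS i)) (eS j)
  change (a : Matrix (Fin 3 ⊕ Fin 3) (Fin 3 ⊕ Fin 3) F3) (eS.symm (eS i))
    (eS.symm (eS j)) = (b : Matrix (Fin 3 ⊕ Fin 3) (Fin 3 ⊕ Fin 3) F3)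
    (eS.symm (eS i)) (eS.symm (eS j)) at h1
  rwa [Equiv.symm_apply_apply, Equiv.symm_apply_apply] at h1

/-- matrices from codes -/
noncomputable def sM (c : ℕ) : Matrix (Fin 3 ⊕ Fin 3) (Fin 3 ⊕ Fin 3) F3 :=
  Matrix.of fun i j => tM c (eS i) (eS j)

theorem sM_sub (c : ℕ) : (sM c).submatrix eS.symm eS.symm = tM c := by
  ext i j
  simp [sM]

noncomputable def mk {c : ℕ} (h : sM c * Matrix.J (Fin 3) F3 * (sM c)ᵀ = Matrix.J (Fin 3) F3) : Sp3 :=
  ⟨sM c, SymplecticGroup.mem_iff.2 h⟩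

theorem co_mk {c : ℕ} (h : sM c * Matrix.J (Fin 3) F3 * (sM c)ᵀ = Matrix.J (Fin 3) F3) : co (mk h) = tM c := sM_sub c

theorem mem_center_iff (z : Sp3) : z ∈ Subgroup.center Sp3 ↔ (co z = 1 ∨ co z = -1) := by
  constructor
  · intro hz
    obtain ⟨a, ha⟩ := Cfsg.Agent.H22.center_sp_scalar hz
    have h1 : co z = a • 1 := by
      change (z : Matrix (Fin 3 ⊕ Fin 3) (Fin 3 ⊕ Fin 3) F3).submatrix (⇑eS.symm) (⇑eS.symm) = _
      rw [ha]
      ext i j
      simp [Matrix.one_apply]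
    have h2 : a ^ 2 = 1 := by
      rw [← Cfsg.Agent.H22.smul_one_mem_sp_iff (m := 3) (by norm_num), ← ha]
      exact z.2
    have h3 : a = 1 ∨ a = -1 := by
      revert h2; generalize a = b; revert b; decide
    rcases h3 with rfl | rfl
    · left; rw [h1, one_smul]
    · right; rw [h1, neg_one_smul]
  · intro h
    rw [Subgroup.mem_center_iff]
    intro g
    apply co_inj
    rw [map_mul, map_mul]
    rcases h with h | h
    · rw [h, mul_one, one_mul]
    · rw [h, mul_neg, neg_mul, mul_one, one_mul]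

theorem J6 : sM 50078156437659619 * Matrix.J (Fin 3) F3 * (sM 50078156437659619)ᵀ = Matrix.J (Fin 3) F3 := by decide +kernel
theorem J10 : sM 50032414475518247 * Matrix.J (Fin 3) F3 * (sM 50032414475518247)ᵀ = Matrix.J (Fin 3) F3 := by decide +kernel
theorem J14 : sM 103176966755674514 * Matrix.J (Fin 3) F3 * (sM 103176966755674514)ᵀ = Matrix.J (Fin 3) F3 := by decide +kernel
theorem J26 : sM 134495322184277111 * Matrix.J (Fin 3) F3 * (sM 134495322184277111)ᵀ = Matrix.J (Fin 3) F3 := by decide +kernel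

abbrev PS3 := Cfsg.PSp 3 F3

theorem order_prime_mul {G : Type*} [Group G] {g : G} {p r : ℕ} (hr : r.Prime) (hp : p.Prime) (h1 : g ^ (r * p) = 1)
    (h2 : g ^ r ≠ 1) (h3 : g ^ p ≠ 1) : orderOf g = r * p := by
  have hd : orderOf g ∣ r * p := orderOf_dvd_of_pow_eq_one h1
  have hn2 : ¬ orderOf g ∣ r := fun h => h2 (orderOf_dvd_iff_pow_eq_one.1 h)
  have hnp : ¬ orderOf g ∣ p := fun h => h3 (orderOf_dvd_iff_pow_eq_one.1 h)
  obtain ⟨c, hc⟩ := hd
  by_cases h : p ∣ orderOf g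
  · obtain ⟨k, hk⟩ := h
    have h6 : p * r = p * (k * c) := by
      calc p * r = r * p := mul_comm _ _
        _ = p * (k * c) := by rw [hc, hk]; ring
    have h5 : k * c = r := (Nat.eq_of_mul_eq_mul_left hp.pos h6).symm
    rcases (Nat.dvd_prime hr).1 ⟨c, h5.symm⟩ with rfl | rfl
    · exact absurd (by rw [hk, mul_one]) hnp
    · rw [hk]; ring
  · exfalso
    have hcop : Nat.Coprime (orderOf g) p := ((Nat.Prime.coprime_iff_not_dvd hp).2 h).symm
    exact hn2 (hcop.dvd_of_dvd_mul_right ⟨c, hc⟩)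

theorem pow_one_iff {c : ℕ} (h : sM c * Matrix.J (Fin 3) F3 * (sM c)ᵀ = Matrix.J (Fin 3) F3) (n : ℕ) :
    ((QuotientGroup.mk (mk h) : PS3)) ^ n = 1 ↔ (tM (pw c n) = 1 ∨ tM (pw c n) = -1) := by
  rw [← QuotientGroup.mk_pow, QuotientGroup.eq_one_iff, mem_center_iff, map_pow, co_mk, tM_pw]

theorem ex6 : ∃ x : PS3, orderOf x = 2 * 3 := by
  refine ⟨QuotientGroup.mk (mk J6), order_prime_mul Nat.prime_two Nat.prime_three ?_ ?_ ?_⟩
  · exact (pow_one_iff J6 (2 * 3)).2 (by decide +kernel)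
  · exact fun h => absurd ((pow_one_iff J6 2).1 h) (by decide +kernel)
  · exact fun h => absurd ((pow_one_iff J6 3).1 h) (by decide +kernel)

theorem ex10 : ∃ x : PS3, orderOf x = 2 * 5 := by
  refine ⟨QuotientGroup.mk (mk J10), order_prime_mul Nat.prime_two Nat.prime_five ?_ ?_ ?_⟩
  · exact (pow_one_iff J10 (2 * 5)).2 (by decide +kernel)
  · exact fun h => absurd ((pow_one_iff J10 2).1 h) (by decide +kernel)
  · exact fun h => absurd ((pow_one_iff J10 5).1 h) (by decide +kernel)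

theorem ex14 : ∃ x : PS3, orderOf x = 2 * 7 := by
  refine ⟨QuotientGroup.mk (mk J14), order_prime_mul Nat.prime_two (by norm_num) ?_ ?_ ?_⟩
  · exact (pow_one_iff J14 (2 * 7)).2 (by decide +kernel)
  · exact fun h => absurd ((pow_one_iff J14 2).1 h) (by decide +kernel)
  · exact fun h => absurd ((pow_one_iff J14 7).1 h) (by decide +kernel)

/-! ### the element of order 26 -/

noncomputable def PLs : List ℕ := [50054432356593028, 134495322184277111, 99245297164518495, 71289879637231388, 111596168507683500, 43036360611569451, 64673256450503521, 63443023608902995, 94321838216172970, 823951265002182, 33197600295686378, 149914392660699760, 45116253029551735, 100108864713186056, 68178125200085065, 125596617548023134, 136943581368091438, 55801904026241619, 29856771221262030, 110198215571265092, 109582677250321160, 130581142859976941, 1647887291406081, 41618406998044054, 74995371389492183, 23522921509112345]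
noncomputable def Pk (k : ℕ) : ℕ := List.getD PLs k 0
noncomputable def Jc : ℕ := 131067974950385917

theorem Pk_zero : Nat.beq (Pk 0) oneC = true := by decide +kernel
theorem Pk_succ : ∀ k : Fin 25, Nat.beq (mC (Pk k.1) (Pk 1)) (Pk (k.1 + 1)) = true := by decide +kernel
theorem Pk_13 : Nat.beq (Pk 13) twoC = true := by decide +kernel

noncomputable def Y : M6 := tM (Pk 1)

theorem Y_pow (k : ℕ) (hk : k < 26) : Y ^ k = tM (Pk k) := by
  induction k with
  | zero => rw [pow_zero, Nat.eq_of_beq_eq_true Pk_zero, tM_one]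
  | succ k ih =>
    rw [pow_succ, ih (by omega), Y, ← tM_mul]
    exact congrArg tM (Nat.eq_of_beq_eq_true (Pk_succ ⟨k, by omega⟩))

theorem Y_13 : Y ^ 13 = -1 := by
  rw [Y_pow 13 (by norm_num), Nat.eq_of_beq_eq_true Pk_13, tM_two]

theorem cent_poly (C J : M6) (hJ : (Matrix.of fun i j : Fin 6 => (Y ^ j.1) i 0) * J = 1) (hC : C * Y = Y * C) :
    ∃ a : Fin 6 → F3, C = ∑ j : Fin 6, a j • Y ^ j.1 := by
  set B : M6 := Matrix.of fun i j : Fin 6 => (Y ^ j.1) i 0 with hB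
  obtain ⟨a, ha⟩ : ∃ a : Fin 6 → F3, B *ᵥ a = fun i => C i 0 :=
    ⟨J *ᵥ fun i => C i 0, by rw [Matrix.mulVec_mulVec, hJ, Matrix.one_mulVec]⟩
  refine ⟨a, ?_⟩
  set p : M6 := ∑ j : Fin 6, a j • Y ^ j.1 with hp
  have hCY : ∀ k : ℕ, C * Y ^ k = Y ^ k * C := by
    intro k
    exact (Commute.pow_right (show Commute C Y from hC) k)
  have hpY : ∀ k : ℕ, p * Y ^ k = Y ^ k * p := by
    intro k
    rw [hp, Finset.sum_mul, Finset.mul_sum]
    apply Finset.sum_congr rfl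
    intro j _
    rw [smul_mul_assoc, mul_smul_comm, ← pow_add, ← pow_add, add_comm]
  have h6 : ∀ i, C i 0 = p i 0 := by
    intro i
    have h1 := congrFun ha i
    rw [← h1, hp, Matrix.sum_apply]
    simp only [Matrix.mulVec, dotProduct, hB, Matrix.of_apply, Matrix.smul_apply, smul_eq_mul]
    exact Finset.sum_congr rfl fun j _ => mul_comm _ _
  have h7 : C * B = p * B := by
    ext i j
    have e1 : (C * B) i j = (C * Y ^ j.1) i 0 := rfl
    have e2 : (p * B) i j = (p * Y ^ j.1) i 0 := rfl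
    rw [e1, e2, hCY, hpY, Matrix.mul_apply, Matrix.mul_apply]
    exact Finset.sum_congr rfl fun l _ => by rw [h6]
  calc C = C * (B * J) := by rw [hJ, mul_one]
    _ = p * (B * J) := by rw [← mul_assoc, h7, mul_assoc]
    _ = p := by rw [hJ, mul_one]

theorem Jc_chk : (Matrix.of fun i j : Fin 6 => tM (Pk j.1) i 0) * tM Jc = 1 := by decide +kernel

noncomputable def cN (a : Fin 6 → ℕ) (i j : ℕ) : ℕ :=
  a 0 * dig 3 (Pk 0) (6 * i + j) + a 1 * dig 3 (Pk 1) (6 * i + j) + a 2 * dig 3 (Pk 2) (6 * i + j) +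
  a 3 * dig 3 (Pk 3) (6 * i + j) + a 4 * dig 3 (Pk 4) (6 * i + j) + a 5 * dig 3 (Pk 5) (6 * i + j)

noncomputable def frm (e : ℕ → ℕ → ℕ) (r s : ℕ) : ℕ :=
  2 * (e r 0 * e s 3) + 2 * (e r 1 * e s 4) + 2 * (e r 2 * e s 5) + e r 3 * e s 0 + e r 4 * e s 1 + e r 5 * e s 2

noncomputable def cond (a : Fin 6 → ℕ) (s v : ℕ) : Bool := Nat.beq (frm (cN a) 0 s % 3) v

noncomputable def lcN (a : Fin 6 → ℕ) (c : ℕ) : Bool :=
  (List.finRange 6).all fun i => (List.finRange 6).all fun j =>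
    Nat.beq (cN a i.1 j.1 % 3) (dig 3 c (6 * i.1 + j.1))

theorem srch : ∀ a b c d e f : Fin 3,
    (!(cond ![a.1, b.1, c.1, d.1, e.1, f.1] 3 2) || !(cond ![a.1, b.1, c.1, d.1, e.1, f.1] 1 0) ||
      !(cond ![a.1, b.1, c.1, d.1, e.1, f.1] 5 0) ||
      (List.range 26).any fun k => lcN ![a.1, b.1, c.1, d.1, e.1, f.1] (Pk k)) = true := by
  decide +kernel

theorem lc_entry (a : Fin 6 → F3) (i j : Fin 6) :
    (∑ k : Fin 6, a k • Y ^ k.1) i j = ((cN (fun k => (a k).val) i.1 j.1 : ℕ) : F3) := by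
  rw [Matrix.sum_apply, Fin.sum_univ_six]
  have e : ∀ k : Fin 6, (a k • Y ^ k.1) i j = a k * ((dig 3 (Pk k.1) (6 * i.1 + j.1) : ℕ) : F3) := by
    intro k
    rw [Matrix.smul_apply, Y_pow k.1 (by omega), smul_eq_mul]
    rfl
  rw [e, e, e, e, e, e]
  unfold cN
  push_cast
  simp only [ZMod.natCast_zmod_val]
  rfl

/-- three entries of the symplectic condition -/
theorem sp_entries (g : Sp3) :
    (2 * (co g 0 0 * co g 3 3) + 2 * (co g 0 1 * co g 3 4) + 2 * (co g 0 2 * co g 3 5) + co g 0 3 * co g 3 0 +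
      co g 0 4 * co g 3 1 + co g 0 5 * co g 3 2 = 2) ∧
    (2 * (co g 0 0 * co g 1 3) + 2 * (co g 0 1 * co g 1 4) + 2 * (co g 0 2 * co g 1 5) + co g 0 3 * co g 1 0 +
      co g 0 4 * co g 1 1 + co g 0 5 * co g 1 2 = 0) ∧
    (2 * (co g 0 0 * co g 5 3) + 2 * (co g 0 1 * co g 5 4) + 2 * (co g 0 2 * co g 5 5) + co g 0 3 * co g 5 0 +
      co g 0 4 * co g 5 1 + co g 0 5 * co g 5 2 = 0) := by
  have h := SymplecticGroup.mem_iff.1 g.2
  obtain ⟨A, hA⟩ : ∃ A : Matrix (Fin 3 ⊕ Fin 3) (Fin 3 ⊕ Fin 3) F3, A = (g : Matrix (Fin 3 ⊕ Fin 3) (Fin 3 ⊕ Fin 3) F3) := ⟨_, rfl⟩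
  rw [← hA] at h
  have e : ∀ i j : Fin 3 ⊕ Fin 3, co g (eS i) (eS j) = A i j := by
    intro i j
    rw [hA]
    change (g : Matrix (Fin 3 ⊕ Fin 3) (Fin 3 ⊕ Fin 3) F3) (eS.symm (eS i))
      (eS.symm (eS j)) = _
    rw [Equiv.symm_apply_apply, Equiv.symm_apply_apply]
  have key : ∀ r s : Fin 3 ⊕ Fin 3, 2 * (A r (Sum.inl 0) * A s (Sum.inr 0)) + 2 * (A r (Sum.inl 1) * A s (Sum.inr 1)) +
      2 * (A r (Sum.inl 2) * A s (Sum.inr 2)) + A r (Sum.inr 0) * A s (Sum.inl 0) +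
      A r (Sum.inr 1) * A s (Sum.inl 1) + A r (Sum.inr 2) * A s (Sum.inl 2) = Matrix.J (Fin 3) F3 r s := by
    intro r s
    have h2 : (2 : F3) = -1 := by decide
    have h1 := congrFun (congrFun h r) s
    rw [← h1, h2]
    simp [Matrix.mul_apply, Fintype.sum_sum_type, Fin.sum_univ_three, Matrix.J, Matrix.one_apply]
    ring
  have k1 := key (Sum.inl 0) (Sum.inr 0)
  have k2 := key (Sum.inl 0) (Sum.inl 1)
  have k3 := key (Sum.inl 0) (Sum.inr 2)
  simp only [← e] at k1 k2 k3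
  exact ⟨k1, k2, k3⟩

theorem cent13 (g : Sp3) (hg : co g * Y = Y * co g) : (g ^ 13 : Sp3) ∈ Subgroup.center Sp3 := by
  obtain ⟨a, ha⟩ := cent_poly (co g) (tM Jc) (by
    have : (Matrix.of fun i j : Fin 6 => (Y ^ j.1) i 0) = Matrix.of fun i j : Fin 6 => tM (Pk j.1) i 0 := by
      ext i j
      rw [Matrix.of_apply, Matrix.of_apply, Y_pow j.1 (by omega)]
    rw [this]; exact Jc_chk) hg
  have hent : ∀ i j : Fin 6, co g i j = ((cN (fun k => (a k).val) i.1 j.1 : ℕ) : F3) := by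
    intro i j
    conv_lhs => rw [ha]
    exact lc_entry a i j
  obtain ⟨k1, k2, k3⟩ := sp_entries g
  have hc : ∀ (s : Fin 6) (v : ℕ), v < 3 →
      (2 * (co g 0 0 * co g s 3) + 2 * (co g 0 1 * co g s 4) + 2 * (co g 0 2 * co g s 5) + co g 0 3 * co g s 0 +
      co g 0 4 * co g s 1 + co g 0 5 * co g s 2 = ((v : ℕ) : F3)) → cond (fun k => (a k).val) s.1 v = true := by
    intro s v hv h
    unfold cond
    rw [Nat.beq_eq]
    have h1 : ((frm (cN fun k => (a k).val) 0 s.1 : ℕ) : F3) = ((v : ℕ) : F3) := by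
      rw [← h]
      unfold frm
      simp only [hent]
      push_cast
      rfl
    have h2 := (ZMod.natCast_eq_natCast_iff _ _ 3).1 h1
    rw [Nat.ModEq, Nat.mod_eq_of_lt hv] at h2
    exact h2
  have hs := srch (a 0) (a 1) (a 2) (a 3) (a 4) (a 5)
  have hv : (![(a 0 : Fin 3).1, (a 1 : Fin 3).1, (a 2 : Fin 3).1, (a 3 : Fin 3).1, (a 4 : Fin 3).1,
      (a 5 : Fin 3).1] : Fin 6 → ℕ) = fun i => (a i).val := by
    funext i; fin_cases i <;> rfl
  have hc3 := hc 3 2 (by norm_num) (by rw [k1]; rfl)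
  have hc3' : cond (fun k => (a k).val) 3 2 = true := hc3
  rw [hv, hc3'] at hs
  have hc1 := hc 1 0 (by norm_num) (by rw [k2]; rfl)
  have hc5 := hc 5 0 (by norm_num) (by rw [k3]; rfl)
  have hc1' : cond (fun k => (a k).val) 1 0 = true := hc1
  have hc5' : cond (fun k => (a k).val) 5 0 = true := hc5
  rw [hc1', hc5'] at hs
  simp only [Bool.not_true, Bool.false_or] at hs
  obtain ⟨k, hk, hk2⟩ := List.any_eq_true.1 hs
  have hk' : k < 26 := List.mem_range.1 hk
  have hY : co g = Y ^ k := by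
    rw [Y_pow k hk']
    ext i j
    rw [hent]
    unfold lcN at hk2
    have h1 := List.all_eq_true.1 (List.all_eq_true.1 hk2 i (List.mem_finRange i)) j (List.mem_finRange j)
    have h2 := Nat.eq_of_beq_eq_true h1
    have h4 : tM (Pk k) i j = ((dig 3 (Pk k) (6 * i.1 + j.1) : ℕ) : F3) := rfl
    rw [h4, ← h2, ZMod.natCast_mod]
  rw [mem_center_iff, map_pow, hY, ← pow_mul, mul_comm, pow_mul, Y_13]
  exact neg_one_pow_eq_or _ _

end CfsgLib.Spsix
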