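import Cfsg.Agent.LibSpsix1
import Cfsg.Agent.LibUthree4

/-!
The prime graph of `PSp₆(3)`, continued.
-/

set_option autoImplicit false
set_option linter.all false
set_option maxRecDepth 100000

namespace CfsgLib.Spsix

open CfsgLib.TC CfsgLib.MC Matrix

/-! ### transport -/

theorem map_J {F E : Type*} [Field F] [Field E] (σ : F →+* E) (m : ℕ) :
    (Matrix.J (Fin m) F).map σ = Matrix.J (Fin m) E := by
  ext i j
  rcases i with i | i <;> rcases j with j | j <;>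
    simp [Matrix.J, Matrix.one_apply, apply_ite σ]

theorem mem_sp_map {F E : Type*} [Field F] [Field E] (σ : F →+* E) {m : ℕ} {A : Matrix (Fin m ⊕ Fin m) (Fin m ⊕ Fin m) F}
    (hA : A ∈ Matrix.symplecticGroup (Fin m) F) : A.map σ ∈ Matrix.symplecticGroup (Fin m) E := by
  rw [SymplecticGroup.mem_iff] at hA ⊢
  rw [← map_J σ, ← Matrix.transpose_map, ← Matrix.map_mul, ← Matrix.map_mul, hA]

noncomputable def spE {F E : Type*} [Field F] [Field E] (σ : F ≃+* E) (m : ℕ) :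
    Matrix.symplecticGroup (Fin m) F ≃* Matrix.symplecticGroup (Fin m) E where
  toFun g := ⟨(g : Matrix (Fin m ⊕ Fin m) (Fin m ⊕ Fin m) F).map (σ : F →+* E), mem_sp_map _ g.2⟩
  invFun g := ⟨(g : Matrix (Fin m ⊕ Fin m) (Fin m ⊕ Fin m) E).map (σ.symm : E →+* F), mem_sp_map _ g.2⟩
  left_inv g := by
    apply Subtype.ext
    ext i j
    simp
  right_inv g := by
    apply Subtype.ext
    ext i j
    simp
  map_mul' g h := by
    apply Subtype.ext
    exact Matrix.map_mul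

theorem psp_congr {F E : Type*} [Field F] [Field E] (σ : F ≃+* E) (m : ℕ) :
    Nonempty (Cfsg.PSp m F ≃* Cfsg.PSp m E) := by
  refine ⟨QuotientGroup.congr _ _ (spE σ m) ?_⟩
  ext x
  rw [Subgroup.mem_map]
  constructor
  · rintro ⟨y, hy, rfl⟩
    rw [Subgroup.mem_center_iff] at hy ⊢
    intro g
    obtain ⟨g, rfl⟩ := (spE σ m).surjective g
    have := hy g
    calc (spE σ m) g * (spE σ m) y = spE σ m (g * y) := (map_mul _ _ _).symm
      _ = spE σ m (y * g) := by rw [this]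
      _ = _ := map_mul _ _ _
  · intro hx
    refine ⟨(spE σ m).symm x, ?_, (spE σ m).apply_symm_apply x⟩
    rw [Subgroup.mem_center_iff] at hx ⊢
    intro g
    apply (spE σ m).injective
    rw [map_mul, map_mul, (spE σ m).apply_symm_apply]
    exact hx _

theorem card_psp3 {F : Type*} [Field F] [Fintype F] (hF : Fintype.card F = 3) : Nat.card (Cfsg.PSp 3 F) = 4585351680 := by
  have h1 := Cfsg.Agent.S0245.result hF 3
  have h2 := Cfsg.Agent.H22.card_center_sp (F := F) (m := 3) (by norm_num)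
  rw [hF] at h2
  have h3 := Subgroup.card_eq_card_quotient_mul_card_subgroup (Subgroup.center (Matrix.symplecticGroup (Fin 3) F))
  rw [h1, h2] at h3
  norm_num [Finset.prod_range_succ] at h3
  change Nat.card (Matrix.symplecticGroup (Fin 3) F ⧸ Subgroup.center (Matrix.symplecticGroup (Fin 3) F)) = _
  omega

/-- if the centralizer of an element `y` of order `p` has exponent `p` then no element has order `p r` -/
theorem no_order {G : Type*} [Group G] [Finite G] {p : ℕ} (hp : p.Prime) (hG : ¬ p ^ 2 ∣ Nat.card G) {y : G}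
    (hy : orderOf y = p) (hc : ∀ c : G, c * y = y * c → c ^ p = 1) {r : ℕ} (hr : 1 < r) (x : G) : orderOf x ≠ p * r := by
  intro hx
  haveI : Fact p.Prime := ⟨hp⟩
  have hu : orderOf (x ^ r) = p := by
    rw [orderOf_pow, hx, Nat.gcd_eq_right (Dvd.intro_left p rfl), Nat.mul_div_cancel _ (by omega)]
  obtain ⟨t, ht⟩ := CfsgLib.Uthree.conj_pow hG hu hy
  obtain ⟨m, hm⟩ := Subgroup.mem_zpowers_iff.1 ht
  have hcomm : x * (t * y * t⁻¹) = (t * y * t⁻¹) * x := by
    rw [← hm]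
    exact ((Commute.refl x).pow_right r).zpow_right m
  have h1 : (t⁻¹ * x * t) * y = y * (t⁻¹ * x * t) := by
    calc (t⁻¹ * x * t) * y = t⁻¹ * (x * (t * y * t⁻¹)) * t := by group
      _ = t⁻¹ * ((t * y * t⁻¹) * x) * t := by rw [hcomm]
      _ = y * (t⁻¹ * x * t) := by group
  have h2 := hc _ h1
  have h3 : x ^ p = 1 := by
    have h4 : (t⁻¹ * x * t) ^ p = t⁻¹ * x ^ p * t := by
      have := (_root_.conj_pow (i := p) (a := t⁻¹) (b := x))
      rwa [inv_inv] at this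
    rw [h4] at h2
    calc x ^ p = t * (t⁻¹ * x ^ p * t) * t⁻¹ := by group
      _ = 1 := by rw [h2]; group
  have h5 : p * r ∣ p := hx ▸ orderOf_dvd_of_pow_eq_one h3
  have h6 := Nat.le_of_dvd hp.pos h5
  have := hp.pos
  nlinarith

/-! ### the element of order 13 -/

theorem Y_eq : Y = tM 134495322184277111 := rfl

noncomputable def gY : Sp3 := mk J26

theorem co_gY : co gY = Y := co_mk J26

theorem center_sq (z : Sp3) (hz : z ∈ Subgroup.center Sp3) (h : z ^ 13 = 1) : z = 1 := by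
  have h2 : z ^ 2 = 1 := by
    apply co_inj
    rw [map_pow, map_one]
    rcases (mem_center_iff z).1 hz with h | h
    · rw [h, one_pow]
    · rw [h]
      exact neg_one_sq
  calc z = z ^ 13 * ((z ^ 2) ^ 6)⁻¹ := by group
    _ = 1 := by rw [h, h2, one_pow]; group

theorem gY13 : gY ^ 13 ∈ Subgroup.center Sp3 := by
  rw [mem_center_iff, map_pow, co_gY, Y_13]
  right; rfl

noncomputable def yb : PS3 := QuotientGroup.mk gY

theorem ord_yb : orderOf yb = 13 := by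
  haveI : Fact (Nat.Prime 13) := ⟨by norm_num⟩
  apply orderOf_eq_prime
  · rw [yb, ← QuotientGroup.mk_pow, QuotientGroup.eq_one_iff]
    exact gY13
  · intro h
    rw [yb, QuotientGroup.eq_one_iff, mem_center_iff, co_gY, Y_eq] at h
    exact absurd h (by decide +kernel)

theorem cent_yb (c : PS3) (hc : c * yb = yb * c) : c ^ 13 = 1 := by
  obtain ⟨g, rfl⟩ := QuotientGroup.mk_surjective c
  rw [yb, ← QuotientGroup.mk_mul, ← QuotientGroup.mk_mul, QuotientGroup.eq] at hc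
  -- hc : (g * gY)⁻¹ * (gY * g) ∈ center
  obtain ⟨z, hz⟩ : ∃ z, z = (g * gY)⁻¹ * (gY * g) := ⟨_, rfl⟩
  rw [← hz] at hc
  have hzc := Subgroup.mem_center_iff.1 hc
  have h1 : gY * g = g * gY * z := by rw [hz]; group
  have h2 : ∀ n : ℕ, gY ^ n * g = g * gY ^ n * z ^ n := by
    intro n
    induction n with
    | zero => simp
    | succ n ih =>
      calc gY ^ (n + 1) * g = gY ^ n * (gY * g) := by rw [pow_succ, mul_assoc]
        _ = (gY ^ n * g) * gY * z := by rw [h1]; group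
        _ = g * gY ^ n * (z ^ n * gY) * z := by rw [ih]; group
        _ = g * gY ^ n * (gY * z ^ n) * z := by
            rw [(Commute.pow_left (show Commute z gY from (hzc gY).symm) n)]
        _ = g * gY ^ (n + 1) * z ^ (n + 1) := by rw [pow_succ, pow_succ]; group
  have h3 := h2 13
  have h4 := Subgroup.mem_center_iff.1 gY13 g
  rw [← h4] at h3
  have h5 : z ^ 13 = 1 := (mul_eq_left.1 h3.symm)
  have h6 := center_sq z hc h5
  rw [h6, mul_one] at h1
  rw [← QuotientGroup.mk_pow, QuotientGroup.eq_one_iff]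
  apply cent13 g
  rw [← co_gY, ← map_mul, ← map_mul, h1]

theorem zo5 : orderOf ((3 : ℕ) : ZMod 5) = 4 := by
  refine (orderOf_eq_iff (by norm_num)).2 ⟨by decide, ?_⟩
  intro m hm h0
  interval_cases m <;> decide

theorem zo7 : orderOf ((3 : ℕ) : ZMod 7) = 6 := by
  refine (orderOf_eq_iff (by norm_num)).2 ⟨by decide, ?_⟩
  intro m hm h0
  interval_cases m <;> decide

theorem zo13 : orderOf ((3 : ℕ) : ZMod 13) = 3 := by
  refine (orderOf_eq_iff (by norm_num)).2 ⟨by decide, ?_⟩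
  intro m hm h0
  interval_cases m <;> decide

/-- the edges -/
def Edge (r s : ℕ) : Prop :=
  (r = 2 ∧ s = 3) ∨ (r = 3 ∧ s = 2) ∨ (r = 2 ∧ s = 5) ∨ (r = 5 ∧ s = 2) ∨ (r = 2 ∧ s = 7) ∨ (r = 7 ∧ s = 2) ∨
  (r = 3 ∧ s = 5) ∨ (r = 5 ∧ s = 3)

/-- a group with the prime graph of `PSp₆(3)` -/
structure Good (G : Type*) [Group G] : Prop where
  vert : ∀ r : ℕ, r.Prime → (r ∣ Nat.card G ↔ (r = 2 ∨ r = 3 ∨ r = 5 ∨ r = 7 ∨ r = 13))
  e23 : ∃ x : G, orderOf x = 2 * 3
  e25 : ∃ x : G, orderOf x = 2 * 5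
  e27 : ∃ x : G, orderOf x = 2 * 7
  e35 : ∃ x : G, orderOf x = 3 * 5
  n2_13 : ∀ x : G, orderOf x ≠ 2 * 13
  n3_7 : ∀ x : G, orderOf x ≠ 3 * 7
  n3_13 : ∀ x : G, orderOf x ≠ 3 * 13
  n5_7 : ∀ x : G, orderOf x ≠ 5 * 7
  n5_13 : ∀ x : G, orderOf x ≠ 5 * 13
  n7_13 : ∀ x : G, orderOf x ≠ 7 * 13

theorem Good.edge {G : Type*} [Group G] (h : Good G) (r s : ℕ) (hr : r.Prime) (hs : s.Prime) (hrs : r ≠ s) :
    (∃ x : G, orderOf x = r * s) ↔ Edge r s := by
  have hv : ∀ x : G, orderOf x = r * s → (r = 2 ∨ r = 3 ∨ r = 5 ∨ r = 7 ∨ r = 13) ∧ (s = 2 ∨ s = 3 ∨ s = 5 ∨ s = 7 ∨ s = 13) := by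
    intro x hx
    have h1 := orderOf_dvd_natCard x
    rw [hx] at h1
    exact ⟨(h.vert r hr).1 ((Dvd.intro _ rfl).trans h1), (h.vert s hs).1 ((Dvd.intro_left _ rfl).trans h1)⟩
  constructor
  · rintro ⟨x, hx⟩
    obtain ⟨h1, h2⟩ := hv x hx
    unfold Edge
    have h26 := h.n2_13 x
    have h21 := h.n3_7 x
    have h39 := h.n3_13 x
    have h35 := h.n5_7 x
    have h65 := h.n5_13 x
    have h91 := h.n7_13 x
    rw [hx] at h26 h21 h39 h35 h65 h91
    rcases h1 with rfl | rfl | rfl | rfl | rfl <;> rcases h2 with rfl | rfl | rfl | rfl | rfl <;> simp at hrs h26 h21 h39 h35 h65 h91 ⊢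
  · intro hE
    unfold Edge at hE
    rcases hE with ⟨rfl, rfl⟩ | ⟨rfl, rfl⟩ | ⟨rfl, rfl⟩ | ⟨rfl, rfl⟩ | ⟨rfl, rfl⟩ | ⟨rfl, rfl⟩ | ⟨rfl, rfl⟩ | ⟨rfl, rfl⟩
    · exact h.e23
    · exact h.e23
    · exact h.e25
    · exact h.e25
    · exact h.e27
    · exact h.e27
    · exact h.e35
    · exact h.e35

theorem good_PS3 {F : Type*} [Field F] [Fintype F] (hF : Fintype.card F = 3) : Good (Cfsg.PSp 3 F) := by
  obtain ⟨σ⟩ : Nonempty (F ≃+* F3) := by
    classical
    exact ⟨FiniteField.ringEquivOfCardEq (by rw [hF, ZMod.card])⟩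
  obtain ⟨e⟩ := psp_congr σ 3
  haveI hchar : CharP F 3 := by
    obtain ⟨p, hp⟩ := CharP.exists F
    haveI := hp
    obtain ⟨n, hpp, hn⟩ := FiniteField.card F p
    rw [hF] at hn
    have h1 : p ∣ 3 := by rw [hn]; exact dvd_pow_self p n.ne_zero
    have h2 : p = 3 := (Nat.prime_dvd_prime_iff_eq hpp (by norm_num)).1 h1
    rw [← h2]; exact hp
  have hcard := card_psp3 hF
  have hcard3 : Nat.card PS3 = 4585351680 := card_psp3 (F := F3) (by rw [ZMod.card])
  haveI : Finite PS3 := Nat.finite_of_card_ne_zero (by rw [hcard3]; norm_num)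
  have hvert : ∀ r : ℕ, r.Prime → (r ∣ Nat.card (Cfsg.PSp 3 F) ↔ (r = 2 ∨ r = 3 ∨ r = 5 ∨ r = 7 ∨ r = 13)) := by
    intro r hr
    rw [hcard]
    constructor
    · intro h
      have h7 : (4585351680 : ℕ) = 2 ^ 9 * (3 ^ 9 * (5 * (7 * 13))) := by norm_num
      rw [h7] at h
      rcases (Nat.Prime.dvd_mul hr).1 h with h | h
      · left; exact (Nat.prime_dvd_prime_iff_eq hr Nat.prime_two).1 (hr.dvd_of_dvd_pow h)
      rcases (Nat.Prime.dvd_mul hr).1 h with h | h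
      · right; left; exact (Nat.prime_dvd_prime_iff_eq hr Nat.prime_three).1 (hr.dvd_of_dvd_pow h)
      rcases (Nat.Prime.dvd_mul hr).1 h with h | h
      · right; right; left; exact (Nat.prime_dvd_prime_iff_eq hr (by norm_num)).1 h
      rcases (Nat.Prime.dvd_mul hr).1 h with h | h
      · right; right; right; left; exact (Nat.prime_dvd_prime_iff_eq hr (by norm_num)).1 h
      · right; right; right; right; exact (Nat.prime_dvd_prime_iff_eq hr (by norm_num)).1 h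
    · rintro (rfl | rfl | rfl | rfl | rfl) <;> norm_num
  have htr : ∀ n : ℕ, (∃ x : PS3, orderOf x = n) → ∃ x : Cfsg.PSp 3 F, orderOf x = n := by
    rintro n ⟨x, hx⟩
    exact ⟨e.symm x, by rw [MulEquiv.orderOf_eq, hx]⟩
  haveI f5 : Fact (Nat.Prime 5) := ⟨by norm_num⟩
  haveI f7 : Fact (Nat.Prime 7) := ⟨by norm_num⟩
  haveI f13 : Fact (Nat.Prime 13) := ⟨by norm_num⟩
  have o5 : orderOf ((Fintype.card F : ℕ) : ZMod 5) = 4 := by
    rw [hF]; exact zo5
  have o7 : orderOf ((Fintype.card F : ℕ) : ZMod 7) = 6 := by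
    rw [hF]; exact zo7
  have o13 : orderOf ((Fintype.card F : ℕ) : ZMod 13) = 3 := by
    rw [hF]; exact zo13
  have v5 := (hvert 5 (by norm_num)).2 (by norm_num)
  have v7 := (hvert 7 (by norm_num)).2 (by norm_num)
  have v13 := (hvert 13 (by norm_num)).2 (by norm_num)
  have t5 := Cfsg.Agent.S2472.result (F := F) 3 3 (by norm_num) (by norm_num) 5 (by norm_num) (by norm_num) (by norm_num) v5 4 2 o5.symm
    (Or.inr ⟨⟨2, rfl⟩, rfl⟩)
  have t7 := Cfsg.Agent.S2472.result (F := F) 3 3 (by norm_num) (by norm_num) 7 (by norm_num) (by norm_num) (by norm_num) v7 6 3 o7.symm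
    (Or.inr ⟨⟨3, rfl⟩, rfl⟩)
  have t13 := Cfsg.Agent.S2472.result (F := F) 3 3 (by norm_num) (by norm_num) 13 (by norm_num) (by norm_num) (by norm_num) v13 3 3 o13.symm
    (Or.inl ⟨⟨1, rfl⟩, rfl⟩)
  have a57 := Cfsg.Agent.S2469.result (F := F) 3 3 (by norm_num) (by norm_num) 5 7 (by norm_num) (by norm_num) (by norm_num) (by norm_num)
    (by norm_num) (by norm_num) (by norm_num) v5 v7 4 6 2 3 o5.symm o7.symm (Or.inr ⟨⟨2, rfl⟩, rfl⟩) (Or.inr ⟨⟨3, rfl⟩, rfl⟩) (by norm_num)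
  have a513 := Cfsg.Agent.S2469.result (F := F) 3 3 (by norm_num) (by norm_num) 5 13 (by norm_num) (by norm_num) (by norm_num) (by norm_num)
    (by norm_num) (by norm_num) (by norm_num) v5 v13 4 3 2 3 o5.symm o13.symm (Or.inr ⟨⟨2, rfl⟩, rfl⟩) (Or.inl ⟨⟨1, rfl⟩, rfl⟩) (by norm_num)
  have a713 := Cfsg.Agent.S2469.result (F := F) 3 3 (by norm_num) (by norm_num) 7 13 (by norm_num) (by norm_num) (by norm_num) (by norm_num)
    (by norm_num) (by norm_num) (by norm_num) v7 v13 6 3 3 3 o7.symm o13.symm (Or.inr ⟨⟨3, rfl⟩, rfl⟩) (Or.inl ⟨⟨1, rfl⟩, rfl⟩) (by norm_num)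
  refine ⟨hvert, htr _ ex6, htr _ ex10, htr _ ex14, ?_, ?_, ?_, ?_, ?_, ?_, ?_⟩
  · have h1 : ¬ (5 * 3 ∉ Set.range (orderOf : Cfsg.PSp 3 F → ℕ)) := fun h => absurd (t5.1 h) (by norm_num)
    rw [not_not] at h1
    obtain ⟨x, hx⟩ := h1
    exact ⟨x, by rw [hx]⟩
  · intro x hx
    refine no_order (p := 13) (by norm_num) (by rw [hcard3]; norm_num) ord_yb cent_yb (r := 2) (by norm_num) (e x) ?_
    rw [MulEquiv.orderOf_eq, hx]
  · intro x hx
    exact t7.2 (by norm_num) ⟨x, by rw [hx]⟩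
  · intro x hx
    exact t13.2 (by norm_num) ⟨x, by rw [hx]⟩
  · intro x hx
    refine a57.2 ⟨by norm_num, ?_⟩ ⟨x, hx⟩
    rintro ⟨t, -, ht⟩; omega
  · intro x hx
    refine a513.2 ⟨by norm_num, ?_⟩ ⟨x, hx⟩
    rintro ⟨t, -, ht⟩; omega
  · intro x hx
    refine a713.2 ⟨by norm_num, ?_⟩ ⟨x, hx⟩
    rintro ⟨t, -, ht⟩; omega

end CfsgLib.Spsix
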