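import Cfsg.Statements.S2238
import Mathlib
import Cfsg.Agent.LibSuz10
-- import your own Cfsg.Agent.* helpers here

set_option autoImplicit false
open Cfsg

namespace Cfsg.Agent.S2238

open Cfsg.Agent.Suz
open CfsgLib.TIConj Cfsg.Agent.TICount
open scoped Pointwise

variable {F : Type*} [Field F] [Fintype F] {O : Set (Projectivization F (Fin 4 → F))} {m : ℕ}

theorem bounds (D : Data F O m) : 2 ^ (m + 1) + 4 ≤ 2 ^ (2 * m + 1) ∧ 4 ≤ 2 ^ (m + 1) ∧
    2 ^ (m + 1) * 2 ^ (m + 1) = 2 * 2 ^ (2 * m + 1) := by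
  have hm := D.hm
  refine ⟨?_, ?_, ?_⟩
  · have h1 : 2 * 2 ^ (m + 1) ≤ 2 ^ (2 * m + 1) := by
      rw [← pow_succ']
      exact Nat.pow_le_pow_right (by norm_num) (by omega)
    have h2 : 2 ^ 2 ≤ 2 ^ (m + 1) := Nat.pow_le_pow_right (by norm_num) (by omega)
    omega
  · have : 2 ^ 2 ≤ 2 ^ (m + 1) := Nat.pow_le_pow_right (by norm_num) (by omega)
    omega
  · rw [← pow_add, ← pow_succ']
    congr 1
    ring

/-- the three orders are coprime to the Sylow order -/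
theorem odd_of (D : Data F O m) {k : ℕ}
    (hk : k = 2 ^ (2 * m + 1) - 1 ∨ k = 2 ^ (2 * m + 1) + 2 ^ (m + 1) + 1 ∨ k = 2 ^ (2 * m + 1) - 2 ^ (m + 1) + 1) :
    Nat.Coprime ((2 ^ (2 * m + 1)) ^ 2) k := by
  rw [← pow_mul]
  apply Nat.Coprime.pow_left
  rw [Nat.coprime_two_left, Nat.odd_iff]
  obtain ⟨h1, h4, -⟩ := bounds D
  have h2 : 2 ∣ 2 ^ (2 * m + 1) := dvd_pow_self 2 (by omega)
  have h3 : 2 ∣ 2 ^ (m + 1) := dvd_pow_self 2 (by omega)
  omega

theorem mul_tor (D : Data F O m) : (2 ^ (2 * m + 1) + 2 ^ (m + 1) + 1) * (2 ^ (2 * m + 1) - 2 ^ (m + 1) + 1)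
    = (2 ^ (2 * m + 1)) ^ 2 + 1 := by
  obtain ⟨h1, h4, h2⟩ := bounds D
  generalize 2 ^ (2 * m + 1) = q at *
  generalize 2 ^ (m + 1) = s at *
  obtain ⟨r, rfl⟩ : ∃ r, q = r + s := ⟨q - s, by omega⟩
  rw [Nat.add_sub_cancel]
  nlinarith

/-- the unique subgroup -/
theorem uniq (D : Data F O m) {x : Gp O} {A : Subgroup (Gp O)} {k : ℕ} (hx : x ∈ A) (hx1 : x ≠ 1)
    (hcyc : IsCyclic A) (hA : Nat.card A = k)
    (hk : k = 2 ^ (2 * m + 1) - 1 ∨ k = 2 ^ (2 * m + 1) + 2 ^ (m + 1) + 1 ∨ k = 2 ^ (2 * m + 1) - 2 ^ (m + 1) + 1) :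
    A = Subgroup.centralizer {x} ∧ x ∉ XX D.Us := by
  have hAc : A ≤ Subgroup.centralizer {x} := by
    intro y hy
    rw [Subgroup.mem_centralizer_singleton_iff]
    have h3 := (IsCyclic.isMulCommutative (α := A)).is_comm.comm ⟨y, hy⟩ ⟨x, hx⟩
    exact congrArg Subtype.val h3
  have hd : k ∣ Nat.card (Subgroup.centralizer ({x} : Set (Gp O))) := by
    rw [← hA]; exact Subgroup.card_dvd_of_le hAc
  have hxU : x ∉ XX D.Us := by
    intro h
    have h1 := ord_XX h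
    rw [D.card_Us] at h1
    have h2 := order_dvd_of_mem hx
    rw [hA] at h2
    have h3 := Nat.dvd_gcd h1 h2
    rw [odd_of D hk, Nat.dvd_one] at h3
    exact hx1 (orderOf_eq_one_iff.mp h3)
  refine ⟨?_, hxU⟩
  obtain ⟨hb1, hb3, hb2⟩ := bounds D
  have hmt := mul_tor D
  have hk1 : 1 < k := by
    have := D.q_ge
    rcases hk with h | h | h <;> omega
  apply Subgroup.eq_of_le_of_card_ge hAc
  rw [hA]
  have hco := D.coprime_q1
  rcases D.cases hx1 with ⟨C, hC, hxC⟩ | h | h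
  · rw [D.T_cent hC hxC hx1] at hd ⊢
    have h4 := hd.trans (D.T_card_dvd hC)
    have hkne : k ≠ 2 ^ (2 * m + 1) - 1 := by
      rintro rfl
      have := Nat.Coprime.eq_one_of_dvd hco.symm h4
      omega
    rcases hk with h | h | h
    · exact absurd h hkne
    · rcases D.tori_card hC with h5 | h5 <;> omega
    · rcases D.tori_card hC with h5 | h5
      · -- `q - 2r + 1` divides `q + 2r + 1`: coprime
        exfalso
        rw [h5, h] at hd
        have h6 : 2 ^ (2 * m + 1) - 2 ^ (m + 1) + 1 ∣ 2 * 2 ^ (m + 1) := by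
          have h7 := Nat.dvd_sub hd (dvd_refl _)
          have h8 : 2 ^ (2 * m + 1) + 2 ^ (m + 1) + 1 - (2 ^ (2 * m + 1) - 2 ^ (m + 1) + 1) = 2 * 2 ^ (m + 1) := by omega
          rwa [h8] at h7
        have h9 : Nat.Coprime (2 ^ (2 * m + 1) - 2 ^ (m + 1) + 1) (2 * 2 ^ (m + 1)) := by
          rw [← pow_succ']
          apply Nat.Coprime.pow_right
          rw [Nat.coprime_comm, Nat.coprime_two_left, Nat.odd_iff]
          have h2 : 2 ∣ 2 ^ (2 * m + 1) := dvd_pow_self 2 (by omega)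
          have h3 : 2 ∣ 2 ^ (m + 1) := dvd_pow_self 2 (by omega)
          omega
        have := Nat.Coprime.eq_one_of_dvd h9 h6
        omega
      · omega
  · obtain ⟨-, g, hg⟩ := h
    have hx' : g⁻¹ * x * g ≠ 1 := by
      intro h
      apply hx1
      have : x = g * (g⁻¹ * x * g) * g⁻¹ := by group
      rw [this, h]; group
    have h5 := D.H_cent hg hx'
    have h6 := Data.conj_cent g⁻¹ x
    rw [inv_inv] at h6
    rw [h5] at h6
    rw [h6, card_conj, card_hr D] at hd ⊢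
    have := Nat.le_of_dvd (by have := D.q_ge; omega) hd
    rcases hk with h | h | h
    · omega
    · omega
    · exfalso
      have h7 : k ∣ (2 ^ (2 * m + 1)) ^ 2 + 1 := by
        rw [h, ← hmt]; exact Dvd.intro_left _ rfl
      have := Nat.Coprime.eq_one_of_dvd (Nat.Coprime.coprime_dvd_left h7 hco) hd
      omega
  · exact absurd h hxU

/-- The partition of the Suzuki group: with q = 2^(2m+1), m ≥ 1, r = 2^m and the Suzuki group realised as the stabiliser in SL₄ of the Suzuki–Tits ovoid, every non-identity element lies in exactly one subgroup that is either a Sylow 2-subgroup or a cyclic subgroup of order q − 1, q + 2r + 1 or q − 2r + 1. -/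
theorem result {F : Type*} [Field F] [Fintype F] {m : ℕ} (hm : 1 ≤ m) (hF : Fintype.card F = 2 ^ (2 * m + 1)) (g : ↥(Cfsg.Sz F m)) (hg : g ≠ 1) :
    ∃! U : Subgroup ↥(Cfsg.Sz F m), ((∃ P : Sylow 2 ↥(Cfsg.Sz F m), U = (P : Subgroup ↥(Cfsg.Sz F m))) ∨
      (IsCyclic ↥U ∧ Nat.card ↥U ∈ ({2 ^ (2 * m + 1) - 1, 2 ^ (2 * m + 1) + 2 ^ (m + 1) + 1, 2 ^ (2 * m + 1) - 2 ^ (m + 1) + 1} : Set ℕ))) ∧ g ∈ U := by
  have D := Cfsg.Agent.Suz.data hm hF
  have hPU : ∀ P : Sylow 2 (Cfsg.Sz F m), ∀ x ∈ P, x ≠ 1 → x ∈ XX D.Us := by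
    intro P x hx hx1
    obtain ⟨k, hk⟩ := D.sylow_conj P
    have hx' : x ∈ (P : Subgroup (Cfsg.Sz F m)) := hx
    rw [hk, mem_conj] at hx'
    exact ⟨hx1, k, hx'⟩
  have hk3 : ∀ k, k ∈ ({2 ^ (2 * m + 1) - 1, 2 ^ (2 * m + 1) + 2 ^ (m + 1) + 1, 2 ^ (2 * m + 1) - 2 ^ (m + 1) + 1} : Set ℕ) ↔
      (k = 2 ^ (2 * m + 1) - 1 ∨ k = 2 ^ (2 * m + 1) + 2 ^ (m + 1) + 1 ∨ k = 2 ^ (2 * m + 1) - 2 ^ (m + 1) + 1) :=
    fun k => Iff.rfl
  -- uniqueness of the Sylow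
  have hSu : ∀ P P' : Sylow 2 (Cfsg.Sz F m), ∀ x ∈ P, x ≠ 1 → x ∈ P' → (P : Subgroup (Cfsg.Sz F m)) = P' := by
    intro P P' x hx hx1 hx'
    obtain ⟨k, hk⟩ := D.sylow_conj P
    obtain ⟨k', hk'⟩ := D.sylow_conj P'
    have h1 : x ∈ (P : Subgroup (Cfsg.Sz F m)) := hx
    have h2 : x ∈ (P' : Subgroup (Cfsg.Sz F m)) := hx'
    rw [hk, D.mem_conj_Us] at h1
    rw [hk', D.mem_conj_Us] at h2
    obtain ⟨a, b, h1⟩ := h1
    obtain ⟨c, d, h2⟩ := h2
    have hne : ¬ (a = 0 ∧ b = 0) := by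
      rintro ⟨rfl, rfl⟩
      apply hx1
      rw [h1, D.u_zero]; group
    -- `k • ∞ = k' • ∞`
    have h3 : k'⁻¹ * k ∈ Subgroup.normalizer (D.Us : Set (Cfsg.Sz F m)) := by
      rw [D.normalizer_Us]
      have h4 : x • (k' • inf F) = k' • inf F := by
        rw [h2, mul_smul, mul_smul, inv_smul_smul, D.u_inf]
      have h5 : D.u a b • ((k⁻¹ * k') • inf F) = (k⁻¹ * k') • inf F := by
        have e : D.u a b = k⁻¹ * x * k := by rw [h1]; group
        rw [e, mul_smul, mul_smul, mul_smul, smul_inv_smul, h4]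
      have h6 : (k⁻¹ * k') • inf F = inf F := by
        rcases (D.hO _).mp (D.smul_mem (k⁻¹ * k') D.inf_mem) with h | ⟨y, z, h⟩
        · exact h
        · exfalso
          rw [h] at h5
          exact hne (D.u_fix h5)
      change (k'⁻¹ * k) • inf F = inf F
      have e : k'⁻¹ * k = (k⁻¹ * k')⁻¹ := by group
      rw [e, inv_smul_eq_iff, h6]
    rw [← conj_eq_iff] at h3
    have e : k = k' * (k'⁻¹ * k) := by group
    rw [hk, hk', e, ← conj_conj, h3]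
  rcases D.cases hg with ⟨C, hC, hgC⟩ | h | h
  · have hcyc := D.T_cyclic hC
    have hCk := D.tori_card hC
    refine ⟨C, ⟨Or.inr ⟨hcyc, ?_⟩, hgC⟩, ?_⟩
    · rw [hk3]
      exact Or.inr hCk
    · rintro U ⟨⟨P, rfl⟩ | ⟨hUc, hUk⟩, hgU⟩
      · exfalso
        exact (uniq D hgC hg hcyc rfl (Or.inr hCk)).2 (hPU P g hgU hg)
      · rw [hk3] at hUk
        rw [(uniq D hgC hg hcyc rfl (Or.inr hCk)).1]
        exact (uniq D hgU hg hUc rfl hUk).1
  · obtain ⟨-, x, hx⟩ := h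
    have hmem : g ∈ D.hhom.range.map (MulAut.conj x).toMonoidHom := mem_conj.mpr hx
    have hcyc := D.cyclic_range x
    have hcard : Nat.card (D.hhom.range.map (MulAut.conj x).toMonoidHom) = 2 ^ (2 * m + 1) - 1 := by
      rw [card_conj, card_hr D]
    refine ⟨D.hhom.range.map (MulAut.conj x).toMonoidHom, ⟨Or.inr ⟨hcyc, ?_⟩, hmem⟩, ?_⟩
    · rw [hk3]
      exact Or.inl hcard
    · rintro U ⟨⟨P, rfl⟩ | ⟨hUc, hUk⟩, hgU⟩
      · exfalso
        exact (uniq D hmem hg hcyc rfl (Or.inl hcard)).2 (hPU P g hgU hg)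
      · rw [hk3] at hUk
        rw [(uniq D hmem hg hcyc rfl (Or.inl hcard)).1]
        exact (uniq D hgU hg hUc rfl hUk).1
  · have hh := h
    obtain ⟨-, x, hx⟩ := h
    let P : Sylow 2 (Cfsg.Sz F m) := x • D.sylowU
    have hPx : (P : Subgroup (Cfsg.Sz F m)) = D.Us.map (MulAut.conj x).toMonoidHom := by
      change ((x • D.sylowU : Sylow 2 (Cfsg.Sz F m)) : Subgroup (Cfsg.Sz F m)) = _
      rw [Sylow.coe_subgroup_smul, D.coe_sylowU]
      rfl
    have hgP : g ∈ (P : Subgroup (Cfsg.Sz F m)) := by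
      rw [hPx, mem_conj]
      exact hx
    refine ⟨P, ⟨Or.inl ⟨P, rfl⟩, hgP⟩, ?_⟩
    rintro U ⟨⟨P', rfl⟩ | ⟨hUc, hUk⟩, hgU⟩
    · exact hSu P' P g hgU hg hgP
    · exfalso
      rw [hk3] at hUk
      exact (uniq D hgU hg hUc rfl hUk).2 hh

end Cfsg.Agent.S2238
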