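import Cfsg.Agent.LibSpsix2
import Cfsg.Agent.LibSuz13
import Cfsg.Agent.S2238

/-!
The group `Sz(8) : 3` and its action on `4 × 4` matrices.
-/

set_option autoImplicit false
set_option linter.all false
set_option maxRecDepth 100000

namespace CfsgLib.Spsix

open Matrix

/-- the field with eight elements -/
def F8 : Type := Fin 8

namespace F8

instance : DecidableEq F8 := inferInstanceAs (DecidableEq (Fin 8))
instance : Fintype F8 := inferInstanceAs (Fintype (Fin 8))

def MUL : ℕ := 0x73157889d3f0cfa868356ee0467b98bcbd10fac688000000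
def INV : ℕ := 0x8d7d48

def add (a b : F8) : F8 := ⟨Nat.mod (Nat.xor a.1 b.1) 8, Nat.mod_lt _ (by norm_num)⟩
def mul (a b : F8) : F8 := ⟨Nat.mod (Nat.shiftRight MUL (Nat.mul 3 (Nat.add (Nat.mul 8 a.1) b.1))) 8, Nat.mod_lt _ (by norm_num)⟩
def inv (a : F8) : F8 := ⟨Nat.mod (Nat.shiftRight INV (Nat.mul 3 a.1)) 8, Nat.mod_lt _ (by norm_num)⟩

instance : Add F8 := ⟨add⟩
instance : Mul F8 := ⟨mul⟩
instance : Zero F8 := ⟨(0 : Fin 8)⟩
instance : One F8 := ⟨(1 : Fin 8)⟩
instance : Neg F8 := ⟨id⟩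
instance : Inv F8 := ⟨inv⟩

instance : CommRing F8 where
  add_assoc := by decide +kernel
  zero_add := by decide +kernel
  add_zero := by decide +kernel
  nsmul := nsmulRec
  neg_add_cancel := by decide +kernel
  zsmul := zsmulRec
  add_comm := by decide +kernel
  mul_assoc := by decide +kernel
  one_mul := by decide +kernel
  mul_one := by decide +kernel
  left_distrib := by decide +kernel
  right_distrib := by decide +kernel
  mul_comm := by decide +kernel
  zero_mul := by decide +kernel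
  mul_zero := by decide +kernel

instance : Field F8 where
  exists_pair_ne := ⟨0, 1, by decide⟩
  mul_inv_cancel := by decide +kernel
  inv_zero := by decide +kernel
  nnqsmul := _
  nnqsmul_def := fun _ _ => rfl
  qsmul := _
  qsmul_def := fun _ _ => rfl

theorem card : Fintype.card F8 = 8 := rfl

end F8

/-- element with a given code -/
def e8 (n : ℕ) : F8 := ⟨Nat.mod n 8, Nat.mod_lt _ (by norm_num)⟩

abbrev M4 := Matrix (Fin 4) (Fin 4) F8

/-- matrix with a given code -/
def m8 (n : ℕ) : M4 := Matrix.of fun i j => e8 (Nat.shiftRight n (Nat.mul 3 (Nat.add (Nat.mul 4 i.1) j.1)))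

/-- Frobenius -/
def frE : F8 ≃+* F8 where
  toFun x := x * x
  invFun x := (x * x) * (x * x)
  left_inv := by unfold Function.LeftInverse; decide +kernel
  right_inv := by unfold Function.RightInverse Function.LeftInverse; decide +kernel
  map_mul' := by decide +kernel
  map_add' := by decide +kernel

theorem frE_apply (x : F8) : frE x = x * x := rfl

/-- fourth power -/
def S4 : F8 →+* F8 where
  toFun x := x ^ 4
  map_one' := by decide +kernel
  map_zero' := by decide +kernel
  map_mul' := by decide +kernel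
  map_add' := by decide +kernel

open Cfsg.Agent.Suz

abbrev OO := Cfsg.suzukiOvoid F8 1

noncomputable def DD : Data F8 OO 1 := data (m := 1) le_rfl F8.card

theorem DS : DD.S = S4 := by
  apply RingHom.ext
  intro x
  exact DD.hSp x

abbrev G0 := ↥(Gp OO)

theorem card_G0 : Nat.card G0 = 29120 := by
  rw [DD.card_G]
  norm_num

instance : Finite G0 := Nat.finite_of_card_ne_zero (by rw [card_G0]; norm_num)

theorem ord_G0 (g : G0) : orderOf g ∣ 64 ∨ orderOf g ∣ 7 ∨ orderOf g ∣ 13 ∨ orderOf g ∣ 5 := by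
  by_cases hg : g = 1
  · left; rw [hg, orderOf_one]; exact one_dvd _
  obtain ⟨U, ⟨hU, hgU⟩, -⟩ := Cfsg.Agent.S2238.result (F := F8) (m := 1) le_rfl F8.card g hg
  have h1 : orderOf g ∣ Nat.card U := Subgroup.orderOf_dvd_natCard U hgU
  rcases hU with ⟨P, rfl⟩ | ⟨-, h⟩
  · left
    have h2 : Nat.card (P : Subgroup G0) = 2 ^ 6 := by
      rw [Sylow.card_eq_multiplicity]
      have h3 : Nat.card ↥(Cfsg.Sz F8 1) = 2 ^ 6 * 455 := card_G0
      rw [h3, Nat.factorization_mul (by norm_num) (by norm_num), Finsupp.add_apply, Nat.factorization_pow]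
      simp [Nat.Prime.factorization_self Nat.prime_two, Nat.factorization_eq_zero_of_not_dvd (show ¬ 2 ∣ 455 by norm_num)]
    rw [h2] at h1
    exact h1
  · right
    rcases h with h | h | h
    · left; rw [h] at h1; exact h1
    · right; left; rw [h] at h1; exact h1
    · right; right; rw [h] at h1; exact h1

/-! ### the automorphisms -/

theorem hS (τ : F8 ≃+* F8) (x : F8) : DD.S ((τ : F8 →+* F8) x) = (τ : F8 →+* F8) (DD.S x) := by
  rw [DD.hSp, DD.hSp, map_pow]

noncomputable def thH (τ : F8 ≃+* F8) : G0 →* G0 := Cfsg.Agent.Suz13.Phi DD DD (τ : F8 →+* F8) (hS τ)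

theorem thH_val (τ : F8 ≃+* F8) (g : G0) : (thH τ g).1.1 = g.1.1.map τ := rfl

theorem g0_ext {g h : G0} (H : g.1.1 = h.1.1) : g = h := Subtype.ext (Subtype.ext H)

noncomputable def thE (τ : F8 ≃+* F8) : MulAut G0 where
  toFun := thH τ
  invFun := thH τ.symm
  left_inv g := by
    apply g0_ext
    rw [thH_val, thH_val]
    ext i j
    simp
  right_inv g := by
    apply g0_ext
    rw [thH_val, thH_val]
    ext i j
    simp
  map_mul' := map_mul _

theorem thE_val (τ : F8 ≃+* F8) (g : G0) : (thE τ g).1.1 = g.1.1.map τ := rfl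

noncomputable def th : (F8 ≃+* F8) →* MulAut G0 where
  toFun := thE
  map_one' := by
    ext g : 1
    apply g0_ext
    rw [thE_val]
    ext i j
    simp
  map_mul' σ τ := by
    ext g : 1
    apply g0_ext
    change (thE (σ * τ) g).1.1 = (thE σ (thE τ g)).1.1
    rw [thE_val, thE_val, thE_val]
    ext i j
    simp

abbrev Cc := ↥(Subgroup.zpowers frE)

noncomputable def thc : Cc →* MulAut G0 := th.comp (Subgroup.subtype _)

theorem thc_val (τ : Cc) (g : G0) : (thc τ g).1.1 = g.1.1.map τ.1 := rfl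

theorem frE_cube : frE ^ 3 = 1 := by
  apply RingEquiv.ext
  have : ∀ x : F8, frE (frE (frE x)) = x := by decide +kernel
  intro x
  exact this x

theorem frE_ne : frE ≠ 1 := by
  intro h
  have := RingEquiv.congr_fun h (e8 2)
  revert this
  decide +kernel

theorem card_Cc : Nat.card Cc = 3 := by
  rw [Nat.card_zpowers]
  haveI : Fact (Nat.Prime 3) := ⟨Nat.prime_three⟩
  exact orderOf_eq_prime frE_cube frE_ne

instance : Finite Cc := Nat.finite_of_card_ne_zero (by rw [card_Cc]; norm_num)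

/-- fixed elements of a nontrivial automorphism -/
theorem fix_Cc {τ : Cc} (hτ : τ ≠ 1) {x : F8} (hx : τ.1 x = x) : frE x = x := by
  haveI : Fact (Nat.Prime 3) := ⟨Nat.prime_three⟩
  have h1 := mem_zpowers_of_prime_card (g := τ) (g' := ⟨frE, Subgroup.mem_zpowers frE⟩) card_Cc hτ
  obtain ⟨m, hm⟩ := Subgroup.mem_zpowers_iff.1 h1
  have h2 : (τ.1 ^ m) x = x := by
    have h3 : τ.1 ∈ MulAction.stabilizer (F8 ≃+* F8) x := hx
    exact (MulAction.stabilizer (F8 ≃+* F8) x).zpow_mem h3 m
  have h4 : τ.1 ^ m = frE := by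
    have := congrArg Subtype.val hm
    exact this
  rwa [h4] at h2

abbrev YY := G0 ⋊[thc] Cc

theorem card_YY : Nat.card YY = 87360 := by
  rw [SemidirectProduct.card, card_G0, card_Cc]

instance : Finite YY := Nat.finite_of_card_ne_zero (by rw [card_YY]; norm_num)

/-- the action on matrices -/
noncomputable def act (y : YY) (X : M4) : M4 := y.left.1.1 * X.map y.right.1 * (y.left.1.1.map frE)ᵀ

theorem frE_comm (τ : Cc) (x : F8) : frE (τ.1 x) = τ.1 (frE x) := by
  rw [frE_apply, frE_apply, map_mul]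

theorem map_map_comm (τ : Cc) (A : M4) : (A.map τ.1).map frE = (A.map frE).map τ.1 := by
  ext i j
  exact frE_comm τ (A i j)

theorem map_mul' (τ : F8 ≃+* F8) (A B : M4) : (A * B).map τ = A.map τ * B.map τ :=
  Matrix.map_mul (f := (τ : F8 →+* F8))

theorem act_mul (y z : YY) (X : M4) : act (y * z) X = act y (act z X) := by
  unfold act
  have h1 : (y * z).left.1.1 = y.left.1.1 * z.left.1.1.map y.right.1 := by
    rw [SemidirectProduct.mul_left]
    rfl
  have h2 : X.map (y * z).right.1 = (X.map z.right.1).map y.right.1 := by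
    ext i j
    rfl
  rw [h1, h2, map_mul', map_mul', map_mul', Matrix.transpose_mul, map_map_comm, Matrix.transpose_map]
  simp only [mul_assoc]

theorem act_one (X : M4) : act 1 X = X := by
  unfold act
  have h1 : (1 : YY).left.1.1 = 1 := rfl
  have h2 : X.map (1 : YY).right.1 = X := by ext i j; rfl
  rw [h1, h2]
  have h3 : (1 : M4).map frE = 1 := by
    ext i j
    simp [Matrix.one_apply, apply_ite frE]
  rw [h3, Matrix.transpose_one, one_mul, mul_one]

theorem act_add (y : YY) (X Z : M4) : act y (X + Z) = act y X + act y Z := by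
  unfold act
  have h1 : (X + Z).map y.right.1 = X.map y.right.1 + Z.map y.right.1 := by
    ext i j
    exact map_add y.right.1 (X i j) (Z i j)
  rw [h1, mul_add, add_mul]

/-! ### elements -/

noncomputable def g2 : G0 := DD.w
noncomputable def g5 : G0 := DD.w * DD.u 0 1
noncomputable def g13 : G0 := DD.w * DD.u 0 (e8 3)

theorem g2_val : g2.1.1 = Wm F8 := rfl
theorem g5_val : g5.1.1 = Wm F8 * Um S4 0 1 := by rw [← DS]; rfl
theorem g13_val : g13.1.1 = Wm F8 * Um S4 0 (e8 3) := by rw [← DS]; rfl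

def c7 : F8ˣ := ⟨e8 2, (e8 2)⁻¹, by decide +kernel, by decide +kernel⟩
noncomputable def g7 : G0 := DD.h c7
theorem g7_val : g7.1.1 = Hm S4 (e8 2) := by rw [← DS]; rfl

theorem val_pow (g : G0) (n : ℕ) : (g ^ n).1.1 = g.1.1 ^ n := by
  induction n with
  | zero => rfl
  | succ n ih => rw [pow_succ, pow_succ, ← ih]; rfl

theorem pow_eq_one (g : G0) (n : ℕ) (h : g.1.1 ^ n = 1) : g ^ n = 1 := by
  apply g0_ext
  rw [val_pow, h]; rfl

theorem ne_one (g : G0) (h : g.1.1 ≠ 1) : g ≠ 1 := by
  rintro rfl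
  exact h rfl

theorem o2 : orderOf g2 = 2 := by
  haveI : Fact (Nat.Prime 2) := ⟨Nat.prime_two⟩
  exact orderOf_eq_prime (pow_eq_one _ _ (by rw [g2_val]; decide +kernel)) (ne_one _ (by rw [g2_val]; decide +kernel))

theorem o5 : orderOf g5 = 5 := by
  haveI : Fact (Nat.Prime 5) := ⟨Nat.prime_five⟩
  exact orderOf_eq_prime (pow_eq_one _ _ (by rw [g5_val]; decide +kernel)) (ne_one _ (by rw [g5_val]; decide +kernel))

theorem o7 : orderOf g7 = 7 := by
  haveI : Fact (Nat.Prime 7) := ⟨by norm_num⟩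
  exact orderOf_eq_prime (pow_eq_one _ _ (by rw [g7_val]; decide +kernel)) (ne_one _ (by rw [g7_val]; decide +kernel))

theorem o13 : orderOf g13 = 13 := by
  haveI : Fact (Nat.Prime 13) := ⟨by norm_num⟩
  exact orderOf_eq_prime (pow_eq_one _ _ (by rw [g13_val]; decide +kernel)) (ne_one _ (by rw [g13_val]; decide +kernel))

theorem tr7 : ¬ frE (Matrix.trace g7.1.1) = Matrix.trace g7.1.1 := by
  rw [g7_val]; decide +kernel

theorem tr13 : ¬ frE (Matrix.trace g13.1.1) = Matrix.trace g13.1.1 := by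
  rw [g13_val]; decide +kernel

theorem g2_fr : thc ⟨frE, Subgroup.mem_zpowers frE⟩ g2 = g2 := by
  apply g0_ext
  rw [thc_val, g2_val]; decide +kernel

theorem g5_fr : thc ⟨frE, Subgroup.mem_zpowers frE⟩ g5 = g5 := by
  apply g0_ext
  rw [thc_val, g5_val]; decide +kernel

/-- fixed vectors -/
def X5 : M4 := Wm F8
def X7 : M4 := Matrix.single 0 1 1

theorem fix5 : act (SemidirectProduct.inl g5) X5 = X5 := by
  change g5.1.1 * X5.map (id : F8 → F8) * (g5.1.1.map frE)ᵀ = X5
  rw [g5_val]; decide +kernel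

theorem fix7 : act (SemidirectProduct.inl g7) X7 = X7 := by
  change g7.1.1 * X7.map (id : F8 → F8) * (g7.1.1.map frE)ᵀ = X7
  rw [g7_val]; decide +kernel

/-- no fixed vectors -/
theorem nofix13 (X : M4) (h : act (SemidirectProduct.inl g13) X = X) : X = 0 := by
  have h0 : g13.1.1 * X * (g13.1.1.map frE)ᵀ = X := by
    have h1 : X.map (id : F8 → F8) = X := by ext i j; rfl
    conv_rhs => rw [← h]
    change _ = g13.1.1 * X.map (id : F8 → F8) * (g13.1.1.map frE)ᵀ
    rw [h1]
  rw [g13_val] at h0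
  obtain ⟨A, hA⟩ : ∃ A : M4, A = Wm F8 * Um S4 0 (e8 3) := ⟨_, rfl⟩
  obtain ⟨B, hB⟩ : ∃ B : M4, B = !![e8 3, e8 5, 0, 1; e8 5, 0, 1, 0; 0, 1, 0, 0; 1, 0, 0, 0] := ⟨_, rfl⟩
  obtain ⟨Q, hQ⟩ : ∃ Q : M4, Q = !![e8 4, e8 4, e8 2, e8 5; e8 4, 1, e8 2, e8 2; e8 2, e8 2, 0, e8 3; e8 5, e8 2, e8 3, 1] := ⟨_, rfl⟩
  rw [← hA] at h0
  have e1 : (A.map frE)ᵀ * B = 1 := by rw [hA, hB]; decide +kernel
  have e2 : A * X = X * B := by
    calc A * X = A * X * ((A.map frE)ᵀ * B) := by rw [e1, mul_one]
      _ = (A * X * (A.map frE)ᵀ) * B := by simp only [mul_assoc]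
      _ = X * B := by rw [h0]
  have e3 : A * A * A * A + e8 7 • (A * A * A) + e8 5 • (A * A) + e8 7 • A + 1 = 0 := by rw [hA]; decide +kernel
  have e4 : (B * B * B * B + e8 7 • (B * B * B) + e8 5 • (B * B) + e8 7 • B + 1) * Q = 1 := by rw [hB, hQ]; decide +kernel
  have a2 : A * A * X = X * (B * B) := by rw [mul_assoc, e2, ← mul_assoc, e2, mul_assoc]
  have a3 : A * A * A * X = X * (B * B * B) := by rw [mul_assoc, e2, ← mul_assoc, a2, mul_assoc]
  have a4 : A * A * A * A * X = X * (B * B * B * B) := by rw [mul_assoc, e2, ← mul_assoc, a3, mul_assoc]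
  have e5 : X * (B * B * B * B + e8 7 • (B * B * B) + e8 5 • (B * B) + e8 7 • B + 1) = 0 := by
    have := congrArg (fun M => M * X) e3
    simp only [add_mul, zero_mul, one_mul, smul_mul_assoc, a4, a3, a2, e2] at this
    simp only [mul_add, mul_one, mul_smul_comm]
    exact this
  calc X = X * ((B * B * B * B + e8 7 • (B * B * B) + e8 5 • (B * B) + e8 7 • B + 1) * Q) := by rw [e4, mul_one]
    _ = 0 := by rw [← mul_assoc, e5, zero_mul]

end CfsgLib.Spsix
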