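import Cfsg.Agent.LibSpsix3

/-!
Groups with the prime graph of `PSp₆(3)`.
-/

set_option autoImplicit false
set_option linter.all false
set_option maxRecDepth 100000

namespace CfsgLib.Spsix

open Matrix CfsgLib.Uthree

/-! ### orders in `Sz(8) : 3` -/

theorem orderOf_inl (g : G0) : orderOf (SemidirectProduct.inl g : YY) = orderOf g :=
  orderOf_injective SemidirectProduct.inl SemidirectProduct.inl_injective g

theorem eq_inl {y : YY} (h : y.right = 1) : y = SemidirectProduct.inl y.left := by
  ext1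
  · rfl
  · exact h

theorem right_one {y : YY} (h : ¬ 3 ∣ orderOf y) : y.right = 1 := by
  have h1 : orderOf y.right ∣ 3 := by
    rw [← card_Cc]; exact orderOf_dvd_natCard _
  have h2 : orderOf y.right ∣ orderOf y := by
    apply orderOf_dvd_of_pow_eq_one
    have : (y ^ orderOf y).right = y.right ^ orderOf y := map_pow (SemidirectProduct.rightHom : YY →* Cc) y _
    rw [← this, pow_orderOf_eq_one]; rfl
  rcases (Nat.dvd_prime Nat.prime_three).1 h1 with h3 | h3
  · exact orderOf_eq_one_iff.1 h3
  · exact absurd (h3 ▸ h2) h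

theorem ord_yy {y : YY} (h : ¬ 3 ∣ orderOf y) : orderOf y ∣ 64 ∨ orderOf y ∣ 7 ∨ orderOf y ∣ 13 ∨ orderOf y ∣ 5 := by
  rw [eq_inl (right_one h), orderOf_inl]
  exact ord_G0 _

theorem yy26 (y : YY) : orderOf y ≠ 26 := by
  intro h
  have := ord_yy (y := y) (by rw [h]; norm_num)
  rw [h] at this
  revert this; norm_num

theorem yy35 (y : YY) : orderOf y ≠ 35 := by
  intro h
  have := ord_yy (y := y) (by rw [h]; norm_num)
  rw [h] at this
  revert this; norm_num

theorem yy65 (y : YY) : orderOf y ≠ 65 := by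
  intro h
  have := ord_yy (y := y) (by rw [h]; norm_num)
  rw [h] at this
  revert this; norm_num

theorem yy91 (y : YY) : orderOf y ≠ 91 := by
  intro h
  have := ord_yy (y := y) (by rw [h]; norm_num)
  rw [h] at this
  revert this; norm_num

theorem trace_map (τ : Cc) (A : M4) : Matrix.trace (A.map τ.1) = τ.1 (Matrix.trace A) := by
  unfold Matrix.trace
  rw [map_sum]
  rfl

theorem comm_trace (y : YY) (g : G0) (h : y * SemidirectProduct.inl g = SemidirectProduct.inl g * y) :
    y.right.1 (Matrix.trace g.1.1) = Matrix.trace g.1.1 := by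
  have h1 := congrArg SemidirectProduct.left h
  rw [SemidirectProduct.mul_left, SemidirectProduct.mul_left] at h1
  have h2 : y.left * thc y.right g = g * y.left := by
    have e1 : (SemidirectProduct.inl g : YY).left = g := rfl
    have e2 : (SemidirectProduct.inl g : YY).right = 1 := rfl
    rw [e1, e2, map_one, MulAut.one_apply] at h1
    exact h1
  have h3 : thc y.right g = y.left⁻¹ * g * y.left := by
    rw [mul_assoc, ← h2]; group
  have h4 : (thc y.right g).1.1 = (y.left⁻¹).1.1 * g.1.1 * y.left.1.1 := by rw [h3]; rfl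
  rw [thc_val] at h4
  rw [← trace_map, h4, Matrix.trace_mul_comm, ← mul_assoc]
  have h5 : y.left.1.1 * (y.left⁻¹).1.1 = 1 := by
    have : y.left.1.1 * (y.left⁻¹).1.1 = (y.left * y.left⁻¹).1.1 := rfl
    rw [this, mul_inv_cancel]; rfl
  rw [h5, one_mul]

theorem no3 {p : ℕ} (hp : p.Prime) (h3 : p ≠ 3) (hG : ¬ p ^ 2 ∣ Nat.card YY) (hn : ∀ g : G0, orderOf g ≠ 3 * p)
    {g : G0} (hg : orderOf g = p) (htr : ¬ frE (Matrix.trace g.1.1) = Matrix.trace g.1.1) (x : YY) : orderOf x ≠ 3 * p := by
  intro hx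
  haveI : Fact p.Prime := ⟨hp⟩
  have hu : orderOf (x ^ 3) = p := by
    rw [orderOf_pow, hx, Nat.gcd_eq_right (Dvd.intro p rfl), Nat.mul_div_cancel_left _ (by omega)]
  obtain ⟨t, ht⟩ := CfsgLib.Uthree.conj_pow hG hu ((orderOf_inl g).trans hg)
  obtain ⟨m, hm⟩ := Subgroup.mem_zpowers_iff.1 ht
  have hcomm : x * (t * SemidirectProduct.inl g * t⁻¹) = (t * SemidirectProduct.inl g * t⁻¹) * x := by
    rw [← hm]
    exact ((Commute.refl x).pow_right 3).zpow_right m
  have h1 : (t⁻¹ * x * t) * SemidirectProduct.inl g = SemidirectProduct.inl g * (t⁻¹ * x * t) := by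
    calc (t⁻¹ * x * t) * SemidirectProduct.inl g = t⁻¹ * (x * (t * SemidirectProduct.inl g * t⁻¹)) * t := by group
      _ = t⁻¹ * ((t * SemidirectProduct.inl g * t⁻¹) * x) * t := by rw [hcomm]
      _ = SemidirectProduct.inl g * (t⁻¹ * x * t) := by group
  have h2 := comm_trace _ _ h1
  have h4 : orderOf (t⁻¹ * x * t) = 3 * p := by
    rw [← hx]
    have : t⁻¹ * x * t = MulAut.conj t⁻¹ x := by simp
    rw [this]
    exact MulEquiv.orderOf_eq _ x
  have h5 : (t⁻¹ * x * t).right ≠ 1 := by
    intro h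
    rw [eq_inl h, orderOf_inl] at h4
    exact hn _ h4
  exact htr (fix_Cc h5 h2)

theorem yy21 (y : YY) : orderOf y ≠ 3 * 7 := by
  refine no3 (by norm_num) (by norm_num) (by rw [card_YY]; norm_num) ?_ o7 tr7 y
  intro g h
  have := ord_G0 g
  rw [h] at this
  revert this; norm_num

theorem yy39 (y : YY) : orderOf y ≠ 3 * 13 := by
  refine no3 (by norm_num) (by norm_num) (by rw [card_YY]; norm_num) ?_ o13 tr13 y
  intro g h
  have := ord_G0 g
  rw [h] at this
  revert this; norm_num

theorem o3 : orderOf (⟨frE, Subgroup.mem_zpowers frE⟩ : Cc) = 3 := by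
  haveI : Fact (Nat.Prime 3) := ⟨Nat.prime_three⟩
  apply orderOf_eq_prime
  · exact Subtype.ext frE_cube
  · intro h
    exact frE_ne (congrArg Subtype.val h)

theorem ex_outer {g : G0} {p : ℕ} (hg : orderOf g = p) (hp : Nat.Coprime p 3)
    (hf : thc ⟨frE, Subgroup.mem_zpowers frE⟩ g = g) : ∃ y : YY, orderOf y = p * 3 := by
  refine ⟨SemidirectProduct.inl g * SemidirectProduct.inr ⟨frE, Subgroup.mem_zpowers frE⟩, ?_⟩
  have hc : Commute (SemidirectProduct.inl g : YY) (SemidirectProduct.inr ⟨frE, Subgroup.mem_zpowers frE⟩) := by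
    have h1 := SemidirectProduct.inl_aut (φ := thc) ⟨frE, Subgroup.mem_zpowers frE⟩ g
    rw [hf] at h1
    have h2 : (SemidirectProduct.inl g : YY) * SemidirectProduct.inr ⟨frE, Subgroup.mem_zpowers frE⟩ =
        SemidirectProduct.inr ⟨frE, Subgroup.mem_zpowers frE⟩ * SemidirectProduct.inl g := by
      conv_lhs => rw [h1]
      rw [mul_assoc, ← map_mul, inv_mul_cancel, map_one, mul_one]
    exact h2
  rw [hc.orderOf_mul_eq_mul_orderOf_of_coprime]
  · rw [orderOf_inl, hg, orderOf_injective SemidirectProduct.inr SemidirectProduct.inr_injective, o3]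
  · rw [orderOf_inl, hg, orderOf_injective SemidirectProduct.inr SemidirectProduct.inr_injective, o3]
    exact hp

/-! ### the modules -/

abbrev Xk (k : ℕ) := Multiplicative (Fin k → M4)

theorem xk_ext {k : ℕ} {v w : Xk k}
    (h : ∀ i, Multiplicative.toAdd v i = Multiplicative.toAdd w i) : v = w :=
  Multiplicative.toAdd.injective (funext h)

noncomputable def actE (k : ℕ) (g : YY) : Xk k ≃* Xk k :=
  AddEquiv.toMultiplicative
    { toFun := fun v i => act g (v i)
      invFun := fun v i => act g⁻¹ (v i)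
      left_inv := fun v => by
        funext i
        change act g⁻¹ (act g (v i)) = v i
        rw [← act_mul, inv_mul_cancel, act_one]
      right_inv := fun v => by
        funext i
        change act g (act g⁻¹ (v i)) = v i
        rw [← act_mul, mul_inv_cancel, act_one]
      map_add' := fun v w => by
        funext i
        exact act_add _ _ _ }

noncomputable def φ (k : ℕ) : YY →* MulAut (Xk k) :=
  MonoidHom.mk' (fun g => actE k g) (by
    intro g h
    ext1 v
    apply xk_ext
    intro i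
    exact act_mul g h _)

theorem φ_apply (k : ℕ) (g : YY) (v : Xk k) (i : Fin k) :
    Multiplicative.toAdd (φ k g v) i = act g (Multiplicative.toAdd v i) := rfl

theorem xk_two {k : ℕ} (v : Xk k) : v ^ 2 = 1 := by
  apply xk_ext
  intro i
  change 2 • Multiplicative.toAdd v i = 0
  ext a b
  change 2 • (Multiplicative.toAdd v i a b) = 0
  generalize Multiplicative.toAdd v i a b = c
  revert c
  decide +kernel

theorem nofix_k {k : ℕ} (v : Xk k) (h : φ k (SemidirectProduct.inl g13) v = v) : v = 1 := by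
  apply xk_ext
  intro i
  exact nofix13 _ (congrFun (congrArg Multiplicative.toAdd h) i)

theorem card_Xk (k : ℕ) : 2 ^ k ≤ Nat.card (Xk k) := by
  have h0 : Nat.card (Xk k) = Nat.card M4 ^ k := by
    have h1 : Nat.card (Xk k) = Nat.card (Fin k → M4) := rfl
    rw [h1, Nat.card_fun, Nat.card_fin]
  rw [h0]
  apply Nat.pow_le_pow_left
  haveI : Nontrivial M4 := inferInstance
  exact Finite.one_lt_card

theorem ex_mod {k : ℕ} (hk : 0 < k) {g : G0} {p : ℕ} (hg : orderOf g = p) (hp : Nat.Coprime 2 p) {X : M4} (hX : X ≠ 0)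
    (hf : act (SemidirectProduct.inl g) X = X) : ∃ x : Xk k ⋊[φ k] YY, orderOf x = 2 * p := by
  obtain ⟨v, hv⟩ : ∃ v : Xk k, v = Multiplicative.ofAdd (fun _ => X) := ⟨_, rfl⟩
  have hvf : φ k (SemidirectProduct.inl g) v = v := by
    rw [hv]
    apply xk_ext
    intro i
    exact hf
  have hv1 : v ≠ 1 := by
    rw [hv]
    intro h
    exact hX (congrFun (congrArg Multiplicative.toAdd h) ⟨0, hk⟩)
  have ov : orderOf (SemidirectProduct.inl v : Xk k ⋊[φ k] YY) = 2 := by
    rw [orderOf_injective SemidirectProduct.inl SemidirectProduct.inl_injective]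
    haveI : Fact (Nat.Prime 2) := ⟨Nat.prime_two⟩
    exact orderOf_eq_prime (xk_two v) hv1
  have og : orderOf (SemidirectProduct.inr (SemidirectProduct.inl g) : Xk k ⋊[φ k] YY) = p := by
    rw [orderOf_injective SemidirectProduct.inr SemidirectProduct.inr_injective, orderOf_inl, hg]
  refine ⟨SemidirectProduct.inl v * SemidirectProduct.inr (SemidirectProduct.inl g), ?_⟩
  have hc : Commute (SemidirectProduct.inl v : Xk k ⋊[φ k] YY) (SemidirectProduct.inr (SemidirectProduct.inl g)) := by
    have h1 := SemidirectProduct.inl_aut (φ := φ k) (SemidirectProduct.inl g) v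
    rw [hvf] at h1
    have h2 : (SemidirectProduct.inl v : Xk k ⋊[φ k] YY) * SemidirectProduct.inr (SemidirectProduct.inl g) =
        SemidirectProduct.inr (SemidirectProduct.inl g) * SemidirectProduct.inl v := by
      conv_lhs => rw [h1]
      rw [mul_assoc, ← map_mul, inv_mul_cancel, map_one, mul_one]
    exact h2
  rw [hc.orderOf_mul_eq_mul_orderOf_of_coprime, ov, og]
  rw [ov, og]
  exact hp

theorem odd_right {k : ℕ} {x : Xk k ⋊[φ k] YY} {m : ℕ} (hm : Nat.Coprime m 2) (hx : orderOf x = m) :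
    orderOf x.right = m := by
  have h1 : x.right ^ orderOf x.right = 1 := pow_orderOf_eq_one _
  have h2 : x ^ (orderOf x.right * 2) = 1 := pow_one_of_exp (φ k) x h1 xk_two
  have h3 : m ∣ orderOf x.right * 2 := hx ▸ orderOf_dvd_of_pow_eq_one h2
  have h4 : m ∣ orderOf x.right := hm.dvd_of_dvd_mul_right h3
  apply Nat.dvd_antisymm _ h4
  apply orderOf_dvd_of_pow_eq_one
  rw [← pow_right, ← hx, pow_orderOf_eq_one]; rfl

theorem card_HH (k : ℕ) : Nat.card (Xk k ⋊[φ k] YY) = Nat.card (Xk k) * 87360 := by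
  rw [SemidirectProduct.card, card_YY]

theorem good_HH {k : ℕ} (hk : 0 < k) : Good (Xk k ⋊[φ k] YY) where
  vert := by
    intro r hr
    rw [card_HH]
    constructor
    · intro h
      rcases (Nat.Prime.dvd_mul hr).1 h with h | h
      · haveI : Fact r.Prime := ⟨hr⟩
        obtain ⟨x, hx⟩ := exists_prime_orderOf_dvd_card' r h
        have h5 : r ∣ 2 := hx ▸ orderOf_dvd_of_pow_eq_one (xk_two x)
        left; exact (Nat.prime_dvd_prime_iff_eq hr Nat.prime_two).1 h5
      · have h7 : (87360 : ℕ) = 2 ^ 6 * (3 * (5 * (7 * 13))) := by norm_num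
        rw [h7] at h
        rcases (Nat.Prime.dvd_mul hr).1 h with h | h
        · left; exact (Nat.prime_dvd_prime_iff_eq hr Nat.prime_two).1 (hr.dvd_of_dvd_pow h)
        rcases (Nat.Prime.dvd_mul hr).1 h with h | h
        · right; left; exact (Nat.prime_dvd_prime_iff_eq hr Nat.prime_three).1 h
        rcases (Nat.Prime.dvd_mul hr).1 h with h | h
        · right; right; left; exact (Nat.prime_dvd_prime_iff_eq hr (by norm_num)).1 h
        rcases (Nat.Prime.dvd_mul hr).1 h with h | h
        · right; right; right; left; exact (Nat.prime_dvd_prime_iff_eq hr (by norm_num)).1 h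
        · right; right; right; right; exact (Nat.prime_dvd_prime_iff_eq hr (by norm_num)).1 h
    · rintro (rfl | rfl | rfl | rfl | rfl) <;> exact Dvd.dvd.mul_left (by norm_num) _
  e23 := by
    obtain ⟨y, hy⟩ := ex_outer o2 (by norm_num) g2_fr
    exact ⟨SemidirectProduct.inr y, by
      rw [orderOf_injective SemidirectProduct.inr SemidirectProduct.inr_injective, hy]⟩
  e25 := ex_mod hk o5 (by norm_num) (by unfold X5; decide +kernel) fix5
  e27 := ex_mod hk o7 (by norm_num) (by unfold X7; decide +kernel) fix7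
  e35 := by
    obtain ⟨y, hy⟩ := ex_outer o5 (by norm_num) g5_fr
    exact ⟨SemidirectProduct.inr y, by
      rw [orderOf_injective SemidirectProduct.inr SemidirectProduct.inr_injective, hy]⟩
  n2_13 := by
    intro x hx
    have h1 : x.right ^ orderOf x.right = 1 := pow_orderOf_eq_one _
    have h2 : x ^ (orderOf x.right * 2) = 1 := pow_one_of_exp (φ k) x h1 xk_two
    have h3 : 2 * 13 ∣ orderOf x.right * 2 := hx ▸ orderOf_dvd_of_pow_eq_one h2
    have h4 : 13 ∣ orderOf x.right := by
      rw [mul_comm] at h3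
      exact Nat.dvd_of_mul_dvd_mul_right (by norm_num) h3
    have h5 : orderOf x.right ∣ 2 * 13 := by
      apply orderOf_dvd_of_pow_eq_one
      rw [← pow_right, ← hx, pow_orderOf_eq_one]; rfl
    obtain ⟨c, hc⟩ := h4
    rw [hc, mul_comm] at h5
    have h6 : c ∣ 2 := Nat.dvd_of_mul_dvd_mul_right (by norm_num) h5
    rcases (Nat.dvd_prime Nat.prime_two).1 h6 with rfl | rfl
    · have h7 : orderOf x.right = 13 := by rw [hc]
      have h8 : x ^ 13 = 1 := by
        apply pow_one_of_nofix (φ k)
        · rw [← h7]; exact h1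
        · intro w hw2
          exact nofix_of_conj (φ k) (by norm_num) (by rw [card_YY]; norm_num) ((orderOf_inl g13).trans o13) h7 nofix_k w hw2
      have h9 : 2 * 13 ∣ 13 := hx ▸ orderOf_dvd_of_pow_eq_one h8
      revert h9
      decide
    · exact yy26 _ (by rw [hc])
  n3_7 := fun x hx => yy21 _ (odd_right (by norm_num) hx)
  n3_13 := fun x hx => yy39 _ (odd_right (by norm_num) hx)
  n5_7 := fun x hx => yy35 _ (odd_right (by norm_num) hx)
  n5_13 := fun x hx => yy65 _ (odd_right (by norm_num) hx)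
  n7_13 := fun x hx => yy91 _ (odd_right (by norm_num) hx)

theorem main {F : Type*} [Field F] [Fintype F] (hF : Fintype.card F = 3) (N : ℕ) :
    ∃ (H : Type) (_ : Group H) (_ : Finite H), N < Nat.card H ∧
      ((∀ p : ℕ, p.Prime → (p ∣ Nat.card (Cfsg.PSp 3 F) ↔ p ∣ Nat.card H)) ∧
      (∀ p q : ℕ, p.Prime → q.Prime → p ≠ q → ((∃ g : (Cfsg.PSp 3 F), orderOf g = p * q) ↔ (∃ g : H, orderOf g = p * q)))) := by
  set k := N + 1 with hk
  have hcard := card_HH k
  have hXpos : 0 < Nat.card (Xk k) := Nat.card_pos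
  have hN : N < 2 ^ k := by
    have := Nat.lt_two_pow_self (n := k)
    omega
  have gH := good_HH (k := k) (by omega)
  have gL := good_PS3 hF
  refine ⟨Xk k ⋊[φ k] YY, inferInstance, ?_, ?_, ?_, ?_⟩
  · exact Nat.finite_of_card_ne_zero (by rw [hcard]; positivity)
  · rw [hcard]
    calc N < 2 ^ k := hN
      _ ≤ Nat.card (Xk k) := card_Xk k
      _ ≤ Nat.card (Xk k) * 87360 := Nat.le_mul_of_pos_right _ (by norm_num)
  · intro p hp
    rw [gL.vert p hp, gH.vert p hp]
  · intro p q hp hq hpq
    rw [gL.edge p q hp hq hpq, gH.edge p q hp hq hpq]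

end CfsgLib.Spsix
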