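import Cfsg.Agent.LibStH

set_option autoImplicit false

/-! Bruhat decomposition and the kernel of the projection -/

namespace CfsgLib.Chev

open Cfsg.Lie Matrix

namespace RG2

variable {D : ChevalleyDatum} {T : Tb} {g : Good3 D T} {F : Type*} [Field F] {Γ : Type*} [Group Γ] (R : RG2 g F Γ)

/-- word products -/
def nbw (w : List ℕ) : Γ := (w.map R.nb).prod

theorem nbw_nil : R.nbw [] = 1 := rfl

theorem nbw_cons (i : ℕ) (w : List ℕ) : R.nbw (i :: w) = R.nb i * R.nbw w := by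
  unfold nbw; rw [List.map_cons, List.prod_cons]

theorem nbw_append (v w : List ℕ) : R.nbw (v ++ w) = R.nbw v * R.nbw w := by
  unfold nbw; rw [List.map_append, List.prod_append]

theorem nbw_single (i : ℕ) : R.nbw [i] = R.nb i := by simp [nbw]

theorem pi_nbw {w : List ℕ} (hw : VW T w) : R.pi (R.nbw w) = g.nw w := by
  induction w with
  | nil => simp [nbw_nil, Good3.nw_nil]
  | cons i w ih =>
    rw [nbw_cons, map_mul, ih (fun j hj => hw j (List.mem_cons_of_mem _ hj)), R.toRG.pi_nb (hw i List.mem_cons_self),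
      Good3.nw_cons]

theorem nbw_x {w : List ℕ} (hw : VW T w) {r : ℕ} (hr : r < T.n) (t : F) :
    R.nbw w * R.x r t * (R.nbw w)⁻¹ = R.x (wact T w r) (((sgn T w r : ℤ) : F) * t) := by
  induction w with
  | nil => simp [nbw_nil, Good3.wact_nil, sgn]
  | cons i w ih =>
    have hw' : VW T w := fun j hj => hw j (List.mem_cons_of_mem _ hj)
    have e : R.nbw (i :: w) * R.x r t * (R.nbw (i :: w))⁻¹ =
        R.nb i * (R.nbw w * R.x r t * (R.nbw w)⁻¹) * (R.nb i)⁻¹ := by rw [nbw_cons]; group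
    rw [e, ih hw', R.nb_x (hw i List.mem_cons_self) (g.wact_lt hw' hr), Good3.wact_cons]
    congr 1
    show _ = ((T.eta i (wact T w r) * sgn T w r : ℤ) : F) * t
    push_cast
    ring

theorem nbw_Nb {w : List ℕ} (hw : VW T w) {r : ℕ} (hr : r < T.n) (t : F) :
    R.nbw w * R.Nb r t * (R.nbw w)⁻¹ = R.Nb (wact T w r) (((sgn T w r : ℤ) : F) * t) := by
  induction w with
  | nil => simp [nbw_nil, Good3.wact_nil, sgn]
  | cons i w ih =>
    have hw' : VW T w := fun j hj => hw j (List.mem_cons_of_mem _ hj)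
    have e : R.nbw (i :: w) * R.Nb r t * (R.nbw (i :: w))⁻¹ =
        R.nb i * (R.nbw w * R.Nb r t * (R.nbw w)⁻¹) * (R.nb i)⁻¹ := by rw [nbw_cons]; group
    rw [e, ih hw', R.nb_Nb (hw i List.mem_cons_self) (g.wact_lt hw' hr), Good3.wact_cons]
    congr 1
    show _ = ((T.eta i (wact T w r) * sgn T w r : ℤ) : F) * t
    push_cast
    ring

theorem nbw_HS {w : List ℕ} (hw : VW T w) {x : Γ} (hx : x ∈ R.HS) : R.nbw w * x * (R.nbw w)⁻¹ ∈ R.HS := by
  induction w with
  | nil => simpa [nbw_nil] using hx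
  | cons i w ih =>
    have hw' : VW T w := fun j hj => hw j (List.mem_cons_of_mem _ hj)
    have e : R.nbw (i :: w) * x * (R.nbw (i :: w))⁻¹ = R.nb i * (R.nbw w * x * (R.nbw w)⁻¹) * (R.nb i)⁻¹ := by
      rw [nbw_cons]; group
    rw [e]
    exact R.nb_HS (hw i List.mem_cons_self) (ih hw')

theorem nbw_HS' {w : List ℕ} (hw : VW T w) {x : Γ} (hx : x ∈ R.HS) : (R.nbw w)⁻¹ * x * R.nbw w ∈ R.HS := by
  induction w generalizing x with
  | nil => simpa [nbw_nil] using hx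
  | cons i w ih =>
    have hw' : VW T w := fun j hj => hw j (List.mem_cons_of_mem _ hj)
    have e : (R.nbw (i :: w))⁻¹ * x * R.nbw (i :: w) = (R.nbw w)⁻¹ * ((R.nb i)⁻¹ * x * R.nb i) * R.nbw w := by
      rw [nbw_cons]; group
    rw [e]
    exact ih hw' (R.nb_HS' (hw i List.mem_cons_self) hx)

theorem Nb_sgn {r : ℕ} (hr : r < T.n) {e : ℤ} (he : e = 1 ∨ e = -1) :
    ∃ h ∈ R.HS, R.Nb r ((e : ℤ) : F) = h * R.Nb r 1 := by
  rcases he with rfl | rfl
  · exact ⟨1, Subgroup.one_mem _, by simp⟩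
  · refine ⟨R.Hb r ((-1 : Fˣ) : F), R.Hb_mem hr _, ?_⟩
    unfold RG.Hb
    rw [R.toRG.Nb_neg hr 1]
    simp

/-- exchange -/
theorem exchb {w : List ℕ} (hw : VW T w) {i : ℕ} (hi : i < T.l) (h : wact T w (T.sim i) < T.n / 2) :
    ∃ w', VW T w' ∧ w'.length + 1 = w.length ∧ (∀ r < T.n, wact T (w ++ [i]) r = wact T w' r) ∧
      ∃ x ∈ R.HS, R.nbw (w ++ [i]) = R.nbw w' * x := by
  obtain ⟨w1, j, w2, rfl, h2⟩ := g.exch_pos hw (g.sim_lt hi) (g.sim_pos hi) h
  have hw1 : VW T w1 := fun k hk => hw k (List.mem_append_left _ hk)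
  have hw2 : VW T w2 := fun k hk => hw k (List.mem_append_right _ (List.mem_cons_of_mem _ hk))
  have hj : j < T.l := hw j (List.mem_append_right _ List.mem_cons_self)
  have hvw : VW T (w1 ++ w2) := by
    intro k hk
    rcases List.mem_append.1 hk with hk | hk
    · exact hw1 k hk
    · exact hw2 k hk
  -- nbw w2 * nb i = Nb (sim j) ε * nbw w2
  have h3 := R.nbw_Nb hw2 (g.sim_lt hi) 1
  rw [h2, mul_one] at h3
  obtain ⟨y, hy, e⟩ := R.Nb_sgn (g.sim_lt hj) (Good3.sgn_cases (T := T) w2 (T.sim i))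
  rw [e] at h3
  have h4 : R.nbw w2 * R.nb i = y * R.nb j * R.nbw w2 := by
    have : R.nbw w2 * R.nb i = (R.nbw w2 * R.Nb (T.sim i) (1 : F) * (R.nbw w2)⁻¹) * R.nbw w2 := by
      show _ = (R.nbw w2 * R.nb i * (R.nbw w2)⁻¹) * R.nbw w2
      group
    rw [this, h3]
    rfl
  have h5 : R.nbw (w1 ++ j :: w2 ++ [i]) = R.nbw w1 * ((R.nb j * y * (R.nb j)⁻¹) * (R.nb j * R.nb j)) * R.nbw w2 := by
    rw [nbw_append, nbw_append, nbw_cons, nbw_single]
    have e2 : R.nbw w1 * (R.nb j * R.nbw w2) * R.nb i = R.nbw w1 * R.nb j * (R.nbw w2 * R.nb i) := by group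
    rw [e2, h4]; group
  have h6 : (R.nb j * y * (R.nb j)⁻¹) * (R.nb j * R.nb j) ∈ R.HS :=
    Subgroup.mul_mem _ (R.nb_HS hj hy) (R.nb_sq hj)
  set z := (R.nb j * y * (R.nb j)⁻¹) * (R.nb j * R.nb j) with hz
  refine ⟨w1 ++ w2, hvw, by simp; omega, ?_, (R.nbw w2)⁻¹ * z * R.nbw w2, R.nbw_HS' hw2 h6, ?_⟩
  · have hp := congrArg R.pi h5
    have hfull : VW T (w1 ++ j :: w2 ++ [i]) := g.VW_append hw (g.VW_single hi)
    rw [R.pi_nbw hfull, map_mul, map_mul, R.pi_nbw hw1, R.pi_nbw hw2] at hp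
    have hpz := R.pi_HS h6
    have h7 : ((g.nw w2)⁻¹ : GL D.Idx F) ∈ D.monomialSubgroup F := Subgroup.inv_mem _ (g.nw_mem_N hw2)
    have h8 := g.N_H h7 hpz
    rw [inv_inv] at h8
    apply g.wact_congr (F := F) hfull hvw h8
    rw [hp, Good3.nw_append]; group
  · rw [h5, nbw_append]; group

/-- a word acting trivially on the roots gives an element of HS -/
theorem nbw_mem_HS : ∀ (k : ℕ) (w : List ℕ), w.length = k → VW T w → (∀ r < T.n, wact T w r = r) →
    R.nbw w ∈ R.HS := by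
  have hev := g.even
  intro k
  induction k using Nat.strong_induction_on with
  | _ k ih =>
    intro w hk hw h
    rcases List.eq_nil_or_concat w with rfl | ⟨w', i, rfl⟩
    · exact Subgroup.one_mem _
    · rw [List.concat_eq_append] at *
      have hw' : VW T w' := fun j hj => hw j (List.mem_append_left _ hj)
      have hi : i < T.l := hw i (List.mem_append_right _ (List.mem_singleton.2 rfl))
      have hs := g.sim_lt hi
      have hsp := g.sim_pos hi
      have h1 : wact T w' (T.n - 1 - T.sim i) = T.sim i := by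
        have := h (T.sim i) hs
        rw [Good3.wact_append, Good3.wact_cons, Good3.wact_nil, g.w_sim hi] at this
        exact this
      have h2 : wact T w' (T.sim i) < T.n / 2 := by
        have := g.wact_neg hw' hs
        rw [h1] at this
        have h3 := g.wact_lt hw' hs
        omega
      obtain ⟨w2, hw2, hl2, hact, x, hx, e⟩ := R.exchb hw' hi h2
      rw [e]
      apply Subgroup.mul_mem _ _ hx
      apply ih w2.length _ w2 rfl hw2
      · intro r hr
        exact (hact r hr).symm.trans (h r hr)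
      · rw [List.length_append, List.length_singleton] at hk
        omega

/-- U -/
def US : Subgroup Γ := R.sub {r | T.n / 2 ≤ r ∧ r < T.n}

theorem US_eq : R.US = R.sub (PW T [] (T.n / 2)) := by
  unfold US; rw [RG.PW_nil]

theorem x_mem_US {r : ℕ} (hp : T.n / 2 ≤ r) (hr : r < T.n) (t : F) : R.x r t ∈ R.US := by
  have hmem : r ∈ {r | T.n / 2 ≤ r ∧ r < T.n} := ⟨hp, hr⟩
  exact R.toRG.x_mem_sub hmem t

theorem pi_US {x : Γ} (hx : x ∈ R.US) : R.pi x ∈ D.posUnipotent F := by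
  have : R.US ≤ (D.posUnipotent F).comap R.pi := by
    unfold US
    apply R.toRG.sub_le
    rintro s ⟨h1, h2⟩ u
    show R.pi (R.x s u) ∈ D.posUnipotent F
    rw [R.hpi s h2]
    exact g.X_mem_U h1 h2 u
  exact this hx

theorem US_inj {x : Γ} (hx : x ∈ R.US) (h : R.pi x = 1) : x = 1 := by
  rw [US_eq] at hx
  exact R.toRG.PW_inj (w := []) (by intro j hj; simp at hj) _ _ rfl le_rfl (Nat.div_le_self _ _) x hx h

theorem HS_norm_US {h x : Γ} (hh : h ∈ R.HS) (hx : x ∈ R.US) : h * x * h⁻¹ ∈ R.US := by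
  obtain ⟨χ, hχ⟩ := R.HS_act hh
  have : R.US ≤ R.US.comap (MulAut.conj h).toMonoidHom := by
    conv_lhs => unfold US
    apply R.toRG.sub_le
    rintro s ⟨h1, h2⟩ u
    show h * R.x s u * h⁻¹ ∈ R.US
    rw [hχ s h2]
    exact R.x_mem_US h1 h2 _
  exact this hx

/-- decomposition along a fundamental root -/
theorem US_decomp {i : ℕ} (hi : i < T.l) {x : Γ} (hx : x ∈ R.US) :
    ∃ y ∈ R.sub (PsP T i), ∃ t : F, x = y * R.x (T.sim i) t := by
  have hsl := g.sim_lt hi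
  have hnorm : ∀ (t : F) (y : Γ), y ∈ R.sub (PsP T i) → R.x (T.sim i) t * y * (R.x (T.sim i) t)⁻¹ ∈ R.sub (PsP T i) :=
    fun t y hy => R.toRG.norm_set hsl (RG.cl_pos (g := g) hi (Or.inl rfl)) t hy
  let M : Subgroup Γ :=
    { carrier := {x | ∃ k ∈ R.sub (PsP T i), ∃ t : F, x = k * R.x (T.sim i) t}
      mul_mem' := by
        rintro _ _ ⟨k, hk, t, rfl⟩ ⟨k', hk', t', rfl⟩
        refine ⟨k * (R.x (T.sim i) t * k' * (R.x (T.sim i) t)⁻¹), Subgroup.mul_mem _ hk (hnorm t k' hk'), t + t', ?_⟩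
        rw [R.add _ hsl]
        group
      one_mem' := ⟨1, Subgroup.one_mem _, 0, by rw [R.toRG.zero hsl]; simp⟩
      inv_mem' := by
        rintro _ ⟨k, hk, t, rfl⟩
        refine ⟨R.x (T.sim i) (-t) * k⁻¹ * (R.x (T.sim i) (-t))⁻¹, hnorm _ _ (Subgroup.inv_mem _ hk), -t, ?_⟩
        rw [R.toRG.neg hsl]
        group }
  have hle : R.US ≤ M := by
    conv_lhs => unfold US
    apply R.toRG.sub_le
    rintro s ⟨h1, h2⟩ u
    by_cases hs : s = T.sim i
    · subst hs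
      exact ⟨1, Subgroup.one_mem _, u, by simp⟩
    · have hmem : s ∈ PsP T i := ⟨h1, h2, hs⟩
      exact ⟨_, R.toRG.x_mem_sub hmem u, 0, by rw [R.toRG.zero hsl]; simp⟩
  exact hle hx

theorem nb_PsP {i : ℕ} (hi : i < T.l) {y : Γ} (hy : y ∈ R.sub (PsP T i)) : R.nb i * y * (R.nb i)⁻¹ ∈ R.US := by
  have hle : R.sub (PsP T i) ≤ R.US := by
    unfold US
    apply R.toRG.sub_mono
    rintro r ⟨h3, h4, _⟩
    exact ⟨h3, h4⟩
  exact hle (R.toRG.conj_set hi (fun r hr => RG.cl_pos (g := g) hi hr) hy)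

/-- the cell decomposition -/
theorem cells (z : Γ) : ∃ u ∈ R.US, ∃ h ∈ R.HS, ∃ w, VW T w ∧ ∃ v ∈ R.US, z = u * h * R.nbw w * v := by
  have hev := g.even
  let P : Γ → Prop := fun z => ∃ u ∈ R.US, ∃ h ∈ R.HS, ∃ w, VW T w ∧ ∃ v ∈ R.US, z = u * h * R.nbw w * v
  have hU : ∀ u ∈ R.US, ∀ z, P z → P (u * z) := by
    rintro u hu _ ⟨u', hu', h, hh, w, hw, v, hv, rfl⟩
    exact ⟨u * u', Subgroup.mul_mem _ hu hu', h, hh, w, hw, v, hv, by group⟩
  have hH : ∀ k ∈ R.HS, ∀ z, P z → P (k * z) := by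
    rintro k hk _ ⟨u', hu', h, hh, w, hw, v, hv, rfl⟩
    exact ⟨k * u' * k⁻¹, R.HS_norm_US hk hu', k * h, Subgroup.mul_mem _ hk hh, w, hw, v, hv, by group⟩
  have hn : ∀ i < T.l, ∀ z, P z → P (R.nb i * z) := by
    rintro i hi _ ⟨u, hu, h, hh, w, hw, v, hv, rfl⟩
    have hsl := g.sim_lt hi
    have hsp := g.sim_pos hi
    obtain ⟨y, hy, t, rfl⟩ := R.US_decomp hi hu
    have hy1 := R.nb_PsP hi hy
    have hh1 := R.nb_HS hi hh
    have hiw : VW T (i :: w) := by
      intro j hj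
      rcases List.mem_cons.1 hj with rfl | hj
      · exact hi
      · exact hw j hj
    -- action of (h * nbw w)⁻¹
    obtain ⟨χ, hχ⟩ := R.HS_act (Subgroup.inv_mem _ hh)
    have hact : ∀ r < T.n, ∀ s : F, T.n / 2 ≤ wact T w.reverse r →
        (h * R.nbw w)⁻¹ * R.x r s * (h * R.nbw w) ∈ R.US := by
      intro r hr s hpos
      have hrw := Good3.VWrev hw
      have hlt := g.wact_lt hrw hr
      have e1 : (h * R.nbw w)⁻¹ * R.x r s * (h * R.nbw w) = (R.nbw w)⁻¹ * (h⁻¹ * R.x r s * (h⁻¹)⁻¹) * R.nbw w := by group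
      rw [e1, hχ r hr]
      have h2 := R.nbw_x hw hlt (((sgn T w (wact T w.reverse r) : ℤ) : F) * ((χ r : F) * s))
      rw [g.wact_rev' hw hr] at h2
      have h4 : ((sgn T w (wact T w.reverse r) : ℤ) : F) * (((sgn T w (wact T w.reverse r) : ℤ) : F) * ((χ r : F) * s)) = (χ r : F) * s := by
        rcases Good3.sgn_cases (T := T) w (wact T w.reverse r) with h | h <;> rw [h] <;> simp
      rw [h4] at h2
      rw [← h2]
      have e3 : (R.nbw w)⁻¹ * (R.nbw w * R.x (wact T w.reverse r) (((sgn T w (wact T w.reverse r) : ℤ) : F) * ((χ r : F) * s)) *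
          (R.nbw w)⁻¹) * R.nbw w = R.x (wact T w.reverse r) (((sgn T w (wact T w.reverse r) : ℤ) : F) * ((χ r : F) * s)) := by group
      rw [e3]
      exact R.x_mem_US hpos hlt _
    by_cases hq : T.n / 2 ≤ wact T w.reverse (T.sim i)
    · refine ⟨_, hy1, _, hh1, i :: w, hiw, _, Subgroup.mul_mem _ (hact _ hsl t hq) hv, ?_⟩
      rw [nbw_cons]; group
    · by_cases ht : t = 0
      · subst ht
        refine ⟨_, hy1, _, hh1, i :: w, hiw, v, hv, ?_⟩
        rw [nbw_cons, R.toRG.zero hsl]; group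
      · have hq2 : T.n / 2 ≤ wact T w.reverse (T.n - 1 - T.sim i) := by
          rw [g.wact_neg (Good3.VWrev hw) hsl]
          have := g.wact_lt (Good3.VWrev hw) hsl
          omega
        have hneg : T.n - 1 - T.sim i < T.n := by omega
        have hnn : T.n - 1 - (T.n - 1 - T.sim i) = T.sim i := by omega
        -- c = -t⁻¹
        set c : Fˣ := Units.mk0 (-t⁻¹) (neg_ne_zero.2 (inv_ne_zero ht)) with hc
        have hcv : (c : F) = -t⁻¹ := rfl
        have h3 : R.Nb (T.n - 1 - T.sim i) (c : F) = R.nb i * R.Hb (T.sim i) ((-c : Fˣ) : F) := by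
          have h4 := R.nb_Nb hi hsl (-(c : F))
          rw [g.w_sim hi, g.eta_sim hi] at h4
          have h5 : ((-1 : ℤ) : F) * (-(c : F)) = (c : F) := by push_cast; ring
          rw [h5] at h4
          rw [← h4]
          unfold RG.Hb
          rw [R.toRG.Nb_neg hsl 1, Units.val_neg]
          show _ = R.nb i * (R.Nb (T.sim i) (-(c : F)) * (R.nb i)⁻¹)
          group
        have h6 : R.x (T.sim i) t = R.x (T.n - 1 - T.sim i) t⁻¹ * (R.nb i * R.Hb (T.sim i) ((-c : Fˣ) : F)) * R.x (T.n - 1 - T.sim i) t⁻¹ := by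
          rw [← h3]
          unfold RG.Nb
          have h7 : -((c : F))⁻¹ = t := by rw [hcv, inv_neg, inv_inv, neg_neg]
          rw [hnn, h7]
          have h8 : (c : F) = -t⁻¹ := rfl
          rw [h8, R.toRG.neg hneg]
          group
        have h9 := hact _ hneg t⁻¹ hq2
        have h10 := R.nb_x hi hneg t⁻¹
        rw [g.w_neg hi hsl, g.w_sim hi, hnn] at h10
        have h11 : R.nb i * R.x (T.n - 1 - T.sim i) t⁻¹ * (R.nb i)⁻¹ ∈ R.US := by
          rw [h10]; exact R.x_mem_US hsp hsl _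
        refine ⟨(R.nb i * y * (R.nb i)⁻¹) * (R.nb i * R.x (T.n - 1 - T.sim i) t⁻¹ * (R.nb i)⁻¹), Subgroup.mul_mem _ hy1 h11,
          (R.nb i * R.nb i) * R.Hb (T.sim i) ((-c : Fˣ) : F) * h, Subgroup.mul_mem _ (Subgroup.mul_mem _ (R.nb_sq hi) (R.Hb_sim_mem hi _)) hh, w, hw, _,
          Subgroup.mul_mem _ h9 hv, ?_⟩
        rw [h6]
        group
  -- closure
  have hgen : Subgroup.closure ({z | ∃ i < T.l, ∃ t : F, z = R.x (T.sim i) t} ∪ {z | ∃ i < T.l, z = R.nb i}) = ⊤ := by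
    rw [eq_top_iff, ← R.gen, Subgroup.closure_le]
    rintro _ ⟨r, hr, t, rfl⟩
    revert r t
    have : ∀ r < T.n, ∀ t : F, R.x r t ∈ Subgroup.closure ({z | ∃ i < T.l, ∃ t : F, z = R.x (T.sim i) t} ∪ {z | ∃ i < T.l, z = R.nb i}) := by
      apply g.root_ind
      · intro i hi t
        exact Subgroup.subset_closure (Or.inl ⟨i, hi, t, rfl⟩)
      · intro i hi r hr ih t
        have h1 := R.nb_x hi (g.w_lt hi hr) (((T.eta i (T.w i r) : ℤ) : F) * t)
        rw [g.w_w hi hr, ← mul_assoc, Good.eta_cast_mul_self, one_mul] at h1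
        rw [← h1]
        have h2 : R.nb i ∈ Subgroup.closure ({z | ∃ i < T.l, ∃ t : F, z = R.x (T.sim i) t} ∪ {z | ∃ i < T.l, z = R.nb i}) :=
          Subgroup.subset_closure (Or.inr ⟨i, hi, rfl⟩)
        exact Subgroup.mul_mem _ (Subgroup.mul_mem _ h2 (ih _)) (Subgroup.inv_mem _ h2)
    intro r hr t
    exact this r hr t
  have hz : z ∈ Subgroup.closure ({z | ∃ i < T.l, ∃ t : F, z = R.x (T.sim i) t} ∪ {z | ∃ i < T.l, z = R.nb i}) := by
    rw [hgen]; exact Subgroup.mem_top _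
  refine Subgroup.closure_induction_left (p := fun z _ => P z) ?_ ?_ ?_ hz
  · exact ⟨1, Subgroup.one_mem _, 1, Subgroup.one_mem _, [], by intro i hi; simp at hi, 1, Subgroup.one_mem _, by simp [nbw_nil]⟩
  · rintro x (⟨i, hi, t, rfl⟩ | ⟨i, hi, rfl⟩) y hy hP
    · exact hU _ (R.x_mem_US (g.sim_pos hi) (g.sim_lt hi) t) _ hP
    · exact hn i hi _ hP
  · rintro x (⟨i, hi, t, rfl⟩ | ⟨i, hi, rfl⟩) y hy hP
    · exact hU _ (Subgroup.inv_mem _ (R.x_mem_US (g.sim_pos hi) (g.sim_lt hi) t)) _ hP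
    · have e : (R.nb i)⁻¹ * y = R.nb i * ((R.nb i * R.nb i)⁻¹ * y) := by group
      rw [e]
      exact hn i hi _ (hH _ (Subgroup.inv_mem _ (R.nb_sq hi)) _ hP)

/-- the kernel of the projection lies in the diagonal part -/
theorem ker_le : R.pi.ker ≤ R.HS := by
  intro z hz
  rw [MonoidHom.mem_ker] at hz
  obtain ⟨u, hu, h, hh, w, hw, v, hv, rfl⟩ := R.cells z
  have h1 := R.pi_US hu
  have h2 := R.pi_US hv
  have h3 := R.pi_HS hh
  rw [map_mul, map_mul, map_mul, R.pi_nbw hw] at hz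
  have h4 : g.nw (F := F) w = (R.pi u * R.pi h)⁻¹ * (R.pi v)⁻¹ := by
    have : g.nw (F := F) w = (R.pi u * R.pi h)⁻¹ * (R.pi u * R.pi h * g.nw w * R.pi v) * (R.pi v)⁻¹ := by group
    rw [this, hz]; group
  have h5 : g.nw (F := F) w ∈ D.borelSubgroup F := by
    rw [h4]
    exact Subgroup.mul_mem _ (Subgroup.inv_mem _ (Subgroup.mul_mem _ (Good3.U_le_B h1) (Good3.H_le_B h3)))
      (Subgroup.inv_mem _ (Good3.U_le_B h2))
  have h6 := g.BN_inter h5 (g.nw_mem_N hw)
  have h7 := (g.nw_mem_H_iff hw).1 h6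
  have h8 := R.nbw_mem_HS _ w rfl hw h7
  set k := h * R.nbw w with hk
  have hkH : k ∈ R.HS := Subgroup.mul_mem _ hh h8
  have e1 : u * h * R.nbw w * v = (u * (k * v * k⁻¹)) * k := by rw [hk]; group
  have h9 := Subgroup.mul_mem _ hu (R.HS_norm_US hkH hv)
  have h10 : R.pi (u * (k * v * k⁻¹)) * R.pi k = 1 := by
    rw [← map_mul, ← e1, map_mul, map_mul, map_mul, R.pi_nbw hw]; exact hz
  have h11 : R.pi (u * (k * v * k⁻¹)) ∈ D.posUnipotent F ⊓ D.diagonalSubgroup F := by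
    refine ⟨R.pi_US h9, ?_⟩
    rw [mul_eq_one_iff_eq_inv.1 h10]
    exact Subgroup.inv_mem _ (R.pi_HS hkH)
  rw [g.U_inf_H, Subgroup.mem_bot] at h11
  rw [e1, R.US_inj h9 h11, one_mul]
  exact hkH

/-- the kernel is central -/
theorem ker_central : R.pi.ker ≤ Subgroup.center Γ := by
  intro z hz
  obtain ⟨χ, hχ⟩ := R.HS_act (R.ker_le hz)
  rw [MonoidHom.mem_ker] at hz
  rw [Subgroup.mem_center_iff]
  have hle : (⊤ : Subgroup Γ) ≤ Subgroup.centralizer {z} := by
    rw [← R.gen, Subgroup.closure_le]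
    rintro _ ⟨r, hr, t, rfl⟩
    rw [SetLike.mem_coe, Subgroup.mem_centralizer_iff]
    intro v hv
    rw [Set.mem_singleton_iff] at hv
    subst hv
    have h1 := hχ r hr t
    have h2 := congrArg R.pi h1
    rw [map_mul, map_mul, map_inv, hz, R.hpi r hr, R.hpi r hr] at h2
    have h3 : t = (χ r : F) * t := g.X_inj hr (by simpa using h2)
    rw [← h3] at h1
    rw [mul_inv_eq_iff_eq_mul] at h1
    exact h1
  intro y
  have := hle (Subgroup.mem_top y)
  rw [Subgroup.mem_centralizer_iff] at this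
  exact (this z rfl).symm

theorem pi_range : R.pi.range = D.group F := by
  rw [MonoidHom.range_eq_map, ← R.gen, MonoidHom.map_closure, g.G_eq]
  congr 1
  ext x
  constructor
  · rintro ⟨_, ⟨r, hr, t, rfl⟩, rfl⟩
    exact ⟨r, t, hr, R.hpi r hr t⟩
  · rintro ⟨r, t, hr, rfl⟩
    exact ⟨_, ⟨r, hr, t, rfl⟩, R.hpi r hr t⟩

end RG2
end CfsgLib.Chev
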