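import Cfsg.Agent.LibBad9D
/-! `p`-stability and quotients by `p`-groups, all odd primes. Seat helper9. -/
set_option autoImplicit false
set_option maxHeartbeats 400000

namespace CfsgLib.StP9

open Subgroup Cfsg CfsgLib.Dick9 CfsgLib.QuadSL9 CfsgLib.SecH12 CfsgLib.Stab9 CfsgLib.BGPi CfsgLib.Qd9 CfsgLib.Bad9
open scoped commutatorElement CfsgLib.BGPi Pointwise

section grp

variable {M : Type*} [Group M]

/-- the dihedral computation -/
theorem dihedral {Z X K : M} {j : ℕ} (hZ : Z ^ 2 = 1) (hX : X * Z * X⁻¹ = K * Z) (hN : K ^ (2 * j + 1) = 1) :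
    (K ^ j * X) * Z = Z * (K ^ j * X) := by
  have h1 : (K * Z) * (K * Z) = 1 := by
    rw [← hX]
    have : X * Z * X⁻¹ * (X * Z * X⁻¹) = X * (Z ^ 2) * X⁻¹ := by rw [pow_two]; group
    rw [this, hZ]; group
  have hZ' : Z⁻¹ = Z := by
    rw [inv_eq_iff_mul_eq_one, ← pow_two, hZ]
  have h2 : Z * K * Z⁻¹ = K⁻¹ := by
    rw [hZ', eq_inv_iff_mul_eq_one]
    have : Z * K * Z * K = K⁻¹ * ((K * Z) * (K * Z)) * K := by group
    rw [this, h1]; group
  have h3 : ∀ n : ℕ, Z * K ^ n * Z⁻¹ = (K⁻¹) ^ n := by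
    intro n
    rw [← h2, conj_pow]
  have h4 : X * Z = K * Z * X := by rw [← hX]; group
  calc (K ^ j * X) * Z = K ^ j * (X * Z) := by group
    _ = K ^ j * K * Z * X := by rw [h4]; group
    _ = Z * (Z * K ^ (j + 1) * Z⁻¹) * X := by
        rw [← mul_assoc, ← mul_assoc, ← pow_two, hZ, one_mul, ← pow_succ, hZ']
    _ = Z * (K ^ j * X) := by
        rw [h3]
        have h5 : (K⁻¹) ^ (j + 1) = K ^ j := by
          rw [inv_pow, inv_eq_iff_mul_eq_one, ← pow_add, show j + 1 + j = 2 * j + 1 by ring, hN]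
        rw [h5]; group

end grp

section bilin

/-! ### commutators in a group of class two, relative to a subgroup -/

variable {G : Type*} [Group G] {R : Subgroup G}

theorem c_mul_left (hc : ∀ r ∈ R, ∀ s ∈ R, ∀ t ∈ R, ⁅r, s⁆ * t = t * ⁅r, s⁆) {r s t : G} (hr : r ∈ R) (hs : s ∈ R)
    (ht : t ∈ R) : ⁅r * s, t⁆ = ⁅r, t⁆ * ⁅s, t⁆ := by
  have h := hc s hs t ht r hr
  calc ⁅r * s, t⁆ = r * ⁅s, t⁆ * r⁻¹ * ⁅r, t⁆ := by rw [commutatorElement_def, commutatorElement_def, commutatorElement_def]; group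
    _ = ⁅s, t⁆ * ⁅r, t⁆ := by rw [← h]; group
    _ = ⁅r, t⁆ * ⁅s, t⁆ := by
      rw [hc s hs t ht ⁅r, t⁆]
      rw [commutatorElement_def]
      exact mul_mem (mul_mem (mul_mem hr ht) (inv_mem hr)) (inv_mem ht)

theorem c_swap (r s : G) : ⁅r, s⁆ = ⁅s, r⁆⁻¹ := (commutatorElement_inv s r).symm

theorem c_mul_right (hc : ∀ r ∈ R, ∀ s ∈ R, ∀ t ∈ R, ⁅r, s⁆ * t = t * ⁅r, s⁆) {r s t : G} (hr : r ∈ R) (hs : s ∈ R)
    (ht : t ∈ R) : ⁅r, s * t⁆ = ⁅r, s⁆ * ⁅r, t⁆ := by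
  rw [c_swap, c_mul_left hc hs ht hr, mul_inv_rev, ← c_swap, ← c_swap]
  rw [hc r hr t ht ⁅r, s⁆]
  rw [commutatorElement_def]
  exact mul_mem (mul_mem (mul_mem hr hs) (inv_mem hr)) (inv_mem hs)

theorem c_pow_left (hc : ∀ r ∈ R, ∀ s ∈ R, ∀ t ∈ R, ⁅r, s⁆ * t = t * ⁅r, s⁆) {r t : G} (hr : r ∈ R)
    (ht : t ∈ R) (n : ℕ) : ⁅r ^ n, t⁆ = ⁅r, t⁆ ^ n := by
  induction n with
  | zero => rw [pow_zero, pow_zero, commutatorElement_one_left]
  | succ n ih => rw [pow_succ, c_mul_left hc (pow_mem hr n) hr ht, ih, pow_succ]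

theorem c_pow_right (hc : ∀ r ∈ R, ∀ s ∈ R, ∀ t ∈ R, ⁅r, s⁆ * t = t * ⁅r, s⁆) {r t : G} (hr : r ∈ R)
    (ht : t ∈ R) (n : ℕ) : ⁅r, t ^ n⁆ = ⁅r, t⁆ ^ n := by
  rw [c_swap, c_pow_left hc ht hr, ← inv_pow, ← c_swap]

end bilin

variable {p : ℕ} [hp : Fact p.Prime] {G : Type*} [Group G]

/-- a `Qd(p)`-configuration centralised by the `p'`-elements on the kernel -/
structure BadO (p : ℕ) [Fact p.Prime] (R L : Subgroup G) (φ : G → Matrix.SpecialLinearGroup (Fin 2) (ZMod p))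
    (ψ : G → ZMod p × ZMod p) : Prop where
  pg : IsPGroup p R
  nrm : ∀ l ∈ L, ∀ r ∈ R, l * r * l⁻¹ ∈ R
  fm : ∀ l ∈ L, ∀ l' ∈ L, φ (l * l') = φ l * φ l'
  fs : ∀ m, ∃ l ∈ L, φ l = m
  gm : ∀ r ∈ R, ∀ s ∈ R, ψ (r * s) = ψ r + ψ s
  gs : ∀ v, ∃ r ∈ R, ψ r = v
  eqv : ∀ l ∈ L, ∀ r ∈ R, ψ (l * r * l⁻¹) = act (φ l) (ψ r)
  cen : ∀ r ∈ R, ψ r = 0 → ∀ l ∈ L, (orderOf l).Coprime p → l * r = r * l

variable {R L : Subgroup G} {φ : G → Matrix.SpecialLinearGroup (Fin 2) (ZMod p)} {ψ : G → ZMod p × ZMod p}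

/-- additive partial homomorphisms -/
theorem ga_one {R : Subgroup G} {ψ : G → ZMod p × ZMod p} (h : ∀ r ∈ R, ∀ s ∈ R, ψ (r * s) = ψ r + ψ s) : ψ 1 = 0 := by
  have := h 1 (one_mem _) 1 (one_mem _)
  rw [mul_one] at this
  simpa using this

theorem ga_inv {R : Subgroup G} {ψ : G → ZMod p × ZMod p} (h : ∀ r ∈ R, ∀ s ∈ R, ψ (r * s) = ψ r + ψ s)
    {r : G} (hr : r ∈ R) : ψ r⁻¹ = -ψ r := by
  have := h r hr r⁻¹ (inv_mem hr)
  rw [mul_inv_cancel, ga_one h] at this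
  exact (neg_eq_of_add_eq_zero_right this.symm).symm

theorem ga_pow {R : Subgroup G} {ψ : G → ZMod p × ZMod p} (h : ∀ r ∈ R, ∀ s ∈ R, ψ (r * s) = ψ r + ψ s)
    {r : G} (hr : r ∈ R) (n : ℕ) : ψ (r ^ n) = ((n : ZMod p) * (ψ r).1, (n : ZMod p) * (ψ r).2) := by
  induction n with
  | zero => rw [pow_zero, ga_one h]; apply Prod.ext <;> simp
  | succ n ih =>
    rw [pow_succ, h _ (pow_mem hr n) _ hr, ih]
    apply Prod.ext
    · simp only [Prod.fst_add]; push_cast; ring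
    · simp only [Prod.snd_add]; push_cast; ring

/-- coprime elements fixing modulo a centralised `p`-element -/
theorem eq_one_of_cop {k r e : G} (hk : (orderOf k).Coprime p) (hke : k * e = e * k) (h : k * r * k⁻¹ = e * r)
    (he : ∃ n : ℕ, e ^ p ^ n = 1) : e = 1 := by
  have h1 : ∀ j : ℕ, k ^ j * r * (k ^ j)⁻¹ = e ^ j * r := by
    intro j
    induction j with
    | zero => simp
    | succ j ih =>
      have h2 : k * e ^ j = e ^ j * k := ((show Commute k e from hke).pow_right j).eq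
      calc k ^ (j + 1) * r * (k ^ (j + 1))⁻¹ = k * (k ^ j * r * (k ^ j)⁻¹) * k⁻¹ := by rw [pow_succ']; group
        _ = (k * e ^ j) * r * k⁻¹ := by rw [ih]; group
        _ = e ^ j * (k * r * k⁻¹) := by rw [h2]; group
        _ = e ^ (j + 1) * r := by rw [h, pow_succ]; group
  have h2 := h1 (orderOf k)
  rw [pow_orderOf_eq_one, one_mul, inv_one, mul_one] at h2
  have h3 : e ^ orderOf k = 1 := (mul_eq_right.1 h2.symm)
  obtain ⟨n, hn⟩ := he
  have h4 : orderOf e ∣ orderOf k := orderOf_dvd_of_pow_eq_one h3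
  have h5 : orderOf e ∣ p ^ n := orderOf_dvd_of_pow_eq_one hn
  have h6 : (orderOf k).Coprime (p ^ n) := Nat.Coprime.pow_right n hk
  rw [← orderOf_eq_one_iff]
  exact Nat.eq_one_of_dvd_coprimes h6 h4 h5

theorem p_elt {P : Subgroup G} (hP : IsPGroup p P) {x : G} (hx : x ∈ P) : ∃ n : ℕ, x ^ p ^ n = 1 := by
  obtain ⟨n, hn⟩ := hP ⟨x, hx⟩
  exact ⟨n, congrArg Subtype.val hn⟩

/-- the `p'`-part of an element is a power -/
theorem exists_pprime_pow [Finite G] (x : G) : ∃ a : ℕ, (orderOf (x ^ p ^ a)).Coprime p := by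
  obtain ⟨a, m', hm', hkm'⟩ := Nat.exists_eq_pow_mul_and_not_dvd (orderOf_pos x).ne' p hp.out.ne_one
  have hwo : orderOf (x ^ p ^ a) = m' := by
    rw [orderOf_pow, hkm', Nat.gcd_mul_right_left, Nat.mul_div_cancel_left _ (pow_pos hp.out.pos a)]
  exact ⟨a, by rw [hwo]; exact ((Nat.Prime.coprime_iff_not_dvd hp.out).2 hm').symm⟩

/-- the conjugation action -/
def cjAut {L R : Subgroup G} (h : ∀ l ∈ L, ∀ r ∈ R, l * r * l⁻¹ ∈ R) : L →* MulAut R where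
  toFun l :=
    { toFun := fun r => ⟨l * r * (l : G)⁻¹, h l l.2 r r.2⟩
      invFun := fun r => ⟨(l : G)⁻¹ * r * l, by have := h _ (inv_mem l.2) r r.2; rwa [inv_inv] at this⟩
      left_inv := fun r => by apply Subtype.ext; simp only; group
      right_inv := fun r => by apply Subtype.ext; simp only; group
      map_mul' := fun r s => by
        apply Subtype.ext
        change (l : G) * (r * s) * (l : G)⁻¹ = (l * r * (l : G)⁻¹) * (l * s * (l : G)⁻¹)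
        group }
  map_one' := by
    ext r
    change (1 : G) * r * (1 : G)⁻¹ = r
    group
  map_mul' a b := by
    ext r
    change ((a : G) * b) * r * ((a : G) * b)⁻¹ = a * (b * r * (b : G)⁻¹) * (a : G)⁻¹
    group

theorem cjAut_apply {L R : Subgroup G} (h : ∀ l ∈ L, ∀ r ∈ R, l * r * l⁻¹ ∈ R) (l : L) (r : R) :
    ((cjAut h l r : R) : G) = l * r * (l : G)⁻¹ := rfl

theorem cjAut_eq {L R : Subgroup G} (h : ∀ l ∈ L, ∀ r ∈ R, l * r * l⁻¹ ∈ R) {a b : L} :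
    cjAut h a = cjAut h b ↔ ∀ r ∈ R, (a : G) * r * (a : G)⁻¹ = b * r * (b : G)⁻¹ := by
  constructor
  · intro e r hr
    have := congrArg (fun f : MulAut R => ((f ⟨r, hr⟩ : R) : G)) e
    exact this
  · intro e
    ext r
    exact e r r.2

end CfsgLib.StP9
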