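import Cfsg.Agent.LibStP9
/-! `p`-stability and quotients by `p`-groups, all odd primes: instability from a configuration. Seat helper9. -/
set_option autoImplicit false
set_option maxHeartbeats 400000

namespace CfsgLib.StP9

open Subgroup Cfsg CfsgLib.Dick9 CfsgLib.QuadSL9 CfsgLib.SecH12 CfsgLib.Stab9 CfsgLib.BGPi CfsgLib.Qd9 CfsgLib.Bad9
open scoped commutatorElement CfsgLib.BGPi Pointwise

variable {p : ℕ} [hp : Fact p.Prime] {G : Type*} [Group G]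

variable {R L : Subgroup G} {φ : G → Matrix.SpecialLinearGroup (Fin 2) (ZMod p)} {ψ : G → ZMod p × ZMod p}

/-- a suitable element inducing the central involution, and elements commuting with it -/
theorem BadO.exists_z [Finite G] (hp2 : p ≠ 2) (h : BadO p R L φ ψ) :
    ∃ z ∈ L, φ z = -1 ∧ (orderOf z).Coprime p ∧ (∀ r ∈ R, z * (z * r * z⁻¹) * z⁻¹ = r) ∧
      ∀ m, ∃ x ∈ L, φ x = m ∧ ∀ r ∈ R, x * (z * r * z⁻¹) * x⁻¹ = z * (x * r * x⁻¹) * z⁻¹ := by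
  -- `p'`-elements of the kernel centralise `R`
  have hK : ∀ k ∈ L, φ k = 1 → (orderOf k).Coprime p → ∀ r ∈ R, k * r * k⁻¹ = r := by
    intro k hk hk1 hkc r hr
    have e : k * r * k⁻¹ * r⁻¹ ∈ R := mul_mem (h.nrm k hk r hr) (inv_mem hr)
    have e0 : ψ (k * r * k⁻¹ * r⁻¹) = 0 := by
      rw [h.gm _ (h.nrm k hk r hr) _ (inv_mem hr), h.eqv k hk r hr, hk1, act_one, ga_inv h.gm hr, add_neg_cancel]
    have h1 := h.cen _ e e0 k hk hkc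
    have h2 := eq_one_of_cop hkc h1 (r := r) (by group) (p_elt h.pg e)
    rwa [mul_inv_eq_one] at h2
  obtain ⟨z₀, hz₀, hz₀m⟩ := h.fs (-1)
  obtain ⟨a, ha⟩ := exists_pprime_pow (p := p) z₀
  set z := z₀ ^ p ^ a with hz
  have hzL : z ∈ L := pow_mem hz₀ _
  have hzm : φ z = -1 := by
    rw [hz, f_pow h.fm hz₀, hz₀m, neg_one_odd (hp.out.odd_of_ne_two hp2).pow]
  have hz2 : ∀ r ∈ R, z * (z * r * z⁻¹) * z⁻¹ = r := by
    intro r hr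
    have h1 : φ (z ^ 2) = 1 := by
      rw [f_pow h.fm hzL, hzm, neg_one_sq]
    have h2 : (orderOf (z ^ 2)).Coprime p := Nat.Coprime.coprime_dvd_left (orderOf_pow_dvd 2) ha
    have h3 := hK _ (pow_mem hzL 2) h1 h2 r hr
    rw [pow_two] at h3
    calc z * (z * r * z⁻¹) * z⁻¹ = (z * z) * r * (z * z)⁻¹ := by group
      _ = r := h3
  refine ⟨z, hzL, hzm, ha, hz2, ?_⟩
  intro m
  obtain ⟨x, hx, hxm⟩ := h.fs m
  set k₀ := x * z * x⁻¹ * z⁻¹ with hk₀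
  have hk₀L : k₀ ∈ L := mul_mem (mul_mem (mul_mem hx hzL) (inv_mem hx)) (inv_mem hzL)
  have hk₀1 : φ k₀ = 1 := by
    rw [hk₀, h.fm _ (mul_mem (mul_mem hx hzL) (inv_mem hx)) _ (inv_mem hzL), h.fm _ (mul_mem hx hzL) _ (inv_mem hx),
      h.fm _ hx _ hzL, f_inv h.fm hx, f_inv h.fm hzL, hzm, ← neg_one_comm, mul_assoc (-1) _ _, mul_inv_cancel, mul_one,
      mul_inv_cancel]
  obtain ⟨b, hb⟩ := exists_pprime_pow (p := p) k₀
  obtain ⟨j, hj⟩ : Odd (p ^ b) := (hp.out.odd_of_ne_two hp2).pow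
  have hk₀c : ∀ r ∈ R, k₀ ^ p ^ b * r * (k₀ ^ p ^ b)⁻¹ = r := by
    refine hK _ (pow_mem hk₀L _) ?_ hb
    rw [f_pow h.fm hk₀L, hk₀1, one_pow]
  -- pass to the automorphism group
  let A := cjAut h.nrm
  have hZ2 : A ⟨z, hzL⟩ ^ 2 = 1 := by
    rw [← map_pow, ← map_one A, cjAut_eq]
    intro r hr
    change (z ^ 2) * r * (z ^ 2)⁻¹ = 1 * r * 1⁻¹
    calc (z ^ 2) * r * (z ^ 2)⁻¹ = z * (z * r * z⁻¹) * z⁻¹ := by rw [pow_two]; group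
      _ = 1 * r * 1⁻¹ := by rw [hz2 r hr]; group
  have hX : A ⟨x, hx⟩ * A ⟨z, hzL⟩ * (A ⟨x, hx⟩)⁻¹ = A ⟨k₀, hk₀L⟩ * A ⟨z, hzL⟩ := by
    rw [← map_mul, ← map_inv, ← map_mul, ← map_mul]
    congr 1
    apply Subtype.ext
    change x * z * x⁻¹ = k₀ * z
    rw [hk₀]; group
  have hN : A ⟨k₀, hk₀L⟩ ^ (2 * j + 1) = 1 := by
    rw [← hj, ← map_pow, ← map_one A, cjAut_eq]
    intro r hr
    change k₀ ^ p ^ b * r * (k₀ ^ p ^ b)⁻¹ = 1 * r * 1⁻¹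
    rw [hk₀c r hr]; group
  have hcom := dihedral hZ2 hX hN
  have hx₁ : k₀ ^ j * x ∈ L := mul_mem (pow_mem hk₀L j) hx
  refine ⟨k₀ ^ j * x, hx₁, ?_, ?_⟩
  · rw [h.fm _ (pow_mem hk₀L j) _ hx, f_pow h.fm hk₀L, hk₀1, one_pow, one_mul, hxm]
  · intro r hr
    have h1 : A (⟨k₀ ^ j * x, hx₁⟩ * ⟨z, hzL⟩) = A (⟨z, hzL⟩ * ⟨k₀ ^ j * x, hx₁⟩) := by
      rw [map_mul, map_mul]
      have h2 : A ⟨k₀ ^ j * x, hx₁⟩ = A ⟨k₀, hk₀L⟩ ^ j * A ⟨x, hx⟩ := by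
        rw [← map_pow, ← map_mul]; rfl
      rw [h2]
      exact hcom
    have h2 := (cjAut_eq h.nrm).1 h1 r hr
    have h3 : (k₀ ^ j * x) * z * r * ((k₀ ^ j * x) * z)⁻¹ = z * (k₀ ^ j * x) * r * (z * (k₀ ^ j * x))⁻¹ := h2
    calc (k₀ ^ j * x) * (z * r * z⁻¹) * (k₀ ^ j * x)⁻¹ = (k₀ ^ j * x) * z * r * ((k₀ ^ j * x) * z)⁻¹ := by group
      _ = _ := h3
      _ = _ := by group

/-- the subgroup `[R, z]` -/
def Rz (R : Subgroup G) (z : G) : Subgroup G := closure {s | ∃ t ∈ R, s = t * (z * t⁻¹ * z⁻¹)}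

theorem Rz_le {z : G} (hz : ∀ r ∈ R, z * r * z⁻¹ ∈ R) : Rz R z ≤ R := by
  rw [Rz, closure_le]
  rintro _ ⟨t, ht, rfl⟩
  exact mul_mem ht (hz _ (inv_mem ht))

/-- elements commuting with the action of `z` normalise `[R, z]` -/
theorem Rz_nrm {z l : G} (hl : ∀ r ∈ R, l * r * l⁻¹ ∈ R)
    (h : ∀ r ∈ R, l * (z * r * z⁻¹) * l⁻¹ = z * (l * r * l⁻¹) * z⁻¹) : ∀ s ∈ Rz R z, l * s * l⁻¹ ∈ Rz R z := by
  intro s hs
  have h1 : Rz R z ≤ (Rz R z).comap (MulAut.conj l).toMonoidHom := by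
    conv_lhs => rw [Rz]
    rw [closure_le]
    rintro _ ⟨t, ht, rfl⟩
    change l * (t * (z * t⁻¹ * z⁻¹)) * l⁻¹ ∈ Rz R z
    refine subset_closure ⟨l * t * l⁻¹, hl t ht, ?_⟩
    have h2 := h t⁻¹ (inv_mem ht)
    calc l * (t * (z * t⁻¹ * z⁻¹)) * l⁻¹ = (l * t * l⁻¹) * (l * (z * t⁻¹ * z⁻¹) * l⁻¹) := by group
      _ = (l * t * l⁻¹) * (z * (l * t⁻¹ * l⁻¹) * z⁻¹) := by rw [h2]
      _ = _ := by group
  exact h1 hs

/-- all the facts about `[R, z]` -/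
theorem BadO.Rz_facts (hp2 : p ≠ 2) (h : BadO p R L φ ψ) {z : G} (hz : z ∈ L) (hzm : φ z = -1)
    (hzc : (orderOf z).Coprime p) (hz2 : ∀ r ∈ R, z * (z * r * z⁻¹) * z⁻¹ = r) :
    (∀ v, ∃ r ∈ Rz R z, ψ r = v) ∧ (∀ r ∈ R, ψ r = 0 → ∀ s ∈ Rz R z, r * s = s * r) ∧
      (∀ r ∈ Rz R z, ∃ c ∈ ⁅Rz R z, Rz R z⁆, z * r * z⁻¹ = r⁻¹ * c) := by
  have hzR : ∀ r ∈ R, z * r * z⁻¹ ∈ R := h.nrm z hz
  have hle := Rz_le hzR
  have hZ : ∀ r ∈ R, ψ r = 0 → ∀ s ∈ Rz R z, r * s = s * r := by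
    intro r hr hr0 s hs
    have h1 : Rz R z ≤ centralizer {r} := by
      rw [Rz, closure_le]
      rintro _ ⟨t, ht, rfl⟩
      rw [SetLike.mem_coe, mem_centralizer_singleton_iff]
      have h2 : t⁻¹ * r * t ∈ R := mul_mem (mul_mem (inv_mem ht) hr) ht
      have h3 : ψ (t⁻¹ * r * t) = 0 := by
        rw [h.gm _ (mul_mem (inv_mem ht) hr) _ ht, h.gm _ (inv_mem ht) _ hr, hr0, ga_inv h.gm ht]
        simp
      have h4 := h.cen _ h2 h3 z hz hzc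
      have h5 := h.cen _ hr hr0 z hz hzc
      have h5' : z⁻¹ * r = r * z⁻¹ := by
        rw [inv_mul_eq_iff_eq_mul, ← mul_assoc, h5, mul_assoc, mul_inv_cancel, mul_one]
      calc t * (z * t⁻¹ * z⁻¹) * r = t * z * t⁻¹ * (z⁻¹ * r) := by group
        _ = t * (z * (t⁻¹ * r * t)) * t⁻¹ * z⁻¹ := by rw [h5']; group
        _ = r * (t * (z * t⁻¹ * z⁻¹)) := by rw [h4]; group
    have h2 := h1 hs
    rw [mem_centralizer_singleton_iff] at h2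
    exact h2.symm
  have hD : ∀ c ∈ ⁅Rz R z, Rz R z⁆, c ∈ R ∧ ψ c = 0 := by
    intro c hc
    let E : Subgroup G :=
      { carrier := {c | c ∈ R ∧ ψ c = 0}
        mul_mem' := by
          rintro a b ⟨ha, ha0⟩ ⟨hb, hb0⟩
          exact ⟨mul_mem ha hb, by rw [h.gm _ ha _ hb, ha0, hb0, add_zero]⟩
        one_mem' := ⟨one_mem _, ga_one h.gm⟩
        inv_mem' := by
          rintro a ⟨ha, ha0⟩
          exact ⟨inv_mem ha, by rw [ga_inv h.gm ha, ha0, neg_zero]⟩ }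
    have h1 : ⁅Rz R z, Rz R z⁆ ≤ E := by
      rw [commutator_le]
      intro a ha b hb
      have ha' := hle ha
      have hb' := hle hb
      refine ⟨by rw [commutatorElement_def]; exact mul_mem (mul_mem (mul_mem ha' hb') (inv_mem ha')) (inv_mem hb'), ?_⟩
      rw [commutatorElement_def, h.gm _ (mul_mem (mul_mem ha' hb') (inv_mem ha')) _ (inv_mem hb'),
        h.gm _ (mul_mem ha' hb') _ (inv_mem ha'), h.gm _ ha' _ hb', ga_inv h.gm ha', ga_inv h.gm hb']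
      abel
    exact h1 hc
  refine ⟨?_, hZ, ?_⟩
  · intro v
    obtain ⟨t, ht, htv⟩ := h.gs ((2 : ZMod p)⁻¹ • v)
    refine ⟨t * (z * t⁻¹ * z⁻¹), subset_closure ⟨t, ht, rfl⟩, ?_⟩
    rw [h.gm t ht _ (h.nrm z hz _ (inv_mem ht)), h.eqv z hz _ (inv_mem ht), hzm, act_neg_one, ga_inv h.gm ht, neg_neg, htv,
      ← add_smul, ← two_mul, mul_inv_cancel₀ (two_ne' hp2), one_smul]
  · intro r hr
    have hcc : ∀ c ∈ ⁅Rz R z, Rz R z⁆, ∀ s ∈ Rz R z, c * s = s * c := fun c hc s hs => hZ c (hD c hc).1 (hD c hc).2 s hs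
    have hDle : ⁅Rz R z, Rz R z⁆ ≤ Rz R z := by
      rw [commutator_le]
      intro a ha b hb
      rw [commutatorElement_def]
      exact mul_mem (mul_mem (mul_mem ha hb) (inv_mem ha)) (inv_mem hb)
    rw [Rz] at hr
    induction hr using closure_induction with
    | mem x hx =>
      obtain ⟨t, ht, rfl⟩ := hx
      refine ⟨1, one_mem _, ?_⟩
      have h1 := hz2 t⁻¹ (inv_mem ht)
      calc z * (t * (z * t⁻¹ * z⁻¹)) * z⁻¹ = (z * t * z⁻¹) * (z * (z * t⁻¹ * z⁻¹) * z⁻¹) := by group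
        _ = (z * t * z⁻¹) * t⁻¹ := by rw [h1]
        _ = (t * (z * t⁻¹ * z⁻¹))⁻¹ * 1 := by group
    | one => exact ⟨1, one_mem _, by group⟩
    | mul x y hx hy hx' hy' =>
      obtain ⟨c, hc, hxc⟩ := hx'
      obtain ⟨d, hd, hyd⟩ := hy'
      have hx1 : x ∈ Rz R z := hx
      have hy1 : y ∈ Rz R z := hy
      refine ⟨⁅x, y⁆ * c * d, mul_mem (mul_mem (commutator_mem_commutator hx1 hy1) hc) hd, ?_⟩
      have e1 := hcc c hc y⁻¹ (inv_mem hy1)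
      have e2 : z * (x * y) * z⁻¹ = (z * x * z⁻¹) * (z * y * z⁻¹) := by group
      rw [e2, hxc, hyd]
      calc x⁻¹ * c * (y⁻¹ * d) = x⁻¹ * (c * y⁻¹) * d := by group
        _ = x⁻¹ * (y⁻¹ * c) * d := by rw [e1]
        _ = (x * y)⁻¹ * (⁅x, y⁆ * c * d) := by rw [commutatorElement_def]; group
    | inv x hx hx' =>
      obtain ⟨c, hc, hxc⟩ := hx'
      have hx1 : x ∈ Rz R z := hx
      refine ⟨c⁻¹, inv_mem hc, ?_⟩
      have e1 := hcc c⁻¹ (inv_mem hc) x hx1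
      calc z * x⁻¹ * z⁻¹ = (z * x * z⁻¹)⁻¹ := by group
        _ = c⁻¹ * x := by rw [hxc]; group
        _ = (x⁻¹)⁻¹ * c⁻¹ := by rw [e1]; group

end CfsgLib.StP9
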