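import Cfsg.Agent.LibStP9B
/-! `p`-stability and quotients by `p`-groups, all odd primes: main results. Seat helper9. -/
set_option autoImplicit false
set_option maxHeartbeats 400000

namespace CfsgLib.StP9

open Subgroup Cfsg CfsgLib.Dick9 CfsgLib.QuadSL9 CfsgLib.SecH12 CfsgLib.Stab9 CfsgLib.BGPi CfsgLib.Qd9 CfsgLib.Bad9 CfsgLib.Chief9
  CfsgLib.Weak9
open scoped commutatorElement CfsgLib.BGPi Pointwise

variable {p : ℕ} [hp : Fact p.Prime] {G : Type*} [Group G]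

variable {R L : Subgroup G} {φ : G → Matrix.SpecialLinearGroup (Fin 2) (ZMod p)} {ψ : G → ZMod p × ZMod p}

/-- the alternating form argument: elements acting as a transvection fix the commutators -/
theorem fix_comm {S : Subgroup G} {φ : G → Matrix.SpecialLinearGroup (Fin 2) (ZMod p)} {ψ : G → ZMod p × ZMod p}
    (gm : ∀ r ∈ S, ∀ s ∈ S, ψ (r * s) = ψ r + ψ s) (gs : ∀ v, ∃ r ∈ S, ψ r = v)
    (hZ : ∀ r ∈ S, ψ r = 0 → ∀ s ∈ S, r * s = s * r) {x : G} (hx : ∀ r ∈ S, x * r * x⁻¹ ∈ S)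
    (hxm : ∀ r ∈ S, ψ (x * r * x⁻¹) = ((ψ r).1 + (ψ r).2, (ψ r).2)) :
    ∀ c ∈ ⁅S, S⁆, x * c = c * x := by
  have hcomm : ∀ r ∈ S, ∀ s ∈ S, ⁅r, s⁆ ∈ S ∧ ψ ⁅r, s⁆ = 0 := by
    intro r hr s hs
    refine ⟨by rw [commutatorElement_def]; exact mul_mem (mul_mem (mul_mem hr hs) (inv_mem hr)) (inv_mem hs), ?_⟩
    rw [commutatorElement_def, gm _ (mul_mem (mul_mem hr hs) (inv_mem hr)) _ (inv_mem hs),
        gm _ (mul_mem hr hs) _ (inv_mem hr), gm _ hr _ hs, ga_inv gm hr, ga_inv gm hs]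
    abel
  have hc : ∀ r ∈ S, ∀ s ∈ S, ∀ t ∈ S, ⁅r, s⁆ * t = t * ⁅r, s⁆ := fun r hr s hs t ht =>
    hZ _ (hcomm r hr s hs).1 (hcomm r hr s hs).2 t ht
  -- the commutator depends only on `ψ`
  have hdep : ∀ r ∈ S, ∀ r' ∈ S, ψ r = ψ r' → ∀ s ∈ S, ⁅r, s⁆ = ⁅r', s⁆ := by
    intro r hr r' hr' e s hs
    have h1 : r'⁻¹ * r ∈ S := mul_mem (inv_mem hr') hr
    have h2 : ψ (r'⁻¹ * r) = 0 := by rw [gm _ (inv_mem hr') _ hr, ga_inv gm hr', e, neg_add_cancel]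
    have h3 : ⁅r'⁻¹ * r, s⁆ = 1 := commutatorElement_eq_one_iff_mul_comm.2 (hZ _ h1 h2 s hs)
    have h4 : r = r' * (r'⁻¹ * r) := by group
    rw [h4, c_mul_left hc hr' h1 hs, h3, mul_one]
  have hdep' : ∀ r ∈ S, ∀ r' ∈ S, ψ r = ψ r' → ∀ s ∈ S, ⁅s, r⁆ = ⁅s, r'⁆ := by
    intro r hr r' hr' e s hs
    rw [c_swap s r, c_swap s r', hdep r hr r' hr' e s hs]
  obtain ⟨a, ha, hav⟩ := gs (1, 0)
  obtain ⟨b, hb, hbv⟩ := gs (0, 1)
  have hrep : ∀ r ∈ S, ψ r = ψ (a ^ (ψ r).1.val * b ^ (ψ r).2.val) := by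
    intro r hr
    rw [gm _ (pow_mem ha _) _ (pow_mem hb _), ga_pow gm ha, ga_pow gm hb, hav, hbv, ZMod.natCast_zmod_val,
      ZMod.natCast_zmod_val]
    apply Prod.ext <;> simp
  have key : ∀ r ∈ S, ∀ s ∈ S, x * ⁅r, s⁆ * x⁻¹ = ⁅r, s⁆ := by
    intro r hr s hs
    set j := (ψ r).2.val with hj
    set l := (ψ s).2.val with hl
    have e1 : ψ (x * r * x⁻¹) = ψ (a ^ j * r) := by
      rw [hxm r hr, gm _ (pow_mem ha j) _ hr, ga_pow gm ha, hav, hj, ZMod.natCast_zmod_val]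
      apply Prod.ext
      · simp [add_comm]
      · simp
    have e2 : ψ (x * s * x⁻¹) = ψ (a ^ l * s) := by
      rw [hxm s hs, gm _ (pow_mem ha l) _ hs, ga_pow gm ha, hav, hl, ZMod.natCast_zmod_val]
      apply Prod.ext
      · simp [add_comm]
      · simp
    have haj := pow_mem ha j
    have hal := pow_mem ha l
    have e3 : x * ⁅r, s⁆ * x⁻¹ = ⁅x * r * x⁻¹, x * s * x⁻¹⁆ := by
      rw [commutatorElement_def, commutatorElement_def]; group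
    rw [e3, hdep _ (hx r hr) _ (mul_mem haj hr) e1 _ (hx s hs), hdep' _ (hx s hs) _ (mul_mem hal hs) e2 _ (mul_mem haj hr),
      c_mul_left hc haj hr (mul_mem hal hs), c_mul_right hc haj hal hs, c_mul_right hc hr hal hs]
    have f1 : ⁅a ^ j, a ^ l⁆ = 1 := commutatorElement_eq_one_iff_mul_comm.2 ((Commute.refl a).pow_pow j l).eq
    have f2 : ⁅a ^ j, s⁆ = (⁅a, b⁆ ^ l) ^ j := by
      rw [c_pow_left hc ha hs, hdep' s hs _ (mul_mem (pow_mem ha _) (pow_mem hb _)) (hrep s hs) a ha,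
        c_mul_right hc ha (pow_mem ha _) (pow_mem hb _), c_pow_right hc ha ha, c_pow_right hc ha hb]
      rw [commutatorElement_self, one_pow, one_mul]
    have f3 : ⁅r, a ^ l⁆ = (⁅b, a⁆ ^ j) ^ l := by
      rw [c_pow_right hc hr ha, hdep r hr _ (mul_mem (pow_mem ha _) (pow_mem hb _)) (hrep r hr) a ha,
        c_mul_left hc (pow_mem ha _) (pow_mem hb _) ha, c_pow_left hc ha ha, c_pow_left hc hb ha]
      rw [commutatorElement_self, one_pow, one_mul]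
    rw [f1, f2, f3, one_mul, ← mul_assoc, c_swap b a, ← pow_mul, ← pow_mul, mul_comm j l, inv_pow, mul_inv_cancel, one_mul]
  intro c hc'
  have h1 : ⁅S, S⁆ ≤ centralizer {x} := by
    rw [commutator_le]
    intro r hr s hs
    rw [mem_centralizer_singleton_iff]
    have := key r hr s hs
    rw [mul_inv_eq_iff_eq_mul] at this
    exact this.symm
  have h2 := h1 hc'
  rw [mem_centralizer_singleton_iff] at h2
  exact h2.symm

theorem BadO.not_stab [Finite G] (hp2 : p ≠ 2) (h : BadO p R L φ ψ) : ¬ Stab p G := by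
  intro hst
  obtain ⟨z, hz, hzm, hzc, hz2, hzx⟩ := h.exists_z hp2
  obtain ⟨gs', hZ', hI'⟩ := h.Rz_facts hp2 hz hzm hzc hz2
  have hle : Rz R z ≤ R := Rz_le (h.nrm z hz)
  obtain ⟨S, hS⟩ : ∃ S, S = Rz R z := ⟨_, rfl⟩
  rw [← hS] at gs' hZ' hI' hle
  have hSn : ∀ l ∈ L, (∀ r ∈ R, l * (z * r * z⁻¹) * l⁻¹ = z * (l * r * l⁻¹) * z⁻¹) → ∀ s ∈ S, l * s * l⁻¹ ∈ S := by
    intro l hl h1
    rw [hS]
    exact Rz_nrm (h.nrm l hl) h1
  have hSp : IsPGroup p S := h.pg.to_le hle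
  have gm : ∀ r ∈ S, ∀ s ∈ S, ψ (r * s) = ψ r + ψ s := fun r hr s hs => h.gm r (hle hr) s (hle hs)
  have hZ : ∀ r ∈ S, ψ r = 0 → ∀ s ∈ S, r * s = s * r := fun r hr => hZ' r (hle hr)
  have hzS : ∀ r ∈ S, z * r * z⁻¹ ∈ S := hSn z hz (fun r hr => rfl)
  obtain ⟨x₁, hx₁L, hx₁m, hxz⟩ := hzx (su (1 : ZMod p))
  have hxS : ∀ r ∈ S, x₁ * r * x₁⁻¹ ∈ S := hSn x₁ hx₁L hxz
  have hxψ : ∀ r ∈ S, ψ (x₁ * r * x₁⁻¹) = ((ψ r).1 + (ψ r).2, (ψ r).2) := by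
    intro r hr
    rw [h.eqv _ hx₁L _ (hle hr), hx₁m, act_su]
  have hfix := fix_comm (φ := φ) gm gs' hZ hxS hxψ
  -- odd exponent
  obtain ⟨n, hn⟩ := IsPGroup.iff_card.1 hSp
  obtain ⟨m, hm⟩ : Odd (p ^ n) := (hp.out.odd_of_ne_two hp2).pow
  have hexp : ∀ e ∈ S, e ^ (2 * m + 1) = 1 := by
    intro e he
    have h1 : (⟨e, he⟩ : S) ^ Nat.card S = 1 := pow_card_eq_one'
    rw [hn, hm] at h1
    exact congrArg Subtype.val h1
  have hDS : ⁅S, S⁆ ≤ S := by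
    rw [commutator_le]
    intro a ha b hb
    rw [commutatorElement_def]
    exact mul_mem (mul_mem (mul_mem ha hb) (inv_mem ha)) (inv_mem hb)
  -- the kernel is contained in the derived group
  have hker : ∀ e ∈ S, ψ e = 0 → e ∈ ⁅S, S⁆ := by
    intro e he he0
    obtain ⟨c, hc, hec⟩ := hI' e he
    have h1 := h.cen e (hle he) he0 z hz hzc
    rw [h1, mul_inv_cancel_right] at hec
    have h2 : e ^ 2 = c := by
      rw [pow_two]
      nth_rewrite 2 [hec]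
      rw [mul_inv_cancel_left]
    have h3 : e ^ (2 * m + 2) = e := by
      rw [show 2 * m + 2 = (2 * m + 1) + 1 by ring, pow_succ, hexp e he, one_mul]
    have h4 : e ^ (2 * m + 2) = c ^ (m + 1) := by
      rw [← h2, ← pow_mul]; congr 1
    rw [← h3, h4]
    exact pow_mem hc _
  have hcenx : ∀ e ∈ S, ψ e = 0 → x₁ * e = e * x₁ := fun e he he0 => hfix e (hker e he he0)
  have hcenz : ∀ e ∈ S, ψ e = 0 → z * e = e * z := fun e he he0 => h.cen e (hle he) he0 z hz hzc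
  have hinv : ∀ r ∈ S, ∃ e ∈ S, ψ e = 0 ∧ z * r * z⁻¹ = r⁻¹ * e := by
    intro r hr
    refine ⟨r * (z * r * z⁻¹), mul_mem hr (hzS r hr), ?_, by group⟩
    rw [gm _ hr _ (hzS r hr), h.eqv z hz r (hle hr), hzm, act_neg_one, add_neg_cancel]
  have hcomm : ∀ r ∈ S, x₁ * (z * r * z⁻¹) * x₁⁻¹ = z * (x₁ * r * x₁⁻¹) * z⁻¹ := fun r hr => hxz r (hle hr)
  have hquad : ∀ r ∈ S, x₁ * (x₁ * r * x₁⁻¹ * r⁻¹) = (x₁ * r * x₁⁻¹ * r⁻¹) * x₁ := by
    intro r hr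
    obtain ⟨t, ht⟩ : ∃ t, t = x₁ * r * x₁⁻¹ * r⁻¹ := ⟨_, rfl⟩
    have htR : t ∈ S := by rw [ht]; exact mul_mem (hxS _ hr) (inv_mem hr)
    have hxr : x₁ * r * x₁⁻¹ = t * r := by rw [ht]; group
    obtain ⟨e, he⟩ : ∃ e, e = x₁ * t * x₁⁻¹ * t⁻¹ := ⟨_, rfl⟩
    have heR : e ∈ S := by rw [he]; exact mul_mem (hxS _ htR) (inv_mem htR)
    have hxt : x₁ * t * x₁⁻¹ = e * t := by rw [he]; group
    have ht0 : ψ t = ((ψ r).2, 0) := by
      rw [ht, gm _ (hxS _ hr) _ (inv_mem hr), hxψ _ hr, ga_inv gm hr]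
      apply Prod.ext
      · simp only [Prod.fst_add, Prod.fst_neg]; ring
      · simp only [Prod.snd_add, Prod.snd_neg]; ring
    have he0 : ψ e = 0 := by
      rw [he, gm _ (hxS _ htR) _ (inv_mem htR), hxψ _ htR, ga_inv gm htR, ht0]
      apply Prod.ext
      · simp only [Prod.fst_add, Prod.fst_neg, Prod.fst_zero]; ring
      · simp only [Prod.snd_add, Prod.snd_neg, Prod.snd_zero]; ring
    obtain ⟨f, hf, hf0, hfr⟩ := hinv r hr
    have k1 : x₁ * (z * r * z⁻¹) * x₁⁻¹ = (z * t * z⁻¹) * (z * r * z⁻¹) := by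
      rw [hcomm r hr, hxr]; group
    have k2 : x₁ * (z * t * z⁻¹) * x₁⁻¹ = e * (z * t * z⁻¹) := by
      rw [hcomm t htR, hxt]
      have := hcenz e heR he0
      calc z * (e * t) * z⁻¹ = (z * e) * t * z⁻¹ := by group
        _ = e * (z * t * z⁻¹) := by rw [this]; group
    have k3 : x₁ * (z * r * z⁻¹) * x₁⁻¹ = (r⁻¹ * t⁻¹ * r) * (z * r * z⁻¹) := by
      rw [hfr]
      have := hcenx f hf hf0
      calc x₁ * (r⁻¹ * f) * x₁⁻¹ = (x₁ * r * x₁⁻¹)⁻¹ * (x₁ * f) * x₁⁻¹ := by group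
        _ = (t * r)⁻¹ * f := by rw [hxr, this]; group
        _ = _ := by group
    have k4 : z * t * z⁻¹ = r⁻¹ * t⁻¹ * r := mul_right_cancel (k1.symm.trans k3)
    have k5 : x₁ * (r⁻¹ * t⁻¹ * r) * x₁⁻¹ = e⁻¹ * (r⁻¹ * t⁻¹ * r) := by
      have c1 := hZ e heR he0 t htR
      have c2 := hZ e heR he0 r hr
      have c2' : e⁻¹ * r⁻¹ = r⁻¹ * e⁻¹ := by rw [← mul_inv_rev, ← mul_inv_rev, c2]
      calc x₁ * (r⁻¹ * t⁻¹ * r) * x₁⁻¹ = (x₁ * r * x₁⁻¹)⁻¹ * (x₁ * t * x₁⁻¹)⁻¹ * (x₁ * r * x₁⁻¹) := by group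
        _ = r⁻¹ * t⁻¹ * (e * t)⁻¹ * t * r := by rw [hxr, hxt]; group
        _ = r⁻¹ * t⁻¹ * (t * e)⁻¹ * t * r := by rw [c1]
        _ = r⁻¹ * (e * t)⁻¹ * r := by group
        _ = r⁻¹ * (t * e)⁻¹ * r := by rw [c1]
        _ = r⁻¹ * e⁻¹ * t⁻¹ * r := by group
        _ = e⁻¹ * (r⁻¹ * t⁻¹ * r) := by rw [← c2']; group
    rw [k4, k5] at k2
    have k6 : e⁻¹ = e := mul_right_cancel k2
    have k7 : e ^ 2 = 1 := by
      rw [pow_two]
      nth_rewrite 1 [← k6]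
      exact inv_mul_cancel e
    have k8 : e = 1 := by
      have := hexp e heR
      rwa [pow_succ, pow_mul, k7, one_pow, one_mul] at this
    rw [k8, one_mul] at hxt
    have : x₁ * t = t * x₁ := by rw [mul_inv_eq_iff_eq_mul] at hxt; exact hxt
    rw [← ht]; exact this
  have hq := quad_of_elem hxS hquad
  -- the subgroup of elements commuting with `z` on `R`
  let L₂ : Subgroup G :=
    { carrier := {l | l ∈ L ∧ ∀ r ∈ R, l * (z * r * z⁻¹) * l⁻¹ = z * (l * r * l⁻¹) * z⁻¹}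
      mul_mem' := by
        rintro a b ⟨ha, ha'⟩ ⟨hb, hb'⟩
        refine ⟨mul_mem ha hb, fun r hr => ?_⟩
        calc a * b * (z * r * z⁻¹) * (a * b)⁻¹ = a * (b * (z * r * z⁻¹) * b⁻¹) * a⁻¹ := by group
          _ = z * (a * (b * r * b⁻¹) * a⁻¹) * z⁻¹ := by rw [hb' r hr, ha' _ (h.nrm b hb r hr)]
          _ = _ := by group
      one_mem' := ⟨one_mem _, fun r hr => by group⟩
      inv_mem' := by
        rintro a ⟨ha, ha'⟩
        refine ⟨inv_mem ha, fun r hr => ?_⟩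
        have h1 := ha' _ (h.nrm _ (inv_mem ha) r hr)
        have h2 : a * (z * (a⁻¹ * r * a⁻¹⁻¹) * z⁻¹) * a⁻¹ = z * r * z⁻¹ := by
          rw [h1]; group
        rw [← h2]; group }
  have hL₂n : L₂ ≤ 𝓝(S) := le_nz.2 fun l hl => hSn l hl.1 hl.2
  obtain ⟨K, -, hxK, hNK, hKp⟩ := hst S hSp x₁ (hL₂n ⟨hx₁L, hxz⟩) hq
  let I : Subgroup (Matrix.SpecialLinearGroup (Fin 2) (ZMod p)) :=
    { carrier := {m | ∃ l ∈ L₂ ⊓ K, φ l = m}
      mul_mem' := by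
        rintro _ _ ⟨l, hl, rfl⟩ ⟨l', hl', rfl⟩
        exact ⟨l * l', mul_mem hl hl', h.fm _ hl.1.1 _ hl'.1.1⟩
      one_mem' := ⟨1, one_mem _, f_one h.fm⟩
      inv_mem' := by
        rintro _ ⟨l, hl, rfl⟩
        exact ⟨l⁻¹, inv_mem hl, f_inv h.fm hl.1.1⟩ }
  have hI : I.Normal := ⟨by
    rintro _ ⟨y, hy, rfl⟩ m
    obtain ⟨l, hl, rfl, hlz⟩ := hzx m
    have hl₂ : l ∈ L₂ := ⟨hl, hlz⟩
    refine ⟨l * y * l⁻¹, ⟨L₂.mul_mem (L₂.mul_mem hl₂ hy.1) (L₂.inv_mem hl₂), ?_⟩, ?_⟩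
    · exact le_nz.1 (hL₂n.trans hNK) l hl₂ y hy.2
    · rw [h.fm _ (mul_mem hl hy.1.1) _ (inv_mem hl), h.fm _ hl _ hy.1.1, f_inv h.fm hl]⟩
  have hItop := eq_top_of_su I hI ⟨x₁, ⟨⟨hx₁L, hxz⟩, hxK⟩, hx₁m⟩
  have h1 : (-1 : Matrix.SpecialLinearGroup (Fin 2) (ZMod p)) ∈ I := by rw [hItop]; exact mem_top _
  obtain ⟨k, hk, hkm⟩ := h1
  obtain ⟨a, hac⟩ := exists_pprime_pow (p := p) k
  have h2 := hKp _ (pow_mem hk.2 (p ^ a)) hac
  have h3 : φ (k ^ p ^ a) = -1 := by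
    rw [f_pow h.fm hk.1.1, hkm, neg_one_odd (hp.out.odd_of_ne_two hp2).pow]
  obtain ⟨r, hr, hr1⟩ := gs' (1, 0)
  have h4 := h.eqv _ (pow_mem hk.1.1 (p ^ a)) r (hle hr)
  rw [mem_centralizer_iff] at h2
  rw [← h2 r hr, mul_inv_cancel_right, h3, act_neg_one, hr1] at h4
  have h5 : (1 : ZMod p) = -1 := congrArg Prod.fst h4
  apply two_ne' hp2
  linear_combination h5

/-- going up from a quotient by a `p`-group `Q` with `G / C_G(Q)` a `p`-group -/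
theorem BadO.up [Finite G] {Q : Subgroup G} [hQn : Q.Normal] (hQ : IsPGroup p Q)
    (hC : ∀ x : G, ∃ k : ℕ, x ^ p ^ k ∈ centralizer (Q : Set G)) {R L : Subgroup (G ⧸ Q)}
    {φ : (G ⧸ Q) → Matrix.SpecialLinearGroup (Fin 2) (ZMod p)} {ψ : (G ⧸ Q) → ZMod p × ZMod p} (h : BadO p R L φ ψ) :
    BadO p (R.comap (QuotientGroup.mk' Q)) (L.comap (QuotientGroup.mk' Q)) (fun x => φ (QuotientGroup.mk' Q x))
      (fun x => ψ (QuotientGroup.mk' Q x)) := by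
  set π := QuotientGroup.mk' Q with hπ
  refine ⟨?_, ?_, ?_, ?_, ?_, ?_, ?_, ?_⟩
  · refine h.pg.comap_of_ker_isPGroup π ?_
    rw [hπ, QuotientGroup.ker_mk']
    exact hQ
  · intro l hl r hr
    change π (l * r * l⁻¹) ∈ R
    rw [map_mul, map_mul, map_inv]
    exact h.nrm _ hl _ hr
  · intro l hl r hr
    rw [map_mul]
    exact h.fm _ hl _ hr
  · intro m
    obtain ⟨l, hl, hm⟩ := h.fs m
    obtain ⟨g, rfl⟩ := QuotientGroup.mk'_surjective Q l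
    exact ⟨g, hl, hm⟩
  · intro l hl r hr
    rw [map_mul]
    exact h.gm _ hl _ hr
  · intro m
    obtain ⟨l, hl, hm⟩ := h.gs m
    obtain ⟨g, rfl⟩ := QuotientGroup.mk'_surjective Q l
    exact ⟨g, hl, hm⟩
  · intro l hl r hr
    rw [map_mul, map_mul, map_inv]
    exact h.eqv _ hl _ hr
  · intro r hr hr0 l hl hlc
    have h1 : (orderOf (π l)).Coprime p := Nat.Coprime.coprime_dvd_left (orderOf_map_dvd π l) hlc
    have h2 := h.cen _ hr hr0 _ hl h1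
    have h3 : l * r * l⁻¹ * r⁻¹ ∈ Q := by
      rw [← QuotientGroup.ker_mk' Q, MonoidHom.mem_ker]
      change π _ = 1
      rw [map_mul, map_mul, map_mul, map_inv, map_inv, h2]
      group
    -- `l` centralises `Q`
    have h4 : ∀ q ∈ Q, l * q = q * l := by
      intro q hq
      obtain ⟨k, hk⟩ := hC l
      rw [mem_centralizer_iff] at hk
      have h5 : l ∈ zpowers (l ^ p ^ k) := by
        have h6 : (orderOf l).Coprime (p ^ k) := Nat.Coprime.pow_right k hlc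
        obtain ⟨m, hm⟩ := exists_pow_eq_self_of_coprime h6.symm
        refine ⟨(m : ℤ), ?_⟩
        change (l ^ p ^ k) ^ (m : ℤ) = l
        rw [zpow_natCast]
        exact hm
      obtain ⟨j, hj⟩ := h5
      have h7 : Commute q (l ^ p ^ k) := hk q hq
      have h8 := h7.zpow_right j
      have hj' : (l ^ p ^ k) ^ j = l := hj
      rw [hj'] at h8
      exact h8.eq.symm
    have h5 := eq_one_of_cop hlc (h4 _ h3) (r := r) (by group) (p_elt hQ h3)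
    rw [mul_inv_eq_one, mul_inv_eq_iff_eq_mul] at h5
    exact h5

/-- transfer to an overgroup -/
theorem BadO.map {N : Subgroup G} {R L : Subgroup N}
    {φ : N → Matrix.SpecialLinearGroup (Fin 2) (ZMod p)} {ψ : N → ZMod p × ZMod p} (h : BadO p R L φ ψ) :
    ∃ (R' L' : Subgroup G) (φ' : G → Matrix.SpecialLinearGroup (Fin 2) (ZMod p)) (ψ' : G → ZMod p × ZMod p),
      BadO p R' L' φ' ψ' := by
  classical
  obtain ⟨φ', hφ'⟩ : ∃ φ' : G → Matrix.SpecialLinearGroup (Fin 2) (ZMod p), ∀ x : N, φ' (x : G) = φ x :=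
    ⟨fun y : G => if hy : y ∈ N then φ ⟨y, hy⟩ else 1, fun x => by simp⟩
  obtain ⟨ψ', hψ'⟩ : ∃ ψ' : G → ZMod p × ZMod p, ∀ x : N, ψ' (x : G) = ψ x :=
    ⟨fun y : G => if hy : y ∈ N then ψ ⟨y, hy⟩ else 0, fun x => by simp⟩
  refine ⟨R.map N.subtype, L.map N.subtype, φ', ψ', ⟨h.pg.map _, ?_, ?_, ?_, ?_, ?_, ?_, ?_⟩⟩
  · rintro _ ⟨l, hl, rfl⟩ _ ⟨r, hr, rfl⟩
    exact ⟨l * r * l⁻¹, h.nrm l hl r hr, rfl⟩
  · rintro _ ⟨l, hl, rfl⟩ _ ⟨r, hr, rfl⟩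
    change φ' ((l * r : N) : G) = φ' (l : G) * φ' (r : G)
    rw [hφ', hφ', hφ']
    exact h.fm l hl r hr
  · intro m
    obtain ⟨l, hl, hm⟩ := h.fs m
    exact ⟨l, ⟨l, hl, rfl⟩, by rw [hφ', hm]⟩
  · rintro _ ⟨l, hl, rfl⟩ _ ⟨r, hr, rfl⟩
    change ψ' ((l * r : N) : G) = ψ' (l : G) + ψ' (r : G)
    rw [hψ', hψ', hψ']
    exact h.gm l hl r hr
  · intro v
    obtain ⟨l, hl, hm⟩ := h.gs v
    exact ⟨l, ⟨l, hl, rfl⟩, by rw [hψ', hm]⟩
  · rintro _ ⟨l, hl, rfl⟩ _ ⟨r, hr, rfl⟩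
    change ψ' ((l * r * l⁻¹ : N) : G) = act (φ' (l : G)) (ψ' (r : G))
    rw [hψ', hψ', hφ']
    exact h.eqv l hl r hr
  · rintro _ ⟨r, hr, rfl⟩ hr0 _ ⟨l, hl, rfl⟩ hlc
    change ψ' (r : G) = 0 at hr0
    rw [hψ'] at hr0
    rw [Subgroup.subtype_apply, Subgroup.orderOf_coe] at hlc
    exact congrArg N.subtype (h.cen r hr hr0 l hl hlc)

end CfsgLib.StP9
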