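import Cfsg.Agent.LibStP9D
import Cfsg.Agent.LibBad9E
import Cfsg.Agent.LibDFus9
import Cfsg.Agent.LibDZJ9
/-! Control of fusion in `p`-stable groups, `p` odd. Seat helper9. -/
set_option autoImplicit false
set_option maxHeartbeats 400000

namespace CfsgLib.StP9

open Subgroup Cfsg CfsgLib.SecH12 CfsgLib.Stab9 CfsgLib.FusionH12 CfsgLib.FusionH12b CfsgLib.FusionH12c
  CfsgLib.FusionH12d CfsgLib.FusionH12e CfsgLib.FusionH12f CfsgLib.DFus9 CfsgLib.Qd9 CfsgLib.DZJ9
open scoped commutatorElement

universe u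

variable {p : ℕ} [hp : Fact p.Prime]

theorem main_pair_class {W : ∀ (Q : Type u) [Group Q], Subgroup Q} (hW : IsCharPFunctor.{u} p W)
    (Φ : ∀ (H : Type u) [Group H], Prop)
    (hΦs : ∀ (H : Type u) [Group H] [Finite H] (K : Subgroup H), Φ H → Φ K)
    (hΦp : ∀ (H : Type u) [Group H] [Finite H], Φ H → Φ (H ⧸ pPrimeCore p H))
    (hΦq : ∀ (H : Type u) [Group H] [Finite H], Φ H →
      (∀ x : H, ∃ k : ℕ, x ^ p ^ k ∈ centralizer ((pCore p H : Subgroup H) : Set H)) → Φ (H ⧸ pCore p H))
    (hyp : ∀ (H : Type u) [Group H] [Finite H], Φ H →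
      centralizer ((pCore p H : Subgroup H) : Set H) ≤ pCore p H →
      ∀ (T : Sylow p H) (E : Subgroup H), IsStronglyClosed E (T : Subgroup H) → (inducedFunctor (G := H) W E).Normal) :
    ∀ (n : ℕ) (G : Type u) [Group G] [Finite G], Nat.card G ≤ n → Φ G →
    ∀ (S : Sylow p G) (D : Subgroup G), IsStronglyClosed D (S : Subgroup G) →
      FusIn (S : Subgroup G) ⊤ {normalizer ((inducedFunctor (G := G) W D : Subgroup G) : Set G)} := by
  intro n
  induction n with
  | zero =>
    intro G _ _ hn
    have : 0 < Nat.card G := Nat.card_pos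
    omega
  | succ n ih =>
  intro G _ _ hn hΦ S D hD
  have hWc := induced_isConj hW G
  have hS := SylIn.ofSylow S
  have hSD := sc_le_normalizer hD
  have hDp : IsPGroup p D := S.2.to_le hD.1
  have hsub : ∀ K : Subgroup G, K ≠ ⊤ → ∀ T : Subgroup G, SylIn p T K → T ≤ S →
      FusIn T K {K ⊓ normalizer ((inducedFunctor (G := G) W (D ⊓ T) : Subgroup G) : Set G)} := by
    intro K hK T hT hTS
    have := card_lt_of_ne_top hK
    exact fusIn_sub hW S.2 hD hT hTS (ih ↥K (by omega) (hΦs G K hΦ))
  have hsub' : ∀ K : Subgroup G, K ≠ ⊤ → (S : Subgroup G) ≤ K →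
      FusIn (S : Subgroup G) K {normalizer ((inducedFunctor (G := G) W D : Subgroup G) : Set G)} := by
    intro K hK hSK
    have h1 := hsub K hK S (hS.mono hSK le_top) le_rfl
    rw [inf_eq_left.2 hD.1] at h1
    exact FusIn.mono h1 (by rintro _ rfl; exact ⟨_, rfl, inf_le_right⟩)
  by_cases hD1 : D = ⊥
  · apply fusIn_top
    have h1 : inducedFunctor (G := G) W D = ⊥ := by
      rw [eq_bot_iff]
      exact (W_le hWc hDp).trans hD1.le
    rw [h1, normalizer_eq_top]
  have hnorm : (inducedFunctor (G := G) W D).Normal →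
      FusIn (S : Subgroup G) ⊤ {normalizer ((inducedFunctor (G := G) W D : Subgroup G) : Set G)} := by
    intro h
    apply fusIn_top
    rw [normalizer_eq_top]
  have hDnorm : D.Normal → (inducedFunctor (G := G) W D).Normal := by
    intro h
    have h1 := nrm_le_nrm_W hWc hDp
    rw [normalizer_eq_top, top_le_iff] at h1
    exact normalizer_eq_top_iff.1 h1
  by_cases hK : pPrimeCore p G = ⊥
  swap
  · -- quotient by the `p'`-core
    have h1 : Nat.card (G ⧸ pPrimeCore p G) ≤ n := by
      have := card_quot_lt hK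
      omega
    have hcop := CfsgLib.Cores.pPrimeCore_coprime (G := G) p
    have h2 := ih (G ⧸ pPrimeCore p G) h1 (hΦp G hΦ)
      (S.mapSurjective (QuotientGroup.mk'_surjective _)) (D.map (QuotientGroup.mk' _)) (sc_map S hD _)
    have e1 := induced_map hW (QuotientGroup.mk' (pPrimeCore p G)) D hDp
      ((injOn_mk (inf_eq_bot_of_pprime S.2 hcop)).mono hD.1)
    rw [e1] at h2
    exact fusIn_of_pprime S ((W_le hWc hDp).trans hD.1) (hSD.trans (nrm_le_nrm_W hWc hDp)) _ hcop h2
  by_cases hQ : pCore p G = ⊥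
  · -- local-to-global
    have hWD := WD_conj (p := p) hW D
    have h1 := lg_fusion hS (𝓦 := {WD W D}) (by rintro _ rfl; exact hWD) (𝓕 := {T | T ≤ (S : Subgroup G)})
      (fun U hU => hU) (allFam hS) (by
        intro U hU hU1 hsyl
        have hne : normalizer (U : Set G) ≠ ⊤ := nrm_ne_top_of_pgroup (S.2.to_le hU) (by
          rw [hQ]
          exact fun h => hU1 (le_bot_iff.1 h))
        rw [famFusion_iff' (by rintro _ rfl; exact hWD) hsyl]
        have h2 := hsub _ hne _ hsyl inf_le_left
        have h3 : nset {WD W D} (normalizer (U : Set G)) ((S : Subgroup G) ⊓ normalizer (U : Set G)) =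
            {normalizer (U : Set G) ⊓ normalizer ((inducedFunctor (G := G) W
              (D ⊓ ((S : Subgroup G) ⊓ normalizer (U : Set G))) : Subgroup G) : Set G)} := by
          rw [nset, Set.image_singleton, WD_of_ne hD inf_le_left (inf_nrm_ne_bot S.2 hD.1 hSD hD1 hU)]
        rw [h3]
        exact h2)
    rw [famFusion_iff' (by rintro _ rfl; exact hWD) hS, nset, Set.image_singleton,
      WD_of_ne hD le_rfl (by rwa [inf_eq_left.2 hD.1]), inf_eq_left.2 hD.1, top_inf_eq] at h1
    exact h1
  by_cases hC : centralizer ((pCore p G : Subgroup G) : Set G) ≤ pCore p G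
  · exact hnorm (hyp G hΦ hC S D hD)
  have hQS : pCore p G ≤ (S : Subgroup G) := CfsgLib.Cores.pCore_le_sylow S
  have hΦQ := hΦq G hΦ
  set Q := pCore p G with hQdef
  have hQn : Q.Normal := by rw [hQdef]; infer_instance
  set C := centralizer (Q : Set G) with hCdef
  have hCn : C.Normal := by rw [hCdef]; infer_instance
  set T := (S : Subgroup G) ⊓ (Q ⊔ C) with hT
  have hTQ : ¬ T ≤ Q := by
    intro h
    apply hC
    refine centralizer_pCore_le S hK (le_trans ?_ h)
    exact inf_le_inf le_rfl le_sup_right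
  have hNT : normalizer (T : Set G) ≠ ⊤ :=
    nrm_ne_top_of_pgroup (S.2.to_le inf_le_left) hTQ
  have hSN : (S : Subgroup G) ≤ normalizer (T : Set G) := by
    intro x hx
    rw [mem_nrm, hT, cj_inf, cj_of_mem hx, cj_of_normal x (Q ⊔ C)]
  by_cases hDQ : D ≤ Q
  · apply hnorm
    apply hDnorm
    constructor
    intro x hx g
    exact hD.2 x hx g (hQS (hQn.conj_mem _ (hDQ hx) g))
  by_cases hSC : (S : Subgroup G) ⊔ C = ⊤
  · have hcard : Nat.card (G ⧸ Q) ≤ n := by
      have := card_quot_lt hQ
      omega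
    have h1 := ih (G ⧸ Q) hcard (hΦQ (by
      intro x
      have hx : x ∈ (S : Subgroup G) ⊔ C := by rw [hSC]; exact mem_top x
      obtain ⟨s, hs, c, hc, rfl⟩ := Subgroup.mem_sup_of_normal_right.1 hx
      obtain ⟨j, hj⟩ := S.2 ⟨s, hs⟩
      refine ⟨j, ?_⟩
      rw [← QuotientGroup.eq_one_iff, QuotientGroup.mk_pow, QuotientGroup.mk_mul,
        (QuotientGroup.eq_one_iff c).2 hc, mul_one, ← QuotientGroup.mk_pow]
      have : s ^ p ^ j = 1 := congrArg Subtype.val hj
      rw [this]; rfl))
      (S.mapSurjective (QuotientGroup.mk'_surjective _)) (D.map (QuotientGroup.mk' _)) (sc_map S hD _)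
    have h2 := fusIn_of_quot hS hQS hSC h1
    refine FusIn.bind h2 ?_
    intro M hM
    rcases hM with rfl | ⟨N, hN, rfl⟩
    · exact fusIn_top (hSD.trans (nrm_le_nrm_W hWc hDp))
    · rw [Set.mem_singleton_iff] at hN
      subst hN
      have hWc' := induced_isConj hW (G ⧸ Q)
      have hDp' : IsPGroup p ↥(D.map (QuotientGroup.mk' Q)) := hDp.map _
      refine hsub' _ ?_ ?_
      · intro h3
        rw [← Subgroup.comap_top (QuotientGroup.mk' Q)] at h3
        have h4 := Subgroup.comap_injective (QuotientGroup.mk'_surjective Q) h3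
        refine nrm_ne_top_of_pgroup (p := p) (hDp'.to_le (W_le hWc' hDp')) ?_ h4
        intro h5
        have h6 : pCore p (G ⧸ Q) = ⊥ := CfsgLib.Cores.pCore_quotient_pCore p
        rw [h6, le_bot_iff] at h5
        refine W_ne hWc' hDp' ?_ h5
        rw [Ne, Subgroup.map_eq_bot_iff, QuotientGroup.ker_mk']
        exact hDQ
      · rw [← Subgroup.map_le_iff_le_comap]
        refine le_trans ?_ (nrm_le_nrm_W hWc' hDp')
        exact sc_le_normalizer (sc_map S hD Q)
  · refine FusIn.bind (fusIn_pair (C := C) hS hSN (frattini_T S hQS)) ?_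
    rintro M (rfl | rfl)
    · exact hsub' _ hNT hSN
    · exact hsub' _ hSC le_sup_left


/-- `p`-stable groups, functor version -/
theorem stab_pair (hp2 : p ≠ 2) {W : ∀ (Q : Type u) [Group Q], Subgroup Q} (hW : IsCharPFunctor.{u} p W)
    (hyp : ∀ (H : Type u) [Group H] [Finite H],
      (∀ (V : Subgroup H) [V.Normal], IsPGroup p V → IsPStableOn p V) →
      centralizer ((pCore p H : Subgroup H) : Set H) ≤ pCore p H →
      ∀ (T : Sylow p H) (E : Subgroup H), IsStronglyClosed E (T : Subgroup H) → (inducedFunctor (G := H) W E).Normal)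
    {G : Type u} [Group G] [Finite G] (hst : Stab p G) (S : Sylow p G) (D : Subgroup G)
    (hD : IsStronglyClosed D (S : Subgroup G)) :
    FusIn (S : Subgroup G) ⊤ {normalizer ((inducedFunctor (G := G) W D : Subgroup G) : Set G)} :=
  main_pair_class hW (fun H _ => Stab p H) (fun H _ _ K h => stab_subgroup h K)
    (fun H _ _ h => CfsgLib.Bad9.stab_quot_pprime (CfsgLib.Cores.pPrimeCore_coprime p) h)
    (fun H _ _ h hx => stab_quot_odd hp2 (CfsgLib.Cores.pCore_isPGroup p) hx h)
    (fun H _ _ h hc T E hE => hyp H (fun V _ hV => stab_normal h V hV) hc T E hE)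
    (Nat.card G) G le_rfl hst S D hD

/-- `N_G(Z(J(D)))` controls strong fusion -/
theorem stab_zj (hp2 : p ≠ 2) {G : Type u} [Group G] [Finite G] (hst : Stab p G) (S : Sylow p G) (D : Subgroup G)
    (hD : IsStronglyClosed D (S : Subgroup G)) :
    FusIn (S : Subgroup G) ⊤ {normalizer ((centerThompsonAOf D : Subgroup G) : Set G)} := by
  rw [← induced_ZJ]
  refine stab_pair hp2 ZJ_char (fun H _ _ hst hc T E hE => ?_) hst S D hD
  rw [induced_ZJ]
  exact zj_normal_D hp2 T hE hc hst

/-- a strongly closed subgroup version for the elementary Thompson subgroup -/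
theorem stab_ze (hp2 : p ≠ 2) {G : Type u} [Group G] [Finite G] (hst : Stab p G) (S : Sylow p G) (D : Subgroup G)
    (hD : IsStronglyClosed D (S : Subgroup G)) :
    FusIn (S : Subgroup G) ⊤ {normalizer ((omegaOne p (centerThompsonOf p D) : Subgroup G) : Set G)} := by
  rw [← induced_ZE]
  refine stab_pair hp2 ZE_char (fun H _ _ hst hc T E hE => ?_) hst S D hD
  rw [induced_ZE]
  exact ze_normal_D hp2 T hE hc hst

theorem zj_ne_bot {G : Type u} [Group G] [Finite G] {D : Subgroup G} (hD : IsPGroup p D) (h : D ≠ ⊥) :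
    centerThompsonAOf D ≠ ⊥ := by
  rw [← induced_ZJ]
  exact W_ne (induced_isConj (ZJ_char (p := p)) G) hD h

end CfsgLib.StP9
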