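import Cfsg.Agent.LibStP9E
/-! The fusion of a `p`-stable group is constrained, `p` odd. Seat helper9. -/
set_option autoImplicit false
set_option maxHeartbeats 400000

namespace CfsgLib.StP9

open Subgroup Cfsg CfsgLib.SecH12 CfsgLib.Stab9 CfsgLib.FusionH12 CfsgLib.FusionH12b CfsgLib.FusionH12c
  CfsgLib.FusionH12d CfsgLib.FusionH12e CfsgLib.FusionH12f CfsgLib.DFus9 CfsgLib.Qd9 CfsgLib.DZJ9
open scoped commutatorElement

universe u

variable {p : ℕ} [hp : Fact p.Prime]

theorem comap_nrm {G G' : Type*} [Group G] [Group G'] {f : G →* G'} {X : Subgroup G'} {g : G}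
    (h : f g ∈ normalizer (X : Set G')) : g ∈ normalizer ((X.comap f : Subgroup G) : Set G) := by
  rw [mem_normalizer_iff] at h ⊢
  intro x
  change f x ∈ X ↔ f (g * x * g⁻¹) ∈ X
  rw [map_mul, map_mul, map_inv]
  exact h (f x)

theorem map_nrm {G G' : Type*} [Group G] [Group G'] {f : G →* G'} {X : Subgroup G} {g : G}
    (h : g ∈ normalizer (X : Set G)) : f g ∈ normalizer ((X.map f : Subgroup G') : Set G') := by
  rw [mem_nrm, ← map_cj, cj_of_mem_nrm h]

theorem zj_le {G : Type u} [Group G] [Finite G] {D : Subgroup G} (hD : IsPGroup p D) : centerThompsonAOf D ≤ D := by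
  rw [← induced_ZJ]
  exact W_le (induced_isConj (ZJ_char (p := p)) G) hD

theorem nrm_le_nrm_zj {G : Type u} [Group G] [Finite G] {D : Subgroup G} (hD : IsPGroup p D) :
    normalizer (D : Set G) ≤ normalizer (centerThompsonAOf D : Set G) := by
  rw [← induced_ZJ]
  exact nrm_le_nrm_W (induced_isConj (ZJ_char (p := p)) G) hD

theorem exists_ppow_centralizer {G : Type*} [Group G] {S C : Subgroup G} [hC : C.Normal] (hS : IsPGroup p S) (h : S ⊔ C = ⊤)
    (x : G) : ∃ k : ℕ, x ^ p ^ k ∈ C := by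
  have hx : x ∈ S ⊔ C := by rw [h]; exact mem_top x
  obtain ⟨s, hs, c, hc, rfl⟩ := Subgroup.mem_sup_of_normal_right.1 hx
  obtain ⟨j, hj⟩ := hS ⟨s, hs⟩
  refine ⟨j, ?_⟩
  rw [← QuotientGroup.eq_one_iff, QuotientGroup.mk_pow, QuotientGroup.mk_mul,
    (QuotientGroup.eq_one_iff c).2 hc, mul_one, ← QuotientGroup.mk_pow]
  have : s ^ p ^ j = 1 := congrArg Subtype.val hj
  rw [this]; rfl

theorem step_up (hp2 : p ≠ 2) {G : Type u} [Group G] [Finite G] (hst : Stab p G) (S : Sylow p G) {Q : Subgroup G}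
    [hQn : Q.Normal] (hQS : Q ≤ (S : Subgroup G)) (hC : ¬ (S : Subgroup G) ⊓ centralizer (Q : Set G) ≤ Q) :
    ∃ W : Subgroup G, Q < W ∧ W ≤ (S : Subgroup G) ∧ (S : Subgroup G) ≤ normalizer (W : Set G) ∧
      FusIn (S : Subgroup G) ⊤ {normalizer (W : Set G)} := by
  set C := centralizer (Q : Set G) with hCdef
  haveI hCn : C.Normal := by rw [hCdef]; infer_instance
  have hQCn : (Q ⊔ C).Normal := inferInstance
  set D := (S : Subgroup G) ⊓ (Q ⊔ C) with hDdef
  have hD : IsStronglyClosed D (S : Subgroup G) :=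
    ⟨inf_le_left, fun x hx g hg => ⟨hg, hQCn.conj_mem x hx.2 g⟩⟩
  have hSD := sc_le_normalizer hD
  set π := QuotientGroup.mk' Q with hπ
  have hDp : IsPGroup p D := S.2.to_le inf_le_left
  have hDπp : IsPGroup p ↥(D.map π) := hDp.map _
  have hQD : Q ≤ D := le_inf hQS le_sup_left
  have hDne : D.map π ≠ ⊥ := by
    rw [Ne, Subgroup.map_eq_bot_iff, hπ, QuotientGroup.ker_mk']
    intro h
    exact hC ((inf_le_inf le_rfl le_sup_right).trans h)
  set X := centerThompsonAOf (D.map π) with hX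
  have hXne : X ≠ ⊥ := zj_ne_bot hDπp hDne
  have hXD : X ≤ D.map π := zj_le hDπp
  set W := X.comap π with hW
  have hWD : W ≤ D := by
    rw [hW]
    refine (comap_mono hXD).trans ?_
    rw [comap_map_eq, hπ, QuotientGroup.ker_mk']
    exact sup_le le_rfl hQD
  have hQW : Q ≤ W := by
    intro q hq
    change π q ∈ X
    rw [(QuotientGroup.eq_one_iff q).2 hq |> fun h : π q = 1 => h]
    exact one_mem _
  have hQW' : Q < W := by
    refine lt_of_le_of_ne hQW fun h => hXne ?_
    have h1 : W.map π = X := map_comap_eq_self_of_surjective (QuotientGroup.mk'_surjective Q) X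
    rw [← h1, ← h, Subgroup.map_eq_bot_iff, hπ, QuotientGroup.ker_mk']
  have hNDW : normalizer (D : Set G) ≤ normalizer (W : Set G) := fun g hg =>
    comap_nrm (nrm_le_nrm_zj hDπp (map_nrm hg))
  refine ⟨W, hQW', hWD.trans inf_le_left, hSD.trans hNDW, ?_⟩
  have hS := SylIn.ofSylow S
  refine FusIn.bind (fusIn_pair (C := C) hS hSD (frattini_T S hQS)) ?_
  rintro M' (rfl | hM')
  · exact fusIn_top hNDW
  · rw [Set.mem_singleton_iff] at hM'
    obtain ⟨M, hM⟩ : ∃ M, M = (S : Subgroup G) ⊔ C := ⟨_, rfl⟩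
    rw [hM', ← hM]
    have hSM : (S : Subgroup G) ≤ M := by rw [hM]; exact le_sup_left
    have hCM : C ≤ M := by rw [hM]; exact le_sup_right
    have hQM : Q ≤ M := hQS.trans hSM
    obtain ⟨S', hS'⟩ := (hS.mono hSM le_top : SylIn p (S : Subgroup G) M).toSylow
    set Q' := Q.subgroupOf M with hQ'
    haveI hQ'n : Q'.Normal := by rw [hQ']; infer_instance
    have hQ'm : Q'.map M.subtype = Q := map_subgroupOf_eq_of_le hQM
    have hS'm : (S' : Subgroup M).map M.subtype = S := by rw [hS']; exact map_subgroupOf_eq_of_le hSM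
    have hQ'S' : Q' ≤ (S' : Subgroup M) := by rw [hS']; exact comap_mono hQS
    have hC' : C.subgroupOf M ≤ centralizer (Q' : Set M) := by
      intro x hx
      rw [mem_centralizer_iff]
      intro q hq
      have h1 : (x : G) ∈ C := hx
      rw [hCdef, mem_centralizer_iff] at h1
      exact Subtype.ext (h1 q hq)
    have hSC' : (S' : Subgroup M) ⊔ centralizer (Q' : Set M) = ⊤ := by
      rw [eq_top_iff]
      have h1 : (⊤ : Subgroup M) ≤ (S' : Subgroup M) ⊔ C.subgroupOf M := by
        rw [← map_le_map_iff_of_injective M.subtype_injective, Subgroup.map_sup, hS'm, map_subgroupOf_eq_of_le hCM, ← hM,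
          ← MonoidHom.range_eq_map, range_subtype]
      exact h1.trans (sup_le_sup_left hC' _)
    have hstM : Stab p M := stab_subgroup hst M
    have hstQ : Stab p (M ⧸ Q') :=
      stab_quot_odd hp2 (S'.2.to_le hQ'S') (exists_ppow_centralizer S'.2 hSC') hstM
    have hDS : D ⊓ (S : Subgroup G) = D := inf_eq_left.2 inf_le_left
    have hD' : IsStronglyClosed (D.subgroupOf M) (S' : Subgroup M) := by
      rw [hS']
      have := sc_sub hD (le_refl (S : Subgroup G)) hSM
      rwa [hDS] at this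
    have h1 := stab_zj hp2 hstQ (S'.mapSurjective (QuotientGroup.mk'_surjective Q')) _ (sc_map S' hD' Q')
    have h2 := fusIn_of_quot (SylIn.ofSylow S') hQ'S' hSC' h1
    have h3 := FusIn.map M.subtype_injective h2
    rw [hS'm, ← MonoidHom.range_eq_map, range_subtype] at h3
    refine FusIn.mono h3 ?_
    -- comparison of the quotients
    have hle : Q' ≤ Q.comap M.subtype := le_rfl
    let f : M ⧸ Q' →* G ⧸ Q := QuotientGroup.map Q' Q M.subtype hle
    have hf : Function.Injective f := by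
      rw [injective_iff_map_eq_one]
      intro x hx
      obtain ⟨y, rfl⟩ := QuotientGroup.mk'_surjective Q' x
      have h4 : π (y : G) = 1 := hx
      have h5 : (y : G) ∈ Q := (QuotientGroup.eq_one_iff (y : G)).1 h4
      exact (QuotientGroup.eq_one_iff y).2 h5
    have hfm : ∀ A : Subgroup M, (A.map (QuotientGroup.mk' Q')).map f = (A.map M.subtype).map π := by
      intro A
      rw [map_map, map_map]
      rfl
    have hXf : X = (centerThompsonAOf ((D.subgroupOf M).map (QuotientGroup.mk' Q'))).map f := by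
      rw [← CfsgLib.H2Stab.centerThompsonAOf_map f hf.injOn, hfm, map_subgroupOf_eq_of_le (inf_le_left.trans hSM)]
    rintro _ ⟨N, hN, rfl⟩
    refine ⟨_, rfl, ?_⟩
    rcases hN with rfl | ⟨N', hN', rfl⟩
    · rw [hS'm]
      exact hSD.trans hNDW
    · rw [Set.mem_singleton_iff] at hN'
      subst hN'
      rintro _ ⟨n, hn, rfl⟩
      refine comap_nrm ?_
      have hn' : QuotientGroup.mk' Q' n ∈ normalizer
        ((centerThompsonAOf ((D.subgroupOf M).map (QuotientGroup.mk' Q')) : Subgroup (M ⧸ Q')) : Set (M ⧸ Q')) := hn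
      rw [hXf]
      have h6 := map_nrm (f := f) hn'
      exact h6

/-- the fusion of a `p`-stable group is constrained -/
theorem stab_constrained (hp2 : p ≠ 2) {G : Type u} [Group G] [Finite G] (hst : Stab p G) (S : Sylow p G) :
    ∃ Q : Subgroup G, Q ≤ (S : Subgroup G) ∧ (S : Subgroup G) ≤ normalizer (Q : Set G) ∧
      FusIn (S : Subgroup G) ⊤ {normalizer (Q : Set G)} ∧ (S : Subgroup G) ⊓ centralizer (Q : Set G) ≤ Q ∧
      ∀ W : Subgroup G, Q ≤ W → W ≤ (S : Subgroup G) → (S : Subgroup G) ≤ normalizer (W : Set G) →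
        FusIn (S : Subgroup G) ⊤ {normalizer (W : Set G)} → W = Q := by
  classical
  let 𝒬 : Set (Subgroup G) := {Q | Q ≤ (S : Subgroup G) ∧ (S : Subgroup G) ≤ normalizer (Q : Set G) ∧
    FusIn (S : Subgroup G) ⊤ {normalizer (Q : Set G)}}
  have hne : 𝒬.Nonempty := by
    refine ⟨⊥, bot_le, ?_, fusIn_top ?_⟩
    · rw [normalizer_eq_top]; exact le_top
    · rw [normalizer_eq_top]
  obtain ⟨Q, hQ, hmax⟩ := (Set.toFinite 𝒬).exists_maximalFor (fun Q : Subgroup G => Nat.card Q) 𝒬 hne
  have hmax' : ∀ W ∈ 𝒬, Q ≤ W → W = Q := by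
    intro W hW hQW
    have h1 : Nat.card Q ≤ Nat.card W := card_le_of_le hQW
    have h2 := hmax hW h1
    exact (Subgroup.eq_of_le_of_card_ge hQW h2).symm
  obtain ⟨hQS, hSQ, hfus⟩ := hQ
  refine ⟨Q, hQS, hSQ, hfus, ?_, fun W h1 h2 h3 h4 => hmax' W ⟨h2, h3, h4⟩ h1⟩
  by_contra hcon
  -- work in `N_G(Q)`
  obtain ⟨H, hH⟩ : ∃ H, H = normalizer (Q : Set G) := ⟨_, rfl⟩
  have hQH : Q ≤ H := by rw [hH]; exact le_normalizer
  rw [← hH] at hSQ
  obtain ⟨S', hS'⟩ := ((SylIn.ofSylow S).mono hSQ le_top : SylIn p (S : Subgroup G) H).toSylow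
  have hS'm : (S' : Subgroup H).map H.subtype = S := by rw [hS']; exact map_subgroupOf_eq_of_le hSQ
  haveI hQn : (Q.subgroupOf H).Normal := by rw [hH]; infer_instance
  have hQ'm : (Q.subgroupOf H).map H.subtype = Q := map_subgroupOf_eq_of_le hQH
  obtain ⟨W, hW1, hW2, hW3, hW4⟩ := step_up hp2 (stab_subgroup hst H) S' (Q := Q.subgroupOf H)
    (by rw [hS']; exact comap_mono hQS) (by
      intro h
      apply hcon
      rintro x ⟨hxS, hxC⟩
      have hxH : x ∈ H := hSQ hxS
      have h5 : (⟨x, hxH⟩ : H) ∈ (S' : Subgroup H) ⊓ centralizer ((Q.subgroupOf H : Subgroup H) : Set H) := by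
        refine ⟨?_, ?_⟩
        · rw [hS']; exact hxS
        · change _ ∈ centralizer _
          rw [mem_centralizer_iff]
          intro q hq
          have h6 : x ∈ centralizer (Q : Set G) := hxC
          rw [mem_centralizer_iff] at h6
          exact Subtype.ext (h6 q hq)
      exact h h5)
  have hW5 : FusIn (S : Subgroup G) H {normalizer ((W.map H.subtype : Subgroup G) : Set G)} := by
    have h3 := FusIn.map H.subtype_injective hW4
    rw [hS'm, ← MonoidHom.range_eq_map, range_subtype] at h3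
    refine FusIn.mono h3 ?_
    rintro _ ⟨N, hN, rfl⟩
    rw [Set.mem_singleton_iff] at hN
    subst hN
    refine ⟨_, rfl, ?_⟩
    rintro _ ⟨n, hn, rfl⟩
    exact map_nrm hn
  have hW6 : FusIn (S : Subgroup G) ⊤ {normalizer ((W.map H.subtype : Subgroup G) : Set G)} := by
    refine FusIn.bind hfus ?_
    rintro M hM
    rw [Set.mem_singleton_iff] at hM
    rw [hM, ← hH]
    exact hW5
  have hW7 : W.map H.subtype ≤ (S : Subgroup G) := by rw [← hS'm]; exact map_mono hW2
  have hW8 : (S : Subgroup G) ≤ normalizer ((W.map H.subtype : Subgroup G) : Set G) := by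
    rw [← hS'm]
    rintro _ ⟨n, hn, rfl⟩
    exact map_nrm (hW3 hn)
  have hW9 : Q ≤ W.map H.subtype := by rw [← hQ'm]; exact map_mono hW1.le
  have h10 := hmax' _ ⟨hW7, hW8, hW6⟩ hW9
  rw [← hQ'm] at h10
  have h11 := map_injective H.subtype_injective h10
  exact hW1.ne h11.symm

end CfsgLib.StP9
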