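import Cfsg.Agent.LibStP9F
import Cfsg.Agent.LibFus21Grp
import Cfsg.Agent.LibFus21Norm
/-! Fusion-system form of the results on `p`-stable groups. Seat helper9. -/
set_option autoImplicit false
set_option maxHeartbeats 400000

namespace CfsgLib.StP9

open Subgroup Cfsg CfsgLib.Stab9 CfsgLib.FusionH12c CfsgLib.DFus9

universe u

variable {p : ℕ} [hp : Fact p.Prime]

theorem normal_of_fusIn {G : Type*} [Group G] {S Q : Subgroup G} (hQ : Q ≤ S)
    (h : FusIn S ⊤ {normalizer (Q : Set G)}) : (groupFusionSystem S).IsNormal Q := by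
  rw [fusIn_iff_single] at h
  refine ⟨hQ, ?_⟩
  rintro P φ ⟨hP, hφS, g, hg⟩
  obtain ⟨x, hx, hxa⟩ := h (P : Set G) g (mem_top _) hP (by
    rintro _ ⟨a, ha, rfl⟩
    have := hφS ⟨a, ha⟩
    rw [hg] at this
    exact this)
  have hxm := mem_normalizer_iff.1 hx
  have hle : (P ⊔ Q : Subgroup G).map (MulAut.conj x).toMonoidHom ≤ S := by
    rw [Subgroup.map_sup]
    refine sup_le ?_ ?_
    · rintro _ ⟨a, ha, rfl⟩
      change x * a * x⁻¹ ∈ S
      rw [hxa a ha]
      have := hφS ⟨a, ha⟩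
      rw [hg] at this
      exact this
    · rintro _ ⟨a, ha, rfl⟩
      exact hQ ((hxm a).1 ha)
  refine ⟨Cfsg.conjHom (P ⊔ Q) x, ⟨sup_le hP hQ, fun y => hle ⟨y, y.2, rfl⟩, x, fun y => rfl⟩, ?_, ?_⟩
  · intro y
    rw [hg]
    exact hxa y y.2
  · ext y
    constructor
    · rintro ⟨z, hz, rfl⟩
      exact (hxm z).1 hz
    · intro hy
      have h1 : x⁻¹ * y * x ∈ Q := by
        have := (hxm (x⁻¹ * y * x)).2
        apply this
        have e : x * (x⁻¹ * y * x) * x⁻¹ = y := by group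
        rw [e]; exact hy
      refine ⟨⟨x⁻¹ * y * x, (le_sup_right : Q ≤ P ⊔ Q) h1⟩, h1, ?_⟩
      change x * (x⁻¹ * y * x) * x⁻¹ = y
      group

/-- for a `p`-stable group, some centric subgroup is normal in the fusion system -/
theorem exists_normal_centric (hp2 : p ≠ 2) {G : Type u} [Group G] [Finite G] (hst : Stab p G) (S : Sylow p G) :
    ∃ Q : Subgroup G, (groupFusionSystem (S : Subgroup G)).IsNormal Q ∧ (groupFusionSystem (S : Subgroup G)).IsCentric Q := by
  obtain ⟨Q, hQS, hSQ, hfus, hC, -⟩ := stab_constrained hp2 hst S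
  have hn := normal_of_fusIn hQS hfus
  refine ⟨Q, hn, hQS, ?_⟩
  rintro R ⟨φ, ⟨-, hφS, g, hg⟩, rfl⟩
  -- the image is `Q`
  rw [fusIn_iff_single] at hfus
  obtain ⟨x, hx, hxa⟩ := hfus (Q : Set G) g (mem_top _) hQS (by
    rintro _ ⟨a, ha, rfl⟩
    have := hφS ⟨a, ha⟩
    rw [hg] at this
    exact this)
  have hxm := mem_normalizer_iff.1 hx
  have hrange : φ.range = Q := by
    ext y
    constructor
    · rintro ⟨z, rfl⟩
      rw [hg, ← hxa z z.2]
      exact (hxm z).1 z.2
    · intro hy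
      have h1 : x⁻¹ * y * x ∈ Q := by
        have := (hxm (x⁻¹ * y * x)).2
        apply this
        have e : x * (x⁻¹ * y * x) * x⁻¹ = y := by group
        rw [e]; exact hy
      refine ⟨⟨_, h1⟩, ?_⟩
      rw [hg]
      change g * (x⁻¹ * y * x) * g⁻¹ = y
      rw [← hxa _ h1]; group
  rw [hrange]
  intro y hy
  have h2 := CfsgLib.Fus21.mem_centralizerIn.1 hy
  refine hC ⟨h2.1, ?_⟩
  change y ∈ centralizer (Q : Set G)
  rw [mem_centralizer_iff]
  intro q hq
  exact h2.2 q hq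

end CfsgLib.StP9
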