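import Mathlib
import Cfsg.Agent.EqBase
import Cfsg.Agent.LibBlockTrace
import Cfsg.Agent.LibBrP1
import Cfsg.Agent.LibBrP7

/-!
# Star construction, I: vanishing of traces, idempotents over the local ring (helper18)
-/

set_option autoImplicit false
set_option linter.unusedSectionVars false
set_option linter.style.haveILetI false
set_option linter.unusedSimpArgs false
set_option linter.unusedVariables false

namespace CfsgLib.Star

open Cfsg CfsgLib.LocR CfsgLib.BlockTrace

section Trace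

variable {G : Type*} [Group G] [Fintype G] [DecidableEq G] {p : ℕ} {M : Ideal AlgInt}

/-- an idempotent over the local ring, stable under `t` and vanishing modulo `M` on `C(t)`:
the trace of `t` on it is zero -/
theorem trace_zero (hM : IsPModular p M) {f : G → ℂ}
    (hfR : ∀ g, MemLocalRing M (f g)) (hfid : ∀ g, ∑ z : G, f (g * z⁻¹) * f z = f g)
    {t : G} (hft : ∀ x, f (t * x * t⁻¹) = f x) (C : Set G) [DecidablePred (· ∈ C)]
    (hCt : ∀ x, t * x * t⁻¹ ∈ C ↔ x ∈ C)
    (hC : ∀ x, x ∉ C → ∀ k : ℤ, t ^ k * x * t ^ (-k) = x → (p : ℤ) ∣ k)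
    (hfI : ∀ x, x ∈ C → MemLocalIdeal M (f x)) (z : G) :
    (Tm t z * Lm f).trace = 0 := by
  haveI := isPrime hM
  haveI : Fact p.Prime := ⟨hM.1⟩
  have hp0 : p ≠ 0 := hM.1.ne_zero
  set ζ : ℂ := Complex.exp (2 * Real.pi * Complex.I / p) with hζdef
  have hprim : IsPrimitiveRoot ζ p := Complex.isPrimitiveRoot_exp p hp0
  have hζ1 : ζ ≠ 1 := hprim.ne_one hM.1.one_lt
  have hζp : ζ ^ p = 1 := hprim.pow_eq_one
  have hζ0 : ζ ≠ 0 := hprim.ne_zero hp0
  -- the cyclic function on the complement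
  let τ : Equiv.Perm {x : G // x ∉ C} :=
    { toFun := fun x => ⟨t * x.1 * t⁻¹, fun h => x.2 ((hCt _).1 h)⟩
      invFun := fun x => ⟨t⁻¹ * x.1 * t, fun h => x.2 (by
        have := (hCt _).2 h
        have h2 : t * (t⁻¹ * x.1 * t) * t⁻¹ = x.1 := by group
        rwa [h2] at this)⟩
      left_inv := fun x => by apply Subtype.ext; simp only; group
      right_inv := fun x => by apply Subtype.ext; simp only; group }
  have hτk : ∀ (k : ℤ) (x : {x : G // x ∉ C}), (((τ ^ k) x : {x : G // x ∉ C}) : G) =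
      t ^ k * x.1 * t ^ (-k) := by
    have hnat : ∀ (k : ℕ) (x : {x : G // x ∉ C}), (((τ ^ k) x : {x : G // x ∉ C}) : G) =
        t ^ k * x.1 * (t ^ k)⁻¹ := by
      intro k
      induction k with
      | zero => intro x; simp
      | succ k ih =>
        intro x
        rw [pow_succ, Equiv.Perm.mul_apply, ih]
        show t ^ k * (t * x.1 * t⁻¹) * (t ^ k)⁻¹ = _
        rw [pow_succ]
        group
    intro k x
    cases k with
    | ofNat k => simpa using hnat k x
    | negSucc k =>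
      have h1 := hnat (k + 1) ((τ ^ (Int.negSucc k)) x)
      have h0 : (τ ^ (k + 1)) ((τ ^ (Int.negSucc k)) x) = x := by
        rw [zpow_negSucc, ← Equiv.Perm.mul_apply, mul_inv_cancel, Equiv.Perm.one_apply]
      rw [h0] at h1
      have h2 : (((τ ^ (Int.negSucc k)) x : {x : G // x ∉ C}) : G) =
          (t ^ (k + 1))⁻¹ * x.1 * t ^ (k + 1) := by rw [h1]; group
      rw [h2, zpow_neg, zpow_negSucc, inv_inv]
  obtain ⟨l', hl1', hl2', hl3'⟩ := exists_cyclic_function τ hζ0 hζp (fun k b hb => by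
    refine hC b.1 b.2 k ?_
    rw [← hτk, hb])
  let l : G → ℂ := fun x => if h : x ∉ C then l' ⟨x, h⟩ else 0
  have hl1 : ∀ x, x ∉ C → l (t * x * t⁻¹) = ζ * l x := fun x hx => by
    have hx' : t * x * t⁻¹ ∉ C := fun h => hx ((hCt _).1 h)
    simp only [l]
    rw [dif_pos hx, dif_pos hx']
    exact hl1' ⟨x, hx⟩
  -- the weights
  let w : ZMod p → ℂ := fun i => ζ ^ i.val
  have hw1 : ∀ i, w (i + 1) = ζ * w i := by
    intro i
    simp only [w]
    rw [ZMod.val_add, ZMod.val_one, ← pow_eq_pow_mod _ hζp, pow_succ, mul_comm]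
  have hw0 : ∀ i, w i ≠ 0 := fun i => pow_ne_zero _ hζ0
  have hwinj : Function.Injective w := by
    intro i j hij
    apply ZMod.val_injective
    exact hprim.pow_inj (ZMod.val_lt i) (ZMod.val_lt j) hij
  have hwp : ∀ i, w i ^ p = 1 := fun i => by
    simp only [w]; rw [← pow_mul, mul_comm, pow_mul, hζp, one_pow]
  have hwI : ∀ i j, MemLocalIdeal M (w i * (w j)⁻¹ - 1) := fun i j => by
    apply memI_sub_one_of_pow_ppow_eq_one hM (k := 1)
    rw [pow_one, mul_pow, inv_pow, hwp, hwp]; norm_num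
  have hlw : ∀ x, x ∉ C → ∃ i : ZMod p, l x = w i := by
    intro x hx
    obtain ⟨k, hk⟩ := hl3' ⟨x, hx⟩
    refine ⟨(k : ZMod p), ?_⟩
    simp only [l]
    rw [dif_pos hx, hk]
    simp only [w]
    have h1 : (((k : ZMod p).val : ℤ)) = k % p := ZMod.val_intCast k
    have h2 : ζ ^ (k : ZMod p).val = ζ ^ (((k : ZMod p).val : ℤ)) := by rw [zpow_natCast]
    rw [h2, h1]
    have h3 := Int.emod_add_mul_ediv k p
    conv_lhs => rw [← h3]
    rw [zpow_add₀ hζ0, zpow_mul, zpow_natCast, hζp, one_zpow, mul_one]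
  -- matrices
  set ε := Lm f with hε
  set Cc := Lm (fun x => if x ∈ C then f x else 0) with hCc
  let y : ZMod p → G → ℂ := fun i x => if x ∉ C ∧ l x = w i then f x else 0
  set Y : ZMod p → Matrix G G ℂ := fun i => Lm (y i) with hY
  have hεε : ε * ε = ε := Lm_idem hfid
  have hsum : Cc + ∑ i, Y i = ε := by
    ext a b
    rw [Matrix.add_apply, Matrix.sum_apply]
    simp only [hY, hCc, hε]
    unfold Lm
    simp only [y]
    by_cases hab : a * b⁻¹ ∈ C
    · rw [if_pos hab]
      simp [hab]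
    · rw [if_neg hab, zero_add]
      obtain ⟨i, hi⟩ := hlw _ hab
      rw [Finset.sum_eq_single i]
      · rw [if_pos ⟨hab, hi⟩]
      · intro j _ hj
        rw [if_neg]
        rintro ⟨-, h⟩
        exact hj (hwinj (h.symm.trans hi))
      · intro h; exact absurd (Finset.mem_univ _) h
  have hCI : MatI M Cc := fun a b => by
    simp only [hCc]; unfold Lm; beta_reduce
    split_ifs with h
    · exact hfI _ h
    · exact memI_zero
  have hYR : ∀ i, MatR M (Y i) := fun i a b => by
    simp only [hY]; unfold Lm; simp only [y]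
    split_ifs
    · exact hfR _
    · exact memR_zero
  have hεR : MatR M ε := fun a b => hfR _
  set n := ε * Cc * ε with hn
  have hnI : MatI M n := matI_mul_right (matI_mul_left hεR hCI) hεR
  have hnR : MatR M n := matR_of_matI hnI
  have hεn : ε * n = n := by
    calc ε * n = (ε * ε) * Cc * ε := by rw [hn]; noncomm_ring
      _ = n := by rw [hεε]
  have hnε : n * ε = n := by
    calc n * ε = ε * Cc * (ε * ε) := by rw [hn]; noncomm_ring
      _ = n := by rw [hεε]
  obtain ⟨V, hVR, hV1, hV2⟩ := exists_inv_of_congr_one (M := M) (U := 1 - n) (by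
      intro a b
      have h1 : (1 - n - 1) = -n := by noncomm_ring
      rw [h1]
      exact memI_neg (hnI a b))
  have hVcomm : ∀ X : Matrix G G ℂ, X * n = n * X → X * V = V * X := by
    intro X hX
    calc X * V = (V * (1 - n)) * X * V := by rw [hV2, one_mul]
      _ = V * (X - n * X) * V := by noncomm_ring
      _ = V * (X - X * n) * V := by rw [hX]
      _ = V * X * ((1 - n) * V) := by noncomm_ring
      _ = V * X := by rw [hV1, mul_one]
  let φ : ZMod p → Matrix G G ℂ := fun i => V * ε * Y i * ε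
  have hφR : ∀ i, MatR M (φ i) := fun i =>
    matR_mul (matR_mul (matR_mul hVR hεR) (hYR i)) hεR
  have hφsum : ∑ i, φ i = ε := by
    have h1 : ∑ i, φ i = V * ε * (∑ i, Y i) * ε := by
      simp only [φ]
      rw [Finset.mul_sum, Finset.sum_mul]
    have h2 : ∑ i, Y i = ε - Cc := by rw [← hsum]; noncomm_ring
    rw [h1, h2]
    calc V * ε * (ε - Cc) * ε = V * ((ε * ε) * ε - n) := by rw [hn]; noncomm_ring
      _ = V * (ε - n * ε) := by rw [hεε, hεε, hnε]
      _ = (V * (1 - n)) * ε := by noncomm_ring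
      _ = ε := by rw [hV2, one_mul]
  have hφε : ∀ i, φ i * ε = φ i := fun i => by
    simp only [φ]
    rw [mul_assoc, hεε]
  have hTε : Tm t 1 * ε = ε * Tm t 1 := Lm_comm_of_conj t hft
  have hTC : Tm t 1 * Cc = Cc * Tm t 1 := Lm_comm_of_conj t (fun x => by
    simp only [hCt, hft x])
  have hTn : Tm t 1 * n = n * Tm t 1 := by
    calc Tm t 1 * n = (Tm t 1 * ε) * Cc * ε := by rw [hn]; noncomm_ring
      _ = ε * (Tm t 1 * Cc) * ε := by rw [hTε]; noncomm_ring
      _ = ε * Cc * (Tm t 1 * ε) := by rw [hTC]; noncomm_ring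
      _ = n * Tm t 1 := by rw [hTε, hn]; noncomm_ring
  have hTY : ∀ i, Tm t 1 * Y i = Y (i + 1) * Tm t 1 := fun i => by
    have hy : ∀ x, y (i + 1) (t * x * t⁻¹) = y i x := by
      intro x
      simp only [y]
      by_cases hx : x ∈ C
      · rw [if_neg (by rintro ⟨h, -⟩; exact h ((hCt x).2 hx)),
          if_neg (by rintro ⟨h, -⟩; exact h hx)]
      · by_cases hl : l x = w i
        · rw [if_pos ⟨fun h => hx ((hCt x).1 h), by rw [hl1 x hx, hl, hw1]⟩, if_pos ⟨hx, hl⟩, hft]
        · rw [if_neg (by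
              rintro ⟨-, h⟩
              rw [hl1 x hx, hw1] at h
              exact hl (mul_left_cancel₀ hζ0 h)),
            if_neg (by rintro ⟨-, h⟩; exact hl h)]
    ext a b
    rw [Tm_mul_apply, mul_Tm_apply]
    have h1 : a * (t * b * 1)⁻¹ = t * (t⁻¹ * a * 1⁻¹ * b⁻¹) * t⁻¹ := by group
    show y i (t⁻¹ * a * 1⁻¹ * b⁻¹) = y (i + 1) (a * (t * b * 1)⁻¹)
    rw [h1, hy]
  have hRL : ∀ a : G → ℂ, Tm 1 z * Lm a = Lm a * Tm 1 z := Rz_comm z
  have hRε : Tm 1 z * ε = ε * Tm 1 z := hRL _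
  have hRn : Tm 1 z * n = n * Tm 1 z := by
    calc Tm 1 z * n = (Tm 1 z * ε) * Cc * ε := by rw [hn]; noncomm_ring
      _ = ε * (Tm 1 z * Cc) * ε := by rw [hRε]; noncomm_ring
      _ = ε * Cc * (Tm 1 z * ε) := by rw [hCc, hRL]; noncomm_ring
      _ = n * Tm 1 z := by rw [hRε, hn]; noncomm_ring
  have hP : Tm t z = Tm t 1 * Tm 1 z := by rw [Tm_mul_Tm]; simp
  have hPφ : ∀ i, Tm t z * φ i = φ (i + 1) * Tm t z := by
    intro i
    have h1 : Tm 1 z * φ i = φ i * Tm 1 z := by
      simp only [φ]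
      calc Tm 1 z * (V * ε * Y i * ε) = (Tm 1 z * V) * ε * Y i * ε := by noncomm_ring
        _ = V * (Tm 1 z * ε) * Y i * ε := by rw [hVcomm _ hRn]; noncomm_ring
        _ = V * ε * (Tm 1 z * Y i) * ε := by rw [hRε]; noncomm_ring
        _ = V * ε * Y i * (Tm 1 z * ε) := by
            rw [show Tm 1 z * Y i = Y i * Tm 1 z from hRL _]; noncomm_ring
        _ = V * ε * Y i * ε * Tm 1 z := by rw [hRε]; noncomm_ring
    have h2 : Tm t 1 * φ i = φ (i + 1) * Tm t 1 := by
      simp only [φ]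
      calc Tm t 1 * (V * ε * Y i * ε) = (Tm t 1 * V) * ε * Y i * ε := by noncomm_ring
        _ = V * (Tm t 1 * ε) * Y i * ε := by rw [hVcomm _ hTn]; noncomm_ring
        _ = V * ε * (Tm t 1 * Y i) * ε := by rw [hTε]; noncomm_ring
        _ = V * ε * Y (i + 1) * (Tm t 1 * ε) := by rw [hTY]; noncomm_ring
        _ = V * ε * Y (i + 1) * ε * Tm t 1 := by rw [hTε]; noncomm_ring
    calc Tm t z * φ i = Tm t 1 * (Tm 1 z * φ i) := by rw [hP]; noncomm_ring
      _ = (Tm t 1 * φ i) * Tm 1 z := by rw [h1]; noncomm_ring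
      _ = φ (i + 1) * (Tm t 1 * Tm 1 z) := by rw [h2]; noncomm_ring
      _ = φ (i + 1) * Tm t z := by rw [← hP]
  exact block_trace hp0 hφR hφsum hφε hPφ hζ1 hζ0 hw1 hw0 hwI

/-- the twisted trace of an idempotent vanishing modulo `M` on `C(t)` is zero -/
theorem sum_zero (hM : IsPModular p M) {f : G → ℂ}
    (hfR : ∀ g, MemLocalRing M (f g)) (hfid : ∀ g, ∑ z : G, f (g * z⁻¹) * f z = f g)
    {t : G} (hft : ∀ x, f (t * x * t⁻¹) = f x) (ht : ∃ j : ℕ, orderOf t = p ^ j)
    (hfI : ∀ x, t * x = x * t → MemLocalIdeal M (f x)) {φ : G → ℂ} (hφ : IsClassFunction G φ) :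
    ∑ w : G, f w * φ (t * w) = 0 := by
  classical
  haveI : Fact p.Prime := ⟨hM.1⟩
  have key := trace_zero hM hfR hfid hft {x : G | t * x = x * t} (fun x => by
      simp only [Set.mem_setOf_eq]
      constructor
      · intro h
        have h2 : t * (t * x * t⁻¹) * t = t * x * t⁻¹ * t * t := by rw [h]
        have h3 : t * (t * x) = t * (x * t) := by
          calc t * (t * x) = t * (t * x * t⁻¹) * t := by group
            _ = t * x * t⁻¹ * t * t := h2
            _ = t * (x * t) := by group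
        exact mul_left_cancel h3
      · intro h
        have h3 : t * x * t⁻¹ = x := by rw [h]; group
        rw [h3]; exact h)
    (fun x hx k hk => by
      by_contra hpk
      apply hx
      have hcop : IsCoprime k ((orderOf t : ℕ) : ℤ) := by
        obtain ⟨j, hj⟩ := ht
        rw [hj, Nat.cast_pow]
        apply IsCoprime.pow_right
        rw [isCoprime_comm]
        exact (Nat.prime_iff_prime_int.1 hM.1).coprime_iff_not_dvd.2 hpk
      obtain ⟨a, b, hab⟩ := hcop
      have h1 : (t ^ k) ^ a = t := by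
        rw [← zpow_mul, show k * a = 1 - b * (orderOf t : ℤ) by linear_combination hab,
          zpow_sub, zpow_one, mul_comm b, zpow_mul, zpow_natCast, pow_orderOf_eq_one, one_zpow,
          inv_one, mul_one]
      have h2 : Commute (t ^ k) x := by
        show t ^ k * x = x * t ^ k
        have := congrArg (· * t ^ k) hk
        simpa [mul_assoc] using this
      have h3 := h2.zpow_left a
      rw [h1] at h3
      exact h3) hfI
  have h1 : ∀ z : G, ∑ x : G, f (t⁻¹ * x * z⁻¹ * x⁻¹) = 0 := by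
    intro z
    have := key z
    rw [Matrix.trace] at this
    rw [← this]
    refine Finset.sum_congr rfl fun x _ => ?_
    rw [Matrix.diag_apply, Tm_mul_apply]
    rfl
  have h2 : ∑ z : G, φ z⁻¹ * ∑ x : G, f (t⁻¹ * x * z⁻¹ * x⁻¹) = 0 :=
    Finset.sum_eq_zero fun z _ => by rw [h1, mul_zero]
  have h3 : ∑ z : G, φ z⁻¹ * ∑ x : G, f (t⁻¹ * x * z⁻¹ * x⁻¹) =
      (Fintype.card G : ℂ) * ∑ w : G, f w * φ (t * w) := by
    simp_rw [Finset.mul_sum]
    rw [Finset.sum_comm]
    have h4 : ∀ x : G, ∑ z : G, φ z⁻¹ * f (t⁻¹ * x * z⁻¹ * x⁻¹) = ∑ w : G, f w * φ (t * w) := by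
      intro x
      rw [← Equiv.sum_comp ((Equiv.inv G).trans ((MulAut.conj x).toEquiv.trans
        (Equiv.mulLeft t⁻¹))) (fun w => f w * φ (t * w))]
      refine Finset.sum_congr rfl fun z _ => ?_
      have e1 : ((Equiv.inv G).trans ((MulAut.conj x).toEquiv.trans (Equiv.mulLeft t⁻¹))) z =
          t⁻¹ * x * z⁻¹ * x⁻¹ := by
        show t⁻¹ * (x * z⁻¹ * x⁻¹) = _
        group
      rw [e1]
      have e2 : t * (t⁻¹ * x * z⁻¹ * x⁻¹) = x * z⁻¹ * x⁻¹ := by group
      rw [e2, hφ, mul_comm]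
    simp_rw [h4]
    rw [Finset.sum_const, Finset.card_univ, nsmul_eq_mul, ← Finset.mul_sum]
  rw [h3] at h2
  have h5 : (Fintype.card G : ℂ) ≠ 0 := by exact_mod_cast Fintype.card_ne_zero
  exact (mul_eq_zero.1 h2).resolve_left h5

end Trace

end CfsgLib.Star
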