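import Mathlib
import Cfsg.Agent.EqBase
import Cfsg.Agent.LibStar1
import Cfsg.Agent.LibBrP13

/-!
# Star construction, II: Fitting idempotents over a henselian local ring (helper18)
-/

set_option autoImplicit false
set_option linter.unusedSectionVars false
set_option linter.style.haveILetI false
set_option linter.unusedSimpArgs false
set_option linter.unusedVariables false

namespace CfsgLib.Star

open Cfsg CfsgLib.LocR Polynomial

/-- every monic polynomial splits -/
def SplitsAll (R : Type*) [CommRing R] : Prop :=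
  ∀ P : Polynomial R, P.Monic → ∃ s : Multiset R, P = (s.map (fun r => X - C r)).prod

theorem coprime_aux {R : Type*} [CommRing R] (s t : Multiset R)
    (h : ∀ r ∈ s, ∀ r' ∈ t, IsUnit (r - r')) :
    IsCoprime (s.map (fun r => X - C r)).prod (t.map (fun r => X - C r)).prod := by
  induction s using Multiset.induction_on with
  | empty => simpa using isCoprime_one_left
  | cons a s ih =>
    rw [Multiset.map_cons, Multiset.prod_cons]
    refine IsCoprime.mul_left ?_ (ih fun r hr => h r (Multiset.mem_cons_of_mem hr))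
    have ha := h a (Multiset.mem_cons_self a s)
    clear ih h
    induction t using Multiset.induction_on with
    | empty => simpa using isCoprime_one_right
    | cons b t ih =>
      rw [Multiset.map_cons, Multiset.prod_cons]
      refine IsCoprime.mul_right ?_ (ih fun r hr => ha r (Multiset.mem_cons_of_mem hr))
      exact isCoprime_X_sub_C_of_isUnit_sub (ha b (Multiset.mem_cons_self b t))

theorem nil_aux {R : Type*} [CommRing R] {A A' : Type*} [Ring A] [Algebra R A] [Ring A']
    (π : A →+* A') (a : A) (t : Multiset R) (h : ∀ r ∈ t, π (algebraMap R A r) = 0) :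
    π (aeval a (t.map (fun r => X - C r)).prod) = π a ^ (Multiset.card t) := by
  induction t using Multiset.induction_on with
  | empty => simp
  | cons b t ih =>
    rw [Multiset.map_cons, Multiset.prod_cons, map_mul, map_mul,
      ih fun r hr => h r (Multiset.mem_cons_of_mem hr), map_sub, aeval_X, aeval_C, map_sub,
      h b (Multiset.mem_cons_self b t), sub_zero, Multiset.card_cons, pow_succ']

/-- Fitting decomposition over a local ring over which all monic polynomials split -/
theorem fitR {R : Type*} [CommRing R] [IsLocalRing R] (hs : SplitsAll R)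
    {A A' : Type*} [Ring A] [Algebra R A] [Ring A'] (π : A →+* A')
    (hπ : ∀ r : R, ¬ IsUnit r → π (algebraMap R A r) = 0) {a : A} (ha : IsIntegral R a) :
    ∃ g ∈ Algebra.adjoin R {a}, ∃ w ∈ Algebra.adjoin R {a}, g * g = g ∧ w * a = g ∧ a * w = g ∧
      w * g = w ∧ g * w = w ∧ ∃ m : ℕ, π a ^ m * (1 - π g) = 0 := by
  classical
  obtain ⟨c, hc, hca⟩ := ha
  have hca' : aeval a c = 0 := hca
  obtain ⟨s, hs⟩ := hs c hc
  set U := ((s.filter (fun r => IsUnit r)).map (fun r => X - C r)).prod with hU
  set N := ((s.filter (fun r => ¬ IsUnit r)).map (fun r => X - C r)).prod with hN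
  have hUN : c = U * N := by
    rw [hs, hU, hN, ← Multiset.prod_add, ← Multiset.map_add, Multiset.filter_add_not]
  have hz : ∀ P : Polynomial R, aeval a (P * (U * N)) = 0 := fun P => by
    rw [map_mul, ← hUN, hca', mul_zero]
  have hunit : ∀ r : R, IsUnit r → ∀ r' : R, ¬ IsUnit r' → IsUnit (r - r') := by
    intro r hr r' hr'
    have h1 : r = (r - r') + r' := by ring
    rw [h1] at hr
    exact (IsLocalRing.isUnit_or_isUnit_of_isUnit_add hr).resolve_right hr'
  obtain ⟨A0, B0, h0⟩ : IsCoprime U N := coprime_aux _ _ fun r hr r' hr' =>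
    hunit r (Multiset.mem_filter.1 hr).2 r' (Multiset.mem_filter.1 hr').2
  obtain ⟨C0, D0, h1⟩ : IsCoprime U X := by
    have := coprime_aux (s.filter (fun r => IsUnit r)) {(0 : R)} fun r hr r' hr' => by
      rw [Multiset.mem_singleton.1 hr']
      exact hunit r (Multiset.mem_filter.1 hr).2 0 not_isUnit_zero
    simpa using this
  have hmem : ∀ P : Polynomial R, aeval a P ∈ Algebra.adjoin R {a} := fun P =>
    Polynomial.aeval_mem_adjoin_singleton R a
  refine ⟨aeval a (B0 * N), hmem _, aeval a (D0 * (B0 * N)), hmem _, ?_, ?_, ?_, ?_, ?_,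
    Multiset.card (s.filter (fun r => ¬ IsUnit r)), ?_⟩
  · rw [← map_mul]
    have e : B0 * N * (B0 * N) = B0 * N - (B0 * A0) * (U * N) := by
      linear_combination B0 * N * h0
    rw [e, map_sub, hz, sub_zero]
  · have e2 : aeval a (D0 * (B0 * N)) * a = aeval a (D0 * (B0 * N) * X) := by
      rw [map_mul (aeval a) _ X, aeval_X]
    have e : D0 * (B0 * N) * X = B0 * N - (B0 * C0) * (U * N) := by
      linear_combination B0 * N * h1
    rw [e2, e, map_sub, hz, sub_zero]
  · have e2 : a * aeval a (D0 * (B0 * N)) = aeval a (X * (D0 * (B0 * N))) := by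
      rw [map_mul (aeval a) X, aeval_X]
    have e : X * (D0 * (B0 * N)) = B0 * N - (B0 * C0) * (U * N) := by
      linear_combination B0 * N * h1
    rw [e2, e, map_sub, hz, sub_zero]
  · rw [← map_mul]
    have e : D0 * (B0 * N) * (B0 * N) = D0 * (B0 * N) - (D0 * B0 * A0) * (U * N) := by
      linear_combination D0 * B0 * N * h0
    rw [e, map_sub, hz, sub_zero]
  · rw [← map_mul]
    have e : B0 * N * (D0 * (B0 * N)) = D0 * (B0 * N) - (D0 * B0 * A0) * (U * N) := by
      linear_combination D0 * B0 * N * h0
    rw [e, map_sub, hz, sub_zero]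
  · have e : (1 : A) - aeval a (B0 * N) = aeval a (A0 * U) := by
      have h2 := congrArg (aeval a) h0
      rw [map_add, map_one] at h2
      rw [← h2, add_sub_cancel_right]
    have e2 : π (1 : A) - π (aeval a (B0 * N)) = π (aeval a (A0 * U)) := by rw [← map_sub, e]
    rw [map_one] at e2
    rw [e2, ← nil_aux π a _ (fun r hr => hπ r (Multiset.mem_filter.1 hr).2), ← hN, ← map_mul,
      ← map_mul]
    have e3 : N * (A0 * U) = A0 * (U * N) := by ring
    rw [e3, hz, map_zero]

theorem splitsAll_field (k : Type*) [Field k] [IsAlgClosed k] : SplitsAll k := by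
  intro P hP
  refine ⟨P.roots, ?_⟩
  exact (IsAlgClosed.splits P).eq_prod_roots_of_monic hP

section LocalInt

variable {M : Ideal AlgInt} [hPr : M.IsPrime]

/-- the local ring is integrally closed -/
theorem memR_of_root {P : Polynomial ℂ} (hP : P.Monic) (hc : ∀ n, MemLocalRing M (P.coeff n))
    {z : ℂ} (hz : P.IsRoot z) : MemLocalRing M z := by
  classical
  have hc' : ∀ n, ∃ a b : AlgInt, b ∉ M ∧ P.coeff n = (a : ℂ) / (b : ℂ) := fun n => by
    obtain ⟨a, b, hb, h⟩ := hc n
    exact ⟨a, b, hb, h.symm⟩
  choose a b hb hab using hc'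
  set B : AlgInt := ∏ i ∈ Finset.range P.natDegree, b i with hB
  have hBM : B ∉ M := by
    intro h
    obtain ⟨i, _, hi⟩ := (hPr.prod_mem_iff).1 h
    exact hb i hi
  have hB0 : (B : ℂ) ≠ 0 := ne_zero_of_not_mem hBM
  have hint : ∀ i < P.natDegree, IsIntegral ℤ (P.coeff i * (B : ℂ)) := by
    intro i hi
    have h1 : B = b i * ∏ j ∈ (Finset.range P.natDegree).erase i, b j :=
      (Finset.mul_prod_erase _ _ (Finset.mem_range.2 hi)).symm
    have h2 : P.coeff i * (B : ℂ) =
        ((a i * ∏ j ∈ (Finset.range P.natDegree).erase i, b j : AlgInt) : ℂ) := by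
      rw [hab i]
      conv_lhs => rw [h1]
      push_cast
      have := ne_zero_of_not_mem (hb i)
      field_simp
    rw [h2]
    exact (a i * ∏ j ∈ (Finset.range P.natDegree).erase i, b j : AlgInt).2
  set Q : Polynomial ℂ := P.scaleRoots (B : ℂ) with hQ
  have hQm : Q.Monic := (Polynomial.monic_scaleRoots_iff (B : ℂ)).2 hP
  have hQc : ∀ i, IsIntegral ℤ (Q.coeff i) := by
    intro i
    rw [hQ, Polynomial.coeff_scaleRoots]
    rcases lt_trichotomy i P.natDegree with h | h | h
    · obtain ⟨d, hd⟩ : ∃ d, P.natDegree - i = d + 1 := ⟨P.natDegree - i - 1, by omega⟩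
      rw [hd, pow_succ', ← mul_assoc]
      exact (hint i h).mul (B.2.pow d)
    · rw [h, Nat.sub_self, pow_zero, mul_one, hP.coeff_natDegree]
      exact isIntegral_one
    · rw [Polynomial.coeff_eq_zero_of_natDegree_lt h, zero_mul]
      exact isIntegral_zero
  have hroot : Q.IsRoot ((B : ℂ) * z) := by
    rw [Polynomial.IsRoot, hQ]
    have := Polynomial.scaleRoots_eval₂_mul (p := P) (RingHom.id ℂ) z (B : ℂ)
    simp only [RingHom.id_apply, Polynomial.eval₂_id] at this
    rw [this, hz.eq_zero, mul_zero]
  have hBz : IsIntegral ℤ ((B : ℂ) * z) := by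
    have h1 : (Q.coeffs : Set ℂ) ⊆ (integralClosure ℤ ℂ).toSubring := by
      intro x hx
      obtain ⟨n, _, rfl⟩ := Polynomial.mem_coeffs_iff.1 hx
      exact hQc n
    have h2 : IsIntegral (integralClosure ℤ ℂ) ((B : ℂ) * z) := by
      refine ⟨Q.toSubring _ h1, (Polynomial.monic_toSubring Q _ h1).2 hQm, ?_⟩
      have h3 : (Q.toSubring _ h1).map (algebraMap (integralClosure ℤ ℂ) ℂ) = Q := by
        ext n
        rw [Polynomial.coeff_map]
        exact Polynomial.coeff_toSubring' Q _ h1
      rw [← Polynomial.eval_map, h3]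
      exact hroot
    exact isIntegral_trans _ h2
  have h4 : z = ((B : ℂ) * z) * (B : ℂ)⁻¹ := by field_simp
  rw [h4]
  refine memR_mul (memR_of_isIntegral hBz) (memR_inv (memR_algInt B) ?_)
  rwa [memI_algInt_iff]

theorem splitsAll_subring (M : Ideal AlgInt) [hPr : M.IsPrime] : SplitsAll (LocR.subring M) := by
  intro P hP
  set Q : Polynomial ℂ := P.map (LocR.subring M).subtype with hQ
  have hQm : Q.Monic := hP.map _
  have hr : ∀ z ∈ Q.roots, MemLocalRing M z := by
    intro z hz
    refine memR_of_root hQm (fun n => ?_) (Polynomial.isRoot_of_mem_roots hz)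
    rw [hQ, Polynomial.coeff_map]
    exact (P.coeff n).2
  refine ⟨Q.roots.attach.map (fun z => ⟨z.1, hr z.1 z.2⟩), ?_⟩
  apply Polynomial.map_injective (LocR.subring M).subtype Subtype.val_injective
  rw [← hQ, Polynomial.map_multiset_prod, Multiset.map_map, Multiset.map_map]
  conv_lhs => rw [(IsAlgClosed.splits Q).eq_prod_roots_of_monic hQm]
  conv_lhs => rw [← Multiset.attach_map_val Q.roots, Multiset.map_map]
  congr 1
  apply Multiset.map_congr rfl
  intro x _
  simp

end LocalInt

end CfsgLib.Star
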