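import Mathlib
import Cfsg.Agent.EqBase
import Cfsg.Agent.LibStar2
import Cfsg.Agent.LibCharBasic
import Cfsg.Agent.LibBrP3

/-!
# Star construction, III: the group algebra over the local ring, twisted traces (helper18)
-/

set_option autoImplicit false
set_option linter.unusedSectionVars false
set_option linter.style.haveILetI false
set_option linter.unusedSimpArgs false
set_option linter.unusedVariables false

namespace CfsgLib.Star

open Cfsg CfsgLib.LocR CfsgLib.BrP CfsgLib.CharBasic

section Comm

variable {R : Type*} [CommRing R] {G : Type*} [Group G] [Fintype G]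

theorem rext {a b : MonoidAlgebra R G} (h : ∀ g, a.coeff g = b.coeff g) : a = b := by
  apply MonoidAlgebra.ext
  exact Finsupp.ext h

noncomputable def rmk (f : G → R) : MonoidAlgebra R G :=
  .ofCoeff (Finsupp.equivFunOnFinite.symm f)

@[simp] theorem rmk_coeff (f : G → R) (g : G) : (rmk f).coeff g = f g := rfl

theorem rmul_coeff (a b : MonoidAlgebra R G) (g : G) :
    (a * b).coeff g = ∑ x : G, a.coeff x * b.coeff (x⁻¹ * g) := by
  classical
  rw [MonoidAlgebra.coeff_mul_antidiag a b g
    ((Finset.univ : Finset G).image (fun x => (x, x⁻¹ * g)))]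
  · rw [Finset.sum_image]
    intro x _ y _ h
    exact (Prod.mk.inj h).1
  · intro q
    rw [Finset.mem_image]
    constructor
    · rintro ⟨x, _, rfl⟩
      exact mul_inv_cancel_left x g
    · intro h
      refine ⟨q.1, Finset.mem_univ _, ?_⟩
      rw [← h, inv_mul_cancel_left]

theorem rmul_coeff' (a b : MonoidAlgebra R G) (g : G) :
    (a * b).coeff g = ∑ x : G, a.coeff (g * x⁻¹) * b.coeff x := by
  rw [rmul_coeff, ← Equiv.sum_comp ((Equiv.inv G).trans (Equiv.mulLeft g))]
  refine Finset.sum_congr rfl fun x _ => ?_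
  simp

theorem rone_coeff (g : G) [Decidable (g = 1)] :
    (1 : MonoidAlgebra R G).coeff g = if g = 1 then 1 else 0 := by
  classical
  rw [MonoidAlgebra.one_def, MonoidAlgebra.coeff_single, Finsupp.single_apply]
  simp only [eq_comm]

/-- invariance under conjugation by `S` -/
def RF (S : Subgroup G) (a : MonoidAlgebra R G) : Prop :=
  ∀ x ∈ S, ∀ g, a.coeff (x * g * x⁻¹) = a.coeff g

/-- conjugation -/
noncomputable def rcj (x : G) (a : MonoidAlgebra R G) : MonoidAlgebra R G :=
  rmk fun g => a.coeff (x⁻¹ * g * x)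

theorem rcj_coeff (x : G) (a : MonoidAlgebra R G) (g : G) :
    (rcj x a).coeff g = a.coeff (x⁻¹ * g * x) := rfl

theorem rcj_mul (x : G) (a b : MonoidAlgebra R G) : rcj x (a * b) = rcj x a * rcj x b := by
  apply rext
  intro g
  rw [rcj_coeff, rmul_coeff, rmul_coeff, ← Equiv.sum_comp (MulAut.conj x).toEquiv]
  rw [← Equiv.sum_comp (MulAut.conj x).toEquiv (fun y => (rcj x a).coeff y * _)]
  rw [← Equiv.sum_comp (MulAut.conj x⁻¹).toEquiv]
  refine Finset.sum_congr rfl fun y _ => ?_
  simp only [rcj_coeff, MulEquiv.toEquiv_eq_coe, EquivLike.coe_coe, MulAut.conj_apply, inv_inv]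
  congr 2 <;> group

theorem rf_iff {S : Subgroup G} {a : MonoidAlgebra R G} : RF S a ↔ ∀ x ∈ S, rcj x a = a := by
  constructor
  · intro h x hx
    apply rext
    intro g
    rw [rcj_coeff]
    have := h x⁻¹ (S.inv_mem hx) g
    rwa [inv_inv] at this
  · intro h x hx g
    have := h x⁻¹ (S.inv_mem hx)
    conv_rhs => rw [← this]
    rw [rcj_coeff, inv_inv]

theorem rcj_one (x : G) : rcj x (1 : MonoidAlgebra R G) = 1 := by
  classical
  apply rext
  intro g
  rw [rcj_coeff, rone_coeff, rone_coeff]
  congr 1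
  rw [eq_iff_iff]
  constructor
  · intro h
    have : g = x * (x⁻¹ * g * x) * x⁻¹ := by group
    rw [this, h]; group
  · rintro rfl; group

theorem rf_mono {S T : Subgroup G} (h : S ≤ T) {a : MonoidAlgebra R G} (ha : RF T a) : RF S a :=
  fun x hx g => ha x (h hx) g

theorem rf_mul {S : Subgroup G} {a b : MonoidAlgebra R G} (ha : RF S a) (hb : RF S b) :
    RF S (a * b) := by
  rw [rf_iff] at *
  intro x hx
  rw [rcj_mul, ha x hx, hb x hx]

theorem rf_add {S : Subgroup G} {a b : MonoidAlgebra R G} (ha : RF S a) (hb : RF S b) :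
    RF S (a + b) := fun x hx g => by
  show a.coeff _ + b.coeff _ = a.coeff g + b.coeff g
  rw [ha x hx, hb x hx]

theorem rf_sub {S : Subgroup G} {a b : MonoidAlgebra R G} (ha : RF S a) (hb : RF S b) :
    RF S (a - b) := fun x hx g => by
  show a.coeff _ - b.coeff _ = a.coeff g - b.coeff g
  rw [ha x hx, hb x hx]

theorem rf_smul {S : Subgroup G} {a : MonoidAlgebra R G} (c : R) (ha : RF S a) :
    RF S (c • a) := fun x hx g => by
  show c * a.coeff _ = c * a.coeff g
  rw [ha x hx]

theorem rf_one {S : Subgroup G} : RF S (1 : MonoidAlgebra R G) := by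
  rw [rf_iff]; intro x _; exact rcj_one x

theorem rf_zero {S : Subgroup G} : RF S (0 : MonoidAlgebra R G) := fun x hx g => rfl

/-- fixed points as a subalgebra -/
def rfAlg (R : Type*) [CommRing R] {G : Type*} [Group G] [Fintype G] (S : Subgroup G) :
    Subalgebra R (MonoidAlgebra R G) where
  carrier := {a | RF S a}
  mul_mem' := rf_mul
  one_mem' := rf_one
  add_mem' := rf_add
  zero_mem' := rf_zero
  algebraMap_mem' := fun r => by
    rw [Algebra.algebraMap_eq_smul_one]
    exact rf_smul r rf_one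

theorem rf_adjoin {S : Subgroup G} {a b : MonoidAlgebra R G} (ha : RF S a)
    (hb : b ∈ Algebra.adjoin R {a}) : RF S b := by
  have : Algebra.adjoin R {a} ≤ rfAlg R S := by
    rw [Algebra.adjoin_le_iff]
    rintro x hx
    rw [Set.mem_singleton_iff] at hx
    subst hx; exact ha
  exact this hb

theorem commute_adjoin {A : Type*} [Ring A] [Algebra R A] {a b c : A} (hc : Commute c a)
    (hb : b ∈ Algebra.adjoin R {a}) : Commute c b := by
  have : Algebra.adjoin R {a} ≤ Subalgebra.centralizer R {c} := by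
    rw [Algebra.adjoin_le_iff]
    rintro x hx
    rw [Set.mem_singleton_iff] at hx
    subst hx
    rw [SetLike.mem_coe, Subalgebra.mem_centralizer_iff]
    rintro y hy
    rw [Set.mem_singleton_iff] at hy
    subst hy; exact hc
  exact (Subalgebra.mem_centralizer_iff R).1 (this hb) c (Set.mem_singleton c)

end Comm

section Red

variable {M : Ideal AlgInt} [hPr : M.IsPrime] {G : Type*} [Group G] [Fintype G]

variable (M) (G) in
/-- group algebra over the local ring -/
abbrev RG : Type _ := MonoidAlgebra (LocR.subring M) G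

variable (M) (G) in
/-- reduction -/
noncomputable def red : RG M G →+* MonoidAlgebra (kM M) G :=
  MonoidAlgebra.mapRingHom G (IsLocalRing.residue (LocR.subring M))

theorem red_coeff (a : RG M G) (g : G) :
    (red M G a).coeff g = IsLocalRing.residue (LocR.subring M) (a.coeff g) :=
  MonoidAlgebra.coeff_mapRingHom _ _ _

theorem red_coeff_eq_zero {a : RG M G} {g : G} :
    (red M G a).coeff g = 0 ↔ MemLocalIdeal M (a.coeff g : ℂ) := by
  rw [red_coeff, IsLocalRing.residue_eq_zero_iff, LocR.mem_maximalIdeal_iff]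

theorem red_fx {S : Subgroup G} {a : RG M G} (ha : RF S a) : Fx S (red M G a) := by
  intro x hx g
  rw [red_coeff, red_coeff, ha x hx]

theorem red_rcj (x : G) (a : RG M G) : red M G (rcj x a) = cj x (red M G a) := by
  apply ext'
  intro g
  rw [red_coeff, rcj_coeff, cj_coeff, red_coeff]

/-- lifting elements -/
theorem exists_lift_elt {S : Subgroup G} {x : MonoidAlgebra (kM M) G} (hx : Fx S x) :
    ∃ a : RG M G, RF S a ∧ red M G a = x := by
  classical
  choose f hf using IsLocalRing.residue_surjective (R := LocR.subring M)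
  refine ⟨rmk fun g => f (x.coeff g), fun y hy g => ?_, ?_⟩
  · rw [rmk_coeff, rmk_coeff, hx y hy]
  · apply ext'
    intro g
    rw [red_coeff, rmk_coeff, hf]

/-- Fitting decomposition in the group algebra over the local ring -/
theorem fitRG (a : RG M G) :
    ∃ g ∈ Algebra.adjoin (LocR.subring M) {a}, ∃ w ∈ Algebra.adjoin (LocR.subring M) {a},
      g * g = g ∧ w * a = g ∧ a * w = g ∧
      w * g = w ∧ g * w = w ∧ ∃ m : ℕ, red M G a ^ m * (1 - red M G g) = 0 := by
  refine fitR (splitsAll_subring M) (red M G) (fun r hr => ?_) (Algebra.IsIntegral.isIntegral a)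
  classical
  apply ext'
  intro g
  rw [red_coeff, Algebra.algebraMap_eq_smul_one]
  show IsLocalRing.residue _ (r * (1 : RG M G).coeff g) = 0
  rw [map_mul]
  have : IsLocalRing.residue (LocR.subring M) r = 0 := by
    rw [IsLocalRing.residue_eq_zero_iff, IsLocalRing.mem_maximalIdeal, mem_nonunits_iff]
    exact hr
  rw [this, zero_mul]

/-- idempotents lift -/
theorem idem_aux {A : Type*} [Ring A] {x g w : A} (hx : x * x = x) (h1 : w * x = g) (h2 : x * w = g)
    {m : ℕ} (h : x ^ m * (1 - g) = 0) : g = x := by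
  have hgx : g * x = g := by rw [← h1, mul_assoc, hx]
  have hxg : x * g = g := by rw [← h2, ← mul_assoc, hx]
  rcases Nat.eq_zero_or_pos m with rfl | hm
  · rw [pow_zero, one_mul, sub_eq_zero] at h
    rw [← h, mul_one] at hxg
    rw [← h, hxg]
  · have h3 : x ^ m = x := by
      obtain ⟨n, rfl⟩ := Nat.exists_eq_succ_of_ne_zero hm.ne'
      clear h hm
      induction n with
      | zero => simp
      | succ n ih => rw [pow_succ, ih, hx]
    rw [h3, mul_sub, mul_one, hxg, sub_eq_zero] at h
    exact h.symm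

/-- lifting an idempotent which is the reduction of `a`: polynomial in `a` -/
theorem lift_idem_of {a : RG M G} (h : red M G a * red M G a = red M G a) :
    ∃ g ∈ Algebra.adjoin (LocR.subring M) {a}, ∃ w ∈ Algebra.adjoin (LocR.subring M) {a},
      g * g = g ∧ w * a = g ∧ a * w = g ∧ w * g = w ∧ g * w = w ∧ red M G g = red M G a ∧
      red M G w = red M G a := by
  obtain ⟨g, hg, w, hw, h1, h2, h3, h4, h5, m, h6⟩ := fitRG a
  have e1 : red M G g = red M G a := idem_aux h (by rw [← map_mul, h2]) (by rw [← map_mul, h3]) h6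
  refine ⟨g, hg, w, hw, h1, h2, h3, h4, h5, e1, ?_⟩
  have e2 : red M G w * red M G a = red M G a := by rw [← map_mul, h2, e1]
  have e3 : red M G w * red M G a = red M G w := by rw [← e1, ← map_mul, h4]
  rw [← e3, e2]

theorem exists_lift {S : Subgroup G} {x : MonoidAlgebra (kM M) G} (hx : Fx S x) (hxx : x * x = x) :
    ∃ a : RG M G, a * a = a ∧ RF S a ∧ red M G a = x := by
  obtain ⟨a, ha, rfl⟩ := exists_lift_elt hx
  obtain ⟨g, hg, w, hw, h1, h2, h3, h4, h5, h6, h7⟩ := lift_idem_of hxx
  exact ⟨g, h1, rf_adjoin ha hg, h6⟩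

/-! ### twisted traces -/

/-- trace of `t` on the element `a` -/
noncomputable def tv (φ : G → ℂ) (t : G) (a : RG M G) : ℂ :=
  ∑ w : G, (a.coeff w : ℂ) * φ (t * w)

theorem tv_add (φ : G → ℂ) (t : G) (a b : RG M G) : tv φ t (a + b) = tv φ t a + tv φ t b := by
  unfold tv
  rw [← Finset.sum_add_distrib]
  refine Finset.sum_congr rfl fun w _ => ?_
  rw [← add_mul]
  rfl

theorem tv_sub (φ : G → ℂ) (t : G) (a b : RG M G) : tv φ t (a - b) = tv φ t a - tv φ t b := by
  unfold tv
  rw [← Finset.sum_sub_distrib]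
  refine Finset.sum_congr rfl fun w _ => ?_
  rw [← sub_mul]
  rfl

theorem tv_mul (φ : G → ℂ) (t : G) (a b : RG M G) :
    tv φ t (a * b) = ∑ x : G, ∑ y : G, (a.coeff x : ℂ) * (b.coeff y : ℂ) * φ (t * (x * y)) := by
  unfold tv
  have h1 : ∀ w : G, ((a * b).coeff w : ℂ) * φ (t * w) =
      ∑ x : G, (a.coeff x : ℂ) * (b.coeff (x⁻¹ * w) : ℂ) * φ (t * w) := by
    intro w
    rw [rmul_coeff]
    push_cast
    rw [Finset.sum_mul]
  simp_rw [h1]
  rw [Finset.sum_comm]
  refine Finset.sum_congr rfl fun x _ => ?_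
  rw [← Equiv.sum_comp (Equiv.mulLeft x)]
  refine Finset.sum_congr rfl fun y _ => ?_
  simp

theorem tv_comm {φ : G → ℂ} (hφ : IsClassFunction G φ) (t : G) {a b : RG M G}
    (hb : RF (Subgroup.zpowers t) b) : tv φ t (a * b) = tv φ t (b * a) := by
  rw [tv_mul, tv_mul, Finset.sum_comm, ← Equiv.sum_comp (MulAut.conj t).toEquiv]
  refine Finset.sum_congr rfl fun y _ => Finset.sum_congr rfl fun x _ => ?_
  have e1 : (MulAut.conj t).toEquiv y = t * y * t⁻¹ := rfl
  rw [e1, hb t (Subgroup.mem_zpowers t)]
  have e2 : t * (x * (t * y * t⁻¹)) = (t * y * t⁻¹)⁻¹ * (t * (y * x)) * (t * y * t⁻¹)⁻¹⁻¹ := by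
    group
  rw [e2, hφ]
  ring

theorem mem_centralizer_zpowers {t w : G} :
    w ∈ Subgroup.centralizer ((Subgroup.zpowers t : Subgroup G) : Set G) ↔ t * w = w * t := by
  rw [Subgroup.mem_centralizer_iff]
  constructor
  · intro h; exact h t (Subgroup.mem_zpowers t)
  · rintro h u ⟨k, rfl⟩
    exact (show Commute t w from h).zpow_left k

/-- the key vanishing -/
theorem tv_zero {p : ℕ} (hM : IsPModular p M) {φ : G → ℂ} (hφ : IsClassFunction G φ) {t : G}
    (ht : ∃ j : ℕ, orderOf t = p ^ j) {a : RG M G} (haa : a * a = a)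
    (ha : RF (Subgroup.zpowers t) a) (hbr : Br (Subgroup.zpowers t) (red M G a) = 0) :
    tv φ t a = 0 := by
  classical
  refine sum_zero hM (f := fun g => (a.coeff g : ℂ)) (fun g => (a.coeff g).2) (fun g => ?_)
    (fun x => by rw [ha t (Subgroup.mem_zpowers t)]) ht (fun x hx => ?_) hφ
  · have := rmul_coeff' a a g
    rw [haa] at this
    have h2 := congrArg (Subtype.val : LocR.subring M → ℂ) this
    push_cast at h2
    exact h2.symm
  · rw [← red_coeff_eq_zero, ← br_coeff_of (P := Subgroup.zpowers t) _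
      (mem_centralizer_zpowers.2 hx), hbr]
    rfl

theorem isPGroup_zp {p : ℕ} [Fact p.Prime] {t : G} (ht : ∃ j : ℕ, orderOf t = p ^ j) :
    IsPGroup p (Subgroup.zpowers t) := by
  obtain ⟨j, hj⟩ := ht
  apply IsPGroup.of_card (n := j)
  rw [Nat.card_zpowers, hj]

/-- the twisted trace only depends on the image under the Brauer map -/
theorem tv_eq {p : ℕ} (hM : IsPModular p M) {φ : G → ℂ} (hφ : IsClassFunction G φ) {t : G}
    (ht : ∃ j : ℕ, orderOf t = p ^ j) {a b : RG M G} (haa : a * a = a)
    (ha : RF (Subgroup.zpowers t) a) (hbb : b * b = b) (hb : RF (Subgroup.zpowers t) b)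
    (hab : Br (Subgroup.zpowers t) (red M G a) = Br (Subgroup.zpowers t) (red M G b)) :
    tv φ t a = tv φ t b := by
  haveI : Fact p.Prime := ⟨hM.1⟩
  haveI := charP_kM hM
  have hT := isPGroup_zp ht
  set T := Subgroup.zpowers t with hTdef
  have hx : RF T (a * b * a) := rf_mul (rf_mul ha hb) ha
  obtain ⟨g, hg, w, hw, h1, h2, h3, h4, h5, m, h6⟩ := fitRG (a * b * a)
  have hgf := rf_adjoin hx hg
  have hwf := rf_adjoin hx hw
  have hag : a * g = g := by
    rw [← h3, ← mul_assoc, ← mul_assoc, ← mul_assoc, haa]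
  have hga : g * a = g := by
    rw [← h2, mul_assoc w (a * b * a) a, mul_assoc (a * b) a a, haa]
  have hwa : w * a = w := by rw [← h4, mul_assoc, hga]
  have haw : a * w = w := by rw [← h5, ← mul_assoc, hag]
  -- Brauer images
  have bm : ∀ {u v : RG M G}, RF T u → RF T v → Br T (red M G (u * v)) =
      Br T (red M G u) * Br T (red M G v) := fun hu hv => by
    rw [map_mul, br_mul hT (red_fx hu) (red_fx hv)]
  have bs : ∀ {u v : RG M G}, Br T (red M G (u - v)) =
      Br T (red M G u) - Br T (red M G v) := fun {u v} => by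
    rw [map_sub, br_sub]
  set A := Br T (red M G a) with hA
  have hAA : A * A = A := by rw [hA, ← bm ha ha, haa]
  have hB : Br T (red M G b) = A := hab.symm
  have hX : Br T (red M G (a * b * a)) = A := by
    rw [bm (rf_mul ha hb) ha, bm ha hb, hB, ← hA, hAA, hAA]
  have hXpow : ∀ n : ℕ, Br T (red M G (a * b * a) ^ n) = Br T (red M G (a * b * a)) ^ n := by
    intro n
    induction n with
    | zero => rw [pow_zero, pow_zero, br_one]
    | succ n ih =>
      have hpf : Fx T (red M G (a * b * a) ^ n) := by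
        rw [← map_pow]
        refine red_fx (rf_adjoin hx ?_)
        exact pow_mem (Algebra.subset_adjoin (Set.mem_singleton _)) n
      rw [pow_succ, pow_succ, br_mul hT hpf (red_fx hx), ih]
  have hfx1 : Fx T (1 - red M G g) := fx_sub fx_one (red_fx hgf)
  have hG : Br T (red M G g) = A := by
    refine idem_aux (m := m) hAA (w := Br T (red M G w)) ?_ ?_ ?_
    · rw [← hX, ← bm hwf hx, h2]
    · rw [← hX, ← bm hx hwf, h3]
    · have := congrArg (Br T) h6
      have hpf : Fx T (red M G (a * b * a) ^ m) := by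
        rw [← map_pow]
        refine red_fx (rf_adjoin hx ?_)
        exact pow_mem (Algebra.subset_adjoin (Set.mem_singleton _)) m
      rw [br_mul hT hpf hfx1, hXpow, hX, br_sub, br_one, br_zero] at this
      exact this
  have hW : Br T (red M G w) = A := by
    have e1 : Br T (red M G w) * A = A := by rw [← hX, ← bm hwf hx, h2, hG, hX]
    have e2 : Br T (red M G w) * A = Br T (red M G w) := by rw [← hG, ← bm hwf hgf, h4]
    rw [← e2, e1]
  -- a and g
  have s1 : tv φ t (a - g) = 0 := by
    refine tv_zero hM hφ ht ?_ (rf_sub ha hgf) (by rw [bs, hG, sub_self])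
    rw [sub_mul, mul_sub, mul_sub, haa, hag, hga, h1, sub_self, sub_zero]
  -- b₁ = b w b
  have hbwb : (b * w * b) * (b * w * b) = b * w * b := by
    have e1 : w * b * w = w := by
      calc w * b * w = (w * a) * b * (a * w) := by rw [hwa, haw]
        _ = w * (a * b * a) * w := by noncomm_ring
        _ = w := by rw [h2, h5]
    calc (b * w * b) * (b * w * b) = b * w * (b * b) * w * b := by noncomm_ring
      _ = b * (w * b * w) * b := by rw [hbb]; noncomm_ring
      _ = b * w * b := by rw [e1]
  have hb1f : RF T (b * w * b) := rf_mul (rf_mul hb hwf) hb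
  have s2 : tv φ t (b - b * w * b) = 0 := by
    refine tv_zero hM hφ ht ?_ (rf_sub hb hb1f) ?_
    · have e1 : b * (b * w * b) = b * w * b := by rw [← mul_assoc, ← mul_assoc, hbb]
      have e2 : b * w * b * b = b * w * b := by rw [mul_assoc, hbb]
      rw [sub_mul, mul_sub, mul_sub, hbb, e1, e2, hbwb, sub_self, sub_zero]
    · rw [bs, bm (rf_mul hb hwf) hb, bm hb hwf, hB, hW, hAA, hAA, sub_self]
  have s3 : tv φ t g = tv φ t (b * w * b) := by
    have e1 : g = (g * b) * (b * w) := by
      calc g = g * g := h1.symm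
        _ = g * ((a * b * a) * w) := by rw [h3]
        _ = (g * a) * b * (a * w) := by noncomm_ring
        _ = g * b * w := by rw [hga, haw]
        _ = g * (b * b) * w := by rw [hbb]
        _ = (g * b) * (b * w) := by noncomm_ring
    have e2 : (b * w) * (g * b) = b * w * b := by
      calc (b * w) * (g * b) = b * (w * g) * b := by noncomm_ring
        _ = b * w * b := by rw [h4]
    conv_lhs => rw [e1]
    rw [tv_comm hφ t (rf_mul hb hwf), e2]
  rw [tv_sub, sub_eq_zero] at s1 s2
  rw [s1, s3, s2]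

/-! ### the function `tau` -/

open Classical in
/-- the twisted trace of `t` on an idempotent of `k[G]` -/
noncomputable def tau (φ : G → ℂ) (t : G) (x : MonoidAlgebra (kM M) G) : ℂ :=
  if h : ∃ a : RG M G, a * a = a ∧ RF (Subgroup.zpowers t) a ∧
      Br (Subgroup.zpowers t) (red M G a) = Br (Subgroup.zpowers t) x
  then tv φ t h.choose else 0

theorem tau_eq {p : ℕ} (hM : IsPModular p M) {φ : G → ℂ} (hφ : IsClassFunction G φ) {t : G}
    (ht : ∃ j : ℕ, orderOf t = p ^ j) {a : RG M G} (haa : a * a = a)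
    (ha : RF (Subgroup.zpowers t) a) {x : MonoidAlgebra (kM M) G}
    (hx : Br (Subgroup.zpowers t) (red M G a) = Br (Subgroup.zpowers t) x) :
    tau φ t x = tv φ t a := by
  have h : ∃ a : RG M G, a * a = a ∧ RF (Subgroup.zpowers t) a ∧
      Br (Subgroup.zpowers t) (red M G a) = Br (Subgroup.zpowers t) x := ⟨a, haa, ha, hx⟩
  unfold tau
  rw [dif_pos h]
  obtain ⟨h1, h2, h3⟩ := h.choose_spec
  exact tv_eq hM hφ ht h1 h2 haa ha (h3.trans hx.symm)

theorem tau_br {φ : G → ℂ} {t : G} (x : MonoidAlgebra (kM M) G) :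
    tau φ t (Br (Subgroup.zpowers t) x) = tau φ t x := by
  unfold tau
  rw [br_br le_rfl]

end Red

end CfsgLib.Star
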