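import Mathlib
import Cfsg.Agent.EqBase
import Cfsg.Agent.LibStar3

/-!
# Star construction, IV: properties of `tau` (helper18)
-/

set_option autoImplicit false
set_option linter.unusedSectionVars false
set_option linter.style.haveILetI false
set_option linter.unusedSimpArgs false
set_option linter.unusedVariables false

namespace CfsgLib.Star

open Cfsg CfsgLib.LocR CfsgLib.BrP CfsgLib.CharBasic

variable {M : Ideal AlgInt} [hPr : M.IsPrime] {G : Type*} [Group G] [Fintype G]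

theorem tau_congr {φ : G → ℂ} {t : G} {x y : MonoidAlgebra (kM M) G}
    (h : Br (Subgroup.zpowers t) x = Br (Subgroup.zpowers t) y) : tau φ t x = tau φ t y := by
  rw [← tau_br, h, tau_br]

theorem tv_zero_right (φ : G → ℂ) (t : G) : tv φ t (0 : RG M G) = 0 := by
  unfold tv
  refine Finset.sum_eq_zero fun w _ => ?_
  show ((0 : LocR.subring M) : ℂ) * _ = 0
  simp

theorem tau_zero {p : ℕ} (hM : IsPModular p M) {φ : G → ℂ} (hφ : IsClassFunction G φ) {t : G}
    (ht : ∃ j : ℕ, orderOf t = p ^ j) {x : MonoidAlgebra (kM M) G}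
    (h : Br (Subgroup.zpowers t) x = 0) : tau φ t x = 0 := by
  rw [tau_eq hM hφ ht (a := 0) (mul_zero _) rf_zero (by rw [map_zero, br_zero, h]), tv_zero_right]

theorem tau_add {p : ℕ} (hM : IsPModular p M) {φ : G → ℂ} (hφ : IsClassFunction G φ) {t : G}
    (ht : ∃ j : ℕ, orderOf t = p ^ j) {x y : MonoidAlgebra (kM M) G}
    (hx : Fx (Subgroup.zpowers t) x) (hy : Fx (Subgroup.zpowers t) y) (hxx : x * x = x)
    (hyy : y * y = y) (hxy : x * y = 0) (hyx : y * x = 0) :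
    tau φ t (x + y) = tau φ t x + tau φ t y := by
  have hs : (x + y) * (x + y) = x + y := by
    rw [add_mul, mul_add, mul_add, hxx, hyy, hxy, hyx, add_zero, zero_add]
  obtain ⟨a, haa, ha, har⟩ := exists_lift (fx_add hx hy) hs
  obtain ⟨c, hc, hcr⟩ := exists_lift_elt hx
  have hred : red M G (a * c * a) = x := by
    rw [map_mul, map_mul, har, hcr]
    have h1 : (x + y) * x = x := by rw [add_mul, hxx, hyx, add_zero]
    rw [h1, mul_add, hxx, hxy, add_zero]
  have hf : RF (Subgroup.zpowers t) (a * c * a) := rf_mul (rf_mul ha hc) ha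
  obtain ⟨g, hg, w, hw, h1, h2, h3, h4, h5, h6, h7⟩ := lift_idem_of (a := a * c * a)
    (by rw [hred, hxx])
  rw [hred] at h6
  have hgf := rf_adjoin hf hg
  have hag : a * g = g := by
    rw [← h3, ← mul_assoc, ← mul_assoc, ← mul_assoc, haa]
  have hga : g * a = g := by
    rw [← h2, mul_assoc w (a * c * a) a, mul_assoc (a * c) a a, haa]
  have hd : (a - g) * (a - g) = a - g := by
    rw [sub_mul, mul_sub, mul_sub, haa, hag, hga, h1, sub_self, sub_zero]
  rw [tau_eq hM hφ ht haa ha (by rw [har]), tau_eq hM hφ ht h1 hgf (by rw [h6]),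
    tau_eq hM hφ ht hd (rf_sub ha hgf) (by rw [map_sub, har, h6, add_sub_cancel_left]), tv_sub]
  ring

theorem tau_comm {p : ℕ} (hM : IsPModular p M) {φ : G → ℂ} (hφ : IsClassFunction G φ) {t : G}
    (ht : ∃ j : ℕ, orderOf t = p ^ j) {x y c d : MonoidAlgebra (kM M) G}
    (hx : Fx (Subgroup.zpowers t) x) (hy : Fx (Subgroup.zpowers t) y) (hxx : x * x = x)
    (hyy : y * y = y) (hc : Fx (Subgroup.zpowers t) c) (hd : Fx (Subgroup.zpowers t) d)
    (hxc : x * c = c) (hcy : c * y = c) (hyd : y * d = d) (hdx : d * x = d)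
    (hcd : c * d = x) (hdc : d * c = y) :
    tau φ t x = tau φ t y := by
  obtain ⟨a, haa, ha, har⟩ := exists_lift hx hxx
  obtain ⟨b, hbb, hb, hbr⟩ := exists_lift hy hyy
  obtain ⟨c0, hc0, hc0r⟩ := exists_lift_elt hc
  obtain ⟨d0, hd0, hd0r⟩ := exists_lift_elt hd
  set c1 := a * c0 * b with hc1
  set d1 := b * d0 * a with hd1
  have hc1r : red M G c1 = c := by rw [hc1, map_mul, map_mul, har, hc0r, hbr, hxc, hcy]
  have hd1r : red M G d1 = d := by rw [hd1, map_mul, map_mul, har, hd0r, hbr, hyd, hdx]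
  have hc1f : RF (Subgroup.zpowers t) c1 := rf_mul (rf_mul ha hc0) hb
  have hd1f : RF (Subgroup.zpowers t) d1 := rf_mul (rf_mul hb hd0) ha
  have hred : red M G (c1 * d1) = x := by rw [map_mul, hc1r, hd1r, hcd]
  obtain ⟨g, hg, w, hw, h1, h2, h3, h4, h5, h6, h7⟩ := lift_idem_of (a := c1 * d1)
    (by rw [hred, hxx])
  rw [hred] at h6 h7
  have hf : RF (Subgroup.zpowers t) (c1 * d1) := rf_mul hc1f hd1f
  have hgf := rf_adjoin hf hg
  have hwf := rf_adjoin hf hw
  have hb1 : (d1 * w * c1) * (d1 * w * c1) = d1 * w * c1 := by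
    calc (d1 * w * c1) * (d1 * w * c1) = d1 * (w * (c1 * d1)) * w * c1 := by noncomm_ring
      _ = d1 * (g * w) * c1 := by rw [h2]; noncomm_ring
      _ = d1 * w * c1 := by rw [h5]
  have hb1f : RF (Subgroup.zpowers t) (d1 * w * c1) := rf_mul (rf_mul hd1f hwf) hc1f
  rw [tau_eq hM hφ ht h1 hgf (by rw [h6]), tau_eq hM hφ ht hb1 hb1f (x := y) (by
    rw [map_mul, map_mul, hc1r, hd1r, h7, hdx, hdc])]
  have e1 : g = (w * c1) * d1 := by rw [mul_assoc, h2]
  conv_lhs => rw [e1]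
  rw [tv_comm hφ t hd1f, ← mul_assoc d1 w c1]

theorem tau_conj {p : ℕ} (hM : IsPModular p M) {φ : G → ℂ} (hφ : IsClassFunction G φ) {t : G}
    (ht : ∃ j : ℕ, orderOf t = p ^ j) {x : MonoidAlgebra (kM M) G}
    (hx : Fx (Subgroup.zpowers t) x) (hxx : x * x = x) (s : G) :
    tau φ (s * t * s⁻¹) (cj s x) = tau φ t x := by
  obtain ⟨a, haa, ha, har⟩ := exists_lift hx hxx
  have ht' : ∃ j : ℕ, orderOf (s * t * s⁻¹) = p ^ j := by
    obtain ⟨j, hj⟩ := ht
    refine ⟨j, ?_⟩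
    rw [← hj]
    exact orderOf_injective (MulAut.conj s).toMonoidHom (MulAut.conj s).injective t
  have hf : RF (Subgroup.zpowers (s * t * s⁻¹)) (rcj s a) := by
    rintro u ⟨k, rfl⟩ g
    rw [rcj_coeff, rcj_coeff]
    have e1 : (s * t * s⁻¹) ^ k = s * t ^ k * s⁻¹ := conj_zpow
    have e2 : s⁻¹ * ((s * t * s⁻¹) ^ k * g * ((s * t * s⁻¹) ^ k)⁻¹) * s =
        t ^ k * (s⁻¹ * g * s) * (t ^ k)⁻¹ := by rw [e1]; group
    show a.coeff (s⁻¹ * ((s * t * s⁻¹) ^ k * g * ((s * t * s⁻¹) ^ k)⁻¹) * s) = _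
    rw [e2, ha _ (Subgroup.zpow_mem_zpowers t k)]
  rw [tau_eq hM hφ ht' (a := rcj s a) (by rw [← rcj_mul, haa]) hf (by rw [red_rcj, har]),
    tau_eq hM hφ ht haa ha (by rw [har])]
  unfold tv
  rw [← Equiv.sum_comp (MulAut.conj s).toEquiv]
  refine Finset.sum_congr rfl fun v _ => ?_
  have e1 : (MulAut.conj s).toEquiv v = s * v * s⁻¹ := rfl
  rw [e1, rcj_coeff]
  have e2 : s⁻¹ * (s * v * s⁻¹) * s = v := by group
  have e3 : s * t * s⁻¹ * (s * v * s⁻¹) = s * (t * v) * s⁻¹ := by group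
  rw [e2, e3, hφ]

theorem tau_sum {p : ℕ} (hM : IsPModular p M) {φ : G → ℂ} (hφ : IsClassFunction G φ) {t : G}
    (ht : ∃ j : ℕ, orderOf t = p ^ j) {ι : Type*} (s : Finset ι)
    (f : ι → MonoidAlgebra (kM M) G) (hf : ∀ i ∈ s, Fx (Subgroup.zpowers t) (f i))
    (hff : ∀ i ∈ s, f i * f i = f i) (ho : ∀ i ∈ s, ∀ j ∈ s, i ≠ j → f i * f j = 0) :
    tau φ t (∑ i ∈ s, f i) = ∑ i ∈ s, tau φ t (f i) := by
  classical
  induction s using Finset.induction_on with
  | empty => simp only [Finset.sum_empty]; exact tau_zero hM hφ ht (br_zero _)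
  | insert a s ha ih =>
    have hs := ih (fun i hi => hf i (Finset.mem_insert_of_mem hi))
      (fun i hi => hff i (Finset.mem_insert_of_mem hi))
      (fun i hi j hj => ho i (Finset.mem_insert_of_mem hi) j (Finset.mem_insert_of_mem hj))
    rw [Finset.sum_insert ha, Finset.sum_insert ha, ← hs]
    have hm := Finset.mem_insert_self a s
    refine tau_add hM hφ ht (hf a hm) (fx_sum _ _ fun i hi => hf i (Finset.mem_insert_of_mem hi))
      (hff a hm) ?_ ?_ ?_
    · rw [Finset.sum_mul]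
      refine Finset.sum_congr rfl fun i hi => ?_
      rw [Finset.mul_sum, Finset.sum_eq_single i]
      · exact hff i (Finset.mem_insert_of_mem hi)
      · intro j hj hji
        exact ho i (Finset.mem_insert_of_mem hi) j (Finset.mem_insert_of_mem hj) (Ne.symm hji)
      · intro h; exact absurd hi h
    · rw [Finset.mul_sum]
      refine Finset.sum_eq_zero fun i hi => ho a hm i (Finset.mem_insert_of_mem hi) ?_
      rintro rfl; exact ha hi
    · rw [Finset.sum_mul]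
      refine Finset.sum_eq_zero fun i hi => ho i (Finset.mem_insert_of_mem hi) a hm ?_
      rintro rfl; exact ha hi

/-! ### characters on idempotents -/

/-- the action of a group on the image of a commuting idempotent -/
theorem isCharacter_idem {S : Type*} [Group S] [Finite S] {V : Type*} [AddCommGroup V]
    [Module ℂ V] [FiniteDimensional ℂ V] (ρ : Representation ℂ S V) (π : V →ₗ[ℂ] V)
    (hπ : π ∘ₗ π = π) (hc : ∀ s, ρ s ∘ₗ π = π ∘ₗ ρ s) :
    IsCharacter S (fun s => LinearMap.trace ℂ V (ρ s ∘ₗ π)) := by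
  let ι : LinearMap.range π →ₗ[ℂ] V := (LinearMap.range π).subtype
  let r : V →ₗ[ℂ] LinearMap.range π := π.rangeRestrict
  have hιr : ι ∘ₗ r = π := by ext v; rfl
  have hrι : r ∘ₗ ι = LinearMap.id := by
    ext ⟨v, w, rfl⟩
    show π (π w) = π w
    exact LinearMap.congr_fun hπ w
  have hrπ : r ∘ₗ π = r := by
    ext v
    show π (π v) = π v
    exact LinearMap.congr_fun hπ v
  let σ : Representation ℂ S (LinearMap.range π) :=
    { toFun := fun s => r ∘ₗ ρ s ∘ₗ ι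
      map_one' := by
        rw [map_one]
        show r ∘ₗ LinearMap.id ∘ₗ ι = _
        rw [LinearMap.id_comp, hrι]; rfl
      map_mul' := fun s s' => by
        have e1 : (r ∘ₗ ρ s ∘ₗ ι) * (r ∘ₗ ρ s' ∘ₗ ι) = r ∘ₗ ρ s ∘ₗ (ι ∘ₗ r) ∘ₗ ρ s' ∘ₗ ι := rfl
        rw [e1, hιr]
        have e2 : r ∘ₗ ρ s ∘ₗ π ∘ₗ ρ s' ∘ₗ ι = r ∘ₗ (ρ s ∘ₗ π) ∘ₗ ρ s' ∘ₗ ι := rfl
        rw [e2, hc]
        have e3 : r ∘ₗ (π ∘ₗ ρ s) ∘ₗ ρ s' ∘ₗ ι = (r ∘ₗ π) ∘ₗ (ρ s ∘ₗ ρ s') ∘ₗ ι := rfl
        rw [e3, hrπ, map_mul]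
        rfl }
  have h : σ.character = fun s => LinearMap.trace ℂ V (ρ s ∘ₗ π) := by
    funext s
    show LinearMap.trace ℂ _ (r ∘ₗ ρ s ∘ₗ ι) = _
    rw [LinearMap.trace_comp_comm', LinearMap.comp_assoc, hιr]
  rw [← h]
  exact isCharacter_character σ

theorem tau_char {p : ℕ} (hM : IsPModular p M) {χ : G → ℂ} (hχ : IsCharacter G χ)
    {S : Subgroup G} (hS : IsPGroup p S) {x : MonoidAlgebra (kM M) G} (hx : Fx S x)
    (hxx : x * x = x) : IsCharacter S (fun u : S => tau χ (u : G) x) := by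
  haveI : Fact p.Prime := ⟨hM.1⟩
  obtain ⟨a, haa, ha, har⟩ := exists_lift hx hxx
  have hcf := char_classFun hχ
  have h1 : (fun u : S => tau χ (u : G) x) = fun u : S => tv χ (u : G) a := by
    funext u
    have hu : Subgroup.zpowers (u : G) ≤ S := by rw [Subgroup.zpowers_le]; exact u.2
    have ht : ∃ j : ℕ, orderOf (u : G) = p ^ j := by
      obtain ⟨j, hj⟩ := IsPGroup.iff_orderOf.1 hS u
      exact ⟨j, by rw [Subgroup.orderOf_coe, hj]⟩
    exact tau_eq hM hcf ht haa (rf_mono hu ha) (by rw [har])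
  rw [h1]
  obtain ⟨n, ρ, hρ⟩ := hχ
  -- the operator of `a`
  let op : RG M G → ((Fin n → ℂ) →ₗ[ℂ] (Fin n → ℂ)) := fun b => ∑ w : G, (b.coeff w : ℂ) • ρ w
  have hop : ∀ b c : RG M G, op (b * c) = op b ∘ₗ op c := by
    intro b c
    simp only [op]
    have e1 : ∀ w : G, ((b * c).coeff w : ℂ) • ρ w =
        ∑ x : G, ((b.coeff x : ℂ) * (c.coeff (x⁻¹ * w) : ℂ)) • ρ w := by
      intro w
      rw [rmul_coeff]
      push_cast
      rw [Finset.sum_smul]
    simp_rw [e1]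
    rw [Finset.sum_comm]
    have e2 : (∑ w : G, (b.coeff w : ℂ) • ρ w) ∘ₗ (∑ w : G, (c.coeff w : ℂ) • ρ w) =
        (∑ w : G, (b.coeff w : ℂ) • ρ w) * (∑ w : G, (c.coeff w : ℂ) • ρ w) := rfl
    rw [e2, Finset.sum_mul_sum]
    refine Finset.sum_congr rfl fun x _ => ?_
    rw [← Equiv.sum_comp (Equiv.mulLeft x)]
    refine Finset.sum_congr rfl fun y _ => ?_
    simp only [Equiv.coe_mulLeft, inv_mul_cancel_left, map_mul]
    rw [smul_mul_smul_comm]
  have hc : ∀ u : S, ρ (u : G) ∘ₗ op a = op a ∘ₗ ρ (u : G) := by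
    intro u
    simp only [op]
    have e1 : ρ (u : G) ∘ₗ (∑ w : G, (a.coeff w : ℂ) • ρ w) =
        ρ (u : G) * (∑ w : G, (a.coeff w : ℂ) • ρ w) := rfl
    have e2 : (∑ w : G, (a.coeff w : ℂ) • ρ w) ∘ₗ ρ (u : G) =
        (∑ w : G, (a.coeff w : ℂ) • ρ w) * ρ (u : G) := rfl
    rw [e1, e2, Finset.mul_sum, Finset.sum_mul,
      ← Equiv.sum_comp (MulAut.conj (u : G)).toEquiv (fun w => ((a.coeff w : ℂ) • ρ w) * ρ (u : G))]
    refine Finset.sum_congr rfl fun w _ => ?_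
    have e3 : (MulAut.conj (u : G)).toEquiv w = u * w * (u : G)⁻¹ := rfl
    rw [e3, ha _ u.2, mul_smul_comm, smul_mul_assoc, ← map_mul, ← map_mul]
    congr 2
    group
  have h2 := isCharacter_idem (ρ.comp S.subtype) (op a) (by rw [← hop, haa]) hc
  have h3 : (fun u : S => tv χ (u : G) a) = fun u : S =>
      LinearMap.trace ℂ (Fin n → ℂ) ((ρ.comp S.subtype) u ∘ₗ op a) := by
    funext u
    unfold tv
    have e1 : (ρ.comp S.subtype) u ∘ₗ op a = ∑ w : G, (a.coeff w : ℂ) • ρ ((u : G) * w) := by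
      show ρ (u : G) * (∑ w : G, (a.coeff w : ℂ) • ρ w) = _
      rw [Finset.mul_sum]
      refine Finset.sum_congr rfl fun w _ => ?_
      rw [mul_smul_comm, map_mul]
    rw [e1, map_sum]
    refine Finset.sum_congr rfl fun w _ => ?_
    rw [map_smul, smul_eq_mul, ← hρ]
    rfl
  rw [h3]
  exact h2

end CfsgLib.Star
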