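import Mathlib
import Cfsg.Agent.EqBase
import Cfsg.Agent.LibStar2

/-!
# Star construction, V: points of finite-dimensional algebras and trace forms (helper18)
-/

set_option autoImplicit false
set_option linter.unusedSectionVars false
set_option linter.style.haveILetI false
set_option linter.unusedSimpArgs false
set_option linter.unusedVariables false

namespace CfsgLib.Points

open CfsgLib.Star

variable {k : Type*} [Field k] {A : Type*} [Ring A] [Algebra k A]

/-- primitive idempotent -/
structure Prim (j : A) : Prop where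
  idem : j * j = j
  ne : j ≠ 0
  prim : ∀ z, z * z = z → j * z = z → z * j = z → z = 0 ∨ z = j

/-- membership in the corner -/
def Cor (j y : A) : Prop := j * y = y ∧ y * j = y

theorem Cor.mul {j y z : A} (hy : Cor j y) (hz : Cor j z) : Cor j (y * z) :=
  ⟨by rw [← mul_assoc, hy.1], by rw [mul_assoc, hz.2]⟩

theorem Cor.add {j y z : A} (hy : Cor j y) (hz : Cor j z) : Cor j (y + z) :=
  ⟨by rw [mul_add, hy.1, hz.1], by rw [add_mul, hy.2, hz.2]⟩

theorem Cor.sub {j y z : A} (hy : Cor j y) (hz : Cor j z) : Cor j (y - z) :=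
  ⟨by rw [mul_sub, hy.1, hz.1], by rw [sub_mul, hy.2, hz.2]⟩

theorem Cor.neg {j y : A} (hy : Cor j y) : Cor j (-y) :=
  ⟨by rw [mul_neg, hy.1], by rw [neg_mul, hy.2]⟩

theorem Cor.smul {j y : A} (c : k) (hy : Cor j y) : Cor j (c • y) :=
  ⟨by rw [mul_smul_comm, hy.1], by rw [smul_mul_assoc, hy.2]⟩

theorem Prim.cor {j : A} (hj : Prim j) : Cor j j := ⟨hj.idem, hj.idem⟩

theorem cor_of {j : A} (hj : j * j = j) (a : A) : Cor j (j * a * j) :=
  ⟨by rw [← mul_assoc, ← mul_assoc, hj], by rw [mul_assoc, hj]⟩

theorem Prim.pow {j : A} (hj : Prim j) {n : ℕ} (hn : n ≠ 0) : j ^ n = j := by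
  obtain ⟨m, rfl⟩ := Nat.exists_eq_succ_of_ne_zero hn
  clear hn
  induction m with
  | zero => simp
  | succ m ih => rw [pow_succ, ih, hj.idem]

theorem Prim.not_nilpotent {j : A} (hj : Prim j) : ¬ IsNilpotent j := by
  rintro ⟨n, hn⟩
  by_cases h0 : n = 0
  · rw [h0, pow_zero] at hn
    exact hj.ne (by rw [← mul_one j, hn, mul_zero])
  · rw [hj.pow h0] at hn; exact hj.ne hn

variable [IsAlgClosed k] [FiniteDimensional k A]

include k in
variable (k) in
theorem unit_or_nil {j : A} (hj : Prim j) {y : A} (hy : Cor j y) :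
    IsNilpotent y ∨ ∃ w, Cor j w ∧ w * y = j ∧ y * w = j := by
  obtain ⟨g, hg, w, hw, h1, h2, h3, h4, h5, m, h6⟩ := fitR (splitsAll_field k) (RingHom.id A)
    (fun r hr => by
      have : r = 0 := by
        by_contra h
        exact hr (isUnit_iff_ne_zero.2 h)
      rw [this, map_zero, map_zero]) (Algebra.IsIntegral.isIntegral (R := k) y)
  simp only [RingHom.id_apply] at h6
  have hg1 : j * g = g := by rw [← h3, ← mul_assoc, hy.1]
  have hg2 : g * j = g := by rw [← h2, mul_assoc, hy.2]
  rcases hj.prim g h1 hg1 hg2 with rfl | rfl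
  · left
    rw [sub_zero, mul_one] at h6
    exact ⟨m, h6⟩
  · right
    exact ⟨w, ⟨h5, h4⟩, h2, h3⟩

theorem pow_mul_pow {a b j : A} (h : a * b = j) (hb : j * b = b) (ha : a * j = a) (n : ℕ) :
    a ^ (n + 1) * b ^ (n + 1) = j := by
  induction n with
  | zero => simpa using h
  | succ n ih =>
    have e : ∀ m : ℕ, a ^ (m + 1) * j = a ^ (m + 1) := fun m => by
      rw [pow_succ, mul_assoc, ha]
    calc a ^ (n + 1 + 1) * b ^ (n + 1 + 1) = a ^ (n + 1) * (a * b) * b ^ (n + 1) := by
          rw [pow_succ a, pow_succ' b]; noncomm_ring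
      _ = j := by rw [h, e, ih]

include k in
variable (k) in
theorem nil_add {j : A} (hj : Prim j) {y z : A} (hy : Cor j y) (hz : Cor j z)
    (hyn : IsNilpotent y) (hzn : IsNilpotent z) : IsNilpotent (y + z) := by
  rcases unit_or_nil k hj (hy.add hz) with h | ⟨w, hw, h1, h2⟩
  · exact h
  · exfalso
    have key : ∀ {y : A}, Cor j y → IsNilpotent y → IsNilpotent (w * y) := by
      intro y hy hyn
      rcases unit_or_nil k hj (hw.mul hy) with h | ⟨v, hv, h3, h4⟩
      · exact h
      · exfalso
        obtain ⟨n, hn⟩ := hyn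
        have h5 := pow_mul_pow (a := v * w) (b := y) (j := j) (by rw [mul_assoc, h3]) hy.1
          (hv.mul hw).2 n
        rw [pow_succ y, hn, zero_mul, mul_zero] at h5
        exact hj.ne h5.symm
    have h3 := key hy hyn
    have h4 := key hz hzn
    have h5 : w * z = j - w * y := by rw [← h1, mul_add]; abel
    have hc : Commute (w * y) (j - w * y) := by
      show (w * y) * (j - w * y) = (j - w * y) * (w * y)
      rw [mul_sub, sub_mul, (hw.mul hy).1, (hw.mul hy).2]
    rw [h5] at h4
    have h6 := hc.isNilpotent_add h3 h4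
    rw [add_sub_cancel] at h6
    exact hj.not_nilpotent h6

theorem isNilpotent_smul' {y : A} (c : k) (h : IsNilpotent y) : IsNilpotent (c • y) := by
  obtain ⟨n, hn⟩ := h
  exact ⟨n, by rw [smul_pow, hn, smul_zero]⟩

theorem exists_lam {j : A} (hj : Prim j) {y : A} (hy : Cor j y) :
    ∃ c : k, IsNilpotent (y - c • j) := by
  obtain ⟨P, hP, hPy⟩ := (Algebra.IsIntegral.isIntegral (R := k) y)
  obtain ⟨s, hs⟩ := splitsAll_field k P hP
  have key : ∀ s : Multiset k, Polynomial.aeval y (s.map (fun r => Polynomial.X -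
      Polynomial.C r)).prod * j = 0 → ∃ c : k, IsNilpotent (y - c • j) := by
    intro s
    induction s using Multiset.induction_on with
    | empty =>
      intro h
      rw [Multiset.map_zero, Multiset.prod_zero, map_one, one_mul] at h
      exact absurd h hj.ne
    | cons c s ih =>
      intro h
      by_cases hn : IsNilpotent (y - c • j)
      · exact ⟨c, hn⟩
      · have hcy : Cor j (y - c • j) := hy.sub (hj.cor.smul c)
        obtain ⟨w, hw, h1, h2⟩ := (unit_or_nil k hj hcy).resolve_left hn
        rw [Multiset.map_cons, Multiset.prod_cons] at h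
        set Q := (s.map (fun r => Polynomial.X - Polynomial.C r)).prod with hQ
        apply ih
        have hjc : Commute j y := by show j * y = y * j; rw [hy.1, hy.2]
        have hjQ : Commute j (Polynomial.aeval y Q) := by
          have h3 : Polynomial.aeval y Q ∈ Algebra.adjoin k {y} :=
            Polynomial.aeval_mem_adjoin_singleton k y
          have : Algebra.adjoin k {y} ≤ Subalgebra.centralizer k {j} := by
            rw [Algebra.adjoin_le_iff]
            rintro x hx
            rw [Set.mem_singleton_iff] at hx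
            subst hx
            rw [SetLike.mem_coe, Subalgebra.mem_centralizer_iff]
            rintro z hz
            rw [Set.mem_singleton_iff] at hz
            subst hz; exact hjc
          exact (Subalgebra.mem_centralizer_iff k).1 (this h3) j (Set.mem_singleton j)
        have h3 : (y - c • j) * (Polynomial.aeval y Q * j) = 0 := by
          have h4 : Polynomial.aeval y ((Polynomial.X - Polynomial.C c) * Q) * j =
              (y - c • (1 : A)) * (Polynomial.aeval y Q * j) := by
            rw [map_mul, map_sub, Polynomial.aeval_X, Polynomial.aeval_C,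
              Algebra.algebraMap_eq_smul_one, mul_assoc]
          rw [h4] at h
          have h5 : j * (Polynomial.aeval y Q * j) = Polynomial.aeval y Q * j := by
            rw [← mul_assoc, hjQ.eq, mul_assoc, hj.idem]
          rw [sub_mul, smul_mul_assoc, one_mul] at h
          rw [sub_mul, smul_mul_assoc, h5]
          exact h
        have h6 : w * ((y - c • j) * (Polynomial.aeval y Q * j)) = 0 := by rw [h3, mul_zero]
        rw [← mul_assoc, h1, ← mul_assoc, hjQ.eq, mul_assoc, hj.idem] at h6
        exact h6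
  exact key s (by
    rw [← hs]
    have : Polynomial.aeval y P = 0 := hPy
    rw [this, zero_mul])

open Classical in
variable (k) in
/-- eigenvalue -/
noncomputable def lam (j y : A) : k := if h : ∃ c : k, IsNilpotent (y - c • j) then h.choose else 0

theorem lam_unique {j : A} (hj : Prim j) {y : A} (hy : Cor j y) {c c' : k}
    (h : IsNilpotent (y - c • j)) (h' : IsNilpotent (y - c' • j)) : c = c' := by
  by_contra hne
  have h1 : IsNilpotent ((y - c' • j) + -(y - c • j)) :=
    nil_add k hj (hy.sub (hj.cor.smul c')) (hy.sub (hj.cor.smul c)).neg h' h.neg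
  have h2 : (y - c' • j) + -(y - c • j) = (c - c') • j := by
    rw [sub_smul]; abel
  rw [h2] at h1
  have h3 := isNilpotent_smul' (c - c')⁻¹ h1
  rw [smul_smul, inv_mul_cancel₀ (sub_ne_zero.2 hne), one_smul] at h3
  exact hj.not_nilpotent h3

theorem lam_spec {j : A} (hj : Prim j) {y : A} (hy : Cor j y) :
    IsNilpotent (y - lam k j y • j) := by
  unfold lam
  rw [dif_pos (exists_lam hj hy)]
  exact (exists_lam (k := k) hj hy).choose_spec

theorem lam_eq {j : A} (hj : Prim j) {y : A} (hy : Cor j y) {c : k}
    (h : IsNilpotent (y - c • j)) : lam k j y = c :=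
  lam_unique hj hy (lam_spec hj hy) h

theorem lam_add {j : A} (hj : Prim j) {y z : A} (hy : Cor j y) (hz : Cor j z) :
    lam k j (y + z) = lam k j y + lam k j z := by
  apply lam_eq hj (hy.add hz)
  have h1 := nil_add k hj (hy.sub (hj.cor.smul (lam k j y))) (hz.sub (hj.cor.smul (lam k j z)))
    (lam_spec hj hy) (lam_spec hj hz)
  have h2 : y - lam k j y • j + (z - lam k j z • j) =
      y + z - (lam k j y + lam k j z) • j := by rw [add_smul]; abel
  rwa [h2] at h1

theorem lam_nil {j : A} (hj : Prim j) {y : A} (hy : Cor j y) (h : IsNilpotent y) :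
    lam k j y = 0 := lam_eq hj hy (by rwa [zero_smul, sub_zero])

theorem lam_zero {j : A} (hj : Prim j) : lam k j (0 : A) = 0 :=
  lam_nil hj ⟨by rw [mul_zero], by rw [zero_mul]⟩ IsNilpotent.zero

theorem lam_smul_self {j : A} (hj : Prim j) (c : k) : lam k j (c • j) = c :=
  lam_eq hj (hj.cor.smul c) (by rw [sub_self]; exact IsNilpotent.zero)

theorem lam_self {j : A} (hj : Prim j) : lam k j j = 1 :=
  lam_eq hj hj.cor (by rw [one_smul, sub_self]; exact IsNilpotent.zero)

theorem lam_sum {j : A} (hj : Prim j) {ι : Type*} (s : Finset ι) (f : ι → A)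
    (h : ∀ i ∈ s, Cor j (f i)) : lam k j (∑ i ∈ s, f i) = ∑ i ∈ s, lam k j (f i) := by
  classical
  induction s using Finset.induction_on with
  | empty => simp only [Finset.sum_empty]; exact lam_zero hj
  | insert a s ha ih =>
    have hs : Cor j (∑ i ∈ s, f i) :=
      ⟨by rw [Finset.mul_sum]; exact Finset.sum_congr rfl fun i hi =>
          (h i (Finset.mem_insert_of_mem hi)).1,
        by rw [Finset.sum_mul]; exact Finset.sum_congr rfl fun i hi =>
          (h i (Finset.mem_insert_of_mem hi)).2⟩
    rw [Finset.sum_insert ha, Finset.sum_insert ha, lam_add hj (h a (Finset.mem_insert_self a s)) hs,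
      ih fun i hi => h i (Finset.mem_insert_of_mem hi)]

theorem nil_swap {x y : A} (h : IsNilpotent (x * y)) : IsNilpotent (y * x) := by
  obtain ⟨n, hn⟩ := h
  refine ⟨n + 1, ?_⟩
  have : ∀ n : ℕ, (y * x) ^ (n + 1) = y * (x * y) ^ n * x := by
    intro n
    induction n with
    | zero => simp
    | succ n ih =>
      rw [pow_succ, ih, pow_succ (x * y)]
      noncomm_ring
  rw [this, hn, mul_zero, zero_mul]

theorem lam_comm {j l : A} (hj : Prim j) (hl : Prim l) {x y : A} (hx1 : j * x = x)
    (hx2 : x * l = x) (hy1 : l * y = y) (hy2 : y * j = y) :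
    lam k j (x * y) = lam k l (y * x) := by
  have hxy : Cor j (x * y) := ⟨by rw [← mul_assoc, hx1], by rw [mul_assoc, hy2]⟩
  have hyx : Cor l (y * x) := ⟨by rw [← mul_assoc, hy1], by rw [mul_assoc, hx2]⟩
  by_cases hn : IsNilpotent (x * y)
  · rw [lam_nil hj hxy hn, lam_nil hl hyx (nil_swap hn)]
  · have hn' : ¬ IsNilpotent (y * x) := fun h => hn (nil_swap h)
    symm
    apply lam_eq hl hyx
    set c := lam k j (x * y) with hc
    obtain ⟨n, hn1⟩ := lam_spec (k := k) hj hxy
    rw [← hc] at hn1
    have h1 : ∀ m : ℕ, (y * x - c • l) ^ m * y = y * (x * y - c • j) ^ m := by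
      intro m
      induction m with
      | zero => simp
      | succ m ih =>
        have e1 : (y * x - c • l) * y = y * (x * y - c • j) := by
          rw [sub_mul, mul_sub, smul_mul_assoc, mul_smul_comm, hy1, hy2, mul_assoc]
        rw [pow_succ, mul_assoc, e1, ← mul_assoc, ih, mul_assoc, ← pow_succ]
    obtain ⟨w, hw, h2, h3⟩ := (unit_or_nil k hl hyx).resolve_left hn'
    refine ⟨n + 1, ?_⟩
    have h4 : (y * x - c • l) ^ n * (y * x) = 0 := by
      rw [← mul_assoc, h1, hn1, mul_zero, zero_mul]
    have h5 : (y * x - c • l) ^ n * l = 0 := by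
      calc (y * x - c • l) ^ n * l = (y * x - c • l) ^ n * (y * x * w) := by rw [h3]
        _ = (y * x - c • l) ^ n * (y * x) * w := by rw [← mul_assoc]
        _ = 0 := by rw [h4, zero_mul]
    have h6 : l * (y * x - c • l) = y * x - c • l := (hyx.sub (hl.cor.smul c)).1
    calc (y * x - c • l) ^ (n + 1) = (y * x - c • l) ^ n * (l * (y * x - c • l)) := by
          rw [h6, pow_succ]
      _ = (y * x - c • l) ^ n * l * (y * x - c • l) := by rw [← mul_assoc]
      _ = 0 := by rw [h5, zero_mul]

/-! ### isomorphism of idempotents -/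

/-- isomorphic idempotents -/
def Iso (j l : A) : Prop := ∃ x y : A, j * x = x ∧ x * l = x ∧ l * y = y ∧ y * j = y ∧
  x * y = j ∧ y * x = l

theorem Iso.refl {j : A} (hj : j * j = j) : Iso j j := ⟨j, j, hj, hj, hj, hj, hj, hj⟩

theorem Iso.symm {j l : A} (h : Iso j l) : Iso l j := by
  obtain ⟨x, y, h1, h2, h3, h4, h5, h6⟩ := h
  exact ⟨y, x, h3, h4, h1, h2, h6, h5⟩

theorem Iso.trans {j l m : A} (h : Iso j l) (h' : Iso l m) : Iso j m := by
  obtain ⟨x, y, h1, h2, h3, h4, h5, h6⟩ := h
  obtain ⟨x', y', h1', h2', h3', h4', h5', h6'⟩ := h'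
  refine ⟨x * x', y' * y, by rw [← mul_assoc, h1], by rw [mul_assoc, h2'],
    by rw [← mul_assoc, h3'], by rw [mul_assoc, h4], ?_, ?_⟩
  · calc x * x' * (y' * y) = x * (x' * y') * y := by noncomm_ring
      _ = j := by rw [h5', h2, h5]
  · calc y' * y * (x * x') = y' * (y * x) * x' := by noncomm_ring
      _ = m := by rw [h6, h4', h6']

theorem Iso.map {B : Type*} [Ring B] (σ : A →+* B) {j l : A} (h : Iso j l) :
    Iso (σ j) (σ l) := by
  obtain ⟨x, y, h1, h2, h3, h4, h5, h6⟩ := h
  exact ⟨σ x, σ y, by rw [← map_mul, h1], by rw [← map_mul, h2], by rw [← map_mul, h3],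
    by rw [← map_mul, h4], by rw [← map_mul, h5], by rw [← map_mul, h6]⟩

theorem corP {l m : A} (hl : l * l = l) (a b : A) : Cor l ((l * a * m) * (m * b * l)) :=
  ⟨by simp only [← mul_assoc, hl], by rw [mul_assoc (l * a * m), mul_assoc (m * b), hl]⟩

theorem corQ {l : A} (hl : l * l = l) (m : A) : Cor l ((l * m) * (m * l)) :=
  ⟨by simp only [← mul_assoc, hl], by rw [mul_assoc (l * m), mul_assoc m, hl]⟩

include k in
variable (k) in
/-- if `a m b` is not nilpotent in the corner of `j`, then `j` and `m` are isomorphic -/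
theorem iso_of_not_nil {j m : A} (hj : Prim j) (hm : Prim m) {a b : A} (ha : j * a = a)
    (ham : a * m = a) (hb : m * b = b) (hbj : b * j = b) (hn : ¬ IsNilpotent (a * b)) :
    Iso j m := by
  have hab : Cor j (a * b) := ⟨by rw [← mul_assoc, ha], by rw [mul_assoc, hbj]⟩
  obtain ⟨w, hw, h1, h2⟩ := (unit_or_nil k hj hab).resolve_left hn
  -- x = w a, y = b
  have hyx : (b * (w * a)) * (b * (w * a)) = b * (w * a) := by
    calc (b * (w * a)) * (b * (w * a)) = b * (w * (a * b)) * (w * a) := by noncomm_ring
      _ = (b * j) * (w * a) := by rw [h1]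
      _ = b * (w * a) := by rw [hbj]
  have h3 : b * (w * a) = m := by
    refine (hm.prim _ hyx (by rw [← mul_assoc, hb]) (by rw [mul_assoc, mul_assoc, ham])).resolve_left
      fun h0 => ?_
    apply hj.ne
    calc j = j * j := hj.idem.symm
      _ = (w * (a * b)) * (w * (a * b)) := by rw [h1]
      _ = w * a * (b * (w * a)) * b := by noncomm_ring
      _ = 0 := by rw [h0, mul_zero, zero_mul]
  exact ⟨w * a, b, by rw [← mul_assoc, hw.1], by rw [mul_assoc, ham], hb, hbj,
    by rw [mul_assoc, h1], h3⟩

/-! ### decompositions -/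

/-- decomposition of `e` in orthogonal primitive idempotents -/
structure Dec (e : A) (L : Finset A) : Prop where
  prim : ∀ l ∈ L, Prim l
  orth : ∀ l ∈ L, ∀ m ∈ L, l ≠ m → l * m = 0
  sum : ∑ l ∈ L, l = e

theorem Dec.mul_right {e : A} {L : Finset A} (h : Dec e L) {l : A} (hl : l ∈ L) : l * e = l := by
  classical
  rw [← h.sum, Finset.mul_sum, Finset.sum_eq_single l]
  · exact (h.prim l hl).idem
  · intro m hm hml; exact h.orth l hl m hm hml.symm
  · intro h'; exact absurd hl h'

theorem Dec.mul_left {e : A} {L : Finset A} (h : Dec e L) {l : A} (hl : l ∈ L) : e * l = l := by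
  classical
  rw [← h.sum, Finset.sum_mul, Finset.sum_eq_single l]
  · exact (h.prim l hl).idem
  · intro m hm hml; exact h.orth m hm l hl hml
  · intro h'; exact absurd hl h'

variable (k) in
omit [IsAlgClosed k] in
theorem exists_dec_aux (n : ℕ) : ∀ e : A, e * e = e →
    Module.finrank k (LinearMap.range (LinearMap.mulRight k e)) ≤ n → ∃ L : Finset A, Dec e L := by
  classical
  induction n with
  | zero =>
    intro e he hn
    refine ⟨∅, ⟨by simp, by simp, ?_⟩⟩
    rw [Finset.sum_empty]
    have h1 : Module.finrank k (LinearMap.range (LinearMap.mulRight k e)) = 0 := by omega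
    have h2 := Submodule.finrank_eq_zero.1 h1
    have h3 : e ∈ LinearMap.range (LinearMap.mulRight k e) := ⟨e, he⟩
    rw [h2] at h3
    exact ((Submodule.mem_bot k).1 h3).symm
  | succ n ih =>
    intro e he hn
    by_cases h0 : e = 0
    · exact ⟨∅, ⟨by simp, by simp, by rw [h0]; simp⟩⟩
    by_cases hp : Prim e
    · exact ⟨{e}, ⟨by simpa using hp, by simp, by simp⟩⟩
    have : ∃ z, z * z = z ∧ e * z = z ∧ z * e = z ∧ z ≠ 0 ∧ z ≠ e := by
      by_contra hcon
      push Not at hcon
      exact hp ⟨he, h0, fun z h1 h2 h3 => by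
        by_contra h4
        push Not at h4
        exact h4.2 (hcon z h1 h2 h3 h4.1)⟩
    obtain ⟨z, hzz, hez, hze, hz0, hze'⟩ := this
    have hlt : ∀ z : A, z * z = z → e * z = z → z * e = z → z ≠ e →
        Module.finrank k (LinearMap.range (LinearMap.mulRight k z)) ≤ n := by
      intro z hzz hez hze hne
      have : LinearMap.range (LinearMap.mulRight k z) <
          LinearMap.range (LinearMap.mulRight k e) := by
        rw [lt_iff_le_and_ne]
        constructor
        · rintro _ ⟨x, rfl⟩
          exact ⟨x * z, by simp [mul_assoc, hze]⟩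
        · intro h
          have h1 : e ∈ LinearMap.range (LinearMap.mulRight k z) := by
            rw [h]; exact ⟨e, he⟩
          obtain ⟨x, hx⟩ := h1
          have hx' : x * z = e := hx
          apply hne
          rw [← hez, ← hx', mul_assoc, hzz]
      have := Submodule.finrank_lt_finrank_of_lt this
      omega
    have hw : (e - z) * (e - z) = e - z := by
      rw [sub_mul, mul_sub, mul_sub, he, hez, hze, hzz, sub_self, sub_zero]
    obtain ⟨L1, h1⟩ := ih z hzz (hlt z hzz hez hze hze')
    obtain ⟨L2, h2⟩ := ih (e - z) hw (hlt (e - z) hw (by rw [mul_sub, he, hez])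
      (by rw [sub_mul, he, hze]) (fun h => hz0 (by rwa [sub_eq_self] at h)))
    have ho : ∀ l ∈ L1, ∀ m ∈ L2, l * m = 0 ∧ m * l = 0 := by
      intro l hl m hm
      constructor
      · rw [← h1.mul_right hl, ← h2.mul_left hm, mul_assoc, ← mul_assoc z, mul_sub, hze, hzz,
          sub_self, zero_mul, mul_zero]
      · rw [← h1.mul_left hl, ← h2.mul_right hm, mul_assoc, ← mul_assoc (e - z), sub_mul, hez, hzz,
          sub_self, zero_mul, mul_zero]
    have hd : Disjoint L1 L2 := by
      rw [Finset.disjoint_left]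
      intro l hl hl'
      apply (h1.prim l hl).ne
      rw [← (h1.prim l hl).idem]
      exact (ho l hl l hl').1
    refine ⟨L1 ∪ L2, ⟨?_, ?_, ?_⟩⟩
    · intro l hl
      rcases Finset.mem_union.1 hl with h | h
      · exact h1.prim l h
      · exact h2.prim l h
    · intro l hl m hm hne
      rcases Finset.mem_union.1 hl with h | h <;> rcases Finset.mem_union.1 hm with h' | h'
      · exact h1.orth l h m h' hne
      · exact (ho l h m h').1
      · exact (ho m h' l h).2
      · exact h2.orth l h m h' hne
    · rw [Finset.sum_union hd, h1.sum, h2.sum, add_sub_cancel]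

include k in
variable (k) in
omit [IsAlgClosed k] in
theorem exists_dec {e : A} (he : e * e = e) : ∃ L : Finset A, Dec e L :=
  exists_dec_aux k _ e he le_rfl

/-! ### the trace forms -/

open Classical in
variable (k) in
/-- trace form -/
noncomputable def TF (L : Finset A) (O : A → Prop) (a : A) : k :=
  ∑ l ∈ L, if O l then lam k l (l * a * l) else 0

variable {L : Finset A} (hL : Dec (1 : A) L) {O : A → Prop}
  (hO : ∀ j l : A, Prim j → Prim l → Iso j l → (O j ↔ O l))

include hL

theorem TF_add (a b : A) : TF k L O (a + b) = TF k L O a + TF k L O b := by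
  classical
  unfold TF
  rw [← Finset.sum_add_distrib]
  refine Finset.sum_congr rfl fun l hl => ?_
  have hp := hL.prim l hl
  split_ifs
  · rw [mul_add, add_mul, lam_add hp (cor_of hp.idem a) (cor_of hp.idem b)]
  · rw [add_zero]

theorem TF_zero : TF k L O (0 : A) = 0 := by
  classical
  unfold TF
  refine Finset.sum_eq_zero fun l hl => ?_
  rw [mul_zero, zero_mul, lam_zero (hL.prim l hl), ite_self]

theorem TF_sum {ι : Type*} (s : Finset ι) (f : ι → A) :
    TF k L O (∑ i ∈ s, f i) = ∑ i ∈ s, TF k L O (f i) := by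
  classical
  induction s using Finset.induction_on with
  | empty => simp only [Finset.sum_empty]; exact TF_zero hL
  | insert a s ha ih => rw [Finset.sum_insert ha, Finset.sum_insert ha, TF_add hL, ih]

include hO

theorem TF_expand (a b : A) : TF k L O (a * b) =
    ∑ l ∈ L, ∑ m ∈ L, open Classical in
      if O l ∧ O m then lam k l ((l * a * m) * (m * b * l)) else 0 := by
  classical
  unfold TF
  refine Finset.sum_congr rfl fun l hl => ?_
  have hp := hL.prim l hl
  by_cases hOl : O l
  · rw [if_pos hOl]
    have h1 : l * (a * b) * l = ∑ m ∈ L, (l * a * m) * (m * b * l) := by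
      calc l * (a * b) * l = l * a * 1 * b * l := by noncomm_ring
        _ = ∑ m ∈ L, l * a * m * b * l := by
            rw [← hL.sum, Finset.mul_sum, Finset.sum_mul, Finset.sum_mul]
        _ = _ := Finset.sum_congr rfl fun m hm => by
            calc l * a * m * b * l = l * a * (m * m) * b * l := by rw [(hL.prim m hm).idem]
              _ = _ := by noncomm_ring
    rw [h1, lam_sum hp]
    · refine Finset.sum_congr rfl fun m hm => ?_
      by_cases hOm : O m
      · rw [if_pos ⟨hOl, hOm⟩]
      · rw [if_neg fun h => hOm h.2]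
        have hpm := hL.prim m hm
        refine lam_nil hp (corP hp.idem a b) ?_
        · by_contra hn
          apply hOm
          refine (hO l m hp hpm (iso_of_not_nil k hp hpm ?_ ?_ ?_ ?_ hn)).1 hOl
          · rw [← mul_assoc, ← mul_assoc, hp.idem]
          · rw [mul_assoc, hpm.idem]
          · rw [← mul_assoc, ← mul_assoc, hpm.idem]
          · rw [mul_assoc, hp.idem]
    · intro m hm
      exact corP hp.idem a b
  · rw [if_neg hOl]
    refine (Finset.sum_eq_zero fun m _ => ?_).symm
    rw [if_neg fun h => hOl h.1]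

theorem TF_comm (a b : A) : TF k L O (a * b) = TF k L O (b * a) := by
  classical
  rw [TF_expand hL hO, TF_expand hL hO, Finset.sum_comm]
  refine Finset.sum_congr rfl fun l hl => Finset.sum_congr rfl fun m hm => ?_
  have hpl := hL.prim l hl
  have hpm := hL.prim m hm
  by_cases h : O m ∧ O l
  · rw [if_pos h, if_pos h.symm]
    refine lam_comm hpm hpl ?_ ?_ ?_ ?_
    · rw [← mul_assoc, ← mul_assoc, hpm.idem]
    · rw [mul_assoc, hpl.idem]
    · rw [← mul_assoc, ← mul_assoc, hpl.idem]
    · rw [mul_assoc, hpm.idem]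
  · rw [if_neg h, if_neg fun h' => h h'.symm]

theorem TF_L {l : A} (hl : l ∈ L) : open Classical in TF k L O l = if O l then 1 else 0 := by
  classical
  unfold TF
  rw [Finset.sum_eq_single l]
  · have hp := hL.prim l hl
    rw [hp.idem, hp.idem, lam_self hp]
  · intro m hm hml
    rw [hL.orth m hm l hl hml, zero_mul, lam_zero (hL.prim m hm), ite_self]
  · intro h; exact absurd hl h

include k in
variable (k) in
/-- every primitive idempotent is isomorphic to a member of the decomposition -/
theorem exists_iso_L {j : A} (hj : Prim j) : ∃ l ∈ L, Iso j l := by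
  classical
  have h1 : j = ∑ l ∈ L, (j * l) * (l * j) := by
    calc j = j * 1 * j := by rw [mul_one, hj.idem]
      _ = ∑ l ∈ L, j * l * j := by rw [← hL.sum, Finset.mul_sum, Finset.sum_mul]
      _ = _ := Finset.sum_congr rfl fun l hl => by
          calc j * l * j = j * (l * l) * j := by rw [(hL.prim l hl).idem]
            _ = _ := by noncomm_ring
  have hc : ∀ l ∈ L, Cor j ((j * l) * (l * j)) := fun l _ => corQ hj.idem l
  have h2 : (1 : k) = ∑ l ∈ L, lam k j ((j * l) * (l * j)) := by
    rw [← lam_sum hj _ _ hc, ← h1, lam_self hj]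
  by_contra hcon
  push Not at hcon
  have h3 : ∑ l ∈ L, lam k j ((j * l) * (l * j)) = 0 := by
    refine Finset.sum_eq_zero fun l hl => lam_nil hj (hc l hl) ?_
    by_contra hn
    have hp := hL.prim l hl
    refine hcon l hl (iso_of_not_nil k hj hp ?_ ?_ ?_ ?_ hn)
    · rw [← mul_assoc, hj.idem]
    · rw [mul_assoc, hp.idem]
    · rw [← mul_assoc, hp.idem]
    · rw [mul_assoc, hj.idem]
  rw [h3] at h2
  exact one_ne_zero h2

theorem TF_prim {j : A} (hj : Prim j) : open Classical in TF k L O j = if O j then 1 else 0 := by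
  classical
  obtain ⟨l, hl, hi⟩ := exists_iso_L k hL hO hj
  have hOO := hO j l hj (hL.prim l hl) hi
  obtain ⟨x, y, h1, h2, h3, h4, h5, h6⟩ := hi
  rw [← h5, TF_comm hL hO, h6, TF_L hL hO hl, h5]
  by_cases h : O l
  · rw [if_pos h, if_pos (hOO.2 h)]
  · rw [if_neg h, if_neg fun h' => h (hOO.1 h')]

theorem TF_nil {j : A} (hj : Prim j) {n : A} (hn : Cor j n) (hnn : IsNilpotent n) :
    TF k L O n = 0 := by
  classical
  obtain ⟨l, hl, x, y, h1, h2, h3, h4, h5, h6⟩ := exists_iso_L k hL hO hj
  have hp := hL.prim l hl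
  have e1 : n = (n * x) * y := by rw [mul_assoc, h5, hn.2]
  have e2 : TF k L O n = TF k L O (y * n * x) := by
    conv_lhs => rw [e1]
    rw [TF_comm hL hO, mul_assoc]
  rw [e2]
  have hc : Cor l (y * n * x) := ⟨by rw [← mul_assoc, ← mul_assoc, h3], by rw [mul_assoc, h2]⟩
  have hpow : ∀ m : ℕ, (y * n * x) ^ (m + 1) = y * n ^ (m + 1) * x := by
    intro m
    induction m with
    | zero => simp
    | succ m ih =>
      calc (y * n * x) ^ (m + 1 + 1) = (y * n ^ (m + 1) * x) * (y * n * x) := by
            rw [pow_succ, ih]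
        _ = y * n ^ (m + 1) * (x * y) * n * x := by noncomm_ring
        _ = y * n ^ (m + 1) * (j * n) * x := by rw [h5]; noncomm_ring
        _ = y * n ^ (m + 1 + 1) * x := by rw [hn.1, pow_succ n (m + 1)]; noncomm_ring
  have hnil : IsNilpotent (y * n * x) := by
    obtain ⟨m, hm⟩ := hnn
    exact ⟨m + 1, by rw [hpow, pow_succ, hm, zero_mul, mul_zero, zero_mul]⟩
  unfold TF
  refine Finset.sum_eq_zero fun m hm => ?_
  by_cases hml : m = l
  · subst hml
    rw [hc.1, hc.2, lam_nil hp hc hnil, ite_self]
  · rw [← hc.1, ← mul_assoc m, hL.orth m hm l hl hml, zero_mul, zero_mul,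
      lam_zero (hL.prim m hm), ite_self]

/-- invariance of the trace form under automorphisms preserving the class -/
theorem TF_map (σ : A ≃ₐ[k] A) (hσ : ∀ j : A, Prim j → (O (σ j) ↔ O j)) (a : A) :
    TF k L O (σ a) = TF k L O a := by
  classical
  have hσp : ∀ j : A, Prim j → Prim (σ j) := fun j hj =>
    ⟨by rw [← map_mul, hj.idem], fun h => hj.ne (by
        rw [← map_zero σ] at h; exact σ.injective h), fun z h1 h2 h3 => by
      have h4 := hj.prim (σ.symm z) (by rw [← map_mul, h1])
        (by apply σ.injective; rw [map_mul, σ.apply_symm_apply, h2])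
        (by apply σ.injective; rw [map_mul, σ.apply_symm_apply, h3])
      rcases h4 with h4 | h4
      · left
        have := congrArg σ h4
        rwa [σ.apply_symm_apply, map_zero] at this
      · right
        have := congrArg σ h4
        rwa [σ.apply_symm_apply] at this⟩
  -- a = Σ l a m
  have h1 : a = ∑ l ∈ L, ∑ m ∈ L, l * a * m := by
    calc a = 1 * a * 1 := by rw [one_mul, mul_one]
      _ = _ := by
        rw [← hL.sum, Finset.sum_mul, Finset.sum_mul]
        refine Finset.sum_congr rfl fun l _ => ?_
        rw [Finset.mul_sum]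
  have h2 : ∀ l ∈ L, ∀ m ∈ L, TF k L O (σ (l * a * m)) =
      if l = m then (if O l then lam k l (l * a * l) else 0) else 0 := by
    intro l hl m hm
    have hpl := hL.prim l hl
    split_ifs with hlm hOl
    · subst hlm
      have hc := cor_of hpl.idem a
      have hs := lam_spec (k := k) hpl hc
      set c := lam k l (l * a * l) with hcdef
      set n := l * a * l - c • l with hn
      have e1 : l * a * l = c • l + n := by rw [hn]; abel
      have e2 : TF k L O (σ n) = 0 := by
        refine TF_nil hL hO (hσp l hpl) ?_ (hs.map σ.toRingHom)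
        have := hc.sub (hpl.cor.smul c)
        exact ⟨by rw [← map_mul, this.1], by rw [← map_mul, this.2]⟩
      have e3 : TF k L O (c • σ l) = c := by
        have e4 : c • σ l = (c • σ l) * σ l := by
          rw [smul_mul_assoc, ← map_mul, hpl.idem]
        -- use linearity via primitive corner
        obtain ⟨m, hm, x, y, g1, g2, g3, g4, g5, g6⟩ := exists_iso_L k hL hO (hσp l hpl)
        have hOm : O m := (hO (σ l) m (hσp l hpl) (hL.prim m hm)
          ⟨x, y, g1, g2, g3, g4, g5, g6⟩).1 ((hσ l hpl).2 hOl)
        have e5 : c • σ l = (c • x) * y := by rw [smul_mul_assoc, g5]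
        rw [e5, TF_comm hL hO, mul_smul_comm, g6]
        unfold TF
        rw [Finset.sum_eq_single m]
        · rw [if_pos hOm, mul_smul_comm, smul_mul_assoc, (hL.prim m hm).idem,
            (hL.prim m hm).idem, lam_smul_self (hL.prim m hm)]
        · intro m' hm' hne
          rw [mul_smul_comm, hL.orth m' hm' m hm hne, smul_zero, zero_mul,
            lam_zero (hL.prim m' hm'), ite_self]
        · intro h; exact absurd hm h
      rw [e1, map_add, map_smul, TF_add hL, e2, add_zero, e3]
    · subst hlm
      have hc := cor_of hpl.idem a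
      have hs := lam_spec (k := k) hpl hc
      set c := lam k l (l * a * l) with hcdef
      set n := l * a * l - c • l with hn
      have e1 : l * a * l = c • l + n := by rw [hn]; abel
      have e2 : TF k L O (σ n) = 0 := by
        refine TF_nil hL hO (hσp l hpl) ?_ (hs.map σ.toRingHom)
        have := hc.sub (hpl.cor.smul c)
        exact ⟨by rw [← map_mul, this.1], by rw [← map_mul, this.2]⟩
      have e3 : TF k L O (c • σ l) = 0 := by
        obtain ⟨m, hm, x, y, g1, g2, g3, g4, g5, g6⟩ := exists_iso_L k hL hO (hσp l hpl)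
        have hOm : ¬ O m := fun h => hOl ((hσ l hpl).1 ((hO (σ l) m (hσp l hpl) (hL.prim m hm)
          ⟨x, y, g1, g2, g3, g4, g5, g6⟩).2 h))
        have e5 : c • σ l = (c • x) * y := by rw [smul_mul_assoc, g5]
        rw [e5, TF_comm hL hO, mul_smul_comm, g6]
        unfold TF
        refine Finset.sum_eq_zero fun m' hm' => ?_
        by_cases hne : m' = m
        · subst hne; rw [if_neg hOm]
        · rw [mul_smul_comm, hL.orth m' hm' m hm hne, smul_zero, zero_mul,
            lam_zero (hL.prim m' hm'), ite_self]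
      rw [e1, map_add, map_smul, TF_add hL, e2, add_zero, e3]
    · have e1 : σ (l * a * m) = σ l * σ (a * m) := by rw [← map_mul, mul_assoc]
      rw [e1, TF_comm hL hO, ← map_mul, mul_assoc, hL.orth m hm l hl (Ne.symm hlm), mul_zero,
        map_zero, TF_zero hL]
  conv_lhs => rw [h1]
  rw [map_sum, TF_sum hL]
  unfold TF
  refine Finset.sum_congr rfl fun l hl => ?_
  have h3 : TF k L O (σ (∑ m ∈ L, l * a * m)) = ∑ m ∈ L, TF k L O (σ (l * a * m)) := by
    rw [map_sum, TF_sum hL]
  have h4 := h3
  unfold TF at h4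
  rw [h4]
  have h5 : ∀ m ∈ L, (∑ l' ∈ L, if O l' then lam k l' (l' * σ (l * a * m) * l') else 0) =
      if l = m then (if O l then lam k l (l * a * l) else 0) else 0 := fun m hm => by
    have := h2 l hl m hm
    unfold TF at this
    exact this
  rw [Finset.sum_congr rfl h5, Finset.sum_ite_eq, if_pos hl]

/-- the number of members of a decomposition of a trace lying in an invariant class is divisible
by `p` -/
theorem dvd_count {p : ℕ} [CharP k p] {i z : A} {J : Finset A} (hJ : Dec i J)
    {ι : Type*} (s : Finset ι) (hs : p ∣ s.card) (σ : ι → (A ≃ₐ[k] A))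
    (hσ : ∀ r ∈ s, ∀ j : A, Prim j → (O (σ r j) ↔ O j)) (hi : i = ∑ r ∈ s, σ r z) :
    open Classical in p ∣ (J.filter O).card := by
  classical
  have h1 : TF k L O i = ((J.filter O).card : k) := by
    conv_lhs => rw [← hJ.sum]
    rw [TF_sum hL, Finset.sum_congr rfl fun j hj => TF_prim hL hO (hJ.prim j hj),
      Finset.sum_boole]
  have h2 : TF k L O i = 0 := by
    rw [hi, TF_sum hL, Finset.sum_congr rfl fun r hr => TF_map hL hO (σ r) (hσ r hr) z,
      Finset.sum_const, nsmul_eq_mul, (CharP.cast_eq_zero_iff k p _).2 hs, zero_mul]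
  rw [h2] at h1
  exact (CharP.cast_eq_zero_iff k p _).1 h1.symm

end CfsgLib.Points
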