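import Mathlib
import Cfsg.Agent.EqBase
import Cfsg.Agent.LibStar4
import Cfsg.Agent.LibStar5
import Cfsg.Agent.LibBrP6

/-!
# Star construction, VI: local and non-local primitive idempotents of `(kG)^S` (helper18)
-/

set_option autoImplicit false
set_option linter.unusedSectionVars false
set_option linter.style.haveILetI false
set_option linter.unusedSimpArgs false
set_option linter.unusedVariables false

namespace CfsgLib.Star

open Cfsg CfsgLib.BrP CfsgLib.Points

variable {k : Type*} [Field k] {G : Type*} [Group G] [Fintype G]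

/-- fixed points as a subalgebra -/
def fxAlg (k : Type*) [Field k] {G : Type*} [Group G] [Fintype G] (S : Subgroup G) :
    Subalgebra k (MonoidAlgebra k G) where
  carrier := {a | Fx S a}
  mul_mem' := fx_mul
  one_mem' := fx_one
  add_mem' := fx_add
  zero_mem' := fx_zero
  algebraMap_mem' := fun r => by
    rw [Algebra.algebraMap_eq_smul_one]
    exact fx_smul r fx_one

/-- primitive idempotent of `(kG)^S` -/
structure PS (S : Subgroup G) (j : MonoidAlgebra k G) : Prop where
  fx : Fx S j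
  idem : j * j = j
  ne : j ≠ 0
  prim : ∀ z, Fx S z → z * z = z → j * z = z → z * j = z → z = 0 ∨ z = j

theorem PS.toPrim {S : Subgroup G} {j : MonoidAlgebra k G} (h : PS S j) :
    Prim (⟨j, h.fx⟩ : fxAlg k S) :=
  ⟨Subtype.ext h.idem, fun h0 => h.ne (congrArg Subtype.val h0), fun z h1 h2 h3 => by
    rcases h.prim z.1 z.2 (congrArg Subtype.val h1) (congrArg Subtype.val h2)
      (congrArg Subtype.val h3) with h4 | h4
    · exact Or.inl (Subtype.ext h4)
    · exact Or.inr (Subtype.ext h4)⟩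

theorem ps_of_prim {S : Subgroup G} {j : fxAlg k S} (h : Prim j) :
    PS S (j : MonoidAlgebra k G) :=
  ⟨j.2, congrArg Subtype.val h.idem, fun h0 => h.ne (Subtype.ext h0), fun z hz h1 h2 h3 => by
    rcases h.prim ⟨z, hz⟩ (Subtype.ext h1) (Subtype.ext h2) (Subtype.ext h3) with h4 | h4
    · exact Or.inl (congrArg Subtype.val h4)
    · exact Or.inr (congrArg Subtype.val h4)⟩

theorem fx_pow {S : Subgroup G} {a : MonoidAlgebra k G} (ha : Fx S a) (n : ℕ) : Fx S (a ^ n) :=
  (fxAlg k S).pow_mem ha n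

theorem unit_or_nil' [IsAlgClosed k] {S : Subgroup G} {j y : MonoidAlgebra k G} (hj : PS S j)
    (hy : Fx S y) (h1 : j * y = y) (h2 : y * j = y) :
    IsNilpotent y ∨ ∃ w, Fx S w ∧ j * w = w ∧ w * j = w ∧ w * y = j ∧ y * w = j := by
  rcases unit_or_nil k hj.toPrim (y := ⟨y, hy⟩) ⟨Subtype.ext h1, Subtype.ext h2⟩ with h | h
  · left
    obtain ⟨n, hn⟩ := h
    refine ⟨n, ?_⟩
    have := congrArg Subtype.val hn
    simpa using this
  · right
    obtain ⟨w, hw, h3, h4⟩ := h
    exact ⟨w.1, w.2, congrArg Subtype.val hw.1, congrArg Subtype.val hw.2,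
      congrArg Subtype.val h3, congrArg Subtype.val h4⟩

theorem br_pow {p : ℕ} [Fact p.Prime] [CharP k p] {P : Subgroup G} (hP : IsPGroup p P)
    {a : MonoidAlgebra k G} (ha : Fx P a) (n : ℕ) : Br P (a ^ n) = Br P a ^ n := by
  induction n with
  | zero => rw [pow_zero, pow_zero, br_one]
  | succ n ih => rw [pow_succ, pow_succ, br_mul hP (fx_pow ha n) ha, ih]

theorem br_nilpotent {p : ℕ} [Fact p.Prime] [CharP k p] {P : Subgroup G} (hP : IsPGroup p P)
    {a : MonoidAlgebra k G} (ha : Fx P a) (h : IsNilpotent a) : IsNilpotent (Br P a) := by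
  obtain ⟨n, hn⟩ := h
  exact ⟨n, by rw [← br_pow hP ha, hn, br_zero]⟩

theorem eq_zero_of_idem_nil {A : Type*} [Ring A] {e : A} (h : e * e = e) (hn : IsNilpotent e) :
    e = 0 := by
  obtain ⟨n, hn⟩ := hn
  have h1 : ∀ n : ℕ, e ^ (n + 1) = e := by
    intro n
    induction n with
    | zero => simp
    | succ n ih => rw [pow_succ, ih, h]
  rw [← h1 n, pow_succ, hn, zero_mul]

variable {p : ℕ} [hp : Fact p.Prime] [CharP k p]

/-- the block of `C(S)` attached to a local primitive idempotent -/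
theorem exists_local_block [IsAlgClosed k] {S : Subgroup G} (hS : IsPGroup p S)
    {i : MonoidAlgebra k G} (hi : PS S i) (h0 : Br S i ≠ 0) :
    ∃ e, IsBlk (CH ⊤ S) e ∧ Br S i * e = Br S i := by
  obtain ⟨e, he, hne⟩ := exists_block_of_mul_ne (H := CH ⊤ S) h0
  refine ⟨e, he, ?_⟩
  have hsup : Supp (Subgroup.centralizer (S : Set G)) e := supp_mono inf_le_right he.zh.1
  have hefx : Fx S e := fx_of_supp_centralizer hsup
  have hbre : Br S e = e := br_eq_self hsup
  have hcomm : Br S i * e = e * Br S i := by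
    have h1 : Fx (CH ⊤ S) e := he.zh.2
    exact (comm_of_fx_supp h1 (by rw [show CH (⊤ : Subgroup G) S = Subgroup.centralizer (S : Set G) from top_inf_eq _]; exact supp_br_self S i)).symm
  set y := i * e * i with hy
  have hyf : Fx S y := fx_mul (fx_mul hi.fx hefx) hi.fx
  have hbi : Br S i * Br S i = Br S i := by rw [← br_mul hS hi.fx hi.fx, hi.idem]
  have hby : Br S y = Br S i * e := by
    rw [hy, br_mul hS (fx_mul hi.fx hefx) hi.fx, br_mul hS hi.fx hefx, hbre, hcomm, mul_assoc, hbi]
  rcases unit_or_nil' hi hyf (by rw [hy, ← mul_assoc, ← mul_assoc, hi.idem])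
    (by rw [hy, mul_assoc, hi.idem]) with h | ⟨w, hw, h1, h2, h3, h4⟩
  · exfalso
    have h5 := br_nilpotent hS hyf h
    rw [hby] at h5
    apply hne
    refine eq_zero_of_idem_nil ?_ h5
    rw [hcomm]
    calc e * Br S i * (e * Br S i) = e * (Br S i * e) * Br S i := by noncomm_ring
      _ = (e * e) * (Br S i * Br S i) := by rw [hcomm]; noncomm_ring
      _ = e * Br S i := by rw [he.idem, hbi]
  · have h5 := congrArg (Br S) h3
    rw [br_mul hS hw hyf, hby] at h5
    calc Br S i * e = Br S w * (Br S i * e) * e := by rw [h5]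
      _ = Br S w * (Br S i * (e * e)) := by noncomm_ring
      _ = Br S i := by rw [he.idem, h5]

omit [CharP k p] in
/-- lifting an element of `(kC(Q))^N` through the Brauer map by an element of the kernel of the
Brauer map at `S` -/
theorem tr_lift {S Q : Subgroup G} (hS : IsPGroup p S) (hQS : Q < S) {X : MonoidAlgebra k G}
    (hX : Supp (Subgroup.centralizer (Q : Set G)) X)
    (hN : Fx (S ⊓ Subgroup.normalizer (Q : Set G)) X)
    (h0 : ∀ T, Q < T → T ≤ S ⊓ Subgroup.normalizer (Q : Set G) → Br T X = 0) :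
    ∃ W, Fx S W ∧ Br Q W = X ∧ Br S W = 0 := by
  classical
  have key : ∀ h : G, X.coeff h ≠ 0 → ∀ x : G, x ∈ Q ↔ (x ∈ S ∧ x * h = h * x) := by
    intro h hh
    have hhQ : h ∈ Subgroup.centralizer (Q : Set G) := by
      by_contra hc; exact hh (hX h hc)
    set R : Subgroup G := S ⊓ Subgroup.centralizer ({h} : Set G) with hR
    have hQR : Q ≤ R := le_inf hQS.le (fun x hx => by
      rw [Subgroup.mem_centralizer_singleton_iff]
      exact Subgroup.mem_centralizer_iff.1 hhQ x hx)
    have hRQ : Q = R := by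
      by_contra hne
      have hlt := lt_of_le_of_ne hQR hne
      have hRp : IsPGroup p R := hS.to_le inf_le_left
      have h1 := CfsgLib.PSub.lt_normalizer_inf hRp hlt
      have h2 := h0 _ h1 (inf_le_inf_right _ inf_le_left)
      apply hh
      have h3 : h ∈ Subgroup.centralizer ((R ⊓ Subgroup.normalizer (Q : Set G) : Subgroup G) :
          Set G) := by
        rw [Subgroup.mem_centralizer_iff]
        intro x hx
        exact Subgroup.mem_centralizer_singleton_iff.1 hx.1.2
      rw [← br_coeff_of X h3, h2]; rfl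
    intro x
    rw [hRQ, hR, Subgroup.mem_inf, Subgroup.mem_centralizer_singleton_iff]
  have wd : ∀ g s s' : G, s ∈ S → s' ∈ S → X.coeff (s⁻¹ * g * s) ≠ 0 →
      X.coeff (s'⁻¹ * g * s') ≠ 0 → X.coeff (s⁻¹ * g * s) = X.coeff (s'⁻¹ * g * s') := by
    intro g s s' hs hs' h1 h2
    have hn : s'⁻¹ * s ∈ S := S.mul_mem (S.inv_mem hs') hs
    have hnN : s'⁻¹ * s ∈ Subgroup.normalizer (Q : Set G) := by
      rw [Subgroup.mem_normalizer_iff]
      intro x
      rw [key _ h1, key _ h2]
      have e1 : x ∈ S ↔ s'⁻¹ * s * x * (s'⁻¹ * s)⁻¹ ∈ S := by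
        rw [Subgroup.mul_mem_cancel_right _ (S.inv_mem hn), Subgroup.mul_mem_cancel_left _ hn]
      rw [← e1]
      refine and_congr_right fun _ => ?_
      constructor
      · intro h
        calc s'⁻¹ * s * x * (s'⁻¹ * s)⁻¹ * (s'⁻¹ * g * s') =
            s'⁻¹ * s * (x * (s⁻¹ * g * s)) * (s'⁻¹ * s)⁻¹ := by group
          _ = s'⁻¹ * s * ((s⁻¹ * g * s) * x) * (s'⁻¹ * s)⁻¹ := by rw [h]
          _ = _ := by group
      · intro h
        calc x * (s⁻¹ * g * s) = (s'⁻¹ * s)⁻¹ *
            (s'⁻¹ * s * x * (s'⁻¹ * s)⁻¹ * (s'⁻¹ * g * s')) * (s'⁻¹ * s) := by group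
          _ = (s'⁻¹ * s)⁻¹ * (s'⁻¹ * g * s' * (s'⁻¹ * s * x * (s'⁻¹ * s)⁻¹)) * (s'⁻¹ * s) := by
            rw [h]
          _ = _ := by group
    have h3 := hN _ ⟨hn, hnN⟩ (s⁻¹ * g * s)
    rw [← h3]
    congr 1
    group
  let W : MonoidAlgebra k G := mk fun g => if h : ∃ s ∈ S, X.coeff (s⁻¹ * g * s) ≠ 0 then
    X.coeff (h.choose⁻¹ * g * h.choose) else 0
  have hW1 : ∀ g s : G, s ∈ S → X.coeff (s⁻¹ * g * s) ≠ 0 →
      W.coeff g = X.coeff (s⁻¹ * g * s) := by
    intro g s hs hne
    have h : ∃ s ∈ S, X.coeff (s⁻¹ * g * s) ≠ 0 := ⟨s, hs, hne⟩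
    simp only [W, mk_coeff]
    rw [dif_pos h]
    exact wd g _ _ h.choose_spec.1 hs h.choose_spec.2 hne
  have hW0 : ∀ g : G, (∀ s ∈ S, X.coeff (s⁻¹ * g * s) = 0) → W.coeff g = 0 := by
    intro g hg
    have h : ¬ ∃ s ∈ S, X.coeff (s⁻¹ * g * s) ≠ 0 := by
      rintro ⟨s, hs, h⟩; exact h (hg s hs)
    simp only [W, mk_coeff]
    rw [dif_neg h]
  refine ⟨W, ?_, ?_, ?_⟩
  · intro x hx g
    by_cases h : ∃ s ∈ S, X.coeff (s⁻¹ * g * s) ≠ 0
    · obtain ⟨s, hs, hne⟩ := h
      have e1 : (x * s)⁻¹ * (x * g * x⁻¹) * (x * s) = s⁻¹ * g * s := by group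
      rw [hW1 g s hs hne, hW1 (x * g * x⁻¹) (x * s) (S.mul_mem hx hs) (by rw [e1]; exact hne), e1]
    · push Not at h
      rw [hW0 g h, hW0]
      intro s hs
      have e1 : s⁻¹ * (x * g * x⁻¹) * s = (x⁻¹ * s)⁻¹ * g * (x⁻¹ * s) := by group
      rw [e1]
      exact h _ (S.mul_mem (S.inv_mem hx) hs)
  · apply ext'
    intro g
    by_cases hg : g ∈ Subgroup.centralizer (Q : Set G)
    · rw [br_coeff_of _ hg]
      by_cases hX0 : X.coeff g = 0
      · rw [hX0]
        apply hW0
        intro s hs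
        by_contra hne
        -- C_S(g) = s Q s⁻¹ contains Q
        have hsN : s ∈ Subgroup.normalizer (Q : Set G) := by
          rw [mem_normalizer_iff_cS]
          refine (Subgroup.eq_of_le_of_card_ge (fun x hx => ?_) (by rw [card_cS])).symm
          rw [mem_cS, key _ hne]
          refine ⟨S.mul_mem (S.mul_mem (S.inv_mem hs) (hQS.le hx)) hs, ?_⟩
          have := Subgroup.mem_centralizer_iff.1 hg x hx
          calc s⁻¹ * x * s * (s⁻¹ * g * s) = s⁻¹ * (x * g) * s := by group
            _ = s⁻¹ * (g * x) * s := by rw [this]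
            _ = _ := by group
        apply hne
        have h3 := hN s⁻¹ ⟨S.inv_mem hs, Subgroup.inv_mem _ hsN⟩ g
        rw [inv_inv] at h3
        rw [h3, hX0]
      · have := hW1 g 1 S.one_mem (by simpa using hX0)
        simpa using this
    · rw [br_coeff_not _ hg, hX g hg]
  · apply ext'
    intro g
    by_cases hg : g ∈ Subgroup.centralizer (S : Set G)
    · rw [br_coeff_of _ hg, zero_coeff]
      apply hW0
      intro s hs
      by_contra hne
      apply hQS.not_ge
      intro x hx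
      rw [key _ hne]
      refine ⟨hx, ?_⟩
      have hgs : s⁻¹ * g * s = g := by
        have := Subgroup.mem_centralizer_iff.1 hg s hs
        calc s⁻¹ * g * s = s⁻¹ * (s * g) := by rw [this]; group
          _ = g := by group
      rw [hgs]
      exact Subgroup.mem_centralizer_iff.1 hg x hx
    · rw [br_coeff_not _ hg, zero_coeff]

theorem CH_top_eq (S : Subgroup G) : CH (⊤ : Subgroup G) S = Subgroup.centralizer (S : Set G) :=
  top_inf_eq _

omit hp [CharP k p] in
theorem br_comm_blk {Q : Subgroup G} {f : MonoidAlgebra k G} (hf : IsBlk (CH ⊤ Q) f)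
    (a : MonoidAlgebra k G) : Br Q a * f = f * Br Q a := by
  have h1 : Fx (CH ⊤ Q) f := hf.zh.2
  exact (comm_of_fx_supp h1 (by rw [CH_top_eq]; exact supp_br_self Q a)).symm

/-- **locality**: a local primitive idempotent of `(kG)^S` with block `e` lies under `e_Q` for all
`(Q, e_Q) ≤ (S, e)` -/
theorem local_le [IsAlgClosed k] {S : Subgroup G} (hS : IsPGroup p S)
    {i : MonoidAlgebra k G} (hi : PS S i) (h0 : Br S i ≠ 0) {e : MonoidAlgebra k G}
    (he : IsBlk (CH ⊤ S) e) (hie : Br S i * e = Br S i) (n : ℕ) :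
    ∀ Q : Subgroup G, Nat.card S - Nat.card Q ≤ n → Q ≤ S → ∀ f, LEp p ⊤ (Q, f) (S, e) →
      Br Q i * f = Br Q i := by
  have hbp : BP p ⊤ S e := ⟨le_top, hS, he⟩
  induction n with
  | zero =>
    intro Q hn hQS f hf
    have h1 : Nat.card S ≤ Nat.card Q := by omega
    have h2 : Q = S := Subgroup.eq_of_le_of_card_ge hQS h1
    subst h2
    have : f = e := LEp.unique hbp hf Relation.ReflTransGen.refl
    rw [this]; exact hie
  | succ n ih =>
    intro Q hn hQS f hf
    rcases eq_or_lt_of_le hQS with h | h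
    · subst h
      have : f = e := LEp.unique hbp hf Relation.ReflTransGen.refl
      rw [this]; exact hie
    have hbq : BP p ⊤ Q f := hf.bp_left hbp
    have hfx : Fx (S ⊓ Subgroup.normalizer (Q : Set G)) f := by
      rw [fx_iff]
      intro x hx
      have h1 := hf.cj' (x := x) (Subgroup.mem_top x)
      have h2 : cj x e = e := cj_eq_of_mem (fx_of_supp_centralizer
        (supp_mono inf_le_right he.zh.1)) hx.1
      simp only [cS_of_mem hx.1, cS_of_normalizer hx.2, h2] at h1
      exact LEp.unique hbp h1 hf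
    have hQp : IsPGroup p Q := hS.to_le hQS
    have hcomm := br_comm_blk hbq.blk i
    have hiQ : Fx Q i := fx_mono hQS hi.fx
    have hbi : Br Q i * Br Q i = Br Q i := by rw [← br_mul hQp hiQ hiQ, hi.idem]
    set X := Br Q i - Br Q i * f with hXdef
    have hXX : X * X = X := by
      have e1 : Br Q i * f * (Br Q i * f) = Br Q i * f := by
        calc Br Q i * f * (Br Q i * f) = Br Q i * (f * Br Q i) * f := by noncomm_ring
          _ = (Br Q i * Br Q i) * (f * f) := by rw [← hcomm]; noncomm_ring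
          _ = Br Q i * f := by rw [hbi, hbq.blk.idem]
      have e2 : Br Q i * (Br Q i * f) = Br Q i * f := by rw [← mul_assoc, hbi]
      have e3 : Br Q i * f * Br Q i = Br Q i * f := by rw [mul_assoc, ← hcomm, ← mul_assoc, hbi]
      rw [hXdef, sub_mul, mul_sub, mul_sub, hbi, e1, e2, e3, sub_self, sub_zero]
    have hbiN : Fx (S ⊓ Subgroup.normalizer (Q : Set G)) (Br Q i) :=
      fx_br inf_le_right (fx_mono inf_le_left hi.fx)
    have hXN : Fx (S ⊓ Subgroup.normalizer (Q : Set G)) X := fx_sub hbiN (fx_mul hbiN hfx)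
    have hXS : Supp (Subgroup.centralizer (Q : Set G)) X :=
      supp_sub (supp_br_self Q i) (supp_mul (supp_br_self Q i)
        (supp_mono inf_le_right hbq.blk.zh.1))
    have hXT : ∀ T, Q < T → T ≤ S ⊓ Subgroup.normalizer (Q : Set G) → Br T X = 0 := by
      intro T hQT hT
      have hTS : T ≤ S := hT.trans inf_le_left
      have hTp : IsPGroup p T := hS.to_le hTS
      obtain ⟨g, hg1, hg2⟩ := LEp.interpolate hbp hf hQT.le hTS
      have hbt : BP p ⊤ T g := hg2.bp_left hbp
      have hcard : Nat.card Q < Nat.card T := Set.Finite.card_lt_card (Set.toFinite _) hQT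
      have h1 := ih T (by omega) hTS g hg2
      have h2 := LEp.nrm hbt hg1 (hT.trans inf_le_right)
      have h3 : Br T (Br Q i) = Br T i := br_br hQT.le i
      have h4 : Br T (Br Q i * f) = Br T i * Br T f := by
        rw [br_mul hTp (fx_mono hT hbiN) (fx_mono hT hfx), h3]
      rw [hXdef, br_sub, h3, h4, sub_eq_zero]
      have h5 : Br T f * g = g * Br T f := br_comm_blk hbt.blk f
      calc Br T i = Br T i * g := h1.symm
        _ = Br T i * (g * Br T f) := by rw [← h5, h2.br]
        _ = Br T i * g * Br T f := by rw [mul_assoc]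
        _ = Br T i * Br T f := by rw [h1]
    obtain ⟨W, hWS, hWQ, hW0⟩ := tr_lift hS h hXS hXN hXT
    have hyf : Fx S (i * W * i) := fx_mul (fx_mul hi.fx hWS) hi.fx
    have hby : Br Q (i * W * i) = X := by
      rw [br_mul hQp (fx_mul hiQ (fx_mono hQS hWS)) hiQ, br_mul hQp hiQ (fx_mono hQS hWS), hWQ]
      have e1 : Br Q i * X = X := by
        rw [hXdef, mul_sub, ← mul_assoc, hbi]
      have e2 : X * Br Q i = X := by
        rw [hXdef, sub_mul, mul_assoc, ← hcomm, ← mul_assoc, hbi]
      rw [e1, e2]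
    rcases unit_or_nil' hi hyf (by rw [← mul_assoc, ← mul_assoc, hi.idem])
      (by rw [mul_assoc, hi.idem]) with h5 | ⟨w, hw, h6, h7, h8, h9⟩
    · have h10 := br_nilpotent hQp (fx_mono hQS hyf) h5
      rw [hby] at h10
      have h11 := eq_zero_of_idem_nil hXX h10
      rw [hXdef, sub_eq_zero] at h11
      exact h11.symm
    · exfalso
      apply h0
      have h10 := congrArg (Br S) h8
      rw [br_mul hS hw hyf, br_mul hS (fx_mul hi.fx hWS) hi.fx, br_mul hS hi.fx hWS, hW0,
        mul_zero, zero_mul, mul_zero] at h10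
      exact h10.symm

end CfsgLib.Star
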