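import Mathlib
import Cfsg.Agent.EqBase
import Cfsg.Agent.LibStar6

/-!
# Star construction, VII: non-local primitive idempotents are traces (helper18)
-/

set_option autoImplicit false
set_option linter.unusedSectionVars false
set_option linter.style.haveILetI false
set_option linter.unusedSimpArgs false
set_option linter.unusedVariables false

namespace CfsgLib.Star

open Cfsg CfsgLib.BrP CfsgLib.Points

section Grp

variable {G : Type*} [Group G] [Finite G] {p : ℕ} [hp : Fact p.Prime]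

/-- proper subgroups of a `p`-group lie in normal subgroups of index `p` -/
theorem exists_max {S C : Subgroup G} (hS : IsPGroup p S) (hC : C < S) :
    ∃ Q : Subgroup G, C ≤ Q ∧ Q < S ∧ S ≤ Subgroup.normalizer (Q : Set G) ∧
      Nat.card S = p * Nat.card Q := by
  obtain ⟨a, ha⟩ := IsPGroup.iff_card.1 hS
  have hCS : IsPGroup p (C.subgroupOf S) := hS.to_subgroup _
  obtain ⟨n, hn⟩ := IsPGroup.iff_card.1 hCS
  have hlt : Nat.card (C.subgroupOf S) < Nat.card S := by
    rw [Nat.card_congr (Subgroup.subgroupOfEquivOfLe hC.le).toEquiv]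
    exact Set.Finite.card_lt_card (Set.toFinite _) hC
  rw [hn, ha] at hlt
  have hna : n < a := (Nat.pow_lt_pow_iff_right hp.out.one_lt).1 hlt
  obtain ⟨b, rfl⟩ : ∃ b, a = b + 1 := ⟨a - 1, by omega⟩
  obtain ⟨K, hK1, hK2⟩ := Sylow.exists_subgroup_card_pow_prime_le p (n := n) (m := b)
    (by rw [ha]; exact pow_dvd_pow p (Nat.le_succ b)) (C.subgroupOf S) hn (by omega)
  have hidx : K.index = p := by
    have h1 := K.card_mul_index
    rw [hK1, ha, pow_succ] at h1
    exact Nat.eq_of_mul_eq_mul_left (pow_pos hp.out.pos b) h1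
  have hnorm : K.Normal := by
    apply Subgroup.normal_of_index_eq_minFac_card
    rw [hidx, ha, Nat.Prime.pow_minFac hp.out (Nat.succ_ne_zero b)]
  have hcard : Nat.card (K.map S.subtype) = p ^ b := by
    rw [← hK1]
    exact Nat.card_congr (K.equivMapOfInjective S.subtype S.subtype_injective).symm.toEquiv
  refine ⟨K.map S.subtype, ?_, ?_, ?_, ?_⟩
  · intro x hx
    exact ⟨⟨x, hC.le hx⟩, hK2 hx, rfl⟩
  · refine lt_of_le_of_ne (Subgroup.map_subtype_le K) fun h => ?_
    rw [h, ha] at hcard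
    have := Nat.pow_right_injective hp.out.two_le hcard
    omega
  · intro x hx
    rw [Subgroup.mem_normalizer_iff]
    intro y
    constructor
    · rintro ⟨y, hy, rfl⟩
      exact ⟨⟨x, hx⟩ * y * ⟨x, hx⟩⁻¹, hnorm.conj_mem y hy ⟨x, hx⟩, rfl⟩
    · rintro ⟨z, hz, h⟩
      refine ⟨⟨x, hx⟩⁻¹ * z * ⟨x, hx⟩, ?_, ?_⟩
      · have := hnorm.conj_mem z hz (⟨x, hx⟩⁻¹)
        simpa using this
      · have h' : (z : G) = x * y * x⁻¹ := h
        show x⁻¹ * (z : G) * x = y
        rw [h']; group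
  · rw [hcard, ha, pow_succ, mul_comm]

/-- cosets of a normal subgroup of index `p` -/
theorem coset_cyc {S Q : Subgroup G} (hS : IsPGroup p S) (hQS : Q < S)
    (hcard : Nat.card S = p * Nat.card Q) {c : G} (hc : c ∈ S) (hcQ : c ∉ Q) :
    (∀ s ∈ S, ∃ r ∈ Finset.range p, (c ^ r)⁻¹ * s ∈ Q) ∧
    ∀ r ∈ Finset.range p, ∀ r' ∈ Finset.range p, ∀ s, (c ^ r)⁻¹ * s ∈ Q → (c ^ r')⁻¹ * s ∈ Q →
      r = r' := by
  classical
  have hpow : ∀ m : ℤ, ¬ (p : ℤ) ∣ m → c ^ m ∉ Q := by
    intro m hm hmQ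
    apply hcQ
    obtain ⟨j, hj⟩ := IsPGroup.iff_orderOf.1 hS ⟨c, hc⟩
    have hj' : orderOf c = p ^ j := by rw [← hj, ← Subgroup.orderOf_coe]
    have hcop : IsCoprime m ((orderOf c : ℕ) : ℤ) := by
      rw [hj', Nat.cast_pow]
      apply IsCoprime.pow_right
      rw [isCoprime_comm]
      exact (Nat.prime_iff_prime_int.1 hp.out).coprime_iff_not_dvd.2 hm
    obtain ⟨a, b, hab⟩ := hcop
    have h1 : (c ^ m) ^ a = c := by
      rw [← zpow_mul, show m * a = 1 - b * (orderOf c : ℤ) by linear_combination hab,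
        zpow_sub, zpow_one, mul_comm b, zpow_mul, zpow_natCast, pow_orderOf_eq_one, one_zpow,
        inv_one, mul_one]
    rw [← h1]
    exact Q.zpow_mem hmQ a
  have huniq : ∀ r ∈ Finset.range p, ∀ r' ∈ Finset.range p, ∀ s, (c ^ r)⁻¹ * s ∈ Q →
      (c ^ r')⁻¹ * s ∈ Q → r = r' := by
    intro r hr r' hr' s h1 h2
    by_contra hne
    rw [Finset.mem_range] at hr hr'
    apply hpow ((r : ℤ) - r')
    · intro hd
      have h3 : |(r : ℤ) - r'| < p := by
        rw [abs_lt]; constructor <;> omega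
      have h4 := Int.eq_zero_of_abs_lt_dvd hd h3
      omega
    · have h3 := Q.mul_mem h2 (Q.inv_mem h1)
      have h4 : (c ^ r')⁻¹ * s * ((c ^ r)⁻¹ * s)⁻¹ = c ^ ((r : ℤ) - r') := by
        rw [zpow_sub, zpow_natCast, zpow_natCast]
        have : Commute (c ^ r) (c ^ r')⁻¹ := ((Commute.refl c).pow_pow r r').inv_right
        calc (c ^ r')⁻¹ * s * ((c ^ r)⁻¹ * s)⁻¹ = (c ^ r')⁻¹ * c ^ r := by group
          _ = c ^ r * (c ^ r')⁻¹ := this.symm.eq
      rwa [h4] at h3
  refine ⟨fun s hs => ?_, huniq⟩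
  have hquot : Nat.card (S ⧸ Q.subgroupOf S) = p := by
    have h1 := (Q.subgroupOf S).card_mul_index
    rw [Nat.card_congr (Subgroup.subgroupOfEquivOfLe hQS.le).toEquiv, hcard, mul_comm p] at h1
    exact Nat.eq_of_mul_eq_mul_left Nat.card_pos h1
  let f : Fin p → S ⧸ Q.subgroupOf S := fun r => QuotientGroup.mk (⟨c, hc⟩ ^ (r : ℕ))
  have hf : Function.Injective f := by
    intro r r' h
    apply Fin.ext
    have h1 := QuotientGroup.eq.1 h
    rw [Subgroup.mem_subgroupOf] at h1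
    refine huniq r (Finset.mem_range.2 r.2) r' (Finset.mem_range.2 r'.2) (c ^ (r' : ℕ)) ?_ ?_
    · exact h1
    · rw [inv_mul_cancel]; exact Q.one_mem
  have hbij := Function.Injective.bijective_of_nat_card_le hf (by
    rw [hquot, Nat.card_fin])
  obtain ⟨r, hr⟩ := hbij.2 (QuotientGroup.mk ⟨s, hs⟩)
  refine ⟨r, Finset.mem_range.2 r.2, ?_⟩
  have h1 := QuotientGroup.eq.1 hr
  exact h1

end Grp

variable {k : Type*} [Field k] {G : Type*} [Group G] [Fintype G]

open Classical in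
/-- orbit sum -/
noncomputable def orb (k : Type*) [Field k] {G : Type*} [Group G] [Fintype G]
    (T : Subgroup G) (g : G) : MonoidAlgebra k G :=
  mk fun h => if ∃ s ∈ T, h = s * g * s⁻¹ then 1 else 0

theorem orb_of {T : Subgroup G} {g h : G} (hh : ∃ s ∈ T, h = s * g * s⁻¹) :
    (orb k T g).coeff h = 1 := by
  unfold orb; rw [mk_coeff, if_pos hh]

theorem orb_not {T : Subgroup G} {g h : G} (hh : ¬ ∃ s ∈ T, h = s * g * s⁻¹) :
    (orb k T g).coeff h = 0 := by
  unfold orb; rw [mk_coeff, if_neg hh]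

theorem fx_orb (T : Subgroup G) (g : G) : Fx T (orb k T g) := by
  intro x hx h
  have key : (∃ s ∈ T, x * h * x⁻¹ = s * g * s⁻¹) ↔ ∃ s ∈ T, h = s * g * s⁻¹ := by
    constructor
    · rintro ⟨s, hs, h1⟩
      refine ⟨x⁻¹ * s, T.mul_mem (T.inv_mem hx) hs, ?_⟩
      have : h = x⁻¹ * (x * h * x⁻¹) * x := by group
      rw [this, h1]; group
    · rintro ⟨s, hs, rfl⟩
      exact ⟨x * s, T.mul_mem hx hs, by group⟩
  by_cases hh : ∃ s ∈ T, h = s * g * s⁻¹
  · rw [orb_of hh, orb_of (key.2 hh)]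
  · rw [orb_not hh, orb_not fun h' => hh (key.1 h')]

variable {p : ℕ} [hp : Fact p.Prime]

theorem orb_trace {S Q : Subgroup G} (hS : IsPGroup p S) (hQS : Q < S)
    (hcard : Nat.card S = p * Nat.card Q) {c : G} (hc : c ∈ S) (hcQ : c ∉ Q) {g : G}
    (hg : ∀ x ∈ S, x * g = g * x → x ∈ Q) :
    orb k S g = ∑ r ∈ Finset.range p, cj (c ^ r) (orb k Q g) := by
  classical
  obtain ⟨h1, h2⟩ := coset_cyc hS hQS hcard hc hcQ
  apply ext'
  intro h
  rw [sum_coeff]
  by_cases hh : ∃ s ∈ S, h = s * g * s⁻¹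
  · rw [orb_of hh]
    obtain ⟨s, hs, rfl⟩ := hh
    obtain ⟨r, hr, hrs⟩ := h1 s hs
    rw [Finset.sum_eq_single r]
    · rw [cj_coeff, orb_of ⟨(c ^ r)⁻¹ * s, hrs, by group⟩]
    · intro r' hr' hne
      rw [cj_coeff]
      apply orb_not
      rintro ⟨q, hq, h3⟩
      apply hne
      refine h2 r' hr' r hr s ?_ hrs
      have h4 : s⁻¹ * c ^ r' * q ∈ Q := by
        apply hg _ (S.mul_mem (S.mul_mem (S.inv_mem hs) (S.pow_mem hc r')) (hQS.le hq))
        calc s⁻¹ * c ^ r' * q * g = s⁻¹ * c ^ r' * (q * g * q⁻¹) * q := by group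
          _ = s⁻¹ * c ^ r' * ((c ^ r')⁻¹ * (s * g * s⁻¹) * c ^ r') * q := by rw [h3]
          _ = _ := by group
      have h5 := Q.inv_mem (Q.mul_mem h4 (Q.inv_mem hq))
      have h6 : (s⁻¹ * c ^ r' * q * q⁻¹)⁻¹ = (c ^ r')⁻¹ * s := by group
      rwa [h6] at h5
    · intro h'; exact absurd hr h'
  · rw [orb_not hh]
    symm
    refine Finset.sum_eq_zero fun r hr => ?_
    rw [cj_coeff]
    apply orb_not
    rintro ⟨q, hq, h3⟩
    apply hh
    refine ⟨c ^ r * q, S.mul_mem (S.pow_mem hc r) (hQS.le hq), ?_⟩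
    have : h = c ^ r * ((c ^ r)⁻¹ * h * c ^ r) * (c ^ r)⁻¹ := by group
    rw [this, h3]; group

/-- fixed elements are combinations of orbit sums -/
theorem eq_sum_orb (S : Subgroup G) {a : MonoidAlgebra k G} (ha : Fx S a) :
    ∃ R : Finset G, a = ∑ g ∈ R, a.coeff g • orb k S g := by
  classical
  let st : Setoid G :=
    { r := fun g h => ∃ s ∈ S, h = s * g * s⁻¹
      iseqv := ⟨fun g => ⟨1, S.one_mem, by group⟩,
        fun {g h} ⟨s, hs, e⟩ => ⟨s⁻¹, S.inv_mem hs, by rw [e]; group⟩,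
        fun {g h l} ⟨s, hs, e⟩ ⟨t, ht, e'⟩ => ⟨t * s, S.mul_mem ht hs, by rw [e', e]; group⟩⟩ }
  letI : Fintype (Quotient st) := Fintype.ofFinite _
  refine ⟨(Finset.univ : Finset (Quotient st)).image Quotient.out, ?_⟩
  apply ext'
  intro h
  rw [sum_coeff, Finset.sum_image (fun x _ y _ hxy => by
    rw [← Quotient.out_eq x, hxy, Quotient.out_eq])]
  have hq : st.r (Quotient.out (Quotient.mk st h)) h := Quotient.mk_out (s := st) h
  rw [Finset.sum_eq_single (Quotient.mk st h)]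
  · rw [smul_coeff, orb_of hq, mul_one]
    obtain ⟨s, hs, e⟩ := hq
    conv_lhs => rw [e]
    exact ha s hs _
  · intro q _ hne
    rw [smul_coeff, orb_not, mul_zero]
    intro hr
    apply hne
    rw [← Quotient.out_eq q]
    exact Quotient.sound hr
  · intro h'; exact absurd (Finset.mem_univ _) h'

theorem cj_eq_fx {S : Subgroup G} {a : MonoidAlgebra k G} (ha : Fx S a) {x : G} (hx : x ∈ S) :
    cj x a = a := fx_iff.1 ha x hx

theorem cj_smul (x : G) (c : k) (a : MonoidAlgebra k G) : cj x (c • a) = c • cj x a := by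
  apply ext'
  intro g
  rw [cj_coeff, smul_coeff, smul_coeff, cj_coeff]

/-- a primitive idempotent of `(kG)^S` killed by `Br_S` is a trace from a normal subgroup of index
`p` -/
theorem nonlocal [CharP k p] [IsAlgClosed k] {S : Subgroup G} (hS : IsPGroup p S)
    {i : MonoidAlgebra k G} (hi : PS S i) (h0 : Br S i = 0) :
    ∃ Q : Subgroup G, Q < S ∧ S ≤ Subgroup.normalizer (Q : Set G) ∧
      Nat.card S = p * Nat.card Q ∧ ∃ z, Fx Q z ∧ ∀ c ∈ S, c ∉ Q →
        i = ∑ r ∈ Finset.range p, cj (c ^ r) z := by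
  classical
  obtain ⟨R, hR⟩ := eq_sum_orb S hi.fx
  have hyf : ∀ g, Fx S (i * (i.coeff g • orb k S g) * i) := fun g =>
    fx_mul (fx_mul hi.fx (fx_smul _ (fx_orb S g))) hi.fx
  have hsum : ∑ g ∈ R, i * (i.coeff g • orb k S g) * i = i := by
    rw [← Finset.sum_mul, ← Finset.mul_sum, ← hR, hi.idem, hi.idem]
  have hex : ∃ g ∈ R, ¬ IsNilpotent (i * (i.coeff g • orb k S g) * i) := by
    by_contra hcon
    push Not at hcon
    have h1 : ∀ R' : Finset G, R' ⊆ R →
        IsNilpotent (∑ g ∈ R', (⟨i * (i.coeff g • orb k S g) * i, hyf g⟩ : fxAlg k S)) := by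
      intro R'
      induction R' using Finset.induction_on with
      | empty => intro _; simpa using IsNilpotent.zero
      | insert a s ha ih =>
        intro hsub
        rw [Finset.sum_insert ha]
        have hcor : ∀ g, Cor (⟨i, hi.fx⟩ : fxAlg k S)
            ⟨i * (i.coeff g • orb k S g) * i, hyf g⟩ := fun g =>
          ⟨Subtype.ext (by
            show i * (i * (i.coeff g • orb k S g) * i) = _
            rw [← mul_assoc, ← mul_assoc, hi.idem]),
            Subtype.ext (by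
            show i * (i.coeff g • orb k S g) * i * i = _
            rw [mul_assoc, hi.idem])⟩
        refine nil_add k hi.toPrim (hcor a) ?_ ?_
          (ih fun x hx => hsub (Finset.mem_insert_of_mem hx))
        · exact ⟨by rw [Finset.mul_sum]; exact Finset.sum_congr rfl fun g _ => (hcor g).1,
            by rw [Finset.sum_mul]; exact Finset.sum_congr rfl fun g _ => (hcor g).2⟩
        · obtain ⟨n, hn⟩ := hcon a (hsub (Finset.mem_insert_self a s))
          exact ⟨n, Subtype.ext (by simpa using hn)⟩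
    have h2 := h1 R (Finset.Subset.refl R)
    apply hi.toPrim.not_nilpotent
    have h3 : (∑ g ∈ R, (⟨i * (i.coeff g • orb k S g) * i, hyf g⟩ : fxAlg k S)) =
        ⟨i, hi.fx⟩ := by
      apply Subtype.ext
      rw [AddSubmonoidClass.coe_finset_sum]
      exact hsum
    rwa [h3] at h2
  obtain ⟨g, hgR, hg⟩ := hex
  obtain ⟨w, hw, h1, h2, h3, h4⟩ := (unit_or_nil' hi (hyf g) (by
      rw [← mul_assoc, ← mul_assoc, hi.idem]) (by rw [mul_assoc, hi.idem])).resolve_left hg
  have hg0 : i.coeff g ≠ 0 := by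
    intro h; apply hg
    rw [h, zero_smul, mul_zero, zero_mul]
    exact IsNilpotent.zero
  have hC : S ⊓ Subgroup.centralizer ({g} : Set G) < S := by
    refine lt_of_le_of_ne inf_le_left fun h => hg0 ?_
    have hgS : g ∈ Subgroup.centralizer (S : Set G) := by
      rw [Subgroup.mem_centralizer_iff]
      intro x hx
      have hx' : x ∈ S ⊓ Subgroup.centralizer ({g} : Set G) := by rw [h]; exact hx
      exact Subgroup.mem_centralizer_singleton_iff.1 hx'.2
    rw [← br_coeff_of i hgS, h0]; rfl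
  obtain ⟨Q, hCQ, hQS, hN, hcard⟩ := exists_max hS hC
  refine ⟨Q, hQS, hN, hcard, w * (i * (i.coeff g • orb k Q g) * i), ?_, ?_⟩
  · have hiQ := fx_mono hQS.le hi.fx
    exact fx_mul (fx_mono hQS.le hw) (fx_mul (fx_mul hiQ (fx_smul _ (fx_orb Q g))) hiQ)
  · intro c hc hcQ
    have h5 := orb_trace (k := k) hS hQS hcard hc hcQ (g := g) (fun x hx hxg =>
      hCQ ⟨hx, Subgroup.mem_centralizer_singleton_iff.2 hxg⟩)
    calc i = w * (i * (i.coeff g • orb k S g) * i) := h3.symm
      _ = w * (i * (i.coeff g • ∑ r ∈ Finset.range p, cj (c ^ r) (orb k Q g)) * i) := by rw [h5]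
      _ = ∑ r ∈ Finset.range p, w * (i * (i.coeff g • cj (c ^ r) (orb k Q g)) * i) := by
          rw [Finset.smul_sum, Finset.mul_sum, Finset.sum_mul, Finset.mul_sum]
      _ = _ := Finset.sum_congr rfl fun r _ => by
          have hcr := S.pow_mem hc r
          rw [cj_mul, cj_mul, cj_mul, cj_smul, cj_eq_fx hw hcr, cj_eq_fx hi.fx hcr]

end CfsgLib.Star
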