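import Mathlib
import Cfsg.Agent.EqBase
import Cfsg.Agent.LibStar7
import Cfsg.Agent.LibPLocalInd

/-!
# Star construction, VIII: the local functions are combinations of characters (helper18)
-/

set_option autoImplicit false
set_option linter.unusedSectionVars false
set_option linter.style.haveILetI false
set_option linter.unusedSimpArgs false
set_option linter.unusedVariables false

namespace CfsgLib.Star

open Cfsg CfsgLib.BrP CfsgLib.Points CfsgLib.PLocalInd CfsgLib.CharBasic

/-- sums over classes whose size is divisible by `p` -/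
theorem sum_class {M : Ideal AlgInt} (hM : M.IsPrime) {S : Type*} [Group S] [Fintype S] {p : ℕ}
    {α : Type*} [DecidableEq α] (v : α → S → ℂ) (r : α → α → Prop) (hv : ∀ j j', r j j' → v j = v j')
    (n : ℕ) : ∀ J : Finset α, J.card ≤ n → (∀ j ∈ J, r j j) → (∀ j ∈ J, ∀ j' ∈ J, r j j' → r j' j) →
    (∀ j ∈ J, ∀ j' ∈ J, ∀ j'' ∈ J, r j j' → r j' j'' → r j j'') →
    (∀ j ∈ J, open Classical in p ∣ (J.filter (r j)).card) → (∀ j ∈ J, RComb M (v j)) →
    ∃ w : S → ℂ, RComb M w ∧ ∑ j ∈ J, v j = (p : ℂ) • w := by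
  classical
  induction n with
  | zero =>
    intro J hn _ _ _ _ _
    have : J = ∅ := Finset.card_eq_zero.1 (by omega)
    subst this
    exact ⟨0, rcomb_zero hM, by simp⟩
  | succ n ih =>
    intro J hn hr hs ht hc hR
    rcases J.eq_empty_or_nonempty with h | ⟨j, hj⟩
    · subst h; exact ⟨0, rcomb_zero hM, by simp⟩
    have hsub : J.filter (fun x => ¬ r j x) ⊆ J := Finset.filter_subset _ _
    have hcard : (J.filter (fun x => ¬ r j x)).card ≤ n := by
      have : (J.filter (fun x => ¬ r j x)).card < J.card := by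
        apply Finset.card_lt_card
        rw [Finset.filter_ssubset]
        exact ⟨j, hj, fun h => h (hr j hj)⟩
      omega
    obtain ⟨w, hw, hsum⟩ := ih _ hcard (fun x hx => hr x (hsub hx))
      (fun x hx y hy => hs x (hsub hx) y (hsub hy))
      (fun x hx y hy z hz => ht x (hsub hx) y (hsub hy) z (hsub hz)) (fun x hx => by
        have h1 : (J.filter (fun x => ¬ r j x)).filter (r x) = J.filter (r x) := by
          rw [Finset.filter_filter]
          apply Finset.filter_congr
          intro y hy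
          constructor
          · rintro ⟨_, h⟩; exact h
          · intro h
            refine ⟨fun h' => ?_, h⟩
            rw [Finset.mem_filter] at hx
            exact hx.2 (ht j hj y hy x hx.1 h' (hs x hx.1 y hy h))
        rw [h1]
        exact hc x (hsub hx)) (fun x hx => hR x (hsub hx))
    obtain ⟨m, hm⟩ := hc j hj
    refine ⟨(m : ℂ) • v j + w, rcomb_add hM (rcomb_smul hM
      (by exact LocR.memR_natCast m) (hR j hj)) hw, ?_⟩
    rw [← Finset.sum_filter_add_sum_filter_not J (r j), hsum, smul_add]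
    congr 1
    rw [Finset.sum_congr rfl (fun x hx => (hv j x (Finset.mem_filter.1 hx).2).symm),
      Finset.sum_const, hm, ← Nat.cast_smul_eq_nsmul ℂ, smul_smul]
    push_cast
    rfl

section

variable {M : Ideal AlgInt} [hPr : M.IsPrime] {G : Type*} [Group G] [Fintype G]

/-- the block idempotents of `kH` -/
noncomputable def bl (k : Type*) [Field k] {G : Type*} [Group G] [Fintype G] (H : Subgroup G) :
    Finset (MonoidAlgebra k G) := (exists_blocks (k := k) H).choose

theorem mem_bl {k : Type*} [Field k] {G : Type*} [Group G] [Fintype G] {H : Subgroup G}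
    {e : MonoidAlgebra k G} : e ∈ bl k H ↔ IsBlk H e :=
  ⟨(exists_blocks (k := k) H).choose_spec.1 e, fun h =>
    h.mem_of_sum_one (exists_blocks (k := k) H).choose_spec.1
      (exists_blocks (k := k) H).choose_spec.2⟩

theorem sum_bl (k : Type*) [Field k] {G : Type*} [Group G] [Fintype G] (H : Subgroup G) :
    ∑ e ∈ bl k H, e = 1 := (exists_blocks (k := k) H).choose_spec.2

/-- the twisted trace function -/
noncomputable def FF (χ : G → ℂ) (Hf : G → MonoidAlgebra (kM M) G → ℂ)
    (ε : MonoidAlgebra (kM M) G) (u : G) : ℂ :=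
  ∑ e ∈ bl (kM M) (CH ⊤ (Subgroup.zpowers u)), Hf u e * tau χ u (Br (Subgroup.zpowers u) ε * e)

variable {p : ℕ} [hp : Fact p.Prime]

theorem fx_blk {T : Subgroup G} {e : MonoidAlgebra (kM M) G} (he : IsBlk (CH ⊤ T) e) : Fx T e :=
  fx_of_supp_centralizer (supp_mono inf_le_right he.zh.1)

theorem br_mul_idem [CharP (kM M) p] {T : Subgroup G} (hT : IsPGroup p T)
    {x e : MonoidAlgebra (kM M) G}
    (hx : Fx T x) (hxx : x * x = x) (he : IsBlk (CH ⊤ T) e) :
    Fx T (Br T x * e) ∧ (Br T x * e) * (Br T x * e) = Br T x * e := by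
  refine ⟨fx_mul (fx_br Subgroup.le_normalizer hx) (fx_blk he), ?_⟩
  have h1 := br_comm_blk he x
  have h2 : Br T x * Br T x = Br T x := by rw [← br_mul hT hx hx, hxx]
  calc Br T x * e * (Br T x * e) = Br T x * (e * Br T x) * e := by noncomm_ring
    _ = (Br T x * Br T x) * (e * e) := by rw [← h1]; noncomm_ring
    _ = Br T x * e := by rw [h2, he.idem]

theorem FF_zero (hM : IsPModular p M) {χ : G → ℂ} (hχ : IsClassFunction G χ)
    {Hf : G → MonoidAlgebra (kM M) G → ℂ} {ε : MonoidAlgebra (kM M) G} {u : G}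
    (hu : ∃ j : ℕ, orderOf u = p ^ j) (h : Br (Subgroup.zpowers u) ε = 0) :
    FF χ Hf ε u = 0 := by
  unfold FF
  refine Finset.sum_eq_zero fun e _ => ?_
  rw [h, zero_mul, tau_zero hM hχ hu (br_zero _), mul_zero]

theorem FF_sum (hM : IsPModular p M) {χ : G → ℂ} (hχ : IsClassFunction G χ)
    {Hf : G → MonoidAlgebra (kM M) G → ℂ} {u : G}
    (hu : ∃ j : ℕ, orderOf u = p ^ j) {ι : Type*} (s : Finset ι)
    (f : ι → MonoidAlgebra (kM M) G) (hf : ∀ i ∈ s, Fx (Subgroup.zpowers u) (f i))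
    (hff : ∀ i ∈ s, f i * f i = f i) (ho : ∀ i ∈ s, ∀ j ∈ s, i ≠ j → f i * f j = 0) :
    FF χ Hf (∑ i ∈ s, f i) u = ∑ i ∈ s, FF χ Hf (f i) u := by
  haveI := charP_kM hM
  have hT := isPGroup_zp hu
  unfold FF
  rw [Finset.sum_comm]
  refine Finset.sum_congr rfl fun e he => ?_
  rw [mem_bl] at he
  rw [← Finset.mul_sum, br_sum, Finset.sum_mul, tau_sum hM hχ hu s _
    (fun i hi => (br_mul_idem hT (hf i hi) (hff i hi) he).1)
    (fun i hi => (br_mul_idem hT (hf i hi) (hff i hi) he).2)]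
  intro i hi j hj hij
  have h1 := br_comm_blk he (f j)
  calc Br _ (f i) * e * (Br _ (f j) * e) = Br _ (f i) * (e * Br _ (f j)) * e := by noncomm_ring
    _ = (Br _ (f i) * Br _ (f j)) * (e * e) := by rw [← h1]; noncomm_ring
    _ = 0 := by rw [← br_mul hT (hf i hi) (hf j hj), ho i hi j hj hij, br_zero, zero_mul]

theorem FF_iso (hM : IsPModular p M) {χ : G → ℂ} (hχ : IsClassFunction G χ)
    {Hf : G → MonoidAlgebra (kM M) G → ℂ} {u : G}
    (hu : ∃ j : ℕ, orderOf u = p ^ j) {j l x y : MonoidAlgebra (kM M) G}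
    (hj : Fx (Subgroup.zpowers u) j) (hl : Fx (Subgroup.zpowers u) l)
    (hx : Fx (Subgroup.zpowers u) x) (hy : Fx (Subgroup.zpowers u) y)
    (hjj : j * j = j) (hll : l * l = l)
    (h1 : j * x = x) (h2 : x * l = x) (h3 : l * y = y) (h4 : y * j = y) (h5 : x * y = j)
    (h6 : y * x = l) : FF χ Hf j u = FF χ Hf l u := by
  haveI := charP_kM hM
  have hT := isPGroup_zp hu
  unfold FF
  refine Finset.sum_congr rfl fun e he => ?_
  rw [mem_bl] at he
  congr 1
  have hc : ∀ a : MonoidAlgebra (kM M) G, Br (Subgroup.zpowers u) a * e =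
      e * Br (Subgroup.zpowers u) a := fun a => br_comm_blk he a
  have hm : ∀ {a b c : MonoidAlgebra (kM M) G}, Fx (Subgroup.zpowers u) a →
      Fx (Subgroup.zpowers u) b → a * b = c →
      Br (Subgroup.zpowers u) a * e * (Br (Subgroup.zpowers u) b * e) =
        Br (Subgroup.zpowers u) c * e := by
    intro a b c ha hb hab
    calc Br (Subgroup.zpowers u) a * e * (Br (Subgroup.zpowers u) b * e) =
        Br (Subgroup.zpowers u) a * (e * Br (Subgroup.zpowers u) b) * e := by noncomm_ring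
      _ = (Br (Subgroup.zpowers u) a * Br (Subgroup.zpowers u) b) * (e * e) := by
          rw [← hc b]; noncomm_ring
      _ = _ := by rw [← br_mul hT ha hb, hab, he.idem]
  exact tau_comm hM hχ hu (br_mul_idem hT hj hjj he).1 (br_mul_idem hT hl hll he).1
    (br_mul_idem hT hj hjj he).2 (br_mul_idem hT hl hll he).2
    (fx_mul (fx_br Subgroup.le_normalizer hx) (fx_blk he))
    (fx_mul (fx_br Subgroup.le_normalizer hy) (fx_blk he))
    (hm hj hx h1) (hm hx hl h2) (hm hl hy h3) (hm hy hj h4) (hm hx hy h5) (hm hy hx h6)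

theorem FF_local (hM : IsPModular p M) {χ : G → ℂ} (hχ : IsClassFunction G χ)
    {Hf : G → MonoidAlgebra (kM M) G → ℂ} {u : G}
    (hu : ∃ j : ℕ, orderOf u = p ^ j) {ε f : MonoidAlgebra (kM M) G}
    (hf : IsBlk (CH ⊤ (Subgroup.zpowers u)) f)
    (h : Br (Subgroup.zpowers u) ε * f = Br (Subgroup.zpowers u) ε) :
    FF χ Hf ε u = Hf u f * tau χ u ε := by
  classical
  unfold FF
  rw [Finset.sum_eq_single f]
  · rw [h, tau_br]
  · intro e he hne
    rw [mem_bl] at he
    rw [← h, mul_assoc, hf.orth he hne.symm, mul_zero, tau_zero hM hχ hu (br_zero _), mul_zero]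
  · intro h'
    exact absurd (mem_bl.2 hf) h'

/-- compatible local data -/
structure HData (p : ℕ) (Hf : G → MonoidAlgebra (kM M) G → ℂ) : Prop where
  conj : ∀ u s e, IsBlk (CH ⊤ (Subgroup.zpowers u)) e → Hf (s * u * s⁻¹) (cj s e) = Hf u e
  loc : ∀ (S : Subgroup G) (e : MonoidAlgebra (kM M) G), BP p ⊤ S e →
    ∃ ψ : S → ℂ, IsGeneralizedCharacter S ψ ∧ ∀ (u : S) (f : MonoidAlgebra (kM M) G),
      LEp p ⊤ (Subgroup.zpowers (u : G), f) (S, e) → Hf u f = ψ u

theorem cS_zpowers (s u : G) : cS s (Subgroup.zpowers u) = Subgroup.zpowers (s * u * s⁻¹) := by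
  rw [cS, MonoidHom.map_zpowers]
  rfl

theorem FF_conj (hM : IsPModular p M) {χ : G → ℂ} (hχ : IsClassFunction G χ)
    {Hf : G → MonoidAlgebra (kM M) G → ℂ} (hH : HData p Hf) {u : G}
    (hu : ∃ j : ℕ, orderOf u = p ^ j) {ε : MonoidAlgebra (kM M) G}
    (hε : Fx (Subgroup.zpowers u) ε) (hεε : ε * ε = ε) (s : G) :
    FF χ Hf (cj s ε) (s * u * s⁻¹) = FF χ Hf ε u := by
  classical
  haveI := charP_kM hM
  have hT := isPGroup_zp hu
  unfold FF
  have hCH : CH ⊤ (Subgroup.zpowers (s * u * s⁻¹)) = cS s (CH ⊤ (Subgroup.zpowers u)) := by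
    rw [← cS_zpowers, CH_cS' (Subgroup.mem_top s)]
  have hbl : bl (kM M) (CH ⊤ (Subgroup.zpowers (s * u * s⁻¹))) =
      (bl (kM M) (CH ⊤ (Subgroup.zpowers u))).image (cj s) := by
    ext e
    rw [Finset.mem_image, mem_bl, hCH]
    constructor
    · intro h
      refine ⟨cj s⁻¹ e, ?_, cj_cj_inv s e⟩
      rw [mem_bl]
      have := h.cj s⁻¹
      change IsBlk (cS s⁻¹ (cS s (CH ⊤ (Subgroup.zpowers u)))) _ at this
      rwa [cS_inv_cS] at this
    · rintro ⟨f, hf, rfl⟩
      rw [mem_bl] at hf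
      exact hf.cj s
  rw [hbl, Finset.sum_image (fun a _ b _ h => cj_injective s h)]
  refine Finset.sum_congr rfl fun e he => ?_
  rw [mem_bl] at he
  rw [hH.conj u s e he, ← cS_zpowers, ← cj_br, ← cj_mul,
    tau_conj hM hχ hu (br_mul_idem hT hε hεε he).1 (br_mul_idem hT hε hεε he).2]

end

end CfsgLib.Star
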