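import Mathlib
import Cfsg.Agent.EqBase
import Cfsg.Agent.LibStar8
import Cfsg.Agent.LibBrP13

/-!
# Star construction, IX: `FF` is an `R`-combination of characters (helper18)
-/

set_option autoImplicit false
set_option linter.unusedSectionVars false
set_option linter.style.haveILetI false
set_option linter.unusedSimpArgs false
set_option linter.unusedVariables false

namespace CfsgLib.Star

open Cfsg CfsgLib.BrP CfsgLib.Points CfsgLib.PLocalInd CfsgLib.CharBasic

/-- conjugation as an automorphism of `(kG)^Q` -/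
noncomputable def cjE {k : Type*} [Field k] {G : Type*} [Group G] [Fintype G] (Q : Subgroup G)
    (c : G) (hc : cS c Q = Q) : fxAlg k Q ≃ₐ[k] fxAlg k Q where
  toFun a := ⟨cj c a.1, by
    have := fx_cj a.2 c
    change Fx (cS c Q) _ at this
    rwa [hc] at this⟩
  invFun a := ⟨cj c⁻¹ a.1, by
    have := fx_cj a.2 c⁻¹
    change Fx (cS c⁻¹ Q) _ at this
    have h2 : cS c⁻¹ Q = Q := by
      conv_lhs => rw [← hc]
      rw [cS_inv_cS]
    rwa [h2] at this⟩
  left_inv a := Subtype.ext (cj_inv_cj c a.1)
  right_inv a := Subtype.ext (cj_cj_inv c a.1)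
  map_mul' a b := Subtype.ext (cj_mul c a.1 b.1)
  map_add' a b := Subtype.ext (cj_add c a.1 b.1)
  commutes' r := Subtype.ext (by
    show cj c ((algebraMap k (fxAlg k Q) r : fxAlg k Q) : MonoidAlgebra k G) = _
    have : ((algebraMap k (fxAlg k Q) r : fxAlg k Q) : MonoidAlgebra k G) = r • 1 := by
      rw [Subalgebra.coe_algebraMap, Algebra.algebraMap_eq_smul_one]
    rw [this, cj_smul, cj_one])

theorem cjE_coe {k : Type*} [Field k] {G : Type*} [Group G] [Fintype G] (Q : Subgroup G)
    (c : G) (hc : cS c Q = Q) (a : fxAlg k Q) :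
    ((cjE Q c hc a : fxAlg k Q) : MonoidAlgebra k G) = cj c a.1 := rfl

variable {M : Ideal AlgInt} [hPr : M.IsPrime] {G : Type*} [Group G] [Fintype G]
variable {p : ℕ} [hp : Fact p.Prime]

/-- isomorphism in `(kG)^Q` -/
def IsoQ {k : Type*} [Field k] {G : Type*} [Group G] [Fintype G] (Q : Subgroup G)
    (j l : MonoidAlgebra k G) : Prop :=
  ∃ x y : MonoidAlgebra k G, Fx Q x ∧ Fx Q y ∧ j * x = x ∧ x * l = x ∧ l * y = y ∧ y * j = y ∧
    x * y = j ∧ y * x = l

theorem isoQ_of_iso {k : Type*} [Field k] {G : Type*} [Group G] [Fintype G] {Q : Subgroup G}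
    {j l : fxAlg k Q} (h : Iso j l) : IsoQ Q (j : MonoidAlgebra k G) l := by
  obtain ⟨x, y, h1, h2, h3, h4, h5, h6⟩ := h
  exact ⟨x.1, y.1, x.2, y.2, congrArg Subtype.val h1, congrArg Subtype.val h2,
    congrArg Subtype.val h3, congrArg Subtype.val h4, congrArg Subtype.val h5,
    congrArg Subtype.val h6⟩

theorem zp_le {S : Subgroup G} {u : G} (hu : u ∈ S) : Subgroup.zpowers u ≤ S := by
  rwa [Subgroup.zpowers_le]

theorem pel {S : Subgroup G} (hS : IsPGroup p S) {u : G} (hu : u ∈ S) :
    ∃ j : ℕ, orderOf u = p ^ j := by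
  obtain ⟨j, hj⟩ := IsPGroup.iff_orderOf.1 hS ⟨u, hu⟩
  exact ⟨j, by rw [← hj, ← Subgroup.orderOf_coe]⟩

theorem FF_rcomb_aux (hM : IsPModular p M) {χ : G → ℂ} (hχ : IsCharacter G χ)
    {Hf : G → MonoidAlgebra (kM M) G → ℂ} (hH : HData p Hf) (n : ℕ) :
    ∀ (S : Subgroup G) (iS : Fintype S), Nat.card S ≤ n → IsPGroup p S →
      ∀ ε : MonoidAlgebra (kM M) G, Fx S ε → ε * ε = ε →
      RComb M (fun u : S => FF χ Hf ε (u : G)) := by
  classical
  haveI := charP_kM hM
  haveI : M.IsMaximal := hM.2.1
  have hcf := char_classFun hχ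
  induction n with
  | zero =>
    intro S iS hn
    exact absurd hn (by have := Nat.card_pos (α := S); omega)
  | succ n ih =>
    intro S iS hn hS ε hε hεε
    -- reduction to primitive idempotents
    obtain ⟨L, hL⟩ := exists_dec (kM M) (A := fxAlg (kM M) S) (e := ⟨ε, hε⟩) (Subtype.ext hεε)
    have hsum : ε = ∑ l ∈ L, (l : MonoidAlgebra (kM M) G) := by
      have := congrArg Subtype.val hL.sum
      rw [AddSubmonoidClass.coe_finsetSum] at this
      exact this.symm
    have h1 : (fun u : S => FF χ Hf ε (u : G)) =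
        ∑ l ∈ L, (fun u : S => FF χ Hf (l : MonoidAlgebra (kM M) G) (u : G)) := by
      funext u
      rw [Finset.sum_apply, hsum]
      exact FF_sum hM hcf (pel hS u.2) L _ (fun i hi => fx_mono (zp_le u.2) i.2)
        (fun i hi => congrArg Subtype.val (hL.prim i hi).idem)
        (fun i hi j hj hij => congrArg Subtype.val (hL.orth i hi j hj hij))
    rw [h1]
    refine rcomb_sum hPr _ _ fun l hl => ?_
    have hi : PS S (l : MonoidAlgebra (kM M) G) := ps_of_prim (hL.prim l hl)
    clear h1 hsum
    generalize (l : MonoidAlgebra (kM M) G) = i at hi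
    clear hl hL L hε hεε ε l
    by_cases h0 : Br S i ≠ 0
    · -- local
      obtain ⟨e, he, hie⟩ := exists_local_block hS hi h0
      have hbp : BP p ⊤ S e := ⟨le_top, hS, he⟩
      obtain ⟨ψ, hψ, hψ2⟩ := hH.loc S e hbp
      have h1 : (fun u : S => FF χ Hf i (u : G)) = ψ * (fun u : S => tau χ (u : G) i) := by
        funext u
        obtain ⟨f, hf⟩ := exists_le_pair hbp (zp_le u.2)
        have h2 := local_le hS hi h0 he hie _ (Subgroup.zpowers (u : G)) le_rfl (zp_le u.2) f hf
        rw [FF_local hM hcf (pel hS u.2) (hf.bp_left hbp).blk h2, hψ2 u f hf]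
        rfl
      rw [h1]
      exact rcomb_mul hPr (rcomb_gen hPr hψ) (rcomb_char hPr (tau_char hM hχ hS hi.fx hi.idem))
    · -- non-local
      push Not at h0
      obtain ⟨Q, hQS, hN, hcard, z, hz, hz2⟩ := nonlocal hS hi h0
      have hQp : IsPGroup p Q := hS.to_le hQS.le
      have hcS : ∀ s ∈ S, cS s Q = Q := fun s hs => cS_of_normalizer (hN hs)
      letI : Fintype Q := Fintype.ofFinite Q
      letI : Fintype (Q.subgroupOf S) := Fintype.ofFinite _
      have hcardQ : Nat.card Q ≤ n := by
        have h2 := hp.out.two_le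
        have h3 := Nat.card_pos (α := Q)
        nlinarith
      have hIH := fun j hj hjj => ih Q inferInstance hcardQ hQp j hj hjj
      obtain ⟨c, hcS', hcQ⟩ := Set.not_subset.1 hQS.not_ge
      -- off Q
      have hoff : ∀ u ∈ S, u ∉ Q → FF χ Hf i u = 0 := by
        intro u hu huQ
        apply FF_zero hM hcf (pel hS hu)
        apply ext'
        intro g
        by_cases hg : g ∈ Subgroup.centralizer ((Subgroup.zpowers u : Subgroup G) : Set G)
        · rw [br_coeff_of _ hg, hz2 u hu huQ, sum_coeff, zero_coeff]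
          have h2 : ∀ r ∈ Finset.range p, (cj (u ^ r) z).coeff g = z.coeff g := by
            intro r _
            rw [cj_coeff]
            congr 1
            have h3 := Subgroup.mem_centralizer_iff.1 hg (u ^ r)
              (Subgroup.pow_mem _ (Subgroup.mem_zpowers u) r)
            calc (u ^ r)⁻¹ * g * u ^ r = (u ^ r)⁻¹ * (u ^ r * g) := by rw [h3]; group
              _ = g := by group
          rw [Finset.sum_congr rfl h2, Finset.sum_const, Finset.card_range, nsmul_eq_mul,
            CharP.cast_eq_zero, zero_mul]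
        · rw [br_coeff_not _ hg, zero_coeff]
      -- decomposition in (kG)^Q
      have hiQ := fx_mono hQS.le hi.fx
      obtain ⟨J, hJ⟩ := exists_dec (kM M) (A := fxAlg (kM M) Q) (e := ⟨i, hiQ⟩)
        (Subtype.ext hi.idem)
      obtain ⟨L, hL⟩ := exists_dec (kM M) (A := fxAlg (kM M) Q) (e := 1) (one_mul 1)
      have hsum : i = ∑ j ∈ J, (j : MonoidAlgebra (kM M) G) := by
        have := congrArg Subtype.val hJ.sum
        rw [AddSubmonoidClass.coe_finsetSum] at this
        exact this.symm
      have hFQ : ∀ u ∈ Q, FF χ Hf i u = ∑ j ∈ J, FF χ Hf (j : MonoidAlgebra (kM M) G) u := by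
        intro u hu
        conv_lhs => rw [hsum]
        exact FF_sum hM hcf (pel hQp hu) J _ (fun i hi => fx_mono (zp_le hu) i.2)
          (fun i hi => congrArg Subtype.val (hJ.prim i hi).idem)
          (fun i hi j hj hij => congrArg Subtype.val (hJ.orth i hi j hj hij))
      -- induced functions
      let v : fxAlg (kM M) Q → S → ℂ := fun j => indFun (Q.subgroupOf S)
        (fun q : Q.subgroupOf S => FF χ Hf (j : MonoidAlgebra (kM M) G) ((q : S) : G))
      have hind : ∀ (F : G → ℂ) (s : S), indFun (Q.subgroupOf S)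
          (fun q : Q.subgroupOf S => F ((q : S) : G)) s =
          (Nat.card Q : ℂ)⁻¹ * ∑ x : S, if ((x⁻¹ * s * x : S) : G) ∈ Q then
            F ((x⁻¹ * s * x : S) : G) else 0 := by
        intro F s
        unfold indFun
        rw [Nat.card_congr (Subgroup.subgroupOfEquivOfLe hQS.le).toEquiv]
        congr 1
        refine Finset.sum_congr rfl fun x _ => ?_
        unfold extendByZero
        split_ifs with h
        · have : x⁻¹ * s * x = ((⟨x⁻¹ * s * x, h⟩ : Q.subgroupOf S) : S) := rfl
          rw [this, Subtype.val_injective.extend_apply]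
        · rw [Function.extend_apply']
          · rfl
          · rintro ⟨q, hq⟩
            apply h
            rw [← hq]; exact q.2
      have hvR : ∀ j ∈ J, RComb M (v j) := by
        intro j hj
        apply rcomb_ind hPr
        have h2 := hIH j.1 j.2 (congrArg Subtype.val (hJ.prim j hj).idem)
        exact rcomb_comp hPr h2 (Subgroup.subgroupOfEquivOfLe hQS.le).toMonoidHom
      -- conjugation invariance of v
      have hmemQ : ∀ s ∈ S, ∀ g, s * g * s⁻¹ ∈ Q ↔ g ∈ Q := by
        intro s hs g
        exact ((Subgroup.mem_normalizer_iff.1 (hN hs)) g).symm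
      have hvconj : ∀ (j j' : fxAlg (kM M) Q), j * j = j → j' * j' = j' →
          (∃ s, ∃ hs : s ∈ S, Iso (cjE Q s (hcS s hs) j) j') → v j = v j' := by
        rintro j j' hjj hjj' ⟨s, hs, hiso⟩
        obtain ⟨x, y, hx, hy, g1, g2, g3, g4, g5, g6⟩ := isoQ_of_iso hiso
        rw [cjE_coe] at g1 g4 g5
        funext g
        show indFun (Q.subgroupOf S) _ g = indFun (Q.subgroupOf S) _ g
        rw [hind (FF χ Hf j.1), hind (FF χ Hf j'.1)]
        congr 1
        rw [← Equiv.sum_comp (Equiv.mulRight (⟨s, hs⟩ : S))]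
        refine Finset.sum_congr rfl fun a _ => ?_
        have e0 : (Equiv.mulRight (⟨s, hs⟩ : S)) a = a * ⟨s, hs⟩ := rfl
        rw [e0]
        have e1 : (((a * ⟨s, hs⟩ : S)⁻¹ * g * (a * ⟨s, hs⟩ : S) : S) : G) =
            s⁻¹ * ((a⁻¹ * g * a : S) : G) * s := by
          push_cast
          group
        have e2 : s * (s⁻¹ * ((a⁻¹ * g * a : S) : G) * s) * s⁻¹ = ((a⁻¹ * g * a : S) : G) := by
          group
        by_cases hq : ((a⁻¹ * g * a : S) : G) ∈ Q
        · have hq' : s⁻¹ * ((a⁻¹ * g * a : S) : G) * s ∈ Q := by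
            rw [← hmemQ s hs, e2]; exact hq
          rw [e1, if_pos hq, if_pos hq']
          have h3 := FF_conj (χ := χ) hM hcf hH (pel hQp hq') (fx_mono (zp_le hq') j.2)
            (congrArg Subtype.val hjj) s
          rw [e2] at h3
          rw [← h3]
          have hjf : Fx Q (cj s j.1) := (cjE Q s (hcS s hs) j).2
          have hzq := zp_le hq
          exact FF_iso hM hcf (pel hQp hq) (fx_mono hzq hjf) (fx_mono hzq j'.2)
            (fx_mono hzq hx) (fx_mono hzq hy)
            (by rw [← cj_mul]; exact congrArg (cj s) (congrArg Subtype.val hjj))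
            (congrArg Subtype.val hjj') g1 g2 g3 g4 g5 g6
        · have hq' : ¬ s⁻¹ * ((a⁻¹ * g * a : S) : G) * s ∈ Q := by
            rw [← hmemQ s hs, e2]; exact hq
          rw [e1, if_neg hq, if_neg hq']
      -- the relation
      let r : fxAlg (kM M) Q → fxAlg (kM M) Q → Prop := fun j j' =>
        j * j = j ∧ j' * j' = j' ∧ ∃ s, ∃ hs : s ∈ S, Iso (cjE Q s (hcS s hs) j) j'
      have hcomp : ∀ s (hs : s ∈ S) t (ht : t ∈ S) (j : fxAlg (kM M) Q),
          cjE Q (t * s) (hcS _ (S.mul_mem ht hs)) j =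
            cjE Q t (hcS t ht) (cjE Q s (hcS s hs) j) := by
        intro s hs t ht j
        apply Subtype.ext
        rw [cjE_coe, cjE_coe, cjE_coe, cj_cj]
      have hone : ∀ j : fxAlg (kM M) Q, cjE Q 1 (hcS 1 S.one_mem) j = j := by
        intro j
        apply Subtype.ext
        rw [cjE_coe, cj_one_left]
      have rrefl : ∀ j : fxAlg (kM M) Q, j * j = j → r j j := fun j hj =>
        ⟨hj, hj, 1, S.one_mem, by rw [hone]; exact Iso.refl hj⟩
      have rsymm : ∀ j j' : fxAlg (kM M) Q, r j j' → r j' j := by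
        rintro j j' ⟨hj, hj', s, hs, h⟩
        refine ⟨hj', hj, s⁻¹, S.inv_mem hs, ?_⟩
        have h2 := (h.map (cjE Q s⁻¹ (hcS _ (S.inv_mem hs))).toRingEquiv.toRingHom).symm
        have h3 : (cjE Q s⁻¹ (hcS _ (S.inv_mem hs))).toRingEquiv.toRingHom
            (cjE Q s (hcS s hs) j) = j := by
          show cjE Q s⁻¹ (hcS _ (S.inv_mem hs)) (cjE Q s (hcS s hs) j) = j
          apply Subtype.ext
          rw [cjE_coe, cjE_coe, cj_inv_cj]
        rw [h3] at h2
        exact h2
      have rtrans : ∀ j j' j'' : fxAlg (kM M) Q, r j j' → r j' j'' → r j j'' := by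
        rintro j j' j'' ⟨hj, hj', s, hs, h⟩ ⟨_, hj'', t, ht, h'⟩
        refine ⟨hj, hj'', t * s, S.mul_mem ht hs, ?_⟩
        rw [hcomp s hs t ht]
        exact (h.map (cjE Q t (hcS t ht)).toRingEquiv.toRingHom).trans h'
      obtain ⟨w, hw, hsumv⟩ := sum_class hPr (p := p) v r
        (fun j j' h => hvconj j j' h.1 h.2.1 h.2.2) _ J le_rfl
        (fun j hj => rrefl j (hJ.prim j hj).idem) (fun j _ j' _ h => rsymm j j' h)
        (fun j _ j' _ j'' _ h h' => rtrans j j' j'' h h') (fun j hj => by
          have hjj := (hJ.prim j hj).idem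
          have hcr : ∀ r : ℕ, c ^ r ∈ S := fun r => S.pow_mem hcS' r
          have := dvd_count (k := kM M) (p := p) hL (O := r j) (fun l m hl hm hlm => by
            constructor
            · rintro ⟨h1, h2, s, hs, h⟩
              exact ⟨h1, hm.idem, s, hs, h.trans hlm⟩
            · rintro ⟨h1, h2, s, hs, h⟩
              exact ⟨h1, hl.idem, s, hs, h.trans hlm.symm⟩) hJ (z := ⟨z, hz⟩)
            (Finset.range p) (by rw [Finset.card_range])
            (fun r => cjE Q (c ^ r) (hcS _ (hcr r))) (fun r' _ l hl => by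
              have hr1 : r l (cjE Q (c ^ r') (hcS _ (hcr r')) l) :=
                ⟨hl.idem, by rw [← map_mul, hl.idem], c ^ r', hcr r', Iso.refl
                  (by rw [← map_mul, hl.idem])⟩
              exact ⟨fun h => rtrans _ _ _ h (rsymm _ _ hr1), fun h => rtrans _ _ _ h hr1⟩)
            (by
              apply Subtype.ext
              rw [AddSubmonoidClass.coe_finsetSum]
              exact hz2 c hcS' hcQ)
          exact this) hvR
      have hfin : (fun u : S => FF χ Hf i (u : G)) = w := by
        have h2 : ∑ j ∈ J, v j = (p : ℂ) • (fun u : S => FF χ Hf i (u : G)) := by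
          funext s
          rw [Finset.sum_apply, Pi.smul_apply, smul_eq_mul]
          have h3 : ∀ j ∈ J, v j s = (Nat.card Q : ℂ)⁻¹ * ∑ x : S,
              if ((x⁻¹ * s * x : S) : G) ∈ Q then
                FF χ Hf (j : MonoidAlgebra (kM M) G) ((x⁻¹ * s * x : S) : G) else 0 :=
            fun j _ => hind (FF χ Hf (j : MonoidAlgebra (kM M) G)) s
          rw [Finset.sum_congr rfl h3, ← Finset.mul_sum, Finset.sum_comm]
          have h4 : ∀ x : S, (∑ j ∈ J, if ((x⁻¹ * s * x : S) : G) ∈ Q then
              FF χ Hf (j : MonoidAlgebra (kM M) G) ((x⁻¹ * s * x : S) : G) else 0) =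
              FF χ Hf i (s : G) := by
            intro x
            have h5 : FF χ Hf i ((x⁻¹ * s * x : S) : G) = FF χ Hf i (s : G) := by
              have h6 := FF_conj (χ := χ) hM hcf hH (pel hS s.2) (fx_mono (zp_le s.2) hi.fx)
                hi.idem ((x⁻¹ : S) : G)
              have h7 : cj ((x⁻¹ : S) : G) i = i := cj_eq_fx hi.fx (x⁻¹ : S).2
              rw [h7] at h6
              rw [← h6]
              congr 1
              push_cast
              group
            by_cases hq : ((x⁻¹ * s * x : S) : G) ∈ Q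
            · simp only [if_pos hq]
              rw [← hFQ _ hq, h5]
            · simp only [if_neg hq, Finset.sum_const_zero]
              rw [← h5]
              exact (hoff _ (x⁻¹ * s * x : S).2 hq).symm
          rw [Finset.sum_congr rfl (fun x _ => h4 x), Finset.sum_const, Finset.card_univ,
            ← Nat.card_eq_fintype_card, hcard, nsmul_eq_mul]
          have h8 : (Nat.card Q : ℂ) ≠ 0 := by exact_mod_cast Nat.card_pos.ne'
          push_cast
          field_simp
        rw [h2] at hsumv
        have hp0 : (p : ℂ) ≠ 0 := by exact_mod_cast hp.out.ne_zero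
        exact smul_right_injective _ hp0 hsumv
      rw [hfin]
      exact hw

theorem FF_rcomb (hM : IsPModular p M) {χ : G → ℂ} (hχ : IsCharacter G χ)
    {Hf : G → MonoidAlgebra (kM M) G → ℂ} (hH : HData p Hf) (S : Subgroup G) [iS : Fintype S]
    (hS : IsPGroup p S) {ε : MonoidAlgebra (kM M) G} (hε : Fx S ε) (hεε : ε * ε = ε) :
    RComb M (fun u : S => FF χ Hf ε (u : G)) :=
  FF_rcomb_aux hM hχ hH _ S iS le_rfl hS ε hε hεε

end CfsgLib.Star
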