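import Mathlib
import Cfsg.Agent.EqBase
import Cfsg.Agent.LibStar9
import Cfsg.Agent.LibBrP12
import Cfsg.Agent.LibBrP10

/-!
# Star construction, X: the star function (helper18)
-/

set_option autoImplicit false
set_option linter.unusedSectionVars false
set_option linter.style.haveILetI false
set_option linter.unusedSimpArgs false
set_option linter.unusedVariables false

namespace CfsgLib.Star

open Cfsg CfsgLib.LocR CfsgLib.BrP CfsgLib.Points CfsgLib.PLocalInd CfsgLib.CharBasic
  CfsgLib.BlockIdem CfsgLib.BlockOrth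
open scoped ComplexConjugate

universe u

variable {M : Ideal AlgInt} [hPr : M.IsPrime] {G : Type u} [Group G] [Fintype G]

theorem mem_cen {u w : G} : w ∈ Subgroup.centralizer ({u} : Set G) ↔ w * u = u * w :=
  Subgroup.mem_centralizer_singleton_iff

theorem CH_zp (u : G) : CH ⊤ (Subgroup.zpowers u) = Subgroup.centralizer ({u} : Set G) := by
  rw [CH_top_eq, CfsgLib.BlockOrth.centralizer_zpowers]

open Classical in
/-- the block (as a set of characters) attached to a block idempotent of `kC` -/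
noncomputable def bset (M : Ideal AlgInt) [hPr : M.IsPrime] {G : Type u} [Group G] [Fintype G]
    (C : Subgroup G) (e : MonoidAlgebra (kM M) G) : Set (IrrCharacter C) :=
  if h : ∃ b : Set (IrrCharacter C), IsPBlock M b ∧ bk M C.subtype b = e then h.choose else ∅

theorem bset_spec {C : Subgroup G} {e : MonoidAlgebra (kM M) G}
    (he : IsBlk C e) : IsPBlock M (bset M C e) ∧ bk M C.subtype (bset M C e) = e := by
  have h := h_surj he
  unfold bset
  rw [dif_pos h]
  exact h.choose_spec

open Classical in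
/-- coefficients of the block idempotent of `C` over the local ring -/
noncomputable def co (M : Ideal AlgInt) [hPr : M.IsPrime] {G : Type u} [Group G] [Fintype G]
    (C : Subgroup G) (e : MonoidAlgebra (kM M) G) (w : G) : ℂ :=
  if h : w ∈ C then blockCoeff (bset M C e) ⟨w, h⟩ else 0

theorem co_of {C : Subgroup G} (e : MonoidAlgebra (kM M) G) {w : G}
    (h : w ∈ C) : co M C e w = blockCoeff (bset M C e) ⟨w, h⟩ := by
  unfold co; rw [dif_pos h]

theorem co_not {C : Subgroup G} (e : MonoidAlgebra (kM M) G) {w : G}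
    (h : w ∉ C) : co M C e w = 0 := by
  unfold co; rw [dif_neg h]

theorem co_ring {C : Subgroup G} {e : MonoidAlgebra (kM M) G}
    (he : IsBlk C e) (w : G) : MemLocalRing M (co M C e w) := by
  by_cases h : w ∈ C
  · rw [co_of e h]
    have h1 := (bset_spec he).1
    exact blockCoeff_ring hPr h1 ⟨w, h⟩
  · rw [co_not e h]; exact memR_zero

theorem co_conj {C : Subgroup G} (e : MonoidAlgebra (kM M) G) {x : G}
    (hx : x ∈ C) (w : G) : co M C e (x * w * x⁻¹) = co M C e w := by
  by_cases h : w ∈ C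
  · have h' : x * w * x⁻¹ ∈ C := Subgroup.mul_mem _ (Subgroup.mul_mem _ hx h) (Subgroup.inv_mem _ hx)
    rw [co_of e h, co_of e h']
    have h2 : IsConj (⟨w, h⟩ : C) ⟨x * w * x⁻¹, h'⟩ :=
      isConj_iff.2 ⟨⟨x, hx⟩, Subtype.ext rfl⟩
    exact (blockCoeff_isConj (bset M C e) h2).symm
  · have h' : x * w * x⁻¹ ∉ C := fun h' => h (by
      have := Subgroup.mul_mem _ (Subgroup.mul_mem _ (Subgroup.inv_mem _ hx) h') hx
      have e1 : x⁻¹ * (x * w * x⁻¹) * x = w := by group
      rwa [e1] at this)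
    rw [co_not e h, co_not e h']

theorem co_rd {C : Subgroup G} {e : MonoidAlgebra (kM M) G}
    (he : IsBlk C e) (w : G) : rd M (co M C e w) = e.coeff w := by
  obtain ⟨h1, h2⟩ := bset_spec he
  by_cases h : w ∈ C
  · rw [co_of e h]
    have h3 := bk_coeff (M := M) (Subgroup.subtype_injective C) (bset M C e) ⟨w, h⟩
    rw [h2] at h3
    exact h3.symm
  · rw [co_not e h, rd_zero]
    symm
    exact he.zh.1 w h

theorem co_idem {C : Subgroup G} {e : MonoidAlgebra (kM M) G} (g : G) :
    ∑ z : G, co M C e (g * z⁻¹) * co M C e z = co M C e g := by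
  classical
  haveI := Fintype.ofFinite C
  have h1 : ∀ z : G, co M C e (g * z⁻¹) * co M C e z ≠ 0 → z ∈ C ∧ g ∈ C := by
    intro z hz
    have hz1 : z ∈ C := by
      by_contra h; exact hz (by rw [co_not e h, mul_zero])
    have hz2 : g * z⁻¹ ∈ C := by
      by_contra h; exact hz (by rw [co_not e h, zero_mul])
    refine ⟨hz1, ?_⟩
    have := Subgroup.mul_mem _ hz2 hz1
    simpa using this
  by_cases hg : g ∈ C
  · rw [← sum_subgroup (T := C) (fun z =>
      co M C e (g * z⁻¹) * co M C e z) (fun z hz => by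
        by_contra h; exact hz (h1 z h).1)]
    rw [co_of e hg]
    have h2 := congrFun (conv_blockCoeff_self (bset M C e)) ⟨g, hg⟩
    rw [← h2]
    unfold CfsgLib.BlockCore.conv
    have h3 := Equiv.sum_comp ((Equiv.inv C).trans
      (Equiv.mulLeft ⟨g, hg⟩)) (fun x => blockCoeff (bset M C e) x *
        blockCoeff (bset M C e) (x⁻¹ * ⟨g, hg⟩))
    rw [← h3]
    refine Finset.sum_congr rfl fun z _ => ?_
    have e0 : ((Equiv.inv C).trans (Equiv.mulLeft ⟨g, hg⟩)) z = ⟨g, hg⟩ * z⁻¹ := rfl
    rw [co_of e z.2, co_of e (Subgroup.mul_mem _ hg (Subgroup.inv_mem _ z.2)), e0]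
    have e1 : (⟨g, hg⟩ * z⁻¹)⁻¹ * (⟨g, hg⟩ : C) = z := by group
    rw [e1]
    rfl
  · rw [co_not e hg]
    refine Finset.sum_eq_zero fun z _ => ?_
    by_contra h; exact hg (h1 z h).2

/-- the block idempotent of `C` over the local ring -/
noncomputable def EE {C : Subgroup G} {e : MonoidAlgebra (kM M) G} (he : IsBlk C e) : RG M G :=
  rmk fun w => ⟨co M C e w, co_ring he w⟩

theorem EE_idem {C : Subgroup G} {e : MonoidAlgebra (kM M) G}
    (he : IsBlk C e) : EE he * EE he = EE he := by
  apply rext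
  intro g
  rw [rmul_coeff']
  apply Subtype.ext
  push_cast
  exact co_idem g

theorem EE_rf {C : Subgroup G} {e : MonoidAlgebra (kM M) G} (he : IsBlk C e) : RF C (EE he) :=
  fun x hx g => Subtype.ext (co_conj e hx g)

theorem EE_red {C : Subgroup G} {e : MonoidAlgebra (kM M) G}
    (he : IsBlk C e) : red M G (EE he) = e := by
  apply ext'
  intro g
  rw [red_coeff, ← co_rd he g, rd_of (co_ring he g)]
  rfl

/-- the part of `χ` in the block `e` of `C` -/
noncomputable def cpart (M : Ideal AlgInt) [hPr : M.IsPrime] {G : Type u} [Group G] [Fintype G]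
    (C : Subgroup G) (χ : G → ℂ) (e : MonoidAlgebra (kM M) G) (y : G) : ℂ :=
  ∑ w : G, co M C e w * χ (w * y)

theorem tv_smul (φ : G → ℂ) (t : G) (c : LocR.subring M) (a : RG M G) :
    tv φ t (c • a) = (c : ℂ) * tv φ t a := by
  unfold tv
  rw [Finset.mul_sum]
  refine Finset.sum_congr rfl fun w _ => ?_
  show ((c * a.coeff w : LocR.subring M) : ℂ) * _ = _
  push_cast
  ring

theorem tv_sum' (φ : G → ℂ) (t : G) {ι : Type*} (s : Finset ι) (f : ι → RG M G) :
    tv φ t (∑ i ∈ s, f i) = ∑ i ∈ s, tv φ t (f i) := by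
  classical
  induction s using Finset.induction_on with
  | empty => simp only [Finset.sum_empty]; exact tv_zero_right φ t
  | insert a s ha ih => rw [Finset.sum_insert ha, Finset.sum_insert ha, tv_add, ih]

/-- the group element `s` in the group algebra -/
noncomputable def gs (M : Ideal AlgInt) [hPr : M.IsPrime] {G : Type u} [Group G] (s : G) :
    RG M G := MonoidAlgebra.single s 1

theorem gs_mul (s t : G) : gs M s * gs M t = gs M (s * t) := by
  unfold gs; rw [MonoidAlgebra.single_mul_single, one_mul]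

theorem gs_pow (s : G) (n : ℕ) : gs M s ^ n = gs M (s ^ n) := by
  unfold gs; rw [MonoidAlgebra.single_pow, one_pow]

theorem gs_one : gs M (1 : G) = 1 := rfl

theorem gs_mul_coeff (s : G) (a : RG M G) (g : G) :
    (gs M s * a).coeff g = a.coeff (s⁻¹ * g) := by
  classical
  rw [rmul_coeff, Finset.sum_eq_single s]
  · unfold gs
    rw [MonoidAlgebra.coeff_single, Finsupp.single_eq_same, one_mul]
  · intro b _ hb
    unfold gs
    rw [MonoidAlgebra.coeff_single, Finsupp.single_apply, if_neg (Ne.symm hb), zero_mul]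
  · intro h; exact absurd (Finset.mem_univ _) h

theorem mul_gs_coeff (s : G) (a : RG M G) (g : G) :
    (a * gs M s).coeff g = a.coeff (g * s⁻¹) := by
  classical
  rw [rmul_coeff', Finset.sum_eq_single s]
  · unfold gs
    rw [MonoidAlgebra.coeff_single, Finsupp.single_eq_same, mul_one]
  · intro b _ hb
    unfold gs
    rw [MonoidAlgebra.coeff_single, Finsupp.single_apply, if_neg (Ne.symm hb), mul_zero]
  · intro h; exact absurd (Finset.mem_univ _) h

theorem rf_gs {S : Subgroup G} {s : G} (h : ∀ x ∈ S, x * s = s * x) : RF S (gs M s) := by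
  classical
  intro x hx g
  unfold gs
  rw [MonoidAlgebra.coeff_single, Finsupp.single_apply, Finsupp.single_apply]
  congr 1
  rw [eq_iff_iff]
  constructor
  · intro h1
    have h2 := h x hx
    calc s = x⁻¹ * (x * s) := by group
      _ = x⁻¹ * (s * x) := by rw [h2]
      _ = x⁻¹ * (x * g * x⁻¹ * x) := by rw [← h1]
      _ = g := by group
  · rintro rfl
    rw [h x hx]; group

/-! ### spectral idempotents of a `p'`-element -/

section Spec

variable {p : ℕ} (hM : IsPModular p M) {s : G} (hs : ¬ p ∣ orderOf s) {ζ : ℂ}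
  (hζ : IsPrimitiveRoot ζ (orderOf s))

/-- `ζ ^ a` in the local ring -/
noncomputable def zr (hζ : IsPrimitiveRoot ζ (orderOf s)) (a : ℕ) : LocR.subring M :=
  ⟨ζ ^ a, memR_pow (memR_of_pow_eq_one (orderOf_pos s) hζ.pow_eq_one) a⟩

/-- spectral idempotent for the eigenvalue `ζ ^ a` -/
noncomputable def sp (hM : IsPModular p M) (hs : ¬ p ∣ orderOf s)
    (hζ : IsPrimitiveRoot ζ (orderOf s)) (a : ℕ) : RG M G :=
  (⟨((orderOf s : ℕ) : ℂ)⁻¹, memR_natCast_inv hM hs⟩ : LocR.subring M) •
    ∑ j ∈ Finset.range (orderOf s), (zr (M := M) hζ ((orderOf s - 1) * a) • gs M s) ^ j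

theorem zr_mul (a b : ℕ) : zr (M := M) hζ a * zr (M := M) hζ b = zr (M := M) hζ (a + b) :=
  Subtype.ext (by show ζ ^ a * ζ ^ b = ζ ^ (a + b); rw [pow_add])

theorem zr_pow (a b : ℕ) : zr (M := M) hζ a ^ b = zr (M := M) hζ (a * b) :=
  Subtype.ext (by
    show (ζ ^ a) ^ b = ζ ^ (a * b)
    rw [pow_mul])

theorem zr_of_dvd {a : ℕ} (h : orderOf s ∣ a) : zr (M := M) hζ a = 1 := by
  obtain ⟨b, rfl⟩ := h
  exact Subtype.ext (by
    show ζ ^ (orderOf s * b) = 1
    rw [pow_mul, hζ.pow_eq_one, one_pow])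

theorem sub_one_mul_add (a : ℕ) : (orderOf s - 1) * a + a = orderOf s * a := by
  have h := orderOf_pos s
  obtain ⟨m, hm⟩ : ∃ m, orderOf s = m + 1 := ⟨orderOf s - 1, by omega⟩
  rw [hm]; simp; ring

theorem t_pow (a : ℕ) : (zr (M := M) hζ ((orderOf s - 1) * a) • gs M s) ^ (orderOf s) = 1 := by
  rw [smul_pow, zr_pow, zr_of_dvd hζ (Dvd.intro_left _ rfl), one_smul, gs_pow, pow_orderOf_eq_one,
    gs_one]

theorem t_mul_sp (a : ℕ) : (zr (M := M) hζ ((orderOf s - 1) * a) • gs M s) * sp hM hs hζ a =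
    sp hM hs hζ a := by
  unfold sp
  rw [mul_smul_comm]
  congr 1
  set t := (zr (M := M) hζ ((orderOf s - 1) * a) • gs M s) with ht
  rw [Finset.mul_sum]
  have h1 : ∀ j ∈ Finset.range (orderOf s), t * t ^ j = t ^ (j + 1) := fun j _ =>
    (pow_succ' t j).symm
  rw [Finset.sum_congr rfl h1]
  have h2 := Finset.sum_range_succ' (fun j => t ^ j) (orderOf s)
  have h3 := Finset.sum_range_succ (fun j => t ^ j) (orderOf s)
  rw [h2] at h3
  have h4 : t ^ (orderOf s) = 1 := by rw [ht]; exact t_pow hζ a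
  rw [h4, pow_zero] at h3
  exact add_right_cancel h3

theorem sp_idem (a : ℕ) : sp (M := M) hM hs hζ a * sp hM hs hζ a = sp hM hs hζ a := by
  have h1 : ∀ j : ℕ, (zr (M := M) hζ ((orderOf s - 1) * a) • gs M s) ^ j * sp hM hs hζ a =
      sp hM hs hζ a := by
    intro j
    induction j with
    | zero => rw [pow_zero, one_mul]
    | succ j ih => rw [pow_succ, mul_assoc, t_mul_sp, ih]
  have h0 : sp (M := M) hM hs hζ a * sp hM hs hζ a =
      ((⟨((orderOf s : ℕ) : ℂ)⁻¹, memR_natCast_inv hM hs⟩ : LocR.subring M) •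
    ∑ j ∈ Finset.range (orderOf s), (zr (M := M) hζ ((orderOf s - 1) * a) • gs M s) ^ j) *
      sp hM hs hζ a := rfl
  rw [h0]
  rw [smul_mul_assoc, Finset.sum_mul, Finset.sum_congr rfl (fun j _ => h1 j), Finset.sum_const,
    Finset.card_range, ← Nat.cast_smul_eq_nsmul (LocR.subring M), smul_smul]
  have h2 : (⟨((orderOf s : ℕ) : ℂ)⁻¹, memR_natCast_inv hM hs⟩ : LocR.subring M) *
      ((orderOf s : ℕ) : LocR.subring M) = 1 := by
    apply Subtype.ext
    push_cast
    have : ((orderOf s : ℕ) : ℂ) ≠ 0 := by exact_mod_cast (orderOf_pos s).ne'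
    field_simp
  rw [h2, one_smul]

theorem gs_mul_sp (a : ℕ) : gs M s * sp (M := M) hM hs hζ a = zr (M := M) hζ a • sp hM hs hζ a := by
  have h1 := t_mul_sp (M := M) hM hs hζ a
  have h2 := congrArg (fun b => zr (M := M) hζ a • b) h1
  rw [smul_mul_assoc, smul_smul, zr_mul, add_comm, sub_one_mul_add,
    zr_of_dvd hζ (Dvd.intro _ rfl), one_smul] at h2
  exact h2

theorem sum_sp : ∑ a ∈ Finset.range (orderOf s), sp (M := M) hM hs hζ a = 1 := by
  classical
  unfold sp
  rw [← Finset.smul_sum, Finset.sum_comm]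
  have h1 : ∀ j ∈ Finset.range (orderOf s), ∑ a ∈ Finset.range (orderOf s),
      (zr (M := M) hζ ((orderOf s - 1) * a) • gs M s) ^ j =
      (if j = 0 then ((orderOf s : ℕ) : LocR.subring M) else 0) • gs M (s ^ j) := by
    intro j hj
    rw [Finset.mem_range] at hj
    have h2 : ∀ a ∈ Finset.range (orderOf s), (zr (M := M) hζ ((orderOf s - 1) * a) • gs M s) ^ j =
        zr (M := M) hζ ((orderOf s - 1) * j) ^ a • gs M (s ^ j) := by
      intro a _
      rw [smul_pow, zr_pow, zr_pow, gs_pow]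
      congr 2
      ring
    rw [Finset.sum_congr rfl h2, ← Finset.sum_smul]
    congr 1
    split_ifs with hj0
    · subst hj0
      rw [mul_zero, zr_of_dvd hζ (dvd_zero _)]
      simp
    · have h3 : (∑ i ∈ Finset.range (orderOf s), (ζ ^ ((orderOf s - 1) * j)) ^ i) = 0 := by
        have hne : ζ ^ ((orderOf s - 1) * j) ≠ 1 := by
          intro h
          have h4 := (hζ.pow_eq_one_iff_dvd _).1 h
          have h5 := (Nat.dvd_add_right h4).1 (by rw [sub_one_mul_add]; exact Dvd.intro _ rfl)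
          exact absurd (Nat.le_of_dvd (Nat.pos_of_ne_zero hj0) h5) (by omega)
        have h4 := geom_sum_eq hne (orderOf s)
        rw [h4, ← pow_mul, mul_comm, pow_mul, hζ.pow_eq_one, one_pow, sub_self, zero_div]
      apply Subtype.ext
      push_cast
      exact h3
  rw [Finset.sum_congr rfl h1, Finset.sum_eq_single 0]
  · rw [if_pos rfl, pow_zero, gs_one, smul_smul]
    have h2 : (⟨((orderOf s : ℕ) : ℂ)⁻¹, memR_natCast_inv hM hs⟩ : LocR.subring M) *
        ((orderOf s : ℕ) : LocR.subring M) = 1 := by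
      apply Subtype.ext
      push_cast
      have : ((orderOf s : ℕ) : ℂ) ≠ 0 := by exact_mod_cast (orderOf_pos s).ne'
      field_simp
    rw [h2, one_smul]
  · intro j _ hj
    rw [if_neg hj, zero_smul]
  · intro h
    exact absurd (Finset.mem_range.2 (orderOf_pos s)) h

theorem gs_eq_sum : gs M s = ∑ a ∈ Finset.range (orderOf s),
    zr (M := M) hζ a • sp (M := M) hM hs hζ a := by
  rw [← mul_one (gs M s), ← sum_sp hM hs hζ, Finset.mul_sum]
  exact Finset.sum_congr rfl fun a _ => gs_mul_sp hM hs hζ a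

theorem sp_mem_adjoin (a : ℕ) : sp (M := M) hM hs hζ a ∈
    Algebra.adjoin (LocR.subring M) {gs M s} := by
  unfold sp
  apply Subalgebra.smul_mem
  apply Subalgebra.sum_mem
  intro j _
  apply Subalgebra.pow_mem
  apply Subalgebra.smul_mem
  exact Algebra.subset_adjoin (Set.mem_singleton _)

end Spec

end CfsgLib.Star
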