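import Mathlib
import Cfsg.Agent.EqBase
import Cfsg.Agent.LibStar10
import Cfsg.Agent.LibBlockOrth2

/-!
# Star construction, XI: the star function is a class function (helper18)
-/

set_option autoImplicit false
set_option linter.unusedSectionVars false
set_option linter.style.haveILetI false
set_option linter.unusedSimpArgs false
set_option linter.unusedVariables false

namespace CfsgLib.Star

open Cfsg CfsgLib.LocR CfsgLib.BrP CfsgLib.Points CfsgLib.PLocalInd CfsgLib.CharBasic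
  CfsgLib.BlockIdem CfsgLib.BlockOrth
open scoped ComplexConjugate

universe u

section PP

variable {G : Type u} [Group G] [Finite G]

/-- the `p`-part -/
noncomputable def pp (p : ℕ) [Fact p.Prime] (g : G) : G := (isPPart_exists p g).choose

variable {p : ℕ} [hp : Fact p.Prime]

theorem pp_spec (g : G) : IsPPart p g (pp p g) := (isPPart_exists p g).choose_spec

theorem pp_eq {g x : G} (h : IsPPart p g x) : pp p g = x := isPPart_unique (pp_spec g) h

theorem pp_mul {u s : G} (hu : ∃ k : ℕ, orderOf u = p ^ k) (hs : ¬ p ∣ orderOf s)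
    (h : Commute u s) : pp p (u * s) = u := pp_eq (isPPart_mul hu hs h)

theorem pp_conj (x g : G) : pp p (x * g * x⁻¹) = x * pp p g * x⁻¹ :=
  pp_eq (isPPart_conj (pp_spec g) x)

theorem pp_order (g : G) : ∃ k : ℕ, orderOf (pp p g) = p ^ k := (pp_spec g).choose_spec.2.2.1

theorem exists_us (g : G) : ∃ u s : G, u * s = g ∧ Commute u s ∧ (∃ k : ℕ, orderOf u = p ^ k) ∧
    ¬ p ∣ orderOf s := ⟨pp p g, (pp_spec g).choose, (pp_spec g).choose_spec⟩

end PP

variable {M : Ideal AlgInt} [hPr : M.IsPrime] {G : Type u} [Group G] [Fintype G]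

/-- the spectral elements with explicit parameters -/
noncomputable def spm (m : ℕ) (c z : LocR.subring M) (s : G) : RG M G :=
  c • ∑ j ∈ Finset.range m, (z • gs M s) ^ j

theorem rcj_add (x : G) (a b : RG M G) : rcj x (a + b) = rcj x a + rcj x b := rext fun _ => rfl

theorem rcj_zero (x : G) : rcj x (0 : RG M G) = 0 := rext fun _ => rfl

theorem rcj_smul (x : G) (c : LocR.subring M) (a : RG M G) : rcj x (c • a) = c • rcj x a :=
  rext fun _ => rfl

theorem rcj_sum {ι : Type*} (x : G) (s : Finset ι) (f : ι → RG M G) :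
    rcj x (∑ i ∈ s, f i) = ∑ i ∈ s, rcj x (f i) := by
  classical
  induction s using Finset.induction_on with
  | empty => simp only [Finset.sum_empty]; exact rcj_zero x
  | insert a s ha ih => rw [Finset.sum_insert ha, Finset.sum_insert ha, rcj_add, ih]

theorem rcj_pow (x : G) (a : RG M G) (n : ℕ) : rcj x (a ^ n) = rcj x a ^ n := by
  induction n with
  | zero => rw [pow_zero, pow_zero, rcj_one]
  | succ n ih => rw [pow_succ, pow_succ, rcj_mul, ih]

theorem rcj_gs (x s : G) : rcj x (gs M s) = gs M (x * s * x⁻¹) := by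
  classical
  apply rext
  intro g
  rw [rcj_coeff]
  unfold gs
  rw [MonoidAlgebra.coeff_single, MonoidAlgebra.coeff_single, Finsupp.single_apply,
    Finsupp.single_apply]
  congr 1
  rw [eq_iff_iff]
  constructor
  · rintro rfl; group
  · rintro rfl; group

theorem rcj_spm (m : ℕ) (c z : LocR.subring M) (x s : G) :
    rcj x (spm m c z s) = spm m c z (x * s * x⁻¹) := by
  unfold spm
  rw [rcj_smul, rcj_sum]
  congr 1
  refine Finset.sum_congr rfl fun j _ => ?_
  rw [rcj_pow, rcj_smul, rcj_gs]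

theorem orderOf_conj (x s : G) : orderOf (x * s * x⁻¹) = orderOf s :=
  orderOf_injective (MulAut.conj x).toMonoidHom (MulAut.conj x).injective s

theorem sp_eq_spm {p : ℕ} (hM : IsPModular p M) {s : G} (hs : ¬ p ∣ orderOf s) {ζ : ℂ}
    (hζ : IsPrimitiveRoot ζ (orderOf s)) (a : ℕ) :
    sp hM hs hζ a = spm (orderOf s) (⟨((orderOf s : ℕ) : ℂ)⁻¹, memR_natCast_inv hM hs⟩)
      (zr (M := M) hζ ((orderOf s - 1) * a)) s := rfl

theorem rcj_sp {p : ℕ} (hM : IsPModular p M) {s : G} (hs : ¬ p ∣ orderOf s) {ζ : ℂ}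
    (hζ : IsPrimitiveRoot ζ (orderOf s)) (a : ℕ) (x : G)
    (hs' : ¬ p ∣ orderOf (x * s * x⁻¹)) (hζ' : IsPrimitiveRoot ζ (orderOf (x * s * x⁻¹))) :
    rcj x (sp (M := M) hM hs hζ a) = sp hM hs' hζ' a := by
  rw [sp_eq_spm, sp_eq_spm, rcj_spm]
  have h1 : (⟨((orderOf s : ℕ) : ℂ)⁻¹, memR_natCast_inv hM hs⟩ : LocR.subring M) =
      ⟨((orderOf (x * s * x⁻¹) : ℕ) : ℂ)⁻¹, memR_natCast_inv hM hs'⟩ :=
    Subtype.ext (by
      show ((orderOf s : ℕ) : ℂ)⁻¹ = ((orderOf (x * s * x⁻¹) : ℕ) : ℂ)⁻¹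
      rw [orderOf_conj])
  have h2 : (zr (M := M) hζ ((orderOf s - 1) * a)) =
      (zr (M := M) hζ' ((orderOf (x * s * x⁻¹) - 1) * a)) :=
    Subtype.ext (by
      show ζ ^ _ = ζ ^ _
      rw [orderOf_conj])
  have h3 : ∀ (m m' : ℕ) (c c' z z' : LocR.subring M) (y : G), m = m' → c = c' → z = z' →
      spm m c z y = spm m' c' z' y := by
    rintro m _ c _ z _ y rfl rfl rfl; rfl
  exact h3 _ _ _ _ _ _ _ (orderOf_conj x s).symm h1 h2

theorem supp_gs {H : Subgroup G} {s : G} (hs : s ∈ H) {g : G} (hg : g ∉ H) :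
    (gs M s).coeff g = 0 := by
  classical
  unfold gs
  rw [MonoidAlgebra.coeff_single, Finsupp.single_apply, if_neg]
  rintro rfl; exact hg hs

theorem red_gs (s : G) : red M G (gs M s) = MonoidAlgebra.single s 1 := by
  classical
  apply ext'
  intro g
  rw [red_coeff]
  unfold gs
  rw [MonoidAlgebra.coeff_single, MonoidAlgebra.coeff_single, Finsupp.single_apply,
    Finsupp.single_apply]
  split_ifs
  · exact map_one _
  · exact map_zero _

theorem supp_red_adjoin {H : Subgroup G} {s : G} (hs : s ∈ H) {a : RG M G}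
    (ha : a ∈ Algebra.adjoin (LocR.subring M) {gs M s}) : Supp H (red M G a) := by
  induction ha using Algebra.adjoin_induction with
  | mem x hx =>
    rw [Set.mem_singleton_iff] at hx
    subst hx
    intro g hg
    rw [red_coeff, supp_gs hs hg, map_zero]
  | algebraMap r =>
    rw [Algebra.algebraMap_eq_smul_one]
    intro g hg
    rw [red_coeff]
    show IsLocalRing.residue _ (r * (1 : RG M G).coeff g) = 0
    classical
    rw [rone_coeff, if_neg (by rintro rfl; exact hg H.one_mem), mul_zero, map_zero]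
  | add x y _ _ hx hy => rw [map_add]; exact supp_add hx hy
  | mul x y _ _ hx hy => rw [map_mul]; exact supp_mul hx hy

theorem fx_red_adjoin {H : Subgroup G} {s : G} (hs : ∀ x ∈ H, x * s = s * x) {a : RG M G}
    (ha : a ∈ Algebra.adjoin (LocR.subring M) {gs M s}) : Fx H (red M G a) :=
  red_fx (rf_adjoin (rf_gs hs) ha)

theorem EE_comm {C : Subgroup G} {e : MonoidAlgebra (kM M) G} (he : IsBlk C e) {s : G}
    (hs : s ∈ C) : Commute (EE he) (gs M s) := by
  apply rext
  intro g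
  rw [mul_gs_coeff, gs_mul_coeff]
  show (⟨co M C e (g * s⁻¹), _⟩ : LocR.subring M) = ⟨co M C e (s⁻¹ * g), _⟩
  apply Subtype.ext
  show co M C e (g * s⁻¹) = co M C e (s⁻¹ * g)
  have := co_conj (M := M) e hs (s⁻¹ * g)
  rw [← this]
  congr 1
  group

variable {p : ℕ} [hp : Fact p.Prime]

theorem cpart_eq_tv {χ : G → ℂ} {u s : G} (hus : Commute u s)
    {e : MonoidAlgebra (kM M) G} (he : IsBlk (CH ⊤ (Subgroup.zpowers u)) e) :
    cpart M (CH ⊤ (Subgroup.zpowers u)) χ e (u * s) = tv χ u (EE he * gs M s) := by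
  unfold cpart tv
  rw [← Equiv.sum_comp (Equiv.mulRight s) (fun w => ((EE he * gs M s).coeff w : ℂ) * χ (u * w))]
  refine Finset.sum_congr rfl fun w _ => ?_
  rw [mul_gs_coeff]
  have e1 : (Equiv.mulRight s) w * s⁻¹ = w := mul_inv_cancel_right w s
  have e2 : (Equiv.mulRight s) w = w * s := rfl
  rw [e1, e2]
  show co M _ e w * _ = co M _ e w * _
  by_cases hw : w ∈ CH ⊤ (Subgroup.zpowers u)
  · congr 2
    have h1 : w * u = u * w := by
      rw [CH_zp] at hw
      exact mem_cen.1 hw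
    rw [← mul_assoc, ← mul_assoc, h1]
  · rw [co_not e hw, zero_mul, zero_mul]

theorem cpart_tau (hM : IsPModular p M) {χ : G → ℂ} (hχ : IsClassFunction G χ) {u s : G}
    (hu : ∃ j : ℕ, orderOf u = p ^ j) (hs : ¬ p ∣ orderOf s) (hus : Commute u s)
    {e : MonoidAlgebra (kM M) G} (he : IsBlk (CH ⊤ (Subgroup.zpowers u)) e)
    {ζ : ℂ} (hζ : IsPrimitiveRoot ζ (orderOf s)) :
    cpart M (CH ⊤ (Subgroup.zpowers u)) χ e (u * s) =
      ∑ a ∈ Finset.range (orderOf s), ζ ^ a * tau χ u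
        (Br (Subgroup.zpowers u) (red M G (sp (M := M) hM hs hζ a)) * e) := by
  have hsC : s ∈ CH ⊤ (Subgroup.zpowers u) := by
    rw [CH_zp, mem_cen]; exact hus.symm.eq
  have hTc : ∀ x ∈ Subgroup.zpowers u, x * s = s * x := by
    rintro x ⟨k, rfl⟩; exact hus.zpow_left k
  rw [cpart_eq_tv hus he, gs_eq_sum hM hs hζ, Finset.mul_sum, tv_sum']
  refine Finset.sum_congr rfl fun a _ => ?_
  rw [mul_smul_comm, tv_smul]
  congr 1
  have hspm := sp_mem_adjoin (M := M) hM hs hζ a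
  have hcomm : Commute (EE he) (sp (M := M) hM hs hζ a) := commute_adjoin (EE_comm he hsC) hspm
  symm
  apply tau_eq hM hχ hu
  · calc EE he * sp hM hs hζ a * (EE he * sp hM hs hζ a)
        = EE he * (sp hM hs hζ a * EE he) * sp hM hs hζ a := by noncomm_ring
      _ = (EE he * EE he) * (sp hM hs hζ a * sp hM hs hζ a) := by
          rw [← hcomm.eq]; noncomm_ring
      _ = EE he * sp hM hs hζ a := by rw [EE_idem, sp_idem]
  · refine rf_mul (rf_mono ?_ (EE_rf he)) (rf_adjoin (rf_gs hTc) hspm)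
    rw [CH_zp]
    intro x hx
    obtain ⟨k, rfl⟩ := hx
    rw [mem_cen]
    exact ((Commute.refl u).zpow_left k).eq
  · congr 1
    rw [map_mul, EE_red]
    have h1 : Br (Subgroup.zpowers u) (red M G (sp (M := M) hM hs hζ a)) =
        red M G (sp (M := M) hM hs hζ a) := by
      apply br_eq_self
      have h2 := supp_red_adjoin hsC hspm
      exact supp_mono inf_le_right h2
    rw [h1]
    have h3 := br_comm_blk he (red M G (sp (M := M) hM hs hζ a))
    rw [h1] at h3
    exact h3.symm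

theorem cpart_conj (hM : IsPModular p M) {χ : G → ℂ} (hχ : IsClassFunction G χ) {u s : G}
    (hu : ∃ j : ℕ, orderOf u = p ^ j) (hs : ¬ p ∣ orderOf s) (hus : Commute u s)
    {e : MonoidAlgebra (kM M) G} (he : IsBlk (CH ⊤ (Subgroup.zpowers u)) e) (x : G) :
    cpart M (CH ⊤ (Subgroup.zpowers (x * u * x⁻¹))) χ (cj x e) (x * (u * s) * x⁻¹) =
      cpart M (CH ⊤ (Subgroup.zpowers u)) χ e (u * s) := by
  haveI := charP_kM hM
  obtain ⟨ζ, hζ⟩ : ∃ ζ : ℂ, IsPrimitiveRoot ζ (orderOf s) :=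
    ⟨_, Complex.isPrimitiveRoot_exp _ (orderOf_pos s).ne'⟩
  have hu' : ∃ j : ℕ, orderOf (x * u * x⁻¹) = p ^ j := by rw [orderOf_conj]; exact hu
  have hs' : ¬ p ∣ orderOf (x * s * x⁻¹) := by rw [orderOf_conj]; exact hs
  have hζ' : IsPrimitiveRoot ζ (orderOf (x * s * x⁻¹)) := by rw [orderOf_conj]; exact hζ
  have hus' : Commute (x * u * x⁻¹) (x * s * x⁻¹) := by
    show x * u * x⁻¹ * (x * s * x⁻¹) = x * s * x⁻¹ * (x * u * x⁻¹)
    have e1 : x * u * x⁻¹ * (x * s * x⁻¹) = x * (u * s) * x⁻¹ := by group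
    have e2 : x * s * x⁻¹ * (x * u * x⁻¹) = x * (s * u) * x⁻¹ := by group
    rw [e1, e2, hus.eq]
  have he' : IsBlk (CH ⊤ (Subgroup.zpowers (x * u * x⁻¹))) (cj x e) := by
    rw [← cS_zpowers, CH_cS' (Subgroup.mem_top x)]; exact he.cj x
  have e1 : x * (u * s) * x⁻¹ = (x * u * x⁻¹) * (x * s * x⁻¹) := by group
  rw [e1, cpart_tau hM hχ hu' hs' hus' he' hζ', cpart_tau hM hχ hu hs hus he hζ, orderOf_conj]
  refine Finset.sum_congr rfl fun a _ => ?_
  congr 1
  rw [← rcj_sp hM hs hζ a x hs' hζ', red_rcj, ← cS_zpowers, ← cj_br, ← cj_mul]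
  have hTc : ∀ x ∈ Subgroup.zpowers u, x * s = s * x := by
    rintro x ⟨k, rfl⟩; exact hus.zpow_left k
  have hspm := sp_mem_adjoin (M := M) hM hs hζ a
  have h1 := fx_red_adjoin hTc hspm
  have h2 : red M G (sp (M := M) hM hs hζ a) * red M G (sp (M := M) hM hs hζ a) =
      red M G (sp (M := M) hM hs hζ a) := by rw [← map_mul, sp_idem]
  have h3 := br_mul_idem (isPGroup_zp hu) h1 h2 he
  exact tau_conj hM hχ hu h3.1 h3.2 x

theorem bl_conj (x u : G) [CharP (kM M) p] :
    bl (kM M) (CH ⊤ (Subgroup.zpowers (x * u * x⁻¹))) =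
      open Classical in (bl (kM M) (CH ⊤ (Subgroup.zpowers u))).image (cj x) := by
  classical
  have hCH : CH ⊤ (Subgroup.zpowers (x * u * x⁻¹)) = cS x (CH ⊤ (Subgroup.zpowers u)) := by
    rw [← cS_zpowers, CH_cS' (Subgroup.mem_top x)]
  ext e
  rw [Finset.mem_image, mem_bl, hCH]
  constructor
  · intro h
    refine ⟨cj x⁻¹ e, ?_, cj_cj_inv x e⟩
    rw [mem_bl]
    have := h.cj x⁻¹
    change IsBlk (cS x⁻¹ (cS x (CH ⊤ (Subgroup.zpowers u)))) _ at this
    rwa [cS_inv_cS] at this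
  · rintro ⟨f, hf, rfl⟩
    rw [mem_bl] at hf
    exact hf.cj x

/-- the star function -/
noncomputable def star (p : ℕ) [Fact p.Prime] (M : Ideal AlgInt) [hPr : M.IsPrime] {G : Type u}
    [Group G] [Fintype G] (Hf : G → MonoidAlgebra (kM M) G → ℂ) (χ : G → ℂ) (g : G) : ℂ :=
  ∑ e ∈ bl (kM M) (CH ⊤ (Subgroup.zpowers (pp p g))),
    Hf (pp p g) e * cpart M (CH ⊤ (Subgroup.zpowers (pp p g))) χ e g

theorem star_us {Hf : G → MonoidAlgebra (kM M) G → ℂ} {χ : G → ℂ} {u s : G}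
    (hu : ∃ j : ℕ, orderOf u = p ^ j) (hs : ¬ p ∣ orderOf s) (hus : Commute u s) :
    star p M Hf χ (u * s) = ∑ e ∈ bl (kM M) (CH ⊤ (Subgroup.zpowers u)),
      Hf u e * cpart M (CH ⊤ (Subgroup.zpowers u)) χ e (u * s) := by
  unfold star
  rw [pp_mul hu hs hus]

theorem star_classFun (hM : IsPModular p M) {Hf : G → MonoidAlgebra (kM M) G → ℂ}
    (hH : HData p Hf) {χ : G → ℂ} (hχ : IsClassFunction G χ) :
    IsClassFunction G (star p M Hf χ) := by
  classical
  haveI := charP_kM hM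
  intro g x
  obtain ⟨u, s, rfl, hus, hu, hs⟩ := exists_us (p := p) g
  have hu' : ∃ j : ℕ, orderOf (x * u * x⁻¹) = p ^ j := by rw [orderOf_conj]; exact hu
  have hs' : ¬ p ∣ orderOf (x * s * x⁻¹) := by rw [orderOf_conj]; exact hs
  have hus' : Commute (x * u * x⁻¹) (x * s * x⁻¹) := by
    show x * u * x⁻¹ * (x * s * x⁻¹) = x * s * x⁻¹ * (x * u * x⁻¹)
    have e1 : x * u * x⁻¹ * (x * s * x⁻¹) = x * (u * s) * x⁻¹ := by group
    have e2 : x * s * x⁻¹ * (x * u * x⁻¹) = x * (s * u) * x⁻¹ := by group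
    rw [e1, e2, hus.eq]
  have e1 : x * (u * s) * x⁻¹ = (x * u * x⁻¹) * (x * s * x⁻¹) := by group
  rw [e1, star_us hu' hs' hus', star_us hu hs hus, ← e1, bl_conj (p := p) x u,
    Finset.sum_image (fun a _ b _ h => cj_injective x h)]
  refine Finset.sum_congr rfl fun e he => ?_
  rw [mem_bl] at he
  rw [hH.conj u x e he, cpart_conj hM hχ hu hs hus he x]

theorem star_FF (hM : IsPModular p M) {Hf : G → MonoidAlgebra (kM M) G → ℂ}
    {χ : G → ℂ} (hχ : IsClassFunction G χ) {u s : G}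
    (hu : ∃ j : ℕ, orderOf u = p ^ j) (hs : ¬ p ∣ orderOf s) (hus : Commute u s)
    {ζ : ℂ} (hζ : IsPrimitiveRoot ζ (orderOf s)) :
    star p M Hf χ (u * s) = ∑ a ∈ Finset.range (orderOf s),
      ζ ^ a * FF χ Hf (red M G (sp (M := M) hM hs hζ a)) u := by
  rw [star_us hu hs hus]
  unfold FF
  simp_rw [Finset.mul_sum]
  rw [Finset.sum_comm]
  refine Finset.sum_congr rfl fun e he => ?_
  rw [mem_bl] at he
  rw [cpart_tau hM hχ hu hs hus he hζ, Finset.mul_sum]
  exact Finset.sum_congr rfl fun a _ => by ring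

theorem star_rcomb_section (hM : IsPModular p M) {Hf : G → MonoidAlgebra (kM M) G → ℂ}
    (hH : HData p Hf) {χ : G → ℂ} (hχ : IsCharacter G χ) {s : G} (hs : ¬ p ∣ orderOf s)
    (S : Subgroup G) [iS : Fintype S] (hS : IsPGroup p S)
    (hSs : S ≤ Subgroup.centralizer ({s} : Set G)) :
    RComb M (fun u : S => star p M Hf χ ((u : G) * s)) := by
  have hχc := char_classFun hχ
  obtain ⟨ζ, hζ⟩ : ∃ ζ : ℂ, IsPrimitiveRoot ζ (orderOf s) :=
    ⟨_, Complex.isPrimitiveRoot_exp _ (orderOf_pos s).ne'⟩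
  have h1 : (fun u : S => star p M Hf χ ((u : G) * s)) =
      ∑ a ∈ Finset.range (orderOf s), (ζ ^ a) •
        (fun u : S => FF χ Hf (red M G (sp (M := M) hM hs hζ a)) (u : G)) := by
    funext u
    have hu : ∃ j : ℕ, orderOf (u : G) = p ^ j := by
      obtain ⟨j, hj⟩ := IsPGroup.iff_orderOf.1 hS u
      exact ⟨j, by rw [Subgroup.orderOf_coe, hj]⟩
    rw [star_FF hM hχc hu hs (mem_cen.1 (hSs u.2)) hζ, Finset.sum_apply]
    rfl
  rw [h1]
  apply rcomb_sum hPr
  intro a _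
  refine rcomb_smul hPr (memR_pow (memR_of_pow_eq_one (orderOf_pos s) hζ.pow_eq_one) a) ?_
  have hspm := sp_mem_adjoin (M := M) hM hs hζ a
  refine FF_rcomb hM hχ hH S hS (fx_red_adjoin (fun x hx => mem_cen.1 (hSs hx)) hspm) ?_
  rw [← map_mul, sp_idem]

end CfsgLib.Star
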