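import Mathlib
import Cfsg.Agent.EqBase
import Cfsg.Agent.LibStar11
import Cfsg.Agent.LibPLocalInd

/-!
# Star construction, XII: `R`-combinations from sections (helper18)
-/

set_option autoImplicit false
set_option linter.unusedSectionVars false
set_option linter.style.haveILetI false
set_option linter.unusedSimpArgs false
set_option linter.unusedVariables false

namespace CfsgLib.Star

open Cfsg CfsgLib.LocR CfsgLib.BrP CfsgLib.Points CfsgLib.PLocalInd CfsgLib.CharBasic
  CfsgLib.BlockR CfsgLib.BlockIdem CfsgLib.BlockOrth CfsgLib.CharIndA CfsgLib.CharNorm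
open scoped ComplexConjugate

universe u

section Proj

variable {G : Type u} [Group G] [Finite G] {p : ℕ} [hp : Fact p.Prime]
  {x : G} {P : Subgroup G} (hP : P ≤ Subgroup.centralizer ({x} : Set G))

theorem exists_m (hPp : IsPGroup p P) (hx : ¬ p ∣ orderOf x) :
    ∃ m : ℕ, (∀ i : ℤ, (x ^ i) ^ m = 1) ∧ ∀ v ∈ P, v ^ m = v := by
  obtain ⟨k, hk⟩ := IsPGroup.iff_card.1 hPp
  have hcop : Nat.Coprime (Nat.card P) (orderOf x) := by
    rw [hk]
    exact Nat.Coprime.pow_left k ((Nat.Prime.coprime_iff_not_dvd hp.out).2 hx)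
  obtain ⟨m, hm1, hm2⟩ := Nat.chineseRemainder hcop 1 0
  refine ⟨m, fun i => ?_, fun v hv => ?_⟩
  · have h1 : orderOf x ∣ m := (Nat.modEq_zero_iff_dvd).1 hm2
    rw [← zpow_natCast, ← zpow_mul, mul_comm, zpow_mul, zpow_natCast,
      orderOf_dvd_iff_pow_eq_one.1 h1, one_zpow]
  · have h1 : orderOf v ∣ Nat.card P := by
      have := orderOf_dvd_natCard (⟨v, hv⟩ : P)
      rwa [← Subgroup.orderOf_coe] at this
    have h2 : m ≡ 1 [MOD orderOf v] := Nat.ModEq.of_dvd h1 hm1
    have := pow_eq_pow_iff_modEq.2 h2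
    rw [this, pow_one]

include hP in
theorem xP_pow {m : ℕ} (h1 : ∀ i : ℤ, (x ^ i) ^ m = 1) (h2 : ∀ v ∈ P, v ^ m = v) {i : ℤ} {v : G}
    (hv : v ∈ P) : (x ^ i * v) ^ m = v := by
  have hc : Commute (x ^ i) v := ((commute_of_mem hP hv).symm).zpow_left i
  rw [hc.mul_pow, h1, h2 v hv, one_mul]

/-- projection of `⟨x⟩P` to `P` -/
noncomputable def prP (hPp : IsPGroup p P) (hx : ¬ p ∣ orderOf x) : xP x P hP →* P where
  toFun h := ⟨(h : G) ^ (exists_m hPp hx).choose, by
    obtain ⟨i, v, hv, hh⟩ := h.2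
    rw [hh, xP_pow hP (exists_m hPp hx).choose_spec.1 (exists_m hPp hx).choose_spec.2 hv]
    exact hv⟩
  map_one' := Subtype.ext (by
    show (1 : G) ^ _ = 1
    rw [one_pow])
  map_mul' := by
    intro a b
    apply Subtype.ext
    show ((a : G) * (b : G)) ^ _ = (a : G) ^ _ * (b : G) ^ _
    obtain ⟨i, v, hv, ha⟩ := a.2
    obtain ⟨j, w, hw, hb⟩ := b.2
    have h1 := (exists_m hPp hx).choose_spec.1
    have h2 := (exists_m hPp hx).choose_spec.2
    have hc : v * x ^ j = x ^ j * v := ((commute_of_mem hP hv).zpow_right j).eq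
    have e : (a : G) * (b : G) = x ^ (i + j) * (v * w) := by
      rw [ha, hb, zpow_add]
      calc x ^ i * v * (x ^ j * w) = x ^ i * (v * x ^ j) * w := by group
        _ = x ^ i * x ^ j * (v * w) := by rw [hc]; group
    rw [e, ha, hb, xP_pow hP h1 h2 hv, xP_pow hP h1 h2 hw,
      xP_pow hP h1 h2 (P.mul_mem hv hw)]

theorem prP_of (hPp : IsPGroup p P) (hx : ¬ p ∣ orderOf x) {h : xP x P hP}
    (hh : x⁻¹ * (h : G) ∈ P) : ((prP hP hPp hx h : P) : G) = x⁻¹ * (h : G) := by
  show (h : G) ^ _ = _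
  have e : (h : G) = x ^ (1 : ℤ) * (x⁻¹ * (h : G)) := by group
  conv_lhs => rw [e]
  rw [xP_pow hP (exists_m hPp hx).choose_spec.1 (exists_m hPp hx).choose_spec.2 hh]

end Proj

/-- a class function whose local parts are `R`-combinations is an `R`-combination -/
theorem rcomb_of_sections {M : Ideal AlgInt} {G : Type u} [Group G] [Fintype G] {p : ℕ}
    [Fact p.Prime] (hM : IsPModular p M) {f : G → ℂ} (hf : IsClassFunction G f)
    (hloc : ∀ s : G, ¬ p ∣ orderOf s → ∀ (S : Subgroup G) [Fintype S], IsPGroup p S →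
      S ≤ Subgroup.centralizer ({s} : Set G) → RComb M (fun v : S => f ((v : G) * s))) :
    RComb M f := by
  classical
  have hp := isPrime_of_modular hM
  -- local functions
  have key : ∀ z : G, ∃ ψ : G → ℂ, RComb M ψ ∧ RComb M (ψ * f) ∧ ψ z = 1 := by
    intro z
    obtain ⟨u, x, hz, hux, hu, hx⟩ := isPPart_exists p z
    obtain ⟨S⟩ : Nonempty (Sylow p (Subgroup.centralizer ({x} : Set G))) := inferInstance
    have hP : (S : Subgroup (Subgroup.centralizer ({x} : Set G))).map
      (Subgroup.centralizer ({x} : Set G)).subtype ≤ Subgroup.centralizer ({x} : Set G) :=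
      Subgroup.map_subtype_le _
    have hPp : IsPGroup p ((S : Subgroup (Subgroup.centralizer ({x} : Set G))).map
              (Subgroup.centralizer ({x} : Set G)).subtype) := S.isPGroup'.map _
    obtain ⟨F, d, hF, hd, hd0, hval⟩ := ind_del_val hz hux hu hx rfl S rfl hP
    have hdel := rcomb_del hP hM hx
    have hF0 : (F : ℂ) ≠ 0 := by
      intro h
      apply hF
      rw [Nat.cast_eq_zero.mp h]; exact dvd_zero p
    have hd0' : (d : ℂ) ≠ 0 := by exact_mod_cast hd0
    have hc : MemLocalRing M ((d : ℂ) / F) := by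
      rw [div_eq_mul_inv]; exact ring_mul hp (ring_nat hp d) (ring_inv_nat hM hF)
    refine ⟨((d : ℂ) / F) • indFun _ (del hP), rcomb_smul hp hc (rcomb_ind hp hdel), ?_, ?_⟩
    · rw [smul_mul_assoc]
      apply rcomb_smul hp hc
      rw [← ind_mul_restrict _ _ hf]
      apply rcomb_ind hp
      have h1 : (fun h : xP x _ hP => del hP h * f h) = del hP *
          ((fun v : ((S : Subgroup (Subgroup.centralizer ({x} : Set G))).map
              (Subgroup.centralizer ({x} : Set G)).subtype) => f ((v : G) * x)) ∘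
            prP hP hPp hx) := by
        funext h
        rw [Pi.mul_apply, Function.comp_apply]
        by_cases h2 : x⁻¹ * (h : G) ∈ (S : Subgroup (Subgroup.centralizer ({x} : Set G))).map
            (Subgroup.centralizer ({x} : Set G)).subtype
        · congr 1
          rw [prP_of hP hPp hx h2]
          have hvx : Commute (x⁻¹ * (h : G)) x := commute_of_mem hP h2
          rw [hvx.eq, mul_inv_cancel_left]
        · rw [del_not hP h2, zero_mul, zero_mul]
      rw [h1]
      exact rcomb_mul hp hdel (rcomb_comp hp (hloc x hx _ hPp hP) _)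
    · rw [Pi.smul_apply, hval, smul_eq_mul]
      field_simp
  choose ψ hψ1 hψ2 hψ3 using key
  have h1 : ∀ s : Finset G, RComb M (∏ z ∈ s, (1 - ψ z)) ∧
      RComb M ((1 - ∏ z ∈ s, (1 - ψ z)) * f) := by
    intro s
    induction s using Finset.induction_on with
    | empty =>
      constructor
      · simpa using rcomb_one hp
      · simpa using rcomb_zero hp
    | insert w s hw ih =>
      rw [Finset.prod_insert hw]
      refine ⟨rcomb_mul hp (rcomb_sub hp (rcomb_one hp) (hψ1 w)) ih.1, ?_⟩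
      have h2 : (1 - (1 - ψ w) * ∏ z ∈ s, (1 - ψ z)) * f =
          (1 - ∏ z ∈ s, (1 - ψ z)) * f + (∏ z ∈ s, (1 - ψ z)) * (ψ w * f) := by ring
      rw [h2]
      exact rcomb_add hp ih.2 (rcomb_mul hp ih.1 (hψ2 w))
  have h2 : (∏ z : G, (1 - ψ z)) = 0 := by
    funext w
    rw [Finset.prod_apply]
    apply Finset.prod_eq_zero (Finset.mem_univ w)
    rw [Pi.sub_apply, hψ3 w, Pi.one_apply, sub_self]
  have h3 := (h1 Finset.univ).2
  rw [h2, sub_zero, one_mul] at h3
  exact h3

section Star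

variable {M : Ideal AlgInt} [hPr : M.IsPrime] {G : Type u} [Group G] [Fintype G]
variable {p : ℕ} [hp : Fact p.Prime]

/-- the star function is an `R`-combination at the given ideal -/
theorem star_rcomb (hM : IsPModular p M) {Hf : G → MonoidAlgebra (kM M) G → ℂ}
    (hH : HData p Hf) {χ : G → ℂ} (hχ : IsCharacter G χ) : RComb M (star p M Hf χ) :=
  rcomb_of_sections hM (star_classFun hM hH (char_classFun hχ))
    (fun s hs S _ hS hSs => star_rcomb_section hM hH hχ hs S hS hSs)

end Star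

/-! ### translated characters -/

/-- `v ↦ θ (v * s)` on a subgroup centralizing `s` is a combination of characters with
coefficients integral -/
theorem rcomb_translate {M : Ideal AlgInt} (hMp : M.IsPrime) {G : Type u} [Group G] [Fintype G]
    {θ : G → ℂ} (hθ : IsCharacter G θ) {s : G} (S : Subgroup G) [Fintype S]
    (hSs : S ≤ Subgroup.centralizer ({s} : Set G)) :
    RComb M (fun v : S => θ ((v : G) * s)) := by
  classical
  obtain ⟨n, ρ, hρ⟩ := hθ
  set m := orderOf s with hm
  have hmpos : 0 < m := orderOf_pos s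
  obtain ⟨ζ, hζ⟩ : ∃ ζ : ℂ, IsPrimitiveRoot ζ m :=
    ⟨_, Complex.isPrimitiveRoot_exp _ hmpos.ne'⟩
  have hm0 : (m : ℂ) ≠ 0 := by exact_mod_cast hmpos.ne'
  -- the spectral projections
  let t : ℕ → ((Fin n → ℂ) →ₗ[ℂ] (Fin n → ℂ)) := fun a => (ζ ^ ((m - 1) * a)) • ρ s
  let π : ℕ → ((Fin n → ℂ) →ₗ[ℂ] (Fin n → ℂ)) := fun a =>
    (m : ℂ)⁻¹ • ∑ j ∈ Finset.range m, t a ^ j
  have htm : ∀ a, t a ^ m = 1 := by
    intro a
    show ((ζ ^ ((m - 1) * a)) • ρ s) ^ m = 1
    rw [smul_pow, ← map_pow, hm, pow_orderOf_eq_one, map_one, ← hm, ← pow_mul, mul_comm,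
      pow_mul, hζ.pow_eq_one, one_pow, one_smul]
  have htπ : ∀ a, t a * π a = π a := by
    intro a
    show t a * ((m : ℂ)⁻¹ • ∑ j ∈ Finset.range m, t a ^ j) = (m : ℂ)⁻¹ • ∑ j ∈ Finset.range m, t a ^ j
    rw [mul_smul_comm]
    congr 1
    rw [Finset.mul_sum]
    have h1 : ∀ j ∈ Finset.range m, t a * t a ^ j = t a ^ (j + 1) := fun j _ =>
      (pow_succ' (t a) j).symm
    rw [Finset.sum_congr rfl h1]
    have h2 := Finset.sum_range_succ' (fun j => t a ^ j) m
    have h3 := Finset.sum_range_succ (fun j => t a ^ j) m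
    rw [h2] at h3
    rw [htm a, pow_zero] at h3
    exact add_right_cancel h3
  have hππ : ∀ a, π a * π a = π a := by
    intro a
    have h1 : ∀ j : ℕ, t a ^ j * π a = π a := by
      intro j
      induction j with
      | zero => rw [pow_zero, one_mul]
      | succ j ih => rw [pow_succ, mul_assoc, htπ, ih]
    have h0 : π a * π a = ((m : ℂ)⁻¹ • ∑ j ∈ Finset.range m, t a ^ j) * π a := rfl
    rw [h0, smul_mul_assoc, Finset.sum_mul, Finset.sum_congr rfl (fun j _ => h1 j),
      Finset.sum_const, Finset.card_range, ← Nat.cast_smul_eq_nsmul ℂ, smul_smul,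
      inv_mul_cancel₀ hm0, one_smul]
  have hsub : ∀ a : ℕ, (m - 1) * a + a = m * a := by
    intro a
    obtain ⟨l, hl⟩ : ∃ l, m = l + 1 := ⟨m - 1, by omega⟩
    rw [hl]; simp; ring
  have hsπ : ∀ a, ρ s * π a = ζ ^ a • π a := by
    intro a
    have h1 := htπ a
    have h2 := congrArg (fun b => ζ ^ a • b) h1
    have h3 : t a * π a = ζ ^ ((m - 1) * a) • (ρ s * π a) := smul_mul_assoc _ _ _
    rw [h3] at h2
    rw [smul_smul, ← pow_add, add_comm, hsub, pow_mul, hζ.pow_eq_one, one_pow, one_smul] at h2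
    exact h2
  have hsumπ : ∑ a ∈ Finset.range m, π a = 1 := by
    show ∑ a ∈ Finset.range m, (m : ℂ)⁻¹ • ∑ j ∈ Finset.range m, t a ^ j = 1
    rw [← Finset.smul_sum, Finset.sum_comm]
    have h1 : ∀ j ∈ Finset.range m, ∑ a ∈ Finset.range m, t a ^ j =
        (if j = 0 then (m : ℂ) else 0) • ρ (s ^ j) := by
      intro j hj
      rw [Finset.mem_range] at hj
      have h2 : ∀ a ∈ Finset.range m, t a ^ j = (ζ ^ ((m - 1) * j)) ^ a • ρ (s ^ j) := by
        intro a _
        show ((ζ ^ ((m - 1) * a)) • ρ s) ^ j = _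
        rw [smul_pow, ← map_pow, ← pow_mul, ← pow_mul]
        congr 2
        ring
      rw [Finset.sum_congr rfl h2, ← Finset.sum_smul]
      congr 1
      split_ifs with hj0
      · subst hj0
        simp
      · have hne : ζ ^ ((m - 1) * j) ≠ 1 := by
          intro h
          have h4 := (hζ.pow_eq_one_iff_dvd _).1 h
          have h5 := (Nat.dvd_add_right h4).1 (by rw [hsub]; exact Dvd.intro _ rfl)
          exact absurd (Nat.le_of_dvd (Nat.pos_of_ne_zero hj0) h5) (by omega)
        rw [geom_sum_eq hne m, ← pow_mul, mul_comm, pow_mul, hζ.pow_eq_one, one_pow, sub_self,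
          zero_div]
    rw [Finset.sum_congr rfl h1, Finset.sum_eq_single 0]
    · rw [if_pos rfl, pow_zero, map_one, smul_smul, inv_mul_cancel₀ hm0, one_smul]
    · intro j _ hj
      rw [if_neg hj, zero_smul]
    · intro h
      exact absurd (Finset.mem_range.2 hmpos) h
  have hcomm : ∀ (v : S) a, ρ (v : G) * π a = π a * ρ (v : G) := by
    intro v a
    have hv : (v : G) * s = s * v := mem_cen.1 (hSs v.2)
    have h1 : Commute (ρ (v : G)) (ρ s) := by
      show ρ (v : G) * ρ s = ρ s * ρ (v : G)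
      rw [← map_mul, hv, map_mul]
    have h2 : Commute (ρ (v : G)) (t a) := h1.smul_right _
    have h3 : Commute (ρ (v : G)) (∑ j ∈ Finset.range m, t a ^ j) :=
      Commute.sum_right _ _ _ (fun j _ => h2.pow_right j)
    exact (h3.smul_right _).eq
  have hch : ∀ a, IsCharacter S (fun v : S => LinearMap.trace ℂ (Fin n → ℂ)
      ((ρ.comp S.subtype) v ∘ₗ π a)) := fun a =>
    isCharacter_idem (ρ.comp S.subtype) (π a) (hππ a) (fun v => hcomm v a)
  have h1 : (fun v : S => θ ((v : G) * s)) = ∑ a ∈ Finset.range m, (ζ ^ a) •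
      (fun v : S => LinearMap.trace ℂ (Fin n → ℂ) ((ρ.comp S.subtype) v ∘ₗ π a)) := by
    funext v
    rw [Finset.sum_apply, ← hρ]
    have e1 : ρ ((v : G) * s) = ∑ a ∈ Finset.range m, (ζ ^ a) • (ρ (v : G) * π a) := by
      rw [map_mul, ← mul_one (ρ (v : G) * ρ s), ← hsumπ, Finset.mul_sum]
      refine Finset.sum_congr rfl fun a _ => ?_
      rw [mul_assoc, hsπ, mul_smul_comm]
    show LinearMap.trace ℂ _ (ρ ((v : G) * s)) = _
    rw [e1, map_sum]
    refine Finset.sum_congr rfl fun a _ => ?_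
    rw [map_smul]
    rfl
  rw [h1]
  apply rcomb_sum hMp
  intro a _
  have hpow : MemLocalRing M (ζ ^ a) := by
    haveI := hMp
    exact memR_pow (memR_of_pow_eq_one hmpos hζ.pow_eq_one) a
  exact rcomb_smul hMp hpow (rcomb_char hMp (hch a))

end CfsgLib.Star
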