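import Mathlib
import Cfsg.Agent.EqBase
import Cfsg.Agent.LibStar12
import Cfsg.Agent.LibGalChar
import Cfsg.Agent.LibBlockReg2
import Cfsg.Agent.LibCharBasic2

/-!
# Star construction, XIII: integrality (helper18)
-/

set_option autoImplicit false
set_option linter.unusedSectionVars false
set_option linter.style.haveILetI false
set_option linter.unusedSimpArgs false
set_option linter.unusedVariables false

namespace CfsgLib.Star

open Cfsg CfsgLib.GalChar CfsgLib.GalField CfsgLib.BlockReg2 CfsgLib.LocR CfsgLib.BrP CfsgLib.Points CfsgLib.PLocalInd CfsgLib.CharBasic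
  CfsgLib.BlockR CfsgLib.BlockIdem CfsgLib.BlockOrth CfsgLib.CharIndA CfsgLib.CharNorm
open scoped ComplexConjugate

universe u

theorem int_of_local {q : ℚ} (h : ∀ l : ℕ, l.Prime → ∃ M : Ideal AlgInt, IsPModular l M ∧
    MemLocalRing M (q : ℂ)) : ∃ n : ℤ, (q : ℂ) = n := by
  by_cases hd : q.den = 1
  · exact ⟨q.num, by
      conv_lhs => rw [← Rat.num_div_den q]
      rw [hd]; simp⟩
  exfalso
  obtain ⟨l, hl, hld⟩ := Nat.exists_prime_and_dvd hd
  obtain ⟨M, hM, hMR⟩ := h l hl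
  have hp := isPrime_of_modular hM
  have h1 : ((q.num : ℤ) : ℂ) = (q : ℂ) * ((q.den : ℕ) : ℂ) := by
    have := Rat.mul_den_eq_num q
    exact_mod_cast this.symm
  have h2 : MemLocalIdeal M ((q.num : ℤ) : ℂ) := by
    rw [h1, mul_comm]
    exact ideal_mul_right hp ((ideal_nat_iff hM).2 hld) hMR
  have h3 := (ideal_int_iff hM).1 h2
  have h4 := q.reduced
  have h5 : l ∣ q.num.natAbs := Int.natCast_dvd.1 h3
  have h6 := Nat.dvd_gcd h5 hld
  rw [h4] at h6
  exact hl.one_lt.ne' (Nat.dvd_one.1 h6)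

theorem exists_k (n : ℕ) (hn : 0 < n) (σ : ℂ ≃+* ℂ) :
    ∃ k : ℕ, k.Coprime n ∧ ∀ z : ℂ, z ^ n = 1 → σ z = z ^ k := by
  haveI : NeZero n := ⟨hn.ne'⟩
  have hζ : IsPrimitiveRoot (Complex.exp (2 * Real.pi * Complex.I / n)) n :=
    Complex.isPrimitiveRoot_exp _ hn.ne'
  set ζ := Complex.exp (2 * Real.pi * Complex.I / n)
  have hσζ : IsPrimitiveRoot (σ ζ) n := hζ.map_of_injective σ.injective
  obtain ⟨k, hk, hk'⟩ := hζ.isPrimitiveRoot_iff.1 hσζ
  refine ⟨k, hk'.1, fun z hz => ?_⟩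
  obtain ⟨i, _, rfl⟩ := hζ.eq_pow_of_pow_eq_one hz
  rw [map_pow, ← hk'.2, ← pow_mul, ← pow_mul, mul_comm]

theorem rcomb_isAlgebraic {M : Ideal AlgInt} {z : ℂ} (h : MemLocalRing M z) : IsAlgebraic ℚ z := by
  obtain ⟨a, b, _, rfl⟩ := h
  have ha : IsAlgebraic ℚ (a : ℂ) := ((a.2 : IsIntegral ℤ (a : ℂ)).tower_top (A := ℚ)).isAlgebraic
  have hb : IsAlgebraic ℚ (b : ℂ) := ((b.2 : IsIntegral ℤ (b : ℂ)).tower_top (A := ℚ)).isAlgebraic
  rw [div_eq_mul_inv]
  exact ha.mul hb.inv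

variable {M : Ideal AlgInt} [hPr : M.IsPrime] {G : Type u} [Group G] [Fintype G]
variable {p : ℕ} [hp : Fact p.Prime]

/-- expansion of the block part in irreducible characters -/
theorem cpart_expand (C : Subgroup G) [Fintype C] {χ : G → ℂ} (hχ : IsClassFunction G χ)
    (e : MonoidAlgebra (kM M) G) (y : C) :
    cpart M C χ e (y : G) = ∑ θ : IrrCharacter C, ind (bset M C e) θ *
      (classInner (fun c : C => χ c) (θ : C → ℂ) * (θ : C → ℂ) y) := by
  rw [← blockPart_expand, ← sum_coeff_mul (bset M C e) (ϑ := fun c : C => χ c)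
    (fun g h => hχ g h) y]
  unfold cpart
  rw [← sum_subgroup (T := C) (fun w => co M C e w * χ (w * y)) (fun w hw => by
    rw [co_not e hw, zero_mul])]
  refine Finset.sum_congr rfl fun k _ => ?_
  rw [co_of e k.2]
  rfl

/-- compatible local data with integrality and Galois compatibility -/
structure GData (p : ℕ) (Hf : G → MonoidAlgebra (kM M) G → ℂ) : Prop extends HData p Hf where
  int : ∀ u e, IsIntegral ℤ (Hf u e)
  gal : ∀ (σ : ℂ ≃+* ℂ) (k : ℕ), k.Coprime (Nat.card G) →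
    (∀ z : ℂ, z ^ Nat.card G = 1 → σ z = z ^ k) → ∀ u e, (∃ j, orderOf u = p ^ j) →
    IsBlk (CH ⊤ (Subgroup.zpowers u)) e → Hf (u ^ k) e = σ (Hf u e)

theorem orderOf_pow_of_coprime {g : G} {k : ℕ} (hk : k.Coprime (Nat.card G)) :
    orderOf (g ^ k) = orderOf g := by
  exact Nat.Coprime.orderOf_pow (Nat.Coprime.coprime_dvd_left (orderOf_dvd_natCard g) hk.symm)

theorem zpowers_pow_of_coprime {g : G} {k : ℕ} (hk : k.Coprime (Nat.card G)) :
    Subgroup.zpowers (g ^ k) = Subgroup.zpowers g := by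
  apply Subgroup.eq_of_le_of_card_ge
  · rw [Subgroup.zpowers_le]
    exact Subgroup.npow_mem_zpowers g k
  · rw [Nat.card_zpowers, Nat.card_zpowers, orderOf_pow_of_coprime hk]

theorem cpart_gal {χ : G → ℂ} (hχ : IsCharacter G χ) (C : Subgroup G)
    (e : MonoidAlgebra (kM M) G) {σ : ℂ ≃+* ℂ} {k : ℕ}
    (hσ : ∀ z : ℂ, z ^ Nat.card G = 1 → σ z = z ^ k) (y : C) :
    cpart M C χ e ((y : G) ^ k) = σ (cpart M C χ e (y : G)) := by
  classical
  haveI := Fintype.ofFinite C
  have h1 : (y : G) ^ k = ((y ^ k : C) : G) := rfl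
  rw [h1, cpart_expand C (char_classFun hχ), cpart_expand C (char_classFun hχ), map_sum]
  refine Finset.sum_congr rfl fun θ _ => ?_
  obtain ⟨n, hn⟩ := char_mult (isCharacter_restrict hχ C) (irr_isCharacter θ.2)
  rw [hn, map_mul, map_mul, map_natCast]
  congr 1
  · unfold ind
    rw [Set.indicator_apply]
    split_ifs
    · rw [map_one]
    · rw [map_zero]
  · congr 1
    apply char_pow_eq_of_roots (irr_isCharacter θ.2)
    intro z hz
    apply hσ
    have h2 : orderOf y ∣ Nat.card G := (Subgroup.orderOf_coe y) ▸ orderOf_dvd_natCard (y : G)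
    obtain ⟨m, hm⟩ := h2
    rw [hm, pow_mul, hz, one_pow]

theorem star_gal {Hf : G → MonoidAlgebra (kM M) G → ℂ} (hG : GData p Hf) {χ : G → ℂ}
    (hχ : IsCharacter G χ) {σ : ℂ ≃+* ℂ} {k : ℕ} (hk : k.Coprime (Nat.card G))
    (hσ : ∀ z : ℂ, z ^ Nat.card G = 1 → σ z = z ^ k) (g : G) :
    star p M Hf χ (g ^ k) = σ (star p M Hf χ g) := by
  obtain ⟨u, s, rfl, hus, hu, hs⟩ := exists_us (p := p) g
  have hu' : ∃ j : ℕ, orderOf (u ^ k) = p ^ j := by rw [orderOf_pow_of_coprime hk]; exact hu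
  have hs' : ¬ p ∣ orderOf (s ^ k) := by rw [orderOf_pow_of_coprime hk]; exact hs
  have hus' : Commute (u ^ k) (s ^ k) := (hus.pow_left k).pow_right k
  rw [star_us hu hs hus, hus.mul_pow, star_us hu' hs' hus', zpowers_pow_of_coprime hk, map_sum]
  refine Finset.sum_congr rfl fun e he => ?_
  rw [mem_bl] at he
  rw [hG.gal σ k hk hσ u e hu he, map_mul]
  congr 1
  have hyC : u * s ∈ CH ⊤ (Subgroup.zpowers u) := by
    rw [CH_zp, mem_cen, mul_assoc, hus.eq]
  have h1 := cpart_gal (M := M) hχ (CH ⊤ (Subgroup.zpowers u)) e hσ ⟨u * s, hyC⟩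
  rw [← h1]
  congr 1
  exact (hus.mul_pow k).symm

theorem star_inner_fixed {Hf : G → MonoidAlgebra (kM M) G → ℂ} (hG : GData p Hf) {χ ψ : G → ℂ}
    (hχ : IsCharacter G χ) (hψ : IsCharacter G ψ) (σ : ℂ ≃+* ℂ) :
    σ (classInner (star p M Hf χ) ψ) = classInner (star p M Hf χ) ψ := by
  obtain ⟨k, hk, hσ⟩ := exists_k (Nat.card G) Nat.card_pos σ
  unfold classInner
  rw [map_mul, map_inv₀, map_natCast, map_sum]
  congr 1
  rw [← Equiv.sum_comp (powCoprime hk.symm) (fun g => star p M Hf χ g * conj (ψ g))]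
  refine Finset.sum_congr rfl fun g _ => ?_
  rw [powCoprime_apply, map_mul, star_gal hG hχ hk hσ, ← char_inv_eq_conj hψ,
    ← char_inv_eq_conj hψ, ← inv_pow]
  congr 1
  symm
  apply char_pow_eq_of_roots hψ
  intro z hz
  apply hσ
  obtain ⟨m, hm⟩ := orderOf_dvd_natCard g⁻¹
  rw [hm, pow_mul, hz, one_pow]

theorem star_rcomb_other {Hf : G → MonoidAlgebra (kM M) G → ℂ} (hM : IsPModular p M)
    (hG : GData p Hf) {χ : G → ℂ} (hχ : IsCharacter G χ) {q : ℕ} (hq : q.Prime) (hqp : q ≠ p)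
    {M' : Ideal AlgInt} (hM' : IsPModular q M') : RComb M' (star p M Hf χ) := by
  classical
  haveI : Fact q.Prime := ⟨hq⟩
  have hP' := isPrime_of_modular hM'
  refine rcomb_of_sections hM' (star_classFun hM hG.toHData (char_classFun hχ)) ?_
  intro s hs S iS hS hSs
  obtain ⟨u, s', hs_eq, hus, hu, hs'⟩ := exists_us (p := p) s
  have hSu : ∀ v ∈ S, Commute v u := by
    intro v hv
    have h1 : Commute v s := mem_cen.1 (hSs hv)
    obtain ⟨i, hi⟩ := ppart_eq_zpow (show IsPPart p s u from ⟨s', hs_eq, hus, hu, hs'⟩)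
    rw [hi]
    exact h1.zpow_right i
  have hSs' : ∀ v ∈ S, Commute v s' := by
    intro v hv
    have h1 : Commute v s := mem_cen.1 (hSs hv)
    have h2 : s' = u⁻¹ * s := by rw [← hs_eq]; group
    rw [h2]
    exact ((hSu v hv).inv_right).mul_right h1
  have hvs : ∀ v ∈ S, ¬ p ∣ orderOf (v * s') := by
    intro v hv h
    obtain ⟨j, hj⟩ := IsPGroup.iff_orderOf.1 hS ⟨v, hv⟩
    rw [← Subgroup.orderOf_coe] at hj
    have h1 := h.trans (hSs' v hv).orderOf_mul_dvd_mul_orderOf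
    rcases (Nat.Prime.dvd_mul hp.out).1 h1 with h2 | h2
    · change p ∣ orderOf v at h2
      rw [show orderOf v = q ^ j from hj] at h2
      exact hqp ((Nat.prime_dvd_prime_iff_eq hp.out hq).1 (hp.out.dvd_of_dvd_pow h2)).symm
    · exact hs' h2
  have hval : ∀ v ∈ S, star p M Hf χ (v * s) = ∑ e ∈ bl (kM M) (CH ⊤ (Subgroup.zpowers u)),
      Hf u e * cpart M (CH ⊤ (Subgroup.zpowers u)) χ e (v * s) := by
    intro v hv
    have e1 : v * s = u * (v * s') := by
      rw [← hs_eq, ← mul_assoc, (hSu v hv).eq, mul_assoc]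
    rw [e1, star_us hu (hvs v hv) ((hSu v hv).symm.mul_right hus)]
  have hSC : S ≤ CH ⊤ (Subgroup.zpowers u) := by
    intro v hv
    rw [CH_zp, mem_cen]; exact (hSu v hv).eq
  have hsC : s ∈ CH ⊤ (Subgroup.zpowers u) := by
    rw [CH_zp, mem_cen, ← hs_eq, mul_assoc, ← hus.eq]
  set C := CH ⊤ (Subgroup.zpowers u) with hC
  haveI := Fintype.ofFinite C
  have hcl := char_classFun hχ
  -- projection
  let π : S →* S.subgroupOf C :=
    { toFun := fun v => ⟨⟨v, hSC v.2⟩, v.2⟩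
      map_one' := rfl
      map_mul' := fun _ _ => rfl }
  have h1 : (fun v : S => star p M Hf χ ((v : G) * s)) =
      ∑ e ∈ bl (kM M) C, Hf u e • ∑ θ : IrrCharacter C,
        (ind (bset M C e) θ * classInner (fun c : C => χ c) (θ : C → ℂ)) •
          ((fun w : S.subgroupOf C => (θ : C → ℂ) ((w : C) * ⟨s, hsC⟩)) ∘ π) := by
    funext v
    rw [hval v v.2, Finset.sum_apply]
    refine Finset.sum_congr rfl fun e _ => ?_
    rw [Pi.smul_apply, Finset.sum_apply, smul_eq_mul]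
    congr 1
    have h2 := cpart_expand (M := M) C hcl e (⟨(v : G) * s, C.mul_mem (hSC v.2) hsC⟩ : C)
    rw [h2]
    refine Finset.sum_congr rfl fun θ _ => ?_
    rw [Pi.smul_apply, smul_eq_mul, mul_assoc]
    rfl
  rw [h1]
  apply rcomb_sum hP'
  intro e _
  apply rcomb_smul hP'
  · haveI := hP'
    exact memR_of_isIntegral (hG.int u e)
  apply rcomb_sum hP'
  intro θ _
  refine rcomb_smul hP' (ring_mul hP' ?_ ?_) (rcomb_comp hP' ?_ π)
  · unfold ind
    rw [Set.indicator_apply]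
    split_ifs
    · exact ring_one hP'
    · exact ring_zero hP'
  · obtain ⟨n, hn⟩ := char_mult (isCharacter_restrict hχ C) (irr_isCharacter θ.2)
    rw [hn]; exact ring_nat hP' n
  · refine rcomb_translate hP' (irr_isCharacter θ.2) (S.subgroupOf C) ?_
    intro w hw
    rw [Subgroup.mem_centralizer_singleton_iff]
    apply Subtype.ext
    exact mem_cen.1 (hSs hw)

/-- the star function of a character is a generalized character -/
theorem star_gen {Hf : G → MonoidAlgebra (kM M) G → ℂ} (hM : IsPModular p M)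
    (hG : GData p Hf) {χ : G → ℂ} (hχ : IsCharacter G χ) :
    IsGeneralizedCharacter G (star p M Hf χ) := by
  rw [isGen_iff]
  have hR := star_rcomb hM hG.toHData hχ
  refine ⟨hR.1, fun ψ hψ => ?_⟩
  have hfix := star_inner_fixed hG hχ (irr_isCharacter hψ)
  have h1 := hR.2 ⟨ψ, hψ⟩
  obtain ⟨q, hq⟩ := exists_rat_of_fixed (rcomb_isAlgebraic h1) hfix
  change classInner (star p M Hf χ) ψ = _ at hq
  rw [hq]
  apply int_of_local
  intro l hl
  by_cases hlp : l = p
  · subst hlp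
    refine ⟨M, hM, ?_⟩
    rw [← hq]; exact h1
  · obtain ⟨M', hM'⟩ := exists_modular l hl
    refine ⟨M', hM', ?_⟩
    rw [← hq]
    exact (star_rcomb_other hM hG hχ hl hlp hM').2 ⟨ψ, hψ⟩

end CfsgLib.Star
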