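import Mathlib
import Cfsg.Agent.EqBase
import Cfsg.Agent.LibStar13
import Cfsg.Agent.LibBlockSec

/-!
# Star construction, XIV: inner products (helper18)
-/

set_option autoImplicit false
set_option linter.unusedSectionVars false
set_option linter.style.haveILetI false
set_option linter.unusedSimpArgs false
set_option linter.unusedVariables false

namespace CfsgLib.Star

open Cfsg CfsgLib.GalChar CfsgLib.GalField CfsgLib.BlockReg2 CfsgLib.LocR CfsgLib.BrP
  CfsgLib.Points CfsgLib.PLocalInd CfsgLib.CharBasic CfsgLib.BlockCore CfsgLib.BlockSec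
  CfsgLib.BlockR CfsgLib.BlockIdem CfsgLib.BlockOrth CfsgLib.CharIndA CfsgLib.CharNorm
open scoped ComplexConjugate

universe u

section PP

variable {G : Type u} [Group G] [Finite G] {p : ℕ} [hp : Fact p.Prime]

theorem pp_iff {u s : G} : pp p (u * s) = u ↔
    (∃ k : ℕ, orderOf u = p ^ k) ∧ Commute u s ∧ ¬ p ∣ orderOf s := by
  constructor
  · intro h
    have h1 := pp_spec (p := p) (u * s)
    rw [h] at h1
    obtain ⟨y, hy, hc, hu, hy'⟩ := h1
    have : y = s := mul_left_cancel hy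
    subst this
    exact ⟨hu, hc, hy'⟩
  · rintro ⟨h1, h2, h3⟩
    exact pp_mul h1 h3 h2

open Classical in
theorem sum_us {G : Type u} [Group G] [Fintype G] (f : G → ℂ) :
    ∑ g : G, f g = ∑ u : G, ∑ s : G, if pp p (u * s) = u then f (u * s) else 0 := by
  have h1 : ∀ u : G, (∑ s : G, if pp p (u * s) = u then f (u * s) else 0) =
      ∑ g : G, if pp p g = u then f g else 0 := fun u =>
    Equiv.sum_comp (Equiv.mulLeft u) (fun g => if pp p g = u then f g else 0)
  simp_rw [h1]
  rw [Finset.sum_comm]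
  refine Finset.sum_congr rfl fun g _ => ?_
  rw [Finset.sum_ite_eq Finset.univ (pp p g) (fun _ => f g), if_pos (Finset.mem_univ _)]

end PP

variable {M : Ideal AlgInt} [hPr : M.IsPrime] {G : Type u} [Group G] [Fintype G]
variable {p : ℕ} [hp : Fact p.Prime]

/-- generalized decomposition function -/
noncomputable def dv (M : Ideal AlgInt) [hPr : M.IsPrime] {G : Type u} [Group G] [Fintype G]
    (u : G) (e : MonoidAlgebra (kM M) G) (χ : G → ℂ) (s : G) : ℂ :=
  cpart M (CH ⊤ (Subgroup.zpowers u)) χ e (u * s)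

open Classical in
/-- contribution of a subsection -/
noncomputable def WW (p : ℕ) [Fact p.Prime] (M : Ideal AlgInt) [hPr : M.IsPrime] {G : Type u}
    [Group G] [Fintype G] (u : G) (e : MonoidAlgebra (kM M) G) (χ ψ : G → ℂ) : ℂ :=
  ∑ s : G, if pp p (u * s) = u then dv M u e χ s * conj (dv M u e ψ s) else 0

theorem comm_of_C {u c : G} (hc : c ∈ CH ⊤ (Subgroup.zpowers u)) : c * u = u * c := by
  rw [CH_zp] at hc
  exact mem_cen.1 hc

theorem mem_C {u c : G} (h : Commute u c) : c ∈ CH ⊤ (Subgroup.zpowers u) := by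
  rw [CH_zp]
  exact mem_cen.2 h.eq.symm

theorem trans_cf {u : G} {χ : G → ℂ} (hχ : IsClassFunction G χ) :
    IsClassFunction (CH ⊤ (Subgroup.zpowers u)) (fun c => χ (u * (c : G))) := by
  intro g h
  show χ (u * ((h : G) * g * (h : G)⁻¹)) = χ (u * g)
  have h1 := comm_of_C h.2
  have e1 : u * ((h : G) * g * (h : G)⁻¹) = (h : G) * (u * g) * (h : G)⁻¹ := by
    calc u * ((h : G) * g * (h : G)⁻¹) = (u * h) * g * (h : G)⁻¹ := by group
      _ = (h * u) * g * (h : G)⁻¹ := by rw [h1]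
      _ = _ := by group
  rw [e1, hχ]

theorem dv_eq {u : G} [Fintype (CH ⊤ (Subgroup.zpowers u))] (e : MonoidAlgebra (kM M) G)
    {χ : G → ℂ} (hχ : IsClassFunction G χ) (c : CH ⊤ (Subgroup.zpowers u)) :
    dv M u e χ (c : G) = blockPart (bset M (CH ⊤ (Subgroup.zpowers u)) e)
      (fun c : CH ⊤ (Subgroup.zpowers u) => χ (u * (c : G))) c := by
  rw [← sum_coeff_mul (bset M _ e) (trans_cf hχ) c]
  unfold dv cpart
  rw [← sum_subgroup (T := CH ⊤ (Subgroup.zpowers u))
    (fun w => co M (CH ⊤ (Subgroup.zpowers u)) e w * χ (w * (u * c))) (fun w hw => by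
    rw [co_not e hw, zero_mul])]
  refine Finset.sum_congr rfl fun k _ => ?_
  rw [co_of e k.2]
  congr 2
  show (k : G) * (u * c) = u * (k * c)
  rw [← mul_assoc, comm_of_C k.2, mul_assoc]

theorem dv_expand {u : G} [Fintype (CH ⊤ (Subgroup.zpowers u))] (e : MonoidAlgebra (kM M) G)
    {χ : G → ℂ} (hχ : IsClassFunction G χ) (c : CH ⊤ (Subgroup.zpowers u)) :
    dv M u e χ (c : G) = ∑ θ : IrrCharacter (CH ⊤ (Subgroup.zpowers u)),
      ind (bset M (CH ⊤ (Subgroup.zpowers u)) e) θ *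
      (classInner (fun c : CH ⊤ (Subgroup.zpowers u) => χ (u * (c : G))) (θ : _ → ℂ) *
        (θ : _ → ℂ) c) := by
  rw [dv_eq e hχ, blockPart_expand]

theorem bset_bk {C : Subgroup G} {b : Set (IrrCharacter C)} (hb : IsPBlock M b) :
    bset M C (bk M C.subtype b) = b := by
  obtain ⟨h1, h2⟩ := bset_spec (M := M) (h_blk hb)
  exact h_inj h1 hb h2

theorem sum_ind_bset {C : Subgroup G} (θ : IrrCharacter C) :
    ∑ e ∈ bl (kM M) C, ind (bset M C e) θ = 1 := by
  classical
  have hb : IsPBlock M (blockOf M (θ : C → ℂ)) := ⟨θ, rfl⟩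
  rw [Finset.sum_eq_single (bk M C.subtype (blockOf M (θ : C → ℂ)))]
  · rw [bset_bk hb, ind_of (mem_blockOf_self hPr θ)]
  · intro e he hne
    rw [mem_bl] at he
    rw [ind_not]
    intro h
    apply hne
    obtain ⟨h1, h2⟩ := bset_spec (M := M) he
    rw [← h2, block_eq_blockOf hPr h1 h]
  · intro h
    exact absurd (mem_bl.2 (h_blk hb)) h

theorem sum_dv {u s : G} {χ : G → ℂ} (hχ : IsClassFunction G χ) (h : Commute u s) :
    ∑ e ∈ bl (kM M) (CH ⊤ (Subgroup.zpowers u)), dv M u e χ s = χ (u * s) := by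
  classical
  haveI := Fintype.ofFinite (CH ⊤ (Subgroup.zpowers u))
  have h1 : ∀ e ∈ bl (kM M) (CH ⊤ (Subgroup.zpowers u)), dv M u e χ s = _ := fun e _ =>
    dv_expand e hχ (⟨s, mem_C h⟩ : CH ⊤ (Subgroup.zpowers u))
  rw [Finset.sum_congr rfl h1, Finset.sum_comm]
  have h2 := classFun_expand_apply (trans_cf (u := u) hχ) ⟨s, mem_C h⟩
  refine Eq.trans ?_ h2.symm
  refine Finset.sum_congr rfl fun θ _ => ?_
  rw [← Finset.sum_mul, sum_ind_bset, one_mul]

theorem bset_ne {C : Subgroup G} {e e' : MonoidAlgebra (kM M) G} (he : IsBlk C e)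
    (he' : IsBlk C e') (hne : e ≠ e') {θ θ' : IrrCharacter C} (hθ : θ ∈ bset M C e)
    (hθ' : θ' ∈ bset M C e') : ¬ SameBlock M (θ : C → ℂ) (θ' : C → ℂ) := by
  intro h
  obtain ⟨h1, h2⟩ := bset_spec he
  obtain ⟨h3, h4⟩ := bset_spec he'
  have h5 : θ' ∈ bset M C e := mem_of_sameBlock hPr h1 hθ h
  apply hne
  rw [← h2, ← h4, block_eq_blockOf hPr h1 h5, block_eq_blockOf hPr h3 hθ']

open Classical in
theorem sum_pp_C {u : G} (hu : ∃ k : ℕ, orderOf u = p ^ k)
    [Fintype (CH ⊤ (Subgroup.zpowers u))] (F : G → ℂ) :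
    (∑ s : G, if pp p (u * s) = u then F s else 0) =
      ∑ c ∈ Finset.univ.filter (fun c : CH ⊤ (Subgroup.zpowers u) => ¬ p ∣ orderOf c), F c := by
  rw [Finset.sum_filter, ← sum_subgroup (T := CH ⊤ (Subgroup.zpowers u))
    (fun s => if pp p (u * s) = u then F s else 0) (fun s hs => by
      rw [if_neg]
      intro h
      exact hs (mem_C (pp_iff.1 h).2.1))]
  refine Finset.sum_congr rfl fun c _ => ?_
  have h1 : pp p (u * (c : G)) = u ↔ ¬ p ∣ orderOf c := by
    rw [pp_iff, ← Subgroup.orderOf_coe]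
    constructor
    · intro h; exact h.2.2
    · intro h
      exact ⟨hu, (comm_of_C c.2).symm, h⟩
  simp only [h1]

open Classical in
theorem WW_orth (hM : IsPModular p M) {u : G} (hu : ∃ k : ℕ, orderOf u = p ^ k)
    {e e' : MonoidAlgebra (kM M) G}
    (he : IsBlk (CH ⊤ (Subgroup.zpowers u)) e) (he' : IsBlk (CH ⊤ (Subgroup.zpowers u)) e')
    (hne : e ≠ e') {χ ψ : G → ℂ} (hχ : IsClassFunction G χ) (hψ : IsClassFunction G ψ) :
    (∑ s : G, if pp p (u * s) = u then dv M u e χ s * conj (dv M u e' ψ s) else 0) = 0 := by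
  haveI := Fintype.ofFinite (CH ⊤ (Subgroup.zpowers u))
  rw [sum_pp_C hu]
  simp_rw [dv_expand e hχ, dv_expand e' hψ, map_sum, Finset.sum_mul_sum]
  rw [Finset.sum_comm]
  refine Finset.sum_eq_zero fun θ _ => ?_
  rw [Finset.sum_comm]
  refine Finset.sum_eq_zero fun θ' _ => ?_
  by_cases h1 : θ ∈ bset M (CH ⊤ (Subgroup.zpowers u)) e
  · by_cases h2 : θ' ∈ bset M (CH ⊤ (Subgroup.zpowers u)) e'
    · have h3 := regular_orth hM (bset_ne he he' hne h1 h2)
      have h4 := congrArg (fun z => classInner (fun c : CH ⊤ (Subgroup.zpowers u) =>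
        χ (u * (c : G))) (θ : _ → ℂ) * conj (classInner (fun c : CH ⊤ (Subgroup.zpowers u) =>
        ψ (u * (c : G))) (θ' : _ → ℂ)) * z) h3
      simp only [mul_zero] at h4
      rw [← h4, Finset.mul_sum]
      refine Finset.sum_congr rfl fun c _ => ?_
      rw [ind_of h1, ind_of h2, map_mul, map_mul, map_one]
      ring
    · refine Finset.sum_eq_zero fun c _ => ?_
      rw [ind_not h2]
      simp
  · refine Finset.sum_eq_zero fun c _ => ?_
    rw [ind_not h1]
    simp

theorem WW_eq_zero_of_not {u : G} (hu : ¬ ∃ k : ℕ, orderOf u = p ^ k)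
    (e : MonoidAlgebra (kM M) G) (χ ψ : G → ℂ) : WW p M u e χ ψ = 0 := by
  unfold WW
  refine Finset.sum_eq_zero fun s _ => ?_
  rw [if_neg]
  intro h
  exact hu (pp_iff.1 h).1

/-- the inner product formula -/
theorem inner_star (hM : IsPModular p M) {Hf Hf' : G → MonoidAlgebra (kM M) G → ℂ}
    {χ ψ : G → ℂ} (hχ : IsClassFunction G χ) (hψ : IsClassFunction G ψ) :
    classInner (star p M Hf χ) (star p M Hf' ψ) = (Nat.card G : ℂ)⁻¹ *
      ∑ u : G, ∑ e ∈ bl (kM M) (CH ⊤ (Subgroup.zpowers u)),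
        Hf u e * conj (Hf' u e) * WW p M u e χ ψ := by
  classical
  unfold classInner
  congr 1
  rw [sum_us (p := p)]
  refine Finset.sum_congr rfl fun u _ => ?_
  by_cases hu : ∃ k : ℕ, orderOf u = p ^ k
  · have h1 : ∀ s : G, (if pp p (u * s) = u then star p M Hf χ (u * s) *
        conj (star p M Hf' ψ (u * s)) else 0) =
        ∑ e ∈ bl (kM M) (CH ⊤ (Subgroup.zpowers u)),
        ∑ e' ∈ bl (kM M) (CH ⊤ (Subgroup.zpowers u)), Hf u e * conj (Hf' u e') *
        (if pp p (u * s) = u then dv M u e χ s * conj (dv M u e' ψ s) else 0) := by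
      intro s
      split_ifs with h
      · obtain ⟨h1, h2, h3⟩ := pp_iff.1 h
        rw [star_us h1 h3 h2, star_us h1 h3 h2, map_sum, Finset.sum_mul_sum]
        refine Finset.sum_congr rfl fun e _ => Finset.sum_congr rfl fun e' _ => ?_
        rw [map_mul]
        unfold dv
        ring
      · simp
    simp_rw [h1]
    rw [Finset.sum_comm]
    refine Finset.sum_congr rfl fun e he => ?_
    rw [mem_bl] at he
    rw [Finset.sum_comm, Finset.sum_eq_single e]
    · rw [← Finset.mul_sum]; rfl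
    · intro e' he' hne
      rw [mem_bl] at he'
      rw [← Finset.mul_sum, WW_orth hM hu he he' hne.symm hχ hψ, mul_zero]
    · intro h; exact absurd (mem_bl.2 he) h
  · rw [Finset.sum_eq_zero, Finset.sum_eq_zero]
    · intro e _
      rw [WW_eq_zero_of_not hu, mul_zero]
    · intro s _
      rw [if_neg]
      intro h
      exact hu (pp_iff.1 h).1

end CfsgLib.Star
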