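import Mathlib
import Cfsg.Agent.EqBase
import Cfsg.Agent.LibStar14
import Cfsg.Agent.LibBrP19

/-!
# Star construction, XV: further properties (helper18)
-/

set_option autoImplicit false
set_option linter.unusedSectionVars false
set_option linter.style.haveILetI false
set_option linter.unusedSimpArgs false
set_option linter.unusedVariables false

namespace CfsgLib.Star

open Cfsg CfsgLib.GalChar CfsgLib.GalField CfsgLib.BlockReg2 CfsgLib.LocR CfsgLib.BrP
  CfsgLib.Points CfsgLib.PLocalInd CfsgLib.CharBasic CfsgLib.BlockCore CfsgLib.BlockSec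
  CfsgLib.BlockR CfsgLib.BlockIdem CfsgLib.BlockOrth CfsgLib.CharIndA CfsgLib.CharNorm
open scoped ComplexConjugate

universe u

variable {M : Ideal AlgInt} [hPr : M.IsPrime] {G : Type u} [Group G] [Fintype G]
variable {p : ℕ} [hp : Fact p.Prime]

theorem star_one {χ : G → ℂ} (hχ : IsClassFunction G χ) :
    star p M (fun _ _ => (1 : ℂ)) χ = χ := by
  funext g
  obtain ⟨u, s, rfl, hus, hu, hs⟩ := exists_us (p := p) g
  rw [star_us hu hs hus, ← sum_dv (M := M) hχ hus]
  refine Finset.sum_congr rfl fun e _ => ?_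
  rw [one_mul]; rfl

theorem dv_conj (hM : IsPModular p M) {χ : G → ℂ} (hχ : IsClassFunction G χ) {u s : G}
    (h : pp p (u * s) = u) {e : MonoidAlgebra (kM M) G}
    (he : IsBlk (CH ⊤ (Subgroup.zpowers u)) e) (x : G) :
    dv M (x * u * x⁻¹) (cj x e) χ (x * s * x⁻¹) = dv M u e χ s := by
  obtain ⟨h1, h2, h3⟩ := pp_iff.1 h
  have := cpart_conj hM hχ h1 h3 h2 he x
  unfold dv
  rw [← this]
  congr 1
  group

theorem WW_conj (hM : IsPModular p M) {χ ψ : G → ℂ} (hχ : IsClassFunction G χ)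
    (hψ : IsClassFunction G ψ) (u : G)
    {e : MonoidAlgebra (kM M) G} (he : IsBlk (CH ⊤ (Subgroup.zpowers u)) e) (x : G) :
    WW p M (x * u * x⁻¹) (cj x e) χ ψ = WW p M u e χ ψ := by
  classical
  unfold WW
  rw [← Equiv.sum_comp (MulAut.conj x).toEquiv]
  refine Finset.sum_congr rfl fun s _ => ?_
  have e0 : (MulAut.conj x).toEquiv s = x * s * x⁻¹ := rfl
  rw [e0]
  have e1 : x * u * x⁻¹ * (x * s * x⁻¹) = x * (u * s) * x⁻¹ := by group
  have h1 : pp p (x * u * x⁻¹ * (x * s * x⁻¹)) = x * u * x⁻¹ ↔ pp p (u * s) = u := by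
    rw [e1, pp_conj]
    constructor
    · intro h
      have := mul_right_cancel h
      exact mul_left_cancel this
    · intro h; rw [h]
  by_cases h : pp p (u * s) = u
  · rw [if_pos h, if_pos (h1.2 h), dv_conj hM hχ h he x, dv_conj hM hψ h he x]
  · rw [if_neg h, if_neg (fun h' => h (h1.1 h'))]

theorem zp_le_cen (u : G) : Subgroup.zpowers u ≤ Subgroup.centralizer ({u} : Set G) := by
  rw [Subgroup.zpowers_le, mem_cen]

/-- second main theorem for the generalized decomposition functions -/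
theorem dv_zero (hM : IsPModular p M) {B : Set (IrrCharacter G)} (hB : IsPBlock M B)
    {χ : IrrCharacter G} (hχ : χ ∈ B) {u s : G} (h : pp p (u * s) = u)
    {e : MonoidAlgebra (kM M) G} (he : IsBlk (CH ⊤ (Subgroup.zpowers u)) e)
    (hne : Br (Subgroup.zpowers u) (JB M B) * e ≠ e) : dv M u e (χ : G → ℂ) s = 0 := by
  obtain ⟨h1, h2, h3⟩ := pp_iff.1 h
  rw [CH_zp] at he
  haveI := Fintype.ofFinite (Subgroup.centralizer ({u} : Set G))
  have key : ∀ C : Subgroup G, ∀ hC : C = Subgroup.centralizer ({u} : Set G), IsBlk C e →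
      ∀ c : C, ¬ p ∣ orderOf c → blockPart (bset M C e) (fun c : C => (χ : G → ℂ) (u * (c : G))) c
        = 0 := by
    rintro C rfl he c hc
    obtain ⟨hb, hbk⟩ := bset_spec (M := M) he
    refine second_main_char hM h1 hB hχ hb ?_ hc
    intro hind
    have := ind_br hM (isPGroup_zp h1) (zp_le_cen u)
      (by
        rw [← CfsgLib.BlockOrth.centralizer_zpowers]
        exact centralizer_le_normalizer _)
      (by rw [CfsgLib.BlockOrth.centralizer_zpowers]) hind
    rw [hbk] at this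
    exact hne this
  haveI := Fintype.ofFinite (CH ⊤ (Subgroup.zpowers u))
  have h4 := dv_eq (M := M) e (irr_classFun χ.2) (⟨s, mem_C h2⟩ : CH ⊤ (Subgroup.zpowers u))
  rw [show dv M u e (χ : G → ℂ) s = _ from h4]
  exact key _ (CH_zp u) (by rw [CH_zp]; exact he) _ (by rw [← Subgroup.orderOf_coe]; exact h3)

theorem WW_zero_left (hM : IsPModular p M) {B : Set (IrrCharacter G)} (hB : IsPBlock M B)
    {χ : IrrCharacter G} (hχ : χ ∈ B) {u : G}
    {e : MonoidAlgebra (kM M) G} (he : IsBlk (CH ⊤ (Subgroup.zpowers u)) e)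
    (hne : Br (Subgroup.zpowers u) (JB M B) * e ≠ e) (ψ : G → ℂ) :
    WW p M u e (χ : G → ℂ) ψ = 0 := by
  unfold WW
  refine Finset.sum_eq_zero fun s _ => ?_
  split_ifs with h
  · rw [dv_zero hM hB hχ h he hne, zero_mul]
  · rfl

theorem WW_symm (u : G) (e : MonoidAlgebra (kM M) G) (χ ψ : G → ℂ) :
    conj (WW p M u e χ ψ) = WW p M u e ψ χ := by
  classical
  unfold WW
  rw [map_sum]
  refine Finset.sum_congr rfl fun s _ => ?_
  split_ifs
  · rw [map_mul, Complex.conj_conj, mul_comm]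
  · rw [map_zero]

theorem WW_zero_right (hM : IsPModular p M) {B : Set (IrrCharacter G)} (hB : IsPBlock M B)
    {χ : IrrCharacter G} (hχ : χ ∈ B) {u : G}
    {e : MonoidAlgebra (kM M) G} (he : IsBlk (CH ⊤ (Subgroup.zpowers u)) e)
    (hne : Br (Subgroup.zpowers u) (JB M B) * e ≠ e) (ψ : G → ℂ) :
    WW p M u e ψ (χ : G → ℂ) = 0 := by
  rw [← WW_symm, WW_zero_left hM hB hχ he hne, map_zero]

open Classical in
theorem WW_self (u : G) (e : MonoidAlgebra (kM M) G) (χ : G → ℂ) :
    WW p M u e χ χ = ((∑ s : G, if pp p (u * s) = u then ‖dv M u e χ s‖ ^ 2 else 0 : ℝ) : ℂ) := by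
  unfold WW
  rw [Complex.ofReal_sum]
  refine Finset.sum_congr rfl fun s _ => ?_
  split_ifs
  · rw [Complex.mul_conj, Complex.normSq_eq_norm_sq]
  · simp

theorem ci_blockPart {C : Type u} [Group C] [Fintype C] (b : Set (IrrCharacter C)) (ϑ : C → ℂ)
    (θ : IrrCharacter C) : classInner (blockPart b ϑ) (θ : C → ℂ) =
      ind b θ * classInner ϑ (θ : C → ℂ) := by
  classical
  have h2 : blockPart b ϑ =
      ∑ χ : IrrCharacter C, (ind b χ * classInner ϑ (χ : C → ℂ)) • (χ : C → ℂ) := by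
    funext u
    rw [blockPart_expand, Finset.sum_apply]
    apply Finset.sum_congr rfl
    intro χ _
    rw [Pi.smul_apply, smul_eq_mul, mul_assoc]
  rw [h2, ci_sum_l, Finset.sum_eq_single θ]
  · rw [ci_smul_l, (irr_iff_norm_one.mp θ.2).2, mul_one]
  · intro χ _ hne
    rw [ci_smul_l, irr_inner χ.2 θ.2, if_neg (fun h => hne (Subtype.ext h)), mul_zero]
  · intro h; exact absurd (Finset.mem_univ _) h

theorem part_mix (hM : IsPModular p M) {C : Subgroup G} [Fintype C]
    {e : MonoidAlgebra (kM M) G} (he : IsBlk C e) (h : MonoidAlgebra (kM M) G → ℂ)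
    (F ϑ : C → ℂ) (hF : ∀ y : C, ¬ p ∣ orderOf y → F y =
      ∑ e' ∈ bl (kM M) C, h e' * blockPart (bset M C e') ϑ y) {c : C} (hc : ¬ p ∣ orderOf c) :
    blockPart (bset M C e) F c = h e * blockPart (bset M C e) ϑ c := by
  classical
  obtain ⟨hb, hbk⟩ := bset_spec (M := M) he
  have hU : ∀ χ ∈ bset M C e, ∀ ψ : IrrCharacter C,
      SameBlock M (χ : C → ℂ) (ψ : C → ℂ) → ψ ∈ bset M C e :=
    fun χ hχ ψ h => mem_of_sameBlock hPr hb hχ h
  have h1 : blockPart (bset M C e) F c = blockPart (bset M C e)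
      (∑ e' ∈ bl (kM M) C, h e' • blockPart (bset M C e') ϑ) c := by
    refine part_congr_reg hM hU (fun y hy => ?_) hc
    rw [hF y hy, Finset.sum_apply]
    rfl
  rw [h1, blockPart_expand, blockPart_expand, Finset.mul_sum]
  refine Finset.sum_congr rfl fun θ _ => ?_
  rw [ci_sum_l]
  by_cases hθ : θ ∈ bset M C e
  · rw [ind_of hθ, Finset.sum_eq_single e]
    · rw [ci_smul_l, ci_blockPart, ind_of hθ]; ring
    · intro e' he' hne
      rw [mem_bl] at he'
      rw [ci_smul_l, ci_blockPart, ind_not, zero_mul, mul_zero]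
      intro h
      exact bset_ne he he' hne.symm hθ h (sameBlock_refl hPr _)
    · intro h; exact absurd (mem_bl.2 he) h
  · rw [ind_not hθ]; ring

/-- the star function twists the generalized decomposition functions -/
theorem dv_star (hM : IsPModular p M) {Hf : G → MonoidAlgebra (kM M) G → ℂ}
    (hH : HData p Hf) {χ : G → ℂ} (hχ : IsClassFunction G χ) {u s : G}
    (h : pp p (u * s) = u) {e : MonoidAlgebra (kM M) G}
    (he : IsBlk (CH ⊤ (Subgroup.zpowers u)) e) :
    dv M u e (star p M Hf χ) s = Hf u e * dv M u e χ s := by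
  classical
  obtain ⟨h1, h2, h3⟩ := pp_iff.1 h
  haveI := Fintype.ofFinite (CH ⊤ (Subgroup.zpowers u))
  have h4 := dv_eq (M := M) e (star_classFun hM hH hχ)
    (⟨s, mem_C h2⟩ : CH ⊤ (Subgroup.zpowers u))
  have h5 := dv_eq (M := M) e hχ (⟨s, mem_C h2⟩ : CH ⊤ (Subgroup.zpowers u))
  rw [show dv M u e (star p M Hf χ) s = _ from h4, show dv M u e χ s = _ from h5]
  refine part_mix hM he (Hf u) _ _ (fun y hy => ?_) (by rw [← Subgroup.orderOf_coe]; exact h3)
  have hys : star p M Hf χ (u * (y : G)) = ∑ e' ∈ bl (kM M) (CH ⊤ (Subgroup.zpowers u)),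
      Hf u e' * dv M u e' χ (y : G) := by
    rw [star_us h1 (by rw [Subgroup.orderOf_coe]; exact hy) (comm_of_C y.2).symm]
    rfl
  rw [hys]
  refine Finset.sum_congr rfl fun e' _ => ?_
  rw [dv_eq e' hχ]

theorem star_star (hM : IsPModular p M) {Hf Hf' : G → MonoidAlgebra (kM M) G → ℂ}
    (hH' : HData p Hf') {χ : G → ℂ} (hχ : IsClassFunction G χ) :
    star p M Hf (star p M Hf' χ) = star p M (fun u e => Hf u e * Hf' u e) χ := by
  funext g
  obtain ⟨u, s, rfl, hus, hu, hs⟩ := exists_us (p := p) g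
  rw [star_us hu hs hus, star_us hu hs hus]
  refine Finset.sum_congr rfl fun e he => ?_
  rw [mem_bl] at he
  have := dv_star hM hH' hχ (pp_mul hu hs hus) he
  unfold dv at this
  rw [this]
  ring

end CfsgLib.Star
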