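import Mathlib
import Cfsg.Agent.EqBase
import Cfsg.Agent.LibStar15
import Cfsg.Agent.LibBrP20

/-!
# Star construction, XVI: local data from stable characters of the defect group (helper18)
-/

set_option autoImplicit false
set_option linter.unusedSectionVars false
set_option linter.style.haveILetI false
set_option linter.unusedSimpArgs false
set_option linter.unusedVariables false

namespace CfsgLib.Star

open Cfsg CfsgLib.GalChar CfsgLib.GalField CfsgLib.BlockReg2 CfsgLib.LocR CfsgLib.BrP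
  CfsgLib.Points CfsgLib.PLocalInd CfsgLib.CharBasic CfsgLib.BlockCore CfsgLib.BlockSec
  CfsgLib.BlockR CfsgLib.BlockIdem CfsgLib.BlockOrth CfsgLib.CharIndA CfsgLib.CharNorm
open scoped ComplexConjugate

universe u

section Mv

variable {k : Type*} [Field k] {G : Type u} [Group G] [Fintype G] {p : ℕ}

/-- `x` moves the subsection below the pair `(P, c)` -/
def Mv (p : ℕ) (P : Subgroup G) (c : MonoidAlgebra k G) (u : G) (e : MonoidAlgebra k G) (x : G) :
    Prop := LEp p ⊤ (cS x (Subgroup.zpowers u), cj x e) (P, c)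

theorem Mv.mem {P : Subgroup G} {c e : MonoidAlgebra k G} {u x : G} (h : Mv p P c u e x) :
    x * u * x⁻¹ ∈ P := by
  have h1 := LEp.le h
  apply h1
  rw [cS_zpowers]
  exact Subgroup.mem_zpowers _

theorem mv_mul {P : Subgroup G} {c e : MonoidAlgebra k G} {u x y : G} :
    Mv p P c (y * u * y⁻¹) (cj y e) x ↔ Mv p P c u e (x * y) := by
  unfold Mv
  rw [← cS_zpowers, cS_cS, cj_cj]

theorem mv_one {P : Subgroup G} {c e : MonoidAlgebra k G} {u : G} :
    Mv p P c u e 1 ↔ LEp p ⊤ (Subgroup.zpowers u, e) (P, c) := by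
  unfold Mv
  rw [cS_one, cj_one_left]

/-- stability of a function under fusion -/
def FSt (p : ℕ) (P : Subgroup G) (c : MonoidAlgebra k G) (η : G → ℂ) : Prop :=
  ∀ (u : G) (e : MonoidAlgebra k G) (x y : G), Mv p P c u e x → Mv p P c u e y →
    η (x * u * x⁻¹) = η (y * u * y⁻¹)

open Classical in
/-- local data of a stable function -/
noncomputable def HF (p : ℕ) (P : Subgroup G) (c : MonoidAlgebra k G) (η : G → ℂ) (u : G)
    (e : MonoidAlgebra k G) : ℂ :=
  if h : ∃ x, Mv p P c u e x then η (h.choose * u * h.choose⁻¹) else 0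

theorem HF_of {P : Subgroup G} {c e : MonoidAlgebra k G} {η : G → ℂ} (hη : FSt p P c η) {u x : G}
    (h : Mv p P c u e x) : HF p P c η u e = η (x * u * x⁻¹) := by
  have h' : ∃ x, Mv p P c u e x := ⟨x, h⟩
  unfold HF
  rw [dif_pos h']
  exact hη u e _ _ h'.choose_spec h

theorem HF_not {P : Subgroup G} {c e : MonoidAlgebra k G} {η : G → ℂ} {u : G}
    (h : ¬ ∃ x, Mv p P c u e x) : HF p P c η u e = 0 := by
  unfold HF
  rw [dif_neg h]

theorem HF_mul {P : Subgroup G} {c : MonoidAlgebra k G} {η η' : G → ℂ} (u : G)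
    (e : MonoidAlgebra k G) :
    HF p P c η u e * HF p P c η' u e = HF p P c (fun g => η g * η' g) u e := by
  unfold HF
  split_ifs
  · rfl
  · rw [mul_zero]

theorem FSt.mul {P : Subgroup G} {c : MonoidAlgebra k G} {η η' : G → ℂ} (h : FSt p P c η)
    (h' : FSt p P c η') : FSt p P c (fun g => η g * η' g) := fun u e x y hx hy => by
  show η _ * η' _ = η _ * η' _
  rw [h u e x y hx hy, h' u e x y hx hy]

theorem pg_of_mem [Fact p.Prime] {P : Subgroup G} (hP : IsPGroup p P) {u x : G} (h : x * u * x⁻¹ ∈ P) :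
    ∃ j, orderOf u = p ^ j := by
  obtain ⟨j, hj⟩ := (IsPGroup.iff_orderOf.1 hP) ⟨_, h⟩
  refine ⟨j, ?_⟩
  rw [← hj, ← Subgroup.orderOf_coe, orderOf_conj]

end Mv

section Main

variable {M : Ideal AlgInt} [hPr : M.IsPrime] {G : Type u} [Group G] [Fintype G]
variable {p : ℕ} [hp : Fact p.Prime]

theorem gen_comp {S T : Type u} [Group S] [Group T] {χ : T → ℂ}
    (h : IsGeneralizedCharacter T χ) (π : S →* T) : IsGeneralizedCharacter S (χ ∘ π) := by
  obtain ⟨a, b, ha, hb, rfl⟩ := h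
  exact ⟨a ∘ π, b ∘ π, isCharacter_comp ha π, isCharacter_comp hb π, rfl⟩

theorem gen_pow_eq {S : Type u} [Group S] [Finite S] {χ : S → ℂ}
    (h : IsGeneralizedCharacter S χ) (g : S) (k : ℕ)
    (σ : ℂ ≃+* ℂ) (hσ : ∀ ζ : ℂ, ζ ^ orderOf g = 1 → σ ζ = ζ ^ k) : χ (g ^ k) = σ (χ g) := by
  obtain ⟨a, b, ha, hb, rfl⟩ := h
  rw [Pi.sub_apply, Pi.sub_apply, map_sub, char_pow_eq_of_roots ha g k σ hσ,
    char_pow_eq_of_roots hb g k σ hσ]

theorem HF_hdata (hM : IsPModular p M) {B : MonoidAlgebra (kM M) G} (hB : IsBlk ⊤ B)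
    {P : Subgroup G} {c : MonoidAlgebra (kM M) G} (hmx : IsMx p ⊤ B P c) {η : P → ℂ}
    (hη : IsGeneralizedCharacter P η) (hst : FSt p P c (ext0 P η)) :
    HData p (HF p P c (ext0 P η)) := by
  classical
  haveI := charP_kM hM
  refine ⟨?_, ?_⟩
  · intro u s e he
    by_cases h : ∃ x, Mv p P c u e x
    · obtain ⟨x, hx⟩ := h
      have hx' : Mv p P c (s * u * s⁻¹) (cj s e) (x * s⁻¹) := by
        rw [mv_mul, inv_mul_cancel_right]; exact hx
      rw [HF_of hst hx, HF_of hst hx']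
      congr 1
      group
    · rw [HF_not h, HF_not]
      rintro ⟨x, hx⟩
      rw [mv_mul] at hx
      exact h ⟨_, hx⟩
  · intro S e hS
    by_cases hof : Of p ⊤ B S e
    · obtain ⟨x, _, hle⟩ := hmx.ge hB hof
      have hSP : ∀ s : S, x * (s : G) * x⁻¹ ∈ P := fun s => hle.le ⟨s, s.2, rfl⟩
      let π : S →* P :=
        { toFun := fun s => ⟨x * s * x⁻¹, hSP s⟩
          map_one' := Subtype.ext (by simp)
          map_mul' := fun a b => Subtype.ext (by
            show x * ((a : G) * b) * x⁻¹ = x * a * x⁻¹ * (x * b * x⁻¹)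
            group) }
      refine ⟨η ∘ π, gen_comp hη π, fun u f hf => ?_⟩
      have h1 : Mv p P c (u : G) f x := by
        have := hf.cj' (Subgroup.mem_top x)
        exact this.trans hle
      rw [HF_of hst h1, ext0_mem _ (hSP u)]
      rfl
    · refine ⟨0, gen_zero, fun u f hf => ?_⟩
      rw [HF_not]
      · rfl
      rintro ⟨x, hx⟩
      apply hof
      have h1 : Of p ⊤ B (cS x (Subgroup.zpowers (u : G))) (cj x f) :=
        (of_iff_of_le hB hmx.1.1 hx).1 hmx.1
      have h2 := h1.cj hB (Subgroup.mem_top x⁻¹)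
      rw [cS_inv_cS, cj_inv_cj] at h2
      exact (of_iff_of_le hB hS hf).2 h2

theorem HF_gdata (hM : IsPModular p M) {B : MonoidAlgebra (kM M) G} (hB : IsBlk ⊤ B)
    {P : Subgroup G} {c : MonoidAlgebra (kM M) G} (hmx : IsMx p ⊤ B P c) {η : P → ℂ}
    (hη : IsGeneralizedCharacter P η) (hst : FSt p P c (ext0 P η)) :
    GData p (HF p P c (ext0 P η)) := by
  classical
  refine ⟨HF_hdata hM hB hmx hη hst, ?_, ?_⟩
  · intro u e
    by_cases h : ∃ x, Mv p P c u e x
    · obtain ⟨x, hx⟩ := h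
      rw [HF_of hst hx, ext0_mem _ hx.mem]
      exact gen_isIntegral hη _
    · rw [HF_not h]; exact isIntegral_zero
  · intro σ k hk hσ u e hu he
    have hz : Subgroup.zpowers (u ^ k) = Subgroup.zpowers u := zpowers_pow_of_coprime hk
    by_cases h : ∃ x, Mv p P c u e x
    · obtain ⟨x, hx⟩ := h
      have hx' : Mv p P c (u ^ k) e x := by
        unfold Mv at hx ⊢
        rw [hz]; exact hx
      rw [HF_of hst hx, HF_of hst hx', ext0_mem _ hx.mem, ext0_mem _ hx'.mem]
      have e1 : (⟨x * u ^ k * x⁻¹, hx'.mem⟩ : P) = ⟨x * u * x⁻¹, hx.mem⟩ ^ k :=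
        Subtype.ext (by
          show x * u ^ k * x⁻¹ = (x * u * x⁻¹) ^ k
          rw [conj_pow])
      rw [e1]
      apply gen_pow_eq hη
      intro z hz
      apply hσ
      have h2 : orderOf (⟨x * u * x⁻¹, hx.mem⟩ : P) ∣ Nat.card G := by
        rw [← Subgroup.orderOf_coe]; exact orderOf_dvd_natCard _
      obtain ⟨m, hm⟩ := h2
      rw [hm, pow_mul, hz, one_pow]
    · rw [HF_not h, HF_not, map_zero]
      rintro ⟨x, hx⟩
      apply h
      refine ⟨x, ?_⟩
      unfold Mv at hx ⊢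
      rwa [hz] at hx

/-- the star operation on characters -/
theorem star_HF_gen (hM : IsPModular p M) {B : MonoidAlgebra (kM M) G} (hB : IsBlk ⊤ B)
    {P : Subgroup G} {c : MonoidAlgebra (kM M) G} (hmx : IsMx p ⊤ B P c) {η : P → ℂ}
    (hη : IsGeneralizedCharacter P η) (hst : FSt p P c (ext0 P η)) {χ : G → ℂ}
    (hχ : IsCharacter G χ) :
    IsGeneralizedCharacter G (star p M (HF p P c (ext0 P η)) χ) :=
  star_gen hM (HF_gdata hM hB hmx hη hst) hχ

/-- membership in the block in terms of `Mv` -/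
theorem of_mv {B : MonoidAlgebra (kM M) G} [CharP (kM M) p] (hB : IsBlk ⊤ B)
    {P : Subgroup G} {c : MonoidAlgebra (kM M) G} (hmx : IsMx p ⊤ B P c) {u x : G}
    {e : MonoidAlgebra (kM M) G} (h : Mv p P c u e x) : Of p ⊤ B (Subgroup.zpowers u) e := by
  have h1 : Of p ⊤ B (cS x (Subgroup.zpowers u)) (cj x e) := (of_iff_of_le hB hmx.1.1 h).1 hmx.1
  have h2 := h1.cj hB (Subgroup.mem_top x⁻¹)
  rwa [cS_inv_cS, cj_inv_cj] at h2

theorem mv_of {B : MonoidAlgebra (kM M) G} [CharP (kM M) p] (hB : IsBlk ⊤ B)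
    {P : Subgroup G} {c : MonoidAlgebra (kM M) G} (hmx : IsMx p ⊤ B P c) {u : G}
    {e : MonoidAlgebra (kM M) G} (h : Of p ⊤ B (Subgroup.zpowers u) e) :
    ∃ x, Mv p P c u e x := by
  obtain ⟨x, _, hx⟩ := hmx.ge hB h
  exact ⟨x, hx⟩

/-- on characters of the block, the contributions outside vanish -/
theorem WW_not_mv (hM : IsPModular p M) {B : Set (IrrCharacter G)} (hB : IsPBlock M B)
    {P : Subgroup G} {c : MonoidAlgebra (kM M) G} (hmx : IsMx p ⊤ (JB M B) P c)
    {χ : IrrCharacter G} (hχ : χ ∈ B) {u : G} {e : MonoidAlgebra (kM M) G}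
    (he : IsBlk (CH ⊤ (Subgroup.zpowers u)) e) (h : ¬ ∃ x, Mv p P c u e x) (ψ : G → ℂ) :
    WW p M u e (χ : G → ℂ) ψ = 0 := by
  haveI := charP_kM hM
  by_cases hu : ∃ k : ℕ, orderOf u = p ^ k
  · apply WW_zero_left hM hB hχ he
    intro hbr
    exact h (mv_of (g_blk hB) hmx ⟨⟨le_top, isPGroup_zp hu, he⟩, hbr⟩)
  · exact WW_eq_zero_of_not hu _ _ _

theorem dv_not_mv (hM : IsPModular p M) {B : Set (IrrCharacter G)} (hB : IsPBlock M B)
    {P : Subgroup G} {c : MonoidAlgebra (kM M) G} (hmx : IsMx p ⊤ (JB M B) P c)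
    {χ : IrrCharacter G} (hχ : χ ∈ B) {u s : G} {e : MonoidAlgebra (kM M) G}
    (he : IsBlk (CH ⊤ (Subgroup.zpowers u)) e) (h : ¬ ∃ x, Mv p P c u e x)
    (hs : pp p (u * s) = u) : dv M u e (χ : G → ℂ) s = 0 := by
  haveI := charP_kM hM
  apply dv_zero hM hB hχ hs he
  intro hbr
  exact h (mv_of (g_blk hB) hmx ⟨⟨le_top, isPGroup_zp (pp_iff.1 hs).1, he⟩, hbr⟩)

end Main

end CfsgLib.Star
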