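import Mathlib
import Cfsg.Agent.EqBase
import Cfsg.Agent.LibStar16

/-!
# Star construction, XVII: weights, stable characters acting on a block (helper18)
-/

set_option autoImplicit false
set_option linter.unusedSectionVars false
set_option linter.style.haveILetI false
set_option linter.unusedSimpArgs false
set_option linter.unusedVariables false

namespace CfsgLib.Star

open Cfsg CfsgLib.GalChar CfsgLib.GalField CfsgLib.BlockReg2 CfsgLib.LocR CfsgLib.BrP
  CfsgLib.Points CfsgLib.PLocalInd CfsgLib.CharBasic CfsgLib.BlockCore CfsgLib.BlockSec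
  CfsgLib.BlockR CfsgLib.BlockIdem CfsgLib.BlockOrth CfsgLib.CharIndA CfsgLib.CharNorm
open scoped ComplexConjugate

universe u

section Weights

variable {k : Type*} [Field k] {G : Type u} [Group G] [Fintype G] {p : ℕ}

open Classical in
/-- the set of elements moving `(u, e)` below `(P, c)` -/
noncomputable def AA (p : ℕ) (P : Subgroup G) (c : MonoidAlgebra k G) (u : G)
    (e : MonoidAlgebra k G) : Finset G := Finset.univ.filter (fun x => Mv p P c u e x)

theorem mem_AA {P : Subgroup G} {c : MonoidAlgebra k G} {u : G} {e : MonoidAlgebra k G} {x : G} :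
    x ∈ AA p P c u e ↔ Mv p P c u e x := by
  classical
  unfold AA
  rw [Finset.mem_filter]
  exact ⟨fun h => h.2, fun h => ⟨Finset.mem_univ _, h⟩⟩

theorem AA_card_conj (P : Subgroup G) (c : MonoidAlgebra k G) (u : G) (e : MonoidAlgebra k G)
    (g : G) : (AA p P c (g * u * g⁻¹) (cj g e)).card = (AA p P c u e).card := by
  classical
  refine Finset.card_bij (fun x _ => x * g) ?_ ?_ ?_
  · intro x hx
    rw [mem_AA, mv_mul] at hx
    exact mem_AA.2 hx
  · intro x _ y _ h
    exact mul_right_cancel h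
  · intro x hx
    refine ⟨x * g⁻¹, ?_, ?_⟩
    · rw [mem_AA, mv_mul, inv_mul_cancel_right]
      exact mem_AA.1 hx
    · rw [inv_mul_cancel_right]

end Weights

section Main

variable {M : Ideal AlgInt} [hPr : M.IsPrime] {G : Type u} [Group G] [Fintype G]
variable {p : ℕ} [hp : Fact p.Prime]

open Classical in
/-- the block of `C(v)` below `(P, c)` -/
noncomputable def ev (p : ℕ) (P : Subgroup G) (c : MonoidAlgebra (kM M) G) (v : G) :
    MonoidAlgebra (kM M) G :=
  if h : ∃ e, LEp p ⊤ (Subgroup.zpowers v, e) (P, c) then h.choose else 0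

variable [hch : CharP (kM M) p]

theorem ev_spec {P : Subgroup G} {c : MonoidAlgebra (kM M) G} (hPc : BP p ⊤ P c) {v : G}
    (hv : v ∈ P) : LEp p ⊤ (Subgroup.zpowers v, ev p P c v) (P, c) := by
  have h : ∃ e, LEp p ⊤ (Subgroup.zpowers v, e) (P, c) :=
    exists_le_pair hPc (by rw [Subgroup.zpowers_le]; exact hv)
  unfold ev
  rw [dif_pos h]
  exact h.choose_spec

theorem ev_mv {P : Subgroup G} {c : MonoidAlgebra (kM M) G} (hPc : BP p ⊤ P c) {v : G}
    (hv : v ∈ P) : Mv p P c v (ev p P c v) 1 := mv_one.2 (ev_spec hPc hv)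

theorem ev_unique {P : Subgroup G} {c e : MonoidAlgebra (kM M) G} (hPc : BP p ⊤ P c) {v : G}
    (h : LEp p ⊤ (Subgroup.zpowers v, e) (P, c)) : e = ev p P c v := by
  have hv : v ∈ P := LEp.le h (Subgroup.mem_zpowers v)
  exact LEp.unique hPc h (ev_spec hPc hv)

theorem ev_bp {P : Subgroup G} {c : MonoidAlgebra (kM M) G} (hPc : BP p ⊤ P c) {v : G}
    (hv : v ∈ P) : BP p ⊤ (Subgroup.zpowers v) (ev p P c v) := (ev_spec hPc hv).bp_left hPc

theorem ev_blk {P : Subgroup G} {c : MonoidAlgebra (kM M) G} (hPc : BP p ⊤ P c) {v : G}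
    (hv : v ∈ P) : IsBlk (CH ⊤ (Subgroup.zpowers v)) (ev p P c v) := (ev_bp hPc hv).blk

theorem ev_mv_conj {P : Subgroup G} {c e : MonoidAlgebra (kM M) G} (hPc : BP p ⊤ P c) {u x : G}
    (h : Mv p P c u e x) : cj x e = ev p P c (x * u * x⁻¹) := by
  apply ev_unique hPc
  rw [← cS_zpowers]
  exact h

open Classical in
/-- the weight formula -/
theorem weights {P : Subgroup G} {c : MonoidAlgebra (kM M) G} (hPc : BP p ⊤ P c)
    (f : G → MonoidAlgebra (kM M) G → ℂ)
    (hinv : ∀ u e x, IsBlk (CH ⊤ (Subgroup.zpowers u)) e → Mv p P c u e x →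
      f (x * u * x⁻¹) (cj x e) = f u e)
    (hzero : ∀ u e, IsBlk (CH ⊤ (Subgroup.zpowers u)) e → (¬ ∃ x, Mv p P c u e x) → f u e = 0) :
    ∑ u : G, ∑ e ∈ bl (kM M) (CH ⊤ (Subgroup.zpowers u)), f u e =
      (Nat.card G : ℂ) * ∑ v : P, f v (ev p P c v) / ((AA p P c (v : G) (ev p P c v)).card : ℂ) := by
  -- first expansion
  have h1 : ∀ u : G, ∀ e ∈ bl (kM M) (CH ⊤ (Subgroup.zpowers u)), f u e =
      ∑ g : G, if Mv p P c u e g then
        f (g * u * g⁻¹) (cj g e) / ((AA p P c (g * u * g⁻¹) (cj g e)).card : ℂ) else 0 := by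
    intro u e he
    rw [mem_bl] at he
    by_cases h : ∃ x, Mv p P c u e x
    · have h2 : ∀ g : G, (if Mv p P c u e g then
        f (g * u * g⁻¹) (cj g e) / ((AA p P c (g * u * g⁻¹) (cj g e)).card : ℂ) else 0) =
          if g ∈ AA p P c u e then f u e / ((AA p P c u e).card : ℂ) else 0 := by
        intro g
        by_cases hg : Mv p P c u e g
        · rw [if_pos hg, if_pos (mem_AA.2 hg), hinv u e g he hg, AA_card_conj]
        · rw [if_neg hg, if_neg (fun h => hg (mem_AA.1 h))]
      simp_rw [h2]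
      rw [Finset.sum_ite_mem, Finset.univ_inter, Finset.sum_const, nsmul_eq_mul]
      obtain ⟨x, hx⟩ := h
      have h3 : ((AA p P c u e).card : ℂ) ≠ 0 := by
        have : 0 < (AA p P c u e).card := Finset.card_pos.2 ⟨x, mem_AA.2 hx⟩
        exact_mod_cast this.ne'
      field_simp
    · rw [hzero u e he h]
      symm
      apply Finset.sum_eq_zero
      intro g _
      rw [if_neg (fun hg => h ⟨g, hg⟩)]
  rw [Finset.sum_congr rfl fun u _ => Finset.sum_congr rfl (h1 u)]
  -- swap
  have h2 : ∀ u : G, ∑ e ∈ bl (kM M) (CH ⊤ (Subgroup.zpowers u)), (∑ g : G, if Mv p P c u e g then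
        f (g * u * g⁻¹) (cj g e) / ((AA p P c (g * u * g⁻¹) (cj g e)).card : ℂ) else 0) =
      ∑ g : G, ∑ e ∈ bl (kM M) (CH ⊤ (Subgroup.zpowers u)), if Mv p P c u e g then
        f (g * u * g⁻¹) (cj g e) / ((AA p P c (g * u * g⁻¹) (cj g e)).card : ℂ) else 0 :=
    fun u => Finset.sum_comm
  rw [Finset.sum_congr rfl fun u _ => h2 u, Finset.sum_comm]
  have h3 : ∀ g : G, (∑ u : G, ∑ e ∈ bl (kM M) (CH ⊤ (Subgroup.zpowers u)), if Mv p P c u e g then
        f (g * u * g⁻¹) (cj g e) / ((AA p P c (g * u * g⁻¹) (cj g e)).card : ℂ) else 0) =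
      ∑ v : P, f v (ev p P c v) / ((AA p P c (v : G) (ev p P c v)).card : ℂ) := by
    intro g
    have h4 : ∀ u : G, (∑ e ∈ bl (kM M) (CH ⊤ (Subgroup.zpowers u)), if Mv p P c u e g then
        f (g * u * g⁻¹) (cj g e) / ((AA p P c (g * u * g⁻¹) (cj g e)).card : ℂ) else 0) =
        (fun v => ∑ e ∈ bl (kM M) (CH ⊤ (Subgroup.zpowers v)), if Mv p P c v e 1 then
          f v e / ((AA p P c v e).card : ℂ) else 0) ((MulAut.conj g).toEquiv u) := by
      intro u
      have e0 : (MulAut.conj g).toEquiv u = g * u * g⁻¹ := rfl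
      rw [e0]
      show _ = ∑ e ∈ bl (kM M) (CH ⊤ (Subgroup.zpowers (g * u * g⁻¹))), _
      rw [bl_conj (p := p) g u, Finset.sum_image (fun a _ b _ h => cj_injective g h)]
      refine Finset.sum_congr rfl fun e _ => ?_
      have h5 : Mv p P c (g * u * g⁻¹) (cj g e) 1 ↔ Mv p P c u e g := by
        rw [mv_mul, one_mul]
      simp only [h5]
    simp_rw [h4]
    rw [Equiv.sum_comp (MulAut.conj g).toEquiv (fun v =>
      ∑ e ∈ bl (kM M) (CH ⊤ (Subgroup.zpowers v)), if Mv p P c v e 1 then
          f v e / ((AA p P c v e).card : ℂ) else 0)]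
    haveI := Fintype.ofFinite P
    rw [← sum_subgroup (T := P) (fun v =>
      ∑ e ∈ bl (kM M) (CH ⊤ (Subgroup.zpowers v)), if Mv p P c v e 1 then
          f v e / ((AA p P c v e).card : ℂ) else 0) (fun v hv => by
        apply Finset.sum_eq_zero
        intro e _
        rw [if_neg]
        intro h
        have := h.mem
        rw [one_mul, inv_one, mul_one] at this
        exact hv this)]
    have h6 : ∀ v : P, (∑ e ∈ bl (kM M) (CH ⊤ (Subgroup.zpowers (v : G))), if Mv p P c v e 1 then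
          f v e / ((AA p P c (v : G) e).card : ℂ) else 0) =
        f v (ev p P c v) / ((AA p P c (v : G) (ev p P c v)).card : ℂ) := by
      intro v
      rw [Finset.sum_eq_single (ev p P c v)]
      · rw [if_pos (ev_mv hPc v.2)]
      · intro e _ hne
        rw [if_neg]
        intro h
        exact hne (ev_unique hPc (mv_one.1 h))
      · intro h
        exact absurd (mem_bl.2 (ev_blk hPc v.2)) h
    convert Finset.sum_congr rfl fun v _ => h6 v
  rw [Finset.sum_congr rfl fun g _ => h3 g, Finset.sum_const, Finset.card_univ, nsmul_eq_mul,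
    Nat.card_eq_fintype_card]

/-- normalized contribution -/
noncomputable def GG (p : ℕ) [Fact p.Prime] (P : Subgroup G) (c : MonoidAlgebra (kM M) G)
    (χ ψ : G → ℂ) (v : P) : ℂ :=
  (Nat.card P : ℂ) * WW p M (v : G) (ev p P c v) χ ψ / ((AA p P c (v : G) (ev p P c v)).card : ℂ)

/-- inner products of star functions as inner products on the defect group -/
theorem inner_star_GG (hM : IsPModular p M) {B : Set (IrrCharacter G)} (hB : IsPBlock M B)
    {P : Subgroup G} [Fintype P] {c : MonoidAlgebra (kM M) G} (hmx : IsMx p ⊤ (JB M B) P c)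
    {η η' : G → ℂ} (hη : FSt p P c η) (hη' : FSt p P c η') {χ : IrrCharacter G} (hχ : χ ∈ B)
    {ψ : G → ℂ} (hψ : IsClassFunction G ψ) :
    classInner (star p M (HF p P c η) (χ : G → ℂ)) (star p M (HF p P c η') ψ) =
      (Nat.card P : ℂ)⁻¹ * ∑ v : P, η v * conj (η' v) * GG p P c (χ : G → ℂ) ψ v := by
  classical
  have hPc := hmx.1.1
  rw [inner_star hM (irr_classFun χ.2) hψ, weights hPc (fun u e => HF p P c η u e *
    conj (HF p P c η' u e) * WW p M u e (χ : G → ℂ) ψ)]
  · have hG : (Nat.card G : ℂ) ≠ 0 := by exact_mod_cast Nat.card_pos.ne'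
    have hP : (Nat.card P : ℂ) ≠ 0 := by exact_mod_cast Nat.card_pos.ne'
    rw [inv_mul_cancel_left₀ hG, Finset.mul_sum]
    have h1 : ∀ v : P, HF p P c η v (ev p P c v) * conj (HF p P c η' v (ev p P c v)) *
        WW p M (v : G) (ev p P c v) (χ : G → ℂ) ψ /
          ((AA p P c (v : G) (ev p P c v)).card : ℂ) =
        (Nat.card P : ℂ)⁻¹ * (η v * conj (η' v) * GG p P c (χ : G → ℂ) ψ v) := by
      intro v
      have h2 := ev_mv hPc v.2
      rw [HF_of hη h2, HF_of hη' h2, one_mul, inv_one, mul_one]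
      unfold GG
      field_simp
    convert Finset.sum_congr rfl fun v _ => h1 v
  · intro u e x he hx
    have h3 : Mv p P c (x * u * x⁻¹) (cj x e) 1 := by rw [mv_mul, one_mul]; exact hx
    rw [WW_conj hM (irr_classFun χ.2) hψ u he x, HF_of hη hx, HF_of hη' hx, HF_of hη h3,
      HF_of hη' h3]
    simp
  · intro u e he h
    rw [WW_not_mv hM hB hmx hχ he h, mul_zero]

end Main

end CfsgLib.Star
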