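import Mathlib
import Cfsg.Agent.EqBase
import Cfsg.Agent.LibStar17
import Cfsg.Agent.LibBrP20
import Cfsg.Agent.LibBrP13
import Cfsg.Agent.LibCar1
import Cfsg.Agent.LibCar2

/-!
# Star construction, XVIII: nilpotent blocks (helper18)
-/

set_option autoImplicit false
set_option linter.unusedSectionVars false
set_option linter.style.haveILetI false
set_option linter.unusedSimpArgs false
set_option linter.unusedVariables false

namespace CfsgLib.Star

open Cfsg CfsgLib.GalChar CfsgLib.GalField CfsgLib.BlockReg CfsgLib.BlockReg2 CfsgLib.LocR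
  CfsgLib.BrP CfsgLib.Car CfsgLib.BlockQP CfsgLib.BlockDefect
  CfsgLib.Points CfsgLib.PLocalInd CfsgLib.CharBasic CfsgLib.BlockCore CfsgLib.BlockSec
  CfsgLib.BlockR CfsgLib.BlockIdem CfsgLib.BlockOrth CfsgLib.CharIndA CfsgLib.CharNorm
open scoped ComplexConjugate

universe u

/-! ### a rigidity lemma on `p`-groups -/

theorem gen_congr_one {M : Ideal AlgInt} {p : ℕ} [Fact p.Prime] (hM : IsPModular p M)
    {P : Type u} [Group P] [Finite P] (hP : IsPGroup p P) {F : P → ℂ}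
    (hF : IsGeneralizedCharacter P F) (v : P) : MemLocalIdeal M (F v - F 1) := by
  have hp := isPrime_of_modular hM
  obtain ⟨a, b, ha, hb, rfl⟩ := hF
  haveI := Fintype.ofFinite P
  have hv : ∃ k : ℕ, orderOf v = p ^ k := IsPGroup.iff_orderOf.1 hP v
  have h1 := char_congr hM ha (Commute.one_right v) hv
  have h2 := char_congr hM hb (Commute.one_right v) hv
  rw [mul_one] at h1 h2
  have h3 : (a - b) v - (a - b) 1 = (a v - a 1) - (b v - b 1) := by
    rw [Pi.sub_apply, Pi.sub_apply]; ring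
  rw [h3]
  exact ideal_sub hp h1 h2

theorem gen_one_of_avg {M : Ideal AlgInt} {p : ℕ} [Fact p.Prime] (hM : IsPModular p M)
    {P : Type u} [Group P] [Fintype P] (hP : IsPGroup p P) {F : P → ℂ}
    (hF : IsGeneralizedCharacter P F) (hpos : ∀ v, ∃ r : ℝ, 0 ≤ r ∧ F v = r) {m : ℤ}
    (h1 : F 1 = m) (hm : ¬ (p : ℤ) ∣ m) (hsum : ∑ v : P, F v = Nat.card P) : ∀ v, F v = 1 := by
  classical
  have hp := isPrime_of_modular hM
  have hne : ∀ v, F v ≠ 0 := by
    intro v h0
    have h2 := gen_congr_one hM hP hF v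
    rw [h0, zero_sub, h1] at h2
    have h3 := ideal_neg h2
    rw [neg_neg] at h3
    exact hm ((ideal_int_iff hM).1 h3)
  choose r hr0 hr using hpos
  have hrpos : ∀ v, 0 < r v := by
    intro v
    rcases (hr0 v).lt_or_eq with h | h
    · exact h
    · exfalso; apply hne v; rw [hr v, ← h]; simp
  -- the product
  have hprod : ∀ σ : ℂ ≃+* ℂ, σ (∏ v ∈ Finset.univ, F v) = ∏ v ∈ Finset.univ, F v := by
    refine prod_fixed_of_closed Finset.univ F fun σ => ?_
    obtain ⟨k, hk, hσ⟩ := exists_k (Nat.card P) Nat.card_pos σ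
    refine ⟨fun v => v ^ k, fun i _ j _ h => (powCoprime hk.symm).injective h,
      fun _ _ => Finset.mem_univ _, fun v _ => ?_⟩
    apply gen_pow_eq hF
    intro z hz
    apply hσ
    obtain ⟨l, hl⟩ := orderOf_dvd_natCard v
    rw [hl, pow_mul, hz, one_pow]
  obtain ⟨n, hn⟩ := exists_int_of_fixed (IsIntegral.prod _ fun v _ => gen_isIntegral hF v) hprod
  have hn2 : (∏ v : P, r v) = (n : ℝ) := by
    have h2 : (∏ v : P, F v) = ((∏ v : P, r v : ℝ) : ℂ) := by
      rw [Complex.ofReal_prod]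
      exact Finset.prod_congr rfl fun v _ => hr v
    rw [h2] at hn
    exact_mod_cast hn
  have hnpos : 0 < (∏ v : P, r v) := Finset.prod_pos fun v _ => hrpos v
  have hn1 : (1 : ℝ) ≤ ∏ v : P, r v := by
    rw [hn2] at hnpos ⊢
    have : 0 < n := by exact_mod_cast hnpos
    exact_mod_cast this
  have hlog : 0 ≤ ∑ v : P, Real.log (r v) := by
    rw [← Real.log_prod (fun v _ => (hrpos v).ne')]
    exact Real.log_nonneg hn1
  have hsumr : ∑ v : P, (r v - 1) = 0 := by
    rw [Finset.sum_sub_distrib, Finset.sum_const, Finset.card_univ, nsmul_eq_mul, mul_one]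
    have h3 : (∑ v : P, (r v : ℂ)) = Nat.card P := by
      rw [← hsum]; exact Finset.sum_congr rfl fun v _ => (hr v).symm
    rw [Nat.card_eq_fintype_card] at h3
    have h4 : (∑ v : P, r v) = (Fintype.card P : ℝ) := by exact_mod_cast h3
    rw [h4, sub_self]
  by_contra hcon
  push Not at hcon
  obtain ⟨v, hv⟩ := hcon
  have hrv : r v ≠ 1 := by
    intro h; apply hv; rw [hr v, h]; simp
  have hlt : ∑ v : P, Real.log (r v) < ∑ v : P, (r v - 1) :=
    Finset.sum_lt_sum (fun w _ => Real.log_le_sub_one_of_pos (hrpos w))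
      ⟨v, Finset.mem_univ v, Real.log_lt_sub_one_of_pos (hrpos v) hrv⟩
  rw [hsumr] at hlt
  linarith

section Main

variable {M : Ideal AlgInt} [hPr : M.IsPrime] {G : Type u} [Group G] [Fintype G]
variable {p : ℕ} [hp : Fact p.Prime] [hch : CharP (kM M) p]

theorem dv_block (hM : IsPModular p M) {B : Set (IrrCharacter G)} (hB : IsPBlock M B)
    {χ : IrrCharacter G} (hχ : χ ∈ B) {s : G} (hs : ¬ p ∣ orderOf s) :
    dv M 1 (JB M B) (χ : G → ℂ) s = (χ : G → ℂ) s := by
  have h1 : pp p (1 * s) = 1 := by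
    rw [one_mul]; exact pp_eq (isPPart_one hs)
  have h0 : CH ⊤ (Subgroup.zpowers (1 : G)) = ⊤ := by
    rw [Subgroup.zpowers_one_eq_bot, CH_bot]
  have hblk : JB M B ∈ bl (kM M) (CH ⊤ (Subgroup.zpowers (1 : G))) := by
    rw [mem_bl, h0]; exact g_blk hB
  have h2 := sum_dv (M := M) (irr_classFun χ.2) (Commute.one_left s)
  rw [one_mul, Finset.sum_eq_single (JB M B)] at h2
  · exact h2
  · intro e he hne
    rw [mem_bl] at he
    apply dv_zero hM hB hχ h1 he
    rw [Subgroup.zpowers_one_eq_bot]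
    have h3 : Br ⊥ (JB M B) = JB M B := by
      apply br_eq_self
      intro g hg
      exfalso
      apply hg
      rw [Subgroup.mem_centralizer_iff]
      intro x hx
      have : x = 1 := hx
      rw [this, one_mul, mul_one]
    rw [h3]
    intro h
    rw [h0] at he
    have := (g_blk hB).orth he hne.symm
    rw [this] at h
    exact he.ne h.symm
  · intro h; exact absurd hblk h

theorem lep_bot {B : MonoidAlgebra (kM M) G} (hB : IsBlk ⊤ B) {P : Subgroup G}
    {c : MonoidAlgebra (kM M) G} (hmx : IsMx p ⊤ B P c) :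
    LEp p ⊤ (Subgroup.zpowers (1 : G), B) (P, c) := by
  rw [Subgroup.zpowers_one_eq_bot]
  exact (of_iff_le hB hmx.1.1).1 hmx.1

theorem ev_one {B : MonoidAlgebra (kM M) G} (hB : IsBlk ⊤ B) {P : Subgroup G}
    {c : MonoidAlgebra (kM M) G} (hmx : IsMx p ⊤ B P c) : ev p P c 1 = B :=
  (ev_unique hmx.1.1 (lep_bot hB hmx)).symm

theorem AA_one {B : MonoidAlgebra (kM M) G} (hB : IsBlk ⊤ B) {P : Subgroup G}
    {c : MonoidAlgebra (kM M) G} (hmx : IsMx p ⊤ B P c) : (AA p P c 1 B).card = Nat.card G := by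
  classical
  have : AA p P c 1 B = Finset.univ := by
    ext x
    rw [mem_AA]
    constructor
    · intro _; exact Finset.mem_univ _
    · intro _
      unfold Mv
      rw [cS_zpowers, mul_one, mul_inv_cancel, fx_iff.1 hB.zh.2 x (Subgroup.mem_top x)]
      exact lep_bot hB hmx
  rw [this, Finset.card_univ, Nat.card_eq_fintype_card]

theorem WW_one (hM : IsPModular p M) {B : Set (IrrCharacter G)} (hB : IsPBlock M B)
    {χ ψ : IrrCharacter G} (hχ : χ ∈ B) (hψ : ψ ∈ B) :
    WW p M 1 (JB M B) (χ : G → ℂ) (ψ : G → ℂ) =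
      (Nat.card G : ℂ) * classInner (reg p (χ : G → ℂ)) (ψ : G → ℂ) := by
  classical
  unfold WW classInner
  have hG : (Nat.card G : ℂ) ≠ 0 := by exact_mod_cast Nat.card_pos.ne'
  rw [mul_inv_cancel_left₀ hG]
  refine Finset.sum_congr rfl fun s _ => ?_
  by_cases hs : p ∣ orderOf s
  · rw [if_neg, reg_not hs, zero_mul]
    intro h
    exact (pp_iff.1 h).2.2 hs
  · rw [if_pos (by rw [one_mul]; exact pp_eq (isPPart_one hs)), reg_of hs,
      dv_block hM hB hχ hs, dv_block hM hB hψ hs]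

theorem GG_one (hM : IsPModular p M) {B : Set (IrrCharacter G)} (hB : IsPBlock M B)
    {P : Subgroup G} [Finite P] {c : MonoidAlgebra (kM M) G} (hmx : IsMx p ⊤ (JB M B) P c)
    {χ ψ : IrrCharacter G} (hχ : χ ∈ B) (hψ : ψ ∈ B) :
    GG p P c (χ : G → ℂ) (ψ : G → ℂ) 1 = mm p B χ ψ := by
  have hG : (Nat.card G : ℂ) ≠ 0 := by exact_mod_cast Nat.card_pos.ne'
  have hcard : Nat.card P = p ^ blockDefect p B :=
    card_defectGroup hM hB ((g_def hM hB).2 (hmx.isDef (g_blk hB)))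
  unfold GG
  have e1 : ((1 : P) : G) = 1 := rfl
  rw [e1, ev_one (g_blk hB) hmx, AA_one (g_blk hB) hmx, WW_one hM hB hχ hψ,
    ← mm_spec hM hB hχ ψ, hcard]
  field_simp

theorem GG_classFun (hM : IsPModular p M) {P : Subgroup G} {c : MonoidAlgebra (kM M) G}
    (hPc : BP p ⊤ P c) {χ ψ : G → ℂ} (hχ : IsClassFunction G χ) (hψ : IsClassFunction G ψ) :
    IsClassFunction P (GG p P c χ ψ) := by
  intro v z
  have h1 : cj (z : G) (ev p P c (v : G)) = ev p P c ((z : G) * v * (z : G)⁻¹) := by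
    apply ev_mv_conj hPc
    have := (ev_spec hPc v.2).cj' (Subgroup.mem_top (z : G))
    unfold Mv
    dsimp only at this
    rwa [cS_of_mem z.2, (le_TS hPc z.2).2.2] at this
  unfold GG
  have e1 : ((z * v * z⁻¹ : P) : G) = (z : G) * v * (z : G)⁻¹ := rfl
  rw [e1, ← h1, WW_conj hM hχ hψ _ (ev_blk hPc v.2), AA_card_conj]

theorem GG_self (P : Subgroup G) [Finite P] (c : MonoidAlgebra (kM M) G) (χ : G → ℂ) (v : P) :
    ∃ r : ℝ, 0 ≤ r ∧ GG p P c χ χ v = r := by
  classical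
  refine ⟨(Nat.card P : ℝ) * (∑ s : G, if pp p ((v : G) * s) = v then
    ‖dv M (v : G) (ev p P c v) χ s‖ ^ 2 else 0) /
      ((AA p P c (v : G) (ev p P c v)).card : ℝ), ?_, ?_⟩
  · apply div_nonneg _ (Nat.cast_nonneg _)
    apply mul_nonneg (Nat.cast_nonneg _)
    apply Finset.sum_nonneg
    intro s _
    split_ifs <;> positivity
  · unfold GG
    rw [WW_self]
    push_cast
    rfl

theorem FSt_const (P : Subgroup G) (c : MonoidAlgebra (kM M) G) (z : ℂ) :
    FSt p P c (fun _ => z) := fun _ _ _ _ _ _ => rfl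

/-- values on `p`-regular elements -/
theorem star_HF_reg (hM : IsPModular p M) {B : Set (IrrCharacter G)} (hB : IsPBlock M B)
    {P : Subgroup G} {c : MonoidAlgebra (kM M) G} (hmx : IsMx p ⊤ (JB M B) P c)
    {η : G → ℂ} (hη : FSt p P c η) {χ : IrrCharacter G} (hχ : χ ∈ B) {s : G}
    (hs : ¬ p ∣ orderOf s) :
    star p M (HF p P c η) (χ : G → ℂ) s = η 1 * (χ : G → ℂ) s := by
  have h1 : pp p (1 * s) = 1 := by rw [one_mul]; exact pp_eq (isPPart_one hs)
  have h2 := star_us (p := p) (M := M) (Hf := HF p P c η) (χ := (χ : G → ℂ))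
    (u := 1) (s := s) ⟨0, by simp⟩ hs (Commute.one_left s)
  have h3 := sum_dv (M := M) (irr_classFun χ.2) (Commute.one_left s)
  rw [one_mul] at h2 h3
  rw [h2, ← h3, Finset.mul_sum]
  refine Finset.sum_congr rfl fun e he => ?_
  rw [mem_bl] at he
  by_cases h : ∃ x, Mv p P c 1 e x
  · obtain ⟨x, hx⟩ := h
    rw [HF_of hη hx, mul_one, mul_inv_cancel]
    unfold dv
    rw [one_mul]
  · rw [dv_not_mv hM hB hmx hχ he h h1, HF_not h]
    ring

theorem star_HF_one (hM : IsPModular p M) {B : Set (IrrCharacter G)} (hB : IsPBlock M B)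
    {P : Subgroup G} {c : MonoidAlgebra (kM M) G} (hmx : IsMx p ⊤ (JB M B) P c)
    {χ : IrrCharacter G} (hχ : χ ∈ B) :
    star p M (HF p P c (fun _ => 1)) (χ : G → ℂ) = (χ : G → ℂ) := by
  conv_rhs => rw [← star_one (p := p) (M := M) (irr_classFun χ.2)]
  funext g
  obtain ⟨u, s, rfl, hus, hu, hs⟩ := exists_us (p := p) g
  rw [star_us hu hs hus, star_us hu hs hus]
  refine Finset.sum_congr rfl fun e he => ?_
  rw [mem_bl] at he
  by_cases h : ∃ x, Mv p P c u e x
  · obtain ⟨x, hx⟩ := h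
    rw [HF_of (FSt_const P c 1) hx]
  · have := dv_not_mv hM hB hmx hχ he h (pp_mul hu hs hus)
    unfold dv at this
    rw [this]
    ring

theorem star_HF_out (hM : IsPModular p M) {B : Set (IrrCharacter G)} (hB : IsPBlock M B)
    {P : Subgroup G} {c : MonoidAlgebra (kM M) G} (hmx : IsMx p ⊤ (JB M B) P c)
    {η : G → ℂ} {χ : IrrCharacter G} (hχ : χ ∈ B) {ψ : IrrCharacter G} (hψ : ψ ∉ B) :
    classInner (star p M (HF p P c η) (χ : G → ℂ)) (ψ : G → ℂ) = 0 := by
  rw [← star_one (p := p) (M := M) (irr_classFun ψ.2), inner_star hM (irr_classFun χ.2)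
    (irr_classFun ψ.2)]
  rw [Finset.sum_eq_zero, mul_zero]
  intro u _
  apply Finset.sum_eq_zero
  intro e he
  rw [mem_bl] at he
  by_cases h : ∃ x, Mv p P c u e x
  · obtain ⟨x, hx⟩ := h
    have hof := of_mv (g_blk hB) hmx hx
    have hB' : IsPBlock M (blockOf M (ψ : G → ℂ)) := ⟨ψ, rfl⟩
    rw [WW_zero_right hM hB' (mem_blockOf_self hPr ψ) he, mul_zero]
    intro hbr
    apply hψ
    have h1 := of_unique (g_blk hB) (g_blk hB') hof ⟨hof.1, hbr⟩
    rw [g_blk_inj hB hB' h1]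
    exact mem_blockOf_self hPr ψ
  · rw [WW_not_mv hM hB hmx hχ he h, mul_zero]

/-- if the star function has norm one and positive degree it is an irreducible character
of the block -/
theorem star_HF_irr (hM : IsPModular p M) {B : Set (IrrCharacter G)} (hB : IsPBlock M B)
    {P : Subgroup G} {c : MonoidAlgebra (kM M) G} (hmx : IsMx p ⊤ (JB M B) P c)
    {η : P → ℂ} (hη : IsGeneralizedCharacter P η) (hst : FSt p P c (ext0 P η))
    {χ : IrrCharacter G} (hχ : χ ∈ B)
    (hn : classInner (star p M (HF p P c (ext0 P η)) (χ : G → ℂ))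
      (star p M (HF p P c (ext0 P η)) (χ : G → ℂ)) = 1) (hpos : 0 < (η 1).re)
    (him : (η 1).im = 0) :
    ∃ ψ : IrrCharacter G, ψ ∈ B ∧ (ψ : G → ℂ) = star p M (HF p P c (ext0 P η)) (χ : G → ℂ) := by
  have hgen := star_HF_gen hM (g_blk hB) hmx hη hst (irr_isCharacter χ.2)
  have h1 : star p M (HF p P c (ext0 P η)) (χ : G → ℂ) 1 = η 1 * (χ : G → ℂ) 1 := by
    rw [star_HF_reg hM hB hmx hst hχ (by rw [orderOf_one]; exact hp.out.not_dvd_one),
      ext0_mem _ P.one_mem]
    rfl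
  have hirr : IsIrrCharacter G (star p M (HF p P c (ext0 P η)) (χ : G → ℂ)) := by
    apply irr_of_gen_norm_one_pos hgen hn
    obtain ⟨n, hn0, hn⟩ := irr_one_nat χ.2
    rw [h1, hn, Complex.mul_re]
    simp only [Complex.natCast_re, Complex.natCast_im, mul_zero, sub_zero]
    exact mul_pos hpos (by exact_mod_cast hn0)
  refine ⟨⟨_, hirr⟩, ?_, rfl⟩
  by_contra hcon
  have h2 := star_HF_out hM hB hmx (η := ext0 P η) hχ hcon
  have h3 : classInner (star p M (HF p P c (ext0 P η)) (χ : G → ℂ))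
      (star p M (HF p P c (ext0 P η)) (χ : G → ℂ)) = 0 := h2
  rw [hn] at h3
  exact one_ne_zero h3

/-! ### nilpotent blocks -/

section Nil

variable [hMx : M.IsMaximal]

theorem FSt_of_inn {P : Subgroup G} {c : MonoidAlgebra (kM M) G} (hPc : BP p ⊤ P c)
    (hinn : Inn' p ⊤ P c) {η : P → ℂ} (hη : IsClassFunction P η) : FSt p P c (ext0 P η) := by
  intro u e x y hx hy
  have h1 : Tn p ⊤ P c (x * y⁻¹) (cS y (Subgroup.zpowers u)) := by
    refine ⟨cj y e, hy, ?_⟩
    rw [cS_cS, cj_cj, inv_mul_cancel_right]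
    exact hx
  obtain ⟨z, hz, h2⟩ := hinn _ (LEp.le hy) _ (Subgroup.mem_top _) h1
  have h3 := h2 (y * u * y⁻¹) (by rw [cS_zpowers]; exact Subgroup.mem_zpowers _)
  have e1 : x * y⁻¹ * (y * u * y⁻¹) * (x * y⁻¹)⁻¹ = x * u * x⁻¹ := by group
  rw [e1] at h3
  rw [ext0_mem _ hx.mem, ext0_mem _ hy.mem]
  have e2 : (⟨x * u * x⁻¹, hx.mem⟩ : P) = ⟨z, hz⟩ * ⟨y * u * y⁻¹, hy.mem⟩ * ⟨z, hz⟩⁻¹ :=
    Subtype.ext h3
  rw [e2, hη]

theorem nil_GG (hM : IsPModular p M) {B : Set (IrrCharacter G)} (hB : IsPBlock M B)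
    {P : Subgroup G} {c : MonoidAlgebra (kM M) G} (hmx : IsMx p ⊤ (JB M B) P c)
    (hinn : Inn' p ⊤ P c)
    {χ : IrrCharacter G} (hχ : χ ∈ B) (h0 : blockHeight p B (χ : G → ℂ) = 0) (v : P) :
    GG p P c (χ : G → ℂ) (χ : G → ℂ) v = 1 := by
  classical
  haveI := Fintype.ofFinite P
  have hPc := hmx.1.1
  have hcl : IsClassFunction P (GG p P c (χ : G → ℂ) (χ : G → ℂ)) :=
    GG_classFun hM hPc (irr_classFun χ.2) (irr_classFun χ.2)
  have hin : ∀ θ : P → ℂ, IsGeneralizedCharacter P θ →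
      classInner (star p M (HF p P c (ext0 P θ)) (χ : G → ℂ)) (χ : G → ℂ) =
      (Nat.card P : ℂ)⁻¹ * ∑ v : P, θ v * GG p P c (χ : G → ℂ) (χ : G → ℂ) v := by
    intro θ hθ
    have hst := FSt_of_inn hPc hinn (gen_classFun hθ)
    conv_lhs => rw [← star_HF_one hM hB hmx hχ]
    rw [star_HF_one hM hB hmx hχ]
    have h1 := inner_star_GG hM hB hmx hst (FSt_const P c 1) hχ (irr_classFun χ.2)
    rw [star_HF_one hM hB hmx hχ] at h1
    rw [h1]
    congr 1
    refine Finset.sum_congr rfl fun v _ => ?_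
    rw [ext0_coe, map_one, mul_one]
  have hreal : ∀ v : P, conj (GG p P c (χ : G → ℂ) (χ : G → ℂ) v) =
      GG p P c (χ : G → ℂ) (χ : G → ℂ) v := by
    intro v
    obtain ⟨r, _, hr⟩ := GG_self (p := p) P c (χ : G → ℂ) v
    rw [hr, Complex.conj_ofReal]
  have hgen : IsGeneralizedCharacter P (GG p P c (χ : G → ℂ) (χ : G → ℂ)) := by
    rw [isGen_iff]
    refine ⟨hcl, fun θ hθ => ?_⟩
    have h1 := gen_inner_int (star_HF_gen hM (g_blk hB) hmx (gen_of_irr hθ)
      (FSt_of_inn hPc hinn (irr_classFun hθ)) (irr_isCharacter χ.2)) (gen_of_irr χ.2)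
    obtain ⟨n, hn⟩ := h1
    refine ⟨n, ?_⟩
    rw [hin θ (gen_of_irr hθ)] at hn
    have h2 := congrArg conj hn
    rw [map_mul, map_inv₀, Complex.conj_natCast, map_sum, map_intCast] at h2
    rw [← h2]
    unfold classInner
    congr 1
    refine Finset.sum_congr rfl fun v _ => ?_
    rw [map_mul, hreal v, mul_comm]
  have hone : GG p P c (χ : G → ℂ) (χ : G → ℂ) 1 = mm p B χ χ := GG_one hM hB hmx hχ hχ
  have hnd : ¬ (p : ℤ) ∣ mm p B χ χ := by
    have := mm_not_dvd hM hB hχ h0 hχ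
    rw [h0, zero_add, pow_one] at this
    exact this
  refine gen_one_of_avg hM hPc.pg hgen (GG_self P c _) hone hnd ?_ v
  have h3 := hin (fun _ => 1) (gen_of_char isCharacter_one)
  have h4 := inner_star_GG hM hB hmx (FSt_const P c 1) (FSt_const P c 1) hχ (irr_classFun χ.2)
  rw [star_HF_one hM hB hmx hχ, (irr_iff_norm_one.mp χ.2).2] at h4
  have hP : (Nat.card P : ℂ) ≠ 0 := by exact_mod_cast Nat.card_pos.ne'
  have h5 := congrArg (fun z => (Nat.card P : ℂ) * z) h4
  simp only [mul_one, map_one] at h5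
  rw [mul_inv_cancel_left₀ hP] at h5
  simp only [one_mul] at h5
  exact h5.symm

end Nil

end Main

end CfsgLib.Star
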