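import Mathlib
import Cfsg.Agent.EqBase
import Cfsg.Agent.LibStar18

/-!
# Star construction, XIX: Broué–Puig theorem on nilpotent blocks (helper18)
-/

set_option autoImplicit false
set_option linter.unusedSectionVars false
set_option linter.style.haveILetI false
set_option linter.unusedSimpArgs false
set_option linter.unusedVariables false

namespace CfsgLib.Star

open Cfsg CfsgLib.GalChar CfsgLib.GalField CfsgLib.BlockReg CfsgLib.BlockReg2 CfsgLib.LocR
  CfsgLib.BrP CfsgLib.Car CfsgLib.BlockQP CfsgLib.BlockDefect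
  CfsgLib.Points CfsgLib.PLocalInd CfsgLib.CharBasic CfsgLib.BlockCore CfsgLib.BlockSec
  CfsgLib.BlockR CfsgLib.BlockIdem CfsgLib.BlockOrth CfsgLib.CharIndA CfsgLib.CharNorm
open scoped ComplexConjugate

universe u

/-- heights from degree factorizations -/
theorem height_of_mul {G : Type u} [Group G] [Finite G] {p : ℕ} [hp : Fact p.Prime]
    {B : Set (IrrCharacter G)} {χ ψ : IrrCharacter G} (hχ : χ ∈ B)
    (h0 : blockHeight p B (χ : G → ℂ) = 0) {n : ℕ} (hn : n ≠ 0)
    (h : charDegree (ψ : G → ℂ) = n * charDegree (χ : G → ℂ)) :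
    blockHeight p B (ψ : G → ℂ) = n.factorization p := by
  unfold blockHeight at h0 ⊢
  have hc : charDegree (χ : G → ℂ) ≠ 0 := (CfsgLib.CharInt.irr_charDegree_pos χ.2).ne'
  have h1 : sInf ((fun ψ : IrrCharacter G => (charDegree (ψ : G → ℂ)).factorization p) '' B) ≤
      (charDegree (χ : G → ℂ)).factorization p := Nat.sInf_le ⟨χ, hχ, rfl⟩
  rw [h, Nat.factorization_mul hn hc, Finsupp.add_apply]
  omega

section Main

variable {M : Ideal AlgInt} {G : Type u} [Group G] [Fintype G]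
variable {p : ℕ} [hp : Fact p.Prime]

theorem nil_main (hM : IsPModular p M) {B : Set (IrrCharacter G)}
    (hnil : IsNilpotentBlock p M B) {P : Subgroup G} (hP : IsDefectGroup p M B P) :
    ∃ χ₀ : IrrCharacter G, χ₀ ∈ B ∧ blockHeight p B (χ₀ : G → ℂ) = 0 ∧
      ∃ Φ : IrrCharacter P → IrrCharacter G, (∀ η, Φ η ∈ B) ∧ Function.Injective Φ ∧
        (∀ ψ ∈ B, ∃ η, Φ η = ψ) ∧ ∀ (η : IrrCharacter P) (s : G), ¬ p ∣ orderOf s →
          (Φ η : G → ℂ) s = (η : P → ℂ) 1 * (χ₀ : G → ℂ) s := by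
  classical
  haveI hPr : M.IsPrime := isPrime_of_modular hM
  haveI : M.IsMaximal := hM.2.1
  haveI := charP_kM hM
  haveI := Fintype.ofFinite P
  have hB : IsPBlock M B := hnil.1
  -- a maximal pair
  have hdef : IsDef p ⊤ (JB M B) P := (g_def hM hB).1 hP
  obtain ⟨c, hc⟩ := exists_of_br_ne (g_blk hB) hdef.le hdef.pg hdef.br
  have hmx : IsMx p ⊤ (JB M B) P c := isMx_of_isDef (g_blk hB) hdef hc
  have hPc := hmx.1.1
  have hinn : Inn' p ⊤ P c := inn_of_nilp (g_blk hB) hmx ((nilp_iff_g hM hB).1 hnil)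
  obtain ⟨χ, hχ, h0⟩ := exists_height_zero hM hB
  have h0' : blockHeight p B (χ : G → ℂ) = 0 := (height_zero_iff hM hB hχ).2 h0
  have hGG := nil_GG hM hB hmx hinn hχ h0'
  have hst : ∀ η : IrrCharacter P, FSt p P c (ext0 P (η : P → ℂ)) := fun η =>
    FSt_of_inn hPc hinn (irr_classFun η.2)
  have hin : ∀ η η' : IrrCharacter P,
      classInner (star p M (HF p P c (ext0 P (η : P → ℂ))) (χ : G → ℂ))
        (star p M (HF p P c (ext0 P (η' : P → ℂ))) (χ : G → ℂ)) =
      classInner (η : P → ℂ) (η' : P → ℂ) := by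
    intro η η'
    rw [inner_star_GG hM hB hmx (hst η) (hst η') hχ (irr_classFun χ.2)]
    unfold classInner
    congr 1
    refine Finset.sum_congr rfl fun v _ => ?_
    rw [hGG v, mul_one, ext0_coe, ext0_coe]
  have hex : ∀ η : IrrCharacter P, ∃ ψ : IrrCharacter G, ψ ∈ B ∧
      (ψ : G → ℂ) = star p M (HF p P c (ext0 P (η : P → ℂ))) (χ : G → ℂ) := by
    intro η
    obtain ⟨n, hn0, hn⟩ := irr_one_nat η.2
    refine star_HF_irr hM hB hmx (gen_of_irr η.2) (hst η) hχ ?_ ?_ ?_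
    · rw [hin, (irr_iff_norm_one.mp η.2).2]
    · rw [hn]; simpa using hn0
    · rw [hn]; simp
  choose Φ hΦB hΦ using hex
  refine ⟨χ, hχ, h0', Φ, hΦB, ?_, ?_, ?_⟩
  · intro η η' h
    by_contra hne
    have h1 := hin η η'
    rw [← hΦ, ← hΦ, h, (irr_iff_norm_one.mp (Φ η').2).2, irr_inner η.2 η'.2,
      if_neg (fun h => hne (Subtype.ext h))] at h1
    exact one_ne_zero h1
  · intro ψ hψ
    by_contra hcon
    push Not at hcon
    have hcl : IsClassFunction P (GG p P c (χ : G → ℂ) (ψ : G → ℂ)) :=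
      GG_classFun hM hPc (irr_classFun χ.2) (irr_classFun ψ.2)
    have hz : ∀ η : IrrCharacter P, ∑ v : P, (η : P → ℂ) v *
        GG p P c (χ : G → ℂ) (ψ : G → ℂ) v = 0 := by
      intro η
      have h1 := inner_star_GG hM hB hmx (hst η) (FSt_const P c 1) hχ (irr_classFun ψ.2)
      rw [star_HF_one hM hB hmx hψ, ← hΦ, irr_inner (Φ η).2 ψ.2,
        if_neg (fun h => hcon η (Subtype.ext h))] at h1
      have hP' : (Nat.card P : ℂ) ≠ 0 := by exact_mod_cast Nat.card_pos.ne'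
      have h2 := congrArg (fun z => (Nat.card P : ℂ) * z) h1
      simp only [mul_zero] at h2
      rw [mul_inv_cancel_left₀ hP'] at h2
      rw [h2]
      refine Finset.sum_congr rfl fun v _ => ?_
      rw [ext0_coe, map_one, mul_one]
    have hzero : ∀ v : P, GG p P c (χ : G → ℂ) (ψ : G → ℂ) v = 0 := by
      intro v
      rw [classFun_expand_apply hcl v]
      refine Finset.sum_eq_zero fun θ _ => ?_
      have h3 : classInner (GG p P c (χ : G → ℂ) (ψ : G → ℂ)) (θ : P → ℂ) = 0 := by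
        have h4 := hz ⟨_, isIrrCharacter_conj θ.2⟩
        unfold classInner
        rw [show (∑ g : P, GG p P c (χ : G → ℂ) (ψ : G → ℂ) g * conj ((θ : P → ℂ) g)) = 0 from ?_,
          mul_zero]
        rw [← h4]
        refine Finset.sum_congr rfl fun g _ => ?_
        exact mul_comm _ _
      rw [h3, zero_mul]
    have h5 := hzero 1
    rw [GG_one hM hB hmx hχ hψ] at h5
    exact mm_ne_zero hM hB hχ h0' hψ (by exact_mod_cast h5)
  · intro η s hs
    rw [hΦ, star_HF_reg hM hB hmx (hst η) hχ hs, ext0_mem _ P.one_mem]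
    rfl

theorem nil_S4689 (hM : IsPModular p M) {B : Set (IrrCharacter G)}
    (hnil : IsNilpotentBlock p M B) : blockRank p B = 1 ∧ ∃ χ₀ ∈ B, ∀ χ ∈ B, ∃ d : ℕ, ∀ x : G,
      pRegularPart p (χ : G → ℂ) x = (d : ℂ) * pRegularPart p (χ₀ : G → ℂ) x := by
  classical
  have hPr : M.IsPrime := isPrime_of_modular hM
  have hB : IsPBlock M B := hnil.1
  obtain ⟨P, hP⟩ := CfsgLib.BlockIdeal.exists_defectGroup hM hB
  obtain ⟨χ₀, h0, _, Φ, hΦB, _, hsurj, hval⟩ := nil_main hM hnil hP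
  have key : ∀ χ ∈ B, ∃ d : ℕ, ∀ x : G,
      pRegularPart p (χ : G → ℂ) x = (d : ℂ) * pRegularPart p (χ₀ : G → ℂ) x := by
    intro χ hχ
    obtain ⟨η, rfl⟩ := hsurj χ hχ
    obtain ⟨n, _, hn⟩ := irr_one_nat η.2
    refine ⟨n, fun x => ?_⟩
    unfold pRegularPart
    by_cases hx : IsPRegular p x
    · rw [if_pos hx, if_pos hx, hval η x hx, hn]
    · rw [if_neg hx, if_neg hx, mul_zero]
  refine ⟨?_, χ₀, h0, key⟩
  unfold blockRank
  have h1 : Submodule.span ℂ ((fun χ : IrrCharacter G => pRegularPart p (χ : G → ℂ)) '' B) =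
      Submodule.span ℂ {pRegularPart p (χ₀ : G → ℂ)} := by
    apply le_antisymm
    · rw [Submodule.span_le]
      rintro _ ⟨χ, hχ, rfl⟩
      obtain ⟨d, hd⟩ := key χ hχ
      rw [SetLike.mem_coe, Submodule.mem_span_singleton]
      exact ⟨d, funext fun x => (hd x).symm⟩
    · rw [Submodule.span_singleton_le_iff_mem]
      exact Submodule.subset_span ⟨χ₀, h0, rfl⟩
  rw [h1]
  apply finrank_span_singleton
  intro h
  have h2 := congrFun h 1
  unfold pRegularPart at h2
  rw [if_pos (show IsPRegular p (1 : G) by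
    unfold IsPRegular; rw [orderOf_one]; exact hp.out.not_dvd_one)] at h2
  exact irr_one_ne_zero χ₀.2 h2

theorem nil_S4690 (hM : IsPModular p M) {B : Set (IrrCharacter G)}
    (hnil : IsNilpotentBlock p M B) {P : Subgroup G} (hP : IsDefectGroup p M B P) :
    ∃ Φ : B ≃ IrrCharacter P, ∀ χ : B, blockHeight p B ((χ : IrrCharacter G) : G → ℂ) =
      (charDegree ((Φ χ : IrrCharacter P) : P → ℂ)).factorization p := by
  classical
  have hPr : M.IsPrime := isPrime_of_modular hM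
  obtain ⟨χ₀, h0, hh, Φ, hΦB, hinj, hsurj, hval⟩ := nil_main hM hnil hP
  let Ψ : IrrCharacter P ≃ B := Equiv.ofBijective (fun η => ⟨Φ η, hΦB η⟩)
    ⟨fun a b h => hinj (congrArg Subtype.val h), fun χ => by
      obtain ⟨η, hη⟩ := hsurj χ.1 χ.2
      exact ⟨η, Subtype.ext hη⟩⟩
  refine ⟨Ψ.symm, fun χ => ?_⟩
  obtain ⟨η, rfl⟩ := Ψ.surjective χ
  rw [Equiv.symm_apply_apply]
  refine height_of_mul h0 hh (CfsgLib.CharInt.irr_charDegree_pos η.2).ne' ?_
  have h1 := hval η 1 (by rw [orderOf_one]; exact hp.out.not_dvd_one)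
  rw [CfsgLib.CharInt.irr_one_eq_charDegree (Φ η).2, CfsgLib.CharInt.irr_one_eq_charDegree η.2,
    CfsgLib.CharInt.irr_one_eq_charDegree χ₀.2] at h1
  exact_mod_cast h1

end Main

end CfsgLib.Star
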