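import Mathlib
import Cfsg.Agent.EqBase
import Cfsg.Agent.LibStar19
import Cfsg.Agent.LibCharBasic3

/-!
# Star construction, XX: linear characters of the defect group acting on a block (helper18)
-/

set_option autoImplicit false
set_option linter.unusedSectionVars false
set_option linter.style.haveILetI false
set_option linter.unusedSimpArgs false
set_option linter.unusedVariables false

namespace CfsgLib.Star

open Cfsg CfsgLib.GalChar CfsgLib.GalField CfsgLib.BlockReg CfsgLib.BlockReg2 CfsgLib.LocR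
  CfsgLib.BrP CfsgLib.Car CfsgLib.BlockQP CfsgLib.BlockDefect
  CfsgLib.Points CfsgLib.PLocalInd CfsgLib.CharBasic CfsgLib.BlockCore CfsgLib.BlockSec
  CfsgLib.BlockR CfsgLib.BlockIdem CfsgLib.BlockOrth CfsgLib.CharIndA CfsgLib.CharNorm
open scoped ComplexConjugate commutatorElement

universe u

section Dual

variable {P : Type u} [Group P] [Finite P]

/-- linear characters trivial on `N` -/
def XN (N : Subgroup P) : Subgroup (P →* ℂˣ) where
  carrier := {f | ∀ x ∈ N, f x = 1}
  mul_mem' := fun {f g} hf hg x hx => by rw [MonoidHom.mul_apply, hf x hx, hg x hx, one_mul]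
  one_mem' := fun x _ => rfl
  inv_mem' := fun {f} hf x hx => by rw [MonoidHom.inv_apply, hf x hx, inv_one]

theorem mem_XN {N : Subgroup P} {f : P →* ℂˣ} : f ∈ XN N ↔ ∀ x ∈ N, f x = 1 := Iff.rfl

theorem normal_of_comm {N : Subgroup P} (hN : commutator P ≤ N) : N.Normal := by
  constructor
  intro n hn g
  have h1 : g * n * g⁻¹ = ⁅g, n⁆ * n := by rw [commutatorElement_def]; group
  rw [h1]
  exact N.mul_mem (hN (Subgroup.commutator_mem_commutator (Subgroup.mem_top _)
    (Subgroup.mem_top _))) hn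

theorem card_XN {N : Subgroup P} (hN : commutator P ≤ N) : Nat.card (XN N) = N.index := by
  haveI hNn : N.Normal := normal_of_comm hN
  have e : (P ⧸ N →* ℂˣ) ≃ XN N :=
    { toFun := fun f => ⟨f.comp (QuotientGroup.mk' N), fun x hx => by
        rw [MonoidHom.comp_apply, QuotientGroup.mk'_apply, (QuotientGroup.eq_one_iff x).2 hx,
          map_one]⟩
      invFun := fun f => QuotientGroup.lift N f.1 (fun x hx => f.2 x hx)
      left_inv := fun f => by
        apply MonoidHom.ext
        intro x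
        induction x using QuotientGroup.induction_on with
        | H z => rfl
      right_inv := fun f => by
        apply Subtype.ext
        apply MonoidHom.ext
        intro x
        rfl }
  rw [← Nat.card_congr e, card_hom]
  have h1 : commutator (P ⧸ N) = ⊥ := by
    rw [commutator_eq_bot_iff_center_eq_top, eq_top_iff]
    rintro x -
    rw [Subgroup.mem_center_iff]
    intro y
    induction x using QuotientGroup.induction_on with
    | H a =>
      induction y using QuotientGroup.induction_on with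
      | H b =>
        rw [← QuotientGroup.mk_mul, ← QuotientGroup.mk_mul, QuotientGroup.eq]
        apply hN
        have : (b * a)⁻¹ * (a * b) = ⁅a⁻¹, b⁻¹⁆ := by
          rw [commutatorElement_def]; group
        rw [this]
        exact Subgroup.commutator_mem_commutator (Subgroup.mem_top _) (Subgroup.mem_top _)
  rw [h1, Subgroup.index_bot]
  rfl

end Dual

theorem dvd_card_of_orbits {X Ω : Type*} [Group X] [MulAction X Ω] [Finite Ω] {m : ℕ}
    (h : ∀ ω : Ω, m ∣ Nat.card (MulAction.orbit X ω)) : m ∣ Nat.card Ω := by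
  classical
  haveI := Fintype.ofFinite Ω
  haveI : Fintype (Quotient (MulAction.orbitRel X Ω)) := Fintype.ofFinite _
  rw [Nat.card_congr (MulAction.selfEquivSigmaOrbits X Ω), Nat.card_sigma]
  exact Finset.dvd_sum fun ω _ => h _

section Main

variable {M : Ideal AlgInt} [hPr : M.IsPrime] {G : Type u} [Group G] [Fintype G]
variable {p : ℕ} [hp : Fact p.Prime] [hch : CharP (kM M) p]

/-- the function of a linear character, extended by zero -/
noncomputable def lx (P : Subgroup G) (f : P →* ℂˣ) : G → ℂ := ext0 P (fun v => (f v : ℂ))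

theorem lx_mem {P : Subgroup G} (f : P →* ℂˣ) {v : G} (hv : v ∈ P) : lx P f v = (f ⟨v, hv⟩ : ℂ) :=
  ext0_mem _ hv

/-- fusion of elements below the maximal pair -/
def Fus (p : ℕ) (P : Subgroup G) (c : MonoidAlgebra (kM M) G) (N : Subgroup P) : Prop :=
  ∀ (v w x : G) (hv : v ∈ P) (hw : w ∈ P), w = x * v * x⁻¹ →
    Tn p ⊤ P c x (Subgroup.zpowers v) → (⟨v, hv⟩ : P)⁻¹ * ⟨w, hw⟩ ∈ N

theorem FSt_lx {P : Subgroup G} {c : MonoidAlgebra (kM M) G} {N : Subgroup P}
    (hfus : Fus p P c N) {f : P →* ℂˣ} (hf : f ∈ XN N) : FSt p P c (lx P f) := by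
  intro u e x y hx hy
  have h1 : Tn p ⊤ P c (x * y⁻¹) (Subgroup.zpowers (y * u * y⁻¹)) := by
    refine ⟨cj y e, ?_, ?_⟩
    · rw [← cS_zpowers]; exact hy
    · rw [← cS_zpowers, cS_cS, cj_cj, inv_mul_cancel_right]
      exact hx
  have h2 := hfus _ _ _ hy.mem hx.mem (by group) h1
  have h3 := hf _ h2
  rw [map_mul, map_inv, inv_mul_eq_one] at h3
  rw [lx_mem f hx.mem, lx_mem f hy.mem, h3]

theorem HF_one_eq {P : Subgroup G} {c : MonoidAlgebra (kM M) G} (u : G)
    (e : MonoidAlgebra (kM M) G) : HF p P c (lx P 1) u e = HF p P c (fun _ => 1) u e := by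
  classical
  unfold HF
  split_ifs with h
  · rw [lx_mem _ h.choose_spec.mem]; rfl
  · rfl

theorem HF_mul_eq {P : Subgroup G} {c : MonoidAlgebra (kM M) G} (f f' : P →* ℂˣ) (u : G)
    (e : MonoidAlgebra (kM M) G) :
    HF p P c (lx P f) u e * HF p P c (lx P f') u e = HF p P c (lx P (f * f')) u e := by
  classical
  unfold HF
  split_ifs with h
  · rw [lx_mem _ h.choose_spec.mem, lx_mem _ h.choose_spec.mem, lx_mem _ h.choose_spec.mem]
    rw [MonoidHom.mul_apply, Units.val_mul]
  · rw [mul_zero]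

theorem lx_norm {P : Subgroup G} (f : P →* ℂˣ) (v : P) : lx P f v * conj (lx P f v) = 1 := by
  rw [lx_mem f v.2]
  have h1 : ((f v : ℂˣ) : ℂ) * conj ((f v : ℂˣ) : ℂ) = 1 := by
    rw [Complex.mul_conj, Complex.normSq_eq_norm_sq]
    have h2 : ‖((f v : ℂˣ) : ℂ)‖ = 1 := by
      have h3 : ((f v : ℂˣ) : ℂ) ^ orderOf v = 1 := by
        rw [← Units.val_pow_eq_pow_val, ← map_pow, pow_orderOf_eq_one, map_one, Units.val_one]
      exact Complex.norm_eq_one_of_pow_eq_one h3 (orderOf_pos v).ne'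
    rw [h2]; simp
  exact h1

theorem lin_norm (hM : IsPModular p M) {B : Set (IrrCharacter G)} (hB : IsPBlock M B)
    {P : Subgroup G} {c : MonoidAlgebra (kM M) G} (hmx : IsMx p ⊤ (JB M B) P c)
    {f : P →* ℂˣ} (hst : FSt p P c (lx P f)) {χ : IrrCharacter G} (hχ : χ ∈ B) :
    classInner (star p M (HF p P c (lx P f)) (χ : G → ℂ))
      (star p M (HF p P c (lx P f)) (χ : G → ℂ)) = 1 := by
  haveI := Fintype.ofFinite P
  rw [inner_star_GG hM hB hmx hst hst hχ (irr_classFun χ.2)]
  have h1 := inner_star_GG hM hB hmx (FSt_const P c 1) (FSt_const P c 1) hχ (irr_classFun χ.2)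
  rw [star_HF_one hM hB hmx hχ, (irr_iff_norm_one.mp χ.2).2] at h1
  rw [h1]
  congr 1
  refine Finset.sum_congr rfl fun v _ => ?_
  rw [lx_norm, map_one, mul_one]

theorem lin_exists (hM : IsPModular p M) {B : Set (IrrCharacter G)} (hB : IsPBlock M B)
    {P : Subgroup G} {c : MonoidAlgebra (kM M) G} (hmx : IsMx p ⊤ (JB M B) P c)
    {f : P →* ℂˣ} (hst : FSt p P c (lx P f)) {χ : IrrCharacter G} (hχ : χ ∈ B) :
    ∃ ψ : IrrCharacter G, ψ ∈ B ∧ (ψ : G → ℂ) = star p M (HF p P c (lx P f)) (χ : G → ℂ) := by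
  haveI := Fintype.ofFinite P
  refine star_HF_irr hM hB hmx (gen_of_char (isCharacter_hom f)) hst hχ
    (lin_norm hM hB hmx hst hχ) ?_ ?_
  · simp
  · simp

/-- the action of a stable linear character -/
noncomputable def la (hM : IsPModular p M) {B : Set (IrrCharacter G)} (hB : IsPBlock M B)
    {P : Subgroup G} {c : MonoidAlgebra (kM M) G} (hmx : IsMx p ⊤ (JB M B) P c)
    {f : P →* ℂˣ} (hst : FSt p P c (lx P f)) {χ : IrrCharacter G} (hχ : χ ∈ B) :
    IrrCharacter G := (lin_exists hM hB hmx hst hχ).choose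

theorem la_mem (hM : IsPModular p M) {B : Set (IrrCharacter G)} (hB : IsPBlock M B)
    {P : Subgroup G} {c : MonoidAlgebra (kM M) G} (hmx : IsMx p ⊤ (JB M B) P c)
    {f : P →* ℂˣ} (hst : FSt p P c (lx P f)) {χ : IrrCharacter G} (hχ : χ ∈ B) :
    la hM hB hmx hst hχ ∈ B := (lin_exists hM hB hmx hst hχ).choose_spec.1

theorem la_eq (hM : IsPModular p M) {B : Set (IrrCharacter G)} (hB : IsPBlock M B)
    {P : Subgroup G} {c : MonoidAlgebra (kM M) G} (hmx : IsMx p ⊤ (JB M B) P c)
    {f : P →* ℂˣ} (hst : FSt p P c (lx P f)) {χ : IrrCharacter G} (hχ : χ ∈ B) :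
    (la hM hB hmx hst hχ : G → ℂ) = star p M (HF p P c (lx P f)) (χ : G → ℂ) :=
  (lin_exists hM hB hmx hst hχ).choose_spec.2

theorem la_reg (hM : IsPModular p M) {B : Set (IrrCharacter G)} (hB : IsPBlock M B)
    {P : Subgroup G} {c : MonoidAlgebra (kM M) G} (hmx : IsMx p ⊤ (JB M B) P c)
    {f : P →* ℂˣ} (hst : FSt p P c (lx P f)) {χ : IrrCharacter G} (hχ : χ ∈ B) {s : G}
    (hs : ¬ p ∣ orderOf s) : (la hM hB hmx hst hχ : G → ℂ) s = (χ : G → ℂ) s := by
  rw [la_eq, star_HF_reg hM hB hmx hst hχ hs, lx_mem f P.one_mem]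
  have : (⟨1, P.one_mem⟩ : P) = 1 := rfl
  rw [this, map_one, Units.val_one, one_mul]

theorem la_height (hM : IsPModular p M) {B : Set (IrrCharacter G)} (hB : IsPBlock M B)
    {P : Subgroup G} {c : MonoidAlgebra (kM M) G} (hmx : IsMx p ⊤ (JB M B) P c)
    {f : P →* ℂˣ} (hst : FSt p P c (lx P f)) {χ : IrrCharacter G} (hχ : χ ∈ B) :
    blockHeight p B (la hM hB hmx hst hχ : G → ℂ) = blockHeight p B (χ : G → ℂ) := by
  have h1 := la_reg hM hB hmx hst hχ (s := 1) (by rw [orderOf_one]; exact hp.out.not_dvd_one)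
  unfold blockHeight charDegree
  rw [h1]

theorem HF_hd (hM : IsPModular p M) {B : Set (IrrCharacter G)} (hB : IsPBlock M B)
    {P : Subgroup G} {c : MonoidAlgebra (kM M) G} (hmx : IsMx p ⊤ (JB M B) P c)
    {f : P →* ℂˣ} (hst : FSt p P c (lx P f)) : HData p (HF p P c (lx P f)) := by
  haveI := Fintype.ofFinite P
  exact HF_hdata hM (g_blk hB) hmx (gen_of_char (isCharacter_hom f)) hst

/-- the action on the characters of given height -/
@[reducible] noncomputable def linAct (hM : IsPModular p M) {B : Set (IrrCharacter G)} (hB : IsPBlock M B)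
    {P : Subgroup G} {c : MonoidAlgebra (kM M) G} (hmx : IsMx p ⊤ (JB M B) P c)
    {N : Subgroup P} (hfus : Fus p P c N) (h : ℕ) :
    MulAction (XN N) {χ : IrrCharacter G // χ ∈ B ∧ blockHeight p B (χ : G → ℂ) = h} where
  smul f χ := ⟨la hM hB hmx (FSt_lx hfus f.2) χ.2.1, la_mem hM hB hmx _ _, by
    rw [la_height]; exact χ.2.2⟩
  one_smul χ := by
    apply Subtype.ext
    apply Subtype.ext
    show (la hM hB hmx (FSt_lx hfus (1 : XN N).2) χ.2.1 : G → ℂ) = _
    rw [la_eq]
    have : HF p P c (lx P ((1 : XN N) : P →* ℂˣ)) = HF p P c (fun _ => (1 : ℂ)) := by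
      funext u e
      exact HF_one_eq u e
    rw [this, star_HF_one hM hB hmx χ.2.1]
  mul_smul f f' χ := by
    apply Subtype.ext
    apply Subtype.ext
    show (la hM hB hmx (FSt_lx hfus (f * f').2) χ.2.1 : G → ℂ) =
      (la hM hB hmx (FSt_lx hfus f.2) (la_mem hM hB hmx (FSt_lx hfus f'.2) χ.2.1) : G → ℂ)
    rw [la_eq, la_eq, la_eq, star_star hM (HF_hd hM hB hmx (FSt_lx hfus f'.2))
      (irr_classFun χ.1.2)]
    congr 1
    funext u e
    exact (HF_mul_eq _ _ u e).symm

/-- divisibility of the number of characters of given height -/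
theorem dvd_height (hM : IsPModular p M) {B : Set (IrrCharacter G)} (hB : IsPBlock M B)
    {P : Subgroup G} {c : MonoidAlgebra (kM M) G} (hmx : IsMx p ⊤ (JB M B) P c)
    {N : Subgroup P} (hfus : Fus p P c N) (hNc : commutator P ≤ N) (W : Subgroup P) (h : ℕ)
    (hW : ∀ χ : IrrCharacter G, χ ∈ B → blockHeight p B (χ : G → ℂ) = h → ∀ w : P, w ∈ W →
      ∃ s : G, pp p ((w : G) * s) = w ∧ dv M (w : G) (ev p P c w) (χ : G → ℂ) s ≠ 0) :
    N.relIndex W ∣ Nat.card {χ : IrrCharacter G // χ ∈ B ∧ blockHeight p B (χ : G → ℂ) = h} := by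
  classical
  haveI hNn : N.Normal := normal_of_comm hNc
  letI := linAct hM hB hmx hfus h
  have hPc := hmx.1.1
  apply dvd_card_of_orbits (X := XN N)
  intro χ
  haveI : Finite (P →* ℂˣ) := by
    apply Nat.finite_of_card_ne_zero
    rw [card_hom]
    exact Subgroup.index_ne_zero_of_finite
  -- the stabilizer
  have hstab : (MulAction.stabilizer (XN N) χ).map (XN N).subtype ≤ XN (N ⊔ W) := by
    rintro _ ⟨f, hf, rfl⟩
    have hfχ : f • χ = χ := hf
    have h1 : star p M (HF p P c (lx P (f : P →* ℂˣ))) ((χ : IrrCharacter G) : G → ℂ) =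
        ((χ : IrrCharacter G) : G → ℂ) := by
      have h2 := congrArg (fun z => ((z : {χ : IrrCharacter G // χ ∈ B ∧
        blockHeight p B (χ : G → ℂ) = h}) : IrrCharacter G)) hfχ
      have h3 := congrArg (fun z : IrrCharacter G => (z : G → ℂ)) h2
      exact (la_eq hM hB hmx (FSt_lx hfus f.2) χ.2.1).symm.trans h3
    have hker : N ⊔ W ≤ (f : P →* ℂˣ).ker := by
      rw [sup_le_iff]
      refine ⟨fun x hx => f.2 x hx, fun w hw => ?_⟩
      rw [MonoidHom.mem_ker]
      obtain ⟨s, hs, hne⟩ := hW χ.1 χ.2.1 χ.2.2 w hw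
      have h4 := dv_star hM (HF_hd hM hB hmx (FSt_lx hfus f.2)) (irr_classFun χ.1.2) hs
        (ev_blk hPc w.2)
      rw [h1, HF_of (FSt_lx hfus f.2) (ev_mv hPc w.2), one_mul, inv_one, mul_one,
        lx_mem _ w.2] at h4
      have h5 : (((f : P →* ℂˣ) ⟨w, w.2⟩ : ℂˣ) : ℂ) = 1 := by
        have h6 : ((((f : P →* ℂˣ) ⟨w, w.2⟩ : ℂˣ) : ℂ) - 1) *
            dv M (w : G) (ev p P c w) ((χ : IrrCharacter G) : G → ℂ) s = 0 := by
          rw [sub_mul, one_mul, ← h4, sub_self]
        rcases mul_eq_zero.1 h6 with h7 | h7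
        · exact sub_eq_zero.1 h7
        · exact absurd h7 hne
      exact Units.ext h5
    exact fun x hx => hker hx
  have hcardS : Nat.card ((MulAction.stabilizer (XN N) χ).map (XN N).subtype) =
      Nat.card (MulAction.stabilizer (XN N) χ) :=
    Nat.card_congr ((MulAction.stabilizer (XN N) χ).equivMapOfInjective (XN N).subtype
      (XN N).subtype_injective).symm.toEquiv
  have hdvd : Nat.card (MulAction.stabilizer (XN N) χ) ∣ Nat.card (XN (N ⊔ W)) := by
    rw [← hcardS]
    exact Subgroup.card_dvd_of_le hstab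
  have horb : Nat.card (MulAction.orbit (XN N) χ) * Nat.card (MulAction.stabilizer (XN N) χ) =
      Nat.card (XN N) := by
    rw [Nat.card_congr (MulAction.orbitEquivQuotientStabilizer (XN N) χ)]
    exact (Subgroup.card_eq_card_quotient_mul_card_subgroup _).symm
  have h1 : Nat.card (XN N) = N.relIndex W * Nat.card (XN (N ⊔ W)) := by
    rw [card_XN hNc, card_XN (hNc.trans le_sup_left), ← Subgroup.relIndex_sup_left (K := N)]
    exact (Subgroup.relIndex_mul_index le_sup_left).symm
  obtain ⟨k, hk⟩ := hdvd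
  refine ⟨k, ?_⟩
  have hpos : 0 < Nat.card (MulAction.stabilizer (XN N) χ) := Nat.card_pos
  apply Nat.eq_of_mul_eq_mul_right hpos
  rw [horb, h1, hk]
  ring

/-- the focal subgroup of the block fusion system -/
theorem fus_focal (hM : IsPModular p M) {B : Set (IrrCharacter G)} {P : Subgroup G}
    {e : Set (IrrCharacter (Subgroup.centralizer (P : Set G)))} (he : IsPBlock M e)
    (hPe : BP p ⊤ P (J M P e)) {F : FusionSystem P} (hF : IsBlockFusionSystemOn p M B P e F) :
    Fus p P (J M P e) (F.focalSubgroup.subgroupOf P) ∧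
      commutator P ≤ F.focalSubgroup.subgroupOf P := by
  constructor
  · intro v w x hv hw hwx hT
    rw [Subgroup.mem_subgroupOf]
    apply Subgroup.subset_closure
    refine ⟨Subgroup.zpowers v, conjHom (Subgroup.zpowers v) x, ⟨v, Subgroup.mem_zpowers v⟩,
      ?_, ?_⟩
    · rw [g_hom hM he hPe hF, fusBP_hom]
      exact ⟨by rw [Subgroup.zpowers_le]; exact hv, x, Subgroup.mem_top x, fun _ => rfl, hT⟩
    · show v⁻¹ * w = v⁻¹ * (x * v * x⁻¹)
      rw [hwx]
  · rw [commutator_def, Subgroup.commutator_le]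
    intro a _ b _
    rw [Subgroup.mem_subgroupOf]
    apply Subgroup.subset_closure
    refine ⟨Subgroup.zpowers ((a : G)⁻¹), conjHom (Subgroup.zpowers ((a : G)⁻¹)) (b : G),
      ⟨(a : G)⁻¹, Subgroup.mem_zpowers _⟩, ?_, ?_⟩
    · apply F.conj_mem
      · rw [Subgroup.zpowers_le]; exact P.inv_mem a.2
      · exact b.2
    · rw [commutatorElement_def]
      show (a : G) * b * (a : G)⁻¹ * (b : G)⁻¹ = ((a : G)⁻¹)⁻¹ * (b * (a : G)⁻¹ * (b : G)⁻¹)
      group

/-- nonvanishing for characters of height zero -/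
theorem dv_ne_zero_height (hM : IsPModular p M) {B : Set (IrrCharacter G)} (hB : IsPBlock M B)
    {P : Subgroup G} {c : MonoidAlgebra (kM M) G} (hmx : IsMx p ⊤ (JB M B) P c)
    {χ : IrrCharacter G} (hχ : χ ∈ B) (h0 : blockHeight p B (χ : G → ℂ) = 0) {w : G}
    (hw : w ∈ P) : ∃ s : G, pp p (w * s) = w ∧ dv M w (ev p P c w) (χ : G → ℂ) s ≠ 0 := by
  have hPc := hmx.1.1
  have hbp := ev_bp hPc hw
  have hwp : ∃ k : ℕ, orderOf w = p ^ k := by
    obtain ⟨j, hj⟩ := IsPGroup.iff_orderOf.1 hPc.pg ⟨w, hw⟩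
    exact ⟨j, by rw [← hj, ← Subgroup.orderOf_coe]⟩
  have hof : Of p ⊤ (JB M B) (Subgroup.zpowers w) (ev p P c w) :=
    (of_iff_of_le (g_blk hB) hPc (ev_spec hPc hw)).1 hmx.1
  have key : ∀ C : Subgroup G, ∀ hC : C = Subgroup.centralizer ({w} : Set G),
      IsBlk C (ev p P c w) → ∃ y : C, ¬ p ∣ orderOf y ∧
        blockPart (bset M C (ev p P c w)) (fun c : C => (χ : G → ℂ) (w * (c : G))) y ≠ 0 := by
    rintro C rfl hblk
    obtain ⟨hb, hbk⟩ := bset_spec (M := M) hblk
    have hind : IsInducedBlock M (Subgroup.centralizer ({w} : Set G))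
        (bset M (Subgroup.centralizer ({w} : Set G)) (ev p P c w)) B := by
      refine br_ind hM (P := Subgroup.zpowers w) hbp.pg (zp_le_cen w) ?_ ?_ hb hB ?_
      · rw [← CfsgLib.BlockOrth.centralizer_zpowers]
        exact centralizer_le_normalizer _
      · rw [CfsgLib.BlockOrth.centralizer_zpowers]
      · rw [hbk]; exact hof.2
    exact broue_puig hM hχ h0 hwp hind
  obtain ⟨y, hy, hne⟩ := key _ (CH_zp w) hbp.blk
  haveI := Fintype.ofFinite (CH ⊤ (Subgroup.zpowers w))
  refine ⟨y, ?_, ?_⟩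
  · apply pp_mul hwp
    · rw [Subgroup.orderOf_coe]; exact hy
    · exact (comm_of_C y.2).symm
  · rw [dv_eq _ (irr_classFun χ.2)]
    exact hne

end Main

end CfsgLib.Star
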