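import Mathlib
import Cfsg.Agent.EqBase
import Cfsg.Agent.LibStar20
import Cfsg.Agent.LibBlockFR

/-!
# Star construction, XXII: major subsections (helper18)
-/

set_option autoImplicit false
set_option linter.unusedSectionVars false
set_option linter.style.haveILetI false
set_option linter.unusedSimpArgs false
set_option linter.unusedVariables false

namespace CfsgLib.Star

open CfsgLib.CharInt hiding irr_isCharacter irr_classFun irr_one_ne_zero schur_scalar
open Cfsg CfsgLib.CharInt2 CfsgLib.CharBasic CfsgLib.BlockR CfsgLib.BlockCore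
  CfsgLib.BlockIdem CfsgLib.BlockIdeal CfsgLib.BlockConj CfsgLib.BlockBrauer CfsgLib.BlockInd
  CfsgLib.BlockFMT CfsgLib.BlockFMT2 CfsgLib.PLocalInd CfsgLib.BlockOrth CfsgLib.BlockDefect
  CfsgLib.BlockReg CfsgLib.BlockReg2 CfsgLib.BlockCount CfsgLib.BlockCount2 CfsgLib.BlockQP
  CfsgLib.BlockCov3 CfsgLib.BlockCov4 CfsgLib.BlockLoc CfsgLib.BlockM CfsgLib.BlockH
  CfsgLib.BlockH2 CfsgLib.BlockSec CfsgLib.CharNorm CfsgLib.CharIndA
open scoped ComplexConjugate Pointwise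

universe u

variable {M : Ideal AlgInt} {p : ℕ} [hpp : Fact p.Prime] {G : Type u} [Group G] [Fintype G]

theorem omg_inv_inner {H : Type u} [Group H] [Fintype H] (ψ : IrrCharacter H) (f : H → ℂ) :
    omg (ψ : H → ℂ) (fun h => f h⁻¹) =
      (Nat.card H : ℂ) * classInner f (ψ : H → ℂ) / (ψ : H → ℂ) 1 := by
  unfold omg
  congr 1
  unfold classInner
  rw [mul_inv_cancel_left₀ (by exact_mod_cast Nat.card_pos.ne')]
  rw [← Equiv.sum_comp (Equiv.inv _) (fun h => f h * conj ((ψ : H → ℂ) h))]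
  apply Finset.sum_congr rfl
  intro h _
  rw [Equiv.inv_apply, char_inv_eq_conj (irr_isCharacter ψ.2), Complex.conj_conj]

theorem sum_indFun_mul {H : Subgroup G} [Fintype H] (φ : H → ℂ) {χ : G → ℂ}
    (hχ : IsClassFunction G χ) : ∑ g : G, indFun H φ g * χ g =
      (Nat.card G : ℂ) * ((Nat.card H : ℂ)⁻¹ * ∑ h : H, φ h * χ h) := by
  have h1 := frobenius H φ (χ := fun g => conj (χ g)) (fun g h => by
    show conj (χ _) = conj (χ g)
    rw [hχ])
  unfold classInner at h1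
  simp only [Complex.conj_conj] at h1
  have hG : (Nat.card G : ℂ) ≠ 0 := by exact_mod_cast Nat.card_pos.ne'
  rw [← h1, mul_inv_cancel_left₀ hG]

theorem phi_cf {C : Type u} [Group C] [Fintype C] {xc : C} (hcen : ∀ c : C, c * xc = xc * c)
    (ψ : IrrCharacter C) : IsClassFunction C (fun c : C => conj (reg p (ψ : C → ℂ) (xc⁻¹ * c))) := by
  intro g h
  show conj (reg p (ψ : C → ℂ) (xc⁻¹ * (h * g * h⁻¹))) = conj (reg p (ψ : C → ℂ) (xc⁻¹ * g))
  have e1 : xc⁻¹ * (h * g * h⁻¹) = h * (xc⁻¹ * g) * h⁻¹ := by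
    have h1 : xc⁻¹ * h = h * xc⁻¹ := by
      rw [inv_mul_eq_iff_eq_mul, ← mul_assoc, ← hcen, mul_assoc, mul_inv_cancel, mul_one]
    calc xc⁻¹ * (h * g * h⁻¹) = (xc⁻¹ * h) * g * h⁻¹ := by group
      _ = h * xc⁻¹ * g * h⁻¹ := by rw [h1]
      _ = _ := by group
  have ho : orderOf (h * (xc⁻¹ * g) * h⁻¹) = orderOf (xc⁻¹ * g) :=
    MulEquiv.orderOf_eq (MulAut.conj h) _
  rw [e1]
  congr 1
  by_cases hg : p ∣ orderOf (xc⁻¹ * g)
  · rw [reg_not hg, reg_not (by rw [ho]; exact hg)]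
  · rw [reg_of hg, reg_of (by rw [ho]; exact hg), CharBasic.irr_classFun ψ.2]

theorem phi_ring (hp : M.IsPrime) {C : Type u} [Group C] [Fintype C] {xc : C}
    (ψ : IrrCharacter C) (c : C) : MemLocalRing M (conj (reg p (ψ : C → ℂ) (xc⁻¹ * c))) := by
  by_cases hg : p ∣ orderOf (xc⁻¹ * c)
  · rw [reg_not hg, map_zero]; exact ring_zero hp
  · rw [reg_of hg, ← char_inv_eq_conj (CharBasic.irr_isCharacter ψ.2)]
    exact irr_ring hp ψ _

theorem phi_sum {C : Subgroup G} [Fintype C] (xc : C) (ψ : IrrCharacter C) (χ : G → ℂ) :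
    (Nat.card C : ℂ)⁻¹ * ∑ h : C, conj (reg p (ψ : C → ℂ) (xc⁻¹ * h)) * χ h =
      classInner (reg p (fun c : C => χ ((xc : G) * (c : G)))) (ψ : C → ℂ) := by
  rw [inner_reg_adj]
  unfold classInner
  congr 1
  rw [← Equiv.sum_comp (Equiv.mulLeft xc)
    (fun h => conj (reg p (ψ : C → ℂ) (xc⁻¹ * h)) * χ (h : G))]
  refine Finset.sum_congr rfl fun c _ => ?_
  rw [Equiv.coe_mulLeft, inv_mul_cancel_left, mul_comm]
  rfl

/-- characters of a block do not vanish on major subsections -/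
theorem major_aux (hM : IsPModular p M) {B : Set (IrrCharacter G)} {χ : IrrCharacter G}
    (hχ : χ ∈ B) {C : Subgroup G} [iC : Fintype C] {xc : C}
    (hx : ∃ k : ℕ, orderOf (xc : G) = p ^ k)
    (hcen : ∀ c : C, c * xc = xc * c)
    {b : Set (IrrCharacter C)} (hb : IsInducedBlock M C b B)
    (hd : blockDefect p b = blockDefect p B) :
    ∃ y : C, ¬ p ∣ orderOf y ∧
      blockPart b (fun c : C => (χ : G → ℂ) ((xc : G) * (c : G))) y ≠ 0 := by
  classical
  have hp := isPrime_of_modular hM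
  have hB := hb.2.1
  by_contra hcon
  push Not at hcon
  obtain ⟨ψ, hψ, hψ0⟩ := exists_height_zero hM hb.1
  obtain ⟨χ₀, hχ₀, hχ₀0⟩ := exists_height_zero hM hB
  have h00 : blockHeight p B (χ₀ : G → ℂ) = 0 := (height_zero_iff hM hB hχ₀).2 hχ₀0
  have htc : ∀ χ : IrrCharacter G,
      IsClassFunction C (fun c : C => (χ : G → ℂ) ((xc : G) * (c : G))) := by
    intro χ g h
    have h1 : (h : G) * (xc : G) = (xc : G) * h := congrArg Subtype.val (hcen h)
    show (χ : G → ℂ) ((xc : G) * ((h : G) * g * (h : G)⁻¹)) = (χ : G → ℂ) ((xc : G) * g)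
    have e1 : (xc : G) * ((h : G) * g * (h : G)⁻¹) = (h : G) * ((xc : G) * g) * (h : G)⁻¹ := by
      calc (xc : G) * ((h : G) * g * (h : G)⁻¹) = ((xc : G) * h) * g * (h : G)⁻¹ := by group
        _ = ((h : G) * xc) * g * (h : G)⁻¹ := by rw [h1]
        _ = _ := by group
    rw [e1, CharBasic.irr_classFun χ.2]
  -- vanishing
  have h1 : classInner (reg p (fun c : C => (χ : G → ℂ) ((xc : G) * (c : G)))) (ψ : C → ℂ) = 0 := by
    rw [inner_reg_blockPart hM hb.1 (htc χ) hψ]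
    have h2 : reg p (blockPart b (fun c : C => (χ : G → ℂ) ((xc : G) * (c : G)))) = 0 := by
      funext y
      by_cases hy : p ∣ orderOf y
      · rw [reg_not hy]; rfl
      · rw [reg_of hy, hcon y hy]; rfl
    rw [h2, ci_zero_l]
  -- the class function
  set a : G → ℂ := indFun C (fun c : C => conj (reg p (ψ : C → ℂ) (xc⁻¹ * c))) with ha
  have haR : ∀ g, MemLocalRing M (a g) :=
    CfsgLib.BlockFR.ind_ring_val hp (phi_cf hcen ψ) (phi_ring hp ψ)
  have hac : IsClassFunction G a := ind_classFun C _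
  have hG0 : (Nat.card G : ℂ) ≠ 0 := by exact_mod_cast Nat.card_pos.ne'
  have hC0 : (Nat.card C : ℂ) ≠ 0 := by exact_mod_cast Nat.card_pos.ne'
  have homg : ∀ χ : IrrCharacter G, omg (χ : G → ℂ) a = (Nat.card G : ℂ) *
      classInner (reg p (fun c : C => (χ : G → ℂ) ((xc : G) * (c : G)))) (ψ : C → ℂ) /
        (χ : G → ℂ) 1 := by
    intro χ
    unfold omg
    congr 1
    rw [ha, sum_indFun_mul _ (CharBasic.irr_classFun χ.2), phi_sum]
  have hχ0 : omg (χ : G → ℂ) a = 0 := by rw [homg, h1, mul_zero, zero_div]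
  have hsame : SameBlock M (χ₀ : G → ℂ) (χ : G → ℂ) := sameBlock_of_mem hp hB hχ₀ hχ
  have h3 := omg_sameBlock hp hsame hac haR
  rw [hχ0, sub_zero, homg] at h3
  -- the unit
  obtain ⟨ϑ, hϑ⟩ : ∃ ϑ : C → ℂ, ϑ = fun c : C => (χ₀ : G → ℂ) ((xc : G) * (c : G)) := ⟨_, rfl⟩
  have hϑc : IsClassFunction C ϑ := by rw [hϑ]; exact htc χ₀
  have hϑv : ∀ c : C, ϑ c = (χ₀ : G → ℂ) ((xc : G) * (c : G)) := fun c => by rw [hϑ]
  rw [← hϑ] at h3
  have hψn : (ψ : C → ℂ) 1 = (charDegree (ψ : C → ℂ) : ℂ) := irr_one_eq_charDegree ψ.2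
  have hχn : (χ₀ : G → ℂ) 1 = (charDegree (χ₀ : G → ℂ) : ℂ) := irr_one_eq_charDegree χ₀.2
  have hψ1 : charDegree (ψ : C → ℂ) ≠ 0 := (irr_charDegree_pos ψ.2).ne'
  have hχ1 : charDegree (χ₀ : G → ℂ) ≠ 0 := (irr_charDegree_pos χ₀.2).ne'
  have hψ1' : (ψ : C → ℂ) 1 ≠ 0 := by rw [hψn]; exact_mod_cast hψ1
  have hχ1' : (χ₀ : G → ℂ) 1 ≠ 0 := by rw [hχn]; exact_mod_cast hχ1
  have hmain : (Nat.card G : ℂ) * classInner (reg p ϑ) (ψ : C → ℂ) / (χ₀ : G → ℂ) 1 =
      (((Nat.card G * charDegree (ψ : C → ℂ) : ℕ) : ℂ) /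
        ((charDegree (χ₀ : G → ℂ) * Nat.card C : ℕ) : ℂ)) *
        omg (ψ : C → ℂ) (fun h => reg p ϑ h⁻¹) := by
    rw [omg_inv_inner ψ (reg p ϑ)]
    push_cast
    rw [← hψn, ← hχn]
    field_simp
  rw [hmain] at h3
  have hval : (charDegree (χ₀ : G → ℂ) * Nat.card C).factorization p =
      (Nat.card G * charDegree (ψ : C → ℂ)).factorization p := by
    rw [Nat.factorization_mul hχ1 Nat.card_pos.ne', Nat.factorization_mul Nat.card_pos.ne' hψ1,
      Finsupp.add_apply, Finsupp.add_apply, hψ0, hχ₀0, hd]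
    ring
  have hrR : MemLocalRing M (((Nat.card G * charDegree (ψ : C → ℂ) : ℕ) : ℂ) /
        ((charDegree (χ₀ : G → ℂ) * Nat.card C : ℕ) : ℂ)) :=
    ring_div_nat hM (mul_ne_zero hχ1 Nat.card_pos.ne') (by rw [hval])
  have hrU : ¬ MemLocalIdeal M (((Nat.card G * charDegree (ψ : C → ℂ) : ℕ) : ℂ) /
        ((charDegree (χ₀ : G → ℂ) * Nat.card C : ℕ) : ℂ)) := by
    rw [ideal_div_nat_iff hM (mul_ne_zero Nat.card_pos.ne' hψ1)
      (mul_ne_zero hχ1 Nat.card_pos.ne'), hval]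
    exact lt_irrefl _
  have hoR : MemLocalRing M (omg (ψ : C → ℂ) (fun h => reg p ϑ h⁻¹)) := by
    refine omg_ring hp ψ (regInv_classFun hϑc) (fun h => ?_)
    by_cases hh : p ∣ orderOf h⁻¹
    · rw [reg_not hh]; exact ring_zero hp
    · rw [reg_of hh, hϑv]
      exact irr_ring hp χ₀ _
  rcases ideal_prime hp hrR hoR h3 with h4 | h4
  · exact hrU h4
  -- compare with the restriction
  have h5 : MemLocalIdeal M (omg (ψ : C → ℂ)
      ((fun h : C => reg p (χ₀ : G → ℂ) (h : G)⁻¹) - (fun h => reg p ϑ h⁻¹))) := by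
    apply omg_ideal hp
    · apply classFun_sub
      · exact res_classFun C (regInv_classFun (p := p) (CharBasic.irr_classFun χ₀.2))
      · exact regInv_classFun hϑc
    · intro h
      rw [Pi.sub_apply]
      by_cases hh : p ∣ orderOf h
      · rw [reg_not (f := (χ₀ : G → ℂ)) (by rw [orderOf_inv, Subgroup.orderOf_coe]; exact hh),
          reg_not (f := ϑ) (by rw [orderOf_inv]; exact hh), sub_zero]
        exact ideal_zero hp
      · rw [reg_of (f := (χ₀ : G → ℂ)) (by rw [orderOf_inv, Subgroup.orderOf_coe]; exact hh),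
          reg_of (f := ϑ) (by rw [orderOf_inv]; exact hh), hϑv]
        apply ideal_sub_comm
        have hc : Commute (xc : G) (h : G)⁻¹ := by
          have h6 : Commute (h : G) (xc : G) := congrArg Subtype.val (hcen h)
          exact h6.symm.inv_right
        exact char_congr hM (CharBasic.irr_isCharacter χ₀.2) hc hx
  rw [omg_sub] at h5
  have h6 : MemLocalIdeal M (omg (ψ : C → ℂ) (fun h : C => reg p (χ₀ : G → ℂ) (h : G)⁻¹)) := by
    have := ideal_add hp h5 h4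
    rwa [sub_add_cancel] at this
  apply pairing_in hM hb hψ hχ₀ h00
  have h7 := pairing_eq (p := p) C χ₀ ψ ((p ^ (Nat.card C).factorization p : ℕ) : ℂ)
  rw [h7]
  exact ideal_mul_left hp (ratio_unit hM).1 h6

theorem major_ne_zero (hM : IsPModular p M) {B : Set (IrrCharacter G)} {χ : IrrCharacter G}
    (hχ : χ ∈ B) {x : G} (hx : ∃ k : ℕ, orderOf x = p ^ k)
    {b : Set (IrrCharacter (Subgroup.centralizer ({x} : Set G)))}
    (hb : IsInducedBlock M (Subgroup.centralizer ({x} : Set G)) b B)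
    (hd : blockDefect p b = blockDefect p B) :
    ∃ y : Subgroup.centralizer ({x} : Set G), ¬ p ∣ orderOf y ∧
      blockPart b (fun c : Subgroup.centralizer ({x} : Set G) => (χ : G → ℂ) (x * (c : G))) y
        ≠ 0 := by
  haveI := Fintype.ofFinite (Subgroup.centralizer ({x} : Set G))
  have hxC : x ∈ Subgroup.centralizer ({x} : Set G) := by
    rw [Subgroup.mem_centralizer_singleton_iff]
  exact major_aux hM hχ (xc := ⟨x, hxC⟩) hx
    (fun c => Subtype.ext (Subgroup.mem_centralizer_singleton_iff.1 c.2)) hb hd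

end CfsgLib.Star
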