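import Mathlib
import Cfsg.Agent.EqBase
import Cfsg.Agent.LibStar22
import Cfsg.Agent.LibBrP9

/-!
# Star construction, XXIII: major subsections for Brauer pairs, S4685 (helper18)
-/

set_option autoImplicit false
set_option linter.unusedSectionVars false
set_option linter.style.haveILetI false
set_option linter.unusedSimpArgs false
set_option linter.unusedVariables false

namespace CfsgLib.Star

open Cfsg CfsgLib.GalChar CfsgLib.GalField CfsgLib.BlockReg CfsgLib.BlockReg2 CfsgLib.LocR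
  CfsgLib.BrP CfsgLib.Car CfsgLib.BlockQP CfsgLib.BlockDefect
  CfsgLib.Points CfsgLib.PLocalInd CfsgLib.CharBasic CfsgLib.BlockCore CfsgLib.BlockSec
  CfsgLib.BlockR CfsgLib.BlockIdem CfsgLib.BlockOrth CfsgLib.CharIndA CfsgLib.CharNorm
open scoped ComplexConjugate

universe u

variable {M : Ideal AlgInt} [hPr : M.IsPrime] {G : Type u} [Group G] [Fintype G]
variable {p : ℕ} [hp : Fact p.Prime] [hch : CharP (kM M) p]

theorem bset_defect (hM : IsPModular p M) {C D : Subgroup G} {e : MonoidAlgebra (kM M) G}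
    (he : IsBlk C e) (hD : IsDef p C e D) : Nat.card D = p ^ blockDefect p (bset M C e) := by
  obtain ⟨hb, hbk⟩ := bset_spec (M := M) he
  have h1 := (h_def' hM hb hD.le).2 (by rw [hbk]; exact hD)
  rw [← card_defectGroup hM hb h1]
  exact (Nat.card_congr (Subgroup.subgroupOfEquivOfLe hD.le).toEquiv).symm

theorem bset_induced (hM : IsPModular p M) {B : Set (IrrCharacter G)} (hB : IsPBlock M B)
    {P : Subgroup G} {c : MonoidAlgebra (kM M) G} (hmx : IsMx p ⊤ (JB M B) P c) {w : G}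
    (hw : w ∈ P) : IsInducedBlock M (CH ⊤ (Subgroup.zpowers w))
      (bset M (CH ⊤ (Subgroup.zpowers w)) (ev p P c w)) B := by
  have hPc := hmx.1.1
  have hbp := ev_bp hPc hw
  obtain ⟨hb, hbk⟩ := bset_spec (M := M) hbp.blk
  have hof : Of p ⊤ (JB M B) (Subgroup.zpowers w) (ev p P c w) :=
    (of_iff_of_le (g_blk hB) hPc (ev_spec hPc hw)).1 hmx.1
  refine br_ind hM (P := Subgroup.zpowers w) hbp.pg ?_ ?_ ?_ hb hB ?_
  · rw [Subgroup.zpowers_le]
    exact mem_C (Commute.refl w)
  · exact inf_le_right.trans (centralizer_le_normalizer _)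
  · rw [CH_top]
  · rw [hbk]; exact hof.2

theorem pel_of {P : Subgroup G} (hP : IsPGroup p P) {w : G} (hw : w ∈ P) :
    ∃ k : ℕ, orderOf w = p ^ k := by
  obtain ⟨j, hj⟩ := IsPGroup.iff_orderOf.1 hP ⟨w, hw⟩
  exact ⟨j, by rw [← hj, ← Subgroup.orderOf_coe]⟩

/-- the defect group of the block of a central element -/
theorem def_central {B : MonoidAlgebra (kM M) G} (hB : IsBlk ⊤ B)
    {P : Subgroup G} {c : MonoidAlgebra (kM M) G} (hmx : IsMx p ⊤ B P c) {w : G}
    (hw : w ∈ P) (hcen : ∀ v ∈ P, v * w = w * v) {D : Subgroup G}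
    (hD : IsDef p (CH ⊤ (Subgroup.zpowers w)) (ev p P c w) D) : Nat.card D = Nat.card P := by
  have hPc := hmx.1.1
  have hPC : P ≤ Subgroup.centralizer ((Subgroup.zpowers w : Subgroup G) : Set G) := by
    intro v hv
    rw [CfsgLib.BlockOrth.centralizer_zpowers]
    exact mem_cen.2 (hcen v hv)
  have hof : Of p ⊤ B (Subgroup.zpowers w) (ev p P c w) :=
    (of_iff_of_le hB hPc (ev_spec hPc hw)).1 hmx.1
  obtain ⟨y, _, h1⟩ := cent_le_defect hPc (ev_spec hPc hw) hD
  rw [inf_eq_left.2 hPC] at h1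
  obtain ⟨x, _, _, h2, _⟩ := exists_cent hB hmx hof hD
  apply le_antisymm
  · have := card_le_of_le (inf_le_left : P ⊓ Subgroup.centralizer
      ((cS x (Subgroup.zpowers w) : Subgroup G) : Set G) ≤ P)
    rw [← h2, card_cS] at this
    exact this
  · have := card_le_of_le h1
    rwa [card_cS] at this

theorem dv_major (hM : IsPModular p M) {B : Set (IrrCharacter G)} (hB : IsPBlock M B)
    {P : Subgroup G} {c : MonoidAlgebra (kM M) G} (hmx : IsMx p ⊤ (JB M B) P c)
    {χ : IrrCharacter G} (hχ : χ ∈ B) {w : G} (hw : w ∈ P) (hcen : ∀ v ∈ P, v * w = w * v) :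
    ∃ s : G, pp p (w * s) = w ∧ dv M w (ev p P c w) (χ : G → ℂ) s ≠ 0 := by
  have hPc := hmx.1.1
  have hblk := ev_blk hPc hw
  haveI := Fintype.ofFinite (CH ⊤ (Subgroup.zpowers w))
  obtain ⟨D, hD⟩ := exists_isDef (p := p) hblk
  have h1 := bset_defect hM hblk hD
  rw [def_central (g_blk hB) hmx hw hcen hD,
    card_defectGroup hM hB ((g_def hM hB).2 (hmx.isDef (g_blk hB)))] at h1
  have h2 : blockDefect p (bset M (CH ⊤ (Subgroup.zpowers w)) (ev p P c w)) = blockDefect p B :=
    (Nat.pow_right_injective hp.out.two_le h1).symm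
  have hwp := pel_of hPc.pg hw
  obtain ⟨y, hy, hne⟩ := major_aux hM hχ
    (xc := (⟨w, mem_C (Commute.refl w)⟩ : CH ⊤ (Subgroup.zpowers w))) hwp
    (fun c => Subtype.ext (comm_of_C c.2)) (bset_induced hM hB hmx hw) h2
  refine ⟨y, ?_, ?_⟩
  · apply pp_mul hwp
    · rw [Subgroup.orderOf_coe]; exact hy
    · exact (comm_of_C y.2).symm
  · rw [dv_eq _ (irr_classFun χ.2)]
    exact hne

omit hPr hch in
theorem s4685 (hM : IsPModular p M) {B : Set (IrrCharacter G)} {P : Subgroup G}
    {e : Set (IrrCharacter (Subgroup.centralizer (P : Set G)))}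
    (hmax : IsMaximalBrauerPair p M B P e) {F : FusionSystem P}
    (hF : IsBlockFusionSystemOn p M B P e F) (h : ℕ) :
    ((P ⊓ Subgroup.centralizer (P : Set G) ⊓ F.focalSubgroup).subgroupOf
      (P ⊓ Subgroup.centralizer (P : Set G))).index ∣
      Nat.card {χ : IrrCharacter G // χ ∈ B ∧ blockHeight p B (χ : G → ℂ) = h} := by
  haveI hPr : M.IsPrime := isPrime_of_modular hM
  haveI := charP_kM hM
  have hB : IsPBlock M B := hmax.1.2.1
  obtain ⟨he, hmx⟩ := (g_mx hM hB).1 hmax
  obtain ⟨h1, h2⟩ := fus_focal hM he hmx.1.1 hF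
  set Z := P ⊓ Subgroup.centralizer (P : Set G) with hZ
  have h3 := dvd_height hM hB hmx h1 h2 (Z.subgroupOf P) h (fun χ hχ h0 w hw =>
    dv_major hM hB hmx hχ w.2 (fun v hv => by
      have h4 : (w : G) ∈ Subgroup.centralizer (P : Set G) :=
        (Subgroup.mem_inf.1 (Subgroup.mem_subgroupOf.1 hw)).2
      exact Subgroup.mem_centralizer_iff.1 h4 v hv))
  have h5 : (F.focalSubgroup.subgroupOf P).relIndex (Z.subgroupOf P) =
      ((Z ⊓ F.focalSubgroup).subgroupOf Z).index := by
    have h6 : (F.focalSubgroup.subgroupOf P).relIndex (Z.subgroupOf P) =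
        F.focalSubgroup.relIndex Z := by
      rw [Subgroup.relIndex_subgroupOf (inf_le_left : Z ≤ P)]
    rw [h6]
    show (F.focalSubgroup.subgroupOf Z).index = _
    rw [Subgroup.inf_subgroupOf_left]
  rw [h5] at h3
  exact h3

end CfsgLib.Star
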