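import Mathlib
import Cfsg.Agent.EqBase
import Cfsg.Agent.LibStar23
import Cfsg.Agent.LibBrP21

/-!
# Star construction, XXIV: abelian defect groups, cyclic defect groups (helper18)
-/

set_option autoImplicit false
set_option linter.unusedSectionVars false
set_option linter.style.haveILetI false
set_option linter.unusedSimpArgs false
set_option linter.unusedVariables false

namespace CfsgLib.Star

open Cfsg CfsgLib.GalChar CfsgLib.GalField CfsgLib.BlockReg CfsgLib.BlockReg2 CfsgLib.LocR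
  CfsgLib.BrP CfsgLib.Car CfsgLib.BlockQP CfsgLib.BlockDefect
  CfsgLib.Points CfsgLib.PLocalInd CfsgLib.CharBasic CfsgLib.BlockCore CfsgLib.BlockSec
  CfsgLib.BlockR CfsgLib.BlockIdem CfsgLib.BlockOrth CfsgLib.CharIndA CfsgLib.CharNorm
open scoped ComplexConjugate

universe u

theorem cyc_comm {G : Type u} [Group G] {P : Subgroup G} (hcyc : IsCyclic P) :
    ∀ x ∈ P, ∀ y ∈ P, x * y = y * x := by
  intro x hx y hy
  obtain ⟨u, hu⟩ := hcyc.exists_generator
  obtain ⟨a, ha⟩ := hu ⟨x, hx⟩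
  obtain ⟨b, hb⟩ := hu ⟨y, hy⟩
  have ha' : ((u : P) : G) ^ a = x := by
    have := congrArg Subtype.val ha; simpa using this
  have hb' : ((u : P) : G) ^ b = y := by
    have := congrArg Subtype.val hb; simpa using this
  rw [← ha', ← hb', ← zpow_add, ← zpow_add, add_comm]

theorem ab_cen {G : Type u} [Group G] {P : Subgroup G} (hab : ∀ x ∈ P, ∀ y ∈ P, x * y = y * x) :
    P ≤ Subgroup.centralizer (P : Set G) := by
  intro x hx
  rw [Subgroup.mem_centralizer_iff]
  intro y hy
  exact hab y hy x hx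

theorem cyc_norm {G : Type u} [Group G] {P Q : Subgroup G} (hcyc : IsCyclic P) (hQP : Q ≤ P) :
    Subgroup.normalizer (P : Set G) ≤ Subgroup.normalizer (Q : Set G) := by
  intro x hx
  apply mem_normalizer_of_cS
  obtain ⟨u, hu⟩ := hcyc.exists_generator
  -- x u x⁻¹ = u ^ a
  have h1 : x * (u : G) * x⁻¹ ∈ P := (Subgroup.mem_normalizer_iff.1 hx u).1 u.2
  obtain ⟨a, ha⟩ := hu ⟨_, h1⟩
  have ha' : (u : G) ^ a = x * (u : G) * x⁻¹ := by
    have := congrArg Subtype.val ha; simpa using this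
  have h2 : ∀ y ∈ P, x * y * x⁻¹ = y ^ a := by
    intro y hy
    obtain ⟨b, hb⟩ := hu ⟨y, hy⟩
    have hb' : (u : G) ^ b = y := by
      have := congrArg Subtype.val hb; simpa using this
    rw [← hb', ← zpow_mul, mul_comm, zpow_mul, ha']
    exact (conj_zpow).symm
  have h3 : (Q.map (MulAut.conj x).toMonoidHom : Subgroup G) ≤ Q := by
    rintro _ ⟨y, hy, rfl⟩
    show x * y * x⁻¹ ∈ Q
    rw [h2 y (hQP hy)]
    exact Q.zpow_mem hy a
  show cS x Q = Q
  by_cases hf : Finite Q
  · exact Subgroup.eq_of_le_of_card_ge h3 (by rw [card_cS])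
  · -- not needed in the finite case
    exact le_antisymm h3 (by
      intro y hy
      have hx' : x⁻¹ ∈ Subgroup.normalizer (P : Set G) := Subgroup.inv_mem _ hx
      have h4 : x⁻¹ * (u : G) * x⁻¹⁻¹ ∈ P := (Subgroup.mem_normalizer_iff.1 hx' u).1 u.2
      obtain ⟨b, hb⟩ := hu ⟨_, h4⟩
      have hb' : (u : G) ^ b = x⁻¹ * (u : G) * x⁻¹⁻¹ := by
        have := congrArg Subtype.val hb; simpa using this
      obtain ⟨d, hd⟩ := hu ⟨y, hQP hy⟩
      have hd' : (u : G) ^ d = y := by
        have := congrArg Subtype.val hd; simpa using this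
      refine ⟨x⁻¹ * y * x⁻¹⁻¹, ?_, ?_⟩
      · show x⁻¹ * y * x⁻¹⁻¹ ∈ Q
        rw [← hd', ← conj_zpow, ← hb', ← zpow_mul, mul_comm, zpow_mul, hd']
        exact Q.zpow_mem hy b
      · show x * (x⁻¹ * y * x⁻¹⁻¹) * x⁻¹ = y
        group)

theorem relIndex_sup {G : Type u} [Group G] {H N : Subgroup G}
    (hN : H ≤ Subgroup.normalizer (N : Set G)) : N.relIndex (H ⊔ N) = N.relIndex H := by
  letI := Subgroup.normal_subgroupOf_of_le_normalizer hN
  letI := Subgroup.normal_subgroupOf_sup_of_le_normalizer hN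
  exact Nat.card_congr (QuotientGroup.quotientInfEquivProdNormalizerQuotient H N hN).toEquiv.symm

section AbSetup

variable {M : Ideal AlgInt} {G : Type u} [Group G] [Fintype G]
variable {p : ℕ} [hp : Fact p.Prime]

/-- abelian defect groups: the Brauer pair of the statement is maximal -/
theorem ab_mx (hM : IsPModular p M) {B : Set (IrrCharacter G)} (hB : IsPBlock M B)
    {P : Subgroup G} (hPD : IsDefectGroup p M B P) (hab : ∀ x ∈ P, ∀ y ∈ P, x * y = y * x)
    {c : Set (IrrCharacter (Subgroup.centralizer (P : Set G)))}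
    (hc : IsInducedBlock M (Subgroup.centralizer (P : Set G)) c B) :
    haveI : M.IsPrime := isPrime_of_modular hM
    IsMx p ⊤ (JB M B) P (J M P c) := by
  haveI hPr : M.IsPrime := isPrime_of_modular hM
  haveI : M.IsMaximal := hM.2.1
  haveI := charP_kM hM
  have hPC := ab_cen hab
  have hD := (g_def hM hB).1 hPD
  have hPp := hD.pg
  have hbr : Br P (JB M B) * J M P c = J M P c :=
    ind_br hM hPp hPC (Subgroup.centralizer_le_normalizer _) le_rfl hc
  have hof : Of p ⊤ (JB M B) P (J M P c) := ⟨(g_bp hc.1).2 hPp, hbr⟩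
  exact isMx_of_isDef (g_blk hB) hD hof

/-- the stabilizer as a subgroup -/
theorem ab_TS (hM : IsPModular p M) {P : Subgroup G}
    {c : Set (IrrCharacter (Subgroup.centralizer (P : Set G)))} (hc : IsPBlock M c)
    {T : Subgroup G} (hT : ∀ g : G, g ∈ T ↔ (g ∈ Subgroup.normalizer (P : Set G) ∧
      StabilizesBlock (Subgroup.centralizer (P : Set G)) c g)) :
    haveI : M.IsPrime := isPrime_of_modular hM
    T = TS ⊤ P (J M P c) := by
  haveI hPr : M.IsPrime := isPrime_of_modular hM
  haveI : M.IsMaximal := hM.2.1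
  ext x
  rw [hT, g_stab hc]

/-- `p`-subgroups of the stabilizer centralize `P` -/
theorem ab_pel (hM : IsPModular p M) {B : Set (IrrCharacter G)} (hB : IsPBlock M B)
    {P : Subgroup G} (hPD : IsDefectGroup p M B P) (hab : ∀ x ∈ P, ∀ y ∈ P, x * y = y * x)
    {c : Set (IrrCharacter (Subgroup.centralizer (P : Set G)))}
    (hc : IsInducedBlock M (Subgroup.centralizer (P : Set G)) c B)
    {T : Subgroup G} (hT : ∀ g : G, g ∈ T ↔ (g ∈ Subgroup.normalizer (P : Set G) ∧
      StabilizesBlock (Subgroup.centralizer (P : Set G)) c g)) :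
    ∀ R : Subgroup G, R ≤ T → IsPGroup p R → R ≤ Subgroup.centralizer (P : Set G) := by
  haveI hPr : M.IsPrime := isPrime_of_modular hM
  haveI : M.IsMaximal := hM.2.1
  haveI := charP_kM hM
  intro R hR hRp
  have h1 := mx_pelem (g_blk hB) (ab_mx hM hB hPD hab hc)
    (by rw [← ab_TS hM hc.1 hT]; exact hR) hRp
  rw [CH_top, sup_eq_right.2 (ab_cen hab)] at h1
  exact h1

/-- cyclic defect groups: elements of the stabilizer fixing a nontrivial element -/
theorem cyc_free (hM : IsPModular p M) {B : Set (IrrCharacter G)} (hB : IsPBlock M B)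
    {P : Subgroup G} (hPD : IsDefectGroup p M B P) (hP1 : P ≠ ⊥) (hcyc : IsCyclic P)
    {c : Set (IrrCharacter (Subgroup.centralizer (P : Set G)))}
    (hc : IsInducedBlock M (Subgroup.centralizer (P : Set G)) c B)
    {T : Subgroup G} (hT : ∀ g : G, g ∈ T ↔ (g ∈ Subgroup.normalizer (P : Set G) ∧
      StabilizesBlock (Subgroup.centralizer (P : Set G)) c g)) :
    ∀ g ∈ T, ∀ x ∈ P, x ≠ 1 → g * x * g⁻¹ = x → g ∈ Subgroup.centralizer (P : Set G) := by
  haveI hPr : M.IsPrime := isPrime_of_modular hM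
  haveI : M.IsMaximal := hM.2.1
  haveI := charP_kM hM
  have hab := cyc_comm hcyc
  have hPp := ((g_def hM hB).1 hPD).pg
  have hTN : T ≤ Subgroup.normalizer (P : Set G) := fun x hx => ((hT x).1 hx).1
  have hcard := act_card hTN (ab_pel hM hB hPD hab hc hT)
  obtain ⟨h1, h2, h3⟩ := cyclic_aut P hPp hcyc hP1 (actHom P T hTN).range hcard
  intro g hg x hx hx1 hgx
  have h4 : actHom P T hTN ⟨g, hg⟩ = 1 := by
    refine h3 _ ⟨_, rfl⟩ ⟨x, hx⟩ (fun h => hx1 (congrArg Subtype.val h)) ?_
    apply Subtype.ext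
    rw [actHom_apply]
    exact hgx
  exact (actHom_eq_one hTN).1 h4

/-- S4645 -/
theorem s4645 (hM : IsPModular p M) {B : Set (IrrCharacter G)} (hB : IsPBlock M B)
    {P : Subgroup G} (hPD : IsDefectGroup p M B P) (hP1 : P ≠ ⊥) (hcyc : IsCyclic P)
    {c : Set (IrrCharacter (Subgroup.centralizer (P : Set G)))}
    (hc : IsInducedBlock M (Subgroup.centralizer (P : Set G)) c B)
    {T : Subgroup G} (hT : ∀ g : G, g ∈ T ↔ (g ∈ Subgroup.normalizer (P : Set G) ∧
      StabilizesBlock (Subgroup.centralizer (P : Set G)) c g))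
    {Q : Subgroup G} (hQP : Q ≤ P) (hQ1 : Q ≠ ⊥)
    {f : Set (IrrCharacter (Subgroup.centralizer (Q : Set G)))}
    (hf : IsInducedBlockIn M (Subgroup.centralizer (Q : Set G))
      (Subgroup.centralizer (P : Set G)) c f)
    {T' : Subgroup G} (hT' : ∀ g : G, g ∈ T' ↔ (g ∈ Subgroup.normalizer (Q : Set G) ∧
      StabilizesBlock (Subgroup.centralizer (Q : Set G)) f g)) :
    T' = T ⊔ Subgroup.centralizer (Q : Set G) ∧
      (Subgroup.centralizer (Q : Set G)).relIndex T' =
        (Subgroup.centralizer (P : Set G)).relIndex T ∧ blockRank p f = 1 ∧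
      IsNilpotentBlock p M f := by
  classical
  haveI hPr : M.IsPrime := isPrime_of_modular hM
  haveI : M.IsMaximal := hM.2.1
  haveI := charP_kM hM
  have hab := cyc_comm hcyc
  have hPp := ((g_def hM hB).1 hPD).pg
  have hmx := ab_mx hM hB hPD hab hc
  have hTS := ab_TS hM hc.1 hT
  have hTS' := ab_TS hM hf.2.1 hT'
  have hle : LEp p ⊤ (Q, J M Q f) (P, J M P c) :=
    (abel_pair hM hPp hab hQP hc.1 hf.2.1).1 hf
  have hTN : T ≤ Subgroup.normalizer (P : Set G) := fun x hx => ((hT x).1 hx).1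
  have hTNQ : T ≤ Subgroup.normalizer (Q : Set G) := hTN.trans (cyc_norm hcyc hQP)
  have hTT : T ≤ T' := by
    intro x hx
    rw [hTS']
    rw [hTS] at hx
    refine mem_TS_of_le hmx.1.1 hle hx ?_
    exact hTNQ (by rw [hTS]; exact hx)
  have hCT : Subgroup.centralizer (Q : Set G) ≤ T' := by
    rw [hTS']
    have h := CH_le_TS (hmx.1.of_le (g_blk hB) hle).1
    rwa [CH_top] at h
  have hCPT : Subgroup.centralizer (P : Set G) ≤ T := by
    rw [hTS]
    have h := CH_le_TS hmx.1.1
    rwa [CH_top] at h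
  have hfree := cyc_free hM hB hPD hP1 hcyc hc hT
  obtain ⟨⟨y, hy⟩, hy1⟩ := (Subgroup.ne_bot_iff_exists_ne_one).1 hQ1
  have hy1' : y ≠ 1 := fun h' => hy1 (Subtype.ext h')
  have hinter : ∀ x ∈ T, x ∈ Subgroup.centralizer (Q : Set G) →
      x ∈ Subgroup.centralizer (P : Set G) := by
    intro x hx hxQ
    refine hfree x hx y (hQP hy) hy1' ?_
    have := Subgroup.mem_centralizer_iff.1 hxQ y hy
    rw [← this, mul_inv_cancel_right]
  have hfirst : T' = T ⊔ Subgroup.centralizer (Q : Set G) := by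
    refine le_antisymm ?_ (sup_le hTT hCT)
    intro x hx
    rw [hTS'] at hx
    obtain ⟨y, hy, d, hd, rfl⟩ := abelian_factor (g_blk hB) hmx hab hle hx
    rw [CH_top] at hd
    rw [← hTS] at hy
    exact Subgroup.mul_mem _ (Subgroup.mem_sup_left hy) (Subgroup.mem_sup_right hd)
  refine ⟨hfirst, ?_, ?_⟩
  · have hTNC : T ≤ Subgroup.normalizer ((Subgroup.centralizer (Q : Set G) : Subgroup G) : Set G) := by
      intro x hx
      apply mem_normalizer_of_cS
      rw [← centralizer_cS, cS_of_normalizer (hTNQ hx)]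
    rw [hfirst, relIndex_sup hTNC, ← Subgroup.inf_relIndex_right]
    have h1 : Subgroup.centralizer (Q : Set G) ⊓ T = Subgroup.centralizer (P : Set G) := by
      apply le_antisymm
      · rintro x ⟨h1, h2⟩; exact hinter x h2 h1
      · exact le_inf (centralizer_anti hQP) hCPT
    rw [h1]
  · have hmx' := isMx_local (g_blk hB) hmx hab hle
    have hnil : IsNilpotentBlock p M f := by
      rw [nilp_iff_h hM hf.2.1]
      have h1 := (nilp_abelian (hmx.1.of_le (g_blk hB) hle).1.blk hmx' hab).2 (by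
        intro x hx
        have hxT : x ∈ T := by
          rw [hTS]; exact ⟨Subgroup.mem_top _, hx.2.1, hx.2.2⟩
        exact hinter x hxT (by have := hx.1; rwa [CH_top] at this))
      rw [CH_top] at h1
      exact h1
    exact ⟨(nil_S4689 hM hnil).1, hnil⟩

end AbSetup

end CfsgLib.Star
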