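import Mathlib
import Cfsg.Agent.EqBase
import Cfsg.Agent.LibStar24
import Cfsg.Agent.LibCar3
import Cfsg.Agent.LibBrP8

/-!
# Star construction, XXV: trace formula (helper18)
-/

set_option autoImplicit false
set_option linter.unusedSectionVars false
set_option linter.style.haveILetI false
set_option linter.unusedSimpArgs false
set_option linter.unusedVariables false

namespace CfsgLib.Star

open Cfsg CfsgLib.GalChar CfsgLib.GalField CfsgLib.BlockReg CfsgLib.BlockReg2 CfsgLib.LocR
  CfsgLib.BrP CfsgLib.Car CfsgLib.BlockQP CfsgLib.BlockDefect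
  CfsgLib.Points CfsgLib.PLocalInd CfsgLib.CharBasic CfsgLib.BlockCore CfsgLib.BlockSec
  CfsgLib.BlockR CfsgLib.BlockIdem CfsgLib.BlockOrth CfsgLib.CharIndA CfsgLib.CharNorm
open scoped ComplexConjugate

universe u

section Transp

variable {K K' : Type u} [Group K] [Finite K] [Group K'] [Finite K']

theorem card_pb (φ : K ≃* K') (f : Set (IrrCharacter K)) : Nat.card (pb φ f) = Nat.card f := by
  rw [pb_eq_image]
  exact Nat.card_image_of_injective (trI_injective φ) f

theorem blockRank_pb (p : ℕ) (φ : K ≃* K') (f : Set (IrrCharacter K)) :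
    blockRank p (pb φ f) = blockRank p f := by
  unfold blockRank
  let L : (K → ℂ) ≃ₗ[ℂ] (K' → ℂ) := LinearEquiv.funCongrLeft ℂ ℂ φ.symm.toEquiv
  have hL : ∀ (a : K → ℂ) (x : K'), L a x = a (φ.symm x) := fun a x => rfl
  have h1 : Submodule.span ℂ ((fun χ : IrrCharacter K' => pRegularPart p (χ : K' → ℂ)) '' pb φ f) =
      (Submodule.span ℂ ((fun χ : IrrCharacter K => pRegularPart p (χ : K → ℂ)) '' f)).map
        (L : (K → ℂ) →ₗ[ℂ] (K' → ℂ)) := by
    rw [Submodule.map_span, pb_eq_image, Set.image_image, Set.image_image]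
    congr 1
    apply Set.image_congr
    intro χ _
    funext x
    show pRegularPart p (trI φ χ : K' → ℂ) x = L (pRegularPart p (χ : K → ℂ)) x
    rw [hL]
    obtain ⟨k, rfl⟩ := φ.surjective x
    rw [MulEquiv.symm_apply_apply]
    have ho : orderOf (φ k) = orderOf k := MulEquiv.orderOf_eq φ k
    have h : IsPRegular p (φ k) ↔ IsPRegular p k := by
      unfold IsPRegular
      rw [ho]
    unfold pRegularPart
    by_cases h' : IsPRegular p k
    · rw [if_pos h', if_pos (h.2 h'), trI_apply]
    · rw [if_neg h', if_neg (fun h'' => h' (h.1 h''))]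
  rw [h1]
  exact LinearEquiv.finrank_map_eq L _

variable {M : Ideal AlgInt} [hPr : M.IsPrime] {G : Type u} [Group G] [Fintype G]

theorem bk_pb' {ι : K →* G} {ι' : K' →* G} (hι : Function.Injective ι)
    (hι' : Function.Injective ι') (φ : K ≃* K') (h : ∀ k, ι' (φ k) = ι k)
    (f : Set (IrrCharacter K)) : bk M ι' (pb φ f) = bk M ι f := by
  have hr : ι.range = ι'.range := by
    ext x
    constructor
    · rintro ⟨k, rfl⟩; exact ⟨φ k, h k⟩
    · rintro ⟨k, rfl⟩
      obtain ⟨k, rfl⟩ := φ.surjective k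
      exact ⟨k, (h k).symm⟩
  refine ext_on hι' (zh_Ph hι' _).1 ?_ fun c => ?_
  · rw [← hr]; exact (zh_Ph hι _).1
  · obtain ⟨d, rfl⟩ := φ.surjective c
    rw [bk_coeff hι', blockCoeff_pb, h, bk_coeff hι]

/-- rank and number of characters of a block are determined by the idempotent -/
theorem inv_of_bk (p : ℕ) {ι : K →* G} {ι' : K' →* G} (hι : Function.Injective ι)
    (hι' : Function.Injective ι') {b : Set (IrrCharacter K)} {b' : Set (IrrCharacter K')}
    (hb : IsPBlock M b) (hb' : IsPBlock M b') (hr : ι.range = ι'.range)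
    (h : bk M ι b = bk M ι' b') : blockRank p b = blockRank p b' ∧ Nat.card b = Nat.card b' := by
  let φ : K ≃* K' := ((MonoidHom.ofInjective hι).trans (MulEquiv.subgroupCongr hr)).trans
    (MonoidHom.ofInjective hι').symm
  have hφ : ∀ k, ι' (φ k) = ι k := by
    intro k
    have h1 : (MonoidHom.ofInjective hι') (φ k) =
        (MulEquiv.subgroupCongr hr) ((MonoidHom.ofInjective hι) k) :=
      (MonoidHom.ofInjective hι').apply_symm_apply _
    have h2 := congrArg Subtype.val h1
    exact h2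
  have h1 := bk_pb' (M := M) hι hι' φ hφ b
  rw [h] at h1
  have h2 := bk_inj hι' (isPBlock_pb φ hb) hb' h1
  rw [← h2, blockRank_pb, card_pb]
  exact ⟨rfl, rfl⟩

theorem bset_id (p : ℕ) {B : Set (IrrCharacter G)} (hB : IsPBlock M B) :
    blockRank p (bset M ⊤ (JB M B)) = blockRank p B ∧
      Nat.card (bset M ⊤ (JB M B)) = Nat.card B := by
  obtain ⟨h1, h2⟩ := bset_spec (M := M) (g_blk hB)
  refine inv_of_bk p (ι := (⊤ : Subgroup G).subtype) (ι' := MonoidHom.id G)
    (Subgroup.subtype_injective _) id_inj h1 hB ?_ h2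
  rw [Subgroup.range_subtype, range_id]

end Transp

section Trace

variable {M : Ideal AlgInt} [hPr : M.IsPrime] {G : Type u} [Group G] [Fintype G]
variable {p : ℕ} [hp : Fact p.Prime]

theorem norms_sum' (hM : IsPModular p M) {u : G} (hu : ∃ k : ℕ, orderOf u = p ^ k)
    {C : Subgroup G} (hC : C = Subgroup.centralizer ({u} : Set G)) [Fintype C]
    {B : Set (IrrCharacter G)} {e : Set (IrrCharacter C)} (he : IsInducedBlock M C e B)
    {s : C} (hs : ¬ p ∣ orderOf s) :
    ∑ χ : IrrCharacter G, ind B χ * (blockPart e (fun c : C => (χ : G → ℂ) (u * c)) s *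
        conj (blockPart e (fun c : C => (χ : G → ℂ) (u * c)) s)) = KK e s s := by
  subst hC
  exact norms_sum hM hu he hs

open Classical in
theorem sum_WW (hM : IsPModular p M) {B : Set (IrrCharacter G)} {u : G}
    (hu : ∃ k : ℕ, orderOf u = p ^ k) {e : MonoidAlgebra (kM M) G}
    (he : IsInducedBlock M (CH ⊤ (Subgroup.zpowers u))
      (bset M (CH ⊤ (Subgroup.zpowers u)) e) B) :
    ∑ χ : IrrCharacter G, ind B χ * WW p M u e (χ : G → ℂ) (χ : G → ℂ) =
      (Nat.card (CH ⊤ (Subgroup.zpowers u)) : ℂ) *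
        blockRank p (bset M (CH ⊤ (Subgroup.zpowers u)) e) := by
  haveI := Fintype.ofFinite (CH ⊤ (Subgroup.zpowers u))
  rw [← rank_KK hM he.1]
  have h1 : ∀ χ : IrrCharacter G, ind B χ * WW p M u e (χ : G → ℂ) (χ : G → ℂ) =
      ∑ s ∈ Finset.univ.filter (fun s : CH ⊤ (Subgroup.zpowers u) => ¬ p ∣ orderOf s),
        ind B χ * (blockPart (bset M (CH ⊤ (Subgroup.zpowers u)) e)
          (fun c : CH ⊤ (Subgroup.zpowers u) => (χ : G → ℂ) (u * (c : G))) s *
        conj (blockPart (bset M (CH ⊤ (Subgroup.zpowers u)) e)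
          (fun c : CH ⊤ (Subgroup.zpowers u) => (χ : G → ℂ) (u * (c : G))) s)) := by
    intro χ
    unfold WW
    rw [sum_pp_C hu, Finset.mul_sum]
    refine Finset.sum_congr rfl fun s _ => ?_
    rw [dv_eq e (irr_classFun χ.2)]
  simp_rw [h1]
  rw [Finset.sum_comm]
  refine Finset.sum_congr rfl fun s hs => ?_
  rw [Finset.mem_filter] at hs
  exact norms_sum' hM hu (CH_zp u) he hs.2

variable [hch : CharP (kM M) p]

/-- the local multiplicity -/
noncomputable def wt (p : ℕ) (P : Subgroup G) (c : MonoidAlgebra (kM M) G) (v : G) : ℂ :=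
  (Nat.card (CH ⊤ (Subgroup.zpowers v)) : ℂ) *
    blockRank p (bset M (CH ⊤ (Subgroup.zpowers v)) (ev p P c v)) /
    ((AA p P c v (ev p P c v)).card : ℂ)

theorem trace_formula (hM : IsPModular p M) {B : Set (IrrCharacter G)} (hB : IsPBlock M B)
    {P : Subgroup G} [Fintype P] {c : MonoidAlgebra (kM M) G} (hmx : IsMx p ⊤ (JB M B) P c)
    {η : G → ℂ} (hη : FSt p P c η) :
    ∑ χ : IrrCharacter G, ind B χ *
      classInner (star p M (HF p P c η) (χ : G → ℂ)) (χ : G → ℂ) = ∑ v : P, η v * wt p P c (v : G) := by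
  have hP : (Nat.card P : ℂ) ≠ 0 := by exact_mod_cast Nat.card_pos.ne'
  have h1 : ∀ χ : IrrCharacter G, ind B χ *
      classInner (star p M (HF p P c η) (χ : G → ℂ)) (χ : G → ℂ) =
      ∑ v : P, η v * (ind B χ * WW p M (v : G) (ev p P c v) (χ : G → ℂ) (χ : G → ℂ)) /
        ((AA p P c (v : G) (ev p P c v)).card : ℂ) := by
    intro χ
    by_cases hχ : χ ∈ B
    · have h2 := inner_star_GG hM hB hmx hη (FSt_const P c 1) hχ (irr_classFun χ.2)
      rw [star_HF_one hM hB hmx hχ] at h2
      rw [h2, Finset.mul_sum, Finset.mul_sum]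
      refine Finset.sum_congr rfl fun v _ => ?_
      unfold GG
      rw [map_one]
      field_simp
    · rw [ind_not hχ, zero_mul]
      symm
      apply Finset.sum_eq_zero
      intro v _
      rw [zero_mul, mul_zero, zero_div]
  simp_rw [h1]
  rw [Finset.sum_comm]
  refine Finset.sum_congr rfl fun v _ => ?_
  rw [← Finset.sum_div, ← Finset.mul_sum,
    sum_WW hM (pel_of hmx.1.1.pg v.2) (bset_induced hM hB hmx v.2)]
  unfold wt
  rw [mul_div_assoc]

/-- the number of characters of a block -/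
theorem card_formula (hM : IsPModular p M) {B : Set (IrrCharacter G)} (hB : IsPBlock M B)
    {P : Subgroup G} [Fintype P] {c : MonoidAlgebra (kM M) G} (hmx : IsMx p ⊤ (JB M B) P c) :
    (Nat.card B : ℂ) = ∑ v : P, wt p P c (v : G) := by
  classical
  have h1 := trace_formula hM hB hmx (FSt_const P c 1)
  simp only [one_mul] at h1
  rw [← h1]
  have h2 : ∀ χ : IrrCharacter G, ind B χ *
      classInner (star p M (HF p P c (fun _ => 1)) (χ : G → ℂ)) (χ : G → ℂ) = ind B χ := by
    intro χ
    by_cases hχ : χ ∈ B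
    · rw [star_HF_one hM hB hmx hχ, (irr_iff_norm_one.mp χ.2).2, mul_one]
    · rw [ind_not hχ, zero_mul]
  simp_rw [h2]
  have h3 : ∀ χ : IrrCharacter G, ind B χ = if χ ∈ B then 1 else 0 := by
    intro χ
    split_ifs with h
    · exact ind_of h
    · exact ind_not h
  simp_rw [h3]
  rw [Finset.sum_boole]
  congr 1
  rw [Nat.card_eq_fintype_card, Fintype.card_subtype]

theorem wt_one {B : Set (IrrCharacter G)} (hB : IsPBlock M B)
    {P : Subgroup G} {c : MonoidAlgebra (kM M) G} (hmx : IsMx p ⊤ (JB M B) P c) :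
    wt p P c 1 = blockRank p B := by
  have hG : (Nat.card G : ℂ) ≠ 0 := by exact_mod_cast Nat.card_pos.ne'
  unfold wt
  rw [ev_one (g_blk hB) hmx, AA_one (g_blk hB) hmx]
  have key : ∀ C : Subgroup G, C = ⊤ →
      (Nat.card C : ℂ) * (blockRank p (bset M C (JB M B)) : ℂ) / (Nat.card G : ℂ) =
        blockRank p B := by
    rintro C rfl
    rw [Subgroup.card_top, mul_comm, mul_div_assoc, div_self hG, mul_one, (bset_id p hB).1]
  exact key _ (by rw [Subgroup.zpowers_one_eq_bot, CH_bot])

end Trace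

end CfsgLib.Star
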