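import Mathlib
import Cfsg.Agent.EqBase
import Cfsg.Agent.LibStar25
import Cfsg.Agent.LibBrP21
import Cfsg.Agent.LibLE11CD

/-!
# Star construction, XXVI: abelian defect groups, counting formulas (helper18)
-/

set_option autoImplicit false
set_option linter.unusedSectionVars false
set_option linter.style.haveILetI false
set_option linter.unusedSimpArgs false
set_option linter.unusedVariables false

namespace CfsgLib.Star

open Cfsg CfsgLib.GalChar CfsgLib.GalField CfsgLib.BlockReg CfsgLib.BlockReg2 CfsgLib.LocR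
  CfsgLib.BrP CfsgLib.Car CfsgLib.BlockQP CfsgLib.BlockDefect
  CfsgLib.Points CfsgLib.PLocalInd CfsgLib.CharBasic CfsgLib.BlockCore CfsgLib.BlockSec
  CfsgLib.BlockR CfsgLib.BlockIdem CfsgLib.BlockOrth CfsgLib.CharIndA CfsgLib.CharNorm
open scoped ComplexConjugate Pointwise

universe u

section Alg

variable {k : Type*} [Field k] {G : Type*} [Group G] [Fintype G] {p : ℕ}
variable [hp : Fact p.Prime] [CharP k p]

/-- fusion below an abelian maximal pair is controlled by its stabilizer -/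
theorem abelian_move {H P Q : Subgroup G} {B e f : MonoidAlgebra k G} (hB : IsBlk H B)
    (hmx : IsMx p H B P e) (hab : ∀ x ∈ P, ∀ y ∈ P, x * y = y * x)
    (hle : LEp p H (Q, f) (P, e)) {x : G} (hx : x ∈ H)
    (hx' : LEp p H (cS x Q, cj x f) (P, e)) : ∃ y ∈ TS H P e, ∃ d ∈ CH H Q, x = y * d := by
  have hcen : ∀ {R : Subgroup G}, R ≤ P → P ≤ Subgroup.centralizer (R : Set G) := by
    intro R hR u hu
    rw [Subgroup.mem_centralizer_iff]
    intro v hv
    exact hab v (hR hv) u hu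
  have hQP : Q ≤ P := hle.le
  have hPC := hcen hQP
  have hPH := hmx.1.1.le
  have hPK : P ≤ CH H Q := le_inf hPH hPC
  have hn : Nrm p H Q f P e := hle.nrm hmx.1.1 (hPC.trans (centralizer_le_normalizer Q))
  have hbQ := hn.bpQ
  have hfb : IsBlk (CH H Q) f := hbQ.blk
  have h1 := isMx_sub hB hmx hn (CH_le_TS hbQ) le_rfl hPK
  have hxi := H.inv_mem hx
  have hmx' := hmx.cj hB hxi
  have hle' := hx'.cj' hxi
  dsimp only at hle'
  rw [cS_inv_cS, cj_inv_cj] at hle'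
  have hPC' : cS x⁻¹ P ≤ Subgroup.centralizer (Q : Set G) := by
    have h2 := cS_mono (x := x⁻¹) (hcen (show cS x Q ≤ P from hx'.le))
    rw [← centralizer_cS, cS_inv_cS] at h2
    exact h2
  have hPK' : cS x⁻¹ P ≤ CH H Q := le_inf hmx'.1.1.le hPC'
  have hn' : Nrm p H Q f (cS x⁻¹ P) (cj x⁻¹ e) :=
    hle'.nrm hmx'.1.1 (hPC'.trans (centralizer_le_normalizer Q))
  have h2 := isMx_sub hB hmx' hn' (CH_le_TS hbQ) le_rfl hPK'
  obtain ⟨c, hc, h3, h4⟩ := h1.conj hfb h2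
  have hcH : c ∈ H := hc.1
  refine ⟨x * c, ⟨H.mul_mem hx hcH, ?_, ?_⟩, c⁻¹, Subgroup.inv_mem _ hc, by group⟩
  · rw [mem_normalizer_iff_cS, ← cS_cS, ← h3, cS_cS, mul_inv_cancel, cS_one]
  · rw [← cj_cj, ← h4, cj_cj, mul_inv_cancel, cj_one_left]

theorem move_of {H P Q : Subgroup G} {e f : MonoidAlgebra k G} (hQ : BP p H Q f)
    (hle : LEp p H (Q, f) (P, e)) {y d : G} (hy : y ∈ TS H P e) (hd : d ∈ CH H Q) :
    LEp p H (cS (y * d) Q, cj (y * d) f) (P, e) := by
  have hdT := CH_le_TS hQ hd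
  rw [← cS_cS, ← cj_cj, cS_of_normalizer hdT.2.1, hdT.2.2]
  have h1 := hle.cj' hy.1
  dsimp only at h1
  rwa [cS_of_normalizer hy.2.1, hy.2.2] at h1

end Alg

section Count

variable {M : Ideal AlgInt} [hPr : M.IsPrime] {G : Type u} [Group G] [Fintype G]
variable {p : ℕ} [hp : Fact p.Prime] [hch : CharP (kM M) p]

theorem AA_abel {B : MonoidAlgebra (kM M) G} (hB : IsBlk ⊤ B) {P : Subgroup G}
    {c : MonoidAlgebra (kM M) G} (hmx : IsMx p ⊤ B P c)
    (hab : ∀ x ∈ P, ∀ y ∈ P, x * y = y * x) {v : G} (hv : v ∈ P) :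
    (AA p P c v (ev p P c v)).card *
      Nat.card (TS ⊤ P c ⊓ CH ⊤ (Subgroup.zpowers v) : Subgroup G) =
      Nat.card (TS ⊤ P c) * Nat.card (CH ⊤ (Subgroup.zpowers v)) := by
  classical
  have hPc := hmx.1.1
  rw [← CfsgLib.LE11CD.card_mul_card_inf]
  congr 1
  have h1 : ((AA p P c v (ev p P c v) : Finset G) : Set G) =
      ((TS ⊤ P c : Set G) * (CH ⊤ (Subgroup.zpowers v) : Set G) : Set G) := by
    ext x
    rw [Finset.mem_coe, mem_AA]
    constructor
    · intro h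
      obtain ⟨y, hy, d, hd, rfl⟩ := abelian_move hB hmx hab (ev_spec hPc hv)
        (Subgroup.mem_top x) h
      exact Set.mul_mem_mul hy hd
    · rintro ⟨y, hy, d, hd, rfl⟩
      exact move_of (ev_bp hPc hv) (ev_spec hPc hv) hy hd
  rw [← h1, Nat.card_coe_set_eq, Set.ncard_coe_finset]

/-- the local multiplicities for an abelian defect group -/
theorem wt_abel {B : MonoidAlgebra (kM M) G} (hB : IsBlk ⊤ B) {P : Subgroup G}
    {c : MonoidAlgebra (kM M) G} (hmx : IsMx p ⊤ B P c)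
    (hab : ∀ x ∈ P, ∀ y ∈ P, x * y = y * x) {v : G} (hv : v ∈ P) :
    wt p P c v = (Nat.card (TS ⊤ P c ⊓ CH ⊤ (Subgroup.zpowers v) : Subgroup G) : ℂ) /
      (Nat.card (TS ⊤ P c) : ℂ) *
        blockRank p (bset M (CH ⊤ (Subgroup.zpowers v)) (ev p P c v)) := by
  have h1 := AA_abel hB hmx hab hv
  have h2 : ((AA p P c v (ev p P c v)).card : ℂ) *
      (Nat.card (TS ⊤ P c ⊓ CH ⊤ (Subgroup.zpowers v) : Subgroup G) : ℂ) =
      (Nat.card (TS ⊤ P c) : ℂ) * (Nat.card (CH ⊤ (Subgroup.zpowers v)) : ℂ) := by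
    exact_mod_cast h1
  have h3 : (Nat.card (TS ⊤ P c) : ℂ) ≠ 0 := by exact_mod_cast Nat.card_pos.ne'
  have h4 : (Nat.card (CH ⊤ (Subgroup.zpowers v)) : ℂ) ≠ 0 := by exact_mod_cast Nat.card_pos.ne'
  have h5 : ((AA p P c v (ev p P c v)).card : ℂ) ≠ 0 := by
    intro h0
    rw [h0, zero_mul] at h2
    exact mul_ne_zero h3 h4 h2.symm
  unfold wt
  rw [div_mul_eq_mul_div, div_eq_div_iff h5 h3]
  linear_combination (-(blockRank p (bset M (CH ⊤ (Subgroup.zpowers v)) (ev p P c v)) : ℂ)) * h2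

end Count

end CfsgLib.Star
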