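import Mathlib
import Cfsg.Agent.EqBase
import Cfsg.Agent.LibStar26

/-!
# Star construction, XXVII: Klein four defect groups (helper18)
-/

set_option autoImplicit false
set_option linter.unusedSectionVars false
set_option linter.style.haveILetI false
set_option linter.unusedSimpArgs false
set_option linter.unusedVariables false

namespace CfsgLib.Star

open Cfsg CfsgLib.GalChar CfsgLib.GalField CfsgLib.BlockReg CfsgLib.BlockReg2 CfsgLib.LocR
  CfsgLib.BrP CfsgLib.Car CfsgLib.BlockQP CfsgLib.BlockDefect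
  CfsgLib.Points CfsgLib.PLocalInd CfsgLib.CharBasic CfsgLib.BlockCore CfsgLib.BlockSec
  CfsgLib.BlockR CfsgLib.BlockIdem CfsgLib.BlockOrth CfsgLib.CharIndA CfsgLib.CharNorm
open scoped ComplexConjugate Pointwise

universe u

section Pos

variable {M : Ideal AlgInt} [hPr : M.IsPrime] {G : Type u} [Group G] [Fintype G]
variable {p : ℕ} [hp : Fact p.Prime] [hch : CharP (kM M) p]

theorem GG_pos {P : Subgroup G} {c : MonoidAlgebra (kM M) G} (hPc : BP p ⊤ P c) {χ : G → ℂ}
    {v : P} (h : ∃ s : G, pp p ((v : G) * s) = v ∧ dv M (v : G) (ev p P c v) χ s ≠ 0) :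
    ∃ r : ℝ, 0 < r ∧ GG p P c χ χ v = r := by
  classical
  refine ⟨(Nat.card P : ℝ) * (∑ s : G, if pp p ((v : G) * s) = v then
    ‖dv M (v : G) (ev p P c v) χ s‖ ^ 2 else 0) /
      ((AA p P c (v : G) (ev p P c v)).card : ℝ), ?_, ?_⟩
  · have hA : 0 < (AA p P c (v : G) (ev p P c v)).card :=
      Finset.card_pos.2 ⟨1, mem_AA.2 (ev_mv hPc v.2)⟩
    apply div_pos _ (Nat.cast_pos.2 hA)
    apply mul_pos (Nat.cast_pos.2 Nat.card_pos)
    obtain ⟨s, hs, hne⟩ := h
    apply Finset.sum_pos'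
    · intro t _
      split_ifs <;> positivity
    · refine ⟨s, Finset.mem_univ _, ?_⟩
      rw [if_pos hs]
      exact pow_pos (norm_pos_iff.2 hne) 2
  · unfold GG
    rw [WW_self]
    push_cast
    rfl

theorem sum_GG (hM : IsPModular p M) {B : Set (IrrCharacter G)} (hB : IsPBlock M B)
    {P : Subgroup G} [Fintype P] {c : MonoidAlgebra (kM M) G} (hmx : IsMx p ⊤ (JB M B) P c)
    {χ : IrrCharacter G} (hχ : χ ∈ B) :
    ∑ v : P, GG p P c (χ : G → ℂ) (χ : G → ℂ) v = Nat.card P := by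
  have h4 := inner_star_GG hM hB hmx (FSt_const P c 1) (FSt_const P c 1) hχ (irr_classFun χ.2)
  rw [star_HF_one hM hB hmx hχ, (irr_iff_norm_one.mp χ.2).2] at h4
  have hP : (Nat.card P : ℂ) ≠ 0 := by exact_mod_cast Nat.card_pos.ne'
  have h5 := congrArg (fun z => (Nat.card P : ℂ) * z) h4
  simp only [mul_one, map_one] at h5
  rw [mul_inv_cancel_left₀ hP] at h5
  simp only [one_mul] at h5
  exact h5.symm

/-- `m(χ,χ) < |P|` for nontrivial defect groups -/
theorem mm_lt (hM : IsPModular p M) {B : Set (IrrCharacter G)} (hB : IsPBlock M B)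
    {P : Subgroup G} {c : MonoidAlgebra (kM M) G} (hmx : IsMx p ⊤ (JB M B) P c)
    {χ : IrrCharacter G} (hχ : χ ∈ B) (h0 : blockHeight p B (χ : G → ℂ) = 0) (hP : P ≠ ⊥) :
    0 < mm p B χ χ ∧ mm p B χ χ < Nat.card P := by
  classical
  haveI := Fintype.ofFinite P
  have hPc := hmx.1.1
  have h1 := sum_GG hM hB hmx hχ
  choose r hr0 hr using fun v : P => GG_pos hPc (χ := (χ : G → ℂ)) (v := v)
    (dv_ne_zero_height hM hB hmx hχ h0 v.2)
  simp_rw [hr] at h1
  have h2 : ∑ v : P, r v = Nat.card P := by exact_mod_cast h1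
  have h3 : r 1 = mm p B χ χ := by
    have := hr 1
    rw [GG_one hM hB hmx hχ hχ] at this
    exact_mod_cast this.symm
  refine ⟨?_, ?_⟩
  · have := hr0 1
    rw [h3] at this
    exact_mod_cast this
  · obtain ⟨⟨y, hy⟩, hy1⟩ := (Subgroup.ne_bot_iff_exists_ne_one).1 hP
    have h4 : r 1 + r ⟨y, hy⟩ ≤ ∑ v : P, r v := by
      rw [← Finset.sum_pair hy1.symm]
      exact Finset.sum_le_sum_of_subset_of_nonneg (Finset.subset_univ _)
        fun v _ _ => (hr0 v).le
    have h5 := hr0 ⟨y, hy⟩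
    have h6 : (mm p B χ χ : ℝ) < (Nat.card P : ℝ) := by
      rw [← h3]; linarith
    exact_mod_cast h6

end Pos

section Four

variable {M : Ideal AlgInt} [hPr : M.IsPrime] {G : Type u} [Group G] [Fintype G]

/-- blocks of defect group of order four with `m(χ,χ) < 4` have four characters -/
theorem card_four [hch : CharP (kM M) 2] (hM : IsPModular 2 M) {B : Set (IrrCharacter G)}
    (hB : IsPBlock M B)
    {P : Subgroup G} {c : MonoidAlgebra (kM M) G} (hmx : IsMx 2 ⊤ (JB M B) P c)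
    (hcard : Nat.card P = 4) : Nat.card B = 4 := by
  classical
  haveI := Fintype.ofFinite P
  haveI : Fact (Nat.Prime 2) := ⟨Nat.prime_two⟩
  obtain ⟨χ, hχ, h0'⟩ := exists_height_zero (p := 2) hM hB
  have h0 : blockHeight 2 B (χ : G → ℂ) = 0 := (height_zero_iff hM hB hχ).2 h0'
  have hP : P ≠ ⊥ := by
    rintro rfl
    rw [Subgroup.card_bot] at hcard
    omega
  obtain ⟨h1, h2⟩ := mm_lt hM hB hmx hχ h0 hP
  rw [hcard] at h2
  have h3 := mm_not_dvd hM hB hχ h0 hχ
  rw [h0, zero_add, pow_one] at h3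
  have h4 := sum_mm_sq hM hB hχ
  have h5 : (2 ^ blockDefect 2 B : ℕ) = 4 := by
    rw [← card_defectGroup hM hB ((g_def hM hB).2 (hmx.isDef (g_blk hB))), hcard]
  rw [h5] at h4
  rw [← Finset.add_sum_erase Finset.univ _ (Finset.mem_univ χ)] at h4
  have h6 : ∑ ψ ∈ Finset.univ.erase χ, mm 2 B χ ψ ^ 2 = 3 := by
    have h7 : mm 2 B χ χ = 1 ∨ mm 2 B χ χ = 3 := by
      push_cast at h2 h3
      omega
    rcases h7 with h7 | h7
    · rw [h7] at h4; push_cast at h4; linarith
    · rw [h7] at h4; push_cast at h4; linarith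
  -- restrict to the block
  have h7 : ∑ ψ ∈ Finset.univ.erase χ, mm 2 B χ ψ ^ 2 =
      ∑ ψ ∈ (Finset.univ.filter (fun ψ => ψ ∈ B)).erase χ, mm 2 B χ ψ ^ 2 := by
    symm
    apply Finset.sum_subset
    · exact Finset.erase_subset_erase _ (Finset.filter_subset _ _)
    · intro ψ hψ hψ'
      rw [Finset.mem_erase] at hψ
      have : ψ ∉ B := fun h => hψ' (Finset.mem_erase.2 ⟨hψ.1, Finset.mem_filter.2
        ⟨Finset.mem_univ _, h⟩⟩)
      rw [mm_out hM hB hχ this]; rfl
  rw [h7] at h6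
  set S := (Finset.univ.filter (fun ψ => ψ ∈ B)).erase χ with hS
  have h8 : ∀ ψ ∈ S, mm 2 B χ ψ ^ 2 = 1 := by
    intro ψ hψ
    have hψB : ψ ∈ B := (Finset.mem_filter.1 (Finset.mem_of_mem_erase hψ)).2
    have h9 : mm 2 B χ ψ ^ 2 ≤ 3 := by
      rw [← h6]
      exact Finset.single_le_sum (f := fun ψ => mm 2 B χ ψ ^ 2) (fun _ _ => sq_nonneg _) hψ
    have h10 := mm_ne_zero hM hB hχ h0 hψB
    have h11 : mm 2 B χ ψ = 1 ∨ mm 2 B χ ψ = -1 := by
      have : mm 2 B χ ψ < 2 := by nlinarith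
      have : -2 < mm 2 B χ ψ := by nlinarith
      omega
    rcases h11 with h | h <;> rw [h] <;> norm_num
  rw [Finset.sum_congr rfl h8, Finset.sum_const, nsmul_eq_mul, mul_one] at h6
  have h9 : S.card = 3 := by exact_mod_cast h6
  have hmem : χ ∈ Finset.univ.filter (fun ψ => ψ ∈ B) :=
    Finset.mem_filter.2 ⟨Finset.mem_univ _, hχ⟩
  rw [hS, Finset.card_erase_of_mem hmem] at h9
  have h10 : (Finset.univ.filter (fun ψ => ψ ∈ B)).card = 4 := by
    have := Finset.card_pos.2 ⟨χ, hmem⟩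
    omega
  rw [Nat.card_eq_fintype_card, Fintype.card_subtype]
  exact h10

end Four

section Klein

variable {V : Type*} [Group V]

theorem v4_fix [hV : IsKleinFour V] {A : Subgroup (MulAut V)} (hA : ¬ 2 ∣ Nat.card A) :
    ∀ α ∈ A, ∀ v : V, v ≠ 1 → α v = v → α = 1 := by
  intro α hα v hv hfix
  have h2 : α ^ 2 = 1 := by
    apply MulEquiv.ext
    intro w
    rw [pow_two, MulAut.mul_apply, MulAut.one_apply]
    by_cases h : α w = w
    · rw [h, h]
    · have hw1 : w ≠ 1 := by
        rintro rfl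
        exact h (map_one α)
      have hwv : v ≠ w := by
        rintro rfl
        exact h hfix
      have h3 : α w = v * w := by
        refine IsKleinFour.eq_mul_of_ne_all hv hw1 hwv ?_ ?_ h
        · intro h4
          exact hw1 (α.injective (by rw [h4, map_one]))
        · intro h4
          exact hwv (α.injective (by rw [hfix, h4]))
      rw [h3, map_mul, hfix, h3, ← mul_assoc, IsKleinFour.mul_self, one_mul]
  have h3 : orderOf α ∣ 2 := orderOf_dvd_of_pow_eq_one h2
  have h4 : orderOf α ∣ Nat.card A := by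
    have := orderOf_dvd_natCard (⟨α, hα⟩ : A)
    rwa [Subgroup.orderOf_mk] at this
  have hc : Nat.Coprime (Nat.card A) 2 := ((Nat.Prime.coprime_iff_not_dvd Nat.prime_two).2 hA).symm
  exact orderOf_eq_one_iff.1 (Nat.dvd_one.1 (by
      rw [← Nat.Coprime.gcd_eq_one hc]; exact Nat.dvd_gcd h4 h3))

theorem v4_card [hV : IsKleinFour V] {A : Subgroup (MulAut V)} (hA : ¬ 2 ∣ Nat.card A) :
    Nat.card A = 1 ∨ Nat.card A = 3 := by
  classical
  haveI : Finite V := Nat.finite_of_card_ne_zero (by rw [hV.card_four]; norm_num)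
  haveI := Fintype.ofFinite V
  have hnt : ∃ v : V, v ≠ 1 := by
    by_contra h
    push Not at h
    have : Nat.card V = 1 := by
      rw [Nat.card_eq_one_iff_unique]
      exact ⟨⟨fun a b => by rw [h a, h b]⟩, ⟨1⟩⟩
    rw [hV.card_four] at this
    omega
  obtain ⟨v, hv⟩ := hnt
  let f : A → {x : V // x ≠ 1} := fun α => ⟨(α : MulAut V) v, fun h =>
    hv ((α : MulAut V).injective (by rw [h, map_one]))⟩
  have hf : Function.Injective f := by
    intro α β h
    have h1 : (α : MulAut V) v = (β : MulAut V) v := congrArg Subtype.val h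
    have h2 := v4_fix hA ((β : MulAut V)⁻¹ * α) (A.mul_mem (A.inv_mem β.2) α.2) v hv (by
      rw [MulAut.mul_apply, h1]
      exact MulEquiv.symm_apply_apply _ _)
    exact Subtype.ext (inv_mul_eq_one.1 h2).symm
  have h1 := Nat.card_le_card_of_injective f hf
  have h2 : Nat.card {x : V // x ≠ 1} = 3 := by
    rw [Nat.card_eq_fintype_card, Fintype.card_subtype_compl, Fintype.card_subtype_eq,
      ← Nat.card_eq_fintype_card, hV.card_four]
  have h3 : 0 < Nat.card A := Nat.card_pos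
  rw [h2] at h1
  have h4 : Nat.card A ≠ 2 := fun h => hA (by rw [h])
  omega

end Klein

section Main

variable {M : Ideal AlgInt} {G : Type u} [Group G] [Fintype G]
variable {p : ℕ} [hp : Fact p.Prime]

/-- free local blocks have rank one -/
theorem rank_local (hM : IsPModular p M) [hPr : M.IsPrime] [hch : CharP (kM M) p]
    {B : MonoidAlgebra (kM M) G} (hB : IsBlk ⊤ B) {P : Subgroup G}
    {c : MonoidAlgebra (kM M) G} (hmx : IsMx p ⊤ B P c)
    (hab : ∀ x ∈ P, ∀ y ∈ P, x * y = y * x) {v : G} (hv : v ∈ P)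
    (hfree : ∀ x ∈ TS ⊤ P c, x ∈ CH ⊤ (Subgroup.zpowers v) →
      x ∈ Subgroup.centralizer (P : Set G)) :
    blockRank p (bset M (CH ⊤ (Subgroup.zpowers v)) (ev p P c v)) = 1 := by
  haveI : M.IsMaximal := hM.2.1
  have hPc := hmx.1.1
  have hle := ev_spec hPc hv
  obtain ⟨h1, h2⟩ := bset_spec (M := M) (ev_blk hPc hv)
  have hmx' := isMx_local hB hmx hab hle
  have hnil : IsNilpotentBlock p M (bset M (CH ⊤ (Subgroup.zpowers v)) (ev p P c v)) := by
    rw [nilp_iff_h hM h1, h2]
    refine (nilp_abelian (ev_blk hPc hv) hmx' hab).2 ?_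
    intro x hx
    exact hfree x ⟨Subgroup.mem_top _, hx.2.1, hx.2.2⟩ hx.1
  haveI := Fintype.ofFinite (CH ⊤ (Subgroup.zpowers v))
  exact (nil_S4689 hM hnil).1

theorem relIndex_act {P T : Subgroup G} (hTN : T ≤ Subgroup.normalizer (P : Set G)) :
    (Subgroup.centralizer (P : Set G)).relIndex T = Nat.card (actHom P T hTN).range := by
  have hker : (actHom P T hTN).ker = (Subgroup.centralizer (P : Set G)).subgroupOf T := by
    ext t
    rw [MonoidHom.mem_ker, actHom_eq_one hTN, Subgroup.mem_subgroupOf]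
  rw [← Subgroup.index_ker, hker]; rfl

/-- S4637 -/
theorem s4637 (hM : IsPModular 2 M) {B : Set (IrrCharacter G)} (hB : IsPBlock M B)
    {P : Subgroup G} (hPD : IsDefectGroup 2 M B P) (hV : IsKleinFour P)
    {c : Set (IrrCharacter (Subgroup.centralizer (P : Set G)))}
    (hc : IsInducedBlock M (Subgroup.centralizer (P : Set G)) c B)
    {T : Subgroup G} (hT : ∀ g : G, g ∈ T ↔ (g ∈ Subgroup.normalizer (P : Set G) ∧
      StabilizesBlock (Subgroup.centralizer (P : Set G)) c g))
    {e : ℕ} (he : (Subgroup.centralizer (P : Set G)).relIndex T = e) :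
    (e = 1 ∨ e = 3) ∧ Nat.card B = 4 ∧ blockRank 2 B = e := by
  classical
  haveI hPr : M.IsPrime := isPrime_of_modular hM
  haveI : M.IsMaximal := hM.2.1
  haveI : Fact (Nat.Prime 2) := ⟨Nat.prime_two⟩
  haveI := charP_kM hM
  haveI := Fintype.ofFinite P
  have hab : ∀ x ∈ P, ∀ y ∈ P, x * y = y * x := by
    intro x hx y hy
    have h := (IsKleinFour.isMulCommutative (G := P)).is_comm.comm ⟨x, hx⟩ ⟨y, hy⟩
    exact congrArg Subtype.val h
  have hmx := ab_mx hM hB hPD hab hc
  have hTS := ab_TS hM hc.1 hT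
  have hTN : T ≤ Subgroup.normalizer (P : Set G) := fun x hx => ((hT x).1 hx).1
  have hodd := act_card hTN (ab_pel hM hB hPD hab hc hT)
  have hrel := relIndex_act hTN
  rw [he] at hrel
  have he13 : e = 1 ∨ e = 3 := by
    rw [hrel]; exact v4_card hodd
  have hk : Nat.card B = 4 := card_four hM hB hmx hV.card_four
  refine ⟨he13, hk, ?_⟩
  have hCPT : Subgroup.centralizer (P : Set G) ≤ T := by
    rw [hTS]
    have h := CH_le_TS hmx.1.1
    rwa [CH_top] at h
  have hfree : ∀ v ∈ P, v ≠ 1 → ∀ x ∈ T, x ∈ CH ⊤ (Subgroup.zpowers v) →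
      x ∈ Subgroup.centralizer (P : Set G) := by
    intro v hv hv1 x hx hxC
    have h1 : actHom P T hTN ⟨x, hx⟩ = 1 := by
      refine v4_fix hodd _ ⟨_, rfl⟩ ⟨v, hv⟩ (fun h => hv1 (congrArg Subtype.val h)) ?_
      apply Subtype.ext
      rw [actHom_apply]
      show x * v * x⁻¹ = v
      rw [comm_of_C hxC, mul_inv_cancel_right]
    exact (actHom_eq_one hTN).1 h1
  have hinter : ∀ v ∈ P, v ≠ 1 → T ⊓ CH ⊤ (Subgroup.zpowers v) =
      Subgroup.centralizer (P : Set G) := by
    intro v hv hv1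
    apply le_antisymm
    · rintro x ⟨h1, h2⟩; exact hfree v hv hv1 x h1 h2
    · refine le_inf hCPT ?_
      rw [CH_top]
      exact centralizer_anti (by rw [Subgroup.zpowers_le]; exact hv)
  have hcT : Nat.card T = e * Nat.card (Subgroup.centralizer (P : Set G)) := by
    rw [← he, Subgroup.relIndex, mul_comm,
      ← Nat.card_congr (Subgroup.subgroupOfEquivOfLe hCPT).toEquiv]
    exact (Subgroup.card_mul_index _).symm
  have hT0 : (Nat.card T : ℂ) ≠ 0 := by exact_mod_cast Nat.card_pos.ne'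
  have hwt : ∀ v : P, v ≠ 1 → wt 2 P (J M P c) (v : G) = 1 / (e : ℂ) := by
    intro v hv1
    have hv1' : (v : G) ≠ 1 := fun h => hv1 (Subtype.ext h)
    rw [wt_abel (g_blk hB) hmx hab v.2, rank_local hM (g_blk hB) hmx hab v.2
      (by rw [← hTS]; exact hfree v v.2 hv1'), ← hTS, hinter v v.2 hv1', Nat.cast_one, mul_one]
    have h1 : (Nat.card T : ℂ) = e * Nat.card (Subgroup.centralizer (P : Set G)) := by
      exact_mod_cast hcT
    rw [h1] at hT0 ⊢
    have h2 := left_ne_zero_of_mul hT0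
    have h3 := right_ne_zero_of_mul hT0
    field_simp
  have h1 := card_formula hM hB hmx
  rw [← Finset.add_sum_erase Finset.univ _ (Finset.mem_univ (1 : P)),
    Finset.sum_congr rfl (fun v hv => hwt v (Finset.ne_of_mem_erase hv)), Finset.sum_const,
    Finset.card_erase_of_mem (Finset.mem_univ _), Finset.card_univ,
    ← Nat.card_eq_fintype_card (α := P), hV.card_four, hk] at h1
  have h2 : wt 2 P (J M P c) ((1 : P) : G) = blockRank 2 B := wt_one hB hmx
  rw [h2] at h1
  rcases he13 with rfl | rfl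
  · norm_num at h1
    have h3 : (blockRank 2 B : ℂ) = 1 := by linear_combination -h1
    exact_mod_cast h3
  · norm_num at h1
    have h3 : (blockRank 2 B : ℂ) = 3 := by linear_combination -h1
    exact_mod_cast h3

end Main

end CfsgLib.Star
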