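import Mathlib
import Cfsg.Agent.EqBase
import Cfsg.Agent.LibStar27

/-!
# Star construction, XXVIII: counting along cosets (helper18)
-/

set_option autoImplicit false
set_option linter.unusedSectionVars false
set_option linter.style.haveILetI false
set_option linter.unusedSimpArgs false
set_option linter.unusedVariables false

namespace CfsgLib.Star

open Cfsg CfsgLib.GalChar CfsgLib.GalField CfsgLib.BlockReg CfsgLib.BlockReg2 CfsgLib.LocR
  CfsgLib.BrP CfsgLib.Car CfsgLib.BlockQP CfsgLib.BlockDefect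
  CfsgLib.Points CfsgLib.PLocalInd CfsgLib.CharBasic CfsgLib.BlockCore CfsgLib.BlockSec
  CfsgLib.BlockR CfsgLib.BlockIdem CfsgLib.BlockOrth CfsgLib.CharIndA CfsgLib.CharNorm
open scoped ComplexConjugate Pointwise

universe u

section Dual

variable {P : Type u} [Group P] [Finite P]

theorem finite_hom : Finite (P →* ℂˣ) := by
  apply Nat.finite_of_card_ne_zero
  rw [card_hom]
  exact Subgroup.index_ne_zero_of_finite

theorem XN_sep {N : Subgroup P} (hN : commutator P ≤ N) {y : P} (hy : y ∉ N) :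
    ∃ f ∈ XN N, f y ≠ 1 := by
  haveI := finite_hom (P := P)
  by_contra h
  push Not at h
  have h1 : XN N ≤ XN (N ⊔ Subgroup.zpowers y) := by
    intro f hf
    have hker : N ⊔ Subgroup.zpowers y ≤ f.ker := by
      rw [sup_le_iff]
      refine ⟨fun x hx => hf x hx, ?_⟩
      rw [Subgroup.zpowers_le]
      exact h f hf
    exact fun x hx => hker hx
  have h2 := Subgroup.card_le_of_le h1
  rw [card_XN hN, card_XN (hN.trans le_sup_left)] at h2
  have h3 := Subgroup.relIndex_mul_index (le_sup_left : N ≤ N ⊔ Subgroup.zpowers y)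
  have h4 : (N ⊔ Subgroup.zpowers y).index ≠ 0 := Subgroup.index_ne_zero_of_finite
  have h5 : N.relIndex (N ⊔ Subgroup.zpowers y) ≤ 1 := by
    by_contra h6
    push Not at h6
    have h7 : 2 * (N ⊔ Subgroup.zpowers y).index ≤ N.index := by
      rw [← h3]; exact Nat.mul_le_mul_right _ h6
    omega
  have h6 : N.relIndex (N ⊔ Subgroup.zpowers y) ≠ 0 := by
    intro h0
    rw [h0, zero_mul] at h3
    exact Subgroup.index_ne_zero_of_finite h3.symm
  have h7 : N.relIndex (N ⊔ Subgroup.zpowers y) = 1 := by omega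
  rw [Subgroup.relIndex_eq_one] at h7
  exact hy (h7 ((le_sup_right : Subgroup.zpowers y ≤ _) (Subgroup.mem_zpowers y)))

theorem XN_sum {N : Subgroup P} (hN : commutator P ≤ N) [Fintype (XN N)] (y : P) :
    (y ∈ N → ∑ f : XN N, (((f : P →* ℂˣ) y : ℂˣ) : ℂ) = N.index) ∧
    (y ∉ N → ∑ f : XN N, (((f : P →* ℂˣ) y : ℂˣ) : ℂ) = 0) := by
  constructor
  · intro hy
    have h1 : ∀ f : XN N, (((f : P →* ℂˣ) y : ℂˣ) : ℂ) = 1 := fun f => by
      rw [f.2 y hy, Units.val_one]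
    rw [Finset.sum_congr rfl fun f _ => h1 f, Finset.sum_const, Finset.card_univ,
      ← Nat.card_eq_fintype_card, card_XN hN, nsmul_eq_mul, mul_one]
  · intro hy
    obtain ⟨f₀, h0, hne⟩ := XN_sep hN hy
    have h1 : ((f₀ y : ℂˣ) : ℂ) * ∑ f : XN N, (((f : P →* ℂˣ) y : ℂˣ) : ℂ) =
        ∑ f : XN N, (((f : P →* ℂˣ) y : ℂˣ) : ℂ) := by
      rw [Finset.mul_sum, ← Equiv.sum_comp (Equiv.mulLeft (⟨f₀, h0⟩ : XN N))
        (fun f : XN N => (((f : P →* ℂˣ) y : ℂˣ) : ℂ))]
      refine Finset.sum_congr rfl fun f _ => ?_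
      rw [Equiv.coe_mulLeft, Subgroup.coe_mul, MonoidHom.mul_apply, Units.val_mul]
    have h2 : (((f₀ y : ℂˣ) : ℂ) - 1) * ∑ f : XN N, (((f : P →* ℂˣ) y : ℂˣ) : ℂ) = 0 := by
      rw [sub_mul, one_mul, h1, sub_self]
    rcases mul_eq_zero.1 h2 with h3 | h3
    · exact absurd (Units.ext (by rw [Units.val_one]; exact sub_eq_zero.1 h3)) hne
    · exact h3

end Dual

section Abs

variable {M : Ideal AlgInt} [hPr : M.IsPrime] {G : Type u} [Group G] [Fintype G]
variable {p : ℕ} [hp : Fact p.Prime] [hch : CharP (kM M) p]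

theorem abs_trace (hM : IsPModular p M) {B : Set (IrrCharacter G)} (hB : IsPBlock M B)
    {P : Subgroup G} [Fintype P] {c : MonoidAlgebra (kM M) G} (hmx : IsMx p ⊤ (JB M B) P c)
    (hab : ∀ x ∈ P, ∀ y ∈ P, x * y = y * x) {N : Subgroup P} (hfus : Fus p P c N)
    {f : P →* ℂˣ} (hf : f ∈ XN N) (hf1 : f ≠ 1) :
    ∑ v : P, ((f v : ℂˣ) : ℂ) * wt p P c (v : G) = 0 := by
  classical
  have hPc := hmx.1.1
  have hst := FSt_lx hfus hf
  have h1 := trace_formula hM hB hmx hst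
  have h2 : ∀ v : P, lx P f v * wt p P c (v : G) = ((f v : ℂˣ) : ℂ) * wt p P c (v : G) := by
    intro v
    rw [lx_mem f v.2]
  rw [Finset.sum_congr rfl fun v _ => h2 v] at h1
  rw [← h1]
  apply Finset.sum_eq_zero
  intro χ _
  by_cases hχ : χ ∈ B
  · rw [← la_eq hM hB hmx hst hχ, irr_inner (la hM hB hmx hst hχ).2 χ.2, if_neg, mul_zero]
    intro h3
    rw [la_eq] at h3
    apply hf1
    apply MonoidHom.ext
    intro w
    obtain ⟨s, hs, hne⟩ := dv_major hM hB hmx hχ w.2 (fun v hv => hab v hv w w.2)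
    have h4 := dv_star hM (HF_hd hM hB hmx hst) (irr_classFun χ.2) hs (ev_blk hPc w.2)
    rw [h3, HF_of hst (ev_mv hPc w.2), one_mul, inv_one, mul_one, lx_mem _ w.2] at h4
    have h5 : ((f ⟨w, w.2⟩ : ℂˣ) : ℂ) = 1 := by
      have h6 : (((f ⟨w, w.2⟩ : ℂˣ) : ℂ) - 1) *
          dv M (w : G) (ev p P c w) (χ : G → ℂ) s = 0 := by
        rw [sub_mul, one_mul, ← h4, sub_self]
      rcases mul_eq_zero.1 h6 with h7 | h7
      · exact sub_eq_zero.1 h7
      · exact absurd h7 hne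
    exact Units.ext h5
  · rw [ind_not hχ, zero_mul]

open Classical in
theorem abs_count (hM : IsPModular p M) {B : Set (IrrCharacter G)} (hB : IsPBlock M B)
    {P : Subgroup G} [Fintype P] {c : MonoidAlgebra (kM M) G} (hmx : IsMx p ⊤ (JB M B) P c)
    (hab : ∀ x ∈ P, ∀ y ∈ P, x * y = y * x) {N : Subgroup P} (hfus : Fus p P c N) (x : P) :
    (N.index : ℂ) * ∑ v : P, (if x⁻¹ * v ∈ N then wt p P c (v : G) else 0) = Nat.card B := by
  haveI := finite_hom (P := P)
  haveI := Fintype.ofFinite (XN N)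
  have hcomm : commutator P ≤ N := by
    rw [commutator_def, Subgroup.commutator_le]
    intro a _ b _
    have h0 : a * b = b * a := Subtype.ext (hab a a.2 b b.2)
    rw [commutatorElement_eq_one_iff_mul_comm.2 h0]; exact N.one_mem
  have h1 : ∀ v : P, (N.index : ℂ) * (if x⁻¹ * v ∈ N then wt p P c (v : G) else 0) =
      ∑ f : XN N, (((f : P →* ℂˣ) x⁻¹ : ℂˣ) : ℂ) *
        ((((f : P →* ℂˣ) v : ℂˣ) : ℂ) * wt p P c (v : G)) := by
    intro v
    have h2 : ∀ f : XN N, (((f : P →* ℂˣ) x⁻¹ : ℂˣ) : ℂ) *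
        ((((f : P →* ℂˣ) v : ℂˣ) : ℂ) * wt p P c (v : G)) =
        (((f : P →* ℂˣ) (x⁻¹ * v) : ℂˣ) : ℂ) * wt p P c (v : G) := by
      intro f
      rw [map_mul, Units.val_mul, mul_assoc]
    rw [Finset.sum_congr rfl fun f _ => h2 f, ← Finset.sum_mul]
    split_ifs with h
    · rw [(XN_sum hcomm _).1 h]
    · rw [(XN_sum hcomm _).2 h, zero_mul, mul_zero]
  rw [Finset.mul_sum, Finset.sum_congr rfl fun v _ => h1 v, Finset.sum_comm]
  rw [Finset.sum_eq_single (1 : XN N)]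
  · rw [card_formula hM hB hmx]
    refine Finset.sum_congr rfl fun v _ => ?_
    show (((1 : P →* ℂˣ) x⁻¹ : ℂˣ) : ℂ) * ((((1 : P →* ℂˣ) v : ℂˣ) : ℂ) * _) = _
    rw [MonoidHom.one_apply, MonoidHom.one_apply, Units.val_one, one_mul, one_mul]
  · intro f _ hf
    rw [← Finset.mul_sum, abs_trace hM hB hmx hab hfus f.2 (fun h => hf (Subtype.ext h)), mul_zero]
  · intro h; exact absurd (Finset.mem_univ _) h

end Abs

end CfsgLib.Star
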