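import Mathlib
import Cfsg.Agent.EqBase
import Cfsg.Agent.LibStar28

/-!
# Star construction, XXIX: relative version of the counting formula (helper18)
-/

set_option autoImplicit false
set_option linter.unusedSectionVars false
set_option linter.style.haveILetI false
set_option linter.unusedSimpArgs false
set_option linter.unusedVariables false

namespace CfsgLib.Star

open Cfsg CfsgLib.GalChar CfsgLib.GalField CfsgLib.BlockReg CfsgLib.BlockReg2 CfsgLib.LocR
  CfsgLib.BrP CfsgLib.Car CfsgLib.BlockQP CfsgLib.BlockDefect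
  CfsgLib.Points CfsgLib.PLocalInd CfsgLib.CharBasic CfsgLib.BlockCore CfsgLib.BlockSec
  CfsgLib.BlockR CfsgLib.BlockIdem CfsgLib.BlockOrth CfsgLib.CharIndA CfsgLib.CharNorm
open scoped ComplexConjugate Pointwise

universe u

section Rel

variable {M : Ideal AlgInt} [hPr : M.IsPrime] {G : Type u} [Group G] [Fintype G]
variable {p : ℕ} [hp : Fact p.Prime]

open Classical in
/-- the block of `C_H(v)` below `(P, c)` -/
noncomputable def evH (p : ℕ) (H P : Subgroup G) (c : MonoidAlgebra (kM M) G) (v : G) :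
    MonoidAlgebra (kM M) G :=
  if h : ∃ e, LEp p H (Subgroup.zpowers v, e) (P, c) then h.choose else 0

/-- local ranks -/
noncomputable def rk (p : ℕ) (H P : Subgroup G) (c : MonoidAlgebra (kM M) G) (v : G) : ℕ :=
  blockRank p (bset M (CH H (Subgroup.zpowers v)) (evH p H P c v))

variable [hch : CharP (kM M) p]

theorem evH_spec {H P : Subgroup G} {c : MonoidAlgebra (kM M) G} (hPc : BP p H P c) {v : G}
    (hv : v ∈ P) : LEp p H (Subgroup.zpowers v, evH p H P c v) (P, c) := by
  have h : ∃ e, LEp p H (Subgroup.zpowers v, e) (P, c) :=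
    exists_le_pair hPc (by rw [Subgroup.zpowers_le]; exact hv)
  unfold evH
  rw [dif_pos h]
  exact h.choose_spec

theorem evH_unique {H P : Subgroup G} {c e : MonoidAlgebra (kM M) G} (hPc : BP p H P c) {v : G}
    (h : LEp p H (Subgroup.zpowers v, e) (P, c)) : e = evH p H P c v := by
  have hv : v ∈ P := LEp.le h (Subgroup.mem_zpowers v)
  exact LEp.unique hPc h (evH_spec hPc hv)

theorem evH_blk {H P : Subgroup G} {c : MonoidAlgebra (kM M) G} (hPc : BP p H P c) {v : G}
    (hv : v ∈ P) : IsBlk (CH H (Subgroup.zpowers v)) (evH p H P c v) :=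
  ((evH_spec hPc hv).bp_left hPc).blk

/-- transport to the group `↥H` -/
theorem rel_data (hM : IsPModular p M) {H P : Subgroup G} [Fintype H]
    {b c : MonoidAlgebra (kM M) G} (hb : IsBlk H b) (hmx : IsMx p H b P c) :
    ∃ c' : MonoidAlgebra (kM M) H,
      IsMx p ⊤ (JB M (bset M H b)) (P.subgroupOf H) c' ∧
      (∀ x : H, x ∈ TS ⊤ (P.subgroupOf H) c' ↔ (x : G) ∈ TS H P c) ∧
      ∀ v : H, (v : G) ∈ P → blockRank p (bset M (CH ⊤ (Subgroup.zpowers v))
        (ev p (P.subgroupOf H) c' v)) = rk p H P c (v : G) := by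
  classical
  haveI : M.IsMaximal := hM.2.1
  have hι : Function.Injective (H.subtype) := Subgroup.subtype_injective H
  obtain ⟨hB, hbk⟩ := bset_spec (M := M) hb
  have hPc := hmx.1.1
  have hPH : P ≤ H := hPc.le
  have hr : (H.subtype).range = H := Subgroup.range_subtype H
  have hmapP : (P.subgroupOf H).map H.subtype = P := Subgroup.map_subgroupOf_eq_of_le hPH
  -- the block c as a set of characters
  obtain ⟨e, he, hec⟩ := iC_surj hι (P := P.subgroupOf H) (x := c) (by
    rw [hr, hmapP]; exact hPc.blk)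
  have hmaxK : IsMaximalBrauerPair p M (bset M H b) (P.subgroupOf H) e := by
    rw [isMx_iff hι hM hB, hr, hmapP, hec, hbk]
    exact ⟨he, hmx⟩
  have hmx' := ((g_mx hM hB).1 hmaxK).2
  refine ⟨J M (P.subgroupOf H) e, hmx', ?_, ?_⟩
  · intro x
    rw [← g_stab he, stab_iff hι he]
    have h0 : (H.subtype.comp (Subgroup.centralizer ((P.subgroupOf H : Subgroup H) : Set H)).subtype)
      = iC H.subtype (P.subgroupOf H) := rfl
    rw [h0, hec, ← map_mem_normalizer hι, hmapP]
    constructor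
    · rintro ⟨h1, h2, h3⟩; exact ⟨x.2, h1, h3⟩
    · rintro ⟨_, h1, h2⟩
      refine ⟨h1, ?_, h2⟩
      have h3 : x ∈ Subgroup.normalizer ((P.subgroupOf H : Subgroup H) : Set H) := by
        rw [← map_mem_normalizer hι, hmapP]; exact h1
      rw [mem_normalizer_iff_cS, ← centralizer_cS, cS_of_normalizer h3]
  · intro v hv
    have hvP : v ∈ P.subgroupOf H := hv
    have hle := ev_spec hmx'.1.1 hvP
    obtain ⟨f, hf, hfe⟩ := g_surj (ev_blk hmx'.1.1 hvP)
    rw [← hfe] at hle ⊢
    have h1 : SubpairLE p M (Subgroup.zpowers v) f (P.subgroupOf H) e := (g_le hM hf he).2 hle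
    have h2 := (subpair_le_iff hι hM hf he).1 h1
    rw [hr, hmapP, hec, MonoidHom.map_zpowers] at h2
    have h3 : bk M (iC H.subtype (Subgroup.zpowers v)) f = evH p H P c (v : G) :=
      evH_unique hPc h2
    have hspec := bset_spec (M := M) (ev_blk hmx'.1.1 hvP)
    rw [← hfe] at hspec
    have h4 := (inv_of_bk p (ι := (CH ⊤ (Subgroup.zpowers v)).subtype)
      (ι' := (Subgroup.centralizer ((Subgroup.zpowers v : Subgroup H) : Set H)).subtype)
      (Subgroup.subtype_injective _) (Subgroup.subtype_injective _) hspec.1 hf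
      (by rw [Subgroup.range_subtype, Subgroup.range_subtype, CH_top]) hspec.2).1
    rw [h4]
    have hspec' := bset_spec (M := M) (evH_blk hPc hv)
    unfold rk
    refine (inv_of_bk p (ι := iC H.subtype (Subgroup.zpowers v))
      (ι' := (CH H (Subgroup.zpowers (v : G))).subtype)
      (iC_injective hι _) (Subgroup.subtype_injective _) hf hspec'.1 ?_ ?_).1
    · rw [range_iC hι, Subgroup.range_subtype, MonoidHom.map_zpowers, Subgroup.range_subtype]
      rfl
    · rw [hspec'.2, h3]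

omit [Fintype G] in
theorem card_sub {H : Subgroup G} {L : Subgroup H} {L' : Subgroup G} (hL : L' ≤ H)
    (h : ∀ x : H, x ∈ L ↔ (x : G) ∈ L') : Nat.card L = Nat.card L' := by
  have : L = L'.subgroupOf H := by
    ext x
    rw [h, Subgroup.mem_subgroupOf]
  rw [this]
  exact Nat.card_congr (Subgroup.subgroupOfEquivOfLe hL).toEquiv

theorem mem_CH_sub {H : Subgroup G} [Fintype H] {v x : H} :
    x ∈ CH ⊤ (Subgroup.zpowers v) ↔ (x : G) ∈ CH H (Subgroup.zpowers (v : G)) := by
  rw [CH_zp, Subgroup.mem_centralizer_singleton_iff]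
  unfold CH
  rw [Subgroup.mem_inf, CfsgLib.BlockOrth.centralizer_zpowers,
    Subgroup.mem_centralizer_singleton_iff]
  constructor
  · intro h; exact ⟨x.2, congrArg Subtype.val h⟩
  · intro h; exact Subtype.ext h.2

open Classical in
/-- the relative counting formula -/
theorem rel_count (hM : IsPModular p M) {H P : Subgroup G} [Fintype P]
    {b c : MonoidAlgebra (kM M) G} (hb : IsBlk H b) (hmx : IsMx p H b P c)
    (hab : ∀ x ∈ P, ∀ y ∈ P, x * y = y * x) {N : Subgroup G} (hNP : N ≤ P)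
    (hTN : ∀ t ∈ TS H P c, ∀ x ∈ P, x⁻¹ * (t * x * t⁻¹) ∈ N) {x : G} (hx : x ∈ P) :
    (N.relIndex P : ℂ) * ∑ v : P, (if x⁻¹ * (v : G) ∈ N then
      (Nat.card (TS H P c ⊓ CH H (Subgroup.zpowers (v : G)) : Subgroup G) : ℂ) /
        (Nat.card (TS H P c) : ℂ) * rk p H P c (v : G) else 0) = Nat.card (bset M H b) := by
  haveI := Fintype.ofFinite H
  haveI : M.IsMaximal := hM.2.1
  obtain ⟨hB, hbk⟩ := bset_spec (M := M) hb
  obtain ⟨c', hmx', hTS, hrk⟩ := rel_data hM hb hmx
  have hPH : P ≤ H := hmx.1.1.le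
  haveI := Fintype.ofFinite (P.subgroupOf H)
  have hab' : ∀ x ∈ P.subgroupOf H, ∀ y ∈ P.subgroupOf H, x * y = y * x := by
    intro x hx y hy
    exact Subtype.ext (hab x hx y hy)
  set N' : Subgroup (P.subgroupOf H) := (N.subgroupOf H).subgroupOf (P.subgroupOf H) with hN'
  have hmemN : ∀ z : P.subgroupOf H, z ∈ N' ↔ ((z : H) : G) ∈ N := by
    intro z
    rw [hN', Subgroup.mem_subgroupOf, Subgroup.mem_subgroupOf]
  have hfus : Fus p (P.subgroupOf H) c' N' := by
    intro v w x hv hw hwx hT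
    obtain ⟨e, h1, h2⟩ := hT
    obtain ⟨y, hy, d, hd, rfl⟩ := abelian_move (g_blk hB) hmx' hab' h1 (Subgroup.mem_top _) h2
    rw [hmemN]
    have h3 := hTN y ((hTS y).1 hy) (v : G) hv
    have h4 : w = y * v * y⁻¹ := by
      rw [hwx]
      have h5 := comm_of_C hd
      calc y * d * v * (y * d)⁻¹ = y * (d * v) * d⁻¹ * y⁻¹ := by group
        _ = y * (v * d) * d⁻¹ * y⁻¹ := by rw [h5]
        _ = _ := by group
    have h5 : (w : G) = y * v * (y : G)⁻¹ := congrArg Subtype.val h4
    show ((v : G))⁻¹ * (w : G) ∈ N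
    rw [h5]
    exact h3
  have h1 := abs_count hM hB hmx' hab' hfus (⟨⟨x, hPH hx⟩, hx⟩ : P.subgroupOf H)
  have h2 : N'.index = N.relIndex P := by
    have h3 := Subgroup.relIndex_subgroupOf (H := N) hPH
    rw [← h3]; rfl
  rw [h2] at h1
  rw [← h1]
  congr 1
  rw [← Equiv.sum_comp (Subgroup.subgroupOfEquivOfLe hPH).toEquiv]
  refine Finset.sum_congr rfl fun v _ => ?_
  have e1 : (((Subgroup.subgroupOfEquivOfLe hPH).toEquiv v : P) : G) = ((v : H) : G) := rfl
  rw [e1]
  have hvP : ((v : H) : G) ∈ P := v.2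
  have h3 : ((⟨⟨x, hPH hx⟩, hx⟩ : P.subgroupOf H)⁻¹ * v ∈ N') ↔ x⁻¹ * ((v : H) : G) ∈ N := by
    rw [hmemN]; rfl
  simp only [h3]
  split_ifs
  · rw [wt_abel (g_blk hB) hmx' hab' v.2, hrk v hvP]
    have h4 : Nat.card (TS ⊤ (P.subgroupOf H) c') = Nat.card (TS H P c) :=
      card_sub (fun x hx => hx.1) hTS
    have h5 : Nat.card (TS ⊤ (P.subgroupOf H) c' ⊓ CH ⊤ (Subgroup.zpowers (v : H)) :
        Subgroup H) = Nat.card (TS H P c ⊓ CH H (Subgroup.zpowers ((v : H) : G)) : Subgroup G) := by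
      apply card_sub
      · intro x hx; exact hx.1.1
      · intro x
        show (x ∈ TS ⊤ (P.subgroupOf H) c' ∧ x ∈ CH ⊤ (Subgroup.zpowers (v : H))) ↔
          ((x : G) ∈ TS H P c ∧ (x : G) ∈ CH H (Subgroup.zpowers ((v : H) : G)))
        rw [hTS, mem_CH_sub]
    rw [h4, h5]
  · rfl

end Rel

end CfsgLib.Star
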