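import Mathlib
import Cfsg.Agent.EqBase
import Cfsg.Agent.LibStar29

/-!
# Star construction, XXX: Watanabe's theorem (helper18)
-/

set_option autoImplicit false
set_option linter.unusedSectionVars false
set_option linter.style.haveILetI false
set_option linter.unusedSimpArgs false
set_option linter.unusedVariables false

namespace CfsgLib.Star

open Cfsg CfsgLib.GalChar CfsgLib.GalField CfsgLib.BlockReg CfsgLib.BlockReg2 CfsgLib.LocR
  CfsgLib.BrP CfsgLib.Car CfsgLib.BlockQP CfsgLib.BlockDefect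
  CfsgLib.Points CfsgLib.PLocalInd CfsgLib.CharBasic CfsgLib.BlockCore CfsgLib.BlockSec
  CfsgLib.BlockR CfsgLib.BlockIdem CfsgLib.BlockOrth CfsgLib.CharIndA CfsgLib.CharNorm
open scoped ComplexConjugate Pointwise

universe u

section Coprime

variable {G : Type u} [Group G] [Finite G] {p : ℕ} [hp : Fact p.Prime]

/-- coprime action on an abelian `p`-group -/
theorem exists_N {P T : Subgroup G} (hab : ∀ x ∈ P, ∀ y ∈ P, x * y = y * x)
    (hPp : IsPGroup p P) (hTN : T ≤ Subgroup.normalizer (P : Set G))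
    (hA : ¬ p ∣ Nat.card (actHom P T hTN).range) :
    ∃ N : Subgroup G, N ≤ P ∧ (∀ t ∈ T, ∀ x ∈ P, x⁻¹ * (t * x * t⁻¹) ∈ N) ∧
      ∀ z ∈ N, (∀ t ∈ T, t * z * t⁻¹ = z) → z = 1 := by
  classical
  letI : CommGroup P := { (inferInstance : Group P) with
    mul_comm := fun a b => Subtype.ext (hab a a.2 b b.2) }
  haveI := Fintype.ofFinite (actHom P T hTN).range
  let nm : P →* P :=
    { toFun := fun x => ∏ α : (actHom P T hTN).range, (α : MulAut P) x
      map_one' := by simp
      map_mul' := fun x y => by simp [Finset.prod_mul_distrib] }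
  have hnm : ∀ x : P, nm x = ∏ α : (actHom P T hTN).range, (α : MulAut P) x := fun x => rfl
  refine ⟨nm.ker.map P.subtype, Subgroup.map_subtype_le _, ?_, ?_⟩
  · intro t ht x hx
    let α₀ : (actHom P T hTN).range := ⟨actHom P T hTN ⟨t, ht⟩, ⟨_, rfl⟩⟩
    refine ⟨(⟨x, hx⟩ : P)⁻¹ * (α₀ : MulAut P) ⟨x, hx⟩, ?_, rfl⟩
    show nm ((⟨x, hx⟩ : P)⁻¹ * (α₀ : MulAut P) ⟨x, hx⟩) = 1
    rw [map_mul, map_inv]
    have h1 : nm ((α₀ : MulAut P) ⟨x, hx⟩) = nm ⟨x, hx⟩ := by
      rw [hnm, hnm, ← Equiv.prod_comp (Equiv.mulRight α₀)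
        (fun α : (actHom P T hTN).range => (α : MulAut P) ⟨x, hx⟩)]
      rfl
    rw [h1, inv_mul_cancel]
  · rintro _ ⟨z, hz, rfl⟩ hfix
    have hz1 : nm z = 1 := hz
    have h1 : ∀ α : (actHom P T hTN).range, (α : MulAut P) z = z := by
      rintro ⟨_, ⟨t, rfl⟩⟩
      apply Subtype.ext
      rw [actHom_apply]
      exact hfix t t.2
    rw [hnm, Finset.prod_congr rfl fun α _ => h1 α, Finset.prod_const, Finset.card_univ,
      ← Nat.card_eq_fintype_card] at hz1
    have h2 : orderOf z ∣ Nat.card (actHom P T hTN).range := orderOf_dvd_of_pow_eq_one hz1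
    obtain ⟨j, hj⟩ := IsPGroup.iff_orderOf.1 hPp z
    have h3 : j = 0 := by
      by_contra h
      apply hA
      refine (dvd_pow_self p h).trans ?_
      rw [← hj]; exact h2
    rw [h3, pow_zero, orderOf_eq_one_iff] at hj
    rw [hj]; rfl

end Coprime

section Wat

variable {M : Ideal AlgInt} [hPr : M.IsPrime] {G : Type u} [Group G] [Fintype G]
variable {p : ℕ} [hp : Fact p.Prime] [hch : CharP (kM M) p]

theorem ab_le_CH {H P : Subgroup G} (hab : ∀ x ∈ P, ∀ y ∈ P, x * y = y * x) (hPH : P ≤ H) {v : G}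
    (hv : v ∈ P) : P ≤ CH H (Subgroup.zpowers v) := by
  refine le_inf hPH ?_
  rw [CfsgLib.BlockOrth.centralizer_zpowers]
  intro x hx
  exact mem_cen.2 (hab x hx v hv)

/-- characterization of the local block -/
theorem evH_abel {H P : Subgroup G} {c g : MonoidAlgebra (kM M) G} (hPc : BP p H P c)
    (hab : ∀ x ∈ P, ∀ y ∈ P, x * y = y * x) {v : G} (hv : v ∈ P) :
    g = evH p H P c v ↔ IsBlk (CH H (Subgroup.zpowers v)) g ∧ Br P g * c = c := by
  have hN : P ≤ Subgroup.normalizer ((Subgroup.zpowers v : Subgroup G) : Set G) :=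
    (ab_le_CH hab hPc.le hv).trans (inf_le_right.trans (centralizer_le_normalizer _))
  constructor
  · rintro rfl
    exact ⟨evH_blk hPc hv, ((evH_spec hPc hv).nrm hPc hN).br⟩
  · rintro ⟨h1, h2⟩
    apply evH_unique hPc
    have hvle : Subgroup.zpowers v ≤ P := by rw [Subgroup.zpowers_le]; exact hv
    exact Relation.ReflTransGen.single ⟨⟨hvle.trans hPc.le, hPc.pg.to_le hvle, h1⟩, hPc, hvle,
      hN, fx_mono (ab_le_CH hab hPc.le hv) h1.zh.2, h2⟩

theorem rk_one {H P : Subgroup G} {b c : MonoidAlgebra (kM M) G} (hb : IsBlk H b)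
    (hmx : IsMx p H b P c) (hab : ∀ x ∈ P, ∀ y ∈ P, x * y = y * x) {v : G} (hv : v ∈ P)
    (hcen : CH H (Subgroup.zpowers v) = H) : evH p H P c v = b := by
  symm
  rw [evH_abel hmx.1.1 hab hv, hcen]
  exact ⟨hb, hmx.1.2⟩

theorem CH_one (H : Subgroup G) : CH H (Subgroup.zpowers (1 : G)) = H := by
  rw [Subgroup.zpowers_one_eq_bot, CfsgLib.BrP.CH_bot]

theorem rk_eq_of {H P : Subgroup G} {b c : MonoidAlgebra (kM M) G} (hb : IsBlk H b)
    (hmx : IsMx p H b P c) (hab : ∀ x ∈ P, ∀ y ∈ P, x * y = y * x) {v : G} (hv : v ∈ P)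
    (hcen : CH H (Subgroup.zpowers v) = H) : rk p H P c v = blockRank p (bset M H b) := by
  unfold rk
  rw [rk_one hb hmx hab hv hcen, hcen]

theorem CH_comm (H : Subgroup G) (u v : G) :
    CH (CH H (Subgroup.zpowers u)) (Subgroup.zpowers v) =
      CH (CH H (Subgroup.zpowers v)) (Subgroup.zpowers u) := by
  rw [← CH_sup, ← CH_sup, sup_comm]

theorem rk_comm {H P : Subgroup G} {b c : MonoidAlgebra (kM M) G} (hb : IsBlk H b)
    (hmx : IsMx p H b P c) (hab : ∀ x ∈ P, ∀ y ∈ P, x * y = y * x) {u v : G} (hu : u ∈ P)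
    (hv : v ∈ P) : rk p (CH H (Subgroup.zpowers u)) P c v =
      rk p (CH H (Subgroup.zpowers v)) P c u := by
  have h1 := isMx_local hb hmx hab (evH_spec hmx.1.1 hu)
  have h2 := isMx_local hb hmx hab (evH_spec hmx.1.1 hv)
  have h3 : evH p (CH H (Subgroup.zpowers u)) P c v = evH p (CH H (Subgroup.zpowers v)) P c u := by
    rw [evH_abel h2.1.1 hab hu, ← CH_comm H u v]
    exact (evH_abel h1.1.1 hab hv).1 rfl
  unfold rk
  rw [h3, CH_comm H u v]

theorem wat (hM : IsPModular p M) : ∀ (n : ℕ) (H : Subgroup G), Nat.card H ≤ n →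
    ∀ (b c : MonoidAlgebra (kM M) G) (P : Subgroup G), IsBlk H b → IsMx p H b P c →
    (∀ x ∈ P, ∀ y ∈ P, x * y = y * x) → ∀ u ∈ P, (∀ t ∈ TS H P c, t * u * t⁻¹ = u) →
    blockRank p (bset M H b) = rk p H P c u ∧
      Nat.card (bset M H b) = Nat.card (bset M (CH H (Subgroup.zpowers u)) (evH p H P c u)) := by
  classical
  haveI : M.IsMaximal := hM.2.1
  intro n
  induction n with
  | zero =>
    intro H hH
    have : 0 < Nat.card H := Nat.card_pos
    omega
  | succ n ih =>
    intro H hH b c P hb hmx hab u hu hfix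
    have hPc := hmx.1.1
    have hPH := hPc.le
    haveI := Fintype.ofFinite P
    by_cases hcen : CH H (Subgroup.zpowers u) = H
    · refine ⟨(rk_eq_of hb hmx hab hu hcen).symm, ?_⟩
      rw [rk_one hb hmx hab hu hcen, hcen]
    -- the local data
    set H' := CH H (Subgroup.zpowers u) with hH'
    have hmx' : IsMx p H' (evH p H P c u) P c := isMx_local hb hmx hab (evH_spec hPc hu)
    have hf : IsBlk H' (evH p H P c u) := evH_blk hPc hu
    have hH'H : H' ≤ H := inf_le_left
    have hTH' : TS H P c ≤ H' := by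
      intro t ht
      refine ⟨ht.1, ?_⟩
      show t ∈ Subgroup.centralizer ((Subgroup.zpowers u : Subgroup G) : Set G)
      rw [CfsgLib.BlockOrth.centralizer_zpowers, mem_cen]
      have := hfix t ht
      calc t * u = (t * u * t⁻¹) * t := by group
        _ = u * t := by rw [this]
    have hTT : TS H' P c = TS H P c := by
      apply le_antisymm
      · intro x hx; exact ⟨hH'H hx.1, hx.2.1, hx.2.2⟩
      · intro x hx; exact ⟨hTH' hx, hx.2.1, hx.2.2⟩
    have hTN : TS H P c ≤ Subgroup.normalizer (P : Set G) := TS_le_normalizer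
    have hpel : ∀ R : Subgroup G, R ≤ TS H P c → IsPGroup p R →
        R ≤ Subgroup.centralizer (P : Set G) := by
      intro R hR hRp
      refine (mx_pelem hb hmx hR hRp).trans (sup_le (ab_cen hab) inf_le_right)
    obtain ⟨N, hNP, hTN', hNfix⟩ := exists_N hab hPc.pg hTN (act_card hTN hpel)
    -- comparison of local ranks
    have key : ∀ z ∈ P, CH H (Subgroup.zpowers z) ≠ H → rk p H P c z = rk p H' P c z := by
      intro z hz hne
      have hlt : Nat.card (CH H (Subgroup.zpowers z)) < Nat.card H := by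
        rcases lt_or_eq_of_le (Subgroup.card_le_of_le
          (inf_le_left : CH H (Subgroup.zpowers z) ≤ H)) with h | h
        · exact h
        · exact absurd (Subgroup.eq_of_le_of_card_ge inf_le_left h.ge) hne
      have hmz : IsMx p (CH H (Subgroup.zpowers z)) (evH p H P c z) P c :=
        isMx_local hb hmx hab (evH_spec hPc hz)
      have h1 := (ih (CH H (Subgroup.zpowers z)) (by omega) _ c P (evH_blk hPc hz) hmz hab u hu
        (fun t ht => hfix t ⟨ht.1.1, ht.2.1, ht.2.2⟩)).1
      have h2 : rk p (CH H (Subgroup.zpowers z)) P c u = rk p H' P c z :=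
        rk_comm hb hmx hab hz hu
      rw [← h2, ← h1]
      rfl
    have hcent : ∀ z ∈ P, CH H (Subgroup.zpowers z) = H → ∀ t ∈ TS H P c, t * z * t⁻¹ = z := by
      intro z hz h t ht
      have h1 : t ∈ CH H (Subgroup.zpowers z) := by rw [h]; exact ht.1
      have h2 : t ∈ Subgroup.centralizer ((Subgroup.zpowers z : Subgroup G) : Set G) := h1.2
      rw [CfsgLib.BlockOrth.centralizer_zpowers, mem_cen] at h2
      rw [h2, mul_inv_cancel_right]
    have hinter : ∀ v : G, TS H' P c ⊓ CH H' (Subgroup.zpowers v) =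
        TS H P c ⊓ CH H (Subgroup.zpowers v) := by
      intro v
      rw [hTT]
      apply le_antisymm
      · rintro x ⟨h1, h2⟩; exact ⟨h1, hH'H h2.1, h2.2⟩
      · rintro x ⟨h1, h2⟩; exact ⟨h1, hTH' h1, h2.2⟩
    have hk : (Nat.card (bset M H b) : ℂ) = Nat.card (bset M H' (evH p H P c u)) := by
      rw [← rel_count hM hb hmx hab hNP hTN' hu,
        ← rel_count hM hf hmx' hab hNP (by rw [hTT]; exact hTN') hu]
      congr 1
      refine Finset.sum_congr rfl fun v _ => ?_
      split_ifs with h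
      · rw [hinter, hTT]
        congr 2
        apply key v v.2
        intro hcv
        apply hcen
        have h1 := hNfix _ h (by
          intro t ht
          have h2 := hfix t ht
          have h3 := hcent v v.2 hcv t ht
          calc t * (u⁻¹ * v) * t⁻¹ = (t * u * t⁻¹)⁻¹ * (t * v * t⁻¹) := by group
            _ = _ := by rw [h2, h3])
        have h2 : u = v := (inv_mul_eq_one.1 h1)
        rw [hH', h2, hcv]
      · rfl
    refine ⟨?_, by exact_mod_cast hk⟩
    have hT0 : (Nat.card (TS H P c) : ℂ) ≠ 0 := by exact_mod_cast Nat.card_pos.ne'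
    have hNP0 : (N.relIndex P : ℂ) ≠ 0 := by
      have : N.relIndex P ≠ 0 := Subgroup.index_ne_zero_of_finite
      exact_mod_cast this
    have e1 := rel_count hM hb hmx hab hNP hTN' P.one_mem
    have e2 := rel_count hM hf hmx' hab hNP (by rw [hTT]; exact hTN') P.one_mem
    rw [← hk, ← e1] at e2
    have e3 := mul_left_cancel₀ hNP0 e2
    rw [← Finset.add_sum_erase Finset.univ _ (Finset.mem_univ (1 : P)),
      ← Finset.add_sum_erase Finset.univ _ (Finset.mem_univ (1 : P))] at e3
    have e4 : ∀ v ∈ Finset.univ.erase (1 : P),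
        (if (1 : G)⁻¹ * (v : G) ∈ N then
          (Nat.card (TS H' P c ⊓ CH H' (Subgroup.zpowers (v : G)) : Subgroup G) : ℂ) /
          (Nat.card (TS H' P c) : ℂ) * rk p H' P c (v : G) else 0) =
        (if (1 : G)⁻¹ * (v : G) ∈ N then
          (Nat.card (TS H P c ⊓ CH H (Subgroup.zpowers (v : G)) : Subgroup G) : ℂ) /
          (Nat.card (TS H P c) : ℂ) * rk p H P c (v : G) else 0) := by
      intro v hv
      have hv1 : v ≠ 1 := Finset.ne_of_mem_erase hv
      split_ifs with h
      · rw [hinter, hTT]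
        congr 2
        symm
        apply key v v.2
        intro hcv
        rw [inv_one, one_mul] at h
        exact hv1 (Subtype.ext (hNfix _ h (hcent v v.2 hcv)))
      · rfl
    rw [Finset.sum_congr rfl e4] at e3
    have e5 := add_right_cancel e3
    have h1N : (1 : G)⁻¹ * ((1 : P) : G) ∈ N := by
      rw [inv_one, one_mul]; exact N.one_mem
    rw [if_pos h1N, if_pos h1N, hinter, hTT] at e5
    have h6 : TS H P c ⊓ CH H (Subgroup.zpowers ((1 : P) : G)) = TS H P c := by
      rw [Subgroup.coe_one, CH_one, inf_eq_left]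
      exact TS_le
    rw [h6, div_self hT0, one_mul, one_mul] at e5
    have h7 : rk p H' P c 1 = rk p H P c 1 := by exact_mod_cast e5
    have h8 : rk p H P c 1 = blockRank p (bset M H b) :=
      rk_eq_of hb hmx hab P.one_mem (CH_one H)
    have h9 : rk p H' P c 1 = blockRank p (bset M H' (evH p H P c u)) :=
      rk_eq_of hf hmx' hab P.one_mem (CH_one H')
    rw [← h8, ← h7, h9]
    rfl

omit hPr hch in
/-- S4644 -/
theorem s4644 (hM : IsPModular p M) {B : Set (IrrCharacter G)} (hB : IsPBlock M B)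
    {P : Subgroup G} (hPD : IsDefectGroup p M B P) (hab : ∀ x ∈ P, ∀ y ∈ P, x * y = y * x)
    {c : Set (IrrCharacter (Subgroup.centralizer (P : Set G)))}
    (hc : IsInducedBlock M (Subgroup.centralizer (P : Set G)) c B)
    {T : Subgroup G} (hT : ∀ g : G, g ∈ T ↔ (g ∈ Subgroup.normalizer (P : Set G) ∧
      StabilizesBlock (Subgroup.centralizer (P : Set G)) c g))
    {u : G} (hu : u ∈ P) (huT : ∀ g ∈ T, g * u * g⁻¹ = u) {H : Subgroup G}
    (hH : H = Subgroup.centralizer ({u} : Set G)) {f : Set (IrrCharacter H)}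
    (hf : IsInducedBlockIn M H (Subgroup.centralizer (P : Set G)) c f) :
    blockRank p B = blockRank p f ∧ Nat.card B = Nat.card f := by
  classical
  haveI hPr : M.IsPrime := isPrime_of_modular hM
  haveI : M.IsMaximal := hM.2.1
  haveI := charP_kM hM
  have hmx := ab_mx hM hB hPD hab hc
  have hPc := hmx.1.1
  have hTS := ab_TS hM hc.1 hT
  obtain ⟨h1, h2⟩ := wat hM (Nat.card (⊤ : Subgroup G)) ⊤ le_rfl (JB M B) (J M P c) P (g_blk hB)
    hmx hab u hu (by rw [← hTS]; exact huT)
  obtain ⟨h3, h4⟩ := bset_id (M := M) p hB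
  rw [h3] at h1
  rw [h4] at h2
  rw [h1, h2]
  have hHC : H = CH ⊤ (Subgroup.zpowers u) := by rw [hH, CH_zp]
  have hPC := ab_cen hab
  have hKH : Subgroup.centralizer (P : Set G) ≤ H := by
    rw [hHC, CH_top]
    exact centralizer_anti (by rw [Subgroup.zpowers_le]; exact hu)
  have h5 := (indIn_iff hM hKH hPc.pg hPC (Subgroup.centralizer_le_normalizer _) inf_le_right
    hc.1 hf.2.1).1 hf
  have hev : bk M H.subtype f = evH p ⊤ P (J M P c) u := by
    rw [evH_abel hPc hab hu]
    refine ⟨?_, h5⟩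
    rw [← hHC]
    exact h_blk hf.2.1
  obtain ⟨h6, h7⟩ := bset_spec (M := M) (evH_blk hPc hu)
  obtain ⟨h8, h9⟩ := inv_of_bk p (ι := (CH ⊤ (Subgroup.zpowers u)).subtype) (ι' := H.subtype)
    (Subgroup.subtype_injective _) (Subgroup.subtype_injective _) h6 hf.2.1
    (by rw [Subgroup.range_subtype, Subgroup.range_subtype, hHC]) (by rw [h7, hev])
  exact ⟨h8, h9⟩

end Wat

end CfsgLib.Star
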