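import Mathlib
import Cfsg.Agent.EqBase

/-!
# Local symmetric algebras with a small centre (helper18)

A local symmetric algebra over an algebraically closed field whose centre has dimension at most
four is commutative.
-/

set_option autoImplicit false
set_option linter.unusedSectionVars false
set_option linter.style.haveILetI false
set_option linter.unusedSimpArgs false
set_option linter.unusedVariables false

namespace CfsgLib.SymLoc

variable {k : Type*} [Field k] {A : Type*} [Ring A] [Algebra k A]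

/-- local symmetric algebra with symmetrizing form `l` and radical `J` -/
structure SL (l : A →ₗ[k] k) (J : Submodule k A) : Prop where
  symm : ∀ a b, l (a * b) = l (b * a)
  nd : ∀ a, (∀ b, l (a * b) = 0) → a = 0
  top : ∀ a, ∃ c : k, a - c • (1 : A) ∈ J
  mulL : ∀ a, ∀ x ∈ J, a * x ∈ J
  mulR : ∀ a, ∀ x ∈ J, x * a ∈ J
  one : (1 : A) ∉ J
  nil : ∃ N : ℕ, J ^ N = ⊥

theorem nil_pow [FiniteDimensional k A] {J : Submodule k A} (hL : ∀ a, ∀ x ∈ J, a * x ∈ J)
    (hn : ∀ x ∈ J, IsNilpotent x) : ∃ N : ℕ, J ^ N = ⊥ := by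
  haveI : IsArtinianRing A := IsArtinianRing.of_finite k A
  obtain ⟨N, hN⟩ := IsArtinianRing.isNilpotent_jacobson_bot (R := A)
  refine ⟨N + 1, ?_⟩
  have h1 : ∀ x ∈ J, x ∈ Ideal.jacobson (⊥ : Ideal A) := by
    intro x hx
    rw [Ideal.mem_jacobson_iff]
    intro y
    have h2 : IsUnit (y * x + 1) := (hn _ (hL y x hx)).isUnit_add_one
    obtain ⟨u, hu⟩ := h2
    refine ⟨((u⁻¹ : Aˣ) : A), ?_⟩
    rw [Ideal.mem_bot]
    have h3 : ((u⁻¹ : Aˣ) : A) * (y * x + 1) = 1 := by rw [← hu]; exact u.inv_mul
    rw [mul_add, mul_one, ← mul_assoc] at h3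
    rw [h3, sub_self]
  have h2 : ∀ n : ℕ, ∀ x ∈ J ^ (n + 1), x ∈ (Ideal.jacobson (⊥ : Ideal A)) ^ (n + 1) := by
    intro n
    induction n with
    | zero =>
      intro x hx
      rw [zero_add, pow_one] at hx
      rw [zero_add, Submodule.pow_one]
      exact h1 x hx
    | succ n ih =>
      intro x hx
      rw [pow_succ] at hx
      rw [Submodule.pow_succ]
      refine Submodule.mul_induction_on hx (fun a ha b hb => ?_) (fun a b ha hb => ?_)
      · exact Ideal.mul_mem_mul (ih a ha) (h1 b hb)
      · exact Ideal.add_mem _ ha hb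
  have h3 : (Ideal.jacobson (⊥ : Ideal A)) ^ (N + 1) = ⊥ := by
    rw [Submodule.pow_succ, hN, Submodule.zero_eq_bot, Submodule.bot_mul]
  rw [eq_bot_iff]
  intro x hx
  have := h2 N x hx
  rw [h3] at this
  exact this

namespace SL

variable {l : A →ₗ[k] k} {J : Submodule k A}

/-- the space of commutators -/
def K (k : Type*) [Field k] (A : Type*) [Ring A] [Algebra k A] : Submodule k A :=
  Submodule.span k {x | ∃ a b : A, x = a * b - b * a}

theorem comm_mem (a b : A) : a * b - b * a ∈ K k A := Submodule.subset_span ⟨a, b, rfl⟩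

theorem lam_K (h : SL l J) {x : A} (hx : x ∈ K k A) : l x = 0 := by
  induction hx using Submodule.span_induction with
  | mem x hx =>
    obtain ⟨a, b, rfl⟩ := hx
    rw [map_sub, h.symm a b, sub_self]
  | zero => exact map_zero l
  | add x y _ _ hx hy => rw [map_add, hx, hy, add_zero]
  | smul c x _ hx => rw [map_smul, hx, smul_zero]

theorem mem_center_iff (h : SL l J) (z : A) :
    z ∈ Subalgebra.center k A ↔ ∀ x ∈ K k A, l (z * x) = 0 := by
  constructor
  · intro hz x hx
    rw [Subalgebra.mem_center_iff] at hz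
    induction hx using Submodule.span_induction with
    | mem x hx =>
      obtain ⟨a, b, rfl⟩ := hx
      rw [mul_sub, map_sub, ← mul_assoc, ← mul_assoc, h.symm (z * b) a, ← mul_assoc, hz a, sub_self]
    | zero => rw [mul_zero, map_zero]
    | add x y _ _ hx hy => rw [mul_add, map_add, hx, hy, add_zero]
    | smul c x _ hx => rw [mul_smul_comm, map_smul, hx, smul_zero]
  · intro hz
    rw [Subalgebra.mem_center_iff]
    intro a
    have : z * a - a * z = 0 := by
      apply h.nd
      intro b
      have h1 := hz _ (comm_mem a b)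
      rw [mul_sub, map_sub, ← mul_assoc, ← mul_assoc, h.symm (z * b) a, ← mul_assoc] at h1
      rw [sub_mul, map_sub]
      exact h1
    exact (sub_eq_zero.1 this).symm

/-- the bilinear form -/
noncomputable def bf (l : A →ₗ[k] k) : LinearMap.BilinForm k A :=
  (LinearMap.mul k A).compr₂ l

theorem bf_apply (a b : A) : bf l a b = l (a * b) := rfl

theorem bf_refl (h : SL l J) : (bf l).IsRefl := by
  intro a b hab
  rw [bf_apply] at *
  rw [h.symm, hab]

theorem bf_nd (h : SL l J) : (bf l).Nondegenerate := by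
  constructor
  · intro a ha
    exact h.nd a ha
  · intro a ha
    apply h.nd a
    intro b
    rw [h.symm]
    exact ha b

variable [FiniteDimensional k A]

theorem finrank_orth (h : SL l J) (W : Submodule k A) :
    Module.finrank k ((bf l).orthogonal W) + Module.finrank k W = Module.finrank k A := by
  have h1 := LinearMap.BilinForm.finrank_orthogonal h.bf_nd W
  have h2 : Module.finrank k W ≤ Module.finrank k A := Submodule.finrank_le W
  omega

theorem orth_K (h : SL l J) : (bf l).orthogonal (K k A) =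
    Subalgebra.toSubmodule (Subalgebra.center k A) := by
  ext z
  rw [LinearMap.BilinForm.mem_orthogonal_iff, Subalgebra.mem_toSubmodule, h.mem_center_iff]
  constructor
  · intro h1 x hx
    rw [h.symm]
    exact h1 x hx
  · intro h1 x hx
    show l (x * z) = 0
    rw [h.symm]
    exact h1 x hx

theorem finrank_K (h : SL l J) : Module.finrank k (Subalgebra.center k A) +
    Module.finrank k (K k A) = Module.finrank k A := by
  rw [← h.finrank_orth (K k A), h.orth_K]
  rfl

/-! ### the socle -/

theorem mem_S {s : A} : s ∈ (bf l).orthogonal J ↔ ∀ x ∈ J, l (x * s) = 0 := by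
  rw [LinearMap.BilinForm.mem_orthogonal_iff]
  exact Iff.rfl

omit [FiniteDimensional k A] in
theorem J_mul_S (h : SL l J) {s x : A} (hs : s ∈ (bf l).orthogonal J) (hx : x ∈ J) :
    x * s = 0 := by
  have hs' : ∀ x ∈ J, l (x * s) = 0 := fun x hx => hs x hx
  apply h.nd
  intro b
  rw [mul_assoc, h.symm, mul_assoc, h.symm]
  exact hs' _ (h.mulL b x hx)

omit [FiniteDimensional k A] in
theorem S_mul_J (h : SL l J) {s x : A} (hs : s ∈ (bf l).orthogonal J) (hx : x ∈ J) :
    s * x = 0 := by
  have hs' : ∀ x ∈ J, l (x * s) = 0 := fun x hx => hs x hx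
  apply h.nd
  intro b
  rw [mul_assoc, h.symm]
  exact hs' _ (h.mulR b x hx)

omit [FiniteDimensional k A] in
theorem S_zero (h : SL l J) {s : A} (hs : s ∈ (bf l).orthogonal J) (h0 : l s = 0) : s = 0 := by
  apply h.nd
  intro b
  obtain ⟨c, hc⟩ := h.top b
  have h1 : s * b = c • s + s * (b - c • (1 : A)) := by
    rw [mul_sub, mul_smul_comm, mul_one]; abel
  rw [h1, h.S_mul_J hs hc, add_zero, map_smul, h0, smul_zero]

theorem finrank_J (h : SL l J) : Module.finrank k J + 1 = Module.finrank k A := by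
  have h1 : IsCompl (Submodule.span k {(1 : A)}) J := by
    constructor
    · rw [Submodule.disjoint_def]
      intro x hx hxJ
      obtain ⟨c, rfl⟩ := Submodule.mem_span_singleton.1 hx
      by_contra hne
      have hc : c ≠ 0 := fun h0 => hne (by rw [h0, zero_smul])
      apply h.one
      have := J.smul_mem c⁻¹ hxJ
      rwa [smul_smul, inv_mul_cancel₀ hc, one_smul] at this
    · rw [codisjoint_iff, eq_top_iff]
      intro a _
      obtain ⟨c, hc⟩ := h.top a
      have h2 : a = c • (1 : A) + (a - c • (1 : A)) := by abel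
      rw [h2]
      exact Submodule.add_mem_sup (Submodule.smul_mem _ _ (Submodule.mem_span_singleton_self _)) hc
  have h2 := Submodule.finrank_add_eq_of_isCompl h1
  have h3 : (1 : A) ≠ 0 := fun h0 => h.one (by rw [h0]; exact J.zero_mem)
  rw [finrank_span_singleton h3] at h2
  omega

theorem finrank_S (h : SL l J) : Module.finrank k ((bf l).orthogonal J) = 1 := by
  have h1 := h.finrank_orth J
  have h2 := h.finrank_J
  omega

theorem S_disj (h : SL l J) : Disjoint (K k A) ((bf l).orthogonal J) := by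
  rw [Submodule.disjoint_def]
  intro x hx hs
  exact h.S_zero hs (h.lam_K hx)

omit [FiniteDimensional k A] in
theorem pow_ideal (h : SL l J) {m : ℕ} (hm : 1 ≤ m) : ∀ a, ∀ x ∈ J ^ m, a * x ∈ J ^ m := by
  obtain ⟨m, rfl⟩ := Nat.exists_eq_add_of_le' hm
  intro a x hx
  rw [pow_succ'] at hx ⊢
  refine Submodule.mul_induction_on hx (fun u hu v hv => ?_) (fun u v hu hv => ?_)
  · rw [← mul_assoc]
    exact Submodule.mul_mem_mul (h.mulL a u hu) hv
  · rw [mul_add]; exact Submodule.add_mem _ hu hv

omit [FiniteDimensional k A] in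
theorem pow_anti (h : SL l J) {m n : ℕ} (hm : 1 ≤ m) (hn : m ≤ n) : J ^ n ≤ J ^ m := by
  induction n, hn using Nat.le_induction with
  | base => exact le_rfl
  | succ n hn ih =>
    refine le_trans ?_ ih
    rw [pow_succ', Submodule.mul_le]
    intro u hu v hv
    exact h.pow_ideal (hm.trans hn) u v hv

omit [FiniteDimensional k A] in
theorem pow_eq_bot_of_le (h : SL l J) {m : ℕ} (h1 : J ^ m ≤ J ^ (m + 1)) : J ^ m = ⊥ := by
  obtain ⟨N, hN⟩ := h.nil
  have h2 : ∀ n : ℕ, J ^ m ≤ J ^ (m + n) := by
    intro n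
    induction n with
    | zero => exact le_rfl
    | succ n ih =>
      calc J ^ m ≤ J ^ (m + 1) := h1
        _ = J ^ m * J := pow_succ _ _
        _ ≤ J ^ (m + n) * J := mul_le_mul' ih le_rfl
        _ = J ^ (m + (n + 1)) := by rw [← pow_succ]; rfl
  rw [eq_bot_iff]
  refine (h2 N).trans ?_
  rw [pow_add, hN, Submodule.mul_bot]

theorem S_le_pow (h : SL l J) {m : ℕ} (hm : 1 ≤ m) (h0 : J ^ m ≠ ⊥) :
    (bf l).orthogonal J ≤ J ^ m := by
  classical
  have hex := h.nil
  set N := Nat.find hex with hN
  have hN1 : J ^ N = ⊥ := Nat.find_spec hex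
  have hmN : m < N := by
    by_contra hle
    push Not at hle
    apply h0
    rw [eq_bot_iff]
    rcases Nat.eq_zero_or_pos N with h1 | h1
    · have : J ^ 0 = ⊥ := by rw [← h1]; exact hN1
      rw [pow_zero] at this
      have h2 : J ^ m = J ^ m * 1 := (mul_one _).symm
      rw [h2, this, Submodule.mul_bot]
    · rw [← hN1]
      exact h.pow_anti h1 hle
  obtain ⟨n, hn⟩ : ∃ n, N = n + 1 := ⟨N - 1, by omega⟩
  have h2 : J ^ n ≠ ⊥ := Nat.find_min hex (by omega)
  have h3 : J ^ n ≤ (bf l).orthogonal J := by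
    intro y hy
    rw [mem_S]
    intro x hx
    have h4 : x * y ∈ J ^ N := by
      rw [hn, pow_succ']
      exact Submodule.mul_mem_mul hx hy
    rw [hN1, Submodule.mem_bot] at h4
    rw [h4, map_zero]
  have h4 : J ^ n = (bf l).orthogonal J := by
    apply Submodule.eq_of_le_of_finrank_le h3
    rw [h.finrank_S]
    rw [Nat.one_le_iff_ne_zero]
    intro h5
    exact h2 (Submodule.finrank_eq_zero.1 h5)
  rw [← h4]
  exact h.pow_anti hm (by omega)

/-! ### generation -/

omit [FiniteDimensional k A] in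
theorem le_adjoin (h : SL l J) {s : Set A} (hs : s ⊆ J)
    (hg : J ≤ Submodule.span k s ⊔ J ^ 2) :
    J ≤ Subalgebra.toSubmodule (Algebra.adjoin k s) := by
  set T : Submodule k A := Subalgebra.toSubmodule (Algebra.adjoin k s) ⊓ J with hT
  have hTJ : T ≤ J := inf_le_right
  have hspan : Submodule.span k s ≤ T := by
    rw [Submodule.span_le]
    intro x hx
    exact ⟨Algebra.subset_adjoin hx, hs hx⟩
  have hTT : T * T ≤ T := by
    rw [Submodule.mul_le]
    intro u hu v hv
    exact ⟨(Algebra.adjoin k s).mul_mem hu.1 hv.1, h.mulL u v hv.2⟩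
  have key : ∀ m : ℕ, J ≤ T ⊔ J ^ (m + 2) := by
    intro m
    induction m with
    | zero => exact hg.trans (sup_le_sup_right hspan _)
    | succ m ih =>
      have h1 : J ^ 2 ≤ T ⊔ J ^ (m + 3) := by
        rw [pow_two]
        calc J * J ≤ (T ⊔ J ^ (m + 2)) * (T ⊔ J ^ (m + 2)) := mul_le_mul' ih ih
          _ = T * T ⊔ T * J ^ (m + 2) ⊔ (J ^ (m + 2) * T ⊔ J ^ (m + 2) * J ^ (m + 2)) := by
            rw [Submodule.sup_mul, Submodule.mul_sup, Submodule.mul_sup]
          _ ≤ T ⊔ J ^ (m + 3) := by
            refine sup_le (sup_le (hTT.trans le_sup_left) ?_) (sup_le ?_ ?_)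
            · refine le_sup_of_le_right ?_
              rw [show m + 3 = (m + 2) + 1 from rfl, pow_succ' J (m + 2)]
              exact mul_le_mul' hTJ le_rfl
            · refine le_sup_of_le_right ?_
              rw [show m + 3 = (m + 2) + 1 from rfl, pow_succ J (m + 2)]
              exact mul_le_mul' le_rfl hTJ
            · refine le_sup_of_le_right ?_
              rw [← pow_add]
              exact h.pow_anti (by omega) (by omega)
      calc J ≤ Submodule.span k s ⊔ J ^ 2 := hg
        _ ≤ T ⊔ (T ⊔ J ^ (m + 3)) := sup_le_sup hspan h1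
        _ = T ⊔ J ^ (m + 1 + 2) := by rw [← sup_assoc, sup_idem]
  obtain ⟨N, hN⟩ := h.nil
  have h1 := key N
  rw [pow_add, hN, Submodule.bot_mul, sup_bot_eq] at h1
  exact h1.trans inf_le_left

omit [FiniteDimensional k A] in
theorem comm_of_gen (h : SL l J) {s : Set A} (hs : s ⊆ J)
    (hg : J ≤ Submodule.span k s ⊔ J ^ 2) (hc : ∀ x ∈ s, ∀ y ∈ s, x * y = y * x) (a b : A) :
    a * b = b * a := by
  have h1 := h.le_adjoin hs hg
  have h2 : ∀ a : A, a ∈ Algebra.adjoin k s := by
    intro a
    obtain ⟨c, hc⟩ := h.top a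
    have h3 : a = c • (1 : A) + (a - c • (1 : A)) := by abel
    rw [h3]
    exact (Algebra.adjoin k s).add_mem ((Algebra.adjoin k s).smul_mem (one_mem _) c) (h1 hc)
  have h4 : ∀ x ∈ s, ∀ b : A, b * x = x * b := by
    intro x hx b
    have : Algebra.adjoin k s ≤ Subalgebra.centralizer k {x} := by
      rw [Algebra.adjoin_le_iff]
      intro y hy
      rw [SetLike.mem_coe, Subalgebra.mem_centralizer_iff]
      intro z hz
      rw [Set.mem_singleton_iff.1 hz]
      exact hc x hx y hy
    have h5 := this (h2 b)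
    rw [Subalgebra.mem_centralizer_iff] at h5
    exact (h5 x rfl).symm
  have h5 : Algebra.adjoin k s ≤ Subalgebra.centralizer k {b} := by
    rw [Algebra.adjoin_le_iff]
    intro y hy
    rw [SetLike.mem_coe, Subalgebra.mem_centralizer_iff]
    intro z hz
    rw [Set.mem_singleton_iff.1 hz]
    exact h4 y hy b
  have h6 := h5 (h2 a)
  rw [Subalgebra.mem_centralizer_iff] at h6
  exact (h6 b rfl).symm

/-! ### the main theorem -/

omit [FiniteDimensional k A] in
/-- if `J = kx + ky + J²` then commutators lie in `k[x,y] + J³` -/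
theorem K_le (h : SL l J) {x y : A} (hx : x ∈ J) (hy : y ∈ J)
    (hg : J ≤ Submodule.span k {x, y} ⊔ J ^ 2) :
    K k A ≤ Submodule.span k {x * y - y * x} ⊔ J ^ 3 := by
  have hJ3 : ∀ u ∈ J, ∀ v ∈ J ^ 2, u * v - v * u ∈ J ^ 3 := by
    intro u hu v hv
    apply Submodule.sub_mem
    · rw [pow_succ' J 2]; exact Submodule.mul_mem_mul hu hv
    · rw [pow_succ J 2]; exact Submodule.mul_mem_mul hv hu
  unfold K
  rw [Submodule.span_le]
  rintro _ ⟨a, b, rfl⟩
  obtain ⟨c, hc⟩ := h.top a
  obtain ⟨d, hd⟩ := h.top b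
  have e0 : a * b - b * a = (a - c • (1 : A)) * (b - d • (1 : A)) -
      (b - d • (1 : A)) * (a - c • (1 : A)) := by
    simp only [mul_sub, sub_mul, mul_smul_comm, smul_mul_assoc, mul_one, one_mul, smul_sub]
    rw [smul_comm c d (1 : A)]
    abel
  rw [e0]
  generalize a - c • (1 : A) = a' at hc
  generalize b - d • (1 : A) = b' at hd
  obtain ⟨u, hu, v, hv, rfl⟩ := Submodule.mem_sup.1 (hg hc)
  obtain ⟨u', hu', v', hv', rfl⟩ := Submodule.mem_sup.1 (hg hd)
  obtain ⟨α, β, rfl⟩ := Submodule.mem_span_pair.1 hu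
  obtain ⟨γ, δ, rfl⟩ := Submodule.mem_span_pair.1 hu'
  have hxy : ∀ α β : k, α • x + β • y ∈ J := fun α β =>
    J.add_mem (J.smul_mem _ hx) (J.smul_mem _ hy)
  have hv2 : v ∈ J := by have := h.pow_anti (le_refl 1) (show 1 ≤ 2 by omega) hv; rwa [pow_one] at this
  have e1 : (α • x + β • y + v) * (γ • x + δ • y + v') - (γ • x + δ • y + v') * (α • x + β • y + v) =
      (α * δ - β * γ) • (x * y - y * x) + (((α • x + β • y) * v' - v' * (α • x + β • y)) -
        ((γ • x + δ • y) * v - v * (γ • x + δ • y)) + (v * v' - v' * v)) := by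
    simp only [mul_add, add_mul, mul_smul_comm, smul_mul_assoc, smul_add, smul_sub, sub_smul,
      smul_smul, mul_comm γ α, mul_comm δ β, mul_comm γ β, mul_comm δ α]
    abel
  rw [e1]
  apply Submodule.add_mem_sup
  · exact Submodule.smul_mem _ _ (Submodule.mem_span_singleton_self _)
  · exact Submodule.add_mem _ (Submodule.sub_mem _ (hJ3 _ (hxy _ _) _ hv') (hJ3 _ (hxy _ _) _ hv))
      (hJ3 _ hv2 _ hv')

/-- the case of two generators with `J² = k[x,y] + J³` -/
theorem comm_of_two (h : SL l J) {x y : A} (hx : x ∈ J) (hy : y ∈ J)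
    (hg : J ≤ Submodule.span k {x, y} ⊔ J ^ 2) (h3 : J ^ 3 ≠ ⊥)
    (h2 : J ^ 2 ≤ Submodule.span k {x * y - y * x} ⊔ J ^ 3) (a b : A) : a * b = b * a := by
  have mem2 : ∀ {u v : A}, u ∈ J → v ∈ J → u * v ∈ J ^ 2 := fun hu hv => by
    rw [pow_two]; exact Submodule.mul_mem_mul hu hv
  have mem12 : ∀ {u v : A}, u ∈ J → v ∈ J ^ 2 → u * v ∈ J ^ 3 := fun hu hv => by
    rw [pow_succ' J 2]; exact Submodule.mul_mem_mul hu hv
  have mem21 : ∀ {u v : A}, u ∈ J ^ 2 → v ∈ J → u * v ∈ J ^ 3 := fun hu hv => by
    rw [pow_succ J 2]; exact Submodule.mul_mem_mul hu hv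
  have mem13 : ∀ {u v : A}, u ∈ J → v ∈ J ^ 3 → u * v ∈ J ^ 4 := fun hu hv => by
    rw [pow_succ' J 3]; exact Submodule.mul_mem_mul hu hv
  have mem31 : ∀ {u v : A}, u ∈ J ^ 3 → v ∈ J → u * v ∈ J ^ 4 := fun hu hv => by
    rw [pow_succ J 3]; exact Submodule.mul_mem_mul hu hv
  have mem22 : ∀ {u v : A}, u ∈ J ^ 2 → v ∈ J ^ 2 → u * v ∈ J ^ 4 := fun hu hv => by
    rw [show 4 = 2 + 2 from rfl, pow_add]; exact Submodule.mul_mem_mul hu hv
  have J21 : ∀ {u : A}, u ∈ J ^ 2 → u ∈ J := fun hu => by
    have := h.pow_anti (le_refl 1) (show 1 ≤ 2 by omega) hu; rwa [pow_one] at this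
  by_cases hz : ∃ z ∈ J, z * z ∉ J ^ 3
  · obtain ⟨z, hzJ, hz3⟩ := hz
    -- J² ≤ k z² + J³
    have h2z : J ^ 2 ≤ Submodule.span k {z * z} ⊔ J ^ 3 := by
      obtain ⟨u, hu, t, ht, hut⟩ := Submodule.mem_sup.1 (h2 (mem2 hzJ hzJ))
      obtain ⟨α, rfl⟩ := Submodule.mem_span_singleton.1 hu
      have hα : α ≠ 0 := by
        rintro rfl
        rw [zero_smul, zero_add] at hut
        exact hz3 (hut ▸ ht)
      have h4 : Submodule.span k {x * y - y * x} ≤ Submodule.span k {z * z} ⊔ J ^ 3 := by
        rw [Submodule.span_singleton_le_iff_mem]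
        have h5 : x * y - y * x = α⁻¹ • (z * z) + (-(α⁻¹ • t)) := by
          rw [← hut, smul_add, smul_smul, inv_mul_cancel₀ hα, one_smul]; abel
        rw [h5]
        exact Submodule.add_mem_sup
          (Submodule.smul_mem _ _ (Submodule.mem_span_singleton_self _))
          (Submodule.neg_mem _ (Submodule.smul_mem _ _ ht))
      exact h2.trans (sup_le h4 le_sup_right)
    -- J^m ≤ k z^m + J^(m+1) for m ≥ 2
    have hm : ∀ m : ℕ, J ^ (m + 2) ≤ Submodule.span k {z ^ (m + 2)} ⊔ J ^ (m + 3) := by
      intro m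
      induction m with
      | zero => rw [zero_add, pow_two]; rw [← pow_two]; rw [pow_two z]; exact h2z
      | succ m ih =>
        rw [show m + 1 + 2 = (m + 2) + 1 from rfl, pow_succ' J (m + 2), Submodule.mul_le]
        intro w hw v hv
        obtain ⟨v1, hv1, v2, hv2, rfl⟩ := Submodule.mem_sup.1 (ih hv)
        obtain ⟨α, rfl⟩ := Submodule.mem_span_singleton.1 hv1
        obtain ⟨s1, hs1, s2, hs2, hs⟩ := Submodule.mem_sup.1 (h2z (mem2 hw hzJ))
        obtain ⟨β, rfl⟩ := Submodule.mem_span_singleton.1 hs1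
        have e1 : w * (α • z ^ (m + 2) + v2) = (α * β) • z ^ (m + 2 + 1) +
            (α • (s2 * z ^ (m + 1)) + w * v2) := by
          have e2 : w * z ^ (m + 2) = β • z ^ (m + 2 + 1) + s2 * z ^ (m + 1) := by
            rw [pow_succ' z (m + 1), ← mul_assoc, ← hs, add_mul, smul_mul_assoc]
            congr 2
            rw [← pow_two, ← pow_add, show m + 2 + 1 = 2 + (m + 1) by omega]
          rw [mul_add, mul_smul_comm, e2, smul_add, smul_smul, add_assoc]
        rw [e1]
        apply Submodule.add_mem_sup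
        · exact Submodule.smul_mem _ _ (Submodule.mem_span_singleton_self _)
        · apply Submodule.add_mem
          · apply Submodule.smul_mem
            rw [show m + 1 + 3 = 3 + (m + 1) by omega, pow_add]
            exact Submodule.mul_mem_mul hs2 (Submodule.pow_mem_pow _ hzJ _)
          · rw [show m + 1 + 3 = (m + 3) + 1 from rfl, pow_succ' J (m + 3)]
            exact Submodule.mul_mem_mul hw hv2
    -- J² ≤ k[z] z²
    set T : Submodule k A := Submodule.span k (Set.range fun i : ℕ => z ^ (i + 2)) with hT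
    have hJT : ∀ m : ℕ, J ^ 2 ≤ T ⊔ J ^ (m + 2) := by
      intro m
      induction m with
      | zero => exact le_sup_right
      | succ m ih =>
        refine ih.trans (sup_le le_sup_left ((hm m).trans (sup_le_sup ?_ le_rfl)))
        rw [Submodule.span_singleton_le_iff_mem]
        exact Submodule.subset_span ⟨m, rfl⟩
    have hJ2 : J ^ 2 ≤ T := by
      obtain ⟨N, hN⟩ := h.nil
      have := hJT N
      rwa [pow_add, hN, Submodule.bot_mul, sup_bot_eq] at this
    have hTz : ∀ t ∈ T, z * t = t * z := by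
      intro t ht
      induction ht using Submodule.span_induction with
      | mem x hx => obtain ⟨i, rfl⟩ := hx; exact (Commute.refl z).pow_right _
      | zero => rw [mul_zero, zero_mul]
      | add x y _ _ hx hy => rw [mul_add, add_mul, hx, hy]
      | smul c x _ hx => rw [mul_smul_comm, smul_mul_assoc, hx]
    -- a complement
    obtain ⟨w, hw, hzw⟩ : ∃ w ∈ J, J ≤ Submodule.span k {z, w} ⊔ J ^ 2 := by
      obtain ⟨u, hu, t, ht, hut⟩ := Submodule.mem_sup.1 (hg hzJ)
      obtain ⟨α, β, rfl⟩ := Submodule.mem_span_pair.1 hu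
      by_cases hα : α = 0
      · have hβ : β ≠ 0 := by
          rintro rfl
          rw [hα, zero_smul, zero_smul, zero_add, zero_add] at hut
          apply hz3
          rw [← hut]
          exact mem12 (J21 ht) ht
        refine ⟨x, hx, hg.trans (sup_le ?_ le_sup_right)⟩
        rw [Submodule.span_le]
        intro v hv
        rcases hv with rfl | rfl
        · exact Submodule.mem_sup_left (Submodule.subset_span (by simp))
        · have e1 : v = β⁻¹ • z + (-(β⁻¹ • t)) := by
            rw [← hut, hα, zero_smul, zero_add, smul_add, smul_smul, inv_mul_cancel₀ hβ, one_smul]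
            abel
          rw [e1]
          exact Submodule.add_mem_sup (Submodule.smul_mem _ _ (Submodule.subset_span (by simp)))
            (Submodule.neg_mem _ (Submodule.smul_mem _ _ ht))
      · refine ⟨y, hy, hg.trans (sup_le ?_ le_sup_right)⟩
        rw [Submodule.span_le]
        intro v hv
        rcases hv with rfl | rfl
        · have e1 : v = (α⁻¹ • z + (-(α⁻¹ * β)) • y) + (-(α⁻¹ • t)) := by
            rw [← hut, smul_add, smul_add, smul_smul, smul_smul, inv_mul_cancel₀ hα, one_smul,
              neg_smul]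
            abel
          rw [e1]
          exact Submodule.add_mem_sup (Submodule.add_mem _
            (Submodule.smul_mem _ _ (Submodule.subset_span (by simp)))
            (Submodule.smul_mem _ _ (Submodule.subset_span (by simp))))
            (Submodule.neg_mem _ (Submodule.smul_mem _ _ ht))
        · exact Submodule.mem_sup_left (Submodule.subset_span (by simp))
    -- c = [z, w]
    have hcT : z * w - w * z ∈ T := hJ2 (Submodule.sub_mem _ (mem2 hzJ hw) (mem2 hw hzJ))
    have hzc : z * (z * w - w * z) = 0 := by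
      rw [mul_sub, hTz _ (hJ2 (mem2 hzJ hw)), mul_assoc, sub_self]
    have hcz : (z * w - w * z) * z = 0 := by rw [← hTz _ hcT, hzc]
    have hcS : z * w - w * z ∈ (bf l).orthogonal J := by
      rw [mem_S]
      intro v hv
      obtain ⟨u, hu, t, ht, rfl⟩ := Submodule.mem_sup.1 (hzw hv)
      obtain ⟨α, β, rfl⟩ := Submodule.mem_span_pair.1 hu
      have ht' : t * (z * w - w * z) = 0 := by
        have := hJ2 ht
        clear hu hv
        clear ht
        induction this using Submodule.span_induction with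
        | mem x hx =>
          obtain ⟨i, rfl⟩ := hx
          show z ^ (i + 2) * _ = 0
          rw [pow_succ, mul_assoc, hzc, mul_zero]
        | zero => rw [zero_mul]
        | add x y _ _ hx hy => rw [add_mul, hx, hy, add_zero]
        | smul c x _ hx => rw [smul_mul_assoc, hx, smul_zero]
      have hw' : l (w * (z * w - w * z)) = 0 := by
        rw [mul_sub, map_sub, ← mul_assoc, h.symm (w * z) w, sub_self]
      rw [add_mul, add_mul, smul_mul_assoc, smul_mul_assoc, hzc, ht', smul_zero, zero_add, add_zero,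
        map_smul, hw', smul_zero]
    have hc0 : z * w - w * z = 0 := h.S_zero hcS (h.lam_K (comm_mem z w))
    rw [sub_eq_zero] at hc0
    refine h.comm_of_gen (s := {z, w}) ?_ hzw ?_ a b
    · intro v hv
      rcases hv with rfl | rfl
      · exact hzJ
      · exact hw
    · rintro u (rfl | rfl) v (rfl | rfl)
      · rfl
      · exact hc0
      · exact hc0.symm
      · rfl
  · exfalso
    push Not at hz
    apply h3
    apply h.pow_eq_bot_of_le
    have hxx := hz x hx
    have hyy := hz y hy
    have hxy := hz (x + y) (J.add_mem hx hy)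
    have hxy' : x * y + y * x ∈ J ^ 3 := by
      have e1 : x * y + y * x = (x + y) * (x + y) - x * x - y * y := by noncomm_ring
      rw [e1]
      exact Submodule.sub_mem _ (Submodule.sub_mem _ hxy hxx) hyy
    have h2' : J ^ 2 ≤ Submodule.span k {x * y} ⊔ J ^ 3 := by
      refine h2.trans (sup_le ?_ le_sup_right)
      rw [Submodule.span_singleton_le_iff_mem]
      have e1 : x * y - y * x = (2 : k) • (x * y) + (-(x * y + y * x)) := by
        rw [two_smul]; abel
      rw [e1]
      exact Submodule.add_mem_sup (Submodule.smul_mem _ _ (Submodule.mem_span_singleton_self _))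
        (Submodule.neg_mem _ hxy')
    show J ^ 3 ≤ J ^ 4
    rw [pow_succ' J 2, Submodule.mul_le]
    intro u hu v hv
    obtain ⟨v1, hv1, v2, hv2, rfl⟩ := Submodule.mem_sup.1 (h2' hv)
    obtain ⟨γ, rfl⟩ := Submodule.mem_span_singleton.1 hv1
    obtain ⟨u1, hu1, t, ht, rfl⟩ := Submodule.mem_sup.1 (hg hu)
    obtain ⟨α, β, rfl⟩ := Submodule.mem_span_pair.1 hu1
    have e1 : (α • x + β • y + t) * (γ • (x * y) + v2) = γ • (α • ((x * x) * y) +
        β • ((x * y + y * x) * y - x * (y * y)) + t * (x * y)) + (α • x + β • y + t) * v2 := by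
      simp only [mul_add, add_mul, smul_mul_assoc, mul_smul_comm, smul_add, smul_sub, mul_assoc,
        smul_smul, mul_comm α γ, mul_comm β γ]
      abel
    rw [e1]
    refine Submodule.add_mem _ (Submodule.smul_mem _ _ (Submodule.add_mem _ (Submodule.add_mem _
      (Submodule.smul_mem _ _ (mem31 hxx hy)) (Submodule.smul_mem _ _ (Submodule.sub_mem _
      (mem31 hxy' hy) (mem13 hx hyy)))) (mem22 ht (mem2 hx hy)))) (mem13 hu hv2)

/-- **a local symmetric algebra whose centre has dimension at most four is commutative** -/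
theorem comm_of_center (h : SL l J) (hz : Module.finrank k (Subalgebra.center k A) ≤ 4) (a b : A) :
    a * b = b * a := by
  by_contra hne
  have hK0 : K k A ≠ ⊥ := by
    intro h0
    apply hne
    have := comm_mem (k := k) a b
    rw [h0, Submodule.mem_bot, sub_eq_zero] at this
    exact this
  have hKJ2 : K k A ≤ J ^ 2 := by
    unfold K
    rw [Submodule.span_le]
    rintro _ ⟨a, b, rfl⟩
    obtain ⟨c, hc⟩ := h.top a
    obtain ⟨d, hd⟩ := h.top b
    have e0 : a * b - b * a = (a - c • (1 : A)) * (b - d • (1 : A)) -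
        (b - d • (1 : A)) * (a - c • (1 : A)) := by
      simp only [mul_sub, sub_mul, mul_smul_comm, smul_mul_assoc, mul_one, one_mul, smul_sub]
      rw [smul_comm c d (1 : A)]
      abel
    rw [e0, pow_two]
    exact Submodule.sub_mem _ (Submodule.mul_mem_mul hc hd) (Submodule.mul_mem_mul hd hc)
  have hJ2 : J ^ 2 ≠ ⊥ := fun h0 => hK0 (by rw [eq_bot_iff, ← h0]; exact hKJ2)
  have hJ3 : J ^ 3 ≠ ⊥ := by
    intro h0
    apply hK0
    rw [eq_bot_iff]
    intro x hx
    apply h.S_zero _ (h.lam_K hx)
    rw [mem_S]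
    intro y hy
    have : y * x ∈ J ^ 3 := by rw [pow_succ' J 2]; exact Submodule.mul_mem_mul hy (hKJ2 hx)
    rw [h0, Submodule.mem_bot] at this
    rw [this, map_zero]
  have hS2 := h.S_le_pow (show 1 ≤ 2 by omega) hJ2
  have hS3 := h.S_le_pow (show 1 ≤ 3 by omega) hJ3
  have hWle : K k A ⊔ (bf l).orthogonal J ≤ J ^ 2 := sup_le hKJ2 hS2
  have hWf : Module.finrank k (K k A ⊔ (bf l).orthogonal J : Submodule k A) =
      Module.finrank k (K k A) + 1 := by
    have h1 := Submodule.finrank_sup_add_finrank_inf_eq (K k A) ((bf l).orthogonal J)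
    rw [h.S_disj.eq_bot, finrank_bot, add_zero, h.finrank_S] at h1
    exact h1
  have hKf := h.finrank_K
  have hJf := h.finrank_J
  have hJ2J : J ^ 2 ≤ J := by
    have := h.pow_anti (le_refl 1) (show 1 ≤ 2 by omega); rwa [pow_one] at this
  have hle := Submodule.finrank_mono hWle
  have hle2 := Submodule.finrank_mono hJ2J
  -- one generator
  have gen1 : ∀ x ∈ J, ¬ J ≤ Submodule.span k {x} ⊔ J ^ 2 := by
    intro x hx hg
    exact hne (h.comm_of_gen (s := {x}) (by simpa using hx) hg (by
      rintro u rfl v hv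
      rw [Set.mem_singleton_iff.1 hv]) a b)
  have step : ∀ (W : Submodule k A), W ≤ J → ∀ x ∈ J, x ∉ W →
      Module.finrank k W + 1 ≤ Module.finrank k (Submodule.span k {x} ⊔ W : Submodule k A) := by
    intro W hW x hx hxW
    have : W < Submodule.span k {x} ⊔ W := by
      refine lt_of_le_of_ne le_sup_right fun he => hxW ?_
      rw [he]
      exact Submodule.mem_sup_left (Submodule.mem_span_singleton_self _)
    exact Submodule.finrank_lt_finrank_of_lt this
  have hlt : ¬ J ≤ J ^ 2 := fun h0 => gen1 0 J.zero_mem (h0.trans le_sup_right)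
  obtain ⟨x, hx, hx2⟩ := Set.not_subset.1 hlt
  have h1 := step _ hJ2J x hx hx2
  have hx1 : Submodule.span k {x} ⊔ J ^ 2 ≤ J := sup_le (by
    rw [Submodule.span_singleton_le_iff_mem]; exact hx) hJ2J
  obtain ⟨y, hy, hy2⟩ := Set.not_subset.1 (gen1 x hx)
  have h2 := step _ hx1 y hy hy2
  have hy1 : Submodule.span k {y} ⊔ (Submodule.span k {x} ⊔ J ^ 2) ≤ J := sup_le (by
    rw [Submodule.span_singleton_le_iff_mem]; exact hy) hx1
  have h3 := Submodule.finrank_mono hy1
  have hg : J ≤ Submodule.span k {x, y} ⊔ J ^ 2 := by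
    have h4 : Submodule.span k {y} ⊔ (Submodule.span k {x} ⊔ J ^ 2) = J := by
      apply Submodule.eq_of_le_of_finrank_le hy1
      omega
    conv_lhs => rw [← h4]
    rw [← sup_assoc, ← Submodule.span_union]
    apply sup_le_sup_right
    apply Submodule.span_mono
    rintro v (rfl | rfl)
    · simp
    · simp
  have hW : K k A ⊔ (bf l).orthogonal J = J ^ 2 := by
    apply Submodule.eq_of_le_of_finrank_le hWle
    omega
  apply hne
  refine h.comm_of_two hx hy hg hJ3 ?_ a b
  rw [← hW]
  exact sup_le (h.K_le hx hy hg) (hS3.trans le_sup_right)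

end SL

end CfsgLib.SymLoc
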