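import Mathlib
import Cfsg.Agent.EqBase
import Cfsg.Agent.LibStar8
import Cfsg.Agent.LibSymLoc

/-!
# Star construction, XXXI: ranks of idempotents over local rings; the corner algebra (helper18)
-/

set_option autoImplicit false
set_option linter.unusedSectionVars false
set_option linter.style.haveILetI false
set_option linter.unusedSimpArgs false
set_option linter.unusedVariables false

namespace CfsgLib.Star

open Cfsg CfsgLib.LocR CfsgLib.BlockCore CfsgLib.BlockIdem CfsgLib.BlockR CfsgLib.BrP
  CfsgLib.Points CfsgLib.SymLoc
open scoped ComplexConjugate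

universe u

section Lift

variable {R : Type*} [CommRing R] [IsLocalRing R] {S : Type*} [Field S] (φ : R →+* S)

/-- vectors which are independent modulo the maximal ideal are independent -/
theorem li_lift {X ι : Type*} [Fintype X] [Fintype ι] (v : ι → X → R)
    (h : LinearIndependent (IsLocalRing.ResidueField R)
      (fun i => fun x => IsLocalRing.residue R (v i x))) :
    LinearIndependent S (fun i => fun x => φ (v i x)) := by
  classical
  set kk := IsLocalRing.ResidueField R
  set V : (ι → kk) →ₗ[kk] (X → kk) :=
    Fintype.linearCombination kk (fun i => fun x => IsLocalRing.residue R (v i x)) with hV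
  have hinj : Function.Injective V := by
    exact linearIndependent_iff_injective_fintypeLinearCombination.1 h
  obtain ⟨W, hW⟩ := LinearMap.exists_leftInverse_of_injective V (LinearMap.ker_eq_bot.2 hinj)
  choose w hw using fun (i : ι) (x : X) => IsLocalRing.residue_surjective (R := R)
    (W (Pi.single x 1) i)
  let N : Matrix ι ι R := fun i i' => ∑ x, w i x * v i' x
  have hN : N.map (IsLocalRing.residue R) = 1 := by
    ext i i'
    rw [Matrix.map_apply]
    show IsLocalRing.residue R (∑ x, w i x * v i' x) = _
    rw [map_sum]
    simp only [map_mul, hw]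
    have h1 : W (V (Pi.single i' 1)) = Pi.single i' 1 := by
      have := LinearMap.congr_fun hW (Pi.single i' 1)
      exact this
    have h2 : V (Pi.single i' 1) = ∑ x, (IsLocalRing.residue R (v i' x)) •
        (Pi.single x (1 : kk) : X → kk) := by
      rw [hV, Fintype.linearCombination_apply_single, one_smul]
      funext y
      rw [Finset.sum_apply, Finset.sum_eq_single y]
      · simp
      · intro b _ hb
        simp [Pi.single_apply, hb.symm]
      · intro hy; exact absurd (Finset.mem_univ _) hy
    rw [h2, map_sum] at h1
    have h3 := congrFun h1 i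
    rw [Finset.sum_apply] at h3
    simp only [map_smul, Pi.smul_apply, smul_eq_mul] at h3
    rw [Matrix.one_apply]
    rw [Pi.single_apply] at h3
    rw [← h3]
    exact Finset.sum_congr rfl fun x _ => mul_comm _ _
  have hdet : IsUnit N.det := by
    rw [← IsLocalRing.residue_ne_zero_iff_isUnit, RingHom.map_det]
    have : (IsLocalRing.residue R).mapMatrix N = 1 := hN
    rw [this, Matrix.det_one]
    exact one_ne_zero
  have hdet' : IsUnit (N.map φ) := by
    rw [Matrix.isUnit_iff_isUnit_det]
    have := hdet.map φ
    rwa [RingHom.map_det] at this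
  rw [Fintype.linearIndependent_iff]
  intro c hc
  have h1 : (N.map φ).mulVec c = 0 := by
    funext i
    show ∑ i', (N.map φ) i i' * c i' = 0
    have h2 : ∀ i', (N.map φ) i i' * c i' = ∑ x, φ (w i x) * (c i' * φ (v i' x)) := by
      intro i'
      rw [Matrix.map_apply]
      show φ (∑ x, w i x * v i' x) * c i' = _
      rw [map_sum, Finset.sum_mul]
      refine Finset.sum_congr rfl fun x _ => ?_
      rw [map_mul]; ring
    simp only [h2]
    rw [Finset.sum_comm]
    refine Finset.sum_eq_zero fun x _ => ?_
    rw [← Finset.mul_sum]
    have h3 := congrFun hc x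
    rw [Finset.sum_apply] at h3
    simp only [Pi.smul_apply, smul_eq_mul, Pi.zero_apply] at h3
    rw [h3, mul_zero]
  obtain ⟨u, hu⟩ := hdet'
  have h2 : c = 0 := by
    have h3 : (((u⁻¹ : (Matrix ι ι S)ˣ) : Matrix ι ι S)).mulVec ((N.map φ).mulVec c) = c := by
      rw [Matrix.mulVec_mulVec, ← hu, Units.inv_mul, Matrix.one_mulVec]
    rw [← h3, h1, Matrix.mulVec_zero]
  intro i
  rw [h2]; rfl

/-- ranks of idempotents -/
theorem rank_idem_le {X : Type*} [Fintype X] [DecidableEq X] (E : Matrix X X R) (hE : E * E = E) :
    (E.map (IsLocalRing.residue R)).rank ≤ (E.map φ).rank := by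
  classical
  set kk := IsLocalRing.ResidueField R
  set Eb : Matrix X X kk := E.map (IsLocalRing.residue R) with hEb
  have hEbE : Eb * Eb = Eb := by
    have := congrArg (fun A : Matrix X X R => A.map (IsLocalRing.residue R)) hE
    simpa [Matrix.map_mul] using this
  have hEφ : E.map φ * E.map φ = E.map φ := by
    have := congrArg (fun A : Matrix X X R => A.map φ) hE
    simpa [Matrix.map_mul] using this
  let b := Module.finBasis kk (LinearMap.range Eb.mulVecLin)
  set r := Module.finrank kk (LinearMap.range Eb.mulVecLin) with hr
  have hfix : ∀ i, Eb.mulVec ((b i : X → kk)) = b i := by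
    intro i
    obtain ⟨y, hy⟩ := (b i).2
    rw [← hy]
    show Eb.mulVec (Eb.mulVec y) = Eb.mulVec y
    rw [Matrix.mulVec_mulVec, hEbE]
  choose w hw using fun (i : Fin r) (x : X) => IsLocalRing.residue_surjective (R := R)
    ((b i : X → kk) x)
  let v : Fin r → X → R := fun i => E.mulVec (w i)
  have hv : ∀ i x, IsLocalRing.residue R (v i x) = (b i : X → kk) x := by
    intro i x
    have h1 := congrFun (hfix i) x
    rw [← h1]
    show IsLocalRing.residue R (∑ y, E x y * w i y) = ∑ y, Eb x y * (b i : X → kk) y
    rw [map_sum]
    refine Finset.sum_congr rfl fun y _ => ?_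
    rw [map_mul, hw]; rfl
  have hli : LinearIndependent kk (fun i => fun x => IsLocalRing.residue R (v i x)) := by
    have h1 : (fun i => fun x => IsLocalRing.residue R (v i x)) = fun i => ((b i : X → kk)) := by
      funext i x; exact hv i x
    rw [h1]
    exact b.linearIndependent.map' (LinearMap.range Eb.mulVecLin).subtype (Submodule.ker_subtype _)
  have hli' := li_lift φ v hli
  have hmem : ∀ i, (fun x => φ (v i x)) ∈ LinearMap.range (E.map φ).mulVecLin := by
    intro i
    refine ⟨fun x => φ (w i x), ?_⟩
    funext x
    show ∑ y, (E.map φ) x y * φ (w i y) = φ (∑ y, E x y * w i y)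
    rw [map_sum]
    exact Finset.sum_congr rfl fun y _ => by rw [Matrix.map_apply, map_mul]
  have hli'' : LinearIndependent S (fun i => (⟨_, hmem i⟩ : LinearMap.range (E.map φ).mulVecLin)) := by
    apply LinearIndependent.of_comp (LinearMap.range (E.map φ).mulVecLin).subtype
    exact hli'
  have := hli''.fintype_card_le_finrank
  rw [Fintype.card_fin] at this
  exact this

theorem rank_compl {F : Type*} [Field F] {X : Type*} [Fintype X] [DecidableEq X]
    (E : Matrix X X F) (hE : E * E = E) : E.rank + (1 - E).rank = Fintype.card X := by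
  have h1 : LinearMap.range (1 - E).mulVecLin = LinearMap.ker E.mulVecLin := by
    ext y
    constructor
    · rintro ⟨z, rfl⟩
      show E.mulVec ((1 - E).mulVec z) = 0
      rw [Matrix.mulVec_mulVec, mul_sub, mul_one, hE, sub_self, Matrix.zero_mulVec]
    · intro hy
      refine ⟨y, ?_⟩
      show (1 - E).mulVec y = y
      have hy' : E.mulVec y = 0 := hy
      rw [Matrix.sub_mulVec, Matrix.one_mulVec, hy', sub_zero]
  have h2 := LinearMap.finrank_range_add_finrank_ker E.mulVecLin
  rw [Module.finrank_fintype_fun_eq_card] at h2
  unfold Matrix.rank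
  rw [h1, h2]

theorem rank_idem {X : Type*} [Fintype X] [DecidableEq X] (E : Matrix X X R) (hE : E * E = E) :
    (E.map (IsLocalRing.residue R)).rank = (E.map φ).rank := by
  have h1 := rank_idem_le φ E hE
  have h2 := rank_idem_le φ (1 - E) (by rw [mul_sub, mul_one, sub_mul, one_mul, hE, sub_self,
    sub_zero])
  have hEb : E.map (IsLocalRing.residue R) * E.map (IsLocalRing.residue R) =
      E.map (IsLocalRing.residue R) := by
    have := congrArg (fun A : Matrix X X R => A.map (IsLocalRing.residue R)) hE
    simpa [Matrix.map_mul] using this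
  have hEφ : E.map φ * E.map φ = E.map φ := by
    have := congrArg (fun A : Matrix X X R => A.map φ) hE
    simpa [Matrix.map_mul] using this
  have h3 := rank_compl _ hEb
  have h4 := rank_compl _ hEφ
  have e1 : (1 - E).map (IsLocalRing.residue R) = 1 - E.map (IsLocalRing.residue R) := by
    rw [Matrix.map_sub _ (fun a b => map_sub _ a b), Matrix.map_one _ (map_zero _) (map_one _)]
  have e2 : (1 - E).map φ = 1 - E.map φ := by
    rw [Matrix.map_sub _ (fun a b => map_sub _ a b), Matrix.map_one _ (map_zero _) (map_one _)]
  rw [e1, e2] at h2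
  omega

/-- the trace of an idempotent is its rank -/
theorem rank_eq_trace {F : Type*} [Field F] {X : Type*} [Fintype X] [DecidableEq X]
    (E : Matrix X X F) (hE : E * E = E) : E.trace = (E.rank : F) := by
  have h1 : IsIdempotentElem E.mulVecLin := by
    show E.mulVecLin * E.mulVecLin = E.mulVecLin
    rw [Module.End.mul_eq_comp, ← Matrix.mulVecLin_mul, hE]
  have h2 := LinearMap.IsProj.trace (LinearMap.IsIdempotentElem.isProj_range _ h1)
  rw [← Matrix.toLin'_apply', Matrix.trace_toLin'_eq] at h2
  exact h2

end Lift

end CfsgLib.Star
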