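import Mathlib
import Cfsg.Agent.EqBase
import Cfsg.Agent.LibStar30
import Cfsg.Agent.LibStar31

/-!
# Star construction, XXXII: dimension of the centre of a block algebra (helper18)
-/

set_option autoImplicit false
set_option linter.unusedSectionVars false
set_option linter.style.haveILetI false
set_option linter.unusedSimpArgs false
set_option linter.unusedVariables false

namespace CfsgLib.Star

open Cfsg CfsgLib.GalChar CfsgLib.GalField CfsgLib.BlockReg CfsgLib.BlockReg2 CfsgLib.LocR
  CfsgLib.BrP CfsgLib.Car CfsgLib.BlockQP CfsgLib.BlockDefect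
  CfsgLib.Points CfsgLib.PLocalInd CfsgLib.CharBasic CfsgLib.BlockCore CfsgLib.BlockSec
  CfsgLib.BlockR CfsgLib.BlockIdem CfsgLib.BlockOrth CfsgLib.CharIndA CfsgLib.CharNorm
open scoped ComplexConjugate Pointwise

universe u

section Center

variable {M : Ideal AlgInt} [hPr : M.IsPrime] {G : Type u} [Group G] [Fintype G]

/-- the coefficient map -/
noncomputable def cfL (k : Type*) [Field k] (G : Type*) [Group G] [Fintype G] :
    MonoidAlgebra k G →ₗ[k] (G → k) where
  toFun a g := a.coeff g
  map_add' a b := by funext g; rfl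
  map_smul' c a := by funext g; rfl

theorem cfL_inj (k : Type*) [Field k] : LinearMap.ker (cfL k G) = ⊥ := by
  rw [LinearMap.ker_eq_bot]
  intro a b h
  exact ext' fun g => congrFun h g

/-- the centre of a block algebra has dimension at most `k(B)` -/
theorem center_le {B : Set (IrrCharacter G)} (hB : IsPBlock M B)
    (W : Submodule (kM M) (MonoidAlgebra (kM M) G))
    (hW : ∀ z ∈ W, ZH ⊤ z ∧ z * JB M B = z) : Module.finrank (kM M) W ≤ Nat.card B := by
  classical
  let b := Module.finBasis (kM M) W
  have hv : ∀ i, ∃ v : IrrCharacter G → ℂ, AR M v ∧ (∀ χ ∉ B, v χ = 0) ∧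
      Ph M (MonoidHom.id G) v = (b i : MonoidAlgebra (kM M) G) := by
    intro i
    obtain ⟨h1, h2⟩ := hW _ (b i).2
    obtain ⟨v, hv, hvz⟩ := Ph_surj (M := M) (ι := MonoidHom.id G) id_inj
      (z := (b i : MonoidAlgebra (kM M) G)) (by rw [MonoidHom.range_eq_top.2 Function.surjective_id]
                                                exact h1)
    refine ⟨v * ind B, AR_mul hPr hv (AR_ind_block hPr hB), fun χ hχ => ?_, ?_⟩
    · rw [Pi.mul_apply, ind_not hχ, mul_zero]
    · rw [Ph_mul id_inj hv (AR_ind_block hPr hB), hvz]
      exact h2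
  choose v hv hvB hvz using hv
  let w : Fin (Module.finrank (kM M) W) → G → LocR.subring M := fun i g => ⟨fou (v i) g, hv i g⟩
  have hw : ∀ i g, IsLocalRing.residue (LocR.subring M) (w i g) =
      (b i : MonoidAlgebra (kM M) G).coeff g := by
    intro i g
    rw [← hvz i]
    have := Ph_coeff (M := M) (ι := MonoidHom.id G) id_inj (v i) g
    rw [MonoidHom.id_apply] at this
    rw [this, rd_of (hv i g)]
  have h1 : LinearIndependent (kM M) (fun i => fun g =>
      IsLocalRing.residue (LocR.subring M) (w i g)) := by
    have e1 : (fun i => fun g => IsLocalRing.residue (LocR.subring M) (w i g)) =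
        fun i => cfL (kM M) G (b i : MonoidAlgebra (kM M) G) := by
      funext i g; exact hw i g
    rw [e1]
    exact (b.linearIndependent.map' W.subtype (Submodule.ker_subtype _)).map' _ (cfL_inj _)
  have h2 := li_lift (LocR.subring M).subtype w h1
  have h3 : LinearIndependent ℂ (fun i => fun χ : B => v i χ) := by
    rw [Fintype.linearIndependent_iff] at h2 ⊢
    intro c hc
    apply h2 c
    funext g
    rw [Finset.sum_apply]
    have e1 : ∑ i, c i • v i = 0 := by
      funext χ
      by_cases hχ : χ ∈ B
      · have := congrFun hc ⟨χ, hχ⟩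
        rw [Finset.sum_apply] at this ⊢
        exact this
      · rw [Finset.sum_apply]
        refine Finset.sum_eq_zero fun i _ => ?_
        rw [Pi.smul_apply, hvB i χ hχ, smul_zero]
    have e2 : fou (∑ i, c i • v i) g = 0 := by rw [e1, fou_zero]
    rw [fou_sum] at e2
    rw [Pi.zero_apply, ← e2]
    refine Finset.sum_congr rfl fun i _ => ?_
    rw [fou_smul]
    rfl
  have h4 := h3.fintype_card_le_finrank
  rw [Fintype.card_fin, Module.finrank_fintype_fun_eq_card] at h4
  rw [Nat.card_eq_fintype_card]
  exact h4

end Center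

end CfsgLib.Star
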