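import Mathlib
import Cfsg.Agent.EqBase
import Cfsg.Agent.LibStar32

/-!
# Star construction, XXXIII: the corner algebra of a primitive idempotent (helper18)
-/

set_option autoImplicit false
set_option linter.unusedSectionVars false
set_option linter.style.haveILetI false
set_option linter.unusedSimpArgs false
set_option linter.unusedVariables false

namespace CfsgLib.Star

open CfsgLib.Points CfsgLib.SymLoc

section Corner

variable {k : Type*} [Field k] {L : Type*} [Ring L] [Algebra k L]

variable (k) in
/-- the corner as a subspace -/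
def cornerSub (e : L) : Submodule k L where
  carrier := {a | Cor e a}
  add_mem' ha hb := ha.add hb
  zero_mem' := ⟨mul_zero _, zero_mul _⟩
  smul_mem' c _ ha := ha.smul c

variable (k) in
/-- the corner algebra -/
def CA {e : L} (he : e * e = e) : Type _ := cornerSub k e

variable {e : L} {he : e * e = e}

instance : AddCommGroup (CA k he) := inferInstanceAs (AddCommGroup (cornerSub k e))

instance : Module k (CA k he) := inferInstanceAs (Module k (cornerSub k e))

instance [FiniteDimensional k L] : FiniteDimensional k (CA k he) :=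
  inferInstanceAs (FiniteDimensional k (cornerSub k e))

/-- the underlying element -/
def CA.val (a : CA k he) : L := Subtype.val (show cornerSub k e from a)

theorem CA.cor (a : CA k he) : Cor e a.val := Subtype.property (show cornerSub k e from a)

def CA.mk (a : L) (h : Cor e a) : CA k he := (⟨a, h⟩ : cornerSub k e)

theorem CA.ext {a b : CA k he} (h : a.val = b.val) : a = b := Subtype.ext h

instance : Mul (CA k he) := ⟨fun a b => CA.mk (a.val * b.val) (a.cor.mul b.cor)⟩

instance : One (CA k he) := ⟨CA.mk e ⟨he, he⟩⟩

theorem CA.val_mk (a : L) (h : Cor e a) : (CA.mk a h : CA k he).val = a := rfl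
theorem CA.val_mul (a b : CA k he) : (a * b).val = a.val * b.val := rfl
theorem CA.val_one : (1 : CA k he).val = e := rfl
theorem CA.val_add (a b : CA k he) : (a + b).val = a.val + b.val := rfl
theorem CA.val_sub (a b : CA k he) : (a - b).val = a.val - b.val := rfl
theorem CA.val_neg (a : CA k he) : (-a).val = - a.val := rfl
theorem CA.val_zero : (0 : CA k he).val = 0 := rfl
theorem CA.val_smul (c : k) (a : CA k he) : (c • a).val = c • a.val := rfl

instance : Ring (CA k he) :=
  { (inferInstance : AddCommGroup (CA k he)) with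
    mul := (· * ·)
    one := 1
    mul_assoc := fun a b c => CA.ext (mul_assoc _ _ _)
    left_distrib := fun a b c => CA.ext (mul_add _ _ _)
    right_distrib := fun a b c => CA.ext (add_mul _ _ _)
    zero_mul := fun a => CA.ext (zero_mul _)
    mul_zero := fun a => CA.ext (mul_zero _)
    one_mul := fun a => CA.ext a.cor.1
    mul_one := fun a => CA.ext a.cor.2 }

instance : Algebra k (CA k he) :=
  Algebra.ofModule (fun c a b => CA.ext (smul_mul_assoc _ _ _))
    (fun c a b => CA.ext (mul_smul_comm _ _ _))

theorem CA.val_sum {ι : Type*} (s : Finset ι) (f : ι → CA k he) :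
    (∑ i ∈ s, f i).val = ∑ i ∈ s, (f i).val := by
  classical
  induction s using Finset.induction_on with
  | empty => rfl
  | insert a s ha ih => rw [Finset.sum_insert ha, Finset.sum_insert ha, CA.val_add, ih]

theorem CA.val_pow (a : CA k he) (n : ℕ) : (a ^ (n + 1)).val = a.val ^ (n + 1) := by
  induction n with
  | zero => rw [zero_add, pow_one, pow_one]
  | succ n ih => rw [pow_succ, CA.val_mul, ih, ← pow_succ]

theorem CA.nil_iff (a : CA k he) : IsNilpotent a ↔ IsNilpotent a.val := by
  constructor
  · rintro ⟨n, hn⟩
    refine ⟨n + 1, ?_⟩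
    rw [← CA.val_pow, pow_succ, hn, zero_mul, CA.val_zero]
  · rintro ⟨n, hn⟩
    refine ⟨n + 1, CA.ext ?_⟩
    rw [CA.val_pow, pow_succ, hn, zero_mul, CA.val_zero]

/-- the inclusion as a linear map -/
def CA.inc : CA k he →ₗ[k] L where
  toFun := CA.val
  map_add' _ _ := rfl
  map_smul' _ _ := rfl

variable [IsAlgClosed k] [FiniteDimensional k L]

include k in
variable (k) in
theorem nil_mul {j : L} (hj : Prim j) {y z : L} (hy : Cor j y) (hz : Cor j z)
    (hyn : IsNilpotent y) : IsNilpotent (y * z) := by
  rcases unit_or_nil k hj (hy.mul hz) with h | ⟨w, hw, h1, h2⟩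
  · exact h
  · exfalso
    obtain ⟨n, hn⟩ := hyn
    have h3 : y * (z * w) = j := by rw [← mul_assoc, h2]
    have h4 := pow_mul_pow h3 (hz.mul hw).1 hy.2 n
    rw [pow_succ, hn, zero_mul, zero_mul] at h4
    exact hj.ne h4.symm

/-- the radical of the corner algebra -/
def CA.J (hj : Prim e) : Submodule k (CA k he) where
  carrier := {a | IsNilpotent a.val}
  add_mem' {a b} ha hb := by
    show IsNilpotent (a + b).val
    rw [CA.val_add]
    exact nil_add k hj a.cor b.cor ha hb
  zero_mem' := ⟨1, by rw [pow_one]; rfl⟩
  smul_mem' c a ha := by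
    show IsNilpotent (c • a).val
    rw [CA.val_smul]
    exact isNilpotent_smul' c ha

/-- the corner algebra of a primitive idempotent in a symmetric algebra is local symmetric -/
theorem CA.sl (hj : Prim e) (l : L →ₗ[k] k) (hs : ∀ a b, l (a * b) = l (b * a))
    (hnd : ∀ a, (∀ b, l (a * b) = 0) → a = 0) :
    SL (l.comp (CA.inc (k := k) (he := he))) (CA.J (k := k) (he := he) hj) where
  symm a b := hs a.val b.val
  nd a h := by
    apply CA.ext
    rw [CA.val_zero]
    apply hnd
    intro b
    have h1 := h (CA.mk (e * b * e) (cor_of he b))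
    have h2 : l (a.val * (e * b * e)) = 0 := h1
    have h3 : a.val * (e * b * e) = (a.val * b) * e := by
      rw [← mul_assoc, ← mul_assoc, a.cor.2]
    rw [h3, hs, ← mul_assoc, a.cor.1] at h2
    exact h2
  top a := by
    obtain ⟨c, hc⟩ := exists_lam (k := k) hj a.cor
    refine ⟨c, ?_⟩
    show IsNilpotent (a - c • (1 : CA k he)).val
    rw [CA.val_sub, CA.val_smul, CA.val_one]
    exact hc
  mulL a x hx := by
    show IsNilpotent (a * x).val
    rw [CA.val_mul]
    exact nil_swap (nil_mul k hj x.cor a.cor hx)
  mulR a x hx := by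
    show IsNilpotent (x * a).val
    rw [CA.val_mul]
    exact nil_mul k hj x.cor a.cor hx
  one h := hj.not_nilpotent h
  nil := by
    apply nil_pow
    · intro a x hx
      show IsNilpotent (a * x).val
      rw [CA.val_mul]
      exact nil_swap (nil_mul k hj x.cor a.cor hx)
    · intro x hx
      rw [CA.nil_iff]
      exact hx

omit [IsAlgClosed k] [FiniteDimensional k L] in
/-- extension of central elements of the corner algebra -/
theorem center_ext {e : L} (he : e * e = e) {b : L} (hbc : ∀ a, b * a = a * b) {D : Finset L}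
    (hD : Dec b D) (heD : e ∈ D) (hiso : ∀ l ∈ D, Iso e l) :
    ∃ F : CA k he →ₗ[k] L,
      ∀ z ∈ Subalgebra.center k (CA k he), (∀ a, a * F z = F z * a) ∧ F z * b = F z ∧
        F z * e = z.val := by
  classical
  choose! x y h1 h2 h3 h4 h5 h6 using hiso
  let F : CA k he →ₗ[k] L :=
    { toFun := fun z => ∑ l ∈ D, y l * z.val * x l
      map_add' := fun z w => by
        rw [← Finset.sum_add_distrib]
        refine Finset.sum_congr rfl fun l _ => ?_
        rw [CA.val_add, mul_add, add_mul]
      map_smul' := fun c z => by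
        rw [RingHom.id_apply, Finset.smul_sum]
        refine Finset.sum_congr rfl fun l _ => ?_
        rw [CA.val_smul, mul_smul_comm, smul_mul_assoc] }
  have hF : ∀ z, F z = ∑ l ∈ D, y l * z.val * x l := fun z => rfl
  have hxb : ∀ l ∈ D, x l * b = x l := by
    intro l hl
    calc x l * b = x l * l * b := by rw [h2 l hl]
      _ = x l * (l * b) := mul_assoc _ _ _
      _ = x l := by rw [hD.mul_right hl, h2 l hl]
  have hby : ∀ l ∈ D, b * y l = y l := by
    intro l hl
    calc b * y l = b * (l * y l) := by rw [h3 l hl]
      _ = (b * l) * y l := (mul_assoc _ _ _).symm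
      _ = y l := by rw [hD.mul_left hl, h3 l hl]
  refine ⟨F, fun z hz => ⟨fun a => ?_, ?_, ?_⟩⟩
  · rw [Subalgebra.mem_center_iff] at hz
    have hc : ∀ l ∈ D, ∀ m ∈ D, (x l * a * y m) * z.val = z.val * (x l * a * y m) := by
      intro l hl m hm
      have hcor : Cor e (x l * a * y m) := ⟨by rw [← mul_assoc, ← mul_assoc, h1 l hl],
        by rw [mul_assoc, h4 m hm]⟩
      exact congrArg CA.val (hz (CA.mk _ hcor))
    have e1 : F z * a = ∑ l ∈ D, ∑ m ∈ D, y l * (z.val * (x l * a * y m)) * x m := by
      rw [hF, Finset.sum_mul]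
      refine Finset.sum_congr rfl fun l hl => ?_
      have e2 : x l * a = ∑ m ∈ D, x l * a * y m * x m := by
        have e4 : ∀ m ∈ D, x l * a * y m * x m = x l * a * m := fun m hm => by
          rw [mul_assoc, h6 m hm]
        rw [Finset.sum_congr rfl e4, ← Finset.mul_sum, hD.sum, mul_assoc, ← hbc, ← mul_assoc,
          hxb l hl]
      have e3 : y l * z.val * x l * a = y l * z.val * (x l * a) := by rw [mul_assoc]
      conv_lhs => rw [e3, e2, Finset.mul_sum]
      refine Finset.sum_congr rfl fun m hm => ?_
      simp only [mul_assoc]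
    have e4 : a * F z = ∑ m ∈ D, ∑ l ∈ D, y l * ((x l * a * y m) * z.val) * x m := by
      rw [hF, Finset.mul_sum]
      refine Finset.sum_congr rfl fun m hm => ?_
      have e2 : a * y m = ∑ l ∈ D, y l * (x l * a * y m) := by
        have e4 : ∀ l ∈ D, y l * (x l * a * y m) = l * (a * y m) := fun l hl => by
          rw [mul_assoc (x l), ← mul_assoc, h6 l hl]
        rw [Finset.sum_congr rfl e4, ← Finset.sum_mul, hD.sum, ← mul_assoc, hbc, mul_assoc,
          hby m hm]
      have e3 : a * (y m * z.val * x m) = (a * y m) * z.val * x m := by simp only [mul_assoc]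
      rw [e3, e2, Finset.sum_mul, Finset.sum_mul]
      refine Finset.sum_congr rfl fun l hl => ?_
      simp only [mul_assoc]
    rw [e1, e4, Finset.sum_comm]
    refine Finset.sum_congr rfl fun l hl => Finset.sum_congr rfl fun m hm => ?_
    rw [hc l hl m hm]
  · rw [hF, Finset.sum_mul]
    refine Finset.sum_congr rfl fun l hl => ?_
    rw [mul_assoc, hxb l hl]
  · rw [Subalgebra.mem_center_iff] at hz
    rw [hF, Finset.sum_mul, Finset.sum_eq_single e]
    · have hcor : Cor e (y e) := ⟨h3 e heD, h4 e heD⟩
      have h7 : y e * z.val = z.val * y e := congrArg CA.val (hz (CA.mk _ hcor))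
      rw [mul_assoc, h2 e heD, h7, mul_assoc, h6 e heD]
      exact z.cor.2
    · intro l hl hle
      have h8 : l * e = 0 := hD.orth l hl e heD hle
      have h9 : x l * e = 0 := by rw [← h2 l hl, mul_assoc, h8, mul_zero]
      rw [mul_assoc, h9, mul_zero]
    · intro h; exact absurd heD h

end Corner

end CfsgLib.Star
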