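import Mathlib
import Cfsg.Agent.EqBase
import Cfsg.Agent.LibStar33

/-!
# Star construction, XXXIV: the irreducible representation attached to a primitive idempotent;
blocks of rank one have a unique simple module (helper18)
-/

set_option autoImplicit false
set_option linter.unusedSectionVars false
set_option linter.style.haveILetI false
set_option linter.unusedSimpArgs false
set_option linter.unusedVariables false

namespace CfsgLib.Star

open Cfsg CfsgLib.GalChar CfsgLib.GalField CfsgLib.BlockReg CfsgLib.BlockReg2 CfsgLib.LocR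
  CfsgLib.BrP CfsgLib.Car CfsgLib.BlockQP CfsgLib.BlockDefect
  CfsgLib.Points CfsgLib.PLocalInd CfsgLib.CharBasic CfsgLib.BlockCore CfsgLib.BlockSec
  CfsgLib.BlockR CfsgLib.BlockIdem CfsgLib.BlockOrth CfsgLib.CharIndA CfsgLib.CharNorm
open scoped ComplexConjugate Pointwise

universe u

section Rep

variable {k : Type*} [Field k] [IsAlgClosed k] {A : Type*} [Ring A] [Algebra k A]
  [FiniteDimensional k A]

theorem lam_mul {j : A} (hj : Prim j) {y z : A} (hy : Cor j y) (hz : Cor j z) :
    lam k j (y * z) = lam k j y * lam k j z := by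
  apply lam_eq hj (hy.mul hz)
  have h1 := lam_spec (k := k) hj hy
  have h2 := lam_spec (k := k) hj hz
  have e1 : y * z - (lam k j y * lam k j z) • j =
      (y - lam k j y • j) * z + lam k j y • (z - lam k j z • j) := by
    rw [sub_mul, smul_mul_assoc, hz.1, smul_sub, smul_smul]; abel
  rw [e1]
  exact nil_add k hj ((hy.sub (hj.cor.smul _)).mul hz) ((hz.sub (hj.cor.smul _)).smul _)
    (nil_mul k hj (hy.sub (hj.cor.smul _)) hz h1) (isNilpotent_smul' _ h2)

theorem lam_smul {j : A} (hj : Prim j) (c : k) {y : A} (hy : Cor j y) :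
    lam k j (c • y) = c * lam k j y := by
  have h1 : c • y = (c • j) * y := by rw [smul_mul_assoc, hy.1]
  rw [h1, lam_mul hj (hj.cor.smul c) hy, lam_smul_self hj]

variable (k) in
open Classical in
/-- the irreducible representation attached to a primitive idempotent -/
theorem exists_rep [DecidableEq A] {L : Finset A} (hL : Dec (1 : A) L) {j : A} (hj : j ∈ L) {D : Finset A}
    (hD : ∀ q, q ∈ D ↔ q ∈ L ∧ Iso j q) :
    ∃ ρ : A →ₐ[k] Matrix D D k,
      (∀ l ∈ L, Matrix.trace (ρ l) = if Iso j l then 1 else 0) ∧
      (∀ b : A, (∀ a, b * a = a * b) → b * b = b → j * b = j → ρ b = 1) := by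
  classical
  have hpj := hL.prim j hj
  choose x y h1 h2 h3 h4 h5 h6 using fun l : D => ((hD l).1 l.2).2
  have hDL : ∀ l : D, (l : A) ∈ L := fun l => ((hD l).1 l.2).1
  have hcor : ∀ (a : A) (l m), Cor j (x l * a * y m) := fun a l m =>
    ⟨by rw [← mul_assoc, ← mul_assoc, h1], by rw [mul_assoc, h4]⟩
  let R : A → Matrix D D k :=
    fun a l m => lam k j (x l * a * y m)
  have hR : ∀ a l m, R a l m = lam k j (x l * a * y m) := fun a l m => rfl
  have hone : ∀ b : A, (∀ a, b * a = a * b) → b * b = b → j * b = j → R b = 1 := by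
    intro b hbc hbb hjb
    ext l m
    rw [hR, Matrix.one_apply]
    have e1 : x l * b = x l := by
      rw [← hbc, ← h1 l, ← mul_assoc, hbc j, hjb]
    rw [e1]
    by_cases hlm : l = m
    · subst hlm
      rw [if_pos rfl, h5, lam_self hpj]
    · rw [if_neg hlm]
      have h7 : (l : A) * (m : A) = 0 := hL.orth l (hDL l) m (hDL m) (fun h => hlm (Subtype.ext h))
      have h8 : x l * y m = 0 := by
        calc x l * y m = (x l * l) * (m * y m) := by rw [h2, h3]
          _ = x l * ((l : A) * (m : A)) * y m := by simp only [mul_assoc]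
          _ = 0 := by rw [h7, mul_zero, zero_mul]
      rw [h8, lam_zero hpj]
  have hmul : ∀ a b, R (a * b) = R a * R b := by
    intro a b
    ext l m
    rw [hR, Matrix.mul_apply]
    have e1 : x l * (a * b) * y m = ∑ q ∈ L, (x l * a * q) * (q * b * y m) := by
      have e2 : ∀ q ∈ L, (x l * a * q) * (q * b * y m) = x l * a * q * (b * y m) := by
        intro q hq
        calc (x l * a * q) * (q * b * y m) = x l * a * (q * q) * (b * y m) := by
              simp only [mul_assoc]
          _ = _ := by rw [(hL.prim q hq).idem]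
      rw [Finset.sum_congr rfl e2, ← Finset.sum_mul, ← Finset.mul_sum, hL.sum, mul_one]
      simp only [mul_assoc]
    have hc : ∀ q ∈ L, Cor j ((x l * a * q) * (q * b * y m)) := by
      intro q _
      constructor
      · calc j * ((x l * a * q) * (q * b * y m)) = (j * x l) * (a * q * (q * b * y m)) := by
              simp only [mul_assoc]
          _ = _ := by rw [h1]; simp only [mul_assoc]
      · calc ((x l * a * q) * (q * b * y m)) * j = (x l * a * q) * (q * b * (y m * j)) := by
              simp only [mul_assoc]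
          _ = _ := by rw [h4]
    rw [e1, lam_sum hpj L _ hc]
    have e3 : ∀ q ∈ L, ¬ Iso j q → lam k j ((x l * a * q) * (q * b * y m)) = 0 := by
      intro q hq hn
      apply lam_nil hpj (hc q hq)
      by_contra hnn
      apply hn
      have hqq := (hL.prim q hq).idem
      refine iso_of_not_nil k hpj (hL.prim q hq) (a := x l * a * q) (b := q * b * y m) ?_ ?_ ?_ ?_ hnn
      · rw [← mul_assoc, ← mul_assoc, h1]
      · rw [mul_assoc, hqq]
      · rw [← mul_assoc, ← mul_assoc, hqq]
      · rw [mul_assoc, h4]
    have e4 : ∑ q ∈ L, lam k j ((x l * a * q) * (q * b * y m)) =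
        ∑ q ∈ D, lam k j ((x l * a * q) * (q * b * y m)) := by
      symm
      refine Finset.sum_subset (fun q hq => ((hD q).1 hq).1) fun q hq hqD => ?_
      exact e3 q hq fun h => hqD ((hD q).2 ⟨hq, h⟩)
    rw [e4, ← Finset.sum_coe_sort D (fun q => lam k j ((x l * a * q) * (q * b * y m)))]
    refine Finset.sum_congr rfl fun q _ => ?_
    rw [hR, hR, ← lam_mul hpj (hcor _ _ _) (hcor _ _ _)]
    congr 1
    have h7 : (q : A) = y q * x q := (h6 q).symm
    have hqq := (hL.prim q (hDL q)).idem
    calc (x l * a * q) * (q * b * y m) = x l * a * ((q : A) * q) * (b * y m) := by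
          simp only [mul_assoc]
      _ = x l * a * (q : A) * (b * y m) := by rw [hqq]
      _ = x l * a * (y q * x q) * (b * y m) := by rw [h6 q]
      _ = _ := by simp only [mul_assoc]
  let ρ : A →ₐ[k] Matrix D D k :=
    AlgHom.ofLinearMap
      { toFun := R
        map_add' := fun a b => by
          ext l m
          rw [Matrix.add_apply, hR, hR, hR, mul_add, add_mul, lam_add hpj (hcor _ _ _) (hcor _ _ _)]
        map_smul' := fun c a => by
          ext l m
          rw [RingHom.id_apply, Matrix.smul_apply, hR, hR, mul_smul_comm, smul_mul_assoc,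
            lam_smul hpj c (hcor _ _ _), smul_eq_mul] }
      (hone 1 (fun a => by rw [one_mul, mul_one]) (one_mul 1) (mul_one j))
      hmul
  refine ⟨ρ, fun l hl => ?_, hone⟩
  have e1 : Matrix.trace (ρ l) = ∑ m : D, lam k m.1 ((m : A) * l * m) := by
    show ∑ m, R l m m = _
    refine Finset.sum_congr rfl fun m _ => ?_
    rw [hR]
    have e2 : x m * l * y m = x m * ((m : A) * l * y m) := by
      rw [← mul_assoc, ← mul_assoc, h2]
    rw [e2, lam_comm hpj (hL.prim m (hDL m)) (h1 m) (h2 m) (by
      rw [← mul_assoc, ← mul_assoc, (hL.prim m (hDL m)).idem]) (by rw [mul_assoc, h4])]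
    congr 1
    rw [mul_assoc, h6]
  rw [e1]
  have e2 : ∀ m : D, lam k m.1 ((m : A) * l * m) =
      if (m : A) = l then 1 else 0 := by
    intro m
    split_ifs with h
    · rw [← h, (hL.prim m (hDL m)).idem, (hL.prim m (hDL m)).idem, lam_self (hL.prim m (hDL m))]
    · rw [hL.orth m (hDL m) l hl h, zero_mul, lam_zero (hL.prim m (hDL m))]
  simp only [e2]
  split_ifs with h
  · rw [Finset.sum_eq_single (⟨l, (hD l).2 ⟨hl, h⟩⟩ : D)]
    · rw [if_pos rfl]
    · intro m _ hm
      rw [if_neg (fun h' => hm (Subtype.ext h'))]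
    · intro h'; exact absurd (Finset.mem_univ _) h'
  · refine Finset.sum_eq_zero fun m _ => ?_
    rw [if_neg]
    intro h'
    exact h (h' ▸ ((hD m).1 m.2).2)

end Rep

end CfsgLib.Star
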