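import Mathlib
import Cfsg.Agent.EqBase
import Cfsg.Agent.LibStar34

/-!
# Star construction, XXXV: blocks of rank one have a unique simple module (helper18)
-/

set_option autoImplicit false
set_option linter.unusedSectionVars false
set_option linter.style.haveILetI false
set_option linter.unusedSimpArgs false
set_option linter.unusedVariables false

namespace CfsgLib.Star

open Cfsg CfsgLib.GalChar CfsgLib.GalField CfsgLib.BlockReg CfsgLib.BlockReg2 CfsgLib.LocR
  CfsgLib.BrP CfsgLib.Car CfsgLib.BlockQP CfsgLib.BlockDefect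
  CfsgLib.Points CfsgLib.PLocalInd CfsgLib.CharBasic CfsgLib.BlockCore CfsgLib.BlockSec
  CfsgLib.BlockR CfsgLib.BlockIdem CfsgLib.BlockOrth CfsgLib.CharIndA CfsgLib.CharNorm
open scoped ComplexConjugate Pointwise

universe u

variable {M : Ideal AlgInt} [hPr : M.IsPrime] {G : Type u} [Group G] [Fintype G]
variable {p : ℕ} [hp : Fact p.Prime] [hch : CharP (kM M) p]

section Sec

variable {k : Type*} [Field k] {p : ℕ} [hp : Fact p.Prime] [CharP k p]

/-- group elements in the group algebra over the field -/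
noncomputable def sg (k : Type*) [Field k] {G : Type*} [Group G] (g : G) : MonoidAlgebra k G :=
  MonoidAlgebra.single g 1

theorem sg_mul (g h : G) : sg k g * sg k h = sg k (g * h) := by
  unfold sg; rw [MonoidAlgebra.single_mul_single, one_mul]

theorem sg_one : sg k (1 : G) = 1 := rfl

theorem sg_pow (g : G) (n : ℕ) : sg k g ^ n = sg k (g ^ n) := by
  unfold sg; rw [MonoidAlgebra.single_pow, one_pow]

theorem eq_sum_sg (a : MonoidAlgebra k G) : a = ∑ g : G, a.coeff g • sg k g := by
  classical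
  apply ext'
  intro x
  rw [sum_coeff, Finset.sum_eq_single x]
  · rw [smul_coeff]
    unfold sg
    rw [MonoidAlgebra.coeff_single, Finsupp.single_eq_same, mul_one]
  · intro b _ hb
    rw [smul_coeff]
    unfold sg
    rw [MonoidAlgebra.coeff_single, Finsupp.single_apply, if_neg hb, mul_zero]
  · intro h; exact absurd (Finset.mem_univ _) h

/-- traces of representations are constant on `p`-sections -/
theorem trace_sec {D : Type*} [Fintype D] [DecidableEq D]
    (ρ : MonoidAlgebra k G →ₐ[k] Matrix D D k) {u x : G} (hc : Commute u x)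
    (hu : ∃ n : ℕ, orderOf u = p ^ n) :
    Matrix.trace (ρ (sg k (u * x))) = Matrix.trace (ρ (sg k x)) := by
  classical
  haveI : CharP (MonoidAlgebra k G) p :=
    charP_of_injective_algebraMap (FaithfulSMul.algebraMap_injective k (MonoidAlgebra k G)) p
  obtain ⟨n, hn⟩ := hu
  have h1 : (sg k u - 1) ^ (p ^ n) = 0 := by
    rw [sub_pow_char_pow_of_commute p n (Commute.one_right (sg k u)), sg_pow, ← hn,
      pow_orderOf_eq_one, sg_one, one_pow, sub_self]
  have h2 : sg k (u * x) = (sg k u - 1) * sg k x + sg k x := by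
    rw [sub_mul, one_mul, sg_mul, sub_add_cancel]
  have h3 : Commute (sg k u - 1) (sg k x) := by
    have : Commute (sg k u) (sg k x) := by
      show sg k u * sg k x = sg k x * sg k u
      rw [sg_mul, sg_mul, hc.eq]
    exact this.sub_left (Commute.one_left _)
  have h4 : IsNilpotent (ρ ((sg k u - 1) * sg k x)) := by
    refine ⟨p ^ n, ?_⟩
    rw [← map_pow, h3.mul_pow, h1, zero_mul, map_zero]
  have h5 := Matrix.isNilpotent_trace_of_isNilpotent h4
  rw [h2, map_add, Matrix.trace_add, h5.eq_zero, zero_add]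

end Sec

/-- the trace functions of a block of rank one are proportional -/
theorem trace_prop (hM : IsPModular p M) {B : Set (IrrCharacter G)} (hB : IsPBlock M B)
    {φ : G → ℂ} {n : IrrCharacter G → ℤ} {d : IrrCharacter G → ℕ}
    (hφ : ∀ x, φ x = ∑ᶠ ψ ∈ B, (n ψ : ℂ) * (ψ : G → ℂ) x)
    (hd : ∀ χ ∈ B, ∀ x : G, ¬ p ∣ orderOf x → (χ : G → ℂ) x = (d χ : ℂ) * φ x)
    {D : Type*} [Fintype D] [DecidableEq D]
    (ρ : MonoidAlgebra (kM M) G →ₐ[kM M] Matrix D D (kM M)) (hρ : ρ (JB M B) = 1) :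
    ∃ c : kM M, ∀ x : G, ¬ p ∣ orderOf x →
      Matrix.trace (ρ (sg (kM M) x)) = c * rd M (φ x) := by
  classical
  set f : G → kM M := fun g => Matrix.trace (ρ (sg (kM M) g)) with hf
  have hfc : ∀ g h, f (h * g * h⁻¹) = f g := by
    intro g h
    show Matrix.trace (ρ (sg (kM M) (h * g * h⁻¹))) = _
    rw [← sg_mul, map_mul, Matrix.trace_mul_comm, ← map_mul, sg_mul]
    congr 3
    group
  choose fh hfh1 hfh2 using fun c : kM M => rd_surj (M := M) c
  have hcl : IsClassFunction G (fun g => fh (f g)) := fun g h => by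
    show fh (f (h * g * h⁻¹)) = fh (f g)
    rw [hfc]
  have hcomb : RComb M (fun g => fh (f g)) := by
    apply rcomb_of_secConst (p := p) hM hcl
    · intro x; exact hfh1 _
    · intro x u hc hx hu
      show fh (f (u * x)) = fh (f x)
      rw [show f (u * x) = f x from trace_sec ρ hc hu]
  refine ⟨rd M (∑ χ : IrrCharacter G, ind B χ *
    (classInner (fun g => fh (f g)) (χ : G → ℂ) * d χ)), fun x hx => ?_⟩
  have hφR : MemLocalRing M (φ x) := by
    rw [hφ]
    refine memR_finsum fun ψ _ => ?_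
    exact memR_mul (memR_intCast _) (irr_ring hPr ψ x)
  have hsR : MemLocalRing M (∑ χ : IrrCharacter G, ind B χ *
      (classInner (fun g => fh (f g)) (χ : G → ℂ) * d χ)) := by
    refine memR_sum fun χ _ => ?_
    refine memR_mul ?_ (memR_mul (hcomb.2 χ) (memR_natCast _))
    by_cases h : χ ∈ B
    · rw [ind_of h]; exact memR_one
    · rw [ind_not h]; exact memR_zero
  rw [← rd_mul hsR hφR, Finset.sum_mul]
  have e1 : ∑ χ : IrrCharacter G, ind B χ *
      (classInner (fun g => fh (f g)) (χ : G → ℂ) * d χ) * φ x =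
      ∑ w : G, blockCoeff B w * fh (f (w * x)) := by
    rw [sum_coeff_mul B hcl x, blockPart_expand]
    refine Finset.sum_congr rfl fun χ _ => ?_
    by_cases h : χ ∈ B
    · rw [hd χ h x hx]; ring
    · rw [ind_not h]; ring
  have e2 : f x = ∑ w : G, (JB M B).coeff w * f (w * x) := by
    have h1 : f x = Matrix.trace (ρ (JB M B * sg (kM M) x)) := by
      rw [map_mul, hρ, one_mul]
    rw [h1]
    conv_lhs => rw [eq_sum_sg (JB M B)]
    rw [Finset.sum_mul, map_sum, Matrix.trace_sum]
    refine Finset.sum_congr rfl fun w _ => ?_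
    rw [smul_mul_assoc, sg_mul, map_smul, Matrix.trace_smul, smul_eq_mul]
  show f x = _
  rw [e1, e2, rd_sum]
  · refine Finset.sum_congr rfl fun w _ => ?_
    rw [rd_mul (blockCoeff_ring hPr hB w) (hfh1 _), hfh2]
    congr 1
    have := bk_coeff (M := M) (ι := MonoidHom.id G) id_inj B w
    exact this
  · intro w _
    exact memR_mul (blockCoeff_ring hPr hB w) (hfh1 _)

/-- a block of rank one has a unique simple module -/
theorem iso_of_rank_one (hM : IsPModular p M) [M.IsMaximal] {B : Set (IrrCharacter G)}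
    (hB : IsPBlock M B) (hl : blockRank p B = 1) {L : Finset (MonoidAlgebra (kM M) G)}
    (hL : Dec 1 L) {j₁ j₂ : MonoidAlgebra (kM M) G} (h1 : j₁ ∈ L) (h2 : j₂ ∈ L)
    (hb1 : j₁ * JB M B = j₁) (hb2 : j₂ * JB M B = j₂) : Iso j₁ j₂ := by
  classical
  by_contra hne
  obtain ⟨φ, n, d, g, hg, hdeg, hφ, hd, hmm, hsum⟩ := rank_one_data hM hB hl
  have hblk := g_blk hB
  have hbc : ∀ a, JB M B * a = a * JB M B := fun a =>
    comm_of_fx_supp (H := ⊤) hblk.zh.2 (fun g hg => absurd (Subgroup.mem_top g) hg)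
  have key : ∀ j ∈ L, j * JB M B = j → ∃ c : kM M, ∀ l ∈ L,
      (if Iso j l then (1 : kM M) else 0) =
        c * ∑ x : G, l.coeff x * rd M (φ ((pp p x)⁻¹ * x)) := by
    intro j hj hjb
    obtain ⟨ρ, hρ1, hρ2⟩ := exists_rep (kM M) hL hj (D := L.filter fun q => Iso j q)
      (fun q => by rw [Finset.mem_filter])
    obtain ⟨c, hc⟩ := trace_prop hM hB hφ hd ρ (hρ2 _ hbc hblk.idem hjb)
    refine ⟨c, fun l hl => ?_⟩
    rw [← hρ1 l hl]
    conv_lhs => rw [eq_sum_sg l]
    rw [map_sum, Matrix.trace_sum, Finset.mul_sum]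
    refine Finset.sum_congr rfl fun x _ => ?_
    rw [map_smul, Matrix.trace_smul, smul_eq_mul]
    obtain ⟨s, hs1, hs2, hs3, hs4⟩ := pp_spec (p := p) x
    have e1 : (pp p x)⁻¹ * x = s := by rw [inv_mul_eq_iff_eq_mul]; exact hs1.symm
    rw [e1]
    have e2 := trace_sec (p := p) ρ hs2 hs3
    rw [hs1] at e2
    rw [e2, hc s hs4]
    ring
  obtain ⟨c1, hc1⟩ := key j₁ h1 hb1
  obtain ⟨c2, hc2⟩ := key j₂ h2 hb2
  have e1 := hc1 j₁ h1
  have e2 := hc1 j₂ h2
  have e3 := hc2 j₂ h2
  rw [if_pos (Iso.refl (hL.prim _ h1).idem)] at e1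
  rw [if_neg hne] at e2
  rw [if_pos (Iso.refl (hL.prim _ h2).idem)] at e3
  have hc10 : c1 ≠ 0 := fun h => by rw [h, zero_mul] at e1; exact one_ne_zero e1
  have e4 := (mul_eq_zero.1 e2.symm).resolve_left hc10
  rw [e4, mul_zero] at e3
  exact one_ne_zero e3

end CfsgLib.Star
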