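import Mathlib
import Cfsg.Agent.EqBase
import Cfsg.Agent.LibStar35

/-!
# Star construction, XXXVI: the dimension of the corner algebra (helper18)
-/

set_option autoImplicit false
set_option linter.unusedSectionVars false
set_option linter.style.haveILetI false
set_option linter.unusedSimpArgs false
set_option linter.unusedVariables false

namespace CfsgLib.Star

open Cfsg CfsgLib.GalChar CfsgLib.GalField CfsgLib.BlockReg CfsgLib.BlockReg2 CfsgLib.LocR
  CfsgLib.BrP CfsgLib.Car CfsgLib.BlockQP CfsgLib.BlockDefect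
  CfsgLib.Points CfsgLib.PLocalInd CfsgLib.CharBasic CfsgLib.BlockCore CfsgLib.BlockSec
  CfsgLib.BlockR CfsgLib.BlockIdem CfsgLib.BlockOrth CfsgLib.CharIndA CfsgLib.CharNorm
open scoped ComplexConjugate Pointwise

universe u

variable {M : Ideal AlgInt} [hPr : M.IsPrime] {G : Type u} [Group G] [Fintype G]
variable {p : ℕ} [hp : Fact p.Prime] [hch : CharP (kM M) p]

/-- conjugation sums -/
theorem sum_conj_inv (F : G → ℂ) (a : G) :
    ∑ x : G, F (x⁻¹ * a⁻¹ * x) = ∑ χ : IrrCharacter G, (∑ y : G, F y * (χ : G → ℂ) y) *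
      (χ : G → ℂ) a := by
  classical
  have hG : (Nat.card G : ℂ) ≠ 0 := by exact_mod_cast Nat.card_pos.ne'
  have hcl : IsClassFunction G (fun a => ∑ x : G, F (x⁻¹ * a⁻¹ * x)) := by
    intro g h
    show ∑ x : G, F (x⁻¹ * (h * g * h⁻¹)⁻¹ * x) = _
    rw [← Equiv.sum_comp (Equiv.mulLeft h)]
    refine Finset.sum_congr rfl fun x _ => ?_
    congr 1
    show (h * x)⁻¹ * (h * g * h⁻¹)⁻¹ * (h * x) = _
    group
  have h1 := classFun_expand_apply hcl a
  refine h1.trans ?_
  refine Finset.sum_congr rfl fun χ _ => ?_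
  congr 1
  unfold classInner
  have h2 : ∀ a : G, (∑ x : G, F (x⁻¹ * a⁻¹ * x)) * conj ((χ : G → ℂ) a) =
      ∑ x : G, F (x⁻¹ * a⁻¹ * x) * (χ : G → ℂ) (x⁻¹ * a⁻¹ * x) := by
    intro a
    rw [Finset.sum_mul]
    refine Finset.sum_congr rfl fun x _ => ?_
    have e1 : (χ : G → ℂ) (x⁻¹ * a⁻¹ * x) = conj ((χ : G → ℂ) a) := by
      have := CfsgLib.CharInt.irr_classFun χ.2 a⁻¹ x⁻¹
      rw [inv_inv] at this
      rw [this, irr_inv χ.2]
    rw [e1]
  simp only [h2]
  rw [Finset.sum_comm]
  have h3 : ∀ x : G, ∑ a : G, F (x⁻¹ * a⁻¹ * x) * (χ : G → ℂ) (x⁻¹ * a⁻¹ * x) =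
      ∑ y : G, F y * (χ : G → ℂ) y := by
    intro x
    rw [← Equiv.sum_comp (((Equiv.inv G).trans (MulAut.conj x⁻¹).toEquiv)) (fun y =>
      F y * (χ : G → ℂ) y)]
    refine Finset.sum_congr rfl fun a _ => ?_
    have e1 : ((Equiv.inv G).trans (MulAut.conj x⁻¹).toEquiv) a = x⁻¹ * a⁻¹ * x := by
      show x⁻¹ * a⁻¹ * x⁻¹⁻¹ = _
      rw [inv_inv]
    rw [e1]
  simp only [h3, Finset.sum_const, Finset.card_univ, nsmul_eq_mul]
  rw [← Nat.card_eq_fintype_card, inv_mul_cancel_left₀ hG]

theorem mul_rmk_mul {R : Type*} [CommRing R] (a b : MonoidAlgebra R G) (v : G → R) (x : G) :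
    (a * rmk v * b).coeff x = ∑ y : G, (a * MonoidAlgebra.single y 1 * b).coeff x * v y := by
  classical
  have h1 : rmk v = ∑ y : G, v y • (MonoidAlgebra.single y 1 : MonoidAlgebra R G) := by
    apply rext
    intro x
    rw [rmk_coeff]
    have h2 : (∑ y : G, v y • (MonoidAlgebra.single y 1 : MonoidAlgebra R G)).coeff x =
        ∑ y : G, (v y • (MonoidAlgebra.single y 1 : MonoidAlgebra R G)).coeff x := by
      simp
    rw [h2, Finset.sum_eq_single x]
    · simp
    · intro y _ hy
      simp [hy]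
    · intro h; exact absurd (Finset.mem_univ _) h
  rw [h1, Finset.mul_sum, Finset.sum_mul]
  have h2 : (∑ y : G, a * v y • (MonoidAlgebra.single y 1 : MonoidAlgebra R G) * b).coeff x =
      ∑ y : G, (a * v y • (MonoidAlgebra.single y 1 : MonoidAlgebra R G) * b).coeff x := by
    simp
  rw [h2]
  refine Finset.sum_congr rfl fun y _ => ?_
  rw [mul_smul_comm, smul_mul_assoc, mul_comm]
  rfl

/-- the dimension of the corner algebra -/
theorem finrank_CA (hM : IsPModular p M) {e : MonoidAlgebra (kM M) G} (he : e * e = e) :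
    (Module.finrank (kM M) (CA (kM M) he) : ℂ) =
      ∑ χ : IrrCharacter G, tau (χ : G → ℂ) 1 e ^ 2 := by
  classical
  have h1G : ∃ j : ℕ, orderOf (1 : G) = p ^ j := ⟨0, by rw [orderOf_one, pow_zero]⟩
  obtain ⟨a, haa, ha, har⟩ := exists_lift (S := Subgroup.zpowers (1 : G)) (x := e) (by
    intro x hx g
    rw [Subgroup.zpowers_one_eq_bot, Subgroup.mem_bot] at hx
    subst hx
    rw [one_mul, inv_one, mul_one]) he
  have htau : ∀ χ : IrrCharacter G, tau (χ : G → ℂ) 1 e = ∑ w : G, (a.coeff w : ℂ) * (χ : G → ℂ) w := by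
    intro χ
    rw [tau_eq hM (CfsgLib.CharInt.irr_classFun χ.2) h1G haa ha (by rw [har])]
    unfold tv
    refine Finset.sum_congr rfl fun w _ => ?_
    rw [one_mul]
  let E : Matrix G G (LocR.subring M) := fun x y => (a * MonoidAlgebra.single y 1 * a).coeff x
  have hEv : ∀ (v : G → LocR.subring M), E.mulVec v = fun x => (a * rmk v * a).coeff x := by
    intro v
    funext x
    rw [mul_rmk_mul]
    rfl
  have hE : E * E = E := by
    ext x y
    have h1 : (E * E) x y = (E.mulVec (fun z => E z y)) x := rfl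
    rw [h1, hEv]
    have h2 : rmk (fun z => E z y) = a * MonoidAlgebra.single y 1 * a := rext fun z => rfl
    rw [h2]
    have h3 : a * (a * MonoidAlgebra.single y 1 * a) * a = a * MonoidAlgebra.single y 1 * a := by
      calc a * (a * MonoidAlgebra.single y 1 * a) * a =
          (a * a) * MonoidAlgebra.single y 1 * (a * a) := by simp only [mul_assoc]
        _ = _ := by rw [haa]
    exact congrArg (fun q : RG M G => ((q.coeff x : LocR.subring M) : ℂ)) h3
  -- rank over ℂ
  have hC : ((E.map (LocR.subring M).subtype).rank : ℂ) =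
      ∑ χ : IrrCharacter G, tau (χ : G → ℂ) 1 e ^ 2 := by
    have h2 : E.map (LocR.subring M).subtype * E.map (LocR.subring M).subtype =
        E.map (LocR.subring M).subtype := by
      rw [← Matrix.map_mul, hE]
    rw [← rank_eq_trace _ h2]
    have h3 : (E.map (LocR.subring M).subtype).trace =
        ∑ x : G, ∑ w : G, (a.coeff w : ℂ) * (a.coeff (x⁻¹ * w⁻¹ * x) : ℂ) := by
      unfold Matrix.trace
      refine Finset.sum_congr rfl fun x _ => ?_
      show (((a * MonoidAlgebra.single x 1 * a).coeff x : LocR.subring M) : ℂ) = _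
      rw [mul_assoc, rmul_coeff]
      push_cast
      refine Finset.sum_congr rfl fun w _ => ?_
      have h4 : (MonoidAlgebra.single x 1 * a).coeff (w⁻¹ * x) = a.coeff (x⁻¹ * (w⁻¹ * x)) :=
        gs_mul_coeff x a (w⁻¹ * x)
      rw [h4, mul_assoc x⁻¹]
    rw [h3, Finset.sum_comm]
    have h4 : ∀ w : G, ∑ x : G, (a.coeff w : ℂ) * (a.coeff (x⁻¹ * w⁻¹ * x) : ℂ) =
        ∑ χ : IrrCharacter G, tau (χ : G → ℂ) 1 e * ((a.coeff w : ℂ) * (χ : G → ℂ) w) := by
      intro w
      rw [← Finset.mul_sum, sum_conj_inv (fun y => (a.coeff y : ℂ)) w, Finset.mul_sum]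
      refine Finset.sum_congr rfl fun χ _ => ?_
      rw [htau]
      ring
    simp only [h4]
    rw [Finset.sum_comm]
    refine Finset.sum_congr rfl fun χ _ => ?_
    rw [← Finset.mul_sum, ← htau, pow_two]
  -- rank over k
  have hk : (E.map (IsLocalRing.residue (LocR.subring M))).rank =
      Module.finrank (kM M) (CA (kM M) he) := by
    have h5 : ∀ (v : G → kM M) (x : G),
        ((E.map (IsLocalRing.residue (LocR.subring M))).mulVec v) x = (e * rmk v * e).coeff x := by
      intro v x
      rw [mul_rmk_mul]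
      show ∑ y, (E.map (IsLocalRing.residue (LocR.subring M))) x y * v y = _
      refine Finset.sum_congr rfl fun y _ => ?_
      congr 1
      rw [Matrix.map_apply]
      show IsLocalRing.residue (LocR.subring M) ((a * MonoidAlgebra.single y 1 * a).coeff x) = _
      rw [← red_coeff, map_mul, map_mul, har]
      congr 3
      unfold red
      rw [MonoidAlgebra.mapRingHom_single, map_one]
    have h6 : LinearMap.range (E.map (IsLocalRing.residue (LocR.subring M))).mulVecLin =
        Submodule.map (cfL (kM M) G) (cornerSub (kM M) e) := by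
      ext v
      constructor
      · rintro ⟨w, rfl⟩
        refine ⟨e * rmk w * e, cor_of he _, ?_⟩
        funext x
        exact (h5 w x).symm
      · rintro ⟨c, hc, rfl⟩
        refine ⟨cfL (kM M) G c, ?_⟩
        funext x
        show ((E.map (IsLocalRing.residue (LocR.subring M))).mulVec (cfL (kM M) G c)) x = _
        rw [h5]
        have h7 : rmk (cfL (kM M) G c) = c := rext fun z => rfl
        rw [h7, hc.1, hc.2]
        rfl
    unfold Matrix.rank
    rw [h6]
    exact (Submodule.equivMapOfInjective (cfL (kM M) G) (LinearMap.ker_eq_bot.1 (cfL_inj _))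
      (cornerSub (kM M) e)).finrank_eq.symm
  rw [← hC, ← rank_idem (LocR.subring M).subtype E hE, hk]

end CfsgLib.Star
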