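import Mathlib
import Cfsg.Agent.EqBase
import Cfsg.Agent.LibStar36

/-!
# Star construction, XXXVII: blocks of rank one with at most four characters (helper18)
-/

set_option autoImplicit false
set_option linter.unusedSectionVars false
set_option linter.style.haveILetI false
set_option linter.unusedSimpArgs false
set_option linter.unusedVariables false

namespace CfsgLib.Star

open Cfsg CfsgLib.GalChar CfsgLib.GalField CfsgLib.BlockReg CfsgLib.BlockReg2 CfsgLib.LocR
  CfsgLib.BrP CfsgLib.Car CfsgLib.BlockQP CfsgLib.BlockDefect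
  CfsgLib.Points CfsgLib.PLocalInd CfsgLib.CharBasic CfsgLib.BlockCore CfsgLib.BlockSec
  CfsgLib.BlockR CfsgLib.BlockIdem CfsgLib.BlockOrth CfsgLib.CharIndA CfsgLib.CharNorm
open scoped ComplexConjugate Pointwise

universe u

section Form

variable (k : Type*) [Field k] (G : Type*) [Group G] [Fintype G]

/-- the symmetrizing form of the group algebra -/
noncomputable def l1 : MonoidAlgebra k G →ₗ[k] k where
  toFun a := a.coeff 1
  map_add' a b := rfl
  map_smul' c a := rfl

variable {k G}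

theorem l1_symm (a b : MonoidAlgebra k G) : l1 k G (a * b) = l1 k G (b * a) := by
  show (a * b).coeff 1 = (b * a).coeff 1
  rw [rmul_coeff, rmul_coeff, ← Equiv.sum_comp (Equiv.inv G)]
  refine Finset.sum_congr rfl fun x _ => ?_
  show a.coeff x⁻¹ * b.coeff (x⁻¹⁻¹ * 1) = _
  rw [inv_inv, mul_one, mul_one, mul_comm]

theorem sg_mul_coeff (s : G) (a : MonoidAlgebra k G) (g : G) :
    (sg k s * a).coeff g = a.coeff (s⁻¹ * g) := by
  classical
  rw [rmul_coeff, Finset.sum_eq_single s]
  · unfold sg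
    rw [MonoidAlgebra.coeff_single, Finsupp.single_eq_same, one_mul]
  · intro b _ hb
    unfold sg
    rw [MonoidAlgebra.coeff_single, Finsupp.single_apply, if_neg (Ne.symm hb), zero_mul]
  · intro h; exact absurd (Finset.mem_univ _) h

theorem mul_sg_coeff (s : G) (a : MonoidAlgebra k G) (g : G) :
    (a * sg k s).coeff g = a.coeff (g * s⁻¹) := by
  classical
  rw [rmul_coeff', Finset.sum_eq_single s]
  · unfold sg
    rw [MonoidAlgebra.coeff_single, Finsupp.single_eq_same, mul_one]
  · intro b _ hb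
    unfold sg
    rw [MonoidAlgebra.coeff_single, Finsupp.single_apply, if_neg (Ne.symm hb), mul_zero]
  · intro h; exact absurd (Finset.mem_univ _) h

theorem l1_nd (a : MonoidAlgebra k G) (h : ∀ b, l1 k G (a * b) = 0) : a = 0 := by
  apply ext'
  intro g
  have h1 : (a * sg k g⁻¹).coeff 1 = 0 := h _
  rw [mul_sg_coeff, inv_inv, one_mul] at h1
  rw [h1, zero_coeff]

theorem zh_top_of_comm {z : MonoidAlgebra k G} (h : ∀ a, a * z = z * a) : ZH ⊤ z := by
  refine ⟨fun g hg => absurd (Subgroup.mem_top g) hg, fun x _ g => ?_⟩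
  have h1 := congrArg (fun q : MonoidAlgebra k G => q.coeff (x * g)) (h (sg k x))
  simp only [sg_mul_coeff, mul_sg_coeff] at h1
  rw [inv_mul_cancel_left] at h1
  exact h1.symm

/-- a central idempotent is a sum of members of a primitive decomposition -/
theorem dec_filter {A : Type*} [Ring A] [DecidableEq A] {L : Finset A} (hL : Dec (1 : A) L) {b : A}
    (hb : b * b = b) (hbc : ∀ a, b * a = a * b) : Dec b (L.filter fun l => l * b = l) := by
  refine ⟨fun l hl => hL.prim l (Finset.mem_filter.1 hl).1, fun l hl m hm =>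
    hL.orth l (Finset.mem_filter.1 hl).1 m (Finset.mem_filter.1 hm).1, ?_⟩
  have h1 : b = ∑ l ∈ L, l * b := by rw [← Finset.sum_mul, hL.sum, one_mul]
  conv_rhs => rw [h1]
  rw [Finset.sum_filter]
  refine Finset.sum_congr rfl fun l hl => ?_
  split_ifs with h
  · exact h.symm
  · have hp := hL.prim l hl
    rcases hp.prim (l * b) (by
        calc l * b * (l * b) = l * (b * l) * b := by simp only [mul_assoc]
          _ = l * l * (b * b) := by rw [hbc]; simp only [mul_assoc]
          _ = l * b := by rw [hp.idem, hb]) (by rw [← mul_assoc, hp.idem])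
        (by rw [mul_assoc, hbc, ← mul_assoc, hp.idem]) with h2 | h2
    · exact h2.symm
    · exact absurd h2 h

end Form

variable {M : Ideal AlgInt} [hPr : M.IsPrime] {G : Type u} [Group G] [Fintype G]
variable {p : ℕ} [hp : Fact p.Prime] [hch : CharP (kM M) p]

/-- lift of the block idempotent -/
theorem exists_EB {B : Set (IrrCharacter G)} (hB : IsPBlock M B) : ∃ a : RG M G, a * a = a ∧
    RF ⊤ a ∧ red M G a = JB M B ∧ ∀ w, (a.coeff w : ℂ) = blockCoeff B w := by
  classical
  refine ⟨rmk fun w => ⟨blockCoeff B w, blockCoeff_ring hPr hB w⟩, ?_, ?_, ?_, fun w => rfl⟩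
  · apply rext
    intro g
    rw [rmul_coeff]
    apply Subtype.ext
    push_cast
    exact congrFun (conv_blockCoeff_self B) g
  · intro x _ g
    apply Subtype.ext
    exact (blockCoeff_isConj B (isConj_iff.2 ⟨x, rfl⟩)).symm
  · apply ext'
    intro g
    rw [red_coeff, rmk_coeff]
    have := bk_coeff (M := M) (ι := MonoidHom.id G) id_inj B g
    rw [MonoidHom.id_apply] at this
    rw [this, rd_of (blockCoeff_ring hPr hB g)]

theorem fx_one_zp {k : Type*} [Field k] (x : MonoidAlgebra k G) :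
    Fx (Subgroup.zpowers (1 : G)) x := by
  intro y hy g
  rw [Subgroup.zpowers_one_eq_bot, Subgroup.mem_bot] at hy
  subst hy
  rw [one_mul, inv_one, mul_one]

theorem bpart_irr {B : Set (IrrCharacter G)} {χ : IrrCharacter G} (hχ : χ ∈ B) (y : G) :
    blockPart B (χ : G → ℂ) y = (χ : G → ℂ) y := by
  classical
  rw [blockPart_expand, Finset.sum_eq_single χ]
  · rw [ind_of hχ, (irr_iff_norm_one.mp χ.2).2]; ring
  · intro ψ _ hψ
    have h1 := irr_inner χ.2 ψ.2
    rw [if_neg (fun h => hψ (Subtype.ext h).symm)] at h1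
    rw [h1]; ring
  · intro h; exact absurd (Finset.mem_univ _) h

theorem tau_JB (hM : IsPModular p M) {B : Set (IrrCharacter G)} (hB : IsPBlock M B)
    {χ : IrrCharacter G} (hχ : χ ∈ B) : tau (χ : G → ℂ) 1 (JB M B) = (χ : G → ℂ) 1 := by
  have h1G : ∃ j : ℕ, orderOf (1 : G) = p ^ j := ⟨0, by rw [orderOf_one, pow_zero]⟩
  obtain ⟨a, haa, ha, har, hac⟩ := exists_EB hB
  rw [tau_eq hM (CfsgLib.CharInt.irr_classFun χ.2) h1G haa (rf_mono le_top ha) (by rw [har])]
  unfold tv
  simp only [hac]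
  have h2 := sum_coeff_mul B (CfsgLib.CharInt.irr_classFun χ.2) 1
  simp only [mul_one] at h2
  simp only [one_mul]
  rw [h2]
  exact bpart_irr hχ 1

theorem tau_nat (hM : IsPModular p M) (χ : IrrCharacter G) {e : MonoidAlgebra (kM M) G}
    (he : e * e = e) : ∃ n : ℕ, tau (χ : G → ℂ) 1 e = n := by
  have h1 := tau_char hM (CfsgLib.CharInt.irr_isCharacter χ.2) (S := Subgroup.zpowers (1 : G)) (by
    rw [Subgroup.zpowers_one_eq_bot]; exact IsPGroup.of_bot) (fx_one_zp e) he
  exact CfsgLib.CharInt.char_one_eq_nat h1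

theorem tau_iso (hM : IsPModular p M) (χ : IrrCharacter G) {j l : MonoidAlgebra (kM M) G}
    (hj : j * j = j) (hl : l * l = l) (h : Iso j l) :
    tau (χ : G → ℂ) 1 j = tau (χ : G → ℂ) 1 l := by
  have h1G : ∃ j : ℕ, orderOf (1 : G) = p ^ j := ⟨0, by rw [orderOf_one, pow_zero]⟩
  obtain ⟨x, y, h1, h2, h3, h4, h5, h6⟩ := h
  exact tau_comm hM (CfsgLib.CharInt.irr_classFun χ.2) h1G (fx_one_zp _) (fx_one_zp _) hj hl
    (fx_one_zp _) (fx_one_zp _) h1 h2 h3 h4 h5 h6

/-- blocks of rank one with at most four characters -/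
theorem small_data (hM : IsPModular p M) [M.IsMaximal] {B : Set (IrrCharacter G)}
    (hB : IsPBlock M B) (hl : blockRank p B = 1) (hk : Nat.card B ≤ 4) :
    Nat.card B = p ^ blockDefect p B := by
  classical
  have h1G : ∃ j : ℕ, orderOf (1 : G) = p ^ j := ⟨0, by rw [orderOf_one, pow_zero]⟩
  obtain ⟨φ, n, d, g, hg, hdeg, hφ, hd, hmm, hsum⟩ := rank_one_data hM hB hl
  have hblk := g_blk hB
  have hbc : ∀ a, JB M B * a = a * JB M B := fun a =>
    comm_of_fx_supp (H := ⊤) hblk.zh.2 (fun g hg => absurd (Subgroup.mem_top g) hg)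
  obtain ⟨L, hL⟩ := exists_dec (kM M) (A := MonoidAlgebra (kM M) G) (e := 1) (one_mul 1)
  have hD := dec_filter hL hblk.idem hbc
  set D := L.filter (fun l => l * JB M B = l) with hDdef
  obtain ⟨e, heD⟩ : D.Nonempty := by
    rw [Finset.nonempty_iff_ne_empty]
    intro h0
    have := hD.sum
    rw [h0, Finset.sum_empty] at this
    exact hblk.ne this.symm
  have heL := (Finset.mem_filter.1 heD).1
  have hpe := hD.prim e heD
  have he := hpe.idem
  have hiso : ∀ l ∈ D, Iso e l := fun l hl' => iso_of_rank_one hM hB hl hL heL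
    (Finset.mem_filter.1 hl').1 (Finset.mem_filter.1 heD).2 (Finset.mem_filter.1 hl').2
  -- centre
  obtain ⟨F, hF⟩ := center_ext (k := kM M) he hbc hD heD hiso
  have hzle : Module.finrank (kM M) (Subalgebra.center (kM M) (CA (kM M) he)) ≤ Nat.card B := by
    let F' : Subalgebra.center (kM M) (CA (kM M) he) →ₗ[kM M] MonoidAlgebra (kM M) G :=
      F.comp (Subalgebra.toSubmodule (Subalgebra.center (kM M) (CA (kM M) he))).subtype
    have hF' : ∀ z, F' z = F z.1 := fun z => rfl
    have hinj : Function.Injective F' := by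
      intro z w hzw
      rw [hF', hF'] at hzw
      apply Subtype.ext
      apply CA.ext
      rw [← (hF z.1 z.2).2.2, ← (hF w.1 w.2).2.2, hzw]
    have h1 := LinearMap.finrank_range_of_inj hinj
    rw [← h1]
    apply center_le hB
    rintro _ ⟨z, rfl⟩
    obtain ⟨h2, h3, h4⟩ := hF z.1 z.2
    exact ⟨zh_top_of_comm h2, h3⟩
  have hsl := CA.sl (he := he) hpe (l1 (kM M) G) l1_symm l1_nd
  have hcomm := hsl.comm_of_center (hzle.trans hk)
  have hfr : Module.finrank (kM M) (CA (kM M) he) ≤ Nat.card B := by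
    refine le_trans (le_of_eq ?_) hzle
    have h1 : Subalgebra.toSubmodule (Subalgebra.center (kM M) (CA (kM M) he)) = ⊤ := by
      rw [eq_top_iff]
      intro z _
      rw [Subalgebra.mem_toSubmodule, Subalgebra.mem_center_iff]
      exact fun b => hcomm b z
    have h2 : Module.finrank (kM M) (Subalgebra.toSubmodule (Subalgebra.center (kM M)
      (CA (kM M) he))) = Module.finrank (kM M) (CA (kM M) he) := by
      rw [h1, finrank_top]
    exact h2.symm
  -- multiplicities
  choose N hN using fun χ : IrrCharacter G => tau_nat hM χ he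
  have hmN : ∀ χ ∈ B, D.card * N χ = g * d χ := by
    intro χ hχ
    have h1 : tau (χ : G → ℂ) 1 (JB M B) = ∑ l ∈ D, tau (χ : G → ℂ) 1 l := by
      conv_lhs => rw [← hD.sum]
      exact tau_sum hM (CfsgLib.CharInt.irr_classFun χ.2) h1G D (fun l => l)
        (fun l _ => fx_one_zp l) (fun l hl' => (hD.prim l hl').idem) hD.orth
    have h2 : ∀ l ∈ D, tau (χ : G → ℂ) 1 l = N χ := by
      intro l hl'
      rw [← hN, tau_iso hM χ he (hD.prim l hl').idem (hiso l hl')]
    rw [Finset.sum_congr rfl h2, Finset.sum_const, nsmul_eq_mul, tau_JB hM hB hχ,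
      CfsgLib.CharInt.irr_one_eq_charDegree χ.2, hdeg χ hχ] at h1
    exact_mod_cast h1.symm
  have hfin : Module.finrank (kM M) (CA (kM M) he) = ∑ χ : IrrCharacter G, N χ ^ 2 := by
    have h1 := finrank_CA hM he
    simp only [hN] at h1
    exact_mod_cast h1
  -- the multiple
  obtain ⟨χ₀, hχ₀⟩ := block_nonempty hPr hB
  have hd0 : ∀ χ ∈ B, 0 < d χ := by
    intro χ hχ
    rcases Nat.eq_zero_or_pos (d χ) with h | h
    · have := hdeg χ hχ
      rw [h, mul_zero] at this
      exact absurd this (CfsgLib.CharInt.irr_charDegree_pos χ.2).ne'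
    · exact h
  have hr1 : ¬ p ∣ orderOf (1 : G) := by rw [orderOf_one]; exact hp.out.not_dvd_one
  have hφ1 : φ 1 = g := by
    have h1 := hd χ₀ hχ₀ 1 hr1
    rw [CfsgLib.CharInt.irr_one_eq_charDegree χ₀.2, hdeg χ₀ hχ₀] at h1
    have h2 : (d χ₀ : ℂ) ≠ 0 := by exact_mod_cast (hd0 χ₀ hχ₀).ne'
    apply mul_left_cancel₀ h2
    rw [← h1]
    push_cast
    ring
  have hgK : ∃ K : ℤ, (g : ℤ) = D.card * K := by
    refine ⟨∑ ψ ∈ (Set.toFinite B).toFinset, n ψ * N ψ, ?_⟩
    have h1 := hφ 1
    rw [hφ1, finsum_mem_eq_finite_toFinset_sum _ (Set.toFinite B)] at h1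
    have h2 : ∀ ψ ∈ (Set.toFinite B).toFinset, (n ψ : ℂ) * (ψ : G → ℂ) 1 =
        (D.card : ℂ) * ((n ψ : ℂ) * N ψ) := by
      intro ψ hψ
      rw [Set.Finite.mem_toFinset] at hψ
      have h3 : (ψ : G → ℂ) 1 = (D.card : ℂ) * N ψ := by
        rw [CfsgLib.CharInt.irr_one_eq_charDegree ψ.2, hdeg ψ hψ, ← hmN ψ hψ]
        push_cast; rfl
      rw [h3]; ring
    rw [Finset.sum_congr rfl h2, ← Finset.mul_sum] at h1
    exact_mod_cast h1
  obtain ⟨K, hK⟩ := hgK
  have hDpos : 0 < D.card := Finset.card_pos.2 ⟨e, heD⟩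
  have hKpos : 0 < K := by
    by_contra hn
    push Not at hn
    have h1 : (D.card : ℤ) * K ≤ 0 := mul_nonpos_of_nonneg_of_nonpos (by positivity) hn
    rw [← hK] at h1
    have : (0 : ℤ) < g := by exact_mod_cast hg
    omega
  have hNd : ∀ χ ∈ B, d χ ≤ N χ := by
    intro χ hχ
    have h1 : (D.card : ℤ) * N χ = D.card * (K * d χ) := by
      have := hmN χ hχ
      have h2 : (D.card : ℤ) * N χ = g * d χ := by exact_mod_cast this
      rw [h2, hK]; ring
    have h2 : (N χ : ℤ) = K * d χ := mul_left_cancel₀ (by exact_mod_cast hDpos.ne') h1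
    have h3 : (d χ : ℤ) ≤ N χ := by
      rw [h2]
      have : (0 : ℤ) ≤ d χ := by positivity
      nlinarith
    exact_mod_cast h3
  have hle1 : p ^ blockDefect p B ≤ Nat.card B := by
    refine le_trans ?_ hfr
    rw [hfin, ← hsum, finsum_mem_eq_finite_toFinset_sum _ (Set.toFinite B)]
    refine le_trans (Finset.sum_le_sum fun χ hχ => ?_) (Finset.sum_le_sum_of_subset
      (f := fun χ => N χ ^ 2) (Finset.subset_univ (Set.toFinite B).toFinset))
    rw [Set.Finite.mem_toFinset] at hχ
    exact Nat.pow_le_pow_left (hNd χ hχ) 2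
  have hle2 : Nat.card B ≤ p ^ blockDefect p B := by
    rw [← hsum, finsum_mem_eq_finite_toFinset_sum _ (Set.toFinite B)]
    have h1 : Nat.card B = ∑ χ ∈ (Set.toFinite B).toFinset, 1 := by
      rw [Finset.sum_const, smul_eq_mul, mul_one, Nat.card_coe_set_eq,
        Set.ncard_eq_toFinset_card B (Set.toFinite B)]
    rw [h1]
    refine Finset.sum_le_sum fun χ hχ => ?_
    rw [Set.Finite.mem_toFinset] at hχ
    exact Nat.one_le_pow _ _ (hd0 χ hχ)
  exact le_antisymm hle2 hle1

end CfsgLib.Star
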