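import Cfsg.Statements.S4733
import Cfsg.Agent.LibPB19
import Cfsg.Agent.LibBlockReg
import Cfsg.Agent.LibBlockDefect

set_option autoImplicit false
open Cfsg

namespace Cfsg.Agent.S4733

open CfsgLib.CharBasic CfsgLib.PB19
open scoped ComplexConjugate

/-- a character vanishing on the nontrivial elements of a subgroup has degree divisible by its order -/
theorem dvd_of_vanish {G : Type*} [Group G] [Finite G] {χ : G → ℂ} (hirr : IsIrrCharacter G χ) (Q : Subgroup G)
    (hQ : ∀ x ∈ Q, x ≠ 1 → χ x = 0) : Nat.card Q ∣ charDegree χ := by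
  haveI : Fintype G := Fintype.ofFinite G
  haveI : Fintype Q := Fintype.ofFinite Q
  obtain ⟨n, hn⟩ := char_mult (isCharacter_restrict (irr_isCharacter hirr) Q) (isCharacter_one (G := Q))
  rw [inner_one_right] at hn
  have h2 : ∑ x : Q, χ x = χ 1 := by
    rw [Finset.sum_eq_single (1 : Q)]
    · simp
    · intro b _ hb
      exact hQ b b.2 (fun h => hb (Subtype.ext h))
    · intro hcon; exact absurd (Finset.mem_univ _) hcon
  rw [h2, CfsgLib.CharInt.irr_one_eq_charDegree hirr] at hn
  have h5 : (Nat.card Q : ℂ) ≠ 0 := by exact_mod_cast Nat.card_pos.ne'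
  have h6 : (charDegree χ : ℂ) = ((Nat.card Q * n : ℕ) : ℂ) := by
    push_cast; rw [← hn]; field_simp
  exact ⟨n, by exact_mod_cast h6⟩

/-- Let p be a prime, M a maximal ideal of the algebraic integers containing p, and B a p-block of the finite group G with k irreducible characters and p-regular rank l (the number of irreducible Brauer characters). Then l ≤ k, and the following are equivalent: B has defect 0; k = l = 1; k = l. -/
theorem result {G : Type*} [Group G] [Finite G] (p : ℕ) [Fact p.Prime] (M : Ideal Cfsg.AlgInt) (hM : Cfsg.IsPModular p M) (B : Set (Cfsg.IrrCharacter G)) (hB : Cfsg.IsPBlock M B) : Cfsg.blockRank p B ≤ Nat.card B ∧ (Cfsg.blockDefect p B = 0 ↔ (Nat.card B = 1 ∧ Cfsg.blockRank p B = 1)) ∧ (Cfsg.blockDefect p B = 0 ↔ Nat.card B = Cfsg.blockRank p B) := by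
  classical
  haveI : Fintype G := Fintype.ofFinite G
  have hp : p.Prime := Fact.out
  have hMp := CfsgLib.BlockR.isPrime_of_modular hM
  haveI : Fintype B := Fintype.ofFinite _
  let b : B → (G → ℂ) := fun χ => pRegularPart p (χ.1 : G → ℂ)
  have hrange : Set.range b = (fun χ : IrrCharacter G => pRegularPart p (χ : G → ℂ)) '' B := by
    ext f; constructor
    · rintro ⟨χ, rfl⟩; exact ⟨χ.1, χ.2, rfl⟩
    · rintro ⟨χ, hχ, rfl⟩; exact ⟨⟨χ, hχ⟩, rfl⟩
  have hrank : blockRank p B = (Set.range b).finrank ℂ := by
    unfold blockRank Set.finrank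
    rw [hrange]
  have hle : blockRank p B ≤ Nat.card B := by
    rw [hrank, Nat.card_eq_fintype_card]
    exact finrank_range_le_card b
  obtain ⟨χ₀, hχ₀⟩ := CfsgLib.BlockIdem.block_nonempty hMp hB
  -- defect zero implies k = l = 1
  have h1 : blockDefect p B = 0 → (Nat.card B = 1 ∧ blockRank p B = 1) := by
    intro h0
    have h2 := CfsgLib.BlockDefect.degree_ge_defect hM hB hχ₀
    rw [h0, add_zero] at h2
    have h3 : (charDegree (χ₀ : G → ℂ)).factorization p = (Nat.card G).factorization p := by
      apply le_antisymm _ h2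
      exact (Nat.factorization_le_iff_dvd (CfsgLib.CharInt.irr_charDegree_pos χ₀.2).ne' Nat.card_pos.ne').2
            (CfsgLib.CharInt2.charDegree_dvd_card χ₀.2) p
    have h4 := CfsgLib.BlockReg.defect_zero_block hM h3
    rw [← CfsgLib.BlockIdem.block_eq_blockOf hMp hB hχ₀] at h4
    have h5 : Nat.card B = 1 := by
      rw [h4]
      have : Nat.card ({χ₀} : Set (IrrCharacter G)) = ({χ₀} : Set (IrrCharacter G)).ncard := Nat.card_coe_set_eq _
      rw [this, Set.ncard_singleton]
    refine ⟨h5, ?_⟩
    unfold blockRank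
    rw [h4, Set.image_singleton]
    apply finrank_span_singleton
    intro h6
    have h7 := congrFun h6 1
    unfold pRegularPart at h7
    rw [if_pos] at h7
    · exact irr_one_ne_zero χ₀.2 h7
    · unfold IsPRegular
      rw [orderOf_one, Nat.dvd_one]; exact hp.ne_one
  -- k = l implies defect zero
  have h2 : Nat.card B = blockRank p B → blockDefect p B = 0 := by
    intro hkl
    have hli : LinearIndependent ℂ b := by
      rw [linearIndependent_iff_card_eq_finrank_span, ← hrank, ← hkl, Nat.card_eq_fintype_card]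
    have hvan : ∀ χ ∈ B, ∀ y : G, p ∣ orderOf y → (χ : G → ℂ) y = 0 := by
      intro χ hχ y hy
      rw [Fintype.linearIndependent_iff] at hli
      have h3 := hli (fun χ => conj ((χ.1 : G → ℂ) y)) (by
        funext x
        rw [Finset.sum_apply]
        simp only [Pi.smul_apply, smul_eq_mul, b, pRegularPart]
        by_cases hx : IsPRegular p x
        · simp only [if_pos hx]
          have h4 := CfsgLib.BlockOrth.weak_block_orth hM hB (x := x) (y := y) hx hy
          rw [← finsum_subtype_eq_finsum_cond, finsum_eq_sum_of_fintype] at h4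
          rw [Pi.zero_apply, ← h4]
          exact Finset.sum_congr rfl fun χ _ => by ring
        · simp [hx]) ⟨χ, hχ⟩
      simpa using h3
    have hdeg : ∀ χ ∈ B, (Nat.card G).factorization p ≤ (charDegree (χ : G → ℂ)).factorization p := by
      intro χ hχ
      obtain ⟨Q⟩ : Nonempty (Sylow p G) := inferInstance
      have h3 := dvd_of_vanish χ.2 (Q : Subgroup G) (by
        intro x hx hx1
        apply hvan χ hχ
        obtain ⟨k, hk⟩ := Q.isPGroup' ⟨x, hx⟩
        have hk' : x ^ p ^ k = 1 := congrArg Subtype.val hk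
        obtain ⟨j, -, hj⟩ := (Nat.dvd_prime_pow hp).1 (orderOf_dvd_of_pow_eq_one hk')
        rw [hj]
        apply dvd_pow_self
        rintro rfl
        rw [pow_zero, orderOf_eq_one_iff] at hj
        exact hx1 hj)
      rw [Q.card_eq_multiplicity] at h3
      exact (Nat.Prime.pow_dvd_iff_le_factorization hp (CfsgLib.CharInt.irr_charDegree_pos χ.2).ne').1 h3
    unfold blockDefect
    have h4 : (Nat.card G).factorization p ≤ sInf ((fun χ : IrrCharacter G => (charDegree (χ : G → ℂ)).factorization p) '' B) := by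
      apply le_csInf
      · exact ⟨_, χ₀, hχ₀, rfl⟩
      · rintro _ ⟨χ, hχ, rfl⟩
        exact hdeg χ hχ
    omega
  refine ⟨hle, ⟨h1, fun h => h2 (by rw [h.1, h.2])⟩, ⟨fun h => ?_, h2⟩⟩
  rw [(h1 h).1, (h1 h).2]

end Cfsg.Agent.S4733
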