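import Mathlib
import Cfsg.Agent.EqBase
import Cfsg.Agent.LibStar37
import Cfsg.Agent.LibBlockD2
import Cfsg.Agent.S4733

/-!
# Star construction, XXXVIII: S4648 and S4607 (helper18)
-/

set_option autoImplicit false
set_option linter.unusedSectionVars false
set_option linter.style.haveILetI false
set_option linter.unusedSimpArgs false
set_option linter.unusedVariables false

namespace CfsgLib.Star

open Cfsg CfsgLib.GalChar CfsgLib.GalField CfsgLib.BlockReg CfsgLib.BlockReg2 CfsgLib.LocR
  CfsgLib.BrP CfsgLib.Car CfsgLib.BlockQP CfsgLib.BlockDefect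
  CfsgLib.Points CfsgLib.PLocalInd CfsgLib.CharBasic CfsgLib.BlockCore CfsgLib.BlockSec
  CfsgLib.BlockR CfsgLib.BlockIdem CfsgLib.BlockOrth CfsgLib.CharIndA CfsgLib.CharNorm
open scoped ComplexConjugate Pointwise

universe u

theorem small_fix {V : Type*} [Group V] [Finite V] {p : ℕ} [hp : Fact p.Prime]
    (hV : Nat.card V = p ∨ (p = 2 ∧ Nat.card V = 4)) {A : Subgroup (MulAut V)}
    (hA : ¬ p ∣ Nat.card A) : ∀ α ∈ A, ∀ v : V, v ≠ 1 → α v = v → α = 1 := by
  classical
  intro α hα v hv hfix
  rcases hV with hV | ⟨rfl, hV⟩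
  · apply MulEquiv.ext
    intro w
    rw [MulAut.one_apply]
    have h1 : orderOf v = p := by
      have h2 : orderOf v ∣ p := by rw [← hV]; exact orderOf_dvd_natCard v
      rcases (Nat.dvd_prime hp.out).1 h2 with h | h
      · exact absurd (orderOf_eq_one_iff.1 h) hv
      · exact h
    have h2 : Subgroup.zpowers v = ⊤ := by
      apply Subgroup.eq_top_of_card_eq
      rw [Nat.card_zpowers, h1, hV]
    have h3 : w ∈ Subgroup.zpowers v := by rw [h2]; exact Subgroup.mem_top w
    obtain ⟨n, rfl⟩ := Subgroup.mem_zpowers_iff.1 h3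
    rw [map_zpow, hfix]
  · haveI := Fintype.ofFinite V
    have h2 : α ^ 2 = 1 := by
      apply MulEquiv.ext
      intro w
      rw [pow_two, MulAut.mul_apply, MulAut.one_apply]
      by_cases h : α w = w
      · rw [h, h]
      · have hw1 : w ≠ 1 := by
          rintro rfl
          exact h (map_one α)
        have hwv : w ≠ v := by
          rintro rfl
          exact h hfix
        have ha1 : α w ≠ 1 := fun h4 => hw1 (α.injective (by rw [h4, map_one]))
        have hav : α w ≠ v := fun h4 => hwv (α.injective (by rw [hfix, h4]))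
        have hcard : ({1, v, w, α w} : Finset V).card = 4 := by
          rw [Finset.card_insert_of_notMem, Finset.card_insert_of_notMem,
            Finset.card_insert_of_notMem, Finset.card_singleton]
          · simp only [Finset.mem_singleton]; exact fun h' => h h'.symm
          · simp only [Finset.mem_insert, Finset.mem_singleton, not_or]
            exact ⟨hwv.symm, hav.symm⟩
          · simp only [Finset.mem_insert, Finset.mem_singleton, not_or]
            exact ⟨hv.symm, hw1.symm, ha1.symm⟩
        have huniv : ({1, v, w, α w} : Finset V) = Finset.univ := by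
          apply Finset.eq_univ_of_card
          rw [hcard, ← Nat.card_eq_fintype_card, hV]
        have hmem : α (α w) ∈ ({1, v, w, α w} : Finset V) := by rw [huniv]; exact Finset.mem_univ _
        simp only [Finset.mem_insert, Finset.mem_singleton] at hmem
        rcases hmem with h5 | h5 | h5 | h5
        · exact absurd (α.injective (by rw [h5, map_one])) ha1
        · exact absurd (α.injective (by rw [h5, hfix])) hav
        · exact h5
        · exact absurd (α.injective h5) h
    have h3 : orderOf α ∣ 2 := orderOf_dvd_of_pow_eq_one h2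
    have h4 : orderOf α ∣ Nat.card A := by
      have := orderOf_dvd_natCard (⟨α, hα⟩ : A)
      rwa [Subgroup.orderOf_mk] at this
    have hc : Nat.Coprime (Nat.card A) 2 :=
      ((Nat.Prime.coprime_iff_not_dvd Nat.prime_two).2 hA).symm
    exact orderOf_eq_one_iff.1 (Nat.dvd_one.1 (by
        rw [← Nat.Coprime.gcd_eq_one hc]; exact Nat.dvd_gcd h4 h3))

variable {M : Ideal AlgInt} {G : Type u} [Group G] [Fintype G]
variable {p : ℕ} [hp : Fact p.Prime]

/-- if `|P| ≤ 4`, `l(B) = 1` and `k(B) = |P|` then `B` is nilpotent -/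
theorem nilp_of_small (hM : IsPModular p M) [hPr : M.IsPrime] [hch : CharP (kM M) p]
    {B : Set (IrrCharacter G)} (hB : IsPBlock M B) {P : Subgroup G}
    {c : MonoidAlgebra (kM M) G} (hmx : IsMx p ⊤ (JB M B) P c)
    (hab : ∀ x ∈ P, ∀ y ∈ P, x * y = y * x)
    (hV : Nat.card P = p ∨ (p = 2 ∧ Nat.card P = 4)) (hl : blockRank p B = 1)
    (hk : Nat.card B = Nat.card P) : IsNilpotentBlock p M B := by
  classical
  haveI : M.IsMaximal := hM.2.1
  haveI := Fintype.ofFinite P
  have hblk := g_blk hB
  rw [nilp_iff_g hM hB]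
  rw [nilp_abelian hblk hmx hab]
  set T := TS ⊤ P c with hT
  have hTN : T ≤ Subgroup.normalizer (P : Set G) := TS_le_normalizer
  have hCPT : Subgroup.centralizer (P : Set G) ≤ T := by
    have h := CH_le_TS hmx.1.1
    rwa [CH_top] at h
  have hnd : ¬ p ∣ Nat.card (actHom P T hTN).range := by
    apply act_card
    intro R hR hRp
    have h1 := mx_pelem hblk hmx hR hRp
    rw [CH_top, sup_eq_right.2 (ab_cen hab)] at h1
    exact h1
  have hfree : ∀ v ∈ P, v ≠ 1 → ∀ x ∈ T, x ∈ CH ⊤ (Subgroup.zpowers v) →
      x ∈ Subgroup.centralizer (P : Set G) := by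
    intro v hv hv1 x hx hxC
    have h1 : actHom P T hTN ⟨x, hx⟩ = 1 := by
      refine small_fix hV hnd _ ⟨_, rfl⟩ ⟨v, hv⟩ (fun h => hv1 (congrArg Subtype.val h)) ?_
      apply Subtype.ext
      rw [actHom_apply]
      show x * v * x⁻¹ = v
      rw [comm_of_C hxC, mul_inv_cancel_right]
    exact (actHom_eq_one hTN).1 h1
  have hinter : ∀ v ∈ P, v ≠ 1 → T ⊓ CH ⊤ (Subgroup.zpowers v) =
      Subgroup.centralizer (P : Set G) := by
    intro v hv hv1
    apply le_antisymm
    · rintro x ⟨h1, h2⟩; exact hfree v hv hv1 x h1 h2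
    · refine le_inf hCPT ?_
      rw [CH_top]
      exact centralizer_anti (by rw [Subgroup.zpowers_le]; exact hv)
  have hT0 : (Nat.card T : ℂ) ≠ 0 := by exact_mod_cast Nat.card_pos.ne'
  have hwt : ∀ v : P, v ≠ 1 → wt p P c (v : G) =
      (Nat.card (Subgroup.centralizer (P : Set G)) : ℂ) / Nat.card T := by
    intro v hv1
    have hv1' : (v : G) ≠ 1 := fun h => hv1 (Subtype.ext h)
    rw [wt_abel hblk hmx hab v.2, rank_local hM hblk hmx hab v.2
      (hfree v v.2 hv1'), hinter v v.2 hv1', Nat.cast_one, mul_one]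
  have h1 := card_formula hM hB hmx
  rw [← Finset.add_sum_erase Finset.univ _ (Finset.mem_univ (1 : P)),
    Finset.sum_congr rfl (fun v hv => hwt v (Finset.ne_of_mem_erase hv)), Finset.sum_const,
    Finset.card_erase_of_mem (Finset.mem_univ _), Finset.card_univ,
    ← Nat.card_eq_fintype_card (α := P), hk] at h1
  have h2 : wt p P c ((1 : P) : G) = blockRank p B := wt_one hB hmx
  rw [h2, hl, nsmul_eq_mul] at h1
  have hPpos : 1 < Nat.card P := by
    rcases hV with h | ⟨-, h⟩
    · rw [h]; exact hp.out.one_lt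
    · rw [h]; norm_num
  have h3 : ((Nat.card P - 1 : ℕ) : ℂ) = (Nat.card P : ℂ) - 1 := by
    rw [Nat.cast_sub hPpos.le, Nat.cast_one]
  rw [h3] at h1
  have h4 : ((Nat.card P : ℂ) - 1) ≠ 0 := by
    rw [← h3]
    exact_mod_cast (by omega : Nat.card P - 1 ≠ 0)
  have h5 : (Nat.card (Subgroup.centralizer (P : Set G)) : ℂ) / Nat.card T = 1 := by
    apply mul_left_cancel₀ h4
    push_cast at h1
    linear_combination -h1
  have h6 : Nat.card (Subgroup.centralizer (P : Set G)) = Nat.card T := by
    rw [div_eq_one_iff_eq hT0] at h5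
    exact_mod_cast h5
  exact (Subgroup.eq_of_le_of_card_ge hCPT h6.ge).ge

theorem s4648 (hM : IsPModular p M) {B : Set (IrrCharacter G)} (hB : IsPBlock M B)
    {D : Subgroup G} (hD : IsDefectGroup p M B D) (hD1 : D ≠ ⊥) (hl : blockRank p B = 1)
    (hk : Nat.card B ≤ 4) :
    IsNilpotentBlock p M B ∧ Nat.card D = Nat.card B ∧ (p = 2 ∨ p = 3) := by
  classical
  haveI hPr : M.IsPrime := isPrime_of_modular hM
  haveI : M.IsMaximal := hM.2.1
  haveI := charP_kM hM
  have h1 := small_data hM hB hl hk
  have h2 := card_defectGroup hM hB hD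
  have h3 : Nat.card D = Nat.card B := by rw [h2, h1]
  have h4 : 1 < Nat.card D := by
    rw [Subgroup.one_lt_card_iff_ne_bot]; exact hD1
  have hd0 : blockDefect p B ≠ 0 := by
    intro h; rw [h2, h, pow_zero] at h4; omega
  have hp4 : p ≤ 4 := by
    have : p ^ 1 ≤ p ^ blockDefect p B :=
      Nat.pow_le_pow_right hp.out.pos (Nat.one_le_iff_ne_zero.2 hd0)
    rw [pow_one, ← h1] at this
    exact this.trans hk
  have hp23 : p = 2 ∨ p = 3 := by
    have h5 := hp.out.two_le
    have h6 : p ≠ 4 := by
      rintro rfl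
      exact absurd hp.out (by norm_num)
    omega
  have hV : Nat.card D = p ∨ (p = 2 ∧ Nat.card D = 4) := by
    rw [h2]
    rw [h1] at hk
    have hle : blockDefect p B ≤ 2 := by
      by_contra hn
      push Not at hn
      have h7 : p ^ 3 ≤ p ^ blockDefect p B := Nat.pow_le_pow_right hp.out.pos hn
      rcases hp23 with rfl | rfl <;> norm_num at h7 <;> omega
    have h8 : blockDefect p B = 1 ∨ blockDefect p B = 2 := by omega
    rcases h8 with h8 | h8
    · left; rw [h8, pow_one]
    · right
      rw [h8] at hk ⊢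
      rcases hp23 with rfl | rfl
      · exact ⟨rfl, by norm_num⟩
      · norm_num at hk
  have hdef : IsDef p ⊤ (JB M B) D := (g_def hM hB).1 hD
  obtain ⟨c, hc⟩ := exists_of_br_ne (g_blk hB) hdef.le hdef.pg hdef.br
  have hmx : IsMx p ⊤ (JB M B) D c := isMx_of_isDef (g_blk hB) hdef hc
  have hab : ∀ x ∈ D, ∀ y ∈ D, x * y = y * x := by
    intro x hx y hy
    have h9 : ∀ a b : D, a * b = b * a := by
      rcases hV with h | ⟨rfl, h⟩
      · haveI : IsCyclic D := isCyclic_of_prime_card h
        exact fun a b => (IsCyclic.isMulCommutative (α := D)).is_comm.comm a b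
      · intro a b
        have h10 : Nat.card D = 2 ^ 2 := by rw [h]; norm_num
        exact (IsPGroup.isMulCommutative_of_card_eq_prime_sq h10).is_comm.comm a b
    exact congrArg Subtype.val (h9 ⟨x, hx⟩ ⟨y, hy⟩)
  exact ⟨nilp_of_small hM hB hmx hab hV hl h3.symm, h3, hp23⟩

theorem blockRank_pos (hM : IsPModular p M) {B : Set (IrrCharacter G)} (hB : IsPBlock M B) :
    0 < blockRank p B := by
  classical
  rw [Nat.pos_iff_ne_zero]
  intro h0
  obtain ⟨χ, hχ⟩ := block_nonempty (isPrime_of_modular hM) hB
  unfold blockRank at h0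
  rw [Submodule.finrank_eq_zero, Submodule.span_eq_bot] at h0
  have h1 := congrFun (h0 _ ⟨χ, hχ, rfl⟩) 1
  simp only [pRegularPart] at h1
  have h2 : IsPRegular p (1 : G) := by
    unfold IsPRegular
    rw [orderOf_one]
    exact hp.out.not_dvd_one
  rw [if_pos h2] at h1
  exact irr_one_ne_zero χ.2 h1

theorem s4607 (hM : IsPModular p M) {B : Set (IrrCharacter G)} (hB : IsPBlock M B)
    {D : Subgroup G} (hD : IsDefectGroup p M B D) : Nat.card B = 2 ↔ Nat.card D = 2 := by
  classical
  have h2 := card_defectGroup hM hB hD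
  obtain ⟨h3, h4, h5⟩ := Cfsg.Agent.S4733.result p M hM B hB
  have h6 := blockRank_pos hM hB
  constructor
  · intro hk
    have hd0 : blockDefect p B ≠ 0 := by
      intro h
      have := (h4.1 h).1
      omega
    have hl : blockRank p B = 1 := by
      have : Nat.card B ≠ blockRank p B := fun h => hd0 (h5.2 h)
      omega
    have hD1 : D ≠ ⊥ := by
      rintro rfl
      rw [Subgroup.card_bot] at h2
      have h7 : p ^ 1 ≤ p ^ blockDefect p B :=
        Nat.pow_le_pow_right hp.out.pos (Nat.one_le_iff_ne_zero.2 hd0)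
      rw [← h2, pow_one] at h7
      have := hp.out.two_le
      omega
    rw [(s4648 hM hB hD hD1 hl (by omega)).2.1, hk]
  · intro hD2
    rw [hD2] at h2
    have hp2 : p = 2 := by
      have h7 : p ∣ 2 := by
        rw [h2]
        apply dvd_pow_self
        intro h
        rw [h, pow_zero] at h2
        omega
      exact (Nat.prime_dvd_prime_iff_eq hp.out Nat.prime_two).1 h7
    subst hp2
    have hd1 : blockDefect 2 B = 1 := by
      have : 2 ^ 1 = 2 ^ blockDefect 2 B := by rw [← h2]; norm_num
      exact (Nat.pow_right_injective le_rfl this).symm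
    exact (CfsgLib.BlockD2.two_block hM hB hd1).1

end CfsgLib.Star
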