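import Mathlib
import Cfsg.Agent.LibSuz7

/-! Suzuki groups: generation, subfield subgroups (seat helper15). -/

set_option autoImplicit false

namespace Cfsg.Agent.Suz

open MulAction
open scoped Pointwise
open CfsgLib.TIConj

variable {F : Type*} [Field F] [Fintype F] {O : Set (Projectivization F (Fin 4 → F))} {m : ℕ}

theorem Data.div_surj (D : Data F O m) {x : F} (hx : x ≠ 0) : ∃ b : F, b ≠ 0 ∧ b / D.S b = x := by
  have h1 : Function.Injective (fun t : Fˣ => t / (Units.map (D.S : F →* F) t)) := by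
    intro s t hst
    have h2 : s / t = Units.map (D.S : F →* F) (s / t) := by
      rw [map_div]
      have h3 : s / (Units.map (D.S : F →* F) s) = t / (Units.map (D.S : F →* F) t) := hst
      rw [div_eq_div_iff_mul_eq_mul] at h3 ⊢
      rw [h3, mul_comm]
    have h3 : D.S ((s / t : Fˣ) : F) = ((s / t : Fˣ) : F) := (congrArg Units.val h2).symm
    rcases D.S_fixed h3 with h4 | h4
    · exact absurd h4 (Units.ne_zero _)
    · have h5 : s / t = 1 := Units.ext h4
      exact div_eq_one.mp h5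
  obtain ⟨t, ht⟩ := (Finite.injective_iff_surjective.mp h1) (Units.mk0 x hx)
  refine ⟨t, t.ne_zero, ?_⟩
  have := congrArg Units.val ht
  simpa using this

/-- the generators -/
def Data.gens (D : Data F O m) (L : Set F) : Set (Gp O) := {x | ∃ b ∈ L, x = D.u 0 b} ∪ {D.w}

theorem Data.gen_Zw (D : Data F O m) : Subgroup.closure (D.gens Set.univ) = ⊤ := by
  set L := Subgroup.closure (D.gens Set.univ) with hL
  have hz : ∀ b, D.u 0 b ∈ L := fun b => Subgroup.subset_closure (Or.inl ⟨b, trivial, rfl⟩)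
  have hw : D.w ∈ L := Subgroup.subset_closure (Or.inr rfl)
  -- transitivity
  have htr : ∀ p ∈ O, ∃ l ∈ L, l • inf F = p := by
    intro p hp
    rcases (D.hO p).mp hp with rfl | ⟨x, y, rfl⟩
    · exact ⟨1, L.one_mem, one_smul _ _⟩
    · by_cases hx : x = 0
      · subst hx
        refine ⟨D.u 0 y * D.w, L.mul_mem (hz y) hw, ?_⟩
        rw [mul_smul, D.w_inf, D.u_zero_pt]
      · obtain ⟨b, hb0, hb⟩ := D.div_surj hx
        refine ⟨D.u 0 y * (D.w * (D.u 0 b * D.w)), L.mul_mem (hz y) (L.mul_mem hw (L.mul_mem (hz b) hw)), ?_⟩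
        have hzf : zf D.S 0 b = D.S b := by simp [zf]
        have hSb : D.S b ≠ 0 := (map_ne_zero D.S).mpr hb0
        have h1 : D.w • pt D.S 0 b = pt D.S (b / D.S b) 0 := by
          have := W_pt D.S D.hS D.h2 (x := 0) (y := b) (by rw [hzf]; exact hSb)
          rw [hzf, zero_div] at this
          exact this
        rw [mul_smul, mul_smul, mul_smul, D.w_inf, D.u_zero_pt, h1, hb, D.u_pt]
        congr 1
        · ring
        · simp
  -- normal closure of `Z`
  have hncl : Subgroup.normalClosure (D.Zs : Set (Gp O)) ≤ L := by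
    rw [Subgroup.normalClosure, Subgroup.closure_le]
    intro x hx
    rw [Group.mem_conjugatesOfSet_iff] at hx
    obtain ⟨_, ⟨b, rfl⟩, hc⟩ := hx
    obtain ⟨g, rfl⟩ := isConj_iff.mp hc
    obtain ⟨l, hl, hlg⟩ := htr _ (D.smul_mem g D.inf_mem)
    have h1 : (l⁻¹ * g) • inf F = inf F := by rw [mul_smul, ← hlg, inv_smul_smul]
    obtain ⟨c, d, t, h2⟩ := D.gborel _ h1
    have h3 : g = l * (D.u c d * D.h t) := by rw [← h2]; group
    have h4 : D.u c d * D.h t * D.u 0 b * (D.u c d * D.h t)⁻¹ = D.u 0 ((t : F) ^ 2 * D.S t * b) := by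
      have e1 : D.u c d * D.h t * D.u 0 b * (D.u c d * D.h t)⁻¹ = D.u c d * (D.h t * D.u 0 b * (D.h t)⁻¹) * (D.u c d)⁻¹ := by
        group
      rw [e1, D.norm_h, mul_zero, D.u_mul, D.u_inv, D.u_mul]
      congr 1
      · rw [add_zero, D.add_self]
      · rw [mul_zero, add_zero, add_zero]
        linear_combination (d + D.S c * c) * D.h2
    have h5 : g * D.u 0 b * g⁻¹ = l * (D.u c d * D.h t * D.u 0 b * (D.u c d * D.h t)⁻¹) * l⁻¹ := by
      rw [h3]; group
    rw [SetLike.mem_coe, h5, h4]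
    exact L.mul_mem (L.mul_mem hl (hz _)) (L.inv_mem hl)
  have hs := D.simple
  rcases hs.eq_bot_or_eq_top_of_normal (Subgroup.normalClosure (D.Zs : Set (Gp O))) inferInstance with h | h
  · exfalso
    have h1 : D.u 0 1 ∈ Subgroup.normalClosure (D.Zs : Set (Gp O)) := Subgroup.subset_normalClosure ⟨1, rfl⟩
    rw [h, Subgroup.mem_bot] at h1
    exact one_ne_zero (D.u_eq_one h1).2
  · rw [eq_top_iff, ← h]
    exact hncl

theorem Data.order5 (D : Data F O m) : (D.w * D.u 0 1) ^ 5 = 1 := by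
  have hA : ((Wm F) * (Um D.S 0 1)) = !![0, 0, 0, 1; 0, 0, 1, 0; 0, 1, 0, 1; 1, 0, 1, 1] := by
    ext i j
    fin_cases i <;> fin_cases j <;> simp [Um, Wm, Matrix.mul_apply, Fin.sum_univ_succ, zf]
  have h2 := D.h2
  have hA2 : (!![0, 0, 0, 1; 0, 0, 1, 0; 0, 1, 0, 1; 1, 0, 1, 1] : Matrix (Fin 4) (Fin 4) F) *
      !![0, 0, 0, 1; 0, 0, 1, 0; 0, 1, 0, 1; 1, 0, 1, 1] = !![1, 0, 1, 1; 0, 1, 0, 1; 1, 0, 0, 1; 1, 1, 1, 1] := by
    ext i j
    fin_cases i <;> fin_cases j <;> simp [Matrix.mul_apply, Fin.sum_univ_succ]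
    all_goals first
      | linear_combination h2
      | linear_combination (2 : F) * h2
  have hA4 : (!![1, 0, 1, 1; 0, 1, 0, 1; 1, 0, 0, 1; 1, 1, 1, 1] : Matrix (Fin 4) (Fin 4) F) *
      !![1, 0, 1, 1; 0, 1, 0, 1; 1, 0, 0, 1; 1, 1, 1, 1] = !![1, 1, 0, 1; 1, 0, 1, 0; 0, 1, 0, 0; 1, 0, 0, 0] := by
    ext i j
    fin_cases i <;> fin_cases j <;> simp [Matrix.mul_apply, Fin.sum_univ_succ]
    all_goals first
      | linear_combination h2
      | linear_combination (2 : F) * h2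
  have hA5 : (!![1, 1, 0, 1; 1, 0, 1, 0; 0, 1, 0, 0; 1, 0, 0, 0] : Matrix (Fin 4) (Fin 4) F) *
      !![0, 0, 0, 1; 0, 0, 1, 0; 0, 1, 0, 1; 1, 0, 1, 1] = 1 := by
    ext i j
    fin_cases i <;> fin_cases j <;> simp [Matrix.mul_apply, Fin.sum_univ_succ, Matrix.one_apply]
    all_goals first
      | linear_combination h2
      | linear_combination (2 : F) * h2
  apply Subtype.ext
  apply Subtype.ext
  change ((Wm F) * (Um D.S 0 1)) ^ 5 = 1
  rw [hA]
  have e : ∀ A : Matrix (Fin 4) (Fin 4) F, A ^ 5 = (A * A) * (A * A) * A := fun A => by noncomm_ring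
  rw [e, hA2, hA4, hA5]

theorem Data.c_eq_one (D : Data F O m) {c : F} (hc : c ≠ 0) (h : (D.w * D.u 0 c) ^ 5 = 1) : c = 1 := by
  have hSc : D.S c ≠ 0 := (map_ne_zero D.S).mpr hc
  have hz0 : zf D.S 0 c = D.S c := by simp [zf]
  -- `w z w z w z w z w z ∞ = ∞`
  have h1 : (D.w * D.u 0 c) • inf F = pt D.S 0 0 := by rw [mul_smul, D.u_inf, D.w_inf]
  have h2 : (D.w * D.u 0 c) • pt D.S 0 0 = pt D.S (c / D.S c) 0 := by
    rw [mul_smul, D.u_zero_pt]
    have := W_pt D.S D.hS D.h2 (x := 0) (y := c) (by rw [hz0]; exact hSc)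
    rw [hz0, zero_div] at this
    exact this
  have hz1 : zf D.S (c / D.S c) c ≠ 0 := by
    intro h
    exact hc (zf_eq_zero D.S D.hS D.h2 h).2
  set a := c / D.S c with ha
  set N := zf D.S a c with hN
  have h3 : (D.w * D.u 0 c) • pt D.S a 0 = pt D.S (c / N) (a / N) := by
    rw [mul_smul, D.u_pt]
    have := W_pt D.S D.hS D.h2 (x := a) (y := c) hz1
    rw [add_zero, zero_add, map_zero, zero_mul, zero_add]
    exact this
  have h4 : (D.w * D.u 0 c)⁻¹ • inf F = pt D.S 0 c := by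
    rw [inv_smul_eq_iff, mul_smul, D.u_pt, map_zero, zero_mul, add_zero, add_zero, D.add_self, D.w_zero]
  have h5 : (D.w * D.u 0 c) ^ 4 • inf F = pt D.S 0 c := by
    rw [← h4]
    have e : (D.w * D.u 0 c) ^ 4 = (D.w * D.u 0 c)⁻¹ := by
      apply eq_inv_of_mul_eq_one_left
      rw [← pow_succ]
      exact h
    rw [e]
  have h6 : (D.w * D.u 0 c) ^ 4 • inf F = (D.w * D.u 0 c) • pt D.S (c / N) (a / N) := by
    rw [← h3, ← h2, ← h1, ← mul_smul, ← mul_smul, ← mul_smul]
    congr 1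
    simp only [pow_succ, pow_zero, one_mul]
  rw [h5] at h6
  have h7 : (D.w * D.u 0 c)⁻¹ • pt D.S 0 c = pt D.S (c / N) (a / N) := by rw [h6, inv_smul_smul]
  have h8 : (D.w * D.u 0 c)⁻¹ • pt D.S 0 c = pt D.S (c / D.S c) c := by
    rw [inv_smul_eq_iff, mul_smul, D.u_pt]
    have e : c + D.S 0 * (c / D.S c) + c = 0 := by rw [map_zero, zero_mul, add_zero, D.add_self]
    rw [e, add_zero]
    have h9 : D.w • pt D.S 0 c = pt D.S (c / D.S c) 0 := by
      have := W_pt D.S D.hS D.h2 (x := 0) (y := c) (by rw [hz0]; exact hSc)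
      rw [hz0, zero_div] at this
      exact this
    rw [← h9, ← mul_smul, D.w_w, one_smul]
  rw [h8] at h7
  obtain ⟨h9, h10⟩ := pt_inj h7
  have hNe : N = D.S c := by
    field_simp at h9
    exact h9.symm ▸ rfl
  rw [hNe, ha] at h10
  have h11 : D.S c ^ 2 = 1 := by
    field_simp at h10
    linear_combination h10
  have h12 : D.S c = 1 := D.sq_inj (by rw [h11, one_pow])
  exact D.S.injective (by rw [h12, map_one])

end Cfsg.Agent.Suz
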