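import Mathlib

set_option autoImplicit false

/-! Central extensions: commutators of lifts; invariant biadditive maps on a field of characteristic 2. -/

namespace CfsgLib.SuzM

/-- invariant biadditive maps vanish -/
theorem bi_one {F M : Type*} [Field F] [Group M] (h2 : (2 : F) = 0) (N : F → F) (hN1 : N 1 = 1)
    (hN : ∀ s, s ≠ 0 → N s ≠ 0) {z : F} (hz0 : z ≠ 0) (hz1 : z + 1 ≠ 0)
    (hz : (N (z + 1))⁻¹ + ((N z)⁻¹ + 1) ≠ 0) (b : F → F → M)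
    (hl : ∀ x x' y, b (x + x') y = b x y * b x' y) (hr : ∀ x y y', b x (y + y') = b x y * b x y')
    (hinv : ∀ s x y, s ≠ 0 → b (s * x) (N s * y) = b x y) (x y : F) : b x y = 1 := by
  have hx : ∀ x y, x ≠ 0 → b x y = b 1 ((N x)⁻¹ * y) := by
    intro x y hx
    have h1 := hinv x 1 ((N x)⁻¹ * y) hx
    rw [mul_one, ← mul_assoc, mul_inv_cancel₀ (hN x hx), one_mul] at h1
    exact h1
  have h0 : ∀ x, b x 0 = 1 := by
    intro x
    have h1 := hr x 0 0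
    rw [add_zero] at h1
    exact (mul_eq_left.1 h1.symm)
  have hsq : ∀ x y, b x y * b x y = 1 := by
    intro x y
    rw [← hr]
    have : y + y = 0 := by linear_combination y * h2
    rw [this, h0]
  have key : ∀ y, b 1 (((N (z + 1))⁻¹ + ((N z)⁻¹ + 1)) * y) = 1 := by
    intro y
    have h1 := hl z 1 y
    rw [hx (z + 1) y hz1, hx z y hz0] at h1
    have h3 : ((N (z + 1))⁻¹ + ((N z)⁻¹ + 1)) * y = (N (z + 1))⁻¹ * y + ((N z)⁻¹ * y + y) := by ring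
    rw [h3, hr, h1, hr]
    have := hsq 1 ((N z)⁻¹ * y + y)
    rw [hr] at this
    exact this
  have hone : ∀ y, b 1 y = 1 := by
    intro y
    have h1 := key (((N (z + 1))⁻¹ + ((N z)⁻¹ + 1))⁻¹ * y)
    rw [← mul_assoc, mul_inv_cancel₀ hz, one_mul] at h1
    exact h1
  by_cases h : x = 0
  · subst h
    have h1 := hl 0 0 y
    rw [add_zero] at h1
    exact (mul_eq_left.1 h1.symm)
  · rw [hx x y h, hone]

section ext

variable {Γ G : Type*} [Group Γ] [Group G] {σ : Γ →* G}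

/-- commutators of elements with the same image -/
theorem comm_lift (hc : σ.ker ≤ Subgroup.center Γ) {x x' y y' : Γ} (hx : σ x = σ x') (hy : σ y = σ y') :
    x * y * x⁻¹ * y⁻¹ = x' * y' * x'⁻¹ * y'⁻¹ := by
  have h1 : x⁻¹ * x' ∈ Subgroup.center Γ := hc (by rw [MonoidHom.mem_ker, map_mul, map_inv, hx, inv_mul_cancel])
  have h2 : y⁻¹ * y' ∈ Subgroup.center Γ := hc (by rw [MonoidHom.mem_ker, map_mul, map_inv, hy, inv_mul_cancel])
  obtain ⟨k, hk⟩ : ∃ k, k = x⁻¹ * x' := ⟨_, rfl⟩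
  obtain ⟨l, hl⟩ : ∃ l, l = y⁻¹ * y' := ⟨_, rfl⟩
  have hx' : x' = x * k := by rw [hk]; group
  have hy' : y' = y * l := by rw [hl]; group
  rw [← hk] at h1
  rw [← hl] at h2
  rw [hx', hy']
  have c1 : ∀ w, w * k = k * w := Subgroup.mem_center_iff.1 h1
  have c2 : ∀ w, w * l = l * w := Subgroup.mem_center_iff.1 h2
  have e1 : x * k * (y * l) * (x * k)⁻¹ * (y * l)⁻¹ = x * (k * y) * (l * k⁻¹ * x⁻¹) * l⁻¹ * y⁻¹ := by group
  rw [e1, ← c1 y]
  have e2 : x * (y * k) * (l * k⁻¹ * x⁻¹) * l⁻¹ * y⁻¹ = x * y * (k * l) * k⁻¹ * x⁻¹ * l⁻¹ * y⁻¹ := by group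
  rw [e2, c2 k]
  have e3 : x * y * (l * k) * k⁻¹ * x⁻¹ * l⁻¹ * y⁻¹ = x * y * (l * x⁻¹) * l⁻¹ * y⁻¹ := by group
  rw [e3, ← c2 x⁻¹]
  group

variable (hσ : Function.Surjective σ)

/-- the commutator of lifts -/
noncomputable def cm (g h : G) : Γ :=
  Function.surjInv hσ g * Function.surjInv hσ h * (Function.surjInv hσ g)⁻¹ * (Function.surjInv hσ h)⁻¹

theorem cm_eq (hc : σ.ker ≤ Subgroup.center Γ) {x y : Γ} {g h : G} (hx : σ x = g) (hy : σ y = h) :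
    x * y * x⁻¹ * y⁻¹ = cm hσ g h :=
  comm_lift hc (by rw [hx, Function.surjInv_eq hσ]) (by rw [hy, Function.surjInv_eq hσ])

theorem map_cm (g h : G) : σ (cm hσ g h) = g * h * g⁻¹ * h⁻¹ := by
  simp only [cm, map_mul, map_inv, Function.surjInv_eq hσ]

theorem cm_central (hc : σ.ker ≤ Subgroup.center Γ) {g h : G} (hgh : g * h = h * g) (w : Γ) :
    w * cm hσ g h = cm hσ g h * w := by
  refine Subgroup.mem_center_iff.1 (hc ?_) w
  rw [MonoidHom.mem_ker, map_cm, hgh]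
  group

theorem cm_mul_left (hc : σ.ker ≤ Subgroup.center Γ) {g g' h : G} (hz : ∀ w, σ w = g → w * cm hσ g' h = cm hσ g' h * w) :
    cm hσ (g * g') h = cm hσ g' h * cm hσ g h := by
  obtain ⟨x, hx⟩ := hσ g
  obtain ⟨x', hx'⟩ := hσ g'
  obtain ⟨y, hy⟩ := hσ h
  have h1 := hz x hx
  rw [← cm_eq hσ hc hx' hy] at h1
  rw [← cm_eq hσ hc (x := x * x') (y := y) (by rw [map_mul, hx, hx']) hy, ← cm_eq hσ hc hx' hy, ← cm_eq hσ hc hx hy]
  calc x * x' * y * (x * x')⁻¹ * y⁻¹ = (x * (x' * y * x'⁻¹ * y⁻¹)) * (y * x⁻¹ * y⁻¹) := by group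
    _ = ((x' * y * x'⁻¹ * y⁻¹) * x) * (y * x⁻¹ * y⁻¹) := by rw [h1]
    _ = _ := by group

theorem cm_mul_right (hc : σ.ker ≤ Subgroup.center Γ) {g h h' : G} (hz : ∀ w, σ w = h → w * cm hσ g h' = cm hσ g h' * w) :
    cm hσ g (h * h') = cm hσ g h * cm hσ g h' := by
  obtain ⟨x, hx⟩ := hσ g
  obtain ⟨y, hy⟩ := hσ h
  obtain ⟨y', hy'⟩ := hσ h'
  have h1 := hz y hy
  rw [← cm_eq hσ hc hx hy'] at h1
  rw [← cm_eq hσ hc (x := x) (y := y * y') hx (by rw [map_mul, hy, hy']), ← cm_eq hσ hc hx hy', ← cm_eq hσ hc hx hy]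
  calc x * (y * y') * x⁻¹ * (y * y')⁻¹ = (x * y * x⁻¹ * y⁻¹) * ((y * (x * y' * x⁻¹ * y'⁻¹)) * y⁻¹) := by group
    _ = (x * y * x⁻¹ * y⁻¹) * (((x * y' * x⁻¹ * y'⁻¹) * y) * y⁻¹) := by rw [h1]
    _ = _ := by group

theorem cm_conj (hc : σ.ker ≤ Subgroup.center Γ) {g h k : G} {w : Γ} (hw : σ w = k) :
    w * cm hσ g h * w⁻¹ = cm hσ (k * g * k⁻¹) (k * h * k⁻¹) := by
  obtain ⟨x, hx⟩ := hσ g
  obtain ⟨y, hy⟩ := hσ h
  rw [← cm_eq hσ hc hx hy, ← cm_eq hσ hc (x := w * x * w⁻¹) (y := w * y * w⁻¹)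
    (by rw [map_mul, map_mul, map_inv, hw, hx]) (by rw [map_mul, map_mul, map_inv, hw, hy])]
  group

theorem cm_one_left (hc : σ.ker ≤ Subgroup.center Γ) (h : G) : cm hσ 1 h = 1 := by
  obtain ⟨y, hy⟩ := hσ h
  rw [← cm_eq hσ hc (map_one σ) hy]; group

/-- commuting lifts -/
theorem comm_of_cm (hc : σ.ker ≤ Subgroup.center Γ) {g h : G} (h1 : cm hσ g h = 1) {x y : Γ} (hx : σ x = g) (hy : σ y = h) :
    x * y = y * x := by
  rw [← cm_eq hσ hc hx hy] at h1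
  exact mul_inv_eq_iff_eq_mul.1 (by rw [mul_inv_eq_one] at h1; rw [h1]) 

end ext

/-- transfer into a Sylow subgroup -/
theorem eq_one_of_transfer {Γ : Type*} [Group Γ] [Finite Γ] {p : ℕ} [Fact p.Prime] (P : Sylow p Γ) {a : Γ}
    (ha : a ∈ Subgroup.center Γ) (hac : a ∈ commutator Γ) (haP : a ∈ (P : Subgroup Γ))
    (hP : ∀ k : ℕ, a ^ k ∈ ⁅(P : Subgroup Γ), (P : Subgroup Γ)⁆ → a ^ k = 1) : a = 1 := by
  have key : ∀ (k : ℕ) (g₀ : Γ), g₀⁻¹ * a ^ k * g₀ ∈ (P : Subgroup Γ) → g₀⁻¹ * a ^ k * g₀ = a ^ k := by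
    intro k g₀ _
    have h1 := Subgroup.mem_center_iff.mp ((Subgroup.center Γ).pow_mem ha k) g₀
    rw [mul_assoc, ← h1, inv_mul_cancel_left]
  let τ : Γ →* Abelianization (P : Subgroup Γ) := MonoidHom.transfer (Abelianization.of)
  have h1 : τ a = 1 := Abelianization.commutator_subset_ker τ hac
  have h2 : τ a = Abelianization.of ⟨a ^ (P : Subgroup Γ).index, MonoidHom.transfer_eq_pow_aux a key⟩ :=
    MonoidHom.transfer_eq_pow _ a key
  rw [h1] at h2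
  have h3 : (⟨a ^ (P : Subgroup Γ).index, MonoidHom.transfer_eq_pow_aux a key⟩ : (P : Subgroup Γ)) ∈ commutator (P : Subgroup Γ) := by
    rw [← Abelianization.ker_of]
    exact h2.symm
  have h4 : a ^ (P : Subgroup Γ).index ∈ ⁅(P : Subgroup Γ), (P : Subgroup Γ)⁆ := by
    have h5 : (commutator (P : Subgroup Γ)).map (P : Subgroup Γ).subtype = ⁅(P : Subgroup Γ), (P : Subgroup Γ)⁆ := by
      rw [commutator_def, Subgroup.map_commutator, ← MonoidHom.range_eq_map, Subgroup.range_subtype]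
    rw [← h5]
    exact ⟨_, h3, rfl⟩
  have h5 := hP _ h4
  obtain ⟨n, hn⟩ := IsPGroup.iff_orderOf.1 P.2 ⟨a, haP⟩
  have h6 : orderOf a = p ^ n := by rw [← hn, Subgroup.orderOf_mk]
  have h7 : Nat.Coprime (orderOf a) (P : Subgroup Γ).index := by
    rw [h6]
    exact Nat.Coprime.pow_left n ((Nat.Prime.coprime_iff_not_dvd (Fact.out)).2 P.not_dvd_index)
  rw [← orderOf_eq_one_iff]
  exact Nat.eq_one_of_dvd_coprimes h7 dvd_rfl (orderOf_dvd_of_pow_eq_one h5)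

end CfsgLib.SuzM
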