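import Cfsg.Agent.EqBase

set_option autoImplicit false

namespace CfsgLib.SylAlt

open Equiv Equiv.Perm

universe u

variable {α β : Type}

/-- `σ` permutes the blocks `{a} × Bool` as `τ`. -/
def Blk (σ : Perm ((α × Bool) ⊕ β)) (τ : Perm α) : Prop :=
  ∀ (a : α) (b : Bool), ∃ b', σ (Sum.inl (a, b)) = Sum.inl (τ a, b')

theorem blk_one : Blk (1 : Perm ((α × Bool) ⊕ β)) (1 : Perm α) := fun a b => ⟨b, rfl⟩

theorem Blk.mul {σ σ' : Perm ((α × Bool) ⊕ β)} {τ τ' : Perm α} (h : Blk σ τ) (h' : Blk σ' τ') :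
    Blk (σ * σ') (τ * τ') := by
  intro a b
  obtain ⟨b1, h1⟩ := h' a b
  obtain ⟨b2, h2⟩ := h (τ' a) b1
  exact ⟨b2, by rw [Perm.mul_apply, h1, h2, Perm.mul_apply]⟩

theorem Blk.pow {σ : Perm ((α × Bool) ⊕ β)} {τ : Perm α} (h : Blk σ τ) (n : ℕ) : Blk (σ ^ n) (τ ^ n) := by
  induction n with
  | zero => exact blk_one
  | succ n ih => rw [pow_succ, pow_succ]; exact ih.mul h

theorem Blk.unique {σ : Perm ((α × Bool) ⊕ β)} {τ τ' : Perm α} (h : Blk σ τ) (h' : Blk σ τ') : τ = τ' := by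
  ext a
  obtain ⟨b1, h1⟩ := h a true
  obtain ⟨b2, h2⟩ := h' a true
  rw [h1] at h2
  have := Sum.inl_injective h2
  exact (Prod.ext_iff.mp this).1

/-- each block is mapped onto -/
theorem Blk.surj {σ : Perm ((α × Bool) ⊕ β)} {τ : Perm α} (h : Blk σ τ) (a : α) (b : Bool) :
    ∃ b', σ (Sum.inl (a, b')) = Sum.inl (τ a, b) := by
  obtain ⟨b1, h1⟩ := h a true
  obtain ⟨b2, h2⟩ := h a false
  by_cases e1 : b1 = b
  · exact ⟨true, by rw [h1, e1]⟩
  · by_cases e2 : b2 = b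
    · exact ⟨false, by rw [h2, e2]⟩
    · exfalso
      have : b1 = b2 := by
        cases b1 <;> cases b2 <;> cases b <;> simp_all
      rw [← this, ← h1] at h2
      have := σ.injective h2
      simp at this

theorem Blk.inv {σ : Perm ((α × Bool) ⊕ β)} {τ : Perm α} (h : Blk σ τ) : Blk σ⁻¹ τ⁻¹ := by
  intro a b
  obtain ⟨b', h'⟩ := h.surj (τ⁻¹ a) b
  refine ⟨b', ?_⟩
  rw [Perm.inv_eq_iff_eq, h']
  simp

theorem Blk.sq_eq_one [Subsingleton β] {σ : Perm ((α × Bool) ⊕ β)} (h : Blk σ (1 : Perm α)) : σ ^ 2 = 1 := by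
  ext x
  rw [sq, Perm.mul_apply, Perm.one_apply]
  rcases x with ⟨a, b⟩ | c
  · obtain ⟨b1, h1⟩ := h a b
    rw [h1]
    simp only [Perm.one_apply] at h1 ⊢
    by_cases e1 : b1 = b
    · rw [e1] at h1 ⊢; exact h1
    · obtain ⟨b2, h2⟩ := h a b1
      rw [h2, Perm.one_apply]
      by_cases e2 : b2 = b
      · rw [e2]
      · exfalso
        have : b2 = b1 := by
          cases b1 <;> cases b2 <;> cases b <;> simp_all
        rw [this, Perm.one_apply] at h2
        have h3 := Sum.inl_injective (σ.injective (h2.trans h1.symm))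
        exact e1 (Prod.ext_iff.mp h3).2
  · rcases h1 : σ (Sum.inr c) with ⟨a, b⟩ | c'
    · exfalso
      obtain ⟨b', h'⟩ := h.surj a b
      rw [Perm.one_apply, ← h1] at h'
      have := σ.injective h'
      simp at this
    · rw [Subsingleton.elim c' c] at h1 ⊢
      exact h1

/-- the section -/
def sec (τ : Perm α) : Perm ((α × Bool) ⊕ β) := Equiv.sumCongr (Equiv.prodCongr τ (Equiv.refl Bool)) (Equiv.refl β)

theorem blk_sec (τ : Perm α) : Blk (sec τ : Perm ((α × Bool) ⊕ β)) τ := by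
  intro a b
  exact ⟨b, rfl⟩

/-- An abstract criterion for preserving the blocks. -/
theorem blk_of_rel [Finite α] [Subsingleton β] (R : (α × Bool) ⊕ β → (α × Bool) ⊕ β → Prop)
    (hsymm : ∀ x y, R x y → R y x)
    (hR : ∀ a b y, R (Sum.inl (a, b)) y ↔ ∃ b', y = Sum.inl (a, b'))
    (g : Perm ((α × Bool) ⊕ β)) (hg : ∀ x y, R (g x) (g y) ↔ R x y) : ∃ τ : Perm α, Blk g τ := by
  have h0 : ∀ a : α, ∃ a', ∀ b, ∃ b', g (Sum.inl (a, b)) = Sum.inl (a', b') := by
    intro a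
    have h1 : R (g (Sum.inl (a, true))) (g (Sum.inl (a, false))) := by
      rw [hg, hR]; exact ⟨false, rfl⟩
    have hne : g (Sum.inl (a, true)) ≠ g (Sum.inl (a, false)) := by
      intro h; have := g.injective h; simp at this
    rcases e1 : g (Sum.inl (a, true)) with ⟨a1, b1⟩ | c1
    · rw [e1] at h1
      obtain ⟨b2, e2⟩ := (hR _ _ _).mp h1
      refine ⟨a1, fun b => ?_⟩
      cases b
      · exact ⟨b2, e2⟩
      · exact ⟨b1, e1⟩
    · exfalso
      rcases e2 : g (Sum.inl (a, false)) with ⟨a2, b2⟩ | c2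
      · rw [e1, e2] at h1
        obtain ⟨b3, e3⟩ := (hR _ _ _).mp (hsymm _ _ h1)
        simp at e3
      · apply hne
        rw [e1, e2, Subsingleton.elim c1 c2]
  choose f hf using h0
  have hinj : Function.Injective f := by
    intro a1 a2 h
    obtain ⟨b1, h1⟩ := hf a1 true
    obtain ⟨b2, h2⟩ := hf a2 true
    have h3 : R (g (Sum.inl (a1, true))) (g (Sum.inl (a2, true))) := by
      rw [h1, hR]; exact ⟨b2, by rw [h2, h]⟩
    rw [hg, hR] at h3
    obtain ⟨b3, h3⟩ := h3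
    have := Sum.inl_injective h3
    exact ((Prod.ext_iff.mp this).1).symm
  have hbij : Function.Bijective f := Finite.injective_iff_bijective.mp hinj
  refine ⟨Equiv.ofBijective f hbij, fun a b => ?_⟩
  exact hf a b

/-- the block swaps -/
def bs [DecidableEq α] [DecidableEq β] (a : α) : Perm ((α × Bool) ⊕ β) :=
  swap (Sum.inl (a, true)) (Sum.inl (a, false))

/-- The group of elements fixing all blocks. -/
def E (α β : Type) : Subgroup (Perm ((α × Bool) ⊕ β)) where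
  carrier := {σ | Blk σ (1 : Perm α)}
  mul_mem' {a b} ha hb := by
    have := Blk.mul ha hb
    rwa [mul_one] at this
  one_mem' := blk_one
  inv_mem' {a} ha := by
    have := Blk.inv ha
    rwa [inv_one] at this

theorem mem_E {σ : Perm ((α × Bool) ⊕ β)} : σ ∈ E α β ↔ Blk σ 1 := Iff.rfl

theorem isPGroup_E [Subsingleton β] : IsPGroup 2 (E α β) := by
  intro g
  refine ⟨1, Subtype.ext ?_⟩
  have := Blk.sq_eq_one (mem_E.mp g.2)
  simpa using this

theorem bs_mem [DecidableEq α] [DecidableEq β] (a : α) : (bs a : Perm ((α × Bool) ⊕ β)) ∈ E α β := by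
  intro a' b'
  rw [Perm.one_apply, bs]
  by_cases h : a' = a
  · subst h
    cases b'
    · exact ⟨true, by rw [swap_apply_right]⟩
    · exact ⟨false, by rw [swap_apply_left]⟩
  · refine ⟨b', swap_apply_of_ne_of_ne ?_ ?_⟩ <;> simp [h]

theorem swap_mem [DecidableEq α] [DecidableEq β] (a : α) (b b' : Bool) :
    (swap (Sum.inl (a, b)) (Sum.inl (a, b')) : Perm ((α × Bool) ⊕ β)) ∈ E α β := by
  cases b <;> cases b'
  · rw [swap_self]; exact one_mem _
  · rw [swap_comm]; exact bs_mem a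
  · exact bs_mem a
  · rw [swap_self]; exact one_mem _

/-- In a 2-group, two swaps sharing exactly one point cannot coexist. -/
theorem no_three_cycle {Ω : Type} [Fintype Ω] [DecidableEq Ω] (P : Subgroup (Perm Ω)) (hP : IsPGroup 2 P) {x y z : Ω}
    (hxy : x ≠ y) (hxz : x ≠ z) (hyz : y ≠ z) (h1 : swap x y ∈ P) (h2 : swap x z ∈ P) : False := by
  have h3 : IsThreeCycle (swap x y * swap x z) := isThreeCycle_swap_mul_swap_same hxy hxz hyz
  have h4 : orderOf (⟨swap x y * swap x z, mul_mem h1 h2⟩ : P) = 3 := by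
    rw [Subgroup.orderOf_mk]; exact h3.orderOf
  obtain ⟨k, hk⟩ := IsPGroup.iff_orderOf.mp hP ⟨swap x y * swap x z, mul_mem h1 h2⟩
  rw [h4] at hk
  have : 3 ∣ 2 ^ k := by rw [← hk]
  have := Nat.Prime.dvd_of_dvd_pow Nat.prime_three this
  omega

/-- elements normalizing a 2-group containing `E` preserve the blocks. -/
theorem blk_of_normalizes [Fintype α] [DecidableEq α] [Fintype β] [DecidableEq β] [Subsingleton β]
    (P : Subgroup (Perm ((α × Bool) ⊕ β))) (hP : IsPGroup 2 P)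
    (hE : E α β ≤ P) (g : Perm ((α × Bool) ⊕ β)) (hg : ∀ h, g * h * g⁻¹ ∈ P ↔ h ∈ P) : ∃ τ : Perm α, Blk g τ := by
  refine blk_of_rel (fun x y => x = y ∨ swap x y ∈ P) ?_ ?_ g ?_
  · rintro x y (h | h)
    · exact Or.inl h.symm
    · exact Or.inr (by rwa [swap_comm])
  · intro a b y
    constructor
    · rintro (h | h)
      · exact ⟨b, h.symm⟩
      · by_contra hcon
        push Not at hcon
        have h2 : swap (Sum.inl (a, b)) (Sum.inl (a, !b)) ∈ P := hE (swap_mem a b (!b))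
        exact no_three_cycle P hP (fun h => hcon b h.symm) (by simp) (hcon (!b)) h h2
    · rintro ⟨b', rfl⟩
      exact Or.inr (hE (swap_mem a b b'))
  · intro x y
    have h1 : swap (g x) (g y) = g * swap x y * g⁻¹ := by
      rw [← Equiv.swap_apply_apply]
    rw [h1, hg]
    simp

/-- the quotient action group -/
def bar (P : Subgroup (Perm ((α × Bool) ⊕ β))) : Subgroup (Perm α) where
  carrier := {τ | ∃ σ ∈ P, Blk σ τ}
  mul_mem' := by
    rintro a b ⟨σ, hσ, h⟩ ⟨σ', hσ', h'⟩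
    exact ⟨σ * σ', mul_mem hσ hσ', h.mul h'⟩
  one_mem' := ⟨1, one_mem _, blk_one⟩
  inv_mem' := by
    rintro a ⟨σ, hσ, h⟩
    exact ⟨σ⁻¹, inv_mem hσ, h.inv⟩

theorem mem_bar {P : Subgroup (Perm ((α × Bool) ⊕ β))} {τ : Perm α} : τ ∈ bar P ↔ ∃ σ ∈ P, Blk σ τ := Iff.rfl

theorem isPGroup_bar (P : Subgroup (Perm ((α × Bool) ⊕ β))) (hP : IsPGroup 2 P) : IsPGroup 2 (bar P) := by
  rintro ⟨τ, σ, hσ, h⟩
  obtain ⟨k, hk⟩ := hP ⟨σ, hσ⟩
  refine ⟨k, Subtype.ext ?_⟩
  have hk' : σ ^ 2 ^ k = 1 := congrArg Subtype.val hk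
  have h1 := h.pow (2 ^ k)
  rw [hk'] at h1
  exact h1.unique blk_one

/-- the preimage -/
def pre (β : Type) (R : Subgroup (Perm α)) : Subgroup (Perm ((α × Bool) ⊕ β)) where
  carrier := {σ | ∃ τ ∈ R, Blk σ τ}
  mul_mem' := by
    rintro a b ⟨τ, hτ, h⟩ ⟨τ', hτ', h'⟩
    exact ⟨τ * τ', mul_mem hτ hτ', h.mul h'⟩
  one_mem' := ⟨1, one_mem _, blk_one⟩
  inv_mem' := by
    rintro a ⟨τ, hτ, h⟩
    exact ⟨τ⁻¹, inv_mem hτ, h.inv⟩

theorem isPGroup_pre [Subsingleton β] (R : Subgroup (Perm α)) (hR : IsPGroup 2 R) : IsPGroup 2 (pre β R) := by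
  rintro ⟨σ, τ, hτ, h⟩
  obtain ⟨k, hk⟩ := hR ⟨τ, hτ⟩
  refine ⟨k + 1, Subtype.ext ?_⟩
  have hk' : τ ^ 2 ^ k = 1 := congrArg Subtype.val hk
  have h1 := h.pow (2 ^ k)
  rw [hk'] at h1
  have := h1.sq_eq_one
  rw [← pow_mul, ← pow_succ] at this
  exact this

/-- The quotient of a Sylow 2-subgroup containing `E` is Sylow -/
theorem exists_sylow_bar [Fintype α] [DecidableEq α] [Fintype β] [DecidableEq β] [Subsingleton β]
    (P : Sylow 2 (Perm ((α × Bool) ⊕ β))) (hE : E α β ≤ P) : ∃ Q : Sylow 2 (Perm α), (Q : Subgroup (Perm α)) = bar (P : Subgroup (Perm ((α × Bool) ⊕ β))) := by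
  refine ⟨⟨bar (P : Subgroup (Perm ((α × Bool) ⊕ β))), isPGroup_bar _ P.isPGroup', ?_⟩, rfl⟩
  intro R hR hle
  have h1 : (P : Subgroup _) ≤ pre β R := by
    intro σ hσ
    obtain ⟨τ, hτ⟩ := blk_of_normalizes P P.isPGroup' hE σ (fun h => by
      constructor
      · intro h1
        have := mul_mem (mul_mem (inv_mem hσ) h1) hσ
        simpa [mul_assoc] using this
      · intro h1
        exact mul_mem (mul_mem hσ h1) (inv_mem hσ))
    exact ⟨τ, hle ⟨σ, hσ, hτ⟩, hτ⟩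
  have h2 := P.is_maximal' (isPGroup_pre R hR) h1
  apply le_antisymm
  · intro τ hτ
    have h3 : (sec τ : Perm ((α × Bool) ⊕ β)) ∈ pre β R := ⟨τ, hτ, blk_sec τ⟩
    rw [h2] at h3
    exact ⟨sec τ, h3, blk_sec τ⟩
  · exact hle


/-- a set of normalizing elements: odd order elements which are 1 in the quotient are 1 -/
theorem eq_one_of_odd [Subsingleton β] {g : Perm ((α × Bool) ⊕ β)} (hodd : Odd (orderOf g)) (h : Blk g (1 : Perm α)) :
    g = 1 := by
  have h1 := orderOf_dvd_of_pow_eq_one h.sq_eq_one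
  rcases (Nat.dvd_prime Nat.prime_two).mp h1 with h2 | h2
  · exact orderOf_eq_one_iff.mp h2
  · rw [h2] at hodd; exact absurd hodd (by decide)

theorem odd_of_blk [Finite α] [Finite β] {g : Perm ((α × Bool) ⊕ β)} {τ : Perm α} (hodd : Odd (orderOf g))
    (h : Blk g τ) : Odd (orderOf τ) := by
  have h1 : τ ^ orderOf g = 1 := by
    have := h.pow (orderOf g)
    rw [pow_orderOf_eq_one] at this
    exact this.unique blk_one
  exact hodd.of_dvd_nat (orderOf_dvd_of_pow_eq_one h1)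

/-- every Sylow 2-subgroup becomes one containing `E` after a relabelling. -/
theorem exists_relabel {Ω : Type} [Fintype Ω] [DecidableEq Ω] [Fintype α] [DecidableEq α] [Fintype β] [DecidableEq β]
    [Subsingleton β] (e : Ω ≃ (α × Bool) ⊕ β) (P : Sylow 2 (Perm Ω)) :
    ∃ e' : Ω ≃ (α × Bool) ⊕ β, ∃ P0 : Sylow 2 (Perm ((α × Bool) ⊕ β)), E α β ≤ P0 ∧
      ∀ h : Perm Ω, e'.permCongr h ∈ P0 ↔ h ∈ P := by
  obtain ⟨P1, hP1⟩ := (isPGroup_E (α := α) (β := β)).exists_le_sylow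
  let φ : Perm Ω ≃* Perm ((α × Bool) ⊕ β) := Equiv.permCongrHom e
  have hφs : Function.Surjective φ.toMonoidHom := φ.surjective
  let P2 : Sylow 2 (Perm ((α × Bool) ⊕ β)) := P.mapSurjective hφs
  obtain ⟨c, hc⟩ := MulAction.exists_smul_eq (Perm ((α × Bool) ⊕ β)) P2 P1
  refine ⟨e.trans c, P1, hP1, fun h => ?_⟩
  have h1 : (e.trans c).permCongr h = c * φ h * c⁻¹ := by
    ext x
    rfl
  rw [h1, ← hc]
  have h2 : c * φ h * c⁻¹ ∈ c • P2 ↔ φ h ∈ P2 := by
    change c * φ h * c⁻¹ ∈ ((c • P2 : Sylow 2 (Perm ((α × Bool) ⊕ β))) : Subgroup (Perm ((α × Bool) ⊕ β))) ↔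
      φ h ∈ (P2 : Subgroup (Perm ((α × Bool) ⊕ β)))
    rw [Sylow.coe_subgroup_smul]
    have : c * φ h * c⁻¹ = MulAut.conj c • (φ h) := rfl
    rw [this, Subgroup.smul_mem_pointwise_smul_iff]
  rw [h2]
  change φ h ∈ (P2 : Subgroup (Perm ((α × Bool) ⊕ β))) ↔ _
  rw [Sylow.coe_mapSurjective]
  exact Subgroup.mem_map_iff_mem φ.injective

/-- Sylow 2-subgroups of symmetric groups are self-normalizing: odd order normalizing elements are trivial. -/
theorem sym_aux : ∀ (n : ℕ) (Ω : Type) [Fintype Ω] [DecidableEq Ω], Fintype.card Ω = n →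
    ∀ (P : Sylow 2 (Perm Ω)) (g : Perm Ω), Odd (orderOf g) → (∀ h, g * h * g⁻¹ ∈ P ↔ h ∈ P) → g = 1 := by
  intro n
  induction n using Nat.strong_induction_on with
  | _ n ih =>
    intro Ω _ _ hcard P g hodd hg
    by_cases hn : n ≤ 1
    · have : Subsingleton Ω := Fintype.card_le_one_iff_subsingleton.mp (by omega)
      exact Subsingleton.elim _ _
    have hc : Fintype.card ((Fin (n / 2) × Bool) ⊕ Fin (n % 2)) = n := by
      simp only [Fintype.card_sum, Fintype.card_prod, Fintype.card_fin, Fintype.card_bool]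
      omega
    have e : Ω ≃ (Fin (n / 2) × Bool) ⊕ Fin (n % 2) := Fintype.equivOfCardEq (by rw [hcard, hc])
    have hsub : Subsingleton (Fin (n % 2)) := Fintype.card_le_one_iff_subsingleton.mp (by
      rw [Fintype.card_fin]; omega)
    obtain ⟨e', P0, hE, hP0⟩ := exists_relabel e P
    set g0 := e'.permCongr g with hg0
    have hg0n : ∀ h, g0 * h * g0⁻¹ ∈ P0 ↔ h ∈ P0 := by
      intro h
      obtain ⟨h', rfl⟩ := e'.permCongr.surjective h
      have h1 : g0 * e'.permCongr h' * g0⁻¹ = e'.permCongr (g * h' * g⁻¹) := by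
        change e'.permCongrHom g * e'.permCongrHom h' * (e'.permCongrHom g)⁻¹ = e'.permCongrHom (g * h' * g⁻¹)
        rw [map_mul, map_mul, map_inv]
      rw [h1, hP0, hP0, hg]
    have hodd0 : Odd (orderOf g0) := by
      have : orderOf g0 = orderOf g := MulEquiv.orderOf_eq e'.permCongrHom g
      rwa [this]
    obtain ⟨τ, hτ⟩ := blk_of_normalizes P0 P0.isPGroup' hE g0 hg0n
    obtain ⟨Q, hQ⟩ := exists_sylow_bar P0 hE
    have hτ1 : τ = 1 := by
      refine ih (n / 2) (by omega) (Fin (n / 2)) (Fintype.card_fin _) Q τ (odd_of_blk hodd0 hτ) (fun h => ?_)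
      change τ * h * τ⁻¹ ∈ (Q : Subgroup (Perm (Fin (n / 2)))) ↔ h ∈ (Q : Subgroup (Perm (Fin (n / 2))))
      rw [hQ, mem_bar, mem_bar]
      constructor
      · rintro ⟨σ, hσ, hb⟩
        refine ⟨g0⁻¹ * σ * g0, ?_, ?_⟩
        · have := hg0n (g0⁻¹ * σ * g0)
          have h2 : g0 * (g0⁻¹ * σ * g0) * g0⁻¹ = σ := by group
          rw [h2] at this
          exact this.mp hσ
        · have := (hτ.inv.mul hb).mul hτ
          have h3 : τ⁻¹ * (τ * h * τ⁻¹) * τ = h := by group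
          rwa [h3] at this
      · rintro ⟨σ, hσ, hb⟩
        exact ⟨g0 * σ * g0⁻¹, (hg0n σ).mpr hσ, (hτ.mul hb).mul hτ.inv⟩
    rw [hτ1] at hτ
    have hg01 := eq_one_of_odd hodd0 hτ
    exact (map_eq_one_iff e'.permCongrHom e'.permCongrHom.injective).mp hg01

end CfsgLib.SylAlt
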