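import Cfsg.Agent.EqBase
import Cfsg.Agent.LibSylAlt

set_option autoImplicit false

namespace CfsgLib.SylAlt2

open Equiv Equiv.Perm CfsgLib.SylAlt

universe u

variable {α β : Type}

theorem normalizes_self {G : Type*} [Group G] (P : Subgroup G) {σ : G} (hσ : σ ∈ P) (h : G) :
    σ * h * σ⁻¹ ∈ P ↔ h ∈ P := by
  constructor
  · intro h1
    have := mul_mem (mul_mem (inv_mem hσ) h1) hσ
    simpa [mul_assoc] using this
  · intro h1
    exact mul_mem (mul_mem hσ h1) (inv_mem hσ)

theorem sign_bs [Fintype α] [DecidableEq α] [Fintype β] [DecidableEq β] (a : α) :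
    Perm.sign (bs a : Perm ((α × Bool) ⊕ β)) = -1 := by
  rw [bs, Perm.sign_swap]
  simp

theorem bs_apply_ne [DecidableEq α] [DecidableEq β] (a : α) (x : (α × Bool) ⊕ β) (h : ∀ b, x ≠ Sum.inl (a, b)) :
    (bs a : Perm ((α × Bool) ⊕ β)) x = x := swap_apply_of_ne_of_ne (h _) (h _)

theorem bs_apply [DecidableEq α] [DecidableEq β] (a : α) (b : Bool) :
    (bs a : Perm ((α × Bool) ⊕ β)) (Sum.inl (a, b)) = Sum.inl (a, !b) := by
  cases b
  · exact swap_apply_right _ _
  · exact swap_apply_left _ _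

/-- Key fact for the alternating groups. -/
theorem alt_core [Fintype α] [DecidableEq α] [Fintype β] [DecidableEq β] [Subsingleton β] (h3 : 3 ≤ Fintype.card α)
    (P0 : Sylow 2 (Perm ((α × Bool) ⊕ β))) (hE : E α β ≤ P0) (g : Perm ((α × Bool) ⊕ β)) (hodd : Odd (orderOf g))
    (hg : ∀ h : Perm ((α × Bool) ⊕ β), (g * h * g⁻¹ ∈ P0 ∧ Perm.sign (g * h * g⁻¹) = 1) ↔ (h ∈ P0 ∧ Perm.sign h = 1)) :
    g = 1 := by
  have hP0blk : ∀ σ ∈ P0, ∃ τ : Perm α, Blk σ τ := fun σ hσ =>
    blk_of_normalizes P0 P0.isPGroup' hE σ (fun h => normalizes_self (P0 : Subgroup _) hσ h)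
  have hthird : ∀ a a' : α, ∃ a'', a'' ≠ a ∧ a'' ≠ a' := by
    intro a a'
    obtain ⟨a'', h⟩ := Finset.exists_mem_notMem_of_card_lt_card (s := ({a, a'} : Finset α)) (t := Finset.univ) (by
      rw [Finset.card_univ]
      exact lt_of_le_of_lt Finset.card_le_two (by omega))
    simp only [Finset.mem_univ, true_and, Finset.mem_insert, Finset.mem_singleton, not_or] at h
    exact ⟨a'', h⟩
  have hbb : ∀ a a' : α, a ≠ a' → ((bs a * bs a' : Perm ((α × Bool) ⊕ β)) ∈ P0 ∧
      Perm.sign (bs a * bs a' : Perm ((α × Bool) ⊕ β)) = 1) := by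
    intro a a' _
    refine ⟨mul_mem (hE (bs_mem a)) (hE (bs_mem a')), ?_⟩
    rw [Perm.sign_mul, sign_bs, sign_bs]; decide
  have hmk : ∀ b b' : Bool, b ≠ b' → b' = !b := by decide
  -- the blocks are preserved
  obtain ⟨τ, hτ⟩ : ∃ τ : Perm α, Blk g τ := by
    refine blk_of_rel (fun x y => ∀ h : Perm ((α × Bool) ⊕ β), h ∈ P0 → Perm.sign h = 1 → (h x = x ↔ h y = y))
      ?_ ?_ g ?_
    · intro x y hxy h h1 h2
      exact (hxy h h1 h2).symm
    · intro a b y
      constructor
      · intro hR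
        rcases y with ⟨a', b'⟩ | c
        · by_cases haa : a' = a
          · exact ⟨b', by rw [haa]⟩
          · exfalso
            obtain ⟨a'', h1, h2⟩ := hthird a a'
            obtain ⟨h4, h5⟩ := hbb a' a'' (Ne.symm h2)
            have h6 := hR _ h4 h5
            have h7 : (bs a' * bs a'' : Perm ((α × Bool) ⊕ β)) (Sum.inl (a, b)) = Sum.inl (a, b) := by
              rw [Perm.mul_apply, bs_apply_ne a'', bs_apply_ne a']
              · intro b h; exact haa (Prod.ext_iff.mp (Sum.inl_injective h)).1.symm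
              · intro b h; exact h1 (Prod.ext_iff.mp (Sum.inl_injective h)).1.symm
            have h8 := h6.mp h7
            rw [Perm.mul_apply, bs_apply_ne a'' _ (by
              intro b h; exact h2 (Prod.ext_iff.mp (Sum.inl_injective h)).1.symm), bs_apply] at h8
            have := (Prod.ext_iff.mp (Sum.inl_injective h8)).2
            simp at this
        · exfalso
          obtain ⟨a'', h1, _⟩ := hthird a a
          obtain ⟨h4, h5⟩ := hbb a a'' (Ne.symm h1)
          have h6 := hR _ h4 h5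
          have h7 : (bs a * bs a'' : Perm ((α × Bool) ⊕ β)) (Sum.inr c) = Sum.inr c := by
            rw [Perm.mul_apply, bs_apply_ne a'', bs_apply_ne a] <;> simp
          have h8 := h6.mpr h7
          rw [Perm.mul_apply, bs_apply_ne a'' _ (by
            intro b h; exact h1 (Prod.ext_iff.mp (Sum.inl_injective h)).1.symm), bs_apply] at h8
          have := (Prod.ext_iff.mp (Sum.inl_injective h8)).2
          simp at this
      · rintro ⟨b', rfl⟩ h h1 h2
        obtain ⟨τ, hτ⟩ := hP0blk h h1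
        have aux : ∀ b b' : Bool, h (Sum.inl (a, b)) = Sum.inl (a, b) → h (Sum.inl (a, b')) = Sum.inl (a, b') := by
          intro b b' hb
          obtain ⟨b1, e1⟩ := hτ a b
          obtain ⟨b2, e2⟩ := hτ a b'
          have e3 : τ a = a := by
            rw [hb] at e1
            exact (Prod.ext_iff.mp (Sum.inl_injective e1)).1.symm
          rw [e3] at e2
          by_cases hbb' : b = b'
          · rw [← hbb']; exact hb
          · by_cases hb2 : b2 = b
            · rw [hb2, ← hb] at e2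
              have := (Prod.ext_iff.mp (Sum.inl_injective (h.injective e2))).2
              exact absurd this.symm hbb'
            · have h9 : b2 = b' := by
                rw [hmk b b' hbb']; exact hmk b b2 (Ne.symm hb2)
              rw [e2, h9]
        exact ⟨aux b b', aux b' b⟩
    · intro x y
      have h0 : ∀ (h : Perm ((α × Bool) ⊕ β)) (z : (α × Bool) ⊕ β), (g * h * g⁻¹) (g z) = g z ↔ h z = z := by
        intro h z
        simp [Perm.mul_apply]
      constructor
      · intro hR h h1 h2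
        have := (hg h).mpr ⟨h1, h2⟩
        have h3 := hR _ this.1 this.2
        rwa [h0, h0] at h3
      · intro hR h h1 h2
        have h4 : g * (g⁻¹ * h * g) * g⁻¹ = h := by group
        have h5 := (hg (g⁻¹ * h * g)).mp (by rw [h4]; exact ⟨h1, h2⟩)
        have h6 := hR _ h5.1 h5.2
        rw [← h0 (g⁻¹ * h * g) x, ← h0 (g⁻¹ * h * g) y, h4] at h6
        exact h6
  obtain ⟨Q, hQ⟩ := exists_sylow_bar P0 hE
  have hα : Nonempty α := Fintype.card_pos_iff.mp (by omega)
  obtain ⟨a0⟩ := hα
  -- elements of Q lift to even elements of P0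
  have hlift : ∀ h ∈ bar (P0 : Subgroup (Perm ((α × Bool) ⊕ β))), ∃ σ : Perm ((α × Bool) ⊕ β),
      (σ ∈ P0 ∧ Perm.sign σ = 1) ∧ Blk σ h := by
    rintro h ⟨σ, hσ, hb⟩
    rcases Int.units_eq_one_or (Perm.sign σ) with h1 | h1
    · exact ⟨σ, ⟨hσ, h1⟩, hb⟩
    · refine ⟨σ * bs a0, ⟨mul_mem hσ (hE (bs_mem a0)), ?_⟩, ?_⟩
      · rw [Perm.sign_mul, h1, sign_bs]; decide
      · have := hb.mul (mem_E.mp (bs_mem a0))
        rwa [mul_one] at this
  have hτ1 : τ = 1 := by
    refine sym_aux _ α rfl Q τ (odd_of_blk hodd hτ) (fun h => ?_)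
    change τ * h * τ⁻¹ ∈ (Q : Subgroup (Perm α)) ↔ h ∈ (Q : Subgroup (Perm α))
    rw [hQ]
    constructor
    · intro hh
      obtain ⟨σ, hσ, hb⟩ := hlift _ hh
      have h2 : g * (g⁻¹ * σ * g) * g⁻¹ = σ := by group
      have h4 := (hg (g⁻¹ * σ * g)).mp (by rw [h2]; exact hσ)
      refine ⟨g⁻¹ * σ * g, h4.1, ?_⟩
      have := (hτ.inv.mul hb).mul hτ
      have h3 : τ⁻¹ * (τ * h * τ⁻¹) * τ = h := by group
      rwa [h3] at this
    · intro hh
      obtain ⟨σ, hσ, hb⟩ := hlift _ hh
      exact ⟨g * σ * g⁻¹, ((hg σ).mpr hσ).1, (hτ.mul hb).mul hτ.inv⟩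
  rw [hτ1] at hτ
  exact eq_one_of_odd hodd hτ

/-- Sylow 2-subgroups of alternating groups of degree at least 6 are self-normalizing (even in the symmetric group,
modulo 2-elements): odd order normalizing elements are trivial. -/
theorem alt_aux (Ω : Type) [Fintype Ω] [DecidableEq Ω] (h6 : 6 ≤ Fintype.card Ω) (T : Sylow 2 (alternatingGroup Ω))
    (g : Perm Ω) (hodd : Odd (orderOf g))
    (hg : ∀ h : alternatingGroup Ω, (⟨g * h * g⁻¹, by
      rw [Perm.mem_alternatingGroup, Perm.sign_mul, Perm.sign_mul, Perm.sign_inv, mul_right_comm, Int.units_mul_self,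
        one_mul]; exact h.2⟩ : alternatingGroup Ω) ∈ T ↔ h ∈ T) : g = 1 := by
  set T' : Subgroup (Perm Ω) := (T : Subgroup (alternatingGroup Ω)).map (alternatingGroup Ω).subtype with hT'
  have hT'p : IsPGroup 2 T' := T.isPGroup'.map _
  obtain ⟨P, hP⟩ := hT'p.exists_le_sylow
  have hTP : ∀ h : alternatingGroup Ω, h ∈ T ↔ (h : Perm Ω) ∈ P := by
    intro h
    constructor
    · intro hh
      exact hP (Subgroup.mem_map_of_mem _ hh)
    · intro hh
      have h1 : IsPGroup 2 ((P : Subgroup (Perm Ω)).subgroupOf (alternatingGroup Ω)) :=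
        P.isPGroup'.comap_subtype
      have h2 : (T : Subgroup (alternatingGroup Ω)) ≤ (P : Subgroup (Perm Ω)).subgroupOf (alternatingGroup Ω) := by
        intro x hx
        rw [Subgroup.mem_subgroupOf]
        exact hP (Subgroup.mem_map_of_mem _ hx)
      have h3 := T.is_maximal' h1 h2
      change h ∈ (T : Subgroup (alternatingGroup Ω))
      rw [← h3, Subgroup.mem_subgroupOf]
      exact hh
  set n := Fintype.card Ω with hn
  have hc : Fintype.card ((Fin (n / 2) × Bool) ⊕ Fin (n % 2)) = n := by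
    simp only [Fintype.card_sum, Fintype.card_prod, Fintype.card_fin, Fintype.card_bool]
    omega
  have e : Ω ≃ (Fin (n / 2) × Bool) ⊕ Fin (n % 2) := Fintype.equivOfCardEq (by rw [hc])
  have hsub : Subsingleton (Fin (n % 2)) := Fintype.card_le_one_iff_subsingleton.mp (by
    rw [Fintype.card_fin]; omega)
  obtain ⟨e', P0, hE, hP0⟩ := exists_relabel e P
  set g0 := e'.permCongr g with hg0
  have hodd0 : Odd (orderOf g0) := by
    have : orderOf g0 = orderOf g := MulEquiv.orderOf_eq e'.permCongrHom g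
    rwa [this]
  have hg01 : g0 = 1 := by
    refine alt_core (by rw [Fintype.card_fin]; omega) P0 hE g0 hodd0 (fun h => ?_)
    obtain ⟨h', rfl⟩ := e'.permCongr.surjective h
    have h1 : g0 * e'.permCongr h' * g0⁻¹ = e'.permCongr (g * h' * g⁻¹) := by
      change e'.permCongrHom g * e'.permCongrHom h' * (e'.permCongrHom g)⁻¹ = e'.permCongrHom (g * h' * g⁻¹)
      rw [map_mul, map_mul, map_inv]
    rw [h1, hP0, hP0, Perm.sign_permCongr, Perm.sign_permCongr]
    constructor
    · rintro ⟨h2, h3⟩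
      have h4 : Perm.sign h' = 1 := by
        rwa [Perm.sign_mul, Perm.sign_mul, Perm.sign_inv, mul_right_comm, Int.units_mul_self, one_mul] at h3
      refine ⟨?_, h4⟩
      have := (hg ⟨h', h4⟩).mp ((hTP _).mpr h2)
      exact (hTP _).mp this
    · rintro ⟨h2, h3⟩
      refine ⟨?_, ?_⟩
      · have := (hg ⟨h', h3⟩).mpr ((hTP _).mpr h2)
        exact (hTP _).mp this
      · rw [Perm.sign_mul, Perm.sign_mul, Perm.sign_inv, mul_right_comm, Int.units_mul_self, one_mul]; exact h3
  exact (map_eq_one_iff e'.permCongrHom e'.permCongrHom.injective).mp hg01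

/-- A group in which no nontrivial element of odd order normalizes `T` has `N(T) = T`. -/
theorem normalizer_eq {G : Type*} [Group G] [Finite G] (T : Sylow 2 G)
    (h : ∀ g : G, Odd (orderOf g) → g ∈ Subgroup.normalizer ((T : Subgroup G) : Set G) → g = 1) :
    Subgroup.normalizer ((T : Subgroup G) : Set G) = T := by
  apply T.is_maximal'
  · intro x
    -- decompose the order
    obtain ⟨k, m, hm, hk⟩ := Nat.exists_eq_two_pow_mul_odd (n := orderOf x) (orderOf_pos x).ne'
    refine ⟨k, ?_⟩
    apply Subtype.ext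
    have h1 : orderOf ((x : G) ^ 2 ^ k) = m := by
      rw [orderOf_pow' _ (by positivity), Subgroup.orderOf_coe, hk, Nat.gcd_eq_right (Dvd.intro _ rfl)]
      rw [Nat.mul_div_cancel_left _ (by positivity)]
    have h2 := h ((x : G) ^ 2 ^ k) (by rw [h1]; exact hm) (pow_mem x.2 _)
    rw [Subgroup.coe_pow, h2, Subgroup.coe_one]
  · exact Subgroup.le_normalizer

theorem alt_normalizer (Ω : Type) [Fintype Ω] [DecidableEq Ω] (h6 : 6 ≤ Fintype.card Ω) (T : Sylow 2 (alternatingGroup Ω)) :
    Subgroup.normalizer ((T : Subgroup (alternatingGroup Ω)) : Set (alternatingGroup Ω)) = T := by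
  apply normalizer_eq
  intro g hodd hg
  apply Subtype.ext
  apply alt_aux Ω h6 T
  · rwa [Subgroup.orderOf_coe]
  · intro h
    exact (Subgroup.mem_normalizer_iff.mp hg h).symm

theorem sym_normalizer (Ω : Type) [Fintype Ω] [DecidableEq Ω] (T : Sylow 2 (Perm Ω)) :
    Subgroup.normalizer ((T : Subgroup (Perm Ω)) : Set (Perm Ω)) = T := by
  apply normalizer_eq
  intro g hodd hg
  exact sym_aux _ Ω rfl T g hodd (fun h => (Subgroup.mem_normalizer_iff.mp hg h).symm)

end CfsgLib.SylAlt2
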