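import Mathlib
import Cfsg.Agent.LibLE11Syl
import Cfsg.Prelude.Def_SylowChains

/-!
# Control of Sylow intersections (helper12)
-/

set_option autoImplicit false
set_option linter.style.haveILetI false
set_option linter.unusedSectionVars false

namespace CfsgLib.SylChH12

open Cfsg Subgroup CfsgLib.LE11Syl
open scoped Pointwise

/-- chains as reflexive transitive closure -/
theorem chain_iff {α : Type*} {r : α → α → Prop} {a b : α} :
    Relation.ReflTransGen r a b ↔ ∃ (n : ℕ) (c : Fin (n + 1) → α), c 0 = a ∧ c (Fin.last n) = b ∧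
      ∀ i : Fin n, r (c i.castSucc) (c i.succ) := by
  constructor
  · intro h
    induction h with
    | refl => exact ⟨0, fun _ => a, rfl, rfl, fun i => i.elim0⟩
    | @tail b d _ hbd ih =>
      obtain ⟨n, c, h0, hl, hc⟩ := ih
      refine ⟨n + 1, Fin.snoc (α := fun _ => α) c d, ?_, ?_, ?_⟩
      · rw [← Fin.castSucc_zero, Fin.snoc_castSucc]; exact h0
      · rw [Fin.snoc_last]
      · intro i
        refine Fin.lastCases ?_ (fun j => ?_) i
        · rw [Fin.succ_last, Fin.snoc_last, Fin.snoc_castSucc, hl]; exact hbd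
        · rw [Fin.snoc_castSucc, Fin.succ_castSucc, Fin.snoc_castSucc]; exact hc j
  · rintro ⟨n, c, rfl, rfl, hc⟩
    have : ∀ i : Fin (n + 1), Relation.ReflTransGen r (c 0) (c i) := by
      intro i
      induction i using Fin.induction with
      | zero => exact .refl
      | succ i ih => exact ih.tail (hc i)
    exact this _

variable {G : Type*} [Group G] {p : ℕ}

theorem scr (g : G) (X : Subgroup G) : subgroupConjRight g X = MulAut.conj g⁻¹ • X := rfl

theorem mem_conjRight {g x : G} {A : Set G} : x ∈ conjRight g A ↔ g * x * g⁻¹ ∈ A := by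
  unfold conjRight
  constructor
  · rintro ⟨a, ha, rfl⟩
    have : g * (g⁻¹ * a * g) * g⁻¹ = a := by group
    rwa [this]
  · intro h
    exact ⟨_, h, by group⟩

theorem syl_smul (g : G) (S : Sylow p G) : ((g • S : Sylow p G) : Subgroup G) = MulAut.conj g • (S : Subgroup G) := rfl

theorem conj_smul_of_mem {X : Subgroup G} {x : G} (hx : x ∈ X) : MulAut.conj x • X = X := by
  ext y
  rw [Subgroup.mem_pointwise_smul_iff_inv_smul_mem, ← map_inv, MulAut.smul_def, MulAut.conj_apply, inv_inv]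
  constructor
  · intro h
    have h1 := mul_mem (mul_mem hx h) (inv_mem hx)
    have : x * (x⁻¹ * y * x) * x⁻¹ = y := by group
    rwa [this] at h1
  · intro h
    exact mul_mem (mul_mem (inv_mem hx) h) hx

variable [Finite G] [hp : Fact p.Prime]

theorem mem_sylowMembers {𝓕 : Set (Subgroup G)} {S X : Subgroup G} : X ∈ sylowMembers p 𝓕 S ↔ X ∈ 𝓕 ∧ IsSyl p (S ⊓ X) X := by
  constructor
  · rintro ⟨h, P, hP⟩
    refine ⟨h, ?_⟩
    rw [← hP]
    exact isSyl_map P
  · rintro ⟨h, h2⟩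
    exact ⟨h, h2.exists_sylow⟩

theorem members_conj {𝓕 : Set (Subgroup G)} (h𝓕 : IsNormalSet 𝓕) {S X : Subgroup G} (h : X ∈ sylowMembers p 𝓕 S) (g : G) :
    MulAut.conj g • X ∈ sylowMembers p 𝓕 (MulAut.conj g • S) := by
  rw [mem_sylowMembers] at h ⊢
  refine ⟨?_, ?_⟩
  · have := h𝓕 X h.1 g⁻¹
    rwa [scr, inv_inv] at this
  · rw [← Subgroup.smul_inf]
    exact h.2.conj g

/-- one link -/
def Lk (p : ℕ) (𝓕 : Set (Subgroup G)) (D : Subgroup G) (P Q : Sylow p G) : Prop :=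
  ∃ X x, X ∈ sylowMembers p 𝓕 (P : Subgroup G) ∧ X ∈ sylowMembers p 𝓕 (Q : Subgroup G) ∧ x ∈ X ∧
    subgroupConjRight x (Q : Subgroup G) = P ∧ D ≤ (Q : Subgroup G) ⊓ X

theorem Lk.mono {𝓕 : Set (Subgroup G)} {D E : Subgroup G} (hDE : D ≤ E) {P Q : Sylow p G} (h : Lk p 𝓕 E P Q) : Lk p 𝓕 D P Q := by
  obtain ⟨X, x, h1, h2, h3, h4, h5⟩ := h
  exact ⟨X, x, h1, h2, h3, h4, hDE.trans h5⟩

theorem Lk.symm {𝓕 : Set (Subgroup G)} {D : Subgroup G} {P Q : Sylow p G} (hP : D ≤ P) (h : Lk p 𝓕 D P Q) : Lk p 𝓕 D Q P := by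
  obtain ⟨X, x, h1, h2, h3, h4, h5⟩ := h
  refine ⟨X, x⁻¹, h2, h1, inv_mem h3, ?_, le_inf hP (h5.trans inf_le_right)⟩
  rw [← h4, scr, scr, ← mul_smul, inv_inv, ← map_mul, mul_inv_cancel, map_one, one_smul]

theorem rel_symm {𝓕 : Set (Subgroup G)} {D : Subgroup G} {P Q : Sylow p G} (hP : D ≤ P)
    (h : Relation.ReflTransGen (Lk p 𝓕 D) P Q) : D ≤ Q ∧ Relation.ReflTransGen (Lk p 𝓕 D) Q P := by
  induction h with
  | refl => exact ⟨hP, .refl⟩
  | @tail U V _ hUV ih =>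
    refine ⟨?_, Relation.ReflTransGen.head (hUV.symm ih.1) ih.2⟩
    obtain ⟨X, x, h1, h2, h3, h4, h5⟩ := hUV
    exact h5.trans inf_le_left

theorem Lk.conj {𝓕 : Set (Subgroup G)} (h𝓕 : IsNormalSet 𝓕) {D : Subgroup G} {P Q : Sylow p G} (h : Lk p 𝓕 D P Q) (g : G) :
    Lk p 𝓕 (MulAut.conj g • D) (g • P) (g • Q) := by
  obtain ⟨X, x, h1, h2, h3, h4, h5⟩ := h
  refine ⟨MulAut.conj g • X, g * x * g⁻¹, members_conj h𝓕 h1 g, members_conj h𝓕 h2 g, ?_, ?_, ?_⟩
  · exact Subgroup.smul_mem_pointwise_smul x (MulAut.conj g) X h3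
  · rw [syl_smul, syl_smul, ← h4, scr, scr, ← mul_smul, ← mul_smul, ← map_mul, ← map_mul]
    congr 2
    group
  · rw [syl_smul, ← Subgroup.smul_inf]
    exact Subgroup.pointwise_smul_le_pointwise_smul_iff.2 h5

theorem rel_conj {𝓕 : Set (Subgroup G)} (h𝓕 : IsNormalSet 𝓕) {D : Subgroup G} {P Q : Sylow p G}
    (h : Relation.ReflTransGen (Lk p 𝓕 D) P Q) (g : G) :
    Relation.ReflTransGen (Lk p 𝓕 (MulAut.conj g • D)) (g • P) (g • Q) := by
  induction h with
  | refl => exact .refl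
  | tail _ hUV ih => exact ih.tail (hUV.conj h𝓕 g)

theorem rel_mono {𝓕 : Set (Subgroup G)} {D E : Subgroup G} (hDE : D ≤ E) {P Q : Sylow p G}
    (h : Relation.ReflTransGen (Lk p 𝓕 E) P Q) : Relation.ReflTransGen (Lk p 𝓕 D) P Q :=
  Relation.ReflTransGen.mono (r := Lk p 𝓕 E) (p := Lk p 𝓕 D) (fun _ _ h => Lk.mono hDE h) _ _ h

theorem csi_iff {𝓕 : Set (Subgroup G)} : ControlsSylowIntersections p 𝓕 ↔
    ∀ S T : Sylow p G, S ≠ T → (S : Subgroup G) ⊓ (T : Subgroup G) ≠ ⊥ →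
      Relation.ReflTransGen (Lk p 𝓕 ((S : Subgroup G) ⊓ (T : Subgroup G))) S T := by
  unfold ControlsSylowIntersections
  constructor
  · intro h S T hne hb
    obtain ⟨n, c, X, x, h0, hl, hc⟩ := h S T hne hb
    rw [chain_iff]
    exact ⟨n, c, h0, hl, fun i => ⟨X i, x i, hc i⟩⟩
  · intro h S T hne hb
    obtain ⟨n, c, h0, hl, hc⟩ := chain_iff.1 (h S T hne hb)
    choose X x hX using hc
    exact ⟨n, c, X, x, h0, hl, hX⟩

/-- steps in the factorisation -/
def St (p : ℕ) (𝓕 : Set (Subgroup G)) (S : Sylow p G) (A : Set G) (w w' : G) : Prop :=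
  ∃ Y ∈ sylowMembers p 𝓕 (S : Subgroup G), ∃ y ∈ Y, w' = w * y ∧ conjRight w' A ⊆ (S : Set G) ∩ (Y : Set G)

theorem st_list {𝓕 : Set (Subgroup G)} {S : Sylow p G} {A : Set G} {w : G} :
    Relation.ReflTransGen (St p 𝓕 S A) 1 w ↔ ∃ (n : ℕ) (Y : Fin n → Subgroup G) (y : Fin n → G),
      (∀ i : Fin n, Y i ∈ sylowMembers p 𝓕 (S : Subgroup G) ∧ y i ∈ Y i) ∧ w = (List.ofFn y).prod ∧
      ∀ i : Fin n, conjRight (((List.ofFn y).take (i.val + 1)).prod) A ⊆ (S : Set G) ∩ (Y i : Set G) := by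
  constructor
  · intro h
    induction h with
    | refl => exact ⟨0, Fin.elim0, Fin.elim0, fun i => i.elim0, by simp, fun i => i.elim0⟩
    | @tail w w' _ hw ih =>
      obtain ⟨n, Y, y, h1, h2, h3⟩ := ih
      obtain ⟨Z, hZ, z, hz, hw', hA⟩ := hw
      have hof : List.ofFn (Fin.snoc (α := fun _ => G) y z) = List.ofFn y ++ [z] := by
        rw [List.ofFn_succ', List.concat_eq_append]
        simp
      refine ⟨n + 1, Fin.snoc (α := fun _ => Subgroup G) Y Z, Fin.snoc (α := fun _ => G) y z, ?_, ?_, ?_⟩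
      · intro i
        refine Fin.lastCases ?_ (fun j => ?_) i
        · rw [Fin.snoc_last, Fin.snoc_last]; exact ⟨hZ, hz⟩
        · rw [Fin.snoc_castSucc, Fin.snoc_castSucc]; exact h1 j
      · rw [hof, List.prod_append, List.prod_singleton, ← h2]; exact hw'
      · intro i
        refine Fin.lastCases ?_ (fun j => ?_) i
        · rw [Fin.snoc_last, hof, Fin.val_last, List.take_of_length_le (by simp), List.prod_append, List.prod_singleton, ← h2, ← hw']
          exact hA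
        · rw [Fin.snoc_castSucc, hof, Fin.val_castSucc, List.take_append_of_le_length (by simp)]
          exact h3 j
  · rintro ⟨n, Y, y, h1, h2, h3⟩
    have key : ∀ k ≤ n, Relation.ReflTransGen (St p 𝓕 S A) 1 ((List.ofFn y).take k).prod := by
      intro k
      induction k with
      | zero => intro _; simp only [List.take_zero, List.prod_nil]; exact .refl
      | succ k ih =>
        intro hk
        refine (ih (by omega)).tail ⟨Y ⟨k, hk⟩, (h1 ⟨k, hk⟩).1, y ⟨k, hk⟩, (h1 ⟨k, hk⟩).2, ?_, h3 ⟨k, hk⟩⟩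
        rw [List.prod_take_succ _ _ (by simpa using hk)]
        simp
    have h4 := key n le_rfl
    rwa [List.take_of_length_le (by simp), ← h2] at h4

theorem fscf_iff {𝓕 : Set (Subgroup G)} : FamilyStronglyControlsFusion p 𝓕 ↔
    ∀ (S : Sylow p G) (A : Set G) (g : G), A ⊆ (S : Set G) → (∃ a ∈ A, a ≠ 1) → conjRight g A ⊆ (S : Set G) →
    ∃ w y₀, y₀ ∈ normalizer ((S : Subgroup G) : Set G) ∧ g = w * y₀ ∧ Relation.ReflTransGen (St p 𝓕 S A) 1 w := by
  unfold FamilyStronglyControlsFusion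
  constructor
  · intro h S A g h1 h2 h3
    obtain ⟨n, Y, y, y₀, hy₀, hY, hg, hA⟩ := h S A g h1 h2 h3
    exact ⟨_, y₀, hy₀, hg, st_list.2 ⟨n, Y, y, hY, rfl, hA⟩⟩
  · intro h S A g h1 h2 h3
    obtain ⟨w, y₀, hy₀, hg, hr⟩ := h S A g h1 h2 h3
    obtain ⟨n, Y, y, hY, hw, hA⟩ := st_list.1 hr
    exact ⟨n, Y, y, y₀, hy₀, hY, by rw [← hw]; exact hg, hA⟩

theorem mem_smul' {g x : G} {R : Subgroup G} : x ∈ MulAut.conj g • R ↔ g⁻¹ * x * g ∈ R := mem_conj_smul

theorem fwd {𝓕 : Set (Subgroup G)} (h𝓕 : IsNormalSet 𝓕) {S : Sylow p G} {A : Set G} {D : Subgroup G} (hA : A ⊆ D) {U : Sylow p G}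
    (h : Relation.ReflTransGen (Lk p 𝓕 D) S U) : ∃ w, U = w • S ∧ Relation.ReflTransGen (St p 𝓕 S A) 1 w := by
  induction h with
  | refl => exact ⟨1, (one_smul _ _).symm, .refl⟩
  | @tail U V _ hUV ih =>
    obtain ⟨w, hw, hr⟩ := ih
    obtain ⟨X, x, h1, h2, h3, h4, h5⟩ := hUV
    have hV : (V : Subgroup G) = MulAut.conj (x * w) • (S : Subgroup G) := by
      rw [hw, scr, syl_smul] at h4
      rw [map_mul, mul_smul, ← h4, ← mul_smul, ← map_mul, mul_inv_cancel, map_one, one_smul]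
    refine ⟨x * w, Sylow.ext hV, hr.tail ⟨MulAut.conj w⁻¹ • X, ?_, w⁻¹ * x * w, ?_, by group, ?_⟩⟩
    · have h6 := members_conj h𝓕 h1 w⁻¹
      rwa [hw, syl_smul, ← mul_smul, ← map_mul, inv_mul_cancel, map_one, one_smul] at h6
    · rw [mem_smul', inv_inv]
      have : w * (w⁻¹ * x * w) * w⁻¹ = x := by group
      rwa [this]
    · intro y hy
      rw [mem_conjRight] at hy
      have h6 := h5 (hA hy)
      obtain ⟨h7, h8⟩ := Subgroup.mem_inf.1 h6
      rw [hV, mem_smul'] at h7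
      refine ⟨?_, ?_⟩
      · have : (x * w)⁻¹ * (x * w * y * (x * w)⁻¹) * (x * w) = y := by group
        rwa [this] at h7
      · change y ∈ MulAut.conj w⁻¹ • X
        rw [mem_smul', inv_inv]
        have h9 := mul_mem (mul_mem (inv_mem h3) h8) h3
        have : x⁻¹ * (x * w * y * (x * w)⁻¹) * x = w * y * w⁻¹ := by group
        rwa [this] at h9

theorem bwd {𝓕 : Set (Subgroup G)} (h𝓕 : IsNormalSet 𝓕) {S : Sylow p G} {D : Subgroup G} {w : G}
    (h : Relation.ReflTransGen (St p 𝓕 S (D : Set G)) 1 w) : Relation.ReflTransGen (Lk p 𝓕 D) S (w • S) := by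
  induction h with
  | refl => rw [one_smul]
  | @tail w w' _ hw ih =>
    refine ih.tail ?_
    obtain ⟨Y, hY, y, hy, rfl, hA⟩ := hw
    refine ⟨MulAut.conj w • Y, w * y * w⁻¹, members_conj h𝓕 hY w, ?_, ?_, ?_, ?_⟩
    · have h1 := members_conj h𝓕 hY (w * y)
      have e : MulAut.conj (w * y) • Y = MulAut.conj w • Y := by rw [map_mul, mul_smul, conj_smul_of_mem hy]
      rw [e] at h1
      exact h1
    · rw [mem_smul']
      have : w⁻¹ * (w * y * w⁻¹) * w = y := by group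
      rwa [this]
    · rw [scr, syl_smul, syl_smul, ← mul_smul, ← map_mul]
      congr 2
      group
    · intro d hd
      have h1 : (w * y)⁻¹ * d * (w * y) ∈ conjRight (w * y) (D : Set G) := ⟨d, hd, rfl⟩
      obtain ⟨h2, h3⟩ := hA h1
      refine Subgroup.mem_inf.2 ⟨?_, ?_⟩
      · rw [syl_smul, mem_smul']; exact h2
      · rw [mem_smul']
        have h4 := mul_mem (mul_mem hy h3) (inv_mem hy)
        have : y * ((w * y)⁻¹ * d * (w * y)) * y⁻¹ = w⁻¹ * d * w := by group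
        rwa [this] at h4

theorem s2939 {𝓕 : Set (Subgroup G)} (h𝓕 : IsNormalSet 𝓕) :
    ControlsSylowIntersections p 𝓕 ↔ FamilyStronglyControlsFusion p 𝓕 := by
  rw [csi_iff, fscf_iff]
  constructor
  · intro h S A g hA hA1 hgA
    have hAD : A ⊆ ((S : Subgroup G) ⊓ ((g • S : Sylow p G) : Subgroup G) : Subgroup G) := by
      intro a ha
      refine Subgroup.mem_inf.2 ⟨hA ha, ?_⟩
      rw [syl_smul, mem_smul']
      exact hgA ⟨a, ha, rfl⟩
    have hr : Relation.ReflTransGen (Lk p 𝓕 ((S : Subgroup G) ⊓ ((g • S : Sylow p G) : Subgroup G))) S (g • S) := by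
      by_cases hne : S = g • S
      · rw [← hne]
      · refine h S _ hne ?_
        obtain ⟨a, ha, ha1⟩ := hA1
        intro hb
        have h1 := hAD ha
        rw [hb] at h1
        exact ha1 (Subgroup.mem_bot.1 h1)
    obtain ⟨w, hw, hr'⟩ := fwd h𝓕 hAD hr
    refine ⟨w, w⁻¹ * g, ?_, by group, hr'⟩
    refine Sylow.smul_eq_iff_mem_normalizer.1 ?_
    rw [mul_smul, hw, inv_smul_smul]
  · intro h S T hne hb
    obtain ⟨g, rfl⟩ := MulAction.exists_smul_eq G S T
    obtain ⟨w, y₀, hy₀, hg, hr⟩ := h S (((S : Subgroup G) ⊓ ((g • S : Sylow p G) : Subgroup G) : Subgroup G) : Set G) g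
      (fun x hx => (Subgroup.mem_inf.1 hx).1) (by
        by_contra hcon
        push Not at hcon
        exact hb (eq_bot_iff.2 fun x hx => Subgroup.mem_bot.2 (hcon x hx))) (by
        rintro _ ⟨x, hx, rfl⟩
        have h2 := (Subgroup.mem_inf.1 hx).2
        rwa [syl_smul, mem_smul'] at h2)
    have h3 := bwd h𝓕 hr
    have h4 : g • S = w • S := by
      rw [hg, mul_smul, Sylow.smul_eq_iff_mem_normalizer.2 hy₀]
    rwa [← h4] at h3

end CfsgLib.SylChH12
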