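import Mathlib
import Cfsg.Agent.LibSylChH12

/-!
# Control of Sylow intersections: functor families (helper12)
-/

set_option autoImplicit false
set_option linter.style.haveILetI false
set_option linter.unusedSectionVars false

namespace CfsgLib.SylChH12

open Cfsg Subgroup CfsgLib.LE11Syl
open scoped Pointwise

variable {G : Type*} [Group G] {p : ℕ} [Finite G] [hp : Fact p.Prime]

theorem s2955 {𝓕 : Set (Subgroup G)} (h𝓕 : IsNormalSet 𝓕) (hc : ControlsSylowIntersections p 𝓕)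
    (hconn : IsSylowChainConnected p G) (S : Sylow p G) :
    (⨆ X ∈ sylowMembers p 𝓕 (S : Subgroup G), X) ⊔ normalizer ((S : Subgroup G) : Set G) = ⊤ := by
  rw [csi_iff] at hc
  set H := (⨆ X ∈ sylowMembers p 𝓕 (S : Subgroup G), X) ⊔ normalizer ((S : Subgroup G) : Set G) with hH
  have hst : ∀ w, Relation.ReflTransGen (St p 𝓕 S ∅) 1 w → w ∈ H := by
    intro w hw
    induction hw with
    | refl => exact one_mem _
    | tail _ h ih =>
      obtain ⟨Y, hY, y, hy, rfl, _⟩ := h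
      refine mul_mem ih (mem_sup_left ?_)
      exact (le_iSup₂_of_le Y hY le_rfl : Y ≤ _) hy
  have key : ∀ (D : Subgroup G) (P Q : Sylow p G), Relation.ReflTransGen (Lk p 𝓕 D) P Q → ∀ h ∈ H, P = h • S →
      ∃ k ∈ H, Q = k • S := by
    intro D P Q hPQ h hh hP
    have h1 := rel_conj h𝓕 hPQ h⁻¹
    rw [hP, inv_smul_smul] at h1
    obtain ⟨w, hw, hr⟩ := fwd h𝓕 (Set.empty_subset _) h1
    refine ⟨h * w, mul_mem hh (hst w hr), ?_⟩
    rw [mul_smul, ← hw, smul_inv_smul]
  rw [eq_top_iff]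
  intro g _
  obtain ⟨n, c, h0, hl, _, hcc⟩ := hconn S (g • S)
  have h2 : ∀ i : Fin (n + 1), ∃ k ∈ H, c i = k • S := by
    intro i
    induction i using Fin.induction with
    | zero => exact ⟨1, one_mem _, by rw [one_smul]; exact h0⟩
    | succ i ih =>
      obtain ⟨k, hk, hki⟩ := ih
      exact key _ _ _ (hc _ _ (hcc i).1 (hcc i).2) k hk hki
  obtain ⟨k, hk, hk'⟩ := h2 (Fin.last n)
  rw [hl] at hk'
  have h3 : k⁻¹ * g ∈ normalizer ((S : Subgroup G) : Set G) := by
    refine Sylow.smul_eq_iff_mem_normalizer.1 ?_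
    rw [mul_smul, hk', inv_smul_smul]
  have h4 : g = k * (k⁻¹ * g) := by group
  rw [h4]
  exact mul_mem hk (mem_sup_right h3)

/-! ### functor families -/

theorem conj_normalizer (g : G) (F : Subgroup G) :
    MulAut.conj g • normalizer (F : Set G) = normalizer ((MulAut.conj g • F : Subgroup G) : Set G) := by
  ext x
  rw [mem_smul', ← conj_smul_eq_iff, ← conj_smul_eq_iff, map_mul, map_mul, mul_smul, mul_smul, map_inv, inv_smul_eq_iff]

theorem mem_ff {f : Subgroup G → Set (Subgroup G)} {M X : Subgroup G} :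
    X ∈ functorFamily p f M ↔ ∃ P, IsSyl p P M ∧ ∃ F ∈ f P, X = M ⊓ normalizer (F : Set G) := by
  constructor
  · rintro ⟨P, F, hF, hX⟩
    exact ⟨_, isSyl_map P, F, hF, hX⟩
  · rintro ⟨P, hP, F, hF, hX⟩
    obtain ⟨P', rfl⟩ := hP.exists_sylow
    exact ⟨P', F, hF, hX⟩

theorem f_conj {f : Subgroup G → Set (Subgroup G)} (hf : IsNormalizerFunctor p f) {P F : Subgroup G} (hP : IsPGroup p P)
    (hF : F ∈ f P) (g : G) : MulAut.conj g • F ∈ f (MulAut.conj g • P) := by
  have h1 := (hf P hP).2 g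
  change f (MulAut.conj g • P) = _ at h1
  rw [h1]
  exact ⟨F, hF, rfl⟩

theorem ff_normal {f : Subgroup G → Set (Subgroup G)} (hf : IsNormalizerFunctor p f) : IsNormalSet (functorFamily p f ⊤) := by
  intro X hX g
  rw [mem_ff] at hX ⊢
  obtain ⟨P, hP, F, hF, rfl⟩ := hX
  refine ⟨MulAut.conj g⁻¹ • P, ?_, MulAut.conj g⁻¹ • F, f_conj hf hP.2.1 hF _, ?_⟩
  · have := hP.conj g⁻¹
    rwa [conj_smul_of_mem (mem_top _)] at this
  · rw [scr, Subgroup.smul_inf, conj_normalizer, conj_smul_of_mem (mem_top _)]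

theorem le_X {f : Subgroup G → Set (Subgroup G)} (hf : IsNormalizerFunctor p f) {M P F : Subgroup G}
    (hP : IsSyl p P M) (hF : F ∈ f P) : P ≤ M ⊓ normalizer (F : Set G) :=
  le_inf hP.1 (Subgroup.le_normalizer.trans ((hf P hP.2.1).1 F hF).2)

theorem member_le {f : Subgroup G → Set (Subgroup G)} (hf : IsNormalizerFunctor p f) {M X S : Subgroup G}
    (hX : X ∈ functorFamily p f M) (hS : IsSyl p S M) (h : IsSyl p (S ⊓ X) X) : S ≤ X := by
  obtain ⟨P, hP, F, hF, rfl⟩ := mem_ff.1 hX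
  have h1 := le_X hf hP hF
  have h2 : IsSyl p P (M ⊓ normalizer (F : Set G)) := hP.mono h1 inf_le_left
  have h3 := h.card_eq h2
  rw [hP.card_eq hS] at h3
  have h4 := Subgroup.eq_of_le_of_card_ge (inf_le_left : S ⊓ (M ⊓ normalizer (F : Set G)) ≤ S) h3.ge
  rw [← h4]; exact inf_le_right

/-- a link inside `M` -/
def LkM (p : ℕ) (f : Subgroup G → Set (Subgroup G)) (M D P Q : Subgroup G) : Prop :=
  ∃ X ∈ functorFamily p f M, ∃ x ∈ X, IsSyl p P M ∧ IsSyl p Q M ∧ P ≤ X ∧ Q ≤ X ∧ MulAut.conj x⁻¹ • Q = P ∧ D ≤ Q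

theorem ff_le {f : Subgroup G → Set (Subgroup G)} {M X : Subgroup G} (hX : X ∈ functorFamily p f M) : X ≤ M := by
  obtain ⟨P, hP, F, hF, rfl⟩ := mem_ff.1 hX
  exact inf_le_left

theorem isSyl_map_subtype {M : Subgroup G} {P X : Subgroup M} (h : IsSyl p P X) :
    IsSyl p (P.map M.subtype) (X.map M.subtype) := by
  refine isSyl_of_card (Subgroup.map_mono h.1) ?_
  rw [Subgroup.card_map_of_injective M.subtype_injective, Subgroup.card_map_of_injective M.subtype_injective, h.card_pow]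

theorem isSyl_of_map_subtype {M : Subgroup G} {P X : Subgroup M} (h : IsSyl p (P.map M.subtype) (X.map M.subtype)) :
    IsSyl p P X := by
  refine isSyl_of_card ((Subgroup.map_le_map_iff_of_injective M.subtype_injective).1 h.1) ?_
  have := h.card_pow
  rwa [Subgroup.card_map_of_injective M.subtype_injective, Subgroup.card_map_of_injective M.subtype_injective] at this

theorem regular_iff {f : Subgroup G → Set (Subgroup G)} (hf : IsNormalizerFunctor p f) {M : Subgroup G} :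
    IsFunctorRegular p f M ↔ ∀ S T, IsSyl p S M → IsSyl p T M → S ⊓ T ≠ ⊥ →
      Relation.ReflTransGen (LkM p f M (S ⊓ T)) S T := by
  unfold IsFunctorRegular
  rw [csi_iff]
  constructor
  · intro h S T hS hT hb
    obtain ⟨S', rfl⟩ := hS.exists_sylow
    obtain ⟨T', rfl⟩ := hT.exists_sylow
    by_cases hne : S' = T'
    · rw [hne]
    have hb' : (S' : Subgroup M) ⊓ (T' : Subgroup M) ≠ ⊥ := by
      intro hb'
      apply hb
      rw [← Subgroup.map_inf _ _ _ M.subtype_injective, hb', Subgroup.map_bot]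
    refine Relation.ReflTransGen.lift (fun P : Sylow p M => (P : Subgroup M).map M.subtype) ?_ _ _ (h S' T' hne hb')
    rintro P Q ⟨X', x, h1, h2, h3, h4, h5⟩
    rw [mem_sylowMembers] at h1 h2
    obtain ⟨⟨X, hX, rfl⟩, h1⟩ := h1
    obtain ⟨_, h2⟩ := h2
    have hXM : (X.subgroupOf M).map M.subtype = X := Subgroup.map_subgroupOf_eq_of_le (ff_le hX)
    dsimp only at h1 h2
    have h6 := isSyl_map_subtype h1
    have h7 := isSyl_map_subtype h2
    rw [Subgroup.map_inf _ _ _ M.subtype_injective, hXM] at h6 h7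
    refine ⟨X, hX, x, h3, isSyl_map P, isSyl_map Q, member_le hf hX (isSyl_map P) h6, member_le hf hX (isSyl_map Q) h7, ?_, ?_⟩
    · change MulAut.conj ((x : G))⁻¹ • ((Q : Subgroup M).map M.subtype) = (P : Subgroup M).map M.subtype
      rw [← h4]
      ext y
      rw [mem_smul', Subgroup.mem_map, Subgroup.mem_map]
      constructor
      · rintro ⟨z, hz, hzy⟩
        refine ⟨x⁻¹ * z * x, ?_, ?_⟩
        · rw [scr, mem_smul']
          have : x⁻¹⁻¹ * (x⁻¹ * z * x) * x⁻¹ = z := by group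
          rwa [this]
        · change (x : G)⁻¹ * (z : G) * x = y
          rw [show (z : G) = (x : G)⁻¹⁻¹ * y * (x : G)⁻¹ from hzy]; group
      · rintro ⟨z, hz, rfl⟩
        rw [scr, mem_smul'] at hz
        exact ⟨_, hz, rfl⟩
    · rw [← Subgroup.map_inf _ _ _ M.subtype_injective]
      exact Subgroup.map_mono (h5.trans inf_le_left)
  · intro h S' T' hne hb'
    have hb : (S' : Subgroup M).map M.subtype ⊓ (T' : Subgroup M).map M.subtype ≠ ⊥ := by
      rw [← Subgroup.map_inf _ _ _ M.subtype_injective]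
      rwa [Ne, Subgroup.map_eq_bot_iff_of_injective _ M.subtype_injective]
    have h1 := h _ _ (isSyl_map S') (isSyl_map T') hb
    have key : ∀ U, Relation.ReflTransGen (LkM p f M ((S' : Subgroup M).map M.subtype ⊓ (T' : Subgroup M).map M.subtype))
        ((S' : Subgroup M).map M.subtype) U → ∃ U' : Sylow p M, (U' : Subgroup M).map M.subtype = U ∧
        Relation.ReflTransGen (Lk p ((fun X : Subgroup G => X.subgroupOf M) '' functorFamily p f M)
          ((S' : Subgroup M) ⊓ (T' : Subgroup M))) S' U' := by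
      intro U hU
      induction hU with
      | refl => exact ⟨S', rfl, .refl⟩
      | @tail U V _ hUV ih =>
        obtain ⟨U', hU', hr⟩ := ih
        obtain ⟨X, hX, x, hx, hUs, hVs, hUX, hVX, hxV, hD⟩ := hUV
        obtain ⟨V', hV'⟩ := hVs.exists_sylow
        have hXM : (X.subgroupOf M).map M.subtype = X := Subgroup.map_subgroupOf_eq_of_le (ff_le hX)
        refine ⟨V', hV', hr.tail ⟨X.subgroupOf M, ⟨x, ff_le hX hx⟩, ?_, ?_, hx, ?_, ?_⟩⟩
        · rw [mem_sylowMembers]
          refine ⟨⟨X, hX, rfl⟩, isSyl_of_map_subtype ?_⟩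
          rw [Subgroup.map_inf _ _ _ M.subtype_injective, hXM, hU', inf_eq_left.2 hUX]
          exact hUs.mono hUX (ff_le hX)
        · rw [mem_sylowMembers]
          refine ⟨⟨X, hX, rfl⟩, isSyl_of_map_subtype ?_⟩
          rw [Subgroup.map_inf _ _ _ M.subtype_injective, hXM, hV', inf_eq_left.2 hVX]
          exact hVs.mono hVX (ff_le hX)
        · apply Subgroup.map_injective M.subtype_injective
          rw [hU', ← hxV, ← hV']
          ext y
          rw [mem_smul', Subgroup.mem_map, Subgroup.mem_map]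
          constructor
          · rintro ⟨z, hz, rfl⟩
            rw [scr, mem_smul'] at hz
            exact ⟨_, hz, rfl⟩
          · rintro ⟨z, hz, hzy⟩
            refine ⟨(⟨x, ff_le hX hx⟩ : M)⁻¹ * z * ⟨x, ff_le hX hx⟩, ?_, ?_⟩
            · rw [scr, mem_smul']
              have : (⟨x, ff_le hX hx⟩ : M)⁻¹⁻¹ * ((⟨x, ff_le hX hx⟩ : M)⁻¹ * z * ⟨x, ff_le hX hx⟩) * (⟨x, ff_le hX hx⟩ : M)⁻¹ = z := by group
              rwa [this]
            · change (x : G)⁻¹ * (z : G) * x = y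
              rw [show (z : G) = (x : G)⁻¹⁻¹ * y * (x : G)⁻¹ from hzy]; group
        · refine le_inf ?_ ?_
          · rw [← Subgroup.map_le_map_iff_of_injective M.subtype_injective, Subgroup.map_inf _ _ _ M.subtype_injective, hV']
            exact hD
          · rw [← Subgroup.map_le_map_iff_of_injective M.subtype_injective, Subgroup.map_inf _ _ _ M.subtype_injective, hXM]
            exact hD.trans hVX
    obtain ⟨U', hU', hr⟩ := key _ h1
    have : U' = T' := Sylow.ext (Subgroup.map_injective M.subtype_injective hU')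
    rwa [this] at hr

theorem LkM.conj {f : Subgroup G → Set (Subgroup G)} (hf : IsNormalizerFunctor p f) {D P Q : Subgroup G}
    (h : LkM p f ⊤ D P Q) (g : G) : LkM p f ⊤ (MulAut.conj g • D) (MulAut.conj g • P) (MulAut.conj g • Q) := by
  obtain ⟨X, hX, x, hx, h1, h2, h3, h4, h5, h6⟩ := h
  refine ⟨MulAut.conj g • X, ?_, g * x * g⁻¹, Subgroup.smul_mem_pointwise_smul x (MulAut.conj g) X hx, ?_, ?_,
    Subgroup.pointwise_smul_le_pointwise_smul_iff.2 h3, Subgroup.pointwise_smul_le_pointwise_smul_iff.2 h4, ?_,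
    Subgroup.pointwise_smul_le_pointwise_smul_iff.2 h6⟩
  · have := ff_normal hf X hX g⁻¹
    rwa [scr, inv_inv] at this
  · have := h1.conj g
    rwa [conj_smul_of_mem (mem_top _)] at this
  · have := h2.conj g
    rwa [conj_smul_of_mem (mem_top _)] at this
  · rw [← h5, ← mul_smul, ← mul_smul, ← map_mul, ← map_mul]
    congr 2
    group

theorem LkM.mono {f : Subgroup G → Set (Subgroup G)} {M D E P Q : Subgroup G} (hDE : D ≤ E)
    (h : LkM p f M E P Q) : LkM p f M D P Q := by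
  obtain ⟨X, hX, x, hx, h1, h2, h3, h4, h5, h6⟩ := h
  exact ⟨X, hX, x, hx, h1, h2, h3, h4, h5, hDE.trans h6⟩

theorem LkM.up {f : Subgroup G → Set (Subgroup G)} {M D P Q : Subgroup G} {S : Subgroup G}
    (hS : IsSyl p S ⊤) (hSM : S ≤ M) (h : LkM p f M D P Q) : LkM p f ⊤ D P Q := by
  have hS' : IsSyl p S M := hS.mono hSM le_top
  have key : ∀ P, IsSyl p P M → IsSyl p P ⊤ := by
    intro P hP
    refine isSyl_of_card le_top ?_
    rw [← hS.card_pow, hP.card_eq hS']
  obtain ⟨X, hX, x, hx, h1, h2, h3, h4, h5, h6⟩ := h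
  obtain ⟨R, hR, F, hF, rfl⟩ := mem_ff.1 hX
  refine ⟨⊤ ⊓ normalizer (F : Set G), mem_ff.2 ⟨R, key R hR, F, hF, rfl⟩, x, ?_, key _ h1, key _ h2, ?_, ?_, h5, h6⟩
  · exact Subgroup.mem_inf.2 ⟨mem_top _, (Subgroup.mem_inf.1 hx).2⟩
  · exact h3.trans (inf_le_inf_right _ le_top)
  · exact h4.trans (inf_le_inf_right _ le_top)

theorem relM_conj {f : Subgroup G → Set (Subgroup G)} (hf : IsNormalizerFunctor p f) {D P Q : Subgroup G}
    (h : Relation.ReflTransGen (LkM p f ⊤ D) P Q) (g : G) :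
    Relation.ReflTransGen (LkM p f ⊤ (MulAut.conj g • D)) (MulAut.conj g • P) (MulAut.conj g • Q) := by
  induction h with
  | refl => exact .refl
  | tail _ hUV ih => exact ih.tail (hUV.conj hf g)

theorem relM_up {f : Subgroup G → Set (Subgroup G)} {M D E P Q : Subgroup G} {S : Subgroup G}
    (hS : IsSyl p S ⊤) (hSM : S ≤ M) (hDE : D ≤ E) (h : Relation.ReflTransGen (LkM p f M E) P Q) :
    Relation.ReflTransGen (LkM p f ⊤ D) P Q := by
  induction h with
  | refl => exact .refl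
  | tail _ hUV ih => exact ih.tail ((hUV.mono hDE).up hS hSM)

theorem s2957 {f : Subgroup G → Set (Subgroup G)} (hf : IsNormalizerFunctor p f) (S : Sylow p G)
    (G₁ G₂ : Subgroup G) (h₁ : (S : Subgroup G) ≤ G₁) (h₂ : (S : Subgroup G) ≤ G₂)
    (hprod : ∀ g : G, ∃ g₁ ∈ G₁, ∃ g₂ ∈ G₂, g = g₁ * g₂)
    (hr₁ : IsFunctorRegular p f G₁) (hr₂ : IsFunctorRegular p f G₂) :
    IsFunctorRegular p f ⊤ := by
  rw [regular_iff hf] at hr₁ hr₂ ⊢
  have hS := isSyl_top S
  have hS1 : IsSyl p (S : Subgroup G) G₁ := hS.mono h₁ le_top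
  have hS2 : IsSyl p (S : Subgroup G) G₂ := hS.mono h₂ le_top
  have main : ∀ (g : G) (D : Subgroup G), D ≠ ⊥ → D ≤ S → D ≤ MulAut.conj g • (S : Subgroup G) →
      Relation.ReflTransGen (LkM p f ⊤ D) (S : Subgroup G) (MulAut.conj g • (S : Subgroup G)) := by
    intro g D hD hDS hDg
    obtain ⟨g₁, hg₁, g₂, hg₂, rfl⟩ := hprod g
    have hD1 : MulAut.conj g₁⁻¹ • D ≤ G₁ := by
      rw [← conj_smul_of_mem (inv_mem hg₁)]
      exact Subgroup.pointwise_smul_le_pointwise_smul_iff.2 (hDS.trans h₁)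
    have hD2 : MulAut.conj g₁⁻¹ • D ≤ G₂ := by
      have h3 : MulAut.conj g₁⁻¹ • D ≤ MulAut.conj g₁⁻¹ • (MulAut.conj (g₁ * g₂) • (S : Subgroup G)) :=
        Subgroup.pointwise_smul_le_pointwise_smul_iff.2 hDg
      rw [← mul_smul, ← map_mul, inv_mul_cancel_left] at h3
      refine h3.trans ?_
      rw [← conj_smul_of_mem hg₂]
      exact Subgroup.pointwise_smul_le_pointwise_smul_iff.2 h₂
    have hDp : IsPGroup p (MulAut.conj g₁⁻¹ • D : Subgroup G) := IsPGroup_conj (S.isPGroup'.to_le hDS) _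
    have hS12 : IsSyl p (S : Subgroup G) (G₁ ⊓ G₂) := hS.mono (le_inf h₁ h₂) le_top
    obtain ⟨h, hh, hle⟩ := hS12.conj_le (le_inf hD1 hD2) hDp
    obtain ⟨hh1, hh2⟩ := Subgroup.mem_inf.1 hh
    have hw : g₁ * h⁻¹ ∈ G₁ := mul_mem hg₁ (inv_mem hh1)
    have hz : h * g₂ ∈ G₂ := mul_mem hh2 hg₂
    have e1 : g₁ * g₂ = (g₁ * h⁻¹) * (h * g₂) := by group
    have hDw : MulAut.conj (g₁ * h⁻¹)⁻¹ • D ≤ S := by
      have e : (g₁ * h⁻¹)⁻¹ = h * g₁⁻¹ := by group
      rw [e, map_mul, mul_smul]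
      exact hle
    have hDw' : D ≤ MulAut.conj (g₁ * h⁻¹) • (S : Subgroup G) := by
      have h3 : MulAut.conj (g₁ * h⁻¹) • (MulAut.conj (g₁ * h⁻¹)⁻¹ • D) ≤ MulAut.conj (g₁ * h⁻¹) • (S : Subgroup G) :=
        Subgroup.pointwise_smul_le_pointwise_smul_iff.2 hDw
      rwa [← mul_smul, ← map_mul, mul_inv_cancel, map_one, one_smul] at h3
    have hDz : MulAut.conj (g₁ * h⁻¹)⁻¹ • D ≤ MulAut.conj (h * g₂) • (S : Subgroup G) := by
      have h3 : MulAut.conj (g₁ * h⁻¹)⁻¹ • D ≤ MulAut.conj (g₁ * h⁻¹)⁻¹ • (MulAut.conj (g₁ * g₂) • (S : Subgroup G)) :=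
        Subgroup.pointwise_smul_le_pointwise_smul_iff.2 hDg
      rwa [← mul_smul, ← map_mul, e1, inv_mul_cancel_left] at h3
    have hw1 : IsSyl p (MulAut.conj (g₁ * h⁻¹) • (S : Subgroup G)) G₁ := by
      have := hS1.conj (g₁ * h⁻¹)
      rwa [conj_smul_of_mem hw] at this
    have hz2 : IsSyl p (MulAut.conj (h * g₂) • (S : Subgroup G)) G₂ := by
      have := hS2.conj (h * g₂)
      rwa [conj_smul_of_mem hz] at this
    have st1 : Relation.ReflTransGen (LkM p f ⊤ D) (S : Subgroup G) (MulAut.conj (g₁ * h⁻¹) • (S : Subgroup G)) := by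
      refine relM_up hS h₁ (le_inf hDS hDw') (hr₁ _ _ hS1 hw1 ?_)
      intro hb
      apply hD
      rw [eq_bot_iff, ← hb]
      exact le_inf hDS hDw'
    have st2 := relM_up (f := f) hS h₂ (le_inf hDw hDz) (hr₂ _ _ hS2 hz2 (by
      intro hb
      apply hD
      have h4 := le_inf hDw hDz
      rw [hb, le_bot_iff] at h4
      have h5 := congrArg (fun X => MulAut.conj (g₁ * h⁻¹) • X) h4
      rwa [← mul_smul, ← map_mul, mul_inv_cancel, map_one, one_smul, Subgroup.smul_bot] at h5))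
    have st3 := relM_conj hf st2 (g₁ * h⁻¹)
    rw [← mul_smul, ← mul_smul, ← map_mul, ← map_mul, mul_inv_cancel, map_one, one_smul, ← e1] at st3
    exact st1.trans st3
  intro A B hA hB hAB
  obtain ⟨a, ha, rfl⟩ := hA.conj_eq hS
  obtain ⟨b, hb, rfl⟩ := hB.conj_eq hS
  set D := MulAut.conj a • (S : Subgroup G) ⊓ MulAut.conj b • (S : Subgroup G) with hD
  have h3 := main (a⁻¹ * b) (MulAut.conj a⁻¹ • D) (by
      intro hb
      apply hAB
      have h5 := congrArg (fun X => MulAut.conj a • X) hb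
      rwa [← mul_smul, ← map_mul, mul_inv_cancel, map_one, one_smul, Subgroup.smul_bot] at h5) (by
      have h4 : MulAut.conj a⁻¹ • D ≤ MulAut.conj a⁻¹ • (MulAut.conj a • (S : Subgroup G)) :=
        Subgroup.pointwise_smul_le_pointwise_smul_iff.2 inf_le_left
      rwa [← mul_smul, ← map_mul, inv_mul_cancel, map_one, one_smul] at h4) (by
      rw [map_mul, mul_smul]
      exact Subgroup.pointwise_smul_le_pointwise_smul_iff.2 inf_le_right)
  have h4 := relM_conj hf h3 a
  rwa [← mul_smul, ← mul_smul, ← map_mul, ← map_mul, mul_inv_cancel, map_one, one_smul, mul_inv_cancel_left] at h4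

end CfsgLib.SylChH12
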