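import Mathlib
import Cfsg.Prelude.Def_Sz

set_option autoImplicit false
set_option linter.style.haveILetI false

/-!
Elementary facts on the Suzuki groups `Cfsg.Lie.Sz F (2^(m+1))`: the generating set is closed under
multiplication, diagonal elements, and some explicit elements.
-/

namespace CfsgLib.SzMat

open Cfsg.Lie Matrix
open scoped MatrixGroups

variable {F : Type*} [Field F]

/-- column relations -/
def ColRel (g : Matrix (Fin 4) (Fin 4) F) : Prop :=
  ∀ i j : Fin 4, g 0 i * g 3 j + g 1 i * g 2 j + g 2 i * g 1 j + g 3 i * g 0 j = if i.val + j.val = 3 then 1 else 0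

/-- row relations -/
def RowRel (g : Matrix (Fin 4) (Fin 4) F) : Prop :=
  ∀ k l : Fin 4, g k 0 * g l 3 + g k 1 * g l 2 + g k 2 * g l 1 + g k 3 * g l 0 = if k.val + l.val = 3 then 1 else 0

/-- antidiagonal matrix -/
def Jmat : Matrix (Fin 4) (Fin 4) F := !![0,0,0,1;0,0,1,0;0,1,0,0;1,0,0,0]

theorem Jmat_mul : (Jmat : Matrix (Fin 4) (Fin 4) F) * Jmat = 1 := by
  ext i j
  fin_cases i <;> fin_cases j <;> simp [Jmat, Matrix.mul_apply, Fin.sum_univ_four]

theorem colRel_iff (g : Matrix (Fin 4) (Fin 4) F) : ColRel g ↔ gᵀ * Jmat * g = Jmat := by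
  constructor
  · intro h
    ext i j
    have := h i j
    have h1 : (gᵀ * (Jmat : Matrix (Fin 4) (Fin 4) F) * g) i j = g 0 i * g 3 j + g 1 i * g 2 j + g 2 i * g 1 j + g 3 i * g 0 j := by
      simp [Matrix.mul_apply, Fin.sum_univ_four, Jmat]
      ring
    rw [h1, this]
    fin_cases i <;> fin_cases j <;> simp [Jmat]
  · intro h i j
    have h1 : (gᵀ * (Jmat : Matrix (Fin 4) (Fin 4) F) * g) i j = g 0 i * g 3 j + g 1 i * g 2 j + g 2 i * g 1 j + g 3 i * g 0 j := by
      simp [Matrix.mul_apply, Fin.sum_univ_four, Jmat]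
      ring
    rw [← h1, h]
    fin_cases i <;> fin_cases j <;> simp [Jmat]

theorem rowRel_iff (g : Matrix (Fin 4) (Fin 4) F) : RowRel g ↔ g * Jmat * gᵀ = Jmat := by
  constructor
  · intro h
    ext i j
    have := h i j
    have h1 : (g * (Jmat : Matrix (Fin 4) (Fin 4) F) * gᵀ) i j = g i 0 * g j 3 + g i 1 * g j 2 + g i 2 * g j 1 + g i 3 * g j 0 := by
      simp [Matrix.mul_apply, Fin.sum_univ_four, Jmat]
      ring
    rw [h1, this]
    fin_cases i <;> fin_cases j <;> simp [Jmat]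
  · intro h i j
    have h1 : (g * (Jmat : Matrix (Fin 4) (Fin 4) F) * gᵀ) i j = g i 0 * g j 3 + g i 1 * g j 2 + g i 2 * g j 1 + g i 3 * g j 0 := by
      simp [Matrix.mul_apply, Fin.sum_univ_four, Jmat]
      ring
    rw [← h1, h]
    fin_cases i <;> fin_cases j <;> simp [Jmat]

theorem rowRel_of_colRel {g : Matrix (Fin 4) (Fin 4) F} (h : ColRel g) : RowRel g := by
  rw [colRel_iff] at h
  rw [rowRel_iff]
  have h1 : (Jmat * gᵀ * Jmat) * g = 1 := by
    rw [mul_assoc, mul_assoc, ← mul_assoc gᵀ, h, Jmat_mul]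
  have h2 : g * (Jmat * gᵀ * Jmat) = 1 := mul_eq_one_comm.1 h1
  calc g * Jmat * gᵀ = g * (Jmat * gᵀ * Jmat) * Jmat := by
        simp only [mul_assoc, Jmat_mul, mul_one]
    _ = Jmat := by rw [h2, one_mul]

theorem mem_Sp4_iff (g : GL (Fin 4) F) : g ∈ Sp4 F ↔ ColRel (g : Matrix (Fin 4) (Fin 4) F) := by
  constructor
  · intro h i j
    have := h (Pi.single i 1) (Pi.single j 1)
    simp only [altForm4, Units.coeHom_apply, Matrix.mulVec_single_one, Matrix.col_apply] at this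
    rw [this]
    fin_cases i <;> fin_cases j <;> simp
  · intro h u v
    simp only [altForm4, Units.coeHom_apply, Matrix.mulVec, dotProduct, Fin.sum_univ_four]
    have h00 := h 0 0
    have h01 := h 0 1
    have h02 := h 0 2
    have h03 := h 0 3
    have h10 := h 1 0
    have h11 := h 1 1
    have h12 := h 1 2
    have h13 := h 1 3
    have h20 := h 2 0
    have h21 := h 2 1
    have h22 := h 2 2
    have h23 := h 2 3
    have h30 := h 3 0
    have h31 := h 3 1
    have h32 := h 3 2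
    have h33 := h 3 3
    simp at h00 h01 h02 h03 h10 h11 h12 h13 h20 h21 h22 h23 h30 h31 h32 h33
    linear_combination u 0 * v 0 * h00 + u 0 * v 1 * h01 + u 0 * v 2 * h02 + u 0 * v 3 * h03 +
      u 1 * v 0 * h10 + u 1 * v 1 * h11 + u 1 * v 2 * h12 + u 1 * v 3 * h13 +
      u 2 * v 0 * h20 + u 2 * v 1 * h21 + u 2 * v 2 * h22 + u 2 * v 3 * h23 +
      u 3 * v 0 * h30 + u 3 * v 1 * h31 + u 3 * v 2 * h32 + u 3 * v 3 * h33

theorem minor_mul (h2 : (2 : F) = 0) (g h : Matrix (Fin 4) (Fin 4) F) (k l i j : Fin 4)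
    (hg : g k 0 * g l 3 + g k 1 * g l 2 + g k 2 * g l 1 + g k 3 * g l 0 = 0)
    (hh : h 0 i * h 3 j + h 1 i * h 2 j + h 2 i * h 1 j + h 3 i * h 0 j = 0) :
    (g * h) k i * (g * h) l j - (g * h) l i * (g * h) k j =
      (g k 0 * g l 1 - g l 0 * g k 1) * (h 0 i * h 1 j - h 1 i * h 0 j) +
      (g k 0 * g l 2 - g l 0 * g k 2) * (h 0 i * h 2 j - h 2 i * h 0 j) +
      (g k 1 * g l 3 - g l 1 * g k 3) * (h 1 i * h 3 j - h 3 i * h 1 j) +
      (g k 2 * g l 3 - g l 2 * g k 3) * (h 2 i * h 3 j - h 3 i * h 2 j) := by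
  simp only [Matrix.mul_apply, Fin.sum_univ_four]
  linear_combination (g k 0 * g l 3 - g l 0 * g k 3) * hh + (h 1 i * h 2 j - h 2 i * h 1 j) * hg
    - ((g k 0 * g l 3 - g l 0 * g k 3) * (h 3 i * h 0 j + h 2 i * h 1 j)
      + (g l 0 * g k 3 + g l 1 * g k 2) * (h 1 i * h 2 j - h 2 i * h 1 j)
      + (g k 0 * g l 3 - g l 0 * g k 3) * (h 1 i * h 2 j - h 2 i * h 1 j)) * h2

theorem star4_mul (h2 : (2 : F) = 0) {g h : Matrix (Fin 4) (Fin 4) F} (hg : ColRel g) (hh : ColRel h) :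
    star4 (g * h) = star4 g * star4 h := by
  have hg' := rowRel_of_colRel hg
  ext p r
  have hp : ((pairOf p).1).val + ((pairOf p).2).val ≠ 3 := by fin_cases p <;> simp [pairOf]
  have hr : ((pairOf r).1).val + ((pairOf r).2).val ≠ 3 := by fin_cases r <;> simp [pairOf]
  have h1 := hg' (pairOf p).1 (pairOf p).2
  have h3 := hh (pairOf r).1 (pairOf r).2
  rw [if_neg hp] at h1
  rw [if_neg hr] at h3
  have := minor_mul h2 g h (pairOf p).1 (pairOf p).2 (pairOf r).1 (pairOf r).2 h1 h3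
  rw [Matrix.mul_apply, Fin.sum_univ_four]
  simp only [star4, Matrix.of_apply]
  rw [this]
  simp [pairOf]

theorem map_pow_mul [CharP F 2] (m : ℕ) (g h : Matrix (Fin 4) (Fin 4) F) :
    (g * h).map (fun x => x ^ (2 ^ m)) = g.map (fun x => x ^ (2 ^ m)) * h.map (fun x => x ^ (2 ^ m)) := by
  ext i j
  have h1 := (iterateFrobenius F 2 m).map_matrix_mul g h i j
  simp only [iterateFrobenius_def] at h1
  rw [Matrix.map_apply, h1]
  simp only [Matrix.mul_apply, Matrix.map_apply, iterateFrobenius_def]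

/-- membership in the Suzuki group -/
def InSz (e : ℕ) (g : Matrix (Fin 4) (Fin 4) F) : Prop :=
  ColRel g ∧ star4 g = g.map (fun x => x ^ e)

theorem InSz.mul [CharP F 2] {m : ℕ} {g h : Matrix (Fin 4) (Fin 4) F} (hg : InSz (2 ^ m) g) (hh : InSz (2 ^ m) h) :
    InSz (2 ^ m) (g * h) := by
  have h2 : (2 : F) = 0 := CharTwo.two_eq_zero
  refine ⟨?_, ?_⟩
  · have h1 := (colRel_iff g).1 hg.1
    have h3 := (colRel_iff h).1 hh.1
    rw [colRel_iff, Matrix.transpose_mul]
    calc hᵀ * gᵀ * Jmat * (g * h) = hᵀ * (gᵀ * Jmat * g) * h := by simp only [mul_assoc]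
      _ = _ := by rw [h1, h3]
  · rw [star4_mul h2 hg.1 hh.1, hg.2, hh.2, map_pow_mul]

theorem InSz.one {m : ℕ} : InSz (2 ^ m) (1 : Matrix (Fin 4) (Fin 4) F) := by
  refine ⟨?_, ?_⟩
  · rw [colRel_iff]; simp
  · have h2 : (2:ℕ) ^ m ≠ 0 := by positivity
    ext p r
    simp only [star4, Matrix.of_apply, Matrix.map_apply, Matrix.one_apply]
    fin_cases p <;> fin_cases r <;> simp [pairOf, h2]

theorem mem_Sz_iff [Finite F] [CharP F 2] {m : ℕ} (g : GL (Fin 4) F) :
    g ∈ Sz F (2 ^ m) ↔ InSz (2 ^ m) (g : Matrix (Fin 4) (Fin 4) F) := by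
  constructor
  · intro hg
    have hpow : ∀ (x : GL (Fin 4) F), InSz (2 ^ m) (x : Matrix (Fin 4) (Fin 4) F) → ∀ n : ℕ, InSz (2 ^ m) ((x ^ n : GL (Fin 4) F) : Matrix (Fin 4) (Fin 4) F) := by
      intro x hx n
      induction n with
      | zero => simpa using InSz.one
      | succ n ih =>
        rw [pow_succ, Units.val_mul]
        exact ih.mul hx
    haveI : Finite (GL (Fin 4) F) := inferInstance
    induction hg using Subgroup.closure_induction with
    | mem x hx => exact ⟨(mem_Sp4_iff x).1 hx.1, hx.2⟩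
    | one => simpa using InSz.one
    | mul x y _ _ hx hy => rw [Units.val_mul]; exact hx.mul hy
    | inv x _ hx =>
      have : x⁻¹ = x ^ (orderOf x - 1) := by
        rw [inv_eq_iff_mul_eq_one, ← pow_succ']
        rw [Nat.sub_add_cancel (orderOf_pos x), pow_orderOf_eq_one]
      rw [this]
      exact hpow x hx _
  · intro h
    exact Subgroup.subset_closure ⟨(mem_Sp4_iff g).2 h.1, h.2⟩

end CfsgLib.SzMat
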