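import Cfsg.Agent.EqBase
import Cfsg.Agent.LibTZ6
import Cfsg.Agent.LibSolvFitting
import Cfsg.Agent.LibTransNil
import Cfsg.Agent.LibFgElt
/-!
# Groups in which the centralizers of elements are TI-sets (helper16)
-/
set_option autoImplicit false
set_option linter.all false
open Cfsg MulAction
open scoped Pointwise
namespace CfsgLib.TIC

universe u v

/-- centralizers are TI -/
def TIC (G : Type u) [Group G] : Prop :=
  ∀ x g y : G, y ≠ 1 → y * x = x * y → (g * y * g⁻¹) * x = x * (g * y * g⁻¹) → ∀ w : G, w * x = x * w ↔ (g * w * g⁻¹) * x = x * (g * w * g⁻¹)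

theorem tic_of {G : Type u} [Group G] (hTI : ∀ x : G, IsTISubset (Subgroup.centralizer ({x} : Set G) : Set G)) : TIC G := by
  intro x g y hy1 hy hgy w
  have h1 : g ∈ Subgroup.normalizer (Subgroup.centralizer ({x} : Set G) : Set G) := by
    by_contra h
    exact hy1 (hTI x g h y (Subgroup.mem_centralizer_singleton_iff.mpr hy) (Subgroup.mem_centralizer_singleton_iff.mpr hgy))
  have := Subgroup.mem_normalizer_iff.mp h1 w
  rw [Subgroup.mem_centralizer_singleton_iff, Subgroup.mem_centralizer_singleton_iff] at this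
  exact this

theorem TIC.sub {G : Type u} [Group G] (h : TIC G) (H : Subgroup G) : TIC H := by
  intro x g y hy1 hy hgy w
  have h1 := h (x : G) (g : G) (y : G) (fun h2 => hy1 (Subtype.ext h2)) (congrArg Subtype.val hy) (congrArg Subtype.val hgy) (w : G)
  exact ⟨fun h2 => Subtype.ext (h1.mp (congrArg Subtype.val h2)), fun h2 => Subtype.ext (h1.mpr (congrArg Subtype.val h2))⟩

theorem closure_pow {G : Type u} [Group G] {S : Set G} {n : ℕ} (hc : ∀ x ∈ S, ∀ y ∈ S, x * y = y * x) (hn : ∀ x ∈ S, x ^ n = 1) :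
    ∀ a ∈ Subgroup.closure S, a ^ n = 1 := by
  letI := Subgroup.closureCommGroupOfComm hc
  have hcc : ∀ a ∈ Subgroup.closure S, ∀ b ∈ Subgroup.closure S, a * b = b * a := by
    intro a ha b hb
    exact congrArg Subtype.val (mul_comm (⟨a, ha⟩ : Subgroup.closure S) ⟨b, hb⟩)
  intro a ha
  induction ha using Subgroup.closure_induction with
  | mem x hx => exact hn x hx
  | one => exact one_pow n
  | mul x y hx hy ihx ihy => rw [(show Commute x y from hcc x hx y hy).mul_pow, ihx, ihy, one_mul]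
  | inv x hx ih => rw [inv_pow, ih, inv_one]

/-- nontrivial center: nilpotent -/
theorem TIC.nilp {G : Type u} [Group G] [Finite G] (h : TIC G) {z : G} (hz1 : z ≠ 1) (hz : ∀ w : G, w * z = z * w) : Group.IsNilpotent G := by
  classical
  have hn : ∀ x g w : G, w * x = x * w ↔ (g * w * g⁻¹) * x = x * (g * w * g⁻¹) := fun x g w =>
    h x g z hz1 (hz x).symm (by
      have : g * z * g⁻¹ = z := by rw [hz g]; group
      rw [this]; exact (hz x).symm) w
  have hc : ∀ x g k : G, (g * x * g⁻¹) * (k * x * k⁻¹) = (k * x * k⁻¹) * (g * x * g⁻¹) := by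
    intro x g k
    have h1 := (hn x (k⁻¹ * g) x).mp rfl
    calc (g * x * g⁻¹) * (k * x * k⁻¹) = k * (((k⁻¹ * g) * x * (k⁻¹ * g)⁻¹) * x) * k⁻¹ := by group
      _ = k * (x * ((k⁻¹ * g) * x * (k⁻¹ * g)⁻¹)) * k⁻¹ := by rw [h1]
      _ = (k * x * k⁻¹) * (g * x * g⁻¹) := by group
  rw [CfsgLib.SolvFitting.isNilpotent_of_sylow_normal]
  intro p hp P
  have key : ∀ x ∈ (P : Subgroup G), ∀ Q : Sylow p G, x ∈ (Q : Subgroup G) := by
    intro x hx Q
    obtain ⟨k, hk⟩ := P.isPGroup' ⟨x, hx⟩
    have hk' : x ^ p ^ k = 1 := congrArg Subtype.val hk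
    have h2 : ∀ a ∈ Subgroup.normalClosure ({x} : Set G), a ^ p ^ k = 1 := by
      apply closure_pow
      · intro a ha b hb
        obtain ⟨a', ha', hca⟩ := Group.mem_conjugatesOfSet_iff.mp ha
        obtain ⟨b', hb', hcb⟩ := Group.mem_conjugatesOfSet_iff.mp hb
        rw [Set.mem_singleton_iff] at ha' hb'
        subst ha' hb'
        obtain ⟨g, rfl⟩ := isConj_iff.mp hca
        obtain ⟨l, rfl⟩ := isConj_iff.mp hcb
        exact hc _ g l
      · intro a ha
        obtain ⟨a', ha', hca⟩ := Group.mem_conjugatesOfSet_iff.mp ha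
        rw [Set.mem_singleton_iff] at ha'
        subst ha'
        obtain ⟨g, rfl⟩ := isConj_iff.mp hca
        rw [conj_pow, hk']; group
    have h3 : IsPGroup p (Subgroup.normalClosure ({x} : Set G)) := by
      intro a
      exact ⟨k, Subtype.ext (h2 a a.2)⟩
    obtain ⟨R, hR⟩ := h3.exists_le_sylow
    obtain ⟨g, hg⟩ := MulAction.exists_smul_eq G R Q
    have h4 : g⁻¹ * x * g ∈ (R : Subgroup G) := by
      apply hR
      have h5 : x ∈ Subgroup.normalClosure ({x} : Set G) := Subgroup.subset_normalClosure rfl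
      have := (Subgroup.normalClosure_normal (s := ({x} : Set G))).conj_mem x h5 g⁻¹
      rwa [inv_inv] at this
    rw [← hg]
    rw [Sylow.coe_subgroup_smul]
    rw [Subgroup.mem_pointwise_smul_iff_inv_smul_mem]
    rw [← MulAut.conj_inv_apply] at h4
    exact h4
  constructor
  intro x hx g
  have h1 := key x hx (g⁻¹ • P)
  rw [Sylow.coe_subgroup_smul, Subgroup.mem_pointwise_smul_iff_inv_smul_mem] at h1
  have h2 : (MulAut.conj g⁻¹)⁻¹ • x = g * x * g⁻¹ := by
    rw [map_inv, inv_inv]; rfl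
  have h3 : (MulAut.conj g⁻¹)⁻¹ • x ∈ (P : Subgroup G) := h1
  rwa [h2] at h3

/-- nilpotent centralizers -/
theorem TIC.cent {G : Type u} [Group G] [Finite G] (h : TIC G) {z : G} (hz1 : z ≠ 1) : Group.IsNilpotent (Subgroup.centralizer ({z} : Set G)) := by
  apply (h.sub _).nilp (z := ⟨z, Subgroup.mem_centralizer_singleton_iff.mpr rfl⟩) (fun h2 => hz1 (congrArg Subtype.val h2))
  intro w
  exact Subtype.ext (Subgroup.mem_centralizer_singleton_iff.mp w.2)

/-- local data -/
structure Loc (G : Type u) [Group G] (p : ℕ) (M : Subgroup G) (z : G) : Prop where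
  hp : p.Prime
  tic : TIC G
  hz1 : z ≠ 1
  hzp : orderOf z = p
  hM : ∀ x, x ∈ M ↔ x * z = z * x
  nil : Group.IsNilpotent M
  syl : ∃ P : Sylow p G, (P : Subgroup G) ≤ M

theorem TIC.loc {G : Type u} [Group G] [Finite G] (h : TIC G) {p : ℕ} (hp : p.Prime) (hd : p ∣ Nat.card G) : ∃ M z, Loc G p M z := by
  classical
  haveI := Fact.mk hp
  obtain ⟨P⟩ : Nonempty (Sylow p G) := inferInstance
  have hPb : (P : Subgroup G) ≠ ⊥ := by
    intro hb
    obtain ⟨x, hx⟩ := exists_prime_orderOf_dvd_card' (G := G) p hd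
    have h1 : p ∣ Nat.card (P : Subgroup G) := P.dvd_card_of_dvd_card hd
    rw [hb, Subgroup.card_bot] at h1
    exact hp.one_lt.ne' (Nat.dvd_one.mp h1)
  haveI hPnt : Nontrivial (P : Subgroup G) := (Subgroup.nontrivial_iff_ne_bot _).mpr hPb
  have hz : ∃ z : G, orderOf z = p ∧ ∀ y ∈ (P : Subgroup G), y * z = z * y := by
    have h1 : Nontrivial (Subgroup.center (P : Subgroup G)) := P.isPGroup'.center_nontrivial
    have h2 : IsPGroup p (Subgroup.center (P : Subgroup G)) := P.isPGroup'.to_subgroup _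
    obtain ⟨n, hn⟩ := IsPGroup.iff_card.mp h2
    have h3 : n ≠ 0 := by
      rintro rfl
      rw [pow_zero] at hn
      have := Finite.one_lt_card_iff_nontrivial.mpr h1
      omega
    have h4 : p ∣ Nat.card (Subgroup.center (P : Subgroup G)) := by rw [hn]; exact dvd_pow_self p h3
    obtain ⟨z, hz⟩ := exists_prime_orderOf_dvd_card' (G := Subgroup.center (P : Subgroup G)) p h4
    refine ⟨z.1.1, ?_, ?_⟩
    · rw [Subgroup.orderOf_coe, Subgroup.orderOf_coe, hz]
    · intro y hy
      exact congrArg Subtype.val (Subgroup.mem_center_iff.mp z.2 ⟨y, hy⟩)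
  obtain ⟨z, hzp, hzc⟩ := hz
  have hz1 : z ≠ 1 := by
    rintro rfl
    rw [orderOf_one] at hzp
    exact hp.one_lt.ne hzp
  exact ⟨Subgroup.centralizer ({z} : Set G), z,
    { hp := hp, tic := h, hz1 := hz1, hzp := hzp, hM := fun x => Subgroup.mem_centralizer_singleton_iff, nil := h.cent hz1,
      syl := ⟨P, fun y hy => Subgroup.mem_centralizer_singleton_iff.mpr (hzc y hy)⟩ }⟩

namespace Loc
variable {G : Type u} [Group G] [Finite G] {p : ℕ} {M : Subgroup G} {z : G} (L : Loc G p M z)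
include L

omit [Finite G] in
theorem hzM : z ∈ M := (L.hM z).mpr rfl

omit [Finite G] in
theorem ti {g x : G} (hx : x ∈ M) (hx1 : x ≠ 1) (h : g * x * g⁻¹ ∈ M) : g ∈ Subgroup.normalizer (M : Set G) := by
  rw [Subgroup.mem_normalizer_iff]
  intro w
  rw [L.hM, L.hM]
  exact L.tic z g x hx1 ((L.hM x).mp hx) ((L.hM _).mp h) w

/-- `p`-elements of the normalizer -/
theorem pelt {v : G} (hv : v ∈ Subgroup.normalizer (M : Set G)) (hvp : ∃ k, orderOf v = p ^ k) : v ∈ M := by
  classical
  haveI := Fact.mk L.hp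
  obtain ⟨P, hP⟩ := L.syl
  have hPn : ∀ Q : Sylow p G, (Q : Subgroup G) ≤ M → Q = P := by
    intro Q hQ
    have h1 := (CfsgLib.SolvFitting.isNilpotent_of_sylow_normal M).mp L.nil p inferInstance (P.subtype hP)
    obtain ⟨g, hg⟩ := MulAction.exists_smul_eq M (P.subtype hP) (Q.subtype hQ)
    have h2 : g • (P.subtype hP) = P.subtype hP := by
      apply Sylow.smul_eq_of_normal
    rw [h2] at hg
    apply Sylow.ext
    have h3 : ((P.subtype hP : Sylow p M) : Subgroup M) = ((Q.subtype hQ : Sylow p M) : Subgroup M) := by rw [hg]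
    rw [Sylow.coe_subtype, Sylow.coe_subtype] at h3
    ext x
    constructor
    · intro hx
      have : (⟨x, hQ hx⟩ : M) ∈ (Q : Subgroup G).subgroupOf M := hx
      rw [← h3] at this
      exact this
    · intro hx
      have : (⟨x, hP hx⟩ : M) ∈ (P : Subgroup G).subgroupOf M := hx
      rw [h3] at this
      exact this
  have h1 : IsPGroup p (Subgroup.zpowers v) := by
    obtain ⟨k, hk⟩ := hvp
    exact IsPGroup.of_card (n := k) (by rw [Nat.card_zpowers, hk])
  have h2 : P ∈ MulAction.fixedPoints (Subgroup.zpowers v) (Sylow p G) := by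
    rintro ⟨w, hw⟩
    apply hPn
    have hw' : w ∈ Subgroup.normalizer (M : Set G) := (Subgroup.zpowers_le.mpr hv) hw
    intro x hx
    have hx' : x ∈ ((w • P : Sylow p G) : Subgroup G) := hx
    rw [Sylow.coe_subgroup_smul, Subgroup.mem_pointwise_smul_iff_inv_smul_mem] at hx'
    have h5 : w⁻¹ * x * w ∈ (P : Subgroup G) := by
      rw [← MulAut.conj_inv_apply]; exact hx'
    have h6 := (Subgroup.mem_normalizer_iff.mp hw' (w⁻¹ * x * w)).mp (hP h5)
    have h7 : w * (w⁻¹ * x * w) * w⁻¹ = x := by group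
    rwa [h7] at h6
  exact hP ((h1.sylow_mem_fixedPoints_iff.mp h2) (Subgroup.mem_zpowers v))

/-- centralizers of elements of `M` -/
theorem hC {x : G} (hx : x ∈ M) (hx1 : x ≠ 1) {y : G} (h : y * x = x * y) : y ∈ M := by
  classical
  obtain ⟨a, b, ha, hb, hab, -, hap, hbp⟩ := CfsgLib.FgElt.exists_p_decomp L.hp y
  have hax : a * x = x * a := CfsgLib.FgElt.commute_of_mem_zpowers ha h
  have hbx : b * x = x * b := CfsgLib.FgElt.commute_of_mem_zpowers hb h
  rw [← hab]
  apply M.mul_mem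
  · apply L.pelt _ hap
    apply L.ti hx hx1
    rw [hax, mul_inv_cancel_right]
    exact hx
  · rw [L.hM]
    apply CfsgLib.TransNil.commute_of_coprime_mem (L.tic.cent hx1)
    · exact Subgroup.mem_centralizer_singleton_iff.mpr hbx
    · exact Subgroup.mem_centralizer_singleton_iff.mpr ((L.hM x).mp hx).symm
    · rw [L.hzp]; exact hbp

omit [Finite G] in
/-- elements of `M` commute with their conjugates -/
theorem comm_conj {y g : G} (hy : y ∈ M) (hg : g ∈ M) : (g * y * g⁻¹) * y = y * (g * y * g⁻¹) := by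
  have h1 := L.tic y g z L.hz1 ((L.hM y).mp hy).symm (by
    have : g * z * g⁻¹ = z := by rw [(L.hM g).mp hg]; group
    rw [this]; exact ((L.hM y).mp hy).symm) y
  exact h1.mp rfl

omit [Finite G] in
theorem ne_bot : M ≠ ⊥ := by
  intro h
  have := L.hzM
  rw [h, Subgroup.mem_bot] at this
  exact L.hz1 this

omit [Finite G] in
/-- self-normalizing: Frobenius complement -/
theorem frob (hN : Subgroup.normalizer (M : Set G) ≤ M) (hM : M ≠ ⊤) : IsFrobeniusComplement M := by
  refine ⟨L.ne_bot, hM, ?_⟩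
  intro g hg
  rw [eq_bot_iff]
  rintro x ⟨hx, hx2⟩
  have hx2' : x ∈ MulAut.conj g • M := hx2
  rw [Subgroup.mem_pointwise_smul_iff_inv_smul_mem] at hx2'
  have h5 : g⁻¹ * x * g ∈ M := by
    rw [← MulAut.conj_inv_apply]; exact hx2'
  rw [Subgroup.mem_bot]
  by_contra hx1
  apply hg
  have h6 : g⁻¹ ∈ Subgroup.normalizer (M : Set G) := L.ti hx hx1 (by rw [inv_inv]; exact h5)
  have h7 := M.inv_mem (hN h6)
  rwa [inv_inv] at h7

end Loc
end CfsgLib.TIC
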