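import Cfsg.Agent.EqBase
import Cfsg.Agent.LibTCV
set_option autoImplicit false
set_option linter.all false

/-! Simplicity from a maximal core-free subgroup `H` having a normal simple subgroup `N` of index 2. -/

namespace CfsgLib.TC

section
variable {G : Type*} [Group G]

theorem sup_normal_gen {H N M : Subgroup G} [hM : M.Normal] (hMH : M ⊔ H = ⊤)
    (hNn : ∀ h ∈ H, ∀ n ∈ N, h * n * h⁻¹ ∈ N) : (M ⊔ N).Normal := by
  refine ⟨fun x hx g => ?_⟩
  have hg : g ∈ M ⊔ H := by rw [hMH]; trivial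
  obtain ⟨m, hm, h, hh, rfl⟩ := Subgroup.mem_sup_of_normal_left.1 hg
  obtain ⟨m', hm', n, hn, rfl⟩ := Subgroup.mem_sup_of_normal_left.1 hx
  have h1 : h * (m' * n) * h⁻¹ ∈ M ⊔ N := by
    have : h * (m' * n) * h⁻¹ = (h * m' * h⁻¹) * (h * n * h⁻¹) := by group
    rw [this]
    exact Subgroup.mul_mem _ (Subgroup.mem_sup_left (hM.conj_mem _ hm' _)) (Subgroup.mem_sup_right (hNn h hh n hn))
  have h2 : m ∈ M ⊔ N := Subgroup.mem_sup_left hm
  have h3 : m * h * (m' * n) * (m * h)⁻¹ = m * (h * (m' * n) * h⁻¹) * m⁻¹ := by group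
  rw [h3]
  exact Subgroup.mul_mem _ (Subgroup.mul_mem _ h2 h1) (Subgroup.inv_mem _ h2)

theorem sup_top_gen {H N M : Subgroup G} {a : G} [hM : M.Normal] (hMH : M ⊔ H = ⊤)
    (hNn : ∀ h ∈ H, ∀ n ∈ N, h * n * h⁻¹ ∈ N) (hcov : ∀ h ∈ H, h ∈ N ∨ ∃ n ∈ N, h = a * n)
    (hper : commutator G = ⊤) : M ⊔ N = ⊤ := by
  have hR : (M ⊔ N).Normal := sup_normal_gen hMH hNn
  have h1 : ∀ g : G, (QuotientGroup.mk g : G ⧸ (M ⊔ N)) = 1 ∨ (QuotientGroup.mk g : G ⧸ (M ⊔ N)) = QuotientGroup.mk a := by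
    intro g
    have hg : g ∈ M ⊔ H := by rw [hMH]; trivial
    obtain ⟨m, hm, h, hh, rfl⟩ := Subgroup.mem_sup_of_normal_left.1 hg
    have hm1 : (QuotientGroup.mk m : G ⧸ (M ⊔ N)) = 1 := (QuotientGroup.eq_one_iff _).2 (Subgroup.mem_sup_left hm)
    rw [QuotientGroup.mk_mul, hm1, one_mul]
    rcases hcov h hh with h2 | ⟨n, hn, rfl⟩
    · left; exact (QuotientGroup.eq_one_iff _).2 (Subgroup.mem_sup_right h2)
    · right
      rw [QuotientGroup.mk_mul, (QuotientGroup.eq_one_iff n).2 (Subgroup.mem_sup_right hn), mul_one]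
  have h2 : commutator G ≤ (M ⊔ N) := by
    rw [commutator_def, Subgroup.commutator_le]
    intro x _ y _
    rw [← QuotientGroup.eq_one_iff, commutatorElement_def, QuotientGroup.mk_mul, QuotientGroup.mk_mul, QuotientGroup.mk_mul,
      QuotientGroup.mk_inv, QuotientGroup.mk_inv]
    rcases h1 x with hx | hx <;> rcases h1 y with hy | hy <;> rw [hx, hy] <;> group
  rw [hper, top_le_iff] at h2
  exact h2

theorem simple_gen [Nontrivial G] {H N : Subgroup G} {a : G}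
    (hmax : ∀ K : Subgroup G, H ≤ K → K = H ∨ K = ⊤) (hcore : H.normalCore = ⊥) (hNH : N ≤ H)
    (hNn : ∀ h ∈ H, ∀ n ∈ N, h * n * h⁻¹ ∈ N) (hcov : ∀ h ∈ H, h ∈ N ∨ ∃ n ∈ N, h = a * n)
    (haH : a ∈ H) (haa : a * a = 1) (hper : commutator G = ⊤) (hns : IsSimpleGroup N)
    (hni : ∀ n ∈ N, (∀ u ∈ N, a * u * a = n⁻¹ * u * n) → False) : IsSimpleGroup G := by
  have hai : a⁻¹ = a := inv_eq_of_mul_eq_one_left haa
  refine ⟨fun M hM => ?_⟩
  by_cases hb : M = ⊥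
  · exact Or.inl hb
  right
  have h1 := normal_sup_top hmax hcore (N := M) hb
  have h2 := sup_top_gen h1 hNn hcov hper
  have h3 : (M.subgroupOf N).Normal := inferInstance
  rcases hns.eq_bot_or_eq_top_of_normal _ h3 with h4 | h4
  · exfalso
    have ha : a ∈ M ⊔ N := by rw [h2]; trivial
    obtain ⟨μ, hμ, n, hn, hμn⟩ := Subgroup.mem_sup_of_normal_left.1 ha
    have hμe : μ = a * n⁻¹ := by rw [← hμn, mul_inv_cancel_right]
    have hμH : μ ∈ H := by
      rw [hμe]; exact H.mul_mem haH (H.inv_mem (hNH hn))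
    have hcomm : ∀ u ∈ N, μ * u * μ⁻¹ = u := by
      intro u hu
      have k1 : μ * u * μ⁻¹ * u⁻¹ ∈ M := by
        have : μ * u * μ⁻¹ * u⁻¹ = μ * (u * μ⁻¹ * u⁻¹) := by group
        rw [this]
        exact M.mul_mem hμ (hM.conj_mem _ (M.inv_mem hμ) _)
      have k2 : μ * u * μ⁻¹ * u⁻¹ ∈ N := N.mul_mem (hNn μ hμH u hu) (N.inv_mem hu)
      have k3 : (⟨_, k2⟩ : N) ∈ M.subgroupOf N := k1
      rw [h4, Subgroup.mem_bot] at k3
      have k4 := congrArg Subtype.val k3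
      exact mul_inv_eq_one.1 k4
    apply hni n hn
    intro u hu
    have e3 := hcomm u hu
    rw [hμe] at e3
    have e4 : n⁻¹ * u * n = a⁻¹ * (a * n⁻¹ * u * (a * n⁻¹)⁻¹) * a := by group
    rw [e4, e3, hai]
  · have h5 : N ≤ M := by
      intro x hx
      have : (⟨x, hx⟩ : N) ∈ M.subgroupOf N := by rw [h4]; trivial
      exact this
    rw [sup_eq_left.2 h5] at h2
    exact h2

end
end CfsgLib.TC
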