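import Cfsg.Agent.EqBase
import Cfsg.Agent.LibTCAutFi22A
set_option autoImplicit false
set_option linter.all false
set_option maxRecDepth 1000000
set_option maxHeartbeats 0
namespace CfsgLib.TCFi22.Au
open CfsgLib.TC Cfsg.Spor CfsgLib.TCG_Fi22 CfsgLib.TCFi22 CfsgLib.TCFi22.ChainY
theorem cY : Tr.all (cenB stp 80 [] lvs TY [0, 1, 2, 3, 4, 5] QY) L = true := by decide +kernel
end CfsgLib.TCFi22.Au
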