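import Cfsg.Agent.EqBase
import Cfsg.Agent.LibTCR
import Cfsg.Agent.LibTCFi22
set_option autoImplicit false
set_option linter.all false
set_option maxRecDepth 1000000
set_option maxHeartbeats 0
namespace CfsgLib.TCFi22.Chain
open CfsgLib.TC Cfsg.Spor CfsgLib.TCG_Fi22 CfsgLib.TCFi22
noncomputable def WL0 : List (List Col) := [[TCG_Fi22.Col.a], [TCG_Fi22.Col.b], [TCG_Fi22.Col.c], [TCG_Fi22.Col.d], [TCG_Fi22.Col.e], [TCG_Fi22.Col.f], [TCG_Fi22.Col.g], [TCG_Fi22.Col.h], [TCG_Fi22.Col.i]]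
noncomputable def HP0t : ℕ := (nat_lit 0x61f549bbc0b93b94737e96c720abf3a6635d9e4704c8edec7f024fb758c13bdd80283170f73b7051e41decf1f19e79df737fc20c459ebc0b5d7fc2a0d58c4d4e11cf0018e647749cbe19a0390d2e8704292859b38cc9f25d6ca8f5e699de677d6867cdcfcfc6537831116acb70724f4c94d60fb89bbaa69e3daefbd87bb8ef041743630202e4f9a3623888a539e291502c8d9025ad76543d5ae84275427be33eaa166697e28c5567984c8c13bce7dbb296b4f8057c961fb1e00739e2505d7f502bd58a27cf97054993b22b3b5bd319675e77f581777aeebb806f0584428e14efc0370d096104680e7e04c86abdcced23ce0fe3d9c2ab2e39543322ccad699a353f783cb5b9fa5908b890db87b3b986bec7a1f3b23fe9234ce75eef68476cfe4a745bedc437ee037b1855e34ee1283c5d587c02957e97a88d982aa6fdf7b4a483c184e47a59d4ea2cff431060688514a8255b3b1f4b1d0b228ad197e0f522e91b3e63ef5f31f56e481ccc2453d6b76ad6028ed7be65bb50af45e58a6790cacef75d25e8fabf70742e32016a4d3e213653aeb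8598e8122da53440f3fe72f6ca991d0262eeaf536ad86f4202253255595c95a6e57b80d007c082a27917576c8028ba7e9aaf836e8772e873485cfd92aeb870fe5f2f496578820105574239c9da5d9d722059c9ae2ef40c52277ce6795108057379f7f483277ed36fdd6dd411a881eddf6ed59d6593945f8098c5f83431145bf862b5058e749195d73f5a596ada50665b8a88e72b7ed8d257f9166f674ee4bde450ab2770cd307c1e62b323bcb46c49d8f630cf67c47e45ca1803a82466240949ccfbcee60b0e9ccf16f9035e80647d6a0bc50615ceee79d7dcce71cfb23598337661dc046e2266f920e7995b3f914189b37f7e06d7056d8d1361c4367daab429968574e08e9e16b4779106fd39915fb1d39f1bf1036e51d4b7198231eae4eccfb232d69e546d0aecc14dd75954e0f0fc81c929bf6f812c86ef2987c779553fb627f7189ad80daaa50ddaae52613d65530c6753888fdeddfa97e244404a7942553149f5b1ec1686e442cdabd95f499b430930a9c9422efdbf7331ab7878993b3a70f63f27b359ab5781f922aa0e2fe1999129054a25d30bd4042b1ff45bbaf027ae7c1628872d6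a3aa628763377b458ab47dd4ae913aeabbbb1b0744c69fd74dfa1164e5e43d540b96b1882db399d2c3340f2f6c8c9936462478b3136856f3b576264cc27119a029f974f2713de4e64be882161f12ba6bbbf2a4862d591e1a84c728f690c6c6a7d3d294bc27b5f140fd5755d7d5680a6b947591b11ba3d2cdd35ab0934057443382531be86ea7defe5f1fc5a29493ad16f5facc24c603be4d9101124b208a999ed49ed17bc402ad81249901a35f0b67e284fc71f63f903c648b41124efea1fda6aff58d0d3d4b2633e5a6f0519c8793466df4676caf46dcde897633bb456b7592afb3911d4f2137322fea6f814172001ea17ed0206913b014aef8b93b69f84a617aa26b650bd9df90c377a81a89564277b70a4d7eda5fe8fb482d7f866dc7cdbdbf7f889fe5ff941e58637c2ddffaf93367d67efd1743c693dd17d91c1b91a3195c6485413c5559e927623bd7c2d68cf16546448fdc9a50cd28456f817e9213dddaaba98270eb0a31d5ee80a52461e685e46c2a8f5f1072f5502375c94aa565f659fde3025159fbd020ddc2b9f0c7ec88788772755cc4adaff38c1d24e3e9e3e13068599db509b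09f98af6573dc7f862b48cda5d550695fd1219679343a5036df57d3a06defc16559123fdbe74a746cce30b04116dec1525938f2baa58d9ac618257ac7e574a6730847b731f41d71dc4737940eb3dd1e5bfb49da2b0c956f6dffc3c3d4ca14946cdee64f11ca4c6200f33ac4b23300e1d83e1999c2423058a523d880d1f7fb9f97c352ec486ed254276f7dfa2558b34f4ad847c6cb3c888404f201f9efc8e9a5287751aec3e92652470c347a9a9416b8356d23fe534dcd44ae03d5053dcd2d94f6c610c1c349817850c9b3c8d523186fc3269d2eef32bde3de5da46002982dc5d19ebcdac5b4817302670d00a06b3b35487b873202687baaa4659b423e630557b9f457ac17e1042a455f82ee21b624950e93d4ed26bf7f206266e8878adadd3f367052b5c1a9d071334666cb86768a843ea47201eb303d98842aa9b06b2d882028e20e5a6c672f12af2be12eb57a2e8e28b34a5e8f8651490636d21a4d6b956d9804a3d0e40f038b6ffe33c28591e1936b8430fab8b30b4527c8e3c62c7927ef696fea3818fe2594ce0378c466c8afe7ea945a753ba4ae0ea51ab0b25a8e637ba04b7f8b2bd5d0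c095ae4d83ba22d295bc4829d6a12cda73cf288c79df64b780427a659b60e9c842699234aebebcec1ab594adb31774257a7cd6a915292dc8cc413f0a1a47693ac3caaef3b561face5ac0046ccab7142ca79376a99fbb058c4a845bd414f32e077a516beb70baeb06048489c3ff791c34c5a7ce25a2d34e8b26d4d085fac3c1e7a11fc364374d33e4ed37218f235bfbda83c1188af883743af9c2bbfada69f590f938ba1b7e5acf7bb094376a7c1db3b2b1ab1f0ff34ea087f8a4cd8ecbfb1254e9cfe3e07212cc2862f631bef8805bfecf191bdd30c65b60effcdfefcda1f80d835676db030ffe48a06f15d2b865e895cb785098e01e17d920ef8a853726acdd98a9a39f58b9a0ccec5d91ee27d9c2c50bf1baa8e2585a431eed26f48e020b8806f41cc560f9a66d1b17f080ce91d63cd1e4b675e00dcad41107d50e7d9700e63ee3551d796f3330bac8153f8bbb81abb6d15cddc4f21dc2f71cc0984a7b58a58fa1ea04e0b4dbb21b1d2768c342991708ca2d86069bc7e0342486a7722acd2e933db703597500e6ea59a8170f73b1b190520b30e12d5650b84dc10bf486c2294a3750c9e3694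5834d4f93bce96ea9f3b1f25be7776495459807bc13b0d045778e940140b5858fc4e147fb9b48a8fac37a0d61bea5af6a591f417f99e4852a55a8effbec25eb15463d4508b907d4e9b78e82eb1dd10abb2e62fd5f44cbd637b2715d8bff992e4fe6f1556328a34b184128de27902ea42736832dcd16dadf0d515443c13fd9cc9561bfefdb877452f0764e14317324480ac0f4ee73bed494e72a29418d90ad720e5848884e0c25c81d0e1a4d34d4da2dd03d7ccb03660bd351f0bb5a1b2476b12790dbc1ed94f36bd6e4903475e7f6adf5bb07e8f9cf09b0d2cd5659812f3a0ab986ab15f00fb56180cddc4f3c844acc3a2339a8943a882cb103ca63305926bd427d9834315e5a9fb0d7f90bee94975f1c0e6bfacbf84022cb492bda693ce02dcf94f27958beeceae3741a7031e0e022651602cb97b3f46f9fe8c2983460a104387920e85f0e78ac7ded363ab12ec98c0cf54111e97659cce6146a63f78475d0178d0e8be123613643c4d595be930638e3ae4ef6269fbec34861ff4b75f69ce15d9a4cdde9d9be8b478be1a5a2ada26c50926a03c7c5602081753a56c5ece24d23f0bb7abad98b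7520593f015ef6b3f7d17e931d8ce66859eb00f54b3b03d94693f0d0ad7765c546fe77242f88b980e1122658494af089f9ff0c38b853937f110990273756d5b1122aaccaa9b6514e8bafc12ac2d46fc848dbf2d6e34ffccb4c06a7e52c503d1ff4558a5c178b62a5b293175d284836eeccaef0ecc489605cc33daaf8af2beec7164adbd81f0ef380ff62fc3592019d6421d9c4cd42329e041bcd174a0d9c8d578c77d28ae6b4a9418001e8d231d368de0e2a69bdca8acdd3ac1099cd847c8943a93c90a06b9cb9bf22040c066c8b2f407f0c8f200fd6c405fcbc5141cc5d2a7b837b385a43ea55e94b99aa4d3ed975127db6b4fd39aca3d484f098d7276a2fc2bd65209a7c30748d6932a4dc7d0f233a63af36a7808cdd45ed49d51e428719abf7124bc23dd81eddddda59e3da5d9db04769ffd8cbf8678e5ad1ae70462a917b2601287b42d7c90c505a062d6454d915b632b558db87f3b3815a1ee4906e1f6dc1046f9ec499af31b9fb34403e6d1a37208ecdc616f11e04213513d815de61ab3b46a07ee00217af70f6a35e4db5faec30364de3643ec3a25a37e0ec579dfd18db87a1fd6a240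a02c5706e31c75dd50292a9b349c9ae589f59389f399b3b559713e5603b722448ff410b00364f39ef6a28a14098faaa22e3714079f1c4b3763c55ef2c57a1d421b21f363bf6d8b409a32acdab2be332eabe77cec706d95c5d03344c04fa78e055116b3467fa755af4c420c2edfecf7644ccb2e1ec5456fbad2d30b736d1404adad8b86970742abd66f38dbeedda8f5deb34aaff58ebb1c646829622626461e56c05916013fa7684e1c2a2acc69038968b0ffeeb4f2efb0deea6b07f7409d0b1ba84adc4094f61d4aeedad4b0c3d4f39ab39cb182aa225db1d0cc6b218e1c5bed17d92acf2a68b04e32f8903e1370ec92039b71f1d90ac15480910c0fb92c3b557e52e7ddb4652e89f08a15101f6d1d3e8f4fcdeb0a4ed53f8261a5100c2319583fccb5828fd0c6b5d821874a73717e7fca9acc9e35ef3bfbc2a8fc75e357a4c4c620ed5c8f287a1f9ab7765a7b0c1f934381adf5cfd214405b6313f216592e6f76fd4704a09b2d372f86b705cfdc675bc811f1e7c4d243f2adfa50bbee442c8277453bd524f85224066716f6cf698c5f1ba48b28d203627b49e31f9ff18556c67ca22f75a1167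fdd4f7de0bcb61e91cfff7a0a8a01d3da60bc144410297970b60da96e3e49fce52820b6911f5338b1461b41713c9f55e06f3c420952499c3fd61ad6dc2da8cbfa8e73f79b01272a585cec25a1fc24a450f579901832baa4b986f47ebdf74187df50af4d7d265ec073b47e55c56732ec1501cc39d6f563d4dfc6773d111a871683a9944a2ab295c5f46d87b111a739200ef3fc7f0b95d199749283d703a20a500fddca89c299e00452065b48af7986a91d1d928e4e6104872973b2605887767d8178c0c006beefe827babd213b8527dfa7a6bab4244ef8a5af42a4811e85dc73eed6e40791f270aa5a251541ddb7b292d8b4ea3e61fb13a98dee6a30f615901fc894ee65f94790eb096a482c57fa8903e4f225a8cb09d0f480edb88087aad50bb04697cf69dd5504e495f9c1543e148ee637611ed67496cbdb4db16584c4eccd4a20a6e35327b5dfc32db54eff88dbabce54d19613b3a99c0f5edf43bd54667758caf65c959cefe4fc838f6c69bebdbd7f6a27d22ce2f303a05315d775a79aa0fad3b1c34ced038b27b1de103746574cbfa1b7a474e5a2ebd887e699ee45384c08bafdd243e5b9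ff4b4e966749288572698ebeec4041c819883d825931e7b4efdb7ca4b8a0678cfa620018a0922b250c58825bc206c23df3edbe014253b50cef32ee3e44d684d05ae09d8c5bea2a454691f02f3f402cc054569333842f3968175ea2a4b8f16cbd81e703e9a86b97316ffc04dbe677b34dd7694635002a2173eaccdba05e6da156cce11bb1122639ab36ef4a678e3e7b58a66a2588d442d6fa4dbf83410c2bb8114c608e115aa147240ea71648bf8738e58231e790af7dd8ae66a4d0a36e868e6e30a5fb1133bb30e5da20909c83ec67d11c25a7dac346f55e5c97fcbaf50cf2ad548fc037143ad8bdcf6f22d46a9cf8eeb8957fb4412b20a6361cbd40854503a3f43c93c13aea94f3d95c54a0b4f7deacdf31a6d93a632c7f18bb08760e426108de1448dfacbbe1999f7df029bc6332fdad79b516076fd90542eab208baf2c0a0f1cd11586d25212542f80081e855953389a8f18d692e1fd190867050b85e7b407f5af7077f322baec8580552178ce845b608b1355220b2cc63af33a4aed349ac8f21db408291ff062662f5ca009dd7a0fdbb482c337f9f34fbbcef91022f8606dcf337e59ad71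3e9313a9caf653ca2b968d5c9a7c1c84ecc47423e187d257fe89d9188a367417587b55baaf5affd213ed7dcaf8b2760d50872259a4ef5f1327b4bd94b599f6b19d7cfba14cf00ec9e8ebc98ec7f8e39c06b2e56d63c557e26ec60cbf8ae225419fa6ae32ae72662597d46642baee58912651afa110464759b07d9b55b9df97e4d60a3512ba00902b4039f230738d3ba9d5a8e4dfa2fbb5e5e57cc7017c9a14050f55ea5c8eaa72fc60df23b1262dc2e37b4d6e94e2fa7b3a6e8e8313e765e69b61589bb424812bc38b556b72db6e8c67456def3f3e5dd0c883ab648dc61632a505ee399eaf69a55ebf24313209399b3b65ec3f0a70760243a3f8ea5cddd272f0507bd82eb11002b93ee0a2edc472bbec7f1665818ec23ace57ae9126f64a815c999c4ca99d26160d582b1ca347082782407d2acb18319698b9028e2e3fb7f42ff8983fabc7d32b649a499349796bcef097265742766c76a5ab3c2698e50b9db1a57ca2ee396659971df1353335235f263bc6b25ab1916a03d730308174cc07896fd4348afe99762f7a63e13e27bb55da897bfe6823af20cd428e1354f2cbcf485742b6467f0d2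19934fe78ea9225e1d81ef88709c53f179b02274651848c988a6e12df5d38b3a78d5edca721a742c1ee538b4ca9b4b7c570201b9582879d6ff9c1e1dee62d19da8dd4e5588ae23ed423f1b74762316cb48f63c66d50f43b55bf387edc68c354a5d7aafedf3b5363250aade92ae90adcd90041961379648c4cd99632e783327a1052832d7b014e33feff78bfd79e19ea4bbd1dcec8bf8e89a980100110bea57ce8823c29bfe42481a700bf30af345c7b9b1c1ff45da96158c1ea849f49dda6b8854dce0cbc0736ae328d74d725af3f98732ba13a05feae7082ee9b68de61b6b89951303fe873897700b8347f7dd1d71367c8c58b32038f26b420e4016f45677f4ffa214e2f8abbccf096f557bbb4521ca0368f7a2d8b478de6f68ed5a56dd358341d6567b32a1b0a5f4a33cd22491eca58728ec6029cbc01369d27b8c172991688f61c417402b1b14ac6f21c300827d0d996bee92d1ffbfcf3b87cc5e4279df8b0fd28f2320ed8f4740f5302fdcbf64863944ae56236d2e42079c1b4045c5bcac1fabc9176c4b72ac8739b0505e1cbbd0dab8cd19ba4704fc2d9504ba87bf5eec0fbd2be37f9b5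ced30986dc4c5d6a21c3b29d7a3ada8f39affecdd3d9233d7bffdb17ee08eada799ebe9cef8bc19bdeeac5632b1d8ea075799caa5031c14a8bff786b2dfe9a01966413433a52db8161cb0376d366a115c43cc62055204ec030c014a31dbdaa03496dcc2c308f01854e57bc46504d5f30cecdbe389cae254cce4a7d86394d6c5fdd0fe602e137e5af6b916158631abe940fd3481e12fdaf34b82b81789ab9e948903e66f18149287ac5730bfd6309363fe8daeabae8042a25bf1021871b08292660fed029bcf42336063473adbf3d274f729c33eeed1d7c4bce0d8614eee8cde32ebdc200783e0ba2d19e09d696512508fcd1531e0b948a29002252f6dbe37e13a663f98873915f9571f9b52f559f633a9e8ec1a573890f8e9aedc7b0d67a8d16bfe3d7612fe9beddfa75a546b3daa710f8687f74a9e9e773fc9cbe08de735f47de285feb089c597d3ebdc4a68f0451ec348284999dd97add85ee2547cc789f6df1036079a00ecd5028356e3d9ce4e99867492ca753b1581db64dd5d463bced5d60d0fb23b60c0437193672fe3d1eea6b36b66a6ec8811600d7e74f94bb885cb94029592dd521e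568aace836a83470fa342af49a1385e476491e00070ae40f4298f5d3d0238a8cba8d594679a4e5c70073ce2a8e0b7dae9fc1dd0bee24d91c21231e2204c5426a01fff20f820fa5bb1d2a7cd2a58b8f6d335158bbc36e244d531e93d98172b9b43914ea83841ace78891784ed34ae551776522befce78abb0cfdf1c094c74b5eeebd1f5e9e5d8035e6365ae8e91af24de5810085b292c48005e6fc5706b78f5feadd6b8ebc3034b0e3e5fb1cdccafe54ba4bbacff58f107be575200dc1b685475d1f8945201f6bfc2d2a09687d0c41b6a130d71991871876ece9efa26a0c55a6cbaf23fd2d402c49a3dcac09e41d34e8a0f1fab6f32acd21caf6ece6f02fa76f296a5671e9ba4cae3a75b4c53c167d7d72704f7c2e4eaed2a292ae254d758eb184377d6cd094e6724571ba15294ef9011d840cc1dd2224eff160a646639cad2a72f5b842ca8ed0074bf472fb6db41bc8e2bfa3b148014713fcf414567305fdb71428f820a5bdf957d191ee2933a7cc0a72970e710e1d079ce342af92439782136b6bc7b77512f42da6483149848df3fae54f1f7c47a82954e1b3986191b0f74a35565e2cd8b19f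67789bc4d612aee5d0c05a2f8d6c801835a413a211e0bdee96d4128bc2f0b7aae88e4b74432da9e3b29974e3ff1b3cea63e3d06ca920fb18f92b73f2ef95aad9758092260281ca635a30d90651e859c91bba95e8376dda2efa11807f211610a1b5e33cc642b62315c177862a0f18ab69640605ea5b5270afab2f71a331097ab8bf397432c03c06fe341fee7d721db5f83c41c471bd4942ced52d9f0401fa26ace412b18720f9faa77ff69e2028b5658d9590a9129c45c1eb35512d71cce4fe55c05cb5b3e5901a4639d3c7433d8182d5496314e929cb43acaa9075fa08f664e77d04cdb672add9cfc53d32d4fc3803a78298e1460027f4d20271a499ea39fbfe6d75a6c70ac975a5639126a8199ac9d867a9742f5e90480433a074f40e06e8a065fc95d39a663bfd7f9ab683783b83747b938751c118a23e2bba5b91b02001a40dc46c7654584fdf699cee92c32e5d45dcd10a893c89db646ad672614ad2b93cd7f848f58dfe17922723582de42675659d7aaab1379ed6b42e01f814fab0677d073c1b7147f976e9291620bb685712ed89fd0d9472fc18e0cb5057cc969e3272f554508097ef5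ac55ab59ec2869f808fddf0751f63134e4e5543e4af6a6758a22ff2aaf398296d4a4de5ffb98c405535e639b071adf5c3b636ec61bd08aeed11b7497ed58a7d26c941ad3284a255a84021b488481fad7b8610effbf7496fbb765686ef16cedf54c7f1eb154ad6d4b42c54703eb29bf645ac0229af960ebcd78b2381fa38e5d79cb969c22aafe7549de983430a3c62a23d12a244debd374cb26b30e9526b34926708a6e9660d44ad4c0b860095f23199f85a671ce197eefbc5da637f1a91d3a9d46a672c55cd9d7adf3c6c701b9eb7cb36358d04a16d0868438cfd203e7addb7411623b7cc38f82e65a157e08b3647baee36fd347685e97063090577f9f7e54234d34c1238e4c499b57b9623d94d626cf5fc1e7236d7ad1e83af512e68d39e37e2bff7da5ab4f552fc5ef30737da3ad74c6729baf1c4f93a7843df29c308a007f7bbd4b1e800f55786966c9e92cab25626faf078631f2fbf7bf75f17484b07da2575aa758f43aa082b912fb623767cc7d20fc40a85a60f25f13cceb58357402bdcdf71f646fefa133e650b98277ea6e615c9b65a0d05b8701213106e33867ad23a0bdde24f31b0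611ac2a70cca1a3ba1c4203a5204f284bf192e3133fbd5189e2aa22d6d9815a67f77894d8418128a3740af52bf7595d7cb14bb16f6578a7ff42a2c553c9b40965cac4766c0d73c830c8cd5b482d90471e75cd1972016e0e66a524bbe87968d54f6cfe8f2fb4fcab6dd318415c856205aea3a8539b5fcfd6899b30e5ae798779d2d5c864ea1efa81f8d8eb75e469300b4090def05853b362b762feef6a9fd0516f37091a3845bfcae220f74b3aef862f1d3b912c8bb70f0e02ee1c3758ec30470bebf9b01aa6afda2afd4268786b9272c268df63e71df7f3865af723cf911981f540300244b2b286eccd378179ca7b33a199bc769e33dc4163281555019c2100f2e9d799dfc14dd8c163bb5cf5f272058f4bd270027a3f344e04786749834fd7e8b17e6099b9dba2a5281d46ed005c4285af980f11751078da12e0ee56d69e25f6693f2f812142ac6485ba5aa4ef63a4f8698c36dd459f06dc4fc48009f56ca7e79cd038f585a2a4eb4c1dc7e05dedda007010e10ad6bae10fbc7feb9d1f4002bab3869e3f28e5d6da6f66b76bf8c915d5bc4112bef97f67a3980d884da8fe308498750a9fa3f73e087ba691b2cc4ab477f564e36cfca3b7878da)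
noncomputable def HR0t : ℕ := (nat_lit 0x456ae9ffb25a01c722a91f4a9048a0dbe30f6adeff09734238ac0907e645419b1850f18ab5454659ed9bdbfeb9bbf12126ddd74125b1f36e4b4b314dc674aa49448d9bfe77fb99105a8e9923c46c62ccfaddbf5d914aa97c9a0e105e23f7d174f78894bb5964b7cf55238d0e172efa3f991ed06298ad857a696511375c05d7ab4e1413ac09c429165ea586ad200653866043eae94620fda70bf400e56fcc47504f512570f1682a800f7cd5b4adead2ba5332ad9073fe54cd3875cb5f91c6041ca5be8bb17b46bfaa1c99bf3eb9d357808c9db28c6abb0f3dca0def9ac6714664330778c072b2c4246ecd68947b3532021f78395b9fc22838e204c0db239b059ef746637e6e045108c094d3cc46e5a06a6187cce6ffe327d107e833de46926bef4eb55953bbbf2f754cd276b5759a9ab873b18903cce6cce2f788942d04cfca1ab2b549696606dff9e077dc8e5743687d0d464a0b37ca3da17d117d4c754600be3c7c55e4f7098b5c8d5aabef198853658f900b434eb4d83d6802fe0663947de634bf9dcfb3bd050ef9e42f00e579ccd4da9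d01f80dc8d84036d4fd7a7a0d3bcd1a1ccb478867496654172de67a16d3600aec05ecae7583a636456a3bffa004f09541ba83c54240c74922c879e09090ccc62897b11117e20125009af21221772565f44316d570f7e72e0bd971bc02880e6a9f9401e517b05c16fec071eb534426f86efa819d63800bb0d70b63668a3322cd6adb18b1a0ae51f3f8b5a6d487a0a7770331310adec506640ae7e9b62a4ba17ce89f6c734ba94a55c1efa0fce8bba8536353fec707e632dcbe491b5e9dac7b2bfbcf0a272393ec53d1c5d2052366707342152b0ad43fcacbc2c581c41b7f673c9961ca8547b992b09046098bdd3647c27546ab3d0efe4dd30202998364306590de25e15aa6a000d1a73877468182e83dead5d8ff8b46e2a3d1afa6efd697c93af018ce93ed4a3f42a48d1278f23a8ae535e075e8b658c9e64b3ef9e7e9a75dfed1598aa9cbdeafe7d2a2737931f29d54f4cc83646526abc36f163e37652653dda05354454f1e8e4399848e33439eb58c64a289a4068fe91152c8ae6919fc78b54cba26b1f340f67942fbb868a7c20e020baf9e5902c8888435582be3af4e10f8757184c6643504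8e18848e906af812e66dcc0ea3bc8dd4b0a3f229cef06eeabaaa313e6a2c254221643c2b3e58219b8402e2cf14473764bd1e0b5ed54a1569b1b28e567b8d880ddbf30a7f8ed878a5ce3986f7d61cefe2f56ab12e6b72d8de924c744bdae2c22aa5a8d8b02942f2a6f118e0934dcf1aa20235104346098b282a0ba39d0860634ff073bc20c32f77a6933448bf8ce1d01e758694a318ce0549bdfca87c2cfb10adbc6d215cd38044a2877954d1c65ef5947dcc8625e068698aff450fc70632cc35323b4ce7868ab3bec8d4bc3a5b3648ccb03d9d98cc9f62c27577c3fd15322ed0c13ceb6739b40aa62fd8bf17eb86512f95dcb5844113162e2c1d52554245b3a325ecebe612e95f89285597c57435ec449c7fc5f00b9692e57427a6b91d78022bcdc35963474f34a2e25b62506918fd8206a76a55e826137323a8203bac3f8be6fcf7d82b36a039db084ed452571f3e84388f81c3385f799b4ee405ff9b958e678c2ab7250ddd8ded370f79a0e800734cb3ada409e94dd07d70ab9307ba574f2697dcc4cbb68a913a980afc7829a38bf77563130116ddd934cbcb5193e37978ac9130bae625d17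baa1e7ce2c6533a3c32afae1e4b80a11393ce893d94981cdad026b7b2d5b9f005923dcdc1f2bb7d4e5ff6d77744855497ef2ce79561f3401a2554314b462fd492a18fa20dceb22e528ff18c2b1f23eefaf5d79bb29fa6b7b2cb5269157e5eaa473d82765fceae01325f33edaef27ac61c033347ce570c2b9c554b8112d277229b8213b967a6beafe3ac082b5f0c05fa0b9c606287d48547076430c7b96554fa9410d8e802e225a321251b2cbc0a513e1e02a38d2bbcabe8cfd46e0054ce02fde26010fc069d841fb0678dae414562b0fcbdcee832471edad1e88dad846fa597322fcec7a5fe3f807b8b781ef419b43f0c1ac0c72f4c2a7e8204dc16f232e781ecb7e9b49faca43e4edaee76abee36d4eb688ac8bf1b73025d5f7fd3d171878d270eb49e277ca2d98c51fd0bf798407112af49691c27f37df15d88cb5c52cfeb8144bf27e0da2bcac0834928c5f7d34b04bf81e54676c90758f0151417276af06da18f50c2dd4ef938d03dedc732d48842129643c8c20f00d07f26b6ff5657f3b5ed7e15783f3542d26e2aa5564737dc40b4b3d48713ad1152f2af2d508a83f4ad49d4cde91f33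246c7bd010acbb05fb4ccfe3350bfbd75118903b6076be837a1ce6ea5d3c6ef5feab388af879d62fc44867ea29b2ff312520ad39497cae1ebb55b62afe2759550d084caa3070d470e6de5eb73a40348231e3ac67f2bcd66f204e896e00d248f28515cb11d83a4b2a90484c40e4a4b601bbb418f2da842ed6bdc0c3f4094bf7653f9b6a5ba8083a6197a4e188e4e7b1bd616eb573a86552135e522a9a33c812b6a87749c7f795ef5d6d6b2d5f1f996e0eca0a2b80daede0174a4af5f6ca78e3acb708aa2b459f629412568cdb8b227a57d4c6c37b9b69c9322d7ba5bc7c1ae14bf4d822dc9bf57fcaed0e092cd32b971a149e31d0c7e422c8e04b99d41b4c4569f4bf4edcc011373ce7e34ae78b7614c11bd7988261e06a66639847cc2fbfcb2e0392c520959814a9da4454670a94436454cb386d137fe60ed11b166cd3376eb5180c85ad639855d2a4aeaad64fe57e6f5140c3ec14bf7fef8bb6b81846cd4629d0e0f0a94a2d9c46319923a27bb36114f93b41c27862af4c3bbc87a27331b59594b579d6c6e567803128dcc1b13318f2fb6e65f403184b6b843d1e6ff75053eb88971f68a3a9f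75481c2a900e972512cd5c59fb4088263fdd374e83293fd0ff2d449d1206b35cd1e975c66a929259613f2562a5cc56de5f4c01701e52ab9613b326d8f1878d3bba3440b0b39aaa73e097de7f3924493789dcb3e78ec17d237da46abde6b9e61b61c867234b3aa113a5b3cfd4a4c66a6de6ae64bd5310064e49b961593866fdf522d9e4f96913dc800f1df236f31bb1fd8b7e0e519d41ba239b9d45ae8254aa39068fb7723a77c0ae6a7d6821b1e366b51cb974897ed3b6454363dea660f1cabe6916b2aa6fc0d45d47a6da4e62bfcb574d074643d991e2937807ea489699e7a4f25601c84b63ff7963bc353e94427194d8fcd166e4a6ad01aaaa8d39f564a4d190181d3d0397f0ac6603fcf9c3aef056f606bc5967fddfd9e275313871eb3f24c63c2e21bc47bc6ae2fb4b0367881fdd3ea23230cf81933b46cfe0bd10809f7c8b3d19e7accf720fb170d0d4de3e82b8469b89c9fb8f4fe8c796cb98e81e78c734f83c3fad1b43a8a99bca74048dc81859cac2a04652e517baa562f161c8599ed7666ec1f20cc935838ac2e3976165da451f2c21da21f01c3ab4cd3e72eee82906312e025dd1e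dcf278bac02bde55e1a828f9a5e4193a2b52e189cfbbe0446e7833e30d1b0b2129b2ebf8d7f61f5790d99de594d818eef2cfe94cdce4b969468569eba35139c88d6752ffe90f7ce3332faf3a0a0677fe6c291aaafd6512d2339d74ef3e622d4bc34cbca215bd8151495ecfa5dc622dec8b43a24e24f252fd145439aa5498903997221ae880d247a96a39e02d589aacdd51c00b19c5dcc066d0247e323e648bdf21839cb64741514054ae01071edfef70a73e193e611136df09244593a9d1e5817f2f233b335495e83bf5538b7980232b2bebee081ac9e25823bc7c27836c88a297030f4bf1d7f38553594f8acd59a5020372ba66c655f0c2fb8081af79144f61f2b82ae535d818968f540bb1e25bfd65d66f9eb41521f6f1813fb202632f8afdd95398ff81869d06e9612a418e8c54d5a35368abad535acb611214a91c73c5832ca10d1e11a3002a4fe865f1700f71e3dd551e11cea32254f6ecb124cb64b73e6afa365d8da1c9c75f471ca0a0e33cff6e920588fb6b63cabfdc70619a726dc9baee36c8d9f4cf3e6907700f9d97747162fef74856eeaab79c7007653708947e56faa95533867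a7050ba6b73e9de6c49c760fc858bb31676b6eb63ab635697bd8f5358310c5677450dceaa8c269312fa1ddd5a4e7e849fa2fd745598b03023e566ae2c83631b8d6a90969795292ee6eb48c7765d54d8faa779651dfdf475c443d98036173c8d238c399e69a3a049a50117ebfe6c4e061b739b9badd7cb0aca12bcac177a62f2f74dfc76c2941dc8cb6c0b78a9bd8a52d537553331dc0e6072dbe651588beefb965564d29ad172a460bd092395863b3f81ac8aa07707eb798ad871f028f37df8374980bcc5110cdbae4ef217b5c29e6076ad47214c7f31c3ac0713f393c7467509f719f2efa796a41a6e6ce4c4fa433f432100da6ef07d5e4aad1ea85d3dce3810d877631c0611a7a4a4c8ebfe3d4d0db2b80f60650b84a3659a37ecd28d429a214708d2b36ecc499ba92b00073a48b4434d5f92589732eb2f2d4581eb03aff50d75c5e3f46679f4868d5e4fdbf43ddcead73f1abc264be0dc44d02101827869975dc6caa70664d34b70575cc37c0d99f05ac2cb53044497f796594a0c8acc58dc0bc7abb4558692f2e98cf517b88a5213a2f2fcaee40be592b9e535fcc74d6c8cd381f73b96a0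660129df40719920653490de967648e0021e8cb573bfda62d13821dbfde2c4ac9036cd07cc0a5c6b086028d1e36d5487f21b5734489ceccae3bcc3e6a9805cf17da6e4845fc24916878a1fbaa62add8b81fbd3256eb03b834b54cb328a24997743d833a519ee5fcb53e7fa0d47ebcb4b007fb6f59d8f16ba2d749c1aeb98ea11185592d49b7ada728b53a43db0ba68c730c24c2cb6f1993e0a0e8b0a86e53da0ce79cb33fc416d3780828bb9f7e540365f91eb26b71eb4269aee6081b007c3831c3ad62bdf0d70e6f5241381377e426ee961e5346b660fd57074257e0bd94dab3fc7b58155d144df9ea394156315653cbf1b344e87aa4e062993def7c94f3320febd3d3e6899561404c12833104c889a97ecbb105bdb087f4b7d6649eb28b3febfe5e2a2ea68ce49b8ee9cc055fe13eec78c2f21974c03546d8be81c2c05b19bdf73ea0a9ec3d92f804ab0753012b59a13b4513d278ad64f046a756c0bb6cb165bdc6400a8c7dc4e39287f5dfcf9c3102f8294c81fa5d906e81182fd0f4cc3248f1fb8b52455259f3ecec2b2226c7a5c1a77e0172786f9247a542e35f9ac72fddb536d4447fe5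3670443741d4eac04aef8a9bff3b1ef750b5f057f974d9c909b1c91263524d8dbe8eedb53634b518234fe10533b49f0190e7c75d15e72379ba531b303861a94ba60083de35d1f2bda0cc2972347710a826de37237358a2acfd89f8cea8a9c3cecd54db56fdbc90abc0b469fca061e624be7f853350726f4134ec60eb40077ee36c5193822e9f7bb8397588924417a99aeb71f6b1f70ffd6e1d4b812edbb78e1869b888b078be268bb78b5715ba7f150b58d298adf66aaf48419b639e727fcd8e4d9f020afc357522f6be086d93e7a13f0d0ccfa75bd3794fdf3b0cc55f0333567820627d0b7ac701fa2b577dfc5ffc044b5481a8d6209802b7d3c3ca8514a9df9a732eccdf035539af074e19ac3e1e1261c349e15d19c9d71b6f799e1c259265ea635a5b9b1a8900c2cf93d299eaeb52a54ba03694c50f16e1aeb37ca8ac5218fb8678990056a9577dba6a511d4d6db1bd76b19a9c52fe5ba08a0df0709444a5366c758ca317852f2b1c4dea3231186797d9eea01e4e45d9ecfa4db5c2fbbded9579e286647e53b79c6a147e15658367c22a6a0af8b48af645a4588d806c3db143c4f8586ae1b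7470936c399797eda9efe596188aa56badf958f55cc86b856408d6234d5c6a83d431729890999d8cd888b75b1b88e15fca4da94a4263704e621305a50bb610effc11d6cfe0f0c43ce582af69a4ffb83ef8fc4a4bbc3198b5936356002995e849d761e758362013b9c718e191ecf65e5647271537fa25550f495b5c2844380d056c3e299ba2dede6fe39ca56454b7ea67231e9ebe255384377b4a9b420cfda0a828938ea4359afe70fa6dee40b94c769fa8ac46d00fb26aad1c78bdedc197232190619568b7cc213dea087d85202996eaffa95a38c4f178a47034ff008391fcab5d15710f08874b32c71ae30ab94c2a41912e3f9dfe3c8557d376678e787a9313b0d6ce596bd4481633966df45cb88e894bba3046f0a1e25c34ad77b48856ac7eb2aa22540cccf1684a4a8c93ba5b00fee869a7c144e3408f58a1e94d2af88a8088b12e62596e764fa74fa7a3a007f89057afd0028112c1b29708213c0f59f2f64343a626e473f7332e8ede7eb56bcc6674f4cc9dd2693ea53d8eef04b42b7de1d8a6cc596a0db018e01cb3a292dc37024ddb87c6eaa1b8bafb0b72b20c3cf827c5c4884dfe113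ff0167aef47d3965e781f2df89072688e9d0a0a4cd9a63abd9a6388f6ac8eb02ad047433c2912e5b7fd3350b5a03af1ad45f4f25cadafe8ccbb3369db8d71730347b6b11eadcf34a69dd173ce6d2bc8637fef4c97206eee4fca754bab4002c285598343fa3bb16dc539a9260bce92e5dc055f7c48e6f1e900e0ccd25a02a21391cd57de48fa10886edf622d110879f20699eb648b66e8f85eca6fce52a536fbb5bd6efbeabf5eac16885bc1e0e1cd24f9ad59a008c3e4f08656d0f9625d6c14d700fbd940a5d0efabc71a1b8b30a93743136753fa7a5a5a60b40ae923b798c2f9734227324b866fbb855b16c11931528b0a21951f6bf43e4d2f652157670f85f95b149ae151debcf5b3b674f2774fb21540bd55a593a291ce31af006c7c1245545f2228fc5f5efa8317f84c513dd536705306b701968b5fb4e3bf59a0fec983465278751c781d5510bed746eb6ca4360bdceb3c1938bc693f3e53e46cd863e50f9628f95e7b62a72d7838532cb1eecfd18055cfd499162d49784ead53367409a7bd2f6f6f2a7d2c61d8b6e37fca9ae35e9606786e968b00e8db9bc364b99e6d892d05653e58f0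4ae2fffa6d5b73ba804c38fa988f71f15ab9ef35e4d4a2c1e0cb62f7a141933cb1a1606fa06d4e0940394c171b2f44da64505ed3053d9151668a7473bd64e91df7df33a7a3079b847618a41734d8535b40636a47e48a978eca93397c9086303bb350f856a628e0d3e0843c57da7576d2fdc867bd3d252fd17a802f255fce1d2a4f7f9490a3f2ac0c439ca6f7223c4f700aedeb11ddda9d1b03c9b28b826a42348ae449fcea6e432a123da7278b5765559bbc003464d1baed5c405a79684f915062e7ae730923dc79ae6d45e581b0ff77e427adfbc0fd94ec91d4d4e4a7ceeb5c0a56ea7899a91b229cc3e546b2760bd984d9944dfd5eb259b34943b390a69472da5e8366913839e7f3bfe1defc9ddb2bca4324f94a18028f1fa13c847c9b9597e2385200cde14b5adaf4787e8d9d9f3983f78f30506f243172df82a902bb755daeb27a6a4aad2d59d23f72ee79e13bdff73f83ee739f5dfc011be3b9fd6960a106df127bf98bce27611ce79a2d786ccbbac13d54975e574cef0ed7e4451f5f774bd7d03bd5facda743f9826af368a661fd44c47a8408508bac60231ab55a46ea4f611d195b842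dccbb483bdb9a7597b93836b8838263954aec87dc37580cc407ff6b70914db9d0e5353e67a689045bc743ea0de4750ba11516212c743460dd347aea3b235339f7381ef2e539fdfb8bd44b08e265272176db68521b1cc8c1c4dd03608e1ce15b7e7fde3e37dcf9d4ea09a26165ef1ab7af6a78c6bb9d9c81411b16f2f2d8f018441d6bde34f8938ec09764fd93008e07845f9fb2d04b19171cca7f36692470de6adf58fb73a55dbcbc432545c119bbc78ef75e65fa8d60d7f26a56581e8e90a30892460f0e608c886325533812a9bea54768a0d09f233399b64f7f1f683af0221a953623d2529399e90606b6be07700b9a41616eb8038ca8fcc066c06212d1a23eab24d02dde8dcd72580aae8b35cb8a5f4b6258a7f27c538bb8deeb9cfb52b4ad055b9ce10750bac9a4187825c74d9c2e4b4097148cce950e8283111689faf9222bd8394832c4344b7b29b24ec49ef023c287261fcd9bc2eee9f20b13e0d820f778573993a23161c65da840a5eada897f1b861524ad4b7e5cc67d75dedddc7b50f2ab10b34f236c0c109be727276dc24d28d5515d4d3dedee3bccfc6cadd833cf6c6ba86b5a1e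0e10514e2e0e699daba433e6451f3990bccf1dfc583e4997c83d2cc3708ec0e05e1a73a7b96883638b3058fbce575234294b31b37aa01eecf66fac65e0b96b8211a12759e6ffc1ea834b7d453266a2900469618a6c11d501d89b260a4597cf8b5cc11e068272285d6ef0785f14388eb0d17e6ec6d330318b6ded4993b22423f71133401418970b3efdd6a3b5aef8bd2eb212d9c091e98811e03d677b85af60dee6435033ba112076ec909d74c079ef7aa1eeb89c9143864e6696e093190b13c4ee0c5413dbbbdb610d66ef7fd357de8e2183465d607124b09ad2e8b6467d75465018ce6dfa28aac75a909985aac0a47150c75e1a0dd71a7db208e1b28f4105ce2a02d4d1b10b01194c925643723612b3d574420de5ef0770d3c50daadb32a1c7224c7a08847a1c0d3817e390fca0728629d48b9168fa202b68ae02b9c3c5229a3e90b7489b9625405395ea47f460c7681f88852cbca55afbacbcddc55b8d3384d64121ca68c6bb8e66d27bb15a5e22386a14bfc1b579db8de7b03afe99d632efa7a1c911c7d63333e55284459e326150b531a4c3827c050a52e7d20c38f0d7d47e477d8842cc6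61dce3aa573b3947fe4395d3d0bd5ca7081926751cdf8bb5a73808aef60356b65028abab12a4342d7abf97a14c3a8ad0a07da8bf8197a2fe4aa2ac9959e61e03ef3ce546c018eed8f21dc44fc91725cb9d81dece351c7aac19487610e9ea4004192d1510f29d1ed6d78d39749e25f8cfe611940e8aff2b14502ae4966859171f6b715d6976f143a2a3969f3c4dd710e6a706422404ac4d9c490e7a1f2a73c3af44ee329e03a087bfe3213b6fa29f470ede03dbd6875913df1953a86eafc9089164248cb6596329e11bd836337e9adea192572ad7e1108d9fa619e8c23e3f2b849aa446d48840a049173798f4f3f352eaa922e30a3c08df97e6b0b28dd40cd5bebd618326a8cccf803b13f91ea0efef49109f58715ccc7067f40f8c193c6daa599dd16e475ad441f719f3032db2ee0f5d66864d739bd581ab5a35377cddb7f3cc30e46b02cab0a91ab0414cd2037ef27b6e44890d8529036a1a5774c4170f1248224ecae01613a9c6bba949b866137f1c2ecee3ced588d9990257918094e80efc693254bf3e941a524ea69866a55beff5f933b9ca38cae5b919ca8ed3de1b880320edb1919b4d4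ef1ab69fab582de1770c7ff4355c17b127814b0f87d0e40dbda4569fcf468e2a54cd5b30e37e134d4d63bb13f78faeedf2288407e37cb0a8545a867d0c9f5f9d729e862b7c2327cfbd7e098d83970d74d7abebe4032e0d1899991ae7a7c11e7617f59cd07610a3cdde5e9d7b63f27c7f16503b7708db04d825ae0b3bfdfde1c3d56b32f05d577aabba3969fda895d8e2e3cba07b524ec24ae8806da88630506f2c45489df5355475e754a4f45a50c7ef5d48381c1822e6b27fa8394e1b2b28d537f4b0eed41d371e270c58b47f345c243532fdd2752167cc1469e4cffefc46396fae28e71b99ec859471fb219975390134b3d2c90db5f6675b2a59c330148b26ed9b39f09175ebe4e18af3392199a16f97f77cfdf5e0739fd8003acac40bb915ac2af343b8956bf64a42e1d797fa49a54b4dcd5ca929025eb0902da02c4caafb8f08a0ff2d4ad5be6793c98aa333dfd8977251452cd0b0d1e5db51fd470416709fabbff2e4f1421ec6285e26378b423e12129102ebf831f12a5ea87f1b53d4d0299503cc4caf38790054bee406d2cdb1360794b3516aadae795c8c8232031472bc3e826adb2faf6a81471f987e9776ac5c864eeccebff06e6978)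
noncomputable def HW0t : ℕ := (nat_lit 0x245a9b8fbd9176e7682d64c61d799bb9040f5a6abf766ecca5b506d20de0009a28c4016a14dd34700928a79f3ad82fb58843b8b7a8a5ba6037e573acc39198f8533e817e8def6c8ee8cd19d90bcc38afba684e118d97084d89281a112eef333aa583e7bd7f5c683f50ac95da22d8a2df8aa2e3e5aa1a046746a78ad0afa0c26cfe408adba2ef22270170f085e2a1b0e7c3ba86c08d6ab23cf7e0f7ac473ad277fe613911af85c8590507f184c7c74e9e4221b0383c0a1fd111e24a891f7d3a0bb15ee6605f2a5739242f1dd84a603f751515968b64f7bf485bed48f34aa88b5d8820d57fa06ff7b73adb0fe06a0216b822a6ed8960ba9793dd576f95e7d8ff6764252faa5b9678bd7f73dcb015e95ec92e8a56d442c65543e146f7963f28b55f8df76da390711752e1fec82d27b0b0793cfb2ddcaa4953cfdfe6330c4afe315a10bf02efd2aa76c577d2fdee8a02091bd4a44577eed91afbe3e427c4945cc51b1958b3f45778ae24cbed1cb48b3f5f6c258217fb4c4ec925d78279aa0be9534960e2f78d3e91b4102995a0d01a5dcce58ba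95de44528211eac8cbe9a42c426d8afa0bd042a3b26ea8b2d9515dceb8cd0ea69ead3dd4ce01c017d7f8294d62494df090f1928e631170173ca5d4e4b5dc714e9b6d8900e2977ab9153a2b99d5130648471b746d97740fddeb4f576ec46813c73b79fa1e4378fdc994afd00891f8ec9a621c1abc26b0075ad6181d98cca6ba54b81977e3e781e08fa271ba8811f8e5e856302d78a6442a11398c57ab5ed160e32e52756e381f92d7424a3332564dbe2af31e9b04a027c28e849f3fc91e4468c37ed915ade2316640cf58ca5317a97d2c23d0f1e7111261320f1578db998523bf2275281c29bc0e9d0f91765366715c3d2b91b2a66bafeb1cff32bceaff5fee98f849e23bcf6fddb8046de36d641a23ad6440cd89c72a9842586c868939d424766ad222465e21767d74fa12100fa2e9a2268733862045182c7e9a7545dac5b999ae3e10427adad41cad84a96748b4f185a318905ce9d8241c006d3b78eba00682e2a484ac26c1ec58bd39198a899dc0d87835b194605de5194e4de5f3b981af109af9188ba6f25599eabcb0c9d29b57202222a348143a8b6bbdcdab5bb8260f02434922e92ff56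cd8d0d3498a4d832ac4574b11c5b52b833fb283b683e8c7343158c3f948e7d00e86d88f2fdda0d398f13af78f25bddb75bc4ee521218ec79ed512f3e5e8f2742f695ba19e55666bccfcbf990d49d621de57d865e0a7bc42c2ab4bca2a7f65968dfc09c1fae7daaabf9839c378e72bbff9e659cf5266db87d4ed5607b0fe3e18c3054cdefa136d54ed1498b0e82a5b21354fcc9c45622c4d242a4db35c2541e19e0ad7596cec3dc130b6122ebb72aaa97f7bfe523d83a09153dbf2411fc37908a8bdddb44e4f90929a62e793778ca56058b4fc1d46117c9617e094048233837af2e9eb779fb77643aebd2ef8ddacf67542c22f1e8ca87341bf98050fb087804a1ee97162036c82f3fa3456192e073c3bb5ff12514f681c9e9a7266aba3bf14a8b1d6eae4b881c68f2d7a20500f875ba1bd2c1f7e8e4d6243c9d9db60c68e214c73012995478675f31d54d66bffcdaa6273e091f3156a93973d6522a1638d9d070ba03ecaac36468898aed6c62588f9c8ba2356f8e2c5bdaec5b23b5233c56eac2b02da44814b0c8fef693513183b283edd9c236a72f82276c1a04c2fdb823309c701c7a0e705e4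baf9edf7ec5fc4db48f674e29e1d668bb9f33d06ce152cc33eedc899bc16afcf03f6a54e60622f8004621a75ec3d32acc0f140b9b42bfb6aefc15042a09b3f936096463f80c3d5dad052dad0b1e3efff517e838e538617e3cf18fc15d5aecd61fa918f1965737dfc0041f974bef43e9a35a1e06a88f04754dd9b14e1d5c060eea469a2bd547fa6feddc374ce2adfd2b1b37ae1d8d540374972c83ff1a66e09cc87cf35ae777f0bbbd315802331efb0c38217c797d395e3aa29b183a1d1b23abf86e45304727cb4ea3b8bca887bc54f0fe94a18552f975d66da9cef3bda28af9b258789fa3da24edec52d0cc74dd62d92e8f65239e95b1ea8de67c1da5ffc1d5e4ad88340c9b42878dddcb2cf4f196c96714a7dd7d756a1c9369baec0d0f8905f829320f76b81628c36155948cf2896b2dbf31f97dfdd9cdb6e8d2680acfbbd73f1ba7aa07f19e7383a2a262cfc94823e882f31d809294d3d7462a73258043fc64e4a989373c751097778fef484227f520c51533f77eb7ea05bf1b5ac20dd2875ed8bf13e648521bd3a72a15af8d8332b8dbc4ac1fd24cb443d25ac6da771e16b908d11c664213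8a6eed6655f7a82aa97dc4862f62034bc0bcd7174ad3ee895b6dcbb2a3bc5afba270d974635fd6daa3f23a700b1e47208f96e05d81b8dfdd1f6cdcb796bf867fe3688123a4e1bcac6962d47de32ab5323ca3c42c7369a51de3bf19c69ec025f433112b0d3a15998ef23a7793fb81d98dfff695119b6249575622e4ed446b492c44520259b85b11cbd15015cb3948cb8e64fcc6bef6722e50a260e2b84e0cdfb3d8a043a512bf7840f93d010f0650cf3c7a5ccd2eb44ad69329ba4d9f71f1a66bd297610be0339be32cd1fdf6a31dafbfac0ab5b10dcebbc4db43722664c2e6edafa3747218bfc3bf4c0652383fef260e6c7c97e8095ae0331e7f96eab2611a006ceab8e3adb4ad02667a8931adf1b81e397f683765ada4a3d193a9e97ec351168a77a0c64eefa040617ca8e7112f2293ad4e0aa71201e45a1c0b7a263f0ef94569cbad2807d5f01734463918db75c73a0d94530f92ff3906d26d351942f3c9ee7df94336364cf15728c50bce70a958e3a5371e72b75dc94e4b9b596a0aed20c0a88b5a7553f969bd7922cb7ae688043e9984e6b24b7ec1bfa075623d02811cdae015840289292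eae86df5648561afe1715526152d6592fdb2e81bab84a8cbf3ea46fbeadc3dc76507ddeb7213a806020b27c0fdbec117ead5f3572762ee0e5546f5ee850f2bcc6a237621af8ad5f4545f4d037a028ef9d74b154f6f3d0fa4e12295b03b8325428d6cf95c34155555c32ff0bd022ad961255f6377dea70a8a05fe34e3a86f2f257d0ab2fde53380c89e4fc6edd915eb00eadc99c0ce799784d8af0220a9d0ad523fde34977d0360d4eaba6511e702c3648975790f49f99e671c222e27973eabc989b691a0355711b195436654fda7ddcd251c6d0c1d6f939b6d430fe75c89678d073dbf0c78362c81fb00320ee86de6b28a45472d3e781e647db59623e2ed7e503d89d5b2a1a305ea28a3fb8dd185ae82fe10effcd641f143c7c4b301351a335145f3ad026da518461cbe3ec5e0870a7c8c5157ba2c473360d0f979c3cff17926a955a1a203f0b133a0c6b602e8c4c08aedb8de6277fc849a1d38b23efa7654a7f5a7a689b2efa85c05432ed331c28f42622589f472a38655b7c68b63ac13ce0c05543fd87d0eec5ac5ac4b86be6bc55d7ae93287d7fc84d5ed6a8b4fa220e1dde3717ec4b36e6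9bdc55ed4ac0d8de508826fd8a91c44507b604a68cd7b4d44f3f6c321a76229c325e594e19b5d2cf901d729429a5431d1081d69a2c71327ae04de2a42e7031994c4d921d9846f4b61ef09474895897db02f8e3bd34e0225bb3ed29490bb06898b23522d44e3825f568489383a875214d2ebfaf1b10e03188fa39eb2d97b9db8edf245aa005f97c6e129e0d9b8e1443753929512c71f5e5238bc050db87dd0fcb5faed9b91d625af30fa46ff458dc2a681b34b8a55e08b4d9195a1450797d502c87148d8f61cc43238633cbcc493eea266c1494502831d946fa4db89d12139edb094b8b040067228407d67c4af5cb7a4c3dcb679b567dff76254515fb8f2abf1a496e39fcf8b7cfae767e69b1279e9eb892cc34f3536fadee6845ea0defe110379952bdafbb9d8300e6e2e6867201959fa3715b73a8d1f0daa37c863240fe46c8ad054d22b6f78f71551770e228e1e450e0f7b485fe52cda137c3059124527d071e2ad934e1c7df86af1d61340acf97bbd5b5ccab7e096eaf077839bf52f30cc2f84d480f32761e6573f9b7466e3083ff28ed5268af0d78deda4cda2e259450079851f9555c463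fc6aab4fa9deb9cbd775981165f58599614ff2e00415be38a983611ee271bbc116f75e830aec156fdcf998e8f88e2b2a84004ac0f772970dfaa1ba5e34d4d4db459012d5821f917028c7bcee56cd4e3bca03564813fcbcf10afad59291b80345e1c107b69f25acf849de765dfc7274543556c8228e783d1f6b8b1d8dbc8e75f380e4b43dc6e5eb230d38bc7ba062557833a1df97a34fbde4170bdb3f8b896696a7126d3fb06063ba863a6d68273f68f75edb689e23a11a707dd3bb95b20eafdcafc8083138eae03209143e121513e728c74f45bcb14c92aa4d69f2398876873ce7cfaaa8954c2e9589ed5f19cc8c17ff86f2cc39dc8da926ea948d375407174ef27596042df964bb0ef83f9d7d829ecf44cafe94cb7d8d28ce30a64cb8c5a3e0e4924722174cf39b391ea1bdc51d4fe7ab24e6cdd79332439d87b1066c56bb3d518cac7fc7ed9c19842f5c5cf56ce4ef2914b525123490f8ea641bc5b6c73086daa589bcb3bacc88ffd08616b93a67c95fad0be76ccdc4975d2ce241de450c518bf6a594cfa92bfda36acfdf65114e31d4cb08681b136ad206a1267f2fa3099f30335452dd1ff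a3df3ca2568ac32796553d862663a58eb5ac514268a39a5d3dd690fdcbe838e1391b27507d336d17e165ac581f733b5335f1e1c82ecc5e6f7960b0c3c2c7f3590d2e95a4ba8d33e8beff7a680b249e39cb75728ae2443cdb3e336b4eb36474e3922dac2407268f5c65255032baed9c04d8e5850b1ab44f9556aa565dab06037a4c2d26a24eab75c82eec576e62269b8008c3320b6ad7ac55f5227337b9fc59eac8029a2d8c556fbd862e5788f5c1d6abc671d792401ca37b61c305587d255fb26e364f5b52c205383189001bbc6cf62e4d25b8f7267c37393ae8f9bce7e9520e849fc243db6a9c25e357a6c4502395f601b6e110badc46ed2c77e52e46c52c89bda2109b84801d1fb9ff7d0aa6602b60eea9161cc429aca5775d07dfc366cefe7a004e84e857b7e43665a8bf91740eda305fd0acc86b75f036b14ad21b6c1cf9f3e1f3fd61497d550e29a4db9bd845d3b076d6e560464d8ae9aeb92642a5d483e6d345cbc8ead12c3840514311250b8aa887a5e638c46ba6f74f341f5c5dd89ecbcfcb54c18375d488bb1afefd10035567c75c8cb46a59767ce54c787a65191e80dd51de2b215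82f3fc36399d31c876dc7d5f3916ed57b57cf2c2baf64bc600f0ed348f20be327a9e684b002754ee31aca11977eda7357cff16f2d3ff9aba3f216aeb1a2c1fd67f321d1024413a871cc7eb77331dc6dfa11cc722a9e2baec425cf4898513fa4f751d16712f3fd2aad03ae3a692ffc741ee6e0d8b3a349ac0f1c21d859445f67f23d921cb3ad5b0b08dd3f93b27c94cc9d9f15a20cb19ca2a03d094bfcfc69b5cc55b2f41d7d172f7cf121353e580859e73e2e84c974e1b54ccdd2b9f38de9fc7b1207656b8880461bb8e0f3cd7390bb625817e14bf4a7aa4a4d1ed268e3b05d4a3953c6898f7249734ce9113fe96f51d41e9234ae7fdd94392a93ff2c7baa15c6341f1ffd66e5cde550d81bc209d904a3a60c8ab8e73db17274f075f35491b43250d058c113418b599c81a683e8d96065ef74d60e832995a3ec8ccb37141812f0f7cb74e85367fb4b161f99db33c6d8ecae18155fe3947eb8e2e9261c37c5e4693ec34c051b00add333f65b29ef32db6e64968bb0770ec7c806a6ef80af75c8b4fad398687a903fc65751f5503483e7a609ff69ea13e9b6db5748b870e09fd49f4ef00fead462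a7e7fdc38f4ed3628a49aec44ea85693d686315bb104e67e997bc3faf5256c05dfc70d93146cf88bc031ecf3d456de180d1847d4c468fa9d9ec280b32a3200a3269207cec302389728f5180e6a8efc4b0fb50bc7db33229dbaf0457cf2318d516a729d14d8ee00c16ab3555bc72debee0dba1afa232443bb47c4510fe7dafd331edf3d9fb839fce4e40145684337da2060741d8afbe9b2d3f579d19e7b3cfd61e64d106da96959b85db4d1f0f560c6eaf3d10ebced7bc153b548cd6648595e4331805d2c62f6cf20ef8f00215c4a51a6ada2934807f17ccd12f7eba9b667082af91cb16c23f77041701c731557101963332f55eca36770ba901d71fa9dadd63f0d31ac00bc55c0e3ada2a6357ca89706123e823fa864df99277b2e785359de6d2c7230ffd5f488fdb94185e6923bb38f16f1a4ba2d6f1e6dc10e903d19a970242f8b399bf24971c19575f85f36c1cb3fb6f493bb9e44825d9678556815af1d0778e822f7776f46cc14562c4de6d29a5c2978adb5a77e649377bae2215e1da1a959287cdc3dbfb0f6ebcc7ce070d20b3c5f6fade28945f3ddae4cc3be7baf5fd4cfbff0a936fa6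7678b4be22c7e8ee1491d6268267988d301180707c272f51be8426daf7ca5493e1ed0c53aaf0076ebaa6df64fffee2112c0c6e02d44250490e022cab0208c7ca95a098b00efcd8924de979a89dc2a2f806f89f5c07dbcdd7cb8e37bc2a3aad0ef864297115b67f2c88a7b44595107d3bc8e9fb44e3b0a5b1d9d1c0069a916d1b272f83ee10d6e1a7ff35e13a9125a618c7d671af4d86837ec7ce2b1e9f9a93e0f4f1de31c3793651befcf2dba388fbd722cbc73a234177e9fd71f94ded163f8e5e577871bea56e832a8bb8115b93369837984179da4a22fc1b3b42104023d96c8bebb7dd5a9b61f1f07d3ef12253af565f89014d0baa0db2df665f50dcb6dc727f41c067c12c6e9fc01da710eb0cc19bb57e1d56a989e220caa67b6ed464530eccd8e56de041e37f23bae39ea40151a83b438e949eef9c4e87d2d3dc79b98a371348501ed35eee26f1c7f4f11db38f6e415c017be660262d1f646c65791a44ed554a22ea17e8779fe75a05bd219f1b2a731e4e1e6799060b32125784241a06c8110034399c66d5211c0fd0696d69706363da761bf9b9e88c709bd0e2bd7aa8a887c15d40c1758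daabdbdd58fae2378cd6a0bf9e52fdbc2eae7cabe4f06106e7d96ece7955857f0deb3b9ac3f6ec4914d8cc6123c5f3c842377831b90555051d716797f760c74aa395f10deca9d46fd502bcca56fb21bbe74a105a074c6309003943611e11f0bd7a70102ff9a874c1af401b7892ec80fc6c33e5be412a66e7802a291f8e22331c07fda3eea326d2271ca8964db8b96d50b59dd5a83bc772a311ae21e1dcef66d5267d8c45e28bacbb13df538a7fd4a1b601d7326b257da61fc6b25332202cb8a6e2f746dd319b20605cdc0c93b1cb715b1717622c6742a4ee3b8d57257fd2891cd6ed4fbe723b915a939efa80d2fdec0d223fe96655fc1501aac5ffa17b575db66b663f4fa4b23e4dd522b832ccb11ef51e8618eb5d609204c2355a714d80a4438a322949ea746c6c776be9bc23c9dddc39d3186fc3cb3ea1f975eaeca3ea554af8d5bbf005d5e1129c9fdf864eb69e2f274a8d634f89099c30fa10b3f51027f2c848ed85300fe4762042fad77460480bf0326530aff8115faab78c9176023b560efb1a0965b507c4180bdfdaba514bfedf83cb924371afe23eb3c77ad06d008d6af7f1e25d70e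2f3a3dd38abfc6d407b7e98d06c6aefffed2b779554606352393149d2f58e6edda1dc0fba5a3c800e6ae96d134c942b547250ac51215fb911f22568c1c7e7431a2fa940af53caa83f45ae286f8927a390a1049c89198972daa70c053871022a63d4fb1bc1b6c9672f688b22c19b1da7c4b6fbd0f8d9cfa81ae4fa023d1e04cc0777a6a663e4440826b13999685cbd433793d839cc76a77f87ca8d15abe804941be5fed5e115575e55ba7498f5064c446cdb30661ab463973f887faa2f35b4e63b1f3daa972fa1314a13770c00da3ae09cd291d9a3e636db0d683902b0c0a8f4afaa933173f3fbf669311581552fd9a253b13f85fc6475ffcd8b54b54d4f772833554ced6ec439d3b1d9b2eabe359f864e0c1a52a000afd254aa4be46c608bf50726498fa88f8e4fd53e727c38052f3f80536d65ad53557cdf12a7ab9af666d602d86bf916e84fe0a215fc1bacfa656ef6b0e171bbcd515237bd939ec06b1ac23120de27acc6d6b30c6f081a5264f29119e4fc27a25e28c1ef1679d10a5ac0e0a61e04cedea30982360d3a345edd19f65db058b1bbcf6fd5098200e24233dde9ef0a30d6feecbb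f0de061c82f22a58f65cb7a394706c70f07d8035f0d5727c02d0a1a95fde4a4b60e0a969f6a53e9f57da0ae4af63e7fb664d635e06ce4e6631d4c92db0e204fe78b4badf7c099a62742563a874cad38e64e51d47985e927831416baa0053ca4d1071354a4cec2c0e8b069630d748e606647352767b2466c8a76e0b9dacefd43bafc3bf3ed522ef8680400e876cd84b91bf3e3f649e2e0591ca89e58d752d34d77f09d703278cf45865a346e0b6d95f37c74178b79d988bf60bbd7a2fcac43cfc127dd0e011b2e2fb6393d2c0c8f3d81acf1d53b1a9931a2dfa525999936fd7cfec1a0e123e1dd89b0b7f7ada74534eabfe91d4e683e3d9301c08ed96484027da71522facd9ee5cc42daabf75eada1518d554c10f2ef3da03a46155bc8d60d3b3e8757a7507a79b83d8c7199a1eaccb1c33d33bb9787c920dc9a73ddb6b6c6790af1888ff6327f20b06354ee6624edc50b455444cd3ce1bf85ec5980540250f152a5ead0d6f1db07f70168b432671b15ee1ded29b5be1dbd82dd52f46f6ce3c2b55cccdc7e98ee2cd650cf41dc36d7e6373ea569244406b360bc79207891b617ca992b21ea65b0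ac9b0ff0393be0f80a2e850bae2a8c5a3bd382bea661d949fd5308e58fb61801bf205e73a409ef820354a37b0bbfdbe80070b3d3b2bae13400b6427c0e59cf3a9cffe750d4d1de09fd0b4a09cdca35d1bf5c264f5fbd73222a9ebd4d2f0277f323e91af40443c1b3ee71e0779dd1d8976baccbeeba59818174cccfd2cd8ebddac3caea18c6e4321a29b7f56f681285c2eacf6d1babf102e978d96038570315183ebc99a1c9a3de11ca31aaa71e4c9e54ad04b73ea707cbf5af96670a5e81860a40b88bb7095ab74836ecc0aeb930b7751392edf23facc7a1f5da97319bf5967d4e170a38a27f6545c22edd69603471294c5145d47ed179a08e9d0f41313dac86589825e3bd597e50d3a3d2d3db86fef01b5a827144c900a5114539dc1069f7603ca56a01f425fddfc798921b4f0e7e0e8acfa7f4d9fa3be39969b693860eae32c29ae18d305760bcf3d7a22a4bbea9598a74dba81579975068be992b2b1dc57eeffde95fc91839168a1a7b9e912be2e0f9c030227f1292bd5a306aaf64f724a8520348bb036d126328d87741a690555df33a2bf9dd7a1669ba22e6a25f55dd671336121cf6e5a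e5c904b7cc601cc44fea03ebd2648e1cf818d1dd59b56f1ca2b8cd1e29510cbcfc10aba7aa3c073813cecef2b8f900b130c26d7c4fb38200548b18ed74aeb10cd5a5307386e1371080f2029a09d3eadceefa0b6799264dcce9a7756ead4e66eaf5bebbab8f481b04f62a11b3c0fa0cb0026323cdd98c0ccc056104326c025a8cc47352fcd9d27b43ae24628669f574d8dd14bb91703347a0d8efb9e989e306b34a1bc7dbd2d4f93482c423afe5658b3adc3d593c162075cfc0b6a46a41c324d8c88a59a12baaec0ff1561e5f07a4eb93715ba8a7236e4e3749b07a4804303e22993e1f1fe3dbca44da83e1a8d5f4d1cdd18521ed4465a6c4eec2d7f4ea5a5543f8efc1710d981826db3f7383910b81124d6e297be69c746ff02e32ac18a78751eb78f91f434772641199000947d394c467d76135aff114323189e1bef61979836683def385b8e8aeaceb9d523ccdb0f57bd09aee21612ba51e486188f24b20e90f95d4f43dc6a80cec46826cf3f6ffe46d79d8d4d88f6ea17a531addbeb4cb89fc0fa41e42e50c8f15df51ca70a100a7371c6a49a32eb3e6f5344434453f420b7106426118df46e7f16f4b2530dd7a17cb3b45207b4bfa57466a)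
noncomputable def HP0 : ℕ → ℕ := fun q => Nat.add (Nat.mod HP0t q) (nat_lit 65536)
noncomputable def HR0 : ℕ → ℕ := fun q => (Nat.mod HR0t q)
noncomputable def HW0 : ℕ → ℕ := fun q => (Nat.mod HW0t q)
theorem tree0 : Tr.all (treeP L stp HP0 HR0 HW0 WL0 (fun q => Nat.beq (nat_lit 65537) q)) L = true := by decide +kernel
theorem sub0 : Tr.all (mem L) L = true := by decide +kernel
noncomputable def WL1 : List (List Col) := [[TCG_Fi22.Col.c], [TCG_Fi22.Col.d], [TCG_Fi22.Col.e], [TCG_Fi22.Col.f], [TCG_Fi22.Col.g], [TCG_Fi22.Col.h], [TCG_Fi22.Col.i], [TCG_Fi22.Col.h, TCG_Fi22.Col.e, TCG_Fi22.Col.d, TCG_Fi22.Col.c, TCG_Fi22.Col.b, TCG_Fi22.Col.a, TCG_Fi22.Col.h, TCG_Fi22.Col.e, TCG_Fi22.Col.d, TCG_Fi22.Col.c, TCG_Fi22.Col.b, TCG_Fi22.Col.a, TCG_Fi22.Col.h, TCG_Fi22.Col.e, TCG_Fi22.Col.d, TCG_Fi22.Col.c, TCG_Fi22.Col.b, TCG_Fi22.Col.a, TCG_Fi22.Col.h,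 TCG_Fi22.Col.e, TCG_Fi22.Col.d, TCG_Fi22.Col.c, TCG_Fi22.Col.b, TCG_Fi22.Col.a, TCG_Fi22.Col.h, TCG_Fi22.Col.e, TCG_Fi22.Col.d, TCG_Fi22.Col.c, TCG_Fi22.Col.b, TCG_Fi22.Col.a]]
noncomputable def HP1t : ℕ := (nat_lit 0x512cfe8fed04978a2a5feb945769851240afbb42cc4b9964b06088d61538d945f16bbc9aa908216edbc2cafe318cc7f80a4f1c3b7ff10d5e4c9d6c8c46dc457dd54b2e0252e3ca08e6d55b6f0a25ebe8e5dffb53309cdb200a24f8b480c5b97a3c9fc1747d4561e51e3d0a52d8abd9262296b586f8cfe5b55e00c4f18629a753ade5478cefb6d63f215ef75932e1e502cc804decb1ca266e2209214b7cc3b0d1f1e054205defefb269671062d564403d96bbae38fb0a157d86bfef792426fd69c42ea9bb4105b3e8e3dad6c1126243734040f6723ba9b200578b800efa1a7f9e0322a38cf329309f19f0cfaaf772cf4158365fd4c044269e73f2c8d2f24b389e2424b65a2a3bfcacfedca47083bd4523b6245b651100516e66cc59ffea0f868ef939f1bfef4ec36e5d1ce97add35b8f9f80e94fd6cfda43f5d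490d07ff5cfe575ad9a0472e1b5362c0d0172adc48087e928dbef22f54afee69d1e69b49c12e839756b90cb4b1d02d47141485d67f3244ebff41a44cb7ce960b72f3b82dba329497f7469ecdf6c83108d57af9ae1c725061a22fa5f881f8bd0a02499cd6602bfb6433eac5a42f944928cd0e8e34f29cbbcb2b1d1f1dee68fd74b5296e607cb3118d4d7809ffd83f48e32fcb943891034f53d9cffed752083a30799f0697e22ea8463ea83bb62215213d77294e3de699e5828b18c6e97632c18221fe7fd5dfa146cd636d7e77f5bc550d0a36dbdb68ed319e91218a30b308dda27c0cf35942f8592991300b59eeb5e77a82054de398a4c3f7d5c68dbbaeba1444fb5d6492f01c1c668877e126835235da2d4fa18c58f3088f1f64229ebbcfc6745321144fc9fb472fa64526a30b938d8eee69ffe7ae600b964453807ccc6a30c3757ea6a0c44194e532ce4a616f6776f346a04664cae01f1ddb6a50653527ba3fd25ab2dbb5a53e5b00b4ad98d232a206adcc41c38e25b9f748f76131d2201792509b9513553b1e814a8368e8a807e308a0b69f250910f5343a823ea712cc978ae0448689f165b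5471d2114a57df24a0f44f278b9e5695086b0c306fd069c9faa2686cfa440b8f02ae5e5baafcaeb714a916f684334d91e640936ca5702851310888b63bf9ed524daefe69116bb286e66f36ebadf6b55a8d2b5da9c691ea6a1c08edd771bf173ff633952f41e02a588da932d7dcb6536262ab40d941cc5319e06e1151b0569c2e7d480c71bf0688ce06caac1e3e37ef570b432a5fcc48ee8e413f26aa047130d8c112ecd2c5e14b6ee2e25c4d6ad189faadd13b8d718f36e8df77769cab55800ccfe2f8ca75b325df71b6c96a083d5fb39aac5963f811a47100313806d867d95434f43b865b95ca8acd3dcefc5f8f47a3474c4a0262ebdb7ae3fef71995e7b55da60e4d0038e89fab96fefa109ce8b13043a890efc4466154a23304fb9dbe022ef69534c2f259fabad6d16e24a7e8e1d133bf30a85f7dfa71884111cf778e296f0caf32b8eb57b23643f07e402fc66592fefb53944e30090fa9b4ec467ef52010c2fe953b7b0dd06c791a28c2f95c267d01743ff698506ced5cb0b38171d1e685fadeff2afc4e5c6cfe16cada6cc0a034a6f1388c0781f684ada58dd4e5ff9d064ae54d5c47608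667b22825e1896337551f9e864f93c3f671f33d7f07bd65781a002f51025b43bbe44d8b76dd9d027f08c6ba9453b8fea5e2f15de64c4feccc2ab57b83a27c2c4de559035039d54da74480eb39515824be668d6fadaa71759d396cf88ddb9ca3585f75bbb6df52210672866f56b21c84d3aa6deb45d5b7069f1841911c7be7a1ccd9d1dba404758ec3c8c78405cf6894bb92b903507afaa95a76716be18b21a5b6ddc7814962995173c0b9e57322ea324052e7c6874448df5a1d500d79361693c5f66939b655a4fb708930dcace85a60b3c633f23fbaeade47c8b01b562979b624231080237dd754a4b3b68c08c98aad2a066eb7ffc5988dca18ca5234495879eeee1b5652f44032feff755588b2cd53aa6f7d30a93ebe1cdfa482985978c08741a7557a13510a493688e920a260699643efe607e7f1963061fbee07da157c73541294fd00c522815a8e4862b6f405fd37968ecba8ae7fa916f5ac5109567d5f7e0cfc681beed33d93c0ee23312511ac5dc8ce3b3bb1b793f442a60b3cd00b4e6efc45a0b2767bec119107affbd008aad284ef7c76f529568ade9b77730afb78e6254e24401902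9aab2eea3ba9a1875a261f5e7c714e6b2177290ce1ff85cf3fec916b0050ef7e4ab9bc5f2ca87c6782e8e3e5c142ab076c6e49258513b2984967162f994ccbfb87ecd1f1ac35576af3f36bcadccfc0437c3df2bc96af6434e769556598d79da44d29b7bf172efe231ca5c803bd8da479f7879d07a6e8a0bd74d2fee0d135592d8e8f2c8e242dd4ea2d589f8d599aae7823b433a17b10310f6b0606d5c8eb3f1e85709c23989d784f9ce4c0263fc779dc997ab74b9e4ee1f413ea162cfa81a816c01b99a47f4584156a626b4e56f9fb55b8a4e5132ff0d2d3ad9f01e8407a6bd20813885ef2da9c18b32158a4b62a049596a72788cb8778559af6311aa44b4f73ed683eca3a5021c891c95bb774a884d07d111890c00f9692bdda9bd96dbb365d67816f9cad1701b3551a24542d69dfd79146cb6de3225e9a412ba574e57d4a5876305c92181f6fc4621071b00ca4564988f837a894fba64b4a2e0c6c4dcec39bad334323797fd1189e8e12d7d132e0327142ba5a85d61f2b51b9e068a36959d10ed9c1ef7b5df6e93c0a28b06fb93aa645682945c16e0a5861183cd2b24a183972b7e7a1d8993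7b9249ec301555baa2521365febcc039536a2cca1e5981fbc4809f4d0c40aed37e67c689c694d4f1c9f0ade9b3aa28eeba819353be6655d6f9d991d68a3fed060d364d7291ccdebb8e9ec79e3323b6b293af53dc3a38d4423b258e59f0898ac3873c019d501dc8c15555a0b673d8c17e70e16a136aa5e3e66060de74558222587f8f2857467a465463fd0b83ca698027599e1fa595d5e0bdf030b03efafd541791c9dc1c58f46bb35d6be43cb809a9137a6166c1b628537d2ecf5bc8c662616fbaf7e43fe0d23fdb78b6bd34628bb0a96fafcfb283109d98ab836446a543e5fc86057d13fcee72876afe25b55f5a44fafe1004909baf0d99b5c9c7922f4e30974ce9bd175eccab624e03dec6f5b2383c6a109030633a6cf1c4ef60ce02fa15b5cfe73b5408d1f4014ea0ca75d9e8a83e1b8c8070dfa22d9008798520db2fe539d02250f96cf8e66f1b68a8a63814418dd29f26c6332d6e44fef9277fe81c28b9f33e5fbdcc18196ba378233a649d861544495db71448cf90a6a6173b1d30a75e12362f94a6e860011088a9f295c9f4e3affb5339815e538596fbc856db2db94a7466917d2e798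cf05be79dd2e08ab1da2b69b4da25031cb6ffc2029088a123b1a3b33b0c48564ce4a8f4826eed0efa866cf938ad51401f4fa78b46db7219021d40161400d095fce4c38ec98b60fe48e78ce8ecadda011ee96cbbf4c9081fda2b8ada5b28a48f71c412322bcfbe943c29973832609ffe29a9937aec8a43cf401c6b61bf3ffc6c40413c1890ac8544dfa8c7004ca72a5a39328bbe57377f37dc0c793a6207021e26d31cf90d788ef61f5dcb6bcaf58751e6975c900a1162d239aa96b8b03aa014d2b580e5315161b800ce8ea958660a266c09f14a825f5ed8a8f6a695b36c6d2ab97451891e53a178535d1e21d0f0d00c877c361119ce90e614bb3f628fd6a81ad07ea234d4be1c63efb0f064992820908a2513f953aaf341b96d7e3a3dbc81caea2bde89e570106828a3f7cc6c760f24f4d761c665dfbf44e3fb5fbef08274b4978c50f7a75a0ec4059065dc68a7e4a172b36fd1d77c74d11f57232b2cb74412ed6dd95a3681b793989f06e161ff153f0821fcdf5bd44d64b541469ba40c6141b66db8e43fe4262b0a7cf2240291bf314a384e6f46229c47de9d339b6d575e91e186d345cde0ce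a0d5b8a801ebdd2a7754a22140b7258b70a1bf2063b03f32892864c1030fa2dc344db8e700d7edc479c9ecee45624b944b4530849de49706436e5c7549b9da268c797ab83c715ee0c9d59226ee8509b0d470cd4752947d4cd25f91ac087107a10c086f36705378e4333a1103e1b7102d4de3871f436e01e786b1f0ebe14589eebd644dfa8609b0eef7ab50d536f2ae14883101d86f2f7cf72a101d3d8ab0e29e0aaae7447921c82c64072a9b443c4e8e0b9f16d8089cc81fe3993f086dc3a4e36e0b3b0f25d3e1befcf60782a9b9d7ded2f8bb67346ba0e324cfcb0f9a8527c503407b8e31a026b1864329198e8467c83906dba0e920cafa9c64c84e4032226052024bad345f922d7ce901cfe12841b125d6632369415ef97390e3819d8b8bbf56b4bf9e9c980da8090aad8931abcdc6b2c1855fa7ec49a10027cc8cff6fb9e6015e93c7f3ae99502749367b79492b343e80153f769679e8cc35e75588e8219909cd86320fa7bd559a2b22b711e1a75ad6e9958a4e4751ef289f0eb79ff486c279753fce4203ec7cae7ce443af8d4b77d1c9cbaaf8e4f680a7c6ffa8329f000a36371c74abe18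a773b0710f5b2314ffbeb2e83306ab64b3a1d42a9637cdb0711750db3a6548664b291b524aaf868776aa3cc03240abd9d55b3dd7ac7f6e5361a2ba68026122181992df2cec4b27a1ca534a791355cc9616e5efaa804cb8f5bed880279f3d7d34f51a23554b57645e04a8e0156925e381624bacfd1a4cebf46cb80484b5b7cc3a8c2d4b356b991a0f55ee7bbe4d6c144b3e4bf9091ba4a966c3111e6098b8dc9f8e509f0491b09cf5f278e04d5a781a6fb7104bca78c730b7907b23ccc305951b6ec1d7143d98dfe2d397290cc84dfe044c8577c1749b756a9da8903181f5d33e2cdc2d75dda5263cf201facf57d6060ab1e2ccd41566ae1f975ee54a258eb44587491ed4d025fa737f5df5cbf7ac2df8d736df265ae2f38f1508bd506e4e6f20cb0f3791b11085aa6bdd21d0a1b94c59c36b4fa442c7e5fcfa7be3389fcaa78d63868bcfd5dd5a41defed6e04e2e05c96966147519d890ebf8c7d0d4d3d72d5984e6fe4d34392304dc3e0bf0fe7eabc1debb0203b27f69463971b9bc7c18e870994602fa0d0e3c8dc0bdbedd715bfaa6b032a446e4ea8e405d45b52f825c342f7023f6cacdc20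8bd0f246dead3f516dd697bf16f405eee998aaf0fe49768f6446111deb2f0f851a50b0edfe42e87319e58e4103eaae1e9c04ca14873894fcc42f9a9c051792e6f40b567f1d75d15887de0c3e2f6e47bd65fbb238a1e545a47666b8bc41e42b0cb851eb1899714bb06e7c88c5c97f5fc2a41b109fe8c4a166f2a197d1d84cb66885c12e797f806cbf2fa5d0683bfded9a5846bdbefc4d9692d05a62673bbfbe9b294e1549d8aae0340d39e5a27b59e2cfd8ee7dd9a34a94d761df3abac409918e71a362c086e6887345d3f26d7fba25f237fcabf7ab9c190d37366af8f067756a8e7890b369e7a2f9066f7972c67a99115ea928c3594e384df2fa0a39ce06c23a366e4df92d63cfeb865acea24266a84c7d5affc7a3166ae1f8ab5f4319d5ed7a58120805d1546dbcc9e19f0af8f42b9c0be68f6177d93ce47804f33b7e5f5db8eebfe6a9b46954a8bd4fbca8ea28740bb3593d6705f8fe6a55cac129d993fc44ed6c01906b567d648baff3e06d109a57c617dfc365e443e25424b8a0132f941436e0356b1d5aceed48620ebd486f72de795a71f0516ef06fa8cbfb50e383b770fa5b1b9be6b1e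ab91ee5ad648100b368f72da9924fab8f18757bf8a11db9b381eca1c66614d6c417b05bcb6b25a8ca205b93f39251db3708bbdbee380b5229633e55d4e74964cb66330d82168f414e1b01688ece2bbc544c9334d8494434943ac36b46b4b55e205ada0e667dc4bbe26bbfe10cb7a27e39ea8fbe9aeef5e73e44e1733c2369022844e8ee56dcba6128227a7984637c02d505cca19ef8d0db16e60e15808a980f95d11b07c89e21673d786b9165d4c10beecbc22d6fdd79d7fb2bcb2a928642e1cee3a099769746a0819f2dd0fc99544df6a14eb0fe9e96165a009a7ef38bb50af6eb69ede2004f6de5bc2458e99ef3d7bb6981f3784864a9f8391462ac7ea0d12483f2e728099447a282c4a1140521a19c0725e51501e510e6052584486dee4e4fbdc41e84796bd74e7d64443c59eaa8e00058cdff9158c669da44791e742669957cea5e362accd61d0418cc68f4a43f471d7c7a839a49d874b381e3387a2a0451e6373961d376df066de39200615749678ffe40f61388c9a74fdf4e72c89ebcf53cda1717654af0883227d846727b03c87c8162357aa40b070dfbe305e86cf8bc852b935cec70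61075ccf06dce00cec154434459e33f855e5a92f13ced190230155ba788d54a762cba37287e7432735b112aff76a8c9e1a2f883d93505fe0a557736ef9dcf90652e25412d0440b93f030d4b113b883c70f7c3e155c729f712a59b8cd86b2ce59d363e1b8306d17c472e07e13518c5cd864bd8d4b148b8363770adce08109a5b493d1090968cfdc55c5365dc8b0172d84054f71ee7b7747eccbd5a01d07d51c5d4797e33d8da5ef14dfba4d6ce090b5efc041c2dc20aced049a01d0c71f27fd0615500a8ad539996ab33f3b97d33a245aaa52534eeeb4188b6f5a0c6e8a13e23b2152f90ef496ca4552b065629b7f2e1983aee1058fbd932ab7eb7cb31e73a9175aa9b11bdef4d7831b2be36175f122b8340a62c7260ddbc4218f220dc8b2e37bce6a07f9751780e0d20b69c9ae838c5d813ad0d91b0f8c550202c7fdbea8e3255f26b94eba87c937492d50c0789a05312444480d44844cb51a8af6e5d97f8f7233482d873e162ed62cd028847d257cbefe84282d4e4d4260fad44be419a7ca5a32b2689a3857897d875b5596c67604216ba5d8c0fa22f4b65a50220acaa6b78ebc37d9f83fdbd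07ea22e7440849df93471f3cc6518918511ce963fcadb7b8f946195f7c883a53e167a5a763cd1e00b8a296c78fec05be5e8c4d86c608654175d64abd56b6293ed791b704d1c00991012ddaabf9dd1dc6c988a267717f376dae45fb36cdfd3621dcd05cf0028af2f98c02164bb72ab8e7ffc4ebc030d8695c8ee30f92319a8e7e9ff505303ccca4f97c002f11610bd534a93f0497147814fc1384df088aec48b55cf10abaf11d58f75a37e4f312da9d4e1aa0850d6c2425159fd8e6751998115892ad039e9ed3804da8e82bd5d96a154d85ff8940bdce3633808dec4f85b7e26c232d26f11839fe048150ac02505215fcbe82f24bc5ac01ed214e0837332fcf5a97570f640507b8e1c8e8aa3bff237c95a2e3922ebe3f41c747facae984e83d79fd9d0ff15545a3d20356a73e3b41420bfd24a4e377ed9e778a163d286e1a0929bfb096c8cf48164efe8d11c80a3e93c4da562b206d1a6dec84d1ba013c1ae08980271c509447541ddc72b7d893de58291de0431795f2ab83812e728c159ef1bc41d03191a593fb6ba0a408ad02bcb83df0492b93950d06a325d03048f074afd7376c20ee56038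7c9b730a513f8aa65b95bbd53cd4369357bdb1b67313fb35bb0d6911c8278a0a2e4f7d86651fd04c1f197a17c27e336bb2e56eb9d3f2debc2777c1ce346bcf965c2ae99aa33b3a4c6a2612f47ef10fb2aae2293bb5c80664aec43024818b0388353c76de582b9d3148257f104ea232f700972d71b10f1d917bbd73b18e7ad3c0e89ae23bca2407504499a8764a8baeff9b2c7a26af58ff4c5c31eb798635609db6bd811b525d8da33f5c37a435e2d2eae578e9d98e0c48a21addf0919c15a7d1bd4c710ff9ee632523d36689d47fc5f6d3649b8e28205ab6b79278f05c6a839124be552375f8700993266fa26f439c5570580ceacc7b8b29e7c77261111a0405a25ef8da4cb2c3e752ecc463b293fa8d608fae5c6c059fbb8b3065e2f84e31b702eda20eafeeafc889e00e4509a0a7c190827c9e9a4cf8c8463c4ddbc523f11b558a573fc10aefdbf402920b0ca2845d9064a690d13975fe1f14f4713c4009091dcad4ed525f43f6cfcd2537de239a0cc738b6816106ff02ef0832ad557ea6fc07f8fc228)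
noncomputable def HR1t : ℕ := (nat_lit 0x12f1ab01bdb26acee13bb53650b944dd1e3ab31f2f329b9737d5a419041706b913d904cc90d5d027c2e85039ce16f7b754a202090475292bf0d19a7bd35d3202411d9c3e9124ce2cae3625a976e54b3ca5485728a36fe3c47fa032c9d98830355b1ab8f815a8e23890b241ed6fb6cd84fdb40b8b2dbd8064165dd4c475206910369bf3c38c9c44247255b9955ec353a6a31ec6a18cc7a164dd7365466288eed4724ebdcb937e3060c711e6912918028c418699fe205815370a5269c5b1ff6a702f50480170d5d1b14389ac874acfcee91f09b3f33fb0d19d7a3627e76dfa04551d0a057ed5f21055e7a9c950da395e4c4af3629008d67f85fa6950dac000711e9aed980974987aa824aa3c6402910499204c9d5e2a00e7fe4a66b65e57bf2d0c079cd6ba5b274f2d067d488df8070bcb2e81a8294603f16f360e9de6ca6b3181bd293cf81f07288889023a356bc384dcdacfbb2fc8bc8362bf10db58b4117c12cf0f0e1b3fc60a1f31c6893efd3a9f854893c7cc4ec363aa5c4f71ba586858451373dbaa047615740b4e3857f23c4077bc0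81ba3a0cc523623eaa209485b3891874a36b161034b3690e616f5010e99713e7296d3b75b411712800ca6ed13246f1e9bca934ee6a8ed82b0961342bad1bf5db0900cf84a970501a1c7599fe5af1afc462b88a68eed5cf8632d4c69619c8533a18e2139d6349113554acaa1207605af3466f273bb8b0aee5ceef865df77747179467a45f870b0cc35d9319fd8cf9ff63755518145c76f803f5f6741c5b38760d70de0a2eb70e58321e9acd5f49989f0811c522c10ad832572153cdfa9028ba8aaa23bf893c6c1f2ce562a57f32fa44a889e915e4aae3955b4ed067cee9850afce7d681981c0841e41fc5b1acad607166e4e7256e99093bfd35eae808f8650edda4ab911e371e4611d38797b3b354ecd291d08b140653e8d04477d82e37f27e287e7d48723e864c984285ed1be93b6e2a17863b5c3da1d2193e5650c90234bf64d63c34c2a79de0854bc18f36a70dde29eca0e4ae7bc8bece96f57bc32c6dfb3b7ec2c2bf546678965ee287dcafec54f8395450ec28e11abe8d630515437fe956ee7a3832172a2e9b45ee87781c2a03f55ebff16c8dbeb432d43f58c89fbe92bc24a1111f42a50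66ff0d11528f0e0e0f901c8e5f5a17ae4b79cd46f929adcb3f32eb845a5b2d172b382d7e5fb8f30020d89c352568515cc5573b895aca2bb858e14fb2305b2e3c3592b713802f8bd7541d038b667824c7e959bc951f66f80c1a4e37a293583d1fa1f169c2ffcba427d7a06dd55f18bb7d9b0ec0114452a4794930289f2d61649b44ee0a971de673c00877fb6427cf2a78242fd9c331a2c2ee03bd739a0ee7e8b020f2ffbe3630766c72c66fa31f366d46cf04dfd94af6f17df39ed06a942b3d98ac086be9def30c888ebd9aa4fcf0e13268d03ee70b47015fb6fa93c7df4469c3faa749c151e9b070b08f763cd351c9ad73677322b3e1fdbfdaa18f4ed2fc35de0a693a798b49749e8a257c638022e8f21c64c5831b33a1170248c57719709b3557c1aadc2559e6957454d83405290a4fcef34a811b960178a0ca635b78cb6e96ac33d517bd9f9a8673f9cd71a8a3580d6d967878b9b3f0685950cd897d34725365353267ff1287e700050e966f2cfc022f258b9e09def9f55bcff9dbb3a2aa7bb025d0f8a268d2914327e153684a8f586cc5a1ffbba1bb4c9ff9b9867aaf615d84247999dd9dd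4c95654e6b15e530ba7e71bce1fe5155dee762a114e95ee07b4e845d883ed4c0a3c64d7a9f9a8fbb0a6fa57991a291a9477db48eebf7fe3af85b45d89ccf78b4fa7d278bc895049ca82221fb523d288f08a733b0ba37838f9f00339c1714f20e7149d9dcdc5c9efa13b2091256130ccdc17c08f9471b3b5d39c9341c97af3dbe4dc3782011eb41ecaf72045e3ce67d1641403e6ec95fd46f62a94f91c620dc971943a193b2da55e3de19e6b2667a2516b219c828de18c8e6b76f99d4fe42fd7c4d323e629866f844aec8dd51c7f979df48cfe612809a0a2d981b70e97ff2e93b3ada5185fa4301fddf2b0ae7a0d53664d432b6bd8abeb1855d7f9aece738da71b56511158f332e2034041d66d306749e6b0db78b014b86e85247b0476e6cfb89f5605d9a88e1751749f8b11791683e4af9d42d78c44fda7b3d6781fe16927da11a7c861c7aea40e933dd301b5bcb09e8688b183cb95bb9bed1e2ab8b2e68b8ae31d723fddcd1136d355b0357ece1b94518952b5105eaa89d47192503d26c1a0922da7ddc384aa6fd9fa5f26857ba4d446e6e5c8a29a3d87785041cae506ad8474f5a4c52ac918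26dc16bd12ccd7070ee2e64e8a725fb06d82792460fad8fcc891ea7f693236c345a60339177760b9bb15c691ac9497965147d31620bf9c0efde60f8d44bdba3ff1c196a8ee98c39e8ddb6fd6c5999690be0fe8f31918e14f7365303df7426363f122ec1a370ed81f6892474d329ebaad247ce3e00cd3e27ec08bffd1c7f74c17500ef5dac359b16a624bb92168e9a49b6c5ae2a4eb89789b7dde10c62043621a35e9a479152613a33c478e4c67ad710a4c4147e5da107663931ab466b41aa1c98c28fa32c9e549a25d6a3d1ae87fadc2cb8adb9f3d9ad37baa6ffca351f207f2a668118cdccf6017b08b4d52298dca408b346b77baac6696a8b1af8c1bc807cdfdbd686cf66f291f9485bb4baab8f0cb34313aa912b4bd2f801ddf656674c45ae84dcb9e8b78ddb14da1965adacad3dbaa5d7f2903bae3d8abeab2b6c5e716df7294e9ceebc3f88aa764953f3a286d5ebb546c345ea890748d57e8933d1a54d83def9dbb96affc79d9520bc2807dc748a311b2033440478c23388b866f01f387437fa41aeb2ba46acad845cd0bcfb9255a4085983704e7272821856f1bf7b8670fc3664d5a7c8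5a7b21a5bca32e47c7450678c5743045a0ce808ea89f982fdfccb98240fca5ef64b001914d081a88ec6e81b24a8a428a09984b6a5576f5c3f444c726603ea723f54157710879295a56b7f1e137f3e461d3b3ae1e1948d924f14c1e4a4c8ecba863a6596260b977e16a0d42d5c781be7d7409f7478d1ec775e9d2781ce5080f8c198f2c8274f374b4e4b718564aea53d74fb9e7d1389518da4c839af9531564ddbafd9c7fb243c4ecd0b59d632ad7f419cb7a196d16573c794a866eaab61a314f58940b9c19a572571c9effff59df62c0236a52a12d6f7a91b23c62476fa20be9fb88f5de8955b9cdf6ed69e8d4a266c18c9c347f4158bbf39add1d28ba541cf45ca85700b47fc47505757f56fcc7369ed47286e2b1b58ef9184e34a833456e59721b7069036212e9f638db25e5c5a366708af7df7ef5380496c5b4b4dcf3dcb6ed2e14563b1414f888e6b15a70894a3bdf7f0d11621017e031a060dda2a3dae830c8ae05b2ef0354c367d82d229a1aa160e5002da9e43b92665958a63e6006f7ded19b83e427da8c8b1e5c208f70f4db8d74ba311ce8ba88c6760c8ae348acace61ce14c3d0b9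795ed380899f15c3e038fe03579f679d87580853f5605f46aa87890345c3e32fb582a30731631d9e40130cda0f097f8f165b5fcb5fcc9a12a2fe5dd2988da7698ff0f294a8ec8feb9e88d3689ecd996d016280daa810a0553ce94227480716269d611dd835b27d0dcab3be2efd0edd9343fb5c62792e354c606049973f1ae5b0d888c312b2b6695b992af48d36f7456402760f90f05faf2e2cf205b41930e88b8faff32577e6760350ebf22d083c47df7b0cbc840b5b1c3e6527a40611b0f349f35ee5625c1a0ba87db3a9367a2fe7e1d1096675b0e668fcad8dd24855b5905e81cf82a7a1208422c982adb76630b2ffc34cbae29da7f288930fb1436a4d36018e8c26afee5af774158e77098d9e0f0c12bf7bcf70d93eaf4661e57fdf110cbc4ee7115f75b24f24dea4cdcabcada5e51d320bac4e4e45c66dc833ec0385654646c3d1068ba76ab1ab76a954ebdc95be38e55476b40c707022ed60a0e5ebbd9976ab31c0fd8dab9a7d1420708f12817921d626241e46e0e81195274cdd5c739830cb638bbf1f7fb2147d9277594183fe2ada27901c7522b7488190585525e1a2ecaa847bf7f02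97eed2b8f2c2ec843b50b9cde449010fe3a6093170292fc43cb542916f9c9cec4032a18c58512acaf83565a2085b2675a4bd0834d09959fecd4ff84864b826bdcfe5c4bd6453c1bd2c532b7b6c47be22420f8fd181646157590bc9dce8417bc44e445f16e28129f3042cd49733ae5140062978dc849d99889f4cd42ea1d9de7c447208f34d12642de8456a5339055a0ccbff44380c9a42925ab69207cff76a4777fe666f678b8a4a4e87bd0d0bab08dff071b2cc9621923ca32eb4900cde98037dd43dd93defdf3a59b6c4d1fb5ee36e2e60a96824f7e4945fb818ad2663fd34bb4f4243d1d05c7931c36bd89f72e6cc5a3b09d0d18b589b093f45c5b33e8b1e5203c9d7b7b5634d517c561495234a3cb6522eeb3887c885052b8538f72b25498367b006684efdf389127344f790660435ef09f4cfedde3574687368180d5fe5215953d299d2bdb13b06042fe67c649c10e9ade0a82b2c62d79533f644000df2af97e93ba3d43f9b5262149e16a314d7ebee06a6bcb7afdb91a71e9463c03c887fe4788b20fe8f3d7959d7b5acf58710e04b6e1d4a72b789f9de80fd07dc301b53cb16b0a95a9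377f8704df1bffebec2745a6467df4f95c6c7215b3f79c560c43ebb9e27546c7a3e74d4cd74eea3b5ebcd6dc5b46536bad879f422a3244bfbafcc81204b4b2ae9c0db7e064ba58ad442f3fe999378c389edbf133aee8792af247f98d9a7154e1cf123219c51f3e343d31f70f34bf22ce01046833d804e896917d3447255fabe36afa31c31dd57d6b14425d3a8bf76c0c155c5b4db7ccd08cbc0c94e8853c9f7093b61ec60eec8839ae78550b4e33bb9f551ad0bbc247a085dcd68bada5e5af2887b57dedffd0f4ff5320309246389980f6782985e9ad881affd86300ea2c8b7e053faac4bb7f62d1ddf3145a294779f6fd77767f508869a770f7fa7a83c2475591ca85e8f4a9efb3af1e07ae7ccc640e26d00368f92b3866943a3748e12bf24de6dd4ec596a1bb4a46dbc1d2e55c7bf29c30586b28f730fa004b7772b6f0131aaa76cd07e6aa300bf2fcc257a9923fb9b1c89bf5a3692b5f48aab44e8353c052a10b78e2d905b48f39773030e626551e06d78f05728fe7565c2a445720a0992f86d92de6804d6588ca07c460a376a482d3ad7b40ae4e2d0438d4556535a92411151c9a0b097b6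db96e978e75e84b295eb88f0ed7898786fe5cf5346600ddbe476f6f3aa554e75c32f79c6beb6bd0759751f7f0d24617f1856be00e9b11c89a50e01416cef1272dae78b212a388df0ae1217ecd24d7ed1f830a93c9a4ff19828d3be5dd9a85ba547d61048ea09dce7df6ec958d743cfec20a108ddcf31b9e50db6c34bc288f41ecbc129791663aa3f532ca6933d5631e5191644eee409afee1b599f2fa415372838867af7c642b6787e8b48bad495376dff051cee2821553f54aef846d0f72cc92fec0c275eae4fcfcbe0088856b2761a71cb5baa0a570c2890999eccf630ea50f6209563d5c950dde8e2b33137aeb9cc52c60bf4b6deb364dae753fcf21afb8075075ff7e1068c9995a76b92057d17800ef6e0e5baf67ce1dbc93c1951d821018469619be3a58d34c28711d7eff1f6c8193c8b1f1915eef721fedfd69213d35f0d5240c12306b1790a1b3eb38f8e883df5136c537ddbbd6ae6dc2f081dcf517cfd86d6b0872f6167f28502a40b542592f195d563d82df20bcb6239acee8c37a70a344bc4d15bee0a90d1fb10526b9018f0efe70befd713041167c19acfc06cb25cec7a60d4a0f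6ff62ba42a9c25d7ac5fd209ca60d8c451690dc5410a22aedb4b432497bab42ec09eed788c5e0fb7aa3df0fd5a684896bb619e1f47db9e12da47db451a8a8980010a8b96b2108aaf6eda122b642a32ff0b362d2971d1e5e12d7187e808db4d35ef5ded9b8bd7d3c10a28abcf48186472b6f3418bee959cc10c1c512442f90de8781e7906f8ff8c4ba71b32c9fb8be81debaebb62418ac8dd355eb978d288d028e47052d834c203eaa446fd46438931e328cc574cc623928c8f7c86430cc8e018f5c98ff7a40c8288f2d36a0925356b1b8fb7d24fc6416cb334a12a2502ae1cbf5affe6ac8df15e5ef1d496951fbf87507d5aa3dbd0ce61adfd0c9915ace37c3aa441d73021a95765b03fb05ea4542490f6897cfad2a389bb47839258495879aed50ee121b6f2518485323a1cdbb4dcf38bd86f49c49558fa6e3c395d126730eff1418e1c0f8e00d59fe526c98d7c91b122c606e62d9b8a0ba2c0c3fc340359f001fa61c19a6466267d0edcc9b13af1674c9e87e030940da7afe49314059f1dd35588c78579f7d7614297fe701c1d348b539f3d7f8114d9c016377ae33732074597f11dc9adb0f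49509ecbfaeb0e8d66b05be26d9134515ceee5b07066b094b2118d78262fc53b40da7816b1f536b5bbdba84e866728ff59bf9222fc63ec252ad872b242387165112460cd44a5b356e2a6e0e21ae7b533cca3f7c743fd72ffe51394d5ca4a100cbf7d9e425f1564ac0491a02fe1225b11c68952c896fb1f67286cce2d7bbca78f839d3de0ef3378d26ffcea4e3fc1e4c423eefbc30cdbdcdee713860c4b20d51765b0015ab4b63afc4023ecf49401fefa67649e24848ff327b255413793670c8356e27d19fae1c35f6af04729691a5f8275f6a6b7a9358a9d9b4ad44c01c1e41c69d61e6e384c73e63caed97307818122a824be152baa47c2d57e2edaafee790e62e94b98e3602676ad4166319f183f62532c2394360fe448821ec127220425fa7508bdc1d26465cd0ef3a51f55fc726069d436ce70e54dfab3c6713191e00ba2f4db6e524ba236a1e94eb9eae65af4bafe449ba5f1c6912d0d0f83c550bc7027fea6e6903b3a830f16f071c932c102a63767b4ca8c6c673a8c26f4c132046ac6923f9dee97e61ddddd28ba72ae44a0f8a2bfabecbaec43dd88a01d31480d90bea62626bbc74a0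12e68ae445a63c98d64cbf501ff1d1aaa43bb5424af6a3b2a3960910cdf131d99e8b460bfd2a86e57cf24a5dd65a98aea34544a03d944ee4b83bd4e89ab19aad476aabb57a2fd5b309b01626943ec1212f71dc30effedc243f61016ee279a7b32469df43638f12554804918f275f22d5d5172b040d63f649baa09c2f1af430002bb3630c7a8805c02abde2259b1033e09c68ed3a3674994ebe512af611e55fdaedd56e29500074a8bec8bd5ab58b505af1b16accad6c737ec022974fd45536ad1caef546985d30c1acb98306c8e528b5ce8d71f6113b27771ecbadfc64068299049699b7db937110a99516b6a053e7de8d462a6515f76355f8535b8ae0e157030730b42df92d7e5ffb1aa5bf0cb9e9e011614124c922b751f38c84045f12c87338f955dcd15612216f9a675697493db4ee0cfdb642dc01445f7ea938f2fbf1025ba569e9d10f12e4ce1f1df354285fbdd9b55a05dcefdd70295eac00f340f91595dfe18617e23187408b725456a151bced4c6a4fa9bfee8eca42018420f508acb7665e2bc162e8dc31b050728605e26dda348b9ddb76723e093a3e9ca757f906468da3a83eac9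626c02fdbf8b22fc5b399ea42e251389c83c61e15f25ca8658f5b200f7c07770a7468c81e42e5c408509b40e28e2df29ef48ce032fef75dc10b0f3fa2b166c425059f3b352437ed236b31802e6630de5b59e3a1a2a9bb575a3ba62cd2bfe4242487f43e337ff358af7973d6c2fb13a24aca49840abf6de68691e4fd8410c958fcc0a8c836a76145169f750f6cd8483e2db50cf308e6a6ad4ce318c9113ab8f34b754cec534402575f07db00ccdae2cd6347df6d43df3a8fece67db49fb77977c8d47a6b384f1d1b45b64a55c6b819f17e7c0b7b519f59073764296250bcc885b75bef2c9de04acd52259fd3b15d8727d4545bb130d4a7036f01bb597e43c7df673d1cec6051a27a6d70f110bf460c41a1a6765e68e9d7f223b151a3e61869dd67706cdf6b3aec4255f6a10ea4)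
noncomputable def HW1t : ℕ := (nat_lit 0x7294f778e44dba11db66fd37fc1b0a4d49bebf76d8e03204f2b1d221b30cb1d938c6ef9dd9ba3214daf4871088bdf51994037de9bc200935ea22ee4ed5b66368ade7776de5c41b824cdd6ca55e193a315f75e88ba7c9b18d2add425050f07edec29863871f2cee559b3c23f5d55d389c6da6eedc5c3abee6d9149e008ad97435a8e8c575b96c94c1cb5def3217775e645bc88a57c88b91d4f827d3b11502340e9127ceba47ceb582e8696ca60998fa4dfda0fecb0636127c59a311238b0e290b273271dd8537a5f82f1b92457f4c909482acfad8283dbadd5157206b7b182a54f6e00388cc4751638c44f2f5622f879c473ce8e8da3c34756c9e0ca219100741399610e26f047e4e708d6534c684be1473774526d01cebad4317877975030715219f0af4e3722cfe95faaff12dbc5117f9b3b3591c875786d635e7f6e777327989b0bc2db680557889d345ed297497e7edb78fd18f5e6c342a147a5d379a14474f0511ddc136ac3d184c3951f0076f43a50b27fbffc222bdfbd9d3f80035c572f24a92dc0365fc135dac9f39a48702d2e4d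ec6fa94b32449d39600e8536f528332d977bae62f67e0c0131dfe2ae94275d3b67e5f2bf3f9fa535004677c88cfb432aea519e3d022dab5908e7b42633e91e38c79ef8ce45ff1c86bc8db7c318c659875b4891f8604d379b99454254dafce14ee5df1a0f6055551461fb4fe3446121bdd626c0d85992223f5562ac552596227323ddadd14807b6c22ae356c95d7cd720604894b69a7aed9aebd2e42f2a389650e79f8ba085cc69ba8786b01bb48d4558cc23af442457ada30ac9eaf86ee24bd4c87dc91cd60e44eb2b19939a8c4c292caad92731794948f4a1e96c999cdc2b4db32be4bd921a7973dc8d501b3ade1700c7598427a77fe42f00748ec97684975c1b1b664f0c048c63b59962c5f4e2cf74728c5a253973bd2bf3f6b2a27230c7eaf9c64746886286464385c4a559c9e2d66fe6febc33153c41f39e49235286ce71af32b9cc11af1475209e3640cef6d7b936f50f6247a91c3a614f30bfb439e7d15dd14419727721bc8ed4f753d33dc406e1181866e707bdbbd4374f7b912597b93eb8a184ba8d4c7a68ccd408e44778c2784519eebba6da1eabd74d15d6345e2a3ce54393e5dd4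284004f65c317d2f9ee9c4723aa7391fef03f222338202623b7afd2da3b08d772f68e331e7c453e3eff76b1b37703d7bd3077fe6febf70daf0b4de18ea55903d1cf1e0bacd13a93f4265befd982c6d44611f687f5ef0fe531b6d80e6487fcbc6e88997a49012f5791c54764f42772ef71cff1b230725132186cf190d7fa301e779be067ed5c19f4a938de8729857a8dcb7eaa1c9dc0014ba8350e1cabce6e07727ce037de37e0a3ae540bb464306d2e5943ab10d26d802a42cf33f040c095e5b2986586e500abd31c002e84aa7c525a2fe9e7d52e7ea8c709ca897a59bf416c475bbb09d7de30edbb2bce95d3e8be734c2214d77c62011b46e7454aa8e78ee1d651b696c30d52d214fb0ab1954a4761870f811f5ecee6c00d819720e2afff0e5f7f58964c6a912021205069639251f823985079ed98c2b4220c3dd7b74e6ef9a748a735678d1f6219470705051c56838cc31acf0713bd0d4fb6ea23a3a77b266f3e16f54cbe86dec10ff10576b444123153a3844d00742e3cdfd025e535778cafc435443c038f044d1bc9e4496a7070399f817825e949400d6c8f69c8e24ea9ddc8b295778d60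d3069478873da4e4346c05280f315ab98ff8198c6a2debe31ca05420abf3ed8e120af53a1188fb7cf62cc3e9d1475e9a670361e78a9bafcb1aeb69b88305fbc0c59de96ab6e7f1d84fb858b9babf8df9b47343144dc222c50d514fb7f943060bf71405ae4e513d5342b8bb28ce98e8a8bb6624d56e2f70b13a70ea54445780cceed34f9287225f0116bd3518d9c98e3b250610306f37fb2c747b8bccf2bc82bb35140e619321cfc20d8890384b4d488ecb155e57cd878c0a1d83131046eed3895e01e5a898b62e9cd9af600966028815ae3922744f019ea313be10d160cd8ab27e85fd1f29b2d8b42547aa78dcb2527cb6f8b85d53546118527d52826d118abfcdb3928641fd22c1f167a90e527a92e9a201c9d0d77b03554bdb9352384fbb97a2f14dc57b89b382521303a431c08bd6d6926cf427dda47195c90f53be000f03d37b1a7becd01c6e185493f8d97b8e128218dc80d6e19aca0771349ceaba946ae5366c431188e5cc8f0962df349ca82d96abb03acc9094080a669a63ba2f51150a178864ff69498369839ee6d8decf9cff4f55181de770e2f50b4dc2cc31337c64cbc9f329a40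646b1bfee53a3e5803be6a3aee95f6fc1f31c0c3b5df9ecb49d2dc2ae8afb1c4c6627c369802d00f266b582b7e4e99f69f97ade69a4e0710ecf0b4ab587eb8370581cb125bbbe65f3bad9965172399cc3261204801bc21df3f999ace25bc6bb085c472e74f2b5d6b7f643e27e976ed41a75309991e1c62f78028653c91af1a915160e16feec7b17bea79c91287f4b60adc68970c24cb0104449636c51a3996a3fb02de819333a67fae42458c8efa3a3d64d8ee6a33eb8b0b36ad6d5e2ed3fc5c5cd0170d776ab030197345c1d902945843014c5d4a21b10f4fc1fd11a436d71fc9f374105b4a7a7e96383dc0b98b6793be71729c613ffd9826320df41c58181692aaede40f9c31681811b2ac1e588dfb61e71e82c364fd87a7cd137f6ec43ac3c7acb3cb1c52c9de34b4f49a79092c2ff612642a9b5689a4cf21c9c9974401222f88a1c0ad65c59cf2baa1cd9f209c9a4a2665354b7083bdf3b3839a04256ef057db70e5d69ce575dc2ab14a38fcf9432ec5f52dd0db7f3c7ae2a3dd51fe39218320a936a9f84bc866f1b9e2fc2adadb95bc524fb4ee8ce3d08803ca35e8c2795c952b1b6bd82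0337a95af7c41d1688278010ba3950504c372b31cdeb3d8b639eacd3912016b0fb7025a42b6d0e6d0e85ec4b6f8a61db40279a907ec96c4241f158669e25abb4e30140c86c95cae0b80eca11309331e73a068230f57e8815ddb4f3cb4ad152331ad3e2ba25eb0fc28cdce8d61186a02d16aacb5a81d1eada114ecb5ecf37f8aa447478d1d8c98996f9fffaa067fcc757e93c380891348574ee0dc49342344a828294486495a6e42949cba20b612f7f90fdcb2caecf74fb796cab34a91f8ddcb8d035766b5181ad591bb4f0fdbd22a42c36e687aaf7799d0cd94b725f2c0c91f9bb4509c4507106aa737ed198ccf1c41ac30bc4ec20c628c2ec4f7100ccfb33bb21fdf65cabc6bbaf53ff3dfc4cac4019529b1152d1d473c8b648056422fdf31f8d9a3915ae46beb0f0854d64e54f257e32d6196ef6c7a85f0c4f187ff3e2acc12fcfccd914e27cacc8534f0e04a080d4b840c9a3a7eb8334e237796503079dff0f3b1a5662015a220be5e50cf489d064c389fdf1cddd0306344abcb225efc18920d219d6e10e777a35ef8c1082a05cb2bef67cd00cf8a57584f21460c4ba0f1293d62b5877dde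dd8b84c8d9dc9ad5f03178d9251f8e7f8440087f0c0369e5cb4e3c2c4092ed7fd9b13ea4fe1058cef7184d87127d3946abe424b5a9bde6397e174b60e2eac6e650231f3e351b42ae6b3e509d44869e63256e5c6d503544bd236d1969aa161db56ffd96cad9325be6f584188577c4c78f4bc3616fb28105abdf0c735d96574db852494a749049ed2e9c0ac88f2157a1321a34961c99a63ae2af3f6f6167d75f5d3383871487764358eaf07c36b014fa64be8b247f0fe755c3da5feee5036f6ac10d9b40fd8606dd4c7e9376df2b1350c1c1b982fff55aa4372f30c1aaf8751a6ca4058cb1ede36cedee64b2c3cf8bdca2dba9c76292be581a300cd8f35c0117d66b9e283e17e9d6712782fef2b20d352ff4836f3cdfc35eba11843121a127190775cb52b24e3e2d35adb7caced19628f8da381d96badf7ddd547d49c68792078d89edc77510b8e63a741f151c7eba5aeccb9102ce4a5d1de10ded83aa2ce53d5b81d4f2822364b805e78b7b5a1a60ad9e72a0c397ecc8006d41af70ab3ab7ef4244c29f3fe6599eebb7603faf11dd71ebcc05ec2682121bf14df161122f037d2c878798ed0c938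cd1346500e57769af7a5eee847ea043d6b0454786e0a0dadab11f8900397a3d700452c79941b36a5a9564752da6f355fd1a94da70381e106e9df5779efc5372b4381329b2d6cfdf3d663d7249db056b136ff037f04ee41358ec394e1565f4bfe73e78ac0a9c841140d340f07abe31c378ef4f3d1d1db3fe44ebb7a0c6eca07a4bd1fb9b1e89332676239bd6831fa36a15027fb70051ba3f6ed6ce4c7e3a2e05947790f95c20f4f2838a9e992a83f9eec8fb05a150887305ca960246040a824550951ba9dd6de9c79a5548625b9ee1e864edb31363e38a6fb18195c9d066013cb6c51e7725a085d313021935a09f51b34b110aadbbab27c1848459b67dc074e0a0eeeeaaf8893173548659a05e48938138f84219e21b1da875bffecaa531071b8d0e7d0e9a4f1edd7e6b1cd389ff19ad72a56c21edbf7fa8e6bbad5745d159815b02baab9e7bd69ea229e0aaea05bcdcbcbb744d06edef2b78928b1c3352f315a5b66e2a410c1cb938fd41b26f0bd5da0941aa2baf9bd26a054345509af6327cc5e0a436463c46b2056a5c279524452120074fb2bc2cd7f13d7725313979a2dc5980c01e13247c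064661446b9df3ce28c0b9777be700c543f57749b5f9356cf77ca9916bc88f949fc468d917dd2ccca1dd153bfcaa35f3b6f3f7a1d0b62cea47c8ebab7e81192642f644801e52bf93d9d3d1ef7f5df519552c43d09e8a32662cbc2b905a81ac3623c8fd133fdab984072c103690019c5812f11f6d9662c5d8a9c7743c101d08fcfc93c8327334a34be09fb8625abf978675ef145eda6edb193019c6b99527903d84b4a221c4895a94a66b3461a13eaa5e606b5fb8d8352fc53554fa277e313d61d137ac60175ee91b319cbf5686689c891589932748fa14c2d67f1948db3c047fc9269bc58443cdb068868750729f0008b977ff8656db92563774dd8f6e6a8a5633ffdaba256746222fceb0a543581402aa4257c35a8080f29d0ad549b0b913ab14841b8240f934b6eff3c1e435e9b9327c370acd3629bf533ef56e6f47ca8d19a5500517f5c58d6b45771064a17c079c533a444ebb92a3a7e86e7a75f6abe58b8e7ca9e620fdca9f0ca72031f736313ad7ab35853a171d480cca19f6c95e4d757042dc81ee97039ee45ce428ea98aba0ed312c2336b3f395b4417cd2cbd7310548c06b98b85cb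7cc0b5ef9bd3d4857934223c98279619a0cad3db04dbae0024153b9a0d92875b6a84c69b720a995ef999038dc6d790903b089a3bde0a050335f3066a1f4d60dbd96f2fc72f89dd81c52d53144fdae4e5bc61ff164136fb808819cc19be50d8360459aca9d9e02935e5ff959a967a6a8261215400aa17f5ce034281ce4bb137a685aeee4c7939e7891e0c97c592e4ddf8ecd9f0d133dc7f6811d17f9c38bf82ffb685676a32274f897d9427377e4c0c38425c8288965dd19aa094f823571cd487f0227236c5609e5ca77a6c2defc71db84951ecf1a41ce517b0d53d267d94771268e9280208a75a05e128beef959f408682f2ab3111d29af5866acb5a5d9c4c3c2614e21d39fa713dc24cad5a7fed06cfa8d7f90d6fe9be72bbc390e76ab2a105b55b3d86f9ae7aa4c1f955c5dceaff0ec0d5bd0a1bcf2508d3878f54e8340406a431b5c774366b27051d9c4ee97064a2760bb9c448de23a5a4ff4e02737c1d6558a6d81550eb67660714ed66baba1cc7651ea4f303abc80ee0819b9212f3c24b7af7dfedc05302b2771655a3e86be7c8fee5e4cdcbd248f6953685b8e89b6ab8fc802927b90b6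f94e6e6403fd4d6a795f0651bf32067e4978a62c12bedb9887398393cda64b006cf85eb1b3126a12bdc1cca6f5297adbe031b7112dfc4a62f4e22d611ab2cf07c3a4d9c5c8373de00f5a11eb2fc533d1a7e375747144da8b2c35ac454e7776f2cb9dba41584263c50c510370c1063d375cb081bb161a5c963c0705e9a52d65fe3dd6a7e70eab5b1af08c48490f84621a51f8189fce4f437e5a6002e23abcf4ea42c84e34b11780ba3de8dbe76d50d76af816b8a1c8892306c5aab27fe940345fb05e6fc2c9a39bd925a4a21c63c312776378143f9473918140c8cf631a9742bcbd78bf4b05b45525d7faa4671b43d3149115ef1c63538e65910a7396d73895eaa08698ae2eae0059f0c77e48559792aa49689d6efbf94c5c5b9dcbd8ae98ea26346ca4608a6e4406730191ed4ad5d3fd19dc8d0539315047ca622bc7e3a6d22ea259ebe2d9ce61c9bbc8e592333cef1066e5fc4ab8bae55deef32f4f44b4af260b56a87b492b0217118c5222049bf45917aa8db19f7cae7bdc0bc0163f846e88f207a7ecf425f222487ca0f19daa7926b44b18b1d96ac98d7d1d9be857037b64c83c9527b08fb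1875e3d1c38c6d4fd25e1d05fd98a1943c01138b5c112d34975cb93f07da7b02c7564a74ce1310446c140a5fd6902539f09c457bbc1d321a2da5320e7b5949c894705c17d5ed3fa941e85d83e9057f4ddcb8b1cc4a8fc3dcf3f98a250828cc72fe55bf7e399ce660d86cc640a9a1fb98902548dd37463c073cfebc498bb348accd3e91b92268eb97e538c47af950819851633f86da29f90161804cb99c90828ffc52cc6bd1bcaa5ffd0966087175ca26a3aae26fdc5c8c82311ee301f204d92aaae9c4ad275e8a768f65070307b9186e1a4856ca73c43d9a9e4f70affd91bc66af8afd840be08f123f555ca18505a7fd374eae7f68cd2921e788caea6af6bc2b5424a3f379a44d99a5bfd2243e46dbfc750b5d2f67148f0bee0ef7c6f5ad9d1e4138dbbe77277abf581eee69e1200748eafd11260fb0981e5e8e8bf394578f084076287852268b9266d66a3b61d16c6619b95c9ac465ac9d0b23810e96d70bef0416fe045bd3a4c511b00226810f30cf98287a648f214266c7d254af95d5f6a9142a0a887be149a590782d4fba108125bb5c0e33260537f90c81ff5e5bfe0108a72d9922b7ca8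54904adcd6b2ad65f3cf4852c4f94f41e4d0950c481bac97fe786a0df89aea0fb113a82ece9ecf4059b16822dc087d091b662e5d642a55d06473df87286ac9b86268d8a39a67a851922b9b9a9f004e3e73ca8a3c58bd918f39d4a18b7d45b8cc744cc8b92e394835939444e15d2100d0c19cf796890983213fae8540904d324cd4b81b02140fc2b9775f672011b265a1100c95a1c40fadc7f4e9c3d6dc13b1b79201139c7e04155c764991fb2cbd512390daf68a7faa9834779ee80f8dad191d449eefc01c7360523037413f399dfa3e1fd3f55b516fa59c8655efc02c8f9f85dc926aa5ef78dc7bdddd83e668f4be82ac75c87b28d629c915ec50efb3087e5e65ba8e4808faa89dd901d310133a37addee8cbd201094e0b746ebbce87ac6ab5b6a37de9cb5aa9be5d0cf907686a78d7c52e8926b366cddfec2f53f5912dec57fbaa4ee8d32c1c53cf98afdeedbf3eb250ec1f8e52682bc64143cf50ffc1221da47f0c9a962752683e77a8c0e973c376596737b8f1b0aadacaa5e3e844b73a43776381905163c2f4efb6ba15a61f6e946dd69e648bfffbf8b26c81fc908464d8f3bdee59ed4e6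9fb056482000cb5617996e11f4a9e1709ebb90a55fe365f09b4e5e2f62a659f8dd9ce3976b761ca104a97c1862f6e1ee58cc13130d35408ce849484c77d0aaa98445aaf70dc362ff162e0a1b565de885c1da2ad452aaedfe84dba67595366d72f3c5d174b183f6e3779b33fdc0dbcb7b51803e395a7796cbe51bab024a644ca914c3194dbff6da3e610f04cf0686f37afbf6db3f1004b78cc24c74c971f3964bd895fcbc57ede502f34095f6403e6f87db8e623e847d20b04a9887c84cf41dcc0351c806fe8a2cf7bcf6b4e7aba09e130e8ccb33b49b3caf88306e540407f4a90a79746e61b6a65ee025820be11a7668471ddae2e5bca87dc3293f0747c77c1a17b778b1d606c04e2335be0cce2d0860f5a3992bb694a01e80300389c0a41c98788f084bb81f2ccd9c07490f)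
noncomputable def LB1 : Tr ℕ := (Tr.nd (nat_lit 87797) (Tr.nd (nat_lit 77641) (Tr.nd (nat_lit 71963) (Tr.nd (nat_lit 68687) (Tr.nd (nat_lit 67103) (Tr.nd (nat_lit 66359) (Tr.nd (nat_lit 65837) (Tr.nd (nat_lit 65647) (Tr.nd (nat_lit 65581) (Tr.nd (nat_lit 65551) (Tr.nd (nat_lit 65543) (Tr.lf (nat_lit 65539)) (Tr.lf (nat_lit 65543))) (Tr.nd (nat_lit 65557) (Tr.lf (nat_lit 65551)) (Tr.nd (nat_lit 65563) (Tr.lf (nat_lit 65557)) (Tr.lf (nat_lit 65563))))) (Tr.nd (nat_lit 65617) (Tr.nd (nat_lit 65587) (Tr.lf (nat_lit 65581)) (Tr.nd (nat_lit 65599) (Tr.lf (nat_lit 65587)) (Tr.lf (nat_lit 65599)))) (Tr.nd (nat_lit 65629) (Tr.lf (nat_lit 65617)) (Tr.nd (nat_lit 65633) (Tr.lf (nat_lit 65629)) (Tr.lf (nat_lit 65633)))))) (Tr.nd (nat_lit 65713) (Tr.nd (nat_lit 65699) (Tr.nd (nat_lit 65651) (Tr.lf (nat_lit 65647)) (Tr.lf (nat_lit 65651))) (Tr.nd (nat_lit 65701) (Tr.lf (nat_lit 65699)) (Tr.nd (nat_lit 65707) (Tr.lf (nat_lit 65701)) (Tr.lf (nat_lit 65707))))) (Tr.nd (nat_lit 65729) (Tr.nd (nat_lit 65717) (Tr.lf (nat_lit 65713)) (Tr.nd (nat_lit 65719) (Tr.lf (nat_lit 65717)) (Tr.lf (nat_lit 65719)))) (Tr.nd (nat_lit 65827) (Tr.lf (nat_lit 65729)) (Tr.nd (nat_lit 65831) (Tr.lf (nat_lit 65827)) (Tr.lf (nat_lit 65831))))))) (Tr.nd (nat_lit 66067) (Tr.nd (nat_lit 65881) (Tr.nd (nat_lit 65843) (Tr.nd (nat_lit 65839) (Tr.lf (nat_lit 65837)) (Tr.lf (nat_lit 65839))) (Tr.nd (nat_lit 65851) (Tr.lf (nat_lit 65843)) (Tr.nd (nat_lit 65867) (Tr.lf (nat_lit 65851)) (Tr.lf (nat_lit 65867))))) (Tr.nd (nat_lit 66037) (Tr.nd (nat_lit 65899) (Tr.lf (nat_lit 65881)) (Tr.nd (nat_lit 66029) (Tr.lf (nat_lit 65899)) (Tr.lf (nat_lit 66029)))) (Tr.nd (nat_lit 66041) (Tr.lf (nat_lit 66037)) (Tr.nd (nat_lit 66047) (Tr.lf (nat_lit 66041)) (Tr.lf (nat_lit 66047)))))) (Tr.nd (nat_lit 66107) (Tr.nd (nat_lit 66083) (Tr.nd (nat_lit 66071) (Tr.lf (nat_lit 66067)) (Tr.lf (nat_lit 66071))) (Tr.nd (nat_lit 66089) (Tr.lf (nat_lit 66083)) (Tr.nd (nat_lit 66103) (Tr.lf (nat_lit 66089)) (Tr.lf (nat_lit 66103))))) (Tr.nd (nat_lit 66337) (Tr.nd (nat_lit 66137) (Tr.lf (nat_lit 66107)) (Tr.nd (nat_lit 66161) (Tr.lf (nat_lit 66137)) (Tr.lf (nat_lit 66161)))) (Tr.nd (nat_lit 66343) (Tr.lf (nat_lit 66337)) (Tr.nd (nat_lit 66347) (Tr.lf (nat_lit 66343)) (Tr.lf (nat_lit 66347)))))))) (Tr.nd (nat_lit 66739) (Tr.nd (nat_lit 66499) (Tr.nd (nat_lit 66403) (Tr.nd (nat_lit 66373) (Tr.nd (nat_lit 66361) (Tr.lf (nat_lit 66359)) (Tr.lf (nat_lit 66361))) (Tr.nd (nat_lit 66377) (Tr.lf (nat_lit 66373)) (Tr.nd (nat_lit 66383) (Tr.lf (nat_lit 66377)) (Tr.lf (nat_lit 66383))))) (Tr.nd (nat_lit 66457) (Tr.nd (nat_lit 66413) (Tr.lf (nat_lit 66403)) (Tr.nd (nat_lit 66449) (Tr.lf (nat_lit 66413)) (Tr.lf (nat_lit 66449)))) (Tr.nd (nat_lit 66463) (Tr.lf (nat_lit 66457)) (Tr.nd (nat_lit 66467) (Tr.lf (nat_lit 66463)) (Tr.lf (nat_lit 66467)))))) (Tr.nd (nat_lit 66653) (Tr.nd (nat_lit 66617) (Tr.nd (nat_lit 66601) (Tr.lf (nat_lit 66499)) (Tr.lf (nat_lit 66601))) (Tr.nd (nat_lit 66629) (Tr.lf (nat_lit 66617)) (Tr.nd (nat_lit 66643) (Tr.lf (nat_lit 66629)) (Tr.lf (nat_lit 66643))))) (Tr.nd (nat_lit 66701) (Tr.nd (nat_lit 66683) (Tr.lf (nat_lit 66653)) (Tr.nd (nat_lit 66697) (Tr.lf (nat_lit 66683)) (Tr.lf (nat_lit 66697)))) (Tr.nd (nat_lit 66721) (Tr.lf (nat_lit 66701)) (Tr.nd (nat_lit 66733) (Tr.lf (nat_lit 66721)) (Tr.lf (nat_lit 66733))))))) (Tr.nd (nat_lit 66949) (Tr.nd (nat_lit 66821) (Tr.nd (nat_lit 66751) (Tr.nd (nat_lit 66749) (Tr.lf (nat_lit 66739)) (Tr.lf (nat_lit 66749))) (Tr.nd (nat_lit 66797) (Tr.lf (nat_lit 66751)) (Tr.nd (nat_lit 66809) (Tr.lf (nat_lit 66797)) (Tr.lf (nat_lit 66809))))) (Tr.nd (nat_lit 66931) (Tr.nd (nat_lit 66841) (Tr.lf (nat_lit 66821)) (Tr.nd (nat_lit 66853) (Tr.lf (nat_lit 66841)) (Tr.lf (nat_lit 66853)))) (Tr.nd (nat_lit 66943) (Tr.lf (nat_lit 66931)) (Tr.nd (nat_lit 66947) (Tr.lf (nat_lit 66943)) (Tr.lf (nat_lit 66947)))))) (Tr.nd (nat_lit 67021) (Tr.nd (nat_lit 66973) (Tr.nd (nat_lit 66959) (Tr.lf (nat_lit 66949)) (Tr.lf (nat_lit 66959))) (Tr.nd (nat_lit 66977) (Tr.lf (nat_lit 66973)) (Tr.nd (nat_lit 67003) (Tr.lf (nat_lit 66977)) (Tr.lf (nat_lit 67003))))) (Tr.nd (nat_lit 67061) (Tr.nd (nat_lit 67033) (Tr.lf (nat_lit 67021)) (Tr.nd (nat_lit 67057) (Tr.lf (nat_lit 67033)) (Tr.lf (nat_lit 67057)))) (Tr.nd (nat_lit 67073) (Tr.lf (nat_lit 67061)) (Tr.nd (nat_lit 67079) (Tr.lf (nat_lit 67073)) (Tr.lf (nat_lit 67079))))))))) (Tr.nd (nat_lit 67783) (Tr.nd (nat_lit 67453) (Tr.nd (nat_lit 67289) (Tr.nd (nat_lit 67181) (Tr.nd (nat_lit 67153) (Tr.nd (nat_lit 67121) (Tr.lf (nat_lit 67103)) (Tr.lf (nat_lit 67121))) (Tr.nd (nat_lit 67157) (Tr.lf (nat_lit 67153)) (Tr.nd (nat_lit 67169) (Tr.lf (nat_lit 67157)) (Tr.lf (nat_lit 67169))))) (Tr.nd (nat_lit 67261) (Tr.nd (nat_lit 67187) (Tr.lf (nat_lit 67181)) (Tr.nd (nat_lit 67211) (Tr.lf (nat_lit 67187)) (Tr.lf (nat_lit 67211)))) (Tr.nd (nat_lit 67271) (Tr.lf (nat_lit 67261)) (Tr.nd (nat_lit 67273) (Tr.lf (nat_lit 67271)) (Tr.lf (nat_lit 67273)))))) (Tr.nd (nat_lit 67369) (Tr.nd (nat_lit 67339) (Tr.nd (nat_lit 67307) (Tr.lf (nat_lit 67289)) (Tr.lf (nat_lit 67307))) (Tr.nd (nat_lit 67343) (Tr.lf (nat_lit 67339)) (Tr.nd (nat_lit 67349) (Tr.lf (nat_lit 67343)) (Tr.lf (nat_lit 67349))))) (Tr.nd (nat_lit 67409) (Tr.nd (nat_lit 67391) (Tr.lf (nat_lit 67369)) (Tr.nd (nat_lit 67399) (Tr.lf (nat_lit 67391)) (Tr.lf (nat_lit 67399)))) (Tr.nd (nat_lit 67433) (Tr.lf (nat_lit 67409)) (Tr.nd (nat_lit 67447) (Tr.lf (nat_lit 67433)) (Tr.lf (nat_lit 67447))))))) (Tr.nd (nat_lit 67619) (Tr.nd (nat_lit 67499) (Tr.nd (nat_lit 67481) (Tr.nd (nat_lit 67477) (Tr.lf (nat_lit 67453)) (Tr.lf (nat_lit 67477))) (Tr.nd (nat_lit 67489) (Tr.lf (nat_lit 67481)) (Tr.nd (nat_lit 67493) (Tr.lf (nat_lit 67489)) (Tr.lf (nat_lit 67493))))) (Tr.nd (nat_lit 67577) (Tr.nd (nat_lit 67559) (Tr.lf (nat_lit 67499)) (Tr.nd (nat_lit 67567) (Tr.lf (nat_lit 67559)) (Tr.lf (nat_lit 67567)))) (Tr.nd (nat_lit 67579) (Tr.lf (nat_lit 67577)) (Tr.nd (nat_lit 67589) (Tr.lf (nat_lit 67579)) (Tr.lf (nat_lit 67589)))))) (Tr.nd (nat_lit 67741) (Tr.nd (nat_lit 67709) (Tr.nd (nat_lit 67699) (Tr.lf (nat_lit 67619)) (Tr.lf (nat_lit 67699))) (Tr.nd (nat_lit 67723) (Tr.lf (nat_lit 67709)) (Tr.nd (nat_lit 67733) (Tr.lf (nat_lit 67723)) (Tr.lf (nat_lit 67733))))) (Tr.nd (nat_lit 67759) (Tr.nd (nat_lit 67751) (Tr.lf (nat_lit 67741)) (Tr.nd (nat_lit 67757) (Tr.lf (nat_lit 67751)) (Tr.lf (nat_lit 67757)))) (Tr.nd (nat_lit 67763) (Tr.lf (nat_lit 67759)) (Tr.nd (nat_lit 67777) (Tr.lf (nat_lit 67763)) (Tr.lf (nat_lit 67777)))))))) (Tr.nd (nat_lit 68239) (Tr.nd (nat_lit 67961) (Tr.nd (nat_lit 67927) (Tr.nd (nat_lit 67801) (Tr.nd (nat_lit 67789) (Tr.lf (nat_lit 67783)) (Tr.lf (nat_lit 67789))) (Tr.nd (nat_lit 67807) (Tr.lf (nat_lit 67801)) (Tr.nd (nat_lit 67901) (Tr.lf (nat_lit 67807)) (Tr.lf (nat_lit 67901))))) (Tr.nd (nat_lit 67939) (Tr.nd (nat_lit 67931) (Tr.lf (nat_lit 67927)) (Tr.nd (nat_lit 67933) (Tr.lf (nat_lit 67931)) (Tr.lf (nat_lit 67933)))) (Tr.nd (nat_lit 67943) (Tr.lf (nat_lit 67939)) (Tr.nd (nat_lit 67957) (Tr.lf (nat_lit 67943)) (Tr.lf (nat_lit 67957)))))) (Tr.nd (nat_lit 68111) (Tr.nd (nat_lit 67979) (Tr.nd (nat_lit 67967) (Tr.lf (nat_lit 67961)) (Tr.lf (nat_lit 67967))) (Tr.nd (nat_lit 68087) (Tr.lf (nat_lit 67979)) (Tr.nd (nat_lit 68099) (Tr.lf (nat_lit 68087)) (Tr.lf (nat_lit 68099))))) (Tr.nd (nat_lit 68147) (Tr.nd (nat_lit 68113) (Tr.lf (nat_lit 68111)) (Tr.nd (nat_lit 68141) (Tr.lf (nat_lit 68113)) (Tr.lf (nat_lit 68141)))) (Tr.nd (nat_lit 68207) (Tr.lf (nat_lit 68147)) (Tr.nd (nat_lit 68227) (Tr.lf (nat_lit 68207)) (Tr.lf (nat_lit 68227))))))) (Tr.nd (nat_lit 68443) (Tr.nd (nat_lit 68329) (Tr.nd (nat_lit 68279) (Tr.nd (nat_lit 68261) (Tr.lf (nat_lit 68239)) (Tr.lf (nat_lit 68261))) (Tr.nd (nat_lit 68281) (Tr.lf (nat_lit 68279)) (Tr.nd (nat_lit 68311) (Tr.lf (nat_lit 68281)) (Tr.lf (nat_lit 68311))))) (Tr.nd (nat_lit 68389) (Tr.nd (nat_lit 68351) (Tr.lf (nat_lit 68329)) (Tr.nd (nat_lit 68371) (Tr.lf (nat_lit 68351)) (Tr.lf (nat_lit 68371)))) (Tr.nd (nat_lit 68399) (Tr.lf (nat_lit 68389)) (Tr.nd (nat_lit 68437) (Tr.lf (nat_lit 68399)) (Tr.lf (nat_lit 68437)))))) (Tr.nd (nat_lit 68611) (Tr.nd (nat_lit 68449) (Tr.nd (nat_lit 68447) (Tr.lf (nat_lit 68443)) (Tr.lf (nat_lit 68447))) (Tr.nd (nat_lit 68473) (Tr.lf (nat_lit 68449)) (Tr.nd (nat_lit 68477) (Tr.lf (nat_lit 68473)) (Tr.lf (nat_lit 68477))))) (Tr.nd (nat_lit 68659) (Tr.nd (nat_lit 68633) (Tr.lf (nat_lit 68611)) (Tr.nd (nat_lit 68639) (Tr.lf (nat_lit 68633)) (Tr.lf (nat_lit 68639)))) (Tr.nd (nat_lit 68669) (Tr.lf (nat_lit 68659)) (Tr.nd (nat_lit 68683) (Tr.lf (nat_lit 68669)) (Tr.lf (nat_lit 68683)))))))))) (Tr.nd (nat_lit 70241) (Tr.nd (nat_lit 69499) (Tr.nd (nat_lit 69109) (Tr.nd (nat_lit 68899) (Tr.nd (nat_lit 68737) (Tr.nd (nat_lit 68711) (Tr.nd (nat_lit 68699) (Tr.lf (nat_lit 68687)) (Tr.lf (nat_lit 68699))) (Tr.nd (nat_lit 68713) (Tr.lf (nat_lit 68711)) (Tr.nd (nat_lit 68729) (Tr.lf (nat_lit 68713)) (Tr.lf (nat_lit 68729))))) (Tr.nd (nat_lit 68881) (Tr.nd (nat_lit 68743) (Tr.lf (nat_lit 68737)) (Tr.nd (nat_lit 68879) (Tr.lf (nat_lit 68743)) (Tr.lf (nat_lit 68879)))) (Tr.nd (nat_lit 68891) (Tr.lf (nat_lit 68881)) (Tr.nd (nat_lit 68897) (Tr.lf (nat_lit 68891)) (Tr.lf (nat_lit 68897)))))) (Tr.nd (nat_lit 69019) (Tr.nd (nat_lit 68909) (Tr.nd (nat_lit 68903) (Tr.lf (nat_lit 68899)) (Tr.lf (nat_lit 68903))) (Tr.nd (nat_lit 68917) (Tr.lf (nat_lit 68909)) (Tr.nd (nat_lit 69011) (Tr.lf (nat_lit 68917)) (Tr.lf (nat_lit 69011))))) (Tr.nd (nat_lit 69061) (Tr.nd (nat_lit 69029) (Tr.lf (nat_lit 69019)) (Tr.nd (nat_lit 69031) (Tr.lf (nat_lit 69029)) (Tr.lf (nat_lit 69031)))) (Tr.nd (nat_lit 69067) (Tr.lf (nat_lit 69061)) (Tr.nd (nat_lit 69073) (Tr.lf (nat_lit 69067)) (Tr.lf (nat_lit 69073))))))) (Tr.nd (nat_lit 69221) (Tr.nd (nat_lit 69151) (Tr.nd (nat_lit 69127) (Tr.nd (nat_lit 69119) (Tr.lf (nat_lit 69109)) (Tr.lf (nat_lit 69119))) (Tr.nd (nat_lit 69143) (Tr.lf (nat_lit 69127)) (Tr.nd (nat_lit 69149) (Tr.lf (nat_lit 69143)) (Tr.lf (nat_lit 69149))))) (Tr.nd (nat_lit 69193) (Tr.nd (nat_lit 69163) (Tr.lf (nat_lit 69151)) (Tr.nd (nat_lit 69191) (Tr.lf (nat_lit 69163)) (Tr.lf (nat_lit 69191)))) (Tr.nd (nat_lit 69197) (Tr.lf (nat_lit 69193)) (Tr.nd (nat_lit 69203) (Tr.lf (nat_lit 69197)) (Tr.lf (nat_lit 69203)))))) (Tr.nd (nat_lit 69467) (Tr.nd (nat_lit 69239) (Tr.nd (nat_lit 69233) (Tr.lf (nat_lit 69221)) (Tr.lf (nat_lit 69233))) (Tr.nd (nat_lit 69247) (Tr.lf (nat_lit 69239)) (Tr.nd (nat_lit 69463) (Tr.lf (nat_lit 69247)) (Tr.lf (nat_lit 69463))))) (Tr.nd (nat_lit 69491) (Tr.nd (nat_lit 69473) (Tr.lf (nat_lit 69467)) (Tr.nd (nat_lit 69481) (Tr.lf (nat_lit 69473)) (Tr.lf (nat_lit 69481)))) (Tr.nd (nat_lit 69493) (Tr.lf (nat_lit 69491)) (Tr.nd (nat_lit 69497) (Tr.lf (nat_lit 69493)) (Tr.lf (nat_lit 69497)))))))) (Tr.nd (nat_lit 70051) (Tr.nd (nat_lit 69857) (Tr.nd (nat_lit 69653) (Tr.nd (nat_lit 69557) (Tr.nd (nat_lit 69539) (Tr.lf (nat_lit 69499)) (Tr.lf (nat_lit 69539))) (Tr.nd (nat_lit 69593) (Tr.lf (nat_lit 69557)) (Tr.nd (nat_lit 69623) (Tr.lf (nat_lit 69593)) (Tr.lf (nat_lit 69623))))) (Tr.nd (nat_lit 69691) (Tr.nd (nat_lit 69661) (Tr.lf (nat_lit 69653)) (Tr.nd (nat_lit 69677) (Tr.lf (nat_lit 69661)) (Tr.lf (nat_lit 69677)))) (Tr.nd (nat_lit 69697) (Tr.lf (nat_lit 69691)) (Tr.nd (nat_lit 69809) (Tr.lf (nat_lit 69697)) (Tr.lf (nat_lit 69809)))))) (Tr.nd (nat_lit 69929) (Tr.nd (nat_lit 69877) (Tr.nd (nat_lit 69859) (Tr.lf (nat_lit 69857)) (Tr.lf (nat_lit 69859))) (Tr.nd (nat_lit 69899) (Tr.lf (nat_lit 69877)) (Tr.nd (nat_lit 69911) (Tr.lf (nat_lit 69899)) (Tr.lf (nat_lit 69911))))) (Tr.nd (nat_lit 69959) (Tr.nd (nat_lit 69931) (Tr.lf (nat_lit 69929)) (Tr.nd (nat_lit 69941) (Tr.lf (nat_lit 69931)) (Tr.lf (nat_lit 69941)))) (Tr.nd (nat_lit 70019) (Tr.lf (nat_lit 69959)) (Tr.nd (nat_lit 70039) (Tr.lf (nat_lit 70019)) (Tr.lf (nat_lit 70039))))))) (Tr.nd (nat_lit 70157) (Tr.nd (nat_lit 70111) (Tr.nd (nat_lit 70067) (Tr.nd (nat_lit 70061) (Tr.lf (nat_lit 70051)) (Tr.lf (nat_lit 70061))) (Tr.nd (nat_lit 70079) (Tr.lf (nat_lit 70067)) (Tr.nd (nat_lit 70099) (Tr.lf (nat_lit 70079)) (Tr.lf (nat_lit 70099))))) (Tr.nd (nat_lit 70123) (Tr.nd (nat_lit 70117) (Tr.lf (nat_lit 70111)) (Tr.nd (nat_lit 70121) (Tr.lf (nat_lit 70117)) (Tr.lf (nat_lit 70121)))) (Tr.nd (nat_lit 70139) (Tr.lf (nat_lit 70123)) (Tr.nd (nat_lit 70141) (Tr.lf (nat_lit 70139)) (Tr.lf (nat_lit 70141)))))) (Tr.nd (nat_lit 70199) (Tr.nd (nat_lit 70177) (Tr.nd (nat_lit 70163) (Tr.lf (nat_lit 70157)) (Tr.lf (nat_lit 70163))) (Tr.nd (nat_lit 70181) (Tr.lf (nat_lit 70177)) (Tr.nd (nat_lit 70183) (Tr.lf (nat_lit 70181)) (Tr.lf (nat_lit 70183))))) (Tr.nd (nat_lit 70223) (Tr.nd (nat_lit 70201) (Tr.lf (nat_lit 70199)) (Tr.nd (nat_lit 70207) (Tr.lf (nat_lit 70201)) (Tr.lf (nat_lit 70207)))) (Tr.nd (nat_lit 70229) (Tr.lf (nat_lit 70223)) (Tr.nd (nat_lit 70237) (Tr.lf (nat_lit 70229)) (Tr.lf (nat_lit 70237))))))))) (Tr.nd (nat_lit 71209) (Tr.nd (nat_lit 70793) (Tr.nd (nat_lit 70639) (Tr.nd (nat_lit 70583) (Tr.nd (nat_lit 70271) (Tr.nd (nat_lit 70249) (Tr.lf (nat_lit 70241)) (Tr.lf (nat_lit 70249))) (Tr.nd (nat_lit 70289) (Tr.lf (nat_lit 70271)) (Tr.nd (nat_lit 70507) (Tr.lf (nat_lit 70289)) (Tr.lf (nat_lit 70507))))) (Tr.nd (nat_lit 70619) (Tr.nd (nat_lit 70589) (Tr.lf (nat_lit 70583)) (Tr.nd (nat_lit 70607) (Tr.lf (nat_lit 70589)) (Tr.lf (nat_lit 70607)))) (Tr.nd (nat_lit 70621) (Tr.lf (nat_lit 70619)) (Tr.nd (nat_lit 70627) (Tr.lf (nat_lit 70621)) (Tr.lf (nat_lit 70627)))))) (Tr.nd (nat_lit 70709) (Tr.nd (nat_lit 70663) (Tr.nd (nat_lit 70657) (Tr.lf (nat_lit 70639)) (Tr.lf (nat_lit 70657))) (Tr.nd (nat_lit 70667) (Tr.lf (nat_lit 70663)) (Tr.nd (nat_lit 70687) (Tr.lf (nat_lit 70667)) (Tr.lf (nat_lit 70687))))) (Tr.nd (nat_lit 70753) (Tr.nd (nat_lit 70717) (Tr.lf (nat_lit 70709)) (Tr.nd (nat_lit 70729) (Tr.lf (nat_lit 70717)) (Tr.lf (nat_lit 70729)))) (Tr.nd (nat_lit 70769) (Tr.lf (nat_lit 70753)) (Tr.nd (nat_lit 70783) (Tr.lf (nat_lit 70769)) (Tr.lf (nat_lit 70783))))))) (Tr.nd (nat_lit 71059) (Tr.nd (nat_lit 70921) (Tr.nd (nat_lit 70841) (Tr.nd (nat_lit 70823) (Tr.lf (nat_lit 70793)) (Tr.lf (nat_lit 70823))) (Tr.nd (nat_lit 70843) (Tr.lf (nat_lit 70841)) (Tr.nd (nat_lit 70849) (Tr.lf (nat_lit 70843)) (Tr.lf (nat_lit 70849))))) (Tr.nd (nat_lit 71011) (Tr.nd (nat_lit 70951) (Tr.lf (nat_lit 70921)) (Tr.nd (nat_lit 70957) (Tr.lf (nat_lit 70951)) (Tr.lf (nat_lit 70957)))) (Tr.nd (nat_lit 71023) (Tr.lf (nat_lit 71011)) (Tr.nd (nat_lit 71039) (Tr.lf (nat_lit 71023)) (Tr.lf (nat_lit 71039)))))) (Tr.nd (nat_lit 71129) (Tr.nd (nat_lit 71081) (Tr.nd (nat_lit 71069) (Tr.lf (nat_lit 71059)) (Tr.lf (nat_lit 71069))) (Tr.nd (nat_lit 71089) (Tr.lf (nat_lit 71081)) (Tr.nd (nat_lit 71119) (Tr.lf (nat_lit 71089)) (Tr.lf (nat_lit 71119))))) (Tr.nd (nat_lit 71161) (Tr.nd (nat_lit 71143) (Tr.lf (nat_lit 71129)) (Tr.nd (nat_lit 71147) (Tr.lf (nat_lit 71143)) (Tr.lf (nat_lit 71147)))) (Tr.nd (nat_lit 71171) (Tr.lf (nat_lit 71161)) (Tr.nd (nat_lit 71191) (Tr.lf (nat_lit 71171)) (Tr.lf (nat_lit 71191)))))))) (Tr.nd (nat_lit 71411) (Tr.nd (nat_lit 71329) (Tr.nd (nat_lit 71261) (Tr.nd (nat_lit 71237) (Tr.nd (nat_lit 71233) (Tr.lf (nat_lit 71209)) (Tr.lf (nat_lit 71233))) (Tr.nd (nat_lit 71249) (Tr.lf (nat_lit 71237)) (Tr.nd (nat_lit 71257) (Tr.lf (nat_lit 71249)) (Tr.lf (nat_lit 71257))))) (Tr.nd (nat_lit 71293) (Tr.nd (nat_lit 71263) (Tr.lf (nat_lit 71261)) (Tr.nd (nat_lit 71287) (Tr.lf (nat_lit 71263)) (Tr.lf (nat_lit 71287)))) (Tr.nd (nat_lit 71317) (Tr.lf (nat_lit 71293)) (Tr.nd (nat_lit 71327) (Tr.lf (nat_lit 71317)) (Tr.lf (nat_lit 71327)))))) (Tr.nd (nat_lit 71353) (Tr.nd (nat_lit 71339) (Tr.nd (nat_lit 71333) (Tr.lf (nat_lit 71329)) (Tr.lf (nat_lit 71333))) (Tr.nd (nat_lit 71341) (Tr.lf (nat_lit 71339)) (Tr.nd (nat_lit 71347) (Tr.lf (nat_lit 71341)) (Tr.lf (nat_lit 71347))))) (Tr.nd (nat_lit 71387) (Tr.nd (nat_lit 71359) (Tr.lf (nat_lit 71353)) (Tr.nd (nat_lit 71363) (Tr.lf (nat_lit 71359)) (Tr.lf (nat_lit 71363)))) (Tr.nd (nat_lit 71389) (Tr.lf (nat_lit 71387)) (Tr.nd (nat_lit 71399) (Tr.lf (nat_lit 71389)) (Tr.lf (nat_lit 71399))))))) (Tr.nd (nat_lit 71777) (Tr.nd (nat_lit 71443) (Tr.nd (nat_lit 71419) (Tr.nd (nat_lit 71413) (Tr.lf (nat_lit 71411)) (Tr.lf (nat_lit 71413))) (Tr.nd (nat_lit 71429) (Tr.lf (nat_lit 71419)) (Tr.nd (nat_lit 71437) (Tr.lf (nat_lit 71429)) (Tr.lf (nat_lit 71437))))) (Tr.nd (nat_lit 71473) (Tr.nd (nat_lit 71453) (Tr.lf (nat_lit 71443)) (Tr.nd (nat_lit 71471) (Tr.lf (nat_lit 71453)) (Tr.lf (nat_lit 71471)))) (Tr.nd (nat_lit 71479) (Tr.lf (nat_lit 71473)) (Tr.nd (nat_lit 71719) (Tr.lf (nat_lit 71479)) (Tr.lf (nat_lit 71719)))))) (Tr.nd (nat_lit 71899) (Tr.nd (nat_lit 71821) (Tr.nd (nat_lit 71809) (Tr.lf (nat_lit 71777)) (Tr.lf (nat_lit 71809))) (Tr.nd (nat_lit 71881) (Tr.lf (nat_lit 71821)) (Tr.nd (nat_lit 71887) (Tr.lf (nat_lit 71881)) (Tr.lf (nat_lit 71887))))) (Tr.nd (nat_lit 71933) (Tr.nd (nat_lit 71909) (Tr.lf (nat_lit 71899)) (Tr.nd (nat_lit 71917) (Tr.lf (nat_lit 71909)) (Tr.lf (nat_lit 71917)))) (Tr.nd (nat_lit 71941) (Tr.lf (nat_lit 71933)) (Tr.nd (nat_lit 71947) (Tr.lf (nat_lit 71941)) (Tr.lf (nat_lit 71947))))))))))) (Tr.nd (nat_lit 74653) (Tr.nd (nat_lit 73471) (Tr.nd (nat_lit 72647) (Tr.nd (nat_lit 72229) (Tr.nd (nat_lit 72073) (Tr.nd (nat_lit 71999) (Tr.nd (nat_lit 71983) (Tr.nd (nat_lit 71971) (Tr.lf (nat_lit 71963)) (Tr.lf (nat_lit 71971))) (Tr.nd (nat_lit 71987) (Tr.lf (nat_lit 71983)) (Tr.nd (nat_lit 71993) (Tr.lf (nat_lit 71987)) (Tr.lf (nat_lit 71993))))) (Tr.nd (nat_lit 72043) (Tr.nd (nat_lit 72019) (Tr.lf (nat_lit 71999)) (Tr.nd (nat_lit 72031) (Tr.lf (nat_lit 72019)) (Tr.lf (nat_lit 72031)))) (Tr.nd (nat_lit 72047) (Tr.lf (nat_lit 72043)) (Tr.nd (nat_lit 72053) (Tr.lf (nat_lit 72047)) (Tr.lf (nat_lit 72053)))))) (Tr.nd (nat_lit 72103) (Tr.nd (nat_lit 72089) (Tr.nd (nat_lit 72077) (Tr.lf (nat_lit 72073)) (Tr.lf (nat_lit 72077))) (Tr.nd (nat_lit 72091) (Tr.lf (nat_lit 72089)) (Tr.nd (nat_lit 72101) (Tr.lf (nat_lit 72091)) (Tr.lf (nat_lit 72101))))) (Tr.nd (nat_lit 72161) (Tr.nd (nat_lit 72109) (Tr.lf (nat_lit 72103)) (Tr.nd (nat_lit 72139) (Tr.lf (nat_lit 72109)) (Tr.lf (nat_lit 72139)))) (Tr.nd (nat_lit 72167) (Tr.lf (nat_lit 72161)) (Tr.nd (nat_lit 72221) (Tr.lf (nat_lit 72167)) (Tr.lf (nat_lit 72221))))))) (Tr.nd (nat_lit 72481) (Tr.nd (nat_lit 72341) (Tr.nd (nat_lit 72271) (Tr.nd (nat_lit 72269) (Tr.lf (nat_lit 72229)) (Tr.lf (nat_lit 72269))) (Tr.nd (nat_lit 72313) (Tr.lf (nat_lit 72271)) (Tr.nd (nat_lit 72337) (Tr.lf (nat_lit 72313)) (Tr.lf (nat_lit 72337))))) (Tr.nd (nat_lit 72461) (Tr.nd (nat_lit 72421) (Tr.lf (nat_lit 72341)) (Tr.nd (nat_lit 72431) (Tr.lf (nat_lit 72421)) (Tr.lf (nat_lit 72431)))) (Tr.nd (nat_lit 72467) (Tr.lf (nat_lit 72461)) (Tr.nd (nat_lit 72469) (Tr.lf (nat_lit 72467)) (Tr.lf (nat_lit 72469)))))) (Tr.nd (nat_lit 72547) (Tr.nd (nat_lit 72497) (Tr.nd (nat_lit 72493) (Tr.lf (nat_lit 72481)) (Tr.lf (nat_lit 72493))) (Tr.nd (nat_lit 72503) (Tr.lf (nat_lit 72497)) (Tr.nd (nat_lit 72533) (Tr.lf (nat_lit 72503)) (Tr.lf (nat_lit 72533))))) (Tr.nd (nat_lit 72577) (Tr.nd (nat_lit 72551) (Tr.lf (nat_lit 72547)) (Tr.nd (nat_lit 72559) (Tr.lf (nat_lit 72551)) (Tr.lf (nat_lit 72559)))) (Tr.nd (nat_lit 72623) (Tr.lf (nat_lit 72577)) (Tr.nd (nat_lit 72643) (Tr.lf (nat_lit 72623)) (Tr.lf (nat_lit 72643)))))))) (Tr.nd (nat_lit 72889) (Tr.nd (nat_lit 72733) (Tr.nd (nat_lit 72679) (Tr.nd (nat_lit 72661) (Tr.nd (nat_lit 72649) (Tr.lf (nat_lit 72647)) (Tr.lf (nat_lit 72649))) (Tr.nd (nat_lit 72671) (Tr.lf (nat_lit 72661)) (Tr.nd (nat_lit 72673) (Tr.lf (nat_lit 72671)) (Tr.lf (nat_lit 72673))))) (Tr.nd (nat_lit 72707) (Tr.nd (nat_lit 72689) (Tr.lf (nat_lit 72679)) (Tr.nd (nat_lit 72701) (Tr.lf (nat_lit 72689)) (Tr.lf (nat_lit 72701)))) (Tr.nd (nat_lit 72719) (Tr.lf (nat_lit 72707)) (Tr.nd (nat_lit 72727) (Tr.lf (nat_lit 72719)) (Tr.lf (nat_lit 72727)))))) (Tr.nd (nat_lit 72817) (Tr.nd (nat_lit 72763) (Tr.nd (nat_lit 72739) (Tr.lf (nat_lit 72733)) (Tr.lf (nat_lit 72739))) (Tr.nd (nat_lit 72767) (Tr.lf (nat_lit 72763)) (Tr.nd (nat_lit 72797) (Tr.lf (nat_lit 72767)) (Tr.lf (nat_lit 72797))))) (Tr.nd (nat_lit 72869) (Tr.nd (nat_lit 72823) (Tr.lf (nat_lit 72817)) (Tr.nd (nat_lit 72859) (Tr.lf (nat_lit 72823)) (Tr.lf (nat_lit 72859)))) (Tr.nd (nat_lit 72871) (Tr.lf (nat_lit 72869)) (Tr.nd (nat_lit 72883) (Tr.lf (nat_lit 72871)) (Tr.lf (nat_lit 72883))))))) (Tr.nd (nat_lit 72973) (Tr.nd (nat_lit 72923) (Tr.nd (nat_lit 72901) (Tr.nd (nat_lit 72893) (Tr.lf (nat_lit 72889)) (Tr.lf (nat_lit 72893))) (Tr.nd (nat_lit 72907) (Tr.lf (nat_lit 72901)) (Tr.nd (nat_lit 72911) (Tr.lf (nat_lit 72907)) (Tr.lf (nat_lit 72911))))) (Tr.nd (nat_lit 72949) (Tr.nd (nat_lit 72931) (Tr.lf (nat_lit 72923)) (Tr.nd (nat_lit 72937) (Tr.lf (nat_lit 72931)) (Tr.lf (nat_lit 72937)))) (Tr.nd (nat_lit 72953) (Tr.lf (nat_lit 72949)) (Tr.nd (nat_lit 72959) (Tr.lf (nat_lit 72953)) (Tr.lf (nat_lit 72959)))))) (Tr.nd (nat_lit 73309) (Tr.nd (nat_lit 72997) (Tr.nd (nat_lit 72977) (Tr.lf (nat_lit 72973)) (Tr.lf (nat_lit 72977))) (Tr.nd (nat_lit 73121) (Tr.lf (nat_lit 72997)) (Tr.nd (nat_lit 73277) (Tr.lf (nat_lit 73121)) (Tr.lf (nat_lit 73277))))) (Tr.nd (nat_lit 73387) (Tr.nd (nat_lit 73351) (Tr.lf (nat_lit 73309)) (Tr.nd (nat_lit 73361) (Tr.lf (nat_lit 73351)) (Tr.lf (nat_lit 73361)))) (Tr.nd (nat_lit 73417) (Tr.lf (nat_lit 73387)) (Tr.nd (nat_lit 73459) (Tr.lf (nat_lit 73417)) (Tr.lf (nat_lit 73459))))))))) (Tr.nd (nat_lit 74143) (Tr.nd (nat_lit 73771) (Tr.nd (nat_lit 73651) (Tr.nd (nat_lit 73597) (Tr.nd (nat_lit 73571) (Tr.nd (nat_lit 73477) (Tr.lf (nat_lit 73471)) (Tr.lf (nat_lit 73477))) (Tr.nd (nat_lit 73583) (Tr.lf (nat_lit 73571)) (Tr.nd (nat_lit 73589) (Tr.lf (nat_lit 73583)) (Tr.lf (nat_lit 73589))))) (Tr.nd (nat_lit 73613) (Tr.nd (nat_lit 73607) (Tr.lf (nat_lit 73597)) (Tr.nd (nat_lit 73609) (Tr.lf (nat_lit 73607)) (Tr.lf (nat_lit 73609)))) (Tr.nd (nat_lit 73637) (Tr.lf (nat_lit 73613)) (Tr.nd (nat_lit 73643) (Tr.lf (nat_lit 73637)) (Tr.lf (nat_lit 73643)))))) (Tr.nd (nat_lit 73699) (Tr.nd (nat_lit 73679) (Tr.nd (nat_lit 73673) (Tr.lf (nat_lit 73651)) (Tr.lf (nat_lit 73673))) (Tr.nd (nat_lit 73681) (Tr.lf (nat_lit 73679)) (Tr.nd (nat_lit 73693) (Tr.lf (nat_lit 73681)) (Tr.lf (nat_lit 73693))))) (Tr.nd (nat_lit 73727) (Tr.nd (nat_lit 73709) (Tr.lf (nat_lit 73699)) (Tr.nd (nat_lit 73721) (Tr.lf (nat_lit 73709)) (Tr.lf (nat_lit 73721)))) (Tr.nd (nat_lit 73751) (Tr.lf (nat_lit 73727)) (Tr.nd (nat_lit 73757) (Tr.lf (nat_lit 73751)) (Tr.lf (nat_lit 73757))))))) (Tr.nd (nat_lit 73907) (Tr.nd (nat_lit 73849) (Tr.nd (nat_lit 73819) (Tr.nd (nat_lit 73783) (Tr.lf (nat_lit 73771)) (Tr.lf (nat_lit 73783))) (Tr.nd (nat_lit 73823) (Tr.lf (nat_lit 73819)) (Tr.nd (nat_lit 73847) (Tr.lf (nat_lit 73823)) (Tr.lf (nat_lit 73847))))) (Tr.nd (nat_lit 73877) (Tr.nd (nat_lit 73859) (Tr.lf (nat_lit 73849)) (Tr.nd (nat_lit 73867) (Tr.lf (nat_lit 73859)) (Tr.lf (nat_lit 73867)))) (Tr.nd (nat_lit 73883) (Tr.lf (nat_lit 73877)) (Tr.nd (nat_lit 73897) (Tr.lf (nat_lit 73883)) (Tr.lf (nat_lit 73897)))))) (Tr.nd (nat_lit 73973) (Tr.nd (nat_lit 73943) (Tr.nd (nat_lit 73939) (Tr.lf (nat_lit 73907)) (Tr.lf (nat_lit 73939))) (Tr.nd (nat_lit 73951) (Tr.lf (nat_lit 73943)) (Tr.nd (nat_lit 73961) (Tr.lf (nat_lit 73951)) (Tr.lf (nat_lit 73961))))) (Tr.nd (nat_lit 74047) (Tr.nd (nat_lit 74017) (Tr.lf (nat_lit 73973)) (Tr.nd (nat_lit 74027) (Tr.lf (nat_lit 74017)) (Tr.lf (nat_lit 74027)))) (Tr.nd (nat_lit 74077) (Tr.lf (nat_lit 74047)) (Tr.nd (nat_lit 74093) (Tr.lf (nat_lit 74077)) (Tr.lf (nat_lit 74093)))))))) (Tr.nd (nat_lit 74411) (Tr.nd (nat_lit 74287) (Tr.nd (nat_lit 74201) (Tr.nd (nat_lit 74159) (Tr.nd (nat_lit 74149) (Tr.lf (nat_lit 74143)) (Tr.lf (nat_lit 74149))) (Tr.nd (nat_lit 74189) (Tr.lf (nat_lit 74159)) (Tr.nd (nat_lit 74197) (Tr.lf (nat_lit 74189)) (Tr.lf (nat_lit 74197))))) (Tr.nd (nat_lit 74231) (Tr.nd (nat_lit 74203) (Tr.lf (nat_lit 74201)) (Tr.nd (nat_lit 74209) (Tr.lf (nat_lit 74203)) (Tr.lf (nat_lit 74209)))) (Tr.nd (nat_lit 74257) (Tr.lf (nat_lit 74231)) (Tr.nd (nat_lit 74279) (Tr.lf (nat_lit 74257)) (Tr.lf (nat_lit 74279)))))) (Tr.nd (nat_lit 74323) (Tr.nd (nat_lit 74297) (Tr.nd (nat_lit 74293) (Tr.lf (nat_lit 74287)) (Tr.lf (nat_lit 74293))) (Tr.nd (nat_lit 74311) (Tr.lf (nat_lit 74297)) (Tr.nd (nat_lit 74317) (Tr.lf (nat_lit 74311)) (Tr.lf (nat_lit 74317))))) (Tr.nd (nat_lit 74377) (Tr.nd (nat_lit 74353) (Tr.lf (nat_lit 74323)) (Tr.nd (nat_lit 74363) (Tr.lf (nat_lit 74353)) (Tr.lf (nat_lit 74363)))) (Tr.nd (nat_lit 74381) (Tr.lf (nat_lit 74377)) (Tr.nd (nat_lit 74383) (Tr.lf (nat_lit 74381)) (Tr.lf (nat_lit 74383))))))) (Tr.nd (nat_lit 74527) (Tr.nd (nat_lit 74453) (Tr.nd (nat_lit 74419) (Tr.nd (nat_lit 74413) (Tr.lf (nat_lit 74411)) (Tr.lf (nat_lit 74413))) (Tr.nd (nat_lit 74441) (Tr.lf (nat_lit 74419)) (Tr.nd (nat_lit 74449) (Tr.lf (nat_lit 74441)) (Tr.lf (nat_lit 74449))))) (Tr.nd (nat_lit 74507) (Tr.nd (nat_lit 74471) (Tr.lf (nat_lit 74453)) (Tr.nd (nat_lit 74489) (Tr.lf (nat_lit 74471)) (Tr.lf (nat_lit 74489)))) (Tr.nd (nat_lit 74509) (Tr.lf (nat_lit 74507)) (Tr.nd (nat_lit 74521) (Tr.lf (nat_lit 74509)) (Tr.lf (nat_lit 74521)))))) (Tr.nd (nat_lit 74573) (Tr.nd (nat_lit 74551) (Tr.nd (nat_lit 74531) (Tr.lf (nat_lit 74527)) (Tr.lf (nat_lit 74531))) (Tr.nd (nat_lit 74561) (Tr.lf (nat_lit 74551)) (Tr.nd (nat_lit 74567) (Tr.lf (nat_lit 74561)) (Tr.lf (nat_lit 74567))))) (Tr.nd (nat_lit 74609) (Tr.nd (nat_lit 74587) (Tr.lf (nat_lit 74573)) (Tr.nd (nat_lit 74597) (Tr.lf (nat_lit 74587)) (Tr.lf (nat_lit 74597)))) (Tr.nd (nat_lit 74611) (Tr.lf (nat_lit 74609)) (Tr.nd (nat_lit 74623) (Tr.lf (nat_lit 74611)) (Tr.lf (nat_lit 74623)))))))))) (Tr.nd (nat_lit 76157) (Tr.nd (nat_lit 75577) (Tr.nd (nat_lit 75239) (Tr.nd (nat_lit 74887) (Tr.nd (nat_lit 74717) (Tr.nd (nat_lit 74699) (Tr.nd (nat_lit 74687) (Tr.lf (nat_lit 74653)) (Tr.lf (nat_lit 74687))) (Tr.nd (nat_lit 74707) (Tr.lf (nat_lit 74699)) (Tr.nd (nat_lit 74713) (Tr.lf (nat_lit 74707)) (Tr.lf (nat_lit 74713))))) (Tr.nd (nat_lit 74821) (Tr.nd (nat_lit 74719) (Tr.lf (nat_lit 74717)) (Tr.nd (nat_lit 74729) (Tr.lf (nat_lit 74719)) (Tr.lf (nat_lit 74729)))) (Tr.nd (nat_lit 74857) (Tr.lf (nat_lit 74821)) (Tr.nd (nat_lit 74873) (Tr.lf (nat_lit 74857)) (Tr.lf (nat_lit 74873)))))) (Tr.nd (nat_lit 75133) (Tr.nd (nat_lit 75013) (Tr.nd (nat_lit 74941) (Tr.lf (nat_lit 74887)) (Tr.lf (nat_lit 74941))) (Tr.nd (nat_lit 75037) (Tr.lf (nat_lit 75013)) (Tr.nd (nat_lit 75041) (Tr.lf (nat_lit 75037)) (Tr.lf (nat_lit 75041))))) (Tr.nd (nat_lit 75193) (Tr.nd (nat_lit 75149) (Tr.lf (nat_lit 75133)) (Tr.nd (nat_lit 75181) (Tr.lf (nat_lit 75149)) (Tr.lf (nat_lit 75181)))) (Tr.nd (nat_lit 75209) (Tr.lf (nat_lit 75193)) (Tr.nd (nat_lit 75227) (Tr.lf (nat_lit 75209)) (Tr.lf (nat_lit 75227))))))) (Tr.nd (nat_lit 75479) (Tr.nd (nat_lit 75337) (Tr.nd (nat_lit 75307) (Tr.nd (nat_lit 75253) (Tr.lf (nat_lit 75239)) (Tr.lf (nat_lit 75253))) (Tr.nd (nat_lit 75323) (Tr.lf (nat_lit 75307)) (Tr.nd (nat_lit 75329) (Tr.lf (nat_lit 75323)) (Tr.lf (nat_lit 75329))))) (Tr.nd (nat_lit 75407) (Tr.nd (nat_lit 75347) (Tr.lf (nat_lit 75337)) (Tr.nd (nat_lit 75403) (Tr.lf (nat_lit 75347)) (Tr.lf (nat_lit 75403)))) (Tr.nd (nat_lit 75431) (Tr.lf (nat_lit 75407)) (Tr.nd (nat_lit 75437) (Tr.lf (nat_lit 75431)) (Tr.lf (nat_lit 75437)))))) (Tr.nd (nat_lit 75533) (Tr.nd (nat_lit 75511) (Tr.nd (nat_lit 75503) (Tr.lf (nat_lit 75479)) (Tr.lf (nat_lit 75503))) (Tr.nd (nat_lit 75521) (Tr.lf (nat_lit 75511)) (Tr.nd (nat_lit 75527) (Tr.lf (nat_lit 75521)) (Tr.lf (nat_lit 75527))))) (Tr.nd (nat_lit 75553) (Tr.nd (nat_lit 75539) (Tr.lf (nat_lit 75533)) (Tr.nd (nat_lit 75541) (Tr.lf (nat_lit 75539)) (Tr.lf (nat_lit 75541)))) (Tr.nd (nat_lit 75557) (Tr.lf (nat_lit 75553)) (Tr.nd (nat_lit 75571) (Tr.lf (nat_lit 75557)) (Tr.lf (nat_lit 75571)))))))) (Tr.nd (nat_lit 75793) (Tr.nd (nat_lit 75689) (Tr.nd (nat_lit 75629) (Tr.nd (nat_lit 75611) (Tr.nd (nat_lit 75583) (Tr.lf (nat_lit 75577)) (Tr.lf (nat_lit 75583))) (Tr.nd (nat_lit 75617) (Tr.lf (nat_lit 75611)) (Tr.nd (nat_lit 75619) (Tr.lf (nat_lit 75617)) (Tr.lf (nat_lit 75619))))) (Tr.nd (nat_lit 75659) (Tr.nd (nat_lit 75641) (Tr.lf (nat_lit 75629)) (Tr.nd (nat_lit 75653) (Tr.lf (nat_lit 75641)) (Tr.lf (nat_lit 75653)))) (Tr.nd (nat_lit 75679) (Tr.lf (nat_lit 75659)) (Tr.nd (nat_lit 75683) (Tr.lf (nat_lit 75679)) (Tr.lf (nat_lit 75683)))))) (Tr.nd (nat_lit 75731) (Tr.nd (nat_lit 75707) (Tr.nd (nat_lit 75703) (Tr.lf (nat_lit 75689)) (Tr.lf (nat_lit 75703))) (Tr.nd (nat_lit 75709) (Tr.lf (nat_lit 75707)) (Tr.nd (nat_lit 75721) (Tr.lf (nat_lit 75709)) (Tr.lf (nat_lit 75721))))) (Tr.nd (nat_lit 75773) (Tr.nd (nat_lit 75743) (Tr.lf (nat_lit 75731)) (Tr.nd (nat_lit 75767) (Tr.lf (nat_lit 75743)) (Tr.lf (nat_lit 75767)))) (Tr.nd (nat_lit 75781) (Tr.lf (nat_lit 75773)) (Tr.nd (nat_lit 75787) (Tr.lf (nat_lit 75781)) (Tr.lf (nat_lit 75787))))))) (Tr.nd (nat_lit 75979) (Tr.nd (nat_lit 75869) (Tr.nd (nat_lit 75821) (Tr.nd (nat_lit 75797) (Tr.lf (nat_lit 75793)) (Tr.lf (nat_lit 75797))) (Tr.nd (nat_lit 75833) (Tr.lf (nat_lit 75821)) (Tr.nd (nat_lit 75853) (Tr.lf (nat_lit 75833)) (Tr.lf (nat_lit 75853))))) (Tr.nd (nat_lit 75931) (Tr.nd (nat_lit 75883) (Tr.lf (nat_lit 75869)) (Tr.nd (nat_lit 75913) (Tr.lf (nat_lit 75883)) (Tr.lf (nat_lit 75913)))) (Tr.nd (nat_lit 75937) (Tr.lf (nat_lit 75931)) (Tr.nd (nat_lit 75967) (Tr.lf (nat_lit 75937)) (Tr.lf (nat_lit 75967)))))) (Tr.nd (nat_lit 76081) (Tr.nd (nat_lit 75997) (Tr.nd (nat_lit 75983) (Tr.lf (nat_lit 75979)) (Tr.lf (nat_lit 75983))) (Tr.nd (nat_lit 76001) (Tr.lf (nat_lit 75997)) (Tr.nd (nat_lit 76003) (Tr.lf (nat_lit 76001)) (Tr.lf (nat_lit 76003))))) (Tr.nd (nat_lit 76103) (Tr.nd (nat_lit 76091) (Tr.lf (nat_lit 76081)) (Tr.nd (nat_lit 76099) (Tr.lf (nat_lit 76091)) (Tr.lf (nat_lit 76099)))) (Tr.nd (nat_lit 76123) (Tr.lf (nat_lit 76103)) (Tr.nd (nat_lit 76129) (Tr.lf (nat_lit 76123)) (Tr.lf (nat_lit 76129))))))))) (Tr.nd (nat_lit 76913) (Tr.nd (nat_lit 76423) (Tr.nd (nat_lit 76283) (Tr.nd (nat_lit 76231) (Tr.nd (nat_lit 76163) (Tr.nd (nat_lit 76159) (Tr.lf (nat_lit 76157)) (Tr.lf (nat_lit 76159))) (Tr.nd (nat_lit 76207) (Tr.lf (nat_lit 76163)) (Tr.nd (nat_lit 76213) (Tr.lf (nat_lit 76207)) (Tr.lf (nat_lit 76213))))) (Tr.nd (nat_lit 76253) (Tr.nd (nat_lit 76243) (Tr.lf (nat_lit 76231)) (Tr.nd (nat_lit 76249) (Tr.lf (nat_lit 76243)) (Tr.lf (nat_lit 76249)))) (Tr.nd (nat_lit 76259) (Tr.lf (nat_lit 76253)) (Tr.nd (nat_lit 76261) (Tr.lf (nat_lit 76259)) (Tr.lf (nat_lit 76261)))))) (Tr.nd (nat_lit 76367) (Tr.nd (nat_lit 76303) (Tr.nd (nat_lit 76289) (Tr.lf (nat_lit 76283)) (Tr.lf (nat_lit 76289))) (Tr.nd (nat_lit 76333) (Tr.lf (nat_lit 76303)) (Tr.nd (nat_lit 76343) (Tr.lf (nat_lit 76333)) (Tr.lf (nat_lit 76343))))) (Tr.nd (nat_lit 76387) (Tr.nd (nat_lit 76369) (Tr.lf (nat_lit 76367)) (Tr.nd (nat_lit 76379) (Tr.lf (nat_lit 76369)) (Tr.lf (nat_lit 76379)))) (Tr.nd (nat_lit 76403) (Tr.lf (nat_lit 76387)) (Tr.nd (nat_lit 76421) (Tr.lf (nat_lit 76403)) (Tr.lf (nat_lit 76421))))))) (Tr.nd (nat_lit 76541) (Tr.nd (nat_lit 76487) (Tr.nd (nat_lit 76463) (Tr.nd (nat_lit 76441) (Tr.lf (nat_lit 76423)) (Tr.lf (nat_lit 76441))) (Tr.nd (nat_lit 76471) (Tr.lf (nat_lit 76463)) (Tr.nd (nat_lit 76481) (Tr.lf (nat_lit 76471)) (Tr.lf (nat_lit 76481))))) (Tr.nd (nat_lit 76511) (Tr.nd (nat_lit 76493) (Tr.lf (nat_lit 76487)) (Tr.nd (nat_lit 76507) (Tr.lf (nat_lit 76493)) (Tr.lf (nat_lit 76507)))) (Tr.nd (nat_lit 76519) (Tr.lf (nat_lit 76511)) (Tr.nd (nat_lit 76537) (Tr.lf (nat_lit 76519)) (Tr.lf (nat_lit 76537)))))) (Tr.nd (nat_lit 76771) (Tr.nd (nat_lit 76667) (Tr.nd (nat_lit 76603) (Tr.lf (nat_lit 76541)) (Tr.lf (nat_lit 76603))) (Tr.nd (nat_lit 76697) (Tr.lf (nat_lit 76667)) (Tr.nd (nat_lit 76717) (Tr.lf (nat_lit 76697)) (Tr.lf (nat_lit 76717))))) (Tr.nd (nat_lit 76829) (Tr.nd (nat_lit 76777) (Tr.lf (nat_lit 76771)) (Tr.nd (nat_lit 76781) (Tr.lf (nat_lit 76777)) (Tr.lf (nat_lit 76781)))) (Tr.nd (nat_lit 76831) (Tr.lf (nat_lit 76829)) (Tr.nd (nat_lit 76837) (Tr.lf (nat_lit 76831)) (Tr.lf (nat_lit 76837)))))))) (Tr.nd (nat_lit 77359) (Tr.nd (nat_lit 77237) (Tr.nd (nat_lit 77069) (Tr.nd (nat_lit 76961) (Tr.nd (nat_lit 76949) (Tr.lf (nat_lit 76913)) (Tr.lf (nat_lit 76949))) (Tr.nd (nat_lit 77017) (Tr.lf (nat_lit 76961)) (Tr.nd (nat_lit 77023) (Tr.lf (nat_lit 77017)) (Tr.lf (nat_lit 77023))))) (Tr.nd (nat_lit 77153) (Tr.nd (nat_lit 77081) (Tr.lf (nat_lit 77069)) (Tr.nd (nat_lit 77093) (Tr.lf (nat_lit 77081)) (Tr.lf (nat_lit 77093)))) (Tr.nd (nat_lit 77167) (Tr.lf (nat_lit 77153)) (Tr.nd (nat_lit 77171) (Tr.lf (nat_lit 77167)) (Tr.lf (nat_lit 77171)))))) (Tr.nd (nat_lit 77263) (Tr.nd (nat_lit 77243) (Tr.nd (nat_lit 77239) (Tr.lf (nat_lit 77237)) (Tr.lf (nat_lit 77239))) (Tr.nd (nat_lit 77249) (Tr.lf (nat_lit 77243)) (Tr.nd (nat_lit 77261) (Tr.lf (nat_lit 77249)) (Tr.lf (nat_lit 77261))))) (Tr.nd (nat_lit 77339) (Tr.nd (nat_lit 77317) (Tr.lf (nat_lit 77263)) (Tr.nd (nat_lit 77323) (Tr.lf (nat_lit 77317)) (Tr.lf (nat_lit 77323)))) (Tr.nd (nat_lit 77347) (Tr.lf (nat_lit 77339)) (Tr.nd (nat_lit 77351) (Tr.lf (nat_lit 77347)) (Tr.lf (nat_lit 77351))))))) (Tr.nd (nat_lit 77549) (Tr.nd (nat_lit 77477) (Tr.nd (nat_lit 77431) (Tr.nd (nat_lit 77419) (Tr.lf (nat_lit 77359)) (Tr.lf (nat_lit 77419))) (Tr.nd (nat_lit 77447) (Tr.lf (nat_lit 77431)) (Tr.nd (nat_lit 77471) (Tr.lf (nat_lit 77447)) (Tr.lf (nat_lit 77471))))) (Tr.nd (nat_lit 77521) (Tr.nd (nat_lit 77479) (Tr.lf (nat_lit 77477)) (Tr.nd (nat_lit 77489) (Tr.lf (nat_lit 77479)) (Tr.lf (nat_lit 77489)))) (Tr.nd (nat_lit 77527) (Tr.lf (nat_lit 77521)) (Tr.nd (nat_lit 77543) (Tr.lf (nat_lit 77527)) (Tr.lf (nat_lit 77543)))))) (Tr.nd (nat_lit 77573) (Tr.nd (nat_lit 77557) (Tr.nd (nat_lit 77551) (Tr.lf (nat_lit 77549)) (Tr.lf (nat_lit 77551))) (Tr.nd (nat_lit 77563) (Tr.lf (nat_lit 77557)) (Tr.nd (nat_lit 77569) (Tr.lf (nat_lit 77563)) (Tr.lf (nat_lit 77569))))) (Tr.nd (nat_lit 77611) (Tr.nd (nat_lit 77587) (Tr.lf (nat_lit 77573)) (Tr.nd (nat_lit 77591) (Tr.lf (nat_lit 77587)) (Tr.lf (nat_lit 77591)))) (Tr.nd (nat_lit 77617) (Tr.lf (nat_lit 77611)) (Tr.nd (nat_lit 77621) (Tr.lf (nat_lit 77617)) (Tr.lf (nat_lit 77621)))))))))))) (Tr.nd (nat_lit 82727) (Tr.nd (nat_lit 80209) (Tr.nd (nat_lit 78857) (Tr.nd (nat_lit 78173) (Tr.nd (nat_lit 77863) (Tr.nd (nat_lit 77731) (Tr.nd (nat_lit 77689) (Tr.nd (nat_lit 77659) (Tr.nd (nat_lit 77647) (Tr.lf (nat_lit 77641)) (Tr.lf (nat_lit 77647))) (Tr.nd (nat_lit 77681) (Tr.lf (nat_lit 77659)) (Tr.nd (nat_lit 77687) (Tr.lf (nat_lit 77681)) (Tr.lf (nat_lit 77687))))) (Tr.nd (nat_lit 77713) (Tr.nd (nat_lit 77699) (Tr.lf (nat_lit 77689)) (Tr.nd (nat_lit 77711) (Tr.lf (nat_lit 77699)) (Tr.lf (nat_lit 77711)))) (Tr.nd (nat_lit 77719) (Tr.lf (nat_lit 77713)) (Tr.nd (nat_lit 77723) (Tr.lf (nat_lit 77719)) (Tr.lf (nat_lit 77723)))))) (Tr.nd (nat_lit 77783) (Tr.nd (nat_lit 77747) (Tr.nd (nat_lit 77743) (Tr.lf (nat_lit 77731)) (Tr.lf (nat_lit 77743))) (Tr.nd (nat_lit 77761) (Tr.lf (nat_lit 77747)) (Tr.nd (nat_lit 77773) (Tr.lf (nat_lit 77761)) (Tr.lf (nat_lit 77773))))) (Tr.nd (nat_lit 77813) (Tr.nd (nat_lit 77797) (Tr.lf (nat_lit 77783)) (Tr.nd (nat_lit 77801) (Tr.lf (nat_lit 77797)) (Tr.lf (nat_lit 77801)))) (Tr.nd (nat_lit 77839) (Tr.lf (nat_lit 77813)) (Tr.nd (nat_lit 77849) (Tr.lf (nat_lit 77839)) (Tr.lf (nat_lit 77849))))))) (Tr.nd (nat_lit 78007) (Tr.nd (nat_lit 77933) (Tr.nd (nat_lit 77893) (Tr.nd (nat_lit 77867) (Tr.lf (nat_lit 77863)) (Tr.lf (nat_lit 77867))) (Tr.nd (nat_lit 77899) (Tr.lf (nat_lit 77893)) (Tr.nd (nat_lit 77929) (Tr.lf (nat_lit 77899)) (Tr.lf (nat_lit 77929))))) (Tr.nd (nat_lit 77977) (Tr.nd (nat_lit 77951) (Tr.lf (nat_lit 77933)) (Tr.nd (nat_lit 77969) (Tr.lf (nat_lit 77951)) (Tr.lf (nat_lit 77969)))) (Tr.nd (nat_lit 77983) (Tr.lf (nat_lit 77977)) (Tr.nd (nat_lit 77999) (Tr.lf (nat_lit 77983)) (Tr.lf (nat_lit 77999)))))) (Tr.nd (nat_lit 78059) (Tr.nd (nat_lit 78031) (Tr.nd (nat_lit 78017) (Tr.lf (nat_lit 78007)) (Tr.lf (nat_lit 78017))) (Tr.nd (nat_lit 78041) (Tr.lf (nat_lit 78031)) (Tr.nd (nat_lit 78049) (Tr.lf (nat_lit 78041)) (Tr.lf (nat_lit 78049))))) (Tr.nd (nat_lit 78139) (Tr.nd (nat_lit 78079) (Tr.lf (nat_lit 78059)) (Tr.nd (nat_lit 78137) (Tr.lf (nat_lit 78079)) (Tr.lf (nat_lit 78137)))) (Tr.nd (nat_lit 78157) (Tr.lf (nat_lit 78139)) (Tr.nd (nat_lit 78163) (Tr.lf (nat_lit 78157)) (Tr.lf (nat_lit 78163)))))))) (Tr.nd (nat_lit 78467) (Tr.nd (nat_lit 78301) (Tr.nd (nat_lit 78229) (Tr.nd (nat_lit 78191) (Tr.nd (nat_lit 78179) (Tr.lf (nat_lit 78173)) (Tr.lf (nat_lit 78179))) (Tr.nd (nat_lit 78193) (Tr.lf (nat_lit 78191)) (Tr.nd (nat_lit 78203) (Tr.lf (nat_lit 78193)) (Tr.lf (nat_lit 78203))))) (Tr.nd (nat_lit 78259) (Tr.nd (nat_lit 78233) (Tr.lf (nat_lit 78229)) (Tr.nd (nat_lit 78241) (Tr.lf (nat_lit 78233)) (Tr.lf (nat_lit 78241)))) (Tr.nd (nat_lit 78277) (Tr.lf (nat_lit 78259)) (Tr.nd (nat_lit 78283) (Tr.lf (nat_lit 78277)) (Tr.lf (nat_lit 78283)))))) (Tr.nd (nat_lit 78347) (Tr.nd (nat_lit 78311) (Tr.nd (nat_lit 78307) (Tr.lf (nat_lit 78301)) (Tr.lf (nat_lit 78307))) (Tr.nd (nat_lit 78317) (Tr.lf (nat_lit 78311)) (Tr.nd (nat_lit 78341) (Tr.lf (nat_lit 78317)) (Tr.lf (nat_lit 78341))))) (Tr.nd (nat_lit 78427) (Tr.nd (nat_lit 78367) (Tr.lf (nat_lit 78347)) (Tr.nd (nat_lit 78401) (Tr.lf (nat_lit 78367)) (Tr.lf (nat_lit 78401)))) (Tr.nd (nat_lit 78437) (Tr.lf (nat_lit 78427)) (Tr.nd (nat_lit 78439) (Tr.lf (nat_lit 78437)) (Tr.lf (nat_lit 78439))))))) (Tr.nd (nat_lit 78607) (Tr.nd (nat_lit 78511) (Tr.nd (nat_lit 78487) (Tr.nd (nat_lit 78479) (Tr.lf (nat_lit 78467)) (Tr.lf (nat_lit 78479))) (Tr.nd (nat_lit 78497) (Tr.lf (nat_lit 78487)) (Tr.nd (nat_lit 78509) (Tr.lf (nat_lit 78497)) (Tr.lf (nat_lit 78509))))) (Tr.nd (nat_lit 78541) (Tr.nd (nat_lit 78517) (Tr.lf (nat_lit 78511)) (Tr.nd (nat_lit 78539) (Tr.lf (nat_lit 78517)) (Tr.lf (nat_lit 78539)))) (Tr.nd (nat_lit 78571) (Tr.lf (nat_lit 78541)) (Tr.nd (nat_lit 78593) (Tr.lf (nat_lit 78571)) (Tr.lf (nat_lit 78593)))))) (Tr.nd (nat_lit 78779) (Tr.nd (nat_lit 78697) (Tr.nd (nat_lit 78653) (Tr.lf (nat_lit 78607)) (Tr.lf (nat_lit 78653))) (Tr.nd (nat_lit 78707) (Tr.lf (nat_lit 78697)) (Tr.nd (nat_lit 78737) (Tr.lf (nat_lit 78707)) (Tr.lf (nat_lit 78737))))) (Tr.nd (nat_lit 78809) (Tr.nd (nat_lit 78781) (Tr.lf (nat_lit 78779)) (Tr.nd (nat_lit 78803) (Tr.lf (nat_lit 78781)) (Tr.lf (nat_lit 78803)))) (Tr.nd (nat_lit 78823) (Tr.lf (nat_lit 78809)) (Tr.nd (nat_lit 78839) (Tr.lf (nat_lit 78823)) (Tr.lf (nat_lit 78839))))))))) (Tr.nd (nat_lit 79657) (Tr.nd (nat_lit 79349) (Tr.nd (nat_lit 79153) (Tr.nd (nat_lit 78901) (Tr.nd (nat_lit 78887) (Tr.nd (nat_lit 78877) (Tr.lf (nat_lit 78857)) (Tr.lf (nat_lit 78877))) (Tr.nd (nat_lit 78889) (Tr.lf (nat_lit 78887)) (Tr.nd (nat_lit 78893) (Tr.lf (nat_lit 78889)) (Tr.lf (nat_lit 78893))))) (Tr.nd (nat_lit 79103) (Tr.nd (nat_lit 79031) (Tr.lf (nat_lit 78901)) (Tr.nd (nat_lit 79087) (Tr.lf (nat_lit 79031)) (Tr.lf (nat_lit 79087)))) (Tr.nd (nat_lit 79111) (Tr.lf (nat_lit 79103)) (Tr.nd (nat_lit 79151) (Tr.lf (nat_lit 79111)) (Tr.lf (nat_lit 79151)))))) (Tr.nd (nat_lit 79241) (Tr.nd (nat_lit 79201) (Tr.nd (nat_lit 79159) (Tr.lf (nat_lit 79153)) (Tr.lf (nat_lit 79159))) (Tr.nd (nat_lit 79229) (Tr.lf (nat_lit 79201)) (Tr.nd (nat_lit 79231) (Tr.lf (nat_lit 79229)) (Tr.lf (nat_lit 79231))))) (Tr.nd (nat_lit 79319) (Tr.nd (nat_lit 79259) (Tr.lf (nat_lit 79241)) (Tr.nd (nat_lit 79273) (Tr.lf (nat_lit 79259)) (Tr.lf (nat_lit 79273)))) (Tr.nd (nat_lit 79333) (Tr.lf (nat_lit 79319)) (Tr.nd (nat_lit 79337) (Tr.lf (nat_lit 79333)) (Tr.lf (nat_lit 79337))))))) (Tr.nd (nat_lit 79537) (Tr.nd (nat_lit 79427) (Tr.nd (nat_lit 79367) (Tr.nd (nat_lit 79357) (Tr.lf (nat_lit 79349)) (Tr.lf (nat_lit 79357))) (Tr.nd (nat_lit 79411) (Tr.lf (nat_lit 79367)) (Tr.nd (nat_lit 79423) (Tr.lf (nat_lit 79411)) (Tr.lf (nat_lit 79423))))) (Tr.nd (nat_lit 79481) (Tr.nd (nat_lit 79433) (Tr.lf (nat_lit 79427)) (Tr.nd (nat_lit 79451) (Tr.lf (nat_lit 79433)) (Tr.lf (nat_lit 79451)))) (Tr.nd (nat_lit 79493) (Tr.lf (nat_lit 79481)) (Tr.nd (nat_lit 79531) (Tr.lf (nat_lit 79493)) (Tr.lf (nat_lit 79531)))))) (Tr.nd (nat_lit 79609) (Tr.nd (nat_lit 79579) (Tr.nd (nat_lit 79549) (Tr.lf (nat_lit 79537)) (Tr.lf (nat_lit 79549))) (Tr.nd (nat_lit 79589) (Tr.lf (nat_lit 79579)) (Tr.nd (nat_lit 79601) (Tr.lf (nat_lit 79589)) (Tr.lf (nat_lit 79601))))) (Tr.nd (nat_lit 79627) (Tr.nd (nat_lit 79613) (Tr.lf (nat_lit 79609)) (Tr.nd (nat_lit 79621) (Tr.lf (nat_lit 79613)) (Tr.lf (nat_lit 79621)))) (Tr.nd (nat_lit 79631) (Tr.lf (nat_lit 79627)) (Tr.nd (nat_lit 79633) (Tr.lf (nat_lit 79631)) (Tr.lf (nat_lit 79633)))))))) (Tr.nd (nat_lit 79967) (Tr.nd (nat_lit 79843) (Tr.nd (nat_lit 79777) (Tr.nd (nat_lit 79699) (Tr.nd (nat_lit 79697) (Tr.lf (nat_lit 79657)) (Tr.lf (nat_lit 79697))) (Tr.nd (nat_lit 79757) (Tr.lf (nat_lit 79699)) (Tr.nd (nat_lit 79769) (Tr.lf (nat_lit 79757)) (Tr.lf (nat_lit 79769))))) (Tr.nd (nat_lit 79823) (Tr.nd (nat_lit 79801) (Tr.lf (nat_lit 79777)) (Tr.nd (nat_lit 79817) (Tr.lf (nat_lit 79801)) (Tr.lf (nat_lit 79817)))) (Tr.nd (nat_lit 79829) (Tr.lf (nat_lit 79823)) (Tr.nd (nat_lit 79841) (Tr.lf (nat_lit 79829)) (Tr.lf (nat_lit 79841)))))) (Tr.nd (nat_lit 79889) (Tr.nd (nat_lit 79861) (Tr.nd (nat_lit 79847) (Tr.lf (nat_lit 79843)) (Tr.lf (nat_lit 79847))) (Tr.nd (nat_lit 79867) (Tr.lf (nat_lit 79861)) (Tr.nd (nat_lit 79873) (Tr.lf (nat_lit 79867)) (Tr.lf (nat_lit 79873))))) (Tr.nd (nat_lit 79907) (Tr.nd (nat_lit 79901) (Tr.lf (nat_lit 79889)) (Tr.nd (nat_lit 79903) (Tr.lf (nat_lit 79901)) (Tr.lf (nat_lit 79903)))) (Tr.nd (nat_lit 79939) (Tr.lf (nat_lit 79907)) (Tr.nd (nat_lit 79943) (Tr.lf (nat_lit 79939)) (Tr.lf (nat_lit 79943))))))) (Tr.nd (nat_lit 80107) (Tr.nd (nat_lit 79999) (Tr.nd (nat_lit 79979) (Tr.nd (nat_lit 79973) (Tr.lf (nat_lit 79967)) (Tr.lf (nat_lit 79973))) (Tr.nd (nat_lit 79987) (Tr.lf (nat_lit 79979)) (Tr.nd (nat_lit 79997) (Tr.lf (nat_lit 79987)) (Tr.lf (nat_lit 79997))))) (Tr.nd (nat_lit 80051) (Tr.nd (nat_lit 80021) (Tr.lf (nat_lit 79999)) (Tr.nd (nat_lit 80039) (Tr.lf (nat_lit 80021)) (Tr.lf (nat_lit 80039)))) (Tr.nd (nat_lit 80071) (Tr.lf (nat_lit 80051)) (Tr.nd (nat_lit 80077) (Tr.lf (nat_lit 80071)) (Tr.lf (nat_lit 80077)))))) (Tr.nd (nat_lit 80153) (Tr.nd (nat_lit 80141) (Tr.nd (nat_lit 80111) (Tr.lf (nat_lit 80107)) (Tr.lf (nat_lit 80111))) (Tr.nd (nat_lit 80147) (Tr.lf (nat_lit 80141)) (Tr.nd (nat_lit 80149) (Tr.lf (nat_lit 80147)) (Tr.lf (nat_lit 80149))))) (Tr.nd (nat_lit 80177) (Tr.nd (nat_lit 80167) (Tr.lf (nat_lit 80153)) (Tr.nd (nat_lit 80173) (Tr.lf (nat_lit 80167)) (Tr.lf (nat_lit 80173)))) (Tr.nd (nat_lit 80191) (Tr.lf (nat_lit 80177)) (Tr.nd (nat_lit 80207) (Tr.lf (nat_lit 80191)) (Tr.lf (nat_lit 80207)))))))))) (Tr.nd (nat_lit 81551) (Tr.nd (nat_lit 80783) (Tr.nd (nat_lit 80471) (Tr.nd (nat_lit 80317) (Tr.nd (nat_lit 80251) (Tr.nd (nat_lit 80231) (Tr.nd (nat_lit 80221) (Tr.lf (nat_lit 80209)) (Tr.lf (nat_lit 80221))) (Tr.nd (nat_lit 80233) (Tr.lf (nat_lit 80231)) (Tr.nd (nat_lit 80239) (Tr.lf (nat_lit 80233)) (Tr.lf (nat_lit 80239))))) (Tr.nd (nat_lit 80279) (Tr.nd (nat_lit 80263) (Tr.lf (nat_lit 80251)) (Tr.nd (nat_lit 80273) (Tr.lf (nat_lit 80263)) (Tr.lf (nat_lit 80273)))) (Tr.nd (nat_lit 80287) (Tr.lf (nat_lit 80279)) (Tr.nd (nat_lit 80309) (Tr.lf (nat_lit 80287)) (Tr.lf (nat_lit 80309)))))) (Tr.nd (nat_lit 80369) (Tr.nd (nat_lit 80341) (Tr.nd (nat_lit 80329) (Tr.lf (nat_lit 80317)) (Tr.lf (nat_lit 80329))) (Tr.nd (nat_lit 80347) (Tr.lf (nat_lit 80341)) (Tr.nd (nat_lit 80363) (Tr.lf (nat_lit 80347)) (Tr.lf (nat_lit 80363))))) (Tr.nd (nat_lit 80429) (Tr.nd (nat_lit 80387) (Tr.lf (nat_lit 80369)) (Tr.nd (nat_lit 80407) (Tr.lf (nat_lit 80387)) (Tr.lf (nat_lit 80407)))) (Tr.nd (nat_lit 80447) (Tr.lf (nat_lit 80429)) (Tr.nd (nat_lit 80449) (Tr.lf (nat_lit 80447)) (Tr.lf (nat_lit 80449))))))) (Tr.nd (nat_lit 80611) (Tr.nd (nat_lit 80527) (Tr.nd (nat_lit 80489) (Tr.nd (nat_lit 80473) (Tr.lf (nat_lit 80471)) (Tr.lf (nat_lit 80473))) (Tr.nd (nat_lit 80491) (Tr.lf (nat_lit 80489)) (Tr.nd (nat_lit 80513) (Tr.lf (nat_lit 80491)) (Tr.lf (nat_lit 80513))))) (Tr.nd (nat_lit 80567) (Tr.nd (nat_lit 80537) (Tr.lf (nat_lit 80527)) (Tr.nd (nat_lit 80557) (Tr.lf (nat_lit 80537)) (Tr.lf (nat_lit 80557)))) (Tr.nd (nat_lit 80599) (Tr.lf (nat_lit 80567)) (Tr.nd (nat_lit 80603) (Tr.lf (nat_lit 80599)) (Tr.lf (nat_lit 80603)))))) (Tr.nd (nat_lit 80683) (Tr.nd (nat_lit 80627) (Tr.nd (nat_lit 80621) (Tr.lf (nat_lit 80611)) (Tr.lf (nat_lit 80621))) (Tr.nd (nat_lit 80669) (Tr.lf (nat_lit 80627)) (Tr.nd (nat_lit 80681) (Tr.lf (nat_lit 80669)) (Tr.lf (nat_lit 80681))))) (Tr.nd (nat_lit 80749) (Tr.nd (nat_lit 80687) (Tr.lf (nat_lit 80683)) (Tr.nd (nat_lit 80747) (Tr.lf (nat_lit 80687)) (Tr.lf (nat_lit 80747)))) (Tr.nd (nat_lit 80777) (Tr.lf (nat_lit 80749)) (Tr.nd (nat_lit 80779) (Tr.lf (nat_lit 80777)) (Tr.lf (nat_lit 80779)))))))) (Tr.nd (nat_lit 81157) (Tr.nd (nat_lit 80989) (Tr.nd (nat_lit 80849) (Tr.nd (nat_lit 80819) (Tr.nd (nat_lit 80809) (Tr.lf (nat_lit 80783)) (Tr.lf (nat_lit 80809))) (Tr.nd (nat_lit 80831) (Tr.lf (nat_lit 80819)) (Tr.nd (nat_lit 80833) (Tr.lf (nat_lit 80831)) (Tr.lf (nat_lit 80833))))) (Tr.nd (nat_lit 80929) (Tr.nd (nat_lit 80863) (Tr.lf (nat_lit 80849)) (Tr.nd (nat_lit 80923) (Tr.lf (nat_lit 80863)) (Tr.lf (nat_lit 80923)))) (Tr.nd (nat_lit 80933) (Tr.lf (nat_lit 80929)) (Tr.nd (nat_lit 80953) (Tr.lf (nat_lit 80933)) (Tr.lf (nat_lit 80953)))))) (Tr.nd (nat_lit 81023) (Tr.nd (nat_lit 81013) (Tr.nd (nat_lit 81001) (Tr.lf (nat_lit 80989)) (Tr.lf (nat_lit 81001))) (Tr.nd (nat_lit 81017) (Tr.lf (nat_lit 81013)) (Tr.nd (nat_lit 81019) (Tr.lf (nat_lit 81017)) (Tr.lf (nat_lit 81019))))) (Tr.nd (nat_lit 81043) (Tr.nd (nat_lit 81031) (Tr.lf (nat_lit 81023)) (Tr.nd (nat_lit 81041) (Tr.lf (nat_lit 81031)) (Tr.lf (nat_lit 81041)))) (Tr.nd (nat_lit 81047) (Tr.lf (nat_lit 81043)) (Tr.nd (nat_lit 81131) (Tr.lf (nat_lit 81047)) (Tr.lf (nat_lit 81131))))))) (Tr.nd (nat_lit 81353) (Tr.nd (nat_lit 81233) (Tr.nd (nat_lit 81199) (Tr.nd (nat_lit 81197) (Tr.lf (nat_lit 81157)) (Tr.lf (nat_lit 81197))) (Tr.nd (nat_lit 81203) (Tr.lf (nat_lit 81199)) (Tr.nd (nat_lit 81223) (Tr.lf (nat_lit 81203)) (Tr.lf (nat_lit 81223))))) (Tr.nd (nat_lit 81331) (Tr.nd (nat_lit 81239) (Tr.lf (nat_lit 81233)) (Tr.nd (nat_lit 81307) (Tr.lf (nat_lit 81239)) (Tr.lf (nat_lit 81307)))) (Tr.nd (nat_lit 81343) (Tr.lf (nat_lit 81331)) (Tr.nd (nat_lit 81349) (Tr.lf (nat_lit 81343)) (Tr.lf (nat_lit 81349)))))) (Tr.nd (nat_lit 81463) (Tr.nd (nat_lit 81421) (Tr.nd (nat_lit 81359) (Tr.lf (nat_lit 81353)) (Tr.lf (nat_lit 81359))) (Tr.nd (nat_lit 81439) (Tr.lf (nat_lit 81421)) (Tr.nd (nat_lit 81457) (Tr.lf (nat_lit 81439)) (Tr.lf (nat_lit 81457))))) (Tr.nd (nat_lit 81527) (Tr.nd (nat_lit 81509) (Tr.lf (nat_lit 81463)) (Tr.nd (nat_lit 81517) (Tr.lf (nat_lit 81509)) (Tr.lf (nat_lit 81517)))) (Tr.nd (nat_lit 81533) (Tr.lf (nat_lit 81527)) (Tr.nd (nat_lit 81547) (Tr.lf (nat_lit 81533)) (Tr.lf (nat_lit 81547))))))))) (Tr.nd (nat_lit 82153) (Tr.nd (nat_lit 81869) (Tr.nd (nat_lit 81707) (Tr.nd (nat_lit 81647) (Tr.nd (nat_lit 81619) (Tr.nd (nat_lit 81611) (Tr.lf (nat_lit 81551)) (Tr.lf (nat_lit 81611))) (Tr.nd (nat_lit 81629) (Tr.lf (nat_lit 81619)) (Tr.nd (nat_lit 81637) (Tr.lf (nat_lit 81629)) (Tr.lf (nat_lit 81637))))) (Tr.nd (nat_lit 81689) (Tr.nd (nat_lit 81671) (Tr.lf (nat_lit 81647)) (Tr.nd (nat_lit 81677) (Tr.lf (nat_lit 81671)) (Tr.lf (nat_lit 81677)))) (Tr.nd (nat_lit 81701) (Tr.lf (nat_lit 81689)) (Tr.nd (nat_lit 81703) (Tr.lf (nat_lit 81701)) (Tr.lf (nat_lit 81703)))))) (Tr.nd (nat_lit 81773) (Tr.nd (nat_lit 81749) (Tr.nd (nat_lit 81737) (Tr.lf (nat_lit 81707)) (Tr.lf (nat_lit 81737))) (Tr.nd (nat_lit 81761) (Tr.lf (nat_lit 81749)) (Tr.nd (nat_lit 81769) (Tr.lf (nat_lit 81761)) (Tr.lf (nat_lit 81769))))) (Tr.nd (nat_lit 81839) (Tr.nd (nat_lit 81799) (Tr.lf (nat_lit 81773)) (Tr.nd (nat_lit 81817) (Tr.lf (nat_lit 81799)) (Tr.lf (nat_lit 81817)))) (Tr.nd (nat_lit 81847) (Tr.lf (nat_lit 81839)) (Tr.nd (nat_lit 81853) (Tr.lf (nat_lit 81847)) (Tr.lf (nat_lit 81853))))))) (Tr.nd (nat_lit 82013) (Tr.nd (nat_lit 81953) (Tr.nd (nat_lit 81899) (Tr.nd (nat_lit 81883) (Tr.lf (nat_lit 81869)) (Tr.lf (nat_lit 81883))) (Tr.nd (nat_lit 81901) (Tr.lf (nat_lit 81899)) (Tr.nd (nat_lit 81919) (Tr.lf (nat_lit 81901)) (Tr.lf (nat_lit 81919))))) (Tr.nd (nat_lit 82003) (Tr.nd (nat_lit 81967) (Tr.lf (nat_lit 81953)) (Tr.nd (nat_lit 81971) (Tr.lf (nat_lit 81967)) (Tr.lf (nat_lit 81971)))) (Tr.nd (nat_lit 82007) (Tr.lf (nat_lit 82003)) (Tr.nd (nat_lit 82009) (Tr.lf (nat_lit 82007)) (Tr.lf (nat_lit 82009)))))) (Tr.nd (nat_lit 82051) (Tr.nd (nat_lit 82031) (Tr.nd (nat_lit 82021) (Tr.lf (nat_lit 82013)) (Tr.lf (nat_lit 82021))) (Tr.nd (nat_lit 82037) (Tr.lf (nat_lit 82031)) (Tr.nd (nat_lit 82039) (Tr.lf (nat_lit 82037)) (Tr.lf (nat_lit 82039))))) (Tr.nd (nat_lit 82129) (Tr.nd (nat_lit 82067) (Tr.lf (nat_lit 82051)) (Tr.nd (nat_lit 82073) (Tr.lf (nat_lit 82067)) (Tr.lf (nat_lit 82073)))) (Tr.nd (nat_lit 82139) (Tr.lf (nat_lit 82129)) (Tr.nd (nat_lit 82141) (Tr.lf (nat_lit 82139)) (Tr.lf (nat_lit 82141)))))))) (Tr.nd (nat_lit 82373) (Tr.nd (nat_lit 82237) (Tr.nd (nat_lit 82193) (Tr.nd (nat_lit 82171) (Tr.nd (nat_lit 82163) (Tr.lf (nat_lit 82153)) (Tr.lf (nat_lit 82163))) (Tr.nd (nat_lit 82183) (Tr.lf (nat_lit 82171)) (Tr.nd (nat_lit 82189) (Tr.lf (nat_lit 82183)) (Tr.lf (nat_lit 82189))))) (Tr.nd (nat_lit 82219) (Tr.nd (nat_lit 82207) (Tr.lf (nat_lit 82193)) (Tr.nd (nat_lit 82217) (Tr.lf (nat_lit 82207)) (Tr.lf (nat_lit 82217)))) (Tr.nd (nat_lit 82223) (Tr.lf (nat_lit 82219)) (Tr.nd (nat_lit 82231) (Tr.lf (nat_lit 82223)) (Tr.lf (nat_lit 82231)))))) (Tr.nd (nat_lit 82301) (Tr.nd (nat_lit 82261) (Tr.nd (nat_lit 82241) (Tr.lf (nat_lit 82237)) (Tr.lf (nat_lit 82241))) (Tr.nd (nat_lit 82267) (Tr.lf (nat_lit 82261)) (Tr.nd (nat_lit 82279) (Tr.lf (nat_lit 82267)) (Tr.lf (nat_lit 82279))))) (Tr.nd (nat_lit 82349) (Tr.nd (nat_lit 82307) (Tr.lf (nat_lit 82301)) (Tr.nd (nat_lit 82339) (Tr.lf (nat_lit 82307)) (Tr.lf (nat_lit 82339)))) (Tr.nd (nat_lit 82351) (Tr.lf (nat_lit 82349)) (Tr.nd (nat_lit 82361) (Tr.lf (nat_lit 82351)) (Tr.lf (nat_lit 82361))))))) (Tr.nd (nat_lit 82499) (Tr.nd (nat_lit 82463) (Tr.nd (nat_lit 82393) (Tr.nd (nat_lit 82387) (Tr.lf (nat_lit 82373)) (Tr.lf (nat_lit 82387))) (Tr.nd (nat_lit 82421) (Tr.lf (nat_lit 82393)) (Tr.nd (nat_lit 82457) (Tr.lf (nat_lit 82421)) (Tr.lf (nat_lit 82457))))) (Tr.nd (nat_lit 82483) (Tr.nd (nat_lit 82469) (Tr.lf (nat_lit 82463)) (Tr.nd (nat_lit 82471) (Tr.lf (nat_lit 82469)) (Tr.lf (nat_lit 82471)))) (Tr.nd (nat_lit 82487) (Tr.lf (nat_lit 82483)) (Tr.nd (nat_lit 82493) (Tr.lf (nat_lit 82487)) (Tr.lf (nat_lit 82493)))))) (Tr.nd (nat_lit 82601) (Tr.nd (nat_lit 82559) (Tr.nd (nat_lit 82507) (Tr.lf (nat_lit 82499)) (Tr.lf (nat_lit 82507))) (Tr.nd (nat_lit 82561) (Tr.lf (nat_lit 82559)) (Tr.nd (nat_lit 82591) (Tr.lf (nat_lit 82561)) (Tr.lf (nat_lit 82591))))) (Tr.nd (nat_lit 82619) (Tr.nd (nat_lit 82609) (Tr.lf (nat_lit 82601)) (Tr.nd (nat_lit 82613) (Tr.lf (nat_lit 82609)) (Tr.lf (nat_lit 82613)))) (Tr.nd (nat_lit 82633) (Tr.lf (nat_lit 82619)) (Tr.nd (nat_lit 82723) (Tr.lf (nat_lit 82633)) (Tr.lf (nat_lit 82723))))))))))) (Tr.nd (nat_lit 85429) (Tr.nd (nat_lit 84179) (Tr.nd (nat_lit 83477) (Tr.nd (nat_lit 83089) (Tr.nd (nat_lit 82891) (Tr.nd (nat_lit 82787) (Tr.nd (nat_lit 82759) (Tr.nd (nat_lit 82757) (Tr.lf (nat_lit 82727)) (Tr.lf (nat_lit 82757))) (Tr.nd (nat_lit 82763) (Tr.lf (nat_lit 82759)) (Tr.nd (nat_lit 82781) (Tr.lf (nat_lit 82763)) (Tr.lf (nat_lit 82781))))) (Tr.nd (nat_lit 82847) (Tr.nd (nat_lit 82813) (Tr.lf (nat_lit 82787)) (Tr.nd (nat_lit 82837) (Tr.lf (nat_lit 82813)) (Tr.lf (nat_lit 82837)))) (Tr.nd (nat_lit 82883) (Tr.lf (nat_lit 82847)) (Tr.nd (nat_lit 82889) (Tr.lf (nat_lit 82883)) (Tr.lf (nat_lit 82889)))))) (Tr.nd (nat_lit 83023) (Tr.nd (nat_lit 82913) (Tr.nd (nat_lit 82903) (Tr.lf (nat_lit 82891)) (Tr.lf (nat_lit 82903))) (Tr.nd (nat_lit 82939) (Tr.lf (nat_lit 82913)) (Tr.nd (nat_lit 82963) (Tr.lf (nat_lit 82939)) (Tr.lf (nat_lit 82963))))) (Tr.nd (nat_lit 83063) (Tr.nd (nat_lit 83047) (Tr.lf (nat_lit 83023)) (Tr.nd (nat_lit 83059) (Tr.lf (nat_lit 83047)) (Tr.lf (nat_lit 83059)))) (Tr.nd (nat_lit 83071) (Tr.lf (nat_lit 83063)) (Tr.nd (nat_lit 83077) (Tr.lf (nat_lit 83071)) (Tr.lf (nat_lit 83077))))))) (Tr.nd (nat_lit 83341) (Tr.nd (nat_lit 83231) (Tr.nd (nat_lit 83101) (Tr.nd (nat_lit 83093) (Tr.lf (nat_lit 83089)) (Tr.lf (nat_lit 83093))) (Tr.nd (nat_lit 83117) (Tr.lf (nat_lit 83101)) (Tr.nd (nat_lit 83137) (Tr.lf (nat_lit 83117)) (Tr.lf (nat_lit 83137))))) (Tr.nd (nat_lit 83257) (Tr.nd (nat_lit 83233) (Tr.lf (nat_lit 83231)) (Tr.nd (nat_lit 83243) (Tr.lf (nat_lit 83233)) (Tr.lf (nat_lit 83243)))) (Tr.nd (nat_lit 83311) (Tr.lf (nat_lit 83257)) (Tr.nd (nat_lit 83339) (Tr.lf (nat_lit 83311)) (Tr.lf (nat_lit 83339)))))) (Tr.nd (nat_lit 83401) (Tr.nd (nat_lit 83383) (Tr.nd (nat_lit 83357) (Tr.lf (nat_lit 83341)) (Tr.lf (nat_lit 83357))) (Tr.nd (nat_lit 83389) (Tr.lf (nat_lit 83383)) (Tr.nd (nat_lit 83399) (Tr.lf (nat_lit 83389)) (Tr.lf (nat_lit 83399))))) (Tr.nd (nat_lit 83449) (Tr.nd (nat_lit 83407) (Tr.lf (nat_lit 83401)) (Tr.nd (nat_lit 83417) (Tr.lf (nat_lit 83407)) (Tr.lf (nat_lit 83417)))) (Tr.nd (nat_lit 83459) (Tr.lf (nat_lit 83449)) (Tr.nd (nat_lit 83471) (Tr.lf (nat_lit 83459)) (Tr.lf (nat_lit 83471)))))))) (Tr.nd (nat_lit 83891) (Tr.nd (nat_lit 83663) (Tr.nd (nat_lit 83563) (Tr.nd (nat_lit 83537) (Tr.nd (nat_lit 83497) (Tr.lf (nat_lit 83477)) (Tr.lf (nat_lit 83497))) (Tr.nd (nat_lit 83557) (Tr.lf (nat_lit 83537)) (Tr.nd (nat_lit 83561) (Tr.lf (nat_lit 83557)) (Tr.lf (nat_lit 83561))))) (Tr.nd (nat_lit 83639) (Tr.nd (nat_lit 83617) (Tr.lf (nat_lit 83563)) (Tr.nd (nat_lit 83621) (Tr.lf (nat_lit 83617)) (Tr.lf (nat_lit 83621)))) (Tr.nd (nat_lit 83641) (Tr.lf (nat_lit 83639)) (Tr.nd (nat_lit 83653) (Tr.lf (nat_lit 83641)) (Tr.lf (nat_lit 83653)))))) (Tr.nd (nat_lit 83737) (Tr.nd (nat_lit 83701) (Tr.nd (nat_lit 83689) (Tr.lf (nat_lit 83663)) (Tr.lf (nat_lit 83689))) (Tr.nd (nat_lit 83717) (Tr.lf (nat_lit 83701)) (Tr.nd (nat_lit 83719) (Tr.lf (nat_lit 83717)) (Tr.lf (nat_lit 83719))))) (Tr.nd (nat_lit 83777) (Tr.nd (nat_lit 83761) (Tr.lf (nat_lit 83737)) (Tr.nd (nat_lit 83773) (Tr.lf (nat_lit 83761)) (Tr.lf (nat_lit 83773)))) (Tr.nd (nat_lit 83791) (Tr.lf (nat_lit 83777)) (Tr.nd (nat_lit 83813) (Tr.lf (nat_lit 83791)) (Tr.lf (nat_lit 83813))))))) (Tr.nd (nat_lit 84053) (Tr.nd (nat_lit 83939) (Tr.nd (nat_lit 83911) (Tr.nd (nat_lit 83903) (Tr.lf (nat_lit 83891)) (Tr.lf (nat_lit 83903))) (Tr.nd (nat_lit 83921) (Tr.lf (nat_lit 83911)) (Tr.nd (nat_lit 83933) (Tr.lf (nat_lit 83921)) (Tr.lf (nat_lit 83933))))) (Tr.nd (nat_lit 84011) (Tr.nd (nat_lit 83969) (Tr.lf (nat_lit 83939)) (Tr.nd (nat_lit 83983) (Tr.lf (nat_lit 83969)) (Tr.lf (nat_lit 83983)))) (Tr.nd (nat_lit 84017) (Tr.lf (nat_lit 84011)) (Tr.nd (nat_lit 84047) (Tr.lf (nat_lit 84017)) (Tr.lf (nat_lit 84047)))))) (Tr.nd (nat_lit 84121) (Tr.nd (nat_lit 84061) (Tr.nd (nat_lit 84059) (Tr.lf (nat_lit 84053)) (Tr.lf (nat_lit 84059))) (Tr.nd (nat_lit 84067) (Tr.lf (nat_lit 84061)) (Tr.nd (nat_lit 84089) (Tr.lf (nat_lit 84067)) (Tr.lf (nat_lit 84089))))) (Tr.nd (nat_lit 84137) (Tr.nd (nat_lit 84127) (Tr.lf (nat_lit 84121)) (Tr.nd (nat_lit 84131) (Tr.lf (nat_lit 84127)) (Tr.lf (nat_lit 84131)))) (Tr.nd (nat_lit 84143) (Tr.lf (nat_lit 84137)) (Tr.nd (nat_lit 84163) (Tr.lf (nat_lit 84143)) (Tr.lf (nat_lit 84163))))))))) (Tr.nd (nat_lit 84719) (Tr.nd (nat_lit 84437) (Tr.nd (nat_lit 84317) (Tr.nd (nat_lit 84239) (Tr.nd (nat_lit 84191) (Tr.nd (nat_lit 84181) (Tr.lf (nat_lit 84179)) (Tr.lf (nat_lit 84181))) (Tr.nd (nat_lit 84199) (Tr.lf (nat_lit 84191)) (Tr.nd (nat_lit 84211) (Tr.lf (nat_lit 84199)) (Tr.lf (nat_lit 84211))))) (Tr.nd (nat_lit 84299) (Tr.nd (nat_lit 84247) (Tr.lf (nat_lit 84239)) (Tr.nd (nat_lit 84263) (Tr.lf (nat_lit 84247)) (Tr.lf (nat_lit 84263)))) (Tr.nd (nat_lit 84307) (Tr.lf (nat_lit 84299)) (Tr.nd (nat_lit 84313) (Tr.lf (nat_lit 84307)) (Tr.lf (nat_lit 84313)))))) (Tr.nd (nat_lit 84389) (Tr.nd (nat_lit 84347) (Tr.nd (nat_lit 84319) (Tr.lf (nat_lit 84317)) (Tr.lf (nat_lit 84319))) (Tr.nd (nat_lit 84349) (Tr.lf (nat_lit 84347)) (Tr.nd (nat_lit 84377) (Tr.lf (nat_lit 84349)) (Tr.lf (nat_lit 84377))))) (Tr.nd (nat_lit 84407) (Tr.nd (nat_lit 84391) (Tr.lf (nat_lit 84389)) (Tr.nd (nat_lit 84401) (Tr.lf (nat_lit 84391)) (Tr.lf (nat_lit 84401)))) (Tr.nd (nat_lit 84421) (Tr.lf (nat_lit 84407)) (Tr.nd (nat_lit 84431) (Tr.lf (nat_lit 84421)) (Tr.lf (nat_lit 84431))))))) (Tr.nd (nat_lit 84523) (Tr.nd (nat_lit 84467) (Tr.nd (nat_lit 84449) (Tr.nd (nat_lit 84443) (Tr.lf (nat_lit 84437)) (Tr.lf (nat_lit 84443))) (Tr.nd (nat_lit 84457) (Tr.lf (nat_lit 84449)) (Tr.nd (nat_lit 84463) (Tr.lf (nat_lit 84457)) (Tr.lf (nat_lit 84463))))) (Tr.nd (nat_lit 84503) (Tr.nd (nat_lit 84481) (Tr.lf (nat_lit 84467)) (Tr.nd (nat_lit 84499) (Tr.lf (nat_lit 84481)) (Tr.lf (nat_lit 84499)))) (Tr.nd (nat_lit 84509) (Tr.lf (nat_lit 84503)) (Tr.nd (nat_lit 84521) (Tr.lf (nat_lit 84509)) (Tr.lf (nat_lit 84521)))))) (Tr.nd (nat_lit 84629) (Tr.nd (nat_lit 84551) (Tr.nd (nat_lit 84533) (Tr.lf (nat_lit 84523)) (Tr.lf (nat_lit 84533))) (Tr.nd (nat_lit 84559) (Tr.lf (nat_lit 84551)) (Tr.nd (nat_lit 84589) (Tr.lf (nat_lit 84559)) (Tr.lf (nat_lit 84589))))) (Tr.nd (nat_lit 84653) (Tr.nd (nat_lit 84631) (Tr.lf (nat_lit 84629)) (Tr.nd (nat_lit 84649) (Tr.lf (nat_lit 84631)) (Tr.lf (nat_lit 84649)))) (Tr.nd (nat_lit 84701) (Tr.lf (nat_lit 84653)) (Tr.nd (nat_lit 84713) (Tr.lf (nat_lit 84701)) (Tr.lf (nat_lit 84713)))))))) (Tr.nd (nat_lit 85103) (Tr.nd (nat_lit 84967) (Tr.nd (nat_lit 84811) (Tr.nd (nat_lit 84787) (Tr.nd (nat_lit 84761) (Tr.lf (nat_lit 84719)) (Tr.lf (nat_lit 84761))) (Tr.nd (nat_lit 84793) (Tr.lf (nat_lit 84787)) (Tr.nd (nat_lit 84809) (Tr.lf (nat_lit 84793)) (Tr.lf (nat_lit 84809))))) (Tr.nd (nat_lit 84859) (Tr.nd (nat_lit 84827) (Tr.lf (nat_lit 84811)) (Tr.nd (nat_lit 84857) (Tr.lf (nat_lit 84827)) (Tr.lf (nat_lit 84857)))) (Tr.nd (nat_lit 84869) (Tr.lf (nat_lit 84859)) (Tr.nd (nat_lit 84871) (Tr.lf (nat_lit 84869)) (Tr.lf (nat_lit 84871)))))) (Tr.nd (nat_lit 85027) (Tr.nd (nat_lit 84979) (Tr.nd (nat_lit 84977) (Tr.lf (nat_lit 84967)) (Tr.lf (nat_lit 84977))) (Tr.nd (nat_lit 85009) (Tr.lf (nat_lit 84979)) (Tr.nd (nat_lit 85021) (Tr.lf (nat_lit 85009)) (Tr.lf (nat_lit 85021))))) (Tr.nd (nat_lit 85061) (Tr.nd (nat_lit 85037) (Tr.lf (nat_lit 85027)) (Tr.nd (nat_lit 85049) (Tr.lf (nat_lit 85037)) (Tr.lf (nat_lit 85049)))) (Tr.nd (nat_lit 85081) (Tr.lf (nat_lit 85061)) (Tr.nd (nat_lit 85087) (Tr.lf (nat_lit 85081)) (Tr.lf (nat_lit 85087))))))) (Tr.nd (nat_lit 85229) (Tr.nd (nat_lit 85159) (Tr.nd (nat_lit 85121) (Tr.nd (nat_lit 85109) (Tr.lf (nat_lit 85103)) (Tr.lf (nat_lit 85109))) (Tr.nd (nat_lit 85133) (Tr.lf (nat_lit 85121)) (Tr.nd (nat_lit 85147) (Tr.lf (nat_lit 85133)) (Tr.lf (nat_lit 85147))))) (Tr.nd (nat_lit 85201) (Tr.nd (nat_lit 85193) (Tr.lf (nat_lit 85159)) (Tr.nd (nat_lit 85199) (Tr.lf (nat_lit 85193)) (Tr.lf (nat_lit 85199)))) (Tr.nd (nat_lit 85213) (Tr.lf (nat_lit 85201)) (Tr.nd (nat_lit 85223) (Tr.lf (nat_lit 85213)) (Tr.lf (nat_lit 85223)))))) (Tr.nd (nat_lit 85361) (Tr.nd (nat_lit 85243) (Tr.nd (nat_lit 85237) (Tr.lf (nat_lit 85229)) (Tr.lf (nat_lit 85237))) (Tr.nd (nat_lit 85247) (Tr.lf (nat_lit 85243)) (Tr.nd (nat_lit 85259) (Tr.lf (nat_lit 85247)) (Tr.lf (nat_lit 85259))))) (Tr.nd (nat_lit 85381) (Tr.nd (nat_lit 85363) (Tr.lf (nat_lit 85361)) (Tr.nd (nat_lit 85369) (Tr.lf (nat_lit 85363)) (Tr.lf (nat_lit 85369)))) (Tr.nd (nat_lit 85411) (Tr.lf (nat_lit 85381)) (Tr.nd (nat_lit 85427) (Tr.lf (nat_lit 85411)) (Tr.lf (nat_lit 85427)))))))))) (Tr.nd (nat_lit 86693) (Tr.nd (nat_lit 86179) (Tr.nd (nat_lit 85793) (Tr.nd (nat_lit 85643) (Tr.nd (nat_lit 85549) (Tr.nd (nat_lit 85517) (Tr.nd (nat_lit 85439) (Tr.lf (nat_lit 85429)) (Tr.lf (nat_lit 85439))) (Tr.nd (nat_lit 85523) (Tr.lf (nat_lit 85517)) (Tr.nd (nat_lit 85531) (Tr.lf (nat_lit 85523)) (Tr.lf (nat_lit 85531))))) (Tr.nd (nat_lit 85621) (Tr.nd (nat_lit 85571) (Tr.lf (nat_lit 85549)) (Tr.nd (nat_lit 85577) (Tr.lf (nat_lit 85571)) (Tr.lf (nat_lit 85577)))) (Tr.nd (nat_lit 85627) (Tr.lf (nat_lit 85621)) (Tr.nd (nat_lit 85639) (Tr.lf (nat_lit 85627)) (Tr.lf (nat_lit 85639)))))) (Tr.nd (nat_lit 85703) (Tr.nd (nat_lit 85667) (Tr.nd (nat_lit 85661) (Tr.lf (nat_lit 85643)) (Tr.lf (nat_lit 85661))) (Tr.nd (nat_lit 85669) (Tr.lf (nat_lit 85667)) (Tr.nd (nat_lit 85691) (Tr.lf (nat_lit 85669)) (Tr.lf (nat_lit 85691))))) (Tr.nd (nat_lit 85733) (Tr.nd (nat_lit 85711) (Tr.lf (nat_lit 85703)) (Tr.nd (nat_lit 85717) (Tr.lf (nat_lit 85711)) (Tr.lf (nat_lit 85717)))) (Tr.nd (nat_lit 85751) (Tr.lf (nat_lit 85733)) (Tr.nd (nat_lit 85781) (Tr.lf (nat_lit 85751)) (Tr.lf (nat_lit 85781))))))) (Tr.nd (nat_lit 86011) (Tr.nd (nat_lit 85903) (Tr.nd (nat_lit 85847) (Tr.nd (nat_lit 85817) (Tr.lf (nat_lit 85793)) (Tr.lf (nat_lit 85817))) (Tr.nd (nat_lit 85853) (Tr.lf (nat_lit 85847)) (Tr.nd (nat_lit 85889) (Tr.lf (nat_lit 85853)) (Tr.lf (nat_lit 85889))))) (Tr.nd (nat_lit 85933) (Tr.nd (nat_lit 85909) (Tr.lf (nat_lit 85903)) (Tr.nd (nat_lit 85931) (Tr.lf (nat_lit 85909)) (Tr.lf (nat_lit 85931)))) (Tr.nd (nat_lit 85991) (Tr.lf (nat_lit 85933)) (Tr.nd (nat_lit 85999) (Tr.lf (nat_lit 85991)) (Tr.lf (nat_lit 85999)))))) (Tr.nd (nat_lit 86077) (Tr.nd (nat_lit 86027) (Tr.nd (nat_lit 86017) (Tr.lf (nat_lit 86011)) (Tr.lf (nat_lit 86017))) (Tr.nd (nat_lit 86029) (Tr.lf (nat_lit 86027)) (Tr.nd (nat_lit 86069) (Tr.lf (nat_lit 86029)) (Tr.lf (nat_lit 86069))))) (Tr.nd (nat_lit 86143) (Tr.nd (nat_lit 86131) (Tr.lf (nat_lit 86077)) (Tr.nd (nat_lit 86137) (Tr.lf (nat_lit 86131)) (Tr.lf (nat_lit 86137)))) (Tr.nd (nat_lit 86161) (Tr.lf (nat_lit 86143)) (Tr.nd (nat_lit 86171) (Tr.lf (nat_lit 86161)) (Tr.lf (nat_lit 86171)))))))) (Tr.nd (nat_lit 86399) (Tr.nd (nat_lit 86287) (Tr.nd (nat_lit 86239) (Tr.nd (nat_lit 86197) (Tr.nd (nat_lit 86183) (Tr.lf (nat_lit 86179)) (Tr.lf (nat_lit 86183))) (Tr.nd (nat_lit 86201) (Tr.lf (nat_lit 86197)) (Tr.nd (nat_lit 86209) (Tr.lf (nat_lit 86201)) (Tr.lf (nat_lit 86209))))) (Tr.nd (nat_lit 86257) (Tr.nd (nat_lit 86243) (Tr.lf (nat_lit 86239)) (Tr.nd (nat_lit 86249) (Tr.lf (nat_lit 86243)) (Tr.lf (nat_lit 86249)))) (Tr.nd (nat_lit 86263) (Tr.lf (nat_lit 86257)) (Tr.nd (nat_lit 86269) (Tr.lf (nat_lit 86263)) (Tr.lf (nat_lit 86269)))))) (Tr.nd (nat_lit 86323) (Tr.nd (nat_lit 86293) (Tr.nd (nat_lit 86291) (Tr.lf (nat_lit 86287)) (Tr.lf (nat_lit 86291))) (Tr.nd (nat_lit 86297) (Tr.lf (nat_lit 86293)) (Tr.nd (nat_lit 86311) (Tr.lf (nat_lit 86297)) (Tr.lf (nat_lit 86311))))) (Tr.nd (nat_lit 86371) (Tr.nd (nat_lit 86357) (Tr.lf (nat_lit 86323)) (Tr.nd (nat_lit 86369) (Tr.lf (nat_lit 86357)) (Tr.lf (nat_lit 86369)))) (Tr.nd (nat_lit 86381) (Tr.lf (nat_lit 86371)) (Tr.nd (nat_lit 86389) (Tr.lf (nat_lit 86381)) (Tr.lf (nat_lit 86389))))))) (Tr.nd (nat_lit 86531) (Tr.nd (nat_lit 86461) (Tr.nd (nat_lit 86423) (Tr.nd (nat_lit 86413) (Tr.lf (nat_lit 86399)) (Tr.lf (nat_lit 86413))) (Tr.nd (nat_lit 86441) (Tr.lf (nat_lit 86423)) (Tr.nd (nat_lit 86453) (Tr.lf (nat_lit 86441)) (Tr.lf (nat_lit 86453))))) (Tr.nd (nat_lit 86491) (Tr.nd (nat_lit 86467) (Tr.lf (nat_lit 86461)) (Tr.nd (nat_lit 86477) (Tr.lf (nat_lit 86467)) (Tr.lf (nat_lit 86477)))) (Tr.nd (nat_lit 86501) (Tr.lf (nat_lit 86491)) (Tr.nd (nat_lit 86509) (Tr.lf (nat_lit 86501)) (Tr.lf (nat_lit 86509)))))) (Tr.nd (nat_lit 86579) (Tr.nd (nat_lit 86539) (Tr.nd (nat_lit 86533) (Tr.lf (nat_lit 86531)) (Tr.lf (nat_lit 86533))) (Tr.nd (nat_lit 86561) (Tr.lf (nat_lit 86539)) (Tr.nd (nat_lit 86573) (Tr.lf (nat_lit 86561)) (Tr.lf (nat_lit 86573))))) (Tr.nd (nat_lit 86627) (Tr.nd (nat_lit 86587) (Tr.lf (nat_lit 86579)) (Tr.nd (nat_lit 86599) (Tr.lf (nat_lit 86587)) (Tr.lf (nat_lit 86599)))) (Tr.nd (nat_lit 86629) (Tr.lf (nat_lit 86627)) (Tr.nd (nat_lit 86689) (Tr.lf (nat_lit 86629)) (Tr.lf (nat_lit 86689))))))))) (Tr.nd (nat_lit 87293) (Tr.nd (nat_lit 86969) (Tr.nd (nat_lit 86843) (Tr.nd (nat_lit 86753) (Tr.nd (nat_lit 86719) (Tr.nd (nat_lit 86711) (Tr.lf (nat_lit 86693)) (Tr.lf (nat_lit 86711))) (Tr.nd (nat_lit 86729) (Tr.lf (nat_lit 86719)) (Tr.nd (nat_lit 86743) (Tr.lf (nat_lit 86729)) (Tr.lf (nat_lit 86743))))) (Tr.nd (nat_lit 86783) (Tr.nd (nat_lit 86767) (Tr.lf (nat_lit 86753)) (Tr.nd (nat_lit 86771) (Tr.lf (nat_lit 86767)) (Tr.lf (nat_lit 86771)))) (Tr.nd (nat_lit 86813) (Tr.lf (nat_lit 86783)) (Tr.nd (nat_lit 86837) (Tr.lf (nat_lit 86813)) (Tr.lf (nat_lit 86837)))))) (Tr.nd (nat_lit 86923) (Tr.nd (nat_lit 86857) (Tr.nd (nat_lit 86851) (Tr.lf (nat_lit 86843)) (Tr.lf (nat_lit 86851))) (Tr.nd (nat_lit 86861) (Tr.lf (nat_lit 86857)) (Tr.nd (nat_lit 86869) (Tr.lf (nat_lit 86861)) (Tr.lf (nat_lit 86869))))) (Tr.nd (nat_lit 86939) (Tr.nd (nat_lit 86927) (Tr.lf (nat_lit 86923)) (Tr.nd (nat_lit 86929) (Tr.lf (nat_lit 86927)) (Tr.lf (nat_lit 86929)))) (Tr.nd (nat_lit 86951) (Tr.lf (nat_lit 86939)) (Tr.nd (nat_lit 86959) (Tr.lf (nat_lit 86951)) (Tr.lf (nat_lit 86959))))))) (Tr.nd (nat_lit 87149) (Tr.nd (nat_lit 87037) (Tr.nd (nat_lit 86993) (Tr.nd (nat_lit 86981) (Tr.lf (nat_lit 86969)) (Tr.lf (nat_lit 86981))) (Tr.nd (nat_lit 87011) (Tr.lf (nat_lit 86993)) (Tr.nd (nat_lit 87013) (Tr.lf (nat_lit 87011)) (Tr.lf (nat_lit 87013))))) (Tr.nd (nat_lit 87119) (Tr.nd (nat_lit 87041) (Tr.lf (nat_lit 87037)) (Tr.nd (nat_lit 87107) (Tr.lf (nat_lit 87041)) (Tr.lf (nat_lit 87107)))) (Tr.nd (nat_lit 87121) (Tr.lf (nat_lit 87119)) (Tr.nd (nat_lit 87133) (Tr.lf (nat_lit 87121)) (Tr.lf (nat_lit 87133)))))) (Tr.nd (nat_lit 87223) (Tr.nd (nat_lit 87187) (Tr.nd (nat_lit 87181) (Tr.lf (nat_lit 87149)) (Tr.lf (nat_lit 87181))) (Tr.nd (nat_lit 87211) (Tr.lf (nat_lit 87187)) (Tr.nd (nat_lit 87221) (Tr.lf (nat_lit 87211)) (Tr.lf (nat_lit 87221))))) (Tr.nd (nat_lit 87257) (Tr.nd (nat_lit 87251) (Tr.lf (nat_lit 87223)) (Tr.nd (nat_lit 87253) (Tr.lf (nat_lit 87251)) (Tr.lf (nat_lit 87253)))) (Tr.nd (nat_lit 87277) (Tr.lf (nat_lit 87257)) (Tr.nd (nat_lit 87281) (Tr.lf (nat_lit 87277)) (Tr.lf (nat_lit 87281)))))))) (Tr.nd (nat_lit 87587) (Tr.nd (nat_lit 87491) (Tr.nd (nat_lit 87337) (Tr.nd (nat_lit 87313) (Tr.nd (nat_lit 87299) (Tr.lf (nat_lit 87293)) (Tr.lf (nat_lit 87299))) (Tr.nd (nat_lit 87317) (Tr.lf (nat_lit 87313)) (Tr.nd (nat_lit 87323) (Tr.lf (nat_lit 87317)) (Tr.lf (nat_lit 87323))))) (Tr.nd (nat_lit 87443) (Tr.nd (nat_lit 87427) (Tr.lf (nat_lit 87337)) (Tr.nd (nat_lit 87433) (Tr.lf (nat_lit 87427)) (Tr.lf (nat_lit 87433)))) (Tr.nd (nat_lit 87473) (Tr.lf (nat_lit 87443)) (Tr.nd (nat_lit 87481) (Tr.lf (nat_lit 87473)) (Tr.lf (nat_lit 87481)))))) (Tr.nd (nat_lit 87539) (Tr.nd (nat_lit 87511) (Tr.nd (nat_lit 87509) (Tr.lf (nat_lit 87491)) (Tr.lf (nat_lit 87509))) (Tr.nd (nat_lit 87517) (Tr.lf (nat_lit 87511)) (Tr.nd (nat_lit 87523) (Tr.lf (nat_lit 87517)) (Tr.lf (nat_lit 87523))))) (Tr.nd (nat_lit 87553) (Tr.nd (nat_lit 87541) (Tr.lf (nat_lit 87539)) (Tr.nd (nat_lit 87547) (Tr.lf (nat_lit 87541)) (Tr.lf (nat_lit 87547)))) (Tr.nd (nat_lit 87557) (Tr.lf (nat_lit 87553)) (Tr.nd (nat_lit 87559) (Tr.lf (nat_lit 87557)) (Tr.lf (nat_lit 87559))))))) (Tr.nd (nat_lit 87683) (Tr.nd (nat_lit 87631) (Tr.nd (nat_lit 87613) (Tr.nd (nat_lit 87589) (Tr.lf (nat_lit 87587)) (Tr.lf (nat_lit 87589))) (Tr.nd (nat_lit 87623) (Tr.lf (nat_lit 87613)) (Tr.nd (nat_lit 87629) (Tr.lf (nat_lit 87623)) (Tr.lf (nat_lit 87629))))) (Tr.nd (nat_lit 87649) (Tr.nd (nat_lit 87641) (Tr.lf (nat_lit 87631)) (Tr.nd (nat_lit 87643) (Tr.lf (nat_lit 87641)) (Tr.lf (nat_lit 87643)))) (Tr.nd (nat_lit 87671) (Tr.lf (nat_lit 87649)) (Tr.nd (nat_lit 87679) (Tr.lf (nat_lit 87671)) (Tr.lf (nat_lit 87679)))))) (Tr.nd (nat_lit 87721) (Tr.nd (nat_lit 87697) (Tr.nd (nat_lit 87691) (Tr.lf (nat_lit 87683)) (Tr.lf (nat_lit 87691))) (Tr.nd (nat_lit 87701) (Tr.lf (nat_lit 87697)) (Tr.nd (nat_lit 87719) (Tr.lf (nat_lit 87701)) (Tr.lf (nat_lit 87719))))) (Tr.nd (nat_lit 87751) (Tr.nd (nat_lit 87739) (Tr.lf (nat_lit 87721)) (Tr.nd (nat_lit 87743) (Tr.lf (nat_lit 87739)) (Tr.lf (nat_lit 87743)))) (Tr.nd (nat_lit 87767) (Tr.lf (nat_lit 87751)) (Tr.nd (nat_lit 87793) (Tr.lf (nat_lit 87767)) (Tr.lf (nat_lit 87793))))))))))))) (Tr.nd (nat_lit 96827) (Tr.nd (nat_lit 92489) (Tr.nd (nat_lit 90203) (Tr.nd (nat_lit 89137) (Tr.nd (nat_lit 88663) (Tr.nd (nat_lit 88289) (Tr.nd (nat_lit 88019) (Tr.nd (nat_lit 87917) (Tr.nd (nat_lit 87881) (Tr.nd (nat_lit 87803) (Tr.lf (nat_lit 87797)) (Tr.lf (nat_lit 87803))) (Tr.nd (nat_lit 87887) (Tr.lf (nat_lit 87881)) (Tr.nd (nat_lit 87911) (Tr.lf (nat_lit 87887)) (Tr.lf (nat_lit 87911))))) (Tr.nd (nat_lit 88001) (Tr.nd (nat_lit 87931) (Tr.lf (nat_lit 87917)) (Tr.nd (nat_lit 87959) (Tr.lf (nat_lit 87931)) (Tr.lf (nat_lit 87959)))) (Tr.nd (nat_lit 88003) (Tr.lf (nat_lit 88001)) (Tr.nd (nat_lit 88007) (Tr.lf (nat_lit 88003)) (Tr.lf (nat_lit 88007)))))) (Tr.nd (nat_lit 88211) (Tr.nd (nat_lit 88069) (Tr.nd (nat_lit 88037) (Tr.lf (nat_lit 88019)) (Tr.lf (nat_lit 88037))) (Tr.nd (nat_lit 88079) (Tr.lf (nat_lit 88069)) (Tr.nd (nat_lit 88093) (Tr.lf (nat_lit 88079)) (Tr.lf (nat_lit 88093))))) (Tr.nd (nat_lit 88241) (Tr.nd (nat_lit 88223) (Tr.lf (nat_lit 88211)) (Tr.nd (nat_lit 88237) (Tr.lf (nat_lit 88223)) (Tr.lf (nat_lit 88237)))) (Tr.nd (nat_lit 88259) (Tr.lf (nat_lit 88241)) (Tr.nd (nat_lit 88261) (Tr.lf (nat_lit 88259)) (Tr.lf (nat_lit 88261))))))) (Tr.nd (nat_lit 88463) (Tr.nd (nat_lit 88339) (Tr.nd (nat_lit 88321) (Tr.nd (nat_lit 88301) (Tr.lf (nat_lit 88289)) (Tr.lf (nat_lit 88301))) (Tr.nd (nat_lit 88327) (Tr.lf (nat_lit 88321)) (Tr.nd (nat_lit 88337) (Tr.lf (nat_lit 88327)) (Tr.lf (nat_lit 88337))))) (Tr.nd (nat_lit 88411) (Tr.nd (nat_lit 88379) (Tr.lf (nat_lit 88339)) (Tr.nd (nat_lit 88397) (Tr.lf (nat_lit 88379)) (Tr.lf (nat_lit 88397)))) (Tr.nd (nat_lit 88423) (Tr.lf (nat_lit 88411)) (Tr.nd (nat_lit 88427) (Tr.lf (nat_lit 88423)) (Tr.lf (nat_lit 88427)))))) (Tr.nd (nat_lit 88513) (Tr.nd (nat_lit 88471) (Tr.nd (nat_lit 88469) (Tr.lf (nat_lit 88463)) (Tr.lf (nat_lit 88469))) (Tr.nd (nat_lit 88493) (Tr.lf (nat_lit 88471)) (Tr.nd (nat_lit 88499) (Tr.lf (nat_lit 88493)) (Tr.lf (nat_lit 88499))))) (Tr.nd (nat_lit 88651) (Tr.nd (nat_lit 88523) (Tr.lf (nat_lit 88513)) (Tr.nd (nat_lit 88643) (Tr.lf (nat_lit 88523)) (Tr.lf (nat_lit 88643)))) (Tr.nd (nat_lit 88657) (Tr.lf (nat_lit 88651)) (Tr.nd (nat_lit 88661) (Tr.lf (nat_lit 88657)) (Tr.lf (nat_lit 88661)))))))) (Tr.nd (nat_lit 88903) (Tr.nd (nat_lit 88801) (Tr.nd (nat_lit 88741) (Tr.nd (nat_lit 88681) (Tr.nd (nat_lit 88667) (Tr.lf (nat_lit 88663)) (Tr.lf (nat_lit 88667))) (Tr.nd (nat_lit 88721) (Tr.lf (nat_lit 88681)) (Tr.nd (nat_lit 88729) (Tr.lf (nat_lit 88721)) (Tr.lf (nat_lit 88729))))) (Tr.nd (nat_lit 88789) (Tr.nd (nat_lit 88747) (Tr.lf (nat_lit 88741)) (Tr.nd (nat_lit 88771) (Tr.lf (nat_lit 88747)) (Tr.lf (nat_lit 88771)))) (Tr.nd (nat_lit 88793) (Tr.lf (nat_lit 88789)) (Tr.nd (nat_lit 88799) (Tr.lf (nat_lit 88793)) (Tr.lf (nat_lit 88799)))))) (Tr.nd (nat_lit 88853) (Tr.nd (nat_lit 88817) (Tr.nd (nat_lit 88807) (Tr.lf (nat_lit 88801)) (Tr.lf (nat_lit 88807))) (Tr.nd (nat_lit 88819) (Tr.lf (nat_lit 88817)) (Tr.nd (nat_lit 88843) (Tr.lf (nat_lit 88819)) (Tr.lf (nat_lit 88843))))) (Tr.nd (nat_lit 88873) (Tr.nd (nat_lit 88861) (Tr.lf (nat_lit 88853)) (Tr.nd (nat_lit 88867) (Tr.lf (nat_lit 88861)) (Tr.lf (nat_lit 88867)))) (Tr.nd (nat_lit 88883) (Tr.lf (nat_lit 88873)) (Tr.nd (nat_lit 88897) (Tr.lf (nat_lit 88883)) (Tr.lf (nat_lit 88897))))))) (Tr.nd (nat_lit 89041) (Tr.nd (nat_lit 88993) (Tr.nd (nat_lit 88937) (Tr.nd (nat_lit 88919) (Tr.lf (nat_lit 88903)) (Tr.lf (nat_lit 88919))) (Tr.nd (nat_lit 88951) (Tr.lf (nat_lit 88937)) (Tr.nd (nat_lit 88969) (Tr.lf (nat_lit 88951)) (Tr.lf (nat_lit 88969))))) (Tr.nd (nat_lit 89009) (Tr.nd (nat_lit 88997) (Tr.lf (nat_lit 88993)) (Tr.nd (nat_lit 89003) (Tr.lf (nat_lit 88997)) (Tr.lf (nat_lit 89003)))) (Tr.nd (nat_lit 89017) (Tr.lf (nat_lit 89009)) (Tr.nd (nat_lit 89021) (Tr.lf (nat_lit 89017)) (Tr.lf (nat_lit 89021)))))) (Tr.nd (nat_lit 89087) (Tr.nd (nat_lit 89057) (Tr.nd (nat_lit 89051) (Tr.lf (nat_lit 89041)) (Tr.lf (nat_lit 89051))) (Tr.nd (nat_lit 89069) (Tr.lf (nat_lit 89057)) (Tr.nd (nat_lit 89083) (Tr.lf (nat_lit 89069)) (Tr.lf (nat_lit 89083))))) (Tr.nd (nat_lit 89113) (Tr.nd (nat_lit 89101) (Tr.lf (nat_lit 89087)) (Tr.nd (nat_lit 89107) (Tr.lf (nat_lit 89101)) (Tr.lf (nat_lit 89107)))) (Tr.nd (nat_lit 89119) (Tr.lf (nat_lit 89113)) (Tr.nd (nat_lit 89123) (Tr.lf (nat_lit 89119)) (Tr.lf (nat_lit 89123))))))))) (Tr.nd (nat_lit 89669) (Tr.nd (nat_lit 89413) (Tr.nd (nat_lit 89273) (Tr.nd (nat_lit 89213) (Tr.nd (nat_lit 89189) (Tr.nd (nat_lit 89153) (Tr.lf (nat_lit 89137)) (Tr.lf (nat_lit 89153))) (Tr.nd (nat_lit 89203) (Tr.lf (nat_lit 89189)) (Tr.nd (nat_lit 89209) (Tr.lf (nat_lit 89203)) (Tr.lf (nat_lit 89209))))) (Tr.nd (nat_lit 89237) (Tr.nd (nat_lit 89227) (Tr.lf (nat_lit 89213)) (Tr.nd (nat_lit 89231) (Tr.lf (nat_lit 89227)) (Tr.lf (nat_lit 89231)))) (Tr.nd (nat_lit 89261) (Tr.lf (nat_lit 89237)) (Tr.nd (nat_lit 89269) (Tr.lf (nat_lit 89261)) (Tr.lf (nat_lit 89269)))))) (Tr.nd (nat_lit 89363) (Tr.nd (nat_lit 89303) (Tr.nd (nat_lit 89293) (Tr.lf (nat_lit 89273)) (Tr.lf (nat_lit 89293))) (Tr.nd (nat_lit 89317) (Tr.lf (nat_lit 89303)) (Tr.nd (nat_lit 89329) (Tr.lf (nat_lit 89317)) (Tr.lf (nat_lit 89329))))) (Tr.nd (nat_lit 89387) (Tr.nd (nat_lit 89371) (Tr.lf (nat_lit 89363)) (Tr.nd (nat_lit 89381) (Tr.lf (nat_lit 89371)) (Tr.lf (nat_lit 89381)))) (Tr.nd (nat_lit 89393) (Tr.lf (nat_lit 89387)) (Tr.nd (nat_lit 89399) (Tr.lf (nat_lit 89393)) (Tr.lf (nat_lit 89399))))))) (Tr.nd (nat_lit 89527) (Tr.nd (nat_lit 89459) (Tr.nd (nat_lit 89431) (Tr.nd (nat_lit 89417) (Tr.lf (nat_lit 89413)) (Tr.lf (nat_lit 89417))) (Tr.nd (nat_lit 89443) (Tr.lf (nat_lit 89431)) (Tr.nd (nat_lit 89449) (Tr.lf (nat_lit 89443)) (Tr.lf (nat_lit 89449))))) (Tr.nd (nat_lit 89501) (Tr.nd (nat_lit 89477) (Tr.lf (nat_lit 89459)) (Tr.nd (nat_lit 89491) (Tr.lf (nat_lit 89477)) (Tr.lf (nat_lit 89491)))) (Tr.nd (nat_lit 89513) (Tr.lf (nat_lit 89501)) (Tr.nd (nat_lit 89521) (Tr.lf (nat_lit 89513)) (Tr.lf (nat_lit 89521)))))) (Tr.nd (nat_lit 89591) (Tr.nd (nat_lit 89561) (Tr.nd (nat_lit 89533) (Tr.lf (nat_lit 89527)) (Tr.lf (nat_lit 89533))) (Tr.nd (nat_lit 89563) (Tr.lf (nat_lit 89561)) (Tr.nd (nat_lit 89567) (Tr.lf (nat_lit 89563)) (Tr.lf (nat_lit 89567))))) (Tr.nd (nat_lit 89603) (Tr.nd (nat_lit 89597) (Tr.lf (nat_lit 89591)) (Tr.nd (nat_lit 89599) (Tr.lf (nat_lit 89597)) (Tr.lf (nat_lit 89599)))) (Tr.nd (nat_lit 89611) (Tr.lf (nat_lit 89603)) (Tr.nd (nat_lit 89627) (Tr.lf (nat_lit 89611)) (Tr.lf (nat_lit 89627)))))))) (Tr.nd (nat_lit 89959) (Tr.nd (nat_lit 89833) (Tr.nd (nat_lit 89759) (Tr.nd (nat_lit 89681) (Tr.nd (nat_lit 89671) (Tr.lf (nat_lit 89669)) (Tr.lf (nat_lit 89671))) (Tr.nd (nat_lit 89689) (Tr.lf (nat_lit 89681)) (Tr.nd (nat_lit 89753) (Tr.lf (nat_lit 89689)) (Tr.lf (nat_lit 89753))))) (Tr.nd (nat_lit 89809) (Tr.nd (nat_lit 89783) (Tr.lf (nat_lit 89759)) (Tr.nd (nat_lit 89797) (Tr.lf (nat_lit 89783)) (Tr.lf (nat_lit 89797)))) (Tr.nd (nat_lit 89819) (Tr.lf (nat_lit 89809)) (Tr.nd (nat_lit 89821) (Tr.lf (nat_lit 89819)) (Tr.lf (nat_lit 89821)))))) (Tr.nd (nat_lit 89897) (Tr.nd (nat_lit 89849) (Tr.nd (nat_lit 89839) (Tr.lf (nat_lit 89833)) (Tr.lf (nat_lit 89839))) (Tr.nd (nat_lit 89867) (Tr.lf (nat_lit 89849)) (Tr.nd (nat_lit 89891) (Tr.lf (nat_lit 89867)) (Tr.lf (nat_lit 89891))))) (Tr.nd (nat_lit 89917) (Tr.nd (nat_lit 89899) (Tr.lf (nat_lit 89897)) (Tr.nd (nat_lit 89909) (Tr.lf (nat_lit 89899)) (Tr.lf (nat_lit 89909)))) (Tr.nd (nat_lit 89923) (Tr.lf (nat_lit 89917)) (Tr.nd (nat_lit 89939) (Tr.lf (nat_lit 89923)) (Tr.lf (nat_lit 89939))))))) (Tr.nd (nat_lit 90089) (Tr.nd (nat_lit 90001) (Tr.nd (nat_lit 89977) (Tr.nd (nat_lit 89963) (Tr.lf (nat_lit 89959)) (Tr.lf (nat_lit 89963))) (Tr.nd (nat_lit 89983) (Tr.lf (nat_lit 89977)) (Tr.nd (nat_lit 89989) (Tr.lf (nat_lit 89983)) (Tr.lf (nat_lit 89989))))) (Tr.nd (nat_lit 90067) (Tr.nd (nat_lit 90007) (Tr.lf (nat_lit 90001)) (Tr.nd (nat_lit 90011) (Tr.lf (nat_lit 90007)) (Tr.lf (nat_lit 90011)))) (Tr.nd (nat_lit 90071) (Tr.lf (nat_lit 90067)) (Tr.nd (nat_lit 90073) (Tr.lf (nat_lit 90071)) (Tr.lf (nat_lit 90073)))))) (Tr.nd (nat_lit 90163) (Tr.nd (nat_lit 90121) (Tr.nd (nat_lit 90107) (Tr.lf (nat_lit 90089)) (Tr.lf (nat_lit 90107))) (Tr.nd (nat_lit 90127) (Tr.lf (nat_lit 90121)) (Tr.nd (nat_lit 90149) (Tr.lf (nat_lit 90127)) (Tr.lf (nat_lit 90149))))) (Tr.nd (nat_lit 90191) (Tr.nd (nat_lit 90173) (Tr.lf (nat_lit 90163)) (Tr.nd (nat_lit 90187) (Tr.lf (nat_lit 90173)) (Tr.lf (nat_lit 90187)))) (Tr.nd (nat_lit 90197) (Tr.lf (nat_lit 90191)) (Tr.nd (nat_lit 90199) (Tr.lf (nat_lit 90197)) (Tr.lf (nat_lit 90199)))))))))) (Tr.nd (nat_lit 91423) (Tr.nd (nat_lit 90841) (Tr.nd (nat_lit 90473) (Tr.nd (nat_lit 90359) (Tr.nd (nat_lit 90263) (Tr.nd (nat_lit 90227) (Tr.nd (nat_lit 90217) (Tr.lf (nat_lit 90203)) (Tr.lf (nat_lit 90217))) (Tr.nd (nat_lit 90239) (Tr.lf (nat_lit 90227)) (Tr.nd (nat_lit 90247) (Tr.lf (nat_lit 90239)) (Tr.lf (nat_lit 90247))))) (Tr.nd (nat_lit 90289) (Tr.nd (nat_lit 90271) (Tr.lf (nat_lit 90263)) (Tr.nd (nat_lit 90281) (Tr.lf (nat_lit 90271)) (Tr.lf (nat_lit 90281)))) (Tr.nd (nat_lit 90313) (Tr.lf (nat_lit 90289)) (Tr.nd (nat_lit 90353) (Tr.lf (nat_lit 90313)) (Tr.lf (nat_lit 90353)))))) (Tr.nd (nat_lit 90401) (Tr.nd (nat_lit 90373) (Tr.nd (nat_lit 90371) (Tr.lf (nat_lit 90359)) (Tr.lf (nat_lit 90371))) (Tr.nd (nat_lit 90379) (Tr.lf (nat_lit 90373)) (Tr.nd (nat_lit 90397) (Tr.lf (nat_lit 90379)) (Tr.lf (nat_lit 90397))))) (Tr.nd (nat_lit 90437) (Tr.nd (nat_lit 90403) (Tr.lf (nat_lit 90401)) (Tr.nd (nat_lit 90407) (Tr.lf (nat_lit 90403)) (Tr.lf (nat_lit 90407)))) (Tr.nd (nat_lit 90439) (Tr.lf (nat_lit 90437)) (Tr.nd (nat_lit 90469) (Tr.lf (nat_lit 90439)) (Tr.lf (nat_lit 90469))))))) (Tr.nd (nat_lit 90617) (Tr.nd (nat_lit 90527) (Tr.nd (nat_lit 90499) (Tr.nd (nat_lit 90481) (Tr.lf (nat_lit 90473)) (Tr.lf (nat_lit 90481))) (Tr.nd (nat_lit 90511) (Tr.lf (nat_lit 90499)) (Tr.nd (nat_lit 90523) (Tr.lf (nat_lit 90511)) (Tr.lf (nat_lit 90523))))) (Tr.nd (nat_lit 90547) (Tr.nd (nat_lit 90529) (Tr.lf (nat_lit 90527)) (Tr.nd (nat_lit 90533) (Tr.lf (nat_lit 90529)) (Tr.lf (nat_lit 90533)))) (Tr.nd (nat_lit 90583) (Tr.lf (nat_lit 90547)) (Tr.nd (nat_lit 90599) (Tr.lf (nat_lit 90583)) (Tr.lf (nat_lit 90599)))))) (Tr.nd (nat_lit 90697) (Tr.nd (nat_lit 90631) (Tr.nd (nat_lit 90619) (Tr.lf (nat_lit 90617)) (Tr.lf (nat_lit 90619))) (Tr.nd (nat_lit 90641) (Tr.lf (nat_lit 90631)) (Tr.nd (nat_lit 90647) (Tr.lf (nat_lit 90641)) (Tr.lf (nat_lit 90647))))) (Tr.nd (nat_lit 90749) (Tr.nd (nat_lit 90709) (Tr.lf (nat_lit 90697)) (Tr.nd (nat_lit 90731) (Tr.lf (nat_lit 90709)) (Tr.lf (nat_lit 90731)))) (Tr.nd (nat_lit 90787) (Tr.lf (nat_lit 90749)) (Tr.nd (nat_lit 90793) (Tr.lf (nat_lit 90787)) (Tr.lf (nat_lit 90793)))))))) (Tr.nd (nat_lit 91151) (Tr.nd (nat_lit 91019) (Tr.nd (nat_lit 90907) (Tr.nd (nat_lit 90863) (Tr.nd (nat_lit 90847) (Tr.lf (nat_lit 90841)) (Tr.lf (nat_lit 90847))) (Tr.nd (nat_lit 90887) (Tr.lf (nat_lit 90863)) (Tr.nd (nat_lit 90901) (Tr.lf (nat_lit 90887)) (Tr.lf (nat_lit 90901))))) (Tr.nd (nat_lit 90931) (Tr.nd (nat_lit 90911) (Tr.lf (nat_lit 90907)) (Tr.nd (nat_lit 90917) (Tr.lf (nat_lit 90911)) (Tr.lf (nat_lit 90917)))) (Tr.nd (nat_lit 90997) (Tr.lf (nat_lit 90931)) (Tr.nd (nat_lit 91009) (Tr.lf (nat_lit 90997)) (Tr.lf (nat_lit 91009)))))) (Tr.nd (nat_lit 91099) (Tr.nd (nat_lit 91079) (Tr.nd (nat_lit 91033) (Tr.lf (nat_lit 91019)) (Tr.lf (nat_lit 91033))) (Tr.nd (nat_lit 91081) (Tr.lf (nat_lit 91079)) (Tr.nd (nat_lit 91097) (Tr.lf (nat_lit 91081)) (Tr.lf (nat_lit 91097))))) (Tr.nd (nat_lit 91129) (Tr.nd (nat_lit 91121) (Tr.lf (nat_lit 91099)) (Tr.nd (nat_lit 91127) (Tr.lf (nat_lit 91121)) (Tr.lf (nat_lit 91127)))) (Tr.nd (nat_lit 91139) (Tr.lf (nat_lit 91129)) (Tr.nd (nat_lit 91141) (Tr.lf (nat_lit 91139)) (Tr.lf (nat_lit 91141))))))) (Tr.nd (nat_lit 91253) (Tr.nd (nat_lit 91193) (Tr.nd (nat_lit 91159) (Tr.nd (nat_lit 91153) (Tr.lf (nat_lit 91151)) (Tr.lf (nat_lit 91153))) (Tr.nd (nat_lit 91163) (Tr.lf (nat_lit 91159)) (Tr.nd (nat_lit 91183) (Tr.lf (nat_lit 91163)) (Tr.lf (nat_lit 91183))))) (Tr.nd (nat_lit 91237) (Tr.nd (nat_lit 91199) (Tr.lf (nat_lit 91193)) (Tr.nd (nat_lit 91229) (Tr.lf (nat_lit 91199)) (Tr.lf (nat_lit 91229)))) (Tr.nd (nat_lit 91243) (Tr.lf (nat_lit 91237)) (Tr.nd (nat_lit 91249) (Tr.lf (nat_lit 91243)) (Tr.lf (nat_lit 91249)))))) (Tr.nd (nat_lit 91309) (Tr.nd (nat_lit 91291) (Tr.nd (nat_lit 91283) (Tr.lf (nat_lit 91253)) (Tr.lf (nat_lit 91283))) (Tr.nd (nat_lit 91297) (Tr.lf (nat_lit 91291)) (Tr.nd (nat_lit 91303) (Tr.lf (nat_lit 91297)) (Tr.lf (nat_lit 91303))))) (Tr.nd (nat_lit 91381) (Tr.nd (nat_lit 91331) (Tr.lf (nat_lit 91309)) (Tr.nd (nat_lit 91367) (Tr.lf (nat_lit 91331)) (Tr.lf (nat_lit 91367)))) (Tr.nd (nat_lit 91397) (Tr.lf (nat_lit 91381)) (Tr.nd (nat_lit 91411) (Tr.lf (nat_lit 91397)) (Tr.lf (nat_lit 91411))))))))) (Tr.nd (nat_lit 91967) (Tr.nd (nat_lit 91711) (Tr.nd (nat_lit 91571) (Tr.nd (nat_lit 91463) (Tr.nd (nat_lit 91453) (Tr.nd (nat_lit 91433) (Tr.lf (nat_lit 91423)) (Tr.lf (nat_lit 91433))) (Tr.nd (nat_lit 91457) (Tr.lf (nat_lit 91453)) (Tr.nd (nat_lit 91459) (Tr.lf (nat_lit 91457)) (Tr.lf (nat_lit 91459))))) (Tr.nd (nat_lit 91513) (Tr.nd (nat_lit 91493) (Tr.lf (nat_lit 91463)) (Tr.nd (nat_lit 91499) (Tr.lf (nat_lit 91493)) (Tr.lf (nat_lit 91499)))) (Tr.nd (nat_lit 91529) (Tr.lf (nat_lit 91513)) (Tr.nd (nat_lit 91541) (Tr.lf (nat_lit 91529)) (Tr.lf (nat_lit 91541)))))) (Tr.nd (nat_lit 91621) (Tr.nd (nat_lit 91577) (Tr.nd (nat_lit 91573) (Tr.lf (nat_lit 91571)) (Tr.lf (nat_lit 91573))) (Tr.nd (nat_lit 91583) (Tr.lf (nat_lit 91577)) (Tr.nd (nat_lit 91591) (Tr.lf (nat_lit 91583)) (Tr.lf (nat_lit 91591))))) (Tr.nd (nat_lit 91673) (Tr.nd (nat_lit 91631) (Tr.lf (nat_lit 91621)) (Tr.nd (nat_lit 91639) (Tr.lf (nat_lit 91631)) (Tr.lf (nat_lit 91639)))) (Tr.nd (nat_lit 91691) (Tr.lf (nat_lit 91673)) (Tr.nd (nat_lit 91703) (Tr.lf (nat_lit 91691)) (Tr.lf (nat_lit 91703))))))) (Tr.nd (nat_lit 91837) (Tr.nd (nat_lit 91781) (Tr.nd (nat_lit 91753) (Tr.nd (nat_lit 91733) (Tr.lf (nat_lit 91711)) (Tr.lf (nat_lit 91733))) (Tr.nd (nat_lit 91757) (Tr.lf (nat_lit 91753)) (Tr.nd (nat_lit 91771) (Tr.lf (nat_lit 91757)) (Tr.lf (nat_lit 91771))))) (Tr.nd (nat_lit 91811) (Tr.nd (nat_lit 91801) (Tr.lf (nat_lit 91781)) (Tr.nd (nat_lit 91807) (Tr.lf (nat_lit 91801)) (Tr.lf (nat_lit 91807)))) (Tr.nd (nat_lit 91813) (Tr.lf (nat_lit 91811)) (Tr.nd (nat_lit 91823) (Tr.lf (nat_lit 91813)) (Tr.lf (nat_lit 91823)))))) (Tr.nd (nat_lit 91921) (Tr.nd (nat_lit 91867) (Tr.nd (nat_lit 91841) (Tr.lf (nat_lit 91837)) (Tr.lf (nat_lit 91841))) (Tr.nd (nat_lit 91873) (Tr.lf (nat_lit 91867)) (Tr.nd (nat_lit 91909) (Tr.lf (nat_lit 91873)) (Tr.lf (nat_lit 91909))))) (Tr.nd (nat_lit 91951) (Tr.nd (nat_lit 91939) (Tr.lf (nat_lit 91921)) (Tr.nd (nat_lit 91943) (Tr.lf (nat_lit 91939)) (Tr.lf (nat_lit 91943)))) (Tr.nd (nat_lit 91957) (Tr.lf (nat_lit 91951)) (Tr.nd (nat_lit 91961) (Tr.lf (nat_lit 91957)) (Tr.lf (nat_lit 91961)))))))) (Tr.nd (nat_lit 92233) (Tr.nd (nat_lit 92111) (Tr.nd (nat_lit 92033) (Tr.nd (nat_lit 91997) (Tr.nd (nat_lit 91969) (Tr.lf (nat_lit 91967)) (Tr.lf (nat_lit 91969))) (Tr.nd (nat_lit 92003) (Tr.lf (nat_lit 91997)) (Tr.nd (nat_lit 92009) (Tr.lf (nat_lit 92003)) (Tr.lf (nat_lit 92009))))) (Tr.nd (nat_lit 92077) (Tr.nd (nat_lit 92041) (Tr.lf (nat_lit 92033)) (Tr.nd (nat_lit 92051) (Tr.lf (nat_lit 92041)) (Tr.lf (nat_lit 92051)))) (Tr.nd (nat_lit 92083) (Tr.lf (nat_lit 92077)) (Tr.nd (nat_lit 92107) (Tr.lf (nat_lit 92083)) (Tr.lf (nat_lit 92107)))))) (Tr.nd (nat_lit 92177) (Tr.nd (nat_lit 92143) (Tr.nd (nat_lit 92119) (Tr.lf (nat_lit 92111)) (Tr.lf (nat_lit 92119))) (Tr.nd (nat_lit 92153) (Tr.lf (nat_lit 92143)) (Tr.nd (nat_lit 92173) (Tr.lf (nat_lit 92153)) (Tr.lf (nat_lit 92173))))) (Tr.nd (nat_lit 92203) (Tr.nd (nat_lit 92179) (Tr.lf (nat_lit 92177)) (Tr.nd (nat_lit 92189) (Tr.lf (nat_lit 92179)) (Tr.lf (nat_lit 92189)))) (Tr.nd (nat_lit 92219) (Tr.lf (nat_lit 92203)) (Tr.nd (nat_lit 92221) (Tr.lf (nat_lit 92219)) (Tr.lf (nat_lit 92221))))))) (Tr.nd (nat_lit 92357) (Tr.nd (nat_lit 92297) (Tr.nd (nat_lit 92243) (Tr.nd (nat_lit 92237) (Tr.lf (nat_lit 92233)) (Tr.lf (nat_lit 92237))) (Tr.nd (nat_lit 92251) (Tr.lf (nat_lit 92243)) (Tr.nd (nat_lit 92269) (Tr.lf (nat_lit 92251)) (Tr.lf (nat_lit 92269))))) (Tr.nd (nat_lit 92333) (Tr.nd (nat_lit 92311) (Tr.lf (nat_lit 92297)) (Tr.nd (nat_lit 92317) (Tr.lf (nat_lit 92311)) (Tr.lf (nat_lit 92317)))) (Tr.nd (nat_lit 92347) (Tr.lf (nat_lit 92333)) (Tr.nd (nat_lit 92353) (Tr.lf (nat_lit 92347)) (Tr.lf (nat_lit 92353)))))) (Tr.nd (nat_lit 92413) (Tr.nd (nat_lit 92387) (Tr.nd (nat_lit 92363) (Tr.lf (nat_lit 92357)) (Tr.lf (nat_lit 92363))) (Tr.nd (nat_lit 92399) (Tr.lf (nat_lit 92387)) (Tr.nd (nat_lit 92401) (Tr.lf (nat_lit 92399)) (Tr.lf (nat_lit 92401))))) (Tr.nd (nat_lit 92459) (Tr.nd (nat_lit 92419) (Tr.lf (nat_lit 92413)) (Tr.nd (nat_lit 92431) (Tr.lf (nat_lit 92419)) (Tr.lf (nat_lit 92431)))) (Tr.nd (nat_lit 92467) (Tr.lf (nat_lit 92459)) (Tr.nd (nat_lit 92479) (Tr.lf (nat_lit 92467)) (Tr.lf (nat_lit 92479))))))))))) (Tr.nd (nat_lit 94649) (Tr.nd (nat_lit 93497) (Tr.nd (nat_lit 93047) (Tr.nd (nat_lit 92717) (Tr.nd (nat_lit 92639) (Tr.nd (nat_lit 92567) (Tr.nd (nat_lit 92507) (Tr.nd (nat_lit 92503) (Tr.lf (nat_lit 92489)) (Tr.lf (nat_lit 92503))) (Tr.nd (nat_lit 92551) (Tr.lf (nat_lit 92507)) (Tr.nd (nat_lit 92557) (Tr.lf (nat_lit 92551)) (Tr.lf (nat_lit 92557))))) (Tr.nd (nat_lit 92593) (Tr.nd (nat_lit 92569) (Tr.lf (nat_lit 92567)) (Tr.nd (nat_lit 92581) (Tr.lf (nat_lit 92569)) (Tr.lf (nat_lit 92581)))) (Tr.nd (nat_lit 92623) (Tr.lf (nat_lit 92593)) (Tr.nd (nat_lit 92627) (Tr.lf (nat_lit 92623)) (Tr.lf (nat_lit 92627)))))) (Tr.nd (nat_lit 92671) (Tr.nd (nat_lit 92647) (Tr.nd (nat_lit 92641) (Tr.lf (nat_lit 92639)) (Tr.lf (nat_lit 92641))) (Tr.nd (nat_lit 92657) (Tr.lf (nat_lit 92647)) (Tr.nd (nat_lit 92669) (Tr.lf (nat_lit 92657)) (Tr.lf (nat_lit 92669))))) (Tr.nd (nat_lit 92693) (Tr.nd (nat_lit 92681) (Tr.lf (nat_lit 92671)) (Tr.nd (nat_lit 92683) (Tr.lf (nat_lit 92681)) (Tr.lf (nat_lit 92683)))) (Tr.nd (nat_lit 92699) (Tr.lf (nat_lit 92693)) (Tr.nd (nat_lit 92707) (Tr.lf (nat_lit 92699)) (Tr.lf (nat_lit 92707))))))) (Tr.nd (nat_lit 92821) (Tr.nd (nat_lit 92767) (Tr.nd (nat_lit 92737) (Tr.nd (nat_lit 92723) (Tr.lf (nat_lit 92717)) (Tr.lf (nat_lit 92723))) (Tr.nd (nat_lit 92753) (Tr.lf (nat_lit 92737)) (Tr.nd (nat_lit 92761) (Tr.lf (nat_lit 92753)) (Tr.lf (nat_lit 92761))))) (Tr.nd (nat_lit 92791) (Tr.nd (nat_lit 92779) (Tr.lf (nat_lit 92767)) (Tr.nd (nat_lit 92789) (Tr.lf (nat_lit 92779)) (Tr.lf (nat_lit 92789)))) (Tr.nd (nat_lit 92801) (Tr.lf (nat_lit 92791)) (Tr.nd (nat_lit 92809) (Tr.lf (nat_lit 92801)) (Tr.lf (nat_lit 92809)))))) (Tr.nd (nat_lit 92951) (Tr.nd (nat_lit 92921) (Tr.nd (nat_lit 92863) (Tr.lf (nat_lit 92821)) (Tr.lf (nat_lit 92863))) (Tr.nd (nat_lit 92927) (Tr.lf (nat_lit 92921)) (Tr.nd (nat_lit 92941) (Tr.lf (nat_lit 92927)) (Tr.lf (nat_lit 92941))))) (Tr.nd (nat_lit 92987) (Tr.nd (nat_lit 92957) (Tr.lf (nat_lit 92951)) (Tr.nd (nat_lit 92959) (Tr.lf (nat_lit 92957)) (Tr.lf (nat_lit 92959)))) (Tr.nd (nat_lit 92993) (Tr.lf (nat_lit 92987)) (Tr.nd (nat_lit 93001) (Tr.lf (nat_lit 92993)) (Tr.lf (nat_lit 93001)))))))) (Tr.nd (nat_lit 93257) (Tr.nd (nat_lit 93139) (Tr.nd (nat_lit 93089) (Tr.nd (nat_lit 93059) (Tr.nd (nat_lit 93053) (Tr.lf (nat_lit 93047)) (Tr.lf (nat_lit 93053))) (Tr.nd (nat_lit 93077) (Tr.lf (nat_lit 93059)) (Tr.nd (nat_lit 93083) (Tr.lf (nat_lit 93077)) (Tr.lf (nat_lit 93083))))) (Tr.nd (nat_lit 93113) (Tr.nd (nat_lit 93097) (Tr.lf (nat_lit 93089)) (Tr.nd (nat_lit 93103) (Tr.lf (nat_lit 93097)) (Tr.lf (nat_lit 93103)))) (Tr.nd (nat_lit 93131) (Tr.lf (nat_lit 93113)) (Tr.nd (nat_lit 93133) (Tr.lf (nat_lit 93131)) (Tr.lf (nat_lit 93133)))))) (Tr.nd (nat_lit 93199) (Tr.nd (nat_lit 93169) (Tr.nd (nat_lit 93151) (Tr.lf (nat_lit 93139)) (Tr.lf (nat_lit 93151))) (Tr.nd (nat_lit 93179) (Tr.lf (nat_lit 93169)) (Tr.nd (nat_lit 93187) (Tr.lf (nat_lit 93179)) (Tr.lf (nat_lit 93187))))) (Tr.nd (nat_lit 93241) (Tr.nd (nat_lit 93229) (Tr.lf (nat_lit 93199)) (Tr.nd (nat_lit 93239) (Tr.lf (nat_lit 93229)) (Tr.lf (nat_lit 93239)))) (Tr.nd (nat_lit 93251) (Tr.lf (nat_lit 93241)) (Tr.nd (nat_lit 93253) (Tr.lf (nat_lit 93251)) (Tr.lf (nat_lit 93253))))))) (Tr.nd (nat_lit 93377) (Tr.nd (nat_lit 93307) (Tr.nd (nat_lit 93281) (Tr.nd (nat_lit 93263) (Tr.lf (nat_lit 93257)) (Tr.lf (nat_lit 93263))) (Tr.nd (nat_lit 93283) (Tr.lf (nat_lit 93281)) (Tr.nd (nat_lit 93287) (Tr.lf (nat_lit 93283)) (Tr.lf (nat_lit 93287))))) (Tr.nd (nat_lit 93329) (Tr.nd (nat_lit 93319) (Tr.lf (nat_lit 93307)) (Tr.nd (nat_lit 93323) (Tr.lf (nat_lit 93319)) (Tr.lf (nat_lit 93323)))) (Tr.nd (nat_lit 93337) (Tr.lf (nat_lit 93329)) (Tr.nd (nat_lit 93371) (Tr.lf (nat_lit 93337)) (Tr.lf (nat_lit 93371)))))) (Tr.nd (nat_lit 93463) (Tr.nd (nat_lit 93407) (Tr.nd (nat_lit 93383) (Tr.lf (nat_lit 93377)) (Tr.lf (nat_lit 93383))) (Tr.nd (nat_lit 93419) (Tr.lf (nat_lit 93407)) (Tr.nd (nat_lit 93427) (Tr.lf (nat_lit 93419)) (Tr.lf (nat_lit 93427))))) (Tr.nd (nat_lit 93487) (Tr.nd (nat_lit 93479) (Tr.lf (nat_lit 93463)) (Tr.nd (nat_lit 93481) (Tr.lf (nat_lit 93479)) (Tr.lf (nat_lit 93481)))) (Tr.nd (nat_lit 93491) (Tr.lf (nat_lit 93487)) (Tr.nd (nat_lit 93493) (Tr.lf (nat_lit 93491)) (Tr.lf (nat_lit 93493))))))))) (Tr.nd (nat_lit 94121) (Tr.nd (nat_lit 93911) (Tr.nd (nat_lit 93719) (Tr.nd (nat_lit 93559) (Tr.nd (nat_lit 93523) (Tr.nd (nat_lit 93503) (Tr.lf (nat_lit 93497)) (Tr.lf (nat_lit 93503))) (Tr.nd (nat_lit 93529) (Tr.lf (nat_lit 93523)) (Tr.nd (nat_lit 93553) (Tr.lf (nat_lit 93529)) (Tr.lf (nat_lit 93553))))) (Tr.nd (nat_lit 93601) (Tr.nd (nat_lit 93563) (Tr.lf (nat_lit 93559)) (Tr.nd (nat_lit 93581) (Tr.lf (nat_lit 93563)) (Tr.lf (nat_lit 93581)))) (Tr.nd (nat_lit 93701) (Tr.lf (nat_lit 93601)) (Tr.nd (nat_lit 93703) (Tr.lf (nat_lit 93701)) (Tr.lf (nat_lit 93703)))))) (Tr.nd (nat_lit 93809) (Tr.nd (nat_lit 93761) (Tr.nd (nat_lit 93739) (Tr.lf (nat_lit 93719)) (Tr.lf (nat_lit 93739))) (Tr.nd (nat_lit 93763) (Tr.lf (nat_lit 93761)) (Tr.nd (nat_lit 93787) (Tr.lf (nat_lit 93763)) (Tr.lf (nat_lit 93787))))) (Tr.nd (nat_lit 93889) (Tr.nd (nat_lit 93811) (Tr.lf (nat_lit 93809)) (Tr.nd (nat_lit 93851) (Tr.lf (nat_lit 93811)) (Tr.lf (nat_lit 93851)))) (Tr.nd (nat_lit 93893) (Tr.lf (nat_lit 93889)) (Tr.nd (nat_lit 93901) (Tr.lf (nat_lit 93893)) (Tr.lf (nat_lit 93901))))))) (Tr.nd (nat_lit 94007) (Tr.nd (nat_lit 93949) (Tr.nd (nat_lit 93923) (Tr.nd (nat_lit 93913) (Tr.lf (nat_lit 93911)) (Tr.lf (nat_lit 93913))) (Tr.nd (nat_lit 93937) (Tr.lf (nat_lit 93923)) (Tr.nd (nat_lit 93941) (Tr.lf (nat_lit 93937)) (Tr.lf (nat_lit 93941))))) (Tr.nd (nat_lit 93979) (Tr.nd (nat_lit 93967) (Tr.lf (nat_lit 93949)) (Tr.nd (nat_lit 93971) (Tr.lf (nat_lit 93967)) (Tr.lf (nat_lit 93971)))) (Tr.nd (nat_lit 93983) (Tr.lf (nat_lit 93979)) (Tr.nd (nat_lit 93997) (Tr.lf (nat_lit 93983)) (Tr.lf (nat_lit 93997)))))) (Tr.nd (nat_lit 94063) (Tr.nd (nat_lit 94033) (Tr.nd (nat_lit 94009) (Tr.lf (nat_lit 94007)) (Tr.lf (nat_lit 94009))) (Tr.nd (nat_lit 94049) (Tr.lf (nat_lit 94033)) (Tr.nd (nat_lit 94057) (Tr.lf (nat_lit 94049)) (Tr.lf (nat_lit 94057))))) (Tr.nd (nat_lit 94109) (Tr.nd (nat_lit 94079) (Tr.lf (nat_lit 94063)) (Tr.nd (nat_lit 94099) (Tr.lf (nat_lit 94079)) (Tr.lf (nat_lit 94099)))) (Tr.nd (nat_lit 94111) (Tr.lf (nat_lit 94109)) (Tr.nd (nat_lit 94117) (Tr.lf (nat_lit 94111)) (Tr.lf (nat_lit 94117)))))))) (Tr.nd (nat_lit 94427) (Tr.nd (nat_lit 94309) (Tr.nd (nat_lit 94207) (Tr.nd (nat_lit 94153) (Tr.nd (nat_lit 94151) (Tr.lf (nat_lit 94121)) (Tr.lf (nat_lit 94151))) (Tr.nd (nat_lit 94169) (Tr.lf (nat_lit 94153)) (Tr.nd (nat_lit 94201) (Tr.lf (nat_lit 94169)) (Tr.lf (nat_lit 94201))))) (Tr.nd (nat_lit 94253) (Tr.nd (nat_lit 94219) (Tr.lf (nat_lit 94207)) (Tr.nd (nat_lit 94229) (Tr.lf (nat_lit 94219)) (Tr.lf (nat_lit 94229)))) (Tr.nd (nat_lit 94273) (Tr.lf (nat_lit 94253)) (Tr.nd (nat_lit 94291) (Tr.lf (nat_lit 94273)) (Tr.lf (nat_lit 94291)))))) (Tr.nd (nat_lit 94349) (Tr.nd (nat_lit 94327) (Tr.nd (nat_lit 94321) (Tr.lf (nat_lit 94309)) (Tr.lf (nat_lit 94321))) (Tr.nd (nat_lit 94331) (Tr.lf (nat_lit 94327)) (Tr.nd (nat_lit 94343) (Tr.lf (nat_lit 94331)) (Tr.lf (nat_lit 94343))))) (Tr.nd (nat_lit 94397) (Tr.nd (nat_lit 94351) (Tr.lf (nat_lit 94349)) (Tr.nd (nat_lit 94379) (Tr.lf (nat_lit 94351)) (Tr.lf (nat_lit 94379)))) (Tr.nd (nat_lit 94399) (Tr.lf (nat_lit 94397)) (Tr.nd (nat_lit 94421) (Tr.lf (nat_lit 94399)) (Tr.lf (nat_lit 94421))))))) (Tr.nd (nat_lit 94541) (Tr.nd (nat_lit 94463) (Tr.nd (nat_lit 94439) (Tr.nd (nat_lit 94433) (Tr.lf (nat_lit 94427)) (Tr.lf (nat_lit 94433))) (Tr.nd (nat_lit 94441) (Tr.lf (nat_lit 94439)) (Tr.nd (nat_lit 94447) (Tr.lf (nat_lit 94441)) (Tr.lf (nat_lit 94447))))) (Tr.nd (nat_lit 94513) (Tr.nd (nat_lit 94477) (Tr.lf (nat_lit 94463)) (Tr.nd (nat_lit 94483) (Tr.lf (nat_lit 94477)) (Tr.lf (nat_lit 94483)))) (Tr.nd (nat_lit 94529) (Tr.lf (nat_lit 94513)) (Tr.nd (nat_lit 94531) (Tr.lf (nat_lit 94529)) (Tr.lf (nat_lit 94531)))))) (Tr.nd (nat_lit 94573) (Tr.nd (nat_lit 94547) (Tr.nd (nat_lit 94543) (Tr.lf (nat_lit 94541)) (Tr.lf (nat_lit 94543))) (Tr.nd (nat_lit 94559) (Tr.lf (nat_lit 94547)) (Tr.nd (nat_lit 94561) (Tr.lf (nat_lit 94559)) (Tr.lf (nat_lit 94561))))) (Tr.nd (nat_lit 94603) (Tr.nd (nat_lit 94583) (Tr.lf (nat_lit 94573)) (Tr.nd (nat_lit 94597) (Tr.lf (nat_lit 94583)) (Tr.lf (nat_lit 94597)))) (Tr.nd (nat_lit 94613) (Tr.lf (nat_lit 94603)) (Tr.nd (nat_lit 94621) (Tr.lf (nat_lit 94613)) (Tr.lf (nat_lit 94621)))))))))) (Tr.nd (nat_lit 95707) (Tr.nd (nat_lit 95213) (Tr.nd (nat_lit 94903) (Tr.nd (nat_lit 94789) (Tr.nd (nat_lit 94723) (Tr.nd (nat_lit 94687) (Tr.nd (nat_lit 94651) (Tr.lf (nat_lit 94649)) (Tr.lf (nat_lit 94651))) (Tr.nd (nat_lit 94693) (Tr.lf (nat_lit 94687)) (Tr.nd (nat_lit 94709) (Tr.lf (nat_lit 94693)) (Tr.lf (nat_lit 94709))))) (Tr.nd (nat_lit 94771) (Tr.nd (nat_lit 94727) (Tr.lf (nat_lit 94723)) (Tr.nd (nat_lit 94747) (Tr.lf (nat_lit 94727)) (Tr.lf (nat_lit 94747)))) (Tr.nd (nat_lit 94777) (Tr.lf (nat_lit 94771)) (Tr.nd (nat_lit 94781) (Tr.lf (nat_lit 94777)) (Tr.lf (nat_lit 94781)))))) (Tr.nd (nat_lit 94837) (Tr.nd (nat_lit 94811) (Tr.nd (nat_lit 94793) (Tr.lf (nat_lit 94789)) (Tr.lf (nat_lit 94793))) (Tr.nd (nat_lit 94819) (Tr.lf (nat_lit 94811)) (Tr.nd (nat_lit 94823) (Tr.lf (nat_lit 94819)) (Tr.lf (nat_lit 94823))))) (Tr.nd (nat_lit 94849) (Tr.nd (nat_lit 94841) (Tr.lf (nat_lit 94837)) (Tr.nd (nat_lit 94847) (Tr.lf (nat_lit 94841)) (Tr.lf (nat_lit 94847)))) (Tr.nd (nat_lit 94873) (Tr.lf (nat_lit 94849)) (Tr.nd (nat_lit 94889) (Tr.lf (nat_lit 94873)) (Tr.lf (nat_lit 94889))))))) (Tr.nd (nat_lit 95071) (Tr.nd (nat_lit 94999) (Tr.nd (nat_lit 94951) (Tr.nd (nat_lit 94949) (Tr.lf (nat_lit 94903)) (Tr.lf (nat_lit 94949))) (Tr.nd (nat_lit 94961) (Tr.lf (nat_lit 94951)) (Tr.nd (nat_lit 94993) (Tr.lf (nat_lit 94961)) (Tr.lf (nat_lit 94993))))) (Tr.nd (nat_lit 95021) (Tr.nd (nat_lit 95003) (Tr.lf (nat_lit 94999)) (Tr.nd (nat_lit 95009) (Tr.lf (nat_lit 95003)) (Tr.lf (nat_lit 95009)))) (Tr.nd (nat_lit 95027) (Tr.lf (nat_lit 95021)) (Tr.nd (nat_lit 95063) (Tr.lf (nat_lit 95027)) (Tr.lf (nat_lit 95063)))))) (Tr.nd (nat_lit 95143) (Tr.nd (nat_lit 95087) (Tr.nd (nat_lit 95083) (Tr.lf (nat_lit 95071)) (Tr.lf (nat_lit 95083))) (Tr.nd (nat_lit 95089) (Tr.lf (nat_lit 95087)) (Tr.nd (nat_lit 95107) (Tr.lf (nat_lit 95089)) (Tr.lf (nat_lit 95107))))) (Tr.nd (nat_lit 95189) (Tr.nd (nat_lit 95153) (Tr.lf (nat_lit 95143)) (Tr.nd (nat_lit 95177) (Tr.lf (nat_lit 95153)) (Tr.lf (nat_lit 95177)))) (Tr.nd (nat_lit 95191) (Tr.lf (nat_lit 95189)) (Tr.nd (nat_lit 95203) (Tr.lf (nat_lit 95191)) (Tr.lf (nat_lit 95203)))))))) (Tr.nd (nat_lit 95443) (Tr.nd (nat_lit 95317) (Tr.nd (nat_lit 95261) (Tr.nd (nat_lit 95233) (Tr.nd (nat_lit 95219) (Tr.lf (nat_lit 95213)) (Tr.lf (nat_lit 95219))) (Tr.nd (nat_lit 95239) (Tr.lf (nat_lit 95233)) (Tr.nd (nat_lit 95257) (Tr.lf (nat_lit 95239)) (Tr.lf (nat_lit 95257))))) (Tr.nd (nat_lit 95279) (Tr.nd (nat_lit 95267) (Tr.lf (nat_lit 95261)) (Tr.nd (nat_lit 95273) (Tr.lf (nat_lit 95267)) (Tr.lf (nat_lit 95273)))) (Tr.nd (nat_lit 95287) (Tr.lf (nat_lit 95279)) (Tr.nd (nat_lit 95311) (Tr.lf (nat_lit 95287)) (Tr.lf (nat_lit 95311)))))) (Tr.nd (nat_lit 95393) (Tr.nd (nat_lit 95339) (Tr.nd (nat_lit 95327) (Tr.lf (nat_lit 95317)) (Tr.lf (nat_lit 95327))) (Tr.nd (nat_lit 95369) (Tr.lf (nat_lit 95339)) (Tr.nd (nat_lit 95383) (Tr.lf (nat_lit 95369)) (Tr.lf (nat_lit 95383))))) (Tr.nd (nat_lit 95419) (Tr.nd (nat_lit 95401) (Tr.lf (nat_lit 95393)) (Tr.nd (nat_lit 95413) (Tr.lf (nat_lit 95401)) (Tr.lf (nat_lit 95413)))) (Tr.nd (nat_lit 95429) (Tr.lf (nat_lit 95419)) (Tr.nd (nat_lit 95441) (Tr.lf (nat_lit 95429)) (Tr.lf (nat_lit 95441))))))) (Tr.nd (nat_lit 95561) (Tr.nd (nat_lit 95483) (Tr.nd (nat_lit 95467) (Tr.nd (nat_lit 95461) (Tr.lf (nat_lit 95443)) (Tr.lf (nat_lit 95461))) (Tr.nd (nat_lit 95471) (Tr.lf (nat_lit 95467)) (Tr.nd (nat_lit 95479) (Tr.lf (nat_lit 95471)) (Tr.lf (nat_lit 95479))))) (Tr.nd (nat_lit 95531) (Tr.nd (nat_lit 95507) (Tr.lf (nat_lit 95483)) (Tr.nd (nat_lit 95527) (Tr.lf (nat_lit 95507)) (Tr.lf (nat_lit 95527)))) (Tr.nd (nat_lit 95539) (Tr.lf (nat_lit 95531)) (Tr.nd (nat_lit 95549) (Tr.lf (nat_lit 95539)) (Tr.lf (nat_lit 95549)))))) (Tr.nd (nat_lit 95617) (Tr.nd (nat_lit 95581) (Tr.nd (nat_lit 95569) (Tr.lf (nat_lit 95561)) (Tr.lf (nat_lit 95569))) (Tr.nd (nat_lit 95597) (Tr.lf (nat_lit 95581)) (Tr.nd (nat_lit 95603) (Tr.lf (nat_lit 95597)) (Tr.lf (nat_lit 95603))))) (Tr.nd (nat_lit 95633) (Tr.nd (nat_lit 95621) (Tr.lf (nat_lit 95617)) (Tr.nd (nat_lit 95629) (Tr.lf (nat_lit 95621)) (Tr.lf (nat_lit 95629)))) (Tr.nd (nat_lit 95651) (Tr.lf (nat_lit 95633)) (Tr.nd (nat_lit 95701) (Tr.lf (nat_lit 95651)) (Tr.lf (nat_lit 95701))))))))) (Tr.nd (nat_lit 96269) (Tr.nd (nat_lit 95989) (Tr.nd (nat_lit 95881) (Tr.nd (nat_lit 95789) (Tr.nd (nat_lit 95717) (Tr.nd (nat_lit 95713) (Tr.lf (nat_lit 95707)) (Tr.lf (nat_lit 95713))) (Tr.nd (nat_lit 95737) (Tr.lf (nat_lit 95717)) (Tr.nd (nat_lit 95783) (Tr.lf (nat_lit 95737)) (Tr.lf (nat_lit 95783))))) (Tr.nd (nat_lit 95857) (Tr.nd (nat_lit 95813) (Tr.lf (nat_lit 95789)) (Tr.nd (nat_lit 95819) (Tr.lf (nat_lit 95813)) (Tr.lf (nat_lit 95819)))) (Tr.nd (nat_lit 95869) (Tr.lf (nat_lit 95857)) (Tr.nd (nat_lit 95873) (Tr.lf (nat_lit 95869)) (Tr.lf (nat_lit 95873)))))) (Tr.nd (nat_lit 95929) (Tr.nd (nat_lit 95911) (Tr.nd (nat_lit 95891) (Tr.lf (nat_lit 95881)) (Tr.lf (nat_lit 95891))) (Tr.nd (nat_lit 95917) (Tr.lf (nat_lit 95911)) (Tr.nd (nat_lit 95923) (Tr.lf (nat_lit 95917)) (Tr.lf (nat_lit 95923))))) (Tr.nd (nat_lit 95959) (Tr.nd (nat_lit 95947) (Tr.lf (nat_lit 95929)) (Tr.nd (nat_lit 95957) (Tr.lf (nat_lit 95947)) (Tr.lf (nat_lit 95957)))) (Tr.nd (nat_lit 95971) (Tr.lf (nat_lit 95959)) (Tr.nd (nat_lit 95987) (Tr.lf (nat_lit 95971)) (Tr.lf (nat_lit 95987))))))) (Tr.nd (nat_lit 96157) (Tr.nd (nat_lit 96053) (Tr.nd (nat_lit 96013) (Tr.nd (nat_lit 96001) (Tr.lf (nat_lit 95989)) (Tr.lf (nat_lit 96001))) (Tr.nd (nat_lit 96017) (Tr.lf (nat_lit 96013)) (Tr.nd (nat_lit 96043) (Tr.lf (nat_lit 96017)) (Tr.lf (nat_lit 96043))))) (Tr.nd (nat_lit 96097) (Tr.nd (nat_lit 96059) (Tr.lf (nat_lit 96053)) (Tr.nd (nat_lit 96079) (Tr.lf (nat_lit 96059)) (Tr.lf (nat_lit 96079)))) (Tr.nd (nat_lit 96137) (Tr.lf (nat_lit 96097)) (Tr.nd (nat_lit 96149) (Tr.lf (nat_lit 96137)) (Tr.lf (nat_lit 96149)))))) (Tr.nd (nat_lit 96211) (Tr.nd (nat_lit 96179) (Tr.nd (nat_lit 96167) (Tr.lf (nat_lit 96157)) (Tr.lf (nat_lit 96167))) (Tr.nd (nat_lit 96181) (Tr.lf (nat_lit 96179)) (Tr.nd (nat_lit 96199) (Tr.lf (nat_lit 96181)) (Tr.lf (nat_lit 96199))))) (Tr.nd (nat_lit 96233) (Tr.nd (nat_lit 96221) (Tr.lf (nat_lit 96211)) (Tr.nd (nat_lit 96223) (Tr.lf (nat_lit 96221)) (Tr.lf (nat_lit 96223)))) (Tr.nd (nat_lit 96259) (Tr.lf (nat_lit 96233)) (Tr.nd (nat_lit 96263) (Tr.lf (nat_lit 96259)) (Tr.lf (nat_lit 96263)))))))) (Tr.nd (nat_lit 96517) (Tr.nd (nat_lit 96419) (Tr.nd (nat_lit 96329) (Tr.nd (nat_lit 96289) (Tr.nd (nat_lit 96281) (Tr.lf (nat_lit 96269)) (Tr.lf (nat_lit 96281))) (Tr.nd (nat_lit 96293) (Tr.lf (nat_lit 96289)) (Tr.nd (nat_lit 96323) (Tr.lf (nat_lit 96293)) (Tr.lf (nat_lit 96323))))) (Tr.nd (nat_lit 96353) (Tr.nd (nat_lit 96331) (Tr.lf (nat_lit 96329)) (Tr.nd (nat_lit 96337) (Tr.lf (nat_lit 96331)) (Tr.lf (nat_lit 96337)))) (Tr.nd (nat_lit 96377) (Tr.lf (nat_lit 96353)) (Tr.nd (nat_lit 96401) (Tr.lf (nat_lit 96377)) (Tr.lf (nat_lit 96401)))))) (Tr.nd (nat_lit 96461) (Tr.nd (nat_lit 96443) (Tr.nd (nat_lit 96431) (Tr.lf (nat_lit 96419)) (Tr.lf (nat_lit 96431))) (Tr.nd (nat_lit 96451) (Tr.lf (nat_lit 96443)) (Tr.nd (nat_lit 96457) (Tr.lf (nat_lit 96451)) (Tr.lf (nat_lit 96457))))) (Tr.nd (nat_lit 96487) (Tr.nd (nat_lit 96469) (Tr.lf (nat_lit 96461)) (Tr.nd (nat_lit 96479) (Tr.lf (nat_lit 96469)) (Tr.lf (nat_lit 96479)))) (Tr.nd (nat_lit 96493) (Tr.lf (nat_lit 96487)) (Tr.nd (nat_lit 96497) (Tr.lf (nat_lit 96493)) (Tr.lf (nat_lit 96497))))))) (Tr.nd (nat_lit 96731) (Tr.nd (nat_lit 96643) (Tr.nd (nat_lit 96557) (Tr.nd (nat_lit 96527) (Tr.lf (nat_lit 96517)) (Tr.lf (nat_lit 96527))) (Tr.nd (nat_lit 96589) (Tr.lf (nat_lit 96557)) (Tr.nd (nat_lit 96601) (Tr.lf (nat_lit 96589)) (Tr.lf (nat_lit 96601))))) (Tr.nd (nat_lit 96671) (Tr.nd (nat_lit 96661) (Tr.lf (nat_lit 96643)) (Tr.nd (nat_lit 96667) (Tr.lf (nat_lit 96661)) (Tr.lf (nat_lit 96667)))) (Tr.nd (nat_lit 96697) (Tr.lf (nat_lit 96671)) (Tr.nd (nat_lit 96703) (Tr.lf (nat_lit 96697)) (Tr.lf (nat_lit 96703)))))) (Tr.nd (nat_lit 96779) (Tr.nd (nat_lit 96749) (Tr.nd (nat_lit 96737) (Tr.lf (nat_lit 96731)) (Tr.lf (nat_lit 96737))) (Tr.nd (nat_lit 96757) (Tr.lf (nat_lit 96749)) (Tr.nd (nat_lit 96769) (Tr.lf (nat_lit 96757)) (Tr.lf (nat_lit 96769))))) (Tr.nd (nat_lit 96799) (Tr.nd (nat_lit 96787) (Tr.lf (nat_lit 96779)) (Tr.nd (nat_lit 96797) (Tr.lf (nat_lit 96787)) (Tr.lf (nat_lit 96797)))) (Tr.nd (nat_lit 96821) (Tr.lf (nat_lit 96799)) (Tr.nd (nat_lit 96823) (Tr.lf (nat_lit 96821)) (Tr.lf (nat_lit 96823)))))))))))) (Tr.nd (nat_lit 101197) (Tr.nd (nat_lit 99041) (Tr.nd (nat_lit 97943) (Tr.nd (nat_lit 97387) (Tr.nd (nat_lit 97117) (Tr.nd (nat_lit 96979) (Tr.nd (nat_lit 96907) (Tr.nd (nat_lit 96851) (Tr.nd (nat_lit 96847) (Tr.lf (nat_lit 96827)) (Tr.lf (nat_lit 96847))) (Tr.nd (nat_lit 96857) (Tr.lf (nat_lit 96851)) (Tr.nd (nat_lit 96893) (Tr.lf (nat_lit 96857)) (Tr.lf (nat_lit 96893))))) (Tr.nd (nat_lit 96953) (Tr.nd (nat_lit 96911) (Tr.lf (nat_lit 96907)) (Tr.nd (nat_lit 96931) (Tr.lf (nat_lit 96911)) (Tr.lf (nat_lit 96931)))) (Tr.nd (nat_lit 96959) (Tr.lf (nat_lit 96953)) (Tr.nd (nat_lit 96973) (Tr.lf (nat_lit 96959)) (Tr.lf (nat_lit 96973)))))) (Tr.nd (nat_lit 97007) (Tr.nd (nat_lit 96997) (Tr.nd (nat_lit 96989) (Tr.lf (nat_lit 96979)) (Tr.lf (nat_lit 96989))) (Tr.nd (nat_lit 97001) (Tr.lf (nat_lit 96997)) (Tr.nd (nat_lit 97003) (Tr.lf (nat_lit 97001)) (Tr.lf (nat_lit 97003))))) (Tr.nd (nat_lit 97073) (Tr.nd (nat_lit 97021) (Tr.lf (nat_lit 97007)) (Tr.nd (nat_lit 97039) (Tr.lf (nat_lit 97021)) (Tr.lf (nat_lit 97039)))) (Tr.nd (nat_lit 97081) (Tr.lf (nat_lit 97073)) (Tr.nd (nat_lit 97103) (Tr.lf (nat_lit 97081)) (Tr.lf (nat_lit 97103))))))) (Tr.nd (nat_lit 97241) (Tr.nd (nat_lit 97169) (Tr.nd (nat_lit 97151) (Tr.nd (nat_lit 97127) (Tr.lf (nat_lit 97117)) (Tr.lf (nat_lit 97127))) (Tr.nd (nat_lit 97157) (Tr.lf (nat_lit 97151)) (Tr.nd (nat_lit 97159) (Tr.lf (nat_lit 97157)) (Tr.lf (nat_lit 97159))))) (Tr.nd (nat_lit 97187) (Tr.nd (nat_lit 97171) (Tr.lf (nat_lit 97169)) (Tr.nd (nat_lit 97177) (Tr.lf (nat_lit 97171)) (Tr.lf (nat_lit 97177)))) (Tr.nd (nat_lit 97213) (Tr.lf (nat_lit 97187)) (Tr.nd (nat_lit 97231) (Tr.lf (nat_lit 97213)) (Tr.lf (nat_lit 97231)))))) (Tr.nd (nat_lit 97327) (Tr.nd (nat_lit 97283) (Tr.nd (nat_lit 97259) (Tr.lf (nat_lit 97241)) (Tr.lf (nat_lit 97259))) (Tr.nd (nat_lit 97301) (Tr.lf (nat_lit 97283)) (Tr.nd (nat_lit 97303) (Tr.lf (nat_lit 97301)) (Tr.lf (nat_lit 97303))))) (Tr.nd (nat_lit 97373) (Tr.nd (nat_lit 97367) (Tr.lf (nat_lit 97327)) (Tr.nd (nat_lit 97369) (Tr.lf (nat_lit 97367)) (Tr.lf (nat_lit 97369)))) (Tr.nd (nat_lit 97379) (Tr.lf (nat_lit 97373)) (Tr.nd (nat_lit 97381) (Tr.lf (nat_lit 97379)) (Tr.lf (nat_lit 97381)))))))) (Tr.nd (nat_lit 97613) (Tr.nd (nat_lit 97523) (Tr.nd (nat_lit 97453) (Tr.nd (nat_lit 97423) (Tr.nd (nat_lit 97397) (Tr.lf (nat_lit 97387)) (Tr.lf (nat_lit 97397))) (Tr.nd (nat_lit 97429) (Tr.lf (nat_lit 97423)) (Tr.nd (nat_lit 97441) (Tr.lf (nat_lit 97429)) (Tr.lf (nat_lit 97441))))) (Tr.nd (nat_lit 97499) (Tr.nd (nat_lit 97459) (Tr.lf (nat_lit 97453)) (Tr.nd (nat_lit 97463) (Tr.lf (nat_lit 97459)) (Tr.lf (nat_lit 97463)))) (Tr.nd (nat_lit 97501) (Tr.lf (nat_lit 97499)) (Tr.nd (nat_lit 97511) (Tr.lf (nat_lit 97501)) (Tr.lf (nat_lit 97511)))))) (Tr.nd (nat_lit 97571) (Tr.nd (nat_lit 97549) (Tr.nd (nat_lit 97547) (Tr.lf (nat_lit 97523)) (Tr.lf (nat_lit 97547))) (Tr.nd (nat_lit 97553) (Tr.lf (nat_lit 97549)) (Tr.nd (nat_lit 97561) (Tr.lf (nat_lit 97553)) (Tr.lf (nat_lit 97561))))) (Tr.nd (nat_lit 97583) (Tr.nd (nat_lit 97577) (Tr.lf (nat_lit 97571)) (Tr.nd (nat_lit 97579) (Tr.lf (nat_lit 97577)) (Tr.lf (nat_lit 97579)))) (Tr.nd (nat_lit 97607) (Tr.lf (nat_lit 97583)) (Tr.nd (nat_lit 97609) (Tr.lf (nat_lit 97607)) (Tr.lf (nat_lit 97609))))))) (Tr.nd (nat_lit 97843) (Tr.nd (nat_lit 97711) (Tr.nd (nat_lit 97651) (Tr.nd (nat_lit 97649) (Tr.lf (nat_lit 97613)) (Tr.lf (nat_lit 97649))) (Tr.nd (nat_lit 97673) (Tr.lf (nat_lit 97651)) (Tr.nd (nat_lit 97687) (Tr.lf (nat_lit 97673)) (Tr.lf (nat_lit 97687))))) (Tr.nd (nat_lit 97777) (Tr.nd (nat_lit 97729) (Tr.lf (nat_lit 97711)) (Tr.nd (nat_lit 97771) (Tr.lf (nat_lit 97729)) (Tr.lf (nat_lit 97771)))) (Tr.nd (nat_lit 97829) (Tr.lf (nat_lit 97777)) (Tr.nd (nat_lit 97841) (Tr.lf (nat_lit 97829)) (Tr.lf (nat_lit 97841)))))) (Tr.nd (nat_lit 97871) (Tr.nd (nat_lit 97849) (Tr.nd (nat_lit 97847) (Tr.lf (nat_lit 97843)) (Tr.lf (nat_lit 97847))) (Tr.nd (nat_lit 97859) (Tr.lf (nat_lit 97849)) (Tr.nd (nat_lit 97861) (Tr.lf (nat_lit 97859)) (Tr.lf (nat_lit 97861))))) (Tr.nd (nat_lit 97919) (Tr.nd (nat_lit 97879) (Tr.lf (nat_lit 97871)) (Tr.nd (nat_lit 97883) (Tr.lf (nat_lit 97879)) (Tr.lf (nat_lit 97883)))) (Tr.nd (nat_lit 97927) (Tr.lf (nat_lit 97919)) (Tr.nd (nat_lit 97931) (Tr.lf (nat_lit 97927)) (Tr.lf (nat_lit 97931))))))))) (Tr.nd (nat_lit 98519) (Tr.nd (nat_lit 98299) (Tr.nd (nat_lit 98129) (Tr.nd (nat_lit 98041) (Tr.nd (nat_lit 97987) (Tr.nd (nat_lit 97961) (Tr.lf (nat_lit 97943)) (Tr.lf (nat_lit 97961))) (Tr.nd (nat_lit 98009) (Tr.lf (nat_lit 97987)) (Tr.nd (nat_lit 98017) (Tr.lf (nat_lit 98009)) (Tr.lf (nat_lit 98017))))) (Tr.nd (nat_lit 98081) (Tr.nd (nat_lit 98047) (Tr.lf (nat_lit 98041)) (Tr.nd (nat_lit 98057) (Tr.lf (nat_lit 98047)) (Tr.lf (nat_lit 98057)))) (Tr.nd (nat_lit 98101) (Tr.lf (nat_lit 98081)) (Tr.nd (nat_lit 98123) (Tr.lf (nat_lit 98101)) (Tr.lf (nat_lit 98123)))))) (Tr.nd (nat_lit 98221) (Tr.nd (nat_lit 98179) (Tr.nd (nat_lit 98143) (Tr.lf (nat_lit 98129)) (Tr.lf (nat_lit 98143))) (Tr.nd (nat_lit 98207) (Tr.lf (nat_lit 98179)) (Tr.nd (nat_lit 98213) (Tr.lf (nat_lit 98207)) (Tr.lf (nat_lit 98213))))) (Tr.nd (nat_lit 98257) (Tr.nd (nat_lit 98227) (Tr.lf (nat_lit 98221)) (Tr.nd (nat_lit 98251) (Tr.lf (nat_lit 98227)) (Tr.lf (nat_lit 98251)))) (Tr.nd (nat_lit 98269) (Tr.lf (nat_lit 98257)) (Tr.nd (nat_lit 98297) (Tr.lf (nat_lit 98269)) (Tr.lf (nat_lit 98297))))))) (Tr.nd (nat_lit 98411) (Tr.nd (nat_lit 98347) (Tr.nd (nat_lit 98321) (Tr.nd (nat_lit 98317) (Tr.lf (nat_lit 98299)) (Tr.lf (nat_lit 98317))) (Tr.nd (nat_lit 98323) (Tr.lf (nat_lit 98321)) (Tr.nd (nat_lit 98327) (Tr.lf (nat_lit 98323)) (Tr.lf (nat_lit 98327))))) (Tr.nd (nat_lit 98387) (Tr.nd (nat_lit 98369) (Tr.lf (nat_lit 98347)) (Tr.nd (nat_lit 98377) (Tr.lf (nat_lit 98369)) (Tr.lf (nat_lit 98377)))) (Tr.nd (nat_lit 98389) (Tr.lf (nat_lit 98387)) (Tr.nd (nat_lit 98407) (Tr.lf (nat_lit 98389)) (Tr.lf (nat_lit 98407)))))) (Tr.nd (nat_lit 98459) (Tr.nd (nat_lit 98429) (Tr.nd (nat_lit 98419) (Tr.lf (nat_lit 98411)) (Tr.lf (nat_lit 98419))) (Tr.nd (nat_lit 98443) (Tr.lf (nat_lit 98429)) (Tr.nd (nat_lit 98453) (Tr.lf (nat_lit 98443)) (Tr.lf (nat_lit 98453))))) (Tr.nd (nat_lit 98479) (Tr.nd (nat_lit 98467) (Tr.lf (nat_lit 98459)) (Tr.nd (nat_lit 98473) (Tr.lf (nat_lit 98467)) (Tr.lf (nat_lit 98473)))) (Tr.nd (nat_lit 98491) (Tr.lf (nat_lit 98479)) (Tr.nd (nat_lit 98507) (Tr.lf (nat_lit 98491)) (Tr.lf (nat_lit 98507)))))))) (Tr.nd (nat_lit 98849) (Tr.nd (nat_lit 98663) (Tr.nd (nat_lit 98573) (Tr.nd (nat_lit 98543) (Tr.nd (nat_lit 98533) (Tr.lf (nat_lit 98519)) (Tr.lf (nat_lit 98533))) (Tr.nd (nat_lit 98561) (Tr.lf (nat_lit 98543)) (Tr.nd (nat_lit 98563) (Tr.lf (nat_lit 98561)) (Tr.lf (nat_lit 98563))))) (Tr.nd (nat_lit 98627) (Tr.nd (nat_lit 98597) (Tr.lf (nat_lit 98573)) (Tr.nd (nat_lit 98621) (Tr.lf (nat_lit 98597)) (Tr.lf (nat_lit 98621)))) (Tr.nd (nat_lit 98639) (Tr.lf (nat_lit 98627)) (Tr.nd (nat_lit 98641) (Tr.lf (nat_lit 98639)) (Tr.lf (nat_lit 98641)))))) (Tr.nd (nat_lit 98717) (Tr.nd (nat_lit 98689) (Tr.nd (nat_lit 98669) (Tr.lf (nat_lit 98663)) (Tr.lf (nat_lit 98669))) (Tr.nd (nat_lit 98711) (Tr.lf (nat_lit 98689)) (Tr.nd (nat_lit 98713) (Tr.lf (nat_lit 98711)) (Tr.lf (nat_lit 98713))))) (Tr.nd (nat_lit 98801) (Tr.nd (nat_lit 98729) (Tr.lf (nat_lit 98717)) (Tr.nd (nat_lit 98773) (Tr.lf (nat_lit 98729)) (Tr.lf (nat_lit 98773)))) (Tr.nd (nat_lit 98807) (Tr.lf (nat_lit 98801)) (Tr.nd (nat_lit 98837) (Tr.lf (nat_lit 98807)) (Tr.lf (nat_lit 98837))))))) (Tr.nd (nat_lit 98929) (Tr.nd (nat_lit 98893) (Tr.nd (nat_lit 98869) (Tr.nd (nat_lit 98867) (Tr.lf (nat_lit 98849)) (Tr.lf (nat_lit 98867))) (Tr.nd (nat_lit 98873) (Tr.lf (nat_lit 98869)) (Tr.nd (nat_lit 98887) (Tr.lf (nat_lit 98873)) (Tr.lf (nat_lit 98887))))) (Tr.nd (nat_lit 98909) (Tr.nd (nat_lit 98897) (Tr.lf (nat_lit 98893)) (Tr.nd (nat_lit 98899) (Tr.lf (nat_lit 98897)) (Tr.lf (nat_lit 98899)))) (Tr.nd (nat_lit 98911) (Tr.lf (nat_lit 98909)) (Tr.nd (nat_lit 98927) (Tr.lf (nat_lit 98911)) (Tr.lf (nat_lit 98927)))))) (Tr.nd (nat_lit 98981) (Tr.nd (nat_lit 98947) (Tr.nd (nat_lit 98939) (Tr.lf (nat_lit 98929)) (Tr.lf (nat_lit 98939))) (Tr.nd (nat_lit 98953) (Tr.lf (nat_lit 98947)) (Tr.nd (nat_lit 98963) (Tr.lf (nat_lit 98953)) (Tr.lf (nat_lit 98963))))) (Tr.nd (nat_lit 99013) (Tr.nd (nat_lit 98993) (Tr.lf (nat_lit 98981)) (Tr.nd (nat_lit 98999) (Tr.lf (nat_lit 98993)) (Tr.lf (nat_lit 98999)))) (Tr.nd (nat_lit 99017) (Tr.lf (nat_lit 99013)) (Tr.nd (nat_lit 99023) (Tr.lf (nat_lit 99017)) (Tr.lf (nat_lit 99023)))))))))) (Tr.nd (nat_lit 100103) (Tr.nd (nat_lit 99577) (Tr.nd (nat_lit 99277) (Tr.nd (nat_lit 99139) (Tr.nd (nat_lit 99103) (Tr.nd (nat_lit 99079) (Tr.nd (nat_lit 99053) (Tr.lf (nat_lit 99041)) (Tr.lf (nat_lit 99053))) (Tr.nd (nat_lit 99083) (Tr.lf (nat_lit 99079)) (Tr.nd (nat_lit 99089) (Tr.lf (nat_lit 99083)) (Tr.lf (nat_lit 99089))))) (Tr.nd (nat_lit 99131) (Tr.nd (nat_lit 99109) (Tr.lf (nat_lit 99103)) (Tr.nd (nat_lit 99119) (Tr.lf (nat_lit 99109)) (Tr.lf (nat_lit 99119)))) (Tr.nd (nat_lit 99133) (Tr.lf (nat_lit 99131)) (Tr.nd (nat_lit 99137) (Tr.lf (nat_lit 99133)) (Tr.lf (nat_lit 99137)))))) (Tr.nd (nat_lit 99223) (Tr.nd (nat_lit 99173) (Tr.nd (nat_lit 99149) (Tr.lf (nat_lit 99139)) (Tr.lf (nat_lit 99149))) (Tr.nd (nat_lit 99181) (Tr.lf (nat_lit 99173)) (Tr.nd (nat_lit 99191) (Tr.lf (nat_lit 99181)) (Tr.lf (nat_lit 99191))))) (Tr.nd (nat_lit 99251) (Tr.nd (nat_lit 99233) (Tr.lf (nat_lit 99223)) (Tr.nd (nat_lit 99241) (Tr.lf (nat_lit 99233)) (Tr.lf (nat_lit 99241)))) (Tr.nd (nat_lit 99257) (Tr.lf (nat_lit 99251)) (Tr.nd (nat_lit 99259) (Tr.lf (nat_lit 99257)) (Tr.lf (nat_lit 99259))))))) (Tr.nd (nat_lit 99409) (Tr.nd (nat_lit 99367) (Tr.nd (nat_lit 99317) (Tr.nd (nat_lit 99289) (Tr.lf (nat_lit 99277)) (Tr.lf (nat_lit 99289))) (Tr.nd (nat_lit 99347) (Tr.lf (nat_lit 99317)) (Tr.nd (nat_lit 99349) (Tr.lf (nat_lit 99347)) (Tr.lf (nat_lit 99349))))) (Tr.nd (nat_lit 99391) (Tr.nd (nat_lit 99371) (Tr.lf (nat_lit 99367)) (Tr.nd (nat_lit 99377) (Tr.lf (nat_lit 99371)) (Tr.lf (nat_lit 99377)))) (Tr.nd (nat_lit 99397) (Tr.lf (nat_lit 99391)) (Tr.nd (nat_lit 99401) (Tr.lf (nat_lit 99397)) (Tr.lf (nat_lit 99401)))))) (Tr.nd (nat_lit 99523) (Tr.nd (nat_lit 99439) (Tr.nd (nat_lit 99431) (Tr.lf (nat_lit 99409)) (Tr.lf (nat_lit 99431))) (Tr.nd (nat_lit 99469) (Tr.lf (nat_lit 99439)) (Tr.nd (nat_lit 99487) (Tr.lf (nat_lit 99469)) (Tr.lf (nat_lit 99487))))) (Tr.nd (nat_lit 99559) (Tr.nd (nat_lit 99529) (Tr.lf (nat_lit 99523)) (Tr.nd (nat_lit 99551) (Tr.lf (nat_lit 99529)) (Tr.lf (nat_lit 99551)))) (Tr.nd (nat_lit 99563) (Tr.lf (nat_lit 99559)) (Tr.nd (nat_lit 99571) (Tr.lf (nat_lit 99563)) (Tr.lf (nat_lit 99571)))))))) (Tr.nd (nat_lit 99823) (Tr.nd (nat_lit 99709) (Tr.nd (nat_lit 99643) (Tr.nd (nat_lit 99607) (Tr.nd (nat_lit 99581) (Tr.lf (nat_lit 99577)) (Tr.lf (nat_lit 99581))) (Tr.nd (nat_lit 99611) (Tr.lf (nat_lit 99607)) (Tr.nd (nat_lit 99623) (Tr.lf (nat_lit 99611)) (Tr.lf (nat_lit 99623))))) (Tr.nd (nat_lit 99679) (Tr.nd (nat_lit 99661) (Tr.lf (nat_lit 99643)) (Tr.nd (nat_lit 99667) (Tr.lf (nat_lit 99661)) (Tr.lf (nat_lit 99667)))) (Tr.nd (nat_lit 99689) (Tr.lf (nat_lit 99679)) (Tr.nd (nat_lit 99707) (Tr.lf (nat_lit 99689)) (Tr.lf (nat_lit 99707)))))) (Tr.nd (nat_lit 99761) (Tr.nd (nat_lit 99719) (Tr.nd (nat_lit 99713) (Tr.lf (nat_lit 99709)) (Tr.lf (nat_lit 99713))) (Tr.nd (nat_lit 99721) (Tr.lf (nat_lit 99719)) (Tr.nd (nat_lit 99733) (Tr.lf (nat_lit 99721)) (Tr.lf (nat_lit 99733))))) (Tr.nd (nat_lit 99793) (Tr.nd (nat_lit 99767) (Tr.lf (nat_lit 99761)) (Tr.nd (nat_lit 99787) (Tr.lf (nat_lit 99767)) (Tr.lf (nat_lit 99787)))) (Tr.nd (nat_lit 99809) (Tr.lf (nat_lit 99793)) (Tr.nd (nat_lit 99817) (Tr.lf (nat_lit 99809)) (Tr.lf (nat_lit 99817))))))) (Tr.nd (nat_lit 99929) (Tr.nd (nat_lit 99871) (Tr.nd (nat_lit 99833) (Tr.nd (nat_lit 99829) (Tr.lf (nat_lit 99823)) (Tr.lf (nat_lit 99829))) (Tr.nd (nat_lit 99839) (Tr.lf (nat_lit 99833)) (Tr.nd (nat_lit 99859) (Tr.lf (nat_lit 99839)) (Tr.lf (nat_lit 99859))))) (Tr.nd (nat_lit 99901) (Tr.nd (nat_lit 99877) (Tr.lf (nat_lit 99871)) (Tr.nd (nat_lit 99881) (Tr.lf (nat_lit 99877)) (Tr.lf (nat_lit 99881)))) (Tr.nd (nat_lit 99907) (Tr.lf (nat_lit 99901)) (Tr.nd (nat_lit 99923) (Tr.lf (nat_lit 99907)) (Tr.lf (nat_lit 99923)))))) (Tr.nd (nat_lit 100003) (Tr.nd (nat_lit 99971) (Tr.nd (nat_lit 99961) (Tr.lf (nat_lit 99929)) (Tr.lf (nat_lit 99961))) (Tr.nd (nat_lit 99989) (Tr.lf (nat_lit 99971)) (Tr.nd (nat_lit 99991) (Tr.lf (nat_lit 99989)) (Tr.lf (nat_lit 99991))))) (Tr.nd (nat_lit 100049) (Tr.nd (nat_lit 100019) (Tr.lf (nat_lit 100003)) (Tr.nd (nat_lit 100043) (Tr.lf (nat_lit 100019)) (Tr.lf (nat_lit 100043)))) (Tr.nd (nat_lit 100057) (Tr.lf (nat_lit 100049)) (Tr.nd (nat_lit 100069) (Tr.lf (nat_lit 100057)) (Tr.lf (nat_lit 100069))))))))) (Tr.nd (nat_lit 100673) (Tr.nd (nat_lit 100363) (Tr.nd (nat_lit 100237) (Tr.nd (nat_lit 100169) (Tr.nd (nat_lit 100129) (Tr.nd (nat_lit 100109) (Tr.lf (nat_lit 100103)) (Tr.lf (nat_lit 100109))) (Tr.nd (nat_lit 100151) (Tr.lf (nat_lit 100129)) (Tr.nd (nat_lit 100153) (Tr.lf (nat_lit 100151)) (Tr.lf (nat_lit 100153))))) (Tr.nd (nat_lit 100193) (Tr.nd (nat_lit 100183) (Tr.lf (nat_lit 100169)) (Tr.nd (nat_lit 100189) (Tr.lf (nat_lit 100183)) (Tr.lf (nat_lit 100189)))) (Tr.nd (nat_lit 100207) (Tr.lf (nat_lit 100193)) (Tr.nd (nat_lit 100213) (Tr.lf (nat_lit 100207)) (Tr.lf (nat_lit 100213)))))) (Tr.nd (nat_lit 100297) (Tr.nd (nat_lit 100271) (Tr.nd (nat_lit 100267) (Tr.lf (nat_lit 100237)) (Tr.lf (nat_lit 100267))) (Tr.nd (nat_lit 100279) (Tr.lf (nat_lit 100271)) (Tr.nd (nat_lit 100291) (Tr.lf (nat_lit 100279)) (Tr.lf (nat_lit 100291))))) (Tr.nd (nat_lit 100343) (Tr.nd (nat_lit 100313) (Tr.lf (nat_lit 100297)) (Tr.nd (nat_lit 100333) (Tr.lf (nat_lit 100313)) (Tr.lf (nat_lit 100333)))) (Tr.nd (nat_lit 100357) (Tr.lf (nat_lit 100343)) (Tr.nd (nat_lit 100361) (Tr.lf (nat_lit 100357)) (Tr.lf (nat_lit 100361))))))) (Tr.nd (nat_lit 100517) (Tr.nd (nat_lit 100411) (Tr.nd (nat_lit 100391) (Tr.nd (nat_lit 100379) (Tr.lf (nat_lit 100363)) (Tr.lf (nat_lit 100379))) (Tr.nd (nat_lit 100393) (Tr.lf (nat_lit 100391)) (Tr.nd (nat_lit 100403) (Tr.lf (nat_lit 100393)) (Tr.lf (nat_lit 100403))))) (Tr.nd (nat_lit 100493) (Tr.nd (nat_lit 100417) (Tr.lf (nat_lit 100411)) (Tr.nd (nat_lit 100483) (Tr.lf (nat_lit 100417)) (Tr.lf (nat_lit 100483)))) (Tr.nd (nat_lit 100501) (Tr.lf (nat_lit 100493)) (Tr.nd (nat_lit 100511) (Tr.lf (nat_lit 100501)) (Tr.lf (nat_lit 100511)))))) (Tr.nd (nat_lit 100549) (Tr.nd (nat_lit 100523) (Tr.nd (nat_lit 100519) (Tr.lf (nat_lit 100517)) (Tr.lf (nat_lit 100519))) (Tr.nd (nat_lit 100537) (Tr.lf (nat_lit 100523)) (Tr.nd (nat_lit 100547) (Tr.lf (nat_lit 100537)) (Tr.lf (nat_lit 100547))))) (Tr.nd (nat_lit 100613) (Tr.nd (nat_lit 100559) (Tr.lf (nat_lit 100549)) (Tr.nd (nat_lit 100591) (Tr.lf (nat_lit 100559)) (Tr.lf (nat_lit 100591)))) (Tr.nd (nat_lit 100621) (Tr.lf (nat_lit 100613)) (Tr.nd (nat_lit 100669) (Tr.lf (nat_lit 100621)) (Tr.lf (nat_lit 100669)))))))) (Tr.nd (nat_lit 100957) (Tr.nd (nat_lit 100811) (Tr.nd (nat_lit 100741) (Tr.nd (nat_lit 100699) (Tr.nd (nat_lit 100693) (Tr.lf (nat_lit 100673)) (Tr.lf (nat_lit 100693))) (Tr.nd (nat_lit 100703) (Tr.lf (nat_lit 100699)) (Tr.nd (nat_lit 100733) (Tr.lf (nat_lit 100703)) (Tr.lf (nat_lit 100733))))) (Tr.nd (nat_lit 100787) (Tr.nd (nat_lit 100747) (Tr.lf (nat_lit 100741)) (Tr.nd (nat_lit 100769) (Tr.lf (nat_lit 100747)) (Tr.lf (nat_lit 100769)))) (Tr.nd (nat_lit 100799) (Tr.lf (nat_lit 100787)) (Tr.nd (nat_lit 100801) (Tr.lf (nat_lit 100799)) (Tr.lf (nat_lit 100801)))))) (Tr.nd (nat_lit 100907) (Tr.nd (nat_lit 100829) (Tr.nd (nat_lit 100823) (Tr.lf (nat_lit 100811)) (Tr.lf (nat_lit 100823))) (Tr.nd (nat_lit 100847) (Tr.lf (nat_lit 100829)) (Tr.nd (nat_lit 100853) (Tr.lf (nat_lit 100847)) (Tr.lf (nat_lit 100853))))) (Tr.nd (nat_lit 100931) (Tr.nd (nat_lit 100913) (Tr.lf (nat_lit 100907)) (Tr.nd (nat_lit 100927) (Tr.lf (nat_lit 100913)) (Tr.lf (nat_lit 100927)))) (Tr.nd (nat_lit 100937) (Tr.lf (nat_lit 100931)) (Tr.nd (nat_lit 100943) (Tr.lf (nat_lit 100937)) (Tr.lf (nat_lit 100943))))))) (Tr.nd (nat_lit 101107) (Tr.nd (nat_lit 101021) (Tr.nd (nat_lit 100987) (Tr.nd (nat_lit 100981) (Tr.lf (nat_lit 100957)) (Tr.lf (nat_lit 100981))) (Tr.nd (nat_lit 100999) (Tr.lf (nat_lit 100987)) (Tr.nd (nat_lit 101009) (Tr.lf (nat_lit 100999)) (Tr.lf (nat_lit 101009))))) (Tr.nd (nat_lit 101063) (Tr.nd (nat_lit 101027) (Tr.lf (nat_lit 101021)) (Tr.nd (nat_lit 101051) (Tr.lf (nat_lit 101027)) (Tr.lf (nat_lit 101051)))) (Tr.nd (nat_lit 101081) (Tr.lf (nat_lit 101063)) (Tr.nd (nat_lit 101089) (Tr.lf (nat_lit 101081)) (Tr.lf (nat_lit 101089)))))) (Tr.nd (nat_lit 101141) (Tr.nd (nat_lit 101113) (Tr.nd (nat_lit 101111) (Tr.lf (nat_lit 101107)) (Tr.lf (nat_lit 101111))) (Tr.nd (nat_lit 101117) (Tr.lf (nat_lit 101113)) (Tr.nd (nat_lit 101119) (Tr.lf (nat_lit 101117)) (Tr.lf (nat_lit 101119))))) (Tr.nd (nat_lit 101161) (Tr.nd (nat_lit 101149) (Tr.lf (nat_lit 101141)) (Tr.nd (nat_lit 101159) (Tr.lf (nat_lit 101149)) (Tr.lf (nat_lit 101159)))) (Tr.nd (nat_lit 101173) (Tr.lf (nat_lit 101161)) (Tr.nd (nat_lit 101183) (Tr.lf (nat_lit 101173)) (Tr.lf (nat_lit 101183))))))))))) (Tr.nd (nat_lit 103307) (Tr.nd (nat_lit 102149) (Tr.nd (nat_lit 101693) (Tr.nd (nat_lit 101467) (Tr.nd (nat_lit 101333) (Tr.nd (nat_lit 101267) (Tr.nd (nat_lit 101207) (Tr.nd (nat_lit 101203) (Tr.lf (nat_lit 101197)) (Tr.lf (nat_lit 101203))) (Tr.nd (nat_lit 101209) (Tr.lf (nat_lit 101207)) (Tr.nd (nat_lit 101221) (Tr.lf (nat_lit 101209)) (Tr.lf (nat_lit 101221))))) (Tr.nd (nat_lit 101281) (Tr.nd (nat_lit 101273) (Tr.lf (nat_lit 101267)) (Tr.nd (nat_lit 101279) (Tr.lf (nat_lit 101273)) (Tr.lf (nat_lit 101279)))) (Tr.nd (nat_lit 101287) (Tr.lf (nat_lit 101281)) (Tr.nd (nat_lit 101293) (Tr.lf (nat_lit 101287)) (Tr.lf (nat_lit 101293)))))) (Tr.nd (nat_lit 101383) (Tr.nd (nat_lit 101359) (Tr.nd (nat_lit 101341) (Tr.lf (nat_lit 101333)) (Tr.lf (nat_lit 101341))) (Tr.nd (nat_lit 101363) (Tr.lf (nat_lit 101359)) (Tr.nd (nat_lit 101377) (Tr.lf (nat_lit 101363)) (Tr.lf (nat_lit 101377))))) (Tr.nd (nat_lit 101419) (Tr.nd (nat_lit 101399) (Tr.lf (nat_lit 101383)) (Tr.nd (nat_lit 101411) (Tr.lf (nat_lit 101399)) (Tr.lf (nat_lit 101411)))) (Tr.nd (nat_lit 101429) (Tr.lf (nat_lit 101419)) (Tr.nd (nat_lit 101449) (Tr.lf (nat_lit 101429)) (Tr.lf (nat_lit 101449))))))) (Tr.nd (nat_lit 101561) (Tr.nd (nat_lit 101503) (Tr.nd (nat_lit 101483) (Tr.nd (nat_lit 101477) (Tr.lf (nat_lit 101467)) (Tr.lf (nat_lit 101477))) (Tr.nd (nat_lit 101489) (Tr.lf (nat_lit 101483)) (Tr.nd (nat_lit 101501) (Tr.lf (nat_lit 101489)) (Tr.lf (nat_lit 101501))))) (Tr.nd (nat_lit 101531) (Tr.nd (nat_lit 101513) (Tr.lf (nat_lit 101503)) (Tr.nd (nat_lit 101527) (Tr.lf (nat_lit 101513)) (Tr.lf (nat_lit 101527)))) (Tr.nd (nat_lit 101533) (Tr.lf (nat_lit 101531)) (Tr.nd (nat_lit 101537) (Tr.lf (nat_lit 101533)) (Tr.lf (nat_lit 101537)))))) (Tr.nd (nat_lit 101611) (Tr.nd (nat_lit 101581) (Tr.nd (nat_lit 101573) (Tr.lf (nat_lit 101561)) (Tr.lf (nat_lit 101573))) (Tr.nd (nat_lit 101599) (Tr.lf (nat_lit 101581)) (Tr.nd (nat_lit 101603) (Tr.lf (nat_lit 101599)) (Tr.lf (nat_lit 101603))))) (Tr.nd (nat_lit 101653) (Tr.nd (nat_lit 101627) (Tr.lf (nat_lit 101611)) (Tr.nd (nat_lit 101641) (Tr.lf (nat_lit 101627)) (Tr.lf (nat_lit 101641)))) (Tr.nd (nat_lit 101663) (Tr.lf (nat_lit 101653)) (Tr.nd (nat_lit 101681) (Tr.lf (nat_lit 101663)) (Tr.lf (nat_lit 101681)))))))) (Tr.nd (nat_lit 101939) (Tr.nd (nat_lit 101807) (Tr.nd (nat_lit 101741) (Tr.nd (nat_lit 101719) (Tr.nd (nat_lit 101701) (Tr.lf (nat_lit 101693)) (Tr.lf (nat_lit 101701))) (Tr.nd (nat_lit 101723) (Tr.lf (nat_lit 101719)) (Tr.nd (nat_lit 101737) (Tr.lf (nat_lit 101723)) (Tr.lf (nat_lit 101737))))) (Tr.nd (nat_lit 101771) (Tr.nd (nat_lit 101747) (Tr.lf (nat_lit 101741)) (Tr.nd (nat_lit 101749) (Tr.lf (nat_lit 101747)) (Tr.lf (nat_lit 101749)))) (Tr.nd (nat_lit 101789) (Tr.lf (nat_lit 101771)) (Tr.nd (nat_lit 101797) (Tr.lf (nat_lit 101789)) (Tr.lf (nat_lit 101797)))))) (Tr.nd (nat_lit 101869) (Tr.nd (nat_lit 101837) (Tr.nd (nat_lit 101833) (Tr.lf (nat_lit 101807)) (Tr.lf (nat_lit 101833))) (Tr.nd (nat_lit 101839) (Tr.lf (nat_lit 101837)) (Tr.nd (nat_lit 101863) (Tr.lf (nat_lit 101839)) (Tr.lf (nat_lit 101863))))) (Tr.nd (nat_lit 101891) (Tr.nd (nat_lit 101873) (Tr.lf (nat_lit 101869)) (Tr.nd (nat_lit 101879) (Tr.lf (nat_lit 101873)) (Tr.lf (nat_lit 101879)))) (Tr.nd (nat_lit 101917) (Tr.lf (nat_lit 101891)) (Tr.nd (nat_lit 101921) (Tr.lf (nat_lit 101917)) (Tr.lf (nat_lit 101921))))))) (Tr.nd (nat_lit 102043) (Tr.nd (nat_lit 101999) (Tr.nd (nat_lit 101963) (Tr.nd (nat_lit 101957) (Tr.lf (nat_lit 101939)) (Tr.lf (nat_lit 101957))) (Tr.nd (nat_lit 101977) (Tr.lf (nat_lit 101963)) (Tr.nd (nat_lit 101987) (Tr.lf (nat_lit 101977)) (Tr.lf (nat_lit 101987))))) (Tr.nd (nat_lit 102019) (Tr.nd (nat_lit 102001) (Tr.lf (nat_lit 101999)) (Tr.nd (nat_lit 102013) (Tr.lf (nat_lit 102001)) (Tr.lf (nat_lit 102013)))) (Tr.nd (nat_lit 102023) (Tr.lf (nat_lit 102019)) (Tr.nd (nat_lit 102031) (Tr.lf (nat_lit 102023)) (Tr.lf (nat_lit 102031)))))) (Tr.nd (nat_lit 102079) (Tr.nd (nat_lit 102061) (Tr.nd (nat_lit 102059) (Tr.lf (nat_lit 102043)) (Tr.lf (nat_lit 102059))) (Tr.nd (nat_lit 102071) (Tr.lf (nat_lit 102061)) (Tr.nd (nat_lit 102077) (Tr.lf (nat_lit 102071)) (Tr.lf (nat_lit 102077))))) (Tr.nd (nat_lit 102107) (Tr.nd (nat_lit 102101) (Tr.lf (nat_lit 102079)) (Tr.nd (nat_lit 102103) (Tr.lf (nat_lit 102101)) (Tr.lf (nat_lit 102103)))) (Tr.nd (nat_lit 102121) (Tr.lf (nat_lit 102107)) (Tr.nd (nat_lit 102139) (Tr.lf (nat_lit 102121)) (Tr.lf (nat_lit 102139))))))))) (Tr.nd (nat_lit 102673) (Tr.nd (nat_lit 102397) (Tr.nd (nat_lit 102251) (Tr.nd (nat_lit 102199) (Tr.nd (nat_lit 102181) (Tr.nd (nat_lit 102161) (Tr.lf (nat_lit 102149)) (Tr.lf (nat_lit 102161))) (Tr.nd (nat_lit 102191) (Tr.lf (nat_lit 102181)) (Tr.nd (nat_lit 102197) (Tr.lf (nat_lit 102191)) (Tr.lf (nat_lit 102197))))) (Tr.nd (nat_lit 102229) (Tr.nd (nat_lit 102203) (Tr.lf (nat_lit 102199)) (Tr.nd (nat_lit 102217) (Tr.lf (nat_lit 102203)) (Tr.lf (nat_lit 102217)))) (Tr.nd (nat_lit 102233) (Tr.lf (nat_lit 102229)) (Tr.nd (nat_lit 102241) (Tr.lf (nat_lit 102233)) (Tr.lf (nat_lit 102241)))))) (Tr.nd (nat_lit 102301) (Tr.nd (nat_lit 102259) (Tr.nd (nat_lit 102253) (Tr.lf (nat_lit 102251)) (Tr.lf (nat_lit 102253))) (Tr.nd (nat_lit 102293) (Tr.lf (nat_lit 102259)) (Tr.nd (nat_lit 102299) (Tr.lf (nat_lit 102293)) (Tr.lf (nat_lit 102299))))) (Tr.nd (nat_lit 102337) (Tr.nd (nat_lit 102317) (Tr.lf (nat_lit 102301)) (Tr.nd (nat_lit 102329) (Tr.lf (nat_lit 102317)) (Tr.lf (nat_lit 102329)))) (Tr.nd (nat_lit 102359) (Tr.lf (nat_lit 102337)) (Tr.nd (nat_lit 102367) (Tr.lf (nat_lit 102359)) (Tr.lf (nat_lit 102367))))))) (Tr.nd (nat_lit 102539) (Tr.nd (nat_lit 102451) (Tr.nd (nat_lit 102409) (Tr.nd (nat_lit 102407) (Tr.lf (nat_lit 102397)) (Tr.lf (nat_lit 102407))) (Tr.nd (nat_lit 102433) (Tr.lf (nat_lit 102409)) (Tr.nd (nat_lit 102437) (Tr.lf (nat_lit 102433)) (Tr.lf (nat_lit 102437))))) (Tr.nd (nat_lit 102503) (Tr.nd (nat_lit 102461) (Tr.lf (nat_lit 102451)) (Tr.nd (nat_lit 102481) (Tr.lf (nat_lit 102461)) (Tr.lf (nat_lit 102481)))) (Tr.nd (nat_lit 102523) (Tr.lf (nat_lit 102503)) (Tr.nd (nat_lit 102533) (Tr.lf (nat_lit 102523)) (Tr.lf (nat_lit 102533)))))) (Tr.nd (nat_lit 102593) (Tr.nd (nat_lit 102551) (Tr.nd (nat_lit 102547) (Tr.lf (nat_lit 102539)) (Tr.lf (nat_lit 102547))) (Tr.nd (nat_lit 102559) (Tr.lf (nat_lit 102551)) (Tr.nd (nat_lit 102563) (Tr.lf (nat_lit 102559)) (Tr.lf (nat_lit 102563))))) (Tr.nd (nat_lit 102647) (Tr.nd (nat_lit 102607) (Tr.lf (nat_lit 102593)) (Tr.nd (nat_lit 102643) (Tr.lf (nat_lit 102607)) (Tr.lf (nat_lit 102643)))) (Tr.nd (nat_lit 102653) (Tr.lf (nat_lit 102647)) (Tr.nd (nat_lit 102667) (Tr.lf (nat_lit 102653)) (Tr.lf (nat_lit 102667)))))))) (Tr.nd (nat_lit 102983) (Tr.nd (nat_lit 102841) (Tr.nd (nat_lit 102763) (Tr.nd (nat_lit 102679) (Tr.nd (nat_lit 102677) (Tr.lf (nat_lit 102673)) (Tr.lf (nat_lit 102677))) (Tr.nd (nat_lit 102701) (Tr.lf (nat_lit 102679)) (Tr.nd (nat_lit 102761) (Tr.lf (nat_lit 102701)) (Tr.lf (nat_lit 102761))))) (Tr.nd (nat_lit 102797) (Tr.nd (nat_lit 102769) (Tr.lf (nat_lit 102763)) (Tr.nd (nat_lit 102793) (Tr.lf (nat_lit 102769)) (Tr.lf (nat_lit 102793)))) (Tr.nd (nat_lit 102811) (Tr.lf (nat_lit 102797)) (Tr.nd (nat_lit 102829) (Tr.lf (nat_lit 102811)) (Tr.lf (nat_lit 102829)))))) (Tr.nd (nat_lit 102911) (Tr.nd (nat_lit 102871) (Tr.nd (nat_lit 102859) (Tr.lf (nat_lit 102841)) (Tr.lf (nat_lit 102859))) (Tr.nd (nat_lit 102877) (Tr.lf (nat_lit 102871)) (Tr.nd (nat_lit 102881) (Tr.lf (nat_lit 102877)) (Tr.lf (nat_lit 102881))))) (Tr.nd (nat_lit 102931) (Tr.nd (nat_lit 102913) (Tr.lf (nat_lit 102911)) (Tr.nd (nat_lit 102929) (Tr.lf (nat_lit 102913)) (Tr.lf (nat_lit 102929)))) (Tr.nd (nat_lit 102953) (Tr.lf (nat_lit 102931)) (Tr.nd (nat_lit 102967) (Tr.lf (nat_lit 102953)) (Tr.lf (nat_lit 102967))))))) (Tr.nd (nat_lit 103099) (Tr.nd (nat_lit 103067) (Tr.nd (nat_lit 103007) (Tr.nd (nat_lit 103001) (Tr.lf (nat_lit 102983)) (Tr.lf (nat_lit 103001))) (Tr.nd (nat_lit 103043) (Tr.lf (nat_lit 103007)) (Tr.nd (nat_lit 103049) (Tr.lf (nat_lit 103043)) (Tr.lf (nat_lit 103049))))) (Tr.nd (nat_lit 103087) (Tr.nd (nat_lit 103069) (Tr.lf (nat_lit 103067)) (Tr.nd (nat_lit 103079) (Tr.lf (nat_lit 103069)) (Tr.lf (nat_lit 103079)))) (Tr.nd (nat_lit 103091) (Tr.lf (nat_lit 103087)) (Tr.nd (nat_lit 103093) (Tr.lf (nat_lit 103091)) (Tr.lf (nat_lit 103093)))))) (Tr.nd (nat_lit 103183) (Tr.nd (nat_lit 103141) (Tr.nd (nat_lit 103123) (Tr.lf (nat_lit 103099)) (Tr.lf (nat_lit 103123))) (Tr.nd (nat_lit 103171) (Tr.lf (nat_lit 103141)) (Tr.nd (nat_lit 103177) (Tr.lf (nat_lit 103171)) (Tr.lf (nat_lit 103177))))) (Tr.nd (nat_lit 103237) (Tr.nd (nat_lit 103217) (Tr.lf (nat_lit 103183)) (Tr.nd (nat_lit 103231) (Tr.lf (nat_lit 103217)) (Tr.lf (nat_lit 103231)))) (Tr.nd (nat_lit 103289) (Tr.lf (nat_lit 103237)) (Tr.nd (nat_lit 103291) (Tr.lf (nat_lit 103289)) (Tr.lf (nat_lit 103291)))))))))) (Tr.nd (nat_lit 104347) (Tr.nd (nat_lit 103843) (Tr.nd (nat_lit 103573) (Tr.nd (nat_lit 103423) (Tr.nd (nat_lit 103387) (Tr.nd (nat_lit 103333) (Tr.nd (nat_lit 103319) (Tr.lf (nat_lit 103307)) (Tr.lf (nat_lit 103319))) (Tr.nd (nat_lit 103349) (Tr.lf (nat_lit 103333)) (Tr.nd (nat_lit 103357) (Tr.lf (nat_lit 103349)) (Tr.lf (nat_lit 103357))))) (Tr.nd (nat_lit 103399) (Tr.nd (nat_lit 103391) (Tr.lf (nat_lit 103387)) (Tr.nd (nat_lit 103393) (Tr.lf (nat_lit 103391)) (Tr.lf (nat_lit 103393)))) (Tr.nd (nat_lit 103409) (Tr.lf (nat_lit 103399)) (Tr.nd (nat_lit 103421) (Tr.lf (nat_lit 103409)) (Tr.lf (nat_lit 103421)))))) (Tr.nd (nat_lit 103511) (Tr.nd (nat_lit 103457) (Tr.nd (nat_lit 103451) (Tr.lf (nat_lit 103423)) (Tr.lf (nat_lit 103451))) (Tr.nd (nat_lit 103471) (Tr.lf (nat_lit 103457)) (Tr.nd (nat_lit 103483) (Tr.lf (nat_lit 103471)) (Tr.lf (nat_lit 103483))))) (Tr.nd (nat_lit 103553) (Tr.nd (nat_lit 103529) (Tr.lf (nat_lit 103511)) (Tr.nd (nat_lit 103549) (Tr.lf (nat_lit 103529)) (Tr.lf (nat_lit 103549)))) (Tr.nd (nat_lit 103561) (Tr.lf (nat_lit 103553)) (Tr.nd (nat_lit 103567) (Tr.lf (nat_lit 103561)) (Tr.lf (nat_lit 103567))))))) (Tr.nd (nat_lit 103687) (Tr.nd (nat_lit 103619) (Tr.nd (nat_lit 103583) (Tr.nd (nat_lit 103577) (Tr.lf (nat_lit 103573)) (Tr.lf (nat_lit 103577))) (Tr.nd (nat_lit 103591) (Tr.lf (nat_lit 103583)) (Tr.nd (nat_lit 103613) (Tr.lf (nat_lit 103591)) (Tr.lf (nat_lit 103613))))) (Tr.nd (nat_lit 103657) (Tr.nd (nat_lit 103643) (Tr.lf (nat_lit 103619)) (Tr.nd (nat_lit 103651) (Tr.lf (nat_lit 103643)) (Tr.lf (nat_lit 103651)))) (Tr.nd (nat_lit 103669) (Tr.lf (nat_lit 103657)) (Tr.nd (nat_lit 103681) (Tr.lf (nat_lit 103669)) (Tr.lf (nat_lit 103681)))))) (Tr.nd (nat_lit 103787) (Tr.nd (nat_lit 103703) (Tr.nd (nat_lit 103699) (Tr.lf (nat_lit 103687)) (Tr.lf (nat_lit 103699))) (Tr.nd (nat_lit 103723) (Tr.lf (nat_lit 103703)) (Tr.nd (nat_lit 103769) (Tr.lf (nat_lit 103723)) (Tr.lf (nat_lit 103769))))) (Tr.nd (nat_lit 103813) (Tr.nd (nat_lit 103801) (Tr.lf (nat_lit 103787)) (Tr.nd (nat_lit 103811) (Tr.lf (nat_lit 103801)) (Tr.lf (nat_lit 103811)))) (Tr.nd (nat_lit 103837) (Tr.lf (nat_lit 103813)) (Tr.nd (nat_lit 103841) (Tr.lf (nat_lit 103837)) (Tr.lf (nat_lit 103841)))))))) (Tr.nd (nat_lit 104087) (Tr.nd (nat_lit 103981) (Tr.nd (nat_lit 103919) (Tr.nd (nat_lit 103889) (Tr.nd (nat_lit 103867) (Tr.lf (nat_lit 103843)) (Tr.lf (nat_lit 103867))) (Tr.nd (nat_lit 103903) (Tr.lf (nat_lit 103889)) (Tr.nd (nat_lit 103913) (Tr.lf (nat_lit 103903)) (Tr.lf (nat_lit 103913))))) (Tr.nd (nat_lit 103967) (Tr.nd (nat_lit 103951) (Tr.lf (nat_lit 103919)) (Tr.nd (nat_lit 103963) (Tr.lf (nat_lit 103951)) (Tr.lf (nat_lit 103963)))) (Tr.nd (nat_lit 103969) (Tr.lf (nat_lit 103967)) (Tr.nd (nat_lit 103979) (Tr.lf (nat_lit 103969)) (Tr.lf (nat_lit 103979)))))) (Tr.nd (nat_lit 104009) (Tr.nd (nat_lit 103993) (Tr.nd (nat_lit 103991) (Tr.lf (nat_lit 103981)) (Tr.lf (nat_lit 103991))) (Tr.nd (nat_lit 103997) (Tr.lf (nat_lit 103993)) (Tr.nd (nat_lit 104003) (Tr.lf (nat_lit 103997)) (Tr.lf (nat_lit 104003))))) (Tr.nd (nat_lit 104047) (Tr.nd (nat_lit 104021) (Tr.lf (nat_lit 104009)) (Tr.nd (nat_lit 104033) (Tr.lf (nat_lit 104021)) (Tr.lf (nat_lit 104033)))) (Tr.nd (nat_lit 104053) (Tr.lf (nat_lit 104047)) (Tr.nd (nat_lit 104059) (Tr.lf (nat_lit 104053)) (Tr.lf (nat_lit 104059))))))) (Tr.nd (nat_lit 104231) (Tr.nd (nat_lit 104149) (Tr.nd (nat_lit 104119) (Tr.nd (nat_lit 104113) (Tr.lf (nat_lit 104087)) (Tr.lf (nat_lit 104113))) (Tr.nd (nat_lit 104123) (Tr.lf (nat_lit 104119)) (Tr.nd (nat_lit 104147) (Tr.lf (nat_lit 104123)) (Tr.lf (nat_lit 104147))))) (Tr.nd (nat_lit 104179) (Tr.nd (nat_lit 104161) (Tr.lf (nat_lit 104149)) (Tr.nd (nat_lit 104173) (Tr.lf (nat_lit 104161)) (Tr.lf (nat_lit 104173)))) (Tr.nd (nat_lit 104183) (Tr.lf (nat_lit 104179)) (Tr.nd (nat_lit 104207) (Tr.lf (nat_lit 104183)) (Tr.lf (nat_lit 104207)))))) (Tr.nd (nat_lit 104287) (Tr.nd (nat_lit 104239) (Tr.nd (nat_lit 104233) (Tr.lf (nat_lit 104231)) (Tr.lf (nat_lit 104233))) (Tr.nd (nat_lit 104243) (Tr.lf (nat_lit 104239)) (Tr.nd (nat_lit 104281) (Tr.lf (nat_lit 104243)) (Tr.lf (nat_lit 104281))))) (Tr.nd (nat_lit 104311) (Tr.nd (nat_lit 104297) (Tr.lf (nat_lit 104287)) (Tr.nd (nat_lit 104309) (Tr.lf (nat_lit 104297)) (Tr.lf (nat_lit 104309)))) (Tr.nd (nat_lit 104323) (Tr.lf (nat_lit 104311)) (Tr.nd (nat_lit 104327) (Tr.lf (nat_lit 104323)) (Tr.lf (nat_lit 104327))))))))) (Tr.nd (nat_lit 104827) (Tr.nd (nat_lit 104623) (Tr.nd (nat_lit 104491) (Tr.nd (nat_lit 104399) (Tr.nd (nat_lit 104381) (Tr.nd (nat_lit 104369) (Tr.lf (nat_lit 104347)) (Tr.lf (nat_lit 104369))) (Tr.nd (nat_lit 104383) (Tr.lf (nat_lit 104381)) (Tr.nd (nat_lit 104393) (Tr.lf (nat_lit 104383)) (Tr.lf (nat_lit 104393))))) (Tr.nd (nat_lit 104471) (Tr.nd (nat_lit 104417) (Tr.lf (nat_lit 104399)) (Tr.nd (nat_lit 104459) (Tr.lf (nat_lit 104417)) (Tr.lf (nat_lit 104459)))) (Tr.nd (nat_lit 104473) (Tr.lf (nat_lit 104471)) (Tr.nd (nat_lit 104479) (Tr.lf (nat_lit 104473)) (Tr.lf (nat_lit 104479)))))) (Tr.nd (nat_lit 104549) (Tr.nd (nat_lit 104527) (Tr.nd (nat_lit 104513) (Tr.lf (nat_lit 104491)) (Tr.lf (nat_lit 104513))) (Tr.nd (nat_lit 104537) (Tr.lf (nat_lit 104527)) (Tr.nd (nat_lit 104543) (Tr.lf (nat_lit 104537)) (Tr.lf (nat_lit 104543))))) (Tr.nd (nat_lit 104579) (Tr.nd (nat_lit 104551) (Tr.lf (nat_lit 104549)) (Tr.nd (nat_lit 104561) (Tr.lf (nat_lit 104551)) (Tr.lf (nat_lit 104561)))) (Tr.nd (nat_lit 104593) (Tr.lf (nat_lit 104579)) (Tr.nd (nat_lit 104597) (Tr.lf (nat_lit 104593)) (Tr.lf (nat_lit 104597))))))) (Tr.nd (nat_lit 104717) (Tr.nd (nat_lit 104681) (Tr.nd (nat_lit 104651) (Tr.nd (nat_lit 104639) (Tr.lf (nat_lit 104623)) (Tr.lf (nat_lit 104639))) (Tr.nd (nat_lit 104659) (Tr.lf (nat_lit 104651)) (Tr.nd (nat_lit 104677) (Tr.lf (nat_lit 104659)) (Tr.lf (nat_lit 104677))))) (Tr.nd (nat_lit 104701) (Tr.nd (nat_lit 104683) (Tr.lf (nat_lit 104681)) (Tr.nd (nat_lit 104693) (Tr.lf (nat_lit 104683)) (Tr.lf (nat_lit 104693)))) (Tr.nd (nat_lit 104707) (Tr.lf (nat_lit 104701)) (Tr.nd (nat_lit 104711) (Tr.lf (nat_lit 104707)) (Tr.lf (nat_lit 104711)))))) (Tr.nd (nat_lit 104761) (Tr.nd (nat_lit 104729) (Tr.nd (nat_lit 104723) (Tr.lf (nat_lit 104717)) (Tr.lf (nat_lit 104723))) (Tr.nd (nat_lit 104743) (Tr.lf (nat_lit 104729)) (Tr.nd (nat_lit 104759) (Tr.lf (nat_lit 104743)) (Tr.lf (nat_lit 104759))))) (Tr.nd (nat_lit 104789) (Tr.nd (nat_lit 104773) (Tr.lf (nat_lit 104761)) (Tr.nd (nat_lit 104779) (Tr.lf (nat_lit 104773)) (Tr.lf (nat_lit 104779)))) (Tr.nd (nat_lit 104801) (Tr.lf (nat_lit 104789)) (Tr.nd (nat_lit 104803) (Tr.lf (nat_lit 104801)) (Tr.lf (nat_lit 104803)))))))) (Tr.nd (nat_lit 105107) (Tr.nd (nat_lit 104953) (Tr.nd (nat_lit 104879) (Tr.nd (nat_lit 104849) (Tr.nd (nat_lit 104831) (Tr.lf (nat_lit 104827)) (Tr.lf (nat_lit 104831))) (Tr.nd (nat_lit 104851) (Tr.lf (nat_lit 104849)) (Tr.nd (nat_lit 104869) (Tr.lf (nat_lit 104851)) (Tr.lf (nat_lit 104869))))) (Tr.nd (nat_lit 104917) (Tr.nd (nat_lit 104891) (Tr.lf (nat_lit 104879)) (Tr.nd (nat_lit 104911) (Tr.lf (nat_lit 104891)) (Tr.lf (nat_lit 104911)))) (Tr.nd (nat_lit 104933) (Tr.lf (nat_lit 104917)) (Tr.nd (nat_lit 104947) (Tr.lf (nat_lit 104933)) (Tr.lf (nat_lit 104947)))))) (Tr.nd (nat_lit 105019) (Tr.nd (nat_lit 104971) (Tr.nd (nat_lit 104959) (Tr.lf (nat_lit 104953)) (Tr.lf (nat_lit 104959))) (Tr.nd (nat_lit 104987) (Tr.lf (nat_lit 104971)) (Tr.nd (nat_lit 104999) (Tr.lf (nat_lit 104987)) (Tr.lf (nat_lit 104999))))) (Tr.nd (nat_lit 105037) (Tr.nd (nat_lit 105023) (Tr.lf (nat_lit 105019)) (Tr.nd (nat_lit 105031) (Tr.lf (nat_lit 105023)) (Tr.lf (nat_lit 105031)))) (Tr.nd (nat_lit 105071) (Tr.lf (nat_lit 105037)) (Tr.nd (nat_lit 105097) (Tr.lf (nat_lit 105071)) (Tr.lf (nat_lit 105097))))))) (Tr.nd (nat_lit 105253) (Tr.nd (nat_lit 105199) (Tr.nd (nat_lit 105143) (Tr.nd (nat_lit 105137) (Tr.lf (nat_lit 105107)) (Tr.lf (nat_lit 105137))) (Tr.nd (nat_lit 105167) (Tr.lf (nat_lit 105143)) (Tr.nd (nat_lit 105173) (Tr.lf (nat_lit 105167)) (Tr.lf (nat_lit 105173))))) (Tr.nd (nat_lit 105229) (Tr.nd (nat_lit 105211) (Tr.lf (nat_lit 105199)) (Tr.nd (nat_lit 105227) (Tr.lf (nat_lit 105211)) (Tr.lf (nat_lit 105227)))) (Tr.nd (nat_lit 105239) (Tr.lf (nat_lit 105229)) (Tr.nd (nat_lit 105251) (Tr.lf (nat_lit 105239)) (Tr.lf (nat_lit 105251)))))) (Tr.nd (nat_lit 105323) (Tr.nd (nat_lit 105269) (Tr.nd (nat_lit 105263) (Tr.lf (nat_lit 105253)) (Tr.lf (nat_lit 105263))) (Tr.nd (nat_lit 105277) (Tr.lf (nat_lit 105269)) (Tr.nd (nat_lit 105319) (Tr.lf (nat_lit 105277)) (Tr.lf (nat_lit 105319))))) (Tr.nd (nat_lit 105341) (Tr.nd (nat_lit 105331) (Tr.lf (nat_lit 105323)) (Tr.nd (nat_lit 105337) (Tr.lf (nat_lit 105331)) (Tr.lf (nat_lit 105337)))) (Tr.nd (nat_lit 105359) (Tr.lf (nat_lit 105341)) (Tr.nd (nat_lit 105361) (Tr.lf (nat_lit 105359)) (Tr.lf (nat_lit 105361))))))))))))))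
noncomputable def HP1 : ℕ → ℕ := fun q => Nat.add (Nat.mod HP1t q) (nat_lit 65536)
noncomputable def HR1 : ℕ → ℕ := fun q => (Nat.mod HR1t q)
noncomputable def HW1 : ℕ → ℕ := fun q => (Nat.mod HW1t q)
theorem tree1 : Tr.all (treeP LB1 stp HP1 HR1 HW1 WL1 (fun q => Nat.beq (nat_lit 65539) q)) LB1 = true := by decide +kernel
theorem sub1 : Tr.all (mem L) LB1 = true := by decide +kernel
theorem bst1 : bst LB1 65536 131072 = true := by decide +kernel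
theorem size1 : size LB1 = 2816 := by decide +kernel
noncomputable def WL2 : List (List Col) := [[TCG_Fi22.Col.d], [TCG_Fi22.Col.e], [TCG_Fi22.Col.f], [TCG_Fi22.Col.g], [TCG_Fi22.Col.h], [TCG_Fi22.Col.i], [TCG_Fi22.Col.h, TCG_Fi22.Col.e, TCG_Fi22.Col.d, TCG_Fi22.Col.c, TCG_Fi22.Col.b, TCG_Fi22.Col.a, TCG_Fi22.Col.h, TCG_Fi22.Col.e, TCG_Fi22.Col.d, TCG_Fi22.Col.c, TCG_Fi22.Col.b, TCG_Fi22.Col.a, TCG_Fi22.Col.h, TCG_Fi22.Col.e, TCG_Fi22.Col.d, TCG_Fi22.Col.c, TCG_Fi22.Col.b, TCG_Fi22.Col.a, TCG_Fi22.Col.h, TCG_Fi22.Col.e, TCG_Fi22.Col.d, TCG_Fi22.Col.c, TCG_Fi22.Col.b, TCG_Fi22.Col.a, TCG_Fi22.Col.h, TCG_Fi22.Col.e, TCG_Fi22.Col.d, TCG_Fi22.Col.c, TCG_Fi22.Col.b, TCG_Fi22.Col.a]]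
noncomputable def HP2t : ℕ := (nat_lit 0xc3fe328f000b45a27fea9a82a7cfc849eb17cbc9661ae608cb7eec5668786b78e43d866c0e0c57a12f8af0d055c9ffee213111429a8a68a6dda6ece408a9a010462f493c3006b0770d8aa5d0135f8fd38d1681dd4ec90b7633457f6d8486f7159e297302ccc604c431ea88b0896f536c340b778aba89df24902e34fc06ee0f5f2beec8497dfaa8c4cc569a18813514637e6289b8f3290db57fec46d67b7c27f73dd89a0c2bb115346b20078722badd0efd52e1f5b6c53efbbaf1c6fc1cec0dc1879498c7e3d3552425db8cbef0375fa2f10e95754ab5e07734b5ffb854c3749e31ec8bc2f4d8a89064ee2d3c67ad798022a69355d4e5579685693c4812d04685e52330eb50621397aa4ce426c442887aa86c8b86e52082a5437ba268b20bc5bfdb2719bcc2e3325ab6053db76ac170125511c158a93c0567cd2f3fa08da4da327911a5eec36db8d329cb38f23bc9d838d88ba15fb04cfaafa93fd2a6783f35e8071de303300a172b52789b69d604615058c9bbe7f961e25e3639f883b4cde9c3a05e8039eeaee1b562c4136c2ac5892a6ab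f6ae5316c4fad8ff181afc21de55c340360f8a0e920d0140b90f1e427cee3dded58a197226ff1aa8f0182b0bb1ac67ea9dbc803e5b959c804720fd4917db47aff23eee428855f75ad3479a5069298a9e8633cb7042261cd2e7d162b9c8abc736a3e9c1802236def932534d9a001be5b1cce96d3978a9b2bbcd7989f3a61315cab69f2b151e7f4eb6ecb61140c32e68b38330ff47dc9f37b01c0a2cb7d33cda381098ed5bba6f18b8c8d48b3a8dbd330340b5546adf3735bdf8601b32d16b803cf91fb9770c13c694ba7cd21ca2b22ab3a59a7dee5a04bf0a3276c2dd04748c216c593cc3866b18c4e24f3aa7cc5686d621b27089a16bfd60abff705515ddb42b98621285e86b9c4f34b5167aa46bbb9d73082859844711ada397d9dcfa3011a5077064785e6be1be769cce56bad171207663ae4e88919f344c35742820eeca156e9a9b95ce3041d738f83f38ebe7674266b6d0018ba1fc2ad75adc7ce3687182fad6dd80b479e2260d7814b19045c70fa8431c42159919e53342d651b5ce8861d0fbd8f28313379148649bf733d9dc77856c24a2d8efd8dcf7ebc1249ac0a3c2d45a2d46f84fd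74b92785a649349a8b302281a76f65094658b2b22ab21920119e4404c8decd95cbcf8402343b65d3c7c8705799f3ea8a1e86e2ecf8045b6ae6ad8f0db58986d36315dfdd5e8b2931b1f391193a111c98f8fe4d6f19fa7a09667a9377076bbc4eb46106a865b2ad6c288d552673d04b48c0ff043770d13aeb61fb8670b7e07bdf8b3b419b905066bacdaf86a0d3b0f497c40573a4daca2e6f4a3abcb3134bfe93e24e60a99da7e94f0f5f2dac49c3e61cffedc6f6d73bb1d98cc8af7e108faddd0fafbf9e2bc17ac95bbbe5f0cba06879d92db3fe4b20f15d84fb93834bd7d381ac07a9323bc588348e616ac1cbc9ffec02921fadfc8ae1935e83f8aba8179381a37c66c6fd6bdcdd00668e15f290e346c5f1e037f7a55e91c3496a378874b029468d9206c2e0fef870fa0c40593e9a4b316769a25e337073dc8759378ea6b52a3d7142bae57aacaf3b686f088caa74851280d2fde76580fcbe90bf0b3283c2c5c78163002a557b5d395ec482565add0de228dd3ca9112cf2c2e09b263d0a2834023bdf2bfa06f328086b89d341ca903725ddaebe7abc5f4f8d2e59cc700596bbf8523d197cb20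385374065e6fb71c5adff61efe881ef41af8ef7639008a698e2a4d7bbaed927dbf2b8a289c886a8a9d064853cc634c327d7fb7cb5577eb145333139062349e277b5bf842fbaebf033af33abf1263bdb29831039d837be34ca2752a1573625c17d4c35cce4bec687134f3c8367bd38d2ccfe0973c0cb327e18dedf2df215f91ba9509d6791d64a24965595385e6502726b2d6ca292436e141d9ef837081380c5cc2934f8f4da4b59152e8ce37df8d60e0eea0acdae0c28ef0df7cb657ee76fe73dd84cb538b910ca409f28f207c7fffb4cfcd28660e653bea6df3869747adede5d60e2b8f4fbd4a99422a44f87ea43fa1e79fc6fc41906df63a5342219d45315033de141aad561a04dde53576272eefecabbff53448b1c5e5091a033c90549a8c12fda1168cc5dcdce5ca54d4819f550a7afaeb19b4c9840ba955c318a6ffb68faa6a48b5b30dc810ea3c8400b9b5511ca1f6e0e5241e47ef912e203e4e31021e04ec6f4736a1803e4ac97532f5d1b62738f8c84161511781deacf7202d3df15bb50abff6955cf818203fa307c42285c71ab0429305f0ca4a185b313ec863a380b1b65e3d829df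bb5d872ca750ba1e9111d4ebc2d22168eb6d18230d2180bbb2e30dd2d7ac123e856b6fe88bd2d3bc66dc7d81c71c6640b56c3b163addadf4bd82ff9dada96b566d5380efcf8c16e50a49580a6963ca40e13b816cadfb4e0597ee4bf40813e999bfc389638dcc3b6bd30c48d8fbd83619779aecda3dafd1b7a2f759a30607faf8640f70c9246a4e8b70bd9f2b53dfb0d0071ee2776cb59fc735cb6a768b238edbddad70d0c2cc1bf5217ad72ac714581b06c159cf2cc5a8fb9d1c5920b26572a68332ba1b73129da7345b4330c2126c69e2807c37109fbcd3489a3570bdbed55dc76e16691716d68844709d3dcf0e17e79166ecbad47f6b78b5242e15138f029371445a6574887abb4b9a66c344263cb64a836c431e9cb6fa7200e6001ff0384158248bb285f9d5d703119ba288c1ff47d00d164241cf3d77dcf4e18264d4a8c55775b820f7fc0da801ba53ee4cb2e9b527535ba99bdef6443c4235b227d727e214680b3e3594d6249901f55d565a253d43b1ce608a743f05ae9f036ad8f8b75c25c5d88d254a84dfb2b078a5210b9cbc2ca2b04c6760e3333060905591f3ed4d3fbfbbdb18728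edc9c5b9281a9e580b52816199f0fcf9087a70165b4b6f2ad485322ce027860a94e82dfdf1551de03b93ad26c1bf72377c5d8fcf1d79e91bf67748af814fc8f5156d11d656ac0cfdac8f8ff5f71c5a0f2e733506bce90555e166819dee30a2ca67aeea7b19ad31d408c57e5e9515d44ab73617f2bb4a0bb378a1212cad2c4958ba72e1a0eacf1aa26a1bb658c44228f527c6502c19d854e3dca41819020e0d530affc2d217a5ef3d96c9d2eb5d266586d54a5cda3cd75256be96e2ad2ce0271537a1b4ae24850d4a82277445953b22ca9d5f01f208b142cdbfdf3df4cc01ad807be00f99c37d251eaf3c8fe272470bb47d6897b196de5978e48c6ef036aaffa497943e5eee3741065d863a44858f10ab5e9b554fa3c76f74123a82c9563de7ea7bd7f7686702098b4a2b53c8579769b65ec253c3f1c40a3425ece6a0333e5976f5df62b215da5d8bc842efabcb94b1bb713da83fbb0331c41bc317ff22f74d22c84b3a25ac088b875f676e385fa5ca7bd66cd02f2dd1b6f69938f3e65149958d7d9d70b832ddcd5de0b4c591a84577de385b13c959c211e4467f7242b347ebfa5538666cad76c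06ca5fb1a260e529dd4fa73b5a4ee755526068b9dfae49de0fa69754db9a0aa2dbd9e77f400d5f6c55b96842ac286e5b1fbb4ffe363beb118c6b38dd620ed776fd656dae93804b763433aee276863d46c2cb4b0aafeaa61591128094f2f7c040e6571e77a7b1108aa8ebc3a2947016e347df02473a85dc41b73aa76ee3b08aad6ecac3e83b6b8c5b5190d4270b09e8d97e70fff305f6a9362ab12eb233555b7fbb9b23d5483b7c645a2fddcaf3e6c69eb626b5e985d2ca9920e095d270c43002bac4592166411ad51df845ea6d28dd8633cef2fb70df2fb782007c8b99f1383e5ad47b45a60bf112d47da1c0a259e05d4b0513b31ffd44f0d2ce635a7817d664f1d17929e7ae1b261537ad71fa4b859baa6f744492caea127b1ae396dd30b0af06fd253b813315d2832c70d6babc27e99033baea171f0132052e41cfaf1ed76532bf35d86b8fdab0cc75b77b95fedd63e1e71db9052c5342c247ceb020a9e8933bddc94f214c9e48517671a9652d118ee15fedff25c5758319e8b5490df9c8b494ef30488bf6a2655a68d6f58008356c2a1e052385cb64e6e9aaef15d3d57fbbe7154a23697fb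931d4de9cf071f1543172fab9539094c65f3b6f590587e355c6b9d7542bc5147e35add15668705264df5f971f68726be51cd7c91b8f5e416e2b0b294d4d885ef4b6368606dbcb473b522efb0cfcb957a4037e20462594e16e8145f4f21c70facfb24d9e8ba0bf0e8fd5f92044fe8087c9c53331c43b12cc75dafecaccc8ae1c7353c0d41f37aa42776678853395f881c0dd898f2de58804cda4862fac492fe94480a65d1519af3989189c1c468b53c2f63c3f7b4be9496be1fbeba5fd7281d8ea4134308cd070e3d0e011e3ed1b01ff415ede670af56ac8d08218a948f058a57c3fb7f2fc36c49b5c7967a9ebf769ed6c7553ea85672dab3903047cf4007f68f99704235760074b06b864c955f5951447e7c6bcde169593e50e9f9f3c019f7a87a34cc0cc104087ffb544db5439180565b41f86f9ebdc7463514c1fc3dc66bb51f0a21a4e99ce41832dbd178e8d60787ee40f89b583c825f2214517e3ad3bb7484fab6971c6fb89217921a736b74014efc50028fcf2325b328231dfd930fa4c9b31f487fa4f5b0edb3a8d9fac8b80db3ab82d72c68586829d2fdcdf8a5ed0d2821d95a34c0ee08c274f1f09dd8b4c18dd525b422fe80b582ee57626205a85fcd10f62f18c9cf972f330e245d2dc2ee1fcb8fb28480038250e3de648d13aac6eaa65e1757689d3f8c1d99a8d6db4ce789b5e595b70cdfd4e5e810a1c26801d3aaa96251467a2ade27)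
noncomputable def HR2t : ℕ := (nat_lit 0xe8c6ed8c6fa01c608646eb05b501131a04c9420e161900d07bdbc295db97c57af85fee087d1a5d724b3b259c401effc4adbe5e93b6c06e591bbda1858d94a543f40eae461bfd25d30961394d810174ba5e45f7cb63f8753ac8e55298b23589e214d4bf7713c095ecbe0082f9c8572024a404968091cb303cd72018b97e5239b863a0b65857f19aa90c094a46101c37156cf84881b1072425e84861c7fcbaeb641fde4a1a117cabe7befaf980c06b774b057161a064c94f32e7abf0f158374d2d94898db23f4dd73ce2f4464e248fa8f1d46ac4fbca4f0861ee7385baa18d91b735b32a3d677777d071d13106f27584630ac1581b16c1cbcad4354677d4c06712710805994f00d8efd80472e2b0cede853cc29ea9b4425e609b3b492a5b06122df2c14e936854ba39f0a84d4273337f444ee3999e0f167fc67076955ed7798009b0ec533416e71cfd3161d71c0f2a2dac4fcce345701d0747e5e2188767307d5276190b797ab2b2869189ffd626e3ffc0ecccfe8b07e407843f5cc3f2bd62eade5401420c765b1eee7441ab79b65b9c78238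994fa303b2aff4c2c146916d09e4278310fe5ff84df65eb25826aa714e83bba78f340d72f186824a8b3d38242a4c795b2410adde8fbcce9cba59dc289613f7a0e4de355e1bd14979194888363f318b4c75d0f730d52cdddd0d584ed1610ae4406fa4c86ba9e226546b6fd8523c2bda5d89624c6af00cc44c9a9bdd62cc174cdad8708075944150a5bd890858f75fac1096515497743debee0acd7149a0706418d0f692822e844014b4bbc7b0d28da5ea64f2dd79350f701049024f32ec154c6c28702d9680346a1983b49ddd1794e87d5d2c23678fbe4428aee4723b3042b1fea77987171f483d1274458abc3e6ea1da249a680de64e463451afd742dbb90eac4c03312d69da8fbfd9734d13d9e633fed517e719bb224c57bbbdec8ffca9d689e2b372422412aac183757eac8dbd5191f2155d9202ded9ae887d6538152b82a88df4db9e46b2965f7c122f351945f4297e4091eb5c7eb4a471ebd533c7752ba385976a12ba0bc4c7da30983a0af8d1199c59cbbcdea6df881533006a7abddf8e13fd295cec143f13096d88a874e94c40a01fad1f5c400a648339a1220b5000b67530108874700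8378bb67fd4acc226a8f90f31b6a6d8e1fdd7caddd406900e11f4c8596bc1163a3b3af01b29ff8c59e1d8a20376999fa97c261874ee349298367e415697e9dc6aab8538f241b33d47705bbca182c49489075520b9309b431b65b55821a978e5a8af17db7b8e946cc211494ddcb309e1b2aadce20ec129796a83c7f86c8c109edc1a4856f82c6078f59b468244db7ddb87da8f5b4f8a47b2a93c2a73670da741de0f36f396c674c2d2f89c8dc284660e43c5803363f702d0ff0a4baac6ba439162524afa58802636b00af9b00f5568d379fd048bb1bf069a664e2783252eebb1fdd6b4325ce2bea1fd2073ba79dfd3725f1c9927833c24b1bc6766034e27a4c3ca3a7ec6faeea892bf831e0a4836c3de0441e5009df796b6366d1a369e4a6fbaaf977371c9cd67f4ffbb2a7466cb32c497419d2dff7718276ab2cc3974a1188e223f0189655c0b9be5bfed4bc6d6ea5c3588f4f97636d876cca9219497f375be7feb6721cc1fa878e6c11eab92c46b43753143d256001903cb718c32d87e8fa9f6d3f5aeff37fd7f5896a6cfaaaa3f9204795999aa5baa4a77c6be8e4fd20f93674cbbb9dadab9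f8d80c99383ab264e298da3937b8c1e2220e1e863987c5b9679aad89483408d0c43291d2fd8fe5cb92d92a0c7928bb0a79f8e3c4b2c6e924f99c304dccbdb8636ff10cb87f3416061e5872679b64a5bd9a2aa33ad6dc2c4eb0db57591f15b8d143c6d850fe76219c82c11cadd0eab03645da131be46bef70ac1a746b0948a1cc222ee0f16ef066b310152b1ce58a1ebbc52224979e14320e2cfb51a40d4b1b6790d66c9b6b9b8371acbbc58e76322190d7e50e64d497fb8ee5fa84235fb981ac76b665b04013cf93a61d6b0628e825125817c03e6737976d1e7af1003995e1a50dc31b6cd82112fa5d4fefdfdd6726f7947db1e51bf752abd7157f18301c75b661458a82d490f658f384fb2996a22bc3e4b01249ccd267674024524961af297eaf6dd4c3ba14c6d2a28d0cd0de1dc6e2f4d2c5740b1e1b6b207c6c0dafec05e6146f3e46088e8c3032f059b9ee9d574d5bee7cb4759b08cd455e8e3bba1f7a20a96637b6007b77a2d4cbdc5aea7144142e3b9907b0e84653685cb641b0310e62dde1b74be50085d3be000178c4043d16eb3d2f87d9ee404a8a7315d8fca6f48657ef3828d4266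c9f89fd770849711be7ad186f27fa5b43a4a179b284a73200a000081d8228fa60cde59ed56dec14f8186908d303d710141dc5f668ff51ae8190d3901cf236df075bd889e3b62437bacd71f275d1cd7456d40da427333f62e76f5de69ef7d465fa41f7b5b5ad7745e4dd8d3e4fb35e7cb129c2330fe0aaf6ff3145e28860674ed103191488f17bdc5172d6cc225c0a48723624ca000e6e71e43657c130f38863b77d4f6c697a512badc8fc15afeedd981877d509e95057ca729b1c5b36bc202ab5d9128e8dc7ba4db59991b6ad6bd655eb9e4d25201f5ea3517c6f062df2248d4352d7d24947040741828590d65eff4e22dce448f82e70e98adeff7aca5b4936f17f010829bef3f7fc6d966f45de0b364659dbcdf3cff083a4bc67b0c8c80a5796cd7a4126f650a8672abd579b0476e0d50a2ff9567adaaf693c68a44c35a87b43babfce7a6a1d346bf90677b72d674129ea14d138913bf1e88d7710e68a598457c99885b9c3665b67f2e6b77e6971b03719cc82d4a88b67062d90cb40629747c796660877f65e27cd0da75c34eb77df9778dcbff013770344b49d2f8d6e86bf88aa01a4fcf5de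2ad5ab063907467cb6436ef524c135065a4f32f7d570468199877c17989810a6f10e030186f28fae38b13d2eba99762a75f1e82eb638840437e2a3edd90d0ed7d02f9530f4b49020709c0736e8505d16848baa9cf741ec846315d842b0e533b5ed6c497e79ef8964620c7869a110f69608943e84370e437e9f5755298f6ca67cf25822456a2c64d0485e4282506c1ac36e0d3f62e501ec3eb8b63da3c7878f447f808fd17013ce169dd3242964f390cf9c1e8e102208d6a3297ec25076a6b4e90ea0c73601b0b74386996a97a1f7262e940219edcf47b6ab830306b35291ef0603e6f2af3529235aea3fd843c88400918ea55afd30afe12b7afc133096ffb960c113b4312f2902312f50fdae6b842a9e99ba6e18f8091da11a7c7dd3ef34011f7834a600de49d55244660e495b998f56b2d0942f012a44de1d8256c98df665c68c2f13e7e2d06c5742f17d171d9fd5385cb9ccb6e4b26b37fd60c02551825754e3633bef9b0bef4ed504233033895a726f16ae95ab882d521d1cd295273a0f6d218027f6d39fc45965ed1be27c8d6822eba916bc624fedafbfb011ea6f0de1c19cdad87ac0760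5a53b41a7eb5c9c9d38b2c4400f99ed6c1245b7658c0ae203e0a1cb171a4ec62885748c18ffafc8168d26856f74ef8f14999a3cc1661e4aa54dc5e399a517a402efc08fb241987d15f3b1f7f439c7866330e60e4aa0b14a78242e513e2eb412149c5b5111ea4cc66de7fcbda729f17a509e5f41c8c54969bd0441c072c57d4780cd330e6d52abcf407eec8827dabb82e8419de5bc728df31fafcd39188537876f7b8b35b9598c19ef3f0e2750e556a4df7552f216523a5f4317198c4c9a496e02b6313b43907eddd0b1891589a2556fb28c9c2502cdf37a997e085475cad5097cfa4799a0680304f8e232d6f92fe86e5848e3609aad045a709da8a7cf5f91a2e7b54a3b67839e2a0665cd1bcd5e4354fcc71a142aee04bc09ecd962096481515ffd72f070d27de8ad51f24e54b508981b1f98c441c1727e6f85af7c2fd6477f48b7079a1dfc949dd6be6b604d75f98384ea7890ff298a436b525a3937836545045ff4403906789f5552503708bb29b222808abba5cd7fca764aaeb1821b8fd529ffa156d7258c6846b4ee6cfafefbd216abf0bafb2b8cc9890fa9257aa5ca817bb9fd32ec1fe5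098b1bc0005a98cb08041942588cc5592346fd5c8f4b7fff6f96a9e5b8dd95010f12aecdf5c6b0edc2e1247d81e52a6b0aef9bc08b3209afa55ab8677e9171889de28098aa00f1341018467de3134eef6796dbfddc7c922bf7b64b9319187386e6ce2fbe5c7794659ad05b496333623dcc4b8f4564c78a7fc99ca83e23904ec7b84dd57d73d3365d72e0324c9a5b92abd8453b2f38541ce4f52f675de5216a5c7efc632f6e3f0589a0c7000839a059e5255983b6a40b9a2e9064bcfe9c1aea3203b6dfc133d682cc2126ffba0ac8236e872070e5b3c0ceabff0886880c997e90579db133dffd5ed9ef599785f99d2d378f4a3d2c742f6c34eda930a08bc82ccd0ecdff79265d0408b31c36fe16ace562cef27ebec44dab759a7f463130a6dc4dca5d3d6ac56487d5ec035f7701547c194b5a0df1535b2803d1bd26a4c257c107902225771b3c1c3429938afa538d08e468e99339c388588fb94aa00816bd8e237030ba3d4e75112cbbc971d96fd7b5552db3ade3dcf72d19ca17b82f3bae7a3b718e428175d5dc362f1c45155d4aaaea06f381ab8130f90bfa2c17b0d000309647622e88300db6cc5d841aef5dc556844bd2a00d9808dbc7d70c0cc8911de127f013e0b988dccddf5ce6f9b7acbc9a5ac83bfab8467839857b71a1509e63c0fe3fc0685dbeb88c55aceefbf23799b1b7b36382893196df7f94236ba150c5dc89f9bc3b5f993a33e6)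
noncomputable def HW2t : ℕ := (nat_lit 0x5bdd90950ef17e3597eb15cd09d105be6997c9a1f82576812197d81658ef7580a2a138c3380a146f47cb9dd6b51c12ebf5a61024eae953bf35c99bf164bbd18b996060a2e267804d4471bb2a6d76092dc622621874b11dedaa9b0bb78f522e83209d9ce200714e511b20d541767108b8aa233d1d618ccda794c73e0fe03871fb03ab635517e357aedb4b18e692d70c491689e10295274425acd311651d70aa21ed1b5844b4f589db2166515f5df32babccf3c75087824f15ca475cec539f3a1ed8f6300b44257168f9641fd03f323d08efe66a66ee2e190bea41d41e2705c1f08b1d46e1015556492999addc60969961d4f0d7602ecd1f38a43bf395e735400c28bfc1c8e305497a1ba034a9b36f7deab20bc22053875514dbfcfb9eb538de277c35e6c412f5bf73944583dd5a5a867ed6540c6742bbe0a397e0fade3bbebfe5f0179d04a2396faa8fce6449246fa561e0132a0ae8c6b8df0a215a863ff79bcb56fb6e888029f3230699b9fbc79aa1a96d5f9ad2ac138a5c0915c996aaf5f7f78de7a03553a783d7d198f4ae2cc1eea7c2f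5719e0803ae1e4b24f56cd185afa66f44a676d0d09f4916d2ea44a0ac1f6a3993c4b38f404117b49b47fb0c6d31339a92ec8746f8c7beea460a427369dcbe444401b0fc94c889685e0c9592445a10595fcb334e7074f9154abb5ffaf6999cf052e917c420cd8d2b620f03c87db32c1642add027999c73ba6b97a87062ef6d507409ac3596cf78cef2b987dd8abffd5e200450da462021c993d7afd9d583691b2367818d5023519624ae0889c65242e164abc8651d3ff48ab8c5d8d79a169527a357ccbeaf5d35fae9529576e66e13ad5a3ae849b4d579fd257bfcca226ef7d66a275a6d710f120fe0f59b3641581813873bf6a6c59a3e90ab0dcfeb92c55549d6e5c4dd2ef087da2f6e6bbef3692d15c0d60497308c62f53ed505d5825d2f0a90a682987a37c9c84860134d408fcf5b7f12fb84dc3ceb8772cfe09f4bd5a6b0f886d76150db04bea722d6e13d22df8e67fad568238a94183d79f0c070291e389aa6c2daa1aa49454c23e7cc57be7e2ca84100172c267bf53f93f4d77f717e4166e75435e3768b6c41ac1bbac96c0d10c924141aa6dad6923c6ec9e4c491cb13ae78ec3afaec41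836bd04567422d60c3f1cbb953f9c35a3e31435edb15ae2b69d99dc6ffadc88f1d5e011d8851dbb4a559f50c4af56451cd178e605c448a65c3c75912eb12fdb9accd14bb2bc2168cd2914e476a742eabf6b0d9db38b4a551414686c86a64b110515e444cc744812995412cdf80fb3b544267d8a260d9ab3daeb491fdf8e6b2a0994c386bbd431f67cac3d57bd298fdafbc9ffb4305871753a08ce8003cc54a77af4b7ba68756c70a1edc3d8e44df6c12dbeacfc633239f309a08151cbdb1b447d4f41250e6f52875059c5e18f5419ccebc45149a04fa495bc41f14d0a2190ae0999dd188721a4710c9e83b3c26d766fb913ea6f355cc261d0e41e01bd321022cea2ea4c65f7654bb1e22d0f210babce921a0213bc1a96ec69a9f54f373234272d09ba2f6388a8c9b02e1c23f3b6b0f6daa23ecb441fff225ffee082fa75452f1fb7c3782af3c6b432a3cfaacba574bc519c2b6a0400a2226509a7de629b7937be8d56a6112d48fcdf5cfa3ca79a9c8e2e826df8241334e33c243b3ea20966c8000629fbc24d14d43fab13d2f466871acb06b9660aebb1f72c18789f11f13a4422c94453cbc4a6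0044589f3e344eac11700e3095eda911d92f31fc0402d91beb8ebbde53aee853b6d48739e373271f838c27d8fb80704b2fec84c87bedb8c7413b954822a97595e4cf115206d6dd10f2013a02b9fcf34eb5974e4b502ae929c801f73b8b4944a80e2d97de1a5a686bb42ce19f26383a7e90feadc09d87998d4cfae8fdaf18493aeb2ee42a06d92a7aa89e4c07c39dfcfc80e05054400a304e295452e8c6da2b0a45a9f8627f4fe10a209eab3818c09bced87b690c8d8758a0712c3b3affdcb548508359fcee3374602a07263c0674388129886e48f60a0f74ed606507518b19072033bedbc088d9a110c6e57c8b57d4c1da9311dc21766ea7e0c1e89446af73c06967c17a487658906769902f073b546a057397b94f5f1a7fe3a93ba48e4eacc89ca9715e98d81426b83e3f324d9eb5b292f3e29de03cebd1d592e5521b72526304bc30c1e96a2895904958e897c22ad629471588bacb6a5e9a0af714c9c56504fa8dcb127c6a3e30c99c6d3b34c6e9f5500f6512faf03e13e358863764fa6e62598d755ad50e2b179c3f17a23be65efe6b280ad9e7192a107d101fa82252cda9b3972ae1db1f4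5ea6193e454dfbccc3fce85e54ecd92f97a693dd8a2a620bf9331da4614331aa4a48cb50fcb6f4013463da123ba2596853014a92e43bffbf64191e82460fcd80a788992a447577ef4fa3d7760f0f70316b5c44d0c31de7dbd185a95ec23d2f2361f1ddee935bd3bfec180a5e1821c1c05530e160b0b99b0d525809d5655031f7443e45bc5ca71bf77f0810d0c3dc2aeb12ad5f1bd7de5f9936ed0a3a0c183a52c3ef42b4f1843212301d1f12474b87e29bf8b0564de9168f5f27e020fd76a466ba8c61ad7744d0f7b4cd3268f06dcc311db85e8d58b5b5d8332b5d5e20cee0c2737aa38a8d01ad592136c592c5006c7cfd888dfc0457c117c37834c42f19d4d77c5f69d23240583e66788dc9b6a16471390c13fc54a38f812cd435555bf31b5e631e1bc261a1270bf6ddcd1eebf3a1bca3b475164cd27c63f2f9c24fc260a1a6d4a3602401271d43c2a764fcce8883e87ce32018f61d625aa5f8f70a440546c0774472099470a61d2a8f6d584b954611f443e3669e98b4d38065ae362b5d1d8d0b7e3e4338d46363beef6bc418d347facde9a10e6960980515770e08dcba7465d747f9b4cb996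a7ce732da9b4dbe4fb3e2a215d91d4070ad94e84efce7120fe5a4aa6cd62f5b30d9c0292aa6c6b5db6c865651a97bb1a4c3ed999043454e771a45e6ce63c0356bfc412810f206927c5bbff4d9418bf339bd535ac6f64767a42200df6978710297d0beebcfc62b6f8fb6f02474f5606baa840159c12ac0bbbb6c2162551bf1e59caf9b416ca3b93636127fd544be0cc710117af191f456d7baf3ab356afb1b9473402b79b6fd6599ba421be2918c05b6984810943c31660f3edd6aa985d2a9b8abf65f2b7d511a8c7c235a4b96aec9a85d1262931764d90fcb4c0d54c386d3735798d6101392521dc3960b8b91c3f855b78c87bf59f1f6fc9a897ecaa7915fe320ebe5734b96cecb756cf58dc6f53f710e9fde0c4d74464790be265238c779c662f65a5e5c22993861ad0a39876991531c9e0ec77bbd3476c00ea6d4c9d27ba998cbe2aad5edcdb1c3939256e4221dab5f397c1a3a3f4ae5851dd73eb724193038fb9ff1956013713562bf4fa3d490e740c1884a0edff4f5d5d48b42b765d2dc88da65966faeb856542ceda2d82aad34e3cd8cabb6122044a9e13131d4483c4bdb6ae5bd607a48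632371f522f87ca3138c5908c7b9d6a00209566f895134a261a8e4e755a9b1908cc4d6baac28cf36c0a7022db8dda251ca1a52a220da1d1e7569aa8c597a19b6a73c9e7cf79abb8541ef411fb23ffd02b68123a7b8ed0461e5a2ce2d5b555d62c0fcb9af409d6f2f6d9a64607b503c59e4b01c58507eee1998fe5b2c83fb1591c0d44003a78cf9075491de8209469b7b7017fbac768d1c6395137982a79b175fe61459998d0f675f7355d8b67eb779a480f2e25efabe2b4005dff5de4399fdd821f15524ab61754ac026afd22500df01de95ae42c49a8e1865a6d0a3af60e696bb40ea3109ec8805a6fb01493a1a9e20d0b8bbcf70fcb688d739548fe56039f6bb8c115f36dc5981b3f39d56a0501a73c5824b8dc23803d7a4df404a7bf1b6bd39cf33fdf4d646368be4d88e180b351493221cdf37abae81893fdb6bfa33a4fd5d4c331ebcdd2c2c4f96ebf487fbf399c7fcfa09fa06c0c8c5eaa37bfb0df98ef1a9844292854eb2ce3af131c608decb827833ff7f1c5a7dead0e146cf037a3b6163b836b8a89b4bd6c5783a4781d42655cc68d46455e1d8afe77a23ef40d2b807359cb22554a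b193dac603159ce5f9e6c44d710fd715204aac2b5473a8617e7e63846ebe77ba258ec3d27287638e5a736d16f262b14bf016572e031faa31b0384c86be7cc01296d98fc003f13e092620e7f92eb70d1e39c359f653566cbc6ee184536a086bc4b2ce1e48ed4bee5ba0f1ec056756989d5dae4cd2c1de6e59d25baf7bca5c251b888c89bcdf4352d33f7761e9755559a6064b0617da02f7864b69f7fd86bd309e16f3d87e5a1a6596a35c95016cbddb4b44b2fd16d0816d68ce75235b356869a3cc42ff79c680d52652c280fd500884b7e1b416e18771d6de8de9f0119104da1db6475bb6f490a50927d7d5582c36861be107148aac06f6f88bdba42d8eb54d25b02aff78816d12288e408ec9dd525278f4c3410e5b434779844ea0bcc34aa9693e3a4e9f516a9d8577097b94c2f5373915394d3c17a300f14cfc5fd19703c9423d9e3e7a4765664cdf2b0615e27e60936711e4c5c24d20aa4c92e268439417b10e0e6ca48b041ead6640ef3af12e00938a382a15e7e992b7d3556866742016770a38bb5bf2228d84861e7e5f2c53e854ee92f358d1e9d5734fd5ca9e68f40aa64f390be3d35a67332b5078d150160757bcaefc5f4ca6462788c4d6bd15eb5564f19761fadfb0656582f383f424bd4850ddcd7e6c5fdf34e30ffc3afc8fd0660e18e1c0b5969df0eab0cd0639a2c1a3d440c70d0dd8c8a729b6f7c179654d6372a7746a2b7fedd6b7)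
noncomputable def LB2 : Tr ℕ := (Tr.nd (nat_lit 93319) (Tr.nd (nat_lit 82217) (Tr.nd (nat_lit 74717) (Tr.nd (nat_lit 72103) (Tr.nd (nat_lit 70717) (Tr.nd (nat_lit 69677) (Tr.nd (nat_lit 68899) (Tr.nd (nat_lit 68443) (Tr.nd (nat_lit 68111) (Tr.nd (nat_lit 67801) (Tr.lf (nat_lit 67589)) (Tr.nd (nat_lit 67979) (Tr.lf (nat_lit 67801)) (Tr.lf (nat_lit 67979)))) (Tr.nd (nat_lit 68147) (Tr.lf (nat_lit 68111)) (Tr.nd (nat_lit 68389) (Tr.lf (nat_lit 68147)) (Tr.lf (nat_lit 68389))))) (Tr.nd (nat_lit 68729) (Tr.nd (nat_lit 68473) (Tr.lf (nat_lit 68443)) (Tr.nd (nat_lit 68699) (Tr.lf (nat_lit 68473)) (Tr.lf (nat_lit 68699)))) (Tr.nd (nat_lit 68881) (Tr.nd (nat_lit 68743) (Tr.lf (nat_lit 68729)) (Tr.lf (nat_lit 68743))) (Tr.nd (nat_lit 68897) (Tr.lf (nat_lit 68881)) (Tr.lf (nat_lit 68897)))))) (Tr.nd (nat_lit 69203) (Tr.nd (nat_lit 69149) (Tr.nd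 (nat_lit 68917) (Tr.lf (nat_lit 68899)) (Tr.nd (nat_lit 69119) (Tr.lf (nat_lit 68917)) (Tr.lf (nat_lit 69119)))) (Tr.nd (nat_lit 69163) (Tr.lf (nat_lit 69149)) (Tr.nd (nat_lit 69193) (Tr.lf (nat_lit 69163)) (Tr.lf (nat_lit 69193))))) (Tr.nd (nat_lit 69497) (Tr.nd (nat_lit 69221) (Tr.lf (nat_lit 69203)) (Tr.nd (nat_lit 69247) (Tr.lf (nat_lit 69221)) (Tr.lf (nat_lit 69247)))) (Tr.nd (nat_lit 69593) (Tr.nd (nat_lit 69539) (Tr.lf (nat_lit 69497)) (Tr.lf (nat_lit 69539))) (Tr.nd (nat_lit 69623) (Tr.lf (nat_lit 69593)) (Tr.lf (nat_lit 69623))))))) (Tr.nd (nat_lit 70181) (Tr.nd (nat_lit 69929) (Tr.nd (nat_lit 69857) (Tr.nd (nat_lit 69691) (Tr.lf (nat_lit 69677)) (Tr.nd (nat_lit 69697) (Tr.lf (nat_lit 69691)) (Tr.lf (nat_lit 69697)))) (Tr.nd (nat_lit 69877) (Tr.lf (nat_lit 69857)) (Tr.nd (nat_lit 69899) (Tr.lf (nat_lit 69877)) (Tr.lf (nat_lit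 69899))))) (Tr.nd (nat_lit 70117) (Tr.nd (nat_lit 69931) (Tr.lf (nat_lit 69929)) (Tr.nd (nat_lit 69941) (Tr.lf (nat_lit 69931)) (Tr.lf (nat_lit 69941)))) (Tr.nd (nat_lit 70141) (Tr.nd (nat_lit 70123) (Tr.lf (nat_lit 70117)) (Tr.lf (nat_lit 70123))) (Tr.nd (nat_lit 70157) (Tr.lf (nat_lit 70141)) (Tr.lf (nat_lit 70157)))))) (Tr.nd (nat_lit 70241) (Tr.nd (nat_lit 70201) (Tr.nd (nat_lit 70183) (Tr.lf (nat_lit 70181)) (Tr.nd (nat_lit 70199) (Tr.lf (nat_lit 70183)) (Tr.lf (nat_lit 70199)))) (Tr.nd (nat_lit 70223) (Tr.lf (nat_lit 70201)) (Tr.nd (nat_lit 70229) (Tr.lf (nat_lit 70223)) (Tr.lf (nat_lit 70229))))) (Tr.nd (nat_lit 70627) (Tr.nd (nat_lit 70249) (Tr.lf (nat_lit 70241)) (Tr.nd (nat_lit 70271) (Tr.lf (nat_lit 70249)) (Tr.lf (nat_lit 70271)))) (Tr.nd (nat_lit 70667) (Tr.nd (nat_lit 70657) (Tr.lf (nat_lit 70627)) (Tr.lf (nat_lit 70657)))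 (Tr.nd (nat_lit 70687) (Tr.lf (nat_lit 70667)) (Tr.lf (nat_lit 70687)))))))) (Tr.nd (nat_lit 71363) (Tr.nd (nat_lit 71089) (Tr.nd (nat_lit 70843) (Tr.nd (nat_lit 70783) (Tr.nd (nat_lit 70729) (Tr.lf (nat_lit 70717)) (Tr.nd (nat_lit 70769) (Tr.lf (nat_lit 70729)) (Tr.lf (nat_lit 70769)))) (Tr.nd (nat_lit 70793) (Tr.lf (nat_lit 70783)) (Tr.nd (nat_lit 70841) (Tr.lf (nat_lit 70793)) (Tr.lf (nat_lit 70841))))) (Tr.nd (nat_lit 71023) (Tr.nd (nat_lit 70849) (Tr.lf (nat_lit 70843)) (Tr.nd (nat_lit 71011) (Tr.lf (nat_lit 70849)) (Tr.lf (nat_lit 71011)))) (Tr.nd (nat_lit 71069) (Tr.nd (nat_lit 71059) (Tr.lf (nat_lit 71023)) (Tr.lf (nat_lit 71059))) (Tr.nd (nat_lit 71081) (Tr.lf (nat_lit 71069)) (Tr.lf (nat_lit 71081)))))) (Tr.nd (nat_lit 71293) (Tr.nd (nat_lit 71147) (Tr.nd (nat_lit 71129) (Tr.lf (nat_lit 71089)) (Tr.nd (nat_lit 71143) (Tr.lf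 (nat_lit 71129)) (Tr.lf (nat_lit 71143)))) (Tr.nd (nat_lit 71257) (Tr.lf (nat_lit 71147)) (Tr.nd (nat_lit 71263) (Tr.lf (nat_lit 71257)) (Tr.lf (nat_lit 71263))))) (Tr.nd (nat_lit 71333) (Tr.nd (nat_lit 71317) (Tr.lf (nat_lit 71293)) (Tr.nd (nat_lit 71329) (Tr.lf (nat_lit 71317)) (Tr.lf (nat_lit 71329)))) (Tr.nd (nat_lit 71347) (Tr.nd (nat_lit 71341) (Tr.lf (nat_lit 71333)) (Tr.lf (nat_lit 71341))) (Tr.nd (nat_lit 71353) (Tr.lf (nat_lit 71347)) (Tr.lf (nat_lit 71353))))))) (Tr.nd (nat_lit 71933) (Tr.nd (nat_lit 71429) (Tr.nd (nat_lit 71399) (Tr.nd (nat_lit 71387) (Tr.lf (nat_lit 71363)) (Tr.nd (nat_lit 71389) (Tr.lf (nat_lit 71387)) (Tr.lf (nat_lit 71389)))) (Tr.nd (nat_lit 71411) (Tr.lf (nat_lit 71399)) (Tr.nd (nat_lit 71419) (Tr.lf (nat_lit 71411)) (Tr.lf (nat_lit 71419))))) (Tr.nd (nat_lit 71471) (Tr.nd (nat_lit 71437) (Tr.lf (nat_lit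 71429)) (Tr.nd (nat_lit 71443) (Tr.lf (nat_lit 71437)) (Tr.lf (nat_lit 71443)))) (Tr.nd (nat_lit 71479) (Tr.nd (nat_lit 71473) (Tr.lf (nat_lit 71471)) (Tr.lf (nat_lit 71473))) (Tr.nd (nat_lit 71909) (Tr.lf (nat_lit 71479)) (Tr.lf (nat_lit 71909)))))) (Tr.nd (nat_lit 72031) (Tr.nd (nat_lit 71983) (Tr.nd (nat_lit 71947) (Tr.lf (nat_lit 71933)) (Tr.nd (nat_lit 71963) (Tr.lf (nat_lit 71947)) (Tr.lf (nat_lit 71963)))) (Tr.nd (nat_lit 71999) (Tr.nd (nat_lit 71987) (Tr.lf (nat_lit 71983)) (Tr.lf (nat_lit 71987))) (Tr.nd (nat_lit 72019) (Tr.lf (nat_lit 71999)) (Tr.lf (nat_lit 72019))))) (Tr.nd (nat_lit 72073) (Tr.nd (nat_lit 72043) (Tr.lf (nat_lit 72031)) (Tr.nd (nat_lit 72053) (Tr.lf (nat_lit 72043)) (Tr.lf (nat_lit 72053)))) (Tr.nd (nat_lit 72089) (Tr.nd (nat_lit 72077) (Tr.lf (nat_lit 72073)) (Tr.lf (nat_lit 72077))) (Tr.nd (nat_lit 72101)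 (Tr.lf (nat_lit 72089)) (Tr.lf (nat_lit 72101))))))))) (Tr.nd (nat_lit 73693) (Tr.nd (nat_lit 72817) (Tr.nd (nat_lit 72533) (Tr.nd (nat_lit 72431) (Tr.nd (nat_lit 72161) (Tr.nd (nat_lit 72109) (Tr.lf (nat_lit 72103)) (Tr.nd (nat_lit 72139) (Tr.lf (nat_lit 72109)) (Tr.lf (nat_lit 72139)))) (Tr.nd (nat_lit 72167) (Tr.lf (nat_lit 72161)) (Tr.nd (nat_lit 72421) (Tr.lf (nat_lit 72167)) (Tr.lf (nat_lit 72421))))) (Tr.nd (nat_lit 72481) (Tr.nd (nat_lit 72461) (Tr.lf (nat_lit 72431)) (Tr.nd (nat_lit 72467) (Tr.lf (nat_lit 72461)) (Tr.lf (nat_lit 72467)))) (Tr.nd (nat_lit 72497) (Tr.nd (nat_lit 72493) (Tr.lf (nat_lit 72481)) (Tr.lf (nat_lit 72493))) (Tr.nd (nat_lit 72503) (Tr.lf (nat_lit 72497)) (Tr.lf (nat_lit 72503)))))) (Tr.nd (nat_lit 72689) (Tr.nd (nat_lit 72649) (Tr.nd (nat_lit 72547) (Tr.lf (nat_lit 72533)) (Tr.nd (nat_lit 72551) (Tr.lf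 (nat_lit 72547)) (Tr.lf (nat_lit 72551)))) (Tr.nd (nat_lit 72671) (Tr.lf (nat_lit 72649)) (Tr.nd (nat_lit 72679) (Tr.lf (nat_lit 72671)) (Tr.lf (nat_lit 72679))))) (Tr.nd (nat_lit 72733) (Tr.nd (nat_lit 72707) (Tr.lf (nat_lit 72689)) (Tr.nd (nat_lit 72719) (Tr.lf (nat_lit 72707)) (Tr.lf (nat_lit 72719)))) (Tr.nd (nat_lit 72763) (Tr.nd (nat_lit 72739) (Tr.lf (nat_lit 72733)) (Tr.lf (nat_lit 72739))) (Tr.nd (nat_lit 72767) (Tr.lf (nat_lit 72763)) (Tr.lf (nat_lit 72767))))))) (Tr.nd (nat_lit 72949) (Tr.nd (nat_lit 72893) (Tr.nd (nat_lit 72869) (Tr.nd (nat_lit 72823) (Tr.lf (nat_lit 72817)) (Tr.nd (nat_lit 72859) (Tr.lf (nat_lit 72823)) (Tr.lf (nat_lit 72859)))) (Tr.nd (nat_lit 72883) (Tr.lf (nat_lit 72869)) (Tr.nd (nat_lit 72889) (Tr.lf (nat_lit 72883)) (Tr.lf (nat_lit 72889))))) (Tr.nd (nat_lit 72911) (Tr.nd (nat_lit 72901) (Tr.lf (nat_lit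 72893)) (Tr.nd (nat_lit 72907) (Tr.lf (nat_lit 72901)) (Tr.lf (nat_lit 72907)))) (Tr.nd (nat_lit 72931) (Tr.nd (nat_lit 72923) (Tr.lf (nat_lit 72911)) (Tr.lf (nat_lit 72923))) (Tr.nd (nat_lit 72937) (Tr.lf (nat_lit 72931)) (Tr.lf (nat_lit 72937)))))) (Tr.nd (nat_lit 73607) (Tr.nd (nat_lit 72977) (Tr.nd (nat_lit 72959) (Tr.lf (nat_lit 72949)) (Tr.nd (nat_lit 72973) (Tr.lf (nat_lit 72959)) (Tr.lf (nat_lit 72973)))) (Tr.nd (nat_lit 72997) (Tr.lf (nat_lit 72977)) (Tr.nd (nat_lit 73589) (Tr.lf (nat_lit 72997)) (Tr.lf (nat_lit 73589))))) (Tr.nd (nat_lit 73643) (Tr.nd (nat_lit 73609) (Tr.lf (nat_lit 73607)) (Tr.nd (nat_lit 73637) (Tr.lf (nat_lit 73609)) (Tr.lf (nat_lit 73637)))) (Tr.nd (nat_lit 73679) (Tr.nd (nat_lit 73673) (Tr.lf (nat_lit 73643)) (Tr.lf (nat_lit 73673))) (Tr.nd (nat_lit 73681) (Tr.lf (nat_lit 73679)) (Tr.lf (nat_lit 73681))))))))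 (Tr.nd (nat_lit 74311) (Tr.nd (nat_lit 73877) (Tr.nd (nat_lit 73783) (Tr.nd (nat_lit 73727) (Tr.nd (nat_lit 73709) (Tr.lf (nat_lit 73693)) (Tr.nd (nat_lit 73721) (Tr.lf (nat_lit 73709)) (Tr.lf (nat_lit 73721)))) (Tr.nd (nat_lit 73751) (Tr.lf (nat_lit 73727)) (Tr.nd (nat_lit 73771) (Tr.lf (nat_lit 73751)) (Tr.lf (nat_lit 73771))))) (Tr.nd (nat_lit 73847) (Tr.nd (nat_lit 73819) (Tr.lf (nat_lit 73783)) (Tr.nd (nat_lit 73823) (Tr.lf (nat_lit 73819)) (Tr.lf (nat_lit 73823)))) (Tr.nd (nat_lit 73859) (Tr.nd (nat_lit 73849) (Tr.lf (nat_lit 73847)) (Tr.lf (nat_lit 73849))) (Tr.nd (nat_lit 73867) (Tr.lf (nat_lit 73859)) (Tr.lf (nat_lit 73867)))))) (Tr.nd (nat_lit 73961) (Tr.nd (nat_lit 73907) (Tr.nd (nat_lit 73883) (Tr.lf (nat_lit 73877)) (Tr.nd (nat_lit 73897) (Tr.lf (nat_lit 73883)) (Tr.lf (nat_lit 73897)))) (Tr.nd (nat_lit 73939) (Tr.lf (nat_lit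 73907)) (Tr.nd (nat_lit 73943) (Tr.lf (nat_lit 73939)) (Tr.lf (nat_lit 73943))))) (Tr.nd (nat_lit 74257) (Tr.nd (nat_lit 73973) (Tr.lf (nat_lit 73961)) (Tr.nd (nat_lit 74231) (Tr.lf (nat_lit 73973)) (Tr.lf (nat_lit 74231)))) (Tr.nd (nat_lit 74287) (Tr.nd (nat_lit 74279) (Tr.lf (nat_lit 74257)) (Tr.lf (nat_lit 74279))) (Tr.nd (nat_lit 74297) (Tr.lf (nat_lit 74287)) (Tr.lf (nat_lit 74297))))))) (Tr.nd (nat_lit 74531) (Tr.nd (nat_lit 74441) (Tr.nd (nat_lit 74383) (Tr.nd (nat_lit 74317) (Tr.lf (nat_lit 74311)) (Tr.nd (nat_lit 74377) (Tr.lf (nat_lit 74317)) (Tr.lf (nat_lit 74377)))) (Tr.nd (nat_lit 74411) (Tr.lf (nat_lit 74383)) (Tr.nd (nat_lit 74419) (Tr.lf (nat_lit 74411)) (Tr.lf (nat_lit 74419))))) (Tr.nd (nat_lit 74489) (Tr.nd (nat_lit 74453) (Tr.lf (nat_lit 74441)) (Tr.nd (nat_lit 74471) (Tr.lf (nat_lit 74453)) (Tr.lf (nat_lit 74471))))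 (Tr.nd (nat_lit 74521) (Tr.nd (nat_lit 74507) (Tr.lf (nat_lit 74489)) (Tr.lf (nat_lit 74507))) (Tr.nd (nat_lit 74527) (Tr.lf (nat_lit 74521)) (Tr.lf (nat_lit 74527)))))) (Tr.nd (nat_lit 74611) (Tr.nd (nat_lit 74573) (Tr.nd (nat_lit 74551) (Tr.lf (nat_lit 74531)) (Tr.nd (nat_lit 74567) (Tr.lf (nat_lit 74551)) (Tr.lf (nat_lit 74567)))) (Tr.nd (nat_lit 74597) (Tr.nd (nat_lit 74587) (Tr.lf (nat_lit 74573)) (Tr.lf (nat_lit 74587))) (Tr.nd (nat_lit 74609) (Tr.lf (nat_lit 74597)) (Tr.lf (nat_lit 74609))))) (Tr.nd (nat_lit 74687) (Tr.nd (nat_lit 74623) (Tr.lf (nat_lit 74611)) (Tr.nd (nat_lit 74653) (Tr.lf (nat_lit 74623)) (Tr.lf (nat_lit 74653)))) (Tr.nd (nat_lit 74707) (Tr.nd (nat_lit 74699) (Tr.lf (nat_lit 74687)) (Tr.lf (nat_lit 74699))) (Tr.nd (nat_lit 74713) (Tr.lf (nat_lit 74707)) (Tr.lf (nat_lit 74713)))))))))) (Tr.nd (nat_lit 78277)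 (Tr.nd (nat_lit 76421) (Tr.nd (nat_lit 75707) (Tr.nd (nat_lit 75571) (Tr.nd (nat_lit 75503) (Tr.nd (nat_lit 75407) (Tr.nd (nat_lit 74719) (Tr.lf (nat_lit 74717)) (Tr.nd (nat_lit 74729) (Tr.lf (nat_lit 74719)) (Tr.lf (nat_lit 74729)))) (Tr.nd (nat_lit 75431) (Tr.lf (nat_lit 75407)) (Tr.nd (nat_lit 75479) (Tr.lf (nat_lit 75431)) (Tr.lf (nat_lit 75479))))) (Tr.nd (nat_lit 75533) (Tr.nd (nat_lit 75511) (Tr.lf (nat_lit 75503)) (Tr.nd (nat_lit 75521) (Tr.lf (nat_lit 75511)) (Tr.lf (nat_lit 75521)))) (Tr.nd (nat_lit 75541) (Tr.nd (nat_lit 75539) (Tr.lf (nat_lit 75533)) (Tr.lf (nat_lit 75539))) (Tr.nd (nat_lit 75553) (Tr.lf (nat_lit 75541)) (Tr.lf (nat_lit 75553)))))) (Tr.nd (nat_lit 75629) (Tr.nd (nat_lit 75611) (Tr.nd (nat_lit 75577) (Tr.lf (nat_lit 75571)) (Tr.nd (nat_lit 75583) (Tr.lf (nat_lit 75577)) (Tr.lf (nat_lit 75583)))) (Tr.nd (nat_lit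 75617) (Tr.lf (nat_lit 75611)) (Tr.nd (nat_lit 75619) (Tr.lf (nat_lit 75617)) (Tr.lf (nat_lit 75619))))) (Tr.nd (nat_lit 75659) (Tr.nd (nat_lit 75641) (Tr.lf (nat_lit 75629)) (Tr.nd (nat_lit 75653) (Tr.lf (nat_lit 75641)) (Tr.lf (nat_lit 75653)))) (Tr.nd (nat_lit 75683) (Tr.nd (nat_lit 75679) (Tr.lf (nat_lit 75659)) (Tr.lf (nat_lit 75679))) (Tr.nd (nat_lit 75689) (Tr.lf (nat_lit 75683)) (Tr.lf (nat_lit 75689))))))) (Tr.nd (nat_lit 76231) (Tr.nd (nat_lit 75781) (Tr.nd (nat_lit 75731) (Tr.nd (nat_lit 75709) (Tr.lf (nat_lit 75707)) (Tr.nd (nat_lit 75721) (Tr.lf (nat_lit 75709)) (Tr.lf (nat_lit 75721)))) (Tr.nd (nat_lit 75743) (Tr.lf (nat_lit 75731)) (Tr.nd (nat_lit 75767) (Tr.lf (nat_lit 75743)) (Tr.lf (nat_lit 75767))))) (Tr.nd (nat_lit 75797) (Tr.nd (nat_lit 75787) (Tr.lf (nat_lit 75781)) (Tr.nd (nat_lit 75793) (Tr.lf (nat_lit 75787))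 (Tr.lf (nat_lit 75793)))) (Tr.nd (nat_lit 75833) (Tr.nd (nat_lit 75821) (Tr.lf (nat_lit 75797)) (Tr.lf (nat_lit 75821))) (Tr.nd (nat_lit 75853) (Tr.lf (nat_lit 75833)) (Tr.lf (nat_lit 75853)))))) (Tr.nd (nat_lit 76303) (Tr.nd (nat_lit 76259) (Tr.nd (nat_lit 76249) (Tr.lf (nat_lit 76231)) (Tr.nd (nat_lit 76253) (Tr.lf (nat_lit 76249)) (Tr.lf (nat_lit 76253)))) (Tr.nd (nat_lit 76283) (Tr.lf (nat_lit 76259)) (Tr.nd (nat_lit 76289) (Tr.lf (nat_lit 76283)) (Tr.lf (nat_lit 76289))))) (Tr.nd (nat_lit 76369) (Tr.nd (nat_lit 76333) (Tr.lf (nat_lit 76303)) (Tr.nd (nat_lit 76367) (Tr.lf (nat_lit 76333)) (Tr.lf (nat_lit 76367)))) (Tr.nd (nat_lit 76387) (Tr.nd (nat_lit 76379) (Tr.lf (nat_lit 76369)) (Tr.lf (nat_lit 76379))) (Tr.nd (nat_lit 76403) (Tr.lf (nat_lit 76387)) (Tr.lf (nat_lit 76403)))))))) (Tr.nd (nat_lit 77647) (Tr.nd (nat_lit 77527) (Tr.nd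 (nat_lit 76487) (Tr.nd (nat_lit 76463) (Tr.nd (nat_lit 76423) (Tr.lf (nat_lit 76421)) (Tr.nd (nat_lit 76441) (Tr.lf (nat_lit 76423)) (Tr.lf (nat_lit 76441)))) (Tr.nd (nat_lit 76471) (Tr.lf (nat_lit 76463)) (Tr.nd (nat_lit 76481) (Tr.lf (nat_lit 76471)) (Tr.lf (nat_lit 76481))))) (Tr.nd (nat_lit 76511) (Tr.nd (nat_lit 76493) (Tr.lf (nat_lit 76487)) (Tr.nd (nat_lit 76507) (Tr.lf (nat_lit 76493)) (Tr.lf (nat_lit 76507)))) (Tr.nd (nat_lit 76537) (Tr.nd (nat_lit 76519) (Tr.lf (nat_lit 76511)) (Tr.lf (nat_lit 76519))) (Tr.nd (nat_lit 76541) (Tr.lf (nat_lit 76537)) (Tr.lf (nat_lit 76541)))))) (Tr.nd (nat_lit 77573) (Tr.nd (nat_lit 77557) (Tr.nd (nat_lit 77543) (Tr.lf (nat_lit 77527)) (Tr.nd (nat_lit 77549) (Tr.lf (nat_lit 77543)) (Tr.lf (nat_lit 77549)))) (Tr.nd (nat_lit 77563) (Tr.lf (nat_lit 77557)) (Tr.nd (nat_lit 77569) (Tr.lf (nat_lit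 77563)) (Tr.lf (nat_lit 77569))))) (Tr.nd (nat_lit 77611) (Tr.nd (nat_lit 77587) (Tr.lf (nat_lit 77573)) (Tr.nd (nat_lit 77591) (Tr.lf (nat_lit 77587)) (Tr.lf (nat_lit 77591)))) (Tr.nd (nat_lit 77621) (Tr.nd (nat_lit 77617) (Tr.lf (nat_lit 77611)) (Tr.lf (nat_lit 77617))) (Tr.nd (nat_lit 77641) (Tr.lf (nat_lit 77621)) (Tr.lf (nat_lit 77641))))))) (Tr.nd (nat_lit 77773) (Tr.nd (nat_lit 77711) (Tr.nd (nat_lit 77687) (Tr.nd (nat_lit 77659) (Tr.lf (nat_lit 77647)) (Tr.nd (nat_lit 77681) (Tr.lf (nat_lit 77659)) (Tr.lf (nat_lit 77681)))) (Tr.nd (nat_lit 77689) (Tr.lf (nat_lit 77687)) (Tr.nd (nat_lit 77699) (Tr.lf (nat_lit 77689)) (Tr.lf (nat_lit 77699))))) (Tr.nd (nat_lit 77723) (Tr.nd (nat_lit 77713) (Tr.lf (nat_lit 77711)) (Tr.nd (nat_lit 77719) (Tr.lf (nat_lit 77713)) (Tr.lf (nat_lit 77719)))) (Tr.nd (nat_lit 77743) (Tr.nd (nat_lit 77731)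 (Tr.lf (nat_lit 77723)) (Tr.lf (nat_lit 77731))) (Tr.nd (nat_lit 77747) (Tr.lf (nat_lit 77743)) (Tr.lf (nat_lit 77747)))))) (Tr.nd (nat_lit 77933) (Tr.nd (nat_lit 77839) (Tr.nd (nat_lit 77783) (Tr.lf (nat_lit 77773)) (Tr.nd (nat_lit 77797) (Tr.lf (nat_lit 77783)) (Tr.lf (nat_lit 77797)))) (Tr.nd (nat_lit 77867) (Tr.nd (nat_lit 77849) (Tr.lf (nat_lit 77839)) (Tr.lf (nat_lit 77849))) (Tr.nd (nat_lit 77893) (Tr.lf (nat_lit 77867)) (Tr.lf (nat_lit 77893))))) (Tr.nd (nat_lit 77977) (Tr.nd (nat_lit 77951) (Tr.lf (nat_lit 77933)) (Tr.nd (nat_lit 77969) (Tr.lf (nat_lit 77951)) (Tr.lf (nat_lit 77969)))) (Tr.nd (nat_lit 78233) (Tr.nd (nat_lit 78229) (Tr.lf (nat_lit 77977)) (Tr.lf (nat_lit 78229))) (Tr.nd (nat_lit 78259) (Tr.lf (nat_lit 78233)) (Tr.lf (nat_lit 78259))))))))) (Tr.nd (nat_lit 80153) (Tr.nd (nat_lit 79847) (Tr.nd (nat_lit 78467) (Tr.nd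 (nat_lit 78341) (Tr.nd (nat_lit 78307) (Tr.nd (nat_lit 78283) (Tr.lf (nat_lit 78277)) (Tr.nd (nat_lit 78301) (Tr.lf (nat_lit 78283)) (Tr.lf (nat_lit 78301)))) (Tr.nd (nat_lit 78311) (Tr.lf (nat_lit 78307)) (Tr.nd (nat_lit 78317) (Tr.lf (nat_lit 78311)) (Tr.lf (nat_lit 78317))))) (Tr.nd (nat_lit 78401) (Tr.nd (nat_lit 78347) (Tr.lf (nat_lit 78341)) (Tr.nd (nat_lit 78367) (Tr.lf (nat_lit 78347)) (Tr.lf (nat_lit 78367)))) (Tr.nd (nat_lit 78437) (Tr.nd (nat_lit 78427) (Tr.lf (nat_lit 78401)) (Tr.lf (nat_lit 78427))) (Tr.nd (nat_lit 78439) (Tr.lf (nat_lit 78437)) (Tr.lf (nat_lit 78439)))))) (Tr.nd (nat_lit 78517) (Tr.nd (nat_lit 78497) (Tr.nd (nat_lit 78479) (Tr.lf (nat_lit 78467)) (Tr.nd (nat_lit 78487) (Tr.lf (nat_lit 78479)) (Tr.lf (nat_lit 78487)))) (Tr.nd (nat_lit 78509) (Tr.lf (nat_lit 78497)) (Tr.nd (nat_lit 78511) (Tr.lf (nat_lit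 78509)) (Tr.lf (nat_lit 78511))))) (Tr.nd (nat_lit 79823) (Tr.nd (nat_lit 78539) (Tr.lf (nat_lit 78517)) (Tr.nd (nat_lit 79231) (Tr.lf (nat_lit 78539)) (Tr.lf (nat_lit 79231)))) (Tr.nd (nat_lit 79841) (Tr.nd (nat_lit 79829) (Tr.lf (nat_lit 79823)) (Tr.lf (nat_lit 79829))) (Tr.nd (nat_lit 79843) (Tr.lf (nat_lit 79841)) (Tr.lf (nat_lit 79843))))))) (Tr.nd (nat_lit 79987) (Tr.nd (nat_lit 79903) (Tr.nd (nat_lit 79873) (Tr.nd (nat_lit 79861) (Tr.lf (nat_lit 79847)) (Tr.nd (nat_lit 79867) (Tr.lf (nat_lit 79861)) (Tr.lf (nat_lit 79867)))) (Tr.nd (nat_lit 79889) (Tr.lf (nat_lit 79873)) (Tr.nd (nat_lit 79901) (Tr.lf (nat_lit 79889)) (Tr.lf (nat_lit 79901))))) (Tr.nd (nat_lit 79943) (Tr.nd (nat_lit 79907) (Tr.lf (nat_lit 79903)) (Tr.nd (nat_lit 79939) (Tr.lf (nat_lit 79907)) (Tr.lf (nat_lit 79939)))) (Tr.nd (nat_lit 79973) (Tr.nd (nat_lit 79967)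 (Tr.lf (nat_lit 79943)) (Tr.lf (nat_lit 79967))) (Tr.nd (nat_lit 79979) (Tr.lf (nat_lit 79973)) (Tr.lf (nat_lit 79979)))))) (Tr.nd (nat_lit 80071) (Tr.nd (nat_lit 80021) (Tr.nd (nat_lit 79997) (Tr.lf (nat_lit 79987)) (Tr.nd (nat_lit 79999) (Tr.lf (nat_lit 79997)) (Tr.lf (nat_lit 79999)))) (Tr.nd (nat_lit 80039) (Tr.lf (nat_lit 80021)) (Tr.nd (nat_lit 80051) (Tr.lf (nat_lit 80039)) (Tr.lf (nat_lit 80051))))) (Tr.nd (nat_lit 80111) (Tr.nd (nat_lit 80077) (Tr.lf (nat_lit 80071)) (Tr.nd (nat_lit 80107) (Tr.lf (nat_lit 80077)) (Tr.lf (nat_lit 80107)))) (Tr.nd (nat_lit 80147) (Tr.nd (nat_lit 80141) (Tr.lf (nat_lit 80111)) (Tr.lf (nat_lit 80141))) (Tr.nd (nat_lit 80149) (Tr.lf (nat_lit 80147)) (Tr.lf (nat_lit 80149)))))))) (Tr.nd (nat_lit 80611) (Tr.nd (nat_lit 80447) (Tr.nd (nat_lit 80231) (Tr.nd (nat_lit 80177) (Tr.nd (nat_lit 80167) (Tr.lf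 (nat_lit 80153)) (Tr.nd (nat_lit 80173) (Tr.lf (nat_lit 80167)) (Tr.lf (nat_lit 80173)))) (Tr.nd (nat_lit 80191) (Tr.lf (nat_lit 80177)) (Tr.nd (nat_lit 80207) (Tr.lf (nat_lit 80191)) (Tr.lf (nat_lit 80207))))) (Tr.nd (nat_lit 80369) (Tr.nd (nat_lit 80263) (Tr.lf (nat_lit 80231)) (Tr.nd (nat_lit 80273) (Tr.lf (nat_lit 80263)) (Tr.lf (nat_lit 80273)))) (Tr.nd (nat_lit 80407) (Tr.nd (nat_lit 80387) (Tr.lf (nat_lit 80369)) (Tr.lf (nat_lit 80387))) (Tr.nd (nat_lit 80429) (Tr.lf (nat_lit 80407)) (Tr.lf (nat_lit 80429)))))) (Tr.nd (nat_lit 80513) (Tr.nd (nat_lit 80473) (Tr.nd (nat_lit 80449) (Tr.lf (nat_lit 80447)) (Tr.nd (nat_lit 80471) (Tr.lf (nat_lit 80449)) (Tr.lf (nat_lit 80471)))) (Tr.nd (nat_lit 80489) (Tr.lf (nat_lit 80473)) (Tr.nd (nat_lit 80491) (Tr.lf (nat_lit 80489)) (Tr.lf (nat_lit 80491))))) (Tr.nd (nat_lit 80557) (Tr.nd (nat_lit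 80527) (Tr.lf (nat_lit 80513)) (Tr.nd (nat_lit 80537) (Tr.lf (nat_lit 80527)) (Tr.lf (nat_lit 80537)))) (Tr.nd (nat_lit 80599) (Tr.nd (nat_lit 80567) (Tr.lf (nat_lit 80557)) (Tr.lf (nat_lit 80567))) (Tr.nd (nat_lit 80603) (Tr.lf (nat_lit 80599)) (Tr.lf (nat_lit 80603))))))) (Tr.nd (nat_lit 82039) (Tr.nd (nat_lit 81517) (Tr.nd (nat_lit 81343) (Tr.nd (nat_lit 80831) (Tr.lf (nat_lit 80611)) (Tr.nd (nat_lit 81203) (Tr.lf (nat_lit 80831)) (Tr.lf (nat_lit 81203)))) (Tr.nd (nat_lit 81421) (Tr.lf (nat_lit 81343)) (Tr.nd (nat_lit 81509) (Tr.lf (nat_lit 81421)) (Tr.lf (nat_lit 81509))))) (Tr.nd (nat_lit 82013) (Tr.nd (nat_lit 82007) (Tr.lf (nat_lit 81517)) (Tr.nd (nat_lit 82009) (Tr.lf (nat_lit 82007)) (Tr.lf (nat_lit 82009)))) (Tr.nd (nat_lit 82031) (Tr.nd (nat_lit 82021) (Tr.lf (nat_lit 82013)) (Tr.lf (nat_lit 82021))) (Tr.nd (nat_lit 82037)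 (Tr.lf (nat_lit 82031)) (Tr.lf (nat_lit 82037)))))) (Tr.nd (nat_lit 82153) (Tr.nd (nat_lit 82073) (Tr.nd (nat_lit 82051) (Tr.lf (nat_lit 82039)) (Tr.nd (nat_lit 82067) (Tr.lf (nat_lit 82051)) (Tr.lf (nat_lit 82067)))) (Tr.nd (nat_lit 82139) (Tr.nd (nat_lit 82129) (Tr.lf (nat_lit 82073)) (Tr.lf (nat_lit 82129))) (Tr.nd (nat_lit 82141) (Tr.lf (nat_lit 82139)) (Tr.lf (nat_lit 82141))))) (Tr.nd (nat_lit 82183) (Tr.nd (nat_lit 82163) (Tr.lf (nat_lit 82153)) (Tr.nd (nat_lit 82171) (Tr.lf (nat_lit 82163)) (Tr.lf (nat_lit 82171)))) (Tr.nd (nat_lit 82193) (Tr.nd (nat_lit 82189) (Tr.lf (nat_lit 82183)) (Tr.lf (nat_lit 82189))) (Tr.nd (nat_lit 82207) (Tr.lf (nat_lit 82193)) (Tr.lf (nat_lit 82207))))))))))) (Tr.nd (nat_lit 89209) (Tr.nd (nat_lit 86257) (Tr.nd (nat_lit 84431) (Tr.nd (nat_lit 83383) (Tr.nd (nat_lit 82457) (Tr.nd (nat_lit 82261) (Tr.nd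 (nat_lit 82231) (Tr.nd (nat_lit 82219) (Tr.lf (nat_lit 82217)) (Tr.nd (nat_lit 82223) (Tr.lf (nat_lit 82219)) (Tr.lf (nat_lit 82223)))) (Tr.nd (nat_lit 82237) (Tr.lf (nat_lit 82231)) (Tr.nd (nat_lit 82241) (Tr.lf (nat_lit 82237)) (Tr.lf (nat_lit 82241))))) (Tr.nd (nat_lit 82301) (Tr.nd (nat_lit 82267) (Tr.lf (nat_lit 82261)) (Tr.nd (nat_lit 82279) (Tr.lf (nat_lit 82267)) (Tr.lf (nat_lit 82279)))) (Tr.nd (nat_lit 82339) (Tr.nd (nat_lit 82307) (Tr.lf (nat_lit 82301)) (Tr.lf (nat_lit 82307))) (Tr.nd (nat_lit 82349) (Tr.lf (nat_lit 82339)) (Tr.lf (nat_lit 82349)))))) (Tr.nd (nat_lit 82609) (Tr.nd (nat_lit 82471) (Tr.nd (nat_lit 82463) (Tr.lf (nat_lit 82457)) (Tr.nd (nat_lit 82469) (Tr.lf (nat_lit 82463)) (Tr.lf (nat_lit 82469)))) (Tr.nd (nat_lit 82483) (Tr.lf (nat_lit 82471)) (Tr.nd (nat_lit 82487) (Tr.lf (nat_lit 82483)) (Tr.lf (nat_lit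 82487))))) (Tr.nd (nat_lit 82889) (Tr.nd (nat_lit 82763) (Tr.lf (nat_lit 82609)) (Tr.nd (nat_lit 82813) (Tr.lf (nat_lit 82763)) (Tr.lf (nat_lit 82813)))) (Tr.nd (nat_lit 83231) (Tr.nd (nat_lit 82891) (Tr.lf (nat_lit 82889)) (Tr.lf (nat_lit 82891))) (Tr.nd (nat_lit 83311) (Tr.lf (nat_lit 83231)) (Tr.lf (nat_lit 83311))))))) (Tr.nd (nat_lit 84247) (Tr.nd (nat_lit 83621) (Tr.nd (nat_lit 83477) (Tr.nd (nat_lit 83389) (Tr.lf (nat_lit 83383)) (Tr.nd (nat_lit 83449) (Tr.lf (nat_lit 83389)) (Tr.lf (nat_lit 83449)))) (Tr.nd (nat_lit 83497) (Tr.lf (nat_lit 83477)) (Tr.nd (nat_lit 83617) (Tr.lf (nat_lit 83497)) (Tr.lf (nat_lit 83617))))) (Tr.nd (nat_lit 83717) (Tr.nd (nat_lit 83639) (Tr.lf (nat_lit 83621)) (Tr.nd (nat_lit 83701) (Tr.lf (nat_lit 83639)) (Tr.lf (nat_lit 83701)))) (Tr.nd (nat_lit 83737) (Tr.nd (nat_lit 83719) (Tr.lf (nat_lit 83717))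 (Tr.lf (nat_lit 83719))) (Tr.nd (nat_lit 83761) (Tr.lf (nat_lit 83737)) (Tr.lf (nat_lit 83761)))))) (Tr.nd (nat_lit 84349) (Tr.nd (nat_lit 84317) (Tr.nd (nat_lit 84307) (Tr.lf (nat_lit 84247)) (Tr.nd (nat_lit 84313) (Tr.lf (nat_lit 84307)) (Tr.lf (nat_lit 84313)))) (Tr.nd (nat_lit 84319) (Tr.lf (nat_lit 84317)) (Tr.nd (nat_lit 84347) (Tr.lf (nat_lit 84319)) (Tr.lf (nat_lit 84347))))) (Tr.nd (nat_lit 84391) (Tr.nd (nat_lit 84377) (Tr.lf (nat_lit 84349)) (Tr.nd (nat_lit 84389) (Tr.lf (nat_lit 84377)) (Tr.lf (nat_lit 84389)))) (Tr.nd (nat_lit 84407) (Tr.nd (nat_lit 84401) (Tr.lf (nat_lit 84391)) (Tr.lf (nat_lit 84401))) (Tr.nd (nat_lit 84421) (Tr.lf (nat_lit 84407)) (Tr.lf (nat_lit 84421)))))))) (Tr.nd (nat_lit 85517) (Tr.nd (nat_lit 84811) (Tr.nd (nat_lit 84467) (Tr.nd (nat_lit 84449) (Tr.nd (nat_lit 84437) (Tr.lf (nat_lit 84431)) (Tr.nd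 (nat_lit 84443) (Tr.lf (nat_lit 84437)) (Tr.lf (nat_lit 84443)))) (Tr.nd (nat_lit 84457) (Tr.lf (nat_lit 84449)) (Tr.nd (nat_lit 84463) (Tr.lf (nat_lit 84457)) (Tr.lf (nat_lit 84463))))) (Tr.nd (nat_lit 84503) (Tr.nd (nat_lit 84481) (Tr.lf (nat_lit 84467)) (Tr.nd (nat_lit 84499) (Tr.lf (nat_lit 84481)) (Tr.lf (nat_lit 84499)))) (Tr.nd (nat_lit 84701) (Tr.nd (nat_lit 84509) (Tr.lf (nat_lit 84503)) (Tr.lf (nat_lit 84509))) (Tr.nd (nat_lit 84761) (Tr.lf (nat_lit 84701)) (Tr.lf (nat_lit 84761)))))) (Tr.nd (nat_lit 85109) (Tr.nd (nat_lit 85037) (Tr.nd (nat_lit 84827) (Tr.lf (nat_lit 84811)) (Tr.nd (nat_lit 85009) (Tr.lf (nat_lit 84827)) (Tr.lf (nat_lit 85009)))) (Tr.nd (nat_lit 85049) (Tr.lf (nat_lit 85037)) (Tr.nd (nat_lit 85103) (Tr.lf (nat_lit 85049)) (Tr.lf (nat_lit 85103))))) (Tr.nd (nat_lit 85201) (Tr.nd (nat_lit 85121) (Tr.lf (nat_lit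 85109)) (Tr.nd (nat_lit 85199) (Tr.lf (nat_lit 85121)) (Tr.lf (nat_lit 85199)))) (Tr.nd (nat_lit 85223) (Tr.nd (nat_lit 85213) (Tr.lf (nat_lit 85201)) (Tr.lf (nat_lit 85213))) (Tr.nd (nat_lit 85229) (Tr.lf (nat_lit 85223)) (Tr.lf (nat_lit 85229))))))) (Tr.nd (nat_lit 85933) (Tr.nd (nat_lit 85703) (Tr.nd (nat_lit 85627) (Tr.nd (nat_lit 85523) (Tr.lf (nat_lit 85517)) (Tr.nd (nat_lit 85621) (Tr.lf (nat_lit 85523)) (Tr.lf (nat_lit 85621)))) (Tr.nd (nat_lit 85639) (Tr.lf (nat_lit 85627)) (Tr.nd (nat_lit 85691) (Tr.lf (nat_lit 85639)) (Tr.lf (nat_lit 85691))))) (Tr.nd (nat_lit 85733) (Tr.nd (nat_lit 85711) (Tr.lf (nat_lit 85703)) (Tr.nd (nat_lit 85717) (Tr.lf (nat_lit 85711)) (Tr.lf (nat_lit 85717)))) (Tr.nd (nat_lit 85853) (Tr.nd (nat_lit 85847) (Tr.lf (nat_lit 85733)) (Tr.lf (nat_lit 85847))) (Tr.nd (nat_lit 85889) (Tr.lf (nat_lit 85853))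 (Tr.lf (nat_lit 85889)))))) (Tr.nd (nat_lit 86143) (Tr.nd (nat_lit 86011) (Tr.nd (nat_lit 85991) (Tr.lf (nat_lit 85933)) (Tr.nd (nat_lit 85999) (Tr.lf (nat_lit 85991)) (Tr.lf (nat_lit 85999)))) (Tr.nd (nat_lit 86131) (Tr.nd (nat_lit 86017) (Tr.lf (nat_lit 86011)) (Tr.lf (nat_lit 86017))) (Tr.nd (nat_lit 86137) (Tr.lf (nat_lit 86131)) (Tr.lf (nat_lit 86137))))) (Tr.nd (nat_lit 86209) (Tr.nd (nat_lit 86161) (Tr.lf (nat_lit 86143)) (Tr.nd (nat_lit 86171) (Tr.lf (nat_lit 86161)) (Tr.lf (nat_lit 86171)))) (Tr.nd (nat_lit 86243) (Tr.nd (nat_lit 86239) (Tr.lf (nat_lit 86209)) (Tr.lf (nat_lit 86239))) (Tr.nd (nat_lit 86249) (Tr.lf (nat_lit 86243)) (Tr.lf (nat_lit 86249))))))))) (Tr.nd (nat_lit 87739) (Tr.nd (nat_lit 87211) (Tr.nd (nat_lit 86771) (Tr.nd (nat_lit 86689) (Tr.nd (nat_lit 86287) (Tr.nd (nat_lit 86263) (Tr.lf (nat_lit 86257)) (Tr.nd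 (nat_lit 86269) (Tr.lf (nat_lit 86263)) (Tr.lf (nat_lit 86269)))) (Tr.nd (nat_lit 86381) (Tr.lf (nat_lit 86287)) (Tr.nd (nat_lit 86599) (Tr.lf (nat_lit 86381)) (Tr.lf (nat_lit 86599))))) (Tr.nd (nat_lit 86729) (Tr.nd (nat_lit 86693) (Tr.lf (nat_lit 86689)) (Tr.nd (nat_lit 86719) (Tr.lf (nat_lit 86693)) (Tr.lf (nat_lit 86719)))) (Tr.nd (nat_lit 86753) (Tr.nd (nat_lit 86743) (Tr.lf (nat_lit 86729)) (Tr.lf (nat_lit 86743))) (Tr.nd (nat_lit 86767) (Tr.lf (nat_lit 86753)) (Tr.lf (nat_lit 86767)))))) (Tr.nd (nat_lit 86857) (Tr.nd (nat_lit 86837) (Tr.nd (nat_lit 86783) (Tr.lf (nat_lit 86771)) (Tr.nd (nat_lit 86813) (Tr.lf (nat_lit 86783)) (Tr.lf (nat_lit 86813)))) (Tr.nd (nat_lit 86843) (Tr.lf (nat_lit 86837)) (Tr.nd (nat_lit 86851) (Tr.lf (nat_lit 86843)) (Tr.lf (nat_lit 86851))))) (Tr.nd (nat_lit 87107) (Tr.nd (nat_lit 86861) (Tr.lf (nat_lit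 86857)) (Tr.nd (nat_lit 86869) (Tr.lf (nat_lit 86861)) (Tr.lf (nat_lit 86869)))) (Tr.nd (nat_lit 87181) (Tr.nd (nat_lit 87119) (Tr.lf (nat_lit 87107)) (Tr.lf (nat_lit 87119))) (Tr.nd (nat_lit 87187) (Tr.lf (nat_lit 87181)) (Tr.lf (nat_lit 87187))))))) (Tr.nd (nat_lit 87587) (Tr.nd (nat_lit 87481) (Tr.nd (nat_lit 87281) (Tr.nd (nat_lit 87257) (Tr.lf (nat_lit 87211)) (Tr.nd (nat_lit 87277) (Tr.lf (nat_lit 87257)) (Tr.lf (nat_lit 87277)))) (Tr.nd (nat_lit 87293) (Tr.lf (nat_lit 87281)) (Tr.nd (nat_lit 87299) (Tr.lf (nat_lit 87293)) (Tr.lf (nat_lit 87299))))) (Tr.nd (nat_lit 87539) (Tr.nd (nat_lit 87491) (Tr.lf (nat_lit 87481)) (Tr.nd (nat_lit 87509) (Tr.lf (nat_lit 87491)) (Tr.lf (nat_lit 87509)))) (Tr.nd (nat_lit 87547) (Tr.nd (nat_lit 87541) (Tr.lf (nat_lit 87539)) (Tr.lf (nat_lit 87541))) (Tr.nd (nat_lit 87553) (Tr.lf (nat_lit 87547))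 (Tr.lf (nat_lit 87553)))))) (Tr.nd (nat_lit 87641) (Tr.nd (nat_lit 87623) (Tr.nd (nat_lit 87589) (Tr.lf (nat_lit 87587)) (Tr.nd (nat_lit 87613) (Tr.lf (nat_lit 87589)) (Tr.lf (nat_lit 87613)))) (Tr.nd (nat_lit 87629) (Tr.lf (nat_lit 87623)) (Tr.nd (nat_lit 87631) (Tr.lf (nat_lit 87629)) (Tr.lf (nat_lit 87631))))) (Tr.nd (nat_lit 87697) (Tr.nd (nat_lit 87683) (Tr.lf (nat_lit 87641)) (Tr.nd (nat_lit 87691) (Tr.lf (nat_lit 87683)) (Tr.lf (nat_lit 87691)))) (Tr.nd (nat_lit 87719) (Tr.nd (nat_lit 87701) (Tr.lf (nat_lit 87697)) (Tr.lf (nat_lit 87701))) (Tr.nd (nat_lit 87721) (Tr.lf (nat_lit 87719)) (Tr.lf (nat_lit 87721)))))))) (Tr.nd (nat_lit 88681) (Tr.nd (nat_lit 88289) (Tr.nd (nat_lit 88019) (Tr.nd (nat_lit 88001) (Tr.nd (nat_lit 87743) (Tr.lf (nat_lit 87739)) (Tr.nd (nat_lit 87931) (Tr.lf (nat_lit 87743)) (Tr.lf (nat_lit 87931)))) (Tr.nd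 (nat_lit 88003) (Tr.lf (nat_lit 88001)) (Tr.nd (nat_lit 88007) (Tr.lf (nat_lit 88003)) (Tr.lf (nat_lit 88007))))) (Tr.nd (nat_lit 88237) (Tr.nd (nat_lit 88211) (Tr.lf (nat_lit 88019)) (Tr.nd (nat_lit 88223) (Tr.lf (nat_lit 88211)) (Tr.lf (nat_lit 88223)))) (Tr.nd (nat_lit 88259) (Tr.nd (nat_lit 88241) (Tr.lf (nat_lit 88237)) (Tr.lf (nat_lit 88241))) (Tr.nd (nat_lit 88261) (Tr.lf (nat_lit 88259)) (Tr.lf (nat_lit 88261)))))) (Tr.nd (nat_lit 88427) (Tr.nd (nat_lit 88397) (Tr.nd (nat_lit 88339) (Tr.lf (nat_lit 88289)) (Tr.nd (nat_lit 88379) (Tr.lf (nat_lit 88339)) (Tr.lf (nat_lit 88379)))) (Tr.nd (nat_lit 88411) (Tr.lf (nat_lit 88397)) (Tr.nd (nat_lit 88423) (Tr.lf (nat_lit 88411)) (Tr.lf (nat_lit 88423))))) (Tr.nd (nat_lit 88643) (Tr.nd (nat_lit 88463) (Tr.lf (nat_lit 88427)) (Tr.nd (nat_lit 88469) (Tr.lf (nat_lit 88463)) (Tr.lf (nat_lit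 88469)))) (Tr.nd (nat_lit 88657) (Tr.nd (nat_lit 88651) (Tr.lf (nat_lit 88643)) (Tr.lf (nat_lit 88651))) (Tr.nd (nat_lit 88661) (Tr.lf (nat_lit 88657)) (Tr.lf (nat_lit 88661))))))) (Tr.nd (nat_lit 88919) (Tr.nd (nat_lit 88789) (Tr.nd (nat_lit 88741) (Tr.nd (nat_lit 88721) (Tr.lf (nat_lit 88681)) (Tr.nd (nat_lit 88729) (Tr.lf (nat_lit 88721)) (Tr.lf (nat_lit 88729)))) (Tr.nd (nat_lit 88747) (Tr.lf (nat_lit 88741)) (Tr.nd (nat_lit 88771) (Tr.lf (nat_lit 88747)) (Tr.lf (nat_lit 88771))))) (Tr.nd (nat_lit 88843) (Tr.nd (nat_lit 88817) (Tr.lf (nat_lit 88789)) (Tr.nd (nat_lit 88819) (Tr.lf (nat_lit 88817)) (Tr.lf (nat_lit 88819)))) (Tr.nd (nat_lit 88861) (Tr.nd (nat_lit 88853) (Tr.lf (nat_lit 88843)) (Tr.lf (nat_lit 88853))) (Tr.nd (nat_lit 88903) (Tr.lf (nat_lit 88861)) (Tr.lf (nat_lit 88903)))))) (Tr.nd (nat_lit 89009) (Tr.nd (nat_lit 88969)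 (Tr.nd (nat_lit 88937) (Tr.lf (nat_lit 88919)) (Tr.nd (nat_lit 88951) (Tr.lf (nat_lit 88937)) (Tr.lf (nat_lit 88951)))) (Tr.nd (nat_lit 88997) (Tr.nd (nat_lit 88993) (Tr.lf (nat_lit 88969)) (Tr.lf (nat_lit 88993))) (Tr.nd (nat_lit 89003) (Tr.lf (nat_lit 88997)) (Tr.lf (nat_lit 89003))))) (Tr.nd (nat_lit 89051) (Tr.nd (nat_lit 89017) (Tr.lf (nat_lit 89009)) (Tr.nd (nat_lit 89021) (Tr.lf (nat_lit 89017)) (Tr.lf (nat_lit 89021)))) (Tr.nd (nat_lit 89107) (Tr.nd (nat_lit 89083) (Tr.lf (nat_lit 89051)) (Tr.lf (nat_lit 89083))) (Tr.nd (nat_lit 89113) (Tr.lf (nat_lit 89107)) (Tr.lf (nat_lit 89113)))))))))) (Tr.nd (nat_lit 91459) (Tr.nd (nat_lit 90359) (Tr.nd (nat_lit 89899) (Tr.nd (nat_lit 89491) (Tr.nd (nat_lit 89413) (Tr.nd (nat_lit 89381) (Tr.nd (nat_lit 89237) (Tr.lf (nat_lit 89209)) (Tr.nd (nat_lit 89371) (Tr.lf (nat_lit 89237)) (Tr.lf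 (nat_lit 89371)))) (Tr.nd (nat_lit 89393) (Tr.lf (nat_lit 89381)) (Tr.nd (nat_lit 89399) (Tr.lf (nat_lit 89393)) (Tr.lf (nat_lit 89399))))) (Tr.nd (nat_lit 89443) (Tr.nd (nat_lit 89417) (Tr.lf (nat_lit 89413)) (Tr.nd (nat_lit 89431) (Tr.lf (nat_lit 89417)) (Tr.lf (nat_lit 89431)))) (Tr.nd (nat_lit 89459) (Tr.nd (nat_lit 89449) (Tr.lf (nat_lit 89443)) (Tr.lf (nat_lit 89449))) (Tr.nd (nat_lit 89477) (Tr.lf (nat_lit 89459)) (Tr.lf (nat_lit 89477)))))) (Tr.nd (nat_lit 89783) (Tr.nd (nat_lit 89671) (Tr.nd (nat_lit 89501) (Tr.lf (nat_lit 89491)) (Tr.nd (nat_lit 89669) (Tr.lf (nat_lit 89501)) (Tr.lf (nat_lit 89669)))) (Tr.nd (nat_lit 89681) (Tr.lf (nat_lit 89671)) (Tr.nd (nat_lit 89689) (Tr.lf (nat_lit 89681)) (Tr.lf (nat_lit 89689))))) (Tr.nd (nat_lit 89819) (Tr.nd (nat_lit 89797) (Tr.lf (nat_lit 89783)) (Tr.nd (nat_lit 89809) (Tr.lf (nat_lit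 89797)) (Tr.lf (nat_lit 89809)))) (Tr.nd (nat_lit 89833) (Tr.nd (nat_lit 89821) (Tr.lf (nat_lit 89819)) (Tr.lf (nat_lit 89821))) (Tr.nd (nat_lit 89839) (Tr.lf (nat_lit 89833)) (Tr.lf (nat_lit 89839))))))) (Tr.nd (nat_lit 90173) (Tr.nd (nat_lit 89963) (Tr.nd (nat_lit 89923) (Tr.nd (nat_lit 89909) (Tr.lf (nat_lit 89899)) (Tr.nd (nat_lit 89917) (Tr.lf (nat_lit 89909)) (Tr.lf (nat_lit 89917)))) (Tr.nd (nat_lit 89939) (Tr.lf (nat_lit 89923)) (Tr.nd (nat_lit 89959) (Tr.lf (nat_lit 89939)) (Tr.lf (nat_lit 89959))))) (Tr.nd (nat_lit 90121) (Tr.nd (nat_lit 89977) (Tr.lf (nat_lit 89963)) (Tr.nd (nat_lit 90107) (Tr.lf (nat_lit 89977)) (Tr.lf (nat_lit 90107)))) (Tr.nd (nat_lit 90149) (Tr.nd (nat_lit 90127) (Tr.lf (nat_lit 90121)) (Tr.lf (nat_lit 90127))) (Tr.nd (nat_lit 90163) (Tr.lf (nat_lit 90149)) (Tr.lf (nat_lit 90163)))))) (Tr.nd (nat_lit 90239)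 (Tr.nd (nat_lit 90203) (Tr.nd (nat_lit 90197) (Tr.lf (nat_lit 90173)) (Tr.nd (nat_lit 90199) (Tr.lf (nat_lit 90197)) (Tr.lf (nat_lit 90199)))) (Tr.nd (nat_lit 90217) (Tr.lf (nat_lit 90203)) (Tr.nd (nat_lit 90227) (Tr.lf (nat_lit 90217)) (Tr.lf (nat_lit 90227))))) (Tr.nd (nat_lit 90281) (Tr.nd (nat_lit 90263) (Tr.lf (nat_lit 90239)) (Tr.nd (nat_lit 90271) (Tr.lf (nat_lit 90263)) (Tr.lf (nat_lit 90271)))) (Tr.nd (nat_lit 90313) (Tr.nd (nat_lit 90289) (Tr.lf (nat_lit 90281)) (Tr.lf (nat_lit 90289))) (Tr.nd (nat_lit 90353) (Tr.lf (nat_lit 90313)) (Tr.lf (nat_lit 90353)))))))) (Tr.nd (nat_lit 91009) (Tr.nd (nat_lit 90529) (Tr.nd (nat_lit 90469) (Tr.nd (nat_lit 90379) (Tr.nd (nat_lit 90371) (Tr.lf (nat_lit 90359)) (Tr.nd (nat_lit 90373) (Tr.lf (nat_lit 90371)) (Tr.lf (nat_lit 90373)))) (Tr.nd (nat_lit 90397) (Tr.lf (nat_lit 90379)) (Tr.nd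 (nat_lit 90439) (Tr.lf (nat_lit 90397)) (Tr.lf (nat_lit 90439))))) (Tr.nd (nat_lit 90499) (Tr.nd (nat_lit 90473) (Tr.lf (nat_lit 90469)) (Tr.nd (nat_lit 90481) (Tr.lf (nat_lit 90473)) (Tr.lf (nat_lit 90481)))) (Tr.nd (nat_lit 90523) (Tr.nd (nat_lit 90511) (Tr.lf (nat_lit 90499)) (Tr.lf (nat_lit 90511))) (Tr.nd (nat_lit 90527) (Tr.lf (nat_lit 90523)) (Tr.lf (nat_lit 90527)))))) (Tr.nd (nat_lit 90749) (Tr.nd (nat_lit 90583) (Tr.nd (nat_lit 90533) (Tr.lf (nat_lit 90529)) (Tr.nd (nat_lit 90547) (Tr.lf (nat_lit 90533)) (Tr.lf (nat_lit 90547)))) (Tr.nd (nat_lit 90599) (Tr.lf (nat_lit 90583)) (Tr.nd (nat_lit 90641) (Tr.lf (nat_lit 90599)) (Tr.lf (nat_lit 90641))))) (Tr.nd (nat_lit 90863) (Tr.nd (nat_lit 90841) (Tr.lf (nat_lit 90749)) (Tr.nd (nat_lit 90847) (Tr.lf (nat_lit 90841)) (Tr.lf (nat_lit 90847)))) (Tr.nd (nat_lit 90901) (Tr.nd (nat_lit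 90887) (Tr.lf (nat_lit 90863)) (Tr.lf (nat_lit 90887))) (Tr.nd (nat_lit 90997) (Tr.lf (nat_lit 90901)) (Tr.lf (nat_lit 90997))))))) (Tr.nd (nat_lit 91199) (Tr.nd (nat_lit 91099) (Tr.nd (nat_lit 91079) (Tr.nd (nat_lit 91019) (Tr.lf (nat_lit 91009)) (Tr.nd (nat_lit 91033) (Tr.lf (nat_lit 91019)) (Tr.lf (nat_lit 91033)))) (Tr.nd (nat_lit 91081) (Tr.lf (nat_lit 91079)) (Tr.nd (nat_lit 91097) (Tr.lf (nat_lit 91081)) (Tr.lf (nat_lit 91097))))) (Tr.nd (nat_lit 91159) (Tr.nd (nat_lit 91121) (Tr.lf (nat_lit 91099)) (Tr.nd (nat_lit 91127) (Tr.lf (nat_lit 91121)) (Tr.lf (nat_lit 91127)))) (Tr.nd (nat_lit 91183) (Tr.nd (nat_lit 91163) (Tr.lf (nat_lit 91159)) (Tr.lf (nat_lit 91163))) (Tr.nd (nat_lit 91193) (Tr.lf (nat_lit 91183)) (Tr.lf (nat_lit 91193)))))) (Tr.nd (nat_lit 91291) (Tr.nd (nat_lit 91243) (Tr.nd (nat_lit 91229) (Tr.lf (nat_lit 91199))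 (Tr.nd (nat_lit 91237) (Tr.lf (nat_lit 91229)) (Tr.lf (nat_lit 91237)))) (Tr.nd (nat_lit 91253) (Tr.nd (nat_lit 91249) (Tr.lf (nat_lit 91243)) (Tr.lf (nat_lit 91249))) (Tr.nd (nat_lit 91283) (Tr.lf (nat_lit 91253)) (Tr.lf (nat_lit 91283))))) (Tr.nd (nat_lit 91411) (Tr.nd (nat_lit 91331) (Tr.lf (nat_lit 91291)) (Tr.nd (nat_lit 91397) (Tr.lf (nat_lit 91331)) (Tr.lf (nat_lit 91397)))) (Tr.nd (nat_lit 91453) (Tr.nd (nat_lit 91433) (Tr.lf (nat_lit 91411)) (Tr.lf (nat_lit 91433))) (Tr.nd (nat_lit 91457) (Tr.lf (nat_lit 91453)) (Tr.lf (nat_lit 91457))))))))) (Tr.nd (nat_lit 92507) (Tr.nd (nat_lit 91873) (Tr.nd (nat_lit 91703) (Tr.nd (nat_lit 91573) (Tr.nd (nat_lit 91499) (Tr.nd (nat_lit 91463) (Tr.lf (nat_lit 91459)) (Tr.nd (nat_lit 91493) (Tr.lf (nat_lit 91463)) (Tr.lf (nat_lit 91493)))) (Tr.nd (nat_lit 91513) (Tr.lf (nat_lit 91499)) (Tr.nd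 (nat_lit 91541) (Tr.lf (nat_lit 91513)) (Tr.lf (nat_lit 91541))))) (Tr.nd (nat_lit 91621) (Tr.nd (nat_lit 91577) (Tr.lf (nat_lit 91573)) (Tr.nd (nat_lit 91583) (Tr.lf (nat_lit 91577)) (Tr.lf (nat_lit 91583)))) (Tr.nd (nat_lit 91673) (Tr.nd (nat_lit 91639) (Tr.lf (nat_lit 91621)) (Tr.lf (nat_lit 91639))) (Tr.nd (nat_lit 91691) (Tr.lf (nat_lit 91673)) (Tr.lf (nat_lit 91691)))))) (Tr.nd (nat_lit 91781) (Tr.nd (nat_lit 91753) (Tr.nd (nat_lit 91711) (Tr.lf (nat_lit 91703)) (Tr.nd (nat_lit 91733) (Tr.lf (nat_lit 91711)) (Tr.lf (nat_lit 91733)))) (Tr.nd (nat_lit 91757) (Tr.lf (nat_lit 91753)) (Tr.nd (nat_lit 91771) (Tr.lf (nat_lit 91757)) (Tr.lf (nat_lit 91771))))) (Tr.nd (nat_lit 91811) (Tr.nd (nat_lit 91801) (Tr.lf (nat_lit 91781)) (Tr.nd (nat_lit 91807) (Tr.lf (nat_lit 91801)) (Tr.lf (nat_lit 91807)))) (Tr.nd (nat_lit 91823) (Tr.nd (nat_lit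 91813) (Tr.lf (nat_lit 91811)) (Tr.lf (nat_lit 91813))) (Tr.nd (nat_lit 91867) (Tr.lf (nat_lit 91823)) (Tr.lf (nat_lit 91867))))))) (Tr.nd (nat_lit 92189) (Tr.nd (nat_lit 92009) (Tr.nd (nat_lit 91957) (Tr.nd (nat_lit 91921) (Tr.lf (nat_lit 91873)) (Tr.nd (nat_lit 91939) (Tr.lf (nat_lit 91921)) (Tr.lf (nat_lit 91939)))) (Tr.nd (nat_lit 91967) (Tr.lf (nat_lit 91957)) (Tr.nd (nat_lit 91969) (Tr.lf (nat_lit 91967)) (Tr.lf (nat_lit 91969))))) (Tr.nd (nat_lit 92153) (Tr.nd (nat_lit 92033) (Tr.lf (nat_lit 92009)) (Tr.nd (nat_lit 92041) (Tr.lf (nat_lit 92033)) (Tr.lf (nat_lit 92041)))) (Tr.nd (nat_lit 92177) (Tr.nd (nat_lit 92173) (Tr.lf (nat_lit 92153)) (Tr.lf (nat_lit 92173))) (Tr.nd (nat_lit 92179) (Tr.lf (nat_lit 92177)) (Tr.lf (nat_lit 92179)))))) (Tr.nd (nat_lit 92401) (Tr.nd (nat_lit 92221) (Tr.nd (nat_lit 92203) (Tr.lf (nat_lit 92189))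 (Tr.nd (nat_lit 92219) (Tr.lf (nat_lit 92203)) (Tr.lf (nat_lit 92219)))) (Tr.nd (nat_lit 92387) (Tr.lf (nat_lit 92221)) (Tr.nd (nat_lit 92399) (Tr.lf (nat_lit 92387)) (Tr.lf (nat_lit 92399))))) (Tr.nd (nat_lit 92467) (Tr.nd (nat_lit 92413) (Tr.lf (nat_lit 92401)) (Tr.nd (nat_lit 92419) (Tr.lf (nat_lit 92413)) (Tr.lf (nat_lit 92419)))) (Tr.nd (nat_lit 92489) (Tr.nd (nat_lit 92479) (Tr.lf (nat_lit 92467)) (Tr.lf (nat_lit 92479))) (Tr.nd (nat_lit 92503) (Tr.lf (nat_lit 92489)) (Tr.lf (nat_lit 92503)))))))) (Tr.nd (nat_lit 92993) (Tr.nd (nat_lit 92699) (Tr.nd (nat_lit 92593) (Tr.nd (nat_lit 92567) (Tr.nd (nat_lit 92551) (Tr.lf (nat_lit 92507)) (Tr.nd (nat_lit 92557) (Tr.lf (nat_lit 92551)) (Tr.lf (nat_lit 92557)))) (Tr.nd (nat_lit 92569) (Tr.lf (nat_lit 92567)) (Tr.nd (nat_lit 92581) (Tr.lf (nat_lit 92569)) (Tr.lf (nat_lit 92581))))) (Tr.nd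 (nat_lit 92671) (Tr.nd (nat_lit 92623) (Tr.lf (nat_lit 92593)) (Tr.nd (nat_lit 92627) (Tr.lf (nat_lit 92623)) (Tr.lf (nat_lit 92627)))) (Tr.nd (nat_lit 92683) (Tr.nd (nat_lit 92681) (Tr.lf (nat_lit 92671)) (Tr.lf (nat_lit 92681))) (Tr.nd (nat_lit 92693) (Tr.lf (nat_lit 92683)) (Tr.lf (nat_lit 92693)))))) (Tr.nd (nat_lit 92761) (Tr.nd (nat_lit 92723) (Tr.nd (nat_lit 92707) (Tr.lf (nat_lit 92699)) (Tr.nd (nat_lit 92717) (Tr.lf (nat_lit 92707)) (Tr.lf (nat_lit 92717)))) (Tr.nd (nat_lit 92737) (Tr.lf (nat_lit 92723)) (Tr.nd (nat_lit 92753) (Tr.lf (nat_lit 92737)) (Tr.lf (nat_lit 92753))))) (Tr.nd (nat_lit 92809) (Tr.nd (nat_lit 92767) (Tr.lf (nat_lit 92761)) (Tr.nd (nat_lit 92779) (Tr.lf (nat_lit 92767)) (Tr.lf (nat_lit 92779)))) (Tr.nd (nat_lit 92959) (Tr.nd (nat_lit 92957) (Tr.lf (nat_lit 92809)) (Tr.lf (nat_lit 92957))) (Tr.nd (nat_lit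 92987) (Tr.lf (nat_lit 92959)) (Tr.lf (nat_lit 92987))))))) (Tr.nd (nat_lit 93151) (Tr.nd (nat_lit 93089) (Tr.nd (nat_lit 93053) (Tr.nd (nat_lit 93001) (Tr.lf (nat_lit 92993)) (Tr.nd (nat_lit 93047) (Tr.lf (nat_lit 93001)) (Tr.lf (nat_lit 93047)))) (Tr.nd (nat_lit 93077) (Tr.lf (nat_lit 93053)) (Tr.nd (nat_lit 93083) (Tr.lf (nat_lit 93077)) (Tr.lf (nat_lit 93083))))) (Tr.nd (nat_lit 93113) (Tr.nd (nat_lit 93097) (Tr.lf (nat_lit 93089)) (Tr.nd (nat_lit 93103) (Tr.lf (nat_lit 93097)) (Tr.lf (nat_lit 93103)))) (Tr.nd (nat_lit 93133) (Tr.nd (nat_lit 93131) (Tr.lf (nat_lit 93113)) (Tr.lf (nat_lit 93131))) (Tr.nd (nat_lit 93139) (Tr.lf (nat_lit 93133)) (Tr.lf (nat_lit 93139)))))) (Tr.nd (nat_lit 93241) (Tr.nd (nat_lit 93187) (Tr.nd (nat_lit 93169) (Tr.lf (nat_lit 93151)) (Tr.nd (nat_lit 93179) (Tr.lf (nat_lit 93169)) (Tr.lf (nat_lit 93179))))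 (Tr.nd (nat_lit 93229) (Tr.nd (nat_lit 93199) (Tr.lf (nat_lit 93187)) (Tr.lf (nat_lit 93199))) (Tr.nd (nat_lit 93239) (Tr.lf (nat_lit 93229)) (Tr.lf (nat_lit 93239))))) (Tr.nd (nat_lit 93257) (Tr.nd (nat_lit 93251) (Tr.lf (nat_lit 93241)) (Tr.nd (nat_lit 93253) (Tr.lf (nat_lit 93251)) (Tr.lf (nat_lit 93253)))) (Tr.nd (nat_lit 93281) (Tr.nd (nat_lit 93263) (Tr.lf (nat_lit 93257)) (Tr.lf (nat_lit 93263))) (Tr.nd (nat_lit 93287) (Tr.lf (nat_lit 93281)) (Tr.lf (nat_lit 93287)))))))))))) (Tr.nd (nat_lit 99871) (Tr.nd (nat_lit 96787) (Tr.nd (nat_lit 95203) (Tr.nd (nat_lit 94309) (Tr.nd (nat_lit 93893) (Tr.nd (nat_lit 93487) (Tr.nd (nat_lit 93383) (Tr.nd (nat_lit 93337) (Tr.nd (nat_lit 93323) (Tr.lf (nat_lit 93319)) (Tr.nd (nat_lit 93329) (Tr.lf (nat_lit 93323)) (Tr.lf (nat_lit 93329)))) (Tr.nd (nat_lit 93371) (Tr.lf (nat_lit 93337)) (Tr.nd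 (nat_lit 93377) (Tr.lf (nat_lit 93371)) (Tr.lf (nat_lit 93377))))) (Tr.nd (nat_lit 93427) (Tr.nd (nat_lit 93407) (Tr.lf (nat_lit 93383)) (Tr.nd (nat_lit 93419) (Tr.lf (nat_lit 93407)) (Tr.lf (nat_lit 93419)))) (Tr.nd (nat_lit 93479) (Tr.nd (nat_lit 93463) (Tr.lf (nat_lit 93427)) (Tr.lf (nat_lit 93463))) (Tr.nd (nat_lit 93481) (Tr.lf (nat_lit 93479)) (Tr.lf (nat_lit 93481)))))) (Tr.nd (nat_lit 93701) (Tr.nd (nat_lit 93523) (Tr.nd (nat_lit 93491) (Tr.lf (nat_lit 93487)) (Tr.nd (nat_lit 93493) (Tr.lf (nat_lit 93491)) (Tr.lf (nat_lit 93493)))) (Tr.nd (nat_lit 93529) (Tr.lf (nat_lit 93523)) (Tr.nd (nat_lit 93601) (Tr.lf (nat_lit 93529)) (Tr.lf (nat_lit 93601))))) (Tr.nd (nat_lit 93739) (Tr.nd (nat_lit 93703) (Tr.lf (nat_lit 93701)) (Tr.nd (nat_lit 93719) (Tr.lf (nat_lit 93703)) (Tr.lf (nat_lit 93719)))) (Tr.nd (nat_lit 93809) (Tr.nd (nat_lit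 93761) (Tr.lf (nat_lit 93739)) (Tr.lf (nat_lit 93761))) (Tr.nd (nat_lit 93889) (Tr.lf (nat_lit 93809)) (Tr.lf (nat_lit 93889))))))) (Tr.nd (nat_lit 94057) (Tr.nd (nat_lit 93941) (Tr.nd (nat_lit 93913) (Tr.nd (nat_lit 93901) (Tr.lf (nat_lit 93893)) (Tr.nd (nat_lit 93911) (Tr.lf (nat_lit 93901)) (Tr.lf (nat_lit 93911)))) (Tr.nd (nat_lit 93923) (Tr.lf (nat_lit 93913)) (Tr.nd (nat_lit 93937) (Tr.lf (nat_lit 93923)) (Tr.lf (nat_lit 93937))))) (Tr.nd (nat_lit 93997) (Tr.nd (nat_lit 93949) (Tr.lf (nat_lit 93941)) (Tr.nd (nat_lit 93967) (Tr.lf (nat_lit 93949)) (Tr.lf (nat_lit 93967)))) (Tr.nd (nat_lit 94033) (Tr.nd (nat_lit 94009) (Tr.lf (nat_lit 93997)) (Tr.lf (nat_lit 94009))) (Tr.nd (nat_lit 94049) (Tr.lf (nat_lit 94033)) (Tr.lf (nat_lit 94049)))))) (Tr.nd (nat_lit 94117) (Tr.nd (nat_lit 94099) (Tr.nd (nat_lit 94063) (Tr.lf (nat_lit 94057))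 (Tr.nd (nat_lit 94079) (Tr.lf (nat_lit 94063)) (Tr.lf (nat_lit 94079)))) (Tr.nd (nat_lit 94109) (Tr.lf (nat_lit 94099)) (Tr.nd (nat_lit 94111) (Tr.lf (nat_lit 94109)) (Tr.lf (nat_lit 94111))))) (Tr.nd (nat_lit 94153) (Tr.nd (nat_lit 94121) (Tr.lf (nat_lit 94117)) (Tr.nd (nat_lit 94151) (Tr.lf (nat_lit 94121)) (Tr.lf (nat_lit 94151)))) (Tr.nd (nat_lit 94219) (Tr.nd (nat_lit 94201) (Tr.lf (nat_lit 94153)) (Tr.lf (nat_lit 94201))) (Tr.nd (nat_lit 94229) (Tr.lf (nat_lit 94219)) (Tr.lf (nat_lit 94229)))))))) (Tr.nd (nat_lit 94561) (Tr.nd (nat_lit 94439) (Tr.nd (nat_lit 94351) (Tr.nd (nat_lit 94331) (Tr.nd (nat_lit 94321) (Tr.lf (nat_lit 94309)) (Tr.nd (nat_lit 94327) (Tr.lf (nat_lit 94321)) (Tr.lf (nat_lit 94327)))) (Tr.nd (nat_lit 94343) (Tr.lf (nat_lit 94331)) (Tr.nd (nat_lit 94349) (Tr.lf (nat_lit 94343)) (Tr.lf (nat_lit 94349))))) (Tr.nd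 (nat_lit 94399) (Tr.nd (nat_lit 94379) (Tr.lf (nat_lit 94351)) (Tr.nd (nat_lit 94397) (Tr.lf (nat_lit 94379)) (Tr.lf (nat_lit 94397)))) (Tr.nd (nat_lit 94427) (Tr.nd (nat_lit 94421) (Tr.lf (nat_lit 94399)) (Tr.lf (nat_lit 94421))) (Tr.nd (nat_lit 94433) (Tr.lf (nat_lit 94427)) (Tr.lf (nat_lit 94433)))))) (Tr.nd (nat_lit 94513) (Tr.nd (nat_lit 94463) (Tr.nd (nat_lit 94441) (Tr.lf (nat_lit 94439)) (Tr.nd (nat_lit 94447) (Tr.lf (nat_lit 94441)) (Tr.lf (nat_lit 94447)))) (Tr.nd (nat_lit 94477) (Tr.lf (nat_lit 94463)) (Tr.nd (nat_lit 94483) (Tr.lf (nat_lit 94477)) (Tr.lf (nat_lit 94483))))) (Tr.nd (nat_lit 94541) (Tr.nd (nat_lit 94529) (Tr.lf (nat_lit 94513)) (Tr.nd (nat_lit 94531) (Tr.lf (nat_lit 94529)) (Tr.lf (nat_lit 94531)))) (Tr.nd (nat_lit 94547) (Tr.nd (nat_lit 94543) (Tr.lf (nat_lit 94541)) (Tr.lf (nat_lit 94543))) (Tr.nd (nat_lit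 94559) (Tr.lf (nat_lit 94547)) (Tr.lf (nat_lit 94559))))))) (Tr.nd (nat_lit 94777) (Tr.nd (nat_lit 94621) (Tr.nd (nat_lit 94597) (Tr.nd (nat_lit 94573) (Tr.lf (nat_lit 94561)) (Tr.nd (nat_lit 94583) (Tr.lf (nat_lit 94573)) (Tr.lf (nat_lit 94583)))) (Tr.nd (nat_lit 94603) (Tr.lf (nat_lit 94597)) (Tr.nd (nat_lit 94613) (Tr.lf (nat_lit 94603)) (Tr.lf (nat_lit 94613))))) (Tr.nd (nat_lit 94693) (Tr.nd (nat_lit 94651) (Tr.lf (nat_lit 94621)) (Tr.nd (nat_lit 94687) (Tr.lf (nat_lit 94651)) (Tr.lf (nat_lit 94687)))) (Tr.nd (nat_lit 94727) (Tr.nd (nat_lit 94709) (Tr.lf (nat_lit 94693)) (Tr.lf (nat_lit 94709))) (Tr.nd (nat_lit 94747) (Tr.lf (nat_lit 94727)) (Tr.lf (nat_lit 94747)))))) (Tr.nd (nat_lit 94903) (Tr.nd (nat_lit 94823) (Tr.nd (nat_lit 94811) (Tr.lf (nat_lit 94777)) (Tr.nd (nat_lit 94819) (Tr.lf (nat_lit 94811)) (Tr.lf (nat_lit 94819))))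 (Tr.nd (nat_lit 94841) (Tr.nd (nat_lit 94837) (Tr.lf (nat_lit 94823)) (Tr.lf (nat_lit 94837))) (Tr.nd (nat_lit 94889) (Tr.lf (nat_lit 94841)) (Tr.lf (nat_lit 94889))))) (Tr.nd (nat_lit 95153) (Tr.nd (nat_lit 95087) (Tr.lf (nat_lit 94903)) (Tr.nd (nat_lit 95143) (Tr.lf (nat_lit 95087)) (Tr.lf (nat_lit 95143)))) (Tr.nd (nat_lit 95189) (Tr.nd (nat_lit 95177) (Tr.lf (nat_lit 95153)) (Tr.lf (nat_lit 95177))) (Tr.nd (nat_lit 95191) (Tr.lf (nat_lit 95189)) (Tr.lf (nat_lit 95191))))))))) (Tr.nd (nat_lit 96001) (Tr.nd (nat_lit 95531) (Tr.nd (nat_lit 95369) (Tr.nd (nat_lit 95267) (Tr.nd (nat_lit 95239) (Tr.nd (nat_lit 95213) (Tr.lf (nat_lit 95203)) (Tr.nd (nat_lit 95233) (Tr.lf (nat_lit 95213)) (Tr.lf (nat_lit 95233)))) (Tr.nd (nat_lit 95257) (Tr.lf (nat_lit 95239)) (Tr.nd (nat_lit 95261) (Tr.lf (nat_lit 95257)) (Tr.lf (nat_lit 95261))))) (Tr.nd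 (nat_lit 95311) (Tr.nd (nat_lit 95279) (Tr.lf (nat_lit 95267)) (Tr.nd (nat_lit 95287) (Tr.lf (nat_lit 95279)) (Tr.lf (nat_lit 95287)))) (Tr.nd (nat_lit 95327) (Tr.nd (nat_lit 95317) (Tr.lf (nat_lit 95311)) (Tr.lf (nat_lit 95317))) (Tr.nd (nat_lit 95339) (Tr.lf (nat_lit 95327)) (Tr.lf (nat_lit 95339)))))) (Tr.nd (nat_lit 95429) (Tr.nd (nat_lit 95401) (Tr.nd (nat_lit 95383) (Tr.lf (nat_lit 95369)) (Tr.nd (nat_lit 95393) (Tr.lf (nat_lit 95383)) (Tr.lf (nat_lit 95393)))) (Tr.nd (nat_lit 95413) (Tr.lf (nat_lit 95401)) (Tr.nd (nat_lit 95419) (Tr.lf (nat_lit 95413)) (Tr.lf (nat_lit 95419))))) (Tr.nd (nat_lit 95479) (Tr.nd (nat_lit 95461) (Tr.lf (nat_lit 95429)) (Tr.nd (nat_lit 95471) (Tr.lf (nat_lit 95461)) (Tr.lf (nat_lit 95471)))) (Tr.nd (nat_lit 95507) (Tr.nd (nat_lit 95483) (Tr.lf (nat_lit 95479)) (Tr.lf (nat_lit 95483))) (Tr.nd (nat_lit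 95527) (Tr.lf (nat_lit 95507)) (Tr.lf (nat_lit 95527))))))) (Tr.nd (nat_lit 95873) (Tr.nd (nat_lit 95597) (Tr.nd (nat_lit 95561) (Tr.nd (nat_lit 95539) (Tr.lf (nat_lit 95531)) (Tr.nd (nat_lit 95549) (Tr.lf (nat_lit 95539)) (Tr.lf (nat_lit 95549)))) (Tr.nd (nat_lit 95569) (Tr.lf (nat_lit 95561)) (Tr.nd (nat_lit 95581) (Tr.lf (nat_lit 95569)) (Tr.lf (nat_lit 95581))))) (Tr.nd (nat_lit 95621) (Tr.nd (nat_lit 95603) (Tr.lf (nat_lit 95597)) (Tr.nd (nat_lit 95617) (Tr.lf (nat_lit 95603)) (Tr.lf (nat_lit 95617)))) (Tr.nd (nat_lit 95707) (Tr.nd (nat_lit 95629) (Tr.lf (nat_lit 95621)) (Tr.lf (nat_lit 95629))) (Tr.nd (nat_lit 95713) (Tr.lf (nat_lit 95707)) (Tr.lf (nat_lit 95713)))))) (Tr.nd (nat_lit 95929) (Tr.nd (nat_lit 95911) (Tr.nd (nat_lit 95881) (Tr.lf (nat_lit 95873)) (Tr.nd (nat_lit 95891) (Tr.lf (nat_lit 95881)) (Tr.lf (nat_lit 95891))))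 (Tr.nd (nat_lit 95917) (Tr.lf (nat_lit 95911)) (Tr.nd (nat_lit 95923) (Tr.lf (nat_lit 95917)) (Tr.lf (nat_lit 95923))))) (Tr.nd (nat_lit 95959) (Tr.nd (nat_lit 95947) (Tr.lf (nat_lit 95929)) (Tr.nd (nat_lit 95957) (Tr.lf (nat_lit 95947)) (Tr.lf (nat_lit 95957)))) (Tr.nd (nat_lit 95987) (Tr.nd (nat_lit 95971) (Tr.lf (nat_lit 95959)) (Tr.lf (nat_lit 95971))) (Tr.nd (nat_lit 95989) (Tr.lf (nat_lit 95987)) (Tr.lf (nat_lit 95989)))))))) (Tr.nd (nat_lit 96329) (Tr.nd (nat_lit 96181) (Tr.nd (nat_lit 96079) (Tr.nd (nat_lit 96043) (Tr.nd (nat_lit 96013) (Tr.lf (nat_lit 96001)) (Tr.nd (nat_lit 96017) (Tr.lf (nat_lit 96013)) (Tr.lf (nat_lit 96017)))) (Tr.nd (nat_lit 96053) (Tr.lf (nat_lit 96043)) (Tr.nd (nat_lit 96059) (Tr.lf (nat_lit 96053)) (Tr.lf (nat_lit 96059))))) (Tr.nd (nat_lit 96149) (Tr.nd (nat_lit 96097) (Tr.lf (nat_lit 96079)) (Tr.nd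 (nat_lit 96137) (Tr.lf (nat_lit 96097)) (Tr.lf (nat_lit 96137)))) (Tr.nd (nat_lit 96167) (Tr.nd (nat_lit 96157) (Tr.lf (nat_lit 96149)) (Tr.lf (nat_lit 96157))) (Tr.nd (nat_lit 96179) (Tr.lf (nat_lit 96167)) (Tr.lf (nat_lit 96179)))))) (Tr.nd (nat_lit 96259) (Tr.nd (nat_lit 96221) (Tr.nd (nat_lit 96199) (Tr.lf (nat_lit 96181)) (Tr.nd (nat_lit 96211) (Tr.lf (nat_lit 96199)) (Tr.lf (nat_lit 96211)))) (Tr.nd (nat_lit 96223) (Tr.lf (nat_lit 96221)) (Tr.nd (nat_lit 96233) (Tr.lf (nat_lit 96223)) (Tr.lf (nat_lit 96233))))) (Tr.nd (nat_lit 96281) (Tr.nd (nat_lit 96263) (Tr.lf (nat_lit 96259)) (Tr.nd (nat_lit 96269) (Tr.lf (nat_lit 96263)) (Tr.lf (nat_lit 96269)))) (Tr.nd (nat_lit 96293) (Tr.nd (nat_lit 96289) (Tr.lf (nat_lit 96281)) (Tr.lf (nat_lit 96289))) (Tr.nd (nat_lit 96323) (Tr.lf (nat_lit 96293)) (Tr.lf (nat_lit 96323))))))) (Tr.nd (nat_lit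 96479) (Tr.nd (nat_lit 96419) (Tr.nd (nat_lit 96353) (Tr.nd (nat_lit 96331) (Tr.lf (nat_lit 96329)) (Tr.nd (nat_lit 96337) (Tr.lf (nat_lit 96331)) (Tr.lf (nat_lit 96337)))) (Tr.nd (nat_lit 96377) (Tr.lf (nat_lit 96353)) (Tr.nd (nat_lit 96401) (Tr.lf (nat_lit 96377)) (Tr.lf (nat_lit 96401))))) (Tr.nd (nat_lit 96451) (Tr.nd (nat_lit 96431) (Tr.lf (nat_lit 96419)) (Tr.nd (nat_lit 96443) (Tr.lf (nat_lit 96431)) (Tr.lf (nat_lit 96443)))) (Tr.nd (nat_lit 96461) (Tr.nd (nat_lit 96457) (Tr.lf (nat_lit 96451)) (Tr.lf (nat_lit 96457))) (Tr.nd (nat_lit 96469) (Tr.lf (nat_lit 96461)) (Tr.lf (nat_lit 96469)))))) (Tr.nd (nat_lit 96661) (Tr.nd (nat_lit 96497) (Tr.nd (nat_lit 96487) (Tr.lf (nat_lit 96479)) (Tr.nd (nat_lit 96493) (Tr.lf (nat_lit 96487)) (Tr.lf (nat_lit 96493)))) (Tr.nd (nat_lit 96601) (Tr.nd (nat_lit 96589) (Tr.lf (nat_lit 96497)) (Tr.lf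 (nat_lit 96589))) (Tr.nd (nat_lit 96643) (Tr.lf (nat_lit 96601)) (Tr.lf (nat_lit 96643))))) (Tr.nd (nat_lit 96703) (Tr.nd (nat_lit 96667) (Tr.lf (nat_lit 96661)) (Tr.nd (nat_lit 96671) (Tr.lf (nat_lit 96667)) (Tr.lf (nat_lit 96671)))) (Tr.nd (nat_lit 96769) (Tr.nd (nat_lit 96731) (Tr.lf (nat_lit 96703)) (Tr.lf (nat_lit 96731))) (Tr.nd (nat_lit 96779) (Tr.lf (nat_lit 96769)) (Tr.lf (nat_lit 96779)))))))))) (Tr.nd (nat_lit 98479) (Tr.nd (nat_lit 97501) (Tr.nd (nat_lit 97151) (Tr.nd (nat_lit 96979) (Tr.nd (nat_lit 96847) (Tr.nd (nat_lit 96821) (Tr.nd (nat_lit 96797) (Tr.lf (nat_lit 96787)) (Tr.nd (nat_lit 96799) (Tr.lf (nat_lit 96797)) (Tr.lf (nat_lit 96799)))) (Tr.nd (nat_lit 96823) (Tr.lf (nat_lit 96821)) (Tr.nd (nat_lit 96827) (Tr.lf (nat_lit 96823)) (Tr.lf (nat_lit 96827))))) (Tr.nd (nat_lit 96907) (Tr.nd (nat_lit 96851) (Tr.lf (nat_lit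 96847)) (Tr.nd (nat_lit 96857) (Tr.lf (nat_lit 96851)) (Tr.lf (nat_lit 96857)))) (Tr.nd (nat_lit 96959) (Tr.nd (nat_lit 96931) (Tr.lf (nat_lit 96907)) (Tr.lf (nat_lit 96931))) (Tr.nd (nat_lit 96973) (Tr.lf (nat_lit 96959)) (Tr.lf (nat_lit 96973)))))) (Tr.nd (nat_lit 97021) (Tr.nd (nat_lit 97001) (Tr.nd (nat_lit 96989) (Tr.lf (nat_lit 96979)) (Tr.nd (nat_lit 96997) (Tr.lf (nat_lit 96989)) (Tr.lf (nat_lit 96997)))) (Tr.nd (nat_lit 97003) (Tr.lf (nat_lit 97001)) (Tr.nd (nat_lit 97007) (Tr.lf (nat_lit 97003)) (Tr.lf (nat_lit 97007))))) (Tr.nd (nat_lit 97081) (Tr.nd (nat_lit 97039) (Tr.lf (nat_lit 97021)) (Tr.nd (nat_lit 97073) (Tr.lf (nat_lit 97039)) (Tr.lf (nat_lit 97073)))) (Tr.nd (nat_lit 97117) (Tr.nd (nat_lit 97103) (Tr.lf (nat_lit 97081)) (Tr.lf (nat_lit 97103))) (Tr.nd (nat_lit 97127) (Tr.lf (nat_lit 97117)) (Tr.lf (nat_lit 97127)))))))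 (Tr.nd (nat_lit 97369) (Tr.nd (nat_lit 97241) (Tr.nd (nat_lit 97171) (Tr.nd (nat_lit 97159) (Tr.lf (nat_lit 97151)) (Tr.nd (nat_lit 97169) (Tr.lf (nat_lit 97159)) (Tr.lf (nat_lit 97169)))) (Tr.nd (nat_lit 97213) (Tr.lf (nat_lit 97171)) (Tr.nd (nat_lit 97231) (Tr.lf (nat_lit 97213)) (Tr.lf (nat_lit 97231))))) (Tr.nd (nat_lit 97301) (Tr.nd (nat_lit 97259) (Tr.lf (nat_lit 97241)) (Tr.nd (nat_lit 97283) (Tr.lf (nat_lit 97259)) (Tr.lf (nat_lit 97283)))) (Tr.nd (nat_lit 97327) (Tr.nd (nat_lit 97303) (Tr.lf (nat_lit 97301)) (Tr.lf (nat_lit 97303))) (Tr.nd (nat_lit 97367) (Tr.lf (nat_lit 97327)) (Tr.lf (nat_lit 97367)))))) (Tr.nd (nat_lit 97423) (Tr.nd (nat_lit 97381) (Tr.nd (nat_lit 97373) (Tr.lf (nat_lit 97369)) (Tr.nd (nat_lit 97379) (Tr.lf (nat_lit 97373)) (Tr.lf (nat_lit 97379)))) (Tr.nd (nat_lit 97387) (Tr.lf (nat_lit 97381)) (Tr.nd (nat_lit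 97397) (Tr.lf (nat_lit 97387)) (Tr.lf (nat_lit 97397))))) (Tr.nd (nat_lit 97453) (Tr.nd (nat_lit 97429) (Tr.lf (nat_lit 97423)) (Tr.nd (nat_lit 97441) (Tr.lf (nat_lit 97429)) (Tr.lf (nat_lit 97441)))) (Tr.nd (nat_lit 97463) (Tr.nd (nat_lit 97459) (Tr.lf (nat_lit 97453)) (Tr.lf (nat_lit 97459))) (Tr.nd (nat_lit 97499) (Tr.lf (nat_lit 97463)) (Tr.lf (nat_lit 97499)))))))) (Tr.nd (nat_lit 98123) (Tr.nd (nat_lit 97673) (Tr.nd (nat_lit 97561) (Tr.nd (nat_lit 97547) (Tr.nd (nat_lit 97511) (Tr.lf (nat_lit 97501)) (Tr.nd (nat_lit 97523) (Tr.lf (nat_lit 97511)) (Tr.lf (nat_lit 97523)))) (Tr.nd (nat_lit 97549) (Tr.lf (nat_lit 97547)) (Tr.nd (nat_lit 97553) (Tr.lf (nat_lit 97549)) (Tr.lf (nat_lit 97553))))) (Tr.nd (nat_lit 97579) (Tr.nd (nat_lit 97571) (Tr.lf (nat_lit 97561)) (Tr.nd (nat_lit 97577) (Tr.lf (nat_lit 97571)) (Tr.lf (nat_lit 97577))))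 (Tr.nd (nat_lit 97609) (Tr.nd (nat_lit 97607) (Tr.lf (nat_lit 97579)) (Tr.lf (nat_lit 97607))) (Tr.nd (nat_lit 97651) (Tr.lf (nat_lit 97609)) (Tr.lf (nat_lit 97651)))))) (Tr.nd (nat_lit 97931) (Tr.nd (nat_lit 97729) (Tr.nd (nat_lit 97687) (Tr.lf (nat_lit 97673)) (Tr.nd (nat_lit 97711) (Tr.lf (nat_lit 97687)) (Tr.lf (nat_lit 97711)))) (Tr.nd (nat_lit 97777) (Tr.lf (nat_lit 97729)) (Tr.nd (nat_lit 97927) (Tr.lf (nat_lit 97777)) (Tr.lf (nat_lit 97927))))) (Tr.nd (nat_lit 98047) (Tr.nd (nat_lit 98017) (Tr.lf (nat_lit 97931)) (Tr.nd (nat_lit 98041) (Tr.lf (nat_lit 98017)) (Tr.lf (nat_lit 98041)))) (Tr.nd (nat_lit 98081) (Tr.nd (nat_lit 98057) (Tr.lf (nat_lit 98047)) (Tr.lf (nat_lit 98057))) (Tr.nd (nat_lit 98101) (Tr.lf (nat_lit 98081)) (Tr.lf (nat_lit 98101))))))) (Tr.nd (nat_lit 98323) (Tr.nd (nat_lit 98227) (Tr.nd (nat_lit 98207) (Tr.nd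 (nat_lit 98129) (Tr.lf (nat_lit 98123)) (Tr.nd (nat_lit 98179) (Tr.lf (nat_lit 98129)) (Tr.lf (nat_lit 98179)))) (Tr.nd (nat_lit 98213) (Tr.lf (nat_lit 98207)) (Tr.nd (nat_lit 98221) (Tr.lf (nat_lit 98213)) (Tr.lf (nat_lit 98221))))) (Tr.nd (nat_lit 98297) (Tr.nd (nat_lit 98251) (Tr.lf (nat_lit 98227)) (Tr.nd (nat_lit 98269) (Tr.lf (nat_lit 98251)) (Tr.lf (nat_lit 98269)))) (Tr.nd (nat_lit 98317) (Tr.nd (nat_lit 98299) (Tr.lf (nat_lit 98297)) (Tr.lf (nat_lit 98299))) (Tr.nd (nat_lit 98321) (Tr.lf (nat_lit 98317)) (Tr.lf (nat_lit 98321)))))) (Tr.nd (nat_lit 98407) (Tr.nd (nat_lit 98369) (Tr.nd (nat_lit 98327) (Tr.lf (nat_lit 98323)) (Tr.nd (nat_lit 98347) (Tr.lf (nat_lit 98327)) (Tr.lf (nat_lit 98347)))) (Tr.nd (nat_lit 98387) (Tr.nd (nat_lit 98377) (Tr.lf (nat_lit 98369)) (Tr.lf (nat_lit 98377))) (Tr.nd (nat_lit 98389) (Tr.lf (nat_lit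 98387)) (Tr.lf (nat_lit 98389))))) (Tr.nd (nat_lit 98443) (Tr.nd (nat_lit 98411) (Tr.lf (nat_lit 98407)) (Tr.nd (nat_lit 98419) (Tr.lf (nat_lit 98411)) (Tr.lf (nat_lit 98419)))) (Tr.nd (nat_lit 98467) (Tr.nd (nat_lit 98459) (Tr.lf (nat_lit 98443)) (Tr.lf (nat_lit 98459))) (Tr.nd (nat_lit 98473) (Tr.lf (nat_lit 98467)) (Tr.lf (nat_lit 98473))))))))) (Tr.nd (nat_lit 99173) (Tr.nd (nat_lit 98911) (Tr.nd (nat_lit 98641) (Tr.nd (nat_lit 98561) (Tr.nd (nat_lit 98519) (Tr.nd (nat_lit 98491) (Tr.lf (nat_lit 98479)) (Tr.nd (nat_lit 98507) (Tr.lf (nat_lit 98491)) (Tr.lf (nat_lit 98507)))) (Tr.nd (nat_lit 98533) (Tr.lf (nat_lit 98519)) (Tr.nd (nat_lit 98543) (Tr.lf (nat_lit 98533)) (Tr.lf (nat_lit 98543))))) (Tr.nd (nat_lit 98597) (Tr.nd (nat_lit 98563) (Tr.lf (nat_lit 98561)) (Tr.nd (nat_lit 98573) (Tr.lf (nat_lit 98563)) (Tr.lf (nat_lit 98573))))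 (Tr.nd (nat_lit 98627) (Tr.nd (nat_lit 98621) (Tr.lf (nat_lit 98597)) (Tr.lf (nat_lit 98621))) (Tr.nd (nat_lit 98639) (Tr.lf (nat_lit 98627)) (Tr.lf (nat_lit 98639)))))) (Tr.nd (nat_lit 98869) (Tr.nd (nat_lit 98713) (Tr.nd (nat_lit 98663) (Tr.lf (nat_lit 98641)) (Tr.nd (nat_lit 98669) (Tr.lf (nat_lit 98663)) (Tr.lf (nat_lit 98669)))) (Tr.nd (nat_lit 98717) (Tr.lf (nat_lit 98713)) (Tr.nd (nat_lit 98729) (Tr.lf (nat_lit 98717)) (Tr.lf (nat_lit 98729))))) (Tr.nd (nat_lit 98893) (Tr.nd (nat_lit 98873) (Tr.lf (nat_lit 98869)) (Tr.nd (nat_lit 98887) (Tr.lf (nat_lit 98873)) (Tr.lf (nat_lit 98887)))) (Tr.nd (nat_lit 98899) (Tr.nd (nat_lit 98897) (Tr.lf (nat_lit 98893)) (Tr.lf (nat_lit 98897))) (Tr.nd (nat_lit 98909) (Tr.lf (nat_lit 98899)) (Tr.lf (nat_lit 98909))))))) (Tr.nd (nat_lit 99041) (Tr.nd (nat_lit 98963) (Tr.nd (nat_lit 98939) (Tr.nd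 (nat_lit 98927) (Tr.lf (nat_lit 98911)) (Tr.nd (nat_lit 98929) (Tr.lf (nat_lit 98927)) (Tr.lf (nat_lit 98929)))) (Tr.nd (nat_lit 98947) (Tr.lf (nat_lit 98939)) (Tr.nd (nat_lit 98953) (Tr.lf (nat_lit 98947)) (Tr.lf (nat_lit 98953))))) (Tr.nd (nat_lit 98999) (Tr.nd (nat_lit 98981) (Tr.lf (nat_lit 98963)) (Tr.nd (nat_lit 98993) (Tr.lf (nat_lit 98981)) (Tr.lf (nat_lit 98993)))) (Tr.nd (nat_lit 99017) (Tr.nd (nat_lit 99013) (Tr.lf (nat_lit 98999)) (Tr.lf (nat_lit 99013))) (Tr.nd (nat_lit 99023) (Tr.lf (nat_lit 99017)) (Tr.lf (nat_lit 99023)))))) (Tr.nd (nat_lit 99109) (Tr.nd (nat_lit 99083) (Tr.nd (nat_lit 99053) (Tr.lf (nat_lit 99041)) (Tr.nd (nat_lit 99079) (Tr.lf (nat_lit 99053)) (Tr.lf (nat_lit 99079)))) (Tr.nd (nat_lit 99089) (Tr.lf (nat_lit 99083)) (Tr.nd (nat_lit 99103) (Tr.lf (nat_lit 99089)) (Tr.lf (nat_lit 99103))))) (Tr.nd (nat_lit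 99133) (Tr.nd (nat_lit 99119) (Tr.lf (nat_lit 99109)) (Tr.nd (nat_lit 99131) (Tr.lf (nat_lit 99119)) (Tr.lf (nat_lit 99131)))) (Tr.nd (nat_lit 99139) (Tr.nd (nat_lit 99137) (Tr.lf (nat_lit 99133)) (Tr.lf (nat_lit 99137))) (Tr.nd (nat_lit 99149) (Tr.lf (nat_lit 99139)) (Tr.lf (nat_lit 99149)))))))) (Tr.nd (nat_lit 99551) (Tr.nd (nat_lit 99349) (Tr.nd (nat_lit 99251) (Tr.nd (nat_lit 99223) (Tr.nd (nat_lit 99181) (Tr.lf (nat_lit 99173)) (Tr.nd (nat_lit 99191) (Tr.lf (nat_lit 99181)) (Tr.lf (nat_lit 99191)))) (Tr.nd (nat_lit 99233) (Tr.lf (nat_lit 99223)) (Tr.nd (nat_lit 99241) (Tr.lf (nat_lit 99233)) (Tr.lf (nat_lit 99241))))) (Tr.nd (nat_lit 99277) (Tr.nd (nat_lit 99257) (Tr.lf (nat_lit 99251)) (Tr.nd (nat_lit 99259) (Tr.lf (nat_lit 99257)) (Tr.lf (nat_lit 99259)))) (Tr.nd (nat_lit 99317) (Tr.nd (nat_lit 99289) (Tr.lf (nat_lit 99277))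 (Tr.lf (nat_lit 99289))) (Tr.nd (nat_lit 99347) (Tr.lf (nat_lit 99317)) (Tr.lf (nat_lit 99347)))))) (Tr.nd (nat_lit 99401) (Tr.nd (nat_lit 99377) (Tr.nd (nat_lit 99367) (Tr.lf (nat_lit 99349)) (Tr.nd (nat_lit 99371) (Tr.lf (nat_lit 99367)) (Tr.lf (nat_lit 99371)))) (Tr.nd (nat_lit 99391) (Tr.lf (nat_lit 99377)) (Tr.nd (nat_lit 99397) (Tr.lf (nat_lit 99391)) (Tr.lf (nat_lit 99397))))) (Tr.nd (nat_lit 99439) (Tr.nd (nat_lit 99409) (Tr.lf (nat_lit 99401)) (Tr.nd (nat_lit 99431) (Tr.lf (nat_lit 99409)) (Tr.lf (nat_lit 99431)))) (Tr.nd (nat_lit 99487) (Tr.nd (nat_lit 99469) (Tr.lf (nat_lit 99439)) (Tr.lf (nat_lit 99469))) (Tr.nd (nat_lit 99529) (Tr.lf (nat_lit 99487)) (Tr.lf (nat_lit 99529))))))) (Tr.nd (nat_lit 99713) (Tr.nd (nat_lit 99643) (Tr.nd (nat_lit 99571) (Tr.nd (nat_lit 99559) (Tr.lf (nat_lit 99551)) (Tr.nd (nat_lit 99563) (Tr.lf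 (nat_lit 99559)) (Tr.lf (nat_lit 99563)))) (Tr.nd (nat_lit 99581) (Tr.lf (nat_lit 99571)) (Tr.nd (nat_lit 99607) (Tr.lf (nat_lit 99581)) (Tr.lf (nat_lit 99607))))) (Tr.nd (nat_lit 99679) (Tr.nd (nat_lit 99661) (Tr.lf (nat_lit 99643)) (Tr.nd (nat_lit 99667) (Tr.lf (nat_lit 99661)) (Tr.lf (nat_lit 99667)))) (Tr.nd (nat_lit 99707) (Tr.nd (nat_lit 99689) (Tr.lf (nat_lit 99679)) (Tr.lf (nat_lit 99689))) (Tr.nd (nat_lit 99709) (Tr.lf (nat_lit 99707)) (Tr.lf (nat_lit 99709)))))) (Tr.nd (nat_lit 99809) (Tr.nd (nat_lit 99733) (Tr.nd (nat_lit 99719) (Tr.lf (nat_lit 99713)) (Tr.nd (nat_lit 99721) (Tr.lf (nat_lit 99719)) (Tr.lf (nat_lit 99721)))) (Tr.nd (nat_lit 99787) (Tr.nd (nat_lit 99761) (Tr.lf (nat_lit 99733)) (Tr.lf (nat_lit 99761))) (Tr.nd (nat_lit 99793) (Tr.lf (nat_lit 99787)) (Tr.lf (nat_lit 99793))))) (Tr.nd (nat_lit 99829) (Tr.nd (nat_lit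 99817) (Tr.lf (nat_lit 99809)) (Tr.nd (nat_lit 99823) (Tr.lf (nat_lit 99817)) (Tr.lf (nat_lit 99823)))) (Tr.nd (nat_lit 99839) (Tr.nd (nat_lit 99833) (Tr.lf (nat_lit 99829)) (Tr.lf (nat_lit 99833))) (Tr.nd (nat_lit 99859) (Tr.lf (nat_lit 99839)) (Tr.lf (nat_lit 99859))))))))))) (Tr.nd (nat_lit 102761) (Tr.nd (nat_lit 101429) (Tr.nd (nat_lit 100741) (Tr.nd (nat_lit 100213) (Tr.nd (nat_lit 100049) (Tr.nd (nat_lit 99929) (Tr.nd (nat_lit 99901) (Tr.nd (nat_lit 99877) (Tr.lf (nat_lit 99871)) (Tr.nd (nat_lit 99881) (Tr.lf (nat_lit 99877)) (Tr.lf (nat_lit 99881)))) (Tr.nd (nat_lit 99907) (Tr.lf (nat_lit 99901)) (Tr.nd (nat_lit 99923) (Tr.lf (nat_lit 99907)) (Tr.lf (nat_lit 99923))))) (Tr.nd (nat_lit 99989) (Tr.nd (nat_lit 99961) (Tr.lf (nat_lit 99929)) (Tr.nd (nat_lit 99971) (Tr.lf (nat_lit 99961)) (Tr.lf (nat_lit 99971)))) (Tr.nd (nat_lit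 100003) (Tr.nd (nat_lit 99991) (Tr.lf (nat_lit 99989)) (Tr.lf (nat_lit 99991))) (Tr.nd (nat_lit 100019) (Tr.lf (nat_lit 100003)) (Tr.lf (nat_lit 100019)))))) (Tr.nd (nat_lit 100151) (Tr.nd (nat_lit 100103) (Tr.nd (nat_lit 100057) (Tr.lf (nat_lit 100049)) (Tr.nd (nat_lit 100069) (Tr.lf (nat_lit 100057)) (Tr.lf (nat_lit 100069)))) (Tr.nd (nat_lit 100109) (Tr.lf (nat_lit 100103)) (Tr.nd (nat_lit 100129) (Tr.lf (nat_lit 100109)) (Tr.lf (nat_lit 100129))))) (Tr.nd (nat_lit 100183) (Tr.nd (nat_lit 100153) (Tr.lf (nat_lit 100151)) (Tr.nd (nat_lit 100169) (Tr.lf (nat_lit 100153)) (Tr.lf (nat_lit 100169)))) (Tr.nd (nat_lit 100193) (Tr.nd (nat_lit 100189) (Tr.lf (nat_lit 100183)) (Tr.lf (nat_lit 100189))) (Tr.nd (nat_lit 100207) (Tr.lf (nat_lit 100193)) (Tr.lf (nat_lit 100207))))))) (Tr.nd (nat_lit 100379) (Tr.nd (nat_lit 100297) (Tr.nd (nat_lit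 100271) (Tr.nd (nat_lit 100237) (Tr.lf (nat_lit 100213)) (Tr.nd (nat_lit 100267) (Tr.lf (nat_lit 100237)) (Tr.lf (nat_lit 100267)))) (Tr.nd (nat_lit 100279) (Tr.lf (nat_lit 100271)) (Tr.nd (nat_lit 100291) (Tr.lf (nat_lit 100279)) (Tr.lf (nat_lit 100291))))) (Tr.nd (nat_lit 100343) (Tr.nd (nat_lit 100313) (Tr.lf (nat_lit 100297)) (Tr.nd (nat_lit 100333) (Tr.lf (nat_lit 100313)) (Tr.lf (nat_lit 100333)))) (Tr.nd (nat_lit 100361) (Tr.nd (nat_lit 100357) (Tr.lf (nat_lit 100343)) (Tr.lf (nat_lit 100357))) (Tr.nd (nat_lit 100363) (Tr.lf (nat_lit 100361)) (Tr.lf (nat_lit 100363)))))) (Tr.nd (nat_lit 100559) (Tr.nd (nat_lit 100411) (Tr.nd (nat_lit 100393) (Tr.lf (nat_lit 100379)) (Tr.nd (nat_lit 100403) (Tr.lf (nat_lit 100393)) (Tr.lf (nat_lit 100403)))) (Tr.nd (nat_lit 100417) (Tr.lf (nat_lit 100411)) (Tr.nd (nat_lit 100549) (Tr.lf (nat_lit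 100417)) (Tr.lf (nat_lit 100549))))) (Tr.nd (nat_lit 100693) (Tr.nd (nat_lit 100669) (Tr.lf (nat_lit 100559)) (Tr.nd (nat_lit 100673) (Tr.lf (nat_lit 100669)) (Tr.lf (nat_lit 100673)))) (Tr.nd (nat_lit 100703) (Tr.nd (nat_lit 100699) (Tr.lf (nat_lit 100693)) (Tr.lf (nat_lit 100699))) (Tr.nd (nat_lit 100733) (Tr.lf (nat_lit 100703)) (Tr.lf (nat_lit 100733)))))))) (Tr.nd (nat_lit 101089) (Tr.nd (nat_lit 100931) (Tr.nd (nat_lit 100811) (Tr.nd (nat_lit 100787) (Tr.nd (nat_lit 100747) (Tr.lf (nat_lit 100741)) (Tr.nd (nat_lit 100769) (Tr.lf (nat_lit 100747)) (Tr.lf (nat_lit 100769)))) (Tr.nd (nat_lit 100799) (Tr.lf (nat_lit 100787)) (Tr.nd (nat_lit 100801) (Tr.lf (nat_lit 100799)) (Tr.lf (nat_lit 100801))))) (Tr.nd (nat_lit 100847) (Tr.nd (nat_lit 100823) (Tr.lf (nat_lit 100811)) (Tr.nd (nat_lit 100829) (Tr.lf (nat_lit 100823)) (Tr.lf (nat_lit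 100829)))) (Tr.nd (nat_lit 100913) (Tr.nd (nat_lit 100907) (Tr.lf (nat_lit 100847)) (Tr.lf (nat_lit 100907))) (Tr.nd (nat_lit 100927) (Tr.lf (nat_lit 100913)) (Tr.lf (nat_lit 100927)))))) (Tr.nd (nat_lit 100999) (Tr.nd (nat_lit 100957) (Tr.nd (nat_lit 100937) (Tr.lf (nat_lit 100931)) (Tr.nd (nat_lit 100943) (Tr.lf (nat_lit 100937)) (Tr.lf (nat_lit 100943)))) (Tr.nd (nat_lit 100981) (Tr.lf (nat_lit 100957)) (Tr.nd (nat_lit 100987) (Tr.lf (nat_lit 100981)) (Tr.lf (nat_lit 100987))))) (Tr.nd (nat_lit 101027) (Tr.nd (nat_lit 101009) (Tr.lf (nat_lit 100999)) (Tr.nd (nat_lit 101021) (Tr.lf (nat_lit 101009)) (Tr.lf (nat_lit 101021)))) (Tr.nd (nat_lit 101063) (Tr.nd (nat_lit 101051) (Tr.lf (nat_lit 101027)) (Tr.lf (nat_lit 101051))) (Tr.nd (nat_lit 101081) (Tr.lf (nat_lit 101063)) (Tr.lf (nat_lit 101081))))))) (Tr.nd (nat_lit 101203) (Tr.nd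 (nat_lit 101141) (Tr.nd (nat_lit 101113) (Tr.nd (nat_lit 101107) (Tr.lf (nat_lit 101089)) (Tr.nd (nat_lit 101111) (Tr.lf (nat_lit 101107)) (Tr.lf (nat_lit 101111)))) (Tr.nd (nat_lit 101117) (Tr.lf (nat_lit 101113)) (Tr.nd (nat_lit 101119) (Tr.lf (nat_lit 101117)) (Tr.lf (nat_lit 101119))))) (Tr.nd (nat_lit 101161) (Tr.nd (nat_lit 101149) (Tr.lf (nat_lit 101141)) (Tr.nd (nat_lit 101159) (Tr.lf (nat_lit 101149)) (Tr.lf (nat_lit 101159)))) (Tr.nd (nat_lit 101183) (Tr.nd (nat_lit 101173) (Tr.lf (nat_lit 101161)) (Tr.lf (nat_lit 101173))) (Tr.nd (nat_lit 101197) (Tr.lf (nat_lit 101183)) (Tr.lf (nat_lit 101197)))))) (Tr.nd (nat_lit 101287) (Tr.nd (nat_lit 101221) (Tr.nd (nat_lit 101207) (Tr.lf (nat_lit 101203)) (Tr.nd (nat_lit 101209) (Tr.lf (nat_lit 101207)) (Tr.lf (nat_lit 101209)))) (Tr.nd (nat_lit 101273) (Tr.nd (nat_lit 101267) (Tr.lf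 (nat_lit 101221)) (Tr.lf (nat_lit 101267))) (Tr.nd (nat_lit 101281) (Tr.lf (nat_lit 101273)) (Tr.lf (nat_lit 101281))))) (Tr.nd (nat_lit 101383) (Tr.nd (nat_lit 101293) (Tr.lf (nat_lit 101287)) (Tr.nd (nat_lit 101377) (Tr.lf (nat_lit 101293)) (Tr.lf (nat_lit 101377)))) (Tr.nd (nat_lit 101411) (Tr.nd (nat_lit 101399) (Tr.lf (nat_lit 101383)) (Tr.lf (nat_lit 101399))) (Tr.nd (nat_lit 101419) (Tr.lf (nat_lit 101411)) (Tr.lf (nat_lit 101419))))))))) (Tr.nd (nat_lit 102019) (Tr.nd (nat_lit 101719) (Tr.nd (nat_lit 101561) (Tr.nd (nat_lit 101501) (Tr.nd (nat_lit 101477) (Tr.nd (nat_lit 101449) (Tr.lf (nat_lit 101429)) (Tr.nd (nat_lit 101467) (Tr.lf (nat_lit 101449)) (Tr.lf (nat_lit 101467)))) (Tr.nd (nat_lit 101483) (Tr.lf (nat_lit 101477)) (Tr.nd (nat_lit 101489) (Tr.lf (nat_lit 101483)) (Tr.lf (nat_lit 101489))))) (Tr.nd (nat_lit 101527)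 (Tr.nd (nat_lit 101503) (Tr.lf (nat_lit 101501)) (Tr.nd (nat_lit 101513) (Tr.lf (nat_lit 101503)) (Tr.lf (nat_lit 101513)))) (Tr.nd (nat_lit 101533) (Tr.nd (nat_lit 101531) (Tr.lf (nat_lit 101527)) (Tr.lf (nat_lit 101531))) (Tr.nd (nat_lit 101537) (Tr.lf (nat_lit 101533)) (Tr.lf (nat_lit 101537)))))) (Tr.nd (nat_lit 101627) (Tr.nd (nat_lit 101599) (Tr.nd (nat_lit 101573) (Tr.lf (nat_lit 101561)) (Tr.nd (nat_lit 101581) (Tr.lf (nat_lit 101573)) (Tr.lf (nat_lit 101581)))) (Tr.nd (nat_lit 101603) (Tr.lf (nat_lit 101599)) (Tr.nd (nat_lit 101611) (Tr.lf (nat_lit 101603)) (Tr.lf (nat_lit 101611))))) (Tr.nd (nat_lit 101663) (Tr.nd (nat_lit 101641) (Tr.lf (nat_lit 101627)) (Tr.nd (nat_lit 101653) (Tr.lf (nat_lit 101641)) (Tr.lf (nat_lit 101653)))) (Tr.nd (nat_lit 101693) (Tr.nd (nat_lit 101681) (Tr.lf (nat_lit 101663)) (Tr.lf (nat_lit 101681)))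 (Tr.nd (nat_lit 101701) (Tr.lf (nat_lit 101693)) (Tr.lf (nat_lit 101701))))))) (Tr.nd (nat_lit 101863) (Tr.nd (nat_lit 101771) (Tr.nd (nat_lit 101741) (Tr.nd (nat_lit 101723) (Tr.lf (nat_lit 101719)) (Tr.nd (nat_lit 101737) (Tr.lf (nat_lit 101723)) (Tr.lf (nat_lit 101737)))) (Tr.nd (nat_lit 101747) (Tr.lf (nat_lit 101741)) (Tr.nd (nat_lit 101749) (Tr.lf (nat_lit 101747)) (Tr.lf (nat_lit 101749))))) (Tr.nd (nat_lit 101807) (Tr.nd (nat_lit 101789) (Tr.lf (nat_lit 101771)) (Tr.nd (nat_lit 101797) (Tr.lf (nat_lit 101789)) (Tr.lf (nat_lit 101797)))) (Tr.nd (nat_lit 101837) (Tr.nd (nat_lit 101833) (Tr.lf (nat_lit 101807)) (Tr.lf (nat_lit 101833))) (Tr.nd (nat_lit 101839) (Tr.lf (nat_lit 101837)) (Tr.lf (nat_lit 101839)))))) (Tr.nd (nat_lit 101939) (Tr.nd (nat_lit 101879) (Tr.nd (nat_lit 101869) (Tr.lf (nat_lit 101863)) (Tr.nd (nat_lit 101873)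 (Tr.lf (nat_lit 101869)) (Tr.lf (nat_lit 101873)))) (Tr.nd (nat_lit 101891) (Tr.lf (nat_lit 101879)) (Tr.nd (nat_lit 101917) (Tr.lf (nat_lit 101891)) (Tr.lf (nat_lit 101917))))) (Tr.nd (nat_lit 101977) (Tr.nd (nat_lit 101957) (Tr.lf (nat_lit 101939)) (Tr.nd (nat_lit 101963) (Tr.lf (nat_lit 101957)) (Tr.lf (nat_lit 101963)))) (Tr.nd (nat_lit 101999) (Tr.nd (nat_lit 101987) (Tr.lf (nat_lit 101977)) (Tr.lf (nat_lit 101987))) (Tr.nd (nat_lit 102013) (Tr.lf (nat_lit 101999)) (Tr.lf (nat_lit 102013)))))))) (Tr.nd (nat_lit 102253) (Tr.nd (nat_lit 102139) (Tr.nd (nat_lit 102071) (Tr.nd (nat_lit 102043) (Tr.nd (nat_lit 102023) (Tr.lf (nat_lit 102019)) (Tr.nd (nat_lit 102031) (Tr.lf (nat_lit 102023)) (Tr.lf (nat_lit 102031)))) (Tr.nd (nat_lit 102059) (Tr.lf (nat_lit 102043)) (Tr.nd (nat_lit 102061) (Tr.lf (nat_lit 102059)) (Tr.lf (nat_lit 102061)))))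 (Tr.nd (nat_lit 102101) (Tr.nd (nat_lit 102077) (Tr.lf (nat_lit 102071)) (Tr.nd (nat_lit 102079) (Tr.lf (nat_lit 102077)) (Tr.lf (nat_lit 102079)))) (Tr.nd (nat_lit 102107) (Tr.nd (nat_lit 102103) (Tr.lf (nat_lit 102101)) (Tr.lf (nat_lit 102103))) (Tr.nd (nat_lit 102121) (Tr.lf (nat_lit 102107)) (Tr.lf (nat_lit 102121)))))) (Tr.nd (nat_lit 102199) (Tr.nd (nat_lit 102181) (Tr.nd (nat_lit 102149) (Tr.lf (nat_lit 102139)) (Tr.nd (nat_lit 102161) (Tr.lf (nat_lit 102149)) (Tr.lf (nat_lit 102161)))) (Tr.nd (nat_lit 102191) (Tr.lf (nat_lit 102181)) (Tr.nd (nat_lit 102197) (Tr.lf (nat_lit 102191)) (Tr.lf (nat_lit 102197))))) (Tr.nd (nat_lit 102229) (Tr.nd (nat_lit 102203) (Tr.lf (nat_lit 102199)) (Tr.nd (nat_lit 102217) (Tr.lf (nat_lit 102203)) (Tr.lf (nat_lit 102217)))) (Tr.nd (nat_lit 102241) (Tr.nd (nat_lit 102233) (Tr.lf (nat_lit 102229))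 (Tr.lf (nat_lit 102233))) (Tr.nd (nat_lit 102251) (Tr.lf (nat_lit 102241)) (Tr.lf (nat_lit 102251))))))) (Tr.nd (nat_lit 102433) (Tr.nd (nat_lit 102329) (Tr.nd (nat_lit 102299) (Tr.nd (nat_lit 102259) (Tr.lf (nat_lit 102253)) (Tr.nd (nat_lit 102293) (Tr.lf (nat_lit 102259)) (Tr.lf (nat_lit 102293)))) (Tr.nd (nat_lit 102301) (Tr.lf (nat_lit 102299)) (Tr.nd (nat_lit 102317) (Tr.lf (nat_lit 102301)) (Tr.lf (nat_lit 102317))))) (Tr.nd (nat_lit 102367) (Tr.nd (nat_lit 102337) (Tr.lf (nat_lit 102329)) (Tr.nd (nat_lit 102359) (Tr.lf (nat_lit 102337)) (Tr.lf (nat_lit 102359)))) (Tr.nd (nat_lit 102407) (Tr.nd (nat_lit 102397) (Tr.lf (nat_lit 102367)) (Tr.lf (nat_lit 102397))) (Tr.nd (nat_lit 102409) (Tr.lf (nat_lit 102407)) (Tr.lf (nat_lit 102409)))))) (Tr.nd (nat_lit 102647) (Tr.nd (nat_lit 102461) (Tr.nd (nat_lit 102437) (Tr.lf (nat_lit 102433))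 (Tr.nd (nat_lit 102451) (Tr.lf (nat_lit 102437)) (Tr.lf (nat_lit 102451)))) (Tr.nd (nat_lit 102559) (Tr.nd (nat_lit 102481) (Tr.lf (nat_lit 102461)) (Tr.lf (nat_lit 102481))) (Tr.nd (nat_lit 102643) (Tr.lf (nat_lit 102559)) (Tr.lf (nat_lit 102643))))) (Tr.nd (nat_lit 102673) (Tr.nd (nat_lit 102653) (Tr.lf (nat_lit 102647)) (Tr.nd (nat_lit 102667) (Tr.lf (nat_lit 102653)) (Tr.lf (nat_lit 102667)))) (Tr.nd (nat_lit 102679) (Tr.nd (nat_lit 102677) (Tr.lf (nat_lit 102673)) (Tr.lf (nat_lit 102677))) (Tr.nd (nat_lit 102701) (Tr.lf (nat_lit 102679)) (Tr.lf (nat_lit 102701)))))))))) (Tr.nd (nat_lit 104149) (Tr.nd (nat_lit 103457) (Tr.nd (nat_lit 103087) (Tr.nd (nat_lit 102913) (Tr.nd (nat_lit 102829) (Tr.nd (nat_lit 102793) (Tr.nd (nat_lit 102763) (Tr.lf (nat_lit 102761)) (Tr.nd (nat_lit 102769) (Tr.lf (nat_lit 102763)) (Tr.lf (nat_lit 102769))))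 (Tr.nd (nat_lit 102797) (Tr.lf (nat_lit 102793)) (Tr.nd (nat_lit 102811) (Tr.lf (nat_lit 102797)) (Tr.lf (nat_lit 102811))))) (Tr.nd (nat_lit 102871) (Tr.nd (nat_lit 102841) (Tr.lf (nat_lit 102829)) (Tr.nd (nat_lit 102859) (Tr.lf (nat_lit 102841)) (Tr.lf (nat_lit 102859)))) (Tr.nd (nat_lit 102881) (Tr.nd (nat_lit 102877) (Tr.lf (nat_lit 102871)) (Tr.lf (nat_lit 102877))) (Tr.nd (nat_lit 102911) (Tr.lf (nat_lit 102881)) (Tr.lf (nat_lit 102911)))))) (Tr.nd (nat_lit 103001) (Tr.nd (nat_lit 102953) (Tr.nd (nat_lit 102929) (Tr.lf (nat_lit 102913)) (Tr.nd (nat_lit 102931) (Tr.lf (nat_lit 102929)) (Tr.lf (nat_lit 102931)))) (Tr.nd (nat_lit 102967) (Tr.lf (nat_lit 102953)) (Tr.nd (nat_lit 102983) (Tr.lf (nat_lit 102967)) (Tr.lf (nat_lit 102983))))) (Tr.nd (nat_lit 103049) (Tr.nd (nat_lit 103007) (Tr.lf (nat_lit 103001)) (Tr.nd (nat_lit 103043)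 (Tr.lf (nat_lit 103007)) (Tr.lf (nat_lit 103043)))) (Tr.nd (nat_lit 103069) (Tr.nd (nat_lit 103067) (Tr.lf (nat_lit 103049)) (Tr.lf (nat_lit 103067))) (Tr.nd (nat_lit 103079) (Tr.lf (nat_lit 103069)) (Tr.lf (nat_lit 103079))))))) (Tr.nd (nat_lit 103307) (Tr.nd (nat_lit 103171) (Tr.nd (nat_lit 103099) (Tr.nd (nat_lit 103091) (Tr.lf (nat_lit 103087)) (Tr.nd (nat_lit 103093) (Tr.lf (nat_lit 103091)) (Tr.lf (nat_lit 103093)))) (Tr.nd (nat_lit 103123) (Tr.lf (nat_lit 103099)) (Tr.nd (nat_lit 103141) (Tr.lf (nat_lit 103123)) (Tr.lf (nat_lit 103141))))) (Tr.nd (nat_lit 103217) (Tr.nd (nat_lit 103177) (Tr.lf (nat_lit 103171)) (Tr.nd (nat_lit 103183) (Tr.lf (nat_lit 103177)) (Tr.lf (nat_lit 103183)))) (Tr.nd (nat_lit 103289) (Tr.nd (nat_lit 103237) (Tr.lf (nat_lit 103217)) (Tr.lf (nat_lit 103237))) (Tr.nd (nat_lit 103291) (Tr.lf (nat_lit 103289))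 (Tr.lf (nat_lit 103291)))))) (Tr.nd (nat_lit 103391) (Tr.nd (nat_lit 103349) (Tr.nd (nat_lit 103319) (Tr.lf (nat_lit 103307)) (Tr.nd (nat_lit 103333) (Tr.lf (nat_lit 103319)) (Tr.lf (nat_lit 103333)))) (Tr.nd (nat_lit 103357) (Tr.lf (nat_lit 103349)) (Tr.nd (nat_lit 103387) (Tr.lf (nat_lit 103357)) (Tr.lf (nat_lit 103387))))) (Tr.nd (nat_lit 103409) (Tr.nd (nat_lit 103393) (Tr.lf (nat_lit 103391)) (Tr.nd (nat_lit 103399) (Tr.lf (nat_lit 103393)) (Tr.lf (nat_lit 103399)))) (Tr.nd (nat_lit 103423) (Tr.nd (nat_lit 103421) (Tr.lf (nat_lit 103409)) (Tr.lf (nat_lit 103421))) (Tr.nd (nat_lit 103451) (Tr.lf (nat_lit 103423)) (Tr.lf (nat_lit 103451)))))))) (Tr.nd (nat_lit 103811) (Tr.nd (nat_lit 103613) (Tr.nd (nat_lit 103553) (Tr.nd (nat_lit 103511) (Tr.nd (nat_lit 103471) (Tr.lf (nat_lit 103457)) (Tr.nd (nat_lit 103483) (Tr.lf (nat_lit 103471))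 (Tr.lf (nat_lit 103483)))) (Tr.nd (nat_lit 103529) (Tr.lf (nat_lit 103511)) (Tr.nd (nat_lit 103549) (Tr.lf (nat_lit 103529)) (Tr.lf (nat_lit 103549))))) (Tr.nd (nat_lit 103573) (Tr.nd (nat_lit 103561) (Tr.lf (nat_lit 103553)) (Tr.nd (nat_lit 103567) (Tr.lf (nat_lit 103561)) (Tr.lf (nat_lit 103567)))) (Tr.nd (nat_lit 103583) (Tr.nd (nat_lit 103577) (Tr.lf (nat_lit 103573)) (Tr.lf (nat_lit 103577))) (Tr.nd (nat_lit 103591) (Tr.lf (nat_lit 103583)) (Tr.lf (nat_lit 103591)))))) (Tr.nd (nat_lit 103681) (Tr.nd (nat_lit 103651) (Tr.nd (nat_lit 103619) (Tr.lf (nat_lit 103613)) (Tr.nd (nat_lit 103643) (Tr.lf (nat_lit 103619)) (Tr.lf (nat_lit 103643)))) (Tr.nd (nat_lit 103657) (Tr.lf (nat_lit 103651)) (Tr.nd (nat_lit 103669) (Tr.lf (nat_lit 103657)) (Tr.lf (nat_lit 103669))))) (Tr.nd (nat_lit 103703) (Tr.nd (nat_lit 103687) (Tr.lf (nat_lit 103681))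 (Tr.nd (nat_lit 103699) (Tr.lf (nat_lit 103687)) (Tr.lf (nat_lit 103699)))) (Tr.nd (nat_lit 103787) (Tr.nd (nat_lit 103723) (Tr.lf (nat_lit 103703)) (Tr.lf (nat_lit 103723))) (Tr.nd (nat_lit 103801) (Tr.lf (nat_lit 103787)) (Tr.lf (nat_lit 103801))))))) (Tr.nd (nat_lit 103969) (Tr.nd (nat_lit 103889) (Tr.nd (nat_lit 103841) (Tr.nd (nat_lit 103813) (Tr.lf (nat_lit 103811)) (Tr.nd (nat_lit 103837) (Tr.lf (nat_lit 103813)) (Tr.lf (nat_lit 103837)))) (Tr.nd (nat_lit 103843) (Tr.lf (nat_lit 103841)) (Tr.nd (nat_lit 103867) (Tr.lf (nat_lit 103843)) (Tr.lf (nat_lit 103867))))) (Tr.nd (nat_lit 103919) (Tr.nd (nat_lit 103903) (Tr.lf (nat_lit 103889)) (Tr.nd (nat_lit 103913) (Tr.lf (nat_lit 103903)) (Tr.lf (nat_lit 103913)))) (Tr.nd (nat_lit 103963) (Tr.nd (nat_lit 103951) (Tr.lf (nat_lit 103919)) (Tr.lf (nat_lit 103951))) (Tr.nd (nat_lit 103967)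 (Tr.lf (nat_lit 103963)) (Tr.lf (nat_lit 103967)))))) (Tr.nd (nat_lit 104009) (Tr.nd (nat_lit 103991) (Tr.nd (nat_lit 103979) (Tr.lf (nat_lit 103969)) (Tr.nd (nat_lit 103981) (Tr.lf (nat_lit 103979)) (Tr.lf (nat_lit 103981)))) (Tr.nd (nat_lit 103997) (Tr.nd (nat_lit 103993) (Tr.lf (nat_lit 103991)) (Tr.lf (nat_lit 103993))) (Tr.nd (nat_lit 104003) (Tr.lf (nat_lit 103997)) (Tr.lf (nat_lit 104003))))) (Tr.nd (nat_lit 104047) (Tr.nd (nat_lit 104021) (Tr.lf (nat_lit 104009)) (Tr.nd (nat_lit 104033) (Tr.lf (nat_lit 104021)) (Tr.lf (nat_lit 104033)))) (Tr.nd (nat_lit 104059) (Tr.nd (nat_lit 104053) (Tr.lf (nat_lit 104047)) (Tr.lf (nat_lit 104053))) (Tr.nd (nat_lit 104087) (Tr.lf (nat_lit 104059)) (Tr.lf (nat_lit 104087))))))))) (Tr.nd (nat_lit 104729) (Tr.nd (nat_lit 104473) (Tr.nd (nat_lit 104309) (Tr.nd (nat_lit 104231) (Tr.nd (nat_lit 104179)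 (Tr.nd (nat_lit 104161) (Tr.lf (nat_lit 104149)) (Tr.nd (nat_lit 104173) (Tr.lf (nat_lit 104161)) (Tr.lf (nat_lit 104173)))) (Tr.nd (nat_lit 104183) (Tr.lf (nat_lit 104179)) (Tr.nd (nat_lit 104207) (Tr.lf (nat_lit 104183)) (Tr.lf (nat_lit 104207))))) (Tr.nd (nat_lit 104243) (Tr.nd (nat_lit 104233) (Tr.lf (nat_lit 104231)) (Tr.nd (nat_lit 104239) (Tr.lf (nat_lit 104233)) (Tr.lf (nat_lit 104239)))) (Tr.nd (nat_lit 104287) (Tr.nd (nat_lit 104281) (Tr.lf (nat_lit 104243)) (Tr.lf (nat_lit 104281))) (Tr.nd (nat_lit 104297) (Tr.lf (nat_lit 104287)) (Tr.lf (nat_lit 104297)))))) (Tr.nd (nat_lit 104381) (Tr.nd (nat_lit 104327) (Tr.nd (nat_lit 104311) (Tr.lf (nat_lit 104309)) (Tr.nd (nat_lit 104323) (Tr.lf (nat_lit 104311)) (Tr.lf (nat_lit 104323)))) (Tr.nd (nat_lit 104347) (Tr.lf (nat_lit 104327)) (Tr.nd (nat_lit 104369) (Tr.lf (nat_lit 104347))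 (Tr.lf (nat_lit 104369))))) (Tr.nd (nat_lit 104399) (Tr.nd (nat_lit 104383) (Tr.lf (nat_lit 104381)) (Tr.nd (nat_lit 104393) (Tr.lf (nat_lit 104383)) (Tr.lf (nat_lit 104393)))) (Tr.nd (nat_lit 104459) (Tr.nd (nat_lit 104417) (Tr.lf (nat_lit 104399)) (Tr.lf (nat_lit 104417))) (Tr.nd (nat_lit 104471) (Tr.lf (nat_lit 104459)) (Tr.lf (nat_lit 104471))))))) (Tr.nd (nat_lit 104623) (Tr.nd (nat_lit 104543) (Tr.nd (nat_lit 104513) (Tr.nd (nat_lit 104479) (Tr.lf (nat_lit 104473)) (Tr.nd (nat_lit 104491) (Tr.lf (nat_lit 104479)) (Tr.lf (nat_lit 104491)))) (Tr.nd (nat_lit 104527) (Tr.lf (nat_lit 104513)) (Tr.nd (nat_lit 104537) (Tr.lf (nat_lit 104527)) (Tr.lf (nat_lit 104537))))) (Tr.nd (nat_lit 104561) (Tr.nd (nat_lit 104549) (Tr.lf (nat_lit 104543)) (Tr.nd (nat_lit 104551) (Tr.lf (nat_lit 104549)) (Tr.lf (nat_lit 104551)))) (Tr.nd (nat_lit 104593)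 (Tr.nd (nat_lit 104579) (Tr.lf (nat_lit 104561)) (Tr.lf (nat_lit 104579))) (Tr.nd (nat_lit 104597) (Tr.lf (nat_lit 104593)) (Tr.lf (nat_lit 104597)))))) (Tr.nd (nat_lit 104683) (Tr.nd (nat_lit 104659) (Tr.nd (nat_lit 104639) (Tr.lf (nat_lit 104623)) (Tr.nd (nat_lit 104651) (Tr.lf (nat_lit 104639)) (Tr.lf (nat_lit 104651)))) (Tr.nd (nat_lit 104677) (Tr.lf (nat_lit 104659)) (Tr.nd (nat_lit 104681) (Tr.lf (nat_lit 104677)) (Tr.lf (nat_lit 104681))))) (Tr.nd (nat_lit 104707) (Tr.nd (nat_lit 104693) (Tr.lf (nat_lit 104683)) (Tr.nd (nat_lit 104701) (Tr.lf (nat_lit 104693)) (Tr.lf (nat_lit 104701)))) (Tr.nd (nat_lit 104717) (Tr.nd (nat_lit 104711) (Tr.lf (nat_lit 104707)) (Tr.lf (nat_lit 104711))) (Tr.nd (nat_lit 104723) (Tr.lf (nat_lit 104717)) (Tr.lf (nat_lit 104723)))))))) (Tr.nd (nat_lit 105023) (Tr.nd (nat_lit 104869) (Tr.nd (nat_lit 104789)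 (Tr.nd (nat_lit 104761) (Tr.nd (nat_lit 104743) (Tr.lf (nat_lit 104729)) (Tr.nd (nat_lit 104759) (Tr.lf (nat_lit 104743)) (Tr.lf (nat_lit 104759)))) (Tr.nd (nat_lit 104773) (Tr.lf (nat_lit 104761)) (Tr.nd (nat_lit 104779) (Tr.lf (nat_lit 104773)) (Tr.lf (nat_lit 104779))))) (Tr.nd (nat_lit 104827) (Tr.nd (nat_lit 104801) (Tr.lf (nat_lit 104789)) (Tr.nd (nat_lit 104803) (Tr.lf (nat_lit 104801)) (Tr.lf (nat_lit 104803)))) (Tr.nd (nat_lit 104849) (Tr.nd (nat_lit 104831) (Tr.lf (nat_lit 104827)) (Tr.lf (nat_lit 104831))) (Tr.nd (nat_lit 104851) (Tr.lf (nat_lit 104849)) (Tr.lf (nat_lit 104851)))))) (Tr.nd (nat_lit 104947) (Tr.nd (nat_lit 104911) (Tr.nd (nat_lit 104879) (Tr.lf (nat_lit 104869)) (Tr.nd (nat_lit 104891) (Tr.lf (nat_lit 104879)) (Tr.lf (nat_lit 104891)))) (Tr.nd (nat_lit 104917) (Tr.lf (nat_lit 104911)) (Tr.nd (nat_lit 104933)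 (Tr.lf (nat_lit 104917)) (Tr.lf (nat_lit 104933))))) (Tr.nd (nat_lit 104971) (Tr.nd (nat_lit 104953) (Tr.lf (nat_lit 104947)) (Tr.nd (nat_lit 104959) (Tr.lf (nat_lit 104953)) (Tr.lf (nat_lit 104959)))) (Tr.nd (nat_lit 104999) (Tr.nd (nat_lit 104987) (Tr.lf (nat_lit 104971)) (Tr.lf (nat_lit 104987))) (Tr.nd (nat_lit 105019) (Tr.lf (nat_lit 104999)) (Tr.lf (nat_lit 105019))))))) (Tr.nd (nat_lit 105229) (Tr.nd (nat_lit 105137) (Tr.nd (nat_lit 105071) (Tr.nd (nat_lit 105031) (Tr.lf (nat_lit 105023)) (Tr.nd (nat_lit 105037) (Tr.lf (nat_lit 105031)) (Tr.lf (nat_lit 105037)))) (Tr.nd (nat_lit 105097) (Tr.lf (nat_lit 105071)) (Tr.nd (nat_lit 105107) (Tr.lf (nat_lit 105097)) (Tr.lf (nat_lit 105107))))) (Tr.nd (nat_lit 105173) (Tr.nd (nat_lit 105143) (Tr.lf (nat_lit 105137)) (Tr.nd (nat_lit 105167) (Tr.lf (nat_lit 105143)) (Tr.lf (nat_lit 105167))))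 (Tr.nd (nat_lit 105211) (Tr.nd (nat_lit 105199) (Tr.lf (nat_lit 105173)) (Tr.lf (nat_lit 105199))) (Tr.nd (nat_lit 105227) (Tr.lf (nat_lit 105211)) (Tr.lf (nat_lit 105227)))))) (Tr.nd (nat_lit 105319) (Tr.nd (nat_lit 105253) (Tr.nd (nat_lit 105239) (Tr.lf (nat_lit 105229)) (Tr.nd (nat_lit 105251) (Tr.lf (nat_lit 105239)) (Tr.lf (nat_lit 105251)))) (Tr.nd (nat_lit 105269) (Tr.nd (nat_lit 105263) (Tr.lf (nat_lit 105253)) (Tr.lf (nat_lit 105263))) (Tr.nd (nat_lit 105277) (Tr.lf (nat_lit 105269)) (Tr.lf (nat_lit 105277))))) (Tr.nd (nat_lit 105337) (Tr.nd (nat_lit 105323) (Tr.lf (nat_lit 105319)) (Tr.nd (nat_lit 105331) (Tr.lf (nat_lit 105323)) (Tr.lf (nat_lit 105331)))) (Tr.nd (nat_lit 105359) (Tr.nd (nat_lit 105341) (Tr.lf (nat_lit 105337)) (Tr.lf (nat_lit 105341))) (Tr.nd (nat_lit 105361) (Tr.lf (nat_lit 105359)) (Tr.lf (nat_lit 105361)))))))))))))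
noncomputable def HP2 : ℕ → ℕ := fun q => Nat.add (Nat.mod HP2t q) (nat_lit 65536)
noncomputable def HR2 : ℕ → ℕ := fun q => (Nat.mod HR2t q)
noncomputable def HW2 : ℕ → ℕ := fun q => (Nat.mod HW2t q)
theorem tree2 : Tr.all (treeP LB2 stp HP2 HR2 HW2 WL2 (fun q => Nat.beq (nat_lit 67589) q)) LB2 = true := by decide +kernel
theorem sub2 : Tr.all (mem L) LB2 = true := by decide +kernel
theorem bst2 : bst LB2 65536 131072 = true := by decide +kernel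
theorem size2 : size LB2 = 1680 := by decide +kernel
noncomputable def WL3 : List (List Col) := [[TCG_Fi22.Col.f], [TCG_Fi22.Col.i], [TCG_Fi22.Col.e, TCG_Fi22.Col.h], [TCG_Fi22.Col.h, TCG_Fi22.Col.e, TCG_Fi22.Col.d, TCG_Fi22.Col.c, TCG_Fi22.Col.b, TCG_Fi22.Col.a, TCG_Fi22.Col.h, TCG_Fi22.Col.e, TCG_Fi22.Col.d, TCG_Fi22.Col.c, TCG_Fi22.Col.b, TCG_Fi22.Col.a, TCG_Fi22.Col.h, TCG_Fi22.Col.e, TCG_Fi22.Col.d, TCG_Fi22.Col.c, TCG_Fi22.Col.b, TCG_Fi22.Col.a, TCG_Fi22.Col.h, TCG_Fi22.Col.e, TCG_Fi22.Col.d, TCG_Fi22.Col.c, TCG_Fi22.Col.b, TCG_Fi22.Col.a, TCG_Fi22.Col.h, TCG_Fi22.Col.e, TCG_Fi22.Col.d, TCG_Fi22.Col.c, TCG_Fi22.Col.b, TCG_Fi22.Col.a, TCG_Fi22.Col.f, TCG_Fi22.Col.e, TCG_Fi22.Col.g, TCG_Fi22.Col.f, TCG_Fi22.Col.d, TCG_Fi22.Col.f, TCG_Fi22.Col.h, TCG_Fi22.Col.g, TCG_Fi22.Col.e, TCG_Fi22.Col.f, TCG_Fi22.Col.a, TCG_Fi22.Col.b, TCG_Fi22.Col.c,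 TCG_Fi22.Col.d, TCG_Fi22.Col.e, TCG_Fi22.Col.h, TCG_Fi22.Col.a, TCG_Fi22.Col.b, TCG_Fi22.Col.c, TCG_Fi22.Col.d, TCG_Fi22.Col.e, TCG_Fi22.Col.h, TCG_Fi22.Col.a, TCG_Fi22.Col.b, TCG_Fi22.Col.c, TCG_Fi22.Col.d, TCG_Fi22.Col.e, TCG_Fi22.Col.h, TCG_Fi22.Col.a, TCG_Fi22.Col.b, TCG_Fi22.Col.c, TCG_Fi22.Col.d, TCG_Fi22.Col.e, TCG_Fi22.Col.h, TCG_Fi22.Col.a, TCG_Fi22.Col.b, TCG_Fi22.Col.c, TCG_Fi22.Col.d, TCG_Fi22.Col.e, TCG_Fi22.Col.h], [TCG_Fi22.Col.d, TCG_Fi22.Col.e, TCG_Fi22.Col.f, TCG_Fi22.Col.g, TCG_Fi22.Col.h, TCG_Fi22.Col.i, TCG_Fi22.Col.h, TCG_Fi22.Col.e, TCG_Fi22.Col.d, TCG_Fi22.Col.c, TCG_Fi22.Col.b, TCG_Fi22.Col.a, TCG_Fi22.Col.h, TCG_Fi22.Col.e, TCG_Fi22.Col.d, TCG_Fi22.Col.c, TCG_Fi22.Col.b, TCG_Fi22.Col.a, TCG_Fi22.Col.h, TCG_Fi22.Col.e, TCG_Fi22.Col.d, TCG_Fi22.Col.c, TCG_Fi22.Col.b, TCG_Fi22.Col.a, TCG_Fi22.Col.h, TCG_Fi22.Col.e,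 TCG_Fi22.Col.d, TCG_Fi22.Col.c, TCG_Fi22.Col.b, TCG_Fi22.Col.a, TCG_Fi22.Col.h, TCG_Fi22.Col.e, TCG_Fi22.Col.d, TCG_Fi22.Col.c, TCG_Fi22.Col.b, TCG_Fi22.Col.a, TCG_Fi22.Col.g, TCG_Fi22.Col.f, TCG_Fi22.Col.e, TCG_Fi22.Col.a, TCG_Fi22.Col.b, TCG_Fi22.Col.c, TCG_Fi22.Col.d, TCG_Fi22.Col.e, TCG_Fi22.Col.h, TCG_Fi22.Col.a, TCG_Fi22.Col.b, TCG_Fi22.Col.c, TCG_Fi22.Col.d, TCG_Fi22.Col.e, TCG_Fi22.Col.h, TCG_Fi22.Col.a, TCG_Fi22.Col.b, TCG_Fi22.Col.c, TCG_Fi22.Col.d, TCG_Fi22.Col.e, TCG_Fi22.Col.h, TCG_Fi22.Col.a, TCG_Fi22.Col.b, TCG_Fi22.Col.c, TCG_Fi22.Col.d, TCG_Fi22.Col.e, TCG_Fi22.Col.h, TCG_Fi22.Col.a, TCG_Fi22.Col.b, TCG_Fi22.Col.c, TCG_Fi22.Col.d, TCG_Fi22.Col.e, TCG_Fi22.Col.h, TCG_Fi22.Col.i, TCG_Fi22.Col.h, TCG_Fi22.Col.f, TCG_Fi22.Col.e, TCG_Fi22.Col.d]]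
noncomputable def HP3t : ℕ := (nat_lit 0x1b50662d512a3e2cd5e89b44f956bfac3a512909442ee9bbbb227e53f9932aede8f62574623a12a4908bbfb44d4f66c212b4bf5d6fe30fe856f18d96d00369961b6bb5b462fd3e7ac15a425474eb9d7072b80b6269008104aa525827d51d5d2a05efc03590b47bba3d3f689eeed429ca14e3dfdded34aec6b371c7171d030a6824b0b7a437db27f48e95e8a8eae57e4c1f410a8169a02aef4c000cc6b0b31bac2b2037fa0555f833bc2627f3140bb7a5bd0c85c0f58ef1555a0e873be296745bbbd305120d2da769b10b4fc8df8e0c2569ece74c2ce6b1834e6339cc8c2826f4042ee717bbc2ea24dc62cfd1899559be678597f9b7b8229f3be99fcec877c5f32cf07618e09d7f5cb365a73494867de91e156f984bd31e3391e98d5af8234c1b0a3e27ff402e1be22fe07d900d043bf10140d2de8dd6f72af63ae3dd88301f66e7019a94a67bb3ef5dfeb9f5b38d4307c119069bb7c09328c0dabba74ad0c245dd44da91064c4e7647bb76a6bda13d78788def79b8802bf4668b33f2f52af37acb0d03d7dddb797a18d2701b7d8e05e8bf3d3fd0835657b331764219b926d5029a01c7d9c35ad5e7cb746b48fa8a7aec15e2183cd2b62449427bf07014f8b96a58d3e0e15520626216002fe3e7808cdf1eefbc73afe4cb3e4ce7fe88827fd6497be323bc5dc8a7148cc00776fbedf4720)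
noncomputable def HR3t : ℕ := (nat_lit 0xf1bc0ab1e3729eb08060040aa2e5d9c2ad4ec9cfda8eaa1509939227468bec2f3d4d25a8f52a6e9f4383c0d5fcf8ce3496e7e43ca0a91c92f621f57b76d0f90c4b13c482f8da2315e4910260e77780abf31755dbe12a5aaa042971f06515446a20a174ba26188b1d71018d63e4ddb088e028b27d951ce982a13c062814547f070e995861b9cf96a01399190de98d6f464d8c3f0184943c7e9220756c2410520837d43ee4ec44a743f9841109250491a1569e999863167833b8b97795e18e850378e80bb61d40cffd2a4da6fe3f55c2e6ab93093b721215d7a1cc9b936bc6a13e3530a34eace122c36746779b3e6294ef9a0d4aa06b6823cbb7ba70972cf002d3c7876849a41c5153d3f33e1d927fedf718e47791fd7ccf7f9cad826b382b03ead15be858abf3944507f99d83e226afeca250d945a5fae750b212e0db1bf5ade720002d5b793d45a86b44920ca3ff2062dc172de64e8de8bec1b455055b59e67f6749ebd230db9f508537901a3875ba0f497f6a38b3a8dde880831d7b41a031403de320e119ba0a0591a786245e806007d375d8e30d42cdf27c523f6ea410e1bf16cf4156199e26f04c68bcc51de2211d898d7b55834d768d201933db98a4f6e914a6a204ce6e5ced26ae6e9d61e752837e177dc76ea6f6726ec53f2724a1de190a8bef92e8b91379cbba7b24c111a350)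
noncomputable def HW3t : ℕ := (nat_lit 0x7b37509c657f497de6ed381c377b17908d9f02bb967fc5adf1d96450f250beee8e412a1da54b853e25d7cd02ea5e370fa4056a4edfaa729e5f0e655ea91a4c8cfe94216dfe3fd5ecde3f50279dbabe6407815ef05a8340d8056d3e7700c2691c9388a1f90b13b79207f7c15c126c2b8b453704f360c3204c46a46314cedf89e5f624787e6aa42507b126aa9b42c0425da8ad4531f451094c928df4e7ef1bc4c04350ee13db604cd7e76d28188a34ac7a5a2db53c8e9b993c26cadfb347ebd9ee1861aeb6b105c42e32c53beb23716f52bb3e19be350c4ca53eefed6a9cae03b4e38a4c5bfea484b351532f7d8e6ab1860d775373216e83246d39c52b6f427b0e348abbed26fcd825b9241f14b644704e3a1bc69c9364e54f471dfe6f98f80f216e904a59cdfbdae8eae5e478c88b365ef82be118d58c82b2dc73034fa4240504d08f5cd8fbd261db97934c60564c29a6d41405b0a55fcd67a8ab5b7b3cceaacae6fb7fa45fe85d06b1e08764584edb9fa95bba3085be2c21107a8a0a6a9d8dd393f20b4f04ab1309e720bfe55e457eaa15ed688819588a54671b3a5c2ccf726c4adfe4b3621eb5e1d0848140361b87156134307496f68dd0f14f0e36d9d6e9d0ee5c8f7ae7e6af085e7c6c1fcdafd3cf4d9937c5519a14ba7530500f275f0649f4299fb720a0e4f0b0e9fde62495453c)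
noncomputable def LB3 : Tr ℕ := (Tr.nd (nat_lit 83969) (Tr.nd (nat_lit 79201) (Tr.nd (nat_lit 70099) (Tr.nd (nat_lit 68261) (Tr.nd (nat_lit 67121) (Tr.nd (nat_lit 66739) (Tr.nd (nat_lit 66403) (Tr.lf (nat_lit 66071)) (Tr.nd (nat_lit 66413) (Tr.lf (nat_lit 66403)) (Tr.lf (nat_lit 66413)))) (Tr.nd (nat_lit 66751) (Tr.nd (nat_lit 66749) (Tr.lf (nat_lit 66739)) (Tr.lf (nat_lit 66749))) (Tr.nd (nat_lit 67103) (Tr.lf (nat_lit 66751)) (Tr.lf (nat_lit 67103))))) (Tr.nd (nat_lit 67709) (Tr.nd (nat_lit 67493) (Tr.nd (nat_lit 67261) (Tr.lf (nat_lit 67121)) (Tr.lf (nat_lit 67261))) (Tr.nd (nat_lit 67699) (Tr.lf (nat_lit 67493)) (Tr.lf (nat_lit 67699)))) (Tr.nd (nat_lit 68227) (Tr.nd (nat_lit 67723) (Tr.lf (nat_lit 67709)) (Tr.lf (nat_lit 67723))) (Tr.nd (nat_lit 68239) (Tr.lf (nat_lit 68227)) (Tr.lf (nat_lit 68239)))))) (Tr.nd (nat_lit 69061) (Tr.nd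 (nat_lit 68329) (Tr.nd (nat_lit 68279) (Tr.lf (nat_lit 68261)) (Tr.nd (nat_lit 68281) (Tr.lf (nat_lit 68279)) (Tr.lf (nat_lit 68281)))) (Tr.nd (nat_lit 69029) (Tr.nd (nat_lit 69019) (Tr.lf (nat_lit 68329)) (Tr.lf (nat_lit 69019))) (Tr.nd (nat_lit 69031) (Tr.lf (nat_lit 69029)) (Tr.lf (nat_lit 69031))))) (Tr.nd (nat_lit 69127) (Tr.nd (nat_lit 69073) (Tr.nd (nat_lit 69067) (Tr.lf (nat_lit 69061)) (Tr.lf (nat_lit 69067))) (Tr.nd (nat_lit 69109) (Tr.lf (nat_lit 69073)) (Tr.lf (nat_lit 69109)))) (Tr.nd (nat_lit 70067) (Tr.nd (nat_lit 70061) (Tr.lf (nat_lit 69127)) (Tr.lf (nat_lit 70061))) (Tr.nd (nat_lit 70079) (Tr.lf (nat_lit 70067)) (Tr.lf (nat_lit 70079))))))) (Tr.nd (nat_lit 74873) (Tr.nd (nat_lit 71261) (Tr.nd (nat_lit 70139) (Tr.nd (nat_lit 70111) (Tr.lf (nat_lit 70099)) (Tr.nd (nat_lit 70121) (Tr.lf (nat_lit 70111)) (Tr.lf (nat_lit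 70121)))) (Tr.nd (nat_lit 71233) (Tr.nd (nat_lit 70163) (Tr.lf (nat_lit 70139)) (Tr.lf (nat_lit 70163))) (Tr.nd (nat_lit 71249) (Tr.lf (nat_lit 71233)) (Tr.lf (nat_lit 71249))))) (Tr.nd (nat_lit 72673) (Tr.nd (nat_lit 71327) (Tr.nd (nat_lit 71287) (Tr.lf (nat_lit 71261)) (Tr.lf (nat_lit 71287))) (Tr.nd (nat_lit 71339) (Tr.lf (nat_lit 71327)) (Tr.lf (nat_lit 71339)))) (Tr.nd (nat_lit 72727) (Tr.nd (nat_lit 72701) (Tr.lf (nat_lit 72673)) (Tr.lf (nat_lit 72701))) (Tr.nd (nat_lit 74449) (Tr.lf (nat_lit 72727)) (Tr.lf (nat_lit 74449)))))) (Tr.nd (nat_lit 78193) (Tr.nd (nat_lit 76829) (Tr.nd (nat_lit 76697) (Tr.lf (nat_lit 74873)) (Tr.nd (nat_lit 76777) (Tr.lf (nat_lit 76697)) (Tr.lf (nat_lit 76777)))) (Tr.nd (nat_lit 77243) (Tr.nd (nat_lit 77237) (Tr.lf (nat_lit 76829)) (Tr.lf (nat_lit 77237))) (Tr.nd (nat_lit 77339) (Tr.lf (nat_lit 77243))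 (Tr.lf (nat_lit 77339))))) (Tr.nd (nat_lit 78809) (Tr.nd (nat_lit 78737) (Tr.nd (nat_lit 78697) (Tr.lf (nat_lit 78193)) (Tr.lf (nat_lit 78697))) (Tr.nd (nat_lit 78803) (Tr.lf (nat_lit 78737)) (Tr.lf (nat_lit 78803)))) (Tr.nd (nat_lit 78877) (Tr.nd (nat_lit 78857) (Tr.lf (nat_lit 78809)) (Tr.lf (nat_lit 78857))) (Tr.nd (nat_lit 78887) (Tr.lf (nat_lit 78877)) (Tr.lf (nat_lit 78887)))))))) (Tr.nd (nat_lit 81689) (Tr.nd (nat_lit 80923) (Tr.nd (nat_lit 79613) (Tr.nd (nat_lit 79423) (Tr.nd (nat_lit 79319) (Tr.lf (nat_lit 79201)) (Tr.nd (nat_lit 79337) (Tr.lf (nat_lit 79319)) (Tr.lf (nat_lit 79337)))) (Tr.nd (nat_lit 79451) (Tr.nd (nat_lit 79427) (Tr.lf (nat_lit 79423)) (Tr.lf (nat_lit 79427))) (Tr.nd (nat_lit 79481) (Tr.lf (nat_lit 79451)) (Tr.lf (nat_lit 79481))))) (Tr.nd (nat_lit 80747) (Tr.nd (nat_lit 79699) (Tr.nd (nat_lit 79621) (Tr.lf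 (nat_lit 79613)) (Tr.lf (nat_lit 79621))) (Tr.nd (nat_lit 80251) (Tr.lf (nat_lit 79699)) (Tr.lf (nat_lit 80251)))) (Tr.nd (nat_lit 80809) (Tr.nd (nat_lit 80777) (Tr.lf (nat_lit 80747)) (Tr.lf (nat_lit 80777))) (Tr.nd (nat_lit 80819) (Tr.lf (nat_lit 80809)) (Tr.lf (nat_lit 80819)))))) (Tr.nd (nat_lit 81197) (Tr.nd (nat_lit 81001) (Tr.nd (nat_lit 80929) (Tr.lf (nat_lit 80923)) (Tr.nd (nat_lit 80933) (Tr.lf (nat_lit 80929)) (Tr.lf (nat_lit 80933)))) (Tr.nd (nat_lit 81019) (Tr.nd (nat_lit 81013) (Tr.lf (nat_lit 81001)) (Tr.lf (nat_lit 81013))) (Tr.nd (nat_lit 81023) (Tr.lf (nat_lit 81019)) (Tr.lf (nat_lit 81023))))) (Tr.nd (nat_lit 81611) (Tr.nd (nat_lit 81439) (Tr.nd (nat_lit 81307) (Tr.lf (nat_lit 81197)) (Tr.lf (nat_lit 81307))) (Tr.nd (nat_lit 81457) (Tr.lf (nat_lit 81439)) (Tr.lf (nat_lit 81457)))) (Tr.nd (nat_lit 81671) (Tr.nd (nat_lit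 81619) (Tr.lf (nat_lit 81611)) (Tr.lf (nat_lit 81619))) (Tr.nd (nat_lit 81677) (Tr.lf (nat_lit 81671)) (Tr.lf (nat_lit 81677))))))) (Tr.nd (nat_lit 83023) (Tr.nd (nat_lit 82387) (Tr.nd (nat_lit 81847) (Tr.nd (nat_lit 81701) (Tr.lf (nat_lit 81689)) (Tr.nd (nat_lit 81817) (Tr.lf (nat_lit 81701)) (Tr.lf (nat_lit 81817)))) (Tr.nd (nat_lit 81869) (Tr.nd (nat_lit 81853) (Tr.lf (nat_lit 81847)) (Tr.lf (nat_lit 81853))) (Tr.nd (nat_lit 81953) (Tr.lf (nat_lit 81869)) (Tr.lf (nat_lit 81953))))) (Tr.nd (nat_lit 82757) (Tr.nd (nat_lit 82591) (Tr.nd (nat_lit 82393) (Tr.lf (nat_lit 82387)) (Tr.lf (nat_lit 82393))) (Tr.nd (nat_lit 82723) (Tr.lf (nat_lit 82591)) (Tr.lf (nat_lit 82723)))) (Tr.nd (nat_lit 82837) (Tr.nd (nat_lit 82759) (Tr.lf (nat_lit 82757)) (Tr.lf (nat_lit 82759))) (Tr.nd (nat_lit 82847) (Tr.lf (nat_lit 82837)) (Tr.lf (nat_lit 82847))))))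 (Tr.nd (nat_lit 83459) (Tr.nd (nat_lit 83089) (Tr.nd (nat_lit 83071) (Tr.nd (nat_lit 83047) (Tr.lf (nat_lit 83023)) (Tr.lf (nat_lit 83047))) (Tr.nd (nat_lit 83077) (Tr.lf (nat_lit 83071)) (Tr.lf (nat_lit 83077)))) (Tr.nd (nat_lit 83339) (Tr.nd (nat_lit 83093) (Tr.lf (nat_lit 83089)) (Tr.lf (nat_lit 83093))) (Tr.nd (nat_lit 83341) (Tr.lf (nat_lit 83339)) (Tr.lf (nat_lit 83341))))) (Tr.nd (nat_lit 83689) (Tr.nd (nat_lit 83641) (Tr.nd (nat_lit 83471) (Tr.lf (nat_lit 83459)) (Tr.lf (nat_lit 83471))) (Tr.nd (nat_lit 83663) (Tr.lf (nat_lit 83641)) (Tr.lf (nat_lit 83663)))) (Tr.nd (nat_lit 83903) (Tr.nd (nat_lit 83891) (Tr.lf (nat_lit 83689)) (Tr.lf (nat_lit 83891))) (Tr.nd (nat_lit 83933) (Tr.lf (nat_lit 83903)) (Tr.lf (nat_lit 83933))))))))) (Tr.nd (nat_lit 88667) (Tr.nd (nat_lit 86183) (Tr.nd (nat_lit 85133) (Tr.nd (nat_lit 84523) (Tr.nd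 (nat_lit 84143) (Tr.nd (nat_lit 84127) (Tr.lf (nat_lit 83969)) (Tr.nd (nat_lit 84137) (Tr.lf (nat_lit 84127)) (Tr.lf (nat_lit 84137)))) (Tr.nd (nat_lit 84179) (Tr.nd (nat_lit 84163) (Tr.lf (nat_lit 84143)) (Tr.lf (nat_lit 84163))) (Tr.nd (nat_lit 84239) (Tr.lf (nat_lit 84179)) (Tr.lf (nat_lit 84239))))) (Tr.nd (nat_lit 84787) (Tr.nd (nat_lit 84551) (Tr.nd (nat_lit 84533) (Tr.lf (nat_lit 84523)) (Tr.lf (nat_lit 84533))) (Tr.nd (nat_lit 84559) (Tr.lf (nat_lit 84551)) (Tr.lf (nat_lit 84559)))) (Tr.nd (nat_lit 85021) (Tr.nd (nat_lit 84793) (Tr.lf (nat_lit 84787)) (Tr.lf (nat_lit 84793))) (Tr.nd (nat_lit 85027) (Tr.lf (nat_lit 85021)) (Tr.lf (nat_lit 85027)))))) (Tr.nd (nat_lit 85411) (Tr.nd (nat_lit 85193) (Tr.nd (nat_lit 85147) (Tr.lf (nat_lit 85133)) (Tr.nd (nat_lit 85159) (Tr.lf (nat_lit 85147)) (Tr.lf (nat_lit 85159)))) (Tr.nd (nat_lit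 85363) (Tr.nd (nat_lit 85361) (Tr.lf (nat_lit 85193)) (Tr.lf (nat_lit 85361))) (Tr.nd (nat_lit 85381) (Tr.lf (nat_lit 85363)) (Tr.lf (nat_lit 85381))))) (Tr.nd (nat_lit 85669) (Tr.nd (nat_lit 85661) (Tr.nd (nat_lit 85643) (Tr.lf (nat_lit 85411)) (Tr.lf (nat_lit 85643))) (Tr.nd (nat_lit 85667) (Tr.lf (nat_lit 85661)) (Tr.lf (nat_lit 85667)))) (Tr.nd (nat_lit 85909) (Tr.nd (nat_lit 85903) (Tr.lf (nat_lit 85669)) (Tr.lf (nat_lit 85903))) (Tr.nd (nat_lit 85931) (Tr.lf (nat_lit 85909)) (Tr.lf (nat_lit 85931))))))) (Tr.nd (nat_lit 87221) (Tr.nd (nat_lit 86539) (Tr.nd (nat_lit 86371) (Tr.nd (nat_lit 86201) (Tr.lf (nat_lit 86183)) (Tr.nd (nat_lit 86357) (Tr.lf (nat_lit 86201)) (Tr.lf (nat_lit 86357)))) (Tr.nd (nat_lit 86509) (Tr.nd (nat_lit 86461) (Tr.lf (nat_lit 86371)) (Tr.lf (nat_lit 86461))) (Tr.nd (nat_lit 86531) (Tr.lf (nat_lit 86509))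 (Tr.lf (nat_lit 86531))))) (Tr.nd (nat_lit 86927) (Tr.nd (nat_lit 86573) (Tr.nd (nat_lit 86561) (Tr.lf (nat_lit 86539)) (Tr.lf (nat_lit 86561))) (Tr.nd (nat_lit 86579) (Tr.lf (nat_lit 86573)) (Tr.lf (nat_lit 86579)))) (Tr.nd (nat_lit 86951) (Tr.nd (nat_lit 86929) (Tr.lf (nat_lit 86927)) (Tr.lf (nat_lit 86929))) (Tr.nd (nat_lit 86959) (Tr.lf (nat_lit 86951)) (Tr.lf (nat_lit 86959)))))) (Tr.nd (nat_lit 87671) (Tr.nd (nat_lit 87517) (Tr.nd (nat_lit 87253) (Tr.nd (nat_lit 87251) (Tr.lf (nat_lit 87221)) (Tr.lf (nat_lit 87251))) (Tr.nd (nat_lit 87511) (Tr.lf (nat_lit 87253)) (Tr.lf (nat_lit 87511)))) (Tr.nd (nat_lit 87643) (Tr.nd (nat_lit 87523) (Tr.lf (nat_lit 87517)) (Tr.lf (nat_lit 87523))) (Tr.nd (nat_lit 87649) (Tr.lf (nat_lit 87643)) (Tr.lf (nat_lit 87649))))) (Tr.nd (nat_lit 88321) (Tr.nd (nat_lit 87911) (Tr.nd (nat_lit 87679) (Tr.lf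 (nat_lit 87671)) (Tr.lf (nat_lit 87679))) (Tr.nd (nat_lit 88301) (Tr.lf (nat_lit 87911)) (Tr.lf (nat_lit 88301)))) (Tr.nd (nat_lit 88337) (Tr.nd (nat_lit 88327) (Tr.lf (nat_lit 88321)) (Tr.lf (nat_lit 88327))) (Tr.nd (nat_lit 88663) (Tr.lf (nat_lit 88337)) (Tr.lf (nat_lit 88663)))))))) (Tr.nd (nat_lit 91909) (Tr.nd (nat_lit 89867) (Tr.nd (nat_lit 89293) (Tr.nd (nat_lit 89087) (Tr.nd (nat_lit 88873) (Tr.lf (nat_lit 88667)) (Tr.nd (nat_lit 88883) (Tr.lf (nat_lit 88873)) (Tr.lf (nat_lit 88883)))) (Tr.nd (nat_lit 89227) (Tr.nd (nat_lit 89213) (Tr.lf (nat_lit 89087)) (Tr.lf (nat_lit 89213))) (Tr.nd (nat_lit 89273) (Tr.lf (nat_lit 89227)) (Tr.lf (nat_lit 89273))))) (Tr.nd (nat_lit 89513) (Tr.nd (nat_lit 89317) (Tr.nd (nat_lit 89303) (Tr.lf (nat_lit 89293)) (Tr.lf (nat_lit 89303))) (Tr.nd (nat_lit 89363) (Tr.lf (nat_lit 89317)) (Tr.lf (nat_lit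 89363)))) (Tr.nd (nat_lit 89563) (Tr.nd (nat_lit 89533) (Tr.lf (nat_lit 89513)) (Tr.lf (nat_lit 89533))) (Tr.nd (nat_lit 89567) (Tr.lf (nat_lit 89563)) (Tr.lf (nat_lit 89567)))))) (Tr.nd (nat_lit 90407) (Tr.nd (nat_lit 90187) (Tr.nd (nat_lit 89897) (Tr.lf (nat_lit 89867)) (Tr.nd (nat_lit 90073) (Tr.lf (nat_lit 89897)) (Tr.lf (nat_lit 90073)))) (Tr.nd (nat_lit 90401) (Tr.nd (nat_lit 90191) (Tr.lf (nat_lit 90187)) (Tr.lf (nat_lit 90191))) (Tr.nd (nat_lit 90403) (Tr.lf (nat_lit 90401)) (Tr.lf (nat_lit 90403))))) (Tr.nd (nat_lit 91151) (Tr.nd (nat_lit 91129) (Tr.nd (nat_lit 90437) (Tr.lf (nat_lit 90407)) (Tr.lf (nat_lit 90437))) (Tr.nd (nat_lit 91139) (Tr.lf (nat_lit 91129)) (Tr.lf (nat_lit 91139)))) (Tr.nd (nat_lit 91423) (Tr.nd (nat_lit 91153) (Tr.lf (nat_lit 91151)) (Tr.lf (nat_lit 91153))) (Tr.nd (nat_lit 91631) (Tr.lf (nat_lit 91423))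 (Tr.lf (nat_lit 91631))))))) (Tr.nd (nat_lit 93983) (Tr.nd (nat_lit 92297) (Tr.nd (nat_lit 92107) (Tr.nd (nat_lit 91997) (Tr.lf (nat_lit 91909)) (Tr.nd (nat_lit 92003) (Tr.lf (nat_lit 91997)) (Tr.lf (nat_lit 92003)))) (Tr.nd (nat_lit 92119) (Tr.nd (nat_lit 92111) (Tr.lf (nat_lit 92107)) (Tr.lf (nat_lit 92111))) (Tr.nd (nat_lit 92251) (Tr.lf (nat_lit 92119)) (Tr.lf (nat_lit 92251))))) (Tr.nd (nat_lit 93059) (Tr.nd (nat_lit 92941) (Tr.nd (nat_lit 92657) (Tr.lf (nat_lit 92297)) (Tr.lf (nat_lit 92657))) (Tr.nd (nat_lit 92951) (Tr.lf (nat_lit 92941)) (Tr.lf (nat_lit 92951)))) (Tr.nd (nat_lit 93307) (Tr.nd (nat_lit 93283) (Tr.lf (nat_lit 93059)) (Tr.lf (nat_lit 93283))) (Tr.nd (nat_lit 93971) (Tr.lf (nat_lit 93307)) (Tr.lf (nat_lit 93971)))))) (Tr.nd (nat_lit 95869) (Tr.nd (nat_lit 94873) (Tr.nd (nat_lit 94789) (Tr.nd (nat_lit 94781) (Tr.lf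 (nat_lit 93983)) (Tr.lf (nat_lit 94781))) (Tr.nd (nat_lit 94793) (Tr.lf (nat_lit 94789)) (Tr.lf (nat_lit 94793)))) (Tr.nd (nat_lit 95819) (Tr.nd (nat_lit 95003) (Tr.lf (nat_lit 94873)) (Tr.lf (nat_lit 95003))) (Tr.nd (nat_lit 95857) (Tr.lf (nat_lit 95819)) (Tr.lf (nat_lit 95857))))) (Tr.nd (nat_lit 98849) (Tr.nd (nat_lit 97613) (Tr.nd (nat_lit 96893) (Tr.lf (nat_lit 95869)) (Tr.lf (nat_lit 96893))) (Tr.nd (nat_lit 97649) (Tr.lf (nat_lit 97613)) (Tr.lf (nat_lit 97649)))) (Tr.nd (nat_lit 100391) (Tr.nd (nat_lit 98867) (Tr.lf (nat_lit 98849)) (Tr.lf (nat_lit 98867))) (Tr.nd (nat_lit 101359) (Tr.lf (nat_lit 100391)) (Tr.lf (nat_lit 101359))))))))))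
noncomputable def HP3 : ℕ → ℕ := fun q => Nat.add (Nat.mod HP3t q) (nat_lit 65536)
noncomputable def HR3 : ℕ → ℕ := fun q => (Nat.mod HR3t q)
noncomputable def HW3 : ℕ → ℕ := fun q => (Nat.mod HW3t q)
theorem tree3 : Tr.all (treeP LB3 stp HP3 HR3 HW3 WL3 (fun q => Nat.beq (nat_lit 66071) q)) LB3 = true := by decide +kernel
theorem sub3 : Tr.all (mem L) LB3 = true := by decide +kernel
theorem bst3 : bst LB3 65536 131072 = true := by decide +kernel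
theorem size3 : size LB3 = 243 := by decide +kernel
noncomputable def WL4 : List (List Col) := [[TCG_Fi22.Col.h], [TCG_Fi22.Col.g, TCG_Fi22.Col.f, TCG_Fi22.Col.h, TCG_Fi22.Col.e, TCG_Fi22.Col.d, TCG_Fi22.Col.c, TCG_Fi22.Col.b, TCG_Fi22.Col.a, TCG_Fi22.Col.h, TCG_Fi22.Col.e, TCG_Fi22.Col.d, TCG_Fi22.Col.c, TCG_Fi22.Col.b, TCG_Fi22.Col.a, TCG_Fi22.Col.h, TCG_Fi22.Col.e, TCG_Fi22.Col.d, TCG_Fi22.Col.c, TCG_Fi22.Col.b, TCG_Fi22.Col.a, TCG_Fi22.Col.h, TCG_Fi22.Col.e, TCG_Fi22.Col.d, TCG_Fi22.Col.c, TCG_Fi22.Col.b, TCG_Fi22.Col.a, TCG_Fi22.Col.h, TCG_Fi22.Col.e, TCG_Fi22.Col.d, TCG_Fi22.Col.c, TCG_Fi22.Col.b, TCG_Fi22.Col.a, TCG_Fi22.Col.e, TCG_Fi22.Col.d, TCG_Fi22.Col.f, TCG_Fi22.Col.e, TCG_Fi22.Col.d, TCG_Fi22.Col.g, TCG_Fi22.Col.i, TCG_Fi22.Col.h, TCG_Fi22.Col.d, TCG_Fi22.Col.h, TCG_Fi22.Col.i, TCG_Fi22.Col.a, TCG_Fi22.Col.b, TCG_Fi22.Col.c,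 TCG_Fi22.Col.d, TCG_Fi22.Col.e, TCG_Fi22.Col.h, TCG_Fi22.Col.a, TCG_Fi22.Col.b, TCG_Fi22.Col.c, TCG_Fi22.Col.d, TCG_Fi22.Col.e, TCG_Fi22.Col.h, TCG_Fi22.Col.a, TCG_Fi22.Col.b, TCG_Fi22.Col.c, TCG_Fi22.Col.d, TCG_Fi22.Col.e, TCG_Fi22.Col.h, TCG_Fi22.Col.a, TCG_Fi22.Col.b, TCG_Fi22.Col.c, TCG_Fi22.Col.d, TCG_Fi22.Col.e, TCG_Fi22.Col.h, TCG_Fi22.Col.a, TCG_Fi22.Col.b, TCG_Fi22.Col.c, TCG_Fi22.Col.d, TCG_Fi22.Col.e, TCG_Fi22.Col.h, TCG_Fi22.Col.i, TCG_Fi22.Col.e, TCG_Fi22.Col.d, TCG_Fi22.Col.h, TCG_Fi22.Col.e, TCG_Fi22.Col.f, TCG_Fi22.Col.g, TCG_Fi22.Col.f, TCG_Fi22.Col.h, TCG_Fi22.Col.i, TCG_Fi22.Col.h, TCG_Fi22.Col.e, TCG_Fi22.Col.d, TCG_Fi22.Col.c, TCG_Fi22.Col.b, TCG_Fi22.Col.a, TCG_Fi22.Col.h, TCG_Fi22.Col.e, TCG_Fi22.Col.d, TCG_Fi22.Col.c, TCG_Fi22.Col.b, TCG_Fi22.Col.a, TCG_Fi22.Col.h, TCG_Fi22.Col.e, TCG_Fi22.Col.d, TCG_Fi22.Col.c,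 TCG_Fi22.Col.b, TCG_Fi22.Col.a, TCG_Fi22.Col.h, TCG_Fi22.Col.e, TCG_Fi22.Col.d, TCG_Fi22.Col.c, TCG_Fi22.Col.b, TCG_Fi22.Col.a, TCG_Fi22.Col.h, TCG_Fi22.Col.e, TCG_Fi22.Col.d, TCG_Fi22.Col.c, TCG_Fi22.Col.b, TCG_Fi22.Col.a, TCG_Fi22.Col.e, TCG_Fi22.Col.f, TCG_Fi22.Col.g, TCG_Fi22.Col.a, TCG_Fi22.Col.b, TCG_Fi22.Col.c, TCG_Fi22.Col.d, TCG_Fi22.Col.e, TCG_Fi22.Col.h, TCG_Fi22.Col.a, TCG_Fi22.Col.b, TCG_Fi22.Col.c, TCG_Fi22.Col.d, TCG_Fi22.Col.e, TCG_Fi22.Col.h, TCG_Fi22.Col.a, TCG_Fi22.Col.b, TCG_Fi22.Col.c, TCG_Fi22.Col.d, TCG_Fi22.Col.e, TCG_Fi22.Col.h, TCG_Fi22.Col.a, TCG_Fi22.Col.b, TCG_Fi22.Col.c, TCG_Fi22.Col.d, TCG_Fi22.Col.e, TCG_Fi22.Col.h, TCG_Fi22.Col.a, TCG_Fi22.Col.b, TCG_Fi22.Col.c, TCG_Fi22.Col.d, TCG_Fi22.Col.e, TCG_Fi22.Col.h, TCG_Fi22.Col.i, TCG_Fi22.Col.h, TCG_Fi22.Col.g, TCG_Fi22.Col.f, TCG_Fi22.Col.e, TCG_Fi22.Col.d,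 TCG_Fi22.Col.h, TCG_Fi22.Col.e, TCG_Fi22.Col.i, TCG_Fi22.Col.h, TCG_Fi22.Col.e], [TCG_Fi22.Col.h, TCG_Fi22.Col.e, TCG_Fi22.Col.d, TCG_Fi22.Col.c, TCG_Fi22.Col.b, TCG_Fi22.Col.a, TCG_Fi22.Col.h, TCG_Fi22.Col.e, TCG_Fi22.Col.d, TCG_Fi22.Col.c, TCG_Fi22.Col.b, TCG_Fi22.Col.a, TCG_Fi22.Col.h, TCG_Fi22.Col.e, TCG_Fi22.Col.d, TCG_Fi22.Col.c, TCG_Fi22.Col.b, TCG_Fi22.Col.a, TCG_Fi22.Col.h, TCG_Fi22.Col.e, TCG_Fi22.Col.d, TCG_Fi22.Col.c, TCG_Fi22.Col.b, TCG_Fi22.Col.a, TCG_Fi22.Col.h, TCG_Fi22.Col.e, TCG_Fi22.Col.d, TCG_Fi22.Col.c, TCG_Fi22.Col.b, TCG_Fi22.Col.a, TCG_Fi22.Col.f, TCG_Fi22.Col.e, TCG_Fi22.Col.g, TCG_Fi22.Col.f, TCG_Fi22.Col.d, TCG_Fi22.Col.f, TCG_Fi22.Col.h, TCG_Fi22.Col.g, TCG_Fi22.Col.e, TCG_Fi22.Col.f, TCG_Fi22.Col.a, TCG_Fi22.Col.b, TCG_Fi22.Col.c, TCG_Fi22.Col.d, TCG_Fi22.Col.e, TCG_Fi22.Col.h, TCG_Fi22.Col.a, TCG_Fi22.Col.b,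 TCG_Fi22.Col.c, TCG_Fi22.Col.d, TCG_Fi22.Col.e, TCG_Fi22.Col.h, TCG_Fi22.Col.a, TCG_Fi22.Col.b, TCG_Fi22.Col.c, TCG_Fi22.Col.d, TCG_Fi22.Col.e, TCG_Fi22.Col.h, TCG_Fi22.Col.a, TCG_Fi22.Col.b, TCG_Fi22.Col.c, TCG_Fi22.Col.d, TCG_Fi22.Col.e, TCG_Fi22.Col.h, TCG_Fi22.Col.a, TCG_Fi22.Col.b, TCG_Fi22.Col.c, TCG_Fi22.Col.d, TCG_Fi22.Col.e, TCG_Fi22.Col.h, TCG_Fi22.Col.i, TCG_Fi22.Col.e, TCG_Fi22.Col.h, TCG_Fi22.Col.d, TCG_Fi22.Col.g, TCG_Fi22.Col.f, TCG_Fi22.Col.e, TCG_Fi22.Col.h, TCG_Fi22.Col.i, TCG_Fi22.Col.h, TCG_Fi22.Col.e, TCG_Fi22.Col.d, TCG_Fi22.Col.c, TCG_Fi22.Col.b, TCG_Fi22.Col.a, TCG_Fi22.Col.h, TCG_Fi22.Col.e, TCG_Fi22.Col.d, TCG_Fi22.Col.c, TCG_Fi22.Col.b, TCG_Fi22.Col.a, TCG_Fi22.Col.h, TCG_Fi22.Col.e, TCG_Fi22.Col.d, TCG_Fi22.Col.c, TCG_Fi22.Col.b, TCG_Fi22.Col.a, TCG_Fi22.Col.h, TCG_Fi22.Col.e, TCG_Fi22.Col.d, TCG_Fi22.Col.c,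 TCG_Fi22.Col.b, TCG_Fi22.Col.a, TCG_Fi22.Col.h, TCG_Fi22.Col.e, TCG_Fi22.Col.d, TCG_Fi22.Col.c, TCG_Fi22.Col.b, TCG_Fi22.Col.a, TCG_Fi22.Col.i, TCG_Fi22.Col.a, TCG_Fi22.Col.b, TCG_Fi22.Col.c, TCG_Fi22.Col.f, TCG_Fi22.Col.e, TCG_Fi22.Col.d, TCG_Fi22.Col.c, TCG_Fi22.Col.h, TCG_Fi22.Col.d, TCG_Fi22.Col.h, TCG_Fi22.Col.d, TCG_Fi22.Col.c, TCG_Fi22.Col.b, TCG_Fi22.Col.a, TCG_Fi22.Col.i, TCG_Fi22.Col.g, TCG_Fi22.Col.d, TCG_Fi22.Col.e, TCG_Fi22.Col.f, TCG_Fi22.Col.a, TCG_Fi22.Col.b, TCG_Fi22.Col.c, TCG_Fi22.Col.d, TCG_Fi22.Col.e, TCG_Fi22.Col.h, TCG_Fi22.Col.a, TCG_Fi22.Col.b, TCG_Fi22.Col.c, TCG_Fi22.Col.d, TCG_Fi22.Col.e, TCG_Fi22.Col.h, TCG_Fi22.Col.a, TCG_Fi22.Col.b, TCG_Fi22.Col.c, TCG_Fi22.Col.d, TCG_Fi22.Col.e, TCG_Fi22.Col.h, TCG_Fi22.Col.a, TCG_Fi22.Col.b, TCG_Fi22.Col.c, TCG_Fi22.Col.d, TCG_Fi22.Col.e, TCG_Fi22.Col.h, TCG_Fi22.Col.a,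 TCG_Fi22.Col.b, TCG_Fi22.Col.c, TCG_Fi22.Col.d, TCG_Fi22.Col.e, TCG_Fi22.Col.h, TCG_Fi22.Col.g, TCG_Fi22.Col.d, TCG_Fi22.Col.e, TCG_Fi22.Col.f, TCG_Fi22.Col.h, TCG_Fi22.Col.i, TCG_Fi22.Col.h, TCG_Fi22.Col.e, TCG_Fi22.Col.d, TCG_Fi22.Col.c, TCG_Fi22.Col.b, TCG_Fi22.Col.a, TCG_Fi22.Col.h, TCG_Fi22.Col.e, TCG_Fi22.Col.d, TCG_Fi22.Col.c, TCG_Fi22.Col.b, TCG_Fi22.Col.a, TCG_Fi22.Col.h, TCG_Fi22.Col.e, TCG_Fi22.Col.d, TCG_Fi22.Col.c, TCG_Fi22.Col.b, TCG_Fi22.Col.a, TCG_Fi22.Col.h, TCG_Fi22.Col.e, TCG_Fi22.Col.d, TCG_Fi22.Col.c, TCG_Fi22.Col.b, TCG_Fi22.Col.a, TCG_Fi22.Col.h, TCG_Fi22.Col.e, TCG_Fi22.Col.d, TCG_Fi22.Col.c, TCG_Fi22.Col.b, TCG_Fi22.Col.a, TCG_Fi22.Col.e, TCG_Fi22.Col.f, TCG_Fi22.Col.g, TCG_Fi22.Col.a, TCG_Fi22.Col.b, TCG_Fi22.Col.c, TCG_Fi22.Col.d, TCG_Fi22.Col.e, TCG_Fi22.Col.h, TCG_Fi22.Col.a, TCG_Fi22.Col.b, TCG_Fi22.Col.c,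 TCG_Fi22.Col.d, TCG_Fi22.Col.e, TCG_Fi22.Col.h, TCG_Fi22.Col.a, TCG_Fi22.Col.b, TCG_Fi22.Col.c, TCG_Fi22.Col.d, TCG_Fi22.Col.e, TCG_Fi22.Col.h, TCG_Fi22.Col.a, TCG_Fi22.Col.b, TCG_Fi22.Col.c, TCG_Fi22.Col.d, TCG_Fi22.Col.e, TCG_Fi22.Col.h, TCG_Fi22.Col.a, TCG_Fi22.Col.b, TCG_Fi22.Col.c, TCG_Fi22.Col.d, TCG_Fi22.Col.e, TCG_Fi22.Col.h, TCG_Fi22.Col.i, TCG_Fi22.Col.h, TCG_Fi22.Col.g, TCG_Fi22.Col.f, TCG_Fi22.Col.e, TCG_Fi22.Col.d, TCG_Fi22.Col.f, TCG_Fi22.Col.h, TCG_Fi22.Col.e, TCG_Fi22.Col.i]]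
noncomputable def HP4t : ℕ := (nat_lit 0x1952e2d3b83ef054eee081dd5bc87d6d0ef8a5d2523c6a82a6e6c5ac3591fa09d7)
noncomputable def HR4t : ℕ := (nat_lit 0x7590f5ccf35e07eeabc10cbdb9c38df1ed3acf59fa921efa986091eac4880b5b2)
noncomputable def HW4t : ℕ := (nat_lit 0xb0bb31686fe4b15536f16a512d04a26a6ba32737e0667dbff188798c254984ce0)
noncomputable def LB4 : Tr ℕ := (Tr.nd (nat_lit 86179) (Tr.nd (nat_lit 75307) (Tr.nd (nat_lit 65647) (Tr.nd (nat_lit 65633) (Tr.lf (nat_lit 65587)) (Tr.lf (nat_lit 65633))) (Tr.nd (nat_lit 65717) (Tr.lf (nat_lit 65647)) (Tr.lf (nat_lit 65717)))) (Tr.nd (nat_lit 77431) (Tr.nd (nat_lit 77419) (Tr.lf (nat_lit 75307)) (Tr.lf (nat_lit 77419))) (Tr.nd (nat_lit 79757) (Tr.lf (nat_lit 77431)) (Tr.lf (nat_lit 79757))))) (Tr.nd (nat_lit 97861) (Tr.nd (nat_lit 88867) (Tr.nd (nat_lit 87881) (Tr.lf (nat_lit 86179)) (Tr.lf (nat_lit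 87881))) (Tr.nd (nat_lit 90709) (Tr.lf (nat_lit 88867)) (Tr.lf (nat_lit 90709)))) (Tr.nd (nat_lit 100519) (Tr.nd (nat_lit 100517) (Tr.lf (nat_lit 97861)) (Tr.lf (nat_lit 100517))) (Tr.nd (nat_lit 102533) (Tr.lf (nat_lit 100519)) (Tr.lf (nat_lit 102533))))))
noncomputable def HP4 : ℕ → ℕ := fun q => Nat.add (Nat.mod HP4t q) (nat_lit 65536)
noncomputable def HR4 : ℕ → ℕ := fun q => (Nat.mod HR4t q)
noncomputable def HW4 : ℕ → ℕ := fun q => (Nat.mod HW4t q)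
theorem tree4 : Tr.all (treeP LB4 stp HP4 HR4 HW4 WL4 (fun q => Nat.beq (nat_lit 65587) q)) LB4 = true := by decide +kernel
theorem sub4 : Tr.all (mem L) LB4 = true := by decide +kernel
theorem bst4 : bst LB4 65536 131072 = true := by decide +kernel
theorem size4 : size LB4 = 16 := by decide +kernel
section
variable {Γ : Type} [Group Γ] [Finite Γ] (ψ : Γ →* Equiv.Perm (Om L)) (g : Col → Γ) (hψ : ∀ c, ψ (g c) = closed.perm c)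
include hψ
omit hψ in
theorem lev5 : 1 ≤ Nat.card (stabN ψ [65587, 66071, 67589, 65539, 65537]) := lev_zero _ _
theorem lev4 : 16 ≤ Nat.card (stabN ψ [66071, 67589, 65539, 65537]) :=
  lev_step closed ψ g hψ [66071, 67589, 65539, 65537] 65587 bst4 sub4 (by decide +kernel) (by decide +kernel) tree4 (lev5 ψ) size4 (by norm_num)
theorem lev3 : 3888 ≤ Nat.card (stabN ψ [67589, 65539, 65537]) :=
  lev_step closed ψ g hψ [67589, 65539, 65537] 66071 bst3 sub3 (by decide +kernel) (by decide +kernel) tree3 (lev4 ψ g hψ) size3 (by norm_num)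
theorem lev2 : 6531840 ≤ Nat.card (stabN ψ [65539, 65537]) :=
  lev_step closed ψ g hψ [65539, 65537] 67589 bst2 sub2 (by decide +kernel) (by decide +kernel) tree2 (lev3 ψ g hψ) size2 (by norm_num)
theorem lev1 : 18393661440 ≤ Nat.card (stabN ψ [65537]) :=
  lev_step closed ψ g hψ [65537] 65539 bst1 sub1 (by decide +kernel) (by decide +kernel) tree1 (lev2 ψ g hψ) size1 (by norm_num)
theorem lev0 : 64561751654400 ≤ Nat.card (stabN ψ []) :=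
  lev_step closed ψ g hψ [] 65537 bst_chk sub0 (by decide +kernel) (by decide +kernel) tree0 (lev1 ψ g hψ) size_L (by norm_num)
end
end CfsgLib.TCFi22.Chain
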