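import Cfsg.Agent.EqBase
import Cfsg.Agent.LibTCGFi22
set_option autoImplicit false
set_option linter.all false
set_option maxRecDepth 1000000
set_option maxHeartbeats 0
namespace CfsgLib.TCFi22d
open CfsgLib.TC Cfsg.Spor
inductive Col where
  | b
  | c
  | d
  | e
  | f
  | g
  | h
noncomputable def idx : Col → ℕ := fun c => Col.rec (motive := fun _ => ℕ) 0 1 2 3 4 5 6 c
noncomputable def inv : Col → Col := fun c => Col.rec (motive := fun _ => Col) .b .c .d .e .f .g .h c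
def dec : ℕ → Col := fun n => if n = 0 then .b else if n = 1 then .c else if n = 2 then .d else if n = 3 then .e else if n = 4 then .f else if n = 5 then .g else .h
theorem hdec : ∀ c, dec (idx c) = c := by intro c; cases c <;> rfl
theorem inv_inv : ∀ c, inv (inv c) = c := by intro c; cases c <;> rfl
def cols : List Col := [Col.b, Col.c, Col.d, Col.e, Col.f, Col.g, Col.h]
theorem hcols : ∀ c, c ∈ cols := by intro c; cases c <;> simp [cols]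
/-- relators as path words (first letter acts first) -/
noncomputable def RWb : List (List Col) := [[Col.b, Col.b],
  [Col.c, Col.b, Col.c, Col.b, Col.c, Col.b],
  [Col.d, Col.b, Col.d, Col.b],
  [Col.e, Col.b, Col.e, Col.b],
  [Col.f, Col.b, Col.f, Col.b],
  [Col.g, Col.b, Col.g, Col.b],
  [Col.h, Col.b, Col.h, Col.b],
  [Col.c, Col.c],
  [Col.d, Col.c, Col.d, Col.c, Col.d, Col.c],
  [Col.e, Col.c, Col.e, Col.c],
  [Col.f, Col.c, Col.f, Col.c],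
  [Col.g, Col.c, Col.g, Col.c],
  [Col.h, Col.c, Col.h, Col.c],
  [Col.d, Col.d],
  [Col.e, Col.d, Col.e, Col.d, Col.e, Col.d],
  [Col.f, Col.d, Col.f, Col.d],
  [Col.g, Col.d, Col.g, Col.d],
  [Col.h, Col.d, Col.h, Col.d, Col.h, Col.d],
  [Col.e, Col.e],
  [Col.f, Col.e, Col.f, Col.e, Col.f, Col.e],
  [Col.g, Col.e, Col.g, Col.e],
  [Col.h, Col.e, Col.h, Col.e],
  [Col.f, Col.f],
  [Col.g, Col.f, Col.g, Col.f, Col.g, Col.f],
  [Col.h, Col.f, Col.h, Col.f],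
  [Col.g, Col.g],
  [Col.h, Col.g, Col.h, Col.g],
  [Col.h, Col.h],
  [Col.h, Col.g, Col.f, Col.e, Col.d, Col.c, Col.b, Col.h, Col.g, Col.f, Col.e, Col.d, Col.c, Col.b, Col.h, Col.g, Col.f, Col.e, Col.d, Col.c, Col.b, Col.h, Col.g, Col.f, Col.e, Col.d, Col.c, Col.b, Col.h, Col.g, Col.f, Col.e, Col.d, Col.c, Col.b, Col.h, Col.g, Col.f, Col.e, Col.d, Col.c, Col.b, Col.h, Col.g, Col.f, Col.e, Col.d, Col.c, Col.b, Col.h, Col.g, Col.f, Col.e, Col.d, Col.c, Col.b, Col.h, Col.g, Col.f, Col.e, Col.d, Col.c, Col.b]]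
noncomputable def RWe : List (List Col) := []
noncomputable def RW : List (List Col) := [[Col.b, Col.b],
  [Col.c, Col.b, Col.c, Col.b, Col.c, Col.b],
  [Col.d, Col.b, Col.d, Col.b],
  [Col.e, Col.b, Col.e, Col.b],
  [Col.f, Col.b, Col.f, Col.b],
  [Col.g, Col.b, Col.g, Col.b],
  [Col.h, Col.b, Col.h, Col.b],
  [Col.c, Col.c],
  [Col.d, Col.c, Col.d, Col.c, Col.d, Col.c],
  [Col.e, Col.c, Col.e, Col.c],
  [Col.f, Col.c, Col.f, Col.c],
  [Col.g, Col.c, Col.g, Col.c],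
  [Col.h, Col.c, Col.h, Col.c],
  [Col.d, Col.d],
  [Col.e, Col.d, Col.e, Col.d, Col.e, Col.d],
  [Col.f, Col.d, Col.f, Col.d],
  [Col.g, Col.d, Col.g, Col.d],
  [Col.h, Col.d, Col.h, Col.d, Col.h, Col.d],
  [Col.e, Col.e],
  [Col.f, Col.e, Col.f, Col.e, Col.f, Col.e],
  [Col.g, Col.e, Col.g, Col.e],
  [Col.h, Col.e, Col.h, Col.e],
  [Col.f, Col.f],
  [Col.g, Col.f, Col.g, Col.f, Col.g, Col.f],
  [Col.h, Col.f, Col.h, Col.f],
  [Col.g, Col.g],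
  [Col.h, Col.g, Col.h, Col.g],
  [Col.h, Col.h],
  [Col.h, Col.g, Col.f, Col.e, Col.d, Col.c, Col.b, Col.h, Col.g, Col.f, Col.e, Col.d, Col.c, Col.b, Col.h, Col.g, Col.f, Col.e, Col.d, Col.c, Col.b, Col.h, Col.g, Col.f, Col.e, Col.d, Col.c, Col.b, Col.h, Col.g, Col.f, Col.e, Col.d, Col.c, Col.b, Col.h, Col.g, Col.f, Col.e, Col.d, Col.c, Col.b, Col.h, Col.g, Col.f, Col.e, Col.d, Col.c, Col.b, Col.h, Col.g, Col.f, Col.e, Col.d, Col.c, Col.b, Col.h, Col.g, Col.f, Col.e, Col.d, Col.c, Col.b]]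
theorem rw_mem : ∀ w ∈ RW, w ∈ RWb ∨ w ∈ RWe := fun w hw => Or.inl hw
def emb : Col → TCG_Fi22.Col
  | .b => .b
  | .c => .c
  | .d => .d
  | .e => .e
  | .f => .f
  | .g => .g
  | .h => .h
theorem emb_inv : ∀ c, emb (inv c) = TCG_Fi22.inv (emb c) := by intro c; cases c <;> rfl
def RI : List ℕ := [9, 10, 11, 12, 13, 14, 15, 17, 18, 19, 20, 21, 22, 24, 25, 26, 27, 28, 30, 31, 32, 33, 35, 36, 37, 39, 40, 42, 47]
theorem ri_chk : lleq TCG_Fi22.idx (mapR (nthR TCG_Fi22.RW) RI) (mapR (mapR emb) RWb) = true := by decide +kernel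
/-- the family of generators -/
def Pc {G : Type*} [Group G] (f : Fi22.Gen → G) (c : Col) : G := TCG_Fi22.Pc f (emb c)
theorem Pc_inv {G : Type*} [Group G] {f : Fi22.Gen → G} (hs : Sat Fi22.edges Fi22.extra f) (c : Col) : Pc f (inv c) = (Pc f c)⁻¹ := by
  rw [Pc, emb_inv]; exact TCG_Fi22.Pc_inv hs _
theorem Pc_RW {G : Type*} [Group G] {f : Fi22.Gen → G} (hs : Sat Fi22.edges Fi22.extra f) : ∀ w ∈ RWb, gw (Pc f) w = 1 :=
  rw_sub TCG_Fi22.dec TCG_Fi22.hdec emb RI ri_chk (TCG_Fi22.Pc f) (TCG_Fi22.Pc_RW hs)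
noncomputable def SW0 : List (List Col) := [[Col.b], [Col.c], [Col.d], [Col.e], [Col.f], [Col.h]]
def T_b : ℕ := (nat_lit 0x6591559732a337e3bd647c0477161e552a5bf808f1594a77141215cc16a2910b7)
def T_c : ℕ := (nat_lit 0x16fc403b4f8f22dbf20e5aa2921541f0ba9b970f966975447ebc85ec979f028cd)
def T_d : ℕ := (nat_lit 0x652b9583e74c7988081a0d4c81151239532116d1f67aa6d8ec9059b9fa4370aed)
def T_e : ℕ := (nat_lit 0x447d2044118f650f01fc4126ad1a4f1b342576a32ff4e671c5b360e4933e5bf4b)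
def T_f : ℕ := (nat_lit 0x324375a64d7ea98b51c810e3f89a86f72bc8cc50a46d00439ca1c64802d3860c3)
def T_g : ℕ := (nat_lit 0x5eec3ca202650f941bf9249edd8d39da3138238c4ab662201151269e39f1bd21a)
def T_h : ℕ := (nat_lit 0x2486d727f3a42bd61edaf6978b95406ade8567272c4a64bb4f27c1044ddd9970d)
def U_b : ℕ := (nat_lit 0x3ec349e43147cad1effd578fe779e4bf88295435b54a1c601f19ac234222f2e09)
def U_c : ℕ := (nat_lit 0x1759890ccacde75484e32b46854b7b97fc675669ff707073d0fa866d449f692f2)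
def U_d : ℕ := (nat_lit 0x4f171f376c3078e53bcef8bc4eb88746324b3fa619ba9e7e1a4fa481f86497fbc)
def U_e : ℕ := (nat_lit 0x3747e065c018aee6a0f2f17f7b24f8d18675427b3fd17836928df0f1746df26af)
def U_f : ℕ := (nat_lit 0xa37fabea728b014249c5d3d231706b966dea008ceaf6e62987f517dd3ad17cc9)
def U_g : ℕ := (nat_lit 0x153b4ff2e801797af3a747ecb0fb697e122482891d3c1ed5371cc7b26978012e)
def U_h : ℕ := (nat_lit 0x8de947cdd83e0f35a22e1384fb413ed0b5f952681faa789a66d8220b64320343)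
def V_b : ℕ := (nat_lit 0x40cbfc2d69d53d5312e78a050eb4d7b44912f197949c6ba3fbb309ec112a55e60)
def V_c : ℕ := (nat_lit 0x4845d23e5604e6e814d414aa1f8becaf5983846c6e21ac9aae3f28c4e4850f8f)
def V_d : ℕ := (nat_lit 0x4b49f822b4480dc28f50ac51b64a3f0f448b3ed7de88b4d8d9529dbfb764248e1)
def V_e : ℕ := (nat_lit 0x3058d94eacdb2fd1c88849885e2ff22a6e44e0fa5219e37b0b326b1d1eaa56894)
def V_f : ℕ := (nat_lit 0x64170a0b2602b9da882ee8363353b9c8f8f2d6940d728c56263500dc33469997b)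
def V_g : ℕ := (nat_lit 0x5b2f443a3081ce80ac2dabe321a7b652dd2eea146eac7a1f9b5fa778432ed90b1)
def V_h : ℕ := (nat_lit 0x65a4d566c16e5461428f1d37ad0efb310d7dae08a4998fd45d4df20c18215d734)
def PP : ℕ := (nat_lit 0x34116f7a9f19e06405fa06ecff0ea08786038b6598dde88147378bb8351a9bcd2)
def DD : ℕ := (nat_lit 0x1b835e7a59b358972578110bc886e7eaf62cd30c131a6edf40470fc047b61c5c9)
noncomputable def stp : Col → ℕ → ℕ := fun c q => Nat.add (Nat.mod (Col.rec (motive := fun _ => ℕ) T_b T_c T_d T_e T_f T_g T_h c) q) (nat_lit 512)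
noncomputable def tau : Col → ℕ → ℕ := fun c q => (Nat.mod (Col.rec (motive := fun _ => ℕ) U_b U_c U_d U_e U_f U_g U_h c) q)
noncomputable def del : Col → ℕ → ℕ := fun c q => (Nat.mod (Col.rec (motive := fun _ => ℕ) V_b V_c V_d V_e V_f V_g V_h c) q)
noncomputable def PT : ℕ → ℕ := fun q => Nat.add (Nat.mod PP q) (nat_lit 512)
noncomputable def DT : ℕ → ℕ := fun q => (Nat.mod DD q)
noncomputable def L_0 : Tr ℕ := (Tr.nd (nat_lit 613) (Tr.nd (nat_lit 571) (Tr.nd (nat_lit 547) (Tr.nd (nat_lit 523) (Tr.lf (nat_lit 521)) (Tr.nd (nat_lit 541) (Tr.lf (nat_lit 523)) (Tr.lf (nat_lit 541)))) (Tr.nd (nat_lit 563) (Tr.nd (nat_lit 557) (Tr.lf (nat_lit 547)) (Tr.lf (nat_lit 557))) (Tr.nd (nat_lit 569) (Tr.lf (nat_lit 563)) (Tr.lf (nat_lit 569))))) (Tr.nd (nat_lit 593) (Tr.nd (nat_lit 577) (Tr.lf (nat_lit 571)) (Tr.nd (nat_lit 587) (Tr.lf (nat_lit 577)) (Tr.lf (nat_lit 587)))) (Tr.nd (nat_lit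 601) (Tr.nd (nat_lit 599) (Tr.lf (nat_lit 593)) (Tr.lf (nat_lit 599))) (Tr.nd (nat_lit 607) (Tr.lf (nat_lit 601)) (Tr.lf (nat_lit 607)))))) (Tr.nd (nat_lit 653) (Tr.nd (nat_lit 631) (Tr.nd (nat_lit 617) (Tr.lf (nat_lit 613)) (Tr.nd (nat_lit 619) (Tr.lf (nat_lit 617)) (Tr.lf (nat_lit 619)))) (Tr.nd (nat_lit 643) (Tr.nd (nat_lit 641) (Tr.lf (nat_lit 631)) (Tr.lf (nat_lit 641))) (Tr.nd (nat_lit 647) (Tr.lf (nat_lit 643)) (Tr.lf (nat_lit 647))))) (Tr.nd (nat_lit 673) (Tr.nd (nat_lit 659) (Tr.lf (nat_lit 653)) (Tr.nd (nat_lit 661) (Tr.lf (nat_lit 659)) (Tr.lf (nat_lit 661)))) (Tr.nd (nat_lit 683) (Tr.nd (nat_lit 677) (Tr.lf (nat_lit 673)) (Tr.lf (nat_lit 677))) (Tr.nd (nat_lit 691) (Tr.lf (nat_lit 683)) (Tr.lf (nat_lit 691)))))))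
noncomputable def L : Tr ℕ := L_0
noncomputable def A : Tr (Alt Col) := (Tr.nd (nat_lit 28) (Tr.nd (nat_lit 14) (Tr.nd (nat_lit 7) (Tr.nd (nat_lit 3) (Tr.nd (nat_lit 1) (Tr.lf Alt.tree) (Tr.nd (nat_lit 2) (Tr.lf (Alt.word (nat_lit 25) (nat_lit 0) true [Col.g, Col.g])) (Tr.lf (Alt.word (nat_lit 22) (nat_lit 0) true [Col.f, Col.f])))) (Tr.nd (nat_lit 5) (Tr.nd (nat_lit 4) (Tr.lf (Alt.word (nat_lit 18) (nat_lit 0) true [Col.e, Col.e])) (Tr.lf (Alt.word (nat_lit 13) (nat_lit 0) true [Col.d, Col.d]))) (Tr.nd (nat_lit 6) (Tr.lf (Alt.word (nat_lit 7) (nat_lit 0) true [Col.c, Col.c])) (Tr.lf (Alt.word (nat_lit 27) (nat_lit 0) true [Col.h, Col.h]))))) (Tr.nd (nat_lit 10) (Tr.nd (nat_lit 8) (Tr.lf (Alt.word (nat_lit 0) (nat_lit 0) true [Col.b, Col.b])) (Tr.nd (nat_lit 9) (Tr.lf (Alt.word (nat_lit 5) (nat_lit 1) true [Col.b, Col.g, Col.b, Col.g])) (Tr.lf (Alt.word (nat_lit 11) (nat_lit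 1) true [Col.c, Col.g, Col.c, Col.g])))) (Tr.nd (nat_lit 12) (Tr.nd (nat_lit 11) (Tr.lf (Alt.word (nat_lit 4) (nat_lit 1) true [Col.b, Col.f, Col.b, Col.f])) (Tr.lf (Alt.word (nat_lit 10) (nat_lit 1) true [Col.c, Col.f, Col.c, Col.f]))) (Tr.nd (nat_lit 13) (Tr.lf (Alt.word (nat_lit 15) (nat_lit 1) true [Col.d, Col.f, Col.d, Col.f])) (Tr.lf (Alt.word (nat_lit 3) (nat_lit 1) true [Col.b, Col.e, Col.b, Col.e])))))) (Tr.nd (nat_lit 21) (Tr.nd (nat_lit 17) (Tr.nd (nat_lit 15) (Tr.lf (Alt.word (nat_lit 9) (nat_lit 1) true [Col.c, Col.e, Col.c, Col.e])) (Tr.nd (nat_lit 16) (Tr.lf (Alt.word (nat_lit 9) (nat_lit 0) true [Col.e, Col.c, Col.e, Col.c])) (Tr.lf (Alt.word (nat_lit 10) (nat_lit 0) true [Col.f, Col.c, Col.f, Col.c])))) (Tr.nd (nat_lit 19) (Tr.nd (nat_lit 18) (Tr.lf (Alt.word (nat_lit 11) (nat_lit 0) true [Col.g, Col.c, Col.g, Col.c])) (Tr.lf (Alt.word (nat_lit 6) (nat_lit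 1) true [Col.b, Col.h, Col.b, Col.h]))) (Tr.nd (nat_lit 20) (Tr.lf (Alt.word (nat_lit 2) (nat_lit 0) true [Col.d, Col.b, Col.d, Col.b])) (Tr.lf (Alt.word (nat_lit 3) (nat_lit 0) true [Col.e, Col.b, Col.e, Col.b]))))) (Tr.nd (nat_lit 24) (Tr.nd (nat_lit 22) (Tr.lf (Alt.word (nat_lit 4) (nat_lit 0) true [Col.f, Col.b, Col.f, Col.b])) (Tr.nd (nat_lit 23) (Tr.lf (Alt.word (nat_lit 5) (nat_lit 0) true [Col.g, Col.b, Col.g, Col.b])) (Tr.lf (Alt.word (nat_lit 12) (nat_lit 1) true [Col.c, Col.h, Col.c, Col.h])))) (Tr.nd (nat_lit 26) (Tr.nd (nat_lit 25) (Tr.lf (Alt.word (nat_lit 6) (nat_lit 0) true [Col.h, Col.b, Col.h, Col.b])) (Tr.lf (Alt.word (nat_lit 12) (nat_lit 0) true [Col.h, Col.c, Col.h, Col.c]))) (Tr.nd (nat_lit 27) (Tr.lf (Alt.word (nat_lit 16) (nat_lit 1) true [Col.d, Col.g, Col.d, Col.g])) (Tr.lf (Alt.word (nat_lit 20) (nat_lit 1) true [Col.e, Col.g, Col.e, Col.g])))))))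 (Tr.nd (nat_lit 42) (Tr.nd (nat_lit 35) (Tr.nd (nat_lit 31) (Tr.nd (nat_lit 29) (Tr.lf (Alt.word (nat_lit 26) (nat_lit 0) true [Col.h, Col.g, Col.h, Col.g])) (Tr.nd (nat_lit 30) (Tr.lf (Alt.word (nat_lit 2) (nat_lit 1) true [Col.b, Col.d, Col.b, Col.d])) (Tr.lf (Alt.word (nat_lit 15) (nat_lit 0) true [Col.f, Col.d, Col.f, Col.d])))) (Tr.nd (nat_lit 33) (Tr.nd (nat_lit 32) (Tr.lf (Alt.word (nat_lit 16) (nat_lit 0) true [Col.g, Col.d, Col.g, Col.d])) (Tr.lf (Alt.word (nat_lit 24) (nat_lit 0) true [Col.h, Col.f, Col.h, Col.f]))) (Tr.nd (nat_lit 34) (Tr.lf (Alt.word (nat_lit 19) (nat_lit 0) true [Col.f, Col.e, Col.f, Col.e, Col.f, Col.e])) (Tr.lf (Alt.word (nat_lit 20) (nat_lit 0) true [Col.g, Col.e, Col.g, Col.e]))))) (Tr.nd (nat_lit 38) (Tr.nd (nat_lit 36) (Tr.lf (Alt.word (nat_lit 21) (nat_lit 0) true [Col.h, Col.e, Col.h, Col.e])) (Tr.nd (nat_lit 37) (Tr.lf (Alt.word (nat_lit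 14) (nat_lit 0) true [Col.e, Col.d, Col.e, Col.d, Col.e, Col.d])) (Tr.lf (Alt.word (nat_lit 8) (nat_lit 0) true [Col.d, Col.c, Col.d, Col.c, Col.d, Col.c])))) (Tr.nd (nat_lit 40) (Tr.nd (nat_lit 39) (Tr.lf (Alt.word (nat_lit 17) (nat_lit 1) true [Col.d, Col.h, Col.d, Col.h, Col.d, Col.h])) (Tr.lf (Alt.word (nat_lit 21) (nat_lit 1) true [Col.e, Col.h, Col.e, Col.h]))) (Tr.nd (nat_lit 41) (Tr.lf (Alt.word (nat_lit 24) (nat_lit 1) true [Col.f, Col.h, Col.f, Col.h])) (Tr.lf (Alt.word (nat_lit 26) (nat_lit 1) true [Col.g, Col.h, Col.g, Col.h])))))) (Tr.nd (nat_lit 49) (Tr.nd (nat_lit 45) (Tr.nd (nat_lit 43) (Tr.lf (Alt.word (nat_lit 8) (nat_lit 1) true [Col.c, Col.d, Col.c, Col.d, Col.c, Col.d])) (Tr.nd (nat_lit 44) (Tr.lf (Alt.word (nat_lit 14) (nat_lit 1) true [Col.d, Col.e, Col.d, Col.e, Col.d, Col.e])) (Tr.lf (Alt.base (nat_lit 0) [] [Col.b])))) (Tr.nd (nat_lit 47) (Tr.nd (nat_lit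 46) (Tr.lf (Alt.base (nat_lit 1) [] [Col.c])) (Tr.lf (Alt.base (nat_lit 2) [] [Col.d]))) (Tr.nd (nat_lit 48) (Tr.lf (Alt.base (nat_lit 3) [] [Col.e])) (Tr.lf (Alt.base (nat_lit 4) [] [Col.f]))))) (Tr.nd (nat_lit 53) (Tr.nd (nat_lit 51) (Tr.nd (nat_lit 50) (Tr.lf (Alt.base (nat_lit 5) [] [Col.h])) (Tr.lf (Alt.word (nat_lit 23) (nat_lit 0) true [Col.g, Col.f, Col.g, Col.f, Col.g, Col.f]))) (Tr.nd (nat_lit 52) (Tr.lf (Alt.word (nat_lit 1) (nat_lit 0) true [Col.c, Col.b, Col.c, Col.b, Col.c, Col.b])) (Tr.lf (Alt.word (nat_lit 17) (nat_lit 0) true [Col.h, Col.d, Col.h, Col.d, Col.h, Col.d])))) (Tr.nd (nat_lit 55) (Tr.nd (nat_lit 54) (Tr.lf (Alt.word (nat_lit 1) (nat_lit 1) true [Col.b, Col.c, Col.b, Col.c, Col.b, Col.c])) (Tr.lf (Alt.word (nat_lit 19) (nat_lit 1) true [Col.e, Col.f, Col.e, Col.f, Col.e, Col.f]))) (Tr.nd (nat_lit 56) (Tr.lf (Alt.word (nat_lit 23) (nat_lit 1) true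 [Col.f, Col.g, Col.f, Col.g, Col.f, Col.g])) (Tr.lf (Alt.word (nat_lit 28) (nat_lit 1) true [Col.g, Col.f, Col.e, Col.d, Col.c, Col.b, Col.h, Col.g, Col.f, Col.e, Col.d, Col.c, Col.b, Col.h, Col.g, Col.f, Col.e, Col.d, Col.c, Col.b, Col.h, Col.g, Col.f, Col.e, Col.d, Col.c, Col.b, Col.h, Col.g, Col.f, Col.e, Col.d, Col.c, Col.b, Col.h, Col.g, Col.f, Col.e, Col.d, Col.c, Col.b, Col.h, Col.g, Col.f, Col.e, Col.d, Col.c, Col.b, Col.h, Col.g, Col.f, Col.e, Col.d, Col.c, Col.b, Col.h, Col.g, Col.f, Col.e, Col.d, Col.c, Col.b, Col.h]))))))))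
abbrev q0 : ℕ := nat_lit 521
theorem alt_chk : Tr.all (altChk idx inv RW SW0) A = true := by decide +kernel
theorem bst_chk : bst L 512 1024 = true := by decide +kernel
theorem size_L : size L = 28 := by decide +kernel
theorem q0_mem : q0 ∈ L.toList := mem_sound (by decide +kernel)
theorem closed_chk_0 : Tr.all (closedP L stp inv cols) L_0 = true := by decide +kernel
theorem closed_chk : Tr.all (closedP L stp inv cols) L = true := closed_chk_0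
theorem edge_chk_0 : Tr.all (fun q => lall (fun c => chkEdge stp tau del idx PT DT q0 A c q) cols) L_0 = true := by decide +kernel
theorem edge_chk : Tr.all (fun q => lall (fun c => chkEdge stp tau del idx PT DT q0 A c q) cols) L = true := edge_chk_0
theorem trans_chk_0 : Tr.all (transP L stp PT q0 cols) L_0 = true := by decide +kernel
theorem trans_chk : Tr.all (transP L stp PT q0 cols) L = true := trans_chk_0
theorem closed : Closed L stp inv := Closed.of_chk hcols inv_inv closed_chk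
theorem pos : ∀ q ∈ L.toList, q ≠ 0 := fun q hq h => by
  have := ((bst_sound L _ _ bst_chk).1 q hq).1
  omega
theorem nodup : L.toList.Nodup := ((bst_sound L _ _ bst_chk).2.imp (fun h => Nat.ne_of_lt h))
theorem card_L : Nat.card (Om L) = 28 := by rw [card_Om L nodup, ← size_eq, size_L]
theorem trans : ∀ q ∈ L.toList, ∃ w : List Col, walk stp w q0 = q := trans_sound trans_chk
attribute [local irreducible] L A stp tau del PT DT
theorem closure_thm {G X : Type*} [Group G] [MulAction G X] (g : Col → G) (x0 : X) (hinv : ∀ c, g (inv c) = (g c)⁻¹)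
    (hRW : ∀ w ∈ RW, gw g w = 1) (hSW : ∀ w ∈ SW0, gw g w • x0 = x0) :
    ∃ f : ℕ → X, f q0 = x0 ∧ ∀ q ∈ L.toList, ∀ c, g c • f q = f (stp c q) := by
  have hA : ∀ a ∈ A.toList, AltOK g x0 a := fun a ha =>
    altChk_sound (idx := idx) (inv := inv) (RW := RW) (SW := SW0) g x0 dec hdec hinv hRW hSW ((Tr.all_iff _ _).1 alt_chk a ha)
  exact closure_sound (L := L) (stp := stp) (tau := tau) (del := del) (idx := idx) (PT := PT) (DT := DT) (q0 := q0) (A := A) (cols := cols)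
    g x0 dec hdec hcols closed.mem pos q0_mem edge_chk hA
universe u
/-- upper bound for a relative index -/
theorem rel_upper {G : Type u} [Group G] (g : Col → G) (hinv : ∀ c, g (inv c) = (g c)⁻¹)
    (hRW : ∀ w ∈ RW, gw g w = 1) (H : Subgroup G) (hSW : ∀ w ∈ SW0, gw g w ∈ H) :
    H.relIndex (genBy g) ≠ 0 ∧ H.relIndex (genBy g) ≤ 28 := by
  rw [← size_L]
  exact relIndex_of_closure closed.mem q0_mem g hinv hRW H hSW (fun X _ x0 h1 h2 h3 => closure_thm (liftGen g) x0 h1 h2 h3)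
end CfsgLib.TCFi22d
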