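import Cfsg.Agent.EqBase
import Cfsg.Agent.LibTCGFi22
set_option autoImplicit false
set_option linter.all false
set_option maxRecDepth 1000000
set_option maxHeartbeats 0
namespace CfsgLib.TCFi22e
open CfsgLib.TC Cfsg.Spor
inductive Col where
  | b
  | c
  | d
  | e
  | f
  | h
noncomputable def idx : Col → ℕ := fun c => Col.rec (motive := fun _ => ℕ) 0 1 2 3 4 5 c
noncomputable def inv : Col → Col := fun c => Col.rec (motive := fun _ => Col) .b .c .d .e .f .h c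
def dec : ℕ → Col := fun n => if n = 0 then .b else if n = 1 then .c else if n = 2 then .d else if n = 3 then .e else if n = 4 then .f else .h
theorem hdec : ∀ c, dec (idx c) = c := by intro c; cases c <;> rfl
theorem inv_inv : ∀ c, inv (inv c) = c := by intro c; cases c <;> rfl
def cols : List Col := [Col.b, Col.c, Col.d, Col.e, Col.f, Col.h]
theorem hcols : ∀ c, c ∈ cols := by intro c; cases c <;> simp [cols]
/-- relators as path words (first letter acts first) -/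
noncomputable def RWb : List (List Col) := [[Col.b, Col.b],
  [Col.c, Col.b, Col.c, Col.b, Col.c, Col.b],
  [Col.d, Col.b, Col.d, Col.b],
  [Col.e, Col.b, Col.e, Col.b],
  [Col.f, Col.b, Col.f, Col.b],
  [Col.h, Col.b, Col.h, Col.b],
  [Col.c, Col.c],
  [Col.d, Col.c, Col.d, Col.c, Col.d, Col.c],
  [Col.e, Col.c, Col.e, Col.c],
  [Col.f, Col.c, Col.f, Col.c],
  [Col.h, Col.c, Col.h, Col.c],
  [Col.d, Col.d],
  [Col.e, Col.d, Col.e, Col.d, Col.e, Col.d],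
  [Col.f, Col.d, Col.f, Col.d],
  [Col.h, Col.d, Col.h, Col.d, Col.h, Col.d],
  [Col.e, Col.e],
  [Col.f, Col.e, Col.f, Col.e, Col.f, Col.e],
  [Col.h, Col.e, Col.h, Col.e],
  [Col.f, Col.f],
  [Col.h, Col.f, Col.h, Col.f],
  [Col.h, Col.h]]
noncomputable def RWe : List (List Col) := []
noncomputable def RW : List (List Col) := [[Col.b, Col.b],
  [Col.c, Col.b, Col.c, Col.b, Col.c, Col.b],
  [Col.d, Col.b, Col.d, Col.b],
  [Col.e, Col.b, Col.e, Col.b],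
  [Col.f, Col.b, Col.f, Col.b],
  [Col.h, Col.b, Col.h, Col.b],
  [Col.c, Col.c],
  [Col.d, Col.c, Col.d, Col.c, Col.d, Col.c],
  [Col.e, Col.c, Col.e, Col.c],
  [Col.f, Col.c, Col.f, Col.c],
  [Col.h, Col.c, Col.h, Col.c],
  [Col.d, Col.d],
  [Col.e, Col.d, Col.e, Col.d, Col.e, Col.d],
  [Col.f, Col.d, Col.f, Col.d],
  [Col.h, Col.d, Col.h, Col.d, Col.h, Col.d],
  [Col.e, Col.e],
  [Col.f, Col.e, Col.f, Col.e, Col.f, Col.e],
  [Col.h, Col.e, Col.h, Col.e],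
  [Col.f, Col.f],
  [Col.h, Col.f, Col.h, Col.f],
  [Col.h, Col.h]]
theorem rw_mem : ∀ w ∈ RW, w ∈ RWb ∨ w ∈ RWe := fun w hw => Or.inl hw
def emb : Col → TCG_Fi22.Col
  | .b => .b
  | .c => .c
  | .d => .d
  | .e => .e
  | .f => .f
  | .h => .h
theorem emb_inv : ∀ c, emb (inv c) = TCG_Fi22.inv (emb c) := by intro c; cases c <;> rfl
def RI : List ℕ := [9, 10, 11, 12, 13, 15, 17, 18, 19, 20, 22, 24, 25, 26, 28, 30, 31, 33, 35, 37, 42]
theorem ri_chk : lleq TCG_Fi22.idx (mapR (nthR TCG_Fi22.RW) RI) (mapR (mapR emb) RWb) = true := by decide +kernel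
/-- the family of generators -/
def Pc {G : Type*} [Group G] (f : Fi22.Gen → G) (c : Col) : G := TCG_Fi22.Pc f (emb c)
theorem Pc_inv {G : Type*} [Group G] {f : Fi22.Gen → G} (hs : Sat Fi22.edges Fi22.extra f) (c : Col) : Pc f (inv c) = (Pc f c)⁻¹ := by
  rw [Pc, emb_inv]; exact TCG_Fi22.Pc_inv hs _
theorem Pc_RW {G : Type*} [Group G] {f : Fi22.Gen → G} (hs : Sat Fi22.edges Fi22.extra f) : ∀ w ∈ RWb, gw (Pc f) w = 1 :=
  rw_sub TCG_Fi22.dec TCG_Fi22.hdec emb RI ri_chk (TCG_Fi22.Pc f) (TCG_Fi22.Pc_RW hs)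
noncomputable def SW0 : List (List Col) := [[Col.b], [Col.c], [Col.d], [Col.e], [Col.f]]
def T_b : ℕ := (nat_lit 0x65d29c163d1d4e950e7272741470e8e71c77292b73b3a43c49894f5e00290a75185213778f9120a5ac7df38b7ca63ffe4e72aa5cd3f69d0c85482cf6ebe67c71efeecc03856d85568c5f2a83dc28c7be9e9b373f2d98e003a9206b45c8)
def T_c : ℕ := (nat_lit 0x5089cab4c7e3668f5914ced1f3edbdad05ff84a89c1bccbf040e23e5f941a562181f5a94a176018898c0a21c9e131f310b5286f8825bce869f9e3a80fa613a318bf9c1cb49f011a8f37394f61e1b5345e1ab427c2e4cac4de8a028069d)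
def T_d : ℕ := (nat_lit 0x1700614dd71b7529ce3ede2cc4052a0655f0cc860835da2d8db7054cb1fbbee1f2fb9e133e022e7df3d4ea78c90d4ab4ed0c8772e7991291ce86d558fc583acfd9bcfc53ce623c569dc79155fede239fee5f12eedd84148a24c5927ae9)
def T_e : ℕ := (nat_lit 0x5ce1ba2497e14bbc608e7047f3f3dba27f9e9a5666b36b12e1eae2cdf983d38696883ff5cb69777faacad0d9d781855abae464c39ec6721de06bc8d8060df29acb02d822ff16913875bd50fef6e199a4c7b8da208ab0087d1cc53cac6d)
def T_f : ℕ := (nat_lit 0x31f1ea1f4d2746e3df11036f788112a1d6c182d50428e11a65078c91f41a31f3f6b37587803fb095bc0224892ecca874765d8e7340edef79f35a1b7300711be0b56017d4b1e21419418355c6bdf6b76564dd40b0a97ca8f956e076f5e)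
def T_h : ℕ := (nat_lit 0x48f1aa364369a3ae179fc32971e1666e45e18b6d4ef5e55a445a0dedd22b3b69d8bf5d68936b04eb7051d6a71ee2576025b2322103cd0b0bdd1aac0bddb34cbe23349e20b1ff57910cd9834dc606f7cc5bae26afe778a8faba2c90e956)
def U_b : ℕ := (nat_lit 0x2532d3a4ec9279ea8b9b09d43fb636d70c4c5f380f58719d2ba7a81bd989165c8318fa90ed40360374d097dd1388477d9280222c8526ee567b9467bef2d5516a1932a4db32cca1c30c4f39bf9d096613d9b9561b4584c7009a1a9c2183)
def U_c : ℕ := (nat_lit 0x28095520dd599ed303243488e940fdf25647569a4fc76f003533589d415741baf685ce831c6651a11f979eef739f9b4c16c39ddab67381905e59b9737d562839d2119e9f57afcf013b0ad02d9c4675112408541c3e68f0ecfbc0aeed87)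
def U_d : ℕ := (nat_lit 0x5444f147aefb99e8ec8340250595f5928e6ef55c0a496c1be697ccd474e6a753e212c2269738276c7c3a65f78b97341ab0da7988744ab492ff0771589cba3d00062461711965899177dec8266880d25d700ee88471976e63b9a05bfb2d)
def U_e : ℕ := (nat_lit 0x17a35251cfb7106f9683637736ec891cdcee6c88f2c532eae2bd966b91de7fefbb71b1e322c0801d00e6a47d306a6887a46755fd2312f93f919d4f5910144534b25f620a6d07411ef59d4538e75d85bb1390668cf9e77eb010dd6b2bb6)
def U_f : ℕ := (nat_lit 0x16aedb150dadf98a170b1431e55eadd6fd01db78ec0c1a7169b46ec6dd31d7f26cf8d7a9be59c19b9a0732eac8ab60b8431a588e135fdfbb1b5b8332c2e86885085705ca3b325b4dae32d50c8fd0c59060e369cd18a0356a0d42d24a1e)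
def U_h : ℕ := (nat_lit 0x4ef54ebe8a9f8509e8108c9f0b9f9f10ccd1a64bff88dfc7b6c5429b2fc0d0a4c94f234b95f9a805f3594faad1e4dd7417c3cd718e4cb4efb6b78550d98e9a21e62d486ac6ababa60fdf55b9cd1b1bf81a04c8cd3517ee9a05148a5bca)
def V_b : ℕ := (nat_lit 0x488ef29b5d3283da8bb5da147996e4fc139acb00ea229e2167e47828542f688fb8d7aed62ab2a6213a0cc74b4cb35a61687db1c11eae6b52448e839a2c4f92d424904ba74225d03481c0fe2352243aea2ff5447815e304d5984f872eab)
def V_c : ℕ := (nat_lit 0x250f435f159dbc7b273b11fa9861533a1927fe27b31a27edac4659abd9986cd26c076151d78b9bd320f65708f869b7972bce0fc6ee164956191c4b9b83bea7bcbae50bd106f13b5af2d759c3c9396f202b237713c1c30df286dc29774a)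
def V_d : ℕ := (nat_lit 0x13d0429622c30d6d1cd59e2876438f399112689b11b2238d8c59c64c4ddfaf72f0acf62d294ab104deda5449d5a598e7b7b211f602b8f38bb74a01c56e1c292bdcb89c1b267572dba221c5f5d4c97c1b277f21af9e014d3277e0ad448f)
def V_e : ℕ := (nat_lit 0x63aca54abc672305092adaa3af984a2fb88f353154e7d8b08132a67b9015974ce1ab7fa8b6d59e5c3aff9a840b8c56260baf22bf4b5bf634295503fd69987710d6c75df268a0ad397cbb202afa2f443581b1349405a58ef0d8c1d8299a)
def V_f : ℕ := (nat_lit 0x1aa64e3b7630ef176f3f7f10e28d2d3f432d6f6dc8dd30cb8bc744aab8de76a852384ab4f3ed3a9796b30416fc91e6c9bfefc37b881f50a237dc856b86a494d5dc58f00d7ef622422b884a854aaea9ce3c03fe6fb379c3e9b327d6c57f)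
def V_h : ℕ := (nat_lit 0x2aa6bc1cfcdfe926dbfd823d4c138b004164662862fa4533f6a41730361ea60aca882092c20c6caf7665e30163eb0afcb9555efa1790724fd10303936be9927f06a6f4bb607ad19f6bd621361b516c48d6f9e9ec45e67a012bb6f912b3)
def PP : ℕ := (nat_lit 0x3ecfc39c97a95f08a6d7d9a325139f9d301dd75ebb38562066e54adf1b32f41a320a801d7fa14a2219870f6dbd536ff09d8489a8a4d8bd8a6988125f691b78af41af9cf5e5d1eeb17af55dad2ab0dc6df30da9ba14eeac7ecadeec74c0)
def DD : ℕ := (nat_lit 0x3b2650a212fe91faebee52d23be692e52b8cc9ec063c5e2f762e0c8d5127af15ef53946f51b012a73daa9235342eac64082908d0efb71a7e49a415bdc0210dea5dc49d45e9f1ee42a4b556877d04416a7d1a5b6c1eeb1213d9dea94201)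
noncomputable def stp : Col → ℕ → ℕ := fun c q => Nat.add (Nat.mod (Col.rec (motive := fun _ => ℕ) T_b T_c T_d T_e T_f T_h c) q) (nat_lit 1024)
noncomputable def tau : Col → ℕ → ℕ := fun c q => (Nat.mod (Col.rec (motive := fun _ => ℕ) U_b U_c U_d U_e U_f U_h c) q)
noncomputable def del : Col → ℕ → ℕ := fun c q => (Nat.mod (Col.rec (motive := fun _ => ℕ) V_b V_c V_d V_e V_f V_h c) q)
noncomputable def PT : ℕ → ℕ := fun q => Nat.add (Nat.mod PP q) (nat_lit 1024)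
noncomputable def DT : ℕ → ℕ := fun q => (Nat.mod DD q)
noncomputable def L_0 : Tr ℕ := (Tr.nd (nat_lit 1289) (Tr.nd (nat_lit 1153) (Tr.nd (nat_lit 1091) (Tr.nd (nat_lit 1051) (Tr.nd (nat_lit 1039) (Tr.nd (nat_lit 1033) (Tr.lf (nat_lit 1031)) (Tr.lf (nat_lit 1033))) (Tr.nd (nat_lit 1049) (Tr.lf (nat_lit 1039)) (Tr.lf (nat_lit 1049)))) (Tr.nd (nat_lit 1063) (Tr.nd (nat_lit 1061) (Tr.lf (nat_lit 1051)) (Tr.lf (nat_lit 1061))) (Tr.nd (nat_lit 1069) (Tr.lf (nat_lit 1063)) (Tr.nd (nat_lit 1087) (Tr.lf (nat_lit 1069)) (Tr.lf (nat_lit 1087)))))) (Tr.nd (nat_lit 1109) (Tr.nd (nat_lit 1097) (Tr.nd (nat_lit 1093) (Tr.lf (nat_lit 1091)) (Tr.lf (nat_lit 1093))) (Tr.nd (nat_lit 1103) (Tr.lf (nat_lit 1097)) (Tr.lf (nat_lit 1103)))) (Tr.nd (nat_lit 1123) (Tr.nd (nat_lit 1117) (Tr.lf (nat_lit 1109)) (Tr.lf (nat_lit 1117))) (Tr.nd (nat_lit 1129) (Tr.lf (nat_lit 1123)) (Tr.nd (nat_lit 1151)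 (Tr.lf (nat_lit 1129)) (Tr.lf (nat_lit 1151))))))) (Tr.nd (nat_lit 1223) (Tr.nd (nat_lit 1187) (Tr.nd (nat_lit 1171) (Tr.nd (nat_lit 1163) (Tr.lf (nat_lit 1153)) (Tr.lf (nat_lit 1163))) (Tr.nd (nat_lit 1181) (Tr.lf (nat_lit 1171)) (Tr.lf (nat_lit 1181)))) (Tr.nd (nat_lit 1201) (Tr.nd (nat_lit 1193) (Tr.lf (nat_lit 1187)) (Tr.lf (nat_lit 1193))) (Tr.nd (nat_lit 1213) (Tr.lf (nat_lit 1201)) (Tr.nd (nat_lit 1217) (Tr.lf (nat_lit 1213)) (Tr.lf (nat_lit 1217)))))) (Tr.nd (nat_lit 1249) (Tr.nd (nat_lit 1231) (Tr.nd (nat_lit 1229) (Tr.lf (nat_lit 1223)) (Tr.lf (nat_lit 1229))) (Tr.nd (nat_lit 1237) (Tr.lf (nat_lit 1231)) (Tr.lf (nat_lit 1237)))) (Tr.nd (nat_lit 1277) (Tr.nd (nat_lit 1259) (Tr.lf (nat_lit 1249)) (Tr.lf (nat_lit 1259))) (Tr.nd (nat_lit 1279) (Tr.lf (nat_lit 1277)) (Tr.nd (nat_lit 1283) (Tr.lf (nat_lit 1279)) (Tr.lf (nat_lit 1283)))))))) (Tr.nd (nat_lit 1433) (Tr.nd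 (nat_lit 1361) (Tr.nd (nat_lit 1303) (Tr.nd (nat_lit 1297) (Tr.nd (nat_lit 1291) (Tr.lf (nat_lit 1289)) (Tr.lf (nat_lit 1291))) (Tr.nd (nat_lit 1301) (Tr.lf (nat_lit 1297)) (Tr.lf (nat_lit 1301)))) (Tr.nd (nat_lit 1319) (Tr.nd (nat_lit 1307) (Tr.lf (nat_lit 1303)) (Tr.lf (nat_lit 1307))) (Tr.nd (nat_lit 1321) (Tr.lf (nat_lit 1319)) (Tr.nd (nat_lit 1327) (Tr.lf (nat_lit 1321)) (Tr.lf (nat_lit 1327)))))) (Tr.nd (nat_lit 1399) (Tr.nd (nat_lit 1373) (Tr.nd (nat_lit 1367) (Tr.lf (nat_lit 1361)) (Tr.lf (nat_lit 1367))) (Tr.nd (nat_lit 1381) (Tr.lf (nat_lit 1373)) (Tr.lf (nat_lit 1381)))) (Tr.nd (nat_lit 1423) (Tr.nd (nat_lit 1409) (Tr.lf (nat_lit 1399)) (Tr.lf (nat_lit 1409))) (Tr.nd (nat_lit 1427) (Tr.lf (nat_lit 1423)) (Tr.nd (nat_lit 1429) (Tr.lf (nat_lit 1427)) (Tr.lf (nat_lit 1429))))))) (Tr.nd (nat_lit 1487) (Tr.nd (nat_lit 1453) (Tr.nd (nat_lit 1447) (Tr.nd (nat_lit 1439)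 (Tr.lf (nat_lit 1433)) (Tr.lf (nat_lit 1439))) (Tr.nd (nat_lit 1451) (Tr.lf (nat_lit 1447)) (Tr.lf (nat_lit 1451)))) (Tr.nd (nat_lit 1471) (Tr.nd (nat_lit 1459) (Tr.lf (nat_lit 1453)) (Tr.lf (nat_lit 1459))) (Tr.nd (nat_lit 1481) (Tr.lf (nat_lit 1471)) (Tr.nd (nat_lit 1483) (Tr.lf (nat_lit 1481)) (Tr.lf (nat_lit 1483)))))) (Tr.nd (nat_lit 1511) (Tr.nd (nat_lit 1493) (Tr.nd (nat_lit 1489) (Tr.lf (nat_lit 1487)) (Tr.lf (nat_lit 1489))) (Tr.nd (nat_lit 1499) (Tr.lf (nat_lit 1493)) (Tr.lf (nat_lit 1499)))) (Tr.nd (nat_lit 1531) (Tr.nd (nat_lit 1523) (Tr.lf (nat_lit 1511)) (Tr.lf (nat_lit 1523))) (Tr.nd (nat_lit 1543) (Tr.lf (nat_lit 1531)) (Tr.nd (nat_lit 1549) (Tr.lf (nat_lit 1543)) (Tr.lf (nat_lit 1549)))))))))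
noncomputable def L : Tr ℕ := L_0
noncomputable def A : Tr (Alt Col) := (Tr.nd (nat_lit 21) (Tr.nd (nat_lit 10) (Tr.nd (nat_lit 5) (Tr.nd (nat_lit 2) (Tr.nd (nat_lit 1) (Tr.lf Alt.tree) (Tr.lf (Alt.word (nat_lit 20) (nat_lit 0) true [Col.h, Col.h]))) (Tr.nd (nat_lit 3) (Tr.lf (Alt.word (nat_lit 11) (nat_lit 0) true [Col.d, Col.d])) (Tr.nd (nat_lit 4) (Tr.lf (Alt.word (nat_lit 6) (nat_lit 0) true [Col.c, Col.c])) (Tr.lf (Alt.word (nat_lit 15) (nat_lit 0) true [Col.e, Col.e]))))) (Tr.nd (nat_lit 7) (Tr.nd (nat_lit 6) (Tr.lf (Alt.word (nat_lit 0) (nat_lit 0) true [Col.b, Col.b])) (Tr.lf (Alt.word (nat_lit 18) (nat_lit 0) true [Col.f, Col.f]))) (Tr.nd (nat_lit 8) (Tr.lf (Alt.word (nat_lit 9) (nat_lit 1) true [Col.c, Col.f, Col.c, Col.f])) (Tr.nd (nat_lit 9) (Tr.lf (Alt.word (nat_lit 3) (nat_lit 1) true [Col.b, Col.e, Col.b, Col.e])) (Tr.lf (Alt.word (nat_lit 2) (nat_lit 0)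 true [Col.d, Col.b, Col.d, Col.b])))))) (Tr.nd (nat_lit 15) (Tr.nd (nat_lit 12) (Tr.nd (nat_lit 11) (Tr.lf (Alt.word (nat_lit 5) (nat_lit 0) true [Col.h, Col.b, Col.h, Col.b])) (Tr.lf (Alt.word (nat_lit 8) (nat_lit 1) true [Col.c, Col.e, Col.c, Col.e]))) (Tr.nd (nat_lit 13) (Tr.lf (Alt.word (nat_lit 4) (nat_lit 1) true [Col.b, Col.f, Col.b, Col.f])) (Tr.nd (nat_lit 14) (Tr.lf (Alt.word (nat_lit 10) (nat_lit 0) true [Col.h, Col.c, Col.h, Col.c])) (Tr.lf (Alt.word (nat_lit 10) (nat_lit 1) true [Col.c, Col.h, Col.c, Col.h]))))) (Tr.nd (nat_lit 18) (Tr.nd (nat_lit 16) (Tr.lf (Alt.word (nat_lit 2) (nat_lit 1) true [Col.b, Col.d, Col.b, Col.d])) (Tr.nd (nat_lit 17) (Tr.lf (Alt.word (nat_lit 4) (nat_lit 0) true [Col.f, Col.b, Col.f, Col.b])) (Tr.lf (Alt.word (nat_lit 13) (nat_lit 1) true [Col.d, Col.f, Col.d, Col.f])))) (Tr.nd (nat_lit 19) (Tr.lf (Alt.word (nat_lit 3) (nat_lit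 0) true [Col.e, Col.b, Col.e, Col.b])) (Tr.nd (nat_lit 20) (Tr.lf (Alt.word (nat_lit 5) (nat_lit 1) true [Col.b, Col.h, Col.b, Col.h])) (Tr.lf (Alt.word (nat_lit 9) (nat_lit 0) true [Col.f, Col.c, Col.f, Col.c]))))))) (Tr.nd (nat_lit 31) (Tr.nd (nat_lit 26) (Tr.nd (nat_lit 23) (Tr.nd (nat_lit 22) (Tr.lf (Alt.word (nat_lit 8) (nat_lit 0) true [Col.e, Col.c, Col.e, Col.c])) (Tr.lf (Alt.word (nat_lit 13) (nat_lit 0) true [Col.f, Col.d, Col.f, Col.d]))) (Tr.nd (nat_lit 24) (Tr.lf (Alt.word (nat_lit 7) (nat_lit 0) true [Col.d, Col.c, Col.d, Col.c, Col.d, Col.c])) (Tr.nd (nat_lit 25) (Tr.lf (Alt.word (nat_lit 17) (nat_lit 1) true [Col.e, Col.h, Col.e, Col.h])) (Tr.lf (Alt.word (nat_lit 12) (nat_lit 1) true [Col.d, Col.e, Col.d, Col.e, Col.d, Col.e]))))) (Tr.nd (nat_lit 28) (Tr.nd (nat_lit 27) (Tr.lf (Alt.word (nat_lit 19) (nat_lit 0) true [Col.h, Col.f, Col.h, Col.f])) (Tr.lf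 (Alt.word (nat_lit 12) (nat_lit 0) true [Col.e, Col.d, Col.e, Col.d, Col.e, Col.d]))) (Tr.nd (nat_lit 29) (Tr.lf (Alt.word (nat_lit 19) (nat_lit 1) true [Col.f, Col.h, Col.f, Col.h])) (Tr.nd (nat_lit 30) (Tr.lf (Alt.word (nat_lit 14) (nat_lit 0) true [Col.h, Col.d, Col.h, Col.d, Col.h, Col.d])) (Tr.lf (Alt.word (nat_lit 17) (nat_lit 0) true [Col.h, Col.e, Col.h, Col.e])))))) (Tr.nd (nat_lit 36) (Tr.nd (nat_lit 33) (Tr.nd (nat_lit 32) (Tr.lf (Alt.word (nat_lit 7) (nat_lit 1) true [Col.c, Col.d, Col.c, Col.d, Col.c, Col.d])) (Tr.lf (Alt.word (nat_lit 1) (nat_lit 0) true [Col.c, Col.b, Col.c, Col.b, Col.c, Col.b]))) (Tr.nd (nat_lit 34) (Tr.lf (Alt.word (nat_lit 16) (nat_lit 1) true [Col.e, Col.f, Col.e, Col.f, Col.e, Col.f])) (Tr.nd (nat_lit 35) (Tr.lf (Alt.word (nat_lit 14) (nat_lit 1) true [Col.d, Col.h, Col.d, Col.h, Col.d, Col.h])) (Tr.lf (Alt.word (nat_lit 1) (nat_lit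 1) true [Col.b, Col.c, Col.b, Col.c, Col.b, Col.c]))))) (Tr.nd (nat_lit 39) (Tr.nd (nat_lit 37) (Tr.lf (Alt.word (nat_lit 16) (nat_lit 0) true [Col.f, Col.e, Col.f, Col.e, Col.f, Col.e])) (Tr.nd (nat_lit 38) (Tr.lf (Alt.base (nat_lit 0) [] [Col.b])) (Tr.lf (Alt.base (nat_lit 1) [] [Col.c])))) (Tr.nd (nat_lit 40) (Tr.lf (Alt.base (nat_lit 2) [] [Col.d])) (Tr.nd (nat_lit 41) (Tr.lf (Alt.base (nat_lit 3) [] [Col.e])) (Tr.lf (Alt.base (nat_lit 4) [] [Col.f]))))))))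
abbrev q0 : ℕ := nat_lit 1031
theorem alt_chk : Tr.all (altChk idx inv RW SW0) A = true := by decide +kernel
theorem bst_chk : bst L 1024 2048 = true := by decide +kernel
theorem size_L : size L = 72 := by decide +kernel
theorem q0_mem : q0 ∈ L.toList := mem_sound (by decide +kernel)
theorem closed_chk_0 : Tr.all (closedP L stp inv cols) L_0 = true := by decide +kernel
theorem closed_chk : Tr.all (closedP L stp inv cols) L = true := closed_chk_0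
theorem edge_chk_0 : Tr.all (fun q => lall (fun c => chkEdge stp tau del idx PT DT q0 A c q) cols) L_0 = true := by decide +kernel
theorem edge_chk : Tr.all (fun q => lall (fun c => chkEdge stp tau del idx PT DT q0 A c q) cols) L = true := edge_chk_0
theorem trans_chk_0 : Tr.all (transP L stp PT q0 cols) L_0 = true := by decide +kernel
theorem trans_chk : Tr.all (transP L stp PT q0 cols) L = true := trans_chk_0
theorem closed : Closed L stp inv := Closed.of_chk hcols inv_inv closed_chk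
theorem pos : ∀ q ∈ L.toList, q ≠ 0 := fun q hq h => by
  have := ((bst_sound L _ _ bst_chk).1 q hq).1
  omega
theorem nodup : L.toList.Nodup := ((bst_sound L _ _ bst_chk).2.imp (fun h => Nat.ne_of_lt h))
theorem card_L : Nat.card (Om L) = 72 := by rw [card_Om L nodup, ← size_eq, size_L]
theorem trans : ∀ q ∈ L.toList, ∃ w : List Col, walk stp w q0 = q := trans_sound trans_chk
attribute [local irreducible] L A stp tau del PT DT
theorem closure_thm {G X : Type*} [Group G] [MulAction G X] (g : Col → G) (x0 : X) (hinv : ∀ c, g (inv c) = (g c)⁻¹)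
    (hRW : ∀ w ∈ RW, gw g w = 1) (hSW : ∀ w ∈ SW0, gw g w • x0 = x0) :
    ∃ f : ℕ → X, f q0 = x0 ∧ ∀ q ∈ L.toList, ∀ c, g c • f q = f (stp c q) := by
  have hA : ∀ a ∈ A.toList, AltOK g x0 a := fun a ha =>
    altChk_sound (idx := idx) (inv := inv) (RW := RW) (SW := SW0) g x0 dec hdec hinv hRW hSW ((Tr.all_iff _ _).1 alt_chk a ha)
  exact closure_sound (L := L) (stp := stp) (tau := tau) (del := del) (idx := idx) (PT := PT) (DT := DT) (q0 := q0) (A := A) (cols := cols)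
    g x0 dec hdec hcols closed.mem pos q0_mem edge_chk hA
universe u
/-- upper bound for a relative index -/
theorem rel_upper {G : Type u} [Group G] (g : Col → G) (hinv : ∀ c, g (inv c) = (g c)⁻¹)
    (hRW : ∀ w ∈ RW, gw g w = 1) (H : Subgroup G) (hSW : ∀ w ∈ SW0, gw g w ∈ H) :
    H.relIndex (genBy g) ≠ 0 ∧ H.relIndex (genBy g) ≤ 72 := by
  rw [← size_L]
  exact relIndex_of_closure closed.mem q0_mem g hinv hRW H hSW (fun X _ x0 h1 h2 h3 => closure_thm (liftGen g) x0 h1 h2 h3)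
end CfsgLib.TCFi22e
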