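import Cfsg.Agent.EqBase
import Cfsg.Agent.LibTCFi22b
import Cfsg.Agent.LibTCFi22c
import Cfsg.Agent.LibTCFi22d
import Cfsg.Agent.LibTCFi22e
import Cfsg.Agent.LibTCFi22f
import Cfsg.Agent.LibTCFi22C
set_option autoImplicit false
set_option linter.all false
set_option maxRecDepth 1000000

namespace CfsgLib.TCFi22
open CfsgLib.TC Cfsg.Spor

abbrev P0 : TCFi22c.Col → Fi22 := TCFi22c.Pc PresentedGroup.of
abbrev P1 : TCFi22d.Col → Fi22 := TCFi22d.Pc PresentedGroup.of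
abbrev P2 : TCFi22e.Col → Fi22 := TCFi22e.Pc PresentedGroup.of
abbrev P3 : TCFi22f.Col → Fi22 := TCFi22f.Pc PresentedGroup.of
theorem le0 : genBy P0 ≤ genBy TCG_Fi22.P := by
  rw [Subgroup.closure_le]
  rintro _ ⟨c, rfl⟩
  cases c
  · exact Subgroup.subset_closure ⟨.b, rfl⟩
  · exact Subgroup.subset_closure ⟨.c, rfl⟩
  · exact Subgroup.subset_closure ⟨.d, rfl⟩
  · exact Subgroup.subset_closure ⟨.e, rfl⟩
  · exact Subgroup.subset_closure ⟨.f, rfl⟩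
  · exact Subgroup.subset_closure ⟨.g, rfl⟩
  · exact Subgroup.subset_closure ⟨.h, rfl⟩
  · exact Subgroup.subset_closure ⟨.i, rfl⟩
theorem le1 : genBy P1 ≤ genBy P0 := by
  rw [Subgroup.closure_le]
  rintro _ ⟨c, rfl⟩
  cases c
  · exact Subgroup.subset_closure ⟨.b, rfl⟩
  · exact Subgroup.subset_closure ⟨.c, rfl⟩
  · exact Subgroup.subset_closure ⟨.d, rfl⟩
  · exact Subgroup.subset_closure ⟨.e, rfl⟩
  · exact Subgroup.subset_closure ⟨.f, rfl⟩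
  · exact Subgroup.subset_closure ⟨.g, rfl⟩
  · exact Subgroup.subset_closure ⟨.h, rfl⟩
theorem le2 : genBy P2 ≤ genBy P1 := by
  rw [Subgroup.closure_le]
  rintro _ ⟨c, rfl⟩
  cases c
  · exact Subgroup.subset_closure ⟨.b, rfl⟩
  · exact Subgroup.subset_closure ⟨.c, rfl⟩
  · exact Subgroup.subset_closure ⟨.d, rfl⟩
  · exact Subgroup.subset_closure ⟨.e, rfl⟩
  · exact Subgroup.subset_closure ⟨.f, rfl⟩
  · exact Subgroup.subset_closure ⟨.h, rfl⟩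
theorem le3 : genBy P3 ≤ genBy P2 := by
  rw [Subgroup.closure_le]
  rintro _ ⟨c, rfl⟩
  cases c
  · exact Subgroup.subset_closure ⟨.b, rfl⟩
  · exact Subgroup.subset_closure ⟨.c, rfl⟩
  · exact Subgroup.subset_closure ⟨.d, rfl⟩
  · exact Subgroup.subset_closure ⟨.e, rfl⟩
  · exact Subgroup.subset_closure ⟨.f, rfl⟩
theorem card3 : Nat.card (genBy P3) ≠ 0 ∧ Nat.card (genBy P3) ≤ 720 :=
  card_of_bot (TCFi22f.rel_upper P3 (TCFi22f.Pc_inv TCG_Fi22.hsat) (fun w hw => (TCFi22f.rw_mem w hw).elim (TCFi22f.Pc_RW TCG_Fi22.hsat w) (fun h => absurd h (by simp [TCFi22f.RWe]))) ⊥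
    (fun w hw => absurd hw (by simp [TCFi22f.SW0])))
theorem card2 : Nat.card (genBy P2) ≠ 0 ∧ Nat.card (genBy P2) ≤ 51840 :=
  card_chain le3 (TCFi22e.rel_upper P2 (TCFi22e.Pc_inv TCG_Fi22.hsat) (fun w hw => (TCFi22e.rw_mem w hw).elim (TCFi22e.Pc_RW TCG_Fi22.hsat w) (fun h => absurd h (by simp [TCFi22e.RWe]))) (genBy P3)
    (fun w hw => by
      simp only [TCFi22e.SW0, List.mem_cons, List.not_mem_nil, or_false] at hw
      rcases hw with rfl | rfl | rfl | rfl | rfl <;> rw [gw_cons, gw_nil, one_mul] <;> apply Subgroup.subset_closure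
      exacts [⟨.b, rfl⟩, ⟨.c, rfl⟩, ⟨.d, rfl⟩, ⟨.e, rfl⟩, ⟨.f, rfl⟩])) card3 (by norm_num)
theorem card1 : Nat.card (genBy P1) ≠ 0 ∧ Nat.card (genBy P1) ≤ 1451520 :=
  card_chain le2 (TCFi22d.rel_upper P1 (TCFi22d.Pc_inv TCG_Fi22.hsat) (fun w hw => (TCFi22d.rw_mem w hw).elim (TCFi22d.Pc_RW TCG_Fi22.hsat w) (fun h => absurd h (by simp [TCFi22d.RWe]))) (genBy P2)
    (fun w hw => by
      simp only [TCFi22d.SW0, List.mem_cons, List.not_mem_nil, or_false] at hw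
      rcases hw with rfl | rfl | rfl | rfl | rfl | rfl <;> rw [gw_cons, gw_nil, one_mul] <;> apply Subgroup.subset_closure
      exacts [⟨.b, rfl⟩, ⟨.c, rfl⟩, ⟨.d, rfl⟩, ⟨.e, rfl⟩, ⟨.f, rfl⟩, ⟨.h, rfl⟩])) card2 (by norm_num)
theorem card0 : Nat.card (genBy P0) ≠ 0 ∧ Nat.card (genBy P0) ≤ 4585351680 :=
  card_chain le1 (TCFi22c.rel_upper P0 (TCFi22c.Pc_inv TCG_Fi22.hsat) (fun w hw => (TCFi22c.rw_mem w hw).elim (TCFi22c.Pc_RW TCG_Fi22.hsat w) (fun h => absurd h (by simp [TCFi22c.RWe]))) (genBy P1)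
    (fun w hw => by
      simp only [TCFi22c.SW0, List.mem_cons, List.not_mem_nil, or_false] at hw
      rcases hw with rfl | rfl | rfl | rfl | rfl | rfl | rfl <;> rw [gw_cons, gw_nil, one_mul] <;> apply Subgroup.subset_closure
      exacts [⟨.b, rfl⟩, ⟨.c, rfl⟩, ⟨.d, rfl⟩, ⟨.e, rfl⟩, ⟨.f, rfl⟩, ⟨.g, rfl⟩, ⟨.h, rfl⟩])) card1 (by norm_num)
theorem cardP : Nat.card (genBy TCG_Fi22.P) ≠ 0 ∧ Nat.card (genBy TCG_Fi22.P) ≤ 64561751654400 :=
  card_chain le0 (TCFi22b.rel_upper TCG_Fi22.P TCG_Fi22.P_inv TCG_Fi22.P_RW (genBy P0)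
    (fun w hw => by
      simp only [TCFi22b.SW0, List.mem_cons, List.not_mem_nil, or_false] at hw
      rcases hw with rfl | rfl | rfl | rfl | rfl | rfl | rfl | rfl <;> rw [gw_cons, gw_nil, one_mul] <;> apply Subgroup.subset_closure
      exacts [⟨.b, rfl⟩, ⟨.c, rfl⟩, ⟨.d, rfl⟩, ⟨.e, rfl⟩, ⟨.f, rfl⟩, ⟨.g, rfl⟩, ⟨.h, rfl⟩, ⟨.i, rfl⟩])) card0 (by norm_num)

theorem card_top : Nat.card Fi22 ≠ 0 ∧ Nat.card Fi22 ≤ 64561751654400 := by
  have h := cardP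
  have h1 : genBy TCG_Fi22.P = ⊤ := TCG_Fi22.P_top
  rw [h1, Subgroup.card_top] at h
  exact h

instance finite_Fi22 : Finite Fi22 := Nat.finite_of_card_ne_zero card_top.1

theorem order_main : Nat.card Fi22 = 64561751654400 ∧ Function.Injective TCFi22.φ :=
  order_faithful TCFi22.φ card_top.2 (TCFi22.Chain.lev0 TCFi22.φ.range.subtype (rangeGen TCFi22.φ TCG_Fi22.P) TCFi22.φ_P)

end CfsgLib.TCFi22
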