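import Cfsg.Agent.EqBase
import Cfsg.Agent.LibTCV
import Cfsg.Agent.LibTCFi22F
import Cfsg.Agent.LibTCFi22O
set_option autoImplicit false
set_option linter.all false
set_option maxRecDepth 1000000

/-! Simplicity of Fi22. -/

namespace CfsgLib.TCFi22
open CfsgLib.TC Cfsg.Spor CfsgLib.TCG_Fi22

theorem cj (w z z' : List Col) (h : relChk L stp (invW inv w ++ (z ++ (w ++ invW inv z'))) = true) :
    gw P w * gw P z * (gw P w)⁻¹ = gw P z' := conj_rel closed φ P φ_P order_main.2 P_inv w z z' h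
theorem cj' (w z z' : List Col) (h : relChk L stp (w ++ (z ++ (invW inv w ++ invW inv z'))) = true) :
    (gw P w)⁻¹ * gw P z * (gw P w) = gw P z' := conj_rel' closed φ P φ_P order_main.2 P_inv w z z' h

theorem norm_gens : ∀ w ∈ SW0, gw P w * gw P [.a] * (gw P w)⁻¹ = gw P [.a] ∧ (gw P w)⁻¹ * gw P [.a] * gw P w = gw P [.a] := by
  intro w hw
  simp only [SW0, List.mem_cons, List.not_mem_nil, or_false] at hw
  rcases hw with rfl | rfl | rfl | rfl | rfl | rfl | rfl | rfl | rfl <;>
    exact ⟨cj _ _ _ (by decide +kernel), cj' _ _ _ (by decide +kernel)⟩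

theorem A_norm : ∀ h ∈ H, ∀ a ∈ Subgroup.zpowers (gw P [.a]), h * a * h⁻¹ ∈ Subgroup.zpowers (gw P [.a]) := by
  apply conj_mem_of_gens (le_of_eq H_eq)
  · rintro _ ⟨w, hw, rfl⟩
    apply zpowers_conj
    rw [(norm_gens w hw).1]; exact Subgroup.mem_zpowers _
  · rintro _ ⟨w, hw, rfl⟩
    intro a ha
    have := zpowers_conj (s := (gw P w)⁻¹) (z := gw P [.a]) (by
      rw [_root_.inv_inv, (norm_gens w hw).2]; exact Subgroup.mem_zpowers _) a ha
    rwa [_root_.inv_inv] at this

section rels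
variable {G : Type*} [Group G] {f : Fi22.Gen → G} (hs : Sat Fi22.edges Fi22.extra f)
include hs
theorem sq (x : Fi22.Gen) : f x * f x = 1 := by
  have := cox_rel h1 h3 hs x x 1 (by cases x <;> decide)
  rwa [pow_one] at this
theorem rab : (f .a * f .b)^3 = 1 := cox_rel h1 h3 hs _ _ _ (by decide)
theorem rbc : (f .b * f .c)^3 = 1 := cox_rel h1 h3 hs _ _ _ (by decide)
theorem rcd : (f .c * f .d)^3 = 1 := cox_rel h1 h3 hs _ _ _ (by decide)
theorem rde : (f .d * f .e)^3 = 1 := cox_rel h1 h3 hs _ _ _ (by decide)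
theorem rdh : (f .d * f .h)^3 = 1 := cox_rel h1 h3 hs _ _ _ (by decide)
theorem ref : (f .e * f .f)^3 = 1 := cox_rel h1 h3 hs _ _ _ (by decide)
theorem rfg : (f .f * f .g)^3 = 1 := cox_rel h1 h3 hs _ _ _ (by decide)
theorem rhi : (f .h * f .i)^3 = 1 := cox_rel h1 h3 hs _ _ _ (by decide)
theorem rx : (f .a * f .b * f .c * f .d * f .e * f .f * f .h)^9 = 1 := by
  have := hs ((Fi22.a * Fi22.b * Fi22.c * Fi22.d * Fi22.e * Fi22.f * Fi22.h) ^ 9) (Or.inr (by simp [Fi22.extra]))
  simpa only [map_mul, map_inv, map_pow, FreeGroup.lift_apply_of] using this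
end rels

theorem gen_top : Subgroup.normalClosure (Subgroup.zpowers (gw P [.a]) : Set Fi22) = ⊤ := by
  apply normal_eq_top
  intro f hf hs
  have ha : f .a = 1 := by
    rw [hf]
    refine (QuotientGroup.eq_one_iff _).2 (Subgroup.subset_normalClosure ?_)
    have h := Subgroup.mem_zpowers (gw P [Col.a])
    have e : gw P [Col.a] = P Col.a := by rw [gw_cons, gw_nil, one_mul]
    rw [e] at h ⊢
    exact h
  have hb : f .b = 1 := odd_one ha (sq hs _) (rab hs) rfl
  have hc : f .c = 1 := odd_one hb (sq hs _) (rbc hs) rfl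
  have hd : f .d = 1 := odd_one hc (sq hs _) (rcd hs) rfl
  have he : f .e = 1 := odd_one hd (sq hs _) (rde hs) rfl
  have hh : f .h = 1 := odd_one hd (sq hs _) (rdh hs) rfl
  have hf' : f .f = 1 := odd_one he (sq hs _) (ref hs) rfl
  have hg : f .g = 1 := odd_one hf' (sq hs _) (rfg hs) rfl
  have hi : f .i = 1 := odd_one hh (sq hs _) (rhi hs) rfl
  intro x
  cases x <;> assumption

theorem perfect : commutator Fi22 = ⊤ := by
  apply perfect_of
  intro f hs
  have hab := odd_eq (sq hs _) (sq hs _) (rab hs) rfl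
  have hbc := odd_eq (sq hs _) (sq hs _) (rbc hs) rfl
  have hcd := odd_eq (sq hs _) (sq hs _) (rcd hs) rfl
  have hde := odd_eq (sq hs _) (sq hs _) (rde hs) rfl
  have hdh := odd_eq (sq hs _) (sq hs _) (rdh hs) rfl
  have hef := odd_eq (sq hs _) (sq hs _) (ref hs) rfl
  have hfg := odd_eq (sq hs _) (sq hs _) (rfg hs) rfl
  have hhi := odd_eq (sq hs _) (sq hs _) (rhi hs) rfl
  have hx := rx hs
  rw [hab, hbc, hcd, ← hdh, ← hef, ← hde] at hx
  have hd2 := sq hs .d
  have hd : f .d = 1 := by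
    simp only [hd2, one_mul] at hx
    rw [show (9:ℕ) = 2 * 4 + 1 from rfl, pow_add, pow_mul, pow_two (f .d), hd2, one_pow, one_mul, pow_one] at hx
    exact hx
  have hc : f .c = 1 := by rw [hcd, hd]
  have hb : f .b = 1 := by rw [hbc, hc]
  have ha : f .a = 1 := by rw [hab, hb]
  have he : f .e = 1 := by rw [← hde, hd]
  have hh : f .h = 1 := by rw [← hdh, hd]
  have hf' : f .f = 1 := by rw [← hef, he]
  have hg : f .g = 1 := by rw [← hfg, hf']
  have hi : f .i = 1 := by rw [← hhi, hh]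
  intro x
  cases x <;> assumption

theorem core_a : H.normalCore = ⊥ := core_bot_of_faithful φ order_main.2 _ main.2.1 main.2.2

instance : Nontrivial Fi22 := by
  rw [← Finite.one_lt_card_iff_nontrivial, order_main.1]
  norm_num

theorem simple : IsSimpleGroup Fi22 :=
  simple_iwasawa H (Subgroup.zpowers (gw P [.a])) maximal core_a
    ((Subgroup.zpowers_le).2 (H_SW [.a] (by simp [SW0]))) A_norm
    (fun a ha b hb => by
      obtain ⟨m, rfl⟩ := ha; obtain ⟨n, rfl⟩ := hb
      exact (Commute.refl _).zpow_zpow m n) gen_top perfect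

end CfsgLib.TCFi22
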