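import Cfsg.Agent.EqBase
import Cfsg.Agent.LibTCAutFi23A
set_option autoImplicit false
set_option linter.all false
set_option maxRecDepth 1000000
set_option maxHeartbeats 0
namespace CfsgLib.TCFi23.Au
open CfsgLib.TC Cfsg.Spor CfsgLib.TCG_Fi23 CfsgLib.TCFi23 CfsgLib.TCFi23.Chain
theorem tX_4 : Tr.all (fun q => Nat.beq (walkC stp wx q) (TX q)) L_4 = true := by decide +kernel
theorem tY_0_rll : Tr.all (fun q => Nat.beq (walkC stp wy q) (TY q)) (lft (lft (rgt L_0))) = true := by decide +kernel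
theorem tY_1_rll : Tr.all (fun q => Nat.beq (walkC stp wy q) (TY q)) (lft (lft (rgt L_1))) = true := by decide +kernel
theorem tY_2_rll : Tr.all (fun q => Nat.beq (walkC stp wy q) (TY q)) (lft (lft (rgt L_2))) = true := by decide +kernel
theorem tY_3_rll : Tr.all (fun q => Nat.beq (walkC stp wy q) (TY q)) (lft (lft (rgt L_3))) = true := by decide +kernel
theorem tY_4_rll : Tr.all (fun q => Nat.beq (walkC stp wy q) (TY q)) (lft (lft (rgt L_4))) = true := by decide +kernel
theorem tY_5_rll : Tr.all (fun q => Nat.beq (walkC stp wy q) (TY q)) (lft (lft (rgt L_5))) = true := by decide +kernel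
theorem tY_6_rll : Tr.all (fun q => Nat.beq (walkC stp wy q) (TY q)) (lft (lft (rgt L_6))) = true := by decide +kernel
theorem tY_7_rll : Tr.all (fun q => Nat.beq (walkC stp wy q) (TY q)) (lft (lft (rgt L_7))) = true := by decide +kernel
theorem tS_0_rll : Tr.all (fun q => Nat.beq (walkC stp ws q) (TS q)) (lft (lft (rgt L_0))) = true := by decide +kernel
theorem tS_1_rll : Tr.all (fun q => Nat.beq (walkC stp ws q) (TS q)) (lft (lft (rgt L_1))) = true := by decide +kernel
theorem tS_2_rll : Tr.all (fun q => Nat.beq (walkC stp ws q) (TS q)) (lft (lft (rgt L_2))) = true := by decide +kernel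
theorem tS_3_rll : Tr.all (fun q => Nat.beq (walkC stp ws q) (TS q)) (lft (lft (rgt L_3))) = true := by decide +kernel
theorem tS_4_rll : Tr.all (fun q => Nat.beq (walkC stp ws q) (TS q)) (lft (lft (rgt L_4))) = true := by decide +kernel
theorem tS_5_rll : Tr.all (fun q => Nat.beq (walkC stp ws q) (TS q)) (lft (lft (rgt L_5))) = true := by decide +kernel
theorem tS_6_rll : Tr.all (fun q => Nat.beq (walkC stp ws q) (TS q)) (lft (lft (rgt L_6))) = true := by decide +kernel
theorem tS_7_rll : Tr.all (fun q => Nat.beq (walkC stp ws q) (TS q)) (lft (lft (rgt L_7))) = true := by decide +kernel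
theorem cX_0_lrll : Tr.all (cenB stp 200 [643729, 758357] lvs TX [1, 4, 6, 11, 0, 2, 3] QX) (lft (lft (rgt (lft L_0)))) = true := by decide +kernel
theorem cX_0_rrll : Tr.all (cenB stp 200 [643729, 758357] lvs TX [1, 4, 6, 11, 0, 2, 3] QX) (lft (lft (rgt (rgt L_0)))) = true := by decide +kernel
theorem cX_1_lrll : Tr.all (cenB stp 200 [643729, 758357] lvs TX [1, 4, 6, 11, 0, 2, 3] QX) (lft (lft (rgt (lft L_1)))) = true := by decide +kernel
theorem cX_1_rrll : Tr.all (cenB stp 200 [643729, 758357] lvs TX [1, 4, 6, 11, 0, 2, 3] QX) (lft (lft (rgt (rgt L_1)))) = true := by decide +kernel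
theorem cX_2_lrll : Tr.all (cenB stp 200 [643729, 758357] lvs TX [1, 4, 6, 11, 0, 2, 3] QX) (lft (lft (rgt (lft L_2)))) = true := by decide +kernel
theorem cX_2_rrll : Tr.all (cenB stp 200 [643729, 758357] lvs TX [1, 4, 6, 11, 0, 2, 3] QX) (lft (lft (rgt (rgt L_2)))) = true := by decide +kernel
theorem cX_3_lrll : Tr.all (cenB stp 200 [643729, 758357] lvs TX [1, 4, 6, 11, 0, 2, 3] QX) (lft (lft (rgt (lft L_3)))) = true := by decide +kernel
theorem cX_3_rrll : Tr.all (cenB stp 200 [643729, 758357] lvs TX [1, 4, 6, 11, 0, 2, 3] QX) (lft (lft (rgt (rgt L_3)))) = true := by decide +kernel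
theorem cX_4_lrll : Tr.all (cenB stp 200 [643729, 758357] lvs TX [1, 4, 6, 11, 0, 2, 3] QX) (lft (lft (rgt (lft L_4)))) = true := by decide +kernel
theorem cX_4_rrll : Tr.all (cenB stp 200 [643729, 758357] lvs TX [1, 4, 6, 11, 0, 2, 3] QX) (lft (lft (rgt (rgt L_4)))) = true := by decide +kernel
theorem cX_5_lrll : Tr.all (cenB stp 200 [643729, 758357] lvs TX [1, 4, 6, 11, 0, 2, 3] QX) (lft (lft (rgt (lft L_5)))) = true := by decide +kernel
theorem cX_5_rrll : Tr.all (cenB stp 200 [643729, 758357] lvs TX [1, 4, 6, 11, 0, 2, 3] QX) (lft (lft (rgt (rgt L_5)))) = true := by decide +kernel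
theorem cX_6_lrll : Tr.all (cenB stp 200 [643729, 758357] lvs TX [1, 4, 6, 11, 0, 2, 3] QX) (lft (lft (rgt (lft L_6)))) = true := by decide +kernel
theorem cX_6_rrll : Tr.all (cenB stp 200 [643729, 758357] lvs TX [1, 4, 6, 11, 0, 2, 3] QX) (lft (lft (rgt (rgt L_6)))) = true := by decide +kernel
theorem cX_7_lrll : Tr.all (cenB stp 200 [643729, 758357] lvs TX [1, 4, 6, 11, 0, 2, 3] QX) (lft (lft (rgt (lft L_7)))) = true := by decide +kernel
theorem cX_7_rrll : Tr.all (cenB stp 200 [643729, 758357] lvs TX [1, 4, 6, 11, 0, 2, 3] QX) (lft (lft (rgt (rgt L_7)))) = true := by decide +kernel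
theorem cY_0_lrll : Tr.all (cenB stp 200 [884669, 774119] lvs TY [0, 1, 2, 3, 6, 4, 5] QY) (lft (lft (rgt (lft L_0)))) = true := by decide +kernel
theorem cY_0_rrll : Tr.all (cenB stp 200 [884669, 774119] lvs TY [0, 1, 2, 3, 6, 4, 5] QY) (lft (lft (rgt (rgt L_0)))) = true := by decide +kernel
theorem cY_1_lrll : Tr.all (cenB stp 200 [884669, 774119] lvs TY [0, 1, 2, 3, 6, 4, 5] QY) (lft (lft (rgt (lft L_1)))) = true := by decide +kernel
theorem cY_1_rrll : Tr.all (cenB stp 200 [884669, 774119] lvs TY [0, 1, 2, 3, 6, 4, 5] QY) (lft (lft (rgt (rgt L_1)))) = true := by decide +kernel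
theorem cY_2_lrll : Tr.all (cenB stp 200 [884669, 774119] lvs TY [0, 1, 2, 3, 6, 4, 5] QY) (lft (lft (rgt (lft L_2)))) = true := by decide +kernel
theorem cY_2_rrll : Tr.all (cenB stp 200 [884669, 774119] lvs TY [0, 1, 2, 3, 6, 4, 5] QY) (lft (lft (rgt (rgt L_2)))) = true := by decide +kernel
theorem cY_3_lrll : Tr.all (cenB stp 200 [884669, 774119] lvs TY [0, 1, 2, 3, 6, 4, 5] QY) (lft (lft (rgt (lft L_3)))) = true := by decide +kernel
theorem cY_3_rrll : Tr.all (cenB stp 200 [884669, 774119] lvs TY [0, 1, 2, 3, 6, 4, 5] QY) (lft (lft (rgt (rgt L_3)))) = true := by decide +kernel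
theorem cY_4_lrll : Tr.all (cenB stp 200 [884669, 774119] lvs TY [0, 1, 2, 3, 6, 4, 5] QY) (lft (lft (rgt (lft L_4)))) = true := by decide +kernel
theorem cY_4_rrll : Tr.all (cenB stp 200 [884669, 774119] lvs TY [0, 1, 2, 3, 6, 4, 5] QY) (lft (lft (rgt (rgt L_4)))) = true := by decide +kernel
theorem cY_5_lrll : Tr.all (cenB stp 200 [884669, 774119] lvs TY [0, 1, 2, 3, 6, 4, 5] QY) (lft (lft (rgt (lft L_5)))) = true := by decide +kernel
theorem cY_5_rrll : Tr.all (cenB stp 200 [884669, 774119] lvs TY [0, 1, 2, 3, 6, 4, 5] QY) (lft (lft (rgt (rgt L_5)))) = true := by decide +kernel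
theorem cY_6_lrll : Tr.all (cenB stp 200 [884669, 774119] lvs TY [0, 1, 2, 3, 6, 4, 5] QY) (lft (lft (rgt (lft L_6)))) = true := by decide +kernel
theorem cY_6_rrll : Tr.all (cenB stp 200 [884669, 774119] lvs TY [0, 1, 2, 3, 6, 4, 5] QY) (lft (lft (rgt (rgt L_6)))) = true := by decide +kernel
theorem cY_7_lrll : Tr.all (cenB stp 200 [884669, 774119] lvs TY [0, 1, 2, 3, 6, 4, 5] QY) (lft (lft (rgt (lft L_7)))) = true := by decide +kernel
theorem cY_7_rrll : Tr.all (cenB stp 200 [884669, 774119] lvs TY [0, 1, 2, 3, 6, 4, 5] QY) (lft (lft (rgt (rgt L_7)))) = true := by decide +kernel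
end CfsgLib.TCFi23.Au
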