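import Cfsg.Agent.EqBase
import Cfsg.Agent.LibTCFi23W
set_option autoImplicit false
set_option linter.all false
set_option maxRecDepth 1000000
set_option maxHeartbeats 0
namespace CfsgLib.TCFi23
open CfsgLib.TC Cfsg.Spor CfsgLib.TCG_Fi23
noncomputable def mini0S : Tr (Fc Col) := (Tr.nd (nat_lit 597) (Tr.nd (nat_lit 298) (Tr.nd (nat_lit 149) (Tr.nd (nat_lit 74) (Tr.nd (nat_lit 37) (Tr.nd (nat_lit 18) (Tr.nd (nat_lit 9) (Tr.nd (nat_lit 4) (Tr.nd (nat_lit 2) (Tr.nd (nat_lit 1) (Tr.lf (Fc.ed (nat_lit 0) (nat_lit 0) Col.b (nat_lit 0) (Dv.sb (nat_lit 0) [] [])))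
(Tr.lf (Fc.ed (nat_lit 1) (nat_lit 0) Col.c (nat_lit 0) (Dv.sb (nat_lit 1) [] []))))
(Tr.nd (nat_lit 3) (Tr.lf (Fc.ed (nat_lit 2) (nat_lit 0) Col.d (nat_lit 0) (Dv.sb (nat_lit 2) [] [])))
(Tr.lf (Fc.ed (nat_lit 3) (nat_lit 0) Col.e (nat_lit 0) (Dv.sb (nat_lit 3) [] [])))))
(Tr.nd (nat_lit 6) (Tr.nd (nat_lit 5) (Tr.lf (Fc.ed (nat_lit 4) (nat_lit 0) Col.h (nat_lit 0) (Dv.sb (nat_lit 4) [] [])))
(Tr.lf (Fc.ed (nat_lit 5) (nat_lit 0) Col.i (nat_lit 0) (Dv.sb (nat_lit 5) [] []))))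
(Tr.nd (nat_lit 7) (Tr.lf (Fc.ed (nat_lit 6) (nat_lit 0) Col.j (nat_lit 1) Dv.df))
(Tr.nd (nat_lit 8) (Tr.lf (Fc.ed (nat_lit 7) (nat_lit 1) Col.b (nat_lit 1) (Dv.wd (nat_lit 6) [Mv.b (nat_lit 6), Mv.f (nat_lit 0), Mv.f (nat_lit 6)])))
(Tr.lf (Fc.ed (nat_lit 8) (nat_lit 1) Col.c (nat_lit 1) (Dv.wd (nat_lit 7) [Mv.b (nat_lit 6), Mv.f (nat_lit 1), Mv.f (nat_lit 6)])))))))
(Tr.nd (nat_lit 13) (Tr.nd (nat_lit 11) (Tr.nd (nat_lit 10) (Tr.lf (Fc.ed (nat_lit 9) (nat_lit 1) Col.d (nat_lit 1) (Dv.wd (nat_lit 8) [Mv.b (nat_lit 6), Mv.f (nat_lit 2), Mv.f (nat_lit 6)])))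
(Tr.lf (Fc.ed (nat_lit 10) (nat_lit 1) Col.e (nat_lit 1) (Dv.wd (nat_lit 9) [Mv.b (nat_lit 6), Mv.f (nat_lit 3), Mv.f (nat_lit 6)]))))
(Tr.nd (nat_lit 12) (Tr.lf (Fc.ed (nat_lit 11) (nat_lit 1) Col.h (nat_lit 1) (Dv.wd (nat_lit 10) [Mv.b (nat_lit 6), Mv.f (nat_lit 4), Mv.f (nat_lit 6)])))
(Tr.lf (Fc.ed (nat_lit 12) (nat_lit 1) Col.i (nat_lit 1) (Dv.wd (nat_lit 11) [Mv.b (nat_lit 6), Mv.f (nat_lit 5), Mv.f (nat_lit 6)])))))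
(Tr.nd (nat_lit 15) (Tr.nd (nat_lit 14) (Tr.lf (Fc.ed (nat_lit 13) (nat_lit 1) Col.g (nat_lit 2) Dv.df))
(Tr.lf (Fc.ed (nat_lit 14) (nat_lit 2) Col.b (nat_lit 2) (Dv.wd (nat_lit 12) [Mv.b (nat_lit 13), Mv.f (nat_lit 7), Mv.f (nat_lit 13)]))))
(Tr.nd (nat_lit 16) (Tr.lf (Fc.ed (nat_lit 15) (nat_lit 2) Col.c (nat_lit 2) (Dv.wd (nat_lit 13) [Mv.b (nat_lit 13), Mv.f (nat_lit 8), Mv.f (nat_lit 13)])))
(Tr.nd (nat_lit 17) (Tr.lf (Fc.ed (nat_lit 16) (nat_lit 2) Col.d (nat_lit 2) (Dv.wd (nat_lit 14) [Mv.b (nat_lit 13), Mv.f (nat_lit 9), Mv.f (nat_lit 13)])))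
(Tr.lf (Fc.ed (nat_lit 17) (nat_lit 2) Col.e (nat_lit 2) (Dv.wd (nat_lit 15) [Mv.b (nat_lit 13), Mv.f (nat_lit 10), Mv.f (nat_lit 13)]))))))))
(Tr.nd (nat_lit 27) (Tr.nd (nat_lit 22) (Tr.nd (nat_lit 20) (Tr.nd (nat_lit 19) (Tr.lf (Fc.ed (nat_lit 18) (nat_lit 2) Col.h (nat_lit 2) (Dv.wd (nat_lit 16) [Mv.b (nat_lit 13), Mv.f (nat_lit 11), Mv.f (nat_lit 13)])))
(Tr.lf (Fc.ed (nat_lit 19) (nat_lit 2) Col.i (nat_lit 2) (Dv.wd (nat_lit 17) [Mv.b (nat_lit 13), Mv.f (nat_lit 12), Mv.f (nat_lit 13)]))))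
(Tr.nd (nat_lit 21) (Tr.lf (Fc.ed (nat_lit 20) (nat_lit 2) Col.f (nat_lit 3) Dv.df))
(Tr.lf (Fc.ed (nat_lit 21) (nat_lit 3) Col.b (nat_lit 3) (Dv.wd (nat_lit 18) [Mv.b (nat_lit 20), Mv.f (nat_lit 14), Mv.f (nat_lit 20)])))))
(Tr.nd (nat_lit 24) (Tr.nd (nat_lit 23) (Tr.lf (Fc.ed (nat_lit 22) (nat_lit 3) Col.c (nat_lit 3) (Dv.wd (nat_lit 19) [Mv.b (nat_lit 20), Mv.f (nat_lit 15), Mv.f (nat_lit 20)])))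
(Tr.lf (Fc.ed (nat_lit 23) (nat_lit 3) Col.d (nat_lit 3) (Dv.wd (nat_lit 20) [Mv.b (nat_lit 20), Mv.f (nat_lit 16), Mv.f (nat_lit 20)]))))
(Tr.nd (nat_lit 25) (Tr.lf (Fc.ed (nat_lit 24) (nat_lit 3) Col.h (nat_lit 3) (Dv.wd (nat_lit 21) [Mv.b (nat_lit 20), Mv.f (nat_lit 18), Mv.f (nat_lit 20)])))
(Tr.nd (nat_lit 26) (Tr.lf (Fc.ed (nat_lit 25) (nat_lit 3) Col.i (nat_lit 3) (Dv.wd (nat_lit 22) [Mv.b (nat_lit 20), Mv.f (nat_lit 19), Mv.f (nat_lit 20)])))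
(Tr.lf (Fc.ed (nat_lit 26) (nat_lit 3) Col.e (nat_lit 4) Dv.df))))))
(Tr.nd (nat_lit 32) (Tr.nd (nat_lit 29) (Tr.nd (nat_lit 28) (Tr.lf (Fc.ed (nat_lit 27) (nat_lit 4) Col.b (nat_lit 4) (Dv.wd (nat_lit 23) [Mv.b (nat_lit 26), Mv.f (nat_lit 21), Mv.f (nat_lit 26)])))
(Tr.lf (Fc.ed (nat_lit 28) (nat_lit 4) Col.c (nat_lit 4) (Dv.wd (nat_lit 24) [Mv.b (nat_lit 26), Mv.f (nat_lit 22), Mv.f (nat_lit 26)]))))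
(Tr.nd (nat_lit 30) (Tr.lf (Fc.ed (nat_lit 29) (nat_lit 4) Col.h (nat_lit 4) (Dv.wd (nat_lit 25) [Mv.b (nat_lit 26), Mv.f (nat_lit 24), Mv.f (nat_lit 26)])))
(Tr.nd (nat_lit 31) (Tr.lf (Fc.ed (nat_lit 30) (nat_lit 4) Col.i (nat_lit 4) (Dv.wd (nat_lit 26) [Mv.b (nat_lit 26), Mv.f (nat_lit 25), Mv.f (nat_lit 26)])))
(Tr.lf (Fc.ed (nat_lit 31) (nat_lit 4) Col.f (nat_lit 4) (Dv.wd (nat_lit 27) [Mv.b (nat_lit 26), Mv.b (nat_lit 20), Mv.f (nat_lit 17), Mv.f (nat_lit 20), Mv.f (nat_lit 26)]))))))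
(Tr.nd (nat_lit 34) (Tr.nd (nat_lit 33) (Tr.lf (Fc.ed (nat_lit 32) (nat_lit 4) Col.d (nat_lit 5) Dv.df))
(Tr.lf (Fc.ed (nat_lit 33) (nat_lit 5) Col.b (nat_lit 5) (Dv.wd (nat_lit 28) [Mv.b (nat_lit 32), Mv.f (nat_lit 27), Mv.f (nat_lit 32)]))))
(Tr.nd (nat_lit 35) (Tr.lf (Fc.ed (nat_lit 34) (nat_lit 5) Col.f (nat_lit 5) (Dv.wd (nat_lit 29) [Mv.b (nat_lit 32), Mv.f (nat_lit 31), Mv.f (nat_lit 32)])))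
(Tr.nd (nat_lit 36) (Tr.lf (Fc.ed (nat_lit 35) (nat_lit 5) Col.i (nat_lit 5) (Dv.wd (nat_lit 30) [Mv.b (nat_lit 32), Mv.f (nat_lit 30), Mv.f (nat_lit 32)])))
(Tr.lf (Fc.ed (nat_lit 36) (nat_lit 5) Col.e (nat_lit 5) (Dv.wd (nat_lit 31) [Mv.b (nat_lit 32), Mv.b (nat_lit 26), Mv.f (nat_lit 23), Mv.f (nat_lit 26), Mv.f (nat_lit 32)])))))))))
(Tr.nd (nat_lit 55) (Tr.nd (nat_lit 46) (Tr.nd (nat_lit 41) (Tr.nd (nat_lit 39) (Tr.nd (nat_lit 38) (Tr.lf (Fc.ed (nat_lit 37) (nat_lit 5) Col.c (nat_lit 6) Dv.df))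
(Tr.lf (Fc.ed (nat_lit 38) (nat_lit 6) Col.e (nat_lit 6) (Dv.wd (nat_lit 32) [Mv.b (nat_lit 37), Mv.f (nat_lit 36), Mv.f (nat_lit 37)]))))
(Tr.nd (nat_lit 40) (Tr.lf (Fc.ed (nat_lit 39) (nat_lit 6) Col.f (nat_lit 6) (Dv.wd (nat_lit 33) [Mv.b (nat_lit 37), Mv.f (nat_lit 34), Mv.f (nat_lit 37)])))
(Tr.lf (Fc.ed (nat_lit 40) (nat_lit 6) Col.i (nat_lit 6) (Dv.wd (nat_lit 34) [Mv.b (nat_lit 37), Mv.f (nat_lit 35), Mv.f (nat_lit 37)])))))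
(Tr.nd (nat_lit 43) (Tr.nd (nat_lit 42) (Tr.lf (Fc.ed (nat_lit 41) (nat_lit 6) Col.d (nat_lit 6) (Dv.wd (nat_lit 35) [Mv.b (nat_lit 37), Mv.b (nat_lit 32), Mv.f (nat_lit 28), Mv.f (nat_lit 32), Mv.f (nat_lit 37)])))
(Tr.lf (Fc.ed (nat_lit 42) (nat_lit 6) Col.h (nat_lit 7) Dv.df)))
(Tr.nd (nat_lit 44) (Tr.lf (Fc.ed (nat_lit 43) (nat_lit 7) Col.e (nat_lit 7) (Dv.wd (nat_lit 36) [Mv.b (nat_lit 42), Mv.f (nat_lit 38), Mv.f (nat_lit 42)])))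
(Tr.nd (nat_lit 45) (Tr.lf (Fc.ed (nat_lit 44) (nat_lit 7) Col.f (nat_lit 7) (Dv.wd (nat_lit 37) [Mv.b (nat_lit 42), Mv.f (nat_lit 39), Mv.f (nat_lit 42)])))
(Tr.lf (Fc.ed (nat_lit 45) (nat_lit 7) Col.d (nat_lit 8) Dv.df))))))
(Tr.nd (nat_lit 50) (Tr.nd (nat_lit 48) (Tr.nd (nat_lit 47) (Tr.lf (Fc.ed (nat_lit 46) (nat_lit 8) Col.f (nat_lit 8) (Dv.wd (nat_lit 29) [Mv.b (nat_lit 45), Mv.f (nat_lit 44), Mv.f (nat_lit 45)])))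
(Tr.lf (Fc.ed (nat_lit 47) (nat_lit 8) Col.h (nat_lit 8) (Dv.wd (nat_lit 38) [Mv.b (nat_lit 45), Mv.b (nat_lit 42), Mv.f (nat_lit 41), Mv.f (nat_lit 42), Mv.f (nat_lit 45)]))))
(Tr.nd (nat_lit 49) (Tr.lf (Fc.ed (nat_lit 48) (nat_lit 8) Col.e (nat_lit 9) Dv.df))
(Tr.lf (Fc.ed (nat_lit 49) (nat_lit 9) Col.h (nat_lit 9) (Dv.wd (nat_lit 25) [Mv.b (nat_lit 48), Mv.f (nat_lit 47), Mv.f (nat_lit 48)])))))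
(Tr.nd (nat_lit 52) (Tr.nd (nat_lit 51) (Tr.lf (Fc.ed (nat_lit 50) (nat_lit 9) Col.d (nat_lit 9) (Dv.wd (nat_lit 39) [Mv.b (nat_lit 48), Mv.b (nat_lit 45), Mv.f (nat_lit 43), Mv.f (nat_lit 45), Mv.f (nat_lit 48)])))
(Tr.lf (Fc.ed (nat_lit 51) (nat_lit 9) Col.f (nat_lit 10) Dv.df)))
(Tr.nd (nat_lit 53) (Tr.lf (Fc.ed (nat_lit 52) (nat_lit 10) Col.d (nat_lit 10) (Dv.wd (nat_lit 20) [Mv.b (nat_lit 51), Mv.f (nat_lit 50), Mv.f (nat_lit 51)])))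
(Tr.nd (nat_lit 54) (Tr.lf (Fc.ed (nat_lit 53) (nat_lit 10) Col.h (nat_lit 10) (Dv.wd (nat_lit 21) [Mv.b (nat_lit 51), Mv.f (nat_lit 49), Mv.f (nat_lit 51)])))
(Tr.lf (Fc.ed (nat_lit 54) (nat_lit 10) Col.e (nat_lit 10) (Dv.wd (nat_lit 40) [Mv.b (nat_lit 51), Mv.b (nat_lit 48), Mv.f (nat_lit 46), Mv.f (nat_lit 48), Mv.f (nat_lit 51)]))))))))
(Tr.nd (nat_lit 64) (Tr.nd (nat_lit 59) (Tr.nd (nat_lit 57) (Tr.nd (nat_lit 56) (Tr.lf (Fc.ed (nat_lit 55) (nat_lit 10) Col.i (nat_lit 11) Dv.df))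
(Tr.lf (Fc.ed (nat_lit 56) (nat_lit 11) Col.d (nat_lit 11) (Dv.wd (nat_lit 41) [Mv.b (nat_lit 55), Mv.f (nat_lit 52), Mv.f (nat_lit 55)]))))
(Tr.nd (nat_lit 58) (Tr.lf (Fc.ed (nat_lit 57) (nat_lit 11) Col.e (nat_lit 11) (Dv.wd (nat_lit 42) [Mv.b (nat_lit 55), Mv.f (nat_lit 54), Mv.f (nat_lit 55)])))
(Tr.lf (Fc.ed (nat_lit 58) (nat_lit 11) Col.h (nat_lit 12) Dv.df))))
(Tr.nd (nat_lit 61) (Tr.nd (nat_lit 60) (Tr.lf (Fc.ed (nat_lit 59) (nat_lit 12) Col.e (nat_lit 12) (Dv.wd (nat_lit 36) [Mv.b (nat_lit 58), Mv.f (nat_lit 57), Mv.f (nat_lit 58)])))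
(Tr.lf (Fc.ed (nat_lit 60) (nat_lit 12) Col.i (nat_lit 12) (Dv.wd (nat_lit 43) [Mv.b (nat_lit 58), Mv.b (nat_lit 55), Mv.f (nat_lit 53), Mv.f (nat_lit 55), Mv.f (nat_lit 58)]))))
(Tr.nd (nat_lit 62) (Tr.lf (Fc.ed (nat_lit 61) (nat_lit 12) Col.d (nat_lit 13) Dv.df))
(Tr.nd (nat_lit 63) (Tr.lf (Fc.ed (nat_lit 62) (nat_lit 13) Col.i (nat_lit 13) (Dv.wd (nat_lit 30) [Mv.b (nat_lit 61), Mv.f (nat_lit 60), Mv.f (nat_lit 61)])))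
(Tr.lf (Fc.ed (nat_lit 63) (nat_lit 13) Col.h (nat_lit 13) (Dv.wd (nat_lit 38) [Mv.b (nat_lit 61), Mv.b (nat_lit 58), Mv.f (nat_lit 56), Mv.f (nat_lit 58), Mv.f (nat_lit 61)])))))))
(Tr.nd (nat_lit 69) (Tr.nd (nat_lit 66) (Tr.nd (nat_lit 65) (Tr.lf (Fc.ed (nat_lit 64) (nat_lit 13) Col.c (nat_lit 14) Dv.df))
(Tr.lf (Fc.ed (nat_lit 65) (nat_lit 14) Col.h (nat_lit 14) (Dv.wd (nat_lit 44) [Mv.b (nat_lit 64), Mv.f (nat_lit 63), Mv.f (nat_lit 64)]))))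
(Tr.nd (nat_lit 67) (Tr.lf (Fc.ed (nat_lit 66) (nat_lit 14) Col.i (nat_lit 14) (Dv.wd (nat_lit 34) [Mv.b (nat_lit 64), Mv.f (nat_lit 62), Mv.f (nat_lit 64)])))
(Tr.nd (nat_lit 68) (Tr.lf (Fc.ed (nat_lit 67) (nat_lit 14) Col.b (nat_lit 15) Dv.df))
(Tr.lf (Fc.ed (nat_lit 68) (nat_lit 15) Col.h (nat_lit 15) (Dv.wd (nat_lit 45) [Mv.b (nat_lit 67), Mv.f (nat_lit 65), Mv.f (nat_lit 67)]))))))
(Tr.nd (nat_lit 71) (Tr.nd (nat_lit 70) (Tr.lf (Fc.ed (nat_lit 69) (nat_lit 15) Col.i (nat_lit 15) (Dv.wd (nat_lit 46) [Mv.b (nat_lit 67), Mv.f (nat_lit 66), Mv.f (nat_lit 67)])))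
(Tr.lf (Fc.ed (nat_lit 70) (nat_lit 15) Col.e (nat_lit 16) Dv.df)))
(Tr.nd (nat_lit 72) (Tr.lf (Fc.ed (nat_lit 71) (nat_lit 16) Col.h (nat_lit 16) (Dv.wd (nat_lit 25) [Mv.b (nat_lit 70), Mv.f (nat_lit 68), Mv.f (nat_lit 70)])))
(Tr.nd (nat_lit 73) (Tr.lf (Fc.ed (nat_lit 72) (nat_lit 16) Col.i (nat_lit 16) (Dv.wd (nat_lit 26) [Mv.b (nat_lit 70), Mv.f (nat_lit 69), Mv.f (nat_lit 70)])))
(Tr.lf (Fc.ed (nat_lit 73) (nat_lit 16) Col.d (nat_lit 17) Dv.df)))))))))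
(Tr.nd (nat_lit 111) (Tr.nd (nat_lit 92) (Tr.nd (nat_lit 83) (Tr.nd (nat_lit 78) (Tr.nd (nat_lit 76) (Tr.nd (nat_lit 75) (Tr.lf (Fc.ed (nat_lit 74) (nat_lit 17) Col.i (nat_lit 17) (Dv.wd (nat_lit 30) [Mv.b (nat_lit 73), Mv.f (nat_lit 72), Mv.f (nat_lit 73)])))
(Tr.lf (Fc.ed (nat_lit 75) (nat_lit 17) Col.c (nat_lit 18) Dv.df)))
(Tr.nd (nat_lit 77) (Tr.lf (Fc.ed (nat_lit 76) (nat_lit 18) Col.i (nat_lit 18) (Dv.wd (nat_lit 34) [Mv.b (nat_lit 75), Mv.f (nat_lit 74), Mv.f (nat_lit 75)])))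
(Tr.lf (Fc.ed (nat_lit 77) (nat_lit 18) Col.h (nat_lit 19) Dv.df))))
(Tr.nd (nat_lit 80) (Tr.nd (nat_lit 79) (Tr.lf (Fc.ed (nat_lit 78) (nat_lit 19) Col.i (nat_lit 20) Dv.df))
(Tr.lf (Fc.ed (nat_lit 79) (nat_lit 20) Col.h (nat_lit 20) (Dv.wd (nat_lit 47) [Mv.b (nat_lit 78), Mv.b (nat_lit 77), Mv.f (nat_lit 76), Mv.f (nat_lit 77), Mv.f (nat_lit 78)]))))
(Tr.nd (nat_lit 81) (Tr.lf (Fc.ed (nat_lit 80) (nat_lit 20) Col.d (nat_lit 21) Dv.df))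
(Tr.nd (nat_lit 82) (Tr.lf (Fc.ed (nat_lit 81) (nat_lit 21) Col.h (nat_lit 22) Dv.df))
(Tr.lf (Fc.ed (nat_lit 82) (nat_lit 22) Col.d (nat_lit 22) (Dv.wd (nat_lit 48) [Mv.b (nat_lit 81), Mv.b (nat_lit 80), Mv.f (nat_lit 79), Mv.f (nat_lit 80), Mv.f (nat_lit 81)])))))))
(Tr.nd (nat_lit 87) (Tr.nd (nat_lit 85) (Tr.nd (nat_lit 84) (Tr.lf (Fc.ed (nat_lit 83) (nat_lit 22) Col.e (nat_lit 23) Dv.df))
(Tr.lf (Fc.ed (nat_lit 84) (nat_lit 23) Col.f (nat_lit 24) Dv.df)))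
(Tr.nd (nat_lit 86) (Tr.lf (Fc.ed (nat_lit 85) (nat_lit 24) Col.d (nat_lit 25) Dv.df))
(Tr.lf (Fc.ed (nat_lit 86) (nat_lit 25) Col.e (nat_lit 26) Dv.df))))
(Tr.nd (nat_lit 89) (Tr.nd (nat_lit 88) (Tr.lf (Fc.ed (nat_lit 87) (nat_lit 26) Col.c (nat_lit 27) Dv.df))
(Tr.lf (Fc.ed (nat_lit 88) (nat_lit 27) Col.d (nat_lit 28) Dv.df)))
(Tr.nd (nat_lit 90) (Tr.lf (Fc.ed (nat_lit 89) (nat_lit 28) Col.h (nat_lit 29) Dv.df))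
(Tr.nd (nat_lit 91) (Tr.lf (Fc.ed (nat_lit 90) (nat_lit 29) Col.b (nat_lit 30) Dv.df))
(Tr.lf (Fc.ed (nat_lit 91) (nat_lit 30) Col.c (nat_lit 31) Dv.df)))))))
(Tr.nd (nat_lit 101) (Tr.nd (nat_lit 96) (Tr.nd (nat_lit 94) (Tr.nd (nat_lit 93) (Tr.lf (Fc.ed (nat_lit 92) (nat_lit 31) Col.d (nat_lit 32) Dv.df))
(Tr.lf (Fc.ed (nat_lit 93) (nat_lit 32) Col.e (nat_lit 33) Dv.df)))
(Tr.nd (nat_lit 95) (Tr.lf (Fc.ed (nat_lit 94) (nat_lit 33) Col.f (nat_lit 34) Dv.df))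
(Tr.lf (Fc.ed (nat_lit 95) (nat_lit 34) Col.g (nat_lit 35) Dv.df))))
(Tr.nd (nat_lit 98) (Tr.nd (nat_lit 97) (Tr.lf (Fc.ed (nat_lit 96) (nat_lit 16) Col.b (nat_lit 36) Dv.df))
(Tr.lf (Fc.ed (nat_lit 97) (nat_lit 36) Col.e (nat_lit 14) (Dv.wd (nat_lit 49) [Mv.f (nat_lit 67), Mv.f (nat_lit 70), Mv.f (nat_lit 96)]))))
(Tr.nd (nat_lit 99) (Tr.lf (Fc.ed (nat_lit 98) (nat_lit 12) Col.b (nat_lit 37) Dv.df))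
(Tr.nd (nat_lit 100) (Tr.lf (Fc.ed (nat_lit 99) (nat_lit 17) Col.h (nat_lit 38) Dv.df))
(Tr.lf (Fc.ed (nat_lit 100) (nat_lit 38) Col.c (nat_lit 19) (Dv.wd (nat_lit 50) [Mv.b (nat_lit 77), Mv.b (nat_lit 75), Mv.f (nat_lit 99)])))))))
(Tr.nd (nat_lit 106) (Tr.nd (nat_lit 103) (Tr.nd (nat_lit 102) (Tr.lf (Fc.ed (nat_lit 101) (nat_lit 38) Col.d (nat_lit 38) (Dv.wd (nat_lit 48) [Mv.b (nat_lit 99), Mv.b (nat_lit 73), Mv.f (nat_lit 71), Mv.f (nat_lit 73), Mv.f (nat_lit 99)])))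
(Tr.lf (Fc.ed (nat_lit 102) (nat_lit 7) Col.i (nat_lit 39) Dv.df)))
(Tr.nd (nat_lit 104) (Tr.lf (Fc.ed (nat_lit 103) (nat_lit 39) Col.h (nat_lit 39) (Dv.wd (nat_lit 47) [Mv.b (nat_lit 102), Mv.b (nat_lit 42), Mv.f (nat_lit 40), Mv.f (nat_lit 42), Mv.f (nat_lit 102)])))
(Tr.nd (nat_lit 105) (Tr.lf (Fc.ed (nat_lit 104) (nat_lit 11) Col.b (nat_lit 40) Dv.df))
(Tr.lf (Fc.ed (nat_lit 105) (nat_lit 40) Col.e (nat_lit 40) (Dv.wd (nat_lit 49) [Mv.b (nat_lit 104), Mv.f (nat_lit 57), Mv.f (nat_lit 104)]))))))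
(Tr.nd (nat_lit 108) (Tr.nd (nat_lit 107) (Tr.lf (Fc.ed (nat_lit 106) (nat_lit 40) Col.h (nat_lit 37) (Dv.wd (nat_lit 45) [Mv.b (nat_lit 98), Mv.b (nat_lit 58), Mv.f (nat_lit 104)])))
(Tr.lf (Fc.ed (nat_lit 107) (nat_lit 10) Col.b (nat_lit 41) Dv.df)))
(Tr.nd (nat_lit 109) (Tr.lf (Fc.ed (nat_lit 108) (nat_lit 41) Col.d (nat_lit 41) (Dv.wd (nat_lit 51) [Mv.b (nat_lit 107), Mv.f (nat_lit 52), Mv.f (nat_lit 107)])))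
(Tr.nd (nat_lit 110) (Tr.lf (Fc.ed (nat_lit 109) (nat_lit 41) Col.h (nat_lit 41) (Dv.wd (nat_lit 45) [Mv.b (nat_lit 107), Mv.f (nat_lit 53), Mv.f (nat_lit 107)])))
(Tr.lf (Fc.ed (nat_lit 110) (nat_lit 9) Col.i (nat_lit 42) Dv.df))))))))
(Tr.nd (nat_lit 130) (Tr.nd (nat_lit 120) (Tr.nd (nat_lit 115) (Tr.nd (nat_lit 113) (Tr.nd (nat_lit 112) (Tr.lf (Fc.ed (nat_lit 111) (nat_lit 42) Col.d (nat_lit 42) (Dv.wd (nat_lit 41) [Mv.b (nat_lit 110), Mv.f (nat_lit 50), Mv.f (nat_lit 110)])))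
(Tr.lf (Fc.ed (nat_lit 112) (nat_lit 42) Col.f (nat_lit 11) (Dv.wd (nat_lit 52) [Mv.b (nat_lit 55), Mv.b (nat_lit 51), Mv.f (nat_lit 110)]))))
(Tr.nd (nat_lit 114) (Tr.lf (Fc.ed (nat_lit 113) (nat_lit 7) Col.c (nat_lit 43) Dv.df))
(Tr.lf (Fc.ed (nat_lit 114) (nat_lit 43) Col.h (nat_lit 5) (Dv.wd (nat_lit 44) [Mv.f (nat_lit 37), Mv.f (nat_lit 42), Mv.f (nat_lit 113)])))))
(Tr.nd (nat_lit 117) (Tr.nd (nat_lit 116) (Tr.lf (Fc.ed (nat_lit 115) (nat_lit 43) Col.b (nat_lit 43) (Dv.wd (nat_lit 53) [Mv.f (nat_lit 114), Mv.f (nat_lit 33), Mv.b (nat_lit 114)])))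
(Tr.lf (Fc.ed (nat_lit 116) (nat_lit 43) Col.d (nat_lit 43) (Dv.wd (nat_lit 54) [Mv.f (nat_lit 114), Mv.b (nat_lit 32), Mv.f (nat_lit 29), Mv.f (nat_lit 32), Mv.b (nat_lit 114)]))))
(Tr.nd (nat_lit 118) (Tr.lf (Fc.ed (nat_lit 117) (nat_lit 8) Col.c (nat_lit 8) (Dv.wd (nat_lit 55) [Mv.b (nat_lit 45), Mv.f (nat_lit 113), Mv.f (nat_lit 116), Mv.b (nat_lit 113), Mv.f (nat_lit 45)])))
(Tr.nd (nat_lit 119) (Tr.lf (Fc.ed (nat_lit 118) (nat_lit 9) Col.c (nat_lit 9) (Dv.wd (nat_lit 56) [Mv.b (nat_lit 48), Mv.f (nat_lit 117), Mv.f (nat_lit 48)])))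
(Tr.lf (Fc.ed (nat_lit 119) (nat_lit 42) Col.c (nat_lit 42) (Dv.wd (nat_lit 57) [Mv.b (nat_lit 110), Mv.f (nat_lit 118), Mv.f (nat_lit 110)])))))))
(Tr.nd (nat_lit 125) (Tr.nd (nat_lit 122) (Tr.nd (nat_lit 121) (Tr.lf (Fc.ed (nat_lit 120) (nat_lit 11) Col.c (nat_lit 11) (Dv.wd (nat_lit 58) [Mv.b (nat_lit 112), Mv.f (nat_lit 119), Mv.f (nat_lit 112)])))
(Tr.lf (Fc.ed (nat_lit 121) (nat_lit 12) Col.c (nat_lit 12) (Dv.wd (nat_lit 59) [Mv.b (nat_lit 58), Mv.f (nat_lit 120), Mv.f (nat_lit 58)]))))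
(Tr.nd (nat_lit 123) (Tr.lf (Fc.ed (nat_lit 122) (nat_lit 14) Col.d (nat_lit 14) (Dv.wd (nat_lit 60) [Mv.b (nat_lit 64), Mv.b (nat_lit 61), Mv.f (nat_lit 121), Mv.f (nat_lit 61), Mv.f (nat_lit 64)])))
(Tr.nd (nat_lit 124) (Tr.lf (Fc.ed (nat_lit 123) (nat_lit 15) Col.d (nat_lit 15) (Dv.wd (nat_lit 51) [Mv.b (nat_lit 67), Mv.f (nat_lit 122), Mv.f (nat_lit 67)])))
(Tr.lf (Fc.ed (nat_lit 124) (nat_lit 17) Col.e (nat_lit 17) (Dv.wd (nat_lit 61) [Mv.b (nat_lit 73), Mv.b (nat_lit 70), Mv.f (nat_lit 123), Mv.f (nat_lit 70), Mv.f (nat_lit 73)]))))))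
(Tr.nd (nat_lit 127) (Tr.nd (nat_lit 126) (Tr.lf (Fc.ed (nat_lit 125) (nat_lit 38) Col.e (nat_lit 38) (Dv.wd (nat_lit 62) [Mv.b (nat_lit 99), Mv.f (nat_lit 124), Mv.f (nat_lit 99)])))
(Tr.lf (Fc.ed (nat_lit 126) (nat_lit 19) Col.e (nat_lit 19) (Dv.wd (nat_lit 32) [Mv.b (nat_lit 100), Mv.f (nat_lit 125), Mv.f (nat_lit 100)]))))
(Tr.nd (nat_lit 128) (Tr.lf (Fc.ed (nat_lit 127) (nat_lit 20) Col.e (nat_lit 20) (Dv.wd (nat_lit 63) [Mv.b (nat_lit 78), Mv.f (nat_lit 126), Mv.f (nat_lit 78)])))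
(Tr.nd (nat_lit 129) (Tr.lf (Fc.ed (nat_lit 128) (nat_lit 41) Col.f (nat_lit 44) Dv.df))
(Tr.lf (Fc.ed (nat_lit 129) (nat_lit 44) Col.b (nat_lit 9) (Dv.wd (nat_lit 18) [Mv.f (nat_lit 51), Mv.f (nat_lit 107), Mv.f (nat_lit 128)]))))))))
(Tr.nd (nat_lit 139) (Tr.nd (nat_lit 134) (Tr.nd (nat_lit 132) (Tr.nd (nat_lit 131) (Tr.lf (Fc.ed (nat_lit 130) (nat_lit 44) Col.d (nat_lit 44) (Dv.wd (nat_lit 20) [Mv.b (nat_lit 128), Mv.f (nat_lit 108), Mv.f (nat_lit 128)])))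
(Tr.lf (Fc.ed (nat_lit 131) (nat_lit 44) Col.h (nat_lit 44) (Dv.wd (nat_lit 21) [Mv.b (nat_lit 128), Mv.f (nat_lit 109), Mv.f (nat_lit 128)]))))
(Tr.nd (nat_lit 133) (Tr.lf (Fc.ed (nat_lit 132) (nat_lit 23) Col.d (nat_lit 45) Dv.df))
(Tr.lf (Fc.ed (nat_lit 133) (nat_lit 45) Col.f (nat_lit 25) (Dv.wd (nat_lit 29) [Mv.b (nat_lit 85), Mv.b (nat_lit 84), Mv.f (nat_lit 132)])))))
(Tr.nd (nat_lit 136) (Tr.nd (nat_lit 135) (Tr.lf (Fc.ed (nat_lit 134) (nat_lit 45) Col.e (nat_lit 45) (Dv.wd (nat_lit 31) [Mv.b (nat_lit 132), Mv.b (nat_lit 83), Mv.f (nat_lit 82), Mv.f (nat_lit 83), Mv.f (nat_lit 132)])))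
(Tr.lf (Fc.ed (nat_lit 135) (nat_lit 26) Col.f (nat_lit 26) (Dv.wd (nat_lit 64) [Mv.b (nat_lit 86), Mv.b (nat_lit 133), Mv.f (nat_lit 134), Mv.f (nat_lit 133), Mv.f (nat_lit 86)]))))
(Tr.nd (nat_lit 137) (Tr.lf (Fc.ed (nat_lit 136) (nat_lit 27) Col.f (nat_lit 27) (Dv.wd (nat_lit 33) [Mv.b (nat_lit 87), Mv.f (nat_lit 135), Mv.f (nat_lit 87)])))
(Tr.nd (nat_lit 138) (Tr.lf (Fc.ed (nat_lit 137) (nat_lit 28) Col.f (nat_lit 28) (Dv.wd (nat_lit 29) [Mv.b (nat_lit 88), Mv.f (nat_lit 136), Mv.f (nat_lit 88)])))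
(Tr.lf (Fc.ed (nat_lit 138) (nat_lit 29) Col.f (nat_lit 29) (Dv.wd (nat_lit 65) [Mv.b (nat_lit 89), Mv.f (nat_lit 137), Mv.f (nat_lit 89)])))))))
(Tr.nd (nat_lit 144) (Tr.nd (nat_lit 141) (Tr.nd (nat_lit 140) (Tr.lf (Fc.ed (nat_lit 139) (nat_lit 30) Col.f (nat_lit 30) (Dv.wd (nat_lit 66) [Mv.b (nat_lit 90), Mv.f (nat_lit 138), Mv.f (nat_lit 90)])))
(Tr.lf (Fc.ed (nat_lit 140) (nat_lit 31) Col.f (nat_lit 31) (Dv.wd (nat_lit 33) [Mv.b (nat_lit 91), Mv.f (nat_lit 139), Mv.f (nat_lit 91)]))))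
(Tr.nd (nat_lit 142) (Tr.lf (Fc.ed (nat_lit 141) (nat_lit 32) Col.f (nat_lit 32) (Dv.wd (nat_lit 29) [Mv.b (nat_lit 92), Mv.f (nat_lit 140), Mv.f (nat_lit 92)])))
(Tr.nd (nat_lit 143) (Tr.lf (Fc.ed (nat_lit 142) (nat_lit 34) Col.e (nat_lit 34) (Dv.wd (nat_lit 67) [Mv.b (nat_lit 94), Mv.b (nat_lit 93), Mv.f (nat_lit 141), Mv.f (nat_lit 93), Mv.f (nat_lit 94)])))
(Tr.lf (Fc.ed (nat_lit 143) (nat_lit 23) Col.b (nat_lit 46) Dv.df)))))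
(Tr.nd (nat_lit 146) (Tr.nd (nat_lit 145) (Tr.lf (Fc.ed (nat_lit 144) (nat_lit 8) Col.i (nat_lit 47) Dv.df))
(Tr.lf (Fc.ed (nat_lit 145) (nat_lit 47) Col.d (nat_lit 39) (Dv.wd (nat_lit 41) [Mv.b (nat_lit 102), Mv.f (nat_lit 45), Mv.f (nat_lit 144)]))))
(Tr.nd (nat_lit 147) (Tr.lf (Fc.ed (nat_lit 146) (nat_lit 47) Col.e (nat_lit 42) (Dv.wd (nat_lit 42) [Mv.b (nat_lit 110), Mv.b (nat_lit 48), Mv.f (nat_lit 144)])))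
(Tr.nd (nat_lit 148) (Tr.lf (Fc.ed (nat_lit 147) (nat_lit 47) Col.f (nat_lit 47) (Dv.wd (nat_lit 52) [Mv.b (nat_lit 144), Mv.f (nat_lit 46), Mv.f (nat_lit 144)])))
(Tr.lf (Fc.ed (nat_lit 148) (nat_lit 12) Col.g (nat_lit 48) Dv.df))))))))))
(Tr.nd (nat_lit 223) (Tr.nd (nat_lit 186) (Tr.nd (nat_lit 167) (Tr.nd (nat_lit 158) (Tr.nd (nat_lit 153) (Tr.nd (nat_lit 151) (Tr.nd (nat_lit 150) (Tr.lf (Fc.ed (nat_lit 149) (nat_lit 48) Col.c (nat_lit 48) (Dv.wd (nat_lit 13) [Mv.b (nat_lit 148), Mv.f (nat_lit 121), Mv.f (nat_lit 148)])))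
(Tr.lf (Fc.ed (nat_lit 150) (nat_lit 38) Col.i (nat_lit 49) Dv.df)))
(Tr.nd (nat_lit 152) (Tr.lf (Fc.ed (nat_lit 151) (nat_lit 49) Col.c (nat_lit 20) (Dv.wd (nat_lit 68) [Mv.b (nat_lit 78), Mv.b (nat_lit 100), Mv.f (nat_lit 150)])))
(Tr.lf (Fc.ed (nat_lit 152) (nat_lit 49) Col.d (nat_lit 49) (Dv.wd (nat_lit 41) [Mv.b (nat_lit 150), Mv.f (nat_lit 101), Mv.f (nat_lit 150)])))))
(Tr.nd (nat_lit 155) (Tr.nd (nat_lit 154) (Tr.lf (Fc.ed (nat_lit 153) (nat_lit 21) Col.c (nat_lit 21) (Dv.wd (nat_lit 55) [Mv.b (nat_lit 80), Mv.b (nat_lit 151), Mv.f (nat_lit 152), Mv.f (nat_lit 151), Mv.f (nat_lit 80)])))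
(Tr.lf (Fc.ed (nat_lit 154) (nat_lit 22) Col.c (nat_lit 22) (Dv.wd (nat_lit 59) [Mv.b (nat_lit 81), Mv.f (nat_lit 153), Mv.f (nat_lit 81)]))))
(Tr.nd (nat_lit 156) (Tr.lf (Fc.ed (nat_lit 155) (nat_lit 23) Col.c (nat_lit 23) (Dv.wd (nat_lit 56) [Mv.b (nat_lit 83), Mv.f (nat_lit 154), Mv.f (nat_lit 83)])))
(Tr.nd (nat_lit 157) (Tr.lf (Fc.ed (nat_lit 156) (nat_lit 24) Col.c (nat_lit 24) (Dv.wd (nat_lit 58) [Mv.b (nat_lit 84), Mv.f (nat_lit 155), Mv.f (nat_lit 84)])))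
(Tr.lf (Fc.ed (nat_lit 157) (nat_lit 36) Col.d (nat_lit 50) Dv.df))))))
(Tr.nd (nat_lit 162) (Tr.nd (nat_lit 160) (Tr.nd (nat_lit 159) (Tr.lf (Fc.ed (nat_lit 158) (nat_lit 50) Col.b (nat_lit 17) (Dv.wd (nat_lit 28) [Mv.b (nat_lit 73), Mv.f (nat_lit 96), Mv.f (nat_lit 157)])))
(Tr.lf (Fc.ed (nat_lit 159) (nat_lit 21) Col.i (nat_lit 51) Dv.df)))
(Tr.nd (nat_lit 161) (Tr.lf (Fc.ed (nat_lit 160) (nat_lit 51) Col.d (nat_lit 19) (Dv.wd (nat_lit 41) [Mv.f (nat_lit 78), Mv.f (nat_lit 80), Mv.f (nat_lit 159)])))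
(Tr.lf (Fc.ed (nat_lit 161) (nat_lit 42) Col.b (nat_lit 52) Dv.df))))
(Tr.nd (nat_lit 164) (Tr.nd (nat_lit 163) (Tr.lf (Fc.ed (nat_lit 162) (nat_lit 52) Col.f (nat_lit 40) (Dv.wd (nat_lit 66) [Mv.b (nat_lit 104), Mv.b (nat_lit 112), Mv.f (nat_lit 161)])))
(Tr.lf (Fc.ed (nat_lit 163) (nat_lit 52) Col.i (nat_lit 44) (Dv.wd (nat_lit 46) [Mv.f (nat_lit 129), Mv.f (nat_lit 110), Mv.f (nat_lit 161)]))))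
(Tr.nd (nat_lit 165) (Tr.lf (Fc.ed (nat_lit 164) (nat_lit 37) Col.g (nat_lit 53) Dv.df))
(Tr.nd (nat_lit 166) (Tr.lf (Fc.ed (nat_lit 165) (nat_lit 53) Col.b (nat_lit 48) (Dv.wd (nat_lit 12) [Mv.b (nat_lit 148), Mv.f (nat_lit 98), Mv.f (nat_lit 164)])))
(Tr.lf (Fc.ed (nat_lit 166) (nat_lit 23) Col.h (nat_lit 54) Dv.df)))))))
(Tr.nd (nat_lit 176) (Tr.nd (nat_lit 171) (Tr.nd (nat_lit 169) (Tr.nd (nat_lit 168) (Tr.lf (Fc.ed (nat_lit 167) (nat_lit 54) Col.e (nat_lit 21) (Dv.wd (nat_lit 36) [Mv.f (nat_lit 81), Mv.f (nat_lit 83), Mv.f (nat_lit 166)])))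
(Tr.lf (Fc.ed (nat_lit 168) (nat_lit 54) Col.d (nat_lit 54) (Dv.wd (nat_lit 69) [Mv.f (nat_lit 167), Mv.b (nat_lit 80), Mv.f (nat_lit 127), Mv.f (nat_lit 80), Mv.b (nat_lit 167)]))))
(Tr.nd (nat_lit 170) (Tr.lf (Fc.ed (nat_lit 169) (nat_lit 45) Col.h (nat_lit 45) (Dv.wd (nat_lit 70) [Mv.b (nat_lit 132), Mv.f (nat_lit 166), Mv.f (nat_lit 168), Mv.b (nat_lit 166), Mv.f (nat_lit 132)])))
(Tr.lf (Fc.ed (nat_lit 170) (nat_lit 25) Col.h (nat_lit 25) (Dv.wd (nat_lit 21) [Mv.b (nat_lit 133), Mv.f (nat_lit 169), Mv.f (nat_lit 133)])))))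
(Tr.nd (nat_lit 173) (Tr.nd (nat_lit 172) (Tr.lf (Fc.ed (nat_lit 171) (nat_lit 26) Col.h (nat_lit 26) (Dv.wd (nat_lit 25) [Mv.b (nat_lit 86), Mv.f (nat_lit 170), Mv.f (nat_lit 86)])))
(Tr.lf (Fc.ed (nat_lit 172) (nat_lit 27) Col.h (nat_lit 27) (Dv.wd (nat_lit 44) [Mv.b (nat_lit 87), Mv.f (nat_lit 171), Mv.f (nat_lit 87)]))))
(Tr.nd (nat_lit 174) (Tr.lf (Fc.ed (nat_lit 173) (nat_lit 29) Col.d (nat_lit 29) (Dv.wd (nat_lit 71) [Mv.b (nat_lit 89), Mv.b (nat_lit 88), Mv.f (nat_lit 172), Mv.f (nat_lit 88), Mv.f (nat_lit 89)])))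
(Tr.nd (nat_lit 175) (Tr.lf (Fc.ed (nat_lit 174) (nat_lit 30) Col.d (nat_lit 30) (Dv.wd (nat_lit 51) [Mv.b (nat_lit 90), Mv.f (nat_lit 173), Mv.f (nat_lit 90)])))
(Tr.lf (Fc.ed (nat_lit 175) (nat_lit 32) Col.c (nat_lit 32) (Dv.wd (nat_lit 55) [Mv.b (nat_lit 92), Mv.b (nat_lit 91), Mv.f (nat_lit 174), Mv.f (nat_lit 91), Mv.f (nat_lit 92)])))))))
(Tr.nd (nat_lit 181) (Tr.nd (nat_lit 178) (Tr.nd (nat_lit 177) (Tr.lf (Fc.ed (nat_lit 176) (nat_lit 33) Col.c (nat_lit 33) (Dv.wd (nat_lit 56) [Mv.b (nat_lit 93), Mv.f (nat_lit 175), Mv.f (nat_lit 93)])))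
(Tr.lf (Fc.ed (nat_lit 177) (nat_lit 24) Col.a (nat_lit 55) Dv.df)))
(Tr.nd (nat_lit 179) (Tr.lf (Fc.ed (nat_lit 178) (nat_lit 25) Col.a (nat_lit 56) Dv.df))
(Tr.nd (nat_lit 180) (Tr.lf (Fc.ed (nat_lit 179) (nat_lit 56) Col.d (nat_lit 55) (Dv.wd (nat_lit 72) [Mv.b (nat_lit 177), Mv.f (nat_lit 85), Mv.f (nat_lit 178)])))
(Tr.lf (Fc.ed (nat_lit 180) (nat_lit 23) Col.a (nat_lit 57) Dv.df)))))
(Tr.nd (nat_lit 183) (Tr.nd (nat_lit 182) (Tr.lf (Fc.ed (nat_lit 181) (nat_lit 57) Col.f (nat_lit 55) (Dv.wd (nat_lit 73) [Mv.b (nat_lit 177), Mv.b (nat_lit 84), Mv.f (nat_lit 180)])))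
(Tr.lf (Fc.ed (nat_lit 182) (nat_lit 8) Col.b (nat_lit 58) Dv.df)))
(Tr.nd (nat_lit 184) (Tr.lf (Fc.ed (nat_lit 183) (nat_lit 58) Col.e (nat_lit 44) (Dv.wd (nat_lit 49) [Mv.f (nat_lit 129), Mv.b (nat_lit 48), Mv.f (nat_lit 182)])))
(Tr.nd (nat_lit 185) (Tr.lf (Fc.ed (nat_lit 184) (nat_lit 58) Col.f (nat_lit 58) (Dv.wd (nat_lit 66) [Mv.b (nat_lit 182), Mv.f (nat_lit 46), Mv.f (nat_lit 182)])))
(Tr.lf (Fc.ed (nat_lit 185) (nat_lit 58) Col.h (nat_lit 58) (Dv.wd (nat_lit 45) [Mv.b (nat_lit 182), Mv.f (nat_lit 47), Mv.f (nat_lit 182)])))))))))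
(Tr.nd (nat_lit 204) (Tr.nd (nat_lit 195) (Tr.nd (nat_lit 190) (Tr.nd (nat_lit 188) (Tr.nd (nat_lit 187) (Tr.lf (Fc.ed (nat_lit 186) (nat_lit 57) Col.h (nat_lit 59) Dv.df))
(Tr.lf (Fc.ed (nat_lit 187) (nat_lit 59) Col.a (nat_lit 54) (Dv.wd (nat_lit 74) [Mv.b (nat_lit 166), Mv.f (nat_lit 180), Mv.f (nat_lit 186)]))))
(Tr.nd (nat_lit 189) (Tr.lf (Fc.ed (nat_lit 188) (nat_lit 37) Col.d (nat_lit 60) Dv.df))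
(Tr.lf (Fc.ed (nat_lit 189) (nat_lit 60) Col.b (nat_lit 13) (Dv.wd (nat_lit 28) [Mv.b (nat_lit 61), Mv.f (nat_lit 98), Mv.f (nat_lit 188)])))))
(Tr.nd (nat_lit 192) (Tr.nd (nat_lit 191) (Tr.lf (Fc.ed (nat_lit 190) (nat_lit 6) Col.b (nat_lit 61) Dv.df))
(Tr.lf (Fc.ed (nat_lit 191) (nat_lit 61) Col.i (nat_lit 61) (Dv.wd (nat_lit 46) [Mv.b (nat_lit 190), Mv.f (nat_lit 40), Mv.f (nat_lit 190)]))))
(Tr.nd (nat_lit 193) (Tr.lf (Fc.ed (nat_lit 192) (nat_lit 54) Col.i (nat_lit 62) Dv.df))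
(Tr.nd (nat_lit 194) (Tr.lf (Fc.ed (nat_lit 193) (nat_lit 62) Col.e (nat_lit 51) (Dv.wd (nat_lit 42) [Mv.b (nat_lit 159), Mv.b (nat_lit 167), Mv.f (nat_lit 192)])))
(Tr.lf (Fc.ed (nat_lit 194) (nat_lit 24) Col.h (nat_lit 63) Dv.df))))))
(Tr.nd (nat_lit 199) (Tr.nd (nat_lit 197) (Tr.nd (nat_lit 196) (Tr.lf (Fc.ed (nat_lit 195) (nat_lit 63) Col.f (nat_lit 54) (Dv.wd (nat_lit 37) [Mv.b (nat_lit 166), Mv.f (nat_lit 84), Mv.f (nat_lit 194)])))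
(Tr.lf (Fc.ed (nat_lit 196) (nat_lit 63) Col.d (nat_lit 63) (Dv.wd (nat_lit 48) [Mv.b (nat_lit 194), Mv.f (nat_lit 85), Mv.f (nat_lit 170), Mv.b (nat_lit 85), Mv.f (nat_lit 194)]))))
(Tr.nd (nat_lit 198) (Tr.lf (Fc.ed (nat_lit 197) (nat_lit 35) Col.i (nat_lit 64) Dv.df))
(Tr.lf (Fc.ed (nat_lit 198) (nat_lit 34) Col.i (nat_lit 65) Dv.df))))
(Tr.nd (nat_lit 201) (Tr.nd (nat_lit 200) (Tr.lf (Fc.ed (nat_lit 199) (nat_lit 65) Col.e (nat_lit 65) (Dv.wd (nat_lit 42) [Mv.b (nat_lit 198), Mv.f (nat_lit 142), Mv.f (nat_lit 198)])))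
(Tr.lf (Fc.ed (nat_lit 200) (nat_lit 65) Col.g (nat_lit 64) (Dv.wd (nat_lit 75) [Mv.b (nat_lit 197), Mv.b (nat_lit 95), Mv.f (nat_lit 198)]))))
(Tr.nd (nat_lit 202) (Tr.lf (Fc.ed (nat_lit 201) (nat_lit 52) Col.h (nat_lit 66) Dv.df))
(Tr.nd (nat_lit 203) (Tr.lf (Fc.ed (nat_lit 202) (nat_lit 66) Col.f (nat_lit 37) (Dv.wd (nat_lit 37) [Mv.b (nat_lit 106), Mv.b (nat_lit 162), Mv.f (nat_lit 201)])))
(Tr.lf (Fc.ed (nat_lit 203) (nat_lit 20) Col.f (nat_lit 67) Dv.df)))))))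
(Tr.nd (nat_lit 213) (Tr.nd (nat_lit 208) (Tr.nd (nat_lit 206) (Tr.nd (nat_lit 205) (Tr.lf (Fc.ed (nat_lit 204) (nat_lit 33) Col.i (nat_lit 68) Dv.df))
(Tr.lf (Fc.ed (nat_lit 205) (nat_lit 68) Col.c (nat_lit 68) (Dv.wd (nat_lit 68) [Mv.b (nat_lit 204), Mv.f (nat_lit 176), Mv.f (nat_lit 204)]))))
(Tr.nd (nat_lit 207) (Tr.lf (Fc.ed (nat_lit 206) (nat_lit 68) Col.f (nat_lit 65) (Dv.wd (nat_lit 52) [Mv.b (nat_lit 198), Mv.b (nat_lit 94), Mv.f (nat_lit 204)])))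
(Tr.lf (Fc.ed (nat_lit 207) (nat_lit 67) Col.d (nat_lit 69) Dv.df))))
(Tr.nd (nat_lit 210) (Tr.nd (nat_lit 209) (Tr.lf (Fc.ed (nat_lit 208) (nat_lit 69) Col.f (nat_lit 21) (Dv.wd (nat_lit 29) [Mv.b (nat_lit 80), Mv.f (nat_lit 203), Mv.f (nat_lit 207)])))
(Tr.lf (Fc.ed (nat_lit 209) (nat_lit 58) Col.d (nat_lit 70) Dv.df)))
(Tr.nd (nat_lit 211) (Tr.lf (Fc.ed (nat_lit 210) (nat_lit 70) Col.b (nat_lit 7) (Dv.wd (nat_lit 28) [Mv.f (nat_lit 45), Mv.f (nat_lit 182), Mv.f (nat_lit 209)])))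
(Tr.nd (nat_lit 212) (Tr.lf (Fc.ed (nat_lit 211) (nat_lit 70) Col.f (nat_lit 70) (Dv.wd (nat_lit 29) [Mv.b (nat_lit 209), Mv.f (nat_lit 184), Mv.f (nat_lit 209)])))
(Tr.lf (Fc.ed (nat_lit 212) (nat_lit 70) Col.e (nat_lit 70) (Dv.wd (nat_lit 31) [Mv.b (nat_lit 209), Mv.f (nat_lit 183), Mv.f (nat_lit 130), Mv.b (nat_lit 183), Mv.f (nat_lit 209)])))))))
(Tr.nd (nat_lit 218) (Tr.nd (nat_lit 215) (Tr.nd (nat_lit 214) (Tr.lf (Fc.ed (nat_lit 213) (nat_lit 61) Col.h (nat_lit 70) (Dv.wd (nat_lit 76) [Mv.f (nat_lit 210), Mv.b (nat_lit 42), Mv.f (nat_lit 190)])))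
(Tr.lf (Fc.ed (nat_lit 214) (nat_lit 70) Col.c (nat_lit 70) (Dv.wd (nat_lit 77) [Mv.f (nat_lit 210), Mv.f (nat_lit 113), Mv.f (nat_lit 115), Mv.b (nat_lit 113), Mv.b (nat_lit 210)]))))
(Tr.nd (nat_lit 216) (Tr.lf (Fc.ed (nat_lit 215) (nat_lit 22) Col.b (nat_lit 71) Dv.df))
(Tr.nd (nat_lit 217) (Tr.lf (Fc.ed (nat_lit 216) (nat_lit 71) Col.e (nat_lit 46) (Dv.wd (nat_lit 49) [Mv.b (nat_lit 143), Mv.b (nat_lit 83), Mv.f (nat_lit 215)])))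
(Tr.lf (Fc.ed (nat_lit 217) (nat_lit 21) Col.b (nat_lit 72) Dv.df)))))
(Tr.nd (nat_lit 220) (Tr.nd (nat_lit 219) (Tr.lf (Fc.ed (nat_lit 218) (nat_lit 72) Col.h (nat_lit 71) (Dv.wd (nat_lit 45) [Mv.b (nat_lit 215), Mv.b (nat_lit 81), Mv.f (nat_lit 217)])))
(Tr.lf (Fc.ed (nat_lit 219) (nat_lit 68) Col.e (nat_lit 73) Dv.df)))
(Tr.nd (nat_lit 221) (Tr.lf (Fc.ed (nat_lit 220) (nat_lit 73) Col.c (nat_lit 73) (Dv.wd (nat_lit 24) [Mv.b (nat_lit 219), Mv.f (nat_lit 205), Mv.f (nat_lit 219)])))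
(Tr.nd (nat_lit 222) (Tr.lf (Fc.ed (nat_lit 221) (nat_lit 73) Col.i (nat_lit 32) (Dv.wd (nat_lit 26) [Mv.f (nat_lit 93), Mv.f (nat_lit 204), Mv.f (nat_lit 219)])))
(Tr.lf (Fc.ed (nat_lit 222) (nat_lit 73) Col.f (nat_lit 73) (Dv.wd (nat_lit 27) [Mv.b (nat_lit 219), Mv.f (nat_lit 206), Mv.f (nat_lit 199), Mv.b (nat_lit 206), Mv.f (nat_lit 219)]))))))))))
(Tr.nd (nat_lit 260) (Tr.nd (nat_lit 241) (Tr.nd (nat_lit 232) (Tr.nd (nat_lit 227) (Tr.nd (nat_lit 225) (Tr.nd (nat_lit 224) (Tr.lf (Fc.ed (nat_lit 223) (nat_lit 36) Col.c (nat_lit 74) Dv.df))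
(Tr.lf (Fc.ed (nat_lit 224) (nat_lit 74) Col.e (nat_lit 13) (Dv.wd (nat_lit 32) [Mv.f (nat_lit 64), Mv.b (nat_lit 97), Mv.f (nat_lit 223)]))))
(Tr.nd (nat_lit 226) (Tr.lf (Fc.ed (nat_lit 225) (nat_lit 74) Col.d (nat_lit 74) (Dv.wd (nat_lit 69) [Mv.f (nat_lit 224), Mv.b (nat_lit 61), Mv.f (nat_lit 59), Mv.f (nat_lit 61), Mv.b (nat_lit 224)])))
(Tr.lf (Fc.ed (nat_lit 226) (nat_lit 50) Col.c (nat_lit 50) (Dv.wd (nat_lit 55) [Mv.b (nat_lit 157), Mv.f (nat_lit 223), Mv.f (nat_lit 225), Mv.b (nat_lit 223), Mv.f (nat_lit 157)])))))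
(Tr.nd (nat_lit 229) (Tr.nd (nat_lit 228) (Tr.lf (Fc.ed (nat_lit 227) (nat_lit 18) Col.b (nat_lit 18) (Dv.wd (nat_lit 78) [Mv.b (nat_lit 75), Mv.b (nat_lit 158), Mv.f (nat_lit 226), Mv.f (nat_lit 158), Mv.f (nat_lit 75)])))
(Tr.lf (Fc.ed (nat_lit 228) (nat_lit 19) Col.b (nat_lit 19) (Dv.wd (nat_lit 53) [Mv.b (nat_lit 77), Mv.f (nat_lit 227), Mv.f (nat_lit 77)]))))
(Tr.nd (nat_lit 230) (Tr.lf (Fc.ed (nat_lit 229) (nat_lit 20) Col.b (nat_lit 20) (Dv.wd (nat_lit 79) [Mv.b (nat_lit 78), Mv.f (nat_lit 228), Mv.f (nat_lit 78)])))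
(Tr.nd (nat_lit 231) (Tr.lf (Fc.al (nat_lit 230) (nat_lit 72) (nat_lit 21) (Dv.wd (nat_lit 80) [Mv.b (nat_lit 80), Mv.f (nat_lit 229), Mv.f (nat_lit 80), Mv.f (nat_lit 217)])))
(Tr.lf (Fc.al (nat_lit 231) (nat_lit 22) (nat_lit 71) (Dv.wd (nat_lit 81) [Mv.b (nat_lit 218), Mv.f (nat_lit 230), Mv.f (nat_lit 81)])))))))
(Tr.nd (nat_lit 236) (Tr.nd (nat_lit 234) (Tr.nd (nat_lit 233) (Tr.lf (Fc.al (nat_lit 232) (nat_lit 23) (nat_lit 46) (Dv.wd (nat_lit 82) [Mv.b (nat_lit 216), Mv.b (nat_lit 231), Mv.f (nat_lit 83)])))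
(Tr.lf (Fc.ed (nat_lit 233) (nat_lit 23) Col.b (nat_lit 23) (Dv.wd (nat_lit 83) [Mv.f (nat_lit 143), Mv.b (nat_lit 232)]))))
(Tr.nd (nat_lit 235) (Tr.lf (Fc.ed (nat_lit 234) (nat_lit 24) Col.b (nat_lit 24) (Dv.wd (nat_lit 84) [Mv.b (nat_lit 84), Mv.f (nat_lit 233), Mv.f (nat_lit 84)])))
(Tr.lf (Fc.ed (nat_lit 235) (nat_lit 25) Col.b (nat_lit 25) (Dv.wd (nat_lit 85) [Mv.b (nat_lit 85), Mv.f (nat_lit 234), Mv.f (nat_lit 85)])))))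
(Tr.nd (nat_lit 238) (Tr.nd (nat_lit 237) (Tr.lf (Fc.ed (nat_lit 236) (nat_lit 26) Col.b (nat_lit 26) (Dv.wd (nat_lit 86) [Mv.b (nat_lit 86), Mv.f (nat_lit 235), Mv.f (nat_lit 86)])))
(Tr.lf (Fc.ed (nat_lit 237) (nat_lit 56) Col.e (nat_lit 75) Dv.df)))
(Tr.nd (nat_lit 239) (Tr.lf (Fc.ed (nat_lit 238) (nat_lit 75) Col.a (nat_lit 26) (Dv.wd (nat_lit 87) [Mv.b (nat_lit 86), Mv.f (nat_lit 178), Mv.f (nat_lit 237)])))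
(Tr.nd (nat_lit 240) (Tr.lf (Fc.ed (nat_lit 239) (nat_lit 52) Col.e (nat_lit 76) Dv.df))
(Tr.lf (Fc.ed (nat_lit 240) (nat_lit 76) Col.b (nat_lit 47) (Dv.wd (nat_lit 23) [Mv.f (nat_lit 146), Mv.f (nat_lit 161), Mv.f (nat_lit 239)]))))))))
(Tr.nd (nat_lit 250) (Tr.nd (nat_lit 245) (Tr.nd (nat_lit 243) (Tr.nd (nat_lit 242) (Tr.lf (Fc.ed (nat_lit 241) (nat_lit 76) Col.i (nat_lit 58) (Dv.wd (nat_lit 26) [Mv.f (nat_lit 183), Mv.b (nat_lit 163), Mv.f (nat_lit 239)])))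
(Tr.lf (Fc.ed (nat_lit 242) (nat_lit 73) Col.d (nat_lit 77) Dv.df)))
(Tr.nd (nat_lit 244) (Tr.lf (Fc.ed (nat_lit 243) (nat_lit 77) Col.f (nat_lit 77) (Dv.wd (nat_lit 29) [Mv.b (nat_lit 242), Mv.f (nat_lit 222), Mv.f (nat_lit 242)])))
(Tr.lf (Fc.ed (nat_lit 244) (nat_lit 77) Col.i (nat_lit 31) (Dv.wd (nat_lit 30) [Mv.f (nat_lit 92), Mv.b (nat_lit 221), Mv.f (nat_lit 242)])))))
(Tr.nd (nat_lit 247) (Tr.nd (nat_lit 246) (Tr.lf (Fc.ed (nat_lit 245) (nat_lit 25) Col.i (nat_lit 78) Dv.df))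
(Tr.lf (Fc.ed (nat_lit 246) (nat_lit 45) Col.i (nat_lit 79) Dv.df)))
(Tr.nd (nat_lit 248) (Tr.lf (Fc.ed (nat_lit 247) (nat_lit 25) Col.c (nat_lit 80) Dv.df))
(Tr.nd (nat_lit 249) (Tr.lf (Fc.ed (nat_lit 248) (nat_lit 80) Col.e (nat_lit 27) (Dv.wd (nat_lit 32) [Mv.b (nat_lit 87), Mv.b (nat_lit 86), Mv.f (nat_lit 247)])))
(Tr.lf (Fc.ed (nat_lit 249) (nat_lit 80) Col.d (nat_lit 80) (Dv.wd (nat_lit 35) [Mv.b (nat_lit 247), Mv.b (nat_lit 85), Mv.f (nat_lit 156), Mv.f (nat_lit 85), Mv.f (nat_lit 247)])))))))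
(Tr.nd (nat_lit 255) (Tr.nd (nat_lit 252) (Tr.nd (nat_lit 251) (Tr.lf (Fc.ed (nat_lit 250) (nat_lit 28) Col.e (nat_lit 28) (Dv.wd (nat_lit 61) [Mv.b (nat_lit 88), Mv.b (nat_lit 248), Mv.f (nat_lit 249), Mv.f (nat_lit 248), Mv.f (nat_lit 88)])))
(Tr.lf (Fc.ed (nat_lit 251) (nat_lit 29) Col.e (nat_lit 29) (Dv.wd (nat_lit 62) [Mv.b (nat_lit 89), Mv.f (nat_lit 250), Mv.f (nat_lit 89)]))))
(Tr.nd (nat_lit 253) (Tr.lf (Fc.ed (nat_lit 252) (nat_lit 30) Col.e (nat_lit 30) (Dv.wd (nat_lit 49) [Mv.b (nat_lit 90), Mv.f (nat_lit 251), Mv.f (nat_lit 90)])))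
(Tr.nd (nat_lit 254) (Tr.lf (Fc.ed (nat_lit 253) (nat_lit 31) Col.e (nat_lit 31) (Dv.wd (nat_lit 32) [Mv.b (nat_lit 91), Mv.f (nat_lit 252), Mv.f (nat_lit 91)])))
(Tr.lf (Fc.ed (nat_lit 254) (nat_lit 44) Col.c (nat_lit 81) Dv.df)))))
(Tr.nd (nat_lit 257) (Tr.nd (nat_lit 256) (Tr.lf (Fc.ed (nat_lit 255) (nat_lit 81) Col.h (nat_lit 81) (Dv.wd (nat_lit 44) [Mv.b (nat_lit 254), Mv.f (nat_lit 131), Mv.f (nat_lit 254)])))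
(Tr.lf (Fc.ed (nat_lit 256) (nat_lit 45) Col.c (nat_lit 82) Dv.df)))
(Tr.nd (nat_lit 258) (Tr.lf (Fc.ed (nat_lit 257) (nat_lit 82) Col.f (nat_lit 80) (Dv.wd (nat_lit 33) [Mv.b (nat_lit 247), Mv.b (nat_lit 133), Mv.f (nat_lit 256)])))
(Tr.nd (nat_lit 259) (Tr.lf (Fc.ed (nat_lit 258) (nat_lit 66) Col.d (nat_lit 83) Dv.df))
(Tr.lf (Fc.ed (nat_lit 259) (nat_lit 83) Col.f (nat_lit 60) (Dv.wd (nat_lit 29) [Mv.b (nat_lit 188), Mv.b (nat_lit 202), Mv.f (nat_lit 258)])))))))))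
(Tr.nd (nat_lit 279) (Tr.nd (nat_lit 269) (Tr.nd (nat_lit 264) (Tr.nd (nat_lit 262) (Tr.nd (nat_lit 261) (Tr.lf (Fc.ed (nat_lit 260) (nat_lit 55) Col.h (nat_lit 84) Dv.df))
(Tr.lf (Fc.ed (nat_lit 261) (nat_lit 84) Col.a (nat_lit 63) (Dv.wd (nat_lit 74) [Mv.b (nat_lit 194), Mv.f (nat_lit 177), Mv.f (nat_lit 260)]))))
(Tr.nd (nat_lit 263) (Tr.lf (Fc.ed (nat_lit 262) (nat_lit 84) Col.f (nat_lit 59) (Dv.wd (nat_lit 37) [Mv.b (nat_lit 186), Mv.f (nat_lit 181), Mv.f (nat_lit 260)])))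
(Tr.lf (Fc.ed (nat_lit 263) (nat_lit 19) Col.g (nat_lit 85) Dv.df))))
(Tr.nd (nat_lit 266) (Tr.nd (nat_lit 265) (Tr.lf (Fc.ed (nat_lit 264) (nat_lit 23) Col.i (nat_lit 86) Dv.df))
(Tr.lf (Fc.ed (nat_lit 265) (nat_lit 86) Col.d (nat_lit 79) (Dv.wd (nat_lit 41) [Mv.b (nat_lit 246), Mv.b (nat_lit 132), Mv.f (nat_lit 264)]))))
(Tr.nd (nat_lit 267) (Tr.lf (Fc.ed (nat_lit 266) (nat_lit 52) Col.c (nat_lit 87) Dv.df))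
(Tr.nd (nat_lit 268) (Tr.lf (Fc.ed (nat_lit 267) (nat_lit 87) Col.i (nat_lit 81) (Dv.wd (nat_lit 34) [Mv.b (nat_lit 254), Mv.b (nat_lit 163), Mv.f (nat_lit 266)])))
(Tr.lf (Fc.ed (nat_lit 268) (nat_lit 87) Col.b (nat_lit 87) (Dv.wd (nat_lit 88) [Mv.b (nat_lit 266), Mv.b (nat_lit 161), Mv.f (nat_lit 119), Mv.f (nat_lit 161), Mv.f (nat_lit 266)])))))))
(Tr.nd (nat_lit 274) (Tr.nd (nat_lit 271) (Tr.nd (nat_lit 270) (Tr.lf (Fc.ed (nat_lit 269) (nat_lit 22) Col.i (nat_lit 88) Dv.df))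
(Tr.lf (Fc.ed (nat_lit 270) (nat_lit 88) Col.e (nat_lit 86) (Dv.wd (nat_lit 42) [Mv.b (nat_lit 264), Mv.b (nat_lit 83), Mv.f (nat_lit 269)]))))
(Tr.nd (nat_lit 272) (Tr.lf (Fc.ed (nat_lit 271) (nat_lit 44) Col.a (nat_lit 89) Dv.df))
(Tr.nd (nat_lit 273) (Tr.lf (Fc.ed (nat_lit 272) (nat_lit 89) Col.d (nat_lit 89) (Dv.wd (nat_lit 72) [Mv.b (nat_lit 271), Mv.f (nat_lit 130), Mv.f (nat_lit 271)])))
(Tr.lf (Fc.ed (nat_lit 273) (nat_lit 85) Col.d (nat_lit 90) Dv.df)))))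
(Tr.nd (nat_lit 276) (Tr.nd (nat_lit 275) (Tr.lf (Fc.ed (nat_lit 274) (nat_lit 90) Col.g (nat_lit 51) (Dv.wd (nat_lit 89) [Mv.f (nat_lit 160), Mv.f (nat_lit 263), Mv.f (nat_lit 273)])))
(Tr.lf (Fc.ed (nat_lit 275) (nat_lit 30) Col.h (nat_lit 91) Dv.df)))
(Tr.nd (nat_lit 277) (Tr.lf (Fc.ed (nat_lit 276) (nat_lit 91) Col.b (nat_lit 28) (Dv.wd (nat_lit 90) [Mv.f (nat_lit 89), Mv.f (nat_lit 90), Mv.f (nat_lit 275)])))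
(Tr.nd (nat_lit 278) (Tr.lf (Fc.ed (nat_lit 277) (nat_lit 91) Col.e (nat_lit 91) (Dv.wd (nat_lit 36) [Mv.b (nat_lit 275), Mv.f (nat_lit 252), Mv.f (nat_lit 275)])))
(Tr.lf (Fc.ed (nat_lit 278) (nat_lit 21) Col.a (nat_lit 92) Dv.df)))))))
(Tr.nd (nat_lit 288) (Tr.nd (nat_lit 283) (Tr.nd (nat_lit 281) (Tr.nd (nat_lit 280) (Tr.lf (Fc.ed (nat_lit 279) (nat_lit 81) Col.a (nat_lit 93) Dv.df))
(Tr.lf (Fc.ed (nat_lit 280) (nat_lit 93) Col.c (nat_lit 89) (Dv.wd (nat_lit 91) [Mv.b (nat_lit 271), Mv.f (nat_lit 254), Mv.f (nat_lit 279)]))))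
(Tr.nd (nat_lit 282) (Tr.lf (Fc.ed (nat_lit 281) (nat_lit 93) Col.h (nat_lit 93) (Dv.wd (nat_lit 92) [Mv.b (nat_lit 279), Mv.f (nat_lit 255), Mv.f (nat_lit 279)])))
(Tr.lf (Fc.ed (nat_lit 282) (nat_lit 89) Col.i (nat_lit 94) Dv.df))))
(Tr.nd (nat_lit 285) (Tr.nd (nat_lit 284) (Tr.lf (Fc.ed (nat_lit 283) (nat_lit 94) Col.a (nat_lit 52) (Dv.wd (nat_lit 93) [Mv.f (nat_lit 163), Mv.f (nat_lit 271), Mv.f (nat_lit 282)])))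
(Tr.lf (Fc.ed (nat_lit 284) (nat_lit 53) Col.c (nat_lit 95) Dv.df)))
(Tr.nd (nat_lit 286) (Tr.lf (Fc.ed (nat_lit 285) (nat_lit 95) Col.b (nat_lit 95) (Dv.wd (nat_lit 88) [Mv.b (nat_lit 284), Mv.f (nat_lit 165), Mv.f (nat_lit 149), Mv.b (nat_lit 165), Mv.f (nat_lit 284)])))
(Tr.nd (nat_lit 287) (Tr.lf (Fc.ed (nat_lit 286) (nat_lit 22) Col.a (nat_lit 96) Dv.df))
(Tr.lf (Fc.ed (nat_lit 287) (nat_lit 96) Col.e (nat_lit 57) (Dv.wd (nat_lit 94) [Mv.b (nat_lit 180), Mv.b (nat_lit 83), Mv.f (nat_lit 286)])))))))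
(Tr.nd (nat_lit 293) (Tr.nd (nat_lit 290) (Tr.nd (nat_lit 289) (Tr.lf (Fc.ed (nat_lit 288) (nat_lit 96) Col.h (nat_lit 92) (Dv.wd (nat_lit 92) [Mv.b (nat_lit 278), Mv.f (nat_lit 81), Mv.f (nat_lit 286)])))
(Tr.lf (Fc.ed (nat_lit 289) (nat_lit 62) Col.f (nat_lit 97) Dv.df)))
(Tr.nd (nat_lit 291) (Tr.lf (Fc.ed (nat_lit 290) (nat_lit 97) Col.i (nat_lit 63) (Dv.wd (nat_lit 22) [Mv.f (nat_lit 195), Mv.f (nat_lit 192), Mv.f (nat_lit 289)])))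
(Tr.nd (nat_lit 292) (Tr.lf (Fc.ed (nat_lit 291) (nat_lit 62) Col.a (nat_lit 98) Dv.df))
(Tr.lf (Fc.ed (nat_lit 292) (nat_lit 98) Col.i (nat_lit 59) (Dv.wd (nat_lit 95) [Mv.f (nat_lit 187), Mv.f (nat_lit 192), Mv.f (nat_lit 291)]))))))
(Tr.nd (nat_lit 295) (Tr.nd (nat_lit 294) (Tr.lf (Fc.ed (nat_lit 293) (nat_lit 51) Col.a (nat_lit 99) Dv.df))
(Tr.lf (Fc.ed (nat_lit 294) (nat_lit 99) Col.i (nat_lit 92) (Dv.wd (nat_lit 95) [Mv.b (nat_lit 278), Mv.f (nat_lit 159), Mv.f (nat_lit 293)]))))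
(Tr.nd (nat_lit 296) (Tr.lf (Fc.ed (nat_lit 295) (nat_lit 24) Col.i (nat_lit 100) Dv.df))
(Tr.nd (nat_lit 297) (Tr.lf (Fc.ed (nat_lit 296) (nat_lit 100) Col.d (nat_lit 78) (Dv.wd (nat_lit 41) [Mv.b (nat_lit 245), Mv.b (nat_lit 85), Mv.f (nat_lit 295)])))
(Tr.lf (Fc.ed (nat_lit 297) (nat_lit 84) Col.i (nat_lit 101) Dv.df)))))))))))
(Tr.nd (nat_lit 447) (Tr.nd (nat_lit 372) (Tr.nd (nat_lit 335) (Tr.nd (nat_lit 316) (Tr.nd (nat_lit 307) (Tr.nd (nat_lit 302) (Tr.nd (nat_lit 300) (Tr.nd (nat_lit 299) (Tr.lf (Fc.ed (nat_lit 298) (nat_lit 101) Col.a (nat_lit 97) (Dv.wd (nat_lit 93) [Mv.f (nat_lit 290), Mv.b (nat_lit 261), Mv.f (nat_lit 297)])))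
(Tr.lf (Fc.ed (nat_lit 299) (nat_lit 101) Col.f (nat_lit 98) (Dv.wd (nat_lit 52) [Mv.f (nat_lit 292), Mv.b (nat_lit 262), Mv.f (nat_lit 297)]))))
(Tr.nd (nat_lit 301) (Tr.lf (Fc.ed (nat_lit 300) (nat_lit 86) Col.a (nat_lit 102) Dv.df))
(Tr.lf (Fc.ed (nat_lit 301) (nat_lit 102) Col.i (nat_lit 57) (Dv.wd (nat_lit 95) [Mv.b (nat_lit 180), Mv.f (nat_lit 264), Mv.f (nat_lit 300)])))))
(Tr.nd (nat_lit 304) (Tr.nd (nat_lit 303) (Tr.lf (Fc.ed (nat_lit 302) (nat_lit 23) Col.g (nat_lit 103) Dv.df))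
(Tr.lf (Fc.ed (nat_lit 303) (nat_lit 76) Col.d (nat_lit 104) Dv.df)))
(Tr.nd (nat_lit 305) (Tr.lf (Fc.ed (nat_lit 304) (nat_lit 104) Col.b (nat_lit 39) (Dv.wd (nat_lit 28) [Mv.b (nat_lit 145), Mv.b (nat_lit 240), Mv.f (nat_lit 303)])))
(Tr.nd (nat_lit 306) (Tr.lf (Fc.ed (nat_lit 305) (nat_lit 104) Col.i (nat_lit 70) (Dv.wd (nat_lit 30) [Mv.b (nat_lit 209), Mv.b (nat_lit 241), Mv.f (nat_lit 303)])))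
(Tr.lf (Fc.ed (nat_lit 306) (nat_lit 104) Col.c (nat_lit 104) (Dv.wd (nat_lit 57) [Mv.f (nat_lit 305), Mv.f (nat_lit 214), Mv.b (nat_lit 305)])))))))
(Tr.nd (nat_lit 311) (Tr.nd (nat_lit 309) (Tr.nd (nat_lit 308) (Tr.lf (Fc.ed (nat_lit 307) (nat_lit 104) Col.h (nat_lit 104) (Dv.wd (nat_lit 96) [Mv.f (nat_lit 305), Mv.b (nat_lit 213), Mv.f (nat_lit 191), Mv.f (nat_lit 213), Mv.b (nat_lit 305)])))
(Tr.lf (Fc.ed (nat_lit 308) (nat_lit 78) Col.e (nat_lit 105) Dv.df)))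
(Tr.nd (nat_lit 310) (Tr.lf (Fc.ed (nat_lit 309) (nat_lit 105) Col.i (nat_lit 26) (Dv.wd (nat_lit 26) [Mv.b (nat_lit 86), Mv.f (nat_lit 245), Mv.f (nat_lit 308)])))
(Tr.lf (Fc.ed (nat_lit 310) (nat_lit 19) Col.f (nat_lit 106) Dv.df))))
(Tr.nd (nat_lit 313) (Tr.nd (nat_lit 312) (Tr.lf (Fc.ed (nat_lit 311) (nat_lit 51) Col.f (nat_lit 107) Dv.df))
(Tr.lf (Fc.ed (nat_lit 312) (nat_lit 107) Col.d (nat_lit 106) (Dv.wd (nat_lit 20) [Mv.b (nat_lit 310), Mv.b (nat_lit 160), Mv.f (nat_lit 311)]))))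
(Tr.nd (nat_lit 314) (Tr.lf (Fc.ed (nat_lit 313) (nat_lit 107) Col.i (nat_lit 69) (Dv.wd (nat_lit 22) [Mv.f (nat_lit 208), Mv.f (nat_lit 159), Mv.f (nat_lit 311)])))
(Tr.nd (nat_lit 315) (Tr.lf (Fc.ed (nat_lit 314) (nat_lit 74) Col.b (nat_lit 108) Dv.df))
(Tr.lf (Fc.ed (nat_lit 315) (nat_lit 108) Col.e (nat_lit 60) (Dv.wd (nat_lit 49) [Mv.f (nat_lit 189), Mv.b (nat_lit 224), Mv.f (nat_lit 314)]))))))))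
(Tr.nd (nat_lit 325) (Tr.nd (nat_lit 320) (Tr.nd (nat_lit 318) (Tr.nd (nat_lit 317) (Tr.lf (Fc.ed (nat_lit 316) (nat_lit 94) Col.c (nat_lit 109) Dv.df))
(Tr.lf (Fc.ed (nat_lit 317) (nat_lit 109) Col.a (nat_lit 87) (Dv.wd (nat_lit 97) [Mv.b (nat_lit 266), Mv.b (nat_lit 283), Mv.f (nat_lit 316)]))))
(Tr.nd (nat_lit 319) (Tr.lf (Fc.ed (nat_lit 318) (nat_lit 109) Col.i (nat_lit 93) (Dv.wd (nat_lit 34) [Mv.f (nat_lit 280), Mv.f (nat_lit 282), Mv.f (nat_lit 316)])))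
(Tr.lf (Fc.ed (nat_lit 319) (nat_lit 69) Col.a (nat_lit 110) Dv.df))))
(Tr.nd (nat_lit 322) (Tr.nd (nat_lit 321) (Tr.lf (Fc.ed (nat_lit 320) (nat_lit 110) Col.f (nat_lit 92) (Dv.wd (nat_lit 73) [Mv.b (nat_lit 278), Mv.b (nat_lit 208), Mv.f (nat_lit 319)])))
(Tr.lf (Fc.ed (nat_lit 321) (nat_lit 96) Col.f (nat_lit 111) Dv.df)))
(Tr.nd (nat_lit 323) (Tr.lf (Fc.ed (nat_lit 322) (nat_lit 111) Col.h (nat_lit 110) (Dv.wd (nat_lit 21) [Mv.f (nat_lit 320), Mv.b (nat_lit 288), Mv.f (nat_lit 321)])))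
(Tr.nd (nat_lit 324) (Tr.lf (Fc.ed (nat_lit 323) (nat_lit 38) Col.f (nat_lit 112) Dv.df))
(Tr.lf (Fc.ed (nat_lit 324) (nat_lit 112) Col.c (nat_lit 106) (Dv.wd (nat_lit 19) [Mv.b (nat_lit 310), Mv.b (nat_lit 100), Mv.f (nat_lit 323)])))))))
(Tr.nd (nat_lit 330) (Tr.nd (nat_lit 327) (Tr.nd (nat_lit 326) (Tr.lf (Fc.ed (nat_lit 325) (nat_lit 107) Col.a (nat_lit 113) Dv.df))
(Tr.lf (Fc.ed (nat_lit 326) (nat_lit 113) Col.i (nat_lit 110) (Dv.wd (nat_lit 95) [Mv.b (nat_lit 319), Mv.b (nat_lit 313), Mv.f (nat_lit 325)]))))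
(Tr.nd (nat_lit 328) (Tr.lf (Fc.ed (nat_lit 327) (nat_lit 87) Col.f (nat_lit 114) Dv.df))
(Tr.nd (nat_lit 329) (Tr.lf (Fc.ed (nat_lit 328) (nat_lit 114) Col.b (nat_lit 114) (Dv.wd (nat_lit 18) [Mv.b (nat_lit 327), Mv.f (nat_lit 268), Mv.f (nat_lit 327)])))
(Tr.lf (Fc.ed (nat_lit 329) (nat_lit 114) Col.c (nat_lit 40) (Dv.wd (nat_lit 19) [Mv.b (nat_lit 162), Mv.f (nat_lit 266), Mv.f (nat_lit 327)]))))))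
(Tr.nd (nat_lit 332) (Tr.nd (nat_lit 331) (Tr.lf (Fc.ed (nat_lit 330) (nat_lit 114) Col.e (nat_lit 114) (Dv.wd (nat_lit 98) [Mv.f (nat_lit 329), Mv.f (nat_lit 105), Mv.b (nat_lit 329)])))
(Tr.lf (Fc.ed (nat_lit 331) (nat_lit 82) Col.i (nat_lit 115) Dv.df)))
(Tr.nd (nat_lit 333) (Tr.lf (Fc.ed (nat_lit 332) (nat_lit 115) Col.c (nat_lit 79) (Dv.wd (nat_lit 68) [Mv.b (nat_lit 246), Mv.f (nat_lit 256), Mv.f (nat_lit 331)])))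
(Tr.nd (nat_lit 334) (Tr.lf (Fc.ed (nat_lit 333) (nat_lit 112) Col.h (nat_lit 116) Dv.df))
(Tr.lf (Fc.ed (nat_lit 334) (nat_lit 116) Col.f (nat_lit 17) (Dv.wd (nat_lit 37) [Mv.f (nat_lit 99), Mv.f (nat_lit 323), Mv.f (nat_lit 333)])))))))))
(Tr.nd (nat_lit 353) (Tr.nd (nat_lit 344) (Tr.nd (nat_lit 339) (Tr.nd (nat_lit 337) (Tr.nd (nat_lit 336) (Tr.lf (Fc.ed (nat_lit 335) (nat_lit 114) Col.h (nat_lit 117) Dv.df))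
(Tr.lf (Fc.ed (nat_lit 336) (nat_lit 117) Col.c (nat_lit 37) (Dv.wd (nat_lit 50) [Mv.b (nat_lit 106), Mv.b (nat_lit 329), Mv.f (nat_lit 335)]))))
(Tr.nd (nat_lit 338) (Tr.lf (Fc.ed (nat_lit 337) (nat_lit 95) Col.g (nat_lit 117) (Dv.wd (nat_lit 99) [Mv.f (nat_lit 336), Mv.f (nat_lit 164), Mv.f (nat_lit 284)])))
(Tr.lf (Fc.ed (nat_lit 338) (nat_lit 66) Col.e (nat_lit 118) Dv.df))))
(Tr.nd (nat_lit 341) (Tr.nd (nat_lit 340) (Tr.lf (Fc.ed (nat_lit 339) (nat_lit 118) Col.h (nat_lit 76) (Dv.wd (nat_lit 25) [Mv.b (nat_lit 239), Mv.f (nat_lit 201), Mv.f (nat_lit 338)])))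
(Tr.lf (Fc.ed (nat_lit 340) (nat_lit 118) Col.d (nat_lit 118) (Dv.wd (nat_lit 54) [Mv.f (nat_lit 339), Mv.f (nat_lit 303), Mv.f (nat_lit 307), Mv.b (nat_lit 303), Mv.b (nat_lit 339)]))))
(Tr.nd (nat_lit 342) (Tr.lf (Fc.ed (nat_lit 341) (nat_lit 83) Col.e (nat_lit 83) (Dv.wd (nat_lit 61) [Mv.b (nat_lit 258), Mv.f (nat_lit 338), Mv.f (nat_lit 340), Mv.b (nat_lit 338), Mv.f (nat_lit 258)])))
(Tr.nd (nat_lit 343) (Tr.lf (Fc.ed (nat_lit 342) (nat_lit 108) Col.f (nat_lit 108) (Dv.wd (nat_lit 64) [Mv.f (nat_lit 315), Mv.b (nat_lit 259), Mv.f (nat_lit 341), Mv.f (nat_lit 259), Mv.b (nat_lit 315)])))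
(Tr.lf (Fc.ed (nat_lit 343) (nat_lit 74) Col.f (nat_lit 74) (Dv.wd (nat_lit 66) [Mv.f (nat_lit 314), Mv.f (nat_lit 342), Mv.b (nat_lit 314)])))))))
(Tr.nd (nat_lit 348) (Tr.nd (nat_lit 346) (Tr.nd (nat_lit 345) (Tr.lf (Fc.ed (nat_lit 344) (nat_lit 36) Col.f (nat_lit 36) (Dv.wd (nat_lit 33) [Mv.f (nat_lit 223), Mv.f (nat_lit 343), Mv.b (nat_lit 223)])))
(Tr.lf (Fc.ed (nat_lit 345) (nat_lit 16) Col.f (nat_lit 16) (Dv.wd (nat_lit 66) [Mv.f (nat_lit 96), Mv.f (nat_lit 344), Mv.b (nat_lit 96)]))))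
(Tr.nd (nat_lit 347) (Tr.lf (Fc.ed (nat_lit 346) (nat_lit 50) Col.f (nat_lit 50) (Dv.wd (nat_lit 29) [Mv.b (nat_lit 157), Mv.f (nat_lit 344), Mv.f (nat_lit 157)])))
(Tr.lf (Fc.al (nat_lit 347) (nat_lit 116) (nat_lit 17) (Dv.wd (nat_lit 84) [Mv.b (nat_lit 158), Mv.f (nat_lit 346), Mv.f (nat_lit 158), Mv.b (nat_lit 334)])))))
(Tr.nd (nat_lit 350) (Tr.nd (nat_lit 349) (Tr.lf (Fc.al (nat_lit 348) (nat_lit 38) (nat_lit 112) (Dv.wd (nat_lit 81) [Mv.f (nat_lit 333), Mv.f (nat_lit 347), Mv.f (nat_lit 99)])))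
(Tr.lf (Fc.al (nat_lit 349) (nat_lit 19) (nat_lit 106) (Dv.wd (nat_lit 100) [Mv.b (nat_lit 324), Mv.b (nat_lit 348), Mv.f (nat_lit 100)]))))
(Tr.nd (nat_lit 351) (Tr.lf (Fc.al (nat_lit 350) (nat_lit 51) (nat_lit 107) (Dv.wd (nat_lit 101) [Mv.f (nat_lit 312), Mv.b (nat_lit 349), Mv.b (nat_lit 160)])))
(Tr.nd (nat_lit 352) (Tr.lf (Fc.al (nat_lit 351) (nat_lit 99) (nat_lit 113) (Dv.wd (nat_lit 102) [Mv.b (nat_lit 325), Mv.b (nat_lit 350), Mv.f (nat_lit 293)])))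
(Tr.lf (Fc.al (nat_lit 352) (nat_lit 92) (nat_lit 110) (Dv.wd (nat_lit 103) [Mv.b (nat_lit 326), Mv.b (nat_lit 351), Mv.f (nat_lit 294)]))))))))
(Tr.nd (nat_lit 362) (Tr.nd (nat_lit 357) (Tr.nd (nat_lit 355) (Tr.nd (nat_lit 354) (Tr.lf (Fc.al (nat_lit 353) (nat_lit 96) (nat_lit 111) (Dv.wd (nat_lit 81) [Mv.f (nat_lit 322), Mv.b (nat_lit 352), Mv.b (nat_lit 288)])))
(Tr.lf (Fc.ed (nat_lit 354) (nat_lit 96) Col.f (nat_lit 96) (Dv.wd (nat_lit 104) [Mv.f (nat_lit 321), Mv.b (nat_lit 353)]))))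
(Tr.nd (nat_lit 356) (Tr.lf (Fc.ed (nat_lit 355) (nat_lit 55) Col.e (nat_lit 55) (Dv.wd (nat_lit 67) [Mv.b (nat_lit 181), Mv.b (nat_lit 287), Mv.f (nat_lit 354), Mv.f (nat_lit 287), Mv.f (nat_lit 181)])))
(Tr.lf (Fc.ed (nat_lit 356) (nat_lit 75) Col.d (nat_lit 75) (Dv.wd (nat_lit 105) [Mv.b (nat_lit 237), Mv.f (nat_lit 179), Mv.f (nat_lit 355), Mv.b (nat_lit 179), Mv.f (nat_lit 237)])))))
(Tr.nd (nat_lit 359) (Tr.nd (nat_lit 358) (Tr.lf (Fc.ed (nat_lit 357) (nat_lit 26) Col.d (nat_lit 26) (Dv.wd (nat_lit 72) [Mv.b (nat_lit 238), Mv.f (nat_lit 356), Mv.f (nat_lit 238)])))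
(Tr.lf (Fc.ed (nat_lit 358) (nat_lit 105) Col.d (nat_lit 105) (Dv.wd (nat_lit 106) [Mv.f (nat_lit 309), Mv.f (nat_lit 357), Mv.b (nat_lit 309)]))))
(Tr.nd (nat_lit 360) (Tr.lf (Fc.ed (nat_lit 359) (nat_lit 57) Col.g (nat_lit 119) Dv.df))
(Tr.nd (nat_lit 361) (Tr.lf (Fc.ed (nat_lit 360) (nat_lit 119) Col.a (nat_lit 103) (Dv.wd (nat_lit 107) [Mv.b (nat_lit 302), Mv.f (nat_lit 180), Mv.f (nat_lit 359)])))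
(Tr.lf (Fc.ed (nat_lit 361) (nat_lit 91) Col.d (nat_lit 120) Dv.df))))))
(Tr.nd (nat_lit 367) (Tr.nd (nat_lit 364) (Tr.nd (nat_lit 363) (Tr.lf (Fc.ed (nat_lit 362) (nat_lit 120) Col.b (nat_lit 27) (Dv.wd (nat_lit 28) [Mv.f (nat_lit 88), Mv.b (nat_lit 276), Mv.f (nat_lit 361)])))
(Tr.lf (Fc.ed (nat_lit 363) (nat_lit 120) Col.c (nat_lit 120) (Dv.wd (nat_lit 77) [Mv.f (nat_lit 362), Mv.b (nat_lit 87), Mv.f (nat_lit 236), Mv.f (nat_lit 87), Mv.b (nat_lit 362)]))))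
(Tr.nd (nat_lit 365) (Tr.lf (Fc.ed (nat_lit 364) (nat_lit 80) Col.i (nat_lit 121) Dv.df))
(Tr.nd (nat_lit 366) (Tr.lf (Fc.ed (nat_lit 365) (nat_lit 121) Col.c (nat_lit 78) (Dv.wd (nat_lit 68) [Mv.b (nat_lit 245), Mv.f (nat_lit 247), Mv.f (nat_lit 364)])))
(Tr.lf (Fc.ed (nat_lit 366) (nat_lit 121) Col.f (nat_lit 115) (Dv.wd (nat_lit 52) [Mv.b (nat_lit 331), Mv.f (nat_lit 257), Mv.f (nat_lit 364)]))))))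
(Tr.nd (nat_lit 369) (Tr.nd (nat_lit 368) (Tr.lf (Fc.ed (nat_lit 367) (nat_lit 64) Col.h (nat_lit 122) Dv.df))
(Tr.lf (Fc.ed (nat_lit 368) (nat_lit 120) Col.e (nat_lit 123) Dv.df)))
(Tr.nd (nat_lit 370) (Tr.lf (Fc.ed (nat_lit 369) (nat_lit 123) Col.b (nat_lit 80) (Dv.wd (nat_lit 23) [Mv.f (nat_lit 248), Mv.b (nat_lit 362), Mv.f (nat_lit 368)])))
(Tr.nd (nat_lit 371) (Tr.lf (Fc.ed (nat_lit 370) (nat_lit 123) Col.d (nat_lit 123) (Dv.wd (nat_lit 39) [Mv.b (nat_lit 368), Mv.b (nat_lit 361), Mv.f (nat_lit 277), Mv.f (nat_lit 361), Mv.f (nat_lit 368)])))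
(Tr.lf (Fc.ed (nat_lit 371) (nat_lit 27) Col.i (nat_lit 124) Dv.df)))))))))
(Tr.nd (nat_lit 409) (Tr.nd (nat_lit 390) (Tr.nd (nat_lit 381) (Tr.nd (nat_lit 376) (Tr.nd (nat_lit 374) (Tr.nd (nat_lit 373) (Tr.lf (Fc.ed (nat_lit 372) (nat_lit 124) Col.c (nat_lit 105) (Dv.wd (nat_lit 68) [Mv.f (nat_lit 309), Mv.f (nat_lit 87), Mv.f (nat_lit 371)])))
(Tr.lf (Fc.ed (nat_lit 373) (nat_lit 124) Col.e (nat_lit 121) (Dv.wd (nat_lit 42) [Mv.b (nat_lit 364), Mv.f (nat_lit 248), Mv.f (nat_lit 371)]))))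
(Tr.nd (nat_lit 375) (Tr.lf (Fc.ed (nat_lit 374) (nat_lit 124) Col.f (nat_lit 124) (Dv.wd (nat_lit 52) [Mv.b (nat_lit 371), Mv.f (nat_lit 136), Mv.f (nat_lit 371)])))
(Tr.lf (Fc.ed (nat_lit 375) (nat_lit 103) Col.d (nat_lit 125) Dv.df))))
(Tr.nd (nat_lit 378) (Tr.nd (nat_lit 377) (Tr.lf (Fc.ed (nat_lit 376) (nat_lit 125) Col.g (nat_lit 45) (Dv.wd (nat_lit 89) [Mv.b (nat_lit 132), Mv.f (nat_lit 302), Mv.f (nat_lit 375)])))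
(Tr.lf (Fc.ed (nat_lit 377) (nat_lit 123) Col.i (nat_lit 126) Dv.df)))
(Tr.nd (nat_lit 379) (Tr.lf (Fc.ed (nat_lit 378) (nat_lit 126) Col.b (nat_lit 121) (Dv.wd (nat_lit 108) [Mv.b (nat_lit 364), Mv.b (nat_lit 369), Mv.f (nat_lit 377)])))
(Tr.nd (nat_lit 380) (Tr.lf (Fc.ed (nat_lit 379) (nat_lit 126) Col.d (nat_lit 126) (Dv.wd (nat_lit 41) [Mv.b (nat_lit 377), Mv.f (nat_lit 370), Mv.f (nat_lit 377)])))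
(Tr.lf (Fc.ed (nat_lit 380) (nat_lit 30) Col.g (nat_lit 127) Dv.df))))))
(Tr.nd (nat_lit 385) (Tr.nd (nat_lit 383) (Tr.nd (nat_lit 382) (Tr.lf (Fc.ed (nat_lit 381) (nat_lit 124) Col.d (nat_lit 128) Dv.df))
(Tr.lf (Fc.ed (nat_lit 382) (nat_lit 128) Col.i (nat_lit 28) (Dv.wd (nat_lit 30) [Mv.b (nat_lit 88), Mv.f (nat_lit 371), Mv.f (nat_lit 381)]))))
(Tr.nd (nat_lit 384) (Tr.lf (Fc.ed (nat_lit 383) (nat_lit 128) Col.c (nat_lit 128) (Dv.wd (nat_lit 109) [Mv.b (nat_lit 381), Mv.f (nat_lit 372), Mv.f (nat_lit 358), Mv.b (nat_lit 372), Mv.f (nat_lit 381)])))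
(Tr.lf (Fc.ed (nat_lit 384) (nat_lit 90) Col.e (nat_lit 129) Dv.df))))
(Tr.nd (nat_lit 387) (Tr.nd (nat_lit 386) (Tr.lf (Fc.ed (nat_lit 385) (nat_lit 129) Col.g (nat_lit 62) (Dv.wd (nat_lit 110) [Mv.f (nat_lit 193), Mv.b (nat_lit 274), Mv.f (nat_lit 384)])))
(Tr.lf (Fc.ed (nat_lit 386) (nat_lit 91) Col.i (nat_lit 130) Dv.df)))
(Tr.nd (nat_lit 388) (Tr.lf (Fc.ed (nat_lit 387) (nat_lit 130) Col.b (nat_lit 128) (Dv.wd (nat_lit 108) [Mv.f (nat_lit 382), Mv.b (nat_lit 276), Mv.f (nat_lit 386)])))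
(Tr.nd (nat_lit 389) (Tr.lf (Fc.ed (nat_lit 388) (nat_lit 77) Col.c (nat_lit 131) Dv.df))
(Tr.lf (Fc.ed (nat_lit 389) (nat_lit 131) Col.i (nat_lit 30) (Dv.wd (nat_lit 34) [Mv.f (nat_lit 91), Mv.b (nat_lit 244), Mv.f (nat_lit 388)]))))))))
(Tr.nd (nat_lit 399) (Tr.nd (nat_lit 394) (Tr.nd (nat_lit 392) (Tr.nd (nat_lit 391) (Tr.lf (Fc.ed (nat_lit 390) (nat_lit 58) Col.c (nat_lit 132) Dv.df))
(Tr.lf (Fc.ed (nat_lit 391) (nat_lit 132) Col.e (nat_lit 81) (Dv.wd (nat_lit 32) [Mv.b (nat_lit 254), Mv.b (nat_lit 183), Mv.f (nat_lit 390)]))))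
(Tr.nd (nat_lit 393) (Tr.lf (Fc.ed (nat_lit 392) (nat_lit 132) Col.d (nat_lit 132) (Dv.wd (nat_lit 35) [Mv.b (nat_lit 390), Mv.f (nat_lit 209), Mv.f (nat_lit 214), Mv.b (nat_lit 209), Mv.f (nat_lit 390)])))
(Tr.lf (Fc.ed (nat_lit 393) (nat_lit 31) Col.g (nat_lit 133) Dv.df))))
(Tr.nd (nat_lit 396) (Tr.nd (nat_lit 395) (Tr.lf (Fc.ed (nat_lit 394) (nat_lit 133) Col.c (nat_lit 127) (Dv.wd (nat_lit 13) [Mv.b (nat_lit 380), Mv.f (nat_lit 91), Mv.f (nat_lit 393)])))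
(Tr.lf (Fc.ed (nat_lit 395) (nat_lit 133) Col.e (nat_lit 133) (Dv.wd (nat_lit 15) [Mv.b (nat_lit 393), Mv.f (nat_lit 253), Mv.f (nat_lit 393)]))))
(Tr.nd (nat_lit 397) (Tr.lf (Fc.ed (nat_lit 396) (nat_lit 87) Col.d (nat_lit 134) Dv.df))
(Tr.nd (nat_lit 398) (Tr.lf (Fc.ed (nat_lit 397) (nat_lit 130) Col.g (nat_lit 135) Dv.df))
(Tr.lf (Fc.ed (nat_lit 398) (nat_lit 79) Col.g (nat_lit 136) Dv.df))))))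
(Tr.nd (nat_lit 404) (Tr.nd (nat_lit 401) (Tr.nd (nat_lit 400) (Tr.lf (Fc.ed (nat_lit 399) (nat_lit 136) Col.i (nat_lit 125) (Dv.wd (nat_lit 17) [Mv.f (nat_lit 376), Mv.f (nat_lit 246), Mv.f (nat_lit 398)])))
(Tr.lf (Fc.ed (nat_lit 400) (nat_lit 31) Col.h (nat_lit 137) Dv.df)))
(Tr.nd (nat_lit 402) (Tr.lf (Fc.ed (nat_lit 401) (nat_lit 137) Col.c (nat_lit 91) (Dv.wd (nat_lit 50) [Mv.b (nat_lit 275), Mv.f (nat_lit 91), Mv.f (nat_lit 400)])))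
(Tr.nd (nat_lit 403) (Tr.lf (Fc.ed (nat_lit 402) (nat_lit 137) Col.d (nat_lit 137) (Dv.wd (nat_lit 111) [Mv.f (nat_lit 401), Mv.f (nat_lit 361), Mv.f (nat_lit 363), Mv.b (nat_lit 361), Mv.b (nat_lit 401)])))
(Tr.lf (Fc.ed (nat_lit 403) (nat_lit 95) Col.h (nat_lit 138) Dv.df)))))
(Tr.nd (nat_lit 406) (Tr.nd (nat_lit 405) (Tr.lf (Fc.ed (nat_lit 404) (nat_lit 138) Col.b (nat_lit 138) (Dv.wd (nat_lit 90) [Mv.b (nat_lit 403), Mv.f (nat_lit 285), Mv.f (nat_lit 403)])))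
(Tr.lf (Fc.ed (nat_lit 405) (nat_lit 138) Col.g (nat_lit 114) (Dv.wd (nat_lit 112) [Mv.f (nat_lit 335), Mv.b (nat_lit 337), Mv.f (nat_lit 403)]))))
(Tr.nd (nat_lit 407) (Tr.lf (Fc.ed (nat_lit 406) (nat_lit 114) Col.a (nat_lit 139) Dv.df))
(Tr.nd (nat_lit 408) (Tr.lf (Fc.ed (nat_lit 407) (nat_lit 139) Col.f (nat_lit 109) (Dv.wd (nat_lit 73) [Mv.f (nat_lit 317), Mv.f (nat_lit 327), Mv.f (nat_lit 406)])))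
(Tr.lf (Fc.ed (nat_lit 408) (nat_lit 15) Col.c (nat_lit 140) Dv.df))))))))
(Tr.nd (nat_lit 428) (Tr.nd (nat_lit 418) (Tr.nd (nat_lit 413) (Tr.nd (nat_lit 411) (Tr.nd (nat_lit 410) (Tr.lf (Fc.ed (nat_lit 409) (nat_lit 136) Col.d (nat_lit 141) Dv.df))
(Tr.lf (Fc.ed (nat_lit 410) (nat_lit 141) Col.g (nat_lit 86) (Dv.wd (nat_lit 89) [Mv.f (nat_lit 265), Mv.f (nat_lit 398), Mv.f (nat_lit 409)]))))
(Tr.nd (nat_lit 412) (Tr.lf (Fc.ed (nat_lit 411) (nat_lit 141) Col.i (nat_lit 103) (Dv.wd (nat_lit 30) [Mv.f (nat_lit 375), Mv.b (nat_lit 399), Mv.f (nat_lit 409)])))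
(Tr.lf (Fc.ed (nat_lit 412) (nat_lit 114) Col.i (nat_lit 142) Dv.df))))
(Tr.nd (nat_lit 415) (Tr.nd (nat_lit 414) (Tr.lf (Fc.ed (nat_lit 413) (nat_lit 142) Col.b (nat_lit 142) (Dv.wd (nat_lit 108) [Mv.b (nat_lit 412), Mv.f (nat_lit 328), Mv.f (nat_lit 412)])))
(Tr.lf (Fc.ed (nat_lit 414) (nat_lit 142) Col.e (nat_lit 142) (Dv.wd (nat_lit 42) [Mv.b (nat_lit 412), Mv.f (nat_lit 330), Mv.f (nat_lit 412)]))))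
(Tr.nd (nat_lit 416) (Tr.lf (Fc.ed (nat_lit 415) (nat_lit 81) Col.d (nat_lit 143) Dv.df))
(Tr.nd (nat_lit 417) (Tr.lf (Fc.ed (nat_lit 416) (nat_lit 143) Col.i (nat_lit 134) (Dv.wd (nat_lit 30) [Mv.b (nat_lit 396), Mv.f (nat_lit 267), Mv.f (nat_lit 415)])))
(Tr.lf (Fc.ed (nat_lit 417) (nat_lit 143) Col.e (nat_lit 143) (Dv.wd (nat_lit 31) [Mv.b (nat_lit 415), Mv.b (nat_lit 391), Mv.f (nat_lit 392), Mv.f (nat_lit 391), Mv.f (nat_lit 415)])))))))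
(Tr.nd (nat_lit 423) (Tr.nd (nat_lit 420) (Tr.nd (nat_lit 419) (Tr.lf (Fc.ed (nat_lit 418) (nat_lit 133) Col.d (nat_lit 144) Dv.df))
(Tr.lf (Fc.ed (nat_lit 419) (nat_lit 144) Col.g (nat_lit 32) (Dv.wd (nat_lit 89) [Mv.b (nat_lit 92), Mv.f (nat_lit 393), Mv.f (nat_lit 418)]))))
(Tr.nd (nat_lit 421) (Tr.lf (Fc.ed (nat_lit 420) (nat_lit 119) Col.i (nat_lit 145) Dv.df))
(Tr.nd (nat_lit 422) (Tr.lf (Fc.ed (nat_lit 421) (nat_lit 145) Col.a (nat_lit 141) (Dv.wd (nat_lit 93) [Mv.f (nat_lit 411), Mv.b (nat_lit 360), Mv.f (nat_lit 420)])))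
(Tr.lf (Fc.ed (nat_lit 422) (nat_lit 73) Col.g (nat_lit 146) Dv.df)))))
(Tr.nd (nat_lit 425) (Tr.nd (nat_lit 424) (Tr.lf (Fc.ed (nat_lit 423) (nat_lit 146) Col.i (nat_lit 144) (Dv.wd (nat_lit 17) [Mv.f (nat_lit 419), Mv.b (nat_lit 221), Mv.f (nat_lit 422)])))
(Tr.lf (Fc.ed (nat_lit 424) (nat_lit 98) Col.h (nat_lit 147) Dv.df)))
(Tr.nd (nat_lit 426) (Tr.lf (Fc.ed (nat_lit 425) (nat_lit 130) Col.c (nat_lit 148) Dv.df))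
(Tr.nd (nat_lit 427) (Tr.lf (Fc.ed (nat_lit 426) (nat_lit 148) Col.i (nat_lit 137) (Dv.wd (nat_lit 34) [Mv.f (nat_lit 401), Mv.f (nat_lit 386), Mv.f (nat_lit 425)])))
(Tr.lf (Fc.ed (nat_lit 427) (nat_lit 148) Col.d (nat_lit 148) (Dv.wd (nat_lit 106) [Mv.f (nat_lit 426), Mv.f (nat_lit 402), Mv.b (nat_lit 426)]))))))))
(Tr.nd (nat_lit 437) (Tr.nd (nat_lit 432) (Tr.nd (nat_lit 430) (Tr.nd (nat_lit 429) (Tr.lf (Fc.ed (nat_lit 428) (nat_lit 134) Col.f (nat_lit 149) Dv.df))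
(Tr.lf (Fc.ed (nat_lit 429) (nat_lit 149) Col.d (nat_lit 114) (Dv.wd (nat_lit 20) [Mv.b (nat_lit 327), Mv.f (nat_lit 396), Mv.f (nat_lit 428)]))))
(Tr.nd (nat_lit 431) (Tr.lf (Fc.ed (nat_lit 430) (nat_lit 122) Col.g (nat_lit 150) Dv.df))
(Tr.lf (Fc.ed (nat_lit 431) (nat_lit 150) Col.h (nat_lit 65) (Dv.wd (nat_lit 16) [Mv.f (nat_lit 200), Mv.f (nat_lit 367), Mv.f (nat_lit 430)])))))
(Tr.nd (nat_lit 434) (Tr.nd (nat_lit 433) (Tr.lf (Fc.ed (nat_lit 432) (nat_lit 147) Col.i (nat_lit 151) Dv.df))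
(Tr.lf (Fc.ed (nat_lit 433) (nat_lit 151) Col.h (nat_lit 102) (Dv.wd (nat_lit 47) [Mv.f (nat_lit 301), Mv.f (nat_lit 186), Mv.b (nat_lit 292), Mv.f (nat_lit 424), Mv.f (nat_lit 432)]))))
(Tr.nd (nat_lit 435) (Tr.lf (Fc.ed (nat_lit 434) (nat_lit 95) Col.d (nat_lit 152) Dv.df))
(Tr.nd (nat_lit 436) (Tr.lf (Fc.ed (nat_lit 435) (nat_lit 127) Col.i (nat_lit 153) Dv.df))
(Tr.lf (Fc.ed (nat_lit 436) (nat_lit 153) Col.g (nat_lit 131) (Dv.wd (nat_lit 75) [Mv.f (nat_lit 389), Mv.f (nat_lit 380), Mv.f (nat_lit 435)])))))))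
(Tr.nd (nat_lit 442) (Tr.nd (nat_lit 439) (Tr.nd (nat_lit 438) (Tr.lf (Fc.ed (nat_lit 437) (nat_lit 151) Col.a (nat_lit 154) Dv.df))
(Tr.lf (Fc.ed (nat_lit 438) (nat_lit 154) Col.h (nat_lit 86) (Dv.wd (nat_lit 92) [Mv.f (nat_lit 300), Mv.b (nat_lit 433), Mv.f (nat_lit 437)]))))
(Tr.nd (nat_lit 440) (Tr.lf (Fc.ed (nat_lit 439) (nat_lit 133) Col.i (nat_lit 155) Dv.df))
(Tr.nd (nat_lit 441) (Tr.lf (Fc.ed (nat_lit 440) (nat_lit 155) Col.c (nat_lit 153) (Dv.wd (nat_lit 68) [Mv.b (nat_lit 435), Mv.b (nat_lit 394), Mv.f (nat_lit 439)])))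
(Tr.lf (Fc.ed (nat_lit 441) (nat_lit 155) Col.d (nat_lit 146) (Dv.wd (nat_lit 41) [Mv.f (nat_lit 423), Mv.b (nat_lit 418), Mv.f (nat_lit 439)]))))))
(Tr.nd (nat_lit 444) (Tr.nd (nat_lit 443) (Tr.lf (Fc.ed (nat_lit 442) (nat_lit 155) Col.e (nat_lit 155) (Dv.wd (nat_lit 42) [Mv.b (nat_lit 439), Mv.f (nat_lit 395), Mv.f (nat_lit 439)])))
(Tr.lf (Fc.ed (nat_lit 443) (nat_lit 155) Col.g (nat_lit 77) (Dv.wd (nat_lit 75) [Mv.f (nat_lit 244), Mv.f (nat_lit 393), Mv.f (nat_lit 439)]))))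
(Tr.nd (nat_lit 445) (Tr.lf (Fc.ed (nat_lit 444) (nat_lit 109) Col.d (nat_lit 156) Dv.df))
(Tr.nd (nat_lit 446) (Tr.lf (Fc.ed (nat_lit 445) (nat_lit 82) Col.g (nat_lit 157) Dv.df))
(Tr.lf (Fc.ed (nat_lit 446) (nat_lit 62) Col.h (nat_lit 158) Dv.df))))))))))
(Tr.nd (nat_lit 522) (Tr.nd (nat_lit 484) (Tr.nd (nat_lit 465) (Tr.nd (nat_lit 456) (Tr.nd (nat_lit 451) (Tr.nd (nat_lit 449) (Tr.nd (nat_lit 448) (Tr.lf (Fc.ed (nat_lit 447) (nat_lit 158) Col.a (nat_lit 147) (Dv.wd (nat_lit 74) [Mv.b (nat_lit 424), Mv.b (nat_lit 291), Mv.f (nat_lit 446)])))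
(Tr.lf (Fc.ed (nat_lit 448) (nat_lit 158) Col.i (nat_lit 154) (Dv.wd (nat_lit 43) [Mv.f (nat_lit 438), Mv.b (nat_lit 264), Mv.f (nat_lit 166), Mv.f (nat_lit 192), Mv.f (nat_lit 446)]))))
(Tr.nd (nat_lit 450) (Tr.lf (Fc.ed (nat_lit 449) (nat_lit 93) Col.d (nat_lit 159) Dv.df))
(Tr.lf (Fc.ed (nat_lit 450) (nat_lit 159) Col.a (nat_lit 143) (Dv.wd (nat_lit 113) [Mv.b (nat_lit 415), Mv.f (nat_lit 279), Mv.f (nat_lit 449)])))))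
(Tr.nd (nat_lit 453) (Tr.nd (nat_lit 452) (Tr.lf (Fc.ed (nat_lit 451) (nat_lit 159) Col.i (nat_lit 156) (Dv.wd (nat_lit 30) [Mv.b (nat_lit 444), Mv.f (nat_lit 318), Mv.f (nat_lit 449)])))
(Tr.lf (Fc.ed (nat_lit 452) (nat_lit 159) Col.c (nat_lit 159) (Dv.wd (nat_lit 109) [Mv.b (nat_lit 449), Mv.f (nat_lit 280), Mv.f (nat_lit 272), Mv.b (nat_lit 280), Mv.f (nat_lit 449)]))))
(Tr.nd (nat_lit 454) (Tr.lf (Fc.ed (nat_lit 453) (nat_lit 88) Col.h (nat_lit 160) Dv.df))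
(Tr.nd (nat_lit 455) (Tr.lf (Fc.ed (nat_lit 454) (nat_lit 160) Col.e (nat_lit 154) (Dv.wd (nat_lit 36) [Mv.f (nat_lit 438), Mv.b (nat_lit 270), Mv.f (nat_lit 453)])))
(Tr.lf (Fc.ed (nat_lit 455) (nat_lit 51) Col.h (nat_lit 161) Dv.df))))))
(Tr.nd (nat_lit 460) (Tr.nd (nat_lit 458) (Tr.nd (nat_lit 457) (Tr.lf (Fc.ed (nat_lit 456) (nat_lit 161) Col.e (nat_lit 158) (Dv.wd (nat_lit 36) [Mv.b (nat_lit 446), Mv.f (nat_lit 193), Mv.f (nat_lit 455)])))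
(Tr.lf (Fc.ed (nat_lit 457) (nat_lit 161) Col.i (nat_lit 160) (Dv.wd (nat_lit 43) [Mv.b (nat_lit 453), Mv.b (nat_lit 269), Mv.b (nat_lit 81), Mv.f (nat_lit 159), Mv.f (nat_lit 455)]))))
(Tr.nd (nat_lit 459) (Tr.lf (Fc.ed (nat_lit 458) (nat_lit 101) Col.h (nat_lit 162) Dv.df))
(Tr.lf (Fc.ed (nat_lit 459) (nat_lit 162) Col.f (nat_lit 147) (Dv.wd (nat_lit 37) [Mv.b (nat_lit 424), Mv.b (nat_lit 299), Mv.f (nat_lit 458)])))))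
(Tr.nd (nat_lit 462) (Tr.nd (nat_lit 461) (Tr.lf (Fc.ed (nat_lit 460) (nat_lit 157) Col.i (nat_lit 163) Dv.df))
(Tr.lf (Fc.ed (nat_lit 461) (nat_lit 163) Col.g (nat_lit 115) (Dv.wd (nat_lit 75) [Mv.b (nat_lit 331), Mv.f (nat_lit 445), Mv.f (nat_lit 460)]))))
(Tr.nd (nat_lit 463) (Tr.lf (Fc.ed (nat_lit 462) (nat_lit 124) Col.b (nat_lit 164) Dv.df))
(Tr.nd (nat_lit 464) (Tr.lf (Fc.ed (nat_lit 463) (nat_lit 164) Col.d (nat_lit 130) (Dv.wd (nat_lit 51) [Mv.f (nat_lit 387), Mv.b (nat_lit 381), Mv.f (nat_lit 462)])))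
(Tr.lf (Fc.ed (nat_lit 464) (nat_lit 164) Col.e (nat_lit 126) (Dv.wd (nat_lit 49) [Mv.f (nat_lit 378), Mv.b (nat_lit 373), Mv.f (nat_lit 462)]))))))))
(Tr.nd (nat_lit 474) (Tr.nd (nat_lit 469) (Tr.nd (nat_lit 467) (Tr.nd (nat_lit 466) (Tr.lf (Fc.ed (nat_lit 465) (nat_lit 164) Col.f (nat_lit 164) (Dv.wd (nat_lit 66) [Mv.b (nat_lit 462), Mv.f (nat_lit 374), Mv.f (nat_lit 462)])))
(Tr.lf (Fc.ed (nat_lit 466) (nat_lit 129) Col.h (nat_lit 165) Dv.df)))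
(Tr.nd (nat_lit 468) (Tr.lf (Fc.ed (nat_lit 467) (nat_lit 165) Col.g (nat_lit 158) (Dv.wd (nat_lit 112) [Mv.b (nat_lit 446), Mv.b (nat_lit 385), Mv.f (nat_lit 466)])))
(Tr.lf (Fc.ed (nat_lit 468) (nat_lit 161) Col.d (nat_lit 166) Dv.df))))
(Tr.nd (nat_lit 471) (Tr.nd (nat_lit 470) (Tr.lf (Fc.ed (nat_lit 469) (nat_lit 140) Col.e (nat_lit 167) Dv.df))
(Tr.lf (Fc.ed (nat_lit 470) (nat_lit 167) Col.c (nat_lit 16) (Dv.wd (nat_lit 24) [Mv.b (nat_lit 70), Mv.f (nat_lit 408), Mv.f (nat_lit 469)]))))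
(Tr.nd (nat_lit 472) (Tr.lf (Fc.ed (nat_lit 471) (nat_lit 117) Col.d (nat_lit 168) Dv.df))
(Tr.nd (nat_lit 473) (Tr.lf (Fc.ed (nat_lit 472) (nat_lit 168) Col.g (nat_lit 152) (Dv.wd (nat_lit 89) [Mv.b (nat_lit 434), Mv.f (nat_lit 337), Mv.f (nat_lit 471)])))
(Tr.lf (Fc.ed (nat_lit 473) (nat_lit 139) Col.d (nat_lit 169) Dv.df))))))
(Tr.nd (nat_lit 479) (Tr.nd (nat_lit 476) (Tr.nd (nat_lit 475) (Tr.lf (Fc.ed (nat_lit 474) (nat_lit 169) Col.a (nat_lit 149) (Dv.wd (nat_lit 113) [Mv.f (nat_lit 429), Mv.f (nat_lit 406), Mv.f (nat_lit 473)])))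
(Tr.lf (Fc.ed (nat_lit 475) (nat_lit 169) Col.f (nat_lit 156) (Dv.wd (nat_lit 29) [Mv.b (nat_lit 444), Mv.b (nat_lit 407), Mv.f (nat_lit 473)]))))
(Tr.nd (nat_lit 477) (Tr.lf (Fc.ed (nat_lit 476) (nat_lit 162) Col.a (nat_lit 170) Dv.df))
(Tr.nd (nat_lit 478) (Tr.lf (Fc.ed (nat_lit 477) (nat_lit 170) Col.f (nat_lit 158) (Dv.wd (nat_lit 73) [Mv.f (nat_lit 447), Mv.b (nat_lit 459), Mv.f (nat_lit 476)])))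
(Tr.lf (Fc.ed (nat_lit 478) (nat_lit 170) Col.h (nat_lit 97) (Dv.wd (nat_lit 92) [Mv.b (nat_lit 298), Mv.f (nat_lit 458), Mv.f (nat_lit 476)]))))))
(Tr.nd (nat_lit 481) (Tr.nd (nat_lit 480) (Tr.lf (Fc.ed (nat_lit 479) (nat_lit 170) Col.i (nat_lit 171) Dv.df))
(Tr.lf (Fc.ed (nat_lit 480) (nat_lit 171) Col.f (nat_lit 154) (Dv.wd (nat_lit 52) [Mv.b (nat_lit 448), Mv.b (nat_lit 477), Mv.f (nat_lit 479)]))))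
(Tr.nd (nat_lit 482) (Tr.lf (Fc.ed (nat_lit 481) (nat_lit 171) Col.h (nat_lit 100) (Dv.wd (nat_lit 47) [Mv.b (nat_lit 295), Mv.f (nat_lit 194), Mv.b (nat_lit 290), Mv.b (nat_lit 478), Mv.f (nat_lit 479)])))
(Tr.nd (nat_lit 483) (Tr.lf (Fc.ed (nat_lit 482) (nat_lit 108) Col.c (nat_lit 172) Dv.df))
(Tr.lf (Fc.ed (nat_lit 483) (nat_lit 172) Col.b (nat_lit 167) (Dv.wd (nat_lit 88) [Mv.f (nat_lit 470), Mv.f (nat_lit 96), Mv.f (nat_lit 223), Mv.f (nat_lit 314), Mv.f (nat_lit 482)])))))))))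
(Tr.nd (nat_lit 503) (Tr.nd (nat_lit 493) (Tr.nd (nat_lit 488) (Tr.nd (nat_lit 486) (Tr.nd (nat_lit 485) (Tr.lf (Fc.ed (nat_lit 484) (nat_lit 90) Col.h (nat_lit 173) Dv.df))
(Tr.lf (Fc.ed (nat_lit 485) (nat_lit 173) Col.e (nat_lit 165) (Dv.wd (nat_lit 36) [Mv.b (nat_lit 466), Mv.b (nat_lit 384), Mv.f (nat_lit 484)]))))
(Tr.nd (nat_lit 487) (Tr.lf (Fc.ed (nat_lit 486) (nat_lit 173) Col.g (nat_lit 161) (Dv.wd (nat_lit 112) [Mv.b (nat_lit 455), Mv.b (nat_lit 274), Mv.f (nat_lit 484)])))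
(Tr.lf (Fc.ed (nat_lit 487) (nat_lit 172) Col.e (nat_lit 174) Dv.df))))
(Tr.nd (nat_lit 490) (Tr.nd (nat_lit 489) (Tr.lf (Fc.ed (nat_lit 488) (nat_lit 174) Col.b (nat_lit 140) (Dv.wd (nat_lit 23) [Mv.f (nat_lit 469), Mv.b (nat_lit 483), Mv.f (nat_lit 487)])))
(Tr.lf (Fc.ed (nat_lit 489) (nat_lit 174) Col.c (nat_lit 60) (Dv.wd (nat_lit 24) [Mv.b (nat_lit 315), Mv.f (nat_lit 482), Mv.f (nat_lit 487)]))))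
(Tr.nd (nat_lit 491) (Tr.lf (Fc.ed (nat_lit 490) (nat_lit 142) Col.d (nat_lit 175) Dv.df))
(Tr.nd (nat_lit 492) (Tr.lf (Fc.ed (nat_lit 491) (nat_lit 175) Col.b (nat_lit 175) (Dv.wd (nat_lit 28) [Mv.b (nat_lit 490), Mv.f (nat_lit 413), Mv.f (nat_lit 490)])))
(Tr.lf (Fc.ed (nat_lit 492) (nat_lit 175) Col.i (nat_lit 149) (Dv.wd (nat_lit 30) [Mv.f (nat_lit 429), Mv.f (nat_lit 412), Mv.f (nat_lit 490)])))))))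
(Tr.nd (nat_lit 498) (Tr.nd (nat_lit 495) (Tr.nd (nat_lit 494) (Tr.lf (Fc.ed (nat_lit 493) (nat_lit 135) Col.h (nat_lit 176) Dv.df))
(Tr.lf (Fc.ed (nat_lit 494) (nat_lit 141) Col.h (nat_lit 177) Dv.df)))
(Tr.nd (nat_lit 496) (Tr.lf (Fc.ed (nat_lit 495) (nat_lit 177) Col.g (nat_lit 154) (Dv.wd (nat_lit 112) [Mv.f (nat_lit 438), Mv.b (nat_lit 410), Mv.f (nat_lit 494)])))
(Tr.nd (nat_lit 497) (Tr.lf (Fc.ed (nat_lit 496) (nat_lit 168) Col.c (nat_lit 178) Dv.df))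
(Tr.lf (Fc.ed (nat_lit 497) (nat_lit 178) Col.d (nat_lit 174) (Dv.wd (nat_lit 35) [Mv.f (nat_lit 489), Mv.b (nat_lit 188), Mv.b (nat_lit 336), Mv.f (nat_lit 471), Mv.f (nat_lit 496)]))))))
(Tr.nd (nat_lit 500) (Tr.nd (nat_lit 499) (Tr.lf (Fc.ed (nat_lit 498) (nat_lit 138) Col.d (nat_lit 179) Dv.df))
(Tr.lf (Fc.ed (nat_lit 499) (nat_lit 179) Col.b (nat_lit 179) (Dv.wd (nat_lit 28) [Mv.b (nat_lit 498), Mv.f (nat_lit 404), Mv.f (nat_lit 498)]))))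
(Tr.nd (nat_lit 501) (Tr.lf (Fc.ed (nat_lit 500) (nat_lit 179) Col.g (nat_lit 149) (Dv.wd (nat_lit 89) [Mv.f (nat_lit 429), Mv.b (nat_lit 405), Mv.f (nat_lit 498)])))
(Tr.nd (nat_lit 502) (Tr.lf (Fc.ed (nat_lit 501) (nat_lit 176) Col.g (nat_lit 180) Dv.df))
(Tr.lf (Fc.ed (nat_lit 502) (nat_lit 180) Col.h (nat_lit 130) (Dv.wd (nat_lit 16) [Mv.f (nat_lit 397), Mv.f (nat_lit 493), Mv.f (nat_lit 501)]))))))))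
(Tr.nd (nat_lit 512) (Tr.nd (nat_lit 507) (Tr.nd (nat_lit 505) (Tr.nd (nat_lit 504) (Tr.lf (Fc.ed (nat_lit 503) (nat_lit 145) Col.h (nat_lit 181) Dv.df))
(Tr.lf (Fc.ed (nat_lit 504) (nat_lit 181) Col.a (nat_lit 177) (Dv.wd (nat_lit 74) [Mv.b (nat_lit 494), Mv.b (nat_lit 421), Mv.f (nat_lit 503)]))))
(Tr.nd (nat_lit 506) (Tr.lf (Fc.ed (nat_lit 505) (nat_lit 18) Col.d (nat_lit 182) Dv.df))
(Tr.lf (Fc.ed (nat_lit 506) (nat_lit 182) Col.h (nat_lit 166) (Dv.wd (nat_lit 38) [Mv.b (nat_lit 468), Mv.b (nat_lit 455), Mv.f (nat_lit 160), Mv.b (nat_lit 77), Mv.f (nat_lit 505)])))))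
(Tr.nd (nat_lit 509) (Tr.nd (nat_lit 508) (Tr.lf (Fc.ed (nat_lit 507) (nat_lit 152) Col.h (nat_lit 183) Dv.df))
(Tr.lf (Fc.ed (nat_lit 508) (nat_lit 143) Col.h (nat_lit 184) Dv.df)))
(Tr.nd (nat_lit 510) (Tr.lf (Fc.ed (nat_lit 509) (nat_lit 184) Col.e (nat_lit 184) (Dv.wd (nat_lit 36) [Mv.b (nat_lit 508), Mv.f (nat_lit 417), Mv.f (nat_lit 508)])))
(Tr.nd (nat_lit 511) (Tr.lf (Fc.ed (nat_lit 510) (nat_lit 184) Col.d (nat_lit 184) (Dv.wd (nat_lit 48) [Mv.b (nat_lit 508), Mv.b (nat_lit 415), Mv.f (nat_lit 255), Mv.f (nat_lit 415), Mv.f (nat_lit 508)])))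
(Tr.lf (Fc.ed (nat_lit 511) (nat_lit 169) Col.i (nat_lit 185) Dv.df))))))
(Tr.nd (nat_lit 517) (Tr.nd (nat_lit 514) (Tr.nd (nat_lit 513) (Tr.lf (Fc.ed (nat_lit 512) (nat_lit 185) Col.a (nat_lit 175) (Dv.wd (nat_lit 93) [Mv.f (nat_lit 492), Mv.b (nat_lit 474), Mv.f (nat_lit 511)])))
(Tr.lf (Fc.ed (nat_lit 513) (nat_lit 185) Col.f (nat_lit 159) (Dv.wd (nat_lit 52) [Mv.f (nat_lit 451), Mv.b (nat_lit 475), Mv.f (nat_lit 511)]))))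
(Tr.nd (nat_lit 515) (Tr.lf (Fc.ed (nat_lit 514) (nat_lit 178) Col.b (nat_lit 186) Dv.df))
(Tr.nd (nat_lit 516) (Tr.lf (Fc.ed (nat_lit 515) (nat_lit 186) Col.d (nat_lit 140) (Dv.wd (nat_lit 51) [Mv.b (nat_lit 488), Mv.b (nat_lit 497), Mv.f (nat_lit 514)])))
(Tr.lf (Fc.ed (nat_lit 516) (nat_lit 180) Col.i (nat_lit 187) Dv.df)))))
(Tr.nd (nat_lit 519) (Tr.nd (nat_lit 518) (Tr.lf (Fc.ed (nat_lit 517) (nat_lit 187) Col.h (nat_lit 131) (Dv.wd (nat_lit 47) [Mv.f (nat_lit 389), Mv.f (nat_lit 275), Mv.f (nat_lit 386), Mv.b (nat_lit 502), Mv.f (nat_lit 516)])))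
(Tr.lf (Fc.ed (nat_lit 518) (nat_lit 153) Col.h (nat_lit 188) Dv.df)))
(Tr.nd (nat_lit 520) (Tr.lf (Fc.ed (nat_lit 519) (nat_lit 188) Col.g (nat_lit 187) (Dv.wd (nat_lit 112) [Mv.f (nat_lit 517), Mv.b (nat_lit 436), Mv.f (nat_lit 518)])))
(Tr.nd (nat_lit 521) (Tr.lf (Fc.ed (nat_lit 520) (nat_lit 175) Col.g (nat_lit 189) Dv.df))
(Tr.lf (Fc.ed (nat_lit 521) (nat_lit 189) Col.i (nat_lit 179) (Dv.wd (nat_lit 17) [Mv.f (nat_lit 500), Mv.b (nat_lit 492), Mv.f (nat_lit 520)]))))))))))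
(Tr.nd (nat_lit 559) (Tr.nd (nat_lit 540) (Tr.nd (nat_lit 531) (Tr.nd (nat_lit 526) (Tr.nd (nat_lit 524) (Tr.nd (nat_lit 523) (Tr.lf (Fc.ed (nat_lit 522) (nat_lit 121) Col.h (nat_lit 190) Dv.df))
(Tr.lf (Fc.ed (nat_lit 523) (nat_lit 167) Col.d (nat_lit 191) Dv.df)))
(Tr.nd (nat_lit 525) (Tr.lf (Fc.ed (nat_lit 524) (nat_lit 191) Col.c (nat_lit 182) (Dv.wd (nat_lit 109) [Mv.b (nat_lit 505), Mv.b (nat_lit 75), Mv.b (nat_lit 73), Mv.b (nat_lit 470), Mv.f (nat_lit 523)])))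
(Tr.lf (Fc.ed (nat_lit 525) (nat_lit 159) Col.h (nat_lit 192) Dv.df))))
(Tr.nd (nat_lit 528) (Tr.nd (nat_lit 527) (Tr.lf (Fc.ed (nat_lit 526) (nat_lit 192) Col.a (nat_lit 184) (Dv.wd (nat_lit 74) [Mv.b (nat_lit 508), Mv.b (nat_lit 450), Mv.f (nat_lit 525)])))
(Tr.lf (Fc.ed (nat_lit 527) (nat_lit 192) Col.c (nat_lit 192) (Dv.wd (nat_lit 50) [Mv.b (nat_lit 525), Mv.f (nat_lit 452), Mv.f (nat_lit 525)]))))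
(Tr.nd (nat_lit 529) (Tr.lf (Fc.ed (nat_lit 528) (nat_lit 192) Col.d (nat_lit 192) (Dv.wd (nat_lit 48) [Mv.b (nat_lit 525), Mv.b (nat_lit 449), Mv.f (nat_lit 281), Mv.f (nat_lit 449), Mv.f (nat_lit 525)])))
(Tr.nd (nat_lit 530) (Tr.lf (Fc.ed (nat_lit 529) (nat_lit 190) Col.f (nat_lit 193) Dv.df))
(Tr.lf (Fc.ed (nat_lit 530) (nat_lit 193) Col.h (nat_lit 115) (Dv.wd (nat_lit 21) [Mv.b (nat_lit 366), Mv.f (nat_lit 522), Mv.f (nat_lit 529)])))))))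
(Tr.nd (nat_lit 535) (Tr.nd (nat_lit 533) (Tr.nd (nat_lit 532) (Tr.lf (Fc.ed (nat_lit 531) (nat_lit 173) Col.d (nat_lit 194) Dv.df))
(Tr.lf (Fc.ed (nat_lit 532) (nat_lit 194) Col.g (nat_lit 166) (Dv.wd (nat_lit 89) [Mv.b (nat_lit 468), Mv.b (nat_lit 486), Mv.f (nat_lit 531)]))))
(Tr.nd (nat_lit 534) (Tr.lf (Fc.ed (nat_lit 533) (nat_lit 135) Col.a (nat_lit 195) Dv.df))
(Tr.lf (Fc.ed (nat_lit 534) (nat_lit 179) Col.h (nat_lit 196) Dv.df))))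
(Tr.nd (nat_lit 537) (Tr.nd (nat_lit 536) (Tr.lf (Fc.ed (nat_lit 535) (nat_lit 196) Col.b (nat_lit 196) (Dv.wd (nat_lit 90) [Mv.b (nat_lit 534), Mv.f (nat_lit 499), Mv.f (nat_lit 534)])))
(Tr.lf (Fc.ed (nat_lit 536) (nat_lit 196) Col.d (nat_lit 183) (Dv.wd (nat_lit 48) [Mv.b (nat_lit 507), Mv.b (nat_lit 434), Mv.f (nat_lit 403), Mv.f (nat_lit 498), Mv.f (nat_lit 534)]))))
(Tr.nd (nat_lit 538) (Tr.lf (Fc.ed (nat_lit 537) (nat_lit 196) Col.g (nat_lit 197) Dv.df))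
(Tr.nd (nat_lit 539) (Tr.lf (Fc.ed (nat_lit 538) (nat_lit 197) Col.b (nat_lit 197) (Dv.wd (nat_lit 12) [Mv.b (nat_lit 537), Mv.f (nat_lit 535), Mv.f (nat_lit 537)])))
(Tr.lf (Fc.ed (nat_lit 539) (nat_lit 197) Col.h (nat_lit 149) (Dv.wd (nat_lit 16) [Mv.b (nat_lit 500), Mv.f (nat_lit 534), Mv.f (nat_lit 537)]))))))))
(Tr.nd (nat_lit 549) (Tr.nd (nat_lit 544) (Tr.nd (nat_lit 542) (Tr.nd (nat_lit 541) (Tr.lf (Fc.ed (nat_lit 540) (nat_lit 155) Col.h (nat_lit 198) Dv.df))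
(Tr.lf (Fc.ed (nat_lit 541) (nat_lit 198) Col.c (nat_lit 188) (Dv.wd (nat_lit 50) [Mv.b (nat_lit 518), Mv.b (nat_lit 440), Mv.f (nat_lit 540)]))))
(Tr.nd (nat_lit 543) (Tr.lf (Fc.ed (nat_lit 542) (nat_lit 198) Col.e (nat_lit 198) (Dv.wd (nat_lit 36) [Mv.b (nat_lit 540), Mv.f (nat_lit 442), Mv.f (nat_lit 540)])))
(Tr.lf (Fc.ed (nat_lit 543) (nat_lit 68) Col.h (nat_lit 199) Dv.df))))
(Tr.nd (nat_lit 546) (Tr.nd (nat_lit 545) (Tr.lf (Fc.ed (nat_lit 544) (nat_lit 199) Col.f (nat_lit 150) (Dv.wd (nat_lit 37) [Mv.f (nat_lit 431), Mv.b (nat_lit 206), Mv.f (nat_lit 543)])))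
(Tr.lf (Fc.ed (nat_lit 545) (nat_lit 198) Col.g (nat_lit 200) Dv.df)))
(Tr.nd (nat_lit 547) (Tr.lf (Fc.ed (nat_lit 546) (nat_lit 200) Col.c (nat_lit 187) (Dv.wd (nat_lit 13) [Mv.b (nat_lit 519), Mv.b (nat_lit 541), Mv.f (nat_lit 545)])))
(Tr.nd (nat_lit 548) (Tr.lf (Fc.ed (nat_lit 547) (nat_lit 200) Col.e (nat_lit 200) (Dv.wd (nat_lit 15) [Mv.b (nat_lit 545), Mv.f (nat_lit 542), Mv.f (nat_lit 545)])))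
(Tr.lf (Fc.ed (nat_lit 548) (nat_lit 200) Col.h (nat_lit 77) (Dv.wd (nat_lit 16) [Mv.b (nat_lit 443), Mv.f (nat_lit 540), Mv.f (nat_lit 545)])))))))
(Tr.nd (nat_lit 554) (Tr.nd (nat_lit 551) (Tr.nd (nat_lit 550) (Tr.lf (Fc.ed (nat_lit 549) (nat_lit 200) Col.f (nat_lit 200) (Dv.wd (nat_lit 65) [Mv.f (nat_lit 548), Mv.f (nat_lit 243), Mv.b (nat_lit 548)])))
(Tr.lf (Fc.ed (nat_lit 550) (nat_lit 189) Col.a (nat_lit 201) Dv.df)))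
(Tr.nd (nat_lit 552) (Tr.lf (Fc.ed (nat_lit 551) (nat_lit 163) Col.h (nat_lit 202) Dv.df))
(Tr.nd (nat_lit 553) (Tr.lf (Fc.ed (nat_lit 552) (nat_lit 202) Col.g (nat_lit 193) (Dv.wd (nat_lit 112) [Mv.f (nat_lit 530), Mv.b (nat_lit 461), Mv.f (nat_lit 551)])))
(Tr.lf (Fc.ed (nat_lit 553) (nat_lit 134) Col.h (nat_lit 203) Dv.df)))))
(Tr.nd (nat_lit 556) (Tr.nd (nat_lit 555) (Tr.lf (Fc.ed (nat_lit 554) (nat_lit 203) Col.f (nat_lit 197) (Dv.wd (nat_lit 37) [Mv.f (nat_lit 539), Mv.b (nat_lit 428), Mv.f (nat_lit 553)])))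
(Tr.lf (Fc.ed (nat_lit 555) (nat_lit 200) Col.i (nat_lit 204) Dv.df)))
(Tr.nd (nat_lit 557) (Tr.lf (Fc.ed (nat_lit 556) (nat_lit 204) Col.c (nat_lit 180) (Dv.wd (nat_lit 68) [Mv.f (nat_lit 516), Mv.b (nat_lit 546), Mv.f (nat_lit 555)])))
(Tr.nd (nat_lit 558) (Tr.lf (Fc.ed (nat_lit 557) (nat_lit 204) Col.h (nat_lit 148) (Dv.wd (nat_lit 47) [Mv.f (nat_lit 426), Mv.b (nat_lit 400), Mv.b (nat_lit 244), Mv.b (nat_lit 548), Mv.f (nat_lit 555)])))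
(Tr.lf (Fc.ed (nat_lit 558) (nat_lit 168) Col.e (nat_lit 205) Dv.df))))))))
(Tr.nd (nat_lit 578) (Tr.nd (nat_lit 568) (Tr.nd (nat_lit 563) (Tr.nd (nat_lit 561) (Tr.nd (nat_lit 560) (Tr.lf (Fc.ed (nat_lit 559) (nat_lit 166) Col.c (nat_lit 206) Dv.df))
(Tr.lf (Fc.ed (nat_lit 560) (nat_lit 206) Col.h (nat_lit 191) (Dv.wd (nat_lit 44) [Mv.f (nat_lit 524), Mv.f (nat_lit 506), Mv.f (nat_lit 559)]))))
(Tr.nd (nat_lit 562) (Tr.lf (Fc.ed (nat_lit 561) (nat_lit 146) Col.h (nat_lit 207) Dv.df))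
(Tr.lf (Fc.ed (nat_lit 562) (nat_lit 73) Col.h (nat_lit 208) Dv.df))))
(Tr.nd (nat_lit 565) (Tr.nd (nat_lit 564) (Tr.lf (Fc.ed (nat_lit 563) (nat_lit 208) Col.c (nat_lit 208) (Dv.wd (nat_lit 50) [Mv.b (nat_lit 562), Mv.f (nat_lit 220), Mv.f (nat_lit 562)])))
(Tr.lf (Fc.ed (nat_lit 564) (nat_lit 208) Col.e (nat_lit 199) (Dv.wd (nat_lit 36) [Mv.b (nat_lit 543), Mv.f (nat_lit 219), Mv.f (nat_lit 562)]))))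
(Tr.nd (nat_lit 566) (Tr.lf (Fc.ed (nat_lit 565) (nat_lit 208) Col.f (nat_lit 208) (Dv.wd (nat_lit 37) [Mv.b (nat_lit 562), Mv.f (nat_lit 222), Mv.f (nat_lit 562)])))
(Tr.nd (nat_lit 567) (Tr.lf (Fc.ed (nat_lit 566) (nat_lit 208) Col.g (nat_lit 207) (Dv.wd (nat_lit 112) [Mv.b (nat_lit 561), Mv.b (nat_lit 422), Mv.f (nat_lit 562)])))
(Tr.lf (Fc.ed (nat_lit 567) (nat_lit 79) Col.h (nat_lit 209) Dv.df))))))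
(Tr.nd (nat_lit 573) (Tr.nd (nat_lit 570) (Tr.nd (nat_lit 569) (Tr.lf (Fc.ed (nat_lit 568) (nat_lit 209) Col.c (nat_lit 193) (Dv.wd (nat_lit 50) [Mv.f (nat_lit 530), Mv.f (nat_lit 332), Mv.f (nat_lit 567)])))
(Tr.lf (Fc.ed (nat_lit 569) (nat_lit 160) Col.d (nat_lit 210) Dv.df)))
(Tr.nd (nat_lit 571) (Tr.lf (Fc.ed (nat_lit 570) (nat_lit 210) Col.i (nat_lit 166) (Dv.wd (nat_lit 30) [Mv.b (nat_lit 468), Mv.f (nat_lit 457), Mv.f (nat_lit 569)])))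
(Tr.nd (nat_lit 572) (Tr.lf (Fc.ed (nat_lit 571) (nat_lit 204) Col.d (nat_lit 211) Dv.df))
(Tr.lf (Fc.ed (nat_lit 572) (nat_lit 211) Col.h (nat_lit 211) (Dv.wd (nat_lit 38) [Mv.b (nat_lit 571), Mv.f (nat_lit 557), Mv.f (nat_lit 427), Mv.b (nat_lit 557), Mv.f (nat_lit 571)]))))))
(Tr.nd (nat_lit 575) (Tr.nd (nat_lit 574) (Tr.lf (Fc.ed (nat_lit 573) (nat_lit 197) Col.d (nat_lit 212) Dv.df))
(Tr.lf (Fc.ed (nat_lit 574) (nat_lit 212) Col.g (nat_lit 183) (Dv.wd (nat_lit 89) [Mv.b (nat_lit 536), Mv.f (nat_lit 537), Mv.f (nat_lit 573)]))))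
(Tr.nd (nat_lit 576) (Tr.lf (Fc.ed (nat_lit 575) (nat_lit 212) Col.h (nat_lit 168) (Dv.wd (nat_lit 38) [Mv.b (nat_lit 471), Mv.b (nat_lit 335), Mv.b (nat_lit 429), Mv.b (nat_lit 539), Mv.f (nat_lit 573)])))
(Tr.nd (nat_lit 577) (Tr.lf (Fc.ed (nat_lit 576) (nat_lit 166) Col.e (nat_lit 213) Dv.df))
(Tr.lf (Fc.ed (nat_lit 577) (nat_lit 176) Col.d (nat_lit 214) Dv.df)))))))
(Tr.nd (nat_lit 587) (Tr.nd (nat_lit 582) (Tr.nd (nat_lit 580) (Tr.nd (nat_lit 579) (Tr.lf (Fc.ed (nat_lit 578) (nat_lit 158) Col.d (nat_lit 215) Dv.df))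
(Tr.lf (Fc.ed (nat_lit 579) (nat_lit 181) Col.d (nat_lit 216) Dv.df)))
(Tr.nd (nat_lit 581) (Tr.lf (Fc.ed (nat_lit 580) (nat_lit 192) Col.f (nat_lit 217) Dv.df))
(Tr.lf (Fc.ed (nat_lit 581) (nat_lit 217) Col.c (nat_lit 217) (Dv.wd (nat_lit 19) [Mv.b (nat_lit 580), Mv.f (nat_lit 527), Mv.f (nat_lit 580)])))))
(Tr.nd (nat_lit 584) (Tr.nd (nat_lit 583) (Tr.lf (Fc.ed (nat_lit 582) (nat_lit 217) Col.d (nat_lit 217) (Dv.wd (nat_lit 20) [Mv.b (nat_lit 580), Mv.f (nat_lit 528), Mv.f (nat_lit 580)])))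
(Tr.lf (Fc.ed (nat_lit 583) (nat_lit 217) Col.h (nat_lit 185) (Dv.wd (nat_lit 21) [Mv.f (nat_lit 513), Mv.f (nat_lit 525), Mv.f (nat_lit 580)]))))
(Tr.nd (nat_lit 585) (Tr.lf (Fc.ed (nat_lit 584) (nat_lit 150) Col.d (nat_lit 218) Dv.df))
(Tr.nd (nat_lit 586) (Tr.lf (Fc.ed (nat_lit 585) (nat_lit 205) Col.c (nat_lit 219) Dv.df))
(Tr.lf (Fc.ed (nat_lit 586) (nat_lit 219) Col.e (nat_lit 178) (Dv.wd (nat_lit 32) [Mv.b (nat_lit 496), Mv.f (nat_lit 558), Mv.f (nat_lit 585)])))))))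
(Tr.nd (nat_lit 592) (Tr.nd (nat_lit 589) (Tr.nd (nat_lit 588) (Tr.lf (Fc.ed (nat_lit 587) (nat_lit 216) Col.a (nat_lit 220) Dv.df))
(Tr.lf (Fc.ed (nat_lit 588) (nat_lit 220) Col.d (nat_lit 177) (Dv.wd (nat_lit 72) [Mv.b (nat_lit 504), Mv.f (nat_lit 579), Mv.f (nat_lit 587)]))))
(Tr.nd (nat_lit 590) (Tr.lf (Fc.ed (nat_lit 589) (nat_lit 195) Col.h (nat_lit 221) Dv.df))
(Tr.nd (nat_lit 591) (Tr.lf (Fc.ed (nat_lit 590) (nat_lit 221) Col.a (nat_lit 176) (Dv.wd (nat_lit 74) [Mv.b (nat_lit 493), Mv.f (nat_lit 533), Mv.f (nat_lit 589)])))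
(Tr.lf (Fc.ed (nat_lit 591) (nat_lit 220) Col.g (nat_lit 222) Dv.df)))))
(Tr.nd (nat_lit 594) (Tr.nd (nat_lit 593) (Tr.lf (Fc.ed (nat_lit 592) (nat_lit 222) Col.d (nat_lit 154) (Dv.wd (nat_lit 14) [Mv.b (nat_lit 495), Mv.b (nat_lit 588), Mv.f (nat_lit 591)])))
(Tr.lf (Fc.ed (nat_lit 593) (nat_lit 215) Col.i (nat_lit 222) (Dv.wd (nat_lit 114) [Mv.f (nat_lit 592), Mv.b (nat_lit 448), Mv.f (nat_lit 578)]))))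
(Tr.nd (nat_lit 595) (Tr.lf (Fc.ed (nat_lit 594) (nat_lit 186) Col.e (nat_lit 223) Dv.df))
(Tr.nd (nat_lit 596) (Tr.lf (Fc.ed (nat_lit 595) (nat_lit 223) Col.b (nat_lit 219) (Dv.wd (nat_lit 23) [Mv.f (nat_lit 586), Mv.f (nat_lit 514), Mv.f (nat_lit 594)])))
(Tr.lf (Fc.ed (nat_lit 596) (nat_lit 214) Col.i (nat_lit 224) Dv.df))))))))))))
(Tr.nd (nat_lit 895) (Tr.nd (nat_lit 746) (Tr.nd (nat_lit 671) (Tr.nd (nat_lit 634) (Tr.nd (nat_lit 615) (Tr.nd (nat_lit 606) (Tr.nd (nat_lit 601) (Tr.nd (nat_lit 599) (Tr.nd (nat_lit 598) (Tr.lf (Fc.ed (nat_lit 597) (nat_lit 183) Col.i (nat_lit 225) Dv.df))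
(Tr.lf (Fc.ed (nat_lit 598) (nat_lit 217) Col.a (nat_lit 226) Dv.df)))
(Tr.nd (nat_lit 600) (Tr.lf (Fc.ed (nat_lit 599) (nat_lit 226) Col.c (nat_lit 226) (Dv.wd (nat_lit 91) [Mv.b (nat_lit 598), Mv.f (nat_lit 581), Mv.f (nat_lit 598)])))
(Tr.lf (Fc.ed (nat_lit 600) (nat_lit 226) Col.d (nat_lit 226) (Dv.wd (nat_lit 72) [Mv.b (nat_lit 598), Mv.f (nat_lit 582), Mv.f (nat_lit 598)])))))
(Tr.nd (nat_lit 603) (Tr.nd (nat_lit 602) (Tr.lf (Fc.ed (nat_lit 601) (nat_lit 226) Col.f (nat_lit 184) (Dv.wd (nat_lit 73) [Mv.b (nat_lit 526), Mv.f (nat_lit 580), Mv.f (nat_lit 598)])))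
(Tr.lf (Fc.ed (nat_lit 602) (nat_lit 226) Col.h (nat_lit 175) (Dv.wd (nat_lit 92) [Mv.b (nat_lit 512), Mv.b (nat_lit 583), Mv.f (nat_lit 598)]))))
(Tr.nd (nat_lit 604) (Tr.lf (Fc.ed (nat_lit 603) (nat_lit 226) Col.b (nat_lit 226) (Dv.wd (nat_lit 53) [Mv.f (nat_lit 602), Mv.f (nat_lit 491), Mv.b (nat_lit 602)])))
(Tr.nd (nat_lit 605) (Tr.lf (Fc.ed (nat_lit 604) (nat_lit 180) Col.d (nat_lit 227) Dv.df))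
(Tr.lf (Fc.ed (nat_lit 605) (nat_lit 227) Col.g (nat_lit 214) (Dv.wd (nat_lit 89) [Mv.b (nat_lit 577), Mv.f (nat_lit 501), Mv.f (nat_lit 604)])))))))
(Tr.nd (nat_lit 610) (Tr.nd (nat_lit 608) (Tr.nd (nat_lit 607) (Tr.lf (Fc.ed (nat_lit 606) (nat_lit 201) Col.e (nat_lit 228) Dv.df))
(Tr.lf (Fc.ed (nat_lit 607) (nat_lit 227) Col.i (nat_lit 229) Dv.df)))
(Tr.nd (nat_lit 609) (Tr.lf (Fc.ed (nat_lit 608) (nat_lit 229) Col.d (nat_lit 187) (Dv.wd (nat_lit 41) [Mv.b (nat_lit 516), Mv.f (nat_lit 604), Mv.f (nat_lit 607)])))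
(Tr.lf (Fc.ed (nat_lit 609) (nat_lit 175) Col.e (nat_lit 230) Dv.df))))
(Tr.nd (nat_lit 612) (Tr.nd (nat_lit 611) (Tr.lf (Fc.ed (nat_lit 610) (nat_lit 230) Col.d (nat_lit 230) (Dv.wd (nat_lit 39) [Mv.b (nat_lit 609), Mv.b (nat_lit 490), Mv.f (nat_lit 414), Mv.f (nat_lit 490), Mv.f (nat_lit 609)])))
(Tr.lf (Fc.ed (nat_lit 611) (nat_lit 197) Col.i (nat_lit 231) Dv.df)))
(Tr.nd (nat_lit 613) (Tr.lf (Fc.ed (nat_lit 612) (nat_lit 209) Col.d (nat_lit 232) Dv.df))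
(Tr.nd (nat_lit 614) (Tr.lf (Fc.ed (nat_lit 613) (nat_lit 232) Col.h (nat_lit 222) (Dv.wd (nat_lit 38) [Mv.f (nat_lit 592), Mv.f (nat_lit 438), Mv.f (nat_lit 265), Mv.f (nat_lit 567), Mv.f (nat_lit 612)])))
(Tr.lf (Fc.ed (nat_lit 614) (nat_lit 194) Col.e (nat_lit 233) Dv.df)))))))
(Tr.nd (nat_lit 624) (Tr.nd (nat_lit 619) (Tr.nd (nat_lit 617) (Tr.nd (nat_lit 616) (Tr.lf (Fc.ed (nat_lit 615) (nat_lit 233) Col.g (nat_lit 213) (Dv.wd (nat_lit 110) [Mv.b (nat_lit 576), Mv.b (nat_lit 532), Mv.f (nat_lit 614)])))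
(Tr.lf (Fc.ed (nat_lit 616) (nat_lit 228) Col.a (nat_lit 234) Dv.df)))
(Tr.nd (nat_lit 618) (Tr.lf (Fc.ed (nat_lit 617) (nat_lit 234) Col.e (nat_lit 189) (Dv.wd (nat_lit 94) [Mv.f (nat_lit 550), Mv.f (nat_lit 606), Mv.f (nat_lit 616)])))
(Tr.lf (Fc.ed (nat_lit 618) (nat_lit 230) Col.g (nat_lit 234) (Dv.wd (nat_lit 115) [Mv.f (nat_lit 617), Mv.b (nat_lit 520), Mv.f (nat_lit 609)])))))
(Tr.nd (nat_lit 621) (Tr.nd (nat_lit 620) (Tr.lf (Fc.ed (nat_lit 619) (nat_lit 213) Col.d (nat_lit 235) Dv.df))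
(Tr.lf (Fc.ed (nat_lit 620) (nat_lit 235) Col.e (nat_lit 215) (Dv.wd (nat_lit 31) [Mv.b (nat_lit 578), Mv.b (nat_lit 456), Mv.f (nat_lit 468), Mv.f (nat_lit 576), Mv.f (nat_lit 619)]))))
(Tr.nd (nat_lit 622) (Tr.lf (Fc.ed (nat_lit 621) (nat_lit 221) Col.d (nat_lit 236) Dv.df))
(Tr.nd (nat_lit 623) (Tr.lf (Fc.ed (nat_lit 622) (nat_lit 236) Col.a (nat_lit 214) (Dv.wd (nat_lit 113) [Mv.b (nat_lit 577), Mv.b (nat_lit 590), Mv.f (nat_lit 621)])))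
(Tr.lf (Fc.ed (nat_lit 623) (nat_lit 231) Col.d (nat_lit 237) Dv.df))))))
(Tr.nd (nat_lit 629) (Tr.nd (nat_lit 626) (Tr.nd (nat_lit 625) (Tr.lf (Fc.ed (nat_lit 624) (nat_lit 237) Col.i (nat_lit 212) (Dv.wd (nat_lit 30) [Mv.b (nat_lit 573), Mv.f (nat_lit 611), Mv.f (nat_lit 623)])))
(Tr.lf (Fc.ed (nat_lit 625) (nat_lit 225) Col.g (nat_lit 237) (Dv.wd (nat_lit 116) [Mv.f (nat_lit 624), Mv.f (nat_lit 574), Mv.f (nat_lit 597)]))))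
(Tr.nd (nat_lit 627) (Tr.lf (Fc.ed (nat_lit 626) (nat_lit 197) Col.e (nat_lit 238) Dv.df))
(Tr.nd (nat_lit 628) (Tr.lf (Fc.ed (nat_lit 627) (nat_lit 238) Col.b (nat_lit 238) (Dv.wd (nat_lit 23) [Mv.b (nat_lit 626), Mv.f (nat_lit 538), Mv.f (nat_lit 626)])))
(Tr.lf (Fc.ed (nat_lit 628) (nat_lit 238) Col.i (nat_lit 239) Dv.df)))))
(Tr.nd (nat_lit 631) (Tr.nd (nat_lit 630) (Tr.lf (Fc.ed (nat_lit 629) (nat_lit 239) Col.b (nat_lit 239) (Dv.wd (nat_lit 108) [Mv.b (nat_lit 628), Mv.f (nat_lit 627), Mv.f (nat_lit 628)])))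
(Tr.lf (Fc.ed (nat_lit 630) (nat_lit 152) Col.e (nat_lit 240) Dv.df)))
(Tr.nd (nat_lit 632) (Tr.lf (Fc.ed (nat_lit 631) (nat_lit 240) Col.g (nat_lit 205) (Dv.wd (nat_lit 110) [Mv.b (nat_lit 558), Mv.f (nat_lit 472), Mv.f (nat_lit 630)])))
(Tr.nd (nat_lit 633) (Tr.lf (Fc.ed (nat_lit 632) (nat_lit 202) Col.d (nat_lit 241) Dv.df))
(Tr.lf (Fc.ed (nat_lit 633) (nat_lit 241) Col.g (nat_lit 242) Dv.df))))))))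
(Tr.nd (nat_lit 652) (Tr.nd (nat_lit 643) (Tr.nd (nat_lit 638) (Tr.nd (nat_lit 636) (Tr.nd (nat_lit 635) (Tr.lf (Fc.ed (nat_lit 634) (nat_lit 242) Col.d (nat_lit 193) (Dv.wd (nat_lit 14) [Mv.b (nat_lit 552), Mv.f (nat_lit 632), Mv.f (nat_lit 633)])))
(Tr.lf (Fc.ed (nat_lit 635) (nat_lit 191) Col.e (nat_lit 243) Dv.df)))
(Tr.nd (nat_lit 637) (Tr.lf (Fc.ed (nat_lit 636) (nat_lit 243) Col.d (nat_lit 223) (Dv.wd (nat_lit 39) [Mv.b (nat_lit 594), Mv.f (nat_lit 515), Mv.f (nat_lit 469), Mv.f (nat_lit 523), Mv.f (nat_lit 635)])))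
(Tr.lf (Fc.ed (nat_lit 637) (nat_lit 200) Col.d (nat_lit 244) Dv.df))))
(Tr.nd (nat_lit 640) (Tr.nd (nat_lit 639) (Tr.lf (Fc.ed (nat_lit 638) (nat_lit 244) Col.f (nat_lit 244) (Dv.wd (nat_lit 29) [Mv.b (nat_lit 637), Mv.f (nat_lit 549), Mv.f (nat_lit 637)])))
(Tr.lf (Fc.ed (nat_lit 639) (nat_lit 244) Col.i (nat_lit 211) (Dv.wd (nat_lit 30) [Mv.b (nat_lit 571), Mv.b (nat_lit 555), Mv.f (nat_lit 637)]))))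
(Tr.nd (nat_lit 641) (Tr.lf (Fc.ed (nat_lit 640) (nat_lit 227) Col.c (nat_lit 245) Dv.df))
(Tr.nd (nat_lit 642) (Tr.lf (Fc.ed (nat_lit 641) (nat_lit 178) Col.h (nat_lit 246) Dv.df))
(Tr.lf (Fc.ed (nat_lit 642) (nat_lit 246) Col.c (nat_lit 212) (Dv.wd (nat_lit 50) [Mv.f (nat_lit 575), Mv.f (nat_lit 496), Mv.f (nat_lit 641)])))))))
(Tr.nd (nat_lit 647) (Tr.nd (nat_lit 645) (Tr.nd (nat_lit 644) (Tr.lf (Fc.ed (nat_lit 643) (nat_lit 165) Col.d (nat_lit 247) Dv.df))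
(Tr.lf (Fc.ed (nat_lit 644) (nat_lit 247) Col.g (nat_lit 215) (Dv.wd (nat_lit 89) [Mv.b (nat_lit 578), Mv.b (nat_lit 467), Mv.f (nat_lit 643)]))))
(Tr.nd (nat_lit 646) (Tr.lf (Fc.ed (nat_lit 645) (nat_lit 234) Col.i (nat_lit 248) Dv.df))
(Tr.lf (Fc.ed (nat_lit 646) (nat_lit 248) Col.e (nat_lit 179) (Dv.wd (nat_lit 42) [Mv.b (nat_lit 521), Mv.b (nat_lit 617), Mv.f (nat_lit 645)])))))
(Tr.nd (nat_lit 649) (Tr.nd (nat_lit 648) (Tr.lf (Fc.ed (nat_lit 647) (nat_lit 226) Col.e (nat_lit 249) Dv.df))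
(Tr.lf (Fc.ed (nat_lit 648) (nat_lit 249) Col.b (nat_lit 249) (Dv.wd (nat_lit 23) [Mv.b (nat_lit 647), Mv.f (nat_lit 603), Mv.f (nat_lit 647)]))))
(Tr.nd (nat_lit 650) (Tr.lf (Fc.ed (nat_lit 649) (nat_lit 249) Col.c (nat_lit 249) (Dv.wd (nat_lit 24) [Mv.b (nat_lit 647), Mv.f (nat_lit 599), Mv.f (nat_lit 647)])))
(Tr.nd (nat_lit 651) (Tr.lf (Fc.ed (nat_lit 650) (nat_lit 249) Col.h (nat_lit 230) (Dv.wd (nat_lit 25) [Mv.b (nat_lit 609), Mv.b (nat_lit 602), Mv.f (nat_lit 647)])))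
(Tr.lf (Fc.ed (nat_lit 651) (nat_lit 249) Col.f (nat_lit 249) (Dv.wd (nat_lit 27) [Mv.b (nat_lit 647), Mv.f (nat_lit 601), Mv.f (nat_lit 509), Mv.b (nat_lit 601), Mv.f (nat_lit 647)]))))))))
(Tr.nd (nat_lit 661) (Tr.nd (nat_lit 656) (Tr.nd (nat_lit 654) (Tr.nd (nat_lit 653) (Tr.lf (Fc.ed (nat_lit 652) (nat_lit 248) Col.g (nat_lit 250) Dv.df))
(Tr.lf (Fc.ed (nat_lit 653) (nat_lit 250) Col.e (nat_lit 149) (Dv.wd (nat_lit 15) [Mv.b (nat_lit 500), Mv.b (nat_lit 646), Mv.f (nat_lit 652)]))))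
(Tr.nd (nat_lit 655) (Tr.lf (Fc.ed (nat_lit 654) (nat_lit 250) Col.i (nat_lit 230) (Dv.wd (nat_lit 17) [Mv.f (nat_lit 618), Mv.f (nat_lit 645), Mv.f (nat_lit 652)])))
(Tr.lf (Fc.ed (nat_lit 655) (nat_lit 238) Col.h (nat_lit 250) (Dv.wd (nat_lit 117) [Mv.f (nat_lit 653), Mv.b (nat_lit 539), Mv.f (nat_lit 626)])))))
(Tr.nd (nat_lit 658) (Tr.nd (nat_lit 657) (Tr.lf (Fc.ed (nat_lit 656) (nat_lit 246) Col.e (nat_lit 251) Dv.df))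
(Tr.lf (Fc.ed (nat_lit 657) (nat_lit 251) Col.h (nat_lit 219) (Dv.wd (nat_lit 25) [Mv.f (nat_lit 586), Mv.f (nat_lit 641), Mv.f (nat_lit 656)]))))
(Tr.nd (nat_lit 659) (Tr.lf (Fc.ed (nat_lit 658) (nat_lit 210) Col.c (nat_lit 252) Dv.df))
(Tr.nd (nat_lit 660) (Tr.lf (Fc.ed (nat_lit 659) (nat_lit 252) Col.i (nat_lit 206) (Dv.wd (nat_lit 34) [Mv.b (nat_lit 559), Mv.b (nat_lit 570), Mv.f (nat_lit 658)])))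
(Tr.lf (Fc.ed (nat_lit 660) (nat_lit 240) Col.c (nat_lit 253) Dv.df))))))
(Tr.nd (nat_lit 666) (Tr.nd (nat_lit 663) (Tr.nd (nat_lit 662) (Tr.lf (Fc.ed (nat_lit 661) (nat_lit 253) Col.g (nat_lit 219) (Dv.wd (nat_lit 118) [Mv.b (nat_lit 585), Mv.b (nat_lit 631), Mv.f (nat_lit 660)])))
(Tr.lf (Fc.ed (nat_lit 662) (nat_lit 183) Col.e (nat_lit 254) Dv.df)))
(Tr.nd (nat_lit 664) (Tr.lf (Fc.ed (nat_lit 663) (nat_lit 243) Col.h (nat_lit 255) Dv.df))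
(Tr.nd (nat_lit 665) (Tr.lf (Fc.ed (nat_lit 664) (nat_lit 255) Col.e (nat_lit 206) (Dv.wd (nat_lit 36) [Mv.f (nat_lit 560), Mv.f (nat_lit 635), Mv.f (nat_lit 663)])))
(Tr.lf (Fc.ed (nat_lit 665) (nat_lit 213) Col.c (nat_lit 255) (Dv.wd (nat_lit 56) [Mv.f (nat_lit 664), Mv.b (nat_lit 559), Mv.f (nat_lit 576)]))))))
(Tr.nd (nat_lit 668) (Tr.nd (nat_lit 667) (Tr.lf (Fc.ed (nat_lit 666) (nat_lit 218) Col.f (nat_lit 256) Dv.df))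
(Tr.lf (Fc.ed (nat_lit 667) (nat_lit 256) Col.d (nat_lit 199) (Dv.wd (nat_lit 20) [Mv.f (nat_lit 544), Mv.f (nat_lit 584), Mv.f (nat_lit 666)]))))
(Tr.nd (nat_lit 669) (Tr.lf (Fc.ed (nat_lit 668) (nat_lit 212) Col.e (nat_lit 257) Dv.df))
(Tr.nd (nat_lit 670) (Tr.lf (Fc.ed (nat_lit 669) (nat_lit 257) Col.c (nat_lit 251) (Dv.wd (nat_lit 24) [Mv.b (nat_lit 656), Mv.f (nat_lit 642), Mv.f (nat_lit 668)])))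
(Tr.lf (Fc.ed (nat_lit 670) (nat_lit 213) Col.i (nat_lit 258) Dv.df)))))))))
(Tr.nd (nat_lit 708) (Tr.nd (nat_lit 689) (Tr.nd (nat_lit 680) (Tr.nd (nat_lit 675) (Tr.nd (nat_lit 673) (Tr.nd (nat_lit 672) (Tr.lf (Fc.ed (nat_lit 671) (nat_lit 258) Col.e (nat_lit 210) (Dv.wd (nat_lit 42) [Mv.f (nat_lit 570), Mv.f (nat_lit 576), Mv.f (nat_lit 670)])))
(Tr.lf (Fc.ed (nat_lit 672) (nat_lit 248) Col.h (nat_lit 259) Dv.df)))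
(Tr.nd (nat_lit 674) (Tr.lf (Fc.ed (nat_lit 673) (nat_lit 259) Col.e (nat_lit 196) (Dv.wd (nat_lit 36) [Mv.b (nat_lit 534), Mv.b (nat_lit 646), Mv.f (nat_lit 672)])))
(Tr.lf (Fc.ed (nat_lit 674) (nat_lit 259) Col.g (nat_lit 238) (Dv.wd (nat_lit 112) [Mv.f (nat_lit 655), Mv.b (nat_lit 652), Mv.f (nat_lit 672)])))))
(Tr.nd (nat_lit 677) (Tr.nd (nat_lit 676) (Tr.lf (Fc.ed (nat_lit 675) (nat_lit 253) Col.h (nat_lit 260) Dv.df))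
(Tr.lf (Fc.ed (nat_lit 676) (nat_lit 260) Col.g (nat_lit 251) (Dv.wd (nat_lit 112) [Mv.f (nat_lit 657), Mv.b (nat_lit 661), Mv.f (nat_lit 675)]))))
(Tr.nd (nat_lit 678) (Tr.lf (Fc.ed (nat_lit 677) (nat_lit 211) Col.e (nat_lit 261) Dv.df))
(Tr.nd (nat_lit 679) (Tr.lf (Fc.ed (nat_lit 678) (nat_lit 261) Col.h (nat_lit 261) (Dv.wd (nat_lit 25) [Mv.b (nat_lit 677), Mv.f (nat_lit 572), Mv.f (nat_lit 677)])))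
(Tr.lf (Fc.ed (nat_lit 679) (nat_lit 245) Col.d (nat_lit 262) Dv.df))))))
(Tr.nd (nat_lit 684) (Tr.nd (nat_lit 682) (Tr.nd (nat_lit 681) (Tr.lf (Fc.ed (nat_lit 680) (nat_lit 262) Col.c (nat_lit 211) (Dv.wd (nat_lit 109) [Mv.b (nat_lit 571), Mv.f (nat_lit 556), Mv.f (nat_lit 604), Mv.f (nat_lit 640), Mv.f (nat_lit 679)])))
(Tr.lf (Fc.ed (nat_lit 681) (nat_lit 252) Col.e (nat_lit 263) Dv.df)))
(Tr.nd (nat_lit 683) (Tr.lf (Fc.ed (nat_lit 682) (nat_lit 263) Col.c (nat_lit 258) (Dv.wd (nat_lit 24) [Mv.f (nat_lit 671), Mv.f (nat_lit 658), Mv.f (nat_lit 681)])))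
(Tr.lf (Fc.ed (nat_lit 683) (nat_lit 263) Col.i (nat_lit 255) (Dv.wd (nat_lit 26) [Mv.f (nat_lit 664), Mv.b (nat_lit 659), Mv.f (nat_lit 681)])))))
(Tr.nd (nat_lit 686) (Tr.nd (nat_lit 685) (Tr.lf (Fc.ed (nat_lit 684) (nat_lit 208) Col.d (nat_lit 264) Dv.df))
(Tr.lf (Fc.ed (nat_lit 685) (nat_lit 264) Col.f (nat_lit 264) (Dv.wd (nat_lit 29) [Mv.b (nat_lit 684), Mv.f (nat_lit 565), Mv.f (nat_lit 684)]))))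
(Tr.nd (nat_lit 687) (Tr.lf (Fc.ed (nat_lit 686) (nat_lit 264) Col.h (nat_lit 244) (Dv.wd (nat_lit 38) [Mv.b (nat_lit 637), Mv.f (nat_lit 548), Mv.b (nat_lit 242), Mv.f (nat_lit 562), Mv.f (nat_lit 684)])))
(Tr.nd (nat_lit 688) (Tr.lf (Fc.ed (nat_lit 687) (nat_lit 222) Col.e (nat_lit 265) Dv.df))
(Tr.lf (Fc.ed (nat_lit 688) (nat_lit 265) Col.i (nat_lit 235) (Dv.wd (nat_lit 26) [Mv.f (nat_lit 620), Mv.f (nat_lit 593), Mv.f (nat_lit 687)]))))))))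
(Tr.nd (nat_lit 698) (Tr.nd (nat_lit 693) (Tr.nd (nat_lit 691) (Tr.nd (nat_lit 690) (Tr.lf (Fc.ed (nat_lit 689) (nat_lit 265) Col.d (nat_lit 258) (Dv.wd (nat_lit 39) [Mv.f (nat_lit 671), Mv.b (nat_lit 569), Mv.f (nat_lit 454), Mv.b (nat_lit 592), Mv.f (nat_lit 687)])))
(Tr.lf (Fc.ed (nat_lit 690) (nat_lit 264) Col.g (nat_lit 266) Dv.df)))
(Tr.nd (nat_lit 692) (Tr.lf (Fc.ed (nat_lit 691) (nat_lit 266) Col.d (nat_lit 207) (Dv.wd (nat_lit 14) [Mv.b (nat_lit 566), Mv.f (nat_lit 684), Mv.f (nat_lit 690)])))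
(Tr.lf (Fc.ed (nat_lit 692) (nat_lit 233) Col.d (nat_lit 267) Dv.df))))
(Tr.nd (nat_lit 695) (Tr.nd (nat_lit 694) (Tr.lf (Fc.ed (nat_lit 693) (nat_lit 267) Col.g (nat_lit 235) (Dv.wd (nat_lit 89) [Mv.b (nat_lit 619), Mv.b (nat_lit 615), Mv.f (nat_lit 692)])))
(Tr.lf (Fc.ed (nat_lit 694) (nat_lit 267) Col.e (nat_lit 247) (Dv.wd (nat_lit 31) [Mv.b (nat_lit 643), Mv.b (nat_lit 485), Mv.f (nat_lit 531), Mv.f (nat_lit 614), Mv.f (nat_lit 692)]))))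
(Tr.nd (nat_lit 696) (Tr.lf (Fc.ed (nat_lit 695) (nat_lit 198) Col.d (nat_lit 268) Dv.df))
(Tr.nd (nat_lit 697) (Tr.lf (Fc.ed (nat_lit 696) (nat_lit 268) Col.g (nat_lit 244) (Dv.wd (nat_lit 89) [Mv.b (nat_lit 637), Mv.b (nat_lit 545), Mv.f (nat_lit 695)])))
(Tr.lf (Fc.ed (nat_lit 697) (nat_lit 268) Col.h (nat_lit 266) (Dv.wd (nat_lit 38) [Mv.f (nat_lit 691), Mv.b (nat_lit 561), Mv.b (nat_lit 441), Mv.f (nat_lit 540), Mv.f (nat_lit 695)])))))))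
(Tr.nd (nat_lit 703) (Tr.nd (nat_lit 700) (Tr.nd (nat_lit 699) (Tr.lf (Fc.ed (nat_lit 698) (nat_lit 254) Col.i (nat_lit 269) Dv.df))
(Tr.lf (Fc.ed (nat_lit 699) (nat_lit 269) Col.e (nat_lit 225) (Dv.wd (nat_lit 42) [Mv.b (nat_lit 597), Mv.f (nat_lit 662), Mv.f (nat_lit 698)]))))
(Tr.nd (nat_lit 701) (Tr.lf (Fc.ed (nat_lit 700) (nat_lit 218) Col.c (nat_lit 270) Dv.df))
(Tr.nd (nat_lit 702) (Tr.lf (Fc.ed (nat_lit 701) (nat_lit 270) Col.f (nat_lit 271) Dv.df))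
(Tr.lf (Fc.ed (nat_lit 702) (nat_lit 271) Col.c (nat_lit 256) (Dv.wd (nat_lit 19) [Mv.b (nat_lit 666), Mv.f (nat_lit 700), Mv.f (nat_lit 701)]))))))
(Tr.nd (nat_lit 705) (Tr.nd (nat_lit 704) (Tr.lf (Fc.ed (nat_lit 703) (nat_lit 236) Col.e (nat_lit 272) Dv.df))
(Tr.lf (Fc.ed (nat_lit 704) (nat_lit 222) Col.c (nat_lit 273) Dv.df)))
(Tr.nd (nat_lit 706) (Tr.lf (Fc.ed (nat_lit 705) (nat_lit 224) Col.e (nat_lit 274) Dv.df))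
(Tr.nd (nat_lit 707) (Tr.lf (Fc.ed (nat_lit 706) (nat_lit 273) Col.i (nat_lit 275) Dv.df))
(Tr.lf (Fc.ed (nat_lit 707) (nat_lit 275) Col.c (nat_lit 215) (Dv.wd (nat_lit 68) [Mv.f (nat_lit 593), Mv.f (nat_lit 704), Mv.f (nat_lit 706)])))))))))
(Tr.nd (nat_lit 727) (Tr.nd (nat_lit 717) (Tr.nd (nat_lit 712) (Tr.nd (nat_lit 710) (Tr.nd (nat_lit 709) (Tr.lf (Fc.ed (nat_lit 708) (nat_lit 223) Col.h (nat_lit 276) Dv.df))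
(Tr.lf (Fc.ed (nat_lit 709) (nat_lit 276) Col.b (nat_lit 251) (Dv.wd (nat_lit 90) [Mv.f (nat_lit 657), Mv.b (nat_lit 595), Mv.f (nat_lit 708)]))))
(Tr.nd (nat_lit 711) (Tr.lf (Fc.ed (nat_lit 710) (nat_lit 219) Col.f (nat_lit 277) Dv.df))
(Tr.lf (Fc.ed (nat_lit 711) (nat_lit 274) Col.i (nat_lit 278) Dv.df))))
(Tr.nd (nat_lit 714) (Tr.nd (nat_lit 713) (Tr.lf (Fc.ed (nat_lit 712) (nat_lit 278) Col.e (nat_lit 214) (Dv.wd (nat_lit 42) [Mv.f (nat_lit 596), Mv.f (nat_lit 705), Mv.f (nat_lit 711)])))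
(Tr.lf (Fc.ed (nat_lit 713) (nat_lit 272) Col.a (nat_lit 278) (Dv.wd (nat_lit 119) [Mv.f (nat_lit 712), Mv.b (nat_lit 622), Mv.f (nat_lit 703)]))))
(Tr.nd (nat_lit 715) (Tr.lf (Fc.ed (nat_lit 714) (nat_lit 238) Col.d (nat_lit 279) Dv.df))
(Tr.nd (nat_lit 716) (Tr.lf (Fc.ed (nat_lit 715) (nat_lit 223) Col.f (nat_lit 280) Dv.df))
(Tr.lf (Fc.ed (nat_lit 716) (nat_lit 277) Col.h (nat_lit 281) Dv.df))))))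
(Tr.nd (nat_lit 722) (Tr.nd (nat_lit 719) (Tr.nd (nat_lit 718) (Tr.lf (Fc.ed (nat_lit 717) (nat_lit 281) Col.f (nat_lit 251) (Dv.wd (nat_lit 37) [Mv.f (nat_lit 657), Mv.f (nat_lit 710), Mv.f (nat_lit 716)])))
(Tr.lf (Fc.ed (nat_lit 718) (nat_lit 280) Col.d (nat_lit 282) Dv.df)))
(Tr.nd (nat_lit 720) (Tr.lf (Fc.ed (nat_lit 719) (nat_lit 282) Col.f (nat_lit 243) (Dv.wd (nat_lit 29) [Mv.f (nat_lit 636), Mv.f (nat_lit 715), Mv.f (nat_lit 718)])))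
(Tr.nd (nat_lit 721) (Tr.lf (Fc.ed (nat_lit 720) (nat_lit 249) Col.d (nat_lit 283) Dv.df))
(Tr.lf (Fc.ed (nat_lit 721) (nat_lit 283) Col.b (nat_lit 283) (Dv.wd (nat_lit 28) [Mv.b (nat_lit 720), Mv.f (nat_lit 648), Mv.f (nat_lit 720)]))))))
(Tr.nd (nat_lit 724) (Tr.nd (nat_lit 723) (Tr.lf (Fc.ed (nat_lit 722) (nat_lit 283) Col.f (nat_lit 283) (Dv.wd (nat_lit 29) [Mv.b (nat_lit 720), Mv.f (nat_lit 651), Mv.f (nat_lit 720)])))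
(Tr.lf (Fc.ed (nat_lit 723) (nat_lit 283) Col.e (nat_lit 283) (Dv.wd (nat_lit 31) [Mv.b (nat_lit 720), Mv.b (nat_lit 647), Mv.f (nat_lit 600), Mv.f (nat_lit 647), Mv.f (nat_lit 720)]))))
(Tr.nd (nat_lit 725) (Tr.lf (Fc.ed (nat_lit 724) (nat_lit 283) Col.h (nat_lit 283) (Dv.wd (nat_lit 38) [Mv.b (nat_lit 720), Mv.f (nat_lit 650), Mv.f (nat_lit 610), Mv.b (nat_lit 650), Mv.f (nat_lit 720)])))
(Tr.nd (nat_lit 726) (Tr.lf (Fc.ed (nat_lit 725) (nat_lit 275) Col.g (nat_lit 284) Dv.df))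
(Tr.lf (Fc.ed (nat_lit 726) (nat_lit 284) Col.c (nat_lit 247) (Dv.wd (nat_lit 13) [Mv.f (nat_lit 644), Mv.b (nat_lit 707), Mv.f (nat_lit 725)]))))))))
(Tr.nd (nat_lit 736) (Tr.nd (nat_lit 731) (Tr.nd (nat_lit 729) (Tr.nd (nat_lit 728) (Tr.lf (Fc.ed (nat_lit 727) (nat_lit 264) Col.c (nat_lit 285) Dv.df))
(Tr.lf (Fc.ed (nat_lit 728) (nat_lit 285) Col.f (nat_lit 285) (Dv.wd (nat_lit 33) [Mv.b (nat_lit 727), Mv.f (nat_lit 685), Mv.f (nat_lit 727)]))))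
(Tr.nd (nat_lit 730) (Tr.lf (Fc.ed (nat_lit 729) (nat_lit 285) Col.d (nat_lit 285) (Dv.wd (nat_lit 35) [Mv.b (nat_lit 727), Mv.b (nat_lit 684), Mv.f (nat_lit 563), Mv.f (nat_lit 684), Mv.f (nat_lit 727)])))
(Tr.lf (Fc.ed (nat_lit 730) (nat_lit 232) Col.c (nat_lit 286) Dv.df))))
(Tr.nd (nat_lit 733) (Tr.nd (nat_lit 732) (Tr.lf (Fc.ed (nat_lit 731) (nat_lit 286) Col.h (nat_lit 273) (Dv.wd (nat_lit 44) [Mv.b (nat_lit 704), Mv.b (nat_lit 613), Mv.f (nat_lit 730)])))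
(Tr.lf (Fc.ed (nat_lit 732) (nat_lit 242) Col.c (nat_lit 287) Dv.df)))
(Tr.nd (nat_lit 734) (Tr.lf (Fc.ed (nat_lit 733) (nat_lit 287) Col.d (nat_lit 286) (Dv.wd (nat_lit 35) [Mv.b (nat_lit 730), Mv.b (nat_lit 612), Mv.f (nat_lit 568), Mv.b (nat_lit 634), Mv.f (nat_lit 732)])))
(Tr.nd (nat_lit 735) (Tr.lf (Fc.ed (nat_lit 734) (nat_lit 239) Col.h (nat_lit 288) Dv.df))
(Tr.lf (Fc.ed (nat_lit 735) (nat_lit 288) Col.b (nat_lit 288) (Dv.wd (nat_lit 90) [Mv.b (nat_lit 734), Mv.f (nat_lit 629), Mv.f (nat_lit 734)])))))))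
(Tr.nd (nat_lit 741) (Tr.nd (nat_lit 738) (Tr.nd (nat_lit 737) (Tr.lf (Fc.ed (nat_lit 736) (nat_lit 288) Col.i (nat_lit 249) (Dv.wd (nat_lit 43) [Mv.f (nat_lit 650), Mv.b (nat_lit 654), Mv.b (nat_lit 655), Mv.f (nat_lit 628), Mv.f (nat_lit 734)])))
(Tr.lf (Fc.ed (nat_lit 737) (nat_lit 254) Col.d (nat_lit 289) Dv.df)))
(Tr.nd (nat_lit 739) (Tr.lf (Fc.ed (nat_lit 738) (nat_lit 213) Col.f (nat_lit 290) Dv.df))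
(Tr.nd (nat_lit 740) (Tr.lf (Fc.ed (nat_lit 739) (nat_lit 245) Col.i (nat_lit 291) Dv.df))
(Tr.lf (Fc.ed (nat_lit 740) (nat_lit 291) Col.c (nat_lit 229) (Dv.wd (nat_lit 68) [Mv.b (nat_lit 607), Mv.f (nat_lit 640), Mv.f (nat_lit 739)]))))))
(Tr.nd (nat_lit 743) (Tr.nd (nat_lit 742) (Tr.lf (Fc.ed (nat_lit 741) (nat_lit 244) Col.c (nat_lit 292) Dv.df))
(Tr.lf (Fc.ed (nat_lit 742) (nat_lit 292) Col.f (nat_lit 292) (Dv.wd (nat_lit 33) [Mv.b (nat_lit 741), Mv.f (nat_lit 638), Mv.f (nat_lit 741)]))))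
(Tr.nd (nat_lit 744) (Tr.lf (Fc.ed (nat_lit 743) (nat_lit 292) Col.h (nat_lit 285) (Dv.wd (nat_lit 44) [Mv.b (nat_lit 727), Mv.f (nat_lit 686), Mv.f (nat_lit 741)])))
(Tr.nd (nat_lit 745) (Tr.lf (Fc.ed (nat_lit 744) (nat_lit 292) Col.i (nat_lit 262) (Dv.wd (nat_lit 34) [Mv.f (nat_lit 680), Mv.b (nat_lit 639), Mv.f (nat_lit 741)])))
(Tr.lf (Fc.ed (nat_lit 745) (nat_lit 283) Col.c (nat_lit 293) Dv.df))))))))))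
(Tr.nd (nat_lit 820) (Tr.nd (nat_lit 783) (Tr.nd (nat_lit 764) (Tr.nd (nat_lit 755) (Tr.nd (nat_lit 750) (Tr.nd (nat_lit 748) (Tr.nd (nat_lit 747) (Tr.lf (Fc.ed (nat_lit 746) (nat_lit 293) Col.e (nat_lit 293) (Dv.wd (nat_lit 32) [Mv.b (nat_lit 745), Mv.f (nat_lit 723), Mv.f (nat_lit 745)])))
(Tr.lf (Fc.ed (nat_lit 747) (nat_lit 293) Col.f (nat_lit 293) (Dv.wd (nat_lit 33) [Mv.b (nat_lit 745), Mv.f (nat_lit 722), Mv.f (nat_lit 745)]))))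
(Tr.nd (nat_lit 749) (Tr.lf (Fc.ed (nat_lit 748) (nat_lit 293) Col.h (nat_lit 293) (Dv.wd (nat_lit 44) [Mv.b (nat_lit 745), Mv.f (nat_lit 724), Mv.f (nat_lit 745)])))
(Tr.lf (Fc.ed (nat_lit 749) (nat_lit 293) Col.d (nat_lit 293) (Dv.wd (nat_lit 35) [Mv.b (nat_lit 745), Mv.b (nat_lit 720), Mv.f (nat_lit 649), Mv.f (nat_lit 720), Mv.f (nat_lit 745)])))))
(Tr.nd (nat_lit 752) (Tr.nd (nat_lit 751) (Tr.lf (Fc.ed (nat_lit 750) (nat_lit 244) Col.e (nat_lit 294) Dv.df))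
(Tr.lf (Fc.ed (nat_lit 751) (nat_lit 294) Col.i (nat_lit 261) (Dv.wd (nat_lit 26) [Mv.b (nat_lit 677), Mv.b (nat_lit 639), Mv.f (nat_lit 750)]))))
(Tr.nd (nat_lit 753) (Tr.lf (Fc.ed (nat_lit 752) (nat_lit 294) Col.d (nat_lit 294) (Dv.wd (nat_lit 39) [Mv.b (nat_lit 750), Mv.b (nat_lit 637), Mv.f (nat_lit 547), Mv.f (nat_lit 637), Mv.f (nat_lit 750)])))
(Tr.nd (nat_lit 754) (Tr.lf (Fc.ed (nat_lit 753) (nat_lit 290) Col.i (nat_lit 295) Dv.df))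
(Tr.lf (Fc.ed (nat_lit 754) (nat_lit 295) Col.f (nat_lit 258) (Dv.wd (nat_lit 52) [Mv.b (nat_lit 670), Mv.f (nat_lit 738), Mv.f (nat_lit 753)])))))))
(Tr.nd (nat_lit 759) (Tr.nd (nat_lit 757) (Tr.nd (nat_lit 756) (Tr.lf (Fc.ed (nat_lit 755) (nat_lit 237) Col.e (nat_lit 296) Dv.df))
(Tr.lf (Fc.ed (nat_lit 756) (nat_lit 296) Col.g (nat_lit 269) (Dv.wd (nat_lit 110) [Mv.f (nat_lit 699), Mv.f (nat_lit 625), Mv.f (nat_lit 755)]))))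
(Tr.nd (nat_lit 758) (Tr.lf (Fc.ed (nat_lit 757) (nat_lit 296) Col.i (nat_lit 257) (Dv.wd (nat_lit 26) [Mv.b (nat_lit 668), Mv.b (nat_lit 624), Mv.f (nat_lit 755)])))
(Tr.lf (Fc.ed (nat_lit 758) (nat_lit 264) Col.e (nat_lit 297) Dv.df))))
(Tr.nd (nat_lit 761) (Tr.nd (nat_lit 760) (Tr.lf (Fc.ed (nat_lit 759) (nat_lit 297) Col.h (nat_lit 294) (Dv.wd (nat_lit 25) [Mv.b (nat_lit 750), Mv.b (nat_lit 686), Mv.f (nat_lit 758)])))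
(Tr.lf (Fc.ed (nat_lit 760) (nat_lit 255) Col.f (nat_lit 298) Dv.df)))
(Tr.nd (nat_lit 762) (Tr.lf (Fc.ed (nat_lit 761) (nat_lit 298) Col.h (nat_lit 282) (Dv.wd (nat_lit 21) [Mv.f (nat_lit 719), Mv.f (nat_lit 663), Mv.f (nat_lit 760)])))
(Tr.nd (nat_lit 763) (Tr.lf (Fc.ed (nat_lit 762) (nat_lit 276) Col.f (nat_lit 299) Dv.df))
(Tr.lf (Fc.ed (nat_lit 763) (nat_lit 299) Col.b (nat_lit 281) (Dv.wd (nat_lit 18) [Mv.f (nat_lit 717), Mv.b (nat_lit 709), Mv.f (nat_lit 762)]))))))))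
(Tr.nd (nat_lit 773) (Tr.nd (nat_lit 768) (Tr.nd (nat_lit 766) (Tr.nd (nat_lit 765) (Tr.lf (Fc.ed (nat_lit 764) (nat_lit 299) Col.h (nat_lit 280) (Dv.wd (nat_lit 21) [Mv.b (nat_lit 715), Mv.f (nat_lit 708), Mv.f (nat_lit 762)])))
(Tr.lf (Fc.ed (nat_lit 765) (nat_lit 214) Col.c (nat_lit 300) Dv.df)))
(Tr.nd (nat_lit 767) (Tr.lf (Fc.ed (nat_lit 766) (nat_lit 300) Col.g (nat_lit 245) (Dv.wd (nat_lit 118) [Mv.b (nat_lit 640), Mv.f (nat_lit 605), Mv.f (nat_lit 765)])))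
(Tr.lf (Fc.ed (nat_lit 767) (nat_lit 286) Col.e (nat_lit 301) Dv.df))))
(Tr.nd (nat_lit 770) (Tr.nd (nat_lit 769) (Tr.lf (Fc.ed (nat_lit 768) (nat_lit 255) Col.d (nat_lit 302) Dv.df))
(Tr.lf (Fc.ed (nat_lit 769) (nat_lit 251) Col.i (nat_lit 303) Dv.df)))
(Tr.nd (nat_lit 771) (Tr.lf (Fc.ed (nat_lit 770) (nat_lit 303) Col.c (nat_lit 296) (Dv.wd (nat_lit 68) [Mv.f (nat_lit 757), Mv.f (nat_lit 669), Mv.f (nat_lit 769)])))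
(Tr.nd (nat_lit 772) (Tr.lf (Fc.ed (nat_lit 771) (nat_lit 268) Col.c (nat_lit 304) Dv.df))
(Tr.lf (Fc.ed (nat_lit 772) (nat_lit 304) Col.g (nat_lit 292) (Dv.wd (nat_lit 118) [Mv.b (nat_lit 741), Mv.b (nat_lit 696), Mv.f (nat_lit 771)])))))))
(Tr.nd (nat_lit 778) (Tr.nd (nat_lit 775) (Tr.nd (nat_lit 774) (Tr.lf (Fc.ed (nat_lit 773) (nat_lit 267) Col.c (nat_lit 305) Dv.df))
(Tr.lf (Fc.ed (nat_lit 774) (nat_lit 305) Col.e (nat_lit 284) (Dv.wd (nat_lit 32) [Mv.f (nat_lit 726), Mv.b (nat_lit 694), Mv.f (nat_lit 773)]))))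
(Tr.nd (nat_lit 776) (Tr.lf (Fc.ed (nat_lit 775) (nat_lit 261) Col.c (nat_lit 306) Dv.df))
(Tr.nd (nat_lit 777) (Tr.lf (Fc.ed (nat_lit 776) (nat_lit 306) Col.e (nat_lit 262) (Dv.wd (nat_lit 32) [Mv.f (nat_lit 680), Mv.f (nat_lit 677), Mv.f (nat_lit 775)])))
(Tr.lf (Fc.ed (nat_lit 777) (nat_lit 262) Col.g (nat_lit 307) Dv.df)))))
(Tr.nd (nat_lit 780) (Tr.nd (nat_lit 779) (Tr.lf (Fc.ed (nat_lit 778) (nat_lit 307) Col.d (nat_lit 300) (Dv.wd (nat_lit 14) [Mv.f (nat_lit 766), Mv.f (nat_lit 679), Mv.f (nat_lit 777)])))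
(Tr.lf (Fc.ed (nat_lit 779) (nat_lit 305) Col.g (nat_lit 308) Dv.df)))
(Tr.nd (nat_lit 781) (Tr.lf (Fc.ed (nat_lit 780) (nat_lit 308) Col.c (nat_lit 235) (Dv.wd (nat_lit 13) [Mv.b (nat_lit 693), Mv.f (nat_lit 773), Mv.f (nat_lit 779)])))
(Tr.nd (nat_lit 782) (Tr.lf (Fc.ed (nat_lit 781) (nat_lit 308) Col.e (nat_lit 275) (Dv.wd (nat_lit 15) [Mv.f (nat_lit 725), Mv.b (nat_lit 774), Mv.f (nat_lit 779)])))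
(Tr.lf (Fc.ed (nat_lit 782) (nat_lit 300) Col.e (nat_lit 309) Dv.df))))))))
(Tr.nd (nat_lit 801) (Tr.nd (nat_lit 792) (Tr.nd (nat_lit 787) (Tr.nd (nat_lit 785) (Tr.nd (nat_lit 784) (Tr.lf (Fc.ed (nat_lit 783) (nat_lit 309) Col.c (nat_lit 278) (Dv.wd (nat_lit 24) [Mv.f (nat_lit 712), Mv.f (nat_lit 765), Mv.f (nat_lit 782)])))
(Tr.lf (Fc.ed (nat_lit 784) (nat_lit 279) Col.i (nat_lit 310) Dv.df)))
(Tr.nd (nat_lit 786) (Tr.lf (Fc.ed (nat_lit 785) (nat_lit 310) Col.d (nat_lit 239) (Dv.wd (nat_lit 41) [Mv.b (nat_lit 628), Mv.f (nat_lit 714), Mv.f (nat_lit 784)])))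
(Tr.lf (Fc.ed (nat_lit 786) (nat_lit 245) Col.b (nat_lit 311) Dv.df))))
(Tr.nd (nat_lit 789) (Tr.nd (nat_lit 788) (Tr.lf (Fc.ed (nat_lit 787) (nat_lit 293) Col.i (nat_lit 312) Dv.df))
(Tr.lf (Fc.ed (nat_lit 788) (nat_lit 312) Col.d (nat_lit 312) (Dv.wd (nat_lit 41) [Mv.b (nat_lit 787), Mv.f (nat_lit 749), Mv.f (nat_lit 787)]))))
(Tr.nd (nat_lit 790) (Tr.lf (Fc.ed (nat_lit 789) (nat_lit 312) Col.e (nat_lit 312) (Dv.wd (nat_lit 42) [Mv.b (nat_lit 787), Mv.f (nat_lit 746), Mv.f (nat_lit 787)])))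
(Tr.nd (nat_lit 791) (Tr.lf (Fc.ed (nat_lit 790) (nat_lit 312) Col.f (nat_lit 312) (Dv.wd (nat_lit 52) [Mv.b (nat_lit 787), Mv.f (nat_lit 747), Mv.f (nat_lit 787)])))
(Tr.lf (Fc.ed (nat_lit 791) (nat_lit 308) Col.i (nat_lit 313) Dv.df))))))
(Tr.nd (nat_lit 796) (Tr.nd (nat_lit 794) (Tr.nd (nat_lit 793) (Tr.lf (Fc.ed (nat_lit 792) (nat_lit 313) Col.c (nat_lit 265) (Dv.wd (nat_lit 68) [Mv.f (nat_lit 688), Mv.b (nat_lit 780), Mv.f (nat_lit 791)])))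
(Tr.lf (Fc.ed (nat_lit 793) (nat_lit 313) Col.e (nat_lit 273) (Dv.wd (nat_lit 42) [Mv.f (nat_lit 706), Mv.b (nat_lit 781), Mv.f (nat_lit 791)]))))
(Tr.nd (nat_lit 795) (Tr.lf (Fc.ed (nat_lit 794) (nat_lit 301) Col.h (nat_lit 313) (Dv.wd (nat_lit 117) [Mv.f (nat_lit 793), Mv.b (nat_lit 731), Mv.f (nat_lit 767)])))
(Tr.lf (Fc.ed (nat_lit 795) (nat_lit 286) Col.b (nat_lit 314) Dv.df))))
(Tr.nd (nat_lit 798) (Tr.nd (nat_lit 797) (Tr.lf (Fc.ed (nat_lit 796) (nat_lit 256) Col.e (nat_lit 315) Dv.df))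
(Tr.lf (Fc.ed (nat_lit 797) (nat_lit 315) Col.d (nat_lit 297) (Dv.wd (nat_lit 39) [Mv.b (nat_lit 758), Mv.b (nat_lit 684), Mv.f (nat_lit 564), Mv.b (nat_lit 667), Mv.f (nat_lit 796)]))))
(Tr.nd (nat_lit 799) (Tr.lf (Fc.ed (nat_lit 798) (nat_lit 294) Col.c (nat_lit 316) Dv.df))
(Tr.nd (nat_lit 800) (Tr.lf (Fc.ed (nat_lit 799) (nat_lit 316) Col.e (nat_lit 292) (Dv.wd (nat_lit 32) [Mv.b (nat_lit 741), Mv.f (nat_lit 750), Mv.f (nat_lit 798)])))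
(Tr.lf (Fc.ed (nat_lit 800) (nat_lit 316) Col.i (nat_lit 306) (Dv.wd (nat_lit 34) [Mv.b (nat_lit 775), Mv.b (nat_lit 751), Mv.f (nat_lit 798)]))))))))
(Tr.nd (nat_lit 810) (Tr.nd (nat_lit 805) (Tr.nd (nat_lit 803) (Tr.nd (nat_lit 802) (Tr.lf (Fc.ed (nat_lit 801) (nat_lit 281) Col.d (nat_lit 317) Dv.df))
(Tr.lf (Fc.ed (nat_lit 802) (nat_lit 294) Col.f (nat_lit 318) Dv.df)))
(Tr.nd (nat_lit 804) (Tr.lf (Fc.ed (nat_lit 803) (nat_lit 318) Col.d (nat_lit 318) (Dv.wd (nat_lit 20) [Mv.b (nat_lit 802), Mv.f (nat_lit 752), Mv.f (nat_lit 802)])))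
(Tr.lf (Fc.ed (nat_lit 804) (nat_lit 272) Col.c (nat_lit 319) Dv.df))))
(Tr.nd (nat_lit 807) (Tr.nd (nat_lit 806) (Tr.lf (Fc.ed (nat_lit 805) (nat_lit 319) Col.a (nat_lit 309) (Dv.wd (nat_lit 97) [Mv.f (nat_lit 783), Mv.b (nat_lit 713), Mv.f (nat_lit 804)])))
(Tr.lf (Fc.ed (nat_lit 806) (nat_lit 259) Col.d (nat_lit 320) Dv.df)))
(Tr.nd (nat_lit 808) (Tr.lf (Fc.ed (nat_lit 807) (nat_lit 320) Col.g (nat_lit 279) (Dv.wd (nat_lit 89) [Mv.b (nat_lit 714), Mv.b (nat_lit 674), Mv.f (nat_lit 806)])))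
(Tr.nd (nat_lit 809) (Tr.lf (Fc.ed (nat_lit 808) (nat_lit 320) Col.e (nat_lit 289) (Dv.wd (nat_lit 31) [Mv.b (nat_lit 737), Mv.b (nat_lit 662), Mv.b (nat_lit 536), Mv.b (nat_lit 673), Mv.f (nat_lit 806)])))
(Tr.lf (Fc.ed (nat_lit 809) (nat_lit 265) Col.f (nat_lit 321) Dv.df))))))
(Tr.nd (nat_lit 815) (Tr.nd (nat_lit 812) (Tr.nd (nat_lit 811) (Tr.lf (Fc.ed (nat_lit 810) (nat_lit 321) Col.d (nat_lit 295) (Dv.wd (nat_lit 20) [Mv.f (nat_lit 754), Mv.b (nat_lit 689), Mv.f (nat_lit 809)])))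
(Tr.lf (Fc.ed (nat_lit 811) (nat_lit 269) Col.d (nat_lit 322) Dv.df)))
(Tr.nd (nat_lit 813) (Tr.lf (Fc.ed (nat_lit 812) (nat_lit 322) Col.i (nat_lit 289) (Dv.wd (nat_lit 30) [Mv.b (nat_lit 737), Mv.f (nat_lit 698), Mv.f (nat_lit 811)])))
(Tr.nd (nat_lit 814) (Tr.lf (Fc.ed (nat_lit 813) (nat_lit 312) Col.h (nat_lit 323) Dv.df))
(Tr.lf (Fc.ed (nat_lit 814) (nat_lit 323) Col.e (nat_lit 323) (Dv.wd (nat_lit 36) [Mv.b (nat_lit 813), Mv.f (nat_lit 789), Mv.f (nat_lit 813)]))))))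
(Tr.nd (nat_lit 817) (Tr.nd (nat_lit 816) (Tr.lf (Fc.ed (nat_lit 815) (nat_lit 323) Col.f (nat_lit 323) (Dv.wd (nat_lit 37) [Mv.b (nat_lit 813), Mv.f (nat_lit 790), Mv.f (nat_lit 813)])))
(Tr.lf (Fc.ed (nat_lit 816) (nat_lit 323) Col.i (nat_lit 323) (Dv.wd (nat_lit 43) [Mv.b (nat_lit 813), Mv.b (nat_lit 787), Mv.f (nat_lit 748), Mv.f (nat_lit 787), Mv.f (nat_lit 813)]))))
(Tr.nd (nat_lit 818) (Tr.lf (Fc.ed (nat_lit 817) (nat_lit 291) Col.b (nat_lit 324) Dv.df))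
(Tr.nd (nat_lit 819) (Tr.lf (Fc.ed (nat_lit 818) (nat_lit 324) Col.i (nat_lit 311) (Dv.wd (nat_lit 46) [Mv.b (nat_lit 786), Mv.f (nat_lit 739), Mv.f (nat_lit 817)])))
(Tr.lf (Fc.ed (nat_lit 819) (nat_lit 262) Col.b (nat_lit 325) Dv.df)))))))))
(Tr.nd (nat_lit 857) (Tr.nd (nat_lit 838) (Tr.nd (nat_lit 829) (Tr.nd (nat_lit 824) (Tr.nd (nat_lit 822) (Tr.nd (nat_lit 821) (Tr.lf (Fc.ed (nat_lit 820) (nat_lit 325) Col.d (nat_lit 311) (Dv.wd (nat_lit 51) [Mv.b (nat_lit 786), Mv.f (nat_lit 679), Mv.f (nat_lit 819)])))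
(Tr.lf (Fc.ed (nat_lit 821) (nat_lit 323) Col.d (nat_lit 326) Dv.df)))
(Tr.nd (nat_lit 823) (Tr.lf (Fc.ed (nat_lit 822) (nat_lit 326) Col.f (nat_lit 326) (Dv.wd (nat_lit 29) [Mv.b (nat_lit 821), Mv.f (nat_lit 815), Mv.f (nat_lit 821)])))
(Tr.lf (Fc.ed (nat_lit 823) (nat_lit 326) Col.i (nat_lit 326) (Dv.wd (nat_lit 30) [Mv.b (nat_lit 821), Mv.f (nat_lit 816), Mv.f (nat_lit 821)])))))
(Tr.nd (nat_lit 826) (Tr.nd (nat_lit 825) (Tr.lf (Fc.ed (nat_lit 824) (nat_lit 326) Col.h (nat_lit 326) (Dv.wd (nat_lit 38) [Mv.b (nat_lit 821), Mv.b (nat_lit 813), Mv.f (nat_lit 788), Mv.f (nat_lit 813), Mv.f (nat_lit 821)])))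
(Tr.lf (Fc.ed (nat_lit 825) (nat_lit 266) Col.e (nat_lit 327) Dv.df)))
(Tr.nd (nat_lit 827) (Tr.lf (Fc.ed (nat_lit 826) (nat_lit 327) Col.g (nat_lit 297) (Dv.wd (nat_lit 110) [Mv.b (nat_lit 758), Mv.f (nat_lit 690), Mv.f (nat_lit 825)])))
(Tr.nd (nat_lit 828) (Tr.lf (Fc.ed (nat_lit 827) (nat_lit 327) Col.h (nat_lit 328) Dv.df))
(Tr.lf (Fc.ed (nat_lit 828) (nat_lit 328) Col.e (nat_lit 268) (Dv.wd (nat_lit 36) [Mv.f (nat_lit 697), Mv.f (nat_lit 825), Mv.f (nat_lit 827)])))))))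
(Tr.nd (nat_lit 833) (Tr.nd (nat_lit 831) (Tr.nd (nat_lit 830) (Tr.lf (Fc.ed (nat_lit 829) (nat_lit 328) Col.g (nat_lit 294) (Dv.wd (nat_lit 112) [Mv.b (nat_lit 759), Mv.b (nat_lit 826), Mv.f (nat_lit 827)])))
(Tr.lf (Fc.ed (nat_lit 830) (nat_lit 328) Col.c (nat_lit 329) Dv.df)))
(Tr.nd (nat_lit 832) (Tr.lf (Fc.ed (nat_lit 831) (nat_lit 329) Col.e (nat_lit 304) (Dv.wd (nat_lit 32) [Mv.b (nat_lit 771), Mv.b (nat_lit 828), Mv.f (nat_lit 830)])))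
(Tr.lf (Fc.ed (nat_lit 832) (nat_lit 329) Col.g (nat_lit 316) (Dv.wd (nat_lit 118) [Mv.b (nat_lit 798), Mv.b (nat_lit 829), Mv.f (nat_lit 830)])))))
(Tr.nd (nat_lit 835) (Tr.nd (nat_lit 834) (Tr.lf (Fc.ed (nat_lit 833) (nat_lit 310) Col.g (nat_lit 330) Dv.df))
(Tr.lf (Fc.ed (nat_lit 834) (nat_lit 330) Col.i (nat_lit 320) (Dv.wd (nat_lit 17) [Mv.f (nat_lit 807), Mv.f (nat_lit 784), Mv.f (nat_lit 833)]))))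
(Tr.nd (nat_lit 836) (Tr.lf (Fc.ed (nat_lit 835) (nat_lit 322) Col.e (nat_lit 330) (Dv.wd (nat_lit 63) [Mv.f (nat_lit 834), Mv.f (nat_lit 808), Mv.b (nat_lit 812)])))
(Tr.nd (nat_lit 837) (Tr.lf (Fc.ed (nat_lit 836) (nat_lit 319) Col.d (nat_lit 331) Dv.df))
(Tr.lf (Fc.ed (nat_lit 837) (nat_lit 276) Col.i (nat_lit 332) Dv.df)))))))
(Tr.nd (nat_lit 847) (Tr.nd (nat_lit 842) (Tr.nd (nat_lit 840) (Tr.nd (nat_lit 839) (Tr.lf (Fc.ed (nat_lit 838) (nat_lit 332) Col.b (nat_lit 303) (Dv.wd (nat_lit 108) [Mv.b (nat_lit 769), Mv.b (nat_lit 709), Mv.f (nat_lit 837)])))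
(Tr.lf (Fc.ed (nat_lit 839) (nat_lit 326) Col.e (nat_lit 333) Dv.df)))
(Tr.nd (nat_lit 841) (Tr.lf (Fc.ed (nat_lit 840) (nat_lit 333) Col.h (nat_lit 333) (Dv.wd (nat_lit 25) [Mv.b (nat_lit 839), Mv.f (nat_lit 824), Mv.f (nat_lit 839)])))
(Tr.lf (Fc.ed (nat_lit 841) (nat_lit 333) Col.i (nat_lit 333) (Dv.wd (nat_lit 26) [Mv.b (nat_lit 839), Mv.f (nat_lit 823), Mv.f (nat_lit 839)])))))
(Tr.nd (nat_lit 844) (Tr.nd (nat_lit 843) (Tr.lf (Fc.ed (nat_lit 842) (nat_lit 333) Col.d (nat_lit 333) (Dv.wd (nat_lit 39) [Mv.b (nat_lit 839), Mv.b (nat_lit 821), Mv.f (nat_lit 814), Mv.f (nat_lit 821), Mv.f (nat_lit 839)])))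
(Tr.lf (Fc.ed (nat_lit 843) (nat_lit 276) Col.d (nat_lit 334) Dv.df)))
(Tr.nd (nat_lit 845) (Tr.lf (Fc.ed (nat_lit 844) (nat_lit 334) Col.h (nat_lit 302) (Dv.wd (nat_lit 38) [Mv.b (nat_lit 768), Mv.b (nat_lit 663), Mv.f (nat_lit 636), Mv.f (nat_lit 708), Mv.f (nat_lit 843)])))
(Tr.nd (nat_lit 846) (Tr.lf (Fc.ed (nat_lit 845) (nat_lit 306) Col.f (nat_lit 335) Dv.df))
(Tr.lf (Fc.ed (nat_lit 846) (nat_lit 263) Col.f (nat_lit 336) Dv.df))))))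
(Tr.nd (nat_lit 852) (Tr.nd (nat_lit 849) (Tr.nd (nat_lit 848) (Tr.lf (Fc.ed (nat_lit 847) (nat_lit 336) Col.c (nat_lit 295) (Dv.wd (nat_lit 19) [Mv.f (nat_lit 754), Mv.b (nat_lit 682), Mv.f (nat_lit 846)])))
(Tr.lf (Fc.ed (nat_lit 848) (nat_lit 336) Col.i (nat_lit 298) (Dv.wd (nat_lit 22) [Mv.b (nat_lit 760), Mv.b (nat_lit 683), Mv.f (nat_lit 846)]))))
(Tr.nd (nat_lit 850) (Tr.lf (Fc.ed (nat_lit 849) (nat_lit 260) Col.d (nat_lit 337) Dv.df))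
(Tr.nd (nat_lit 851) (Tr.lf (Fc.ed (nat_lit 850) (nat_lit 332) Col.d (nat_lit 338) Dv.df))
(Tr.lf (Fc.ed (nat_lit 851) (nat_lit 338) Col.i (nat_lit 334) (Dv.wd (nat_lit 30) [Mv.b (nat_lit 843), Mv.f (nat_lit 837), Mv.f (nat_lit 850)]))))))
(Tr.nd (nat_lit 854) (Tr.nd (nat_lit 853) (Tr.lf (Fc.ed (nat_lit 852) (nat_lit 285) Col.b (nat_lit 339) Dv.df))
(Tr.lf (Fc.ed (nat_lit 853) (nat_lit 339) Col.d (nat_lit 339) (Dv.wd (nat_lit 51) [Mv.b (nat_lit 852), Mv.f (nat_lit 729), Mv.f (nat_lit 852)]))))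
(Tr.nd (nat_lit 855) (Tr.lf (Fc.ed (nat_lit 854) (nat_lit 325) Col.i (nat_lit 340) Dv.df))
(Tr.nd (nat_lit 856) (Tr.lf (Fc.ed (nat_lit 855) (nat_lit 340) Col.b (nat_lit 292) (Dv.wd (nat_lit 108) [Mv.f (nat_lit 744), Mv.f (nat_lit 819), Mv.f (nat_lit 854)])))
(Tr.lf (Fc.ed (nat_lit 856) (nat_lit 340) Col.d (nat_lit 324) (Dv.wd (nat_lit 41) [Mv.f (nat_lit 818), Mv.b (nat_lit 820), Mv.f (nat_lit 854)])))))))))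
(Tr.nd (nat_lit 876) (Tr.nd (nat_lit 866) (Tr.nd (nat_lit 861) (Tr.nd (nat_lit 859) (Tr.nd (nat_lit 858) (Tr.lf (Fc.ed (nat_lit 857) (nat_lit 339) Col.h (nat_lit 340) (Dv.wd (nat_lit 76) [Mv.f (nat_lit 855), Mv.f (nat_lit 743), Mv.f (nat_lit 852)])))
(Tr.lf (Fc.ed (nat_lit 858) (nat_lit 279) Col.c (nat_lit 341) Dv.df)))
(Tr.nd (nat_lit 860) (Tr.lf (Fc.ed (nat_lit 859) (nat_lit 336) Col.d (nat_lit 342) Dv.df))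
(Tr.lf (Fc.ed (nat_lit 860) (nat_lit 308) Col.d (nat_lit 343) Dv.df))))
(Tr.nd (nat_lit 863) (Tr.nd (nat_lit 862) (Tr.lf (Fc.ed (nat_lit 861) (nat_lit 343) Col.c (nat_lit 302) (Dv.wd (nat_lit 109) [Mv.b (nat_lit 768), Mv.b (nat_lit 665), Mv.f (nat_lit 619), Mv.b (nat_lit 780), Mv.f (nat_lit 860)])))
(Tr.lf (Fc.ed (nat_lit 862) (nat_lit 313) Col.f (nat_lit 344) Dv.df)))
(Tr.nd (nat_lit 864) (Tr.lf (Fc.ed (nat_lit 863) (nat_lit 344) Col.c (nat_lit 321) (Dv.wd (nat_lit 19) [Mv.b (nat_lit 809), Mv.b (nat_lit 792), Mv.f (nat_lit 862)])))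
(Tr.nd (nat_lit 865) (Tr.lf (Fc.ed (nat_lit 864) (nat_lit 288) Col.d (nat_lit 345) Dv.df))
(Tr.lf (Fc.ed (nat_lit 865) (nat_lit 345) Col.b (nat_lit 345) (Dv.wd (nat_lit 28) [Mv.b (nat_lit 864), Mv.f (nat_lit 735), Mv.f (nat_lit 864)])))))))
(Tr.nd (nat_lit 871) (Tr.nd (nat_lit 868) (Tr.nd (nat_lit 867) (Tr.lf (Fc.ed (nat_lit 866) (nat_lit 345) Col.i (nat_lit 283) (Dv.wd (nat_lit 30) [Mv.b (nat_lit 720), Mv.b (nat_lit 736), Mv.f (nat_lit 864)])))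
(Tr.lf (Fc.ed (nat_lit 867) (nat_lit 312) Col.c (nat_lit 345) (Dv.wd (nat_lit 57) [Mv.f (nat_lit 866), Mv.f (nat_lit 745), Mv.f (nat_lit 787)]))))
(Tr.nd (nat_lit 869) (Tr.lf (Fc.ed (nat_lit 868) (nat_lit 322) Col.g (nat_lit 346) Dv.df))
(Tr.nd (nat_lit 870) (Tr.lf (Fc.ed (nat_lit 869) (nat_lit 346) Col.d (nat_lit 296) (Dv.wd (nat_lit 14) [Mv.f (nat_lit 756), Mv.f (nat_lit 811), Mv.f (nat_lit 868)])))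
(Tr.lf (Fc.ed (nat_lit 870) (nat_lit 346) Col.e (nat_lit 310) (Dv.wd (nat_lit 15) [Mv.f (nat_lit 833), Mv.b (nat_lit 835), Mv.f (nat_lit 868)]))))))
(Tr.nd (nat_lit 873) (Tr.nd (nat_lit 872) (Tr.lf (Fc.ed (nat_lit 871) (nat_lit 287) Col.b (nat_lit 347) Dv.df))
(Tr.lf (Fc.ed (nat_lit 872) (nat_lit 347) Col.d (nat_lit 314) (Dv.wd (nat_lit 51) [Mv.b (nat_lit 795), Mv.b (nat_lit 733), Mv.f (nat_lit 871)]))))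
(Tr.nd (nat_lit 874) (Tr.lf (Fc.ed (nat_lit 873) (nat_lit 337) Col.g (nat_lit 348) Dv.df))
(Tr.nd (nat_lit 875) (Tr.lf (Fc.ed (nat_lit 874) (nat_lit 348) Col.d (nat_lit 251) (Dv.wd (nat_lit 14) [Mv.b (nat_lit 676), Mv.f (nat_lit 849), Mv.f (nat_lit 873)])))
(Tr.lf (Fc.ed (nat_lit 875) (nat_lit 317) Col.f (nat_lit 348) (Dv.wd (nat_lit 120) [Mv.f (nat_lit 874), Mv.b (nat_lit 717), Mv.f (nat_lit 801)]))))))))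
(Tr.nd (nat_lit 885) (Tr.nd (nat_lit 880) (Tr.nd (nat_lit 878) (Tr.nd (nat_lit 877) (Tr.lf (Fc.ed (nat_lit 876) (nat_lit 309) Col.d (nat_lit 349) Dv.df))
(Tr.lf (Fc.ed (nat_lit 877) (nat_lit 349) Col.a (nat_lit 331) (Dv.wd (nat_lit 113) [Mv.b (nat_lit 836), Mv.f (nat_lit 805), Mv.f (nat_lit 876)]))))
(Tr.nd (nat_lit 879) (Tr.lf (Fc.ed (nat_lit 878) (nat_lit 297) Col.c (nat_lit 350) Dv.df))
(Tr.lf (Fc.ed (nat_lit 879) (nat_lit 350) Col.e (nat_lit 285) (Dv.wd (nat_lit 32) [Mv.b (nat_lit 727), Mv.f (nat_lit 758), Mv.f (nat_lit 878)])))))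
(Tr.nd (nat_lit 882) (Tr.nd (nat_lit 881) (Tr.lf (Fc.ed (nat_lit 880) (nat_lit 350) Col.h (nat_lit 316) (Dv.wd (nat_lit 44) [Mv.b (nat_lit 798), Mv.b (nat_lit 759), Mv.f (nat_lit 878)])))
(Tr.lf (Fc.ed (nat_lit 881) (nat_lit 263) Col.d (nat_lit 351) Dv.df)))
(Tr.nd (nat_lit 883) (Tr.lf (Fc.ed (nat_lit 882) (nat_lit 348) Col.c (nat_lit 352) Dv.df))
(Tr.nd (nat_lit 884) (Tr.lf (Fc.ed (nat_lit 883) (nat_lit 271) Col.e (nat_lit 353) Dv.df))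
(Tr.lf (Fc.ed (nat_lit 884) (nat_lit 353) Col.c (nat_lit 315) (Dv.wd (nat_lit 24) [Mv.b (nat_lit 796), Mv.b (nat_lit 702), Mv.f (nat_lit 883)])))))))
(Tr.nd (nat_lit 890) (Tr.nd (nat_lit 887) (Tr.nd (nat_lit 886) (Tr.lf (Fc.ed (nat_lit 885) (nat_lit 313) Col.d (nat_lit 354) Dv.df))
(Tr.lf (Fc.ed (nat_lit 886) (nat_lit 354) Col.i (nat_lit 343) (Dv.wd (nat_lit 30) [Mv.b (nat_lit 860), Mv.f (nat_lit 791), Mv.f (nat_lit 885)]))))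
(Tr.nd (nat_lit 888) (Tr.lf (Fc.ed (nat_lit 887) (nat_lit 354) Col.c (nat_lit 351) (Dv.wd (nat_lit 109) [Mv.b (nat_lit 881), Mv.f (nat_lit 682), Mv.b (nat_lit 689), Mv.b (nat_lit 792), Mv.f (nat_lit 885)])))
(Tr.nd (nat_lit 889) (Tr.lf (Fc.ed (nat_lit 888) (nat_lit 316) Col.d (nat_lit 355) Dv.df))
(Tr.lf (Fc.ed (nat_lit 889) (nat_lit 303) Col.d (nat_lit 356) Dv.df)))))
(Tr.nd (nat_lit 892) (Tr.nd (nat_lit 891) (Tr.lf (Fc.ed (nat_lit 890) (nat_lit 356) Col.b (nat_lit 338) (Dv.wd (nat_lit 28) [Mv.b (nat_lit 850), Mv.f (nat_lit 838), Mv.f (nat_lit 889)])))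
(Tr.lf (Fc.ed (nat_lit 891) (nat_lit 356) Col.i (nat_lit 348) (Dv.wd (nat_lit 30) [Mv.f (nat_lit 874), Mv.f (nat_lit 769), Mv.f (nat_lit 889)]))))
(Tr.nd (nat_lit 893) (Tr.lf (Fc.ed (nat_lit 892) (nat_lit 316) Col.f (nat_lit 357) Dv.df))
(Tr.nd (nat_lit 894) (Tr.lf (Fc.ed (nat_lit 893) (nat_lit 357) Col.c (nat_lit 318) (Dv.wd (nat_lit 19) [Mv.b (nat_lit 802), Mv.f (nat_lit 798), Mv.f (nat_lit 892)])))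
(Tr.lf (Fc.ed (nat_lit 894) (nat_lit 357) Col.i (nat_lit 335) (Dv.wd (nat_lit 22) [Mv.b (nat_lit 845), Mv.b (nat_lit 800), Mv.f (nat_lit 892)]))))))))))))
(Tr.nd (nat_lit 1044) (Tr.nd (nat_lit 969) (Tr.nd (nat_lit 932) (Tr.nd (nat_lit 913) (Tr.nd (nat_lit 904) (Tr.nd (nat_lit 899) (Tr.nd (nat_lit 897) (Tr.nd (nat_lit 896) (Tr.lf (Fc.ed (nat_lit 895) (nat_lit 357) Col.e (nat_lit 357) (Dv.wd (nat_lit 40) [Mv.b (nat_lit 892), Mv.f (nat_lit 799), Mv.f (nat_lit 742), Mv.b (nat_lit 799), Mv.f (nat_lit 892)])))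
(Tr.lf (Fc.ed (nat_lit 896) (nat_lit 304) Col.b (nat_lit 358) Dv.df)))
(Tr.nd (nat_lit 898) (Tr.lf (Fc.ed (nat_lit 897) (nat_lit 358) Col.g (nat_lit 340) (Dv.wd (nat_lit 121) [Mv.f (nat_lit 855), Mv.b (nat_lit 772), Mv.f (nat_lit 896)])))
(Tr.lf (Fc.ed (nat_lit 898) (nat_lit 299) Col.d (nat_lit 359) Dv.df))))
(Tr.nd (nat_lit 901) (Tr.nd (nat_lit 900) (Tr.lf (Fc.ed (nat_lit 899) (nat_lit 359) Col.b (nat_lit 317) (Dv.wd (nat_lit 28) [Mv.b (nat_lit 801), Mv.b (nat_lit 763), Mv.f (nat_lit 898)])))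
(Tr.lf (Fc.ed (nat_lit 900) (nat_lit 307) Col.e (nat_lit 360) Dv.df)))
(Tr.nd (nat_lit 902) (Tr.lf (Fc.ed (nat_lit 901) (nat_lit 360) Col.g (nat_lit 306) (Dv.wd (nat_lit 110) [Mv.f (nat_lit 776), Mv.f (nat_lit 777), Mv.f (nat_lit 900)])))
(Tr.nd (nat_lit 903) (Tr.lf (Fc.ed (nat_lit 902) (nat_lit 334) Col.c (nat_lit 361) Dv.df))
(Tr.lf (Fc.ed (nat_lit 903) (nat_lit 361) Col.h (nat_lit 343) (Dv.wd (nat_lit 44) [Mv.f (nat_lit 861), Mv.b (nat_lit 844), Mv.f (nat_lit 902)])))))))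
(Tr.nd (nat_lit 908) (Tr.nd (nat_lit 906) (Tr.nd (nat_lit 905) (Tr.lf (Fc.ed (nat_lit 904) (nat_lit 350) Col.f (nat_lit 362) Dv.df))
(Tr.lf (Fc.ed (nat_lit 905) (nat_lit 362) Col.h (nat_lit 357) (Dv.wd (nat_lit 21) [Mv.b (nat_lit 892), Mv.b (nat_lit 880), Mv.f (nat_lit 904)]))))
(Tr.nd (nat_lit 907) (Tr.lf (Fc.ed (nat_lit 906) (nat_lit 362) Col.e (nat_lit 362) (Dv.wd (nat_lit 40) [Mv.b (nat_lit 904), Mv.f (nat_lit 879), Mv.f (nat_lit 728), Mv.b (nat_lit 879), Mv.f (nat_lit 904)])))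
(Tr.lf (Fc.ed (nat_lit 907) (nat_lit 344) Col.d (nat_lit 363) Dv.df))))
(Tr.nd (nat_lit 910) (Tr.nd (nat_lit 909) (Tr.lf (Fc.ed (nat_lit 908) (nat_lit 363) Col.f (nat_lit 354) (Dv.wd (nat_lit 29) [Mv.b (nat_lit 885), Mv.f (nat_lit 862), Mv.f (nat_lit 907)])))
(Tr.lf (Fc.ed (nat_lit 909) (nat_lit 363) Col.c (nat_lit 342) (Dv.wd (nat_lit 109) [Mv.b (nat_lit 859), Mv.f (nat_lit 847), Mv.b (nat_lit 810), Mv.b (nat_lit 863), Mv.f (nat_lit 907)]))))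
(Tr.nd (nat_lit 911) (Tr.lf (Fc.ed (nat_lit 910) (nat_lit 298) Col.d (nat_lit 364) Dv.df))
(Tr.nd (nat_lit 912) (Tr.lf (Fc.ed (nat_lit 911) (nat_lit 364) Col.i (nat_lit 342) (Dv.wd (nat_lit 30) [Mv.b (nat_lit 859), Mv.f (nat_lit 848), Mv.f (nat_lit 910)])))
(Tr.lf (Fc.ed (nat_lit 912) (nat_lit 364) Col.h (nat_lit 359) (Dv.wd (nat_lit 38) [Mv.b (nat_lit 898), Mv.f (nat_lit 764), Mv.f (nat_lit 718), Mv.b (nat_lit 761), Mv.f (nat_lit 910)]))))))))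
(Tr.nd (nat_lit 922) (Tr.nd (nat_lit 917) (Tr.nd (nat_lit 915) (Tr.nd (nat_lit 914) (Tr.lf (Fc.ed (nat_lit 913) (nat_lit 301) Col.b (nat_lit 365) Dv.df))
(Tr.lf (Fc.ed (nat_lit 914) (nat_lit 365) Col.e (nat_lit 314) (Dv.wd (nat_lit 49) [Mv.b (nat_lit 795), Mv.f (nat_lit 767), Mv.f (nat_lit 913)]))))
(Tr.nd (nat_lit 916) (Tr.lf (Fc.ed (nat_lit 915) (nat_lit 261) Col.f (nat_lit 366) Dv.df))
(Tr.lf (Fc.ed (nat_lit 916) (nat_lit 366) Col.c (nat_lit 335) (Dv.wd (nat_lit 19) [Mv.b (nat_lit 845), Mv.b (nat_lit 775), Mv.f (nat_lit 915)])))))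
(Tr.nd (nat_lit 919) (Tr.nd (nat_lit 918) (Tr.lf (Fc.ed (nat_lit 917) (nat_lit 366) Col.h (nat_lit 366) (Dv.wd (nat_lit 21) [Mv.b (nat_lit 915), Mv.f (nat_lit 678), Mv.f (nat_lit 915)])))
(Tr.lf (Fc.ed (nat_lit 918) (nat_lit 366) Col.i (nat_lit 318) (Dv.wd (nat_lit 22) [Mv.b (nat_lit 802), Mv.f (nat_lit 751), Mv.f (nat_lit 915)]))))
(Tr.nd (nat_lit 920) (Tr.lf (Fc.ed (nat_lit 919) (nat_lit 365) Col.h (nat_lit 367) Dv.df))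
(Tr.nd (nat_lit 921) (Tr.lf (Fc.ed (nat_lit 920) (nat_lit 367) Col.b (nat_lit 313) (Dv.wd (nat_lit 90) [Mv.b (nat_lit 794), Mv.f (nat_lit 913), Mv.f (nat_lit 919)])))
(Tr.lf (Fc.ed (nat_lit 921) (nat_lit 333) Col.b (nat_lit 368) Dv.df))))))
(Tr.nd (nat_lit 927) (Tr.nd (nat_lit 924) (Tr.nd (nat_lit 923) (Tr.lf (Fc.ed (nat_lit 922) (nat_lit 368) Col.h (nat_lit 368) (Dv.wd (nat_lit 45) [Mv.b (nat_lit 921), Mv.f (nat_lit 840), Mv.f (nat_lit 921)])))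
(Tr.lf (Fc.ed (nat_lit 923) (nat_lit 368) Col.i (nat_lit 368) (Dv.wd (nat_lit 46) [Mv.b (nat_lit 921), Mv.f (nat_lit 841), Mv.f (nat_lit 921)]))))
(Tr.nd (nat_lit 925) (Tr.lf (Fc.ed (nat_lit 924) (nat_lit 301) Col.d (nat_lit 369) Dv.df))
(Tr.nd (nat_lit 926) (Tr.lf (Fc.ed (nat_lit 925) (nat_lit 341) Col.i (nat_lit 370) Dv.df))
(Tr.lf (Fc.ed (nat_lit 926) (nat_lit 370) Col.c (nat_lit 310) (Dv.wd (nat_lit 68) [Mv.b (nat_lit 784), Mv.f (nat_lit 858), Mv.f (nat_lit 925)]))))))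
(Tr.nd (nat_lit 929) (Tr.nd (nat_lit 928) (Tr.lf (Fc.ed (nat_lit 927) (nat_lit 310) Col.h (nat_lit 371) Dv.df))
(Tr.lf (Fc.ed (nat_lit 928) (nat_lit 345) Col.h (nat_lit 372) Dv.df)))
(Tr.nd (nat_lit 930) (Tr.lf (Fc.ed (nat_lit 929) (nat_lit 372) Col.b (nat_lit 372) (Dv.wd (nat_lit 90) [Mv.b (nat_lit 928), Mv.f (nat_lit 865), Mv.f (nat_lit 928)])))
(Tr.nd (nat_lit 931) (Tr.lf (Fc.ed (nat_lit 930) (nat_lit 372) Col.c (nat_lit 323) (Dv.wd (nat_lit 50) [Mv.b (nat_lit 813), Mv.f (nat_lit 867), Mv.f (nat_lit 928)])))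
(Tr.lf (Fc.ed (nat_lit 931) (nat_lit 372) Col.d (nat_lit 371) (Dv.wd (nat_lit 48) [Mv.b (nat_lit 927), Mv.f (nat_lit 785), Mv.f (nat_lit 734), Mv.f (nat_lit 864), Mv.f (nat_lit 928)])))))))))
(Tr.nd (nat_lit 950) (Tr.nd (nat_lit 941) (Tr.nd (nat_lit 936) (Tr.nd (nat_lit 934) (Tr.nd (nat_lit 933) (Tr.lf (Fc.ed (nat_lit 932) (nat_lit 349) Col.e (nat_lit 373) Dv.df))
(Tr.lf (Fc.ed (nat_lit 933) (nat_lit 373) Col.d (nat_lit 360) (Dv.wd (nat_lit 39) [Mv.b (nat_lit 900), Mv.f (nat_lit 778), Mv.f (nat_lit 782), Mv.f (nat_lit 876), Mv.f (nat_lit 932)]))))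
(Tr.nd (nat_lit 935) (Tr.lf (Fc.ed (nat_lit 934) (nat_lit 355) Col.f (nat_lit 374) Dv.df))
(Tr.lf (Fc.ed (nat_lit 935) (nat_lit 374) Col.d (nat_lit 357) (Dv.wd (nat_lit 20) [Mv.b (nat_lit 892), Mv.f (nat_lit 888), Mv.f (nat_lit 934)])))))
(Tr.nd (nat_lit 938) (Tr.nd (nat_lit 937) (Tr.lf (Fc.ed (nat_lit 936) (nat_lit 350) Col.d (nat_lit 375) Dv.df))
(Tr.lf (Fc.ed (nat_lit 937) (nat_lit 375) Col.e (nat_lit 375) (Dv.wd (nat_lit 31) [Mv.b (nat_lit 936), Mv.f (nat_lit 879), Mv.f (nat_lit 729), Mv.b (nat_lit 879), Mv.f (nat_lit 936)]))))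
(Tr.nd (nat_lit 939) (Tr.lf (Fc.ed (nat_lit 938) (nat_lit 365) Col.d (nat_lit 376) Dv.df))
(Tr.nd (nat_lit 940) (Tr.lf (Fc.ed (nat_lit 939) (nat_lit 376) Col.b (nat_lit 369) (Dv.wd (nat_lit 28) [Mv.b (nat_lit 924), Mv.f (nat_lit 913), Mv.f (nat_lit 938)])))
(Tr.lf (Fc.ed (nat_lit 940) (nat_lit 308) Col.b (nat_lit 377) Dv.df))))))
(Tr.nd (nat_lit 945) (Tr.nd (nat_lit 943) (Tr.nd (nat_lit 942) (Tr.lf (Fc.ed (nat_lit 941) (nat_lit 377) Col.i (nat_lit 367) (Dv.wd (nat_lit 46) [Mv.f (nat_lit 920), Mv.b (nat_lit 791), Mv.f (nat_lit 940)])))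
(Tr.lf (Fc.ed (nat_lit 942) (nat_lit 356) Col.f (nat_lit 378) Dv.df)))
(Tr.nd (nat_lit 944) (Tr.lf (Fc.ed (nat_lit 943) (nat_lit 378) Col.i (nat_lit 317) (Dv.wd (nat_lit 22) [Mv.f (nat_lit 875), Mv.b (nat_lit 891), Mv.f (nat_lit 942)])))
(Tr.lf (Fc.ed (nat_lit 944) (nat_lit 378) Col.b (nat_lit 379) Dv.df))))
(Tr.nd (nat_lit 947) (Tr.nd (nat_lit 946) (Tr.lf (Fc.ed (nat_lit 945) (nat_lit 379) Col.i (nat_lit 359) (Dv.wd (nat_lit 46) [Mv.f (nat_lit 899), Mv.b (nat_lit 943), Mv.f (nat_lit 944)])))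
(Tr.lf (Fc.ed (nat_lit 946) (nat_lit 333) Col.c (nat_lit 380) Dv.df)))
(Tr.nd (nat_lit 948) (Tr.lf (Fc.ed (nat_lit 947) (nat_lit 331) Col.e (nat_lit 381) Dv.df))
(Tr.nd (nat_lit 949) (Tr.lf (Fc.ed (nat_lit 948) (nat_lit 381) Col.a (nat_lit 373) (Dv.wd (nat_lit 87) [Mv.b (nat_lit 932), Mv.f (nat_lit 877), Mv.f (nat_lit 947)])))
(Tr.lf (Fc.ed (nat_lit 949) (nat_lit 352) Col.i (nat_lit 382) Dv.df)))))))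
(Tr.nd (nat_lit 959) (Tr.nd (nat_lit 954) (Tr.nd (nat_lit 952) (Tr.nd (nat_lit 951) (Tr.lf (Fc.ed (nat_lit 950) (nat_lit 382) Col.c (nat_lit 356) (Dv.wd (nat_lit 68) [Mv.f (nat_lit 891), Mv.f (nat_lit 882), Mv.f (nat_lit 949)])))
(Tr.lf (Fc.ed (nat_lit 951) (nat_lit 338) Col.c (nat_lit 383) Dv.df)))
(Tr.nd (nat_lit 953) (Tr.lf (Fc.ed (nat_lit 952) (nat_lit 383) Col.i (nat_lit 361) (Dv.wd (nat_lit 34) [Mv.b (nat_lit 902), Mv.b (nat_lit 851), Mv.f (nat_lit 951)])))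
(Tr.lf (Fc.ed (nat_lit 953) (nat_lit 329) Col.b (nat_lit 384) Dv.df))))
(Tr.nd (nat_lit 956) (Tr.nd (nat_lit 955) (Tr.lf (Fc.ed (nat_lit 954) (nat_lit 384) Col.e (nat_lit 358) (Dv.wd (nat_lit 49) [Mv.b (nat_lit 896), Mv.b (nat_lit 831), Mv.f (nat_lit 953)])))
(Tr.lf (Fc.ed (nat_lit 955) (nat_lit 326) Col.b (nat_lit 385) Dv.df)))
(Tr.nd (nat_lit 957) (Tr.lf (Fc.ed (nat_lit 956) (nat_lit 385) Col.e (nat_lit 368) (Dv.wd (nat_lit 49) [Mv.b (nat_lit 921), Mv.b (nat_lit 839), Mv.f (nat_lit 955)])))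
(Tr.nd (nat_lit 958) (Tr.lf (Fc.ed (nat_lit 957) (nat_lit 356) Col.h (nat_lit 386) Dv.df))
(Tr.lf (Fc.ed (nat_lit 958) (nat_lit 323) Col.b (nat_lit 387) Dv.df))))))
(Tr.nd (nat_lit 964) (Tr.nd (nat_lit 961) (Tr.nd (nat_lit 960) (Tr.lf (Fc.ed (nat_lit 959) (nat_lit 387) Col.d (nat_lit 385) (Dv.wd (nat_lit 51) [Mv.b (nat_lit 955), Mv.b (nat_lit 821), Mv.f (nat_lit 958)])))
(Tr.lf (Fc.ed (nat_lit 960) (nat_lit 387) Col.c (nat_lit 387) (Dv.wd (nat_lit 122) [Mv.b (nat_lit 958), Mv.b (nat_lit 930), Mv.f (nat_lit 929), Mv.f (nat_lit 930), Mv.f (nat_lit 958)]))))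
(Tr.nd (nat_lit 962) (Tr.lf (Fc.ed (nat_lit 961) (nat_lit 346) Col.c (nat_lit 388) Dv.df))
(Tr.nd (nat_lit 963) (Tr.lf (Fc.ed (nat_lit 962) (nat_lit 388) Col.e (nat_lit 370) (Dv.wd (nat_lit 32) [Mv.f (nat_lit 926), Mv.b (nat_lit 870), Mv.f (nat_lit 961)])))
(Tr.lf (Fc.ed (nat_lit 963) (nat_lit 388) Col.d (nat_lit 382) (Dv.wd (nat_lit 35) [Mv.f (nat_lit 950), Mv.b (nat_lit 889), Mv.f (nat_lit 770), Mv.b (nat_lit 869), Mv.f (nat_lit 961)]))))))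
(Tr.nd (nat_lit 966) (Tr.nd (nat_lit 965) (Tr.lf (Fc.ed (nat_lit 964) (nat_lit 306) Col.d (nat_lit 389) Dv.df))
(Tr.lf (Fc.ed (nat_lit 965) (nat_lit 389) Col.g (nat_lit 373) (Dv.wd (nat_lit 89) [Mv.f (nat_lit 933), Mv.f (nat_lit 901), Mv.f (nat_lit 964)]))))
(Tr.nd (nat_lit 967) (Tr.lf (Fc.ed (nat_lit 966) (nat_lit 389) Col.i (nat_lit 355) (Dv.wd (nat_lit 30) [Mv.b (nat_lit 888), Mv.f (nat_lit 800), Mv.f (nat_lit 964)])))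
(Tr.nd (nat_lit 968) (Tr.lf (Fc.ed (nat_lit 967) (nat_lit 338) Col.h (nat_lit 390) Dv.df))
(Tr.lf (Fc.ed (nat_lit 968) (nat_lit 390) Col.b (nat_lit 386) (Dv.wd (nat_lit 90) [Mv.b (nat_lit 957), Mv.f (nat_lit 890), Mv.f (nat_lit 967)]))))))))))
(Tr.nd (nat_lit 1006) (Tr.nd (nat_lit 987) (Tr.nd (nat_lit 978) (Tr.nd (nat_lit 973) (Tr.nd (nat_lit 971) (Tr.nd (nat_lit 970) (Tr.lf (Fc.ed (nat_lit 969) (nat_lit 368) Col.c (nat_lit 391) Dv.df))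
(Tr.lf (Fc.ed (nat_lit 970) (nat_lit 391) Col.h (nat_lit 391) (Dv.wd (nat_lit 44) [Mv.b (nat_lit 969), Mv.f (nat_lit 922), Mv.f (nat_lit 969)]))))
(Tr.nd (nat_lit 972) (Tr.lf (Fc.ed (nat_lit 971) (nat_lit 391) Col.i (nat_lit 391) (Dv.wd (nat_lit 34) [Mv.b (nat_lit 969), Mv.f (nat_lit 923), Mv.f (nat_lit 969)])))
(Tr.lf (Fc.ed (nat_lit 972) (nat_lit 339) Col.e (nat_lit 392) Dv.df))))
(Tr.nd (nat_lit 975) (Tr.nd (nat_lit 974) (Tr.lf (Fc.ed (nat_lit 973) (nat_lit 392) Col.b (nat_lit 350) (Dv.wd (nat_lit 23) [Mv.f (nat_lit 879), Mv.f (nat_lit 852), Mv.f (nat_lit 972)])))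
(Tr.lf (Fc.ed (nat_lit 974) (nat_lit 379) Col.h (nat_lit 393) Dv.df)))
(Tr.nd (nat_lit 976) (Tr.lf (Fc.ed (nat_lit 975) (nat_lit 384) Col.g (nat_lit 394) Dv.df))
(Tr.nd (nat_lit 977) (Tr.lf (Fc.ed (nat_lit 976) (nat_lit 394) Col.b (nat_lit 316) (Dv.wd (nat_lit 12) [Mv.b (nat_lit 832), Mv.f (nat_lit 953), Mv.f (nat_lit 975)])))
(Tr.lf (Fc.ed (nat_lit 977) (nat_lit 394) Col.e (nat_lit 340) (Dv.wd (nat_lit 15) [Mv.b (nat_lit 897), Mv.b (nat_lit 954), Mv.f (nat_lit 975)])))))))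
(Tr.nd (nat_lit 982) (Tr.nd (nat_lit 980) (Tr.nd (nat_lit 979) (Tr.lf (Fc.ed (nat_lit 978) (nat_lit 374) Col.i (nat_lit 395) Dv.df))
(Tr.lf (Fc.ed (nat_lit 979) (nat_lit 395) Col.d (nat_lit 335) (Dv.wd (nat_lit 41) [Mv.b (nat_lit 894), Mv.b (nat_lit 935), Mv.f (nat_lit 978)]))))
(Tr.nd (nat_lit 981) (Tr.lf (Fc.ed (nat_lit 980) (nat_lit 381) Col.h (nat_lit 396) Dv.df))
(Tr.lf (Fc.ed (nat_lit 981) (nat_lit 343) Col.b (nat_lit 397) Dv.df))))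
(Tr.nd (nat_lit 984) (Tr.nd (nat_lit 983) (Tr.lf (Fc.ed (nat_lit 982) (nat_lit 397) Col.d (nat_lit 377) (Dv.wd (nat_lit 51) [Mv.b (nat_lit 940), Mv.f (nat_lit 860), Mv.f (nat_lit 981)])))
(Tr.lf (Fc.ed (nat_lit 983) (nat_lit 362) Col.d (nat_lit 398) Dv.df)))
(Tr.nd (nat_lit 985) (Tr.lf (Fc.ed (nat_lit 984) (nat_lit 398) Col.f (nat_lit 375) (Dv.wd (nat_lit 29) [Mv.b (nat_lit 936), Mv.f (nat_lit 904), Mv.f (nat_lit 983)])))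
(Tr.nd (nat_lit 986) (Tr.lf (Fc.ed (nat_lit 985) (nat_lit 393) Col.i (nat_lit 399) Dv.df))
(Tr.lf (Fc.ed (nat_lit 986) (nat_lit 399) Col.h (nat_lit 342) (Dv.wd (nat_lit 47) [Mv.b (nat_lit 911), Mv.f (nat_lit 912), Mv.b (nat_lit 945), Mv.f (nat_lit 974), Mv.f (nat_lit 985)]))))))))
(Tr.nd (nat_lit 996) (Tr.nd (nat_lit 991) (Tr.nd (nat_lit 989) (Tr.nd (nat_lit 988) (Tr.lf (Fc.ed (nat_lit 987) (nat_lit 355) Col.b (nat_lit 400) Dv.df))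
(Tr.lf (Fc.ed (nat_lit 988) (nat_lit 400) Col.d (nat_lit 394) (Dv.wd (nat_lit 51) [Mv.f (nat_lit 976), Mv.f (nat_lit 888), Mv.f (nat_lit 987)]))))
(Tr.nd (nat_lit 990) (Tr.lf (Fc.ed (nat_lit 989) (nat_lit 353) Col.d (nat_lit 401) Dv.df))
(Tr.lf (Fc.ed (nat_lit 990) (nat_lit 401) Col.c (nat_lit 375) (Dv.wd (nat_lit 109) [Mv.b (nat_lit 936), Mv.b (nat_lit 878), Mv.b (nat_lit 797), Mv.b (nat_lit 884), Mv.f (nat_lit 989)])))))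
(Tr.nd (nat_lit 993) (Tr.nd (nat_lit 992) (Tr.lf (Fc.ed (nat_lit 991) (nat_lit 391) Col.d (nat_lit 402) Dv.df))
(Tr.lf (Fc.ed (nat_lit 992) (nat_lit 402) Col.i (nat_lit 402) (Dv.wd (nat_lit 30) [Mv.b (nat_lit 991), Mv.f (nat_lit 971), Mv.f (nat_lit 991)]))))
(Tr.nd (nat_lit 994) (Tr.lf (Fc.ed (nat_lit 993) (nat_lit 401) Col.f (nat_lit 403) Dv.df))
(Tr.nd (nat_lit 995) (Tr.lf (Fc.ed (nat_lit 994) (nat_lit 403) Col.c (nat_lit 398) (Dv.wd (nat_lit 19) [Mv.f (nat_lit 984), Mv.b (nat_lit 990), Mv.f (nat_lit 993)])))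
(Tr.lf (Fc.ed (nat_lit 995) (nat_lit 397) Col.i (nat_lit 404) Dv.df))))))
(Tr.nd (nat_lit 1001) (Tr.nd (nat_lit 998) (Tr.nd (nat_lit 997) (Tr.lf (Fc.ed (nat_lit 996) (nat_lit 404) Col.b (nat_lit 354) (Dv.wd (nat_lit 108) [Mv.f (nat_lit 886), Mv.f (nat_lit 981), Mv.f (nat_lit 995)])))
(Tr.lf (Fc.ed (nat_lit 997) (nat_lit 404) Col.d (nat_lit 367) (Dv.wd (nat_lit 41) [Mv.b (nat_lit 941), Mv.b (nat_lit 982), Mv.f (nat_lit 995)]))))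
(Tr.nd (nat_lit 999) (Tr.lf (Fc.ed (nat_lit 998) (nat_lit 355) Col.h (nat_lit 405) Dv.df))
(Tr.nd (nat_lit 1000) (Tr.lf (Fc.ed (nat_lit 999) (nat_lit 357) Col.b (nat_lit 406) Dv.df))
(Tr.lf (Fc.ed (nat_lit 1000) (nat_lit 406) Col.e (nat_lit 406) (Dv.wd (nat_lit 49) [Mv.b (nat_lit 999), Mv.f (nat_lit 895), Mv.f (nat_lit 999)]))))))
(Tr.nd (nat_lit 1003) (Tr.nd (nat_lit 1002) (Tr.lf (Fc.ed (nat_lit 1001) (nat_lit 406) Col.f (nat_lit 394) (Dv.wd (nat_lit 66) [Mv.f (nat_lit 976), Mv.f (nat_lit 892), Mv.f (nat_lit 999)])))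
(Tr.lf (Fc.ed (nat_lit 1002) (nat_lit 362) Col.b (nat_lit 407) Dv.df)))
(Tr.nd (nat_lit 1004) (Tr.lf (Fc.ed (nat_lit 1003) (nat_lit 407) Col.e (nat_lit 407) (Dv.wd (nat_lit 49) [Mv.b (nat_lit 1002), Mv.f (nat_lit 906), Mv.f (nat_lit 1002)])))
(Tr.nd (nat_lit 1005) (Tr.lf (Fc.ed (nat_lit 1004) (nat_lit 407) Col.h (nat_lit 406) (Dv.wd (nat_lit 45) [Mv.b (nat_lit 999), Mv.b (nat_lit 905), Mv.f (nat_lit 1002)])))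
(Tr.lf (Fc.ed (nat_lit 1005) (nat_lit 382) Col.h (nat_lit 408) Dv.df))))))))
(Tr.nd (nat_lit 1025) (Tr.nd (nat_lit 1015) (Tr.nd (nat_lit 1010) (Tr.nd (nat_lit 1008) (Tr.nd (nat_lit 1007) (Tr.lf (Fc.ed (nat_lit 1006) (nat_lit 408) Col.c (nat_lit 386) (Dv.wd (nat_lit 50) [Mv.b (nat_lit 957), Mv.b (nat_lit 950), Mv.f (nat_lit 1005)])))
(Tr.lf (Fc.ed (nat_lit 1007) (nat_lit 399) Col.c (nat_lit 409) Dv.df)))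
(Tr.nd (nat_lit 1009) (Tr.lf (Fc.ed (nat_lit 1008) (nat_lit 409) Col.h (nat_lit 363) (Dv.wd (nat_lit 44) [Mv.f (nat_lit 909), Mv.b (nat_lit 986), Mv.f (nat_lit 1007)])))
(Tr.lf (Fc.ed (nat_lit 1009) (nat_lit 388) Col.h (nat_lit 410) Dv.df))))
(Tr.nd (nat_lit 1012) (Tr.nd (nat_lit 1011) (Tr.lf (Fc.ed (nat_lit 1010) (nat_lit 392) Col.d (nat_lit 411) Dv.df))
(Tr.lf (Fc.ed (nat_lit 1011) (nat_lit 411) Col.b (nat_lit 375) (Dv.wd (nat_lit 28) [Mv.b (nat_lit 936), Mv.b (nat_lit 973), Mv.f (nat_lit 1010)]))))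
(Tr.nd (nat_lit 1013) (Tr.lf (Fc.ed (nat_lit 1012) (nat_lit 411) Col.e (nat_lit 411) (Dv.wd (nat_lit 31) [Mv.b (nat_lit 1010), Mv.b (nat_lit 972), Mv.f (nat_lit 853), Mv.f (nat_lit 972), Mv.f (nat_lit 1010)])))
(Tr.nd (nat_lit 1014) (Tr.lf (Fc.ed (nat_lit 1013) (nat_lit 409) Col.f (nat_lit 412) Dv.df))
(Tr.lf (Fc.ed (nat_lit 1014) (nat_lit 412) Col.h (nat_lit 354) (Dv.wd (nat_lit 21) [Mv.b (nat_lit 908), Mv.b (nat_lit 1008), Mv.f (nat_lit 1013)])))))))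
(Tr.nd (nat_lit 1020) (Tr.nd (nat_lit 1017) (Tr.nd (nat_lit 1016) (Tr.lf (Fc.ed (nat_lit 1015) (nat_lit 385) Col.c (nat_lit 413) Dv.df))
(Tr.lf (Fc.ed (nat_lit 1016) (nat_lit 413) Col.e (nat_lit 391) (Dv.wd (nat_lit 32) [Mv.b (nat_lit 969), Mv.b (nat_lit 956), Mv.f (nat_lit 1015)]))))
(Tr.nd (nat_lit 1018) (Tr.lf (Fc.ed (nat_lit 1017) (nat_lit 413) Col.d (nat_lit 413) (Dv.wd (nat_lit 35) [Mv.b (nat_lit 1015), Mv.b (nat_lit 959), Mv.f (nat_lit 960), Mv.f (nat_lit 959), Mv.f (nat_lit 1015)])))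
(Tr.nd (nat_lit 1019) (Tr.lf (Fc.ed (nat_lit 1018) (nat_lit 402) Col.e (nat_lit 402) (Dv.wd (nat_lit 61) [Mv.b (nat_lit 991), Mv.b (nat_lit 1016), Mv.f (nat_lit 1017), Mv.f (nat_lit 1016), Mv.f (nat_lit 991)])))
(Tr.lf (Fc.ed (nat_lit 1019) (nat_lit 369) Col.h (nat_lit 414) Dv.df)))))
(Tr.nd (nat_lit 1022) (Tr.nd (nat_lit 1021) (Tr.lf (Fc.ed (nat_lit 1020) (nat_lit 414) Col.d (nat_lit 412) (Dv.wd (nat_lit 48) [Mv.f (nat_lit 1014), Mv.b (nat_lit 885), Mv.b (nat_lit 794), Mv.f (nat_lit 924), Mv.f (nat_lit 1019)])))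
(Tr.lf (Fc.ed (nat_lit 1021) (nat_lit 375) Col.h (nat_lit 415) Dv.df)))
(Tr.nd (nat_lit 1023) (Tr.lf (Fc.ed (nat_lit 1022) (nat_lit 415) Col.d (nat_lit 405) (Dv.wd (nat_lit 48) [Mv.b (nat_lit 998), Mv.b (nat_lit 888), Mv.b (nat_lit 880), Mv.f (nat_lit 936), Mv.f (nat_lit 1021)])))
(Tr.nd (nat_lit 1024) (Tr.lf (Fc.ed (nat_lit 1023) (nat_lit 383) Col.h (nat_lit 416) Dv.df))
(Tr.lf (Fc.ed (nat_lit 1024) (nat_lit 416) Col.c (nat_lit 390) (Dv.wd (nat_lit 50) [Mv.b (nat_lit 967), Mv.f (nat_lit 951), Mv.f (nat_lit 1023)]))))))))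
(Tr.nd (nat_lit 1034) (Tr.nd (nat_lit 1029) (Tr.nd (nat_lit 1027) (Tr.nd (nat_lit 1026) (Tr.lf (Fc.ed (nat_lit 1025) (nat_lit 416) Col.i (nat_lit 412) (Dv.wd (nat_lit 43) [Mv.f (nat_lit 1014), Mv.f (nat_lit 886), Mv.b (nat_lit 903), Mv.b (nat_lit 952), Mv.f (nat_lit 1023)])))
(Tr.lf (Fc.ed (nat_lit 1026) (nat_lit 396) Col.a (nat_lit 417) Dv.df)))
(Tr.nd (nat_lit 1028) (Tr.lf (Fc.ed (nat_lit 1027) (nat_lit 417) Col.h (nat_lit 373) (Dv.wd (nat_lit 92) [Mv.b (nat_lit 948), Mv.f (nat_lit 980), Mv.f (nat_lit 1026)])))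
(Tr.lf (Fc.ed (nat_lit 1028) (nat_lit 370) Col.h (nat_lit 418) Dv.df))))
(Tr.nd (nat_lit 1031) (Tr.nd (nat_lit 1030) (Tr.lf (Fc.ed (nat_lit 1029) (nat_lit 418) Col.c (nat_lit 371) (Dv.wd (nat_lit 50) [Mv.b (nat_lit 927), Mv.b (nat_lit 926), Mv.f (nat_lit 1028)])))
(Tr.lf (Fc.ed (nat_lit 1030) (nat_lit 418) Col.e (nat_lit 410) (Dv.wd (nat_lit 36) [Mv.b (nat_lit 1009), Mv.f (nat_lit 962), Mv.f (nat_lit 1028)]))))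
(Tr.nd (nat_lit 1032) (Tr.lf (Fc.ed (nat_lit 1031) (nat_lit 376) Col.h (nat_lit 419) Dv.df))
(Tr.nd (nat_lit 1033) (Tr.lf (Fc.ed (nat_lit 1032) (nat_lit 419) Col.b (nat_lit 414) (Dv.wd (nat_lit 90) [Mv.b (nat_lit 1019), Mv.b (nat_lit 939), Mv.f (nat_lit 1031)])))
(Tr.lf (Fc.ed (nat_lit 1033) (nat_lit 410) Col.d (nat_lit 420) Dv.df))))))
(Tr.nd (nat_lit 1039) (Tr.nd (nat_lit 1036) (Tr.nd (nat_lit 1035) (Tr.lf (Fc.ed (nat_lit 1034) (nat_lit 374) Col.b (nat_lit 421) Dv.df))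
(Tr.lf (Fc.ed (nat_lit 1035) (nat_lit 421) Col.d (nat_lit 406) (Dv.wd (nat_lit 51) [Mv.b (nat_lit 999), Mv.b (nat_lit 935), Mv.f (nat_lit 1034)]))))
(Tr.nd (nat_lit 1037) (Tr.lf (Fc.ed (nat_lit 1036) (nat_lit 421) Col.f (nat_lit 400) (Dv.wd (nat_lit 66) [Mv.b (nat_lit 987), Mv.f (nat_lit 934), Mv.f (nat_lit 1034)])))
(Tr.nd (nat_lit 1038) (Tr.lf (Fc.ed (nat_lit 1037) (nat_lit 415) Col.i (nat_lit 422) Dv.df))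
(Tr.lf (Fc.ed (nat_lit 1038) (nat_lit 417) Col.g (nat_lit 423) Dv.df)))))
(Tr.nd (nat_lit 1041) (Tr.nd (nat_lit 1040) (Tr.lf (Fc.ed (nat_lit 1039) (nat_lit 423) Col.h (nat_lit 389) (Dv.wd (nat_lit 16) [Mv.f (nat_lit 965), Mv.b (nat_lit 1027), Mv.f (nat_lit 1038)])))
(Tr.lf (Fc.ed (nat_lit 1040) (nat_lit 380) Col.e (nat_lit 424) Dv.df)))
(Tr.nd (nat_lit 1042) (Tr.lf (Fc.ed (nat_lit 1041) (nat_lit 424) Col.c (nat_lit 326) (Dv.wd (nat_lit 24) [Mv.f (nat_lit 839), Mv.f (nat_lit 946), Mv.f (nat_lit 1040)])))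
(Tr.nd (nat_lit 1043) (Tr.lf (Fc.ed (nat_lit 1042) (nat_lit 418) Col.d (nat_lit 424) (Dv.wd (nat_lit 111) [Mv.f (nat_lit 1041), Mv.b (nat_lit 821), Mv.b (nat_lit 930), Mv.f (nat_lit 931), Mv.b (nat_lit 1029)])))
(Tr.lf (Fc.ed (nat_lit 1043) (nat_lit 398) Col.b (nat_lit 425) Dv.df))))))))))
(Tr.nd (nat_lit 1119) (Tr.nd (nat_lit 1081) (Tr.nd (nat_lit 1062) (Tr.nd (nat_lit 1053) (Tr.nd (nat_lit 1048) (Tr.nd (nat_lit 1046) (Tr.nd (nat_lit 1045) (Tr.lf (Fc.ed (nat_lit 1044) (nat_lit 425) Col.d (nat_lit 407) (Dv.wd (nat_lit 51) [Mv.b (nat_lit 1002), Mv.f (nat_lit 983), Mv.f (nat_lit 1043)])))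
(Tr.lf (Fc.ed (nat_lit 1045) (nat_lit 425) Col.f (nat_lit 411) (Dv.wd (nat_lit 66) [Mv.f (nat_lit 1011), Mv.b (nat_lit 984), Mv.f (nat_lit 1043)]))))
(Tr.nd (nat_lit 1047) (Tr.lf (Fc.ed (nat_lit 1046) (nat_lit 380) Col.d (nat_lit 426) Dv.df))
(Tr.lf (Fc.ed (nat_lit 1047) (nat_lit 426) Col.e (nat_lit 420) (Dv.wd (nat_lit 31) [Mv.b (nat_lit 1033), Mv.b (nat_lit 1030), Mv.f (nat_lit 1042), Mv.b (nat_lit 1040), Mv.f (nat_lit 1046)])))))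
(Tr.nd (nat_lit 1050) (Tr.nd (nat_lit 1049) (Tr.lf (Fc.ed (nat_lit 1048) (nat_lit 380) Col.b (nat_lit 427) Dv.df))
(Tr.lf (Fc.ed (nat_lit 1049) (nat_lit 391) Col.b (nat_lit 428) Dv.df)))
(Tr.nd (nat_lit 1051) (Tr.lf (Fc.ed (nat_lit 1050) (nat_lit 428) Col.c (nat_lit 427) (Dv.wd (nat_lit 122) [Mv.b (nat_lit 1048), Mv.b (nat_lit 946), Mv.f (nat_lit 921), Mv.f (nat_lit 969), Mv.f (nat_lit 1049)])))
(Tr.nd (nat_lit 1052) (Tr.lf (Fc.ed (nat_lit 1051) (nat_lit 419) Col.d (nat_lit 429) Dv.df))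
(Tr.lf (Fc.ed (nat_lit 1052) (nat_lit 429) Col.b (nat_lit 412) (Dv.wd (nat_lit 28) [Mv.b (nat_lit 1020), Mv.b (nat_lit 1032), Mv.f (nat_lit 1051)])))))))
(Tr.nd (nat_lit 1057) (Tr.nd (nat_lit 1055) (Tr.nd (nat_lit 1054) (Tr.lf (Fc.ed (nat_lit 1053) (nat_lit 403) Col.e (nat_lit 430) Dv.df))
(Tr.lf (Fc.ed (nat_lit 1054) (nat_lit 416) Col.b (nat_lit 431) Dv.df)))
(Tr.nd (nat_lit 1056) (Tr.lf (Fc.ed (nat_lit 1055) (nat_lit 431) Col.i (nat_lit 429) (Dv.wd (nat_lit 46) [Mv.f (nat_lit 1052), Mv.b (nat_lit 1025), Mv.f (nat_lit 1054)])))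
(Tr.lf (Fc.ed (nat_lit 1056) (nat_lit 402) Col.h (nat_lit 432) Dv.df))))
(Tr.nd (nat_lit 1059) (Tr.nd (nat_lit 1058) (Tr.lf (Fc.ed (nat_lit 1057) (nat_lit 432) Col.e (nat_lit 432) (Dv.wd (nat_lit 36) [Mv.b (nat_lit 1056), Mv.f (nat_lit 1018), Mv.f (nat_lit 1056)])))
(Tr.lf (Fc.ed (nat_lit 1058) (nat_lit 432) Col.d (nat_lit 432) (Dv.wd (nat_lit 48) [Mv.b (nat_lit 1056), Mv.b (nat_lit 991), Mv.f (nat_lit 970), Mv.f (nat_lit 991), Mv.f (nat_lit 1056)]))))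
(Tr.nd (nat_lit 1060) (Tr.lf (Fc.ed (nat_lit 1059) (nat_lit 431) Col.c (nat_lit 433) Dv.df))
(Tr.nd (nat_lit 1061) (Tr.lf (Fc.ed (nat_lit 1060) (nat_lit 433) Col.b (nat_lit 408) (Dv.wd (nat_lit 88) [Mv.f (nat_lit 1006), Mv.b (nat_lit 968), Mv.b (nat_lit 1024), Mv.f (nat_lit 1054), Mv.f (nat_lit 1059)])))
(Tr.lf (Fc.ed (nat_lit 1061) (nat_lit 428) Col.d (nat_lit 434) Dv.df)))))))
(Tr.nd (nat_lit 1071) (Tr.nd (nat_lit 1066) (Tr.nd (nat_lit 1064) (Tr.nd (nat_lit 1063) (Tr.lf (Fc.ed (nat_lit 1062) (nat_lit 434) Col.b (nat_lit 402) (Dv.wd (nat_lit 28) [Mv.b (nat_lit 991), Mv.f (nat_lit 1049), Mv.f (nat_lit 1061)])))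
(Tr.lf (Fc.ed (nat_lit 1063) (nat_lit 415) Col.f (nat_lit 435) Dv.df)))
(Tr.nd (nat_lit 1065) (Tr.lf (Fc.ed (nat_lit 1064) (nat_lit 435) Col.h (nat_lit 398) (Dv.wd (nat_lit 21) [Mv.f (nat_lit 984), Mv.f (nat_lit 1021), Mv.f (nat_lit 1063)])))
(Tr.lf (Fc.ed (nat_lit 1065) (nat_lit 434) Col.h (nat_lit 436) Dv.df))))
(Tr.nd (nat_lit 1068) (Tr.nd (nat_lit 1067) (Tr.lf (Fc.ed (nat_lit 1066) (nat_lit 436) Col.b (nat_lit 432) (Dv.wd (nat_lit 90) [Mv.b (nat_lit 1056), Mv.b (nat_lit 1062), Mv.f (nat_lit 1065)])))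
(Tr.lf (Fc.ed (nat_lit 1067) (nat_lit 395) Col.h (nat_lit 437) Dv.df)))
(Tr.nd (nat_lit 1069) (Tr.lf (Fc.ed (nat_lit 1068) (nat_lit 374) Col.h (nat_lit 438) Dv.df))
(Tr.nd (nat_lit 1070) (Tr.lf (Fc.ed (nat_lit 1069) (nat_lit 438) Col.f (nat_lit 405) (Dv.wd (nat_lit 37) [Mv.b (nat_lit 998), Mv.f (nat_lit 934), Mv.f (nat_lit 1068)])))
(Tr.lf (Fc.ed (nat_lit 1070) (nat_lit 438) Col.d (nat_lit 435) (Dv.wd (nat_lit 48) [Mv.f (nat_lit 1064), Mv.b (nat_lit 983), Mv.f (nat_lit 905), Mv.b (nat_lit 935), Mv.f (nat_lit 1068)])))))))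
(Tr.nd (nat_lit 1076) (Tr.nd (nat_lit 1073) (Tr.nd (nat_lit 1072) (Tr.lf (Fc.ed (nat_lit 1071) (nat_lit 405) Col.i (nat_lit 439) Dv.df))
(Tr.lf (Fc.ed (nat_lit 1072) (nat_lit 439) Col.d (nat_lit 422) (Dv.wd (nat_lit 41) [Mv.b (nat_lit 1037), Mv.f (nat_lit 1022), Mv.f (nat_lit 1071)]))))
(Tr.nd (nat_lit 1074) (Tr.lf (Fc.ed (nat_lit 1073) (nat_lit 400) Col.h (nat_lit 440) Dv.df))
(Tr.nd (nat_lit 1075) (Tr.lf (Fc.ed (nat_lit 1074) (nat_lit 440) Col.b (nat_lit 405) (Dv.wd (nat_lit 90) [Mv.b (nat_lit 998), Mv.f (nat_lit 987), Mv.f (nat_lit 1073)])))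
(Tr.lf (Fc.ed (nat_lit 1075) (nat_lit 440) Col.f (nat_lit 441) Dv.df)))))
(Tr.nd (nat_lit 1078) (Tr.nd (nat_lit 1077) (Tr.lf (Fc.ed (nat_lit 1076) (nat_lit 441) Col.b (nat_lit 438) (Dv.wd (nat_lit 18) [Mv.f (nat_lit 1069), Mv.b (nat_lit 1074), Mv.f (nat_lit 1075)])))
(Tr.lf (Fc.ed (nat_lit 1077) (nat_lit 441) Col.h (nat_lit 421) (Dv.wd (nat_lit 21) [Mv.f (nat_lit 1036), Mv.f (nat_lit 1073), Mv.f (nat_lit 1075)]))))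
(Tr.nd (nat_lit 1079) (Tr.lf (Fc.ed (nat_lit 1078) (nat_lit 430) Col.c (nat_lit 442) Dv.df))
(Tr.nd (nat_lit 1080) (Tr.lf (Fc.ed (nat_lit 1079) (nat_lit 442) Col.e (nat_lit 398) (Dv.wd (nat_lit 32) [Mv.b (nat_lit 994), Mv.f (nat_lit 1053), Mv.f (nat_lit 1078)])))
(Tr.lf (Fc.ed (nat_lit 1080) (nat_lit 442) Col.d (nat_lit 442) (Dv.wd (nat_lit 69) [Mv.f (nat_lit 1079), Mv.b (nat_lit 983), Mv.f (nat_lit 906), Mv.f (nat_lit 983), Mv.b (nat_lit 1079)])))))))))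
(Tr.nd (nat_lit 1100) (Tr.nd (nat_lit 1090) (Tr.nd (nat_lit 1085) (Tr.nd (nat_lit 1083) (Tr.nd (nat_lit 1082) (Tr.lf (Fc.ed (nat_lit 1081) (nat_lit 408) Col.d (nat_lit 443) Dv.df))
(Tr.lf (Fc.ed (nat_lit 1082) (nat_lit 443) Col.h (nat_lit 420) (Dv.wd (nat_lit 38) [Mv.b (nat_lit 1033), Mv.b (nat_lit 1009), Mv.f (nat_lit 963), Mv.f (nat_lit 1005), Mv.f (nat_lit 1081)]))))
(Tr.nd (nat_lit 1084) (Tr.lf (Fc.ed (nat_lit 1083) (nat_lit 432) Col.f (nat_lit 444) Dv.df))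
(Tr.lf (Fc.ed (nat_lit 1084) (nat_lit 438) Col.i (nat_lit 445) Dv.df))))
(Tr.nd (nat_lit 1087) (Tr.nd (nat_lit 1086) (Tr.lf (Fc.ed (nat_lit 1085) (nat_lit 411) Col.h (nat_lit 446) Dv.df))
(Tr.lf (Fc.ed (nat_lit 1086) (nat_lit 446) Col.b (nat_lit 415) (Dv.wd (nat_lit 90) [Mv.b (nat_lit 1021), Mv.b (nat_lit 1011), Mv.f (nat_lit 1085)]))))
(Tr.nd (nat_lit 1088) (Tr.lf (Fc.ed (nat_lit 1087) (nat_lit 435) Col.i (nat_lit 447) Dv.df))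
(Tr.nd (nat_lit 1089) (Tr.lf (Fc.ed (nat_lit 1088) (nat_lit 447) Col.d (nat_lit 445) (Dv.wd (nat_lit 41) [Mv.b (nat_lit 1084), Mv.f (nat_lit 1070), Mv.f (nat_lit 1087)])))
(Tr.lf (Fc.ed (nat_lit 1089) (nat_lit 446) Col.f (nat_lit 448) Dv.df))))))
(Tr.nd (nat_lit 1095) (Tr.nd (nat_lit 1092) (Tr.nd (nat_lit 1091) (Tr.lf (Fc.ed (nat_lit 1090) (nat_lit 448) Col.b (nat_lit 435) (Dv.wd (nat_lit 18) [Mv.b (nat_lit 1063), Mv.b (nat_lit 1086), Mv.f (nat_lit 1089)])))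
(Tr.lf (Fc.ed (nat_lit 1091) (nat_lit 448) Col.h (nat_lit 425) (Dv.wd (nat_lit 21) [Mv.f (nat_lit 1045), Mv.f (nat_lit 1085), Mv.f (nat_lit 1089)]))))
(Tr.nd (nat_lit 1093) (Tr.lf (Fc.ed (nat_lit 1092) (nat_lit 444) Col.e (nat_lit 449) Dv.df))
(Tr.nd (nat_lit 1094) (Tr.lf (Fc.ed (nat_lit 1093) (nat_lit 449) Col.f (nat_lit 449) (Dv.wd (nat_lit 27) [Mv.b (nat_lit 1092), Mv.b (nat_lit 1083), Mv.f (nat_lit 1057), Mv.f (nat_lit 1083), Mv.f (nat_lit 1092)])))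
(Tr.lf (Fc.ed (nat_lit 1094) (nat_lit 423) Col.i (nat_lit 450) Dv.df)))))
(Tr.nd (nat_lit 1097) (Tr.nd (nat_lit 1096) (Tr.lf (Fc.ed (nat_lit 1095) (nat_lit 450) Col.h (nat_lit 439) (Dv.wd (nat_lit 47) [Mv.b (nat_lit 1071), Mv.b (nat_lit 998), Mv.b (nat_lit 966), Mv.b (nat_lit 1039), Mv.f (nat_lit 1094)])))
(Tr.lf (Fc.ed (nat_lit 1096) (nat_lit 425) Col.e (nat_lit 451) Dv.df)))
(Tr.nd (nat_lit 1098) (Tr.lf (Fc.ed (nat_lit 1097) (nat_lit 451) Col.d (nat_lit 451) (Dv.wd (nat_lit 39) [Mv.b (nat_lit 1096), Mv.f (nat_lit 1044), Mv.f (nat_lit 1003), Mv.b (nat_lit 1044), Mv.f (nat_lit 1096)])))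
(Tr.nd (nat_lit 1099) (Tr.lf (Fc.ed (nat_lit 1098) (nat_lit 422) Col.b (nat_lit 452) Dv.df))
(Tr.lf (Fc.ed (nat_lit 1099) (nat_lit 452) Col.i (nat_lit 446) (Dv.wd (nat_lit 46) [Mv.f (nat_lit 1086), Mv.f (nat_lit 1037), Mv.f (nat_lit 1098)]))))))))
(Tr.nd (nat_lit 1109) (Tr.nd (nat_lit 1104) (Tr.nd (nat_lit 1102) (Tr.nd (nat_lit 1101) (Tr.lf (Fc.ed (nat_lit 1100) (nat_lit 436) Col.f (nat_lit 453) Dv.df))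
(Tr.lf (Fc.ed (nat_lit 1101) (nat_lit 453) Col.b (nat_lit 444) (Dv.wd (nat_lit 18) [Mv.b (nat_lit 1083), Mv.b (nat_lit 1066), Mv.f (nat_lit 1100)]))))
(Tr.nd (nat_lit 1103) (Tr.lf (Fc.ed (nat_lit 1102) (nat_lit 437) Col.i (nat_lit 454) Dv.df))
(Tr.lf (Fc.ed (nat_lit 1103) (nat_lit 454) Col.h (nat_lit 445) (Dv.wd (nat_lit 47) [Mv.b (nat_lit 1084), Mv.b (nat_lit 1068), Mv.f (nat_lit 978), Mv.f (nat_lit 1067), Mv.f (nat_lit 1102)])))))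
(Tr.nd (nat_lit 1106) (Tr.nd (nat_lit 1105) (Tr.lf (Fc.ed (nat_lit 1104) (nat_lit 439) Col.b (nat_lit 455) Dv.df))
(Tr.lf (Fc.ed (nat_lit 1105) (nat_lit 455) Col.d (nat_lit 452) (Dv.wd (nat_lit 51) [Mv.b (nat_lit 1098), Mv.b (nat_lit 1072), Mv.f (nat_lit 1104)]))))
(Tr.nd (nat_lit 1107) (Tr.lf (Fc.ed (nat_lit 1106) (nat_lit 455) Col.i (nat_lit 440) (Dv.wd (nat_lit 46) [Mv.f (nat_lit 1074), Mv.f (nat_lit 1071), Mv.f (nat_lit 1104)])))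
(Tr.nd (nat_lit 1108) (Tr.lf (Fc.ed (nat_lit 1107) (nat_lit 449) Col.d (nat_lit 456) Dv.df))
(Tr.lf (Fc.ed (nat_lit 1108) (nat_lit 456) Col.f (nat_lit 456) (Dv.wd (nat_lit 29) [Mv.b (nat_lit 1107), Mv.f (nat_lit 1093), Mv.f (nat_lit 1107)])))))))
(Tr.nd (nat_lit 1114) (Tr.nd (nat_lit 1111) (Tr.nd (nat_lit 1110) (Tr.lf (Fc.ed (nat_lit 1109) (nat_lit 456) Col.b (nat_lit 457) Dv.df))
(Tr.lf (Fc.ed (nat_lit 1110) (nat_lit 457) Col.f (nat_lit 457) (Dv.wd (nat_lit 66) [Mv.b (nat_lit 1109), Mv.f (nat_lit 1108), Mv.f (nat_lit 1109)]))))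
(Tr.nd (nat_lit 1112) (Tr.lf (Fc.ed (nat_lit 1111) (nat_lit 441) Col.i (nat_lit 458) Dv.df))
(Tr.nd (nat_lit 1113) (Tr.lf (Fc.ed (nat_lit 1112) (nat_lit 458) Col.b (nat_lit 445) (Dv.wd (nat_lit 108) [Mv.b (nat_lit 1084), Mv.b (nat_lit 1076), Mv.f (nat_lit 1111)])))
(Tr.lf (Fc.ed (nat_lit 1113) (nat_lit 458) Col.f (nat_lit 455) (Dv.wd (nat_lit 52) [Mv.f (nat_lit 1106), Mv.f (nat_lit 1075), Mv.f (nat_lit 1111)]))))))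
(Tr.nd (nat_lit 1116) (Tr.nd (nat_lit 1115) (Tr.lf (Fc.ed (nat_lit 1114) (nat_lit 457) Col.c (nat_lit 459) Dv.df))
(Tr.lf (Fc.ed (nat_lit 1115) (nat_lit 459) Col.f (nat_lit 459) (Dv.wd (nat_lit 33) [Mv.b (nat_lit 1114), Mv.f (nat_lit 1110), Mv.f (nat_lit 1114)]))))
(Tr.nd (nat_lit 1117) (Tr.lf (Fc.ed (nat_lit 1116) (nat_lit 459) Col.d (nat_lit 458) (Dv.wd (nat_lit 123) [Mv.b (nat_lit 1111), Mv.f (nat_lit 1077), Mv.f (nat_lit 1035), Mv.f (nat_lit 1001), Mv.f (nat_lit 977), Mv.f (nat_lit 856), Mv.b (nat_lit 817), Mv.f (nat_lit 740), Mv.f (nat_lit 608), Mv.b (nat_lit 516), Mv.f (nat_lit 502), Mv.b (nat_lit 463), Mv.f (nat_lit 465), Mv.f (nat_lit 464), Mv.f (nat_lit 379), Mv.f (nat_lit 378), Mv.f (nat_lit 365), Mv.b (nat_lit 296), Mv.b (nat_lit 295), Mv.f (nat_lit 194), Mv.f (nat_lit 196), Mv.f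 (nat_lit 195), Mv.f (nat_lit 167), Mv.b (nat_lit 80), Mv.f (nat_lit 229), Mv.b (nat_lit 151), Mv.f (nat_lit 152), Mv.b (nat_lit 150), Mv.b (nat_lit 99), Mv.b (nat_lit 73), Mv.f (nat_lit 345), Mv.b (nat_lit 70), Mv.f (nat_lit 123), Mv.b (nat_lit 67), Mv.b (nat_lit 64), Mv.b (nat_lit 61), Mv.f (nat_lit 60), Mv.b (nat_lit 58), Mv.f (nat_lit 56), Mv.b (nat_lit 112), Mv.b (nat_lit 146), Mv.f (nat_lit 145), Mv.b (nat_lit 304), Mv.f (nat_lit 306), Mv.b (nat_lit 303), Mv.f (nat_lit 241), Mv.f (nat_lit 185), Mv.f (nat_lit 209), Mv.f (nat_lit 211), Mv.f (nat_lit 212), Mv.b (nat_lit 209), Mv.b (nat_lit 182), Mv.f (nat_lit 117), Mv.b (nat_lit 45), Mv.f (nat_lit 102), Mv.f (nat_lit 103), Mv.b (nat_lit 145), Mv.f (nat_lit 147), Mv.f (nat_lit 146), Mv.f (nat_lit 111), Mv.f (nat_lit 161), Mv.f (nat_lit 266),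 Mv.f (nat_lit 396), Mv.b (nat_lit 416), Mv.f (nat_lit 508), Mv.f (nat_lit 510), Mv.b (nat_lit 601), Mv.f (nat_lit 647), Mv.f (nat_lit 720), Mv.f (nat_lit 721), Mv.f (nat_lit 745), Mv.f (nat_lit 749), Mv.f (nat_lit 787), Mv.f (nat_lit 813), Mv.f (nat_lit 821), Mv.f (nat_lit 822), Mv.f (nat_lit 839), Mv.f (nat_lit 842), Mv.f (nat_lit 921), Mv.f (nat_lit 969), Mv.f (nat_lit 991), Mv.f (nat_lit 992), Mv.f (nat_lit 1056), Mv.f (nat_lit 1058), Mv.f (nat_lit 1083), Mv.f (nat_lit 1092), Mv.f (nat_lit 1107), Mv.f (nat_lit 1109), Mv.f (nat_lit 1114)])))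
(Tr.nd (nat_lit 1118) (Tr.lf (Fc.ed (nat_lit 1117) (nat_lit 447) Col.b (nat_lit 459) (Dv.wd (nat_lit 85) [Mv.f (nat_lit 1116), Mv.f (nat_lit 1112), Mv.b (nat_lit 1088)])))
(Tr.lf (Fc.al (nat_lit 1118) (nat_lit 452) (nat_lit 459) (Dv.wd (nat_lit 120) [Mv.f (nat_lit 1115), Mv.f (nat_lit 1116), Mv.f (nat_lit 1113), Mv.f (nat_lit 1105)]))))))))))
(Tr.nd (nat_lit 1156) (Tr.nd (nat_lit 1137) (Tr.nd (nat_lit 1128) (Tr.nd (nat_lit 1123) (Tr.nd (nat_lit 1121) (Tr.nd (nat_lit 1120) (Tr.lf (Fc.al (nat_lit 1119) (nat_lit 422) (nat_lit 447) (Dv.wd (nat_lit 83) [Mv.f (nat_lit 1117), Mv.b (nat_lit 1118), Mv.b (nat_lit 1098)])))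
(Tr.lf (Fc.ed (nat_lit 1120) (nat_lit 452) Col.c (nat_lit 457) (Dv.wd (nat_lit 100) [Mv.f (nat_lit 1114), Mv.b (nat_lit 1118)]))))
(Tr.nd (nat_lit 1122) (Tr.lf (Fc.al (nat_lit 1121) (nat_lit 455) (nat_lit 458) (Dv.wd (nat_lit 101) [Mv.b (nat_lit 1116), Mv.b (nat_lit 1118), Mv.b (nat_lit 1105)])))
(Tr.lf (Fc.al (nat_lit 1122) (nat_lit 439) (nat_lit 445) (Dv.wd (nat_lit 101) [Mv.b (nat_lit 1088), Mv.b (nat_lit 1119), Mv.b (nat_lit 1072)])))))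
(Tr.nd (nat_lit 1125) (Tr.nd (nat_lit 1124) (Tr.lf (Fc.al (nat_lit 1123) (nat_lit 415) (nat_lit 435) (Dv.wd (nat_lit 103) [Mv.f (nat_lit 1087), Mv.b (nat_lit 1119), Mv.b (nat_lit 1037)])))
(Tr.lf (Fc.al (nat_lit 1124) (nat_lit 440) (nat_lit 441) (Dv.wd (nat_lit 103) [Mv.f (nat_lit 1111), Mv.b (nat_lit 1121), Mv.f (nat_lit 1106)]))))
(Tr.nd (nat_lit 1126) (Tr.lf (Fc.al (nat_lit 1125) (nat_lit 450) (nat_lit 454) (Dv.wd (nat_lit 81) [Mv.f (nat_lit 1103), Mv.b (nat_lit 1122), Mv.b (nat_lit 1095)])))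
(Tr.nd (nat_lit 1127) (Tr.lf (Fc.al (nat_lit 1126) (nat_lit 405) (nat_lit 438) (Dv.wd (nat_lit 103) [Mv.f (nat_lit 1084), Mv.b (nat_lit 1122), Mv.b (nat_lit 1071)])))
(Tr.lf (Fc.al (nat_lit 1127) (nat_lit 446) (nat_lit 448) (Dv.wd (nat_lit 83) [Mv.f (nat_lit 1090), Mv.b (nat_lit 1123), Mv.b (nat_lit 1086)])))))))
(Tr.nd (nat_lit 1132) (Tr.nd (nat_lit 1130) (Tr.nd (nat_lit 1129) (Tr.lf (Fc.al (nat_lit 1128) (nat_lit 375) (nat_lit 398) (Dv.wd (nat_lit 81) [Mv.b (nat_lit 1064), Mv.b (nat_lit 1123), Mv.b (nat_lit 1021)])))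
(Tr.lf (Fc.al (nat_lit 1129) (nat_lit 400) (nat_lit 421) (Dv.wd (nat_lit 81) [Mv.b (nat_lit 1077), Mv.b (nat_lit 1124), Mv.b (nat_lit 1073)]))))
(Tr.nd (nat_lit 1131) (Tr.lf (Fc.al (nat_lit 1130) (nat_lit 423) (nat_lit 437) (Dv.wd (nat_lit 103) [Mv.f (nat_lit 1102), Mv.b (nat_lit 1125), Mv.b (nat_lit 1094)])))
(Tr.lf (Fc.al (nat_lit 1131) (nat_lit 355) (nat_lit 374) (Dv.wd (nat_lit 81) [Mv.f (nat_lit 1068), Mv.b (nat_lit 1126), Mv.b (nat_lit 998)])))))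
(Tr.nd (nat_lit 1134) (Tr.nd (nat_lit 1133) (Tr.lf (Fc.al (nat_lit 1132) (nat_lit 411) (nat_lit 425) (Dv.wd (nat_lit 81) [Mv.b (nat_lit 1091), Mv.b (nat_lit 1127), Mv.b (nat_lit 1085)])))
(Tr.lf (Fc.al (nat_lit 1133) (nat_lit 350) (nat_lit 362) (Dv.wd (nat_lit 101) [Mv.f (nat_lit 983), Mv.b (nat_lit 1128), Mv.b (nat_lit 936)]))))
(Tr.nd (nat_lit 1135) (Tr.lf (Fc.al (nat_lit 1134) (nat_lit 375) (nat_lit 442) (Dv.wd (nat_lit 82) [Mv.f (nat_lit 1079), Mv.b (nat_lit 1128), Mv.f (nat_lit 937)])))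
(Tr.nd (nat_lit 1136) (Tr.lf (Fc.al (nat_lit 1135) (nat_lit 394) (nat_lit 406) (Dv.wd (nat_lit 101) [Mv.b (nat_lit 1035), Mv.b (nat_lit 1129), Mv.f (nat_lit 988)])))
(Tr.lf (Fc.al (nat_lit 1136) (nat_lit 389) (nat_lit 395) (Dv.wd (nat_lit 81) [Mv.f (nat_lit 1067), Mv.b (nat_lit 1130), Mv.f (nat_lit 1039)]))))))))
(Tr.nd (nat_lit 1146) (Tr.nd (nat_lit 1141) (Tr.nd (nat_lit 1139) (Tr.nd (nat_lit 1138) (Tr.lf (Fc.al (nat_lit 1137) (nat_lit 316) (nat_lit 357) (Dv.wd (nat_lit 101) [Mv.b (nat_lit 935), Mv.b (nat_lit 1131), Mv.b (nat_lit 888)])))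
(Tr.lf (Fc.al (nat_lit 1138) (nat_lit 392) (nat_lit 407) (Dv.wd (nat_lit 101) [Mv.b (nat_lit 1044), Mv.b (nat_lit 1132), Mv.b (nat_lit 1010)]))))
(Tr.nd (nat_lit 1140) (Tr.lf (Fc.al (nat_lit 1139) (nat_lit 411) (nat_lit 451) (Dv.wd (nat_lit 82) [Mv.b (nat_lit 1096), Mv.b (nat_lit 1132), Mv.f (nat_lit 1012)])))
(Tr.lf (Fc.al (nat_lit 1140) (nat_lit 285) (nat_lit 350) (Dv.wd (nat_lit 82) [Mv.f (nat_lit 1133), Mv.f (nat_lit 906), Mv.b (nat_lit 1133), Mv.f (nat_lit 879)])))))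
(Tr.nd (nat_lit 1143) (Tr.nd (nat_lit 1142) (Tr.lf (Fc.al (nat_lit 1141) (nat_lit 292) (nat_lit 316) (Dv.wd (nat_lit 81) [Mv.f (nat_lit 1137), Mv.b (nat_lit 905), Mv.b (nat_lit 1133), Mv.b (nat_lit 1140), Mv.b (nat_lit 743)])))
(Tr.lf (Fc.al (nat_lit 1142) (nat_lit 285) (nat_lit 375) (Dv.wd (nat_lit 101) [Mv.f (nat_lit 1134), Mv.f (nat_lit 1080), Mv.b (nat_lit 1134), Mv.b (nat_lit 936), Mv.b (nat_lit 1140)]))))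
(Tr.nd (nat_lit 1144) (Tr.lf (Fc.al (nat_lit 1143) (nat_lit 340) (nat_lit 394) (Dv.wd (nat_lit 82) [Mv.f (nat_lit 1135), Mv.f (nat_lit 1000), Mv.b (nat_lit 1135), Mv.f (nat_lit 977)])))
(Tr.nd (nat_lit 1145) (Tr.lf (Fc.al (nat_lit 1144) (nat_lit 339) (nat_lit 392) (Dv.wd (nat_lit 81) [Mv.f (nat_lit 1138), Mv.f (nat_lit 1004), Mv.b (nat_lit 1135), Mv.b (nat_lit 1143), Mv.b (nat_lit 857)])))
(Tr.lf (Fc.al (nat_lit 1145) (nat_lit 306) (nat_lit 335) (Dv.wd (nat_lit 101) [Mv.b (nat_lit 979), Mv.b (nat_lit 1136), Mv.b (nat_lit 964)])))))))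
(Tr.nd (nat_lit 1151) (Tr.nd (nat_lit 1148) (Tr.nd (nat_lit 1147) (Tr.lf (Fc.al (nat_lit 1146) (nat_lit 244) (nat_lit 318) (Dv.wd (nat_lit 100) [Mv.b (nat_lit 893), Mv.b (nat_lit 1137), Mv.b (nat_lit 1141), Mv.b (nat_lit 741)])))
(Tr.lf (Fc.al (nat_lit 1147) (nat_lit 262) (nat_lit 306) (Dv.wd (nat_lit 103) [Mv.f (nat_lit 1145), Mv.b (nat_lit 894), Mv.b (nat_lit 1137), Mv.b (nat_lit 1141), Mv.f (nat_lit 744)]))))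
(Tr.nd (nat_lit 1149) (Tr.lf (Fc.al (nat_lit 1148) (nat_lit 339) (nat_lit 411) (Dv.wd (nat_lit 101) [Mv.f (nat_lit 1139), Mv.f (nat_lit 1097), Mv.b (nat_lit 1139), Mv.b (nat_lit 1010), Mv.b (nat_lit 1144)])))
(Tr.nd (nat_lit 1150) (Tr.lf (Fc.al (nat_lit 1149) (nat_lit 292) (nat_lit 415) (Dv.wd (nat_lit 81) [Mv.b (nat_lit 1021), Mv.b (nat_lit 1142), Mv.b (nat_lit 743)])))
(Tr.lf (Fc.al (nat_lit 1150) (nat_lit 211) (nat_lit 366) (Dv.wd (nat_lit 100) [Mv.f (nat_lit 916), Mv.b (nat_lit 1145), Mv.b (nat_lit 1147), Mv.f (nat_lit 680)]))))))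
(Tr.nd (nat_lit 1153) (Tr.nd (nat_lit 1152) (Tr.lf (Fc.al (nat_lit 1151) (nat_lit 200) (nat_lit 244) (Dv.wd (nat_lit 101) [Mv.f (nat_lit 1146), Mv.f (nat_lit 803), Mv.b (nat_lit 1146), Mv.b (nat_lit 637)])))
(Tr.lf (Fc.al (nat_lit 1152) (nat_lit 204) (nat_lit 211) (Dv.wd (nat_lit 103) [Mv.f (nat_lit 1150), Mv.f (nat_lit 918), Mv.b (nat_lit 1146), Mv.b (nat_lit 1151), Mv.f (nat_lit 555)]))))
(Tr.nd (nat_lit 1154) (Tr.lf (Fc.al (nat_lit 1153) (nat_lit 340) (nat_lit 446) (Dv.wd (nat_lit 81) [Mv.b (nat_lit 1085), Mv.b (nat_lit 1148), Mv.f (nat_lit 857)])))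
(Tr.nd (nat_lit 1155) (Tr.lf (Fc.al (nat_lit 1154) (nat_lit 262) (nat_lit 422) (Dv.wd (nat_lit 103) [Mv.b (nat_lit 1037), Mv.b (nat_lit 1149), Mv.f (nat_lit 744)])))
(Tr.lf (Fc.al (nat_lit 1155) (nat_lit 148) (nat_lit 204) (Dv.wd (nat_lit 81) [Mv.f (nat_lit 1152), Mv.f (nat_lit 1150), Mv.f (nat_lit 917), Mv.b (nat_lit 1150), Mv.b (nat_lit 1152), Mv.f (nat_lit 557)])))))))))
(Tr.nd (nat_lit 1175) (Tr.nd (nat_lit 1165) (Tr.nd (nat_lit 1160) (Tr.nd (nat_lit 1158) (Tr.nd (nat_lit 1157) (Tr.lf (Fc.al (nat_lit 1156) (nat_lit 130) (nat_lit 262) (Dv.wd (nat_lit 100) [Mv.f (nat_lit 680), Mv.b (nat_lit 1152), Mv.b (nat_lit 1155), Mv.b (nat_lit 425)])))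
(Tr.lf (Fc.al (nat_lit 1157) (nat_lit 325) (nat_lit 452) (Dv.wd (nat_lit 103) [Mv.f (nat_lit 1099), Mv.b (nat_lit 1153), Mv.b (nat_lit 854)]))))
(Tr.nd (nat_lit 1159) (Tr.lf (Fc.al (nat_lit 1158) (nat_lit 128) (nat_lit 325) (Dv.wd (nat_lit 83) [Mv.f (nat_lit 1157), Mv.b (nat_lit 1098), Mv.b (nat_lit 1154), Mv.b (nat_lit 1156), Mv.f (nat_lit 387)])))
(Tr.lf (Fc.al (nat_lit 1159) (nat_lit 128) (nat_lit 457) (Dv.wd (nat_lit 100) [Mv.b (nat_lit 1120), Mv.b (nat_lit 1157), Mv.b (nat_lit 1158), Mv.f (nat_lit 383)])))))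
(Tr.nd (nat_lit 1162) (Tr.nd (nat_lit 1161) (Tr.lf (Fc.al (nat_lit 1160) (nat_lit 130) (nat_lit 456) (Dv.wd (nat_lit 83) [Mv.f (nat_lit 1109), Mv.b (nat_lit 1159), Mv.b (nat_lit 387)])))
(Tr.lf (Fc.al (nat_lit 1161) (nat_lit 164) (nat_lit 449) (Dv.wd (nat_lit 101) [Mv.f (nat_lit 1107), Mv.b (nat_lit 1160), Mv.b (nat_lit 463)]))))
(Tr.nd (nat_lit 1163) (Tr.lf (Fc.al (nat_lit 1162) (nat_lit 126) (nat_lit 444) (Dv.wd (nat_lit 82) [Mv.f (nat_lit 1092), Mv.b (nat_lit 1161), Mv.f (nat_lit 464)])))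
(Tr.nd (nat_lit 1164) (Tr.lf (Fc.al (nat_lit 1163) (nat_lit 121) (nat_lit 453) (Dv.wd (nat_lit 83) [Mv.f (nat_lit 1101), Mv.b (nat_lit 1162), Mv.f (nat_lit 378)])))
(Tr.lf (Fc.al (nat_lit 1164) (nat_lit 115) (nat_lit 436) (Dv.wd (nat_lit 104) [Mv.f (nat_lit 1100), Mv.b (nat_lit 1163), Mv.f (nat_lit 366)])))))))
(Tr.nd (nat_lit 1170) (Tr.nd (nat_lit 1167) (Tr.nd (nat_lit 1166) (Tr.lf (Fc.al (nat_lit 1165) (nat_lit 193) (nat_lit 434) (Dv.wd (nat_lit 81) [Mv.f (nat_lit 1065), Mv.b (nat_lit 1164), Mv.b (nat_lit 530)])))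
(Tr.lf (Fc.al (nat_lit 1166) (nat_lit 242) (nat_lit 428) (Dv.wd (nat_lit 101) [Mv.f (nat_lit 1061), Mv.b (nat_lit 1165), Mv.b (nat_lit 634)]))))
(Tr.nd (nat_lit 1168) (Tr.lf (Fc.al (nat_lit 1167) (nat_lit 287) (nat_lit 427) (Dv.wd (nat_lit 100) [Mv.b (nat_lit 1050), Mv.b (nat_lit 1166), Mv.f (nat_lit 732)])))
(Tr.nd (nat_lit 1169) (Tr.lf (Fc.al (nat_lit 1168) (nat_lit 347) (nat_lit 380) (Dv.wd (nat_lit 83) [Mv.f (nat_lit 1048), Mv.b (nat_lit 1167), Mv.f (nat_lit 871)])))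
(Tr.lf (Fc.al (nat_lit 1169) (nat_lit 314) (nat_lit 426) (Dv.wd (nat_lit 101) [Mv.b (nat_lit 1046), Mv.b (nat_lit 1168), Mv.f (nat_lit 872)]))))))
(Tr.nd (nat_lit 1172) (Tr.nd (nat_lit 1171) (Tr.lf (Fc.al (nat_lit 1170) (nat_lit 365) (nat_lit 420) (Dv.wd (nat_lit 82) [Mv.b (nat_lit 1047), Mv.b (nat_lit 1169), Mv.b (nat_lit 914)])))
(Tr.lf (Fc.al (nat_lit 1171) (nat_lit 376) (nat_lit 410) (Dv.wd (nat_lit 101) [Mv.f (nat_lit 1033), Mv.b (nat_lit 1170), Mv.f (nat_lit 938)]))))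
(Tr.nd (nat_lit 1173) (Tr.lf (Fc.al (nat_lit 1172) (nat_lit 367) (nat_lit 443) (Dv.wd (nat_lit 81) [Mv.f (nat_lit 1082), Mv.b (nat_lit 1170), Mv.f (nat_lit 919)])))
(Tr.nd (nat_lit 1174) (Tr.lf (Fc.al (nat_lit 1173) (nat_lit 419) (nat_lit 388) (Dv.wd (nat_lit 81) [Mv.f (nat_lit 1009), Mv.b (nat_lit 1171), Mv.f (nat_lit 1031)])))
(Tr.lf (Fc.al (nat_lit 1174) (nat_lit 404) (nat_lit 408) (Dv.wd (nat_lit 101) [Mv.f (nat_lit 1081), Mv.b (nat_lit 1172), Mv.b (nat_lit 997)]))))))))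
(Tr.nd (nat_lit 1184) (Tr.nd (nat_lit 1179) (Tr.nd (nat_lit 1177) (Tr.nd (nat_lit 1176) (Tr.lf (Fc.al (nat_lit 1175) (nat_lit 382) (nat_lit 429) (Dv.wd (nat_lit 101) [Mv.b (nat_lit 1051), Mv.f (nat_lit 1173), Mv.f (nat_lit 963)])))
(Tr.lf (Fc.al (nat_lit 1176) (nat_lit 354) (nat_lit 433) (Dv.wd (nat_lit 83) [Mv.f (nat_lit 1060), Mv.b (nat_lit 1174), Mv.f (nat_lit 996)]))))
(Tr.nd (nat_lit 1178) (Tr.lf (Fc.al (nat_lit 1177) (nat_lit 352) (nat_lit 431) (Dv.wd (nat_lit 103) [Mv.f (nat_lit 1055), Mv.b (nat_lit 1175), Mv.b (nat_lit 949)])))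
(Tr.lf (Fc.al (nat_lit 1178) (nat_lit 351) (nat_lit 352) (Dv.wd (nat_lit 100) [Mv.f (nat_lit 1177), Mv.f (nat_lit 1059), Mv.b (nat_lit 1176), Mv.f (nat_lit 887)])))))
(Tr.nd (nat_lit 1181) (Tr.nd (nat_lit 1180) (Tr.lf (Fc.al (nat_lit 1179) (nat_lit 354) (nat_lit 348) (Dv.wd (nat_lit 100) [Mv.f (nat_lit 882), Mv.b (nat_lit 1178), Mv.b (nat_lit 887)])))
(Tr.lf (Fc.al (nat_lit 1180) (nat_lit 251) (nat_lit 313) (Dv.wd (nat_lit 101) [Mv.f (nat_lit 885), Mv.f (nat_lit 1179), Mv.f (nat_lit 874)]))))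
(Tr.nd (nat_lit 1182) (Tr.lf (Fc.al (nat_lit 1181) (nat_lit 257) (nat_lit 265) (Dv.wd (nat_lit 100) [Mv.b (nat_lit 792), Mv.b (nat_lit 1180), Mv.b (nat_lit 669)])))
(Tr.nd (nat_lit 1183) (Tr.lf (Fc.al (nat_lit 1182) (nat_lit 212) (nat_lit 222) (Dv.wd (nat_lit 82) [Mv.f (nat_lit 687), Mv.b (nat_lit 1181), Mv.b (nat_lit 668)])))
(Tr.lf (Fc.al (nat_lit 1183) (nat_lit 197) (nat_lit 154) (Dv.wd (nat_lit 101) [Mv.b (nat_lit 592), Mv.b (nat_lit 1182), Mv.b (nat_lit 573)])))))))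
(Tr.nd (nat_lit 1189) (Tr.nd (nat_lit 1186) (Tr.nd (nat_lit 1185) (Tr.lf (Fc.al (nat_lit 1184) (nat_lit 171) (nat_lit 203) (Dv.wd (nat_lit 104) [Mv.f (nat_lit 554), Mv.f (nat_lit 1183), Mv.b (nat_lit 480)])))
(Tr.lf (Fc.al (nat_lit 1185) (nat_lit 100) (nat_lit 134) (Dv.wd (nat_lit 81) [Mv.f (nat_lit 553), Mv.b (nat_lit 1184), Mv.f (nat_lit 481)]))))
(Tr.nd (nat_lit 1187) (Tr.lf (Fc.al (nat_lit 1186) (nat_lit 78) (nat_lit 87) (Dv.wd (nat_lit 101) [Mv.f (nat_lit 396), Mv.b (nat_lit 1185), Mv.f (nat_lit 296)])))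
(Tr.nd (nat_lit 1188) (Tr.lf (Fc.al (nat_lit 1187) (nat_lit 121) (nat_lit 52) (Dv.wd (nat_lit 100) [Mv.f (nat_lit 266), Mv.b (nat_lit 1186), Mv.b (nat_lit 365)])))
(Tr.lf (Fc.al (nat_lit 1188) (nat_lit 42) (nat_lit 126) (Dv.wd (nat_lit 83) [Mv.f (nat_lit 378), Mv.f (nat_lit 1187), Mv.b (nat_lit 161)]))))))
(Tr.nd (nat_lit 1191) (Tr.nd (nat_lit 1190) (Tr.lf (Fc.al (nat_lit 1189) (nat_lit 47) (nat_lit 164) (Dv.wd (nat_lit 82) [Mv.f (nat_lit 464), Mv.b (nat_lit 1188), Mv.b (nat_lit 146)])))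
(Tr.lf (Fc.al (nat_lit 1190) (nat_lit 39) (nat_lit 130) (Dv.wd (nat_lit 101) [Mv.b (nat_lit 463), Mv.b (nat_lit 1189), Mv.f (nat_lit 145)]))))
(Tr.nd (nat_lit 1192) (Tr.lf (Fc.al (nat_lit 1191) (nat_lit 7) (nat_lit 91) (Dv.wd (nat_lit 103) [Mv.f (nat_lit 386), Mv.b (nat_lit 1190), Mv.b (nat_lit 102)])))
(Tr.nd (nat_lit 1193) (Tr.lf (Fc.al (nat_lit 1192) (nat_lit 6) (nat_lit 30) (Dv.wd (nat_lit 81) [Mv.f (nat_lit 275), Mv.b (nat_lit 1191), Mv.b (nat_lit 42)])))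
(Tr.lf (Fc.ed (nat_lit 1193) (nat_lit 6) Col.b (nat_lit 29) (Dv.wd (nat_lit 83) [Mv.f (nat_lit 90), Mv.b (nat_lit 1192)]))))))))))))))
noncomputable def mini0A : Tr (Alt Col) := (Tr.nd (nat_lit 62) (Tr.nd (nat_lit 31) (Tr.nd (nat_lit 15) (Tr.nd (nat_lit 7) (Tr.nd (nat_lit 3) (Tr.nd (nat_lit 1) (Tr.lf (Alt.base (nat_lit 1) [] [Col.b]))
(Tr.nd (nat_lit 2) (Tr.lf (Alt.base (nat_lit 2) [] [Col.c]))
(Tr.lf (Alt.base (nat_lit 3) [] [Col.d]))))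
(Tr.nd (nat_lit 5) (Tr.nd (nat_lit 4) (Tr.lf (Alt.base (nat_lit 4) [] [Col.e]))
(Tr.lf (Alt.base (nat_lit 7) [] [Col.h])))
(Tr.nd (nat_lit 6) (Tr.lf (Alt.base (nat_lit 8) [] [Col.i]))
(Tr.lf (Alt.word (nat_lit 16) (nat_lit 1) true [Col.b, Col.j, Col.b, Col.j])))))
(Tr.nd (nat_lit 11) (Tr.nd (nat_lit 9) (Tr.nd (nat_lit 8) (Tr.lf (Alt.word (nat_lit 24) (nat_lit 1) true [Col.c, Col.j, Col.c, Col.j]))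
(Tr.lf (Alt.word (nat_lit 31) (nat_lit 1) true [Col.d, Col.j, Col.d, Col.j])))
(Tr.nd (nat_lit 10) (Tr.lf (Alt.word (nat_lit 37) (nat_lit 1) true [Col.e, Col.j, Col.e, Col.j]))
(Tr.lf (Alt.word (nat_lit 50) (nat_lit 2) true [Col.h, Col.j, Col.h, Col.j]))))
(Tr.nd (nat_lit 13) (Tr.nd (nat_lit 12) (Tr.lf (Alt.word (nat_lit 51) (nat_lit 2) true [Col.i, Col.j, Col.i, Col.j]))
(Tr.lf (Alt.word (nat_lit 15) (nat_lit 1) true [Col.b, Col.g, Col.b, Col.g])))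
(Tr.nd (nat_lit 14) (Tr.lf (Alt.word (nat_lit 23) (nat_lit 1) true [Col.c, Col.g, Col.c, Col.g]))
(Tr.lf (Alt.word (nat_lit 30) (nat_lit 1) true [Col.d, Col.g, Col.d, Col.g]))))))
(Tr.nd (nat_lit 23) (Tr.nd (nat_lit 19) (Tr.nd (nat_lit 17) (Tr.nd (nat_lit 16) (Tr.lf (Alt.word (nat_lit 36) (nat_lit 1) true [Col.e, Col.g, Col.e, Col.g]))
(Tr.lf (Alt.word (nat_lit 47) (nat_lit 2) true [Col.h, Col.g, Col.h, Col.g])))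
(Tr.nd (nat_lit 18) (Tr.lf (Alt.word (nat_lit 48) (nat_lit 2) true [Col.i, Col.g, Col.i, Col.g]))
(Tr.lf (Alt.word (nat_lit 14) (nat_lit 1) true [Col.b, Col.f, Col.b, Col.f]))))
(Tr.nd (nat_lit 21) (Tr.nd (nat_lit 20) (Tr.lf (Alt.word (nat_lit 22) (nat_lit 1) true [Col.c, Col.f, Col.c, Col.f]))
(Tr.lf (Alt.word (nat_lit 29) (nat_lit 1) true [Col.d, Col.f, Col.d, Col.f])))
(Tr.nd (nat_lit 22) (Tr.lf (Alt.word (nat_lit 43) (nat_lit 2) true [Col.h, Col.f, Col.h, Col.f]))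
(Tr.lf (Alt.word (nat_lit 44) (nat_lit 2) true [Col.i, Col.f, Col.i, Col.f])))))
(Tr.nd (nat_lit 27) (Tr.nd (nat_lit 25) (Tr.nd (nat_lit 24) (Tr.lf (Alt.word (nat_lit 13) (nat_lit 1) true [Col.b, Col.e, Col.b, Col.e]))
(Tr.lf (Alt.word (nat_lit 21) (nat_lit 1) true [Col.c, Col.e, Col.c, Col.e])))
(Tr.nd (nat_lit 26) (Tr.lf (Alt.word (nat_lit 38) (nat_lit 2) true [Col.h, Col.e, Col.h, Col.e]))
(Tr.lf (Alt.word (nat_lit 39) (nat_lit 2) true [Col.i, Col.e, Col.i, Col.e]))))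
(Tr.nd (nat_lit 29) (Tr.nd (nat_lit 28) (Tr.lf (Alt.word (nat_lit 35) (nat_lit 2) true [Col.f, Col.e, Col.f, Col.e, Col.f, Col.e]))
(Tr.lf (Alt.word (nat_lit 12) (nat_lit 1) true [Col.b, Col.d, Col.b, Col.d])))
(Tr.nd (nat_lit 30) (Tr.lf (Alt.word (nat_lit 29) (nat_lit 2) true [Col.f, Col.d, Col.f, Col.d]))
(Tr.lf (Alt.word (nat_lit 33) (nat_lit 2) true [Col.i, Col.d, Col.i, Col.d])))))))
(Tr.nd (nat_lit 46) (Tr.nd (nat_lit 38) (Tr.nd (nat_lit 34) (Tr.nd (nat_lit 32) (Tr.lf (Alt.word (nat_lit 28) (nat_lit 2) true [Col.e, Col.d, Col.e, Col.d, Col.e, Col.d]))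
(Tr.nd (nat_lit 33) (Tr.lf (Alt.word (nat_lit 21) (nat_lit 2) true [Col.e, Col.c, Col.e, Col.c]))
(Tr.lf (Alt.word (nat_lit 22) (nat_lit 2) true [Col.f, Col.c, Col.f, Col.c]))))
(Tr.nd (nat_lit 36) (Tr.nd (nat_lit 35) (Tr.lf (Alt.word (nat_lit 26) (nat_lit 2) true [Col.i, Col.c, Col.i, Col.c]))
(Tr.lf (Alt.word (nat_lit 20) (nat_lit 2) true [Col.d, Col.c, Col.d, Col.c, Col.d, Col.c])))
(Tr.nd (nat_lit 37) (Tr.lf (Alt.word (nat_lit 38) (nat_lit 1) true [Col.e, Col.h, Col.e, Col.h]))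
(Tr.lf (Alt.word (nat_lit 43) (nat_lit 1) true [Col.f, Col.h, Col.f, Col.h])))))
(Tr.nd (nat_lit 42) (Tr.nd (nat_lit 40) (Tr.nd (nat_lit 39) (Tr.lf (Alt.word (nat_lit 32) (nat_lit 2) true [Col.h, Col.d, Col.h, Col.d, Col.h, Col.d]))
(Tr.lf (Alt.word (nat_lit 28) (nat_lit 1) true [Col.d, Col.e, Col.d, Col.e, Col.d, Col.e])))
(Tr.nd (nat_lit 41) (Tr.lf (Alt.word (nat_lit 35) (nat_lit 1) true [Col.e, Col.f, Col.e, Col.f, Col.e, Col.f]))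
(Tr.lf (Alt.word (nat_lit 33) (nat_lit 1) true [Col.d, Col.i, Col.d, Col.i]))))
(Tr.nd (nat_lit 44) (Tr.nd (nat_lit 43) (Tr.lf (Alt.word (nat_lit 39) (nat_lit 1) true [Col.e, Col.i, Col.e, Col.i]))
(Tr.lf (Alt.word (nat_lit 53) (nat_lit 2) true [Col.i, Col.h, Col.i, Col.h, Col.i, Col.h])))
(Tr.nd (nat_lit 45) (Tr.lf (Alt.word (nat_lit 25) (nat_lit 2) true [Col.h, Col.c, Col.h, Col.c]))
(Tr.lf (Alt.word (nat_lit 17) (nat_lit 2) true [Col.h, Col.b, Col.h, Col.b]))))))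
(Tr.nd (nat_lit 54) (Tr.nd (nat_lit 50) (Tr.nd (nat_lit 48) (Tr.nd (nat_lit 47) (Tr.lf (Alt.word (nat_lit 18) (nat_lit 2) true [Col.i, Col.b, Col.i, Col.b]))
(Tr.lf (Alt.word (nat_lit 53) (nat_lit 1) true [Col.h, Col.i, Col.h, Col.i, Col.h, Col.i])))
(Tr.nd (nat_lit 49) (Tr.lf (Alt.word (nat_lit 32) (nat_lit 1) true [Col.d, Col.h, Col.d, Col.h, Col.d, Col.h]))
(Tr.lf (Alt.word (nat_lit 13) (nat_lit 2) true [Col.e, Col.b, Col.e, Col.b]))))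
(Tr.nd (nat_lit 52) (Tr.nd (nat_lit 51) (Tr.lf (Alt.word (nat_lit 25) (nat_lit 1) true [Col.c, Col.h, Col.c, Col.h]))
(Tr.lf (Alt.word (nat_lit 12) (nat_lit 2) true [Col.d, Col.b, Col.d, Col.b])))
(Tr.nd (nat_lit 53) (Tr.lf (Alt.word (nat_lit 44) (nat_lit 1) true [Col.f, Col.i, Col.f, Col.i]))
(Tr.lf (Alt.word (nat_lit 17) (nat_lit 3) true [Col.b, Col.h, Col.b, Col.h])))))
(Tr.nd (nat_lit 58) (Tr.nd (nat_lit 56) (Tr.nd (nat_lit 55) (Tr.lf (Alt.word (nat_lit 32) (nat_lit 5) true [Col.d, Col.h, Col.d, Col.h, Col.d, Col.h]))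
(Tr.lf (Alt.word (nat_lit 20) (nat_lit 3) true [Col.c, Col.d, Col.c, Col.d, Col.c, Col.d])))
(Tr.nd (nat_lit 57) (Tr.lf (Alt.word (nat_lit 21) (nat_lit 3) true [Col.c, Col.e, Col.c, Col.e]))
(Tr.lf (Alt.word (nat_lit 26) (nat_lit 3) true [Col.c, Col.i, Col.c, Col.i]))))
(Tr.nd (nat_lit 60) (Tr.nd (nat_lit 59) (Tr.lf (Alt.word (nat_lit 22) (nat_lit 3) true [Col.c, Col.f, Col.c, Col.f]))
(Tr.lf (Alt.word (nat_lit 25) (nat_lit 3) true [Col.c, Col.h, Col.c, Col.h])))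
(Tr.nd (nat_lit 61) (Tr.lf (Alt.word (nat_lit 20) (nat_lit 4) true [Col.d, Col.c, Col.d, Col.c, Col.d, Col.c]))
(Tr.lf (Alt.word (nat_lit 28) (nat_lit 4) true [Col.e, Col.d, Col.e, Col.d, Col.e, Col.d]))))))))
(Tr.nd (nat_lit 93) (Tr.nd (nat_lit 77) (Tr.nd (nat_lit 69) (Tr.nd (nat_lit 65) (Tr.nd (nat_lit 63) (Tr.lf (Alt.word (nat_lit 38) (nat_lit 3) true [Col.e, Col.h, Col.e, Col.h]))
(Tr.nd (nat_lit 64) (Tr.lf (Alt.word (nat_lit 39) (nat_lit 3) true [Col.e, Col.i, Col.e, Col.i]))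
(Tr.lf (Alt.word (nat_lit 35) (nat_lit 4) true [Col.f, Col.e, Col.f, Col.e, Col.f, Col.e]))))
(Tr.nd (nat_lit 67) (Tr.nd (nat_lit 66) (Tr.lf (Alt.word (nat_lit 43) (nat_lit 3) true [Col.f, Col.h, Col.f, Col.h]))
(Tr.lf (Alt.word (nat_lit 14) (nat_lit 2) true [Col.f, Col.b, Col.f, Col.b])))
(Tr.nd (nat_lit 68) (Tr.lf (Alt.word (nat_lit 35) (nat_lit 3) true [Col.e, Col.f, Col.e, Col.f, Col.e, Col.f]))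
(Tr.lf (Alt.word (nat_lit 26) (nat_lit 1) true [Col.c, Col.i, Col.c, Col.i])))))
(Tr.nd (nat_lit 73) (Tr.nd (nat_lit 71) (Tr.nd (nat_lit 70) (Tr.lf (Alt.word (nat_lit 28) (nat_lit 5) true [Col.d, Col.e, Col.d, Col.e, Col.d, Col.e]))
(Tr.lf (Alt.word (nat_lit 32) (nat_lit 4) true [Col.h, Col.d, Col.h, Col.d, Col.h, Col.d])))
(Tr.nd (nat_lit 72) (Tr.lf (Alt.word (nat_lit 32) (nat_lit 3) true [Col.d, Col.h, Col.d, Col.h, Col.d, Col.h]))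
(Tr.lf (Alt.word (nat_lit 3) (nat_lit 2) true [Col.d, Col.a, Col.d, Col.a]))))
(Tr.nd (nat_lit 75) (Tr.nd (nat_lit 74) (Tr.lf (Alt.word (nat_lit 5) (nat_lit 2) true [Col.f, Col.a, Col.f, Col.a]))
(Tr.lf (Alt.word (nat_lit 8) (nat_lit 1) true [Col.a, Col.h, Col.a, Col.h])))
(Tr.nd (nat_lit 76) (Tr.lf (Alt.word (nat_lit 48) (nat_lit 1) true [Col.g, Col.i, Col.g, Col.i]))
(Tr.lf (Alt.word (nat_lit 17) (nat_lit 0) true [Col.h, Col.b, Col.h, Col.b]))))))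
(Tr.nd (nat_lit 85) (Tr.nd (nat_lit 81) (Tr.nd (nat_lit 79) (Tr.nd (nat_lit 78) (Tr.lf (Alt.word (nat_lit 11) (nat_lit 0) true [Col.c, Col.b, Col.c, Col.b, Col.c, Col.b]))
(Tr.lf (Alt.word (nat_lit 11) (nat_lit 3) true [Col.b, Col.c, Col.b, Col.c, Col.b, Col.c])))
(Tr.nd (nat_lit 80) (Tr.lf (Alt.word (nat_lit 18) (nat_lit 3) true [Col.b, Col.i, Col.b, Col.i]))
(Tr.lf (Alt.word (nat_lit 12) (nat_lit 0) true [Col.d, Col.b, Col.d, Col.b]))))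
(Tr.nd (nat_lit 83) (Tr.nd (nat_lit 82) (Tr.lf (Alt.word (nat_lit 52) (nat_lit 0) true [Col.h, Col.h]))
(Tr.lf (Alt.word (nat_lit 34) (nat_lit 0) true [Col.e, Col.e])))
(Tr.nd (nat_lit 84) (Tr.lf (Alt.word (nat_lit 10) (nat_lit 0) true [Col.b, Col.b]))
(Tr.lf (Alt.word (nat_lit 14) (nat_lit 3) true [Col.b, Col.f, Col.b, Col.f])))))
(Tr.nd (nat_lit 89) (Tr.nd (nat_lit 87) (Tr.nd (nat_lit 86) (Tr.lf (Alt.word (nat_lit 12) (nat_lit 3) true [Col.b, Col.d, Col.b, Col.d]))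
(Tr.lf (Alt.word (nat_lit 13) (nat_lit 3) true [Col.b, Col.e, Col.b, Col.e])))
(Tr.nd (nat_lit 88) (Tr.lf (Alt.word (nat_lit 4) (nat_lit 1) true [Col.a, Col.e, Col.a, Col.e]))
(Tr.lf (Alt.word (nat_lit 11) (nat_lit 1) true [Col.b, Col.c, Col.b, Col.c, Col.b, Col.c]))))
(Tr.nd (nat_lit 91) (Tr.nd (nat_lit 90) (Tr.lf (Alt.word (nat_lit 30) (nat_lit 2) true [Col.g, Col.d, Col.g, Col.d]))
(Tr.lf (Alt.word (nat_lit 17) (nat_lit 1) true [Col.b, Col.h, Col.b, Col.h])))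
(Tr.nd (nat_lit 92) (Tr.lf (Alt.word (nat_lit 2) (nat_lit 2) true [Col.c, Col.a, Col.c, Col.a]))
(Tr.lf (Alt.word (nat_lit 8) (nat_lit 2) true [Col.h, Col.a, Col.h, Col.a])))))))
(Tr.nd (nat_lit 108) (Tr.nd (nat_lit 100) (Tr.nd (nat_lit 96) (Tr.nd (nat_lit 94) (Tr.lf (Alt.word (nat_lit 9) (nat_lit 1) true [Col.a, Col.i, Col.a, Col.i]))
(Tr.nd (nat_lit 95) (Tr.lf (Alt.word (nat_lit 4) (nat_lit 2) true [Col.e, Col.a, Col.e, Col.a]))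
(Tr.lf (Alt.word (nat_lit 9) (nat_lit 2) true [Col.i, Col.a, Col.i, Col.a]))))
(Tr.nd (nat_lit 98) (Tr.nd (nat_lit 97) (Tr.lf (Alt.word (nat_lit 53) (nat_lit 5) true [Col.h, Col.i, Col.h, Col.i, Col.h, Col.i]))
(Tr.lf (Alt.word (nat_lit 2) (nat_lit 1) true [Col.a, Col.c, Col.a, Col.c])))
(Tr.nd (nat_lit 99) (Tr.lf (Alt.word (nat_lit 21) (nat_lit 0) true [Col.e, Col.c, Col.e, Col.c]))
(Tr.lf (Alt.word (nat_lit 23) (nat_lit 0) true [Col.g, Col.c, Col.g, Col.c])))))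
(Tr.nd (nat_lit 104) (Tr.nd (nat_lit 102) (Tr.nd (nat_lit 101) (Tr.lf (Alt.word (nat_lit 19) (nat_lit 0) true [Col.c, Col.c]))
(Tr.lf (Alt.word (nat_lit 27) (nat_lit 0) true [Col.d, Col.d])))
(Tr.nd (nat_lit 103) (Tr.lf (Alt.word (nat_lit 0) (nat_lit 0) true [Col.a, Col.a]))
(Tr.lf (Alt.word (nat_lit 54) (nat_lit 0) true [Col.i, Col.i]))))
(Tr.nd (nat_lit 106) (Tr.nd (nat_lit 105) (Tr.lf (Alt.word (nat_lit 40) (nat_lit 0) true [Col.f, Col.f]))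
(Tr.lf (Alt.word (nat_lit 28) (nat_lit 3) true [Col.d, Col.e, Col.d, Col.e, Col.d, Col.e])))
(Tr.nd (nat_lit 107) (Tr.lf (Alt.word (nat_lit 33) (nat_lit 3) true [Col.d, Col.i, Col.d, Col.i]))
(Tr.lf (Alt.word (nat_lit 6) (nat_lit 1) true [Col.a, Col.g, Col.a, Col.g]))))))
(Tr.nd (nat_lit 116) (Tr.nd (nat_lit 112) (Tr.nd (nat_lit 110) (Tr.nd (nat_lit 109) (Tr.lf (Alt.word (nat_lit 18) (nat_lit 1) true [Col.b, Col.i, Col.b, Col.i]))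
(Tr.lf (Alt.word (nat_lit 20) (nat_lit 1) true [Col.c, Col.d, Col.c, Col.d, Col.c, Col.d])))
(Tr.nd (nat_lit 111) (Tr.lf (Alt.word (nat_lit 36) (nat_lit 2) true [Col.g, Col.e, Col.g, Col.e]))
(Tr.lf (Alt.word (nat_lit 20) (nat_lit 0) true [Col.d, Col.c, Col.d, Col.c, Col.d, Col.c]))))
(Tr.nd (nat_lit 114) (Tr.nd (nat_lit 113) (Tr.lf (Alt.word (nat_lit 47) (nat_lit 1) true [Col.g, Col.h, Col.g, Col.h]))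
(Tr.lf (Alt.word (nat_lit 3) (nat_lit 1) true [Col.a, Col.d, Col.a, Col.d])))
(Tr.nd (nat_lit 115) (Tr.lf (Alt.word (nat_lit 33) (nat_lit 0) true [Col.i, Col.d, Col.i, Col.d]))
(Tr.lf (Alt.word (nat_lit 36) (nat_lit 0) true [Col.g, Col.e, Col.g, Col.e])))))
(Tr.nd (nat_lit 120) (Tr.nd (nat_lit 118) (Tr.nd (nat_lit 117) (Tr.lf (Alt.word (nat_lit 48) (nat_lit 3) true [Col.g, Col.i, Col.g, Col.i]))
(Tr.lf (Alt.word (nat_lit 38) (nat_lit 0) true [Col.h, Col.e, Col.h, Col.e])))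
(Tr.nd (nat_lit 119) (Tr.lf (Alt.word (nat_lit 23) (nat_lit 2) true [Col.g, Col.c, Col.g, Col.c]))
(Tr.lf (Alt.word (nat_lit 4) (nat_lit 3) true [Col.a, Col.e, Col.a, Col.e]))))
(Tr.nd (nat_lit 122) (Tr.nd (nat_lit 121) (Tr.lf (Alt.word (nat_lit 29) (nat_lit 0) true [Col.f, Col.d, Col.f, Col.d]))
(Tr.lf (Alt.word (nat_lit 15) (nat_lit 2) true [Col.g, Col.b, Col.g, Col.b])))
(Tr.nd (nat_lit 123) (Tr.lf (Alt.word (nat_lit 11) (nat_lit 2) true [Col.c, Col.b, Col.c, Col.b, Col.c, Col.b]))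
(Tr.lf (Alt.word (nat_lit 55) (nat_lit 8) true [Col.d, Col.i, Col.h, Col.d, Col.f, Col.e, Col.d, Col.b, Col.c, Col.d, Col.i, Col.h, Col.d, Col.f, Col.e, Col.d, Col.b, Col.c, Col.d, Col.i, Col.h, Col.d, Col.f, Col.e, Col.d, Col.b, Col.c, Col.d, Col.i, Col.h, Col.d, Col.f, Col.e, Col.d, Col.b, Col.c, Col.d, Col.i, Col.h, Col.d, Col.f, Col.e, Col.d, Col.b, Col.c, Col.d, Col.i, Col.h, Col.d, Col.f, Col.e, Col.d, Col.b, Col.c, Col.d, Col.i, Col.h, Col.d, Col.f, Col.e, Col.d, Col.b, Col.c, Col.d, Col.i, Col.h, Col.d, Col.f, Col.e, Col.d, Col.b, Col.c, Col.d, Col.i, Col.h, Col.d, Col.f, Col.e, Col.d, Col.b, Col.c, Col.d, Col.i, Col.h, Col.d, Col.f, Col.e, Col.d, Col.b, Col.c])))))))))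
noncomputable def mini0P : Tr ℕ := (Tr.nd (nat_lit 230) (Tr.nd (nat_lit 115) (Tr.nd (nat_lit 57) (Tr.nd (nat_lit 28) (Tr.nd (nat_lit 14) (Tr.nd (nat_lit 7) (Tr.nd (nat_lit 3) (Tr.nd (nat_lit 1) (Tr.lf (nat_lit 0))
(Tr.nd (nat_lit 2) (Tr.lf (nat_lit 0))
(Tr.lf (nat_lit 1))))
(Tr.nd (nat_lit 5) (Tr.nd (nat_lit 4) (Tr.lf (nat_lit 2))
(Tr.lf (nat_lit 3)))
(Tr.nd (nat_lit 6) (Tr.lf (nat_lit 4))
(Tr.lf (nat_lit 5)))))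
(Tr.nd (nat_lit 10) (Tr.nd (nat_lit 8) (Tr.lf (nat_lit 6))
(Tr.nd (nat_lit 9) (Tr.lf (nat_lit 7))
(Tr.lf (nat_lit 8))))
(Tr.nd (nat_lit 12) (Tr.nd (nat_lit 11) (Tr.lf (nat_lit 9))
(Tr.lf (nat_lit 10)))
(Tr.nd (nat_lit 13) (Tr.lf (nat_lit 11))
(Tr.lf (nat_lit 12))))))
(Tr.nd (nat_lit 21) (Tr.nd (nat_lit 17) (Tr.nd (nat_lit 15) (Tr.lf (nat_lit 13))
(Tr.nd (nat_lit 16) (Tr.lf (nat_lit 14))
(Tr.lf (nat_lit 15))))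
(Tr.nd (nat_lit 19) (Tr.nd (nat_lit 18) (Tr.lf (nat_lit 16))
(Tr.lf (nat_lit 17)))
(Tr.nd (nat_lit 20) (Tr.lf (nat_lit 18))
(Tr.lf (nat_lit 19)))))
(Tr.nd (nat_lit 24) (Tr.nd (nat_lit 22) (Tr.lf (nat_lit 20))
(Tr.nd (nat_lit 23) (Tr.lf (nat_lit 21))
(Tr.lf (nat_lit 22))))
(Tr.nd (nat_lit 26) (Tr.nd (nat_lit 25) (Tr.lf (nat_lit 23))
(Tr.lf (nat_lit 24)))
(Tr.nd (nat_lit 27) (Tr.lf (nat_lit 25))
(Tr.lf (nat_lit 26)))))))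
(Tr.nd (nat_lit 42) (Tr.nd (nat_lit 35) (Tr.nd (nat_lit 31) (Tr.nd (nat_lit 29) (Tr.lf (nat_lit 27))
(Tr.nd (nat_lit 30) (Tr.lf (nat_lit 28))
(Tr.lf (nat_lit 29))))
(Tr.nd (nat_lit 33) (Tr.nd (nat_lit 32) (Tr.lf (nat_lit 30))
(Tr.lf (nat_lit 31)))
(Tr.nd (nat_lit 34) (Tr.lf (nat_lit 32))
(Tr.lf (nat_lit 33)))))
(Tr.nd (nat_lit 38) (Tr.nd (nat_lit 36) (Tr.lf (nat_lit 34))
(Tr.nd (nat_lit 37) (Tr.lf (nat_lit 16))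
(Tr.lf (nat_lit 12))))
(Tr.nd (nat_lit 40) (Tr.nd (nat_lit 39) (Tr.lf (nat_lit 17))
(Tr.lf (nat_lit 7)))
(Tr.nd (nat_lit 41) (Tr.lf (nat_lit 11))
(Tr.lf (nat_lit 10))))))
(Tr.nd (nat_lit 49) (Tr.nd (nat_lit 45) (Tr.nd (nat_lit 43) (Tr.lf (nat_lit 9))
(Tr.nd (nat_lit 44) (Tr.lf (nat_lit 7))
(Tr.lf (nat_lit 41))))
(Tr.nd (nat_lit 47) (Tr.nd (nat_lit 46) (Tr.lf (nat_lit 23))
(Tr.lf (nat_lit 23)))
(Tr.nd (nat_lit 48) (Tr.lf (nat_lit 8))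
(Tr.lf (nat_lit 12)))))
(Tr.nd (nat_lit 53) (Tr.nd (nat_lit 51) (Tr.nd (nat_lit 50) (Tr.lf (nat_lit 38))
(Tr.lf (nat_lit 36)))
(Tr.nd (nat_lit 52) (Tr.lf (nat_lit 21))
(Tr.lf (nat_lit 42))))
(Tr.nd (nat_lit 55) (Tr.nd (nat_lit 54) (Tr.lf (nat_lit 37))
(Tr.lf (nat_lit 23)))
(Tr.nd (nat_lit 56) (Tr.lf (nat_lit 24))
(Tr.lf (nat_lit 25))))))))
(Tr.nd (nat_lit 86) (Tr.nd (nat_lit 71) (Tr.nd (nat_lit 64) (Tr.nd (nat_lit 60) (Tr.nd (nat_lit 58) (Tr.lf (nat_lit 23))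
(Tr.nd (nat_lit 59) (Tr.lf (nat_lit 8))
(Tr.lf (nat_lit 57))))
(Tr.nd (nat_lit 62) (Tr.nd (nat_lit 61) (Tr.lf (nat_lit 37))
(Tr.lf (nat_lit 6)))
(Tr.nd (nat_lit 63) (Tr.lf (nat_lit 54))
(Tr.lf (nat_lit 24)))))
(Tr.nd (nat_lit 67) (Tr.nd (nat_lit 65) (Tr.lf (nat_lit 35))
(Tr.nd (nat_lit 66) (Tr.lf (nat_lit 34))
(Tr.lf (nat_lit 52))))
(Tr.nd (nat_lit 69) (Tr.nd (nat_lit 68) (Tr.lf (nat_lit 20))
(Tr.lf (nat_lit 33)))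
(Tr.nd (nat_lit 70) (Tr.lf (nat_lit 67))
(Tr.lf (nat_lit 58))))))
(Tr.nd (nat_lit 78) (Tr.nd (nat_lit 74) (Tr.nd (nat_lit 72) (Tr.lf (nat_lit 22))
(Tr.nd (nat_lit 73) (Tr.lf (nat_lit 21))
(Tr.lf (nat_lit 68))))
(Tr.nd (nat_lit 76) (Tr.nd (nat_lit 75) (Tr.lf (nat_lit 36))
(Tr.lf (nat_lit 56)))
(Tr.nd (nat_lit 77) (Tr.lf (nat_lit 52))
(Tr.lf (nat_lit 73)))))
(Tr.nd (nat_lit 82) (Tr.nd (nat_lit 80) (Tr.nd (nat_lit 79) (Tr.lf (nat_lit 25))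
(Tr.lf (nat_lit 45)))
(Tr.nd (nat_lit 81) (Tr.lf (nat_lit 25))
(Tr.lf (nat_lit 44))))
(Tr.nd (nat_lit 84) (Tr.nd (nat_lit 83) (Tr.lf (nat_lit 45))
(Tr.lf (nat_lit 66)))
(Tr.nd (nat_lit 85) (Tr.lf (nat_lit 55))
(Tr.lf (nat_lit 19)))))))
(Tr.nd (nat_lit 100) (Tr.nd (nat_lit 93) (Tr.nd (nat_lit 89) (Tr.nd (nat_lit 87) (Tr.lf (nat_lit 23))
(Tr.nd (nat_lit 88) (Tr.lf (nat_lit 52))
(Tr.lf (nat_lit 22))))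
(Tr.nd (nat_lit 91) (Tr.nd (nat_lit 90) (Tr.lf (nat_lit 44))
(Tr.lf (nat_lit 85)))
(Tr.nd (nat_lit 92) (Tr.lf (nat_lit 30))
(Tr.lf (nat_lit 21)))))
(Tr.nd (nat_lit 96) (Tr.nd (nat_lit 94) (Tr.lf (nat_lit 81))
(Tr.nd (nat_lit 95) (Tr.lf (nat_lit 89))
(Tr.lf (nat_lit 53))))
(Tr.nd (nat_lit 98) (Tr.nd (nat_lit 97) (Tr.lf (nat_lit 22))
(Tr.lf (nat_lit 62)))
(Tr.nd (nat_lit 99) (Tr.lf (nat_lit 62))
(Tr.lf (nat_lit 51))))))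
(Tr.nd (nat_lit 107) (Tr.nd (nat_lit 103) (Tr.nd (nat_lit 101) (Tr.lf (nat_lit 24))
(Tr.nd (nat_lit 102) (Tr.lf (nat_lit 84))
(Tr.lf (nat_lit 86))))
(Tr.nd (nat_lit 105) (Tr.nd (nat_lit 104) (Tr.lf (nat_lit 23))
(Tr.lf (nat_lit 76)))
(Tr.nd (nat_lit 106) (Tr.lf (nat_lit 78))
(Tr.lf (nat_lit 19)))))
(Tr.nd (nat_lit 111) (Tr.nd (nat_lit 109) (Tr.nd (nat_lit 108) (Tr.lf (nat_lit 51))
(Tr.lf (nat_lit 74)))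
(Tr.nd (nat_lit 110) (Tr.lf (nat_lit 94))
(Tr.lf (nat_lit 69))))
(Tr.nd (nat_lit 113) (Tr.nd (nat_lit 112) (Tr.lf (nat_lit 96))
(Tr.lf (nat_lit 38)))
(Tr.nd (nat_lit 114) (Tr.lf (nat_lit 107))
(Tr.lf (nat_lit 87)))))))))
(Tr.nd (nat_lit 172) (Tr.nd (nat_lit 143) (Tr.nd (nat_lit 129) (Tr.nd (nat_lit 122) (Tr.nd (nat_lit 118) (Tr.nd (nat_lit 116) (Tr.lf (nat_lit 82))
(Tr.nd (nat_lit 117) (Tr.lf (nat_lit 112))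
(Tr.lf (nat_lit 114))))
(Tr.nd (nat_lit 120) (Tr.nd (nat_lit 119) (Tr.lf (nat_lit 66))
(Tr.lf (nat_lit 57)))
(Tr.nd (nat_lit 121) (Tr.lf (nat_lit 91))
(Tr.lf (nat_lit 80)))))
(Tr.nd (nat_lit 125) (Tr.nd (nat_lit 123) (Tr.lf (nat_lit 64))
(Tr.nd (nat_lit 124) (Tr.lf (nat_lit 120))
(Tr.lf (nat_lit 27))))
(Tr.nd (nat_lit 127) (Tr.nd (nat_lit 126) (Tr.lf (nat_lit 103))
(Tr.lf (nat_lit 123)))
(Tr.nd (nat_lit 128) (Tr.lf (nat_lit 30))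
(Tr.lf (nat_lit 124))))))
(Tr.nd (nat_lit 136) (Tr.nd (nat_lit 132) (Tr.nd (nat_lit 130) (Tr.lf (nat_lit 90))
(Tr.nd (nat_lit 131) (Tr.lf (nat_lit 91))
(Tr.lf (nat_lit 77))))
(Tr.nd (nat_lit 134) (Tr.nd (nat_lit 133) (Tr.lf (nat_lit 58))
(Tr.lf (nat_lit 31)))
(Tr.nd (nat_lit 135) (Tr.lf (nat_lit 87))
(Tr.lf (nat_lit 130)))))
(Tr.nd (nat_lit 139) (Tr.nd (nat_lit 137) (Tr.lf (nat_lit 79))
(Tr.nd (nat_lit 138) (Tr.lf (nat_lit 31))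
(Tr.lf (nat_lit 95))))
(Tr.nd (nat_lit 141) (Tr.nd (nat_lit 140) (Tr.lf (nat_lit 114))
(Tr.lf (nat_lit 15)))
(Tr.nd (nat_lit 142) (Tr.lf (nat_lit 136))
(Tr.lf (nat_lit 114)))))))
(Tr.nd (nat_lit 157) (Tr.nd (nat_lit 150) (Tr.nd (nat_lit 146) (Tr.nd (nat_lit 144) (Tr.lf (nat_lit 81))
(Tr.nd (nat_lit 145) (Tr.lf (nat_lit 133))
(Tr.lf (nat_lit 119))))
(Tr.nd (nat_lit 148) (Tr.nd (nat_lit 147) (Tr.lf (nat_lit 73))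
(Tr.lf (nat_lit 98)))
(Tr.nd (nat_lit 149) (Tr.lf (nat_lit 130))
(Tr.lf (nat_lit 134)))))
(Tr.nd (nat_lit 153) (Tr.nd (nat_lit 151) (Tr.lf (nat_lit 122))
(Tr.nd (nat_lit 152) (Tr.lf (nat_lit 147))
(Tr.lf (nat_lit 95))))
(Tr.nd (nat_lit 155) (Tr.nd (nat_lit 154) (Tr.lf (nat_lit 127))
(Tr.lf (nat_lit 151)))
(Tr.nd (nat_lit 156) (Tr.lf (nat_lit 133))
(Tr.lf (nat_lit 109))))))
(Tr.nd (nat_lit 164) (Tr.nd (nat_lit 160) (Tr.nd (nat_lit 158) (Tr.lf (nat_lit 82))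
(Tr.nd (nat_lit 159) (Tr.lf (nat_lit 62))
(Tr.lf (nat_lit 93))))
(Tr.nd (nat_lit 162) (Tr.nd (nat_lit 161) (Tr.lf (nat_lit 88))
(Tr.lf (nat_lit 51)))
(Tr.nd (nat_lit 163) (Tr.lf (nat_lit 101))
(Tr.lf (nat_lit 157)))))
(Tr.nd (nat_lit 168) (Tr.nd (nat_lit 166) (Tr.nd (nat_lit 165) (Tr.lf (nat_lit 124))
(Tr.lf (nat_lit 129)))
(Tr.nd (nat_lit 167) (Tr.lf (nat_lit 161))
(Tr.lf (nat_lit 140))))
(Tr.nd (nat_lit 170) (Tr.nd (nat_lit 169) (Tr.lf (nat_lit 117))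
(Tr.lf (nat_lit 139)))
(Tr.nd (nat_lit 171) (Tr.lf (nat_lit 162))
(Tr.lf (nat_lit 170))))))))
(Tr.nd (nat_lit 201) (Tr.nd (nat_lit 186) (Tr.nd (nat_lit 179) (Tr.nd (nat_lit 175) (Tr.nd (nat_lit 173) (Tr.lf (nat_lit 108))
(Tr.nd (nat_lit 174) (Tr.lf (nat_lit 90))
(Tr.lf (nat_lit 172))))
(Tr.nd (nat_lit 177) (Tr.nd (nat_lit 176) (Tr.lf (nat_lit 142))
(Tr.lf (nat_lit 135)))
(Tr.nd (nat_lit 178) (Tr.lf (nat_lit 141))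
(Tr.lf (nat_lit 168)))))
(Tr.nd (nat_lit 182) (Tr.nd (nat_lit 180) (Tr.lf (nat_lit 138))
(Tr.nd (nat_lit 181) (Tr.lf (nat_lit 176))
(Tr.lf (nat_lit 145))))
(Tr.nd (nat_lit 184) (Tr.nd (nat_lit 183) (Tr.lf (nat_lit 18))
(Tr.lf (nat_lit 152)))
(Tr.nd (nat_lit 185) (Tr.lf (nat_lit 143))
(Tr.lf (nat_lit 169))))))
(Tr.nd (nat_lit 193) (Tr.nd (nat_lit 189) (Tr.nd (nat_lit 187) (Tr.lf (nat_lit 178))
(Tr.nd (nat_lit 188) (Tr.lf (nat_lit 180))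
(Tr.lf (nat_lit 153))))
(Tr.nd (nat_lit 191) (Tr.nd (nat_lit 190) (Tr.lf (nat_lit 175))
(Tr.lf (nat_lit 121)))
(Tr.nd (nat_lit 192) (Tr.lf (nat_lit 167))
(Tr.lf (nat_lit 159)))))
(Tr.nd (nat_lit 197) (Tr.nd (nat_lit 195) (Tr.nd (nat_lit 194) (Tr.lf (nat_lit 190))
(Tr.lf (nat_lit 173)))
(Tr.nd (nat_lit 196) (Tr.lf (nat_lit 135))
(Tr.lf (nat_lit 179))))
(Tr.nd (nat_lit 199) (Tr.nd (nat_lit 198) (Tr.lf (nat_lit 196))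
(Tr.lf (nat_lit 155)))
(Tr.nd (nat_lit 200) (Tr.lf (nat_lit 68))
(Tr.lf (nat_lit 198)))))))
(Tr.nd (nat_lit 215) (Tr.nd (nat_lit 208) (Tr.nd (nat_lit 204) (Tr.nd (nat_lit 202) (Tr.lf (nat_lit 189))
(Tr.nd (nat_lit 203) (Tr.lf (nat_lit 163))
(Tr.lf (nat_lit 134))))
(Tr.nd (nat_lit 206) (Tr.nd (nat_lit 205) (Tr.lf (nat_lit 200))
(Tr.lf (nat_lit 168)))
(Tr.nd (nat_lit 207) (Tr.lf (nat_lit 166))
(Tr.lf (nat_lit 146)))))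
(Tr.nd (nat_lit 211) (Tr.nd (nat_lit 209) (Tr.lf (nat_lit 73))
(Tr.nd (nat_lit 210) (Tr.lf (nat_lit 79))
(Tr.lf (nat_lit 160))))
(Tr.nd (nat_lit 213) (Tr.nd (nat_lit 212) (Tr.lf (nat_lit 204))
(Tr.lf (nat_lit 197)))
(Tr.nd (nat_lit 214) (Tr.lf (nat_lit 166))
(Tr.lf (nat_lit 176))))))
(Tr.nd (nat_lit 222) (Tr.nd (nat_lit 218) (Tr.nd (nat_lit 216) (Tr.lf (nat_lit 158))
(Tr.nd (nat_lit 217) (Tr.lf (nat_lit 181))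
(Tr.lf (nat_lit 192))))
(Tr.nd (nat_lit 220) (Tr.nd (nat_lit 219) (Tr.lf (nat_lit 150))
(Tr.lf (nat_lit 205)))
(Tr.nd (nat_lit 221) (Tr.lf (nat_lit 216))
(Tr.lf (nat_lit 195)))))
(Tr.nd (nat_lit 226) (Tr.nd (nat_lit 224) (Tr.nd (nat_lit 223) (Tr.lf (nat_lit 220))
(Tr.lf (nat_lit 186)))
(Tr.nd (nat_lit 225) (Tr.lf (nat_lit 214))
(Tr.lf (nat_lit 183))))
(Tr.nd (nat_lit 228) (Tr.nd (nat_lit 227) (Tr.lf (nat_lit 217))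
(Tr.lf (nat_lit 180)))
(Tr.nd (nat_lit 229) (Tr.lf (nat_lit 201))
(Tr.lf (nat_lit 227))))))))))
(Tr.nd (nat_lit 345) (Tr.nd (nat_lit 287) (Tr.nd (nat_lit 258) (Tr.nd (nat_lit 244) (Tr.nd (nat_lit 237) (Tr.nd (nat_lit 233) (Tr.nd (nat_lit 231) (Tr.lf (nat_lit 175))
(Tr.nd (nat_lit 232) (Tr.lf (nat_lit 197))
(Tr.lf (nat_lit 209))))
(Tr.nd (nat_lit 235) (Tr.nd (nat_lit 234) (Tr.lf (nat_lit 194))
(Tr.lf (nat_lit 228)))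
(Tr.nd (nat_lit 236) (Tr.lf (nat_lit 213))
(Tr.lf (nat_lit 221)))))
(Tr.nd (nat_lit 240) (Tr.nd (nat_lit 238) (Tr.lf (nat_lit 231))
(Tr.nd (nat_lit 239) (Tr.lf (nat_lit 197))
(Tr.lf (nat_lit 238))))
(Tr.nd (nat_lit 242) (Tr.nd (nat_lit 241) (Tr.lf (nat_lit 152))
(Tr.lf (nat_lit 202)))
(Tr.nd (nat_lit 243) (Tr.lf (nat_lit 241))
(Tr.lf (nat_lit 191))))))
(Tr.nd (nat_lit 251) (Tr.nd (nat_lit 247) (Tr.nd (nat_lit 245) (Tr.lf (nat_lit 200))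
(Tr.nd (nat_lit 246) (Tr.lf (nat_lit 227))
(Tr.lf (nat_lit 178))))
(Tr.nd (nat_lit 249) (Tr.nd (nat_lit 248) (Tr.lf (nat_lit 165))
(Tr.lf (nat_lit 234)))
(Tr.nd (nat_lit 250) (Tr.lf (nat_lit 226))
(Tr.lf (nat_lit 248)))))
(Tr.nd (nat_lit 254) (Tr.nd (nat_lit 252) (Tr.lf (nat_lit 246))
(Tr.nd (nat_lit 253) (Tr.lf (nat_lit 210))
(Tr.lf (nat_lit 240))))
(Tr.nd (nat_lit 256) (Tr.nd (nat_lit 255) (Tr.lf (nat_lit 183))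
(Tr.lf (nat_lit 243)))
(Tr.nd (nat_lit 257) (Tr.lf (nat_lit 218))
(Tr.lf (nat_lit 212)))))))
(Tr.nd (nat_lit 272) (Tr.nd (nat_lit 265) (Tr.nd (nat_lit 261) (Tr.nd (nat_lit 259) (Tr.lf (nat_lit 213))
(Tr.nd (nat_lit 260) (Tr.lf (nat_lit 248))
(Tr.lf (nat_lit 253))))
(Tr.nd (nat_lit 263) (Tr.nd (nat_lit 262) (Tr.lf (nat_lit 211))
(Tr.lf (nat_lit 245)))
(Tr.nd (nat_lit 264) (Tr.lf (nat_lit 252))
(Tr.lf (nat_lit 208)))))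
(Tr.nd (nat_lit 268) (Tr.nd (nat_lit 266) (Tr.lf (nat_lit 222))
(Tr.nd (nat_lit 267) (Tr.lf (nat_lit 264))
(Tr.lf (nat_lit 233))))
(Tr.nd (nat_lit 270) (Tr.nd (nat_lit 269) (Tr.lf (nat_lit 198))
(Tr.lf (nat_lit 254)))
(Tr.nd (nat_lit 271) (Tr.lf (nat_lit 218))
(Tr.lf (nat_lit 270))))))
(Tr.nd (nat_lit 279) (Tr.nd (nat_lit 275) (Tr.nd (nat_lit 273) (Tr.lf (nat_lit 236))
(Tr.nd (nat_lit 274) (Tr.lf (nat_lit 222))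
(Tr.lf (nat_lit 224))))
(Tr.nd (nat_lit 277) (Tr.nd (nat_lit 276) (Tr.lf (nat_lit 273))
(Tr.lf (nat_lit 223)))
(Tr.nd (nat_lit 278) (Tr.lf (nat_lit 219))
(Tr.lf (nat_lit 274)))))
(Tr.nd (nat_lit 283) (Tr.nd (nat_lit 281) (Tr.nd (nat_lit 280) (Tr.lf (nat_lit 238))
(Tr.lf (nat_lit 223)))
(Tr.nd (nat_lit 282) (Tr.lf (nat_lit 277))
(Tr.lf (nat_lit 280))))
(Tr.nd (nat_lit 285) (Tr.nd (nat_lit 284) (Tr.lf (nat_lit 249))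
(Tr.lf (nat_lit 275)))
(Tr.nd (nat_lit 286) (Tr.lf (nat_lit 264))
(Tr.lf (nat_lit 232))))))))
(Tr.nd (nat_lit 316) (Tr.nd (nat_lit 301) (Tr.nd (nat_lit 294) (Tr.nd (nat_lit 290) (Tr.nd (nat_lit 288) (Tr.lf (nat_lit 242))
(Tr.nd (nat_lit 289) (Tr.lf (nat_lit 239))
(Tr.lf (nat_lit 254))))
(Tr.nd (nat_lit 292) (Tr.nd (nat_lit 291) (Tr.lf (nat_lit 213))
(Tr.lf (nat_lit 245)))
(Tr.nd (nat_lit 293) (Tr.lf (nat_lit 244))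
(Tr.lf (nat_lit 283)))))
(Tr.nd (nat_lit 297) (Tr.nd (nat_lit 295) (Tr.lf (nat_lit 244))
(Tr.nd (nat_lit 296) (Tr.lf (nat_lit 290))
(Tr.lf (nat_lit 237))))
(Tr.nd (nat_lit 299) (Tr.nd (nat_lit 298) (Tr.lf (nat_lit 264))
(Tr.lf (nat_lit 255)))
(Tr.nd (nat_lit 300) (Tr.lf (nat_lit 276))
(Tr.lf (nat_lit 214))))))
(Tr.nd (nat_lit 308) (Tr.nd (nat_lit 304) (Tr.nd (nat_lit 302) (Tr.lf (nat_lit 286))
(Tr.nd (nat_lit 303) (Tr.lf (nat_lit 255))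
(Tr.lf (nat_lit 251))))
(Tr.nd (nat_lit 306) (Tr.nd (nat_lit 305) (Tr.lf (nat_lit 268))
(Tr.lf (nat_lit 267)))
(Tr.nd (nat_lit 307) (Tr.lf (nat_lit 261))
(Tr.lf (nat_lit 262)))))
(Tr.nd (nat_lit 312) (Tr.nd (nat_lit 310) (Tr.nd (nat_lit 309) (Tr.lf (nat_lit 305))
(Tr.lf (nat_lit 300)))
(Tr.nd (nat_lit 311) (Tr.lf (nat_lit 279))
(Tr.lf (nat_lit 245))))
(Tr.nd (nat_lit 314) (Tr.nd (nat_lit 313) (Tr.lf (nat_lit 293))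
(Tr.lf (nat_lit 308)))
(Tr.nd (nat_lit 315) (Tr.lf (nat_lit 286))
(Tr.lf (nat_lit 256)))))))
(Tr.nd (nat_lit 330) (Tr.nd (nat_lit 323) (Tr.nd (nat_lit 319) (Tr.nd (nat_lit 317) (Tr.lf (nat_lit 294))
(Tr.nd (nat_lit 318) (Tr.lf (nat_lit 281))
(Tr.lf (nat_lit 294))))
(Tr.nd (nat_lit 321) (Tr.nd (nat_lit 320) (Tr.lf (nat_lit 272))
(Tr.lf (nat_lit 259)))
(Tr.nd (nat_lit 322) (Tr.lf (nat_lit 265))
(Tr.lf (nat_lit 269)))))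
(Tr.nd (nat_lit 326) (Tr.nd (nat_lit 324) (Tr.lf (nat_lit 312))
(Tr.nd (nat_lit 325) (Tr.lf (nat_lit 291))
(Tr.lf (nat_lit 262))))
(Tr.nd (nat_lit 328) (Tr.nd (nat_lit 327) (Tr.lf (nat_lit 323))
(Tr.lf (nat_lit 266)))
(Tr.nd (nat_lit 329) (Tr.lf (nat_lit 327))
(Tr.lf (nat_lit 328))))))
(Tr.nd (nat_lit 337) (Tr.nd (nat_lit 333) (Tr.nd (nat_lit 331) (Tr.lf (nat_lit 310))
(Tr.nd (nat_lit 332) (Tr.lf (nat_lit 319))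
(Tr.lf (nat_lit 276))))
(Tr.nd (nat_lit 335) (Tr.nd (nat_lit 334) (Tr.lf (nat_lit 326))
(Tr.lf (nat_lit 276)))
(Tr.nd (nat_lit 336) (Tr.lf (nat_lit 306))
(Tr.lf (nat_lit 263)))))
(Tr.nd (nat_lit 341) (Tr.nd (nat_lit 339) (Tr.nd (nat_lit 338) (Tr.lf (nat_lit 260))
(Tr.lf (nat_lit 332)))
(Tr.nd (nat_lit 340) (Tr.lf (nat_lit 285))
(Tr.lf (nat_lit 325))))
(Tr.nd (nat_lit 343) (Tr.nd (nat_lit 342) (Tr.lf (nat_lit 279))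
(Tr.lf (nat_lit 336)))
(Tr.nd (nat_lit 344) (Tr.lf (nat_lit 308))
(Tr.lf (nat_lit 313)))))))))
(Tr.nd (nat_lit 402) (Tr.nd (nat_lit 373) (Tr.nd (nat_lit 359) (Tr.nd (nat_lit 352) (Tr.nd (nat_lit 348) (Tr.nd (nat_lit 346) (Tr.lf (nat_lit 288))
(Tr.nd (nat_lit 347) (Tr.lf (nat_lit 322))
(Tr.lf (nat_lit 287))))
(Tr.nd (nat_lit 350) (Tr.nd (nat_lit 349) (Tr.lf (nat_lit 337))
(Tr.lf (nat_lit 309)))
(Tr.nd (nat_lit 351) (Tr.lf (nat_lit 297))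
(Tr.lf (nat_lit 263)))))
(Tr.nd (nat_lit 355) (Tr.nd (nat_lit 353) (Tr.lf (nat_lit 348))
(Tr.nd (nat_lit 354) (Tr.lf (nat_lit 271))
(Tr.lf (nat_lit 313))))
(Tr.nd (nat_lit 357) (Tr.nd (nat_lit 356) (Tr.lf (nat_lit 316))
(Tr.lf (nat_lit 303)))
(Tr.nd (nat_lit 358) (Tr.lf (nat_lit 316))
(Tr.lf (nat_lit 304))))))
(Tr.nd (nat_lit 366) (Tr.nd (nat_lit 362) (Tr.nd (nat_lit 360) (Tr.lf (nat_lit 299))
(Tr.nd (nat_lit 361) (Tr.lf (nat_lit 307))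
(Tr.lf (nat_lit 334))))
(Tr.nd (nat_lit 364) (Tr.nd (nat_lit 363) (Tr.lf (nat_lit 350))
(Tr.lf (nat_lit 344)))
(Tr.nd (nat_lit 365) (Tr.lf (nat_lit 298))
(Tr.lf (nat_lit 301)))))
(Tr.nd (nat_lit 369) (Tr.nd (nat_lit 367) (Tr.lf (nat_lit 261))
(Tr.nd (nat_lit 368) (Tr.lf (nat_lit 365))
(Tr.lf (nat_lit 333))))
(Tr.nd (nat_lit 371) (Tr.nd (nat_lit 370) (Tr.lf (nat_lit 301))
(Tr.lf (nat_lit 341)))
(Tr.nd (nat_lit 372) (Tr.lf (nat_lit 310))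
(Tr.lf (nat_lit 345)))))))
(Tr.nd (nat_lit 387) (Tr.nd (nat_lit 380) (Tr.nd (nat_lit 376) (Tr.nd (nat_lit 374) (Tr.lf (nat_lit 349))
(Tr.nd (nat_lit 375) (Tr.lf (nat_lit 355))
(Tr.lf (nat_lit 350))))
(Tr.nd (nat_lit 378) (Tr.nd (nat_lit 377) (Tr.lf (nat_lit 365))
(Tr.lf (nat_lit 308)))
(Tr.nd (nat_lit 379) (Tr.lf (nat_lit 356))
(Tr.lf (nat_lit 378)))))
(Tr.nd (nat_lit 383) (Tr.nd (nat_lit 381) (Tr.lf (nat_lit 333))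
(Tr.nd (nat_lit 382) (Tr.lf (nat_lit 331))
(Tr.lf (nat_lit 352))))
(Tr.nd (nat_lit 385) (Tr.nd (nat_lit 384) (Tr.lf (nat_lit 338))
(Tr.lf (nat_lit 329)))
(Tr.nd (nat_lit 386) (Tr.lf (nat_lit 326))
(Tr.lf (nat_lit 356))))))
(Tr.nd (nat_lit 394) (Tr.nd (nat_lit 390) (Tr.nd (nat_lit 388) (Tr.lf (nat_lit 323))
(Tr.nd (nat_lit 389) (Tr.lf (nat_lit 346))
(Tr.lf (nat_lit 306))))
(Tr.nd (nat_lit 392) (Tr.nd (nat_lit 391) (Tr.lf (nat_lit 338))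
(Tr.lf (nat_lit 368)))
(Tr.nd (nat_lit 393) (Tr.lf (nat_lit 339))
(Tr.lf (nat_lit 379)))))
(Tr.nd (nat_lit 398) (Tr.nd (nat_lit 396) (Tr.nd (nat_lit 395) (Tr.lf (nat_lit 384))
(Tr.lf (nat_lit 374)))
(Tr.nd (nat_lit 397) (Tr.lf (nat_lit 381))
(Tr.lf (nat_lit 343))))
(Tr.nd (nat_lit 400) (Tr.nd (nat_lit 399) (Tr.lf (nat_lit 362))
(Tr.lf (nat_lit 393)))
(Tr.nd (nat_lit 401) (Tr.lf (nat_lit 355))
(Tr.lf (nat_lit 353))))))))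
(Tr.nd (nat_lit 431) (Tr.nd (nat_lit 416) (Tr.nd (nat_lit 409) (Tr.nd (nat_lit 405) (Tr.nd (nat_lit 403) (Tr.lf (nat_lit 391))
(Tr.nd (nat_lit 404) (Tr.lf (nat_lit 401))
(Tr.lf (nat_lit 397))))
(Tr.nd (nat_lit 407) (Tr.nd (nat_lit 406) (Tr.lf (nat_lit 355))
(Tr.lf (nat_lit 357)))
(Tr.nd (nat_lit 408) (Tr.lf (nat_lit 362))
(Tr.lf (nat_lit 382)))))
(Tr.nd (nat_lit 412) (Tr.nd (nat_lit 410) (Tr.lf (nat_lit 399))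
(Tr.nd (nat_lit 411) (Tr.lf (nat_lit 388))
(Tr.lf (nat_lit 392))))
(Tr.nd (nat_lit 414) (Tr.nd (nat_lit 413) (Tr.lf (nat_lit 409))
(Tr.lf (nat_lit 385)))
(Tr.nd (nat_lit 415) (Tr.lf (nat_lit 369))
(Tr.lf (nat_lit 375))))))
(Tr.nd (nat_lit 423) (Tr.nd (nat_lit 419) (Tr.nd (nat_lit 417) (Tr.lf (nat_lit 383))
(Tr.nd (nat_lit 418) (Tr.lf (nat_lit 396))
(Tr.lf (nat_lit 370))))
(Tr.nd (nat_lit 421) (Tr.nd (nat_lit 420) (Tr.lf (nat_lit 376))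
(Tr.lf (nat_lit 410)))
(Tr.nd (nat_lit 422) (Tr.lf (nat_lit 374))
(Tr.lf (nat_lit 415)))))
(Tr.nd (nat_lit 427) (Tr.nd (nat_lit 425) (Tr.nd (nat_lit 424) (Tr.lf (nat_lit 417))
(Tr.lf (nat_lit 380)))
(Tr.nd (nat_lit 426) (Tr.lf (nat_lit 398))
(Tr.lf (nat_lit 380))))
(Tr.nd (nat_lit 429) (Tr.nd (nat_lit 428) (Tr.lf (nat_lit 380))
(Tr.lf (nat_lit 391)))
(Tr.nd (nat_lit 430) (Tr.lf (nat_lit 419))
(Tr.lf (nat_lit 403)))))))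
(Tr.nd (nat_lit 445) (Tr.nd (nat_lit 438) (Tr.nd (nat_lit 434) (Tr.nd (nat_lit 432) (Tr.lf (nat_lit 416))
(Tr.nd (nat_lit 433) (Tr.lf (nat_lit 402))
(Tr.lf (nat_lit 431))))
(Tr.nd (nat_lit 436) (Tr.nd (nat_lit 435) (Tr.lf (nat_lit 428))
(Tr.lf (nat_lit 415)))
(Tr.nd (nat_lit 437) (Tr.lf (nat_lit 434))
(Tr.lf (nat_lit 395)))))
(Tr.nd (nat_lit 441) (Tr.nd (nat_lit 439) (Tr.lf (nat_lit 374))
(Tr.nd (nat_lit 440) (Tr.lf (nat_lit 405))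
(Tr.lf (nat_lit 400))))
(Tr.nd (nat_lit 443) (Tr.nd (nat_lit 442) (Tr.lf (nat_lit 440))
(Tr.lf (nat_lit 430)))
(Tr.nd (nat_lit 444) (Tr.lf (nat_lit 408))
(Tr.lf (nat_lit 432))))))
(Tr.nd (nat_lit 452) (Tr.nd (nat_lit 448) (Tr.nd (nat_lit 446) (Tr.lf (nat_lit 438))
(Tr.nd (nat_lit 447) (Tr.lf (nat_lit 411))
(Tr.lf (nat_lit 435))))
(Tr.nd (nat_lit 450) (Tr.nd (nat_lit 449) (Tr.lf (nat_lit 446))
(Tr.lf (nat_lit 444)))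
(Tr.nd (nat_lit 451) (Tr.lf (nat_lit 423))
(Tr.lf (nat_lit 425)))))
(Tr.nd (nat_lit 456) (Tr.nd (nat_lit 454) (Tr.nd (nat_lit 453) (Tr.lf (nat_lit 422))
(Tr.lf (nat_lit 436)))
(Tr.nd (nat_lit 455) (Tr.lf (nat_lit 437))
(Tr.lf (nat_lit 439))))
(Tr.nd (nat_lit 458) (Tr.nd (nat_lit 457) (Tr.lf (nat_lit 449))
(Tr.lf (nat_lit 456)))
(Tr.nd (nat_lit 459) (Tr.lf (nat_lit 441))
(Tr.lf (nat_lit 457)))))))))))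
noncomputable def mini0Q : Tr ℕ := (Tr.nd (nat_lit 230) (Tr.nd (nat_lit 115) (Tr.nd (nat_lit 57) (Tr.nd (nat_lit 28) (Tr.nd (nat_lit 14) (Tr.nd (nat_lit 7) (Tr.nd (nat_lit 3) (Tr.nd (nat_lit 1) (Tr.lf (nat_lit 0))
(Tr.nd (nat_lit 2) (Tr.lf (nat_lit 7))
(Tr.lf (nat_lit 6))))
(Tr.nd (nat_lit 5) (Tr.nd (nat_lit 4) (Tr.lf (nat_lit 5))
(Tr.lf (nat_lit 4)))
(Tr.nd (nat_lit 6) (Tr.lf (nat_lit 3))
(Tr.lf (nat_lit 2)))))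
(Tr.nd (nat_lit 10) (Tr.nd (nat_lit 8) (Tr.lf (nat_lit 8))
(Tr.nd (nat_lit 9) (Tr.lf (nat_lit 3))
(Tr.lf (nat_lit 4))))
(Tr.nd (nat_lit 12) (Tr.nd (nat_lit 11) (Tr.lf (nat_lit 5))
(Tr.lf (nat_lit 9)))
(Tr.nd (nat_lit 13) (Tr.lf (nat_lit 8))
(Tr.lf (nat_lit 3))))))
(Tr.nd (nat_lit 21) (Tr.nd (nat_lit 17) (Tr.nd (nat_lit 15) (Tr.lf (nat_lit 2))
(Tr.nd (nat_lit 16) (Tr.lf (nat_lit 1))
(Tr.lf (nat_lit 4))))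
(Tr.nd (nat_lit 19) (Tr.nd (nat_lit 18) (Tr.lf (nat_lit 3))
(Tr.lf (nat_lit 2)))
(Tr.nd (nat_lit 20) (Tr.lf (nat_lit 8))
(Tr.lf (nat_lit 9)))))
(Tr.nd (nat_lit 24) (Tr.nd (nat_lit 22) (Tr.lf (nat_lit 3))
(Tr.nd (nat_lit 23) (Tr.lf (nat_lit 8))
(Tr.lf (nat_lit 4))))
(Tr.nd (nat_lit 26) (Tr.nd (nat_lit 25) (Tr.lf (nat_lit 5))
(Tr.lf (nat_lit 3)))
(Tr.nd (nat_lit 27) (Tr.lf (nat_lit 4))
(Tr.lf (nat_lit 2)))))))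
(Tr.nd (nat_lit 42) (Tr.nd (nat_lit 35) (Tr.nd (nat_lit 31) (Tr.nd (nat_lit 29) (Tr.lf (nat_lit 3))
(Tr.nd (nat_lit 30) (Tr.lf (nat_lit 8))
(Tr.lf (nat_lit 1))))
(Tr.nd (nat_lit 33) (Tr.nd (nat_lit 32) (Tr.lf (nat_lit 2))
(Tr.lf (nat_lit 3)))
(Tr.nd (nat_lit 34) (Tr.lf (nat_lit 4))
(Tr.lf (nat_lit 5)))))
(Tr.nd (nat_lit 38) (Tr.nd (nat_lit 36) (Tr.lf (nat_lit 6))
(Tr.nd (nat_lit 37) (Tr.lf (nat_lit 1))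
(Tr.lf (nat_lit 1))))
(Tr.nd (nat_lit 40) (Tr.nd (nat_lit 39) (Tr.lf (nat_lit 8))
(Tr.lf (nat_lit 9)))
(Tr.nd (nat_lit 41) (Tr.lf (nat_lit 1))
(Tr.lf (nat_lit 1))))))
(Tr.nd (nat_lit 49) (Tr.nd (nat_lit 45) (Tr.nd (nat_lit 43) (Tr.lf (nat_lit 9))
(Tr.nd (nat_lit 44) (Tr.lf (nat_lit 2))
(Tr.lf (nat_lit 5))))
(Tr.nd (nat_lit 47) (Tr.nd (nat_lit 46) (Tr.lf (nat_lit 3))
(Tr.lf (nat_lit 1)))
(Tr.nd (nat_lit 48) (Tr.lf (nat_lit 9))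
(Tr.lf (nat_lit 6)))))
(Tr.nd (nat_lit 53) (Tr.nd (nat_lit 51) (Tr.nd (nat_lit 50) (Tr.lf (nat_lit 9))
(Tr.lf (nat_lit 3)))
(Tr.nd (nat_lit 52) (Tr.lf (nat_lit 9))
(Tr.lf (nat_lit 1))))
(Tr.nd (nat_lit 55) (Tr.nd (nat_lit 54) (Tr.lf (nat_lit 6))
(Tr.lf (nat_lit 8)))
(Tr.nd (nat_lit 56) (Tr.lf (nat_lit 0))
(Tr.lf (nat_lit 0))))))))
(Tr.nd (nat_lit 86) (Tr.nd (nat_lit 71) (Tr.nd (nat_lit 64) (Tr.nd (nat_lit 60) (Tr.nd (nat_lit 58) (Tr.lf (nat_lit 0))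
(Tr.nd (nat_lit 59) (Tr.lf (nat_lit 1))
(Tr.lf (nat_lit 8))))
(Tr.nd (nat_lit 62) (Tr.nd (nat_lit 61) (Tr.lf (nat_lit 3))
(Tr.lf (nat_lit 1)))
(Tr.nd (nat_lit 63) (Tr.lf (nat_lit 9))
(Tr.lf (nat_lit 8)))))
(Tr.nd (nat_lit 67) (Tr.nd (nat_lit 65) (Tr.lf (nat_lit 9))
(Tr.nd (nat_lit 66) (Tr.lf (nat_lit 9))
(Tr.lf (nat_lit 8))))
(Tr.nd (nat_lit 69) (Tr.nd (nat_lit 68) (Tr.lf (nat_lit 5))
(Tr.lf (nat_lit 9)))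
(Tr.nd (nat_lit 70) (Tr.lf (nat_lit 3))
(Tr.lf (nat_lit 3))))))
(Tr.nd (nat_lit 78) (Tr.nd (nat_lit 74) (Tr.nd (nat_lit 72) (Tr.lf (nat_lit 1))
(Tr.nd (nat_lit 73) (Tr.lf (nat_lit 1))
(Tr.lf (nat_lit 4))))
(Tr.nd (nat_lit 76) (Tr.nd (nat_lit 75) (Tr.lf (nat_lit 2))
(Tr.lf (nat_lit 4)))
(Tr.nd (nat_lit 77) (Tr.lf (nat_lit 4))
(Tr.lf (nat_lit 3)))))
(Tr.nd (nat_lit 82) (Tr.nd (nat_lit 80) (Tr.nd (nat_lit 79) (Tr.lf (nat_lit 9))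
(Tr.lf (nat_lit 9)))
(Tr.nd (nat_lit 81) (Tr.lf (nat_lit 2))
(Tr.lf (nat_lit 2))))
(Tr.nd (nat_lit 84) (Tr.nd (nat_lit 83) (Tr.lf (nat_lit 2))
(Tr.lf (nat_lit 3)))
(Tr.nd (nat_lit 85) (Tr.lf (nat_lit 8))
(Tr.lf (nat_lit 6)))))))
(Tr.nd (nat_lit 100) (Tr.nd (nat_lit 93) (Tr.nd (nat_lit 89) (Tr.nd (nat_lit 87) (Tr.lf (nat_lit 9))
(Tr.nd (nat_lit 88) (Tr.lf (nat_lit 2))
(Tr.lf (nat_lit 9))))
(Tr.nd (nat_lit 91) (Tr.nd (nat_lit 90) (Tr.lf (nat_lit 0))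
(Tr.lf (nat_lit 3)))
(Tr.nd (nat_lit 92) (Tr.lf (nat_lit 8))
(Tr.lf (nat_lit 0)))))
(Tr.nd (nat_lit 96) (Tr.nd (nat_lit 94) (Tr.lf (nat_lit 0))
(Tr.nd (nat_lit 95) (Tr.lf (nat_lit 9))
(Tr.lf (nat_lit 2))))
(Tr.nd (nat_lit 98) (Tr.nd (nat_lit 97) (Tr.lf (nat_lit 0))
(Tr.lf (nat_lit 5)))
(Tr.nd (nat_lit 99) (Tr.lf (nat_lit 0))
(Tr.lf (nat_lit 0))))))
(Tr.nd (nat_lit 107) (Tr.nd (nat_lit 103) (Tr.nd (nat_lit 101) (Tr.lf (nat_lit 9))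
(Tr.nd (nat_lit 102) (Tr.lf (nat_lit 9))
(Tr.lf (nat_lit 0))))
(Tr.nd (nat_lit 105) (Tr.nd (nat_lit 104) (Tr.lf (nat_lit 6))
(Tr.lf (nat_lit 3)))
(Tr.nd (nat_lit 106) (Tr.lf (nat_lit 4))
(Tr.lf (nat_lit 5)))))
(Tr.nd (nat_lit 111) (Tr.nd (nat_lit 109) (Tr.nd (nat_lit 108) (Tr.lf (nat_lit 5))
(Tr.lf (nat_lit 1)))
(Tr.nd (nat_lit 110) (Tr.lf (nat_lit 2))
(Tr.lf (nat_lit 0))))
(Tr.nd (nat_lit 113) (Tr.nd (nat_lit 112) (Tr.lf (nat_lit 5))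
(Tr.lf (nat_lit 5)))
(Tr.nd (nat_lit 114) (Tr.lf (nat_lit 0))
(Tr.lf (nat_lit 5)))))))))
(Tr.nd (nat_lit 172) (Tr.nd (nat_lit 143) (Tr.nd (nat_lit 129) (Tr.nd (nat_lit 122) (Tr.nd (nat_lit 118) (Tr.nd (nat_lit 116) (Tr.lf (nat_lit 9))
(Tr.nd (nat_lit 117) (Tr.lf (nat_lit 8))
(Tr.lf (nat_lit 8))))
(Tr.nd (nat_lit 120) (Tr.nd (nat_lit 119) (Tr.lf (nat_lit 4))
(Tr.lf (nat_lit 6)))
(Tr.nd (nat_lit 121) (Tr.lf (nat_lit 3))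
(Tr.lf (nat_lit 9)))))
(Tr.nd (nat_lit 125) (Tr.nd (nat_lit 123) (Tr.lf (nat_lit 8))
(Tr.nd (nat_lit 124) (Tr.lf (nat_lit 4))
(Tr.lf (nat_lit 9))))
(Tr.nd (nat_lit 127) (Tr.nd (nat_lit 126) (Tr.lf (nat_lit 3))
(Tr.lf (nat_lit 9)))
(Tr.nd (nat_lit 128) (Tr.lf (nat_lit 6))
(Tr.lf (nat_lit 3))))))
(Tr.nd (nat_lit 136) (Tr.nd (nat_lit 132) (Tr.nd (nat_lit 130) (Tr.lf (nat_lit 4))
(Tr.nd (nat_lit 131) (Tr.lf (nat_lit 9))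
(Tr.lf (nat_lit 2))))
(Tr.nd (nat_lit 134) (Tr.nd (nat_lit 133) (Tr.lf (nat_lit 2))
(Tr.lf (nat_lit 6)))
(Tr.nd (nat_lit 135) (Tr.lf (nat_lit 3))
(Tr.lf (nat_lit 6)))))
(Tr.nd (nat_lit 139) (Tr.nd (nat_lit 137) (Tr.lf (nat_lit 6))
(Tr.nd (nat_lit 138) (Tr.lf (nat_lit 8))
(Tr.lf (nat_lit 8))))
(Tr.nd (nat_lit 141) (Tr.nd (nat_lit 140) (Tr.lf (nat_lit 0))
(Tr.lf (nat_lit 2)))
(Tr.nd (nat_lit 142) (Tr.lf (nat_lit 3))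
(Tr.lf (nat_lit 9)))))))
(Tr.nd (nat_lit 157) (Tr.nd (nat_lit 150) (Tr.nd (nat_lit 146) (Tr.nd (nat_lit 144) (Tr.lf (nat_lit 3))
(Tr.nd (nat_lit 145) (Tr.lf (nat_lit 3))
(Tr.lf (nat_lit 9))))
(Tr.nd (nat_lit 148) (Tr.nd (nat_lit 147) (Tr.lf (nat_lit 6))
(Tr.lf (nat_lit 8)))
(Tr.nd (nat_lit 149) (Tr.lf (nat_lit 2))
(Tr.lf (nat_lit 5)))))
(Tr.nd (nat_lit 153) (Tr.nd (nat_lit 151) (Tr.lf (nat_lit 6))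
(Tr.nd (nat_lit 152) (Tr.lf (nat_lit 9))
(Tr.lf (nat_lit 3))))
(Tr.nd (nat_lit 155) (Tr.nd (nat_lit 154) (Tr.lf (nat_lit 9))
(Tr.lf (nat_lit 0)))
(Tr.nd (nat_lit 156) (Tr.lf (nat_lit 9))
(Tr.lf (nat_lit 3))))))
(Tr.nd (nat_lit 164) (Tr.nd (nat_lit 160) (Tr.nd (nat_lit 158) (Tr.lf (nat_lit 6))
(Tr.nd (nat_lit 159) (Tr.lf (nat_lit 8))
(Tr.lf (nat_lit 3))))
(Tr.nd (nat_lit 162) (Tr.nd (nat_lit 161) (Tr.lf (nat_lit 8))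
(Tr.lf (nat_lit 8)))
(Tr.nd (nat_lit 163) (Tr.lf (nat_lit 8))
(Tr.lf (nat_lit 9)))))
(Tr.nd (nat_lit 168) (Tr.nd (nat_lit 166) (Tr.nd (nat_lit 165) (Tr.lf (nat_lit 1))
(Tr.lf (nat_lit 8)))
(Tr.nd (nat_lit 167) (Tr.lf (nat_lit 3))
(Tr.lf (nat_lit 4))))
(Tr.nd (nat_lit 170) (Tr.nd (nat_lit 169) (Tr.lf (nat_lit 3))
(Tr.lf (nat_lit 3)))
(Tr.nd (nat_lit 171) (Tr.lf (nat_lit 0))
(Tr.lf (nat_lit 9))))))))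
(Tr.nd (nat_lit 201) (Tr.nd (nat_lit 186) (Tr.nd (nat_lit 179) (Tr.nd (nat_lit 175) (Tr.nd (nat_lit 173) (Tr.lf (nat_lit 2))
(Tr.nd (nat_lit 174) (Tr.lf (nat_lit 8))
(Tr.lf (nat_lit 4))))
(Tr.nd (nat_lit 177) (Tr.nd (nat_lit 176) (Tr.lf (nat_lit 3))
(Tr.lf (nat_lit 8)))
(Tr.nd (nat_lit 178) (Tr.lf (nat_lit 8))
(Tr.lf (nat_lit 2)))))
(Tr.nd (nat_lit 182) (Tr.nd (nat_lit 180) (Tr.lf (nat_lit 3))
(Tr.nd (nat_lit 181) (Tr.lf (nat_lit 6))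
(Tr.lf (nat_lit 8))))
(Tr.nd (nat_lit 184) (Tr.nd (nat_lit 183) (Tr.lf (nat_lit 3))
(Tr.lf (nat_lit 8)))
(Tr.nd (nat_lit 185) (Tr.lf (nat_lit 8))
(Tr.lf (nat_lit 9))))))
(Tr.nd (nat_lit 193) (Tr.nd (nat_lit 189) (Tr.nd (nat_lit 187) (Tr.lf (nat_lit 1))
(Tr.nd (nat_lit 188) (Tr.lf (nat_lit 9))
(Tr.lf (nat_lit 8))))
(Tr.nd (nat_lit 191) (Tr.nd (nat_lit 190) (Tr.lf (nat_lit 6))
(Tr.lf (nat_lit 8)))
(Tr.nd (nat_lit 192) (Tr.lf (nat_lit 3))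
(Tr.lf (nat_lit 8)))))
(Tr.nd (nat_lit 197) (Tr.nd (nat_lit 195) (Tr.nd (nat_lit 194) (Tr.lf (nat_lit 5))
(Tr.lf (nat_lit 3)))
(Tr.nd (nat_lit 196) (Tr.lf (nat_lit 0))
(Tr.lf (nat_lit 8))))
(Tr.nd (nat_lit 199) (Tr.nd (nat_lit 198) (Tr.lf (nat_lit 6))
(Tr.lf (nat_lit 8)))
(Tr.nd (nat_lit 200) (Tr.lf (nat_lit 8))
(Tr.lf (nat_lit 6)))))))
(Tr.nd (nat_lit 215) (Tr.nd (nat_lit 208) (Tr.nd (nat_lit 204) (Tr.nd (nat_lit 202) (Tr.lf (nat_lit 0))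
(Tr.nd (nat_lit 203) (Tr.lf (nat_lit 8))
(Tr.lf (nat_lit 8))))
(Tr.nd (nat_lit 206) (Tr.nd (nat_lit 205) (Tr.lf (nat_lit 9))
(Tr.lf (nat_lit 4)))
(Tr.nd (nat_lit 207) (Tr.lf (nat_lit 2))
(Tr.lf (nat_lit 8)))))
(Tr.nd (nat_lit 211) (Tr.nd (nat_lit 209) (Tr.lf (nat_lit 8))
(Tr.nd (nat_lit 210) (Tr.lf (nat_lit 8))
(Tr.lf (nat_lit 3))))
(Tr.nd (nat_lit 213) (Tr.nd (nat_lit 212) (Tr.lf (nat_lit 3))
(Tr.lf (nat_lit 3)))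
(Tr.nd (nat_lit 214) (Tr.lf (nat_lit 4))
(Tr.lf (nat_lit 3))))))
(Tr.nd (nat_lit 222) (Tr.nd (nat_lit 218) (Tr.nd (nat_lit 216) (Tr.lf (nat_lit 3))
(Tr.nd (nat_lit 217) (Tr.lf (nat_lit 3))
(Tr.lf (nat_lit 5))))
(Tr.nd (nat_lit 220) (Tr.nd (nat_lit 219) (Tr.lf (nat_lit 3))
(Tr.lf (nat_lit 2)))
(Tr.nd (nat_lit 221) (Tr.lf (nat_lit 0))
(Tr.lf (nat_lit 8)))))
(Tr.nd (nat_lit 226) (Tr.nd (nat_lit 224) (Tr.nd (nat_lit 223) (Tr.lf (nat_lit 6))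
(Tr.lf (nat_lit 4)))
(Tr.nd (nat_lit 225) (Tr.lf (nat_lit 9))
(Tr.lf (nat_lit 9))))
(Tr.nd (nat_lit 228) (Tr.nd (nat_lit 227) (Tr.lf (nat_lit 0))
(Tr.lf (nat_lit 3)))
(Tr.nd (nat_lit 229) (Tr.lf (nat_lit 4))
(Tr.lf (nat_lit 9))))))))))
(Tr.nd (nat_lit 345) (Tr.nd (nat_lit 287) (Tr.nd (nat_lit 258) (Tr.nd (nat_lit 244) (Tr.nd (nat_lit 237) (Tr.nd (nat_lit 233) (Tr.nd (nat_lit 231) (Tr.lf (nat_lit 4))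
(Tr.nd (nat_lit 232) (Tr.lf (nat_lit 9))
(Tr.lf (nat_lit 3))))
(Tr.nd (nat_lit 235) (Tr.nd (nat_lit 234) (Tr.lf (nat_lit 4))
(Tr.lf (nat_lit 0)))
(Tr.nd (nat_lit 236) (Tr.lf (nat_lit 3))
(Tr.lf (nat_lit 3)))))
(Tr.nd (nat_lit 240) (Tr.nd (nat_lit 238) (Tr.lf (nat_lit 3))
(Tr.nd (nat_lit 239) (Tr.lf (nat_lit 4))
(Tr.lf (nat_lit 9))))
(Tr.nd (nat_lit 242) (Tr.nd (nat_lit 241) (Tr.lf (nat_lit 4))
(Tr.lf (nat_lit 3)))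
(Tr.nd (nat_lit 243) (Tr.lf (nat_lit 6))
(Tr.lf (nat_lit 4))))))
(Tr.nd (nat_lit 251) (Tr.nd (nat_lit 247) (Tr.nd (nat_lit 245) (Tr.lf (nat_lit 3))
(Tr.nd (nat_lit 246) (Tr.lf (nat_lit 2))
(Tr.lf (nat_lit 8))))
(Tr.nd (nat_lit 249) (Tr.nd (nat_lit 248) (Tr.lf (nat_lit 3))
(Tr.lf (nat_lit 9)))
(Tr.nd (nat_lit 250) (Tr.lf (nat_lit 4))
(Tr.lf (nat_lit 6)))))
(Tr.nd (nat_lit 254) (Tr.nd (nat_lit 252) (Tr.lf (nat_lit 4))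
(Tr.nd (nat_lit 253) (Tr.lf (nat_lit 2))
(Tr.lf (nat_lit 2))))
(Tr.nd (nat_lit 256) (Tr.nd (nat_lit 255) (Tr.lf (nat_lit 4))
(Tr.lf (nat_lit 8)))
(Tr.nd (nat_lit 257) (Tr.lf (nat_lit 5))
(Tr.lf (nat_lit 4)))))))
(Tr.nd (nat_lit 272) (Tr.nd (nat_lit 265) (Tr.nd (nat_lit 261) (Tr.nd (nat_lit 259) (Tr.lf (nat_lit 9))
(Tr.nd (nat_lit 260) (Tr.lf (nat_lit 8))
(Tr.lf (nat_lit 8))))
(Tr.nd (nat_lit 263) (Tr.nd (nat_lit 262) (Tr.lf (nat_lit 4))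
(Tr.lf (nat_lit 3)))
(Tr.nd (nat_lit 264) (Tr.lf (nat_lit 4))
(Tr.lf (nat_lit 3)))))
(Tr.nd (nat_lit 268) (Tr.nd (nat_lit 266) (Tr.lf (nat_lit 4))
(Tr.nd (nat_lit 267) (Tr.lf (nat_lit 6))
(Tr.lf (nat_lit 3))))
(Tr.nd (nat_lit 270) (Tr.nd (nat_lit 269) (Tr.lf (nat_lit 3))
(Tr.lf (nat_lit 9)))
(Tr.nd (nat_lit 271) (Tr.lf (nat_lit 2))
(Tr.lf (nat_lit 5))))))
(Tr.nd (nat_lit 279) (Tr.nd (nat_lit 275) (Tr.nd (nat_lit 273) (Tr.lf (nat_lit 4))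
(Tr.nd (nat_lit 274) (Tr.lf (nat_lit 2))
(Tr.lf (nat_lit 4))))
(Tr.nd (nat_lit 277) (Tr.nd (nat_lit 276) (Tr.lf (nat_lit 9))
(Tr.lf (nat_lit 8)))
(Tr.nd (nat_lit 278) (Tr.lf (nat_lit 5))
(Tr.lf (nat_lit 9)))))
(Tr.nd (nat_lit 283) (Tr.nd (nat_lit 281) (Tr.nd (nat_lit 280) (Tr.lf (nat_lit 3))
(Tr.lf (nat_lit 5)))
(Tr.nd (nat_lit 282) (Tr.lf (nat_lit 8))
(Tr.lf (nat_lit 3))))
(Tr.nd (nat_lit 285) (Tr.nd (nat_lit 284) (Tr.lf (nat_lit 3))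
(Tr.lf (nat_lit 6)))
(Tr.nd (nat_lit 286) (Tr.lf (nat_lit 2))
(Tr.lf (nat_lit 2))))))))
(Tr.nd (nat_lit 316) (Tr.nd (nat_lit 301) (Tr.nd (nat_lit 294) (Tr.nd (nat_lit 290) (Tr.nd (nat_lit 288) (Tr.lf (nat_lit 2))
(Tr.nd (nat_lit 289) (Tr.lf (nat_lit 8))
(Tr.lf (nat_lit 3))))
(Tr.nd (nat_lit 292) (Tr.nd (nat_lit 291) (Tr.lf (nat_lit 5))
(Tr.lf (nat_lit 9)))
(Tr.nd (nat_lit 293) (Tr.lf (nat_lit 2))
(Tr.lf (nat_lit 2)))))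
(Tr.nd (nat_lit 297) (Tr.nd (nat_lit 295) (Tr.lf (nat_lit 4))
(Tr.nd (nat_lit 296) (Tr.lf (nat_lit 9))
(Tr.lf (nat_lit 4))))
(Tr.nd (nat_lit 299) (Tr.nd (nat_lit 298) (Tr.lf (nat_lit 4))
(Tr.lf (nat_lit 5)))
(Tr.nd (nat_lit 300) (Tr.lf (nat_lit 5))
(Tr.lf (nat_lit 2))))))
(Tr.nd (nat_lit 308) (Tr.nd (nat_lit 304) (Tr.nd (nat_lit 302) (Tr.lf (nat_lit 4))
(Tr.nd (nat_lit 303) (Tr.lf (nat_lit 3))
(Tr.lf (nat_lit 9))))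
(Tr.nd (nat_lit 306) (Tr.nd (nat_lit 305) (Tr.lf (nat_lit 2))
(Tr.lf (nat_lit 2)))
(Tr.nd (nat_lit 307) (Tr.lf (nat_lit 2))
(Tr.lf (nat_lit 6)))))
(Tr.nd (nat_lit 312) (Tr.nd (nat_lit 310) (Tr.nd (nat_lit 309) (Tr.lf (nat_lit 6))
(Tr.lf (nat_lit 4)))
(Tr.nd (nat_lit 311) (Tr.lf (nat_lit 9))
(Tr.lf (nat_lit 1))))
(Tr.nd (nat_lit 314) (Tr.nd (nat_lit 313) (Tr.lf (nat_lit 9))
(Tr.lf (nat_lit 9)))
(Tr.nd (nat_lit 315) (Tr.lf (nat_lit 1))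
(Tr.lf (nat_lit 4)))))))
(Tr.nd (nat_lit 330) (Tr.nd (nat_lit 323) (Tr.nd (nat_lit 319) (Tr.nd (nat_lit 317) (Tr.lf (nat_lit 2))
(Tr.nd (nat_lit 318) (Tr.lf (nat_lit 3))
(Tr.lf (nat_lit 5))))
(Tr.nd (nat_lit 321) (Tr.nd (nat_lit 320) (Tr.lf (nat_lit 2))
(Tr.lf (nat_lit 3)))
(Tr.nd (nat_lit 322) (Tr.lf (nat_lit 5))
(Tr.lf (nat_lit 3)))))
(Tr.nd (nat_lit 326) (Tr.nd (nat_lit 324) (Tr.lf (nat_lit 8))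
(Tr.nd (nat_lit 325) (Tr.lf (nat_lit 1))
(Tr.lf (nat_lit 1))))
(Tr.nd (nat_lit 328) (Tr.nd (nat_lit 327) (Tr.lf (nat_lit 3))
(Tr.lf (nat_lit 4)))
(Tr.nd (nat_lit 329) (Tr.lf (nat_lit 8))
(Tr.lf (nat_lit 2))))))
(Tr.nd (nat_lit 337) (Tr.nd (nat_lit 333) (Tr.nd (nat_lit 331) (Tr.lf (nat_lit 6))
(Tr.nd (nat_lit 332) (Tr.lf (nat_lit 3))
(Tr.lf (nat_lit 9))))
(Tr.nd (nat_lit 335) (Tr.nd (nat_lit 334) (Tr.lf (nat_lit 4))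
(Tr.lf (nat_lit 3)))
(Tr.nd (nat_lit 336) (Tr.lf (nat_lit 5))
(Tr.lf (nat_lit 5)))))
(Tr.nd (nat_lit 341) (Tr.nd (nat_lit 339) (Tr.nd (nat_lit 338) (Tr.lf (nat_lit 3))
(Tr.lf (nat_lit 3)))
(Tr.nd (nat_lit 340) (Tr.lf (nat_lit 1))
(Tr.lf (nat_lit 9))))
(Tr.nd (nat_lit 343) (Tr.nd (nat_lit 342) (Tr.lf (nat_lit 2))
(Tr.lf (nat_lit 3)))
(Tr.nd (nat_lit 344) (Tr.lf (nat_lit 3))
(Tr.lf (nat_lit 5)))))))))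
(Tr.nd (nat_lit 402) (Tr.nd (nat_lit 373) (Tr.nd (nat_lit 359) (Tr.nd (nat_lit 352) (Tr.nd (nat_lit 348) (Tr.nd (nat_lit 346) (Tr.lf (nat_lit 3))
(Tr.nd (nat_lit 347) (Tr.lf (nat_lit 6))
(Tr.lf (nat_lit 1))))
(Tr.nd (nat_lit 350) (Tr.nd (nat_lit 349) (Tr.lf (nat_lit 6))
(Tr.lf (nat_lit 3)))
(Tr.nd (nat_lit 351) (Tr.lf (nat_lit 2))
(Tr.lf (nat_lit 3)))))
(Tr.nd (nat_lit 355) (Tr.nd (nat_lit 353) (Tr.lf (nat_lit 2))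
(Tr.nd (nat_lit 354) (Tr.lf (nat_lit 4))
(Tr.lf (nat_lit 3))))
(Tr.nd (nat_lit 357) (Tr.nd (nat_lit 356) (Tr.lf (nat_lit 3))
(Tr.lf (nat_lit 3)))
(Tr.nd (nat_lit 358) (Tr.lf (nat_lit 5))
(Tr.lf (nat_lit 1))))))
(Tr.nd (nat_lit 366) (Tr.nd (nat_lit 362) (Tr.nd (nat_lit 360) (Tr.lf (nat_lit 3))
(Tr.nd (nat_lit 361) (Tr.lf (nat_lit 4))
(Tr.lf (nat_lit 2))))
(Tr.nd (nat_lit 364) (Tr.nd (nat_lit 363) (Tr.lf (nat_lit 5))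
(Tr.lf (nat_lit 3)))
(Tr.nd (nat_lit 365) (Tr.lf (nat_lit 3))
(Tr.lf (nat_lit 1)))))
(Tr.nd (nat_lit 369) (Tr.nd (nat_lit 367) (Tr.lf (nat_lit 5))
(Tr.nd (nat_lit 368) (Tr.lf (nat_lit 8))
(Tr.lf (nat_lit 1))))
(Tr.nd (nat_lit 371) (Tr.nd (nat_lit 370) (Tr.lf (nat_lit 3))
(Tr.lf (nat_lit 9)))
(Tr.nd (nat_lit 372) (Tr.lf (nat_lit 8))
(Tr.lf (nat_lit 8)))))))
(Tr.nd (nat_lit 387) (Tr.nd (nat_lit 380) (Tr.nd (nat_lit 376) (Tr.nd (nat_lit 374) (Tr.lf (nat_lit 4))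
(Tr.nd (nat_lit 375) (Tr.lf (nat_lit 5))
(Tr.lf (nat_lit 3))))
(Tr.nd (nat_lit 378) (Tr.nd (nat_lit 377) (Tr.lf (nat_lit 3))
(Tr.lf (nat_lit 1)))
(Tr.nd (nat_lit 379) (Tr.lf (nat_lit 5))
(Tr.lf (nat_lit 1)))))
(Tr.nd (nat_lit 383) (Tr.nd (nat_lit 381) (Tr.lf (nat_lit 2))
(Tr.nd (nat_lit 382) (Tr.lf (nat_lit 4))
(Tr.lf (nat_lit 9))))
(Tr.nd (nat_lit 385) (Tr.nd (nat_lit 384) (Tr.lf (nat_lit 2))
(Tr.lf (nat_lit 1)))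
(Tr.nd (nat_lit 386) (Tr.lf (nat_lit 1))
(Tr.lf (nat_lit 8))))))
(Tr.nd (nat_lit 394) (Tr.nd (nat_lit 390) (Tr.nd (nat_lit 388) (Tr.lf (nat_lit 1))
(Tr.nd (nat_lit 389) (Tr.lf (nat_lit 2))
(Tr.lf (nat_lit 3))))
(Tr.nd (nat_lit 392) (Tr.nd (nat_lit 391) (Tr.lf (nat_lit 8))
(Tr.lf (nat_lit 2)))
(Tr.nd (nat_lit 393) (Tr.lf (nat_lit 4))
(Tr.lf (nat_lit 8)))))
(Tr.nd (nat_lit 398) (Tr.nd (nat_lit 396) (Tr.nd (nat_lit 395) (Tr.lf (nat_lit 6))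
(Tr.lf (nat_lit 9)))
(Tr.nd (nat_lit 397) (Tr.lf (nat_lit 8))
(Tr.lf (nat_lit 1))))
(Tr.nd (nat_lit 400) (Tr.nd (nat_lit 399) (Tr.lf (nat_lit 3))
(Tr.lf (nat_lit 9)))
(Tr.nd (nat_lit 401) (Tr.lf (nat_lit 1))
(Tr.lf (nat_lit 3))))))))
(Tr.nd (nat_lit 431) (Tr.nd (nat_lit 416) (Tr.nd (nat_lit 409) (Tr.nd (nat_lit 405) (Tr.nd (nat_lit 403) (Tr.lf (nat_lit 3))
(Tr.nd (nat_lit 404) (Tr.lf (nat_lit 5))
(Tr.lf (nat_lit 9))))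
(Tr.nd (nat_lit 407) (Tr.nd (nat_lit 406) (Tr.lf (nat_lit 8))
(Tr.lf (nat_lit 1)))
(Tr.nd (nat_lit 408) (Tr.lf (nat_lit 1))
(Tr.lf (nat_lit 8)))))
(Tr.nd (nat_lit 412) (Tr.nd (nat_lit 410) (Tr.lf (nat_lit 2))
(Tr.nd (nat_lit 411) (Tr.lf (nat_lit 8))
(Tr.lf (nat_lit 3))))
(Tr.nd (nat_lit 414) (Tr.nd (nat_lit 413) (Tr.lf (nat_lit 5))
(Tr.lf (nat_lit 2)))
(Tr.nd (nat_lit 415) (Tr.lf (nat_lit 8))
(Tr.lf (nat_lit 8))))))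
(Tr.nd (nat_lit 423) (Tr.nd (nat_lit 419) (Tr.nd (nat_lit 417) (Tr.lf (nat_lit 8))
(Tr.nd (nat_lit 418) (Tr.lf (nat_lit 0))
(Tr.lf (nat_lit 8))))
(Tr.nd (nat_lit 421) (Tr.nd (nat_lit 420) (Tr.lf (nat_lit 8))
(Tr.lf (nat_lit 3)))
(Tr.nd (nat_lit 422) (Tr.lf (nat_lit 1))
(Tr.lf (nat_lit 9)))))
(Tr.nd (nat_lit 427) (Tr.nd (nat_lit 425) (Tr.nd (nat_lit 424) (Tr.lf (nat_lit 6))
(Tr.lf (nat_lit 4)))
(Tr.nd (nat_lit 426) (Tr.lf (nat_lit 1))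
(Tr.lf (nat_lit 3))))
(Tr.nd (nat_lit 429) (Tr.nd (nat_lit 428) (Tr.lf (nat_lit 1))
(Tr.lf (nat_lit 1)))
(Tr.nd (nat_lit 430) (Tr.lf (nat_lit 3))
(Tr.lf (nat_lit 4)))))))
(Tr.nd (nat_lit 445) (Tr.nd (nat_lit 438) (Tr.nd (nat_lit 434) (Tr.nd (nat_lit 432) (Tr.lf (nat_lit 1))
(Tr.nd (nat_lit 433) (Tr.lf (nat_lit 8))
(Tr.lf (nat_lit 2))))
(Tr.nd (nat_lit 436) (Tr.nd (nat_lit 435) (Tr.lf (nat_lit 3))
(Tr.lf (nat_lit 5)))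
(Tr.nd (nat_lit 437) (Tr.lf (nat_lit 8))
(Tr.lf (nat_lit 8)))))
(Tr.nd (nat_lit 441) (Tr.nd (nat_lit 439) (Tr.lf (nat_lit 8))
(Tr.nd (nat_lit 440) (Tr.lf (nat_lit 9))
(Tr.lf (nat_lit 8))))
(Tr.nd (nat_lit 443) (Tr.nd (nat_lit 442) (Tr.lf (nat_lit 5))
(Tr.lf (nat_lit 2)))
(Tr.nd (nat_lit 444) (Tr.lf (nat_lit 3))
(Tr.lf (nat_lit 5))))))
(Tr.nd (nat_lit 452) (Tr.nd (nat_lit 448) (Tr.nd (nat_lit 446) (Tr.lf (nat_lit 9))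
(Tr.nd (nat_lit 447) (Tr.lf (nat_lit 8))
(Tr.lf (nat_lit 9))))
(Tr.nd (nat_lit 450) (Tr.nd (nat_lit 449) (Tr.lf (nat_lit 5))
(Tr.lf (nat_lit 4)))
(Tr.nd (nat_lit 451) (Tr.lf (nat_lit 9))
(Tr.lf (nat_lit 4)))))
(Tr.nd (nat_lit 456) (Tr.nd (nat_lit 454) (Tr.nd (nat_lit 453) (Tr.lf (nat_lit 1))
(Tr.lf (nat_lit 5)))
(Tr.nd (nat_lit 455) (Tr.lf (nat_lit 9))
(Tr.lf (nat_lit 1))))
(Tr.nd (nat_lit 458) (Tr.nd (nat_lit 457) (Tr.lf (nat_lit 3))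
(Tr.lf (nat_lit 1)))
(Tr.nd (nat_lit 459) (Tr.lf (nat_lit 9))
(Tr.lf (nat_lit 2)))))))))))
theorem mini0_alt : Tr.all (altChk idx inv RW (SW0)) mini0A = true := by decide +kernel
theorem mini0_chk : Tr.all (chkFc idx inv mini0S mini0A (fun b => Tr.find b mini0P) (fun b => Tr.find b mini0Q)) mini0S = true := by decide +kernel
theorem mini0_run : runM idx inv mini0S 1194 0 [Mv.f (nat_lit 6), Mv.f (nat_lit 13), Mv.f (nat_lit 20), Mv.f (nat_lit 26), Mv.f (nat_lit 32), Mv.f (nat_lit 37), Mv.f (nat_lit 42), Mv.f (nat_lit 45), Mv.f (nat_lit 48), Mv.f (nat_lit 51), Mv.f (nat_lit 55), Mv.f (nat_lit 58), Mv.f (nat_lit 61), Mv.f (nat_lit 64), Mv.f (nat_lit 67), Mv.f (nat_lit 70), Mv.f (nat_lit 73), Mv.f (nat_lit 75), Mv.f (nat_lit 77), Mv.f (nat_lit 78), Mv.f (nat_lit 80), Mv.f (nat_lit 81), Mv.f (nat_lit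 83), Mv.f (nat_lit 84), Mv.f (nat_lit 85), Mv.f (nat_lit 86), Mv.f (nat_lit 87), Mv.f (nat_lit 88), Mv.f (nat_lit 89), Mv.b (nat_lit 1193), Mv.b (nat_lit 37), Mv.b (nat_lit 32), Mv.b (nat_lit 26), Mv.b (nat_lit 20), Mv.b (nat_lit 13), Mv.b (nat_lit 6)] [Col.j, Col.g, Col.f, Col.e, Col.d, Col.c, Col.h, Col.d, Col.e, Col.f, Col.i, Col.h, Col.d, Col.c, Col.b, Col.e, Col.d, Col.c, Col.h, Col.i, Col.d, Col.h, Col.e, Col.f, Col.d, Col.e, Col.c, Col.d, Col.h, Col.b, Col.c, Col.d, Col.e, Col.f, Col.g, Col.j] 0 = true := by decide +kernel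
theorem mini0_fix {G X : Type*} [Group G] [MulAction G X] (g : Col → G) (x0 : X) (hinv : ∀ c, g (inv c) = (g c)⁻¹)
    (hRW : ∀ w ∈ RW, gw g w = 1) (hSW : ∀ w ∈ SW0, gw g w • x0 = x0) : gw g [Col.j, Col.g, Col.f, Col.e, Col.d, Col.c, Col.h, Col.d, Col.e, Col.f, Col.i, Col.h, Col.d, Col.c, Col.b, Col.e, Col.d, Col.c, Col.h, Col.i, Col.d, Col.h, Col.e, Col.f, Col.d, Col.e, Col.c, Col.d, Col.h, Col.b, Col.c, Col.d, Col.e, Col.f, Col.g, Col.j] • x0 = x0 :=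
  mini_sound g x0 dec hdec hinv
    (fun a ha => altChk_sound g x0 dec hdec hinv hRW hSW ((Tr.all_iff _ _).1 mini0_alt a ha)) mini0_chk mini0_run
end CfsgLib.TCFi23
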