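import Cfsg.Agent.EqBase
import Cfsg.Agent.LibTCFi23W
import Cfsg.Agent.LibTCFi23N0
import Cfsg.Agent.LibTCFi23N1
import Cfsg.Agent.LibTCFi23N2
set_option autoImplicit false
set_option linter.all false
set_option maxRecDepth 1000000
set_option maxHeartbeats 0
namespace CfsgLib.TCFi23
open CfsgLib.TC Cfsg.Spor CfsgLib.TCG_Fi23
noncomputable def ms0 : List ℕ := []
noncomputable def ms1 : List ℕ := (nat_lit 0x1000000) :: ms0
noncomputable def ms2 : List ℕ := (nat_lit 0x1000000000000) :: ms1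
noncomputable def ms3 : List ℕ := (nat_lit 0x1000000000000000000000000) :: ms2
noncomputable def ms4 : List ℕ := (nat_lit 0x1000000000000000000000000000000000000000000000000) :: ms3
noncomputable def ms5 : List ℕ := (nat_lit 0x1000000000000000000000000000000000000000000000000000000000000000000000000000000000000000000000000) :: ms4
noncomputable def ms6 : List ℕ := (nat_lit 0x1000000000000000000000000000000000000000000000000000000000000000000000000000000000000000000000000000000000000000000000000000000000000000000000000000000000000000000000000000000000000000000000000) :: ms5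
noncomputable def ms7 : List ℕ := (nat_lit 0x1000000000000000000000000000000000000000000000000000000000000000000000000000000000000000000000000000000000000000000000000000000000000000000000000000000000000000000000000000000000000000000000000000000000000000000000000000000000000000000000000000000000000000000000000000000000000000000000000000000000000000000000000000000000000000000000000000000000000000000000000000000000000000000000000) :: ms6
noncomputable def ms8 : List ℕ := (nat_lit 0x1000000000000000000000000000000000000000000000000000000000000000000000000000000000000000000000000000000000000000000000000000000000000000000000000000000000000000000000000000000000000000000000000000000000000000000000000000000000000000000000000000000000000000000000000000000000000000000000000000000000000000000000000000000000000000000000000000000000000000000000000000000000000000000000000000000000000000000000000000000000000000000000000000000000000000000000000000000000000000000000000000000000000000000000000000000000000000000000000000000000000000000000000000000000000000000000000000000000000000000000000000000000000000000000000000000000000000000000000000000000000000000000000000000000000000000000000000000000000000000000000000000000000000000000000000000000000000000000000)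 :: ms7
noncomputable def ms9 : List ℕ := (nat_lit 0x100000000000000000000000000000000000000000000000000000000000000000000000000000000000000000000000000000000000000000000000000000000000000000000000000000000000000000000000000000000000000000000000000000000000000000000000000000000000000000000000000000000000000000000000000000000000000000000000000000000000000000000000000000000000000000000000000000000000000000000000000000000000000000000000000000000000000000000000000000000000000000000000000000000000000000000000000000000000000000000000000000000000000000000000000000000000000000000000000000000000000000000000000000000000000000000000000000000000000000000000000000000000000000000000000000000000000000000000000000000000000000000000000000000000000000000000000000000000000000000000000000000000000000000000000000000000000000000000000000000000000000000000000000000000000000000000000000000000000000000000000000000000000000000000000000000000000000000000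0000000000000000000000000000000000000000000000000000000000000000000000000000000000000000000000000000000000000000000000000000000000000000000000000000000000000000000000000000000000000000000000000000000000000000000000000000000000000000000000000000000000000000000000000000000000000000000000000000000000000000000000000000000000000000000000000000000000000000000000000000000000000000000000000000000000000000000000000000000000000000000000000000000000000000000000000000000000000000000000000000000000000000000000000000000000000000000000000000000000000000000000000000000000000000000000000000000000000000000000000000000000000000000000000000000000000000000000000) :: ms8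
noncomputable def ms10 : List ℕ := (nat_lit 0x100000000000000000000000000000000000000000000000000000000000000000000000000000000000000000000000000000000000000000000000000000000000000000000000000000000000000000000000000000000000000000000000000000000000000000000000000000000000000000000000000000000000000000000000000000000000000000000000000000000000000000000000000000000000000000000000000000000000000000000000000000000000000000000000000000000000000000000000000000000000000000000000000000000000000000000000000000000000000000000000000000000000000000000000000000000000000000000000000000000000000000000000000000000000000000000000000000000000000000000000000000000000000000000000000000000000000000000000000000000000000000000000000000000000000000000000000000000000000000000000000000000000000000000000000000000000000000000000000000000000000000000000000000000000000000000000000000000000000000000000000000000000000000000000000000000000000000000000000000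00000000000000000000000000000000000000000000000000000000000000000000000000000000000000000000000000000000000000000000000000000000000000000000000000000000000000000000000000000000000000000000000000000000000000000000000000000000000000000000000000000000000000000000000000000000000000000000000000000000000000000000000000000000000000000000000000000000000000000000000000000000000000000000000000000000000000000000000000000000000000000000000000000000000000000000000000000000000000000000000000000000000000000000000000000000000000000000000000000000000000000000000000000000000000000000000000000000000000000000000000000000000000000000000000000000000000000000000000000000000000000000000000000000000000000000000000000000000000000000000000000000000000000000000000000000000000000000000000000000000000000000000000000000000000000000000000000000000000000000000000000000000000000000000000000000000000000000000000000000000000000000000000000000000000000000000000000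00000000000000000000000000000000000000000000000000000000000000000000000000000000000000000000000000000000000000000000000000000000000000000000000000000000000000000000000000000000000000000000000000000000000000000000000000000000000000000000000000000000000000000000000000000000000000000000000000000000000000000000000000000000000000000000000000000000000000000000000000000000000000000000000000000000000000000000000000000000000000000000000000000000000000000000000000000000000000000000000000000000000000000000000000000000000000000000000000000000000000000000000000000000000000000000000000000000000000000000000000000000000000000000000000000000000000000000000000000000000000000000000000000000000000000000000000000000000000000000000000000000000000000000000000000000000000000000000000000000000000000000000000000000000000000000000000000000000000000000000000000000000000000000000000000000000000000000000000000000000000000000000000000000000000000000000000000000000000000000000000000000000000000000000000000000000000000000000000000000000000000000000000000000000000000000000000000000000000000000000000000000000000000000000000000000000000000000000000000000000000000000000000000000000000000000000000000000000000000000000000000000000000000000000000000000000000)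 :: ms9
noncomputable def ms11 : List ℕ := (nat_lit 0x10000000000000000000000000000000000000000000000000000000000000000000000000000000000000000000000000000000000000000000000000000000000000000000000000000000000000000000000000000000000000000000000000000000000000000000000000000000000000000000000000000000000000000000000000000000000000000000000000000000000000000000000000000000000000000000000000000000000000000000000000000000000000000000000000000000000000000000000000000000000000000000000000000000000000000000000000000000000000000000000000000000000000000000000000000000000000000000000000000000000000000000000000000000000000000000000000000000000000000000000000000000000000000000000000000000000000000000000000000000000000000000000000000000000000000000000000000000000000000000000000000000000000000000000000000000000000000000000000000000000000000000000000000000000000000000000000000000000000000000000000000000000000000000000000000000000000000000000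00000000000000000000000000000000000000000000000000000000000000000000000000000000000000000000000000000000000000000000000000000000000000000000000000000000000000000000000000000000000000000000000000000000000000000000000000000000000000000000000000000000000000000000000000000000000000000000000000000000000000000000000000000000000000000000000000000000000000000000000000000000000000000000000000000000000000000000000000000000000000000000000000000000000000000000000000000000000000000000000000000000000000000000000000000000000000000000000000000000000000000000000000000000000000000000000000000000000000000000000000000000000000000000000000000000000000000000000000000000000000000000000000000000000000000000000000000000000000000000000000000000000000000000000000000000000000000000000000000000000000000000000000000000000000000000000000000000000000000000000000000000000000000000000000000000000000000000000000000000000000000000000000000000000000000000000000000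00000000000000000000000000000000000000000000000000000000000000000000000000000000000000000000000000000000000000000000000000000000000000000000000000000000000000000000000000000000000000000000000000000000000000000000000000000000000000000000000000000000000000000000000000000000000000000000000000000000000000000000000000000000000000000000000000000000000000000000000000000000000000000000000000000000000000000000000000000000000000000000000000000000000000000000000000000000000000000000000000000000000000000000000000000000000000000000000000000000000000000000000000000000000000000000000000000000000000000000000000000000000000000000000000000000000000000000000000000000000000000000000000000000000000000000000000000000000000000000000000000000000000000000000000000000000000000000000000000000000000000000000000000000000000000000000000000000000000000000000000000000000000000000000000000000000000000000000000000000000000000000000000000000000000000000000000000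00000000000000000000000000000000000000000000000000000000000000000000000000000000000000000000000000000000000000000000000000000000000000000000000000000000000000000000000000000000000000000000000000000000000000000000000000000000000000000000000000000000000000000000000000000000000000000000000000000000000000000000000000000000000000000000000000000000000000000000000000000000000000000000000000000000000000000000000000000000000000000000000000000000000000000000000000000000000000000000000000000000000000000000000000000000000000000000000000000000000000000000000000000000000000000000000000000000000000000000000000000000000000000000000000000000000000000000000000000000000000000000000000000000000000000000000000000000000000000000000000000000000000000000000000000000000000000000000000000000000000000000000000000000000000000000000000000000000000000000000000000000000000000000000000000000000000000000000000000000000000000000000000000000000000000000000000000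00000000000000000000000000000000000000000000000000000000000000000000000000000000000000000000000000000000000000000000000000000000000000000000000000000000000000000000000000000000000000000000000000000000000000000000000000000000000000000000000000000000000000000000000000000000000000000000000000000000000000000000000000000000000000000000000000000000000000000000000000000000000000000000000000000000000000000000000000000000000000000000000000000000000000000000000000000000000000000000000000000000000000000000000000000000000000000000000000000000000000000000000000000000000000000000000000000000000000000000000000000000000000000000000000000000000000000000000000000000000000000000000000000000000000000000000000000000000000000000000000000000000000000000000000000000000000000000000000000000000000000000000000000000000000000000000000000000000000000000000000000000000000000000000000000000000000000000000000000000000000000000000000000000000000000000000000000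00000000000000000000000000000000000000000000000000000000000000000000000000000000000000000000000000000000000000000000000000000000000000000000000000000000000000000000000000000000000000000000000000000000000000000000000000000000000000000000000000000000000000000000000000000000000000000000000000000000000000000000000000000000000000000000000000000000000000000000000000000000000000000000000000000000000000000000000000000000000000000000000000000000000000000000000000000000000000000000000000000000000000000000000000000000000000000000000000000000000000000000000000000000000000000000000000000000000000000000000000000000000000000000000000000000000000000000000000000000000000000000000000000000000000000000000000000000000000000000000000000000000000000000000000000000000000000000000000000000000000000000000000000000000000000000000000000000000000000000000000000000000000000000000000000000000000000000000000000000000000000000000000000000000000000000000000000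0000000000000000000000000000000000000000000000000000000000000000000000000000000000000000000000000000000000000000000000000000000000000000000000000000000000000000000000000000000000000000000000000000000000000000000000000000000000000000000000000000000000000000000000000000000000000000000000000000000000000000000000000000000000000000000000000000000000000000000000000000000000000000000000000000000000000000000000000000000000000000000000000000000000000000000000000000000000000000000000000000000000000000000000000000000000000000000000000000000000000000000000000) :: ms10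
noncomputable def ms12 : List ℕ := (nat_lit 0x100000000000000000000000000000000000000000000000000000000000000000000000000000000000000000000000000000000000000000000000000000000000000000000000000000000000000000000000000000000000000000000000000000000000000000000000000000000000000000000000000000000000000000000000000000000000000000000000000000000000000000000000000000000000000000000000000000000000000000000000000000000000000000000000000000000000000000000000000000000000000000000000000000000000000000000000000000000000000000000000000000000000000000000000000000000000000000000000000000000000000000000000000000000000000000000000000000000000000000000000000000000000000000000000000000000000000000000000000000000000000000000000000000000000000000000000000000000000000000000000000000000000000000000000000000000000000000000000000000000000000000000000000000000000000000000000000000000000000000000000000000000000000000000000000000000000000000000000000000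00000000000000000000000000000000000000000000000000000000000000000000000000000000000000000000000000000000000000000000000000000000000000000000000000000000000000000000000000000000000000000000000000000000000000000000000000000000000000000000000000000000000000000000000000000000000000000000000000000000000000000000000000000000000000000000000000000000000000000000000000000000000000000000000000000000000000000000000000000000000000000000000000000000000000000000000000000000000000000000000000000000000000000000000000000000000000000000000000000000000000000000000000000000000000000000000000000000000000000000000000000000000000000000000000000000000000000000000000000000000000000000000000000000000000000000000000000000000000000000000000000000000000000000000000000000000000000000000000000000000000000000000000000000000000000000000000000000000000000000000000000000000000000000000000000000000000000000000000000000000000000000000000000000000000000000000000000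00000000000000000000000000000000000000000000000000000000000000000000000000000000000000000000000000000000000000000000000000000000000000000000000000000000000000000000000000000000000000000000000000000000000000000000000000000000000000000000000000000000000000000000000000000000000000000000000000000000000000000000000000000000000000000000000000000000000000000000000000000000000000000000000000000000000000000000000000000000000000000000000000000000000000000000000000000000000000000000000000000000000000000000000000000000000000000000000000000000000000000000000000000000000000000000000000000000000000000000000000000000000000000000000000000000000000000000000000000000000000000000000000000000000000000000000000000000000000000000000000000000000000000000000000000000000000000000000000000000000000000000000000000000000000000000000000000000000000000000000000000000000000000000000000000000000000000000000000000000000000000000000000000000000000000000000000000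00000000000000000000000000000000000000000000000000000000000000000000000000000000000000000000000000000000000000000000000000000000000000000000000000000000000000000000000000000000000000000000000000000000000000000000000000000000000000000000000000000000000000000000000000000000000000000000000000000000000000000000000000000000000000000000000000000000000000000000000000000000000000000000000000000000000000000000000000000000000000000000000000000000000000000000000000000000000000000000000000000000000000000000000000000000000000000000000000000000000000000000000000000000000000000000000000000000000000000000000000000000000000000000000000000000000000000000000000000000000000000000000000000000000000000000000000000000000000000000000000000000000000000000000000000000000000000000000000000000000000000000000000000000000000000000000000000000000000000000000000000000000000000000000000000000000000000000000000000000000000000000000000000000000000000000000000000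00000000000000000000000000000000000000000000000000000000000000000000000000000000000000000000000000000000000000000000000000000000000000000000000000000000000000000000000000000000000000000000000000000000000000000000000000000000000000000000000000000000000000000000000000000000000000000000000000000000000000000000000000000000000000000000000000000000000000000000000000000000000000000000000000000000000000000000000000000000000000000000000000000000000000000000000000000000000000000000000000000000000000000000000000000000000000000000000000000000000000000000000000000000000000000000000000000000000000000000000000000000000000000000000000000000000000000000000000000000000000000000000000000000000000000000000000000000000000000000000000000000000000000000000000000000000000000000000000000000000000000000000000000000000000000000000000000000000000000000000000000000000000000000000000000000000000000000000000000000000000000000000000000000000000000000000000000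00000000000000000000000000000000000000000000000000000000000000000000000000000000000000000000000000000000000000000000000000000000000000000000000000000000000000000000000000000000000000000000000000000000000000000000000000000000000000000000000000000000000000000000000000000000000000000000000000000000000000000000000000000000000000000000000000000000000000000000000000000000000000000000000000000000000000000000000000000000000000000000000000000000000000000000000000000000000000000000000000000000000000000000000000000000000000000000000000000000000000000000000000000000000000000000000000000000000000000000000000000000000000000000000000000000000000000000000000000000000000000000000000000000000000000000000000000000000000000000000000000000000000000000000000000000000000000000000000000000000000000000000000000000000000000000000000000000000000000000000000000000000000000000000000000000000000000000000000000000000000000000000000000000000000000000000000000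00000000000000000000000000000000000000000000000000000000000000000000000000000000000000000000000000000000000000000000000000000000000000000000000000000000000000000000000000000000000000000000000000000000000000000000000000000000000000000000000000000000000000000000000000000000000000000000000000000000000000000000000000000000000000000000000000000000000000000000000000000000000000000000000000000000000000000000000000000000000000000000000000000000000000000000000000000000000000000000000000000000000000000000000000000000000000000000000000000000000000000000000000000000000000000000000000000000000000000000000000000000000000000000000000000000000000000000000000000000000000000000000000000000000000000000000000000000000000000000000000000000000000000000000000000000000000000000000000000000000000000000000000000000000000000000000000000000000000000000000000000000000000000000000000000000000000000000000000000000000000000000000000000000000000000000000000000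00000000000000000000000000000000000000000000000000000000000000000000000000000000000000000000000000000000000000000000000000000000000000000000000000000000000000000000000000000000000000000000000000000000000000000000000000000000000000000000000000000000000000000000000000000000000000000000000000000000000000000000000000000000000000000000000000000000000000000000000000000000000000000000000000000000000000000000000000000000000000000000000000000000000000000000000000000000000000000000000000000000000000000000000000000000000000000000000000000000000000000000000000000000000000000000000000000000000000000000000000000000000000000000000000000000000000000000000000000000000000000000000000000000000000000000000000000000000000000000000000000000000000000000000000000000000000000000000000000000000000000000000000000000000000000000000000000000000000000000000000000000000000000000000000000000000000000000000000000000000000000000000000000000000000000000000000000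00000000000000000000000000000000000000000000000000000000000000000000000000000000000000000000000000000000000000000000000000000000000000000000000000000000000000000000000000000000000000000000000000000000000000000000000000000000000000000000000000000000000000000000000000000000000000000000000000000000000000000000000000000000000000000000000000000000000000000000000000000000000000000000000000000000000000000000000000000000000000000000000000000000000000000000000000000000000000000000000000000000000000000000000000000000000000000000000000000000000000000000000000000000000000000000000000000000000000000000000000000000000000000000000000000000000000000000000000000000000000000000000000000000000000000000000000000000000000000000000000000000000000000000000000000000000000000000000000000000000000000000000000000000000000000000000000000000000000000000000000000000000000000000000000000000000000000000000000000000000000000000000000000000000000000000000000000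00000000000000000000000000000000000000000000000000000000000000000000000000000000000000000000000000000000000000000000000000000000000000000000000000000000000000000000000000000000000000000000000000000000000000000000000000000000000000000000000000000000000000000000000000000000000000000000000000000000000000000000000000000000000000000000000000000000000000000000000000000000000000000000000000000000000000000000000000000000000000000000000000000000000000000000000000000000000000000000000000000000000000000000000000000000000000000000000000000000000000000000000000000000000000000000000000000000000000000000000000000000000000000000000000000000000000000000000000000000000000000000000000000000000000000000000000000000000000000000000000000000000000000000000000000000000000000000000000000000000000000000000000000000000000000000000000000000000000000000000000000000000000000000000000000000000000000000000000000000000000000000000000000000000000000000000000000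00000000000000000000000000000000000000000000000000000000000000000000000000000000000000000000000000000000000000000000000000000000000000000000000000000000000000000000000000000000000000000000000000000000000000000000000000000000000000000000000000000000000000000000000000000000000000000000000000000000000000000000000000000000000000000000000000000000000000000000000000000000000000000000000000000000000000000000000000000000000000000000000000000000000000000000000000000000000000000000000000000000000000000000000000000000000000000000000000000000000000000000000000000000000000000000000000000000000000000000000000000000000000000000000000000000000000000000000000000000000000000000000000000000000000000000000000000000000000000000000000000000000000000000000000000000000000000000000000000000000000000000000000000000000000000000000000000000000000000000000000000000000000000000000000000000000000000000000000000000000000000000000000000000000000000000000000000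00000000000000000000000000000000000000000000000000000000000000000000000000000000000000000000000000000000000000000000000000000000000000000000000000000000000000000000000000000000000000000000000000000000000000000000000000000000000000000000000000000000000000000000000000000000000000000000000000000000000000000000000000000000000000000000000000000000000000000000000000000000000000000000000000000000000000000000000000000000000000000000000000000000000000000000000000000000000000000000000000000000000000000000000000000000000000000000000000000000000000000000000000000000000000000000000000000000000000000000000000000000000000000000000000000000000000000000000000000000000000000000000000000000000000000000000000000000000000000000000000000000000000000000000000000000000000000000000000000000000000000000000000000000000000000000000000000000000000000000000000000000000000000000000000000000000000000000000000000000000000000000000000000000000000000000000000000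000000000000000000000000000000000000000000000000000000000000000000000000000000000000000000000000000000000000000000000000000000000000000000000000000000000000000000000000000000000000000000000000000000000000000000000000000000000000000000000000000000000000000000000000000000000000000000000000000000000000000000000000000000000000000000000000000000000000000000000000000000000000000000000000000000000000000000000000000000000000000000000000000000000000000000000000000000000000000000000000000000000000000000000000000000000000000000000000000000000000000000000000000000000000000000000000000000000000000000000000000000000000000000000000000000000000000000000000000000000000000000000000000000000000000000000000000000000000000000000000000000000000000000000000000000000000000000000000000000000000000000000000000000000000000000000000000000000000000000000000000000000000000000000000000000000000000000000000000000000000000000000000000000000000000000000000000000000000000000000000000000000000000000000000000000000000000000000000000000000000000000000000000000000000)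 :: ms11
noncomputable def L_0 : Tr ℕ := (decT (nat_lit 16777216) (ms12) LN0_b12)
noncomputable def L_1 : Tr ℕ := (decT (nat_lit 16777216) (ms12) LN1_b12)
noncomputable def L_2 : Tr ℕ := (decT (nat_lit 16777216) (ms12) LN2_b12)
noncomputable def L_3 : Tr ℕ := (decT (nat_lit 16777216) (ms12) LN3_b12)
noncomputable def L_4 : Tr ℕ := (decT (nat_lit 16777216) (ms12) LN4_b12)
noncomputable def L_5 : Tr ℕ := (decT (nat_lit 16777216) (ms12) LN5_b12)
noncomputable def L_6 : Tr ℕ := (decT (nat_lit 16777216) (ms12) LN6_b12)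
noncomputable def L_7 : Tr ℕ := (Tr.nd (nat_lit 952009) (Tr.nd (nat_lit 949649) (Tr.nd (nat_lit 938921) (decT (nat_lit 16777216) (ms11) LN7_b11) (Tr.nd (nat_lit 945941) (decT (nat_lit 16777216) (ms9) LN7_b9) (decT (nat_lit 16777216) (ms8) LN7_b8))) (Tr.nd (nat_lit 951299) (decT (nat_lit 16777216) (ms7) LN7_b7) (Tr.nd (nat_lit 951781) (decT (nat_lit 16777216) (ms5) LN7_b5) (decT (nat_lit 16777216) (ms4) LN7_b4)))) (Tr.nd (nat_lit 952073) (Tr.nd (nat_lit 952037) (Tr.lf (nat_lit 952009)) (Tr.nd (nat_lit 952057) (Tr.lf (nat_lit 952037)) (Tr.lf (nat_lit 952057)))) (Tr.nd (nat_lit 952097) (Tr.nd (nat_lit 952087) (Tr.lf (nat_lit 952073)) (Tr.lf (nat_lit 952087))) (Tr.nd (nat_lit 952111) (Tr.lf (nat_lit 952097)) (Tr.lf (nat_lit 952111))))))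
noncomputable def L : Tr ℕ := (Tr.nd (nat_lit 743363) (Tr.nd (nat_lit 633263) (Tr.nd (nat_lit 578687) L_0
L_1)
(Tr.nd (nat_lit 688217) L_2
L_3))
(Tr.nd (nat_lit 854921) (Tr.nd (nat_lit 798799) L_4
L_5)
(Tr.nd (nat_lit 910583) L_6
L_7)))
abbrev q0 : ℕ := nat_lit 524309
noncomputable def F_a (q : ℕ) : ℕ := Nat.add (nat_lit 524288) (Nat.mod (Bool.rec (motive := fun _ => ℕ) (Bool.rec (motive := fun _ => ℕ) (Bool.rec (motive := fun _ => ℕ) T_a_0 T_a_1 (Nat.ble (nat_lit 578687) q)) (Bool.rec (motive := fun _ => ℕ) T_a_2 T_a_3 (Nat.ble (nat_lit 688217) q)) (Nat.ble (nat_lit 633263) q)) (Bool.rec (motive := fun _ => ℕ) (Bool.rec (motive := fun _ => ℕ) T_a_4 T_a_5 (Nat.ble (nat_lit 798799) q)) (Bool.rec (motive := fun _ => ℕ) T_a_6 T_a_7 (Nat.ble (nat_lit 910583) q)) (Nat.ble (nat_lit 854921) q)) (Nat.ble (nat_lit 743363) q)) q)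
noncomputable def G_a (t q : ℕ) : ℕ := Bool.rec (motive := fun _ => ℕ) (nat_lit 0) (F_a q) (Nat.ble (Nat.succ (Nat.mod (Bool.rec (motive := fun _ => ℕ) (Bool.rec (motive := fun _ => ℕ) (Bool.rec (motive := fun _ => ℕ) U_a_0 U_a_1 (Nat.ble (nat_lit 578687) q)) (Bool.rec (motive := fun _ => ℕ) U_a_2 U_a_3 (Nat.ble (nat_lit 688217) q)) (Nat.ble (nat_lit 633263) q)) (Bool.rec (motive := fun _ => ℕ) (Bool.rec (motive := fun _ => ℕ) U_a_4 U_a_5 (Nat.ble (nat_lit 798799) q)) (Bool.rec (motive := fun _ => ℕ) U_a_6 U_a_7 (Nat.ble (nat_lit 910583) q)) (Nat.ble (nat_lit 854921) q)) (Nat.ble (nat_lit 743363) q)) q)) t)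
noncomputable def F_b (q : ℕ) : ℕ := Nat.add (nat_lit 524288) (Nat.mod (Bool.rec (motive := fun _ => ℕ) (Bool.rec (motive := fun _ => ℕ) (Bool.rec (motive := fun _ => ℕ) T_b_0 T_b_1 (Nat.ble (nat_lit 578687) q)) (Bool.rec (motive := fun _ => ℕ) T_b_2 T_b_3 (Nat.ble (nat_lit 688217) q)) (Nat.ble (nat_lit 633263) q)) (Bool.rec (motive := fun _ => ℕ) (Bool.rec (motive := fun _ => ℕ) T_b_4 T_b_5 (Nat.ble (nat_lit 798799) q)) (Bool.rec (motive := fun _ => ℕ) T_b_6 T_b_7 (Nat.ble (nat_lit 910583) q)) (Nat.ble (nat_lit 854921) q)) (Nat.ble (nat_lit 743363) q)) q)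
noncomputable def G_b (t q : ℕ) : ℕ := Bool.rec (motive := fun _ => ℕ) (nat_lit 0) (F_b q) (Nat.ble (Nat.succ (Nat.mod (Bool.rec (motive := fun _ => ℕ) (Bool.rec (motive := fun _ => ℕ) (Bool.rec (motive := fun _ => ℕ) U_b_0 U_b_1 (Nat.ble (nat_lit 578687) q)) (Bool.rec (motive := fun _ => ℕ) U_b_2 U_b_3 (Nat.ble (nat_lit 688217) q)) (Nat.ble (nat_lit 633263) q)) (Bool.rec (motive := fun _ => ℕ) (Bool.rec (motive := fun _ => ℕ) U_b_4 U_b_5 (Nat.ble (nat_lit 798799) q)) (Bool.rec (motive := fun _ => ℕ) U_b_6 U_b_7 (Nat.ble (nat_lit 910583) q)) (Nat.ble (nat_lit 854921) q)) (Nat.ble (nat_lit 743363) q)) q)) t)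
noncomputable def F_c (q : ℕ) : ℕ := Nat.add (nat_lit 524288) (Nat.mod (Bool.rec (motive := fun _ => ℕ) (Bool.rec (motive := fun _ => ℕ) (Bool.rec (motive := fun _ => ℕ) T_c_0 T_c_1 (Nat.ble (nat_lit 578687) q)) (Bool.rec (motive := fun _ => ℕ) T_c_2 T_c_3 (Nat.ble (nat_lit 688217) q)) (Nat.ble (nat_lit 633263) q)) (Bool.rec (motive := fun _ => ℕ) (Bool.rec (motive := fun _ => ℕ) T_c_4 T_c_5 (Nat.ble (nat_lit 798799) q)) (Bool.rec (motive := fun _ => ℕ) T_c_6 T_c_7 (Nat.ble (nat_lit 910583) q)) (Nat.ble (nat_lit 854921) q)) (Nat.ble (nat_lit 743363) q)) q)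
noncomputable def G_c (t q : ℕ) : ℕ := Bool.rec (motive := fun _ => ℕ) (nat_lit 0) (F_c q) (Nat.ble (Nat.succ (Nat.mod (Bool.rec (motive := fun _ => ℕ) (Bool.rec (motive := fun _ => ℕ) (Bool.rec (motive := fun _ => ℕ) U_c_0 U_c_1 (Nat.ble (nat_lit 578687) q)) (Bool.rec (motive := fun _ => ℕ) U_c_2 U_c_3 (Nat.ble (nat_lit 688217) q)) (Nat.ble (nat_lit 633263) q)) (Bool.rec (motive := fun _ => ℕ) (Bool.rec (motive := fun _ => ℕ) U_c_4 U_c_5 (Nat.ble (nat_lit 798799) q)) (Bool.rec (motive := fun _ => ℕ) U_c_6 U_c_7 (Nat.ble (nat_lit 910583) q)) (Nat.ble (nat_lit 854921) q)) (Nat.ble (nat_lit 743363) q)) q)) t)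
noncomputable def F_d (q : ℕ) : ℕ := Nat.add (nat_lit 524288) (Nat.mod (Bool.rec (motive := fun _ => ℕ) (Bool.rec (motive := fun _ => ℕ) (Bool.rec (motive := fun _ => ℕ) T_d_0 T_d_1 (Nat.ble (nat_lit 578687) q)) (Bool.rec (motive := fun _ => ℕ) T_d_2 T_d_3 (Nat.ble (nat_lit 688217) q)) (Nat.ble (nat_lit 633263) q)) (Bool.rec (motive := fun _ => ℕ) (Bool.rec (motive := fun _ => ℕ) T_d_4 T_d_5 (Nat.ble (nat_lit 798799) q)) (Bool.rec (motive := fun _ => ℕ) T_d_6 T_d_7 (Nat.ble (nat_lit 910583) q)) (Nat.ble (nat_lit 854921) q)) (Nat.ble (nat_lit 743363) q)) q)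
noncomputable def G_d (t q : ℕ) : ℕ := Bool.rec (motive := fun _ => ℕ) (nat_lit 0) (F_d q) (Nat.ble (Nat.succ (Nat.mod (Bool.rec (motive := fun _ => ℕ) (Bool.rec (motive := fun _ => ℕ) (Bool.rec (motive := fun _ => ℕ) U_d_0 U_d_1 (Nat.ble (nat_lit 578687) q)) (Bool.rec (motive := fun _ => ℕ) U_d_2 U_d_3 (Nat.ble (nat_lit 688217) q)) (Nat.ble (nat_lit 633263) q)) (Bool.rec (motive := fun _ => ℕ) (Bool.rec (motive := fun _ => ℕ) U_d_4 U_d_5 (Nat.ble (nat_lit 798799) q)) (Bool.rec (motive := fun _ => ℕ) U_d_6 U_d_7 (Nat.ble (nat_lit 910583) q)) (Nat.ble (nat_lit 854921) q)) (Nat.ble (nat_lit 743363) q)) q)) t)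
noncomputable def F_e (q : ℕ) : ℕ := Nat.add (nat_lit 524288) (Nat.mod (Bool.rec (motive := fun _ => ℕ) (Bool.rec (motive := fun _ => ℕ) (Bool.rec (motive := fun _ => ℕ) T_e_0 T_e_1 (Nat.ble (nat_lit 578687) q)) (Bool.rec (motive := fun _ => ℕ) T_e_2 T_e_3 (Nat.ble (nat_lit 688217) q)) (Nat.ble (nat_lit 633263) q)) (Bool.rec (motive := fun _ => ℕ) (Bool.rec (motive := fun _ => ℕ) T_e_4 T_e_5 (Nat.ble (nat_lit 798799) q)) (Bool.rec (motive := fun _ => ℕ) T_e_6 T_e_7 (Nat.ble (nat_lit 910583) q)) (Nat.ble (nat_lit 854921) q)) (Nat.ble (nat_lit 743363) q)) q)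
noncomputable def G_e (t q : ℕ) : ℕ := Bool.rec (motive := fun _ => ℕ) (nat_lit 0) (F_e q) (Nat.ble (Nat.succ (Nat.mod (Bool.rec (motive := fun _ => ℕ) (Bool.rec (motive := fun _ => ℕ) (Bool.rec (motive := fun _ => ℕ) U_e_0 U_e_1 (Nat.ble (nat_lit 578687) q)) (Bool.rec (motive := fun _ => ℕ) U_e_2 U_e_3 (Nat.ble (nat_lit 688217) q)) (Nat.ble (nat_lit 633263) q)) (Bool.rec (motive := fun _ => ℕ) (Bool.rec (motive := fun _ => ℕ) U_e_4 U_e_5 (Nat.ble (nat_lit 798799) q)) (Bool.rec (motive := fun _ => ℕ) U_e_6 U_e_7 (Nat.ble (nat_lit 910583) q)) (Nat.ble (nat_lit 854921) q)) (Nat.ble (nat_lit 743363) q)) q)) t)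
noncomputable def F_f (q : ℕ) : ℕ := Nat.add (nat_lit 524288) (Nat.mod (Bool.rec (motive := fun _ => ℕ) (Bool.rec (motive := fun _ => ℕ) (Bool.rec (motive := fun _ => ℕ) T_f_0 T_f_1 (Nat.ble (nat_lit 578687) q)) (Bool.rec (motive := fun _ => ℕ) T_f_2 T_f_3 (Nat.ble (nat_lit 688217) q)) (Nat.ble (nat_lit 633263) q)) (Bool.rec (motive := fun _ => ℕ) (Bool.rec (motive := fun _ => ℕ) T_f_4 T_f_5 (Nat.ble (nat_lit 798799) q)) (Bool.rec (motive := fun _ => ℕ) T_f_6 T_f_7 (Nat.ble (nat_lit 910583) q)) (Nat.ble (nat_lit 854921) q)) (Nat.ble (nat_lit 743363) q)) q)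
noncomputable def G_f (t q : ℕ) : ℕ := Bool.rec (motive := fun _ => ℕ) (nat_lit 0) (F_f q) (Nat.ble (Nat.succ (Nat.mod (Bool.rec (motive := fun _ => ℕ) (Bool.rec (motive := fun _ => ℕ) (Bool.rec (motive := fun _ => ℕ) U_f_0 U_f_1 (Nat.ble (nat_lit 578687) q)) (Bool.rec (motive := fun _ => ℕ) U_f_2 U_f_3 (Nat.ble (nat_lit 688217) q)) (Nat.ble (nat_lit 633263) q)) (Bool.rec (motive := fun _ => ℕ) (Bool.rec (motive := fun _ => ℕ) U_f_4 U_f_5 (Nat.ble (nat_lit 798799) q)) (Bool.rec (motive := fun _ => ℕ) U_f_6 U_f_7 (Nat.ble (nat_lit 910583) q)) (Nat.ble (nat_lit 854921) q)) (Nat.ble (nat_lit 743363) q)) q)) t)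
noncomputable def F_g (q : ℕ) : ℕ := Nat.add (nat_lit 524288) (Nat.mod (Bool.rec (motive := fun _ => ℕ) (Bool.rec (motive := fun _ => ℕ) (Bool.rec (motive := fun _ => ℕ) T_g_0 T_g_1 (Nat.ble (nat_lit 578687) q)) (Bool.rec (motive := fun _ => ℕ) T_g_2 T_g_3 (Nat.ble (nat_lit 688217) q)) (Nat.ble (nat_lit 633263) q)) (Bool.rec (motive := fun _ => ℕ) (Bool.rec (motive := fun _ => ℕ) T_g_4 T_g_5 (Nat.ble (nat_lit 798799) q)) (Bool.rec (motive := fun _ => ℕ) T_g_6 T_g_7 (Nat.ble (nat_lit 910583) q)) (Nat.ble (nat_lit 854921) q)) (Nat.ble (nat_lit 743363) q)) q)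
noncomputable def G_g (t q : ℕ) : ℕ := Bool.rec (motive := fun _ => ℕ) (nat_lit 0) (F_g q) (Nat.ble (Nat.succ (Nat.mod (Bool.rec (motive := fun _ => ℕ) (Bool.rec (motive := fun _ => ℕ) (Bool.rec (motive := fun _ => ℕ) U_g_0 U_g_1 (Nat.ble (nat_lit 578687) q)) (Bool.rec (motive := fun _ => ℕ) U_g_2 U_g_3 (Nat.ble (nat_lit 688217) q)) (Nat.ble (nat_lit 633263) q)) (Bool.rec (motive := fun _ => ℕ) (Bool.rec (motive := fun _ => ℕ) U_g_4 U_g_5 (Nat.ble (nat_lit 798799) q)) (Bool.rec (motive := fun _ => ℕ) U_g_6 U_g_7 (Nat.ble (nat_lit 910583) q)) (Nat.ble (nat_lit 854921) q)) (Nat.ble (nat_lit 743363) q)) q)) t)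
noncomputable def F_j (q : ℕ) : ℕ := Nat.add (nat_lit 524288) (Nat.mod (Bool.rec (motive := fun _ => ℕ) (Bool.rec (motive := fun _ => ℕ) (Bool.rec (motive := fun _ => ℕ) T_j_0 T_j_1 (Nat.ble (nat_lit 578687) q)) (Bool.rec (motive := fun _ => ℕ) T_j_2 T_j_3 (Nat.ble (nat_lit 688217) q)) (Nat.ble (nat_lit 633263) q)) (Bool.rec (motive := fun _ => ℕ) (Bool.rec (motive := fun _ => ℕ) T_j_4 T_j_5 (Nat.ble (nat_lit 798799) q)) (Bool.rec (motive := fun _ => ℕ) T_j_6 T_j_7 (Nat.ble (nat_lit 910583) q)) (Nat.ble (nat_lit 854921) q)) (Nat.ble (nat_lit 743363) q)) q)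
noncomputable def G_j (t q : ℕ) : ℕ := Bool.rec (motive := fun _ => ℕ) (nat_lit 0) (F_j q) (Nat.ble (Nat.succ (Nat.mod (Bool.rec (motive := fun _ => ℕ) (Bool.rec (motive := fun _ => ℕ) (Bool.rec (motive := fun _ => ℕ) U_j_0 U_j_1 (Nat.ble (nat_lit 578687) q)) (Bool.rec (motive := fun _ => ℕ) U_j_2 U_j_3 (Nat.ble (nat_lit 688217) q)) (Nat.ble (nat_lit 633263) q)) (Bool.rec (motive := fun _ => ℕ) (Bool.rec (motive := fun _ => ℕ) U_j_4 U_j_5 (Nat.ble (nat_lit 798799) q)) (Bool.rec (motive := fun _ => ℕ) U_j_6 U_j_7 (Nat.ble (nat_lit 910583) q)) (Nat.ble (nat_lit 854921) q)) (Nat.ble (nat_lit 743363) q)) q)) t)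
noncomputable def F_h (q : ℕ) : ℕ := Nat.add (nat_lit 524288) (Nat.mod (Bool.rec (motive := fun _ => ℕ) (Bool.rec (motive := fun _ => ℕ) (Bool.rec (motive := fun _ => ℕ) T_h_0 T_h_1 (Nat.ble (nat_lit 578687) q)) (Bool.rec (motive := fun _ => ℕ) T_h_2 T_h_3 (Nat.ble (nat_lit 688217) q)) (Nat.ble (nat_lit 633263) q)) (Bool.rec (motive := fun _ => ℕ) (Bool.rec (motive := fun _ => ℕ) T_h_4 T_h_5 (Nat.ble (nat_lit 798799) q)) (Bool.rec (motive := fun _ => ℕ) T_h_6 T_h_7 (Nat.ble (nat_lit 910583) q)) (Nat.ble (nat_lit 854921) q)) (Nat.ble (nat_lit 743363) q)) q)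
noncomputable def G_h (t q : ℕ) : ℕ := Bool.rec (motive := fun _ => ℕ) (nat_lit 0) (F_h q) (Nat.ble (Nat.succ (Nat.mod (Bool.rec (motive := fun _ => ℕ) (Bool.rec (motive := fun _ => ℕ) (Bool.rec (motive := fun _ => ℕ) U_h_0 U_h_1 (Nat.ble (nat_lit 578687) q)) (Bool.rec (motive := fun _ => ℕ) U_h_2 U_h_3 (Nat.ble (nat_lit 688217) q)) (Nat.ble (nat_lit 633263) q)) (Bool.rec (motive := fun _ => ℕ) (Bool.rec (motive := fun _ => ℕ) U_h_4 U_h_5 (Nat.ble (nat_lit 798799) q)) (Bool.rec (motive := fun _ => ℕ) U_h_6 U_h_7 (Nat.ble (nat_lit 910583) q)) (Nat.ble (nat_lit 854921) q)) (Nat.ble (nat_lit 743363) q)) q)) t)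
noncomputable def F_i (q : ℕ) : ℕ := Nat.add (nat_lit 524288) (Nat.mod (Bool.rec (motive := fun _ => ℕ) (Bool.rec (motive := fun _ => ℕ) (Bool.rec (motive := fun _ => ℕ) T_i_0 T_i_1 (Nat.ble (nat_lit 578687) q)) (Bool.rec (motive := fun _ => ℕ) T_i_2 T_i_3 (Nat.ble (nat_lit 688217) q)) (Nat.ble (nat_lit 633263) q)) (Bool.rec (motive := fun _ => ℕ) (Bool.rec (motive := fun _ => ℕ) T_i_4 T_i_5 (Nat.ble (nat_lit 798799) q)) (Bool.rec (motive := fun _ => ℕ) T_i_6 T_i_7 (Nat.ble (nat_lit 910583) q)) (Nat.ble (nat_lit 854921) q)) (Nat.ble (nat_lit 743363) q)) q)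
noncomputable def G_i (t q : ℕ) : ℕ := Bool.rec (motive := fun _ => ℕ) (nat_lit 0) (F_i q) (Nat.ble (Nat.succ (Nat.mod (Bool.rec (motive := fun _ => ℕ) (Bool.rec (motive := fun _ => ℕ) (Bool.rec (motive := fun _ => ℕ) U_i_0 U_i_1 (Nat.ble (nat_lit 578687) q)) (Bool.rec (motive := fun _ => ℕ) U_i_2 U_i_3 (Nat.ble (nat_lit 688217) q)) (Nat.ble (nat_lit 633263) q)) (Bool.rec (motive := fun _ => ℕ) (Bool.rec (motive := fun _ => ℕ) U_i_4 U_i_5 (Nat.ble (nat_lit 798799) q)) (Bool.rec (motive := fun _ => ℕ) U_i_6 U_i_7 (Nat.ble (nat_lit 910583) q)) (Nat.ble (nat_lit 854921) q)) (Nat.ble (nat_lit 743363) q)) q)) t)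
theorem Fge_a (q : ℕ) : 524288 ≤ F_a q := Nat.le_add_right _ _
theorem Fge_b (q : ℕ) : 524288 ≤ F_b q := Nat.le_add_right _ _
theorem Fge_c (q : ℕ) : 524288 ≤ F_c q := Nat.le_add_right _ _
theorem Fge_d (q : ℕ) : 524288 ≤ F_d q := Nat.le_add_right _ _
theorem Fge_e (q : ℕ) : 524288 ≤ F_e q := Nat.le_add_right _ _
theorem Fge_f (q : ℕ) : 524288 ≤ F_f q := Nat.le_add_right _ _
theorem Fge_g (q : ℕ) : 524288 ≤ F_g q := Nat.le_add_right _ _
theorem Fge_j (q : ℕ) : 524288 ≤ F_j q := Nat.le_add_right _ _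
theorem Fge_h (q : ℕ) : 524288 ≤ F_h q := Nat.le_add_right _ _
theorem Fge_i (q : ℕ) : 524288 ≤ F_i q := Nat.le_add_right _ _
attribute [irreducible] F_a F_b F_c F_d F_e F_f F_g F_j F_h F_i
noncomputable def stp : Col → ℕ → ℕ := fun c => Col.rec (motive := fun _ => ℕ → ℕ) F_a F_b F_c F_d F_e F_f F_g F_j F_h F_i c
noncomputable def tau : Col → ℕ → ℕ := fun c => Col.rec (motive := fun _ => ℕ → ℕ) (fun q => (Nat.mod (Bool.rec (motive := fun _ => ℕ) (Bool.rec (motive := fun _ => ℕ) (Bool.rec (motive := fun _ => ℕ) U_a_0 U_a_1 (Nat.ble (nat_lit 578687) q)) (Bool.rec (motive := fun _ => ℕ) U_a_2 U_a_3 (Nat.ble (nat_lit 688217) q)) (Nat.ble (nat_lit 633263) q)) (Bool.rec (motive := fun _ => ℕ) (Bool.rec (motive := fun _ => ℕ) U_a_4 U_a_5 (Nat.ble (nat_lit 798799) q)) (Bool.rec (motive := fun _ => ℕ) U_a_6 U_a_7 (Nat.ble (nat_lit 910583) q)) (Nat.ble (nat_lit 854921) q)) (Nat.ble (nat_lit 743363) q)) q)) (fun q => (Nat.mod (Bool.rec (motive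 := fun _ => ℕ) (Bool.rec (motive := fun _ => ℕ) (Bool.rec (motive := fun _ => ℕ) U_b_0 U_b_1 (Nat.ble (nat_lit 578687) q)) (Bool.rec (motive := fun _ => ℕ) U_b_2 U_b_3 (Nat.ble (nat_lit 688217) q)) (Nat.ble (nat_lit 633263) q)) (Bool.rec (motive := fun _ => ℕ) (Bool.rec (motive := fun _ => ℕ) U_b_4 U_b_5 (Nat.ble (nat_lit 798799) q)) (Bool.rec (motive := fun _ => ℕ) U_b_6 U_b_7 (Nat.ble (nat_lit 910583) q)) (Nat.ble (nat_lit 854921) q)) (Nat.ble (nat_lit 743363) q)) q)) (fun q => (Nat.mod (Bool.rec (motive := fun _ => ℕ) (Bool.rec (motive := fun _ => ℕ) (Bool.rec (motive := fun _ => ℕ) U_c_0 U_c_1 (Nat.ble (nat_lit 578687) q)) (Bool.rec (motive := fun _ => ℕ) U_c_2 U_c_3 (Nat.ble (nat_lit 688217) q)) (Nat.ble (nat_lit 633263) q)) (Bool.rec (motive := fun _ => ℕ) (Bool.rec (motive := fun _ => ℕ) U_c_4 U_c_5 (Nat.ble (nat_lit 798799) q)) (Bool.rec (motive := fun _ => ℕ) U_c_6 U_c_7 (Nat.ble (nat_lit 910583) q)) (Nat.ble (nat_lit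 854921) q)) (Nat.ble (nat_lit 743363) q)) q)) (fun q => (Nat.mod (Bool.rec (motive := fun _ => ℕ) (Bool.rec (motive := fun _ => ℕ) (Bool.rec (motive := fun _ => ℕ) U_d_0 U_d_1 (Nat.ble (nat_lit 578687) q)) (Bool.rec (motive := fun _ => ℕ) U_d_2 U_d_3 (Nat.ble (nat_lit 688217) q)) (Nat.ble (nat_lit 633263) q)) (Bool.rec (motive := fun _ => ℕ) (Bool.rec (motive := fun _ => ℕ) U_d_4 U_d_5 (Nat.ble (nat_lit 798799) q)) (Bool.rec (motive := fun _ => ℕ) U_d_6 U_d_7 (Nat.ble (nat_lit 910583) q)) (Nat.ble (nat_lit 854921) q)) (Nat.ble (nat_lit 743363) q)) q)) (fun q => (Nat.mod (Bool.rec (motive := fun _ => ℕ) (Bool.rec (motive := fun _ => ℕ) (Bool.rec (motive := fun _ => ℕ) U_e_0 U_e_1 (Nat.ble (nat_lit 578687) q)) (Bool.rec (motive := fun _ => ℕ) U_e_2 U_e_3 (Nat.ble (nat_lit 688217) q)) (Nat.ble (nat_lit 633263) q)) (Bool.rec (motive := fun _ => ℕ) (Bool.rec (motive := fun _ => ℕ) U_e_4 U_e_5 (Nat.ble (nat_lit 798799) q)) (Bool.rec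 (motive := fun _ => ℕ) U_e_6 U_e_7 (Nat.ble (nat_lit 910583) q)) (Nat.ble (nat_lit 854921) q)) (Nat.ble (nat_lit 743363) q)) q)) (fun q => (Nat.mod (Bool.rec (motive := fun _ => ℕ) (Bool.rec (motive := fun _ => ℕ) (Bool.rec (motive := fun _ => ℕ) U_f_0 U_f_1 (Nat.ble (nat_lit 578687) q)) (Bool.rec (motive := fun _ => ℕ) U_f_2 U_f_3 (Nat.ble (nat_lit 688217) q)) (Nat.ble (nat_lit 633263) q)) (Bool.rec (motive := fun _ => ℕ) (Bool.rec (motive := fun _ => ℕ) U_f_4 U_f_5 (Nat.ble (nat_lit 798799) q)) (Bool.rec (motive := fun _ => ℕ) U_f_6 U_f_7 (Nat.ble (nat_lit 910583) q)) (Nat.ble (nat_lit 854921) q)) (Nat.ble (nat_lit 743363) q)) q)) (fun q => (Nat.mod (Bool.rec (motive := fun _ => ℕ) (Bool.rec (motive := fun _ => ℕ) (Bool.rec (motive := fun _ => ℕ) U_g_0 U_g_1 (Nat.ble (nat_lit 578687) q)) (Bool.rec (motive := fun _ => ℕ) U_g_2 U_g_3 (Nat.ble (nat_lit 688217) q)) (Nat.ble (nat_lit 633263) q)) (Bool.rec (motive := fun _ => ℕ) (Bool.rec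 (motive := fun _ => ℕ) U_g_4 U_g_5 (Nat.ble (nat_lit 798799) q)) (Bool.rec (motive := fun _ => ℕ) U_g_6 U_g_7 (Nat.ble (nat_lit 910583) q)) (Nat.ble (nat_lit 854921) q)) (Nat.ble (nat_lit 743363) q)) q)) (fun q => (Nat.mod (Bool.rec (motive := fun _ => ℕ) (Bool.rec (motive := fun _ => ℕ) (Bool.rec (motive := fun _ => ℕ) U_j_0 U_j_1 (Nat.ble (nat_lit 578687) q)) (Bool.rec (motive := fun _ => ℕ) U_j_2 U_j_3 (Nat.ble (nat_lit 688217) q)) (Nat.ble (nat_lit 633263) q)) (Bool.rec (motive := fun _ => ℕ) (Bool.rec (motive := fun _ => ℕ) U_j_4 U_j_5 (Nat.ble (nat_lit 798799) q)) (Bool.rec (motive := fun _ => ℕ) U_j_6 U_j_7 (Nat.ble (nat_lit 910583) q)) (Nat.ble (nat_lit 854921) q)) (Nat.ble (nat_lit 743363) q)) q)) (fun q => (Nat.mod (Bool.rec (motive := fun _ => ℕ) (Bool.rec (motive := fun _ => ℕ) (Bool.rec (motive := fun _ => ℕ) U_h_0 U_h_1 (Nat.ble (nat_lit 578687) q)) (Bool.rec (motive := fun _ => ℕ) U_h_2 U_h_3 (Nat.ble (nat_lit 688217)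 q)) (Nat.ble (nat_lit 633263) q)) (Bool.rec (motive := fun _ => ℕ) (Bool.rec (motive := fun _ => ℕ) U_h_4 U_h_5 (Nat.ble (nat_lit 798799) q)) (Bool.rec (motive := fun _ => ℕ) U_h_6 U_h_7 (Nat.ble (nat_lit 910583) q)) (Nat.ble (nat_lit 854921) q)) (Nat.ble (nat_lit 743363) q)) q)) (fun q => (Nat.mod (Bool.rec (motive := fun _ => ℕ) (Bool.rec (motive := fun _ => ℕ) (Bool.rec (motive := fun _ => ℕ) U_i_0 U_i_1 (Nat.ble (nat_lit 578687) q)) (Bool.rec (motive := fun _ => ℕ) U_i_2 U_i_3 (Nat.ble (nat_lit 688217) q)) (Nat.ble (nat_lit 633263) q)) (Bool.rec (motive := fun _ => ℕ) (Bool.rec (motive := fun _ => ℕ) U_i_4 U_i_5 (Nat.ble (nat_lit 798799) q)) (Bool.rec (motive := fun _ => ℕ) U_i_6 U_i_7 (Nat.ble (nat_lit 910583) q)) (Nat.ble (nat_lit 854921) q)) (Nat.ble (nat_lit 743363) q)) q)) c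
noncomputable def PT (q : ℕ) : ℕ := Nat.add (nat_lit 524288) (Nat.mod (Bool.rec (motive := fun _ => ℕ) (Bool.rec (motive := fun _ => ℕ) (Bool.rec (motive := fun _ => ℕ) PP_0 PP_1 (Nat.ble (nat_lit 578687) q)) (Bool.rec (motive := fun _ => ℕ) PP_2 PP_3 (Nat.ble (nat_lit 688217) q)) (Nat.ble (nat_lit 633263) q)) (Bool.rec (motive := fun _ => ℕ) (Bool.rec (motive := fun _ => ℕ) PP_4 PP_5 (Nat.ble (nat_lit 798799) q)) (Bool.rec (motive := fun _ => ℕ) PP_6 PP_7 (Nat.ble (nat_lit 910583) q)) (Nat.ble (nat_lit 854921) q)) (Nat.ble (nat_lit 743363) q)) q)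
noncomputable def DT (q : ℕ) : ℕ := (Nat.mod (Bool.rec (motive := fun _ => ℕ) (Bool.rec (motive := fun _ => ℕ) (Bool.rec (motive := fun _ => ℕ) DD_0 DD_1 (Nat.ble (nat_lit 578687) q)) (Bool.rec (motive := fun _ => ℕ) DD_2 DD_3 (Nat.ble (nat_lit 688217) q)) (Nat.ble (nat_lit 633263) q)) (Bool.rec (motive := fun _ => ℕ) (Bool.rec (motive := fun _ => ℕ) DD_4 DD_5 (Nat.ble (nat_lit 798799) q)) (Bool.rec (motive := fun _ => ℕ) DD_6 DD_7 (Nat.ble (nat_lit 910583) q)) (Nat.ble (nat_lit 854921) q)) (Nat.ble (nat_lit 743363) q)) q)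
noncomputable def MB (q : ℕ) : ℕ := (Bool.rec (motive := fun _ => ℕ) (Bool.rec (motive := fun _ => ℕ) (Bool.rec (motive := fun _ => ℕ) MM_0 MM_1 (Nat.ble (nat_lit 578687) q)) (Bool.rec (motive := fun _ => ℕ) MM_2 MM_3 (Nat.ble (nat_lit 688217) q)) (Nat.ble (nat_lit 633263) q)) (Bool.rec (motive := fun _ => ℕ) (Bool.rec (motive := fun _ => ℕ) MM_4 MM_5 (Nat.ble (nat_lit 798799) q)) (Bool.rec (motive := fun _ => ℕ) MM_6 MM_7 (Nat.ble (nat_lit 910583) q)) (Nat.ble (nat_lit 854921) q)) (Nat.ble (nat_lit 743363) q))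
noncomputable def mt (q : ℕ) : Bool := memt MB (nat_lit 524288) (nat_lit 1048576) q
noncomputable def sd (d q : ℕ) : ℕ := (Bool.rec (motive := fun _ => ℕ) (Bool.rec (motive := fun _ => ℕ) (Bool.rec (motive := fun _ => ℕ) (F_a q) (F_b q) (Nat.ble (nat_lit 1) d)) (Bool.rec (motive := fun _ => ℕ) (F_c q) (Bool.rec (motive := fun _ => ℕ) (F_d q) (F_e q) (Nat.ble (nat_lit 4) d)) (Nat.ble (nat_lit 3) d)) (Nat.ble (nat_lit 2) d)) (Bool.rec (motive := fun _ => ℕ) (Bool.rec (motive := fun _ => ℕ) (F_f q) (F_g q) (Nat.ble (nat_lit 6) d)) (Bool.rec (motive := fun _ => ℕ) (F_j q) (Bool.rec (motive := fun _ => ℕ) (F_h q) (F_i q) (Nat.ble (nat_lit 9) d)) (Nat.ble (nat_lit 8) d)) (Nat.ble (nat_lit 7) d)) (Nat.ble (nat_lit 5) d))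
noncomputable def E_0 (t q : ℕ) : Bool := Nat.beq (G_a t (F_a q)) q
noncomputable def a_0 : CfsgLib.TC.AG Col := .word .a 0 0 true [Col.a]
noncomputable def E_1 (t q : ℕ) : Bool := Nat.beq (G_h t (G_a t (G_h t (F_a q)))) q
noncomputable def a_1 : CfsgLib.TC.AG Col := .word .a 8 1 true [Col.h, Col.a, Col.h]
noncomputable def E_2 (t q : ℕ) : Bool := Nat.beq (G_i t (G_a t (G_i t (F_a q)))) q
noncomputable def a_2 : CfsgLib.TC.AG Col := .word .a 9 1 true [Col.i, Col.a, Col.i]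
noncomputable def E_3 (t q : ℕ) : Bool := Nat.beq (G_d t (G_a t (G_d t (F_a q)))) q
noncomputable def a_3 : CfsgLib.TC.AG Col := .word .a 3 1 true [Col.d, Col.a, Col.d]
noncomputable def E_4 (t q : ℕ) : Bool := Nat.beq (G_e t (G_a t (G_e t (F_a q)))) q
noncomputable def a_4 : CfsgLib.TC.AG Col := .word .a 4 1 true [Col.e, Col.a, Col.e]
noncomputable def E_5 (t q : ℕ) : Bool := Nat.beq (G_f t (G_a t (G_f t (F_a q)))) q
noncomputable def a_5 : CfsgLib.TC.AG Col := .word .a 5 1 true [Col.f, Col.a, Col.f]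
noncomputable def E_6 (t q : ℕ) : Bool := Nat.beq (G_c t (G_a t (G_c t (F_a q)))) q
noncomputable def a_6 : CfsgLib.TC.AG Col := .word .a 2 1 true [Col.c, Col.a, Col.c]
noncomputable def E_7 (t q : ℕ) : Bool := Nat.beq (G_g t (G_a t (G_g t (F_a q)))) q
noncomputable def a_7 : CfsgLib.TC.AG Col := .word .a 6 1 true [Col.g, Col.a, Col.g]
noncomputable def E_8 (t q : ℕ) : Bool := band (Nat.beq (PT (F_a q)) q) (band (Nat.beq (DT (F_a q)) 0) (band (Nat.ble (Nat.succ q) (F_a q)) (Nat.ble (Nat.succ q0) (F_a q))))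
noncomputable def a_8 : CfsgLib.TC.AG Col := .tree .a
noncomputable def E_9 (t q : ℕ) : Bool := Nat.beq (G_j t (G_a t (G_j t (F_a q)))) q
noncomputable def a_9 : CfsgLib.TC.AG Col := .word .a 7 1 true [Col.j, Col.a, Col.j]
noncomputable def E_10 (t q : ℕ) : Bool := Nat.beq (G_b t (G_a t (G_b t (G_a t (G_b t (F_a q)))))) q
noncomputable def a_10 : CfsgLib.TC.AG Col := .word .a 1 1 true [Col.b, Col.a, Col.b, Col.a, Col.b]
noncomputable def E_11 (t q : ℕ) : Bool := band (Nat.beq q0 q) (Nat.beq (F_a q) q0)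
noncomputable def a_11 : CfsgLib.TC.AG Col := .base .a 0 [] []
noncomputable def E_12 (t q : ℕ) : Bool := Nat.beq (G_b t (G_c t (G_d t (G_e t (G_f t (G_h t (G_a t (G_b t (G_c t (G_d t (G_e t (G_f t (G_h t (G_a t (G_b t (G_c t (G_d t (G_e t (G_f t (G_h t (G_a t (G_b t (G_c t (G_d t (G_e t (G_f t (G_h t (G_a t (G_b t (G_c t (G_d t (G_e t (G_f t (G_h t (G_a t (G_b t (G_c t (G_d t (G_e t (G_f t (G_h t (G_a t (G_b t (G_c t (G_d t (G_e t (G_f t (G_h t (G_a t (G_b t (G_c t (G_d t (G_e t (G_f t (G_h t (G_a t (G_b t (G_c t (G_d t (G_e t (G_f t (G_h t (F_a q))))))))))))))))))))))))))))))))))))))))))))))))))))))))))))))) q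
noncomputable def a_12 : CfsgLib.TC.AG Col := .word .a 56 6 true [Col.h, Col.f, Col.e, Col.d, Col.c, Col.b, Col.a, Col.h, Col.f, Col.e, Col.d, Col.c, Col.b, Col.a, Col.h, Col.f, Col.e, Col.d, Col.c, Col.b, Col.a, Col.h, Col.f, Col.e, Col.d, Col.c, Col.b, Col.a, Col.h, Col.f, Col.e, Col.d, Col.c, Col.b, Col.a, Col.h, Col.f, Col.e, Col.d, Col.c, Col.b, Col.a, Col.h, Col.f, Col.e, Col.d, Col.c, Col.b, Col.a, Col.h, Col.f, Col.e, Col.d, Col.c, Col.b, Col.a, Col.h, Col.f, Col.e, Col.d, Col.c, Col.b]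
noncomputable def D_a (q : ℕ) : Bool := (Bool.rec (motive := fun _ => Bool) (Bool.rec (motive := fun _ => Bool) (E_0 (Nat.mod (Bool.rec (motive := fun _ => ℕ) (Bool.rec (motive := fun _ => ℕ) (Bool.rec (motive := fun _ => ℕ) U_a_0 U_a_1 (Nat.ble (nat_lit 578687) q)) (Bool.rec (motive := fun _ => ℕ) U_a_2 U_a_3 (Nat.ble (nat_lit 688217) q)) (Nat.ble (nat_lit 633263) q)) (Bool.rec (motive := fun _ => ℕ) (Bool.rec (motive := fun _ => ℕ) U_a_4 U_a_5 (Nat.ble (nat_lit 798799) q)) (Bool.rec (motive := fun _ => ℕ) U_a_6 U_a_7 (Nat.ble (nat_lit 910583) q)) (Nat.ble (nat_lit 854921) q)) (Nat.ble (nat_lit 743363) q)) q) q) (E_1 (Nat.mod (Bool.rec (motive := fun _ => ℕ) (Bool.rec (motive := fun _ => ℕ) (Bool.rec (motive := fun _ => ℕ) U_a_0 U_a_1 (Nat.ble (nat_lit 578687) q)) (Bool.rec (motive := fun _ => ℕ) U_a_2 U_a_3 (Nat.ble (nat_lit 688217) q)) (Nat.ble (nat_lit 633263) q)) (Bool.rec (motive := fun _ => ℕ) (Bool.rec (motive := fun _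 => ℕ) U_a_4 U_a_5 (Nat.ble (nat_lit 798799) q)) (Bool.rec (motive := fun _ => ℕ) U_a_6 U_a_7 (Nat.ble (nat_lit 910583) q)) (Nat.ble (nat_lit 854921) q)) (Nat.ble (nat_lit 743363) q)) q) q) (Nat.ble (nat_lit 1) (Nat.mod (Bool.rec (motive := fun _ => ℕ) (Bool.rec (motive := fun _ => ℕ) (Bool.rec (motive := fun _ => ℕ) V_a_0 V_a_1 (Nat.ble (nat_lit 578687) q)) (Bool.rec (motive := fun _ => ℕ) V_a_2 V_a_3 (Nat.ble (nat_lit 688217) q)) (Nat.ble (nat_lit 633263) q)) (Bool.rec (motive := fun _ => ℕ) (Bool.rec (motive := fun _ => ℕ) V_a_4 V_a_5 (Nat.ble (nat_lit 798799) q)) (Bool.rec (motive := fun _ => ℕ) V_a_6 V_a_7 (Nat.ble (nat_lit 910583) q)) (Nat.ble (nat_lit 854921) q)) (Nat.ble (nat_lit 743363) q)) q))) (Bool.rec (motive := fun _ => Bool) (Bool.rec (motive := fun _ => Bool) (Bool.rec (motive := fun _ => Bool) (E_2 (Nat.mod (Bool.rec (motive := fun _ => ℕ) (Bool.rec (motive := fun _ => ℕ) (Bool.rec (motive := fun _ => ℕ) U_a_0 U_a_1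 (Nat.ble (nat_lit 578687) q)) (Bool.rec (motive := fun _ => ℕ) U_a_2 U_a_3 (Nat.ble (nat_lit 688217) q)) (Nat.ble (nat_lit 633263) q)) (Bool.rec (motive := fun _ => ℕ) (Bool.rec (motive := fun _ => ℕ) U_a_4 U_a_5 (Nat.ble (nat_lit 798799) q)) (Bool.rec (motive := fun _ => ℕ) U_a_6 U_a_7 (Nat.ble (nat_lit 910583) q)) (Nat.ble (nat_lit 854921) q)) (Nat.ble (nat_lit 743363) q)) q) q) (E_3 (Nat.mod (Bool.rec (motive := fun _ => ℕ) (Bool.rec (motive := fun _ => ℕ) (Bool.rec (motive := fun _ => ℕ) U_a_0 U_a_1 (Nat.ble (nat_lit 578687) q)) (Bool.rec (motive := fun _ => ℕ) U_a_2 U_a_3 (Nat.ble (nat_lit 688217) q)) (Nat.ble (nat_lit 633263) q)) (Bool.rec (motive := fun _ => ℕ) (Bool.rec (motive := fun _ => ℕ) U_a_4 U_a_5 (Nat.ble (nat_lit 798799) q)) (Bool.rec (motive := fun _ => ℕ) U_a_6 U_a_7 (Nat.ble (nat_lit 910583) q)) (Nat.ble (nat_lit 854921) q)) (Nat.ble (nat_lit 743363) q)) q) q) (Nat.ble (nat_lit 3) (Nat.mod (Bool.rec (motive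 := fun _ => ℕ) (Bool.rec (motive := fun _ => ℕ) (Bool.rec (motive := fun _ => ℕ) V_a_0 V_a_1 (Nat.ble (nat_lit 578687) q)) (Bool.rec (motive := fun _ => ℕ) V_a_2 V_a_3 (Nat.ble (nat_lit 688217) q)) (Nat.ble (nat_lit 633263) q)) (Bool.rec (motive := fun _ => ℕ) (Bool.rec (motive := fun _ => ℕ) V_a_4 V_a_5 (Nat.ble (nat_lit 798799) q)) (Bool.rec (motive := fun _ => ℕ) V_a_6 V_a_7 (Nat.ble (nat_lit 910583) q)) (Nat.ble (nat_lit 854921) q)) (Nat.ble (nat_lit 743363) q)) q))) (Bool.rec (motive := fun _ => Bool) (E_4 (Nat.mod (Bool.rec (motive := fun _ => ℕ) (Bool.rec (motive := fun _ => ℕ) (Bool.rec (motive := fun _ => ℕ) U_a_0 U_a_1 (Nat.ble (nat_lit 578687) q)) (Bool.rec (motive := fun _ => ℕ) U_a_2 U_a_3 (Nat.ble (nat_lit 688217) q)) (Nat.ble (nat_lit 633263) q)) (Bool.rec (motive := fun _ => ℕ) (Bool.rec (motive := fun _ => ℕ) U_a_4 U_a_5 (Nat.ble (nat_lit 798799) q)) (Bool.rec (motive := fun _ => ℕ) U_a_6 U_a_7 (Nat.ble (nat_lit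 910583) q)) (Nat.ble (nat_lit 854921) q)) (Nat.ble (nat_lit 743363) q)) q) q) (Bool.rec (motive := fun _ => Bool) (E_5 (Nat.mod (Bool.rec (motive := fun _ => ℕ) (Bool.rec (motive := fun _ => ℕ) (Bool.rec (motive := fun _ => ℕ) U_a_0 U_a_1 (Nat.ble (nat_lit 578687) q)) (Bool.rec (motive := fun _ => ℕ) U_a_2 U_a_3 (Nat.ble (nat_lit 688217) q)) (Nat.ble (nat_lit 633263) q)) (Bool.rec (motive := fun _ => ℕ) (Bool.rec (motive := fun _ => ℕ) U_a_4 U_a_5 (Nat.ble (nat_lit 798799) q)) (Bool.rec (motive := fun _ => ℕ) U_a_6 U_a_7 (Nat.ble (nat_lit 910583) q)) (Nat.ble (nat_lit 854921) q)) (Nat.ble (nat_lit 743363) q)) q) q) (E_6 (Nat.mod (Bool.rec (motive := fun _ => ℕ) (Bool.rec (motive := fun _ => ℕ) (Bool.rec (motive := fun _ => ℕ) U_a_0 U_a_1 (Nat.ble (nat_lit 578687) q)) (Bool.rec (motive := fun _ => ℕ) U_a_2 U_a_3 (Nat.ble (nat_lit 688217) q)) (Nat.ble (nat_lit 633263) q)) (Bool.rec (motive := fun _ => ℕ) (Bool.rec (motive := fun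 _ => ℕ) U_a_4 U_a_5 (Nat.ble (nat_lit 798799) q)) (Bool.rec (motive := fun _ => ℕ) U_a_6 U_a_7 (Nat.ble (nat_lit 910583) q)) (Nat.ble (nat_lit 854921) q)) (Nat.ble (nat_lit 743363) q)) q) q) (Nat.ble (nat_lit 6) (Nat.mod (Bool.rec (motive := fun _ => ℕ) (Bool.rec (motive := fun _ => ℕ) (Bool.rec (motive := fun _ => ℕ) V_a_0 V_a_1 (Nat.ble (nat_lit 578687) q)) (Bool.rec (motive := fun _ => ℕ) V_a_2 V_a_3 (Nat.ble (nat_lit 688217) q)) (Nat.ble (nat_lit 633263) q)) (Bool.rec (motive := fun _ => ℕ) (Bool.rec (motive := fun _ => ℕ) V_a_4 V_a_5 (Nat.ble (nat_lit 798799) q)) (Bool.rec (motive := fun _ => ℕ) V_a_6 V_a_7 (Nat.ble (nat_lit 910583) q)) (Nat.ble (nat_lit 854921) q)) (Nat.ble (nat_lit 743363) q)) q))) (Nat.ble (nat_lit 5) (Nat.mod (Bool.rec (motive := fun _ => ℕ) (Bool.rec (motive := fun _ => ℕ) (Bool.rec (motive := fun _ => ℕ) V_a_0 V_a_1 (Nat.ble (nat_lit 578687) q)) (Bool.rec (motive := fun _ => ℕ) V_a_2 V_a_3 (Nat.ble (nat_lit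 688217) q)) (Nat.ble (nat_lit 633263) q)) (Bool.rec (motive := fun _ => ℕ) (Bool.rec (motive := fun _ => ℕ) V_a_4 V_a_5 (Nat.ble (nat_lit 798799) q)) (Bool.rec (motive := fun _ => ℕ) V_a_6 V_a_7 (Nat.ble (nat_lit 910583) q)) (Nat.ble (nat_lit 854921) q)) (Nat.ble (nat_lit 743363) q)) q))) (Nat.ble (nat_lit 4) (Nat.mod (Bool.rec (motive := fun _ => ℕ) (Bool.rec (motive := fun _ => ℕ) (Bool.rec (motive := fun _ => ℕ) V_a_0 V_a_1 (Nat.ble (nat_lit 578687) q)) (Bool.rec (motive := fun _ => ℕ) V_a_2 V_a_3 (Nat.ble (nat_lit 688217) q)) (Nat.ble (nat_lit 633263) q)) (Bool.rec (motive := fun _ => ℕ) (Bool.rec (motive := fun _ => ℕ) V_a_4 V_a_5 (Nat.ble (nat_lit 798799) q)) (Bool.rec (motive := fun _ => ℕ) V_a_6 V_a_7 (Nat.ble (nat_lit 910583) q)) (Nat.ble (nat_lit 854921) q)) (Nat.ble (nat_lit 743363) q)) q))) (Bool.rec (motive := fun _ => Bool) (Bool.rec (motive := fun _ => Bool) (E_7 (Nat.mod (Bool.rec (motive := fun _ => ℕ) (Bool.rec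 (motive := fun _ => ℕ) (Bool.rec (motive := fun _ => ℕ) U_a_0 U_a_1 (Nat.ble (nat_lit 578687) q)) (Bool.rec (motive := fun _ => ℕ) U_a_2 U_a_3 (Nat.ble (nat_lit 688217) q)) (Nat.ble (nat_lit 633263) q)) (Bool.rec (motive := fun _ => ℕ) (Bool.rec (motive := fun _ => ℕ) U_a_4 U_a_5 (Nat.ble (nat_lit 798799) q)) (Bool.rec (motive := fun _ => ℕ) U_a_6 U_a_7 (Nat.ble (nat_lit 910583) q)) (Nat.ble (nat_lit 854921) q)) (Nat.ble (nat_lit 743363) q)) q) q) (Bool.rec (motive := fun _ => Bool) (E_8 (Nat.mod (Bool.rec (motive := fun _ => ℕ) (Bool.rec (motive := fun _ => ℕ) (Bool.rec (motive := fun _ => ℕ) U_a_0 U_a_1 (Nat.ble (nat_lit 578687) q)) (Bool.rec (motive := fun _ => ℕ) U_a_2 U_a_3 (Nat.ble (nat_lit 688217) q)) (Nat.ble (nat_lit 633263) q)) (Bool.rec (motive := fun _ => ℕ) (Bool.rec (motive := fun _ => ℕ) U_a_4 U_a_5 (Nat.ble (nat_lit 798799) q)) (Bool.rec (motive := fun _ => ℕ) U_a_6 U_a_7 (Nat.ble (nat_lit 910583) q)) (Nat.ble (nat_lit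 854921) q)) (Nat.ble (nat_lit 743363) q)) q) q) (E_9 (Nat.mod (Bool.rec (motive := fun _ => ℕ) (Bool.rec (motive := fun _ => ℕ) (Bool.rec (motive := fun _ => ℕ) U_a_0 U_a_1 (Nat.ble (nat_lit 578687) q)) (Bool.rec (motive := fun _ => ℕ) U_a_2 U_a_3 (Nat.ble (nat_lit 688217) q)) (Nat.ble (nat_lit 633263) q)) (Bool.rec (motive := fun _ => ℕ) (Bool.rec (motive := fun _ => ℕ) U_a_4 U_a_5 (Nat.ble (nat_lit 798799) q)) (Bool.rec (motive := fun _ => ℕ) U_a_6 U_a_7 (Nat.ble (nat_lit 910583) q)) (Nat.ble (nat_lit 854921) q)) (Nat.ble (nat_lit 743363) q)) q) q) (Nat.ble (nat_lit 9) (Nat.mod (Bool.rec (motive := fun _ => ℕ) (Bool.rec (motive := fun _ => ℕ) (Bool.rec (motive := fun _ => ℕ) V_a_0 V_a_1 (Nat.ble (nat_lit 578687) q)) (Bool.rec (motive := fun _ => ℕ) V_a_2 V_a_3 (Nat.ble (nat_lit 688217) q)) (Nat.ble (nat_lit 633263) q)) (Bool.rec (motive := fun _ => ℕ) (Bool.rec (motive := fun _ => ℕ) V_a_4 V_a_5 (Nat.ble (nat_lit 798799) q))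 (Bool.rec (motive := fun _ => ℕ) V_a_6 V_a_7 (Nat.ble (nat_lit 910583) q)) (Nat.ble (nat_lit 854921) q)) (Nat.ble (nat_lit 743363) q)) q))) (Nat.ble (nat_lit 8) (Nat.mod (Bool.rec (motive := fun _ => ℕ) (Bool.rec (motive := fun _ => ℕ) (Bool.rec (motive := fun _ => ℕ) V_a_0 V_a_1 (Nat.ble (nat_lit 578687) q)) (Bool.rec (motive := fun _ => ℕ) V_a_2 V_a_3 (Nat.ble (nat_lit 688217) q)) (Nat.ble (nat_lit 633263) q)) (Bool.rec (motive := fun _ => ℕ) (Bool.rec (motive := fun _ => ℕ) V_a_4 V_a_5 (Nat.ble (nat_lit 798799) q)) (Bool.rec (motive := fun _ => ℕ) V_a_6 V_a_7 (Nat.ble (nat_lit 910583) q)) (Nat.ble (nat_lit 854921) q)) (Nat.ble (nat_lit 743363) q)) q))) (Bool.rec (motive := fun _ => Bool) (E_10 (Nat.mod (Bool.rec (motive := fun _ => ℕ) (Bool.rec (motive := fun _ => ℕ) (Bool.rec (motive := fun _ => ℕ) U_a_0 U_a_1 (Nat.ble (nat_lit 578687) q)) (Bool.rec (motive := fun _ => ℕ) U_a_2 U_a_3 (Nat.ble (nat_lit 688217) q)) (Nat.ble (nat_lit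 633263) q)) (Bool.rec (motive := fun _ => ℕ) (Bool.rec (motive := fun _ => ℕ) U_a_4 U_a_5 (Nat.ble (nat_lit 798799) q)) (Bool.rec (motive := fun _ => ℕ) U_a_6 U_a_7 (Nat.ble (nat_lit 910583) q)) (Nat.ble (nat_lit 854921) q)) (Nat.ble (nat_lit 743363) q)) q) q) (Bool.rec (motive := fun _ => Bool) (E_11 (Nat.mod (Bool.rec (motive := fun _ => ℕ) (Bool.rec (motive := fun _ => ℕ) (Bool.rec (motive := fun _ => ℕ) U_a_0 U_a_1 (Nat.ble (nat_lit 578687) q)) (Bool.rec (motive := fun _ => ℕ) U_a_2 U_a_3 (Nat.ble (nat_lit 688217) q)) (Nat.ble (nat_lit 633263) q)) (Bool.rec (motive := fun _ => ℕ) (Bool.rec (motive := fun _ => ℕ) U_a_4 U_a_5 (Nat.ble (nat_lit 798799) q)) (Bool.rec (motive := fun _ => ℕ) U_a_6 U_a_7 (Nat.ble (nat_lit 910583) q)) (Nat.ble (nat_lit 854921) q)) (Nat.ble (nat_lit 743363) q)) q) q) (E_12 (Nat.mod (Bool.rec (motive := fun _ => ℕ) (Bool.rec (motive := fun _ => ℕ) (Bool.rec (motive := fun _ => ℕ) U_a_0 U_a_1 (Nat.ble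 (nat_lit 578687) q)) (Bool.rec (motive := fun _ => ℕ) U_a_2 U_a_3 (Nat.ble (nat_lit 688217) q)) (Nat.ble (nat_lit 633263) q)) (Bool.rec (motive := fun _ => ℕ) (Bool.rec (motive := fun _ => ℕ) U_a_4 U_a_5 (Nat.ble (nat_lit 798799) q)) (Bool.rec (motive := fun _ => ℕ) U_a_6 U_a_7 (Nat.ble (nat_lit 910583) q)) (Nat.ble (nat_lit 854921) q)) (Nat.ble (nat_lit 743363) q)) q) q) (Nat.ble (nat_lit 12) (Nat.mod (Bool.rec (motive := fun _ => ℕ) (Bool.rec (motive := fun _ => ℕ) (Bool.rec (motive := fun _ => ℕ) V_a_0 V_a_1 (Nat.ble (nat_lit 578687) q)) (Bool.rec (motive := fun _ => ℕ) V_a_2 V_a_3 (Nat.ble (nat_lit 688217) q)) (Nat.ble (nat_lit 633263) q)) (Bool.rec (motive := fun _ => ℕ) (Bool.rec (motive := fun _ => ℕ) V_a_4 V_a_5 (Nat.ble (nat_lit 798799) q)) (Bool.rec (motive := fun _ => ℕ) V_a_6 V_a_7 (Nat.ble (nat_lit 910583) q)) (Nat.ble (nat_lit 854921) q)) (Nat.ble (nat_lit 743363) q)) q))) (Nat.ble (nat_lit 11) (Nat.mod (Bool.rec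 (motive := fun _ => ℕ) (Bool.rec (motive := fun _ => ℕ) (Bool.rec (motive := fun _ => ℕ) V_a_0 V_a_1 (Nat.ble (nat_lit 578687) q)) (Bool.rec (motive := fun _ => ℕ) V_a_2 V_a_3 (Nat.ble (nat_lit 688217) q)) (Nat.ble (nat_lit 633263) q)) (Bool.rec (motive := fun _ => ℕ) (Bool.rec (motive := fun _ => ℕ) V_a_4 V_a_5 (Nat.ble (nat_lit 798799) q)) (Bool.rec (motive := fun _ => ℕ) V_a_6 V_a_7 (Nat.ble (nat_lit 910583) q)) (Nat.ble (nat_lit 854921) q)) (Nat.ble (nat_lit 743363) q)) q))) (Nat.ble (nat_lit 10) (Nat.mod (Bool.rec (motive := fun _ => ℕ) (Bool.rec (motive := fun _ => ℕ) (Bool.rec (motive := fun _ => ℕ) V_a_0 V_a_1 (Nat.ble (nat_lit 578687) q)) (Bool.rec (motive := fun _ => ℕ) V_a_2 V_a_3 (Nat.ble (nat_lit 688217) q)) (Nat.ble (nat_lit 633263) q)) (Bool.rec (motive := fun _ => ℕ) (Bool.rec (motive := fun _ => ℕ) V_a_4 V_a_5 (Nat.ble (nat_lit 798799) q)) (Bool.rec (motive := fun _ => ℕ) V_a_6 V_a_7 (Nat.ble (nat_lit 910583) q))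 (Nat.ble (nat_lit 854921) q)) (Nat.ble (nat_lit 743363) q)) q))) (Nat.ble (nat_lit 7) (Nat.mod (Bool.rec (motive := fun _ => ℕ) (Bool.rec (motive := fun _ => ℕ) (Bool.rec (motive := fun _ => ℕ) V_a_0 V_a_1 (Nat.ble (nat_lit 578687) q)) (Bool.rec (motive := fun _ => ℕ) V_a_2 V_a_3 (Nat.ble (nat_lit 688217) q)) (Nat.ble (nat_lit 633263) q)) (Bool.rec (motive := fun _ => ℕ) (Bool.rec (motive := fun _ => ℕ) V_a_4 V_a_5 (Nat.ble (nat_lit 798799) q)) (Bool.rec (motive := fun _ => ℕ) V_a_6 V_a_7 (Nat.ble (nat_lit 910583) q)) (Nat.ble (nat_lit 854921) q)) (Nat.ble (nat_lit 743363) q)) q))) (Nat.ble (nat_lit 2) (Nat.mod (Bool.rec (motive := fun _ => ℕ) (Bool.rec (motive := fun _ => ℕ) (Bool.rec (motive := fun _ => ℕ) V_a_0 V_a_1 (Nat.ble (nat_lit 578687) q)) (Bool.rec (motive := fun _ => ℕ) V_a_2 V_a_3 (Nat.ble (nat_lit 688217) q)) (Nat.ble (nat_lit 633263) q)) (Bool.rec (motive := fun _ => ℕ) (Bool.rec (motive := fun _ => ℕ) V_a_4 V_a_5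 (Nat.ble (nat_lit 798799) q)) (Bool.rec (motive := fun _ => ℕ) V_a_6 V_a_7 (Nat.ble (nat_lit 910583) q)) (Nat.ble (nat_lit 854921) q)) (Nat.ble (nat_lit 743363) q)) q)))
noncomputable def E_13 (t q : ℕ) : Bool := Nat.beq (G_b t (F_b q)) q
noncomputable def a_13 : CfsgLib.TC.AG Col := .word .b 10 0 true [Col.b]
noncomputable def E_14 (t q : ℕ) : Bool := Nat.beq (G_h t (G_b t (G_h t (F_b q)))) q
noncomputable def a_14 : CfsgLib.TC.AG Col := .word .b 17 1 true [Col.h, Col.b, Col.h]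
noncomputable def E_15 (t q : ℕ) : Bool := Nat.beq (G_i t (G_b t (G_i t (F_b q)))) q
noncomputable def a_15 : CfsgLib.TC.AG Col := .word .b 18 1 true [Col.i, Col.b, Col.i]
noncomputable def E_16 (t q : ℕ) : Bool := Nat.beq (G_d t (G_b t (G_d t (F_b q)))) q
noncomputable def a_16 : CfsgLib.TC.AG Col := .word .b 12 1 true [Col.d, Col.b, Col.d]
noncomputable def E_17 (t q : ℕ) : Bool := Nat.beq (G_e t (G_b t (G_e t (F_b q)))) q
noncomputable def a_17 : CfsgLib.TC.AG Col := .word .b 13 1 true [Col.e, Col.b, Col.e]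
noncomputable def E_18 (t q : ℕ) : Bool := Nat.beq (G_f t (G_b t (G_f t (F_b q)))) q
noncomputable def a_18 : CfsgLib.TC.AG Col := .word .b 14 1 true [Col.f, Col.b, Col.f]
noncomputable def E_19 (t q : ℕ) : Bool := band (Nat.beq (PT (F_b q)) q) (band (Nat.beq (DT (F_b q)) 1) (band (Nat.ble (Nat.succ q) (F_b q)) (Nat.ble (Nat.succ q0) (F_b q))))
noncomputable def a_19 : CfsgLib.TC.AG Col := .tree .b
noncomputable def E_20 (t q : ℕ) : Bool := Nat.beq (G_g t (G_b t (G_g t (F_b q)))) q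
noncomputable def a_20 : CfsgLib.TC.AG Col := .word .b 15 1 true [Col.g, Col.b, Col.g]
noncomputable def E_21 (t q : ℕ) : Bool := Nat.beq (G_j t (G_b t (G_j t (F_b q)))) q
noncomputable def a_21 : CfsgLib.TC.AG Col := .word .b 16 1 true [Col.j, Col.b, Col.j]
noncomputable def E_22 (t q : ℕ) : Bool := Nat.beq (G_c t (G_b t (G_c t (G_b t (G_c t (F_b q)))))) q
noncomputable def a_22 : CfsgLib.TC.AG Col := .word .b 11 1 true [Col.c, Col.b, Col.c, Col.b, Col.c]
noncomputable def E_23 (t q : ℕ) : Bool := Nat.beq (G_a t (G_b t (G_a t (G_b t (G_a t (F_b q)))))) q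
noncomputable def a_23 : CfsgLib.TC.AG Col := .word .b 1 0 true [Col.a, Col.b, Col.a, Col.b, Col.a]
noncomputable def E_24 (t q : ℕ) : Bool := band (Nat.beq q0 q) (Nat.beq (F_b q) q0)
noncomputable def a_24 : CfsgLib.TC.AG Col := .base .b 1 [] []
noncomputable def E_25 (t q : ℕ) : Bool := Nat.beq (G_a t (G_h t (G_f t (G_e t (G_d t (G_c t (G_b t (G_a t (G_h t (G_f t (G_e t (G_d t (G_c t (G_b t (G_a t (G_h t (G_f t (G_e t (G_d t (G_c t (G_b t (G_a t (G_h t (G_f t (G_e t (G_d t (G_c t (G_b t (G_a t (G_h t (G_f t (G_e t (G_d t (G_c t (G_b t (G_a t (G_h t (G_f t (G_e t (G_d t (G_c t (G_b t (G_a t (G_h t (G_f t (G_e t (G_d t (G_c t (G_b t (G_a t (G_h t (G_f t (G_e t (G_d t (G_c t (G_b t (G_a t (G_h t (G_f t (G_e t (G_d t (G_c t (F_b q))))))))))))))))))))))))))))))))))))))))))))))))))))))))))))))) q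
noncomputable def a_25 : CfsgLib.TC.AG Col := .word .b 56 1 false [Col.c, Col.d, Col.e, Col.f, Col.h, Col.a, Col.b, Col.c, Col.d, Col.e, Col.f, Col.h, Col.a, Col.b, Col.c, Col.d, Col.e, Col.f, Col.h, Col.a, Col.b, Col.c, Col.d, Col.e, Col.f, Col.h, Col.a, Col.b, Col.c, Col.d, Col.e, Col.f, Col.h, Col.a, Col.b, Col.c, Col.d, Col.e, Col.f, Col.h, Col.a, Col.b, Col.c, Col.d, Col.e, Col.f, Col.h, Col.a, Col.b, Col.c, Col.d, Col.e, Col.f, Col.h, Col.a, Col.b, Col.c, Col.d, Col.e, Col.f, Col.h, Col.a]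
noncomputable def D_b (q : ℕ) : Bool := (Bool.rec (motive := fun _ => Bool) (Bool.rec (motive := fun _ => Bool) (E_13 (Nat.mod (Bool.rec (motive := fun _ => ℕ) (Bool.rec (motive := fun _ => ℕ) (Bool.rec (motive := fun _ => ℕ) U_b_0 U_b_1 (Nat.ble (nat_lit 578687) q)) (Bool.rec (motive := fun _ => ℕ) U_b_2 U_b_3 (Nat.ble (nat_lit 688217) q)) (Nat.ble (nat_lit 633263) q)) (Bool.rec (motive := fun _ => ℕ) (Bool.rec (motive := fun _ => ℕ) U_b_4 U_b_5 (Nat.ble (nat_lit 798799) q)) (Bool.rec (motive := fun _ => ℕ) U_b_6 U_b_7 (Nat.ble (nat_lit 910583) q)) (Nat.ble (nat_lit 854921) q)) (Nat.ble (nat_lit 743363) q)) q) q) (E_14 (Nat.mod (Bool.rec (motive := fun _ => ℕ) (Bool.rec (motive := fun _ => ℕ) (Bool.rec (motive := fun _ => ℕ) U_b_0 U_b_1 (Nat.ble (nat_lit 578687) q)) (Bool.rec (motive := fun _ => ℕ) U_b_2 U_b_3 (Nat.ble (nat_lit 688217) q)) (Nat.ble (nat_lit 633263) q)) (Bool.rec (motive := fun _ => ℕ) (Bool.rec (motive := fun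 _ => ℕ) U_b_4 U_b_5 (Nat.ble (nat_lit 798799) q)) (Bool.rec (motive := fun _ => ℕ) U_b_6 U_b_7 (Nat.ble (nat_lit 910583) q)) (Nat.ble (nat_lit 854921) q)) (Nat.ble (nat_lit 743363) q)) q) q) (Nat.ble (nat_lit 1) (Nat.mod (Bool.rec (motive := fun _ => ℕ) (Bool.rec (motive := fun _ => ℕ) (Bool.rec (motive := fun _ => ℕ) V_b_0 V_b_1 (Nat.ble (nat_lit 578687) q)) (Bool.rec (motive := fun _ => ℕ) V_b_2 V_b_3 (Nat.ble (nat_lit 688217) q)) (Nat.ble (nat_lit 633263) q)) (Bool.rec (motive := fun _ => ℕ) (Bool.rec (motive := fun _ => ℕ) V_b_4 V_b_5 (Nat.ble (nat_lit 798799) q)) (Bool.rec (motive := fun _ => ℕ) V_b_6 V_b_7 (Nat.ble (nat_lit 910583) q)) (Nat.ble (nat_lit 854921) q)) (Nat.ble (nat_lit 743363) q)) q))) (Bool.rec (motive := fun _ => Bool) (Bool.rec (motive := fun _ => Bool) (Bool.rec (motive := fun _ => Bool) (E_15 (Nat.mod (Bool.rec (motive := fun _ => ℕ) (Bool.rec (motive := fun _ => ℕ) (Bool.rec (motive := fun _ => ℕ) U_b_0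 U_b_1 (Nat.ble (nat_lit 578687) q)) (Bool.rec (motive := fun _ => ℕ) U_b_2 U_b_3 (Nat.ble (nat_lit 688217) q)) (Nat.ble (nat_lit 633263) q)) (Bool.rec (motive := fun _ => ℕ) (Bool.rec (motive := fun _ => ℕ) U_b_4 U_b_5 (Nat.ble (nat_lit 798799) q)) (Bool.rec (motive := fun _ => ℕ) U_b_6 U_b_7 (Nat.ble (nat_lit 910583) q)) (Nat.ble (nat_lit 854921) q)) (Nat.ble (nat_lit 743363) q)) q) q) (E_16 (Nat.mod (Bool.rec (motive := fun _ => ℕ) (Bool.rec (motive := fun _ => ℕ) (Bool.rec (motive := fun _ => ℕ) U_b_0 U_b_1 (Nat.ble (nat_lit 578687) q)) (Bool.rec (motive := fun _ => ℕ) U_b_2 U_b_3 (Nat.ble (nat_lit 688217) q)) (Nat.ble (nat_lit 633263) q)) (Bool.rec (motive := fun _ => ℕ) (Bool.rec (motive := fun _ => ℕ) U_b_4 U_b_5 (Nat.ble (nat_lit 798799) q)) (Bool.rec (motive := fun _ => ℕ) U_b_6 U_b_7 (Nat.ble (nat_lit 910583) q)) (Nat.ble (nat_lit 854921) q)) (Nat.ble (nat_lit 743363) q)) q) q) (Nat.ble (nat_lit 3) (Nat.mod (Bool.rec (motive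 := fun _ => ℕ) (Bool.rec (motive := fun _ => ℕ) (Bool.rec (motive := fun _ => ℕ) V_b_0 V_b_1 (Nat.ble (nat_lit 578687) q)) (Bool.rec (motive := fun _ => ℕ) V_b_2 V_b_3 (Nat.ble (nat_lit 688217) q)) (Nat.ble (nat_lit 633263) q)) (Bool.rec (motive := fun _ => ℕ) (Bool.rec (motive := fun _ => ℕ) V_b_4 V_b_5 (Nat.ble (nat_lit 798799) q)) (Bool.rec (motive := fun _ => ℕ) V_b_6 V_b_7 (Nat.ble (nat_lit 910583) q)) (Nat.ble (nat_lit 854921) q)) (Nat.ble (nat_lit 743363) q)) q))) (Bool.rec (motive := fun _ => Bool) (E_17 (Nat.mod (Bool.rec (motive := fun _ => ℕ) (Bool.rec (motive := fun _ => ℕ) (Bool.rec (motive := fun _ => ℕ) U_b_0 U_b_1 (Nat.ble (nat_lit 578687) q)) (Bool.rec (motive := fun _ => ℕ) U_b_2 U_b_3 (Nat.ble (nat_lit 688217) q)) (Nat.ble (nat_lit 633263) q)) (Bool.rec (motive := fun _ => ℕ) (Bool.rec (motive := fun _ => ℕ) U_b_4 U_b_5 (Nat.ble (nat_lit 798799) q)) (Bool.rec (motive := fun _ => ℕ) U_b_6 U_b_7 (Nat.ble (nat_lit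 910583) q)) (Nat.ble (nat_lit 854921) q)) (Nat.ble (nat_lit 743363) q)) q) q) (Bool.rec (motive := fun _ => Bool) (E_18 (Nat.mod (Bool.rec (motive := fun _ => ℕ) (Bool.rec (motive := fun _ => ℕ) (Bool.rec (motive := fun _ => ℕ) U_b_0 U_b_1 (Nat.ble (nat_lit 578687) q)) (Bool.rec (motive := fun _ => ℕ) U_b_2 U_b_3 (Nat.ble (nat_lit 688217) q)) (Nat.ble (nat_lit 633263) q)) (Bool.rec (motive := fun _ => ℕ) (Bool.rec (motive := fun _ => ℕ) U_b_4 U_b_5 (Nat.ble (nat_lit 798799) q)) (Bool.rec (motive := fun _ => ℕ) U_b_6 U_b_7 (Nat.ble (nat_lit 910583) q)) (Nat.ble (nat_lit 854921) q)) (Nat.ble (nat_lit 743363) q)) q) q) (E_19 (Nat.mod (Bool.rec (motive := fun _ => ℕ) (Bool.rec (motive := fun _ => ℕ) (Bool.rec (motive := fun _ => ℕ) U_b_0 U_b_1 (Nat.ble (nat_lit 578687) q)) (Bool.rec (motive := fun _ => ℕ) U_b_2 U_b_3 (Nat.ble (nat_lit 688217) q)) (Nat.ble (nat_lit 633263) q)) (Bool.rec (motive := fun _ => ℕ) (Bool.rec (motive := fun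 _ => ℕ) U_b_4 U_b_5 (Nat.ble (nat_lit 798799) q)) (Bool.rec (motive := fun _ => ℕ) U_b_6 U_b_7 (Nat.ble (nat_lit 910583) q)) (Nat.ble (nat_lit 854921) q)) (Nat.ble (nat_lit 743363) q)) q) q) (Nat.ble (nat_lit 6) (Nat.mod (Bool.rec (motive := fun _ => ℕ) (Bool.rec (motive := fun _ => ℕ) (Bool.rec (motive := fun _ => ℕ) V_b_0 V_b_1 (Nat.ble (nat_lit 578687) q)) (Bool.rec (motive := fun _ => ℕ) V_b_2 V_b_3 (Nat.ble (nat_lit 688217) q)) (Nat.ble (nat_lit 633263) q)) (Bool.rec (motive := fun _ => ℕ) (Bool.rec (motive := fun _ => ℕ) V_b_4 V_b_5 (Nat.ble (nat_lit 798799) q)) (Bool.rec (motive := fun _ => ℕ) V_b_6 V_b_7 (Nat.ble (nat_lit 910583) q)) (Nat.ble (nat_lit 854921) q)) (Nat.ble (nat_lit 743363) q)) q))) (Nat.ble (nat_lit 5) (Nat.mod (Bool.rec (motive := fun _ => ℕ) (Bool.rec (motive := fun _ => ℕ) (Bool.rec (motive := fun _ => ℕ) V_b_0 V_b_1 (Nat.ble (nat_lit 578687) q)) (Bool.rec (motive := fun _ => ℕ) V_b_2 V_b_3 (Nat.ble (nat_lit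 688217) q)) (Nat.ble (nat_lit 633263) q)) (Bool.rec (motive := fun _ => ℕ) (Bool.rec (motive := fun _ => ℕ) V_b_4 V_b_5 (Nat.ble (nat_lit 798799) q)) (Bool.rec (motive := fun _ => ℕ) V_b_6 V_b_7 (Nat.ble (nat_lit 910583) q)) (Nat.ble (nat_lit 854921) q)) (Nat.ble (nat_lit 743363) q)) q))) (Nat.ble (nat_lit 4) (Nat.mod (Bool.rec (motive := fun _ => ℕ) (Bool.rec (motive := fun _ => ℕ) (Bool.rec (motive := fun _ => ℕ) V_b_0 V_b_1 (Nat.ble (nat_lit 578687) q)) (Bool.rec (motive := fun _ => ℕ) V_b_2 V_b_3 (Nat.ble (nat_lit 688217) q)) (Nat.ble (nat_lit 633263) q)) (Bool.rec (motive := fun _ => ℕ) (Bool.rec (motive := fun _ => ℕ) V_b_4 V_b_5 (Nat.ble (nat_lit 798799) q)) (Bool.rec (motive := fun _ => ℕ) V_b_6 V_b_7 (Nat.ble (nat_lit 910583) q)) (Nat.ble (nat_lit 854921) q)) (Nat.ble (nat_lit 743363) q)) q))) (Bool.rec (motive := fun _ => Bool) (Bool.rec (motive := fun _ => Bool) (E_20 (Nat.mod (Bool.rec (motive := fun _ => ℕ) (Bool.rec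 (motive := fun _ => ℕ) (Bool.rec (motive := fun _ => ℕ) U_b_0 U_b_1 (Nat.ble (nat_lit 578687) q)) (Bool.rec (motive := fun _ => ℕ) U_b_2 U_b_3 (Nat.ble (nat_lit 688217) q)) (Nat.ble (nat_lit 633263) q)) (Bool.rec (motive := fun _ => ℕ) (Bool.rec (motive := fun _ => ℕ) U_b_4 U_b_5 (Nat.ble (nat_lit 798799) q)) (Bool.rec (motive := fun _ => ℕ) U_b_6 U_b_7 (Nat.ble (nat_lit 910583) q)) (Nat.ble (nat_lit 854921) q)) (Nat.ble (nat_lit 743363) q)) q) q) (Bool.rec (motive := fun _ => Bool) (E_21 (Nat.mod (Bool.rec (motive := fun _ => ℕ) (Bool.rec (motive := fun _ => ℕ) (Bool.rec (motive := fun _ => ℕ) U_b_0 U_b_1 (Nat.ble (nat_lit 578687) q)) (Bool.rec (motive := fun _ => ℕ) U_b_2 U_b_3 (Nat.ble (nat_lit 688217) q)) (Nat.ble (nat_lit 633263) q)) (Bool.rec (motive := fun _ => ℕ) (Bool.rec (motive := fun _ => ℕ) U_b_4 U_b_5 (Nat.ble (nat_lit 798799) q)) (Bool.rec (motive := fun _ => ℕ) U_b_6 U_b_7 (Nat.ble (nat_lit 910583) q)) (Nat.ble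 (nat_lit 854921) q)) (Nat.ble (nat_lit 743363) q)) q) q) (E_22 (Nat.mod (Bool.rec (motive := fun _ => ℕ) (Bool.rec (motive := fun _ => ℕ) (Bool.rec (motive := fun _ => ℕ) U_b_0 U_b_1 (Nat.ble (nat_lit 578687) q)) (Bool.rec (motive := fun _ => ℕ) U_b_2 U_b_3 (Nat.ble (nat_lit 688217) q)) (Nat.ble (nat_lit 633263) q)) (Bool.rec (motive := fun _ => ℕ) (Bool.rec (motive := fun _ => ℕ) U_b_4 U_b_5 (Nat.ble (nat_lit 798799) q)) (Bool.rec (motive := fun _ => ℕ) U_b_6 U_b_7 (Nat.ble (nat_lit 910583) q)) (Nat.ble (nat_lit 854921) q)) (Nat.ble (nat_lit 743363) q)) q) q) (Nat.ble (nat_lit 9) (Nat.mod (Bool.rec (motive := fun _ => ℕ) (Bool.rec (motive := fun _ => ℕ) (Bool.rec (motive := fun _ => ℕ) V_b_0 V_b_1 (Nat.ble (nat_lit 578687) q)) (Bool.rec (motive := fun _ => ℕ) V_b_2 V_b_3 (Nat.ble (nat_lit 688217) q)) (Nat.ble (nat_lit 633263) q)) (Bool.rec (motive := fun _ => ℕ) (Bool.rec (motive := fun _ => ℕ) V_b_4 V_b_5 (Nat.ble (nat_lit 798799)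 q)) (Bool.rec (motive := fun _ => ℕ) V_b_6 V_b_7 (Nat.ble (nat_lit 910583) q)) (Nat.ble (nat_lit 854921) q)) (Nat.ble (nat_lit 743363) q)) q))) (Nat.ble (nat_lit 8) (Nat.mod (Bool.rec (motive := fun _ => ℕ) (Bool.rec (motive := fun _ => ℕ) (Bool.rec (motive := fun _ => ℕ) V_b_0 V_b_1 (Nat.ble (nat_lit 578687) q)) (Bool.rec (motive := fun _ => ℕ) V_b_2 V_b_3 (Nat.ble (nat_lit 688217) q)) (Nat.ble (nat_lit 633263) q)) (Bool.rec (motive := fun _ => ℕ) (Bool.rec (motive := fun _ => ℕ) V_b_4 V_b_5 (Nat.ble (nat_lit 798799) q)) (Bool.rec (motive := fun _ => ℕ) V_b_6 V_b_7 (Nat.ble (nat_lit 910583) q)) (Nat.ble (nat_lit 854921) q)) (Nat.ble (nat_lit 743363) q)) q))) (Bool.rec (motive := fun _ => Bool) (E_23 (Nat.mod (Bool.rec (motive := fun _ => ℕ) (Bool.rec (motive := fun _ => ℕ) (Bool.rec (motive := fun _ => ℕ) U_b_0 U_b_1 (Nat.ble (nat_lit 578687) q)) (Bool.rec (motive := fun _ => ℕ) U_b_2 U_b_3 (Nat.ble (nat_lit 688217) q)) (Nat.ble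 (nat_lit 633263) q)) (Bool.rec (motive := fun _ => ℕ) (Bool.rec (motive := fun _ => ℕ) U_b_4 U_b_5 (Nat.ble (nat_lit 798799) q)) (Bool.rec (motive := fun _ => ℕ) U_b_6 U_b_7 (Nat.ble (nat_lit 910583) q)) (Nat.ble (nat_lit 854921) q)) (Nat.ble (nat_lit 743363) q)) q) q) (Bool.rec (motive := fun _ => Bool) (E_24 (Nat.mod (Bool.rec (motive := fun _ => ℕ) (Bool.rec (motive := fun _ => ℕ) (Bool.rec (motive := fun _ => ℕ) U_b_0 U_b_1 (Nat.ble (nat_lit 578687) q)) (Bool.rec (motive := fun _ => ℕ) U_b_2 U_b_3 (Nat.ble (nat_lit 688217) q)) (Nat.ble (nat_lit 633263) q)) (Bool.rec (motive := fun _ => ℕ) (Bool.rec (motive := fun _ => ℕ) U_b_4 U_b_5 (Nat.ble (nat_lit 798799) q)) (Bool.rec (motive := fun _ => ℕ) U_b_6 U_b_7 (Nat.ble (nat_lit 910583) q)) (Nat.ble (nat_lit 854921) q)) (Nat.ble (nat_lit 743363) q)) q) q) (E_25 (Nat.mod (Bool.rec (motive := fun _ => ℕ) (Bool.rec (motive := fun _ => ℕ) (Bool.rec (motive := fun _ => ℕ) U_b_0 U_b_1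 (Nat.ble (nat_lit 578687) q)) (Bool.rec (motive := fun _ => ℕ) U_b_2 U_b_3 (Nat.ble (nat_lit 688217) q)) (Nat.ble (nat_lit 633263) q)) (Bool.rec (motive := fun _ => ℕ) (Bool.rec (motive := fun _ => ℕ) U_b_4 U_b_5 (Nat.ble (nat_lit 798799) q)) (Bool.rec (motive := fun _ => ℕ) U_b_6 U_b_7 (Nat.ble (nat_lit 910583) q)) (Nat.ble (nat_lit 854921) q)) (Nat.ble (nat_lit 743363) q)) q) q) (Nat.ble (nat_lit 12) (Nat.mod (Bool.rec (motive := fun _ => ℕ) (Bool.rec (motive := fun _ => ℕ) (Bool.rec (motive := fun _ => ℕ) V_b_0 V_b_1 (Nat.ble (nat_lit 578687) q)) (Bool.rec (motive := fun _ => ℕ) V_b_2 V_b_3 (Nat.ble (nat_lit 688217) q)) (Nat.ble (nat_lit 633263) q)) (Bool.rec (motive := fun _ => ℕ) (Bool.rec (motive := fun _ => ℕ) V_b_4 V_b_5 (Nat.ble (nat_lit 798799) q)) (Bool.rec (motive := fun _ => ℕ) V_b_6 V_b_7 (Nat.ble (nat_lit 910583) q)) (Nat.ble (nat_lit 854921) q)) (Nat.ble (nat_lit 743363) q)) q))) (Nat.ble (nat_lit 11) (Nat.mod (Bool.rec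 (motive := fun _ => ℕ) (Bool.rec (motive := fun _ => ℕ) (Bool.rec (motive := fun _ => ℕ) V_b_0 V_b_1 (Nat.ble (nat_lit 578687) q)) (Bool.rec (motive := fun _ => ℕ) V_b_2 V_b_3 (Nat.ble (nat_lit 688217) q)) (Nat.ble (nat_lit 633263) q)) (Bool.rec (motive := fun _ => ℕ) (Bool.rec (motive := fun _ => ℕ) V_b_4 V_b_5 (Nat.ble (nat_lit 798799) q)) (Bool.rec (motive := fun _ => ℕ) V_b_6 V_b_7 (Nat.ble (nat_lit 910583) q)) (Nat.ble (nat_lit 854921) q)) (Nat.ble (nat_lit 743363) q)) q))) (Nat.ble (nat_lit 10) (Nat.mod (Bool.rec (motive := fun _ => ℕ) (Bool.rec (motive := fun _ => ℕ) (Bool.rec (motive := fun _ => ℕ) V_b_0 V_b_1 (Nat.ble (nat_lit 578687) q)) (Bool.rec (motive := fun _ => ℕ) V_b_2 V_b_3 (Nat.ble (nat_lit 688217) q)) (Nat.ble (nat_lit 633263) q)) (Bool.rec (motive := fun _ => ℕ) (Bool.rec (motive := fun _ => ℕ) V_b_4 V_b_5 (Nat.ble (nat_lit 798799) q)) (Bool.rec (motive := fun _ => ℕ) V_b_6 V_b_7 (Nat.ble (nat_lit 910583) q))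 (Nat.ble (nat_lit 854921) q)) (Nat.ble (nat_lit 743363) q)) q))) (Nat.ble (nat_lit 7) (Nat.mod (Bool.rec (motive := fun _ => ℕ) (Bool.rec (motive := fun _ => ℕ) (Bool.rec (motive := fun _ => ℕ) V_b_0 V_b_1 (Nat.ble (nat_lit 578687) q)) (Bool.rec (motive := fun _ => ℕ) V_b_2 V_b_3 (Nat.ble (nat_lit 688217) q)) (Nat.ble (nat_lit 633263) q)) (Bool.rec (motive := fun _ => ℕ) (Bool.rec (motive := fun _ => ℕ) V_b_4 V_b_5 (Nat.ble (nat_lit 798799) q)) (Bool.rec (motive := fun _ => ℕ) V_b_6 V_b_7 (Nat.ble (nat_lit 910583) q)) (Nat.ble (nat_lit 854921) q)) (Nat.ble (nat_lit 743363) q)) q))) (Nat.ble (nat_lit 2) (Nat.mod (Bool.rec (motive := fun _ => ℕ) (Bool.rec (motive := fun _ => ℕ) (Bool.rec (motive := fun _ => ℕ) V_b_0 V_b_1 (Nat.ble (nat_lit 578687) q)) (Bool.rec (motive := fun _ => ℕ) V_b_2 V_b_3 (Nat.ble (nat_lit 688217) q)) (Nat.ble (nat_lit 633263) q)) (Bool.rec (motive := fun _ => ℕ) (Bool.rec (motive := fun _ => ℕ) V_b_4 V_b_5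 (Nat.ble (nat_lit 798799) q)) (Bool.rec (motive := fun _ => ℕ) V_b_6 V_b_7 (Nat.ble (nat_lit 910583) q)) (Nat.ble (nat_lit 854921) q)) (Nat.ble (nat_lit 743363) q)) q)))
noncomputable def E_26 (t q : ℕ) : Bool := Nat.beq (G_c t (F_c q)) q
noncomputable def a_26 : CfsgLib.TC.AG Col := .word .c 19 0 true [Col.c]
noncomputable def E_27 (t q : ℕ) : Bool := Nat.beq (G_a t (G_c t (G_a t (F_c q)))) q
noncomputable def a_27 : CfsgLib.TC.AG Col := .word .c 2 0 true [Col.a, Col.c, Col.a]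
noncomputable def E_28 (t q : ℕ) : Bool := band (Nat.beq (PT (F_c q)) q) (band (Nat.beq (DT (F_c q)) 2) (band (Nat.ble (Nat.succ q) (F_c q)) (Nat.ble (Nat.succ q0) (F_c q))))
noncomputable def a_28 : CfsgLib.TC.AG Col := .tree .c
noncomputable def E_29 (t q : ℕ) : Bool := Nat.beq (G_h t (G_c t (G_h t (F_c q)))) q
noncomputable def a_29 : CfsgLib.TC.AG Col := .word .c 25 1 true [Col.h, Col.c, Col.h]
noncomputable def E_30 (t q : ℕ) : Bool := Nat.beq (G_i t (G_c t (G_i t (F_c q)))) q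
noncomputable def a_30 : CfsgLib.TC.AG Col := .word .c 26 1 true [Col.i, Col.c, Col.i]
noncomputable def E_31 (t q : ℕ) : Bool := Nat.beq (G_e t (G_c t (G_e t (F_c q)))) q
noncomputable def a_31 : CfsgLib.TC.AG Col := .word .c 21 1 true [Col.e, Col.c, Col.e]
noncomputable def E_32 (t q : ℕ) : Bool := Nat.beq (G_f t (G_c t (G_f t (F_c q)))) q
noncomputable def a_32 : CfsgLib.TC.AG Col := .word .c 22 1 true [Col.f, Col.c, Col.f]
noncomputable def E_33 (t q : ℕ) : Bool := Nat.beq (G_g t (G_c t (G_g t (F_c q)))) q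
noncomputable def a_33 : CfsgLib.TC.AG Col := .word .c 23 1 true [Col.g, Col.c, Col.g]
noncomputable def E_34 (t q : ℕ) : Bool := Nat.beq (G_j t (G_c t (G_j t (F_c q)))) q
noncomputable def a_34 : CfsgLib.TC.AG Col := .word .c 24 1 true [Col.j, Col.c, Col.j]
noncomputable def E_35 (t q : ℕ) : Bool := Nat.beq (G_d t (G_c t (G_d t (G_c t (G_d t (F_c q)))))) q
noncomputable def a_35 : CfsgLib.TC.AG Col := .word .c 20 1 true [Col.d, Col.c, Col.d, Col.c, Col.d]
noncomputable def E_36 (t q : ℕ) : Bool := Nat.beq (G_b t (G_c t (G_b t (G_c t (G_b t (F_c q)))))) q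
noncomputable def a_36 : CfsgLib.TC.AG Col := .word .c 11 0 true [Col.b, Col.c, Col.b, Col.c, Col.b]
noncomputable def E_37 (t q : ℕ) : Bool := band (Nat.beq q0 q) (Nat.beq (F_c q) q0)
noncomputable def a_37 : CfsgLib.TC.AG Col := .base .c 2 [] []
noncomputable def E_38 (t q : ℕ) : Bool := band (Nat.beq (G_d t (G_e t (G_b t (G_c t (G_d t (G_h t (G_i t (G_f t (G_e t (G_d t (G_h t (G_c t (G_d t (G_e t (G_f t (G_g t (G_j t q0))))))))))))))))) q) (Nat.beq (G_j t (G_g t (G_f t (G_e t (G_d t (G_c t (G_b t (G_h t (G_d t (G_c t (G_e t (G_d t (G_f t (G_e t (G_h t (G_d t (G_i t (G_h t (F_c q))))))))))))))))))) q0)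
noncomputable def a_38 : CfsgLib.TC.AG Col := .base .c 9 [Col.j, Col.g, Col.f, Col.e, Col.d, Col.c, Col.h, Col.d, Col.e, Col.f, Col.i, Col.h, Col.d, Col.c, Col.b, Col.e, Col.d] [Col.h, Col.i, Col.d, Col.h, Col.e, Col.f, Col.d, Col.e, Col.c, Col.d, Col.h, Col.b, Col.c, Col.d, Col.e, Col.f, Col.g, Col.j]
noncomputable def E_39 (t q : ℕ) : Bool := Nat.beq (G_d t (G_e t (G_f t (G_h t (G_a t (G_b t (G_c t (G_d t (G_e t (G_f t (G_h t (G_a t (G_b t (G_c t (G_d t (G_e t (G_f t (G_h t (G_a t (G_b t (G_c t (G_d t (G_e t (G_f t (G_h t (G_a t (G_b t (G_c t (G_d t (G_e t (G_f t (G_h t (G_a t (G_b t (G_c t (G_d t (G_e t (G_f t (G_h t (G_a t (G_b t (G_c t (G_d t (G_e t (G_f t (G_h t (G_a t (G_b t (G_c t (G_d t (G_e t (G_f t (G_h t (G_a t (G_b t (G_c t (G_d t (G_e t (G_f t (G_h t (G_a t (G_b t (F_c q))))))))))))))))))))))))))))))))))))))))))))))))))))))))))))))) q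
noncomputable def a_39 : CfsgLib.TC.AG Col := .word .c 56 4 true [Col.b, Col.a, Col.h, Col.f, Col.e, Col.d, Col.c, Col.b, Col.a, Col.h, Col.f, Col.e, Col.d, Col.c, Col.b, Col.a, Col.h, Col.f, Col.e, Col.d, Col.c, Col.b, Col.a, Col.h, Col.f, Col.e, Col.d, Col.c, Col.b, Col.a, Col.h, Col.f, Col.e, Col.d, Col.c, Col.b, Col.a, Col.h, Col.f, Col.e, Col.d, Col.c, Col.b, Col.a, Col.h, Col.f, Col.e, Col.d, Col.c, Col.b, Col.a, Col.h, Col.f, Col.e, Col.d, Col.c, Col.b, Col.a, Col.h, Col.f, Col.e, Col.d]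
noncomputable def E_40 (t q : ℕ) : Bool := Nat.beq (G_b t (G_a t (G_h t (G_f t (G_e t (G_d t (G_c t (G_b t (G_a t (G_h t (G_f t (G_e t (G_d t (G_c t (G_b t (G_a t (G_h t (G_f t (G_e t (G_d t (G_c t (G_b t (G_a t (G_h t (G_f t (G_e t (G_d t (G_c t (G_b t (G_a t (G_h t (G_f t (G_e t (G_d t (G_c t (G_b t (G_a t (G_h t (G_f t (G_e t (G_d t (G_c t (G_b t (G_a t (G_h t (G_f t (G_e t (G_d t (G_c t (G_b t (G_a t (G_h t (G_f t (G_e t (G_d t (G_c t (G_b t (G_a t (G_h t (G_f t (G_e t (G_d t (F_c q))))))))))))))))))))))))))))))))))))))))))))))))))))))))))))))) q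
noncomputable def a_40 : CfsgLib.TC.AG Col := .word .c 56 2 false [Col.d, Col.e, Col.f, Col.h, Col.a, Col.b, Col.c, Col.d, Col.e, Col.f, Col.h, Col.a, Col.b, Col.c, Col.d, Col.e, Col.f, Col.h, Col.a, Col.b, Col.c, Col.d, Col.e, Col.f, Col.h, Col.a, Col.b, Col.c, Col.d, Col.e, Col.f, Col.h, Col.a, Col.b, Col.c, Col.d, Col.e, Col.f, Col.h, Col.a, Col.b, Col.c, Col.d, Col.e, Col.f, Col.h, Col.a, Col.b, Col.c, Col.d, Col.e, Col.f, Col.h, Col.a, Col.b, Col.c, Col.d, Col.e, Col.f, Col.h, Col.a, Col.b]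
noncomputable def D_c (q : ℕ) : Bool := (Bool.rec (motive := fun _ => Bool) (Bool.rec (motive := fun _ => Bool) (E_26 (Nat.mod (Bool.rec (motive := fun _ => ℕ) (Bool.rec (motive := fun _ => ℕ) (Bool.rec (motive := fun _ => ℕ) U_c_0 U_c_1 (Nat.ble (nat_lit 578687) q)) (Bool.rec (motive := fun _ => ℕ) U_c_2 U_c_3 (Nat.ble (nat_lit 688217) q)) (Nat.ble (nat_lit 633263) q)) (Bool.rec (motive := fun _ => ℕ) (Bool.rec (motive := fun _ => ℕ) U_c_4 U_c_5 (Nat.ble (nat_lit 798799) q)) (Bool.rec (motive := fun _ => ℕ) U_c_6 U_c_7 (Nat.ble (nat_lit 910583) q)) (Nat.ble (nat_lit 854921) q)) (Nat.ble (nat_lit 743363) q)) q) q) (E_27 (Nat.mod (Bool.rec (motive := fun _ => ℕ) (Bool.rec (motive := fun _ => ℕ) (Bool.rec (motive := fun _ => ℕ) U_c_0 U_c_1 (Nat.ble (nat_lit 578687) q)) (Bool.rec (motive := fun _ => ℕ) U_c_2 U_c_3 (Nat.ble (nat_lit 688217) q)) (Nat.ble (nat_lit 633263) q)) (Bool.rec (motive := fun _ => ℕ) (Bool.rec (motive := fun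 _ => ℕ) U_c_4 U_c_5 (Nat.ble (nat_lit 798799) q)) (Bool.rec (motive := fun _ => ℕ) U_c_6 U_c_7 (Nat.ble (nat_lit 910583) q)) (Nat.ble (nat_lit 854921) q)) (Nat.ble (nat_lit 743363) q)) q) q) (Nat.ble (nat_lit 1) (Nat.mod (Bool.rec (motive := fun _ => ℕ) (Bool.rec (motive := fun _ => ℕ) (Bool.rec (motive := fun _ => ℕ) V_c_0 V_c_1 (Nat.ble (nat_lit 578687) q)) (Bool.rec (motive := fun _ => ℕ) V_c_2 V_c_3 (Nat.ble (nat_lit 688217) q)) (Nat.ble (nat_lit 633263) q)) (Bool.rec (motive := fun _ => ℕ) (Bool.rec (motive := fun _ => ℕ) V_c_4 V_c_5 (Nat.ble (nat_lit 798799) q)) (Bool.rec (motive := fun _ => ℕ) V_c_6 V_c_7 (Nat.ble (nat_lit 910583) q)) (Nat.ble (nat_lit 854921) q)) (Nat.ble (nat_lit 743363) q)) q))) (Bool.rec (motive := fun _ => Bool) (Bool.rec (motive := fun _ => Bool) (Bool.rec (motive := fun _ => Bool) (E_28 (Nat.mod (Bool.rec (motive := fun _ => ℕ) (Bool.rec (motive := fun _ => ℕ) (Bool.rec (motive := fun _ => ℕ) U_c_0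 U_c_1 (Nat.ble (nat_lit 578687) q)) (Bool.rec (motive := fun _ => ℕ) U_c_2 U_c_3 (Nat.ble (nat_lit 688217) q)) (Nat.ble (nat_lit 633263) q)) (Bool.rec (motive := fun _ => ℕ) (Bool.rec (motive := fun _ => ℕ) U_c_4 U_c_5 (Nat.ble (nat_lit 798799) q)) (Bool.rec (motive := fun _ => ℕ) U_c_6 U_c_7 (Nat.ble (nat_lit 910583) q)) (Nat.ble (nat_lit 854921) q)) (Nat.ble (nat_lit 743363) q)) q) q) (Bool.rec (motive := fun _ => Bool) (E_29 (Nat.mod (Bool.rec (motive := fun _ => ℕ) (Bool.rec (motive := fun _ => ℕ) (Bool.rec (motive := fun _ => ℕ) U_c_0 U_c_1 (Nat.ble (nat_lit 578687) q)) (Bool.rec (motive := fun _ => ℕ) U_c_2 U_c_3 (Nat.ble (nat_lit 688217) q)) (Nat.ble (nat_lit 633263) q)) (Bool.rec (motive := fun _ => ℕ) (Bool.rec (motive := fun _ => ℕ) U_c_4 U_c_5 (Nat.ble (nat_lit 798799) q)) (Bool.rec (motive := fun _ => ℕ) U_c_6 U_c_7 (Nat.ble (nat_lit 910583) q)) (Nat.ble (nat_lit 854921) q)) (Nat.ble (nat_lit 743363) q)) q) q) (E_30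 (Nat.mod (Bool.rec (motive := fun _ => ℕ) (Bool.rec (motive := fun _ => ℕ) (Bool.rec (motive := fun _ => ℕ) U_c_0 U_c_1 (Nat.ble (nat_lit 578687) q)) (Bool.rec (motive := fun _ => ℕ) U_c_2 U_c_3 (Nat.ble (nat_lit 688217) q)) (Nat.ble (nat_lit 633263) q)) (Bool.rec (motive := fun _ => ℕ) (Bool.rec (motive := fun _ => ℕ) U_c_4 U_c_5 (Nat.ble (nat_lit 798799) q)) (Bool.rec (motive := fun _ => ℕ) U_c_6 U_c_7 (Nat.ble (nat_lit 910583) q)) (Nat.ble (nat_lit 854921) q)) (Nat.ble (nat_lit 743363) q)) q) q) (Nat.ble (nat_lit 4) (Nat.mod (Bool.rec (motive := fun _ => ℕ) (Bool.rec (motive := fun _ => ℕ) (Bool.rec (motive := fun _ => ℕ) V_c_0 V_c_1 (Nat.ble (nat_lit 578687) q)) (Bool.rec (motive := fun _ => ℕ) V_c_2 V_c_3 (Nat.ble (nat_lit 688217) q)) (Nat.ble (nat_lit 633263) q)) (Bool.rec (motive := fun _ => ℕ) (Bool.rec (motive := fun _ => ℕ) V_c_4 V_c_5 (Nat.ble (nat_lit 798799) q)) (Bool.rec (motive := fun _ => ℕ) V_c_6 V_c_7 (Nat.ble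 (nat_lit 910583) q)) (Nat.ble (nat_lit 854921) q)) (Nat.ble (nat_lit 743363) q)) q))) (Nat.ble (nat_lit 3) (Nat.mod (Bool.rec (motive := fun _ => ℕ) (Bool.rec (motive := fun _ => ℕ) (Bool.rec (motive := fun _ => ℕ) V_c_0 V_c_1 (Nat.ble (nat_lit 578687) q)) (Bool.rec (motive := fun _ => ℕ) V_c_2 V_c_3 (Nat.ble (nat_lit 688217) q)) (Nat.ble (nat_lit 633263) q)) (Bool.rec (motive := fun _ => ℕ) (Bool.rec (motive := fun _ => ℕ) V_c_4 V_c_5 (Nat.ble (nat_lit 798799) q)) (Bool.rec (motive := fun _ => ℕ) V_c_6 V_c_7 (Nat.ble (nat_lit 910583) q)) (Nat.ble (nat_lit 854921) q)) (Nat.ble (nat_lit 743363) q)) q))) (Bool.rec (motive := fun _ => Bool) (E_31 (Nat.mod (Bool.rec (motive := fun _ => ℕ) (Bool.rec (motive := fun _ => ℕ) (Bool.rec (motive := fun _ => ℕ) U_c_0 U_c_1 (Nat.ble (nat_lit 578687) q)) (Bool.rec (motive := fun _ => ℕ) U_c_2 U_c_3 (Nat.ble (nat_lit 688217) q)) (Nat.ble (nat_lit 633263) q)) (Bool.rec (motive := fun _ => ℕ) (Bool.rec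 (motive := fun _ => ℕ) U_c_4 U_c_5 (Nat.ble (nat_lit 798799) q)) (Bool.rec (motive := fun _ => ℕ) U_c_6 U_c_7 (Nat.ble (nat_lit 910583) q)) (Nat.ble (nat_lit 854921) q)) (Nat.ble (nat_lit 743363) q)) q) q) (Bool.rec (motive := fun _ => Bool) (E_32 (Nat.mod (Bool.rec (motive := fun _ => ℕ) (Bool.rec (motive := fun _ => ℕ) (Bool.rec (motive := fun _ => ℕ) U_c_0 U_c_1 (Nat.ble (nat_lit 578687) q)) (Bool.rec (motive := fun _ => ℕ) U_c_2 U_c_3 (Nat.ble (nat_lit 688217) q)) (Nat.ble (nat_lit 633263) q)) (Bool.rec (motive := fun _ => ℕ) (Bool.rec (motive := fun _ => ℕ) U_c_4 U_c_5 (Nat.ble (nat_lit 798799) q)) (Bool.rec (motive := fun _ => ℕ) U_c_6 U_c_7 (Nat.ble (nat_lit 910583) q)) (Nat.ble (nat_lit 854921) q)) (Nat.ble (nat_lit 743363) q)) q) q) (E_33 (Nat.mod (Bool.rec (motive := fun _ => ℕ) (Bool.rec (motive := fun _ => ℕ) (Bool.rec (motive := fun _ => ℕ) U_c_0 U_c_1 (Nat.ble (nat_lit 578687) q)) (Bool.rec (motive := fun _ => ℕ)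 U_c_2 U_c_3 (Nat.ble (nat_lit 688217) q)) (Nat.ble (nat_lit 633263) q)) (Bool.rec (motive := fun _ => ℕ) (Bool.rec (motive := fun _ => ℕ) U_c_4 U_c_5 (Nat.ble (nat_lit 798799) q)) (Bool.rec (motive := fun _ => ℕ) U_c_6 U_c_7 (Nat.ble (nat_lit 910583) q)) (Nat.ble (nat_lit 854921) q)) (Nat.ble (nat_lit 743363) q)) q) q) (Nat.ble (nat_lit 7) (Nat.mod (Bool.rec (motive := fun _ => ℕ) (Bool.rec (motive := fun _ => ℕ) (Bool.rec (motive := fun _ => ℕ) V_c_0 V_c_1 (Nat.ble (nat_lit 578687) q)) (Bool.rec (motive := fun _ => ℕ) V_c_2 V_c_3 (Nat.ble (nat_lit 688217) q)) (Nat.ble (nat_lit 633263) q)) (Bool.rec (motive := fun _ => ℕ) (Bool.rec (motive := fun _ => ℕ) V_c_4 V_c_5 (Nat.ble (nat_lit 798799) q)) (Bool.rec (motive := fun _ => ℕ) V_c_6 V_c_7 (Nat.ble (nat_lit 910583) q)) (Nat.ble (nat_lit 854921) q)) (Nat.ble (nat_lit 743363) q)) q))) (Nat.ble (nat_lit 6) (Nat.mod (Bool.rec (motive := fun _ => ℕ) (Bool.rec (motive := fun _ => ℕ)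 (Bool.rec (motive := fun _ => ℕ) V_c_0 V_c_1 (Nat.ble (nat_lit 578687) q)) (Bool.rec (motive := fun _ => ℕ) V_c_2 V_c_3 (Nat.ble (nat_lit 688217) q)) (Nat.ble (nat_lit 633263) q)) (Bool.rec (motive := fun _ => ℕ) (Bool.rec (motive := fun _ => ℕ) V_c_4 V_c_5 (Nat.ble (nat_lit 798799) q)) (Bool.rec (motive := fun _ => ℕ) V_c_6 V_c_7 (Nat.ble (nat_lit 910583) q)) (Nat.ble (nat_lit 854921) q)) (Nat.ble (nat_lit 743363) q)) q))) (Nat.ble (nat_lit 5) (Nat.mod (Bool.rec (motive := fun _ => ℕ) (Bool.rec (motive := fun _ => ℕ) (Bool.rec (motive := fun _ => ℕ) V_c_0 V_c_1 (Nat.ble (nat_lit 578687) q)) (Bool.rec (motive := fun _ => ℕ) V_c_2 V_c_3 (Nat.ble (nat_lit 688217) q)) (Nat.ble (nat_lit 633263) q)) (Bool.rec (motive := fun _ => ℕ) (Bool.rec (motive := fun _ => ℕ) V_c_4 V_c_5 (Nat.ble (nat_lit 798799) q)) (Bool.rec (motive := fun _ => ℕ) V_c_6 V_c_7 (Nat.ble (nat_lit 910583) q)) (Nat.ble (nat_lit 854921) q)) (Nat.ble (nat_lit 743363)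 q)) q))) (Bool.rec (motive := fun _ => Bool) (Bool.rec (motive := fun _ => Bool) (E_34 (Nat.mod (Bool.rec (motive := fun _ => ℕ) (Bool.rec (motive := fun _ => ℕ) (Bool.rec (motive := fun _ => ℕ) U_c_0 U_c_1 (Nat.ble (nat_lit 578687) q)) (Bool.rec (motive := fun _ => ℕ) U_c_2 U_c_3 (Nat.ble (nat_lit 688217) q)) (Nat.ble (nat_lit 633263) q)) (Bool.rec (motive := fun _ => ℕ) (Bool.rec (motive := fun _ => ℕ) U_c_4 U_c_5 (Nat.ble (nat_lit 798799) q)) (Bool.rec (motive := fun _ => ℕ) U_c_6 U_c_7 (Nat.ble (nat_lit 910583) q)) (Nat.ble (nat_lit 854921) q)) (Nat.ble (nat_lit 743363) q)) q) q) (Bool.rec (motive := fun _ => Bool) (E_35 (Nat.mod (Bool.rec (motive := fun _ => ℕ) (Bool.rec (motive := fun _ => ℕ) (Bool.rec (motive := fun _ => ℕ) U_c_0 U_c_1 (Nat.ble (nat_lit 578687) q)) (Bool.rec (motive := fun _ => ℕ) U_c_2 U_c_3 (Nat.ble (nat_lit 688217) q)) (Nat.ble (nat_lit 633263) q)) (Bool.rec (motive := fun _ => ℕ) (Bool.rec (motive :=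 fun _ => ℕ) U_c_4 U_c_5 (Nat.ble (nat_lit 798799) q)) (Bool.rec (motive := fun _ => ℕ) U_c_6 U_c_7 (Nat.ble (nat_lit 910583) q)) (Nat.ble (nat_lit 854921) q)) (Nat.ble (nat_lit 743363) q)) q) q) (E_36 (Nat.mod (Bool.rec (motive := fun _ => ℕ) (Bool.rec (motive := fun _ => ℕ) (Bool.rec (motive := fun _ => ℕ) U_c_0 U_c_1 (Nat.ble (nat_lit 578687) q)) (Bool.rec (motive := fun _ => ℕ) U_c_2 U_c_3 (Nat.ble (nat_lit 688217) q)) (Nat.ble (nat_lit 633263) q)) (Bool.rec (motive := fun _ => ℕ) (Bool.rec (motive := fun _ => ℕ) U_c_4 U_c_5 (Nat.ble (nat_lit 798799) q)) (Bool.rec (motive := fun _ => ℕ) U_c_6 U_c_7 (Nat.ble (nat_lit 910583) q)) (Nat.ble (nat_lit 854921) q)) (Nat.ble (nat_lit 743363) q)) q) q) (Nat.ble (nat_lit 10) (Nat.mod (Bool.rec (motive := fun _ => ℕ) (Bool.rec (motive := fun _ => ℕ) (Bool.rec (motive := fun _ => ℕ) V_c_0 V_c_1 (Nat.ble (nat_lit 578687) q)) (Bool.rec (motive := fun _ => ℕ) V_c_2 V_c_3 (Nat.ble (nat_lit 688217)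 q)) (Nat.ble (nat_lit 633263) q)) (Bool.rec (motive := fun _ => ℕ) (Bool.rec (motive := fun _ => ℕ) V_c_4 V_c_5 (Nat.ble (nat_lit 798799) q)) (Bool.rec (motive := fun _ => ℕ) V_c_6 V_c_7 (Nat.ble (nat_lit 910583) q)) (Nat.ble (nat_lit 854921) q)) (Nat.ble (nat_lit 743363) q)) q))) (Nat.ble (nat_lit 9) (Nat.mod (Bool.rec (motive := fun _ => ℕ) (Bool.rec (motive := fun _ => ℕ) (Bool.rec (motive := fun _ => ℕ) V_c_0 V_c_1 (Nat.ble (nat_lit 578687) q)) (Bool.rec (motive := fun _ => ℕ) V_c_2 V_c_3 (Nat.ble (nat_lit 688217) q)) (Nat.ble (nat_lit 633263) q)) (Bool.rec (motive := fun _ => ℕ) (Bool.rec (motive := fun _ => ℕ) V_c_4 V_c_5 (Nat.ble (nat_lit 798799) q)) (Bool.rec (motive := fun _ => ℕ) V_c_6 V_c_7 (Nat.ble (nat_lit 910583) q)) (Nat.ble (nat_lit 854921) q)) (Nat.ble (nat_lit 743363) q)) q))) (Bool.rec (motive := fun _ => Bool) (Bool.rec (motive := fun _ => Bool) (E_37 (Nat.mod (Bool.rec (motive := fun _ => ℕ) (Bool.rec (motive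 := fun _ => ℕ) (Bool.rec (motive := fun _ => ℕ) U_c_0 U_c_1 (Nat.ble (nat_lit 578687) q)) (Bool.rec (motive := fun _ => ℕ) U_c_2 U_c_3 (Nat.ble (nat_lit 688217) q)) (Nat.ble (nat_lit 633263) q)) (Bool.rec (motive := fun _ => ℕ) (Bool.rec (motive := fun _ => ℕ) U_c_4 U_c_5 (Nat.ble (nat_lit 798799) q)) (Bool.rec (motive := fun _ => ℕ) U_c_6 U_c_7 (Nat.ble (nat_lit 910583) q)) (Nat.ble (nat_lit 854921) q)) (Nat.ble (nat_lit 743363) q)) q) q) (E_38 (Nat.mod (Bool.rec (motive := fun _ => ℕ) (Bool.rec (motive := fun _ => ℕ) (Bool.rec (motive := fun _ => ℕ) U_c_0 U_c_1 (Nat.ble (nat_lit 578687) q)) (Bool.rec (motive := fun _ => ℕ) U_c_2 U_c_3 (Nat.ble (nat_lit 688217) q)) (Nat.ble (nat_lit 633263) q)) (Bool.rec (motive := fun _ => ℕ) (Bool.rec (motive := fun _ => ℕ) U_c_4 U_c_5 (Nat.ble (nat_lit 798799) q)) (Bool.rec (motive := fun _ => ℕ) U_c_6 U_c_7 (Nat.ble (nat_lit 910583) q)) (Nat.ble (nat_lit 854921) q)) (Nat.ble (nat_lit 743363)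 q)) q) q) (Nat.ble (nat_lit 12) (Nat.mod (Bool.rec (motive := fun _ => ℕ) (Bool.rec (motive := fun _ => ℕ) (Bool.rec (motive := fun _ => ℕ) V_c_0 V_c_1 (Nat.ble (nat_lit 578687) q)) (Bool.rec (motive := fun _ => ℕ) V_c_2 V_c_3 (Nat.ble (nat_lit 688217) q)) (Nat.ble (nat_lit 633263) q)) (Bool.rec (motive := fun _ => ℕ) (Bool.rec (motive := fun _ => ℕ) V_c_4 V_c_5 (Nat.ble (nat_lit 798799) q)) (Bool.rec (motive := fun _ => ℕ) V_c_6 V_c_7 (Nat.ble (nat_lit 910583) q)) (Nat.ble (nat_lit 854921) q)) (Nat.ble (nat_lit 743363) q)) q))) (Bool.rec (motive := fun _ => Bool) (E_39 (Nat.mod (Bool.rec (motive := fun _ => ℕ) (Bool.rec (motive := fun _ => ℕ) (Bool.rec (motive := fun _ => ℕ) U_c_0 U_c_1 (Nat.ble (nat_lit 578687) q)) (Bool.rec (motive := fun _ => ℕ) U_c_2 U_c_3 (Nat.ble (nat_lit 688217) q)) (Nat.ble (nat_lit 633263) q)) (Bool.rec (motive := fun _ => ℕ) (Bool.rec (motive := fun _ => ℕ) U_c_4 U_c_5 (Nat.ble (nat_lit 798799) q)) (Bool.rec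 (motive := fun _ => ℕ) U_c_6 U_c_7 (Nat.ble (nat_lit 910583) q)) (Nat.ble (nat_lit 854921) q)) (Nat.ble (nat_lit 743363) q)) q) q) (E_40 (Nat.mod (Bool.rec (motive := fun _ => ℕ) (Bool.rec (motive := fun _ => ℕ) (Bool.rec (motive := fun _ => ℕ) U_c_0 U_c_1 (Nat.ble (nat_lit 578687) q)) (Bool.rec (motive := fun _ => ℕ) U_c_2 U_c_3 (Nat.ble (nat_lit 688217) q)) (Nat.ble (nat_lit 633263) q)) (Bool.rec (motive := fun _ => ℕ) (Bool.rec (motive := fun _ => ℕ) U_c_4 U_c_5 (Nat.ble (nat_lit 798799) q)) (Bool.rec (motive := fun _ => ℕ) U_c_6 U_c_7 (Nat.ble (nat_lit 910583) q)) (Nat.ble (nat_lit 854921) q)) (Nat.ble (nat_lit 743363) q)) q) q) (Nat.ble (nat_lit 14) (Nat.mod (Bool.rec (motive := fun _ => ℕ) (Bool.rec (motive := fun _ => ℕ) (Bool.rec (motive := fun _ => ℕ) V_c_0 V_c_1 (Nat.ble (nat_lit 578687) q)) (Bool.rec (motive := fun _ => ℕ) V_c_2 V_c_3 (Nat.ble (nat_lit 688217) q)) (Nat.ble (nat_lit 633263) q)) (Bool.rec (motive := fun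 _ => ℕ) (Bool.rec (motive := fun _ => ℕ) V_c_4 V_c_5 (Nat.ble (nat_lit 798799) q)) (Bool.rec (motive := fun _ => ℕ) V_c_6 V_c_7 (Nat.ble (nat_lit 910583) q)) (Nat.ble (nat_lit 854921) q)) (Nat.ble (nat_lit 743363) q)) q))) (Nat.ble (nat_lit 13) (Nat.mod (Bool.rec (motive := fun _ => ℕ) (Bool.rec (motive := fun _ => ℕ) (Bool.rec (motive := fun _ => ℕ) V_c_0 V_c_1 (Nat.ble (nat_lit 578687) q)) (Bool.rec (motive := fun _ => ℕ) V_c_2 V_c_3 (Nat.ble (nat_lit 688217) q)) (Nat.ble (nat_lit 633263) q)) (Bool.rec (motive := fun _ => ℕ) (Bool.rec (motive := fun _ => ℕ) V_c_4 V_c_5 (Nat.ble (nat_lit 798799) q)) (Bool.rec (motive := fun _ => ℕ) V_c_6 V_c_7 (Nat.ble (nat_lit 910583) q)) (Nat.ble (nat_lit 854921) q)) (Nat.ble (nat_lit 743363) q)) q))) (Nat.ble (nat_lit 11) (Nat.mod (Bool.rec (motive := fun _ => ℕ) (Bool.rec (motive := fun _ => ℕ) (Bool.rec (motive := fun _ => ℕ) V_c_0 V_c_1 (Nat.ble (nat_lit 578687) q)) (Bool.rec (motive :=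 fun _ => ℕ) V_c_2 V_c_3 (Nat.ble (nat_lit 688217) q)) (Nat.ble (nat_lit 633263) q)) (Bool.rec (motive := fun _ => ℕ) (Bool.rec (motive := fun _ => ℕ) V_c_4 V_c_5 (Nat.ble (nat_lit 798799) q)) (Bool.rec (motive := fun _ => ℕ) V_c_6 V_c_7 (Nat.ble (nat_lit 910583) q)) (Nat.ble (nat_lit 854921) q)) (Nat.ble (nat_lit 743363) q)) q))) (Nat.ble (nat_lit 8) (Nat.mod (Bool.rec (motive := fun _ => ℕ) (Bool.rec (motive := fun _ => ℕ) (Bool.rec (motive := fun _ => ℕ) V_c_0 V_c_1 (Nat.ble (nat_lit 578687) q)) (Bool.rec (motive := fun _ => ℕ) V_c_2 V_c_3 (Nat.ble (nat_lit 688217) q)) (Nat.ble (nat_lit 633263) q)) (Bool.rec (motive := fun _ => ℕ) (Bool.rec (motive := fun _ => ℕ) V_c_4 V_c_5 (Nat.ble (nat_lit 798799) q)) (Bool.rec (motive := fun _ => ℕ) V_c_6 V_c_7 (Nat.ble (nat_lit 910583) q)) (Nat.ble (nat_lit 854921) q)) (Nat.ble (nat_lit 743363) q)) q))) (Nat.ble (nat_lit 2) (Nat.mod (Bool.rec (motive := fun _ => ℕ) (Bool.rec (motive := fun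 _ => ℕ) (Bool.rec (motive := fun _ => ℕ) V_c_0 V_c_1 (Nat.ble (nat_lit 578687) q)) (Bool.rec (motive := fun _ => ℕ) V_c_2 V_c_3 (Nat.ble (nat_lit 688217) q)) (Nat.ble (nat_lit 633263) q)) (Bool.rec (motive := fun _ => ℕ) (Bool.rec (motive := fun _ => ℕ) V_c_4 V_c_5 (Nat.ble (nat_lit 798799) q)) (Bool.rec (motive := fun _ => ℕ) V_c_6 V_c_7 (Nat.ble (nat_lit 910583) q)) (Nat.ble (nat_lit 854921) q)) (Nat.ble (nat_lit 743363) q)) q)))
noncomputable def E_41 (t q : ℕ) : Bool := Nat.beq (G_d t (F_d q)) q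
noncomputable def a_41 : CfsgLib.TC.AG Col := .word .d 27 0 true [Col.d]
noncomputable def E_42 (t q : ℕ) : Bool := Nat.beq (G_a t (G_d t (G_a t (F_d q)))) q
noncomputable def a_42 : CfsgLib.TC.AG Col := .word .d 3 0 true [Col.a, Col.d, Col.a]
noncomputable def E_43 (t q : ℕ) : Bool := band (Nat.beq (PT (F_d q)) q) (band (Nat.beq (DT (F_d q)) 3) (band (Nat.ble (Nat.succ q) (F_d q)) (Nat.ble (Nat.succ q0) (F_d q))))
noncomputable def a_43 : CfsgLib.TC.AG Col := .tree .d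
noncomputable def E_44 (t q : ℕ) : Bool := Nat.beq (G_b t (G_d t (G_b t (F_d q)))) q
noncomputable def a_44 : CfsgLib.TC.AG Col := .word .d 12 0 true [Col.b, Col.d, Col.b]
noncomputable def E_45 (t q : ℕ) : Bool := Nat.beq (G_i t (G_d t (G_i t (F_d q)))) q
noncomputable def a_45 : CfsgLib.TC.AG Col := .word .d 33 1 true [Col.i, Col.d, Col.i]
noncomputable def E_46 (t q : ℕ) : Bool := Nat.beq (G_f t (G_d t (G_f t (F_d q)))) q
noncomputable def a_46 : CfsgLib.TC.AG Col := .word .d 29 1 true [Col.f, Col.d, Col.f]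
noncomputable def E_47 (t q : ℕ) : Bool := Nat.beq (G_g t (G_d t (G_g t (F_d q)))) q
noncomputable def a_47 : CfsgLib.TC.AG Col := .word .d 30 1 true [Col.g, Col.d, Col.g]
noncomputable def E_48 (t q : ℕ) : Bool := Nat.beq (G_j t (G_d t (G_j t (F_d q)))) q
noncomputable def a_48 : CfsgLib.TC.AG Col := .word .d 31 1 true [Col.j, Col.d, Col.j]
noncomputable def E_49 (t q : ℕ) : Bool := Nat.beq (G_e t (G_d t (G_e t (G_d t (G_e t (F_d q)))))) q
noncomputable def a_49 : CfsgLib.TC.AG Col := .word .d 28 1 true [Col.e, Col.d, Col.e, Col.d, Col.e]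
noncomputable def E_50 (t q : ℕ) : Bool := Nat.beq (G_c t (G_d t (G_c t (G_d t (G_c t (F_d q)))))) q
noncomputable def a_50 : CfsgLib.TC.AG Col := .word .d 20 0 true [Col.c, Col.d, Col.c, Col.d, Col.c]
noncomputable def E_51 (t q : ℕ) : Bool := Nat.beq (G_h t (G_d t (G_h t (G_d t (G_h t (F_d q)))))) q
noncomputable def a_51 : CfsgLib.TC.AG Col := .word .d 32 1 true [Col.h, Col.d, Col.h, Col.d, Col.h]
noncomputable def E_52 (t q : ℕ) : Bool := Nat.beq (G_e t (G_f t (G_h t (G_a t (G_b t (G_c t (G_d t (G_e t (G_f t (G_h t (G_a t (G_b t (G_c t (G_d t (G_e t (G_f t (G_h t (G_a t (G_b t (G_c t (G_d t (G_e t (G_f t (G_h t (G_a t (G_b t (G_c t (G_d t (G_e t (G_f t (G_h t (G_a t (G_b t (G_c t (G_d t (G_e t (G_f t (G_h t (G_a t (G_b t (G_c t (G_d t (G_e t (G_f t (G_h t (G_a t (G_b t (G_c t (G_d t (G_e t (G_f t (G_h t (G_a t (G_b t (G_c t (G_d t (G_e t (G_f t (G_h t (G_a t (G_b t (G_c t (F_d q)))))))))))))))))))))))))))))))))))))))))))))))))))))))))))))))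 q
noncomputable def a_52 : CfsgLib.TC.AG Col := .word .d 56 3 true [Col.c, Col.b, Col.a, Col.h, Col.f, Col.e, Col.d, Col.c, Col.b, Col.a, Col.h, Col.f, Col.e, Col.d, Col.c, Col.b, Col.a, Col.h, Col.f, Col.e, Col.d, Col.c, Col.b, Col.a, Col.h, Col.f, Col.e, Col.d, Col.c, Col.b, Col.a, Col.h, Col.f, Col.e, Col.d, Col.c, Col.b, Col.a, Col.h, Col.f, Col.e, Col.d, Col.c, Col.b, Col.a, Col.h, Col.f, Col.e, Col.d, Col.c, Col.b, Col.a, Col.h, Col.f, Col.e, Col.d, Col.c, Col.b, Col.a, Col.h, Col.f, Col.e]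
noncomputable def E_53 (t q : ℕ) : Bool := band (Nat.beq q0 q) (Nat.beq (F_d q) q0)
noncomputable def a_53 : CfsgLib.TC.AG Col := .base .d 3 [] []
noncomputable def E_54 (t q : ℕ) : Bool := Nat.beq (G_i t (G_h t (G_d t (G_f t (G_e t (G_d t (G_b t (G_c t (G_d t (G_i t (G_h t (G_d t (G_f t (G_e t (G_d t (G_b t (G_c t (G_d t (G_i t (G_h t (G_d t (G_f t (G_e t (G_d t (G_b t (G_c t (G_d t (G_i t (G_h t (G_d t (G_f t (G_e t (G_d t (G_b t (G_c t (G_d t (G_i t (G_h t (G_d t (G_f t (G_e t (G_d t (G_b t (G_c t (G_d t (G_i t (G_h t (G_d t (G_f t (G_e t (G_d t (G_b t (G_c t (G_d t (G_i t (G_h t (G_d t (G_f t (G_e t (G_d t (G_b t (G_c t (G_d t (G_i t (G_h t (G_d t (G_f t (G_e t (G_d t (G_b t (G_c t (G_d t (G_i t (G_h t (G_d t (G_f t (G_e t (G_d t (G_b t (G_c t (G_d t (G_i t (G_h t (G_d t (G_f t (G_e t (G_d t (G_b t (G_c t (F_d q)))))))))))))))))))))))))))))))))))))))))))))))))))))))))))))))))))))))))))))))))))))))))) q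
noncomputable def a_54 : CfsgLib.TC.AG Col := .word .d 55 0 false [Col.c, Col.b, Col.d, Col.e, Col.f, Col.d, Col.h, Col.i, Col.d, Col.c, Col.b, Col.d, Col.e, Col.f, Col.d, Col.h, Col.i, Col.d, Col.c, Col.b, Col.d, Col.e, Col.f, Col.d, Col.h, Col.i, Col.d, Col.c, Col.b, Col.d, Col.e, Col.f, Col.d, Col.h, Col.i, Col.d, Col.c, Col.b, Col.d, Col.e, Col.f, Col.d, Col.h, Col.i, Col.d, Col.c, Col.b, Col.d, Col.e, Col.f, Col.d, Col.h, Col.i, Col.d, Col.c, Col.b, Col.d, Col.e, Col.f, Col.d, Col.h, Col.i, Col.d, Col.c, Col.b, Col.d, Col.e, Col.f, Col.d, Col.h, Col.i, Col.d, Col.c, Col.b, Col.d, Col.e, Col.f, Col.d, Col.h, Col.i, Col.d, Col.c, Col.b, Col.d, Col.e, Col.f, Col.d, Col.h, Col.i]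
noncomputable def D_d (q : ℕ) : Bool := (Bool.rec (motive := fun _ => Bool) (Bool.rec (motive := fun _ => Bool) (E_41 (Nat.mod (Bool.rec (motive := fun _ => ℕ) (Bool.rec (motive := fun _ => ℕ) (Bool.rec (motive := fun _ => ℕ) U_d_0 U_d_1 (Nat.ble (nat_lit 578687) q)) (Bool.rec (motive := fun _ => ℕ) U_d_2 U_d_3 (Nat.ble (nat_lit 688217) q)) (Nat.ble (nat_lit 633263) q)) (Bool.rec (motive := fun _ => ℕ) (Bool.rec (motive := fun _ => ℕ) U_d_4 U_d_5 (Nat.ble (nat_lit 798799) q)) (Bool.rec (motive := fun _ => ℕ) U_d_6 U_d_7 (Nat.ble (nat_lit 910583) q)) (Nat.ble (nat_lit 854921) q)) (Nat.ble (nat_lit 743363) q)) q) q) (E_42 (Nat.mod (Bool.rec (motive := fun _ => ℕ) (Bool.rec (motive := fun _ => ℕ) (Bool.rec (motive := fun _ => ℕ) U_d_0 U_d_1 (Nat.ble (nat_lit 578687) q)) (Bool.rec (motive := fun _ => ℕ) U_d_2 U_d_3 (Nat.ble (nat_lit 688217) q)) (Nat.ble (nat_lit 633263) q)) (Bool.rec (motive := fun _ => ℕ) (Bool.rec (motive := fun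 _ => ℕ) U_d_4 U_d_5 (Nat.ble (nat_lit 798799) q)) (Bool.rec (motive := fun _ => ℕ) U_d_6 U_d_7 (Nat.ble (nat_lit 910583) q)) (Nat.ble (nat_lit 854921) q)) (Nat.ble (nat_lit 743363) q)) q) q) (Nat.ble (nat_lit 1) (Nat.mod (Bool.rec (motive := fun _ => ℕ) (Bool.rec (motive := fun _ => ℕ) (Bool.rec (motive := fun _ => ℕ) V_d_0 V_d_1 (Nat.ble (nat_lit 578687) q)) (Bool.rec (motive := fun _ => ℕ) V_d_2 V_d_3 (Nat.ble (nat_lit 688217) q)) (Nat.ble (nat_lit 633263) q)) (Bool.rec (motive := fun _ => ℕ) (Bool.rec (motive := fun _ => ℕ) V_d_4 V_d_5 (Nat.ble (nat_lit 798799) q)) (Bool.rec (motive := fun _ => ℕ) V_d_6 V_d_7 (Nat.ble (nat_lit 910583) q)) (Nat.ble (nat_lit 854921) q)) (Nat.ble (nat_lit 743363) q)) q))) (Bool.rec (motive := fun _ => Bool) (Bool.rec (motive := fun _ => Bool) (Bool.rec (motive := fun _ => Bool) (E_43 (Nat.mod (Bool.rec (motive := fun _ => ℕ) (Bool.rec (motive := fun _ => ℕ) (Bool.rec (motive := fun _ => ℕ) U_d_0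 U_d_1 (Nat.ble (nat_lit 578687) q)) (Bool.rec (motive := fun _ => ℕ) U_d_2 U_d_3 (Nat.ble (nat_lit 688217) q)) (Nat.ble (nat_lit 633263) q)) (Bool.rec (motive := fun _ => ℕ) (Bool.rec (motive := fun _ => ℕ) U_d_4 U_d_5 (Nat.ble (nat_lit 798799) q)) (Bool.rec (motive := fun _ => ℕ) U_d_6 U_d_7 (Nat.ble (nat_lit 910583) q)) (Nat.ble (nat_lit 854921) q)) (Nat.ble (nat_lit 743363) q)) q) q) (Bool.rec (motive := fun _ => Bool) (E_44 (Nat.mod (Bool.rec (motive := fun _ => ℕ) (Bool.rec (motive := fun _ => ℕ) (Bool.rec (motive := fun _ => ℕ) U_d_0 U_d_1 (Nat.ble (nat_lit 578687) q)) (Bool.rec (motive := fun _ => ℕ) U_d_2 U_d_3 (Nat.ble (nat_lit 688217) q)) (Nat.ble (nat_lit 633263) q)) (Bool.rec (motive := fun _ => ℕ) (Bool.rec (motive := fun _ => ℕ) U_d_4 U_d_5 (Nat.ble (nat_lit 798799) q)) (Bool.rec (motive := fun _ => ℕ) U_d_6 U_d_7 (Nat.ble (nat_lit 910583) q)) (Nat.ble (nat_lit 854921) q)) (Nat.ble (nat_lit 743363) q)) q) q) (E_45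 (Nat.mod (Bool.rec (motive := fun _ => ℕ) (Bool.rec (motive := fun _ => ℕ) (Bool.rec (motive := fun _ => ℕ) U_d_0 U_d_1 (Nat.ble (nat_lit 578687) q)) (Bool.rec (motive := fun _ => ℕ) U_d_2 U_d_3 (Nat.ble (nat_lit 688217) q)) (Nat.ble (nat_lit 633263) q)) (Bool.rec (motive := fun _ => ℕ) (Bool.rec (motive := fun _ => ℕ) U_d_4 U_d_5 (Nat.ble (nat_lit 798799) q)) (Bool.rec (motive := fun _ => ℕ) U_d_6 U_d_7 (Nat.ble (nat_lit 910583) q)) (Nat.ble (nat_lit 854921) q)) (Nat.ble (nat_lit 743363) q)) q) q) (Nat.ble (nat_lit 4) (Nat.mod (Bool.rec (motive := fun _ => ℕ) (Bool.rec (motive := fun _ => ℕ) (Bool.rec (motive := fun _ => ℕ) V_d_0 V_d_1 (Nat.ble (nat_lit 578687) q)) (Bool.rec (motive := fun _ => ℕ) V_d_2 V_d_3 (Nat.ble (nat_lit 688217) q)) (Nat.ble (nat_lit 633263) q)) (Bool.rec (motive := fun _ => ℕ) (Bool.rec (motive := fun _ => ℕ) V_d_4 V_d_5 (Nat.ble (nat_lit 798799) q)) (Bool.rec (motive := fun _ => ℕ) V_d_6 V_d_7 (Nat.ble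 (nat_lit 910583) q)) (Nat.ble (nat_lit 854921) q)) (Nat.ble (nat_lit 743363) q)) q))) (Nat.ble (nat_lit 3) (Nat.mod (Bool.rec (motive := fun _ => ℕ) (Bool.rec (motive := fun _ => ℕ) (Bool.rec (motive := fun _ => ℕ) V_d_0 V_d_1 (Nat.ble (nat_lit 578687) q)) (Bool.rec (motive := fun _ => ℕ) V_d_2 V_d_3 (Nat.ble (nat_lit 688217) q)) (Nat.ble (nat_lit 633263) q)) (Bool.rec (motive := fun _ => ℕ) (Bool.rec (motive := fun _ => ℕ) V_d_4 V_d_5 (Nat.ble (nat_lit 798799) q)) (Bool.rec (motive := fun _ => ℕ) V_d_6 V_d_7 (Nat.ble (nat_lit 910583) q)) (Nat.ble (nat_lit 854921) q)) (Nat.ble (nat_lit 743363) q)) q))) (Bool.rec (motive := fun _ => Bool) (E_46 (Nat.mod (Bool.rec (motive := fun _ => ℕ) (Bool.rec (motive := fun _ => ℕ) (Bool.rec (motive := fun _ => ℕ) U_d_0 U_d_1 (Nat.ble (nat_lit 578687) q)) (Bool.rec (motive := fun _ => ℕ) U_d_2 U_d_3 (Nat.ble (nat_lit 688217) q)) (Nat.ble (nat_lit 633263) q)) (Bool.rec (motive := fun _ => ℕ) (Bool.rec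 (motive := fun _ => ℕ) U_d_4 U_d_5 (Nat.ble (nat_lit 798799) q)) (Bool.rec (motive := fun _ => ℕ) U_d_6 U_d_7 (Nat.ble (nat_lit 910583) q)) (Nat.ble (nat_lit 854921) q)) (Nat.ble (nat_lit 743363) q)) q) q) (Bool.rec (motive := fun _ => Bool) (E_47 (Nat.mod (Bool.rec (motive := fun _ => ℕ) (Bool.rec (motive := fun _ => ℕ) (Bool.rec (motive := fun _ => ℕ) U_d_0 U_d_1 (Nat.ble (nat_lit 578687) q)) (Bool.rec (motive := fun _ => ℕ) U_d_2 U_d_3 (Nat.ble (nat_lit 688217) q)) (Nat.ble (nat_lit 633263) q)) (Bool.rec (motive := fun _ => ℕ) (Bool.rec (motive := fun _ => ℕ) U_d_4 U_d_5 (Nat.ble (nat_lit 798799) q)) (Bool.rec (motive := fun _ => ℕ) U_d_6 U_d_7 (Nat.ble (nat_lit 910583) q)) (Nat.ble (nat_lit 854921) q)) (Nat.ble (nat_lit 743363) q)) q) q) (E_48 (Nat.mod (Bool.rec (motive := fun _ => ℕ) (Bool.rec (motive := fun _ => ℕ) (Bool.rec (motive := fun _ => ℕ) U_d_0 U_d_1 (Nat.ble (nat_lit 578687) q)) (Bool.rec (motive := fun _ => ℕ)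 U_d_2 U_d_3 (Nat.ble (nat_lit 688217) q)) (Nat.ble (nat_lit 633263) q)) (Bool.rec (motive := fun _ => ℕ) (Bool.rec (motive := fun _ => ℕ) U_d_4 U_d_5 (Nat.ble (nat_lit 798799) q)) (Bool.rec (motive := fun _ => ℕ) U_d_6 U_d_7 (Nat.ble (nat_lit 910583) q)) (Nat.ble (nat_lit 854921) q)) (Nat.ble (nat_lit 743363) q)) q) q) (Nat.ble (nat_lit 7) (Nat.mod (Bool.rec (motive := fun _ => ℕ) (Bool.rec (motive := fun _ => ℕ) (Bool.rec (motive := fun _ => ℕ) V_d_0 V_d_1 (Nat.ble (nat_lit 578687) q)) (Bool.rec (motive := fun _ => ℕ) V_d_2 V_d_3 (Nat.ble (nat_lit 688217) q)) (Nat.ble (nat_lit 633263) q)) (Bool.rec (motive := fun _ => ℕ) (Bool.rec (motive := fun _ => ℕ) V_d_4 V_d_5 (Nat.ble (nat_lit 798799) q)) (Bool.rec (motive := fun _ => ℕ) V_d_6 V_d_7 (Nat.ble (nat_lit 910583) q)) (Nat.ble (nat_lit 854921) q)) (Nat.ble (nat_lit 743363) q)) q))) (Nat.ble (nat_lit 6) (Nat.mod (Bool.rec (motive := fun _ => ℕ) (Bool.rec (motive := fun _ => ℕ)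 (Bool.rec (motive := fun _ => ℕ) V_d_0 V_d_1 (Nat.ble (nat_lit 578687) q)) (Bool.rec (motive := fun _ => ℕ) V_d_2 V_d_3 (Nat.ble (nat_lit 688217) q)) (Nat.ble (nat_lit 633263) q)) (Bool.rec (motive := fun _ => ℕ) (Bool.rec (motive := fun _ => ℕ) V_d_4 V_d_5 (Nat.ble (nat_lit 798799) q)) (Bool.rec (motive := fun _ => ℕ) V_d_6 V_d_7 (Nat.ble (nat_lit 910583) q)) (Nat.ble (nat_lit 854921) q)) (Nat.ble (nat_lit 743363) q)) q))) (Nat.ble (nat_lit 5) (Nat.mod (Bool.rec (motive := fun _ => ℕ) (Bool.rec (motive := fun _ => ℕ) (Bool.rec (motive := fun _ => ℕ) V_d_0 V_d_1 (Nat.ble (nat_lit 578687) q)) (Bool.rec (motive := fun _ => ℕ) V_d_2 V_d_3 (Nat.ble (nat_lit 688217) q)) (Nat.ble (nat_lit 633263) q)) (Bool.rec (motive := fun _ => ℕ) (Bool.rec (motive := fun _ => ℕ) V_d_4 V_d_5 (Nat.ble (nat_lit 798799) q)) (Bool.rec (motive := fun _ => ℕ) V_d_6 V_d_7 (Nat.ble (nat_lit 910583) q)) (Nat.ble (nat_lit 854921) q)) (Nat.ble (nat_lit 743363)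 q)) q))) (Bool.rec (motive := fun _ => Bool) (Bool.rec (motive := fun _ => Bool) (E_49 (Nat.mod (Bool.rec (motive := fun _ => ℕ) (Bool.rec (motive := fun _ => ℕ) (Bool.rec (motive := fun _ => ℕ) U_d_0 U_d_1 (Nat.ble (nat_lit 578687) q)) (Bool.rec (motive := fun _ => ℕ) U_d_2 U_d_3 (Nat.ble (nat_lit 688217) q)) (Nat.ble (nat_lit 633263) q)) (Bool.rec (motive := fun _ => ℕ) (Bool.rec (motive := fun _ => ℕ) U_d_4 U_d_5 (Nat.ble (nat_lit 798799) q)) (Bool.rec (motive := fun _ => ℕ) U_d_6 U_d_7 (Nat.ble (nat_lit 910583) q)) (Nat.ble (nat_lit 854921) q)) (Nat.ble (nat_lit 743363) q)) q) q) (Bool.rec (motive := fun _ => Bool) (E_50 (Nat.mod (Bool.rec (motive := fun _ => ℕ) (Bool.rec (motive := fun _ => ℕ) (Bool.rec (motive := fun _ => ℕ) U_d_0 U_d_1 (Nat.ble (nat_lit 578687) q)) (Bool.rec (motive := fun _ => ℕ) U_d_2 U_d_3 (Nat.ble (nat_lit 688217) q)) (Nat.ble (nat_lit 633263) q)) (Bool.rec (motive := fun _ => ℕ) (Bool.rec (motive :=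 fun _ => ℕ) U_d_4 U_d_5 (Nat.ble (nat_lit 798799) q)) (Bool.rec (motive := fun _ => ℕ) U_d_6 U_d_7 (Nat.ble (nat_lit 910583) q)) (Nat.ble (nat_lit 854921) q)) (Nat.ble (nat_lit 743363) q)) q) q) (E_51 (Nat.mod (Bool.rec (motive := fun _ => ℕ) (Bool.rec (motive := fun _ => ℕ) (Bool.rec (motive := fun _ => ℕ) U_d_0 U_d_1 (Nat.ble (nat_lit 578687) q)) (Bool.rec (motive := fun _ => ℕ) U_d_2 U_d_3 (Nat.ble (nat_lit 688217) q)) (Nat.ble (nat_lit 633263) q)) (Bool.rec (motive := fun _ => ℕ) (Bool.rec (motive := fun _ => ℕ) U_d_4 U_d_5 (Nat.ble (nat_lit 798799) q)) (Bool.rec (motive := fun _ => ℕ) U_d_6 U_d_7 (Nat.ble (nat_lit 910583) q)) (Nat.ble (nat_lit 854921) q)) (Nat.ble (nat_lit 743363) q)) q) q) (Nat.ble (nat_lit 10) (Nat.mod (Bool.rec (motive := fun _ => ℕ) (Bool.rec (motive := fun _ => ℕ) (Bool.rec (motive := fun _ => ℕ) V_d_0 V_d_1 (Nat.ble (nat_lit 578687) q)) (Bool.rec (motive := fun _ => ℕ) V_d_2 V_d_3 (Nat.ble (nat_lit 688217)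 q)) (Nat.ble (nat_lit 633263) q)) (Bool.rec (motive := fun _ => ℕ) (Bool.rec (motive := fun _ => ℕ) V_d_4 V_d_5 (Nat.ble (nat_lit 798799) q)) (Bool.rec (motive := fun _ => ℕ) V_d_6 V_d_7 (Nat.ble (nat_lit 910583) q)) (Nat.ble (nat_lit 854921) q)) (Nat.ble (nat_lit 743363) q)) q))) (Nat.ble (nat_lit 9) (Nat.mod (Bool.rec (motive := fun _ => ℕ) (Bool.rec (motive := fun _ => ℕ) (Bool.rec (motive := fun _ => ℕ) V_d_0 V_d_1 (Nat.ble (nat_lit 578687) q)) (Bool.rec (motive := fun _ => ℕ) V_d_2 V_d_3 (Nat.ble (nat_lit 688217) q)) (Nat.ble (nat_lit 633263) q)) (Bool.rec (motive := fun _ => ℕ) (Bool.rec (motive := fun _ => ℕ) V_d_4 V_d_5 (Nat.ble (nat_lit 798799) q)) (Bool.rec (motive := fun _ => ℕ) V_d_6 V_d_7 (Nat.ble (nat_lit 910583) q)) (Nat.ble (nat_lit 854921) q)) (Nat.ble (nat_lit 743363) q)) q))) (Bool.rec (motive := fun _ => Bool) (E_52 (Nat.mod (Bool.rec (motive := fun _ => ℕ) (Bool.rec (motive := fun _ => ℕ) (Bool.rec (motive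 := fun _ => ℕ) U_d_0 U_d_1 (Nat.ble (nat_lit 578687) q)) (Bool.rec (motive := fun _ => ℕ) U_d_2 U_d_3 (Nat.ble (nat_lit 688217) q)) (Nat.ble (nat_lit 633263) q)) (Bool.rec (motive := fun _ => ℕ) (Bool.rec (motive := fun _ => ℕ) U_d_4 U_d_5 (Nat.ble (nat_lit 798799) q)) (Bool.rec (motive := fun _ => ℕ) U_d_6 U_d_7 (Nat.ble (nat_lit 910583) q)) (Nat.ble (nat_lit 854921) q)) (Nat.ble (nat_lit 743363) q)) q) q) (Bool.rec (motive := fun _ => Bool) (E_53 (Nat.mod (Bool.rec (motive := fun _ => ℕ) (Bool.rec (motive := fun _ => ℕ) (Bool.rec (motive := fun _ => ℕ) U_d_0 U_d_1 (Nat.ble (nat_lit 578687) q)) (Bool.rec (motive := fun _ => ℕ) U_d_2 U_d_3 (Nat.ble (nat_lit 688217) q)) (Nat.ble (nat_lit 633263) q)) (Bool.rec (motive := fun _ => ℕ) (Bool.rec (motive := fun _ => ℕ) U_d_4 U_d_5 (Nat.ble (nat_lit 798799) q)) (Bool.rec (motive := fun _ => ℕ) U_d_6 U_d_7 (Nat.ble (nat_lit 910583) q)) (Nat.ble (nat_lit 854921) q)) (Nat.ble (nat_lit 743363)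 q)) q) q) (E_54 (Nat.mod (Bool.rec (motive := fun _ => ℕ) (Bool.rec (motive := fun _ => ℕ) (Bool.rec (motive := fun _ => ℕ) U_d_0 U_d_1 (Nat.ble (nat_lit 578687) q)) (Bool.rec (motive := fun _ => ℕ) U_d_2 U_d_3 (Nat.ble (nat_lit 688217) q)) (Nat.ble (nat_lit 633263) q)) (Bool.rec (motive := fun _ => ℕ) (Bool.rec (motive := fun _ => ℕ) U_d_4 U_d_5 (Nat.ble (nat_lit 798799) q)) (Bool.rec (motive := fun _ => ℕ) U_d_6 U_d_7 (Nat.ble (nat_lit 910583) q)) (Nat.ble (nat_lit 854921) q)) (Nat.ble (nat_lit 743363) q)) q) q) (Nat.ble (nat_lit 13) (Nat.mod (Bool.rec (motive := fun _ => ℕ) (Bool.rec (motive := fun _ => ℕ) (Bool.rec (motive := fun _ => ℕ) V_d_0 V_d_1 (Nat.ble (nat_lit 578687) q)) (Bool.rec (motive := fun _ => ℕ) V_d_2 V_d_3 (Nat.ble (nat_lit 688217) q)) (Nat.ble (nat_lit 633263) q)) (Bool.rec (motive := fun _ => ℕ) (Bool.rec (motive := fun _ => ℕ) V_d_4 V_d_5 (Nat.ble (nat_lit 798799) q)) (Bool.rec (motive := fun _ => ℕ) V_d_6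 V_d_7 (Nat.ble (nat_lit 910583) q)) (Nat.ble (nat_lit 854921) q)) (Nat.ble (nat_lit 743363) q)) q))) (Nat.ble (nat_lit 12) (Nat.mod (Bool.rec (motive := fun _ => ℕ) (Bool.rec (motive := fun _ => ℕ) (Bool.rec (motive := fun _ => ℕ) V_d_0 V_d_1 (Nat.ble (nat_lit 578687) q)) (Bool.rec (motive := fun _ => ℕ) V_d_2 V_d_3 (Nat.ble (nat_lit 688217) q)) (Nat.ble (nat_lit 633263) q)) (Bool.rec (motive := fun _ => ℕ) (Bool.rec (motive := fun _ => ℕ) V_d_4 V_d_5 (Nat.ble (nat_lit 798799) q)) (Bool.rec (motive := fun _ => ℕ) V_d_6 V_d_7 (Nat.ble (nat_lit 910583) q)) (Nat.ble (nat_lit 854921) q)) (Nat.ble (nat_lit 743363) q)) q))) (Nat.ble (nat_lit 11) (Nat.mod (Bool.rec (motive := fun _ => ℕ) (Bool.rec (motive := fun _ => ℕ) (Bool.rec (motive := fun _ => ℕ) V_d_0 V_d_1 (Nat.ble (nat_lit 578687) q)) (Bool.rec (motive := fun _ => ℕ) V_d_2 V_d_3 (Nat.ble (nat_lit 688217) q)) (Nat.ble (nat_lit 633263) q)) (Bool.rec (motive := fun _ => ℕ) (Bool.rec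 (motive := fun _ => ℕ) V_d_4 V_d_5 (Nat.ble (nat_lit 798799) q)) (Bool.rec (motive := fun _ => ℕ) V_d_6 V_d_7 (Nat.ble (nat_lit 910583) q)) (Nat.ble (nat_lit 854921) q)) (Nat.ble (nat_lit 743363) q)) q))) (Nat.ble (nat_lit 8) (Nat.mod (Bool.rec (motive := fun _ => ℕ) (Bool.rec (motive := fun _ => ℕ) (Bool.rec (motive := fun _ => ℕ) V_d_0 V_d_1 (Nat.ble (nat_lit 578687) q)) (Bool.rec (motive := fun _ => ℕ) V_d_2 V_d_3 (Nat.ble (nat_lit 688217) q)) (Nat.ble (nat_lit 633263) q)) (Bool.rec (motive := fun _ => ℕ) (Bool.rec (motive := fun _ => ℕ) V_d_4 V_d_5 (Nat.ble (nat_lit 798799) q)) (Bool.rec (motive := fun _ => ℕ) V_d_6 V_d_7 (Nat.ble (nat_lit 910583) q)) (Nat.ble (nat_lit 854921) q)) (Nat.ble (nat_lit 743363) q)) q))) (Nat.ble (nat_lit 2) (Nat.mod (Bool.rec (motive := fun _ => ℕ) (Bool.rec (motive := fun _ => ℕ) (Bool.rec (motive := fun _ => ℕ) V_d_0 V_d_1 (Nat.ble (nat_lit 578687) q)) (Bool.rec (motive := fun _ => ℕ) V_d_2 V_d_3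 (Nat.ble (nat_lit 688217) q)) (Nat.ble (nat_lit 633263) q)) (Bool.rec (motive := fun _ => ℕ) (Bool.rec (motive := fun _ => ℕ) V_d_4 V_d_5 (Nat.ble (nat_lit 798799) q)) (Bool.rec (motive := fun _ => ℕ) V_d_6 V_d_7 (Nat.ble (nat_lit 910583) q)) (Nat.ble (nat_lit 854921) q)) (Nat.ble (nat_lit 743363) q)) q)))
noncomputable def E_55 (t q : ℕ) : Bool := Nat.beq (G_e t (F_e q)) q
noncomputable def a_55 : CfsgLib.TC.AG Col := .word .e 34 0 true [Col.e]
noncomputable def E_56 (t q : ℕ) : Bool := Nat.beq (G_a t (G_e t (G_a t (F_e q)))) q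
noncomputable def a_56 : CfsgLib.TC.AG Col := .word .e 4 0 true [Col.a, Col.e, Col.a]
noncomputable def E_57 (t q : ℕ) : Bool := band (Nat.beq (PT (F_e q)) q) (band (Nat.beq (DT (F_e q)) 4) (band (Nat.ble (Nat.succ q) (F_e q)) (Nat.ble (Nat.succ q0) (F_e q))))
noncomputable def a_57 : CfsgLib.TC.AG Col := .tree .e
noncomputable def E_58 (t q : ℕ) : Bool := Nat.beq (G_b t (G_e t (G_b t (F_e q)))) q
noncomputable def a_58 : CfsgLib.TC.AG Col := .word .e 13 0 true [Col.b, Col.e, Col.b]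
noncomputable def E_59 (t q : ℕ) : Bool := Nat.beq (G_c t (G_e t (G_c t (F_e q)))) q
noncomputable def a_59 : CfsgLib.TC.AG Col := .word .e 21 0 true [Col.c, Col.e, Col.c]
noncomputable def E_60 (t q : ℕ) : Bool := Nat.beq (G_h t (G_e t (G_h t (F_e q)))) q
noncomputable def a_60 : CfsgLib.TC.AG Col := .word .e 38 1 true [Col.h, Col.e, Col.h]
noncomputable def E_61 (t q : ℕ) : Bool := Nat.beq (G_i t (G_e t (G_i t (F_e q)))) q
noncomputable def a_61 : CfsgLib.TC.AG Col := .word .e 39 1 true [Col.i, Col.e, Col.i]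
noncomputable def E_62 (t q : ℕ) : Bool := Nat.beq (G_g t (G_e t (G_g t (F_e q)))) q
noncomputable def a_62 : CfsgLib.TC.AG Col := .word .e 36 1 true [Col.g, Col.e, Col.g]
noncomputable def E_63 (t q : ℕ) : Bool := Nat.beq (G_j t (G_e t (G_j t (F_e q)))) q
noncomputable def a_63 : CfsgLib.TC.AG Col := .word .e 37 1 true [Col.j, Col.e, Col.j]
noncomputable def E_64 (t q : ℕ) : Bool := Nat.beq (G_d t (G_e t (G_d t (G_e t (G_d t (F_e q)))))) q
noncomputable def a_64 : CfsgLib.TC.AG Col := .word .e 28 0 true [Col.d, Col.e, Col.d, Col.e, Col.d]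
noncomputable def E_65 (t q : ℕ) : Bool := Nat.beq (G_f t (G_e t (G_f t (G_e t (G_f t (F_e q)))))) q
noncomputable def a_65 : CfsgLib.TC.AG Col := .word .e 35 1 true [Col.f, Col.e, Col.f, Col.e, Col.f]
noncomputable def E_66 (t q : ℕ) : Bool := Nat.beq (G_f t (G_h t (G_a t (G_b t (G_c t (G_d t (G_e t (G_f t (G_h t (G_a t (G_b t (G_c t (G_d t (G_e t (G_f t (G_h t (G_a t (G_b t (G_c t (G_d t (G_e t (G_f t (G_h t (G_a t (G_b t (G_c t (G_d t (G_e t (G_f t (G_h t (G_a t (G_b t (G_c t (G_d t (G_e t (G_f t (G_h t (G_a t (G_b t (G_c t (G_d t (G_e t (G_f t (G_h t (G_a t (G_b t (G_c t (G_d t (G_e t (G_f t (G_h t (G_a t (G_b t (G_c t (G_d t (G_e t (G_f t (G_h t (G_a t (G_b t (G_c t (G_d t (F_e q))))))))))))))))))))))))))))))))))))))))))))))))))))))))))))))) q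
noncomputable def a_66 : CfsgLib.TC.AG Col := .word .e 56 2 true [Col.d, Col.c, Col.b, Col.a, Col.h, Col.f, Col.e, Col.d, Col.c, Col.b, Col.a, Col.h, Col.f, Col.e, Col.d, Col.c, Col.b, Col.a, Col.h, Col.f, Col.e, Col.d, Col.c, Col.b, Col.a, Col.h, Col.f, Col.e, Col.d, Col.c, Col.b, Col.a, Col.h, Col.f, Col.e, Col.d, Col.c, Col.b, Col.a, Col.h, Col.f, Col.e, Col.d, Col.c, Col.b, Col.a, Col.h, Col.f, Col.e, Col.d, Col.c, Col.b, Col.a, Col.h, Col.f, Col.e, Col.d, Col.c, Col.b, Col.a, Col.h, Col.f]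
noncomputable def E_67 (t q : ℕ) : Bool := band (Nat.beq q0 q) (Nat.beq (F_e q) q0)
noncomputable def a_67 : CfsgLib.TC.AG Col := .base .e 4 [] []
noncomputable def D_e (q : ℕ) : Bool := (Bool.rec (motive := fun _ => Bool) (Bool.rec (motive := fun _ => Bool) (E_55 (Nat.mod (Bool.rec (motive := fun _ => ℕ) (Bool.rec (motive := fun _ => ℕ) (Bool.rec (motive := fun _ => ℕ) U_e_0 U_e_1 (Nat.ble (nat_lit 578687) q)) (Bool.rec (motive := fun _ => ℕ) U_e_2 U_e_3 (Nat.ble (nat_lit 688217) q)) (Nat.ble (nat_lit 633263) q)) (Bool.rec (motive := fun _ => ℕ) (Bool.rec (motive := fun _ => ℕ) U_e_4 U_e_5 (Nat.ble (nat_lit 798799) q)) (Bool.rec (motive := fun _ => ℕ) U_e_6 U_e_7 (Nat.ble (nat_lit 910583) q)) (Nat.ble (nat_lit 854921) q)) (Nat.ble (nat_lit 743363) q)) q) q) (E_56 (Nat.mod (Bool.rec (motive := fun _ => ℕ) (Bool.rec (motive := fun _ => ℕ) (Bool.rec (motive := fun _ => ℕ) U_e_0 U_e_1 (Nat.ble (nat_lit 578687) q)) (Bool.rec (motive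 := fun _ => ℕ) U_e_2 U_e_3 (Nat.ble (nat_lit 688217) q)) (Nat.ble (nat_lit 633263) q)) (Bool.rec (motive := fun _ => ℕ) (Bool.rec (motive := fun _ => ℕ) U_e_4 U_e_5 (Nat.ble (nat_lit 798799) q)) (Bool.rec (motive := fun _ => ℕ) U_e_6 U_e_7 (Nat.ble (nat_lit 910583) q)) (Nat.ble (nat_lit 854921) q)) (Nat.ble (nat_lit 743363) q)) q) q) (Nat.ble (nat_lit 1) (Nat.mod (Bool.rec (motive := fun _ => ℕ) (Bool.rec (motive := fun _ => ℕ) (Bool.rec (motive := fun _ => ℕ) V_e_0 V_e_1 (Nat.ble (nat_lit 578687) q)) (Bool.rec (motive := fun _ => ℕ) V_e_2 V_e_3 (Nat.ble (nat_lit 688217) q)) (Nat.ble (nat_lit 633263) q)) (Bool.rec (motive := fun _ => ℕ) (Bool.rec (motive := fun _ => ℕ) V_e_4 V_e_5 (Nat.ble (nat_lit 798799) q)) (Bool.rec (motive := fun _ => ℕ) V_e_6 V_e_7 (Nat.ble (nat_lit 910583) q)) (Nat.ble (nat_lit 854921) q)) (Nat.ble (nat_lit 743363) q)) q))) (Bool.rec (motive := fun _ => Bool) (Bool.rec (motive := fun _ => Bool) (Bool.rec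 (motive := fun _ => Bool) (E_57 (Nat.mod (Bool.rec (motive := fun _ => ℕ) (Bool.rec (motive := fun _ => ℕ) (Bool.rec (motive := fun _ => ℕ) U_e_0 U_e_1 (Nat.ble (nat_lit 578687) q)) (Bool.rec (motive := fun _ => ℕ) U_e_2 U_e_3 (Nat.ble (nat_lit 688217) q)) (Nat.ble (nat_lit 633263) q)) (Bool.rec (motive := fun _ => ℕ) (Bool.rec (motive := fun _ => ℕ) U_e_4 U_e_5 (Nat.ble (nat_lit 798799) q)) (Bool.rec (motive := fun _ => ℕ) U_e_6 U_e_7 (Nat.ble (nat_lit 910583) q)) (Nat.ble (nat_lit 854921) q)) (Nat.ble (nat_lit 743363) q)) q) q) (E_58 (Nat.mod (Bool.rec (motive := fun _ => ℕ) (Bool.rec (motive := fun _ => ℕ) (Bool.rec (motive := fun _ => ℕ) U_e_0 U_e_1 (Nat.ble (nat_lit 578687) q)) (Bool.rec (motive := fun _ => ℕ) U_e_2 U_e_3 (Nat.ble (nat_lit 688217) q)) (Nat.ble (nat_lit 633263) q)) (Bool.rec (motive := fun _ => ℕ) (Bool.rec (motive := fun _ => ℕ) U_e_4 U_e_5 (Nat.ble (nat_lit 798799) q)) (Bool.rec (motive := fun _ => ℕ) U_e_6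 U_e_7 (Nat.ble (nat_lit 910583) q)) (Nat.ble (nat_lit 854921) q)) (Nat.ble (nat_lit 743363) q)) q) q) (Nat.ble (nat_lit 3) (Nat.mod (Bool.rec (motive := fun _ => ℕ) (Bool.rec (motive := fun _ => ℕ) (Bool.rec (motive := fun _ => ℕ) V_e_0 V_e_1 (Nat.ble (nat_lit 578687) q)) (Bool.rec (motive := fun _ => ℕ) V_e_2 V_e_3 (Nat.ble (nat_lit 688217) q)) (Nat.ble (nat_lit 633263) q)) (Bool.rec (motive := fun _ => ℕ) (Bool.rec (motive := fun _ => ℕ) V_e_4 V_e_5 (Nat.ble (nat_lit 798799) q)) (Bool.rec (motive := fun _ => ℕ) V_e_6 V_e_7 (Nat.ble (nat_lit 910583) q)) (Nat.ble (nat_lit 854921) q)) (Nat.ble (nat_lit 743363) q)) q))) (Bool.rec (motive := fun _ => Bool) (E_59 (Nat.mod (Bool.rec (motive := fun _ => ℕ) (Bool.rec (motive := fun _ => ℕ) (Bool.rec (motive := fun _ => ℕ) U_e_0 U_e_1 (Nat.ble (nat_lit 578687) q)) (Bool.rec (motive := fun _ => ℕ) U_e_2 U_e_3 (Nat.ble (nat_lit 688217) q)) (Nat.ble (nat_lit 633263) q)) (Bool.rec (motive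 := fun _ => ℕ) (Bool.rec (motive := fun _ => ℕ) U_e_4 U_e_5 (Nat.ble (nat_lit 798799) q)) (Bool.rec (motive := fun _ => ℕ) U_e_6 U_e_7 (Nat.ble (nat_lit 910583) q)) (Nat.ble (nat_lit 854921) q)) (Nat.ble (nat_lit 743363) q)) q) q) (Bool.rec (motive := fun _ => Bool) (E_60 (Nat.mod (Bool.rec (motive := fun _ => ℕ) (Bool.rec (motive := fun _ => ℕ) (Bool.rec (motive := fun _ => ℕ) U_e_0 U_e_1 (Nat.ble (nat_lit 578687) q)) (Bool.rec (motive := fun _ => ℕ) U_e_2 U_e_3 (Nat.ble (nat_lit 688217) q)) (Nat.ble (nat_lit 633263) q)) (Bool.rec (motive := fun _ => ℕ) (Bool.rec (motive := fun _ => ℕ) U_e_4 U_e_5 (Nat.ble (nat_lit 798799) q)) (Bool.rec (motive := fun _ => ℕ) U_e_6 U_e_7 (Nat.ble (nat_lit 910583) q)) (Nat.ble (nat_lit 854921) q)) (Nat.ble (nat_lit 743363) q)) q) q) (E_61 (Nat.mod (Bool.rec (motive := fun _ => ℕ) (Bool.rec (motive := fun _ => ℕ) (Bool.rec (motive := fun _ => ℕ) U_e_0 U_e_1 (Nat.ble (nat_lit 578687) q)) (Bool.rec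 (motive := fun _ => ℕ) U_e_2 U_e_3 (Nat.ble (nat_lit 688217) q)) (Nat.ble (nat_lit 633263) q)) (Bool.rec (motive := fun _ => ℕ) (Bool.rec (motive := fun _ => ℕ) U_e_4 U_e_5 (Nat.ble (nat_lit 798799) q)) (Bool.rec (motive := fun _ => ℕ) U_e_6 U_e_7 (Nat.ble (nat_lit 910583) q)) (Nat.ble (nat_lit 854921) q)) (Nat.ble (nat_lit 743363) q)) q) q) (Nat.ble (nat_lit 6) (Nat.mod (Bool.rec (motive := fun _ => ℕ) (Bool.rec (motive := fun _ => ℕ) (Bool.rec (motive := fun _ => ℕ) V_e_0 V_e_1 (Nat.ble (nat_lit 578687) q)) (Bool.rec (motive := fun _ => ℕ) V_e_2 V_e_3 (Nat.ble (nat_lit 688217) q)) (Nat.ble (nat_lit 633263) q)) (Bool.rec (motive := fun _ => ℕ) (Bool.rec (motive := fun _ => ℕ) V_e_4 V_e_5 (Nat.ble (nat_lit 798799) q)) (Bool.rec (motive := fun _ => ℕ) V_e_6 V_e_7 (Nat.ble (nat_lit 910583) q)) (Nat.ble (nat_lit 854921) q)) (Nat.ble (nat_lit 743363) q)) q))) (Nat.ble (nat_lit 5) (Nat.mod (Bool.rec (motive := fun _ => ℕ) (Bool.rec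 (motive := fun _ => ℕ) (Bool.rec (motive := fun _ => ℕ) V_e_0 V_e_1 (Nat.ble (nat_lit 578687) q)) (Bool.rec (motive := fun _ => ℕ) V_e_2 V_e_3 (Nat.ble (nat_lit 688217) q)) (Nat.ble (nat_lit 633263) q)) (Bool.rec (motive := fun _ => ℕ) (Bool.rec (motive := fun _ => ℕ) V_e_4 V_e_5 (Nat.ble (nat_lit 798799) q)) (Bool.rec (motive := fun _ => ℕ) V_e_6 V_e_7 (Nat.ble (nat_lit 910583) q)) (Nat.ble (nat_lit 854921) q)) (Nat.ble (nat_lit 743363) q)) q))) (Nat.ble (nat_lit 4) (Nat.mod (Bool.rec (motive := fun _ => ℕ) (Bool.rec (motive := fun _ => ℕ) (Bool.rec (motive := fun _ => ℕ) V_e_0 V_e_1 (Nat.ble (nat_lit 578687) q)) (Bool.rec (motive := fun _ => ℕ) V_e_2 V_e_3 (Nat.ble (nat_lit 688217) q)) (Nat.ble (nat_lit 633263) q)) (Bool.rec (motive := fun _ => ℕ) (Bool.rec (motive := fun _ => ℕ) V_e_4 V_e_5 (Nat.ble (nat_lit 798799) q)) (Bool.rec (motive := fun _ => ℕ) V_e_6 V_e_7 (Nat.ble (nat_lit 910583) q)) (Nat.ble (nat_lit 854921) q)) (Nat.ble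 (nat_lit 743363) q)) q))) (Bool.rec (motive := fun _ => Bool) (Bool.rec (motive := fun _ => Bool) (E_62 (Nat.mod (Bool.rec (motive := fun _ => ℕ) (Bool.rec (motive := fun _ => ℕ) (Bool.rec (motive := fun _ => ℕ) U_e_0 U_e_1 (Nat.ble (nat_lit 578687) q)) (Bool.rec (motive := fun _ => ℕ) U_e_2 U_e_3 (Nat.ble (nat_lit 688217) q)) (Nat.ble (nat_lit 633263) q)) (Bool.rec (motive := fun _ => ℕ) (Bool.rec (motive := fun _ => ℕ) U_e_4 U_e_5 (Nat.ble (nat_lit 798799) q)) (Bool.rec (motive := fun _ => ℕ) U_e_6 U_e_7 (Nat.ble (nat_lit 910583) q)) (Nat.ble (nat_lit 854921) q)) (Nat.ble (nat_lit 743363) q)) q) q) (Bool.rec (motive := fun _ => Bool) (E_63 (Nat.mod (Bool.rec (motive := fun _ => ℕ) (Bool.rec (motive := fun _ => ℕ) (Bool.rec (motive := fun _ => ℕ) U_e_0 U_e_1 (Nat.ble (nat_lit 578687) q)) (Bool.rec (motive := fun _ => ℕ) U_e_2 U_e_3 (Nat.ble (nat_lit 688217) q)) (Nat.ble (nat_lit 633263) q)) (Bool.rec (motive := fun _ => ℕ) (Bool.rec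 (motive := fun _ => ℕ) U_e_4 U_e_5 (Nat.ble (nat_lit 798799) q)) (Bool.rec (motive := fun _ => ℕ) U_e_6 U_e_7 (Nat.ble (nat_lit 910583) q)) (Nat.ble (nat_lit 854921) q)) (Nat.ble (nat_lit 743363) q)) q) q) (E_64 (Nat.mod (Bool.rec (motive := fun _ => ℕ) (Bool.rec (motive := fun _ => ℕ) (Bool.rec (motive := fun _ => ℕ) U_e_0 U_e_1 (Nat.ble (nat_lit 578687) q)) (Bool.rec (motive := fun _ => ℕ) U_e_2 U_e_3 (Nat.ble (nat_lit 688217) q)) (Nat.ble (nat_lit 633263) q)) (Bool.rec (motive := fun _ => ℕ) (Bool.rec (motive := fun _ => ℕ) U_e_4 U_e_5 (Nat.ble (nat_lit 798799) q)) (Bool.rec (motive := fun _ => ℕ) U_e_6 U_e_7 (Nat.ble (nat_lit 910583) q)) (Nat.ble (nat_lit 854921) q)) (Nat.ble (nat_lit 743363) q)) q) q) (Nat.ble (nat_lit 9) (Nat.mod (Bool.rec (motive := fun _ => ℕ) (Bool.rec (motive := fun _ => ℕ) (Bool.rec (motive := fun _ => ℕ) V_e_0 V_e_1 (Nat.ble (nat_lit 578687) q)) (Bool.rec (motive := fun _ => ℕ) V_e_2 V_e_3 (Nat.ble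 (nat_lit 688217) q)) (Nat.ble (nat_lit 633263) q)) (Bool.rec (motive := fun _ => ℕ) (Bool.rec (motive := fun _ => ℕ) V_e_4 V_e_5 (Nat.ble (nat_lit 798799) q)) (Bool.rec (motive := fun _ => ℕ) V_e_6 V_e_7 (Nat.ble (nat_lit 910583) q)) (Nat.ble (nat_lit 854921) q)) (Nat.ble (nat_lit 743363) q)) q))) (Nat.ble (nat_lit 8) (Nat.mod (Bool.rec (motive := fun _ => ℕ) (Bool.rec (motive := fun _ => ℕ) (Bool.rec (motive := fun _ => ℕ) V_e_0 V_e_1 (Nat.ble (nat_lit 578687) q)) (Bool.rec (motive := fun _ => ℕ) V_e_2 V_e_3 (Nat.ble (nat_lit 688217) q)) (Nat.ble (nat_lit 633263) q)) (Bool.rec (motive := fun _ => ℕ) (Bool.rec (motive := fun _ => ℕ) V_e_4 V_e_5 (Nat.ble (nat_lit 798799) q)) (Bool.rec (motive := fun _ => ℕ) V_e_6 V_e_7 (Nat.ble (nat_lit 910583) q)) (Nat.ble (nat_lit 854921) q)) (Nat.ble (nat_lit 743363) q)) q))) (Bool.rec (motive := fun _ => Bool) (E_65 (Nat.mod (Bool.rec (motive := fun _ => ℕ) (Bool.rec (motive := fun _ => ℕ) (Bool.rec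 (motive := fun _ => ℕ) U_e_0 U_e_1 (Nat.ble (nat_lit 578687) q)) (Bool.rec (motive := fun _ => ℕ) U_e_2 U_e_3 (Nat.ble (nat_lit 688217) q)) (Nat.ble (nat_lit 633263) q)) (Bool.rec (motive := fun _ => ℕ) (Bool.rec (motive := fun _ => ℕ) U_e_4 U_e_5 (Nat.ble (nat_lit 798799) q)) (Bool.rec (motive := fun _ => ℕ) U_e_6 U_e_7 (Nat.ble (nat_lit 910583) q)) (Nat.ble (nat_lit 854921) q)) (Nat.ble (nat_lit 743363) q)) q) q) (Bool.rec (motive := fun _ => Bool) (E_66 (Nat.mod (Bool.rec (motive := fun _ => ℕ) (Bool.rec (motive := fun _ => ℕ) (Bool.rec (motive := fun _ => ℕ) U_e_0 U_e_1 (Nat.ble (nat_lit 578687) q)) (Bool.rec (motive := fun _ => ℕ) U_e_2 U_e_3 (Nat.ble (nat_lit 688217) q)) (Nat.ble (nat_lit 633263) q)) (Bool.rec (motive := fun _ => ℕ) (Bool.rec (motive := fun _ => ℕ) U_e_4 U_e_5 (Nat.ble (nat_lit 798799) q)) (Bool.rec (motive := fun _ => ℕ) U_e_6 U_e_7 (Nat.ble (nat_lit 910583) q)) (Nat.ble (nat_lit 854921) q)) (Nat.ble (nat_lit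 743363) q)) q) q) (E_67 (Nat.mod (Bool.rec (motive := fun _ => ℕ) (Bool.rec (motive := fun _ => ℕ) (Bool.rec (motive := fun _ => ℕ) U_e_0 U_e_1 (Nat.ble (nat_lit 578687) q)) (Bool.rec (motive := fun _ => ℕ) U_e_2 U_e_3 (Nat.ble (nat_lit 688217) q)) (Nat.ble (nat_lit 633263) q)) (Bool.rec (motive := fun _ => ℕ) (Bool.rec (motive := fun _ => ℕ) U_e_4 U_e_5 (Nat.ble (nat_lit 798799) q)) (Bool.rec (motive := fun _ => ℕ) U_e_6 U_e_7 (Nat.ble (nat_lit 910583) q)) (Nat.ble (nat_lit 854921) q)) (Nat.ble (nat_lit 743363) q)) q) q) (Nat.ble (nat_lit 12) (Nat.mod (Bool.rec (motive := fun _ => ℕ) (Bool.rec (motive := fun _ => ℕ) (Bool.rec (motive := fun _ => ℕ) V_e_0 V_e_1 (Nat.ble (nat_lit 578687) q)) (Bool.rec (motive := fun _ => ℕ) V_e_2 V_e_3 (Nat.ble (nat_lit 688217) q)) (Nat.ble (nat_lit 633263) q)) (Bool.rec (motive := fun _ => ℕ) (Bool.rec (motive := fun _ => ℕ) V_e_4 V_e_5 (Nat.ble (nat_lit 798799) q)) (Bool.rec (motive := fun _ =>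 ℕ) V_e_6 V_e_7 (Nat.ble (nat_lit 910583) q)) (Nat.ble (nat_lit 854921) q)) (Nat.ble (nat_lit 743363) q)) q))) (Nat.ble (nat_lit 11) (Nat.mod (Bool.rec (motive := fun _ => ℕ) (Bool.rec (motive := fun _ => ℕ) (Bool.rec (motive := fun _ => ℕ) V_e_0 V_e_1 (Nat.ble (nat_lit 578687) q)) (Bool.rec (motive := fun _ => ℕ) V_e_2 V_e_3 (Nat.ble (nat_lit 688217) q)) (Nat.ble (nat_lit 633263) q)) (Bool.rec (motive := fun _ => ℕ) (Bool.rec (motive := fun _ => ℕ) V_e_4 V_e_5 (Nat.ble (nat_lit 798799) q)) (Bool.rec (motive := fun _ => ℕ) V_e_6 V_e_7 (Nat.ble (nat_lit 910583) q)) (Nat.ble (nat_lit 854921) q)) (Nat.ble (nat_lit 743363) q)) q))) (Nat.ble (nat_lit 10) (Nat.mod (Bool.rec (motive := fun _ => ℕ) (Bool.rec (motive := fun _ => ℕ) (Bool.rec (motive := fun _ => ℕ) V_e_0 V_e_1 (Nat.ble (nat_lit 578687) q)) (Bool.rec (motive := fun _ => ℕ) V_e_2 V_e_3 (Nat.ble (nat_lit 688217) q)) (Nat.ble (nat_lit 633263) q)) (Bool.rec (motive := fun _ =>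 ℕ) (Bool.rec (motive := fun _ => ℕ) V_e_4 V_e_5 (Nat.ble (nat_lit 798799) q)) (Bool.rec (motive := fun _ => ℕ) V_e_6 V_e_7 (Nat.ble (nat_lit 910583) q)) (Nat.ble (nat_lit 854921) q)) (Nat.ble (nat_lit 743363) q)) q))) (Nat.ble (nat_lit 7) (Nat.mod (Bool.rec (motive := fun _ => ℕ) (Bool.rec (motive := fun _ => ℕ) (Bool.rec (motive := fun _ => ℕ) V_e_0 V_e_1 (Nat.ble (nat_lit 578687) q)) (Bool.rec (motive := fun _ => ℕ) V_e_2 V_e_3 (Nat.ble (nat_lit 688217) q)) (Nat.ble (nat_lit 633263) q)) (Bool.rec (motive := fun _ => ℕ) (Bool.rec (motive := fun _ => ℕ) V_e_4 V_e_5 (Nat.ble (nat_lit 798799) q)) (Bool.rec (motive := fun _ => ℕ) V_e_6 V_e_7 (Nat.ble (nat_lit 910583) q)) (Nat.ble (nat_lit 854921) q)) (Nat.ble (nat_lit 743363) q)) q))) (Nat.ble (nat_lit 2) (Nat.mod (Bool.rec (motive := fun _ => ℕ) (Bool.rec (motive := fun _ => ℕ) (Bool.rec (motive := fun _ => ℕ) V_e_0 V_e_1 (Nat.ble (nat_lit 578687) q)) (Bool.rec (motive := fun _ =>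 ℕ) V_e_2 V_e_3 (Nat.ble (nat_lit 688217) q)) (Nat.ble (nat_lit 633263) q)) (Bool.rec (motive := fun _ => ℕ) (Bool.rec (motive := fun _ => ℕ) V_e_4 V_e_5 (Nat.ble (nat_lit 798799) q)) (Bool.rec (motive := fun _ => ℕ) V_e_6 V_e_7 (Nat.ble (nat_lit 910583) q)) (Nat.ble (nat_lit 854921) q)) (Nat.ble (nat_lit 743363) q)) q)))
noncomputable def E_68 (t q : ℕ) : Bool := Nat.beq (G_f t (F_f q)) q
noncomputable def a_68 : CfsgLib.TC.AG Col := .word .f 40 0 true [Col.f]
noncomputable def E_69 (t q : ℕ) : Bool := Nat.beq (G_a t (G_f t (G_a t (F_f q)))) q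
noncomputable def a_69 : CfsgLib.TC.AG Col := .word .f 5 0 true [Col.a, Col.f, Col.a]
noncomputable def E_70 (t q : ℕ) : Bool := Nat.beq (G_b t (G_f t (G_b t (F_f q)))) q
noncomputable def a_70 : CfsgLib.TC.AG Col := .word .f 14 0 true [Col.b, Col.f, Col.b]
noncomputable def E_71 (t q : ℕ) : Bool := band (Nat.beq (PT (F_f q)) q) (band (Nat.beq (DT (F_f q)) 5) (band (Nat.ble (Nat.succ q) (F_f q)) (Nat.ble (Nat.succ q0) (F_f q))))
noncomputable def a_71 : CfsgLib.TC.AG Col := .tree .f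
noncomputable def E_72 (t q : ℕ) : Bool := Nat.beq (G_c t (G_f t (G_c t (F_f q)))) q
noncomputable def a_72 : CfsgLib.TC.AG Col := .word .f 22 0 true [Col.c, Col.f, Col.c]
noncomputable def E_73 (t q : ℕ) : Bool := Nat.beq (G_d t (G_f t (G_d t (F_f q)))) q
noncomputable def a_73 : CfsgLib.TC.AG Col := .word .f 29 0 true [Col.d, Col.f, Col.d]
noncomputable def E_74 (t q : ℕ) : Bool := Nat.beq (G_h t (G_f t (G_h t (F_f q)))) q
noncomputable def a_74 : CfsgLib.TC.AG Col := .word .f 43 1 true [Col.h, Col.f, Col.h]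
noncomputable def E_75 (t q : ℕ) : Bool := Nat.beq (G_i t (G_f t (G_i t (F_f q)))) q
noncomputable def a_75 : CfsgLib.TC.AG Col := .word .f 44 1 true [Col.i, Col.f, Col.i]
noncomputable def E_76 (t q : ℕ) : Bool := Nat.beq (G_j t (G_f t (G_j t (F_f q)))) q
noncomputable def a_76 : CfsgLib.TC.AG Col := .word .f 42 1 true [Col.j, Col.f, Col.j]
noncomputable def E_77 (t q : ℕ) : Bool := Nat.beq (G_e t (G_f t (G_e t (G_f t (G_e t (F_f q)))))) q
noncomputable def a_77 : CfsgLib.TC.AG Col := .word .f 35 0 true [Col.e, Col.f, Col.e, Col.f, Col.e]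
noncomputable def E_78 (t q : ℕ) : Bool := Nat.beq (G_g t (G_f t (G_g t (G_f t (G_g t (F_f q)))))) q
noncomputable def a_78 : CfsgLib.TC.AG Col := .word .f 41 1 true [Col.g, Col.f, Col.g, Col.f, Col.g]
noncomputable def E_79 (t q : ℕ) : Bool := band (Nat.beq q0 q) (Nat.beq (F_f q) q0)
noncomputable def a_79 : CfsgLib.TC.AG Col := .base .f 5 [] []
noncomputable def D_f (q : ℕ) : Bool := (Bool.rec (motive := fun _ => Bool) (Bool.rec (motive := fun _ => Bool) (E_68 (Nat.mod (Bool.rec (motive := fun _ => ℕ) (Bool.rec (motive := fun _ => ℕ) (Bool.rec (motive := fun _ => ℕ) U_f_0 U_f_1 (Nat.ble (nat_lit 578687) q)) (Bool.rec (motive := fun _ => ℕ) U_f_2 U_f_3 (Nat.ble (nat_lit 688217) q)) (Nat.ble (nat_lit 633263) q)) (Bool.rec (motive := fun _ => ℕ) (Bool.rec (motive := fun _ => ℕ) U_f_4 U_f_5 (Nat.ble (nat_lit 798799) q)) (Bool.rec (motive := fun _ => ℕ) U_f_6 U_f_7 (Nat.ble (nat_lit 910583) q)) (Nat.ble (nat_lit 854921) q)) (Nat.ble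 (nat_lit 743363) q)) q) q) (E_69 (Nat.mod (Bool.rec (motive := fun _ => ℕ) (Bool.rec (motive := fun _ => ℕ) (Bool.rec (motive := fun _ => ℕ) U_f_0 U_f_1 (Nat.ble (nat_lit 578687) q)) (Bool.rec (motive := fun _ => ℕ) U_f_2 U_f_3 (Nat.ble (nat_lit 688217) q)) (Nat.ble (nat_lit 633263) q)) (Bool.rec (motive := fun _ => ℕ) (Bool.rec (motive := fun _ => ℕ) U_f_4 U_f_5 (Nat.ble (nat_lit 798799) q)) (Bool.rec (motive := fun _ => ℕ) U_f_6 U_f_7 (Nat.ble (nat_lit 910583) q)) (Nat.ble (nat_lit 854921) q)) (Nat.ble (nat_lit 743363) q)) q) q) (Nat.ble (nat_lit 1) (Nat.mod (Bool.rec (motive := fun _ => ℕ) (Bool.rec (motive := fun _ => ℕ) (Bool.rec (motive := fun _ => ℕ) V_f_0 V_f_1 (Nat.ble (nat_lit 578687) q)) (Bool.rec (motive := fun _ => ℕ) V_f_2 V_f_3 (Nat.ble (nat_lit 688217) q)) (Nat.ble (nat_lit 633263) q)) (Bool.rec (motive := fun _ => ℕ) (Bool.rec (motive := fun _ => ℕ) V_f_4 V_f_5 (Nat.ble (nat_lit 798799) q)) (Bool.rec (motive :=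 fun _ => ℕ) V_f_6 V_f_7 (Nat.ble (nat_lit 910583) q)) (Nat.ble (nat_lit 854921) q)) (Nat.ble (nat_lit 743363) q)) q))) (Bool.rec (motive := fun _ => Bool) (Bool.rec (motive := fun _ => Bool) (Bool.rec (motive := fun _ => Bool) (E_70 (Nat.mod (Bool.rec (motive := fun _ => ℕ) (Bool.rec (motive := fun _ => ℕ) (Bool.rec (motive := fun _ => ℕ) U_f_0 U_f_1 (Nat.ble (nat_lit 578687) q)) (Bool.rec (motive := fun _ => ℕ) U_f_2 U_f_3 (Nat.ble (nat_lit 688217) q)) (Nat.ble (nat_lit 633263) q)) (Bool.rec (motive := fun _ => ℕ) (Bool.rec (motive := fun _ => ℕ) U_f_4 U_f_5 (Nat.ble (nat_lit 798799) q)) (Bool.rec (motive := fun _ => ℕ) U_f_6 U_f_7 (Nat.ble (nat_lit 910583) q)) (Nat.ble (nat_lit 854921) q)) (Nat.ble (nat_lit 743363) q)) q) q) (E_71 (Nat.mod (Bool.rec (motive := fun _ => ℕ) (Bool.rec (motive := fun _ => ℕ) (Bool.rec (motive := fun _ => ℕ) U_f_0 U_f_1 (Nat.ble (nat_lit 578687) q)) (Bool.rec (motive := fun _ => ℕ) U_f_2 U_f_3 (Nat.ble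 (nat_lit 688217) q)) (Nat.ble (nat_lit 633263) q)) (Bool.rec (motive := fun _ => ℕ) (Bool.rec (motive := fun _ => ℕ) U_f_4 U_f_5 (Nat.ble (nat_lit 798799) q)) (Bool.rec (motive := fun _ => ℕ) U_f_6 U_f_7 (Nat.ble (nat_lit 910583) q)) (Nat.ble (nat_lit 854921) q)) (Nat.ble (nat_lit 743363) q)) q) q) (Nat.ble (nat_lit 3) (Nat.mod (Bool.rec (motive := fun _ => ℕ) (Bool.rec (motive := fun _ => ℕ) (Bool.rec (motive := fun _ => ℕ) V_f_0 V_f_1 (Nat.ble (nat_lit 578687) q)) (Bool.rec (motive := fun _ => ℕ) V_f_2 V_f_3 (Nat.ble (nat_lit 688217) q)) (Nat.ble (nat_lit 633263) q)) (Bool.rec (motive := fun _ => ℕ) (Bool.rec (motive := fun _ => ℕ) V_f_4 V_f_5 (Nat.ble (nat_lit 798799) q)) (Bool.rec (motive := fun _ => ℕ) V_f_6 V_f_7 (Nat.ble (nat_lit 910583) q)) (Nat.ble (nat_lit 854921) q)) (Nat.ble (nat_lit 743363) q)) q))) (Bool.rec (motive := fun _ => Bool) (E_72 (Nat.mod (Bool.rec (motive := fun _ => ℕ) (Bool.rec (motive := fun _ => ℕ)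 (Bool.rec (motive := fun _ => ℕ) U_f_0 U_f_1 (Nat.ble (nat_lit 578687) q)) (Bool.rec (motive := fun _ => ℕ) U_f_2 U_f_3 (Nat.ble (nat_lit 688217) q)) (Nat.ble (nat_lit 633263) q)) (Bool.rec (motive := fun _ => ℕ) (Bool.rec (motive := fun _ => ℕ) U_f_4 U_f_5 (Nat.ble (nat_lit 798799) q)) (Bool.rec (motive := fun _ => ℕ) U_f_6 U_f_7 (Nat.ble (nat_lit 910583) q)) (Nat.ble (nat_lit 854921) q)) (Nat.ble (nat_lit 743363) q)) q) q) (Bool.rec (motive := fun _ => Bool) (E_73 (Nat.mod (Bool.rec (motive := fun _ => ℕ) (Bool.rec (motive := fun _ => ℕ) (Bool.rec (motive := fun _ => ℕ) U_f_0 U_f_1 (Nat.ble (nat_lit 578687) q)) (Bool.rec (motive := fun _ => ℕ) U_f_2 U_f_3 (Nat.ble (nat_lit 688217) q)) (Nat.ble (nat_lit 633263) q)) (Bool.rec (motive := fun _ => ℕ) (Bool.rec (motive := fun _ => ℕ) U_f_4 U_f_5 (Nat.ble (nat_lit 798799) q)) (Bool.rec (motive := fun _ => ℕ) U_f_6 U_f_7 (Nat.ble (nat_lit 910583) q)) (Nat.ble (nat_lit 854921) q)) (Nat.ble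 (nat_lit 743363) q)) q) q) (E_74 (Nat.mod (Bool.rec (motive := fun _ => ℕ) (Bool.rec (motive := fun _ => ℕ) (Bool.rec (motive := fun _ => ℕ) U_f_0 U_f_1 (Nat.ble (nat_lit 578687) q)) (Bool.rec (motive := fun _ => ℕ) U_f_2 U_f_3 (Nat.ble (nat_lit 688217) q)) (Nat.ble (nat_lit 633263) q)) (Bool.rec (motive := fun _ => ℕ) (Bool.rec (motive := fun _ => ℕ) U_f_4 U_f_5 (Nat.ble (nat_lit 798799) q)) (Bool.rec (motive := fun _ => ℕ) U_f_6 U_f_7 (Nat.ble (nat_lit 910583) q)) (Nat.ble (nat_lit 854921) q)) (Nat.ble (nat_lit 743363) q)) q) q) (Nat.ble (nat_lit 6) (Nat.mod (Bool.rec (motive := fun _ => ℕ) (Bool.rec (motive := fun _ => ℕ) (Bool.rec (motive := fun _ => ℕ) V_f_0 V_f_1 (Nat.ble (nat_lit 578687) q)) (Bool.rec (motive := fun _ => ℕ) V_f_2 V_f_3 (Nat.ble (nat_lit 688217) q)) (Nat.ble (nat_lit 633263) q)) (Bool.rec (motive := fun _ => ℕ) (Bool.rec (motive := fun _ => ℕ) V_f_4 V_f_5 (Nat.ble (nat_lit 798799) q)) (Bool.rec (motive :=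 fun _ => ℕ) V_f_6 V_f_7 (Nat.ble (nat_lit 910583) q)) (Nat.ble (nat_lit 854921) q)) (Nat.ble (nat_lit 743363) q)) q))) (Nat.ble (nat_lit 5) (Nat.mod (Bool.rec (motive := fun _ => ℕ) (Bool.rec (motive := fun _ => ℕ) (Bool.rec (motive := fun _ => ℕ) V_f_0 V_f_1 (Nat.ble (nat_lit 578687) q)) (Bool.rec (motive := fun _ => ℕ) V_f_2 V_f_3 (Nat.ble (nat_lit 688217) q)) (Nat.ble (nat_lit 633263) q)) (Bool.rec (motive := fun _ => ℕ) (Bool.rec (motive := fun _ => ℕ) V_f_4 V_f_5 (Nat.ble (nat_lit 798799) q)) (Bool.rec (motive := fun _ => ℕ) V_f_6 V_f_7 (Nat.ble (nat_lit 910583) q)) (Nat.ble (nat_lit 854921) q)) (Nat.ble (nat_lit 743363) q)) q))) (Nat.ble (nat_lit 4) (Nat.mod (Bool.rec (motive := fun _ => ℕ) (Bool.rec (motive := fun _ => ℕ) (Bool.rec (motive := fun _ => ℕ) V_f_0 V_f_1 (Nat.ble (nat_lit 578687) q)) (Bool.rec (motive := fun _ => ℕ) V_f_2 V_f_3 (Nat.ble (nat_lit 688217) q)) (Nat.ble (nat_lit 633263) q)) (Bool.rec (motive := fun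 _ => ℕ) (Bool.rec (motive := fun _ => ℕ) V_f_4 V_f_5 (Nat.ble (nat_lit 798799) q)) (Bool.rec (motive := fun _ => ℕ) V_f_6 V_f_7 (Nat.ble (nat_lit 910583) q)) (Nat.ble (nat_lit 854921) q)) (Nat.ble (nat_lit 743363) q)) q))) (Bool.rec (motive := fun _ => Bool) (Bool.rec (motive := fun _ => Bool) (E_75 (Nat.mod (Bool.rec (motive := fun _ => ℕ) (Bool.rec (motive := fun _ => ℕ) (Bool.rec (motive := fun _ => ℕ) U_f_0 U_f_1 (Nat.ble (nat_lit 578687) q)) (Bool.rec (motive := fun _ => ℕ) U_f_2 U_f_3 (Nat.ble (nat_lit 688217) q)) (Nat.ble (nat_lit 633263) q)) (Bool.rec (motive := fun _ => ℕ) (Bool.rec (motive := fun _ => ℕ) U_f_4 U_f_5 (Nat.ble (nat_lit 798799) q)) (Bool.rec (motive := fun _ => ℕ) U_f_6 U_f_7 (Nat.ble (nat_lit 910583) q)) (Nat.ble (nat_lit 854921) q)) (Nat.ble (nat_lit 743363) q)) q) q) (E_76 (Nat.mod (Bool.rec (motive := fun _ => ℕ) (Bool.rec (motive := fun _ => ℕ) (Bool.rec (motive := fun _ => ℕ) U_f_0 U_f_1 (Nat.ble (nat_lit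 578687) q)) (Bool.rec (motive := fun _ => ℕ) U_f_2 U_f_3 (Nat.ble (nat_lit 688217) q)) (Nat.ble (nat_lit 633263) q)) (Bool.rec (motive := fun _ => ℕ) (Bool.rec (motive := fun _ => ℕ) U_f_4 U_f_5 (Nat.ble (nat_lit 798799) q)) (Bool.rec (motive := fun _ => ℕ) U_f_6 U_f_7 (Nat.ble (nat_lit 910583) q)) (Nat.ble (nat_lit 854921) q)) (Nat.ble (nat_lit 743363) q)) q) q) (Nat.ble (nat_lit 8) (Nat.mod (Bool.rec (motive := fun _ => ℕ) (Bool.rec (motive := fun _ => ℕ) (Bool.rec (motive := fun _ => ℕ) V_f_0 V_f_1 (Nat.ble (nat_lit 578687) q)) (Bool.rec (motive := fun _ => ℕ) V_f_2 V_f_3 (Nat.ble (nat_lit 688217) q)) (Nat.ble (nat_lit 633263) q)) (Bool.rec (motive := fun _ => ℕ) (Bool.rec (motive := fun _ => ℕ) V_f_4 V_f_5 (Nat.ble (nat_lit 798799) q)) (Bool.rec (motive := fun _ => ℕ) V_f_6 V_f_7 (Nat.ble (nat_lit 910583) q)) (Nat.ble (nat_lit 854921) q)) (Nat.ble (nat_lit 743363) q)) q))) (Bool.rec (motive := fun _ => Bool) (E_77 (Nat.mod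 (Bool.rec (motive := fun _ => ℕ) (Bool.rec (motive := fun _ => ℕ) (Bool.rec (motive := fun _ => ℕ) U_f_0 U_f_1 (Nat.ble (nat_lit 578687) q)) (Bool.rec (motive := fun _ => ℕ) U_f_2 U_f_3 (Nat.ble (nat_lit 688217) q)) (Nat.ble (nat_lit 633263) q)) (Bool.rec (motive := fun _ => ℕ) (Bool.rec (motive := fun _ => ℕ) U_f_4 U_f_5 (Nat.ble (nat_lit 798799) q)) (Bool.rec (motive := fun _ => ℕ) U_f_6 U_f_7 (Nat.ble (nat_lit 910583) q)) (Nat.ble (nat_lit 854921) q)) (Nat.ble (nat_lit 743363) q)) q) q) (Bool.rec (motive := fun _ => Bool) (E_78 (Nat.mod (Bool.rec (motive := fun _ => ℕ) (Bool.rec (motive := fun _ => ℕ) (Bool.rec (motive := fun _ => ℕ) U_f_0 U_f_1 (Nat.ble (nat_lit 578687) q)) (Bool.rec (motive := fun _ => ℕ) U_f_2 U_f_3 (Nat.ble (nat_lit 688217) q)) (Nat.ble (nat_lit 633263) q)) (Bool.rec (motive := fun _ => ℕ) (Bool.rec (motive := fun _ => ℕ) U_f_4 U_f_5 (Nat.ble (nat_lit 798799) q)) (Bool.rec (motive := fun _ => ℕ) U_f_6 U_f_7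 (Nat.ble (nat_lit 910583) q)) (Nat.ble (nat_lit 854921) q)) (Nat.ble (nat_lit 743363) q)) q) q) (E_79 (Nat.mod (Bool.rec (motive := fun _ => ℕ) (Bool.rec (motive := fun _ => ℕ) (Bool.rec (motive := fun _ => ℕ) U_f_0 U_f_1 (Nat.ble (nat_lit 578687) q)) (Bool.rec (motive := fun _ => ℕ) U_f_2 U_f_3 (Nat.ble (nat_lit 688217) q)) (Nat.ble (nat_lit 633263) q)) (Bool.rec (motive := fun _ => ℕ) (Bool.rec (motive := fun _ => ℕ) U_f_4 U_f_5 (Nat.ble (nat_lit 798799) q)) (Bool.rec (motive := fun _ => ℕ) U_f_6 U_f_7 (Nat.ble (nat_lit 910583) q)) (Nat.ble (nat_lit 854921) q)) (Nat.ble (nat_lit 743363) q)) q) q) (Nat.ble (nat_lit 11) (Nat.mod (Bool.rec (motive := fun _ => ℕ) (Bool.rec (motive := fun _ => ℕ) (Bool.rec (motive := fun _ => ℕ) V_f_0 V_f_1 (Nat.ble (nat_lit 578687) q)) (Bool.rec (motive := fun _ => ℕ) V_f_2 V_f_3 (Nat.ble (nat_lit 688217) q)) (Nat.ble (nat_lit 633263) q)) (Bool.rec (motive := fun _ => ℕ) (Bool.rec (motive := fun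 _ => ℕ) V_f_4 V_f_5 (Nat.ble (nat_lit 798799) q)) (Bool.rec (motive := fun _ => ℕ) V_f_6 V_f_7 (Nat.ble (nat_lit 910583) q)) (Nat.ble (nat_lit 854921) q)) (Nat.ble (nat_lit 743363) q)) q))) (Nat.ble (nat_lit 10) (Nat.mod (Bool.rec (motive := fun _ => ℕ) (Bool.rec (motive := fun _ => ℕ) (Bool.rec (motive := fun _ => ℕ) V_f_0 V_f_1 (Nat.ble (nat_lit 578687) q)) (Bool.rec (motive := fun _ => ℕ) V_f_2 V_f_3 (Nat.ble (nat_lit 688217) q)) (Nat.ble (nat_lit 633263) q)) (Bool.rec (motive := fun _ => ℕ) (Bool.rec (motive := fun _ => ℕ) V_f_4 V_f_5 (Nat.ble (nat_lit 798799) q)) (Bool.rec (motive := fun _ => ℕ) V_f_6 V_f_7 (Nat.ble (nat_lit 910583) q)) (Nat.ble (nat_lit 854921) q)) (Nat.ble (nat_lit 743363) q)) q))) (Nat.ble (nat_lit 9) (Nat.mod (Bool.rec (motive := fun _ => ℕ) (Bool.rec (motive := fun _ => ℕ) (Bool.rec (motive := fun _ => ℕ) V_f_0 V_f_1 (Nat.ble (nat_lit 578687) q)) (Bool.rec (motive := fun _ => ℕ) V_f_2 V_f_3 (Nat.ble (nat_lit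 688217) q)) (Nat.ble (nat_lit 633263) q)) (Bool.rec (motive := fun _ => ℕ) (Bool.rec (motive := fun _ => ℕ) V_f_4 V_f_5 (Nat.ble (nat_lit 798799) q)) (Bool.rec (motive := fun _ => ℕ) V_f_6 V_f_7 (Nat.ble (nat_lit 910583) q)) (Nat.ble (nat_lit 854921) q)) (Nat.ble (nat_lit 743363) q)) q))) (Nat.ble (nat_lit 7) (Nat.mod (Bool.rec (motive := fun _ => ℕ) (Bool.rec (motive := fun _ => ℕ) (Bool.rec (motive := fun _ => ℕ) V_f_0 V_f_1 (Nat.ble (nat_lit 578687) q)) (Bool.rec (motive := fun _ => ℕ) V_f_2 V_f_3 (Nat.ble (nat_lit 688217) q)) (Nat.ble (nat_lit 633263) q)) (Bool.rec (motive := fun _ => ℕ) (Bool.rec (motive := fun _ => ℕ) V_f_4 V_f_5 (Nat.ble (nat_lit 798799) q)) (Bool.rec (motive := fun _ => ℕ) V_f_6 V_f_7 (Nat.ble (nat_lit 910583) q)) (Nat.ble (nat_lit 854921) q)) (Nat.ble (nat_lit 743363) q)) q))) (Nat.ble (nat_lit 2) (Nat.mod (Bool.rec (motive := fun _ => ℕ) (Bool.rec (motive := fun _ => ℕ) (Bool.rec (motive := fun _ => ℕ)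 V_f_0 V_f_1 (Nat.ble (nat_lit 578687) q)) (Bool.rec (motive := fun _ => ℕ) V_f_2 V_f_3 (Nat.ble (nat_lit 688217) q)) (Nat.ble (nat_lit 633263) q)) (Bool.rec (motive := fun _ => ℕ) (Bool.rec (motive := fun _ => ℕ) V_f_4 V_f_5 (Nat.ble (nat_lit 798799) q)) (Bool.rec (motive := fun _ => ℕ) V_f_6 V_f_7 (Nat.ble (nat_lit 910583) q)) (Nat.ble (nat_lit 854921) q)) (Nat.ble (nat_lit 743363) q)) q)))
noncomputable def E_80 (t q : ℕ) : Bool := Nat.beq (G_g t (F_g q)) q
noncomputable def a_80 : CfsgLib.TC.AG Col := .word .g 45 0 true [Col.g]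
noncomputable def E_81 (t q : ℕ) : Bool := Nat.beq (G_a t (G_g t (G_a t (F_g q)))) q
noncomputable def a_81 : CfsgLib.TC.AG Col := .word .g 6 0 true [Col.a, Col.g, Col.a]
noncomputable def E_82 (t q : ℕ) : Bool := Nat.beq (G_b t (G_g t (G_b t (F_g q)))) q
noncomputable def a_82 : CfsgLib.TC.AG Col := .word .g 15 0 true [Col.b, Col.g, Col.b]
noncomputable def E_83 (t q : ℕ) : Bool := Nat.beq (G_c t (G_g t (G_c t (F_g q)))) q
noncomputable def a_83 : CfsgLib.TC.AG Col := .word .g 23 0 true [Col.c, Col.g, Col.c]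
noncomputable def E_84 (t q : ℕ) : Bool := band (Nat.beq (PT (F_g q)) q) (band (Nat.beq (DT (F_g q)) 6) (band (Nat.ble (Nat.succ q) (F_g q)) (Nat.ble (Nat.succ q0) (F_g q))))
noncomputable def a_84 : CfsgLib.TC.AG Col := .tree .g
noncomputable def E_85 (t q : ℕ) : Bool := Nat.beq (G_d t (G_g t (G_d t (F_g q)))) q
noncomputable def a_85 : CfsgLib.TC.AG Col := .word .g 30 0 true [Col.d, Col.g, Col.d]
noncomputable def E_86 (t q : ℕ) : Bool := Nat.beq (G_e t (G_g t (G_e t (F_g q)))) q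
noncomputable def a_86 : CfsgLib.TC.AG Col := .word .g 36 0 true [Col.e, Col.g, Col.e]
noncomputable def E_87 (t q : ℕ) : Bool := Nat.beq (G_h t (G_g t (G_h t (F_g q)))) q
noncomputable def a_87 : CfsgLib.TC.AG Col := .word .g 47 1 true [Col.h, Col.g, Col.h]
noncomputable def E_88 (t q : ℕ) : Bool := Nat.beq (G_i t (G_g t (G_i t (F_g q)))) q
noncomputable def a_88 : CfsgLib.TC.AG Col := .word .g 48 1 true [Col.i, Col.g, Col.i]
noncomputable def E_89 (t q : ℕ) : Bool := Nat.beq (G_f t (G_g t (G_f t (G_g t (G_f t (F_g q)))))) q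
noncomputable def a_89 : CfsgLib.TC.AG Col := .word .g 41 0 true [Col.f, Col.g, Col.f, Col.g, Col.f]
noncomputable def E_90 (t q : ℕ) : Bool := Nat.beq (G_j t (G_g t (G_j t (G_g t (G_j t (F_g q)))))) q
noncomputable def a_90 : CfsgLib.TC.AG Col := .word .g 46 1 true [Col.j, Col.g, Col.j, Col.g, Col.j]
noncomputable def E_91 (t q : ℕ) : Bool := band (Nat.beq q0 q) (Nat.beq (F_g q) q0)
noncomputable def a_91 : CfsgLib.TC.AG Col := .base .g 6 [] []
noncomputable def D_g (q : ℕ) : Bool := (Bool.rec (motive := fun _ => Bool) (Bool.rec (motive := fun _ => Bool) (E_80 (Nat.mod (Bool.rec (motive := fun _ => ℕ) (Bool.rec (motive := fun _ => ℕ) (Bool.rec (motive := fun _ => ℕ) U_g_0 U_g_1 (Nat.ble (nat_lit 578687) q)) (Bool.rec (motive := fun _ => ℕ) U_g_2 U_g_3 (Nat.ble (nat_lit 688217) q)) (Nat.ble (nat_lit 633263) q)) (Bool.rec (motive := fun _ => ℕ) (Bool.rec (motive := fun _ => ℕ) U_g_4 U_g_5 (Nat.ble (nat_lit 798799) q)) (Bool.rec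 (motive := fun _ => ℕ) U_g_6 U_g_7 (Nat.ble (nat_lit 910583) q)) (Nat.ble (nat_lit 854921) q)) (Nat.ble (nat_lit 743363) q)) q) q) (E_81 (Nat.mod (Bool.rec (motive := fun _ => ℕ) (Bool.rec (motive := fun _ => ℕ) (Bool.rec (motive := fun _ => ℕ) U_g_0 U_g_1 (Nat.ble (nat_lit 578687) q)) (Bool.rec (motive := fun _ => ℕ) U_g_2 U_g_3 (Nat.ble (nat_lit 688217) q)) (Nat.ble (nat_lit 633263) q)) (Bool.rec (motive := fun _ => ℕ) (Bool.rec (motive := fun _ => ℕ) U_g_4 U_g_5 (Nat.ble (nat_lit 798799) q)) (Bool.rec (motive := fun _ => ℕ) U_g_6 U_g_7 (Nat.ble (nat_lit 910583) q)) (Nat.ble (nat_lit 854921) q)) (Nat.ble (nat_lit 743363) q)) q) q) (Nat.ble (nat_lit 1) (Nat.mod (Bool.rec (motive := fun _ => ℕ) (Bool.rec (motive := fun _ => ℕ) (Bool.rec (motive := fun _ => ℕ) V_g_0 V_g_1 (Nat.ble (nat_lit 578687) q)) (Bool.rec (motive := fun _ => ℕ) V_g_2 V_g_3 (Nat.ble (nat_lit 688217) q)) (Nat.ble (nat_lit 633263) q)) (Bool.rec (motive := fun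 _ => ℕ) (Bool.rec (motive := fun _ => ℕ) V_g_4 V_g_5 (Nat.ble (nat_lit 798799) q)) (Bool.rec (motive := fun _ => ℕ) V_g_6 V_g_7 (Nat.ble (nat_lit 910583) q)) (Nat.ble (nat_lit 854921) q)) (Nat.ble (nat_lit 743363) q)) q))) (Bool.rec (motive := fun _ => Bool) (Bool.rec (motive := fun _ => Bool) (Bool.rec (motive := fun _ => Bool) (E_82 (Nat.mod (Bool.rec (motive := fun _ => ℕ) (Bool.rec (motive := fun _ => ℕ) (Bool.rec (motive := fun _ => ℕ) U_g_0 U_g_1 (Nat.ble (nat_lit 578687) q)) (Bool.rec (motive := fun _ => ℕ) U_g_2 U_g_3 (Nat.ble (nat_lit 688217) q)) (Nat.ble (nat_lit 633263) q)) (Bool.rec (motive := fun _ => ℕ) (Bool.rec (motive := fun _ => ℕ) U_g_4 U_g_5 (Nat.ble (nat_lit 798799) q)) (Bool.rec (motive := fun _ => ℕ) U_g_6 U_g_7 (Nat.ble (nat_lit 910583) q)) (Nat.ble (nat_lit 854921) q)) (Nat.ble (nat_lit 743363) q)) q) q) (E_83 (Nat.mod (Bool.rec (motive := fun _ => ℕ) (Bool.rec (motive := fun _ => ℕ) (Bool.rec (motive :=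 fun _ => ℕ) U_g_0 U_g_1 (Nat.ble (nat_lit 578687) q)) (Bool.rec (motive := fun _ => ℕ) U_g_2 U_g_3 (Nat.ble (nat_lit 688217) q)) (Nat.ble (nat_lit 633263) q)) (Bool.rec (motive := fun _ => ℕ) (Bool.rec (motive := fun _ => ℕ) U_g_4 U_g_5 (Nat.ble (nat_lit 798799) q)) (Bool.rec (motive := fun _ => ℕ) U_g_6 U_g_7 (Nat.ble (nat_lit 910583) q)) (Nat.ble (nat_lit 854921) q)) (Nat.ble (nat_lit 743363) q)) q) q) (Nat.ble (nat_lit 3) (Nat.mod (Bool.rec (motive := fun _ => ℕ) (Bool.rec (motive := fun _ => ℕ) (Bool.rec (motive := fun _ => ℕ) V_g_0 V_g_1 (Nat.ble (nat_lit 578687) q)) (Bool.rec (motive := fun _ => ℕ) V_g_2 V_g_3 (Nat.ble (nat_lit 688217) q)) (Nat.ble (nat_lit 633263) q)) (Bool.rec (motive := fun _ => ℕ) (Bool.rec (motive := fun _ => ℕ) V_g_4 V_g_5 (Nat.ble (nat_lit 798799) q)) (Bool.rec (motive := fun _ => ℕ) V_g_6 V_g_7 (Nat.ble (nat_lit 910583) q)) (Nat.ble (nat_lit 854921) q)) (Nat.ble (nat_lit 743363) q)) q))) (Bool.rec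 (motive := fun _ => Bool) (E_84 (Nat.mod (Bool.rec (motive := fun _ => ℕ) (Bool.rec (motive := fun _ => ℕ) (Bool.rec (motive := fun _ => ℕ) U_g_0 U_g_1 (Nat.ble (nat_lit 578687) q)) (Bool.rec (motive := fun _ => ℕ) U_g_2 U_g_3 (Nat.ble (nat_lit 688217) q)) (Nat.ble (nat_lit 633263) q)) (Bool.rec (motive := fun _ => ℕ) (Bool.rec (motive := fun _ => ℕ) U_g_4 U_g_5 (Nat.ble (nat_lit 798799) q)) (Bool.rec (motive := fun _ => ℕ) U_g_6 U_g_7 (Nat.ble (nat_lit 910583) q)) (Nat.ble (nat_lit 854921) q)) (Nat.ble (nat_lit 743363) q)) q) q) (Bool.rec (motive := fun _ => Bool) (E_85 (Nat.mod (Bool.rec (motive := fun _ => ℕ) (Bool.rec (motive := fun _ => ℕ) (Bool.rec (motive := fun _ => ℕ) U_g_0 U_g_1 (Nat.ble (nat_lit 578687) q)) (Bool.rec (motive := fun _ => ℕ) U_g_2 U_g_3 (Nat.ble (nat_lit 688217) q)) (Nat.ble (nat_lit 633263) q)) (Bool.rec (motive := fun _ => ℕ) (Bool.rec (motive := fun _ => ℕ) U_g_4 U_g_5 (Nat.ble (nat_lit 798799) q))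 (Bool.rec (motive := fun _ => ℕ) U_g_6 U_g_7 (Nat.ble (nat_lit 910583) q)) (Nat.ble (nat_lit 854921) q)) (Nat.ble (nat_lit 743363) q)) q) q) (E_86 (Nat.mod (Bool.rec (motive := fun _ => ℕ) (Bool.rec (motive := fun _ => ℕ) (Bool.rec (motive := fun _ => ℕ) U_g_0 U_g_1 (Nat.ble (nat_lit 578687) q)) (Bool.rec (motive := fun _ => ℕ) U_g_2 U_g_3 (Nat.ble (nat_lit 688217) q)) (Nat.ble (nat_lit 633263) q)) (Bool.rec (motive := fun _ => ℕ) (Bool.rec (motive := fun _ => ℕ) U_g_4 U_g_5 (Nat.ble (nat_lit 798799) q)) (Bool.rec (motive := fun _ => ℕ) U_g_6 U_g_7 (Nat.ble (nat_lit 910583) q)) (Nat.ble (nat_lit 854921) q)) (Nat.ble (nat_lit 743363) q)) q) q) (Nat.ble (nat_lit 6) (Nat.mod (Bool.rec (motive := fun _ => ℕ) (Bool.rec (motive := fun _ => ℕ) (Bool.rec (motive := fun _ => ℕ) V_g_0 V_g_1 (Nat.ble (nat_lit 578687) q)) (Bool.rec (motive := fun _ => ℕ) V_g_2 V_g_3 (Nat.ble (nat_lit 688217) q)) (Nat.ble (nat_lit 633263) q)) (Bool.rec (motive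 := fun _ => ℕ) (Bool.rec (motive := fun _ => ℕ) V_g_4 V_g_5 (Nat.ble (nat_lit 798799) q)) (Bool.rec (motive := fun _ => ℕ) V_g_6 V_g_7 (Nat.ble (nat_lit 910583) q)) (Nat.ble (nat_lit 854921) q)) (Nat.ble (nat_lit 743363) q)) q))) (Nat.ble (nat_lit 5) (Nat.mod (Bool.rec (motive := fun _ => ℕ) (Bool.rec (motive := fun _ => ℕ) (Bool.rec (motive := fun _ => ℕ) V_g_0 V_g_1 (Nat.ble (nat_lit 578687) q)) (Bool.rec (motive := fun _ => ℕ) V_g_2 V_g_3 (Nat.ble (nat_lit 688217) q)) (Nat.ble (nat_lit 633263) q)) (Bool.rec (motive := fun _ => ℕ) (Bool.rec (motive := fun _ => ℕ) V_g_4 V_g_5 (Nat.ble (nat_lit 798799) q)) (Bool.rec (motive := fun _ => ℕ) V_g_6 V_g_7 (Nat.ble (nat_lit 910583) q)) (Nat.ble (nat_lit 854921) q)) (Nat.ble (nat_lit 743363) q)) q))) (Nat.ble (nat_lit 4) (Nat.mod (Bool.rec (motive := fun _ => ℕ) (Bool.rec (motive := fun _ => ℕ) (Bool.rec (motive := fun _ => ℕ) V_g_0 V_g_1 (Nat.ble (nat_lit 578687) q)) (Bool.rec (motive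 := fun _ => ℕ) V_g_2 V_g_3 (Nat.ble (nat_lit 688217) q)) (Nat.ble (nat_lit 633263) q)) (Bool.rec (motive := fun _ => ℕ) (Bool.rec (motive := fun _ => ℕ) V_g_4 V_g_5 (Nat.ble (nat_lit 798799) q)) (Bool.rec (motive := fun _ => ℕ) V_g_6 V_g_7 (Nat.ble (nat_lit 910583) q)) (Nat.ble (nat_lit 854921) q)) (Nat.ble (nat_lit 743363) q)) q))) (Bool.rec (motive := fun _ => Bool) (Bool.rec (motive := fun _ => Bool) (E_87 (Nat.mod (Bool.rec (motive := fun _ => ℕ) (Bool.rec (motive := fun _ => ℕ) (Bool.rec (motive := fun _ => ℕ) U_g_0 U_g_1 (Nat.ble (nat_lit 578687) q)) (Bool.rec (motive := fun _ => ℕ) U_g_2 U_g_3 (Nat.ble (nat_lit 688217) q)) (Nat.ble (nat_lit 633263) q)) (Bool.rec (motive := fun _ => ℕ) (Bool.rec (motive := fun _ => ℕ) U_g_4 U_g_5 (Nat.ble (nat_lit 798799) q)) (Bool.rec (motive := fun _ => ℕ) U_g_6 U_g_7 (Nat.ble (nat_lit 910583) q)) (Nat.ble (nat_lit 854921) q)) (Nat.ble (nat_lit 743363) q)) q) q) (E_88 (Nat.mod (Bool.rec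 (motive := fun _ => ℕ) (Bool.rec (motive := fun _ => ℕ) (Bool.rec (motive := fun _ => ℕ) U_g_0 U_g_1 (Nat.ble (nat_lit 578687) q)) (Bool.rec (motive := fun _ => ℕ) U_g_2 U_g_3 (Nat.ble (nat_lit 688217) q)) (Nat.ble (nat_lit 633263) q)) (Bool.rec (motive := fun _ => ℕ) (Bool.rec (motive := fun _ => ℕ) U_g_4 U_g_5 (Nat.ble (nat_lit 798799) q)) (Bool.rec (motive := fun _ => ℕ) U_g_6 U_g_7 (Nat.ble (nat_lit 910583) q)) (Nat.ble (nat_lit 854921) q)) (Nat.ble (nat_lit 743363) q)) q) q) (Nat.ble (nat_lit 8) (Nat.mod (Bool.rec (motive := fun _ => ℕ) (Bool.rec (motive := fun _ => ℕ) (Bool.rec (motive := fun _ => ℕ) V_g_0 V_g_1 (Nat.ble (nat_lit 578687) q)) (Bool.rec (motive := fun _ => ℕ) V_g_2 V_g_3 (Nat.ble (nat_lit 688217) q)) (Nat.ble (nat_lit 633263) q)) (Bool.rec (motive := fun _ => ℕ) (Bool.rec (motive := fun _ => ℕ) V_g_4 V_g_5 (Nat.ble (nat_lit 798799) q)) (Bool.rec (motive := fun _ => ℕ) V_g_6 V_g_7 (Nat.ble (nat_lit 910583) q))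 (Nat.ble (nat_lit 854921) q)) (Nat.ble (nat_lit 743363) q)) q))) (Bool.rec (motive := fun _ => Bool) (E_89 (Nat.mod (Bool.rec (motive := fun _ => ℕ) (Bool.rec (motive := fun _ => ℕ) (Bool.rec (motive := fun _ => ℕ) U_g_0 U_g_1 (Nat.ble (nat_lit 578687) q)) (Bool.rec (motive := fun _ => ℕ) U_g_2 U_g_3 (Nat.ble (nat_lit 688217) q)) (Nat.ble (nat_lit 633263) q)) (Bool.rec (motive := fun _ => ℕ) (Bool.rec (motive := fun _ => ℕ) U_g_4 U_g_5 (Nat.ble (nat_lit 798799) q)) (Bool.rec (motive := fun _ => ℕ) U_g_6 U_g_7 (Nat.ble (nat_lit 910583) q)) (Nat.ble (nat_lit 854921) q)) (Nat.ble (nat_lit 743363) q)) q) q) (Bool.rec (motive := fun _ => Bool) (E_90 (Nat.mod (Bool.rec (motive := fun _ => ℕ) (Bool.rec (motive := fun _ => ℕ) (Bool.rec (motive := fun _ => ℕ) U_g_0 U_g_1 (Nat.ble (nat_lit 578687) q)) (Bool.rec (motive := fun _ => ℕ) U_g_2 U_g_3 (Nat.ble (nat_lit 688217) q)) (Nat.ble (nat_lit 633263) q)) (Bool.rec (motive := fun _ => ℕ)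 (Bool.rec (motive := fun _ => ℕ) U_g_4 U_g_5 (Nat.ble (nat_lit 798799) q)) (Bool.rec (motive := fun _ => ℕ) U_g_6 U_g_7 (Nat.ble (nat_lit 910583) q)) (Nat.ble (nat_lit 854921) q)) (Nat.ble (nat_lit 743363) q)) q) q) (E_91 (Nat.mod (Bool.rec (motive := fun _ => ℕ) (Bool.rec (motive := fun _ => ℕ) (Bool.rec (motive := fun _ => ℕ) U_g_0 U_g_1 (Nat.ble (nat_lit 578687) q)) (Bool.rec (motive := fun _ => ℕ) U_g_2 U_g_3 (Nat.ble (nat_lit 688217) q)) (Nat.ble (nat_lit 633263) q)) (Bool.rec (motive := fun _ => ℕ) (Bool.rec (motive := fun _ => ℕ) U_g_4 U_g_5 (Nat.ble (nat_lit 798799) q)) (Bool.rec (motive := fun _ => ℕ) U_g_6 U_g_7 (Nat.ble (nat_lit 910583) q)) (Nat.ble (nat_lit 854921) q)) (Nat.ble (nat_lit 743363) q)) q) q) (Nat.ble (nat_lit 11) (Nat.mod (Bool.rec (motive := fun _ => ℕ) (Bool.rec (motive := fun _ => ℕ) (Bool.rec (motive := fun _ => ℕ) V_g_0 V_g_1 (Nat.ble (nat_lit 578687) q)) (Bool.rec (motive := fun _ => ℕ) V_g_2 V_g_3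 (Nat.ble (nat_lit 688217) q)) (Nat.ble (nat_lit 633263) q)) (Bool.rec (motive := fun _ => ℕ) (Bool.rec (motive := fun _ => ℕ) V_g_4 V_g_5 (Nat.ble (nat_lit 798799) q)) (Bool.rec (motive := fun _ => ℕ) V_g_6 V_g_7 (Nat.ble (nat_lit 910583) q)) (Nat.ble (nat_lit 854921) q)) (Nat.ble (nat_lit 743363) q)) q))) (Nat.ble (nat_lit 10) (Nat.mod (Bool.rec (motive := fun _ => ℕ) (Bool.rec (motive := fun _ => ℕ) (Bool.rec (motive := fun _ => ℕ) V_g_0 V_g_1 (Nat.ble (nat_lit 578687) q)) (Bool.rec (motive := fun _ => ℕ) V_g_2 V_g_3 (Nat.ble (nat_lit 688217) q)) (Nat.ble (nat_lit 633263) q)) (Bool.rec (motive := fun _ => ℕ) (Bool.rec (motive := fun _ => ℕ) V_g_4 V_g_5 (Nat.ble (nat_lit 798799) q)) (Bool.rec (motive := fun _ => ℕ) V_g_6 V_g_7 (Nat.ble (nat_lit 910583) q)) (Nat.ble (nat_lit 854921) q)) (Nat.ble (nat_lit 743363) q)) q))) (Nat.ble (nat_lit 9) (Nat.mod (Bool.rec (motive := fun _ => ℕ) (Bool.rec (motive := fun _ => ℕ) (Bool.rec (motive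 := fun _ => ℕ) V_g_0 V_g_1 (Nat.ble (nat_lit 578687) q)) (Bool.rec (motive := fun _ => ℕ) V_g_2 V_g_3 (Nat.ble (nat_lit 688217) q)) (Nat.ble (nat_lit 633263) q)) (Bool.rec (motive := fun _ => ℕ) (Bool.rec (motive := fun _ => ℕ) V_g_4 V_g_5 (Nat.ble (nat_lit 798799) q)) (Bool.rec (motive := fun _ => ℕ) V_g_6 V_g_7 (Nat.ble (nat_lit 910583) q)) (Nat.ble (nat_lit 854921) q)) (Nat.ble (nat_lit 743363) q)) q))) (Nat.ble (nat_lit 7) (Nat.mod (Bool.rec (motive := fun _ => ℕ) (Bool.rec (motive := fun _ => ℕ) (Bool.rec (motive := fun _ => ℕ) V_g_0 V_g_1 (Nat.ble (nat_lit 578687) q)) (Bool.rec (motive := fun _ => ℕ) V_g_2 V_g_3 (Nat.ble (nat_lit 688217) q)) (Nat.ble (nat_lit 633263) q)) (Bool.rec (motive := fun _ => ℕ) (Bool.rec (motive := fun _ => ℕ) V_g_4 V_g_5 (Nat.ble (nat_lit 798799) q)) (Bool.rec (motive := fun _ => ℕ) V_g_6 V_g_7 (Nat.ble (nat_lit 910583) q)) (Nat.ble (nat_lit 854921) q)) (Nat.ble (nat_lit 743363) q)) q))) (Nat.ble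 (nat_lit 2) (Nat.mod (Bool.rec (motive := fun _ => ℕ) (Bool.rec (motive := fun _ => ℕ) (Bool.rec (motive := fun _ => ℕ) V_g_0 V_g_1 (Nat.ble (nat_lit 578687) q)) (Bool.rec (motive := fun _ => ℕ) V_g_2 V_g_3 (Nat.ble (nat_lit 688217) q)) (Nat.ble (nat_lit 633263) q)) (Bool.rec (motive := fun _ => ℕ) (Bool.rec (motive := fun _ => ℕ) V_g_4 V_g_5 (Nat.ble (nat_lit 798799) q)) (Bool.rec (motive := fun _ => ℕ) V_g_6 V_g_7 (Nat.ble (nat_lit 910583) q)) (Nat.ble (nat_lit 854921) q)) (Nat.ble (nat_lit 743363) q)) q)))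
noncomputable def E_92 (t q : ℕ) : Bool := Nat.beq (G_j t (F_j q)) q
noncomputable def a_92 : CfsgLib.TC.AG Col := .word .j 49 0 true [Col.j]
noncomputable def E_93 (t q : ℕ) : Bool := Nat.beq (G_a t (G_j t (G_a t (F_j q)))) q
noncomputable def a_93 : CfsgLib.TC.AG Col := .word .j 7 0 true [Col.a, Col.j, Col.a]
noncomputable def E_94 (t q : ℕ) : Bool := Nat.beq (G_b t (G_j t (G_b t (F_j q)))) q
noncomputable def a_94 : CfsgLib.TC.AG Col := .word .j 16 0 true [Col.b, Col.j, Col.b]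
noncomputable def E_95 (t q : ℕ) : Bool := Nat.beq (G_c t (G_j t (G_c t (F_j q)))) q
noncomputable def a_95 : CfsgLib.TC.AG Col := .word .j 24 0 true [Col.c, Col.j, Col.c]
noncomputable def E_96 (t q : ℕ) : Bool := band (Nat.beq (PT (F_j q)) q) (band (Nat.beq (DT (F_j q)) 7) (band (Nat.ble (Nat.succ q) (F_j q)) (Nat.ble (Nat.succ q0) (F_j q))))
noncomputable def a_96 : CfsgLib.TC.AG Col := .tree .j
noncomputable def E_97 (t q : ℕ) : Bool := Nat.beq (G_d t (G_j t (G_d t (F_j q)))) q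
noncomputable def a_97 : CfsgLib.TC.AG Col := .word .j 31 0 true [Col.d, Col.j, Col.d]
noncomputable def E_98 (t q : ℕ) : Bool := Nat.beq (G_e t (G_j t (G_e t (F_j q)))) q
noncomputable def a_98 : CfsgLib.TC.AG Col := .word .j 37 0 true [Col.e, Col.j, Col.e]
noncomputable def E_99 (t q : ℕ) : Bool := Nat.beq (G_f t (G_j t (G_f t (F_j q)))) q
noncomputable def a_99 : CfsgLib.TC.AG Col := .word .j 42 0 true [Col.f, Col.j, Col.f]
noncomputable def E_100 (t q : ℕ) : Bool := Nat.beq (G_h t (G_j t (G_h t (F_j q)))) q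
noncomputable def a_100 : CfsgLib.TC.AG Col := .word .j 50 1 true [Col.h, Col.j, Col.h]
noncomputable def E_101 (t q : ℕ) : Bool := Nat.beq (G_i t (G_j t (G_i t (F_j q)))) q
noncomputable def a_101 : CfsgLib.TC.AG Col := .word .j 51 1 true [Col.i, Col.j, Col.i]
noncomputable def E_102 (t q : ℕ) : Bool := Nat.beq (G_g t (G_j t (G_g t (G_j t (G_g t (F_j q)))))) q
noncomputable def a_102 : CfsgLib.TC.AG Col := .word .j 46 0 true [Col.g, Col.j, Col.g, Col.j, Col.g]
noncomputable def D_j (q : ℕ) : Bool := (Bool.rec (motive := fun _ => Bool) (Bool.rec (motive := fun _ => Bool) (E_92 (Nat.mod (Bool.rec (motive := fun _ => ℕ) (Bool.rec (motive := fun _ => ℕ) (Bool.rec (motive := fun _ => ℕ) U_j_0 U_j_1 (Nat.ble (nat_lit 578687) q)) (Bool.rec (motive := fun _ => ℕ) U_j_2 U_j_3 (Nat.ble (nat_lit 688217) q)) (Nat.ble (nat_lit 633263) q)) (Bool.rec (motive := fun _ => ℕ) (Bool.rec (motive := fun _ => ℕ) U_j_4 U_j_5 (Nat.ble (nat_lit 798799)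 q)) (Bool.rec (motive := fun _ => ℕ) U_j_6 U_j_7 (Nat.ble (nat_lit 910583) q)) (Nat.ble (nat_lit 854921) q)) (Nat.ble (nat_lit 743363) q)) q) q) (E_93 (Nat.mod (Bool.rec (motive := fun _ => ℕ) (Bool.rec (motive := fun _ => ℕ) (Bool.rec (motive := fun _ => ℕ) U_j_0 U_j_1 (Nat.ble (nat_lit 578687) q)) (Bool.rec (motive := fun _ => ℕ) U_j_2 U_j_3 (Nat.ble (nat_lit 688217) q)) (Nat.ble (nat_lit 633263) q)) (Bool.rec (motive := fun _ => ℕ) (Bool.rec (motive := fun _ => ℕ) U_j_4 U_j_5 (Nat.ble (nat_lit 798799) q)) (Bool.rec (motive := fun _ => ℕ) U_j_6 U_j_7 (Nat.ble (nat_lit 910583) q)) (Nat.ble (nat_lit 854921) q)) (Nat.ble (nat_lit 743363) q)) q) q) (Nat.ble (nat_lit 1) (Nat.mod (Bool.rec (motive := fun _ => ℕ) (Bool.rec (motive := fun _ => ℕ) (Bool.rec (motive := fun _ => ℕ) V_j_0 V_j_1 (Nat.ble (nat_lit 578687) q)) (Bool.rec (motive := fun _ => ℕ) V_j_2 V_j_3 (Nat.ble (nat_lit 688217) q)) (Nat.ble (nat_lit 633263) q)) (Bool.rec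 (motive := fun _ => ℕ) (Bool.rec (motive := fun _ => ℕ) V_j_4 V_j_5 (Nat.ble (nat_lit 798799) q)) (Bool.rec (motive := fun _ => ℕ) V_j_6 V_j_7 (Nat.ble (nat_lit 910583) q)) (Nat.ble (nat_lit 854921) q)) (Nat.ble (nat_lit 743363) q)) q))) (Bool.rec (motive := fun _ => Bool) (Bool.rec (motive := fun _ => Bool) (Bool.rec (motive := fun _ => Bool) (E_94 (Nat.mod (Bool.rec (motive := fun _ => ℕ) (Bool.rec (motive := fun _ => ℕ) (Bool.rec (motive := fun _ => ℕ) U_j_0 U_j_1 (Nat.ble (nat_lit 578687) q)) (Bool.rec (motive := fun _ => ℕ) U_j_2 U_j_3 (Nat.ble (nat_lit 688217) q)) (Nat.ble (nat_lit 633263) q)) (Bool.rec (motive := fun _ => ℕ) (Bool.rec (motive := fun _ => ℕ) U_j_4 U_j_5 (Nat.ble (nat_lit 798799) q)) (Bool.rec (motive := fun _ => ℕ) U_j_6 U_j_7 (Nat.ble (nat_lit 910583) q)) (Nat.ble (nat_lit 854921) q)) (Nat.ble (nat_lit 743363) q)) q) q) (E_95 (Nat.mod (Bool.rec (motive := fun _ => ℕ) (Bool.rec (motive := fun _ => ℕ) (Bool.rec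 (motive := fun _ => ℕ) U_j_0 U_j_1 (Nat.ble (nat_lit 578687) q)) (Bool.rec (motive := fun _ => ℕ) U_j_2 U_j_3 (Nat.ble (nat_lit 688217) q)) (Nat.ble (nat_lit 633263) q)) (Bool.rec (motive := fun _ => ℕ) (Bool.rec (motive := fun _ => ℕ) U_j_4 U_j_5 (Nat.ble (nat_lit 798799) q)) (Bool.rec (motive := fun _ => ℕ) U_j_6 U_j_7 (Nat.ble (nat_lit 910583) q)) (Nat.ble (nat_lit 854921) q)) (Nat.ble (nat_lit 743363) q)) q) q) (Nat.ble (nat_lit 3) (Nat.mod (Bool.rec (motive := fun _ => ℕ) (Bool.rec (motive := fun _ => ℕ) (Bool.rec (motive := fun _ => ℕ) V_j_0 V_j_1 (Nat.ble (nat_lit 578687) q)) (Bool.rec (motive := fun _ => ℕ) V_j_2 V_j_3 (Nat.ble (nat_lit 688217) q)) (Nat.ble (nat_lit 633263) q)) (Bool.rec (motive := fun _ => ℕ) (Bool.rec (motive := fun _ => ℕ) V_j_4 V_j_5 (Nat.ble (nat_lit 798799) q)) (Bool.rec (motive := fun _ => ℕ) V_j_6 V_j_7 (Nat.ble (nat_lit 910583) q)) (Nat.ble (nat_lit 854921) q)) (Nat.ble (nat_lit 743363) q)) q)))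 (Bool.rec (motive := fun _ => Bool) (E_96 (Nat.mod (Bool.rec (motive := fun _ => ℕ) (Bool.rec (motive := fun _ => ℕ) (Bool.rec (motive := fun _ => ℕ) U_j_0 U_j_1 (Nat.ble (nat_lit 578687) q)) (Bool.rec (motive := fun _ => ℕ) U_j_2 U_j_3 (Nat.ble (nat_lit 688217) q)) (Nat.ble (nat_lit 633263) q)) (Bool.rec (motive := fun _ => ℕ) (Bool.rec (motive := fun _ => ℕ) U_j_4 U_j_5 (Nat.ble (nat_lit 798799) q)) (Bool.rec (motive := fun _ => ℕ) U_j_6 U_j_7 (Nat.ble (nat_lit 910583) q)) (Nat.ble (nat_lit 854921) q)) (Nat.ble (nat_lit 743363) q)) q) q) (E_97 (Nat.mod (Bool.rec (motive := fun _ => ℕ) (Bool.rec (motive := fun _ => ℕ) (Bool.rec (motive := fun _ => ℕ) U_j_0 U_j_1 (Nat.ble (nat_lit 578687) q)) (Bool.rec (motive := fun _ => ℕ) U_j_2 U_j_3 (Nat.ble (nat_lit 688217) q)) (Nat.ble (nat_lit 633263) q)) (Bool.rec (motive := fun _ => ℕ) (Bool.rec (motive := fun _ => ℕ) U_j_4 U_j_5 (Nat.ble (nat_lit 798799) q)) (Bool.rec (motive := fun _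 => ℕ) U_j_6 U_j_7 (Nat.ble (nat_lit 910583) q)) (Nat.ble (nat_lit 854921) q)) (Nat.ble (nat_lit 743363) q)) q) q) (Nat.ble (nat_lit 5) (Nat.mod (Bool.rec (motive := fun _ => ℕ) (Bool.rec (motive := fun _ => ℕ) (Bool.rec (motive := fun _ => ℕ) V_j_0 V_j_1 (Nat.ble (nat_lit 578687) q)) (Bool.rec (motive := fun _ => ℕ) V_j_2 V_j_3 (Nat.ble (nat_lit 688217) q)) (Nat.ble (nat_lit 633263) q)) (Bool.rec (motive := fun _ => ℕ) (Bool.rec (motive := fun _ => ℕ) V_j_4 V_j_5 (Nat.ble (nat_lit 798799) q)) (Bool.rec (motive := fun _ => ℕ) V_j_6 V_j_7 (Nat.ble (nat_lit 910583) q)) (Nat.ble (nat_lit 854921) q)) (Nat.ble (nat_lit 743363) q)) q))) (Nat.ble (nat_lit 4) (Nat.mod (Bool.rec (motive := fun _ => ℕ) (Bool.rec (motive := fun _ => ℕ) (Bool.rec (motive := fun _ => ℕ) V_j_0 V_j_1 (Nat.ble (nat_lit 578687) q)) (Bool.rec (motive := fun _ => ℕ) V_j_2 V_j_3 (Nat.ble (nat_lit 688217) q)) (Nat.ble (nat_lit 633263) q)) (Bool.rec (motive := fun _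 => ℕ) (Bool.rec (motive := fun _ => ℕ) V_j_4 V_j_5 (Nat.ble (nat_lit 798799) q)) (Bool.rec (motive := fun _ => ℕ) V_j_6 V_j_7 (Nat.ble (nat_lit 910583) q)) (Nat.ble (nat_lit 854921) q)) (Nat.ble (nat_lit 743363) q)) q))) (Bool.rec (motive := fun _ => Bool) (Bool.rec (motive := fun _ => Bool) (E_98 (Nat.mod (Bool.rec (motive := fun _ => ℕ) (Bool.rec (motive := fun _ => ℕ) (Bool.rec (motive := fun _ => ℕ) U_j_0 U_j_1 (Nat.ble (nat_lit 578687) q)) (Bool.rec (motive := fun _ => ℕ) U_j_2 U_j_3 (Nat.ble (nat_lit 688217) q)) (Nat.ble (nat_lit 633263) q)) (Bool.rec (motive := fun _ => ℕ) (Bool.rec (motive := fun _ => ℕ) U_j_4 U_j_5 (Nat.ble (nat_lit 798799) q)) (Bool.rec (motive := fun _ => ℕ) U_j_6 U_j_7 (Nat.ble (nat_lit 910583) q)) (Nat.ble (nat_lit 854921) q)) (Nat.ble (nat_lit 743363) q)) q) q) (E_99 (Nat.mod (Bool.rec (motive := fun _ => ℕ) (Bool.rec (motive := fun _ => ℕ) (Bool.rec (motive := fun _ => ℕ) U_j_0 U_j_1 (Nat.ble (nat_lit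 578687) q)) (Bool.rec (motive := fun _ => ℕ) U_j_2 U_j_3 (Nat.ble (nat_lit 688217) q)) (Nat.ble (nat_lit 633263) q)) (Bool.rec (motive := fun _ => ℕ) (Bool.rec (motive := fun _ => ℕ) U_j_4 U_j_5 (Nat.ble (nat_lit 798799) q)) (Bool.rec (motive := fun _ => ℕ) U_j_6 U_j_7 (Nat.ble (nat_lit 910583) q)) (Nat.ble (nat_lit 854921) q)) (Nat.ble (nat_lit 743363) q)) q) q) (Nat.ble (nat_lit 7) (Nat.mod (Bool.rec (motive := fun _ => ℕ) (Bool.rec (motive := fun _ => ℕ) (Bool.rec (motive := fun _ => ℕ) V_j_0 V_j_1 (Nat.ble (nat_lit 578687) q)) (Bool.rec (motive := fun _ => ℕ) V_j_2 V_j_3 (Nat.ble (nat_lit 688217) q)) (Nat.ble (nat_lit 633263) q)) (Bool.rec (motive := fun _ => ℕ) (Bool.rec (motive := fun _ => ℕ) V_j_4 V_j_5 (Nat.ble (nat_lit 798799) q)) (Bool.rec (motive := fun _ => ℕ) V_j_6 V_j_7 (Nat.ble (nat_lit 910583) q)) (Nat.ble (nat_lit 854921) q)) (Nat.ble (nat_lit 743363) q)) q))) (Bool.rec (motive := fun _ => Bool) (E_100 (Nat.mod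 (Bool.rec (motive := fun _ => ℕ) (Bool.rec (motive := fun _ => ℕ) (Bool.rec (motive := fun _ => ℕ) U_j_0 U_j_1 (Nat.ble (nat_lit 578687) q)) (Bool.rec (motive := fun _ => ℕ) U_j_2 U_j_3 (Nat.ble (nat_lit 688217) q)) (Nat.ble (nat_lit 633263) q)) (Bool.rec (motive := fun _ => ℕ) (Bool.rec (motive := fun _ => ℕ) U_j_4 U_j_5 (Nat.ble (nat_lit 798799) q)) (Bool.rec (motive := fun _ => ℕ) U_j_6 U_j_7 (Nat.ble (nat_lit 910583) q)) (Nat.ble (nat_lit 854921) q)) (Nat.ble (nat_lit 743363) q)) q) q) (Bool.rec (motive := fun _ => Bool) (E_101 (Nat.mod (Bool.rec (motive := fun _ => ℕ) (Bool.rec (motive := fun _ => ℕ) (Bool.rec (motive := fun _ => ℕ) U_j_0 U_j_1 (Nat.ble (nat_lit 578687) q)) (Bool.rec (motive := fun _ => ℕ) U_j_2 U_j_3 (Nat.ble (nat_lit 688217) q)) (Nat.ble (nat_lit 633263) q)) (Bool.rec (motive := fun _ => ℕ) (Bool.rec (motive := fun _ => ℕ) U_j_4 U_j_5 (Nat.ble (nat_lit 798799) q)) (Bool.rec (motive := fun _ => ℕ) U_j_6 U_j_7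 (Nat.ble (nat_lit 910583) q)) (Nat.ble (nat_lit 854921) q)) (Nat.ble (nat_lit 743363) q)) q) q) (E_102 (Nat.mod (Bool.rec (motive := fun _ => ℕ) (Bool.rec (motive := fun _ => ℕ) (Bool.rec (motive := fun _ => ℕ) U_j_0 U_j_1 (Nat.ble (nat_lit 578687) q)) (Bool.rec (motive := fun _ => ℕ) U_j_2 U_j_3 (Nat.ble (nat_lit 688217) q)) (Nat.ble (nat_lit 633263) q)) (Bool.rec (motive := fun _ => ℕ) (Bool.rec (motive := fun _ => ℕ) U_j_4 U_j_5 (Nat.ble (nat_lit 798799) q)) (Bool.rec (motive := fun _ => ℕ) U_j_6 U_j_7 (Nat.ble (nat_lit 910583) q)) (Nat.ble (nat_lit 854921) q)) (Nat.ble (nat_lit 743363) q)) q) q) (Nat.ble (nat_lit 10) (Nat.mod (Bool.rec (motive := fun _ => ℕ) (Bool.rec (motive := fun _ => ℕ) (Bool.rec (motive := fun _ => ℕ) V_j_0 V_j_1 (Nat.ble (nat_lit 578687) q)) (Bool.rec (motive := fun _ => ℕ) V_j_2 V_j_3 (Nat.ble (nat_lit 688217) q)) (Nat.ble (nat_lit 633263) q)) (Bool.rec (motive := fun _ => ℕ) (Bool.rec (motive := fun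 _ => ℕ) V_j_4 V_j_5 (Nat.ble (nat_lit 798799) q)) (Bool.rec (motive := fun _ => ℕ) V_j_6 V_j_7 (Nat.ble (nat_lit 910583) q)) (Nat.ble (nat_lit 854921) q)) (Nat.ble (nat_lit 743363) q)) q))) (Nat.ble (nat_lit 9) (Nat.mod (Bool.rec (motive := fun _ => ℕ) (Bool.rec (motive := fun _ => ℕ) (Bool.rec (motive := fun _ => ℕ) V_j_0 V_j_1 (Nat.ble (nat_lit 578687) q)) (Bool.rec (motive := fun _ => ℕ) V_j_2 V_j_3 (Nat.ble (nat_lit 688217) q)) (Nat.ble (nat_lit 633263) q)) (Bool.rec (motive := fun _ => ℕ) (Bool.rec (motive := fun _ => ℕ) V_j_4 V_j_5 (Nat.ble (nat_lit 798799) q)) (Bool.rec (motive := fun _ => ℕ) V_j_6 V_j_7 (Nat.ble (nat_lit 910583) q)) (Nat.ble (nat_lit 854921) q)) (Nat.ble (nat_lit 743363) q)) q))) (Nat.ble (nat_lit 8) (Nat.mod (Bool.rec (motive := fun _ => ℕ) (Bool.rec (motive := fun _ => ℕ) (Bool.rec (motive := fun _ => ℕ) V_j_0 V_j_1 (Nat.ble (nat_lit 578687) q)) (Bool.rec (motive := fun _ => ℕ) V_j_2 V_j_3 (Nat.ble (nat_lit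 688217) q)) (Nat.ble (nat_lit 633263) q)) (Bool.rec (motive := fun _ => ℕ) (Bool.rec (motive := fun _ => ℕ) V_j_4 V_j_5 (Nat.ble (nat_lit 798799) q)) (Bool.rec (motive := fun _ => ℕ) V_j_6 V_j_7 (Nat.ble (nat_lit 910583) q)) (Nat.ble (nat_lit 854921) q)) (Nat.ble (nat_lit 743363) q)) q))) (Nat.ble (nat_lit 6) (Nat.mod (Bool.rec (motive := fun _ => ℕ) (Bool.rec (motive := fun _ => ℕ) (Bool.rec (motive := fun _ => ℕ) V_j_0 V_j_1 (Nat.ble (nat_lit 578687) q)) (Bool.rec (motive := fun _ => ℕ) V_j_2 V_j_3 (Nat.ble (nat_lit 688217) q)) (Nat.ble (nat_lit 633263) q)) (Bool.rec (motive := fun _ => ℕ) (Bool.rec (motive := fun _ => ℕ) V_j_4 V_j_5 (Nat.ble (nat_lit 798799) q)) (Bool.rec (motive := fun _ => ℕ) V_j_6 V_j_7 (Nat.ble (nat_lit 910583) q)) (Nat.ble (nat_lit 854921) q)) (Nat.ble (nat_lit 743363) q)) q))) (Nat.ble (nat_lit 2) (Nat.mod (Bool.rec (motive := fun _ => ℕ) (Bool.rec (motive := fun _ => ℕ) (Bool.rec (motive := fun _ => ℕ)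 V_j_0 V_j_1 (Nat.ble (nat_lit 578687) q)) (Bool.rec (motive := fun _ => ℕ) V_j_2 V_j_3 (Nat.ble (nat_lit 688217) q)) (Nat.ble (nat_lit 633263) q)) (Bool.rec (motive := fun _ => ℕ) (Bool.rec (motive := fun _ => ℕ) V_j_4 V_j_5 (Nat.ble (nat_lit 798799) q)) (Bool.rec (motive := fun _ => ℕ) V_j_6 V_j_7 (Nat.ble (nat_lit 910583) q)) (Nat.ble (nat_lit 854921) q)) (Nat.ble (nat_lit 743363) q)) q)))
noncomputable def E_103 (t q : ℕ) : Bool := Nat.beq (G_h t (F_h q)) q
noncomputable def a_103 : CfsgLib.TC.AG Col := .word .h 52 0 true [Col.h]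
noncomputable def E_104 (t q : ℕ) : Bool := band (Nat.beq (PT (F_h q)) q) (band (Nat.beq (DT (F_h q)) 8) (band (Nat.ble (Nat.succ q) (F_h q)) (Nat.ble (Nat.succ q0) (F_h q))))
noncomputable def a_104 : CfsgLib.TC.AG Col := .tree .h
noncomputable def E_105 (t q : ℕ) : Bool := Nat.beq (G_a t (G_h t (G_a t (F_h q)))) q
noncomputable def a_105 : CfsgLib.TC.AG Col := .word .h 8 0 true [Col.a, Col.h, Col.a]
noncomputable def E_106 (t q : ℕ) : Bool := Nat.beq (G_b t (G_h t (G_b t (F_h q)))) q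
noncomputable def a_106 : CfsgLib.TC.AG Col := .word .h 17 0 true [Col.b, Col.h, Col.b]
noncomputable def E_107 (t q : ℕ) : Bool := Nat.beq (G_c t (G_h t (G_c t (F_h q)))) q
noncomputable def a_107 : CfsgLib.TC.AG Col := .word .h 25 0 true [Col.c, Col.h, Col.c]
noncomputable def E_108 (t q : ℕ) : Bool := Nat.beq (G_e t (G_h t (G_e t (F_h q)))) q
noncomputable def a_108 : CfsgLib.TC.AG Col := .word .h 38 0 true [Col.e, Col.h, Col.e]
noncomputable def E_109 (t q : ℕ) : Bool := Nat.beq (G_f t (G_h t (G_f t (F_h q)))) q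
noncomputable def a_109 : CfsgLib.TC.AG Col := .word .h 43 0 true [Col.f, Col.h, Col.f]
noncomputable def E_110 (t q : ℕ) : Bool := Nat.beq (G_g t (G_h t (G_g t (F_h q)))) q
noncomputable def a_110 : CfsgLib.TC.AG Col := .word .h 47 0 true [Col.g, Col.h, Col.g]
noncomputable def E_111 (t q : ℕ) : Bool := Nat.beq (G_j t (G_h t (G_j t (F_h q)))) q
noncomputable def a_111 : CfsgLib.TC.AG Col := .word .h 50 0 true [Col.j, Col.h, Col.j]
noncomputable def E_112 (t q : ℕ) : Bool := Nat.beq (G_d t (G_h t (G_d t (G_h t (G_d t (F_h q)))))) q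
noncomputable def a_112 : CfsgLib.TC.AG Col := .word .h 32 0 true [Col.d, Col.h, Col.d, Col.h, Col.d]
noncomputable def E_113 (t q : ℕ) : Bool := Nat.beq (G_i t (G_h t (G_i t (G_h t (G_i t (F_h q)))))) q
noncomputable def a_113 : CfsgLib.TC.AG Col := .word .h 53 1 true [Col.i, Col.h, Col.i, Col.h, Col.i]
noncomputable def E_114 (t q : ℕ) : Bool := Nat.beq (G_a t (G_b t (G_c t (G_d t (G_e t (G_f t (G_h t (G_a t (G_b t (G_c t (G_d t (G_e t (G_f t (G_h t (G_a t (G_b t (G_c t (G_d t (G_e t (G_f t (G_h t (G_a t (G_b t (G_c t (G_d t (G_e t (G_f t (G_h t (G_a t (G_b t (G_c t (G_d t (G_e t (G_f t (G_h t (G_a t (G_b t (G_c t (G_d t (G_e t (G_f t (G_h t (G_a t (G_b t (G_c t (G_d t (G_e t (G_f t (G_h t (G_a t (G_b t (G_c t (G_d t (G_e t (G_f t (G_h t (G_a t (G_b t (G_c t (G_d t (G_e t (G_f t (F_h q))))))))))))))))))))))))))))))))))))))))))))))))))))))))))))))) q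
noncomputable def a_114 : CfsgLib.TC.AG Col := .word .h 56 0 true [Col.f, Col.e, Col.d, Col.c, Col.b, Col.a, Col.h, Col.f, Col.e, Col.d, Col.c, Col.b, Col.a, Col.h, Col.f, Col.e, Col.d, Col.c, Col.b, Col.a, Col.h, Col.f, Col.e, Col.d, Col.c, Col.b, Col.a, Col.h, Col.f, Col.e, Col.d, Col.c, Col.b, Col.a, Col.h, Col.f, Col.e, Col.d, Col.c, Col.b, Col.a, Col.h, Col.f, Col.e, Col.d, Col.c, Col.b, Col.a, Col.h, Col.f, Col.e, Col.d, Col.c, Col.b, Col.a, Col.h, Col.f, Col.e, Col.d, Col.c, Col.b, Col.a]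
noncomputable def E_115 (t q : ℕ) : Bool := band (Nat.beq q0 q) (Nat.beq (F_h q) q0)
noncomputable def a_115 : CfsgLib.TC.AG Col := .base .h 7 [] []
noncomputable def E_116 (t q : ℕ) : Bool := Nat.beq (G_i t (G_d t (G_c t (G_b t (G_d t (G_e t (G_f t (G_d t (G_h t (G_i t (G_d t (G_c t (G_b t (G_d t (G_e t (G_f t (G_d t (G_h t (G_i t (G_d t (G_c t (G_b t (G_d t (G_e t (G_f t (G_d t (G_h t (G_i t (G_d t (G_c t (G_b t (G_d t (G_e t (G_f t (G_d t (G_h t (G_i t (G_d t (G_c t (G_b t (G_d t (G_e t (G_f t (G_d t (G_h t (G_i t (G_d t (G_c t (G_b t (G_d t (G_e t (G_f t (G_d t (G_h t (G_i t (G_d t (G_c t (G_b t (G_d t (G_e t (G_f t (G_d t (G_h t (G_i t (G_d t (G_c t (G_b t (G_d t (G_e t (G_f t (G_d t (G_h t (G_i t (G_d t (G_c t (G_b t (G_d t (G_e t (G_f t (G_d t (G_h t (G_i t (G_d t (G_c t (G_b t (G_d t (G_e t (G_f t (G_d t (F_h q)))))))))))))))))))))))))))))))))))))))))))))))))))))))))))))))))))))))))))))))))))))))))) q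
noncomputable def a_116 : CfsgLib.TC.AG Col := .word .h 55 1 true [Col.d, Col.f, Col.e, Col.d, Col.b, Col.c, Col.d, Col.i, Col.h, Col.d, Col.f, Col.e, Col.d, Col.b, Col.c, Col.d, Col.i, Col.h, Col.d, Col.f, Col.e, Col.d, Col.b, Col.c, Col.d, Col.i, Col.h, Col.d, Col.f, Col.e, Col.d, Col.b, Col.c, Col.d, Col.i, Col.h, Col.d, Col.f, Col.e, Col.d, Col.b, Col.c, Col.d, Col.i, Col.h, Col.d, Col.f, Col.e, Col.d, Col.b, Col.c, Col.d, Col.i, Col.h, Col.d, Col.f, Col.e, Col.d, Col.b, Col.c, Col.d, Col.i, Col.h, Col.d, Col.f, Col.e, Col.d, Col.b, Col.c, Col.d, Col.i, Col.h, Col.d, Col.f, Col.e, Col.d, Col.b, Col.c, Col.d, Col.i, Col.h, Col.d, Col.f, Col.e, Col.d, Col.b, Col.c, Col.d, Col.i]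
noncomputable def E_117 (t q : ℕ) : Bool := Nat.beq (G_f t (G_e t (G_d t (G_c t (G_b t (G_a t (G_h t (G_f t (G_e t (G_d t (G_c t (G_b t (G_a t (G_h t (G_f t (G_e t (G_d t (G_c t (G_b t (G_a t (G_h t (G_f t (G_e t (G_d t (G_c t (G_b t (G_a t (G_h t (G_f t (G_e t (G_d t (G_c t (G_b t (G_a t (G_h t (G_f t (G_e t (G_d t (G_c t (G_b t (G_a t (G_h t (G_f t (G_e t (G_d t (G_c t (G_b t (G_a t (G_h t (G_f t (G_e t (G_d t (G_c t (G_b t (G_a t (G_h t (G_f t (G_e t (G_d t (G_c t (G_b t (G_a t (F_h q))))))))))))))))))))))))))))))))))))))))))))))))))))))))))))))) q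
noncomputable def a_117 : CfsgLib.TC.AG Col := .word .h 56 6 false [Col.a, Col.b, Col.c, Col.d, Col.e, Col.f, Col.h, Col.a, Col.b, Col.c, Col.d, Col.e, Col.f, Col.h, Col.a, Col.b, Col.c, Col.d, Col.e, Col.f, Col.h, Col.a, Col.b, Col.c, Col.d, Col.e, Col.f, Col.h, Col.a, Col.b, Col.c, Col.d, Col.e, Col.f, Col.h, Col.a, Col.b, Col.c, Col.d, Col.e, Col.f, Col.h, Col.a, Col.b, Col.c, Col.d, Col.e, Col.f, Col.h, Col.a, Col.b, Col.c, Col.d, Col.e, Col.f, Col.h, Col.a, Col.b, Col.c, Col.d, Col.e, Col.f]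
noncomputable def D_h (q : ℕ) : Bool := (Bool.rec (motive := fun _ => Bool) (Bool.rec (motive := fun _ => Bool) (E_103 (Nat.mod (Bool.rec (motive := fun _ => ℕ) (Bool.rec (motive := fun _ => ℕ) (Bool.rec (motive := fun _ => ℕ) U_h_0 U_h_1 (Nat.ble (nat_lit 578687) q)) (Bool.rec (motive := fun _ => ℕ) U_h_2 U_h_3 (Nat.ble (nat_lit 688217) q)) (Nat.ble (nat_lit 633263) q)) (Bool.rec (motive := fun _ => ℕ) (Bool.rec (motive := fun _ => ℕ) U_h_4 U_h_5 (Nat.ble (nat_lit 798799) q)) (Bool.rec (motive := fun _ => ℕ) U_h_6 U_h_7 (Nat.ble (nat_lit 910583) q)) (Nat.ble (nat_lit 854921) q)) (Nat.ble (nat_lit 743363) q)) q) q) (E_104 (Nat.mod (Bool.rec (motive := fun _ => ℕ) (Bool.rec (motive := fun _ => ℕ) (Bool.rec (motive := fun _ => ℕ) U_h_0 U_h_1 (Nat.ble (nat_lit 578687) q)) (Bool.rec (motive := fun _ => ℕ) U_h_2 U_h_3 (Nat.ble (nat_lit 688217) q)) (Nat.ble (nat_lit 633263) q)) (Bool.rec (motive := fun _ => ℕ) (Bool.rec (motive := fun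 _ => ℕ) U_h_4 U_h_5 (Nat.ble (nat_lit 798799) q)) (Bool.rec (motive := fun _ => ℕ) U_h_6 U_h_7 (Nat.ble (nat_lit 910583) q)) (Nat.ble (nat_lit 854921) q)) (Nat.ble (nat_lit 743363) q)) q) q) (Nat.ble (nat_lit 1) (Nat.mod (Bool.rec (motive := fun _ => ℕ) (Bool.rec (motive := fun _ => ℕ) (Bool.rec (motive := fun _ => ℕ) V_h_0 V_h_1 (Nat.ble (nat_lit 578687) q)) (Bool.rec (motive := fun _ => ℕ) V_h_2 V_h_3 (Nat.ble (nat_lit 688217) q)) (Nat.ble (nat_lit 633263) q)) (Bool.rec (motive := fun _ => ℕ) (Bool.rec (motive := fun _ => ℕ) V_h_4 V_h_5 (Nat.ble (nat_lit 798799) q)) (Bool.rec (motive := fun _ => ℕ) V_h_6 V_h_7 (Nat.ble (nat_lit 910583) q)) (Nat.ble (nat_lit 854921) q)) (Nat.ble (nat_lit 743363) q)) q))) (Bool.rec (motive := fun _ => Bool) (Bool.rec (motive := fun _ => Bool) (Bool.rec (motive := fun _ => Bool) (E_105 (Nat.mod (Bool.rec (motive := fun _ => ℕ) (Bool.rec (motive := fun _ => ℕ) (Bool.rec (motive := fun _ => ℕ) U_h_0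 U_h_1 (Nat.ble (nat_lit 578687) q)) (Bool.rec (motive := fun _ => ℕ) U_h_2 U_h_3 (Nat.ble (nat_lit 688217) q)) (Nat.ble (nat_lit 633263) q)) (Bool.rec (motive := fun _ => ℕ) (Bool.rec (motive := fun _ => ℕ) U_h_4 U_h_5 (Nat.ble (nat_lit 798799) q)) (Bool.rec (motive := fun _ => ℕ) U_h_6 U_h_7 (Nat.ble (nat_lit 910583) q)) (Nat.ble (nat_lit 854921) q)) (Nat.ble (nat_lit 743363) q)) q) q) (Bool.rec (motive := fun _ => Bool) (E_106 (Nat.mod (Bool.rec (motive := fun _ => ℕ) (Bool.rec (motive := fun _ => ℕ) (Bool.rec (motive := fun _ => ℕ) U_h_0 U_h_1 (Nat.ble (nat_lit 578687) q)) (Bool.rec (motive := fun _ => ℕ) U_h_2 U_h_3 (Nat.ble (nat_lit 688217) q)) (Nat.ble (nat_lit 633263) q)) (Bool.rec (motive := fun _ => ℕ) (Bool.rec (motive := fun _ => ℕ) U_h_4 U_h_5 (Nat.ble (nat_lit 798799) q)) (Bool.rec (motive := fun _ => ℕ) U_h_6 U_h_7 (Nat.ble (nat_lit 910583) q)) (Nat.ble (nat_lit 854921) q)) (Nat.ble (nat_lit 743363) q)) q) q) (E_107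 (Nat.mod (Bool.rec (motive := fun _ => ℕ) (Bool.rec (motive := fun _ => ℕ) (Bool.rec (motive := fun _ => ℕ) U_h_0 U_h_1 (Nat.ble (nat_lit 578687) q)) (Bool.rec (motive := fun _ => ℕ) U_h_2 U_h_3 (Nat.ble (nat_lit 688217) q)) (Nat.ble (nat_lit 633263) q)) (Bool.rec (motive := fun _ => ℕ) (Bool.rec (motive := fun _ => ℕ) U_h_4 U_h_5 (Nat.ble (nat_lit 798799) q)) (Bool.rec (motive := fun _ => ℕ) U_h_6 U_h_7 (Nat.ble (nat_lit 910583) q)) (Nat.ble (nat_lit 854921) q)) (Nat.ble (nat_lit 743363) q)) q) q) (Nat.ble (nat_lit 4) (Nat.mod (Bool.rec (motive := fun _ => ℕ) (Bool.rec (motive := fun _ => ℕ) (Bool.rec (motive := fun _ => ℕ) V_h_0 V_h_1 (Nat.ble (nat_lit 578687) q)) (Bool.rec (motive := fun _ => ℕ) V_h_2 V_h_3 (Nat.ble (nat_lit 688217) q)) (Nat.ble (nat_lit 633263) q)) (Bool.rec (motive := fun _ => ℕ) (Bool.rec (motive := fun _ => ℕ) V_h_4 V_h_5 (Nat.ble (nat_lit 798799) q)) (Bool.rec (motive := fun _ => ℕ) V_h_6 V_h_7 (Nat.ble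 (nat_lit 910583) q)) (Nat.ble (nat_lit 854921) q)) (Nat.ble (nat_lit 743363) q)) q))) (Nat.ble (nat_lit 3) (Nat.mod (Bool.rec (motive := fun _ => ℕ) (Bool.rec (motive := fun _ => ℕ) (Bool.rec (motive := fun _ => ℕ) V_h_0 V_h_1 (Nat.ble (nat_lit 578687) q)) (Bool.rec (motive := fun _ => ℕ) V_h_2 V_h_3 (Nat.ble (nat_lit 688217) q)) (Nat.ble (nat_lit 633263) q)) (Bool.rec (motive := fun _ => ℕ) (Bool.rec (motive := fun _ => ℕ) V_h_4 V_h_5 (Nat.ble (nat_lit 798799) q)) (Bool.rec (motive := fun _ => ℕ) V_h_6 V_h_7 (Nat.ble (nat_lit 910583) q)) (Nat.ble (nat_lit 854921) q)) (Nat.ble (nat_lit 743363) q)) q))) (Bool.rec (motive := fun _ => Bool) (E_108 (Nat.mod (Bool.rec (motive := fun _ => ℕ) (Bool.rec (motive := fun _ => ℕ) (Bool.rec (motive := fun _ => ℕ) U_h_0 U_h_1 (Nat.ble (nat_lit 578687) q)) (Bool.rec (motive := fun _ => ℕ) U_h_2 U_h_3 (Nat.ble (nat_lit 688217) q)) (Nat.ble (nat_lit 633263) q)) (Bool.rec (motive := fun _ => ℕ)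 (Bool.rec (motive := fun _ => ℕ) U_h_4 U_h_5 (Nat.ble (nat_lit 798799) q)) (Bool.rec (motive := fun _ => ℕ) U_h_6 U_h_7 (Nat.ble (nat_lit 910583) q)) (Nat.ble (nat_lit 854921) q)) (Nat.ble (nat_lit 743363) q)) q) q) (Bool.rec (motive := fun _ => Bool) (E_109 (Nat.mod (Bool.rec (motive := fun _ => ℕ) (Bool.rec (motive := fun _ => ℕ) (Bool.rec (motive := fun _ => ℕ) U_h_0 U_h_1 (Nat.ble (nat_lit 578687) q)) (Bool.rec (motive := fun _ => ℕ) U_h_2 U_h_3 (Nat.ble (nat_lit 688217) q)) (Nat.ble (nat_lit 633263) q)) (Bool.rec (motive := fun _ => ℕ) (Bool.rec (motive := fun _ => ℕ) U_h_4 U_h_5 (Nat.ble (nat_lit 798799) q)) (Bool.rec (motive := fun _ => ℕ) U_h_6 U_h_7 (Nat.ble (nat_lit 910583) q)) (Nat.ble (nat_lit 854921) q)) (Nat.ble (nat_lit 743363) q)) q) q) (E_110 (Nat.mod (Bool.rec (motive := fun _ => ℕ) (Bool.rec (motive := fun _ => ℕ) (Bool.rec (motive := fun _ => ℕ) U_h_0 U_h_1 (Nat.ble (nat_lit 578687) q)) (Bool.rec (motive :=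 fun _ => ℕ) U_h_2 U_h_3 (Nat.ble (nat_lit 688217) q)) (Nat.ble (nat_lit 633263) q)) (Bool.rec (motive := fun _ => ℕ) (Bool.rec (motive := fun _ => ℕ) U_h_4 U_h_5 (Nat.ble (nat_lit 798799) q)) (Bool.rec (motive := fun _ => ℕ) U_h_6 U_h_7 (Nat.ble (nat_lit 910583) q)) (Nat.ble (nat_lit 854921) q)) (Nat.ble (nat_lit 743363) q)) q) q) (Nat.ble (nat_lit 7) (Nat.mod (Bool.rec (motive := fun _ => ℕ) (Bool.rec (motive := fun _ => ℕ) (Bool.rec (motive := fun _ => ℕ) V_h_0 V_h_1 (Nat.ble (nat_lit 578687) q)) (Bool.rec (motive := fun _ => ℕ) V_h_2 V_h_3 (Nat.ble (nat_lit 688217) q)) (Nat.ble (nat_lit 633263) q)) (Bool.rec (motive := fun _ => ℕ) (Bool.rec (motive := fun _ => ℕ) V_h_4 V_h_5 (Nat.ble (nat_lit 798799) q)) (Bool.rec (motive := fun _ => ℕ) V_h_6 V_h_7 (Nat.ble (nat_lit 910583) q)) (Nat.ble (nat_lit 854921) q)) (Nat.ble (nat_lit 743363) q)) q))) (Nat.ble (nat_lit 6) (Nat.mod (Bool.rec (motive := fun _ => ℕ) (Bool.rec (motive :=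 fun _ => ℕ) (Bool.rec (motive := fun _ => ℕ) V_h_0 V_h_1 (Nat.ble (nat_lit 578687) q)) (Bool.rec (motive := fun _ => ℕ) V_h_2 V_h_3 (Nat.ble (nat_lit 688217) q)) (Nat.ble (nat_lit 633263) q)) (Bool.rec (motive := fun _ => ℕ) (Bool.rec (motive := fun _ => ℕ) V_h_4 V_h_5 (Nat.ble (nat_lit 798799) q)) (Bool.rec (motive := fun _ => ℕ) V_h_6 V_h_7 (Nat.ble (nat_lit 910583) q)) (Nat.ble (nat_lit 854921) q)) (Nat.ble (nat_lit 743363) q)) q))) (Nat.ble (nat_lit 5) (Nat.mod (Bool.rec (motive := fun _ => ℕ) (Bool.rec (motive := fun _ => ℕ) (Bool.rec (motive := fun _ => ℕ) V_h_0 V_h_1 (Nat.ble (nat_lit 578687) q)) (Bool.rec (motive := fun _ => ℕ) V_h_2 V_h_3 (Nat.ble (nat_lit 688217) q)) (Nat.ble (nat_lit 633263) q)) (Bool.rec (motive := fun _ => ℕ) (Bool.rec (motive := fun _ => ℕ) V_h_4 V_h_5 (Nat.ble (nat_lit 798799) q)) (Bool.rec (motive := fun _ => ℕ) V_h_6 V_h_7 (Nat.ble (nat_lit 910583) q)) (Nat.ble (nat_lit 854921) q)) (Nat.ble (nat_lit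 743363) q)) q))) (Bool.rec (motive := fun _ => Bool) (Bool.rec (motive := fun _ => Bool) (E_111 (Nat.mod (Bool.rec (motive := fun _ => ℕ) (Bool.rec (motive := fun _ => ℕ) (Bool.rec (motive := fun _ => ℕ) U_h_0 U_h_1 (Nat.ble (nat_lit 578687) q)) (Bool.rec (motive := fun _ => ℕ) U_h_2 U_h_3 (Nat.ble (nat_lit 688217) q)) (Nat.ble (nat_lit 633263) q)) (Bool.rec (motive := fun _ => ℕ) (Bool.rec (motive := fun _ => ℕ) U_h_4 U_h_5 (Nat.ble (nat_lit 798799) q)) (Bool.rec (motive := fun _ => ℕ) U_h_6 U_h_7 (Nat.ble (nat_lit 910583) q)) (Nat.ble (nat_lit 854921) q)) (Nat.ble (nat_lit 743363) q)) q) q) (Bool.rec (motive := fun _ => Bool) (E_112 (Nat.mod (Bool.rec (motive := fun _ => ℕ) (Bool.rec (motive := fun _ => ℕ) (Bool.rec (motive := fun _ => ℕ) U_h_0 U_h_1 (Nat.ble (nat_lit 578687) q)) (Bool.rec (motive := fun _ => ℕ) U_h_2 U_h_3 (Nat.ble (nat_lit 688217) q)) (Nat.ble (nat_lit 633263) q)) (Bool.rec (motive := fun _ => ℕ) (Bool.rec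 (motive := fun _ => ℕ) U_h_4 U_h_5 (Nat.ble (nat_lit 798799) q)) (Bool.rec (motive := fun _ => ℕ) U_h_6 U_h_7 (Nat.ble (nat_lit 910583) q)) (Nat.ble (nat_lit 854921) q)) (Nat.ble (nat_lit 743363) q)) q) q) (E_113 (Nat.mod (Bool.rec (motive := fun _ => ℕ) (Bool.rec (motive := fun _ => ℕ) (Bool.rec (motive := fun _ => ℕ) U_h_0 U_h_1 (Nat.ble (nat_lit 578687) q)) (Bool.rec (motive := fun _ => ℕ) U_h_2 U_h_3 (Nat.ble (nat_lit 688217) q)) (Nat.ble (nat_lit 633263) q)) (Bool.rec (motive := fun _ => ℕ) (Bool.rec (motive := fun _ => ℕ) U_h_4 U_h_5 (Nat.ble (nat_lit 798799) q)) (Bool.rec (motive := fun _ => ℕ) U_h_6 U_h_7 (Nat.ble (nat_lit 910583) q)) (Nat.ble (nat_lit 854921) q)) (Nat.ble (nat_lit 743363) q)) q) q) (Nat.ble (nat_lit 10) (Nat.mod (Bool.rec (motive := fun _ => ℕ) (Bool.rec (motive := fun _ => ℕ) (Bool.rec (motive := fun _ => ℕ) V_h_0 V_h_1 (Nat.ble (nat_lit 578687) q)) (Bool.rec (motive := fun _ => ℕ) V_h_2 V_h_3 (Nat.ble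 (nat_lit 688217) q)) (Nat.ble (nat_lit 633263) q)) (Bool.rec (motive := fun _ => ℕ) (Bool.rec (motive := fun _ => ℕ) V_h_4 V_h_5 (Nat.ble (nat_lit 798799) q)) (Bool.rec (motive := fun _ => ℕ) V_h_6 V_h_7 (Nat.ble (nat_lit 910583) q)) (Nat.ble (nat_lit 854921) q)) (Nat.ble (nat_lit 743363) q)) q))) (Nat.ble (nat_lit 9) (Nat.mod (Bool.rec (motive := fun _ => ℕ) (Bool.rec (motive := fun _ => ℕ) (Bool.rec (motive := fun _ => ℕ) V_h_0 V_h_1 (Nat.ble (nat_lit 578687) q)) (Bool.rec (motive := fun _ => ℕ) V_h_2 V_h_3 (Nat.ble (nat_lit 688217) q)) (Nat.ble (nat_lit 633263) q)) (Bool.rec (motive := fun _ => ℕ) (Bool.rec (motive := fun _ => ℕ) V_h_4 V_h_5 (Nat.ble (nat_lit 798799) q)) (Bool.rec (motive := fun _ => ℕ) V_h_6 V_h_7 (Nat.ble (nat_lit 910583) q)) (Nat.ble (nat_lit 854921) q)) (Nat.ble (nat_lit 743363) q)) q))) (Bool.rec (motive := fun _ => Bool) (Bool.rec (motive := fun _ => Bool) (E_114 (Nat.mod (Bool.rec (motive := fun _ =>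 ℕ) (Bool.rec (motive := fun _ => ℕ) (Bool.rec (motive := fun _ => ℕ) U_h_0 U_h_1 (Nat.ble (nat_lit 578687) q)) (Bool.rec (motive := fun _ => ℕ) U_h_2 U_h_3 (Nat.ble (nat_lit 688217) q)) (Nat.ble (nat_lit 633263) q)) (Bool.rec (motive := fun _ => ℕ) (Bool.rec (motive := fun _ => ℕ) U_h_4 U_h_5 (Nat.ble (nat_lit 798799) q)) (Bool.rec (motive := fun _ => ℕ) U_h_6 U_h_7 (Nat.ble (nat_lit 910583) q)) (Nat.ble (nat_lit 854921) q)) (Nat.ble (nat_lit 743363) q)) q) q) (E_115 (Nat.mod (Bool.rec (motive := fun _ => ℕ) (Bool.rec (motive := fun _ => ℕ) (Bool.rec (motive := fun _ => ℕ) U_h_0 U_h_1 (Nat.ble (nat_lit 578687) q)) (Bool.rec (motive := fun _ => ℕ) U_h_2 U_h_3 (Nat.ble (nat_lit 688217) q)) (Nat.ble (nat_lit 633263) q)) (Bool.rec (motive := fun _ => ℕ) (Bool.rec (motive := fun _ => ℕ) U_h_4 U_h_5 (Nat.ble (nat_lit 798799) q)) (Bool.rec (motive := fun _ => ℕ) U_h_6 U_h_7 (Nat.ble (nat_lit 910583) q)) (Nat.ble (nat_lit 854921) q)) (Nat.ble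 (nat_lit 743363) q)) q) q) (Nat.ble (nat_lit 12) (Nat.mod (Bool.rec (motive := fun _ => ℕ) (Bool.rec (motive := fun _ => ℕ) (Bool.rec (motive := fun _ => ℕ) V_h_0 V_h_1 (Nat.ble (nat_lit 578687) q)) (Bool.rec (motive := fun _ => ℕ) V_h_2 V_h_3 (Nat.ble (nat_lit 688217) q)) (Nat.ble (nat_lit 633263) q)) (Bool.rec (motive := fun _ => ℕ) (Bool.rec (motive := fun _ => ℕ) V_h_4 V_h_5 (Nat.ble (nat_lit 798799) q)) (Bool.rec (motive := fun _ => ℕ) V_h_6 V_h_7 (Nat.ble (nat_lit 910583) q)) (Nat.ble (nat_lit 854921) q)) (Nat.ble (nat_lit 743363) q)) q))) (Bool.rec (motive := fun _ => Bool) (E_116 (Nat.mod (Bool.rec (motive := fun _ => ℕ) (Bool.rec (motive := fun _ => ℕ) (Bool.rec (motive := fun _ => ℕ) U_h_0 U_h_1 (Nat.ble (nat_lit 578687) q)) (Bool.rec (motive := fun _ => ℕ) U_h_2 U_h_3 (Nat.ble (nat_lit 688217) q)) (Nat.ble (nat_lit 633263) q)) (Bool.rec (motive := fun _ => ℕ) (Bool.rec (motive := fun _ => ℕ) U_h_4 U_h_5 (Nat.ble (nat_lit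 798799) q)) (Bool.rec (motive := fun _ => ℕ) U_h_6 U_h_7 (Nat.ble (nat_lit 910583) q)) (Nat.ble (nat_lit 854921) q)) (Nat.ble (nat_lit 743363) q)) q) q) (E_117 (Nat.mod (Bool.rec (motive := fun _ => ℕ) (Bool.rec (motive := fun _ => ℕ) (Bool.rec (motive := fun _ => ℕ) U_h_0 U_h_1 (Nat.ble (nat_lit 578687) q)) (Bool.rec (motive := fun _ => ℕ) U_h_2 U_h_3 (Nat.ble (nat_lit 688217) q)) (Nat.ble (nat_lit 633263) q)) (Bool.rec (motive := fun _ => ℕ) (Bool.rec (motive := fun _ => ℕ) U_h_4 U_h_5 (Nat.ble (nat_lit 798799) q)) (Bool.rec (motive := fun _ => ℕ) U_h_6 U_h_7 (Nat.ble (nat_lit 910583) q)) (Nat.ble (nat_lit 854921) q)) (Nat.ble (nat_lit 743363) q)) q) q) (Nat.ble (nat_lit 14) (Nat.mod (Bool.rec (motive := fun _ => ℕ) (Bool.rec (motive := fun _ => ℕ) (Bool.rec (motive := fun _ => ℕ) V_h_0 V_h_1 (Nat.ble (nat_lit 578687) q)) (Bool.rec (motive := fun _ => ℕ) V_h_2 V_h_3 (Nat.ble (nat_lit 688217) q)) (Nat.ble (nat_lit 633263) q))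 (Bool.rec (motive := fun _ => ℕ) (Bool.rec (motive := fun _ => ℕ) V_h_4 V_h_5 (Nat.ble (nat_lit 798799) q)) (Bool.rec (motive := fun _ => ℕ) V_h_6 V_h_7 (Nat.ble (nat_lit 910583) q)) (Nat.ble (nat_lit 854921) q)) (Nat.ble (nat_lit 743363) q)) q))) (Nat.ble (nat_lit 13) (Nat.mod (Bool.rec (motive := fun _ => ℕ) (Bool.rec (motive := fun _ => ℕ) (Bool.rec (motive := fun _ => ℕ) V_h_0 V_h_1 (Nat.ble (nat_lit 578687) q)) (Bool.rec (motive := fun _ => ℕ) V_h_2 V_h_3 (Nat.ble (nat_lit 688217) q)) (Nat.ble (nat_lit 633263) q)) (Bool.rec (motive := fun _ => ℕ) (Bool.rec (motive := fun _ => ℕ) V_h_4 V_h_5 (Nat.ble (nat_lit 798799) q)) (Bool.rec (motive := fun _ => ℕ) V_h_6 V_h_7 (Nat.ble (nat_lit 910583) q)) (Nat.ble (nat_lit 854921) q)) (Nat.ble (nat_lit 743363) q)) q))) (Nat.ble (nat_lit 11) (Nat.mod (Bool.rec (motive := fun _ => ℕ) (Bool.rec (motive := fun _ => ℕ) (Bool.rec (motive := fun _ => ℕ) V_h_0 V_h_1 (Nat.ble (nat_lit 578687)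 q)) (Bool.rec (motive := fun _ => ℕ) V_h_2 V_h_3 (Nat.ble (nat_lit 688217) q)) (Nat.ble (nat_lit 633263) q)) (Bool.rec (motive := fun _ => ℕ) (Bool.rec (motive := fun _ => ℕ) V_h_4 V_h_5 (Nat.ble (nat_lit 798799) q)) (Bool.rec (motive := fun _ => ℕ) V_h_6 V_h_7 (Nat.ble (nat_lit 910583) q)) (Nat.ble (nat_lit 854921) q)) (Nat.ble (nat_lit 743363) q)) q))) (Nat.ble (nat_lit 8) (Nat.mod (Bool.rec (motive := fun _ => ℕ) (Bool.rec (motive := fun _ => ℕ) (Bool.rec (motive := fun _ => ℕ) V_h_0 V_h_1 (Nat.ble (nat_lit 578687) q)) (Bool.rec (motive := fun _ => ℕ) V_h_2 V_h_3 (Nat.ble (nat_lit 688217) q)) (Nat.ble (nat_lit 633263) q)) (Bool.rec (motive := fun _ => ℕ) (Bool.rec (motive := fun _ => ℕ) V_h_4 V_h_5 (Nat.ble (nat_lit 798799) q)) (Bool.rec (motive := fun _ => ℕ) V_h_6 V_h_7 (Nat.ble (nat_lit 910583) q)) (Nat.ble (nat_lit 854921) q)) (Nat.ble (nat_lit 743363) q)) q))) (Nat.ble (nat_lit 2) (Nat.mod (Bool.rec (motive := fun _ =>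 ℕ) (Bool.rec (motive := fun _ => ℕ) (Bool.rec (motive := fun _ => ℕ) V_h_0 V_h_1 (Nat.ble (nat_lit 578687) q)) (Bool.rec (motive := fun _ => ℕ) V_h_2 V_h_3 (Nat.ble (nat_lit 688217) q)) (Nat.ble (nat_lit 633263) q)) (Bool.rec (motive := fun _ => ℕ) (Bool.rec (motive := fun _ => ℕ) V_h_4 V_h_5 (Nat.ble (nat_lit 798799) q)) (Bool.rec (motive := fun _ => ℕ) V_h_6 V_h_7 (Nat.ble (nat_lit 910583) q)) (Nat.ble (nat_lit 854921) q)) (Nat.ble (nat_lit 743363) q)) q)))
noncomputable def E_118 (t q : ℕ) : Bool := Nat.beq (G_i t (F_i q)) q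
noncomputable def a_118 : CfsgLib.TC.AG Col := .word .i 54 0 true [Col.i]
noncomputable def E_119 (t q : ℕ) : Bool := band (Nat.beq (PT (F_i q)) q) (band (Nat.beq (DT (F_i q)) 9) (band (Nat.ble (Nat.succ q) (F_i q)) (Nat.ble (Nat.succ q0) (F_i q))))
noncomputable def a_119 : CfsgLib.TC.AG Col := .tree .i
noncomputable def E_120 (t q : ℕ) : Bool := Nat.beq (G_a t (G_i t (G_a t (F_i q)))) q
noncomputable def a_120 : CfsgLib.TC.AG Col := .word .i 9 0 true [Col.a, Col.i, Col.a]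
noncomputable def E_121 (t q : ℕ) : Bool := Nat.beq (G_b t (G_i t (G_b t (F_i q)))) q
noncomputable def a_121 : CfsgLib.TC.AG Col := .word .i 18 0 true [Col.b, Col.i, Col.b]
noncomputable def E_122 (t q : ℕ) : Bool := Nat.beq (G_c t (G_i t (G_c t (F_i q)))) q
noncomputable def a_122 : CfsgLib.TC.AG Col := .word .i 26 0 true [Col.c, Col.i, Col.c]
noncomputable def E_123 (t q : ℕ) : Bool := Nat.beq (G_d t (G_i t (G_d t (F_i q)))) q
noncomputable def a_123 : CfsgLib.TC.AG Col := .word .i 33 0 true [Col.d, Col.i, Col.d]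
noncomputable def E_124 (t q : ℕ) : Bool := Nat.beq (G_e t (G_i t (G_e t (F_i q)))) q
noncomputable def a_124 : CfsgLib.TC.AG Col := .word .i 39 0 true [Col.e, Col.i, Col.e]
noncomputable def E_125 (t q : ℕ) : Bool := Nat.beq (G_f t (G_i t (G_f t (F_i q)))) q
noncomputable def a_125 : CfsgLib.TC.AG Col := .word .i 44 0 true [Col.f, Col.i, Col.f]
noncomputable def E_126 (t q : ℕ) : Bool := Nat.beq (G_g t (G_i t (G_g t (F_i q)))) q
noncomputable def a_126 : CfsgLib.TC.AG Col := .word .i 48 0 true [Col.g, Col.i, Col.g]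
noncomputable def E_127 (t q : ℕ) : Bool := Nat.beq (G_j t (G_i t (G_j t (F_i q)))) q
noncomputable def a_127 : CfsgLib.TC.AG Col := .word .i 51 0 true [Col.j, Col.i, Col.j]
noncomputable def E_128 (t q : ℕ) : Bool := Nat.beq (G_h t (G_i t (G_h t (G_i t (G_h t (F_i q)))))) q
noncomputable def a_128 : CfsgLib.TC.AG Col := .word .i 53 0 true [Col.h, Col.i, Col.h, Col.i, Col.h]
noncomputable def E_129 (t q : ℕ) : Bool := band (Nat.beq q0 q) (Nat.beq (F_i q) q0)
noncomputable def a_129 : CfsgLib.TC.AG Col := .base .i 8 [] []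
noncomputable def D_i (q : ℕ) : Bool := (Bool.rec (motive := fun _ => Bool) (Bool.rec (motive := fun _ => Bool) (E_118 (Nat.mod (Bool.rec (motive := fun _ => ℕ) (Bool.rec (motive := fun _ => ℕ) (Bool.rec (motive := fun _ => ℕ) U_i_0 U_i_1 (Nat.ble (nat_lit 578687) q)) (Bool.rec (motive := fun _ => ℕ) U_i_2 U_i_3 (Nat.ble (nat_lit 688217) q)) (Nat.ble (nat_lit 633263) q)) (Bool.rec (motive := fun _ => ℕ) (Bool.rec (motive := fun _ => ℕ) U_i_4 U_i_5 (Nat.ble (nat_lit 798799) q)) (Bool.rec (motive := fun _ => ℕ) U_i_6 U_i_7 (Nat.ble (nat_lit 910583) q)) (Nat.ble (nat_lit 854921) q)) (Nat.ble (nat_lit 743363) q)) q) q) (E_119 (Nat.mod (Bool.rec (motive := fun _ => ℕ) (Bool.rec (motive := fun _ => ℕ) (Bool.rec (motive := fun _ => ℕ) U_i_0 U_i_1 (Nat.ble (nat_lit 578687) q)) (Bool.rec (motive := fun _ => ℕ) U_i_2 U_i_3 (Nat.ble (nat_lit 688217) q)) (Nat.ble (nat_lit 633263) q)) (Bool.rec (motive := fun _ => ℕ) (Bool.rec (motive := fun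 _ => ℕ) U_i_4 U_i_5 (Nat.ble (nat_lit 798799) q)) (Bool.rec (motive := fun _ => ℕ) U_i_6 U_i_7 (Nat.ble (nat_lit 910583) q)) (Nat.ble (nat_lit 854921) q)) (Nat.ble (nat_lit 743363) q)) q) q) (Nat.ble (nat_lit 1) (Nat.mod (Bool.rec (motive := fun _ => ℕ) (Bool.rec (motive := fun _ => ℕ) (Bool.rec (motive := fun _ => ℕ) V_i_0 V_i_1 (Nat.ble (nat_lit 578687) q)) (Bool.rec (motive := fun _ => ℕ) V_i_2 V_i_3 (Nat.ble (nat_lit 688217) q)) (Nat.ble (nat_lit 633263) q)) (Bool.rec (motive := fun _ => ℕ) (Bool.rec (motive := fun _ => ℕ) V_i_4 V_i_5 (Nat.ble (nat_lit 798799) q)) (Bool.rec (motive := fun _ => ℕ) V_i_6 V_i_7 (Nat.ble (nat_lit 910583) q)) (Nat.ble (nat_lit 854921) q)) (Nat.ble (nat_lit 743363) q)) q))) (Bool.rec (motive := fun _ => Bool) (Bool.rec (motive := fun _ => Bool) (Bool.rec (motive := fun _ => Bool) (E_120 (Nat.mod (Bool.rec (motive := fun _ => ℕ) (Bool.rec (motive := fun _ => ℕ) (Bool.rec (motive := fun _ => ℕ) U_i_0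 U_i_1 (Nat.ble (nat_lit 578687) q)) (Bool.rec (motive := fun _ => ℕ) U_i_2 U_i_3 (Nat.ble (nat_lit 688217) q)) (Nat.ble (nat_lit 633263) q)) (Bool.rec (motive := fun _ => ℕ) (Bool.rec (motive := fun _ => ℕ) U_i_4 U_i_5 (Nat.ble (nat_lit 798799) q)) (Bool.rec (motive := fun _ => ℕ) U_i_6 U_i_7 (Nat.ble (nat_lit 910583) q)) (Nat.ble (nat_lit 854921) q)) (Nat.ble (nat_lit 743363) q)) q) q) (E_121 (Nat.mod (Bool.rec (motive := fun _ => ℕ) (Bool.rec (motive := fun _ => ℕ) (Bool.rec (motive := fun _ => ℕ) U_i_0 U_i_1 (Nat.ble (nat_lit 578687) q)) (Bool.rec (motive := fun _ => ℕ) U_i_2 U_i_3 (Nat.ble (nat_lit 688217) q)) (Nat.ble (nat_lit 633263) q)) (Bool.rec (motive := fun _ => ℕ) (Bool.rec (motive := fun _ => ℕ) U_i_4 U_i_5 (Nat.ble (nat_lit 798799) q)) (Bool.rec (motive := fun _ => ℕ) U_i_6 U_i_7 (Nat.ble (nat_lit 910583) q)) (Nat.ble (nat_lit 854921) q)) (Nat.ble (nat_lit 743363) q)) q) q) (Nat.ble (nat_lit 3) (Nat.mod (Bool.rec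 (motive := fun _ => ℕ) (Bool.rec (motive := fun _ => ℕ) (Bool.rec (motive := fun _ => ℕ) V_i_0 V_i_1 (Nat.ble (nat_lit 578687) q)) (Bool.rec (motive := fun _ => ℕ) V_i_2 V_i_3 (Nat.ble (nat_lit 688217) q)) (Nat.ble (nat_lit 633263) q)) (Bool.rec (motive := fun _ => ℕ) (Bool.rec (motive := fun _ => ℕ) V_i_4 V_i_5 (Nat.ble (nat_lit 798799) q)) (Bool.rec (motive := fun _ => ℕ) V_i_6 V_i_7 (Nat.ble (nat_lit 910583) q)) (Nat.ble (nat_lit 854921) q)) (Nat.ble (nat_lit 743363) q)) q))) (Bool.rec (motive := fun _ => Bool) (E_122 (Nat.mod (Bool.rec (motive := fun _ => ℕ) (Bool.rec (motive := fun _ => ℕ) (Bool.rec (motive := fun _ => ℕ) U_i_0 U_i_1 (Nat.ble (nat_lit 578687) q)) (Bool.rec (motive := fun _ => ℕ) U_i_2 U_i_3 (Nat.ble (nat_lit 688217) q)) (Nat.ble (nat_lit 633263) q)) (Bool.rec (motive := fun _ => ℕ) (Bool.rec (motive := fun _ => ℕ) U_i_4 U_i_5 (Nat.ble (nat_lit 798799) q)) (Bool.rec (motive := fun _ => ℕ) U_i_6 U_i_7 (Nat.ble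 (nat_lit 910583) q)) (Nat.ble (nat_lit 854921) q)) (Nat.ble (nat_lit 743363) q)) q) q) (Bool.rec (motive := fun _ => Bool) (E_123 (Nat.mod (Bool.rec (motive := fun _ => ℕ) (Bool.rec (motive := fun _ => ℕ) (Bool.rec (motive := fun _ => ℕ) U_i_0 U_i_1 (Nat.ble (nat_lit 578687) q)) (Bool.rec (motive := fun _ => ℕ) U_i_2 U_i_3 (Nat.ble (nat_lit 688217) q)) (Nat.ble (nat_lit 633263) q)) (Bool.rec (motive := fun _ => ℕ) (Bool.rec (motive := fun _ => ℕ) U_i_4 U_i_5 (Nat.ble (nat_lit 798799) q)) (Bool.rec (motive := fun _ => ℕ) U_i_6 U_i_7 (Nat.ble (nat_lit 910583) q)) (Nat.ble (nat_lit 854921) q)) (Nat.ble (nat_lit 743363) q)) q) q) (E_124 (Nat.mod (Bool.rec (motive := fun _ => ℕ) (Bool.rec (motive := fun _ => ℕ) (Bool.rec (motive := fun _ => ℕ) U_i_0 U_i_1 (Nat.ble (nat_lit 578687) q)) (Bool.rec (motive := fun _ => ℕ) U_i_2 U_i_3 (Nat.ble (nat_lit 688217) q)) (Nat.ble (nat_lit 633263) q)) (Bool.rec (motive := fun _ => ℕ) (Bool.rec (motive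 := fun _ => ℕ) U_i_4 U_i_5 (Nat.ble (nat_lit 798799) q)) (Bool.rec (motive := fun _ => ℕ) U_i_6 U_i_7 (Nat.ble (nat_lit 910583) q)) (Nat.ble (nat_lit 854921) q)) (Nat.ble (nat_lit 743363) q)) q) q) (Nat.ble (nat_lit 6) (Nat.mod (Bool.rec (motive := fun _ => ℕ) (Bool.rec (motive := fun _ => ℕ) (Bool.rec (motive := fun _ => ℕ) V_i_0 V_i_1 (Nat.ble (nat_lit 578687) q)) (Bool.rec (motive := fun _ => ℕ) V_i_2 V_i_3 (Nat.ble (nat_lit 688217) q)) (Nat.ble (nat_lit 633263) q)) (Bool.rec (motive := fun _ => ℕ) (Bool.rec (motive := fun _ => ℕ) V_i_4 V_i_5 (Nat.ble (nat_lit 798799) q)) (Bool.rec (motive := fun _ => ℕ) V_i_6 V_i_7 (Nat.ble (nat_lit 910583) q)) (Nat.ble (nat_lit 854921) q)) (Nat.ble (nat_lit 743363) q)) q))) (Nat.ble (nat_lit 5) (Nat.mod (Bool.rec (motive := fun _ => ℕ) (Bool.rec (motive := fun _ => ℕ) (Bool.rec (motive := fun _ => ℕ) V_i_0 V_i_1 (Nat.ble (nat_lit 578687) q)) (Bool.rec (motive := fun _ => ℕ) V_i_2 V_i_3 (Nat.ble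 (nat_lit 688217) q)) (Nat.ble (nat_lit 633263) q)) (Bool.rec (motive := fun _ => ℕ) (Bool.rec (motive := fun _ => ℕ) V_i_4 V_i_5 (Nat.ble (nat_lit 798799) q)) (Bool.rec (motive := fun _ => ℕ) V_i_6 V_i_7 (Nat.ble (nat_lit 910583) q)) (Nat.ble (nat_lit 854921) q)) (Nat.ble (nat_lit 743363) q)) q))) (Nat.ble (nat_lit 4) (Nat.mod (Bool.rec (motive := fun _ => ℕ) (Bool.rec (motive := fun _ => ℕ) (Bool.rec (motive := fun _ => ℕ) V_i_0 V_i_1 (Nat.ble (nat_lit 578687) q)) (Bool.rec (motive := fun _ => ℕ) V_i_2 V_i_3 (Nat.ble (nat_lit 688217) q)) (Nat.ble (nat_lit 633263) q)) (Bool.rec (motive := fun _ => ℕ) (Bool.rec (motive := fun _ => ℕ) V_i_4 V_i_5 (Nat.ble (nat_lit 798799) q)) (Bool.rec (motive := fun _ => ℕ) V_i_6 V_i_7 (Nat.ble (nat_lit 910583) q)) (Nat.ble (nat_lit 854921) q)) (Nat.ble (nat_lit 743363) q)) q))) (Bool.rec (motive := fun _ => Bool) (Bool.rec (motive := fun _ => Bool) (E_125 (Nat.mod (Bool.rec (motive := fun _ =>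 ℕ) (Bool.rec (motive := fun _ => ℕ) (Bool.rec (motive := fun _ => ℕ) U_i_0 U_i_1 (Nat.ble (nat_lit 578687) q)) (Bool.rec (motive := fun _ => ℕ) U_i_2 U_i_3 (Nat.ble (nat_lit 688217) q)) (Nat.ble (nat_lit 633263) q)) (Bool.rec (motive := fun _ => ℕ) (Bool.rec (motive := fun _ => ℕ) U_i_4 U_i_5 (Nat.ble (nat_lit 798799) q)) (Bool.rec (motive := fun _ => ℕ) U_i_6 U_i_7 (Nat.ble (nat_lit 910583) q)) (Nat.ble (nat_lit 854921) q)) (Nat.ble (nat_lit 743363) q)) q) q) (E_126 (Nat.mod (Bool.rec (motive := fun _ => ℕ) (Bool.rec (motive := fun _ => ℕ) (Bool.rec (motive := fun _ => ℕ) U_i_0 U_i_1 (Nat.ble (nat_lit 578687) q)) (Bool.rec (motive := fun _ => ℕ) U_i_2 U_i_3 (Nat.ble (nat_lit 688217) q)) (Nat.ble (nat_lit 633263) q)) (Bool.rec (motive := fun _ => ℕ) (Bool.rec (motive := fun _ => ℕ) U_i_4 U_i_5 (Nat.ble (nat_lit 798799) q)) (Bool.rec (motive := fun _ => ℕ) U_i_6 U_i_7 (Nat.ble (nat_lit 910583) q)) (Nat.ble (nat_lit 854921) q)) (Nat.ble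 (nat_lit 743363) q)) q) q) (Nat.ble (nat_lit 8) (Nat.mod (Bool.rec (motive := fun _ => ℕ) (Bool.rec (motive := fun _ => ℕ) (Bool.rec (motive := fun _ => ℕ) V_i_0 V_i_1 (Nat.ble (nat_lit 578687) q)) (Bool.rec (motive := fun _ => ℕ) V_i_2 V_i_3 (Nat.ble (nat_lit 688217) q)) (Nat.ble (nat_lit 633263) q)) (Bool.rec (motive := fun _ => ℕ) (Bool.rec (motive := fun _ => ℕ) V_i_4 V_i_5 (Nat.ble (nat_lit 798799) q)) (Bool.rec (motive := fun _ => ℕ) V_i_6 V_i_7 (Nat.ble (nat_lit 910583) q)) (Nat.ble (nat_lit 854921) q)) (Nat.ble (nat_lit 743363) q)) q))) (Bool.rec (motive := fun _ => Bool) (E_127 (Nat.mod (Bool.rec (motive := fun _ => ℕ) (Bool.rec (motive := fun _ => ℕ) (Bool.rec (motive := fun _ => ℕ) U_i_0 U_i_1 (Nat.ble (nat_lit 578687) q)) (Bool.rec (motive := fun _ => ℕ) U_i_2 U_i_3 (Nat.ble (nat_lit 688217) q)) (Nat.ble (nat_lit 633263) q)) (Bool.rec (motive := fun _ => ℕ) (Bool.rec (motive := fun _ => ℕ) U_i_4 U_i_5 (Nat.ble (nat_lit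 798799) q)) (Bool.rec (motive := fun _ => ℕ) U_i_6 U_i_7 (Nat.ble (nat_lit 910583) q)) (Nat.ble (nat_lit 854921) q)) (Nat.ble (nat_lit 743363) q)) q) q) (Bool.rec (motive := fun _ => Bool) (E_128 (Nat.mod (Bool.rec (motive := fun _ => ℕ) (Bool.rec (motive := fun _ => ℕ) (Bool.rec (motive := fun _ => ℕ) U_i_0 U_i_1 (Nat.ble (nat_lit 578687) q)) (Bool.rec (motive := fun _ => ℕ) U_i_2 U_i_3 (Nat.ble (nat_lit 688217) q)) (Nat.ble (nat_lit 633263) q)) (Bool.rec (motive := fun _ => ℕ) (Bool.rec (motive := fun _ => ℕ) U_i_4 U_i_5 (Nat.ble (nat_lit 798799) q)) (Bool.rec (motive := fun _ => ℕ) U_i_6 U_i_7 (Nat.ble (nat_lit 910583) q)) (Nat.ble (nat_lit 854921) q)) (Nat.ble (nat_lit 743363) q)) q) q) (E_129 (Nat.mod (Bool.rec (motive := fun _ => ℕ) (Bool.rec (motive := fun _ => ℕ) (Bool.rec (motive := fun _ => ℕ) U_i_0 U_i_1 (Nat.ble (nat_lit 578687) q)) (Bool.rec (motive := fun _ => ℕ) U_i_2 U_i_3 (Nat.ble (nat_lit 688217) q)) (Nat.ble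 (nat_lit 633263) q)) (Bool.rec (motive := fun _ => ℕ) (Bool.rec (motive := fun _ => ℕ) U_i_4 U_i_5 (Nat.ble (nat_lit 798799) q)) (Bool.rec (motive := fun _ => ℕ) U_i_6 U_i_7 (Nat.ble (nat_lit 910583) q)) (Nat.ble (nat_lit 854921) q)) (Nat.ble (nat_lit 743363) q)) q) q) (Nat.ble (nat_lit 11) (Nat.mod (Bool.rec (motive := fun _ => ℕ) (Bool.rec (motive := fun _ => ℕ) (Bool.rec (motive := fun _ => ℕ) V_i_0 V_i_1 (Nat.ble (nat_lit 578687) q)) (Bool.rec (motive := fun _ => ℕ) V_i_2 V_i_3 (Nat.ble (nat_lit 688217) q)) (Nat.ble (nat_lit 633263) q)) (Bool.rec (motive := fun _ => ℕ) (Bool.rec (motive := fun _ => ℕ) V_i_4 V_i_5 (Nat.ble (nat_lit 798799) q)) (Bool.rec (motive := fun _ => ℕ) V_i_6 V_i_7 (Nat.ble (nat_lit 910583) q)) (Nat.ble (nat_lit 854921) q)) (Nat.ble (nat_lit 743363) q)) q))) (Nat.ble (nat_lit 10) (Nat.mod (Bool.rec (motive := fun _ => ℕ) (Bool.rec (motive := fun _ => ℕ) (Bool.rec (motive := fun _ => ℕ) V_i_0 V_i_1 (Nat.ble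 (nat_lit 578687) q)) (Bool.rec (motive := fun _ => ℕ) V_i_2 V_i_3 (Nat.ble (nat_lit 688217) q)) (Nat.ble (nat_lit 633263) q)) (Bool.rec (motive := fun _ => ℕ) (Bool.rec (motive := fun _ => ℕ) V_i_4 V_i_5 (Nat.ble (nat_lit 798799) q)) (Bool.rec (motive := fun _ => ℕ) V_i_6 V_i_7 (Nat.ble (nat_lit 910583) q)) (Nat.ble (nat_lit 854921) q)) (Nat.ble (nat_lit 743363) q)) q))) (Nat.ble (nat_lit 9) (Nat.mod (Bool.rec (motive := fun _ => ℕ) (Bool.rec (motive := fun _ => ℕ) (Bool.rec (motive := fun _ => ℕ) V_i_0 V_i_1 (Nat.ble (nat_lit 578687) q)) (Bool.rec (motive := fun _ => ℕ) V_i_2 V_i_3 (Nat.ble (nat_lit 688217) q)) (Nat.ble (nat_lit 633263) q)) (Bool.rec (motive := fun _ => ℕ) (Bool.rec (motive := fun _ => ℕ) V_i_4 V_i_5 (Nat.ble (nat_lit 798799) q)) (Bool.rec (motive := fun _ => ℕ) V_i_6 V_i_7 (Nat.ble (nat_lit 910583) q)) (Nat.ble (nat_lit 854921) q)) (Nat.ble (nat_lit 743363) q)) q))) (Nat.ble (nat_lit 7) (Nat.mod (Bool.rec (motive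 := fun _ => ℕ) (Bool.rec (motive := fun _ => ℕ) (Bool.rec (motive := fun _ => ℕ) V_i_0 V_i_1 (Nat.ble (nat_lit 578687) q)) (Bool.rec (motive := fun _ => ℕ) V_i_2 V_i_3 (Nat.ble (nat_lit 688217) q)) (Nat.ble (nat_lit 633263) q)) (Bool.rec (motive := fun _ => ℕ) (Bool.rec (motive := fun _ => ℕ) V_i_4 V_i_5 (Nat.ble (nat_lit 798799) q)) (Bool.rec (motive := fun _ => ℕ) V_i_6 V_i_7 (Nat.ble (nat_lit 910583) q)) (Nat.ble (nat_lit 854921) q)) (Nat.ble (nat_lit 743363) q)) q))) (Nat.ble (nat_lit 2) (Nat.mod (Bool.rec (motive := fun _ => ℕ) (Bool.rec (motive := fun _ => ℕ) (Bool.rec (motive := fun _ => ℕ) V_i_0 V_i_1 (Nat.ble (nat_lit 578687) q)) (Bool.rec (motive := fun _ => ℕ) V_i_2 V_i_3 (Nat.ble (nat_lit 688217) q)) (Nat.ble (nat_lit 633263) q)) (Bool.rec (motive := fun _ => ℕ) (Bool.rec (motive := fun _ => ℕ) V_i_4 V_i_5 (Nat.ble (nat_lit 798799) q)) (Bool.rec (motive := fun _ => ℕ) V_i_6 V_i_7 (Nat.ble (nat_lit 910583) q)) (Nat.ble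 (nat_lit 854921) q)) (Nat.ble (nat_lit 743363) q)) q)))
noncomputable def CD_a (q : ℕ) : Bool := band (clQ mt F_a F_a q) (D_a q)
noncomputable def CD_b (q : ℕ) : Bool := band (clQ mt F_b F_b q) (D_b q)
noncomputable def CD_c (q : ℕ) : Bool := band (clQ mt F_c F_c q) (D_c q)
noncomputable def CD_d (q : ℕ) : Bool := band (clQ mt F_d F_d q) (D_d q)
noncomputable def CD_e (q : ℕ) : Bool := band (clQ mt F_e F_e q) (D_e q)
noncomputable def CD_f (q : ℕ) : Bool := band (clQ mt F_f F_f q) (D_f q)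
noncomputable def CD_g (q : ℕ) : Bool := band (clQ mt F_g F_g q) (D_g q)
noncomputable def CD_j (q : ℕ) : Bool := band (clQ mt F_j F_j q) (D_j q)
noncomputable def CD_h (q : ℕ) : Bool := band (clQ mt F_h F_h q) (D_h q)
noncomputable def CD_i (q : ℕ) : Bool := band (clQ mt F_i F_i q) (D_i q)
noncomputable def CE_0 (q : ℕ) : Bool := (Bool.rec (motive := fun _ => Bool) false (Bool.rec (motive := fun _ => Bool) false (Bool.rec (motive := fun _ => Bool) false (Bool.rec (motive := fun _ => Bool) false (Bool.rec (motive := fun _ => Bool) false true (CD_e q)) (CD_d q)) (CD_c q)) (CD_b q)) (CD_a q))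
noncomputable def CE_1 (q : ℕ) : Bool := (Bool.rec (motive := fun _ => Bool) false (Bool.rec (motive := fun _ => Bool) false (Bool.rec (motive := fun _ => Bool) false (Bool.rec (motive := fun _ => Bool) false (Bool.rec (motive := fun _ => Bool) false true (CD_i q)) (CD_h q)) (CD_j q)) (CD_g q)) (CD_f q))
noncomputable def Rf_0 (q : ℕ) : Bool := (Bool.rec (motive := fun _ => Bool) false (Bool.rec (motive := fun _ => Bool) false (Bool.rec (motive := fun _ => Bool) false (Bool.rec (motive := fun _ => Bool) false (Bool.rec (motive := fun _ => Bool) false (Bool.rec (motive := fun _ => Bool) false (Bool.rec (motive := fun _ => Bool) false (Bool.rec (motive := fun _ => Bool) false (Bool.rec (motive := fun _ => Bool) false (Bool.rec (motive := fun _ => Bool) false (Bool.rec (motive := fun _ => Bool) false (Bool.rec (motive := fun _ => Bool) false (Bool.rec (motive := fun _ => Bool) false (Bool.rec (motive := fun _ => Bool) false (Bool.rec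 (motive := fun _ => Bool) false true (Nat.beq (F_b (F_f (F_b (F_f q)))) q)) (Nat.beq (F_b (F_e (F_b (F_e q)))) q)) (Nat.beq (F_b (F_d (F_b (F_d q)))) q)) (Nat.beq (F_b (F_c (F_b (F_c (F_b (F_c q)))))) q)) (Nat.beq (F_b (F_b q)) q)) (Nat.beq (F_a (F_i (F_a (F_i q)))) q)) (Nat.beq (F_a (F_h (F_a (F_h q)))) q)) (Nat.beq (F_a (F_j (F_a (F_j q)))) q)) (Nat.beq (F_a (F_g (F_a (F_g q)))) q)) (Nat.beq (F_a (F_f (F_a (F_f q)))) q)) (Nat.beq (F_a (F_e (F_a (F_e q)))) q)) (Nat.beq (F_a (F_d (F_a (F_d q)))) q)) (Nat.beq (F_a (F_c (F_a (F_c q)))) q)) (Nat.beq (F_a (F_b (F_a (F_b (F_a (F_b q)))))) q)) (Nat.beq (F_a (F_a q)) q))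
noncomputable def Rf_1 (q : ℕ) : Bool := (Bool.rec (motive := fun _ => Bool) false (Bool.rec (motive := fun _ => Bool) false (Bool.rec (motive := fun _ => Bool) false (Bool.rec (motive := fun _ => Bool) false (Bool.rec (motive := fun _ => Bool) false (Bool.rec (motive := fun _ => Bool) false (Bool.rec (motive := fun _ => Bool) false (Bool.rec (motive := fun _ => Bool) false (Bool.rec (motive := fun _ => Bool) false (Bool.rec (motive := fun _ => Bool) false (Bool.rec (motive := fun _ => Bool) false (Bool.rec (motive := fun _ => Bool) false (Bool.rec (motive := fun _ => Bool) false (Bool.rec (motive := fun _ => Bool) false (Bool.rec (motive := fun _ => Bool) false true (Nat.beq (F_d (F_f (F_d (F_f q)))) q)) (Nat.beq (F_d (F_e (F_d (F_e (F_d (F_e q)))))) q)) (Nat.beq (F_d (F_d q)) q)) (Nat.beq (F_c (F_i (F_c (F_i q)))) q)) (Nat.beq (F_c (F_h (F_c (F_h q)))) q)) (Nat.beq (F_c (F_j (F_c (F_j q)))) q)) (Nat.beq (F_c (F_g (F_c (F_g q))))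 q)) (Nat.beq (F_c (F_f (F_c (F_f q)))) q)) (Nat.beq (F_c (F_e (F_c (F_e q)))) q)) (Nat.beq (F_c (F_d (F_c (F_d (F_c (F_d q)))))) q)) (Nat.beq (F_c (F_c q)) q)) (Nat.beq (F_b (F_i (F_b (F_i q)))) q)) (Nat.beq (F_b (F_h (F_b (F_h q)))) q)) (Nat.beq (F_b (F_j (F_b (F_j q)))) q)) (Nat.beq (F_b (F_g (F_b (F_g q)))) q))
noncomputable def Rf_2 (q : ℕ) : Bool := (Bool.rec (motive := fun _ => Bool) false (Bool.rec (motive := fun _ => Bool) false (Bool.rec (motive := fun _ => Bool) false (Bool.rec (motive := fun _ => Bool) false (Bool.rec (motive := fun _ => Bool) false (Bool.rec (motive := fun _ => Bool) false (Bool.rec (motive := fun _ => Bool) false (Bool.rec (motive := fun _ => Bool) false (Bool.rec (motive := fun _ => Bool) false (Bool.rec (motive := fun _ => Bool) false (Bool.rec (motive := fun _ => Bool) false (Bool.rec (motive := fun _ => Bool) false (Bool.rec (motive := fun _ => Bool) false (Bool.rec (motive := fun _ => Bool) false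 true (Nat.beq (F_f (F_h (F_f (F_h q)))) q)) (Nat.beq (F_f (F_j (F_f (F_j q)))) q)) (Nat.beq (F_f (F_g (F_f (F_g (F_f (F_g q)))))) q)) (Nat.beq (F_f (F_f q)) q)) (Nat.beq (F_e (F_i (F_e (F_i q)))) q)) (Nat.beq (F_e (F_h (F_e (F_h q)))) q)) (Nat.beq (F_e (F_j (F_e (F_j q)))) q)) (Nat.beq (F_e (F_g (F_e (F_g q)))) q)) (Nat.beq (F_e (F_f (F_e (F_f (F_e (F_f q)))))) q)) (Nat.beq (F_e (F_e q)) q)) (Nat.beq (F_d (F_i (F_d (F_i q)))) q)) (Nat.beq (F_d (F_h (F_d (F_h (F_d (F_h q)))))) q)) (Nat.beq (F_d (F_j (F_d (F_j q)))) q)) (Nat.beq (F_d (F_g (F_d (F_g q)))) q))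
noncomputable def Rf_3 (q : ℕ) : Bool := (Bool.rec (motive := fun _ => Bool) false (Bool.rec (motive := fun _ => Bool) false (Bool.rec (motive := fun _ => Bool) false (Bool.rec (motive := fun _ => Bool) false (Bool.rec (motive := fun _ => Bool) false (Bool.rec (motive := fun _ => Bool) false (Bool.rec (motive := fun _ => Bool) false (Bool.rec (motive := fun _ => Bool) false (Bool.rec (motive := fun _ => Bool) false (Bool.rec (motive := fun _ => Bool) false (Bool.rec (motive := fun _ => Bool) false true (Nat.beq (F_i (F_i q)) q)) (Nat.beq (F_h (F_i (F_h (F_i (F_h (F_i q)))))) q)) (Nat.beq (F_h (F_h q)) q)) (Nat.beq (F_j (F_i (F_j (F_i q)))) q)) (Nat.beq (F_j (F_h (F_j (F_h q)))) q)) (Nat.beq (F_j (F_j q)) q)) (Nat.beq (F_g (F_i (F_g (F_i q)))) q)) (Nat.beq (F_g (F_h (F_g (F_h q)))) q)) (Nat.beq (F_g (F_j (F_g (F_j (F_g (F_j q)))))) q)) (Nat.beq (F_g (F_g q)) q)) (Nat.beq (F_f (F_i (F_f (F_i q)))) q))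
noncomputable def Rf_4 (q : ℕ) : Bool := (Bool.rec (motive := fun _ => Bool) false true (Nat.beq (F_d (F_c (F_b (F_d (F_e (F_f (F_d (F_h (F_i (F_d (F_c (F_b (F_d (F_e (F_f (F_d (F_h (F_i (F_d (F_c (F_b (F_d (F_e (F_f (F_d (F_h (F_i (F_d (F_c (F_b (F_d (F_e (F_f (F_d (F_h (F_i (F_d (F_c (F_b (F_d (F_e (F_f (F_d (F_h (F_i (F_d (F_c (F_b (F_d (F_e (F_f (F_d (F_h (F_i (F_d (F_c (F_b (F_d (F_e (F_f (F_d (F_h (F_i (F_d (F_c (F_b (F_d (F_e (F_f (F_d (F_h (F_i (F_d (F_c (F_b (F_d (F_e (F_f (F_d (F_h (F_i (F_d (F_c (F_b (F_d (F_e (F_f (F_d (F_h (F_i q)))))))))))))))))))))))))))))))))))))))))))))))))))))))))))))))))))))))))))))))))))))))))) q))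
noncomputable def Rf_5 (q : ℕ) : Bool := (Bool.rec (motive := fun _ => Bool) false true (Nat.beq (F_a (F_b (F_c (F_d (F_e (F_f (F_h (F_a (F_b (F_c (F_d (F_e (F_f (F_h (F_a (F_b (F_c (F_d (F_e (F_f (F_h (F_a (F_b (F_c (F_d (F_e (F_f (F_h (F_a (F_b (F_c (F_d (F_e (F_f (F_h (F_a (F_b (F_c (F_d (F_e (F_f (F_h (F_a (F_b (F_c (F_d (F_e (F_f (F_h (F_a (F_b (F_c (F_d (F_e (F_f (F_h (F_a (F_b (F_c (F_d (F_e (F_f (F_h q))))))))))))))))))))))))))))))))))))))))))))))))))))))))))))))) q))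
end CfsgLib.TCFi23
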