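import Cfsg.Agent.EqBase
import Cfsg.Agent.LibTCFi23D
set_option autoImplicit false
set_option linter.all false
set_option maxRecDepth 1000000
set_option maxHeartbeats 0
namespace CfsgLib.TCFi23
open CfsgLib.TC Cfsg.Spor CfsgLib.TCG_Fi23
theorem re_4_2 : Tr.all Rf_4 L_2 = true := by decide +kernel
theorem re_5_0 : Tr.all Rf_5 L_0 = true := by decide +kernel
theorem re_5_4 : Tr.all Rf_5 L_4 = true := by decide +kernel
theorem re_1_2 : Tr.all Rf_1 L_2 = true := by decide +kernel
theorem re_1_5 : Tr.all Rf_1 L_5 = true := by decide +kernel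
theorem re_2_3 : Tr.all Rf_2 L_3 = true := by decide +kernel
theorem ce_0_2 : Tr.all CE_0 L_2 = true := by decide +kernel
theorem ce_1_1 : Tr.all CE_1 L_1 = true := by decide +kernel
theorem re_5_7 : Tr.all Rf_5 L_7 = true := by decide +kernel
theorem re_3_2 : Tr.all Rf_3 L_2 = true := by decide +kernel
theorem ce_1_7 : Tr.all CE_1 L_7 = true := by decide +kernel
theorem bs_2 : bst L_2 524288 (2 * 524288) = true := by decide +kernel
theorem pr_0 : prodT L_0 = MM_0 := by decide +kernel
theorem pr_2 : prodT L_2 = MM_2 := by decide +kernel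
theorem pr_5 : prodT L_5 = MM_5 := by decide +kernel
theorem sz_7 : size L_7 = 2999 := by decide +kernel
end CfsgLib.TCFi23
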