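import Cfsg.Agent.EqBase
import Cfsg.Agent.LibTCFi23D
set_option autoImplicit false
set_option linter.all false
set_option maxRecDepth 1000000
set_option maxHeartbeats 0
namespace CfsgLib.TCFi23
open CfsgLib.TC Cfsg.Spor CfsgLib.TCG_Fi23
theorem re_4_3 : Tr.all Rf_4 L_3 = true := by decide +kernel
theorem re_5_1 : Tr.all Rf_5 L_1 = true := by decide +kernel
theorem re_5_5 : Tr.all Rf_5 L_5 = true := by decide +kernel
theorem re_0_3 : Tr.all Rf_0 L_3 = true := by decide +kernel
theorem re_0_6 : Tr.all Rf_0 L_6 = true := by decide +kernel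
theorem re_2_4 : Tr.all Rf_2 L_4 = true := by decide +kernel
theorem ce_0_3 : Tr.all CE_0 L_3 = true := by decide +kernel
theorem ce_1_2 : Tr.all CE_1 L_2 = true := by decide +kernel
theorem re_0_7 : Tr.all Rf_0 L_7 = true := by decide +kernel
theorem re_3_0 : Tr.all Rf_3 L_0 = true := by decide +kernel
theorem re_3_6 : Tr.all Rf_3 L_6 = true := by decide +kernel
theorem bs_4 : bst L_4 524288 (2 * 524288) = true := by decide +kernel
theorem pr_1 : prodT L_1 = MM_1 := by decide +kernel
theorem pr_4 : prodT L_4 = MM_4 := by decide +kernel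
theorem bs_7 : bst L_7 524288 (2 * 524288) = true := by decide +kernel
end CfsgLib.TCFi23
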