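import Cfsg.Agent.EqBase
import Cfsg.Agent.LibTCFi23D
set_option autoImplicit false
set_option linter.all false
set_option maxRecDepth 1000000
set_option maxHeartbeats 0
namespace CfsgLib.TCFi23
open CfsgLib.TC Cfsg.Spor CfsgLib.TCG_Fi23
theorem re_4_4 : Tr.all Rf_4 L_4 = true := by decide +kernel
theorem re_5_2 : Tr.all Rf_5 L_2 = true := by decide +kernel
theorem re_5_6 : Tr.all Rf_5 L_6 = true := by decide +kernel
theorem re_1_3 : Tr.all Rf_1 L_3 = true := by decide +kernel
theorem re_1_6 : Tr.all Rf_1 L_6 = true := by decide +kernel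
theorem re_2_5 : Tr.all Rf_2 L_5 = true := by decide +kernel
theorem ce_0_4 : Tr.all CE_0 L_4 = true := by decide +kernel
theorem ce_1_3 : Tr.all CE_1 L_3 = true := by decide +kernel
theorem re_1_7 : Tr.all Rf_1 L_7 = true := by decide +kernel
theorem re_3_1 : Tr.all Rf_3 L_1 = true := by decide +kernel
theorem ce_0_7 : Tr.all CE_0 L_7 = true := by decide +kernel
theorem bs_0 : bst L_0 524288 (2 * 524288) = true := by decide +kernel
theorem bs_6 : bst L_6 524288 (2 * 524288) = true := by decide +kernel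
theorem sz_2 : size L_2 = 4096 := by decide +kernel
theorem sz_5 : size L_5 = 4096 := by decide +kernel
theorem gc_0 : Nat.gcd MM_0 (prodTo 1025) = 1 := by decide +kernel
theorem gc_1 : Nat.gcd MM_1 (prodTo 1025) = 1 := by decide +kernel
theorem gc_2 : Nat.gcd MM_2 (prodTo 1025) = 1 := by decide +kernel
theorem gc_3 : Nat.gcd MM_3 (prodTo 1025) = 1 := by decide +kernel
theorem gc_4 : Nat.gcd MM_4 (prodTo 1025) = 1 := by decide +kernel
theorem gc_5 : Nat.gcd MM_5 (prodTo 1025) = 1 := by decide +kernel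
theorem gc_6 : Nat.gcd MM_6 (prodTo 1025) = 1 := by decide +kernel
theorem gc_7 : Nat.gcd MM_7 (prodTo 1025) = 1 := by decide +kernel
end CfsgLib.TCFi23
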