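import Cfsg.Agent.EqBase
import Cfsg.Agent.LibTCFi23CD
set_option autoImplicit false
set_option linter.all false
set_option maxRecDepth 1000000
set_option maxHeartbeats 0
namespace CfsgLib.TCFi23.Chain
open CfsgLib.TC Cfsg.Spor CfsgLib.TCG_Fi23 CfsgLib.TCFi23
theorem tree3_7 : Tr.all (treeR mt wl3 HP3 HR3 HW3 (nat_lit 546137)) L_7 = true := by decide +kernel
theorem tree1_5 : Tr.all (treeR mt wl1 HP1 HR1 HW1 (nat_lit 524341)) L_5 = true := by decide +kernel
theorem tree3_5 : Tr.all (treeR mt wl3 HP3 HR3 HW3 (nat_lit 546137)) L_5 = true := by decide +kernel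
theorem tree0_2 : Tr.all (treeR mt wl0 HP0 HR0 HW0 (nat_lit 524309)) L_2 = true := by decide +kernel
theorem tree0_4 : Tr.all (treeR mt wl0 HP0 HR0 HW0 (nat_lit 524309)) L_4 = true := by decide +kernel
theorem tree0_6 : Tr.all (treeR mt wl0 HP0 HR0 HW0 (nat_lit 524309)) L_6 = true := by decide +kernel
theorem tree1_3 : Tr.all (treeR mt wl1 HP1 HR1 HW1 (nat_lit 524341)) L_3 = true := by decide +kernel
theorem tree3_4 : Tr.all (treeR mt wl3 HP3 HR3 HW3 (nat_lit 546137)) L_4 = true := by decide +kernel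
theorem tree1_2 : Tr.all (treeR mt wl1 HP1 HR1 HW1 (nat_lit 524341)) L_2 = true := by decide +kernel
theorem tree1_1 : Tr.all (treeR mt wl1 HP1 HR1 HW1 (nat_lit 524341)) L_1 = true := by decide +kernel
theorem tree2_3 : Tr.all (treeR mt wl2 HP2 HR2 HW2 (nat_lit 527143)) L_3 = true := by decide +kernel
theorem tree1_7 : Tr.all (treeR mt wl1 HP1 HR1 HW1 (nat_lit 524341)) L_7 = true := by decide +kernel
theorem tree2_2 : Tr.all (treeR mt wl2 HP2 HR2 HW2 (nat_lit 527143)) L_2 = true := by decide +kernel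
theorem tree2_7 : Tr.all (treeR mt wl2 HP2 HR2 HW2 (nat_lit 527143)) L_7 = true := by decide +kernel
theorem tree3_2 : Tr.all (treeR mt wl3 HP3 HR3 HW3 (nat_lit 546137)) L_2 = true := by decide +kernel
theorem tree4_0 : Tr.all (treeR mt wl4 HP4 HR4 HW4 (nat_lit 524347)) L_0 = true := by decide +kernel
theorem tree3_0 : Tr.all (treeR mt wl3 HP3 HR3 HW3 (nat_lit 546137)) L_0 = true := by decide +kernel
theorem tree4_1 : Tr.all (treeR mt wl4 HP4 HR4 HW4 (nat_lit 524347)) L_1 = true := by decide +kernel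
theorem z0_0 : cnt HR0 0 L_0 = 0 := by decide +kernel
theorem z0_2 : cnt HR0 0 L_2 = 0 := by decide +kernel
theorem z0_4 : cnt HR0 0 L_4 = 0 := by decide +kernel
theorem z0_6 : cnt HR0 0 L_6 = 0 := by decide +kernel
theorem z1_1 : cnt HR1 0 L_1 = 915 := by decide +kernel
theorem z1_3 : cnt HR1 0 L_3 = 414 := by decide +kernel
theorem z1_5 : cnt HR1 0 L_5 = 98 := by decide +kernel
theorem z2_0 : cnt HR2 0 L_0 = 3172 := by decide +kernel
theorem z2_2 : cnt HR2 0 L_2 = 1857 := by decide +kernel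
theorem z2_4 : cnt HR2 0 L_4 = 936 := by decide +kernel
theorem z2_6 : cnt HR2 0 L_6 = 0 := by decide +kernel
theorem z3_1 : cnt HR3 0 L_1 = 3403 := by decide +kernel
theorem z3_3 : cnt HR3 0 L_3 = 3500 := by decide +kernel
theorem z3_5 : cnt HR3 0 L_5 = 2848 := by decide +kernel
theorem z4_0 : cnt HR4 0 L_0 = 4078 := by decide +kernel
theorem z4_2 : cnt HR4 0 L_2 = 4092 := by decide +kernel
theorem tree4_4 : Tr.all (treeR mt wl4 HP4 HR4 HW4 (nat_lit 524347)) L_4 = true := by decide +kernel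
theorem tree4_5 : Tr.all (treeR mt wl4 HP4 HR4 HW4 (nat_lit 524347)) L_5 = true := by decide +kernel
theorem tree4_6 : Tr.all (treeR mt wl4 HP4 HR4 HW4 (nat_lit 524347)) L_6 = true := by decide +kernel
theorem z0_7 : cnt HR0 0 L_7 = 0 := by decide +kernel
theorem z2_7 : cnt HR2 0 L_7 = 0 := by decide +kernel
theorem tree4_7 : Tr.all (treeR mt wl4 HP4 HR4 HW4 (nat_lit 524347)) L_7 = true := by decide +kernel
end CfsgLib.TCFi23.Chain
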