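import Cfsg.Agent.EqBase
import Cfsg.Agent.LibTCFi23
import Cfsg.Agent.LibTCFi23CX0
import Cfsg.Agent.LibTCFi23CX1
set_option autoImplicit false
set_option linter.all false
set_option maxRecDepth 1000000
set_option maxHeartbeats 0
namespace CfsgLib.TCFi23.Chain
open CfsgLib.TC Cfsg.Spor CfsgLib.TCG_Fi23 CfsgLib.TCFi23
theorem cnt_nd' {OB : ℕ → ℕ} {i k : ℕ} {l r : Tr ℕ} {a b : ℕ} (hl : cnt OB i l = a) (hr : cnt OB i r = b) : cnt OB i (Tr.nd k l r) = a + b := by rw [← hl, ← hr]; rfl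
theorem tree0 : Tr.all (treeR mt wl0 HP0 HR0 HW0 (nat_lit 524309)) L = true := (Tr.all_nd (Tr.all_nd (Tr.all_nd tree0_0 tree0_1) (Tr.all_nd tree0_2 tree0_3)) (Tr.all_nd (Tr.all_nd tree0_4 tree0_5) (Tr.all_nd tree0_6 tree0_7)))
theorem z0 : cnt HR0 0 L = 0 := (cnt_nd' (cnt_nd' (cnt_nd' z0_0 z0_1) (cnt_nd' z0_2 z0_3)) (cnt_nd' (cnt_nd' z0_4 z0_5) (cnt_nd' z0_6 z0_7)))
theorem hwl0 (j x : ℕ) : ∃ w ∈ WL0, wl0 j x = walk stp w x := (brecP (P := fun y => ∃ w ∈ WL0, y = walk stp w x) (brecP (P := fun y => ∃ w ∈ WL0, y = walk stp w x) (brecP (P := fun y => ∃ w ∈ WL0, y = walk stp w x) ⟨[TCG_Fi23.Col.a], List.mem_cons_self, rfl⟩ ⟨[TCG_Fi23.Col.b], (List.mem_cons_of_mem _ List.mem_cons_self), rfl⟩) (brecP (P := fun y => ∃ w ∈ WL0, y = walk stp w x) ⟨[TCG_Fi23.Col.c],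 (List.mem_cons_of_mem _ (List.mem_cons_of_mem _ List.mem_cons_self)), rfl⟩ (brecP (P := fun y => ∃ w ∈ WL0, y = walk stp w x) ⟨[TCG_Fi23.Col.d], (List.mem_cons_of_mem _ (List.mem_cons_of_mem _ (List.mem_cons_of_mem _ List.mem_cons_self))), rfl⟩ ⟨[TCG_Fi23.Col.e], (List.mem_cons_of_mem _ (List.mem_cons_of_mem _ (List.mem_cons_of_mem _ (List.mem_cons_of_mem _ List.mem_cons_self)))), rfl⟩))) (brecP (P := fun y => ∃ w ∈ WL0, y = walk stp w x) (brecP (P := fun y => ∃ w ∈ WL0, y = walk stp w x) ⟨[TCG_Fi23.Col.f], (List.mem_cons_of_mem _ (List.mem_cons_of_mem _ (List.mem_cons_of_mem _ (List.mem_cons_of_mem _ (List.mem_cons_of_mem _ List.mem_cons_self))))), rfl⟩ ⟨[TCG_Fi23.Col.g], (List.mem_cons_of_mem _ (List.mem_cons_of_mem _ (List.mem_cons_of_mem _ (List.mem_cons_of_mem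 _ (List.mem_cons_of_mem _ (List.mem_cons_of_mem _ List.mem_cons_self)))))), rfl⟩) (brecP (P := fun y => ∃ w ∈ WL0, y = walk stp w x) ⟨[TCG_Fi23.Col.j], (List.mem_cons_of_mem _ (List.mem_cons_of_mem _ (List.mem_cons_of_mem _ (List.mem_cons_of_mem _ (List.mem_cons_of_mem _ (List.mem_cons_of_mem _ (List.mem_cons_of_mem _ List.mem_cons_self))))))), rfl⟩ (brecP (P := fun y => ∃ w ∈ WL0, y = walk stp w x) ⟨[TCG_Fi23.Col.h], (List.mem_cons_of_mem _ (List.mem_cons_of_mem _ (List.mem_cons_of_mem _ (List.mem_cons_of_mem _ (List.mem_cons_of_mem _ (List.mem_cons_of_mem _ (List.mem_cons_of_mem _ (List.mem_cons_of_mem _ List.mem_cons_self)))))))), rfl⟩ ⟨[TCG_Fi23.Col.i], (List.mem_cons_of_mem _ (List.mem_cons_of_mem _ (List.mem_cons_of_mem _ (List.mem_cons_of_mem _ (List.mem_cons_of_mem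 _ (List.mem_cons_of_mem _ (List.mem_cons_of_mem _ (List.mem_cons_of_mem _ (List.mem_cons_of_mem _ List.mem_cons_self))))))))), rfl⟩))))
theorem tree1 : Tr.all (treeR mt wl1 HP1 HR1 HW1 (nat_lit 524341)) L = true := (Tr.all_nd (Tr.all_nd (Tr.all_nd tree1_0 tree1_1) (Tr.all_nd tree1_2 tree1_3)) (Tr.all_nd (Tr.all_nd tree1_4 tree1_5) (Tr.all_nd tree1_6 tree1_7)))
theorem z1 : cnt HR1 0 L = 3511 := (cnt_nd' (cnt_nd' (cnt_nd' z1_0 z1_1) (cnt_nd' z1_2 z1_3)) (cnt_nd' (cnt_nd' z1_4 z1_5) (cnt_nd' z1_6 z1_7)))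
theorem hwl1 (j x : ℕ) : ∃ w ∈ WL1, wl1 j x = walk stp w x := (brecP (P := fun y => ∃ w ∈ WL1, y = walk stp w x) (brecP (P := fun y => ∃ w ∈ WL1, y = walk stp w x) ⟨[TCG_Fi23.Col.g], List.mem_cons_self, rfl⟩ (brecP (P := fun y => ∃ w ∈ WL1, y = walk stp w x) ⟨[TCG_Fi23.Col.a, TCG_Fi23.Col.f], (List.mem_cons_of_mem _ List.mem_cons_self), rfl⟩ ⟨[TCG_Fi23.Col.b, TCG_Fi23.Col.e], (List.mem_cons_of_mem _ (List.mem_cons_of_mem _ List.mem_cons_self)), rfl⟩)) (brecP (P := fun y => ∃ w ∈ WL1, y = walk stp w x) ⟨[TCG_Fi23.Col.c, TCG_Fi23.Col.d], (List.mem_cons_of_mem _ (List.mem_cons_of_mem _ (List.mem_cons_of_mem _ List.mem_cons_self))), rfl⟩ (brecP (P := fun y => ∃ w ∈ WL1, y = walk stp w x) ⟨[TCG_Fi23.Col.c, TCG_Fi23.Col.h], (List.mem_cons_of_mem _ (List.mem_cons_of_mem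 _ (List.mem_cons_of_mem _ (List.mem_cons_of_mem _ List.mem_cons_self)))), rfl⟩ ⟨[TCG_Fi23.Col.c, TCG_Fi23.Col.i], (List.mem_cons_of_mem _ (List.mem_cons_of_mem _ (List.mem_cons_of_mem _ (List.mem_cons_of_mem _ (List.mem_cons_of_mem _ List.mem_cons_self))))), rfl⟩)))
theorem tree2 : Tr.all (treeR mt wl2 HP2 HR2 HW2 (nat_lit 527143)) L = true := (Tr.all_nd (Tr.all_nd (Tr.all_nd tree2_0 tree2_1) (Tr.all_nd tree2_2 tree2_3)) (Tr.all_nd (Tr.all_nd tree2_4 tree2_5) (Tr.all_nd tree2_6 tree2_7)))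
theorem z2 : cnt HR2 0 L = 9831 := (cnt_nd' (cnt_nd' (cnt_nd' z2_0 z2_1) (cnt_nd' z2_2 z2_3)) (cnt_nd' (cnt_nd' z2_4 z2_5) (cnt_nd' z2_6 z2_7)))
theorem hwl2 (j x : ℕ) : ∃ w ∈ WL2, wl2 j x = walk stp w x := (brecP (P := fun y => ∃ w ∈ WL2, y = walk stp w x) (brecP (P := fun y => ∃ w ∈ WL2, y = walk stp w x) (brecP (P := fun y => ∃ w ∈ WL2, y = walk stp w x) ⟨[TCG_Fi23.Col.a], List.mem_cons_self, rfl⟩ ⟨[TCG_Fi23.Col.b], (List.mem_cons_of_mem _ List.mem_cons_self), rfl⟩) (brecP (P := fun y => ∃ w ∈ WL2, y = walk stp w x) ⟨[TCG_Fi23.Col.c], (List.mem_cons_of_mem _ (List.mem_cons_of_mem _ List.mem_cons_self)), rfl⟩ ⟨[TCG_Fi23.Col.d], (List.mem_cons_of_mem _ (List.mem_cons_of_mem _ (List.mem_cons_of_mem _ List.mem_cons_self))), rfl⟩)) (brecP (P := fun y => ∃ w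 ∈ WL2, y = walk stp w x) (brecP (P := fun y => ∃ w ∈ WL2, y = walk stp w x) ⟨[TCG_Fi23.Col.e], (List.mem_cons_of_mem _ (List.mem_cons_of_mem _ (List.mem_cons_of_mem _ (List.mem_cons_of_mem _ List.mem_cons_self)))), rfl⟩ ⟨[TCG_Fi23.Col.f], (List.mem_cons_of_mem _ (List.mem_cons_of_mem _ (List.mem_cons_of_mem _ (List.mem_cons_of_mem _ (List.mem_cons_of_mem _ List.mem_cons_self))))), rfl⟩) (brecP (P := fun y => ∃ w ∈ WL2, y = walk stp w x) ⟨[TCG_Fi23.Col.h], (List.mem_cons_of_mem _ (List.mem_cons_of_mem _ (List.mem_cons_of_mem _ (List.mem_cons_of_mem _ (List.mem_cons_of_mem _ (List.mem_cons_of_mem _ List.mem_cons_self)))))), rfl⟩ ⟨[TCG_Fi23.Col.i], (List.mem_cons_of_mem _ (List.mem_cons_of_mem _ (List.mem_cons_of_mem _ (List.mem_cons_of_mem _ (List.mem_cons_of_mem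 _ (List.mem_cons_of_mem _ (List.mem_cons_of_mem _ List.mem_cons_self))))))), rfl⟩)))
theorem tree3 : Tr.all (treeR mt wl3 HP3 HR3 HW3 (nat_lit 546137)) L = true := (Tr.all_nd (Tr.all_nd (Tr.all_nd tree3_0 tree3_1) (Tr.all_nd tree3_2 tree3_3)) (Tr.all_nd (Tr.all_nd tree3_4 tree3_5) (Tr.all_nd tree3_6 tree3_7)))
theorem z3 : cnt HR3 0 L = 23895 := (cnt_nd' (cnt_nd' (cnt_nd' z3_0 z3_1) (cnt_nd' z3_2 z3_3)) (cnt_nd' (cnt_nd' z3_4 z3_5) (cnt_nd' z3_6 z3_7)))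
theorem hwl3 (j x : ℕ) : ∃ w ∈ WL3, wl3 j x = walk stp w x := (brecP (P := fun y => ∃ w ∈ WL3, y = walk stp w x) ⟨[TCG_Fi23.Col.i], List.mem_cons_self, rfl⟩ (brecP (P := fun y => ∃ w ∈ WL3, y = walk stp w x) ⟨[TCG_Fi23.Col.b, TCG_Fi23.Col.d, TCG_Fi23.Col.c, TCG_Fi23.Col.b, TCG_Fi23.Col.e, TCG_Fi23.Col.h, TCG_Fi23.Col.d, TCG_Fi23.Col.i, TCG_Fi23.Col.h, TCG_Fi23.Col.b, TCG_Fi23.Col.c, TCG_Fi23.Col.d, TCG_Fi23.Col.h, TCG_Fi23.Col.e, TCG_Fi23.Col.b, TCG_Fi23.Col.c, TCG_Fi23.Col.d], (List.mem_cons_of_mem _ List.mem_cons_self), rfl⟩ ⟨[TCG_Fi23.Col.a, TCG_Fi23.Col.b, TCG_Fi23.Col.d, TCG_Fi23.Col.c, TCG_Fi23.Col.b, TCG_Fi23.Col.h, TCG_Fi23.Col.d, TCG_Fi23.Col.c, TCG_Fi23.Col.e, TCG_Fi23.Col.d, TCG_Fi23.Col.f, TCG_Fi23.Col.i, TCG_Fi23.Col.h, TCG_Fi23.Col.d, TCG_Fi23.Col.c,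 TCG_Fi23.Col.e, TCG_Fi23.Col.d, TCG_Fi23.Col.f, TCG_Fi23.Col.e, TCG_Fi23.Col.i, TCG_Fi23.Col.c, TCG_Fi23.Col.d, TCG_Fi23.Col.h, TCG_Fi23.Col.i, TCG_Fi23.Col.e, TCG_Fi23.Col.b, TCG_Fi23.Col.c, TCG_Fi23.Col.d, TCG_Fi23.Col.h, TCG_Fi23.Col.e, TCG_Fi23.Col.f, TCG_Fi23.Col.c, TCG_Fi23.Col.d, TCG_Fi23.Col.e, TCG_Fi23.Col.a, TCG_Fi23.Col.b, TCG_Fi23.Col.c, TCG_Fi23.Col.d, TCG_Fi23.Col.b, TCG_Fi23.Col.a], (List.mem_cons_of_mem _ (List.mem_cons_of_mem _ List.mem_cons_self)), rfl⟩))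
theorem tree4 : Tr.all (treeR mt wl4 HP4 HR4 HW4 (nat_lit 524347)) L = true := (Tr.all_nd (Tr.all_nd (Tr.all_nd tree4_0 tree4_1) (Tr.all_nd tree4_2 tree4_3)) (Tr.all_nd (Tr.all_nd tree4_4 tree4_5) (Tr.all_nd tree4_6 tree4_7)))
theorem z4 : cnt HR4 0 L = 31644 := (cnt_nd' (cnt_nd' (cnt_nd' z4_0 z4_1) (cnt_nd' z4_2 z4_3)) (cnt_nd' (cnt_nd' z4_4 z4_5) (cnt_nd' z4_6 z4_7)))
theorem hwl4 (j x : ℕ) : ∃ w ∈ WL4, wl4 j x = walk stp w x := (brecP (P := fun y => ∃ w ∈ WL4, y = walk stp w x) ⟨[TCG_Fi23.Col.i, TCG_Fi23.Col.b, TCG_Fi23.Col.d, TCG_Fi23.Col.c, TCG_Fi23.Col.b, TCG_Fi23.Col.e, TCG_Fi23.Col.h, TCG_Fi23.Col.d, TCG_Fi23.Col.i, TCG_Fi23.Col.h, TCG_Fi23.Col.b, TCG_Fi23.Col.c, TCG_Fi23.Col.d, TCG_Fi23.Col.h, TCG_Fi23.Col.e, TCG_Fi23.Col.b, TCG_Fi23.Col.c, TCG_Fi23.Col.d,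 TCG_Fi23.Col.i, TCG_Fi23.Col.b, TCG_Fi23.Col.d, TCG_Fi23.Col.c, TCG_Fi23.Col.b, TCG_Fi23.Col.e, TCG_Fi23.Col.h, TCG_Fi23.Col.d, TCG_Fi23.Col.i, TCG_Fi23.Col.h, TCG_Fi23.Col.b, TCG_Fi23.Col.c, TCG_Fi23.Col.d, TCG_Fi23.Col.h, TCG_Fi23.Col.e, TCG_Fi23.Col.b, TCG_Fi23.Col.c, TCG_Fi23.Col.d, TCG_Fi23.Col.c, TCG_Fi23.Col.b, TCG_Fi23.Col.h, TCG_Fi23.Col.i, TCG_Fi23.Col.d, TCG_Fi23.Col.c, TCG_Fi23.Col.b, TCG_Fi23.Col.e, TCG_Fi23.Col.h, TCG_Fi23.Col.d, TCG_Fi23.Col.c, TCG_Fi23.Col.b, TCG_Fi23.Col.h, TCG_Fi23.Col.i, TCG_Fi23.Col.d, TCG_Fi23.Col.h, TCG_Fi23.Col.e, TCG_Fi23.Col.b, TCG_Fi23.Col.c, TCG_Fi23.Col.d, TCG_Fi23.Col.b, TCG_Fi23.Col.a, TCG_Fi23.Col.b, TCG_Fi23.Col.d, TCG_Fi23.Col.c, TCG_Fi23.Col.b, TCG_Fi23.Col.a, TCG_Fi23.Col.e, TCG_Fi23.Col.d, TCG_Fi23.Col.c,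 TCG_Fi23.Col.f, TCG_Fi23.Col.e, TCG_Fi23.Col.h, TCG_Fi23.Col.d, TCG_Fi23.Col.c, TCG_Fi23.Col.b, TCG_Fi23.Col.e, TCG_Fi23.Col.i, TCG_Fi23.Col.h, TCG_Fi23.Col.d, TCG_Fi23.Col.c, TCG_Fi23.Col.i, TCG_Fi23.Col.e, TCG_Fi23.Col.f, TCG_Fi23.Col.d, TCG_Fi23.Col.e, TCG_Fi23.Col.c, TCG_Fi23.Col.d, TCG_Fi23.Col.h, TCG_Fi23.Col.i, TCG_Fi23.Col.f, TCG_Fi23.Col.d, TCG_Fi23.Col.e, TCG_Fi23.Col.c, TCG_Fi23.Col.d, TCG_Fi23.Col.h, TCG_Fi23.Col.b, TCG_Fi23.Col.c, TCG_Fi23.Col.d, TCG_Fi23.Col.b, TCG_Fi23.Col.a, TCG_Fi23.Col.d, TCG_Fi23.Col.c, TCG_Fi23.Col.b, TCG_Fi23.Col.e, TCG_Fi23.Col.h, TCG_Fi23.Col.d, TCG_Fi23.Col.c, TCG_Fi23.Col.b, TCG_Fi23.Col.h, TCG_Fi23.Col.i, TCG_Fi23.Col.d, TCG_Fi23.Col.h, TCG_Fi23.Col.e, TCG_Fi23.Col.b, TCG_Fi23.Col.c, TCG_Fi23.Col.d, TCG_Fi23.Col.b,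 TCG_Fi23.Col.d, TCG_Fi23.Col.c, TCG_Fi23.Col.b, TCG_Fi23.Col.e, TCG_Fi23.Col.h, TCG_Fi23.Col.d, TCG_Fi23.Col.c, TCG_Fi23.Col.b, TCG_Fi23.Col.h, TCG_Fi23.Col.i, TCG_Fi23.Col.d, TCG_Fi23.Col.h, TCG_Fi23.Col.e, TCG_Fi23.Col.b, TCG_Fi23.Col.c, TCG_Fi23.Col.d, TCG_Fi23.Col.b, TCG_Fi23.Col.d, TCG_Fi23.Col.c, TCG_Fi23.Col.b, TCG_Fi23.Col.e, TCG_Fi23.Col.h, TCG_Fi23.Col.d, TCG_Fi23.Col.c, TCG_Fi23.Col.b, TCG_Fi23.Col.h, TCG_Fi23.Col.i, TCG_Fi23.Col.d, TCG_Fi23.Col.h, TCG_Fi23.Col.e, TCG_Fi23.Col.b, TCG_Fi23.Col.c, TCG_Fi23.Col.d, TCG_Fi23.Col.b], List.mem_cons_self, rfl⟩ (brecP (P := fun y => ∃ w ∈ WL4, y = walk stp w x) ⟨[TCG_Fi23.Col.b, TCG_Fi23.Col.d, TCG_Fi23.Col.c, TCG_Fi23.Col.b, TCG_Fi23.Col.e, TCG_Fi23.Col.h, TCG_Fi23.Col.d, TCG_Fi23.Col.i, TCG_Fi23.Col.h,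 TCG_Fi23.Col.b, TCG_Fi23.Col.c, TCG_Fi23.Col.d, TCG_Fi23.Col.h, TCG_Fi23.Col.e, TCG_Fi23.Col.b, TCG_Fi23.Col.c, TCG_Fi23.Col.d, TCG_Fi23.Col.b, TCG_Fi23.Col.d, TCG_Fi23.Col.c, TCG_Fi23.Col.b, TCG_Fi23.Col.e, TCG_Fi23.Col.h, TCG_Fi23.Col.d, TCG_Fi23.Col.i, TCG_Fi23.Col.h, TCG_Fi23.Col.b, TCG_Fi23.Col.c, TCG_Fi23.Col.d, TCG_Fi23.Col.h, TCG_Fi23.Col.e, TCG_Fi23.Col.b, TCG_Fi23.Col.c, TCG_Fi23.Col.d, TCG_Fi23.Col.b, TCG_Fi23.Col.d, TCG_Fi23.Col.c, TCG_Fi23.Col.b, TCG_Fi23.Col.e, TCG_Fi23.Col.h, TCG_Fi23.Col.d, TCG_Fi23.Col.i, TCG_Fi23.Col.h, TCG_Fi23.Col.b, TCG_Fi23.Col.c, TCG_Fi23.Col.d, TCG_Fi23.Col.h, TCG_Fi23.Col.e, TCG_Fi23.Col.b, TCG_Fi23.Col.c, TCG_Fi23.Col.d, TCG_Fi23.Col.b, TCG_Fi23.Col.d, TCG_Fi23.Col.c, TCG_Fi23.Col.b, TCG_Fi23.Col.e, TCG_Fi23.Col.h,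 TCG_Fi23.Col.d, TCG_Fi23.Col.i, TCG_Fi23.Col.h, TCG_Fi23.Col.b, TCG_Fi23.Col.c, TCG_Fi23.Col.d, TCG_Fi23.Col.h, TCG_Fi23.Col.e, TCG_Fi23.Col.b, TCG_Fi23.Col.c, TCG_Fi23.Col.d, TCG_Fi23.Col.a, TCG_Fi23.Col.c, TCG_Fi23.Col.d, TCG_Fi23.Col.c, TCG_Fi23.Col.f, TCG_Fi23.Col.g, TCG_Fi23.Col.j, TCG_Fi23.Col.g, TCG_Fi23.Col.i, TCG_Fi23.Col.g, TCG_Fi23.Col.j, TCG_Fi23.Col.g, TCG_Fi23.Col.c, TCG_Fi23.Col.d, TCG_Fi23.Col.a, TCG_Fi23.Col.i, TCG_Fi23.Col.a, TCG_Fi23.Col.b, TCG_Fi23.Col.d, TCG_Fi23.Col.c, TCG_Fi23.Col.b, TCG_Fi23.Col.a, TCG_Fi23.Col.e, TCG_Fi23.Col.d, TCG_Fi23.Col.c, TCG_Fi23.Col.f, TCG_Fi23.Col.e, TCG_Fi23.Col.h, TCG_Fi23.Col.d, TCG_Fi23.Col.c, TCG_Fi23.Col.b, TCG_Fi23.Col.e, TCG_Fi23.Col.i, TCG_Fi23.Col.h, TCG_Fi23.Col.d, TCG_Fi23.Col.c, TCG_Fi23.Col.i,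 TCG_Fi23.Col.e, TCG_Fi23.Col.f, TCG_Fi23.Col.d, TCG_Fi23.Col.e, TCG_Fi23.Col.c, TCG_Fi23.Col.d, TCG_Fi23.Col.h, TCG_Fi23.Col.i, TCG_Fi23.Col.f, TCG_Fi23.Col.d, TCG_Fi23.Col.e, TCG_Fi23.Col.c, TCG_Fi23.Col.d, TCG_Fi23.Col.h, TCG_Fi23.Col.b, TCG_Fi23.Col.c, TCG_Fi23.Col.d, TCG_Fi23.Col.b, TCG_Fi23.Col.a, TCG_Fi23.Col.d, TCG_Fi23.Col.c, TCG_Fi23.Col.b, TCG_Fi23.Col.e, TCG_Fi23.Col.h, TCG_Fi23.Col.d, TCG_Fi23.Col.c, TCG_Fi23.Col.b, TCG_Fi23.Col.h, TCG_Fi23.Col.i, TCG_Fi23.Col.d, TCG_Fi23.Col.h, TCG_Fi23.Col.e, TCG_Fi23.Col.b, TCG_Fi23.Col.c, TCG_Fi23.Col.d, TCG_Fi23.Col.b, TCG_Fi23.Col.d, TCG_Fi23.Col.c, TCG_Fi23.Col.b, TCG_Fi23.Col.e, TCG_Fi23.Col.h, TCG_Fi23.Col.d, TCG_Fi23.Col.c, TCG_Fi23.Col.b, TCG_Fi23.Col.h, TCG_Fi23.Col.i, TCG_Fi23.Col.d, TCG_Fi23.Col.h,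 TCG_Fi23.Col.e, TCG_Fi23.Col.b, TCG_Fi23.Col.c, TCG_Fi23.Col.d, TCG_Fi23.Col.b, TCG_Fi23.Col.a, TCG_Fi23.Col.b, TCG_Fi23.Col.d, TCG_Fi23.Col.c, TCG_Fi23.Col.b, TCG_Fi23.Col.a, TCG_Fi23.Col.e, TCG_Fi23.Col.d, TCG_Fi23.Col.c, TCG_Fi23.Col.f, TCG_Fi23.Col.e, TCG_Fi23.Col.h, TCG_Fi23.Col.d, TCG_Fi23.Col.c, TCG_Fi23.Col.b, TCG_Fi23.Col.e, TCG_Fi23.Col.i, TCG_Fi23.Col.h, TCG_Fi23.Col.d, TCG_Fi23.Col.c, TCG_Fi23.Col.i, TCG_Fi23.Col.e, TCG_Fi23.Col.f, TCG_Fi23.Col.d, TCG_Fi23.Col.e, TCG_Fi23.Col.c, TCG_Fi23.Col.d, TCG_Fi23.Col.h, TCG_Fi23.Col.i, TCG_Fi23.Col.f, TCG_Fi23.Col.d, TCG_Fi23.Col.e, TCG_Fi23.Col.c, TCG_Fi23.Col.d, TCG_Fi23.Col.h, TCG_Fi23.Col.b, TCG_Fi23.Col.c, TCG_Fi23.Col.d, TCG_Fi23.Col.b, TCG_Fi23.Col.a], (List.mem_cons_of_mem _ List.mem_cons_self),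 rfl⟩ ⟨[TCG_Fi23.Col.b, TCG_Fi23.Col.d, TCG_Fi23.Col.c, TCG_Fi23.Col.b, TCG_Fi23.Col.e, TCG_Fi23.Col.h, TCG_Fi23.Col.d, TCG_Fi23.Col.i, TCG_Fi23.Col.h, TCG_Fi23.Col.b, TCG_Fi23.Col.c, TCG_Fi23.Col.d, TCG_Fi23.Col.h, TCG_Fi23.Col.e, TCG_Fi23.Col.b, TCG_Fi23.Col.c, TCG_Fi23.Col.d, TCG_Fi23.Col.i, TCG_Fi23.Col.b, TCG_Fi23.Col.d, TCG_Fi23.Col.c, TCG_Fi23.Col.b, TCG_Fi23.Col.e, TCG_Fi23.Col.h, TCG_Fi23.Col.d, TCG_Fi23.Col.i, TCG_Fi23.Col.h, TCG_Fi23.Col.b, TCG_Fi23.Col.c, TCG_Fi23.Col.d, TCG_Fi23.Col.h, TCG_Fi23.Col.e, TCG_Fi23.Col.b, TCG_Fi23.Col.c, TCG_Fi23.Col.d, TCG_Fi23.Col.b, TCG_Fi23.Col.d, TCG_Fi23.Col.c, TCG_Fi23.Col.b, TCG_Fi23.Col.e, TCG_Fi23.Col.h, TCG_Fi23.Col.d, TCG_Fi23.Col.i, TCG_Fi23.Col.h, TCG_Fi23.Col.b, TCG_Fi23.Col.c, TCG_Fi23.Col.d, TCG_Fi23.Col.h,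 TCG_Fi23.Col.e, TCG_Fi23.Col.b, TCG_Fi23.Col.c, TCG_Fi23.Col.d, TCG_Fi23.Col.b, TCG_Fi23.Col.c, TCG_Fi23.Col.a, TCG_Fi23.Col.b, TCG_Fi23.Col.d, TCG_Fi23.Col.c, TCG_Fi23.Col.b, TCG_Fi23.Col.a, TCG_Fi23.Col.e, TCG_Fi23.Col.d, TCG_Fi23.Col.c, TCG_Fi23.Col.f, TCG_Fi23.Col.e, TCG_Fi23.Col.h, TCG_Fi23.Col.d, TCG_Fi23.Col.c, TCG_Fi23.Col.b, TCG_Fi23.Col.e, TCG_Fi23.Col.i, TCG_Fi23.Col.h, TCG_Fi23.Col.d, TCG_Fi23.Col.c, TCG_Fi23.Col.i, TCG_Fi23.Col.e, TCG_Fi23.Col.f, TCG_Fi23.Col.d, TCG_Fi23.Col.e, TCG_Fi23.Col.c, TCG_Fi23.Col.d, TCG_Fi23.Col.h, TCG_Fi23.Col.i, TCG_Fi23.Col.f, TCG_Fi23.Col.d, TCG_Fi23.Col.e, TCG_Fi23.Col.c, TCG_Fi23.Col.d, TCG_Fi23.Col.h, TCG_Fi23.Col.b, TCG_Fi23.Col.c, TCG_Fi23.Col.d, TCG_Fi23.Col.b, TCG_Fi23.Col.a, TCG_Fi23.Col.d, TCG_Fi23.Col.c,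 TCG_Fi23.Col.b, TCG_Fi23.Col.e, TCG_Fi23.Col.h, TCG_Fi23.Col.d, TCG_Fi23.Col.c, TCG_Fi23.Col.b, TCG_Fi23.Col.h, TCG_Fi23.Col.i, TCG_Fi23.Col.d, TCG_Fi23.Col.h, TCG_Fi23.Col.e, TCG_Fi23.Col.b, TCG_Fi23.Col.c, TCG_Fi23.Col.d, TCG_Fi23.Col.b, TCG_Fi23.Col.a, TCG_Fi23.Col.b, TCG_Fi23.Col.d, TCG_Fi23.Col.c, TCG_Fi23.Col.b, TCG_Fi23.Col.a, TCG_Fi23.Col.e, TCG_Fi23.Col.d, TCG_Fi23.Col.c, TCG_Fi23.Col.f, TCG_Fi23.Col.e, TCG_Fi23.Col.h, TCG_Fi23.Col.d, TCG_Fi23.Col.c, TCG_Fi23.Col.b, TCG_Fi23.Col.e, TCG_Fi23.Col.i, TCG_Fi23.Col.h, TCG_Fi23.Col.d, TCG_Fi23.Col.c, TCG_Fi23.Col.i, TCG_Fi23.Col.e, TCG_Fi23.Col.f, TCG_Fi23.Col.d, TCG_Fi23.Col.e, TCG_Fi23.Col.c, TCG_Fi23.Col.d, TCG_Fi23.Col.h, TCG_Fi23.Col.i, TCG_Fi23.Col.f, TCG_Fi23.Col.d, TCG_Fi23.Col.e, TCG_Fi23.Col.c,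 TCG_Fi23.Col.d, TCG_Fi23.Col.h, TCG_Fi23.Col.b, TCG_Fi23.Col.c, TCG_Fi23.Col.d, TCG_Fi23.Col.b, TCG_Fi23.Col.a, TCG_Fi23.Col.i, TCG_Fi23.Col.d, TCG_Fi23.Col.c, TCG_Fi23.Col.b, TCG_Fi23.Col.e, TCG_Fi23.Col.h, TCG_Fi23.Col.d, TCG_Fi23.Col.c, TCG_Fi23.Col.b, TCG_Fi23.Col.h, TCG_Fi23.Col.i, TCG_Fi23.Col.d, TCG_Fi23.Col.h, TCG_Fi23.Col.e, TCG_Fi23.Col.b, TCG_Fi23.Col.c, TCG_Fi23.Col.d, TCG_Fi23.Col.b, TCG_Fi23.Col.a, TCG_Fi23.Col.b, TCG_Fi23.Col.d, TCG_Fi23.Col.c, TCG_Fi23.Col.b, TCG_Fi23.Col.a, TCG_Fi23.Col.e, TCG_Fi23.Col.d, TCG_Fi23.Col.c, TCG_Fi23.Col.f, TCG_Fi23.Col.e, TCG_Fi23.Col.h, TCG_Fi23.Col.d, TCG_Fi23.Col.c, TCG_Fi23.Col.b, TCG_Fi23.Col.e, TCG_Fi23.Col.i, TCG_Fi23.Col.h, TCG_Fi23.Col.d, TCG_Fi23.Col.c, TCG_Fi23.Col.i, TCG_Fi23.Col.e, TCG_Fi23.Col.f,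 TCG_Fi23.Col.d, TCG_Fi23.Col.e, TCG_Fi23.Col.c, TCG_Fi23.Col.d, TCG_Fi23.Col.h, TCG_Fi23.Col.i, TCG_Fi23.Col.f, TCG_Fi23.Col.d, TCG_Fi23.Col.e, TCG_Fi23.Col.c, TCG_Fi23.Col.d, TCG_Fi23.Col.h, TCG_Fi23.Col.b, TCG_Fi23.Col.c, TCG_Fi23.Col.d, TCG_Fi23.Col.b, TCG_Fi23.Col.a, TCG_Fi23.Col.d, TCG_Fi23.Col.c, TCG_Fi23.Col.b, TCG_Fi23.Col.e, TCG_Fi23.Col.h, TCG_Fi23.Col.d, TCG_Fi23.Col.c, TCG_Fi23.Col.b, TCG_Fi23.Col.h, TCG_Fi23.Col.i, TCG_Fi23.Col.d, TCG_Fi23.Col.h, TCG_Fi23.Col.e, TCG_Fi23.Col.b, TCG_Fi23.Col.c, TCG_Fi23.Col.d, TCG_Fi23.Col.b, TCG_Fi23.Col.i], (List.mem_cons_of_mem _ (List.mem_cons_of_mem _ List.mem_cons_self)), rfl⟩))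
section
variable {Γ : Type} [Group Γ] [Finite Γ] (ψ : Γ →* Equiv.Perm (Om L)) (g : Col → Γ) (hψ : ∀ c, ψ (g c) = closed.perm c)
include hψ
omit hψ in
theorem lev5 : 1 ≤ Nat.card (stabN ψ [524347, 546137, 527143, 524341, 524309]) := lev_zero _ _
theorem lev4 : 27 ≤ Nat.card (stabN ψ [546137, 527143, 524341, 524309]) :=
  lev_step3 (n := 27) closed nodup ψ g hψ [546137, 527143, 524341, 524309] 524347 size_L (mt_sound _ (by decide +kernel)) mt_sound hwl4 (by decide +kernel) tree4 z4 (lev5 ψ) (by norm_num) (by norm_num)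
theorem lev3 : 209952 ≤ Nat.card (stabN ψ [527143, 524341, 524309]) :=
  lev_step3 (n := 7776) closed nodup ψ g hψ [527143, 524341, 524309] 546137 size_L (mt_sound _ (by decide +kernel)) mt_sound hwl3 (by decide +kernel) tree3 z3 (lev4 ψ g hψ) (by norm_num) (by norm_num)
theorem lev2 : 4585351680 ≤ Nat.card (stabN ψ [524341, 524309]) :=
  lev_step3 (n := 21840) closed nodup ψ g hψ [524341, 524309] 527143 size_L (mt_sound _ (by decide +kernel)) mt_sound hwl2 (by decide +kernel) tree2 z2 (lev3 ψ g hψ) (by norm_num) (by norm_num)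
theorem lev1 : 129123503308800 ≤ Nat.card (stabN ψ [524309]) :=
  lev_step3 (n := 28160) closed nodup ψ g hψ [524309] 524341 size_L (mt_sound _ (by decide +kernel)) mt_sound hwl1 (by decide +kernel) tree1 z1 (lev2 ψ g hψ) (by norm_num) (by norm_num)
theorem lev0 : 4089470473293004800 ≤ Nat.card (stabN ψ []) :=
  lev_step3 (n := 31671) closed nodup ψ g hψ [] 524309 size_L (mt_sound _ (by decide +kernel)) mt_sound hwl0 (by decide +kernel) tree0 z0 (lev1 ψ g hψ) (by norm_num) (by norm_num)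
end
end CfsgLib.TCFi23.Chain
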