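import Cfsg.Agent.EqBase
import Cfsg.Agent.LibTCFi23bW
set_option autoImplicit false
set_option linter.all false
set_option maxRecDepth 1000000
set_option maxHeartbeats 0
namespace CfsgLib.TCFi23b
open CfsgLib.TC Cfsg.Spor
noncomputable def mini0S : Tr (Fc Col) := (Tr.nd (nat_lit 295) (Tr.nd (nat_lit 147) (Tr.nd (nat_lit 73) (Tr.nd (nat_lit 36) (Tr.nd (nat_lit 18) (Tr.nd (nat_lit 9) (Tr.nd (nat_lit 4) (Tr.nd (nat_lit 2) (Tr.nd (nat_lit 1) (Tr.lf (Fc.ed (nat_lit 0) (nat_lit 0) Col.b (nat_lit 0) (Dv.sb (nat_lit 0) [] [])))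
(Tr.lf (Fc.ed (nat_lit 1) (nat_lit 0) Col.c (nat_lit 0) (Dv.sb (nat_lit 1) [] []))))
(Tr.nd (nat_lit 3) (Tr.lf (Fc.ed (nat_lit 2) (nat_lit 0) Col.d (nat_lit 0) (Dv.sb (nat_lit 2) [] [])))
(Tr.lf (Fc.ed (nat_lit 3) (nat_lit 0) Col.e (nat_lit 0) (Dv.sb (nat_lit 3) [] [])))))
(Tr.nd (nat_lit 6) (Tr.nd (nat_lit 5) (Tr.lf (Fc.ed (nat_lit 4) (nat_lit 0) Col.f (nat_lit 0) (Dv.sb (nat_lit 4) [] [])))
(Tr.lf (Fc.ed (nat_lit 5) (nat_lit 0) Col.h (nat_lit 0) (Dv.sb (nat_lit 5) [] []))))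
(Tr.nd (nat_lit 7) (Tr.lf (Fc.ed (nat_lit 6) (nat_lit 0) Col.i (nat_lit 0) (Dv.sb (nat_lit 6) [] [])))
(Tr.nd (nat_lit 8) (Tr.lf (Fc.ed (nat_lit 7) (nat_lit 0) Col.a (nat_lit 1) Dv.df))
(Tr.lf (Fc.ed (nat_lit 8) (nat_lit 1) Col.c (nat_lit 1) (Dv.wd (nat_lit 7) [Mv.b (nat_lit 7), Mv.f (nat_lit 1), Mv.f (nat_lit 7)])))))))
(Tr.nd (nat_lit 13) (Tr.nd (nat_lit 11) (Tr.nd (nat_lit 10) (Tr.lf (Fc.ed (nat_lit 9) (nat_lit 1) Col.d (nat_lit 1) (Dv.wd (nat_lit 8) [Mv.b (nat_lit 7), Mv.f (nat_lit 2), Mv.f (nat_lit 7)])))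
(Tr.lf (Fc.ed (nat_lit 10) (nat_lit 1) Col.e (nat_lit 1) (Dv.wd (nat_lit 9) [Mv.b (nat_lit 7), Mv.f (nat_lit 3), Mv.f (nat_lit 7)]))))
(Tr.nd (nat_lit 12) (Tr.lf (Fc.ed (nat_lit 11) (nat_lit 1) Col.f (nat_lit 1) (Dv.wd (nat_lit 10) [Mv.b (nat_lit 7), Mv.f (nat_lit 4), Mv.f (nat_lit 7)])))
(Tr.lf (Fc.ed (nat_lit 12) (nat_lit 1) Col.h (nat_lit 1) (Dv.wd (nat_lit 11) [Mv.b (nat_lit 7), Mv.f (nat_lit 5), Mv.f (nat_lit 7)])))))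
(Tr.nd (nat_lit 15) (Tr.nd (nat_lit 14) (Tr.lf (Fc.ed (nat_lit 13) (nat_lit 1) Col.i (nat_lit 1) (Dv.wd (nat_lit 12) [Mv.b (nat_lit 7), Mv.f (nat_lit 6), Mv.f (nat_lit 7)])))
(Tr.lf (Fc.ed (nat_lit 14) (nat_lit 1) Col.b (nat_lit 2) Dv.df)))
(Tr.nd (nat_lit 16) (Tr.lf (Fc.ed (nat_lit 15) (nat_lit 2) Col.d (nat_lit 2) (Dv.wd (nat_lit 13) [Mv.b (nat_lit 14), Mv.f (nat_lit 9), Mv.f (nat_lit 14)])))
(Tr.nd (nat_lit 17) (Tr.lf (Fc.ed (nat_lit 16) (nat_lit 2) Col.e (nat_lit 2) (Dv.wd (nat_lit 14) [Mv.b (nat_lit 14), Mv.f (nat_lit 10), Mv.f (nat_lit 14)])))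
(Tr.lf (Fc.ed (nat_lit 17) (nat_lit 2) Col.f (nat_lit 2) (Dv.wd (nat_lit 15) [Mv.b (nat_lit 14), Mv.f (nat_lit 11), Mv.f (nat_lit 14)]))))))))
(Tr.nd (nat_lit 27) (Tr.nd (nat_lit 22) (Tr.nd (nat_lit 20) (Tr.nd (nat_lit 19) (Tr.lf (Fc.ed (nat_lit 18) (nat_lit 2) Col.h (nat_lit 2) (Dv.wd (nat_lit 16) [Mv.b (nat_lit 14), Mv.f (nat_lit 12), Mv.f (nat_lit 14)])))
(Tr.lf (Fc.ed (nat_lit 19) (nat_lit 2) Col.i (nat_lit 2) (Dv.wd (nat_lit 17) [Mv.b (nat_lit 14), Mv.f (nat_lit 13), Mv.f (nat_lit 14)]))))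
(Tr.nd (nat_lit 21) (Tr.lf (Fc.ed (nat_lit 20) (nat_lit 2) Col.a (nat_lit 2) (Dv.wd (nat_lit 18) [Mv.b (nat_lit 14), Mv.b (nat_lit 7), Mv.f (nat_lit 0), Mv.f (nat_lit 7), Mv.f (nat_lit 14)])))
(Tr.lf (Fc.ed (nat_lit 21) (nat_lit 2) Col.c (nat_lit 3) Dv.df))))
(Tr.nd (nat_lit 24) (Tr.nd (nat_lit 23) (Tr.lf (Fc.ed (nat_lit 22) (nat_lit 3) Col.a (nat_lit 3) (Dv.wd (nat_lit 19) [Mv.b (nat_lit 21), Mv.f (nat_lit 20), Mv.f (nat_lit 21)])))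
(Tr.lf (Fc.ed (nat_lit 23) (nat_lit 3) Col.e (nat_lit 3) (Dv.wd (nat_lit 20) [Mv.b (nat_lit 21), Mv.f (nat_lit 16), Mv.f (nat_lit 21)]))))
(Tr.nd (nat_lit 25) (Tr.lf (Fc.ed (nat_lit 24) (nat_lit 3) Col.f (nat_lit 3) (Dv.wd (nat_lit 21) [Mv.b (nat_lit 21), Mv.f (nat_lit 17), Mv.f (nat_lit 21)])))
(Tr.nd (nat_lit 26) (Tr.lf (Fc.ed (nat_lit 25) (nat_lit 3) Col.h (nat_lit 3) (Dv.wd (nat_lit 22) [Mv.b (nat_lit 21), Mv.f (nat_lit 18), Mv.f (nat_lit 21)])))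
(Tr.lf (Fc.ed (nat_lit 26) (nat_lit 3) Col.i (nat_lit 3) (Dv.wd (nat_lit 23) [Mv.b (nat_lit 21), Mv.f (nat_lit 19), Mv.f (nat_lit 21)])))))))
(Tr.nd (nat_lit 31) (Tr.nd (nat_lit 29) (Tr.nd (nat_lit 28) (Tr.lf (Fc.ed (nat_lit 27) (nat_lit 3) Col.b (nat_lit 3) (Dv.wd (nat_lit 24) [Mv.b (nat_lit 21), Mv.b (nat_lit 14), Mv.f (nat_lit 8), Mv.f (nat_lit 14), Mv.f (nat_lit 21)])))
(Tr.lf (Fc.ed (nat_lit 28) (nat_lit 3) Col.d (nat_lit 4) Dv.df)))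
(Tr.nd (nat_lit 30) (Tr.lf (Fc.ed (nat_lit 29) (nat_lit 4) Col.a (nat_lit 4) (Dv.wd (nat_lit 25) [Mv.b (nat_lit 28), Mv.f (nat_lit 22), Mv.f (nat_lit 28)])))
(Tr.lf (Fc.ed (nat_lit 30) (nat_lit 4) Col.b (nat_lit 4) (Dv.wd (nat_lit 26) [Mv.b (nat_lit 28), Mv.f (nat_lit 27), Mv.f (nat_lit 28)])))))
(Tr.nd (nat_lit 33) (Tr.nd (nat_lit 32) (Tr.lf (Fc.ed (nat_lit 31) (nat_lit 4) Col.f (nat_lit 4) (Dv.wd (nat_lit 27) [Mv.b (nat_lit 28), Mv.f (nat_lit 24), Mv.f (nat_lit 28)])))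
(Tr.lf (Fc.ed (nat_lit 32) (nat_lit 4) Col.i (nat_lit 4) (Dv.wd (nat_lit 28) [Mv.b (nat_lit 28), Mv.f (nat_lit 26), Mv.f (nat_lit 28)]))))
(Tr.nd (nat_lit 34) (Tr.lf (Fc.ed (nat_lit 33) (nat_lit 4) Col.c (nat_lit 4) (Dv.wd (nat_lit 29) [Mv.b (nat_lit 28), Mv.b (nat_lit 21), Mv.f (nat_lit 15), Mv.f (nat_lit 21), Mv.f (nat_lit 28)])))
(Tr.nd (nat_lit 35) (Tr.lf (Fc.ed (nat_lit 34) (nat_lit 4) Col.e (nat_lit 5) Dv.df))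
(Tr.lf (Fc.ed (nat_lit 35) (nat_lit 5) Col.a (nat_lit 5) (Dv.wd (nat_lit 30) [Mv.b (nat_lit 34), Mv.f (nat_lit 29), Mv.f (nat_lit 34)])))))))))
(Tr.nd (nat_lit 54) (Tr.nd (nat_lit 45) (Tr.nd (nat_lit 40) (Tr.nd (nat_lit 38) (Tr.nd (nat_lit 37) (Tr.lf (Fc.ed (nat_lit 36) (nat_lit 5) Col.b (nat_lit 5) (Dv.wd (nat_lit 31) [Mv.b (nat_lit 34), Mv.f (nat_lit 30), Mv.f (nat_lit 34)])))
(Tr.lf (Fc.ed (nat_lit 37) (nat_lit 5) Col.c (nat_lit 5) (Dv.wd (nat_lit 32) [Mv.b (nat_lit 34), Mv.f (nat_lit 33), Mv.f (nat_lit 34)]))))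
(Tr.nd (nat_lit 39) (Tr.lf (Fc.ed (nat_lit 38) (nat_lit 5) Col.i (nat_lit 5) (Dv.wd (nat_lit 33) [Mv.b (nat_lit 34), Mv.f (nat_lit 32), Mv.f (nat_lit 34)])))
(Tr.lf (Fc.ed (nat_lit 39) (nat_lit 5) Col.d (nat_lit 5) (Dv.wd (nat_lit 34) [Mv.b (nat_lit 34), Mv.b (nat_lit 28), Mv.f (nat_lit 23), Mv.f (nat_lit 28), Mv.f (nat_lit 34)])))))
(Tr.nd (nat_lit 42) (Tr.nd (nat_lit 41) (Tr.lf (Fc.ed (nat_lit 40) (nat_lit 5) Col.h (nat_lit 6) Dv.df))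
(Tr.lf (Fc.ed (nat_lit 41) (nat_lit 6) Col.a (nat_lit 6) (Dv.wd (nat_lit 35) [Mv.b (nat_lit 40), Mv.f (nat_lit 35), Mv.f (nat_lit 40)]))))
(Tr.nd (nat_lit 43) (Tr.lf (Fc.ed (nat_lit 42) (nat_lit 6) Col.b (nat_lit 6) (Dv.wd (nat_lit 36) [Mv.b (nat_lit 40), Mv.f (nat_lit 36), Mv.f (nat_lit 40)])))
(Tr.nd (nat_lit 44) (Tr.lf (Fc.ed (nat_lit 43) (nat_lit 6) Col.c (nat_lit 6) (Dv.wd (nat_lit 37) [Mv.b (nat_lit 40), Mv.f (nat_lit 37), Mv.f (nat_lit 40)])))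
(Tr.lf (Fc.ed (nat_lit 44) (nat_lit 6) Col.d (nat_lit 7) Dv.df))))))
(Tr.nd (nat_lit 49) (Tr.nd (nat_lit 47) (Tr.nd (nat_lit 46) (Tr.lf (Fc.ed (nat_lit 45) (nat_lit 7) Col.a (nat_lit 7) (Dv.wd (nat_lit 25) [Mv.b (nat_lit 44), Mv.f (nat_lit 41), Mv.f (nat_lit 44)])))
(Tr.lf (Fc.ed (nat_lit 46) (nat_lit 7) Col.b (nat_lit 7) (Dv.wd (nat_lit 26) [Mv.b (nat_lit 44), Mv.f (nat_lit 42), Mv.f (nat_lit 44)]))))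
(Tr.nd (nat_lit 48) (Tr.lf (Fc.ed (nat_lit 47) (nat_lit 7) Col.h (nat_lit 7) (Dv.wd (nat_lit 38) [Mv.b (nat_lit 44), Mv.b (nat_lit 40), Mv.f (nat_lit 39), Mv.f (nat_lit 40), Mv.f (nat_lit 44)])))
(Tr.lf (Fc.ed (nat_lit 48) (nat_lit 7) Col.c (nat_lit 8) Dv.df))))
(Tr.nd (nat_lit 51) (Tr.nd (nat_lit 50) (Tr.lf (Fc.ed (nat_lit 49) (nat_lit 8) Col.a (nat_lit 8) (Dv.wd (nat_lit 19) [Mv.b (nat_lit 48), Mv.f (nat_lit 45), Mv.f (nat_lit 48)])))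
(Tr.lf (Fc.ed (nat_lit 50) (nat_lit 8) Col.h (nat_lit 8) (Dv.wd (nat_lit 22) [Mv.b (nat_lit 48), Mv.f (nat_lit 47), Mv.f (nat_lit 48)]))))
(Tr.nd (nat_lit 52) (Tr.lf (Fc.ed (nat_lit 51) (nat_lit 8) Col.d (nat_lit 8) (Dv.wd (nat_lit 39) [Mv.b (nat_lit 48), Mv.b (nat_lit 44), Mv.f (nat_lit 43), Mv.f (nat_lit 44), Mv.f (nat_lit 48)])))
(Tr.nd (nat_lit 53) (Tr.lf (Fc.ed (nat_lit 52) (nat_lit 8) Col.b (nat_lit 9) Dv.df))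
(Tr.lf (Fc.ed (nat_lit 53) (nat_lit 9) Col.d (nat_lit 9) (Dv.wd (nat_lit 13) [Mv.b (nat_lit 52), Mv.f (nat_lit 51), Mv.f (nat_lit 52)]))))))))
(Tr.nd (nat_lit 63) (Tr.nd (nat_lit 58) (Tr.nd (nat_lit 56) (Tr.nd (nat_lit 55) (Tr.lf (Fc.ed (nat_lit 54) (nat_lit 9) Col.h (nat_lit 9) (Dv.wd (nat_lit 16) [Mv.b (nat_lit 52), Mv.f (nat_lit 50), Mv.f (nat_lit 52)])))
(Tr.lf (Fc.ed (nat_lit 55) (nat_lit 9) Col.c (nat_lit 9) (Dv.wd (nat_lit 40) [Mv.b (nat_lit 52), Mv.b (nat_lit 48), Mv.f (nat_lit 46), Mv.f (nat_lit 48), Mv.f (nat_lit 52)]))))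
(Tr.nd (nat_lit 57) (Tr.lf (Fc.ed (nat_lit 56) (nat_lit 9) Col.a (nat_lit 10) Dv.df))
(Tr.lf (Fc.ed (nat_lit 57) (nat_lit 10) Col.c (nat_lit 10) (Dv.wd (nat_lit 7) [Mv.b (nat_lit 56), Mv.f (nat_lit 55), Mv.f (nat_lit 56)])))))
(Tr.nd (nat_lit 60) (Tr.nd (nat_lit 59) (Tr.lf (Fc.ed (nat_lit 58) (nat_lit 10) Col.d (nat_lit 10) (Dv.wd (nat_lit 8) [Mv.b (nat_lit 56), Mv.f (nat_lit 53), Mv.f (nat_lit 56)])))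
(Tr.lf (Fc.ed (nat_lit 59) (nat_lit 10) Col.h (nat_lit 10) (Dv.wd (nat_lit 11) [Mv.b (nat_lit 56), Mv.f (nat_lit 54), Mv.f (nat_lit 56)]))))
(Tr.nd (nat_lit 61) (Tr.lf (Fc.ed (nat_lit 60) (nat_lit 10) Col.b (nat_lit 10) (Dv.wd (nat_lit 41) [Mv.b (nat_lit 56), Mv.b (nat_lit 52), Mv.f (nat_lit 49), Mv.f (nat_lit 52), Mv.f (nat_lit 56)])))
(Tr.nd (nat_lit 62) (Tr.lf (Fc.ed (nat_lit 61) (nat_lit 10) Col.i (nat_lit 11) Dv.df))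
(Tr.lf (Fc.ed (nat_lit 62) (nat_lit 11) Col.b (nat_lit 11) (Dv.wd (nat_lit 42) [Mv.b (nat_lit 61), Mv.f (nat_lit 60), Mv.f (nat_lit 61)])))))))
(Tr.nd (nat_lit 68) (Tr.nd (nat_lit 65) (Tr.nd (nat_lit 64) (Tr.lf (Fc.ed (nat_lit 63) (nat_lit 11) Col.c (nat_lit 11) (Dv.wd (nat_lit 43) [Mv.b (nat_lit 61), Mv.f (nat_lit 57), Mv.f (nat_lit 61)])))
(Tr.lf (Fc.ed (nat_lit 64) (nat_lit 11) Col.d (nat_lit 11) (Dv.wd (nat_lit 44) [Mv.b (nat_lit 61), Mv.f (nat_lit 58), Mv.f (nat_lit 61)]))))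
(Tr.nd (nat_lit 66) (Tr.lf (Fc.ed (nat_lit 65) (nat_lit 11) Col.h (nat_lit 12) Dv.df))
(Tr.nd (nat_lit 67) (Tr.lf (Fc.ed (nat_lit 66) (nat_lit 12) Col.b (nat_lit 12) (Dv.wd (nat_lit 36) [Mv.b (nat_lit 65), Mv.f (nat_lit 62), Mv.f (nat_lit 65)])))
(Tr.lf (Fc.ed (nat_lit 67) (nat_lit 12) Col.c (nat_lit 12) (Dv.wd (nat_lit 37) [Mv.b (nat_lit 65), Mv.f (nat_lit 63), Mv.f (nat_lit 65)]))))))
(Tr.nd (nat_lit 70) (Tr.nd (nat_lit 69) (Tr.lf (Fc.ed (nat_lit 68) (nat_lit 12) Col.i (nat_lit 12) (Dv.wd (nat_lit 45) [Mv.b (nat_lit 65), Mv.b (nat_lit 61), Mv.f (nat_lit 59), Mv.f (nat_lit 61), Mv.f (nat_lit 65)])))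
(Tr.lf (Fc.ed (nat_lit 69) (nat_lit 12) Col.d (nat_lit 13) Dv.df)))
(Tr.nd (nat_lit 71) (Tr.lf (Fc.ed (nat_lit 70) (nat_lit 13) Col.b (nat_lit 13) (Dv.wd (nat_lit 26) [Mv.b (nat_lit 69), Mv.f (nat_lit 66), Mv.f (nat_lit 69)])))
(Tr.nd (nat_lit 72) (Tr.lf (Fc.ed (nat_lit 71) (nat_lit 13) Col.i (nat_lit 13) (Dv.wd (nat_lit 28) [Mv.b (nat_lit 69), Mv.f (nat_lit 68), Mv.f (nat_lit 69)])))
(Tr.lf (Fc.ed (nat_lit 72) (nat_lit 13) Col.h (nat_lit 13) (Dv.wd (nat_lit 38) [Mv.b (nat_lit 69), Mv.b (nat_lit 65), Mv.f (nat_lit 64), Mv.f (nat_lit 65), Mv.f (nat_lit 69)]))))))))))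
(Tr.nd (nat_lit 110) (Tr.nd (nat_lit 91) (Tr.nd (nat_lit 82) (Tr.nd (nat_lit 77) (Tr.nd (nat_lit 75) (Tr.nd (nat_lit 74) (Tr.lf (Fc.ed (nat_lit 73) (nat_lit 13) Col.c (nat_lit 14) Dv.df))
(Tr.lf (Fc.ed (nat_lit 74) (nat_lit 14) Col.h (nat_lit 14) (Dv.wd (nat_lit 22) [Mv.b (nat_lit 73), Mv.f (nat_lit 72), Mv.f (nat_lit 73)]))))
(Tr.nd (nat_lit 76) (Tr.lf (Fc.ed (nat_lit 75) (nat_lit 14) Col.i (nat_lit 14) (Dv.wd (nat_lit 23) [Mv.b (nat_lit 73), Mv.f (nat_lit 71), Mv.f (nat_lit 73)])))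
(Tr.lf (Fc.ed (nat_lit 76) (nat_lit 14) Col.d (nat_lit 14) (Dv.wd (nat_lit 39) [Mv.b (nat_lit 73), Mv.b (nat_lit 69), Mv.f (nat_lit 67), Mv.f (nat_lit 69), Mv.f (nat_lit 73)])))))
(Tr.nd (nat_lit 79) (Tr.nd (nat_lit 78) (Tr.lf (Fc.ed (nat_lit 77) (nat_lit 14) Col.e (nat_lit 15) Dv.df))
(Tr.lf (Fc.ed (nat_lit 78) (nat_lit 15) Col.h (nat_lit 15) (Dv.wd (nat_lit 46) [Mv.b (nat_lit 77), Mv.f (nat_lit 74), Mv.f (nat_lit 77)]))))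
(Tr.nd (nat_lit 80) (Tr.lf (Fc.ed (nat_lit 79) (nat_lit 15) Col.i (nat_lit 15) (Dv.wd (nat_lit 33) [Mv.b (nat_lit 77), Mv.f (nat_lit 75), Mv.f (nat_lit 77)])))
(Tr.nd (nat_lit 81) (Tr.lf (Fc.ed (nat_lit 80) (nat_lit 15) Col.d (nat_lit 16) Dv.df))
(Tr.lf (Fc.ed (nat_lit 81) (nat_lit 16) Col.i (nat_lit 16) (Dv.wd (nat_lit 28) [Mv.b (nat_lit 80), Mv.f (nat_lit 79), Mv.f (nat_lit 80)])))))))
(Tr.nd (nat_lit 86) (Tr.nd (nat_lit 84) (Tr.nd (nat_lit 83) (Tr.lf (Fc.ed (nat_lit 82) (nat_lit 16) Col.e (nat_lit 16) (Dv.wd (nat_lit 47) [Mv.b (nat_lit 80), Mv.b (nat_lit 77), Mv.f (nat_lit 76), Mv.f (nat_lit 77), Mv.f (nat_lit 80)])))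
(Tr.lf (Fc.ed (nat_lit 83) (nat_lit 16) Col.h (nat_lit 17) Dv.df)))
(Tr.nd (nat_lit 85) (Tr.lf (Fc.ed (nat_lit 84) (nat_lit 17) Col.e (nat_lit 17) (Dv.wd (nat_lit 48) [Mv.b (nat_lit 83), Mv.f (nat_lit 82), Mv.f (nat_lit 83)])))
(Tr.lf (Fc.ed (nat_lit 85) (nat_lit 17) Col.d (nat_lit 17) (Dv.wd (nat_lit 49) [Mv.b (nat_lit 83), Mv.b (nat_lit 80), Mv.f (nat_lit 78), Mv.f (nat_lit 80), Mv.f (nat_lit 83)])))))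
(Tr.nd (nat_lit 88) (Tr.nd (nat_lit 87) (Tr.lf (Fc.ed (nat_lit 86) (nat_lit 17) Col.i (nat_lit 18) Dv.df))
(Tr.lf (Fc.ed (nat_lit 87) (nat_lit 18) Col.d (nat_lit 18) (Dv.wd (nat_lit 44) [Mv.b (nat_lit 86), Mv.f (nat_lit 85), Mv.f (nat_lit 86)]))))
(Tr.nd (nat_lit 89) (Tr.lf (Fc.ed (nat_lit 88) (nat_lit 18) Col.e (nat_lit 18) (Dv.wd (nat_lit 50) [Mv.b (nat_lit 86), Mv.f (nat_lit 84), Mv.f (nat_lit 86)])))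
(Tr.nd (nat_lit 90) (Tr.lf (Fc.ed (nat_lit 89) (nat_lit 18) Col.h (nat_lit 18) (Dv.wd (nat_lit 51) [Mv.b (nat_lit 86), Mv.b (nat_lit 83), Mv.f (nat_lit 81), Mv.f (nat_lit 83), Mv.f (nat_lit 86)])))
(Tr.lf (Fc.ed (nat_lit 90) (nat_lit 18) Col.b (nat_lit 19) Dv.df)))))))
(Tr.nd (nat_lit 100) (Tr.nd (nat_lit 95) (Tr.nd (nat_lit 93) (Tr.nd (nat_lit 92) (Tr.lf (Fc.ed (nat_lit 91) (nat_lit 19) Col.e (nat_lit 19) (Dv.wd (nat_lit 14) [Mv.b (nat_lit 90), Mv.f (nat_lit 88), Mv.f (nat_lit 90)])))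
(Tr.lf (Fc.ed (nat_lit 92) (nat_lit 19) Col.h (nat_lit 19) (Dv.wd (nat_lit 16) [Mv.b (nat_lit 90), Mv.f (nat_lit 89), Mv.f (nat_lit 90)]))))
(Tr.nd (nat_lit 94) (Tr.lf (Fc.ed (nat_lit 93) (nat_lit 19) Col.c (nat_lit 20) Dv.df))
(Tr.lf (Fc.ed (nat_lit 94) (nat_lit 20) Col.e (nat_lit 20) (Dv.wd (nat_lit 20) [Mv.b (nat_lit 93), Mv.f (nat_lit 91), Mv.f (nat_lit 93)])))))
(Tr.nd (nat_lit 97) (Tr.nd (nat_lit 96) (Tr.lf (Fc.ed (nat_lit 95) (nat_lit 20) Col.h (nat_lit 20) (Dv.wd (nat_lit 22) [Mv.b (nat_lit 93), Mv.f (nat_lit 92), Mv.f (nat_lit 93)])))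
(Tr.lf (Fc.ed (nat_lit 96) (nat_lit 20) Col.d (nat_lit 21) Dv.df)))
(Tr.nd (nat_lit 98) (Tr.lf (Fc.ed (nat_lit 97) (nat_lit 21) Col.h (nat_lit 22) Dv.df))
(Tr.nd (nat_lit 99) (Tr.lf (Fc.ed (nat_lit 98) (nat_lit 22) Col.d (nat_lit 22) (Dv.wd (nat_lit 49) [Mv.b (nat_lit 97), Mv.b (nat_lit 96), Mv.f (nat_lit 95), Mv.f (nat_lit 96), Mv.f (nat_lit 97)])))
(Tr.lf (Fc.ed (nat_lit 99) (nat_lit 22) Col.e (nat_lit 23) Dv.df))))))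
(Tr.nd (nat_lit 105) (Tr.nd (nat_lit 102) (Tr.nd (nat_lit 101) (Tr.lf (Fc.ed (nat_lit 100) (nat_lit 15) Col.c (nat_lit 24) Dv.df))
(Tr.lf (Fc.ed (nat_lit 101) (nat_lit 24) Col.e (nat_lit 13) (Dv.wd (nat_lit 20) [Mv.f (nat_lit 73), Mv.f (nat_lit 77), Mv.f (nat_lit 100)]))))
(Tr.nd (nat_lit 103) (Tr.lf (Fc.ed (nat_lit 102) (nat_lit 24) Col.b (nat_lit 24) (Dv.wd (nat_lit 52) [Mv.f (nat_lit 101), Mv.f (nat_lit 70), Mv.b (nat_lit 101)])))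
(Tr.nd (nat_lit 104) (Tr.lf (Fc.ed (nat_lit 103) (nat_lit 16) Col.f (nat_lit 25) Dv.df))
(Tr.lf (Fc.ed (nat_lit 104) (nat_lit 9) Col.f (nat_lit 26) Dv.df)))))
(Tr.nd (nat_lit 107) (Tr.nd (nat_lit 106) (Tr.lf (Fc.ed (nat_lit 105) (nat_lit 26) Col.c (nat_lit 26) (Dv.wd (nat_lit 53) [Mv.b (nat_lit 104), Mv.f (nat_lit 55), Mv.f (nat_lit 104)])))
(Tr.lf (Fc.ed (nat_lit 106) (nat_lit 26) Col.d (nat_lit 26) (Dv.wd (nat_lit 54) [Mv.b (nat_lit 104), Mv.f (nat_lit 53), Mv.f (nat_lit 104)]))))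
(Tr.nd (nat_lit 108) (Tr.lf (Fc.ed (nat_lit 107) (nat_lit 8) Col.f (nat_lit 27) Dv.df))
(Tr.nd (nat_lit 109) (Tr.lf (Fc.ed (nat_lit 108) (nat_lit 27) Col.a (nat_lit 27) (Dv.wd (nat_lit 55) [Mv.b (nat_lit 107), Mv.f (nat_lit 49), Mv.f (nat_lit 107)])))
(Tr.lf (Fc.ed (nat_lit 109) (nat_lit 27) Col.b (nat_lit 26) (Dv.wd (nat_lit 56) [Mv.b (nat_lit 104), Mv.b (nat_lit 52), Mv.f (nat_lit 107)])))))))))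
(Tr.nd (nat_lit 128) (Tr.nd (nat_lit 119) (Tr.nd (nat_lit 114) (Tr.nd (nat_lit 112) (Tr.nd (nat_lit 111) (Tr.lf (Fc.ed (nat_lit 110) (nat_lit 27) Col.d (nat_lit 27) (Dv.wd (nat_lit 54) [Mv.b (nat_lit 107), Mv.f (nat_lit 51), Mv.f (nat_lit 107)])))
(Tr.lf (Fc.ed (nat_lit 111) (nat_lit 27) Col.h (nat_lit 27) (Dv.wd (nat_lit 57) [Mv.b (nat_lit 107), Mv.f (nat_lit 50), Mv.f (nat_lit 107)]))))
(Tr.nd (nat_lit 113) (Tr.lf (Fc.ed (nat_lit 112) (nat_lit 6) Col.e (nat_lit 28) Dv.df))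
(Tr.lf (Fc.ed (nat_lit 113) (nat_lit 28) Col.h (nat_lit 4) (Dv.wd (nat_lit 46) [Mv.f (nat_lit 34), Mv.f (nat_lit 40), Mv.f (nat_lit 112)])))))
(Tr.nd (nat_lit 116) (Tr.nd (nat_lit 115) (Tr.lf (Fc.ed (nat_lit 114) (nat_lit 28) Col.f (nat_lit 28) (Dv.wd (nat_lit 58) [Mv.f (nat_lit 113), Mv.f (nat_lit 31), Mv.b (nat_lit 113)])))
(Tr.lf (Fc.ed (nat_lit 115) (nat_lit 28) Col.d (nat_lit 28) (Dv.wd (nat_lit 59) [Mv.f (nat_lit 113), Mv.b (nat_lit 28), Mv.f (nat_lit 25), Mv.f (nat_lit 28), Mv.b (nat_lit 113)]))))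
(Tr.nd (nat_lit 117) (Tr.lf (Fc.ed (nat_lit 116) (nat_lit 7) Col.e (nat_lit 7) (Dv.wd (nat_lit 60) [Mv.b (nat_lit 44), Mv.f (nat_lit 112), Mv.f (nat_lit 115), Mv.b (nat_lit 112), Mv.f (nat_lit 44)])))
(Tr.nd (nat_lit 118) (Tr.lf (Fc.ed (nat_lit 117) (nat_lit 8) Col.e (nat_lit 8) (Dv.wd (nat_lit 20) [Mv.b (nat_lit 48), Mv.f (nat_lit 116), Mv.f (nat_lit 48)])))
(Tr.lf (Fc.ed (nat_lit 118) (nat_lit 9) Col.e (nat_lit 9) (Dv.wd (nat_lit 14) [Mv.b (nat_lit 52), Mv.f (nat_lit 117), Mv.f (nat_lit 52)])))))))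
(Tr.nd (nat_lit 123) (Tr.nd (nat_lit 121) (Tr.nd (nat_lit 120) (Tr.lf (Fc.ed (nat_lit 119) (nat_lit 10) Col.e (nat_lit 10) (Dv.wd (nat_lit 9) [Mv.b (nat_lit 56), Mv.f (nat_lit 118), Mv.f (nat_lit 56)])))
(Tr.lf (Fc.ed (nat_lit 120) (nat_lit 11) Col.e (nat_lit 11) (Dv.wd (nat_lit 61) [Mv.b (nat_lit 61), Mv.f (nat_lit 119), Mv.f (nat_lit 61)]))))
(Tr.nd (nat_lit 122) (Tr.lf (Fc.ed (nat_lit 121) (nat_lit 12) Col.e (nat_lit 12) (Dv.wd (nat_lit 62) [Mv.b (nat_lit 65), Mv.f (nat_lit 120), Mv.f (nat_lit 65)])))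
(Tr.lf (Fc.ed (nat_lit 122) (nat_lit 24) Col.d (nat_lit 24) (Dv.wd (nat_lit 63) [Mv.f (nat_lit 101), Mv.b (nat_lit 69), Mv.f (nat_lit 121), Mv.f (nat_lit 69), Mv.b (nat_lit 101)])))))
(Tr.nd (nat_lit 125) (Tr.nd (nat_lit 124) (Tr.lf (Fc.ed (nat_lit 123) (nat_lit 16) Col.c (nat_lit 16) (Dv.wd (nat_lit 64) [Mv.b (nat_lit 80), Mv.f (nat_lit 100), Mv.f (nat_lit 122), Mv.b (nat_lit 100), Mv.f (nat_lit 80)])))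
(Tr.lf (Fc.ed (nat_lit 124) (nat_lit 17) Col.c (nat_lit 17) (Dv.wd (nat_lit 65) [Mv.b (nat_lit 83), Mv.f (nat_lit 123), Mv.f (nat_lit 83)]))))
(Tr.nd (nat_lit 126) (Tr.lf (Fc.ed (nat_lit 125) (nat_lit 18) Col.c (nat_lit 18) (Dv.wd (nat_lit 66) [Mv.b (nat_lit 86), Mv.f (nat_lit 124), Mv.f (nat_lit 86)])))
(Tr.nd (nat_lit 127) (Tr.lf (Fc.ed (nat_lit 126) (nat_lit 20) Col.b (nat_lit 20) (Dv.wd (nat_lit 67) [Mv.b (nat_lit 93), Mv.b (nat_lit 90), Mv.f (nat_lit 125), Mv.f (nat_lit 90), Mv.f (nat_lit 93)])))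
(Tr.lf (Fc.ed (nat_lit 127) (nat_lit 21) Col.b (nat_lit 21) (Dv.wd (nat_lit 68) [Mv.b (nat_lit 96), Mv.f (nat_lit 126), Mv.f (nat_lit 96)]))))))))
(Tr.nd (nat_lit 137) (Tr.nd (nat_lit 132) (Tr.nd (nat_lit 130) (Tr.nd (nat_lit 129) (Tr.lf (Fc.ed (nat_lit 128) (nat_lit 22) Col.b (nat_lit 22) (Dv.wd (nat_lit 69) [Mv.b (nat_lit 97), Mv.f (nat_lit 127), Mv.f (nat_lit 97)])))
(Tr.lf (Fc.ed (nat_lit 129) (nat_lit 26) Col.a (nat_lit 29) Dv.df)))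
(Tr.nd (nat_lit 131) (Tr.lf (Fc.ed (nat_lit 130) (nat_lit 29) Col.c (nat_lit 29) (Dv.wd (nat_lit 7) [Mv.b (nat_lit 129), Mv.f (nat_lit 105), Mv.f (nat_lit 129)])))
(Tr.lf (Fc.ed (nat_lit 131) (nat_lit 29) Col.f (nat_lit 10) (Dv.wd (nat_lit 10) [Mv.b (nat_lit 56), Mv.f (nat_lit 104), Mv.f (nat_lit 129)])))))
(Tr.nd (nat_lit 134) (Tr.nd (nat_lit 133) (Tr.lf (Fc.ed (nat_lit 132) (nat_lit 29) Col.b (nat_lit 29) (Dv.wd (nat_lit 41) [Mv.b (nat_lit 129), Mv.b (nat_lit 109), Mv.f (nat_lit 108), Mv.f (nat_lit 109), Mv.f (nat_lit 129)])))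
(Tr.lf (Fc.ed (nat_lit 133) (nat_lit 22) Col.f (nat_lit 30) Dv.df)))
(Tr.nd (nat_lit 135) (Tr.lf (Fc.ed (nat_lit 134) (nat_lit 30) Col.b (nat_lit 30) (Dv.wd (nat_lit 56) [Mv.b (nat_lit 133), Mv.f (nat_lit 128), Mv.f (nat_lit 133)])))
(Tr.nd (nat_lit 136) (Tr.lf (Fc.ed (nat_lit 135) (nat_lit 30) Col.d (nat_lit 30) (Dv.wd (nat_lit 54) [Mv.b (nat_lit 133), Mv.f (nat_lit 98), Mv.f (nat_lit 133)])))
(Tr.lf (Fc.ed (nat_lit 136) (nat_lit 25) Col.h (nat_lit 31) Dv.df))))))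
(Tr.nd (nat_lit 142) (Tr.nd (nat_lit 139) (Tr.nd (nat_lit 138) (Tr.lf (Fc.ed (nat_lit 137) (nat_lit 31) Col.f (nat_lit 17) (Dv.wd (nat_lit 70) [Mv.b (nat_lit 83), Mv.f (nat_lit 103), Mv.f (nat_lit 136)])))
(Tr.lf (Fc.ed (nat_lit 138) (nat_lit 31) Col.d (nat_lit 31) (Dv.wd (nat_lit 71) [Mv.f (nat_lit 137), Mv.f (nat_lit 85), Mv.b (nat_lit 137)]))))
(Tr.nd (nat_lit 140) (Tr.lf (Fc.ed (nat_lit 139) (nat_lit 29) Col.i (nat_lit 32) Dv.df))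
(Tr.nd (nat_lit 141) (Tr.lf (Fc.ed (nat_lit 140) (nat_lit 32) Col.b (nat_lit 32) (Dv.wd (nat_lit 42) [Mv.b (nat_lit 139), Mv.f (nat_lit 132), Mv.f (nat_lit 139)])))
(Tr.lf (Fc.ed (nat_lit 141) (nat_lit 32) Col.f (nat_lit 11) (Dv.wd (nat_lit 72) [Mv.b (nat_lit 61), Mv.b (nat_lit 131), Mv.f (nat_lit 139)]))))))
(Tr.nd (nat_lit 144) (Tr.nd (nat_lit 143) (Tr.lf (Fc.ed (nat_lit 142) (nat_lit 26) Col.e (nat_lit 33) Dv.df))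
(Tr.lf (Fc.ed (nat_lit 143) (nat_lit 33) Col.f (nat_lit 33) (Dv.wd (nat_lit 73) [Mv.b (nat_lit 142), Mv.b (nat_lit 104), Mv.f (nat_lit 118), Mv.f (nat_lit 104), Mv.f (nat_lit 142)]))))
(Tr.nd (nat_lit 145) (Tr.lf (Fc.ed (nat_lit 144) (nat_lit 18) Col.f (nat_lit 34) Dv.df))
(Tr.nd (nat_lit 146) (Tr.lf (Fc.ed (nat_lit 145) (nat_lit 34) Col.c (nat_lit 34) (Dv.wd (nat_lit 53) [Mv.b (nat_lit 144), Mv.f (nat_lit 125), Mv.f (nat_lit 144)])))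
(Tr.lf (Fc.ed (nat_lit 146) (nat_lit 34) Col.d (nat_lit 34) (Dv.wd (nat_lit 54) [Mv.b (nat_lit 144), Mv.f (nat_lit 87), Mv.f (nat_lit 144)])))))))))))
(Tr.nd (nat_lit 221) (Tr.nd (nat_lit 184) (Tr.nd (nat_lit 165) (Tr.nd (nat_lit 156) (Tr.nd (nat_lit 151) (Tr.nd (nat_lit 149) (Tr.nd (nat_lit 148) (Tr.lf (Fc.ed (nat_lit 147) (nat_lit 34) Col.h (nat_lit 34) (Dv.wd (nat_lit 57) [Mv.b (nat_lit 144), Mv.f (nat_lit 89), Mv.f (nat_lit 144)])))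
(Tr.lf (Fc.ed (nat_lit 148) (nat_lit 34) Col.i (nat_lit 31) (Dv.wd (nat_lit 74) [Mv.f (nat_lit 137), Mv.f (nat_lit 86), Mv.f (nat_lit 144)]))))
(Tr.nd (nat_lit 150) (Tr.lf (Fc.ed (nat_lit 149) (nat_lit 34) Col.b (nat_lit 35) Dv.df))
(Tr.lf (Fc.ed (nat_lit 150) (nat_lit 35) Col.d (nat_lit 35) (Dv.wd (nat_lit 13) [Mv.b (nat_lit 149), Mv.f (nat_lit 146), Mv.f (nat_lit 149)])))))
(Tr.nd (nat_lit 153) (Tr.nd (nat_lit 152) (Tr.lf (Fc.ed (nat_lit 151) (nat_lit 35) Col.f (nat_lit 19) (Dv.wd (nat_lit 15) [Mv.b (nat_lit 90), Mv.f (nat_lit 144), Mv.f (nat_lit 149)])))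
(Tr.lf (Fc.ed (nat_lit 152) (nat_lit 30) Col.h (nat_lit 36) Dv.df)))
(Tr.nd (nat_lit 154) (Tr.lf (Fc.ed (nat_lit 153) (nat_lit 36) Col.b (nat_lit 36) (Dv.wd (nat_lit 36) [Mv.b (nat_lit 152), Mv.f (nat_lit 134), Mv.f (nat_lit 152)])))
(Tr.nd (nat_lit 155) (Tr.lf (Fc.ed (nat_lit 154) (nat_lit 36) Col.f (nat_lit 21) (Dv.wd (nat_lit 70) [Mv.f (nat_lit 97), Mv.f (nat_lit 133), Mv.f (nat_lit 152)])))
(Tr.lf (Fc.ed (nat_lit 155) (nat_lit 27) Col.c (nat_lit 37) Dv.df))))))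
(Tr.nd (nat_lit 160) (Tr.nd (nat_lit 158) (Tr.nd (nat_lit 157) (Tr.lf (Fc.ed (nat_lit 156) (nat_lit 37) Col.a (nat_lit 37) (Dv.wd (nat_lit 19) [Mv.b (nat_lit 155), Mv.f (nat_lit 108), Mv.f (nat_lit 155)])))
(Tr.lf (Fc.ed (nat_lit 157) (nat_lit 37) Col.f (nat_lit 7) (Dv.wd (nat_lit 21) [Mv.f (nat_lit 48), Mv.f (nat_lit 107), Mv.f (nat_lit 155)]))))
(Tr.nd (nat_lit 159) (Tr.lf (Fc.ed (nat_lit 158) (nat_lit 37) Col.h (nat_lit 37) (Dv.wd (nat_lit 22) [Mv.b (nat_lit 155), Mv.f (nat_lit 111), Mv.f (nat_lit 155)])))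
(Tr.lf (Fc.ed (nat_lit 159) (nat_lit 37) Col.b (nat_lit 37) (Dv.wd (nat_lit 24) [Mv.b (nat_lit 155), Mv.f (nat_lit 109), Mv.f (nat_lit 105), Mv.b (nat_lit 109), Mv.f (nat_lit 155)])))))
(Tr.nd (nat_lit 162) (Tr.nd (nat_lit 161) (Tr.lf (Fc.ed (nat_lit 160) (nat_lit 23) Col.h (nat_lit 38) Dv.df))
(Tr.lf (Fc.ed (nat_lit 161) (nat_lit 38) Col.e (nat_lit 21) (Dv.wd (nat_lit 48) [Mv.f (nat_lit 97), Mv.f (nat_lit 99), Mv.f (nat_lit 160)]))))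
(Tr.nd (nat_lit 163) (Tr.lf (Fc.ed (nat_lit 162) (nat_lit 38) Col.d (nat_lit 38) (Dv.wd (nat_lit 75) [Mv.f (nat_lit 161), Mv.b (nat_lit 96), Mv.f (nat_lit 94), Mv.f (nat_lit 96), Mv.b (nat_lit 161)])))
(Tr.nd (nat_lit 164) (Tr.lf (Fc.ed (nat_lit 163) (nat_lit 25) Col.g (nat_lit 39) Dv.df))
(Tr.lf (Fc.ed (nat_lit 164) (nat_lit 26) Col.i (nat_lit 40) Dv.df)))))))
(Tr.nd (nat_lit 174) (Tr.nd (nat_lit 169) (Tr.nd (nat_lit 167) (Tr.nd (nat_lit 166) (Tr.lf (Fc.ed (nat_lit 165) (nat_lit 40) Col.a (nat_lit 32) (Dv.wd (nat_lit 76) [Mv.b (nat_lit 139), Mv.b (nat_lit 129), Mv.f (nat_lit 164)])))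
(Tr.lf (Fc.ed (nat_lit 166) (nat_lit 40) Col.c (nat_lit 40) (Dv.wd (nat_lit 43) [Mv.b (nat_lit 164), Mv.f (nat_lit 105), Mv.f (nat_lit 164)]))))
(Tr.nd (nat_lit 168) (Tr.lf (Fc.ed (nat_lit 167) (nat_lit 6) Col.f (nat_lit 41) Dv.df))
(Tr.lf (Fc.ed (nat_lit 168) (nat_lit 41) Col.a (nat_lit 41) (Dv.wd (nat_lit 55) [Mv.b (nat_lit 167), Mv.f (nat_lit 41), Mv.f (nat_lit 167)])))))
(Tr.nd (nat_lit 171) (Tr.nd (nat_lit 170) (Tr.lf (Fc.ed (nat_lit 169) (nat_lit 41) Col.b (nat_lit 41) (Dv.wd (nat_lit 56) [Mv.b (nat_lit 167), Mv.f (nat_lit 42), Mv.f (nat_lit 167)])))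
(Tr.lf (Fc.ed (nat_lit 170) (nat_lit 41) Col.c (nat_lit 41) (Dv.wd (nat_lit 53) [Mv.b (nat_lit 167), Mv.f (nat_lit 43), Mv.f (nat_lit 167)]))))
(Tr.nd (nat_lit 172) (Tr.lf (Fc.ed (nat_lit 171) (nat_lit 41) Col.d (nat_lit 37) (Dv.wd (nat_lit 54) [Mv.f (nat_lit 157), Mv.b (nat_lit 44), Mv.f (nat_lit 167)])))
(Tr.nd (nat_lit 173) (Tr.lf (Fc.ed (nat_lit 172) (nat_lit 41) Col.e (nat_lit 41) (Dv.wd (nat_lit 77) [Mv.b (nat_lit 167), Mv.f (nat_lit 112), Mv.f (nat_lit 114), Mv.b (nat_lit 112), Mv.f (nat_lit 167)])))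
(Tr.lf (Fc.ed (nat_lit 173) (nat_lit 20) Col.f (nat_lit 42) Dv.df))))))
(Tr.nd (nat_lit 179) (Tr.nd (nat_lit 176) (Tr.nd (nat_lit 175) (Tr.lf (Fc.ed (nat_lit 174) (nat_lit 42) Col.b (nat_lit 42) (Dv.wd (nat_lit 56) [Mv.b (nat_lit 173), Mv.f (nat_lit 126), Mv.f (nat_lit 173)])))
(Tr.lf (Fc.ed (nat_lit 175) (nat_lit 42) Col.c (nat_lit 35) (Dv.wd (nat_lit 53) [Mv.f (nat_lit 151), Mv.f (nat_lit 93), Mv.f (nat_lit 173)]))))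
(Tr.nd (nat_lit 177) (Tr.lf (Fc.ed (nat_lit 176) (nat_lit 42) Col.d (nat_lit 36) (Dv.wd (nat_lit 54) [Mv.f (nat_lit 154), Mv.b (nat_lit 96), Mv.f (nat_lit 173)])))
(Tr.nd (nat_lit 178) (Tr.lf (Fc.ed (nat_lit 177) (nat_lit 5) Col.f (nat_lit 43) Dv.df))
(Tr.lf (Fc.ed (nat_lit 178) (nat_lit 43) Col.h (nat_lit 41) (Dv.wd (nat_lit 57) [Mv.b (nat_lit 167), Mv.b (nat_lit 40), Mv.f (nat_lit 177)]))))))
(Tr.nd (nat_lit 181) (Tr.nd (nat_lit 180) (Tr.lf (Fc.ed (nat_lit 179) (nat_lit 43) Col.i (nat_lit 43) (Dv.wd (nat_lit 74) [Mv.b (nat_lit 177), Mv.f (nat_lit 38), Mv.f (nat_lit 177)])))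
(Tr.lf (Fc.ed (nat_lit 180) (nat_lit 23) Col.i (nat_lit 44) Dv.df)))
(Tr.nd (nat_lit 182) (Tr.lf (Fc.ed (nat_lit 181) (nat_lit 35) Col.i (nat_lit 45) Dv.df))
(Tr.nd (nat_lit 183) (Tr.lf (Fc.ed (nat_lit 182) (nat_lit 45) Col.b (nat_lit 31) (Dv.wd (nat_lit 42) [Mv.b (nat_lit 148), Mv.f (nat_lit 149), Mv.f (nat_lit 181)])))
(Tr.lf (Fc.ed (nat_lit 183) (nat_lit 29) Col.e (nat_lit 46) Dv.df))))))))
(Tr.nd (nat_lit 202) (Tr.nd (nat_lit 193) (Tr.nd (nat_lit 188) (Tr.nd (nat_lit 186) (Tr.nd (nat_lit 185) (Tr.lf (Fc.ed (nat_lit 184) (nat_lit 46) Col.a (nat_lit 33) (Dv.wd (nat_lit 30) [Mv.b (nat_lit 142), Mv.f (nat_lit 129), Mv.f (nat_lit 183)])))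
(Tr.lf (Fc.ed (nat_lit 185) (nat_lit 46) Col.b (nat_lit 46) (Dv.wd (nat_lit 31) [Mv.b (nat_lit 183), Mv.f (nat_lit 132), Mv.f (nat_lit 183)]))))
(Tr.nd (nat_lit 187) (Tr.lf (Fc.ed (nat_lit 186) (nat_lit 46) Col.c (nat_lit 46) (Dv.wd (nat_lit 32) [Mv.b (nat_lit 183), Mv.f (nat_lit 130), Mv.f (nat_lit 183)])))
(Tr.lf (Fc.ed (nat_lit 187) (nat_lit 39) Col.h (nat_lit 47) Dv.df))))
(Tr.nd (nat_lit 190) (Tr.nd (nat_lit 189) (Tr.lf (Fc.ed (nat_lit 188) (nat_lit 47) Col.g (nat_lit 31) (Dv.wd (nat_lit 78) [Mv.b (nat_lit 136), Mv.f (nat_lit 163), Mv.f (nat_lit 187)])))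
(Tr.lf (Fc.ed (nat_lit 189) (nat_lit 19) Col.i (nat_lit 48) Dv.df)))
(Tr.nd (nat_lit 191) (Tr.lf (Fc.ed (nat_lit 190) (nat_lit 48) Col.b (nat_lit 17) (Dv.wd (nat_lit 42) [Mv.f (nat_lit 86), Mv.f (nat_lit 90), Mv.f (nat_lit 189)])))
(Tr.nd (nat_lit 192) (Tr.lf (Fc.ed (nat_lit 191) (nat_lit 48) Col.e (nat_lit 48) (Dv.wd (nat_lit 50) [Mv.b (nat_lit 189), Mv.f (nat_lit 91), Mv.f (nat_lit 189)])))
(Tr.lf (Fc.ed (nat_lit 192) (nat_lit 48) Col.f (nat_lit 45) (Dv.wd (nat_lit 72) [Mv.b (nat_lit 181), Mv.f (nat_lit 151), Mv.f (nat_lit 189)])))))))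
(Tr.nd (nat_lit 197) (Tr.nd (nat_lit 195) (Tr.nd (nat_lit 194) (Tr.lf (Fc.ed (nat_lit 193) (nat_lit 20) Col.i (nat_lit 49) Dv.df))
(Tr.lf (Fc.ed (nat_lit 194) (nat_lit 49) Col.b (nat_lit 49) (Dv.wd (nat_lit 42) [Mv.b (nat_lit 193), Mv.f (nat_lit 126), Mv.f (nat_lit 193)]))))
(Tr.nd (nat_lit 196) (Tr.lf (Fc.ed (nat_lit 195) (nat_lit 49) Col.c (nat_lit 48) (Dv.wd (nat_lit 43) [Mv.b (nat_lit 189), Mv.f (nat_lit 93), Mv.f (nat_lit 193)])))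
(Tr.lf (Fc.ed (nat_lit 196) (nat_lit 40) Col.f (nat_lit 50) Dv.df))))
(Tr.nd (nat_lit 199) (Tr.nd (nat_lit 198) (Tr.lf (Fc.ed (nat_lit 197) (nat_lit 50) Col.a (nat_lit 11) (Dv.wd (nat_lit 55) [Mv.b (nat_lit 141), Mv.b (nat_lit 165), Mv.f (nat_lit 196)])))
(Tr.lf (Fc.ed (nat_lit 198) (nat_lit 50) Col.c (nat_lit 50) (Dv.wd (nat_lit 53) [Mv.b (nat_lit 196), Mv.f (nat_lit 166), Mv.f (nat_lit 196)]))))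
(Tr.nd (nat_lit 200) (Tr.lf (Fc.ed (nat_lit 199) (nat_lit 50) Col.i (nat_lit 9) (Dv.wd (nat_lit 74) [Mv.f (nat_lit 104), Mv.f (nat_lit 164), Mv.f (nat_lit 196)])))
(Tr.nd (nat_lit 201) (Tr.lf (Fc.ed (nat_lit 200) (nat_lit 40) Col.b (nat_lit 51) Dv.df))
(Tr.lf (Fc.ed (nat_lit 201) (nat_lit 51) Col.i (nat_lit 27) (Dv.wd (nat_lit 17) [Mv.f (nat_lit 109), Mv.f (nat_lit 164), Mv.f (nat_lit 200)]))))))))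
(Tr.nd (nat_lit 211) (Tr.nd (nat_lit 206) (Tr.nd (nat_lit 204) (Tr.nd (nat_lit 203) (Tr.lf (Fc.ed (nat_lit 202) (nat_lit 48) Col.h (nat_lit 52) Dv.df))
(Tr.lf (Fc.ed (nat_lit 203) (nat_lit 52) Col.b (nat_lit 16) (Dv.wd (nat_lit 36) [Mv.f (nat_lit 83), Mv.b (nat_lit 190), Mv.f (nat_lit 202)]))))
(Tr.nd (nat_lit 205) (Tr.lf (Fc.ed (nat_lit 204) (nat_lit 52) Col.e (nat_lit 52) (Dv.wd (nat_lit 48) [Mv.b (nat_lit 202), Mv.f (nat_lit 191), Mv.f (nat_lit 202)])))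
(Tr.lf (Fc.ed (nat_lit 205) (nat_lit 47) Col.i (nat_lit 53) Dv.df))))
(Tr.nd (nat_lit 208) (Tr.nd (nat_lit 207) (Tr.lf (Fc.ed (nat_lit 206) (nat_lit 53) Col.g (nat_lit 34) (Dv.wd (nat_lit 79) [Mv.f (nat_lit 148), Mv.b (nat_lit 188), Mv.f (nat_lit 205)])))
(Tr.lf (Fc.ed (nat_lit 207) (nat_lit 35) Col.g (nat_lit 54) Dv.df)))
(Tr.nd (nat_lit 209) (Tr.lf (Fc.ed (nat_lit 208) (nat_lit 54) Col.b (nat_lit 53) (Dv.wd (nat_lit 80) [Mv.f (nat_lit 206), Mv.f (nat_lit 149), Mv.f (nat_lit 207)])))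
(Tr.nd (nat_lit 210) (Tr.lf (Fc.ed (nat_lit 209) (nat_lit 8) Col.i (nat_lit 55) Dv.df))
(Tr.lf (Fc.ed (nat_lit 210) (nat_lit 55) Col.a (nat_lit 55) (Dv.wd (nat_lit 76) [Mv.b (nat_lit 209), Mv.f (nat_lit 49), Mv.f (nat_lit 209)])))))))
(Tr.nd (nat_lit 216) (Tr.nd (nat_lit 213) (Tr.nd (nat_lit 212) (Tr.lf (Fc.ed (nat_lit 211) (nat_lit 55) Col.b (nat_lit 50) (Dv.wd (nat_lit 42) [Mv.f (nat_lit 199), Mv.b (nat_lit 52), Mv.f (nat_lit 209)])))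
(Tr.lf (Fc.ed (nat_lit 212) (nat_lit 55) Col.d (nat_lit 55) (Dv.wd (nat_lit 44) [Mv.b (nat_lit 209), Mv.f (nat_lit 51), Mv.f (nat_lit 209)]))))
(Tr.nd (nat_lit 214) (Tr.lf (Fc.ed (nat_lit 213) (nat_lit 55) Col.e (nat_lit 55) (Dv.wd (nat_lit 50) [Mv.b (nat_lit 209), Mv.f (nat_lit 117), Mv.f (nat_lit 209)])))
(Tr.nd (nat_lit 215) (Tr.lf (Fc.ed (nat_lit 214) (nat_lit 55) Col.f (nat_lit 51) (Dv.wd (nat_lit 72) [Mv.f (nat_lit 201), Mv.b (nat_lit 107), Mv.f (nat_lit 209)])))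
(Tr.lf (Fc.ed (nat_lit 215) (nat_lit 12) Col.a (nat_lit 56) Dv.df)))))
(Tr.nd (nat_lit 218) (Tr.nd (nat_lit 217) (Tr.lf (Fc.ed (nat_lit 216) (nat_lit 56) Col.c (nat_lit 56) (Dv.wd (nat_lit 7) [Mv.b (nat_lit 215), Mv.f (nat_lit 67), Mv.f (nat_lit 215)])))
(Tr.lf (Fc.ed (nat_lit 217) (nat_lit 56) Col.h (nat_lit 50) (Dv.wd (nat_lit 11) [Mv.f (nat_lit 197), Mv.f (nat_lit 65), Mv.f (nat_lit 215)]))))
(Tr.nd (nat_lit 219) (Tr.lf (Fc.ed (nat_lit 218) (nat_lit 52) Col.f (nat_lit 57) Dv.df))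
(Tr.nd (nat_lit 220) (Tr.lf (Fc.ed (nat_lit 219) (nat_lit 57) Col.b (nat_lit 25) (Dv.wd (nat_lit 56) [Mv.b (nat_lit 103), Mv.b (nat_lit 203), Mv.f (nat_lit 218)])))
(Tr.lf (Fc.ed (nat_lit 220) (nat_lit 57) Col.h (nat_lit 45) (Dv.wd (nat_lit 57) [Mv.b (nat_lit 192), Mv.f (nat_lit 202), Mv.f (nat_lit 218)]))))))))))
(Tr.nd (nat_lit 258) (Tr.nd (nat_lit 239) (Tr.nd (nat_lit 230) (Tr.nd (nat_lit 225) (Tr.nd (nat_lit 223) (Tr.nd (nat_lit 222) (Tr.lf (Fc.ed (nat_lit 221) (nat_lit 49) Col.f (nat_lit 58) Dv.df))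
(Tr.lf (Fc.ed (nat_lit 222) (nat_lit 58) Col.i (nat_lit 42) (Dv.wd (nat_lit 74) [Mv.b (nat_lit 173), Mv.f (nat_lit 193), Mv.f (nat_lit 221)]))))
(Tr.nd (nat_lit 224) (Tr.lf (Fc.ed (nat_lit 223) (nat_lit 55) Col.c (nat_lit 59) Dv.df))
(Tr.lf (Fc.ed (nat_lit 224) (nat_lit 59) Col.e (nat_lit 59) (Dv.wd (nat_lit 20) [Mv.b (nat_lit 223), Mv.f (nat_lit 213), Mv.f (nat_lit 223)])))))
(Tr.nd (nat_lit 227) (Tr.nd (nat_lit 226) (Tr.lf (Fc.ed (nat_lit 225) (nat_lit 59) Col.i (nat_lit 7) (Dv.wd (nat_lit 23) [Mv.f (nat_lit 48), Mv.f (nat_lit 209), Mv.f (nat_lit 223)])))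
(Tr.lf (Fc.ed (nat_lit 226) (nat_lit 59) Col.b (nat_lit 59) (Dv.wd (nat_lit 24) [Mv.b (nat_lit 223), Mv.f (nat_lit 211), Mv.f (nat_lit 198), Mv.b (nat_lit 211), Mv.f (nat_lit 223)]))))
(Tr.nd (nat_lit 228) (Tr.lf (Fc.ed (nat_lit 227) (nat_lit 32) Col.e (nat_lit 60) Dv.df))
(Tr.nd (nat_lit 229) (Tr.lf (Fc.ed (nat_lit 228) (nat_lit 60) Col.b (nat_lit 60) (Dv.wd (nat_lit 31) [Mv.b (nat_lit 227), Mv.f (nat_lit 140), Mv.f (nat_lit 227)])))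
(Tr.lf (Fc.ed (nat_lit 229) (nat_lit 60) Col.i (nat_lit 46) (Dv.wd (nat_lit 33) [Mv.b (nat_lit 183), Mv.f (nat_lit 139), Mv.f (nat_lit 227)])))))))
(Tr.nd (nat_lit 234) (Tr.nd (nat_lit 232) (Tr.nd (nat_lit 231) (Tr.lf (Fc.ed (nat_lit 230) (nat_lit 46) Col.g (nat_lit 61) Dv.df))
(Tr.lf (Fc.ed (nat_lit 231) (nat_lit 61) Col.b (nat_lit 61) (Dv.wd (nat_lit 80) [Mv.b (nat_lit 230), Mv.f (nat_lit 185), Mv.f (nat_lit 230)]))))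
(Tr.nd (nat_lit 233) (Tr.lf (Fc.ed (nat_lit 232) (nat_lit 51) Col.c (nat_lit 62) Dv.df))
(Tr.lf (Fc.ed (nat_lit 233) (nat_lit 62) Col.f (nat_lit 59) (Dv.wd (nat_lit 21) [Mv.b (nat_lit 223), Mv.f (nat_lit 214), Mv.f (nat_lit 232)])))))
(Tr.nd (nat_lit 236) (Tr.nd (nat_lit 235) (Tr.lf (Fc.ed (nat_lit 234) (nat_lit 62) Col.i (nat_lit 37) (Dv.wd (nat_lit 23) [Mv.b (nat_lit 155), Mv.b (nat_lit 201), Mv.f (nat_lit 232)])))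
(Tr.lf (Fc.ed (nat_lit 235) (nat_lit 54) Col.i (nat_lit 63) Dv.df)))
(Tr.nd (nat_lit 237) (Tr.lf (Fc.ed (nat_lit 236) (nat_lit 63) Col.b (nat_lit 47) (Dv.wd (nat_lit 42) [Mv.f (nat_lit 205), Mv.b (nat_lit 208), Mv.f (nat_lit 235)])))
(Tr.nd (nat_lit 238) (Tr.lf (Fc.ed (nat_lit 237) (nat_lit 63) Col.g (nat_lit 45) (Dv.wd (nat_lit 79) [Mv.b (nat_lit 181), Mv.f (nat_lit 207), Mv.f (nat_lit 235)])))
(Tr.lf (Fc.ed (nat_lit 238) (nat_lit 54) Col.c (nat_lit 64) Dv.df)))))))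
(Tr.nd (nat_lit 248) (Tr.nd (nat_lit 243) (Tr.nd (nat_lit 241) (Tr.nd (nat_lit 240) (Tr.lf (Fc.ed (nat_lit 239) (nat_lit 64) Col.g (nat_lit 42) (Dv.wd (nat_lit 81) [Mv.f (nat_lit 175), Mv.f (nat_lit 207), Mv.f (nat_lit 238)])))
(Tr.lf (Fc.ed (nat_lit 240) (nat_lit 25) Col.d (nat_lit 65) Dv.df)))
(Tr.nd (nat_lit 242) (Tr.lf (Fc.ed (nat_lit 241) (nat_lit 65) Col.f (nat_lit 15) (Dv.wd (nat_lit 27) [Mv.f (nat_lit 80), Mv.f (nat_lit 103), Mv.f (nat_lit 240)])))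
(Tr.lf (Fc.ed (nat_lit 242) (nat_lit 65) Col.h (nat_lit 65) (Dv.wd (nat_lit 38) [Mv.b (nat_lit 240), Mv.f (nat_lit 136), Mv.f (nat_lit 138), Mv.b (nat_lit 136), Mv.f (nat_lit 240)])))))
(Tr.nd (nat_lit 245) (Tr.nd (nat_lit 244) (Tr.lf (Fc.ed (nat_lit 243) (nat_lit 60) Col.a (nat_lit 66) Dv.df))
(Tr.lf (Fc.ed (nat_lit 244) (nat_lit 66) Col.e (nat_lit 40) (Dv.wd (nat_lit 9) [Mv.f (nat_lit 165), Mv.f (nat_lit 227), Mv.f (nat_lit 243)]))))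
(Tr.nd (nat_lit 246) (Tr.lf (Fc.ed (nat_lit 245) (nat_lit 60) Col.g (nat_lit 67) Dv.df))
(Tr.nd (nat_lit 247) (Tr.lf (Fc.ed (nat_lit 246) (nat_lit 67) Col.i (nat_lit 61) (Dv.wd (nat_lit 82) [Mv.b (nat_lit 230), Mv.b (nat_lit 229), Mv.f (nat_lit 245)])))
(Tr.lf (Fc.ed (nat_lit 247) (nat_lit 49) Col.h (nat_lit 68) Dv.df))))))
(Tr.nd (nat_lit 253) (Tr.nd (nat_lit 250) (Tr.nd (nat_lit 249) (Tr.lf (Fc.ed (nat_lit 248) (nat_lit 68) Col.b (nat_lit 68) (Dv.wd (nat_lit 36) [Mv.b (nat_lit 247), Mv.f (nat_lit 194), Mv.f (nat_lit 247)])))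
(Tr.lf (Fc.ed (nat_lit 249) (nat_lit 68) Col.c (nat_lit 52) (Dv.wd (nat_lit 37) [Mv.b (nat_lit 202), Mv.b (nat_lit 195), Mv.f (nat_lit 247)]))))
(Tr.nd (nat_lit 251) (Tr.lf (Fc.ed (nat_lit 250) (nat_lit 13) Col.a (nat_lit 69) Dv.df))
(Tr.nd (nat_lit 252) (Tr.lf (Fc.ed (nat_lit 251) (nat_lit 69) Col.d (nat_lit 56) (Dv.wd (nat_lit 8) [Mv.b (nat_lit 215), Mv.f (nat_lit 69), Mv.f (nat_lit 250)])))
(Tr.lf (Fc.ed (nat_lit 252) (nat_lit 55) Col.h (nat_lit 70) Dv.df)))))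
(Tr.nd (nat_lit 255) (Tr.nd (nat_lit 254) (Tr.lf (Fc.ed (nat_lit 253) (nat_lit 70) Col.a (nat_lit 70) (Dv.wd (nat_lit 35) [Mv.b (nat_lit 252), Mv.f (nat_lit 210), Mv.f (nat_lit 252)])))
(Tr.lf (Fc.ed (nat_lit 254) (nat_lit 70) Col.b (nat_lit 56) (Dv.wd (nat_lit 36) [Mv.f (nat_lit 217), Mv.b (nat_lit 211), Mv.f (nat_lit 252)]))))
(Tr.nd (nat_lit 256) (Tr.lf (Fc.ed (nat_lit 255) (nat_lit 70) Col.e (nat_lit 70) (Dv.wd (nat_lit 48) [Mv.b (nat_lit 252), Mv.f (nat_lit 213), Mv.f (nat_lit 252)])))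
(Tr.nd (nat_lit 257) (Tr.lf (Fc.ed (nat_lit 256) (nat_lit 27) Col.e (nat_lit 71) Dv.df))
(Tr.lf (Fc.ed (nat_lit 257) (nat_lit 71) Col.b (nat_lit 33) (Dv.wd (nat_lit 31) [Mv.b (nat_lit 142), Mv.b (nat_lit 109), Mv.f (nat_lit 256)])))))))))
(Tr.nd (nat_lit 276) (Tr.nd (nat_lit 267) (Tr.nd (nat_lit 262) (Tr.nd (nat_lit 260) (Tr.nd (nat_lit 259) (Tr.lf (Fc.ed (nat_lit 258) (nat_lit 44) Col.e (nat_lit 72) Dv.df))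
(Tr.lf (Fc.ed (nat_lit 259) (nat_lit 72) Col.i (nat_lit 22) (Dv.wd (nat_lit 33) [Mv.f (nat_lit 99), Mv.f (nat_lit 180), Mv.f (nat_lit 258)]))))
(Tr.nd (nat_lit 261) (Tr.lf (Fc.ed (nat_lit 260) (nat_lit 37) Col.e (nat_lit 73) Dv.df))
(Tr.lf (Fc.ed (nat_lit 261) (nat_lit 73) Col.a (nat_lit 73) (Dv.wd (nat_lit 30) [Mv.b (nat_lit 260), Mv.f (nat_lit 156), Mv.f (nat_lit 260)])))))
(Tr.nd (nat_lit 264) (Tr.nd (nat_lit 263) (Tr.lf (Fc.ed (nat_lit 262) (nat_lit 73) Col.b (nat_lit 73) (Dv.wd (nat_lit 31) [Mv.b (nat_lit 260), Mv.f (nat_lit 159), Mv.f (nat_lit 260)])))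
(Tr.lf (Fc.ed (nat_lit 263) (nat_lit 73) Col.c (nat_lit 71) (Dv.wd (nat_lit 32) [Mv.b (nat_lit 256), Mv.f (nat_lit 155), Mv.f (nat_lit 260)]))))
(Tr.nd (nat_lit 265) (Tr.lf (Fc.ed (nat_lit 264) (nat_lit 73) Col.h (nat_lit 73) (Dv.wd (nat_lit 46) [Mv.b (nat_lit 260), Mv.f (nat_lit 158), Mv.f (nat_lit 260)])))
(Tr.nd (nat_lit 266) (Tr.lf (Fc.ed (nat_lit 265) (nat_lit 73) Col.d (nat_lit 73) (Dv.wd (nat_lit 34) [Mv.b (nat_lit 260), Mv.b (nat_lit 171), Mv.f (nat_lit 172), Mv.f (nat_lit 171), Mv.f (nat_lit 260)])))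
(Tr.lf (Fc.ed (nat_lit 266) (nat_lit 73) Col.f (nat_lit 73) (Dv.wd (nat_lit 73) [Mv.b (nat_lit 260), Mv.f (nat_lit 157), Mv.f (nat_lit 116), Mv.b (nat_lit 157), Mv.f (nat_lit 260)])))))))
(Tr.nd (nat_lit 271) (Tr.nd (nat_lit 269) (Tr.nd (nat_lit 268) (Tr.lf (Fc.ed (nat_lit 267) (nat_lit 15) Col.a (nat_lit 74) Dv.df))
(Tr.lf (Fc.ed (nat_lit 268) (nat_lit 74) Col.i (nat_lit 74) (Dv.wd (nat_lit 12) [Mv.b (nat_lit 267), Mv.f (nat_lit 79), Mv.f (nat_lit 267)]))))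
(Tr.nd (nat_lit 270) (Tr.lf (Fc.ed (nat_lit 269) (nat_lit 74) Col.d (nat_lit 75) Dv.df))
(Tr.lf (Fc.ed (nat_lit 270) (nat_lit 75) Col.a (nat_lit 16) (Dv.wd (nat_lit 25) [Mv.b (nat_lit 80), Mv.f (nat_lit 267), Mv.f (nat_lit 269)])))))
(Tr.nd (nat_lit 273) (Tr.nd (nat_lit 272) (Tr.lf (Fc.ed (nat_lit 271) (nat_lit 75) Col.i (nat_lit 75) (Dv.wd (nat_lit 28) [Mv.b (nat_lit 269), Mv.f (nat_lit 268), Mv.f (nat_lit 269)])))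
(Tr.lf (Fc.ed (nat_lit 272) (nat_lit 75) Col.e (nat_lit 75) (Dv.wd (nat_lit 83) [Mv.f (nat_lit 270), Mv.f (nat_lit 82), Mv.b (nat_lit 270)]))))
(Tr.nd (nat_lit 274) (Tr.lf (Fc.ed (nat_lit 273) (nat_lit 14) Col.a (nat_lit 76) Dv.df))
(Tr.nd (nat_lit 275) (Tr.lf (Fc.ed (nat_lit 274) (nat_lit 76) Col.c (nat_lit 69) (Dv.wd (nat_lit 7) [Mv.b (nat_lit 250), Mv.f (nat_lit 73), Mv.f (nat_lit 273)])))
(Tr.lf (Fc.ed (nat_lit 275) (nat_lit 76) Col.e (nat_lit 74) (Dv.wd (nat_lit 9) [Mv.b (nat_lit 267), Mv.b (nat_lit 77), Mv.f (nat_lit 273)]))))))))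
(Tr.nd (nat_lit 285) (Tr.nd (nat_lit 280) (Tr.nd (nat_lit 278) (Tr.nd (nat_lit 277) (Tr.lf (Fc.ed (nat_lit 276) (nat_lit 76) Col.h (nat_lit 76) (Dv.wd (nat_lit 11) [Mv.b (nat_lit 273), Mv.f (nat_lit 74), Mv.f (nat_lit 273)])))
(Tr.lf (Fc.ed (nat_lit 277) (nat_lit 59) Col.d (nat_lit 77) Dv.df)))
(Tr.nd (nat_lit 279) (Tr.lf (Fc.ed (nat_lit 278) (nat_lit 77) Col.b (nat_lit 77) (Dv.wd (nat_lit 26) [Mv.b (nat_lit 277), Mv.f (nat_lit 226), Mv.f (nat_lit 277)])))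
(Tr.lf (Fc.ed (nat_lit 279) (nat_lit 77) Col.i (nat_lit 6) (Dv.wd (nat_lit 28) [Mv.f (nat_lit 44), Mv.b (nat_lit 225), Mv.f (nat_lit 277)])))))
(Tr.nd (nat_lit 282) (Tr.nd (nat_lit 281) (Tr.lf (Fc.ed (nat_lit 280) (nat_lit 77) Col.c (nat_lit 77) (Dv.wd (nat_lit 29) [Mv.b (nat_lit 277), Mv.b (nat_lit 223), Mv.f (nat_lit 212), Mv.f (nat_lit 223), Mv.f (nat_lit 277)])))
(Tr.lf (Fc.ed (nat_lit 281) (nat_lit 77) Col.h (nat_lit 77) (Dv.wd (nat_lit 84) [Mv.f (nat_lit 279), Mv.b (nat_lit 40), Mv.f (nat_lit 38), Mv.f (nat_lit 40), Mv.b (nat_lit 279)]))))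
(Tr.nd (nat_lit 283) (Tr.lf (Fc.ed (nat_lit 282) (nat_lit 36) Col.i (nat_lit 78) Dv.df))
(Tr.nd (nat_lit 284) (Tr.lf (Fc.ed (nat_lit 283) (nat_lit 78) Col.d (nat_lit 58) (Dv.wd (nat_lit 44) [Mv.f (nat_lit 222), Mv.f (nat_lit 176), Mv.f (nat_lit 282)])))
(Tr.lf (Fc.ed (nat_lit 284) (nat_lit 17) Col.a (nat_lit 79) Dv.df))))))
(Tr.nd (nat_lit 290) (Tr.nd (nat_lit 287) (Tr.nd (nat_lit 286) (Tr.lf (Fc.ed (nat_lit 285) (nat_lit 79) Col.d (nat_lit 79) (Dv.wd (nat_lit 8) [Mv.b (nat_lit 284), Mv.f (nat_lit 85), Mv.f (nat_lit 284)])))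
(Tr.lf (Fc.ed (nat_lit 286) (nat_lit 79) Col.h (nat_lit 75) (Dv.wd (nat_lit 11) [Mv.f (nat_lit 270), Mv.f (nat_lit 83), Mv.f (nat_lit 284)]))))
(Tr.nd (nat_lit 288) (Tr.lf (Fc.ed (nat_lit 287) (nat_lit 70) Col.c (nat_lit 80) Dv.df))
(Tr.nd (nat_lit 289) (Tr.lf (Fc.ed (nat_lit 288) (nat_lit 80) Col.a (nat_lit 80) (Dv.wd (nat_lit 19) [Mv.b (nat_lit 287), Mv.f (nat_lit 253), Mv.f (nat_lit 287)])))
(Tr.lf (Fc.ed (nat_lit 289) (nat_lit 80) Col.h (nat_lit 59) (Dv.wd (nat_lit 22) [Mv.b (nat_lit 223), Mv.f (nat_lit 252), Mv.f (nat_lit 287)]))))))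
(Tr.nd (nat_lit 292) (Tr.nd (nat_lit 291) (Tr.lf (Fc.ed (nat_lit 290) (nat_lit 80) Col.b (nat_lit 80) (Dv.wd (nat_lit 24) [Mv.b (nat_lit 287), Mv.f (nat_lit 254), Mv.f (nat_lit 216), Mv.b (nat_lit 254), Mv.f (nat_lit 287)])))
(Tr.lf (Fc.ed (nat_lit 291) (nat_lit 80) Col.d (nat_lit 80) (Dv.wd (nat_lit 59) [Mv.f (nat_lit 289), Mv.f (nat_lit 277), Mv.f (nat_lit 281), Mv.b (nat_lit 277), Mv.b (nat_lit 289)]))))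
(Tr.nd (nat_lit 293) (Tr.lf (Fc.ed (nat_lit 292) (nat_lit 58) Col.e (nat_lit 81) Dv.df))
(Tr.nd (nat_lit 294) (Tr.lf (Fc.ed (nat_lit 293) (nat_lit 51) Col.h (nat_lit 82) Dv.df))
(Tr.lf (Fc.ed (nat_lit 294) (nat_lit 82) Col.f (nat_lit 70) (Dv.wd (nat_lit 70) [Mv.b (nat_lit 252), Mv.f (nat_lit 214), Mv.f (nat_lit 293)]))))))))))))
(Tr.nd (nat_lit 443) (Tr.nd (nat_lit 369) (Tr.nd (nat_lit 332) (Tr.nd (nat_lit 313) (Tr.nd (nat_lit 304) (Tr.nd (nat_lit 299) (Tr.nd (nat_lit 297) (Tr.nd (nat_lit 296) (Tr.lf (Fc.ed (nat_lit 295) (nat_lit 40) Col.h (nat_lit 83) Dv.df))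
(Tr.lf (Fc.ed (nat_lit 296) (nat_lit 83) Col.f (nat_lit 56) (Dv.wd (nat_lit 70) [Mv.f (nat_lit 217), Mv.b (nat_lit 196), Mv.f (nat_lit 295)]))))
(Tr.nd (nat_lit 298) (Tr.lf (Fc.ed (nat_lit 297) (nat_lit 51) Col.e (nat_lit 84) Dv.df))
(Tr.lf (Fc.ed (nat_lit 298) (nat_lit 84) Col.b (nat_lit 66) (Dv.wd (nat_lit 31) [Mv.f (nat_lit 244), Mv.f (nat_lit 200), Mv.f (nat_lit 297)])))))
(Tr.nd (nat_lit 301) (Tr.nd (nat_lit 300) (Tr.lf (Fc.ed (nat_lit 299) (nat_lit 12) Col.f (nat_lit 85) Dv.df))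
(Tr.lf (Fc.ed (nat_lit 300) (nat_lit 85) Col.a (nat_lit 83) (Dv.wd (nat_lit 55) [Mv.f (nat_lit 296), Mv.b (nat_lit 215), Mv.f (nat_lit 299)]))))
(Tr.nd (nat_lit 302) (Tr.lf (Fc.ed (nat_lit 301) (nat_lit 85) Col.h (nat_lit 32) (Dv.wd (nat_lit 57) [Mv.f (nat_lit 141), Mv.f (nat_lit 65), Mv.f (nat_lit 299)])))
(Tr.nd (nat_lit 303) (Tr.lf (Fc.ed (nat_lit 302) (nat_lit 62) Col.e (nat_lit 86) Dv.df))
(Tr.lf (Fc.ed (nat_lit 303) (nat_lit 86) Col.c (nat_lit 84) (Dv.wd (nat_lit 32) [Mv.b (nat_lit 297), Mv.f (nat_lit 232), Mv.f (nat_lit 302)])))))))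
(Tr.nd (nat_lit 308) (Tr.nd (nat_lit 306) (Tr.nd (nat_lit 305) (Tr.lf (Fc.ed (nat_lit 304) (nat_lit 86) Col.i (nat_lit 73) (Dv.wd (nat_lit 33) [Mv.b (nat_lit 260), Mv.b (nat_lit 234), Mv.f (nat_lit 302)])))
(Tr.lf (Fc.ed (nat_lit 305) (nat_lit 86) Col.d (nat_lit 86) (Dv.wd (nat_lit 85) [Mv.f (nat_lit 304), Mv.f (nat_lit 265), Mv.b (nat_lit 304)]))))
(Tr.nd (nat_lit 307) (Tr.lf (Fc.ed (nat_lit 306) (nat_lit 24) Col.a (nat_lit 87) Dv.df))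
(Tr.lf (Fc.ed (nat_lit 307) (nat_lit 87) Col.c (nat_lit 74) (Dv.wd (nat_lit 7) [Mv.b (nat_lit 267), Mv.f (nat_lit 100), Mv.f (nat_lit 306)])))))
(Tr.nd (nat_lit 310) (Tr.nd (nat_lit 309) (Tr.lf (Fc.ed (nat_lit 308) (nat_lit 87) Col.e (nat_lit 69) (Dv.wd (nat_lit 9) [Mv.b (nat_lit 250), Mv.b (nat_lit 101), Mv.f (nat_lit 306)])))
(Tr.lf (Fc.ed (nat_lit 309) (nat_lit 21) Col.i (nat_lit 88) Dv.df)))
(Tr.nd (nat_lit 311) (Tr.lf (Fc.ed (nat_lit 310) (nat_lit 88) Col.d (nat_lit 49) (Dv.wd (nat_lit 44) [Mv.b (nat_lit 193), Mv.f (nat_lit 96), Mv.f (nat_lit 309)])))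
(Tr.nd (nat_lit 312) (Tr.lf (Fc.ed (nat_lit 311) (nat_lit 39) Col.b (nat_lit 89) Dv.df))
(Tr.lf (Fc.ed (nat_lit 312) (nat_lit 89) Col.g (nat_lit 57) (Dv.wd (nat_lit 86) [Mv.f (nat_lit 219), Mv.f (nat_lit 163), Mv.f (nat_lit 311)]))))))))
(Tr.nd (nat_lit 322) (Tr.nd (nat_lit 317) (Tr.nd (nat_lit 315) (Tr.nd (nat_lit 314) (Tr.lf (Fc.ed (nat_lit 313) (nat_lit 89) Col.h (nat_lit 63) (Dv.wd (nat_lit 16) [Mv.f (nat_lit 236), Mv.b (nat_lit 187), Mv.f (nat_lit 311)])))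
(Tr.lf (Fc.ed (nat_lit 314) (nat_lit 72) Col.f (nat_lit 90) Dv.df)))
(Tr.nd (nat_lit 316) (Tr.lf (Fc.ed (nat_lit 315) (nat_lit 90) Col.i (nat_lit 30) (Dv.wd (nat_lit 74) [Mv.b (nat_lit 133), Mv.b (nat_lit 259), Mv.f (nat_lit 314)])))
(Tr.lf (Fc.ed (nat_lit 316) (nat_lit 79) Col.f (nat_lit 91) Dv.df))))
(Tr.nd (nat_lit 319) (Tr.nd (nat_lit 318) (Tr.lf (Fc.ed (nat_lit 317) (nat_lit 91) Col.a (nat_lit 31) (Dv.wd (nat_lit 55) [Mv.f (nat_lit 137), Mv.f (nat_lit 284), Mv.f (nat_lit 316)])))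
(Tr.lf (Fc.ed (nat_lit 318) (nat_lit 91) Col.d (nat_lit 91) (Dv.wd (nat_lit 54) [Mv.b (nat_lit 316), Mv.f (nat_lit 285), Mv.f (nat_lit 316)]))))
(Tr.nd (nat_lit 320) (Tr.lf (Fc.ed (nat_lit 319) (nat_lit 25) Col.a (nat_lit 92) Dv.df))
(Tr.nd (nat_lit 321) (Tr.lf (Fc.ed (nat_lit 320) (nat_lit 92) Col.f (nat_lit 75) (Dv.wd (nat_lit 10) [Mv.f (nat_lit 270), Mv.f (nat_lit 103), Mv.f (nat_lit 319)])))
(Tr.lf (Fc.ed (nat_lit 321) (nat_lit 92) Col.h (nat_lit 91) (Dv.wd (nat_lit 11) [Mv.f (nat_lit 317), Mv.b (nat_lit 136), Mv.f (nat_lit 319)])))))))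
(Tr.nd (nat_lit 327) (Tr.nd (nat_lit 324) (Tr.nd (nat_lit 323) (Tr.lf (Fc.ed (nat_lit 322) (nat_lit 18) Col.a (nat_lit 93) Dv.df))
(Tr.lf (Fc.ed (nat_lit 323) (nat_lit 93) Col.e (nat_lit 93) (Dv.wd (nat_lit 9) [Mv.b (nat_lit 322), Mv.f (nat_lit 88), Mv.f (nat_lit 322)]))))
(Tr.nd (nat_lit 325) (Tr.lf (Fc.ed (nat_lit 324) (nat_lit 81) Col.i (nat_lit 94) Dv.df))
(Tr.nd (nat_lit 326) (Tr.lf (Fc.ed (nat_lit 325) (nat_lit 94) Col.e (nat_lit 42) (Dv.wd (nat_lit 50) [Mv.b (nat_lit 222), Mv.f (nat_lit 292), Mv.f (nat_lit 324)])))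
(Tr.lf (Fc.ed (nat_lit 326) (nat_lit 94) Col.g (nat_lit 95) Dv.df)))))
(Tr.nd (nat_lit 329) (Tr.nd (nat_lit 328) (Tr.lf (Fc.ed (nat_lit 327) (nat_lit 95) Col.e (nat_lit 64) (Dv.wd (nat_lit 87) [Mv.f (nat_lit 239), Mv.b (nat_lit 325), Mv.f (nat_lit 326)])))
(Tr.lf (Fc.ed (nat_lit 328) (nat_lit 41) Col.i (nat_lit 96) Dv.df)))
(Tr.nd (nat_lit 330) (Tr.lf (Fc.ed (nat_lit 329) (nat_lit 96) Col.d (nat_lit 62) (Dv.wd (nat_lit 44) [Mv.f (nat_lit 234), Mv.b (nat_lit 171), Mv.f (nat_lit 328)])))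
(Tr.nd (nat_lit 331) (Tr.lf (Fc.ed (nat_lit 330) (nat_lit 96) Col.h (nat_lit 96) (Dv.wd (nat_lit 51) [Mv.b (nat_lit 328), Mv.b (nat_lit 178), Mv.f (nat_lit 179), Mv.f (nat_lit 178), Mv.f (nat_lit 328)])))
(Tr.lf (Fc.ed (nat_lit 331) (nat_lit 69) Col.f (nat_lit 97) Dv.df))))))))
(Tr.nd (nat_lit 350) (Tr.nd (nat_lit 341) (Tr.nd (nat_lit 336) (Tr.nd (nat_lit 334) (Tr.nd (nat_lit 333) (Tr.lf (Fc.ed (nat_lit 332) (nat_lit 97) Col.d (nat_lit 83) (Dv.wd (nat_lit 54) [Mv.f (nat_lit 296), Mv.b (nat_lit 251), Mv.f (nat_lit 331)])))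
(Tr.lf (Fc.ed (nat_lit 333) (nat_lit 74) Col.f (nat_lit 98) Dv.df)))
(Tr.nd (nat_lit 335) (Tr.lf (Fc.ed (nat_lit 334) (nat_lit 98) Col.a (nat_lit 65) (Dv.wd (nat_lit 55) [Mv.f (nat_lit 241), Mv.f (nat_lit 267), Mv.f (nat_lit 333)])))
(Tr.lf (Fc.ed (nat_lit 335) (nat_lit 98) Col.d (nat_lit 92) (Dv.wd (nat_lit 54) [Mv.f (nat_lit 320), Mv.b (nat_lit 269), Mv.f (nat_lit 333)])))))
(Tr.nd (nat_lit 338) (Tr.nd (nat_lit 337) (Tr.lf (Fc.ed (nat_lit 336) (nat_lit 39) Col.a (nat_lit 99) Dv.df))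
(Tr.lf (Fc.ed (nat_lit 337) (nat_lit 99) Col.g (nat_lit 92) (Dv.wd (nat_lit 88) [Mv.b (nat_lit 319), Mv.f (nat_lit 163), Mv.f (nat_lit 336)]))))
(Tr.nd (nat_lit 339) (Tr.lf (Fc.ed (nat_lit 338) (nat_lit 65) Col.c (nat_lit 100) Dv.df))
(Tr.nd (nat_lit 340) (Tr.lf (Fc.ed (nat_lit 339) (nat_lit 100) Col.f (nat_lit 24) (Dv.wd (nat_lit 21) [Mv.b (nat_lit 100), Mv.b (nat_lit 241), Mv.f (nat_lit 338)])))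
(Tr.lf (Fc.ed (nat_lit 340) (nat_lit 100) Col.h (nat_lit 100) (Dv.wd (nat_lit 22) [Mv.b (nat_lit 338), Mv.f (nat_lit 242), Mv.f (nat_lit 338)])))))))
(Tr.nd (nat_lit 345) (Tr.nd (nat_lit 343) (Tr.nd (nat_lit 342) (Tr.lf (Fc.ed (nat_lit 341) (nat_lit 100) Col.b (nat_lit 100) (Dv.wd (nat_lit 89) [Mv.f (nat_lit 339), Mv.f (nat_lit 102), Mv.b (nat_lit 339)])))
(Tr.lf (Fc.ed (nat_lit 342) (nat_lit 60) Col.d (nat_lit 101) Dv.df)))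
(Tr.nd (nat_lit 344) (Tr.lf (Fc.ed (nat_lit 343) (nat_lit 101) Col.b (nat_lit 101) (Dv.wd (nat_lit 26) [Mv.b (nat_lit 342), Mv.f (nat_lit 228), Mv.f (nat_lit 342)])))
(Tr.lf (Fc.ed (nat_lit 344) (nat_lit 85) Col.e (nat_lit 102) Dv.df))))
(Tr.nd (nat_lit 347) (Tr.nd (nat_lit 346) (Tr.lf (Fc.ed (nat_lit 345) (nat_lit 102) Col.h (nat_lit 60) (Dv.wd (nat_lit 46) [Mv.b (nat_lit 227), Mv.b (nat_lit 301), Mv.f (nat_lit 344)])))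
(Tr.lf (Fc.ed (nat_lit 346) (nat_lit 102) Col.f (nat_lit 102) (Dv.wd (nat_lit 73) [Mv.b (nat_lit 344), Mv.b (nat_lit 299), Mv.f (nat_lit 121), Mv.f (nat_lit 299), Mv.f (nat_lit 344)]))))
(Tr.nd (nat_lit 348) (Tr.lf (Fc.ed (nat_lit 347) (nat_lit 35) Col.e (nat_lit 103) Dv.df))
(Tr.nd (nat_lit 349) (Tr.lf (Fc.ed (nat_lit 348) (nat_lit 54) Col.e (nat_lit 104) Dv.df))
(Tr.lf (Fc.ed (nat_lit 349) (nat_lit 104) Col.c (nat_lit 95) (Dv.wd (nat_lit 32) [Mv.f (nat_lit 327), Mv.b (nat_lit 238), Mv.f (nat_lit 348)]))))))))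
(Tr.nd (nat_lit 359) (Tr.nd (nat_lit 354) (Tr.nd (nat_lit 352) (Tr.nd (nat_lit 351) (Tr.lf (Fc.ed (nat_lit 350) (nat_lit 104) Col.g (nat_lit 103) (Dv.wd (nat_lit 90) [Mv.b (nat_lit 347), Mv.f (nat_lit 207), Mv.f (nat_lit 348)])))
(Tr.lf (Fc.ed (nat_lit 351) (nat_lit 100) Col.a (nat_lit 105) Dv.df)))
(Tr.nd (nat_lit 353) (Tr.lf (Fc.ed (nat_lit 352) (nat_lit 105) Col.c (nat_lit 98) (Dv.wd (nat_lit 7) [Mv.f (nat_lit 334), Mv.f (nat_lit 338), Mv.f (nat_lit 351)])))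
(Tr.lf (Fc.ed (nat_lit 353) (nat_lit 105) Col.f (nat_lit 87) (Dv.wd (nat_lit 10) [Mv.b (nat_lit 306), Mv.b (nat_lit 339), Mv.f (nat_lit 351)])))))
(Tr.nd (nat_lit 356) (Tr.nd (nat_lit 355) (Tr.lf (Fc.ed (nat_lit 354) (nat_lit 105) Col.h (nat_lit 105) (Dv.wd (nat_lit 11) [Mv.b (nat_lit 351), Mv.f (nat_lit 340), Mv.f (nat_lit 351)])))
(Tr.lf (Fc.ed (nat_lit 355) (nat_lit 101) Col.g (nat_lit 106) Dv.df)))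
(Tr.nd (nat_lit 357) (Tr.lf (Fc.ed (nat_lit 356) (nat_lit 106) Col.d (nat_lit 67) (Dv.wd (nat_lit 91) [Mv.b (nat_lit 245), Mv.f (nat_lit 342), Mv.f (nat_lit 355)])))
(Tr.nd (nat_lit 358) (Tr.lf (Fc.ed (nat_lit 357) (nat_lit 76) Col.f (nat_lit 107) Dv.df))
(Tr.lf (Fc.ed (nat_lit 358) (nat_lit 107) Col.c (nat_lit 97) (Dv.wd (nat_lit 53) [Mv.b (nat_lit 331), Mv.b (nat_lit 274), Mv.f (nat_lit 357)])))))))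
(Tr.nd (nat_lit 364) (Tr.nd (nat_lit 361) (Tr.nd (nat_lit 360) (Tr.lf (Fc.ed (nat_lit 359) (nat_lit 107) Col.h (nat_lit 107) (Dv.wd (nat_lit 57) [Mv.b (nat_lit 357), Mv.f (nat_lit 276), Mv.f (nat_lit 357)])))
(Tr.lf (Fc.ed (nat_lit 360) (nat_lit 95) Col.i (nat_lit 108) Dv.df)))
(Tr.nd (nat_lit 362) (Tr.lf (Fc.ed (nat_lit 361) (nat_lit 108) Col.g (nat_lit 81) (Dv.wd (nat_lit 79) [Mv.f (nat_lit 324), Mv.f (nat_lit 326), Mv.f (nat_lit 360)])))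
(Tr.nd (nat_lit 363) (Tr.lf (Fc.ed (nat_lit 362) (nat_lit 15) Col.b (nat_lit 109) Dv.df))
(Tr.lf (Fc.ed (nat_lit 363) (nat_lit 109) Col.d (nat_lit 52) (Dv.wd (nat_lit 13) [Mv.f (nat_lit 203), Mv.b (nat_lit 80), Mv.f (nat_lit 362)]))))))
(Tr.nd (nat_lit 366) (Tr.nd (nat_lit 365) (Tr.lf (Fc.ed (nat_lit 364) (nat_lit 109) Col.c (nat_lit 109) (Dv.wd (nat_lit 40) [Mv.b (nat_lit 362), Mv.f (nat_lit 100), Mv.f (nat_lit 102), Mv.b (nat_lit 100), Mv.f (nat_lit 362)])))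
(Tr.lf (Fc.ed (nat_lit 365) (nat_lit 68) Col.d (nat_lit 68) (Dv.wd (nat_lit 92) [Mv.f (nat_lit 249), Mv.b (nat_lit 363), Mv.f (nat_lit 364), Mv.f (nat_lit 363), Mv.b (nat_lit 249)]))))
(Tr.nd (nat_lit 367) (Tr.lf (Fc.ed (nat_lit 366) (nat_lit 88) Col.h (nat_lit 88) (Dv.wd (nat_lit 93) [Mv.f (nat_lit 310), Mv.f (nat_lit 247), Mv.f (nat_lit 365), Mv.b (nat_lit 247), Mv.b (nat_lit 310)])))
(Tr.nd (nat_lit 368) (Tr.lf (Fc.al (nat_lit 367) (nat_lit 72) (nat_lit 22) (Dv.wd (nat_lit 84) [Mv.b (nat_lit 97), Mv.f (nat_lit 309), Mv.f (nat_lit 366), Mv.b (nat_lit 309), Mv.f (nat_lit 97), Mv.b (nat_lit 259)])))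
(Tr.lf (Fc.al (nat_lit 368) (nat_lit 30) (nat_lit 90) (Dv.wd (nat_lit 94) [Mv.b (nat_lit 314), Mv.f (nat_lit 367), Mv.f (nat_lit 133)]))))))))))
(Tr.nd (nat_lit 406) (Tr.nd (nat_lit 387) (Tr.nd (nat_lit 378) (Tr.nd (nat_lit 373) (Tr.nd (nat_lit 371) (Tr.nd (nat_lit 370) (Tr.lf (Fc.ed (nat_lit 369) (nat_lit 30) Col.i (nat_lit 30) (Dv.wd (nat_lit 95) [Mv.b (nat_lit 315), Mv.b (nat_lit 368)])))
(Tr.lf (Fc.ed (nat_lit 370) (nat_lit 104) Col.i (nat_lit 110) Dv.df)))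
(Tr.nd (nat_lit 372) (Tr.lf (Fc.ed (nat_lit 371) (nat_lit 110) Col.c (nat_lit 108) (Dv.wd (nat_lit 43) [Mv.b (nat_lit 360), Mv.b (nat_lit 349), Mv.f (nat_lit 370)])))
(Tr.lf (Fc.ed (nat_lit 372) (nat_lit 110) Col.e (nat_lit 63) (Dv.wd (nat_lit 50) [Mv.b (nat_lit 235), Mv.f (nat_lit 348), Mv.f (nat_lit 370)])))))
(Tr.nd (nat_lit 375) (Tr.nd (nat_lit 374) (Tr.lf (Fc.ed (nat_lit 373) (nat_lit 89) Col.d (nat_lit 111) Dv.df))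
(Tr.lf (Fc.ed (nat_lit 374) (nat_lit 70) Col.d (nat_lit 112) Dv.df)))
(Tr.nd (nat_lit 376) (Tr.lf (Fc.ed (nat_lit 375) (nat_lit 112) Col.b (nat_lit 69) (Dv.wd (nat_lit 26) [Mv.f (nat_lit 251), Mv.b (nat_lit 254), Mv.f (nat_lit 374)])))
(Tr.nd (nat_lit 377) (Tr.lf (Fc.ed (nat_lit 376) (nat_lit 112) Col.c (nat_lit 112) (Dv.wd (nat_lit 29) [Mv.b (nat_lit 374), Mv.f (nat_lit 287), Mv.f (nat_lit 291), Mv.b (nat_lit 287), Mv.f (nat_lit 374)])))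
(Tr.lf (Fc.ed (nat_lit 377) (nat_lit 76) Col.b (nat_lit 76) (Dv.wd (nat_lit 67) [Mv.f (nat_lit 274), Mv.b (nat_lit 375), Mv.f (nat_lit 376), Mv.f (nat_lit 375), Mv.b (nat_lit 274)])))))))
(Tr.nd (nat_lit 382) (Tr.nd (nat_lit 380) (Tr.nd (nat_lit 379) (Tr.lf (Fc.ed (nat_lit 378) (nat_lit 74) Col.b (nat_lit 74) (Dv.wd (nat_lit 52) [Mv.b (nat_lit 275), Mv.f (nat_lit 377), Mv.f (nat_lit 275)])))
(Tr.lf (Fc.ed (nat_lit 379) (nat_lit 107) Col.b (nat_lit 107) (Dv.wd (nat_lit 89) [Mv.b (nat_lit 357), Mv.f (nat_lit 377), Mv.f (nat_lit 357)]))))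
(Tr.nd (nat_lit 381) (Tr.lf (Fc.ed (nat_lit 380) (nat_lit 109) Col.a (nat_lit 109) (Dv.wd (nat_lit 96) [Mv.b (nat_lit 362), Mv.f (nat_lit 267), Mv.f (nat_lit 378), Mv.b (nat_lit 267), Mv.f (nat_lit 362)])))
(Tr.lf (Fc.ed (nat_lit 381) (nat_lit 52) Col.a (nat_lit 52) (Dv.wd (nat_lit 97) [Mv.b (nat_lit 363), Mv.f (nat_lit 380), Mv.f (nat_lit 363)])))))
(Tr.nd (nat_lit 384) (Tr.nd (nat_lit 383) (Tr.lf (Fc.ed (nat_lit 382) (nat_lit 68) Col.a (nat_lit 68) (Dv.wd (nat_lit 98) [Mv.f (nat_lit 249), Mv.f (nat_lit 381), Mv.b (nat_lit 249)])))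
(Tr.lf (Fc.ed (nat_lit 383) (nat_lit 48) Col.a (nat_lit 48) (Dv.wd (nat_lit 99) [Mv.f (nat_lit 202), Mv.f (nat_lit 381), Mv.b (nat_lit 202)]))))
(Tr.nd (nat_lit 385) (Tr.lf (Fc.ed (nat_lit 384) (nat_lit 79) Col.b (nat_lit 79) (Dv.wd (nat_lit 100) [Mv.b (nat_lit 284), Mv.b (nat_lit 190), Mv.f (nat_lit 383), Mv.f (nat_lit 190), Mv.f (nat_lit 284)])))
(Tr.nd (nat_lit 386) (Tr.lf (Fc.ed (nat_lit 385) (nat_lit 91) Col.b (nat_lit 91) (Dv.wd (nat_lit 89) [Mv.b (nat_lit 316), Mv.f (nat_lit 384), Mv.f (nat_lit 316)])))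
(Tr.lf (Fc.ed (nat_lit 386) (nat_lit 92) Col.b (nat_lit 92) (Dv.wd (nat_lit 69) [Mv.f (nat_lit 321), Mv.f (nat_lit 385), Mv.b (nat_lit 321)]))))))))
(Tr.nd (nat_lit 396) (Tr.nd (nat_lit 391) (Tr.nd (nat_lit 389) (Tr.nd (nat_lit 388) (Tr.lf (Fc.ed (nat_lit 387) (nat_lit 99) Col.b (nat_lit 99) (Dv.wd (nat_lit 101) [Mv.f (nat_lit 337), Mv.f (nat_lit 386), Mv.b (nat_lit 337)])))
(Tr.lf (Fc.ed (nat_lit 388) (nat_lit 89) Col.a (nat_lit 89) (Dv.wd (nat_lit 96) [Mv.b (nat_lit 311), Mv.f (nat_lit 336), Mv.f (nat_lit 387), Mv.b (nat_lit 336), Mv.f (nat_lit 311)]))))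
(Tr.nd (nat_lit 390) (Tr.lf (Fc.ed (nat_lit 389) (nat_lit 63) Col.a (nat_lit 63) (Dv.wd (nat_lit 99) [Mv.b (nat_lit 313), Mv.f (nat_lit 388), Mv.f (nat_lit 313)])))
(Tr.lf (Fc.ed (nat_lit 390) (nat_lit 54) Col.a (nat_lit 54) (Dv.wd (nat_lit 102) [Mv.f (nat_lit 235), Mv.f (nat_lit 389), Mv.b (nat_lit 235)])))))
(Tr.nd (nat_lit 393) (Tr.nd (nat_lit 392) (Tr.lf (Fc.ed (nat_lit 391) (nat_lit 35) Col.a (nat_lit 35) (Dv.wd (nat_lit 103) [Mv.f (nat_lit 207), Mv.f (nat_lit 390), Mv.b (nat_lit 207)])))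
(Tr.lf (Fc.ed (nat_lit 392) (nat_lit 34) Col.e (nat_lit 113) Dv.df)))
(Tr.nd (nat_lit 394) (Tr.lf (Fc.ed (nat_lit 393) (nat_lit 113) Col.b (nat_lit 103) (Dv.wd (nat_lit 31) [Mv.b (nat_lit 347), Mv.b (nat_lit 149), Mv.f (nat_lit 392)])))
(Tr.nd (nat_lit 395) (Tr.lf (Fc.ed (nat_lit 394) (nat_lit 61) Col.d (nat_lit 114) Dv.df))
(Tr.lf (Fc.ed (nat_lit 395) (nat_lit 114) Col.b (nat_lit 114) (Dv.wd (nat_lit 26) [Mv.b (nat_lit 394), Mv.f (nat_lit 231), Mv.f (nat_lit 394)])))))))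
(Tr.nd (nat_lit 401) (Tr.nd (nat_lit 398) (Tr.nd (nat_lit 397) (Tr.lf (Fc.ed (nat_lit 396) (nat_lit 114) Col.i (nat_lit 106) (Dv.wd (nat_lit 28) [Mv.f (nat_lit 356), Mv.f (nat_lit 246), Mv.f (nat_lit 394)])))
(Tr.lf (Fc.ed (nat_lit 397) (nat_lit 109) Col.e (nat_lit 115) Dv.df)))
(Tr.nd (nat_lit 399) (Tr.lf (Fc.ed (nat_lit 398) (nat_lit 115) Col.b (nat_lit 14) (Dv.wd (nat_lit 31) [Mv.f (nat_lit 77), Mv.f (nat_lit 362), Mv.f (nat_lit 397)])))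
(Tr.nd (nat_lit 400) (Tr.lf (Fc.ed (nat_lit 399) (nat_lit 115) Col.d (nat_lit 115) (Dv.wd (nat_lit 34) [Mv.b (nat_lit 397), Mv.f (nat_lit 363), Mv.f (nat_lit 204), Mv.b (nat_lit 363), Mv.f (nat_lit 397)])))
(Tr.lf (Fc.ed (nat_lit 400) (nat_lit 114) Col.g (nat_lit 116) Dv.df)))))
(Tr.nd (nat_lit 403) (Tr.nd (nat_lit 402) (Tr.lf (Fc.ed (nat_lit 401) (nat_lit 116) Col.b (nat_lit 116) (Dv.wd (nat_lit 80) [Mv.b (nat_lit 400), Mv.f (nat_lit 395), Mv.f (nat_lit 400)])))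
(Tr.lf (Fc.ed (nat_lit 402) (nat_lit 116) Col.d (nat_lit 46) (Dv.wd (nat_lit 91) [Mv.f (nat_lit 230), Mv.f (nat_lit 394), Mv.f (nat_lit 400)]))))
(Tr.nd (nat_lit 404) (Tr.lf (Fc.ed (nat_lit 403) (nat_lit 116) Col.i (nat_lit 101) (Dv.wd (nat_lit 82) [Mv.f (nat_lit 355), Mv.b (nat_lit 396), Mv.f (nat_lit 400)])))
(Tr.nd (nat_lit 405) (Tr.lf (Fc.ed (nat_lit 404) (nat_lit 110) Col.g (nat_lit 117) Dv.df))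
(Tr.lf (Fc.ed (nat_lit 405) (nat_lit 117) Col.c (nat_lit 81) (Dv.wd (nat_lit 104) [Mv.b (nat_lit 361), Mv.b (nat_lit 371), Mv.f (nat_lit 404)])))))))))
(Tr.nd (nat_lit 424) (Tr.nd (nat_lit 415) (Tr.nd (nat_lit 410) (Tr.nd (nat_lit 408) (Tr.nd (nat_lit 407) (Tr.lf (Fc.ed (nat_lit 406) (nat_lit 117) Col.e (nat_lit 45) (Dv.wd (nat_lit 87) [Mv.b (nat_lit 237), Mv.b (nat_lit 372), Mv.f (nat_lit 404)])))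
(Tr.lf (Fc.ed (nat_lit 407) (nat_lit 117) Col.i (nat_lit 103) (Dv.wd (nat_lit 82) [Mv.b (nat_lit 350), Mv.f (nat_lit 370), Mv.f (nat_lit 404)]))))
(Tr.nd (nat_lit 409) (Tr.lf (Fc.ed (nat_lit 408) (nat_lit 97) Col.a (nat_lit 118) Dv.df))
(Tr.lf (Fc.ed (nat_lit 409) (nat_lit 118) Col.d (nat_lit 85) (Dv.wd (nat_lit 8) [Mv.f (nat_lit 300), Mv.b (nat_lit 332), Mv.f (nat_lit 408)])))))
(Tr.nd (nat_lit 412) (Tr.nd (nat_lit 411) (Tr.lf (Fc.ed (nat_lit 410) (nat_lit 111) Col.g (nat_lit 119) Dv.df))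
(Tr.lf (Fc.ed (nat_lit 411) (nat_lit 119) Col.d (nat_lit 57) (Dv.wd (nat_lit 91) [Mv.b (nat_lit 312), Mv.f (nat_lit 373), Mv.f (nat_lit 410)]))))
(Tr.nd (nat_lit 413) (Tr.lf (Fc.ed (nat_lit 412) (nat_lit 109) Col.f (nat_lit 119) (Dv.wd (nat_lit 105) [Mv.f (nat_lit 411), Mv.b (nat_lit 218), Mv.b (nat_lit 363)])))
(Tr.nd (nat_lit 414) (Tr.lf (Fc.ed (nat_lit 413) (nat_lit 34) Col.a (nat_lit 120) Dv.df))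
(Tr.lf (Fc.ed (nat_lit 414) (nat_lit 120) Col.c (nat_lit 120) (Dv.wd (nat_lit 7) [Mv.b (nat_lit 413), Mv.f (nat_lit 145), Mv.f (nat_lit 413)])))))))
(Tr.nd (nat_lit 419) (Tr.nd (nat_lit 417) (Tr.nd (nat_lit 416) (Tr.lf (Fc.ed (nat_lit 415) (nat_lit 120) Col.f (nat_lit 93) (Dv.wd (nat_lit 10) [Mv.b (nat_lit 322), Mv.f (nat_lit 144), Mv.f (nat_lit 413)])))
(Tr.lf (Fc.ed (nat_lit 416) (nat_lit 120) Col.h (nat_lit 120) (Dv.wd (nat_lit 11) [Mv.b (nat_lit 413), Mv.f (nat_lit 147), Mv.f (nat_lit 413)]))))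
(Tr.nd (nat_lit 418) (Tr.lf (Fc.ed (nat_lit 417) (nat_lit 120) Col.i (nat_lit 91) (Dv.wd (nat_lit 12) [Mv.f (nat_lit 317), Mv.b (nat_lit 148), Mv.f (nat_lit 413)])))
(Tr.lf (Fc.ed (nat_lit 418) (nat_lit 120) Col.b (nat_lit 120) (Dv.wd (nat_lit 41) [Mv.b (nat_lit 413), Mv.f (nat_lit 149), Mv.f (nat_lit 391), Mv.b (nat_lit 149), Mv.f (nat_lit 413)])))))
(Tr.nd (nat_lit 421) (Tr.nd (nat_lit 420) (Tr.lf (Fc.ed (nat_lit 419) (nat_lit 33) Col.d (nat_lit 121) Dv.df))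
(Tr.lf (Fc.ed (nat_lit 420) (nat_lit 121) Col.a (nat_lit 116) (Dv.wd (nat_lit 25) [Mv.f (nat_lit 402), Mv.f (nat_lit 184), Mv.f (nat_lit 419)]))))
(Tr.nd (nat_lit 422) (Tr.lf (Fc.ed (nat_lit 421) (nat_lit 121) Col.f (nat_lit 121) (Dv.wd (nat_lit 27) [Mv.b (nat_lit 419), Mv.f (nat_lit 143), Mv.f (nat_lit 419)])))
(Tr.nd (nat_lit 423) (Tr.lf (Fc.ed (nat_lit 422) (nat_lit 121) Col.e (nat_lit 121) (Dv.wd (nat_lit 47) [Mv.b (nat_lit 419), Mv.b (nat_lit 142), Mv.f (nat_lit 106), Mv.f (nat_lit 142), Mv.f (nat_lit 419)])))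
(Tr.lf (Fc.ed (nat_lit 423) (nat_lit 117) Col.b (nat_lit 122) Dv.df)))))))
(Tr.nd (nat_lit 433) (Tr.nd (nat_lit 428) (Tr.nd (nat_lit 426) (Tr.nd (nat_lit 425) (Tr.lf (Fc.ed (nat_lit 424) (nat_lit 122) Col.e (nat_lit 31) (Dv.wd (nat_lit 14) [Mv.b (nat_lit 182), Mv.b (nat_lit 406), Mv.f (nat_lit 423)])))
(Tr.lf (Fc.ed (nat_lit 425) (nat_lit 122) Col.i (nat_lit 113) (Dv.wd (nat_lit 17) [Mv.f (nat_lit 393), Mv.b (nat_lit 407), Mv.f (nat_lit 423)]))))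
(Tr.nd (nat_lit 427) (Tr.lf (Fc.ed (nat_lit 426) (nat_lit 112) Col.f (nat_lit 123) Dv.df))
(Tr.lf (Fc.ed (nat_lit 427) (nat_lit 123) Col.d (nat_lit 82) (Dv.wd (nat_lit 54) [Mv.f (nat_lit 294), Mv.f (nat_lit 374), Mv.f (nat_lit 426)])))))
(Tr.nd (nat_lit 430) (Tr.nd (nat_lit 429) (Tr.lf (Fc.ed (nat_lit 428) (nat_lit 112) Col.e (nat_lit 124) Dv.df))
(Tr.lf (Fc.ed (nat_lit 429) (nat_lit 124) Col.b (nat_lit 87) (Dv.wd (nat_lit 31) [Mv.f (nat_lit 308), Mv.b (nat_lit 375), Mv.f (nat_lit 428)]))))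
(Tr.nd (nat_lit 431) (Tr.lf (Fc.ed (nat_lit 430) (nat_lit 124) Col.d (nat_lit 124) (Dv.wd (nat_lit 34) [Mv.b (nat_lit 428), Mv.b (nat_lit 374), Mv.f (nat_lit 255), Mv.f (nat_lit 374), Mv.f (nat_lit 428)])))
(Tr.nd (nat_lit 432) (Tr.lf (Fc.ed (nat_lit 431) (nat_lit 107) Col.a (nat_lit 125) Dv.df))
(Tr.lf (Fc.ed (nat_lit 432) (nat_lit 125) Col.c (nat_lit 118) (Dv.wd (nat_lit 7) [Mv.b (nat_lit 408), Mv.b (nat_lit 358), Mv.f (nat_lit 431)])))))))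
(Tr.nd (nat_lit 438) (Tr.nd (nat_lit 435) (Tr.nd (nat_lit 434) (Tr.lf (Fc.ed (nat_lit 433) (nat_lit 125) Col.f (nat_lit 14) (Dv.wd (nat_lit 10) [Mv.f (nat_lit 273), Mv.f (nat_lit 357), Mv.f (nat_lit 431)])))
(Tr.lf (Fc.ed (nat_lit 434) (nat_lit 125) Col.h (nat_lit 125) (Dv.wd (nat_lit 11) [Mv.b (nat_lit 431), Mv.f (nat_lit 359), Mv.f (nat_lit 431)]))))
(Tr.nd (nat_lit 436) (Tr.lf (Fc.ed (nat_lit 435) (nat_lit 120) Col.e (nat_lit 126) Dv.df))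
(Tr.nd (nat_lit 437) (Tr.lf (Fc.ed (nat_lit 436) (nat_lit 126) Col.a (nat_lit 113) (Dv.wd (nat_lit 30) [Mv.b (nat_lit 392), Mv.f (nat_lit 413), Mv.f (nat_lit 435)])))
(Tr.lf (Fc.ed (nat_lit 437) (nat_lit 126) Col.b (nat_lit 126) (Dv.wd (nat_lit 31) [Mv.b (nat_lit 435), Mv.f (nat_lit 418), Mv.f (nat_lit 435)]))))))
(Tr.nd (nat_lit 440) (Tr.nd (nat_lit 439) (Tr.lf (Fc.ed (nat_lit 438) (nat_lit 126) Col.c (nat_lit 126) (Dv.wd (nat_lit 32) [Mv.b (nat_lit 435), Mv.f (nat_lit 414), Mv.f (nat_lit 435)])))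
(Tr.lf (Fc.ed (nat_lit 439) (nat_lit 126) Col.h (nat_lit 126) (Dv.wd (nat_lit 46) [Mv.b (nat_lit 435), Mv.f (nat_lit 416), Mv.f (nat_lit 435)]))))
(Tr.nd (nat_lit 441) (Tr.lf (Fc.ed (nat_lit 440) (nat_lit 126) Col.f (nat_lit 126) (Dv.wd (nat_lit 73) [Mv.b (nat_lit 435), Mv.f (nat_lit 415), Mv.f (nat_lit 323), Mv.b (nat_lit 415), Mv.f (nat_lit 435)])))
(Tr.nd (nat_lit 442) (Tr.lf (Fc.ed (nat_lit 441) (nat_lit 121) Col.b (nat_lit 127) Dv.df))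
(Tr.lf (Fc.ed (nat_lit 442) (nat_lit 127) Col.d (nat_lit 71) (Dv.wd (nat_lit 13) [Mv.f (nat_lit 257), Mv.f (nat_lit 419), Mv.f (nat_lit 441)])))))))))))
(Tr.nd (nat_lit 517) (Tr.nd (nat_lit 480) (Tr.nd (nat_lit 461) (Tr.nd (nat_lit 452) (Tr.nd (nat_lit 447) (Tr.nd (nat_lit 445) (Tr.nd (nat_lit 444) (Tr.lf (Fc.ed (nat_lit 443) (nat_lit 127) Col.e (nat_lit 127) (Dv.wd (nat_lit 14) [Mv.b (nat_lit 441), Mv.f (nat_lit 422), Mv.f (nat_lit 441)])))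
(Tr.lf (Fc.ed (nat_lit 444) (nat_lit 127) Col.f (nat_lit 127) (Dv.wd (nat_lit 15) [Mv.b (nat_lit 441), Mv.f (nat_lit 421), Mv.f (nat_lit 441)]))))
(Tr.nd (nat_lit 446) (Tr.lf (Fc.ed (nat_lit 445) (nat_lit 127) Col.a (nat_lit 127) (Dv.wd (nat_lit 18) [Mv.b (nat_lit 441), Mv.f (nat_lit 420), Mv.f (nat_lit 401), Mv.b (nat_lit 420), Mv.f (nat_lit 441)])))
(Tr.lf (Fc.ed (nat_lit 446) (nat_lit 113) Col.d (nat_lit 128) Dv.df))))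
(Tr.nd (nat_lit 449) (Tr.nd (nat_lit 448) (Tr.lf (Fc.ed (nat_lit 447) (nat_lit 30) Col.e (nat_lit 129) Dv.df))
(Tr.lf (Fc.ed (nat_lit 448) (nat_lit 129) Col.i (nat_lit 129) (Dv.wd (nat_lit 33) [Mv.b (nat_lit 447), Mv.f (nat_lit 369), Mv.f (nat_lit 447)]))))
(Tr.nd (nat_lit 450) (Tr.lf (Fc.ed (nat_lit 449) (nat_lit 36) Col.e (nat_lit 130) Dv.df))
(Tr.nd (nat_lit 451) (Tr.lf (Fc.ed (nat_lit 450) (nat_lit 130) Col.b (nat_lit 130) (Dv.wd (nat_lit 31) [Mv.b (nat_lit 449), Mv.f (nat_lit 153), Mv.f (nat_lit 449)])))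
(Tr.lf (Fc.ed (nat_lit 451) (nat_lit 130) Col.h (nat_lit 129) (Dv.wd (nat_lit 46) [Mv.b (nat_lit 447), Mv.f (nat_lit 152), Mv.f (nat_lit 449)])))))))
(Tr.nd (nat_lit 456) (Tr.nd (nat_lit 454) (Tr.nd (nat_lit 453) (Tr.lf (Fc.ed (nat_lit 452) (nat_lit 78) Col.e (nat_lit 131) Dv.df))
(Tr.lf (Fc.ed (nat_lit 453) (nat_lit 131) Col.i (nat_lit 130) (Dv.wd (nat_lit 33) [Mv.b (nat_lit 449), Mv.f (nat_lit 282), Mv.f (nat_lit 452)]))))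
(Tr.nd (nat_lit 455) (Tr.lf (Fc.ed (nat_lit 454) (nat_lit 92) Col.e (nat_lit 132) Dv.df))
(Tr.lf (Fc.ed (nat_lit 455) (nat_lit 132) Col.f (nat_lit 132) (Dv.wd (nat_lit 73) [Mv.b (nat_lit 454), Mv.f (nat_lit 320), Mv.f (nat_lit 272), Mv.b (nat_lit 320), Mv.f (nat_lit 454)])))))
(Tr.nd (nat_lit 458) (Tr.nd (nat_lit 457) (Tr.lf (Fc.ed (nat_lit 456) (nat_lit 126) Col.i (nat_lit 133) Dv.df))
(Tr.lf (Fc.ed (nat_lit 457) (nat_lit 133) Col.a (nat_lit 122) (Dv.wd (nat_lit 76) [Mv.f (nat_lit 425), Mv.b (nat_lit 436), Mv.f (nat_lit 456)]))))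
(Tr.nd (nat_lit 459) (Tr.lf (Fc.ed (nat_lit 458) (nat_lit 133) Col.b (nat_lit 133) (Dv.wd (nat_lit 42) [Mv.b (nat_lit 456), Mv.f (nat_lit 437), Mv.f (nat_lit 456)])))
(Tr.nd (nat_lit 460) (Tr.lf (Fc.ed (nat_lit 459) (nat_lit 133) Col.c (nat_lit 133) (Dv.wd (nat_lit 43) [Mv.b (nat_lit 456), Mv.f (nat_lit 438), Mv.f (nat_lit 456)])))
(Tr.lf (Fc.ed (nat_lit 460) (nat_lit 133) Col.e (nat_lit 91) (Dv.wd (nat_lit 50) [Mv.b (nat_lit 417), Mv.f (nat_lit 435), Mv.f (nat_lit 456)]))))))))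
(Tr.nd (nat_lit 470) (Tr.nd (nat_lit 465) (Tr.nd (nat_lit 463) (Tr.nd (nat_lit 462) (Tr.lf (Fc.ed (nat_lit 461) (nat_lit 133) Col.f (nat_lit 133) (Dv.wd (nat_lit 72) [Mv.b (nat_lit 456), Mv.f (nat_lit 440), Mv.f (nat_lit 456)])))
(Tr.lf (Fc.ed (nat_lit 462) (nat_lit 132) Col.h (nat_lit 133) (Dv.wd (nat_lit 106) [Mv.f (nat_lit 460), Mv.b (nat_lit 321), Mv.f (nat_lit 454)]))))
(Tr.nd (nat_lit 464) (Tr.lf (Fc.ed (nat_lit 463) (nat_lit 81) Col.d (nat_lit 134) Dv.df))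
(Tr.lf (Fc.ed (nat_lit 464) (nat_lit 116) Col.c (nat_lit 135) Dv.df))))
(Tr.nd (nat_lit 467) (Tr.nd (nat_lit 466) (Tr.lf (Fc.ed (nat_lit 465) (nat_lit 135) Col.d (nat_lit 135) (Dv.wd (nat_lit 39) [Mv.b (nat_lit 464), Mv.f (nat_lit 402), Mv.f (nat_lit 186), Mv.b (nat_lit 402), Mv.f (nat_lit 464)])))
(Tr.lf (Fc.ed (nat_lit 466) (nat_lit 127) Col.h (nat_lit 136) Dv.df)))
(Tr.nd (nat_lit 468) (Tr.lf (Fc.ed (nat_lit 467) (nat_lit 136) Col.a (nat_lit 136) (Dv.wd (nat_lit 35) [Mv.b (nat_lit 466), Mv.f (nat_lit 445), Mv.f (nat_lit 466)])))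
(Tr.nd (nat_lit 469) (Tr.lf (Fc.ed (nat_lit 468) (nat_lit 136) Col.b (nat_lit 135) (Dv.wd (nat_lit 107) [Mv.b (nat_lit 464), Mv.f (nat_lit 402), Mv.b (nat_lit 183), Mv.f (nat_lit 131), Mv.f (nat_lit 59), Mv.b (nat_lit 56), Mv.b (nat_lit 52), Mv.b (nat_lit 48), Mv.b (nat_lit 44), Mv.f (nat_lit 112), Mv.f (nat_lit 114), Mv.f (nat_lit 113), Mv.f (nat_lit 29), Mv.f (nat_lit 30), Mv.f (nat_lit 33), Mv.b (nat_lit 28), Mv.f (nat_lit 23), Mv.f (nat_lit 24), Mv.f (nat_lit 25), Mv.f (nat_lit 22), Mv.f (nat_lit 27), Mv.b (nat_lit 21), Mv.f (nat_lit 15), Mv.f (nat_lit 16), Mv.f (nat_lit 17), Mv.f (nat_lit 18), Mv.f (nat_lit 20), Mv.b (nat_lit 14), Mv.f (nat_lit 8), Mv.f (nat_lit 9), Mv.f (nat_lit 10), Mv.f (nat_lit 11), Mv.f (nat_lit 12), Mv.b (nat_lit 7), Mv.f (nat_lit 0), Mv.f (nat_lit 1), Mv.f (nat_lit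 2), Mv.f (nat_lit 3), Mv.f (nat_lit 4), Mv.f (nat_lit 5), Mv.f (nat_lit 7), Mv.f (nat_lit 14), Mv.f (nat_lit 21), Mv.f (nat_lit 28), Mv.f (nat_lit 34), Mv.f (nat_lit 177), Mv.f (nat_lit 178), Mv.f (nat_lit 168), Mv.f (nat_lit 169), Mv.f (nat_lit 170), Mv.f (nat_lit 171), Mv.f (nat_lit 260), Mv.f (nat_lit 266), Mv.f (nat_lit 264), Mv.f (nat_lit 261), Mv.f (nat_lit 262), Mv.f (nat_lit 263), Mv.b (nat_lit 442), Mv.f (nat_lit 443), Mv.f (nat_lit 444), Mv.f (nat_lit 466), Mv.f (nat_lit 467)])))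
(Tr.lf (Fc.ed (nat_lit 469) (nat_lit 121) Col.h (nat_lit 135) (Dv.wd (nat_lit 16) [Mv.b (nat_lit 468), Mv.b (nat_lit 466), Mv.b (nat_lit 441)])))))))
(Tr.nd (nat_lit 475) (Tr.nd (nat_lit 472) (Tr.nd (nat_lit 471) (Tr.lf (Fc.ed (nat_lit 470) (nat_lit 131) Col.d (nat_lit 137) Dv.df))
(Tr.lf (Fc.ed (nat_lit 471) (nat_lit 137) Col.e (nat_lit 134) (Dv.wd (nat_lit 47) [Mv.b (nat_lit 463), Mv.b (nat_lit 292), Mv.b (nat_lit 283), Mv.f (nat_lit 452), Mv.f (nat_lit 470)]))))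
(Tr.nd (nat_lit 473) (Tr.lf (Fc.ed (nat_lit 472) (nat_lit 125) Col.b (nat_lit 138) Dv.df))
(Tr.nd (nat_lit 474) (Tr.lf (Fc.ed (nat_lit 473) (nat_lit 138) Col.f (nat_lit 115) (Dv.wd (nat_lit 15) [Mv.f (nat_lit 398), Mv.b (nat_lit 433), Mv.f (nat_lit 472)])))
(Tr.lf (Fc.ed (nat_lit 474) (nat_lit 138) Col.h (nat_lit 138) (Dv.wd (nat_lit 16) [Mv.b (nat_lit 472), Mv.f (nat_lit 434), Mv.f (nat_lit 472)]))))))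
(Tr.nd (nat_lit 477) (Tr.nd (nat_lit 476) (Tr.lf (Fc.ed (nat_lit 475) (nat_lit 138) Col.a (nat_lit 138) (Dv.wd (nat_lit 18) [Mv.b (nat_lit 472), Mv.b (nat_lit 431), Mv.f (nat_lit 379), Mv.f (nat_lit 431), Mv.f (nat_lit 472)])))
(Tr.lf (Fc.ed (nat_lit 476) (nat_lit 38) Col.f (nat_lit 139) Dv.df)))
(Tr.nd (nat_lit 478) (Tr.lf (Fc.ed (nat_lit 477) (nat_lit 139) Col.d (nat_lit 139) (Dv.wd (nat_lit 54) [Mv.b (nat_lit 476), Mv.f (nat_lit 162), Mv.f (nat_lit 476)])))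
(Tr.nd (nat_lit 479) (Tr.lf (Fc.ed (nat_lit 478) (nat_lit 130) Col.f (nat_lit 140) Dv.df))
(Tr.lf (Fc.ed (nat_lit 479) (nat_lit 140) Col.b (nat_lit 140) (Dv.wd (nat_lit 56) [Mv.b (nat_lit 478), Mv.f (nat_lit 450), Mv.f (nat_lit 478)])))))))))
(Tr.nd (nat_lit 498) (Tr.nd (nat_lit 489) (Tr.nd (nat_lit 484) (Tr.nd (nat_lit 482) (Tr.nd (nat_lit 481) (Tr.lf (Fc.ed (nat_lit 480) (nat_lit 140) Col.e (nat_lit 139) (Dv.wd (nat_lit 77) [Mv.b (nat_lit 476), Mv.f (nat_lit 161), Mv.b (nat_lit 154), Mv.f (nat_lit 449), Mv.f (nat_lit 478)])))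
(Tr.lf (Fc.ed (nat_lit 481) (nat_lit 135) Col.i (nat_lit 141) Dv.df)))
(Tr.nd (nat_lit 483) (Tr.lf (Fc.ed (nat_lit 482) (nat_lit 141) Col.c (nat_lit 101) (Dv.wd (nat_lit 43) [Mv.b (nat_lit 403), Mv.f (nat_lit 464), Mv.f (nat_lit 481)])))
(Tr.lf (Fc.ed (nat_lit 483) (nat_lit 141) Col.d (nat_lit 141) (Dv.wd (nat_lit 44) [Mv.b (nat_lit 481), Mv.f (nat_lit 465), Mv.f (nat_lit 481)])))))
(Tr.nd (nat_lit 486) (Tr.nd (nat_lit 485) (Tr.lf (Fc.ed (nat_lit 484) (nat_lit 133) Col.d (nat_lit 142) Dv.df))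
(Tr.lf (Fc.ed (nat_lit 485) (nat_lit 142) Col.b (nat_lit 142) (Dv.wd (nat_lit 26) [Mv.b (nat_lit 484), Mv.f (nat_lit 458), Mv.f (nat_lit 484)]))))
(Tr.nd (nat_lit 487) (Tr.lf (Fc.ed (nat_lit 486) (nat_lit 142) Col.f (nat_lit 142) (Dv.wd (nat_lit 27) [Mv.b (nat_lit 484), Mv.f (nat_lit 461), Mv.f (nat_lit 484)])))
(Tr.nd (nat_lit 488) (Tr.lf (Fc.ed (nat_lit 487) (nat_lit 142) Col.e (nat_lit 142) (Dv.wd (nat_lit 47) [Mv.b (nat_lit 484), Mv.f (nat_lit 460), Mv.f (nat_lit 318), Mv.b (nat_lit 460), Mv.f (nat_lit 484)])))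
(Tr.lf (Fc.ed (nat_lit 488) (nat_lit 105) Col.b (nat_lit 143) Dv.df))))))
(Tr.nd (nat_lit 493) (Tr.nd (nat_lit 491) (Tr.nd (nat_lit 490) (Tr.lf (Fc.ed (nat_lit 489) (nat_lit 143) Col.f (nat_lit 124) (Dv.wd (nat_lit 15) [Mv.f (nat_lit 429), Mv.b (nat_lit 353), Mv.f (nat_lit 488)])))
(Tr.lf (Fc.ed (nat_lit 490) (nat_lit 143) Col.h (nat_lit 143) (Dv.wd (nat_lit 16) [Mv.b (nat_lit 488), Mv.f (nat_lit 354), Mv.f (nat_lit 488)]))))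
(Tr.nd (nat_lit 492) (Tr.lf (Fc.ed (nat_lit 491) (nat_lit 143) Col.a (nat_lit 143) (Dv.wd (nat_lit 18) [Mv.b (nat_lit 488), Mv.b (nat_lit 351), Mv.f (nat_lit 341), Mv.f (nat_lit 351), Mv.f (nat_lit 488)])))
(Tr.lf (Fc.ed (nat_lit 492) (nat_lit 130) Col.d (nat_lit 144) Dv.df))))
(Tr.nd (nat_lit 495) (Tr.nd (nat_lit 494) (Tr.lf (Fc.ed (nat_lit 493) (nat_lit 144) Col.i (nat_lit 137) (Dv.wd (nat_lit 28) [Mv.b (nat_lit 470), Mv.f (nat_lit 453), Mv.f (nat_lit 492)])))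
(Tr.lf (Fc.ed (nat_lit 494) (nat_lit 128) Col.a (nat_lit 145) Dv.df)))
(Tr.nd (nat_lit 496) (Tr.lf (Fc.ed (nat_lit 495) (nat_lit 145) Col.d (nat_lit 126) (Dv.wd (nat_lit 8) [Mv.f (nat_lit 436), Mv.f (nat_lit 446), Mv.f (nat_lit 494)])))
(Tr.nd (nat_lit 497) (Tr.lf (Fc.ed (nat_lit 496) (nat_lit 142) Col.i (nat_lit 145) (Dv.wd (nat_lit 108) [Mv.f (nat_lit 495), Mv.f (nat_lit 456), Mv.f (nat_lit 484)])))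
(Tr.lf (Fc.ed (nat_lit 497) (nat_lit 142) Col.c (nat_lit 146) Dv.df)))))))
(Tr.nd (nat_lit 507) (Tr.nd (nat_lit 502) (Tr.nd (nat_lit 500) (Tr.nd (nat_lit 499) (Tr.lf (Fc.ed (nat_lit 498) (nat_lit 146) Col.e (nat_lit 146) (Dv.wd (nat_lit 20) [Mv.b (nat_lit 497), Mv.f (nat_lit 487), Mv.f (nat_lit 497)])))
(Tr.lf (Fc.ed (nat_lit 499) (nat_lit 146) Col.f (nat_lit 146) (Dv.wd (nat_lit 21) [Mv.b (nat_lit 497), Mv.f (nat_lit 486), Mv.f (nat_lit 497)]))))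
(Tr.nd (nat_lit 501) (Tr.lf (Fc.ed (nat_lit 500) (nat_lit 146) Col.d (nat_lit 146) (Dv.wd (nat_lit 39) [Mv.b (nat_lit 497), Mv.b (nat_lit 484), Mv.f (nat_lit 459), Mv.f (nat_lit 484), Mv.f (nat_lit 497)])))
(Tr.lf (Fc.ed (nat_lit 501) (nat_lit 140) Col.d (nat_lit 147) Dv.df))))
(Tr.nd (nat_lit 504) (Tr.nd (nat_lit 503) (Tr.lf (Fc.ed (nat_lit 502) (nat_lit 147) Col.b (nat_lit 147) (Dv.wd (nat_lit 26) [Mv.b (nat_lit 501), Mv.f (nat_lit 479), Mv.f (nat_lit 501)])))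
(Tr.lf (Fc.ed (nat_lit 503) (nat_lit 147) Col.f (nat_lit 144) (Dv.wd (nat_lit 27) [Mv.b (nat_lit 492), Mv.f (nat_lit 478), Mv.f (nat_lit 501)]))))
(Tr.nd (nat_lit 505) (Tr.lf (Fc.ed (nat_lit 504) (nat_lit 147) Col.e (nat_lit 147) (Dv.wd (nat_lit 47) [Mv.b (nat_lit 501), Mv.f (nat_lit 480), Mv.f (nat_lit 477), Mv.b (nat_lit 480), Mv.f (nat_lit 501)])))
(Tr.nd (nat_lit 506) (Tr.lf (Fc.ed (nat_lit 505) (nat_lit 146) Col.i (nat_lit 148) Dv.df))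
(Tr.lf (Fc.ed (nat_lit 506) (nat_lit 148) Col.c (nat_lit 145) (Dv.wd (nat_lit 43) [Mv.b (nat_lit 496), Mv.f (nat_lit 497), Mv.f (nat_lit 505)])))))))
(Tr.nd (nat_lit 512) (Tr.nd (nat_lit 509) (Tr.nd (nat_lit 508) (Tr.lf (Fc.ed (nat_lit 507) (nat_lit 148) Col.d (nat_lit 148) (Dv.wd (nat_lit 44) [Mv.b (nat_lit 505), Mv.f (nat_lit 500), Mv.f (nat_lit 505)])))
(Tr.lf (Fc.ed (nat_lit 508) (nat_lit 148) Col.e (nat_lit 148) (Dv.wd (nat_lit 50) [Mv.b (nat_lit 505), Mv.f (nat_lit 498), Mv.f (nat_lit 505)]))))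
(Tr.nd (nat_lit 510) (Tr.lf (Fc.ed (nat_lit 509) (nat_lit 148) Col.f (nat_lit 148) (Dv.wd (nat_lit 72) [Mv.b (nat_lit 505), Mv.f (nat_lit 499), Mv.f (nat_lit 505)])))
(Tr.nd (nat_lit 511) (Tr.lf (Fc.ed (nat_lit 510) (nat_lit 147) Col.h (nat_lit 149) Dv.df))
(Tr.lf (Fc.ed (nat_lit 511) (nat_lit 149) Col.b (nat_lit 149) (Dv.wd (nat_lit 36) [Mv.b (nat_lit 510), Mv.f (nat_lit 502), Mv.f (nat_lit 510)]))))))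
(Tr.nd (nat_lit 514) (Tr.nd (nat_lit 513) (Tr.lf (Fc.ed (nat_lit 512) (nat_lit 149) Col.e (nat_lit 149) (Dv.wd (nat_lit 48) [Mv.b (nat_lit 510), Mv.f (nat_lit 504), Mv.f (nat_lit 510)])))
(Tr.lf (Fc.ed (nat_lit 513) (nat_lit 148) Col.h (nat_lit 150) Dv.df)))
(Tr.nd (nat_lit 515) (Tr.lf (Fc.ed (nat_lit 514) (nat_lit 150) Col.e (nat_lit 150) (Dv.wd (nat_lit 48) [Mv.b (nat_lit 513), Mv.f (nat_lit 508), Mv.f (nat_lit 513)])))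
(Tr.nd (nat_lit 516) (Tr.lf (Fc.ed (nat_lit 515) (nat_lit 150) Col.f (nat_lit 150) (Dv.wd (nat_lit 70) [Mv.b (nat_lit 513), Mv.f (nat_lit 509), Mv.f (nat_lit 513)])))
(Tr.lf (Fc.ed (nat_lit 516) (nat_lit 150) Col.d (nat_lit 151) Dv.df)))))))))
(Tr.nd (nat_lit 554) (Tr.nd (nat_lit 535) (Tr.nd (nat_lit 526) (Tr.nd (nat_lit 521) (Tr.nd (nat_lit 519) (Tr.nd (nat_lit 518) (Tr.lf (Fc.ed (nat_lit 517) (nat_lit 151) Col.f (nat_lit 151) (Dv.wd (nat_lit 27) [Mv.b (nat_lit 516), Mv.f (nat_lit 515), Mv.f (nat_lit 516)])))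
(Tr.lf (Fc.ed (nat_lit 518) (nat_lit 151) Col.h (nat_lit 151) (Dv.wd (nat_lit 38) [Mv.b (nat_lit 516), Mv.b (nat_lit 513), Mv.f (nat_lit 507), Mv.f (nat_lit 513), Mv.f (nat_lit 516)]))))
(Tr.nd (nat_lit 520) (Tr.lf (Fc.ed (nat_lit 519) (nat_lit 151) Col.e (nat_lit 152) Dv.df))
(Tr.lf (Fc.ed (nat_lit 520) (nat_lit 152) Col.h (nat_lit 152) (Dv.wd (nat_lit 46) [Mv.b (nat_lit 519), Mv.f (nat_lit 518), Mv.f (nat_lit 519)])))))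
(Tr.nd (nat_lit 523) (Tr.nd (nat_lit 522) (Tr.lf (Fc.ed (nat_lit 521) (nat_lit 152) Col.d (nat_lit 152) (Dv.wd (nat_lit 34) [Mv.b (nat_lit 519), Mv.b (nat_lit 516), Mv.f (nat_lit 514), Mv.f (nat_lit 516), Mv.f (nat_lit 519)])))
(Tr.lf (Fc.ed (nat_lit 522) (nat_lit 152) Col.b (nat_lit 153) Dv.df)))
(Tr.nd (nat_lit 524) (Tr.lf (Fc.ed (nat_lit 523) (nat_lit 153) Col.h (nat_lit 153) (Dv.wd (nat_lit 16) [Mv.b (nat_lit 522), Mv.f (nat_lit 520), Mv.f (nat_lit 522)])))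
(Tr.nd (nat_lit 525) (Tr.lf (Fc.ed (nat_lit 524) (nat_lit 129) Col.d (nat_lit 154) Dv.df))
(Tr.lf (Fc.ed (nat_lit 525) (nat_lit 154) Col.i (nat_lit 154) (Dv.wd (nat_lit 28) [Mv.b (nat_lit 524), Mv.f (nat_lit 448), Mv.f (nat_lit 524)])))))))
(Tr.nd (nat_lit 530) (Tr.nd (nat_lit 528) (Tr.nd (nat_lit 527) (Tr.lf (Fc.ed (nat_lit 526) (nat_lit 154) Col.e (nat_lit 154) (Dv.wd (nat_lit 47) [Mv.b (nat_lit 524), Mv.b (nat_lit 447), Mv.f (nat_lit 135), Mv.f (nat_lit 447), Mv.f (nat_lit 524)])))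
(Tr.lf (Fc.ed (nat_lit 527) (nat_lit 149) Col.i (nat_lit 155) Dv.df)))
(Tr.nd (nat_lit 529) (Tr.lf (Fc.ed (nat_lit 528) (nat_lit 155) Col.b (nat_lit 155) (Dv.wd (nat_lit 42) [Mv.b (nat_lit 527), Mv.f (nat_lit 511), Mv.f (nat_lit 527)])))
(Tr.lf (Fc.ed (nat_lit 529) (nat_lit 155) Col.e (nat_lit 155) (Dv.wd (nat_lit 50) [Mv.b (nat_lit 527), Mv.f (nat_lit 512), Mv.f (nat_lit 527)])))))
(Tr.nd (nat_lit 532) (Tr.nd (nat_lit 531) (Tr.lf (Fc.ed (nat_lit 530) (nat_lit 153) Col.c (nat_lit 156) Dv.df))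
(Tr.lf (Fc.ed (nat_lit 531) (nat_lit 156) Col.h (nat_lit 156) (Dv.wd (nat_lit 22) [Mv.b (nat_lit 530), Mv.f (nat_lit 523), Mv.f (nat_lit 530)]))))
(Tr.nd (nat_lit 533) (Tr.lf (Fc.ed (nat_lit 532) (nat_lit 145) Col.h (nat_lit 157) Dv.df))
(Tr.nd (nat_lit 534) (Tr.lf (Fc.ed (nat_lit 533) (nat_lit 157) Col.c (nat_lit 150) (Dv.wd (nat_lit 37) [Mv.b (nat_lit 513), Mv.f (nat_lit 506), Mv.f (nat_lit 532)])))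
(Tr.lf (Fc.ed (nat_lit 534) (nat_lit 157) Col.d (nat_lit 157) (Dv.wd (nat_lit 49) [Mv.b (nat_lit 532), Mv.f (nat_lit 495), Mv.f (nat_lit 439), Mv.b (nat_lit 495), Mv.f (nat_lit 532)]))))))))
(Tr.nd (nat_lit 544) (Tr.nd (nat_lit 539) (Tr.nd (nat_lit 537) (Tr.nd (nat_lit 536) (Tr.lf (Fc.ed (nat_lit 535) (nat_lit 151) Col.c (nat_lit 151) (Dv.wd (nat_lit 64) [Mv.b (nat_lit 516), Mv.b (nat_lit 533), Mv.f (nat_lit 534), Mv.f (nat_lit 533), Mv.f (nat_lit 516)])))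
(Tr.lf (Fc.ed (nat_lit 536) (nat_lit 152) Col.c (nat_lit 152) (Dv.wd (nat_lit 109) [Mv.b (nat_lit 519), Mv.f (nat_lit 535), Mv.f (nat_lit 519)]))))
(Tr.nd (nat_lit 538) (Tr.lf (Fc.ed (nat_lit 537) (nat_lit 156) Col.b (nat_lit 156) (Dv.wd (nat_lit 67) [Mv.b (nat_lit 530), Mv.b (nat_lit 522), Mv.f (nat_lit 536), Mv.f (nat_lit 522), Mv.f (nat_lit 530)])))
(Tr.lf (Fc.ed (nat_lit 538) (nat_lit 155) Col.d (nat_lit 158) Dv.df))))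
(Tr.nd (nat_lit 541) (Tr.nd (nat_lit 540) (Tr.lf (Fc.ed (nat_lit 539) (nat_lit 158) Col.b (nat_lit 158) (Dv.wd (nat_lit 26) [Mv.b (nat_lit 538), Mv.f (nat_lit 528), Mv.f (nat_lit 538)])))
(Tr.lf (Fc.ed (nat_lit 540) (nat_lit 156) Col.d (nat_lit 159) Dv.df)))
(Tr.nd (nat_lit 542) (Tr.lf (Fc.ed (nat_lit 541) (nat_lit 159) Col.b (nat_lit 159) (Dv.wd (nat_lit 26) [Mv.b (nat_lit 540), Mv.f (nat_lit 537), Mv.f (nat_lit 540)])))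
(Tr.nd (nat_lit 543) (Tr.lf (Fc.ed (nat_lit 542) (nat_lit 154) Col.h (nat_lit 160) Dv.df))
(Tr.lf (Fc.ed (nat_lit 543) (nat_lit 160) Col.e (nat_lit 160) (Dv.wd (nat_lit 48) [Mv.b (nat_lit 542), Mv.f (nat_lit 526), Mv.f (nat_lit 542)])))))))
(Tr.nd (nat_lit 549) (Tr.nd (nat_lit 546) (Tr.nd (nat_lit 545) (Tr.lf (Fc.ed (nat_lit 544) (nat_lit 159) Col.i (nat_lit 161) Dv.df))
(Tr.lf (Fc.ed (nat_lit 545) (nat_lit 161) Col.b (nat_lit 161) (Dv.wd (nat_lit 42) [Mv.b (nat_lit 544), Mv.f (nat_lit 541), Mv.f (nat_lit 544)]))))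
(Tr.nd (nat_lit 547) (Tr.lf (Fc.ed (nat_lit 546) (nat_lit 158) Col.c (nat_lit 162) Dv.df))
(Tr.nd (nat_lit 548) (Tr.lf (Fc.ed (nat_lit 547) (nat_lit 162) Col.b (nat_lit 163) Dv.df))
(Tr.lf (Fc.ed (nat_lit 548) (nat_lit 163) Col.c (nat_lit 163) (Dv.wd (nat_lit 40) [Mv.b (nat_lit 547), Mv.b (nat_lit 546), Mv.f (nat_lit 539), Mv.f (nat_lit 546), Mv.f (nat_lit 547)]))))))
(Tr.nd (nat_lit 551) (Tr.nd (nat_lit 550) (Tr.lf (Fc.ed (nat_lit 549) (nat_lit 160) Col.d (nat_lit 164) Dv.df))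
(Tr.lf (Fc.ed (nat_lit 550) (nat_lit 164) Col.h (nat_lit 144) (Dv.wd (nat_lit 38) [Mv.b (nat_lit 492), Mv.f (nat_lit 451), Mv.f (nat_lit 524), Mv.f (nat_lit 542), Mv.f (nat_lit 549)]))))
(Tr.nd (nat_lit 552) (Tr.lf (Fc.ed (nat_lit 551) (nat_lit 149) Col.f (nat_lit 164) (Dv.wd (nat_lit 58) [Mv.f (nat_lit 550), Mv.b (nat_lit 503), Mv.f (nat_lit 510)])))
(Tr.nd (nat_lit 553) (Tr.lf (Fc.ed (nat_lit 552) (nat_lit 164) Col.i (nat_lit 165) Dv.df))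
(Tr.lf (Fc.ed (nat_lit 553) (nat_lit 165) Col.f (nat_lit 155) (Dv.wd (nat_lit 72) [Mv.b (nat_lit 527), Mv.f (nat_lit 551), Mv.f (nat_lit 552)])))))))))
(Tr.nd (nat_lit 572) (Tr.nd (nat_lit 563) (Tr.nd (nat_lit 558) (Tr.nd (nat_lit 556) (Tr.nd (nat_lit 555) (Tr.lf (Fc.ed (nat_lit 554) (nat_lit 161) Col.h (nat_lit 166) Dv.df))
(Tr.lf (Fc.ed (nat_lit 555) (nat_lit 166) Col.b (nat_lit 166) (Dv.wd (nat_lit 36) [Mv.b (nat_lit 554), Mv.f (nat_lit 545), Mv.f (nat_lit 554)]))))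
(Tr.nd (nat_lit 557) (Tr.lf (Fc.ed (nat_lit 556) (nat_lit 166) Col.d (nat_lit 167) Dv.df))
(Tr.lf (Fc.ed (nat_lit 557) (nat_lit 167) Col.b (nat_lit 167) (Dv.wd (nat_lit 26) [Mv.b (nat_lit 556), Mv.f (nat_lit 555), Mv.f (nat_lit 556)])))))
(Tr.nd (nat_lit 560) (Tr.nd (nat_lit 559) (Tr.lf (Fc.ed (nat_lit 558) (nat_lit 167) Col.f (nat_lit 168) Dv.df))
(Tr.lf (Fc.ed (nat_lit 559) (nat_lit 168) Col.b (nat_lit 168) (Dv.wd (nat_lit 56) [Mv.b (nat_lit 558), Mv.f (nat_lit 557), Mv.f (nat_lit 558)]))))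
(Tr.nd (nat_lit 561) (Tr.lf (Fc.ed (nat_lit 560) (nat_lit 168) Col.e (nat_lit 169) Dv.df))
(Tr.nd (nat_lit 562) (Tr.lf (Fc.ed (nat_lit 561) (nat_lit 169) Col.b (nat_lit 169) (Dv.wd (nat_lit 31) [Mv.b (nat_lit 560), Mv.f (nat_lit 559), Mv.f (nat_lit 560)])))
(Tr.lf (Fc.ed (nat_lit 562) (nat_lit 169) Col.d (nat_lit 163) (Dv.wd (nat_lit 110) [Mv.b (nat_lit 547), Mv.b (nat_lit 546), Mv.b (nat_lit 538), Mv.b (nat_lit 527), Mv.b (nat_lit 510), Mv.b (nat_lit 501), Mv.b (nat_lit 478), Mv.b (nat_lit 449), Mv.b (nat_lit 176), Mv.f (nat_lit 174), Mv.f (nat_lit 175), Mv.f (nat_lit 150), Mv.f (nat_lit 181), Mv.b (nat_lit 220), Mv.b (nat_lit 411), Mv.b (nat_lit 412), Mv.f (nat_lit 397), Mv.f (nat_lit 399), Mv.f (nat_lit 398), Mv.b (nat_lit 73), Mv.b (nat_lit 69), Mv.f (nat_lit 68), Mv.b (nat_lit 65), Mv.f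 (nat_lit 64), Mv.b (nat_lit 141), Mv.f (nat_lit 227), Mv.f (nat_lit 342), Mv.f (nat_lit 343), Mv.b (nat_lit 482), Mv.f (nat_lit 483), Mv.b (nat_lit 481), Mv.b (nat_lit 469), Mv.b (nat_lit 419), Mv.f (nat_lit 143), Mv.b (nat_lit 142), Mv.f (nat_lit 106), Mv.b (nat_lit 109), Mv.f (nat_lit 155), Mv.b (nat_lit 171), Mv.f (nat_lit 328), Mv.f (nat_lit 330), Mv.f (nat_lit 329), Mv.f (nat_lit 233), Mv.f (nat_lit 224), Mv.f (nat_lit 277), Mv.f (nat_lit 278), Mv.f (nat_lit 280), Mv.b (nat_lit 277), Mv.f (nat_lit 225), Mv.f (nat_lit 47), Mv.b (nat_lit 44), Mv.f (nat_lit 167), Mv.f (nat_lit 172), Mv.f (nat_lit 171), Mv.f (nat_lit 159), Mv.b (nat_lit 155), Mv.f (nat_lit 110), Mv.b (nat_lit 201), Mv.f (nat_lit 293), Mv.b (nat_lit 427), Mv.b (nat_lit 426), Mv.f (nat_lit 428), Mv.f (nat_lit 430), Mv.f (nat_lit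 429), Mv.f (nat_lit 307), Mv.f (nat_lit 269), Mv.f (nat_lit 271), Mv.b (nat_lit 286), Mv.f (nat_lit 285), Mv.f (nat_lit 316), Mv.b (nat_lit 460), Mv.f (nat_lit 484), Mv.f (nat_lit 485), Mv.f (nat_lit 497), Mv.f (nat_lit 500), Mv.f (nat_lit 505), Mv.f (nat_lit 513), Mv.f (nat_lit 516), Mv.f (nat_lit 517), Mv.f (nat_lit 519), Mv.f (nat_lit 521), Mv.f (nat_lit 522), Mv.f (nat_lit 530), Mv.f (nat_lit 540), Mv.f (nat_lit 544), Mv.f (nat_lit 554), Mv.f (nat_lit 556), Mv.f (nat_lit 558), Mv.f (nat_lit 560)])))))))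
(Tr.nd (nat_lit 567) (Tr.nd (nat_lit 565) (Tr.nd (nat_lit 564) (Tr.lf (Fc.al (nat_lit 563) (nat_lit 162) (nat_lit 163) (Dv.wd (nat_lit 13) [Mv.b (nat_lit 562), Mv.f (nat_lit 561), Mv.f (nat_lit 562), Mv.b (nat_lit 547)])))
(Tr.lf (Fc.al (nat_lit 564) (nat_lit 158) (nat_lit 162) (Dv.wd (nat_lit 111) [Mv.f (nat_lit 563), Mv.f (nat_lit 548), Mv.b (nat_lit 563), Mv.b (nat_lit 546)]))))
(Tr.nd (nat_lit 566) (Tr.lf (Fc.al (nat_lit 565) (nat_lit 155) (nat_lit 169) (Dv.wd (nat_lit 112) [Mv.f (nat_lit 562), Mv.b (nat_lit 563), Mv.b (nat_lit 564), Mv.b (nat_lit 538)])))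
(Tr.lf (Fc.al (nat_lit 566) (nat_lit 155) (nat_lit 168) (Dv.wd (nat_lit 113) [Mv.f (nat_lit 560), Mv.b (nat_lit 565), Mv.f (nat_lit 529)])))))
(Tr.nd (nat_lit 569) (Tr.nd (nat_lit 568) (Tr.lf (Fc.al (nat_lit 567) (nat_lit 165) (nat_lit 167) (Dv.wd (nat_lit 94) [Mv.f (nat_lit 558), Mv.b (nat_lit 566), Mv.b (nat_lit 553)])))
(Tr.lf (Fc.ed (nat_lit 568) (nat_lit 165) Col.d (nat_lit 166) (Dv.wd (nat_lit 112) [Mv.f (nat_lit 556), Mv.b (nat_lit 567)]))))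
(Tr.nd (nat_lit 570) (Tr.lf (Fc.ed (nat_lit 569) (nat_lit 166) Col.i (nat_lit 160) (Dv.wd (nat_lit 28) [Mv.f (nat_lit 549), Mv.f (nat_lit 552), Mv.f (nat_lit 568)])))
(Tr.nd (nat_lit 571) (Tr.lf (Fc.al (nat_lit 570) (nat_lit 161) (nat_lit 166) (Dv.wd (nat_lit 114) [Mv.f (nat_lit 569), Mv.b (nat_lit 542), Mv.f (nat_lit 525), Mv.f (nat_lit 542), Mv.b (nat_lit 569), Mv.b (nat_lit 554)])))
(Tr.lf (Fc.ed (nat_lit 571) (nat_lit 161) Col.d (nat_lit 165) (Dv.wd (nat_lit 112) [Mv.f (nat_lit 568), Mv.b (nat_lit 570)]))))))))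
(Tr.nd (nat_lit 581) (Tr.nd (nat_lit 576) (Tr.nd (nat_lit 574) (Tr.nd (nat_lit 573) (Tr.lf (Fc.al (nat_lit 572) (nat_lit 159) (nat_lit 160) (Dv.wd (nat_lit 95) [Mv.b (nat_lit 569), Mv.b (nat_lit 570), Mv.b (nat_lit 544)])))
(Tr.lf (Fc.al (nat_lit 573) (nat_lit 156) (nat_lit 164) (Dv.wd (nat_lit 112) [Mv.b (nat_lit 549), Mv.b (nat_lit 572), Mv.b (nat_lit 540)]))))
(Tr.nd (nat_lit 575) (Tr.lf (Fc.ed (nat_lit 574) (nat_lit 159) Col.e (nat_lit 159) (Dv.wd (nat_lit 113) [Mv.f (nat_lit 572), Mv.f (nat_lit 543), Mv.b (nat_lit 572)])))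
(Tr.lf (Fc.al (nat_lit 575) (nat_lit 156) (nat_lit 144) (Dv.wd (nat_lit 115) [Mv.b (nat_lit 550), Mv.b (nat_lit 573), Mv.f (nat_lit 531)])))))
(Tr.nd (nat_lit 578) (Tr.nd (nat_lit 577) (Tr.lf (Fc.al (nat_lit 576) (nat_lit 137) (nat_lit 165) (Dv.wd (nat_lit 95) [Mv.b (nat_lit 552), Mv.b (nat_lit 573), Mv.f (nat_lit 575), Mv.f (nat_lit 493)])))
(Tr.lf (Fc.al (nat_lit 577) (nat_lit 130) (nat_lit 159) (Dv.wd (nat_lit 112) [Mv.b (nat_lit 540), Mv.f (nat_lit 575), Mv.b (nat_lit 492)]))))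
(Tr.nd (nat_lit 579) (Tr.lf (Fc.al (nat_lit 578) (nat_lit 131) (nat_lit 161) (Dv.wd (nat_lit 112) [Mv.f (nat_lit 571), Mv.b (nat_lit 576), Mv.b (nat_lit 470)])))
(Tr.nd (nat_lit 580) (Tr.lf (Fc.al (nat_lit 579) (nat_lit 36) (nat_lit 130) (Dv.wd (nat_lit 113) [Mv.f (nat_lit 577), Mv.f (nat_lit 574), Mv.b (nat_lit 577), Mv.b (nat_lit 449)])))
(Tr.lf (Fc.al (nat_lit 580) (nat_lit 78) (nat_lit 131) (Dv.wd (nat_lit 95) [Mv.f (nat_lit 578), Mv.b (nat_lit 544), Mv.b (nat_lit 577), Mv.b (nat_lit 579), Mv.f (nat_lit 282)])))))))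
(Tr.nd (nat_lit 586) (Tr.nd (nat_lit 583) (Tr.nd (nat_lit 582) (Tr.lf (Fc.al (nat_lit 581) (nat_lit 58) (nat_lit 137) (Dv.wd (nat_lit 112) [Mv.b (nat_lit 470), Mv.b (nat_lit 580), Mv.f (nat_lit 283)])))
(Tr.lf (Fc.al (nat_lit 582) (nat_lit 81) (nat_lit 134) (Dv.wd (nat_lit 113) [Mv.b (nat_lit 471), Mv.b (nat_lit 581), Mv.f (nat_lit 292)]))))
(Tr.nd (nat_lit 584) (Tr.lf (Fc.ed (nat_lit 583) (nat_lit 81) Col.d (nat_lit 81) (Dv.wd (nat_lit 112) [Mv.f (nat_lit 463), Mv.b (nat_lit 582)])))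
(Tr.nd (nat_lit 585) (Tr.lf (Fc.al (nat_lit 584) (nat_lit 86) (nat_lit 81) (Dv.wd (nat_lit 116) [Mv.f (nat_lit 583), Mv.b (nat_lit 405), Mv.f (nat_lit 423), Mv.b (nat_lit 457), Mv.b (nat_lit 462), Mv.f (nat_lit 455), Mv.b (nat_lit 454), Mv.b (nat_lit 335), Mv.b (nat_lit 352), Mv.f (nat_lit 488), Mv.f (nat_lit 491), Mv.f (nat_lit 490), Mv.f (nat_lit 489), Mv.b (nat_lit 428), Mv.b (nat_lit 374), Mv.f (nat_lit 287), Mv.f (nat_lit 290), Mv.f (nat_lit 288), Mv.f (nat_lit 289), Mv.b (nat_lit 233), Mv.f (nat_lit 302), Mv.f (nat_lit 305), Mv.f (nat_lit 303), Mv.f (nat_lit 298), Mv.b (nat_lit 243), Mv.b (nat_lit 345), Mv.f (nat_lit 346), Mv.b (nat_lit 344), Mv.b (nat_lit 409), Mv.b (nat_lit 432), Mv.f (nat_lit 472), Mv.f (nat_lit 475), Mv.f (nat_lit 474), Mv.f (nat_lit 473), Mv.b (nat_lit 397), Mv.f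 (nat_lit 363), Mv.b (nat_lit 249), Mv.f (nat_lit 248), Mv.f (nat_lit 382), Mv.b (nat_lit 247), Mv.f (nat_lit 221), Mv.f (nat_lit 292), Mv.f (nat_lit 583), Mv.b (nat_lit 405), Mv.f (nat_lit 423), Mv.b (nat_lit 457), Mv.b (nat_lit 462), Mv.f (nat_lit 455), Mv.b (nat_lit 454), Mv.b (nat_lit 335), Mv.b (nat_lit 352), Mv.f (nat_lit 488), Mv.f (nat_lit 491), Mv.f (nat_lit 490), Mv.f (nat_lit 489), Mv.b (nat_lit 428), Mv.b (nat_lit 374), Mv.f (nat_lit 287), Mv.f (nat_lit 290), Mv.f (nat_lit 288), Mv.f (nat_lit 289), Mv.b (nat_lit 233), Mv.f (nat_lit 302)])))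
(Tr.lf (Fc.al (nat_lit 585) (nat_lit 117) (nat_lit 84) (Dv.wd (nat_lit 111) [Mv.b (nat_lit 303), Mv.f (nat_lit 584), Mv.b (nat_lit 405)]))))))
(Tr.nd (nat_lit 588) (Tr.nd (nat_lit 587) (Tr.lf (Fc.al (nat_lit 586) (nat_lit 66) (nat_lit 122) (Dv.wd (nat_lit 117) [Mv.b (nat_lit 423), Mv.f (nat_lit 585), Mv.f (nat_lit 298)])))
(Tr.lf (Fc.al (nat_lit 587) (nat_lit 40) (nat_lit 31) (Dv.wd (nat_lit 113) [Mv.b (nat_lit 424), Mv.b (nat_lit 586), Mv.f (nat_lit 244)]))))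
(Tr.nd (nat_lit 589) (Tr.lf (Fc.al (nat_lit 588) (nat_lit 17) (nat_lit 50) (Dv.wd (nat_lit 94) [Mv.b (nat_lit 196), Mv.f (nat_lit 587), Mv.f (nat_lit 137)])))
(Tr.nd (nat_lit 590) (Tr.lf (Fc.al (nat_lit 589) (nat_lit 18) (nat_lit 9) (Dv.wd (nat_lit 95) [Mv.b (nat_lit 199), Mv.b (nat_lit 588), Mv.f (nat_lit 86)])))
(Tr.lf (Fc.ed (nat_lit 590) (nat_lit 9) Col.i (nat_lit 17) (Dv.wd (nat_lit 95) [Mv.f (nat_lit 86), Mv.f (nat_lit 589)])))))))))))))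
noncomputable def mini0A : Tr (Alt Col) := (Tr.nd (nat_lit 59) (Tr.nd (nat_lit 29) (Tr.nd (nat_lit 14) (Tr.nd (nat_lit 7) (Tr.nd (nat_lit 3) (Tr.nd (nat_lit 1) (Tr.lf (Alt.base (nat_lit 0) [] [Col.b]))
(Tr.nd (nat_lit 2) (Tr.lf (Alt.base (nat_lit 1) [] [Col.c]))
(Tr.lf (Alt.base (nat_lit 2) [] [Col.d]))))
(Tr.nd (nat_lit 5) (Tr.nd (nat_lit 4) (Tr.lf (Alt.base (nat_lit 3) [] [Col.e]))
(Tr.lf (Alt.base (nat_lit 4) [] [Col.f])))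
(Tr.nd (nat_lit 6) (Tr.lf (Alt.base (nat_lit 6) [] [Col.h]))
(Tr.lf (Alt.base (nat_lit 7) [] [Col.i])))))
(Tr.nd (nat_lit 10) (Tr.nd (nat_lit 8) (Tr.lf (Alt.word (nat_lit 2) (nat_lit 2) true [Col.c, Col.a, Col.c, Col.a]))
(Tr.nd (nat_lit 9) (Tr.lf (Alt.word (nat_lit 3) (nat_lit 2) true [Col.d, Col.a, Col.d, Col.a]))
(Tr.lf (Alt.word (nat_lit 4) (nat_lit 2) true [Col.e, Col.a, Col.e, Col.a]))))
(Tr.nd (nat_lit 12) (Tr.nd (nat_lit 11) (Tr.lf (Alt.word (nat_lit 5) (nat_lit 2) true [Col.f, Col.a, Col.f, Col.a]))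
(Tr.lf (Alt.word (nat_lit 7) (nat_lit 2) true [Col.h, Col.a, Col.h, Col.a])))
(Tr.nd (nat_lit 13) (Tr.lf (Alt.word (nat_lit 8) (nat_lit 2) true [Col.i, Col.a, Col.i, Col.a]))
(Tr.lf (Alt.word (nat_lit 11) (nat_lit 2) true [Col.d, Col.b, Col.d, Col.b]))))))
(Tr.nd (nat_lit 21) (Tr.nd (nat_lit 17) (Tr.nd (nat_lit 15) (Tr.lf (Alt.word (nat_lit 12) (nat_lit 2) true [Col.e, Col.b, Col.e, Col.b]))
(Tr.nd (nat_lit 16) (Tr.lf (Alt.word (nat_lit 13) (nat_lit 2) true [Col.f, Col.b, Col.f, Col.b]))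
(Tr.lf (Alt.word (nat_lit 15) (nat_lit 2) true [Col.h, Col.b, Col.h, Col.b]))))
(Tr.nd (nat_lit 19) (Tr.nd (nat_lit 18) (Tr.lf (Alt.word (nat_lit 16) (nat_lit 2) true [Col.i, Col.b, Col.i, Col.b]))
(Tr.lf (Alt.word (nat_lit 1) (nat_lit 1) true [Col.a, Col.b, Col.a, Col.b, Col.a, Col.b])))
(Tr.nd (nat_lit 20) (Tr.lf (Alt.word (nat_lit 2) (nat_lit 1) true [Col.a, Col.c, Col.a, Col.c]))
(Tr.lf (Alt.word (nat_lit 19) (nat_lit 2) true [Col.e, Col.c, Col.e, Col.c])))))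
(Tr.nd (nat_lit 25) (Tr.nd (nat_lit 23) (Tr.nd (nat_lit 22) (Tr.lf (Alt.word (nat_lit 20) (nat_lit 2) true [Col.f, Col.c, Col.f, Col.c]))
(Tr.lf (Alt.word (nat_lit 22) (nat_lit 2) true [Col.h, Col.c, Col.h, Col.c])))
(Tr.nd (nat_lit 24) (Tr.lf (Alt.word (nat_lit 23) (nat_lit 2) true [Col.i, Col.c, Col.i, Col.c]))
(Tr.lf (Alt.word (nat_lit 10) (nat_lit 1) true [Col.b, Col.c, Col.b, Col.c, Col.b, Col.c]))))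
(Tr.nd (nat_lit 27) (Tr.nd (nat_lit 26) (Tr.lf (Alt.word (nat_lit 3) (nat_lit 1) true [Col.a, Col.d, Col.a, Col.d]))
(Tr.lf (Alt.word (nat_lit 11) (nat_lit 1) true [Col.b, Col.d, Col.b, Col.d])))
(Tr.nd (nat_lit 28) (Tr.lf (Alt.word (nat_lit 26) (nat_lit 2) true [Col.f, Col.d, Col.f, Col.d]))
(Tr.lf (Alt.word (nat_lit 29) (nat_lit 2) true [Col.i, Col.d, Col.i, Col.d])))))))
(Tr.nd (nat_lit 44) (Tr.nd (nat_lit 36) (Tr.nd (nat_lit 32) (Tr.nd (nat_lit 30) (Tr.lf (Alt.word (nat_lit 18) (nat_lit 1) true [Col.c, Col.d, Col.c, Col.d, Col.c, Col.d]))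
(Tr.nd (nat_lit 31) (Tr.lf (Alt.word (nat_lit 4) (nat_lit 1) true [Col.a, Col.e, Col.a, Col.e]))
(Tr.lf (Alt.word (nat_lit 12) (nat_lit 1) true [Col.b, Col.e, Col.b, Col.e]))))
(Tr.nd (nat_lit 34) (Tr.nd (nat_lit 33) (Tr.lf (Alt.word (nat_lit 19) (nat_lit 1) true [Col.c, Col.e, Col.c, Col.e]))
(Tr.lf (Alt.word (nat_lit 34) (nat_lit 2) true [Col.i, Col.e, Col.i, Col.e])))
(Tr.nd (nat_lit 35) (Tr.lf (Alt.word (nat_lit 25) (nat_lit 1) true [Col.d, Col.e, Col.d, Col.e, Col.d, Col.e]))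
(Tr.lf (Alt.word (nat_lit 7) (nat_lit 1) true [Col.a, Col.h, Col.a, Col.h])))))
(Tr.nd (nat_lit 40) (Tr.nd (nat_lit 38) (Tr.nd (nat_lit 37) (Tr.lf (Alt.word (nat_lit 15) (nat_lit 1) true [Col.b, Col.h, Col.b, Col.h]))
(Tr.lf (Alt.word (nat_lit 22) (nat_lit 1) true [Col.c, Col.h, Col.c, Col.h])))
(Tr.nd (nat_lit 39) (Tr.lf (Alt.word (nat_lit 28) (nat_lit 2) true [Col.h, Col.d, Col.h, Col.d, Col.h, Col.d]))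
(Tr.lf (Alt.word (nat_lit 18) (nat_lit 2) true [Col.d, Col.c, Col.d, Col.c, Col.d, Col.c]))))
(Tr.nd (nat_lit 42) (Tr.nd (nat_lit 41) (Tr.lf (Alt.word (nat_lit 10) (nat_lit 2) true [Col.c, Col.b, Col.c, Col.b, Col.c, Col.b]))
(Tr.lf (Alt.word (nat_lit 1) (nat_lit 2) true [Col.b, Col.a, Col.b, Col.a, Col.b, Col.a])))
(Tr.nd (nat_lit 43) (Tr.lf (Alt.word (nat_lit 16) (nat_lit 1) true [Col.b, Col.i, Col.b, Col.i]))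
(Tr.lf (Alt.word (nat_lit 23) (nat_lit 1) true [Col.c, Col.i, Col.c, Col.i]))))))
(Tr.nd (nat_lit 51) (Tr.nd (nat_lit 47) (Tr.nd (nat_lit 45) (Tr.lf (Alt.word (nat_lit 29) (nat_lit 1) true [Col.d, Col.i, Col.d, Col.i]))
(Tr.nd (nat_lit 46) (Tr.lf (Alt.word (nat_lit 43) (nat_lit 2) true [Col.i, Col.h, Col.i, Col.h, Col.i, Col.h]))
(Tr.lf (Alt.word (nat_lit 33) (nat_lit 2) true [Col.h, Col.e, Col.h, Col.e]))))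
(Tr.nd (nat_lit 49) (Tr.nd (nat_lit 48) (Tr.lf (Alt.word (nat_lit 25) (nat_lit 2) true [Col.e, Col.d, Col.e, Col.d, Col.e, Col.d]))
(Tr.lf (Alt.word (nat_lit 33) (nat_lit 1) true [Col.e, Col.h, Col.e, Col.h])))
(Tr.nd (nat_lit 50) (Tr.lf (Alt.word (nat_lit 28) (nat_lit 1) true [Col.d, Col.h, Col.d, Col.h, Col.d, Col.h]))
(Tr.lf (Alt.word (nat_lit 34) (nat_lit 1) true [Col.e, Col.i, Col.e, Col.i])))))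
(Tr.nd (nat_lit 55) (Tr.nd (nat_lit 53) (Tr.nd (nat_lit 52) (Tr.lf (Alt.word (nat_lit 43) (nat_lit 1) true [Col.h, Col.i, Col.h, Col.i, Col.h, Col.i]))
(Tr.lf (Alt.word (nat_lit 12) (nat_lit 3) true [Col.b, Col.e, Col.b, Col.e])))
(Tr.nd (nat_lit 54) (Tr.lf (Alt.word (nat_lit 20) (nat_lit 1) true [Col.c, Col.f, Col.c, Col.f]))
(Tr.lf (Alt.word (nat_lit 26) (nat_lit 1) true [Col.d, Col.f, Col.d, Col.f]))))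
(Tr.nd (nat_lit 57) (Tr.nd (nat_lit 56) (Tr.lf (Alt.word (nat_lit 5) (nat_lit 1) true [Col.a, Col.f, Col.a, Col.f]))
(Tr.lf (Alt.word (nat_lit 13) (nat_lit 1) true [Col.b, Col.f, Col.b, Col.f])))
(Tr.nd (nat_lit 58) (Tr.lf (Alt.word (nat_lit 37) (nat_lit 2) true [Col.h, Col.f, Col.h, Col.f]))
(Tr.lf (Alt.word (nat_lit 37) (nat_lit 3) true [Col.f, Col.h, Col.f, Col.h]))))))))
(Tr.nd (nat_lit 88) (Tr.nd (nat_lit 73) (Tr.nd (nat_lit 66) (Tr.nd (nat_lit 62) (Tr.nd (nat_lit 60) (Tr.lf (Alt.word (nat_lit 28) (nat_lit 5) true [Col.d, Col.h, Col.d, Col.h, Col.d, Col.h]))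
(Tr.nd (nat_lit 61) (Tr.lf (Alt.word (nat_lit 25) (nat_lit 4) true [Col.e, Col.d, Col.e, Col.d, Col.e, Col.d]))
(Tr.lf (Alt.word (nat_lit 34) (nat_lit 3) true [Col.e, Col.i, Col.e, Col.i]))))
(Tr.nd (nat_lit 64) (Tr.nd (nat_lit 63) (Tr.lf (Alt.word (nat_lit 33) (nat_lit 3) true [Col.e, Col.h, Col.e, Col.h]))
(Tr.lf (Alt.word (nat_lit 25) (nat_lit 3) true [Col.d, Col.e, Col.d, Col.e, Col.d, Col.e])))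
(Tr.nd (nat_lit 65) (Tr.lf (Alt.word (nat_lit 18) (nat_lit 3) true [Col.c, Col.d, Col.c, Col.d, Col.c, Col.d]))
(Tr.lf (Alt.word (nat_lit 22) (nat_lit 3) true [Col.c, Col.h, Col.c, Col.h])))))
(Tr.nd (nat_lit 69) (Tr.nd (nat_lit 67) (Tr.lf (Alt.word (nat_lit 23) (nat_lit 3) true [Col.c, Col.i, Col.c, Col.i]))
(Tr.nd (nat_lit 68) (Tr.lf (Alt.word (nat_lit 10) (nat_lit 3) true [Col.b, Col.c, Col.b, Col.c, Col.b, Col.c]))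
(Tr.lf (Alt.word (nat_lit 11) (nat_lit 3) true [Col.b, Col.d, Col.b, Col.d]))))
(Tr.nd (nat_lit 71) (Tr.nd (nat_lit 70) (Tr.lf (Alt.word (nat_lit 15) (nat_lit 3) true [Col.b, Col.h, Col.b, Col.h]))
(Tr.lf (Alt.word (nat_lit 37) (nat_lit 1) true [Col.f, Col.h, Col.f, Col.h])))
(Tr.nd (nat_lit 72) (Tr.lf (Alt.word (nat_lit 26) (nat_lit 3) true [Col.d, Col.f, Col.d, Col.f]))
(Tr.lf (Alt.word (nat_lit 38) (nat_lit 1) true [Col.f, Col.i, Col.f, Col.i]))))))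
(Tr.nd (nat_lit 80) (Tr.nd (nat_lit 76) (Tr.nd (nat_lit 74) (Tr.lf (Alt.word (nat_lit 31) (nat_lit 2) true [Col.f, Col.e, Col.f, Col.e, Col.f, Col.e]))
(Tr.nd (nat_lit 75) (Tr.lf (Alt.word (nat_lit 38) (nat_lit 2) true [Col.i, Col.f, Col.i, Col.f]))
(Tr.lf (Alt.word (nat_lit 25) (nat_lit 5) true [Col.d, Col.e, Col.d, Col.e, Col.d, Col.e]))))
(Tr.nd (nat_lit 78) (Tr.nd (nat_lit 77) (Tr.lf (Alt.word (nat_lit 8) (nat_lit 1) true [Col.a, Col.i, Col.a, Col.i]))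
(Tr.lf (Alt.word (nat_lit 31) (nat_lit 1) true [Col.e, Col.f, Col.e, Col.f, Col.e, Col.f])))
(Tr.nd (nat_lit 79) (Tr.lf (Alt.word (nat_lit 40) (nat_lit 1) true [Col.g, Col.h, Col.g, Col.h]))
(Tr.lf (Alt.word (nat_lit 41) (nat_lit 1) true [Col.g, Col.i, Col.g, Col.i])))))
(Tr.nd (nat_lit 84) (Tr.nd (nat_lit 82) (Tr.nd (nat_lit 81) (Tr.lf (Alt.word (nat_lit 14) (nat_lit 1) true [Col.b, Col.g, Col.b, Col.g]))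
(Tr.lf (Alt.word (nat_lit 21) (nat_lit 2) true [Col.g, Col.c, Col.g, Col.c])))
(Tr.nd (nat_lit 83) (Tr.lf (Alt.word (nat_lit 41) (nat_lit 2) true [Col.i, Col.g, Col.i, Col.g]))
(Tr.lf (Alt.word (nat_lit 4) (nat_lit 0) true [Col.e, Col.a, Col.e, Col.a]))))
(Tr.nd (nat_lit 86) (Tr.nd (nat_lit 85) (Tr.lf (Alt.word (nat_lit 43) (nat_lit 5) true [Col.h, Col.i, Col.h, Col.i, Col.h, Col.i]))
(Tr.lf (Alt.word (nat_lit 29) (nat_lit 3) true [Col.d, Col.i, Col.d, Col.i])))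
(Tr.nd (nat_lit 87) (Tr.lf (Alt.word (nat_lit 14) (nat_lit 2) true [Col.g, Col.b, Col.g, Col.b]))
(Tr.lf (Alt.word (nat_lit 32) (nat_lit 1) true [Col.e, Col.g, Col.e, Col.g])))))))
(Tr.nd (nat_lit 103) (Tr.nd (nat_lit 95) (Tr.nd (nat_lit 91) (Tr.nd (nat_lit 89) (Tr.lf (Alt.word (nat_lit 6) (nat_lit 2) true [Col.g, Col.a, Col.g, Col.a]))
(Tr.nd (nat_lit 90) (Tr.lf (Alt.word (nat_lit 13) (nat_lit 3) true [Col.b, Col.f, Col.b, Col.f]))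
(Tr.lf (Alt.word (nat_lit 32) (nat_lit 2) true [Col.g, Col.e, Col.g, Col.e]))))
(Tr.nd (nat_lit 93) (Tr.nd (nat_lit 92) (Tr.lf (Alt.word (nat_lit 27) (nat_lit 1) true [Col.d, Col.g, Col.d, Col.g]))
(Tr.lf (Alt.word (nat_lit 18) (nat_lit 4) true [Col.d, Col.c, Col.d, Col.c, Col.d, Col.c])))
(Tr.nd (nat_lit 94) (Tr.lf (Alt.word (nat_lit 28) (nat_lit 4) true [Col.h, Col.d, Col.h, Col.d, Col.h, Col.d]))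
(Tr.lf (Alt.word (nat_lit 35) (nat_lit 0) true [Col.f, Col.f])))))
(Tr.nd (nat_lit 99) (Tr.nd (nat_lit 97) (Tr.nd (nat_lit 96) (Tr.lf (Alt.word (nat_lit 44) (nat_lit 0) true [Col.i, Col.i]))
(Tr.lf (Alt.word (nat_lit 1) (nat_lit 3) true [Col.a, Col.b, Col.a, Col.b, Col.a, Col.b])))
(Tr.nd (nat_lit 98) (Tr.lf (Alt.word (nat_lit 3) (nat_lit 3) true [Col.a, Col.d, Col.a, Col.d]))
(Tr.lf (Alt.word (nat_lit 2) (nat_lit 3) true [Col.a, Col.c, Col.a, Col.c]))))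
(Tr.nd (nat_lit 101) (Tr.nd (nat_lit 100) (Tr.lf (Alt.word (nat_lit 7) (nat_lit 3) true [Col.a, Col.h, Col.a, Col.h]))
(Tr.lf (Alt.word (nat_lit 1) (nat_lit 4) true [Col.b, Col.a, Col.b, Col.a, Col.b, Col.a])))
(Tr.nd (nat_lit 102) (Tr.lf (Alt.word (nat_lit 14) (nat_lit 3) true [Col.b, Col.g, Col.b, Col.g]))
(Tr.lf (Alt.word (nat_lit 8) (nat_lit 3) true [Col.a, Col.i, Col.a, Col.i]))))))
(Tr.nd (nat_lit 110) (Tr.nd (nat_lit 106) (Tr.nd (nat_lit 104) (Tr.lf (Alt.word (nat_lit 6) (nat_lit 3) true [Col.a, Col.g, Col.a, Col.g]))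
(Tr.nd (nat_lit 105) (Tr.lf (Alt.word (nat_lit 21) (nat_lit 1) true [Col.c, Col.g, Col.c, Col.g]))
(Tr.lf (Alt.word (nat_lit 26) (nat_lit 0) true [Col.f, Col.d, Col.f, Col.d]))))
(Tr.nd (nat_lit 108) (Tr.nd (nat_lit 107) (Tr.lf (Alt.word (nat_lit 33) (nat_lit 0) true [Col.h, Col.e, Col.h, Col.e]))
(Tr.lf (Alt.word (nat_lit 46) (nat_lit 8) false [Col.b, Col.c, Col.d, Col.e, Col.f, Col.h, Col.a, Col.b, Col.c, Col.d, Col.e, Col.f, Col.h, Col.a, Col.b, Col.c, Col.d, Col.e, Col.f, Col.h, Col.a, Col.b, Col.c, Col.d, Col.e, Col.f, Col.h, Col.a, Col.b, Col.c, Col.d, Col.e, Col.f, Col.h, Col.a, Col.b, Col.c, Col.d, Col.e, Col.f, Col.h, Col.a, Col.b, Col.c, Col.d, Col.e, Col.f, Col.h, Col.a, Col.b, Col.c, Col.d, Col.e, Col.f, Col.h, Col.a, Col.b, Col.c, Col.d, Col.e, Col.f, Col.h, Col.a])))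
(Tr.nd (nat_lit 109) (Tr.lf (Alt.word (nat_lit 29) (nat_lit 0) true [Col.i, Col.d, Col.i, Col.d]))
(Tr.lf (Alt.word (nat_lit 19) (nat_lit 3) true [Col.c, Col.e, Col.c, Col.e])))))
(Tr.nd (nat_lit 114) (Tr.nd (nat_lit 112) (Tr.nd (nat_lit 111) (Tr.lf (Alt.word (nat_lit 45) (nat_lit 5) true [Col.d, Col.b, Col.c, Col.d, Col.i, Col.h, Col.d, Col.f, Col.e, Col.d, Col.b, Col.c, Col.d, Col.i, Col.h, Col.d, Col.f, Col.e, Col.d, Col.b, Col.c, Col.d, Col.i, Col.h, Col.d, Col.f, Col.e, Col.d, Col.b, Col.c, Col.d, Col.i, Col.h, Col.d, Col.f, Col.e, Col.d, Col.b, Col.c, Col.d, Col.i, Col.h, Col.d, Col.f, Col.e, Col.d, Col.b, Col.c, Col.d, Col.i, Col.h, Col.d, Col.f, Col.e, Col.d, Col.b, Col.c, Col.d, Col.i, Col.h, Col.d, Col.f, Col.e, Col.d, Col.b, Col.c, Col.d, Col.i, Col.h, Col.d, Col.f, Col.e, Col.d,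 Col.b, Col.c, Col.d, Col.i, Col.h, Col.d, Col.f, Col.e, Col.d, Col.b, Col.c, Col.d, Col.i, Col.h, Col.d, Col.f, Col.e]))
(Tr.lf (Alt.word (nat_lit 17) (nat_lit 0) true [Col.c, Col.c])))
(Tr.nd (nat_lit 113) (Tr.lf (Alt.word (nat_lit 24) (nat_lit 0) true [Col.d, Col.d]))
(Tr.lf (Alt.word (nat_lit 30) (nat_lit 0) true [Col.e, Col.e]))))
(Tr.nd (nat_lit 116) (Tr.nd (nat_lit 115) (Tr.lf (Alt.word (nat_lit 43) (nat_lit 0) true [Col.i, Col.h, Col.i, Col.h, Col.i, Col.h]))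
(Tr.lf (Alt.word (nat_lit 42) (nat_lit 0) true [Col.h, Col.h])))
(Tr.nd (nat_lit 117) (Tr.lf (Alt.word (nat_lit 46) (nat_lit 3) true [Col.d, Col.c, Col.b, Col.a, Col.h, Col.f, Col.e, Col.d, Col.c, Col.b, Col.a, Col.h, Col.f, Col.e, Col.d, Col.c, Col.b, Col.a, Col.h, Col.f, Col.e, Col.d, Col.c, Col.b, Col.a, Col.h, Col.f, Col.e, Col.d, Col.c, Col.b, Col.a, Col.h, Col.f, Col.e, Col.d, Col.c, Col.b, Col.a, Col.h, Col.f, Col.e, Col.d, Col.c, Col.b, Col.a, Col.h, Col.f, Col.e, Col.d, Col.c, Col.b, Col.a, Col.h, Col.f, Col.e, Col.d, Col.c, Col.b, Col.a, Col.h, Col.f, Col.e]))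
(Tr.lf (Alt.word (nat_lit 9) (nat_lit 0) true [Col.b, Col.b])))))))))
noncomputable def mini0P : Tr ℕ := (Tr.nd (nat_lit 85) (Tr.nd (nat_lit 42) (Tr.nd (nat_lit 21) (Tr.nd (nat_lit 10) (Tr.nd (nat_lit 5) (Tr.nd (nat_lit 2) (Tr.nd (nat_lit 1) (Tr.lf (nat_lit 0))
(Tr.lf (nat_lit 0)))
(Tr.nd (nat_lit 3) (Tr.lf (nat_lit 1))
(Tr.nd (nat_lit 4) (Tr.lf (nat_lit 2))
(Tr.lf (nat_lit 3)))))
(Tr.nd (nat_lit 7) (Tr.nd (nat_lit 6) (Tr.lf (nat_lit 4))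
(Tr.lf (nat_lit 5)))
(Tr.nd (nat_lit 8) (Tr.lf (nat_lit 6))
(Tr.nd (nat_lit 9) (Tr.lf (nat_lit 7))
(Tr.lf (nat_lit 8))))))
(Tr.nd (nat_lit 15) (Tr.nd (nat_lit 12) (Tr.nd (nat_lit 11) (Tr.lf (nat_lit 9))
(Tr.lf (nat_lit 10)))
(Tr.nd (nat_lit 13) (Tr.lf (nat_lit 11))
(Tr.nd (nat_lit 14) (Tr.lf (nat_lit 12))
(Tr.lf (nat_lit 13)))))
(Tr.nd (nat_lit 18) (Tr.nd (nat_lit 16) (Tr.lf (nat_lit 14))
(Tr.nd (nat_lit 17) (Tr.lf (nat_lit 15))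
(Tr.lf (nat_lit 16))))
(Tr.nd (nat_lit 19) (Tr.lf (nat_lit 17))
(Tr.nd (nat_lit 20) (Tr.lf (nat_lit 18))
(Tr.lf (nat_lit 19)))))))
(Tr.nd (nat_lit 31) (Tr.nd (nat_lit 26) (Tr.nd (nat_lit 23) (Tr.nd (nat_lit 22) (Tr.lf (nat_lit 20))
(Tr.lf (nat_lit 21)))
(Tr.nd (nat_lit 24) (Tr.lf (nat_lit 22))
(Tr.nd (nat_lit 25) (Tr.lf (nat_lit 15))
(Tr.lf (nat_lit 16)))))
(Tr.nd (nat_lit 28) (Tr.nd (nat_lit 27) (Tr.lf (nat_lit 9))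
(Tr.lf (nat_lit 8)))
(Tr.nd (nat_lit 29) (Tr.lf (nat_lit 6))
(Tr.nd (nat_lit 30) (Tr.lf (nat_lit 26))
(Tr.lf (nat_lit 22))))))
(Tr.nd (nat_lit 36) (Tr.nd (nat_lit 33) (Tr.nd (nat_lit 32) (Tr.lf (nat_lit 25))
(Tr.lf (nat_lit 29)))
(Tr.nd (nat_lit 34) (Tr.lf (nat_lit 26))
(Tr.nd (nat_lit 35) (Tr.lf (nat_lit 18))
(Tr.lf (nat_lit 34)))))
(Tr.nd (nat_lit 39) (Tr.nd (nat_lit 37) (Tr.lf (nat_lit 30))
(Tr.nd (nat_lit 38) (Tr.lf (nat_lit 27))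
(Tr.lf (nat_lit 23))))
(Tr.nd (nat_lit 40) (Tr.lf (nat_lit 25))
(Tr.nd (nat_lit 41) (Tr.lf (nat_lit 26))
(Tr.lf (nat_lit 6))))))))
(Tr.nd (nat_lit 63) (Tr.nd (nat_lit 52) (Tr.nd (nat_lit 47) (Tr.nd (nat_lit 44) (Tr.nd (nat_lit 43) (Tr.lf (nat_lit 20))
(Tr.lf (nat_lit 5)))
(Tr.nd (nat_lit 45) (Tr.lf (nat_lit 23))
(Tr.nd (nat_lit 46) (Tr.lf (nat_lit 35))
(Tr.lf (nat_lit 29)))))
(Tr.nd (nat_lit 49) (Tr.nd (nat_lit 48) (Tr.lf (nat_lit 39))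
(Tr.lf (nat_lit 19)))
(Tr.nd (nat_lit 50) (Tr.lf (nat_lit 20))
(Tr.nd (nat_lit 51) (Tr.lf (nat_lit 40))
(Tr.lf (nat_lit 40))))))
(Tr.nd (nat_lit 57) (Tr.nd (nat_lit 54) (Tr.nd (nat_lit 53) (Tr.lf (nat_lit 48))
(Tr.lf (nat_lit 47)))
(Tr.nd (nat_lit 55) (Tr.lf (nat_lit 35))
(Tr.nd (nat_lit 56) (Tr.lf (nat_lit 8))
(Tr.lf (nat_lit 12)))))
(Tr.nd (nat_lit 60) (Tr.nd (nat_lit 58) (Tr.lf (nat_lit 52))
(Tr.nd (nat_lit 59) (Tr.lf (nat_lit 49))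
(Tr.lf (nat_lit 55))))
(Tr.nd (nat_lit 61) (Tr.lf (nat_lit 32))
(Tr.nd (nat_lit 62) (Tr.lf (nat_lit 46))
(Tr.lf (nat_lit 51)))))))
(Tr.nd (nat_lit 74) (Tr.nd (nat_lit 68) (Tr.nd (nat_lit 65) (Tr.nd (nat_lit 64) (Tr.lf (nat_lit 54))
(Tr.lf (nat_lit 54)))
(Tr.nd (nat_lit 66) (Tr.lf (nat_lit 25))
(Tr.nd (nat_lit 67) (Tr.lf (nat_lit 60))
(Tr.lf (nat_lit 60)))))
(Tr.nd (nat_lit 71) (Tr.nd (nat_lit 69) (Tr.lf (nat_lit 49))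
(Tr.nd (nat_lit 70) (Tr.lf (nat_lit 13))
(Tr.lf (nat_lit 55))))
(Tr.nd (nat_lit 72) (Tr.lf (nat_lit 27))
(Tr.nd (nat_lit 73) (Tr.lf (nat_lit 44))
(Tr.lf (nat_lit 37))))))
(Tr.nd (nat_lit 79) (Tr.nd (nat_lit 76) (Tr.nd (nat_lit 75) (Tr.lf (nat_lit 15))
(Tr.lf (nat_lit 74)))
(Tr.nd (nat_lit 77) (Tr.lf (nat_lit 14))
(Tr.nd (nat_lit 78) (Tr.lf (nat_lit 59))
(Tr.lf (nat_lit 36)))))
(Tr.nd (nat_lit 82) (Tr.nd (nat_lit 80) (Tr.lf (nat_lit 17))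
(Tr.nd (nat_lit 81) (Tr.lf (nat_lit 70))
(Tr.lf (nat_lit 58))))
(Tr.nd (nat_lit 83) (Tr.lf (nat_lit 51))
(Tr.nd (nat_lit 84) (Tr.lf (nat_lit 40))
(Tr.lf (nat_lit 51)))))))))
(Tr.nd (nat_lit 127) (Tr.nd (nat_lit 106) (Tr.nd (nat_lit 95) (Tr.nd (nat_lit 90) (Tr.nd (nat_lit 87) (Tr.nd (nat_lit 86) (Tr.lf (nat_lit 12))
(Tr.lf (nat_lit 62)))
(Tr.nd (nat_lit 88) (Tr.lf (nat_lit 24))
(Tr.nd (nat_lit 89) (Tr.lf (nat_lit 21))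
(Tr.lf (nat_lit 39)))))
(Tr.nd (nat_lit 92) (Tr.nd (nat_lit 91) (Tr.lf (nat_lit 72))
(Tr.lf (nat_lit 79)))
(Tr.nd (nat_lit 93) (Tr.lf (nat_lit 25))
(Tr.nd (nat_lit 94) (Tr.lf (nat_lit 18))
(Tr.lf (nat_lit 81))))))
(Tr.nd (nat_lit 100) (Tr.nd (nat_lit 97) (Tr.nd (nat_lit 96) (Tr.lf (nat_lit 94))
(Tr.lf (nat_lit 41)))
(Tr.nd (nat_lit 98) (Tr.lf (nat_lit 69))
(Tr.nd (nat_lit 99) (Tr.lf (nat_lit 74))
(Tr.lf (nat_lit 39)))))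
(Tr.nd (nat_lit 103) (Tr.nd (nat_lit 101) (Tr.lf (nat_lit 65))
(Tr.nd (nat_lit 102) (Tr.lf (nat_lit 60))
(Tr.lf (nat_lit 85))))
(Tr.nd (nat_lit 104) (Tr.lf (nat_lit 35))
(Tr.nd (nat_lit 105) (Tr.lf (nat_lit 54))
(Tr.lf (nat_lit 100)))))))
(Tr.nd (nat_lit 116) (Tr.nd (nat_lit 111) (Tr.nd (nat_lit 108) (Tr.nd (nat_lit 107) (Tr.lf (nat_lit 101))
(Tr.lf (nat_lit 76)))
(Tr.nd (nat_lit 109) (Tr.lf (nat_lit 95))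
(Tr.nd (nat_lit 110) (Tr.lf (nat_lit 15))
(Tr.lf (nat_lit 104)))))
(Tr.nd (nat_lit 113) (Tr.nd (nat_lit 112) (Tr.lf (nat_lit 89))
(Tr.lf (nat_lit 70)))
(Tr.nd (nat_lit 114) (Tr.lf (nat_lit 34))
(Tr.nd (nat_lit 115) (Tr.lf (nat_lit 61))
(Tr.lf (nat_lit 109))))))
(Tr.nd (nat_lit 121) (Tr.nd (nat_lit 118) (Tr.nd (nat_lit 117) (Tr.lf (nat_lit 114))
(Tr.lf (nat_lit 110)))
(Tr.nd (nat_lit 119) (Tr.lf (nat_lit 97))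
(Tr.nd (nat_lit 120) (Tr.lf (nat_lit 111))
(Tr.lf (nat_lit 34)))))
(Tr.nd (nat_lit 124) (Tr.nd (nat_lit 122) (Tr.lf (nat_lit 33))
(Tr.nd (nat_lit 123) (Tr.lf (nat_lit 117))
(Tr.lf (nat_lit 112))))
(Tr.nd (nat_lit 125) (Tr.lf (nat_lit 112))
(Tr.nd (nat_lit 126) (Tr.lf (nat_lit 107))
(Tr.lf (nat_lit 120))))))))
(Tr.nd (nat_lit 148) (Tr.nd (nat_lit 137) (Tr.nd (nat_lit 132) (Tr.nd (nat_lit 129) (Tr.nd (nat_lit 128) (Tr.lf (nat_lit 121))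
(Tr.lf (nat_lit 113)))
(Tr.nd (nat_lit 130) (Tr.lf (nat_lit 30))
(Tr.nd (nat_lit 131) (Tr.lf (nat_lit 36))
(Tr.lf (nat_lit 78)))))
(Tr.nd (nat_lit 134) (Tr.nd (nat_lit 133) (Tr.lf (nat_lit 92))
(Tr.lf (nat_lit 126)))
(Tr.nd (nat_lit 135) (Tr.lf (nat_lit 81))
(Tr.nd (nat_lit 136) (Tr.lf (nat_lit 116))
(Tr.lf (nat_lit 127))))))
(Tr.nd (nat_lit 142) (Tr.nd (nat_lit 139) (Tr.nd (nat_lit 138) (Tr.lf (nat_lit 131))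
(Tr.lf (nat_lit 125)))
(Tr.nd (nat_lit 140) (Tr.lf (nat_lit 38))
(Tr.nd (nat_lit 141) (Tr.lf (nat_lit 130))
(Tr.lf (nat_lit 135)))))
(Tr.nd (nat_lit 145) (Tr.nd (nat_lit 143) (Tr.lf (nat_lit 133))
(Tr.nd (nat_lit 144) (Tr.lf (nat_lit 105))
(Tr.lf (nat_lit 130))))
(Tr.nd (nat_lit 146) (Tr.lf (nat_lit 128))
(Tr.nd (nat_lit 147) (Tr.lf (nat_lit 142))
(Tr.lf (nat_lit 140)))))))
(Tr.nd (nat_lit 159) (Tr.nd (nat_lit 153) (Tr.nd (nat_lit 150) (Tr.nd (nat_lit 149) (Tr.lf (nat_lit 146))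
(Tr.lf (nat_lit 147)))
(Tr.nd (nat_lit 151) (Tr.lf (nat_lit 148))
(Tr.nd (nat_lit 152) (Tr.lf (nat_lit 150))
(Tr.lf (nat_lit 151)))))
(Tr.nd (nat_lit 156) (Tr.nd (nat_lit 154) (Tr.lf (nat_lit 152))
(Tr.nd (nat_lit 155) (Tr.lf (nat_lit 129))
(Tr.lf (nat_lit 149))))
(Tr.nd (nat_lit 157) (Tr.lf (nat_lit 153))
(Tr.nd (nat_lit 158) (Tr.lf (nat_lit 145))
(Tr.lf (nat_lit 155))))))
(Tr.nd (nat_lit 164) (Tr.nd (nat_lit 161) (Tr.nd (nat_lit 160) (Tr.lf (nat_lit 156))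
(Tr.lf (nat_lit 154)))
(Tr.nd (nat_lit 162) (Tr.lf (nat_lit 159))
(Tr.nd (nat_lit 163) (Tr.lf (nat_lit 158))
(Tr.lf (nat_lit 162)))))
(Tr.nd (nat_lit 167) (Tr.nd (nat_lit 165) (Tr.lf (nat_lit 160))
(Tr.nd (nat_lit 166) (Tr.lf (nat_lit 164))
(Tr.lf (nat_lit 161))))
(Tr.nd (nat_lit 168) (Tr.lf (nat_lit 166))
(Tr.nd (nat_lit 169) (Tr.lf (nat_lit 167))
(Tr.lf (nat_lit 168))))))))))
noncomputable def mini0Q : Tr ℕ := (Tr.nd (nat_lit 85) (Tr.nd (nat_lit 42) (Tr.nd (nat_lit 21) (Tr.nd (nat_lit 10) (Tr.nd (nat_lit 5) (Tr.nd (nat_lit 2) (Tr.nd (nat_lit 1) (Tr.lf (nat_lit 0))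
(Tr.lf (nat_lit 0)))
(Tr.nd (nat_lit 3) (Tr.lf (nat_lit 1))
(Tr.nd (nat_lit 4) (Tr.lf (nat_lit 2))
(Tr.lf (nat_lit 3)))))
(Tr.nd (nat_lit 7) (Tr.nd (nat_lit 6) (Tr.lf (nat_lit 4))
(Tr.lf (nat_lit 7)))
(Tr.nd (nat_lit 8) (Tr.lf (nat_lit 3))
(Tr.nd (nat_lit 9) (Tr.lf (nat_lit 2))
(Tr.lf (nat_lit 1))))))
(Tr.nd (nat_lit 15) (Tr.nd (nat_lit 12) (Tr.nd (nat_lit 11) (Tr.lf (nat_lit 0))
(Tr.lf (nat_lit 8)))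
(Tr.nd (nat_lit 13) (Tr.lf (nat_lit 7))
(Tr.nd (nat_lit 14) (Tr.lf (nat_lit 3))
(Tr.lf (nat_lit 2)))))
(Tr.nd (nat_lit 18) (Tr.nd (nat_lit 16) (Tr.lf (nat_lit 4))
(Tr.nd (nat_lit 17) (Tr.lf (nat_lit 3))
(Tr.lf (nat_lit 7))))
(Tr.nd (nat_lit 19) (Tr.lf (nat_lit 8))
(Tr.nd (nat_lit 20) (Tr.lf (nat_lit 1))
(Tr.lf (nat_lit 2)))))))
(Tr.nd (nat_lit 31) (Tr.nd (nat_lit 26) (Tr.nd (nat_lit 23) (Tr.nd (nat_lit 22) (Tr.lf (nat_lit 3))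
(Tr.lf (nat_lit 7)))
(Tr.nd (nat_lit 24) (Tr.lf (nat_lit 4))
(Tr.nd (nat_lit 25) (Tr.lf (nat_lit 2))
(Tr.lf (nat_lit 5)))))
(Tr.nd (nat_lit 28) (Tr.nd (nat_lit 27) (Tr.lf (nat_lit 5))
(Tr.lf (nat_lit 5)))
(Tr.nd (nat_lit 29) (Tr.lf (nat_lit 4))
(Tr.nd (nat_lit 30) (Tr.lf (nat_lit 0))
(Tr.lf (nat_lit 5))))))
(Tr.nd (nat_lit 36) (Tr.nd (nat_lit 33) (Tr.nd (nat_lit 32) (Tr.lf (nat_lit 7))
(Tr.lf (nat_lit 8)))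
(Tr.nd (nat_lit 34) (Tr.lf (nat_lit 4))
(Tr.nd (nat_lit 35) (Tr.lf (nat_lit 5))
(Tr.lf (nat_lit 1)))))
(Tr.nd (nat_lit 39) (Tr.nd (nat_lit 37) (Tr.lf (nat_lit 7))
(Tr.nd (nat_lit 38) (Tr.lf (nat_lit 2))
(Tr.lf (nat_lit 7))))
(Tr.nd (nat_lit 40) (Tr.lf (nat_lit 6))
(Tr.nd (nat_lit 41) (Tr.lf (nat_lit 8))
(Tr.lf (nat_lit 5))))))))
(Tr.nd (nat_lit 63) (Tr.nd (nat_lit 52) (Tr.nd (nat_lit 47) (Tr.nd (nat_lit 44) (Tr.nd (nat_lit 43) (Tr.lf (nat_lit 5))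
(Tr.lf (nat_lit 5)))
(Tr.nd (nat_lit 45) (Tr.lf (nat_lit 8))
(Tr.nd (nat_lit 46) (Tr.lf (nat_lit 8))
(Tr.lf (nat_lit 4)))))
(Tr.nd (nat_lit 49) (Tr.nd (nat_lit 48) (Tr.lf (nat_lit 7))
(Tr.lf (nat_lit 8)))
(Tr.nd (nat_lit 50) (Tr.lf (nat_lit 8))
(Tr.nd (nat_lit 51) (Tr.lf (nat_lit 5))
(Tr.lf (nat_lit 1))))))
(Tr.nd (nat_lit 57) (Tr.nd (nat_lit 54) (Tr.nd (nat_lit 53) (Tr.lf (nat_lit 7))
(Tr.lf (nat_lit 8)))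
(Tr.nd (nat_lit 55) (Tr.lf (nat_lit 6))
(Tr.nd (nat_lit 56) (Tr.lf (nat_lit 8))
(Tr.lf (nat_lit 0)))))
(Tr.nd (nat_lit 60) (Tr.nd (nat_lit 58) (Tr.lf (nat_lit 5))
(Tr.nd (nat_lit 59) (Tr.lf (nat_lit 5))
(Tr.lf (nat_lit 2))))
(Tr.nd (nat_lit 61) (Tr.lf (nat_lit 4))
(Tr.nd (nat_lit 62) (Tr.lf (nat_lit 6))
(Tr.lf (nat_lit 2)))))))
(Tr.nd (nat_lit 74) (Tr.nd (nat_lit 68) (Tr.nd (nat_lit 65) (Tr.nd (nat_lit 64) (Tr.lf (nat_lit 8))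
(Tr.lf (nat_lit 2)))
(Tr.nd (nat_lit 66) (Tr.lf (nat_lit 3))
(Tr.nd (nat_lit 67) (Tr.lf (nat_lit 0))
(Tr.lf (nat_lit 6)))))
(Tr.nd (nat_lit 71) (Tr.nd (nat_lit 69) (Tr.lf (nat_lit 7))
(Tr.nd (nat_lit 70) (Tr.lf (nat_lit 0))
(Tr.lf (nat_lit 7))))
(Tr.nd (nat_lit 72) (Tr.lf (nat_lit 4))
(Tr.nd (nat_lit 73) (Tr.lf (nat_lit 4))
(Tr.lf (nat_lit 4))))))
(Tr.nd (nat_lit 79) (Tr.nd (nat_lit 76) (Tr.nd (nat_lit 75) (Tr.lf (nat_lit 0))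
(Tr.lf (nat_lit 3)))
(Tr.nd (nat_lit 77) (Tr.lf (nat_lit 0))
(Tr.nd (nat_lit 78) (Tr.lf (nat_lit 3))
(Tr.lf (nat_lit 8)))))
(Tr.nd (nat_lit 82) (Tr.nd (nat_lit 80) (Tr.lf (nat_lit 0))
(Tr.nd (nat_lit 81) (Tr.lf (nat_lit 2))
(Tr.lf (nat_lit 4))))
(Tr.nd (nat_lit 83) (Tr.lf (nat_lit 7))
(Tr.nd (nat_lit 84) (Tr.lf (nat_lit 7))
(Tr.lf (nat_lit 4)))))))))
(Tr.nd (nat_lit 127) (Tr.nd (nat_lit 106) (Tr.nd (nat_lit 95) (Tr.nd (nat_lit 90) (Tr.nd (nat_lit 87) (Tr.nd (nat_lit 86) (Tr.lf (nat_lit 5))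
(Tr.lf (nat_lit 4)))
(Tr.nd (nat_lit 88) (Tr.lf (nat_lit 0))
(Tr.nd (nat_lit 89) (Tr.lf (nat_lit 8))
(Tr.lf (nat_lit 1)))))
(Tr.nd (nat_lit 92) (Tr.nd (nat_lit 91) (Tr.lf (nat_lit 5))
(Tr.lf (nat_lit 5)))
(Tr.nd (nat_lit 93) (Tr.lf (nat_lit 0))
(Tr.nd (nat_lit 94) (Tr.lf (nat_lit 0))
(Tr.lf (nat_lit 8))))))
(Tr.nd (nat_lit 100) (Tr.nd (nat_lit 97) (Tr.nd (nat_lit 96) (Tr.lf (nat_lit 6))
(Tr.lf (nat_lit 8)))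
(Tr.nd (nat_lit 98) (Tr.lf (nat_lit 5))
(Tr.nd (nat_lit 99) (Tr.lf (nat_lit 5))
(Tr.lf (nat_lit 0)))))
(Tr.nd (nat_lit 103) (Tr.nd (nat_lit 101) (Tr.lf (nat_lit 2))
(Tr.nd (nat_lit 102) (Tr.lf (nat_lit 3))
(Tr.lf (nat_lit 4))))
(Tr.nd (nat_lit 104) (Tr.lf (nat_lit 4))
(Tr.nd (nat_lit 105) (Tr.lf (nat_lit 4))
(Tr.lf (nat_lit 0)))))))
(Tr.nd (nat_lit 116) (Tr.nd (nat_lit 111) (Tr.nd (nat_lit 108) (Tr.nd (nat_lit 107) (Tr.lf (nat_lit 6))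
(Tr.lf (nat_lit 5)))
(Tr.nd (nat_lit 109) (Tr.lf (nat_lit 8))
(Tr.nd (nat_lit 110) (Tr.lf (nat_lit 1))
(Tr.lf (nat_lit 8)))))
(Tr.nd (nat_lit 113) (Tr.nd (nat_lit 112) (Tr.lf (nat_lit 3))
(Tr.lf (nat_lit 3)))
(Tr.nd (nat_lit 114) (Tr.lf (nat_lit 4))
(Tr.nd (nat_lit 115) (Tr.lf (nat_lit 3))
(Tr.lf (nat_lit 4))))))
(Tr.nd (nat_lit 121) (Tr.nd (nat_lit 118) (Tr.nd (nat_lit 117) (Tr.lf (nat_lit 6))
(Tr.lf (nat_lit 6)))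
(Tr.nd (nat_lit 119) (Tr.lf (nat_lit 0))
(Tr.nd (nat_lit 120) (Tr.lf (nat_lit 6))
(Tr.lf (nat_lit 0)))))
(Tr.nd (nat_lit 124) (Tr.nd (nat_lit 122) (Tr.lf (nat_lit 3))
(Tr.nd (nat_lit 123) (Tr.lf (nat_lit 1))
(Tr.lf (nat_lit 5))))
(Tr.nd (nat_lit 125) (Tr.lf (nat_lit 4))
(Tr.nd (nat_lit 126) (Tr.lf (nat_lit 0))
(Tr.lf (nat_lit 4))))))))
(Tr.nd (nat_lit 148) (Tr.nd (nat_lit 137) (Tr.nd (nat_lit 132) (Tr.nd (nat_lit 129) (Tr.nd (nat_lit 128) (Tr.lf (nat_lit 1))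
(Tr.lf (nat_lit 3)))
(Tr.nd (nat_lit 130) (Tr.lf (nat_lit 4))
(Tr.nd (nat_lit 131) (Tr.lf (nat_lit 4))
(Tr.lf (nat_lit 4)))))
(Tr.nd (nat_lit 134) (Tr.nd (nat_lit 133) (Tr.lf (nat_lit 4))
(Tr.lf (nat_lit 8)))
(Tr.nd (nat_lit 135) (Tr.lf (nat_lit 3))
(Tr.nd (nat_lit 136) (Tr.lf (nat_lit 2))
(Tr.lf (nat_lit 7))))))
(Tr.nd (nat_lit 142) (Tr.nd (nat_lit 139) (Tr.nd (nat_lit 138) (Tr.lf (nat_lit 3))
(Tr.lf (nat_lit 1)))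
(Tr.nd (nat_lit 140) (Tr.lf (nat_lit 5))
(Tr.nd (nat_lit 141) (Tr.lf (nat_lit 5))
(Tr.lf (nat_lit 8)))))
(Tr.nd (nat_lit 145) (Tr.nd (nat_lit 143) (Tr.lf (nat_lit 3))
(Tr.nd (nat_lit 144) (Tr.lf (nat_lit 1))
(Tr.lf (nat_lit 3))))
(Tr.nd (nat_lit 146) (Tr.lf (nat_lit 0))
(Tr.nd (nat_lit 147) (Tr.lf (nat_lit 2))
(Tr.lf (nat_lit 3)))))))
(Tr.nd (nat_lit 159) (Tr.nd (nat_lit 153) (Tr.nd (nat_lit 150) (Tr.nd (nat_lit 149) (Tr.lf (nat_lit 8))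
(Tr.lf (nat_lit 7)))
(Tr.nd (nat_lit 151) (Tr.lf (nat_lit 7))
(Tr.nd (nat_lit 152) (Tr.lf (nat_lit 3))
(Tr.lf (nat_lit 4)))))
(Tr.nd (nat_lit 156) (Tr.nd (nat_lit 154) (Tr.lf (nat_lit 1))
(Tr.nd (nat_lit 155) (Tr.lf (nat_lit 3))
(Tr.lf (nat_lit 8))))
(Tr.nd (nat_lit 157) (Tr.lf (nat_lit 2))
(Tr.nd (nat_lit 158) (Tr.lf (nat_lit 7))
(Tr.lf (nat_lit 3))))))
(Tr.nd (nat_lit 164) (Tr.nd (nat_lit 161) (Tr.nd (nat_lit 160) (Tr.lf (nat_lit 3))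
(Tr.lf (nat_lit 7)))
(Tr.nd (nat_lit 162) (Tr.lf (nat_lit 8))
(Tr.nd (nat_lit 163) (Tr.lf (nat_lit 2))
(Tr.lf (nat_lit 1)))))
(Tr.nd (nat_lit 167) (Tr.nd (nat_lit 165) (Tr.lf (nat_lit 3))
(Tr.nd (nat_lit 166) (Tr.lf (nat_lit 8))
(Tr.lf (nat_lit 7))))
(Tr.nd (nat_lit 168) (Tr.lf (nat_lit 3))
(Tr.nd (nat_lit 169) (Tr.lf (nat_lit 5))
(Tr.lf (nat_lit 4))))))))))
theorem mini0_alt : Tr.all (altChk idx inv RW (SW0)) mini0A = true := by decide +kernel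
theorem mini0_chk : Tr.all (chkFc idx inv mini0S mini0A (fun b => Tr.find b mini0P) (fun b => Tr.find b mini0Q)) mini0S = true := by decide +kernel
theorem mini0_run : runM idx inv mini0S 591 0 [Mv.f (nat_lit 7), Mv.f (nat_lit 14), Mv.f (nat_lit 21), Mv.f (nat_lit 28), Mv.f (nat_lit 34), Mv.f (nat_lit 40), Mv.f (nat_lit 44), Mv.f (nat_lit 48), Mv.f (nat_lit 52), Mv.f (nat_lit 56), Mv.f (nat_lit 61), Mv.f (nat_lit 65), Mv.f (nat_lit 69), Mv.f (nat_lit 73), Mv.f (nat_lit 77), Mv.f (nat_lit 80), Mv.f (nat_lit 83), Mv.b (nat_lit 590), Mv.b (nat_lit 52), Mv.b (nat_lit 48), Mv.b (nat_lit 44), Mv.b (nat_lit 40), Mv.b (nat_lit 34), Mv.b (nat_lit 28), Mv.b (nat_lit 21), Mv.b (nat_lit 14), Mv.b (nat_lit 7)] [Col.a, Col.b, Col.c, Col.d, Col.e, Col.h, Col.d, Col.c, Col.b, Col.a, Col.i, Col.h, Col.d, Col.c,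 Col.e, Col.d, Col.h, Col.i, Col.b, Col.c, Col.d, Col.h, Col.e, Col.d, Col.c, Col.b, Col.a] 0 = true := by decide +kernel
theorem mini0_fix {G X : Type*} [Group G] [MulAction G X] (g : Col → G) (x0 : X) (hinv : ∀ c, g (inv c) = (g c)⁻¹)
    (hRW : ∀ w ∈ RW, gw g w = 1) (hSW : ∀ w ∈ SW0, gw g w • x0 = x0) : gw g [Col.a, Col.b, Col.c, Col.d, Col.e, Col.h, Col.d, Col.c, Col.b, Col.a, Col.i, Col.h, Col.d, Col.c, Col.e, Col.d, Col.h, Col.i, Col.b, Col.c, Col.d, Col.h, Col.e, Col.d, Col.c, Col.b, Col.a] • x0 = x0 :=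
  mini_sound g x0 dec hdec hinv
    (fun a ha => altChk_sound g x0 dec hdec hinv hRW hSW ((Tr.all_iff _ _).1 mini0_alt a ha)) mini0_chk mini0_run
end CfsgLib.TCFi23b
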