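import Cfsg.Agent.EqBase
import Cfsg.Agent.LibTCFi23bD
set_option autoImplicit false
set_option linter.all false
set_option maxRecDepth 1000000
set_option maxHeartbeats 0
namespace CfsgLib.TCFi23b
open CfsgLib.TC Cfsg.Spor
theorem ce_0_0 : Tr.all CE_0 L_0 = true := by decide +kernel
theorem ce_0_1 : Tr.all CE_0 L_1 = true := by decide +kernel
theorem ce_0_2 : Tr.all CE_0 L_2 = true := by decide +kernel
theorem ce_1_0 : Tr.all CE_1 L_0 = true := by decide +kernel
theorem ce_1_1 : Tr.all CE_1 L_1 = true := by decide +kernel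
theorem ce_1_2 : Tr.all CE_1 L_2 = true := by decide +kernel
theorem ce_0_3 : Tr.all CE_0 L_3 = true := by decide +kernel
theorem ce_1_3 : Tr.all CE_1 L_3 = true := by decide +kernel
theorem bs_0 : bst L_0 262144 (2 * 262144) = true := by decide +kernel
theorem bs_1 : bst L_1 262144 (2 * 262144) = true := by decide +kernel
theorem bs_2 : bst L_2 262144 (2 * 262144) = true := by decide +kernel
theorem pr_0 : prodT L_0 = MM_0 := by decide +kernel
theorem sz_0 : size L_0 = 4096 := by decide +kernel
theorem pr_1 : prodT L_1 = MM_1 := by decide +kernel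
theorem sz_1 : size L_1 = 4096 := by decide +kernel
theorem pr_2 : prodT L_2 = MM_2 := by decide +kernel
theorem sz_2 : size L_2 = 4096 := by decide +kernel
theorem bs_3 : bst L_3 262144 (2 * 262144) = true := by decide +kernel
theorem pr_3 : prodT L_3 = MM_3 := by decide +kernel
theorem sz_3 : size L_3 = 1792 := by decide +kernel
theorem gc_0 : Nat.gcd MM_0 (prodTo 725) = 1 := by decide +kernel
theorem gc_1 : Nat.gcd MM_1 (prodTo 725) = 1 := by decide +kernel
theorem gc_2 : Nat.gcd MM_2 (prodTo 725) = 1 := by decide +kernel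
theorem gc_3 : Nat.gcd MM_3 (prodTo 725) = 1 := by decide +kernel
end CfsgLib.TCFi23b
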