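import Cfsg.Agent.EqBase
import Cfsg.Agent.LibTC2
import Cfsg.Agent.LibTCGFi23
set_option autoImplicit false
set_option linter.all false
set_option maxRecDepth 1000000
set_option maxHeartbeats 0
namespace CfsgLib.TCFi23d
open CfsgLib.TC Cfsg.Spor
inductive Col where
  | b
  | c
  | d
  | e
  | f
  | g
  | h
noncomputable def idx : Col → ℕ := fun c => Col.rec (motive := fun _ => ℕ) 0 1 2 3 4 5 6 c
noncomputable def inv : Col → Col := fun c => Col.rec (motive := fun _ => Col) .b .c .d .e .f .g .h c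
def dec : ℕ → Col := fun n => if n = 0 then .b else if n = 1 then .c else if n = 2 then .d else if n = 3 then .e else if n = 4 then .f else if n = 5 then .g else .h
theorem hdec : ∀ c, dec (idx c) = c := by intro c; cases c <;> rfl
theorem inv_inv : ∀ c, inv (inv c) = c := by intro c; cases c <;> rfl
def cols : List Col := [Col.b, Col.c, Col.d, Col.e, Col.f, Col.g, Col.h]
theorem hcols : ∀ c, c ∈ cols := by intro c; cases c <;> simp [cols]
/-- relators as path words (first letter acts first) -/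
noncomputable def RWb : List (List Col) := [[Col.b, Col.b],
  [Col.c, Col.b, Col.c, Col.b, Col.c, Col.b],
  [Col.d, Col.b, Col.d, Col.b],
  [Col.e, Col.b, Col.e, Col.b],
  [Col.f, Col.b, Col.f, Col.b],
  [Col.g, Col.b, Col.g, Col.b],
  [Col.h, Col.b, Col.h, Col.b],
  [Col.c, Col.c],
  [Col.d, Col.c, Col.d, Col.c, Col.d, Col.c],
  [Col.e, Col.c, Col.e, Col.c],
  [Col.f, Col.c, Col.f, Col.c],
  [Col.g, Col.c, Col.g, Col.c],
  [Col.h, Col.c, Col.h, Col.c],
  [Col.d, Col.d],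
  [Col.e, Col.d, Col.e, Col.d, Col.e, Col.d],
  [Col.f, Col.d, Col.f, Col.d],
  [Col.g, Col.d, Col.g, Col.d],
  [Col.h, Col.d, Col.h, Col.d, Col.h, Col.d],
  [Col.e, Col.e],
  [Col.f, Col.e, Col.f, Col.e, Col.f, Col.e],
  [Col.g, Col.e, Col.g, Col.e],
  [Col.h, Col.e, Col.h, Col.e],
  [Col.f, Col.f],
  [Col.g, Col.f, Col.g, Col.f, Col.g, Col.f],
  [Col.h, Col.f, Col.h, Col.f],
  [Col.g, Col.g],
  [Col.h, Col.g, Col.h, Col.g],
  [Col.h, Col.h]]
noncomputable def RWe : List (List Col) := []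
noncomputable def RW : List (List Col) := [[Col.b, Col.b],
  [Col.c, Col.b, Col.c, Col.b, Col.c, Col.b],
  [Col.d, Col.b, Col.d, Col.b],
  [Col.e, Col.b, Col.e, Col.b],
  [Col.f, Col.b, Col.f, Col.b],
  [Col.g, Col.b, Col.g, Col.b],
  [Col.h, Col.b, Col.h, Col.b],
  [Col.c, Col.c],
  [Col.d, Col.c, Col.d, Col.c, Col.d, Col.c],
  [Col.e, Col.c, Col.e, Col.c],
  [Col.f, Col.c, Col.f, Col.c],
  [Col.g, Col.c, Col.g, Col.c],
  [Col.h, Col.c, Col.h, Col.c],
  [Col.d, Col.d],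
  [Col.e, Col.d, Col.e, Col.d, Col.e, Col.d],
  [Col.f, Col.d, Col.f, Col.d],
  [Col.g, Col.d, Col.g, Col.d],
  [Col.h, Col.d, Col.h, Col.d, Col.h, Col.d],
  [Col.e, Col.e],
  [Col.f, Col.e, Col.f, Col.e, Col.f, Col.e],
  [Col.g, Col.e, Col.g, Col.e],
  [Col.h, Col.e, Col.h, Col.e],
  [Col.f, Col.f],
  [Col.g, Col.f, Col.g, Col.f, Col.g, Col.f],
  [Col.h, Col.f, Col.h, Col.f],
  [Col.g, Col.g],
  [Col.h, Col.g, Col.h, Col.g],
  [Col.h, Col.h]]
theorem rw_mem : ∀ w ∈ RW, w ∈ RWb ∨ w ∈ RWe := fun w hw => Or.inl hw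
def emb : Col → TCG_Fi23.Col
  | .b => .b
  | .c => .c
  | .d => .d
  | .e => .e
  | .f => .f
  | .g => .g
  | .h => .h
theorem emb_inv : ∀ c, emb (inv c) = TCG_Fi23.inv (emb c) := by intro c; cases c <;> rfl
def RI : List ℕ := [10, 11, 12, 13, 14, 15, 17, 19, 20, 21, 22, 23, 25, 27, 28, 29, 30, 32, 34, 35, 36, 38, 40, 41, 43, 45, 47, 52]
theorem ri_chk : lleq TCG_Fi23.idx (mapR (nthR TCG_Fi23.RW) RI) (mapR (mapR emb) RWb) = true := by decide +kernel
/-- the family of generators -/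
def Pc {G : Type*} [Group G] (f : Fi23.Gen → G) (c : Col) : G := TCG_Fi23.Pc f (emb c)
theorem Pc_inv {G : Type*} [Group G] {f : Fi23.Gen → G} (hs : Sat Fi23.edges Fi23.extra f) (c : Col) : Pc f (inv c) = (Pc f c)⁻¹ := by
  rw [Pc, emb_inv]; exact TCG_Fi23.Pc_inv hs _
theorem Pc_RW {G : Type*} [Group G] {f : Fi23.Gen → G} (hs : Sat Fi23.edges Fi23.extra f) : ∀ w ∈ RWb, gw (Pc f) w = 1 :=
  rw_sub TCG_Fi23.dec TCG_Fi23.hdec emb RI ri_chk (TCG_Fi23.Pc f) (TCG_Fi23.Pc_RW hs)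
theorem Pc_RW' {G : Type*} [Group G] {f : Fi23.Gen → G} (hs : Sat Fi23.edges Fi23.extra f) (he : ∀ w ∈ RWe, gw (Pc f) w = 1) : ∀ w ∈ RW, gw (Pc f) w = 1 :=
  fun w hw => (rw_mem w hw).elim (Pc_RW hs w) (he w)
noncomputable def SW0 : List (List Col) := [[Col.b], [Col.c], [Col.d], [Col.e], [Col.f], [Col.h]]
noncomputable def T_b : ℕ := (nat_lit 0x3271e62a98c4ccd2d08e3f191b93bf883e6db4c624a09bdc9196edeaa3724c863aa1f15f8b89b9bf1b28f0fcc0fc36094c285166ca9d109d40ecc986159397acc45a3ec31cccfde5)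
noncomputable def T_c : ℕ := (nat_lit 0x2d41c0698da9db0740888ca296133c86e2d1920014e3c2d23c70ec62deb8dd3f59ff588aa7ddea9daa4022812a4d7d64ef07a7642abed134f0d2c09400600178dfa3431c205ffd0c)
noncomputable def T_d : ℕ := (nat_lit 0x16ebfc7aa14728fa92ce263fa21b3b688a519b8d078d43de0c31cf99aad5a074920a34bacd7a19b82966b10f2c99eef8790e07db5094395022c3f0577c462e2032520983b11c141c)
noncomputable def T_e : ℕ := (nat_lit 0x327e90f8b3da3437e0a8f63a7a68657ee35f530ee7b9425548448367517c03a4d8572524832ded2cd82c2805438e4299d401f0cf9fbe8aa9dd6d3c89f84ac33eee39c262db07823f)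
noncomputable def T_f : ℕ := (nat_lit 0x44947506059c5ade9870c04b3f603d8d5135eed893aa150f1c78bba745073d3869e1600e6e0159e7c4fd2cad693be8c3237f323df6717bc29dc791dcc6738230a19cdd008269eb36)
noncomputable def T_g : ℕ := (nat_lit 0x4324126f6d1e2d2593bdca30b252fc833dcf5533b457489be7bd56484b046a149956f2795e7ef44248da30f67a2844240959ed3290ac59d138fbd9496d665fc8d2363355f2e058d1)
noncomputable def T_h : ℕ := (nat_lit 0x40cd1753730e036e53c334d81cbd6a745f65618c92edd28abb0d08dfde3e8ea006be1d4a958c57c44d004117541642c20b8ad6012a557dcb87f0094d5a74c38cc3c8ea47e3dceaa1)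
noncomputable def U_b : ℕ := (nat_lit 0x44f92ec059a6458bfbcdf3c5f4d4a9f457321bec3ddbde9c82965ce3129ae7fe08eb5cfda10bf1b04075f789ceb8756c5d7e331338b74fc0f39cc6581e84db117c1f5b2d77bcd6f4)
noncomputable def U_c : ℕ := (nat_lit 0x1c4b0591959310ac5a0e5423666170570be6cdb233369e1e827d6614975f1c604f95e24c1dd29001f837ae35b67563c6d1b05e5b7f764e2868d0b68c580a2de1612b0d6dc5d2ac95)
noncomputable def U_d : ℕ := (nat_lit 0x433b8699d40d98353c7eab44e4c09ab5760409fe2d2f86af4d04ac3f4492d4e60261573a6f5a3c464d0a9a3984a74fdd26ca1f38a4e65537db2329b66baa1da44b5d036ea94a0072)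
noncomputable def U_e : ℕ := (nat_lit 0x183615b3197f3c3dd71295d5badc7a2a73ee60d54d57b320776012939d58c0ee90bd78f4d9c67a4c701277ddfe1d23d680864a04b3b1f36a84f00265f1e9362c632b1091b6b6fc91)
noncomputable def U_f : ℕ := (nat_lit 0x135044f4dbcb457c0718c9a5c09c0752d2c5d5fae4b05724499f6deae44b9c72da2a5860862d32ade2d7320b805422061f5989710aba99534f174b74834e1083d681c934ce6c88e6)
noncomputable def U_g : ℕ := (nat_lit 0x22f637e6032115a289cab041884e2f848b76c80f4b6dde15632edc90e9b7ecac6d3011059b3a8a30af2a4814906e7edc810753e7037c112a93be9aacea8ab68ad3093759c7f06cb4)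
noncomputable def U_h : ℕ := (nat_lit 0x1d0b03e7635521bc705c2bb05bcf81e1c4651dcb40af09a23e00394fb7ffa80a2a03a24b4179d3c45c4765a42c56baa99aab762e31865fcefa064a4b5a76b46ef1a3dd5af1d81a37)
noncomputable def V_b : ℕ := (nat_lit 0x3559b6a747f469d9aff87b9b55943d9039e4f34936223461ddaa27d9f2b184814b3ad97e8eaea357ad0937cc874ebb7472137f39956602e959d137f4c75d3672e3f53e2333d88253)
noncomputable def V_c : ℕ := (nat_lit 0x292fdbdc60663968d064defe31e2e4f608d88d91c20ce85bac42336f57307bec0b0e5f782579362c37ec9d3c42997f997f8ff1d25aa871af8aeb51c06c31d7b5639be06f0c332cf)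
noncomputable def V_d : ℕ := (nat_lit 0x43f7c295f5445a8f1ba24ba8565d46199cd0ffd4b83bfb187fbf6e42fe3d8c7d39c6c5d7c273bacc14476842a0d1de7370677c3da9c5e6838dc1481b91498686d285052bc43913a7)
noncomputable def V_e : ℕ := (nat_lit 0x2703fd92ab513405baa61d3096d6563214d7d4a8821d2303d4a21de46f7a921d343dffeca19e844602effd1f0f05eaf84881ec1c9b812433289d327ba6ea55d5f60e492d0629e0f4)
noncomputable def V_f : ℕ := (nat_lit 0x3da77c55712e32d2b151f054020f0a1553a890c6bd538b9e1ac561989131f5b3f6512eb5a728ea2e095d006e445a184a1a6cd0699b02691005ba0edd80fb9fdbdf8444e3ed18f4d3)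
noncomputable def V_g : ℕ := (nat_lit 0x2304ce7ad61bd4659e594012b61f8e7703d480a885e57ad112d157da53907d51dc250f484e5b398f12936224ca2010ec3560950be873feb441d48382b5cd73a96f699683815309fe)
noncomputable def V_h : ℕ := (nat_lit 0x234ced7be69499f4a694dd93f9bc23f0d351f280d25a1f4b8bd4830b3398128a85e924afc1c50600d6881f0887f7efc4ed56d1c1f372eb5d02b3d52422dee9055123e9252b5fa237)
noncomputable def PP : ℕ := (nat_lit 0xd1ca1aff9d19d578df5acb4ac0b5fd1ef137b9fd2cb399dc3329b119c9fb2d770c386ad00241eb4381052fb70c398035ba05aa63ecc14344c3faaaddfeffae3f2404bb5c3736316)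
noncomputable def DD : ℕ := (nat_lit 0xb64d192f8409eeabf063b7c8298cc3fd6ee11d24313b5f2d55db331321d8b53e06550edb9ea7d90432487357ffcb160da13d870acd1296be0eaddb33d1405ec1b0a36c51db7f110)
noncomputable def MM : ℕ := (nat_lit 0x45bba4b3c3ae53622f9c8bd07ae841d64cc8ce01080d7d32080d9c001f1a3588719ecda0098de8a3a54f71bc429a8f8e8d96fb0c363a8ddd92b07cfec0672275efec6bac25e9b5db)
noncomputable def F_b (q : ℕ) : ℕ := Nat.add (nat_lit 1024) (Nat.mod T_b q)
noncomputable def G_b (t q : ℕ) : ℕ := Bool.rec (motive := fun _ => ℕ) (nat_lit 0) (F_b q) (Nat.ble (Nat.succ (Nat.mod U_b q)) t)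
noncomputable def F_c (q : ℕ) : ℕ := Nat.add (nat_lit 1024) (Nat.mod T_c q)
noncomputable def G_c (t q : ℕ) : ℕ := Bool.rec (motive := fun _ => ℕ) (nat_lit 0) (F_c q) (Nat.ble (Nat.succ (Nat.mod U_c q)) t)
noncomputable def F_d (q : ℕ) : ℕ := Nat.add (nat_lit 1024) (Nat.mod T_d q)
noncomputable def G_d (t q : ℕ) : ℕ := Bool.rec (motive := fun _ => ℕ) (nat_lit 0) (F_d q) (Nat.ble (Nat.succ (Nat.mod U_d q)) t)
noncomputable def F_e (q : ℕ) : ℕ := Nat.add (nat_lit 1024) (Nat.mod T_e q)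
noncomputable def G_e (t q : ℕ) : ℕ := Bool.rec (motive := fun _ => ℕ) (nat_lit 0) (F_e q) (Nat.ble (Nat.succ (Nat.mod U_e q)) t)
noncomputable def F_f (q : ℕ) : ℕ := Nat.add (nat_lit 1024) (Nat.mod T_f q)
noncomputable def G_f (t q : ℕ) : ℕ := Bool.rec (motive := fun _ => ℕ) (nat_lit 0) (F_f q) (Nat.ble (Nat.succ (Nat.mod U_f q)) t)
noncomputable def F_g (q : ℕ) : ℕ := Nat.add (nat_lit 1024) (Nat.mod T_g q)
noncomputable def G_g (t q : ℕ) : ℕ := Bool.rec (motive := fun _ => ℕ) (nat_lit 0) (F_g q) (Nat.ble (Nat.succ (Nat.mod U_g q)) t)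
noncomputable def F_h (q : ℕ) : ℕ := Nat.add (nat_lit 1024) (Nat.mod T_h q)
noncomputable def G_h (t q : ℕ) : ℕ := Bool.rec (motive := fun _ => ℕ) (nat_lit 0) (F_h q) (Nat.ble (Nat.succ (Nat.mod U_h q)) t)
theorem Fge_b (q : ℕ) : 1024 ≤ F_b q := Nat.le_add_right _ _
theorem Fge_c (q : ℕ) : 1024 ≤ F_c q := Nat.le_add_right _ _
theorem Fge_d (q : ℕ) : 1024 ≤ F_d q := Nat.le_add_right _ _
theorem Fge_e (q : ℕ) : 1024 ≤ F_e q := Nat.le_add_right _ _
theorem Fge_f (q : ℕ) : 1024 ≤ F_f q := Nat.le_add_right _ _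
theorem Fge_g (q : ℕ) : 1024 ≤ F_g q := Nat.le_add_right _ _
theorem Fge_h (q : ℕ) : 1024 ≤ F_h q := Nat.le_add_right _ _
attribute [irreducible] F_b F_c F_d F_e F_f F_g F_h
noncomputable def stp : Col → ℕ → ℕ := fun c => Col.rec (motive := fun _ => ℕ → ℕ) F_b F_c F_d F_e F_f F_g F_h c
noncomputable def tau : Col → ℕ → ℕ := fun c => Col.rec (motive := fun _ => ℕ → ℕ) (fun q => (Nat.mod U_b q)) (fun q => (Nat.mod U_c q)) (fun q => (Nat.mod U_d q)) (fun q => (Nat.mod U_e q)) (fun q => (Nat.mod U_f q)) (fun q => (Nat.mod U_g q)) (fun q => (Nat.mod U_h q)) c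
noncomputable def PT (q : ℕ) : ℕ := Nat.add (nat_lit 1024) (Nat.mod PP q)
noncomputable def DT (q : ℕ) : ℕ := (Nat.mod DD q)
noncomputable def MB (q : ℕ) : ℕ := MM
noncomputable def L : Tr ℕ := (Tr.nd (nat_lit 1229) (Tr.nd (nat_lit 1117) (Tr.nd (nat_lit 1069) (Tr.nd (nat_lit 1049) (Tr.nd (nat_lit 1033) (Tr.lf (nat_lit 1031)) (Tr.nd (nat_lit 1039) (Tr.lf (nat_lit 1033)) (Tr.lf (nat_lit 1039)))) (Tr.nd (nat_lit 1061) (Tr.nd (nat_lit 1051) (Tr.lf (nat_lit 1049)) (Tr.lf (nat_lit 1051))) (Tr.nd (nat_lit 1063) (Tr.lf (nat_lit 1061)) (Tr.lf (nat_lit 1063))))) (Tr.nd (nat_lit 1093) (Tr.nd (nat_lit 1087) (Tr.lf (nat_lit 1069)) (Tr.nd (nat_lit 1091) (Tr.lf (nat_lit 1087)) (Tr.lf (nat_lit 1091)))) (Tr.nd (nat_lit 1103) (Tr.nd (nat_lit 1097) (Tr.lf (nat_lit 1093)) (Tr.lf (nat_lit 1097))) (Tr.nd (nat_lit 1109) (Tr.lf (nat_lit 1103)) (Tr.lf (nat_lit 1109)))))) (Tr.nd (nat_lit 1181) (Tr.nd (nat_lit 1151) (Tr.nd (nat_lit 1123)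 (Tr.lf (nat_lit 1117)) (Tr.nd (nat_lit 1129) (Tr.lf (nat_lit 1123)) (Tr.lf (nat_lit 1129)))) (Tr.nd (nat_lit 1163) (Tr.nd (nat_lit 1153) (Tr.lf (nat_lit 1151)) (Tr.lf (nat_lit 1153))) (Tr.nd (nat_lit 1171) (Tr.lf (nat_lit 1163)) (Tr.lf (nat_lit 1171))))) (Tr.nd (nat_lit 1201) (Tr.nd (nat_lit 1187) (Tr.lf (nat_lit 1181)) (Tr.nd (nat_lit 1193) (Tr.lf (nat_lit 1187)) (Tr.lf (nat_lit 1193)))) (Tr.nd (nat_lit 1217) (Tr.nd (nat_lit 1213) (Tr.lf (nat_lit 1201)) (Tr.lf (nat_lit 1213))) (Tr.nd (nat_lit 1223) (Tr.lf (nat_lit 1217)) (Tr.lf (nat_lit 1223))))))) (Tr.nd (nat_lit 1319) (Tr.nd (nat_lit 1283) (Tr.nd (nat_lit 1249) (Tr.nd (nat_lit 1231) (Tr.lf (nat_lit 1229)) (Tr.nd (nat_lit 1237) (Tr.lf (nat_lit 1231)) (Tr.lf (nat_lit 1237)))) (Tr.nd (nat_lit 1277) (Tr.nd (nat_lit 1259) (Tr.lf (nat_lit 1249)) (Tr.lf (nat_lit 1259))) (Tr.nd (nat_lit 1279) (Tr.lf (nat_lit 1277)) (Tr.lf (nat_lit 1279))))) (Tr.nd (nat_lit 1297)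 (Tr.nd (nat_lit 1289) (Tr.lf (nat_lit 1283)) (Tr.nd (nat_lit 1291) (Tr.lf (nat_lit 1289)) (Tr.lf (nat_lit 1291)))) (Tr.nd (nat_lit 1303) (Tr.nd (nat_lit 1301) (Tr.lf (nat_lit 1297)) (Tr.lf (nat_lit 1301))) (Tr.nd (nat_lit 1307) (Tr.lf (nat_lit 1303)) (Tr.lf (nat_lit 1307)))))) (Tr.nd (nat_lit 1399) (Tr.nd (nat_lit 1361) (Tr.nd (nat_lit 1321) (Tr.lf (nat_lit 1319)) (Tr.nd (nat_lit 1327) (Tr.lf (nat_lit 1321)) (Tr.lf (nat_lit 1327)))) (Tr.nd (nat_lit 1373) (Tr.nd (nat_lit 1367) (Tr.lf (nat_lit 1361)) (Tr.lf (nat_lit 1367))) (Tr.nd (nat_lit 1381) (Tr.lf (nat_lit 1373)) (Tr.lf (nat_lit 1381))))) (Tr.nd (nat_lit 1427) (Tr.nd (nat_lit 1409) (Tr.lf (nat_lit 1399)) (Tr.nd (nat_lit 1423) (Tr.lf (nat_lit 1409)) (Tr.lf (nat_lit 1423)))) (Tr.nd (nat_lit 1433) (Tr.nd (nat_lit 1429) (Tr.lf (nat_lit 1427)) (Tr.lf (nat_lit 1429))) (Tr.nd (nat_lit 1439) (Tr.lf (nat_lit 1433)) (Tr.lf (nat_lit 1439))))))))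
abbrev q0 : ℕ := nat_lit 1031
noncomputable def E_0 (t q : ℕ) : Bool := Nat.beq (G_b t (F_b q)) q
noncomputable def a_0 : CfsgLib.TC.AG Col := .word .b 0 0 true [Col.b]
noncomputable def E_1 (t q : ℕ) : Bool := Nat.beq (G_h t (G_b t (G_h t (F_b q)))) q
noncomputable def a_1 : CfsgLib.TC.AG Col := .word .b 6 1 true [Col.h, Col.b, Col.h]
noncomputable def E_2 (t q : ℕ) : Bool := Nat.beq (G_d t (G_b t (G_d t (F_b q)))) q
noncomputable def a_2 : CfsgLib.TC.AG Col := .word .b 2 1 true [Col.d, Col.b, Col.d]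
noncomputable def E_3 (t q : ℕ) : Bool := Nat.beq (G_e t (G_b t (G_e t (F_b q)))) q
noncomputable def a_3 : CfsgLib.TC.AG Col := .word .b 3 1 true [Col.e, Col.b, Col.e]
noncomputable def E_4 (t q : ℕ) : Bool := Nat.beq (G_g t (G_b t (G_g t (F_b q)))) q
noncomputable def a_4 : CfsgLib.TC.AG Col := .word .b 5 1 true [Col.g, Col.b, Col.g]
noncomputable def E_5 (t q : ℕ) : Bool := Nat.beq (G_f t (G_b t (G_f t (F_b q)))) q
noncomputable def a_5 : CfsgLib.TC.AG Col := .word .b 4 1 true [Col.f, Col.b, Col.f]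
noncomputable def E_6 (t q : ℕ) : Bool := band (Nat.beq (PT (F_b q)) q) (band (Nat.beq (DT (F_b q)) 0) (band (Nat.ble (Nat.succ q) (F_b q)) (Nat.ble (Nat.succ q0) (F_b q))))
noncomputable def a_6 : CfsgLib.TC.AG Col := .tree .b
noncomputable def E_7 (t q : ℕ) : Bool := Nat.beq (G_c t (G_b t (G_c t (G_b t (G_c t (F_b q)))))) q
noncomputable def a_7 : CfsgLib.TC.AG Col := .word .b 1 1 true [Col.c, Col.b, Col.c, Col.b, Col.c]
noncomputable def E_8 (t q : ℕ) : Bool := band (Nat.beq q0 q) (Nat.beq (F_b q) q0)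
noncomputable def a_8 : CfsgLib.TC.AG Col := .base .b 0 [] []
noncomputable def D_b (q : ℕ) : Bool := (Bool.rec (motive := fun _ => Bool) (Bool.rec (motive := fun _ => Bool) (E_0 (Nat.mod U_b q) q) (E_1 (Nat.mod U_b q) q) (Nat.ble (nat_lit 1) (Nat.mod V_b q))) (Bool.rec (motive := fun _ => Bool) (Bool.rec (motive := fun _ => Bool) (E_2 (Nat.mod U_b q) q) (Bool.rec (motive := fun _ => Bool) (E_3 (Nat.mod U_b q) q) (E_4 (Nat.mod U_b q) q) (Nat.ble (nat_lit 4) (Nat.mod V_b q))) (Nat.ble (nat_lit 3) (Nat.mod V_b q))) (Bool.rec (motive := fun _ => Bool) (Bool.rec (motive := fun _ => Bool) (E_5 (Nat.mod U_b q) q) (E_6 (Nat.mod U_b q) q) (Nat.ble (nat_lit 6) (Nat.mod V_b q))) (Bool.rec (motive := fun _ => Bool) (E_7 (Nat.mod U_b q) q) (E_8 (Nat.mod U_b q) q) (Nat.ble (nat_lit 8) (Nat.mod V_b q))) (Nat.ble (nat_lit 7) (Nat.mod V_b q))) (Nat.ble (nat_lit 5) (Nat.mod V_b q))) (Nat.ble (nat_lit 2) (Nat.mod V_b q)))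
noncomputable def E_9 (t q : ℕ) : Bool := Nat.beq (G_c t (F_c q)) q
noncomputable def a_9 : CfsgLib.TC.AG Col := .word .c 7 0 true [Col.c]
noncomputable def E_10 (t q : ℕ) : Bool := Nat.beq (G_h t (G_c t (G_h t (F_c q)))) q
noncomputable def a_10 : CfsgLib.TC.AG Col := .word .c 12 1 true [Col.h, Col.c, Col.h]
noncomputable def E_11 (t q : ℕ) : Bool := Nat.beq (G_g t (G_c t (G_g t (F_c q)))) q
noncomputable def a_11 : CfsgLib.TC.AG Col := .word .c 11 1 true [Col.g, Col.c, Col.g]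
noncomputable def E_12 (t q : ℕ) : Bool := Nat.beq (G_f t (G_c t (G_f t (F_c q)))) q
noncomputable def a_12 : CfsgLib.TC.AG Col := .word .c 10 1 true [Col.f, Col.c, Col.f]
noncomputable def E_13 (t q : ℕ) : Bool := Nat.beq (G_e t (G_c t (G_e t (F_c q)))) q
noncomputable def a_13 : CfsgLib.TC.AG Col := .word .c 9 1 true [Col.e, Col.c, Col.e]
noncomputable def E_14 (t q : ℕ) : Bool := band (Nat.beq (PT (F_c q)) q) (band (Nat.beq (DT (F_c q)) 1) (band (Nat.ble (Nat.succ q) (F_c q)) (Nat.ble (Nat.succ q0) (F_c q))))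
noncomputable def a_14 : CfsgLib.TC.AG Col := .tree .c
noncomputable def E_15 (t q : ℕ) : Bool := Nat.beq (G_d t (G_c t (G_d t (G_c t (G_d t (F_c q)))))) q
noncomputable def a_15 : CfsgLib.TC.AG Col := .word .c 8 1 true [Col.d, Col.c, Col.d, Col.c, Col.d]
noncomputable def E_16 (t q : ℕ) : Bool := Nat.beq (G_b t (G_c t (G_b t (G_c t (G_b t (F_c q)))))) q
noncomputable def a_16 : CfsgLib.TC.AG Col := .word .c 1 0 true [Col.b, Col.c, Col.b, Col.c, Col.b]
noncomputable def E_17 (t q : ℕ) : Bool := band (Nat.beq q0 q) (Nat.beq (F_c q) q0)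
noncomputable def a_17 : CfsgLib.TC.AG Col := .base .c 1 [] []
noncomputable def D_c (q : ℕ) : Bool := (Bool.rec (motive := fun _ => Bool) (Bool.rec (motive := fun _ => Bool) (E_9 (Nat.mod U_c q) q) (E_10 (Nat.mod U_c q) q) (Nat.ble (nat_lit 1) (Nat.mod V_c q))) (Bool.rec (motive := fun _ => Bool) (Bool.rec (motive := fun _ => Bool) (E_11 (Nat.mod U_c q) q) (Bool.rec (motive := fun _ => Bool) (E_12 (Nat.mod U_c q) q) (E_13 (Nat.mod U_c q) q) (Nat.ble (nat_lit 4) (Nat.mod V_c q))) (Nat.ble (nat_lit 3) (Nat.mod V_c q))) (Bool.rec (motive := fun _ => Bool) (Bool.rec (motive := fun _ => Bool) (E_14 (Nat.mod U_c q) q) (E_15 (Nat.mod U_c q) q) (Nat.ble (nat_lit 6) (Nat.mod V_c q))) (Bool.rec (motive := fun _ => Bool) (E_16 (Nat.mod U_c q) q) (E_17 (Nat.mod U_c q) q) (Nat.ble (nat_lit 8) (Nat.mod V_c q))) (Nat.ble (nat_lit 7) (Nat.mod V_c q))) (Nat.ble (nat_lit 5) (Nat.mod V_c q))) (Nat.ble (nat_lit 2) (Nat.mod V_c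 q)))
noncomputable def E_18 (t q : ℕ) : Bool := Nat.beq (G_d t (F_d q)) q
noncomputable def a_18 : CfsgLib.TC.AG Col := .word .d 13 0 true [Col.d]
noncomputable def E_19 (t q : ℕ) : Bool := band (Nat.beq (PT (F_d q)) q) (band (Nat.beq (DT (F_d q)) 2) (band (Nat.ble (Nat.succ q) (F_d q)) (Nat.ble (Nat.succ q0) (F_d q))))
noncomputable def a_19 : CfsgLib.TC.AG Col := .tree .d
noncomputable def E_20 (t q : ℕ) : Bool := Nat.beq (G_b t (G_d t (G_b t (F_d q)))) q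
noncomputable def a_20 : CfsgLib.TC.AG Col := .word .d 2 0 true [Col.b, Col.d, Col.b]
noncomputable def E_21 (t q : ℕ) : Bool := Nat.beq (G_g t (G_d t (G_g t (F_d q)))) q
noncomputable def a_21 : CfsgLib.TC.AG Col := .word .d 16 1 true [Col.g, Col.d, Col.g]
noncomputable def E_22 (t q : ℕ) : Bool := Nat.beq (G_f t (G_d t (G_f t (F_d q)))) q
noncomputable def a_22 : CfsgLib.TC.AG Col := .word .d 15 1 true [Col.f, Col.d, Col.f]
noncomputable def E_23 (t q : ℕ) : Bool := Nat.beq (G_c t (G_d t (G_c t (G_d t (G_c t (F_d q)))))) q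
noncomputable def a_23 : CfsgLib.TC.AG Col := .word .d 8 0 true [Col.c, Col.d, Col.c, Col.d, Col.c]
noncomputable def E_24 (t q : ℕ) : Bool := Nat.beq (G_e t (G_d t (G_e t (G_d t (G_e t (F_d q)))))) q
noncomputable def a_24 : CfsgLib.TC.AG Col := .word .d 14 1 true [Col.e, Col.d, Col.e, Col.d, Col.e]
noncomputable def E_25 (t q : ℕ) : Bool := Nat.beq (G_h t (G_d t (G_h t (G_d t (G_h t (F_d q)))))) q
noncomputable def a_25 : CfsgLib.TC.AG Col := .word .d 17 1 true [Col.h, Col.d, Col.h, Col.d, Col.h]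
noncomputable def E_26 (t q : ℕ) : Bool := band (Nat.beq q0 q) (Nat.beq (F_d q) q0)
noncomputable def a_26 : CfsgLib.TC.AG Col := .base .d 2 [] []
noncomputable def D_d (q : ℕ) : Bool := (Bool.rec (motive := fun _ => Bool) (Bool.rec (motive := fun _ => Bool) (E_18 (Nat.mod U_d q) q) (E_19 (Nat.mod U_d q) q) (Nat.ble (nat_lit 1) (Nat.mod V_d q))) (Bool.rec (motive := fun _ => Bool) (Bool.rec (motive := fun _ => Bool) (E_20 (Nat.mod U_d q) q) (Bool.rec (motive := fun _ => Bool) (E_21 (Nat.mod U_d q) q) (E_22 (Nat.mod U_d q) q) (Nat.ble (nat_lit 4) (Nat.mod V_d q))) (Nat.ble (nat_lit 3) (Nat.mod V_d q))) (Bool.rec (motive := fun _ => Bool) (Bool.rec (motive := fun _ => Bool) (E_23 (Nat.mod U_d q) q) (E_24 (Nat.mod U_d q) q) (Nat.ble (nat_lit 6) (Nat.mod V_d q))) (Bool.rec (motive := fun _ => Bool) (E_25 (Nat.mod U_d q) q) (E_26 (Nat.mod U_d q) q) (Nat.ble (nat_lit 8) (Nat.mod V_d q))) (Nat.ble (nat_lit 7) (Nat.mod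 V_d q))) (Nat.ble (nat_lit 5) (Nat.mod V_d q))) (Nat.ble (nat_lit 2) (Nat.mod V_d q)))
noncomputable def E_27 (t q : ℕ) : Bool := Nat.beq (G_e t (F_e q)) q
noncomputable def a_27 : CfsgLib.TC.AG Col := .word .e 18 0 true [Col.e]
noncomputable def E_28 (t q : ℕ) : Bool := band (Nat.beq (PT (F_e q)) q) (band (Nat.beq (DT (F_e q)) 3) (band (Nat.ble (Nat.succ q) (F_e q)) (Nat.ble (Nat.succ q0) (F_e q))))
noncomputable def a_28 : CfsgLib.TC.AG Col := .tree .e
noncomputable def E_29 (t q : ℕ) : Bool := Nat.beq (G_c t (G_e t (G_c t (F_e q)))) q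
noncomputable def a_29 : CfsgLib.TC.AG Col := .word .e 9 0 true [Col.c, Col.e, Col.c]
noncomputable def E_30 (t q : ℕ) : Bool := Nat.beq (G_b t (G_e t (G_b t (F_e q)))) q
noncomputable def a_30 : CfsgLib.TC.AG Col := .word .e 3 0 true [Col.b, Col.e, Col.b]
noncomputable def E_31 (t q : ℕ) : Bool := Nat.beq (G_h t (G_e t (G_h t (F_e q)))) q
noncomputable def a_31 : CfsgLib.TC.AG Col := .word .e 21 1 true [Col.h, Col.e, Col.h]
noncomputable def E_32 (t q : ℕ) : Bool := Nat.beq (G_g t (G_e t (G_g t (F_e q)))) q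
noncomputable def a_32 : CfsgLib.TC.AG Col := .word .e 20 1 true [Col.g, Col.e, Col.g]
noncomputable def E_33 (t q : ℕ) : Bool := Nat.beq (G_d t (G_e t (G_d t (G_e t (G_d t (F_e q)))))) q
noncomputable def a_33 : CfsgLib.TC.AG Col := .word .e 14 0 true [Col.d, Col.e, Col.d, Col.e, Col.d]
noncomputable def E_34 (t q : ℕ) : Bool := Nat.beq (G_f t (G_e t (G_f t (G_e t (G_f t (F_e q)))))) q
noncomputable def a_34 : CfsgLib.TC.AG Col := .word .e 19 1 true [Col.f, Col.e, Col.f, Col.e, Col.f]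
noncomputable def E_35 (t q : ℕ) : Bool := band (Nat.beq q0 q) (Nat.beq (F_e q) q0)
noncomputable def a_35 : CfsgLib.TC.AG Col := .base .e 3 [] []
noncomputable def D_e (q : ℕ) : Bool := (Bool.rec (motive := fun _ => Bool) (Bool.rec (motive := fun _ => Bool) (E_27 (Nat.mod U_e q) q) (E_28 (Nat.mod U_e q) q) (Nat.ble (nat_lit 1) (Nat.mod V_e q))) (Bool.rec (motive := fun _ => Bool) (Bool.rec (motive := fun _ => Bool) (E_29 (Nat.mod U_e q) q) (Bool.rec (motive := fun _ => Bool) (E_30 (Nat.mod U_e q) q) (E_31 (Nat.mod U_e q) q) (Nat.ble (nat_lit 4) (Nat.mod V_e q))) (Nat.ble (nat_lit 3) (Nat.mod V_e q))) (Bool.rec (motive := fun _ => Bool) (Bool.rec (motive := fun _ => Bool) (E_32 (Nat.mod U_e q) q) (E_33 (Nat.mod U_e q) q) (Nat.ble (nat_lit 6) (Nat.mod V_e q))) (Bool.rec (motive := fun _ => Bool) (E_34 (Nat.mod U_e q) q) (E_35 (Nat.mod U_e q) q) (Nat.ble (nat_lit 8) (Nat.mod V_e q))) (Nat.ble (nat_lit 7) (Nat.mod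 V_e q))) (Nat.ble (nat_lit 5) (Nat.mod V_e q))) (Nat.ble (nat_lit 2) (Nat.mod V_e q)))
noncomputable def E_36 (t q : ℕ) : Bool := Nat.beq (G_f t (F_f q)) q
noncomputable def a_36 : CfsgLib.TC.AG Col := .word .f 22 0 true [Col.f]
noncomputable def E_37 (t q : ℕ) : Bool := Nat.beq (G_c t (G_f t (G_c t (F_f q)))) q
noncomputable def a_37 : CfsgLib.TC.AG Col := .word .f 10 0 true [Col.c, Col.f, Col.c]
noncomputable def E_38 (t q : ℕ) : Bool := Nat.beq (G_b t (G_f t (G_b t (F_f q)))) q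
noncomputable def a_38 : CfsgLib.TC.AG Col := .word .f 4 0 true [Col.b, Col.f, Col.b]
noncomputable def E_39 (t q : ℕ) : Bool := band (Nat.beq (PT (F_f q)) q) (band (Nat.beq (DT (F_f q)) 4) (band (Nat.ble (Nat.succ q) (F_f q)) (Nat.ble (Nat.succ q0) (F_f q))))
noncomputable def a_39 : CfsgLib.TC.AG Col := .tree .f
noncomputable def E_40 (t q : ℕ) : Bool := Nat.beq (G_d t (G_f t (G_d t (F_f q)))) q
noncomputable def a_40 : CfsgLib.TC.AG Col := .word .f 15 0 true [Col.d, Col.f, Col.d]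
noncomputable def E_41 (t q : ℕ) : Bool := Nat.beq (G_h t (G_f t (G_h t (F_f q)))) q
noncomputable def a_41 : CfsgLib.TC.AG Col := .word .f 24 1 true [Col.h, Col.f, Col.h]
noncomputable def E_42 (t q : ℕ) : Bool := Nat.beq (G_e t (G_f t (G_e t (G_f t (G_e t (F_f q)))))) q
noncomputable def a_42 : CfsgLib.TC.AG Col := .word .f 19 0 true [Col.e, Col.f, Col.e, Col.f, Col.e]
noncomputable def E_43 (t q : ℕ) : Bool := Nat.beq (G_g t (G_f t (G_g t (G_f t (G_g t (F_f q)))))) q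
noncomputable def a_43 : CfsgLib.TC.AG Col := .word .f 23 1 true [Col.g, Col.f, Col.g, Col.f, Col.g]
noncomputable def E_44 (t q : ℕ) : Bool := band (Nat.beq q0 q) (Nat.beq (F_f q) q0)
noncomputable def a_44 : CfsgLib.TC.AG Col := .base .f 4 [] []
noncomputable def D_f (q : ℕ) : Bool := (Bool.rec (motive := fun _ => Bool) (Bool.rec (motive := fun _ => Bool) (E_36 (Nat.mod U_f q) q) (E_37 (Nat.mod U_f q) q) (Nat.ble (nat_lit 1) (Nat.mod V_f q))) (Bool.rec (motive := fun _ => Bool) (Bool.rec (motive := fun _ => Bool) (E_38 (Nat.mod U_f q) q) (Bool.rec (motive := fun _ => Bool) (E_39 (Nat.mod U_f q) q) (E_40 (Nat.mod U_f q) q) (Nat.ble (nat_lit 4) (Nat.mod V_f q))) (Nat.ble (nat_lit 3) (Nat.mod V_f q))) (Bool.rec (motive := fun _ => Bool) (Bool.rec (motive := fun _ => Bool) (E_41 (Nat.mod U_f q) q) (E_42 (Nat.mod U_f q) q) (Nat.ble (nat_lit 6) (Nat.mod V_f q))) (Bool.rec (motive := fun _ => Bool) (E_43 (Nat.mod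 U_f q) q) (E_44 (Nat.mod U_f q) q) (Nat.ble (nat_lit 8) (Nat.mod V_f q))) (Nat.ble (nat_lit 7) (Nat.mod V_f q))) (Nat.ble (nat_lit 5) (Nat.mod V_f q))) (Nat.ble (nat_lit 2) (Nat.mod V_f q)))
noncomputable def E_45 (t q : ℕ) : Bool := Nat.beq (G_g t (F_g q)) q
noncomputable def a_45 : CfsgLib.TC.AG Col := .word .g 25 0 true [Col.g]
noncomputable def E_46 (t q : ℕ) : Bool := Nat.beq (G_c t (G_g t (G_c t (F_g q)))) q
noncomputable def a_46 : CfsgLib.TC.AG Col := .word .g 11 0 true [Col.c, Col.g, Col.c]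
noncomputable def E_47 (t q : ℕ) : Bool := Nat.beq (G_b t (G_g t (G_b t (F_g q)))) q
noncomputable def a_47 : CfsgLib.TC.AG Col := .word .g 5 0 true [Col.b, Col.g, Col.b]
noncomputable def E_48 (t q : ℕ) : Bool := band (Nat.beq (PT (F_g q)) q) (band (Nat.beq (DT (F_g q)) 5) (band (Nat.ble (Nat.succ q) (F_g q)) (Nat.ble (Nat.succ q0) (F_g q))))
noncomputable def a_48 : CfsgLib.TC.AG Col := .tree .g
noncomputable def E_49 (t q : ℕ) : Bool := Nat.beq (G_d t (G_g t (G_d t (F_g q)))) q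
noncomputable def a_49 : CfsgLib.TC.AG Col := .word .g 16 0 true [Col.d, Col.g, Col.d]
noncomputable def E_50 (t q : ℕ) : Bool := Nat.beq (G_e t (G_g t (G_e t (F_g q)))) q
noncomputable def a_50 : CfsgLib.TC.AG Col := .word .g 20 0 true [Col.e, Col.g, Col.e]
noncomputable def E_51 (t q : ℕ) : Bool := Nat.beq (G_h t (G_g t (G_h t (F_g q)))) q
noncomputable def a_51 : CfsgLib.TC.AG Col := .word .g 26 1 true [Col.h, Col.g, Col.h]
noncomputable def E_52 (t q : ℕ) : Bool := Nat.beq (G_f t (G_g t (G_f t (G_g t (G_f t (F_g q)))))) q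
noncomputable def a_52 : CfsgLib.TC.AG Col := .word .g 23 0 true [Col.f, Col.g, Col.f, Col.g, Col.f]
noncomputable def D_g (q : ℕ) : Bool := (Bool.rec (motive := fun _ => Bool) (Bool.rec (motive := fun _ => Bool) (E_45 (Nat.mod U_g q) q) (E_46 (Nat.mod U_g q) q) (Nat.ble (nat_lit 1) (Nat.mod V_g q))) (Bool.rec (motive := fun _ => Bool) (Bool.rec (motive := fun _ => Bool) (E_47 (Nat.mod U_g q) q) (Bool.rec (motive := fun _ => Bool) (E_48 (Nat.mod U_g q) q) (E_49 (Nat.mod U_g q) q) (Nat.ble (nat_lit 4) (Nat.mod V_g q))) (Nat.ble (nat_lit 3) (Nat.mod V_g q))) (Bool.rec (motive := fun _ => Bool) (E_50 (Nat.mod U_g q) q) (Bool.rec (motive := fun _ => Bool) (E_51 (Nat.mod U_g q) q) (E_52 (Nat.mod U_g q) q) (Nat.ble (nat_lit 7) (Nat.mod V_g q))) (Nat.ble (nat_lit 6) (Nat.mod V_g q))) (Nat.ble (nat_lit 5) (Nat.mod V_g q))) (Nat.ble (nat_lit 2) (Nat.mod V_g q)))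
noncomputable def E_53 (t q : ℕ) : Bool := band (Nat.beq (PT (F_h q)) q) (band (Nat.beq (DT (F_h q)) 6) (band (Nat.ble (Nat.succ q) (F_h q)) (Nat.ble (Nat.succ q0) (F_h q))))
noncomputable def a_53 : CfsgLib.TC.AG Col := .tree .h
noncomputable def E_54 (t q : ℕ) : Bool := Nat.beq (G_h t (F_h q)) q
noncomputable def a_54 : CfsgLib.TC.AG Col := .word .h 27 0 true [Col.h]
noncomputable def E_55 (t q : ℕ) : Bool := Nat.beq (G_b t (G_h t (G_b t (F_h q)))) q
noncomputable def a_55 : CfsgLib.TC.AG Col := .word .h 6 0 true [Col.b, Col.h, Col.b]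
noncomputable def E_56 (t q : ℕ) : Bool := Nat.beq (G_c t (G_h t (G_c t (F_h q)))) q
noncomputable def a_56 : CfsgLib.TC.AG Col := .word .h 12 0 true [Col.c, Col.h, Col.c]
noncomputable def E_57 (t q : ℕ) : Bool := Nat.beq (G_g t (G_h t (G_g t (F_h q)))) q
noncomputable def a_57 : CfsgLib.TC.AG Col := .word .h 26 0 true [Col.g, Col.h, Col.g]
noncomputable def E_58 (t q : ℕ) : Bool := Nat.beq (G_f t (G_h t (G_f t (F_h q)))) q
noncomputable def a_58 : CfsgLib.TC.AG Col := .word .h 24 0 true [Col.f, Col.h, Col.f]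
noncomputable def E_59 (t q : ℕ) : Bool := Nat.beq (G_e t (G_h t (G_e t (F_h q)))) q
noncomputable def a_59 : CfsgLib.TC.AG Col := .word .h 21 0 true [Col.e, Col.h, Col.e]
noncomputable def E_60 (t q : ℕ) : Bool := Nat.beq (G_d t (G_h t (G_d t (G_h t (G_d t (F_h q)))))) q
noncomputable def a_60 : CfsgLib.TC.AG Col := .word .h 17 0 true [Col.d, Col.h, Col.d, Col.h, Col.d]
noncomputable def E_61 (t q : ℕ) : Bool := band (Nat.beq q0 q) (Nat.beq (F_h q) q0)
noncomputable def a_61 : CfsgLib.TC.AG Col := .base .h 5 [] []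
noncomputable def D_h (q : ℕ) : Bool := (Bool.rec (motive := fun _ => Bool) (Bool.rec (motive := fun _ => Bool) (E_53 (Nat.mod U_h q) q) (E_54 (Nat.mod U_h q) q) (Nat.ble (nat_lit 1) (Nat.mod V_h q))) (Bool.rec (motive := fun _ => Bool) (Bool.rec (motive := fun _ => Bool) (E_55 (Nat.mod U_h q) q) (Bool.rec (motive := fun _ => Bool) (E_56 (Nat.mod U_h q) q) (E_57 (Nat.mod U_h q) q) (Nat.ble (nat_lit 4) (Nat.mod V_h q))) (Nat.ble (nat_lit 3) (Nat.mod V_h q))) (Bool.rec (motive := fun _ => Bool) (Bool.rec (motive := fun _ => Bool) (E_58 (Nat.mod U_h q) q) (E_59 (Nat.mod U_h q) q) (Nat.ble (nat_lit 6) (Nat.mod V_h q))) (Bool.rec (motive := fun _ => Bool) (E_60 (Nat.mod U_h q) q) (E_61 (Nat.mod U_h q) q) (Nat.ble (nat_lit 8) (Nat.mod V_h q))) (Nat.ble (nat_lit 7) (Nat.mod V_h q))) (Nat.ble (nat_lit 5) (Nat.mod V_h q))) (Nat.ble (nat_lit 2) (Nat.mod V_h q)))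
noncomputable def CK (q : ℕ) : Bool := (Bool.rec (motive := fun _ => Bool) false (Bool.rec (motive := fun _ => Bool) false (Bool.rec (motive := fun _ => Bool) false (Bool.rec (motive := fun _ => Bool) false (Bool.rec (motive := fun _ => Bool) false (Bool.rec (motive := fun _ => Bool) false (Bool.rec (motive := fun _ => Bool) false true (band (Nat.beq (Nat.mod (MB (F_h q)) (F_h q)) (nat_lit 0)) (band (Nat.ble (Nat.succ (F_h q)) (nat_lit 2048)) (Nat.beq (F_h (F_h q)) q)))) (band (Nat.beq (Nat.mod (MB (F_g q)) (F_g q)) (nat_lit 0)) (band (Nat.ble (Nat.succ (F_g q)) (nat_lit 2048)) (Nat.beq (F_g (F_g q)) q)))) (band (Nat.beq (Nat.mod (MB (F_f q)) (F_f q)) (nat_lit 0)) (band (Nat.ble (Nat.succ (F_f q)) (nat_lit 2048)) (Nat.beq (F_f (F_f q)) q)))) (band (Nat.beq (Nat.mod (MB (F_e q)) (F_e q)) (nat_lit 0)) (band (Nat.ble (Nat.succ (F_e q)) (nat_lit 2048)) (Nat.beq (F_e (F_e q)) q)))) (band (Nat.beq (Nat.mod (MB (F_d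 q)) (F_d q)) (nat_lit 0)) (band (Nat.ble (Nat.succ (F_d q)) (nat_lit 2048)) (Nat.beq (F_d (F_d q)) q)))) (band (Nat.beq (Nat.mod (MB (F_c q)) (F_c q)) (nat_lit 0)) (band (Nat.ble (Nat.succ (F_c q)) (nat_lit 2048)) (Nat.beq (F_c (F_c q)) q)))) (band (Nat.beq (Nat.mod (MB (F_b q)) (F_b q)) (nat_lit 0)) (band (Nat.ble (Nat.succ (F_b q)) (nat_lit 2048)) (Nat.beq (F_b (F_b q)) q))))
theorem ck_0 : Tr.all CK L = true := by decide +kernel
theorem ed_b_0 : Tr.all D_b L = true := by decide +kernel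
theorem ed_c_0 : Tr.all D_c L = true := by decide +kernel
theorem ed_d_0 : Tr.all D_d L = true := by decide +kernel
theorem ed_e_0 : Tr.all D_e L = true := by decide +kernel
theorem ed_f_0 : Tr.all D_f L = true := by decide +kernel
theorem ed_g_0 : Tr.all D_g L = true := by decide +kernel
theorem ed_h_0 : Tr.all D_h L = true := by decide +kernel
theorem bs_0 : bst L 1024 (2 * 1024) = true := by decide +kernel
theorem pr_0 : prodT L = MM := by decide +kernel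
theorem gc_0 : Nat.gcd MM (prodTo 46) = 1 := by decide +kernel
theorem bst_chk : bst L 1024 (2 * 1024) = true := by decide +kernel
theorem size_L : size L = 56 := by decide +kernel
theorem q0_mem : q0 ∈ L.toList := mem_sound (by decide +kernel)
theorem ck : Tr.all CK L = true := ck_0
theorem ed_b : Tr.all D_b L = true := ed_b_0
theorem ed_c : Tr.all D_c L = true := ed_c_0
theorem ed_d : Tr.all D_d L = true := ed_d_0
theorem ed_e : Tr.all D_e L = true := ed_e_0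
theorem ed_f : Tr.all D_f L = true := ed_f_0
theorem ed_g : Tr.all D_g L = true := ed_g_0
theorem ed_h : Tr.all D_h L = true := ed_h_0
theorem pl_0 : ∀ q ∈ L.toList, q.Prime := prime_labels bs_0 pr_0 gc_0 (by norm_num) (by norm_num)
theorem brecP {α : Type} {P : α → Prop} {x y : α} {b : Bool} (hx : P x) (hy : P y) : P (Bool.rec (motive := fun _ => α) x y b) := by
  cases b
  · exact hx
  · exact hy
theorem memM (x : ℕ) (h1 : 1024 ≤ x) (h2 : x < 2 * 1024) (h3 : MB x % x = 0) : x ∈ L.toList :=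
  ((fun h => (mem_of_mod bs_0 pr_0 pl_0 h1 h2 (by norm_num) h)) : (fun M => M % x = 0 → x ∈ L.toList) (MB x)) h3
theorem pos : ∀ q ∈ L.toList, q ≠ 0 := fun q hq h => by
  have := ((bst_sound L _ _ bst_chk).1 q hq).1
  omega
theorem stp_ge (c : Col) (q : ℕ) : 1024 ≤ stp c q := by
  cases c
  · exact Fge_b q
  · exact Fge_c q
  · exact Fge_d q
  · exact Fge_e q
  · exact Fge_f q
  · exact Fge_g q
  · exact Fge_h q
theorem closed : Closed L stp inv := by
  have key : ∀ q ∈ L.toList, ∀ c, band (Nat.beq (Nat.mod (MB (stp c q)) (stp c q)) 0) (band (Nat.ble (Nat.succ (stp c q)) 2048) (Nat.beq (stp (inv c) (stp c q)) q)) = true := by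
    intro q hq c
    exact (lall_iff (fun c => band (Nat.beq (Nat.mod (MB (stp c q)) (stp c q)) 0) (band (Nat.ble (Nat.succ (stp c q)) 2048) (Nat.beq (stp (inv c) (stp c q)) q))) cols).1 ((Tr.all_iff _ _).1 ck q hq) c (hcols c)
  refine ⟨fun q hq c => ?_, fun q hq c => ?_, inv_inv⟩
  · have h := key q hq c
    rw [band_iff, band_iff] at h
    exact memM _ (stp_ge c q) (by have := Nat.le_of_ble_eq_true h.2.1; omega) (Nat.eq_of_beq_eq_true h.1)
  · have h := key q hq c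
    rw [band_iff, band_iff] at h
    exact Nat.eq_of_beq_eq_true h.2.2
theorem nodup : L.toList.Nodup := ((bst_sound L _ _ bst_chk).2.imp (fun h => Nat.ne_of_lt h))
theorem card_L : Nat.card (Om L) = 56 := by rw [card_Om L nodup, ← size_eq, size_L]
theorem tau_lt (c : Col) {q : ℕ} (hq : 0 < q) : tau c q < q := by cases c <;> exact Nat.mod_lt _ hq
theorem tau_z : lall (fun c => Nat.ble 2048 (tau c 0)) cols = true := by decide +kernel
theorem hz : ∀ q ∈ L.toList, ∀ c c', tau c q ≤ tau c' 0 := by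
  intro q hq c c'
  have h1 := (bst_sound L _ _ bst_chk).1 q hq
  have h2 := tau_lt c (q := q) (by omega)
  have h3 := Nat.le_of_ble_eq_true ((lall_iff _ _).1 tau_z c' (hcols c'))
  omega
theorem ac_0 : agChk idx inv RW SW0 a_0 = true := by decide +kernel
theorem ac_1 : agChk idx inv RW SW0 a_1 = true := by decide +kernel
theorem ac_2 : agChk idx inv RW SW0 a_2 = true := by decide +kernel
theorem ac_3 : agChk idx inv RW SW0 a_3 = true := by decide +kernel
theorem ac_4 : agChk idx inv RW SW0 a_4 = true := by decide +kernel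
theorem ac_5 : agChk idx inv RW SW0 a_5 = true := by decide +kernel
theorem ac_6 : agChk idx inv RW SW0 a_6 = true := by decide +kernel
theorem ac_7 : agChk idx inv RW SW0 a_7 = true := by decide +kernel
theorem ac_8 : agChk idx inv RW SW0 a_8 = true := by decide +kernel
theorem ac_9 : agChk idx inv RW SW0 a_9 = true := by decide +kernel
theorem ac_10 : agChk idx inv RW SW0 a_10 = true := by decide +kernel
theorem ac_11 : agChk idx inv RW SW0 a_11 = true := by decide +kernel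
theorem ac_12 : agChk idx inv RW SW0 a_12 = true := by decide +kernel
theorem ac_13 : agChk idx inv RW SW0 a_13 = true := by decide +kernel
theorem ac_14 : agChk idx inv RW SW0 a_14 = true := by decide +kernel
theorem ac_15 : agChk idx inv RW SW0 a_15 = true := by decide +kernel
theorem ac_16 : agChk idx inv RW SW0 a_16 = true := by decide +kernel
theorem ac_17 : agChk idx inv RW SW0 a_17 = true := by decide +kernel
theorem ac_18 : agChk idx inv RW SW0 a_18 = true := by decide +kernel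
theorem ac_19 : agChk idx inv RW SW0 a_19 = true := by decide +kernel
theorem ac_20 : agChk idx inv RW SW0 a_20 = true := by decide +kernel
theorem ac_21 : agChk idx inv RW SW0 a_21 = true := by decide +kernel
theorem ac_22 : agChk idx inv RW SW0 a_22 = true := by decide +kernel
theorem ac_23 : agChk idx inv RW SW0 a_23 = true := by decide +kernel
theorem ac_24 : agChk idx inv RW SW0 a_24 = true := by decide +kernel
theorem ac_25 : agChk idx inv RW SW0 a_25 = true := by decide +kernel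
theorem ac_26 : agChk idx inv RW SW0 a_26 = true := by decide +kernel
theorem ac_27 : agChk idx inv RW SW0 a_27 = true := by decide +kernel
theorem ac_28 : agChk idx inv RW SW0 a_28 = true := by decide +kernel
theorem ac_29 : agChk idx inv RW SW0 a_29 = true := by decide +kernel
theorem ac_30 : agChk idx inv RW SW0 a_30 = true := by decide +kernel
theorem ac_31 : agChk idx inv RW SW0 a_31 = true := by decide +kernel
theorem ac_32 : agChk idx inv RW SW0 a_32 = true := by decide +kernel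
theorem ac_33 : agChk idx inv RW SW0 a_33 = true := by decide +kernel
theorem ac_34 : agChk idx inv RW SW0 a_34 = true := by decide +kernel
theorem ac_35 : agChk idx inv RW SW0 a_35 = true := by decide +kernel
theorem ac_36 : agChk idx inv RW SW0 a_36 = true := by decide +kernel
theorem ac_37 : agChk idx inv RW SW0 a_37 = true := by decide +kernel
theorem ac_38 : agChk idx inv RW SW0 a_38 = true := by decide +kernel
theorem ac_39 : agChk idx inv RW SW0 a_39 = true := by decide +kernel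
theorem ac_40 : agChk idx inv RW SW0 a_40 = true := by decide +kernel
theorem ac_41 : agChk idx inv RW SW0 a_41 = true := by decide +kernel
theorem ac_42 : agChk idx inv RW SW0 a_42 = true := by decide +kernel
theorem ac_43 : agChk idx inv RW SW0 a_43 = true := by decide +kernel
theorem ac_44 : agChk idx inv RW SW0 a_44 = true := by decide +kernel
theorem ac_45 : agChk idx inv RW SW0 a_45 = true := by decide +kernel
theorem ac_46 : agChk idx inv RW SW0 a_46 = true := by decide +kernel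
theorem ac_47 : agChk idx inv RW SW0 a_47 = true := by decide +kernel
theorem ac_48 : agChk idx inv RW SW0 a_48 = true := by decide +kernel
theorem ac_49 : agChk idx inv RW SW0 a_49 = true := by decide +kernel
theorem ac_50 : agChk idx inv RW SW0 a_50 = true := by decide +kernel
theorem ac_51 : agChk idx inv RW SW0 a_51 = true := by decide +kernel
theorem ac_52 : agChk idx inv RW SW0 a_52 = true := by decide +kernel
theorem ac_53 : agChk idx inv RW SW0 a_53 = true := by decide +kernel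
theorem ac_54 : agChk idx inv RW SW0 a_54 = true := by decide +kernel
theorem ac_55 : agChk idx inv RW SW0 a_55 = true := by decide +kernel
theorem ac_56 : agChk idx inv RW SW0 a_56 = true := by decide +kernel
theorem ac_57 : agChk idx inv RW SW0 a_57 = true := by decide +kernel
theorem ac_58 : agChk idx inv RW SW0 a_58 = true := by decide +kernel
theorem ac_59 : agChk idx inv RW SW0 a_59 = true := by decide +kernel
theorem ac_60 : agChk idx inv RW SW0 a_60 = true := by decide +kernel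
theorem ac_61 : agChk idx inv RW SW0 a_61 = true := by decide +kernel
theorem j_0 (q : ℕ) (h : E_0 (Nat.mod U_b q) q = true) : Just stp tau idx inv RW SW0 PT DT q0 .b q := ⟨a_0, ac_0, rfl, h⟩
theorem j_1 (q : ℕ) (h : E_1 (Nat.mod U_b q) q = true) : Just stp tau idx inv RW SW0 PT DT q0 .b q := ⟨a_1, ac_1, rfl, h⟩
theorem j_2 (q : ℕ) (h : E_2 (Nat.mod U_b q) q = true) : Just stp tau idx inv RW SW0 PT DT q0 .b q := ⟨a_2, ac_2, rfl, h⟩
theorem j_3 (q : ℕ) (h : E_3 (Nat.mod U_b q) q = true) : Just stp tau idx inv RW SW0 PT DT q0 .b q := ⟨a_3, ac_3, rfl, h⟩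
theorem j_4 (q : ℕ) (h : E_4 (Nat.mod U_b q) q = true) : Just stp tau idx inv RW SW0 PT DT q0 .b q := ⟨a_4, ac_4, rfl, h⟩
theorem j_5 (q : ℕ) (h : E_5 (Nat.mod U_b q) q = true) : Just stp tau idx inv RW SW0 PT DT q0 .b q := ⟨a_5, ac_5, rfl, h⟩
theorem j_6 (q : ℕ) (h : E_6 (Nat.mod U_b q) q = true) : Just stp tau idx inv RW SW0 PT DT q0 .b q := ⟨a_6, ac_6, rfl, h⟩
theorem j_7 (q : ℕ) (h : E_7 (Nat.mod U_b q) q = true) : Just stp tau idx inv RW SW0 PT DT q0 .b q := ⟨a_7, ac_7, rfl, h⟩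
theorem j_8 (q : ℕ) (h : E_8 (Nat.mod U_b q) q = true) : Just stp tau idx inv RW SW0 PT DT q0 .b q := ⟨a_8, ac_8, rfl, h⟩
theorem j_9 (q : ℕ) (h : E_9 (Nat.mod U_c q) q = true) : Just stp tau idx inv RW SW0 PT DT q0 .c q := ⟨a_9, ac_9, rfl, h⟩
theorem j_10 (q : ℕ) (h : E_10 (Nat.mod U_c q) q = true) : Just stp tau idx inv RW SW0 PT DT q0 .c q := ⟨a_10, ac_10, rfl, h⟩
theorem j_11 (q : ℕ) (h : E_11 (Nat.mod U_c q) q = true) : Just stp tau idx inv RW SW0 PT DT q0 .c q := ⟨a_11, ac_11, rfl, h⟩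
theorem j_12 (q : ℕ) (h : E_12 (Nat.mod U_c q) q = true) : Just stp tau idx inv RW SW0 PT DT q0 .c q := ⟨a_12, ac_12, rfl, h⟩
theorem j_13 (q : ℕ) (h : E_13 (Nat.mod U_c q) q = true) : Just stp tau idx inv RW SW0 PT DT q0 .c q := ⟨a_13, ac_13, rfl, h⟩
theorem j_14 (q : ℕ) (h : E_14 (Nat.mod U_c q) q = true) : Just stp tau idx inv RW SW0 PT DT q0 .c q := ⟨a_14, ac_14, rfl, h⟩
theorem j_15 (q : ℕ) (h : E_15 (Nat.mod U_c q) q = true) : Just stp tau idx inv RW SW0 PT DT q0 .c q := ⟨a_15, ac_15, rfl, h⟩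
theorem j_16 (q : ℕ) (h : E_16 (Nat.mod U_c q) q = true) : Just stp tau idx inv RW SW0 PT DT q0 .c q := ⟨a_16, ac_16, rfl, h⟩
theorem j_17 (q : ℕ) (h : E_17 (Nat.mod U_c q) q = true) : Just stp tau idx inv RW SW0 PT DT q0 .c q := ⟨a_17, ac_17, rfl, h⟩
theorem j_18 (q : ℕ) (h : E_18 (Nat.mod U_d q) q = true) : Just stp tau idx inv RW SW0 PT DT q0 .d q := ⟨a_18, ac_18, rfl, h⟩
theorem j_19 (q : ℕ) (h : E_19 (Nat.mod U_d q) q = true) : Just stp tau idx inv RW SW0 PT DT q0 .d q := ⟨a_19, ac_19, rfl, h⟩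
theorem j_20 (q : ℕ) (h : E_20 (Nat.mod U_d q) q = true) : Just stp tau idx inv RW SW0 PT DT q0 .d q := ⟨a_20, ac_20, rfl, h⟩
theorem j_21 (q : ℕ) (h : E_21 (Nat.mod U_d q) q = true) : Just stp tau idx inv RW SW0 PT DT q0 .d q := ⟨a_21, ac_21, rfl, h⟩
theorem j_22 (q : ℕ) (h : E_22 (Nat.mod U_d q) q = true) : Just stp tau idx inv RW SW0 PT DT q0 .d q := ⟨a_22, ac_22, rfl, h⟩
theorem j_23 (q : ℕ) (h : E_23 (Nat.mod U_d q) q = true) : Just stp tau idx inv RW SW0 PT DT q0 .d q := ⟨a_23, ac_23, rfl, h⟩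
theorem j_24 (q : ℕ) (h : E_24 (Nat.mod U_d q) q = true) : Just stp tau idx inv RW SW0 PT DT q0 .d q := ⟨a_24, ac_24, rfl, h⟩
theorem j_25 (q : ℕ) (h : E_25 (Nat.mod U_d q) q = true) : Just stp tau idx inv RW SW0 PT DT q0 .d q := ⟨a_25, ac_25, rfl, h⟩
theorem j_26 (q : ℕ) (h : E_26 (Nat.mod U_d q) q = true) : Just stp tau idx inv RW SW0 PT DT q0 .d q := ⟨a_26, ac_26, rfl, h⟩
theorem j_27 (q : ℕ) (h : E_27 (Nat.mod U_e q) q = true) : Just stp tau idx inv RW SW0 PT DT q0 .e q := ⟨a_27, ac_27, rfl, h⟩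
theorem j_28 (q : ℕ) (h : E_28 (Nat.mod U_e q) q = true) : Just stp tau idx inv RW SW0 PT DT q0 .e q := ⟨a_28, ac_28, rfl, h⟩
theorem j_29 (q : ℕ) (h : E_29 (Nat.mod U_e q) q = true) : Just stp tau idx inv RW SW0 PT DT q0 .e q := ⟨a_29, ac_29, rfl, h⟩
theorem j_30 (q : ℕ) (h : E_30 (Nat.mod U_e q) q = true) : Just stp tau idx inv RW SW0 PT DT q0 .e q := ⟨a_30, ac_30, rfl, h⟩
theorem j_31 (q : ℕ) (h : E_31 (Nat.mod U_e q) q = true) : Just stp tau idx inv RW SW0 PT DT q0 .e q := ⟨a_31, ac_31, rfl, h⟩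
theorem j_32 (q : ℕ) (h : E_32 (Nat.mod U_e q) q = true) : Just stp tau idx inv RW SW0 PT DT q0 .e q := ⟨a_32, ac_32, rfl, h⟩
theorem j_33 (q : ℕ) (h : E_33 (Nat.mod U_e q) q = true) : Just stp tau idx inv RW SW0 PT DT q0 .e q := ⟨a_33, ac_33, rfl, h⟩
theorem j_34 (q : ℕ) (h : E_34 (Nat.mod U_e q) q = true) : Just stp tau idx inv RW SW0 PT DT q0 .e q := ⟨a_34, ac_34, rfl, h⟩
theorem j_35 (q : ℕ) (h : E_35 (Nat.mod U_e q) q = true) : Just stp tau idx inv RW SW0 PT DT q0 .e q := ⟨a_35, ac_35, rfl, h⟩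
theorem j_36 (q : ℕ) (h : E_36 (Nat.mod U_f q) q = true) : Just stp tau idx inv RW SW0 PT DT q0 .f q := ⟨a_36, ac_36, rfl, h⟩
theorem j_37 (q : ℕ) (h : E_37 (Nat.mod U_f q) q = true) : Just stp tau idx inv RW SW0 PT DT q0 .f q := ⟨a_37, ac_37, rfl, h⟩
theorem j_38 (q : ℕ) (h : E_38 (Nat.mod U_f q) q = true) : Just stp tau idx inv RW SW0 PT DT q0 .f q := ⟨a_38, ac_38, rfl, h⟩
theorem j_39 (q : ℕ) (h : E_39 (Nat.mod U_f q) q = true) : Just stp tau idx inv RW SW0 PT DT q0 .f q := ⟨a_39, ac_39, rfl, h⟩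
theorem j_40 (q : ℕ) (h : E_40 (Nat.mod U_f q) q = true) : Just stp tau idx inv RW SW0 PT DT q0 .f q := ⟨a_40, ac_40, rfl, h⟩
theorem j_41 (q : ℕ) (h : E_41 (Nat.mod U_f q) q = true) : Just stp tau idx inv RW SW0 PT DT q0 .f q := ⟨a_41, ac_41, rfl, h⟩
theorem j_42 (q : ℕ) (h : E_42 (Nat.mod U_f q) q = true) : Just stp tau idx inv RW SW0 PT DT q0 .f q := ⟨a_42, ac_42, rfl, h⟩
theorem j_43 (q : ℕ) (h : E_43 (Nat.mod U_f q) q = true) : Just stp tau idx inv RW SW0 PT DT q0 .f q := ⟨a_43, ac_43, rfl, h⟩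
theorem j_44 (q : ℕ) (h : E_44 (Nat.mod U_f q) q = true) : Just stp tau idx inv RW SW0 PT DT q0 .f q := ⟨a_44, ac_44, rfl, h⟩
theorem j_45 (q : ℕ) (h : E_45 (Nat.mod U_g q) q = true) : Just stp tau idx inv RW SW0 PT DT q0 .g q := ⟨a_45, ac_45, rfl, h⟩
theorem j_46 (q : ℕ) (h : E_46 (Nat.mod U_g q) q = true) : Just stp tau idx inv RW SW0 PT DT q0 .g q := ⟨a_46, ac_46, rfl, h⟩
theorem j_47 (q : ℕ) (h : E_47 (Nat.mod U_g q) q = true) : Just stp tau idx inv RW SW0 PT DT q0 .g q := ⟨a_47, ac_47, rfl, h⟩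
theorem j_48 (q : ℕ) (h : E_48 (Nat.mod U_g q) q = true) : Just stp tau idx inv RW SW0 PT DT q0 .g q := ⟨a_48, ac_48, rfl, h⟩
theorem j_49 (q : ℕ) (h : E_49 (Nat.mod U_g q) q = true) : Just stp tau idx inv RW SW0 PT DT q0 .g q := ⟨a_49, ac_49, rfl, h⟩
theorem j_50 (q : ℕ) (h : E_50 (Nat.mod U_g q) q = true) : Just stp tau idx inv RW SW0 PT DT q0 .g q := ⟨a_50, ac_50, rfl, h⟩
theorem j_51 (q : ℕ) (h : E_51 (Nat.mod U_g q) q = true) : Just stp tau idx inv RW SW0 PT DT q0 .g q := ⟨a_51, ac_51, rfl, h⟩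
theorem j_52 (q : ℕ) (h : E_52 (Nat.mod U_g q) q = true) : Just stp tau idx inv RW SW0 PT DT q0 .g q := ⟨a_52, ac_52, rfl, h⟩
theorem j_53 (q : ℕ) (h : E_53 (Nat.mod U_h q) q = true) : Just stp tau idx inv RW SW0 PT DT q0 .h q := ⟨a_53, ac_53, rfl, h⟩
theorem j_54 (q : ℕ) (h : E_54 (Nat.mod U_h q) q = true) : Just stp tau idx inv RW SW0 PT DT q0 .h q := ⟨a_54, ac_54, rfl, h⟩
theorem j_55 (q : ℕ) (h : E_55 (Nat.mod U_h q) q = true) : Just stp tau idx inv RW SW0 PT DT q0 .h q := ⟨a_55, ac_55, rfl, h⟩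
theorem j_56 (q : ℕ) (h : E_56 (Nat.mod U_h q) q = true) : Just stp tau idx inv RW SW0 PT DT q0 .h q := ⟨a_56, ac_56, rfl, h⟩
theorem j_57 (q : ℕ) (h : E_57 (Nat.mod U_h q) q = true) : Just stp tau idx inv RW SW0 PT DT q0 .h q := ⟨a_57, ac_57, rfl, h⟩
theorem j_58 (q : ℕ) (h : E_58 (Nat.mod U_h q) q = true) : Just stp tau idx inv RW SW0 PT DT q0 .h q := ⟨a_58, ac_58, rfl, h⟩
theorem j_59 (q : ℕ) (h : E_59 (Nat.mod U_h q) q = true) : Just stp tau idx inv RW SW0 PT DT q0 .h q := ⟨a_59, ac_59, rfl, h⟩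
theorem j_60 (q : ℕ) (h : E_60 (Nat.mod U_h q) q = true) : Just stp tau idx inv RW SW0 PT DT q0 .h q := ⟨a_60, ac_60, rfl, h⟩
theorem j_61 (q : ℕ) (h : E_61 (Nat.mod U_h q) q = true) : Just stp tau idx inv RW SW0 PT DT q0 .h q := ⟨a_61, ac_61, rfl, h⟩
theorem jc_b (q : ℕ) (h : D_b q = true) : Just stp tau idx inv RW SW0 PT DT q0 .b q := (brec (brec (j_0 q) (j_1 q)) (brec (brec (j_2 q) (brec (j_3 q) (j_4 q))) (brec (brec (j_5 q) (j_6 q)) (brec (j_7 q) (j_8 q))))) h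
theorem jc_c (q : ℕ) (h : D_c q = true) : Just stp tau idx inv RW SW0 PT DT q0 .c q := (brec (brec (j_9 q) (j_10 q)) (brec (brec (j_11 q) (brec (j_12 q) (j_13 q))) (brec (brec (j_14 q) (j_15 q)) (brec (j_16 q) (j_17 q))))) h
theorem jc_d (q : ℕ) (h : D_d q = true) : Just stp tau idx inv RW SW0 PT DT q0 .d q := (brec (brec (j_18 q) (j_19 q)) (brec (brec (j_20 q) (brec (j_21 q) (j_22 q))) (brec (brec (j_23 q) (j_24 q)) (brec (j_25 q) (j_26 q))))) h
theorem jc_e (q : ℕ) (h : D_e q = true) : Just stp tau idx inv RW SW0 PT DT q0 .e q := (brec (brec (j_27 q) (j_28 q)) (brec (brec (j_29 q) (brec (j_30 q) (j_31 q))) (brec (brec (j_32 q) (j_33 q)) (brec (j_34 q) (j_35 q))))) h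
theorem jc_f (q : ℕ) (h : D_f q = true) : Just stp tau idx inv RW SW0 PT DT q0 .f q := (brec (brec (j_36 q) (j_37 q)) (brec (brec (j_38 q) (brec (j_39 q) (j_40 q))) (brec (brec (j_41 q) (j_42 q)) (brec (j_43 q) (j_44 q))))) h
theorem jc_g (q : ℕ) (h : D_g q = true) : Just stp tau idx inv RW SW0 PT DT q0 .g q := (brec (brec (j_45 q) (j_46 q)) (brec (brec (j_47 q) (brec (j_48 q) (j_49 q))) (brec (j_50 q) (brec (j_51 q) (j_52 q))))) h
theorem jc_h (q : ℕ) (h : D_h q = true) : Just stp tau idx inv RW SW0 PT DT q0 .h q := (brec (brec (j_53 q) (j_54 q)) (brec (brec (j_55 q) (brec (j_56 q) (j_57 q))) (brec (brec (j_58 q) (j_59 q)) (brec (j_60 q) (j_61 q))))) h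
theorem hE : ∀ q ∈ L.toList, ∀ c, Just stp tau idx inv RW SW0 PT DT q0 c q := by
  intro q hq c
  cases c
  · exact jc_b q ((Tr.all_iff _ _).1 ed_b q hq)
  · exact jc_c q ((Tr.all_iff _ _).1 ed_c q hq)
  · exact jc_d q ((Tr.all_iff _ _).1 ed_d q hq)
  · exact jc_e q ((Tr.all_iff _ _).1 ed_e q hq)
  · exact jc_f q ((Tr.all_iff _ _).1 ed_f q hq)
  · exact jc_g q ((Tr.all_iff _ _).1 ed_g q hq)
  · exact jc_h q ((Tr.all_iff _ _).1 ed_h q hq)
attribute [local irreducible] L stp tau PT DT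
theorem closure_thm {G X : Type*} [Group G] [MulAction G X] (g : Col → G) (x0 : X) (hinv : ∀ c, g (inv c) = (g c)⁻¹)
    (hRW : ∀ w ∈ RW, gw g w = 1) (hSW : ∀ w ∈ SW0, gw g w • x0 = x0) :
    ∃ f : ℕ → X, f q0 = x0 ∧ ∀ q ∈ L.toList, ∀ c, g c • f q = f (stp c q) := by
  exact closure_sound2 g x0 dec hdec hinv hRW hSW closed.mem pos q0_mem hz hE
universe u
/-- upper bound for a relative index -/
theorem rel_upper {G : Type u} [Group G] (g : Col → G) (hinv : ∀ c, g (inv c) = (g c)⁻¹)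
    (hRW : ∀ w ∈ RW, gw g w = 1) (H : Subgroup G) (hSW : ∀ w ∈ SW0, gw g w ∈ H) :
    H.relIndex (genBy g) ≠ 0 ∧ H.relIndex (genBy g) ≤ 56 := by
  rw [← size_L]
  exact relIndex_of_closure closed.mem q0_mem g hinv hRW H hSW (fun X _ x0 h1 h2 h3 => closure_thm (liftGen g) x0 h1 h2 h3)
end CfsgLib.TCFi23d
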