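import Cfsg.Agent.EqBase
import Cfsg.Agent.LibTC2
import Cfsg.Agent.LibTCGFi23
set_option autoImplicit false
set_option linter.all false
set_option maxRecDepth 1000000
set_option maxHeartbeats 0
namespace CfsgLib.TCFi23e
open CfsgLib.TC Cfsg.Spor
inductive Col where
  | b
  | c
  | d
  | e
  | f
  | h
noncomputable def idx : Col → ℕ := fun c => Col.rec (motive := fun _ => ℕ) 0 1 2 3 4 5 c
noncomputable def inv : Col → Col := fun c => Col.rec (motive := fun _ => Col) .b .c .d .e .f .h c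
def dec : ℕ → Col := fun n => if n = 0 then .b else if n = 1 then .c else if n = 2 then .d else if n = 3 then .e else if n = 4 then .f else .h
theorem hdec : ∀ c, dec (idx c) = c := by intro c; cases c <;> rfl
theorem inv_inv : ∀ c, inv (inv c) = c := by intro c; cases c <;> rfl
def cols : List Col := [Col.b, Col.c, Col.d, Col.e, Col.f, Col.h]
theorem hcols : ∀ c, c ∈ cols := by intro c; cases c <;> simp [cols]
/-- relators as path words (first letter acts first) -/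
noncomputable def RWb : List (List Col) := [[Col.b, Col.b],
  [Col.c, Col.b, Col.c, Col.b, Col.c, Col.b],
  [Col.d, Col.b, Col.d, Col.b],
  [Col.e, Col.b, Col.e, Col.b],
  [Col.f, Col.b, Col.f, Col.b],
  [Col.h, Col.b, Col.h, Col.b],
  [Col.c, Col.c],
  [Col.d, Col.c, Col.d, Col.c, Col.d, Col.c],
  [Col.e, Col.c, Col.e, Col.c],
  [Col.f, Col.c, Col.f, Col.c],
  [Col.h, Col.c, Col.h, Col.c],
  [Col.d, Col.d],
  [Col.e, Col.d, Col.e, Col.d, Col.e, Col.d],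
  [Col.f, Col.d, Col.f, Col.d],
  [Col.h, Col.d, Col.h, Col.d, Col.h, Col.d],
  [Col.e, Col.e],
  [Col.f, Col.e, Col.f, Col.e, Col.f, Col.e],
  [Col.h, Col.e, Col.h, Col.e],
  [Col.f, Col.f],
  [Col.h, Col.f, Col.h, Col.f],
  [Col.h, Col.h]]
noncomputable def RWe : List (List Col) := []
noncomputable def RW : List (List Col) := [[Col.b, Col.b],
  [Col.c, Col.b, Col.c, Col.b, Col.c, Col.b],
  [Col.d, Col.b, Col.d, Col.b],
  [Col.e, Col.b, Col.e, Col.b],
  [Col.f, Col.b, Col.f, Col.b],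
  [Col.h, Col.b, Col.h, Col.b],
  [Col.c, Col.c],
  [Col.d, Col.c, Col.d, Col.c, Col.d, Col.c],
  [Col.e, Col.c, Col.e, Col.c],
  [Col.f, Col.c, Col.f, Col.c],
  [Col.h, Col.c, Col.h, Col.c],
  [Col.d, Col.d],
  [Col.e, Col.d, Col.e, Col.d, Col.e, Col.d],
  [Col.f, Col.d, Col.f, Col.d],
  [Col.h, Col.d, Col.h, Col.d, Col.h, Col.d],
  [Col.e, Col.e],
  [Col.f, Col.e, Col.f, Col.e, Col.f, Col.e],
  [Col.h, Col.e, Col.h, Col.e],
  [Col.f, Col.f],
  [Col.h, Col.f, Col.h, Col.f],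
  [Col.h, Col.h]]
theorem rw_mem : ∀ w ∈ RW, w ∈ RWb ∨ w ∈ RWe := fun w hw => Or.inl hw
def emb : Col → TCG_Fi23.Col
  | .b => .b
  | .c => .c
  | .d => .d
  | .e => .e
  | .f => .f
  | .h => .h
theorem emb_inv : ∀ c, emb (inv c) = TCG_Fi23.inv (emb c) := by intro c; cases c <;> rfl
def RI : List ℕ := [10, 11, 12, 13, 14, 17, 19, 20, 21, 22, 25, 27, 28, 29, 32, 34, 35, 38, 40, 43, 52]
theorem ri_chk : lleq TCG_Fi23.idx (mapR (nthR TCG_Fi23.RW) RI) (mapR (mapR emb) RWb) = true := by decide +kernel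
/-- the family of generators -/
def Pc {G : Type*} [Group G] (f : Fi23.Gen → G) (c : Col) : G := TCG_Fi23.Pc f (emb c)
theorem Pc_inv {G : Type*} [Group G] {f : Fi23.Gen → G} (hs : Sat Fi23.edges Fi23.extra f) (c : Col) : Pc f (inv c) = (Pc f c)⁻¹ := by
  rw [Pc, emb_inv]; exact TCG_Fi23.Pc_inv hs _
theorem Pc_RW {G : Type*} [Group G] {f : Fi23.Gen → G} (hs : Sat Fi23.edges Fi23.extra f) : ∀ w ∈ RWb, gw (Pc f) w = 1 :=
  rw_sub TCG_Fi23.dec TCG_Fi23.hdec emb RI ri_chk (TCG_Fi23.Pc f) (TCG_Fi23.Pc_RW hs)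
theorem Pc_RW' {G : Type*} [Group G] {f : Fi23.Gen → G} (hs : Sat Fi23.edges Fi23.extra f) (he : ∀ w ∈ RWe, gw (Pc f) w = 1) : ∀ w ∈ RW, gw (Pc f) w = 1 :=
  fun w hw => (rw_mem w hw).elim (Pc_RW hs w) (he w)
noncomputable def SW0 : List (List Col) := [[Col.b], [Col.c], [Col.d], [Col.e], [Col.f]]
noncomputable def T_b : ℕ := (nat_lit 0x65d29c163d1d4e950e7272741470e8e71c77292b73b3a43c49894f5e00290a75185213778f9120a5ac7df38b7ca63ffe4e72aa5cd3f69d0c85482cf6ebe67c71efeecc03856d85568c5f2a83dc28c7be9e9b373f2d98e003a9206b45c8)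
noncomputable def T_c : ℕ := (nat_lit 0x5089cab4c7e3668f5914ced1f3edbdad05ff84a89c1bccbf040e23e5f941a562181f5a94a176018898c0a21c9e131f310b5286f8825bce869f9e3a80fa613a318bf9c1cb49f011a8f37394f61e1b5345e1ab427c2e4cac4de8a028069d)
noncomputable def T_d : ℕ := (nat_lit 0x1700614dd71b7529ce3ede2cc4052a0655f0cc860835da2d8db7054cb1fbbee1f2fb9e133e022e7df3d4ea78c90d4ab4ed0c8772e7991291ce86d558fc583acfd9bcfc53ce623c569dc79155fede239fee5f12eedd84148a24c5927ae9)
noncomputable def T_e : ℕ := (nat_lit 0x5ce1ba2497e14bbc608e7047f3f3dba27f9e9a5666b36b12e1eae2cdf983d38696883ff5cb69777faacad0d9d781855abae464c39ec6721de06bc8d8060df29acb02d822ff16913875bd50fef6e199a4c7b8da208ab0087d1cc53cac6d)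
noncomputable def T_f : ℕ := (nat_lit 0x31f1ea1f4d2746e3df11036f788112a1d6c182d50428e11a65078c91f41a31f3f6b37587803fb095bc0224892ecca874765d8e7340edef79f35a1b7300711be0b56017d4b1e21419418355c6bdf6b76564dd40b0a97ca8f956e076f5e)
noncomputable def T_h : ℕ := (nat_lit 0x48f1aa364369a3ae179fc32971e1666e45e18b6d4ef5e55a445a0dedd22b3b69d8bf5d68936b04eb7051d6a71ee2576025b2322103cd0b0bdd1aac0bddb34cbe23349e20b1ff57910cd9834dc606f7cc5bae26afe778a8faba2c90e956)
noncomputable def U_b : ℕ := (nat_lit 0x2532d3a4ec9279ea8b9b09d43fb636d70c4c5f380f58719d2ba7a81bd989165c8318fa90ed40360374d097dd1388477d9280222c8526ee567b9467bef2d5516a1932a4db32cca1c30c4f39bf9d096613d9b9561b4584c7009a1a9c2183)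
noncomputable def U_c : ℕ := (nat_lit 0x28095520dd599ed303243488e940fdf25647569a4fc76f003533589d415741baf685ce831c6651a11f979eef739f9b4c16c39ddab67381905e59b9737d562839d2119e9f57afcf013b0ad02d9c4675112408541c3e68f0ecfbc0aeed87)
noncomputable def U_d : ℕ := (nat_lit 0x5444f147aefb99e8ec8340250595f5928e6ef55c0a496c1be697ccd474e6a753e212c2269738276c7c3a65f78b97341ab0da7988744ab492ff0771589cba3d00062461711965899177dec8266880d25d700ee88471976e63b9a05bfb2d)
noncomputable def U_e : ℕ := (nat_lit 0x17a35251cfb7106f9683637736ec891cdcee6c88f2c532eae2bd966b91de7fefbb71b1e322c0801d00e6a47d306a6887a46755fd2312f93f919d4f5910144534b25f620a6d07411ef59d4538e75d85bb1390668cf9e77eb010dd6b2bb6)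
noncomputable def U_f : ℕ := (nat_lit 0x16aedb150dadf98a170b1431e55eadd6fd01db78ec0c1a7169b46ec6dd31d7f26cf8d7a9be59c19b9a0732eac8ab60b8431a588e135fdfbb1b5b8332c2e86885085705ca3b325b4dae32d50c8fd0c59060e369cd18a0356a0d42d24a1e)
noncomputable def U_h : ℕ := (nat_lit 0x4ef54ebe8a9f8509e8108c9f0b9f9f10ccd1a64bff88dfc7b6c5429b2fc0d0a4c94f234b95f9a805f3594faad1e4dd7417c3cd718e4cb4efb6b78550d98e9a21e62d486ac6ababa60fdf55b9cd1b1bf81a04c8cd3517ee9a05148a5bca)
noncomputable def V_b : ℕ := (nat_lit 0x3bef27de997454fbda2692cbbedc53124adc47caf22492bc67a04be166b18a2a838b60eb39eb447bbab5937f8fd32c4ef47bc1feb05d55b0756ce4586c7ddbd1007fe3431c21c5ae53fb0b50664b94ef1e19f7ef35f550754cdb68bf1a)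
noncomputable def V_c : ℕ := (nat_lit 0x6927fbd65276c3a77fce3498adea54661d87df314385dad8623168842c9ca88e4bdc15997733f32fa986cf8ddd233b6a45f20dfb130eda54e7abf9fba104cdff4f785bb6ce4612194d005ae2e13e4a4a13a6ad356eddd762776d2d0669)
noncomputable def V_d : ℕ := (nat_lit 0x6af044412b897ebc56bdfe0b5077a72a3979dabb78eac7cbe514ba2ada3d96553064a4190c4767a3166757264079283a946151c663601e6e877d0cb83d0a258b6fff63036e2127e63639f760ede1cc6fd8fa1c89a8d9dcde946f9fcdb0)
noncomputable def V_e : ℕ := (nat_lit 0x4b7d72b30b62b7067e99f0fc4162df63893f4f1f7caaad90b8e37d32daa61af66e8a2ebb5c9a5884467cef5bd980b73f71762fdece87aa8ad74e231080fde8d3aebac9608c75c36017600c440de38ec1a6d779d092030d09110be10ba6)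
noncomputable def V_f : ℕ := (nat_lit 0x64a3a98bda8e8e7ed913732e6f23139203f84079301b63094a4681d2deca69a3f8860ec99e5fdde05f34a90f2adb69d7e5224ea821f5f6bb6a6265c1d8f013714b7b28f4bf6eb740aada032392bc01c032f91e989f9298057fcb883446)
noncomputable def V_h : ℕ := (nat_lit 0x3fb556be05306670f363a39f3a7a56b5902c65c060392ffc32f11c68608a754fd5b6ba298713e3ed670fb2c59677e4db2cf1a150c42e99aa9604aac908d93db4d4e650e694e1391415943dcde670b8fb306855b0cf90b9e6f1ec570dd0)
noncomputable def PP : ℕ := (nat_lit 0x3ecfc39c97a95f08a6d7d9a325139f9d301dd75ebb38562066e54adf1b32f41a320a801d7fa14a2219870f6dbd536ff09d8489a8a4d8bd8a6988125f691b78af41af9cf5e5d1eeb17af55dad2ab0dc6df30da9ba14eeac7ecadeec74c0)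
noncomputable def DD : ℕ := (nat_lit 0x3b2650a212fe91faebee52d23be692e52b8cc9ec063c5e2f762e0c8d5127af15ef53946f51b012a73daa9235342eac64082908d0efb71a7e49a415bdc0210dea5dc49d45e9f1ee42a4b556877d04416a7d1a5b6c1eeb1213d9dea94201)
noncomputable def MM : ℕ := (nat_lit 0x6fd67b98b4c1393885d7c8d23fe3df3e1cdb91d7ddd22640e24d1c239d927787c1b28e54e28bc30eeb6423f886c5f1c0ed99e57d0b03183ca1fe173e71533376dfc09fa0b5ca14cfc1ccea7810d5b8434085cc4892b6e95d2269b85c39)
noncomputable def F_b (q : ℕ) : ℕ := Nat.add (nat_lit 1024) (Nat.mod T_b q)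
noncomputable def G_b (t q : ℕ) : ℕ := Bool.rec (motive := fun _ => ℕ) (nat_lit 0) (F_b q) (Nat.ble (Nat.succ (Nat.mod U_b q)) t)
noncomputable def F_c (q : ℕ) : ℕ := Nat.add (nat_lit 1024) (Nat.mod T_c q)
noncomputable def G_c (t q : ℕ) : ℕ := Bool.rec (motive := fun _ => ℕ) (nat_lit 0) (F_c q) (Nat.ble (Nat.succ (Nat.mod U_c q)) t)
noncomputable def F_d (q : ℕ) : ℕ := Nat.add (nat_lit 1024) (Nat.mod T_d q)
noncomputable def G_d (t q : ℕ) : ℕ := Bool.rec (motive := fun _ => ℕ) (nat_lit 0) (F_d q) (Nat.ble (Nat.succ (Nat.mod U_d q)) t)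
noncomputable def F_e (q : ℕ) : ℕ := Nat.add (nat_lit 1024) (Nat.mod T_e q)
noncomputable def G_e (t q : ℕ) : ℕ := Bool.rec (motive := fun _ => ℕ) (nat_lit 0) (F_e q) (Nat.ble (Nat.succ (Nat.mod U_e q)) t)
noncomputable def F_f (q : ℕ) : ℕ := Nat.add (nat_lit 1024) (Nat.mod T_f q)
noncomputable def G_f (t q : ℕ) : ℕ := Bool.rec (motive := fun _ => ℕ) (nat_lit 0) (F_f q) (Nat.ble (Nat.succ (Nat.mod U_f q)) t)
noncomputable def F_h (q : ℕ) : ℕ := Nat.add (nat_lit 1024) (Nat.mod T_h q)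
noncomputable def G_h (t q : ℕ) : ℕ := Bool.rec (motive := fun _ => ℕ) (nat_lit 0) (F_h q) (Nat.ble (Nat.succ (Nat.mod U_h q)) t)
theorem Fge_b (q : ℕ) : 1024 ≤ F_b q := Nat.le_add_right _ _
theorem Fge_c (q : ℕ) : 1024 ≤ F_c q := Nat.le_add_right _ _
theorem Fge_d (q : ℕ) : 1024 ≤ F_d q := Nat.le_add_right _ _
theorem Fge_e (q : ℕ) : 1024 ≤ F_e q := Nat.le_add_right _ _
theorem Fge_f (q : ℕ) : 1024 ≤ F_f q := Nat.le_add_right _ _
theorem Fge_h (q : ℕ) : 1024 ≤ F_h q := Nat.le_add_right _ _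
attribute [irreducible] F_b F_c F_d F_e F_f F_h
noncomputable def stp : Col → ℕ → ℕ := fun c => Col.rec (motive := fun _ => ℕ → ℕ) F_b F_c F_d F_e F_f F_h c
noncomputable def tau : Col → ℕ → ℕ := fun c => Col.rec (motive := fun _ => ℕ → ℕ) (fun q => (Nat.mod U_b q)) (fun q => (Nat.mod U_c q)) (fun q => (Nat.mod U_d q)) (fun q => (Nat.mod U_e q)) (fun q => (Nat.mod U_f q)) (fun q => (Nat.mod U_h q)) c
noncomputable def PT (q : ℕ) : ℕ := Nat.add (nat_lit 1024) (Nat.mod PP q)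
noncomputable def DT (q : ℕ) : ℕ := (Nat.mod DD q)
noncomputable def MB (q : ℕ) : ℕ := MM
noncomputable def L : Tr ℕ := (Tr.nd (nat_lit 1289) (Tr.nd (nat_lit 1153) (Tr.nd (nat_lit 1091) (Tr.nd (nat_lit 1051) (Tr.nd (nat_lit 1039) (Tr.nd (nat_lit 1033) (Tr.lf (nat_lit 1031)) (Tr.lf (nat_lit 1033))) (Tr.nd (nat_lit 1049) (Tr.lf (nat_lit 1039)) (Tr.lf (nat_lit 1049)))) (Tr.nd (nat_lit 1063) (Tr.nd (nat_lit 1061) (Tr.lf (nat_lit 1051)) (Tr.lf (nat_lit 1061))) (Tr.nd (nat_lit 1069) (Tr.lf (nat_lit 1063)) (Tr.nd (nat_lit 1087) (Tr.lf (nat_lit 1069)) (Tr.lf (nat_lit 1087)))))) (Tr.nd (nat_lit 1109) (Tr.nd (nat_lit 1097) (Tr.nd (nat_lit 1093) (Tr.lf (nat_lit 1091)) (Tr.lf (nat_lit 1093))) (Tr.nd (nat_lit 1103) (Tr.lf (nat_lit 1097)) (Tr.lf (nat_lit 1103)))) (Tr.nd (nat_lit 1123) (Tr.nd (nat_lit 1117) (Tr.lf (nat_lit 1109)) (Tr.lf (nat_lit 1117))) (Tr.nd (nat_lit 1129) (Tr.lf (nat_lit 1123)) (Tr.nd (nat_lit 1151)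 (Tr.lf (nat_lit 1129)) (Tr.lf (nat_lit 1151))))))) (Tr.nd (nat_lit 1223) (Tr.nd (nat_lit 1187) (Tr.nd (nat_lit 1171) (Tr.nd (nat_lit 1163) (Tr.lf (nat_lit 1153)) (Tr.lf (nat_lit 1163))) (Tr.nd (nat_lit 1181) (Tr.lf (nat_lit 1171)) (Tr.lf (nat_lit 1181)))) (Tr.nd (nat_lit 1201) (Tr.nd (nat_lit 1193) (Tr.lf (nat_lit 1187)) (Tr.lf (nat_lit 1193))) (Tr.nd (nat_lit 1213) (Tr.lf (nat_lit 1201)) (Tr.nd (nat_lit 1217) (Tr.lf (nat_lit 1213)) (Tr.lf (nat_lit 1217)))))) (Tr.nd (nat_lit 1249) (Tr.nd (nat_lit 1231) (Tr.nd (nat_lit 1229) (Tr.lf (nat_lit 1223)) (Tr.lf (nat_lit 1229))) (Tr.nd (nat_lit 1237) (Tr.lf (nat_lit 1231)) (Tr.lf (nat_lit 1237)))) (Tr.nd (nat_lit 1277) (Tr.nd (nat_lit 1259) (Tr.lf (nat_lit 1249)) (Tr.lf (nat_lit 1259))) (Tr.nd (nat_lit 1279) (Tr.lf (nat_lit 1277)) (Tr.nd (nat_lit 1283) (Tr.lf (nat_lit 1279)) (Tr.lf (nat_lit 1283)))))))) (Tr.nd (nat_lit 1433) (Tr.nd (nat_lit 1361) (Tr.nd (nat_lit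 1303) (Tr.nd (nat_lit 1297) (Tr.nd (nat_lit 1291) (Tr.lf (nat_lit 1289)) (Tr.lf (nat_lit 1291))) (Tr.nd (nat_lit 1301) (Tr.lf (nat_lit 1297)) (Tr.lf (nat_lit 1301)))) (Tr.nd (nat_lit 1319) (Tr.nd (nat_lit 1307) (Tr.lf (nat_lit 1303)) (Tr.lf (nat_lit 1307))) (Tr.nd (nat_lit 1321) (Tr.lf (nat_lit 1319)) (Tr.nd (nat_lit 1327) (Tr.lf (nat_lit 1321)) (Tr.lf (nat_lit 1327)))))) (Tr.nd (nat_lit 1399) (Tr.nd (nat_lit 1373) (Tr.nd (nat_lit 1367) (Tr.lf (nat_lit 1361)) (Tr.lf (nat_lit 1367))) (Tr.nd (nat_lit 1381) (Tr.lf (nat_lit 1373)) (Tr.lf (nat_lit 1381)))) (Tr.nd (nat_lit 1423) (Tr.nd (nat_lit 1409) (Tr.lf (nat_lit 1399)) (Tr.lf (nat_lit 1409))) (Tr.nd (nat_lit 1427) (Tr.lf (nat_lit 1423)) (Tr.nd (nat_lit 1429) (Tr.lf (nat_lit 1427)) (Tr.lf (nat_lit 1429))))))) (Tr.nd (nat_lit 1487) (Tr.nd (nat_lit 1453) (Tr.nd (nat_lit 1447) (Tr.nd (nat_lit 1439) (Tr.lf (nat_lit 1433)) (Tr.lf (nat_lit 1439))) (Tr.nd (nat_lit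 1451) (Tr.lf (nat_lit 1447)) (Tr.lf (nat_lit 1451)))) (Tr.nd (nat_lit 1471) (Tr.nd (nat_lit 1459) (Tr.lf (nat_lit 1453)) (Tr.lf (nat_lit 1459))) (Tr.nd (nat_lit 1481) (Tr.lf (nat_lit 1471)) (Tr.nd (nat_lit 1483) (Tr.lf (nat_lit 1481)) (Tr.lf (nat_lit 1483)))))) (Tr.nd (nat_lit 1511) (Tr.nd (nat_lit 1493) (Tr.nd (nat_lit 1489) (Tr.lf (nat_lit 1487)) (Tr.lf (nat_lit 1489))) (Tr.nd (nat_lit 1499) (Tr.lf (nat_lit 1493)) (Tr.lf (nat_lit 1499)))) (Tr.nd (nat_lit 1531) (Tr.nd (nat_lit 1523) (Tr.lf (nat_lit 1511)) (Tr.lf (nat_lit 1523))) (Tr.nd (nat_lit 1543) (Tr.lf (nat_lit 1531)) (Tr.nd (nat_lit 1549) (Tr.lf (nat_lit 1543)) (Tr.lf (nat_lit 1549)))))))))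
abbrev q0 : ℕ := nat_lit 1031
noncomputable def E_0 (t q : ℕ) : Bool := Nat.beq (G_b t (F_b q)) q
noncomputable def a_0 : CfsgLib.TC.AG Col := .word .b 0 0 true [Col.b]
noncomputable def E_1 (t q : ℕ) : Bool := Nat.beq (G_e t (G_b t (G_e t (F_b q)))) q
noncomputable def a_1 : CfsgLib.TC.AG Col := .word .b 3 1 true [Col.e, Col.b, Col.e]
noncomputable def E_2 (t q : ℕ) : Bool := Nat.beq (G_f t (G_b t (G_f t (F_b q)))) q
noncomputable def a_2 : CfsgLib.TC.AG Col := .word .b 4 1 true [Col.f, Col.b, Col.f]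
noncomputable def E_3 (t q : ℕ) : Bool := Nat.beq (G_d t (G_b t (G_d t (F_b q)))) q
noncomputable def a_3 : CfsgLib.TC.AG Col := .word .b 2 1 true [Col.d, Col.b, Col.d]
noncomputable def E_4 (t q : ℕ) : Bool := Nat.beq (G_h t (G_b t (G_h t (F_b q)))) q
noncomputable def a_4 : CfsgLib.TC.AG Col := .word .b 5 1 true [Col.h, Col.b, Col.h]
noncomputable def E_5 (t q : ℕ) : Bool := band (Nat.beq (PT (F_b q)) q) (band (Nat.beq (DT (F_b q)) 0) (band (Nat.ble (Nat.succ q) (F_b q)) (Nat.ble (Nat.succ q0) (F_b q))))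
noncomputable def a_5 : CfsgLib.TC.AG Col := .tree .b
noncomputable def E_6 (t q : ℕ) : Bool := Nat.beq (G_c t (G_b t (G_c t (G_b t (G_c t (F_b q)))))) q
noncomputable def a_6 : CfsgLib.TC.AG Col := .word .b 1 1 true [Col.c, Col.b, Col.c, Col.b, Col.c]
noncomputable def E_7 (t q : ℕ) : Bool := band (Nat.beq q0 q) (Nat.beq (F_b q) q0)
noncomputable def a_7 : CfsgLib.TC.AG Col := .base .b 0 [] []
noncomputable def D_b (q : ℕ) : Bool := (Bool.rec (motive := fun _ => Bool) (Bool.rec (motive := fun _ => Bool) (E_0 (Nat.mod U_b q) q) (E_1 (Nat.mod U_b q) q) (Nat.ble (nat_lit 1) (Nat.mod V_b q))) (Bool.rec (motive := fun _ => Bool) (Bool.rec (motive := fun _ => Bool) (E_2 (Nat.mod U_b q) q) (Bool.rec (motive := fun _ => Bool) (E_3 (Nat.mod U_b q) q) (E_4 (Nat.mod U_b q) q) (Nat.ble (nat_lit 4) (Nat.mod V_b q))) (Nat.ble (nat_lit 3) (Nat.mod V_b q))) (Bool.rec (motive := fun _ => Bool) (E_5 (Nat.mod U_b q) q) (Bool.rec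 (motive := fun _ => Bool) (E_6 (Nat.mod U_b q) q) (E_7 (Nat.mod U_b q) q) (Nat.ble (nat_lit 7) (Nat.mod V_b q))) (Nat.ble (nat_lit 6) (Nat.mod V_b q))) (Nat.ble (nat_lit 5) (Nat.mod V_b q))) (Nat.ble (nat_lit 2) (Nat.mod V_b q)))
noncomputable def E_8 (t q : ℕ) : Bool := Nat.beq (G_c t (F_c q)) q
noncomputable def a_8 : CfsgLib.TC.AG Col := .word .c 6 0 true [Col.c]
noncomputable def E_9 (t q : ℕ) : Bool := Nat.beq (G_f t (G_c t (G_f t (F_c q)))) q
noncomputable def a_9 : CfsgLib.TC.AG Col := .word .c 9 1 true [Col.f, Col.c, Col.f]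
noncomputable def E_10 (t q : ℕ) : Bool := Nat.beq (G_e t (G_c t (G_e t (F_c q)))) q
noncomputable def a_10 : CfsgLib.TC.AG Col := .word .c 8 1 true [Col.e, Col.c, Col.e]
noncomputable def E_11 (t q : ℕ) : Bool := Nat.beq (G_h t (G_c t (G_h t (F_c q)))) q
noncomputable def a_11 : CfsgLib.TC.AG Col := .word .c 10 1 true [Col.h, Col.c, Col.h]
noncomputable def E_12 (t q : ℕ) : Bool := band (Nat.beq (PT (F_c q)) q) (band (Nat.beq (DT (F_c q)) 1) (band (Nat.ble (Nat.succ q) (F_c q)) (Nat.ble (Nat.succ q0) (F_c q))))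
noncomputable def a_12 : CfsgLib.TC.AG Col := .tree .c
noncomputable def E_13 (t q : ℕ) : Bool := Nat.beq (G_d t (G_c t (G_d t (G_c t (G_d t (F_c q)))))) q
noncomputable def a_13 : CfsgLib.TC.AG Col := .word .c 7 1 true [Col.d, Col.c, Col.d, Col.c, Col.d]
noncomputable def E_14 (t q : ℕ) : Bool := Nat.beq (G_b t (G_c t (G_b t (G_c t (G_b t (F_c q)))))) q
noncomputable def a_14 : CfsgLib.TC.AG Col := .word .c 1 0 true [Col.b, Col.c, Col.b, Col.c, Col.b]
noncomputable def E_15 (t q : ℕ) : Bool := band (Nat.beq q0 q) (Nat.beq (F_c q) q0)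
noncomputable def a_15 : CfsgLib.TC.AG Col := .base .c 1 [] []
noncomputable def D_c (q : ℕ) : Bool := (Bool.rec (motive := fun _ => Bool) (Bool.rec (motive := fun _ => Bool) (E_8 (Nat.mod U_c q) q) (E_9 (Nat.mod U_c q) q) (Nat.ble (nat_lit 1) (Nat.mod V_c q))) (Bool.rec (motive := fun _ => Bool) (Bool.rec (motive := fun _ => Bool) (E_10 (Nat.mod U_c q) q) (Bool.rec (motive := fun _ => Bool) (E_11 (Nat.mod U_c q) q) (E_12 (Nat.mod U_c q) q) (Nat.ble (nat_lit 4) (Nat.mod V_c q))) (Nat.ble (nat_lit 3) (Nat.mod V_c q))) (Bool.rec (motive := fun _ => Bool) (E_13 (Nat.mod U_c q) q) (Bool.rec (motive := fun _ => Bool) (E_14 (Nat.mod U_c q) q) (E_15 (Nat.mod U_c q) q) (Nat.ble (nat_lit 7) (Nat.mod V_c q))) (Nat.ble (nat_lit 6) (Nat.mod V_c q))) (Nat.ble (nat_lit 5) (Nat.mod V_c q))) (Nat.ble (nat_lit 2) (Nat.mod V_c q)))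
noncomputable def E_16 (t q : ℕ) : Bool := Nat.beq (G_d t (F_d q)) q
noncomputable def a_16 : CfsgLib.TC.AG Col := .word .d 11 0 true [Col.d]
noncomputable def E_17 (t q : ℕ) : Bool := band (Nat.beq (PT (F_d q)) q) (band (Nat.beq (DT (F_d q)) 2) (band (Nat.ble (Nat.succ q) (F_d q)) (Nat.ble (Nat.succ q0) (F_d q))))
noncomputable def a_17 : CfsgLib.TC.AG Col := .tree .d
noncomputable def E_18 (t q : ℕ) : Bool := Nat.beq (G_b t (G_d t (G_b t (F_d q)))) q
noncomputable def a_18 : CfsgLib.TC.AG Col := .word .d 2 0 true [Col.b, Col.d, Col.b]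
noncomputable def E_19 (t q : ℕ) : Bool := Nat.beq (G_f t (G_d t (G_f t (F_d q)))) q
noncomputable def a_19 : CfsgLib.TC.AG Col := .word .d 13 1 true [Col.f, Col.d, Col.f]
noncomputable def E_20 (t q : ℕ) : Bool := Nat.beq (G_c t (G_d t (G_c t (G_d t (G_c t (F_d q)))))) q
noncomputable def a_20 : CfsgLib.TC.AG Col := .word .d 7 0 true [Col.c, Col.d, Col.c, Col.d, Col.c]
noncomputable def E_21 (t q : ℕ) : Bool := Nat.beq (G_e t (G_d t (G_e t (G_d t (G_e t (F_d q)))))) q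
noncomputable def a_21 : CfsgLib.TC.AG Col := .word .d 12 1 true [Col.e, Col.d, Col.e, Col.d, Col.e]
noncomputable def E_22 (t q : ℕ) : Bool := Nat.beq (G_h t (G_d t (G_h t (G_d t (G_h t (F_d q)))))) q
noncomputable def a_22 : CfsgLib.TC.AG Col := .word .d 14 1 true [Col.h, Col.d, Col.h, Col.d, Col.h]
noncomputable def E_23 (t q : ℕ) : Bool := band (Nat.beq q0 q) (Nat.beq (F_d q) q0)
noncomputable def a_23 : CfsgLib.TC.AG Col := .base .d 2 [] []
noncomputable def D_d (q : ℕ) : Bool := (Bool.rec (motive := fun _ => Bool) (Bool.rec (motive := fun _ => Bool) (E_16 (Nat.mod U_d q) q) (E_17 (Nat.mod U_d q) q) (Nat.ble (nat_lit 1) (Nat.mod V_d q))) (Bool.rec (motive := fun _ => Bool) (Bool.rec (motive := fun _ => Bool) (E_18 (Nat.mod U_d q) q) (Bool.rec (motive := fun _ => Bool) (E_19 (Nat.mod U_d q) q) (E_20 (Nat.mod U_d q) q) (Nat.ble (nat_lit 4) (Nat.mod V_d q))) (Nat.ble (nat_lit 3) (Nat.mod V_d q))) (Bool.rec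 (motive := fun _ => Bool) (E_21 (Nat.mod U_d q) q) (Bool.rec (motive := fun _ => Bool) (E_22 (Nat.mod U_d q) q) (E_23 (Nat.mod U_d q) q) (Nat.ble (nat_lit 7) (Nat.mod V_d q))) (Nat.ble (nat_lit 6) (Nat.mod V_d q))) (Nat.ble (nat_lit 5) (Nat.mod V_d q))) (Nat.ble (nat_lit 2) (Nat.mod V_d q)))
noncomputable def E_24 (t q : ℕ) : Bool := Nat.beq (G_e t (F_e q)) q
noncomputable def a_24 : CfsgLib.TC.AG Col := .word .e 15 0 true [Col.e]
noncomputable def E_25 (t q : ℕ) : Bool := band (Nat.beq (PT (F_e q)) q) (band (Nat.beq (DT (F_e q)) 3) (band (Nat.ble (Nat.succ q) (F_e q)) (Nat.ble (Nat.succ q0) (F_e q))))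
noncomputable def a_25 : CfsgLib.TC.AG Col := .tree .e
noncomputable def E_26 (t q : ℕ) : Bool := Nat.beq (G_b t (G_e t (G_b t (F_e q)))) q
noncomputable def a_26 : CfsgLib.TC.AG Col := .word .e 3 0 true [Col.b, Col.e, Col.b]
noncomputable def E_27 (t q : ℕ) : Bool := Nat.beq (G_c t (G_e t (G_c t (F_e q)))) q
noncomputable def a_27 : CfsgLib.TC.AG Col := .word .e 8 0 true [Col.c, Col.e, Col.c]
noncomputable def E_28 (t q : ℕ) : Bool := Nat.beq (G_h t (G_e t (G_h t (F_e q)))) q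
noncomputable def a_28 : CfsgLib.TC.AG Col := .word .e 17 1 true [Col.h, Col.e, Col.h]
noncomputable def E_29 (t q : ℕ) : Bool := Nat.beq (G_d t (G_e t (G_d t (G_e t (G_d t (F_e q)))))) q
noncomputable def a_29 : CfsgLib.TC.AG Col := .word .e 12 0 true [Col.d, Col.e, Col.d, Col.e, Col.d]
noncomputable def E_30 (t q : ℕ) : Bool := Nat.beq (G_f t (G_e t (G_f t (G_e t (G_f t (F_e q)))))) q
noncomputable def a_30 : CfsgLib.TC.AG Col := .word .e 16 1 true [Col.f, Col.e, Col.f, Col.e, Col.f]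
noncomputable def E_31 (t q : ℕ) : Bool := band (Nat.beq q0 q) (Nat.beq (F_e q) q0)
noncomputable def a_31 : CfsgLib.TC.AG Col := .base .e 3 [] []
noncomputable def D_e (q : ℕ) : Bool := (Bool.rec (motive := fun _ => Bool) (Bool.rec (motive := fun _ => Bool) (E_24 (Nat.mod U_e q) q) (E_25 (Nat.mod U_e q) q) (Nat.ble (nat_lit 1) (Nat.mod V_e q))) (Bool.rec (motive := fun _ => Bool) (Bool.rec (motive := fun _ => Bool) (E_26 (Nat.mod U_e q) q) (Bool.rec (motive := fun _ => Bool) (E_27 (Nat.mod U_e q) q) (E_28 (Nat.mod U_e q) q) (Nat.ble (nat_lit 4) (Nat.mod V_e q))) (Nat.ble (nat_lit 3) (Nat.mod V_e q))) (Bool.rec (motive := fun _ => Bool) (E_29 (Nat.mod U_e q) q) (Bool.rec (motive := fun _ => Bool) (E_30 (Nat.mod U_e q) q) (E_31 (Nat.mod U_e q) q) (Nat.ble (nat_lit 7) (Nat.mod V_e q))) (Nat.ble (nat_lit 6) (Nat.mod V_e q))) (Nat.ble (nat_lit 5) (Nat.mod V_e q))) (Nat.ble (nat_lit 2) (Nat.mod V_e q)))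
noncomputable def E_32 (t q : ℕ) : Bool := Nat.beq (G_f t (F_f q)) q
noncomputable def a_32 : CfsgLib.TC.AG Col := .word .f 18 0 true [Col.f]
noncomputable def E_33 (t q : ℕ) : Bool := band (Nat.beq (PT (F_f q)) q) (band (Nat.beq (DT (F_f q)) 4) (band (Nat.ble (Nat.succ q) (F_f q)) (Nat.ble (Nat.succ q0) (F_f q))))
noncomputable def a_33 : CfsgLib.TC.AG Col := .tree .f
noncomputable def E_34 (t q : ℕ) : Bool := Nat.beq (G_b t (G_f t (G_b t (F_f q)))) q
noncomputable def a_34 : CfsgLib.TC.AG Col := .word .f 4 0 true [Col.b, Col.f, Col.b]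
noncomputable def E_35 (t q : ℕ) : Bool := Nat.beq (G_c t (G_f t (G_c t (F_f q)))) q
noncomputable def a_35 : CfsgLib.TC.AG Col := .word .f 9 0 true [Col.c, Col.f, Col.c]
noncomputable def E_36 (t q : ℕ) : Bool := Nat.beq (G_d t (G_f t (G_d t (F_f q)))) q
noncomputable def a_36 : CfsgLib.TC.AG Col := .word .f 13 0 true [Col.d, Col.f, Col.d]
noncomputable def E_37 (t q : ℕ) : Bool := Nat.beq (G_h t (G_f t (G_h t (F_f q)))) q
noncomputable def a_37 : CfsgLib.TC.AG Col := .word .f 19 1 true [Col.h, Col.f, Col.h]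
noncomputable def E_38 (t q : ℕ) : Bool := Nat.beq (G_e t (G_f t (G_e t (G_f t (G_e t (F_f q)))))) q
noncomputable def a_38 : CfsgLib.TC.AG Col := .word .f 16 0 true [Col.e, Col.f, Col.e, Col.f, Col.e]
noncomputable def E_39 (t q : ℕ) : Bool := band (Nat.beq q0 q) (Nat.beq (F_f q) q0)
noncomputable def a_39 : CfsgLib.TC.AG Col := .base .f 4 [] []
noncomputable def D_f (q : ℕ) : Bool := (Bool.rec (motive := fun _ => Bool) (Bool.rec (motive := fun _ => Bool) (E_32 (Nat.mod U_f q) q) (E_33 (Nat.mod U_f q) q) (Nat.ble (nat_lit 1) (Nat.mod V_f q))) (Bool.rec (motive := fun _ => Bool) (Bool.rec (motive := fun _ => Bool) (E_34 (Nat.mod U_f q) q) (Bool.rec (motive := fun _ => Bool) (E_35 (Nat.mod U_f q) q) (E_36 (Nat.mod U_f q) q) (Nat.ble (nat_lit 4) (Nat.mod V_f q))) (Nat.ble (nat_lit 3) (Nat.mod V_f q))) (Bool.rec (motive := fun _ => Bool) (E_37 (Nat.mod U_f q) q) (Bool.rec (motive := fun _ => Bool) (E_38 (Nat.mod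 U_f q) q) (E_39 (Nat.mod U_f q) q) (Nat.ble (nat_lit 7) (Nat.mod V_f q))) (Nat.ble (nat_lit 6) (Nat.mod V_f q))) (Nat.ble (nat_lit 5) (Nat.mod V_f q))) (Nat.ble (nat_lit 2) (Nat.mod V_f q)))
noncomputable def E_40 (t q : ℕ) : Bool := Nat.beq (G_h t (F_h q)) q
noncomputable def a_40 : CfsgLib.TC.AG Col := .word .h 20 0 true [Col.h]
noncomputable def E_41 (t q : ℕ) : Bool := band (Nat.beq (PT (F_h q)) q) (band (Nat.beq (DT (F_h q)) 5) (band (Nat.ble (Nat.succ q) (F_h q)) (Nat.ble (Nat.succ q0) (F_h q))))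
noncomputable def a_41 : CfsgLib.TC.AG Col := .tree .h
noncomputable def E_42 (t q : ℕ) : Bool := Nat.beq (G_b t (G_h t (G_b t (F_h q)))) q
noncomputable def a_42 : CfsgLib.TC.AG Col := .word .h 5 0 true [Col.b, Col.h, Col.b]
noncomputable def E_43 (t q : ℕ) : Bool := Nat.beq (G_c t (G_h t (G_c t (F_h q)))) q
noncomputable def a_43 : CfsgLib.TC.AG Col := .word .h 10 0 true [Col.c, Col.h, Col.c]
noncomputable def E_44 (t q : ℕ) : Bool := Nat.beq (G_f t (G_h t (G_f t (F_h q)))) q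
noncomputable def a_44 : CfsgLib.TC.AG Col := .word .h 19 0 true [Col.f, Col.h, Col.f]
noncomputable def E_45 (t q : ℕ) : Bool := Nat.beq (G_d t (G_h t (G_d t (G_h t (G_d t (F_h q)))))) q
noncomputable def a_45 : CfsgLib.TC.AG Col := .word .h 14 0 true [Col.d, Col.h, Col.d, Col.h, Col.d]
noncomputable def E_46 (t q : ℕ) : Bool := Nat.beq (G_e t (G_h t (G_e t (F_h q)))) q
noncomputable def a_46 : CfsgLib.TC.AG Col := .word .h 17 0 true [Col.e, Col.h, Col.e]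
noncomputable def D_h (q : ℕ) : Bool := (Bool.rec (motive := fun _ => Bool) (Bool.rec (motive := fun _ => Bool) (E_40 (Nat.mod U_h q) q) (E_41 (Nat.mod U_h q) q) (Nat.ble (nat_lit 1) (Nat.mod V_h q))) (Bool.rec (motive := fun _ => Bool) (Bool.rec (motive := fun _ => Bool) (E_42 (Nat.mod U_h q) q) (E_43 (Nat.mod U_h q) q) (Nat.ble (nat_lit 3) (Nat.mod V_h q))) (Bool.rec (motive := fun _ => Bool) (E_44 (Nat.mod U_h q) q) (Bool.rec (motive := fun _ => Bool) (E_45 (Nat.mod U_h q) q) (E_46 (Nat.mod U_h q) q) (Nat.ble (nat_lit 6) (Nat.mod V_h q))) (Nat.ble (nat_lit 5) (Nat.mod V_h q))) (Nat.ble (nat_lit 4) (Nat.mod V_h q))) (Nat.ble (nat_lit 2) (Nat.mod V_h q)))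
noncomputable def CK (q : ℕ) : Bool := (Bool.rec (motive := fun _ => Bool) false (Bool.rec (motive := fun _ => Bool) false (Bool.rec (motive := fun _ => Bool) false (Bool.rec (motive := fun _ => Bool) false (Bool.rec (motive := fun _ => Bool) false (Bool.rec (motive := fun _ => Bool) false true (band (Nat.beq (Nat.mod (MB (F_h q)) (F_h q)) (nat_lit 0)) (band (Nat.ble (Nat.succ (F_h q)) (nat_lit 2048)) (Nat.beq (F_h (F_h q)) q)))) (band (Nat.beq (Nat.mod (MB (F_f q)) (F_f q)) (nat_lit 0)) (band (Nat.ble (Nat.succ (F_f q)) (nat_lit 2048)) (Nat.beq (F_f (F_f q)) q)))) (band (Nat.beq (Nat.mod (MB (F_e q)) (F_e q)) (nat_lit 0)) (band (Nat.ble (Nat.succ (F_e q)) (nat_lit 2048)) (Nat.beq (F_e (F_e q)) q)))) (band (Nat.beq (Nat.mod (MB (F_d q)) (F_d q)) (nat_lit 0)) (band (Nat.ble (Nat.succ (F_d q)) (nat_lit 2048)) (Nat.beq (F_d (F_d q)) q)))) (band (Nat.beq (Nat.mod (MB (F_c q)) (F_c q)) (nat_lit 0)) (band (Nat.ble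 (Nat.succ (F_c q)) (nat_lit 2048)) (Nat.beq (F_c (F_c q)) q)))) (band (Nat.beq (Nat.mod (MB (F_b q)) (F_b q)) (nat_lit 0)) (band (Nat.ble (Nat.succ (F_b q)) (nat_lit 2048)) (Nat.beq (F_b (F_b q)) q))))
theorem ck_0 : Tr.all CK L = true := by decide +kernel
theorem ed_b_0 : Tr.all D_b L = true := by decide +kernel
theorem ed_c_0 : Tr.all D_c L = true := by decide +kernel
theorem ed_d_0 : Tr.all D_d L = true := by decide +kernel
theorem ed_e_0 : Tr.all D_e L = true := by decide +kernel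
theorem ed_f_0 : Tr.all D_f L = true := by decide +kernel
theorem ed_h_0 : Tr.all D_h L = true := by decide +kernel
theorem bs_0 : bst L 1024 (2 * 1024) = true := by decide +kernel
theorem pr_0 : prodT L = MM := by decide +kernel
theorem gc_0 : Nat.gcd MM (prodTo 46) = 1 := by decide +kernel
theorem bst_chk : bst L 1024 (2 * 1024) = true := by decide +kernel
theorem size_L : size L = 72 := by decide +kernel
theorem q0_mem : q0 ∈ L.toList := mem_sound (by decide +kernel)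
theorem ck : Tr.all CK L = true := ck_0
theorem ed_b : Tr.all D_b L = true := ed_b_0
theorem ed_c : Tr.all D_c L = true := ed_c_0
theorem ed_d : Tr.all D_d L = true := ed_d_0
theorem ed_e : Tr.all D_e L = true := ed_e_0
theorem ed_f : Tr.all D_f L = true := ed_f_0
theorem ed_h : Tr.all D_h L = true := ed_h_0
theorem pl_0 : ∀ q ∈ L.toList, q.Prime := prime_labels bs_0 pr_0 gc_0 (by norm_num) (by norm_num)
theorem brecP {α : Type} {P : α → Prop} {x y : α} {b : Bool} (hx : P x) (hy : P y) : P (Bool.rec (motive := fun _ => α) x y b) := by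
  cases b
  · exact hx
  · exact hy
theorem memM (x : ℕ) (h1 : 1024 ≤ x) (h2 : x < 2 * 1024) (h3 : MB x % x = 0) : x ∈ L.toList :=
  ((fun h => (mem_of_mod bs_0 pr_0 pl_0 h1 h2 (by norm_num) h)) : (fun M => M % x = 0 → x ∈ L.toList) (MB x)) h3
theorem pos : ∀ q ∈ L.toList, q ≠ 0 := fun q hq h => by
  have := ((bst_sound L _ _ bst_chk).1 q hq).1
  omega
theorem stp_ge (c : Col) (q : ℕ) : 1024 ≤ stp c q := by
  cases c
  · exact Fge_b q
  · exact Fge_c q
  · exact Fge_d q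
  · exact Fge_e q
  · exact Fge_f q
  · exact Fge_h q
theorem closed : Closed L stp inv := by
  have key : ∀ q ∈ L.toList, ∀ c, band (Nat.beq (Nat.mod (MB (stp c q)) (stp c q)) 0) (band (Nat.ble (Nat.succ (stp c q)) 2048) (Nat.beq (stp (inv c) (stp c q)) q)) = true := by
    intro q hq c
    exact (lall_iff (fun c => band (Nat.beq (Nat.mod (MB (stp c q)) (stp c q)) 0) (band (Nat.ble (Nat.succ (stp c q)) 2048) (Nat.beq (stp (inv c) (stp c q)) q))) cols).1 ((Tr.all_iff _ _).1 ck q hq) c (hcols c)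
  refine ⟨fun q hq c => ?_, fun q hq c => ?_, inv_inv⟩
  · have h := key q hq c
    rw [band_iff, band_iff] at h
    exact memM _ (stp_ge c q) (by have := Nat.le_of_ble_eq_true h.2.1; omega) (Nat.eq_of_beq_eq_true h.1)
  · have h := key q hq c
    rw [band_iff, band_iff] at h
    exact Nat.eq_of_beq_eq_true h.2.2
theorem nodup : L.toList.Nodup := ((bst_sound L _ _ bst_chk).2.imp (fun h => Nat.ne_of_lt h))
theorem card_L : Nat.card (Om L) = 72 := by rw [card_Om L nodup, ← size_eq, size_L]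
theorem tau_lt (c : Col) {q : ℕ} (hq : 0 < q) : tau c q < q := by cases c <;> exact Nat.mod_lt _ hq
theorem tau_z : lall (fun c => Nat.ble 2048 (tau c 0)) cols = true := by decide +kernel
theorem hz : ∀ q ∈ L.toList, ∀ c c', tau c q ≤ tau c' 0 := by
  intro q hq c c'
  have h1 := (bst_sound L _ _ bst_chk).1 q hq
  have h2 := tau_lt c (q := q) (by omega)
  have h3 := Nat.le_of_ble_eq_true ((lall_iff _ _).1 tau_z c' (hcols c'))
  omega
theorem ac_0 : agChk idx inv RW SW0 a_0 = true := by decide +kernel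
theorem ac_1 : agChk idx inv RW SW0 a_1 = true := by decide +kernel
theorem ac_2 : agChk idx inv RW SW0 a_2 = true := by decide +kernel
theorem ac_3 : agChk idx inv RW SW0 a_3 = true := by decide +kernel
theorem ac_4 : agChk idx inv RW SW0 a_4 = true := by decide +kernel
theorem ac_5 : agChk idx inv RW SW0 a_5 = true := by decide +kernel
theorem ac_6 : agChk idx inv RW SW0 a_6 = true := by decide +kernel
theorem ac_7 : agChk idx inv RW SW0 a_7 = true := by decide +kernel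
theorem ac_8 : agChk idx inv RW SW0 a_8 = true := by decide +kernel
theorem ac_9 : agChk idx inv RW SW0 a_9 = true := by decide +kernel
theorem ac_10 : agChk idx inv RW SW0 a_10 = true := by decide +kernel
theorem ac_11 : agChk idx inv RW SW0 a_11 = true := by decide +kernel
theorem ac_12 : agChk idx inv RW SW0 a_12 = true := by decide +kernel
theorem ac_13 : agChk idx inv RW SW0 a_13 = true := by decide +kernel
theorem ac_14 : agChk idx inv RW SW0 a_14 = true := by decide +kernel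
theorem ac_15 : agChk idx inv RW SW0 a_15 = true := by decide +kernel
theorem ac_16 : agChk idx inv RW SW0 a_16 = true := by decide +kernel
theorem ac_17 : agChk idx inv RW SW0 a_17 = true := by decide +kernel
theorem ac_18 : agChk idx inv RW SW0 a_18 = true := by decide +kernel
theorem ac_19 : agChk idx inv RW SW0 a_19 = true := by decide +kernel
theorem ac_20 : agChk idx inv RW SW0 a_20 = true := by decide +kernel
theorem ac_21 : agChk idx inv RW SW0 a_21 = true := by decide +kernel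
theorem ac_22 : agChk idx inv RW SW0 a_22 = true := by decide +kernel
theorem ac_23 : agChk idx inv RW SW0 a_23 = true := by decide +kernel
theorem ac_24 : agChk idx inv RW SW0 a_24 = true := by decide +kernel
theorem ac_25 : agChk idx inv RW SW0 a_25 = true := by decide +kernel
theorem ac_26 : agChk idx inv RW SW0 a_26 = true := by decide +kernel
theorem ac_27 : agChk idx inv RW SW0 a_27 = true := by decide +kernel
theorem ac_28 : agChk idx inv RW SW0 a_28 = true := by decide +kernel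
theorem ac_29 : agChk idx inv RW SW0 a_29 = true := by decide +kernel
theorem ac_30 : agChk idx inv RW SW0 a_30 = true := by decide +kernel
theorem ac_31 : agChk idx inv RW SW0 a_31 = true := by decide +kernel
theorem ac_32 : agChk idx inv RW SW0 a_32 = true := by decide +kernel
theorem ac_33 : agChk idx inv RW SW0 a_33 = true := by decide +kernel
theorem ac_34 : agChk idx inv RW SW0 a_34 = true := by decide +kernel
theorem ac_35 : agChk idx inv RW SW0 a_35 = true := by decide +kernel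
theorem ac_36 : agChk idx inv RW SW0 a_36 = true := by decide +kernel
theorem ac_37 : agChk idx inv RW SW0 a_37 = true := by decide +kernel
theorem ac_38 : agChk idx inv RW SW0 a_38 = true := by decide +kernel
theorem ac_39 : agChk idx inv RW SW0 a_39 = true := by decide +kernel
theorem ac_40 : agChk idx inv RW SW0 a_40 = true := by decide +kernel
theorem ac_41 : agChk idx inv RW SW0 a_41 = true := by decide +kernel
theorem ac_42 : agChk idx inv RW SW0 a_42 = true := by decide +kernel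
theorem ac_43 : agChk idx inv RW SW0 a_43 = true := by decide +kernel
theorem ac_44 : agChk idx inv RW SW0 a_44 = true := by decide +kernel
theorem ac_45 : agChk idx inv RW SW0 a_45 = true := by decide +kernel
theorem ac_46 : agChk idx inv RW SW0 a_46 = true := by decide +kernel
theorem j_0 (q : ℕ) (h : E_0 (Nat.mod U_b q) q = true) : Just stp tau idx inv RW SW0 PT DT q0 .b q := ⟨a_0, ac_0, rfl, h⟩
theorem j_1 (q : ℕ) (h : E_1 (Nat.mod U_b q) q = true) : Just stp tau idx inv RW SW0 PT DT q0 .b q := ⟨a_1, ac_1, rfl, h⟩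
theorem j_2 (q : ℕ) (h : E_2 (Nat.mod U_b q) q = true) : Just stp tau idx inv RW SW0 PT DT q0 .b q := ⟨a_2, ac_2, rfl, h⟩
theorem j_3 (q : ℕ) (h : E_3 (Nat.mod U_b q) q = true) : Just stp tau idx inv RW SW0 PT DT q0 .b q := ⟨a_3, ac_3, rfl, h⟩
theorem j_4 (q : ℕ) (h : E_4 (Nat.mod U_b q) q = true) : Just stp tau idx inv RW SW0 PT DT q0 .b q := ⟨a_4, ac_4, rfl, h⟩
theorem j_5 (q : ℕ) (h : E_5 (Nat.mod U_b q) q = true) : Just stp tau idx inv RW SW0 PT DT q0 .b q := ⟨a_5, ac_5, rfl, h⟩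
theorem j_6 (q : ℕ) (h : E_6 (Nat.mod U_b q) q = true) : Just stp tau idx inv RW SW0 PT DT q0 .b q := ⟨a_6, ac_6, rfl, h⟩
theorem j_7 (q : ℕ) (h : E_7 (Nat.mod U_b q) q = true) : Just stp tau idx inv RW SW0 PT DT q0 .b q := ⟨a_7, ac_7, rfl, h⟩
theorem j_8 (q : ℕ) (h : E_8 (Nat.mod U_c q) q = true) : Just stp tau idx inv RW SW0 PT DT q0 .c q := ⟨a_8, ac_8, rfl, h⟩
theorem j_9 (q : ℕ) (h : E_9 (Nat.mod U_c q) q = true) : Just stp tau idx inv RW SW0 PT DT q0 .c q := ⟨a_9, ac_9, rfl, h⟩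
theorem j_10 (q : ℕ) (h : E_10 (Nat.mod U_c q) q = true) : Just stp tau idx inv RW SW0 PT DT q0 .c q := ⟨a_10, ac_10, rfl, h⟩
theorem j_11 (q : ℕ) (h : E_11 (Nat.mod U_c q) q = true) : Just stp tau idx inv RW SW0 PT DT q0 .c q := ⟨a_11, ac_11, rfl, h⟩
theorem j_12 (q : ℕ) (h : E_12 (Nat.mod U_c q) q = true) : Just stp tau idx inv RW SW0 PT DT q0 .c q := ⟨a_12, ac_12, rfl, h⟩
theorem j_13 (q : ℕ) (h : E_13 (Nat.mod U_c q) q = true) : Just stp tau idx inv RW SW0 PT DT q0 .c q := ⟨a_13, ac_13, rfl, h⟩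
theorem j_14 (q : ℕ) (h : E_14 (Nat.mod U_c q) q = true) : Just stp tau idx inv RW SW0 PT DT q0 .c q := ⟨a_14, ac_14, rfl, h⟩
theorem j_15 (q : ℕ) (h : E_15 (Nat.mod U_c q) q = true) : Just stp tau idx inv RW SW0 PT DT q0 .c q := ⟨a_15, ac_15, rfl, h⟩
theorem j_16 (q : ℕ) (h : E_16 (Nat.mod U_d q) q = true) : Just stp tau idx inv RW SW0 PT DT q0 .d q := ⟨a_16, ac_16, rfl, h⟩
theorem j_17 (q : ℕ) (h : E_17 (Nat.mod U_d q) q = true) : Just stp tau idx inv RW SW0 PT DT q0 .d q := ⟨a_17, ac_17, rfl, h⟩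
theorem j_18 (q : ℕ) (h : E_18 (Nat.mod U_d q) q = true) : Just stp tau idx inv RW SW0 PT DT q0 .d q := ⟨a_18, ac_18, rfl, h⟩
theorem j_19 (q : ℕ) (h : E_19 (Nat.mod U_d q) q = true) : Just stp tau idx inv RW SW0 PT DT q0 .d q := ⟨a_19, ac_19, rfl, h⟩
theorem j_20 (q : ℕ) (h : E_20 (Nat.mod U_d q) q = true) : Just stp tau idx inv RW SW0 PT DT q0 .d q := ⟨a_20, ac_20, rfl, h⟩
theorem j_21 (q : ℕ) (h : E_21 (Nat.mod U_d q) q = true) : Just stp tau idx inv RW SW0 PT DT q0 .d q := ⟨a_21, ac_21, rfl, h⟩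
theorem j_22 (q : ℕ) (h : E_22 (Nat.mod U_d q) q = true) : Just stp tau idx inv RW SW0 PT DT q0 .d q := ⟨a_22, ac_22, rfl, h⟩
theorem j_23 (q : ℕ) (h : E_23 (Nat.mod U_d q) q = true) : Just stp tau idx inv RW SW0 PT DT q0 .d q := ⟨a_23, ac_23, rfl, h⟩
theorem j_24 (q : ℕ) (h : E_24 (Nat.mod U_e q) q = true) : Just stp tau idx inv RW SW0 PT DT q0 .e q := ⟨a_24, ac_24, rfl, h⟩
theorem j_25 (q : ℕ) (h : E_25 (Nat.mod U_e q) q = true) : Just stp tau idx inv RW SW0 PT DT q0 .e q := ⟨a_25, ac_25, rfl, h⟩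
theorem j_26 (q : ℕ) (h : E_26 (Nat.mod U_e q) q = true) : Just stp tau idx inv RW SW0 PT DT q0 .e q := ⟨a_26, ac_26, rfl, h⟩
theorem j_27 (q : ℕ) (h : E_27 (Nat.mod U_e q) q = true) : Just stp tau idx inv RW SW0 PT DT q0 .e q := ⟨a_27, ac_27, rfl, h⟩
theorem j_28 (q : ℕ) (h : E_28 (Nat.mod U_e q) q = true) : Just stp tau idx inv RW SW0 PT DT q0 .e q := ⟨a_28, ac_28, rfl, h⟩
theorem j_29 (q : ℕ) (h : E_29 (Nat.mod U_e q) q = true) : Just stp tau idx inv RW SW0 PT DT q0 .e q := ⟨a_29, ac_29, rfl, h⟩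
theorem j_30 (q : ℕ) (h : E_30 (Nat.mod U_e q) q = true) : Just stp tau idx inv RW SW0 PT DT q0 .e q := ⟨a_30, ac_30, rfl, h⟩
theorem j_31 (q : ℕ) (h : E_31 (Nat.mod U_e q) q = true) : Just stp tau idx inv RW SW0 PT DT q0 .e q := ⟨a_31, ac_31, rfl, h⟩
theorem j_32 (q : ℕ) (h : E_32 (Nat.mod U_f q) q = true) : Just stp tau idx inv RW SW0 PT DT q0 .f q := ⟨a_32, ac_32, rfl, h⟩
theorem j_33 (q : ℕ) (h : E_33 (Nat.mod U_f q) q = true) : Just stp tau idx inv RW SW0 PT DT q0 .f q := ⟨a_33, ac_33, rfl, h⟩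
theorem j_34 (q : ℕ) (h : E_34 (Nat.mod U_f q) q = true) : Just stp tau idx inv RW SW0 PT DT q0 .f q := ⟨a_34, ac_34, rfl, h⟩
theorem j_35 (q : ℕ) (h : E_35 (Nat.mod U_f q) q = true) : Just stp tau idx inv RW SW0 PT DT q0 .f q := ⟨a_35, ac_35, rfl, h⟩
theorem j_36 (q : ℕ) (h : E_36 (Nat.mod U_f q) q = true) : Just stp tau idx inv RW SW0 PT DT q0 .f q := ⟨a_36, ac_36, rfl, h⟩
theorem j_37 (q : ℕ) (h : E_37 (Nat.mod U_f q) q = true) : Just stp tau idx inv RW SW0 PT DT q0 .f q := ⟨a_37, ac_37, rfl, h⟩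
theorem j_38 (q : ℕ) (h : E_38 (Nat.mod U_f q) q = true) : Just stp tau idx inv RW SW0 PT DT q0 .f q := ⟨a_38, ac_38, rfl, h⟩
theorem j_39 (q : ℕ) (h : E_39 (Nat.mod U_f q) q = true) : Just stp tau idx inv RW SW0 PT DT q0 .f q := ⟨a_39, ac_39, rfl, h⟩
theorem j_40 (q : ℕ) (h : E_40 (Nat.mod U_h q) q = true) : Just stp tau idx inv RW SW0 PT DT q0 .h q := ⟨a_40, ac_40, rfl, h⟩
theorem j_41 (q : ℕ) (h : E_41 (Nat.mod U_h q) q = true) : Just stp tau idx inv RW SW0 PT DT q0 .h q := ⟨a_41, ac_41, rfl, h⟩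
theorem j_42 (q : ℕ) (h : E_42 (Nat.mod U_h q) q = true) : Just stp tau idx inv RW SW0 PT DT q0 .h q := ⟨a_42, ac_42, rfl, h⟩
theorem j_43 (q : ℕ) (h : E_43 (Nat.mod U_h q) q = true) : Just stp tau idx inv RW SW0 PT DT q0 .h q := ⟨a_43, ac_43, rfl, h⟩
theorem j_44 (q : ℕ) (h : E_44 (Nat.mod U_h q) q = true) : Just stp tau idx inv RW SW0 PT DT q0 .h q := ⟨a_44, ac_44, rfl, h⟩
theorem j_45 (q : ℕ) (h : E_45 (Nat.mod U_h q) q = true) : Just stp tau idx inv RW SW0 PT DT q0 .h q := ⟨a_45, ac_45, rfl, h⟩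
theorem j_46 (q : ℕ) (h : E_46 (Nat.mod U_h q) q = true) : Just stp tau idx inv RW SW0 PT DT q0 .h q := ⟨a_46, ac_46, rfl, h⟩
theorem jc_b (q : ℕ) (h : D_b q = true) : Just stp tau idx inv RW SW0 PT DT q0 .b q := (brec (brec (j_0 q) (j_1 q)) (brec (brec (j_2 q) (brec (j_3 q) (j_4 q))) (brec (j_5 q) (brec (j_6 q) (j_7 q))))) h
theorem jc_c (q : ℕ) (h : D_c q = true) : Just stp tau idx inv RW SW0 PT DT q0 .c q := (brec (brec (j_8 q) (j_9 q)) (brec (brec (j_10 q) (brec (j_11 q) (j_12 q))) (brec (j_13 q) (brec (j_14 q) (j_15 q))))) h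
theorem jc_d (q : ℕ) (h : D_d q = true) : Just stp tau idx inv RW SW0 PT DT q0 .d q := (brec (brec (j_16 q) (j_17 q)) (brec (brec (j_18 q) (brec (j_19 q) (j_20 q))) (brec (j_21 q) (brec (j_22 q) (j_23 q))))) h
theorem jc_e (q : ℕ) (h : D_e q = true) : Just stp tau idx inv RW SW0 PT DT q0 .e q := (brec (brec (j_24 q) (j_25 q)) (brec (brec (j_26 q) (brec (j_27 q) (j_28 q))) (brec (j_29 q) (brec (j_30 q) (j_31 q))))) h
theorem jc_f (q : ℕ) (h : D_f q = true) : Just stp tau idx inv RW SW0 PT DT q0 .f q := (brec (brec (j_32 q) (j_33 q)) (brec (brec (j_34 q) (brec (j_35 q) (j_36 q))) (brec (j_37 q) (brec (j_38 q) (j_39 q))))) h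
theorem jc_h (q : ℕ) (h : D_h q = true) : Just stp tau idx inv RW SW0 PT DT q0 .h q := (brec (brec (j_40 q) (j_41 q)) (brec (brec (j_42 q) (j_43 q)) (brec (j_44 q) (brec (j_45 q) (j_46 q))))) h
theorem hE : ∀ q ∈ L.toList, ∀ c, Just stp tau idx inv RW SW0 PT DT q0 c q := by
  intro q hq c
  cases c
  · exact jc_b q ((Tr.all_iff _ _).1 ed_b q hq)
  · exact jc_c q ((Tr.all_iff _ _).1 ed_c q hq)
  · exact jc_d q ((Tr.all_iff _ _).1 ed_d q hq)
  · exact jc_e q ((Tr.all_iff _ _).1 ed_e q hq)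
  · exact jc_f q ((Tr.all_iff _ _).1 ed_f q hq)
  · exact jc_h q ((Tr.all_iff _ _).1 ed_h q hq)
attribute [local irreducible] L stp tau PT DT
theorem closure_thm {G X : Type*} [Group G] [MulAction G X] (g : Col → G) (x0 : X) (hinv : ∀ c, g (inv c) = (g c)⁻¹)
    (hRW : ∀ w ∈ RW, gw g w = 1) (hSW : ∀ w ∈ SW0, gw g w • x0 = x0) :
    ∃ f : ℕ → X, f q0 = x0 ∧ ∀ q ∈ L.toList, ∀ c, g c • f q = f (stp c q) := by
  exact closure_sound2 g x0 dec hdec hinv hRW hSW closed.mem pos q0_mem hz hE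
universe u
/-- upper bound for a relative index -/
theorem rel_upper {G : Type u} [Group G] (g : Col → G) (hinv : ∀ c, g (inv c) = (g c)⁻¹)
    (hRW : ∀ w ∈ RW, gw g w = 1) (H : Subgroup G) (hSW : ∀ w ∈ SW0, gw g w ∈ H) :
    H.relIndex (genBy g) ≠ 0 ∧ H.relIndex (genBy g) ≤ 72 := by
  rw [← size_L]
  exact relIndex_of_closure closed.mem q0_mem g hinv hRW H hSW (fun X _ x0 h1 h2 h3 => closure_thm (liftGen g) x0 h1 h2 h3)
end CfsgLib.TCFi23e
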