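import Cfsg.Agent.EqBase
import Cfsg.Agent.LibTCFi23
import Cfsg.Agent.LibTCFi23b
import Cfsg.Agent.LibTCFi23c
import Cfsg.Agent.LibTCFi23d
import Cfsg.Agent.LibTCFi23e
import Cfsg.Agent.LibTCFi23f
import Cfsg.Agent.LibTCFi23C
set_option autoImplicit false
set_option linter.all false
set_option maxRecDepth 1000000

namespace CfsgLib.TCFi23
open CfsgLib.TC Cfsg.Spor

abbrev P0 : TCFi23b.Col → Fi23 := TCFi23b.Pc PresentedGroup.of
abbrev P1 : TCFi23c.Col → Fi23 := TCFi23c.Pc PresentedGroup.of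
abbrev P2 : TCFi23d.Col → Fi23 := TCFi23d.Pc PresentedGroup.of
abbrev P3 : TCFi23e.Col → Fi23 := TCFi23e.Pc PresentedGroup.of
abbrev P4 : TCFi23f.Col → Fi23 := TCFi23f.Pc PresentedGroup.of
theorem le0 : genBy P0 ≤ genBy TCG_Fi23.P := by
  rw [Subgroup.closure_le]
  rintro _ ⟨c, rfl⟩
  cases c
  · exact Subgroup.subset_closure ⟨.a, rfl⟩
  · exact Subgroup.subset_closure ⟨.b, rfl⟩
  · exact Subgroup.subset_closure ⟨.c, rfl⟩
  · exact Subgroup.subset_closure ⟨.d, rfl⟩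
  · exact Subgroup.subset_closure ⟨.e, rfl⟩
  · exact Subgroup.subset_closure ⟨.f, rfl⟩
  · exact Subgroup.subset_closure ⟨.g, rfl⟩
  · exact Subgroup.subset_closure ⟨.h, rfl⟩
  · exact Subgroup.subset_closure ⟨.i, rfl⟩
theorem le1 : genBy P1 ≤ genBy P0 := by
  rw [Subgroup.closure_le]
  rintro _ ⟨c, rfl⟩
  cases c
  · exact Subgroup.subset_closure ⟨.b, rfl⟩
  · exact Subgroup.subset_closure ⟨.c, rfl⟩
  · exact Subgroup.subset_closure ⟨.d, rfl⟩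
  · exact Subgroup.subset_closure ⟨.e, rfl⟩
  · exact Subgroup.subset_closure ⟨.f, rfl⟩
  · exact Subgroup.subset_closure ⟨.g, rfl⟩
  · exact Subgroup.subset_closure ⟨.h, rfl⟩
  · exact Subgroup.subset_closure ⟨.i, rfl⟩
theorem le2 : genBy P2 ≤ genBy P1 := by
  rw [Subgroup.closure_le]
  rintro _ ⟨c, rfl⟩
  cases c
  · exact Subgroup.subset_closure ⟨.b, rfl⟩
  · exact Subgroup.subset_closure ⟨.c, rfl⟩
  · exact Subgroup.subset_closure ⟨.d, rfl⟩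
  · exact Subgroup.subset_closure ⟨.e, rfl⟩
  · exact Subgroup.subset_closure ⟨.f, rfl⟩
  · exact Subgroup.subset_closure ⟨.g, rfl⟩
  · exact Subgroup.subset_closure ⟨.h, rfl⟩
theorem le3 : genBy P3 ≤ genBy P2 := by
  rw [Subgroup.closure_le]
  rintro _ ⟨c, rfl⟩
  cases c
  · exact Subgroup.subset_closure ⟨.b, rfl⟩
  · exact Subgroup.subset_closure ⟨.c, rfl⟩
  · exact Subgroup.subset_closure ⟨.d, rfl⟩
  · exact Subgroup.subset_closure ⟨.e, rfl⟩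
  · exact Subgroup.subset_closure ⟨.f, rfl⟩
  · exact Subgroup.subset_closure ⟨.h, rfl⟩
theorem le4 : genBy P4 ≤ genBy P3 := by
  rw [Subgroup.closure_le]
  rintro _ ⟨c, rfl⟩
  cases c
  · exact Subgroup.subset_closure ⟨.b, rfl⟩
  · exact Subgroup.subset_closure ⟨.c, rfl⟩
  · exact Subgroup.subset_closure ⟨.d, rfl⟩
  · exact Subgroup.subset_closure ⟨.e, rfl⟩
  · exact Subgroup.subset_closure ⟨.f, rfl⟩
theorem card4 : Nat.card (genBy P4) ≠ 0 ∧ Nat.card (genBy P4) ≤ 720 :=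
  card_of_bot (TCFi23f.rel_upper P4 (TCFi23f.Pc_inv TCG_Fi23.hsat) (fun w hw => (TCFi23f.rw_mem w hw).elim (TCFi23f.Pc_RW TCG_Fi23.hsat w) (fun h => absurd h (by simp [TCFi23f.RWe]))) ⊥
    (fun w hw => absurd hw (by simp [TCFi23f.SW0])))
theorem card3 : Nat.card (genBy P3) ≠ 0 ∧ Nat.card (genBy P3) ≤ 51840 :=
  card_chain le4 (TCFi23e.rel_upper P3 (TCFi23e.Pc_inv TCG_Fi23.hsat) (fun w hw => (TCFi23e.rw_mem w hw).elim (TCFi23e.Pc_RW TCG_Fi23.hsat w) (fun h => absurd h (by simp [TCFi23e.RWe]))) (genBy P4)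
    (fun w hw => by
      simp only [TCFi23e.SW0, List.mem_cons, List.not_mem_nil, or_false] at hw
      rcases hw with rfl | rfl | rfl | rfl | rfl <;> rw [gw_cons, gw_nil, one_mul] <;> apply Subgroup.subset_closure
      exacts [⟨.b, rfl⟩, ⟨.c, rfl⟩, ⟨.d, rfl⟩, ⟨.e, rfl⟩, ⟨.f, rfl⟩])) card4 (by norm_num)
theorem card2 : Nat.card (genBy P2) ≠ 0 ∧ Nat.card (genBy P2) ≤ 2903040 :=
  card_chain le3 (TCFi23d.rel_upper P2 (TCFi23d.Pc_inv TCG_Fi23.hsat) (fun w hw => (TCFi23d.rw_mem w hw).elim (TCFi23d.Pc_RW TCG_Fi23.hsat w) (fun h => absurd h (by simp [TCFi23d.RWe]))) (genBy P3)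
    (fun w hw => by
      simp only [TCFi23d.SW0, List.mem_cons, List.not_mem_nil, or_false] at hw
      rcases hw with rfl | rfl | rfl | rfl | rfl | rfl <;> rw [gw_cons, gw_nil, one_mul] <;> apply Subgroup.subset_closure
      exacts [⟨.b, rfl⟩, ⟨.c, rfl⟩, ⟨.d, rfl⟩, ⟨.e, rfl⟩, ⟨.f, rfl⟩, ⟨.h, rfl⟩])) card3 (by norm_num)
theorem card1 : Nat.card (genBy P1) ≠ 0 ∧ Nat.card (genBy P1) ≤ 9170703360 :=
  card_chain le2 (TCFi23c.rel_upper P1 (TCFi23c.Pc_inv TCG_Fi23.hsat) (fun w hw => (TCFi23c.rw_mem w hw).elim (TCFi23c.Pc_RW TCG_Fi23.hsat w) (fun h => absurd h (by simp [TCFi23c.RWe]))) (genBy P2)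
    (fun w hw => by
      simp only [TCFi23c.SW0, List.mem_cons, List.not_mem_nil, or_false] at hw
      rcases hw with rfl | rfl | rfl | rfl | rfl | rfl | rfl <;> rw [gw_cons, gw_nil, one_mul] <;> apply Subgroup.subset_closure
      exacts [⟨.b, rfl⟩, ⟨.c, rfl⟩, ⟨.d, rfl⟩, ⟨.e, rfl⟩, ⟨.f, rfl⟩, ⟨.g, rfl⟩, ⟨.h, rfl⟩])) card2 (by norm_num)
theorem card0 : Nat.card (genBy P0) ≠ 0 ∧ Nat.card (genBy P0) ≤ 129123503308800 :=
  card_chain le1 (TCFi23b.rel_upper P0 (TCFi23b.Pc_inv TCG_Fi23.hsat) (fun w hw => (TCFi23b.rw_mem w hw).elim (TCFi23b.Pc_RW TCG_Fi23.hsat w) (fun h => absurd h (by simp [TCFi23b.RWe]))) (genBy P1)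
    (fun w hw => by
      simp only [TCFi23b.SW0, List.mem_cons, List.not_mem_nil, or_false] at hw
      rcases hw with rfl | rfl | rfl | rfl | rfl | rfl | rfl | rfl <;> rw [gw_cons, gw_nil, one_mul] <;> apply Subgroup.subset_closure
      exacts [⟨.b, rfl⟩, ⟨.c, rfl⟩, ⟨.d, rfl⟩, ⟨.e, rfl⟩, ⟨.f, rfl⟩, ⟨.g, rfl⟩, ⟨.h, rfl⟩, ⟨.i, rfl⟩])) card1 (by norm_num)
theorem cardP : Nat.card (genBy TCG_Fi23.P) ≠ 0 ∧ Nat.card (genBy TCG_Fi23.P) ≤ 4089470473293004800 :=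
  card_chain le0 (TCFi23.rel_upper TCG_Fi23.P TCG_Fi23.P_inv TCG_Fi23.P_RW (genBy P0)
    (fun w hw => by
      simp only [TCFi23.SW0, List.mem_cons, List.not_mem_nil, or_false] at hw
      rcases hw with rfl | rfl | rfl | rfl | rfl | rfl | rfl | rfl | rfl <;> rw [gw_cons, gw_nil, one_mul] <;> apply Subgroup.subset_closure
      exacts [⟨.a, rfl⟩, ⟨.b, rfl⟩, ⟨.c, rfl⟩, ⟨.d, rfl⟩, ⟨.e, rfl⟩, ⟨.f, rfl⟩, ⟨.g, rfl⟩, ⟨.h, rfl⟩, ⟨.i, rfl⟩])) card0 (by norm_num)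

theorem card_top : Nat.card Fi23 ≠ 0 ∧ Nat.card Fi23 ≤ 4089470473293004800 := by
  have h := cardP
  have h1 : genBy TCG_Fi23.P = ⊤ := TCG_Fi23.P_top
  rw [h1, Subgroup.card_top] at h
  exact h

instance finite_Fi23 : Finite Fi23 := Nat.finite_of_card_ne_zero card_top.1

theorem order_main : Nat.card Fi23 = 4089470473293004800 ∧ Function.Injective TCFi23.φ :=
  order_faithful TCFi23.φ card_top.2 (TCFi23.Chain.lev0 TCFi23.φ.range.subtype (rangeGen TCFi23.φ TCG_Fi23.P) TCFi23.φ_P)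

end CfsgLib.TCFi23
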