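import Cfsg.Agent.EqBase
import Cfsg.Agent.LibTCAutFi23X0
import Cfsg.Agent.LibTCAutFi23X1
import Cfsg.Agent.LibTCAutFi23X2
import Cfsg.Agent.LibTCAutFi23X3
import Cfsg.Agent.LibTCAutFi23X4
import Cfsg.Agent.LibTCAutFi23X5
import Cfsg.Agent.LibTCAutFi23X6
import Cfsg.Agent.LibTCAutFi23X7
import Cfsg.Agent.LibTCFi23C
import Cfsg.Agent.LibTCFi23F
set_option autoImplicit false
set_option linter.all false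
set_option maxRecDepth 1000000
set_option maxHeartbeats 0
namespace CfsgLib.TCFi23.Au
open CfsgLib.TC Cfsg.Spor CfsgLib.TCG_Fi23 CfsgLib.TCFi23 CfsgLib.TCFi23.Chain
theorem tX : Tr.all (fun q => Nat.beq (walkC stp wx q) (TX q)) L = true := (Tr.all_nd (Tr.all_nd (Tr.all_nd tX_0 tX_1) (Tr.all_nd tX_2 tX_3)) (Tr.all_nd (Tr.all_nd tX_4 tX_5) (Tr.all_nd tX_6 tX_7)))
theorem tY_0 : Tr.all (fun q => Nat.beq (walkC stp wy q) (TY q)) L_0 = true := (all_split _ _ (all_split _ _ (all_split _ _ tY_0_lll tY_0_llr) (all_split _ _ tY_0_lrl tY_0_lrr)) (all_split _ _ (all_split _ _ tY_0_rll tY_0_rlr) (all_split _ _ tY_0_rrl tY_0_rrr)))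
theorem tY_1 : Tr.all (fun q => Nat.beq (walkC stp wy q) (TY q)) L_1 = true := (all_split _ _ (all_split _ _ (all_split _ _ tY_1_lll tY_1_llr) (all_split _ _ tY_1_lrl tY_1_lrr)) (all_split _ _ (all_split _ _ tY_1_rll tY_1_rlr) (all_split _ _ tY_1_rrl tY_1_rrr)))
theorem tY_2 : Tr.all (fun q => Nat.beq (walkC stp wy q) (TY q)) L_2 = true := (all_split _ _ (all_split _ _ (all_split _ _ tY_2_lll tY_2_llr) (all_split _ _ tY_2_lrl tY_2_lrr)) (all_split _ _ (all_split _ _ tY_2_rll tY_2_rlr) (all_split _ _ tY_2_rrl tY_2_rrr)))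
theorem tY_3 : Tr.all (fun q => Nat.beq (walkC stp wy q) (TY q)) L_3 = true := (all_split _ _ (all_split _ _ (all_split _ _ tY_3_lll tY_3_llr) (all_split _ _ tY_3_lrl tY_3_lrr)) (all_split _ _ (all_split _ _ tY_3_rll tY_3_rlr) (all_split _ _ tY_3_rrl tY_3_rrr)))
theorem tY_4 : Tr.all (fun q => Nat.beq (walkC stp wy q) (TY q)) L_4 = true := (all_split _ _ (all_split _ _ (all_split _ _ tY_4_lll tY_4_llr) (all_split _ _ tY_4_lrl tY_4_lrr)) (all_split _ _ (all_split _ _ tY_4_rll tY_4_rlr) (all_split _ _ tY_4_rrl tY_4_rrr)))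
theorem tY_5 : Tr.all (fun q => Nat.beq (walkC stp wy q) (TY q)) L_5 = true := (all_split _ _ (all_split _ _ (all_split _ _ tY_5_lll tY_5_llr) (all_split _ _ tY_5_lrl tY_5_lrr)) (all_split _ _ (all_split _ _ tY_5_rll tY_5_rlr) (all_split _ _ tY_5_rrl tY_5_rrr)))
theorem tY_6 : Tr.all (fun q => Nat.beq (walkC stp wy q) (TY q)) L_6 = true := (all_split _ _ (all_split _ _ (all_split _ _ tY_6_lll tY_6_llr) (all_split _ _ tY_6_lrl tY_6_lrr)) (all_split _ _ (all_split _ _ tY_6_rll tY_6_rlr) (all_split _ _ tY_6_rrl tY_6_rrr)))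
theorem tY_7 : Tr.all (fun q => Nat.beq (walkC stp wy q) (TY q)) L_7 = true := (all_split _ _ (all_split _ _ (all_split _ _ tY_7_lll tY_7_llr) (all_split _ _ tY_7_lrl tY_7_lrr)) (all_split _ _ (all_split _ _ tY_7_rll tY_7_rlr) (all_split _ _ tY_7_rrl tY_7_rrr)))
theorem tY : Tr.all (fun q => Nat.beq (walkC stp wy q) (TY q)) L = true := (Tr.all_nd (Tr.all_nd (Tr.all_nd tY_0 tY_1) (Tr.all_nd tY_2 tY_3)) (Tr.all_nd (Tr.all_nd tY_4 tY_5) (Tr.all_nd tY_6 tY_7)))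
theorem tS_0 : Tr.all (fun q => Nat.beq (walkC stp ws q) (TS q)) L_0 = true := (all_split _ _ (all_split _ _ (all_split _ _ tS_0_lll tS_0_llr) (all_split _ _ tS_0_lrl tS_0_lrr)) (all_split _ _ (all_split _ _ tS_0_rll tS_0_rlr) (all_split _ _ tS_0_rrl tS_0_rrr)))
theorem tS_1 : Tr.all (fun q => Nat.beq (walkC stp ws q) (TS q)) L_1 = true := (all_split _ _ (all_split _ _ (all_split _ _ tS_1_lll tS_1_llr) (all_split _ _ tS_1_lrl tS_1_lrr)) (all_split _ _ (all_split _ _ tS_1_rll tS_1_rlr) (all_split _ _ tS_1_rrl tS_1_rrr)))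
theorem tS_2 : Tr.all (fun q => Nat.beq (walkC stp ws q) (TS q)) L_2 = true := (all_split _ _ (all_split _ _ (all_split _ _ tS_2_lll tS_2_llr) (all_split _ _ tS_2_lrl tS_2_lrr)) (all_split _ _ (all_split _ _ tS_2_rll tS_2_rlr) (all_split _ _ tS_2_rrl tS_2_rrr)))
theorem tS_3 : Tr.all (fun q => Nat.beq (walkC stp ws q) (TS q)) L_3 = true := (all_split _ _ (all_split _ _ (all_split _ _ tS_3_lll tS_3_llr) (all_split _ _ tS_3_lrl tS_3_lrr)) (all_split _ _ (all_split _ _ tS_3_rll tS_3_rlr) (all_split _ _ tS_3_rrl tS_3_rrr)))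
theorem tS_4 : Tr.all (fun q => Nat.beq (walkC stp ws q) (TS q)) L_4 = true := (all_split _ _ (all_split _ _ (all_split _ _ tS_4_lll tS_4_llr) (all_split _ _ tS_4_lrl tS_4_lrr)) (all_split _ _ (all_split _ _ tS_4_rll tS_4_rlr) (all_split _ _ tS_4_rrl tS_4_rrr)))
theorem tS_5 : Tr.all (fun q => Nat.beq (walkC stp ws q) (TS q)) L_5 = true := (all_split _ _ (all_split _ _ (all_split _ _ tS_5_lll tS_5_llr) (all_split _ _ tS_5_lrl tS_5_lrr)) (all_split _ _ (all_split _ _ tS_5_rll tS_5_rlr) (all_split _ _ tS_5_rrl tS_5_rrr)))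
theorem tS_6 : Tr.all (fun q => Nat.beq (walkC stp ws q) (TS q)) L_6 = true := (all_split _ _ (all_split _ _ (all_split _ _ tS_6_lll tS_6_llr) (all_split _ _ tS_6_lrl tS_6_lrr)) (all_split _ _ (all_split _ _ tS_6_rll tS_6_rlr) (all_split _ _ tS_6_rrl tS_6_rrr)))
theorem tS_7 : Tr.all (fun q => Nat.beq (walkC stp ws q) (TS q)) L_7 = true := (all_split _ _ (all_split _ _ (all_split _ _ tS_7_lll tS_7_llr) (all_split _ _ tS_7_lrl tS_7_lrr)) (all_split _ _ (all_split _ _ tS_7_rll tS_7_rlr) (all_split _ _ tS_7_rrl tS_7_rrr)))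
theorem tS : Tr.all (fun q => Nat.beq (walkC stp ws q) (TS q)) L = true := (Tr.all_nd (Tr.all_nd (Tr.all_nd tS_0 tS_1) (Tr.all_nd tS_2 tS_3)) (Tr.all_nd (Tr.all_nd tS_4 tS_5) (Tr.all_nd tS_6 tS_7)))
theorem cX_0 : Tr.all (cenB stp 200 [643729, 758357] lvs TX [1, 4, 6, 11, 0, 2, 3] QX) L_0 = true := (all_split _ _ (all_split _ _ (all_split _ _ (all_split _ _ cX_0_llll cX_0_lllr) (all_split _ _ cX_0_llrl cX_0_llrr)) (all_split _ _ (all_split _ _ cX_0_lrll cX_0_lrlr) (all_split _ _ cX_0_lrrl cX_0_lrrr))) (all_split _ _ (all_split _ _ (all_split _ _ cX_0_rlll cX_0_rllr) (all_split _ _ cX_0_rlrl cX_0_rlrr)) (all_split _ _ (all_split _ _ cX_0_rrll cX_0_rrlr) (all_split _ _ cX_0_rrrl cX_0_rrrr))))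
theorem cX_1 : Tr.all (cenB stp 200 [643729, 758357] lvs TX [1, 4, 6, 11, 0, 2, 3] QX) L_1 = true := (all_split _ _ (all_split _ _ (all_split _ _ (all_split _ _ cX_1_llll cX_1_lllr) (all_split _ _ cX_1_llrl cX_1_llrr)) (all_split _ _ (all_split _ _ cX_1_lrll cX_1_lrlr) (all_split _ _ cX_1_lrrl cX_1_lrrr))) (all_split _ _ (all_split _ _ (all_split _ _ cX_1_rlll cX_1_rllr) (all_split _ _ cX_1_rlrl cX_1_rlrr)) (all_split _ _ (all_split _ _ cX_1_rrll cX_1_rrlr) (all_split _ _ cX_1_rrrl cX_1_rrrr))))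
theorem cX_2 : Tr.all (cenB stp 200 [643729, 758357] lvs TX [1, 4, 6, 11, 0, 2, 3] QX) L_2 = true := (all_split _ _ (all_split _ _ (all_split _ _ (all_split _ _ cX_2_llll cX_2_lllr) (all_split _ _ cX_2_llrl cX_2_llrr)) (all_split _ _ (all_split _ _ cX_2_lrll cX_2_lrlr) (all_split _ _ cX_2_lrrl cX_2_lrrr))) (all_split _ _ (all_split _ _ (all_split _ _ cX_2_rlll cX_2_rllr) (all_split _ _ cX_2_rlrl cX_2_rlrr)) (all_split _ _ (all_split _ _ cX_2_rrll cX_2_rrlr) (all_split _ _ cX_2_rrrl cX_2_rrrr))))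
theorem cX_3 : Tr.all (cenB stp 200 [643729, 758357] lvs TX [1, 4, 6, 11, 0, 2, 3] QX) L_3 = true := (all_split _ _ (all_split _ _ (all_split _ _ (all_split _ _ cX_3_llll cX_3_lllr) (all_split _ _ cX_3_llrl cX_3_llrr)) (all_split _ _ (all_split _ _ cX_3_lrll cX_3_lrlr) (all_split _ _ cX_3_lrrl cX_3_lrrr))) (all_split _ _ (all_split _ _ (all_split _ _ cX_3_rlll cX_3_rllr) (all_split _ _ cX_3_rlrl cX_3_rlrr)) (all_split _ _ (all_split _ _ cX_3_rrll cX_3_rrlr) (all_split _ _ cX_3_rrrl cX_3_rrrr))))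
theorem cX_4 : Tr.all (cenB stp 200 [643729, 758357] lvs TX [1, 4, 6, 11, 0, 2, 3] QX) L_4 = true := (all_split _ _ (all_split _ _ (all_split _ _ (all_split _ _ cX_4_llll cX_4_lllr) (all_split _ _ cX_4_llrl cX_4_llrr)) (all_split _ _ (all_split _ _ cX_4_lrll cX_4_lrlr) (all_split _ _ cX_4_lrrl cX_4_lrrr))) (all_split _ _ (all_split _ _ (all_split _ _ cX_4_rlll cX_4_rllr) (all_split _ _ cX_4_rlrl cX_4_rlrr)) (all_split _ _ (all_split _ _ cX_4_rrll cX_4_rrlr) (all_split _ _ cX_4_rrrl cX_4_rrrr))))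
theorem cX_5 : Tr.all (cenB stp 200 [643729, 758357] lvs TX [1, 4, 6, 11, 0, 2, 3] QX) L_5 = true := (all_split _ _ (all_split _ _ (all_split _ _ (all_split _ _ cX_5_llll cX_5_lllr) (all_split _ _ cX_5_llrl cX_5_llrr)) (all_split _ _ (all_split _ _ cX_5_lrll cX_5_lrlr) (all_split _ _ cX_5_lrrl cX_5_lrrr))) (all_split _ _ (all_split _ _ (all_split _ _ cX_5_rlll cX_5_rllr) (all_split _ _ cX_5_rlrl cX_5_rlrr)) (all_split _ _ (all_split _ _ cX_5_rrll cX_5_rrlr) (all_split _ _ cX_5_rrrl cX_5_rrrr))))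
theorem cX_6 : Tr.all (cenB stp 200 [643729, 758357] lvs TX [1, 4, 6, 11, 0, 2, 3] QX) L_6 = true := (all_split _ _ (all_split _ _ (all_split _ _ (all_split _ _ cX_6_llll cX_6_lllr) (all_split _ _ cX_6_llrl cX_6_llrr)) (all_split _ _ (all_split _ _ cX_6_lrll cX_6_lrlr) (all_split _ _ cX_6_lrrl cX_6_lrrr))) (all_split _ _ (all_split _ _ (all_split _ _ cX_6_rlll cX_6_rllr) (all_split _ _ cX_6_rlrl cX_6_rlrr)) (all_split _ _ (all_split _ _ cX_6_rrll cX_6_rrlr) (all_split _ _ cX_6_rrrl cX_6_rrrr))))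
theorem cX_7 : Tr.all (cenB stp 200 [643729, 758357] lvs TX [1, 4, 6, 11, 0, 2, 3] QX) L_7 = true := (all_split _ _ (all_split _ _ (all_split _ _ (all_split _ _ cX_7_llll cX_7_lllr) (all_split _ _ cX_7_llrl cX_7_llrr)) (all_split _ _ (all_split _ _ cX_7_lrll cX_7_lrlr) (all_split _ _ cX_7_lrrl cX_7_lrrr))) (all_split _ _ (all_split _ _ (all_split _ _ cX_7_rlll cX_7_rllr) (all_split _ _ cX_7_rlrl cX_7_rlrr)) (all_split _ _ (all_split _ _ cX_7_rrll cX_7_rrlr) (all_split _ _ cX_7_rrrl cX_7_rrrr))))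
theorem cX : Tr.all (cenB stp 200 [643729, 758357] lvs TX [1, 4, 6, 11, 0, 2, 3] QX) L = true := (Tr.all_nd (Tr.all_nd (Tr.all_nd cX_0 cX_1) (Tr.all_nd cX_2 cX_3)) (Tr.all_nd (Tr.all_nd cX_4 cX_5) (Tr.all_nd cX_6 cX_7)))
theorem cY_0 : Tr.all (cenB stp 200 [884669, 774119] lvs TY [0, 1, 2, 3, 6, 4, 5] QY) L_0 = true := (all_split _ _ (all_split _ _ (all_split _ _ (all_split _ _ cY_0_llll cY_0_lllr) (all_split _ _ cY_0_llrl cY_0_llrr)) (all_split _ _ (all_split _ _ cY_0_lrll cY_0_lrlr) (all_split _ _ cY_0_lrrl cY_0_lrrr))) (all_split _ _ (all_split _ _ (all_split _ _ cY_0_rlll cY_0_rllr) (all_split _ _ cY_0_rlrl cY_0_rlrr)) (all_split _ _ (all_split _ _ cY_0_rrll cY_0_rrlr) (all_split _ _ cY_0_rrrl cY_0_rrrr))))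
theorem cY_1 : Tr.all (cenB stp 200 [884669, 774119] lvs TY [0, 1, 2, 3, 6, 4, 5] QY) L_1 = true := (all_split _ _ (all_split _ _ (all_split _ _ (all_split _ _ cY_1_llll cY_1_lllr) (all_split _ _ cY_1_llrl cY_1_llrr)) (all_split _ _ (all_split _ _ cY_1_lrll cY_1_lrlr) (all_split _ _ cY_1_lrrl cY_1_lrrr))) (all_split _ _ (all_split _ _ (all_split _ _ cY_1_rlll cY_1_rllr) (all_split _ _ cY_1_rlrl cY_1_rlrr)) (all_split _ _ (all_split _ _ cY_1_rrll cY_1_rrlr) (all_split _ _ cY_1_rrrl cY_1_rrrr))))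
theorem cY_2 : Tr.all (cenB stp 200 [884669, 774119] lvs TY [0, 1, 2, 3, 6, 4, 5] QY) L_2 = true := (all_split _ _ (all_split _ _ (all_split _ _ (all_split _ _ cY_2_llll cY_2_lllr) (all_split _ _ cY_2_llrl cY_2_llrr)) (all_split _ _ (all_split _ _ cY_2_lrll cY_2_lrlr) (all_split _ _ cY_2_lrrl cY_2_lrrr))) (all_split _ _ (all_split _ _ (all_split _ _ cY_2_rlll cY_2_rllr) (all_split _ _ cY_2_rlrl cY_2_rlrr)) (all_split _ _ (all_split _ _ cY_2_rrll cY_2_rrlr) (all_split _ _ cY_2_rrrl cY_2_rrrr))))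
theorem cY_3 : Tr.all (cenB stp 200 [884669, 774119] lvs TY [0, 1, 2, 3, 6, 4, 5] QY) L_3 = true := (all_split _ _ (all_split _ _ (all_split _ _ (all_split _ _ cY_3_llll cY_3_lllr) (all_split _ _ cY_3_llrl cY_3_llrr)) (all_split _ _ (all_split _ _ cY_3_lrll cY_3_lrlr) (all_split _ _ cY_3_lrrl cY_3_lrrr))) (all_split _ _ (all_split _ _ (all_split _ _ cY_3_rlll cY_3_rllr) (all_split _ _ cY_3_rlrl cY_3_rlrr)) (all_split _ _ (all_split _ _ cY_3_rrll cY_3_rrlr) (all_split _ _ cY_3_rrrl cY_3_rrrr))))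
theorem cY_4 : Tr.all (cenB stp 200 [884669, 774119] lvs TY [0, 1, 2, 3, 6, 4, 5] QY) L_4 = true := (all_split _ _ (all_split _ _ (all_split _ _ (all_split _ _ cY_4_llll cY_4_lllr) (all_split _ _ cY_4_llrl cY_4_llrr)) (all_split _ _ (all_split _ _ cY_4_lrll cY_4_lrlr) (all_split _ _ cY_4_lrrl cY_4_lrrr))) (all_split _ _ (all_split _ _ (all_split _ _ cY_4_rlll cY_4_rllr) (all_split _ _ cY_4_rlrl cY_4_rlrr)) (all_split _ _ (all_split _ _ cY_4_rrll cY_4_rrlr) (all_split _ _ cY_4_rrrl cY_4_rrrr))))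
theorem cY_5 : Tr.all (cenB stp 200 [884669, 774119] lvs TY [0, 1, 2, 3, 6, 4, 5] QY) L_5 = true := (all_split _ _ (all_split _ _ (all_split _ _ (all_split _ _ cY_5_llll cY_5_lllr) (all_split _ _ cY_5_llrl cY_5_llrr)) (all_split _ _ (all_split _ _ cY_5_lrll cY_5_lrlr) (all_split _ _ cY_5_lrrl cY_5_lrrr))) (all_split _ _ (all_split _ _ (all_split _ _ cY_5_rlll cY_5_rllr) (all_split _ _ cY_5_rlrl cY_5_rlrr)) (all_split _ _ (all_split _ _ cY_5_rrll cY_5_rrlr) (all_split _ _ cY_5_rrrl cY_5_rrrr))))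
theorem cY_6 : Tr.all (cenB stp 200 [884669, 774119] lvs TY [0, 1, 2, 3, 6, 4, 5] QY) L_6 = true := (all_split _ _ (all_split _ _ (all_split _ _ (all_split _ _ cY_6_llll cY_6_lllr) (all_split _ _ cY_6_llrl cY_6_llrr)) (all_split _ _ (all_split _ _ cY_6_lrll cY_6_lrlr) (all_split _ _ cY_6_lrrl cY_6_lrrr))) (all_split _ _ (all_split _ _ (all_split _ _ cY_6_rlll cY_6_rllr) (all_split _ _ cY_6_rlrl cY_6_rlrr)) (all_split _ _ (all_split _ _ cY_6_rrll cY_6_rrlr) (all_split _ _ cY_6_rrrl cY_6_rrrr))))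
theorem cY_7 : Tr.all (cenB stp 200 [884669, 774119] lvs TY [0, 1, 2, 3, 6, 4, 5] QY) L_7 = true := (all_split _ _ (all_split _ _ (all_split _ _ (all_split _ _ cY_7_llll cY_7_lllr) (all_split _ _ cY_7_llrl cY_7_llrr)) (all_split _ _ (all_split _ _ cY_7_lrll cY_7_lrlr) (all_split _ _ cY_7_lrrl cY_7_lrrr))) (all_split _ _ (all_split _ _ (all_split _ _ cY_7_rlll cY_7_rllr) (all_split _ _ cY_7_rlrl cY_7_rlrr)) (all_split _ _ (all_split _ _ cY_7_rrll cY_7_rrlr) (all_split _ _ cY_7_rrrl cY_7_rrrr))))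
theorem cY : Tr.all (cenB stp 200 [884669, 774119] lvs TY [0, 1, 2, 3, 6, 4, 5] QY) L = true := (Tr.all_nd (Tr.all_nd (Tr.all_nd cY_0 cY_1) (Tr.all_nd cY_2 cY_3)) (Tr.all_nd (Tr.all_nd cY_4 cY_5) (Tr.all_nd cY_6 cY_7)))
theorem hg : ∀ c, Acts φ (P c) (stp c) := fun c q => by rw [φ_P]; rfl
noncomputable def x : Fi23 := gw P wx
noncomputable def y : Fi23 := gw P wy
noncomputable def s : Fi23 := gw P ws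
theorem hx : Acts φ x TX := Acts.of_tabC (Acts.gwC hg wx) tX
theorem hy : Acts φ y TY := Acts.of_tabC (Acts.gwC hg wy) tY
theorem hs : Acts φ s TS := Acts.of_tabC (Acts.gwC hg ws) tS
theorem mb0 : 524309 ∈ L.toList := mt_sound _ (by decide +kernel)
theorem ex0 : (∀ u ∈ stabN φ [], HR0 (φ u ⟨524309, mb0⟩).1 ≠ 0) ∧ Nat.card (stabN φ [524309]) ≤ 129123503308800 :=
  lev_exact3 (n := 31671) (m := 129123503308800) closed nodup φ P φ_P [] 524309 size_L mb0 mt_sound hwl0 (by decide +kernel) tree0 z0 (lev1 φ P φ_P) (by norm_num) (by norm_num) (by norm_num) (le_trans (Subgroup.card_le_card_group _) (by rw [order_main.1]))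
theorem mb1 : 524341 ∈ L.toList := mt_sound _ (by decide +kernel)
theorem ex1 : (∀ u ∈ stabN φ [524309], HR1 (φ u ⟨524341, mb1⟩).1 ≠ 0) ∧ Nat.card (stabN φ [524341, 524309]) ≤ 4585351680 :=
  lev_exact3 (n := 28160) (m := 4585351680) closed nodup φ P φ_P [524309] 524341 size_L mb1 mt_sound hwl1 (by decide +kernel) tree1 z1 (lev2 φ P φ_P) (by norm_num) (by norm_num) (by norm_num) (le_trans ex0.2 (by norm_num))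
theorem mb2 : 527143 ∈ L.toList := mt_sound _ (by decide +kernel)
theorem ex2 : (∀ u ∈ stabN φ [524341, 524309], HR2 (φ u ⟨527143, mb2⟩).1 ≠ 0) ∧ Nat.card (stabN φ [527143, 524341, 524309]) ≤ 209952 :=
  lev_exact3 (n := 21840) (m := 209952) closed nodup φ P φ_P [524341, 524309] 527143 size_L mb2 mt_sound hwl2 (by decide +kernel) tree2 z2 (lev3 φ P φ_P) (by norm_num) (by norm_num) (by norm_num) (le_trans ex1.2 (by norm_num))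
theorem mb3 : 546137 ∈ L.toList := mt_sound _ (by decide +kernel)
theorem ex3 : (∀ u ∈ stabN φ [527143, 524341, 524309], HR3 (φ u ⟨546137, mb3⟩).1 ≠ 0) ∧ Nat.card (stabN φ [546137, 527143, 524341, 524309]) ≤ 27 :=
  lev_exact3 (n := 7776) (m := 27) closed nodup φ P φ_P [527143, 524341, 524309] 546137 size_L mb3 mt_sound hwl3 (by decide +kernel) tree3 z3 (lev4 φ P φ_P) (by norm_num) (by norm_num) (by norm_num) (le_trans ex2.2 (by norm_num))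
theorem mb4 : 524347 ∈ L.toList := mt_sound _ (by decide +kernel)
theorem ex4 : (∀ u ∈ stabN φ [546137, 527143, 524341, 524309], HR4 (φ u ⟨524347, mb4⟩).1 ≠ 0) ∧ Nat.card (stabN φ [524347, 546137, 527143, 524341, 524309]) ≤ 1 :=
  lev_exact3 (n := 27) (m := 1) closed nodup φ P φ_P [546137, 527143, 524341, 524309] 524347 size_L mb4 mt_sound hwl4 (by decide +kernel) tree4 z4 (lev5 φ) (by norm_num) (by norm_num) (by norm_num) (le_trans ex3.2 (by norm_num))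
theorem good : Good φ P [] lvs := (good_cons3 closed φ_P mb0 ex0.1 (by decide +kernel) (good_cons3 closed φ_P mb1 ex1.1 (by decide +kernel) (good_cons3 closed φ_P mb2 ex2.1 (by decide +kernel) (good_cons3 closed φ_P mb3 ex3.1 (by decide +kernel) (good_cons3 closed φ_P mb4 ex4.1 (by decide +kernel) (good_nil_of ex4.2))))))
def Wx : List Col := [TCG_Fi23.Col.b, TCG_Fi23.Col.d, TCG_Fi23.Col.c, TCG_Fi23.Col.b, TCG_Fi23.Col.e, TCG_Fi23.Col.h, TCG_Fi23.Col.d, TCG_Fi23.Col.i, TCG_Fi23.Col.h, TCG_Fi23.Col.b, TCG_Fi23.Col.c, TCG_Fi23.Col.d, TCG_Fi23.Col.h, TCG_Fi23.Col.e, TCG_Fi23.Col.b, TCG_Fi23.Col.c, TCG_Fi23.Col.d, TCG_Fi23.Col.b, TCG_Fi23.Col.d, TCG_Fi23.Col.c, TCG_Fi23.Col.b, TCG_Fi23.Col.e, TCG_Fi23.Col.h, TCG_Fi23.Col.d, TCG_Fi23.Col.i, TCG_Fi23.Col.h, TCG_Fi23.Col.b, TCG_Fi23.Col.c,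 TCG_Fi23.Col.d, TCG_Fi23.Col.h, TCG_Fi23.Col.e, TCG_Fi23.Col.b, TCG_Fi23.Col.c, TCG_Fi23.Col.d, TCG_Fi23.Col.b, TCG_Fi23.Col.d, TCG_Fi23.Col.c, TCG_Fi23.Col.b, TCG_Fi23.Col.e, TCG_Fi23.Col.h, TCG_Fi23.Col.d, TCG_Fi23.Col.i, TCG_Fi23.Col.h, TCG_Fi23.Col.b, TCG_Fi23.Col.c, TCG_Fi23.Col.d, TCG_Fi23.Col.h, TCG_Fi23.Col.e, TCG_Fi23.Col.b, TCG_Fi23.Col.c, TCG_Fi23.Col.d, TCG_Fi23.Col.b, TCG_Fi23.Col.d, TCG_Fi23.Col.c, TCG_Fi23.Col.b, TCG_Fi23.Col.e, TCG_Fi23.Col.h, TCG_Fi23.Col.d, TCG_Fi23.Col.i, TCG_Fi23.Col.h, TCG_Fi23.Col.b, TCG_Fi23.Col.c, TCG_Fi23.Col.d, TCG_Fi23.Col.h, TCG_Fi23.Col.e, TCG_Fi23.Col.b, TCG_Fi23.Col.c, TCG_Fi23.Col.d, TCG_Fi23.Col.a, TCG_Fi23.Col.c, TCG_Fi23.Col.d, TCG_Fi23.Col.c, TCG_Fi23.Col.f, TCG_Fi23.Col.g, TCG_Fi23.Col.j, TCG_Fi23.Col.g, TCG_Fi23.Col.i,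 TCG_Fi23.Col.g, TCG_Fi23.Col.j, TCG_Fi23.Col.g, TCG_Fi23.Col.c, TCG_Fi23.Col.d, TCG_Fi23.Col.a, TCG_Fi23.Col.i, TCG_Fi23.Col.a, TCG_Fi23.Col.b, TCG_Fi23.Col.d, TCG_Fi23.Col.c, TCG_Fi23.Col.b, TCG_Fi23.Col.a, TCG_Fi23.Col.e, TCG_Fi23.Col.d, TCG_Fi23.Col.c, TCG_Fi23.Col.f, TCG_Fi23.Col.e, TCG_Fi23.Col.h, TCG_Fi23.Col.d, TCG_Fi23.Col.c, TCG_Fi23.Col.b, TCG_Fi23.Col.e, TCG_Fi23.Col.i, TCG_Fi23.Col.h, TCG_Fi23.Col.d, TCG_Fi23.Col.c, TCG_Fi23.Col.i, TCG_Fi23.Col.e, TCG_Fi23.Col.f, TCG_Fi23.Col.d, TCG_Fi23.Col.e, TCG_Fi23.Col.c, TCG_Fi23.Col.d, TCG_Fi23.Col.h, TCG_Fi23.Col.i, TCG_Fi23.Col.f, TCG_Fi23.Col.d, TCG_Fi23.Col.e, TCG_Fi23.Col.c, TCG_Fi23.Col.d, TCG_Fi23.Col.h, TCG_Fi23.Col.b, TCG_Fi23.Col.c, TCG_Fi23.Col.d, TCG_Fi23.Col.b, TCG_Fi23.Col.a, TCG_Fi23.Col.d, TCG_Fi23.Col.c,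 TCG_Fi23.Col.b, TCG_Fi23.Col.e, TCG_Fi23.Col.h, TCG_Fi23.Col.d, TCG_Fi23.Col.c, TCG_Fi23.Col.b, TCG_Fi23.Col.h, TCG_Fi23.Col.i, TCG_Fi23.Col.d, TCG_Fi23.Col.h, TCG_Fi23.Col.e, TCG_Fi23.Col.b, TCG_Fi23.Col.c, TCG_Fi23.Col.d, TCG_Fi23.Col.b, TCG_Fi23.Col.d, TCG_Fi23.Col.c, TCG_Fi23.Col.b, TCG_Fi23.Col.e, TCG_Fi23.Col.h, TCG_Fi23.Col.d, TCG_Fi23.Col.c, TCG_Fi23.Col.b, TCG_Fi23.Col.h, TCG_Fi23.Col.i, TCG_Fi23.Col.d, TCG_Fi23.Col.h, TCG_Fi23.Col.e, TCG_Fi23.Col.b, TCG_Fi23.Col.c, TCG_Fi23.Col.d, TCG_Fi23.Col.b, TCG_Fi23.Col.a, TCG_Fi23.Col.b, TCG_Fi23.Col.d, TCG_Fi23.Col.c, TCG_Fi23.Col.b, TCG_Fi23.Col.a, TCG_Fi23.Col.e, TCG_Fi23.Col.d, TCG_Fi23.Col.c, TCG_Fi23.Col.f, TCG_Fi23.Col.e, TCG_Fi23.Col.h, TCG_Fi23.Col.d, TCG_Fi23.Col.c, TCG_Fi23.Col.b, TCG_Fi23.Col.e, TCG_Fi23.Col.i,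 TCG_Fi23.Col.h, TCG_Fi23.Col.d, TCG_Fi23.Col.c, TCG_Fi23.Col.i, TCG_Fi23.Col.e, TCG_Fi23.Col.f, TCG_Fi23.Col.d, TCG_Fi23.Col.e, TCG_Fi23.Col.c, TCG_Fi23.Col.d, TCG_Fi23.Col.h, TCG_Fi23.Col.i, TCG_Fi23.Col.f, TCG_Fi23.Col.d, TCG_Fi23.Col.e, TCG_Fi23.Col.c, TCG_Fi23.Col.d, TCG_Fi23.Col.h, TCG_Fi23.Col.b, TCG_Fi23.Col.c, TCG_Fi23.Col.d, TCG_Fi23.Col.b, TCG_Fi23.Col.a, TCG_Fi23.Col.b, TCG_Fi23.Col.d, TCG_Fi23.Col.c, TCG_Fi23.Col.b, TCG_Fi23.Col.e, TCG_Fi23.Col.h, TCG_Fi23.Col.d, TCG_Fi23.Col.i, TCG_Fi23.Col.h, TCG_Fi23.Col.b, TCG_Fi23.Col.c, TCG_Fi23.Col.d, TCG_Fi23.Col.h, TCG_Fi23.Col.e, TCG_Fi23.Col.b, TCG_Fi23.Col.c, TCG_Fi23.Col.d, TCG_Fi23.Col.b, TCG_Fi23.Col.d, TCG_Fi23.Col.c, TCG_Fi23.Col.b, TCG_Fi23.Col.e, TCG_Fi23.Col.h, TCG_Fi23.Col.d, TCG_Fi23.Col.i, TCG_Fi23.Col.h,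 TCG_Fi23.Col.b, TCG_Fi23.Col.c, TCG_Fi23.Col.d, TCG_Fi23.Col.h, TCG_Fi23.Col.e, TCG_Fi23.Col.b, TCG_Fi23.Col.c, TCG_Fi23.Col.d, TCG_Fi23.Col.b, TCG_Fi23.Col.d, TCG_Fi23.Col.c, TCG_Fi23.Col.b, TCG_Fi23.Col.e, TCG_Fi23.Col.h, TCG_Fi23.Col.d, TCG_Fi23.Col.i, TCG_Fi23.Col.h, TCG_Fi23.Col.b, TCG_Fi23.Col.c, TCG_Fi23.Col.d, TCG_Fi23.Col.h, TCG_Fi23.Col.e, TCG_Fi23.Col.b, TCG_Fi23.Col.c, TCG_Fi23.Col.d, TCG_Fi23.Col.b, TCG_Fi23.Col.d, TCG_Fi23.Col.c, TCG_Fi23.Col.b, TCG_Fi23.Col.e, TCG_Fi23.Col.h, TCG_Fi23.Col.d, TCG_Fi23.Col.i, TCG_Fi23.Col.h, TCG_Fi23.Col.b, TCG_Fi23.Col.c, TCG_Fi23.Col.d, TCG_Fi23.Col.h, TCG_Fi23.Col.e, TCG_Fi23.Col.b, TCG_Fi23.Col.c, TCG_Fi23.Col.d, TCG_Fi23.Col.a, TCG_Fi23.Col.c, TCG_Fi23.Col.d, TCG_Fi23.Col.c, TCG_Fi23.Col.f, TCG_Fi23.Col.g, TCG_Fi23.Col.j,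 TCG_Fi23.Col.g, TCG_Fi23.Col.i, TCG_Fi23.Col.g, TCG_Fi23.Col.j, TCG_Fi23.Col.g, TCG_Fi23.Col.c, TCG_Fi23.Col.d, TCG_Fi23.Col.a, TCG_Fi23.Col.i, TCG_Fi23.Col.a, TCG_Fi23.Col.b, TCG_Fi23.Col.d, TCG_Fi23.Col.c, TCG_Fi23.Col.b, TCG_Fi23.Col.a, TCG_Fi23.Col.e, TCG_Fi23.Col.d, TCG_Fi23.Col.c, TCG_Fi23.Col.f, TCG_Fi23.Col.e, TCG_Fi23.Col.h, TCG_Fi23.Col.d, TCG_Fi23.Col.c, TCG_Fi23.Col.b, TCG_Fi23.Col.e, TCG_Fi23.Col.i, TCG_Fi23.Col.h, TCG_Fi23.Col.d, TCG_Fi23.Col.c, TCG_Fi23.Col.i, TCG_Fi23.Col.e, TCG_Fi23.Col.f, TCG_Fi23.Col.d, TCG_Fi23.Col.e, TCG_Fi23.Col.c, TCG_Fi23.Col.d, TCG_Fi23.Col.h, TCG_Fi23.Col.i, TCG_Fi23.Col.f, TCG_Fi23.Col.d, TCG_Fi23.Col.e, TCG_Fi23.Col.c, TCG_Fi23.Col.d, TCG_Fi23.Col.h, TCG_Fi23.Col.b, TCG_Fi23.Col.c, TCG_Fi23.Col.d, TCG_Fi23.Col.b, TCG_Fi23.Col.a,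 TCG_Fi23.Col.d, TCG_Fi23.Col.c, TCG_Fi23.Col.b, TCG_Fi23.Col.e, TCG_Fi23.Col.h, TCG_Fi23.Col.d, TCG_Fi23.Col.c, TCG_Fi23.Col.b, TCG_Fi23.Col.h, TCG_Fi23.Col.i, TCG_Fi23.Col.d, TCG_Fi23.Col.h, TCG_Fi23.Col.e, TCG_Fi23.Col.b, TCG_Fi23.Col.c, TCG_Fi23.Col.d, TCG_Fi23.Col.b, TCG_Fi23.Col.i, TCG_Fi23.Col.b, TCG_Fi23.Col.d, TCG_Fi23.Col.c, TCG_Fi23.Col.b, TCG_Fi23.Col.e, TCG_Fi23.Col.h, TCG_Fi23.Col.d, TCG_Fi23.Col.i, TCG_Fi23.Col.h, TCG_Fi23.Col.b, TCG_Fi23.Col.c, TCG_Fi23.Col.d, TCG_Fi23.Col.h, TCG_Fi23.Col.e, TCG_Fi23.Col.b, TCG_Fi23.Col.c, TCG_Fi23.Col.d, TCG_Fi23.Col.a, TCG_Fi23.Col.b, TCG_Fi23.Col.d, TCG_Fi23.Col.c, TCG_Fi23.Col.b, TCG_Fi23.Col.h, TCG_Fi23.Col.d, TCG_Fi23.Col.c, TCG_Fi23.Col.e, TCG_Fi23.Col.d, TCG_Fi23.Col.f, TCG_Fi23.Col.i, TCG_Fi23.Col.h, TCG_Fi23.Col.d,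 TCG_Fi23.Col.c, TCG_Fi23.Col.e, TCG_Fi23.Col.d, TCG_Fi23.Col.f, TCG_Fi23.Col.e, TCG_Fi23.Col.i, TCG_Fi23.Col.c, TCG_Fi23.Col.d, TCG_Fi23.Col.h, TCG_Fi23.Col.i, TCG_Fi23.Col.e, TCG_Fi23.Col.b, TCG_Fi23.Col.c, TCG_Fi23.Col.d, TCG_Fi23.Col.h, TCG_Fi23.Col.e, TCG_Fi23.Col.f, TCG_Fi23.Col.c, TCG_Fi23.Col.d, TCG_Fi23.Col.e, TCG_Fi23.Col.a, TCG_Fi23.Col.b, TCG_Fi23.Col.c, TCG_Fi23.Col.d, TCG_Fi23.Col.b, TCG_Fi23.Col.a, TCG_Fi23.Col.b, TCG_Fi23.Col.d, TCG_Fi23.Col.c, TCG_Fi23.Col.b, TCG_Fi23.Col.e, TCG_Fi23.Col.h, TCG_Fi23.Col.d, TCG_Fi23.Col.i, TCG_Fi23.Col.h, TCG_Fi23.Col.b, TCG_Fi23.Col.c, TCG_Fi23.Col.d, TCG_Fi23.Col.h, TCG_Fi23.Col.e, TCG_Fi23.Col.b, TCG_Fi23.Col.c, TCG_Fi23.Col.d, TCG_Fi23.Col.i, TCG_Fi23.Col.a, TCG_Fi23.Col.b, TCG_Fi23.Col.d, TCG_Fi23.Col.c, TCG_Fi23.Col.b,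 TCG_Fi23.Col.h, TCG_Fi23.Col.d, TCG_Fi23.Col.c, TCG_Fi23.Col.e, TCG_Fi23.Col.d, TCG_Fi23.Col.f, TCG_Fi23.Col.i, TCG_Fi23.Col.h, TCG_Fi23.Col.d, TCG_Fi23.Col.c, TCG_Fi23.Col.e, TCG_Fi23.Col.d, TCG_Fi23.Col.f, TCG_Fi23.Col.e, TCG_Fi23.Col.i, TCG_Fi23.Col.c, TCG_Fi23.Col.d, TCG_Fi23.Col.h, TCG_Fi23.Col.i, TCG_Fi23.Col.e, TCG_Fi23.Col.b, TCG_Fi23.Col.c, TCG_Fi23.Col.d, TCG_Fi23.Col.h, TCG_Fi23.Col.e, TCG_Fi23.Col.f, TCG_Fi23.Col.c, TCG_Fi23.Col.d, TCG_Fi23.Col.e, TCG_Fi23.Col.a, TCG_Fi23.Col.h, TCG_Fi23.Col.d, TCG_Fi23.Col.c, TCG_Fi23.Col.e, TCG_Fi23.Col.d, TCG_Fi23.Col.f, TCG_Fi23.Col.i, TCG_Fi23.Col.h, TCG_Fi23.Col.d, TCG_Fi23.Col.c, TCG_Fi23.Col.e, TCG_Fi23.Col.d, TCG_Fi23.Col.f, TCG_Fi23.Col.e, TCG_Fi23.Col.i, TCG_Fi23.Col.c, TCG_Fi23.Col.d, TCG_Fi23.Col.h, TCG_Fi23.Col.i,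 TCG_Fi23.Col.e, TCG_Fi23.Col.b, TCG_Fi23.Col.c, TCG_Fi23.Col.d, TCG_Fi23.Col.h, TCG_Fi23.Col.e, TCG_Fi23.Col.f, TCG_Fi23.Col.c, TCG_Fi23.Col.d, TCG_Fi23.Col.e, TCG_Fi23.Col.a, TCG_Fi23.Col.b, TCG_Fi23.Col.c, TCG_Fi23.Col.d, TCG_Fi23.Col.c, TCG_Fi23.Col.d, TCG_Fi23.Col.c, TCG_Fi23.Col.b, TCG_Fi23.Col.e, TCG_Fi23.Col.d, TCG_Fi23.Col.h, TCG_Fi23.Col.d, TCG_Fi23.Col.e, TCG_Fi23.Col.f, TCG_Fi23.Col.i, TCG_Fi23.Col.h, TCG_Fi23.Col.d, TCG_Fi23.Col.c, TCG_Fi23.Col.e, TCG_Fi23.Col.d, TCG_Fi23.Col.h, TCG_Fi23.Col.g, TCG_Fi23.Col.a, TCG_Fi23.Col.f, TCG_Fi23.Col.b, TCG_Fi23.Col.e, TCG_Fi23.Col.c, TCG_Fi23.Col.d, TCG_Fi23.Col.c, TCG_Fi23.Col.h, TCG_Fi23.Col.c, TCG_Fi23.Col.i, TCG_Fi23.Col.c, TCG_Fi23.Col.d, TCG_Fi23.Col.b, TCG_Fi23.Col.e, TCG_Fi23.Col.a, TCG_Fi23.Col.f, TCG_Fi23.Col.c,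 TCG_Fi23.Col.d, TCG_Fi23.Col.c, TCG_Fi23.Col.h, TCG_Fi23.Col.c, TCG_Fi23.Col.d, TCG_Fi23.Col.b, TCG_Fi23.Col.e, TCG_Fi23.Col.a, TCG_Fi23.Col.f, TCG_Fi23.Col.c, TCG_Fi23.Col.d, TCG_Fi23.Col.b, TCG_Fi23.Col.e, TCG_Fi23.Col.a, TCG_Fi23.Col.f, TCG_Fi23.Col.g, TCG_Fi23.Col.c, TCG_Fi23.Col.d, TCG_Fi23.Col.c, TCG_Fi23.Col.h, TCG_Fi23.Col.b, TCG_Fi23.Col.e, TCG_Fi23.Col.c, TCG_Fi23.Col.i, TCG_Fi23.Col.j, TCG_Fi23.Col.g, TCG_Fi23.Col.f, TCG_Fi23.Col.e, TCG_Fi23.Col.d, TCG_Fi23.Col.c, TCG_Fi23.Col.b, TCG_Fi23.Col.a, TCG_Fi23.Col.h, TCG_Fi23.Col.d, TCG_Fi23.Col.c, TCG_Fi23.Col.b, TCG_Fi23.Col.e, TCG_Fi23.Col.d, TCG_Fi23.Col.c, TCG_Fi23.Col.f, TCG_Fi23.Col.g, TCG_Fi23.Col.h, TCG_Fi23.Col.i, TCG_Fi23.Col.h, TCG_Fi23.Col.d, TCG_Fi23.Col.c, TCG_Fi23.Col.b, TCG_Fi23.Col.e, TCG_Fi23.Col.d,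 TCG_Fi23.Col.c, TCG_Fi23.Col.f, TCG_Fi23.Col.e, TCG_Fi23.Col.d, TCG_Fi23.Col.h, TCG_Fi23.Col.d, TCG_Fi23.Col.c, TCG_Fi23.Col.b, TCG_Fi23.Col.i, TCG_Fi23.Col.h]
def Wy : List Col := [TCG_Fi23.Col.i, TCG_Fi23.Col.b, TCG_Fi23.Col.d, TCG_Fi23.Col.c, TCG_Fi23.Col.b, TCG_Fi23.Col.e, TCG_Fi23.Col.h, TCG_Fi23.Col.d, TCG_Fi23.Col.i, TCG_Fi23.Col.h, TCG_Fi23.Col.b, TCG_Fi23.Col.c, TCG_Fi23.Col.d, TCG_Fi23.Col.h, TCG_Fi23.Col.e, TCG_Fi23.Col.b, TCG_Fi23.Col.c, TCG_Fi23.Col.d, TCG_Fi23.Col.i, TCG_Fi23.Col.b, TCG_Fi23.Col.d, TCG_Fi23.Col.c, TCG_Fi23.Col.b, TCG_Fi23.Col.e, TCG_Fi23.Col.h, TCG_Fi23.Col.d, TCG_Fi23.Col.i, TCG_Fi23.Col.h, TCG_Fi23.Col.b, TCG_Fi23.Col.c, TCG_Fi23.Col.d, TCG_Fi23.Col.h, TCG_Fi23.Col.e, TCG_Fi23.Col.b, TCG_Fi23.Col.c, TCG_Fi23.Col.d, TCG_Fi23.Col.c, TCG_Fi23.Col.b,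 TCG_Fi23.Col.h, TCG_Fi23.Col.i, TCG_Fi23.Col.d, TCG_Fi23.Col.c, TCG_Fi23.Col.b, TCG_Fi23.Col.e, TCG_Fi23.Col.h, TCG_Fi23.Col.d, TCG_Fi23.Col.c, TCG_Fi23.Col.b, TCG_Fi23.Col.h, TCG_Fi23.Col.i, TCG_Fi23.Col.d, TCG_Fi23.Col.h, TCG_Fi23.Col.e, TCG_Fi23.Col.b, TCG_Fi23.Col.c, TCG_Fi23.Col.d, TCG_Fi23.Col.b, TCG_Fi23.Col.a, TCG_Fi23.Col.b, TCG_Fi23.Col.d, TCG_Fi23.Col.c, TCG_Fi23.Col.b, TCG_Fi23.Col.a, TCG_Fi23.Col.e, TCG_Fi23.Col.d, TCG_Fi23.Col.c, TCG_Fi23.Col.f, TCG_Fi23.Col.e, TCG_Fi23.Col.h, TCG_Fi23.Col.d, TCG_Fi23.Col.c, TCG_Fi23.Col.b, TCG_Fi23.Col.e, TCG_Fi23.Col.i, TCG_Fi23.Col.h, TCG_Fi23.Col.d, TCG_Fi23.Col.c, TCG_Fi23.Col.i, TCG_Fi23.Col.e, TCG_Fi23.Col.f, TCG_Fi23.Col.d, TCG_Fi23.Col.e, TCG_Fi23.Col.c, TCG_Fi23.Col.d, TCG_Fi23.Col.h, TCG_Fi23.Col.i, TCG_Fi23.Col.f,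 TCG_Fi23.Col.d, TCG_Fi23.Col.e, TCG_Fi23.Col.c, TCG_Fi23.Col.d, TCG_Fi23.Col.h, TCG_Fi23.Col.b, TCG_Fi23.Col.c, TCG_Fi23.Col.d, TCG_Fi23.Col.b, TCG_Fi23.Col.a, TCG_Fi23.Col.d, TCG_Fi23.Col.c, TCG_Fi23.Col.b, TCG_Fi23.Col.e, TCG_Fi23.Col.h, TCG_Fi23.Col.d, TCG_Fi23.Col.c, TCG_Fi23.Col.b, TCG_Fi23.Col.h, TCG_Fi23.Col.i, TCG_Fi23.Col.d, TCG_Fi23.Col.h, TCG_Fi23.Col.e, TCG_Fi23.Col.b, TCG_Fi23.Col.c, TCG_Fi23.Col.d, TCG_Fi23.Col.b, TCG_Fi23.Col.d, TCG_Fi23.Col.c, TCG_Fi23.Col.b, TCG_Fi23.Col.e, TCG_Fi23.Col.h, TCG_Fi23.Col.d, TCG_Fi23.Col.c, TCG_Fi23.Col.b, TCG_Fi23.Col.h, TCG_Fi23.Col.i, TCG_Fi23.Col.d, TCG_Fi23.Col.h, TCG_Fi23.Col.e, TCG_Fi23.Col.b, TCG_Fi23.Col.c, TCG_Fi23.Col.d, TCG_Fi23.Col.b, TCG_Fi23.Col.i, TCG_Fi23.Col.b, TCG_Fi23.Col.d, TCG_Fi23.Col.c, TCG_Fi23.Col.b,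 TCG_Fi23.Col.e, TCG_Fi23.Col.h, TCG_Fi23.Col.d, TCG_Fi23.Col.i, TCG_Fi23.Col.h, TCG_Fi23.Col.b, TCG_Fi23.Col.c, TCG_Fi23.Col.d, TCG_Fi23.Col.h, TCG_Fi23.Col.e, TCG_Fi23.Col.b, TCG_Fi23.Col.c, TCG_Fi23.Col.d, TCG_Fi23.Col.b, TCG_Fi23.Col.d, TCG_Fi23.Col.c, TCG_Fi23.Col.b, TCG_Fi23.Col.e, TCG_Fi23.Col.h, TCG_Fi23.Col.d, TCG_Fi23.Col.i, TCG_Fi23.Col.h, TCG_Fi23.Col.b, TCG_Fi23.Col.c, TCG_Fi23.Col.d, TCG_Fi23.Col.h, TCG_Fi23.Col.e, TCG_Fi23.Col.b, TCG_Fi23.Col.c, TCG_Fi23.Col.d, TCG_Fi23.Col.b, TCG_Fi23.Col.c, TCG_Fi23.Col.a, TCG_Fi23.Col.b, TCG_Fi23.Col.d, TCG_Fi23.Col.c, TCG_Fi23.Col.b, TCG_Fi23.Col.a, TCG_Fi23.Col.e, TCG_Fi23.Col.d, TCG_Fi23.Col.c, TCG_Fi23.Col.f, TCG_Fi23.Col.e, TCG_Fi23.Col.h, TCG_Fi23.Col.d, TCG_Fi23.Col.c, TCG_Fi23.Col.b, TCG_Fi23.Col.e, TCG_Fi23.Col.i,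 TCG_Fi23.Col.h, TCG_Fi23.Col.d, TCG_Fi23.Col.c, TCG_Fi23.Col.i, TCG_Fi23.Col.e, TCG_Fi23.Col.f, TCG_Fi23.Col.d, TCG_Fi23.Col.e, TCG_Fi23.Col.c, TCG_Fi23.Col.d, TCG_Fi23.Col.h, TCG_Fi23.Col.i, TCG_Fi23.Col.f, TCG_Fi23.Col.d, TCG_Fi23.Col.e, TCG_Fi23.Col.c, TCG_Fi23.Col.d, TCG_Fi23.Col.h, TCG_Fi23.Col.b, TCG_Fi23.Col.c, TCG_Fi23.Col.d, TCG_Fi23.Col.b, TCG_Fi23.Col.a, TCG_Fi23.Col.d, TCG_Fi23.Col.c, TCG_Fi23.Col.b, TCG_Fi23.Col.e, TCG_Fi23.Col.h, TCG_Fi23.Col.d, TCG_Fi23.Col.c, TCG_Fi23.Col.b, TCG_Fi23.Col.h, TCG_Fi23.Col.i, TCG_Fi23.Col.d, TCG_Fi23.Col.h, TCG_Fi23.Col.e, TCG_Fi23.Col.b, TCG_Fi23.Col.c, TCG_Fi23.Col.d, TCG_Fi23.Col.b, TCG_Fi23.Col.a, TCG_Fi23.Col.b, TCG_Fi23.Col.d, TCG_Fi23.Col.c, TCG_Fi23.Col.b, TCG_Fi23.Col.a, TCG_Fi23.Col.e, TCG_Fi23.Col.d, TCG_Fi23.Col.c,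 TCG_Fi23.Col.f, TCG_Fi23.Col.e, TCG_Fi23.Col.h, TCG_Fi23.Col.d, TCG_Fi23.Col.c, TCG_Fi23.Col.b, TCG_Fi23.Col.e, TCG_Fi23.Col.i, TCG_Fi23.Col.h, TCG_Fi23.Col.d, TCG_Fi23.Col.c, TCG_Fi23.Col.i, TCG_Fi23.Col.e, TCG_Fi23.Col.f, TCG_Fi23.Col.d, TCG_Fi23.Col.e, TCG_Fi23.Col.c, TCG_Fi23.Col.d, TCG_Fi23.Col.h, TCG_Fi23.Col.i, TCG_Fi23.Col.f, TCG_Fi23.Col.d, TCG_Fi23.Col.e, TCG_Fi23.Col.c, TCG_Fi23.Col.d, TCG_Fi23.Col.h, TCG_Fi23.Col.b, TCG_Fi23.Col.c, TCG_Fi23.Col.d, TCG_Fi23.Col.b, TCG_Fi23.Col.a, TCG_Fi23.Col.i, TCG_Fi23.Col.d, TCG_Fi23.Col.c, TCG_Fi23.Col.b, TCG_Fi23.Col.e, TCG_Fi23.Col.h, TCG_Fi23.Col.d, TCG_Fi23.Col.c, TCG_Fi23.Col.b, TCG_Fi23.Col.h, TCG_Fi23.Col.i, TCG_Fi23.Col.d, TCG_Fi23.Col.h, TCG_Fi23.Col.e, TCG_Fi23.Col.b, TCG_Fi23.Col.c, TCG_Fi23.Col.d, TCG_Fi23.Col.b,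 TCG_Fi23.Col.a, TCG_Fi23.Col.b, TCG_Fi23.Col.d, TCG_Fi23.Col.c, TCG_Fi23.Col.b, TCG_Fi23.Col.a, TCG_Fi23.Col.e, TCG_Fi23.Col.d, TCG_Fi23.Col.c, TCG_Fi23.Col.f, TCG_Fi23.Col.e, TCG_Fi23.Col.h, TCG_Fi23.Col.d, TCG_Fi23.Col.c, TCG_Fi23.Col.b, TCG_Fi23.Col.e, TCG_Fi23.Col.i, TCG_Fi23.Col.h, TCG_Fi23.Col.d, TCG_Fi23.Col.c, TCG_Fi23.Col.i, TCG_Fi23.Col.e, TCG_Fi23.Col.f, TCG_Fi23.Col.d, TCG_Fi23.Col.e, TCG_Fi23.Col.c, TCG_Fi23.Col.d, TCG_Fi23.Col.h, TCG_Fi23.Col.i, TCG_Fi23.Col.f, TCG_Fi23.Col.d, TCG_Fi23.Col.e, TCG_Fi23.Col.c, TCG_Fi23.Col.d, TCG_Fi23.Col.h, TCG_Fi23.Col.b, TCG_Fi23.Col.c, TCG_Fi23.Col.d, TCG_Fi23.Col.b, TCG_Fi23.Col.a, TCG_Fi23.Col.d, TCG_Fi23.Col.c, TCG_Fi23.Col.b, TCG_Fi23.Col.e, TCG_Fi23.Col.h, TCG_Fi23.Col.d, TCG_Fi23.Col.c, TCG_Fi23.Col.b, TCG_Fi23.Col.h,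 TCG_Fi23.Col.i, TCG_Fi23.Col.d, TCG_Fi23.Col.h, TCG_Fi23.Col.e, TCG_Fi23.Col.b, TCG_Fi23.Col.c, TCG_Fi23.Col.d, TCG_Fi23.Col.b, TCG_Fi23.Col.i, TCG_Fi23.Col.b, TCG_Fi23.Col.d, TCG_Fi23.Col.c, TCG_Fi23.Col.b, TCG_Fi23.Col.e, TCG_Fi23.Col.h, TCG_Fi23.Col.d, TCG_Fi23.Col.i, TCG_Fi23.Col.h, TCG_Fi23.Col.b, TCG_Fi23.Col.c, TCG_Fi23.Col.d, TCG_Fi23.Col.h, TCG_Fi23.Col.e, TCG_Fi23.Col.b, TCG_Fi23.Col.c, TCG_Fi23.Col.d, TCG_Fi23.Col.i, TCG_Fi23.Col.a, TCG_Fi23.Col.b, TCG_Fi23.Col.d, TCG_Fi23.Col.c, TCG_Fi23.Col.b, TCG_Fi23.Col.h, TCG_Fi23.Col.d, TCG_Fi23.Col.c, TCG_Fi23.Col.e, TCG_Fi23.Col.d, TCG_Fi23.Col.f, TCG_Fi23.Col.i, TCG_Fi23.Col.h, TCG_Fi23.Col.d, TCG_Fi23.Col.c, TCG_Fi23.Col.e, TCG_Fi23.Col.d, TCG_Fi23.Col.f, TCG_Fi23.Col.e, TCG_Fi23.Col.i, TCG_Fi23.Col.c, TCG_Fi23.Col.d,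 TCG_Fi23.Col.h, TCG_Fi23.Col.i, TCG_Fi23.Col.e, TCG_Fi23.Col.b, TCG_Fi23.Col.c, TCG_Fi23.Col.d, TCG_Fi23.Col.h, TCG_Fi23.Col.e, TCG_Fi23.Col.f, TCG_Fi23.Col.c, TCG_Fi23.Col.d, TCG_Fi23.Col.e, TCG_Fi23.Col.a, TCG_Fi23.Col.b, TCG_Fi23.Col.c, TCG_Fi23.Col.d, TCG_Fi23.Col.b, TCG_Fi23.Col.a, TCG_Fi23.Col.b, TCG_Fi23.Col.d, TCG_Fi23.Col.c, TCG_Fi23.Col.b, TCG_Fi23.Col.e, TCG_Fi23.Col.h, TCG_Fi23.Col.d, TCG_Fi23.Col.i, TCG_Fi23.Col.h, TCG_Fi23.Col.b, TCG_Fi23.Col.c, TCG_Fi23.Col.d, TCG_Fi23.Col.h, TCG_Fi23.Col.e, TCG_Fi23.Col.b, TCG_Fi23.Col.c, TCG_Fi23.Col.d, TCG_Fi23.Col.a, TCG_Fi23.Col.b, TCG_Fi23.Col.d, TCG_Fi23.Col.c, TCG_Fi23.Col.b, TCG_Fi23.Col.h, TCG_Fi23.Col.d, TCG_Fi23.Col.c, TCG_Fi23.Col.e, TCG_Fi23.Col.d, TCG_Fi23.Col.f, TCG_Fi23.Col.i, TCG_Fi23.Col.h, TCG_Fi23.Col.d,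 TCG_Fi23.Col.c, TCG_Fi23.Col.e, TCG_Fi23.Col.d, TCG_Fi23.Col.f, TCG_Fi23.Col.e, TCG_Fi23.Col.i, TCG_Fi23.Col.c, TCG_Fi23.Col.d, TCG_Fi23.Col.h, TCG_Fi23.Col.i, TCG_Fi23.Col.e, TCG_Fi23.Col.b, TCG_Fi23.Col.c, TCG_Fi23.Col.d, TCG_Fi23.Col.h, TCG_Fi23.Col.e, TCG_Fi23.Col.f, TCG_Fi23.Col.c, TCG_Fi23.Col.d, TCG_Fi23.Col.e, TCG_Fi23.Col.a, TCG_Fi23.Col.b, TCG_Fi23.Col.c, TCG_Fi23.Col.d, TCG_Fi23.Col.b, TCG_Fi23.Col.a, TCG_Fi23.Col.i, TCG_Fi23.Col.a, TCG_Fi23.Col.b, TCG_Fi23.Col.c, TCG_Fi23.Col.d, TCG_Fi23.Col.c, TCG_Fi23.Col.b, TCG_Fi23.Col.e, TCG_Fi23.Col.d, TCG_Fi23.Col.c, TCG_Fi23.Col.h, TCG_Fi23.Col.d, TCG_Fi23.Col.c, TCG_Fi23.Col.b, TCG_Fi23.Col.e, TCG_Fi23.Col.d, TCG_Fi23.Col.f, TCG_Fi23.Col.e, TCG_Fi23.Col.h, TCG_Fi23.Col.i, TCG_Fi23.Col.h, TCG_Fi23.Col.d, TCG_Fi23.Col.c,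 TCG_Fi23.Col.e, TCG_Fi23.Col.d, TCG_Fi23.Col.h, TCG_Fi23.Col.i, TCG_Fi23.Col.g, TCG_Fi23.Col.a, TCG_Fi23.Col.f, TCG_Fi23.Col.b, TCG_Fi23.Col.e, TCG_Fi23.Col.c, TCG_Fi23.Col.d, TCG_Fi23.Col.c, TCG_Fi23.Col.h, TCG_Fi23.Col.b, TCG_Fi23.Col.e, TCG_Fi23.Col.a, TCG_Fi23.Col.f, TCG_Fi23.Col.c, TCG_Fi23.Col.d, TCG_Fi23.Col.c, TCG_Fi23.Col.i, TCG_Fi23.Col.c, TCG_Fi23.Col.h, TCG_Fi23.Col.c, TCG_Fi23.Col.d, TCG_Fi23.Col.b, TCG_Fi23.Col.e, TCG_Fi23.Col.a, TCG_Fi23.Col.f, TCG_Fi23.Col.g, TCG_Fi23.Col.c, TCG_Fi23.Col.d, TCG_Fi23.Col.b, TCG_Fi23.Col.e, TCG_Fi23.Col.a, TCG_Fi23.Col.f, TCG_Fi23.Col.c, TCG_Fi23.Col.d, TCG_Fi23.Col.c, TCG_Fi23.Col.h, TCG_Fi23.Col.b, TCG_Fi23.Col.e, TCG_Fi23.Col.c, TCG_Fi23.Col.d, TCG_Fi23.Col.b, TCG_Fi23.Col.e, TCG_Fi23.Col.a, TCG_Fi23.Col.f, TCG_Fi23.Col.c,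 TCG_Fi23.Col.d, TCG_Fi23.Col.c, TCG_Fi23.Col.h, TCG_Fi23.Col.j, TCG_Fi23.Col.g, TCG_Fi23.Col.f, TCG_Fi23.Col.e, TCG_Fi23.Col.d, TCG_Fi23.Col.c, TCG_Fi23.Col.h, TCG_Fi23.Col.d, TCG_Fi23.Col.i]
theorem dx : CData φ P closed lvs x TX 810839 Wx [643729, 758357] [1, 4, 6, 11, 0, 2, 3] := CData.mk' hx (by decide +kernel) (by decide +kernel) (by decide +kernel) (by decide +kernel)
theorem dy : CData φ P closed lvs y TY 524599 Wy [884669, 774119] [0, 1, 2, 3, 6, 4, 5] := CData.mk' hy (by decide +kernel) (by decide +kernel) (by decide +kernel) (by decide +kernel)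
end CfsgLib.TCFi23.Au
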