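import Cfsg.Agent.EqBase
import Cfsg.Agent.LibTCFi23OD
set_option autoImplicit false
set_option linter.all false
set_option maxRecDepth 1000000
set_option maxHeartbeats 0
namespace CfsgLib.TCFi23
open CfsgLib.TC Cfsg.Spor CfsgLib.TCG_Fi23
theorem iv_0 : Tr.all IV L_0 = true := by decide +kernel
theorem iv_1 : Tr.all IV L_1 = true := by decide +kernel
theorem iv_2 : Tr.all IV L_2 = true := by decide +kernel
theorem iv_3 : Tr.all IV L_3 = true := by decide +kernel
theorem iv_4 : Tr.all IV L_4 = true := by decide +kernel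
theorem iv_5 : Tr.all IV L_5 = true := by decide +kernel
theorem iv_6 : Tr.all IV L_6 = true := by decide +kernel
theorem iv_7 : Tr.all IV L_7 = true := by decide +kernel
theorem ht_0 : Tr.all (treeQ mt (fun q => Nat.beq (RP (OB q)) q) wsH HP HR HW) L_0 = true := by decide +kernel
theorem ht_1 : Tr.all (treeQ mt (fun q => Nat.beq (RP (OB q)) q) wsH HP HR HW) L_1 = true := by decide +kernel
theorem ht_2 : Tr.all (treeQ mt (fun q => Nat.beq (RP (OB q)) q) wsH HP HR HW) L_2 = true := by decide +kernel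
theorem ht_3 : Tr.all (treeQ mt (fun q => Nat.beq (RP (OB q)) q) wsH HP HR HW) L_3 = true := by decide +kernel
theorem ht_4 : Tr.all (treeQ mt (fun q => Nat.beq (RP (OB q)) q) wsH HP HR HW) L_4 = true := by decide +kernel
theorem ht_5 : Tr.all (treeQ mt (fun q => Nat.beq (RP (OB q)) q) wsH HP HR HW) L_5 = true := by decide +kernel
theorem ht_6 : Tr.all (treeQ mt (fun q => Nat.beq (RP (OB q)) q) wsH HP HR HW) L_6 = true := by decide +kernel
theorem ht_7 : Tr.all (treeQ mt (fun q => Nat.beq (RP (OB q)) q) wsH HP HR HW) L_7 = true := by decide +kernel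
theorem cn_1_0 : cnt OB 1 L_0 = 975 := by decide +kernel
theorem cn_2_0 : cnt OB 2 L_0 = 3120 := by decide +kernel
theorem cn_1_1 : cnt OB 1 L_1 = 915 := by decide +kernel
theorem cn_2_1 : cnt OB 2 L_1 = 3181 := by decide +kernel
theorem cn_1_2 : cnt OB 1 L_2 = 671 := by decide +kernel
theorem cn_2_2 : cnt OB 2 L_2 = 3425 := by decide +kernel
theorem cn_1_3 : cnt OB 1 L_3 = 414 := by decide +kernel
theorem cn_2_3 : cnt OB 2 L_3 = 3682 := by decide +kernel
theorem cn_1_4 : cnt OB 1 L_4 = 437 := by decide +kernel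
theorem cn_2_4 : cnt OB 2 L_4 = 3659 := by decide +kernel
theorem cn_1_5 : cnt OB 1 L_5 = 98 := by decide +kernel
theorem cn_2_5 : cnt OB 2 L_5 = 3998 := by decide +kernel
theorem cn_1_6 : cnt OB 1 L_6 = 0 := by decide +kernel
theorem cn_2_6 : cnt OB 2 L_6 = 4096 := by decide +kernel
theorem cn_1_7 : cnt OB 1 L_7 = 0 := by decide +kernel
theorem cn_2_7 : cnt OB 2 L_7 = 2999 := by decide +kernel
end CfsgLib.TCFi23
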