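import Cfsg.Agent.EqBase
import Cfsg.Agent.LibTCFi23
import Cfsg.Agent.LibTCFi23OX0
set_option autoImplicit false
set_option linter.all false
set_option maxRecDepth 1000000
set_option maxHeartbeats 0
namespace CfsgLib.TCFi23
open CfsgLib.TC Cfsg.Spor CfsgLib.TCG_Fi23
theorem ht : Tr.all (treeQ mt (fun q => Nat.beq (RP (OB q)) q) wsH HP HR HW) L = true := (Tr.all_nd (Tr.all_nd (Tr.all_nd ht_0 ht_1) (Tr.all_nd ht_2 ht_3)) (Tr.all_nd (Tr.all_nd ht_4 ht_5) (Tr.all_nd ht_6 ht_7)))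
theorem iv : Tr.all IV L = true := (Tr.all_nd (Tr.all_nd (Tr.all_nd iv_0 iv_1) (Tr.all_nd iv_2 iv_3)) (Tr.all_nd (Tr.all_nd iv_4 iv_5) (Tr.all_nd iv_6 iv_7)))
theorem cnt_nd {OB : ℕ → ℕ} {i k : ℕ} {l r : Tr ℕ} {a b : ℕ} (hl : cnt OB i l = a) (hr : cnt OB i r = b) : cnt OB i (Tr.nd k l r) = a + b := by rw [← hl, ← hr]; rfl
theorem cnt_1 : cnt OB 1 L = 3510 := (cnt_nd (cnt_nd (cnt_nd cn_1_0 cn_1_1) (cnt_nd cn_1_2 cn_1_3)) (cnt_nd (cnt_nd cn_1_4 cn_1_5) (cnt_nd cn_1_6 cn_1_7)))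
theorem cnt_2 : cnt OB 2 L = 28160 := (cnt_nd (cnt_nd (cnt_nd cn_2_0 cn_2_1) (cnt_nd cn_2_2 cn_2_3)) (cnt_nd (cnt_nd cn_2_4 cn_2_5) (cnt_nd cn_2_6 cn_2_7)))
theorem hwsH (j x : ℕ) : ∃ w ∈ SW0, wsH j x = walk stp w x := (brecP (P := fun y => ∃ w ∈ SW0, y = walk stp w x) (brecP (P := fun y => ∃ w ∈ SW0, y = walk stp w x) (brecP (P := fun y => ∃ w ∈ SW0, y = walk stp w x) ⟨[Col.a], List.mem_cons_self, rfl⟩ ⟨[Col.b], (List.mem_cons_of_mem _ List.mem_cons_self), rfl⟩) (brecP (P := fun y => ∃ w ∈ SW0, y = walk stp w x) ⟨[Col.c], (List.mem_cons_of_mem _ (List.mem_cons_of_mem _ List.mem_cons_self)), rfl⟩ ⟨[Col.d], (List.mem_cons_of_mem _ (List.mem_cons_of_mem _ (List.mem_cons_of_mem _ List.mem_cons_self))), rfl⟩)) (brecP (P := fun y => ∃ w ∈ SW0, y = walk stp w x) (brecP (P := fun y => ∃ w ∈ SW0, y = walk stp w x) ⟨[Col.e], (List.mem_cons_of_mem _ (List.mem_cons_of_mem _ (List.mem_cons_of_mem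 _ (List.mem_cons_of_mem _ List.mem_cons_self)))), rfl⟩ ⟨[Col.f], (List.mem_cons_of_mem _ (List.mem_cons_of_mem _ (List.mem_cons_of_mem _ (List.mem_cons_of_mem _ (List.mem_cons_of_mem _ List.mem_cons_self))))), rfl⟩) (brecP (P := fun y => ∃ w ∈ SW0, y = walk stp w x) ⟨[Col.g], (List.mem_cons_of_mem _ (List.mem_cons_of_mem _ (List.mem_cons_of_mem _ (List.mem_cons_of_mem _ (List.mem_cons_of_mem _ (List.mem_cons_of_mem _ List.mem_cons_self)))))), rfl⟩ (brecP (P := fun y => ∃ w ∈ SW0, y = walk stp w x) ⟨[Col.h], (List.mem_cons_of_mem _ (List.mem_cons_of_mem _ (List.mem_cons_of_mem _ (List.mem_cons_of_mem _ (List.mem_cons_of_mem _ (List.mem_cons_of_mem _ (List.mem_cons_of_mem _ List.mem_cons_self))))))), rfl⟩ ⟨[Col.i], (List.mem_cons_of_mem _ (List.mem_cons_of_mem _ (List.mem_cons_of_mem _ (List.mem_cons_of_mem _ (List.mem_cons_of_mem _ (List.mem_cons_of_mem _ (List.mem_cons_of_mem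 _ (List.mem_cons_of_mem _ List.mem_cons_self)))))))), rfl⟩))))
theorem iu (q : ℕ) : IV q = true ↔ Nat.ble (OB q) 2 = true ∧ Nat.beq (OB (F_a q)) (OB q) = true ∧ Nat.beq (OB (F_b q)) (OB q) = true ∧ Nat.beq (OB (F_c q)) (OB q) = true ∧ Nat.beq (OB (F_d q)) (OB q) = true ∧ Nat.beq (OB (F_e q)) (OB q) = true ∧ Nat.beq (OB (F_f q)) (OB q) = true ∧ Nat.beq (OB (F_g q)) (OB q) = true ∧ Nat.beq (OB (F_h q)) (OB q) = true ∧ Nat.beq (OB (F_i q)) (OB q) = true := by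
  unfold IV
  simp only [bfalse_iff, and_true]
theorem hinvw : ∀ w ∈ SW0, ∀ q ∈ L.toList, OB (walk stp w q) = OB q := by
  intro w hw q hq
  have h := ((iu q).1 ((Tr.all_iff _ _).1 iv q hq)).2
  simp only [SW0, List.mem_cons, List.not_mem_nil, or_false] at hw
  rcases hw with rfl | rfl | rfl | rfl | rfl | rfl | rfl | rfl | rfl
  · simp only [walk_cons, walk_nil, stp_a, stp_b, stp_c, stp_d, stp_e, stp_f, stp_g, stp_j, stp_h, stp_i]
    exact Nat.eq_of_beq_eq_true (h.1)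
  · simp only [walk_cons, walk_nil, stp_a, stp_b, stp_c, stp_d, stp_e, stp_f, stp_g, stp_j, stp_h, stp_i]
    exact Nat.eq_of_beq_eq_true (h.2.1)
  · simp only [walk_cons, walk_nil, stp_a, stp_b, stp_c, stp_d, stp_e, stp_f, stp_g, stp_j, stp_h, stp_i]
    exact Nat.eq_of_beq_eq_true (h.2.2.1)
  · simp only [walk_cons, walk_nil, stp_a, stp_b, stp_c, stp_d, stp_e, stp_f, stp_g, stp_j, stp_h, stp_i]
    exact Nat.eq_of_beq_eq_true (h.2.2.2.1)
  · simp only [walk_cons, walk_nil, stp_a, stp_b, stp_c, stp_d, stp_e, stp_f, stp_g, stp_j, stp_h, stp_i]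
    exact Nat.eq_of_beq_eq_true (h.2.2.2.2.1)
  · simp only [walk_cons, walk_nil, stp_a, stp_b, stp_c, stp_d, stp_e, stp_f, stp_g, stp_j, stp_h, stp_i]
    exact Nat.eq_of_beq_eq_true (h.2.2.2.2.2.1)
  · simp only [walk_cons, walk_nil, stp_a, stp_b, stp_c, stp_d, stp_e, stp_f, stp_g, stp_j, stp_h, stp_i]
    exact Nat.eq_of_beq_eq_true (h.2.2.2.2.2.2.1)
  · simp only [walk_cons, walk_nil, stp_a, stp_b, stp_c, stp_d, stp_e, stp_f, stp_g, stp_j, stp_h, stp_i]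
    exact Nat.eq_of_beq_eq_true (h.2.2.2.2.2.2.2.1)
  · simp only [walk_cons, walk_nil, stp_a, stp_b, stp_c, stp_d, stp_e, stp_f, stp_g, stp_j, stp_h, stp_i]
    exact Nat.eq_of_beq_eq_true (h.2.2.2.2.2.2.2.2)
theorem hlt : Tr.all (fun q => Nat.ble (OB q) ([3510, 28160] : List ℕ).length) L = true := by
  rw [Tr.all_iff]
  intro q hq
  exact ((iu q).1 ((Tr.all_iff _ _).1 iv q hq)).1
theorem sub : Sub closed φ H OB ⟨q0, q0_mem⟩ := by
  refine ⟨main.2.1, main.2.2, orbit_labels2 φ (RP := RP) H (fun q => ?_)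
    (invQ_sound closed φ P φ_P (SW := SW0) H (le_of_eq H_eq) hinvw)⟩
  obtain ⟨r, _, h2, h, hh, hhr⟩ := treeQ_sound closed φ P φ_P (LB := L) (SW := SW0) (fun q h => h) mt_sound hwsH H H_SW ht q q.2
  exact ⟨r, Nat.eq_of_beq_eq_true h2, h, hh, hhr⟩
theorem ob_r1 : OB 525001 = 1 := by decide +kernel
theorem orb_1 : ∃ x : Fi23, (φ x ⟨q0, q0_mem⟩).1 = 525001 ∧ (MulAction.orbit H ((x : Fi23) : Fi23 ⧸ H)).ncard = 3510 :=
  sub.size_orb nodup (mt_sound _ (by decide +kernel)) (by rw [ob_r1]; exact cnt_1)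
theorem ob_r2 : OB 524341 = 2 := by decide +kernel
theorem orb_2 : ∃ x : Fi23, (φ x ⟨q0, q0_mem⟩).1 = 524341 ∧ (MulAction.orbit H ((x : Fi23) : Fi23 ⧸ H)).ncard = 28160 :=
  sub.size_orb nodup (mt_sound _ (by decide +kernel)) (by rw [ob_r2]; exact cnt_2)
theorem ob_q0 : OB q0 = 0 := by decide +kernel
theorem cnt_all : ∀ j (hj : j < ([3510, 28160] : List ℕ).length), cnt OB (j+1) L = ([3510, 28160] : List ℕ)[j] := by
  intro j hj
  match j, hj with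
  | 0, _ => exact cnt_1
  | 1, _ => exact cnt_2
  | (j+2), hj => exact absurd hj (by simp)
theorem maximal : ∀ K : Subgroup Fi23, H ≤ K → K = H ∨ K = ⊤ :=
  sub.maximal nodup P φ_P (s := [3510, 28160]) ob_q0 hlt cnt_all size_L [] (by simp) (by decide +kernel)
end CfsgLib.TCFi23
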