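import Cfsg.Agent.EqBase
import Cfsg.Agent.LibTCFi23TD
set_option autoImplicit false
set_option linter.all false
set_option maxRecDepth 1000000
set_option maxHeartbeats 0
namespace CfsgLib.TCFi23.Tab
open CfsgLib.TC Cfsg.Spor CfsgLib.TCG_Fi23 CfsgLib.TCFi23
theorem tb_0_0 : Tr.all TB_0 L_0 = true := by decide +kernel
theorem tb_0_2 : Tr.all TB_0 L_2 = true := by decide +kernel
theorem tb_0_4 : Tr.all TB_0 L_4 = true := by decide +kernel
theorem tb_0_6 : Tr.all TB_0 L_6 = true := by decide +kernel
theorem tb_2_2 : Tr.all TB_2 L_2 = true := by decide +kernel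
theorem tb_2_4 : Tr.all TB_2 L_4 = true := by decide +kernel
theorem tb_2_6 : Tr.all TB_2 L_6 = true := by decide +kernel
theorem tb_2_7 : Tr.all TB_2 L_7 = true := by decide +kernel
theorem tb_1_1 : Tr.all TB_1 L_1 = true := by decide +kernel
theorem tb_1_3 : Tr.all TB_1 L_3 = true := by decide +kernel
theorem tb_1_5 : Tr.all TB_1 L_5 = true := by decide +kernel
theorem tb_1_7 : Tr.all TB_1 L_7 = true := by decide +kernel
end CfsgLib.TCFi23.Tab
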