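import Cfsg.Agent.EqBase
import Cfsg.Agent.LibTCFi23
import Cfsg.Agent.LibTCFi23TX0
import Cfsg.Agent.LibTCFi23TX1
set_option autoImplicit false
set_option linter.all false
set_option maxRecDepth 1000000
set_option maxHeartbeats 0
namespace CfsgLib.TCFi23.Tab
open CfsgLib.TC Cfsg.Spor CfsgLib.TCG_Fi23 CfsgLib.TCFi23
theorem tb_0 : Tr.all TB_0 L = true := (Tr.all_nd (Tr.all_nd (Tr.all_nd tb_0_0 tb_0_1) (Tr.all_nd tb_0_2 tb_0_3)) (Tr.all_nd (Tr.all_nd tb_0_4 tb_0_5) (Tr.all_nd tb_0_6 tb_0_7)))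
theorem tu_0 (q : ℕ) : TB_0 q = true ↔ Nat.beq (F_h (F_g (F_f (F_e (F_d (F_c (F_b (F_h (F_g (F_f (F_e (F_d (F_c (F_b (F_h (F_g (F_f (F_e (F_d (F_c (F_b (F_h (F_g (F_f (F_e (F_d (F_c (F_b (F_h (F_g (F_f (F_e (F_d (F_c (F_b (F_h (F_g (F_f (F_e (F_d (F_c (F_b (F_h (F_g (F_f (F_e (F_d (F_c (F_b (F_h (F_g (F_f (F_e (F_d (F_c (F_b (F_h (F_g (F_f (F_e (F_d (F_c (F_b q))))))))))))))))))))))))))))))))))))))))))))))))))))))))))))))) (TT q) = true ∧ Nat.beq (F_a (TT q)) (TT (F_a q)) = true ∧ Nat.beq (F_b (TT q)) (TT (F_b q)) = true := by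
  unfold TB_0
  simp only [bfalse_iff, and_true]
theorem t_TT : ∀ q ∈ L.toList, walk stp w_TT q = TT q := by
  intro q hq
  have h := ((tu_0 q).1 ((Tr.all_iff _ _).1 tb_0 q hq)).1
  simp only [w_TT, walk_cons, walk_nil, stp_a, stp_b, stp_c, stp_d, stp_e, stp_f, stp_g, stp_j, stp_h, stp_i]
  exact Nat.eq_of_beq_eq_true h
theorem c_0 : ∀ q ∈ L.toList, walk stp [TCG_Fi23.Col.a] (TT q) = TT (walk stp [TCG_Fi23.Col.a] q) := by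
  intro q hq
  have h := ((tu_0 q).1 ((Tr.all_iff _ _).1 tb_0 q hq)).2.1
  simp only [walk_cons, walk_nil, stp_a, stp_b, stp_c, stp_d, stp_e, stp_f, stp_g, stp_j, stp_h, stp_i]
  exact Nat.eq_of_beq_eq_true h
theorem c_1 : ∀ q ∈ L.toList, walk stp [TCG_Fi23.Col.b] (TT q) = TT (walk stp [TCG_Fi23.Col.b] q) := by
  intro q hq
  have h := ((tu_0 q).1 ((Tr.all_iff _ _).1 tb_0 q hq)).2.2
  simp only [walk_cons, walk_nil, stp_a, stp_b, stp_c, stp_d, stp_e, stp_f, stp_g, stp_j, stp_h, stp_i]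
  exact Nat.eq_of_beq_eq_true h
theorem tb_1 : Tr.all TB_1 L = true := (Tr.all_nd (Tr.all_nd (Tr.all_nd tb_1_0 tb_1_1) (Tr.all_nd tb_1_2 tb_1_3)) (Tr.all_nd (Tr.all_nd tb_1_4 tb_1_5) (Tr.all_nd tb_1_6 tb_1_7)))
theorem tu_1 (q : ℕ) : TB_1 q = true ↔ Nat.beq (F_c (TT q)) (TT (F_c q)) = true ∧ Nat.beq (F_d (TT q)) (TT (F_d q)) = true ∧ Nat.beq (F_e (TT q)) (TT (F_e q)) = true ∧ Nat.beq (F_f (TT q)) (TT (F_f q)) = true ∧ Nat.beq (F_g (TT q)) (TT (F_g q)) = true ∧ Nat.beq (F_h (TT q)) (TT (F_h q)) = true ∧ Nat.beq (F_i (TT q)) (TT (F_i q)) = true := by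
  unfold TB_1
  simp only [bfalse_iff, and_true]
theorem c_2 : ∀ q ∈ L.toList, walk stp [TCG_Fi23.Col.c] (TT q) = TT (walk stp [TCG_Fi23.Col.c] q) := by
  intro q hq
  have h := ((tu_1 q).1 ((Tr.all_iff _ _).1 tb_1 q hq)).1
  simp only [walk_cons, walk_nil, stp_a, stp_b, stp_c, stp_d, stp_e, stp_f, stp_g, stp_j, stp_h, stp_i]
  exact Nat.eq_of_beq_eq_true h
theorem c_3 : ∀ q ∈ L.toList, walk stp [TCG_Fi23.Col.d] (TT q) = TT (walk stp [TCG_Fi23.Col.d] q) := by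
  intro q hq
  have h := ((tu_1 q).1 ((Tr.all_iff _ _).1 tb_1 q hq)).2.1
  simp only [walk_cons, walk_nil, stp_a, stp_b, stp_c, stp_d, stp_e, stp_f, stp_g, stp_j, stp_h, stp_i]
  exact Nat.eq_of_beq_eq_true h
theorem c_4 : ∀ q ∈ L.toList, walk stp [TCG_Fi23.Col.e] (TT q) = TT (walk stp [TCG_Fi23.Col.e] q) := by
  intro q hq
  have h := ((tu_1 q).1 ((Tr.all_iff _ _).1 tb_1 q hq)).2.2.1
  simp only [walk_cons, walk_nil, stp_a, stp_b, stp_c, stp_d, stp_e, stp_f, stp_g, stp_j, stp_h, stp_i]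
  exact Nat.eq_of_beq_eq_true h
theorem c_5 : ∀ q ∈ L.toList, walk stp [TCG_Fi23.Col.f] (TT q) = TT (walk stp [TCG_Fi23.Col.f] q) := by
  intro q hq
  have h := ((tu_1 q).1 ((Tr.all_iff _ _).1 tb_1 q hq)).2.2.2.1
  simp only [walk_cons, walk_nil, stp_a, stp_b, stp_c, stp_d, stp_e, stp_f, stp_g, stp_j, stp_h, stp_i]
  exact Nat.eq_of_beq_eq_true h
theorem c_6 : ∀ q ∈ L.toList, walk stp [TCG_Fi23.Col.g] (TT q) = TT (walk stp [TCG_Fi23.Col.g] q) := by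
  intro q hq
  have h := ((tu_1 q).1 ((Tr.all_iff _ _).1 tb_1 q hq)).2.2.2.2.1
  simp only [walk_cons, walk_nil, stp_a, stp_b, stp_c, stp_d, stp_e, stp_f, stp_g, stp_j, stp_h, stp_i]
  exact Nat.eq_of_beq_eq_true h
theorem c_7 : ∀ q ∈ L.toList, walk stp [TCG_Fi23.Col.h] (TT q) = TT (walk stp [TCG_Fi23.Col.h] q) := by
  intro q hq
  have h := ((tu_1 q).1 ((Tr.all_iff _ _).1 tb_1 q hq)).2.2.2.2.2.1
  simp only [walk_cons, walk_nil, stp_a, stp_b, stp_c, stp_d, stp_e, stp_f, stp_g, stp_j, stp_h, stp_i]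
  exact Nat.eq_of_beq_eq_true h
theorem c_8 : ∀ q ∈ L.toList, walk stp [TCG_Fi23.Col.i] (TT q) = TT (walk stp [TCG_Fi23.Col.i] q) := by
  intro q hq
  have h := ((tu_1 q).1 ((Tr.all_iff _ _).1 tb_1 q hq)).2.2.2.2.2.2
  simp only [walk_cons, walk_nil, stp_a, stp_b, stp_c, stp_d, stp_e, stp_f, stp_g, stp_j, stp_h, stp_i]
  exact Nat.eq_of_beq_eq_true h
theorem tb_2 : Tr.all TB_2 L = true := (Tr.all_nd (Tr.all_nd (Tr.all_nd tb_2_0 tb_2_1) (Tr.all_nd tb_2_2 tb_2_3)) (Tr.all_nd (Tr.all_nd tb_2_4 tb_2_5) (Tr.all_nd tb_2_6 tb_2_7)))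
theorem tu_2 (q : ℕ) : TB_2 q = true ↔ Nat.beq (F_g (F_f (F_e (F_d (F_h (F_c (F_d (F_e (F_b (F_c (F_d (F_h (F_f (F_g (F_e (F_f (F_d (F_e (F_c (F_d (F_h (F_b (F_c (F_d (F_e (F_f (F_g (F_j (TT q))))))))))))))))))))))))))))) (F_j (F_g (F_f (F_e (F_d (F_h (F_c (F_d (F_e (F_b (F_c (F_d (F_h (F_f (F_g (F_e (F_f (F_d (F_e (F_c (F_d (F_h (F_b (F_c (F_d (F_e (F_f (F_g (F_j q))))))))))))))))))))))))))))) = true := by
  unfold TB_2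
  simp only [bfalse_iff, and_true]
theorem c_9 : ∀ q ∈ L.toList, walk stp [TCG_Fi23.Col.j, TCG_Fi23.Col.g, TCG_Fi23.Col.f, TCG_Fi23.Col.e, TCG_Fi23.Col.d, TCG_Fi23.Col.c, TCG_Fi23.Col.b, TCG_Fi23.Col.h, TCG_Fi23.Col.d, TCG_Fi23.Col.c, TCG_Fi23.Col.e, TCG_Fi23.Col.d, TCG_Fi23.Col.f, TCG_Fi23.Col.e, TCG_Fi23.Col.g, TCG_Fi23.Col.f, TCG_Fi23.Col.h, TCG_Fi23.Col.d, TCG_Fi23.Col.c, TCG_Fi23.Col.b, TCG_Fi23.Col.e, TCG_Fi23.Col.d, TCG_Fi23.Col.c, TCG_Fi23.Col.h, TCG_Fi23.Col.d, TCG_Fi23.Col.e, TCG_Fi23.Col.f, TCG_Fi23.Col.g] (TT q) = F_j (walk stp [TCG_Fi23.Col.j, TCG_Fi23.Col.g, TCG_Fi23.Col.f, TCG_Fi23.Col.e, TCG_Fi23.Col.d, TCG_Fi23.Col.c, TCG_Fi23.Col.b, TCG_Fi23.Col.h, TCG_Fi23.Col.d, TCG_Fi23.Col.c, TCG_Fi23.Col.e, TCG_Fi23.Col.d, TCG_Fi23.Col.f, TCG_Fi23.Col.e, TCG_Fi23.Col.g, TCG_Fi23.Col.f, TCG_Fi23.Col.h, TCG_Fi23.Col.d,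 TCG_Fi23.Col.c, TCG_Fi23.Col.b, TCG_Fi23.Col.e, TCG_Fi23.Col.d, TCG_Fi23.Col.c, TCG_Fi23.Col.h, TCG_Fi23.Col.d, TCG_Fi23.Col.e, TCG_Fi23.Col.f, TCG_Fi23.Col.g] q) := by
  intro q hq
  have h := ((tu_2 q).1 ((Tr.all_iff _ _).1 tb_2 q hq))
  simp only [walk_cons, walk_nil, stp_a, stp_b, stp_c, stp_d, stp_e, stp_f, stp_g, stp_j, stp_h, stp_i]
  exact Nat.eq_of_beq_eq_true h
end CfsgLib.TCFi23.Tab
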