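import Cfsg.Agent.EqBase
import Cfsg.Agent.LibTCV
import Cfsg.Agent.LibTC5
import Cfsg.Agent.LibTCFi23F
import Cfsg.Agent.LibTCFi23O
import Cfsg.Agent.LibTCFi23T
set_option autoImplicit false
set_option linter.all false
set_option maxRecDepth 1000000

/-! Simplicity of Fi23. -/

namespace CfsgLib.TCFi23
open CfsgLib.TC Cfsg.Spor CfsgLib.TCG_Fi23

/-- the transposition central in `H` -/
noncomputable def tt : Fi23 := gw P Tab.w_TT

theorem stp_one (x : Col) : ∀ q ∈ L.toList, walk stp [x] q = stp x q := fun q _ => rfl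

theorem comm_gen (x : Col) (h : ∀ q ∈ L.toList, walk stp [x] (Tab.TT q) = Tab.TT (walk stp [x] q)) : P x * tt * (P x)⁻¹ = tt := by
  have h1 := conj_tab closed φ P φ_P order_main.2 P_inv Tab.t_TT Tab.t_TT [x] h
  rwa [gw_cons, gw_nil, one_mul] at h1

theorem norm_gens : ∀ w ∈ SW0, gw P w * tt * (gw P w)⁻¹ = tt := by
  intro w hw
  simp only [SW0, List.mem_cons, List.not_mem_nil, or_false] at hw
  rcases hw with rfl | rfl | rfl | rfl | rfl | rfl | rfl | rfl | rfl <;> rw [gw_cons, gw_nil, one_mul]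
  · exact comm_gen _ Tab.c_0
  · exact comm_gen _ Tab.c_1
  · exact comm_gen _ Tab.c_2
  · exact comm_gen _ Tab.c_3
  · exact comm_gen _ Tab.c_4
  · exact comm_gen _ Tab.c_5
  · exact comm_gen _ Tab.c_6
  · exact comm_gen _ Tab.c_7
  · exact comm_gen _ Tab.c_8

theorem central : ∀ h ∈ H, h * tt = tt * h := by
  have h1 : H ≤ Subgroup.centralizer {tt} := by
    rw [H_eq, Subgroup.closure_le]
    rintro _ ⟨w, hw, rfl⟩
    rw [SetLike.mem_coe, Subgroup.mem_centralizer_singleton_iff]
    have := norm_gens w hw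
    exact (mul_inv_eq_iff_eq_mul.1 this)
  intro h hh
  exact (Subgroup.mem_centralizer_singleton_iff.1 (h1 hh))

theorem tt_mem : tt ∈ H := by
  have h : ∀ x ∈ [Col.b, Col.c, Col.d, Col.e, Col.f, Col.g, Col.h], P x ∈ H := by
    intro x hx
    have h0 := H_SW [x] (by
      simp only [List.mem_cons, List.not_mem_nil, or_false] at hx
      rcases hx with rfl | rfl | rfl | rfl | rfl | rfl | rfl <;> simp [SW0])
    rwa [gw_cons, gw_nil, one_mul] at h0
  have key : ∀ w : List Col, (∀ x ∈ w, x ∈ [Col.b, Col.c, Col.d, Col.e, Col.f, Col.g, Col.h]) → gw P w ∈ H := by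
    intro w
    induction w with
    | nil => intro _; exact Subgroup.one_mem _
    | cons c w ih =>
      intro hw
      rw [gw_cons]
      exact Subgroup.mul_mem _ (ih (fun x hx => hw x (List.mem_cons_of_mem _ hx))) (h c (hw c List.mem_cons_self))
  exact key Tab.w_TT (by simp [Tab.w_TT])

/-- conjugate of `tt` -/
theorem conj_j : ∃ y : Fi23, y * tt * y⁻¹ = P .j := by
  have h1 := conj_tab closed φ P φ_P order_main.2 P_inv Tab.t_TT (z' := [.j]) (T' := F_j) (stp_one _) _ Tab.c_9
  have e : gw P [Col.j] = P .j := by rw [gw_cons, gw_nil, one_mul]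
  rw [e] at h1
  exact ⟨_, h1⟩

section rels
variable {G : Type*} [Group G] {f : Fi23.Gen → G} (hs : Sat Fi23.edges Fi23.extra f)
include hs
theorem sq (x : Fi23.Gen) : f x * f x = 1 := by
  have := cox_rel h1 h3 hs x x 1 (by cases x <;> decide)
  rwa [pow_one] at this
theorem rab : (f .a * f .b)^3 = 1 := cox_rel h1 h3 hs _ _ _ (by decide)
theorem rbc : (f .b * f .c)^3 = 1 := cox_rel h1 h3 hs _ _ _ (by decide)
theorem rcd : (f .c * f .d)^3 = 1 := cox_rel h1 h3 hs _ _ _ (by decide)
theorem rde : (f .d * f .e)^3 = 1 := cox_rel h1 h3 hs _ _ _ (by decide)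
theorem rdh : (f .d * f .h)^3 = 1 := cox_rel h1 h3 hs _ _ _ (by decide)
theorem ref : (f .e * f .f)^3 = 1 := cox_rel h1 h3 hs _ _ _ (by decide)
theorem rfg : (f .f * f .g)^3 = 1 := cox_rel h1 h3 hs _ _ _ (by decide)
theorem rgj : (f .g * f .j)^3 = 1 := cox_rel h1 h3 hs _ _ _ (by decide)
theorem rhi : (f .h * f .i)^3 = 1 := cox_rel h1 h3 hs _ _ _ (by decide)
theorem rx : (f .a * f .b * f .c * f .d * f .e * f .f * f .h)^9 = 1 := by
  have := hs ((Fi23.a * Fi23.b * Fi23.c * Fi23.d * Fi23.e * Fi23.f * Fi23.h) ^ 9) (Or.inr (by simp [Fi23.extra]))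
  simpa only [map_mul, map_inv, map_pow, FreeGroup.lift_apply_of] using this
end rels

theorem gen_top : Subgroup.normalClosure (Subgroup.zpowers tt : Set Fi23) = ⊤ := by
  apply normal_eq_top
  intro f hf hs
  have hj : f .j = 1 := by
    rw [hf]
    refine (QuotientGroup.eq_one_iff _).2 ?_
    obtain ⟨y, hy⟩ := conj_j
    have h1 : tt ∈ Subgroup.normalClosure (Subgroup.zpowers tt : Set Fi23) :=
      Subgroup.subset_normalClosure (Subgroup.mem_zpowers tt)
    have h2 := Subgroup.Normal.conj_mem (inferInstance : (Subgroup.normalClosure (Subgroup.zpowers tt : Set Fi23)).Normal) _ h1 y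
    rw [hy] at h2
    exact h2
  have hg : f .g = 1 := odd_one' hj (sq hs _) (rgj hs) rfl
  have hf' : f .f = 1 := odd_one' hg (sq hs _) (rfg hs) rfl
  have he : f .e = 1 := odd_one' hf' (sq hs _) (ref hs) rfl
  have hd : f .d = 1 := odd_one' he (sq hs _) (rde hs) rfl
  have hc : f .c = 1 := odd_one' hd (sq hs _) (rcd hs) rfl
  have hb : f .b = 1 := odd_one' hc (sq hs _) (rbc hs) rfl
  have ha : f .a = 1 := odd_one' hb (sq hs _) (rab hs) rfl
  have hh : f .h = 1 := odd_one hd (sq hs _) (rdh hs) rfl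
  have hi : f .i = 1 := odd_one hh (sq hs _) (rhi hs) rfl
  intro x
  cases x <;> assumption

theorem perfect : commutator Fi23 = ⊤ := by
  apply perfect_of
  intro f hs
  have hab := odd_eq (sq hs _) (sq hs _) (rab hs) rfl
  have hbc := odd_eq (sq hs _) (sq hs _) (rbc hs) rfl
  have hcd := odd_eq (sq hs _) (sq hs _) (rcd hs) rfl
  have hde := odd_eq (sq hs _) (sq hs _) (rde hs) rfl
  have hdh := odd_eq (sq hs _) (sq hs _) (rdh hs) rfl
  have hef := odd_eq (sq hs _) (sq hs _) (ref hs) rfl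
  have hfg := odd_eq (sq hs _) (sq hs _) (rfg hs) rfl
  have hgj := odd_eq (sq hs _) (sq hs _) (rgj hs) rfl
  have hhi := odd_eq (sq hs _) (sq hs _) (rhi hs) rfl
  have hx := rx hs
  rw [hab, hbc, hcd, ← hdh, ← hef, ← hde] at hx
  have hd2 := sq hs .d
  have hd : f .d = 1 := by
    simp only [hd2, one_mul] at hx
    rw [show (9:ℕ) = 2 * 4 + 1 from rfl, pow_add, pow_mul, pow_two (f .d), hd2, one_pow, one_mul, pow_one] at hx
    exact hx
  have hc : f .c = 1 := by rw [hcd, hd]
  have hb : f .b = 1 := by rw [hbc, hc]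
  have ha : f .a = 1 := by rw [hab, hb]
  have he : f .e = 1 := by rw [← hde, hd]
  have hh : f .h = 1 := by rw [← hdh, hd]
  have hf' : f .f = 1 := by rw [← hef, he]
  have hg : f .g = 1 := by rw [← hfg, hf']
  have hj : f .j = 1 := by rw [← hgj, hg]
  have hi : f .i = 1 := by rw [← hhi, hh]
  intro x
  cases x <;> assumption

theorem core_a : H.normalCore = ⊥ := core_bot_of_faithful φ order_main.2 _ main.2.1 main.2.2

instance : Nontrivial Fi23 := by
  rw [← Finite.one_lt_card_iff_nontrivial, order_main.1]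
  norm_num

theorem simple : IsSimpleGroup Fi23 :=
  simple_iwasawa H (Subgroup.zpowers tt) maximal core_a
    ((Subgroup.zpowers_le).2 tt_mem) (by
      intro h hh a ha
      obtain ⟨m, rfl⟩ := ha
      have h1 : h * tt * h⁻¹ = tt := by rw [central h hh, mul_inv_cancel_right]
      have h2 : h * tt ^ m * h⁻¹ = (h * tt * h⁻¹) ^ m := by
        rw [conj_zpow]
      show h * tt ^ m * h⁻¹ ∈ Subgroup.zpowers tt
      rw [h2, h1]
      exact ⟨m, rfl⟩)
    (fun a ha b hb => by
      obtain ⟨m, rfl⟩ := ha; obtain ⟨n, rfl⟩ := hb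
      exact (Commute.refl _).zpow_zpow m n) gen_top perfect

end CfsgLib.TCFi23
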