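import Cfsg.Agent.EqBase
import Cfsg.Agent.LibTCAutFi23B
import Cfsg.Agent.LibTCFi23S
set_option autoImplicit false
set_option linter.all false
set_option maxRecDepth 1000000
set_option maxHeartbeats 0
namespace CfsgLib.TCFi23.Au
open CfsgLib.TC Cfsg.Spor CfsgLib.TCG_Fi23 CfsgLib.TCFi23 CfsgLib.TCFi23.Chain
noncomputable def Z : List (List Col) := [[],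
  [TCG_Fi23.Col.b, TCG_Fi23.Col.f, TCG_Fi23.Col.d, TCG_Fi23.Col.e, TCG_Fi23.Col.h, TCG_Fi23.Col.d, TCG_Fi23.Col.b, TCG_Fi23.Col.c, TCG_Fi23.Col.i, TCG_Fi23.Col.b, TCG_Fi23.Col.h, TCG_Fi23.Col.d, TCG_Fi23.Col.c, TCG_Fi23.Col.e, TCG_Fi23.Col.d, TCG_Fi23.Col.b, TCG_Fi23.Col.c, TCG_Fi23.Col.i, TCG_Fi23.Col.c, TCG_Fi23.Col.f, TCG_Fi23.Col.e, TCG_Fi23.Col.h, TCG_Fi23.Col.i, TCG_Fi23.Col.d, TCG_Fi23.Col.e, TCG_Fi23.Col.h, TCG_Fi23.Col.d, TCG_Fi23.Col.c, TCG_Fi23.Col.i, TCG_Fi23.Col.b, TCG_Fi23.Col.h, TCG_Fi23.Col.d, TCG_Fi23.Col.c, TCG_Fi23.Col.e, TCG_Fi23.Col.d, TCG_Fi23.Col.b, TCG_Fi23.Col.c, TCG_Fi23.Col.f, TCG_Fi23.Col.i, TCG_Fi23.Col.h, TCG_Fi23.Col.c, TCG_Fi23.Col.b, TCG_Fi23.Col.f,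 TCG_Fi23.Col.e, TCG_Fi23.Col.i, TCG_Fi23.Col.b, TCG_Fi23.Col.c, TCG_Fi23.Col.f, TCG_Fi23.Col.i, TCG_Fi23.Col.b, TCG_Fi23.Col.c, TCG_Fi23.Col.f, TCG_Fi23.Col.h, TCG_Fi23.Col.c, TCG_Fi23.Col.f, TCG_Fi23.Col.e, TCG_Fi23.Col.h, TCG_Fi23.Col.i, TCG_Fi23.Col.d, TCG_Fi23.Col.e, TCG_Fi23.Col.h, TCG_Fi23.Col.d, TCG_Fi23.Col.c, TCG_Fi23.Col.i, TCG_Fi23.Col.b, TCG_Fi23.Col.h, TCG_Fi23.Col.d, TCG_Fi23.Col.c, TCG_Fi23.Col.e, TCG_Fi23.Col.d, TCG_Fi23.Col.b, TCG_Fi23.Col.c, TCG_Fi23.Col.f, TCG_Fi23.Col.i, TCG_Fi23.Col.h, TCG_Fi23.Col.c, TCG_Fi23.Col.f, TCG_Fi23.Col.e, TCG_Fi23.Col.i, TCG_Fi23.Col.h, TCG_Fi23.Col.b, TCG_Fi23.Col.e, TCG_Fi23.Col.f, TCG_Fi23.Col.h, TCG_Fi23.Col.a, TCG_Fi23.Col.c,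 TCG_Fi23.Col.f, TCG_Fi23.Col.e, TCG_Fi23.Col.i, TCG_Fi23.Col.h, TCG_Fi23.Col.d, TCG_Fi23.Col.b, TCG_Fi23.Col.c, TCG_Fi23.Col.h, TCG_Fi23.Col.d, TCG_Fi23.Col.c, TCG_Fi23.Col.d, TCG_Fi23.Col.c, TCG_Fi23.Col.b, TCG_Fi23.Col.h, TCG_Fi23.Col.d, TCG_Fi23.Col.b, TCG_Fi23.Col.c, TCG_Fi23.Col.e, TCG_Fi23.Col.h, TCG_Fi23.Col.d, TCG_Fi23.Col.a, TCG_Fi23.Col.b, TCG_Fi23.Col.a, TCG_Fi23.Col.c, TCG_Fi23.Col.i, TCG_Fi23.Col.h, TCG_Fi23.Col.d, TCG_Fi23.Col.a, TCG_Fi23.Col.b, TCG_Fi23.Col.c, TCG_Fi23.Col.d, TCG_Fi23.Col.e, TCG_Fi23.Col.f, TCG_Fi23.Col.g, TCG_Fi23.Col.d, TCG_Fi23.Col.c, TCG_Fi23.Col.b, TCG_Fi23.Col.e, TCG_Fi23.Col.h, TCG_Fi23.Col.d, TCG_Fi23.Col.a, TCG_Fi23.Col.c, TCG_Fi23.Col.d,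 TCG_Fi23.Col.e, TCG_Fi23.Col.f, TCG_Fi23.Col.g, TCG_Fi23.Col.j, TCG_Fi23.Col.c, TCG_Fi23.Col.e, TCG_Fi23.Col.f, TCG_Fi23.Col.e, TCG_Fi23.Col.i, TCG_Fi23.Col.h, TCG_Fi23.Col.b, TCG_Fi23.Col.e, TCG_Fi23.Col.f, TCG_Fi23.Col.e, TCG_Fi23.Col.i, TCG_Fi23.Col.d, TCG_Fi23.Col.e, TCG_Fi23.Col.h, TCG_Fi23.Col.d, TCG_Fi23.Col.b, TCG_Fi23.Col.c, TCG_Fi23.Col.i, TCG_Fi23.Col.b, TCG_Fi23.Col.h, TCG_Fi23.Col.d, TCG_Fi23.Col.c, TCG_Fi23.Col.e, TCG_Fi23.Col.d, TCG_Fi23.Col.b, TCG_Fi23.Col.c, TCG_Fi23.Col.e, TCG_Fi23.Col.f, TCG_Fi23.Col.e, TCG_Fi23.Col.i, TCG_Fi23.Col.b, TCG_Fi23.Col.c, TCG_Fi23.Col.b, TCG_Fi23.Col.f, TCG_Fi23.Col.e, TCG_Fi23.Col.a, TCG_Fi23.Col.b, TCG_Fi23.Col.c, TCG_Fi23.Col.d,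 TCG_Fi23.Col.e, TCG_Fi23.Col.f, TCG_Fi23.Col.g, TCG_Fi23.Col.d, TCG_Fi23.Col.c, TCG_Fi23.Col.b, TCG_Fi23.Col.e, TCG_Fi23.Col.h, TCG_Fi23.Col.d, TCG_Fi23.Col.a, TCG_Fi23.Col.c, TCG_Fi23.Col.d, TCG_Fi23.Col.e, TCG_Fi23.Col.f, TCG_Fi23.Col.g, TCG_Fi23.Col.j, TCG_Fi23.Col.a, TCG_Fi23.Col.b, TCG_Fi23.Col.a, TCG_Fi23.Col.c, TCG_Fi23.Col.i, TCG_Fi23.Col.h, TCG_Fi23.Col.d, TCG_Fi23.Col.j, TCG_Fi23.Col.f, TCG_Fi23.Col.g, TCG_Fi23.Col.d, TCG_Fi23.Col.c, TCG_Fi23.Col.b, TCG_Fi23.Col.e, TCG_Fi23.Col.h, TCG_Fi23.Col.d, TCG_Fi23.Col.a, TCG_Fi23.Col.c, TCG_Fi23.Col.d, TCG_Fi23.Col.e, TCG_Fi23.Col.f, TCG_Fi23.Col.g, TCG_Fi23.Col.j, TCG_Fi23.Col.c, TCG_Fi23.Col.h, TCG_Fi23.Col.d, TCG_Fi23.Col.e,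 TCG_Fi23.Col.f, TCG_Fi23.Col.g, TCG_Fi23.Col.j, TCG_Fi23.Col.g, TCG_Fi23.Col.j, TCG_Fi23.Col.f, TCG_Fi23.Col.g, TCG_Fi23.Col.a, TCG_Fi23.Col.e, TCG_Fi23.Col.d, TCG_Fi23.Col.c, TCG_Fi23.Col.h, TCG_Fi23.Col.d, TCG_Fi23.Col.f, TCG_Fi23.Col.e, TCG_Fi23.Col.d, TCG_Fi23.Col.c, TCG_Fi23.Col.b, TCG_Fi23.Col.a, TCG_Fi23.Col.h, TCG_Fi23.Col.d, TCG_Fi23.Col.e, TCG_Fi23.Col.f, TCG_Fi23.Col.g, TCG_Fi23.Col.b, TCG_Fi23.Col.c, TCG_Fi23.Col.b, TCG_Fi23.Col.f, TCG_Fi23.Col.e, TCG_Fi23.Col.i, TCG_Fi23.Col.f, TCG_Fi23.Col.e, TCG_Fi23.Col.d, TCG_Fi23.Col.c, TCG_Fi23.Col.b, TCG_Fi23.Col.a, TCG_Fi23.Col.h, TCG_Fi23.Col.d, TCG_Fi23.Col.e, TCG_Fi23.Col.f, TCG_Fi23.Col.g, TCG_Fi23.Col.a, TCG_Fi23.Col.b,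 TCG_Fi23.Col.a, TCG_Fi23.Col.c, TCG_Fi23.Col.i, TCG_Fi23.Col.h, TCG_Fi23.Col.d, TCG_Fi23.Col.a, TCG_Fi23.Col.b, TCG_Fi23.Col.c, TCG_Fi23.Col.d, TCG_Fi23.Col.e, TCG_Fi23.Col.f, TCG_Fi23.Col.g, TCG_Fi23.Col.d, TCG_Fi23.Col.c, TCG_Fi23.Col.b, TCG_Fi23.Col.e, TCG_Fi23.Col.h, TCG_Fi23.Col.d, TCG_Fi23.Col.a, TCG_Fi23.Col.c, TCG_Fi23.Col.d, TCG_Fi23.Col.e, TCG_Fi23.Col.f, TCG_Fi23.Col.g, TCG_Fi23.Col.j, TCG_Fi23.Col.g, TCG_Fi23.Col.j, TCG_Fi23.Col.g, TCG_Fi23.Col.j, TCG_Fi23.Col.e, TCG_Fi23.Col.h, TCG_Fi23.Col.d, TCG_Fi23.Col.e, TCG_Fi23.Col.f, TCG_Fi23.Col.g, TCG_Fi23.Col.j, TCG_Fi23.Col.a, TCG_Fi23.Col.b, TCG_Fi23.Col.d, TCG_Fi23.Col.c, TCG_Fi23.Col.i, TCG_Fi23.Col.h, TCG_Fi23.Col.d,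 TCG_Fi23.Col.a, TCG_Fi23.Col.c, TCG_Fi23.Col.h, TCG_Fi23.Col.d, TCG_Fi23.Col.e, TCG_Fi23.Col.f, TCG_Fi23.Col.g, TCG_Fi23.Col.j, TCG_Fi23.Col.g, TCG_Fi23.Col.j, TCG_Fi23.Col.a, TCG_Fi23.Col.d, TCG_Fi23.Col.e, TCG_Fi23.Col.i, TCG_Fi23.Col.h, TCG_Fi23.Col.d, TCG_Fi23.Col.e, TCG_Fi23.Col.f, TCG_Fi23.Col.g, TCG_Fi23.Col.c, TCG_Fi23.Col.h, TCG_Fi23.Col.d, TCG_Fi23.Col.b, TCG_Fi23.Col.e, TCG_Fi23.Col.f, TCG_Fi23.Col.i, TCG_Fi23.Col.c, TCG_Fi23.Col.b, TCG_Fi23.Col.c, TCG_Fi23.Col.f, TCG_Fi23.Col.d, TCG_Fi23.Col.e, TCG_Fi23.Col.h, TCG_Fi23.Col.d, TCG_Fi23.Col.b, TCG_Fi23.Col.c, TCG_Fi23.Col.i, TCG_Fi23.Col.b, TCG_Fi23.Col.h, TCG_Fi23.Col.d, TCG_Fi23.Col.c, TCG_Fi23.Col.e, TCG_Fi23.Col.d,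 TCG_Fi23.Col.c, TCG_Fi23.Col.h, TCG_Fi23.Col.i, TCG_Fi23.Col.h, TCG_Fi23.Col.b, TCG_Fi23.Col.f, TCG_Fi23.Col.d, TCG_Fi23.Col.e, TCG_Fi23.Col.h, TCG_Fi23.Col.d, TCG_Fi23.Col.b, TCG_Fi23.Col.c, TCG_Fi23.Col.i, TCG_Fi23.Col.b, TCG_Fi23.Col.h, TCG_Fi23.Col.d, TCG_Fi23.Col.c, TCG_Fi23.Col.e, TCG_Fi23.Col.d, TCG_Fi23.Col.b, TCG_Fi23.Col.c, TCG_Fi23.Col.f, TCG_Fi23.Col.e, TCG_Fi23.Col.h, TCG_Fi23.Col.a, TCG_Fi23.Col.d, TCG_Fi23.Col.c, TCG_Fi23.Col.e, TCG_Fi23.Col.i, TCG_Fi23.Col.h, TCG_Fi23.Col.d, TCG_Fi23.Col.b, TCG_Fi23.Col.c, TCG_Fi23.Col.b, TCG_Fi23.Col.e, TCG_Fi23.Col.h, TCG_Fi23.Col.i, TCG_Fi23.Col.b, TCG_Fi23.Col.f, TCG_Fi23.Col.h, TCG_Fi23.Col.a, TCG_Fi23.Col.h, TCG_Fi23.Col.d,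 TCG_Fi23.Col.c, TCG_Fi23.Col.e, TCG_Fi23.Col.d, TCG_Fi23.Col.c, TCG_Fi23.Col.b, TCG_Fi23.Col.e, TCG_Fi23.Col.h, TCG_Fi23.Col.i, TCG_Fi23.Col.h, TCG_Fi23.Col.a, TCG_Fi23.Col.b, TCG_Fi23.Col.c, TCG_Fi23.Col.d, TCG_Fi23.Col.e, TCG_Fi23.Col.h, TCG_Fi23.Col.d, TCG_Fi23.Col.a, TCG_Fi23.Col.c, TCG_Fi23.Col.h, TCG_Fi23.Col.i, TCG_Fi23.Col.h, TCG_Fi23.Col.b, TCG_Fi23.Col.f, TCG_Fi23.Col.d, TCG_Fi23.Col.e, TCG_Fi23.Col.h, TCG_Fi23.Col.d, TCG_Fi23.Col.b, TCG_Fi23.Col.c, TCG_Fi23.Col.i, TCG_Fi23.Col.b, TCG_Fi23.Col.h, TCG_Fi23.Col.d, TCG_Fi23.Col.c, TCG_Fi23.Col.e, TCG_Fi23.Col.d, TCG_Fi23.Col.a, TCG_Fi23.Col.d, TCG_Fi23.Col.c, TCG_Fi23.Col.e, TCG_Fi23.Col.h, TCG_Fi23.Col.d, TCG_Fi23.Col.c,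 TCG_Fi23.Col.f, TCG_Fi23.Col.e, TCG_Fi23.Col.i, TCG_Fi23.Col.h, TCG_Fi23.Col.i, TCG_Fi23.Col.e, TCG_Fi23.Col.b, TCG_Fi23.Col.d, TCG_Fi23.Col.e, TCG_Fi23.Col.f, TCG_Fi23.Col.h, TCG_Fi23.Col.d, TCG_Fi23.Col.j, TCG_Fi23.Col.g, TCG_Fi23.Col.f, TCG_Fi23.Col.c, TCG_Fi23.Col.a, TCG_Fi23.Col.j, TCG_Fi23.Col.d],
  [TCG_Fi23.Col.b, TCG_Fi23.Col.c, TCG_Fi23.Col.f, TCG_Fi23.Col.h, TCG_Fi23.Col.c, TCG_Fi23.Col.b, TCG_Fi23.Col.f, TCG_Fi23.Col.h, TCG_Fi23.Col.i, TCG_Fi23.Col.h, TCG_Fi23.Col.d, TCG_Fi23.Col.c, TCG_Fi23.Col.b, TCG_Fi23.Col.e, TCG_Fi23.Col.h, TCG_Fi23.Col.d, TCG_Fi23.Col.a, TCG_Fi23.Col.c, TCG_Fi23.Col.d, TCG_Fi23.Col.e, TCG_Fi23.Col.f, TCG_Fi23.Col.g, TCG_Fi23.Col.a, TCG_Fi23.Col.b,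 TCG_Fi23.Col.c, TCG_Fi23.Col.d, TCG_Fi23.Col.e, TCG_Fi23.Col.f, TCG_Fi23.Col.g, TCG_Fi23.Col.d, TCG_Fi23.Col.c, TCG_Fi23.Col.b, TCG_Fi23.Col.e, TCG_Fi23.Col.h, TCG_Fi23.Col.d, TCG_Fi23.Col.a, TCG_Fi23.Col.c, TCG_Fi23.Col.d, TCG_Fi23.Col.e, TCG_Fi23.Col.f, TCG_Fi23.Col.g, TCG_Fi23.Col.j, TCG_Fi23.Col.d, TCG_Fi23.Col.e, TCG_Fi23.Col.f, TCG_Fi23.Col.g, TCG_Fi23.Col.j, TCG_Fi23.Col.c, TCG_Fi23.Col.h, TCG_Fi23.Col.d, TCG_Fi23.Col.e, TCG_Fi23.Col.f, TCG_Fi23.Col.g, TCG_Fi23.Col.j, TCG_Fi23.Col.f, TCG_Fi23.Col.g, TCG_Fi23.Col.j, TCG_Fi23.Col.h, TCG_Fi23.Col.d, TCG_Fi23.Col.e, TCG_Fi23.Col.f, TCG_Fi23.Col.g, TCG_Fi23.Col.a, TCG_Fi23.Col.b, TCG_Fi23.Col.d, TCG_Fi23.Col.c, TCG_Fi23.Col.h,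 TCG_Fi23.Col.d, TCG_Fi23.Col.e, TCG_Fi23.Col.h, TCG_Fi23.Col.d, TCG_Fi23.Col.e, TCG_Fi23.Col.f, TCG_Fi23.Col.e, TCG_Fi23.Col.f, TCG_Fi23.Col.h, TCG_Fi23.Col.b, TCG_Fi23.Col.c, TCG_Fi23.Col.e, TCG_Fi23.Col.h, TCG_Fi23.Col.i, TCG_Fi23.Col.h, TCG_Fi23.Col.c, TCG_Fi23.Col.f, TCG_Fi23.Col.a, TCG_Fi23.Col.c, TCG_Fi23.Col.d, TCG_Fi23.Col.f, TCG_Fi23.Col.e, TCG_Fi23.Col.h, TCG_Fi23.Col.d, TCG_Fi23.Col.a, TCG_Fi23.Col.c, TCG_Fi23.Col.e, TCG_Fi23.Col.i, TCG_Fi23.Col.h, TCG_Fi23.Col.d, TCG_Fi23.Col.b, TCG_Fi23.Col.a, TCG_Fi23.Col.e, TCG_Fi23.Col.i, TCG_Fi23.Col.h, TCG_Fi23.Col.d, TCG_Fi23.Col.a, TCG_Fi23.Col.d, TCG_Fi23.Col.c, TCG_Fi23.Col.h, TCG_Fi23.Col.d, TCG_Fi23.Col.b, TCG_Fi23.Col.c,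 TCG_Fi23.Col.f, TCG_Fi23.Col.c, TCG_Fi23.Col.b, TCG_Fi23.Col.d, TCG_Fi23.Col.c, TCG_Fi23.Col.e, TCG_Fi23.Col.d, TCG_Fi23.Col.b, TCG_Fi23.Col.c, TCG_Fi23.Col.d, TCG_Fi23.Col.e, TCG_Fi23.Col.h, TCG_Fi23.Col.d, TCG_Fi23.Col.a, TCG_Fi23.Col.b, TCG_Fi23.Col.c, TCG_Fi23.Col.b, TCG_Fi23.Col.a, TCG_Fi23.Col.d, TCG_Fi23.Col.a, TCG_Fi23.Col.d, TCG_Fi23.Col.c, TCG_Fi23.Col.e, TCG_Fi23.Col.h, TCG_Fi23.Col.d, TCG_Fi23.Col.b, TCG_Fi23.Col.d, TCG_Fi23.Col.c, TCG_Fi23.Col.i, TCG_Fi23.Col.h, TCG_Fi23.Col.d, TCG_Fi23.Col.a, TCG_Fi23.Col.c, TCG_Fi23.Col.f, TCG_Fi23.Col.i, TCG_Fi23.Col.h, TCG_Fi23.Col.b, TCG_Fi23.Col.c, TCG_Fi23.Col.e, TCG_Fi23.Col.i, TCG_Fi23.Col.a, TCG_Fi23.Col.i, TCG_Fi23.Col.h,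 TCG_Fi23.Col.d, TCG_Fi23.Col.b, TCG_Fi23.Col.f, TCG_Fi23.Col.h, TCG_Fi23.Col.i, TCG_Fi23.Col.h, TCG_Fi23.Col.b, TCG_Fi23.Col.c, TCG_Fi23.Col.e, TCG_Fi23.Col.i, TCG_Fi23.Col.h, TCG_Fi23.Col.a, TCG_Fi23.Col.b, TCG_Fi23.Col.c, TCG_Fi23.Col.d, TCG_Fi23.Col.e, TCG_Fi23.Col.f, TCG_Fi23.Col.g, TCG_Fi23.Col.c, TCG_Fi23.Col.b, TCG_Fi23.Col.h, TCG_Fi23.Col.i, TCG_Fi23.Col.d, TCG_Fi23.Col.e, TCG_Fi23.Col.f, TCG_Fi23.Col.g, TCG_Fi23.Col.j, TCG_Fi23.Col.c, TCG_Fi23.Col.h, TCG_Fi23.Col.d, TCG_Fi23.Col.e, TCG_Fi23.Col.f, TCG_Fi23.Col.g, TCG_Fi23.Col.j, TCG_Fi23.Col.g, TCG_Fi23.Col.j, TCG_Fi23.Col.e, TCG_Fi23.Col.f, TCG_Fi23.Col.g, TCG_Fi23.Col.d, TCG_Fi23.Col.c, TCG_Fi23.Col.f, TCG_Fi23.Col.e,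 TCG_Fi23.Col.d, TCG_Fi23.Col.c, TCG_Fi23.Col.e, TCG_Fi23.Col.f, TCG_Fi23.Col.e, TCG_Fi23.Col.c, TCG_Fi23.Col.b, TCG_Fi23.Col.f, TCG_Fi23.Col.h, TCG_Fi23.Col.i, TCG_Fi23.Col.h, TCG_Fi23.Col.d, TCG_Fi23.Col.c, TCG_Fi23.Col.b, TCG_Fi23.Col.e, TCG_Fi23.Col.h, TCG_Fi23.Col.d, TCG_Fi23.Col.a, TCG_Fi23.Col.c, TCG_Fi23.Col.d, TCG_Fi23.Col.e, TCG_Fi23.Col.f, TCG_Fi23.Col.g, TCG_Fi23.Col.a, TCG_Fi23.Col.b, TCG_Fi23.Col.c, TCG_Fi23.Col.d, TCG_Fi23.Col.e, TCG_Fi23.Col.f, TCG_Fi23.Col.g, TCG_Fi23.Col.d, TCG_Fi23.Col.c, TCG_Fi23.Col.b, TCG_Fi23.Col.e, TCG_Fi23.Col.h, TCG_Fi23.Col.d, TCG_Fi23.Col.a, TCG_Fi23.Col.c, TCG_Fi23.Col.d, TCG_Fi23.Col.e, TCG_Fi23.Col.f, TCG_Fi23.Col.g, TCG_Fi23.Col.j,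 TCG_Fi23.Col.d, TCG_Fi23.Col.e, TCG_Fi23.Col.f, TCG_Fi23.Col.g, TCG_Fi23.Col.j, TCG_Fi23.Col.c, TCG_Fi23.Col.h, TCG_Fi23.Col.d, TCG_Fi23.Col.e, TCG_Fi23.Col.f, TCG_Fi23.Col.g, TCG_Fi23.Col.j, TCG_Fi23.Col.f, TCG_Fi23.Col.g, TCG_Fi23.Col.j, TCG_Fi23.Col.h, TCG_Fi23.Col.d, TCG_Fi23.Col.e, TCG_Fi23.Col.f, TCG_Fi23.Col.g, TCG_Fi23.Col.b, TCG_Fi23.Col.c, TCG_Fi23.Col.e, TCG_Fi23.Col.f, TCG_Fi23.Col.h, TCG_Fi23.Col.c, TCG_Fi23.Col.b, TCG_Fi23.Col.e, TCG_Fi23.Col.f, TCG_Fi23.Col.c, TCG_Fi23.Col.h, TCG_Fi23.Col.d, TCG_Fi23.Col.e, TCG_Fi23.Col.f, TCG_Fi23.Col.g, TCG_Fi23.Col.j, TCG_Fi23.Col.d, TCG_Fi23.Col.c, TCG_Fi23.Col.b, TCG_Fi23.Col.e, TCG_Fi23.Col.h, TCG_Fi23.Col.d, TCG_Fi23.Col.a,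 TCG_Fi23.Col.c, TCG_Fi23.Col.d, TCG_Fi23.Col.e, TCG_Fi23.Col.f, TCG_Fi23.Col.g, TCG_Fi23.Col.j, TCG_Fi23.Col.c, TCG_Fi23.Col.f, TCG_Fi23.Col.e, TCG_Fi23.Col.h, TCG_Fi23.Col.i, TCG_Fi23.Col.d, TCG_Fi23.Col.e, TCG_Fi23.Col.h, TCG_Fi23.Col.d, TCG_Fi23.Col.c, TCG_Fi23.Col.i, TCG_Fi23.Col.b, TCG_Fi23.Col.h, TCG_Fi23.Col.d, TCG_Fi23.Col.c, TCG_Fi23.Col.e, TCG_Fi23.Col.d, TCG_Fi23.Col.f, TCG_Fi23.Col.d, TCG_Fi23.Col.e, TCG_Fi23.Col.c, TCG_Fi23.Col.b, TCG_Fi23.Col.h, TCG_Fi23.Col.b, TCG_Fi23.Col.d, TCG_Fi23.Col.g, TCG_Fi23.Col.h, TCG_Fi23.Col.b, TCG_Fi23.Col.d, TCG_Fi23.Col.c, TCG_Fi23.Col.d, TCG_Fi23.Col.g, TCG_Fi23.Col.e, TCG_Fi23.Col.i, TCG_Fi23.Col.h, TCG_Fi23.Col.d, TCG_Fi23.Col.h,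 TCG_Fi23.Col.i, TCG_Fi23.Col.b, TCG_Fi23.Col.d, TCG_Fi23.Col.c, TCG_Fi23.Col.f, TCG_Fi23.Col.e, TCG_Fi23.Col.d, TCG_Fi23.Col.a, TCG_Fi23.Col.b, TCG_Fi23.Col.c, TCG_Fi23.Col.b, TCG_Fi23.Col.f, TCG_Fi23.Col.h, TCG_Fi23.Col.b, TCG_Fi23.Col.c, TCG_Fi23.Col.e, TCG_Fi23.Col.i, TCG_Fi23.Col.h, TCG_Fi23.Col.a, TCG_Fi23.Col.b, TCG_Fi23.Col.c, TCG_Fi23.Col.d, TCG_Fi23.Col.e, TCG_Fi23.Col.f, TCG_Fi23.Col.g, TCG_Fi23.Col.c, TCG_Fi23.Col.h, TCG_Fi23.Col.d, TCG_Fi23.Col.e, TCG_Fi23.Col.f, TCG_Fi23.Col.g, TCG_Fi23.Col.a, TCG_Fi23.Col.b, TCG_Fi23.Col.d, TCG_Fi23.Col.c, TCG_Fi23.Col.f, TCG_Fi23.Col.e, TCG_Fi23.Col.d, TCG_Fi23.Col.c, TCG_Fi23.Col.b, TCG_Fi23.Col.h, TCG_Fi23.Col.i, TCG_Fi23.Col.d,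 TCG_Fi23.Col.e, TCG_Fi23.Col.f, TCG_Fi23.Col.g, TCG_Fi23.Col.j, TCG_Fi23.Col.c, TCG_Fi23.Col.h, TCG_Fi23.Col.d, TCG_Fi23.Col.e, TCG_Fi23.Col.f, TCG_Fi23.Col.g, TCG_Fi23.Col.j, TCG_Fi23.Col.g, TCG_Fi23.Col.j, TCG_Fi23.Col.b, TCG_Fi23.Col.c, TCG_Fi23.Col.e, TCG_Fi23.Col.i, TCG_Fi23.Col.h, TCG_Fi23.Col.a, TCG_Fi23.Col.b, TCG_Fi23.Col.c, TCG_Fi23.Col.d, TCG_Fi23.Col.e, TCG_Fi23.Col.f, TCG_Fi23.Col.g, TCG_Fi23.Col.a, TCG_Fi23.Col.b, TCG_Fi23.Col.c, TCG_Fi23.Col.d, TCG_Fi23.Col.e, TCG_Fi23.Col.f, TCG_Fi23.Col.g, TCG_Fi23.Col.d, TCG_Fi23.Col.c, TCG_Fi23.Col.b, TCG_Fi23.Col.e, TCG_Fi23.Col.h, TCG_Fi23.Col.d, TCG_Fi23.Col.a, TCG_Fi23.Col.c, TCG_Fi23.Col.d, TCG_Fi23.Col.e, TCG_Fi23.Col.f,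 TCG_Fi23.Col.g, TCG_Fi23.Col.c, TCG_Fi23.Col.b, TCG_Fi23.Col.h, TCG_Fi23.Col.i, TCG_Fi23.Col.d, TCG_Fi23.Col.e, TCG_Fi23.Col.f, TCG_Fi23.Col.g, TCG_Fi23.Col.j, TCG_Fi23.Col.c, TCG_Fi23.Col.h, TCG_Fi23.Col.d, TCG_Fi23.Col.e, TCG_Fi23.Col.f, TCG_Fi23.Col.g, TCG_Fi23.Col.j, TCG_Fi23.Col.g, TCG_Fi23.Col.j, TCG_Fi23.Col.b, TCG_Fi23.Col.c, TCG_Fi23.Col.e, TCG_Fi23.Col.i, TCG_Fi23.Col.h, TCG_Fi23.Col.a, TCG_Fi23.Col.b, TCG_Fi23.Col.c, TCG_Fi23.Col.d, TCG_Fi23.Col.e, TCG_Fi23.Col.f, TCG_Fi23.Col.g, TCG_Fi23.Col.b, TCG_Fi23.Col.e, TCG_Fi23.Col.i, TCG_Fi23.Col.a, TCG_Fi23.Col.i, TCG_Fi23.Col.h, TCG_Fi23.Col.d, TCG_Fi23.Col.b, TCG_Fi23.Col.f, TCG_Fi23.Col.h, TCG_Fi23.Col.i, TCG_Fi23.Col.h,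 TCG_Fi23.Col.b, TCG_Fi23.Col.c, TCG_Fi23.Col.e, TCG_Fi23.Col.i, TCG_Fi23.Col.h, TCG_Fi23.Col.a, TCG_Fi23.Col.b, TCG_Fi23.Col.c, TCG_Fi23.Col.d, TCG_Fi23.Col.e, TCG_Fi23.Col.f, TCG_Fi23.Col.g, TCG_Fi23.Col.c, TCG_Fi23.Col.b, TCG_Fi23.Col.h, TCG_Fi23.Col.i, TCG_Fi23.Col.d, TCG_Fi23.Col.e, TCG_Fi23.Col.f, TCG_Fi23.Col.g, TCG_Fi23.Col.j, TCG_Fi23.Col.c, TCG_Fi23.Col.h, TCG_Fi23.Col.d, TCG_Fi23.Col.e, TCG_Fi23.Col.f, TCG_Fi23.Col.g, TCG_Fi23.Col.j, TCG_Fi23.Col.g, TCG_Fi23.Col.j, TCG_Fi23.Col.e, TCG_Fi23.Col.f, TCG_Fi23.Col.g, TCG_Fi23.Col.d, TCG_Fi23.Col.c, TCG_Fi23.Col.f, TCG_Fi23.Col.e, TCG_Fi23.Col.d, TCG_Fi23.Col.e, TCG_Fi23.Col.f, TCG_Fi23.Col.h, TCG_Fi23.Col.i, TCG_Fi23.Col.h,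 TCG_Fi23.Col.d, TCG_Fi23.Col.c, TCG_Fi23.Col.b, TCG_Fi23.Col.a, TCG_Fi23.Col.h, TCG_Fi23.Col.d, TCG_Fi23.Col.b, TCG_Fi23.Col.f, TCG_Fi23.Col.i, TCG_Fi23.Col.d, TCG_Fi23.Col.e, TCG_Fi23.Col.b, TCG_Fi23.Col.f, TCG_Fi23.Col.c, TCG_Fi23.Col.f, TCG_Fi23.Col.b, TCG_Fi23.Col.d, TCG_Fi23.Col.e, TCG_Fi23.Col.f, TCG_Fi23.Col.h, TCG_Fi23.Col.i, TCG_Fi23.Col.c, TCG_Fi23.Col.j, TCG_Fi23.Col.f, TCG_Fi23.Col.d, TCG_Fi23.Col.h, TCG_Fi23.Col.j, TCG_Fi23.Col.g, TCG_Fi23.Col.e, TCG_Fi23.Col.d, TCG_Fi23.Col.f, TCG_Fi23.Col.b, TCG_Fi23.Col.g, TCG_Fi23.Col.c, TCG_Fi23.Col.f, TCG_Fi23.Col.g, TCG_Fi23.Col.d, TCG_Fi23.Col.b, TCG_Fi23.Col.j, TCG_Fi23.Col.b, TCG_Fi23.Col.e, TCG_Fi23.Col.b, TCG_Fi23.Col.g,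 TCG_Fi23.Col.j, TCG_Fi23.Col.d, TCG_Fi23.Col.f, TCG_Fi23.Col.h, TCG_Fi23.Col.g],
  [TCG_Fi23.Col.e, TCG_Fi23.Col.f, TCG_Fi23.Col.g, TCG_Fi23.Col.j, TCG_Fi23.Col.c, TCG_Fi23.Col.h, TCG_Fi23.Col.d, TCG_Fi23.Col.e, TCG_Fi23.Col.f, TCG_Fi23.Col.g, TCG_Fi23.Col.a, TCG_Fi23.Col.b, TCG_Fi23.Col.c, TCG_Fi23.Col.b, TCG_Fi23.Col.a, TCG_Fi23.Col.h, TCG_Fi23.Col.d, TCG_Fi23.Col.b, TCG_Fi23.Col.c, TCG_Fi23.Col.b, TCG_Fi23.Col.h, TCG_Fi23.Col.e, TCG_Fi23.Col.a, TCG_Fi23.Col.f, TCG_Fi23.Col.d, TCG_Fi23.Col.c, TCG_Fi23.Col.e, TCG_Fi23.Col.h],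
  [TCG_Fi23.Col.b, TCG_Fi23.Col.c, TCG_Fi23.Col.h, TCG_Fi23.Col.i, TCG_Fi23.Col.d, TCG_Fi23.Col.e, TCG_Fi23.Col.h, TCG_Fi23.Col.d, TCG_Fi23.Col.c, TCG_Fi23.Col.i, TCG_Fi23.Col.b, TCG_Fi23.Col.h, TCG_Fi23.Col.d, TCG_Fi23.Col.c, TCG_Fi23.Col.e, TCG_Fi23.Col.d, TCG_Fi23.Col.b, TCG_Fi23.Col.c, TCG_Fi23.Col.f, TCG_Fi23.Col.e, TCG_Fi23.Col.i, TCG_Fi23.Col.h, TCG_Fi23.Col.d, TCG_Fi23.Col.e, TCG_Fi23.Col.h, TCG_Fi23.Col.d, TCG_Fi23.Col.c, TCG_Fi23.Col.i, TCG_Fi23.Col.b, TCG_Fi23.Col.h, TCG_Fi23.Col.d, TCG_Fi23.Col.c, TCG_Fi23.Col.e, TCG_Fi23.Col.d, TCG_Fi23.Col.c, TCG_Fi23.Col.f, TCG_Fi23.Col.e, TCG_Fi23.Col.h, TCG_Fi23.Col.i, TCG_Fi23.Col.c, TCG_Fi23.Col.b, TCG_Fi23.Col.h, TCG_Fi23.Col.i,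 TCG_Fi23.Col.c, TCG_Fi23.Col.b, TCG_Fi23.Col.d, TCG_Fi23.Col.e, TCG_Fi23.Col.h, TCG_Fi23.Col.d, TCG_Fi23.Col.b, TCG_Fi23.Col.c, TCG_Fi23.Col.i, TCG_Fi23.Col.h, TCG_Fi23.Col.d, TCG_Fi23.Col.b, TCG_Fi23.Col.c, TCG_Fi23.Col.e, TCG_Fi23.Col.d, TCG_Fi23.Col.b, TCG_Fi23.Col.c, TCG_Fi23.Col.b, TCG_Fi23.Col.e, TCG_Fi23.Col.h, TCG_Fi23.Col.i, TCG_Fi23.Col.f, TCG_Fi23.Col.e, TCG_Fi23.Col.d, TCG_Fi23.Col.c, TCG_Fi23.Col.b, TCG_Fi23.Col.a, TCG_Fi23.Col.h, TCG_Fi23.Col.d, TCG_Fi23.Col.e, TCG_Fi23.Col.f, TCG_Fi23.Col.g, TCG_Fi23.Col.d, TCG_Fi23.Col.c, TCG_Fi23.Col.b, TCG_Fi23.Col.e, TCG_Fi23.Col.h, TCG_Fi23.Col.d, TCG_Fi23.Col.a, TCG_Fi23.Col.c, TCG_Fi23.Col.d, TCG_Fi23.Col.e, TCG_Fi23.Col.f,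 TCG_Fi23.Col.g, TCG_Fi23.Col.d, TCG_Fi23.Col.c, TCG_Fi23.Col.b, TCG_Fi23.Col.e, TCG_Fi23.Col.h, TCG_Fi23.Col.d, TCG_Fi23.Col.a, TCG_Fi23.Col.c, TCG_Fi23.Col.d, TCG_Fi23.Col.e, TCG_Fi23.Col.f, TCG_Fi23.Col.g, TCG_Fi23.Col.a, TCG_Fi23.Col.b, TCG_Fi23.Col.c, TCG_Fi23.Col.d, TCG_Fi23.Col.e, TCG_Fi23.Col.f, TCG_Fi23.Col.g, TCG_Fi23.Col.d, TCG_Fi23.Col.c, TCG_Fi23.Col.b, TCG_Fi23.Col.e, TCG_Fi23.Col.h, TCG_Fi23.Col.d, TCG_Fi23.Col.a, TCG_Fi23.Col.c, TCG_Fi23.Col.d, TCG_Fi23.Col.e, TCG_Fi23.Col.f, TCG_Fi23.Col.g, TCG_Fi23.Col.j, TCG_Fi23.Col.c, TCG_Fi23.Col.f, TCG_Fi23.Col.e, TCG_Fi23.Col.i, TCG_Fi23.Col.a, TCG_Fi23.Col.d, TCG_Fi23.Col.c, TCG_Fi23.Col.f, TCG_Fi23.Col.e, TCG_Fi23.Col.h,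 TCG_Fi23.Col.d, TCG_Fi23.Col.e, TCG_Fi23.Col.h, TCG_Fi23.Col.i, TCG_Fi23.Col.h, TCG_Fi23.Col.b, TCG_Fi23.Col.c, TCG_Fi23.Col.b, TCG_Fi23.Col.e, TCG_Fi23.Col.h, TCG_Fi23.Col.i, TCG_Fi23.Col.b, TCG_Fi23.Col.f, TCG_Fi23.Col.h, TCG_Fi23.Col.a, TCG_Fi23.Col.h, TCG_Fi23.Col.d, TCG_Fi23.Col.c, TCG_Fi23.Col.e, TCG_Fi23.Col.d, TCG_Fi23.Col.c, TCG_Fi23.Col.b, TCG_Fi23.Col.e, TCG_Fi23.Col.h, TCG_Fi23.Col.i, TCG_Fi23.Col.h, TCG_Fi23.Col.a, TCG_Fi23.Col.b, TCG_Fi23.Col.c, TCG_Fi23.Col.d, TCG_Fi23.Col.e, TCG_Fi23.Col.h, TCG_Fi23.Col.d, TCG_Fi23.Col.a, TCG_Fi23.Col.c, TCG_Fi23.Col.h, TCG_Fi23.Col.i, TCG_Fi23.Col.h, TCG_Fi23.Col.b, TCG_Fi23.Col.f, TCG_Fi23.Col.d, TCG_Fi23.Col.e, TCG_Fi23.Col.h,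 TCG_Fi23.Col.d, TCG_Fi23.Col.b, TCG_Fi23.Col.c, TCG_Fi23.Col.i, TCG_Fi23.Col.b, TCG_Fi23.Col.h, TCG_Fi23.Col.d, TCG_Fi23.Col.c, TCG_Fi23.Col.e, TCG_Fi23.Col.d, TCG_Fi23.Col.c, TCG_Fi23.Col.b, TCG_Fi23.Col.e, TCG_Fi23.Col.h, TCG_Fi23.Col.i, TCG_Fi23.Col.h, TCG_Fi23.Col.a, TCG_Fi23.Col.d, TCG_Fi23.Col.c, TCG_Fi23.Col.e, TCG_Fi23.Col.h, TCG_Fi23.Col.d, TCG_Fi23.Col.c, TCG_Fi23.Col.e, TCG_Fi23.Col.f, TCG_Fi23.Col.h, TCG_Fi23.Col.i, TCG_Fi23.Col.f, TCG_Fi23.Col.i, TCG_Fi23.Col.b, TCG_Fi23.Col.c, TCG_Fi23.Col.b, TCG_Fi23.Col.e, TCG_Fi23.Col.f, TCG_Fi23.Col.h, TCG_Fi23.Col.d, TCG_Fi23.Col.e, TCG_Fi23.Col.f, TCG_Fi23.Col.g, TCG_Fi23.Col.b, TCG_Fi23.Col.c, TCG_Fi23.Col.e, TCG_Fi23.Col.i,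 TCG_Fi23.Col.h, TCG_Fi23.Col.a, TCG_Fi23.Col.b, TCG_Fi23.Col.c, TCG_Fi23.Col.d, TCG_Fi23.Col.e, TCG_Fi23.Col.f, TCG_Fi23.Col.g, TCG_Fi23.Col.e, TCG_Fi23.Col.h, TCG_Fi23.Col.d, TCG_Fi23.Col.e, TCG_Fi23.Col.f, TCG_Fi23.Col.g, TCG_Fi23.Col.j, TCG_Fi23.Col.a, TCG_Fi23.Col.b, TCG_Fi23.Col.d, TCG_Fi23.Col.c, TCG_Fi23.Col.i, TCG_Fi23.Col.h, TCG_Fi23.Col.d, TCG_Fi23.Col.a, TCG_Fi23.Col.c, TCG_Fi23.Col.h, TCG_Fi23.Col.d, TCG_Fi23.Col.e, TCG_Fi23.Col.f, TCG_Fi23.Col.g, TCG_Fi23.Col.j, TCG_Fi23.Col.g, TCG_Fi23.Col.j, TCG_Fi23.Col.d, TCG_Fi23.Col.e, TCG_Fi23.Col.f, TCG_Fi23.Col.g, TCG_Fi23.Col.j, TCG_Fi23.Col.c, TCG_Fi23.Col.h, TCG_Fi23.Col.d, TCG_Fi23.Col.e, TCG_Fi23.Col.f, TCG_Fi23.Col.g,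 TCG_Fi23.Col.j, TCG_Fi23.Col.g, TCG_Fi23.Col.j, TCG_Fi23.Col.c, TCG_Fi23.Col.e, TCG_Fi23.Col.d, TCG_Fi23.Col.c, TCG_Fi23.Col.b, TCG_Fi23.Col.a, TCG_Fi23.Col.h, TCG_Fi23.Col.d, TCG_Fi23.Col.e, TCG_Fi23.Col.f, TCG_Fi23.Col.a, TCG_Fi23.Col.i, TCG_Fi23.Col.h, TCG_Fi23.Col.d, TCG_Fi23.Col.f, TCG_Fi23.Col.g, TCG_Fi23.Col.f, TCG_Fi23.Col.e, TCG_Fi23.Col.h, TCG_Fi23.Col.i, TCG_Fi23.Col.f, TCG_Fi23.Col.e, TCG_Fi23.Col.d, TCG_Fi23.Col.c, TCG_Fi23.Col.b, TCG_Fi23.Col.a, TCG_Fi23.Col.h, TCG_Fi23.Col.d, TCG_Fi23.Col.e, TCG_Fi23.Col.f, TCG_Fi23.Col.g, TCG_Fi23.Col.b, TCG_Fi23.Col.c, TCG_Fi23.Col.b, TCG_Fi23.Col.f, TCG_Fi23.Col.e, TCG_Fi23.Col.i, TCG_Fi23.Col.f, TCG_Fi23.Col.e, TCG_Fi23.Col.d,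 TCG_Fi23.Col.c, TCG_Fi23.Col.b, TCG_Fi23.Col.a, TCG_Fi23.Col.h, TCG_Fi23.Col.d, TCG_Fi23.Col.e, TCG_Fi23.Col.f, TCG_Fi23.Col.g, TCG_Fi23.Col.f, TCG_Fi23.Col.e, TCG_Fi23.Col.d, TCG_Fi23.Col.c, TCG_Fi23.Col.b, TCG_Fi23.Col.a, TCG_Fi23.Col.h, TCG_Fi23.Col.d, TCG_Fi23.Col.e, TCG_Fi23.Col.f, TCG_Fi23.Col.g, TCG_Fi23.Col.b, TCG_Fi23.Col.c, TCG_Fi23.Col.b, TCG_Fi23.Col.f, TCG_Fi23.Col.e, TCG_Fi23.Col.i, TCG_Fi23.Col.f, TCG_Fi23.Col.e, TCG_Fi23.Col.d, TCG_Fi23.Col.c, TCG_Fi23.Col.b, TCG_Fi23.Col.a, TCG_Fi23.Col.h, TCG_Fi23.Col.d, TCG_Fi23.Col.e, TCG_Fi23.Col.f, TCG_Fi23.Col.g, TCG_Fi23.Col.a, TCG_Fi23.Col.d, TCG_Fi23.Col.c, TCG_Fi23.Col.e, TCG_Fi23.Col.i, TCG_Fi23.Col.h, TCG_Fi23.Col.d,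 TCG_Fi23.Col.b, TCG_Fi23.Col.c, TCG_Fi23.Col.b, TCG_Fi23.Col.e, TCG_Fi23.Col.h, TCG_Fi23.Col.i, TCG_Fi23.Col.b, TCG_Fi23.Col.f, TCG_Fi23.Col.h, TCG_Fi23.Col.a, TCG_Fi23.Col.h, TCG_Fi23.Col.d, TCG_Fi23.Col.c, TCG_Fi23.Col.e, TCG_Fi23.Col.d, TCG_Fi23.Col.c, TCG_Fi23.Col.b, TCG_Fi23.Col.e, TCG_Fi23.Col.h, TCG_Fi23.Col.i, TCG_Fi23.Col.h, TCG_Fi23.Col.a, TCG_Fi23.Col.b, TCG_Fi23.Col.c, TCG_Fi23.Col.d, TCG_Fi23.Col.e, TCG_Fi23.Col.h, TCG_Fi23.Col.d, TCG_Fi23.Col.a, TCG_Fi23.Col.c, TCG_Fi23.Col.h, TCG_Fi23.Col.i, TCG_Fi23.Col.h, TCG_Fi23.Col.b, TCG_Fi23.Col.f, TCG_Fi23.Col.d, TCG_Fi23.Col.e, TCG_Fi23.Col.h, TCG_Fi23.Col.d, TCG_Fi23.Col.b, TCG_Fi23.Col.c, TCG_Fi23.Col.i, TCG_Fi23.Col.b,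 TCG_Fi23.Col.h, TCG_Fi23.Col.d, TCG_Fi23.Col.c, TCG_Fi23.Col.e, TCG_Fi23.Col.d, TCG_Fi23.Col.a, TCG_Fi23.Col.d, TCG_Fi23.Col.c, TCG_Fi23.Col.e, TCG_Fi23.Col.h, TCG_Fi23.Col.d, TCG_Fi23.Col.c, TCG_Fi23.Col.f, TCG_Fi23.Col.e, TCG_Fi23.Col.i, TCG_Fi23.Col.h, TCG_Fi23.Col.b, TCG_Fi23.Col.a, TCG_Fi23.Col.e, TCG_Fi23.Col.h, TCG_Fi23.Col.d, TCG_Fi23.Col.c, TCG_Fi23.Col.i, TCG_Fi23.Col.b, TCG_Fi23.Col.h, TCG_Fi23.Col.d, TCG_Fi23.Col.c, TCG_Fi23.Col.e, TCG_Fi23.Col.d, TCG_Fi23.Col.c, TCG_Fi23.Col.f, TCG_Fi23.Col.e, TCG_Fi23.Col.h, TCG_Fi23.Col.i, TCG_Fi23.Col.h, TCG_Fi23.Col.d, TCG_Fi23.Col.e, TCG_Fi23.Col.f, TCG_Fi23.Col.i, TCG_Fi23.Col.d, TCG_Fi23.Col.h, TCG_Fi23.Col.f, TCG_Fi23.Col.g,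 TCG_Fi23.Col.i, TCG_Fi23.Col.e, TCG_Fi23.Col.d, TCG_Fi23.Col.c, TCG_Fi23.Col.g, TCG_Fi23.Col.b, TCG_Fi23.Col.h, TCG_Fi23.Col.d, TCG_Fi23.Col.c, TCG_Fi23.Col.e, TCG_Fi23.Col.d, TCG_Fi23.Col.e, TCG_Fi23.Col.c, TCG_Fi23.Col.f, TCG_Fi23.Col.h, TCG_Fi23.Col.j, TCG_Fi23.Col.g, TCG_Fi23.Col.f, TCG_Fi23.Col.a, TCG_Fi23.Col.d, TCG_Fi23.Col.e],
  [TCG_Fi23.Col.a, TCG_Fi23.Col.d, TCG_Fi23.Col.e, TCG_Fi23.Col.i, TCG_Fi23.Col.h, TCG_Fi23.Col.d, TCG_Fi23.Col.e, TCG_Fi23.Col.f, TCG_Fi23.Col.g, TCG_Fi23.Col.j, TCG_Fi23.Col.b, TCG_Fi23.Col.c, TCG_Fi23.Col.b, TCG_Fi23.Col.f, TCG_Fi23.Col.i, TCG_Fi23.Col.h, TCG_Fi23.Col.d, TCG_Fi23.Col.e, TCG_Fi23.Col.f, TCG_Fi23.Col.g, TCG_Fi23.Col.j, TCG_Fi23.Col.c,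 TCG_Fi23.Col.h, TCG_Fi23.Col.d, TCG_Fi23.Col.e, TCG_Fi23.Col.f, TCG_Fi23.Col.g, TCG_Fi23.Col.j, TCG_Fi23.Col.g, TCG_Fi23.Col.j, TCG_Fi23.Col.b, TCG_Fi23.Col.f, TCG_Fi23.Col.e, TCG_Fi23.Col.i, TCG_Fi23.Col.h, TCG_Fi23.Col.d, TCG_Fi23.Col.a, TCG_Fi23.Col.g, TCG_Fi23.Col.a, TCG_Fi23.Col.c, TCG_Fi23.Col.d, TCG_Fi23.Col.e, TCG_Fi23.Col.h, TCG_Fi23.Col.d, TCG_Fi23.Col.c, TCG_Fi23.Col.e, TCG_Fi23.Col.f, TCG_Fi23.Col.h, TCG_Fi23.Col.i, TCG_Fi23.Col.h, TCG_Fi23.Col.a, TCG_Fi23.Col.b, TCG_Fi23.Col.d, TCG_Fi23.Col.c, TCG_Fi23.Col.f, TCG_Fi23.Col.e, TCG_Fi23.Col.d, TCG_Fi23.Col.e, TCG_Fi23.Col.f, TCG_Fi23.Col.i, TCG_Fi23.Col.a, TCG_Fi23.Col.b, TCG_Fi23.Col.c, TCG_Fi23.Col.b, TCG_Fi23.Col.a,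 TCG_Fi23.Col.h, TCG_Fi23.Col.d, TCG_Fi23.Col.c, TCG_Fi23.Col.b, TCG_Fi23.Col.h, TCG_Fi23.Col.i, TCG_Fi23.Col.d, TCG_Fi23.Col.e, TCG_Fi23.Col.f, TCG_Fi23.Col.g, TCG_Fi23.Col.j, TCG_Fi23.Col.c, TCG_Fi23.Col.h, TCG_Fi23.Col.d, TCG_Fi23.Col.e, TCG_Fi23.Col.f, TCG_Fi23.Col.g, TCG_Fi23.Col.j, TCG_Fi23.Col.g, TCG_Fi23.Col.j, TCG_Fi23.Col.f, TCG_Fi23.Col.g, TCG_Fi23.Col.d, TCG_Fi23.Col.c, TCG_Fi23.Col.h, TCG_Fi23.Col.d, TCG_Fi23.Col.c, TCG_Fi23.Col.b, TCG_Fi23.Col.a, TCG_Fi23.Col.d, TCG_Fi23.Col.c, TCG_Fi23.Col.f, TCG_Fi23.Col.e, TCG_Fi23.Col.d, TCG_Fi23.Col.f, TCG_Fi23.Col.i, TCG_Fi23.Col.e, TCG_Fi23.Col.b, TCG_Fi23.Col.f, TCG_Fi23.Col.c, TCG_Fi23.Col.b, TCG_Fi23.Col.f, TCG_Fi23.Col.e,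 TCG_Fi23.Col.d, TCG_Fi23.Col.c, TCG_Fi23.Col.b, TCG_Fi23.Col.a, TCG_Fi23.Col.h, TCG_Fi23.Col.d, TCG_Fi23.Col.e, TCG_Fi23.Col.f, TCG_Fi23.Col.g, TCG_Fi23.Col.b, TCG_Fi23.Col.c, TCG_Fi23.Col.b, TCG_Fi23.Col.f, TCG_Fi23.Col.e, TCG_Fi23.Col.i, TCG_Fi23.Col.f, TCG_Fi23.Col.e, TCG_Fi23.Col.d, TCG_Fi23.Col.c, TCG_Fi23.Col.b, TCG_Fi23.Col.a, TCG_Fi23.Col.h, TCG_Fi23.Col.d, TCG_Fi23.Col.e, TCG_Fi23.Col.f, TCG_Fi23.Col.g, TCG_Fi23.Col.h, TCG_Fi23.Col.i, TCG_Fi23.Col.a, TCG_Fi23.Col.d, TCG_Fi23.Col.e, TCG_Fi23.Col.d, TCG_Fi23.Col.c, TCG_Fi23.Col.h, TCG_Fi23.Col.d, TCG_Fi23.Col.b, TCG_Fi23.Col.c, TCG_Fi23.Col.b, TCG_Fi23.Col.e, TCG_Fi23.Col.h, TCG_Fi23.Col.i, TCG_Fi23.Col.b, TCG_Fi23.Col.f,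 TCG_Fi23.Col.h, TCG_Fi23.Col.a, TCG_Fi23.Col.h, TCG_Fi23.Col.d, TCG_Fi23.Col.c, TCG_Fi23.Col.e, TCG_Fi23.Col.d, TCG_Fi23.Col.c, TCG_Fi23.Col.b, TCG_Fi23.Col.e, TCG_Fi23.Col.h, TCG_Fi23.Col.i, TCG_Fi23.Col.h, TCG_Fi23.Col.a, TCG_Fi23.Col.b, TCG_Fi23.Col.c, TCG_Fi23.Col.d, TCG_Fi23.Col.e, TCG_Fi23.Col.h, TCG_Fi23.Col.d, TCG_Fi23.Col.a, TCG_Fi23.Col.c, TCG_Fi23.Col.h, TCG_Fi23.Col.i, TCG_Fi23.Col.h, TCG_Fi23.Col.b, TCG_Fi23.Col.f, TCG_Fi23.Col.d, TCG_Fi23.Col.e, TCG_Fi23.Col.h, TCG_Fi23.Col.d, TCG_Fi23.Col.b, TCG_Fi23.Col.c, TCG_Fi23.Col.i, TCG_Fi23.Col.b, TCG_Fi23.Col.h, TCG_Fi23.Col.d, TCG_Fi23.Col.c, TCG_Fi23.Col.e, TCG_Fi23.Col.d, TCG_Fi23.Col.a, TCG_Fi23.Col.d, TCG_Fi23.Col.c,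 TCG_Fi23.Col.e, TCG_Fi23.Col.h, TCG_Fi23.Col.d, TCG_Fi23.Col.i, TCG_Fi23.Col.e, TCG_Fi23.Col.f, TCG_Fi23.Col.h, TCG_Fi23.Col.i, TCG_Fi23.Col.b, TCG_Fi23.Col.e, TCG_Fi23.Col.f, TCG_Fi23.Col.h, TCG_Fi23.Col.a, TCG_Fi23.Col.e, TCG_Fi23.Col.d, TCG_Fi23.Col.b, TCG_Fi23.Col.c, TCG_Fi23.Col.h, TCG_Fi23.Col.i, TCG_Fi23.Col.h, TCG_Fi23.Col.d, TCG_Fi23.Col.e, TCG_Fi23.Col.h, TCG_Fi23.Col.d, TCG_Fi23.Col.b, TCG_Fi23.Col.c, TCG_Fi23.Col.i, TCG_Fi23.Col.b, TCG_Fi23.Col.h, TCG_Fi23.Col.d, TCG_Fi23.Col.c, TCG_Fi23.Col.e, TCG_Fi23.Col.d, TCG_Fi23.Col.b, TCG_Fi23.Col.c, TCG_Fi23.Col.e, TCG_Fi23.Col.f, TCG_Fi23.Col.e, TCG_Fi23.Col.i, TCG_Fi23.Col.b, TCG_Fi23.Col.e, TCG_Fi23.Col.f, TCG_Fi23.Col.e,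 TCG_Fi23.Col.i, TCG_Fi23.Col.c, TCG_Fi23.Col.f, TCG_Fi23.Col.h, TCG_Fi23.Col.i, TCG_Fi23.Col.h, TCG_Fi23.Col.c, TCG_Fi23.Col.e, TCG_Fi23.Col.b, TCG_Fi23.Col.f, TCG_Fi23.Col.h, TCG_Fi23.Col.i, TCG_Fi23.Col.h, TCG_Fi23.Col.f, TCG_Fi23.Col.i, TCG_Fi23.Col.c, TCG_Fi23.Col.b, TCG_Fi23.Col.e, TCG_Fi23.Col.b, TCG_Fi23.Col.c, TCG_Fi23.Col.b, TCG_Fi23.Col.f, TCG_Fi23.Col.i, TCG_Fi23.Col.h, TCG_Fi23.Col.d, TCG_Fi23.Col.e, TCG_Fi23.Col.f, TCG_Fi23.Col.g, TCG_Fi23.Col.j, TCG_Fi23.Col.c, TCG_Fi23.Col.h, TCG_Fi23.Col.d, TCG_Fi23.Col.e, TCG_Fi23.Col.f, TCG_Fi23.Col.g, TCG_Fi23.Col.j, TCG_Fi23.Col.g, TCG_Fi23.Col.j, TCG_Fi23.Col.b, TCG_Fi23.Col.f, TCG_Fi23.Col.e, TCG_Fi23.Col.i, TCG_Fi23.Col.h,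 TCG_Fi23.Col.d, TCG_Fi23.Col.a, TCG_Fi23.Col.g, TCG_Fi23.Col.a, TCG_Fi23.Col.c, TCG_Fi23.Col.d, TCG_Fi23.Col.e, TCG_Fi23.Col.h, TCG_Fi23.Col.d, TCG_Fi23.Col.c, TCG_Fi23.Col.e, TCG_Fi23.Col.f, TCG_Fi23.Col.h, TCG_Fi23.Col.i, TCG_Fi23.Col.h, TCG_Fi23.Col.a, TCG_Fi23.Col.b, TCG_Fi23.Col.d, TCG_Fi23.Col.c, TCG_Fi23.Col.f, TCG_Fi23.Col.e, TCG_Fi23.Col.d, TCG_Fi23.Col.e, TCG_Fi23.Col.f, TCG_Fi23.Col.i, TCG_Fi23.Col.a, TCG_Fi23.Col.b, TCG_Fi23.Col.c, TCG_Fi23.Col.b, TCG_Fi23.Col.a, TCG_Fi23.Col.h, TCG_Fi23.Col.d, TCG_Fi23.Col.c, TCG_Fi23.Col.b, TCG_Fi23.Col.h, TCG_Fi23.Col.i, TCG_Fi23.Col.d, TCG_Fi23.Col.e, TCG_Fi23.Col.f, TCG_Fi23.Col.g, TCG_Fi23.Col.j, TCG_Fi23.Col.c, TCG_Fi23.Col.h,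 TCG_Fi23.Col.d, TCG_Fi23.Col.e, TCG_Fi23.Col.f, TCG_Fi23.Col.g, TCG_Fi23.Col.j, TCG_Fi23.Col.g, TCG_Fi23.Col.j, TCG_Fi23.Col.f, TCG_Fi23.Col.g, TCG_Fi23.Col.d, TCG_Fi23.Col.c, TCG_Fi23.Col.h, TCG_Fi23.Col.d, TCG_Fi23.Col.c, TCG_Fi23.Col.b, TCG_Fi23.Col.a, TCG_Fi23.Col.d, TCG_Fi23.Col.c, TCG_Fi23.Col.f, TCG_Fi23.Col.e, TCG_Fi23.Col.d, TCG_Fi23.Col.f, TCG_Fi23.Col.i, TCG_Fi23.Col.e, TCG_Fi23.Col.b, TCG_Fi23.Col.f, TCG_Fi23.Col.c, TCG_Fi23.Col.b, TCG_Fi23.Col.c, TCG_Fi23.Col.b, TCG_Fi23.Col.h, TCG_Fi23.Col.i, TCG_Fi23.Col.h, TCG_Fi23.Col.j, TCG_Fi23.Col.g, TCG_Fi23.Col.i, TCG_Fi23.Col.d, TCG_Fi23.Col.j, TCG_Fi23.Col.a, TCG_Fi23.Col.b, TCG_Fi23.Col.f, TCG_Fi23.Col.j, TCG_Fi23.Col.e,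 TCG_Fi23.Col.h, TCG_Fi23.Col.d, TCG_Fi23.Col.h, TCG_Fi23.Col.i, TCG_Fi23.Col.e],
  [TCG_Fi23.Col.c, TCG_Fi23.Col.e, TCG_Fi23.Col.f, TCG_Fi23.Col.e, TCG_Fi23.Col.h, TCG_Fi23.Col.a, TCG_Fi23.Col.d, TCG_Fi23.Col.c, TCG_Fi23.Col.e, TCG_Fi23.Col.i, TCG_Fi23.Col.h, TCG_Fi23.Col.d, TCG_Fi23.Col.b, TCG_Fi23.Col.c, TCG_Fi23.Col.b, TCG_Fi23.Col.e, TCG_Fi23.Col.h, TCG_Fi23.Col.i, TCG_Fi23.Col.b, TCG_Fi23.Col.f, TCG_Fi23.Col.h, TCG_Fi23.Col.a, TCG_Fi23.Col.h, TCG_Fi23.Col.d, TCG_Fi23.Col.c, TCG_Fi23.Col.e, TCG_Fi23.Col.d, TCG_Fi23.Col.c, TCG_Fi23.Col.b, TCG_Fi23.Col.e, TCG_Fi23.Col.h, TCG_Fi23.Col.i, TCG_Fi23.Col.h, TCG_Fi23.Col.a, TCG_Fi23.Col.b, TCG_Fi23.Col.c, TCG_Fi23.Col.d, TCG_Fi23.Col.e,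 TCG_Fi23.Col.h, TCG_Fi23.Col.d, TCG_Fi23.Col.a, TCG_Fi23.Col.c, TCG_Fi23.Col.h, TCG_Fi23.Col.i, TCG_Fi23.Col.h, TCG_Fi23.Col.b, TCG_Fi23.Col.f, TCG_Fi23.Col.d, TCG_Fi23.Col.e, TCG_Fi23.Col.h, TCG_Fi23.Col.d, TCG_Fi23.Col.b, TCG_Fi23.Col.c, TCG_Fi23.Col.i, TCG_Fi23.Col.b, TCG_Fi23.Col.h, TCG_Fi23.Col.d, TCG_Fi23.Col.c, TCG_Fi23.Col.e, TCG_Fi23.Col.d, TCG_Fi23.Col.a, TCG_Fi23.Col.d, TCG_Fi23.Col.c, TCG_Fi23.Col.e, TCG_Fi23.Col.h, TCG_Fi23.Col.d, TCG_Fi23.Col.c, TCG_Fi23.Col.f, TCG_Fi23.Col.e, TCG_Fi23.Col.i, TCG_Fi23.Col.h, TCG_Fi23.Col.b, TCG_Fi23.Col.c, TCG_Fi23.Col.b, TCG_Fi23.Col.e, TCG_Fi23.Col.h, TCG_Fi23.Col.i, TCG_Fi23.Col.b, TCG_Fi23.Col.f, TCG_Fi23.Col.h, TCG_Fi23.Col.a,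 TCG_Fi23.Col.h, TCG_Fi23.Col.d, TCG_Fi23.Col.c, TCG_Fi23.Col.e, TCG_Fi23.Col.d, TCG_Fi23.Col.c, TCG_Fi23.Col.b, TCG_Fi23.Col.e, TCG_Fi23.Col.h, TCG_Fi23.Col.i, TCG_Fi23.Col.h, TCG_Fi23.Col.a, TCG_Fi23.Col.b, TCG_Fi23.Col.c, TCG_Fi23.Col.d, TCG_Fi23.Col.e, TCG_Fi23.Col.h, TCG_Fi23.Col.d, TCG_Fi23.Col.a, TCG_Fi23.Col.c, TCG_Fi23.Col.h, TCG_Fi23.Col.i, TCG_Fi23.Col.h, TCG_Fi23.Col.b, TCG_Fi23.Col.f, TCG_Fi23.Col.d, TCG_Fi23.Col.e, TCG_Fi23.Col.h, TCG_Fi23.Col.d, TCG_Fi23.Col.b, TCG_Fi23.Col.c, TCG_Fi23.Col.i, TCG_Fi23.Col.b, TCG_Fi23.Col.h, TCG_Fi23.Col.d, TCG_Fi23.Col.c, TCG_Fi23.Col.e, TCG_Fi23.Col.d, TCG_Fi23.Col.c, TCG_Fi23.Col.e, TCG_Fi23.Col.f, TCG_Fi23.Col.e, TCG_Fi23.Col.h,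 TCG_Fi23.Col.a, TCG_Fi23.Col.b, TCG_Fi23.Col.a, TCG_Fi23.Col.c, TCG_Fi23.Col.e, TCG_Fi23.Col.d, TCG_Fi23.Col.b, TCG_Fi23.Col.c, TCG_Fi23.Col.f, TCG_Fi23.Col.e, TCG_Fi23.Col.h, TCG_Fi23.Col.i, TCG_Fi23.Col.b, TCG_Fi23.Col.e, TCG_Fi23.Col.h, TCG_Fi23.Col.d, TCG_Fi23.Col.c, TCG_Fi23.Col.h, TCG_Fi23.Col.d, TCG_Fi23.Col.c, TCG_Fi23.Col.b, TCG_Fi23.Col.a, TCG_Fi23.Col.c, TCG_Fi23.Col.e, TCG_Fi23.Col.h, TCG_Fi23.Col.i, TCG_Fi23.Col.c, TCG_Fi23.Col.b, TCG_Fi23.Col.a, TCG_Fi23.Col.i, TCG_Fi23.Col.h, TCG_Fi23.Col.e, TCG_Fi23.Col.f, TCG_Fi23.Col.g, TCG_Fi23.Col.e, TCG_Fi23.Col.h, TCG_Fi23.Col.d, TCG_Fi23.Col.e, TCG_Fi23.Col.f, TCG_Fi23.Col.g, TCG_Fi23.Col.j, TCG_Fi23.Col.a, TCG_Fi23.Col.b,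 TCG_Fi23.Col.d, TCG_Fi23.Col.c, TCG_Fi23.Col.i, TCG_Fi23.Col.h, TCG_Fi23.Col.d, TCG_Fi23.Col.a, TCG_Fi23.Col.c, TCG_Fi23.Col.h, TCG_Fi23.Col.d, TCG_Fi23.Col.e, TCG_Fi23.Col.f, TCG_Fi23.Col.g, TCG_Fi23.Col.j, TCG_Fi23.Col.g, TCG_Fi23.Col.j, TCG_Fi23.Col.b, TCG_Fi23.Col.c, TCG_Fi23.Col.b, TCG_Fi23.Col.e, TCG_Fi23.Col.h, TCG_Fi23.Col.i, TCG_Fi23.Col.b, TCG_Fi23.Col.f, TCG_Fi23.Col.h, TCG_Fi23.Col.a, TCG_Fi23.Col.h, TCG_Fi23.Col.d, TCG_Fi23.Col.c, TCG_Fi23.Col.e, TCG_Fi23.Col.d, TCG_Fi23.Col.c, TCG_Fi23.Col.b, TCG_Fi23.Col.e, TCG_Fi23.Col.h, TCG_Fi23.Col.i, TCG_Fi23.Col.h, TCG_Fi23.Col.a, TCG_Fi23.Col.b, TCG_Fi23.Col.c, TCG_Fi23.Col.d, TCG_Fi23.Col.e, TCG_Fi23.Col.h, TCG_Fi23.Col.d,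 TCG_Fi23.Col.a, TCG_Fi23.Col.c, TCG_Fi23.Col.h, TCG_Fi23.Col.i, TCG_Fi23.Col.h, TCG_Fi23.Col.b, TCG_Fi23.Col.f, TCG_Fi23.Col.d, TCG_Fi23.Col.e, TCG_Fi23.Col.h, TCG_Fi23.Col.d, TCG_Fi23.Col.b, TCG_Fi23.Col.c, TCG_Fi23.Col.i, TCG_Fi23.Col.b, TCG_Fi23.Col.h, TCG_Fi23.Col.d, TCG_Fi23.Col.c, TCG_Fi23.Col.e, TCG_Fi23.Col.d, TCG_Fi23.Col.a, TCG_Fi23.Col.h, TCG_Fi23.Col.d, TCG_Fi23.Col.c, TCG_Fi23.Col.e, TCG_Fi23.Col.d, TCG_Fi23.Col.f, TCG_Fi23.Col.e, TCG_Fi23.Col.d, TCG_Fi23.Col.b, TCG_Fi23.Col.c, TCG_Fi23.Col.b, TCG_Fi23.Col.f, TCG_Fi23.Col.e, TCG_Fi23.Col.d, TCG_Fi23.Col.b, TCG_Fi23.Col.a, TCG_Fi23.Col.c, TCG_Fi23.Col.e, TCG_Fi23.Col.d, TCG_Fi23.Col.e, TCG_Fi23.Col.h, TCG_Fi23.Col.d,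 TCG_Fi23.Col.e, TCG_Fi23.Col.f, TCG_Fi23.Col.g, TCG_Fi23.Col.j, TCG_Fi23.Col.a, TCG_Fi23.Col.b, TCG_Fi23.Col.d, TCG_Fi23.Col.c, TCG_Fi23.Col.i, TCG_Fi23.Col.h, TCG_Fi23.Col.d, TCG_Fi23.Col.a, TCG_Fi23.Col.c, TCG_Fi23.Col.h, TCG_Fi23.Col.d, TCG_Fi23.Col.e, TCG_Fi23.Col.f, TCG_Fi23.Col.g, TCG_Fi23.Col.j, TCG_Fi23.Col.c, TCG_Fi23.Col.e, TCG_Fi23.Col.f, TCG_Fi23.Col.i, TCG_Fi23.Col.a, TCG_Fi23.Col.e, TCG_Fi23.Col.d, TCG_Fi23.Col.h, TCG_Fi23.Col.e, TCG_Fi23.Col.g, TCG_Fi23.Col.a, TCG_Fi23.Col.d, TCG_Fi23.Col.a, TCG_Fi23.Col.c, TCG_Fi23.Col.a, TCG_Fi23.Col.i, TCG_Fi23.Col.b, TCG_Fi23.Col.g, TCG_Fi23.Col.h, TCG_Fi23.Col.d, TCG_Fi23.Col.c, TCG_Fi23.Col.e, TCG_Fi23.Col.f, TCG_Fi23.Col.e,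 TCG_Fi23.Col.f, TCG_Fi23.Col.c, TCG_Fi23.Col.d, TCG_Fi23.Col.h, TCG_Fi23.Col.b, TCG_Fi23.Col.c, TCG_Fi23.Col.f, TCG_Fi23.Col.d, TCG_Fi23.Col.b, TCG_Fi23.Col.e, TCG_Fi23.Col.g, TCG_Fi23.Col.i, TCG_Fi23.Col.h, TCG_Fi23.Col.d, TCG_Fi23.Col.f, TCG_Fi23.Col.b, TCG_Fi23.Col.g, TCG_Fi23.Col.e, TCG_Fi23.Col.f, TCG_Fi23.Col.h, TCG_Fi23.Col.f, TCG_Fi23.Col.c, TCG_Fi23.Col.i, TCG_Fi23.Col.e, TCG_Fi23.Col.f, TCG_Fi23.Col.g, TCG_Fi23.Col.c, TCG_Fi23.Col.i, TCG_Fi23.Col.a, TCG_Fi23.Col.c, TCG_Fi23.Col.e, TCG_Fi23.Col.d, TCG_Fi23.Col.f, TCG_Fi23.Col.g, TCG_Fi23.Col.c, TCG_Fi23.Col.b, TCG_Fi23.Col.d, TCG_Fi23.Col.e, TCG_Fi23.Col.f, TCG_Fi23.Col.g, TCG_Fi23.Col.j, TCG_Fi23.Col.c, TCG_Fi23.Col.h,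 TCG_Fi23.Col.d, TCG_Fi23.Col.e, TCG_Fi23.Col.f, TCG_Fi23.Col.g, TCG_Fi23.Col.j, TCG_Fi23.Col.g, TCG_Fi23.Col.j, TCG_Fi23.Col.c, TCG_Fi23.Col.h, TCG_Fi23.Col.d, TCG_Fi23.Col.e, TCG_Fi23.Col.f, TCG_Fi23.Col.g, TCG_Fi23.Col.e, TCG_Fi23.Col.f, TCG_Fi23.Col.g, TCG_Fi23.Col.a, TCG_Fi23.Col.b, TCG_Fi23.Col.a, TCG_Fi23.Col.c, TCG_Fi23.Col.i, TCG_Fi23.Col.h, TCG_Fi23.Col.d, TCG_Fi23.Col.a, TCG_Fi23.Col.b, TCG_Fi23.Col.c, TCG_Fi23.Col.d, TCG_Fi23.Col.e, TCG_Fi23.Col.f, TCG_Fi23.Col.g, TCG_Fi23.Col.d, TCG_Fi23.Col.c, TCG_Fi23.Col.b, TCG_Fi23.Col.e, TCG_Fi23.Col.h, TCG_Fi23.Col.d, TCG_Fi23.Col.a, TCG_Fi23.Col.c, TCG_Fi23.Col.d, TCG_Fi23.Col.e, TCG_Fi23.Col.f, TCG_Fi23.Col.g, TCG_Fi23.Col.f,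 TCG_Fi23.Col.e, TCG_Fi23.Col.c, TCG_Fi23.Col.b, TCG_Fi23.Col.f, TCG_Fi23.Col.h, TCG_Fi23.Col.i, TCG_Fi23.Col.b, TCG_Fi23.Col.c, TCG_Fi23.Col.e, TCG_Fi23.Col.h, TCG_Fi23.Col.i, TCG_Fi23.Col.h, TCG_Fi23.Col.c, TCG_Fi23.Col.f, TCG_Fi23.Col.e, TCG_Fi23.Col.h, TCG_Fi23.Col.i, TCG_Fi23.Col.d, TCG_Fi23.Col.e, TCG_Fi23.Col.h, TCG_Fi23.Col.d, TCG_Fi23.Col.c, TCG_Fi23.Col.i, TCG_Fi23.Col.b, TCG_Fi23.Col.h, TCG_Fi23.Col.d, TCG_Fi23.Col.c, TCG_Fi23.Col.e, TCG_Fi23.Col.d, TCG_Fi23.Col.c, TCG_Fi23.Col.f, TCG_Fi23.Col.h, TCG_Fi23.Col.b, TCG_Fi23.Col.c, TCG_Fi23.Col.e, TCG_Fi23.Col.h, TCG_Fi23.Col.i, TCG_Fi23.Col.e, TCG_Fi23.Col.a, TCG_Fi23.Col.d, TCG_Fi23.Col.c, TCG_Fi23.Col.d, TCG_Fi23.Col.c,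 TCG_Fi23.Col.g, TCG_Fi23.Col.e, TCG_Fi23.Col.c, TCG_Fi23.Col.f, TCG_Fi23.Col.h, TCG_Fi23.Col.d, TCG_Fi23.Col.f, TCG_Fi23.Col.g, TCG_Fi23.Col.b, TCG_Fi23.Col.c, TCG_Fi23.Col.b, TCG_Fi23.Col.f, TCG_Fi23.Col.i, TCG_Fi23.Col.d, TCG_Fi23.Col.e, TCG_Fi23.Col.h, TCG_Fi23.Col.d, TCG_Fi23.Col.c, TCG_Fi23.Col.i, TCG_Fi23.Col.b, TCG_Fi23.Col.h, TCG_Fi23.Col.d, TCG_Fi23.Col.c, TCG_Fi23.Col.e, TCG_Fi23.Col.d, TCG_Fi23.Col.c, TCG_Fi23.Col.f, TCG_Fi23.Col.d, TCG_Fi23.Col.g, TCG_Fi23.Col.e, TCG_Fi23.Col.c, TCG_Fi23.Col.i, TCG_Fi23.Col.b, TCG_Fi23.Col.d, TCG_Fi23.Col.g, TCG_Fi23.Col.c, TCG_Fi23.Col.h, TCG_Fi23.Col.d, TCG_Fi23.Col.e, TCG_Fi23.Col.i, TCG_Fi23.Col.h, TCG_Fi23.Col.d, TCG_Fi23.Col.f,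 TCG_Fi23.Col.e, TCG_Fi23.Col.h, TCG_Fi23.Col.i, TCG_Fi23.Col.c, TCG_Fi23.Col.e, TCG_Fi23.Col.h, TCG_Fi23.Col.i, TCG_Fi23.Col.h, TCG_Fi23.Col.d, TCG_Fi23.Col.e, TCG_Fi23.Col.g, TCG_Fi23.Col.i, TCG_Fi23.Col.a, TCG_Fi23.Col.b, TCG_Fi23.Col.j, TCG_Fi23.Col.a, TCG_Fi23.Col.f, TCG_Fi23.Col.c],
  [TCG_Fi23.Col.b, TCG_Fi23.Col.f, TCG_Fi23.Col.i, TCG_Fi23.Col.b, TCG_Fi23.Col.c, TCG_Fi23.Col.b, TCG_Fi23.Col.e, TCG_Fi23.Col.h, TCG_Fi23.Col.i, TCG_Fi23.Col.b, TCG_Fi23.Col.f, TCG_Fi23.Col.h, TCG_Fi23.Col.a, TCG_Fi23.Col.h, TCG_Fi23.Col.d, TCG_Fi23.Col.c, TCG_Fi23.Col.e, TCG_Fi23.Col.d, TCG_Fi23.Col.c, TCG_Fi23.Col.b, TCG_Fi23.Col.e, TCG_Fi23.Col.h, TCG_Fi23.Col.i, TCG_Fi23.Col.h, TCG_Fi23.Col.a,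 TCG_Fi23.Col.b, TCG_Fi23.Col.c, TCG_Fi23.Col.d, TCG_Fi23.Col.e, TCG_Fi23.Col.h, TCG_Fi23.Col.d, TCG_Fi23.Col.a, TCG_Fi23.Col.c, TCG_Fi23.Col.h, TCG_Fi23.Col.i, TCG_Fi23.Col.h, TCG_Fi23.Col.b, TCG_Fi23.Col.f, TCG_Fi23.Col.d, TCG_Fi23.Col.e, TCG_Fi23.Col.h, TCG_Fi23.Col.d, TCG_Fi23.Col.b, TCG_Fi23.Col.c, TCG_Fi23.Col.i, TCG_Fi23.Col.b, TCG_Fi23.Col.h, TCG_Fi23.Col.d, TCG_Fi23.Col.c, TCG_Fi23.Col.e, TCG_Fi23.Col.d, TCG_Fi23.Col.b, TCG_Fi23.Col.f, TCG_Fi23.Col.i, TCG_Fi23.Col.f, TCG_Fi23.Col.i, TCG_Fi23.Col.h, TCG_Fi23.Col.d, TCG_Fi23.Col.e, TCG_Fi23.Col.h, TCG_Fi23.Col.d, TCG_Fi23.Col.c, TCG_Fi23.Col.i, TCG_Fi23.Col.b, TCG_Fi23.Col.h, TCG_Fi23.Col.d, TCG_Fi23.Col.c, TCG_Fi23.Col.e,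 TCG_Fi23.Col.d, TCG_Fi23.Col.b, TCG_Fi23.Col.h, TCG_Fi23.Col.c, TCG_Fi23.Col.b, TCG_Fi23.Col.e, TCG_Fi23.Col.f, TCG_Fi23.Col.e, TCG_Fi23.Col.h, TCG_Fi23.Col.a, TCG_Fi23.Col.e, TCG_Fi23.Col.d, TCG_Fi23.Col.h, TCG_Fi23.Col.e, TCG_Fi23.Col.g, TCG_Fi23.Col.a, TCG_Fi23.Col.d, TCG_Fi23.Col.a, TCG_Fi23.Col.c, TCG_Fi23.Col.a, TCG_Fi23.Col.i, TCG_Fi23.Col.b, TCG_Fi23.Col.g, TCG_Fi23.Col.h, TCG_Fi23.Col.d, TCG_Fi23.Col.c, TCG_Fi23.Col.e, TCG_Fi23.Col.f, TCG_Fi23.Col.e, TCG_Fi23.Col.f, TCG_Fi23.Col.c, TCG_Fi23.Col.d, TCG_Fi23.Col.h, TCG_Fi23.Col.b, TCG_Fi23.Col.c, TCG_Fi23.Col.f, TCG_Fi23.Col.d, TCG_Fi23.Col.b, TCG_Fi23.Col.e, TCG_Fi23.Col.g, TCG_Fi23.Col.i, TCG_Fi23.Col.h, TCG_Fi23.Col.d,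 TCG_Fi23.Col.f, TCG_Fi23.Col.b, TCG_Fi23.Col.g, TCG_Fi23.Col.e, TCG_Fi23.Col.f, TCG_Fi23.Col.h, TCG_Fi23.Col.f, TCG_Fi23.Col.c, TCG_Fi23.Col.i, TCG_Fi23.Col.e, TCG_Fi23.Col.f, TCG_Fi23.Col.g, TCG_Fi23.Col.c, TCG_Fi23.Col.d, TCG_Fi23.Col.e, TCG_Fi23.Col.h, TCG_Fi23.Col.d, TCG_Fi23.Col.c, TCG_Fi23.Col.i, TCG_Fi23.Col.b, TCG_Fi23.Col.h, TCG_Fi23.Col.d, TCG_Fi23.Col.c, TCG_Fi23.Col.e, TCG_Fi23.Col.d, TCG_Fi23.Col.c, TCG_Fi23.Col.f, TCG_Fi23.Col.e, TCG_Fi23.Col.h, TCG_Fi23.Col.i, TCG_Fi23.Col.h, TCG_Fi23.Col.d, TCG_Fi23.Col.e, TCG_Fi23.Col.f, TCG_Fi23.Col.g, TCG_Fi23.Col.d, TCG_Fi23.Col.e, TCG_Fi23.Col.f, TCG_Fi23.Col.g, TCG_Fi23.Col.j, TCG_Fi23.Col.e, TCG_Fi23.Col.f, TCG_Fi23.Col.h,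 TCG_Fi23.Col.d, TCG_Fi23.Col.c, TCG_Fi23.Col.b, TCG_Fi23.Col.e, TCG_Fi23.Col.h, TCG_Fi23.Col.d, TCG_Fi23.Col.a, TCG_Fi23.Col.c, TCG_Fi23.Col.d, TCG_Fi23.Col.e, TCG_Fi23.Col.f, TCG_Fi23.Col.g, TCG_Fi23.Col.j, TCG_Fi23.Col.a, TCG_Fi23.Col.b, TCG_Fi23.Col.a, TCG_Fi23.Col.c, TCG_Fi23.Col.e, TCG_Fi23.Col.d, TCG_Fi23.Col.e, TCG_Fi23.Col.h, TCG_Fi23.Col.d, TCG_Fi23.Col.e, TCG_Fi23.Col.f, TCG_Fi23.Col.g, TCG_Fi23.Col.j, TCG_Fi23.Col.a, TCG_Fi23.Col.b, TCG_Fi23.Col.d, TCG_Fi23.Col.c, TCG_Fi23.Col.i, TCG_Fi23.Col.h, TCG_Fi23.Col.d, TCG_Fi23.Col.a, TCG_Fi23.Col.c, TCG_Fi23.Col.h, TCG_Fi23.Col.d, TCG_Fi23.Col.e, TCG_Fi23.Col.f, TCG_Fi23.Col.g, TCG_Fi23.Col.j, TCG_Fi23.Col.g, TCG_Fi23.Col.j,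 TCG_Fi23.Col.a, TCG_Fi23.Col.d, TCG_Fi23.Col.c, TCG_Fi23.Col.f, TCG_Fi23.Col.e, TCG_Fi23.Col.h, TCG_Fi23.Col.d, TCG_Fi23.Col.e, TCG_Fi23.Col.h, TCG_Fi23.Col.i, TCG_Fi23.Col.h, TCG_Fi23.Col.b, TCG_Fi23.Col.c, TCG_Fi23.Col.b, TCG_Fi23.Col.e, TCG_Fi23.Col.h, TCG_Fi23.Col.i, TCG_Fi23.Col.b, TCG_Fi23.Col.f, TCG_Fi23.Col.h, TCG_Fi23.Col.a, TCG_Fi23.Col.h, TCG_Fi23.Col.d, TCG_Fi23.Col.c, TCG_Fi23.Col.e, TCG_Fi23.Col.d, TCG_Fi23.Col.c, TCG_Fi23.Col.b, TCG_Fi23.Col.e, TCG_Fi23.Col.h, TCG_Fi23.Col.i, TCG_Fi23.Col.h, TCG_Fi23.Col.a, TCG_Fi23.Col.b, TCG_Fi23.Col.c, TCG_Fi23.Col.d, TCG_Fi23.Col.e, TCG_Fi23.Col.h, TCG_Fi23.Col.d, TCG_Fi23.Col.a, TCG_Fi23.Col.c, TCG_Fi23.Col.h, TCG_Fi23.Col.i,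 TCG_Fi23.Col.h, TCG_Fi23.Col.b, TCG_Fi23.Col.f, TCG_Fi23.Col.d, TCG_Fi23.Col.e, TCG_Fi23.Col.h, TCG_Fi23.Col.d, TCG_Fi23.Col.b, TCG_Fi23.Col.c, TCG_Fi23.Col.i, TCG_Fi23.Col.b, TCG_Fi23.Col.h, TCG_Fi23.Col.d, TCG_Fi23.Col.c, TCG_Fi23.Col.e, TCG_Fi23.Col.d, TCG_Fi23.Col.c, TCG_Fi23.Col.b, TCG_Fi23.Col.e, TCG_Fi23.Col.h, TCG_Fi23.Col.i, TCG_Fi23.Col.h, TCG_Fi23.Col.a, TCG_Fi23.Col.d, TCG_Fi23.Col.c, TCG_Fi23.Col.e, TCG_Fi23.Col.h, TCG_Fi23.Col.d, TCG_Fi23.Col.c, TCG_Fi23.Col.e, TCG_Fi23.Col.f, TCG_Fi23.Col.h, TCG_Fi23.Col.i, TCG_Fi23.Col.a, TCG_Fi23.Col.b, TCG_Fi23.Col.a, TCG_Fi23.Col.d, TCG_Fi23.Col.c, TCG_Fi23.Col.e, TCG_Fi23.Col.d, TCG_Fi23.Col.b, TCG_Fi23.Col.c, TCG_Fi23.Col.h,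 TCG_Fi23.Col.i, TCG_Fi23.Col.d, TCG_Fi23.Col.e, TCG_Fi23.Col.h, TCG_Fi23.Col.d, TCG_Fi23.Col.c, TCG_Fi23.Col.i, TCG_Fi23.Col.b, TCG_Fi23.Col.h, TCG_Fi23.Col.d, TCG_Fi23.Col.c, TCG_Fi23.Col.e, TCG_Fi23.Col.d, TCG_Fi23.Col.h, TCG_Fi23.Col.d, TCG_Fi23.Col.i, TCG_Fi23.Col.e, TCG_Fi23.Col.f, TCG_Fi23.Col.j, TCG_Fi23.Col.b, TCG_Fi23.Col.g, TCG_Fi23.Col.j],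
  [TCG_Fi23.Col.a, TCG_Fi23.Col.b, TCG_Fi23.Col.d, TCG_Fi23.Col.c, TCG_Fi23.Col.h, TCG_Fi23.Col.d, TCG_Fi23.Col.e, TCG_Fi23.Col.h, TCG_Fi23.Col.d, TCG_Fi23.Col.e, TCG_Fi23.Col.f, TCG_Fi23.Col.g, TCG_Fi23.Col.j, TCG_Fi23.Col.c, TCG_Fi23.Col.e, TCG_Fi23.Col.f, TCG_Fi23.Col.h, TCG_Fi23.Col.i, TCG_Fi23.Col.a, TCG_Fi23.Col.d, TCG_Fi23.Col.c, TCG_Fi23.Col.f, TCG_Fi23.Col.e, TCG_Fi23.Col.h, TCG_Fi23.Col.d, TCG_Fi23.Col.e, TCG_Fi23.Col.h, TCG_Fi23.Col.i, TCG_Fi23.Col.h, TCG_Fi23.Col.b, TCG_Fi23.Col.c, TCG_Fi23.Col.b, TCG_Fi23.Col.e, TCG_Fi23.Col.h, TCG_Fi23.Col.i, TCG_Fi23.Col.b, TCG_Fi23.Col.f, TCG_Fi23.Col.h, TCG_Fi23.Col.a, TCG_Fi23.Col.h, TCG_Fi23.Col.d, TCG_Fi23.Col.c, TCG_Fi23.Col.e,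 TCG_Fi23.Col.d, TCG_Fi23.Col.c, TCG_Fi23.Col.b, TCG_Fi23.Col.e, TCG_Fi23.Col.h, TCG_Fi23.Col.i, TCG_Fi23.Col.h, TCG_Fi23.Col.a, TCG_Fi23.Col.b, TCG_Fi23.Col.c, TCG_Fi23.Col.d, TCG_Fi23.Col.e, TCG_Fi23.Col.h, TCG_Fi23.Col.d, TCG_Fi23.Col.a, TCG_Fi23.Col.c, TCG_Fi23.Col.h, TCG_Fi23.Col.i, TCG_Fi23.Col.h, TCG_Fi23.Col.b, TCG_Fi23.Col.f, TCG_Fi23.Col.d, TCG_Fi23.Col.e, TCG_Fi23.Col.h, TCG_Fi23.Col.d, TCG_Fi23.Col.b, TCG_Fi23.Col.c, TCG_Fi23.Col.i, TCG_Fi23.Col.b, TCG_Fi23.Col.h, TCG_Fi23.Col.d, TCG_Fi23.Col.c, TCG_Fi23.Col.e, TCG_Fi23.Col.d, TCG_Fi23.Col.c, TCG_Fi23.Col.b, TCG_Fi23.Col.e, TCG_Fi23.Col.h, TCG_Fi23.Col.i, TCG_Fi23.Col.h, TCG_Fi23.Col.a, TCG_Fi23.Col.d, TCG_Fi23.Col.c,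 TCG_Fi23.Col.e, TCG_Fi23.Col.h, TCG_Fi23.Col.d, TCG_Fi23.Col.c, TCG_Fi23.Col.e, TCG_Fi23.Col.f, TCG_Fi23.Col.h, TCG_Fi23.Col.i, TCG_Fi23.Col.h, TCG_Fi23.Col.c, TCG_Fi23.Col.f, TCG_Fi23.Col.i, TCG_Fi23.Col.h, TCG_Fi23.Col.b, TCG_Fi23.Col.c, TCG_Fi23.Col.f, TCG_Fi23.Col.e, TCG_Fi23.Col.i, TCG_Fi23.Col.h, TCG_Fi23.Col.c, TCG_Fi23.Col.b, TCG_Fi23.Col.h, TCG_Fi23.Col.i, TCG_Fi23.Col.d, TCG_Fi23.Col.e, TCG_Fi23.Col.f, TCG_Fi23.Col.g, TCG_Fi23.Col.j, TCG_Fi23.Col.c, TCG_Fi23.Col.h, TCG_Fi23.Col.d, TCG_Fi23.Col.e, TCG_Fi23.Col.f, TCG_Fi23.Col.g, TCG_Fi23.Col.j, TCG_Fi23.Col.g, TCG_Fi23.Col.j, TCG_Fi23.Col.b, TCG_Fi23.Col.c, TCG_Fi23.Col.e, TCG_Fi23.Col.i, TCG_Fi23.Col.h, TCG_Fi23.Col.a,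 TCG_Fi23.Col.b, TCG_Fi23.Col.c, TCG_Fi23.Col.d, TCG_Fi23.Col.e, TCG_Fi23.Col.f, TCG_Fi23.Col.g, TCG_Fi23.Col.b, TCG_Fi23.Col.c, TCG_Fi23.Col.e, TCG_Fi23.Col.i, TCG_Fi23.Col.h, TCG_Fi23.Col.a, TCG_Fi23.Col.b, TCG_Fi23.Col.c, TCG_Fi23.Col.d, TCG_Fi23.Col.e, TCG_Fi23.Col.f, TCG_Fi23.Col.g, TCG_Fi23.Col.a, TCG_Fi23.Col.d, TCG_Fi23.Col.c, TCG_Fi23.Col.e, TCG_Fi23.Col.i, TCG_Fi23.Col.h, TCG_Fi23.Col.d, TCG_Fi23.Col.b, TCG_Fi23.Col.c, TCG_Fi23.Col.b, TCG_Fi23.Col.e, TCG_Fi23.Col.h, TCG_Fi23.Col.i, TCG_Fi23.Col.b, TCG_Fi23.Col.f, TCG_Fi23.Col.h, TCG_Fi23.Col.a, TCG_Fi23.Col.h, TCG_Fi23.Col.d, TCG_Fi23.Col.c, TCG_Fi23.Col.e, TCG_Fi23.Col.d, TCG_Fi23.Col.c, TCG_Fi23.Col.b, TCG_Fi23.Col.e,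 TCG_Fi23.Col.h, TCG_Fi23.Col.i, TCG_Fi23.Col.h, TCG_Fi23.Col.a, TCG_Fi23.Col.b, TCG_Fi23.Col.c, TCG_Fi23.Col.d, TCG_Fi23.Col.e, TCG_Fi23.Col.h, TCG_Fi23.Col.d, TCG_Fi23.Col.a, TCG_Fi23.Col.c, TCG_Fi23.Col.h, TCG_Fi23.Col.i, TCG_Fi23.Col.h, TCG_Fi23.Col.b, TCG_Fi23.Col.f, TCG_Fi23.Col.d, TCG_Fi23.Col.e, TCG_Fi23.Col.h, TCG_Fi23.Col.d, TCG_Fi23.Col.b, TCG_Fi23.Col.c, TCG_Fi23.Col.i, TCG_Fi23.Col.b, TCG_Fi23.Col.h, TCG_Fi23.Col.d, TCG_Fi23.Col.c, TCG_Fi23.Col.e, TCG_Fi23.Col.d, TCG_Fi23.Col.a, TCG_Fi23.Col.d, TCG_Fi23.Col.c, TCG_Fi23.Col.e, TCG_Fi23.Col.h, TCG_Fi23.Col.d, TCG_Fi23.Col.c, TCG_Fi23.Col.f, TCG_Fi23.Col.e, TCG_Fi23.Col.i, TCG_Fi23.Col.h, TCG_Fi23.Col.a, TCG_Fi23.Col.b,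 TCG_Fi23.Col.c, TCG_Fi23.Col.d, TCG_Fi23.Col.e, TCG_Fi23.Col.f, TCG_Fi23.Col.g, TCG_Fi23.Col.d, TCG_Fi23.Col.c, TCG_Fi23.Col.b, TCG_Fi23.Col.e, TCG_Fi23.Col.h, TCG_Fi23.Col.d, TCG_Fi23.Col.a, TCG_Fi23.Col.c, TCG_Fi23.Col.d, TCG_Fi23.Col.e, TCG_Fi23.Col.f, TCG_Fi23.Col.g, TCG_Fi23.Col.j, TCG_Fi23.Col.a, TCG_Fi23.Col.b, TCG_Fi23.Col.a, TCG_Fi23.Col.c, TCG_Fi23.Col.i, TCG_Fi23.Col.h, TCG_Fi23.Col.d, TCG_Fi23.Col.j, TCG_Fi23.Col.f, TCG_Fi23.Col.g, TCG_Fi23.Col.d, TCG_Fi23.Col.c, TCG_Fi23.Col.b, TCG_Fi23.Col.e, TCG_Fi23.Col.h, TCG_Fi23.Col.d, TCG_Fi23.Col.a, TCG_Fi23.Col.c, TCG_Fi23.Col.d, TCG_Fi23.Col.e, TCG_Fi23.Col.f, TCG_Fi23.Col.g, TCG_Fi23.Col.j, TCG_Fi23.Col.c, TCG_Fi23.Col.h,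 TCG_Fi23.Col.d, TCG_Fi23.Col.e, TCG_Fi23.Col.f, TCG_Fi23.Col.g, TCG_Fi23.Col.j, TCG_Fi23.Col.g, TCG_Fi23.Col.j, TCG_Fi23.Col.f, TCG_Fi23.Col.g, TCG_Fi23.Col.b, TCG_Fi23.Col.j, TCG_Fi23.Col.c, TCG_Fi23.Col.d, TCG_Fi23.Col.e, TCG_Fi23.Col.g, TCG_Fi23.Col.d, TCG_Fi23.Col.h, TCG_Fi23.Col.c, TCG_Fi23.Col.b, TCG_Fi23.Col.d, TCG_Fi23.Col.g, TCG_Fi23.Col.c, TCG_Fi23.Col.j, TCG_Fi23.Col.h, TCG_Fi23.Col.d, TCG_Fi23.Col.c, TCG_Fi23.Col.e, TCG_Fi23.Col.i, TCG_Fi23.Col.h, TCG_Fi23.Col.d, TCG_Fi23.Col.c, TCG_Fi23.Col.b, TCG_Fi23.Col.e, TCG_Fi23.Col.i, TCG_Fi23.Col.h, TCG_Fi23.Col.e, TCG_Fi23.Col.j, TCG_Fi23.Col.g, TCG_Fi23.Col.f, TCG_Fi23.Col.h, TCG_Fi23.Col.i, TCG_Fi23.Col.c, TCG_Fi23.Col.i,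 TCG_Fi23.Col.e, TCG_Fi23.Col.b, TCG_Fi23.Col.d, TCG_Fi23.Col.h, TCG_Fi23.Col.d, TCG_Fi23.Col.c, TCG_Fi23.Col.b],
  [TCG_Fi23.Col.b, TCG_Fi23.Col.e, TCG_Fi23.Col.f, TCG_Fi23.Col.h, TCG_Fi23.Col.b, TCG_Fi23.Col.c, TCG_Fi23.Col.h, TCG_Fi23.Col.i, TCG_Fi23.Col.d, TCG_Fi23.Col.e, TCG_Fi23.Col.h, TCG_Fi23.Col.d, TCG_Fi23.Col.c, TCG_Fi23.Col.i, TCG_Fi23.Col.b, TCG_Fi23.Col.h, TCG_Fi23.Col.d, TCG_Fi23.Col.c, TCG_Fi23.Col.e, TCG_Fi23.Col.d, TCG_Fi23.Col.e, TCG_Fi23.Col.h, TCG_Fi23.Col.b, TCG_Fi23.Col.f, TCG_Fi23.Col.e, TCG_Fi23.Col.h, TCG_Fi23.Col.b, TCG_Fi23.Col.f, TCG_Fi23.Col.d, TCG_Fi23.Col.e, TCG_Fi23.Col.h, TCG_Fi23.Col.d, TCG_Fi23.Col.b, TCG_Fi23.Col.c, TCG_Fi23.Col.i, TCG_Fi23.Col.b,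 TCG_Fi23.Col.h, TCG_Fi23.Col.d, TCG_Fi23.Col.c, TCG_Fi23.Col.e, TCG_Fi23.Col.d, TCG_Fi23.Col.c, TCG_Fi23.Col.f, TCG_Fi23.Col.d, TCG_Fi23.Col.e, TCG_Fi23.Col.h, TCG_Fi23.Col.d, TCG_Fi23.Col.b, TCG_Fi23.Col.c, TCG_Fi23.Col.i, TCG_Fi23.Col.b, TCG_Fi23.Col.h, TCG_Fi23.Col.d, TCG_Fi23.Col.c, TCG_Fi23.Col.e, TCG_Fi23.Col.d, TCG_Fi23.Col.c, TCG_Fi23.Col.h, TCG_Fi23.Col.i, TCG_Fi23.Col.h, TCG_Fi23.Col.e, TCG_Fi23.Col.h, TCG_Fi23.Col.i, TCG_Fi23.Col.h, TCG_Fi23.Col.b, TCG_Fi23.Col.c, TCG_Fi23.Col.b, TCG_Fi23.Col.e, TCG_Fi23.Col.h, TCG_Fi23.Col.i, TCG_Fi23.Col.b, TCG_Fi23.Col.f, TCG_Fi23.Col.h, TCG_Fi23.Col.a, TCG_Fi23.Col.h, TCG_Fi23.Col.d, TCG_Fi23.Col.c, TCG_Fi23.Col.e, TCG_Fi23.Col.d,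 TCG_Fi23.Col.c, TCG_Fi23.Col.b, TCG_Fi23.Col.e, TCG_Fi23.Col.h, TCG_Fi23.Col.i, TCG_Fi23.Col.h, TCG_Fi23.Col.a, TCG_Fi23.Col.b, TCG_Fi23.Col.c, TCG_Fi23.Col.d, TCG_Fi23.Col.e, TCG_Fi23.Col.h, TCG_Fi23.Col.d, TCG_Fi23.Col.a, TCG_Fi23.Col.c, TCG_Fi23.Col.h, TCG_Fi23.Col.i, TCG_Fi23.Col.h, TCG_Fi23.Col.b, TCG_Fi23.Col.f, TCG_Fi23.Col.d, TCG_Fi23.Col.e, TCG_Fi23.Col.h, TCG_Fi23.Col.d, TCG_Fi23.Col.b, TCG_Fi23.Col.c, TCG_Fi23.Col.i, TCG_Fi23.Col.b, TCG_Fi23.Col.h, TCG_Fi23.Col.d, TCG_Fi23.Col.c, TCG_Fi23.Col.e, TCG_Fi23.Col.d, TCG_Fi23.Col.c, TCG_Fi23.Col.b, TCG_Fi23.Col.e, TCG_Fi23.Col.h, TCG_Fi23.Col.i, TCG_Fi23.Col.h, TCG_Fi23.Col.f, TCG_Fi23.Col.e, TCG_Fi23.Col.c, TCG_Fi23.Col.b,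 TCG_Fi23.Col.f, TCG_Fi23.Col.h, TCG_Fi23.Col.i, TCG_Fi23.Col.d, TCG_Fi23.Col.e, TCG_Fi23.Col.h, TCG_Fi23.Col.d, TCG_Fi23.Col.c, TCG_Fi23.Col.i, TCG_Fi23.Col.b, TCG_Fi23.Col.h, TCG_Fi23.Col.d, TCG_Fi23.Col.c, TCG_Fi23.Col.e, TCG_Fi23.Col.d, TCG_Fi23.Col.b, TCG_Fi23.Col.c, TCG_Fi23.Col.e, TCG_Fi23.Col.i, TCG_Fi23.Col.h, TCG_Fi23.Col.a, TCG_Fi23.Col.b, TCG_Fi23.Col.c, TCG_Fi23.Col.d, TCG_Fi23.Col.e, TCG_Fi23.Col.f, TCG_Fi23.Col.g, TCG_Fi23.Col.c, TCG_Fi23.Col.b, TCG_Fi23.Col.h, TCG_Fi23.Col.i, TCG_Fi23.Col.d, TCG_Fi23.Col.e, TCG_Fi23.Col.f, TCG_Fi23.Col.g, TCG_Fi23.Col.j, TCG_Fi23.Col.c, TCG_Fi23.Col.h, TCG_Fi23.Col.d, TCG_Fi23.Col.e, TCG_Fi23.Col.f, TCG_Fi23.Col.g, TCG_Fi23.Col.j,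 TCG_Fi23.Col.g, TCG_Fi23.Col.j, TCG_Fi23.Col.b, TCG_Fi23.Col.c, TCG_Fi23.Col.e, TCG_Fi23.Col.i, TCG_Fi23.Col.h, TCG_Fi23.Col.a, TCG_Fi23.Col.b, TCG_Fi23.Col.c, TCG_Fi23.Col.d, TCG_Fi23.Col.e, TCG_Fi23.Col.f, TCG_Fi23.Col.g, TCG_Fi23.Col.c, TCG_Fi23.Col.b, TCG_Fi23.Col.a, TCG_Fi23.Col.d, TCG_Fi23.Col.e, TCG_Fi23.Col.h, TCG_Fi23.Col.d, TCG_Fi23.Col.e, TCG_Fi23.Col.f, TCG_Fi23.Col.g, TCG_Fi23.Col.j, TCG_Fi23.Col.a, TCG_Fi23.Col.b, TCG_Fi23.Col.d, TCG_Fi23.Col.c, TCG_Fi23.Col.i, TCG_Fi23.Col.h, TCG_Fi23.Col.d, TCG_Fi23.Col.a, TCG_Fi23.Col.c, TCG_Fi23.Col.h, TCG_Fi23.Col.d, TCG_Fi23.Col.e, TCG_Fi23.Col.f, TCG_Fi23.Col.g, TCG_Fi23.Col.j, TCG_Fi23.Col.g, TCG_Fi23.Col.j, TCG_Fi23.Col.f,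 TCG_Fi23.Col.g, TCG_Fi23.Col.a, TCG_Fi23.Col.b, TCG_Fi23.Col.c, TCG_Fi23.Col.e, TCG_Fi23.Col.h, TCG_Fi23.Col.d, TCG_Fi23.Col.c, TCG_Fi23.Col.b, TCG_Fi23.Col.f, TCG_Fi23.Col.h, TCG_Fi23.Col.i, TCG_Fi23.Col.h, TCG_Fi23.Col.d, TCG_Fi23.Col.c, TCG_Fi23.Col.b, TCG_Fi23.Col.e, TCG_Fi23.Col.h, TCG_Fi23.Col.d, TCG_Fi23.Col.a, TCG_Fi23.Col.c, TCG_Fi23.Col.d, TCG_Fi23.Col.e, TCG_Fi23.Col.f, TCG_Fi23.Col.g, TCG_Fi23.Col.a, TCG_Fi23.Col.b, TCG_Fi23.Col.c, TCG_Fi23.Col.d, TCG_Fi23.Col.e, TCG_Fi23.Col.f, TCG_Fi23.Col.g, TCG_Fi23.Col.d, TCG_Fi23.Col.c, TCG_Fi23.Col.b, TCG_Fi23.Col.e, TCG_Fi23.Col.h, TCG_Fi23.Col.d, TCG_Fi23.Col.a, TCG_Fi23.Col.c, TCG_Fi23.Col.d, TCG_Fi23.Col.e, TCG_Fi23.Col.f,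 TCG_Fi23.Col.g, TCG_Fi23.Col.c, TCG_Fi23.Col.d, TCG_Fi23.Col.e, TCG_Fi23.Col.f, TCG_Fi23.Col.g, TCG_Fi23.Col.e, TCG_Fi23.Col.f, TCG_Fi23.Col.h, TCG_Fi23.Col.d, TCG_Fi23.Col.c, TCG_Fi23.Col.b, TCG_Fi23.Col.e, TCG_Fi23.Col.h, TCG_Fi23.Col.d, TCG_Fi23.Col.a, TCG_Fi23.Col.c, TCG_Fi23.Col.d, TCG_Fi23.Col.e, TCG_Fi23.Col.f, TCG_Fi23.Col.g, TCG_Fi23.Col.j, TCG_Fi23.Col.c, TCG_Fi23.Col.e, TCG_Fi23.Col.d, TCG_Fi23.Col.c, TCG_Fi23.Col.b, TCG_Fi23.Col.a, TCG_Fi23.Col.b, TCG_Fi23.Col.c, TCG_Fi23.Col.e, TCG_Fi23.Col.f, TCG_Fi23.Col.e, TCG_Fi23.Col.i, TCG_Fi23.Col.d, TCG_Fi23.Col.e, TCG_Fi23.Col.f, TCG_Fi23.Col.g, TCG_Fi23.Col.j, TCG_Fi23.Col.c, TCG_Fi23.Col.h, TCG_Fi23.Col.d, TCG_Fi23.Col.e,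 TCG_Fi23.Col.f, TCG_Fi23.Col.g, TCG_Fi23.Col.j, TCG_Fi23.Col.g, TCG_Fi23.Col.j, TCG_Fi23.Col.b, TCG_Fi23.Col.c, TCG_Fi23.Col.e, TCG_Fi23.Col.i, TCG_Fi23.Col.h, TCG_Fi23.Col.a, TCG_Fi23.Col.b, TCG_Fi23.Col.c, TCG_Fi23.Col.d, TCG_Fi23.Col.e, TCG_Fi23.Col.f, TCG_Fi23.Col.g, TCG_Fi23.Col.c, TCG_Fi23.Col.h, TCG_Fi23.Col.d, TCG_Fi23.Col.e, TCG_Fi23.Col.f, TCG_Fi23.Col.g, TCG_Fi23.Col.e, TCG_Fi23.Col.f, TCG_Fi23.Col.b, TCG_Fi23.Col.c, TCG_Fi23.Col.b, TCG_Fi23.Col.f, TCG_Fi23.Col.e, TCG_Fi23.Col.i, TCG_Fi23.Col.f, TCG_Fi23.Col.e, TCG_Fi23.Col.d, TCG_Fi23.Col.c, TCG_Fi23.Col.b, TCG_Fi23.Col.a, TCG_Fi23.Col.h, TCG_Fi23.Col.d, TCG_Fi23.Col.e, TCG_Fi23.Col.f, TCG_Fi23.Col.a, TCG_Fi23.Col.b,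 TCG_Fi23.Col.a, TCG_Fi23.Col.c, TCG_Fi23.Col.i, TCG_Fi23.Col.h, TCG_Fi23.Col.d, TCG_Fi23.Col.a, TCG_Fi23.Col.b, TCG_Fi23.Col.c, TCG_Fi23.Col.d, TCG_Fi23.Col.e, TCG_Fi23.Col.f, TCG_Fi23.Col.g, TCG_Fi23.Col.d, TCG_Fi23.Col.c, TCG_Fi23.Col.b, TCG_Fi23.Col.e, TCG_Fi23.Col.h, TCG_Fi23.Col.d, TCG_Fi23.Col.a, TCG_Fi23.Col.c, TCG_Fi23.Col.d, TCG_Fi23.Col.e, TCG_Fi23.Col.f, TCG_Fi23.Col.g, TCG_Fi23.Col.e, TCG_Fi23.Col.i, TCG_Fi23.Col.f, TCG_Fi23.Col.c, TCG_Fi23.Col.d, TCG_Fi23.Col.h, TCG_Fi23.Col.j, TCG_Fi23.Col.e, TCG_Fi23.Col.b, TCG_Fi23.Col.g, TCG_Fi23.Col.d, TCG_Fi23.Col.c, TCG_Fi23.Col.g, TCG_Fi23.Col.j, TCG_Fi23.Col.i, TCG_Fi23.Col.h, TCG_Fi23.Col.e, TCG_Fi23.Col.c, TCG_Fi23.Col.d,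 TCG_Fi23.Col.h, TCG_Fi23.Col.i, TCG_Fi23.Col.j, TCG_Fi23.Col.c, TCG_Fi23.Col.b, TCG_Fi23.Col.d, TCG_Fi23.Col.a, TCG_Fi23.Col.j, TCG_Fi23.Col.c, TCG_Fi23.Col.e, TCG_Fi23.Col.f, TCG_Fi23.Col.e, TCG_Fi23.Col.i, TCG_Fi23.Col.h, TCG_Fi23.Col.b, TCG_Fi23.Col.e, TCG_Fi23.Col.f, TCG_Fi23.Col.e, TCG_Fi23.Col.i, TCG_Fi23.Col.d, TCG_Fi23.Col.e, TCG_Fi23.Col.h, TCG_Fi23.Col.d, TCG_Fi23.Col.b, TCG_Fi23.Col.c, TCG_Fi23.Col.i, TCG_Fi23.Col.b, TCG_Fi23.Col.h, TCG_Fi23.Col.d, TCG_Fi23.Col.c, TCG_Fi23.Col.e, TCG_Fi23.Col.d, TCG_Fi23.Col.b, TCG_Fi23.Col.c, TCG_Fi23.Col.e, TCG_Fi23.Col.f, TCG_Fi23.Col.e, TCG_Fi23.Col.i, TCG_Fi23.Col.b, TCG_Fi23.Col.c, TCG_Fi23.Col.b, TCG_Fi23.Col.i, TCG_Fi23.Col.d,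 TCG_Fi23.Col.e, TCG_Fi23.Col.h, TCG_Fi23.Col.d, TCG_Fi23.Col.c, TCG_Fi23.Col.i, TCG_Fi23.Col.b, TCG_Fi23.Col.h, TCG_Fi23.Col.d, TCG_Fi23.Col.c, TCG_Fi23.Col.e, TCG_Fi23.Col.d, TCG_Fi23.Col.c, TCG_Fi23.Col.f, TCG_Fi23.Col.e, TCG_Fi23.Col.h, TCG_Fi23.Col.i, TCG_Fi23.Col.h, TCG_Fi23.Col.b, TCG_Fi23.Col.e, TCG_Fi23.Col.f, TCG_Fi23.Col.e, TCG_Fi23.Col.h, TCG_Fi23.Col.b, TCG_Fi23.Col.c, TCG_Fi23.Col.b, TCG_Fi23.Col.f, TCG_Fi23.Col.e, TCG_Fi23.Col.j, TCG_Fi23.Col.d, TCG_Fi23.Col.e, TCG_Fi23.Col.h, TCG_Fi23.Col.i, TCG_Fi23.Col.a, TCG_Fi23.Col.g, TCG_Fi23.Col.c, TCG_Fi23.Col.d, TCG_Fi23.Col.i, TCG_Fi23.Col.f, TCG_Fi23.Col.e, TCG_Fi23.Col.c],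
  [TCG_Fi23.Col.b, TCG_Fi23.Col.c, TCG_Fi23.Col.b, TCG_Fi23.Col.e, TCG_Fi23.Col.f, TCG_Fi23.Col.h, TCG_Fi23.Col.b, TCG_Fi23.Col.c, TCG_Fi23.Col.b, TCG_Fi23.Col.i, TCG_Fi23.Col.d, TCG_Fi23.Col.e, TCG_Fi23.Col.h, TCG_Fi23.Col.d, TCG_Fi23.Col.c, TCG_Fi23.Col.i, TCG_Fi23.Col.b, TCG_Fi23.Col.h, TCG_Fi23.Col.d, TCG_Fi23.Col.c, TCG_Fi23.Col.e, TCG_Fi23.Col.d, TCG_Fi23.Col.c, TCG_Fi23.Col.f, TCG_Fi23.Col.e, TCG_Fi23.Col.h, TCG_Fi23.Col.i, TCG_Fi23.Col.h, TCG_Fi23.Col.a, TCG_Fi23.Col.f, TCG_Fi23.Col.e, TCG_Fi23.Col.i, TCG_Fi23.Col.h, TCG_Fi23.Col.d, TCG_Fi23.Col.a, TCG_Fi23.Col.d, TCG_Fi23.Col.f, TCG_Fi23.Col.i, TCG_Fi23.Col.h, TCG_Fi23.Col.a, TCG_Fi23.Col.d, TCG_Fi23.Col.c, TCG_Fi23.Col.e,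 TCG_Fi23.Col.i, TCG_Fi23.Col.h, TCG_Fi23.Col.d, TCG_Fi23.Col.b, TCG_Fi23.Col.c, TCG_Fi23.Col.b, TCG_Fi23.Col.e, TCG_Fi23.Col.h, TCG_Fi23.Col.i, TCG_Fi23.Col.b, TCG_Fi23.Col.f, TCG_Fi23.Col.h, TCG_Fi23.Col.a, TCG_Fi23.Col.h, TCG_Fi23.Col.d, TCG_Fi23.Col.c, TCG_Fi23.Col.e, TCG_Fi23.Col.d, TCG_Fi23.Col.c, TCG_Fi23.Col.b, TCG_Fi23.Col.e, TCG_Fi23.Col.h, TCG_Fi23.Col.i, TCG_Fi23.Col.h, TCG_Fi23.Col.a, TCG_Fi23.Col.b, TCG_Fi23.Col.c, TCG_Fi23.Col.d, TCG_Fi23.Col.e, TCG_Fi23.Col.h, TCG_Fi23.Col.d, TCG_Fi23.Col.a, TCG_Fi23.Col.c, TCG_Fi23.Col.h, TCG_Fi23.Col.i, TCG_Fi23.Col.h, TCG_Fi23.Col.b, TCG_Fi23.Col.f, TCG_Fi23.Col.d, TCG_Fi23.Col.e, TCG_Fi23.Col.h, TCG_Fi23.Col.d, TCG_Fi23.Col.b,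 TCG_Fi23.Col.c, TCG_Fi23.Col.i, TCG_Fi23.Col.b, TCG_Fi23.Col.h, TCG_Fi23.Col.d, TCG_Fi23.Col.c, TCG_Fi23.Col.e, TCG_Fi23.Col.d, TCG_Fi23.Col.a, TCG_Fi23.Col.d, TCG_Fi23.Col.c, TCG_Fi23.Col.e, TCG_Fi23.Col.h, TCG_Fi23.Col.d, TCG_Fi23.Col.c, TCG_Fi23.Col.f, TCG_Fi23.Col.e, TCG_Fi23.Col.i, TCG_Fi23.Col.h, TCG_Fi23.Col.b, TCG_Fi23.Col.c, TCG_Fi23.Col.b, TCG_Fi23.Col.e, TCG_Fi23.Col.h, TCG_Fi23.Col.i, TCG_Fi23.Col.b, TCG_Fi23.Col.f, TCG_Fi23.Col.h, TCG_Fi23.Col.a, TCG_Fi23.Col.h, TCG_Fi23.Col.d, TCG_Fi23.Col.c, TCG_Fi23.Col.e, TCG_Fi23.Col.d, TCG_Fi23.Col.c, TCG_Fi23.Col.b, TCG_Fi23.Col.e, TCG_Fi23.Col.h, TCG_Fi23.Col.i, TCG_Fi23.Col.h, TCG_Fi23.Col.a, TCG_Fi23.Col.b, TCG_Fi23.Col.c,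 TCG_Fi23.Col.d, TCG_Fi23.Col.e, TCG_Fi23.Col.h, TCG_Fi23.Col.d, TCG_Fi23.Col.a, TCG_Fi23.Col.c, TCG_Fi23.Col.h, TCG_Fi23.Col.i, TCG_Fi23.Col.h, TCG_Fi23.Col.b, TCG_Fi23.Col.f, TCG_Fi23.Col.d, TCG_Fi23.Col.e, TCG_Fi23.Col.h, TCG_Fi23.Col.d, TCG_Fi23.Col.b, TCG_Fi23.Col.c, TCG_Fi23.Col.i, TCG_Fi23.Col.b, TCG_Fi23.Col.h, TCG_Fi23.Col.d, TCG_Fi23.Col.c, TCG_Fi23.Col.e, TCG_Fi23.Col.d, TCG_Fi23.Col.a, TCG_Fi23.Col.h, TCG_Fi23.Col.d, TCG_Fi23.Col.c, TCG_Fi23.Col.e, TCG_Fi23.Col.d, TCG_Fi23.Col.c, TCG_Fi23.Col.b, TCG_Fi23.Col.e, TCG_Fi23.Col.h, TCG_Fi23.Col.i, TCG_Fi23.Col.h, TCG_Fi23.Col.a, TCG_Fi23.Col.b, TCG_Fi23.Col.c, TCG_Fi23.Col.d, TCG_Fi23.Col.e, TCG_Fi23.Col.h, TCG_Fi23.Col.d,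 TCG_Fi23.Col.a, TCG_Fi23.Col.b, TCG_Fi23.Col.c, TCG_Fi23.Col.h, TCG_Fi23.Col.i, TCG_Fi23.Col.d, TCG_Fi23.Col.e, TCG_Fi23.Col.h, TCG_Fi23.Col.d, TCG_Fi23.Col.c, TCG_Fi23.Col.i, TCG_Fi23.Col.b, TCG_Fi23.Col.h, TCG_Fi23.Col.d, TCG_Fi23.Col.c, TCG_Fi23.Col.e, TCG_Fi23.Col.d, TCG_Fi23.Col.b, TCG_Fi23.Col.c, TCG_Fi23.Col.f, TCG_Fi23.Col.e, TCG_Fi23.Col.i, TCG_Fi23.Col.h, TCG_Fi23.Col.a, TCG_Fi23.Col.c, TCG_Fi23.Col.f, TCG_Fi23.Col.e, TCG_Fi23.Col.d, TCG_Fi23.Col.c, TCG_Fi23.Col.h, TCG_Fi23.Col.d, TCG_Fi23.Col.c, TCG_Fi23.Col.b, TCG_Fi23.Col.h, TCG_Fi23.Col.a, TCG_Fi23.Col.b, TCG_Fi23.Col.c, TCG_Fi23.Col.d, TCG_Fi23.Col.e, TCG_Fi23.Col.f, TCG_Fi23.Col.g, TCG_Fi23.Col.b, TCG_Fi23.Col.c,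 TCG_Fi23.Col.e, TCG_Fi23.Col.f, TCG_Fi23.Col.e, TCG_Fi23.Col.i, TCG_Fi23.Col.d, TCG_Fi23.Col.e, TCG_Fi23.Col.f, TCG_Fi23.Col.g, TCG_Fi23.Col.j, TCG_Fi23.Col.c, TCG_Fi23.Col.h, TCG_Fi23.Col.d, TCG_Fi23.Col.e, TCG_Fi23.Col.f, TCG_Fi23.Col.g, TCG_Fi23.Col.j, TCG_Fi23.Col.g, TCG_Fi23.Col.j, TCG_Fi23.Col.c, TCG_Fi23.Col.b, TCG_Fi23.Col.d, TCG_Fi23.Col.e, TCG_Fi23.Col.f, TCG_Fi23.Col.g, TCG_Fi23.Col.j, TCG_Fi23.Col.c, TCG_Fi23.Col.h, TCG_Fi23.Col.d, TCG_Fi23.Col.e, TCG_Fi23.Col.f, TCG_Fi23.Col.g, TCG_Fi23.Col.j, TCG_Fi23.Col.g, TCG_Fi23.Col.j, TCG_Fi23.Col.c, TCG_Fi23.Col.h, TCG_Fi23.Col.d, TCG_Fi23.Col.e, TCG_Fi23.Col.f, TCG_Fi23.Col.g, TCG_Fi23.Col.e, TCG_Fi23.Col.f, TCG_Fi23.Col.g,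 TCG_Fi23.Col.a, TCG_Fi23.Col.b, TCG_Fi23.Col.a, TCG_Fi23.Col.c, TCG_Fi23.Col.i, TCG_Fi23.Col.h, TCG_Fi23.Col.d, TCG_Fi23.Col.a, TCG_Fi23.Col.b, TCG_Fi23.Col.c, TCG_Fi23.Col.d, TCG_Fi23.Col.e, TCG_Fi23.Col.f, TCG_Fi23.Col.g, TCG_Fi23.Col.d, TCG_Fi23.Col.c, TCG_Fi23.Col.b, TCG_Fi23.Col.e, TCG_Fi23.Col.h, TCG_Fi23.Col.d, TCG_Fi23.Col.a, TCG_Fi23.Col.c, TCG_Fi23.Col.d, TCG_Fi23.Col.e, TCG_Fi23.Col.f, TCG_Fi23.Col.g, TCG_Fi23.Col.j, TCG_Fi23.Col.e, TCG_Fi23.Col.h, TCG_Fi23.Col.b, TCG_Fi23.Col.f, TCG_Fi23.Col.d, TCG_Fi23.Col.e, TCG_Fi23.Col.h, TCG_Fi23.Col.d, TCG_Fi23.Col.b, TCG_Fi23.Col.c, TCG_Fi23.Col.i, TCG_Fi23.Col.b, TCG_Fi23.Col.h, TCG_Fi23.Col.d, TCG_Fi23.Col.c, TCG_Fi23.Col.e,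 TCG_Fi23.Col.d, TCG_Fi23.Col.b, TCG_Fi23.Col.f, TCG_Fi23.Col.e, TCG_Fi23.Col.i, TCG_Fi23.Col.h, TCG_Fi23.Col.d, TCG_Fi23.Col.a, TCG_Fi23.Col.b, TCG_Fi23.Col.c, TCG_Fi23.Col.b, TCG_Fi23.Col.f, TCG_Fi23.Col.i, TCG_Fi23.Col.h, TCG_Fi23.Col.d, TCG_Fi23.Col.e, TCG_Fi23.Col.f, TCG_Fi23.Col.g, TCG_Fi23.Col.j, TCG_Fi23.Col.c, TCG_Fi23.Col.h, TCG_Fi23.Col.d, TCG_Fi23.Col.e, TCG_Fi23.Col.f, TCG_Fi23.Col.g, TCG_Fi23.Col.j, TCG_Fi23.Col.g, TCG_Fi23.Col.j, TCG_Fi23.Col.d, TCG_Fi23.Col.e, TCG_Fi23.Col.h, TCG_Fi23.Col.d, TCG_Fi23.Col.c, TCG_Fi23.Col.i, TCG_Fi23.Col.b, TCG_Fi23.Col.h, TCG_Fi23.Col.d, TCG_Fi23.Col.c, TCG_Fi23.Col.e, TCG_Fi23.Col.d, TCG_Fi23.Col.b, TCG_Fi23.Col.c, TCG_Fi23.Col.e,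 TCG_Fi23.Col.i, TCG_Fi23.Col.h, TCG_Fi23.Col.a, TCG_Fi23.Col.b, TCG_Fi23.Col.c, TCG_Fi23.Col.d, TCG_Fi23.Col.e, TCG_Fi23.Col.f, TCG_Fi23.Col.g, TCG_Fi23.Col.c, TCG_Fi23.Col.b, TCG_Fi23.Col.h, TCG_Fi23.Col.i, TCG_Fi23.Col.d, TCG_Fi23.Col.e, TCG_Fi23.Col.f, TCG_Fi23.Col.g, TCG_Fi23.Col.j, TCG_Fi23.Col.c, TCG_Fi23.Col.h, TCG_Fi23.Col.d, TCG_Fi23.Col.e, TCG_Fi23.Col.f, TCG_Fi23.Col.g, TCG_Fi23.Col.j, TCG_Fi23.Col.g, TCG_Fi23.Col.j, TCG_Fi23.Col.b, TCG_Fi23.Col.c, TCG_Fi23.Col.e, TCG_Fi23.Col.i, TCG_Fi23.Col.h, TCG_Fi23.Col.a, TCG_Fi23.Col.b, TCG_Fi23.Col.c, TCG_Fi23.Col.d, TCG_Fi23.Col.e, TCG_Fi23.Col.f, TCG_Fi23.Col.g, TCG_Fi23.Col.e, TCG_Fi23.Col.f, TCG_Fi23.Col.g, TCG_Fi23.Col.e,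 TCG_Fi23.Col.f, TCG_Fi23.Col.e, TCG_Fi23.Col.b, TCG_Fi23.Col.c, TCG_Fi23.Col.i, TCG_Fi23.Col.h, TCG_Fi23.Col.c, TCG_Fi23.Col.g, TCG_Fi23.Col.d, TCG_Fi23.Col.b, TCG_Fi23.Col.e, TCG_Fi23.Col.j, TCG_Fi23.Col.c, TCG_Fi23.Col.d, TCG_Fi23.Col.b, TCG_Fi23.Col.e, TCG_Fi23.Col.h, TCG_Fi23.Col.i, TCG_Fi23.Col.h, TCG_Fi23.Col.j, TCG_Fi23.Col.g, TCG_Fi23.Col.c, TCG_Fi23.Col.d, TCG_Fi23.Col.e, TCG_Fi23.Col.h, TCG_Fi23.Col.d, TCG_Fi23.Col.f, TCG_Fi23.Col.e, TCG_Fi23.Col.d, TCG_Fi23.Col.b, TCG_Fi23.Col.e, TCG_Fi23.Col.c],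
  [TCG_Fi23.Col.c, TCG_Fi23.Col.f, TCG_Fi23.Col.e, TCG_Fi23.Col.h, TCG_Fi23.Col.i, TCG_Fi23.Col.d, TCG_Fi23.Col.e, TCG_Fi23.Col.h, TCG_Fi23.Col.d, TCG_Fi23.Col.c, TCG_Fi23.Col.i, TCG_Fi23.Col.b, TCG_Fi23.Col.h, TCG_Fi23.Col.d, TCG_Fi23.Col.c, TCG_Fi23.Col.e, TCG_Fi23.Col.d, TCG_Fi23.Col.f, TCG_Fi23.Col.d, TCG_Fi23.Col.e, TCG_Fi23.Col.c, TCG_Fi23.Col.b, TCG_Fi23.Col.h, TCG_Fi23.Col.b, TCG_Fi23.Col.d, TCG_Fi23.Col.g, TCG_Fi23.Col.h, TCG_Fi23.Col.b, TCG_Fi23.Col.d, TCG_Fi23.Col.c, TCG_Fi23.Col.d, TCG_Fi23.Col.g, TCG_Fi23.Col.e, TCG_Fi23.Col.i, TCG_Fi23.Col.h, TCG_Fi23.Col.d, TCG_Fi23.Col.h, TCG_Fi23.Col.i, TCG_Fi23.Col.a, TCG_Fi23.Col.e, TCG_Fi23.Col.d, TCG_Fi23.Col.c, TCG_Fi23.Col.h,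 TCG_Fi23.Col.d, TCG_Fi23.Col.c, TCG_Fi23.Col.b, TCG_Fi23.Col.a, TCG_Fi23.Col.d, TCG_Fi23.Col.c, TCG_Fi23.Col.b, TCG_Fi23.Col.a, TCG_Fi23.Col.h, TCG_Fi23.Col.e, TCG_Fi23.Col.h, TCG_Fi23.Col.d, TCG_Fi23.Col.b, TCG_Fi23.Col.c, TCG_Fi23.Col.i, TCG_Fi23.Col.b, TCG_Fi23.Col.h, TCG_Fi23.Col.d, TCG_Fi23.Col.c, TCG_Fi23.Col.e, TCG_Fi23.Col.d, TCG_Fi23.Col.c, TCG_Fi23.Col.b, TCG_Fi23.Col.f, TCG_Fi23.Col.i, TCG_Fi23.Col.h, TCG_Fi23.Col.a, TCG_Fi23.Col.b, TCG_Fi23.Col.a, TCG_Fi23.Col.c, TCG_Fi23.Col.i, TCG_Fi23.Col.h, TCG_Fi23.Col.d, TCG_Fi23.Col.a, TCG_Fi23.Col.b, TCG_Fi23.Col.c, TCG_Fi23.Col.d, TCG_Fi23.Col.e, TCG_Fi23.Col.f, TCG_Fi23.Col.g, TCG_Fi23.Col.d, TCG_Fi23.Col.c, TCG_Fi23.Col.b,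 TCG_Fi23.Col.e, TCG_Fi23.Col.h, TCG_Fi23.Col.d, TCG_Fi23.Col.a, TCG_Fi23.Col.c, TCG_Fi23.Col.d, TCG_Fi23.Col.e, TCG_Fi23.Col.f, TCG_Fi23.Col.g, TCG_Fi23.Col.j, TCG_Fi23.Col.i, TCG_Fi23.Col.h, TCG_Fi23.Col.d, TCG_Fi23.Col.j, TCG_Fi23.Col.f, TCG_Fi23.Col.g, TCG_Fi23.Col.b, TCG_Fi23.Col.c, TCG_Fi23.Col.e, TCG_Fi23.Col.f, TCG_Fi23.Col.e, TCG_Fi23.Col.i, TCG_Fi23.Col.d, TCG_Fi23.Col.e, TCG_Fi23.Col.f, TCG_Fi23.Col.g, TCG_Fi23.Col.j, TCG_Fi23.Col.c, TCG_Fi23.Col.h, TCG_Fi23.Col.d, TCG_Fi23.Col.e, TCG_Fi23.Col.f, TCG_Fi23.Col.g, TCG_Fi23.Col.j, TCG_Fi23.Col.g, TCG_Fi23.Col.j, TCG_Fi23.Col.f, TCG_Fi23.Col.g, TCG_Fi23.Col.c, TCG_Fi23.Col.b, TCG_Fi23.Col.h, TCG_Fi23.Col.a, TCG_Fi23.Col.b,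 TCG_Fi23.Col.c, TCG_Fi23.Col.d, TCG_Fi23.Col.e, TCG_Fi23.Col.f, TCG_Fi23.Col.g, TCG_Fi23.Col.b, TCG_Fi23.Col.c, TCG_Fi23.Col.e, TCG_Fi23.Col.f, TCG_Fi23.Col.e, TCG_Fi23.Col.i, TCG_Fi23.Col.d, TCG_Fi23.Col.e, TCG_Fi23.Col.f, TCG_Fi23.Col.g, TCG_Fi23.Col.j, TCG_Fi23.Col.c, TCG_Fi23.Col.h, TCG_Fi23.Col.d, TCG_Fi23.Col.e, TCG_Fi23.Col.f, TCG_Fi23.Col.g, TCG_Fi23.Col.j, TCG_Fi23.Col.g, TCG_Fi23.Col.j, TCG_Fi23.Col.c, TCG_Fi23.Col.b, TCG_Fi23.Col.d, TCG_Fi23.Col.e, TCG_Fi23.Col.f, TCG_Fi23.Col.g, TCG_Fi23.Col.j, TCG_Fi23.Col.c, TCG_Fi23.Col.h, TCG_Fi23.Col.d, TCG_Fi23.Col.e, TCG_Fi23.Col.f, TCG_Fi23.Col.g, TCG_Fi23.Col.j, TCG_Fi23.Col.g, TCG_Fi23.Col.j, TCG_Fi23.Col.c, TCG_Fi23.Col.h,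 TCG_Fi23.Col.d, TCG_Fi23.Col.e, TCG_Fi23.Col.f, TCG_Fi23.Col.g, TCG_Fi23.Col.e, TCG_Fi23.Col.f, TCG_Fi23.Col.g, TCG_Fi23.Col.a, TCG_Fi23.Col.b, TCG_Fi23.Col.a, TCG_Fi23.Col.c, TCG_Fi23.Col.i, TCG_Fi23.Col.h, TCG_Fi23.Col.d, TCG_Fi23.Col.a, TCG_Fi23.Col.b, TCG_Fi23.Col.c, TCG_Fi23.Col.d, TCG_Fi23.Col.e, TCG_Fi23.Col.f, TCG_Fi23.Col.g, TCG_Fi23.Col.d, TCG_Fi23.Col.c, TCG_Fi23.Col.b, TCG_Fi23.Col.e, TCG_Fi23.Col.h, TCG_Fi23.Col.d, TCG_Fi23.Col.a, TCG_Fi23.Col.c, TCG_Fi23.Col.d, TCG_Fi23.Col.e, TCG_Fi23.Col.f, TCG_Fi23.Col.g, TCG_Fi23.Col.j, TCG_Fi23.Col.a, TCG_Fi23.Col.d, TCG_Fi23.Col.e, TCG_Fi23.Col.d, TCG_Fi23.Col.c, TCG_Fi23.Col.h, TCG_Fi23.Col.d, TCG_Fi23.Col.b, TCG_Fi23.Col.c,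 TCG_Fi23.Col.b, TCG_Fi23.Col.e, TCG_Fi23.Col.h, TCG_Fi23.Col.i, TCG_Fi23.Col.b, TCG_Fi23.Col.f, TCG_Fi23.Col.h, TCG_Fi23.Col.a, TCG_Fi23.Col.h, TCG_Fi23.Col.d, TCG_Fi23.Col.c, TCG_Fi23.Col.e, TCG_Fi23.Col.d, TCG_Fi23.Col.c, TCG_Fi23.Col.b, TCG_Fi23.Col.e, TCG_Fi23.Col.h, TCG_Fi23.Col.i, TCG_Fi23.Col.h, TCG_Fi23.Col.a, TCG_Fi23.Col.b, TCG_Fi23.Col.c, TCG_Fi23.Col.d, TCG_Fi23.Col.e, TCG_Fi23.Col.h, TCG_Fi23.Col.d, TCG_Fi23.Col.a, TCG_Fi23.Col.c, TCG_Fi23.Col.h, TCG_Fi23.Col.i, TCG_Fi23.Col.h, TCG_Fi23.Col.b, TCG_Fi23.Col.f, TCG_Fi23.Col.d, TCG_Fi23.Col.e, TCG_Fi23.Col.h, TCG_Fi23.Col.d, TCG_Fi23.Col.b, TCG_Fi23.Col.c, TCG_Fi23.Col.i, TCG_Fi23.Col.b, TCG_Fi23.Col.h, TCG_Fi23.Col.d,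 TCG_Fi23.Col.c, TCG_Fi23.Col.e, TCG_Fi23.Col.d, TCG_Fi23.Col.a, TCG_Fi23.Col.d, TCG_Fi23.Col.c, TCG_Fi23.Col.e, TCG_Fi23.Col.h, TCG_Fi23.Col.d, TCG_Fi23.Col.i, TCG_Fi23.Col.j, TCG_Fi23.Col.i, TCG_Fi23.Col.h, TCG_Fi23.Col.d, TCG_Fi23.Col.h, TCG_Fi23.Col.f, TCG_Fi23.Col.g, TCG_Fi23.Col.b, TCG_Fi23.Col.e, TCG_Fi23.Col.d, TCG_Fi23.Col.c, TCG_Fi23.Col.b, TCG_Fi23.Col.a, TCG_Fi23.Col.e, TCG_Fi23.Col.g, TCG_Fi23.Col.j, TCG_Fi23.Col.a, TCG_Fi23.Col.b, TCG_Fi23.Col.c, TCG_Fi23.Col.d, TCG_Fi23.Col.e, TCG_Fi23.Col.h, TCG_Fi23.Col.d, TCG_Fi23.Col.a, TCG_Fi23.Col.c, TCG_Fi23.Col.d, TCG_Fi23.Col.e, TCG_Fi23.Col.h, TCG_Fi23.Col.d, TCG_Fi23.Col.c, TCG_Fi23.Col.e, TCG_Fi23.Col.f, TCG_Fi23.Col.h,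 TCG_Fi23.Col.i, TCG_Fi23.Col.h, TCG_Fi23.Col.a, TCG_Fi23.Col.b, TCG_Fi23.Col.d, TCG_Fi23.Col.c, TCG_Fi23.Col.f, TCG_Fi23.Col.e, TCG_Fi23.Col.d, TCG_Fi23.Col.e, TCG_Fi23.Col.f, TCG_Fi23.Col.i, TCG_Fi23.Col.c, TCG_Fi23.Col.f, TCG_Fi23.Col.i, TCG_Fi23.Col.d, TCG_Fi23.Col.e, TCG_Fi23.Col.f, TCG_Fi23.Col.g, TCG_Fi23.Col.e, TCG_Fi23.Col.h, TCG_Fi23.Col.d, TCG_Fi23.Col.e, TCG_Fi23.Col.f, TCG_Fi23.Col.g, TCG_Fi23.Col.j, TCG_Fi23.Col.a, TCG_Fi23.Col.b, TCG_Fi23.Col.d, TCG_Fi23.Col.c, TCG_Fi23.Col.i, TCG_Fi23.Col.h, TCG_Fi23.Col.d, TCG_Fi23.Col.a, TCG_Fi23.Col.c, TCG_Fi23.Col.h, TCG_Fi23.Col.d, TCG_Fi23.Col.e, TCG_Fi23.Col.f, TCG_Fi23.Col.g, TCG_Fi23.Col.j, TCG_Fi23.Col.g, TCG_Fi23.Col.j,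 TCG_Fi23.Col.c, TCG_Fi23.Col.i, TCG_Fi23.Col.h, TCG_Fi23.Col.d, TCG_Fi23.Col.c, TCG_Fi23.Col.b, TCG_Fi23.Col.a, TCG_Fi23.Col.c, TCG_Fi23.Col.b, TCG_Fi23.Col.f, TCG_Fi23.Col.i, TCG_Fi23.Col.h, TCG_Fi23.Col.a, TCG_Fi23.Col.b, TCG_Fi23.Col.a, TCG_Fi23.Col.c, TCG_Fi23.Col.i, TCG_Fi23.Col.h, TCG_Fi23.Col.d, TCG_Fi23.Col.a, TCG_Fi23.Col.b, TCG_Fi23.Col.c, TCG_Fi23.Col.d, TCG_Fi23.Col.e, TCG_Fi23.Col.f, TCG_Fi23.Col.g, TCG_Fi23.Col.d, TCG_Fi23.Col.c, TCG_Fi23.Col.b, TCG_Fi23.Col.e, TCG_Fi23.Col.h, TCG_Fi23.Col.d, TCG_Fi23.Col.a, TCG_Fi23.Col.c, TCG_Fi23.Col.d, TCG_Fi23.Col.e, TCG_Fi23.Col.f, TCG_Fi23.Col.g, TCG_Fi23.Col.c, TCG_Fi23.Col.d, TCG_Fi23.Col.b, TCG_Fi23.Col.a, TCG_Fi23.Col.e,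 TCG_Fi23.Col.i, TCG_Fi23.Col.h, TCG_Fi23.Col.d, TCG_Fi23.Col.c, TCG_Fi23.Col.b, TCG_Fi23.Col.d, TCG_Fi23.Col.e, TCG_Fi23.Col.h, TCG_Fi23.Col.d, TCG_Fi23.Col.a, TCG_Fi23.Col.c, TCG_Fi23.Col.b, TCG_Fi23.Col.e, TCG_Fi23.Col.h, TCG_Fi23.Col.i, TCG_Fi23.Col.e, TCG_Fi23.Col.f, TCG_Fi23.Col.b, TCG_Fi23.Col.c, TCG_Fi23.Col.b, TCG_Fi23.Col.f, TCG_Fi23.Col.e, TCG_Fi23.Col.i, TCG_Fi23.Col.f, TCG_Fi23.Col.e, TCG_Fi23.Col.d, TCG_Fi23.Col.c, TCG_Fi23.Col.b, TCG_Fi23.Col.a, TCG_Fi23.Col.h, TCG_Fi23.Col.d, TCG_Fi23.Col.e, TCG_Fi23.Col.f, TCG_Fi23.Col.a, TCG_Fi23.Col.b, TCG_Fi23.Col.a, TCG_Fi23.Col.c, TCG_Fi23.Col.i, TCG_Fi23.Col.h, TCG_Fi23.Col.d, TCG_Fi23.Col.a, TCG_Fi23.Col.b, TCG_Fi23.Col.c,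 TCG_Fi23.Col.d, TCG_Fi23.Col.e, TCG_Fi23.Col.f, TCG_Fi23.Col.g, TCG_Fi23.Col.d, TCG_Fi23.Col.c, TCG_Fi23.Col.b, TCG_Fi23.Col.e, TCG_Fi23.Col.h, TCG_Fi23.Col.d, TCG_Fi23.Col.a, TCG_Fi23.Col.c, TCG_Fi23.Col.d, TCG_Fi23.Col.e, TCG_Fi23.Col.f, TCG_Fi23.Col.g, TCG_Fi23.Col.f, TCG_Fi23.Col.g, TCG_Fi23.Col.a, TCG_Fi23.Col.b, TCG_Fi23.Col.d, TCG_Fi23.Col.c, TCG_Fi23.Col.h, TCG_Fi23.Col.d, TCG_Fi23.Col.b, TCG_Fi23.Col.c, TCG_Fi23.Col.e, TCG_Fi23.Col.i, TCG_Fi23.Col.g, TCG_Fi23.Col.b, TCG_Fi23.Col.e, TCG_Fi23.Col.d, TCG_Fi23.Col.c, TCG_Fi23.Col.b, TCG_Fi23.Col.j, TCG_Fi23.Col.a, TCG_Fi23.Col.e, TCG_Fi23.Col.f],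
  [TCG_Fi23.Col.c, TCG_Fi23.Col.f, TCG_Fi23.Col.e, TCG_Fi23.Col.i, TCG_Fi23.Col.a, TCG_Fi23.Col.d, TCG_Fi23.Col.c, TCG_Fi23.Col.f, TCG_Fi23.Col.e, TCG_Fi23.Col.h, TCG_Fi23.Col.d, TCG_Fi23.Col.e, TCG_Fi23.Col.h, TCG_Fi23.Col.i, TCG_Fi23.Col.h, TCG_Fi23.Col.b, TCG_Fi23.Col.c, TCG_Fi23.Col.b, TCG_Fi23.Col.e, TCG_Fi23.Col.h, TCG_Fi23.Col.i, TCG_Fi23.Col.b, TCG_Fi23.Col.f, TCG_Fi23.Col.h, TCG_Fi23.Col.a, TCG_Fi23.Col.h, TCG_Fi23.Col.d, TCG_Fi23.Col.c, TCG_Fi23.Col.e, TCG_Fi23.Col.d, TCG_Fi23.Col.c, TCG_Fi23.Col.b, TCG_Fi23.Col.e, TCG_Fi23.Col.h, TCG_Fi23.Col.i, TCG_Fi23.Col.h, TCG_Fi23.Col.a, TCG_Fi23.Col.b, TCG_Fi23.Col.c, TCG_Fi23.Col.d, TCG_Fi23.Col.e, TCG_Fi23.Col.h, TCG_Fi23.Col.d,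 TCG_Fi23.Col.a, TCG_Fi23.Col.c, TCG_Fi23.Col.h, TCG_Fi23.Col.i, TCG_Fi23.Col.h, TCG_Fi23.Col.b, TCG_Fi23.Col.f, TCG_Fi23.Col.d, TCG_Fi23.Col.e, TCG_Fi23.Col.h, TCG_Fi23.Col.d, TCG_Fi23.Col.b, TCG_Fi23.Col.c, TCG_Fi23.Col.i, TCG_Fi23.Col.b, TCG_Fi23.Col.h, TCG_Fi23.Col.d, TCG_Fi23.Col.c, TCG_Fi23.Col.e, TCG_Fi23.Col.d, TCG_Fi23.Col.c, TCG_Fi23.Col.b, TCG_Fi23.Col.e, TCG_Fi23.Col.h, TCG_Fi23.Col.i, TCG_Fi23.Col.h, TCG_Fi23.Col.a, TCG_Fi23.Col.d, TCG_Fi23.Col.c, TCG_Fi23.Col.e, TCG_Fi23.Col.h, TCG_Fi23.Col.d, TCG_Fi23.Col.c, TCG_Fi23.Col.e, TCG_Fi23.Col.f, TCG_Fi23.Col.h, TCG_Fi23.Col.i, TCG_Fi23.Col.f, TCG_Fi23.Col.i, TCG_Fi23.Col.b, TCG_Fi23.Col.c, TCG_Fi23.Col.f, TCG_Fi23.Col.c,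 TCG_Fi23.Col.b, TCG_Fi23.Col.d, TCG_Fi23.Col.c, TCG_Fi23.Col.e, TCG_Fi23.Col.d, TCG_Fi23.Col.b, TCG_Fi23.Col.c, TCG_Fi23.Col.d, TCG_Fi23.Col.e, TCG_Fi23.Col.h, TCG_Fi23.Col.d, TCG_Fi23.Col.e, TCG_Fi23.Col.i, TCG_Fi23.Col.h, TCG_Fi23.Col.d, TCG_Fi23.Col.b, TCG_Fi23.Col.c, TCG_Fi23.Col.b, TCG_Fi23.Col.e, TCG_Fi23.Col.f, TCG_Fi23.Col.h, TCG_Fi23.Col.b, TCG_Fi23.Col.f, TCG_Fi23.Col.i, TCG_Fi23.Col.a, TCG_Fi23.Col.c, TCG_Fi23.Col.b, TCG_Fi23.Col.d, TCG_Fi23.Col.c, TCG_Fi23.Col.h, TCG_Fi23.Col.d, TCG_Fi23.Col.b, TCG_Fi23.Col.e, TCG_Fi23.Col.h, TCG_Fi23.Col.i, TCG_Fi23.Col.h, TCG_Fi23.Col.b, TCG_Fi23.Col.c, TCG_Fi23.Col.b, TCG_Fi23.Col.h, TCG_Fi23.Col.i, TCG_Fi23.Col.b, TCG_Fi23.Col.f,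 TCG_Fi23.Col.h, TCG_Fi23.Col.i, TCG_Fi23.Col.h, TCG_Fi23.Col.b, TCG_Fi23.Col.c, TCG_Fi23.Col.e, TCG_Fi23.Col.i, TCG_Fi23.Col.h, TCG_Fi23.Col.a, TCG_Fi23.Col.b, TCG_Fi23.Col.c, TCG_Fi23.Col.d, TCG_Fi23.Col.e, TCG_Fi23.Col.f, TCG_Fi23.Col.g, TCG_Fi23.Col.c, TCG_Fi23.Col.b, TCG_Fi23.Col.h, TCG_Fi23.Col.i, TCG_Fi23.Col.d, TCG_Fi23.Col.e, TCG_Fi23.Col.f, TCG_Fi23.Col.g, TCG_Fi23.Col.j, TCG_Fi23.Col.c, TCG_Fi23.Col.h, TCG_Fi23.Col.d, TCG_Fi23.Col.e, TCG_Fi23.Col.f, TCG_Fi23.Col.g, TCG_Fi23.Col.j, TCG_Fi23.Col.g, TCG_Fi23.Col.j, TCG_Fi23.Col.e, TCG_Fi23.Col.f, TCG_Fi23.Col.g, TCG_Fi23.Col.f, TCG_Fi23.Col.g, TCG_Fi23.Col.c, TCG_Fi23.Col.b, TCG_Fi23.Col.d, TCG_Fi23.Col.e, TCG_Fi23.Col.f,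 TCG_Fi23.Col.g, TCG_Fi23.Col.j, TCG_Fi23.Col.c, TCG_Fi23.Col.h, TCG_Fi23.Col.d, TCG_Fi23.Col.e, TCG_Fi23.Col.f, TCG_Fi23.Col.g, TCG_Fi23.Col.j, TCG_Fi23.Col.g, TCG_Fi23.Col.j, TCG_Fi23.Col.c, TCG_Fi23.Col.h, TCG_Fi23.Col.d, TCG_Fi23.Col.e, TCG_Fi23.Col.f, TCG_Fi23.Col.g, TCG_Fi23.Col.e, TCG_Fi23.Col.f, TCG_Fi23.Col.g, TCG_Fi23.Col.a, TCG_Fi23.Col.b, TCG_Fi23.Col.a, TCG_Fi23.Col.c, TCG_Fi23.Col.i, TCG_Fi23.Col.h, TCG_Fi23.Col.d, TCG_Fi23.Col.a, TCG_Fi23.Col.b, TCG_Fi23.Col.c, TCG_Fi23.Col.d, TCG_Fi23.Col.e, TCG_Fi23.Col.f, TCG_Fi23.Col.g, TCG_Fi23.Col.d, TCG_Fi23.Col.c, TCG_Fi23.Col.b, TCG_Fi23.Col.e, TCG_Fi23.Col.h, TCG_Fi23.Col.d, TCG_Fi23.Col.a, TCG_Fi23.Col.c, TCG_Fi23.Col.d,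 TCG_Fi23.Col.e, TCG_Fi23.Col.f, TCG_Fi23.Col.g, TCG_Fi23.Col.j, TCG_Fi23.Col.f, TCG_Fi23.Col.e, TCG_Fi23.Col.c, TCG_Fi23.Col.b, TCG_Fi23.Col.i, TCG_Fi23.Col.c, TCG_Fi23.Col.h, TCG_Fi23.Col.i, TCG_Fi23.Col.h, TCG_Fi23.Col.e, TCG_Fi23.Col.i, TCG_Fi23.Col.h, TCG_Fi23.Col.d, TCG_Fi23.Col.c, TCG_Fi23.Col.h, TCG_Fi23.Col.d, TCG_Fi23.Col.e, TCG_Fi23.Col.f, TCG_Fi23.Col.g, TCG_Fi23.Col.b, TCG_Fi23.Col.c, TCG_Fi23.Col.e, TCG_Fi23.Col.i, TCG_Fi23.Col.h, TCG_Fi23.Col.a, TCG_Fi23.Col.b, TCG_Fi23.Col.c, TCG_Fi23.Col.d, TCG_Fi23.Col.e, TCG_Fi23.Col.f, TCG_Fi23.Col.g, TCG_Fi23.Col.f, TCG_Fi23.Col.g, TCG_Fi23.Col.b, TCG_Fi23.Col.c, TCG_Fi23.Col.b, TCG_Fi23.Col.e, TCG_Fi23.Col.h, TCG_Fi23.Col.i,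 TCG_Fi23.Col.f, TCG_Fi23.Col.e, TCG_Fi23.Col.d, TCG_Fi23.Col.c, TCG_Fi23.Col.b, TCG_Fi23.Col.a, TCG_Fi23.Col.h, TCG_Fi23.Col.d, TCG_Fi23.Col.e, TCG_Fi23.Col.f, TCG_Fi23.Col.g, TCG_Fi23.Col.d, TCG_Fi23.Col.c, TCG_Fi23.Col.b, TCG_Fi23.Col.e, TCG_Fi23.Col.h, TCG_Fi23.Col.d, TCG_Fi23.Col.a, TCG_Fi23.Col.c, TCG_Fi23.Col.d, TCG_Fi23.Col.e, TCG_Fi23.Col.f, TCG_Fi23.Col.g, TCG_Fi23.Col.d, TCG_Fi23.Col.c, TCG_Fi23.Col.b, TCG_Fi23.Col.e, TCG_Fi23.Col.h, TCG_Fi23.Col.d, TCG_Fi23.Col.a, TCG_Fi23.Col.c, TCG_Fi23.Col.d, TCG_Fi23.Col.e, TCG_Fi23.Col.f, TCG_Fi23.Col.g, TCG_Fi23.Col.a, TCG_Fi23.Col.b, TCG_Fi23.Col.c, TCG_Fi23.Col.d, TCG_Fi23.Col.e, TCG_Fi23.Col.f, TCG_Fi23.Col.g, TCG_Fi23.Col.d,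 TCG_Fi23.Col.c, TCG_Fi23.Col.b, TCG_Fi23.Col.e, TCG_Fi23.Col.h, TCG_Fi23.Col.d, TCG_Fi23.Col.a, TCG_Fi23.Col.c, TCG_Fi23.Col.d, TCG_Fi23.Col.e, TCG_Fi23.Col.f, TCG_Fi23.Col.g, TCG_Fi23.Col.c, TCG_Fi23.Col.h, TCG_Fi23.Col.d, TCG_Fi23.Col.e, TCG_Fi23.Col.f, TCG_Fi23.Col.g, TCG_Fi23.Col.c, TCG_Fi23.Col.d, TCG_Fi23.Col.e, TCG_Fi23.Col.f, TCG_Fi23.Col.g, TCG_Fi23.Col.c, TCG_Fi23.Col.d, TCG_Fi23.Col.c, TCG_Fi23.Col.e, TCG_Fi23.Col.h, TCG_Fi23.Col.d, TCG_Fi23.Col.b, TCG_Fi23.Col.c, TCG_Fi23.Col.e, TCG_Fi23.Col.f, TCG_Fi23.Col.e, TCG_Fi23.Col.i, TCG_Fi23.Col.d, TCG_Fi23.Col.e, TCG_Fi23.Col.h, TCG_Fi23.Col.d, TCG_Fi23.Col.b, TCG_Fi23.Col.c, TCG_Fi23.Col.i, TCG_Fi23.Col.b, TCG_Fi23.Col.h,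 TCG_Fi23.Col.d, TCG_Fi23.Col.c, TCG_Fi23.Col.e, TCG_Fi23.Col.d, TCG_Fi23.Col.b, TCG_Fi23.Col.e, TCG_Fi23.Col.f, TCG_Fi23.Col.i, TCG_Fi23.Col.c, TCG_Fi23.Col.h, TCG_Fi23.Col.e, TCG_Fi23.Col.g, TCG_Fi23.Col.e, TCG_Fi23.Col.f, TCG_Fi23.Col.d, TCG_Fi23.Col.h, TCG_Fi23.Col.e, TCG_Fi23.Col.d, TCG_Fi23.Col.j, TCG_Fi23.Col.a, TCG_Fi23.Col.f, TCG_Fi23.Col.g, TCG_Fi23.Col.b],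
  [TCG_Fi23.Col.b, TCG_Fi23.Col.c, TCG_Fi23.Col.b, TCG_Fi23.Col.h, TCG_Fi23.Col.b, TCG_Fi23.Col.c, TCG_Fi23.Col.b, TCG_Fi23.Col.i, TCG_Fi23.Col.f, TCG_Fi23.Col.a, TCG_Fi23.Col.d, TCG_Fi23.Col.e, TCG_Fi23.Col.d, TCG_Fi23.Col.c, TCG_Fi23.Col.h, TCG_Fi23.Col.d, TCG_Fi23.Col.b, TCG_Fi23.Col.c, TCG_Fi23.Col.b, TCG_Fi23.Col.e, TCG_Fi23.Col.h, TCG_Fi23.Col.i, TCG_Fi23.Col.b, TCG_Fi23.Col.f, TCG_Fi23.Col.h, TCG_Fi23.Col.a, TCG_Fi23.Col.h, TCG_Fi23.Col.d, TCG_Fi23.Col.c, TCG_Fi23.Col.e, TCG_Fi23.Col.d, TCG_Fi23.Col.c, TCG_Fi23.Col.b, TCG_Fi23.Col.e, TCG_Fi23.Col.h, TCG_Fi23.Col.i, TCG_Fi23.Col.h, TCG_Fi23.Col.a, TCG_Fi23.Col.b, TCG_Fi23.Col.c, TCG_Fi23.Col.d, TCG_Fi23.Col.e, TCG_Fi23.Col.h,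 TCG_Fi23.Col.d, TCG_Fi23.Col.a, TCG_Fi23.Col.c, TCG_Fi23.Col.h, TCG_Fi23.Col.i, TCG_Fi23.Col.h, TCG_Fi23.Col.b, TCG_Fi23.Col.f, TCG_Fi23.Col.d, TCG_Fi23.Col.e, TCG_Fi23.Col.h, TCG_Fi23.Col.d, TCG_Fi23.Col.b, TCG_Fi23.Col.c, TCG_Fi23.Col.i, TCG_Fi23.Col.b, TCG_Fi23.Col.h, TCG_Fi23.Col.d, TCG_Fi23.Col.c, TCG_Fi23.Col.e, TCG_Fi23.Col.d, TCG_Fi23.Col.a, TCG_Fi23.Col.d, TCG_Fi23.Col.c, TCG_Fi23.Col.e, TCG_Fi23.Col.h, TCG_Fi23.Col.d, TCG_Fi23.Col.i, TCG_Fi23.Col.b, TCG_Fi23.Col.a, TCG_Fi23.Col.c, TCG_Fi23.Col.e, TCG_Fi23.Col.h, TCG_Fi23.Col.d, TCG_Fi23.Col.a, TCG_Fi23.Col.d, TCG_Fi23.Col.b, TCG_Fi23.Col.c, TCG_Fi23.Col.h, TCG_Fi23.Col.i, TCG_Fi23.Col.d, TCG_Fi23.Col.e, TCG_Fi23.Col.h,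 TCG_Fi23.Col.d, TCG_Fi23.Col.c, TCG_Fi23.Col.i, TCG_Fi23.Col.b, TCG_Fi23.Col.h, TCG_Fi23.Col.d, TCG_Fi23.Col.c, TCG_Fi23.Col.e, TCG_Fi23.Col.d, TCG_Fi23.Col.e, TCG_Fi23.Col.h, TCG_Fi23.Col.d, TCG_Fi23.Col.e, TCG_Fi23.Col.h, TCG_Fi23.Col.d, TCG_Fi23.Col.b, TCG_Fi23.Col.c, TCG_Fi23.Col.i, TCG_Fi23.Col.b, TCG_Fi23.Col.h, TCG_Fi23.Col.d, TCG_Fi23.Col.c, TCG_Fi23.Col.e, TCG_Fi23.Col.d, TCG_Fi23.Col.c, TCG_Fi23.Col.b, TCG_Fi23.Col.f, TCG_Fi23.Col.i, TCG_Fi23.Col.h, TCG_Fi23.Col.a, TCG_Fi23.Col.b, TCG_Fi23.Col.a, TCG_Fi23.Col.c, TCG_Fi23.Col.i, TCG_Fi23.Col.h, TCG_Fi23.Col.d, TCG_Fi23.Col.a, TCG_Fi23.Col.b, TCG_Fi23.Col.c, TCG_Fi23.Col.d, TCG_Fi23.Col.e, TCG_Fi23.Col.f, TCG_Fi23.Col.g,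 TCG_Fi23.Col.d, TCG_Fi23.Col.c, TCG_Fi23.Col.b, TCG_Fi23.Col.e, TCG_Fi23.Col.h, TCG_Fi23.Col.d, TCG_Fi23.Col.a, TCG_Fi23.Col.c, TCG_Fi23.Col.d, TCG_Fi23.Col.e, TCG_Fi23.Col.f, TCG_Fi23.Col.g, TCG_Fi23.Col.e, TCG_Fi23.Col.f, TCG_Fi23.Col.h, TCG_Fi23.Col.d, TCG_Fi23.Col.c, TCG_Fi23.Col.b, TCG_Fi23.Col.e, TCG_Fi23.Col.h, TCG_Fi23.Col.d, TCG_Fi23.Col.a, TCG_Fi23.Col.c, TCG_Fi23.Col.d, TCG_Fi23.Col.e, TCG_Fi23.Col.f, TCG_Fi23.Col.g, TCG_Fi23.Col.j, TCG_Fi23.Col.e, TCG_Fi23.Col.f, TCG_Fi23.Col.h, TCG_Fi23.Col.d, TCG_Fi23.Col.c, TCG_Fi23.Col.b, TCG_Fi23.Col.e, TCG_Fi23.Col.h, TCG_Fi23.Col.d, TCG_Fi23.Col.a, TCG_Fi23.Col.c, TCG_Fi23.Col.d, TCG_Fi23.Col.e, TCG_Fi23.Col.f, TCG_Fi23.Col.g,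 TCG_Fi23.Col.j, TCG_Fi23.Col.b, TCG_Fi23.Col.c, TCG_Fi23.Col.b, TCG_Fi23.Col.e, TCG_Fi23.Col.h, TCG_Fi23.Col.i, TCG_Fi23.Col.f, TCG_Fi23.Col.e, TCG_Fi23.Col.d, TCG_Fi23.Col.c, TCG_Fi23.Col.b, TCG_Fi23.Col.a, TCG_Fi23.Col.h, TCG_Fi23.Col.d, TCG_Fi23.Col.e, TCG_Fi23.Col.f, TCG_Fi23.Col.g, TCG_Fi23.Col.d, TCG_Fi23.Col.c, TCG_Fi23.Col.b, TCG_Fi23.Col.e, TCG_Fi23.Col.h, TCG_Fi23.Col.d, TCG_Fi23.Col.a, TCG_Fi23.Col.c, TCG_Fi23.Col.d, TCG_Fi23.Col.e, TCG_Fi23.Col.f, TCG_Fi23.Col.g, TCG_Fi23.Col.d, TCG_Fi23.Col.c, TCG_Fi23.Col.b, TCG_Fi23.Col.e, TCG_Fi23.Col.h, TCG_Fi23.Col.d, TCG_Fi23.Col.a, TCG_Fi23.Col.c, TCG_Fi23.Col.d, TCG_Fi23.Col.e, TCG_Fi23.Col.f, TCG_Fi23.Col.g, TCG_Fi23.Col.a,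 TCG_Fi23.Col.b, TCG_Fi23.Col.c, TCG_Fi23.Col.d, TCG_Fi23.Col.e, TCG_Fi23.Col.f, TCG_Fi23.Col.g, TCG_Fi23.Col.d, TCG_Fi23.Col.c, TCG_Fi23.Col.b, TCG_Fi23.Col.e, TCG_Fi23.Col.h, TCG_Fi23.Col.d, TCG_Fi23.Col.a, TCG_Fi23.Col.c, TCG_Fi23.Col.d, TCG_Fi23.Col.e, TCG_Fi23.Col.f, TCG_Fi23.Col.g, TCG_Fi23.Col.j, TCG_Fi23.Col.a, TCG_Fi23.Col.d, TCG_Fi23.Col.c, TCG_Fi23.Col.e, TCG_Fi23.Col.i, TCG_Fi23.Col.h, TCG_Fi23.Col.d, TCG_Fi23.Col.b, TCG_Fi23.Col.c, TCG_Fi23.Col.b, TCG_Fi23.Col.e, TCG_Fi23.Col.h, TCG_Fi23.Col.i, TCG_Fi23.Col.b, TCG_Fi23.Col.f, TCG_Fi23.Col.h, TCG_Fi23.Col.a, TCG_Fi23.Col.h, TCG_Fi23.Col.d, TCG_Fi23.Col.c, TCG_Fi23.Col.e, TCG_Fi23.Col.d, TCG_Fi23.Col.c, TCG_Fi23.Col.b,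 TCG_Fi23.Col.e, TCG_Fi23.Col.h, TCG_Fi23.Col.i, TCG_Fi23.Col.h, TCG_Fi23.Col.a, TCG_Fi23.Col.b, TCG_Fi23.Col.c, TCG_Fi23.Col.d, TCG_Fi23.Col.e, TCG_Fi23.Col.h, TCG_Fi23.Col.d, TCG_Fi23.Col.a, TCG_Fi23.Col.c, TCG_Fi23.Col.h, TCG_Fi23.Col.i, TCG_Fi23.Col.h, TCG_Fi23.Col.b, TCG_Fi23.Col.f, TCG_Fi23.Col.d, TCG_Fi23.Col.e, TCG_Fi23.Col.h, TCG_Fi23.Col.d, TCG_Fi23.Col.b, TCG_Fi23.Col.c, TCG_Fi23.Col.i, TCG_Fi23.Col.b, TCG_Fi23.Col.h, TCG_Fi23.Col.d, TCG_Fi23.Col.c, TCG_Fi23.Col.e, TCG_Fi23.Col.d, TCG_Fi23.Col.a, TCG_Fi23.Col.d, TCG_Fi23.Col.c, TCG_Fi23.Col.e, TCG_Fi23.Col.h, TCG_Fi23.Col.d, TCG_Fi23.Col.c, TCG_Fi23.Col.f, TCG_Fi23.Col.e, TCG_Fi23.Col.i, TCG_Fi23.Col.h, TCG_Fi23.Col.a,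 TCG_Fi23.Col.c, TCG_Fi23.Col.d, TCG_Fi23.Col.e, TCG_Fi23.Col.h, TCG_Fi23.Col.d, TCG_Fi23.Col.c, TCG_Fi23.Col.e, TCG_Fi23.Col.f, TCG_Fi23.Col.h, TCG_Fi23.Col.i, TCG_Fi23.Col.h, TCG_Fi23.Col.a, TCG_Fi23.Col.b, TCG_Fi23.Col.d, TCG_Fi23.Col.c, TCG_Fi23.Col.f, TCG_Fi23.Col.e, TCG_Fi23.Col.d, TCG_Fi23.Col.b, TCG_Fi23.Col.c, TCG_Fi23.Col.b, TCG_Fi23.Col.i, TCG_Fi23.Col.h, TCG_Fi23.Col.d, TCG_Fi23.Col.c, TCG_Fi23.Col.e, TCG_Fi23.Col.d, TCG_Fi23.Col.h, TCG_Fi23.Col.i, TCG_Fi23.Col.b, TCG_Fi23.Col.c, TCG_Fi23.Col.d, TCG_Fi23.Col.e, TCG_Fi23.Col.h, TCG_Fi23.Col.d, TCG_Fi23.Col.b, TCG_Fi23.Col.c, TCG_Fi23.Col.b, TCG_Fi23.Col.f, TCG_Fi23.Col.e, TCG_Fi23.Col.i, TCG_Fi23.Col.f, TCG_Fi23.Col.e,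 TCG_Fi23.Col.d, TCG_Fi23.Col.c, TCG_Fi23.Col.b, TCG_Fi23.Col.a, TCG_Fi23.Col.h, TCG_Fi23.Col.d, TCG_Fi23.Col.e, TCG_Fi23.Col.f, TCG_Fi23.Col.g, TCG_Fi23.Col.f, TCG_Fi23.Col.e, TCG_Fi23.Col.d, TCG_Fi23.Col.c, TCG_Fi23.Col.b, TCG_Fi23.Col.a, TCG_Fi23.Col.h, TCG_Fi23.Col.d, TCG_Fi23.Col.e, TCG_Fi23.Col.f, TCG_Fi23.Col.g, TCG_Fi23.Col.b, TCG_Fi23.Col.c, TCG_Fi23.Col.b, TCG_Fi23.Col.e, TCG_Fi23.Col.h, TCG_Fi23.Col.i, TCG_Fi23.Col.f, TCG_Fi23.Col.e, TCG_Fi23.Col.d, TCG_Fi23.Col.c, TCG_Fi23.Col.b, TCG_Fi23.Col.a, TCG_Fi23.Col.h, TCG_Fi23.Col.d, TCG_Fi23.Col.e, TCG_Fi23.Col.f, TCG_Fi23.Col.g, TCG_Fi23.Col.d, TCG_Fi23.Col.c, TCG_Fi23.Col.b, TCG_Fi23.Col.e, TCG_Fi23.Col.h, TCG_Fi23.Col.d,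 TCG_Fi23.Col.a, TCG_Fi23.Col.c, TCG_Fi23.Col.d, TCG_Fi23.Col.e, TCG_Fi23.Col.f, TCG_Fi23.Col.g, TCG_Fi23.Col.b, TCG_Fi23.Col.e, TCG_Fi23.Col.d, TCG_Fi23.Col.c, TCG_Fi23.Col.h, TCG_Fi23.Col.d, TCG_Fi23.Col.a, TCG_Fi23.Col.b, TCG_Fi23.Col.c, TCG_Fi23.Col.e, TCG_Fi23.Col.h, TCG_Fi23.Col.i, TCG_Fi23.Col.b, TCG_Fi23.Col.c, TCG_Fi23.Col.b, TCG_Fi23.Col.i, TCG_Fi23.Col.h, TCG_Fi23.Col.f, TCG_Fi23.Col.e, TCG_Fi23.Col.d, TCG_Fi23.Col.c, TCG_Fi23.Col.b, TCG_Fi23.Col.a, TCG_Fi23.Col.c, TCG_Fi23.Col.b, TCG_Fi23.Col.e, TCG_Fi23.Col.h, TCG_Fi23.Col.i, TCG_Fi23.Col.h, TCG_Fi23.Col.b, TCG_Fi23.Col.f, TCG_Fi23.Col.e, TCG_Fi23.Col.h, TCG_Fi23.Col.e, TCG_Fi23.Col.f, TCG_Fi23.Col.b, TCG_Fi23.Col.c,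 TCG_Fi23.Col.b, TCG_Fi23.Col.f, TCG_Fi23.Col.e, TCG_Fi23.Col.i, TCG_Fi23.Col.f, TCG_Fi23.Col.e, TCG_Fi23.Col.d, TCG_Fi23.Col.c, TCG_Fi23.Col.b, TCG_Fi23.Col.a, TCG_Fi23.Col.h, TCG_Fi23.Col.d, TCG_Fi23.Col.e, TCG_Fi23.Col.f, TCG_Fi23.Col.a, TCG_Fi23.Col.b, TCG_Fi23.Col.a, TCG_Fi23.Col.c, TCG_Fi23.Col.i, TCG_Fi23.Col.h, TCG_Fi23.Col.d, TCG_Fi23.Col.a, TCG_Fi23.Col.b, TCG_Fi23.Col.c, TCG_Fi23.Col.d, TCG_Fi23.Col.e, TCG_Fi23.Col.f, TCG_Fi23.Col.g, TCG_Fi23.Col.d, TCG_Fi23.Col.c, TCG_Fi23.Col.b, TCG_Fi23.Col.e, TCG_Fi23.Col.h, TCG_Fi23.Col.d, TCG_Fi23.Col.a, TCG_Fi23.Col.c, TCG_Fi23.Col.d, TCG_Fi23.Col.e, TCG_Fi23.Col.f, TCG_Fi23.Col.g, TCG_Fi23.Col.f, TCG_Fi23.Col.g, TCG_Fi23.Col.a,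 TCG_Fi23.Col.b, TCG_Fi23.Col.d, TCG_Fi23.Col.c, TCG_Fi23.Col.h, TCG_Fi23.Col.d, TCG_Fi23.Col.b, TCG_Fi23.Col.c, TCG_Fi23.Col.f, TCG_Fi23.Col.h, TCG_Fi23.Col.i, TCG_Fi23.Col.a, TCG_Fi23.Col.b, TCG_Fi23.Col.c, TCG_Fi23.Col.f, TCG_Fi23.Col.e, TCG_Fi23.Col.h, TCG_Fi23.Col.d, TCG_Fi23.Col.a, TCG_Fi23.Col.e, TCG_Fi23.Col.h, TCG_Fi23.Col.i, TCG_Fi23.Col.g, TCG_Fi23.Col.b, TCG_Fi23.Col.c, TCG_Fi23.Col.d, TCG_Fi23.Col.h, TCG_Fi23.Col.d, TCG_Fi23.Col.f, TCG_Fi23.Col.c, TCG_Fi23.Col.i],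
  [TCG_Fi23.Col.c, TCG_Fi23.Col.b, TCG_Fi23.Col.f, TCG_Fi23.Col.e, TCG_Fi23.Col.i, TCG_Fi23.Col.b, TCG_Fi23.Col.c, TCG_Fi23.Col.b, TCG_Fi23.Col.i, TCG_Fi23.Col.d, TCG_Fi23.Col.e, TCG_Fi23.Col.h, TCG_Fi23.Col.d, TCG_Fi23.Col.c, TCG_Fi23.Col.i, TCG_Fi23.Col.b, TCG_Fi23.Col.h, TCG_Fi23.Col.d, TCG_Fi23.Col.c, TCG_Fi23.Col.e, TCG_Fi23.Col.d, TCG_Fi23.Col.c, TCG_Fi23.Col.f, TCG_Fi23.Col.e, TCG_Fi23.Col.h, TCG_Fi23.Col.i, TCG_Fi23.Col.h, TCG_Fi23.Col.b, TCG_Fi23.Col.e, TCG_Fi23.Col.f, TCG_Fi23.Col.e, TCG_Fi23.Col.h, TCG_Fi23.Col.c, TCG_Fi23.Col.b, TCG_Fi23.Col.f, TCG_Fi23.Col.h, TCG_Fi23.Col.i, TCG_Fi23.Col.h, TCG_Fi23.Col.d, TCG_Fi23.Col.c, TCG_Fi23.Col.b, TCG_Fi23.Col.e, TCG_Fi23.Col.h,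 TCG_Fi23.Col.d, TCG_Fi23.Col.a, TCG_Fi23.Col.c, TCG_Fi23.Col.d, TCG_Fi23.Col.e, TCG_Fi23.Col.f, TCG_Fi23.Col.g, TCG_Fi23.Col.a, TCG_Fi23.Col.b, TCG_Fi23.Col.c, TCG_Fi23.Col.d, TCG_Fi23.Col.e, TCG_Fi23.Col.f, TCG_Fi23.Col.g, TCG_Fi23.Col.d, TCG_Fi23.Col.c, TCG_Fi23.Col.b, TCG_Fi23.Col.e, TCG_Fi23.Col.h, TCG_Fi23.Col.d, TCG_Fi23.Col.a, TCG_Fi23.Col.c, TCG_Fi23.Col.d, TCG_Fi23.Col.e, TCG_Fi23.Col.f, TCG_Fi23.Col.g, TCG_Fi23.Col.c, TCG_Fi23.Col.d, TCG_Fi23.Col.e, TCG_Fi23.Col.f, TCG_Fi23.Col.g, TCG_Fi23.Col.e, TCG_Fi23.Col.f, TCG_Fi23.Col.h, TCG_Fi23.Col.d, TCG_Fi23.Col.c, TCG_Fi23.Col.b, TCG_Fi23.Col.e, TCG_Fi23.Col.h, TCG_Fi23.Col.d, TCG_Fi23.Col.a, TCG_Fi23.Col.c, TCG_Fi23.Col.d,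 TCG_Fi23.Col.e, TCG_Fi23.Col.f, TCG_Fi23.Col.c, TCG_Fi23.Col.h, TCG_Fi23.Col.i, TCG_Fi23.Col.h, TCG_Fi23.Col.e, TCG_Fi23.Col.i, TCG_Fi23.Col.h, TCG_Fi23.Col.d, TCG_Fi23.Col.c, TCG_Fi23.Col.h, TCG_Fi23.Col.d, TCG_Fi23.Col.e, TCG_Fi23.Col.f, TCG_Fi23.Col.g, TCG_Fi23.Col.b, TCG_Fi23.Col.c, TCG_Fi23.Col.e, TCG_Fi23.Col.i, TCG_Fi23.Col.h, TCG_Fi23.Col.a, TCG_Fi23.Col.b, TCG_Fi23.Col.c, TCG_Fi23.Col.d, TCG_Fi23.Col.e, TCG_Fi23.Col.f, TCG_Fi23.Col.g, TCG_Fi23.Col.f, TCG_Fi23.Col.g, TCG_Fi23.Col.b, TCG_Fi23.Col.c, TCG_Fi23.Col.b, TCG_Fi23.Col.e, TCG_Fi23.Col.h, TCG_Fi23.Col.i, TCG_Fi23.Col.f, TCG_Fi23.Col.e, TCG_Fi23.Col.d, TCG_Fi23.Col.c, TCG_Fi23.Col.b, TCG_Fi23.Col.a, TCG_Fi23.Col.h,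 TCG_Fi23.Col.d, TCG_Fi23.Col.e, TCG_Fi23.Col.f, TCG_Fi23.Col.g, TCG_Fi23.Col.d, TCG_Fi23.Col.c, TCG_Fi23.Col.b, TCG_Fi23.Col.e, TCG_Fi23.Col.h, TCG_Fi23.Col.d, TCG_Fi23.Col.a, TCG_Fi23.Col.c, TCG_Fi23.Col.d, TCG_Fi23.Col.e, TCG_Fi23.Col.f, TCG_Fi23.Col.g, TCG_Fi23.Col.d, TCG_Fi23.Col.c, TCG_Fi23.Col.b, TCG_Fi23.Col.e, TCG_Fi23.Col.h, TCG_Fi23.Col.d, TCG_Fi23.Col.a, TCG_Fi23.Col.c, TCG_Fi23.Col.d, TCG_Fi23.Col.e, TCG_Fi23.Col.f, TCG_Fi23.Col.g, TCG_Fi23.Col.a, TCG_Fi23.Col.b, TCG_Fi23.Col.c, TCG_Fi23.Col.d, TCG_Fi23.Col.e, TCG_Fi23.Col.f, TCG_Fi23.Col.g, TCG_Fi23.Col.d, TCG_Fi23.Col.c, TCG_Fi23.Col.b, TCG_Fi23.Col.e, TCG_Fi23.Col.h, TCG_Fi23.Col.d, TCG_Fi23.Col.a, TCG_Fi23.Col.c,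 TCG_Fi23.Col.d, TCG_Fi23.Col.e, TCG_Fi23.Col.f, TCG_Fi23.Col.g, TCG_Fi23.Col.j, TCG_Fi23.Col.c, TCG_Fi23.Col.b, TCG_Fi23.Col.d, TCG_Fi23.Col.e, TCG_Fi23.Col.h, TCG_Fi23.Col.d, TCG_Fi23.Col.a, TCG_Fi23.Col.j, TCG_Fi23.Col.e, TCG_Fi23.Col.f, TCG_Fi23.Col.g, TCG_Fi23.Col.c, TCG_Fi23.Col.i, TCG_Fi23.Col.h, TCG_Fi23.Col.d, TCG_Fi23.Col.a, TCG_Fi23.Col.d, TCG_Fi23.Col.e, TCG_Fi23.Col.d, TCG_Fi23.Col.c, TCG_Fi23.Col.h, TCG_Fi23.Col.d, TCG_Fi23.Col.b, TCG_Fi23.Col.c, TCG_Fi23.Col.b, TCG_Fi23.Col.e, TCG_Fi23.Col.h, TCG_Fi23.Col.i, TCG_Fi23.Col.b, TCG_Fi23.Col.f, TCG_Fi23.Col.h, TCG_Fi23.Col.a, TCG_Fi23.Col.h, TCG_Fi23.Col.d, TCG_Fi23.Col.c, TCG_Fi23.Col.e, TCG_Fi23.Col.d, TCG_Fi23.Col.c,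 TCG_Fi23.Col.b, TCG_Fi23.Col.e, TCG_Fi23.Col.h, TCG_Fi23.Col.i, TCG_Fi23.Col.h, TCG_Fi23.Col.a, TCG_Fi23.Col.b, TCG_Fi23.Col.c, TCG_Fi23.Col.d, TCG_Fi23.Col.e, TCG_Fi23.Col.h, TCG_Fi23.Col.d, TCG_Fi23.Col.a, TCG_Fi23.Col.c, TCG_Fi23.Col.h, TCG_Fi23.Col.i, TCG_Fi23.Col.h, TCG_Fi23.Col.b, TCG_Fi23.Col.f, TCG_Fi23.Col.d, TCG_Fi23.Col.e, TCG_Fi23.Col.h, TCG_Fi23.Col.d, TCG_Fi23.Col.b, TCG_Fi23.Col.c, TCG_Fi23.Col.i, TCG_Fi23.Col.b, TCG_Fi23.Col.h, TCG_Fi23.Col.d, TCG_Fi23.Col.c, TCG_Fi23.Col.e, TCG_Fi23.Col.d, TCG_Fi23.Col.a, TCG_Fi23.Col.d, TCG_Fi23.Col.c, TCG_Fi23.Col.e, TCG_Fi23.Col.h, TCG_Fi23.Col.d, TCG_Fi23.Col.i, TCG_Fi23.Col.c, TCG_Fi23.Col.b, TCG_Fi23.Col.d, TCG_Fi23.Col.c,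 TCG_Fi23.Col.h, TCG_Fi23.Col.d, TCG_Fi23.Col.c, TCG_Fi23.Col.b, TCG_Fi23.Col.a, TCG_Fi23.Col.b, TCG_Fi23.Col.c, TCG_Fi23.Col.d, TCG_Fi23.Col.e, TCG_Fi23.Col.f, TCG_Fi23.Col.g, TCG_Fi23.Col.c, TCG_Fi23.Col.b, TCG_Fi23.Col.f, TCG_Fi23.Col.h, TCG_Fi23.Col.i, TCG_Fi23.Col.h, TCG_Fi23.Col.d, TCG_Fi23.Col.c, TCG_Fi23.Col.b, TCG_Fi23.Col.e, TCG_Fi23.Col.h, TCG_Fi23.Col.d, TCG_Fi23.Col.a, TCG_Fi23.Col.c, TCG_Fi23.Col.d, TCG_Fi23.Col.e, TCG_Fi23.Col.f, TCG_Fi23.Col.g, TCG_Fi23.Col.a, TCG_Fi23.Col.b, TCG_Fi23.Col.c, TCG_Fi23.Col.d, TCG_Fi23.Col.e, TCG_Fi23.Col.f, TCG_Fi23.Col.g, TCG_Fi23.Col.d, TCG_Fi23.Col.c, TCG_Fi23.Col.b, TCG_Fi23.Col.e, TCG_Fi23.Col.h, TCG_Fi23.Col.d, TCG_Fi23.Col.a,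 TCG_Fi23.Col.c, TCG_Fi23.Col.d, TCG_Fi23.Col.e, TCG_Fi23.Col.f, TCG_Fi23.Col.g, TCG_Fi23.Col.f, TCG_Fi23.Col.e, TCG_Fi23.Col.c, TCG_Fi23.Col.b, TCG_Fi23.Col.f, TCG_Fi23.Col.h, TCG_Fi23.Col.i, TCG_Fi23.Col.b, TCG_Fi23.Col.c, TCG_Fi23.Col.h, TCG_Fi23.Col.i, TCG_Fi23.Col.d, TCG_Fi23.Col.e, TCG_Fi23.Col.h, TCG_Fi23.Col.d, TCG_Fi23.Col.c, TCG_Fi23.Col.i, TCG_Fi23.Col.b, TCG_Fi23.Col.h, TCG_Fi23.Col.d, TCG_Fi23.Col.c, TCG_Fi23.Col.e, TCG_Fi23.Col.d, TCG_Fi23.Col.a, TCG_Fi23.Col.b, TCG_Fi23.Col.d, TCG_Fi23.Col.c, TCG_Fi23.Col.i, TCG_Fi23.Col.h, TCG_Fi23.Col.d, TCG_Fi23.Col.a, TCG_Fi23.Col.c, TCG_Fi23.Col.h, TCG_Fi23.Col.d, TCG_Fi23.Col.e, TCG_Fi23.Col.f, TCG_Fi23.Col.g, TCG_Fi23.Col.c,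 TCG_Fi23.Col.b, TCG_Fi23.Col.f, TCG_Fi23.Col.h, TCG_Fi23.Col.i, TCG_Fi23.Col.h, TCG_Fi23.Col.d, TCG_Fi23.Col.c, TCG_Fi23.Col.b, TCG_Fi23.Col.e, TCG_Fi23.Col.h, TCG_Fi23.Col.d, TCG_Fi23.Col.a, TCG_Fi23.Col.c, TCG_Fi23.Col.d, TCG_Fi23.Col.e, TCG_Fi23.Col.f, TCG_Fi23.Col.g, TCG_Fi23.Col.a, TCG_Fi23.Col.b, TCG_Fi23.Col.c, TCG_Fi23.Col.d, TCG_Fi23.Col.e, TCG_Fi23.Col.f, TCG_Fi23.Col.g, TCG_Fi23.Col.d, TCG_Fi23.Col.c, TCG_Fi23.Col.b, TCG_Fi23.Col.e, TCG_Fi23.Col.h, TCG_Fi23.Col.d, TCG_Fi23.Col.a, TCG_Fi23.Col.c, TCG_Fi23.Col.d, TCG_Fi23.Col.e, TCG_Fi23.Col.f, TCG_Fi23.Col.g, TCG_Fi23.Col.j, TCG_Fi23.Col.d, TCG_Fi23.Col.e, TCG_Fi23.Col.h, TCG_Fi23.Col.d, TCG_Fi23.Col.a, TCG_Fi23.Col.d,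 TCG_Fi23.Col.e, TCG_Fi23.Col.i, TCG_Fi23.Col.h, TCG_Fi23.Col.d, TCG_Fi23.Col.b, TCG_Fi23.Col.c, TCG_Fi23.Col.b, TCG_Fi23.Col.h, TCG_Fi23.Col.i, TCG_Fi23.Col.b, TCG_Fi23.Col.f, TCG_Fi23.Col.h, TCG_Fi23.Col.i, TCG_Fi23.Col.h, TCG_Fi23.Col.b, TCG_Fi23.Col.c, TCG_Fi23.Col.e, TCG_Fi23.Col.i, TCG_Fi23.Col.h, TCG_Fi23.Col.a, TCG_Fi23.Col.b, TCG_Fi23.Col.c, TCG_Fi23.Col.d, TCG_Fi23.Col.e, TCG_Fi23.Col.f, TCG_Fi23.Col.g, TCG_Fi23.Col.c, TCG_Fi23.Col.b, TCG_Fi23.Col.h, TCG_Fi23.Col.i, TCG_Fi23.Col.d, TCG_Fi23.Col.e, TCG_Fi23.Col.f, TCG_Fi23.Col.g, TCG_Fi23.Col.j, TCG_Fi23.Col.c, TCG_Fi23.Col.h, TCG_Fi23.Col.d, TCG_Fi23.Col.e, TCG_Fi23.Col.f, TCG_Fi23.Col.g, TCG_Fi23.Col.j, TCG_Fi23.Col.g,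 TCG_Fi23.Col.j, TCG_Fi23.Col.d, TCG_Fi23.Col.e, TCG_Fi23.Col.h, TCG_Fi23.Col.d, TCG_Fi23.Col.c, TCG_Fi23.Col.i, TCG_Fi23.Col.b, TCG_Fi23.Col.h, TCG_Fi23.Col.d, TCG_Fi23.Col.c, TCG_Fi23.Col.e, TCG_Fi23.Col.d, TCG_Fi23.Col.c, TCG_Fi23.Col.f, TCG_Fi23.Col.d, TCG_Fi23.Col.g, TCG_Fi23.Col.e, TCG_Fi23.Col.c, TCG_Fi23.Col.i, TCG_Fi23.Col.b, TCG_Fi23.Col.d, TCG_Fi23.Col.g, TCG_Fi23.Col.c, TCG_Fi23.Col.h, TCG_Fi23.Col.d, TCG_Fi23.Col.e, TCG_Fi23.Col.i, TCG_Fi23.Col.h, TCG_Fi23.Col.d, TCG_Fi23.Col.f, TCG_Fi23.Col.e, TCG_Fi23.Col.h, TCG_Fi23.Col.i, TCG_Fi23.Col.c, TCG_Fi23.Col.e, TCG_Fi23.Col.h, TCG_Fi23.Col.i, TCG_Fi23.Col.h, TCG_Fi23.Col.d, TCG_Fi23.Col.c, TCG_Fi23.Col.b, TCG_Fi23.Col.f,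 TCG_Fi23.Col.e, TCG_Fi23.Col.d, TCG_Fi23.Col.a, TCG_Fi23.Col.d, TCG_Fi23.Col.e, TCG_Fi23.Col.h, TCG_Fi23.Col.d, TCG_Fi23.Col.c, TCG_Fi23.Col.i, TCG_Fi23.Col.b, TCG_Fi23.Col.h, TCG_Fi23.Col.d, TCG_Fi23.Col.c, TCG_Fi23.Col.e, TCG_Fi23.Col.d, TCG_Fi23.Col.a, TCG_Fi23.Col.d, TCG_Fi23.Col.e, TCG_Fi23.Col.d, TCG_Fi23.Col.c, TCG_Fi23.Col.h, TCG_Fi23.Col.d, TCG_Fi23.Col.b, TCG_Fi23.Col.c, TCG_Fi23.Col.b, TCG_Fi23.Col.e, TCG_Fi23.Col.h, TCG_Fi23.Col.i, TCG_Fi23.Col.b, TCG_Fi23.Col.f, TCG_Fi23.Col.h, TCG_Fi23.Col.a, TCG_Fi23.Col.h, TCG_Fi23.Col.d, TCG_Fi23.Col.c, TCG_Fi23.Col.e, TCG_Fi23.Col.d, TCG_Fi23.Col.c, TCG_Fi23.Col.b, TCG_Fi23.Col.e, TCG_Fi23.Col.h, TCG_Fi23.Col.i, TCG_Fi23.Col.h,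 TCG_Fi23.Col.a, TCG_Fi23.Col.b, TCG_Fi23.Col.c, TCG_Fi23.Col.d, TCG_Fi23.Col.e, TCG_Fi23.Col.h, TCG_Fi23.Col.d, TCG_Fi23.Col.a, TCG_Fi23.Col.c, TCG_Fi23.Col.h, TCG_Fi23.Col.i, TCG_Fi23.Col.h, TCG_Fi23.Col.b, TCG_Fi23.Col.f, TCG_Fi23.Col.d, TCG_Fi23.Col.e, TCG_Fi23.Col.h, TCG_Fi23.Col.d, TCG_Fi23.Col.b, TCG_Fi23.Col.c, TCG_Fi23.Col.i, TCG_Fi23.Col.b, TCG_Fi23.Col.h, TCG_Fi23.Col.d, TCG_Fi23.Col.c, TCG_Fi23.Col.e, TCG_Fi23.Col.d, TCG_Fi23.Col.a, TCG_Fi23.Col.d, TCG_Fi23.Col.c, TCG_Fi23.Col.e, TCG_Fi23.Col.h, TCG_Fi23.Col.d, TCG_Fi23.Col.i, TCG_Fi23.Col.b, TCG_Fi23.Col.g, TCG_Fi23.Col.h, TCG_Fi23.Col.f, TCG_Fi23.Col.a, TCG_Fi23.Col.d, TCG_Fi23.Col.j],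
  [TCG_Fi23.Col.c, TCG_Fi23.Col.i, TCG_Fi23.Col.h, TCG_Fi23.Col.b, TCG_Fi23.Col.c, TCG_Fi23.Col.h, TCG_Fi23.Col.i, TCG_Fi23.Col.d, TCG_Fi23.Col.e, TCG_Fi23.Col.h, TCG_Fi23.Col.d, TCG_Fi23.Col.c, TCG_Fi23.Col.i, TCG_Fi23.Col.b, TCG_Fi23.Col.h, TCG_Fi23.Col.d, TCG_Fi23.Col.c, TCG_Fi23.Col.e, TCG_Fi23.Col.d, TCG_Fi23.Col.b, TCG_Fi23.Col.c, TCG_Fi23.Col.f, TCG_Fi23.Col.e, TCG_Fi23.Col.i, TCG_Fi23.Col.h, TCG_Fi23.Col.b, TCG_Fi23.Col.e, TCG_Fi23.Col.i, TCG_Fi23.Col.a, TCG_Fi23.Col.e, TCG_Fi23.Col.d, TCG_Fi23.Col.h, TCG_Fi23.Col.e, TCG_Fi23.Col.g, TCG_Fi23.Col.a, TCG_Fi23.Col.d, TCG_Fi23.Col.a, TCG_Fi23.Col.c, TCG_Fi23.Col.a, TCG_Fi23.Col.i, TCG_Fi23.Col.b, TCG_Fi23.Col.g, TCG_Fi23.Col.h,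 TCG_Fi23.Col.d, TCG_Fi23.Col.c, TCG_Fi23.Col.e, TCG_Fi23.Col.d, TCG_Fi23.Col.e, TCG_Fi23.Col.f, TCG_Fi23.Col.i, TCG_Fi23.Col.a, TCG_Fi23.Col.c, TCG_Fi23.Col.d, TCG_Fi23.Col.e, TCG_Fi23.Col.h, TCG_Fi23.Col.d, TCG_Fi23.Col.c, TCG_Fi23.Col.e, TCG_Fi23.Col.f, TCG_Fi23.Col.h, TCG_Fi23.Col.i, TCG_Fi23.Col.h, TCG_Fi23.Col.a, TCG_Fi23.Col.b, TCG_Fi23.Col.d, TCG_Fi23.Col.c, TCG_Fi23.Col.f, TCG_Fi23.Col.e, TCG_Fi23.Col.d, TCG_Fi23.Col.b, TCG_Fi23.Col.e, TCG_Fi23.Col.f, TCG_Fi23.Col.i, TCG_Fi23.Col.h, TCG_Fi23.Col.c, TCG_Fi23.Col.f, TCG_Fi23.Col.i, TCG_Fi23.Col.b, TCG_Fi23.Col.c, TCG_Fi23.Col.h, TCG_Fi23.Col.i, TCG_Fi23.Col.h, TCG_Fi23.Col.e, TCG_Fi23.Col.f, TCG_Fi23.Col.i, TCG_Fi23.Col.a,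 TCG_Fi23.Col.c, TCG_Fi23.Col.d, TCG_Fi23.Col.e, TCG_Fi23.Col.h, TCG_Fi23.Col.d, TCG_Fi23.Col.c, TCG_Fi23.Col.e, TCG_Fi23.Col.f, TCG_Fi23.Col.h, TCG_Fi23.Col.i, TCG_Fi23.Col.h, TCG_Fi23.Col.a, TCG_Fi23.Col.b, TCG_Fi23.Col.d, TCG_Fi23.Col.c, TCG_Fi23.Col.f, TCG_Fi23.Col.e, TCG_Fi23.Col.d, TCG_Fi23.Col.f, TCG_Fi23.Col.j, TCG_Fi23.Col.a, TCG_Fi23.Col.d, TCG_Fi23.Col.h, TCG_Fi23.Col.g, TCG_Fi23.Col.d, TCG_Fi23.Col.e, TCG_Fi23.Col.j, TCG_Fi23.Col.d, TCG_Fi23.Col.h, TCG_Fi23.Col.j, TCG_Fi23.Col.i, TCG_Fi23.Col.j, TCG_Fi23.Col.c, TCG_Fi23.Col.g, TCG_Fi23.Col.h, TCG_Fi23.Col.j, TCG_Fi23.Col.g, TCG_Fi23.Col.a, TCG_Fi23.Col.b, TCG_Fi23.Col.d, TCG_Fi23.Col.c, TCG_Fi23.Col.e, TCG_Fi23.Col.d,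 TCG_Fi23.Col.f, TCG_Fi23.Col.g, TCG_Fi23.Col.d, TCG_Fi23.Col.e, TCG_Fi23.Col.d, TCG_Fi23.Col.b, TCG_Fi23.Col.e, TCG_Fi23.Col.g, TCG_Fi23.Col.h, TCG_Fi23.Col.e, TCG_Fi23.Col.d, TCG_Fi23.Col.j, TCG_Fi23.Col.c, TCG_Fi23.Col.h, TCG_Fi23.Col.i, TCG_Fi23.Col.j, TCG_Fi23.Col.b, TCG_Fi23.Col.h, TCG_Fi23.Col.d, TCG_Fi23.Col.c, TCG_Fi23.Col.e, TCG_Fi23.Col.d, TCG_Fi23.Col.c, TCG_Fi23.Col.e, TCG_Fi23.Col.f, TCG_Fi23.Col.e, TCG_Fi23.Col.c, TCG_Fi23.Col.f, TCG_Fi23.Col.i, TCG_Fi23.Col.a, TCG_Fi23.Col.d, TCG_Fi23.Col.c, TCG_Fi23.Col.e, TCG_Fi23.Col.i, TCG_Fi23.Col.h, TCG_Fi23.Col.d, TCG_Fi23.Col.b, TCG_Fi23.Col.c, TCG_Fi23.Col.b, TCG_Fi23.Col.e, TCG_Fi23.Col.h, TCG_Fi23.Col.i, TCG_Fi23.Col.b,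 TCG_Fi23.Col.f, TCG_Fi23.Col.h, TCG_Fi23.Col.a, TCG_Fi23.Col.h, TCG_Fi23.Col.d, TCG_Fi23.Col.c, TCG_Fi23.Col.e, TCG_Fi23.Col.d, TCG_Fi23.Col.c, TCG_Fi23.Col.b, TCG_Fi23.Col.e, TCG_Fi23.Col.h, TCG_Fi23.Col.i, TCG_Fi23.Col.h, TCG_Fi23.Col.a, TCG_Fi23.Col.b, TCG_Fi23.Col.c, TCG_Fi23.Col.d, TCG_Fi23.Col.e, TCG_Fi23.Col.h, TCG_Fi23.Col.d, TCG_Fi23.Col.a, TCG_Fi23.Col.c, TCG_Fi23.Col.h, TCG_Fi23.Col.i, TCG_Fi23.Col.h, TCG_Fi23.Col.b, TCG_Fi23.Col.f, TCG_Fi23.Col.d, TCG_Fi23.Col.e, TCG_Fi23.Col.h, TCG_Fi23.Col.d, TCG_Fi23.Col.b, TCG_Fi23.Col.c, TCG_Fi23.Col.i, TCG_Fi23.Col.b, TCG_Fi23.Col.h, TCG_Fi23.Col.d, TCG_Fi23.Col.c, TCG_Fi23.Col.e, TCG_Fi23.Col.d, TCG_Fi23.Col.a, TCG_Fi23.Col.d,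 TCG_Fi23.Col.c, TCG_Fi23.Col.e, TCG_Fi23.Col.h, TCG_Fi23.Col.d, TCG_Fi23.Col.c, TCG_Fi23.Col.f, TCG_Fi23.Col.e, TCG_Fi23.Col.i, TCG_Fi23.Col.h, TCG_Fi23.Col.i, TCG_Fi23.Col.h, TCG_Fi23.Col.d, TCG_Fi23.Col.a, TCG_Fi23.Col.c, TCG_Fi23.Col.b, TCG_Fi23.Col.d, TCG_Fi23.Col.c, TCG_Fi23.Col.h, TCG_Fi23.Col.d, TCG_Fi23.Col.a, TCG_Fi23.Col.b, TCG_Fi23.Col.c, TCG_Fi23.Col.b, TCG_Fi23.Col.f, TCG_Fi23.Col.e, TCG_Fi23.Col.i, TCG_Fi23.Col.f, TCG_Fi23.Col.e, TCG_Fi23.Col.d, TCG_Fi23.Col.c, TCG_Fi23.Col.b, TCG_Fi23.Col.a, TCG_Fi23.Col.h, TCG_Fi23.Col.d, TCG_Fi23.Col.e, TCG_Fi23.Col.f, TCG_Fi23.Col.g, TCG_Fi23.Col.c, TCG_Fi23.Col.h, TCG_Fi23.Col.i, TCG_Fi23.Col.h, TCG_Fi23.Col.e, TCG_Fi23.Col.i,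 TCG_Fi23.Col.h, TCG_Fi23.Col.d, TCG_Fi23.Col.c, TCG_Fi23.Col.h, TCG_Fi23.Col.d, TCG_Fi23.Col.e, TCG_Fi23.Col.f, TCG_Fi23.Col.g, TCG_Fi23.Col.b, TCG_Fi23.Col.c, TCG_Fi23.Col.e, TCG_Fi23.Col.i, TCG_Fi23.Col.h, TCG_Fi23.Col.a, TCG_Fi23.Col.b, TCG_Fi23.Col.c, TCG_Fi23.Col.d, TCG_Fi23.Col.e, TCG_Fi23.Col.f, TCG_Fi23.Col.g, TCG_Fi23.Col.f, TCG_Fi23.Col.g, TCG_Fi23.Col.b, TCG_Fi23.Col.c, TCG_Fi23.Col.b, TCG_Fi23.Col.e, TCG_Fi23.Col.h, TCG_Fi23.Col.i, TCG_Fi23.Col.f, TCG_Fi23.Col.e, TCG_Fi23.Col.d, TCG_Fi23.Col.c, TCG_Fi23.Col.b, TCG_Fi23.Col.a, TCG_Fi23.Col.h, TCG_Fi23.Col.d, TCG_Fi23.Col.e, TCG_Fi23.Col.f, TCG_Fi23.Col.g, TCG_Fi23.Col.d, TCG_Fi23.Col.c, TCG_Fi23.Col.b, TCG_Fi23.Col.e,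 TCG_Fi23.Col.h, TCG_Fi23.Col.d, TCG_Fi23.Col.a, TCG_Fi23.Col.c, TCG_Fi23.Col.d, TCG_Fi23.Col.e, TCG_Fi23.Col.f, TCG_Fi23.Col.g, TCG_Fi23.Col.d, TCG_Fi23.Col.c, TCG_Fi23.Col.b, TCG_Fi23.Col.e, TCG_Fi23.Col.h, TCG_Fi23.Col.d, TCG_Fi23.Col.a, TCG_Fi23.Col.c, TCG_Fi23.Col.d, TCG_Fi23.Col.e, TCG_Fi23.Col.f, TCG_Fi23.Col.g, TCG_Fi23.Col.a, TCG_Fi23.Col.b, TCG_Fi23.Col.c, TCG_Fi23.Col.d, TCG_Fi23.Col.e, TCG_Fi23.Col.f, TCG_Fi23.Col.g, TCG_Fi23.Col.d, TCG_Fi23.Col.c, TCG_Fi23.Col.b, TCG_Fi23.Col.e, TCG_Fi23.Col.h, TCG_Fi23.Col.d, TCG_Fi23.Col.a, TCG_Fi23.Col.c, TCG_Fi23.Col.d, TCG_Fi23.Col.e, TCG_Fi23.Col.f, TCG_Fi23.Col.g, TCG_Fi23.Col.j, TCG_Fi23.Col.b, TCG_Fi23.Col.c, TCG_Fi23.Col.h,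 TCG_Fi23.Col.i, TCG_Fi23.Col.d, TCG_Fi23.Col.e, TCG_Fi23.Col.h, TCG_Fi23.Col.d, TCG_Fi23.Col.c, TCG_Fi23.Col.i, TCG_Fi23.Col.b, TCG_Fi23.Col.h, TCG_Fi23.Col.d, TCG_Fi23.Col.c, TCG_Fi23.Col.e, TCG_Fi23.Col.d, TCG_Fi23.Col.b, TCG_Fi23.Col.c, TCG_Fi23.Col.f, TCG_Fi23.Col.e, TCG_Fi23.Col.i, TCG_Fi23.Col.h, TCG_Fi23.Col.b, TCG_Fi23.Col.e, TCG_Fi23.Col.i, TCG_Fi23.Col.a, TCG_Fi23.Col.e, TCG_Fi23.Col.d, TCG_Fi23.Col.h, TCG_Fi23.Col.e, TCG_Fi23.Col.g, TCG_Fi23.Col.a, TCG_Fi23.Col.d, TCG_Fi23.Col.a, TCG_Fi23.Col.c, TCG_Fi23.Col.a, TCG_Fi23.Col.i, TCG_Fi23.Col.b, TCG_Fi23.Col.g, TCG_Fi23.Col.h, TCG_Fi23.Col.d, TCG_Fi23.Col.c, TCG_Fi23.Col.e, TCG_Fi23.Col.d, TCG_Fi23.Col.e, TCG_Fi23.Col.f,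 TCG_Fi23.Col.i, TCG_Fi23.Col.a, TCG_Fi23.Col.c, TCG_Fi23.Col.d, TCG_Fi23.Col.e, TCG_Fi23.Col.h, TCG_Fi23.Col.d, TCG_Fi23.Col.c, TCG_Fi23.Col.e, TCG_Fi23.Col.f, TCG_Fi23.Col.h, TCG_Fi23.Col.i, TCG_Fi23.Col.h, TCG_Fi23.Col.a, TCG_Fi23.Col.b, TCG_Fi23.Col.d, TCG_Fi23.Col.c, TCG_Fi23.Col.f, TCG_Fi23.Col.e, TCG_Fi23.Col.d, TCG_Fi23.Col.b, TCG_Fi23.Col.c, TCG_Fi23.Col.e, TCG_Fi23.Col.f, TCG_Fi23.Col.e, TCG_Fi23.Col.i, TCG_Fi23.Col.d, TCG_Fi23.Col.e, TCG_Fi23.Col.f, TCG_Fi23.Col.g, TCG_Fi23.Col.j, TCG_Fi23.Col.c, TCG_Fi23.Col.h, TCG_Fi23.Col.d, TCG_Fi23.Col.e, TCG_Fi23.Col.f, TCG_Fi23.Col.g, TCG_Fi23.Col.j, TCG_Fi23.Col.g, TCG_Fi23.Col.j, TCG_Fi23.Col.c, TCG_Fi23.Col.b, TCG_Fi23.Col.h,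 TCG_Fi23.Col.a, TCG_Fi23.Col.b, TCG_Fi23.Col.c, TCG_Fi23.Col.d, TCG_Fi23.Col.e, TCG_Fi23.Col.f, TCG_Fi23.Col.g, TCG_Fi23.Col.b, TCG_Fi23.Col.e, TCG_Fi23.Col.f, TCG_Fi23.Col.h, TCG_Fi23.Col.b, TCG_Fi23.Col.c, TCG_Fi23.Col.h, TCG_Fi23.Col.i, TCG_Fi23.Col.d, TCG_Fi23.Col.e, TCG_Fi23.Col.h, TCG_Fi23.Col.d, TCG_Fi23.Col.c, TCG_Fi23.Col.i, TCG_Fi23.Col.b, TCG_Fi23.Col.h, TCG_Fi23.Col.d, TCG_Fi23.Col.c, TCG_Fi23.Col.e, TCG_Fi23.Col.d, TCG_Fi23.Col.e, TCG_Fi23.Col.h, TCG_Fi23.Col.b, TCG_Fi23.Col.f, TCG_Fi23.Col.e, TCG_Fi23.Col.h, TCG_Fi23.Col.b, TCG_Fi23.Col.f, TCG_Fi23.Col.d, TCG_Fi23.Col.e, TCG_Fi23.Col.h, TCG_Fi23.Col.d, TCG_Fi23.Col.b, TCG_Fi23.Col.c, TCG_Fi23.Col.i, TCG_Fi23.Col.b,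 TCG_Fi23.Col.h, TCG_Fi23.Col.d, TCG_Fi23.Col.c, TCG_Fi23.Col.e, TCG_Fi23.Col.d, TCG_Fi23.Col.c, TCG_Fi23.Col.f, TCG_Fi23.Col.d, TCG_Fi23.Col.e, TCG_Fi23.Col.h, TCG_Fi23.Col.d, TCG_Fi23.Col.b, TCG_Fi23.Col.c, TCG_Fi23.Col.i, TCG_Fi23.Col.b, TCG_Fi23.Col.h, TCG_Fi23.Col.d, TCG_Fi23.Col.c, TCG_Fi23.Col.e, TCG_Fi23.Col.d, TCG_Fi23.Col.c, TCG_Fi23.Col.h, TCG_Fi23.Col.i, TCG_Fi23.Col.h, TCG_Fi23.Col.a, TCG_Fi23.Col.e, TCG_Fi23.Col.d, TCG_Fi23.Col.e, TCG_Fi23.Col.f, TCG_Fi23.Col.h, TCG_Fi23.Col.i, TCG_Fi23.Col.h, TCG_Fi23.Col.i, TCG_Fi23.Col.b, TCG_Fi23.Col.f, TCG_Fi23.Col.d, TCG_Fi23.Col.e, TCG_Fi23.Col.h, TCG_Fi23.Col.d, TCG_Fi23.Col.b, TCG_Fi23.Col.c, TCG_Fi23.Col.i, TCG_Fi23.Col.b,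 TCG_Fi23.Col.h, TCG_Fi23.Col.d, TCG_Fi23.Col.c, TCG_Fi23.Col.e, TCG_Fi23.Col.d, TCG_Fi23.Col.b, TCG_Fi23.Col.c, TCG_Fi23.Col.f, TCG_Fi23.Col.e, TCG_Fi23.Col.i, TCG_Fi23.Col.h, TCG_Fi23.Col.b, TCG_Fi23.Col.c, TCG_Fi23.Col.h, TCG_Fi23.Col.i, TCG_Fi23.Col.d, TCG_Fi23.Col.e, TCG_Fi23.Col.h, TCG_Fi23.Col.d, TCG_Fi23.Col.c, TCG_Fi23.Col.i, TCG_Fi23.Col.b, TCG_Fi23.Col.h, TCG_Fi23.Col.d, TCG_Fi23.Col.c, TCG_Fi23.Col.e, TCG_Fi23.Col.d, TCG_Fi23.Col.c, TCG_Fi23.Col.e, TCG_Fi23.Col.b, TCG_Fi23.Col.f, TCG_Fi23.Col.d, TCG_Fi23.Col.e, TCG_Fi23.Col.h, TCG_Fi23.Col.d, TCG_Fi23.Col.b, TCG_Fi23.Col.c, TCG_Fi23.Col.i, TCG_Fi23.Col.b, TCG_Fi23.Col.h, TCG_Fi23.Col.d, TCG_Fi23.Col.c, TCG_Fi23.Col.e,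 TCG_Fi23.Col.d, TCG_Fi23.Col.f, TCG_Fi23.Col.g, TCG_Fi23.Col.j, TCG_Fi23.Col.g, TCG_Fi23.Col.h, TCG_Fi23.Col.f, TCG_Fi23.Col.e, TCG_Fi23.Col.b, TCG_Fi23.Col.c, TCG_Fi23.Col.b, TCG_Fi23.Col.d, TCG_Fi23.Col.h, TCG_Fi23.Col.d, TCG_Fi23.Col.g],
  [TCG_Fi23.Col.b, TCG_Fi23.Col.c, TCG_Fi23.Col.h, TCG_Fi23.Col.i, TCG_Fi23.Col.d, TCG_Fi23.Col.e, TCG_Fi23.Col.h, TCG_Fi23.Col.d, TCG_Fi23.Col.c, TCG_Fi23.Col.i, TCG_Fi23.Col.b, TCG_Fi23.Col.h, TCG_Fi23.Col.d, TCG_Fi23.Col.c, TCG_Fi23.Col.e, TCG_Fi23.Col.d, TCG_Fi23.Col.b, TCG_Fi23.Col.c, TCG_Fi23.Col.f, TCG_Fi23.Col.e, TCG_Fi23.Col.i, TCG_Fi23.Col.h, TCG_Fi23.Col.d, TCG_Fi23.Col.e, TCG_Fi23.Col.h, TCG_Fi23.Col.d, TCG_Fi23.Col.c, TCG_Fi23.Col.i,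 TCG_Fi23.Col.b, TCG_Fi23.Col.h, TCG_Fi23.Col.d, TCG_Fi23.Col.c, TCG_Fi23.Col.e, TCG_Fi23.Col.d, TCG_Fi23.Col.c, TCG_Fi23.Col.f, TCG_Fi23.Col.e, TCG_Fi23.Col.h, TCG_Fi23.Col.i, TCG_Fi23.Col.c, TCG_Fi23.Col.b, TCG_Fi23.Col.h, TCG_Fi23.Col.i, TCG_Fi23.Col.c, TCG_Fi23.Col.b, TCG_Fi23.Col.d, TCG_Fi23.Col.e, TCG_Fi23.Col.h, TCG_Fi23.Col.d, TCG_Fi23.Col.b, TCG_Fi23.Col.c, TCG_Fi23.Col.i, TCG_Fi23.Col.h, TCG_Fi23.Col.d, TCG_Fi23.Col.b, TCG_Fi23.Col.c, TCG_Fi23.Col.e, TCG_Fi23.Col.d, TCG_Fi23.Col.b, TCG_Fi23.Col.c, TCG_Fi23.Col.b, TCG_Fi23.Col.e, TCG_Fi23.Col.h, TCG_Fi23.Col.i, TCG_Fi23.Col.f, TCG_Fi23.Col.e, TCG_Fi23.Col.d, TCG_Fi23.Col.c, TCG_Fi23.Col.b, TCG_Fi23.Col.a, TCG_Fi23.Col.h,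 TCG_Fi23.Col.d, TCG_Fi23.Col.e, TCG_Fi23.Col.f, TCG_Fi23.Col.g, TCG_Fi23.Col.d, TCG_Fi23.Col.c, TCG_Fi23.Col.b, TCG_Fi23.Col.e, TCG_Fi23.Col.h, TCG_Fi23.Col.d, TCG_Fi23.Col.a, TCG_Fi23.Col.c, TCG_Fi23.Col.d, TCG_Fi23.Col.e, TCG_Fi23.Col.f, TCG_Fi23.Col.g, TCG_Fi23.Col.d, TCG_Fi23.Col.c, TCG_Fi23.Col.b, TCG_Fi23.Col.e, TCG_Fi23.Col.h, TCG_Fi23.Col.d, TCG_Fi23.Col.a, TCG_Fi23.Col.c, TCG_Fi23.Col.d, TCG_Fi23.Col.e, TCG_Fi23.Col.f, TCG_Fi23.Col.g, TCG_Fi23.Col.a, TCG_Fi23.Col.b, TCG_Fi23.Col.c, TCG_Fi23.Col.d, TCG_Fi23.Col.e, TCG_Fi23.Col.f, TCG_Fi23.Col.g, TCG_Fi23.Col.d, TCG_Fi23.Col.c, TCG_Fi23.Col.b, TCG_Fi23.Col.e, TCG_Fi23.Col.h, TCG_Fi23.Col.d, TCG_Fi23.Col.a, TCG_Fi23.Col.c,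 TCG_Fi23.Col.d, TCG_Fi23.Col.e, TCG_Fi23.Col.f, TCG_Fi23.Col.g, TCG_Fi23.Col.j, TCG_Fi23.Col.a, TCG_Fi23.Col.d, TCG_Fi23.Col.c, TCG_Fi23.Col.e, TCG_Fi23.Col.i, TCG_Fi23.Col.h, TCG_Fi23.Col.d, TCG_Fi23.Col.b, TCG_Fi23.Col.c, TCG_Fi23.Col.b, TCG_Fi23.Col.e, TCG_Fi23.Col.h, TCG_Fi23.Col.i, TCG_Fi23.Col.b, TCG_Fi23.Col.f, TCG_Fi23.Col.h, TCG_Fi23.Col.a, TCG_Fi23.Col.h, TCG_Fi23.Col.d, TCG_Fi23.Col.c, TCG_Fi23.Col.e, TCG_Fi23.Col.d, TCG_Fi23.Col.c, TCG_Fi23.Col.b, TCG_Fi23.Col.e, TCG_Fi23.Col.h, TCG_Fi23.Col.i, TCG_Fi23.Col.h, TCG_Fi23.Col.a, TCG_Fi23.Col.b, TCG_Fi23.Col.c, TCG_Fi23.Col.d, TCG_Fi23.Col.e, TCG_Fi23.Col.h, TCG_Fi23.Col.d, TCG_Fi23.Col.a, TCG_Fi23.Col.c, TCG_Fi23.Col.h,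 TCG_Fi23.Col.i, TCG_Fi23.Col.h, TCG_Fi23.Col.b, TCG_Fi23.Col.f, TCG_Fi23.Col.d, TCG_Fi23.Col.e, TCG_Fi23.Col.h, TCG_Fi23.Col.d, TCG_Fi23.Col.b, TCG_Fi23.Col.c, TCG_Fi23.Col.i, TCG_Fi23.Col.b, TCG_Fi23.Col.h, TCG_Fi23.Col.d, TCG_Fi23.Col.c, TCG_Fi23.Col.e, TCG_Fi23.Col.d, TCG_Fi23.Col.a, TCG_Fi23.Col.d, TCG_Fi23.Col.c, TCG_Fi23.Col.e, TCG_Fi23.Col.h, TCG_Fi23.Col.d, TCG_Fi23.Col.c, TCG_Fi23.Col.f, TCG_Fi23.Col.e, TCG_Fi23.Col.i, TCG_Fi23.Col.h, TCG_Fi23.Col.a, TCG_Fi23.Col.c, TCG_Fi23.Col.d, TCG_Fi23.Col.e, TCG_Fi23.Col.h, TCG_Fi23.Col.d, TCG_Fi23.Col.c, TCG_Fi23.Col.e, TCG_Fi23.Col.f, TCG_Fi23.Col.h, TCG_Fi23.Col.i, TCG_Fi23.Col.h, TCG_Fi23.Col.a, TCG_Fi23.Col.b, TCG_Fi23.Col.d,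 TCG_Fi23.Col.c, TCG_Fi23.Col.f, TCG_Fi23.Col.e, TCG_Fi23.Col.d, TCG_Fi23.Col.e, TCG_Fi23.Col.f, TCG_Fi23.Col.i, TCG_Fi23.Col.c, TCG_Fi23.Col.b, TCG_Fi23.Col.h, TCG_Fi23.Col.a, TCG_Fi23.Col.b, TCG_Fi23.Col.c, TCG_Fi23.Col.d, TCG_Fi23.Col.e, TCG_Fi23.Col.f, TCG_Fi23.Col.g, TCG_Fi23.Col.b, TCG_Fi23.Col.c, TCG_Fi23.Col.e, TCG_Fi23.Col.f, TCG_Fi23.Col.e, TCG_Fi23.Col.i, TCG_Fi23.Col.d, TCG_Fi23.Col.e, TCG_Fi23.Col.f, TCG_Fi23.Col.g, TCG_Fi23.Col.j, TCG_Fi23.Col.c, TCG_Fi23.Col.h, TCG_Fi23.Col.d, TCG_Fi23.Col.e, TCG_Fi23.Col.f, TCG_Fi23.Col.g, TCG_Fi23.Col.j, TCG_Fi23.Col.g, TCG_Fi23.Col.j, TCG_Fi23.Col.c, TCG_Fi23.Col.b, TCG_Fi23.Col.d, TCG_Fi23.Col.e, TCG_Fi23.Col.f, TCG_Fi23.Col.g,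 TCG_Fi23.Col.j, TCG_Fi23.Col.c, TCG_Fi23.Col.h, TCG_Fi23.Col.d, TCG_Fi23.Col.e, TCG_Fi23.Col.f, TCG_Fi23.Col.g, TCG_Fi23.Col.j, TCG_Fi23.Col.g, TCG_Fi23.Col.j, TCG_Fi23.Col.c, TCG_Fi23.Col.h, TCG_Fi23.Col.d, TCG_Fi23.Col.e, TCG_Fi23.Col.f, TCG_Fi23.Col.g, TCG_Fi23.Col.e, TCG_Fi23.Col.f, TCG_Fi23.Col.g, TCG_Fi23.Col.a, TCG_Fi23.Col.b, TCG_Fi23.Col.a, TCG_Fi23.Col.c, TCG_Fi23.Col.i, TCG_Fi23.Col.h, TCG_Fi23.Col.d, TCG_Fi23.Col.a, TCG_Fi23.Col.b, TCG_Fi23.Col.c, TCG_Fi23.Col.d, TCG_Fi23.Col.e, TCG_Fi23.Col.f, TCG_Fi23.Col.g, TCG_Fi23.Col.d, TCG_Fi23.Col.c, TCG_Fi23.Col.b, TCG_Fi23.Col.e, TCG_Fi23.Col.h, TCG_Fi23.Col.d, TCG_Fi23.Col.a, TCG_Fi23.Col.c, TCG_Fi23.Col.d, TCG_Fi23.Col.e,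 TCG_Fi23.Col.f, TCG_Fi23.Col.g, TCG_Fi23.Col.a, TCG_Fi23.Col.b, TCG_Fi23.Col.d, TCG_Fi23.Col.c, TCG_Fi23.Col.e, TCG_Fi23.Col.h, TCG_Fi23.Col.e, TCG_Fi23.Col.h, TCG_Fi23.Col.d, TCG_Fi23.Col.c, TCG_Fi23.Col.i, TCG_Fi23.Col.b, TCG_Fi23.Col.h, TCG_Fi23.Col.d, TCG_Fi23.Col.c, TCG_Fi23.Col.e, TCG_Fi23.Col.d, TCG_Fi23.Col.c, TCG_Fi23.Col.f, TCG_Fi23.Col.e, TCG_Fi23.Col.h, TCG_Fi23.Col.i, TCG_Fi23.Col.b, TCG_Fi23.Col.c, TCG_Fi23.Col.h, TCG_Fi23.Col.i, TCG_Fi23.Col.d, TCG_Fi23.Col.e, TCG_Fi23.Col.h, TCG_Fi23.Col.d, TCG_Fi23.Col.c, TCG_Fi23.Col.i, TCG_Fi23.Col.b, TCG_Fi23.Col.h, TCG_Fi23.Col.d, TCG_Fi23.Col.c, TCG_Fi23.Col.e, TCG_Fi23.Col.d, TCG_Fi23.Col.b, TCG_Fi23.Col.c, TCG_Fi23.Col.f,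 TCG_Fi23.Col.e, TCG_Fi23.Col.i, TCG_Fi23.Col.h, TCG_Fi23.Col.c, TCG_Fi23.Col.e, TCG_Fi23.Col.f, TCG_Fi23.Col.h, TCG_Fi23.Col.i, TCG_Fi23.Col.a, TCG_Fi23.Col.d, TCG_Fi23.Col.c, TCG_Fi23.Col.f, TCG_Fi23.Col.e, TCG_Fi23.Col.h, TCG_Fi23.Col.d, TCG_Fi23.Col.e, TCG_Fi23.Col.h, TCG_Fi23.Col.i, TCG_Fi23.Col.h, TCG_Fi23.Col.b, TCG_Fi23.Col.c, TCG_Fi23.Col.b, TCG_Fi23.Col.e, TCG_Fi23.Col.h, TCG_Fi23.Col.i, TCG_Fi23.Col.b, TCG_Fi23.Col.f, TCG_Fi23.Col.h, TCG_Fi23.Col.a, TCG_Fi23.Col.h, TCG_Fi23.Col.d, TCG_Fi23.Col.c, TCG_Fi23.Col.e, TCG_Fi23.Col.d, TCG_Fi23.Col.c, TCG_Fi23.Col.b, TCG_Fi23.Col.e, TCG_Fi23.Col.h, TCG_Fi23.Col.i, TCG_Fi23.Col.h, TCG_Fi23.Col.a, TCG_Fi23.Col.b, TCG_Fi23.Col.c,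 TCG_Fi23.Col.d, TCG_Fi23.Col.e, TCG_Fi23.Col.h, TCG_Fi23.Col.d, TCG_Fi23.Col.a, TCG_Fi23.Col.c, TCG_Fi23.Col.h, TCG_Fi23.Col.i, TCG_Fi23.Col.h, TCG_Fi23.Col.b, TCG_Fi23.Col.f, TCG_Fi23.Col.d, TCG_Fi23.Col.e, TCG_Fi23.Col.h, TCG_Fi23.Col.d, TCG_Fi23.Col.b, TCG_Fi23.Col.c, TCG_Fi23.Col.i, TCG_Fi23.Col.b, TCG_Fi23.Col.h, TCG_Fi23.Col.d, TCG_Fi23.Col.c, TCG_Fi23.Col.e, TCG_Fi23.Col.d, TCG_Fi23.Col.c, TCG_Fi23.Col.b, TCG_Fi23.Col.e, TCG_Fi23.Col.h, TCG_Fi23.Col.i, TCG_Fi23.Col.h, TCG_Fi23.Col.a, TCG_Fi23.Col.d, TCG_Fi23.Col.c, TCG_Fi23.Col.e, TCG_Fi23.Col.h, TCG_Fi23.Col.d, TCG_Fi23.Col.c, TCG_Fi23.Col.e, TCG_Fi23.Col.f, TCG_Fi23.Col.h, TCG_Fi23.Col.i, TCG_Fi23.Col.h, TCG_Fi23.Col.g,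 TCG_Fi23.Col.f, TCG_Fi23.Col.c, TCG_Fi23.Col.e, TCG_Fi23.Col.d, TCG_Fi23.Col.a, TCG_Fi23.Col.h, TCG_Fi23.Col.b],
  [TCG_Fi23.Col.a, TCG_Fi23.Col.b, TCG_Fi23.Col.c, TCG_Fi23.Col.d, TCG_Fi23.Col.e, TCG_Fi23.Col.f, TCG_Fi23.Col.g, TCG_Fi23.Col.d, TCG_Fi23.Col.c, TCG_Fi23.Col.b, TCG_Fi23.Col.e, TCG_Fi23.Col.h, TCG_Fi23.Col.d, TCG_Fi23.Col.a, TCG_Fi23.Col.c, TCG_Fi23.Col.d, TCG_Fi23.Col.e, TCG_Fi23.Col.f, TCG_Fi23.Col.g, TCG_Fi23.Col.j, TCG_Fi23.Col.f, TCG_Fi23.Col.g, TCG_Fi23.Col.b, TCG_Fi23.Col.a, TCG_Fi23.Col.c, TCG_Fi23.Col.d, TCG_Fi23.Col.e, TCG_Fi23.Col.f, TCG_Fi23.Col.e, TCG_Fi23.Col.h, TCG_Fi23.Col.b, TCG_Fi23.Col.c, TCG_Fi23.Col.b, TCG_Fi23.Col.a, TCG_Fi23.Col.d, TCG_Fi23.Col.c,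 TCG_Fi23.Col.f, TCG_Fi23.Col.e, TCG_Fi23.Col.d, TCG_Fi23.Col.c, TCG_Fi23.Col.b, TCG_Fi23.Col.a, TCG_Fi23.Col.b, TCG_Fi23.Col.c, TCG_Fi23.Col.f, TCG_Fi23.Col.e, TCG_Fi23.Col.h, TCG_Fi23.Col.d, TCG_Fi23.Col.a, TCG_Fi23.Col.b, TCG_Fi23.Col.c, TCG_Fi23.Col.b, TCG_Fi23.Col.e, TCG_Fi23.Col.f, TCG_Fi23.Col.h, TCG_Fi23.Col.d, TCG_Fi23.Col.e, TCG_Fi23.Col.f, TCG_Fi23.Col.g, TCG_Fi23.Col.c, TCG_Fi23.Col.d, TCG_Fi23.Col.e, TCG_Fi23.Col.f, TCG_Fi23.Col.g, TCG_Fi23.Col.f, TCG_Fi23.Col.g, TCG_Fi23.Col.a, TCG_Fi23.Col.f, TCG_Fi23.Col.b, TCG_Fi23.Col.a, TCG_Fi23.Col.g, TCG_Fi23.Col.j],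
  [TCG_Fi23.Col.b, TCG_Fi23.Col.f, TCG_Fi23.Col.i, TCG_Fi23.Col.h, TCG_Fi23.Col.c, TCG_Fi23.Col.f, TCG_Fi23.Col.h, TCG_Fi23.Col.b, TCG_Fi23.Col.c, TCG_Fi23.Col.e, TCG_Fi23.Col.h, TCG_Fi23.Col.i, TCG_Fi23.Col.h, TCG_Fi23.Col.c, TCG_Fi23.Col.f, TCG_Fi23.Col.e, TCG_Fi23.Col.h, TCG_Fi23.Col.i, TCG_Fi23.Col.d, TCG_Fi23.Col.e, TCG_Fi23.Col.h, TCG_Fi23.Col.d, TCG_Fi23.Col.c, TCG_Fi23.Col.i, TCG_Fi23.Col.b, TCG_Fi23.Col.h, TCG_Fi23.Col.d, TCG_Fi23.Col.c, TCG_Fi23.Col.e, TCG_Fi23.Col.d, TCG_Fi23.Col.b, TCG_Fi23.Col.c, TCG_Fi23.Col.b, TCG_Fi23.Col.e, TCG_Fi23.Col.h, TCG_Fi23.Col.i, TCG_Fi23.Col.b, TCG_Fi23.Col.f, TCG_Fi23.Col.h, TCG_Fi23.Col.a, TCG_Fi23.Col.h, TCG_Fi23.Col.d, TCG_Fi23.Col.c,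 TCG_Fi23.Col.e, TCG_Fi23.Col.d, TCG_Fi23.Col.c, TCG_Fi23.Col.b, TCG_Fi23.Col.e, TCG_Fi23.Col.h, TCG_Fi23.Col.i, TCG_Fi23.Col.h, TCG_Fi23.Col.a, TCG_Fi23.Col.b, TCG_Fi23.Col.c, TCG_Fi23.Col.d, TCG_Fi23.Col.e, TCG_Fi23.Col.h, TCG_Fi23.Col.d, TCG_Fi23.Col.a, TCG_Fi23.Col.c, TCG_Fi23.Col.h, TCG_Fi23.Col.i, TCG_Fi23.Col.h, TCG_Fi23.Col.b, TCG_Fi23.Col.f, TCG_Fi23.Col.d, TCG_Fi23.Col.e, TCG_Fi23.Col.h, TCG_Fi23.Col.d, TCG_Fi23.Col.b, TCG_Fi23.Col.c, TCG_Fi23.Col.i, TCG_Fi23.Col.b, TCG_Fi23.Col.h, TCG_Fi23.Col.d, TCG_Fi23.Col.c, TCG_Fi23.Col.e, TCG_Fi23.Col.d, TCG_Fi23.Col.b, TCG_Fi23.Col.c, TCG_Fi23.Col.e, TCG_Fi23.Col.b, TCG_Fi23.Col.c, TCG_Fi23.Col.b, TCG_Fi23.Col.e, TCG_Fi23.Col.h,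 TCG_Fi23.Col.i, TCG_Fi23.Col.b, TCG_Fi23.Col.f, TCG_Fi23.Col.h, TCG_Fi23.Col.a, TCG_Fi23.Col.h, TCG_Fi23.Col.d, TCG_Fi23.Col.c, TCG_Fi23.Col.e, TCG_Fi23.Col.d, TCG_Fi23.Col.c, TCG_Fi23.Col.b, TCG_Fi23.Col.e, TCG_Fi23.Col.h, TCG_Fi23.Col.i, TCG_Fi23.Col.h, TCG_Fi23.Col.a, TCG_Fi23.Col.b, TCG_Fi23.Col.c, TCG_Fi23.Col.d, TCG_Fi23.Col.e, TCG_Fi23.Col.h, TCG_Fi23.Col.d, TCG_Fi23.Col.a, TCG_Fi23.Col.c, TCG_Fi23.Col.h, TCG_Fi23.Col.i, TCG_Fi23.Col.h, TCG_Fi23.Col.b, TCG_Fi23.Col.f, TCG_Fi23.Col.d, TCG_Fi23.Col.e, TCG_Fi23.Col.h, TCG_Fi23.Col.d, TCG_Fi23.Col.b, TCG_Fi23.Col.c, TCG_Fi23.Col.i, TCG_Fi23.Col.b, TCG_Fi23.Col.h, TCG_Fi23.Col.d, TCG_Fi23.Col.c, TCG_Fi23.Col.e, TCG_Fi23.Col.d,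 TCG_Fi23.Col.h, TCG_Fi23.Col.i, TCG_Fi23.Col.a, TCG_Fi23.Col.d, TCG_Fi23.Col.e, TCG_Fi23.Col.d, TCG_Fi23.Col.c, TCG_Fi23.Col.h, TCG_Fi23.Col.d, TCG_Fi23.Col.b, TCG_Fi23.Col.c, TCG_Fi23.Col.b, TCG_Fi23.Col.e, TCG_Fi23.Col.h, TCG_Fi23.Col.i, TCG_Fi23.Col.b, TCG_Fi23.Col.f, TCG_Fi23.Col.h, TCG_Fi23.Col.a, TCG_Fi23.Col.h, TCG_Fi23.Col.d, TCG_Fi23.Col.c, TCG_Fi23.Col.e, TCG_Fi23.Col.d, TCG_Fi23.Col.c, TCG_Fi23.Col.b, TCG_Fi23.Col.e, TCG_Fi23.Col.h, TCG_Fi23.Col.i, TCG_Fi23.Col.h, TCG_Fi23.Col.a, TCG_Fi23.Col.b, TCG_Fi23.Col.c, TCG_Fi23.Col.d, TCG_Fi23.Col.e, TCG_Fi23.Col.h, TCG_Fi23.Col.d, TCG_Fi23.Col.a, TCG_Fi23.Col.c, TCG_Fi23.Col.h, TCG_Fi23.Col.i, TCG_Fi23.Col.h, TCG_Fi23.Col.b,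 TCG_Fi23.Col.f, TCG_Fi23.Col.d, TCG_Fi23.Col.e, TCG_Fi23.Col.h, TCG_Fi23.Col.d, TCG_Fi23.Col.b, TCG_Fi23.Col.c, TCG_Fi23.Col.i, TCG_Fi23.Col.b, TCG_Fi23.Col.h, TCG_Fi23.Col.d, TCG_Fi23.Col.c, TCG_Fi23.Col.e, TCG_Fi23.Col.d, TCG_Fi23.Col.a, TCG_Fi23.Col.d, TCG_Fi23.Col.c, TCG_Fi23.Col.e, TCG_Fi23.Col.h, TCG_Fi23.Col.d, TCG_Fi23.Col.i, TCG_Fi23.Col.e, TCG_Fi23.Col.f, TCG_Fi23.Col.h, TCG_Fi23.Col.i, TCG_Fi23.Col.b, TCG_Fi23.Col.c, TCG_Fi23.Col.b, TCG_Fi23.Col.h, TCG_Fi23.Col.i, TCG_Fi23.Col.h, TCG_Fi23.Col.b, TCG_Fi23.Col.e, TCG_Fi23.Col.f, TCG_Fi23.Col.e, TCG_Fi23.Col.h, TCG_Fi23.Col.a, TCG_Fi23.Col.e, TCG_Fi23.Col.h, TCG_Fi23.Col.d, TCG_Fi23.Col.a, TCG_Fi23.Col.d, TCG_Fi23.Col.i,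 TCG_Fi23.Col.h, TCG_Fi23.Col.b, TCG_Fi23.Col.e, TCG_Fi23.Col.h, TCG_Fi23.Col.i, TCG_Fi23.Col.h, TCG_Fi23.Col.b, TCG_Fi23.Col.c, TCG_Fi23.Col.b, TCG_Fi23.Col.h, TCG_Fi23.Col.i, TCG_Fi23.Col.b, TCG_Fi23.Col.f, TCG_Fi23.Col.h, TCG_Fi23.Col.i, TCG_Fi23.Col.h, TCG_Fi23.Col.b, TCG_Fi23.Col.c, TCG_Fi23.Col.e, TCG_Fi23.Col.i, TCG_Fi23.Col.h, TCG_Fi23.Col.a, TCG_Fi23.Col.b, TCG_Fi23.Col.c, TCG_Fi23.Col.d, TCG_Fi23.Col.e, TCG_Fi23.Col.f, TCG_Fi23.Col.g, TCG_Fi23.Col.c, TCG_Fi23.Col.b, TCG_Fi23.Col.h, TCG_Fi23.Col.i, TCG_Fi23.Col.d, TCG_Fi23.Col.e, TCG_Fi23.Col.f, TCG_Fi23.Col.g, TCG_Fi23.Col.j, TCG_Fi23.Col.c, TCG_Fi23.Col.h, TCG_Fi23.Col.d, TCG_Fi23.Col.e, TCG_Fi23.Col.f, TCG_Fi23.Col.g,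 TCG_Fi23.Col.j, TCG_Fi23.Col.g, TCG_Fi23.Col.j, TCG_Fi23.Col.b, TCG_Fi23.Col.c, TCG_Fi23.Col.d, TCG_Fi23.Col.e, TCG_Fi23.Col.f, TCG_Fi23.Col.g, TCG_Fi23.Col.d, TCG_Fi23.Col.e, TCG_Fi23.Col.f, TCG_Fi23.Col.g, TCG_Fi23.Col.c, TCG_Fi23.Col.b, TCG_Fi23.Col.d, TCG_Fi23.Col.e, TCG_Fi23.Col.f, TCG_Fi23.Col.g, TCG_Fi23.Col.j, TCG_Fi23.Col.c, TCG_Fi23.Col.h, TCG_Fi23.Col.d, TCG_Fi23.Col.e, TCG_Fi23.Col.f, TCG_Fi23.Col.g, TCG_Fi23.Col.j, TCG_Fi23.Col.g, TCG_Fi23.Col.j, TCG_Fi23.Col.c, TCG_Fi23.Col.h, TCG_Fi23.Col.d, TCG_Fi23.Col.e, TCG_Fi23.Col.f, TCG_Fi23.Col.g, TCG_Fi23.Col.e, TCG_Fi23.Col.f, TCG_Fi23.Col.g, TCG_Fi23.Col.a, TCG_Fi23.Col.b, TCG_Fi23.Col.a, TCG_Fi23.Col.c, TCG_Fi23.Col.i,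 TCG_Fi23.Col.h, TCG_Fi23.Col.d, TCG_Fi23.Col.a, TCG_Fi23.Col.b, TCG_Fi23.Col.c, TCG_Fi23.Col.d, TCG_Fi23.Col.e, TCG_Fi23.Col.f, TCG_Fi23.Col.g, TCG_Fi23.Col.d, TCG_Fi23.Col.c, TCG_Fi23.Col.b, TCG_Fi23.Col.e, TCG_Fi23.Col.h, TCG_Fi23.Col.d, TCG_Fi23.Col.a, TCG_Fi23.Col.c, TCG_Fi23.Col.d, TCG_Fi23.Col.e, TCG_Fi23.Col.f, TCG_Fi23.Col.g, TCG_Fi23.Col.j, TCG_Fi23.Col.c, TCG_Fi23.Col.b, TCG_Fi23.Col.f, TCG_Fi23.Col.h, TCG_Fi23.Col.i, TCG_Fi23.Col.h, TCG_Fi23.Col.d, TCG_Fi23.Col.c, TCG_Fi23.Col.b, TCG_Fi23.Col.e, TCG_Fi23.Col.h, TCG_Fi23.Col.d, TCG_Fi23.Col.a, TCG_Fi23.Col.c, TCG_Fi23.Col.d, TCG_Fi23.Col.e, TCG_Fi23.Col.f, TCG_Fi23.Col.g, TCG_Fi23.Col.a, TCG_Fi23.Col.b, TCG_Fi23.Col.c,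 TCG_Fi23.Col.d, TCG_Fi23.Col.e, TCG_Fi23.Col.f, TCG_Fi23.Col.g, TCG_Fi23.Col.d, TCG_Fi23.Col.c, TCG_Fi23.Col.b, TCG_Fi23.Col.e, TCG_Fi23.Col.h, TCG_Fi23.Col.d, TCG_Fi23.Col.a, TCG_Fi23.Col.c, TCG_Fi23.Col.d, TCG_Fi23.Col.e, TCG_Fi23.Col.f, TCG_Fi23.Col.g, TCG_Fi23.Col.j, TCG_Fi23.Col.d, TCG_Fi23.Col.e, TCG_Fi23.Col.f, TCG_Fi23.Col.g, TCG_Fi23.Col.j, TCG_Fi23.Col.c, TCG_Fi23.Col.h, TCG_Fi23.Col.d, TCG_Fi23.Col.e, TCG_Fi23.Col.f, TCG_Fi23.Col.g, TCG_Fi23.Col.j, TCG_Fi23.Col.h, TCG_Fi23.Col.i, TCG_Fi23.Col.h, TCG_Fi23.Col.c, TCG_Fi23.Col.b, TCG_Fi23.Col.h, TCG_Fi23.Col.i, TCG_Fi23.Col.d, TCG_Fi23.Col.e, TCG_Fi23.Col.f, TCG_Fi23.Col.g, TCG_Fi23.Col.j, TCG_Fi23.Col.c, TCG_Fi23.Col.h,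 TCG_Fi23.Col.d, TCG_Fi23.Col.e, TCG_Fi23.Col.f, TCG_Fi23.Col.g, TCG_Fi23.Col.j, TCG_Fi23.Col.g, TCG_Fi23.Col.j, TCG_Fi23.Col.b, TCG_Fi23.Col.c, TCG_Fi23.Col.e, TCG_Fi23.Col.i, TCG_Fi23.Col.h, TCG_Fi23.Col.a, TCG_Fi23.Col.b, TCG_Fi23.Col.c, TCG_Fi23.Col.d, TCG_Fi23.Col.e, TCG_Fi23.Col.f, TCG_Fi23.Col.g, TCG_Fi23.Col.a, TCG_Fi23.Col.b, TCG_Fi23.Col.d, TCG_Fi23.Col.c, TCG_Fi23.Col.f, TCG_Fi23.Col.e, TCG_Fi23.Col.d, TCG_Fi23.Col.f, TCG_Fi23.Col.g, TCG_Fi23.Col.e, TCG_Fi23.Col.f, TCG_Fi23.Col.g, TCG_Fi23.Col.j, TCG_Fi23.Col.a, TCG_Fi23.Col.d, TCG_Fi23.Col.e, TCG_Fi23.Col.i, TCG_Fi23.Col.h, TCG_Fi23.Col.d, TCG_Fi23.Col.j, TCG_Fi23.Col.g, TCG_Fi23.Col.b, TCG_Fi23.Col.f, TCG_Fi23.Col.h,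 TCG_Fi23.Col.i, TCG_Fi23.Col.h, TCG_Fi23.Col.b, TCG_Fi23.Col.c, TCG_Fi23.Col.e, TCG_Fi23.Col.i, TCG_Fi23.Col.h, TCG_Fi23.Col.a, TCG_Fi23.Col.b, TCG_Fi23.Col.c, TCG_Fi23.Col.d, TCG_Fi23.Col.e, TCG_Fi23.Col.f, TCG_Fi23.Col.g, TCG_Fi23.Col.c, TCG_Fi23.Col.b, TCG_Fi23.Col.h, TCG_Fi23.Col.i, TCG_Fi23.Col.d, TCG_Fi23.Col.e, TCG_Fi23.Col.f, TCG_Fi23.Col.g, TCG_Fi23.Col.j, TCG_Fi23.Col.c, TCG_Fi23.Col.h, TCG_Fi23.Col.d, TCG_Fi23.Col.e, TCG_Fi23.Col.f, TCG_Fi23.Col.g, TCG_Fi23.Col.j, TCG_Fi23.Col.g, TCG_Fi23.Col.j, TCG_Fi23.Col.c, TCG_Fi23.Col.h, TCG_Fi23.Col.d, TCG_Fi23.Col.e, TCG_Fi23.Col.f, TCG_Fi23.Col.g, TCG_Fi23.Col.d, TCG_Fi23.Col.e, TCG_Fi23.Col.f, TCG_Fi23.Col.g, TCG_Fi23.Col.j,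 TCG_Fi23.Col.c, TCG_Fi23.Col.h, TCG_Fi23.Col.d, TCG_Fi23.Col.e, TCG_Fi23.Col.f, TCG_Fi23.Col.g, TCG_Fi23.Col.j, TCG_Fi23.Col.g, TCG_Fi23.Col.j, TCG_Fi23.Col.c, TCG_Fi23.Col.b, TCG_Fi23.Col.h, TCG_Fi23.Col.a, TCG_Fi23.Col.b, TCG_Fi23.Col.c, TCG_Fi23.Col.d, TCG_Fi23.Col.e, TCG_Fi23.Col.f, TCG_Fi23.Col.g, TCG_Fi23.Col.a, TCG_Fi23.Col.b, TCG_Fi23.Col.a, TCG_Fi23.Col.c, TCG_Fi23.Col.e, TCG_Fi23.Col.d, TCG_Fi23.Col.e, TCG_Fi23.Col.h, TCG_Fi23.Col.d, TCG_Fi23.Col.e, TCG_Fi23.Col.f, TCG_Fi23.Col.g, TCG_Fi23.Col.j, TCG_Fi23.Col.a, TCG_Fi23.Col.b, TCG_Fi23.Col.d, TCG_Fi23.Col.c, TCG_Fi23.Col.i, TCG_Fi23.Col.h, TCG_Fi23.Col.d, TCG_Fi23.Col.a, TCG_Fi23.Col.c, TCG_Fi23.Col.h, TCG_Fi23.Col.d,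 TCG_Fi23.Col.e, TCG_Fi23.Col.f, TCG_Fi23.Col.g, TCG_Fi23.Col.j, TCG_Fi23.Col.g, TCG_Fi23.Col.j, TCG_Fi23.Col.e, TCG_Fi23.Col.f, TCG_Fi23.Col.h, TCG_Fi23.Col.d, TCG_Fi23.Col.c, TCG_Fi23.Col.b, TCG_Fi23.Col.e, TCG_Fi23.Col.h, TCG_Fi23.Col.d, TCG_Fi23.Col.a, TCG_Fi23.Col.c, TCG_Fi23.Col.d, TCG_Fi23.Col.e, TCG_Fi23.Col.f, TCG_Fi23.Col.b, TCG_Fi23.Col.i, TCG_Fi23.Col.c, TCG_Fi23.Col.d, TCG_Fi23.Col.h, TCG_Fi23.Col.g, TCG_Fi23.Col.a, TCG_Fi23.Col.e, TCG_Fi23.Col.b, TCG_Fi23.Col.f, TCG_Fi23.Col.d, TCG_Fi23.Col.a, TCG_Fi23.Col.b, TCG_Fi23.Col.c, TCG_Fi23.Col.h, TCG_Fi23.Col.b, TCG_Fi23.Col.f, TCG_Fi23.Col.e, TCG_Fi23.Col.i, TCG_Fi23.Col.h, TCG_Fi23.Col.c, TCG_Fi23.Col.b, TCG_Fi23.Col.d,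 TCG_Fi23.Col.e, TCG_Fi23.Col.h, TCG_Fi23.Col.d, TCG_Fi23.Col.b, TCG_Fi23.Col.c, TCG_Fi23.Col.i, TCG_Fi23.Col.h, TCG_Fi23.Col.d, TCG_Fi23.Col.b, TCG_Fi23.Col.c, TCG_Fi23.Col.e, TCG_Fi23.Col.d, TCG_Fi23.Col.f, TCG_Fi23.Col.g, TCG_Fi23.Col.f, TCG_Fi23.Col.h, TCG_Fi23.Col.c, TCG_Fi23.Col.a, TCG_Fi23.Col.j, TCG_Fi23.Col.e, TCG_Fi23.Col.d, TCG_Fi23.Col.i, TCG_Fi23.Col.g, TCG_Fi23.Col.d],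
  [TCG_Fi23.Col.b, TCG_Fi23.Col.c, TCG_Fi23.Col.b, TCG_Fi23.Col.e, TCG_Fi23.Col.f, TCG_Fi23.Col.h, TCG_Fi23.Col.b, TCG_Fi23.Col.c, TCG_Fi23.Col.b, TCG_Fi23.Col.i, TCG_Fi23.Col.d, TCG_Fi23.Col.e, TCG_Fi23.Col.h, TCG_Fi23.Col.d, TCG_Fi23.Col.c, TCG_Fi23.Col.i, TCG_Fi23.Col.b, TCG_Fi23.Col.h, TCG_Fi23.Col.d, TCG_Fi23.Col.c, TCG_Fi23.Col.e, TCG_Fi23.Col.d, TCG_Fi23.Col.c, TCG_Fi23.Col.f, TCG_Fi23.Col.e, TCG_Fi23.Col.h, TCG_Fi23.Col.i, TCG_Fi23.Col.h, TCG_Fi23.Col.a, TCG_Fi23.Col.f, TCG_Fi23.Col.e, TCG_Fi23.Col.i, TCG_Fi23.Col.h, TCG_Fi23.Col.d, TCG_Fi23.Col.a, TCG_Fi23.Col.d, TCG_Fi23.Col.f, TCG_Fi23.Col.i, TCG_Fi23.Col.h, TCG_Fi23.Col.a, TCG_Fi23.Col.d, TCG_Fi23.Col.c, TCG_Fi23.Col.e,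 TCG_Fi23.Col.i, TCG_Fi23.Col.h, TCG_Fi23.Col.d, TCG_Fi23.Col.b, TCG_Fi23.Col.c, TCG_Fi23.Col.b, TCG_Fi23.Col.e, TCG_Fi23.Col.h, TCG_Fi23.Col.i, TCG_Fi23.Col.b, TCG_Fi23.Col.f, TCG_Fi23.Col.h, TCG_Fi23.Col.a, TCG_Fi23.Col.h, TCG_Fi23.Col.d, TCG_Fi23.Col.c, TCG_Fi23.Col.e, TCG_Fi23.Col.d, TCG_Fi23.Col.c, TCG_Fi23.Col.b, TCG_Fi23.Col.e, TCG_Fi23.Col.h, TCG_Fi23.Col.i, TCG_Fi23.Col.h, TCG_Fi23.Col.a, TCG_Fi23.Col.b, TCG_Fi23.Col.c, TCG_Fi23.Col.d, TCG_Fi23.Col.e, TCG_Fi23.Col.h, TCG_Fi23.Col.d, TCG_Fi23.Col.a, TCG_Fi23.Col.c, TCG_Fi23.Col.h, TCG_Fi23.Col.i, TCG_Fi23.Col.h, TCG_Fi23.Col.b, TCG_Fi23.Col.f, TCG_Fi23.Col.d, TCG_Fi23.Col.e, TCG_Fi23.Col.h, TCG_Fi23.Col.d, TCG_Fi23.Col.b,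 TCG_Fi23.Col.c, TCG_Fi23.Col.i, TCG_Fi23.Col.b, TCG_Fi23.Col.h, TCG_Fi23.Col.d, TCG_Fi23.Col.c, TCG_Fi23.Col.e, TCG_Fi23.Col.d, TCG_Fi23.Col.a, TCG_Fi23.Col.d, TCG_Fi23.Col.c, TCG_Fi23.Col.e, TCG_Fi23.Col.h, TCG_Fi23.Col.d, TCG_Fi23.Col.c, TCG_Fi23.Col.f, TCG_Fi23.Col.e, TCG_Fi23.Col.i, TCG_Fi23.Col.h, TCG_Fi23.Col.b, TCG_Fi23.Col.c, TCG_Fi23.Col.b, TCG_Fi23.Col.e, TCG_Fi23.Col.h, TCG_Fi23.Col.i, TCG_Fi23.Col.b, TCG_Fi23.Col.f, TCG_Fi23.Col.h, TCG_Fi23.Col.a, TCG_Fi23.Col.h, TCG_Fi23.Col.d, TCG_Fi23.Col.c, TCG_Fi23.Col.e, TCG_Fi23.Col.d, TCG_Fi23.Col.c, TCG_Fi23.Col.b, TCG_Fi23.Col.e, TCG_Fi23.Col.h, TCG_Fi23.Col.i, TCG_Fi23.Col.h, TCG_Fi23.Col.a, TCG_Fi23.Col.b, TCG_Fi23.Col.c,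 TCG_Fi23.Col.d, TCG_Fi23.Col.e, TCG_Fi23.Col.h, TCG_Fi23.Col.d, TCG_Fi23.Col.a, TCG_Fi23.Col.c, TCG_Fi23.Col.h, TCG_Fi23.Col.i, TCG_Fi23.Col.h, TCG_Fi23.Col.b, TCG_Fi23.Col.f, TCG_Fi23.Col.d, TCG_Fi23.Col.e, TCG_Fi23.Col.h, TCG_Fi23.Col.d, TCG_Fi23.Col.b, TCG_Fi23.Col.c, TCG_Fi23.Col.i, TCG_Fi23.Col.b, TCG_Fi23.Col.h, TCG_Fi23.Col.d, TCG_Fi23.Col.c, TCG_Fi23.Col.e, TCG_Fi23.Col.d, TCG_Fi23.Col.a, TCG_Fi23.Col.h, TCG_Fi23.Col.d, TCG_Fi23.Col.c, TCG_Fi23.Col.e, TCG_Fi23.Col.d, TCG_Fi23.Col.c, TCG_Fi23.Col.b, TCG_Fi23.Col.e, TCG_Fi23.Col.h, TCG_Fi23.Col.i, TCG_Fi23.Col.h, TCG_Fi23.Col.a, TCG_Fi23.Col.b, TCG_Fi23.Col.c, TCG_Fi23.Col.d, TCG_Fi23.Col.e, TCG_Fi23.Col.h, TCG_Fi23.Col.d,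 TCG_Fi23.Col.a, TCG_Fi23.Col.b, TCG_Fi23.Col.c, TCG_Fi23.Col.h, TCG_Fi23.Col.i, TCG_Fi23.Col.d, TCG_Fi23.Col.e, TCG_Fi23.Col.h, TCG_Fi23.Col.d, TCG_Fi23.Col.c, TCG_Fi23.Col.i, TCG_Fi23.Col.b, TCG_Fi23.Col.h, TCG_Fi23.Col.d, TCG_Fi23.Col.c, TCG_Fi23.Col.e, TCG_Fi23.Col.d, TCG_Fi23.Col.b, TCG_Fi23.Col.c, TCG_Fi23.Col.f, TCG_Fi23.Col.e, TCG_Fi23.Col.i, TCG_Fi23.Col.h, TCG_Fi23.Col.a, TCG_Fi23.Col.c, TCG_Fi23.Col.f, TCG_Fi23.Col.e, TCG_Fi23.Col.d, TCG_Fi23.Col.c, TCG_Fi23.Col.h, TCG_Fi23.Col.d, TCG_Fi23.Col.c, TCG_Fi23.Col.b, TCG_Fi23.Col.h, TCG_Fi23.Col.a, TCG_Fi23.Col.b, TCG_Fi23.Col.c, TCG_Fi23.Col.d, TCG_Fi23.Col.e, TCG_Fi23.Col.f, TCG_Fi23.Col.g, TCG_Fi23.Col.b, TCG_Fi23.Col.c,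 TCG_Fi23.Col.e, TCG_Fi23.Col.f, TCG_Fi23.Col.e, TCG_Fi23.Col.i, TCG_Fi23.Col.d, TCG_Fi23.Col.e, TCG_Fi23.Col.f, TCG_Fi23.Col.g, TCG_Fi23.Col.j, TCG_Fi23.Col.c, TCG_Fi23.Col.h, TCG_Fi23.Col.d, TCG_Fi23.Col.e, TCG_Fi23.Col.f, TCG_Fi23.Col.g, TCG_Fi23.Col.j, TCG_Fi23.Col.g, TCG_Fi23.Col.j, TCG_Fi23.Col.c, TCG_Fi23.Col.b, TCG_Fi23.Col.d, TCG_Fi23.Col.e, TCG_Fi23.Col.f, TCG_Fi23.Col.g, TCG_Fi23.Col.j, TCG_Fi23.Col.c, TCG_Fi23.Col.h, TCG_Fi23.Col.d, TCG_Fi23.Col.e, TCG_Fi23.Col.f, TCG_Fi23.Col.g, TCG_Fi23.Col.j, TCG_Fi23.Col.g, TCG_Fi23.Col.j, TCG_Fi23.Col.c, TCG_Fi23.Col.h, TCG_Fi23.Col.d, TCG_Fi23.Col.e, TCG_Fi23.Col.f, TCG_Fi23.Col.g, TCG_Fi23.Col.e, TCG_Fi23.Col.f, TCG_Fi23.Col.g,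 TCG_Fi23.Col.a, TCG_Fi23.Col.b, TCG_Fi23.Col.a, TCG_Fi23.Col.c, TCG_Fi23.Col.i, TCG_Fi23.Col.h, TCG_Fi23.Col.d, TCG_Fi23.Col.a, TCG_Fi23.Col.b, TCG_Fi23.Col.c, TCG_Fi23.Col.d, TCG_Fi23.Col.e, TCG_Fi23.Col.f, TCG_Fi23.Col.g, TCG_Fi23.Col.d, TCG_Fi23.Col.c, TCG_Fi23.Col.b, TCG_Fi23.Col.e, TCG_Fi23.Col.h, TCG_Fi23.Col.d, TCG_Fi23.Col.a, TCG_Fi23.Col.c, TCG_Fi23.Col.d, TCG_Fi23.Col.e, TCG_Fi23.Col.f, TCG_Fi23.Col.g, TCG_Fi23.Col.j, TCG_Fi23.Col.e, TCG_Fi23.Col.h, TCG_Fi23.Col.b, TCG_Fi23.Col.f, TCG_Fi23.Col.d, TCG_Fi23.Col.e, TCG_Fi23.Col.h, TCG_Fi23.Col.d, TCG_Fi23.Col.b, TCG_Fi23.Col.c, TCG_Fi23.Col.i, TCG_Fi23.Col.b, TCG_Fi23.Col.h, TCG_Fi23.Col.d, TCG_Fi23.Col.c, TCG_Fi23.Col.e,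 TCG_Fi23.Col.d, TCG_Fi23.Col.b, TCG_Fi23.Col.f, TCG_Fi23.Col.e, TCG_Fi23.Col.i, TCG_Fi23.Col.h, TCG_Fi23.Col.d, TCG_Fi23.Col.a, TCG_Fi23.Col.b, TCG_Fi23.Col.c, TCG_Fi23.Col.b, TCG_Fi23.Col.f, TCG_Fi23.Col.i, TCG_Fi23.Col.h, TCG_Fi23.Col.d, TCG_Fi23.Col.e, TCG_Fi23.Col.f, TCG_Fi23.Col.g, TCG_Fi23.Col.j, TCG_Fi23.Col.c, TCG_Fi23.Col.h, TCG_Fi23.Col.d, TCG_Fi23.Col.e, TCG_Fi23.Col.f, TCG_Fi23.Col.g, TCG_Fi23.Col.j, TCG_Fi23.Col.g, TCG_Fi23.Col.j, TCG_Fi23.Col.a, TCG_Fi23.Col.d, TCG_Fi23.Col.c, TCG_Fi23.Col.f, TCG_Fi23.Col.e, TCG_Fi23.Col.h, TCG_Fi23.Col.d, TCG_Fi23.Col.e, TCG_Fi23.Col.h, TCG_Fi23.Col.i, TCG_Fi23.Col.h, TCG_Fi23.Col.b, TCG_Fi23.Col.c, TCG_Fi23.Col.b, TCG_Fi23.Col.e,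 TCG_Fi23.Col.h, TCG_Fi23.Col.i, TCG_Fi23.Col.b, TCG_Fi23.Col.f, TCG_Fi23.Col.h, TCG_Fi23.Col.a, TCG_Fi23.Col.h, TCG_Fi23.Col.d, TCG_Fi23.Col.c, TCG_Fi23.Col.e, TCG_Fi23.Col.d, TCG_Fi23.Col.c, TCG_Fi23.Col.b, TCG_Fi23.Col.e, TCG_Fi23.Col.h, TCG_Fi23.Col.i, TCG_Fi23.Col.h, TCG_Fi23.Col.a, TCG_Fi23.Col.b, TCG_Fi23.Col.c, TCG_Fi23.Col.d, TCG_Fi23.Col.e, TCG_Fi23.Col.h, TCG_Fi23.Col.d, TCG_Fi23.Col.a, TCG_Fi23.Col.c, TCG_Fi23.Col.h, TCG_Fi23.Col.i, TCG_Fi23.Col.h, TCG_Fi23.Col.b, TCG_Fi23.Col.f, TCG_Fi23.Col.d, TCG_Fi23.Col.e, TCG_Fi23.Col.h, TCG_Fi23.Col.d, TCG_Fi23.Col.b, TCG_Fi23.Col.c, TCG_Fi23.Col.i, TCG_Fi23.Col.b, TCG_Fi23.Col.h, TCG_Fi23.Col.d, TCG_Fi23.Col.c, TCG_Fi23.Col.e,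 TCG_Fi23.Col.d, TCG_Fi23.Col.c, TCG_Fi23.Col.b, TCG_Fi23.Col.e, TCG_Fi23.Col.h, TCG_Fi23.Col.i, TCG_Fi23.Col.h, TCG_Fi23.Col.a, TCG_Fi23.Col.d, TCG_Fi23.Col.c, TCG_Fi23.Col.e, TCG_Fi23.Col.h, TCG_Fi23.Col.d, TCG_Fi23.Col.c, TCG_Fi23.Col.e, TCG_Fi23.Col.f, TCG_Fi23.Col.h, TCG_Fi23.Col.i, TCG_Fi23.Col.d, TCG_Fi23.Col.e, TCG_Fi23.Col.d, TCG_Fi23.Col.g, TCG_Fi23.Col.i, TCG_Fi23.Col.g, TCG_Fi23.Col.c, TCG_Fi23.Col.b, TCG_Fi23.Col.c, TCG_Fi23.Col.h, TCG_Fi23.Col.a, TCG_Fi23.Col.b, TCG_Fi23.Col.j, TCG_Fi23.Col.a, TCG_Fi23.Col.d, TCG_Fi23.Col.j, TCG_Fi23.Col.b, TCG_Fi23.Col.c, TCG_Fi23.Col.h, TCG_Fi23.Col.i, TCG_Fi23.Col.h, TCG_Fi23.Col.c, TCG_Fi23.Col.f, TCG_Fi23.Col.d, TCG_Fi23.Col.e,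 TCG_Fi23.Col.h, TCG_Fi23.Col.d, TCG_Fi23.Col.c, TCG_Fi23.Col.i, TCG_Fi23.Col.b, TCG_Fi23.Col.h, TCG_Fi23.Col.d, TCG_Fi23.Col.c, TCG_Fi23.Col.e, TCG_Fi23.Col.d, TCG_Fi23.Col.f, TCG_Fi23.Col.d, TCG_Fi23.Col.e, TCG_Fi23.Col.c, TCG_Fi23.Col.b, TCG_Fi23.Col.h, TCG_Fi23.Col.b, TCG_Fi23.Col.d, TCG_Fi23.Col.g, TCG_Fi23.Col.h, TCG_Fi23.Col.b, TCG_Fi23.Col.d, TCG_Fi23.Col.c, TCG_Fi23.Col.d, TCG_Fi23.Col.g, TCG_Fi23.Col.e, TCG_Fi23.Col.i, TCG_Fi23.Col.h, TCG_Fi23.Col.d, TCG_Fi23.Col.e, TCG_Fi23.Col.i, TCG_Fi23.Col.h, TCG_Fi23.Col.e, TCG_Fi23.Col.g, TCG_Fi23.Col.f, TCG_Fi23.Col.i, TCG_Fi23.Col.c, TCG_Fi23.Col.j, TCG_Fi23.Col.e, TCG_Fi23.Col.d, TCG_Fi23.Col.g, TCG_Fi23.Col.c, TCG_Fi23.Col.i,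 TCG_Fi23.Col.h, TCG_Fi23.Col.f, TCG_Fi23.Col.e],
  [TCG_Fi23.Col.d, TCG_Fi23.Col.i, TCG_Fi23.Col.b, TCG_Fi23.Col.c, TCG_Fi23.Col.e, TCG_Fi23.Col.d, TCG_Fi23.Col.e, TCG_Fi23.Col.a, TCG_Fi23.Col.g, TCG_Fi23.Col.a, TCG_Fi23.Col.g, TCG_Fi23.Col.h, TCG_Fi23.Col.g, TCG_Fi23.Col.j, TCG_Fi23.Col.i, TCG_Fi23.Col.e, TCG_Fi23.Col.b, TCG_Fi23.Col.j, TCG_Fi23.Col.g, TCG_Fi23.Col.c, TCG_Fi23.Col.d, TCG_Fi23.Col.e, TCG_Fi23.Col.h, TCG_Fi23.Col.d, TCG_Fi23.Col.a, TCG_Fi23.Col.d, TCG_Fi23.Col.c, TCG_Fi23.Col.e, TCG_Fi23.Col.i, TCG_Fi23.Col.h, TCG_Fi23.Col.d, TCG_Fi23.Col.b, TCG_Fi23.Col.c, TCG_Fi23.Col.b, TCG_Fi23.Col.e, TCG_Fi23.Col.h, TCG_Fi23.Col.i, TCG_Fi23.Col.b, TCG_Fi23.Col.f, TCG_Fi23.Col.h,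 TCG_Fi23.Col.a, TCG_Fi23.Col.h, TCG_Fi23.Col.d, TCG_Fi23.Col.c, TCG_Fi23.Col.e, TCG_Fi23.Col.d, TCG_Fi23.Col.c, TCG_Fi23.Col.b, TCG_Fi23.Col.e, TCG_Fi23.Col.h, TCG_Fi23.Col.i, TCG_Fi23.Col.h, TCG_Fi23.Col.a, TCG_Fi23.Col.b, TCG_Fi23.Col.c, TCG_Fi23.Col.d, TCG_Fi23.Col.e, TCG_Fi23.Col.h, TCG_Fi23.Col.d, TCG_Fi23.Col.a, TCG_Fi23.Col.c, TCG_Fi23.Col.h, TCG_Fi23.Col.i, TCG_Fi23.Col.h, TCG_Fi23.Col.b, TCG_Fi23.Col.f, TCG_Fi23.Col.d, TCG_Fi23.Col.e, TCG_Fi23.Col.h, TCG_Fi23.Col.d, TCG_Fi23.Col.b, TCG_Fi23.Col.c, TCG_Fi23.Col.i, TCG_Fi23.Col.b, TCG_Fi23.Col.h, TCG_Fi23.Col.d, TCG_Fi23.Col.c, TCG_Fi23.Col.e, TCG_Fi23.Col.d, TCG_Fi23.Col.a, TCG_Fi23.Col.d, TCG_Fi23.Col.c, TCG_Fi23.Col.e,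 TCG_Fi23.Col.h, TCG_Fi23.Col.d, TCG_Fi23.Col.c, TCG_Fi23.Col.f, TCG_Fi23.Col.e, TCG_Fi23.Col.i, TCG_Fi23.Col.h, TCG_Fi23.Col.f, TCG_Fi23.Col.h, TCG_Fi23.Col.b, TCG_Fi23.Col.d, TCG_Fi23.Col.b, TCG_Fi23.Col.e, TCG_Fi23.Col.a, TCG_Fi23.Col.b, TCG_Fi23.Col.j, TCG_Fi23.Col.h, TCG_Fi23.Col.d, TCG_Fi23.Col.b, TCG_Fi23.Col.e, TCG_Fi23.Col.c, TCG_Fi23.Col.h, TCG_Fi23.Col.i, TCG_Fi23.Col.j, TCG_Fi23.Col.a, TCG_Fi23.Col.b, TCG_Fi23.Col.h, TCG_Fi23.Col.d, TCG_Fi23.Col.c, TCG_Fi23.Col.e, TCG_Fi23.Col.d, TCG_Fi23.Col.e, TCG_Fi23.Col.h, TCG_Fi23.Col.b, TCG_Fi23.Col.f, TCG_Fi23.Col.d, TCG_Fi23.Col.e, TCG_Fi23.Col.h, TCG_Fi23.Col.d, TCG_Fi23.Col.b, TCG_Fi23.Col.c, TCG_Fi23.Col.i, TCG_Fi23.Col.b,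 TCG_Fi23.Col.h, TCG_Fi23.Col.d, TCG_Fi23.Col.c, TCG_Fi23.Col.e, TCG_Fi23.Col.d, TCG_Fi23.Col.b, TCG_Fi23.Col.i, TCG_Fi23.Col.h, TCG_Fi23.Col.c, TCG_Fi23.Col.b, TCG_Fi23.Col.h, TCG_Fi23.Col.i, TCG_Fi23.Col.d, TCG_Fi23.Col.e, TCG_Fi23.Col.f, TCG_Fi23.Col.g, TCG_Fi23.Col.j, TCG_Fi23.Col.c, TCG_Fi23.Col.h, TCG_Fi23.Col.d, TCG_Fi23.Col.e, TCG_Fi23.Col.f, TCG_Fi23.Col.g, TCG_Fi23.Col.j, TCG_Fi23.Col.g, TCG_Fi23.Col.j, TCG_Fi23.Col.b, TCG_Fi23.Col.c, TCG_Fi23.Col.e, TCG_Fi23.Col.i, TCG_Fi23.Col.h, TCG_Fi23.Col.a, TCG_Fi23.Col.b, TCG_Fi23.Col.c, TCG_Fi23.Col.d, TCG_Fi23.Col.e, TCG_Fi23.Col.f, TCG_Fi23.Col.g, TCG_Fi23.Col.a, TCG_Fi23.Col.b, TCG_Fi23.Col.c, TCG_Fi23.Col.d, TCG_Fi23.Col.e,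 TCG_Fi23.Col.f, TCG_Fi23.Col.g, TCG_Fi23.Col.d, TCG_Fi23.Col.c, TCG_Fi23.Col.b, TCG_Fi23.Col.e, TCG_Fi23.Col.h, TCG_Fi23.Col.d, TCG_Fi23.Col.a, TCG_Fi23.Col.c, TCG_Fi23.Col.d, TCG_Fi23.Col.e, TCG_Fi23.Col.f, TCG_Fi23.Col.g, TCG_Fi23.Col.b, TCG_Fi23.Col.c, TCG_Fi23.Col.b, TCG_Fi23.Col.f, TCG_Fi23.Col.e, TCG_Fi23.Col.i, TCG_Fi23.Col.f, TCG_Fi23.Col.e, TCG_Fi23.Col.d, TCG_Fi23.Col.c, TCG_Fi23.Col.b, TCG_Fi23.Col.a, TCG_Fi23.Col.h, TCG_Fi23.Col.d, TCG_Fi23.Col.e, TCG_Fi23.Col.f, TCG_Fi23.Col.g, TCG_Fi23.Col.f, TCG_Fi23.Col.e, TCG_Fi23.Col.d, TCG_Fi23.Col.c, TCG_Fi23.Col.b, TCG_Fi23.Col.a, TCG_Fi23.Col.h, TCG_Fi23.Col.d, TCG_Fi23.Col.e, TCG_Fi23.Col.f, TCG_Fi23.Col.g, TCG_Fi23.Col.d,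 TCG_Fi23.Col.c, TCG_Fi23.Col.e, TCG_Fi23.Col.d, TCG_Fi23.Col.h, TCG_Fi23.Col.i, TCG_Fi23.Col.b, TCG_Fi23.Col.c, TCG_Fi23.Col.d, TCG_Fi23.Col.e, TCG_Fi23.Col.h, TCG_Fi23.Col.d, TCG_Fi23.Col.b, TCG_Fi23.Col.c, TCG_Fi23.Col.b, TCG_Fi23.Col.f, TCG_Fi23.Col.e, TCG_Fi23.Col.i, TCG_Fi23.Col.f, TCG_Fi23.Col.e, TCG_Fi23.Col.d, TCG_Fi23.Col.c, TCG_Fi23.Col.b, TCG_Fi23.Col.a, TCG_Fi23.Col.h, TCG_Fi23.Col.d, TCG_Fi23.Col.e, TCG_Fi23.Col.f, TCG_Fi23.Col.g, TCG_Fi23.Col.f, TCG_Fi23.Col.e, TCG_Fi23.Col.d, TCG_Fi23.Col.c, TCG_Fi23.Col.b, TCG_Fi23.Col.a, TCG_Fi23.Col.h, TCG_Fi23.Col.d, TCG_Fi23.Col.e, TCG_Fi23.Col.f, TCG_Fi23.Col.g, TCG_Fi23.Col.a, TCG_Fi23.Col.b, TCG_Fi23.Col.a, TCG_Fi23.Col.c,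 TCG_Fi23.Col.i, TCG_Fi23.Col.h, TCG_Fi23.Col.d, TCG_Fi23.Col.a, TCG_Fi23.Col.b, TCG_Fi23.Col.c, TCG_Fi23.Col.d, TCG_Fi23.Col.e, TCG_Fi23.Col.f, TCG_Fi23.Col.g, TCG_Fi23.Col.d, TCG_Fi23.Col.c, TCG_Fi23.Col.b, TCG_Fi23.Col.e, TCG_Fi23.Col.h, TCG_Fi23.Col.d, TCG_Fi23.Col.a, TCG_Fi23.Col.c, TCG_Fi23.Col.d, TCG_Fi23.Col.e, TCG_Fi23.Col.f, TCG_Fi23.Col.g, TCG_Fi23.Col.a, TCG_Fi23.Col.b, TCG_Fi23.Col.a, TCG_Fi23.Col.c, TCG_Fi23.Col.i, TCG_Fi23.Col.h, TCG_Fi23.Col.d, TCG_Fi23.Col.a, TCG_Fi23.Col.b, TCG_Fi23.Col.c, TCG_Fi23.Col.d, TCG_Fi23.Col.e, TCG_Fi23.Col.f, TCG_Fi23.Col.g, TCG_Fi23.Col.d, TCG_Fi23.Col.c, TCG_Fi23.Col.b, TCG_Fi23.Col.e, TCG_Fi23.Col.h, TCG_Fi23.Col.d, TCG_Fi23.Col.a,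 TCG_Fi23.Col.c, TCG_Fi23.Col.d, TCG_Fi23.Col.e, TCG_Fi23.Col.f, TCG_Fi23.Col.g, TCG_Fi23.Col.j, TCG_Fi23.Col.g, TCG_Fi23.Col.j, TCG_Fi23.Col.e, TCG_Fi23.Col.h, TCG_Fi23.Col.i, TCG_Fi23.Col.h, TCG_Fi23.Col.b, TCG_Fi23.Col.c, TCG_Fi23.Col.b, TCG_Fi23.Col.e, TCG_Fi23.Col.h, TCG_Fi23.Col.i, TCG_Fi23.Col.b, TCG_Fi23.Col.f, TCG_Fi23.Col.h, TCG_Fi23.Col.a, TCG_Fi23.Col.h, TCG_Fi23.Col.d, TCG_Fi23.Col.c, TCG_Fi23.Col.e, TCG_Fi23.Col.d, TCG_Fi23.Col.c, TCG_Fi23.Col.b, TCG_Fi23.Col.e, TCG_Fi23.Col.h, TCG_Fi23.Col.i, TCG_Fi23.Col.h, TCG_Fi23.Col.a, TCG_Fi23.Col.b, TCG_Fi23.Col.c, TCG_Fi23.Col.d, TCG_Fi23.Col.e, TCG_Fi23.Col.h, TCG_Fi23.Col.d, TCG_Fi23.Col.a, TCG_Fi23.Col.c, TCG_Fi23.Col.h,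 TCG_Fi23.Col.i, TCG_Fi23.Col.h, TCG_Fi23.Col.b, TCG_Fi23.Col.f, TCG_Fi23.Col.d, TCG_Fi23.Col.e, TCG_Fi23.Col.h, TCG_Fi23.Col.d, TCG_Fi23.Col.b, TCG_Fi23.Col.c, TCG_Fi23.Col.i, TCG_Fi23.Col.b, TCG_Fi23.Col.h, TCG_Fi23.Col.d, TCG_Fi23.Col.c, TCG_Fi23.Col.e, TCG_Fi23.Col.d, TCG_Fi23.Col.c, TCG_Fi23.Col.b, TCG_Fi23.Col.e, TCG_Fi23.Col.h, TCG_Fi23.Col.i, TCG_Fi23.Col.h, TCG_Fi23.Col.b, TCG_Fi23.Col.c, TCG_Fi23.Col.e, TCG_Fi23.Col.i, TCG_Fi23.Col.h, TCG_Fi23.Col.a, TCG_Fi23.Col.b, TCG_Fi23.Col.c, TCG_Fi23.Col.d, TCG_Fi23.Col.e, TCG_Fi23.Col.f, TCG_Fi23.Col.g, TCG_Fi23.Col.c, TCG_Fi23.Col.h, TCG_Fi23.Col.d, TCG_Fi23.Col.e, TCG_Fi23.Col.f, TCG_Fi23.Col.g, TCG_Fi23.Col.b, TCG_Fi23.Col.c,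 TCG_Fi23.Col.e, TCG_Fi23.Col.f, TCG_Fi23.Col.e, TCG_Fi23.Col.i, TCG_Fi23.Col.d, TCG_Fi23.Col.e, TCG_Fi23.Col.f, TCG_Fi23.Col.g, TCG_Fi23.Col.j, TCG_Fi23.Col.c, TCG_Fi23.Col.h, TCG_Fi23.Col.d, TCG_Fi23.Col.e, TCG_Fi23.Col.f, TCG_Fi23.Col.g, TCG_Fi23.Col.j, TCG_Fi23.Col.g, TCG_Fi23.Col.j, TCG_Fi23.Col.d, TCG_Fi23.Col.e, TCG_Fi23.Col.f, TCG_Fi23.Col.g, TCG_Fi23.Col.b, TCG_Fi23.Col.c, TCG_Fi23.Col.i, TCG_Fi23.Col.e, TCG_Fi23.Col.f, TCG_Fi23.Col.g, TCG_Fi23.Col.j, TCG_Fi23.Col.c, TCG_Fi23.Col.e, TCG_Fi23.Col.h, TCG_Fi23.Col.d, TCG_Fi23.Col.c, TCG_Fi23.Col.b, TCG_Fi23.Col.a, TCG_Fi23.Col.j, TCG_Fi23.Col.g, TCG_Fi23.Col.b, TCG_Fi23.Col.c, TCG_Fi23.Col.e, TCG_Fi23.Col.f, TCG_Fi23.Col.h,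 TCG_Fi23.Col.i, TCG_Fi23.Col.c, TCG_Fi23.Col.h, TCG_Fi23.Col.d, TCG_Fi23.Col.e, TCG_Fi23.Col.f, TCG_Fi23.Col.g, TCG_Fi23.Col.j, TCG_Fi23.Col.d, TCG_Fi23.Col.c, TCG_Fi23.Col.b, TCG_Fi23.Col.e, TCG_Fi23.Col.h, TCG_Fi23.Col.d, TCG_Fi23.Col.a, TCG_Fi23.Col.c, TCG_Fi23.Col.d, TCG_Fi23.Col.e, TCG_Fi23.Col.f, TCG_Fi23.Col.g, TCG_Fi23.Col.j, TCG_Fi23.Col.g, TCG_Fi23.Col.j, TCG_Fi23.Col.a, TCG_Fi23.Col.b, TCG_Fi23.Col.a, TCG_Fi23.Col.c, TCG_Fi23.Col.e, TCG_Fi23.Col.d, TCG_Fi23.Col.b, TCG_Fi23.Col.c, TCG_Fi23.Col.f, TCG_Fi23.Col.e, TCG_Fi23.Col.h, TCG_Fi23.Col.i, TCG_Fi23.Col.b, TCG_Fi23.Col.e, TCG_Fi23.Col.h, TCG_Fi23.Col.d, TCG_Fi23.Col.c, TCG_Fi23.Col.h, TCG_Fi23.Col.d, TCG_Fi23.Col.c,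 TCG_Fi23.Col.b, TCG_Fi23.Col.a, TCG_Fi23.Col.c, TCG_Fi23.Col.e, TCG_Fi23.Col.h, TCG_Fi23.Col.i, TCG_Fi23.Col.c, TCG_Fi23.Col.b, TCG_Fi23.Col.a, TCG_Fi23.Col.i, TCG_Fi23.Col.h, TCG_Fi23.Col.e, TCG_Fi23.Col.f, TCG_Fi23.Col.g, TCG_Fi23.Col.e, TCG_Fi23.Col.h, TCG_Fi23.Col.d, TCG_Fi23.Col.e, TCG_Fi23.Col.f, TCG_Fi23.Col.g, TCG_Fi23.Col.j, TCG_Fi23.Col.a, TCG_Fi23.Col.b, TCG_Fi23.Col.d, TCG_Fi23.Col.c, TCG_Fi23.Col.i, TCG_Fi23.Col.h, TCG_Fi23.Col.d, TCG_Fi23.Col.a, TCG_Fi23.Col.c, TCG_Fi23.Col.h, TCG_Fi23.Col.d, TCG_Fi23.Col.e, TCG_Fi23.Col.f, TCG_Fi23.Col.g, TCG_Fi23.Col.j, TCG_Fi23.Col.g, TCG_Fi23.Col.j, TCG_Fi23.Col.e, TCG_Fi23.Col.c, TCG_Fi23.Col.h, TCG_Fi23.Col.b, TCG_Fi23.Col.d,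 TCG_Fi23.Col.h, TCG_Fi23.Col.g, TCG_Fi23.Col.c, TCG_Fi23.Col.e, TCG_Fi23.Col.d, TCG_Fi23.Col.a, TCG_Fi23.Col.b, TCG_Fi23.Col.a, TCG_Fi23.Col.g, TCG_Fi23.Col.b, TCG_Fi23.Col.f, TCG_Fi23.Col.d, TCG_Fi23.Col.e, TCG_Fi23.Col.h, TCG_Fi23.Col.d, TCG_Fi23.Col.b, TCG_Fi23.Col.c, TCG_Fi23.Col.i, TCG_Fi23.Col.b, TCG_Fi23.Col.h, TCG_Fi23.Col.d, TCG_Fi23.Col.c, TCG_Fi23.Col.e, TCG_Fi23.Col.d, TCG_Fi23.Col.c, TCG_Fi23.Col.h, TCG_Fi23.Col.i, TCG_Fi23.Col.h, TCG_Fi23.Col.a, TCG_Fi23.Col.d, TCG_Fi23.Col.h, TCG_Fi23.Col.b, TCG_Fi23.Col.f, TCG_Fi23.Col.a, TCG_Fi23.Col.c],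
  [TCG_Fi23.Col.d, TCG_Fi23.Col.c, TCG_Fi23.Col.e, TCG_Fi23.Col.d, TCG_Fi23.Col.h, TCG_Fi23.Col.i, TCG_Fi23.Col.b, TCG_Fi23.Col.c, TCG_Fi23.Col.d, TCG_Fi23.Col.e, TCG_Fi23.Col.h, TCG_Fi23.Col.d, TCG_Fi23.Col.b, TCG_Fi23.Col.c, TCG_Fi23.Col.b, TCG_Fi23.Col.f, TCG_Fi23.Col.e, TCG_Fi23.Col.i, TCG_Fi23.Col.f, TCG_Fi23.Col.e, TCG_Fi23.Col.d, TCG_Fi23.Col.c, TCG_Fi23.Col.b, TCG_Fi23.Col.a, TCG_Fi23.Col.h, TCG_Fi23.Col.d, TCG_Fi23.Col.e, TCG_Fi23.Col.f, TCG_Fi23.Col.g, TCG_Fi23.Col.f, TCG_Fi23.Col.e, TCG_Fi23.Col.d, TCG_Fi23.Col.c, TCG_Fi23.Col.b, TCG_Fi23.Col.a, TCG_Fi23.Col.h, TCG_Fi23.Col.d, TCG_Fi23.Col.e, TCG_Fi23.Col.f, TCG_Fi23.Col.g, TCG_Fi23.Col.b, TCG_Fi23.Col.c, TCG_Fi23.Col.b,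 TCG_Fi23.Col.e, TCG_Fi23.Col.h, TCG_Fi23.Col.i, TCG_Fi23.Col.f, TCG_Fi23.Col.e, TCG_Fi23.Col.d, TCG_Fi23.Col.c, TCG_Fi23.Col.b, TCG_Fi23.Col.a, TCG_Fi23.Col.h, TCG_Fi23.Col.d, TCG_Fi23.Col.e, TCG_Fi23.Col.f, TCG_Fi23.Col.g, TCG_Fi23.Col.d, TCG_Fi23.Col.c, TCG_Fi23.Col.b, TCG_Fi23.Col.e, TCG_Fi23.Col.h, TCG_Fi23.Col.d, TCG_Fi23.Col.a, TCG_Fi23.Col.c, TCG_Fi23.Col.d, TCG_Fi23.Col.e, TCG_Fi23.Col.f, TCG_Fi23.Col.g, TCG_Fi23.Col.a, TCG_Fi23.Col.d, TCG_Fi23.Col.e, TCG_Fi23.Col.i, TCG_Fi23.Col.h, TCG_Fi23.Col.d, TCG_Fi23.Col.e, TCG_Fi23.Col.f, TCG_Fi23.Col.g, TCG_Fi23.Col.j, TCG_Fi23.Col.b, TCG_Fi23.Col.d, TCG_Fi23.Col.c, TCG_Fi23.Col.f, TCG_Fi23.Col.e, TCG_Fi23.Col.f, TCG_Fi23.Col.e,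 TCG_Fi23.Col.g, TCG_Fi23.Col.h, TCG_Fi23.Col.d, TCG_Fi23.Col.g, TCG_Fi23.Col.i, TCG_Fi23.Col.h, TCG_Fi23.Col.a, TCG_Fi23.Col.g, TCG_Fi23.Col.i, TCG_Fi23.Col.g, TCG_Fi23.Col.a, TCG_Fi23.Col.c, TCG_Fi23.Col.b, TCG_Fi23.Col.d, TCG_Fi23.Col.c, TCG_Fi23.Col.e, TCG_Fi23.Col.d, TCG_Fi23.Col.c, TCG_Fi23.Col.f, TCG_Fi23.Col.i, TCG_Fi23.Col.h, TCG_Fi23.Col.a, TCG_Fi23.Col.d, TCG_Fi23.Col.e, TCG_Fi23.Col.h, TCG_Fi23.Col.c, TCG_Fi23.Col.b, TCG_Fi23.Col.a, TCG_Fi23.Col.h, TCG_Fi23.Col.d, TCG_Fi23.Col.a, TCG_Fi23.Col.d, TCG_Fi23.Col.c, TCG_Fi23.Col.f, TCG_Fi23.Col.e, TCG_Fi23.Col.d, TCG_Fi23.Col.a, TCG_Fi23.Col.b, TCG_Fi23.Col.d, TCG_Fi23.Col.c, TCG_Fi23.Col.h, TCG_Fi23.Col.d, TCG_Fi23.Col.e,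 TCG_Fi23.Col.h, TCG_Fi23.Col.d, TCG_Fi23.Col.e, TCG_Fi23.Col.f, TCG_Fi23.Col.a, TCG_Fi23.Col.d, TCG_Fi23.Col.e, TCG_Fi23.Col.i, TCG_Fi23.Col.h, TCG_Fi23.Col.d, TCG_Fi23.Col.e, TCG_Fi23.Col.f, TCG_Fi23.Col.g, TCG_Fi23.Col.f, TCG_Fi23.Col.i, TCG_Fi23.Col.h, TCG_Fi23.Col.d, TCG_Fi23.Col.e, TCG_Fi23.Col.h, TCG_Fi23.Col.d, TCG_Fi23.Col.c, TCG_Fi23.Col.i, TCG_Fi23.Col.b, TCG_Fi23.Col.h, TCG_Fi23.Col.d, TCG_Fi23.Col.c, TCG_Fi23.Col.e, TCG_Fi23.Col.d, TCG_Fi23.Col.b, TCG_Fi23.Col.e, TCG_Fi23.Col.f, TCG_Fi23.Col.i, TCG_Fi23.Col.b, TCG_Fi23.Col.f, TCG_Fi23.Col.i, TCG_Fi23.Col.a, TCG_Fi23.Col.d, TCG_Fi23.Col.e, TCG_Fi23.Col.d, TCG_Fi23.Col.c, TCG_Fi23.Col.h, TCG_Fi23.Col.d, TCG_Fi23.Col.b,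 TCG_Fi23.Col.c, TCG_Fi23.Col.b, TCG_Fi23.Col.e, TCG_Fi23.Col.h, TCG_Fi23.Col.i, TCG_Fi23.Col.b, TCG_Fi23.Col.f, TCG_Fi23.Col.h, TCG_Fi23.Col.a, TCG_Fi23.Col.h, TCG_Fi23.Col.d, TCG_Fi23.Col.c, TCG_Fi23.Col.e, TCG_Fi23.Col.d, TCG_Fi23.Col.c, TCG_Fi23.Col.b, TCG_Fi23.Col.e, TCG_Fi23.Col.h, TCG_Fi23.Col.i, TCG_Fi23.Col.h, TCG_Fi23.Col.a, TCG_Fi23.Col.b, TCG_Fi23.Col.c, TCG_Fi23.Col.d, TCG_Fi23.Col.e, TCG_Fi23.Col.h, TCG_Fi23.Col.d, TCG_Fi23.Col.a, TCG_Fi23.Col.c, TCG_Fi23.Col.h, TCG_Fi23.Col.i, TCG_Fi23.Col.h, TCG_Fi23.Col.b, TCG_Fi23.Col.f, TCG_Fi23.Col.d, TCG_Fi23.Col.e, TCG_Fi23.Col.h, TCG_Fi23.Col.d, TCG_Fi23.Col.b, TCG_Fi23.Col.c, TCG_Fi23.Col.i, TCG_Fi23.Col.b, TCG_Fi23.Col.h,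 TCG_Fi23.Col.d, TCG_Fi23.Col.c, TCG_Fi23.Col.e, TCG_Fi23.Col.d, TCG_Fi23.Col.a, TCG_Fi23.Col.d, TCG_Fi23.Col.c, TCG_Fi23.Col.e, TCG_Fi23.Col.h, TCG_Fi23.Col.d, TCG_Fi23.Col.i, TCG_Fi23.Col.b, TCG_Fi23.Col.a, TCG_Fi23.Col.c, TCG_Fi23.Col.e, TCG_Fi23.Col.h, TCG_Fi23.Col.d, TCG_Fi23.Col.a, TCG_Fi23.Col.d, TCG_Fi23.Col.a, TCG_Fi23.Col.e, TCG_Fi23.Col.d, TCG_Fi23.Col.c, TCG_Fi23.Col.b, TCG_Fi23.Col.i, TCG_Fi23.Col.j, TCG_Fi23.Col.e, TCG_Fi23.Col.j, TCG_Fi23.Col.h, TCG_Fi23.Col.d, TCG_Fi23.Col.c, TCG_Fi23.Col.e, TCG_Fi23.Col.d, TCG_Fi23.Col.b, TCG_Fi23.Col.i, TCG_Fi23.Col.h, TCG_Fi23.Col.d, TCG_Fi23.Col.j, TCG_Fi23.Col.c, TCG_Fi23.Col.e, TCG_Fi23.Col.h, TCG_Fi23.Col.d, TCG_Fi23.Col.c,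 TCG_Fi23.Col.g, TCG_Fi23.Col.h, TCG_Fi23.Col.c, TCG_Fi23.Col.b, TCG_Fi23.Col.g, TCG_Fi23.Col.j, TCG_Fi23.Col.a, TCG_Fi23.Col.d, TCG_Fi23.Col.e, TCG_Fi23.Col.i, TCG_Fi23.Col.h, TCG_Fi23.Col.d, TCG_Fi23.Col.a, TCG_Fi23.Col.c, TCG_Fi23.Col.d, TCG_Fi23.Col.c, TCG_Fi23.Col.e, TCG_Fi23.Col.h, TCG_Fi23.Col.d, TCG_Fi23.Col.f, TCG_Fi23.Col.d, TCG_Fi23.Col.e, TCG_Fi23.Col.c, TCG_Fi23.Col.b, TCG_Fi23.Col.h, TCG_Fi23.Col.b, TCG_Fi23.Col.d, TCG_Fi23.Col.g, TCG_Fi23.Col.h, TCG_Fi23.Col.b, TCG_Fi23.Col.d, TCG_Fi23.Col.c, TCG_Fi23.Col.d, TCG_Fi23.Col.g, TCG_Fi23.Col.e, TCG_Fi23.Col.i, TCG_Fi23.Col.h, TCG_Fi23.Col.d, TCG_Fi23.Col.j, TCG_Fi23.Col.g, TCG_Fi23.Col.j, TCG_Fi23.Col.b, TCG_Fi23.Col.d,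 TCG_Fi23.Col.f, TCG_Fi23.Col.i, TCG_Fi23.Col.e, TCG_Fi23.Col.b, TCG_Fi23.Col.d, TCG_Fi23.Col.c, TCG_Fi23.Col.b, TCG_Fi23.Col.f, TCG_Fi23.Col.a, TCG_Fi23.Col.i],
  [TCG_Fi23.Col.a, TCG_Fi23.Col.b, TCG_Fi23.Col.d, TCG_Fi23.Col.c, TCG_Fi23.Col.i, TCG_Fi23.Col.h, TCG_Fi23.Col.d, TCG_Fi23.Col.a, TCG_Fi23.Col.e, TCG_Fi23.Col.f, TCG_Fi23.Col.h, TCG_Fi23.Col.i, TCG_Fi23.Col.c, TCG_Fi23.Col.b, TCG_Fi23.Col.e, TCG_Fi23.Col.f, TCG_Fi23.Col.h, TCG_Fi23.Col.i, TCG_Fi23.Col.b, TCG_Fi23.Col.a, TCG_Fi23.Col.e, TCG_Fi23.Col.i, TCG_Fi23.Col.h, TCG_Fi23.Col.d, TCG_Fi23.Col.c, TCG_Fi23.Col.b, TCG_Fi23.Col.d, TCG_Fi23.Col.e, TCG_Fi23.Col.h, TCG_Fi23.Col.d, TCG_Fi23.Col.a, TCG_Fi23.Col.h, TCG_Fi23.Col.c,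 TCG_Fi23.Col.f, TCG_Fi23.Col.e, TCG_Fi23.Col.h, TCG_Fi23.Col.i, TCG_Fi23.Col.b, TCG_Fi23.Col.c, TCG_Fi23.Col.b, TCG_Fi23.Col.e, TCG_Fi23.Col.h, TCG_Fi23.Col.i, TCG_Fi23.Col.f, TCG_Fi23.Col.e, TCG_Fi23.Col.d, TCG_Fi23.Col.c, TCG_Fi23.Col.b, TCG_Fi23.Col.a, TCG_Fi23.Col.h, TCG_Fi23.Col.d, TCG_Fi23.Col.e, TCG_Fi23.Col.f, TCG_Fi23.Col.g, TCG_Fi23.Col.d, TCG_Fi23.Col.c, TCG_Fi23.Col.b, TCG_Fi23.Col.e, TCG_Fi23.Col.h, TCG_Fi23.Col.d, TCG_Fi23.Col.a, TCG_Fi23.Col.c, TCG_Fi23.Col.d, TCG_Fi23.Col.e, TCG_Fi23.Col.f, TCG_Fi23.Col.g, TCG_Fi23.Col.d, TCG_Fi23.Col.c, TCG_Fi23.Col.b, TCG_Fi23.Col.e, TCG_Fi23.Col.h, TCG_Fi23.Col.d, TCG_Fi23.Col.a, TCG_Fi23.Col.c, TCG_Fi23.Col.d, TCG_Fi23.Col.e,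 TCG_Fi23.Col.f, TCG_Fi23.Col.g, TCG_Fi23.Col.a, TCG_Fi23.Col.b, TCG_Fi23.Col.c, TCG_Fi23.Col.d, TCG_Fi23.Col.e, TCG_Fi23.Col.f, TCG_Fi23.Col.g, TCG_Fi23.Col.d, TCG_Fi23.Col.c, TCG_Fi23.Col.b, TCG_Fi23.Col.e, TCG_Fi23.Col.h, TCG_Fi23.Col.d, TCG_Fi23.Col.a, TCG_Fi23.Col.c, TCG_Fi23.Col.d, TCG_Fi23.Col.e, TCG_Fi23.Col.f, TCG_Fi23.Col.g, TCG_Fi23.Col.c, TCG_Fi23.Col.h, TCG_Fi23.Col.d, TCG_Fi23.Col.e, TCG_Fi23.Col.f, TCG_Fi23.Col.g, TCG_Fi23.Col.b, TCG_Fi23.Col.c, TCG_Fi23.Col.b, TCG_Fi23.Col.f, TCG_Fi23.Col.h, TCG_Fi23.Col.i, TCG_Fi23.Col.b, TCG_Fi23.Col.c, TCG_Fi23.Col.b, TCG_Fi23.Col.e, TCG_Fi23.Col.h, TCG_Fi23.Col.i, TCG_Fi23.Col.b, TCG_Fi23.Col.f, TCG_Fi23.Col.h, TCG_Fi23.Col.a,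 TCG_Fi23.Col.h, TCG_Fi23.Col.d, TCG_Fi23.Col.c, TCG_Fi23.Col.e, TCG_Fi23.Col.d, TCG_Fi23.Col.c, TCG_Fi23.Col.b, TCG_Fi23.Col.e, TCG_Fi23.Col.h, TCG_Fi23.Col.i, TCG_Fi23.Col.h, TCG_Fi23.Col.a, TCG_Fi23.Col.b, TCG_Fi23.Col.c, TCG_Fi23.Col.d, TCG_Fi23.Col.e, TCG_Fi23.Col.h, TCG_Fi23.Col.d, TCG_Fi23.Col.a, TCG_Fi23.Col.c, TCG_Fi23.Col.h, TCG_Fi23.Col.i, TCG_Fi23.Col.h, TCG_Fi23.Col.b, TCG_Fi23.Col.f, TCG_Fi23.Col.d, TCG_Fi23.Col.e, TCG_Fi23.Col.h, TCG_Fi23.Col.d, TCG_Fi23.Col.b, TCG_Fi23.Col.c, TCG_Fi23.Col.i, TCG_Fi23.Col.b, TCG_Fi23.Col.h, TCG_Fi23.Col.d, TCG_Fi23.Col.c, TCG_Fi23.Col.e, TCG_Fi23.Col.d, TCG_Fi23.Col.a, TCG_Fi23.Col.b, TCG_Fi23.Col.a, TCG_Fi23.Col.c, TCG_Fi23.Col.e,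 TCG_Fi23.Col.h, TCG_Fi23.Col.d, TCG_Fi23.Col.a, TCG_Fi23.Col.b, TCG_Fi23.Col.c, TCG_Fi23.Col.e, TCG_Fi23.Col.h, TCG_Fi23.Col.d, TCG_Fi23.Col.a, TCG_Fi23.Col.b, TCG_Fi23.Col.a, TCG_Fi23.Col.c, TCG_Fi23.Col.i, TCG_Fi23.Col.h, TCG_Fi23.Col.d, TCG_Fi23.Col.a, TCG_Fi23.Col.b, TCG_Fi23.Col.c, TCG_Fi23.Col.d, TCG_Fi23.Col.e, TCG_Fi23.Col.f, TCG_Fi23.Col.g, TCG_Fi23.Col.d, TCG_Fi23.Col.c, TCG_Fi23.Col.b, TCG_Fi23.Col.e, TCG_Fi23.Col.h, TCG_Fi23.Col.d, TCG_Fi23.Col.a, TCG_Fi23.Col.c, TCG_Fi23.Col.d, TCG_Fi23.Col.e, TCG_Fi23.Col.f, TCG_Fi23.Col.g, TCG_Fi23.Col.j, TCG_Fi23.Col.b, TCG_Fi23.Col.a, TCG_Fi23.Col.d, TCG_Fi23.Col.c, TCG_Fi23.Col.e, TCG_Fi23.Col.d, TCG_Fi23.Col.a, TCG_Fi23.Col.b,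 TCG_Fi23.Col.c, TCG_Fi23.Col.d, TCG_Fi23.Col.e, TCG_Fi23.Col.h, TCG_Fi23.Col.d, TCG_Fi23.Col.a, TCG_Fi23.Col.c, TCG_Fi23.Col.b, TCG_Fi23.Col.d, TCG_Fi23.Col.c, TCG_Fi23.Col.e, TCG_Fi23.Col.d, TCG_Fi23.Col.a, TCG_Fi23.Col.c, TCG_Fi23.Col.e, TCG_Fi23.Col.f, TCG_Fi23.Col.i, TCG_Fi23.Col.b, TCG_Fi23.Col.c, TCG_Fi23.Col.e, TCG_Fi23.Col.f, TCG_Fi23.Col.e, TCG_Fi23.Col.i, TCG_Fi23.Col.d, TCG_Fi23.Col.e, TCG_Fi23.Col.f, TCG_Fi23.Col.g, TCG_Fi23.Col.j, TCG_Fi23.Col.c, TCG_Fi23.Col.h, TCG_Fi23.Col.d, TCG_Fi23.Col.e, TCG_Fi23.Col.f, TCG_Fi23.Col.g, TCG_Fi23.Col.j, TCG_Fi23.Col.g, TCG_Fi23.Col.j, TCG_Fi23.Col.c, TCG_Fi23.Col.b, TCG_Fi23.Col.h, TCG_Fi23.Col.a, TCG_Fi23.Col.b, TCG_Fi23.Col.c,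 TCG_Fi23.Col.d, TCG_Fi23.Col.e, TCG_Fi23.Col.f, TCG_Fi23.Col.g, TCG_Fi23.Col.c, TCG_Fi23.Col.h, TCG_Fi23.Col.d, TCG_Fi23.Col.e, TCG_Fi23.Col.f, TCG_Fi23.Col.g, TCG_Fi23.Col.d, TCG_Fi23.Col.e, TCG_Fi23.Col.f, TCG_Fi23.Col.g, TCG_Fi23.Col.j, TCG_Fi23.Col.c, TCG_Fi23.Col.h, TCG_Fi23.Col.d, TCG_Fi23.Col.e, TCG_Fi23.Col.f, TCG_Fi23.Col.g, TCG_Fi23.Col.j, TCG_Fi23.Col.g, TCG_Fi23.Col.j, TCG_Fi23.Col.c, TCG_Fi23.Col.b, TCG_Fi23.Col.h, TCG_Fi23.Col.a, TCG_Fi23.Col.b, TCG_Fi23.Col.c, TCG_Fi23.Col.d, TCG_Fi23.Col.e, TCG_Fi23.Col.f, TCG_Fi23.Col.g, TCG_Fi23.Col.b, TCG_Fi23.Col.c, TCG_Fi23.Col.e, TCG_Fi23.Col.f, TCG_Fi23.Col.e, TCG_Fi23.Col.i, TCG_Fi23.Col.d, TCG_Fi23.Col.e, TCG_Fi23.Col.f,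 TCG_Fi23.Col.g, TCG_Fi23.Col.j, TCG_Fi23.Col.c, TCG_Fi23.Col.h, TCG_Fi23.Col.d, TCG_Fi23.Col.e, TCG_Fi23.Col.f, TCG_Fi23.Col.g, TCG_Fi23.Col.j, TCG_Fi23.Col.g, TCG_Fi23.Col.j, TCG_Fi23.Col.c, TCG_Fi23.Col.b, TCG_Fi23.Col.d, TCG_Fi23.Col.e, TCG_Fi23.Col.f, TCG_Fi23.Col.g, TCG_Fi23.Col.j, TCG_Fi23.Col.c, TCG_Fi23.Col.h, TCG_Fi23.Col.d, TCG_Fi23.Col.e, TCG_Fi23.Col.f, TCG_Fi23.Col.g, TCG_Fi23.Col.j, TCG_Fi23.Col.g, TCG_Fi23.Col.j, TCG_Fi23.Col.c, TCG_Fi23.Col.h, TCG_Fi23.Col.d, TCG_Fi23.Col.e, TCG_Fi23.Col.f, TCG_Fi23.Col.g, TCG_Fi23.Col.e, TCG_Fi23.Col.f, TCG_Fi23.Col.g, TCG_Fi23.Col.a, TCG_Fi23.Col.b, TCG_Fi23.Col.a, TCG_Fi23.Col.c, TCG_Fi23.Col.i, TCG_Fi23.Col.h, TCG_Fi23.Col.d,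 TCG_Fi23.Col.a, TCG_Fi23.Col.b, TCG_Fi23.Col.c, TCG_Fi23.Col.d, TCG_Fi23.Col.e, TCG_Fi23.Col.f, TCG_Fi23.Col.g, TCG_Fi23.Col.d, TCG_Fi23.Col.c, TCG_Fi23.Col.b, TCG_Fi23.Col.e, TCG_Fi23.Col.h, TCG_Fi23.Col.d, TCG_Fi23.Col.a, TCG_Fi23.Col.c, TCG_Fi23.Col.d, TCG_Fi23.Col.e, TCG_Fi23.Col.f, TCG_Fi23.Col.g, TCG_Fi23.Col.a, TCG_Fi23.Col.b, TCG_Fi23.Col.c, TCG_Fi23.Col.d, TCG_Fi23.Col.e, TCG_Fi23.Col.h, TCG_Fi23.Col.d, TCG_Fi23.Col.a, TCG_Fi23.Col.c, TCG_Fi23.Col.b, TCG_Fi23.Col.d, TCG_Fi23.Col.c, TCG_Fi23.Col.e, TCG_Fi23.Col.d, TCG_Fi23.Col.a, TCG_Fi23.Col.c, TCG_Fi23.Col.e, TCG_Fi23.Col.f, TCG_Fi23.Col.i, TCG_Fi23.Col.b, TCG_Fi23.Col.c, TCG_Fi23.Col.e, TCG_Fi23.Col.f, TCG_Fi23.Col.e,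 TCG_Fi23.Col.i, TCG_Fi23.Col.d, TCG_Fi23.Col.e, TCG_Fi23.Col.f, TCG_Fi23.Col.g, TCG_Fi23.Col.j, TCG_Fi23.Col.c, TCG_Fi23.Col.h, TCG_Fi23.Col.d, TCG_Fi23.Col.e, TCG_Fi23.Col.f, TCG_Fi23.Col.g, TCG_Fi23.Col.j, TCG_Fi23.Col.g, TCG_Fi23.Col.j, TCG_Fi23.Col.c, TCG_Fi23.Col.b, TCG_Fi23.Col.h, TCG_Fi23.Col.a, TCG_Fi23.Col.b, TCG_Fi23.Col.c, TCG_Fi23.Col.d, TCG_Fi23.Col.e, TCG_Fi23.Col.f, TCG_Fi23.Col.g, TCG_Fi23.Col.e, TCG_Fi23.Col.f, TCG_Fi23.Col.g, TCG_Fi23.Col.e, TCG_Fi23.Col.f, TCG_Fi23.Col.h, TCG_Fi23.Col.d, TCG_Fi23.Col.e, TCG_Fi23.Col.h, TCG_Fi23.Col.d, TCG_Fi23.Col.b, TCG_Fi23.Col.c, TCG_Fi23.Col.i, TCG_Fi23.Col.b, TCG_Fi23.Col.h, TCG_Fi23.Col.d, TCG_Fi23.Col.c, TCG_Fi23.Col.e,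 TCG_Fi23.Col.d, TCG_Fi23.Col.b, TCG_Fi23.Col.c, TCG_Fi23.Col.i, TCG_Fi23.Col.h, TCG_Fi23.Col.f, TCG_Fi23.Col.i, TCG_Fi23.Col.b, TCG_Fi23.Col.d, TCG_Fi23.Col.a, TCG_Fi23.Col.h, TCG_Fi23.Col.i, TCG_Fi23.Col.e, TCG_Fi23.Col.d, TCG_Fi23.Col.a],
  [TCG_Fi23.Col.a, TCG_Fi23.Col.d, TCG_Fi23.Col.c, TCG_Fi23.Col.e, TCG_Fi23.Col.i, TCG_Fi23.Col.h, TCG_Fi23.Col.d, TCG_Fi23.Col.b, TCG_Fi23.Col.c, TCG_Fi23.Col.b, TCG_Fi23.Col.e, TCG_Fi23.Col.h, TCG_Fi23.Col.i, TCG_Fi23.Col.b, TCG_Fi23.Col.f, TCG_Fi23.Col.h, TCG_Fi23.Col.a, TCG_Fi23.Col.h, TCG_Fi23.Col.d, TCG_Fi23.Col.c, TCG_Fi23.Col.e, TCG_Fi23.Col.d, TCG_Fi23.Col.c, TCG_Fi23.Col.b, TCG_Fi23.Col.e, TCG_Fi23.Col.h, TCG_Fi23.Col.i, TCG_Fi23.Col.h,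 TCG_Fi23.Col.a, TCG_Fi23.Col.b, TCG_Fi23.Col.c, TCG_Fi23.Col.d, TCG_Fi23.Col.e, TCG_Fi23.Col.h, TCG_Fi23.Col.d, TCG_Fi23.Col.a, TCG_Fi23.Col.c, TCG_Fi23.Col.h, TCG_Fi23.Col.i, TCG_Fi23.Col.h, TCG_Fi23.Col.b, TCG_Fi23.Col.f, TCG_Fi23.Col.d, TCG_Fi23.Col.e, TCG_Fi23.Col.h, TCG_Fi23.Col.d, TCG_Fi23.Col.b, TCG_Fi23.Col.c, TCG_Fi23.Col.i, TCG_Fi23.Col.b, TCG_Fi23.Col.h, TCG_Fi23.Col.d, TCG_Fi23.Col.c, TCG_Fi23.Col.e, TCG_Fi23.Col.d, TCG_Fi23.Col.a, TCG_Fi23.Col.d, TCG_Fi23.Col.c, TCG_Fi23.Col.e, TCG_Fi23.Col.h, TCG_Fi23.Col.d, TCG_Fi23.Col.c, TCG_Fi23.Col.f, TCG_Fi23.Col.e, TCG_Fi23.Col.i, TCG_Fi23.Col.h, TCG_Fi23.Col.c, TCG_Fi23.Col.f, TCG_Fi23.Col.e, TCG_Fi23.Col.h, TCG_Fi23.Col.i,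 TCG_Fi23.Col.d, TCG_Fi23.Col.e, TCG_Fi23.Col.h, TCG_Fi23.Col.d, TCG_Fi23.Col.c, TCG_Fi23.Col.i, TCG_Fi23.Col.b, TCG_Fi23.Col.h, TCG_Fi23.Col.d, TCG_Fi23.Col.c, TCG_Fi23.Col.e, TCG_Fi23.Col.d, TCG_Fi23.Col.b, TCG_Fi23.Col.e, TCG_Fi23.Col.i, TCG_Fi23.Col.h, TCG_Fi23.Col.b, TCG_Fi23.Col.c, TCG_Fi23.Col.b, TCG_Fi23.Col.e, TCG_Fi23.Col.h, TCG_Fi23.Col.i, TCG_Fi23.Col.f, TCG_Fi23.Col.d, TCG_Fi23.Col.e, TCG_Fi23.Col.c, TCG_Fi23.Col.b, TCG_Fi23.Col.h, TCG_Fi23.Col.b, TCG_Fi23.Col.d, TCG_Fi23.Col.g, TCG_Fi23.Col.h, TCG_Fi23.Col.b, TCG_Fi23.Col.d, TCG_Fi23.Col.c, TCG_Fi23.Col.d, TCG_Fi23.Col.g, TCG_Fi23.Col.e, TCG_Fi23.Col.i, TCG_Fi23.Col.h, TCG_Fi23.Col.d, TCG_Fi23.Col.e, TCG_Fi23.Col.f,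 TCG_Fi23.Col.c, TCG_Fi23.Col.b, TCG_Fi23.Col.h, TCG_Fi23.Col.i, TCG_Fi23.Col.d, TCG_Fi23.Col.e, TCG_Fi23.Col.f, TCG_Fi23.Col.g, TCG_Fi23.Col.j, TCG_Fi23.Col.c, TCG_Fi23.Col.h, TCG_Fi23.Col.d, TCG_Fi23.Col.e, TCG_Fi23.Col.f, TCG_Fi23.Col.g, TCG_Fi23.Col.j, TCG_Fi23.Col.g, TCG_Fi23.Col.j, TCG_Fi23.Col.b, TCG_Fi23.Col.c, TCG_Fi23.Col.e, TCG_Fi23.Col.i, TCG_Fi23.Col.h, TCG_Fi23.Col.a, TCG_Fi23.Col.b, TCG_Fi23.Col.c, TCG_Fi23.Col.d, TCG_Fi23.Col.e, TCG_Fi23.Col.f, TCG_Fi23.Col.g, TCG_Fi23.Col.a, TCG_Fi23.Col.b, TCG_Fi23.Col.c, TCG_Fi23.Col.d, TCG_Fi23.Col.e, TCG_Fi23.Col.f, TCG_Fi23.Col.g, TCG_Fi23.Col.d, TCG_Fi23.Col.c, TCG_Fi23.Col.b, TCG_Fi23.Col.e, TCG_Fi23.Col.h, TCG_Fi23.Col.d,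 TCG_Fi23.Col.a, TCG_Fi23.Col.c, TCG_Fi23.Col.d, TCG_Fi23.Col.e, TCG_Fi23.Col.f, TCG_Fi23.Col.g, TCG_Fi23.Col.b, TCG_Fi23.Col.c, TCG_Fi23.Col.b, TCG_Fi23.Col.f, TCG_Fi23.Col.e, TCG_Fi23.Col.i, TCG_Fi23.Col.f, TCG_Fi23.Col.e, TCG_Fi23.Col.d, TCG_Fi23.Col.c, TCG_Fi23.Col.b, TCG_Fi23.Col.a, TCG_Fi23.Col.h, TCG_Fi23.Col.d, TCG_Fi23.Col.e, TCG_Fi23.Col.f, TCG_Fi23.Col.g, TCG_Fi23.Col.f, TCG_Fi23.Col.e, TCG_Fi23.Col.d, TCG_Fi23.Col.c, TCG_Fi23.Col.b, TCG_Fi23.Col.a, TCG_Fi23.Col.h, TCG_Fi23.Col.d, TCG_Fi23.Col.e, TCG_Fi23.Col.f, TCG_Fi23.Col.g, TCG_Fi23.Col.d, TCG_Fi23.Col.c, TCG_Fi23.Col.e, TCG_Fi23.Col.d, TCG_Fi23.Col.h, TCG_Fi23.Col.i, TCG_Fi23.Col.b, TCG_Fi23.Col.c, TCG_Fi23.Col.d,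 TCG_Fi23.Col.e, TCG_Fi23.Col.h, TCG_Fi23.Col.d, TCG_Fi23.Col.b, TCG_Fi23.Col.c, TCG_Fi23.Col.b, TCG_Fi23.Col.f, TCG_Fi23.Col.e, TCG_Fi23.Col.i, TCG_Fi23.Col.f, TCG_Fi23.Col.e, TCG_Fi23.Col.d, TCG_Fi23.Col.c, TCG_Fi23.Col.b, TCG_Fi23.Col.a, TCG_Fi23.Col.h, TCG_Fi23.Col.d, TCG_Fi23.Col.e, TCG_Fi23.Col.f, TCG_Fi23.Col.g, TCG_Fi23.Col.f, TCG_Fi23.Col.e, TCG_Fi23.Col.d, TCG_Fi23.Col.c, TCG_Fi23.Col.b, TCG_Fi23.Col.a, TCG_Fi23.Col.h, TCG_Fi23.Col.d, TCG_Fi23.Col.e, TCG_Fi23.Col.f, TCG_Fi23.Col.g, TCG_Fi23.Col.a, TCG_Fi23.Col.b, TCG_Fi23.Col.a, TCG_Fi23.Col.c, TCG_Fi23.Col.i, TCG_Fi23.Col.h, TCG_Fi23.Col.d, TCG_Fi23.Col.a, TCG_Fi23.Col.b, TCG_Fi23.Col.c, TCG_Fi23.Col.d, TCG_Fi23.Col.e,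 TCG_Fi23.Col.f, TCG_Fi23.Col.g, TCG_Fi23.Col.d, TCG_Fi23.Col.c, TCG_Fi23.Col.b, TCG_Fi23.Col.e, TCG_Fi23.Col.h, TCG_Fi23.Col.d, TCG_Fi23.Col.a, TCG_Fi23.Col.c, TCG_Fi23.Col.d, TCG_Fi23.Col.e, TCG_Fi23.Col.f, TCG_Fi23.Col.g, TCG_Fi23.Col.a, TCG_Fi23.Col.b, TCG_Fi23.Col.a, TCG_Fi23.Col.c, TCG_Fi23.Col.i, TCG_Fi23.Col.h, TCG_Fi23.Col.d, TCG_Fi23.Col.a, TCG_Fi23.Col.b, TCG_Fi23.Col.c, TCG_Fi23.Col.d, TCG_Fi23.Col.e, TCG_Fi23.Col.f, TCG_Fi23.Col.g, TCG_Fi23.Col.d, TCG_Fi23.Col.c, TCG_Fi23.Col.b, TCG_Fi23.Col.e, TCG_Fi23.Col.h, TCG_Fi23.Col.d, TCG_Fi23.Col.a, TCG_Fi23.Col.c, TCG_Fi23.Col.d, TCG_Fi23.Col.e, TCG_Fi23.Col.f, TCG_Fi23.Col.g, TCG_Fi23.Col.j, TCG_Fi23.Col.g, TCG_Fi23.Col.j,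 TCG_Fi23.Col.f, TCG_Fi23.Col.e, TCG_Fi23.Col.d, TCG_Fi23.Col.c, TCG_Fi23.Col.b, TCG_Fi23.Col.a, TCG_Fi23.Col.h, TCG_Fi23.Col.d, TCG_Fi23.Col.e, TCG_Fi23.Col.f, TCG_Fi23.Col.g, TCG_Fi23.Col.b, TCG_Fi23.Col.c, TCG_Fi23.Col.b, TCG_Fi23.Col.f, TCG_Fi23.Col.e, TCG_Fi23.Col.i, TCG_Fi23.Col.f, TCG_Fi23.Col.e, TCG_Fi23.Col.d, TCG_Fi23.Col.c, TCG_Fi23.Col.b, TCG_Fi23.Col.a, TCG_Fi23.Col.h, TCG_Fi23.Col.d, TCG_Fi23.Col.e, TCG_Fi23.Col.f, TCG_Fi23.Col.g, TCG_Fi23.Col.b, TCG_Fi23.Col.c, TCG_Fi23.Col.h, TCG_Fi23.Col.d, TCG_Fi23.Col.c, TCG_Fi23.Col.b, TCG_Fi23.Col.c, TCG_Fi23.Col.f, TCG_Fi23.Col.e, TCG_Fi23.Col.i, TCG_Fi23.Col.h, TCG_Fi23.Col.d, TCG_Fi23.Col.c, TCG_Fi23.Col.b, TCG_Fi23.Col.f,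 TCG_Fi23.Col.h, TCG_Fi23.Col.e, TCG_Fi23.Col.f, TCG_Fi23.Col.i, TCG_Fi23.Col.a, TCG_Fi23.Col.c, TCG_Fi23.Col.d, TCG_Fi23.Col.e, TCG_Fi23.Col.h, TCG_Fi23.Col.d, TCG_Fi23.Col.c, TCG_Fi23.Col.e, TCG_Fi23.Col.f, TCG_Fi23.Col.h, TCG_Fi23.Col.i, TCG_Fi23.Col.h, TCG_Fi23.Col.a, TCG_Fi23.Col.b, TCG_Fi23.Col.d, TCG_Fi23.Col.c, TCG_Fi23.Col.f, TCG_Fi23.Col.e, TCG_Fi23.Col.d, TCG_Fi23.Col.b, TCG_Fi23.Col.c, TCG_Fi23.Col.h, TCG_Fi23.Col.i, TCG_Fi23.Col.h, TCG_Fi23.Col.c, TCG_Fi23.Col.b, TCG_Fi23.Col.f, TCG_Fi23.Col.h, TCG_Fi23.Col.i, TCG_Fi23.Col.a, TCG_Fi23.Col.d, TCG_Fi23.Col.e, TCG_Fi23.Col.d, TCG_Fi23.Col.c, TCG_Fi23.Col.h, TCG_Fi23.Col.d, TCG_Fi23.Col.b, TCG_Fi23.Col.c, TCG_Fi23.Col.b,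 TCG_Fi23.Col.e, TCG_Fi23.Col.h, TCG_Fi23.Col.i, TCG_Fi23.Col.b, TCG_Fi23.Col.f, TCG_Fi23.Col.h, TCG_Fi23.Col.a, TCG_Fi23.Col.h, TCG_Fi23.Col.d, TCG_Fi23.Col.c, TCG_Fi23.Col.e, TCG_Fi23.Col.d, TCG_Fi23.Col.c, TCG_Fi23.Col.b, TCG_Fi23.Col.e, TCG_Fi23.Col.h, TCG_Fi23.Col.i, TCG_Fi23.Col.h, TCG_Fi23.Col.a, TCG_Fi23.Col.b, TCG_Fi23.Col.c, TCG_Fi23.Col.d, TCG_Fi23.Col.e, TCG_Fi23.Col.h, TCG_Fi23.Col.d, TCG_Fi23.Col.a, TCG_Fi23.Col.c, TCG_Fi23.Col.h, TCG_Fi23.Col.i, TCG_Fi23.Col.h, TCG_Fi23.Col.b, TCG_Fi23.Col.f, TCG_Fi23.Col.d, TCG_Fi23.Col.e, TCG_Fi23.Col.h, TCG_Fi23.Col.d, TCG_Fi23.Col.b, TCG_Fi23.Col.c, TCG_Fi23.Col.i, TCG_Fi23.Col.b, TCG_Fi23.Col.h, TCG_Fi23.Col.d, TCG_Fi23.Col.c,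 TCG_Fi23.Col.e, TCG_Fi23.Col.d, TCG_Fi23.Col.a, TCG_Fi23.Col.d, TCG_Fi23.Col.c, TCG_Fi23.Col.e, TCG_Fi23.Col.h, TCG_Fi23.Col.d, TCG_Fi23.Col.i, TCG_Fi23.Col.a, TCG_Fi23.Col.i, TCG_Fi23.Col.d, TCG_Fi23.Col.h, TCG_Fi23.Col.g, TCG_Fi23.Col.j, TCG_Fi23.Col.c, TCG_Fi23.Col.g, TCG_Fi23.Col.e, TCG_Fi23.Col.f, TCG_Fi23.Col.e],
  [TCG_Fi23.Col.a, TCG_Fi23.Col.b, TCG_Fi23.Col.d, TCG_Fi23.Col.c, TCG_Fi23.Col.i, TCG_Fi23.Col.h, TCG_Fi23.Col.d, TCG_Fi23.Col.a, TCG_Fi23.Col.e, TCG_Fi23.Col.f, TCG_Fi23.Col.h, TCG_Fi23.Col.i, TCG_Fi23.Col.c, TCG_Fi23.Col.b, TCG_Fi23.Col.e, TCG_Fi23.Col.f, TCG_Fi23.Col.h, TCG_Fi23.Col.i, TCG_Fi23.Col.b, TCG_Fi23.Col.a, TCG_Fi23.Col.e, TCG_Fi23.Col.i, TCG_Fi23.Col.h,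 TCG_Fi23.Col.d, TCG_Fi23.Col.c, TCG_Fi23.Col.b, TCG_Fi23.Col.d, TCG_Fi23.Col.e, TCG_Fi23.Col.h, TCG_Fi23.Col.d, TCG_Fi23.Col.a, TCG_Fi23.Col.h, TCG_Fi23.Col.c, TCG_Fi23.Col.f, TCG_Fi23.Col.e, TCG_Fi23.Col.h, TCG_Fi23.Col.i, TCG_Fi23.Col.b, TCG_Fi23.Col.c, TCG_Fi23.Col.b, TCG_Fi23.Col.e, TCG_Fi23.Col.h, TCG_Fi23.Col.i, TCG_Fi23.Col.f, TCG_Fi23.Col.e, TCG_Fi23.Col.d, TCG_Fi23.Col.c, TCG_Fi23.Col.b, TCG_Fi23.Col.a, TCG_Fi23.Col.h, TCG_Fi23.Col.d, TCG_Fi23.Col.e, TCG_Fi23.Col.f, TCG_Fi23.Col.g, TCG_Fi23.Col.d, TCG_Fi23.Col.c, TCG_Fi23.Col.b, TCG_Fi23.Col.e, TCG_Fi23.Col.h, TCG_Fi23.Col.d, TCG_Fi23.Col.a, TCG_Fi23.Col.c, TCG_Fi23.Col.d, TCG_Fi23.Col.e, TCG_Fi23.Col.f, TCG_Fi23.Col.g,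 TCG_Fi23.Col.d, TCG_Fi23.Col.c, TCG_Fi23.Col.b, TCG_Fi23.Col.e, TCG_Fi23.Col.h, TCG_Fi23.Col.d, TCG_Fi23.Col.a, TCG_Fi23.Col.c, TCG_Fi23.Col.d, TCG_Fi23.Col.e, TCG_Fi23.Col.f, TCG_Fi23.Col.g, TCG_Fi23.Col.a, TCG_Fi23.Col.b, TCG_Fi23.Col.c, TCG_Fi23.Col.d, TCG_Fi23.Col.e, TCG_Fi23.Col.f, TCG_Fi23.Col.g, TCG_Fi23.Col.d, TCG_Fi23.Col.c, TCG_Fi23.Col.b, TCG_Fi23.Col.e, TCG_Fi23.Col.h, TCG_Fi23.Col.d, TCG_Fi23.Col.a, TCG_Fi23.Col.c, TCG_Fi23.Col.d, TCG_Fi23.Col.e, TCG_Fi23.Col.f, TCG_Fi23.Col.g, TCG_Fi23.Col.c, TCG_Fi23.Col.h, TCG_Fi23.Col.d, TCG_Fi23.Col.e, TCG_Fi23.Col.f, TCG_Fi23.Col.g, TCG_Fi23.Col.b, TCG_Fi23.Col.c, TCG_Fi23.Col.b, TCG_Fi23.Col.f, TCG_Fi23.Col.h, TCG_Fi23.Col.i,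 TCG_Fi23.Col.b, TCG_Fi23.Col.c, TCG_Fi23.Col.b, TCG_Fi23.Col.e, TCG_Fi23.Col.h, TCG_Fi23.Col.i, TCG_Fi23.Col.b, TCG_Fi23.Col.f, TCG_Fi23.Col.h, TCG_Fi23.Col.a, TCG_Fi23.Col.h, TCG_Fi23.Col.d, TCG_Fi23.Col.c, TCG_Fi23.Col.e, TCG_Fi23.Col.d, TCG_Fi23.Col.c, TCG_Fi23.Col.b, TCG_Fi23.Col.e, TCG_Fi23.Col.h, TCG_Fi23.Col.i, TCG_Fi23.Col.h, TCG_Fi23.Col.a, TCG_Fi23.Col.b, TCG_Fi23.Col.c, TCG_Fi23.Col.d, TCG_Fi23.Col.e, TCG_Fi23.Col.h, TCG_Fi23.Col.d, TCG_Fi23.Col.a, TCG_Fi23.Col.c, TCG_Fi23.Col.h, TCG_Fi23.Col.i, TCG_Fi23.Col.h, TCG_Fi23.Col.b, TCG_Fi23.Col.f, TCG_Fi23.Col.d, TCG_Fi23.Col.e, TCG_Fi23.Col.h, TCG_Fi23.Col.d, TCG_Fi23.Col.b, TCG_Fi23.Col.c, TCG_Fi23.Col.i, TCG_Fi23.Col.b,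 TCG_Fi23.Col.h, TCG_Fi23.Col.d, TCG_Fi23.Col.c, TCG_Fi23.Col.e, TCG_Fi23.Col.d, TCG_Fi23.Col.a, TCG_Fi23.Col.b, TCG_Fi23.Col.a, TCG_Fi23.Col.c, TCG_Fi23.Col.e, TCG_Fi23.Col.h, TCG_Fi23.Col.d, TCG_Fi23.Col.a, TCG_Fi23.Col.b, TCG_Fi23.Col.c, TCG_Fi23.Col.e, TCG_Fi23.Col.h, TCG_Fi23.Col.d, TCG_Fi23.Col.a, TCG_Fi23.Col.b, TCG_Fi23.Col.a, TCG_Fi23.Col.c, TCG_Fi23.Col.i, TCG_Fi23.Col.h, TCG_Fi23.Col.d, TCG_Fi23.Col.a, TCG_Fi23.Col.b, TCG_Fi23.Col.c, TCG_Fi23.Col.d, TCG_Fi23.Col.e, TCG_Fi23.Col.f, TCG_Fi23.Col.g, TCG_Fi23.Col.d, TCG_Fi23.Col.c, TCG_Fi23.Col.b, TCG_Fi23.Col.e, TCG_Fi23.Col.h, TCG_Fi23.Col.d, TCG_Fi23.Col.a, TCG_Fi23.Col.c, TCG_Fi23.Col.d, TCG_Fi23.Col.e, TCG_Fi23.Col.f,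 TCG_Fi23.Col.g, TCG_Fi23.Col.j, TCG_Fi23.Col.b, TCG_Fi23.Col.c, TCG_Fi23.Col.b, TCG_Fi23.Col.f, TCG_Fi23.Col.i, TCG_Fi23.Col.h, TCG_Fi23.Col.d, TCG_Fi23.Col.e, TCG_Fi23.Col.f, TCG_Fi23.Col.g, TCG_Fi23.Col.j, TCG_Fi23.Col.c, TCG_Fi23.Col.h, TCG_Fi23.Col.d, TCG_Fi23.Col.e, TCG_Fi23.Col.f, TCG_Fi23.Col.g, TCG_Fi23.Col.j, TCG_Fi23.Col.g, TCG_Fi23.Col.j, TCG_Fi23.Col.b, TCG_Fi23.Col.f, TCG_Fi23.Col.e, TCG_Fi23.Col.i, TCG_Fi23.Col.h, TCG_Fi23.Col.d, TCG_Fi23.Col.a, TCG_Fi23.Col.g, TCG_Fi23.Col.a, TCG_Fi23.Col.c, TCG_Fi23.Col.d, TCG_Fi23.Col.e, TCG_Fi23.Col.h, TCG_Fi23.Col.d, TCG_Fi23.Col.c, TCG_Fi23.Col.e, TCG_Fi23.Col.f, TCG_Fi23.Col.h, TCG_Fi23.Col.i, TCG_Fi23.Col.h, TCG_Fi23.Col.a,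 TCG_Fi23.Col.b, TCG_Fi23.Col.d, TCG_Fi23.Col.c, TCG_Fi23.Col.f, TCG_Fi23.Col.e, TCG_Fi23.Col.d, TCG_Fi23.Col.e, TCG_Fi23.Col.f, TCG_Fi23.Col.i, TCG_Fi23.Col.a, TCG_Fi23.Col.b, TCG_Fi23.Col.c, TCG_Fi23.Col.b, TCG_Fi23.Col.a, TCG_Fi23.Col.h, TCG_Fi23.Col.d, TCG_Fi23.Col.c, TCG_Fi23.Col.b, TCG_Fi23.Col.h, TCG_Fi23.Col.i, TCG_Fi23.Col.d, TCG_Fi23.Col.e, TCG_Fi23.Col.f, TCG_Fi23.Col.g, TCG_Fi23.Col.j, TCG_Fi23.Col.c, TCG_Fi23.Col.h, TCG_Fi23.Col.d, TCG_Fi23.Col.e, TCG_Fi23.Col.f, TCG_Fi23.Col.g, TCG_Fi23.Col.j, TCG_Fi23.Col.g, TCG_Fi23.Col.j, TCG_Fi23.Col.f, TCG_Fi23.Col.g, TCG_Fi23.Col.d, TCG_Fi23.Col.c, TCG_Fi23.Col.h, TCG_Fi23.Col.d, TCG_Fi23.Col.c, TCG_Fi23.Col.b, TCG_Fi23.Col.a,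 TCG_Fi23.Col.d, TCG_Fi23.Col.c, TCG_Fi23.Col.f, TCG_Fi23.Col.e, TCG_Fi23.Col.d, TCG_Fi23.Col.f, TCG_Fi23.Col.i, TCG_Fi23.Col.e, TCG_Fi23.Col.b, TCG_Fi23.Col.f, TCG_Fi23.Col.c, TCG_Fi23.Col.b, TCG_Fi23.Col.c, TCG_Fi23.Col.b, TCG_Fi23.Col.d, TCG_Fi23.Col.c, TCG_Fi23.Col.e, TCG_Fi23.Col.d, TCG_Fi23.Col.a, TCG_Fi23.Col.c, TCG_Fi23.Col.b, TCG_Fi23.Col.d, TCG_Fi23.Col.c, TCG_Fi23.Col.h, TCG_Fi23.Col.d, TCG_Fi23.Col.c, TCG_Fi23.Col.b, TCG_Fi23.Col.d, TCG_Fi23.Col.c, TCG_Fi23.Col.h, TCG_Fi23.Col.d, TCG_Fi23.Col.b, TCG_Fi23.Col.c, TCG_Fi23.Col.d, TCG_Fi23.Col.e, TCG_Fi23.Col.f, TCG_Fi23.Col.g, TCG_Fi23.Col.d, TCG_Fi23.Col.c, TCG_Fi23.Col.b, TCG_Fi23.Col.e, TCG_Fi23.Col.h, TCG_Fi23.Col.d,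 TCG_Fi23.Col.a, TCG_Fi23.Col.c, TCG_Fi23.Col.d, TCG_Fi23.Col.e, TCG_Fi23.Col.f, TCG_Fi23.Col.g, TCG_Fi23.Col.c, TCG_Fi23.Col.b, TCG_Fi23.Col.h, TCG_Fi23.Col.i, TCG_Fi23.Col.d, TCG_Fi23.Col.e, TCG_Fi23.Col.f, TCG_Fi23.Col.g, TCG_Fi23.Col.j, TCG_Fi23.Col.c, TCG_Fi23.Col.h, TCG_Fi23.Col.d, TCG_Fi23.Col.e, TCG_Fi23.Col.f, TCG_Fi23.Col.g, TCG_Fi23.Col.j, TCG_Fi23.Col.g, TCG_Fi23.Col.j, TCG_Fi23.Col.b, TCG_Fi23.Col.c, TCG_Fi23.Col.e, TCG_Fi23.Col.i, TCG_Fi23.Col.h, TCG_Fi23.Col.a, TCG_Fi23.Col.b, TCG_Fi23.Col.c, TCG_Fi23.Col.d, TCG_Fi23.Col.e, TCG_Fi23.Col.f, TCG_Fi23.Col.g, TCG_Fi23.Col.e, TCG_Fi23.Col.h, TCG_Fi23.Col.d, TCG_Fi23.Col.e, TCG_Fi23.Col.f, TCG_Fi23.Col.g, TCG_Fi23.Col.j,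 TCG_Fi23.Col.a, TCG_Fi23.Col.b, TCG_Fi23.Col.d, TCG_Fi23.Col.c, TCG_Fi23.Col.i, TCG_Fi23.Col.h, TCG_Fi23.Col.d, TCG_Fi23.Col.a, TCG_Fi23.Col.c, TCG_Fi23.Col.h, TCG_Fi23.Col.d, TCG_Fi23.Col.e, TCG_Fi23.Col.f, TCG_Fi23.Col.g, TCG_Fi23.Col.j, TCG_Fi23.Col.g, TCG_Fi23.Col.j, TCG_Fi23.Col.f, TCG_Fi23.Col.h, TCG_Fi23.Col.i, TCG_Fi23.Col.h, TCG_Fi23.Col.c, TCG_Fi23.Col.b, TCG_Fi23.Col.d, TCG_Fi23.Col.c, TCG_Fi23.Col.h, TCG_Fi23.Col.d, TCG_Fi23.Col.c, TCG_Fi23.Col.b, TCG_Fi23.Col.d, TCG_Fi23.Col.c, TCG_Fi23.Col.e, TCG_Fi23.Col.d, TCG_Fi23.Col.a, TCG_Fi23.Col.e, TCG_Fi23.Col.h, TCG_Fi23.Col.i, TCG_Fi23.Col.h, TCG_Fi23.Col.a, TCG_Fi23.Col.e, TCG_Fi23.Col.h, TCG_Fi23.Col.d, TCG_Fi23.Col.c,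 TCG_Fi23.Col.d, TCG_Fi23.Col.e, TCG_Fi23.Col.h, TCG_Fi23.Col.d, TCG_Fi23.Col.b, TCG_Fi23.Col.c, TCG_Fi23.Col.h, TCG_Fi23.Col.b, TCG_Fi23.Col.f, TCG_Fi23.Col.e, TCG_Fi23.Col.i, TCG_Fi23.Col.h, TCG_Fi23.Col.d, TCG_Fi23.Col.g, TCG_Fi23.Col.e, TCG_Fi23.Col.c, TCG_Fi23.Col.i, TCG_Fi23.Col.b, TCG_Fi23.Col.d, TCG_Fi23.Col.g, TCG_Fi23.Col.c, TCG_Fi23.Col.h, TCG_Fi23.Col.d, TCG_Fi23.Col.e, TCG_Fi23.Col.i, TCG_Fi23.Col.h, TCG_Fi23.Col.d, TCG_Fi23.Col.f, TCG_Fi23.Col.e, TCG_Fi23.Col.h, TCG_Fi23.Col.i, TCG_Fi23.Col.c, TCG_Fi23.Col.a, TCG_Fi23.Col.d, TCG_Fi23.Col.c, TCG_Fi23.Col.h, TCG_Fi23.Col.e, TCG_Fi23.Col.d, TCG_Fi23.Col.h, TCG_Fi23.Col.c, TCG_Fi23.Col.d, TCG_Fi23.Col.j, TCG_Fi23.Col.b,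 TCG_Fi23.Col.d, TCG_Fi23.Col.j, TCG_Fi23.Col.e, TCG_Fi23.Col.a, TCG_Fi23.Col.e, TCG_Fi23.Col.c, TCG_Fi23.Col.e, TCG_Fi23.Col.f, TCG_Fi23.Col.e, TCG_Fi23.Col.i, TCG_Fi23.Col.b, TCG_Fi23.Col.c, TCG_Fi23.Col.h, TCG_Fi23.Col.i, TCG_Fi23.Col.h, TCG_Fi23.Col.d, TCG_Fi23.Col.e, TCG_Fi23.Col.h, TCG_Fi23.Col.d, TCG_Fi23.Col.c, TCG_Fi23.Col.i, TCG_Fi23.Col.b, TCG_Fi23.Col.h, TCG_Fi23.Col.d, TCG_Fi23.Col.c, TCG_Fi23.Col.e, TCG_Fi23.Col.d, TCG_Fi23.Col.c, TCG_Fi23.Col.f, TCG_Fi23.Col.d, TCG_Fi23.Col.g, TCG_Fi23.Col.e, TCG_Fi23.Col.c, TCG_Fi23.Col.i, TCG_Fi23.Col.b, TCG_Fi23.Col.d, TCG_Fi23.Col.g, TCG_Fi23.Col.c, TCG_Fi23.Col.h, TCG_Fi23.Col.d, TCG_Fi23.Col.e, TCG_Fi23.Col.i, TCG_Fi23.Col.h,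 TCG_Fi23.Col.d, TCG_Fi23.Col.f, TCG_Fi23.Col.e, TCG_Fi23.Col.h, TCG_Fi23.Col.i, TCG_Fi23.Col.c, TCG_Fi23.Col.e, TCG_Fi23.Col.h, TCG_Fi23.Col.i, TCG_Fi23.Col.h, TCG_Fi23.Col.d, TCG_Fi23.Col.b, TCG_Fi23.Col.j, TCG_Fi23.Col.f, TCG_Fi23.Col.g, TCG_Fi23.Col.c, TCG_Fi23.Col.f, TCG_Fi23.Col.b, TCG_Fi23.Col.j, TCG_Fi23.Col.e, TCG_Fi23.Col.f],
  [TCG_Fi23.Col.a, TCG_Fi23.Col.d, TCG_Fi23.Col.c, TCG_Fi23.Col.e, TCG_Fi23.Col.i, TCG_Fi23.Col.h, TCG_Fi23.Col.d, TCG_Fi23.Col.b, TCG_Fi23.Col.c, TCG_Fi23.Col.b, TCG_Fi23.Col.e, TCG_Fi23.Col.h, TCG_Fi23.Col.i, TCG_Fi23.Col.b, TCG_Fi23.Col.f, TCG_Fi23.Col.h, TCG_Fi23.Col.a, TCG_Fi23.Col.h, TCG_Fi23.Col.d, TCG_Fi23.Col.c, TCG_Fi23.Col.e, TCG_Fi23.Col.d,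 TCG_Fi23.Col.c, TCG_Fi23.Col.b, TCG_Fi23.Col.e, TCG_Fi23.Col.h, TCG_Fi23.Col.i, TCG_Fi23.Col.h, TCG_Fi23.Col.a, TCG_Fi23.Col.b, TCG_Fi23.Col.c, TCG_Fi23.Col.d, TCG_Fi23.Col.e, TCG_Fi23.Col.h, TCG_Fi23.Col.d, TCG_Fi23.Col.a, TCG_Fi23.Col.c, TCG_Fi23.Col.h, TCG_Fi23.Col.i, TCG_Fi23.Col.h, TCG_Fi23.Col.b, TCG_Fi23.Col.f, TCG_Fi23.Col.d, TCG_Fi23.Col.e, TCG_Fi23.Col.h, TCG_Fi23.Col.d, TCG_Fi23.Col.b, TCG_Fi23.Col.c, TCG_Fi23.Col.i, TCG_Fi23.Col.b, TCG_Fi23.Col.h, TCG_Fi23.Col.d, TCG_Fi23.Col.c, TCG_Fi23.Col.e, TCG_Fi23.Col.d, TCG_Fi23.Col.a, TCG_Fi23.Col.d, TCG_Fi23.Col.c, TCG_Fi23.Col.e, TCG_Fi23.Col.h, TCG_Fi23.Col.d, TCG_Fi23.Col.c, TCG_Fi23.Col.f, TCG_Fi23.Col.e, TCG_Fi23.Col.i,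 TCG_Fi23.Col.h, TCG_Fi23.Col.c, TCG_Fi23.Col.f, TCG_Fi23.Col.e, TCG_Fi23.Col.h, TCG_Fi23.Col.i, TCG_Fi23.Col.d, TCG_Fi23.Col.e, TCG_Fi23.Col.h, TCG_Fi23.Col.d, TCG_Fi23.Col.c, TCG_Fi23.Col.i, TCG_Fi23.Col.b, TCG_Fi23.Col.h, TCG_Fi23.Col.d, TCG_Fi23.Col.c, TCG_Fi23.Col.e, TCG_Fi23.Col.d, TCG_Fi23.Col.b, TCG_Fi23.Col.e, TCG_Fi23.Col.i, TCG_Fi23.Col.h, TCG_Fi23.Col.b, TCG_Fi23.Col.c, TCG_Fi23.Col.b, TCG_Fi23.Col.e, TCG_Fi23.Col.h, TCG_Fi23.Col.i, TCG_Fi23.Col.f, TCG_Fi23.Col.d, TCG_Fi23.Col.e, TCG_Fi23.Col.c, TCG_Fi23.Col.b, TCG_Fi23.Col.h, TCG_Fi23.Col.b, TCG_Fi23.Col.d, TCG_Fi23.Col.g, TCG_Fi23.Col.h, TCG_Fi23.Col.b, TCG_Fi23.Col.d, TCG_Fi23.Col.c, TCG_Fi23.Col.d, TCG_Fi23.Col.g,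 TCG_Fi23.Col.e, TCG_Fi23.Col.i, TCG_Fi23.Col.h, TCG_Fi23.Col.d, TCG_Fi23.Col.e, TCG_Fi23.Col.f, TCG_Fi23.Col.c, TCG_Fi23.Col.b, TCG_Fi23.Col.h, TCG_Fi23.Col.i, TCG_Fi23.Col.d, TCG_Fi23.Col.e, TCG_Fi23.Col.f, TCG_Fi23.Col.g, TCG_Fi23.Col.j, TCG_Fi23.Col.c, TCG_Fi23.Col.h, TCG_Fi23.Col.d, TCG_Fi23.Col.e, TCG_Fi23.Col.f, TCG_Fi23.Col.g, TCG_Fi23.Col.j, TCG_Fi23.Col.g, TCG_Fi23.Col.j, TCG_Fi23.Col.b, TCG_Fi23.Col.c, TCG_Fi23.Col.e, TCG_Fi23.Col.i, TCG_Fi23.Col.h, TCG_Fi23.Col.a, TCG_Fi23.Col.b, TCG_Fi23.Col.c, TCG_Fi23.Col.d, TCG_Fi23.Col.e, TCG_Fi23.Col.f, TCG_Fi23.Col.g, TCG_Fi23.Col.a, TCG_Fi23.Col.b, TCG_Fi23.Col.c, TCG_Fi23.Col.d, TCG_Fi23.Col.e, TCG_Fi23.Col.f, TCG_Fi23.Col.g,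 TCG_Fi23.Col.d, TCG_Fi23.Col.c, TCG_Fi23.Col.b, TCG_Fi23.Col.e, TCG_Fi23.Col.h, TCG_Fi23.Col.d, TCG_Fi23.Col.a, TCG_Fi23.Col.c, TCG_Fi23.Col.d, TCG_Fi23.Col.e, TCG_Fi23.Col.f, TCG_Fi23.Col.g, TCG_Fi23.Col.b, TCG_Fi23.Col.c, TCG_Fi23.Col.b, TCG_Fi23.Col.f, TCG_Fi23.Col.e, TCG_Fi23.Col.i, TCG_Fi23.Col.f, TCG_Fi23.Col.e, TCG_Fi23.Col.d, TCG_Fi23.Col.c, TCG_Fi23.Col.b, TCG_Fi23.Col.a, TCG_Fi23.Col.h, TCG_Fi23.Col.d, TCG_Fi23.Col.e, TCG_Fi23.Col.f, TCG_Fi23.Col.g, TCG_Fi23.Col.f, TCG_Fi23.Col.e, TCG_Fi23.Col.d, TCG_Fi23.Col.c, TCG_Fi23.Col.b, TCG_Fi23.Col.a, TCG_Fi23.Col.h, TCG_Fi23.Col.d, TCG_Fi23.Col.e, TCG_Fi23.Col.f, TCG_Fi23.Col.g, TCG_Fi23.Col.d, TCG_Fi23.Col.c, TCG_Fi23.Col.e,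 TCG_Fi23.Col.d, TCG_Fi23.Col.h, TCG_Fi23.Col.i, TCG_Fi23.Col.b, TCG_Fi23.Col.c, TCG_Fi23.Col.d, TCG_Fi23.Col.e, TCG_Fi23.Col.h, TCG_Fi23.Col.d, TCG_Fi23.Col.b, TCG_Fi23.Col.c, TCG_Fi23.Col.b, TCG_Fi23.Col.f, TCG_Fi23.Col.e, TCG_Fi23.Col.i, TCG_Fi23.Col.f, TCG_Fi23.Col.e, TCG_Fi23.Col.d, TCG_Fi23.Col.c, TCG_Fi23.Col.b, TCG_Fi23.Col.a, TCG_Fi23.Col.h, TCG_Fi23.Col.d, TCG_Fi23.Col.e, TCG_Fi23.Col.f, TCG_Fi23.Col.g, TCG_Fi23.Col.f, TCG_Fi23.Col.e, TCG_Fi23.Col.d, TCG_Fi23.Col.c, TCG_Fi23.Col.b, TCG_Fi23.Col.a, TCG_Fi23.Col.h, TCG_Fi23.Col.d, TCG_Fi23.Col.e, TCG_Fi23.Col.f, TCG_Fi23.Col.g, TCG_Fi23.Col.a, TCG_Fi23.Col.b, TCG_Fi23.Col.a, TCG_Fi23.Col.c, TCG_Fi23.Col.i, TCG_Fi23.Col.h,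 TCG_Fi23.Col.d, TCG_Fi23.Col.a, TCG_Fi23.Col.b, TCG_Fi23.Col.c, TCG_Fi23.Col.d, TCG_Fi23.Col.e, TCG_Fi23.Col.f, TCG_Fi23.Col.g, TCG_Fi23.Col.d, TCG_Fi23.Col.c, TCG_Fi23.Col.b, TCG_Fi23.Col.e, TCG_Fi23.Col.h, TCG_Fi23.Col.d, TCG_Fi23.Col.a, TCG_Fi23.Col.c, TCG_Fi23.Col.d, TCG_Fi23.Col.e, TCG_Fi23.Col.f, TCG_Fi23.Col.g, TCG_Fi23.Col.a, TCG_Fi23.Col.b, TCG_Fi23.Col.a, TCG_Fi23.Col.c, TCG_Fi23.Col.i, TCG_Fi23.Col.h, TCG_Fi23.Col.d, TCG_Fi23.Col.a, TCG_Fi23.Col.b, TCG_Fi23.Col.c, TCG_Fi23.Col.d, TCG_Fi23.Col.e, TCG_Fi23.Col.f, TCG_Fi23.Col.g, TCG_Fi23.Col.d, TCG_Fi23.Col.c, TCG_Fi23.Col.b, TCG_Fi23.Col.e, TCG_Fi23.Col.h, TCG_Fi23.Col.d, TCG_Fi23.Col.a, TCG_Fi23.Col.c, TCG_Fi23.Col.d,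 TCG_Fi23.Col.e, TCG_Fi23.Col.f, TCG_Fi23.Col.g, TCG_Fi23.Col.j, TCG_Fi23.Col.g, TCG_Fi23.Col.j, TCG_Fi23.Col.f, TCG_Fi23.Col.e, TCG_Fi23.Col.d, TCG_Fi23.Col.c, TCG_Fi23.Col.b, TCG_Fi23.Col.a, TCG_Fi23.Col.h, TCG_Fi23.Col.d, TCG_Fi23.Col.e, TCG_Fi23.Col.f, TCG_Fi23.Col.g, TCG_Fi23.Col.b, TCG_Fi23.Col.c, TCG_Fi23.Col.b, TCG_Fi23.Col.f, TCG_Fi23.Col.e, TCG_Fi23.Col.i, TCG_Fi23.Col.f, TCG_Fi23.Col.e, TCG_Fi23.Col.d, TCG_Fi23.Col.c, TCG_Fi23.Col.b, TCG_Fi23.Col.a, TCG_Fi23.Col.h, TCG_Fi23.Col.d, TCG_Fi23.Col.e, TCG_Fi23.Col.f, TCG_Fi23.Col.g, TCG_Fi23.Col.h, TCG_Fi23.Col.i, TCG_Fi23.Col.c, TCG_Fi23.Col.h, TCG_Fi23.Col.d, TCG_Fi23.Col.e, TCG_Fi23.Col.a, TCG_Fi23.Col.b, TCG_Fi23.Col.a,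 TCG_Fi23.Col.b, TCG_Fi23.Col.c, TCG_Fi23.Col.f, TCG_Fi23.Col.b, TCG_Fi23.Col.i, TCG_Fi23.Col.a, TCG_Fi23.Col.d, TCG_Fi23.Col.f, TCG_Fi23.Col.e, TCG_Fi23.Col.j, TCG_Fi23.Col.f, TCG_Fi23.Col.d, TCG_Fi23.Col.e, TCG_Fi23.Col.c, TCG_Fi23.Col.d, TCG_Fi23.Col.b, TCG_Fi23.Col.c, TCG_Fi23.Col.e, TCG_Fi23.Col.h, TCG_Fi23.Col.j, TCG_Fi23.Col.i, TCG_Fi23.Col.a, TCG_Fi23.Col.g, TCG_Fi23.Col.e, TCG_Fi23.Col.h, TCG_Fi23.Col.g, TCG_Fi23.Col.a, TCG_Fi23.Col.d, TCG_Fi23.Col.e, TCG_Fi23.Col.h, TCG_Fi23.Col.d, TCG_Fi23.Col.c, TCG_Fi23.Col.f, TCG_Fi23.Col.e, TCG_Fi23.Col.h, TCG_Fi23.Col.i, TCG_Fi23.Col.d, TCG_Fi23.Col.e, TCG_Fi23.Col.h, TCG_Fi23.Col.d, TCG_Fi23.Col.c, TCG_Fi23.Col.i, TCG_Fi23.Col.b,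 TCG_Fi23.Col.h, TCG_Fi23.Col.d, TCG_Fi23.Col.c, TCG_Fi23.Col.e, TCG_Fi23.Col.d, TCG_Fi23.Col.b, TCG_Fi23.Col.c, TCG_Fi23.Col.f, TCG_Fi23.Col.i, TCG_Fi23.Col.h, TCG_Fi23.Col.c, TCG_Fi23.Col.b, TCG_Fi23.Col.e, TCG_Fi23.Col.i, TCG_Fi23.Col.e, TCG_Fi23.Col.f, TCG_Fi23.Col.e, TCG_Fi23.Col.i, TCG_Fi23.Col.h, TCG_Fi23.Col.d, TCG_Fi23.Col.c, TCG_Fi23.Col.e, TCG_Fi23.Col.d, TCG_Fi23.Col.h, TCG_Fi23.Col.i, TCG_Fi23.Col.b, TCG_Fi23.Col.c, TCG_Fi23.Col.d, TCG_Fi23.Col.e, TCG_Fi23.Col.h, TCG_Fi23.Col.d, TCG_Fi23.Col.c, TCG_Fi23.Col.f, TCG_Fi23.Col.e, TCG_Fi23.Col.h, TCG_Fi23.Col.i, TCG_Fi23.Col.d, TCG_Fi23.Col.e, TCG_Fi23.Col.h, TCG_Fi23.Col.d, TCG_Fi23.Col.c, TCG_Fi23.Col.i, TCG_Fi23.Col.b,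 TCG_Fi23.Col.h, TCG_Fi23.Col.d, TCG_Fi23.Col.c, TCG_Fi23.Col.e, TCG_Fi23.Col.d, TCG_Fi23.Col.c, TCG_Fi23.Col.f, TCG_Fi23.Col.h, TCG_Fi23.Col.i, TCG_Fi23.Col.h, TCG_Fi23.Col.e, TCG_Fi23.Col.f, TCG_Fi23.Col.e, TCG_Fi23.Col.h, TCG_Fi23.Col.i, TCG_Fi23.Col.b, TCG_Fi23.Col.e, TCG_Fi23.Col.h, TCG_Fi23.Col.i, TCG_Fi23.Col.h, TCG_Fi23.Col.d, TCG_Fi23.Col.g, TCG_Fi23.Col.h, TCG_Fi23.Col.i, TCG_Fi23.Col.h, TCG_Fi23.Col.f, TCG_Fi23.Col.e, TCG_Fi23.Col.d, TCG_Fi23.Col.h, TCG_Fi23.Col.b, TCG_Fi23.Col.e, TCG_Fi23.Col.c, TCG_Fi23.Col.e],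
  [TCG_Fi23.Col.c, TCG_Fi23.Col.b, TCG_Fi23.Col.f, TCG_Fi23.Col.d, TCG_Fi23.Col.e, TCG_Fi23.Col.h, TCG_Fi23.Col.d, TCG_Fi23.Col.b, TCG_Fi23.Col.c, TCG_Fi23.Col.i, TCG_Fi23.Col.b, TCG_Fi23.Col.h, TCG_Fi23.Col.d, TCG_Fi23.Col.c, TCG_Fi23.Col.e, TCG_Fi23.Col.d, TCG_Fi23.Col.b, TCG_Fi23.Col.c, TCG_Fi23.Col.i, TCG_Fi23.Col.c, TCG_Fi23.Col.f, TCG_Fi23.Col.e, TCG_Fi23.Col.h, TCG_Fi23.Col.i, TCG_Fi23.Col.d, TCG_Fi23.Col.e, TCG_Fi23.Col.h, TCG_Fi23.Col.d, TCG_Fi23.Col.c, TCG_Fi23.Col.i, TCG_Fi23.Col.b, TCG_Fi23.Col.h, TCG_Fi23.Col.d, TCG_Fi23.Col.c, TCG_Fi23.Col.e, TCG_Fi23.Col.d, TCG_Fi23.Col.b, TCG_Fi23.Col.c, TCG_Fi23.Col.f, TCG_Fi23.Col.i, TCG_Fi23.Col.h, TCG_Fi23.Col.c, TCG_Fi23.Col.b,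 TCG_Fi23.Col.f, TCG_Fi23.Col.e, TCG_Fi23.Col.i, TCG_Fi23.Col.b, TCG_Fi23.Col.c, TCG_Fi23.Col.f, TCG_Fi23.Col.i, TCG_Fi23.Col.b, TCG_Fi23.Col.c, TCG_Fi23.Col.f, TCG_Fi23.Col.h, TCG_Fi23.Col.c, TCG_Fi23.Col.f, TCG_Fi23.Col.e, TCG_Fi23.Col.h, TCG_Fi23.Col.i, TCG_Fi23.Col.d, TCG_Fi23.Col.e, TCG_Fi23.Col.h, TCG_Fi23.Col.d, TCG_Fi23.Col.c, TCG_Fi23.Col.i, TCG_Fi23.Col.b, TCG_Fi23.Col.h, TCG_Fi23.Col.d, TCG_Fi23.Col.c, TCG_Fi23.Col.e, TCG_Fi23.Col.d, TCG_Fi23.Col.b, TCG_Fi23.Col.c, TCG_Fi23.Col.f, TCG_Fi23.Col.i, TCG_Fi23.Col.h, TCG_Fi23.Col.c, TCG_Fi23.Col.f, TCG_Fi23.Col.e, TCG_Fi23.Col.i, TCG_Fi23.Col.h, TCG_Fi23.Col.b, TCG_Fi23.Col.e, TCG_Fi23.Col.f, TCG_Fi23.Col.h, TCG_Fi23.Col.a,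 TCG_Fi23.Col.c, TCG_Fi23.Col.f, TCG_Fi23.Col.e, TCG_Fi23.Col.i, TCG_Fi23.Col.h, TCG_Fi23.Col.d, TCG_Fi23.Col.b, TCG_Fi23.Col.c, TCG_Fi23.Col.h, TCG_Fi23.Col.d, TCG_Fi23.Col.c, TCG_Fi23.Col.d, TCG_Fi23.Col.c, TCG_Fi23.Col.b, TCG_Fi23.Col.h, TCG_Fi23.Col.d, TCG_Fi23.Col.b, TCG_Fi23.Col.c, TCG_Fi23.Col.e, TCG_Fi23.Col.h, TCG_Fi23.Col.d, TCG_Fi23.Col.a, TCG_Fi23.Col.b, TCG_Fi23.Col.a, TCG_Fi23.Col.c, TCG_Fi23.Col.i, TCG_Fi23.Col.h, TCG_Fi23.Col.d, TCG_Fi23.Col.a, TCG_Fi23.Col.b, TCG_Fi23.Col.c, TCG_Fi23.Col.d, TCG_Fi23.Col.e, TCG_Fi23.Col.f, TCG_Fi23.Col.g, TCG_Fi23.Col.d, TCG_Fi23.Col.c, TCG_Fi23.Col.b, TCG_Fi23.Col.e, TCG_Fi23.Col.h, TCG_Fi23.Col.d, TCG_Fi23.Col.a, TCG_Fi23.Col.c,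 TCG_Fi23.Col.d, TCG_Fi23.Col.e, TCG_Fi23.Col.f, TCG_Fi23.Col.g, TCG_Fi23.Col.j, TCG_Fi23.Col.e, TCG_Fi23.Col.h, TCG_Fi23.Col.i, TCG_Fi23.Col.h, TCG_Fi23.Col.c, TCG_Fi23.Col.b, TCG_Fi23.Col.d, TCG_Fi23.Col.c, TCG_Fi23.Col.h, TCG_Fi23.Col.d, TCG_Fi23.Col.c, TCG_Fi23.Col.b, TCG_Fi23.Col.d, TCG_Fi23.Col.c, TCG_Fi23.Col.e, TCG_Fi23.Col.d, TCG_Fi23.Col.e, TCG_Fi23.Col.d, TCG_Fi23.Col.h, TCG_Fi23.Col.e, TCG_Fi23.Col.g, TCG_Fi23.Col.a, TCG_Fi23.Col.d, TCG_Fi23.Col.a, TCG_Fi23.Col.c, TCG_Fi23.Col.a, TCG_Fi23.Col.i, TCG_Fi23.Col.b, TCG_Fi23.Col.g, TCG_Fi23.Col.h, TCG_Fi23.Col.d, TCG_Fi23.Col.c, TCG_Fi23.Col.e, TCG_Fi23.Col.f, TCG_Fi23.Col.e, TCG_Fi23.Col.f, TCG_Fi23.Col.c, TCG_Fi23.Col.d,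 TCG_Fi23.Col.h, TCG_Fi23.Col.b, TCG_Fi23.Col.c, TCG_Fi23.Col.f, TCG_Fi23.Col.d, TCG_Fi23.Col.b, TCG_Fi23.Col.e, TCG_Fi23.Col.g, TCG_Fi23.Col.i, TCG_Fi23.Col.h, TCG_Fi23.Col.d, TCG_Fi23.Col.f, TCG_Fi23.Col.b, TCG_Fi23.Col.g, TCG_Fi23.Col.e, TCG_Fi23.Col.f, TCG_Fi23.Col.h, TCG_Fi23.Col.f, TCG_Fi23.Col.c, TCG_Fi23.Col.i, TCG_Fi23.Col.e, TCG_Fi23.Col.f, TCG_Fi23.Col.g, TCG_Fi23.Col.b, TCG_Fi23.Col.c, TCG_Fi23.Col.b, TCG_Fi23.Col.e, TCG_Fi23.Col.h, TCG_Fi23.Col.i, TCG_Fi23.Col.b, TCG_Fi23.Col.f, TCG_Fi23.Col.h, TCG_Fi23.Col.e, TCG_Fi23.Col.h, TCG_Fi23.Col.c, TCG_Fi23.Col.h, TCG_Fi23.Col.d, TCG_Fi23.Col.e, TCG_Fi23.Col.f, TCG_Fi23.Col.g, TCG_Fi23.Col.j, TCG_Fi23.Col.d, TCG_Fi23.Col.c,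 TCG_Fi23.Col.b, TCG_Fi23.Col.e, TCG_Fi23.Col.h, TCG_Fi23.Col.d, TCG_Fi23.Col.a, TCG_Fi23.Col.c, TCG_Fi23.Col.d, TCG_Fi23.Col.e, TCG_Fi23.Col.f, TCG_Fi23.Col.g, TCG_Fi23.Col.j, TCG_Fi23.Col.g, TCG_Fi23.Col.j, TCG_Fi23.Col.e, TCG_Fi23.Col.h, TCG_Fi23.Col.i, TCG_Fi23.Col.h, TCG_Fi23.Col.c, TCG_Fi23.Col.b, TCG_Fi23.Col.d, TCG_Fi23.Col.c, TCG_Fi23.Col.h, TCG_Fi23.Col.d, TCG_Fi23.Col.c, TCG_Fi23.Col.b, TCG_Fi23.Col.d, TCG_Fi23.Col.c, TCG_Fi23.Col.e, TCG_Fi23.Col.d, TCG_Fi23.Col.a, TCG_Fi23.Col.j, TCG_Fi23.Col.i, TCG_Fi23.Col.h, TCG_Fi23.Col.d, TCG_Fi23.Col.i, TCG_Fi23.Col.c, TCG_Fi23.Col.e, TCG_Fi23.Col.g, TCG_Fi23.Col.j, TCG_Fi23.Col.b, TCG_Fi23.Col.j, TCG_Fi23.Col.h, TCG_Fi23.Col.d,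 TCG_Fi23.Col.h, TCG_Fi23.Col.i, TCG_Fi23.Col.c, TCG_Fi23.Col.g, TCG_Fi23.Col.j, TCG_Fi23.Col.d, TCG_Fi23.Col.c, TCG_Fi23.Col.e, TCG_Fi23.Col.h, TCG_Fi23.Col.d, TCG_Fi23.Col.c, TCG_Fi23.Col.f, TCG_Fi23.Col.e, TCG_Fi23.Col.h, TCG_Fi23.Col.d, TCG_Fi23.Col.a, TCG_Fi23.Col.b, TCG_Fi23.Col.c, TCG_Fi23.Col.b, TCG_Fi23.Col.a, TCG_Fi23.Col.d, TCG_Fi23.Col.c, TCG_Fi23.Col.f, TCG_Fi23.Col.e, TCG_Fi23.Col.d, TCG_Fi23.Col.c, TCG_Fi23.Col.b, TCG_Fi23.Col.a, TCG_Fi23.Col.f, TCG_Fi23.Col.e, TCG_Fi23.Col.d, TCG_Fi23.Col.c, TCG_Fi23.Col.b, TCG_Fi23.Col.a, TCG_Fi23.Col.h, TCG_Fi23.Col.d, TCG_Fi23.Col.e, TCG_Fi23.Col.f, TCG_Fi23.Col.a, TCG_Fi23.Col.b, TCG_Fi23.Col.a, TCG_Fi23.Col.c, TCG_Fi23.Col.i,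 TCG_Fi23.Col.h, TCG_Fi23.Col.d, TCG_Fi23.Col.a, TCG_Fi23.Col.b, TCG_Fi23.Col.c, TCG_Fi23.Col.d, TCG_Fi23.Col.e, TCG_Fi23.Col.f, TCG_Fi23.Col.g, TCG_Fi23.Col.d, TCG_Fi23.Col.c, TCG_Fi23.Col.b, TCG_Fi23.Col.e, TCG_Fi23.Col.h, TCG_Fi23.Col.d, TCG_Fi23.Col.a, TCG_Fi23.Col.c, TCG_Fi23.Col.d, TCG_Fi23.Col.e, TCG_Fi23.Col.f, TCG_Fi23.Col.g, TCG_Fi23.Col.j, TCG_Fi23.Col.g, TCG_Fi23.Col.j, TCG_Fi23.Col.g, TCG_Fi23.Col.j, TCG_Fi23.Col.a, TCG_Fi23.Col.b, TCG_Fi23.Col.a, TCG_Fi23.Col.c, TCG_Fi23.Col.i, TCG_Fi23.Col.h, TCG_Fi23.Col.d, TCG_Fi23.Col.b, TCG_Fi23.Col.a, TCG_Fi23.Col.f, TCG_Fi23.Col.e, TCG_Fi23.Col.d, TCG_Fi23.Col.g, TCG_Fi23.Col.c, TCG_Fi23.Col.b, TCG_Fi23.Col.f, TCG_Fi23.Col.i,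 TCG_Fi23.Col.h, TCG_Fi23.Col.d, TCG_Fi23.Col.h, TCG_Fi23.Col.g, TCG_Fi23.Col.c, TCG_Fi23.Col.g, TCG_Fi23.Col.b, TCG_Fi23.Col.e, TCG_Fi23.Col.d, TCG_Fi23.Col.h, TCG_Fi23.Col.a, TCG_Fi23.Col.d, TCG_Fi23.Col.e, TCG_Fi23.Col.i, TCG_Fi23.Col.h, TCG_Fi23.Col.d, TCG_Fi23.Col.a, TCG_Fi23.Col.c, TCG_Fi23.Col.d, TCG_Fi23.Col.c, TCG_Fi23.Col.e, TCG_Fi23.Col.h, TCG_Fi23.Col.d, TCG_Fi23.Col.b, TCG_Fi23.Col.c, TCG_Fi23.Col.e, TCG_Fi23.Col.i, TCG_Fi23.Col.h, TCG_Fi23.Col.c, TCG_Fi23.Col.g, TCG_Fi23.Col.f, TCG_Fi23.Col.e, TCG_Fi23.Col.h, TCG_Fi23.Col.d, TCG_Fi23.Col.h, TCG_Fi23.Col.e, TCG_Fi23.Col.j, TCG_Fi23.Col.e, TCG_Fi23.Col.g, TCG_Fi23.Col.j, TCG_Fi23.Col.a, TCG_Fi23.Col.c, TCG_Fi23.Col.b],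
  [TCG_Fi23.Col.c, TCG_Fi23.Col.b, TCG_Fi23.Col.f, TCG_Fi23.Col.d, TCG_Fi23.Col.e, TCG_Fi23.Col.h, TCG_Fi23.Col.d, TCG_Fi23.Col.b, TCG_Fi23.Col.c, TCG_Fi23.Col.i, TCG_Fi23.Col.b, TCG_Fi23.Col.h, TCG_Fi23.Col.d, TCG_Fi23.Col.c, TCG_Fi23.Col.e, TCG_Fi23.Col.d, TCG_Fi23.Col.b, TCG_Fi23.Col.c, TCG_Fi23.Col.i, TCG_Fi23.Col.c, TCG_Fi23.Col.f, TCG_Fi23.Col.e, TCG_Fi23.Col.h, TCG_Fi23.Col.i, TCG_Fi23.Col.d, TCG_Fi23.Col.e, TCG_Fi23.Col.h, TCG_Fi23.Col.d, TCG_Fi23.Col.c, TCG_Fi23.Col.i, TCG_Fi23.Col.b, TCG_Fi23.Col.h, TCG_Fi23.Col.d, TCG_Fi23.Col.c, TCG_Fi23.Col.e, TCG_Fi23.Col.d, TCG_Fi23.Col.b, TCG_Fi23.Col.c, TCG_Fi23.Col.f, TCG_Fi23.Col.i, TCG_Fi23.Col.h, TCG_Fi23.Col.c, TCG_Fi23.Col.b,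 TCG_Fi23.Col.f, TCG_Fi23.Col.e, TCG_Fi23.Col.i, TCG_Fi23.Col.b, TCG_Fi23.Col.c, TCG_Fi23.Col.f, TCG_Fi23.Col.i, TCG_Fi23.Col.b, TCG_Fi23.Col.c, TCG_Fi23.Col.f, TCG_Fi23.Col.h, TCG_Fi23.Col.c, TCG_Fi23.Col.f, TCG_Fi23.Col.e, TCG_Fi23.Col.h, TCG_Fi23.Col.i, TCG_Fi23.Col.d, TCG_Fi23.Col.e, TCG_Fi23.Col.h, TCG_Fi23.Col.d, TCG_Fi23.Col.c, TCG_Fi23.Col.i, TCG_Fi23.Col.b, TCG_Fi23.Col.h, TCG_Fi23.Col.d, TCG_Fi23.Col.c, TCG_Fi23.Col.e, TCG_Fi23.Col.d, TCG_Fi23.Col.b, TCG_Fi23.Col.c, TCG_Fi23.Col.f, TCG_Fi23.Col.i, TCG_Fi23.Col.h, TCG_Fi23.Col.c, TCG_Fi23.Col.f, TCG_Fi23.Col.e, TCG_Fi23.Col.i, TCG_Fi23.Col.h, TCG_Fi23.Col.b, TCG_Fi23.Col.e, TCG_Fi23.Col.f, TCG_Fi23.Col.h, TCG_Fi23.Col.a,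 TCG_Fi23.Col.c, TCG_Fi23.Col.f, TCG_Fi23.Col.e, TCG_Fi23.Col.i, TCG_Fi23.Col.h, TCG_Fi23.Col.d, TCG_Fi23.Col.b, TCG_Fi23.Col.c, TCG_Fi23.Col.h, TCG_Fi23.Col.d, TCG_Fi23.Col.c, TCG_Fi23.Col.d, TCG_Fi23.Col.c, TCG_Fi23.Col.b, TCG_Fi23.Col.h, TCG_Fi23.Col.d, TCG_Fi23.Col.b, TCG_Fi23.Col.c, TCG_Fi23.Col.e, TCG_Fi23.Col.h, TCG_Fi23.Col.d, TCG_Fi23.Col.a, TCG_Fi23.Col.b, TCG_Fi23.Col.a, TCG_Fi23.Col.c, TCG_Fi23.Col.i, TCG_Fi23.Col.h, TCG_Fi23.Col.d, TCG_Fi23.Col.a, TCG_Fi23.Col.b, TCG_Fi23.Col.c, TCG_Fi23.Col.d, TCG_Fi23.Col.e, TCG_Fi23.Col.f, TCG_Fi23.Col.g, TCG_Fi23.Col.d, TCG_Fi23.Col.c, TCG_Fi23.Col.b, TCG_Fi23.Col.e, TCG_Fi23.Col.h, TCG_Fi23.Col.d, TCG_Fi23.Col.a, TCG_Fi23.Col.c,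 TCG_Fi23.Col.d, TCG_Fi23.Col.e, TCG_Fi23.Col.f, TCG_Fi23.Col.g, TCG_Fi23.Col.j, TCG_Fi23.Col.a, TCG_Fi23.Col.d, TCG_Fi23.Col.e, TCG_Fi23.Col.d, TCG_Fi23.Col.c, TCG_Fi23.Col.h, TCG_Fi23.Col.d, TCG_Fi23.Col.b, TCG_Fi23.Col.c, TCG_Fi23.Col.b, TCG_Fi23.Col.e, TCG_Fi23.Col.h, TCG_Fi23.Col.i, TCG_Fi23.Col.b, TCG_Fi23.Col.f, TCG_Fi23.Col.h, TCG_Fi23.Col.a, TCG_Fi23.Col.h, TCG_Fi23.Col.d, TCG_Fi23.Col.c, TCG_Fi23.Col.e, TCG_Fi23.Col.d, TCG_Fi23.Col.c, TCG_Fi23.Col.b, TCG_Fi23.Col.e, TCG_Fi23.Col.h, TCG_Fi23.Col.i, TCG_Fi23.Col.h, TCG_Fi23.Col.a, TCG_Fi23.Col.b, TCG_Fi23.Col.c, TCG_Fi23.Col.d, TCG_Fi23.Col.e, TCG_Fi23.Col.h, TCG_Fi23.Col.d, TCG_Fi23.Col.a, TCG_Fi23.Col.c, TCG_Fi23.Col.h,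 TCG_Fi23.Col.i, TCG_Fi23.Col.h, TCG_Fi23.Col.b, TCG_Fi23.Col.f, TCG_Fi23.Col.d, TCG_Fi23.Col.e, TCG_Fi23.Col.h, TCG_Fi23.Col.d, TCG_Fi23.Col.b, TCG_Fi23.Col.c, TCG_Fi23.Col.i, TCG_Fi23.Col.b, TCG_Fi23.Col.h, TCG_Fi23.Col.d, TCG_Fi23.Col.c, TCG_Fi23.Col.e, TCG_Fi23.Col.d, TCG_Fi23.Col.a, TCG_Fi23.Col.d, TCG_Fi23.Col.c, TCG_Fi23.Col.e, TCG_Fi23.Col.h, TCG_Fi23.Col.d, TCG_Fi23.Col.i, TCG_Fi23.Col.c, TCG_Fi23.Col.b, TCG_Fi23.Col.d, TCG_Fi23.Col.c, TCG_Fi23.Col.h, TCG_Fi23.Col.d, TCG_Fi23.Col.c, TCG_Fi23.Col.b, TCG_Fi23.Col.a, TCG_Fi23.Col.b, TCG_Fi23.Col.c, TCG_Fi23.Col.d, TCG_Fi23.Col.e, TCG_Fi23.Col.f, TCG_Fi23.Col.g, TCG_Fi23.Col.c, TCG_Fi23.Col.b, TCG_Fi23.Col.f, TCG_Fi23.Col.h,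 TCG_Fi23.Col.i, TCG_Fi23.Col.h, TCG_Fi23.Col.d, TCG_Fi23.Col.c, TCG_Fi23.Col.b, TCG_Fi23.Col.e, TCG_Fi23.Col.h, TCG_Fi23.Col.d, TCG_Fi23.Col.a, TCG_Fi23.Col.c, TCG_Fi23.Col.d, TCG_Fi23.Col.e, TCG_Fi23.Col.f, TCG_Fi23.Col.g, TCG_Fi23.Col.a, TCG_Fi23.Col.b, TCG_Fi23.Col.c, TCG_Fi23.Col.d, TCG_Fi23.Col.e, TCG_Fi23.Col.f, TCG_Fi23.Col.g, TCG_Fi23.Col.d, TCG_Fi23.Col.c, TCG_Fi23.Col.b, TCG_Fi23.Col.e, TCG_Fi23.Col.h, TCG_Fi23.Col.d, TCG_Fi23.Col.a, TCG_Fi23.Col.c, TCG_Fi23.Col.d, TCG_Fi23.Col.e, TCG_Fi23.Col.f, TCG_Fi23.Col.g, TCG_Fi23.Col.f, TCG_Fi23.Col.e, TCG_Fi23.Col.c, TCG_Fi23.Col.b, TCG_Fi23.Col.f, TCG_Fi23.Col.h, TCG_Fi23.Col.i, TCG_Fi23.Col.b, TCG_Fi23.Col.c, TCG_Fi23.Col.h,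 TCG_Fi23.Col.i, TCG_Fi23.Col.d, TCG_Fi23.Col.e, TCG_Fi23.Col.h, TCG_Fi23.Col.d, TCG_Fi23.Col.c, TCG_Fi23.Col.i, TCG_Fi23.Col.b, TCG_Fi23.Col.h, TCG_Fi23.Col.d, TCG_Fi23.Col.c, TCG_Fi23.Col.e, TCG_Fi23.Col.d, TCG_Fi23.Col.a, TCG_Fi23.Col.b, TCG_Fi23.Col.d, TCG_Fi23.Col.c, TCG_Fi23.Col.i, TCG_Fi23.Col.h, TCG_Fi23.Col.d, TCG_Fi23.Col.a, TCG_Fi23.Col.c, TCG_Fi23.Col.h, TCG_Fi23.Col.d, TCG_Fi23.Col.e, TCG_Fi23.Col.f, TCG_Fi23.Col.g, TCG_Fi23.Col.c, TCG_Fi23.Col.e, TCG_Fi23.Col.f, TCG_Fi23.Col.h, TCG_Fi23.Col.a, TCG_Fi23.Col.d, TCG_Fi23.Col.c, TCG_Fi23.Col.f, TCG_Fi23.Col.e, TCG_Fi23.Col.h, TCG_Fi23.Col.d, TCG_Fi23.Col.e, TCG_Fi23.Col.h, TCG_Fi23.Col.i, TCG_Fi23.Col.h, TCG_Fi23.Col.b,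 TCG_Fi23.Col.c, TCG_Fi23.Col.b, TCG_Fi23.Col.e, TCG_Fi23.Col.h, TCG_Fi23.Col.i, TCG_Fi23.Col.b, TCG_Fi23.Col.f, TCG_Fi23.Col.h, TCG_Fi23.Col.a, TCG_Fi23.Col.h, TCG_Fi23.Col.d, TCG_Fi23.Col.c, TCG_Fi23.Col.e, TCG_Fi23.Col.d, TCG_Fi23.Col.c, TCG_Fi23.Col.b, TCG_Fi23.Col.e, TCG_Fi23.Col.h, TCG_Fi23.Col.i, TCG_Fi23.Col.h, TCG_Fi23.Col.a, TCG_Fi23.Col.b, TCG_Fi23.Col.c, TCG_Fi23.Col.d, TCG_Fi23.Col.e, TCG_Fi23.Col.h, TCG_Fi23.Col.d, TCG_Fi23.Col.a, TCG_Fi23.Col.c, TCG_Fi23.Col.h, TCG_Fi23.Col.i, TCG_Fi23.Col.h, TCG_Fi23.Col.b, TCG_Fi23.Col.f, TCG_Fi23.Col.d, TCG_Fi23.Col.e, TCG_Fi23.Col.h, TCG_Fi23.Col.d, TCG_Fi23.Col.b, TCG_Fi23.Col.c, TCG_Fi23.Col.i, TCG_Fi23.Col.b, TCG_Fi23.Col.h,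 TCG_Fi23.Col.d, TCG_Fi23.Col.c, TCG_Fi23.Col.e, TCG_Fi23.Col.d, TCG_Fi23.Col.c, TCG_Fi23.Col.b, TCG_Fi23.Col.e, TCG_Fi23.Col.h, TCG_Fi23.Col.i, TCG_Fi23.Col.h, TCG_Fi23.Col.a, TCG_Fi23.Col.d, TCG_Fi23.Col.c, TCG_Fi23.Col.e, TCG_Fi23.Col.h, TCG_Fi23.Col.d, TCG_Fi23.Col.c, TCG_Fi23.Col.e, TCG_Fi23.Col.f, TCG_Fi23.Col.h, TCG_Fi23.Col.i, TCG_Fi23.Col.e, TCG_Fi23.Col.f, TCG_Fi23.Col.e, TCG_Fi23.Col.h, TCG_Fi23.Col.c, TCG_Fi23.Col.b, TCG_Fi23.Col.e, TCG_Fi23.Col.f, TCG_Fi23.Col.e, TCG_Fi23.Col.h, TCG_Fi23.Col.d, TCG_Fi23.Col.c, TCG_Fi23.Col.e, TCG_Fi23.Col.d, TCG_Fi23.Col.c, TCG_Fi23.Col.b, TCG_Fi23.Col.a, TCG_Fi23.Col.d, TCG_Fi23.Col.e, TCG_Fi23.Col.h, TCG_Fi23.Col.d, TCG_Fi23.Col.c,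 TCG_Fi23.Col.i, TCG_Fi23.Col.b, TCG_Fi23.Col.h, TCG_Fi23.Col.d, TCG_Fi23.Col.c, TCG_Fi23.Col.e, TCG_Fi23.Col.d, TCG_Fi23.Col.c, TCG_Fi23.Col.f, TCG_Fi23.Col.d, TCG_Fi23.Col.g, TCG_Fi23.Col.e, TCG_Fi23.Col.c, TCG_Fi23.Col.i, TCG_Fi23.Col.b, TCG_Fi23.Col.d, TCG_Fi23.Col.g, TCG_Fi23.Col.c, TCG_Fi23.Col.h, TCG_Fi23.Col.d, TCG_Fi23.Col.e, TCG_Fi23.Col.i, TCG_Fi23.Col.h, TCG_Fi23.Col.d, TCG_Fi23.Col.f, TCG_Fi23.Col.e, TCG_Fi23.Col.h, TCG_Fi23.Col.i, TCG_Fi23.Col.c, TCG_Fi23.Col.e, TCG_Fi23.Col.h, TCG_Fi23.Col.i, TCG_Fi23.Col.h, TCG_Fi23.Col.b, TCG_Fi23.Col.c, TCG_Fi23.Col.h, TCG_Fi23.Col.i, TCG_Fi23.Col.b, TCG_Fi23.Col.f, TCG_Fi23.Col.d, TCG_Fi23.Col.e, TCG_Fi23.Col.h, TCG_Fi23.Col.d,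 TCG_Fi23.Col.b, TCG_Fi23.Col.c, TCG_Fi23.Col.i, TCG_Fi23.Col.b, TCG_Fi23.Col.h, TCG_Fi23.Col.d, TCG_Fi23.Col.c, TCG_Fi23.Col.e, TCG_Fi23.Col.d, TCG_Fi23.Col.c, TCG_Fi23.Col.h, TCG_Fi23.Col.i, TCG_Fi23.Col.h, TCG_Fi23.Col.c, TCG_Fi23.Col.e, TCG_Fi23.Col.f, TCG_Fi23.Col.h, TCG_Fi23.Col.b, TCG_Fi23.Col.c, TCG_Fi23.Col.h, TCG_Fi23.Col.i, TCG_Fi23.Col.d, TCG_Fi23.Col.e, TCG_Fi23.Col.h, TCG_Fi23.Col.d, TCG_Fi23.Col.c, TCG_Fi23.Col.i, TCG_Fi23.Col.b, TCG_Fi23.Col.h, TCG_Fi23.Col.d, TCG_Fi23.Col.c, TCG_Fi23.Col.e, TCG_Fi23.Col.d, TCG_Fi23.Col.e, TCG_Fi23.Col.h, TCG_Fi23.Col.b, TCG_Fi23.Col.f, TCG_Fi23.Col.e, TCG_Fi23.Col.h, TCG_Fi23.Col.b, TCG_Fi23.Col.f, TCG_Fi23.Col.d, TCG_Fi23.Col.e,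 TCG_Fi23.Col.h, TCG_Fi23.Col.d, TCG_Fi23.Col.b, TCG_Fi23.Col.c, TCG_Fi23.Col.i, TCG_Fi23.Col.b, TCG_Fi23.Col.h, TCG_Fi23.Col.d, TCG_Fi23.Col.c, TCG_Fi23.Col.e, TCG_Fi23.Col.d, TCG_Fi23.Col.c, TCG_Fi23.Col.f, TCG_Fi23.Col.d, TCG_Fi23.Col.e, TCG_Fi23.Col.h, TCG_Fi23.Col.d, TCG_Fi23.Col.b, TCG_Fi23.Col.c, TCG_Fi23.Col.i, TCG_Fi23.Col.b, TCG_Fi23.Col.h, TCG_Fi23.Col.d, TCG_Fi23.Col.c, TCG_Fi23.Col.e, TCG_Fi23.Col.d, TCG_Fi23.Col.c, TCG_Fi23.Col.h, TCG_Fi23.Col.i, TCG_Fi23.Col.h, TCG_Fi23.Col.i, TCG_Fi23.Col.a, TCG_Fi23.Col.j, TCG_Fi23.Col.d, TCG_Fi23.Col.i, TCG_Fi23.Col.g, TCG_Fi23.Col.f, TCG_Fi23.Col.g, TCG_Fi23.Col.e, TCG_Fi23.Col.c, TCG_Fi23.Col.g, TCG_Fi23.Col.d, TCG_Fi23.Col.h,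 TCG_Fi23.Col.c],
  [TCG_Fi23.Col.c, TCG_Fi23.Col.b, TCG_Fi23.Col.f, TCG_Fi23.Col.d, TCG_Fi23.Col.e, TCG_Fi23.Col.h, TCG_Fi23.Col.d, TCG_Fi23.Col.b, TCG_Fi23.Col.c, TCG_Fi23.Col.i, TCG_Fi23.Col.b, TCG_Fi23.Col.h, TCG_Fi23.Col.d, TCG_Fi23.Col.c, TCG_Fi23.Col.e, TCG_Fi23.Col.d, TCG_Fi23.Col.b, TCG_Fi23.Col.c, TCG_Fi23.Col.i, TCG_Fi23.Col.c, TCG_Fi23.Col.f, TCG_Fi23.Col.e, TCG_Fi23.Col.h, TCG_Fi23.Col.i, TCG_Fi23.Col.d, TCG_Fi23.Col.e, TCG_Fi23.Col.h, TCG_Fi23.Col.d, TCG_Fi23.Col.c, TCG_Fi23.Col.i, TCG_Fi23.Col.b, TCG_Fi23.Col.h, TCG_Fi23.Col.d, TCG_Fi23.Col.c, TCG_Fi23.Col.e, TCG_Fi23.Col.d, TCG_Fi23.Col.b, TCG_Fi23.Col.c, TCG_Fi23.Col.f, TCG_Fi23.Col.i, TCG_Fi23.Col.h, TCG_Fi23.Col.c,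 TCG_Fi23.Col.b, TCG_Fi23.Col.f, TCG_Fi23.Col.e, TCG_Fi23.Col.i, TCG_Fi23.Col.b, TCG_Fi23.Col.c, TCG_Fi23.Col.f, TCG_Fi23.Col.i, TCG_Fi23.Col.b, TCG_Fi23.Col.c, TCG_Fi23.Col.f, TCG_Fi23.Col.h, TCG_Fi23.Col.c, TCG_Fi23.Col.f, TCG_Fi23.Col.e, TCG_Fi23.Col.h, TCG_Fi23.Col.i, TCG_Fi23.Col.d, TCG_Fi23.Col.e, TCG_Fi23.Col.h, TCG_Fi23.Col.d, TCG_Fi23.Col.c, TCG_Fi23.Col.i, TCG_Fi23.Col.b, TCG_Fi23.Col.h, TCG_Fi23.Col.d, TCG_Fi23.Col.c, TCG_Fi23.Col.e, TCG_Fi23.Col.d, TCG_Fi23.Col.b, TCG_Fi23.Col.c, TCG_Fi23.Col.f, TCG_Fi23.Col.i, TCG_Fi23.Col.h, TCG_Fi23.Col.c, TCG_Fi23.Col.f, TCG_Fi23.Col.e, TCG_Fi23.Col.i, TCG_Fi23.Col.h, TCG_Fi23.Col.b, TCG_Fi23.Col.e, TCG_Fi23.Col.f, TCG_Fi23.Col.h,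 TCG_Fi23.Col.a, TCG_Fi23.Col.c, TCG_Fi23.Col.f, TCG_Fi23.Col.e, TCG_Fi23.Col.i, TCG_Fi23.Col.h, TCG_Fi23.Col.d, TCG_Fi23.Col.b, TCG_Fi23.Col.c, TCG_Fi23.Col.h, TCG_Fi23.Col.d, TCG_Fi23.Col.c, TCG_Fi23.Col.d, TCG_Fi23.Col.c, TCG_Fi23.Col.b, TCG_Fi23.Col.h, TCG_Fi23.Col.d, TCG_Fi23.Col.b, TCG_Fi23.Col.c, TCG_Fi23.Col.e, TCG_Fi23.Col.h, TCG_Fi23.Col.d, TCG_Fi23.Col.a, TCG_Fi23.Col.b, TCG_Fi23.Col.a, TCG_Fi23.Col.c, TCG_Fi23.Col.i, TCG_Fi23.Col.h, TCG_Fi23.Col.d, TCG_Fi23.Col.a, TCG_Fi23.Col.b, TCG_Fi23.Col.c, TCG_Fi23.Col.d, TCG_Fi23.Col.e, TCG_Fi23.Col.f, TCG_Fi23.Col.g, TCG_Fi23.Col.d, TCG_Fi23.Col.c, TCG_Fi23.Col.b, TCG_Fi23.Col.e, TCG_Fi23.Col.h, TCG_Fi23.Col.d, TCG_Fi23.Col.a,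 TCG_Fi23.Col.c, TCG_Fi23.Col.d, TCG_Fi23.Col.e, TCG_Fi23.Col.f, TCG_Fi23.Col.g, TCG_Fi23.Col.j, TCG_Fi23.Col.a, TCG_Fi23.Col.d, TCG_Fi23.Col.e, TCG_Fi23.Col.d, TCG_Fi23.Col.c, TCG_Fi23.Col.h, TCG_Fi23.Col.d, TCG_Fi23.Col.b, TCG_Fi23.Col.c, TCG_Fi23.Col.b, TCG_Fi23.Col.e, TCG_Fi23.Col.h, TCG_Fi23.Col.i, TCG_Fi23.Col.b, TCG_Fi23.Col.f, TCG_Fi23.Col.h, TCG_Fi23.Col.a, TCG_Fi23.Col.h, TCG_Fi23.Col.d, TCG_Fi23.Col.c, TCG_Fi23.Col.e, TCG_Fi23.Col.d, TCG_Fi23.Col.c, TCG_Fi23.Col.b, TCG_Fi23.Col.e, TCG_Fi23.Col.h, TCG_Fi23.Col.i, TCG_Fi23.Col.h, TCG_Fi23.Col.a, TCG_Fi23.Col.b, TCG_Fi23.Col.c, TCG_Fi23.Col.d, TCG_Fi23.Col.e, TCG_Fi23.Col.h, TCG_Fi23.Col.d, TCG_Fi23.Col.a, TCG_Fi23.Col.c,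 TCG_Fi23.Col.h, TCG_Fi23.Col.i, TCG_Fi23.Col.h, TCG_Fi23.Col.b, TCG_Fi23.Col.f, TCG_Fi23.Col.d, TCG_Fi23.Col.e, TCG_Fi23.Col.h, TCG_Fi23.Col.d, TCG_Fi23.Col.b, TCG_Fi23.Col.c, TCG_Fi23.Col.i, TCG_Fi23.Col.b, TCG_Fi23.Col.h, TCG_Fi23.Col.d, TCG_Fi23.Col.c, TCG_Fi23.Col.e, TCG_Fi23.Col.d, TCG_Fi23.Col.a, TCG_Fi23.Col.d, TCG_Fi23.Col.c, TCG_Fi23.Col.e, TCG_Fi23.Col.h, TCG_Fi23.Col.d, TCG_Fi23.Col.i, TCG_Fi23.Col.c, TCG_Fi23.Col.b, TCG_Fi23.Col.d, TCG_Fi23.Col.c, TCG_Fi23.Col.h, TCG_Fi23.Col.d, TCG_Fi23.Col.c, TCG_Fi23.Col.b, TCG_Fi23.Col.a, TCG_Fi23.Col.b, TCG_Fi23.Col.c, TCG_Fi23.Col.d, TCG_Fi23.Col.e, TCG_Fi23.Col.f, TCG_Fi23.Col.g, TCG_Fi23.Col.c, TCG_Fi23.Col.b, TCG_Fi23.Col.f,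 TCG_Fi23.Col.h, TCG_Fi23.Col.i, TCG_Fi23.Col.h, TCG_Fi23.Col.d, TCG_Fi23.Col.c, TCG_Fi23.Col.b, TCG_Fi23.Col.e, TCG_Fi23.Col.h, TCG_Fi23.Col.d, TCG_Fi23.Col.a, TCG_Fi23.Col.c, TCG_Fi23.Col.d, TCG_Fi23.Col.e, TCG_Fi23.Col.f, TCG_Fi23.Col.g, TCG_Fi23.Col.a, TCG_Fi23.Col.b, TCG_Fi23.Col.c, TCG_Fi23.Col.d, TCG_Fi23.Col.e, TCG_Fi23.Col.f, TCG_Fi23.Col.g, TCG_Fi23.Col.d, TCG_Fi23.Col.c, TCG_Fi23.Col.b, TCG_Fi23.Col.e, TCG_Fi23.Col.h, TCG_Fi23.Col.d, TCG_Fi23.Col.a, TCG_Fi23.Col.c, TCG_Fi23.Col.d, TCG_Fi23.Col.e, TCG_Fi23.Col.f, TCG_Fi23.Col.g, TCG_Fi23.Col.f, TCG_Fi23.Col.e, TCG_Fi23.Col.c, TCG_Fi23.Col.b, TCG_Fi23.Col.f, TCG_Fi23.Col.h, TCG_Fi23.Col.i, TCG_Fi23.Col.b, TCG_Fi23.Col.c,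 TCG_Fi23.Col.h, TCG_Fi23.Col.i, TCG_Fi23.Col.d, TCG_Fi23.Col.e, TCG_Fi23.Col.h, TCG_Fi23.Col.d, TCG_Fi23.Col.c, TCG_Fi23.Col.i, TCG_Fi23.Col.b, TCG_Fi23.Col.h, TCG_Fi23.Col.d, TCG_Fi23.Col.c, TCG_Fi23.Col.e, TCG_Fi23.Col.d, TCG_Fi23.Col.a, TCG_Fi23.Col.b, TCG_Fi23.Col.d, TCG_Fi23.Col.c, TCG_Fi23.Col.i, TCG_Fi23.Col.h, TCG_Fi23.Col.d, TCG_Fi23.Col.a, TCG_Fi23.Col.c, TCG_Fi23.Col.h, TCG_Fi23.Col.d, TCG_Fi23.Col.e, TCG_Fi23.Col.f, TCG_Fi23.Col.g, TCG_Fi23.Col.a, TCG_Fi23.Col.b, TCG_Fi23.Col.c, TCG_Fi23.Col.d, TCG_Fi23.Col.e, TCG_Fi23.Col.h, TCG_Fi23.Col.d, TCG_Fi23.Col.a, TCG_Fi23.Col.b, TCG_Fi23.Col.e, TCG_Fi23.Col.f, TCG_Fi23.Col.h, TCG_Fi23.Col.i, TCG_Fi23.Col.h, TCG_Fi23.Col.c,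 TCG_Fi23.Col.b, TCG_Fi23.Col.e, TCG_Fi23.Col.b, TCG_Fi23.Col.c, TCG_Fi23.Col.b, TCG_Fi23.Col.f, TCG_Fi23.Col.i, TCG_Fi23.Col.h, TCG_Fi23.Col.d, TCG_Fi23.Col.e, TCG_Fi23.Col.f, TCG_Fi23.Col.g, TCG_Fi23.Col.j, TCG_Fi23.Col.c, TCG_Fi23.Col.h, TCG_Fi23.Col.d, TCG_Fi23.Col.e, TCG_Fi23.Col.f, TCG_Fi23.Col.g, TCG_Fi23.Col.j, TCG_Fi23.Col.g, TCG_Fi23.Col.j, TCG_Fi23.Col.b, TCG_Fi23.Col.f, TCG_Fi23.Col.e, TCG_Fi23.Col.i, TCG_Fi23.Col.h, TCG_Fi23.Col.d, TCG_Fi23.Col.a, TCG_Fi23.Col.g, TCG_Fi23.Col.a, TCG_Fi23.Col.c, TCG_Fi23.Col.d, TCG_Fi23.Col.e, TCG_Fi23.Col.h, TCG_Fi23.Col.d, TCG_Fi23.Col.c, TCG_Fi23.Col.e, TCG_Fi23.Col.f, TCG_Fi23.Col.h, TCG_Fi23.Col.i, TCG_Fi23.Col.h, TCG_Fi23.Col.a,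 TCG_Fi23.Col.b, TCG_Fi23.Col.d, TCG_Fi23.Col.c, TCG_Fi23.Col.f, TCG_Fi23.Col.e, TCG_Fi23.Col.d, TCG_Fi23.Col.e, TCG_Fi23.Col.f, TCG_Fi23.Col.i, TCG_Fi23.Col.a, TCG_Fi23.Col.b, TCG_Fi23.Col.c, TCG_Fi23.Col.b, TCG_Fi23.Col.a, TCG_Fi23.Col.h, TCG_Fi23.Col.d, TCG_Fi23.Col.c, TCG_Fi23.Col.b, TCG_Fi23.Col.h, TCG_Fi23.Col.i, TCG_Fi23.Col.d, TCG_Fi23.Col.e, TCG_Fi23.Col.f, TCG_Fi23.Col.g, TCG_Fi23.Col.j, TCG_Fi23.Col.c, TCG_Fi23.Col.h, TCG_Fi23.Col.d, TCG_Fi23.Col.e, TCG_Fi23.Col.f, TCG_Fi23.Col.g, TCG_Fi23.Col.j, TCG_Fi23.Col.g, TCG_Fi23.Col.j, TCG_Fi23.Col.f, TCG_Fi23.Col.g, TCG_Fi23.Col.d, TCG_Fi23.Col.c, TCG_Fi23.Col.h, TCG_Fi23.Col.d, TCG_Fi23.Col.c, TCG_Fi23.Col.b, TCG_Fi23.Col.a,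 TCG_Fi23.Col.d, TCG_Fi23.Col.c, TCG_Fi23.Col.f, TCG_Fi23.Col.e, TCG_Fi23.Col.d, TCG_Fi23.Col.f, TCG_Fi23.Col.i, TCG_Fi23.Col.e, TCG_Fi23.Col.b, TCG_Fi23.Col.f, TCG_Fi23.Col.c, TCG_Fi23.Col.b, TCG_Fi23.Col.c, TCG_Fi23.Col.b, TCG_Fi23.Col.h, TCG_Fi23.Col.i, TCG_Fi23.Col.h, TCG_Fi23.Col.g, TCG_Fi23.Col.e, TCG_Fi23.Col.a, TCG_Fi23.Col.j, TCG_Fi23.Col.c, TCG_Fi23.Col.f, TCG_Fi23.Col.g, TCG_Fi23.Col.j, TCG_Fi23.Col.g, TCG_Fi23.Col.d, TCG_Fi23.Col.b, TCG_Fi23.Col.h, TCG_Fi23.Col.i, TCG_Fi23.Col.d, TCG_Fi23.Col.e],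
  [TCG_Fi23.Col.b, TCG_Fi23.Col.f, TCG_Fi23.Col.b, TCG_Fi23.Col.c, TCG_Fi23.Col.b, TCG_Fi23.Col.e, TCG_Fi23.Col.i, TCG_Fi23.Col.f, TCG_Fi23.Col.e, TCG_Fi23.Col.d, TCG_Fi23.Col.c, TCG_Fi23.Col.b, TCG_Fi23.Col.a, TCG_Fi23.Col.h, TCG_Fi23.Col.d, TCG_Fi23.Col.e, TCG_Fi23.Col.f, TCG_Fi23.Col.g, TCG_Fi23.Col.b, TCG_Fi23.Col.c, TCG_Fi23.Col.b, TCG_Fi23.Col.f, TCG_Fi23.Col.e, TCG_Fi23.Col.i, TCG_Fi23.Col.f, TCG_Fi23.Col.e, TCG_Fi23.Col.d, TCG_Fi23.Col.c, TCG_Fi23.Col.b, TCG_Fi23.Col.a, TCG_Fi23.Col.h, TCG_Fi23.Col.d, TCG_Fi23.Col.e, TCG_Fi23.Col.f, TCG_Fi23.Col.g, TCG_Fi23.Col.e, TCG_Fi23.Col.f, TCG_Fi23.Col.g, TCG_Fi23.Col.d, TCG_Fi23.Col.c, TCG_Fi23.Col.e, TCG_Fi23.Col.d, TCG_Fi23.Col.h,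 TCG_Fi23.Col.i, TCG_Fi23.Col.b, TCG_Fi23.Col.c, TCG_Fi23.Col.d, TCG_Fi23.Col.e, TCG_Fi23.Col.h, TCG_Fi23.Col.d, TCG_Fi23.Col.b, TCG_Fi23.Col.c, TCG_Fi23.Col.b, TCG_Fi23.Col.f, TCG_Fi23.Col.e, TCG_Fi23.Col.i, TCG_Fi23.Col.f, TCG_Fi23.Col.e, TCG_Fi23.Col.d, TCG_Fi23.Col.c, TCG_Fi23.Col.b, TCG_Fi23.Col.a, TCG_Fi23.Col.h, TCG_Fi23.Col.d, TCG_Fi23.Col.e, TCG_Fi23.Col.f, TCG_Fi23.Col.g, TCG_Fi23.Col.f, TCG_Fi23.Col.e, TCG_Fi23.Col.d, TCG_Fi23.Col.c, TCG_Fi23.Col.b, TCG_Fi23.Col.a, TCG_Fi23.Col.h, TCG_Fi23.Col.d, TCG_Fi23.Col.e, TCG_Fi23.Col.f, TCG_Fi23.Col.g, TCG_Fi23.Col.b, TCG_Fi23.Col.c, TCG_Fi23.Col.b, TCG_Fi23.Col.e, TCG_Fi23.Col.h, TCG_Fi23.Col.i, TCG_Fi23.Col.f, TCG_Fi23.Col.e,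 TCG_Fi23.Col.d, TCG_Fi23.Col.c, TCG_Fi23.Col.b, TCG_Fi23.Col.a, TCG_Fi23.Col.h, TCG_Fi23.Col.d, TCG_Fi23.Col.e, TCG_Fi23.Col.f, TCG_Fi23.Col.g, TCG_Fi23.Col.d, TCG_Fi23.Col.c, TCG_Fi23.Col.b, TCG_Fi23.Col.e, TCG_Fi23.Col.h, TCG_Fi23.Col.d, TCG_Fi23.Col.a, TCG_Fi23.Col.c, TCG_Fi23.Col.d, TCG_Fi23.Col.e, TCG_Fi23.Col.f, TCG_Fi23.Col.g, TCG_Fi23.Col.b, TCG_Fi23.Col.c, TCG_Fi23.Col.e, TCG_Fi23.Col.f, TCG_Fi23.Col.h, TCG_Fi23.Col.c, TCG_Fi23.Col.i, TCG_Fi23.Col.h, TCG_Fi23.Col.d, TCG_Fi23.Col.c, TCG_Fi23.Col.b, TCG_Fi23.Col.a, TCG_Fi23.Col.b, TCG_Fi23.Col.c, TCG_Fi23.Col.e, TCG_Fi23.Col.i, TCG_Fi23.Col.h, TCG_Fi23.Col.a, TCG_Fi23.Col.b, TCG_Fi23.Col.c, TCG_Fi23.Col.d, TCG_Fi23.Col.e,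 TCG_Fi23.Col.f, TCG_Fi23.Col.g, TCG_Fi23.Col.c, TCG_Fi23.Col.b, TCG_Fi23.Col.h, TCG_Fi23.Col.i, TCG_Fi23.Col.d, TCG_Fi23.Col.e, TCG_Fi23.Col.f, TCG_Fi23.Col.g, TCG_Fi23.Col.j, TCG_Fi23.Col.c, TCG_Fi23.Col.h, TCG_Fi23.Col.d, TCG_Fi23.Col.e, TCG_Fi23.Col.f, TCG_Fi23.Col.g, TCG_Fi23.Col.j, TCG_Fi23.Col.g, TCG_Fi23.Col.j, TCG_Fi23.Col.e, TCG_Fi23.Col.f, TCG_Fi23.Col.g, TCG_Fi23.Col.f, TCG_Fi23.Col.h, TCG_Fi23.Col.i, TCG_Fi23.Col.d, TCG_Fi23.Col.c, TCG_Fi23.Col.b, TCG_Fi23.Col.e, TCG_Fi23.Col.h, TCG_Fi23.Col.d, TCG_Fi23.Col.a, TCG_Fi23.Col.c, TCG_Fi23.Col.d, TCG_Fi23.Col.e, TCG_Fi23.Col.f, TCG_Fi23.Col.g, TCG_Fi23.Col.j, TCG_Fi23.Col.a, TCG_Fi23.Col.d, TCG_Fi23.Col.c, TCG_Fi23.Col.f,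 TCG_Fi23.Col.e, TCG_Fi23.Col.h, TCG_Fi23.Col.d, TCG_Fi23.Col.e, TCG_Fi23.Col.h, TCG_Fi23.Col.i, TCG_Fi23.Col.h, TCG_Fi23.Col.b, TCG_Fi23.Col.c, TCG_Fi23.Col.b, TCG_Fi23.Col.e, TCG_Fi23.Col.h, TCG_Fi23.Col.i, TCG_Fi23.Col.b, TCG_Fi23.Col.f, TCG_Fi23.Col.h, TCG_Fi23.Col.a, TCG_Fi23.Col.h, TCG_Fi23.Col.d, TCG_Fi23.Col.c, TCG_Fi23.Col.e, TCG_Fi23.Col.d, TCG_Fi23.Col.c, TCG_Fi23.Col.b, TCG_Fi23.Col.e, TCG_Fi23.Col.h, TCG_Fi23.Col.i, TCG_Fi23.Col.h, TCG_Fi23.Col.a, TCG_Fi23.Col.b, TCG_Fi23.Col.c, TCG_Fi23.Col.d, TCG_Fi23.Col.e, TCG_Fi23.Col.h, TCG_Fi23.Col.d, TCG_Fi23.Col.a, TCG_Fi23.Col.c, TCG_Fi23.Col.h, TCG_Fi23.Col.i, TCG_Fi23.Col.h, TCG_Fi23.Col.b, TCG_Fi23.Col.f, TCG_Fi23.Col.d,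 TCG_Fi23.Col.e, TCG_Fi23.Col.h, TCG_Fi23.Col.d, TCG_Fi23.Col.b, TCG_Fi23.Col.c, TCG_Fi23.Col.i, TCG_Fi23.Col.b, TCG_Fi23.Col.h, TCG_Fi23.Col.d, TCG_Fi23.Col.c, TCG_Fi23.Col.e, TCG_Fi23.Col.d, TCG_Fi23.Col.c, TCG_Fi23.Col.b, TCG_Fi23.Col.e, TCG_Fi23.Col.h, TCG_Fi23.Col.i, TCG_Fi23.Col.h, TCG_Fi23.Col.a, TCG_Fi23.Col.d, TCG_Fi23.Col.c, TCG_Fi23.Col.e, TCG_Fi23.Col.h, TCG_Fi23.Col.d, TCG_Fi23.Col.c, TCG_Fi23.Col.e, TCG_Fi23.Col.f, TCG_Fi23.Col.h, TCG_Fi23.Col.i, TCG_Fi23.Col.c, TCG_Fi23.Col.b, TCG_Fi23.Col.d, TCG_Fi23.Col.c, TCG_Fi23.Col.h, TCG_Fi23.Col.d, TCG_Fi23.Col.c, TCG_Fi23.Col.b, TCG_Fi23.Col.a, TCG_Fi23.Col.b, TCG_Fi23.Col.c, TCG_Fi23.Col.d, TCG_Fi23.Col.e, TCG_Fi23.Col.f,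 TCG_Fi23.Col.g, TCG_Fi23.Col.c, TCG_Fi23.Col.b, TCG_Fi23.Col.f, TCG_Fi23.Col.h, TCG_Fi23.Col.i, TCG_Fi23.Col.h, TCG_Fi23.Col.d, TCG_Fi23.Col.c, TCG_Fi23.Col.b, TCG_Fi23.Col.e, TCG_Fi23.Col.h, TCG_Fi23.Col.d, TCG_Fi23.Col.a, TCG_Fi23.Col.c, TCG_Fi23.Col.d, TCG_Fi23.Col.e, TCG_Fi23.Col.f, TCG_Fi23.Col.g, TCG_Fi23.Col.a, TCG_Fi23.Col.b, TCG_Fi23.Col.c, TCG_Fi23.Col.d, TCG_Fi23.Col.e, TCG_Fi23.Col.f, TCG_Fi23.Col.g, TCG_Fi23.Col.d, TCG_Fi23.Col.c, TCG_Fi23.Col.b, TCG_Fi23.Col.e, TCG_Fi23.Col.h, TCG_Fi23.Col.d, TCG_Fi23.Col.a, TCG_Fi23.Col.c, TCG_Fi23.Col.d, TCG_Fi23.Col.e, TCG_Fi23.Col.f, TCG_Fi23.Col.g, TCG_Fi23.Col.f, TCG_Fi23.Col.e, TCG_Fi23.Col.c, TCG_Fi23.Col.b, TCG_Fi23.Col.f,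 TCG_Fi23.Col.h, TCG_Fi23.Col.i, TCG_Fi23.Col.b, TCG_Fi23.Col.c, TCG_Fi23.Col.h, TCG_Fi23.Col.i, TCG_Fi23.Col.d, TCG_Fi23.Col.e, TCG_Fi23.Col.h, TCG_Fi23.Col.d, TCG_Fi23.Col.c, TCG_Fi23.Col.i, TCG_Fi23.Col.b, TCG_Fi23.Col.h, TCG_Fi23.Col.d, TCG_Fi23.Col.c, TCG_Fi23.Col.e, TCG_Fi23.Col.d, TCG_Fi23.Col.a, TCG_Fi23.Col.b, TCG_Fi23.Col.d, TCG_Fi23.Col.c, TCG_Fi23.Col.i, TCG_Fi23.Col.h, TCG_Fi23.Col.d, TCG_Fi23.Col.a, TCG_Fi23.Col.c, TCG_Fi23.Col.h, TCG_Fi23.Col.d, TCG_Fi23.Col.e, TCG_Fi23.Col.f, TCG_Fi23.Col.g, TCG_Fi23.Col.b, TCG_Fi23.Col.h, TCG_Fi23.Col.f, TCG_Fi23.Col.i, TCG_Fi23.Col.h, TCG_Fi23.Col.d, TCG_Fi23.Col.e, TCG_Fi23.Col.h, TCG_Fi23.Col.d, TCG_Fi23.Col.c, TCG_Fi23.Col.i,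 TCG_Fi23.Col.b, TCG_Fi23.Col.h, TCG_Fi23.Col.d, TCG_Fi23.Col.c, TCG_Fi23.Col.e, TCG_Fi23.Col.d, TCG_Fi23.Col.a, TCG_Fi23.Col.f, TCG_Fi23.Col.i, TCG_Fi23.Col.e, TCG_Fi23.Col.b, TCG_Fi23.Col.c, TCG_Fi23.Col.d, TCG_Fi23.Col.c, TCG_Fi23.Col.h, TCG_Fi23.Col.e, TCG_Fi23.Col.h, TCG_Fi23.Col.b, TCG_Fi23.Col.g, TCG_Fi23.Col.a, TCG_Fi23.Col.g, TCG_Fi23.Col.e, TCG_Fi23.Col.f, TCG_Fi23.Col.e, TCG_Fi23.Col.b, TCG_Fi23.Col.c, TCG_Fi23.Col.i, TCG_Fi23.Col.h, TCG_Fi23.Col.c, TCG_Fi23.Col.g, TCG_Fi23.Col.d, TCG_Fi23.Col.b, TCG_Fi23.Col.e, TCG_Fi23.Col.j, TCG_Fi23.Col.c, TCG_Fi23.Col.d, TCG_Fi23.Col.b, TCG_Fi23.Col.e, TCG_Fi23.Col.h, TCG_Fi23.Col.i, TCG_Fi23.Col.h, TCG_Fi23.Col.j, TCG_Fi23.Col.g,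 TCG_Fi23.Col.c, TCG_Fi23.Col.d, TCG_Fi23.Col.e, TCG_Fi23.Col.h, TCG_Fi23.Col.d, TCG_Fi23.Col.b, TCG_Fi23.Col.i, TCG_Fi23.Col.h, TCG_Fi23.Col.c, TCG_Fi23.Col.f, TCG_Fi23.Col.d, TCG_Fi23.Col.e, TCG_Fi23.Col.h, TCG_Fi23.Col.d, TCG_Fi23.Col.c, TCG_Fi23.Col.i, TCG_Fi23.Col.b, TCG_Fi23.Col.h, TCG_Fi23.Col.d, TCG_Fi23.Col.c, TCG_Fi23.Col.e, TCG_Fi23.Col.d, TCG_Fi23.Col.f, TCG_Fi23.Col.d, TCG_Fi23.Col.e, TCG_Fi23.Col.c, TCG_Fi23.Col.b, TCG_Fi23.Col.h, TCG_Fi23.Col.b, TCG_Fi23.Col.d, TCG_Fi23.Col.g, TCG_Fi23.Col.h, TCG_Fi23.Col.b, TCG_Fi23.Col.d, TCG_Fi23.Col.c, TCG_Fi23.Col.d, TCG_Fi23.Col.g, TCG_Fi23.Col.e, TCG_Fi23.Col.i, TCG_Fi23.Col.h, TCG_Fi23.Col.d, TCG_Fi23.Col.e, TCG_Fi23.Col.i,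 TCG_Fi23.Col.h, TCG_Fi23.Col.c, TCG_Fi23.Col.a, TCG_Fi23.Col.g, TCG_Fi23.Col.f, TCG_Fi23.Col.j, TCG_Fi23.Col.g, TCG_Fi23.Col.e, TCG_Fi23.Col.f, TCG_Fi23.Col.e, TCG_Fi23.Col.c, TCG_Fi23.Col.g, TCG_Fi23.Col.c],
  [TCG_Fi23.Col.g, TCG_Fi23.Col.j, TCG_Fi23.Col.c, TCG_Fi23.Col.h, TCG_Fi23.Col.d, TCG_Fi23.Col.e, TCG_Fi23.Col.f, TCG_Fi23.Col.g, TCG_Fi23.Col.d, TCG_Fi23.Col.h, TCG_Fi23.Col.d, TCG_Fi23.Col.a, TCG_Fi23.Col.b, TCG_Fi23.Col.c, TCG_Fi23.Col.e, TCG_Fi23.Col.d, TCG_Fi23.Col.i, TCG_Fi23.Col.b, TCG_Fi23.Col.e, TCG_Fi23.Col.d, TCG_Fi23.Col.c, TCG_Fi23.Col.h, TCG_Fi23.Col.d, TCG_Fi23.Col.a, TCG_Fi23.Col.f, TCG_Fi23.Col.i, TCG_Fi23.Col.h, TCG_Fi23.Col.d, TCG_Fi23.Col.e, TCG_Fi23.Col.h,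 TCG_Fi23.Col.d, TCG_Fi23.Col.c, TCG_Fi23.Col.i, TCG_Fi23.Col.b, TCG_Fi23.Col.h, TCG_Fi23.Col.d, TCG_Fi23.Col.c, TCG_Fi23.Col.e, TCG_Fi23.Col.d, TCG_Fi23.Col.c, TCG_Fi23.Col.e, TCG_Fi23.Col.f, TCG_Fi23.Col.e, TCG_Fi23.Col.h, TCG_Fi23.Col.c, TCG_Fi23.Col.d, TCG_Fi23.Col.b, TCG_Fi23.Col.g, TCG_Fi23.Col.j, TCG_Fi23.Col.c, TCG_Fi23.Col.e, TCG_Fi23.Col.a, TCG_Fi23.Col.h],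
  [TCG_Fi23.Col.c, TCG_Fi23.Col.f, TCG_Fi23.Col.e, TCG_Fi23.Col.h, TCG_Fi23.Col.i, TCG_Fi23.Col.d, TCG_Fi23.Col.e, TCG_Fi23.Col.h, TCG_Fi23.Col.d, TCG_Fi23.Col.c, TCG_Fi23.Col.i, TCG_Fi23.Col.b, TCG_Fi23.Col.h, TCG_Fi23.Col.d, TCG_Fi23.Col.c, TCG_Fi23.Col.e, TCG_Fi23.Col.d, TCG_Fi23.Col.b, TCG_Fi23.Col.c, TCG_Fi23.Col.f, TCG_Fi23.Col.e, TCG_Fi23.Col.c, TCG_Fi23.Col.b, TCG_Fi23.Col.a, TCG_Fi23.Col.d, TCG_Fi23.Col.e, TCG_Fi23.Col.h, TCG_Fi23.Col.d, TCG_Fi23.Col.e, TCG_Fi23.Col.f, TCG_Fi23.Col.g, TCG_Fi23.Col.j, TCG_Fi23.Col.a, TCG_Fi23.Col.b, TCG_Fi23.Col.d, TCG_Fi23.Col.c, TCG_Fi23.Col.i, TCG_Fi23.Col.h, TCG_Fi23.Col.d, TCG_Fi23.Col.a, TCG_Fi23.Col.c, TCG_Fi23.Col.h, TCG_Fi23.Col.d,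 TCG_Fi23.Col.e, TCG_Fi23.Col.f, TCG_Fi23.Col.g, TCG_Fi23.Col.j, TCG_Fi23.Col.c, TCG_Fi23.Col.b, TCG_Fi23.Col.f, TCG_Fi23.Col.e, TCG_Fi23.Col.h, TCG_Fi23.Col.i, TCG_Fi23.Col.a, TCG_Fi23.Col.c, TCG_Fi23.Col.d, TCG_Fi23.Col.f, TCG_Fi23.Col.e, TCG_Fi23.Col.h, TCG_Fi23.Col.d, TCG_Fi23.Col.a, TCG_Fi23.Col.c, TCG_Fi23.Col.e, TCG_Fi23.Col.i, TCG_Fi23.Col.h, TCG_Fi23.Col.d, TCG_Fi23.Col.b, TCG_Fi23.Col.a, TCG_Fi23.Col.e, TCG_Fi23.Col.i, TCG_Fi23.Col.h, TCG_Fi23.Col.d, TCG_Fi23.Col.a, TCG_Fi23.Col.d, TCG_Fi23.Col.c, TCG_Fi23.Col.h, TCG_Fi23.Col.d, TCG_Fi23.Col.b, TCG_Fi23.Col.c, TCG_Fi23.Col.f, TCG_Fi23.Col.c, TCG_Fi23.Col.b, TCG_Fi23.Col.d, TCG_Fi23.Col.c, TCG_Fi23.Col.e, TCG_Fi23.Col.d,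 TCG_Fi23.Col.b, TCG_Fi23.Col.c, TCG_Fi23.Col.d, TCG_Fi23.Col.e, TCG_Fi23.Col.h, TCG_Fi23.Col.d, TCG_Fi23.Col.a, TCG_Fi23.Col.b, TCG_Fi23.Col.c, TCG_Fi23.Col.b, TCG_Fi23.Col.a, TCG_Fi23.Col.d, TCG_Fi23.Col.a, TCG_Fi23.Col.d, TCG_Fi23.Col.c, TCG_Fi23.Col.e, TCG_Fi23.Col.h, TCG_Fi23.Col.d, TCG_Fi23.Col.b, TCG_Fi23.Col.d, TCG_Fi23.Col.c, TCG_Fi23.Col.i, TCG_Fi23.Col.h, TCG_Fi23.Col.d, TCG_Fi23.Col.a, TCG_Fi23.Col.c, TCG_Fi23.Col.b, TCG_Fi23.Col.e, TCG_Fi23.Col.f, TCG_Fi23.Col.h, TCG_Fi23.Col.b, TCG_Fi23.Col.f, TCG_Fi23.Col.e, TCG_Fi23.Col.h, TCG_Fi23.Col.i, TCG_Fi23.Col.d, TCG_Fi23.Col.e, TCG_Fi23.Col.h, TCG_Fi23.Col.d, TCG_Fi23.Col.c, TCG_Fi23.Col.i, TCG_Fi23.Col.b, TCG_Fi23.Col.h,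 TCG_Fi23.Col.d, TCG_Fi23.Col.c, TCG_Fi23.Col.e, TCG_Fi23.Col.d, TCG_Fi23.Col.c, TCG_Fi23.Col.f, TCG_Fi23.Col.e, TCG_Fi23.Col.h, TCG_Fi23.Col.i, TCG_Fi23.Col.h, TCG_Fi23.Col.b, TCG_Fi23.Col.f, TCG_Fi23.Col.d, TCG_Fi23.Col.e, TCG_Fi23.Col.h, TCG_Fi23.Col.d, TCG_Fi23.Col.b, TCG_Fi23.Col.c, TCG_Fi23.Col.i, TCG_Fi23.Col.b, TCG_Fi23.Col.h, TCG_Fi23.Col.d, TCG_Fi23.Col.c, TCG_Fi23.Col.e, TCG_Fi23.Col.d, TCG_Fi23.Col.a, TCG_Fi23.Col.b, TCG_Fi23.Col.d, TCG_Fi23.Col.c, TCG_Fi23.Col.i, TCG_Fi23.Col.h, TCG_Fi23.Col.d, TCG_Fi23.Col.a, TCG_Fi23.Col.c, TCG_Fi23.Col.h, TCG_Fi23.Col.d, TCG_Fi23.Col.e, TCG_Fi23.Col.f, TCG_Fi23.Col.e, TCG_Fi23.Col.f, TCG_Fi23.Col.g, TCG_Fi23.Col.j, TCG_Fi23.Col.c,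 TCG_Fi23.Col.e, TCG_Fi23.Col.h, TCG_Fi23.Col.d, TCG_Fi23.Col.c, TCG_Fi23.Col.b, TCG_Fi23.Col.a, TCG_Fi23.Col.j, TCG_Fi23.Col.g, TCG_Fi23.Col.b, TCG_Fi23.Col.c, TCG_Fi23.Col.h, TCG_Fi23.Col.a, TCG_Fi23.Col.b, TCG_Fi23.Col.c, TCG_Fi23.Col.d, TCG_Fi23.Col.e, TCG_Fi23.Col.f, TCG_Fi23.Col.g, TCG_Fi23.Col.d, TCG_Fi23.Col.c, TCG_Fi23.Col.b, TCG_Fi23.Col.e, TCG_Fi23.Col.h, TCG_Fi23.Col.d, TCG_Fi23.Col.a, TCG_Fi23.Col.c, TCG_Fi23.Col.d, TCG_Fi23.Col.e, TCG_Fi23.Col.f, TCG_Fi23.Col.g, TCG_Fi23.Col.j, TCG_Fi23.Col.a, TCG_Fi23.Col.b, TCG_Fi23.Col.a, TCG_Fi23.Col.c, TCG_Fi23.Col.i, TCG_Fi23.Col.h, TCG_Fi23.Col.d, TCG_Fi23.Col.j, TCG_Fi23.Col.f, TCG_Fi23.Col.g, TCG_Fi23.Col.d, TCG_Fi23.Col.c,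 TCG_Fi23.Col.b, TCG_Fi23.Col.e, TCG_Fi23.Col.h, TCG_Fi23.Col.d, TCG_Fi23.Col.a, TCG_Fi23.Col.c, TCG_Fi23.Col.d, TCG_Fi23.Col.e, TCG_Fi23.Col.f, TCG_Fi23.Col.g, TCG_Fi23.Col.j, TCG_Fi23.Col.c, TCG_Fi23.Col.h, TCG_Fi23.Col.d, TCG_Fi23.Col.e, TCG_Fi23.Col.f, TCG_Fi23.Col.g, TCG_Fi23.Col.j, TCG_Fi23.Col.e, TCG_Fi23.Col.f, TCG_Fi23.Col.h, TCG_Fi23.Col.d, TCG_Fi23.Col.c, TCG_Fi23.Col.b, TCG_Fi23.Col.e, TCG_Fi23.Col.h, TCG_Fi23.Col.d, TCG_Fi23.Col.a, TCG_Fi23.Col.c, TCG_Fi23.Col.d, TCG_Fi23.Col.e, TCG_Fi23.Col.f, TCG_Fi23.Col.g, TCG_Fi23.Col.j, TCG_Fi23.Col.b, TCG_Fi23.Col.c, TCG_Fi23.Col.b, TCG_Fi23.Col.e, TCG_Fi23.Col.h, TCG_Fi23.Col.i, TCG_Fi23.Col.f, TCG_Fi23.Col.e, TCG_Fi23.Col.d,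 TCG_Fi23.Col.c, TCG_Fi23.Col.b, TCG_Fi23.Col.a, TCG_Fi23.Col.h, TCG_Fi23.Col.d, TCG_Fi23.Col.e, TCG_Fi23.Col.f, TCG_Fi23.Col.g, TCG_Fi23.Col.d, TCG_Fi23.Col.c, TCG_Fi23.Col.b, TCG_Fi23.Col.e, TCG_Fi23.Col.h, TCG_Fi23.Col.d, TCG_Fi23.Col.a, TCG_Fi23.Col.c, TCG_Fi23.Col.d, TCG_Fi23.Col.e, TCG_Fi23.Col.f, TCG_Fi23.Col.g, TCG_Fi23.Col.d, TCG_Fi23.Col.c, TCG_Fi23.Col.b, TCG_Fi23.Col.e, TCG_Fi23.Col.h, TCG_Fi23.Col.d, TCG_Fi23.Col.a, TCG_Fi23.Col.c, TCG_Fi23.Col.d, TCG_Fi23.Col.e, TCG_Fi23.Col.f, TCG_Fi23.Col.g, TCG_Fi23.Col.a, TCG_Fi23.Col.b, TCG_Fi23.Col.c, TCG_Fi23.Col.d, TCG_Fi23.Col.e, TCG_Fi23.Col.f, TCG_Fi23.Col.g, TCG_Fi23.Col.d, TCG_Fi23.Col.c, TCG_Fi23.Col.b, TCG_Fi23.Col.e,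 TCG_Fi23.Col.h, TCG_Fi23.Col.d, TCG_Fi23.Col.a, TCG_Fi23.Col.c, TCG_Fi23.Col.d, TCG_Fi23.Col.e, TCG_Fi23.Col.f, TCG_Fi23.Col.g, TCG_Fi23.Col.j, TCG_Fi23.Col.e, TCG_Fi23.Col.h, TCG_Fi23.Col.i, TCG_Fi23.Col.h, TCG_Fi23.Col.b, TCG_Fi23.Col.c, TCG_Fi23.Col.b, TCG_Fi23.Col.e, TCG_Fi23.Col.h, TCG_Fi23.Col.i, TCG_Fi23.Col.b, TCG_Fi23.Col.f, TCG_Fi23.Col.h, TCG_Fi23.Col.a, TCG_Fi23.Col.h, TCG_Fi23.Col.d, TCG_Fi23.Col.c, TCG_Fi23.Col.e, TCG_Fi23.Col.d, TCG_Fi23.Col.c, TCG_Fi23.Col.b, TCG_Fi23.Col.e, TCG_Fi23.Col.h, TCG_Fi23.Col.i, TCG_Fi23.Col.h, TCG_Fi23.Col.a, TCG_Fi23.Col.b, TCG_Fi23.Col.c, TCG_Fi23.Col.d, TCG_Fi23.Col.e, TCG_Fi23.Col.h, TCG_Fi23.Col.d, TCG_Fi23.Col.a, TCG_Fi23.Col.c,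 TCG_Fi23.Col.h, TCG_Fi23.Col.i, TCG_Fi23.Col.h, TCG_Fi23.Col.b, TCG_Fi23.Col.f, TCG_Fi23.Col.d, TCG_Fi23.Col.e, TCG_Fi23.Col.h, TCG_Fi23.Col.d, TCG_Fi23.Col.b, TCG_Fi23.Col.c, TCG_Fi23.Col.i, TCG_Fi23.Col.b, TCG_Fi23.Col.h, TCG_Fi23.Col.d, TCG_Fi23.Col.c, TCG_Fi23.Col.e, TCG_Fi23.Col.d, TCG_Fi23.Col.c, TCG_Fi23.Col.b, TCG_Fi23.Col.e, TCG_Fi23.Col.h, TCG_Fi23.Col.i, TCG_Fi23.Col.h, TCG_Fi23.Col.b, TCG_Fi23.Col.c, TCG_Fi23.Col.f, TCG_Fi23.Col.i, TCG_Fi23.Col.h, TCG_Fi23.Col.e, TCG_Fi23.Col.i, TCG_Fi23.Col.h, TCG_Fi23.Col.d, TCG_Fi23.Col.c, TCG_Fi23.Col.h, TCG_Fi23.Col.d, TCG_Fi23.Col.e, TCG_Fi23.Col.f, TCG_Fi23.Col.g, TCG_Fi23.Col.b, TCG_Fi23.Col.c, TCG_Fi23.Col.e, TCG_Fi23.Col.i,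 TCG_Fi23.Col.h, TCG_Fi23.Col.a, TCG_Fi23.Col.b, TCG_Fi23.Col.c, TCG_Fi23.Col.d, TCG_Fi23.Col.e, TCG_Fi23.Col.f, TCG_Fi23.Col.g, TCG_Fi23.Col.f, TCG_Fi23.Col.g, TCG_Fi23.Col.d, TCG_Fi23.Col.c, TCG_Fi23.Col.b, TCG_Fi23.Col.e, TCG_Fi23.Col.h, TCG_Fi23.Col.d, TCG_Fi23.Col.a, TCG_Fi23.Col.c, TCG_Fi23.Col.d, TCG_Fi23.Col.e, TCG_Fi23.Col.f, TCG_Fi23.Col.g, TCG_Fi23.Col.b, TCG_Fi23.Col.c, TCG_Fi23.Col.b, TCG_Fi23.Col.e, TCG_Fi23.Col.h, TCG_Fi23.Col.i, TCG_Fi23.Col.f, TCG_Fi23.Col.e, TCG_Fi23.Col.d, TCG_Fi23.Col.c, TCG_Fi23.Col.b, TCG_Fi23.Col.a, TCG_Fi23.Col.h, TCG_Fi23.Col.d, TCG_Fi23.Col.e, TCG_Fi23.Col.f, TCG_Fi23.Col.g, TCG_Fi23.Col.h, TCG_Fi23.Col.d, TCG_Fi23.Col.e, TCG_Fi23.Col.f,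 TCG_Fi23.Col.d, TCG_Fi23.Col.h, TCG_Fi23.Col.d, TCG_Fi23.Col.e, TCG_Fi23.Col.d, TCG_Fi23.Col.e, TCG_Fi23.Col.h, TCG_Fi23.Col.i, TCG_Fi23.Col.b, TCG_Fi23.Col.c, TCG_Fi23.Col.f, TCG_Fi23.Col.e, TCG_Fi23.Col.h, TCG_Fi23.Col.b, TCG_Fi23.Col.d, TCG_Fi23.Col.c, TCG_Fi23.Col.e, TCG_Fi23.Col.d, TCG_Fi23.Col.f, TCG_Fi23.Col.e, TCG_Fi23.Col.i, TCG_Fi23.Col.f, TCG_Fi23.Col.b, TCG_Fi23.Col.j, TCG_Fi23.Col.d, TCG_Fi23.Col.c, TCG_Fi23.Col.b, TCG_Fi23.Col.d, TCG_Fi23.Col.e, TCG_Fi23.Col.i, TCG_Fi23.Col.c, TCG_Fi23.Col.d, TCG_Fi23.Col.a, TCG_Fi23.Col.c, TCG_Fi23.Col.i, TCG_Fi23.Col.j, TCG_Fi23.Col.b, TCG_Fi23.Col.c, TCG_Fi23.Col.e, TCG_Fi23.Col.i, TCG_Fi23.Col.d, TCG_Fi23.Col.e, TCG_Fi23.Col.h,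 TCG_Fi23.Col.d, TCG_Fi23.Col.c, TCG_Fi23.Col.i, TCG_Fi23.Col.b, TCG_Fi23.Col.h, TCG_Fi23.Col.d, TCG_Fi23.Col.c, TCG_Fi23.Col.e, TCG_Fi23.Col.d, TCG_Fi23.Col.e, TCG_Fi23.Col.f, TCG_Fi23.Col.g, TCG_Fi23.Col.b, TCG_Fi23.Col.a, TCG_Fi23.Col.h, TCG_Fi23.Col.i, TCG_Fi23.Col.f, TCG_Fi23.Col.j, TCG_Fi23.Col.e, TCG_Fi23.Col.b, TCG_Fi23.Col.g]]
theorem zB : lall (fun w => agB (fun q => walk stp w (TY q)) (fun q => TY (walk stp w q)) (lvs.map Lv.b)) Z = true := by decide +kernel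
theorem zQ : lall (fun a => lany2 (fun w => Nat.beq a (walk stp w 524599)) Z) QY = true := by decide +kernel
theorem cy (c : Fi23) (h : c * y = y * c) : ∃ w ∈ Z, c = gw P w := dy.lst φ_P good cY Z zB zQ c h
theorem xQ : lall (fun a => lany2 (fun i => Nat.beq a (itN TX i 810839)) (List.range 17)) QX = true := by decide +kernel
theorem cx (c : Fi23) (h : c * x = x * c) : ∃ i : ℕ, c = x ^ i := dx.cyc φ_P good cX x TX hx rfl 17 xQ c h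
theorem xp : x ^ 17 = 1 := eq_of_agB good (hx.pow 17) (Acts.one φ) (by decide +kernel)
theorem x1 : x ≠ 1 := ne_of_moved hx (Acts.one φ) (b := 810839) (mem_sound (by decide +kernel)) (by decide +kernel)
theorem ox : orderOf x = 17 := by
  have : Fact (Nat.Prime 17) := ⟨by norm_num⟩
  exact orderOf_eq_prime xp x1
theorem yx : y * x = x ^ 10 * y := eq_of_agB good (hy.mul hx) ((hx.pow 10).mul hy) (by decide +kernel)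
theorem sy : s * y = y ^ 11 * s := eq_of_agB good (hs.mul hy) ((hy.pow 11).mul hs) (by decide +kernel)
def R : List (List ℕ) := [[0, 2, 0, 2, 0, 2, 0, 2, 0, 2, 0, 2, 0, 2, 0, 2, 0, 2, 0, 2, 0, 2, 0, 2, 0, 2, 0, 2, 0, 2, 0, 2, 0, 2, 0, 2, 0, 2, 0, 2, 0, 2]]
theorem rB : relB TX TY TS R (lvs.map Lv.b) = true := by decide +kernel
theorem srv : srvB stp TX TY TS [1] Z R [(1, 524599)] 524599 524309 = true := by decide +kernel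
noncomputable def E : Col → List ℕ := fun c => Col.rec (motive := fun _ => List ℕ) [2, 2, 0, 2, 2, 2, 2, 0, 1, 1, 0, 0, 0, 0, 1, 0, 0, 0, 1, 2, 0, 0, 2, 1, 0, 1, 1, 1, 0, 0, 0, 2, 0, 2, 1, 2, 0, 2, 0, 0, 0, 0, 0, 1, 0, 2, 0, 0, 0, 1, 0, 2, 1, 2, 0, 2, 1, 2, 0, 2, 0, 0, 0, 0, 0, 1, 0, 0, 0, 2, 2, 0, 1, 2, 1, 2, 0, 2, 2, 2, 1, 2, 2, 2, 0, 1, 0, 2, 2] [1, 2, 2, 1, 0, 0, 2, 2, 2, 2, 0, 1, 1, 0, 0, 2, 1, 0, 0, 2, 2, 0, 2, 2, 0, 0, 0, 2, 1, 1, 2, 2, 2, 1, 0, 1, 2, 2, 0, 1, 0, 0, 2, 2, 2, 0, 0, 2, 2, 0, 2, 2, 0, 1, 0, 1] [2, 2, 0, 0, 0, 0, 2, 2, 0, 1, 0, 2, 2, 0, 2, 2, 0, 0, 1, 1, 1, 0, 0, 2, 1, 0, 0, 2, 2, 0, 2, 2, 0, 0, 0, 2, 1, 1, 2, 2, 2, 1, 0, 1, 2, 2, 0, 1, 0, 0, 2, 2, 2, 0, 0, 0,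 1, 0, 2, 2, 1, 0] [0, 2, 1, 2, 0, 1, 1, 0, 1, 2, 2, 0, 2, 2, 0, 0, 2, 1, 2, 1, 1, 1, 0, 0, 2, 1, 0, 0, 2, 2, 0, 2, 2, 0, 0, 0, 2, 1, 1, 2, 2, 2, 1, 0, 1, 2, 2, 0, 1, 0, 0, 2, 2, 2, 0, 0, 2, 1, 1, 2, 0, 2, 2, 0] [0, 1, 1, 2, 2, 0, 2, 2, 0, 0, 2, 1, 2, 0, 2, 2, 0, 0, 0, 0, 0, 1, 1, 1, 0, 0, 2, 1, 0, 0, 2, 2, 0, 2, 2, 0, 0, 0, 2, 1, 1, 2, 2, 2, 1, 0, 1, 2, 2, 0, 1, 0, 0, 2, 2, 2, 0, 1, 2, 2, 0, 1, 0, 2, 2] [0, 0, 1, 1, 0, 1, 0, 2, 2, 1, 0, 0, 1, 2, 2, 0, 1, 1, 1, 0, 0, 2, 1, 0, 0, 2, 2, 0, 2, 2, 0, 0, 0, 2, 1, 1, 2, 2, 2, 1, 0, 1, 2, 2, 0, 1, 0, 0, 2, 2, 2, 0, 1, 1, 0, 1, 1, 2, 2, 1, 0, 1, 0] [1, 0, 1, 0, 0, 1, 0, 2, 2, 1, 0, 0, 1, 2, 2, 0, 1, 1, 1, 0, 0, 2, 1, 0, 0, 2, 2, 0, 2, 2,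 0, 0, 0, 2, 1, 1, 2, 2, 2, 1, 0, 1, 2, 2, 0, 1, 0, 0, 2, 2, 2, 0, 1, 1, 0, 1, 1, 2, 2, 1, 0, 1] [1, 0, 1, 1, 0, 2, 2, 1, 0, 0, 1, 2, 2, 0, 1, 1, 1, 0, 0, 2, 1, 0, 0, 2, 2, 0, 2, 2, 0, 0, 0, 2, 1, 1, 2, 2, 2, 1, 0, 1, 2, 2, 0, 1, 0, 0, 2, 2, 2, 0, 1, 1, 0, 2, 2, 1, 1, 0, 1, 0, 1, 0] [0, 0, 0, 0, 1, 0, 2, 2, 0, 0, 1, 1, 2, 2, 0, 0, 2, 1, 2, 0, 1, 1, 0, 0, 2, 1, 0, 0, 2, 2, 0, 2, 2, 0, 0, 0, 2, 1, 1, 2, 2, 2, 1, 0, 1, 2, 2, 0, 1, 0, 0, 2, 2, 2, 0, 0, 2, 1, 2, 0, 2, 1, 2] [1, 1, 0, 2, 0, 1, 0, 2, 2, 1, 1, 2, 1, 1, 2, 0, 0, 2, 2, 0, 1, 1, 2, 2, 0, 2, 2, 1, 0, 2, 1, 2, 0, 2, 2, 0, 1, 2, 2, 0, 0, 1, 2, 2, 0, 0, 1, 1, 0, 0, 0, 0, 1, 0, 0, 0, 1, 2, 0, 0, 2, 1, 0, 1, 1, 1, 0, 0, 0, 2, 0, 2,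 1, 2, 0, 2, 0, 0, 0, 0, 0, 1, 0, 2, 0, 0, 0, 1, 0, 2, 1, 2, 0, 2, 1, 2, 0, 2, 0, 0, 0, 0, 0, 1, 0, 0, 0, 2, 2, 0, 1, 2, 1, 2, 0, 2, 2, 2, 1, 2, 2, 2, 0, 1, 0, 2, 1, 2, 0, 1, 2, 1, 0, 1, 0, 1, 0] c
theorem eB : lall (fun c => agB (stp c) (walkC (st3 TX TY TS) (E c)) (lvs.map Lv.b)) cols = true := by decide +kernel
theorem norm (α : MulAut Fi23) : ∃ h : Fi23, ∃ k ∈ [1], ∃ z : Fi23, z * y = y * z ∧ h * α x * h⁻¹ = x ^ k ∧ h * α y * h⁻¹ = y ∧ h * α s * h⁻¹ = s * z := by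
  have : Fact (Nat.Prime 17) := ⟨by norm_num⟩
  refine aut_norm2 (p := 17) (M := 17) (q := 1) ox (by norm_num) rfl (by rw [order_main.1]; norm_num) (fun c h => cx c (by simpa using h)) yx ?_ sy [1] ?_ α
  · have h : ∀ i < 17, ∃ a < 17, (a + 10 * i) % 17 = (10 * a) % 17 := by decide +kernel
    exact fun i hi => Or.inl (h i hi)
  · decide +kernel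
theorem aut : AutD φ P stp lvs x y s TX TY TS [1] Z 524599 [(1, 524599)] E where
  hG := good
  hg := hg
  hgen := P_top
  hx := hx
  hy := hy
  hs := hs
  norm := norm
  cy := cy
  zy := fun w hw w' hw' h => dy.z_eq φ_P good zB hw hw' h
  srv := fun δ k hk w hw h1 h2 h3 => srv_sound good hg hx hy hs (mem_sound (by decide +kernel)) rB srv δ hk hw h1 h2 h3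
  hE := hE_of good hg hx hy hs hcols eB
theorem out_card : Nat.card (Cfsg.Out Fi23) = 1 := aut.out_one List.mem_cons_self rfl
end CfsgLib.TCFi23.Au
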