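import Cfsg.Agent.EqBase
import Cfsg.Agent.LibTCAutHeA
set_option autoImplicit false
set_option linter.all false
set_option maxRecDepth 1000000
set_option maxHeartbeats 0
namespace CfsgLib.TCHe.Au
open CfsgLib.TC Cfsg.Spor CfsgLib.TCG_He CfsgLib.TCHe CfsgLib.TCHe.Chain
theorem cX : Tr.all (cenB stp 80 [43951, 39659] lvs TX [9, 0, 13, 11, 1, 2] QX) L = true := by decide +kernel
end CfsgLib.TCHe.Au
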