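import Cfsg.Agent.EqBase
import Cfsg.Agent.LibTCAutHeA
set_option autoImplicit false
set_option linter.all false
set_option maxRecDepth 1000000
set_option maxHeartbeats 0
namespace CfsgLib.TCHe.Au
open CfsgLib.TC Cfsg.Spor CfsgLib.TCG_He CfsgLib.TCHe CfsgLib.TCHe.Chain
theorem cY : Tr.all (cenB stp 80 [38959, 44029] lvs TY [0, 3, 2, 7, 1, 4] QY) L = true := by decide +kernel
end CfsgLib.TCHe.Au
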