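import Cfsg.Agent.EqBase
import Cfsg.Agent.LibTCGHe
set_option autoImplicit false
set_option linter.all false
set_option maxRecDepth 1000000
set_option maxHeartbeats 0
namespace CfsgLib.TCHeW
open CfsgLib.TC Cfsg.Spor
inductive Col where
  | a
  | b
  | c
  | d
  | e
noncomputable def idx : Col → ℕ := fun c => Col.rec (motive := fun _ => ℕ) 0 1 2 3 4 c
noncomputable def inv : Col → Col := fun c => Col.rec (motive := fun _ => Col) .a .b .c .d .e c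
def dec : ℕ → Col := fun n => if n = 0 then .a else if n = 1 then .b else if n = 2 then .c else if n = 3 then .d else .e
theorem hdec : ∀ c, dec (idx c) = c := by intro c; cases c <;> rfl
noncomputable def RW : List (List Col) := [[Col.a, Col.a],
  [Col.b, Col.a, Col.b, Col.a, Col.b, Col.a, Col.b, Col.a],
  [Col.c, Col.a, Col.c, Col.a],
  [Col.d, Col.a, Col.d, Col.a],
  [Col.e, Col.a, Col.e, Col.a],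
  [Col.b, Col.b],
  [Col.c, Col.b, Col.c, Col.b, Col.c, Col.b],
  [Col.d, Col.b, Col.d, Col.b],
  [Col.e, Col.b, Col.e, Col.b],
  [Col.c, Col.c],
  [Col.d, Col.c, Col.d, Col.c, Col.d, Col.c, Col.d, Col.c, Col.d, Col.c, Col.d, Col.c, Col.d, Col.c, Col.d, Col.c, Col.d, Col.c, Col.d, Col.c],
  [Col.e, Col.c, Col.e, Col.c],
  [Col.d, Col.d],
  [Col.e, Col.d, Col.e, Col.d, Col.e, Col.d],
  [Col.e, Col.e],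
  [Col.a, Col.b, Col.c, Col.a, Col.b, Col.c, Col.a, Col.b, Col.c, Col.e],
  [Col.c, Col.d, Col.c, Col.d, Col.c, Col.d, Col.c, Col.d, Col.c, Col.d, Col.a]]
def emb : Col → TCG_He.Col
  | .a => .a
  | .b => .b
  | .c => .c
  | .d => .d
  | .e => .e
theorem emb_inv : ∀ c, emb (inv c) = TCG_He.inv (emb c) := by intro c; cases c <;> rfl
def RI : List ℕ := [0, 1, 2, 3, 4, 7, 8, 9, 10, 13, 14, 15, 18, 19, 22, 29, 30]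
theorem ri_chk : lleq TCG_He.idx (mapR (nthR TCG_He.RW) RI) (mapR (mapR emb) RW) = true := by decide +kernel
/-- the family of generators -/
def Pc {G : Type*} [Group G] (f : He.Gen → G) (c : Col) : G := TCG_He.Pc f (emb c)
theorem Pc_inv {G : Type*} [Group G] {f : He.Gen → G} (hs : Sat He.edges He.extra f) (c : Col) : Pc f (inv c) = (Pc f c)⁻¹ := by
  rw [Pc, emb_inv]; exact TCG_He.Pc_inv hs _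
theorem Pc_RW {G : Type*} [Group G] {f : He.Gen → G} (hs : Sat He.edges He.extra f) : ∀ w ∈ RW, gw (Pc f) w = 1 :=
  rw_sub TCG_He.dec TCG_He.hdec emb RI ri_chk (TCG_He.Pc f) (TCG_He.Pc_RW hs)
noncomputable def SW0 : List (List Col) := []
noncomputable def SW1 : List (List Col) := SW0 ++ [[Col.c, Col.d, Col.c, Col.d, Col.e, Col.d, Col.c, Col.d, Col.c, Col.d, Col.e, Col.d, Col.c, Col.d, Col.e]]
noncomputable def mini0S : Tr (Fc Col) := (Tr.nd (nat_lit 71) (Tr.nd (nat_lit 35) (Tr.nd (nat_lit 17) (Tr.nd (nat_lit 8) (Tr.nd (nat_lit 4) (Tr.nd (nat_lit 2) (Tr.nd (nat_lit 1) (Tr.lf (Fc.ed (nat_lit 0) (nat_lit 0) Col.c (nat_lit 1) Dv.df)) (Tr.lf (Fc.ed (nat_lit 1) (nat_lit 1) Col.d (nat_lit 2) Dv.df))) (Tr.nd (nat_lit 3) (Tr.lf (Fc.ed (nat_lit 2) (nat_lit 2) Col.c (nat_lit 3) Dv.df)) (Tr.lf (Fc.ed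 (nat_lit 3) (nat_lit 3) Col.d (nat_lit 4) Dv.df)))) (Tr.nd (nat_lit 6) (Tr.nd (nat_lit 5) (Tr.lf (Fc.ed (nat_lit 4) (nat_lit 4) Col.e (nat_lit 5) Dv.df)) (Tr.lf (Fc.ed (nat_lit 5) (nat_lit 5) Col.d (nat_lit 6) Dv.df))) (Tr.nd (nat_lit 7) (Tr.lf (Fc.ed (nat_lit 6) (nat_lit 6) Col.c (nat_lit 7) Dv.df)) (Tr.lf (Fc.ed (nat_lit 7) (nat_lit 7) Col.d (nat_lit 8) Dv.df))))) (Tr.nd (nat_lit 12) (Tr.nd (nat_lit 10) (Tr.nd (nat_lit 9) (Tr.lf (Fc.ed (nat_lit 8) (nat_lit 8) Col.c (nat_lit 9) Dv.df)) (Tr.lf (Fc.ed (nat_lit 9) (nat_lit 9) Col.d (nat_lit 10) Dv.df))) (Tr.nd (nat_lit 11) (Tr.lf (Fc.ed (nat_lit 10) (nat_lit 10) Col.e (nat_lit 11) Dv.df)) (Tr.lf (Fc.ed (nat_lit 11) (nat_lit 11) Col.d (nat_lit 12) Dv.df)))) (Tr.nd (nat_lit 14) (Tr.nd (nat_lit 13) (Tr.lf (Fc.ed (nat_lit 12) (nat_lit 12) Col.c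 (nat_lit 13) Dv.df)) (Tr.lf (Fc.ed (nat_lit 13) (nat_lit 13) Col.d (nat_lit 14) Dv.df))) (Tr.nd (nat_lit 15) (Tr.lf (Fc.ed (nat_lit 14) (nat_lit 14) Col.e (nat_lit 15) Dv.df)) (Tr.nd (nat_lit 16) (Tr.lf (Fc.ed (nat_lit 15) (nat_lit 0) Col.b (nat_lit 16) Dv.df)) (Tr.lf (Fc.ed (nat_lit 16) (nat_lit 0) Col.e (nat_lit 17) Dv.df))))))) (Tr.nd (nat_lit 26) (Tr.nd (nat_lit 21) (Tr.nd (nat_lit 19) (Tr.nd (nat_lit 18) (Tr.lf (Fc.ed (nat_lit 17) (nat_lit 1) Col.b (nat_lit 18) Dv.df)) (Tr.lf (Fc.ed (nat_lit 18) (nat_lit 2) Col.b (nat_lit 19) Dv.df))) (Tr.nd (nat_lit 20) (Tr.lf (Fc.ed (nat_lit 19) (nat_lit 19) Col.d (nat_lit 18) (Dv.wd (nat_lit 0) [Mv.b (nat_lit 17), Mv.f (nat_lit 1), Mv.f (nat_lit 18)]))) (Tr.lf (Fc.ed (nat_lit 20) (nat_lit 3) Col.b (nat_lit 20) Dv.df)))) (Tr.nd (nat_lit 23) (Tr.nd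 (nat_lit 22) (Tr.lf (Fc.ed (nat_lit 21) (nat_lit 3) Col.e (nat_lit 21) Dv.df)) (Tr.lf (Fc.ed (nat_lit 22) (nat_lit 6) Col.e (nat_lit 22) Dv.df))) (Tr.nd (nat_lit 24) (Tr.lf (Fc.ed (nat_lit 23) (nat_lit 22) Col.d (nat_lit 21) (Dv.wd (nat_lit 1) [Mv.b (nat_lit 21), Mv.f (nat_lit 3), Mv.f (nat_lit 4), Mv.f (nat_lit 5), Mv.f (nat_lit 22)]))) (Tr.nd (nat_lit 25) (Tr.lf (Fc.ed (nat_lit 24) (nat_lit 6) Col.a (nat_lit 23) Dv.df)) (Tr.lf (Fc.ed (nat_lit 25) (nat_lit 6) Col.b (nat_lit 24) Dv.df)))))) (Tr.nd (nat_lit 30) (Tr.nd (nat_lit 28) (Tr.nd (nat_lit 27) (Tr.lf (Fc.ed (nat_lit 26) (nat_lit 7) Col.a (nat_lit 25) Dv.df)) (Tr.lf (Fc.ed (nat_lit 27) (nat_lit 25) Col.c (nat_lit 23) (Dv.wd (nat_lit 2) [Mv.b (nat_lit 24), Mv.f (nat_lit 6), Mv.f (nat_lit 26)])))) (Tr.nd (nat_lit 29) (Tr.lf (Fc.ed (nat_lit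 28) (nat_lit 8) Col.a (nat_lit 26) Dv.df)) (Tr.lf (Fc.ed (nat_lit 29) (nat_lit 26) Col.d (nat_lit 25) (Dv.wd (nat_lit 3) [Mv.b (nat_lit 26), Mv.f (nat_lit 7), Mv.f (nat_lit 28)]))))) (Tr.nd (nat_lit 32) (Tr.nd (nat_lit 31) (Tr.lf (Fc.ed (nat_lit 30) (nat_lit 9) Col.b (nat_lit 27) Dv.df)) (Tr.lf (Fc.ed (nat_lit 31) (nat_lit 9) Col.e (nat_lit 28) Dv.df))) (Tr.nd (nat_lit 33) (Tr.lf (Fc.ed (nat_lit 32) (nat_lit 12) Col.e (nat_lit 29) Dv.df)) (Tr.nd (nat_lit 34) (Tr.lf (Fc.ed (nat_lit 33) (nat_lit 29) Col.d (nat_lit 28) (Dv.wd (nat_lit 1) [Mv.b (nat_lit 31), Mv.f (nat_lit 9), Mv.f (nat_lit 10), Mv.f (nat_lit 11), Mv.f (nat_lit 32)]))) (Tr.lf (Fc.ed (nat_lit 34) (nat_lit 12) Col.b (nat_lit 30) Dv.df)))))))) (Tr.nd (nat_lit 53) (Tr.nd (nat_lit 44) (Tr.nd (nat_lit 39) (Tr.nd (nat_lit 37) (Tr.nd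 (nat_lit 36) (Tr.lf (Fc.ed (nat_lit 35) (nat_lit 13) Col.b (nat_lit 31) Dv.df)) (Tr.lf (Fc.ed (nat_lit 36) (nat_lit 14) Col.b (nat_lit 32) Dv.df))) (Tr.nd (nat_lit 38) (Tr.lf (Fc.ed (nat_lit 37) (nat_lit 32) Col.d (nat_lit 31) (Dv.wd (nat_lit 0) [Mv.b (nat_lit 35), Mv.f (nat_lit 13), Mv.f (nat_lit 36)]))) (Tr.lf (Fc.ed (nat_lit 38) (nat_lit 16) Col.a (nat_lit 33) Dv.df)))) (Tr.nd (nat_lit 41) (Tr.nd (nat_lit 40) (Tr.lf (Fc.ed (nat_lit 39) (nat_lit 16) Col.c (nat_lit 34) Dv.df)) (Tr.lf (Fc.ed (nat_lit 40) (nat_lit 16) Col.e (nat_lit 35) Dv.df))) (Tr.nd (nat_lit 42) (Tr.lf (Fc.ed (nat_lit 41) (nat_lit 35) Col.b (nat_lit 17) (Dv.wd (nat_lit 4) [Mv.b (nat_lit 16), Mv.f (nat_lit 15), Mv.f (nat_lit 40)]))) (Tr.nd (nat_lit 43) (Tr.lf (Fc.ed (nat_lit 42) (nat_lit 18) Col.a (nat_lit 36) Dv.df))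 (Tr.lf (Fc.ed (nat_lit 43) (nat_lit 18) Col.c (nat_lit 37) Dv.df)))))) (Tr.nd (nat_lit 48) (Tr.nd (nat_lit 46) (Tr.nd (nat_lit 45) (Tr.lf (Fc.ed (nat_lit 44) (nat_lit 37) Col.b (nat_lit 34) (Dv.wd (nat_lit 5) [Mv.b (nat_lit 39), Mv.b (nat_lit 15), Mv.f (nat_lit 0), Mv.f (nat_lit 17), Mv.f (nat_lit 43)]))) (Tr.lf (Fc.ed (nat_lit 45) (nat_lit 19) Col.c (nat_lit 38) Dv.df))) (Tr.nd (nat_lit 47) (Tr.lf (Fc.ed (nat_lit 46) (nat_lit 19) Col.a (nat_lit 39) Dv.df)) (Tr.lf (Fc.ed (nat_lit 47) (nat_lit 39) Col.d (nat_lit 36) (Dv.wd (nat_lit 3) [Mv.b (nat_lit 42), Mv.b (nat_lit 19), Mv.f (nat_lit 46)]))))) (Tr.nd (nat_lit 50) (Tr.nd (nat_lit 49) (Tr.lf (Fc.ed (nat_lit 48) (nat_lit 20) Col.e (nat_lit 40) Dv.df)) (Tr.lf (Fc.ed (nat_lit 49) (nat_lit 40) Col.b (nat_lit 21) (Dv.wd (nat_lit 4) [Mv.b (nat_lit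 21), Mv.f (nat_lit 20), Mv.f (nat_lit 48)])))) (Tr.nd (nat_lit 51) (Tr.lf (Fc.ed (nat_lit 50) (nat_lit 20) Col.c (nat_lit 41) Dv.df)) (Tr.nd (nat_lit 52) (Tr.lf (Fc.ed (nat_lit 51) (nat_lit 41) Col.b (nat_lit 38) (Dv.wd (nat_lit 5) [Mv.b (nat_lit 45), Mv.b (nat_lit 18), Mv.f (nat_lit 2), Mv.f (nat_lit 20), Mv.f (nat_lit 50)]))) (Tr.lf (Fc.ed (nat_lit 52) (nat_lit 22) Col.b (nat_lit 42) Dv.df))))))) (Tr.nd (nat_lit 62) (Tr.nd (nat_lit 57) (Tr.nd (nat_lit 55) (Tr.nd (nat_lit 54) (Tr.lf (Fc.ed (nat_lit 53) (nat_lit 42) Col.d (nat_lit 40) (Dv.wd (nat_lit 0) [Mv.f (nat_lit 49), Mv.b (nat_lit 23), Mv.f (nat_lit 52)]))) (Tr.lf (Fc.ed (nat_lit 54) (nat_lit 42) Col.e (nat_lit 24) (Dv.wd (nat_lit 6) [Mv.b (nat_lit 25), Mv.f (nat_lit 22), Mv.f (nat_lit 52)])))) (Tr.nd (nat_lit 56) (Tr.lf (Fc.ed (nat_lit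 55) (nat_lit 23) Col.b (nat_lit 43) Dv.df)) (Tr.lf (Fc.ed (nat_lit 56) (nat_lit 24) Col.a (nat_lit 44) Dv.df)))) (Tr.nd (nat_lit 59) (Tr.nd (nat_lit 58) (Tr.lf (Fc.ed (nat_lit 57) (nat_lit 25) Col.b (nat_lit 45) Dv.df)) (Tr.lf (Fc.ed (nat_lit 58) (nat_lit 26) Col.b (nat_lit 46) Dv.df))) (Tr.nd (nat_lit 60) (Tr.lf (Fc.ed (nat_lit 59) (nat_lit 46) Col.d (nat_lit 45) (Dv.wd (nat_lit 0) [Mv.b (nat_lit 57), Mv.b (nat_lit 29), Mv.f (nat_lit 58)]))) (Tr.nd (nat_lit 61) (Tr.lf (Fc.ed (nat_lit 60) (nat_lit 27) Col.e (nat_lit 47) Dv.df)) (Tr.lf (Fc.ed (nat_lit 61) (nat_lit 47) Col.b (nat_lit 28) (Dv.wd (nat_lit 4) [Mv.b (nat_lit 31), Mv.f (nat_lit 30), Mv.f (nat_lit 60)]))))))) (Tr.nd (nat_lit 66) (Tr.nd (nat_lit 64) (Tr.nd (nat_lit 63) (Tr.lf (Fc.ed (nat_lit 62) (nat_lit 27) Col.a (nat_lit 48)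 Dv.df)) (Tr.lf (Fc.ed (nat_lit 63) (nat_lit 29) Col.b (nat_lit 49) Dv.df))) (Tr.nd (nat_lit 65) (Tr.lf (Fc.ed (nat_lit 64) (nat_lit 49) Col.d (nat_lit 47) (Dv.wd (nat_lit 0) [Mv.f (nat_lit 61), Mv.b (nat_lit 33), Mv.f (nat_lit 63)]))) (Tr.lf (Fc.ed (nat_lit 65) (nat_lit 49) Col.e (nat_lit 30) (Dv.wd (nat_lit 6) [Mv.b (nat_lit 34), Mv.f (nat_lit 32), Mv.f (nat_lit 63)]))))) (Tr.nd (nat_lit 68) (Tr.nd (nat_lit 67) (Tr.lf (Fc.ed (nat_lit 66) (nat_lit 30) Col.c (nat_lit 50) Dv.df)) (Tr.lf (Fc.ed (nat_lit 67) (nat_lit 31) Col.c (nat_lit 51) Dv.df))) (Tr.nd (nat_lit 69) (Tr.lf (Fc.ed (nat_lit 68) (nat_lit 51) Col.b (nat_lit 50) (Dv.wd (nat_lit 5) [Mv.b (nat_lit 66), Mv.b (nat_lit 34), Mv.f (nat_lit 12), Mv.f (nat_lit 35), Mv.f (nat_lit 67)]))) (Tr.nd (nat_lit 70) (Tr.lf (Fc.ed (nat_lit 69) (nat_lit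 31) Col.e (nat_lit 52) Dv.df)) (Tr.lf (Fc.ed (nat_lit 70) (nat_lit 31) Col.a (nat_lit 53) Dv.df))))))))) (Tr.nd (nat_lit 107) (Tr.nd (nat_lit 89) (Tr.nd (nat_lit 80) (Tr.nd (nat_lit 75) (Tr.nd (nat_lit 73) (Tr.nd (nat_lit 72) (Tr.lf (Fc.ed (nat_lit 71) (nat_lit 32) Col.a (nat_lit 54) Dv.df)) (Tr.lf (Fc.ed (nat_lit 72) (nat_lit 54) Col.d (nat_lit 53) (Dv.wd (nat_lit 3) [Mv.b (nat_lit 70), Mv.b (nat_lit 37), Mv.f (nat_lit 71)])))) (Tr.nd (nat_lit 74) (Tr.lf (Fc.ed (nat_lit 73) (nat_lit 33) Col.e (nat_lit 55) Dv.df)) (Tr.lf (Fc.ed (nat_lit 74) (nat_lit 55) Col.a (nat_lit 35) (Dv.wd (nat_lit 7) [Mv.b (nat_lit 40), Mv.f (nat_lit 38), Mv.f (nat_lit 73)]))))) (Tr.nd (nat_lit 77) (Tr.nd (nat_lit 76) (Tr.lf (Fc.ed (nat_lit 75) (nat_lit 36) Col.b (nat_lit 56) Dv.df)) (Tr.lf (Fc.ed (nat_lit 76) (nat_lit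 36) Col.c (nat_lit 57) Dv.df))) (Tr.nd (nat_lit 78) (Tr.lf (Fc.ed (nat_lit 77) (nat_lit 57) Col.a (nat_lit 37) (Dv.wd (nat_lit 8) [Mv.b (nat_lit 43), Mv.f (nat_lit 42), Mv.f (nat_lit 76)]))) (Tr.nd (nat_lit 79) (Tr.lf (Fc.ed (nat_lit 78) (nat_lit 38) Col.a (nat_lit 58) Dv.df)) (Tr.lf (Fc.ed (nat_lit 79) (nat_lit 58) Col.c (nat_lit 39) (Dv.wd (nat_lit 2) [Mv.b (nat_lit 46), Mv.f (nat_lit 45), Mv.f (nat_lit 78)]))))))) (Tr.nd (nat_lit 84) (Tr.nd (nat_lit 82) (Tr.nd (nat_lit 81) (Tr.lf (Fc.ed (nat_lit 80) (nat_lit 39) Col.b (nat_lit 59) Dv.df)) (Tr.lf (Fc.ed (nat_lit 81) (nat_lit 59) Col.d (nat_lit 56) (Dv.wd (nat_lit 0) [Mv.b (nat_lit 75), Mv.b (nat_lit 47), Mv.f (nat_lit 80)])))) (Tr.nd (nat_lit 83) (Tr.lf (Fc.ed (nat_lit 82) (nat_lit 40) Col.a (nat_lit 60) Dv.df)) (Tr.lf (Fc.ed (nat_lit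 83) (nat_lit 42) Col.a (nat_lit 61) Dv.df)))) (Tr.nd (nat_lit 86) (Tr.nd (nat_lit 85) (Tr.lf (Fc.ed (nat_lit 84) (nat_lit 61) Col.d (nat_lit 60) (Dv.wd (nat_lit 3) [Mv.b (nat_lit 82), Mv.b (nat_lit 53), Mv.f (nat_lit 83)]))) (Tr.lf (Fc.ed (nat_lit 85) (nat_lit 61) Col.e (nat_lit 44) (Dv.wd (nat_lit 9) [Mv.b (nat_lit 56), Mv.b (nat_lit 54), Mv.f (nat_lit 83)])))) (Tr.nd (nat_lit 87) (Tr.lf (Fc.ed (nat_lit 86) (nat_lit 43) Col.a (nat_lit 62) Dv.df)) (Tr.nd (nat_lit 88) (Tr.lf (Fc.ed (nat_lit 87) (nat_lit 43) Col.c (nat_lit 63) Dv.df)) (Tr.lf (Fc.ed (nat_lit 88) (nat_lit 44) Col.b (nat_lit 64) Dv.df))))))) (Tr.nd (nat_lit 98) (Tr.nd (nat_lit 93) (Tr.nd (nat_lit 91) (Tr.nd (nat_lit 90) (Tr.lf (Fc.ed (nat_lit 89) (nat_lit 45) Col.a (nat_lit 65) Dv.df)) (Tr.lf (Fc.ed (nat_lit 90) (nat_lit 45)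 Col.c (nat_lit 66) Dv.df))) (Tr.nd (nat_lit 92) (Tr.lf (Fc.ed (nat_lit 91) (nat_lit 66) Col.b (nat_lit 63) (Dv.wd (nat_lit 5) [Mv.b (nat_lit 87), Mv.b (nat_lit 55), Mv.b (nat_lit 27), Mv.f (nat_lit 57), Mv.f (nat_lit 90)]))) (Tr.lf (Fc.ed (nat_lit 92) (nat_lit 46) Col.a (nat_lit 67) Dv.df)))) (Tr.nd (nat_lit 95) (Tr.nd (nat_lit 94) (Tr.lf (Fc.ed (nat_lit 93) (nat_lit 67) Col.d (nat_lit 65) (Dv.wd (nat_lit 3) [Mv.b (nat_lit 89), Mv.b (nat_lit 59), Mv.f (nat_lit 92)]))) (Tr.lf (Fc.ed (nat_lit 94) (nat_lit 46) Col.c (nat_lit 68) Dv.df))) (Tr.nd (nat_lit 96) (Tr.lf (Fc.ed (nat_lit 95) (nat_lit 47) Col.a (nat_lit 69) Dv.df)) (Tr.nd (nat_lit 97) (Tr.lf (Fc.ed (nat_lit 96) (nat_lit 69) Col.e (nat_lit 48) (Dv.wd (nat_lit 9) [Mv.b (nat_lit 62), Mv.f (nat_lit 60), Mv.f (nat_lit 95)]))) (Tr.lf (Fc.ed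 (nat_lit 97) (nat_lit 49) Col.c (nat_lit 70) Dv.df)))))) (Tr.nd (nat_lit 102) (Tr.nd (nat_lit 100) (Tr.nd (nat_lit 99) (Tr.lf (Fc.ed (nat_lit 98) (nat_lit 70) Col.e (nat_lit 50) (Dv.wd (nat_lit 10) [Mv.b (nat_lit 66), Mv.b (nat_lit 65), Mv.f (nat_lit 97)]))) (Tr.lf (Fc.ed (nat_lit 99) (nat_lit 49) Col.a (nat_lit 71) Dv.df))) (Tr.nd (nat_lit 101) (Tr.lf (Fc.ed (nat_lit 100) (nat_lit 71) Col.d (nat_lit 69) (Dv.wd (nat_lit 3) [Mv.b (nat_lit 95), Mv.b (nat_lit 64), Mv.f (nat_lit 99)]))) (Tr.lf (Fc.ed (nat_lit 101) (nat_lit 51) Col.e (nat_lit 72) Dv.df)))) (Tr.nd (nat_lit 104) (Tr.nd (nat_lit 103) (Tr.lf (Fc.ed (nat_lit 102) (nat_lit 72) Col.b (nat_lit 70) (Dv.wd (nat_lit 4) [Mv.f (nat_lit 98), Mv.b (nat_lit 68), Mv.f (nat_lit 101)]))) (Tr.lf (Fc.ed (nat_lit 103) (nat_lit 72) Col.c (nat_lit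 52) (Dv.wd (nat_lit 11) [Mv.b (nat_lit 69), Mv.f (nat_lit 67), Mv.f (nat_lit 101)])))) (Tr.nd (nat_lit 105) (Tr.lf (Fc.ed (nat_lit 104) (nat_lit 53) Col.b (nat_lit 73) Dv.df)) (Tr.nd (nat_lit 106) (Tr.lf (Fc.ed (nat_lit 105) (nat_lit 54) Col.b (nat_lit 74) Dv.df)) (Tr.lf (Fc.ed (nat_lit 106) (nat_lit 74) Col.d (nat_lit 73) (Dv.wd (nat_lit 0) [Mv.b (nat_lit 104), Mv.b (nat_lit 72), Mv.f (nat_lit 105)]))))))))) (Tr.nd (nat_lit 125) (Tr.nd (nat_lit 116) (Tr.nd (nat_lit 111) (Tr.nd (nat_lit 109) (Tr.nd (nat_lit 108) (Tr.lf (Fc.ed (nat_lit 107) (nat_lit 55) Col.b (nat_lit 75) Dv.df)) (Tr.lf (Fc.ed (nat_lit 108) (nat_lit 56) Col.a (nat_lit 76) Dv.df))) (Tr.nd (nat_lit 110) (Tr.lf (Fc.ed (nat_lit 109) (nat_lit 76) Col.c (nat_lit 75) (Dv.wd (nat_lit 12) [Mv.b (nat_lit 107), Mv.f (nat_lit 74),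 Mv.b (nat_lit 40), Mv.f (nat_lit 39), Mv.b (nat_lit 44), Mv.b (nat_lit 77), Mv.b (nat_lit 76), Mv.f (nat_lit 75), Mv.f (nat_lit 108)]))) (Tr.lf (Fc.ed (nat_lit 110) (nat_lit 59) Col.a (nat_lit 77) Dv.df)))) (Tr.nd (nat_lit 113) (Tr.nd (nat_lit 112) (Tr.lf (Fc.ed (nat_lit 111) (nat_lit 77) Col.d (nat_lit 76) (Dv.wd (nat_lit 3) [Mv.b (nat_lit 108), Mv.b (nat_lit 81), Mv.f (nat_lit 110)]))) (Tr.lf (Fc.ed (nat_lit 112) (nat_lit 60) Col.b (nat_lit 78) Dv.df))) (Tr.nd (nat_lit 114) (Tr.lf (Fc.ed (nat_lit 113) (nat_lit 78) Col.c (nat_lit 77) (Dv.wd (nat_lit 13) [Mv.b (nat_lit 110), Mv.b (nat_lit 80), Mv.b (nat_lit 79), Mv.b (nat_lit 78), Mv.b (nat_lit 51), Mv.b (nat_lit 50), Mv.f (nat_lit 48), Mv.f (nat_lit 82), Mv.f (nat_lit 112)]))) (Tr.nd (nat_lit 115) (Tr.lf (Fc.ed (nat_lit 114) (nat_lit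 61) Col.b (nat_lit 79) Dv.df)) (Tr.lf (Fc.ed (nat_lit 115) (nat_lit 79) Col.d (nat_lit 78) (Dv.wd (nat_lit 0) [Mv.b (nat_lit 112), Mv.b (nat_lit 84), Mv.f (nat_lit 114)]))))))) (Tr.nd (nat_lit 120) (Tr.nd (nat_lit 118) (Tr.nd (nat_lit 117) (Tr.lf (Fc.ed (nat_lit 116) (nat_lit 79) Col.e (nat_lit 64) (Dv.wd (nat_lit 6) [Mv.b (nat_lit 88), Mv.b (nat_lit 85), Mv.f (nat_lit 114)]))) (Tr.lf (Fc.ed (nat_lit 117) (nat_lit 62) Col.c (nat_lit 80) Dv.df))) (Tr.nd (nat_lit 119) (Tr.lf (Fc.ed (nat_lit 118) (nat_lit 80) Col.a (nat_lit 63) (Dv.wd (nat_lit 8) [Mv.b (nat_lit 87), Mv.f (nat_lit 86), Mv.f (nat_lit 117)]))) (Tr.lf (Fc.ed (nat_lit 119) (nat_lit 62) Col.b (nat_lit 81) Dv.df)))) (Tr.nd (nat_lit 122) (Tr.nd (nat_lit 121) (Tr.lf (Fc.ed (nat_lit 120) (nat_lit 81) Col.a (nat_lit 64) (Dv.wd (nat_lit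 14) [Mv.b (nat_lit 88), Mv.b (nat_lit 56), Mv.b (nat_lit 25), Mv.f (nat_lit 24), Mv.f (nat_lit 55), Mv.f (nat_lit 86), Mv.f (nat_lit 119)]))) (Tr.lf (Fc.ed (nat_lit 121) (nat_lit 65) Col.b (nat_lit 82) Dv.df))) (Tr.nd (nat_lit 123) (Tr.lf (Fc.ed (nat_lit 122) (nat_lit 82) Col.c (nat_lit 79) (Dv.wd (nat_lit 15) [Mv.f (nat_lit 116), Mv.b (nat_lit 120), Mv.b (nat_lit 119), Mv.f (nat_lit 117), Mv.f (nat_lit 118), Mv.b (nat_lit 91), Mv.b (nat_lit 90), Mv.f (nat_lit 89), Mv.f (nat_lit 121)]))) (Tr.nd (nat_lit 124) (Tr.lf (Fc.ed (nat_lit 123) (nat_lit 67) Col.c (nat_lit 83) Dv.df)) (Tr.lf (Fc.ed (nat_lit 124) (nat_lit 83) Col.a (nat_lit 68) (Dv.wd (nat_lit 8) [Mv.b (nat_lit 94), Mv.f (nat_lit 92), Mv.f (nat_lit 123)])))))))) (Tr.nd (nat_lit 134) (Tr.nd (nat_lit 129) (Tr.nd (nat_lit 127) (Tr.nd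 (nat_lit 126) (Tr.lf (Fc.ed (nat_lit 125) (nat_lit 67) Col.b (nat_lit 84) Dv.df)) (Tr.lf (Fc.ed (nat_lit 126) (nat_lit 84) Col.d (nat_lit 82) (Dv.wd (nat_lit 0) [Mv.b (nat_lit 121), Mv.b (nat_lit 93), Mv.f (nat_lit 125)])))) (Tr.nd (nat_lit 128) (Tr.lf (Fc.ed (nat_lit 127) (nat_lit 69) Col.c (nat_lit 85) Dv.df)) (Tr.lf (Fc.ed (nat_lit 128) (nat_lit 85) Col.b (nat_lit 83) (Dv.wd (nat_lit 16) [Mv.f (nat_lit 124), Mv.b (nat_lit 94), Mv.b (nat_lit 58), Mv.b (nat_lit 28), Mv.f (nat_lit 8), Mv.f (nat_lit 30), Mv.f (nat_lit 62), Mv.b (nat_lit 96), Mv.f (nat_lit 127)]))))) (Tr.nd (nat_lit 131) (Tr.nd (nat_lit 130) (Tr.lf (Fc.ed (nat_lit 129) (nat_lit 69) Col.b (nat_lit 86) Dv.df)) (Tr.lf (Fc.ed (nat_lit 130) (nat_lit 86) Col.c (nat_lit 84) (Dv.wd (nat_lit 17) [Mv.b (nat_lit 125), Mv.f (nat_lit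 123), Mv.b (nat_lit 128), Mv.b (nat_lit 127), Mv.f (nat_lit 129)])))) (Tr.nd (nat_lit 132) (Tr.lf (Fc.ed (nat_lit 131) (nat_lit 70) Col.a (nat_lit 87) Dv.df)) (Tr.nd (nat_lit 133) (Tr.lf (Fc.ed (nat_lit 132) (nat_lit 87) Col.c (nat_lit 71) (Dv.wd (nat_lit 2) [Mv.b (nat_lit 99), Mv.f (nat_lit 97), Mv.f (nat_lit 131)]))) (Tr.lf (Fc.ed (nat_lit 133) (nat_lit 71) Col.b (nat_lit 88) Dv.df)))))) (Tr.nd (nat_lit 138) (Tr.nd (nat_lit 136) (Tr.nd (nat_lit 135) (Tr.lf (Fc.ed (nat_lit 134) (nat_lit 88) Col.d (nat_lit 86) (Dv.wd (nat_lit 0) [Mv.b (nat_lit 129), Mv.b (nat_lit 100), Mv.f (nat_lit 133)]))) (Tr.lf (Fc.ed (nat_lit 135) (nat_lit 73) Col.c (nat_lit 89) Dv.df))) (Tr.nd (nat_lit 137) (Tr.lf (Fc.ed (nat_lit 136) (nat_lit 89) Col.a (nat_lit 88) (Dv.wd (nat_lit 18) [Mv.b (nat_lit 133), Mv.b (nat_lit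 132), Mv.b (nat_lit 131), Mv.b (nat_lit 102), Mv.f (nat_lit 103), Mv.b (nat_lit 69), Mv.f (nat_lit 70), Mv.f (nat_lit 104), Mv.f (nat_lit 135)]))) (Tr.lf (Fc.al (nat_lit 137) (nat_lit 75) (nat_lit 74) (Dv.wd (nat_lit 19) [Mv.f (nat_lit 106), Mv.f (nat_lit 135), Mv.f (nat_lit 136), Mv.f (nat_lit 134), Mv.f (nat_lit 130), Mv.f (nat_lit 126), Mv.f (nat_lit 122), Mv.f (nat_lit 115), Mv.f (nat_lit 113), Mv.f (nat_lit 111), Mv.f (nat_lit 109)]))))) (Tr.nd (nat_lit 140) (Tr.nd (nat_lit 139) (Tr.lf (Fc.al (nat_lit 138) (nat_lit 54) (nat_lit 55) (Dv.wd (nat_lit 20) [Mv.f (nat_lit 107), Mv.f (nat_lit 137), Mv.b (nat_lit 105)]))) (Tr.lf (Fc.al (nat_lit 139) (nat_lit 32) (nat_lit 35) (Dv.wd (nat_lit 21) [Mv.b (nat_lit 74), Mv.b (nat_lit 138), Mv.b (nat_lit 71)])))) (Tr.nd (nat_lit 141) (Tr.lf (Fc.al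 (nat_lit 140) (nat_lit 14) (nat_lit 17) (Dv.wd (nat_lit 20) [Mv.b (nat_lit 41), Mv.b (nat_lit 139), Mv.b (nat_lit 36)]))) (Tr.nd (nat_lit 142) (Tr.lf (Fc.al (nat_lit 141) (nat_lit 15) (nat_lit 0) (Dv.wd (nat_lit 22) [Mv.f (nat_lit 16), Mv.b (nat_lit 140), Mv.f (nat_lit 14)]))) (Tr.lf (Fc.ed (nat_lit 142) (nat_lit 0) Col.e (nat_lit 14) (Dv.wd (nat_lit 22) [Mv.f (nat_lit 14), Mv.f (nat_lit 141)])))))))))))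
noncomputable def mini0A : Tr (Alt Col) := (Tr.nd (nat_lit 11) (Tr.nd (nat_lit 5) (Tr.nd (nat_lit 2) (Tr.nd (nat_lit 1) (Tr.lf (Alt.word (nat_lit 7) (nat_lit 2) true [Col.d, Col.b, Col.d, Col.b])) (Tr.lf (Alt.word (nat_lit 13) (nat_lit 1) true [Col.d, Col.e, Col.d, Col.e, Col.d, Col.e]))) (Tr.nd (nat_lit 3) (Tr.lf (Alt.word (nat_lit 2) (nat_lit 2) true [Col.c, Col.a, Col.c, Col.a])) (Tr.nd (nat_lit 4) (Tr.lf (Alt.word (nat_lit 3) (nat_lit 2) true [Col.d, Col.a, Col.d, Col.a])) (Tr.lf (Alt.word (nat_lit 8) (nat_lit 1) true [Col.b, Col.e, Col.b, Col.e]))))) (Tr.nd (nat_lit 8) (Tr.nd (nat_lit 6) (Tr.lf (Alt.word (nat_lit 6) (nat_lit 1) true [Col.b, Col.c, Col.b, Col.c, Col.b, Col.c])) (Tr.nd (nat_lit 7) (Tr.lf (Alt.word (nat_lit 8) (nat_lit 2) true [Col.e, Col.b, Col.e, Col.b])) (Tr.lf (Alt.word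 (nat_lit 4) (nat_lit 1) true [Col.a, Col.e, Col.a, Col.e])))) (Tr.nd (nat_lit 9) (Tr.lf (Alt.word (nat_lit 2) (nat_lit 1) true [Col.a, Col.c, Col.a, Col.c])) (Tr.nd (nat_lit 10) (Tr.lf (Alt.word (nat_lit 4) (nat_lit 2) true [Col.e, Col.a, Col.e, Col.a])) (Tr.lf (Alt.word (nat_lit 11) (nat_lit 2) true [Col.e, Col.c, Col.e, Col.c])))))) (Tr.nd (nat_lit 17) (Tr.nd (nat_lit 14) (Tr.nd (nat_lit 12) (Tr.lf (Alt.word (nat_lit 11) (nat_lit 1) true [Col.c, Col.e, Col.c, Col.e])) (Tr.nd (nat_lit 13) (Tr.lf (Alt.word (nat_lit 15) (nat_lit 7) false [Col.c, Col.b, Col.a, Col.e, Col.c, Col.b, Col.a, Col.c, Col.b, Col.a])) (Tr.lf (Alt.word (nat_lit 15) (nat_lit 2) true [Col.c, Col.a, Col.b, Col.c, Col.a, Col.b, Col.c, Col.e, Col.a, Col.b])))) (Tr.nd (nat_lit 15) (Tr.lf (Alt.word (nat_lit 1) (nat_lit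 1) true [Col.a, Col.b, Col.a, Col.b, Col.a, Col.b, Col.a, Col.b])) (Tr.nd (nat_lit 16) (Tr.lf (Alt.word (nat_lit 15) (nat_lit 8) true [Col.c, Col.e, Col.a, Col.b, Col.c, Col.a, Col.b, Col.c, Col.a, Col.b])) (Tr.lf (Alt.word (nat_lit 15) (nat_lit 2) false [Col.b, Col.a, Col.c, Col.b, Col.a, Col.c, Col.b, Col.a, Col.e, Col.c]))))) (Tr.nd (nat_lit 20) (Tr.nd (nat_lit 18) (Tr.lf (Alt.word (nat_lit 6) (nat_lit 2) true [Col.c, Col.b, Col.c, Col.b, Col.c, Col.b])) (Tr.nd (nat_lit 19) (Tr.lf (Alt.word (nat_lit 15) (nat_lit 3) true [Col.a, Col.b, Col.c, Col.a, Col.b, Col.c, Col.e, Col.a, Col.b, Col.c])) (Tr.lf (Alt.word (nat_lit 16) (nat_lit 9) false [Col.d, Col.c, Col.a, Col.d, Col.c, Col.d, Col.c, Col.d, Col.c, Col.d, Col.c])))) (Tr.nd (nat_lit 21) (Tr.lf (Alt.word (nat_lit 5) (nat_lit 0) true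 [Col.b, Col.b])) (Tr.nd (nat_lit 22) (Tr.lf (Alt.word (nat_lit 0) (nat_lit 0) true [Col.a, Col.a])) (Tr.lf (Alt.word (nat_lit 14) (nat_lit 0) true [Col.e, Col.e])))))))
noncomputable def mini0P : Tr ℕ := (Tr.nd (nat_lit 45) (Tr.nd (nat_lit 22) (Tr.nd (nat_lit 11) (Tr.nd (nat_lit 5) (Tr.nd (nat_lit 2) (Tr.nd (nat_lit 1) (Tr.lf (nat_lit 0)) (Tr.lf (nat_lit 0))) (Tr.nd (nat_lit 3) (Tr.lf (nat_lit 1)) (Tr.nd (nat_lit 4) (Tr.lf (nat_lit 2)) (Tr.lf (nat_lit 3))))) (Tr.nd (nat_lit 8) (Tr.nd (nat_lit 6) (Tr.lf (nat_lit 4)) (Tr.nd (nat_lit 7) (Tr.lf (nat_lit 5)) (Tr.lf (nat_lit 6)))) (Tr.nd (nat_lit 9) (Tr.lf (nat_lit 7)) (Tr.nd (nat_lit 10) (Tr.lf (nat_lit 8)) (Tr.lf (nat_lit 9)))))) (Tr.nd (nat_lit 16) (Tr.nd (nat_lit 13) (Tr.nd (nat_lit 12) (Tr.lf (nat_lit 10)) (Tr.lf (nat_lit 11))) (Tr.nd (nat_lit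 14) (Tr.lf (nat_lit 12)) (Tr.nd (nat_lit 15) (Tr.lf (nat_lit 13)) (Tr.lf (nat_lit 14))))) (Tr.nd (nat_lit 19) (Tr.nd (nat_lit 17) (Tr.lf (nat_lit 0)) (Tr.nd (nat_lit 18) (Tr.lf (nat_lit 0)) (Tr.lf (nat_lit 1)))) (Tr.nd (nat_lit 20) (Tr.lf (nat_lit 2)) (Tr.nd (nat_lit 21) (Tr.lf (nat_lit 3)) (Tr.lf (nat_lit 3))))))) (Tr.nd (nat_lit 33) (Tr.nd (nat_lit 27) (Tr.nd (nat_lit 24) (Tr.nd (nat_lit 23) (Tr.lf (nat_lit 6)) (Tr.lf (nat_lit 6))) (Tr.nd (nat_lit 25) (Tr.lf (nat_lit 6)) (Tr.nd (nat_lit 26) (Tr.lf (nat_lit 7)) (Tr.lf (nat_lit 8))))) (Tr.nd (nat_lit 30) (Tr.nd (nat_lit 28) (Tr.lf (nat_lit 9)) (Tr.nd (nat_lit 29) (Tr.lf (nat_lit 9)) (Tr.lf (nat_lit 12)))) (Tr.nd (nat_lit 31) (Tr.lf (nat_lit 12)) (Tr.nd (nat_lit 32) (Tr.lf (nat_lit 13)) (Tr.lf (nat_lit 14)))))) (Tr.nd (nat_lit 39) (Tr.nd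 (nat_lit 36) (Tr.nd (nat_lit 34) (Tr.lf (nat_lit 16)) (Tr.nd (nat_lit 35) (Tr.lf (nat_lit 16)) (Tr.lf (nat_lit 16)))) (Tr.nd (nat_lit 37) (Tr.lf (nat_lit 18)) (Tr.nd (nat_lit 38) (Tr.lf (nat_lit 18)) (Tr.lf (nat_lit 19))))) (Tr.nd (nat_lit 42) (Tr.nd (nat_lit 40) (Tr.lf (nat_lit 19)) (Tr.nd (nat_lit 41) (Tr.lf (nat_lit 20)) (Tr.lf (nat_lit 20)))) (Tr.nd (nat_lit 43) (Tr.lf (nat_lit 22)) (Tr.nd (nat_lit 44) (Tr.lf (nat_lit 23)) (Tr.lf (nat_lit 24)))))))) (Tr.nd (nat_lit 67) (Tr.nd (nat_lit 56) (Tr.nd (nat_lit 50) (Tr.nd (nat_lit 47) (Tr.nd (nat_lit 46) (Tr.lf (nat_lit 25)) (Tr.lf (nat_lit 26))) (Tr.nd (nat_lit 48) (Tr.lf (nat_lit 27)) (Tr.nd (nat_lit 49) (Tr.lf (nat_lit 27)) (Tr.lf (nat_lit 29))))) (Tr.nd (nat_lit 53) (Tr.nd (nat_lit 51) (Tr.lf (nat_lit 30)) (Tr.nd (nat_lit 52) (Tr.lf (nat_lit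 31)) (Tr.lf (nat_lit 31)))) (Tr.nd (nat_lit 54) (Tr.lf (nat_lit 31)) (Tr.nd (nat_lit 55) (Tr.lf (nat_lit 32)) (Tr.lf (nat_lit 33)))))) (Tr.nd (nat_lit 61) (Tr.nd (nat_lit 58) (Tr.nd (nat_lit 57) (Tr.lf (nat_lit 36)) (Tr.lf (nat_lit 36))) (Tr.nd (nat_lit 59) (Tr.lf (nat_lit 38)) (Tr.nd (nat_lit 60) (Tr.lf (nat_lit 39)) (Tr.lf (nat_lit 40))))) (Tr.nd (nat_lit 64) (Tr.nd (nat_lit 62) (Tr.lf (nat_lit 42)) (Tr.nd (nat_lit 63) (Tr.lf (nat_lit 43)) (Tr.lf (nat_lit 43)))) (Tr.nd (nat_lit 65) (Tr.lf (nat_lit 44)) (Tr.nd (nat_lit 66) (Tr.lf (nat_lit 45)) (Tr.lf (nat_lit 45))))))) (Tr.nd (nat_lit 78) (Tr.nd (nat_lit 72) (Tr.nd (nat_lit 69) (Tr.nd (nat_lit 68) (Tr.lf (nat_lit 46)) (Tr.lf (nat_lit 46))) (Tr.nd (nat_lit 70) (Tr.lf (nat_lit 47)) (Tr.nd (nat_lit 71) (Tr.lf (nat_lit 49)) (Tr.lf (nat_lit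 49))))) (Tr.nd (nat_lit 75) (Tr.nd (nat_lit 73) (Tr.lf (nat_lit 51)) (Tr.nd (nat_lit 74) (Tr.lf (nat_lit 53)) (Tr.lf (nat_lit 54)))) (Tr.nd (nat_lit 76) (Tr.lf (nat_lit 55)) (Tr.nd (nat_lit 77) (Tr.lf (nat_lit 56)) (Tr.lf (nat_lit 59)))))) (Tr.nd (nat_lit 84) (Tr.nd (nat_lit 81) (Tr.nd (nat_lit 79) (Tr.lf (nat_lit 60)) (Tr.nd (nat_lit 80) (Tr.lf (nat_lit 61)) (Tr.lf (nat_lit 62)))) (Tr.nd (nat_lit 82) (Tr.lf (nat_lit 62)) (Tr.nd (nat_lit 83) (Tr.lf (nat_lit 65)) (Tr.lf (nat_lit 67))))) (Tr.nd (nat_lit 87) (Tr.nd (nat_lit 85) (Tr.lf (nat_lit 67)) (Tr.nd (nat_lit 86) (Tr.lf (nat_lit 69)) (Tr.lf (nat_lit 69)))) (Tr.nd (nat_lit 88) (Tr.lf (nat_lit 70)) (Tr.nd (nat_lit 89) (Tr.lf (nat_lit 71)) (Tr.lf (nat_lit 73)))))))))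
noncomputable def mini0Q : Tr ℕ := (Tr.nd (nat_lit 45) (Tr.nd (nat_lit 22) (Tr.nd (nat_lit 11) (Tr.nd (nat_lit 5) (Tr.nd (nat_lit 2) (Tr.nd (nat_lit 1) (Tr.lf (nat_lit 0)) (Tr.lf (nat_lit 2))) (Tr.nd (nat_lit 3) (Tr.lf (nat_lit 3)) (Tr.nd (nat_lit 4) (Tr.lf (nat_lit 2)) (Tr.lf (nat_lit 3))))) (Tr.nd (nat_lit 8) (Tr.nd (nat_lit 6) (Tr.lf (nat_lit 4)) (Tr.nd (nat_lit 7) (Tr.lf (nat_lit 3)) (Tr.lf (nat_lit 2)))) (Tr.nd (nat_lit 9) (Tr.lf (nat_lit 3)) (Tr.nd (nat_lit 10) (Tr.lf (nat_lit 2)) (Tr.lf (nat_lit 3)))))) (Tr.nd (nat_lit 16) (Tr.nd (nat_lit 13) (Tr.nd (nat_lit 12) (Tr.lf (nat_lit 4)) (Tr.lf (nat_lit 3))) (Tr.nd (nat_lit 14) (Tr.lf (nat_lit 2)) (Tr.nd (nat_lit 15) (Tr.lf (nat_lit 3)) (Tr.lf (nat_lit 4))))) (Tr.nd (nat_lit 19) (Tr.nd (nat_lit 17) (Tr.lf (nat_lit 1)) (Tr.nd (nat_lit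 18) (Tr.lf (nat_lit 4)) (Tr.lf (nat_lit 1)))) (Tr.nd (nat_lit 20) (Tr.lf (nat_lit 1)) (Tr.nd (nat_lit 21) (Tr.lf (nat_lit 1)) (Tr.lf (nat_lit 4))))))) (Tr.nd (nat_lit 33) (Tr.nd (nat_lit 27) (Tr.nd (nat_lit 24) (Tr.nd (nat_lit 23) (Tr.lf (nat_lit 4)) (Tr.lf (nat_lit 0))) (Tr.nd (nat_lit 25) (Tr.lf (nat_lit 1)) (Tr.nd (nat_lit 26) (Tr.lf (nat_lit 0)) (Tr.lf (nat_lit 0))))) (Tr.nd (nat_lit 30) (Tr.nd (nat_lit 28) (Tr.lf (nat_lit 1)) (Tr.nd (nat_lit 29) (Tr.lf (nat_lit 4)) (Tr.lf (nat_lit 4)))) (Tr.nd (nat_lit 31) (Tr.lf (nat_lit 1)) (Tr.nd (nat_lit 32) (Tr.lf (nat_lit 1)) (Tr.lf (nat_lit 1)))))) (Tr.nd (nat_lit 39) (Tr.nd (nat_lit 36) (Tr.nd (nat_lit 34) (Tr.lf (nat_lit 0)) (Tr.nd (nat_lit 35) (Tr.lf (nat_lit 2)) (Tr.lf (nat_lit 4)))) (Tr.nd (nat_lit 37) (Tr.lf (nat_lit 0)) (Tr.nd (nat_lit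 38) (Tr.lf (nat_lit 2)) (Tr.lf (nat_lit 2))))) (Tr.nd (nat_lit 42) (Tr.nd (nat_lit 40) (Tr.lf (nat_lit 0)) (Tr.nd (nat_lit 41) (Tr.lf (nat_lit 4)) (Tr.lf (nat_lit 2)))) (Tr.nd (nat_lit 43) (Tr.lf (nat_lit 1)) (Tr.nd (nat_lit 44) (Tr.lf (nat_lit 1)) (Tr.lf (nat_lit 0)))))))) (Tr.nd (nat_lit 67) (Tr.nd (nat_lit 56) (Tr.nd (nat_lit 50) (Tr.nd (nat_lit 47) (Tr.nd (nat_lit 46) (Tr.lf (nat_lit 1)) (Tr.lf (nat_lit 1))) (Tr.nd (nat_lit 48) (Tr.lf (nat_lit 4)) (Tr.nd (nat_lit 49) (Tr.lf (nat_lit 0)) (Tr.lf (nat_lit 1))))) (Tr.nd (nat_lit 53) (Tr.nd (nat_lit 51) (Tr.lf (nat_lit 2)) (Tr.nd (nat_lit 52) (Tr.lf (nat_lit 2)) (Tr.lf (nat_lit 4)))) (Tr.nd (nat_lit 54) (Tr.lf (nat_lit 0)) (Tr.nd (nat_lit 55) (Tr.lf (nat_lit 0)) (Tr.lf (nat_lit 4)))))) (Tr.nd (nat_lit 61) (Tr.nd (nat_lit 58) (Tr.nd (nat_lit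 57) (Tr.lf (nat_lit 1)) (Tr.lf (nat_lit 2))) (Tr.nd (nat_lit 59) (Tr.lf (nat_lit 0)) (Tr.nd (nat_lit 60) (Tr.lf (nat_lit 1)) (Tr.lf (nat_lit 0))))) (Tr.nd (nat_lit 64) (Tr.nd (nat_lit 62) (Tr.lf (nat_lit 0)) (Tr.nd (nat_lit 63) (Tr.lf (nat_lit 0)) (Tr.lf (nat_lit 2)))) (Tr.nd (nat_lit 65) (Tr.lf (nat_lit 1)) (Tr.nd (nat_lit 66) (Tr.lf (nat_lit 0)) (Tr.lf (nat_lit 2))))))) (Tr.nd (nat_lit 78) (Tr.nd (nat_lit 72) (Tr.nd (nat_lit 69) (Tr.nd (nat_lit 68) (Tr.lf (nat_lit 0)) (Tr.lf (nat_lit 2))) (Tr.nd (nat_lit 70) (Tr.lf (nat_lit 0)) (Tr.nd (nat_lit 71) (Tr.lf (nat_lit 2)) (Tr.lf (nat_lit 0))))) (Tr.nd (nat_lit 75) (Tr.nd (nat_lit 73) (Tr.lf (nat_lit 4)) (Tr.nd (nat_lit 74) (Tr.lf (nat_lit 1)) (Tr.lf (nat_lit 1)))) (Tr.nd (nat_lit 76) (Tr.lf (nat_lit 1)) (Tr.nd (nat_lit 77) (Tr.lf (nat_lit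 0)) (Tr.lf (nat_lit 0)))))) (Tr.nd (nat_lit 84) (Tr.nd (nat_lit 81) (Tr.nd (nat_lit 79) (Tr.lf (nat_lit 1)) (Tr.nd (nat_lit 80) (Tr.lf (nat_lit 1)) (Tr.lf (nat_lit 2)))) (Tr.nd (nat_lit 82) (Tr.lf (nat_lit 1)) (Tr.nd (nat_lit 83) (Tr.lf (nat_lit 1)) (Tr.lf (nat_lit 2))))) (Tr.nd (nat_lit 87) (Tr.nd (nat_lit 85) (Tr.lf (nat_lit 1)) (Tr.nd (nat_lit 86) (Tr.lf (nat_lit 2)) (Tr.lf (nat_lit 1)))) (Tr.nd (nat_lit 88) (Tr.lf (nat_lit 0)) (Tr.nd (nat_lit 89) (Tr.lf (nat_lit 1)) (Tr.lf (nat_lit 2)))))))))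
theorem mini0_alt : Tr.all (altChk idx inv RW (SW0)) mini0A = true := by decide +kernel
theorem mini0_chk : Tr.all (chkFc idx inv mini0S mini0A (fun b => Tr.find b mini0P) (fun b => Tr.find b mini0Q)) mini0S = true := by decide +kernel
theorem mini0_run : runM idx inv mini0S 143 0 [Mv.f (nat_lit 0), Mv.f (nat_lit 1), Mv.f (nat_lit 2), Mv.f (nat_lit 3), Mv.f (nat_lit 4), Mv.f (nat_lit 5), Mv.f (nat_lit 6), Mv.f (nat_lit 7), Mv.f (nat_lit 8), Mv.f (nat_lit 9), Mv.f (nat_lit 10), Mv.f (nat_lit 11), Mv.f (nat_lit 12), Mv.f (nat_lit 13), Mv.b (nat_lit 142)] [Col.c, Col.d, Col.c, Col.d, Col.e, Col.d, Col.c, Col.d, Col.c, Col.d, Col.e, Col.d, Col.c, Col.d, Col.e] 0 = true := by decide +kernel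
theorem mini0_fix {G X : Type*} [Group G] [MulAction G X] (g : Col → G) (x0 : X) (hinv : ∀ c, g (inv c) = (g c)⁻¹)
    (hRW : ∀ w ∈ RW, gw g w = 1) (hSW : ∀ w ∈ SW0, gw g w • x0 = x0) : gw g [Col.c, Col.d, Col.c, Col.d, Col.e, Col.d, Col.c, Col.d, Col.c, Col.d, Col.e, Col.d, Col.c, Col.d, Col.e] • x0 = x0 :=
  mini_sound g x0 dec hdec hinv
    (fun a ha => altChk_sound g x0 dec hdec hinv hRW hSW ((Tr.all_iff _ _).1 mini0_alt a ha)) mini0_chk mini0_run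
theorem words_thm {G X : Type*} [Group G] [MulAction G X] (g : Col → G) (x0 : X) (hinv : ∀ c, g (inv c) = (g c)⁻¹)
    (hRW : ∀ w ∈ RW, gw g w = 1) (hSW : ∀ w ∈ SW0, gw g w • x0 = x0) : ∀ w ∈ SW1, gw g w • x0 = x0 := by
  have hSW1 : ∀ w ∈ SW1, gw g w • x0 = x0 := by
    have h := mini0_fix g x0 hinv hRW hSW
    intro w hw; unfold SW1 at hw; rw [List.mem_append, List.mem_singleton] at hw
    rcases hw with hw | rfl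
    · exact hSW w hw
    · exact h
  exact hSW1
theorem words_one {G : Type*} [Group G] (g : Col → G) (hinv : ∀ c, g (inv c) = (g c)⁻¹)
    (hRW : ∀ w ∈ RW, gw g w = 1) : ∀ w ∈ SW1, gw g w = 1 := by
  intro w hw
  have h := words_thm g (1 : G) hinv hRW (fun w hw => absurd hw (by simp [SW0])) w hw
  rwa [smul_eq_mul, mul_one] at h
theorem words_pres {G : Type*} [Group G] {f : He.Gen → G} (hs : Sat He.edges He.extra f) :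
    ∀ w ∈ SW1, gw (TCG_He.Pc f) (w.map emb) = 1 := by
  intro w hw
  rw [gw_map]
  exact words_one (Pc f) (Pc_inv hs) (Pc_RW hs) w hw
end CfsgLib.TCHeW
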