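import Cfsg.Agent.EqBase
import Cfsg.Agent.LibTCHebW
import Cfsg.Agent.LibTCHebN0
import Cfsg.Agent.LibTCHebN1
import Cfsg.Agent.LibTCHebN2
set_option autoImplicit false
set_option linter.all false
set_option maxRecDepth 1000000
set_option maxHeartbeats 0
namespace CfsgLib.TCHeb
open CfsgLib.TC Cfsg.Spor CfsgLib.TCG_He
noncomputable def ms0 : List ℕ := []
noncomputable def ms1 : List ℕ := (nat_lit 0x1000000) :: ms0
noncomputable def ms2 : List ℕ := (nat_lit 0x1000000000000) :: ms1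
noncomputable def ms3 : List ℕ := (nat_lit 0x1000000000000000000000000) :: ms2
noncomputable def ms4 : List ℕ := (nat_lit 0x1000000000000000000000000000000000000000000000000) :: ms3
noncomputable def ms5 : List ℕ := (nat_lit 0x1000000000000000000000000000000000000000000000000000000000000000000000000000000000000000000000000) :: ms4
noncomputable def ms6 : List ℕ := (nat_lit 0x1000000000000000000000000000000000000000000000000000000000000000000000000000000000000000000000000000000000000000000000000000000000000000000000000000000000000000000000000000000000000000000000000) :: ms5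
noncomputable def ms7 : List ℕ := (nat_lit 0x1000000000000000000000000000000000000000000000000000000000000000000000000000000000000000000000000000000000000000000000000000000000000000000000000000000000000000000000000000000000000000000000000000000000000000000000000000000000000000000000000000000000000000000000000000000000000000000000000000000000000000000000000000000000000000000000000000000000000000000000000000000000000000000000000) :: ms6
noncomputable def ms8 : List ℕ := (nat_lit 0x1000000000000000000000000000000000000000000000000000000000000000000000000000000000000000000000000000000000000000000000000000000000000000000000000000000000000000000000000000000000000000000000000000000000000000000000000000000000000000000000000000000000000000000000000000000000000000000000000000000000000000000000000000000000000000000000000000000000000000000000000000000000000000000000000000000000000000000000000000000000000000000000000000000000000000000000000000000000000000000000000000000000000000000000000000000000000000000000000000000000000000000000000000000000000000000000000000000000000000000000000000000000000000000000000000000000000000000000000000000000000000000000000000000000000000000000000000000000000000000000000000000000000000000000000000000000000000000000000)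 :: ms7
noncomputable def ms9 : List ℕ := (nat_lit 0x1000000000000000000000000000000000000000000000000000000000000000000000000000000000000000000000000000000000000000000000000000000000000000000000000000000000000000000000000000000000000000000000000000000000000000000000000000000000000000000000000000000000000000000000000000000000000000000000000000000000000000000000000000000000000000000000000000000000000000000000000000000000000000000000000000000000000000000000000000000000000000000000000000000000000000000000000000000000000000000000000000000000000000000000000000000000000000000000000000000000000000000000000000000000000000000000000000000000000000000000000000000000000000000000000000000000000000000000000000000000000000000000000000000000000000000000000000000000000000000000000000000000000000000000000000000000000000000000000000000000000000000000000000000000000000000000000000000000000000000000000000000000000000000000000000000000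000000000000000000000000000000000000000000000000000000000000000000000000000000000000000000000000000000000000000000000000000000000000000000000000000000000000000000000000000000000000000000000000000000000000000000000000000000000000000000000000000000000000000000000000000000000000000000000000000000000000000000000000000000000000000000000000000000000000000000000000000000000000000000000000000000000000000000000000000000000000000000000000000000000000000000000000000000000000000000000000000000000000000000000000000000000000000000000000000000000000000000000000000000000000000000000000000000000000000000000000000000000000000000000000000000000000000000000000000000000000000) :: ms8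
noncomputable def ms10 : List ℕ := (nat_lit 0x1000000000000000000000000000000000000000000000000000000000000000000000000000000000000000000000000000000000000000000000000000000000000000000000000000000000000000000000000000000000000000000000000000000000000000000000000000000000000000000000000000000000000000000000000000000000000000000000000000000000000000000000000000000000000000000000000000000000000000000000000000000000000000000000000000000000000000000000000000000000000000000000000000000000000000000000000000000000000000000000000000000000000000000000000000000000000000000000000000000000000000000000000000000000000000000000000000000000000000000000000000000000000000000000000000000000000000000000000000000000000000000000000000000000000000000000000000000000000000000000000000000000000000000000000000000000000000000000000000000000000000000000000000000000000000000000000000000000000000000000000000000000000000000000000000000000000000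000000000000000000000000000000000000000000000000000000000000000000000000000000000000000000000000000000000000000000000000000000000000000000000000000000000000000000000000000000000000000000000000000000000000000000000000000000000000000000000000000000000000000000000000000000000000000000000000000000000000000000000000000000000000000000000000000000000000000000000000000000000000000000000000000000000000000000000000000000000000000000000000000000000000000000000000000000000000000000000000000000000000000000000000000000000000000000000000000000000000000000000000000000000000000000000000000000000000000000000000000000000000000000000000000000000000000000000000000000000000000000000000000000000000000000000000000000000000000000000000000000000000000000000000000000000000000000000000000000000000000000000000000000000000000000000000000000000000000000000000000000000000000000000000000000000000000000000000000000000000000000000000000000000000000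000000000000000000000000000000000000000000000000000000000000000000000000000000000000000000000000000000000000000000000000000000000000000000000000000000000000000000000000000000000000000000000000000000000000000000000000000000000000000000000000000000000000000000000000000000000000000000000000000000000000000000000000000000000000000000000000000000000000000000000000000000000000000000000000000000000000000000000000000000000000000000000000000000000000000000000000000000000000000000000000000000000000000000000000000000000000000000000000000000000000000000000000000000000000000000000000000000000000000000000000000000000000000000000000000000000000000000000000000000000000000000000000000000000000000000000000000000000000000000000000000000000000000000000000000000000000000000000000000000000000000000000000000000000000000000000000000000000000000000000000000000000000000000000000000000000000000000000000000000000000000000000000000000000000000000000000000000000000000000000000000000000000000000000000000000000000000000000000000000000000000000000000000000000000000000000000000000000000000000000000000000000000000000000000000000000000000000000000000000000000000000000000000000000000000000000000000000000000000000000000000000000000000000000000000000000000000000000000000000000000000000)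 :: ms9
noncomputable def ms11 : List ℕ := (nat_lit 0x100000000000000000000000000000000000000000000000000000000000000000000000000000000000000000000000000000000000000000000000000000000000000000000000000000000000000000000000000000000000000000000000000000000000000000000000000000000000000000000000000000000000000000000000000000000000000000000000000000000000000000000000000000000000000000000000000000000000000000000000000000000000000000000000000000000000000000000000000000000000000000000000000000000000000000000000000000000000000000000000000000000000000000000000000000000000000000000000000000000000000000000000000000000000000000000000000000000000000000000000000000000000000000000000000000000000000000000000000000000000000000000000000000000000000000000000000000000000000000000000000000000000000000000000000000000000000000000000000000000000000000000000000000000000000000000000000000000000000000000000000000000000000000000000000000000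000000000000000000000000000000000000000000000000000000000000000000000000000000000000000000000000000000000000000000000000000000000000000000000000000000000000000000000000000000000000000000000000000000000000000000000000000000000000000000000000000000000000000000000000000000000000000000000000000000000000000000000000000000000000000000000000000000000000000000000000000000000000000000000000000000000000000000000000000000000000000000000000000000000000000000000000000000000000000000000000000000000000000000000000000000000000000000000000000000000000000000000000000000000000000000000000000000000000000000000000000000000000000000000000000000000000000000000000000000000000000000000000000000000000000000000000000000000000000000000000000000000000000000000000000000000000000000000000000000000000000000000000000000000000000000000000000000000000000000000000000000000000000000000000000000000000000000000000000000000000000000000000000000000000000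000000000000000000000000000000000000000000000000000000000000000000000000000000000000000000000000000000000000000000000000000000000000000000000000000000000000000000000000000000000000000000000000000000000000000000000000000000000000000000000000000000000000000000000000000000000000000000000000000000000000000000000000000000000000000000000000000000000000000000000000000000000000000000000000000000000000000000000000000000000000000000000000000000000000000000000000000000000000000000000000000000000000000000000000000000000000000000000000000000000000000000000000000000000000000000000000000000000000000000000000000000000000000000000000000000000000000000000000000000000000000000000000000000000000000000000000000000000000000000000000000000000000000000000000000000000000000000000000000000000000000000000000000000000000000000000000000000000000000000000000000000000000000000000000000000000000000000000000000000000000000000000000000000000000000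000000000000000000000000000000000000000000000000000000000000000000000000000000000000000000000000000000000000000000000000000000000000000000000000000000000000000000000000000000000000000000000000000000000000000000000000000000000000000000000000000000000000000000000000000000000000000000000000000000000000000000000000000000000000000000000000000000000000000000000000000000000000000000000000000000000000000000000000000000000000000000000000000000000000000000000000000000000000000000000000000000000000000000000000000000000000000000000000000000000000000000000000000000000000000000000000000000000000000000000000000000000000000000000000000000000000000000000000000000000000000000000000000000000000000000000000000000000000000000000000000000000000000000000000000000000000000000000000000000000000000000000000000000000000000000000000000000000000000000000000000000000000000000000000000000000000000000000000000000000000000000000000000000000000000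000000000000000000000000000000000000000000000000000000000000000000000000000000000000000000000000000000000000000000000000000000000000000000000000000000000000000000000000000000000000000000000000000000000000000000000000000000000000000000000000000000000000000000000000000000000000000000000000000000000000000000000000000000000000000000000000000000000000000000000000000000000000000000000000000000000000000000000000000000000000000000000000000000000000000000000000000000000000000000000000000000000000000000000000000000000000000000000000000000000000000000000000000000000000000000000000000000000000000000000000000000000000000000000000000000000000000000000000000000000000000000000000000000000000000000000000000000000000000000000000000000000000000000000000000000000000000000000000000000000000000000000000000000000000000000000000000000000000000000000000000000000000000000000000000000000000000000000000000000000000000000000000000000000000000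000000000000000000000000000000000000000000000000000000000000000000000000000000000000000000000000000000000000000000000000000000000000000000000000000000000000000000000000000000000000000000000000000000000000000000000000000000000000000000000000000000000000000000000000000000000000000000000000000000000000000000000000000000000000000000000000000000000000000000000000000000000000000000000000000000000000000000000000000000000000000000000000000000000000000000000000000000000000000000000000000000000000000000000000000000000000000000000000000000000000000000000000000000000000000000000000000000000000000000000000000000000000000000000000000000000000000000000000000000000000000000000000000000000000000000000000000000000000000000000000000000000000000000000000000000000000000000000000000000000000000000000000000000000000000000000000000000000000000000000000000000000000000000000000000000000000000000000000000000000000000000000000000000000000000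0000000000000000000000000000000000000000000000000000000000000000000000000000000000000000000000000000000000000000000000000000000000000000000000000000000000000000000000000000000000000000000000000000000000000000000000000000000000000000000000000000000000000000000000000000000000000000000000000000000000000000000000000000000000000000000000000000000000000000000000000000000000000000000000000000000000000000000000000000000000000000000000000000000000000000000000000000000000000000000000000000000000000000000000000000000000000000000000000000000000000000000000000000000000000000000000000000000000000000000000000000000000000000000000000000000000000) :: ms10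
noncomputable def ms12 : List ℕ := (nat_lit 0x1000000000000000000000000000000000000000000000000000000000000000000000000000000000000000000000000000000000000000000000000000000000000000000000000000000000000000000000000000000000000000000000000000000000000000000000000000000000000000000000000000000000000000000000000000000000000000000000000000000000000000000000000000000000000000000000000000000000000000000000000000000000000000000000000000000000000000000000000000000000000000000000000000000000000000000000000000000000000000000000000000000000000000000000000000000000000000000000000000000000000000000000000000000000000000000000000000000000000000000000000000000000000000000000000000000000000000000000000000000000000000000000000000000000000000000000000000000000000000000000000000000000000000000000000000000000000000000000000000000000000000000000000000000000000000000000000000000000000000000000000000000000000000000000000000000000000000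000000000000000000000000000000000000000000000000000000000000000000000000000000000000000000000000000000000000000000000000000000000000000000000000000000000000000000000000000000000000000000000000000000000000000000000000000000000000000000000000000000000000000000000000000000000000000000000000000000000000000000000000000000000000000000000000000000000000000000000000000000000000000000000000000000000000000000000000000000000000000000000000000000000000000000000000000000000000000000000000000000000000000000000000000000000000000000000000000000000000000000000000000000000000000000000000000000000000000000000000000000000000000000000000000000000000000000000000000000000000000000000000000000000000000000000000000000000000000000000000000000000000000000000000000000000000000000000000000000000000000000000000000000000000000000000000000000000000000000000000000000000000000000000000000000000000000000000000000000000000000000000000000000000000000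000000000000000000000000000000000000000000000000000000000000000000000000000000000000000000000000000000000000000000000000000000000000000000000000000000000000000000000000000000000000000000000000000000000000000000000000000000000000000000000000000000000000000000000000000000000000000000000000000000000000000000000000000000000000000000000000000000000000000000000000000000000000000000000000000000000000000000000000000000000000000000000000000000000000000000000000000000000000000000000000000000000000000000000000000000000000000000000000000000000000000000000000000000000000000000000000000000000000000000000000000000000000000000000000000000000000000000000000000000000000000000000000000000000000000000000000000000000000000000000000000000000000000000000000000000000000000000000000000000000000000000000000000000000000000000000000000000000000000000000000000000000000000000000000000000000000000000000000000000000000000000000000000000000000000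000000000000000000000000000000000000000000000000000000000000000000000000000000000000000000000000000000000000000000000000000000000000000000000000000000000000000000000000000000000000000000000000000000000000000000000000000000000000000000000000000000000000000000000000000000000000000000000000000000000000000000000000000000000000000000000000000000000000000000000000000000000000000000000000000000000000000000000000000000000000000000000000000000000000000000000000000000000000000000000000000000000000000000000000000000000000000000000000000000000000000000000000000000000000000000000000000000000000000000000000000000000000000000000000000000000000000000000000000000000000000000000000000000000000000000000000000000000000000000000000000000000000000000000000000000000000000000000000000000000000000000000000000000000000000000000000000000000000000000000000000000000000000000000000000000000000000000000000000000000000000000000000000000000000000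000000000000000000000000000000000000000000000000000000000000000000000000000000000000000000000000000000000000000000000000000000000000000000000000000000000000000000000000000000000000000000000000000000000000000000000000000000000000000000000000000000000000000000000000000000000000000000000000000000000000000000000000000000000000000000000000000000000000000000000000000000000000000000000000000000000000000000000000000000000000000000000000000000000000000000000000000000000000000000000000000000000000000000000000000000000000000000000000000000000000000000000000000000000000000000000000000000000000000000000000000000000000000000000000000000000000000000000000000000000000000000000000000000000000000000000000000000000000000000000000000000000000000000000000000000000000000000000000000000000000000000000000000000000000000000000000000000000000000000000000000000000000000000000000000000000000000000000000000000000000000000000000000000000000000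000000000000000000000000000000000000000000000000000000000000000000000000000000000000000000000000000000000000000000000000000000000000000000000000000000000000000000000000000000000000000000000000000000000000000000000000000000000000000000000000000000000000000000000000000000000000000000000000000000000000000000000000000000000000000000000000000000000000000000000000000000000000000000000000000000000000000000000000000000000000000000000000000000000000000000000000000000000000000000000000000000000000000000000000000000000000000000000000000000000000000000000000000000000000000000000000000000000000000000000000000000000000000000000000000000000000000000000000000000000000000000000000000000000000000000000000000000000000000000000000000000000000000000000000000000000000000000000000000000000000000000000000000000000000000000000000000000000000000000000000000000000000000000000000000000000000000000000000000000000000000000000000000000000000000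000000000000000000000000000000000000000000000000000000000000000000000000000000000000000000000000000000000000000000000000000000000000000000000000000000000000000000000000000000000000000000000000000000000000000000000000000000000000000000000000000000000000000000000000000000000000000000000000000000000000000000000000000000000000000000000000000000000000000000000000000000000000000000000000000000000000000000000000000000000000000000000000000000000000000000000000000000000000000000000000000000000000000000000000000000000000000000000000000000000000000000000000000000000000000000000000000000000000000000000000000000000000000000000000000000000000000000000000000000000000000000000000000000000000000000000000000000000000000000000000000000000000000000000000000000000000000000000000000000000000000000000000000000000000000000000000000000000000000000000000000000000000000000000000000000000000000000000000000000000000000000000000000000000000000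000000000000000000000000000000000000000000000000000000000000000000000000000000000000000000000000000000000000000000000000000000000000000000000000000000000000000000000000000000000000000000000000000000000000000000000000000000000000000000000000000000000000000000000000000000000000000000000000000000000000000000000000000000000000000000000000000000000000000000000000000000000000000000000000000000000000000000000000000000000000000000000000000000000000000000000000000000000000000000000000000000000000000000000000000000000000000000000000000000000000000000000000000000000000000000000000000000000000000000000000000000000000000000000000000000000000000000000000000000000000000000000000000000000000000000000000000000000000000000000000000000000000000000000000000000000000000000000000000000000000000000000000000000000000000000000000000000000000000000000000000000000000000000000000000000000000000000000000000000000000000000000000000000000000000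000000000000000000000000000000000000000000000000000000000000000000000000000000000000000000000000000000000000000000000000000000000000000000000000000000000000000000000000000000000000000000000000000000000000000000000000000000000000000000000000000000000000000000000000000000000000000000000000000000000000000000000000000000000000000000000000000000000000000000000000000000000000000000000000000000000000000000000000000000000000000000000000000000000000000000000000000000000000000000000000000000000000000000000000000000000000000000000000000000000000000000000000000000000000000000000000000000000000000000000000000000000000000000000000000000000000000000000000000000000000000000000000000000000000000000000000000000000000000000000000000000000000000000000000000000000000000000000000000000000000000000000000000000000000000000000000000000000000000000000000000000000000000000000000000000000000000000000000000000000000000000000000000000000000000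000000000000000000000000000000000000000000000000000000000000000000000000000000000000000000000000000000000000000000000000000000000000000000000000000000000000000000000000000000000000000000000000000000000000000000000000000000000000000000000000000000000000000000000000000000000000000000000000000000000000000000000000000000000000000000000000000000000000000000000000000000000000000000000000000000000000000000000000000000000000000000000000000000000000000000000000000000000000000000000000000000000000000000000000000000000000000000000000000000000000000000000000000000000000000000000000000000000000000000000000000000000000000000000000000000000000000000000000000000000000000000000000000000000000000000000000000000000000000000000000000000000000000000000000000000000000000000000000000000000000000000000000000000000000000000000000000000000000000000000000000000000000000000000000000000000000000000000000000000000000000000000000000000000000000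000000000000000000000000000000000000000000000000000000000000000000000000000000000000000000000000000000000000000000000000000000000000000000000000000000000000000000000000000000000000000000000000000000000000000000000000000000000000000000000000000000000000000000000000000000000000000000000000000000000000000000000000000000000000000000000000000000000000000000000000000000000000000000000000000000000000000000000000000000000000000000000000000000000000000000000000000000000000000000000000000000000000000000000000000000000000000000000000000000000000000000000000000000000000000000000000000000000000000000000000000000000000000000000000000000000000000000000000000000000000000000000000000000000000000000000000000000000000000000000000000000000000000000000000000000000000000000000000000000000000000000000000000000000000000000000000000000000000000000000000000000000000000000000000000000000000000000000000000000000000000000000000000000000000000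000000000000000000000000000000000000000000000000000000000000000000000000000000000000000000000000000000000000000000000000000000000000000000000000000000000000000000000000000000000000000000000000000000000000000000000000000000000000000000000000000000000000000000000000000000000000000000000000000000000000000000000000000000000000000000000000000000000000000000000000000000000000000000000000000000000000000000000000000000000000000000000000000000000000000000000000000000000000000000000000000000000000000000000000000000000000000000000000000000000000000000000000000000000000000000000000000000000000000000000000000000000000000000000000000000000000000000000000000000000000000000000000000000000000000000000000000000000000000000000000000000000000000000000000000000000000000000000000000000000000000000000000000000000000000000000000000000000000000000000000000000000000000000000000000000000000000000000000000000000000000000000000000000000000000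000000000000000000000000000000000000000000000000000000000000000000000000000000000000000000000000000000000000000000000000000000000000000000000000000000000000000000000000000000000000000000000000000000000000000000000000000000000000000000000000000000000000000000000000000000000000000000000000000000000000000000000000000000000000000000000000000000000000000000000000000000000000000000000000000000000000000000000000000000000000000000000000000000000000000000000000000000000000000000000000000000000000000000000000000000000000000000000000000000000000000000000000000000000000000000000000000000000000000000000000000000000000000000000000000000000000000000000000000000000000000000000000000000000000000000000000000000000000000000000000000000000000000000000000000000000000000000000000000000000000000000000000000000000000000000000000000000000000000000000000000000000000000000000000000000000000000000000000000000000000000000000000000000000000000000000000000000000000000000000000000000000000000000000000000000000000000000000000000000000000000000000000000000000000000000000000000000000000000000000000000000000000000000000000000000000000000000000000000000000000000000000000000000000000000000000000000000000000000000000000000000000000)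 :: ms11
noncomputable def L_0 : Tr ℕ := (decT (nat_lit 16777216) (ms12) LN0_b12)
noncomputable def L_1 : Tr ℕ := (decT (nat_lit 16777216) (ms12) LN1_b12)
noncomputable def L_2 : Tr ℕ := (decT (nat_lit 16777216) (ms12) LN2_b12)
noncomputable def L_3 : Tr ℕ := (decT (nat_lit 16777216) (ms12) LN3_b12)
noncomputable def L_4 : Tr ℕ := (decT (nat_lit 16777216) (ms12) LN4_b12)
noncomputable def L_5 : Tr ℕ := (decT (nat_lit 16777216) (ms12) LN5_b12)
noncomputable def L_6 : Tr ℕ := (decT (nat_lit 16777216) (ms12) LN6_b12)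
noncomputable def L_7 : Tr ℕ := (decT (nat_lit 16777216) (ms12) LN7_b12)
noncomputable def L_8 : Tr ℕ := (decT (nat_lit 16777216) (ms12) LN8_b12)
noncomputable def L_9 : Tr ℕ := (decT (nat_lit 16777216) (ms12) LN9_b12)
noncomputable def L_10 : Tr ℕ := (decT (nat_lit 16777216) (ms12) LN10_b12)
noncomputable def L_11 : Tr ℕ := (decT (nat_lit 16777216) (ms12) LN11_b12)
noncomputable def L_12 : Tr ℕ := (Tr.nd (nat_lit 1755493) (Tr.nd (nat_lit 1754659) (Tr.nd (nat_lit 1751093) (decT (nat_lit 16777216) (ms9) LN12_b9) (decT (nat_lit 16777216) (ms8) LN12_b8)) (Tr.nd (nat_lit 1755209) (decT (nat_lit 16777216) (ms5) LN12_b5) (decT (nat_lit 16777216) (ms4) LN12_b4))) (Tr.nd (nat_lit 1755583) (Tr.nd (nat_lit 1755571) (decT (nat_lit 16777216) (ms3) LN12_b3) (Tr.lf (nat_lit 1755571))) (Tr.nd (nat_lit 1755587) (Tr.lf (nat_lit 1755583)) (Tr.nd (nat_lit 1755599) (Tr.lf (nat_lit 1755587)) (Tr.lf (nat_lit 1755599))))))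
noncomputable def L : Tr ℕ := (Tr.nd (nat_lit 1393159) (Tr.nd (nat_lit 1219607) (Tr.nd (nat_lit 1105579) L_0
(Tr.nd (nat_lit 1162541) L_1
L_2))
(Tr.nd (nat_lit 1277147) L_3
(Tr.nd (nat_lit 1335233) L_4
L_5)))
(Tr.nd (nat_lit 1567409) (Tr.nd (nat_lit 1450907) L_6
(Tr.nd (nat_lit 1508719) L_7
L_8))
(Tr.nd (nat_lit 1684993) (Tr.nd (nat_lit 1626301) L_9
L_10)
(Tr.nd (nat_lit 1744087) L_11
L_12))))
abbrev q0 : ℕ := nat_lit 1048583
noncomputable def F_a (q : ℕ) : ℕ := Nat.add (nat_lit 1048576) (Nat.mod (Bool.rec (motive := fun _ => ℕ) (Bool.rec (motive := fun _ => ℕ) (Bool.rec (motive := fun _ => ℕ) T_a_0 (Bool.rec (motive := fun _ => ℕ) T_a_1 T_a_2 (Nat.ble (nat_lit 1162541) q)) (Nat.ble (nat_lit 1105579) q)) (Bool.rec (motive := fun _ => ℕ) T_a_3 (Bool.rec (motive := fun _ => ℕ) T_a_4 T_a_5 (Nat.ble (nat_lit 1335233) q)) (Nat.ble (nat_lit 1277147) q)) (Nat.ble (nat_lit 1219607) q)) (Bool.rec (motive := fun _ => ℕ) (Bool.rec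 (motive := fun _ => ℕ) T_a_6 (Bool.rec (motive := fun _ => ℕ) T_a_7 T_a_8 (Nat.ble (nat_lit 1508719) q)) (Nat.ble (nat_lit 1450907) q)) (Bool.rec (motive := fun _ => ℕ) (Bool.rec (motive := fun _ => ℕ) T_a_9 T_a_10 (Nat.ble (nat_lit 1626301) q)) (Bool.rec (motive := fun _ => ℕ) T_a_11 T_a_12 (Nat.ble (nat_lit 1744087) q)) (Nat.ble (nat_lit 1684993) q)) (Nat.ble (nat_lit 1567409) q)) (Nat.ble (nat_lit 1393159) q)) q)
noncomputable def G_a (t q : ℕ) : ℕ := Bool.rec (motive := fun _ => ℕ) (nat_lit 0) (F_a q) (Nat.ble (Nat.succ (Nat.mod (Bool.rec (motive := fun _ => ℕ) (Bool.rec (motive := fun _ => ℕ) (Bool.rec (motive := fun _ => ℕ) U_a_0 (Bool.rec (motive := fun _ => ℕ) U_a_1 U_a_2 (Nat.ble (nat_lit 1162541) q)) (Nat.ble (nat_lit 1105579) q)) (Bool.rec (motive := fun _ => ℕ) U_a_3 (Bool.rec (motive := fun _ => ℕ) U_a_4 U_a_5 (Nat.ble (nat_lit 1335233) q)) (Nat.ble (nat_lit 1277147) q)) (Nat.ble (nat_lit 1219607) q))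 (Bool.rec (motive := fun _ => ℕ) (Bool.rec (motive := fun _ => ℕ) U_a_6 (Bool.rec (motive := fun _ => ℕ) U_a_7 U_a_8 (Nat.ble (nat_lit 1508719) q)) (Nat.ble (nat_lit 1450907) q)) (Bool.rec (motive := fun _ => ℕ) (Bool.rec (motive := fun _ => ℕ) U_a_9 U_a_10 (Nat.ble (nat_lit 1626301) q)) (Bool.rec (motive := fun _ => ℕ) U_a_11 U_a_12 (Nat.ble (nat_lit 1744087) q)) (Nat.ble (nat_lit 1684993) q)) (Nat.ble (nat_lit 1567409) q)) (Nat.ble (nat_lit 1393159) q)) q)) t)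
noncomputable def F_b (q : ℕ) : ℕ := Nat.add (nat_lit 1048576) (Nat.mod (Bool.rec (motive := fun _ => ℕ) (Bool.rec (motive := fun _ => ℕ) (Bool.rec (motive := fun _ => ℕ) T_b_0 (Bool.rec (motive := fun _ => ℕ) T_b_1 T_b_2 (Nat.ble (nat_lit 1162541) q)) (Nat.ble (nat_lit 1105579) q)) (Bool.rec (motive := fun _ => ℕ) T_b_3 (Bool.rec (motive := fun _ => ℕ) T_b_4 T_b_5 (Nat.ble (nat_lit 1335233) q)) (Nat.ble (nat_lit 1277147) q)) (Nat.ble (nat_lit 1219607) q)) (Bool.rec (motive := fun _ => ℕ) (Bool.rec (motive := fun _ => ℕ) T_b_6 (Bool.rec (motive := fun _ => ℕ) T_b_7 T_b_8 (Nat.ble (nat_lit 1508719) q)) (Nat.ble (nat_lit 1450907) q)) (Bool.rec (motive := fun _ => ℕ) (Bool.rec (motive := fun _ => ℕ) T_b_9 T_b_10 (Nat.ble (nat_lit 1626301) q)) (Bool.rec (motive := fun _ => ℕ) T_b_11 T_b_12 (Nat.ble (nat_lit 1744087) q)) (Nat.ble (nat_lit 1684993) q)) (Nat.ble (nat_lit 1567409) q)) (Nat.ble (nat_lit 1393159) q)) q)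
noncomputable def G_b (t q : ℕ) : ℕ := Bool.rec (motive := fun _ => ℕ) (nat_lit 0) (F_b q) (Nat.ble (Nat.succ (Nat.mod (Bool.rec (motive := fun _ => ℕ) (Bool.rec (motive := fun _ => ℕ) (Bool.rec (motive := fun _ => ℕ) U_b_0 (Bool.rec (motive := fun _ => ℕ) U_b_1 U_b_2 (Nat.ble (nat_lit 1162541) q)) (Nat.ble (nat_lit 1105579) q)) (Bool.rec (motive := fun _ => ℕ) U_b_3 (Bool.rec (motive := fun _ => ℕ) U_b_4 U_b_5 (Nat.ble (nat_lit 1335233) q)) (Nat.ble (nat_lit 1277147) q)) (Nat.ble (nat_lit 1219607) q)) (Bool.rec (motive := fun _ => ℕ) (Bool.rec (motive := fun _ => ℕ) U_b_6 (Bool.rec (motive := fun _ => ℕ) U_b_7 U_b_8 (Nat.ble (nat_lit 1508719) q)) (Nat.ble (nat_lit 1450907) q)) (Bool.rec (motive := fun _ => ℕ) (Bool.rec (motive := fun _ => ℕ) U_b_9 U_b_10 (Nat.ble (nat_lit 1626301) q)) (Bool.rec (motive := fun _ => ℕ) U_b_11 U_b_12 (Nat.ble (nat_lit 1744087) q)) (Nat.ble (nat_lit 1684993) q)) (Nat.ble (nat_lit 1567409)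 q)) (Nat.ble (nat_lit 1393159) q)) q)) t)
noncomputable def F_c (q : ℕ) : ℕ := Nat.add (nat_lit 1048576) (Nat.mod (Bool.rec (motive := fun _ => ℕ) (Bool.rec (motive := fun _ => ℕ) (Bool.rec (motive := fun _ => ℕ) T_c_0 (Bool.rec (motive := fun _ => ℕ) T_c_1 T_c_2 (Nat.ble (nat_lit 1162541) q)) (Nat.ble (nat_lit 1105579) q)) (Bool.rec (motive := fun _ => ℕ) T_c_3 (Bool.rec (motive := fun _ => ℕ) T_c_4 T_c_5 (Nat.ble (nat_lit 1335233) q)) (Nat.ble (nat_lit 1277147) q)) (Nat.ble (nat_lit 1219607) q)) (Bool.rec (motive := fun _ => ℕ) (Bool.rec (motive := fun _ => ℕ) T_c_6 (Bool.rec (motive := fun _ => ℕ) T_c_7 T_c_8 (Nat.ble (nat_lit 1508719) q)) (Nat.ble (nat_lit 1450907) q)) (Bool.rec (motive := fun _ => ℕ) (Bool.rec (motive := fun _ => ℕ) T_c_9 T_c_10 (Nat.ble (nat_lit 1626301) q)) (Bool.rec (motive := fun _ => ℕ) T_c_11 T_c_12 (Nat.ble (nat_lit 1744087) q)) (Nat.ble (nat_lit 1684993) q)) (Nat.ble (nat_lit 1567409)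 q)) (Nat.ble (nat_lit 1393159) q)) q)
noncomputable def G_c (t q : ℕ) : ℕ := Bool.rec (motive := fun _ => ℕ) (nat_lit 0) (F_c q) (Nat.ble (Nat.succ (Nat.mod (Bool.rec (motive := fun _ => ℕ) (Bool.rec (motive := fun _ => ℕ) (Bool.rec (motive := fun _ => ℕ) U_c_0 (Bool.rec (motive := fun _ => ℕ) U_c_1 U_c_2 (Nat.ble (nat_lit 1162541) q)) (Nat.ble (nat_lit 1105579) q)) (Bool.rec (motive := fun _ => ℕ) U_c_3 (Bool.rec (motive := fun _ => ℕ) U_c_4 U_c_5 (Nat.ble (nat_lit 1335233) q)) (Nat.ble (nat_lit 1277147) q)) (Nat.ble (nat_lit 1219607) q)) (Bool.rec (motive := fun _ => ℕ) (Bool.rec (motive := fun _ => ℕ) U_c_6 (Bool.rec (motive := fun _ => ℕ) U_c_7 U_c_8 (Nat.ble (nat_lit 1508719) q)) (Nat.ble (nat_lit 1450907) q)) (Bool.rec (motive := fun _ => ℕ) (Bool.rec (motive := fun _ => ℕ) U_c_9 U_c_10 (Nat.ble (nat_lit 1626301) q)) (Bool.rec (motive := fun _ => ℕ) U_c_11 U_c_12 (Nat.ble (nat_lit 1744087) q)) (Nat.ble (nat_lit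 1684993) q)) (Nat.ble (nat_lit 1567409) q)) (Nat.ble (nat_lit 1393159) q)) q)) t)
noncomputable def F_d (q : ℕ) : ℕ := Nat.add (nat_lit 1048576) (Nat.mod (Bool.rec (motive := fun _ => ℕ) (Bool.rec (motive := fun _ => ℕ) (Bool.rec (motive := fun _ => ℕ) T_d_0 (Bool.rec (motive := fun _ => ℕ) T_d_1 T_d_2 (Nat.ble (nat_lit 1162541) q)) (Nat.ble (nat_lit 1105579) q)) (Bool.rec (motive := fun _ => ℕ) T_d_3 (Bool.rec (motive := fun _ => ℕ) T_d_4 T_d_5 (Nat.ble (nat_lit 1335233) q)) (Nat.ble (nat_lit 1277147) q)) (Nat.ble (nat_lit 1219607) q)) (Bool.rec (motive := fun _ => ℕ) (Bool.rec (motive := fun _ => ℕ) T_d_6 (Bool.rec (motive := fun _ => ℕ) T_d_7 T_d_8 (Nat.ble (nat_lit 1508719) q)) (Nat.ble (nat_lit 1450907) q)) (Bool.rec (motive := fun _ => ℕ) (Bool.rec (motive := fun _ => ℕ) T_d_9 T_d_10 (Nat.ble (nat_lit 1626301) q)) (Bool.rec (motive := fun _ => ℕ) T_d_11 T_d_12 (Nat.ble (nat_lit 1744087) q)) (Nat.ble (nat_lit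 1684993) q)) (Nat.ble (nat_lit 1567409) q)) (Nat.ble (nat_lit 1393159) q)) q)
noncomputable def G_d (t q : ℕ) : ℕ := Bool.rec (motive := fun _ => ℕ) (nat_lit 0) (F_d q) (Nat.ble (Nat.succ (Nat.mod (Bool.rec (motive := fun _ => ℕ) (Bool.rec (motive := fun _ => ℕ) (Bool.rec (motive := fun _ => ℕ) U_d_0 (Bool.rec (motive := fun _ => ℕ) U_d_1 U_d_2 (Nat.ble (nat_lit 1162541) q)) (Nat.ble (nat_lit 1105579) q)) (Bool.rec (motive := fun _ => ℕ) U_d_3 (Bool.rec (motive := fun _ => ℕ) U_d_4 U_d_5 (Nat.ble (nat_lit 1335233) q)) (Nat.ble (nat_lit 1277147) q)) (Nat.ble (nat_lit 1219607) q)) (Bool.rec (motive := fun _ => ℕ) (Bool.rec (motive := fun _ => ℕ) U_d_6 (Bool.rec (motive := fun _ => ℕ) U_d_7 U_d_8 (Nat.ble (nat_lit 1508719) q)) (Nat.ble (nat_lit 1450907) q)) (Bool.rec (motive := fun _ => ℕ) (Bool.rec (motive := fun _ => ℕ) U_d_9 U_d_10 (Nat.ble (nat_lit 1626301) q)) (Bool.rec (motive := fun _ => ℕ) U_d_11 U_d_12 (Nat.ble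 (nat_lit 1744087) q)) (Nat.ble (nat_lit 1684993) q)) (Nat.ble (nat_lit 1567409) q)) (Nat.ble (nat_lit 1393159) q)) q)) t)
noncomputable def F_e (q : ℕ) : ℕ := Nat.add (nat_lit 1048576) (Nat.mod (Bool.rec (motive := fun _ => ℕ) (Bool.rec (motive := fun _ => ℕ) (Bool.rec (motive := fun _ => ℕ) T_e_0 (Bool.rec (motive := fun _ => ℕ) T_e_1 T_e_2 (Nat.ble (nat_lit 1162541) q)) (Nat.ble (nat_lit 1105579) q)) (Bool.rec (motive := fun _ => ℕ) T_e_3 (Bool.rec (motive := fun _ => ℕ) T_e_4 T_e_5 (Nat.ble (nat_lit 1335233) q)) (Nat.ble (nat_lit 1277147) q)) (Nat.ble (nat_lit 1219607) q)) (Bool.rec (motive := fun _ => ℕ) (Bool.rec (motive := fun _ => ℕ) T_e_6 (Bool.rec (motive := fun _ => ℕ) T_e_7 T_e_8 (Nat.ble (nat_lit 1508719) q)) (Nat.ble (nat_lit 1450907) q)) (Bool.rec (motive := fun _ => ℕ) (Bool.rec (motive := fun _ => ℕ) T_e_9 T_e_10 (Nat.ble (nat_lit 1626301) q)) (Bool.rec (motive := fun _ => ℕ) T_e_11 T_e_12 (Nat.ble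 (nat_lit 1744087) q)) (Nat.ble (nat_lit 1684993) q)) (Nat.ble (nat_lit 1567409) q)) (Nat.ble (nat_lit 1393159) q)) q)
noncomputable def G_e (t q : ℕ) : ℕ := Bool.rec (motive := fun _ => ℕ) (nat_lit 0) (F_e q) (Nat.ble (Nat.succ (Nat.mod (Bool.rec (motive := fun _ => ℕ) (Bool.rec (motive := fun _ => ℕ) (Bool.rec (motive := fun _ => ℕ) U_e_0 (Bool.rec (motive := fun _ => ℕ) U_e_1 U_e_2 (Nat.ble (nat_lit 1162541) q)) (Nat.ble (nat_lit 1105579) q)) (Bool.rec (motive := fun _ => ℕ) U_e_3 (Bool.rec (motive := fun _ => ℕ) U_e_4 U_e_5 (Nat.ble (nat_lit 1335233) q)) (Nat.ble (nat_lit 1277147) q)) (Nat.ble (nat_lit 1219607) q)) (Bool.rec (motive := fun _ => ℕ) (Bool.rec (motive := fun _ => ℕ) U_e_6 (Bool.rec (motive := fun _ => ℕ) U_e_7 U_e_8 (Nat.ble (nat_lit 1508719) q)) (Nat.ble (nat_lit 1450907) q)) (Bool.rec (motive := fun _ => ℕ) (Bool.rec (motive := fun _ => ℕ) U_e_9 U_e_10 (Nat.ble (nat_lit 1626301) q)) (Bool.rec (motive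 := fun _ => ℕ) U_e_11 U_e_12 (Nat.ble (nat_lit 1744087) q)) (Nat.ble (nat_lit 1684993) q)) (Nat.ble (nat_lit 1567409) q)) (Nat.ble (nat_lit 1393159) q)) q)) t)
noncomputable def F_f (q : ℕ) : ℕ := Nat.add (nat_lit 1048576) (Nat.mod (Bool.rec (motive := fun _ => ℕ) (Bool.rec (motive := fun _ => ℕ) (Bool.rec (motive := fun _ => ℕ) T_f_0 (Bool.rec (motive := fun _ => ℕ) T_f_1 T_f_2 (Nat.ble (nat_lit 1162541) q)) (Nat.ble (nat_lit 1105579) q)) (Bool.rec (motive := fun _ => ℕ) T_f_3 (Bool.rec (motive := fun _ => ℕ) T_f_4 T_f_5 (Nat.ble (nat_lit 1335233) q)) (Nat.ble (nat_lit 1277147) q)) (Nat.ble (nat_lit 1219607) q)) (Bool.rec (motive := fun _ => ℕ) (Bool.rec (motive := fun _ => ℕ) T_f_6 (Bool.rec (motive := fun _ => ℕ) T_f_7 T_f_8 (Nat.ble (nat_lit 1508719) q)) (Nat.ble (nat_lit 1450907) q)) (Bool.rec (motive := fun _ => ℕ) (Bool.rec (motive := fun _ => ℕ) T_f_9 T_f_10 (Nat.ble (nat_lit 1626301) q)) (Bool.rec (motive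 := fun _ => ℕ) T_f_11 T_f_12 (Nat.ble (nat_lit 1744087) q)) (Nat.ble (nat_lit 1684993) q)) (Nat.ble (nat_lit 1567409) q)) (Nat.ble (nat_lit 1393159) q)) q)
noncomputable def G_f (t q : ℕ) : ℕ := Bool.rec (motive := fun _ => ℕ) (nat_lit 0) (F_f q) (Nat.ble (Nat.succ (Nat.mod (Bool.rec (motive := fun _ => ℕ) (Bool.rec (motive := fun _ => ℕ) (Bool.rec (motive := fun _ => ℕ) U_f_0 (Bool.rec (motive := fun _ => ℕ) U_f_1 U_f_2 (Nat.ble (nat_lit 1162541) q)) (Nat.ble (nat_lit 1105579) q)) (Bool.rec (motive := fun _ => ℕ) U_f_3 (Bool.rec (motive := fun _ => ℕ) U_f_4 U_f_5 (Nat.ble (nat_lit 1335233) q)) (Nat.ble (nat_lit 1277147) q)) (Nat.ble (nat_lit 1219607) q)) (Bool.rec (motive := fun _ => ℕ) (Bool.rec (motive := fun _ => ℕ) U_f_6 (Bool.rec (motive := fun _ => ℕ) U_f_7 U_f_8 (Nat.ble (nat_lit 1508719) q)) (Nat.ble (nat_lit 1450907) q)) (Bool.rec (motive := fun _ => ℕ) (Bool.rec (motive := fun _ => ℕ) U_f_9 U_f_10 (Nat.ble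 (nat_lit 1626301) q)) (Bool.rec (motive := fun _ => ℕ) U_f_11 U_f_12 (Nat.ble (nat_lit 1744087) q)) (Nat.ble (nat_lit 1684993) q)) (Nat.ble (nat_lit 1567409) q)) (Nat.ble (nat_lit 1393159) q)) q)) t)
noncomputable def F_g (q : ℕ) : ℕ := Nat.add (nat_lit 1048576) (Nat.mod (Bool.rec (motive := fun _ => ℕ) (Bool.rec (motive := fun _ => ℕ) (Bool.rec (motive := fun _ => ℕ) T_g_0 (Bool.rec (motive := fun _ => ℕ) T_g_1 T_g_2 (Nat.ble (nat_lit 1162541) q)) (Nat.ble (nat_lit 1105579) q)) (Bool.rec (motive := fun _ => ℕ) T_g_3 (Bool.rec (motive := fun _ => ℕ) T_g_4 T_g_5 (Nat.ble (nat_lit 1335233) q)) (Nat.ble (nat_lit 1277147) q)) (Nat.ble (nat_lit 1219607) q)) (Bool.rec (motive := fun _ => ℕ) (Bool.rec (motive := fun _ => ℕ) T_g_6 (Bool.rec (motive := fun _ => ℕ) T_g_7 T_g_8 (Nat.ble (nat_lit 1508719) q)) (Nat.ble (nat_lit 1450907) q)) (Bool.rec (motive := fun _ => ℕ) (Bool.rec (motive := fun _ => ℕ) T_g_9 T_g_10 (Nat.ble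 (nat_lit 1626301) q)) (Bool.rec (motive := fun _ => ℕ) T_g_11 T_g_12 (Nat.ble (nat_lit 1744087) q)) (Nat.ble (nat_lit 1684993) q)) (Nat.ble (nat_lit 1567409) q)) (Nat.ble (nat_lit 1393159) q)) q)
noncomputable def G_g (t q : ℕ) : ℕ := Bool.rec (motive := fun _ => ℕ) (nat_lit 0) (F_g q) (Nat.ble (Nat.succ (Nat.mod (Bool.rec (motive := fun _ => ℕ) (Bool.rec (motive := fun _ => ℕ) (Bool.rec (motive := fun _ => ℕ) U_g_0 (Bool.rec (motive := fun _ => ℕ) U_g_1 U_g_2 (Nat.ble (nat_lit 1162541) q)) (Nat.ble (nat_lit 1105579) q)) (Bool.rec (motive := fun _ => ℕ) U_g_3 (Bool.rec (motive := fun _ => ℕ) U_g_4 U_g_5 (Nat.ble (nat_lit 1335233) q)) (Nat.ble (nat_lit 1277147) q)) (Nat.ble (nat_lit 1219607) q)) (Bool.rec (motive := fun _ => ℕ) (Bool.rec (motive := fun _ => ℕ) U_g_6 (Bool.rec (motive := fun _ => ℕ) U_g_7 U_g_8 (Nat.ble (nat_lit 1508719) q)) (Nat.ble (nat_lit 1450907) q)) (Bool.rec (motive := fun _ => ℕ) (Bool.rec (motive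 := fun _ => ℕ) U_g_9 U_g_10 (Nat.ble (nat_lit 1626301) q)) (Bool.rec (motive := fun _ => ℕ) U_g_11 U_g_12 (Nat.ble (nat_lit 1744087) q)) (Nat.ble (nat_lit 1684993) q)) (Nat.ble (nat_lit 1567409) q)) (Nat.ble (nat_lit 1393159) q)) q)) t)
theorem Fge_a (q : ℕ) : 1048576 ≤ F_a q := Nat.le_add_right _ _
theorem Fge_b (q : ℕ) : 1048576 ≤ F_b q := Nat.le_add_right _ _
theorem Fge_c (q : ℕ) : 1048576 ≤ F_c q := Nat.le_add_right _ _
theorem Fge_d (q : ℕ) : 1048576 ≤ F_d q := Nat.le_add_right _ _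
theorem Fge_e (q : ℕ) : 1048576 ≤ F_e q := Nat.le_add_right _ _
theorem Fge_f (q : ℕ) : 1048576 ≤ F_f q := Nat.le_add_right _ _
theorem Fge_g (q : ℕ) : 1048576 ≤ F_g q := Nat.le_add_right _ _
attribute [irreducible] F_a F_b F_c F_d F_e F_f F_g
noncomputable def stp : Col → ℕ → ℕ := fun c => Col.rec (motive := fun _ => ℕ → ℕ) F_a F_b F_c F_d F_e F_f F_g c
noncomputable def tau : Col → ℕ → ℕ := fun c => Col.rec (motive := fun _ => ℕ → ℕ) (fun q => (Nat.mod (Bool.rec (motive := fun _ => ℕ) (Bool.rec (motive := fun _ => ℕ) (Bool.rec (motive := fun _ => ℕ) U_a_0 (Bool.rec (motive := fun _ => ℕ) U_a_1 U_a_2 (Nat.ble (nat_lit 1162541) q)) (Nat.ble (nat_lit 1105579) q)) (Bool.rec (motive := fun _ => ℕ) U_a_3 (Bool.rec (motive := fun _ => ℕ) U_a_4 U_a_5 (Nat.ble (nat_lit 1335233) q)) (Nat.ble (nat_lit 1277147) q)) (Nat.ble (nat_lit 1219607) q)) (Bool.rec (motive := fun _ => ℕ) (Bool.rec (motive := fun _ => ℕ) U_a_6 (Bool.rec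 (motive := fun _ => ℕ) U_a_7 U_a_8 (Nat.ble (nat_lit 1508719) q)) (Nat.ble (nat_lit 1450907) q)) (Bool.rec (motive := fun _ => ℕ) (Bool.rec (motive := fun _ => ℕ) U_a_9 U_a_10 (Nat.ble (nat_lit 1626301) q)) (Bool.rec (motive := fun _ => ℕ) U_a_11 U_a_12 (Nat.ble (nat_lit 1744087) q)) (Nat.ble (nat_lit 1684993) q)) (Nat.ble (nat_lit 1567409) q)) (Nat.ble (nat_lit 1393159) q)) q)) (fun q => (Nat.mod (Bool.rec (motive := fun _ => ℕ) (Bool.rec (motive := fun _ => ℕ) (Bool.rec (motive := fun _ => ℕ) U_b_0 (Bool.rec (motive := fun _ => ℕ) U_b_1 U_b_2 (Nat.ble (nat_lit 1162541) q)) (Nat.ble (nat_lit 1105579) q)) (Bool.rec (motive := fun _ => ℕ) U_b_3 (Bool.rec (motive := fun _ => ℕ) U_b_4 U_b_5 (Nat.ble (nat_lit 1335233) q)) (Nat.ble (nat_lit 1277147) q)) (Nat.ble (nat_lit 1219607) q)) (Bool.rec (motive := fun _ => ℕ) (Bool.rec (motive := fun _ => ℕ) U_b_6 (Bool.rec (motive := fun _ => ℕ) U_b_7 U_b_8 (Nat.ble (nat_lit 1508719)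 q)) (Nat.ble (nat_lit 1450907) q)) (Bool.rec (motive := fun _ => ℕ) (Bool.rec (motive := fun _ => ℕ) U_b_9 U_b_10 (Nat.ble (nat_lit 1626301) q)) (Bool.rec (motive := fun _ => ℕ) U_b_11 U_b_12 (Nat.ble (nat_lit 1744087) q)) (Nat.ble (nat_lit 1684993) q)) (Nat.ble (nat_lit 1567409) q)) (Nat.ble (nat_lit 1393159) q)) q)) (fun q => (Nat.mod (Bool.rec (motive := fun _ => ℕ) (Bool.rec (motive := fun _ => ℕ) (Bool.rec (motive := fun _ => ℕ) U_c_0 (Bool.rec (motive := fun _ => ℕ) U_c_1 U_c_2 (Nat.ble (nat_lit 1162541) q)) (Nat.ble (nat_lit 1105579) q)) (Bool.rec (motive := fun _ => ℕ) U_c_3 (Bool.rec (motive := fun _ => ℕ) U_c_4 U_c_5 (Nat.ble (nat_lit 1335233) q)) (Nat.ble (nat_lit 1277147) q)) (Nat.ble (nat_lit 1219607) q)) (Bool.rec (motive := fun _ => ℕ) (Bool.rec (motive := fun _ => ℕ) U_c_6 (Bool.rec (motive := fun _ => ℕ) U_c_7 U_c_8 (Nat.ble (nat_lit 1508719) q)) (Nat.ble (nat_lit 1450907) q)) (Bool.rec (motive :=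 fun _ => ℕ) (Bool.rec (motive := fun _ => ℕ) U_c_9 U_c_10 (Nat.ble (nat_lit 1626301) q)) (Bool.rec (motive := fun _ => ℕ) U_c_11 U_c_12 (Nat.ble (nat_lit 1744087) q)) (Nat.ble (nat_lit 1684993) q)) (Nat.ble (nat_lit 1567409) q)) (Nat.ble (nat_lit 1393159) q)) q)) (fun q => (Nat.mod (Bool.rec (motive := fun _ => ℕ) (Bool.rec (motive := fun _ => ℕ) (Bool.rec (motive := fun _ => ℕ) U_d_0 (Bool.rec (motive := fun _ => ℕ) U_d_1 U_d_2 (Nat.ble (nat_lit 1162541) q)) (Nat.ble (nat_lit 1105579) q)) (Bool.rec (motive := fun _ => ℕ) U_d_3 (Bool.rec (motive := fun _ => ℕ) U_d_4 U_d_5 (Nat.ble (nat_lit 1335233) q)) (Nat.ble (nat_lit 1277147) q)) (Nat.ble (nat_lit 1219607) q)) (Bool.rec (motive := fun _ => ℕ) (Bool.rec (motive := fun _ => ℕ) U_d_6 (Bool.rec (motive := fun _ => ℕ) U_d_7 U_d_8 (Nat.ble (nat_lit 1508719) q)) (Nat.ble (nat_lit 1450907) q)) (Bool.rec (motive := fun _ => ℕ) (Bool.rec (motive := fun _ => ℕ) U_d_9 U_d_10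 (Nat.ble (nat_lit 1626301) q)) (Bool.rec (motive := fun _ => ℕ) U_d_11 U_d_12 (Nat.ble (nat_lit 1744087) q)) (Nat.ble (nat_lit 1684993) q)) (Nat.ble (nat_lit 1567409) q)) (Nat.ble (nat_lit 1393159) q)) q)) (fun q => (Nat.mod (Bool.rec (motive := fun _ => ℕ) (Bool.rec (motive := fun _ => ℕ) (Bool.rec (motive := fun _ => ℕ) U_e_0 (Bool.rec (motive := fun _ => ℕ) U_e_1 U_e_2 (Nat.ble (nat_lit 1162541) q)) (Nat.ble (nat_lit 1105579) q)) (Bool.rec (motive := fun _ => ℕ) U_e_3 (Bool.rec (motive := fun _ => ℕ) U_e_4 U_e_5 (Nat.ble (nat_lit 1335233) q)) (Nat.ble (nat_lit 1277147) q)) (Nat.ble (nat_lit 1219607) q)) (Bool.rec (motive := fun _ => ℕ) (Bool.rec (motive := fun _ => ℕ) U_e_6 (Bool.rec (motive := fun _ => ℕ) U_e_7 U_e_8 (Nat.ble (nat_lit 1508719) q)) (Nat.ble (nat_lit 1450907) q)) (Bool.rec (motive := fun _ => ℕ) (Bool.rec (motive := fun _ => ℕ) U_e_9 U_e_10 (Nat.ble (nat_lit 1626301) q)) (Bool.rec (motive := fun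 _ => ℕ) U_e_11 U_e_12 (Nat.ble (nat_lit 1744087) q)) (Nat.ble (nat_lit 1684993) q)) (Nat.ble (nat_lit 1567409) q)) (Nat.ble (nat_lit 1393159) q)) q)) (fun q => (Nat.mod (Bool.rec (motive := fun _ => ℕ) (Bool.rec (motive := fun _ => ℕ) (Bool.rec (motive := fun _ => ℕ) U_f_0 (Bool.rec (motive := fun _ => ℕ) U_f_1 U_f_2 (Nat.ble (nat_lit 1162541) q)) (Nat.ble (nat_lit 1105579) q)) (Bool.rec (motive := fun _ => ℕ) U_f_3 (Bool.rec (motive := fun _ => ℕ) U_f_4 U_f_5 (Nat.ble (nat_lit 1335233) q)) (Nat.ble (nat_lit 1277147) q)) (Nat.ble (nat_lit 1219607) q)) (Bool.rec (motive := fun _ => ℕ) (Bool.rec (motive := fun _ => ℕ) U_f_6 (Bool.rec (motive := fun _ => ℕ) U_f_7 U_f_8 (Nat.ble (nat_lit 1508719) q)) (Nat.ble (nat_lit 1450907) q)) (Bool.rec (motive := fun _ => ℕ) (Bool.rec (motive := fun _ => ℕ) U_f_9 U_f_10 (Nat.ble (nat_lit 1626301) q)) (Bool.rec (motive := fun _ => ℕ) U_f_11 U_f_12 (Nat.ble (nat_lit 1744087) q)) (Nat.ble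 (nat_lit 1684993) q)) (Nat.ble (nat_lit 1567409) q)) (Nat.ble (nat_lit 1393159) q)) q)) (fun q => (Nat.mod (Bool.rec (motive := fun _ => ℕ) (Bool.rec (motive := fun _ => ℕ) (Bool.rec (motive := fun _ => ℕ) U_g_0 (Bool.rec (motive := fun _ => ℕ) U_g_1 U_g_2 (Nat.ble (nat_lit 1162541) q)) (Nat.ble (nat_lit 1105579) q)) (Bool.rec (motive := fun _ => ℕ) U_g_3 (Bool.rec (motive := fun _ => ℕ) U_g_4 U_g_5 (Nat.ble (nat_lit 1335233) q)) (Nat.ble (nat_lit 1277147) q)) (Nat.ble (nat_lit 1219607) q)) (Bool.rec (motive := fun _ => ℕ) (Bool.rec (motive := fun _ => ℕ) U_g_6 (Bool.rec (motive := fun _ => ℕ) U_g_7 U_g_8 (Nat.ble (nat_lit 1508719) q)) (Nat.ble (nat_lit 1450907) q)) (Bool.rec (motive := fun _ => ℕ) (Bool.rec (motive := fun _ => ℕ) U_g_9 U_g_10 (Nat.ble (nat_lit 1626301) q)) (Bool.rec (motive := fun _ => ℕ) U_g_11 U_g_12 (Nat.ble (nat_lit 1744087) q)) (Nat.ble (nat_lit 1684993) q)) (Nat.ble (nat_lit 1567409) q)) (Nat.ble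 (nat_lit 1393159) q)) q)) c
noncomputable def PT (q : ℕ) : ℕ := Nat.add (nat_lit 1048576) (Nat.mod (Bool.rec (motive := fun _ => ℕ) (Bool.rec (motive := fun _ => ℕ) (Bool.rec (motive := fun _ => ℕ) PP_0 (Bool.rec (motive := fun _ => ℕ) PP_1 PP_2 (Nat.ble (nat_lit 1162541) q)) (Nat.ble (nat_lit 1105579) q)) (Bool.rec (motive := fun _ => ℕ) PP_3 (Bool.rec (motive := fun _ => ℕ) PP_4 PP_5 (Nat.ble (nat_lit 1335233) q)) (Nat.ble (nat_lit 1277147) q)) (Nat.ble (nat_lit 1219607) q)) (Bool.rec (motive := fun _ => ℕ) (Bool.rec (motive := fun _ => ℕ) PP_6 (Bool.rec (motive := fun _ => ℕ) PP_7 PP_8 (Nat.ble (nat_lit 1508719) q)) (Nat.ble (nat_lit 1450907) q)) (Bool.rec (motive := fun _ => ℕ) (Bool.rec (motive := fun _ => ℕ) PP_9 PP_10 (Nat.ble (nat_lit 1626301) q)) (Bool.rec (motive := fun _ => ℕ) PP_11 PP_12 (Nat.ble (nat_lit 1744087) q)) (Nat.ble (nat_lit 1684993) q)) (Nat.ble (nat_lit 1567409) q)) (Nat.ble (nat_lit 1393159)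 q)) q)
noncomputable def DT (q : ℕ) : ℕ := (Nat.mod (Bool.rec (motive := fun _ => ℕ) (Bool.rec (motive := fun _ => ℕ) (Bool.rec (motive := fun _ => ℕ) DD_0 (Bool.rec (motive := fun _ => ℕ) DD_1 DD_2 (Nat.ble (nat_lit 1162541) q)) (Nat.ble (nat_lit 1105579) q)) (Bool.rec (motive := fun _ => ℕ) DD_3 (Bool.rec (motive := fun _ => ℕ) DD_4 DD_5 (Nat.ble (nat_lit 1335233) q)) (Nat.ble (nat_lit 1277147) q)) (Nat.ble (nat_lit 1219607) q)) (Bool.rec (motive := fun _ => ℕ) (Bool.rec (motive := fun _ => ℕ) DD_6 (Bool.rec (motive := fun _ => ℕ) DD_7 DD_8 (Nat.ble (nat_lit 1508719) q)) (Nat.ble (nat_lit 1450907) q)) (Bool.rec (motive := fun _ => ℕ) (Bool.rec (motive := fun _ => ℕ) DD_9 DD_10 (Nat.ble (nat_lit 1626301) q)) (Bool.rec (motive := fun _ => ℕ) DD_11 DD_12 (Nat.ble (nat_lit 1744087) q)) (Nat.ble (nat_lit 1684993) q)) (Nat.ble (nat_lit 1567409) q)) (Nat.ble (nat_lit 1393159) q)) q)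
noncomputable def MB (q : ℕ) : ℕ := (Bool.rec (motive := fun _ => ℕ) (Bool.rec (motive := fun _ => ℕ) (Bool.rec (motive := fun _ => ℕ) MM_0 (Bool.rec (motive := fun _ => ℕ) MM_1 MM_2 (Nat.ble (nat_lit 1162541) q)) (Nat.ble (nat_lit 1105579) q)) (Bool.rec (motive := fun _ => ℕ) MM_3 (Bool.rec (motive := fun _ => ℕ) MM_4 MM_5 (Nat.ble (nat_lit 1335233) q)) (Nat.ble (nat_lit 1277147) q)) (Nat.ble (nat_lit 1219607) q)) (Bool.rec (motive := fun _ => ℕ) (Bool.rec (motive := fun _ => ℕ) MM_6 (Bool.rec (motive := fun _ => ℕ) MM_7 MM_8 (Nat.ble (nat_lit 1508719) q)) (Nat.ble (nat_lit 1450907) q)) (Bool.rec (motive := fun _ => ℕ) (Bool.rec (motive := fun _ => ℕ) MM_9 MM_10 (Nat.ble (nat_lit 1626301) q)) (Bool.rec (motive := fun _ => ℕ) MM_11 MM_12 (Nat.ble (nat_lit 1744087) q)) (Nat.ble (nat_lit 1684993) q)) (Nat.ble (nat_lit 1567409) q)) (Nat.ble (nat_lit 1393159) q))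
noncomputable def mt (q : ℕ) : Bool := memt MB (nat_lit 1048576) (nat_lit 2097152) q
noncomputable def sd (d q : ℕ) : ℕ := (Bool.rec (motive := fun _ => ℕ) (Bool.rec (motive := fun _ => ℕ) (F_a q) (Bool.rec (motive := fun _ => ℕ) (F_b q) (F_c q) (Nat.ble (nat_lit 2) d)) (Nat.ble (nat_lit 1) d)) (Bool.rec (motive := fun _ => ℕ) (Bool.rec (motive := fun _ => ℕ) (F_d q) (F_e q) (Nat.ble (nat_lit 4) d)) (Bool.rec (motive := fun _ => ℕ) (F_f q) (F_g q) (Nat.ble (nat_lit 6) d)) (Nat.ble (nat_lit 5) d)) (Nat.ble (nat_lit 3) d))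
noncomputable def E_0 (t q : ℕ) : Bool := Nat.beq (G_a t (F_a q)) q
noncomputable def a_0 : CfsgLib.TC.AG Col := .word .a 0 0 true [Col.a]
noncomputable def E_1 (t q : ℕ) : Bool := Nat.beq (G_d t (G_a t (G_d t (F_a q)))) q
noncomputable def a_1 : CfsgLib.TC.AG Col := .word .a 3 1 true [Col.d, Col.a, Col.d]
noncomputable def E_2 (t q : ℕ) : Bool := Nat.beq (G_f t (G_a t (G_f t (F_a q)))) q
noncomputable def a_2 : CfsgLib.TC.AG Col := .word .a 5 1 true [Col.f, Col.a, Col.f]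
noncomputable def E_3 (t q : ℕ) : Bool := Nat.beq (G_g t (G_a t (G_g t (F_a q)))) q
noncomputable def a_3 : CfsgLib.TC.AG Col := .word .a 6 1 true [Col.g, Col.a, Col.g]
noncomputable def E_4 (t q : ℕ) : Bool := Nat.beq (G_e t (G_a t (G_e t (F_a q)))) q
noncomputable def a_4 : CfsgLib.TC.AG Col := .word .a 4 1 true [Col.e, Col.a, Col.e]
noncomputable def E_5 (t q : ℕ) : Bool := Nat.beq (G_c t (G_a t (G_c t (F_a q)))) q
noncomputable def a_5 : CfsgLib.TC.AG Col := .word .a 2 1 true [Col.c, Col.a, Col.c]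
noncomputable def E_6 (t q : ℕ) : Bool := band (Nat.beq (PT (F_a q)) q) (band (Nat.beq (DT (F_a q)) 0) (band (Nat.ble (Nat.succ q) (F_a q)) (Nat.ble (Nat.succ q0) (F_a q))))
noncomputable def a_6 : CfsgLib.TC.AG Col := .tree .a
noncomputable def E_7 (t q : ℕ) : Bool := Nat.beq (G_b t (G_a t (G_b t (G_a t (G_b t (G_a t (G_b t (F_a q)))))))) q
noncomputable def a_7 : CfsgLib.TC.AG Col := .word .a 1 1 true [Col.b, Col.a, Col.b, Col.a, Col.b, Col.a, Col.b]
noncomputable def E_8 (t q : ℕ) : Bool := Nat.beq (G_e t (G_c t (G_b t (G_a t (G_c t (G_b t (G_a t (G_c t (G_b t (F_a q)))))))))) q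
noncomputable def a_8 : CfsgLib.TC.AG Col := .word .a 29 0 true [Col.b, Col.c, Col.a, Col.b, Col.c, Col.a, Col.b, Col.c, Col.e]
noncomputable def E_9 (t q : ℕ) : Bool := Nat.beq (G_b t (G_c t (G_a t (G_b t (G_c t (G_a t (G_b t (G_c t (G_e t (F_a q)))))))))) q
noncomputable def a_9 : CfsgLib.TC.AG Col := .word .a 29 9 false [Col.e, Col.c, Col.b, Col.a, Col.c, Col.b, Col.a, Col.c, Col.b]
noncomputable def E_10 (t q : ℕ) : Bool := Nat.beq (G_c t (G_b t (G_a t (G_c t (G_b t (G_a t (G_e t (G_c t (G_b t (F_a q)))))))))) q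
noncomputable def a_10 : CfsgLib.TC.AG Col := .word .a 29 6 true [Col.b, Col.c, Col.e, Col.a, Col.b, Col.c, Col.a, Col.b, Col.c]
noncomputable def E_11 (t q : ℕ) : Bool := Nat.beq (G_d t (G_c t (G_d t (G_c t (G_d t (G_c t (G_d t (G_c t (G_d t (G_c t (F_a q))))))))))) q
noncomputable def a_11 : CfsgLib.TC.AG Col := .word .a 30 10 true [Col.c, Col.d, Col.c, Col.d, Col.c, Col.d, Col.c, Col.d, Col.c, Col.d]
noncomputable def E_12 (t q : ℕ) : Bool := Nat.beq (G_b t (G_c t (G_e t (G_a t (G_b t (G_c t (G_a t (G_b t (G_c t (F_a q)))))))))) q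
noncomputable def a_12 : CfsgLib.TC.AG Col := .word .a 29 3 false [Col.c, Col.b, Col.a, Col.c, Col.b, Col.a, Col.e, Col.c, Col.b]
noncomputable def E_13 (t q : ℕ) : Bool := Nat.beq (G_c t (G_b t (G_a t (G_e t (G_c t (G_b t (G_a t (G_c t (G_b t (F_a q)))))))))) q
noncomputable def a_13 : CfsgLib.TC.AG Col := .word .a 29 3 true [Col.b, Col.c, Col.a, Col.b, Col.c, Col.e, Col.a, Col.b, Col.c]
noncomputable def E_14 (t q : ℕ) : Bool := band (Nat.beq q0 q) (Nat.beq (F_a q) q0)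
noncomputable def a_14 : CfsgLib.TC.AG Col := .base .a 0 [] []
noncomputable def D_a (q : ℕ) : Bool := (Bool.rec (motive := fun _ => Bool) (Bool.rec (motive := fun _ => Bool) (E_0 (Nat.mod (Bool.rec (motive := fun _ => ℕ) (Bool.rec (motive := fun _ => ℕ) (Bool.rec (motive := fun _ => ℕ) U_a_0 (Bool.rec (motive := fun _ => ℕ) U_a_1 U_a_2 (Nat.ble (nat_lit 1162541) q)) (Nat.ble (nat_lit 1105579) q)) (Bool.rec (motive := fun _ => ℕ) U_a_3 (Bool.rec (motive := fun _ => ℕ) U_a_4 U_a_5 (Nat.ble (nat_lit 1335233) q)) (Nat.ble (nat_lit 1277147) q)) (Nat.ble (nat_lit 1219607) q)) (Bool.rec (motive := fun _ => ℕ) (Bool.rec (motive := fun _ => ℕ) U_a_6 (Bool.rec (motive := fun _ => ℕ) U_a_7 U_a_8 (Nat.ble (nat_lit 1508719) q)) (Nat.ble (nat_lit 1450907) q)) (Bool.rec (motive := fun _ => ℕ) (Bool.rec (motive := fun _ => ℕ) U_a_9 U_a_10 (Nat.ble (nat_lit 1626301) q)) (Bool.rec (motive := fun _ => ℕ) U_a_11 U_a_12 (Nat.ble (nat_lit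 1744087) q)) (Nat.ble (nat_lit 1684993) q)) (Nat.ble (nat_lit 1567409) q)) (Nat.ble (nat_lit 1393159) q)) q) q) (E_1 (Nat.mod (Bool.rec (motive := fun _ => ℕ) (Bool.rec (motive := fun _ => ℕ) (Bool.rec (motive := fun _ => ℕ) U_a_0 (Bool.rec (motive := fun _ => ℕ) U_a_1 U_a_2 (Nat.ble (nat_lit 1162541) q)) (Nat.ble (nat_lit 1105579) q)) (Bool.rec (motive := fun _ => ℕ) U_a_3 (Bool.rec (motive := fun _ => ℕ) U_a_4 U_a_5 (Nat.ble (nat_lit 1335233) q)) (Nat.ble (nat_lit 1277147) q)) (Nat.ble (nat_lit 1219607) q)) (Bool.rec (motive := fun _ => ℕ) (Bool.rec (motive := fun _ => ℕ) U_a_6 (Bool.rec (motive := fun _ => ℕ) U_a_7 U_a_8 (Nat.ble (nat_lit 1508719) q)) (Nat.ble (nat_lit 1450907) q)) (Bool.rec (motive := fun _ => ℕ) (Bool.rec (motive := fun _ => ℕ) U_a_9 U_a_10 (Nat.ble (nat_lit 1626301) q)) (Bool.rec (motive := fun _ => ℕ) U_a_11 U_a_12 (Nat.ble (nat_lit 1744087) q)) (Nat.ble (nat_lit 1684993) q)) (Nat.ble (nat_lit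 1567409) q)) (Nat.ble (nat_lit 1393159) q)) q) q) (Nat.ble (nat_lit 1) (Nat.mod (Bool.rec (motive := fun _ => ℕ) (Bool.rec (motive := fun _ => ℕ) (Bool.rec (motive := fun _ => ℕ) V_a_0 (Bool.rec (motive := fun _ => ℕ) V_a_1 V_a_2 (Nat.ble (nat_lit 1162541) q)) (Nat.ble (nat_lit 1105579) q)) (Bool.rec (motive := fun _ => ℕ) V_a_3 (Bool.rec (motive := fun _ => ℕ) V_a_4 V_a_5 (Nat.ble (nat_lit 1335233) q)) (Nat.ble (nat_lit 1277147) q)) (Nat.ble (nat_lit 1219607) q)) (Bool.rec (motive := fun _ => ℕ) (Bool.rec (motive := fun _ => ℕ) V_a_6 (Bool.rec (motive := fun _ => ℕ) V_a_7 V_a_8 (Nat.ble (nat_lit 1508719) q)) (Nat.ble (nat_lit 1450907) q)) (Bool.rec (motive := fun _ => ℕ) (Bool.rec (motive := fun _ => ℕ) V_a_9 V_a_10 (Nat.ble (nat_lit 1626301) q)) (Bool.rec (motive := fun _ => ℕ) V_a_11 V_a_12 (Nat.ble (nat_lit 1744087) q)) (Nat.ble (nat_lit 1684993) q)) (Nat.ble (nat_lit 1567409) q)) (Nat.ble (nat_lit 1393159) q))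 q))) (Bool.rec (motive := fun _ => Bool) (Bool.rec (motive := fun _ => Bool) (Bool.rec (motive := fun _ => Bool) (E_2 (Nat.mod (Bool.rec (motive := fun _ => ℕ) (Bool.rec (motive := fun _ => ℕ) (Bool.rec (motive := fun _ => ℕ) U_a_0 (Bool.rec (motive := fun _ => ℕ) U_a_1 U_a_2 (Nat.ble (nat_lit 1162541) q)) (Nat.ble (nat_lit 1105579) q)) (Bool.rec (motive := fun _ => ℕ) U_a_3 (Bool.rec (motive := fun _ => ℕ) U_a_4 U_a_5 (Nat.ble (nat_lit 1335233) q)) (Nat.ble (nat_lit 1277147) q)) (Nat.ble (nat_lit 1219607) q)) (Bool.rec (motive := fun _ => ℕ) (Bool.rec (motive := fun _ => ℕ) U_a_6 (Bool.rec (motive := fun _ => ℕ) U_a_7 U_a_8 (Nat.ble (nat_lit 1508719) q)) (Nat.ble (nat_lit 1450907) q)) (Bool.rec (motive := fun _ => ℕ) (Bool.rec (motive := fun _ => ℕ) U_a_9 U_a_10 (Nat.ble (nat_lit 1626301) q)) (Bool.rec (motive := fun _ => ℕ) U_a_11 U_a_12 (Nat.ble (nat_lit 1744087) q)) (Nat.ble (nat_lit 1684993) q)) (Nat.ble (nat_lit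 1567409) q)) (Nat.ble (nat_lit 1393159) q)) q) q) (Bool.rec (motive := fun _ => Bool) (E_3 (Nat.mod (Bool.rec (motive := fun _ => ℕ) (Bool.rec (motive := fun _ => ℕ) (Bool.rec (motive := fun _ => ℕ) U_a_0 (Bool.rec (motive := fun _ => ℕ) U_a_1 U_a_2 (Nat.ble (nat_lit 1162541) q)) (Nat.ble (nat_lit 1105579) q)) (Bool.rec (motive := fun _ => ℕ) U_a_3 (Bool.rec (motive := fun _ => ℕ) U_a_4 U_a_5 (Nat.ble (nat_lit 1335233) q)) (Nat.ble (nat_lit 1277147) q)) (Nat.ble (nat_lit 1219607) q)) (Bool.rec (motive := fun _ => ℕ) (Bool.rec (motive := fun _ => ℕ) U_a_6 (Bool.rec (motive := fun _ => ℕ) U_a_7 U_a_8 (Nat.ble (nat_lit 1508719) q)) (Nat.ble (nat_lit 1450907) q)) (Bool.rec (motive := fun _ => ℕ) (Bool.rec (motive := fun _ => ℕ) U_a_9 U_a_10 (Nat.ble (nat_lit 1626301) q)) (Bool.rec (motive := fun _ => ℕ) U_a_11 U_a_12 (Nat.ble (nat_lit 1744087) q)) (Nat.ble (nat_lit 1684993) q)) (Nat.ble (nat_lit 1567409) q)) (Nat.ble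 (nat_lit 1393159) q)) q) q) (E_4 (Nat.mod (Bool.rec (motive := fun _ => ℕ) (Bool.rec (motive := fun _ => ℕ) (Bool.rec (motive := fun _ => ℕ) U_a_0 (Bool.rec (motive := fun _ => ℕ) U_a_1 U_a_2 (Nat.ble (nat_lit 1162541) q)) (Nat.ble (nat_lit 1105579) q)) (Bool.rec (motive := fun _ => ℕ) U_a_3 (Bool.rec (motive := fun _ => ℕ) U_a_4 U_a_5 (Nat.ble (nat_lit 1335233) q)) (Nat.ble (nat_lit 1277147) q)) (Nat.ble (nat_lit 1219607) q)) (Bool.rec (motive := fun _ => ℕ) (Bool.rec (motive := fun _ => ℕ) U_a_6 (Bool.rec (motive := fun _ => ℕ) U_a_7 U_a_8 (Nat.ble (nat_lit 1508719) q)) (Nat.ble (nat_lit 1450907) q)) (Bool.rec (motive := fun _ => ℕ) (Bool.rec (motive := fun _ => ℕ) U_a_9 U_a_10 (Nat.ble (nat_lit 1626301) q)) (Bool.rec (motive := fun _ => ℕ) U_a_11 U_a_12 (Nat.ble (nat_lit 1744087) q)) (Nat.ble (nat_lit 1684993) q)) (Nat.ble (nat_lit 1567409) q)) (Nat.ble (nat_lit 1393159) q)) q) q) (Nat.ble (nat_lit 4) (Nat.mod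 (Bool.rec (motive := fun _ => ℕ) (Bool.rec (motive := fun _ => ℕ) (Bool.rec (motive := fun _ => ℕ) V_a_0 (Bool.rec (motive := fun _ => ℕ) V_a_1 V_a_2 (Nat.ble (nat_lit 1162541) q)) (Nat.ble (nat_lit 1105579) q)) (Bool.rec (motive := fun _ => ℕ) V_a_3 (Bool.rec (motive := fun _ => ℕ) V_a_4 V_a_5 (Nat.ble (nat_lit 1335233) q)) (Nat.ble (nat_lit 1277147) q)) (Nat.ble (nat_lit 1219607) q)) (Bool.rec (motive := fun _ => ℕ) (Bool.rec (motive := fun _ => ℕ) V_a_6 (Bool.rec (motive := fun _ => ℕ) V_a_7 V_a_8 (Nat.ble (nat_lit 1508719) q)) (Nat.ble (nat_lit 1450907) q)) (Bool.rec (motive := fun _ => ℕ) (Bool.rec (motive := fun _ => ℕ) V_a_9 V_a_10 (Nat.ble (nat_lit 1626301) q)) (Bool.rec (motive := fun _ => ℕ) V_a_11 V_a_12 (Nat.ble (nat_lit 1744087) q)) (Nat.ble (nat_lit 1684993) q)) (Nat.ble (nat_lit 1567409) q)) (Nat.ble (nat_lit 1393159) q)) q))) (Nat.ble (nat_lit 3) (Nat.mod (Bool.rec (motive := fun _ => ℕ) (Bool.rec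 (motive := fun _ => ℕ) (Bool.rec (motive := fun _ => ℕ) V_a_0 (Bool.rec (motive := fun _ => ℕ) V_a_1 V_a_2 (Nat.ble (nat_lit 1162541) q)) (Nat.ble (nat_lit 1105579) q)) (Bool.rec (motive := fun _ => ℕ) V_a_3 (Bool.rec (motive := fun _ => ℕ) V_a_4 V_a_5 (Nat.ble (nat_lit 1335233) q)) (Nat.ble (nat_lit 1277147) q)) (Nat.ble (nat_lit 1219607) q)) (Bool.rec (motive := fun _ => ℕ) (Bool.rec (motive := fun _ => ℕ) V_a_6 (Bool.rec (motive := fun _ => ℕ) V_a_7 V_a_8 (Nat.ble (nat_lit 1508719) q)) (Nat.ble (nat_lit 1450907) q)) (Bool.rec (motive := fun _ => ℕ) (Bool.rec (motive := fun _ => ℕ) V_a_9 V_a_10 (Nat.ble (nat_lit 1626301) q)) (Bool.rec (motive := fun _ => ℕ) V_a_11 V_a_12 (Nat.ble (nat_lit 1744087) q)) (Nat.ble (nat_lit 1684993) q)) (Nat.ble (nat_lit 1567409) q)) (Nat.ble (nat_lit 1393159) q)) q))) (Bool.rec (motive := fun _ => Bool) (E_5 (Nat.mod (Bool.rec (motive := fun _ => ℕ) (Bool.rec (motive := fun _ => ℕ)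 (Bool.rec (motive := fun _ => ℕ) U_a_0 (Bool.rec (motive := fun _ => ℕ) U_a_1 U_a_2 (Nat.ble (nat_lit 1162541) q)) (Nat.ble (nat_lit 1105579) q)) (Bool.rec (motive := fun _ => ℕ) U_a_3 (Bool.rec (motive := fun _ => ℕ) U_a_4 U_a_5 (Nat.ble (nat_lit 1335233) q)) (Nat.ble (nat_lit 1277147) q)) (Nat.ble (nat_lit 1219607) q)) (Bool.rec (motive := fun _ => ℕ) (Bool.rec (motive := fun _ => ℕ) U_a_6 (Bool.rec (motive := fun _ => ℕ) U_a_7 U_a_8 (Nat.ble (nat_lit 1508719) q)) (Nat.ble (nat_lit 1450907) q)) (Bool.rec (motive := fun _ => ℕ) (Bool.rec (motive := fun _ => ℕ) U_a_9 U_a_10 (Nat.ble (nat_lit 1626301) q)) (Bool.rec (motive := fun _ => ℕ) U_a_11 U_a_12 (Nat.ble (nat_lit 1744087) q)) (Nat.ble (nat_lit 1684993) q)) (Nat.ble (nat_lit 1567409) q)) (Nat.ble (nat_lit 1393159) q)) q) q) (Bool.rec (motive := fun _ => Bool) (E_6 (Nat.mod (Bool.rec (motive := fun _ => ℕ) (Bool.rec (motive := fun _ => ℕ) (Bool.rec (motive := fun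 _ => ℕ) U_a_0 (Bool.rec (motive := fun _ => ℕ) U_a_1 U_a_2 (Nat.ble (nat_lit 1162541) q)) (Nat.ble (nat_lit 1105579) q)) (Bool.rec (motive := fun _ => ℕ) U_a_3 (Bool.rec (motive := fun _ => ℕ) U_a_4 U_a_5 (Nat.ble (nat_lit 1335233) q)) (Nat.ble (nat_lit 1277147) q)) (Nat.ble (nat_lit 1219607) q)) (Bool.rec (motive := fun _ => ℕ) (Bool.rec (motive := fun _ => ℕ) U_a_6 (Bool.rec (motive := fun _ => ℕ) U_a_7 U_a_8 (Nat.ble (nat_lit 1508719) q)) (Nat.ble (nat_lit 1450907) q)) (Bool.rec (motive := fun _ => ℕ) (Bool.rec (motive := fun _ => ℕ) U_a_9 U_a_10 (Nat.ble (nat_lit 1626301) q)) (Bool.rec (motive := fun _ => ℕ) U_a_11 U_a_12 (Nat.ble (nat_lit 1744087) q)) (Nat.ble (nat_lit 1684993) q)) (Nat.ble (nat_lit 1567409) q)) (Nat.ble (nat_lit 1393159) q)) q) q) (E_7 (Nat.mod (Bool.rec (motive := fun _ => ℕ) (Bool.rec (motive := fun _ => ℕ) (Bool.rec (motive := fun _ => ℕ) U_a_0 (Bool.rec (motive := fun _ => ℕ) U_a_1 U_a_2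 (Nat.ble (nat_lit 1162541) q)) (Nat.ble (nat_lit 1105579) q)) (Bool.rec (motive := fun _ => ℕ) U_a_3 (Bool.rec (motive := fun _ => ℕ) U_a_4 U_a_5 (Nat.ble (nat_lit 1335233) q)) (Nat.ble (nat_lit 1277147) q)) (Nat.ble (nat_lit 1219607) q)) (Bool.rec (motive := fun _ => ℕ) (Bool.rec (motive := fun _ => ℕ) U_a_6 (Bool.rec (motive := fun _ => ℕ) U_a_7 U_a_8 (Nat.ble (nat_lit 1508719) q)) (Nat.ble (nat_lit 1450907) q)) (Bool.rec (motive := fun _ => ℕ) (Bool.rec (motive := fun _ => ℕ) U_a_9 U_a_10 (Nat.ble (nat_lit 1626301) q)) (Bool.rec (motive := fun _ => ℕ) U_a_11 U_a_12 (Nat.ble (nat_lit 1744087) q)) (Nat.ble (nat_lit 1684993) q)) (Nat.ble (nat_lit 1567409) q)) (Nat.ble (nat_lit 1393159) q)) q) q) (Nat.ble (nat_lit 7) (Nat.mod (Bool.rec (motive := fun _ => ℕ) (Bool.rec (motive := fun _ => ℕ) (Bool.rec (motive := fun _ => ℕ) V_a_0 (Bool.rec (motive := fun _ => ℕ) V_a_1 V_a_2 (Nat.ble (nat_lit 1162541) q)) (Nat.ble (nat_lit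 1105579) q)) (Bool.rec (motive := fun _ => ℕ) V_a_3 (Bool.rec (motive := fun _ => ℕ) V_a_4 V_a_5 (Nat.ble (nat_lit 1335233) q)) (Nat.ble (nat_lit 1277147) q)) (Nat.ble (nat_lit 1219607) q)) (Bool.rec (motive := fun _ => ℕ) (Bool.rec (motive := fun _ => ℕ) V_a_6 (Bool.rec (motive := fun _ => ℕ) V_a_7 V_a_8 (Nat.ble (nat_lit 1508719) q)) (Nat.ble (nat_lit 1450907) q)) (Bool.rec (motive := fun _ => ℕ) (Bool.rec (motive := fun _ => ℕ) V_a_9 V_a_10 (Nat.ble (nat_lit 1626301) q)) (Bool.rec (motive := fun _ => ℕ) V_a_11 V_a_12 (Nat.ble (nat_lit 1744087) q)) (Nat.ble (nat_lit 1684993) q)) (Nat.ble (nat_lit 1567409) q)) (Nat.ble (nat_lit 1393159) q)) q))) (Nat.ble (nat_lit 6) (Nat.mod (Bool.rec (motive := fun _ => ℕ) (Bool.rec (motive := fun _ => ℕ) (Bool.rec (motive := fun _ => ℕ) V_a_0 (Bool.rec (motive := fun _ => ℕ) V_a_1 V_a_2 (Nat.ble (nat_lit 1162541) q)) (Nat.ble (nat_lit 1105579) q)) (Bool.rec (motive := fun _ =>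 ℕ) V_a_3 (Bool.rec (motive := fun _ => ℕ) V_a_4 V_a_5 (Nat.ble (nat_lit 1335233) q)) (Nat.ble (nat_lit 1277147) q)) (Nat.ble (nat_lit 1219607) q)) (Bool.rec (motive := fun _ => ℕ) (Bool.rec (motive := fun _ => ℕ) V_a_6 (Bool.rec (motive := fun _ => ℕ) V_a_7 V_a_8 (Nat.ble (nat_lit 1508719) q)) (Nat.ble (nat_lit 1450907) q)) (Bool.rec (motive := fun _ => ℕ) (Bool.rec (motive := fun _ => ℕ) V_a_9 V_a_10 (Nat.ble (nat_lit 1626301) q)) (Bool.rec (motive := fun _ => ℕ) V_a_11 V_a_12 (Nat.ble (nat_lit 1744087) q)) (Nat.ble (nat_lit 1684993) q)) (Nat.ble (nat_lit 1567409) q)) (Nat.ble (nat_lit 1393159) q)) q))) (Nat.ble (nat_lit 5) (Nat.mod (Bool.rec (motive := fun _ => ℕ) (Bool.rec (motive := fun _ => ℕ) (Bool.rec (motive := fun _ => ℕ) V_a_0 (Bool.rec (motive := fun _ => ℕ) V_a_1 V_a_2 (Nat.ble (nat_lit 1162541) q)) (Nat.ble (nat_lit 1105579) q)) (Bool.rec (motive := fun _ => ℕ) V_a_3 (Bool.rec (motive := fun _ => ℕ) V_a_4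 V_a_5 (Nat.ble (nat_lit 1335233) q)) (Nat.ble (nat_lit 1277147) q)) (Nat.ble (nat_lit 1219607) q)) (Bool.rec (motive := fun _ => ℕ) (Bool.rec (motive := fun _ => ℕ) V_a_6 (Bool.rec (motive := fun _ => ℕ) V_a_7 V_a_8 (Nat.ble (nat_lit 1508719) q)) (Nat.ble (nat_lit 1450907) q)) (Bool.rec (motive := fun _ => ℕ) (Bool.rec (motive := fun _ => ℕ) V_a_9 V_a_10 (Nat.ble (nat_lit 1626301) q)) (Bool.rec (motive := fun _ => ℕ) V_a_11 V_a_12 (Nat.ble (nat_lit 1744087) q)) (Nat.ble (nat_lit 1684993) q)) (Nat.ble (nat_lit 1567409) q)) (Nat.ble (nat_lit 1393159) q)) q))) (Bool.rec (motive := fun _ => Bool) (Bool.rec (motive := fun _ => Bool) (E_8 (Nat.mod (Bool.rec (motive := fun _ => ℕ) (Bool.rec (motive := fun _ => ℕ) (Bool.rec (motive := fun _ => ℕ) U_a_0 (Bool.rec (motive := fun _ => ℕ) U_a_1 U_a_2 (Nat.ble (nat_lit 1162541) q)) (Nat.ble (nat_lit 1105579) q)) (Bool.rec (motive := fun _ => ℕ) U_a_3 (Bool.rec (motive := fun _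 => ℕ) U_a_4 U_a_5 (Nat.ble (nat_lit 1335233) q)) (Nat.ble (nat_lit 1277147) q)) (Nat.ble (nat_lit 1219607) q)) (Bool.rec (motive := fun _ => ℕ) (Bool.rec (motive := fun _ => ℕ) U_a_6 (Bool.rec (motive := fun _ => ℕ) U_a_7 U_a_8 (Nat.ble (nat_lit 1508719) q)) (Nat.ble (nat_lit 1450907) q)) (Bool.rec (motive := fun _ => ℕ) (Bool.rec (motive := fun _ => ℕ) U_a_9 U_a_10 (Nat.ble (nat_lit 1626301) q)) (Bool.rec (motive := fun _ => ℕ) U_a_11 U_a_12 (Nat.ble (nat_lit 1744087) q)) (Nat.ble (nat_lit 1684993) q)) (Nat.ble (nat_lit 1567409) q)) (Nat.ble (nat_lit 1393159) q)) q) q) (Bool.rec (motive := fun _ => Bool) (E_9 (Nat.mod (Bool.rec (motive := fun _ => ℕ) (Bool.rec (motive := fun _ => ℕ) (Bool.rec (motive := fun _ => ℕ) U_a_0 (Bool.rec (motive := fun _ => ℕ) U_a_1 U_a_2 (Nat.ble (nat_lit 1162541) q)) (Nat.ble (nat_lit 1105579) q)) (Bool.rec (motive := fun _ => ℕ) U_a_3 (Bool.rec (motive := fun _ => ℕ) U_a_4 U_a_5 (Nat.ble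 (nat_lit 1335233) q)) (Nat.ble (nat_lit 1277147) q)) (Nat.ble (nat_lit 1219607) q)) (Bool.rec (motive := fun _ => ℕ) (Bool.rec (motive := fun _ => ℕ) U_a_6 (Bool.rec (motive := fun _ => ℕ) U_a_7 U_a_8 (Nat.ble (nat_lit 1508719) q)) (Nat.ble (nat_lit 1450907) q)) (Bool.rec (motive := fun _ => ℕ) (Bool.rec (motive := fun _ => ℕ) U_a_9 U_a_10 (Nat.ble (nat_lit 1626301) q)) (Bool.rec (motive := fun _ => ℕ) U_a_11 U_a_12 (Nat.ble (nat_lit 1744087) q)) (Nat.ble (nat_lit 1684993) q)) (Nat.ble (nat_lit 1567409) q)) (Nat.ble (nat_lit 1393159) q)) q) q) (E_10 (Nat.mod (Bool.rec (motive := fun _ => ℕ) (Bool.rec (motive := fun _ => ℕ) (Bool.rec (motive := fun _ => ℕ) U_a_0 (Bool.rec (motive := fun _ => ℕ) U_a_1 U_a_2 (Nat.ble (nat_lit 1162541) q)) (Nat.ble (nat_lit 1105579) q)) (Bool.rec (motive := fun _ => ℕ) U_a_3 (Bool.rec (motive := fun _ => ℕ) U_a_4 U_a_5 (Nat.ble (nat_lit 1335233) q)) (Nat.ble (nat_lit 1277147) q)) (Nat.ble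 (nat_lit 1219607) q)) (Bool.rec (motive := fun _ => ℕ) (Bool.rec (motive := fun _ => ℕ) U_a_6 (Bool.rec (motive := fun _ => ℕ) U_a_7 U_a_8 (Nat.ble (nat_lit 1508719) q)) (Nat.ble (nat_lit 1450907) q)) (Bool.rec (motive := fun _ => ℕ) (Bool.rec (motive := fun _ => ℕ) U_a_9 U_a_10 (Nat.ble (nat_lit 1626301) q)) (Bool.rec (motive := fun _ => ℕ) U_a_11 U_a_12 (Nat.ble (nat_lit 1744087) q)) (Nat.ble (nat_lit 1684993) q)) (Nat.ble (nat_lit 1567409) q)) (Nat.ble (nat_lit 1393159) q)) q) q) (Nat.ble (nat_lit 10) (Nat.mod (Bool.rec (motive := fun _ => ℕ) (Bool.rec (motive := fun _ => ℕ) (Bool.rec (motive := fun _ => ℕ) V_a_0 (Bool.rec (motive := fun _ => ℕ) V_a_1 V_a_2 (Nat.ble (nat_lit 1162541) q)) (Nat.ble (nat_lit 1105579) q)) (Bool.rec (motive := fun _ => ℕ) V_a_3 (Bool.rec (motive := fun _ => ℕ) V_a_4 V_a_5 (Nat.ble (nat_lit 1335233) q)) (Nat.ble (nat_lit 1277147) q)) (Nat.ble (nat_lit 1219607) q)) (Bool.rec (motive :=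 fun _ => ℕ) (Bool.rec (motive := fun _ => ℕ) V_a_6 (Bool.rec (motive := fun _ => ℕ) V_a_7 V_a_8 (Nat.ble (nat_lit 1508719) q)) (Nat.ble (nat_lit 1450907) q)) (Bool.rec (motive := fun _ => ℕ) (Bool.rec (motive := fun _ => ℕ) V_a_9 V_a_10 (Nat.ble (nat_lit 1626301) q)) (Bool.rec (motive := fun _ => ℕ) V_a_11 V_a_12 (Nat.ble (nat_lit 1744087) q)) (Nat.ble (nat_lit 1684993) q)) (Nat.ble (nat_lit 1567409) q)) (Nat.ble (nat_lit 1393159) q)) q))) (Nat.ble (nat_lit 9) (Nat.mod (Bool.rec (motive := fun _ => ℕ) (Bool.rec (motive := fun _ => ℕ) (Bool.rec (motive := fun _ => ℕ) V_a_0 (Bool.rec (motive := fun _ => ℕ) V_a_1 V_a_2 (Nat.ble (nat_lit 1162541) q)) (Nat.ble (nat_lit 1105579) q)) (Bool.rec (motive := fun _ => ℕ) V_a_3 (Bool.rec (motive := fun _ => ℕ) V_a_4 V_a_5 (Nat.ble (nat_lit 1335233) q)) (Nat.ble (nat_lit 1277147) q)) (Nat.ble (nat_lit 1219607) q)) (Bool.rec (motive := fun _ => ℕ) (Bool.rec (motive := fun _ => ℕ)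 V_a_6 (Bool.rec (motive := fun _ => ℕ) V_a_7 V_a_8 (Nat.ble (nat_lit 1508719) q)) (Nat.ble (nat_lit 1450907) q)) (Bool.rec (motive := fun _ => ℕ) (Bool.rec (motive := fun _ => ℕ) V_a_9 V_a_10 (Nat.ble (nat_lit 1626301) q)) (Bool.rec (motive := fun _ => ℕ) V_a_11 V_a_12 (Nat.ble (nat_lit 1744087) q)) (Nat.ble (nat_lit 1684993) q)) (Nat.ble (nat_lit 1567409) q)) (Nat.ble (nat_lit 1393159) q)) q))) (Bool.rec (motive := fun _ => Bool) (Bool.rec (motive := fun _ => Bool) (E_11 (Nat.mod (Bool.rec (motive := fun _ => ℕ) (Bool.rec (motive := fun _ => ℕ) (Bool.rec (motive := fun _ => ℕ) U_a_0 (Bool.rec (motive := fun _ => ℕ) U_a_1 U_a_2 (Nat.ble (nat_lit 1162541) q)) (Nat.ble (nat_lit 1105579) q)) (Bool.rec (motive := fun _ => ℕ) U_a_3 (Bool.rec (motive := fun _ => ℕ) U_a_4 U_a_5 (Nat.ble (nat_lit 1335233) q)) (Nat.ble (nat_lit 1277147) q)) (Nat.ble (nat_lit 1219607) q)) (Bool.rec (motive := fun _ => ℕ) (Bool.rec (motive :=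 fun _ => ℕ) U_a_6 (Bool.rec (motive := fun _ => ℕ) U_a_7 U_a_8 (Nat.ble (nat_lit 1508719) q)) (Nat.ble (nat_lit 1450907) q)) (Bool.rec (motive := fun _ => ℕ) (Bool.rec (motive := fun _ => ℕ) U_a_9 U_a_10 (Nat.ble (nat_lit 1626301) q)) (Bool.rec (motive := fun _ => ℕ) U_a_11 U_a_12 (Nat.ble (nat_lit 1744087) q)) (Nat.ble (nat_lit 1684993) q)) (Nat.ble (nat_lit 1567409) q)) (Nat.ble (nat_lit 1393159) q)) q) q) (E_12 (Nat.mod (Bool.rec (motive := fun _ => ℕ) (Bool.rec (motive := fun _ => ℕ) (Bool.rec (motive := fun _ => ℕ) U_a_0 (Bool.rec (motive := fun _ => ℕ) U_a_1 U_a_2 (Nat.ble (nat_lit 1162541) q)) (Nat.ble (nat_lit 1105579) q)) (Bool.rec (motive := fun _ => ℕ) U_a_3 (Bool.rec (motive := fun _ => ℕ) U_a_4 U_a_5 (Nat.ble (nat_lit 1335233) q)) (Nat.ble (nat_lit 1277147) q)) (Nat.ble (nat_lit 1219607) q)) (Bool.rec (motive := fun _ => ℕ) (Bool.rec (motive := fun _ => ℕ) U_a_6 (Bool.rec (motive := fun _ => ℕ) U_a_7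 U_a_8 (Nat.ble (nat_lit 1508719) q)) (Nat.ble (nat_lit 1450907) q)) (Bool.rec (motive := fun _ => ℕ) (Bool.rec (motive := fun _ => ℕ) U_a_9 U_a_10 (Nat.ble (nat_lit 1626301) q)) (Bool.rec (motive := fun _ => ℕ) U_a_11 U_a_12 (Nat.ble (nat_lit 1744087) q)) (Nat.ble (nat_lit 1684993) q)) (Nat.ble (nat_lit 1567409) q)) (Nat.ble (nat_lit 1393159) q)) q) q) (Nat.ble (nat_lit 12) (Nat.mod (Bool.rec (motive := fun _ => ℕ) (Bool.rec (motive := fun _ => ℕ) (Bool.rec (motive := fun _ => ℕ) V_a_0 (Bool.rec (motive := fun _ => ℕ) V_a_1 V_a_2 (Nat.ble (nat_lit 1162541) q)) (Nat.ble (nat_lit 1105579) q)) (Bool.rec (motive := fun _ => ℕ) V_a_3 (Bool.rec (motive := fun _ => ℕ) V_a_4 V_a_5 (Nat.ble (nat_lit 1335233) q)) (Nat.ble (nat_lit 1277147) q)) (Nat.ble (nat_lit 1219607) q)) (Bool.rec (motive := fun _ => ℕ) (Bool.rec (motive := fun _ => ℕ) V_a_6 (Bool.rec (motive := fun _ => ℕ) V_a_7 V_a_8 (Nat.ble (nat_lit 1508719) q)) (Nat.ble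 (nat_lit 1450907) q)) (Bool.rec (motive := fun _ => ℕ) (Bool.rec (motive := fun _ => ℕ) V_a_9 V_a_10 (Nat.ble (nat_lit 1626301) q)) (Bool.rec (motive := fun _ => ℕ) V_a_11 V_a_12 (Nat.ble (nat_lit 1744087) q)) (Nat.ble (nat_lit 1684993) q)) (Nat.ble (nat_lit 1567409) q)) (Nat.ble (nat_lit 1393159) q)) q))) (Bool.rec (motive := fun _ => Bool) (E_13 (Nat.mod (Bool.rec (motive := fun _ => ℕ) (Bool.rec (motive := fun _ => ℕ) (Bool.rec (motive := fun _ => ℕ) U_a_0 (Bool.rec (motive := fun _ => ℕ) U_a_1 U_a_2 (Nat.ble (nat_lit 1162541) q)) (Nat.ble (nat_lit 1105579) q)) (Bool.rec (motive := fun _ => ℕ) U_a_3 (Bool.rec (motive := fun _ => ℕ) U_a_4 U_a_5 (Nat.ble (nat_lit 1335233) q)) (Nat.ble (nat_lit 1277147) q)) (Nat.ble (nat_lit 1219607) q)) (Bool.rec (motive := fun _ => ℕ) (Bool.rec (motive := fun _ => ℕ) U_a_6 (Bool.rec (motive := fun _ => ℕ) U_a_7 U_a_8 (Nat.ble (nat_lit 1508719) q)) (Nat.ble (nat_lit 1450907) q))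 (Bool.rec (motive := fun _ => ℕ) (Bool.rec (motive := fun _ => ℕ) U_a_9 U_a_10 (Nat.ble (nat_lit 1626301) q)) (Bool.rec (motive := fun _ => ℕ) U_a_11 U_a_12 (Nat.ble (nat_lit 1744087) q)) (Nat.ble (nat_lit 1684993) q)) (Nat.ble (nat_lit 1567409) q)) (Nat.ble (nat_lit 1393159) q)) q) q) (E_14 (Nat.mod (Bool.rec (motive := fun _ => ℕ) (Bool.rec (motive := fun _ => ℕ) (Bool.rec (motive := fun _ => ℕ) U_a_0 (Bool.rec (motive := fun _ => ℕ) U_a_1 U_a_2 (Nat.ble (nat_lit 1162541) q)) (Nat.ble (nat_lit 1105579) q)) (Bool.rec (motive := fun _ => ℕ) U_a_3 (Bool.rec (motive := fun _ => ℕ) U_a_4 U_a_5 (Nat.ble (nat_lit 1335233) q)) (Nat.ble (nat_lit 1277147) q)) (Nat.ble (nat_lit 1219607) q)) (Bool.rec (motive := fun _ => ℕ) (Bool.rec (motive := fun _ => ℕ) U_a_6 (Bool.rec (motive := fun _ => ℕ) U_a_7 U_a_8 (Nat.ble (nat_lit 1508719) q)) (Nat.ble (nat_lit 1450907) q)) (Bool.rec (motive := fun _ => ℕ) (Bool.rec (motive := fun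 _ => ℕ) U_a_9 U_a_10 (Nat.ble (nat_lit 1626301) q)) (Bool.rec (motive := fun _ => ℕ) U_a_11 U_a_12 (Nat.ble (nat_lit 1744087) q)) (Nat.ble (nat_lit 1684993) q)) (Nat.ble (nat_lit 1567409) q)) (Nat.ble (nat_lit 1393159) q)) q) q) (Nat.ble (nat_lit 14) (Nat.mod (Bool.rec (motive := fun _ => ℕ) (Bool.rec (motive := fun _ => ℕ) (Bool.rec (motive := fun _ => ℕ) V_a_0 (Bool.rec (motive := fun _ => ℕ) V_a_1 V_a_2 (Nat.ble (nat_lit 1162541) q)) (Nat.ble (nat_lit 1105579) q)) (Bool.rec (motive := fun _ => ℕ) V_a_3 (Bool.rec (motive := fun _ => ℕ) V_a_4 V_a_5 (Nat.ble (nat_lit 1335233) q)) (Nat.ble (nat_lit 1277147) q)) (Nat.ble (nat_lit 1219607) q)) (Bool.rec (motive := fun _ => ℕ) (Bool.rec (motive := fun _ => ℕ) V_a_6 (Bool.rec (motive := fun _ => ℕ) V_a_7 V_a_8 (Nat.ble (nat_lit 1508719) q)) (Nat.ble (nat_lit 1450907) q)) (Bool.rec (motive := fun _ => ℕ) (Bool.rec (motive := fun _ => ℕ) V_a_9 V_a_10 (Nat.ble (nat_lit 1626301)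 q)) (Bool.rec (motive := fun _ => ℕ) V_a_11 V_a_12 (Nat.ble (nat_lit 1744087) q)) (Nat.ble (nat_lit 1684993) q)) (Nat.ble (nat_lit 1567409) q)) (Nat.ble (nat_lit 1393159) q)) q))) (Nat.ble (nat_lit 13) (Nat.mod (Bool.rec (motive := fun _ => ℕ) (Bool.rec (motive := fun _ => ℕ) (Bool.rec (motive := fun _ => ℕ) V_a_0 (Bool.rec (motive := fun _ => ℕ) V_a_1 V_a_2 (Nat.ble (nat_lit 1162541) q)) (Nat.ble (nat_lit 1105579) q)) (Bool.rec (motive := fun _ => ℕ) V_a_3 (Bool.rec (motive := fun _ => ℕ) V_a_4 V_a_5 (Nat.ble (nat_lit 1335233) q)) (Nat.ble (nat_lit 1277147) q)) (Nat.ble (nat_lit 1219607) q)) (Bool.rec (motive := fun _ => ℕ) (Bool.rec (motive := fun _ => ℕ) V_a_6 (Bool.rec (motive := fun _ => ℕ) V_a_7 V_a_8 (Nat.ble (nat_lit 1508719) q)) (Nat.ble (nat_lit 1450907) q)) (Bool.rec (motive := fun _ => ℕ) (Bool.rec (motive := fun _ => ℕ) V_a_9 V_a_10 (Nat.ble (nat_lit 1626301) q)) (Bool.rec (motive := fun _ => ℕ) V_a_11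 V_a_12 (Nat.ble (nat_lit 1744087) q)) (Nat.ble (nat_lit 1684993) q)) (Nat.ble (nat_lit 1567409) q)) (Nat.ble (nat_lit 1393159) q)) q))) (Nat.ble (nat_lit 11) (Nat.mod (Bool.rec (motive := fun _ => ℕ) (Bool.rec (motive := fun _ => ℕ) (Bool.rec (motive := fun _ => ℕ) V_a_0 (Bool.rec (motive := fun _ => ℕ) V_a_1 V_a_2 (Nat.ble (nat_lit 1162541) q)) (Nat.ble (nat_lit 1105579) q)) (Bool.rec (motive := fun _ => ℕ) V_a_3 (Bool.rec (motive := fun _ => ℕ) V_a_4 V_a_5 (Nat.ble (nat_lit 1335233) q)) (Nat.ble (nat_lit 1277147) q)) (Nat.ble (nat_lit 1219607) q)) (Bool.rec (motive := fun _ => ℕ) (Bool.rec (motive := fun _ => ℕ) V_a_6 (Bool.rec (motive := fun _ => ℕ) V_a_7 V_a_8 (Nat.ble (nat_lit 1508719) q)) (Nat.ble (nat_lit 1450907) q)) (Bool.rec (motive := fun _ => ℕ) (Bool.rec (motive := fun _ => ℕ) V_a_9 V_a_10 (Nat.ble (nat_lit 1626301) q)) (Bool.rec (motive := fun _ => ℕ) V_a_11 V_a_12 (Nat.ble (nat_lit 1744087) q)) (Nat.ble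 (nat_lit 1684993) q)) (Nat.ble (nat_lit 1567409) q)) (Nat.ble (nat_lit 1393159) q)) q))) (Nat.ble (nat_lit 8) (Nat.mod (Bool.rec (motive := fun _ => ℕ) (Bool.rec (motive := fun _ => ℕ) (Bool.rec (motive := fun _ => ℕ) V_a_0 (Bool.rec (motive := fun _ => ℕ) V_a_1 V_a_2 (Nat.ble (nat_lit 1162541) q)) (Nat.ble (nat_lit 1105579) q)) (Bool.rec (motive := fun _ => ℕ) V_a_3 (Bool.rec (motive := fun _ => ℕ) V_a_4 V_a_5 (Nat.ble (nat_lit 1335233) q)) (Nat.ble (nat_lit 1277147) q)) (Nat.ble (nat_lit 1219607) q)) (Bool.rec (motive := fun _ => ℕ) (Bool.rec (motive := fun _ => ℕ) V_a_6 (Bool.rec (motive := fun _ => ℕ) V_a_7 V_a_8 (Nat.ble (nat_lit 1508719) q)) (Nat.ble (nat_lit 1450907) q)) (Bool.rec (motive := fun _ => ℕ) (Bool.rec (motive := fun _ => ℕ) V_a_9 V_a_10 (Nat.ble (nat_lit 1626301) q)) (Bool.rec (motive := fun _ => ℕ) V_a_11 V_a_12 (Nat.ble (nat_lit 1744087) q)) (Nat.ble (nat_lit 1684993) q)) (Nat.ble (nat_lit 1567409)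 q)) (Nat.ble (nat_lit 1393159) q)) q))) (Nat.ble (nat_lit 2) (Nat.mod (Bool.rec (motive := fun _ => ℕ) (Bool.rec (motive := fun _ => ℕ) (Bool.rec (motive := fun _ => ℕ) V_a_0 (Bool.rec (motive := fun _ => ℕ) V_a_1 V_a_2 (Nat.ble (nat_lit 1162541) q)) (Nat.ble (nat_lit 1105579) q)) (Bool.rec (motive := fun _ => ℕ) V_a_3 (Bool.rec (motive := fun _ => ℕ) V_a_4 V_a_5 (Nat.ble (nat_lit 1335233) q)) (Nat.ble (nat_lit 1277147) q)) (Nat.ble (nat_lit 1219607) q)) (Bool.rec (motive := fun _ => ℕ) (Bool.rec (motive := fun _ => ℕ) V_a_6 (Bool.rec (motive := fun _ => ℕ) V_a_7 V_a_8 (Nat.ble (nat_lit 1508719) q)) (Nat.ble (nat_lit 1450907) q)) (Bool.rec (motive := fun _ => ℕ) (Bool.rec (motive := fun _ => ℕ) V_a_9 V_a_10 (Nat.ble (nat_lit 1626301) q)) (Bool.rec (motive := fun _ => ℕ) V_a_11 V_a_12 (Nat.ble (nat_lit 1744087) q)) (Nat.ble (nat_lit 1684993) q)) (Nat.ble (nat_lit 1567409) q)) (Nat.ble (nat_lit 1393159) q)) q)))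
noncomputable def E_15 (t q : ℕ) : Bool := Nat.beq (G_b t (F_b q)) q
noncomputable def a_15 : CfsgLib.TC.AG Col := .word .b 7 0 true [Col.b]
noncomputable def E_16 (t q : ℕ) : Bool := Nat.beq (G_d t (G_b t (G_d t (F_b q)))) q
noncomputable def a_16 : CfsgLib.TC.AG Col := .word .b 9 1 true [Col.d, Col.b, Col.d]
noncomputable def E_17 (t q : ℕ) : Bool := Nat.beq (G_f t (G_b t (G_f t (F_b q)))) q
noncomputable def a_17 : CfsgLib.TC.AG Col := .word .b 11 1 true [Col.f, Col.b, Col.f]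
noncomputable def E_18 (t q : ℕ) : Bool := Nat.beq (G_g t (G_b t (G_g t (F_b q)))) q
noncomputable def a_18 : CfsgLib.TC.AG Col := .word .b 12 1 true [Col.g, Col.b, Col.g]
noncomputable def E_19 (t q : ℕ) : Bool := Nat.beq (G_e t (G_b t (G_e t (F_b q)))) q
noncomputable def a_19 : CfsgLib.TC.AG Col := .word .b 10 1 true [Col.e, Col.b, Col.e]
noncomputable def E_20 (t q : ℕ) : Bool := band (Nat.beq (PT (F_b q)) q) (band (Nat.beq (DT (F_b q)) 1) (band (Nat.ble (Nat.succ q) (F_b q)) (Nat.ble (Nat.succ q0) (F_b q))))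
noncomputable def a_20 : CfsgLib.TC.AG Col := .tree .b
noncomputable def E_21 (t q : ℕ) : Bool := Nat.beq (G_c t (G_b t (G_c t (G_b t (G_c t (F_b q)))))) q
noncomputable def a_21 : CfsgLib.TC.AG Col := .word .b 8 1 true [Col.c, Col.b, Col.c, Col.b, Col.c]
noncomputable def E_22 (t q : ℕ) : Bool := Nat.beq (G_a t (G_c t (G_b t (G_a t (G_e t (G_c t (G_b t (G_a t (G_c t (F_b q)))))))))) q
noncomputable def a_22 : CfsgLib.TC.AG Col := .word .b 29 4 true [Col.c, Col.a, Col.b, Col.c, Col.e, Col.a, Col.b, Col.c, Col.a]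
noncomputable def E_23 (t q : ℕ) : Bool := Nat.beq (G_a t (G_b t (G_a t (G_b t (G_a t (G_b t (G_a t (F_b q)))))))) q
noncomputable def a_23 : CfsgLib.TC.AG Col := .word .b 1 0 true [Col.a, Col.b, Col.a, Col.b, Col.a, Col.b, Col.a]
noncomputable def E_24 (t q : ℕ) : Bool := Nat.beq (G_a t (G_c t (G_b t (G_a t (G_c t (G_b t (G_a t (G_e t (G_c t (F_b q)))))))))) q
noncomputable def a_24 : CfsgLib.TC.AG Col := .word .b 29 7 true [Col.c, Col.e, Col.a, Col.b, Col.c, Col.a, Col.b, Col.c, Col.a]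
noncomputable def E_25 (t q : ℕ) : Bool := Nat.beq (G_c t (G_e t (G_a t (G_b t (G_c t (G_a t (G_b t (G_c t (G_a t (F_b q)))))))))) q
noncomputable def a_25 : CfsgLib.TC.AG Col := .word .b 29 2 false [Col.a, Col.c, Col.b, Col.a, Col.c, Col.b, Col.a, Col.e, Col.c]
noncomputable def E_26 (t q : ℕ) : Bool := Nat.beq (G_c t (G_a t (G_b t (G_c t (G_e t (G_a t (G_b t (G_c t (G_a t (F_b q)))))))))) q
noncomputable def a_26 : CfsgLib.TC.AG Col := .word .b 29 5 false [Col.a, Col.c, Col.b, Col.a, Col.e, Col.c, Col.b, Col.a, Col.c]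
noncomputable def E_27 (t q : ℕ) : Bool := Nat.beq (G_a t (G_e t (G_c t (G_b t (G_a t (G_c t (G_b t (G_a t (G_c t (F_b q)))))))))) q
noncomputable def a_27 : CfsgLib.TC.AG Col := .word .b 29 1 true [Col.c, Col.a, Col.b, Col.c, Col.a, Col.b, Col.c, Col.e, Col.a]
noncomputable def E_28 (t q : ℕ) : Bool := Nat.beq (G_c t (G_a t (G_b t (G_c t (G_a t (G_b t (G_c t (G_e t (G_a t (F_b q)))))))))) q
noncomputable def a_28 : CfsgLib.TC.AG Col := .word .b 29 8 false [Col.a, Col.e, Col.c, Col.b, Col.a, Col.c, Col.b, Col.a, Col.c]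
noncomputable def D_b (q : ℕ) : Bool := (Bool.rec (motive := fun _ => Bool) (Bool.rec (motive := fun _ => Bool) (E_15 (Nat.mod (Bool.rec (motive := fun _ => ℕ) (Bool.rec (motive := fun _ => ℕ) (Bool.rec (motive := fun _ => ℕ) U_b_0 (Bool.rec (motive := fun _ => ℕ) U_b_1 U_b_2 (Nat.ble (nat_lit 1162541) q)) (Nat.ble (nat_lit 1105579) q)) (Bool.rec (motive := fun _ => ℕ) U_b_3 (Bool.rec (motive := fun _ => ℕ) U_b_4 U_b_5 (Nat.ble (nat_lit 1335233) q)) (Nat.ble (nat_lit 1277147) q)) (Nat.ble (nat_lit 1219607) q)) (Bool.rec (motive := fun _ => ℕ) (Bool.rec (motive := fun _ => ℕ) U_b_6 (Bool.rec (motive := fun _ => ℕ) U_b_7 U_b_8 (Nat.ble (nat_lit 1508719) q)) (Nat.ble (nat_lit 1450907) q)) (Bool.rec (motive := fun _ => ℕ) (Bool.rec (motive := fun _ => ℕ) U_b_9 U_b_10 (Nat.ble (nat_lit 1626301) q)) (Bool.rec (motive := fun _ => ℕ) U_b_11 U_b_12 (Nat.ble (nat_lit 1744087) q)) (Nat.ble (nat_lit 1684993) q)) (Nat.ble (nat_lit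 1567409) q)) (Nat.ble (nat_lit 1393159) q)) q) q) (E_16 (Nat.mod (Bool.rec (motive := fun _ => ℕ) (Bool.rec (motive := fun _ => ℕ) (Bool.rec (motive := fun _ => ℕ) U_b_0 (Bool.rec (motive := fun _ => ℕ) U_b_1 U_b_2 (Nat.ble (nat_lit 1162541) q)) (Nat.ble (nat_lit 1105579) q)) (Bool.rec (motive := fun _ => ℕ) U_b_3 (Bool.rec (motive := fun _ => ℕ) U_b_4 U_b_5 (Nat.ble (nat_lit 1335233) q)) (Nat.ble (nat_lit 1277147) q)) (Nat.ble (nat_lit 1219607) q)) (Bool.rec (motive := fun _ => ℕ) (Bool.rec (motive := fun _ => ℕ) U_b_6 (Bool.rec (motive := fun _ => ℕ) U_b_7 U_b_8 (Nat.ble (nat_lit 1508719) q)) (Nat.ble (nat_lit 1450907) q)) (Bool.rec (motive := fun _ => ℕ) (Bool.rec (motive := fun _ => ℕ) U_b_9 U_b_10 (Nat.ble (nat_lit 1626301) q)) (Bool.rec (motive := fun _ => ℕ) U_b_11 U_b_12 (Nat.ble (nat_lit 1744087) q)) (Nat.ble (nat_lit 1684993) q)) (Nat.ble (nat_lit 1567409) q)) (Nat.ble (nat_lit 1393159) q)) q) q) (Nat.ble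 (nat_lit 1) (Nat.mod (Bool.rec (motive := fun _ => ℕ) (Bool.rec (motive := fun _ => ℕ) (Bool.rec (motive := fun _ => ℕ) V_b_0 (Bool.rec (motive := fun _ => ℕ) V_b_1 V_b_2 (Nat.ble (nat_lit 1162541) q)) (Nat.ble (nat_lit 1105579) q)) (Bool.rec (motive := fun _ => ℕ) V_b_3 (Bool.rec (motive := fun _ => ℕ) V_b_4 V_b_5 (Nat.ble (nat_lit 1335233) q)) (Nat.ble (nat_lit 1277147) q)) (Nat.ble (nat_lit 1219607) q)) (Bool.rec (motive := fun _ => ℕ) (Bool.rec (motive := fun _ => ℕ) V_b_6 (Bool.rec (motive := fun _ => ℕ) V_b_7 V_b_8 (Nat.ble (nat_lit 1508719) q)) (Nat.ble (nat_lit 1450907) q)) (Bool.rec (motive := fun _ => ℕ) (Bool.rec (motive := fun _ => ℕ) V_b_9 V_b_10 (Nat.ble (nat_lit 1626301) q)) (Bool.rec (motive := fun _ => ℕ) V_b_11 V_b_12 (Nat.ble (nat_lit 1744087) q)) (Nat.ble (nat_lit 1684993) q)) (Nat.ble (nat_lit 1567409) q)) (Nat.ble (nat_lit 1393159) q)) q))) (Bool.rec (motive := fun _ => Bool) (Bool.rec (motive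 := fun _ => Bool) (Bool.rec (motive := fun _ => Bool) (E_17 (Nat.mod (Bool.rec (motive := fun _ => ℕ) (Bool.rec (motive := fun _ => ℕ) (Bool.rec (motive := fun _ => ℕ) U_b_0 (Bool.rec (motive := fun _ => ℕ) U_b_1 U_b_2 (Nat.ble (nat_lit 1162541) q)) (Nat.ble (nat_lit 1105579) q)) (Bool.rec (motive := fun _ => ℕ) U_b_3 (Bool.rec (motive := fun _ => ℕ) U_b_4 U_b_5 (Nat.ble (nat_lit 1335233) q)) (Nat.ble (nat_lit 1277147) q)) (Nat.ble (nat_lit 1219607) q)) (Bool.rec (motive := fun _ => ℕ) (Bool.rec (motive := fun _ => ℕ) U_b_6 (Bool.rec (motive := fun _ => ℕ) U_b_7 U_b_8 (Nat.ble (nat_lit 1508719) q)) (Nat.ble (nat_lit 1450907) q)) (Bool.rec (motive := fun _ => ℕ) (Bool.rec (motive := fun _ => ℕ) U_b_9 U_b_10 (Nat.ble (nat_lit 1626301) q)) (Bool.rec (motive := fun _ => ℕ) U_b_11 U_b_12 (Nat.ble (nat_lit 1744087) q)) (Nat.ble (nat_lit 1684993) q)) (Nat.ble (nat_lit 1567409) q)) (Nat.ble (nat_lit 1393159) q)) q) q) (Bool.rec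 (motive := fun _ => Bool) (E_18 (Nat.mod (Bool.rec (motive := fun _ => ℕ) (Bool.rec (motive := fun _ => ℕ) (Bool.rec (motive := fun _ => ℕ) U_b_0 (Bool.rec (motive := fun _ => ℕ) U_b_1 U_b_2 (Nat.ble (nat_lit 1162541) q)) (Nat.ble (nat_lit 1105579) q)) (Bool.rec (motive := fun _ => ℕ) U_b_3 (Bool.rec (motive := fun _ => ℕ) U_b_4 U_b_5 (Nat.ble (nat_lit 1335233) q)) (Nat.ble (nat_lit 1277147) q)) (Nat.ble (nat_lit 1219607) q)) (Bool.rec (motive := fun _ => ℕ) (Bool.rec (motive := fun _ => ℕ) U_b_6 (Bool.rec (motive := fun _ => ℕ) U_b_7 U_b_8 (Nat.ble (nat_lit 1508719) q)) (Nat.ble (nat_lit 1450907) q)) (Bool.rec (motive := fun _ => ℕ) (Bool.rec (motive := fun _ => ℕ) U_b_9 U_b_10 (Nat.ble (nat_lit 1626301) q)) (Bool.rec (motive := fun _ => ℕ) U_b_11 U_b_12 (Nat.ble (nat_lit 1744087) q)) (Nat.ble (nat_lit 1684993) q)) (Nat.ble (nat_lit 1567409) q)) (Nat.ble (nat_lit 1393159) q)) q) q) (E_19 (Nat.mod (Bool.rec (motive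 := fun _ => ℕ) (Bool.rec (motive := fun _ => ℕ) (Bool.rec (motive := fun _ => ℕ) U_b_0 (Bool.rec (motive := fun _ => ℕ) U_b_1 U_b_2 (Nat.ble (nat_lit 1162541) q)) (Nat.ble (nat_lit 1105579) q)) (Bool.rec (motive := fun _ => ℕ) U_b_3 (Bool.rec (motive := fun _ => ℕ) U_b_4 U_b_5 (Nat.ble (nat_lit 1335233) q)) (Nat.ble (nat_lit 1277147) q)) (Nat.ble (nat_lit 1219607) q)) (Bool.rec (motive := fun _ => ℕ) (Bool.rec (motive := fun _ => ℕ) U_b_6 (Bool.rec (motive := fun _ => ℕ) U_b_7 U_b_8 (Nat.ble (nat_lit 1508719) q)) (Nat.ble (nat_lit 1450907) q)) (Bool.rec (motive := fun _ => ℕ) (Bool.rec (motive := fun _ => ℕ) U_b_9 U_b_10 (Nat.ble (nat_lit 1626301) q)) (Bool.rec (motive := fun _ => ℕ) U_b_11 U_b_12 (Nat.ble (nat_lit 1744087) q)) (Nat.ble (nat_lit 1684993) q)) (Nat.ble (nat_lit 1567409) q)) (Nat.ble (nat_lit 1393159) q)) q) q) (Nat.ble (nat_lit 4) (Nat.mod (Bool.rec (motive := fun _ => ℕ) (Bool.rec (motive := fun _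 => ℕ) (Bool.rec (motive := fun _ => ℕ) V_b_0 (Bool.rec (motive := fun _ => ℕ) V_b_1 V_b_2 (Nat.ble (nat_lit 1162541) q)) (Nat.ble (nat_lit 1105579) q)) (Bool.rec (motive := fun _ => ℕ) V_b_3 (Bool.rec (motive := fun _ => ℕ) V_b_4 V_b_5 (Nat.ble (nat_lit 1335233) q)) (Nat.ble (nat_lit 1277147) q)) (Nat.ble (nat_lit 1219607) q)) (Bool.rec (motive := fun _ => ℕ) (Bool.rec (motive := fun _ => ℕ) V_b_6 (Bool.rec (motive := fun _ => ℕ) V_b_7 V_b_8 (Nat.ble (nat_lit 1508719) q)) (Nat.ble (nat_lit 1450907) q)) (Bool.rec (motive := fun _ => ℕ) (Bool.rec (motive := fun _ => ℕ) V_b_9 V_b_10 (Nat.ble (nat_lit 1626301) q)) (Bool.rec (motive := fun _ => ℕ) V_b_11 V_b_12 (Nat.ble (nat_lit 1744087) q)) (Nat.ble (nat_lit 1684993) q)) (Nat.ble (nat_lit 1567409) q)) (Nat.ble (nat_lit 1393159) q)) q))) (Nat.ble (nat_lit 3) (Nat.mod (Bool.rec (motive := fun _ => ℕ) (Bool.rec (motive := fun _ => ℕ) (Bool.rec (motive := fun _ => ℕ) V_b_0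 (Bool.rec (motive := fun _ => ℕ) V_b_1 V_b_2 (Nat.ble (nat_lit 1162541) q)) (Nat.ble (nat_lit 1105579) q)) (Bool.rec (motive := fun _ => ℕ) V_b_3 (Bool.rec (motive := fun _ => ℕ) V_b_4 V_b_5 (Nat.ble (nat_lit 1335233) q)) (Nat.ble (nat_lit 1277147) q)) (Nat.ble (nat_lit 1219607) q)) (Bool.rec (motive := fun _ => ℕ) (Bool.rec (motive := fun _ => ℕ) V_b_6 (Bool.rec (motive := fun _ => ℕ) V_b_7 V_b_8 (Nat.ble (nat_lit 1508719) q)) (Nat.ble (nat_lit 1450907) q)) (Bool.rec (motive := fun _ => ℕ) (Bool.rec (motive := fun _ => ℕ) V_b_9 V_b_10 (Nat.ble (nat_lit 1626301) q)) (Bool.rec (motive := fun _ => ℕ) V_b_11 V_b_12 (Nat.ble (nat_lit 1744087) q)) (Nat.ble (nat_lit 1684993) q)) (Nat.ble (nat_lit 1567409) q)) (Nat.ble (nat_lit 1393159) q)) q))) (Bool.rec (motive := fun _ => Bool) (E_20 (Nat.mod (Bool.rec (motive := fun _ => ℕ) (Bool.rec (motive := fun _ => ℕ) (Bool.rec (motive := fun _ => ℕ) U_b_0 (Bool.rec (motive := fun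 _ => ℕ) U_b_1 U_b_2 (Nat.ble (nat_lit 1162541) q)) (Nat.ble (nat_lit 1105579) q)) (Bool.rec (motive := fun _ => ℕ) U_b_3 (Bool.rec (motive := fun _ => ℕ) U_b_4 U_b_5 (Nat.ble (nat_lit 1335233) q)) (Nat.ble (nat_lit 1277147) q)) (Nat.ble (nat_lit 1219607) q)) (Bool.rec (motive := fun _ => ℕ) (Bool.rec (motive := fun _ => ℕ) U_b_6 (Bool.rec (motive := fun _ => ℕ) U_b_7 U_b_8 (Nat.ble (nat_lit 1508719) q)) (Nat.ble (nat_lit 1450907) q)) (Bool.rec (motive := fun _ => ℕ) (Bool.rec (motive := fun _ => ℕ) U_b_9 U_b_10 (Nat.ble (nat_lit 1626301) q)) (Bool.rec (motive := fun _ => ℕ) U_b_11 U_b_12 (Nat.ble (nat_lit 1744087) q)) (Nat.ble (nat_lit 1684993) q)) (Nat.ble (nat_lit 1567409) q)) (Nat.ble (nat_lit 1393159) q)) q) q) (Bool.rec (motive := fun _ => Bool) (E_21 (Nat.mod (Bool.rec (motive := fun _ => ℕ) (Bool.rec (motive := fun _ => ℕ) (Bool.rec (motive := fun _ => ℕ) U_b_0 (Bool.rec (motive := fun _ => ℕ) U_b_1 U_b_2 (Nat.ble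 (nat_lit 1162541) q)) (Nat.ble (nat_lit 1105579) q)) (Bool.rec (motive := fun _ => ℕ) U_b_3 (Bool.rec (motive := fun _ => ℕ) U_b_4 U_b_5 (Nat.ble (nat_lit 1335233) q)) (Nat.ble (nat_lit 1277147) q)) (Nat.ble (nat_lit 1219607) q)) (Bool.rec (motive := fun _ => ℕ) (Bool.rec (motive := fun _ => ℕ) U_b_6 (Bool.rec (motive := fun _ => ℕ) U_b_7 U_b_8 (Nat.ble (nat_lit 1508719) q)) (Nat.ble (nat_lit 1450907) q)) (Bool.rec (motive := fun _ => ℕ) (Bool.rec (motive := fun _ => ℕ) U_b_9 U_b_10 (Nat.ble (nat_lit 1626301) q)) (Bool.rec (motive := fun _ => ℕ) U_b_11 U_b_12 (Nat.ble (nat_lit 1744087) q)) (Nat.ble (nat_lit 1684993) q)) (Nat.ble (nat_lit 1567409) q)) (Nat.ble (nat_lit 1393159) q)) q) q) (E_22 (Nat.mod (Bool.rec (motive := fun _ => ℕ) (Bool.rec (motive := fun _ => ℕ) (Bool.rec (motive := fun _ => ℕ) U_b_0 (Bool.rec (motive := fun _ => ℕ) U_b_1 U_b_2 (Nat.ble (nat_lit 1162541) q)) (Nat.ble (nat_lit 1105579) q)) (Bool.rec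 (motive := fun _ => ℕ) U_b_3 (Bool.rec (motive := fun _ => ℕ) U_b_4 U_b_5 (Nat.ble (nat_lit 1335233) q)) (Nat.ble (nat_lit 1277147) q)) (Nat.ble (nat_lit 1219607) q)) (Bool.rec (motive := fun _ => ℕ) (Bool.rec (motive := fun _ => ℕ) U_b_6 (Bool.rec (motive := fun _ => ℕ) U_b_7 U_b_8 (Nat.ble (nat_lit 1508719) q)) (Nat.ble (nat_lit 1450907) q)) (Bool.rec (motive := fun _ => ℕ) (Bool.rec (motive := fun _ => ℕ) U_b_9 U_b_10 (Nat.ble (nat_lit 1626301) q)) (Bool.rec (motive := fun _ => ℕ) U_b_11 U_b_12 (Nat.ble (nat_lit 1744087) q)) (Nat.ble (nat_lit 1684993) q)) (Nat.ble (nat_lit 1567409) q)) (Nat.ble (nat_lit 1393159) q)) q) q) (Nat.ble (nat_lit 7) (Nat.mod (Bool.rec (motive := fun _ => ℕ) (Bool.rec (motive := fun _ => ℕ) (Bool.rec (motive := fun _ => ℕ) V_b_0 (Bool.rec (motive := fun _ => ℕ) V_b_1 V_b_2 (Nat.ble (nat_lit 1162541) q)) (Nat.ble (nat_lit 1105579) q)) (Bool.rec (motive := fun _ => ℕ) V_b_3 (Bool.rec (motive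 := fun _ => ℕ) V_b_4 V_b_5 (Nat.ble (nat_lit 1335233) q)) (Nat.ble (nat_lit 1277147) q)) (Nat.ble (nat_lit 1219607) q)) (Bool.rec (motive := fun _ => ℕ) (Bool.rec (motive := fun _ => ℕ) V_b_6 (Bool.rec (motive := fun _ => ℕ) V_b_7 V_b_8 (Nat.ble (nat_lit 1508719) q)) (Nat.ble (nat_lit 1450907) q)) (Bool.rec (motive := fun _ => ℕ) (Bool.rec (motive := fun _ => ℕ) V_b_9 V_b_10 (Nat.ble (nat_lit 1626301) q)) (Bool.rec (motive := fun _ => ℕ) V_b_11 V_b_12 (Nat.ble (nat_lit 1744087) q)) (Nat.ble (nat_lit 1684993) q)) (Nat.ble (nat_lit 1567409) q)) (Nat.ble (nat_lit 1393159) q)) q))) (Nat.ble (nat_lit 6) (Nat.mod (Bool.rec (motive := fun _ => ℕ) (Bool.rec (motive := fun _ => ℕ) (Bool.rec (motive := fun _ => ℕ) V_b_0 (Bool.rec (motive := fun _ => ℕ) V_b_1 V_b_2 (Nat.ble (nat_lit 1162541) q)) (Nat.ble (nat_lit 1105579) q)) (Bool.rec (motive := fun _ => ℕ) V_b_3 (Bool.rec (motive := fun _ => ℕ) V_b_4 V_b_5 (Nat.ble (nat_lit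 1335233) q)) (Nat.ble (nat_lit 1277147) q)) (Nat.ble (nat_lit 1219607) q)) (Bool.rec (motive := fun _ => ℕ) (Bool.rec (motive := fun _ => ℕ) V_b_6 (Bool.rec (motive := fun _ => ℕ) V_b_7 V_b_8 (Nat.ble (nat_lit 1508719) q)) (Nat.ble (nat_lit 1450907) q)) (Bool.rec (motive := fun _ => ℕ) (Bool.rec (motive := fun _ => ℕ) V_b_9 V_b_10 (Nat.ble (nat_lit 1626301) q)) (Bool.rec (motive := fun _ => ℕ) V_b_11 V_b_12 (Nat.ble (nat_lit 1744087) q)) (Nat.ble (nat_lit 1684993) q)) (Nat.ble (nat_lit 1567409) q)) (Nat.ble (nat_lit 1393159) q)) q))) (Nat.ble (nat_lit 5) (Nat.mod (Bool.rec (motive := fun _ => ℕ) (Bool.rec (motive := fun _ => ℕ) (Bool.rec (motive := fun _ => ℕ) V_b_0 (Bool.rec (motive := fun _ => ℕ) V_b_1 V_b_2 (Nat.ble (nat_lit 1162541) q)) (Nat.ble (nat_lit 1105579) q)) (Bool.rec (motive := fun _ => ℕ) V_b_3 (Bool.rec (motive := fun _ => ℕ) V_b_4 V_b_5 (Nat.ble (nat_lit 1335233) q)) (Nat.ble (nat_lit 1277147) q))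 (Nat.ble (nat_lit 1219607) q)) (Bool.rec (motive := fun _ => ℕ) (Bool.rec (motive := fun _ => ℕ) V_b_6 (Bool.rec (motive := fun _ => ℕ) V_b_7 V_b_8 (Nat.ble (nat_lit 1508719) q)) (Nat.ble (nat_lit 1450907) q)) (Bool.rec (motive := fun _ => ℕ) (Bool.rec (motive := fun _ => ℕ) V_b_9 V_b_10 (Nat.ble (nat_lit 1626301) q)) (Bool.rec (motive := fun _ => ℕ) V_b_11 V_b_12 (Nat.ble (nat_lit 1744087) q)) (Nat.ble (nat_lit 1684993) q)) (Nat.ble (nat_lit 1567409) q)) (Nat.ble (nat_lit 1393159) q)) q))) (Bool.rec (motive := fun _ => Bool) (Bool.rec (motive := fun _ => Bool) (E_23 (Nat.mod (Bool.rec (motive := fun _ => ℕ) (Bool.rec (motive := fun _ => ℕ) (Bool.rec (motive := fun _ => ℕ) U_b_0 (Bool.rec (motive := fun _ => ℕ) U_b_1 U_b_2 (Nat.ble (nat_lit 1162541) q)) (Nat.ble (nat_lit 1105579) q)) (Bool.rec (motive := fun _ => ℕ) U_b_3 (Bool.rec (motive := fun _ => ℕ) U_b_4 U_b_5 (Nat.ble (nat_lit 1335233) q)) (Nat.ble (nat_lit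 1277147) q)) (Nat.ble (nat_lit 1219607) q)) (Bool.rec (motive := fun _ => ℕ) (Bool.rec (motive := fun _ => ℕ) U_b_6 (Bool.rec (motive := fun _ => ℕ) U_b_7 U_b_8 (Nat.ble (nat_lit 1508719) q)) (Nat.ble (nat_lit 1450907) q)) (Bool.rec (motive := fun _ => ℕ) (Bool.rec (motive := fun _ => ℕ) U_b_9 U_b_10 (Nat.ble (nat_lit 1626301) q)) (Bool.rec (motive := fun _ => ℕ) U_b_11 U_b_12 (Nat.ble (nat_lit 1744087) q)) (Nat.ble (nat_lit 1684993) q)) (Nat.ble (nat_lit 1567409) q)) (Nat.ble (nat_lit 1393159) q)) q) q) (Bool.rec (motive := fun _ => Bool) (E_24 (Nat.mod (Bool.rec (motive := fun _ => ℕ) (Bool.rec (motive := fun _ => ℕ) (Bool.rec (motive := fun _ => ℕ) U_b_0 (Bool.rec (motive := fun _ => ℕ) U_b_1 U_b_2 (Nat.ble (nat_lit 1162541) q)) (Nat.ble (nat_lit 1105579) q)) (Bool.rec (motive := fun _ => ℕ) U_b_3 (Bool.rec (motive := fun _ => ℕ) U_b_4 U_b_5 (Nat.ble (nat_lit 1335233) q)) (Nat.ble (nat_lit 1277147) q)) (Nat.ble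 (nat_lit 1219607) q)) (Bool.rec (motive := fun _ => ℕ) (Bool.rec (motive := fun _ => ℕ) U_b_6 (Bool.rec (motive := fun _ => ℕ) U_b_7 U_b_8 (Nat.ble (nat_lit 1508719) q)) (Nat.ble (nat_lit 1450907) q)) (Bool.rec (motive := fun _ => ℕ) (Bool.rec (motive := fun _ => ℕ) U_b_9 U_b_10 (Nat.ble (nat_lit 1626301) q)) (Bool.rec (motive := fun _ => ℕ) U_b_11 U_b_12 (Nat.ble (nat_lit 1744087) q)) (Nat.ble (nat_lit 1684993) q)) (Nat.ble (nat_lit 1567409) q)) (Nat.ble (nat_lit 1393159) q)) q) q) (E_25 (Nat.mod (Bool.rec (motive := fun _ => ℕ) (Bool.rec (motive := fun _ => ℕ) (Bool.rec (motive := fun _ => ℕ) U_b_0 (Bool.rec (motive := fun _ => ℕ) U_b_1 U_b_2 (Nat.ble (nat_lit 1162541) q)) (Nat.ble (nat_lit 1105579) q)) (Bool.rec (motive := fun _ => ℕ) U_b_3 (Bool.rec (motive := fun _ => ℕ) U_b_4 U_b_5 (Nat.ble (nat_lit 1335233) q)) (Nat.ble (nat_lit 1277147) q)) (Nat.ble (nat_lit 1219607) q)) (Bool.rec (motive := fun _ => ℕ) (Bool.rec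 (motive := fun _ => ℕ) U_b_6 (Bool.rec (motive := fun _ => ℕ) U_b_7 U_b_8 (Nat.ble (nat_lit 1508719) q)) (Nat.ble (nat_lit 1450907) q)) (Bool.rec (motive := fun _ => ℕ) (Bool.rec (motive := fun _ => ℕ) U_b_9 U_b_10 (Nat.ble (nat_lit 1626301) q)) (Bool.rec (motive := fun _ => ℕ) U_b_11 U_b_12 (Nat.ble (nat_lit 1744087) q)) (Nat.ble (nat_lit 1684993) q)) (Nat.ble (nat_lit 1567409) q)) (Nat.ble (nat_lit 1393159) q)) q) q) (Nat.ble (nat_lit 10) (Nat.mod (Bool.rec (motive := fun _ => ℕ) (Bool.rec (motive := fun _ => ℕ) (Bool.rec (motive := fun _ => ℕ) V_b_0 (Bool.rec (motive := fun _ => ℕ) V_b_1 V_b_2 (Nat.ble (nat_lit 1162541) q)) (Nat.ble (nat_lit 1105579) q)) (Bool.rec (motive := fun _ => ℕ) V_b_3 (Bool.rec (motive := fun _ => ℕ) V_b_4 V_b_5 (Nat.ble (nat_lit 1335233) q)) (Nat.ble (nat_lit 1277147) q)) (Nat.ble (nat_lit 1219607) q)) (Bool.rec (motive := fun _ => ℕ) (Bool.rec (motive := fun _ => ℕ) V_b_6 (Bool.rec (motive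 := fun _ => ℕ) V_b_7 V_b_8 (Nat.ble (nat_lit 1508719) q)) (Nat.ble (nat_lit 1450907) q)) (Bool.rec (motive := fun _ => ℕ) (Bool.rec (motive := fun _ => ℕ) V_b_9 V_b_10 (Nat.ble (nat_lit 1626301) q)) (Bool.rec (motive := fun _ => ℕ) V_b_11 V_b_12 (Nat.ble (nat_lit 1744087) q)) (Nat.ble (nat_lit 1684993) q)) (Nat.ble (nat_lit 1567409) q)) (Nat.ble (nat_lit 1393159) q)) q))) (Nat.ble (nat_lit 9) (Nat.mod (Bool.rec (motive := fun _ => ℕ) (Bool.rec (motive := fun _ => ℕ) (Bool.rec (motive := fun _ => ℕ) V_b_0 (Bool.rec (motive := fun _ => ℕ) V_b_1 V_b_2 (Nat.ble (nat_lit 1162541) q)) (Nat.ble (nat_lit 1105579) q)) (Bool.rec (motive := fun _ => ℕ) V_b_3 (Bool.rec (motive := fun _ => ℕ) V_b_4 V_b_5 (Nat.ble (nat_lit 1335233) q)) (Nat.ble (nat_lit 1277147) q)) (Nat.ble (nat_lit 1219607) q)) (Bool.rec (motive := fun _ => ℕ) (Bool.rec (motive := fun _ => ℕ) V_b_6 (Bool.rec (motive := fun _ => ℕ) V_b_7 V_b_8 (Nat.ble (nat_lit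 1508719) q)) (Nat.ble (nat_lit 1450907) q)) (Bool.rec (motive := fun _ => ℕ) (Bool.rec (motive := fun _ => ℕ) V_b_9 V_b_10 (Nat.ble (nat_lit 1626301) q)) (Bool.rec (motive := fun _ => ℕ) V_b_11 V_b_12 (Nat.ble (nat_lit 1744087) q)) (Nat.ble (nat_lit 1684993) q)) (Nat.ble (nat_lit 1567409) q)) (Nat.ble (nat_lit 1393159) q)) q))) (Bool.rec (motive := fun _ => Bool) (E_26 (Nat.mod (Bool.rec (motive := fun _ => ℕ) (Bool.rec (motive := fun _ => ℕ) (Bool.rec (motive := fun _ => ℕ) U_b_0 (Bool.rec (motive := fun _ => ℕ) U_b_1 U_b_2 (Nat.ble (nat_lit 1162541) q)) (Nat.ble (nat_lit 1105579) q)) (Bool.rec (motive := fun _ => ℕ) U_b_3 (Bool.rec (motive := fun _ => ℕ) U_b_4 U_b_5 (Nat.ble (nat_lit 1335233) q)) (Nat.ble (nat_lit 1277147) q)) (Nat.ble (nat_lit 1219607) q)) (Bool.rec (motive := fun _ => ℕ) (Bool.rec (motive := fun _ => ℕ) U_b_6 (Bool.rec (motive := fun _ => ℕ) U_b_7 U_b_8 (Nat.ble (nat_lit 1508719) q)) (Nat.ble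 (nat_lit 1450907) q)) (Bool.rec (motive := fun _ => ℕ) (Bool.rec (motive := fun _ => ℕ) U_b_9 U_b_10 (Nat.ble (nat_lit 1626301) q)) (Bool.rec (motive := fun _ => ℕ) U_b_11 U_b_12 (Nat.ble (nat_lit 1744087) q)) (Nat.ble (nat_lit 1684993) q)) (Nat.ble (nat_lit 1567409) q)) (Nat.ble (nat_lit 1393159) q)) q) q) (Bool.rec (motive := fun _ => Bool) (E_27 (Nat.mod (Bool.rec (motive := fun _ => ℕ) (Bool.rec (motive := fun _ => ℕ) (Bool.rec (motive := fun _ => ℕ) U_b_0 (Bool.rec (motive := fun _ => ℕ) U_b_1 U_b_2 (Nat.ble (nat_lit 1162541) q)) (Nat.ble (nat_lit 1105579) q)) (Bool.rec (motive := fun _ => ℕ) U_b_3 (Bool.rec (motive := fun _ => ℕ) U_b_4 U_b_5 (Nat.ble (nat_lit 1335233) q)) (Nat.ble (nat_lit 1277147) q)) (Nat.ble (nat_lit 1219607) q)) (Bool.rec (motive := fun _ => ℕ) (Bool.rec (motive := fun _ => ℕ) U_b_6 (Bool.rec (motive := fun _ => ℕ) U_b_7 U_b_8 (Nat.ble (nat_lit 1508719) q)) (Nat.ble (nat_lit 1450907) q))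 (Bool.rec (motive := fun _ => ℕ) (Bool.rec (motive := fun _ => ℕ) U_b_9 U_b_10 (Nat.ble (nat_lit 1626301) q)) (Bool.rec (motive := fun _ => ℕ) U_b_11 U_b_12 (Nat.ble (nat_lit 1744087) q)) (Nat.ble (nat_lit 1684993) q)) (Nat.ble (nat_lit 1567409) q)) (Nat.ble (nat_lit 1393159) q)) q) q) (E_28 (Nat.mod (Bool.rec (motive := fun _ => ℕ) (Bool.rec (motive := fun _ => ℕ) (Bool.rec (motive := fun _ => ℕ) U_b_0 (Bool.rec (motive := fun _ => ℕ) U_b_1 U_b_2 (Nat.ble (nat_lit 1162541) q)) (Nat.ble (nat_lit 1105579) q)) (Bool.rec (motive := fun _ => ℕ) U_b_3 (Bool.rec (motive := fun _ => ℕ) U_b_4 U_b_5 (Nat.ble (nat_lit 1335233) q)) (Nat.ble (nat_lit 1277147) q)) (Nat.ble (nat_lit 1219607) q)) (Bool.rec (motive := fun _ => ℕ) (Bool.rec (motive := fun _ => ℕ) U_b_6 (Bool.rec (motive := fun _ => ℕ) U_b_7 U_b_8 (Nat.ble (nat_lit 1508719) q)) (Nat.ble (nat_lit 1450907) q)) (Bool.rec (motive := fun _ => ℕ) (Bool.rec (motive := fun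 _ => ℕ) U_b_9 U_b_10 (Nat.ble (nat_lit 1626301) q)) (Bool.rec (motive := fun _ => ℕ) U_b_11 U_b_12 (Nat.ble (nat_lit 1744087) q)) (Nat.ble (nat_lit 1684993) q)) (Nat.ble (nat_lit 1567409) q)) (Nat.ble (nat_lit 1393159) q)) q) q) (Nat.ble (nat_lit 13) (Nat.mod (Bool.rec (motive := fun _ => ℕ) (Bool.rec (motive := fun _ => ℕ) (Bool.rec (motive := fun _ => ℕ) V_b_0 (Bool.rec (motive := fun _ => ℕ) V_b_1 V_b_2 (Nat.ble (nat_lit 1162541) q)) (Nat.ble (nat_lit 1105579) q)) (Bool.rec (motive := fun _ => ℕ) V_b_3 (Bool.rec (motive := fun _ => ℕ) V_b_4 V_b_5 (Nat.ble (nat_lit 1335233) q)) (Nat.ble (nat_lit 1277147) q)) (Nat.ble (nat_lit 1219607) q)) (Bool.rec (motive := fun _ => ℕ) (Bool.rec (motive := fun _ => ℕ) V_b_6 (Bool.rec (motive := fun _ => ℕ) V_b_7 V_b_8 (Nat.ble (nat_lit 1508719) q)) (Nat.ble (nat_lit 1450907) q)) (Bool.rec (motive := fun _ => ℕ) (Bool.rec (motive := fun _ => ℕ) V_b_9 V_b_10 (Nat.ble (nat_lit 1626301)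 q)) (Bool.rec (motive := fun _ => ℕ) V_b_11 V_b_12 (Nat.ble (nat_lit 1744087) q)) (Nat.ble (nat_lit 1684993) q)) (Nat.ble (nat_lit 1567409) q)) (Nat.ble (nat_lit 1393159) q)) q))) (Nat.ble (nat_lit 12) (Nat.mod (Bool.rec (motive := fun _ => ℕ) (Bool.rec (motive := fun _ => ℕ) (Bool.rec (motive := fun _ => ℕ) V_b_0 (Bool.rec (motive := fun _ => ℕ) V_b_1 V_b_2 (Nat.ble (nat_lit 1162541) q)) (Nat.ble (nat_lit 1105579) q)) (Bool.rec (motive := fun _ => ℕ) V_b_3 (Bool.rec (motive := fun _ => ℕ) V_b_4 V_b_5 (Nat.ble (nat_lit 1335233) q)) (Nat.ble (nat_lit 1277147) q)) (Nat.ble (nat_lit 1219607) q)) (Bool.rec (motive := fun _ => ℕ) (Bool.rec (motive := fun _ => ℕ) V_b_6 (Bool.rec (motive := fun _ => ℕ) V_b_7 V_b_8 (Nat.ble (nat_lit 1508719) q)) (Nat.ble (nat_lit 1450907) q)) (Bool.rec (motive := fun _ => ℕ) (Bool.rec (motive := fun _ => ℕ) V_b_9 V_b_10 (Nat.ble (nat_lit 1626301) q)) (Bool.rec (motive := fun _ => ℕ) V_b_11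 V_b_12 (Nat.ble (nat_lit 1744087) q)) (Nat.ble (nat_lit 1684993) q)) (Nat.ble (nat_lit 1567409) q)) (Nat.ble (nat_lit 1393159) q)) q))) (Nat.ble (nat_lit 11) (Nat.mod (Bool.rec (motive := fun _ => ℕ) (Bool.rec (motive := fun _ => ℕ) (Bool.rec (motive := fun _ => ℕ) V_b_0 (Bool.rec (motive := fun _ => ℕ) V_b_1 V_b_2 (Nat.ble (nat_lit 1162541) q)) (Nat.ble (nat_lit 1105579) q)) (Bool.rec (motive := fun _ => ℕ) V_b_3 (Bool.rec (motive := fun _ => ℕ) V_b_4 V_b_5 (Nat.ble (nat_lit 1335233) q)) (Nat.ble (nat_lit 1277147) q)) (Nat.ble (nat_lit 1219607) q)) (Bool.rec (motive := fun _ => ℕ) (Bool.rec (motive := fun _ => ℕ) V_b_6 (Bool.rec (motive := fun _ => ℕ) V_b_7 V_b_8 (Nat.ble (nat_lit 1508719) q)) (Nat.ble (nat_lit 1450907) q)) (Bool.rec (motive := fun _ => ℕ) (Bool.rec (motive := fun _ => ℕ) V_b_9 V_b_10 (Nat.ble (nat_lit 1626301) q)) (Bool.rec (motive := fun _ => ℕ) V_b_11 V_b_12 (Nat.ble (nat_lit 1744087) q)) (Nat.ble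 (nat_lit 1684993) q)) (Nat.ble (nat_lit 1567409) q)) (Nat.ble (nat_lit 1393159) q)) q))) (Nat.ble (nat_lit 8) (Nat.mod (Bool.rec (motive := fun _ => ℕ) (Bool.rec (motive := fun _ => ℕ) (Bool.rec (motive := fun _ => ℕ) V_b_0 (Bool.rec (motive := fun _ => ℕ) V_b_1 V_b_2 (Nat.ble (nat_lit 1162541) q)) (Nat.ble (nat_lit 1105579) q)) (Bool.rec (motive := fun _ => ℕ) V_b_3 (Bool.rec (motive := fun _ => ℕ) V_b_4 V_b_5 (Nat.ble (nat_lit 1335233) q)) (Nat.ble (nat_lit 1277147) q)) (Nat.ble (nat_lit 1219607) q)) (Bool.rec (motive := fun _ => ℕ) (Bool.rec (motive := fun _ => ℕ) V_b_6 (Bool.rec (motive := fun _ => ℕ) V_b_7 V_b_8 (Nat.ble (nat_lit 1508719) q)) (Nat.ble (nat_lit 1450907) q)) (Bool.rec (motive := fun _ => ℕ) (Bool.rec (motive := fun _ => ℕ) V_b_9 V_b_10 (Nat.ble (nat_lit 1626301) q)) (Bool.rec (motive := fun _ => ℕ) V_b_11 V_b_12 (Nat.ble (nat_lit 1744087) q)) (Nat.ble (nat_lit 1684993) q)) (Nat.ble (nat_lit 1567409)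 q)) (Nat.ble (nat_lit 1393159) q)) q))) (Nat.ble (nat_lit 2) (Nat.mod (Bool.rec (motive := fun _ => ℕ) (Bool.rec (motive := fun _ => ℕ) (Bool.rec (motive := fun _ => ℕ) V_b_0 (Bool.rec (motive := fun _ => ℕ) V_b_1 V_b_2 (Nat.ble (nat_lit 1162541) q)) (Nat.ble (nat_lit 1105579) q)) (Bool.rec (motive := fun _ => ℕ) V_b_3 (Bool.rec (motive := fun _ => ℕ) V_b_4 V_b_5 (Nat.ble (nat_lit 1335233) q)) (Nat.ble (nat_lit 1277147) q)) (Nat.ble (nat_lit 1219607) q)) (Bool.rec (motive := fun _ => ℕ) (Bool.rec (motive := fun _ => ℕ) V_b_6 (Bool.rec (motive := fun _ => ℕ) V_b_7 V_b_8 (Nat.ble (nat_lit 1508719) q)) (Nat.ble (nat_lit 1450907) q)) (Bool.rec (motive := fun _ => ℕ) (Bool.rec (motive := fun _ => ℕ) V_b_9 V_b_10 (Nat.ble (nat_lit 1626301) q)) (Bool.rec (motive := fun _ => ℕ) V_b_11 V_b_12 (Nat.ble (nat_lit 1744087) q)) (Nat.ble (nat_lit 1684993) q)) (Nat.ble (nat_lit 1567409) q)) (Nat.ble (nat_lit 1393159) q)) q)))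
noncomputable def E_29 (t q : ℕ) : Bool := Nat.beq (G_c t (F_c q)) q
noncomputable def a_29 : CfsgLib.TC.AG Col := .word .c 13 0 true [Col.c]
noncomputable def E_30 (t q : ℕ) : Bool := Nat.beq (G_a t (G_c t (G_a t (F_c q)))) q
noncomputable def a_30 : CfsgLib.TC.AG Col := .word .c 2 0 true [Col.a, Col.c, Col.a]
noncomputable def E_31 (t q : ℕ) : Bool := band (Nat.beq (PT (F_c q)) q) (band (Nat.beq (DT (F_c q)) 2) (band (Nat.ble (Nat.succ q) (F_c q)) (Nat.ble (Nat.succ q0) (F_c q))))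
noncomputable def a_31 : CfsgLib.TC.AG Col := .tree .c
noncomputable def E_32 (t q : ℕ) : Bool := Nat.beq (G_f t (G_c t (G_f t (F_c q)))) q
noncomputable def a_32 : CfsgLib.TC.AG Col := .word .c 16 1 true [Col.f, Col.c, Col.f]
noncomputable def E_33 (t q : ℕ) : Bool := Nat.beq (G_g t (G_c t (G_g t (F_c q)))) q
noncomputable def a_33 : CfsgLib.TC.AG Col := .word .c 17 1 true [Col.g, Col.c, Col.g]
noncomputable def E_34 (t q : ℕ) : Bool := Nat.beq (G_e t (G_c t (G_e t (F_c q)))) q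
noncomputable def a_34 : CfsgLib.TC.AG Col := .word .c 15 1 true [Col.e, Col.c, Col.e]
noncomputable def E_35 (t q : ℕ) : Bool := Nat.beq (G_b t (G_c t (G_b t (G_c t (G_b t (F_c q)))))) q
noncomputable def a_35 : CfsgLib.TC.AG Col := .word .c 8 0 true [Col.b, Col.c, Col.b, Col.c, Col.b]
noncomputable def E_36 (t q : ℕ) : Bool := Nat.beq (G_d t (G_c t (G_a t (G_d t (G_c t (G_d t (G_c t (G_d t (G_c t (G_d t (F_c q))))))))))) q
noncomputable def a_36 : CfsgLib.TC.AG Col := .word .c 30 2 true [Col.d, Col.c, Col.d, Col.c, Col.d, Col.c, Col.d, Col.a, Col.c, Col.d]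
noncomputable def E_37 (t q : ℕ) : Bool := Nat.beq (G_a t (G_d t (G_c t (G_d t (G_c t (G_d t (G_c t (G_d t (G_c t (G_d t (F_c q))))))))))) q
noncomputable def a_37 : CfsgLib.TC.AG Col := .word .c 30 0 true [Col.d, Col.c, Col.d, Col.c, Col.d, Col.c, Col.d, Col.c, Col.d, Col.a]
noncomputable def E_38 (t q : ℕ) : Bool := Nat.beq (G_d t (G_f t (G_g t (G_c t (G_d t (G_f t (G_g t (G_c t (G_d t (G_f t (G_g t (G_c t (G_d t (G_f t (G_g t (F_c q)))))))))))))))) q
noncomputable def a_38 : CfsgLib.TC.AG Col := .word .c 31 3 true [Col.g, Col.f, Col.d, Col.c, Col.g, Col.f, Col.d, Col.c, Col.g, Col.f, Col.d, Col.c, Col.g, Col.f, Col.d]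
noncomputable def E_39 (t q : ℕ) : Bool := Nat.beq (G_g t (G_f t (G_d t (G_c t (G_g t (G_f t (G_d t (G_c t (G_g t (G_f t (G_d t (G_c t (G_g t (G_f t (G_d t (F_c q)))))))))))))))) q
noncomputable def a_39 : CfsgLib.TC.AG Col := .word .c 31 0 false [Col.d, Col.f, Col.g, Col.c, Col.d, Col.f, Col.g, Col.c, Col.d, Col.f, Col.g, Col.c, Col.d, Col.f, Col.g]
noncomputable def E_40 (t q : ℕ) : Bool := Nat.beq (G_d t (G_c t (G_d t (G_c t (G_d t (G_c t (G_a t (G_d t (G_c t (G_d t (F_c q))))))))))) q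
noncomputable def a_40 : CfsgLib.TC.AG Col := .word .c 30 6 true [Col.d, Col.c, Col.d, Col.a, Col.c, Col.d, Col.c, Col.d, Col.c, Col.d]
noncomputable def E_41 (t q : ℕ) : Bool := Nat.beq (G_d t (G_c t (G_d t (G_c t (G_d t (G_c t (G_d t (G_c t (G_a t (G_d t (F_c q))))))))))) q
noncomputable def a_41 : CfsgLib.TC.AG Col := .word .c 30 8 true [Col.d, Col.a, Col.c, Col.d, Col.c, Col.d, Col.c, Col.d, Col.c, Col.d]
noncomputable def E_42 (t q : ℕ) : Bool := Nat.beq (G_d t (G_c t (G_d t (G_c t (G_a t (G_d t (G_c t (G_d t (G_c t (G_d t (F_c q))))))))))) q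
noncomputable def a_42 : CfsgLib.TC.AG Col := .word .c 30 4 true [Col.d, Col.c, Col.d, Col.c, Col.d, Col.a, Col.c, Col.d, Col.c, Col.d]
noncomputable def E_43 (t q : ℕ) : Bool := Nat.beq (G_b t (G_a t (G_c t (G_b t (G_a t (G_c t (G_b t (G_a t (G_e t (F_c q)))))))))) q
noncomputable def a_43 : CfsgLib.TC.AG Col := .word .c 29 8 true [Col.e, Col.a, Col.b, Col.c, Col.a, Col.b, Col.c, Col.a, Col.b]
noncomputable def E_44 (t q : ℕ) : Bool := Nat.beq (G_e t (G_a t (G_b t (G_c t (G_a t (G_b t (G_c t (G_a t (G_b t (F_c q)))))))))) q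
noncomputable def a_44 : CfsgLib.TC.AG Col := .word .c 29 1 false [Col.b, Col.a, Col.c, Col.b, Col.a, Col.c, Col.b, Col.a, Col.e]
noncomputable def E_45 (t q : ℕ) : Bool := Nat.beq (G_d t (G_c t (G_d t (G_c t (G_d t (G_c t (G_d t (G_c t (G_d t (G_a t (F_c q))))))))))) q
noncomputable def a_45 : CfsgLib.TC.AG Col := .word .c 30 10 false [Col.a, Col.d, Col.c, Col.d, Col.c, Col.d, Col.c, Col.d, Col.c, Col.d]
noncomputable def E_46 (t q : ℕ) : Bool := Nat.beq (G_b t (G_a t (G_e t (G_c t (G_b t (G_a t (G_c t (G_b t (G_a t (F_c q)))))))))) q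
noncomputable def a_46 : CfsgLib.TC.AG Col := .word .c 29 2 true [Col.a, Col.b, Col.c, Col.a, Col.b, Col.c, Col.e, Col.a, Col.b]
noncomputable def E_47 (t q : ℕ) : Bool := Nat.beq (G_a t (G_b t (G_c t (G_e t (G_a t (G_b t (G_c t (G_a t (G_b t (F_c q)))))))))) q
noncomputable def a_47 : CfsgLib.TC.AG Col := .word .c 29 4 false [Col.b, Col.a, Col.c, Col.b, Col.a, Col.e, Col.c, Col.b, Col.a]
noncomputable def E_48 (t q : ℕ) : Bool := Nat.beq (G_d t (G_a t (G_c t (G_d t (G_c t (G_d t (G_c t (G_d t (G_c t (G_d t (F_c q))))))))))) q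
noncomputable def a_48 : CfsgLib.TC.AG Col := .word .c 30 2 false [Col.d, Col.c, Col.d, Col.c, Col.d, Col.c, Col.d, Col.c, Col.a, Col.d]
noncomputable def E_49 (t q : ℕ) : Bool := Nat.beq (G_b t (G_a t (G_c t (G_b t (G_a t (G_e t (G_c t (G_b t (G_a t (F_c q)))))))))) q
noncomputable def a_49 : CfsgLib.TC.AG Col := .word .c 29 5 true [Col.a, Col.b, Col.c, Col.e, Col.a, Col.b, Col.c, Col.a, Col.b]
noncomputable def E_50 (t q : ℕ) : Bool := Nat.beq (G_a t (G_b t (G_c t (G_a t (G_b t (G_c t (G_e t (G_a t (G_b t (F_c q)))))))))) q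
noncomputable def a_50 : CfsgLib.TC.AG Col := .word .c 29 7 false [Col.b, Col.a, Col.e, Col.c, Col.b, Col.a, Col.c, Col.b, Col.a]
noncomputable def E_51 (t q : ℕ) : Bool := band (Nat.beq q0 q) (Nat.beq (F_c q) q0)
noncomputable def a_51 : CfsgLib.TC.AG Col := .base .c 1 [] []
noncomputable def D_c (q : ℕ) : Bool := (Bool.rec (motive := fun _ => Bool) (Bool.rec (motive := fun _ => Bool) (E_29 (Nat.mod (Bool.rec (motive := fun _ => ℕ) (Bool.rec (motive := fun _ => ℕ) (Bool.rec (motive := fun _ => ℕ) U_c_0 (Bool.rec (motive := fun _ => ℕ) U_c_1 U_c_2 (Nat.ble (nat_lit 1162541) q)) (Nat.ble (nat_lit 1105579) q)) (Bool.rec (motive := fun _ => ℕ) U_c_3 (Bool.rec (motive := fun _ => ℕ) U_c_4 U_c_5 (Nat.ble (nat_lit 1335233) q)) (Nat.ble (nat_lit 1277147) q)) (Nat.ble (nat_lit 1219607) q)) (Bool.rec (motive := fun _ => ℕ) (Bool.rec (motive := fun _ => ℕ) U_c_6 (Bool.rec (motive := fun _ => ℕ) U_c_7 U_c_8 (Nat.ble (nat_lit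 1508719) q)) (Nat.ble (nat_lit 1450907) q)) (Bool.rec (motive := fun _ => ℕ) (Bool.rec (motive := fun _ => ℕ) U_c_9 U_c_10 (Nat.ble (nat_lit 1626301) q)) (Bool.rec (motive := fun _ => ℕ) U_c_11 U_c_12 (Nat.ble (nat_lit 1744087) q)) (Nat.ble (nat_lit 1684993) q)) (Nat.ble (nat_lit 1567409) q)) (Nat.ble (nat_lit 1393159) q)) q) q) (E_30 (Nat.mod (Bool.rec (motive := fun _ => ℕ) (Bool.rec (motive := fun _ => ℕ) (Bool.rec (motive := fun _ => ℕ) U_c_0 (Bool.rec (motive := fun _ => ℕ) U_c_1 U_c_2 (Nat.ble (nat_lit 1162541) q)) (Nat.ble (nat_lit 1105579) q)) (Bool.rec (motive := fun _ => ℕ) U_c_3 (Bool.rec (motive := fun _ => ℕ) U_c_4 U_c_5 (Nat.ble (nat_lit 1335233) q)) (Nat.ble (nat_lit 1277147) q)) (Nat.ble (nat_lit 1219607) q)) (Bool.rec (motive := fun _ => ℕ) (Bool.rec (motive := fun _ => ℕ) U_c_6 (Bool.rec (motive := fun _ => ℕ) U_c_7 U_c_8 (Nat.ble (nat_lit 1508719) q)) (Nat.ble (nat_lit 1450907) q)) (Bool.rec (motive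 := fun _ => ℕ) (Bool.rec (motive := fun _ => ℕ) U_c_9 U_c_10 (Nat.ble (nat_lit 1626301) q)) (Bool.rec (motive := fun _ => ℕ) U_c_11 U_c_12 (Nat.ble (nat_lit 1744087) q)) (Nat.ble (nat_lit 1684993) q)) (Nat.ble (nat_lit 1567409) q)) (Nat.ble (nat_lit 1393159) q)) q) q) (Nat.ble (nat_lit 1) (Nat.mod (Bool.rec (motive := fun _ => ℕ) (Bool.rec (motive := fun _ => ℕ) (Bool.rec (motive := fun _ => ℕ) V_c_0 (Bool.rec (motive := fun _ => ℕ) V_c_1 V_c_2 (Nat.ble (nat_lit 1162541) q)) (Nat.ble (nat_lit 1105579) q)) (Bool.rec (motive := fun _ => ℕ) V_c_3 (Bool.rec (motive := fun _ => ℕ) V_c_4 V_c_5 (Nat.ble (nat_lit 1335233) q)) (Nat.ble (nat_lit 1277147) q)) (Nat.ble (nat_lit 1219607) q)) (Bool.rec (motive := fun _ => ℕ) (Bool.rec (motive := fun _ => ℕ) V_c_6 (Bool.rec (motive := fun _ => ℕ) V_c_7 V_c_8 (Nat.ble (nat_lit 1508719) q)) (Nat.ble (nat_lit 1450907) q)) (Bool.rec (motive := fun _ => ℕ) (Bool.rec (motive := fun _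 => ℕ) V_c_9 V_c_10 (Nat.ble (nat_lit 1626301) q)) (Bool.rec (motive := fun _ => ℕ) V_c_11 V_c_12 (Nat.ble (nat_lit 1744087) q)) (Nat.ble (nat_lit 1684993) q)) (Nat.ble (nat_lit 1567409) q)) (Nat.ble (nat_lit 1393159) q)) q))) (Bool.rec (motive := fun _ => Bool) (Bool.rec (motive := fun _ => Bool) (Bool.rec (motive := fun _ => Bool) (Bool.rec (motive := fun _ => Bool) (E_31 (Nat.mod (Bool.rec (motive := fun _ => ℕ) (Bool.rec (motive := fun _ => ℕ) (Bool.rec (motive := fun _ => ℕ) U_c_0 (Bool.rec (motive := fun _ => ℕ) U_c_1 U_c_2 (Nat.ble (nat_lit 1162541) q)) (Nat.ble (nat_lit 1105579) q)) (Bool.rec (motive := fun _ => ℕ) U_c_3 (Bool.rec (motive := fun _ => ℕ) U_c_4 U_c_5 (Nat.ble (nat_lit 1335233) q)) (Nat.ble (nat_lit 1277147) q)) (Nat.ble (nat_lit 1219607) q)) (Bool.rec (motive := fun _ => ℕ) (Bool.rec (motive := fun _ => ℕ) U_c_6 (Bool.rec (motive := fun _ => ℕ) U_c_7 U_c_8 (Nat.ble (nat_lit 1508719) q)) (Nat.ble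 (nat_lit 1450907) q)) (Bool.rec (motive := fun _ => ℕ) (Bool.rec (motive := fun _ => ℕ) U_c_9 U_c_10 (Nat.ble (nat_lit 1626301) q)) (Bool.rec (motive := fun _ => ℕ) U_c_11 U_c_12 (Nat.ble (nat_lit 1744087) q)) (Nat.ble (nat_lit 1684993) q)) (Nat.ble (nat_lit 1567409) q)) (Nat.ble (nat_lit 1393159) q)) q) q) (E_32 (Nat.mod (Bool.rec (motive := fun _ => ℕ) (Bool.rec (motive := fun _ => ℕ) (Bool.rec (motive := fun _ => ℕ) U_c_0 (Bool.rec (motive := fun _ => ℕ) U_c_1 U_c_2 (Nat.ble (nat_lit 1162541) q)) (Nat.ble (nat_lit 1105579) q)) (Bool.rec (motive := fun _ => ℕ) U_c_3 (Bool.rec (motive := fun _ => ℕ) U_c_4 U_c_5 (Nat.ble (nat_lit 1335233) q)) (Nat.ble (nat_lit 1277147) q)) (Nat.ble (nat_lit 1219607) q)) (Bool.rec (motive := fun _ => ℕ) (Bool.rec (motive := fun _ => ℕ) U_c_6 (Bool.rec (motive := fun _ => ℕ) U_c_7 U_c_8 (Nat.ble (nat_lit 1508719) q)) (Nat.ble (nat_lit 1450907) q)) (Bool.rec (motive := fun _ => ℕ) (Bool.rec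 (motive := fun _ => ℕ) U_c_9 U_c_10 (Nat.ble (nat_lit 1626301) q)) (Bool.rec (motive := fun _ => ℕ) U_c_11 U_c_12 (Nat.ble (nat_lit 1744087) q)) (Nat.ble (nat_lit 1684993) q)) (Nat.ble (nat_lit 1567409) q)) (Nat.ble (nat_lit 1393159) q)) q) q) (Nat.ble (nat_lit 3) (Nat.mod (Bool.rec (motive := fun _ => ℕ) (Bool.rec (motive := fun _ => ℕ) (Bool.rec (motive := fun _ => ℕ) V_c_0 (Bool.rec (motive := fun _ => ℕ) V_c_1 V_c_2 (Nat.ble (nat_lit 1162541) q)) (Nat.ble (nat_lit 1105579) q)) (Bool.rec (motive := fun _ => ℕ) V_c_3 (Bool.rec (motive := fun _ => ℕ) V_c_4 V_c_5 (Nat.ble (nat_lit 1335233) q)) (Nat.ble (nat_lit 1277147) q)) (Nat.ble (nat_lit 1219607) q)) (Bool.rec (motive := fun _ => ℕ) (Bool.rec (motive := fun _ => ℕ) V_c_6 (Bool.rec (motive := fun _ => ℕ) V_c_7 V_c_8 (Nat.ble (nat_lit 1508719) q)) (Nat.ble (nat_lit 1450907) q)) (Bool.rec (motive := fun _ => ℕ) (Bool.rec (motive := fun _ => ℕ) V_c_9 V_c_10 (Nat.ble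 (nat_lit 1626301) q)) (Bool.rec (motive := fun _ => ℕ) V_c_11 V_c_12 (Nat.ble (nat_lit 1744087) q)) (Nat.ble (nat_lit 1684993) q)) (Nat.ble (nat_lit 1567409) q)) (Nat.ble (nat_lit 1393159) q)) q))) (Bool.rec (motive := fun _ => Bool) (E_33 (Nat.mod (Bool.rec (motive := fun _ => ℕ) (Bool.rec (motive := fun _ => ℕ) (Bool.rec (motive := fun _ => ℕ) U_c_0 (Bool.rec (motive := fun _ => ℕ) U_c_1 U_c_2 (Nat.ble (nat_lit 1162541) q)) (Nat.ble (nat_lit 1105579) q)) (Bool.rec (motive := fun _ => ℕ) U_c_3 (Bool.rec (motive := fun _ => ℕ) U_c_4 U_c_5 (Nat.ble (nat_lit 1335233) q)) (Nat.ble (nat_lit 1277147) q)) (Nat.ble (nat_lit 1219607) q)) (Bool.rec (motive := fun _ => ℕ) (Bool.rec (motive := fun _ => ℕ) U_c_6 (Bool.rec (motive := fun _ => ℕ) U_c_7 U_c_8 (Nat.ble (nat_lit 1508719) q)) (Nat.ble (nat_lit 1450907) q)) (Bool.rec (motive := fun _ => ℕ) (Bool.rec (motive := fun _ => ℕ) U_c_9 U_c_10 (Nat.ble (nat_lit 1626301) q))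 (Bool.rec (motive := fun _ => ℕ) U_c_11 U_c_12 (Nat.ble (nat_lit 1744087) q)) (Nat.ble (nat_lit 1684993) q)) (Nat.ble (nat_lit 1567409) q)) (Nat.ble (nat_lit 1393159) q)) q) q) (Bool.rec (motive := fun _ => Bool) (E_34 (Nat.mod (Bool.rec (motive := fun _ => ℕ) (Bool.rec (motive := fun _ => ℕ) (Bool.rec (motive := fun _ => ℕ) U_c_0 (Bool.rec (motive := fun _ => ℕ) U_c_1 U_c_2 (Nat.ble (nat_lit 1162541) q)) (Nat.ble (nat_lit 1105579) q)) (Bool.rec (motive := fun _ => ℕ) U_c_3 (Bool.rec (motive := fun _ => ℕ) U_c_4 U_c_5 (Nat.ble (nat_lit 1335233) q)) (Nat.ble (nat_lit 1277147) q)) (Nat.ble (nat_lit 1219607) q)) (Bool.rec (motive := fun _ => ℕ) (Bool.rec (motive := fun _ => ℕ) U_c_6 (Bool.rec (motive := fun _ => ℕ) U_c_7 U_c_8 (Nat.ble (nat_lit 1508719) q)) (Nat.ble (nat_lit 1450907) q)) (Bool.rec (motive := fun _ => ℕ) (Bool.rec (motive := fun _ => ℕ) U_c_9 U_c_10 (Nat.ble (nat_lit 1626301) q)) (Bool.rec (motive :=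 fun _ => ℕ) U_c_11 U_c_12 (Nat.ble (nat_lit 1744087) q)) (Nat.ble (nat_lit 1684993) q)) (Nat.ble (nat_lit 1567409) q)) (Nat.ble (nat_lit 1393159) q)) q) q) (E_35 (Nat.mod (Bool.rec (motive := fun _ => ℕ) (Bool.rec (motive := fun _ => ℕ) (Bool.rec (motive := fun _ => ℕ) U_c_0 (Bool.rec (motive := fun _ => ℕ) U_c_1 U_c_2 (Nat.ble (nat_lit 1162541) q)) (Nat.ble (nat_lit 1105579) q)) (Bool.rec (motive := fun _ => ℕ) U_c_3 (Bool.rec (motive := fun _ => ℕ) U_c_4 U_c_5 (Nat.ble (nat_lit 1335233) q)) (Nat.ble (nat_lit 1277147) q)) (Nat.ble (nat_lit 1219607) q)) (Bool.rec (motive := fun _ => ℕ) (Bool.rec (motive := fun _ => ℕ) U_c_6 (Bool.rec (motive := fun _ => ℕ) U_c_7 U_c_8 (Nat.ble (nat_lit 1508719) q)) (Nat.ble (nat_lit 1450907) q)) (Bool.rec (motive := fun _ => ℕ) (Bool.rec (motive := fun _ => ℕ) U_c_9 U_c_10 (Nat.ble (nat_lit 1626301) q)) (Bool.rec (motive := fun _ => ℕ) U_c_11 U_c_12 (Nat.ble (nat_lit 1744087) q))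 (Nat.ble (nat_lit 1684993) q)) (Nat.ble (nat_lit 1567409) q)) (Nat.ble (nat_lit 1393159) q)) q) q) (Nat.ble (nat_lit 6) (Nat.mod (Bool.rec (motive := fun _ => ℕ) (Bool.rec (motive := fun _ => ℕ) (Bool.rec (motive := fun _ => ℕ) V_c_0 (Bool.rec (motive := fun _ => ℕ) V_c_1 V_c_2 (Nat.ble (nat_lit 1162541) q)) (Nat.ble (nat_lit 1105579) q)) (Bool.rec (motive := fun _ => ℕ) V_c_3 (Bool.rec (motive := fun _ => ℕ) V_c_4 V_c_5 (Nat.ble (nat_lit 1335233) q)) (Nat.ble (nat_lit 1277147) q)) (Nat.ble (nat_lit 1219607) q)) (Bool.rec (motive := fun _ => ℕ) (Bool.rec (motive := fun _ => ℕ) V_c_6 (Bool.rec (motive := fun _ => ℕ) V_c_7 V_c_8 (Nat.ble (nat_lit 1508719) q)) (Nat.ble (nat_lit 1450907) q)) (Bool.rec (motive := fun _ => ℕ) (Bool.rec (motive := fun _ => ℕ) V_c_9 V_c_10 (Nat.ble (nat_lit 1626301) q)) (Bool.rec (motive := fun _ => ℕ) V_c_11 V_c_12 (Nat.ble (nat_lit 1744087) q)) (Nat.ble (nat_lit 1684993) q)) (Nat.ble (nat_lit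 1567409) q)) (Nat.ble (nat_lit 1393159) q)) q))) (Nat.ble (nat_lit 5) (Nat.mod (Bool.rec (motive := fun _ => ℕ) (Bool.rec (motive := fun _ => ℕ) (Bool.rec (motive := fun _ => ℕ) V_c_0 (Bool.rec (motive := fun _ => ℕ) V_c_1 V_c_2 (Nat.ble (nat_lit 1162541) q)) (Nat.ble (nat_lit 1105579) q)) (Bool.rec (motive := fun _ => ℕ) V_c_3 (Bool.rec (motive := fun _ => ℕ) V_c_4 V_c_5 (Nat.ble (nat_lit 1335233) q)) (Nat.ble (nat_lit 1277147) q)) (Nat.ble (nat_lit 1219607) q)) (Bool.rec (motive := fun _ => ℕ) (Bool.rec (motive := fun _ => ℕ) V_c_6 (Bool.rec (motive := fun _ => ℕ) V_c_7 V_c_8 (Nat.ble (nat_lit 1508719) q)) (Nat.ble (nat_lit 1450907) q)) (Bool.rec (motive := fun _ => ℕ) (Bool.rec (motive := fun _ => ℕ) V_c_9 V_c_10 (Nat.ble (nat_lit 1626301) q)) (Bool.rec (motive := fun _ => ℕ) V_c_11 V_c_12 (Nat.ble (nat_lit 1744087) q)) (Nat.ble (nat_lit 1684993) q)) (Nat.ble (nat_lit 1567409) q)) (Nat.ble (nat_lit 1393159) q))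 q))) (Nat.ble (nat_lit 4) (Nat.mod (Bool.rec (motive := fun _ => ℕ) (Bool.rec (motive := fun _ => ℕ) (Bool.rec (motive := fun _ => ℕ) V_c_0 (Bool.rec (motive := fun _ => ℕ) V_c_1 V_c_2 (Nat.ble (nat_lit 1162541) q)) (Nat.ble (nat_lit 1105579) q)) (Bool.rec (motive := fun _ => ℕ) V_c_3 (Bool.rec (motive := fun _ => ℕ) V_c_4 V_c_5 (Nat.ble (nat_lit 1335233) q)) (Nat.ble (nat_lit 1277147) q)) (Nat.ble (nat_lit 1219607) q)) (Bool.rec (motive := fun _ => ℕ) (Bool.rec (motive := fun _ => ℕ) V_c_6 (Bool.rec (motive := fun _ => ℕ) V_c_7 V_c_8 (Nat.ble (nat_lit 1508719) q)) (Nat.ble (nat_lit 1450907) q)) (Bool.rec (motive := fun _ => ℕ) (Bool.rec (motive := fun _ => ℕ) V_c_9 V_c_10 (Nat.ble (nat_lit 1626301) q)) (Bool.rec (motive := fun _ => ℕ) V_c_11 V_c_12 (Nat.ble (nat_lit 1744087) q)) (Nat.ble (nat_lit 1684993) q)) (Nat.ble (nat_lit 1567409) q)) (Nat.ble (nat_lit 1393159) q)) q))) (Bool.rec (motive := fun _ => Bool) (Bool.rec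 (motive := fun _ => Bool) (E_36 (Nat.mod (Bool.rec (motive := fun _ => ℕ) (Bool.rec (motive := fun _ => ℕ) (Bool.rec (motive := fun _ => ℕ) U_c_0 (Bool.rec (motive := fun _ => ℕ) U_c_1 U_c_2 (Nat.ble (nat_lit 1162541) q)) (Nat.ble (nat_lit 1105579) q)) (Bool.rec (motive := fun _ => ℕ) U_c_3 (Bool.rec (motive := fun _ => ℕ) U_c_4 U_c_5 (Nat.ble (nat_lit 1335233) q)) (Nat.ble (nat_lit 1277147) q)) (Nat.ble (nat_lit 1219607) q)) (Bool.rec (motive := fun _ => ℕ) (Bool.rec (motive := fun _ => ℕ) U_c_6 (Bool.rec (motive := fun _ => ℕ) U_c_7 U_c_8 (Nat.ble (nat_lit 1508719) q)) (Nat.ble (nat_lit 1450907) q)) (Bool.rec (motive := fun _ => ℕ) (Bool.rec (motive := fun _ => ℕ) U_c_9 U_c_10 (Nat.ble (nat_lit 1626301) q)) (Bool.rec (motive := fun _ => ℕ) U_c_11 U_c_12 (Nat.ble (nat_lit 1744087) q)) (Nat.ble (nat_lit 1684993) q)) (Nat.ble (nat_lit 1567409) q)) (Nat.ble (nat_lit 1393159) q)) q) q) (E_37 (Nat.mod (Bool.rec (motive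 := fun _ => ℕ) (Bool.rec (motive := fun _ => ℕ) (Bool.rec (motive := fun _ => ℕ) U_c_0 (Bool.rec (motive := fun _ => ℕ) U_c_1 U_c_2 (Nat.ble (nat_lit 1162541) q)) (Nat.ble (nat_lit 1105579) q)) (Bool.rec (motive := fun _ => ℕ) U_c_3 (Bool.rec (motive := fun _ => ℕ) U_c_4 U_c_5 (Nat.ble (nat_lit 1335233) q)) (Nat.ble (nat_lit 1277147) q)) (Nat.ble (nat_lit 1219607) q)) (Bool.rec (motive := fun _ => ℕ) (Bool.rec (motive := fun _ => ℕ) U_c_6 (Bool.rec (motive := fun _ => ℕ) U_c_7 U_c_8 (Nat.ble (nat_lit 1508719) q)) (Nat.ble (nat_lit 1450907) q)) (Bool.rec (motive := fun _ => ℕ) (Bool.rec (motive := fun _ => ℕ) U_c_9 U_c_10 (Nat.ble (nat_lit 1626301) q)) (Bool.rec (motive := fun _ => ℕ) U_c_11 U_c_12 (Nat.ble (nat_lit 1744087) q)) (Nat.ble (nat_lit 1684993) q)) (Nat.ble (nat_lit 1567409) q)) (Nat.ble (nat_lit 1393159) q)) q) q) (Nat.ble (nat_lit 8) (Nat.mod (Bool.rec (motive := fun _ => ℕ) (Bool.rec (motive := fun _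 => ℕ) (Bool.rec (motive := fun _ => ℕ) V_c_0 (Bool.rec (motive := fun _ => ℕ) V_c_1 V_c_2 (Nat.ble (nat_lit 1162541) q)) (Nat.ble (nat_lit 1105579) q)) (Bool.rec (motive := fun _ => ℕ) V_c_3 (Bool.rec (motive := fun _ => ℕ) V_c_4 V_c_5 (Nat.ble (nat_lit 1335233) q)) (Nat.ble (nat_lit 1277147) q)) (Nat.ble (nat_lit 1219607) q)) (Bool.rec (motive := fun _ => ℕ) (Bool.rec (motive := fun _ => ℕ) V_c_6 (Bool.rec (motive := fun _ => ℕ) V_c_7 V_c_8 (Nat.ble (nat_lit 1508719) q)) (Nat.ble (nat_lit 1450907) q)) (Bool.rec (motive := fun _ => ℕ) (Bool.rec (motive := fun _ => ℕ) V_c_9 V_c_10 (Nat.ble (nat_lit 1626301) q)) (Bool.rec (motive := fun _ => ℕ) V_c_11 V_c_12 (Nat.ble (nat_lit 1744087) q)) (Nat.ble (nat_lit 1684993) q)) (Nat.ble (nat_lit 1567409) q)) (Nat.ble (nat_lit 1393159) q)) q))) (Bool.rec (motive := fun _ => Bool) (E_38 (Nat.mod (Bool.rec (motive := fun _ => ℕ) (Bool.rec (motive := fun _ => ℕ) (Bool.rec (motive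 := fun _ => ℕ) U_c_0 (Bool.rec (motive := fun _ => ℕ) U_c_1 U_c_2 (Nat.ble (nat_lit 1162541) q)) (Nat.ble (nat_lit 1105579) q)) (Bool.rec (motive := fun _ => ℕ) U_c_3 (Bool.rec (motive := fun _ => ℕ) U_c_4 U_c_5 (Nat.ble (nat_lit 1335233) q)) (Nat.ble (nat_lit 1277147) q)) (Nat.ble (nat_lit 1219607) q)) (Bool.rec (motive := fun _ => ℕ) (Bool.rec (motive := fun _ => ℕ) U_c_6 (Bool.rec (motive := fun _ => ℕ) U_c_7 U_c_8 (Nat.ble (nat_lit 1508719) q)) (Nat.ble (nat_lit 1450907) q)) (Bool.rec (motive := fun _ => ℕ) (Bool.rec (motive := fun _ => ℕ) U_c_9 U_c_10 (Nat.ble (nat_lit 1626301) q)) (Bool.rec (motive := fun _ => ℕ) U_c_11 U_c_12 (Nat.ble (nat_lit 1744087) q)) (Nat.ble (nat_lit 1684993) q)) (Nat.ble (nat_lit 1567409) q)) (Nat.ble (nat_lit 1393159) q)) q) q) (Bool.rec (motive := fun _ => Bool) (E_39 (Nat.mod (Bool.rec (motive := fun _ => ℕ) (Bool.rec (motive := fun _ => ℕ) (Bool.rec (motive := fun _ => ℕ) U_c_0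 (Bool.rec (motive := fun _ => ℕ) U_c_1 U_c_2 (Nat.ble (nat_lit 1162541) q)) (Nat.ble (nat_lit 1105579) q)) (Bool.rec (motive := fun _ => ℕ) U_c_3 (Bool.rec (motive := fun _ => ℕ) U_c_4 U_c_5 (Nat.ble (nat_lit 1335233) q)) (Nat.ble (nat_lit 1277147) q)) (Nat.ble (nat_lit 1219607) q)) (Bool.rec (motive := fun _ => ℕ) (Bool.rec (motive := fun _ => ℕ) U_c_6 (Bool.rec (motive := fun _ => ℕ) U_c_7 U_c_8 (Nat.ble (nat_lit 1508719) q)) (Nat.ble (nat_lit 1450907) q)) (Bool.rec (motive := fun _ => ℕ) (Bool.rec (motive := fun _ => ℕ) U_c_9 U_c_10 (Nat.ble (nat_lit 1626301) q)) (Bool.rec (motive := fun _ => ℕ) U_c_11 U_c_12 (Nat.ble (nat_lit 1744087) q)) (Nat.ble (nat_lit 1684993) q)) (Nat.ble (nat_lit 1567409) q)) (Nat.ble (nat_lit 1393159) q)) q) q) (E_40 (Nat.mod (Bool.rec (motive := fun _ => ℕ) (Bool.rec (motive := fun _ => ℕ) (Bool.rec (motive := fun _ => ℕ) U_c_0 (Bool.rec (motive := fun _ => ℕ) U_c_1 U_c_2 (Nat.ble (nat_lit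 1162541) q)) (Nat.ble (nat_lit 1105579) q)) (Bool.rec (motive := fun _ => ℕ) U_c_3 (Bool.rec (motive := fun _ => ℕ) U_c_4 U_c_5 (Nat.ble (nat_lit 1335233) q)) (Nat.ble (nat_lit 1277147) q)) (Nat.ble (nat_lit 1219607) q)) (Bool.rec (motive := fun _ => ℕ) (Bool.rec (motive := fun _ => ℕ) U_c_6 (Bool.rec (motive := fun _ => ℕ) U_c_7 U_c_8 (Nat.ble (nat_lit 1508719) q)) (Nat.ble (nat_lit 1450907) q)) (Bool.rec (motive := fun _ => ℕ) (Bool.rec (motive := fun _ => ℕ) U_c_9 U_c_10 (Nat.ble (nat_lit 1626301) q)) (Bool.rec (motive := fun _ => ℕ) U_c_11 U_c_12 (Nat.ble (nat_lit 1744087) q)) (Nat.ble (nat_lit 1684993) q)) (Nat.ble (nat_lit 1567409) q)) (Nat.ble (nat_lit 1393159) q)) q) q) (Nat.ble (nat_lit 11) (Nat.mod (Bool.rec (motive := fun _ => ℕ) (Bool.rec (motive := fun _ => ℕ) (Bool.rec (motive := fun _ => ℕ) V_c_0 (Bool.rec (motive := fun _ => ℕ) V_c_1 V_c_2 (Nat.ble (nat_lit 1162541) q)) (Nat.ble (nat_lit 1105579) q))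 (Bool.rec (motive := fun _ => ℕ) V_c_3 (Bool.rec (motive := fun _ => ℕ) V_c_4 V_c_5 (Nat.ble (nat_lit 1335233) q)) (Nat.ble (nat_lit 1277147) q)) (Nat.ble (nat_lit 1219607) q)) (Bool.rec (motive := fun _ => ℕ) (Bool.rec (motive := fun _ => ℕ) V_c_6 (Bool.rec (motive := fun _ => ℕ) V_c_7 V_c_8 (Nat.ble (nat_lit 1508719) q)) (Nat.ble (nat_lit 1450907) q)) (Bool.rec (motive := fun _ => ℕ) (Bool.rec (motive := fun _ => ℕ) V_c_9 V_c_10 (Nat.ble (nat_lit 1626301) q)) (Bool.rec (motive := fun _ => ℕ) V_c_11 V_c_12 (Nat.ble (nat_lit 1744087) q)) (Nat.ble (nat_lit 1684993) q)) (Nat.ble (nat_lit 1567409) q)) (Nat.ble (nat_lit 1393159) q)) q))) (Nat.ble (nat_lit 10) (Nat.mod (Bool.rec (motive := fun _ => ℕ) (Bool.rec (motive := fun _ => ℕ) (Bool.rec (motive := fun _ => ℕ) V_c_0 (Bool.rec (motive := fun _ => ℕ) V_c_1 V_c_2 (Nat.ble (nat_lit 1162541) q)) (Nat.ble (nat_lit 1105579) q)) (Bool.rec (motive := fun _ => ℕ) V_c_3 (Bool.rec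 (motive := fun _ => ℕ) V_c_4 V_c_5 (Nat.ble (nat_lit 1335233) q)) (Nat.ble (nat_lit 1277147) q)) (Nat.ble (nat_lit 1219607) q)) (Bool.rec (motive := fun _ => ℕ) (Bool.rec (motive := fun _ => ℕ) V_c_6 (Bool.rec (motive := fun _ => ℕ) V_c_7 V_c_8 (Nat.ble (nat_lit 1508719) q)) (Nat.ble (nat_lit 1450907) q)) (Bool.rec (motive := fun _ => ℕ) (Bool.rec (motive := fun _ => ℕ) V_c_9 V_c_10 (Nat.ble (nat_lit 1626301) q)) (Bool.rec (motive := fun _ => ℕ) V_c_11 V_c_12 (Nat.ble (nat_lit 1744087) q)) (Nat.ble (nat_lit 1684993) q)) (Nat.ble (nat_lit 1567409) q)) (Nat.ble (nat_lit 1393159) q)) q))) (Nat.ble (nat_lit 9) (Nat.mod (Bool.rec (motive := fun _ => ℕ) (Bool.rec (motive := fun _ => ℕ) (Bool.rec (motive := fun _ => ℕ) V_c_0 (Bool.rec (motive := fun _ => ℕ) V_c_1 V_c_2 (Nat.ble (nat_lit 1162541) q)) (Nat.ble (nat_lit 1105579) q)) (Bool.rec (motive := fun _ => ℕ) V_c_3 (Bool.rec (motive := fun _ => ℕ) V_c_4 V_c_5 (Nat.ble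 (nat_lit 1335233) q)) (Nat.ble (nat_lit 1277147) q)) (Nat.ble (nat_lit 1219607) q)) (Bool.rec (motive := fun _ => ℕ) (Bool.rec (motive := fun _ => ℕ) V_c_6 (Bool.rec (motive := fun _ => ℕ) V_c_7 V_c_8 (Nat.ble (nat_lit 1508719) q)) (Nat.ble (nat_lit 1450907) q)) (Bool.rec (motive := fun _ => ℕ) (Bool.rec (motive := fun _ => ℕ) V_c_9 V_c_10 (Nat.ble (nat_lit 1626301) q)) (Bool.rec (motive := fun _ => ℕ) V_c_11 V_c_12 (Nat.ble (nat_lit 1744087) q)) (Nat.ble (nat_lit 1684993) q)) (Nat.ble (nat_lit 1567409) q)) (Nat.ble (nat_lit 1393159) q)) q))) (Nat.ble (nat_lit 7) (Nat.mod (Bool.rec (motive := fun _ => ℕ) (Bool.rec (motive := fun _ => ℕ) (Bool.rec (motive := fun _ => ℕ) V_c_0 (Bool.rec (motive := fun _ => ℕ) V_c_1 V_c_2 (Nat.ble (nat_lit 1162541) q)) (Nat.ble (nat_lit 1105579) q)) (Bool.rec (motive := fun _ => ℕ) V_c_3 (Bool.rec (motive := fun _ => ℕ) V_c_4 V_c_5 (Nat.ble (nat_lit 1335233) q)) (Nat.ble (nat_lit 1277147)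 q)) (Nat.ble (nat_lit 1219607) q)) (Bool.rec (motive := fun _ => ℕ) (Bool.rec (motive := fun _ => ℕ) V_c_6 (Bool.rec (motive := fun _ => ℕ) V_c_7 V_c_8 (Nat.ble (nat_lit 1508719) q)) (Nat.ble (nat_lit 1450907) q)) (Bool.rec (motive := fun _ => ℕ) (Bool.rec (motive := fun _ => ℕ) V_c_9 V_c_10 (Nat.ble (nat_lit 1626301) q)) (Bool.rec (motive := fun _ => ℕ) V_c_11 V_c_12 (Nat.ble (nat_lit 1744087) q)) (Nat.ble (nat_lit 1684993) q)) (Nat.ble (nat_lit 1567409) q)) (Nat.ble (nat_lit 1393159) q)) q))) (Bool.rec (motive := fun _ => Bool) (Bool.rec (motive := fun _ => Bool) (Bool.rec (motive := fun _ => Bool) (E_41 (Nat.mod (Bool.rec (motive := fun _ => ℕ) (Bool.rec (motive := fun _ => ℕ) (Bool.rec (motive := fun _ => ℕ) U_c_0 (Bool.rec (motive := fun _ => ℕ) U_c_1 U_c_2 (Nat.ble (nat_lit 1162541) q)) (Nat.ble (nat_lit 1105579) q)) (Bool.rec (motive := fun _ => ℕ) U_c_3 (Bool.rec (motive := fun _ => ℕ) U_c_4 U_c_5 (Nat.ble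 (nat_lit 1335233) q)) (Nat.ble (nat_lit 1277147) q)) (Nat.ble (nat_lit 1219607) q)) (Bool.rec (motive := fun _ => ℕ) (Bool.rec (motive := fun _ => ℕ) U_c_6 (Bool.rec (motive := fun _ => ℕ) U_c_7 U_c_8 (Nat.ble (nat_lit 1508719) q)) (Nat.ble (nat_lit 1450907) q)) (Bool.rec (motive := fun _ => ℕ) (Bool.rec (motive := fun _ => ℕ) U_c_9 U_c_10 (Nat.ble (nat_lit 1626301) q)) (Bool.rec (motive := fun _ => ℕ) U_c_11 U_c_12 (Nat.ble (nat_lit 1744087) q)) (Nat.ble (nat_lit 1684993) q)) (Nat.ble (nat_lit 1567409) q)) (Nat.ble (nat_lit 1393159) q)) q) q) (E_42 (Nat.mod (Bool.rec (motive := fun _ => ℕ) (Bool.rec (motive := fun _ => ℕ) (Bool.rec (motive := fun _ => ℕ) U_c_0 (Bool.rec (motive := fun _ => ℕ) U_c_1 U_c_2 (Nat.ble (nat_lit 1162541) q)) (Nat.ble (nat_lit 1105579) q)) (Bool.rec (motive := fun _ => ℕ) U_c_3 (Bool.rec (motive := fun _ => ℕ) U_c_4 U_c_5 (Nat.ble (nat_lit 1335233) q)) (Nat.ble (nat_lit 1277147) q)) (Nat.ble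 (nat_lit 1219607) q)) (Bool.rec (motive := fun _ => ℕ) (Bool.rec (motive := fun _ => ℕ) U_c_6 (Bool.rec (motive := fun _ => ℕ) U_c_7 U_c_8 (Nat.ble (nat_lit 1508719) q)) (Nat.ble (nat_lit 1450907) q)) (Bool.rec (motive := fun _ => ℕ) (Bool.rec (motive := fun _ => ℕ) U_c_9 U_c_10 (Nat.ble (nat_lit 1626301) q)) (Bool.rec (motive := fun _ => ℕ) U_c_11 U_c_12 (Nat.ble (nat_lit 1744087) q)) (Nat.ble (nat_lit 1684993) q)) (Nat.ble (nat_lit 1567409) q)) (Nat.ble (nat_lit 1393159) q)) q) q) (Nat.ble (nat_lit 13) (Nat.mod (Bool.rec (motive := fun _ => ℕ) (Bool.rec (motive := fun _ => ℕ) (Bool.rec (motive := fun _ => ℕ) V_c_0 (Bool.rec (motive := fun _ => ℕ) V_c_1 V_c_2 (Nat.ble (nat_lit 1162541) q)) (Nat.ble (nat_lit 1105579) q)) (Bool.rec (motive := fun _ => ℕ) V_c_3 (Bool.rec (motive := fun _ => ℕ) V_c_4 V_c_5 (Nat.ble (nat_lit 1335233) q)) (Nat.ble (nat_lit 1277147) q)) (Nat.ble (nat_lit 1219607) q)) (Bool.rec (motive :=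 fun _ => ℕ) (Bool.rec (motive := fun _ => ℕ) V_c_6 (Bool.rec (motive := fun _ => ℕ) V_c_7 V_c_8 (Nat.ble (nat_lit 1508719) q)) (Nat.ble (nat_lit 1450907) q)) (Bool.rec (motive := fun _ => ℕ) (Bool.rec (motive := fun _ => ℕ) V_c_9 V_c_10 (Nat.ble (nat_lit 1626301) q)) (Bool.rec (motive := fun _ => ℕ) V_c_11 V_c_12 (Nat.ble (nat_lit 1744087) q)) (Nat.ble (nat_lit 1684993) q)) (Nat.ble (nat_lit 1567409) q)) (Nat.ble (nat_lit 1393159) q)) q))) (Bool.rec (motive := fun _ => Bool) (E_43 (Nat.mod (Bool.rec (motive := fun _ => ℕ) (Bool.rec (motive := fun _ => ℕ) (Bool.rec (motive := fun _ => ℕ) U_c_0 (Bool.rec (motive := fun _ => ℕ) U_c_1 U_c_2 (Nat.ble (nat_lit 1162541) q)) (Nat.ble (nat_lit 1105579) q)) (Bool.rec (motive := fun _ => ℕ) U_c_3 (Bool.rec (motive := fun _ => ℕ) U_c_4 U_c_5 (Nat.ble (nat_lit 1335233) q)) (Nat.ble (nat_lit 1277147) q)) (Nat.ble (nat_lit 1219607) q)) (Bool.rec (motive := fun _ => ℕ) (Bool.rec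 (motive := fun _ => ℕ) U_c_6 (Bool.rec (motive := fun _ => ℕ) U_c_7 U_c_8 (Nat.ble (nat_lit 1508719) q)) (Nat.ble (nat_lit 1450907) q)) (Bool.rec (motive := fun _ => ℕ) (Bool.rec (motive := fun _ => ℕ) U_c_9 U_c_10 (Nat.ble (nat_lit 1626301) q)) (Bool.rec (motive := fun _ => ℕ) U_c_11 U_c_12 (Nat.ble (nat_lit 1744087) q)) (Nat.ble (nat_lit 1684993) q)) (Nat.ble (nat_lit 1567409) q)) (Nat.ble (nat_lit 1393159) q)) q) q) (Bool.rec (motive := fun _ => Bool) (E_44 (Nat.mod (Bool.rec (motive := fun _ => ℕ) (Bool.rec (motive := fun _ => ℕ) (Bool.rec (motive := fun _ => ℕ) U_c_0 (Bool.rec (motive := fun _ => ℕ) U_c_1 U_c_2 (Nat.ble (nat_lit 1162541) q)) (Nat.ble (nat_lit 1105579) q)) (Bool.rec (motive := fun _ => ℕ) U_c_3 (Bool.rec (motive := fun _ => ℕ) U_c_4 U_c_5 (Nat.ble (nat_lit 1335233) q)) (Nat.ble (nat_lit 1277147) q)) (Nat.ble (nat_lit 1219607) q)) (Bool.rec (motive := fun _ => ℕ) (Bool.rec (motive := fun _ => ℕ)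 U_c_6 (Bool.rec (motive := fun _ => ℕ) U_c_7 U_c_8 (Nat.ble (nat_lit 1508719) q)) (Nat.ble (nat_lit 1450907) q)) (Bool.rec (motive := fun _ => ℕ) (Bool.rec (motive := fun _ => ℕ) U_c_9 U_c_10 (Nat.ble (nat_lit 1626301) q)) (Bool.rec (motive := fun _ => ℕ) U_c_11 U_c_12 (Nat.ble (nat_lit 1744087) q)) (Nat.ble (nat_lit 1684993) q)) (Nat.ble (nat_lit 1567409) q)) (Nat.ble (nat_lit 1393159) q)) q) q) (E_45 (Nat.mod (Bool.rec (motive := fun _ => ℕ) (Bool.rec (motive := fun _ => ℕ) (Bool.rec (motive := fun _ => ℕ) U_c_0 (Bool.rec (motive := fun _ => ℕ) U_c_1 U_c_2 (Nat.ble (nat_lit 1162541) q)) (Nat.ble (nat_lit 1105579) q)) (Bool.rec (motive := fun _ => ℕ) U_c_3 (Bool.rec (motive := fun _ => ℕ) U_c_4 U_c_5 (Nat.ble (nat_lit 1335233) q)) (Nat.ble (nat_lit 1277147) q)) (Nat.ble (nat_lit 1219607) q)) (Bool.rec (motive := fun _ => ℕ) (Bool.rec (motive := fun _ => ℕ) U_c_6 (Bool.rec (motive := fun _ => ℕ) U_c_7 U_c_8 (Nat.ble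 (nat_lit 1508719) q)) (Nat.ble (nat_lit 1450907) q)) (Bool.rec (motive := fun _ => ℕ) (Bool.rec (motive := fun _ => ℕ) U_c_9 U_c_10 (Nat.ble (nat_lit 1626301) q)) (Bool.rec (motive := fun _ => ℕ) U_c_11 U_c_12 (Nat.ble (nat_lit 1744087) q)) (Nat.ble (nat_lit 1684993) q)) (Nat.ble (nat_lit 1567409) q)) (Nat.ble (nat_lit 1393159) q)) q) q) (Nat.ble (nat_lit 16) (Nat.mod (Bool.rec (motive := fun _ => ℕ) (Bool.rec (motive := fun _ => ℕ) (Bool.rec (motive := fun _ => ℕ) V_c_0 (Bool.rec (motive := fun _ => ℕ) V_c_1 V_c_2 (Nat.ble (nat_lit 1162541) q)) (Nat.ble (nat_lit 1105579) q)) (Bool.rec (motive := fun _ => ℕ) V_c_3 (Bool.rec (motive := fun _ => ℕ) V_c_4 V_c_5 (Nat.ble (nat_lit 1335233) q)) (Nat.ble (nat_lit 1277147) q)) (Nat.ble (nat_lit 1219607) q)) (Bool.rec (motive := fun _ => ℕ) (Bool.rec (motive := fun _ => ℕ) V_c_6 (Bool.rec (motive := fun _ => ℕ) V_c_7 V_c_8 (Nat.ble (nat_lit 1508719) q)) (Nat.ble (nat_lit 1450907)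 q)) (Bool.rec (motive := fun _ => ℕ) (Bool.rec (motive := fun _ => ℕ) V_c_9 V_c_10 (Nat.ble (nat_lit 1626301) q)) (Bool.rec (motive := fun _ => ℕ) V_c_11 V_c_12 (Nat.ble (nat_lit 1744087) q)) (Nat.ble (nat_lit 1684993) q)) (Nat.ble (nat_lit 1567409) q)) (Nat.ble (nat_lit 1393159) q)) q))) (Nat.ble (nat_lit 15) (Nat.mod (Bool.rec (motive := fun _ => ℕ) (Bool.rec (motive := fun _ => ℕ) (Bool.rec (motive := fun _ => ℕ) V_c_0 (Bool.rec (motive := fun _ => ℕ) V_c_1 V_c_2 (Nat.ble (nat_lit 1162541) q)) (Nat.ble (nat_lit 1105579) q)) (Bool.rec (motive := fun _ => ℕ) V_c_3 (Bool.rec (motive := fun _ => ℕ) V_c_4 V_c_5 (Nat.ble (nat_lit 1335233) q)) (Nat.ble (nat_lit 1277147) q)) (Nat.ble (nat_lit 1219607) q)) (Bool.rec (motive := fun _ => ℕ) (Bool.rec (motive := fun _ => ℕ) V_c_6 (Bool.rec (motive := fun _ => ℕ) V_c_7 V_c_8 (Nat.ble (nat_lit 1508719) q)) (Nat.ble (nat_lit 1450907) q)) (Bool.rec (motive := fun _ => ℕ) (Bool.rec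 (motive := fun _ => ℕ) V_c_9 V_c_10 (Nat.ble (nat_lit 1626301) q)) (Bool.rec (motive := fun _ => ℕ) V_c_11 V_c_12 (Nat.ble (nat_lit 1744087) q)) (Nat.ble (nat_lit 1684993) q)) (Nat.ble (nat_lit 1567409) q)) (Nat.ble (nat_lit 1393159) q)) q))) (Nat.ble (nat_lit 14) (Nat.mod (Bool.rec (motive := fun _ => ℕ) (Bool.rec (motive := fun _ => ℕ) (Bool.rec (motive := fun _ => ℕ) V_c_0 (Bool.rec (motive := fun _ => ℕ) V_c_1 V_c_2 (Nat.ble (nat_lit 1162541) q)) (Nat.ble (nat_lit 1105579) q)) (Bool.rec (motive := fun _ => ℕ) V_c_3 (Bool.rec (motive := fun _ => ℕ) V_c_4 V_c_5 (Nat.ble (nat_lit 1335233) q)) (Nat.ble (nat_lit 1277147) q)) (Nat.ble (nat_lit 1219607) q)) (Bool.rec (motive := fun _ => ℕ) (Bool.rec (motive := fun _ => ℕ) V_c_6 (Bool.rec (motive := fun _ => ℕ) V_c_7 V_c_8 (Nat.ble (nat_lit 1508719) q)) (Nat.ble (nat_lit 1450907) q)) (Bool.rec (motive := fun _ => ℕ) (Bool.rec (motive := fun _ => ℕ) V_c_9 V_c_10 (Nat.ble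 (nat_lit 1626301) q)) (Bool.rec (motive := fun _ => ℕ) V_c_11 V_c_12 (Nat.ble (nat_lit 1744087) q)) (Nat.ble (nat_lit 1684993) q)) (Nat.ble (nat_lit 1567409) q)) (Nat.ble (nat_lit 1393159) q)) q))) (Bool.rec (motive := fun _ => Bool) (Bool.rec (motive := fun _ => Bool) (E_46 (Nat.mod (Bool.rec (motive := fun _ => ℕ) (Bool.rec (motive := fun _ => ℕ) (Bool.rec (motive := fun _ => ℕ) U_c_0 (Bool.rec (motive := fun _ => ℕ) U_c_1 U_c_2 (Nat.ble (nat_lit 1162541) q)) (Nat.ble (nat_lit 1105579) q)) (Bool.rec (motive := fun _ => ℕ) U_c_3 (Bool.rec (motive := fun _ => ℕ) U_c_4 U_c_5 (Nat.ble (nat_lit 1335233) q)) (Nat.ble (nat_lit 1277147) q)) (Nat.ble (nat_lit 1219607) q)) (Bool.rec (motive := fun _ => ℕ) (Bool.rec (motive := fun _ => ℕ) U_c_6 (Bool.rec (motive := fun _ => ℕ) U_c_7 U_c_8 (Nat.ble (nat_lit 1508719) q)) (Nat.ble (nat_lit 1450907) q)) (Bool.rec (motive := fun _ => ℕ) (Bool.rec (motive := fun _ => ℕ) U_c_9 U_c_10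 (Nat.ble (nat_lit 1626301) q)) (Bool.rec (motive := fun _ => ℕ) U_c_11 U_c_12 (Nat.ble (nat_lit 1744087) q)) (Nat.ble (nat_lit 1684993) q)) (Nat.ble (nat_lit 1567409) q)) (Nat.ble (nat_lit 1393159) q)) q) q) (Bool.rec (motive := fun _ => Bool) (E_47 (Nat.mod (Bool.rec (motive := fun _ => ℕ) (Bool.rec (motive := fun _ => ℕ) (Bool.rec (motive := fun _ => ℕ) U_c_0 (Bool.rec (motive := fun _ => ℕ) U_c_1 U_c_2 (Nat.ble (nat_lit 1162541) q)) (Nat.ble (nat_lit 1105579) q)) (Bool.rec (motive := fun _ => ℕ) U_c_3 (Bool.rec (motive := fun _ => ℕ) U_c_4 U_c_5 (Nat.ble (nat_lit 1335233) q)) (Nat.ble (nat_lit 1277147) q)) (Nat.ble (nat_lit 1219607) q)) (Bool.rec (motive := fun _ => ℕ) (Bool.rec (motive := fun _ => ℕ) U_c_6 (Bool.rec (motive := fun _ => ℕ) U_c_7 U_c_8 (Nat.ble (nat_lit 1508719) q)) (Nat.ble (nat_lit 1450907) q)) (Bool.rec (motive := fun _ => ℕ) (Bool.rec (motive := fun _ => ℕ) U_c_9 U_c_10 (Nat.ble (nat_lit 1626301)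 q)) (Bool.rec (motive := fun _ => ℕ) U_c_11 U_c_12 (Nat.ble (nat_lit 1744087) q)) (Nat.ble (nat_lit 1684993) q)) (Nat.ble (nat_lit 1567409) q)) (Nat.ble (nat_lit 1393159) q)) q) q) (E_48 (Nat.mod (Bool.rec (motive := fun _ => ℕ) (Bool.rec (motive := fun _ => ℕ) (Bool.rec (motive := fun _ => ℕ) U_c_0 (Bool.rec (motive := fun _ => ℕ) U_c_1 U_c_2 (Nat.ble (nat_lit 1162541) q)) (Nat.ble (nat_lit 1105579) q)) (Bool.rec (motive := fun _ => ℕ) U_c_3 (Bool.rec (motive := fun _ => ℕ) U_c_4 U_c_5 (Nat.ble (nat_lit 1335233) q)) (Nat.ble (nat_lit 1277147) q)) (Nat.ble (nat_lit 1219607) q)) (Bool.rec (motive := fun _ => ℕ) (Bool.rec (motive := fun _ => ℕ) U_c_6 (Bool.rec (motive := fun _ => ℕ) U_c_7 U_c_8 (Nat.ble (nat_lit 1508719) q)) (Nat.ble (nat_lit 1450907) q)) (Bool.rec (motive := fun _ => ℕ) (Bool.rec (motive := fun _ => ℕ) U_c_9 U_c_10 (Nat.ble (nat_lit 1626301) q)) (Bool.rec (motive := fun _ => ℕ) U_c_11 U_c_12 (Nat.ble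 (nat_lit 1744087) q)) (Nat.ble (nat_lit 1684993) q)) (Nat.ble (nat_lit 1567409) q)) (Nat.ble (nat_lit 1393159) q)) q) q) (Nat.ble (nat_lit 19) (Nat.mod (Bool.rec (motive := fun _ => ℕ) (Bool.rec (motive := fun _ => ℕ) (Bool.rec (motive := fun _ => ℕ) V_c_0 (Bool.rec (motive := fun _ => ℕ) V_c_1 V_c_2 (Nat.ble (nat_lit 1162541) q)) (Nat.ble (nat_lit 1105579) q)) (Bool.rec (motive := fun _ => ℕ) V_c_3 (Bool.rec (motive := fun _ => ℕ) V_c_4 V_c_5 (Nat.ble (nat_lit 1335233) q)) (Nat.ble (nat_lit 1277147) q)) (Nat.ble (nat_lit 1219607) q)) (Bool.rec (motive := fun _ => ℕ) (Bool.rec (motive := fun _ => ℕ) V_c_6 (Bool.rec (motive := fun _ => ℕ) V_c_7 V_c_8 (Nat.ble (nat_lit 1508719) q)) (Nat.ble (nat_lit 1450907) q)) (Bool.rec (motive := fun _ => ℕ) (Bool.rec (motive := fun _ => ℕ) V_c_9 V_c_10 (Nat.ble (nat_lit 1626301) q)) (Bool.rec (motive := fun _ => ℕ) V_c_11 V_c_12 (Nat.ble (nat_lit 1744087) q)) (Nat.ble (nat_lit 1684993)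 q)) (Nat.ble (nat_lit 1567409) q)) (Nat.ble (nat_lit 1393159) q)) q))) (Nat.ble (nat_lit 18) (Nat.mod (Bool.rec (motive := fun _ => ℕ) (Bool.rec (motive := fun _ => ℕ) (Bool.rec (motive := fun _ => ℕ) V_c_0 (Bool.rec (motive := fun _ => ℕ) V_c_1 V_c_2 (Nat.ble (nat_lit 1162541) q)) (Nat.ble (nat_lit 1105579) q)) (Bool.rec (motive := fun _ => ℕ) V_c_3 (Bool.rec (motive := fun _ => ℕ) V_c_4 V_c_5 (Nat.ble (nat_lit 1335233) q)) (Nat.ble (nat_lit 1277147) q)) (Nat.ble (nat_lit 1219607) q)) (Bool.rec (motive := fun _ => ℕ) (Bool.rec (motive := fun _ => ℕ) V_c_6 (Bool.rec (motive := fun _ => ℕ) V_c_7 V_c_8 (Nat.ble (nat_lit 1508719) q)) (Nat.ble (nat_lit 1450907) q)) (Bool.rec (motive := fun _ => ℕ) (Bool.rec (motive := fun _ => ℕ) V_c_9 V_c_10 (Nat.ble (nat_lit 1626301) q)) (Bool.rec (motive := fun _ => ℕ) V_c_11 V_c_12 (Nat.ble (nat_lit 1744087) q)) (Nat.ble (nat_lit 1684993) q)) (Nat.ble (nat_lit 1567409) q)) (Nat.ble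 (nat_lit 1393159) q)) q))) (Bool.rec (motive := fun _ => Bool) (E_49 (Nat.mod (Bool.rec (motive := fun _ => ℕ) (Bool.rec (motive := fun _ => ℕ) (Bool.rec (motive := fun _ => ℕ) U_c_0 (Bool.rec (motive := fun _ => ℕ) U_c_1 U_c_2 (Nat.ble (nat_lit 1162541) q)) (Nat.ble (nat_lit 1105579) q)) (Bool.rec (motive := fun _ => ℕ) U_c_3 (Bool.rec (motive := fun _ => ℕ) U_c_4 U_c_5 (Nat.ble (nat_lit 1335233) q)) (Nat.ble (nat_lit 1277147) q)) (Nat.ble (nat_lit 1219607) q)) (Bool.rec (motive := fun _ => ℕ) (Bool.rec (motive := fun _ => ℕ) U_c_6 (Bool.rec (motive := fun _ => ℕ) U_c_7 U_c_8 (Nat.ble (nat_lit 1508719) q)) (Nat.ble (nat_lit 1450907) q)) (Bool.rec (motive := fun _ => ℕ) (Bool.rec (motive := fun _ => ℕ) U_c_9 U_c_10 (Nat.ble (nat_lit 1626301) q)) (Bool.rec (motive := fun _ => ℕ) U_c_11 U_c_12 (Nat.ble (nat_lit 1744087) q)) (Nat.ble (nat_lit 1684993) q)) (Nat.ble (nat_lit 1567409) q)) (Nat.ble (nat_lit 1393159) q))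 q) q) (Bool.rec (motive := fun _ => Bool) (E_50 (Nat.mod (Bool.rec (motive := fun _ => ℕ) (Bool.rec (motive := fun _ => ℕ) (Bool.rec (motive := fun _ => ℕ) U_c_0 (Bool.rec (motive := fun _ => ℕ) U_c_1 U_c_2 (Nat.ble (nat_lit 1162541) q)) (Nat.ble (nat_lit 1105579) q)) (Bool.rec (motive := fun _ => ℕ) U_c_3 (Bool.rec (motive := fun _ => ℕ) U_c_4 U_c_5 (Nat.ble (nat_lit 1335233) q)) (Nat.ble (nat_lit 1277147) q)) (Nat.ble (nat_lit 1219607) q)) (Bool.rec (motive := fun _ => ℕ) (Bool.rec (motive := fun _ => ℕ) U_c_6 (Bool.rec (motive := fun _ => ℕ) U_c_7 U_c_8 (Nat.ble (nat_lit 1508719) q)) (Nat.ble (nat_lit 1450907) q)) (Bool.rec (motive := fun _ => ℕ) (Bool.rec (motive := fun _ => ℕ) U_c_9 U_c_10 (Nat.ble (nat_lit 1626301) q)) (Bool.rec (motive := fun _ => ℕ) U_c_11 U_c_12 (Nat.ble (nat_lit 1744087) q)) (Nat.ble (nat_lit 1684993) q)) (Nat.ble (nat_lit 1567409) q)) (Nat.ble (nat_lit 1393159) q)) q) q) (E_51 (Nat.mod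 (Bool.rec (motive := fun _ => ℕ) (Bool.rec (motive := fun _ => ℕ) (Bool.rec (motive := fun _ => ℕ) U_c_0 (Bool.rec (motive := fun _ => ℕ) U_c_1 U_c_2 (Nat.ble (nat_lit 1162541) q)) (Nat.ble (nat_lit 1105579) q)) (Bool.rec (motive := fun _ => ℕ) U_c_3 (Bool.rec (motive := fun _ => ℕ) U_c_4 U_c_5 (Nat.ble (nat_lit 1335233) q)) (Nat.ble (nat_lit 1277147) q)) (Nat.ble (nat_lit 1219607) q)) (Bool.rec (motive := fun _ => ℕ) (Bool.rec (motive := fun _ => ℕ) U_c_6 (Bool.rec (motive := fun _ => ℕ) U_c_7 U_c_8 (Nat.ble (nat_lit 1508719) q)) (Nat.ble (nat_lit 1450907) q)) (Bool.rec (motive := fun _ => ℕ) (Bool.rec (motive := fun _ => ℕ) U_c_9 U_c_10 (Nat.ble (nat_lit 1626301) q)) (Bool.rec (motive := fun _ => ℕ) U_c_11 U_c_12 (Nat.ble (nat_lit 1744087) q)) (Nat.ble (nat_lit 1684993) q)) (Nat.ble (nat_lit 1567409) q)) (Nat.ble (nat_lit 1393159) q)) q) q) (Nat.ble (nat_lit 22) (Nat.mod (Bool.rec (motive := fun _ => ℕ) (Bool.rec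 (motive := fun _ => ℕ) (Bool.rec (motive := fun _ => ℕ) V_c_0 (Bool.rec (motive := fun _ => ℕ) V_c_1 V_c_2 (Nat.ble (nat_lit 1162541) q)) (Nat.ble (nat_lit 1105579) q)) (Bool.rec (motive := fun _ => ℕ) V_c_3 (Bool.rec (motive := fun _ => ℕ) V_c_4 V_c_5 (Nat.ble (nat_lit 1335233) q)) (Nat.ble (nat_lit 1277147) q)) (Nat.ble (nat_lit 1219607) q)) (Bool.rec (motive := fun _ => ℕ) (Bool.rec (motive := fun _ => ℕ) V_c_6 (Bool.rec (motive := fun _ => ℕ) V_c_7 V_c_8 (Nat.ble (nat_lit 1508719) q)) (Nat.ble (nat_lit 1450907) q)) (Bool.rec (motive := fun _ => ℕ) (Bool.rec (motive := fun _ => ℕ) V_c_9 V_c_10 (Nat.ble (nat_lit 1626301) q)) (Bool.rec (motive := fun _ => ℕ) V_c_11 V_c_12 (Nat.ble (nat_lit 1744087) q)) (Nat.ble (nat_lit 1684993) q)) (Nat.ble (nat_lit 1567409) q)) (Nat.ble (nat_lit 1393159) q)) q))) (Nat.ble (nat_lit 21) (Nat.mod (Bool.rec (motive := fun _ => ℕ) (Bool.rec (motive := fun _ => ℕ) (Bool.rec (motive :=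 fun _ => ℕ) V_c_0 (Bool.rec (motive := fun _ => ℕ) V_c_1 V_c_2 (Nat.ble (nat_lit 1162541) q)) (Nat.ble (nat_lit 1105579) q)) (Bool.rec (motive := fun _ => ℕ) V_c_3 (Bool.rec (motive := fun _ => ℕ) V_c_4 V_c_5 (Nat.ble (nat_lit 1335233) q)) (Nat.ble (nat_lit 1277147) q)) (Nat.ble (nat_lit 1219607) q)) (Bool.rec (motive := fun _ => ℕ) (Bool.rec (motive := fun _ => ℕ) V_c_6 (Bool.rec (motive := fun _ => ℕ) V_c_7 V_c_8 (Nat.ble (nat_lit 1508719) q)) (Nat.ble (nat_lit 1450907) q)) (Bool.rec (motive := fun _ => ℕ) (Bool.rec (motive := fun _ => ℕ) V_c_9 V_c_10 (Nat.ble (nat_lit 1626301) q)) (Bool.rec (motive := fun _ => ℕ) V_c_11 V_c_12 (Nat.ble (nat_lit 1744087) q)) (Nat.ble (nat_lit 1684993) q)) (Nat.ble (nat_lit 1567409) q)) (Nat.ble (nat_lit 1393159) q)) q))) (Nat.ble (nat_lit 20) (Nat.mod (Bool.rec (motive := fun _ => ℕ) (Bool.rec (motive := fun _ => ℕ) (Bool.rec (motive := fun _ => ℕ) V_c_0 (Bool.rec (motive := fun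 _ => ℕ) V_c_1 V_c_2 (Nat.ble (nat_lit 1162541) q)) (Nat.ble (nat_lit 1105579) q)) (Bool.rec (motive := fun _ => ℕ) V_c_3 (Bool.rec (motive := fun _ => ℕ) V_c_4 V_c_5 (Nat.ble (nat_lit 1335233) q)) (Nat.ble (nat_lit 1277147) q)) (Nat.ble (nat_lit 1219607) q)) (Bool.rec (motive := fun _ => ℕ) (Bool.rec (motive := fun _ => ℕ) V_c_6 (Bool.rec (motive := fun _ => ℕ) V_c_7 V_c_8 (Nat.ble (nat_lit 1508719) q)) (Nat.ble (nat_lit 1450907) q)) (Bool.rec (motive := fun _ => ℕ) (Bool.rec (motive := fun _ => ℕ) V_c_9 V_c_10 (Nat.ble (nat_lit 1626301) q)) (Bool.rec (motive := fun _ => ℕ) V_c_11 V_c_12 (Nat.ble (nat_lit 1744087) q)) (Nat.ble (nat_lit 1684993) q)) (Nat.ble (nat_lit 1567409) q)) (Nat.ble (nat_lit 1393159) q)) q))) (Nat.ble (nat_lit 17) (Nat.mod (Bool.rec (motive := fun _ => ℕ) (Bool.rec (motive := fun _ => ℕ) (Bool.rec (motive := fun _ => ℕ) V_c_0 (Bool.rec (motive := fun _ => ℕ) V_c_1 V_c_2 (Nat.ble (nat_lit 1162541)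 q)) (Nat.ble (nat_lit 1105579) q)) (Bool.rec (motive := fun _ => ℕ) V_c_3 (Bool.rec (motive := fun _ => ℕ) V_c_4 V_c_5 (Nat.ble (nat_lit 1335233) q)) (Nat.ble (nat_lit 1277147) q)) (Nat.ble (nat_lit 1219607) q)) (Bool.rec (motive := fun _ => ℕ) (Bool.rec (motive := fun _ => ℕ) V_c_6 (Bool.rec (motive := fun _ => ℕ) V_c_7 V_c_8 (Nat.ble (nat_lit 1508719) q)) (Nat.ble (nat_lit 1450907) q)) (Bool.rec (motive := fun _ => ℕ) (Bool.rec (motive := fun _ => ℕ) V_c_9 V_c_10 (Nat.ble (nat_lit 1626301) q)) (Bool.rec (motive := fun _ => ℕ) V_c_11 V_c_12 (Nat.ble (nat_lit 1744087) q)) (Nat.ble (nat_lit 1684993) q)) (Nat.ble (nat_lit 1567409) q)) (Nat.ble (nat_lit 1393159) q)) q))) (Nat.ble (nat_lit 12) (Nat.mod (Bool.rec (motive := fun _ => ℕ) (Bool.rec (motive := fun _ => ℕ) (Bool.rec (motive := fun _ => ℕ) V_c_0 (Bool.rec (motive := fun _ => ℕ) V_c_1 V_c_2 (Nat.ble (nat_lit 1162541) q)) (Nat.ble (nat_lit 1105579) q)) (Bool.rec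 (motive := fun _ => ℕ) V_c_3 (Bool.rec (motive := fun _ => ℕ) V_c_4 V_c_5 (Nat.ble (nat_lit 1335233) q)) (Nat.ble (nat_lit 1277147) q)) (Nat.ble (nat_lit 1219607) q)) (Bool.rec (motive := fun _ => ℕ) (Bool.rec (motive := fun _ => ℕ) V_c_6 (Bool.rec (motive := fun _ => ℕ) V_c_7 V_c_8 (Nat.ble (nat_lit 1508719) q)) (Nat.ble (nat_lit 1450907) q)) (Bool.rec (motive := fun _ => ℕ) (Bool.rec (motive := fun _ => ℕ) V_c_9 V_c_10 (Nat.ble (nat_lit 1626301) q)) (Bool.rec (motive := fun _ => ℕ) V_c_11 V_c_12 (Nat.ble (nat_lit 1744087) q)) (Nat.ble (nat_lit 1684993) q)) (Nat.ble (nat_lit 1567409) q)) (Nat.ble (nat_lit 1393159) q)) q))) (Nat.ble (nat_lit 2) (Nat.mod (Bool.rec (motive := fun _ => ℕ) (Bool.rec (motive := fun _ => ℕ) (Bool.rec (motive := fun _ => ℕ) V_c_0 (Bool.rec (motive := fun _ => ℕ) V_c_1 V_c_2 (Nat.ble (nat_lit 1162541) q)) (Nat.ble (nat_lit 1105579) q)) (Bool.rec (motive := fun _ => ℕ) V_c_3 (Bool.rec (motive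 := fun _ => ℕ) V_c_4 V_c_5 (Nat.ble (nat_lit 1335233) q)) (Nat.ble (nat_lit 1277147) q)) (Nat.ble (nat_lit 1219607) q)) (Bool.rec (motive := fun _ => ℕ) (Bool.rec (motive := fun _ => ℕ) V_c_6 (Bool.rec (motive := fun _ => ℕ) V_c_7 V_c_8 (Nat.ble (nat_lit 1508719) q)) (Nat.ble (nat_lit 1450907) q)) (Bool.rec (motive := fun _ => ℕ) (Bool.rec (motive := fun _ => ℕ) V_c_9 V_c_10 (Nat.ble (nat_lit 1626301) q)) (Bool.rec (motive := fun _ => ℕ) V_c_11 V_c_12 (Nat.ble (nat_lit 1744087) q)) (Nat.ble (nat_lit 1684993) q)) (Nat.ble (nat_lit 1567409) q)) (Nat.ble (nat_lit 1393159) q)) q)))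
noncomputable def E_52 (t q : ℕ) : Bool := Nat.beq (G_d t (F_d q)) q
noncomputable def a_52 : CfsgLib.TC.AG Col := .word .d 18 0 true [Col.d]
noncomputable def E_53 (t q : ℕ) : Bool := band (Nat.beq (PT (F_d q)) q) (band (Nat.beq (DT (F_d q)) 3) (band (Nat.ble (Nat.succ q) (F_d q)) (Nat.ble (Nat.succ q0) (F_d q))))
noncomputable def a_53 : CfsgLib.TC.AG Col := .tree .d
noncomputable def E_54 (t q : ℕ) : Bool := Nat.beq (G_a t (G_d t (G_a t (F_d q)))) q
noncomputable def a_54 : CfsgLib.TC.AG Col := .word .d 3 0 true [Col.a, Col.d, Col.a]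
noncomputable def E_55 (t q : ℕ) : Bool := Nat.beq (G_b t (G_d t (G_b t (F_d q)))) q
noncomputable def a_55 : CfsgLib.TC.AG Col := .word .d 9 0 true [Col.b, Col.d, Col.b]
noncomputable def E_56 (t q : ℕ) : Bool := Nat.beq (G_e t (G_d t (G_e t (G_d t (G_e t (F_d q)))))) q
noncomputable def a_56 : CfsgLib.TC.AG Col := .word .d 19 1 true [Col.e, Col.d, Col.e, Col.d, Col.e]
noncomputable def E_57 (t q : ℕ) : Bool := Nat.beq (G_f t (G_d t (G_f t (G_d t (G_f t (F_d q)))))) q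
noncomputable def a_57 : CfsgLib.TC.AG Col := .word .d 20 1 true [Col.f, Col.d, Col.f, Col.d, Col.f]
noncomputable def E_58 (t q : ℕ) : Bool := Nat.beq (G_g t (G_d t (G_g t (G_d t (G_g t (F_d q)))))) q
noncomputable def a_58 : CfsgLib.TC.AG Col := .word .d 21 1 true [Col.g, Col.d, Col.g, Col.d, Col.g]
noncomputable def E_59 (t q : ℕ) : Bool := Nat.beq (G_c t (G_a t (G_d t (G_c t (G_d t (G_c t (G_d t (G_c t (G_d t (G_c t (F_d q))))))))))) q
noncomputable def a_59 : CfsgLib.TC.AG Col := .word .d 30 1 true [Col.c, Col.d, Col.c, Col.d, Col.c, Col.d, Col.c, Col.d, Col.a, Col.c]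
noncomputable def E_60 (t q : ℕ) : Bool := Nat.beq (G_f t (G_g t (G_c t (G_d t (G_f t (G_g t (G_c t (G_d t (G_f t (G_g t (G_c t (G_d t (G_f t (G_g t (G_c t (F_d q)))))))))))))))) q
noncomputable def a_60 : CfsgLib.TC.AG Col := .word .d 31 2 true [Col.c, Col.g, Col.f, Col.d, Col.c, Col.g, Col.f, Col.d, Col.c, Col.g, Col.f, Col.d, Col.c, Col.g, Col.f]
noncomputable def E_61 (t q : ℕ) : Bool := Nat.beq (G_c t (G_g t (G_f t (G_d t (G_c t (G_g t (G_f t (G_d t (G_c t (G_g t (G_f t (G_d t (G_c t (G_g t (G_f t (F_d q)))))))))))))))) q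
noncomputable def a_61 : CfsgLib.TC.AG Col := .word .d 31 1 false [Col.f, Col.g, Col.c, Col.d, Col.f, Col.g, Col.c, Col.d, Col.f, Col.g, Col.c, Col.d, Col.f, Col.g, Col.c]
noncomputable def E_62 (t q : ℕ) : Bool := Nat.beq (G_c t (G_d t (G_c t (G_d t (G_c t (G_d t (G_c t (G_a t (G_d t (G_c t (F_d q))))))))))) q
noncomputable def a_62 : CfsgLib.TC.AG Col := .word .d 30 7 true [Col.c, Col.d, Col.a, Col.c, Col.d, Col.c, Col.d, Col.c, Col.d, Col.c]
noncomputable def E_63 (t q : ℕ) : Bool := Nat.beq (G_c t (G_d t (G_c t (G_d t (G_c t (G_a t (G_d t (G_c t (G_d t (G_c t (F_d q))))))))))) q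
noncomputable def a_63 : CfsgLib.TC.AG Col := .word .d 30 5 true [Col.c, Col.d, Col.c, Col.d, Col.a, Col.c, Col.d, Col.c, Col.d, Col.c]
noncomputable def E_64 (t q : ℕ) : Bool := Nat.beq (G_c t (G_d t (G_c t (G_d t (G_c t (G_d t (G_c t (G_d t (G_c t (G_a t (F_d q))))))))))) q
noncomputable def a_64 : CfsgLib.TC.AG Col := .word .d 30 9 true [Col.a, Col.c, Col.d, Col.c, Col.d, Col.c, Col.d, Col.c, Col.d, Col.c]
noncomputable def E_65 (t q : ℕ) : Bool := Nat.beq (G_c t (G_d t (G_c t (G_a t (G_d t (G_c t (G_d t (G_c t (G_d t (G_c t (F_d q))))))))))) q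
noncomputable def a_65 : CfsgLib.TC.AG Col := .word .d 30 3 true [Col.c, Col.d, Col.c, Col.d, Col.c, Col.d, Col.a, Col.c, Col.d, Col.c]
noncomputable def E_66 (t q : ℕ) : Bool := Nat.beq (G_c t (G_d t (G_c t (G_d t (G_c t (G_d t (G_c t (G_d t (G_a t (G_c t (F_d q))))))))))) q
noncomputable def a_66 : CfsgLib.TC.AG Col := .word .d 30 9 false [Col.c, Col.a, Col.d, Col.c, Col.d, Col.c, Col.d, Col.c, Col.d, Col.c]
noncomputable def E_67 (t q : ℕ) : Bool := band (Nat.beq q0 q) (Nat.beq (F_d q) q0)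
noncomputable def a_67 : CfsgLib.TC.AG Col := .base .d 2 [] []
noncomputable def E_68 (t q : ℕ) : Bool := Nat.beq (G_a t (G_c t (G_d t (G_c t (G_d t (G_c t (G_d t (G_c t (G_d t (G_c t (F_d q))))))))))) q
noncomputable def a_68 : CfsgLib.TC.AG Col := .word .d 30 1 false [Col.c, Col.d, Col.c, Col.d, Col.c, Col.d, Col.c, Col.d, Col.c, Col.a]
noncomputable def D_d (q : ℕ) : Bool := (Bool.rec (motive := fun _ => Bool) (Bool.rec (motive := fun _ => Bool) (E_52 (Nat.mod (Bool.rec (motive := fun _ => ℕ) (Bool.rec (motive := fun _ => ℕ) (Bool.rec (motive := fun _ => ℕ) U_d_0 (Bool.rec (motive := fun _ => ℕ) U_d_1 U_d_2 (Nat.ble (nat_lit 1162541) q)) (Nat.ble (nat_lit 1105579) q)) (Bool.rec (motive := fun _ => ℕ) U_d_3 (Bool.rec (motive := fun _ => ℕ) U_d_4 U_d_5 (Nat.ble (nat_lit 1335233) q)) (Nat.ble (nat_lit 1277147) q)) (Nat.ble (nat_lit 1219607) q)) (Bool.rec (motive := fun _ => ℕ) (Bool.rec (motive := fun _ => ℕ) U_d_6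 (Bool.rec (motive := fun _ => ℕ) U_d_7 U_d_8 (Nat.ble (nat_lit 1508719) q)) (Nat.ble (nat_lit 1450907) q)) (Bool.rec (motive := fun _ => ℕ) (Bool.rec (motive := fun _ => ℕ) U_d_9 U_d_10 (Nat.ble (nat_lit 1626301) q)) (Bool.rec (motive := fun _ => ℕ) U_d_11 U_d_12 (Nat.ble (nat_lit 1744087) q)) (Nat.ble (nat_lit 1684993) q)) (Nat.ble (nat_lit 1567409) q)) (Nat.ble (nat_lit 1393159) q)) q) q) (E_53 (Nat.mod (Bool.rec (motive := fun _ => ℕ) (Bool.rec (motive := fun _ => ℕ) (Bool.rec (motive := fun _ => ℕ) U_d_0 (Bool.rec (motive := fun _ => ℕ) U_d_1 U_d_2 (Nat.ble (nat_lit 1162541) q)) (Nat.ble (nat_lit 1105579) q)) (Bool.rec (motive := fun _ => ℕ) U_d_3 (Bool.rec (motive := fun _ => ℕ) U_d_4 U_d_5 (Nat.ble (nat_lit 1335233) q)) (Nat.ble (nat_lit 1277147) q)) (Nat.ble (nat_lit 1219607) q)) (Bool.rec (motive := fun _ => ℕ) (Bool.rec (motive := fun _ => ℕ) U_d_6 (Bool.rec (motive := fun _ => ℕ) U_d_7 U_d_8 (Nat.ble (nat_lit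 1508719) q)) (Nat.ble (nat_lit 1450907) q)) (Bool.rec (motive := fun _ => ℕ) (Bool.rec (motive := fun _ => ℕ) U_d_9 U_d_10 (Nat.ble (nat_lit 1626301) q)) (Bool.rec (motive := fun _ => ℕ) U_d_11 U_d_12 (Nat.ble (nat_lit 1744087) q)) (Nat.ble (nat_lit 1684993) q)) (Nat.ble (nat_lit 1567409) q)) (Nat.ble (nat_lit 1393159) q)) q) q) (Nat.ble (nat_lit 1) (Nat.mod (Bool.rec (motive := fun _ => ℕ) (Bool.rec (motive := fun _ => ℕ) (Bool.rec (motive := fun _ => ℕ) V_d_0 (Bool.rec (motive := fun _ => ℕ) V_d_1 V_d_2 (Nat.ble (nat_lit 1162541) q)) (Nat.ble (nat_lit 1105579) q)) (Bool.rec (motive := fun _ => ℕ) V_d_3 (Bool.rec (motive := fun _ => ℕ) V_d_4 V_d_5 (Nat.ble (nat_lit 1335233) q)) (Nat.ble (nat_lit 1277147) q)) (Nat.ble (nat_lit 1219607) q)) (Bool.rec (motive := fun _ => ℕ) (Bool.rec (motive := fun _ => ℕ) V_d_6 (Bool.rec (motive := fun _ => ℕ) V_d_7 V_d_8 (Nat.ble (nat_lit 1508719) q)) (Nat.ble (nat_lit 1450907) q))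 (Bool.rec (motive := fun _ => ℕ) (Bool.rec (motive := fun _ => ℕ) V_d_9 V_d_10 (Nat.ble (nat_lit 1626301) q)) (Bool.rec (motive := fun _ => ℕ) V_d_11 V_d_12 (Nat.ble (nat_lit 1744087) q)) (Nat.ble (nat_lit 1684993) q)) (Nat.ble (nat_lit 1567409) q)) (Nat.ble (nat_lit 1393159) q)) q))) (Bool.rec (motive := fun _ => Bool) (Bool.rec (motive := fun _ => Bool) (Bool.rec (motive := fun _ => Bool) (E_54 (Nat.mod (Bool.rec (motive := fun _ => ℕ) (Bool.rec (motive := fun _ => ℕ) (Bool.rec (motive := fun _ => ℕ) U_d_0 (Bool.rec (motive := fun _ => ℕ) U_d_1 U_d_2 (Nat.ble (nat_lit 1162541) q)) (Nat.ble (nat_lit 1105579) q)) (Bool.rec (motive := fun _ => ℕ) U_d_3 (Bool.rec (motive := fun _ => ℕ) U_d_4 U_d_5 (Nat.ble (nat_lit 1335233) q)) (Nat.ble (nat_lit 1277147) q)) (Nat.ble (nat_lit 1219607) q)) (Bool.rec (motive := fun _ => ℕ) (Bool.rec (motive := fun _ => ℕ) U_d_6 (Bool.rec (motive := fun _ => ℕ) U_d_7 U_d_8 (Nat.ble (nat_lit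 1508719) q)) (Nat.ble (nat_lit 1450907) q)) (Bool.rec (motive := fun _ => ℕ) (Bool.rec (motive := fun _ => ℕ) U_d_9 U_d_10 (Nat.ble (nat_lit 1626301) q)) (Bool.rec (motive := fun _ => ℕ) U_d_11 U_d_12 (Nat.ble (nat_lit 1744087) q)) (Nat.ble (nat_lit 1684993) q)) (Nat.ble (nat_lit 1567409) q)) (Nat.ble (nat_lit 1393159) q)) q) q) (Bool.rec (motive := fun _ => Bool) (E_55 (Nat.mod (Bool.rec (motive := fun _ => ℕ) (Bool.rec (motive := fun _ => ℕ) (Bool.rec (motive := fun _ => ℕ) U_d_0 (Bool.rec (motive := fun _ => ℕ) U_d_1 U_d_2 (Nat.ble (nat_lit 1162541) q)) (Nat.ble (nat_lit 1105579) q)) (Bool.rec (motive := fun _ => ℕ) U_d_3 (Bool.rec (motive := fun _ => ℕ) U_d_4 U_d_5 (Nat.ble (nat_lit 1335233) q)) (Nat.ble (nat_lit 1277147) q)) (Nat.ble (nat_lit 1219607) q)) (Bool.rec (motive := fun _ => ℕ) (Bool.rec (motive := fun _ => ℕ) U_d_6 (Bool.rec (motive := fun _ => ℕ) U_d_7 U_d_8 (Nat.ble (nat_lit 1508719) q)) (Nat.ble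 (nat_lit 1450907) q)) (Bool.rec (motive := fun _ => ℕ) (Bool.rec (motive := fun _ => ℕ) U_d_9 U_d_10 (Nat.ble (nat_lit 1626301) q)) (Bool.rec (motive := fun _ => ℕ) U_d_11 U_d_12 (Nat.ble (nat_lit 1744087) q)) (Nat.ble (nat_lit 1684993) q)) (Nat.ble (nat_lit 1567409) q)) (Nat.ble (nat_lit 1393159) q)) q) q) (E_56 (Nat.mod (Bool.rec (motive := fun _ => ℕ) (Bool.rec (motive := fun _ => ℕ) (Bool.rec (motive := fun _ => ℕ) U_d_0 (Bool.rec (motive := fun _ => ℕ) U_d_1 U_d_2 (Nat.ble (nat_lit 1162541) q)) (Nat.ble (nat_lit 1105579) q)) (Bool.rec (motive := fun _ => ℕ) U_d_3 (Bool.rec (motive := fun _ => ℕ) U_d_4 U_d_5 (Nat.ble (nat_lit 1335233) q)) (Nat.ble (nat_lit 1277147) q)) (Nat.ble (nat_lit 1219607) q)) (Bool.rec (motive := fun _ => ℕ) (Bool.rec (motive := fun _ => ℕ) U_d_6 (Bool.rec (motive := fun _ => ℕ) U_d_7 U_d_8 (Nat.ble (nat_lit 1508719) q)) (Nat.ble (nat_lit 1450907) q)) (Bool.rec (motive := fun _ => ℕ) (Bool.rec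 (motive := fun _ => ℕ) U_d_9 U_d_10 (Nat.ble (nat_lit 1626301) q)) (Bool.rec (motive := fun _ => ℕ) U_d_11 U_d_12 (Nat.ble (nat_lit 1744087) q)) (Nat.ble (nat_lit 1684993) q)) (Nat.ble (nat_lit 1567409) q)) (Nat.ble (nat_lit 1393159) q)) q) q) (Nat.ble (nat_lit 4) (Nat.mod (Bool.rec (motive := fun _ => ℕ) (Bool.rec (motive := fun _ => ℕ) (Bool.rec (motive := fun _ => ℕ) V_d_0 (Bool.rec (motive := fun _ => ℕ) V_d_1 V_d_2 (Nat.ble (nat_lit 1162541) q)) (Nat.ble (nat_lit 1105579) q)) (Bool.rec (motive := fun _ => ℕ) V_d_3 (Bool.rec (motive := fun _ => ℕ) V_d_4 V_d_5 (Nat.ble (nat_lit 1335233) q)) (Nat.ble (nat_lit 1277147) q)) (Nat.ble (nat_lit 1219607) q)) (Bool.rec (motive := fun _ => ℕ) (Bool.rec (motive := fun _ => ℕ) V_d_6 (Bool.rec (motive := fun _ => ℕ) V_d_7 V_d_8 (Nat.ble (nat_lit 1508719) q)) (Nat.ble (nat_lit 1450907) q)) (Bool.rec (motive := fun _ => ℕ) (Bool.rec (motive := fun _ => ℕ) V_d_9 V_d_10 (Nat.ble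 (nat_lit 1626301) q)) (Bool.rec (motive := fun _ => ℕ) V_d_11 V_d_12 (Nat.ble (nat_lit 1744087) q)) (Nat.ble (nat_lit 1684993) q)) (Nat.ble (nat_lit 1567409) q)) (Nat.ble (nat_lit 1393159) q)) q))) (Nat.ble (nat_lit 3) (Nat.mod (Bool.rec (motive := fun _ => ℕ) (Bool.rec (motive := fun _ => ℕ) (Bool.rec (motive := fun _ => ℕ) V_d_0 (Bool.rec (motive := fun _ => ℕ) V_d_1 V_d_2 (Nat.ble (nat_lit 1162541) q)) (Nat.ble (nat_lit 1105579) q)) (Bool.rec (motive := fun _ => ℕ) V_d_3 (Bool.rec (motive := fun _ => ℕ) V_d_4 V_d_5 (Nat.ble (nat_lit 1335233) q)) (Nat.ble (nat_lit 1277147) q)) (Nat.ble (nat_lit 1219607) q)) (Bool.rec (motive := fun _ => ℕ) (Bool.rec (motive := fun _ => ℕ) V_d_6 (Bool.rec (motive := fun _ => ℕ) V_d_7 V_d_8 (Nat.ble (nat_lit 1508719) q)) (Nat.ble (nat_lit 1450907) q)) (Bool.rec (motive := fun _ => ℕ) (Bool.rec (motive := fun _ => ℕ) V_d_9 V_d_10 (Nat.ble (nat_lit 1626301) q)) (Bool.rec (motive :=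 fun _ => ℕ) V_d_11 V_d_12 (Nat.ble (nat_lit 1744087) q)) (Nat.ble (nat_lit 1684993) q)) (Nat.ble (nat_lit 1567409) q)) (Nat.ble (nat_lit 1393159) q)) q))) (Bool.rec (motive := fun _ => Bool) (Bool.rec (motive := fun _ => Bool) (E_57 (Nat.mod (Bool.rec (motive := fun _ => ℕ) (Bool.rec (motive := fun _ => ℕ) (Bool.rec (motive := fun _ => ℕ) U_d_0 (Bool.rec (motive := fun _ => ℕ) U_d_1 U_d_2 (Nat.ble (nat_lit 1162541) q)) (Nat.ble (nat_lit 1105579) q)) (Bool.rec (motive := fun _ => ℕ) U_d_3 (Bool.rec (motive := fun _ => ℕ) U_d_4 U_d_5 (Nat.ble (nat_lit 1335233) q)) (Nat.ble (nat_lit 1277147) q)) (Nat.ble (nat_lit 1219607) q)) (Bool.rec (motive := fun _ => ℕ) (Bool.rec (motive := fun _ => ℕ) U_d_6 (Bool.rec (motive := fun _ => ℕ) U_d_7 U_d_8 (Nat.ble (nat_lit 1508719) q)) (Nat.ble (nat_lit 1450907) q)) (Bool.rec (motive := fun _ => ℕ) (Bool.rec (motive := fun _ => ℕ) U_d_9 U_d_10 (Nat.ble (nat_lit 1626301) q)) (Bool.rec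 (motive := fun _ => ℕ) U_d_11 U_d_12 (Nat.ble (nat_lit 1744087) q)) (Nat.ble (nat_lit 1684993) q)) (Nat.ble (nat_lit 1567409) q)) (Nat.ble (nat_lit 1393159) q)) q) q) (E_58 (Nat.mod (Bool.rec (motive := fun _ => ℕ) (Bool.rec (motive := fun _ => ℕ) (Bool.rec (motive := fun _ => ℕ) U_d_0 (Bool.rec (motive := fun _ => ℕ) U_d_1 U_d_2 (Nat.ble (nat_lit 1162541) q)) (Nat.ble (nat_lit 1105579) q)) (Bool.rec (motive := fun _ => ℕ) U_d_3 (Bool.rec (motive := fun _ => ℕ) U_d_4 U_d_5 (Nat.ble (nat_lit 1335233) q)) (Nat.ble (nat_lit 1277147) q)) (Nat.ble (nat_lit 1219607) q)) (Bool.rec (motive := fun _ => ℕ) (Bool.rec (motive := fun _ => ℕ) U_d_6 (Bool.rec (motive := fun _ => ℕ) U_d_7 U_d_8 (Nat.ble (nat_lit 1508719) q)) (Nat.ble (nat_lit 1450907) q)) (Bool.rec (motive := fun _ => ℕ) (Bool.rec (motive := fun _ => ℕ) U_d_9 U_d_10 (Nat.ble (nat_lit 1626301) q)) (Bool.rec (motive := fun _ => ℕ) U_d_11 U_d_12 (Nat.ble (nat_lit 1744087)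 q)) (Nat.ble (nat_lit 1684993) q)) (Nat.ble (nat_lit 1567409) q)) (Nat.ble (nat_lit 1393159) q)) q) q) (Nat.ble (nat_lit 6) (Nat.mod (Bool.rec (motive := fun _ => ℕ) (Bool.rec (motive := fun _ => ℕ) (Bool.rec (motive := fun _ => ℕ) V_d_0 (Bool.rec (motive := fun _ => ℕ) V_d_1 V_d_2 (Nat.ble (nat_lit 1162541) q)) (Nat.ble (nat_lit 1105579) q)) (Bool.rec (motive := fun _ => ℕ) V_d_3 (Bool.rec (motive := fun _ => ℕ) V_d_4 V_d_5 (Nat.ble (nat_lit 1335233) q)) (Nat.ble (nat_lit 1277147) q)) (Nat.ble (nat_lit 1219607) q)) (Bool.rec (motive := fun _ => ℕ) (Bool.rec (motive := fun _ => ℕ) V_d_6 (Bool.rec (motive := fun _ => ℕ) V_d_7 V_d_8 (Nat.ble (nat_lit 1508719) q)) (Nat.ble (nat_lit 1450907) q)) (Bool.rec (motive := fun _ => ℕ) (Bool.rec (motive := fun _ => ℕ) V_d_9 V_d_10 (Nat.ble (nat_lit 1626301) q)) (Bool.rec (motive := fun _ => ℕ) V_d_11 V_d_12 (Nat.ble (nat_lit 1744087) q)) (Nat.ble (nat_lit 1684993) q)) (Nat.ble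 (nat_lit 1567409) q)) (Nat.ble (nat_lit 1393159) q)) q))) (Bool.rec (motive := fun _ => Bool) (E_59 (Nat.mod (Bool.rec (motive := fun _ => ℕ) (Bool.rec (motive := fun _ => ℕ) (Bool.rec (motive := fun _ => ℕ) U_d_0 (Bool.rec (motive := fun _ => ℕ) U_d_1 U_d_2 (Nat.ble (nat_lit 1162541) q)) (Nat.ble (nat_lit 1105579) q)) (Bool.rec (motive := fun _ => ℕ) U_d_3 (Bool.rec (motive := fun _ => ℕ) U_d_4 U_d_5 (Nat.ble (nat_lit 1335233) q)) (Nat.ble (nat_lit 1277147) q)) (Nat.ble (nat_lit 1219607) q)) (Bool.rec (motive := fun _ => ℕ) (Bool.rec (motive := fun _ => ℕ) U_d_6 (Bool.rec (motive := fun _ => ℕ) U_d_7 U_d_8 (Nat.ble (nat_lit 1508719) q)) (Nat.ble (nat_lit 1450907) q)) (Bool.rec (motive := fun _ => ℕ) (Bool.rec (motive := fun _ => ℕ) U_d_9 U_d_10 (Nat.ble (nat_lit 1626301) q)) (Bool.rec (motive := fun _ => ℕ) U_d_11 U_d_12 (Nat.ble (nat_lit 1744087) q)) (Nat.ble (nat_lit 1684993) q)) (Nat.ble (nat_lit 1567409) q))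 (Nat.ble (nat_lit 1393159) q)) q) q) (E_60 (Nat.mod (Bool.rec (motive := fun _ => ℕ) (Bool.rec (motive := fun _ => ℕ) (Bool.rec (motive := fun _ => ℕ) U_d_0 (Bool.rec (motive := fun _ => ℕ) U_d_1 U_d_2 (Nat.ble (nat_lit 1162541) q)) (Nat.ble (nat_lit 1105579) q)) (Bool.rec (motive := fun _ => ℕ) U_d_3 (Bool.rec (motive := fun _ => ℕ) U_d_4 U_d_5 (Nat.ble (nat_lit 1335233) q)) (Nat.ble (nat_lit 1277147) q)) (Nat.ble (nat_lit 1219607) q)) (Bool.rec (motive := fun _ => ℕ) (Bool.rec (motive := fun _ => ℕ) U_d_6 (Bool.rec (motive := fun _ => ℕ) U_d_7 U_d_8 (Nat.ble (nat_lit 1508719) q)) (Nat.ble (nat_lit 1450907) q)) (Bool.rec (motive := fun _ => ℕ) (Bool.rec (motive := fun _ => ℕ) U_d_9 U_d_10 (Nat.ble (nat_lit 1626301) q)) (Bool.rec (motive := fun _ => ℕ) U_d_11 U_d_12 (Nat.ble (nat_lit 1744087) q)) (Nat.ble (nat_lit 1684993) q)) (Nat.ble (nat_lit 1567409) q)) (Nat.ble (nat_lit 1393159) q)) q) q) (Nat.ble (nat_lit 8)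 (Nat.mod (Bool.rec (motive := fun _ => ℕ) (Bool.rec (motive := fun _ => ℕ) (Bool.rec (motive := fun _ => ℕ) V_d_0 (Bool.rec (motive := fun _ => ℕ) V_d_1 V_d_2 (Nat.ble (nat_lit 1162541) q)) (Nat.ble (nat_lit 1105579) q)) (Bool.rec (motive := fun _ => ℕ) V_d_3 (Bool.rec (motive := fun _ => ℕ) V_d_4 V_d_5 (Nat.ble (nat_lit 1335233) q)) (Nat.ble (nat_lit 1277147) q)) (Nat.ble (nat_lit 1219607) q)) (Bool.rec (motive := fun _ => ℕ) (Bool.rec (motive := fun _ => ℕ) V_d_6 (Bool.rec (motive := fun _ => ℕ) V_d_7 V_d_8 (Nat.ble (nat_lit 1508719) q)) (Nat.ble (nat_lit 1450907) q)) (Bool.rec (motive := fun _ => ℕ) (Bool.rec (motive := fun _ => ℕ) V_d_9 V_d_10 (Nat.ble (nat_lit 1626301) q)) (Bool.rec (motive := fun _ => ℕ) V_d_11 V_d_12 (Nat.ble (nat_lit 1744087) q)) (Nat.ble (nat_lit 1684993) q)) (Nat.ble (nat_lit 1567409) q)) (Nat.ble (nat_lit 1393159) q)) q))) (Nat.ble (nat_lit 7) (Nat.mod (Bool.rec (motive := fun _ => ℕ) (Bool.rec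 (motive := fun _ => ℕ) (Bool.rec (motive := fun _ => ℕ) V_d_0 (Bool.rec (motive := fun _ => ℕ) V_d_1 V_d_2 (Nat.ble (nat_lit 1162541) q)) (Nat.ble (nat_lit 1105579) q)) (Bool.rec (motive := fun _ => ℕ) V_d_3 (Bool.rec (motive := fun _ => ℕ) V_d_4 V_d_5 (Nat.ble (nat_lit 1335233) q)) (Nat.ble (nat_lit 1277147) q)) (Nat.ble (nat_lit 1219607) q)) (Bool.rec (motive := fun _ => ℕ) (Bool.rec (motive := fun _ => ℕ) V_d_6 (Bool.rec (motive := fun _ => ℕ) V_d_7 V_d_8 (Nat.ble (nat_lit 1508719) q)) (Nat.ble (nat_lit 1450907) q)) (Bool.rec (motive := fun _ => ℕ) (Bool.rec (motive := fun _ => ℕ) V_d_9 V_d_10 (Nat.ble (nat_lit 1626301) q)) (Bool.rec (motive := fun _ => ℕ) V_d_11 V_d_12 (Nat.ble (nat_lit 1744087) q)) (Nat.ble (nat_lit 1684993) q)) (Nat.ble (nat_lit 1567409) q)) (Nat.ble (nat_lit 1393159) q)) q))) (Nat.ble (nat_lit 5) (Nat.mod (Bool.rec (motive := fun _ => ℕ) (Bool.rec (motive := fun _ => ℕ) (Bool.rec (motive :=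 fun _ => ℕ) V_d_0 (Bool.rec (motive := fun _ => ℕ) V_d_1 V_d_2 (Nat.ble (nat_lit 1162541) q)) (Nat.ble (nat_lit 1105579) q)) (Bool.rec (motive := fun _ => ℕ) V_d_3 (Bool.rec (motive := fun _ => ℕ) V_d_4 V_d_5 (Nat.ble (nat_lit 1335233) q)) (Nat.ble (nat_lit 1277147) q)) (Nat.ble (nat_lit 1219607) q)) (Bool.rec (motive := fun _ => ℕ) (Bool.rec (motive := fun _ => ℕ) V_d_6 (Bool.rec (motive := fun _ => ℕ) V_d_7 V_d_8 (Nat.ble (nat_lit 1508719) q)) (Nat.ble (nat_lit 1450907) q)) (Bool.rec (motive := fun _ => ℕ) (Bool.rec (motive := fun _ => ℕ) V_d_9 V_d_10 (Nat.ble (nat_lit 1626301) q)) (Bool.rec (motive := fun _ => ℕ) V_d_11 V_d_12 (Nat.ble (nat_lit 1744087) q)) (Nat.ble (nat_lit 1684993) q)) (Nat.ble (nat_lit 1567409) q)) (Nat.ble (nat_lit 1393159) q)) q))) (Bool.rec (motive := fun _ => Bool) (Bool.rec (motive := fun _ => Bool) (Bool.rec (motive := fun _ => Bool) (E_61 (Nat.mod (Bool.rec (motive := fun _ => ℕ) (Bool.rec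 (motive := fun _ => ℕ) (Bool.rec (motive := fun _ => ℕ) U_d_0 (Bool.rec (motive := fun _ => ℕ) U_d_1 U_d_2 (Nat.ble (nat_lit 1162541) q)) (Nat.ble (nat_lit 1105579) q)) (Bool.rec (motive := fun _ => ℕ) U_d_3 (Bool.rec (motive := fun _ => ℕ) U_d_4 U_d_5 (Nat.ble (nat_lit 1335233) q)) (Nat.ble (nat_lit 1277147) q)) (Nat.ble (nat_lit 1219607) q)) (Bool.rec (motive := fun _ => ℕ) (Bool.rec (motive := fun _ => ℕ) U_d_6 (Bool.rec (motive := fun _ => ℕ) U_d_7 U_d_8 (Nat.ble (nat_lit 1508719) q)) (Nat.ble (nat_lit 1450907) q)) (Bool.rec (motive := fun _ => ℕ) (Bool.rec (motive := fun _ => ℕ) U_d_9 U_d_10 (Nat.ble (nat_lit 1626301) q)) (Bool.rec (motive := fun _ => ℕ) U_d_11 U_d_12 (Nat.ble (nat_lit 1744087) q)) (Nat.ble (nat_lit 1684993) q)) (Nat.ble (nat_lit 1567409) q)) (Nat.ble (nat_lit 1393159) q)) q) q) (E_62 (Nat.mod (Bool.rec (motive := fun _ => ℕ) (Bool.rec (motive := fun _ => ℕ) (Bool.rec (motive := fun _ => ℕ) U_d_0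 (Bool.rec (motive := fun _ => ℕ) U_d_1 U_d_2 (Nat.ble (nat_lit 1162541) q)) (Nat.ble (nat_lit 1105579) q)) (Bool.rec (motive := fun _ => ℕ) U_d_3 (Bool.rec (motive := fun _ => ℕ) U_d_4 U_d_5 (Nat.ble (nat_lit 1335233) q)) (Nat.ble (nat_lit 1277147) q)) (Nat.ble (nat_lit 1219607) q)) (Bool.rec (motive := fun _ => ℕ) (Bool.rec (motive := fun _ => ℕ) U_d_6 (Bool.rec (motive := fun _ => ℕ) U_d_7 U_d_8 (Nat.ble (nat_lit 1508719) q)) (Nat.ble (nat_lit 1450907) q)) (Bool.rec (motive := fun _ => ℕ) (Bool.rec (motive := fun _ => ℕ) U_d_9 U_d_10 (Nat.ble (nat_lit 1626301) q)) (Bool.rec (motive := fun _ => ℕ) U_d_11 U_d_12 (Nat.ble (nat_lit 1744087) q)) (Nat.ble (nat_lit 1684993) q)) (Nat.ble (nat_lit 1567409) q)) (Nat.ble (nat_lit 1393159) q)) q) q) (Nat.ble (nat_lit 10) (Nat.mod (Bool.rec (motive := fun _ => ℕ) (Bool.rec (motive := fun _ => ℕ) (Bool.rec (motive := fun _ => ℕ) V_d_0 (Bool.rec (motive := fun _ => ℕ) V_d_1 V_d_2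 (Nat.ble (nat_lit 1162541) q)) (Nat.ble (nat_lit 1105579) q)) (Bool.rec (motive := fun _ => ℕ) V_d_3 (Bool.rec (motive := fun _ => ℕ) V_d_4 V_d_5 (Nat.ble (nat_lit 1335233) q)) (Nat.ble (nat_lit 1277147) q)) (Nat.ble (nat_lit 1219607) q)) (Bool.rec (motive := fun _ => ℕ) (Bool.rec (motive := fun _ => ℕ) V_d_6 (Bool.rec (motive := fun _ => ℕ) V_d_7 V_d_8 (Nat.ble (nat_lit 1508719) q)) (Nat.ble (nat_lit 1450907) q)) (Bool.rec (motive := fun _ => ℕ) (Bool.rec (motive := fun _ => ℕ) V_d_9 V_d_10 (Nat.ble (nat_lit 1626301) q)) (Bool.rec (motive := fun _ => ℕ) V_d_11 V_d_12 (Nat.ble (nat_lit 1744087) q)) (Nat.ble (nat_lit 1684993) q)) (Nat.ble (nat_lit 1567409) q)) (Nat.ble (nat_lit 1393159) q)) q))) (Bool.rec (motive := fun _ => Bool) (E_63 (Nat.mod (Bool.rec (motive := fun _ => ℕ) (Bool.rec (motive := fun _ => ℕ) (Bool.rec (motive := fun _ => ℕ) U_d_0 (Bool.rec (motive := fun _ => ℕ) U_d_1 U_d_2 (Nat.ble (nat_lit 1162541)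 q)) (Nat.ble (nat_lit 1105579) q)) (Bool.rec (motive := fun _ => ℕ) U_d_3 (Bool.rec (motive := fun _ => ℕ) U_d_4 U_d_5 (Nat.ble (nat_lit 1335233) q)) (Nat.ble (nat_lit 1277147) q)) (Nat.ble (nat_lit 1219607) q)) (Bool.rec (motive := fun _ => ℕ) (Bool.rec (motive := fun _ => ℕ) U_d_6 (Bool.rec (motive := fun _ => ℕ) U_d_7 U_d_8 (Nat.ble (nat_lit 1508719) q)) (Nat.ble (nat_lit 1450907) q)) (Bool.rec (motive := fun _ => ℕ) (Bool.rec (motive := fun _ => ℕ) U_d_9 U_d_10 (Nat.ble (nat_lit 1626301) q)) (Bool.rec (motive := fun _ => ℕ) U_d_11 U_d_12 (Nat.ble (nat_lit 1744087) q)) (Nat.ble (nat_lit 1684993) q)) (Nat.ble (nat_lit 1567409) q)) (Nat.ble (nat_lit 1393159) q)) q) q) (E_64 (Nat.mod (Bool.rec (motive := fun _ => ℕ) (Bool.rec (motive := fun _ => ℕ) (Bool.rec (motive := fun _ => ℕ) U_d_0 (Bool.rec (motive := fun _ => ℕ) U_d_1 U_d_2 (Nat.ble (nat_lit 1162541) q)) (Nat.ble (nat_lit 1105579) q)) (Bool.rec (motive := fun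 _ => ℕ) U_d_3 (Bool.rec (motive := fun _ => ℕ) U_d_4 U_d_5 (Nat.ble (nat_lit 1335233) q)) (Nat.ble (nat_lit 1277147) q)) (Nat.ble (nat_lit 1219607) q)) (Bool.rec (motive := fun _ => ℕ) (Bool.rec (motive := fun _ => ℕ) U_d_6 (Bool.rec (motive := fun _ => ℕ) U_d_7 U_d_8 (Nat.ble (nat_lit 1508719) q)) (Nat.ble (nat_lit 1450907) q)) (Bool.rec (motive := fun _ => ℕ) (Bool.rec (motive := fun _ => ℕ) U_d_9 U_d_10 (Nat.ble (nat_lit 1626301) q)) (Bool.rec (motive := fun _ => ℕ) U_d_11 U_d_12 (Nat.ble (nat_lit 1744087) q)) (Nat.ble (nat_lit 1684993) q)) (Nat.ble (nat_lit 1567409) q)) (Nat.ble (nat_lit 1393159) q)) q) q) (Nat.ble (nat_lit 12) (Nat.mod (Bool.rec (motive := fun _ => ℕ) (Bool.rec (motive := fun _ => ℕ) (Bool.rec (motive := fun _ => ℕ) V_d_0 (Bool.rec (motive := fun _ => ℕ) V_d_1 V_d_2 (Nat.ble (nat_lit 1162541) q)) (Nat.ble (nat_lit 1105579) q)) (Bool.rec (motive := fun _ => ℕ) V_d_3 (Bool.rec (motive := fun _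 => ℕ) V_d_4 V_d_5 (Nat.ble (nat_lit 1335233) q)) (Nat.ble (nat_lit 1277147) q)) (Nat.ble (nat_lit 1219607) q)) (Bool.rec (motive := fun _ => ℕ) (Bool.rec (motive := fun _ => ℕ) V_d_6 (Bool.rec (motive := fun _ => ℕ) V_d_7 V_d_8 (Nat.ble (nat_lit 1508719) q)) (Nat.ble (nat_lit 1450907) q)) (Bool.rec (motive := fun _ => ℕ) (Bool.rec (motive := fun _ => ℕ) V_d_9 V_d_10 (Nat.ble (nat_lit 1626301) q)) (Bool.rec (motive := fun _ => ℕ) V_d_11 V_d_12 (Nat.ble (nat_lit 1744087) q)) (Nat.ble (nat_lit 1684993) q)) (Nat.ble (nat_lit 1567409) q)) (Nat.ble (nat_lit 1393159) q)) q))) (Nat.ble (nat_lit 11) (Nat.mod (Bool.rec (motive := fun _ => ℕ) (Bool.rec (motive := fun _ => ℕ) (Bool.rec (motive := fun _ => ℕ) V_d_0 (Bool.rec (motive := fun _ => ℕ) V_d_1 V_d_2 (Nat.ble (nat_lit 1162541) q)) (Nat.ble (nat_lit 1105579) q)) (Bool.rec (motive := fun _ => ℕ) V_d_3 (Bool.rec (motive := fun _ => ℕ) V_d_4 V_d_5 (Nat.ble (nat_lit 1335233)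 q)) (Nat.ble (nat_lit 1277147) q)) (Nat.ble (nat_lit 1219607) q)) (Bool.rec (motive := fun _ => ℕ) (Bool.rec (motive := fun _ => ℕ) V_d_6 (Bool.rec (motive := fun _ => ℕ) V_d_7 V_d_8 (Nat.ble (nat_lit 1508719) q)) (Nat.ble (nat_lit 1450907) q)) (Bool.rec (motive := fun _ => ℕ) (Bool.rec (motive := fun _ => ℕ) V_d_9 V_d_10 (Nat.ble (nat_lit 1626301) q)) (Bool.rec (motive := fun _ => ℕ) V_d_11 V_d_12 (Nat.ble (nat_lit 1744087) q)) (Nat.ble (nat_lit 1684993) q)) (Nat.ble (nat_lit 1567409) q)) (Nat.ble (nat_lit 1393159) q)) q))) (Bool.rec (motive := fun _ => Bool) (Bool.rec (motive := fun _ => Bool) (E_65 (Nat.mod (Bool.rec (motive := fun _ => ℕ) (Bool.rec (motive := fun _ => ℕ) (Bool.rec (motive := fun _ => ℕ) U_d_0 (Bool.rec (motive := fun _ => ℕ) U_d_1 U_d_2 (Nat.ble (nat_lit 1162541) q)) (Nat.ble (nat_lit 1105579) q)) (Bool.rec (motive := fun _ => ℕ) U_d_3 (Bool.rec (motive := fun _ => ℕ) U_d_4 U_d_5 (Nat.ble (nat_lit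 1335233) q)) (Nat.ble (nat_lit 1277147) q)) (Nat.ble (nat_lit 1219607) q)) (Bool.rec (motive := fun _ => ℕ) (Bool.rec (motive := fun _ => ℕ) U_d_6 (Bool.rec (motive := fun _ => ℕ) U_d_7 U_d_8 (Nat.ble (nat_lit 1508719) q)) (Nat.ble (nat_lit 1450907) q)) (Bool.rec (motive := fun _ => ℕ) (Bool.rec (motive := fun _ => ℕ) U_d_9 U_d_10 (Nat.ble (nat_lit 1626301) q)) (Bool.rec (motive := fun _ => ℕ) U_d_11 U_d_12 (Nat.ble (nat_lit 1744087) q)) (Nat.ble (nat_lit 1684993) q)) (Nat.ble (nat_lit 1567409) q)) (Nat.ble (nat_lit 1393159) q)) q) q) (E_66 (Nat.mod (Bool.rec (motive := fun _ => ℕ) (Bool.rec (motive := fun _ => ℕ) (Bool.rec (motive := fun _ => ℕ) U_d_0 (Bool.rec (motive := fun _ => ℕ) U_d_1 U_d_2 (Nat.ble (nat_lit 1162541) q)) (Nat.ble (nat_lit 1105579) q)) (Bool.rec (motive := fun _ => ℕ) U_d_3 (Bool.rec (motive := fun _ => ℕ) U_d_4 U_d_5 (Nat.ble (nat_lit 1335233) q)) (Nat.ble (nat_lit 1277147) q)) (Nat.ble (nat_lit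 1219607) q)) (Bool.rec (motive := fun _ => ℕ) (Bool.rec (motive := fun _ => ℕ) U_d_6 (Bool.rec (motive := fun _ => ℕ) U_d_7 U_d_8 (Nat.ble (nat_lit 1508719) q)) (Nat.ble (nat_lit 1450907) q)) (Bool.rec (motive := fun _ => ℕ) (Bool.rec (motive := fun _ => ℕ) U_d_9 U_d_10 (Nat.ble (nat_lit 1626301) q)) (Bool.rec (motive := fun _ => ℕ) U_d_11 U_d_12 (Nat.ble (nat_lit 1744087) q)) (Nat.ble (nat_lit 1684993) q)) (Nat.ble (nat_lit 1567409) q)) (Nat.ble (nat_lit 1393159) q)) q) q) (Nat.ble (nat_lit 14) (Nat.mod (Bool.rec (motive := fun _ => ℕ) (Bool.rec (motive := fun _ => ℕ) (Bool.rec (motive := fun _ => ℕ) V_d_0 (Bool.rec (motive := fun _ => ℕ) V_d_1 V_d_2 (Nat.ble (nat_lit 1162541) q)) (Nat.ble (nat_lit 1105579) q)) (Bool.rec (motive := fun _ => ℕ) V_d_3 (Bool.rec (motive := fun _ => ℕ) V_d_4 V_d_5 (Nat.ble (nat_lit 1335233) q)) (Nat.ble (nat_lit 1277147) q)) (Nat.ble (nat_lit 1219607) q)) (Bool.rec (motive := fun _ =>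 ℕ) (Bool.rec (motive := fun _ => ℕ) V_d_6 (Bool.rec (motive := fun _ => ℕ) V_d_7 V_d_8 (Nat.ble (nat_lit 1508719) q)) (Nat.ble (nat_lit 1450907) q)) (Bool.rec (motive := fun _ => ℕ) (Bool.rec (motive := fun _ => ℕ) V_d_9 V_d_10 (Nat.ble (nat_lit 1626301) q)) (Bool.rec (motive := fun _ => ℕ) V_d_11 V_d_12 (Nat.ble (nat_lit 1744087) q)) (Nat.ble (nat_lit 1684993) q)) (Nat.ble (nat_lit 1567409) q)) (Nat.ble (nat_lit 1393159) q)) q))) (Bool.rec (motive := fun _ => Bool) (E_67 (Nat.mod (Bool.rec (motive := fun _ => ℕ) (Bool.rec (motive := fun _ => ℕ) (Bool.rec (motive := fun _ => ℕ) U_d_0 (Bool.rec (motive := fun _ => ℕ) U_d_1 U_d_2 (Nat.ble (nat_lit 1162541) q)) (Nat.ble (nat_lit 1105579) q)) (Bool.rec (motive := fun _ => ℕ) U_d_3 (Bool.rec (motive := fun _ => ℕ) U_d_4 U_d_5 (Nat.ble (nat_lit 1335233) q)) (Nat.ble (nat_lit 1277147) q)) (Nat.ble (nat_lit 1219607) q)) (Bool.rec (motive := fun _ => ℕ) (Bool.rec (motive :=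 fun _ => ℕ) U_d_6 (Bool.rec (motive := fun _ => ℕ) U_d_7 U_d_8 (Nat.ble (nat_lit 1508719) q)) (Nat.ble (nat_lit 1450907) q)) (Bool.rec (motive := fun _ => ℕ) (Bool.rec (motive := fun _ => ℕ) U_d_9 U_d_10 (Nat.ble (nat_lit 1626301) q)) (Bool.rec (motive := fun _ => ℕ) U_d_11 U_d_12 (Nat.ble (nat_lit 1744087) q)) (Nat.ble (nat_lit 1684993) q)) (Nat.ble (nat_lit 1567409) q)) (Nat.ble (nat_lit 1393159) q)) q) q) (E_68 (Nat.mod (Bool.rec (motive := fun _ => ℕ) (Bool.rec (motive := fun _ => ℕ) (Bool.rec (motive := fun _ => ℕ) U_d_0 (Bool.rec (motive := fun _ => ℕ) U_d_1 U_d_2 (Nat.ble (nat_lit 1162541) q)) (Nat.ble (nat_lit 1105579) q)) (Bool.rec (motive := fun _ => ℕ) U_d_3 (Bool.rec (motive := fun _ => ℕ) U_d_4 U_d_5 (Nat.ble (nat_lit 1335233) q)) (Nat.ble (nat_lit 1277147) q)) (Nat.ble (nat_lit 1219607) q)) (Bool.rec (motive := fun _ => ℕ) (Bool.rec (motive := fun _ => ℕ) U_d_6 (Bool.rec (motive := fun _ => ℕ) U_d_7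 U_d_8 (Nat.ble (nat_lit 1508719) q)) (Nat.ble (nat_lit 1450907) q)) (Bool.rec (motive := fun _ => ℕ) (Bool.rec (motive := fun _ => ℕ) U_d_9 U_d_10 (Nat.ble (nat_lit 1626301) q)) (Bool.rec (motive := fun _ => ℕ) U_d_11 U_d_12 (Nat.ble (nat_lit 1744087) q)) (Nat.ble (nat_lit 1684993) q)) (Nat.ble (nat_lit 1567409) q)) (Nat.ble (nat_lit 1393159) q)) q) q) (Nat.ble (nat_lit 16) (Nat.mod (Bool.rec (motive := fun _ => ℕ) (Bool.rec (motive := fun _ => ℕ) (Bool.rec (motive := fun _ => ℕ) V_d_0 (Bool.rec (motive := fun _ => ℕ) V_d_1 V_d_2 (Nat.ble (nat_lit 1162541) q)) (Nat.ble (nat_lit 1105579) q)) (Bool.rec (motive := fun _ => ℕ) V_d_3 (Bool.rec (motive := fun _ => ℕ) V_d_4 V_d_5 (Nat.ble (nat_lit 1335233) q)) (Nat.ble (nat_lit 1277147) q)) (Nat.ble (nat_lit 1219607) q)) (Bool.rec (motive := fun _ => ℕ) (Bool.rec (motive := fun _ => ℕ) V_d_6 (Bool.rec (motive := fun _ => ℕ) V_d_7 V_d_8 (Nat.ble (nat_lit 1508719) q)) (Nat.ble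 (nat_lit 1450907) q)) (Bool.rec (motive := fun _ => ℕ) (Bool.rec (motive := fun _ => ℕ) V_d_9 V_d_10 (Nat.ble (nat_lit 1626301) q)) (Bool.rec (motive := fun _ => ℕ) V_d_11 V_d_12 (Nat.ble (nat_lit 1744087) q)) (Nat.ble (nat_lit 1684993) q)) (Nat.ble (nat_lit 1567409) q)) (Nat.ble (nat_lit 1393159) q)) q))) (Nat.ble (nat_lit 15) (Nat.mod (Bool.rec (motive := fun _ => ℕ) (Bool.rec (motive := fun _ => ℕ) (Bool.rec (motive := fun _ => ℕ) V_d_0 (Bool.rec (motive := fun _ => ℕ) V_d_1 V_d_2 (Nat.ble (nat_lit 1162541) q)) (Nat.ble (nat_lit 1105579) q)) (Bool.rec (motive := fun _ => ℕ) V_d_3 (Bool.rec (motive := fun _ => ℕ) V_d_4 V_d_5 (Nat.ble (nat_lit 1335233) q)) (Nat.ble (nat_lit 1277147) q)) (Nat.ble (nat_lit 1219607) q)) (Bool.rec (motive := fun _ => ℕ) (Bool.rec (motive := fun _ => ℕ) V_d_6 (Bool.rec (motive := fun _ => ℕ) V_d_7 V_d_8 (Nat.ble (nat_lit 1508719) q)) (Nat.ble (nat_lit 1450907) q)) (Bool.rec (motive :=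 fun _ => ℕ) (Bool.rec (motive := fun _ => ℕ) V_d_9 V_d_10 (Nat.ble (nat_lit 1626301) q)) (Bool.rec (motive := fun _ => ℕ) V_d_11 V_d_12 (Nat.ble (nat_lit 1744087) q)) (Nat.ble (nat_lit 1684993) q)) (Nat.ble (nat_lit 1567409) q)) (Nat.ble (nat_lit 1393159) q)) q))) (Nat.ble (nat_lit 13) (Nat.mod (Bool.rec (motive := fun _ => ℕ) (Bool.rec (motive := fun _ => ℕ) (Bool.rec (motive := fun _ => ℕ) V_d_0 (Bool.rec (motive := fun _ => ℕ) V_d_1 V_d_2 (Nat.ble (nat_lit 1162541) q)) (Nat.ble (nat_lit 1105579) q)) (Bool.rec (motive := fun _ => ℕ) V_d_3 (Bool.rec (motive := fun _ => ℕ) V_d_4 V_d_5 (Nat.ble (nat_lit 1335233) q)) (Nat.ble (nat_lit 1277147) q)) (Nat.ble (nat_lit 1219607) q)) (Bool.rec (motive := fun _ => ℕ) (Bool.rec (motive := fun _ => ℕ) V_d_6 (Bool.rec (motive := fun _ => ℕ) V_d_7 V_d_8 (Nat.ble (nat_lit 1508719) q)) (Nat.ble (nat_lit 1450907) q)) (Bool.rec (motive := fun _ => ℕ) (Bool.rec (motive := fun _ =>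 ℕ) V_d_9 V_d_10 (Nat.ble (nat_lit 1626301) q)) (Bool.rec (motive := fun _ => ℕ) V_d_11 V_d_12 (Nat.ble (nat_lit 1744087) q)) (Nat.ble (nat_lit 1684993) q)) (Nat.ble (nat_lit 1567409) q)) (Nat.ble (nat_lit 1393159) q)) q))) (Nat.ble (nat_lit 9) (Nat.mod (Bool.rec (motive := fun _ => ℕ) (Bool.rec (motive := fun _ => ℕ) (Bool.rec (motive := fun _ => ℕ) V_d_0 (Bool.rec (motive := fun _ => ℕ) V_d_1 V_d_2 (Nat.ble (nat_lit 1162541) q)) (Nat.ble (nat_lit 1105579) q)) (Bool.rec (motive := fun _ => ℕ) V_d_3 (Bool.rec (motive := fun _ => ℕ) V_d_4 V_d_5 (Nat.ble (nat_lit 1335233) q)) (Nat.ble (nat_lit 1277147) q)) (Nat.ble (nat_lit 1219607) q)) (Bool.rec (motive := fun _ => ℕ) (Bool.rec (motive := fun _ => ℕ) V_d_6 (Bool.rec (motive := fun _ => ℕ) V_d_7 V_d_8 (Nat.ble (nat_lit 1508719) q)) (Nat.ble (nat_lit 1450907) q)) (Bool.rec (motive := fun _ => ℕ) (Bool.rec (motive := fun _ => ℕ) V_d_9 V_d_10 (Nat.ble (nat_lit 1626301)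 q)) (Bool.rec (motive := fun _ => ℕ) V_d_11 V_d_12 (Nat.ble (nat_lit 1744087) q)) (Nat.ble (nat_lit 1684993) q)) (Nat.ble (nat_lit 1567409) q)) (Nat.ble (nat_lit 1393159) q)) q))) (Nat.ble (nat_lit 2) (Nat.mod (Bool.rec (motive := fun _ => ℕ) (Bool.rec (motive := fun _ => ℕ) (Bool.rec (motive := fun _ => ℕ) V_d_0 (Bool.rec (motive := fun _ => ℕ) V_d_1 V_d_2 (Nat.ble (nat_lit 1162541) q)) (Nat.ble (nat_lit 1105579) q)) (Bool.rec (motive := fun _ => ℕ) V_d_3 (Bool.rec (motive := fun _ => ℕ) V_d_4 V_d_5 (Nat.ble (nat_lit 1335233) q)) (Nat.ble (nat_lit 1277147) q)) (Nat.ble (nat_lit 1219607) q)) (Bool.rec (motive := fun _ => ℕ) (Bool.rec (motive := fun _ => ℕ) V_d_6 (Bool.rec (motive := fun _ => ℕ) V_d_7 V_d_8 (Nat.ble (nat_lit 1508719) q)) (Nat.ble (nat_lit 1450907) q)) (Bool.rec (motive := fun _ => ℕ) (Bool.rec (motive := fun _ => ℕ) V_d_9 V_d_10 (Nat.ble (nat_lit 1626301) q)) (Bool.rec (motive := fun _ => ℕ) V_d_11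 V_d_12 (Nat.ble (nat_lit 1744087) q)) (Nat.ble (nat_lit 1684993) q)) (Nat.ble (nat_lit 1567409) q)) (Nat.ble (nat_lit 1393159) q)) q)))
noncomputable def E_69 (t q : ℕ) : Bool := Nat.beq (G_e t (F_e q)) q
noncomputable def a_69 : CfsgLib.TC.AG Col := .word .e 22 0 true [Col.e]
noncomputable def E_70 (t q : ℕ) : Bool := Nat.beq (G_a t (G_e t (G_a t (F_e q)))) q
noncomputable def a_70 : CfsgLib.TC.AG Col := .word .e 4 0 true [Col.a, Col.e, Col.a]
noncomputable def E_71 (t q : ℕ) : Bool := band (Nat.beq (PT (F_e q)) q) (band (Nat.beq (DT (F_e q)) 4) (band (Nat.ble (Nat.succ q) (F_e q)) (Nat.ble (Nat.succ q0) (F_e q))))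
noncomputable def a_71 : CfsgLib.TC.AG Col := .tree .e
noncomputable def E_72 (t q : ℕ) : Bool := Nat.beq (G_b t (G_e t (G_b t (F_e q)))) q
noncomputable def a_72 : CfsgLib.TC.AG Col := .word .e 10 0 true [Col.b, Col.e, Col.b]
noncomputable def E_73 (t q : ℕ) : Bool := Nat.beq (G_c t (G_e t (G_c t (F_e q)))) q
noncomputable def a_73 : CfsgLib.TC.AG Col := .word .e 15 0 true [Col.c, Col.e, Col.c]
noncomputable def E_74 (t q : ℕ) : Bool := Nat.beq (G_f t (G_e t (G_f t (F_e q)))) q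
noncomputable def a_74 : CfsgLib.TC.AG Col := .word .e 23 1 true [Col.f, Col.e, Col.f]
noncomputable def E_75 (t q : ℕ) : Bool := Nat.beq (G_d t (G_e t (G_d t (G_e t (G_d t (F_e q)))))) q
noncomputable def a_75 : CfsgLib.TC.AG Col := .word .e 19 0 true [Col.d, Col.e, Col.d, Col.e, Col.d]
noncomputable def E_76 (t q : ℕ) : Bool := Nat.beq (G_g t (G_e t (G_g t (F_e q)))) q
noncomputable def a_76 : CfsgLib.TC.AG Col := .word .e 24 1 true [Col.g, Col.e, Col.g]
noncomputable def E_77 (t q : ℕ) : Bool := Nat.beq (G_g t (G_f t (G_g t (G_f t (F_e q))))) q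
noncomputable def a_77 : CfsgLib.TC.AG Col := .word .e 28 4 true [Col.f, Col.g, Col.f, Col.g]
noncomputable def E_78 (t q : ℕ) : Bool := Nat.beq (G_c t (G_b t (G_a t (G_c t (G_b t (G_a t (G_c t (G_b t (G_a t (F_e q)))))))))) q
noncomputable def a_78 : CfsgLib.TC.AG Col := .word .e 29 9 true [Col.a, Col.b, Col.c, Col.a, Col.b, Col.c, Col.a, Col.b, Col.c]
noncomputable def E_79 (t q : ℕ) : Bool := Nat.beq (G_f t (G_g t (G_f t (G_g t (F_e q))))) q
noncomputable def a_79 : CfsgLib.TC.AG Col := .word .e 28 0 false [Col.g, Col.f, Col.g, Col.f]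
noncomputable def E_80 (t q : ℕ) : Bool := Nat.beq (G_a t (G_b t (G_c t (G_a t (G_b t (G_c t (G_a t (G_b t (G_c t (F_e q)))))))))) q
noncomputable def a_80 : CfsgLib.TC.AG Col := .word .e 29 0 false [Col.c, Col.b, Col.a, Col.c, Col.b, Col.a, Col.c, Col.b, Col.a]
noncomputable def E_81 (t q : ℕ) : Bool := band (Nat.beq q0 q) (Nat.beq (F_e q) q0)
noncomputable def a_81 : CfsgLib.TC.AG Col := .base .e 3 [] []
noncomputable def D_e (q : ℕ) : Bool := (Bool.rec (motive := fun _ => Bool) (Bool.rec (motive := fun _ => Bool) (E_69 (Nat.mod (Bool.rec (motive := fun _ => ℕ) (Bool.rec (motive := fun _ => ℕ) (Bool.rec (motive := fun _ => ℕ) U_e_0 (Bool.rec (motive := fun _ => ℕ) U_e_1 U_e_2 (Nat.ble (nat_lit 1162541) q)) (Nat.ble (nat_lit 1105579) q)) (Bool.rec (motive := fun _ => ℕ) U_e_3 (Bool.rec (motive := fun _ => ℕ) U_e_4 U_e_5 (Nat.ble (nat_lit 1335233) q)) (Nat.ble (nat_lit 1277147) q)) (Nat.ble (nat_lit 1219607) q)) (Bool.rec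 (motive := fun _ => ℕ) (Bool.rec (motive := fun _ => ℕ) U_e_6 (Bool.rec (motive := fun _ => ℕ) U_e_7 U_e_8 (Nat.ble (nat_lit 1508719) q)) (Nat.ble (nat_lit 1450907) q)) (Bool.rec (motive := fun _ => ℕ) (Bool.rec (motive := fun _ => ℕ) U_e_9 U_e_10 (Nat.ble (nat_lit 1626301) q)) (Bool.rec (motive := fun _ => ℕ) U_e_11 U_e_12 (Nat.ble (nat_lit 1744087) q)) (Nat.ble (nat_lit 1684993) q)) (Nat.ble (nat_lit 1567409) q)) (Nat.ble (nat_lit 1393159) q)) q) q) (E_70 (Nat.mod (Bool.rec (motive := fun _ => ℕ) (Bool.rec (motive := fun _ => ℕ) (Bool.rec (motive := fun _ => ℕ) U_e_0 (Bool.rec (motive := fun _ => ℕ) U_e_1 U_e_2 (Nat.ble (nat_lit 1162541) q)) (Nat.ble (nat_lit 1105579) q)) (Bool.rec (motive := fun _ => ℕ) U_e_3 (Bool.rec (motive := fun _ => ℕ) U_e_4 U_e_5 (Nat.ble (nat_lit 1335233) q)) (Nat.ble (nat_lit 1277147) q)) (Nat.ble (nat_lit 1219607) q)) (Bool.rec (motive := fun _ => ℕ) (Bool.rec (motive := fun _ => ℕ) U_e_6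 (Bool.rec (motive := fun _ => ℕ) U_e_7 U_e_8 (Nat.ble (nat_lit 1508719) q)) (Nat.ble (nat_lit 1450907) q)) (Bool.rec (motive := fun _ => ℕ) (Bool.rec (motive := fun _ => ℕ) U_e_9 U_e_10 (Nat.ble (nat_lit 1626301) q)) (Bool.rec (motive := fun _ => ℕ) U_e_11 U_e_12 (Nat.ble (nat_lit 1744087) q)) (Nat.ble (nat_lit 1684993) q)) (Nat.ble (nat_lit 1567409) q)) (Nat.ble (nat_lit 1393159) q)) q) q) (Nat.ble (nat_lit 1) (Nat.mod (Bool.rec (motive := fun _ => ℕ) (Bool.rec (motive := fun _ => ℕ) (Bool.rec (motive := fun _ => ℕ) V_e_0 (Bool.rec (motive := fun _ => ℕ) V_e_1 V_e_2 (Nat.ble (nat_lit 1162541) q)) (Nat.ble (nat_lit 1105579) q)) (Bool.rec (motive := fun _ => ℕ) V_e_3 (Bool.rec (motive := fun _ => ℕ) V_e_4 V_e_5 (Nat.ble (nat_lit 1335233) q)) (Nat.ble (nat_lit 1277147) q)) (Nat.ble (nat_lit 1219607) q)) (Bool.rec (motive := fun _ => ℕ) (Bool.rec (motive := fun _ => ℕ) V_e_6 (Bool.rec (motive := fun _ => ℕ) V_e_7 V_e_8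 (Nat.ble (nat_lit 1508719) q)) (Nat.ble (nat_lit 1450907) q)) (Bool.rec (motive := fun _ => ℕ) (Bool.rec (motive := fun _ => ℕ) V_e_9 V_e_10 (Nat.ble (nat_lit 1626301) q)) (Bool.rec (motive := fun _ => ℕ) V_e_11 V_e_12 (Nat.ble (nat_lit 1744087) q)) (Nat.ble (nat_lit 1684993) q)) (Nat.ble (nat_lit 1567409) q)) (Nat.ble (nat_lit 1393159) q)) q))) (Bool.rec (motive := fun _ => Bool) (Bool.rec (motive := fun _ => Bool) (Bool.rec (motive := fun _ => Bool) (E_71 (Nat.mod (Bool.rec (motive := fun _ => ℕ) (Bool.rec (motive := fun _ => ℕ) (Bool.rec (motive := fun _ => ℕ) U_e_0 (Bool.rec (motive := fun _ => ℕ) U_e_1 U_e_2 (Nat.ble (nat_lit 1162541) q)) (Nat.ble (nat_lit 1105579) q)) (Bool.rec (motive := fun _ => ℕ) U_e_3 (Bool.rec (motive := fun _ => ℕ) U_e_4 U_e_5 (Nat.ble (nat_lit 1335233) q)) (Nat.ble (nat_lit 1277147) q)) (Nat.ble (nat_lit 1219607) q)) (Bool.rec (motive := fun _ => ℕ) (Bool.rec (motive := fun _ => ℕ) U_e_6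 (Bool.rec (motive := fun _ => ℕ) U_e_7 U_e_8 (Nat.ble (nat_lit 1508719) q)) (Nat.ble (nat_lit 1450907) q)) (Bool.rec (motive := fun _ => ℕ) (Bool.rec (motive := fun _ => ℕ) U_e_9 U_e_10 (Nat.ble (nat_lit 1626301) q)) (Bool.rec (motive := fun _ => ℕ) U_e_11 U_e_12 (Nat.ble (nat_lit 1744087) q)) (Nat.ble (nat_lit 1684993) q)) (Nat.ble (nat_lit 1567409) q)) (Nat.ble (nat_lit 1393159) q)) q) q) (E_72 (Nat.mod (Bool.rec (motive := fun _ => ℕ) (Bool.rec (motive := fun _ => ℕ) (Bool.rec (motive := fun _ => ℕ) U_e_0 (Bool.rec (motive := fun _ => ℕ) U_e_1 U_e_2 (Nat.ble (nat_lit 1162541) q)) (Nat.ble (nat_lit 1105579) q)) (Bool.rec (motive := fun _ => ℕ) U_e_3 (Bool.rec (motive := fun _ => ℕ) U_e_4 U_e_5 (Nat.ble (nat_lit 1335233) q)) (Nat.ble (nat_lit 1277147) q)) (Nat.ble (nat_lit 1219607) q)) (Bool.rec (motive := fun _ => ℕ) (Bool.rec (motive := fun _ => ℕ) U_e_6 (Bool.rec (motive := fun _ => ℕ) U_e_7 U_e_8 (Nat.ble (nat_lit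 1508719) q)) (Nat.ble (nat_lit 1450907) q)) (Bool.rec (motive := fun _ => ℕ) (Bool.rec (motive := fun _ => ℕ) U_e_9 U_e_10 (Nat.ble (nat_lit 1626301) q)) (Bool.rec (motive := fun _ => ℕ) U_e_11 U_e_12 (Nat.ble (nat_lit 1744087) q)) (Nat.ble (nat_lit 1684993) q)) (Nat.ble (nat_lit 1567409) q)) (Nat.ble (nat_lit 1393159) q)) q) q) (Nat.ble (nat_lit 3) (Nat.mod (Bool.rec (motive := fun _ => ℕ) (Bool.rec (motive := fun _ => ℕ) (Bool.rec (motive := fun _ => ℕ) V_e_0 (Bool.rec (motive := fun _ => ℕ) V_e_1 V_e_2 (Nat.ble (nat_lit 1162541) q)) (Nat.ble (nat_lit 1105579) q)) (Bool.rec (motive := fun _ => ℕ) V_e_3 (Bool.rec (motive := fun _ => ℕ) V_e_4 V_e_5 (Nat.ble (nat_lit 1335233) q)) (Nat.ble (nat_lit 1277147) q)) (Nat.ble (nat_lit 1219607) q)) (Bool.rec (motive := fun _ => ℕ) (Bool.rec (motive := fun _ => ℕ) V_e_6 (Bool.rec (motive := fun _ => ℕ) V_e_7 V_e_8 (Nat.ble (nat_lit 1508719) q)) (Nat.ble (nat_lit 1450907) q))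 (Bool.rec (motive := fun _ => ℕ) (Bool.rec (motive := fun _ => ℕ) V_e_9 V_e_10 (Nat.ble (nat_lit 1626301) q)) (Bool.rec (motive := fun _ => ℕ) V_e_11 V_e_12 (Nat.ble (nat_lit 1744087) q)) (Nat.ble (nat_lit 1684993) q)) (Nat.ble (nat_lit 1567409) q)) (Nat.ble (nat_lit 1393159) q)) q))) (Bool.rec (motive := fun _ => Bool) (E_73 (Nat.mod (Bool.rec (motive := fun _ => ℕ) (Bool.rec (motive := fun _ => ℕ) (Bool.rec (motive := fun _ => ℕ) U_e_0 (Bool.rec (motive := fun _ => ℕ) U_e_1 U_e_2 (Nat.ble (nat_lit 1162541) q)) (Nat.ble (nat_lit 1105579) q)) (Bool.rec (motive := fun _ => ℕ) U_e_3 (Bool.rec (motive := fun _ => ℕ) U_e_4 U_e_5 (Nat.ble (nat_lit 1335233) q)) (Nat.ble (nat_lit 1277147) q)) (Nat.ble (nat_lit 1219607) q)) (Bool.rec (motive := fun _ => ℕ) (Bool.rec (motive := fun _ => ℕ) U_e_6 (Bool.rec (motive := fun _ => ℕ) U_e_7 U_e_8 (Nat.ble (nat_lit 1508719) q)) (Nat.ble (nat_lit 1450907) q)) (Bool.rec (motive := fun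 _ => ℕ) (Bool.rec (motive := fun _ => ℕ) U_e_9 U_e_10 (Nat.ble (nat_lit 1626301) q)) (Bool.rec (motive := fun _ => ℕ) U_e_11 U_e_12 (Nat.ble (nat_lit 1744087) q)) (Nat.ble (nat_lit 1684993) q)) (Nat.ble (nat_lit 1567409) q)) (Nat.ble (nat_lit 1393159) q)) q) q) (Bool.rec (motive := fun _ => Bool) (E_74 (Nat.mod (Bool.rec (motive := fun _ => ℕ) (Bool.rec (motive := fun _ => ℕ) (Bool.rec (motive := fun _ => ℕ) U_e_0 (Bool.rec (motive := fun _ => ℕ) U_e_1 U_e_2 (Nat.ble (nat_lit 1162541) q)) (Nat.ble (nat_lit 1105579) q)) (Bool.rec (motive := fun _ => ℕ) U_e_3 (Bool.rec (motive := fun _ => ℕ) U_e_4 U_e_5 (Nat.ble (nat_lit 1335233) q)) (Nat.ble (nat_lit 1277147) q)) (Nat.ble (nat_lit 1219607) q)) (Bool.rec (motive := fun _ => ℕ) (Bool.rec (motive := fun _ => ℕ) U_e_6 (Bool.rec (motive := fun _ => ℕ) U_e_7 U_e_8 (Nat.ble (nat_lit 1508719) q)) (Nat.ble (nat_lit 1450907) q)) (Bool.rec (motive := fun _ => ℕ) (Bool.rec (motive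 := fun _ => ℕ) U_e_9 U_e_10 (Nat.ble (nat_lit 1626301) q)) (Bool.rec (motive := fun _ => ℕ) U_e_11 U_e_12 (Nat.ble (nat_lit 1744087) q)) (Nat.ble (nat_lit 1684993) q)) (Nat.ble (nat_lit 1567409) q)) (Nat.ble (nat_lit 1393159) q)) q) q) (E_75 (Nat.mod (Bool.rec (motive := fun _ => ℕ) (Bool.rec (motive := fun _ => ℕ) (Bool.rec (motive := fun _ => ℕ) U_e_0 (Bool.rec (motive := fun _ => ℕ) U_e_1 U_e_2 (Nat.ble (nat_lit 1162541) q)) (Nat.ble (nat_lit 1105579) q)) (Bool.rec (motive := fun _ => ℕ) U_e_3 (Bool.rec (motive := fun _ => ℕ) U_e_4 U_e_5 (Nat.ble (nat_lit 1335233) q)) (Nat.ble (nat_lit 1277147) q)) (Nat.ble (nat_lit 1219607) q)) (Bool.rec (motive := fun _ => ℕ) (Bool.rec (motive := fun _ => ℕ) U_e_6 (Bool.rec (motive := fun _ => ℕ) U_e_7 U_e_8 (Nat.ble (nat_lit 1508719) q)) (Nat.ble (nat_lit 1450907) q)) (Bool.rec (motive := fun _ => ℕ) (Bool.rec (motive := fun _ => ℕ) U_e_9 U_e_10 (Nat.ble (nat_lit 1626301) q))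 (Bool.rec (motive := fun _ => ℕ) U_e_11 U_e_12 (Nat.ble (nat_lit 1744087) q)) (Nat.ble (nat_lit 1684993) q)) (Nat.ble (nat_lit 1567409) q)) (Nat.ble (nat_lit 1393159) q)) q) q) (Nat.ble (nat_lit 6) (Nat.mod (Bool.rec (motive := fun _ => ℕ) (Bool.rec (motive := fun _ => ℕ) (Bool.rec (motive := fun _ => ℕ) V_e_0 (Bool.rec (motive := fun _ => ℕ) V_e_1 V_e_2 (Nat.ble (nat_lit 1162541) q)) (Nat.ble (nat_lit 1105579) q)) (Bool.rec (motive := fun _ => ℕ) V_e_3 (Bool.rec (motive := fun _ => ℕ) V_e_4 V_e_5 (Nat.ble (nat_lit 1335233) q)) (Nat.ble (nat_lit 1277147) q)) (Nat.ble (nat_lit 1219607) q)) (Bool.rec (motive := fun _ => ℕ) (Bool.rec (motive := fun _ => ℕ) V_e_6 (Bool.rec (motive := fun _ => ℕ) V_e_7 V_e_8 (Nat.ble (nat_lit 1508719) q)) (Nat.ble (nat_lit 1450907) q)) (Bool.rec (motive := fun _ => ℕ) (Bool.rec (motive := fun _ => ℕ) V_e_9 V_e_10 (Nat.ble (nat_lit 1626301) q)) (Bool.rec (motive := fun _ => ℕ) V_e_11 V_e_12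 (Nat.ble (nat_lit 1744087) q)) (Nat.ble (nat_lit 1684993) q)) (Nat.ble (nat_lit 1567409) q)) (Nat.ble (nat_lit 1393159) q)) q))) (Nat.ble (nat_lit 5) (Nat.mod (Bool.rec (motive := fun _ => ℕ) (Bool.rec (motive := fun _ => ℕ) (Bool.rec (motive := fun _ => ℕ) V_e_0 (Bool.rec (motive := fun _ => ℕ) V_e_1 V_e_2 (Nat.ble (nat_lit 1162541) q)) (Nat.ble (nat_lit 1105579) q)) (Bool.rec (motive := fun _ => ℕ) V_e_3 (Bool.rec (motive := fun _ => ℕ) V_e_4 V_e_5 (Nat.ble (nat_lit 1335233) q)) (Nat.ble (nat_lit 1277147) q)) (Nat.ble (nat_lit 1219607) q)) (Bool.rec (motive := fun _ => ℕ) (Bool.rec (motive := fun _ => ℕ) V_e_6 (Bool.rec (motive := fun _ => ℕ) V_e_7 V_e_8 (Nat.ble (nat_lit 1508719) q)) (Nat.ble (nat_lit 1450907) q)) (Bool.rec (motive := fun _ => ℕ) (Bool.rec (motive := fun _ => ℕ) V_e_9 V_e_10 (Nat.ble (nat_lit 1626301) q)) (Bool.rec (motive := fun _ => ℕ) V_e_11 V_e_12 (Nat.ble (nat_lit 1744087) q)) (Nat.ble (nat_lit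 1684993) q)) (Nat.ble (nat_lit 1567409) q)) (Nat.ble (nat_lit 1393159) q)) q))) (Nat.ble (nat_lit 4) (Nat.mod (Bool.rec (motive := fun _ => ℕ) (Bool.rec (motive := fun _ => ℕ) (Bool.rec (motive := fun _ => ℕ) V_e_0 (Bool.rec (motive := fun _ => ℕ) V_e_1 V_e_2 (Nat.ble (nat_lit 1162541) q)) (Nat.ble (nat_lit 1105579) q)) (Bool.rec (motive := fun _ => ℕ) V_e_3 (Bool.rec (motive := fun _ => ℕ) V_e_4 V_e_5 (Nat.ble (nat_lit 1335233) q)) (Nat.ble (nat_lit 1277147) q)) (Nat.ble (nat_lit 1219607) q)) (Bool.rec (motive := fun _ => ℕ) (Bool.rec (motive := fun _ => ℕ) V_e_6 (Bool.rec (motive := fun _ => ℕ) V_e_7 V_e_8 (Nat.ble (nat_lit 1508719) q)) (Nat.ble (nat_lit 1450907) q)) (Bool.rec (motive := fun _ => ℕ) (Bool.rec (motive := fun _ => ℕ) V_e_9 V_e_10 (Nat.ble (nat_lit 1626301) q)) (Bool.rec (motive := fun _ => ℕ) V_e_11 V_e_12 (Nat.ble (nat_lit 1744087) q)) (Nat.ble (nat_lit 1684993) q)) (Nat.ble (nat_lit 1567409) q))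 (Nat.ble (nat_lit 1393159) q)) q))) (Bool.rec (motive := fun _ => Bool) (Bool.rec (motive := fun _ => Bool) (E_76 (Nat.mod (Bool.rec (motive := fun _ => ℕ) (Bool.rec (motive := fun _ => ℕ) (Bool.rec (motive := fun _ => ℕ) U_e_0 (Bool.rec (motive := fun _ => ℕ) U_e_1 U_e_2 (Nat.ble (nat_lit 1162541) q)) (Nat.ble (nat_lit 1105579) q)) (Bool.rec (motive := fun _ => ℕ) U_e_3 (Bool.rec (motive := fun _ => ℕ) U_e_4 U_e_5 (Nat.ble (nat_lit 1335233) q)) (Nat.ble (nat_lit 1277147) q)) (Nat.ble (nat_lit 1219607) q)) (Bool.rec (motive := fun _ => ℕ) (Bool.rec (motive := fun _ => ℕ) U_e_6 (Bool.rec (motive := fun _ => ℕ) U_e_7 U_e_8 (Nat.ble (nat_lit 1508719) q)) (Nat.ble (nat_lit 1450907) q)) (Bool.rec (motive := fun _ => ℕ) (Bool.rec (motive := fun _ => ℕ) U_e_9 U_e_10 (Nat.ble (nat_lit 1626301) q)) (Bool.rec (motive := fun _ => ℕ) U_e_11 U_e_12 (Nat.ble (nat_lit 1744087) q)) (Nat.ble (nat_lit 1684993) q)) (Nat.ble (nat_lit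 1567409) q)) (Nat.ble (nat_lit 1393159) q)) q) q) (Bool.rec (motive := fun _ => Bool) (E_77 (Nat.mod (Bool.rec (motive := fun _ => ℕ) (Bool.rec (motive := fun _ => ℕ) (Bool.rec (motive := fun _ => ℕ) U_e_0 (Bool.rec (motive := fun _ => ℕ) U_e_1 U_e_2 (Nat.ble (nat_lit 1162541) q)) (Nat.ble (nat_lit 1105579) q)) (Bool.rec (motive := fun _ => ℕ) U_e_3 (Bool.rec (motive := fun _ => ℕ) U_e_4 U_e_5 (Nat.ble (nat_lit 1335233) q)) (Nat.ble (nat_lit 1277147) q)) (Nat.ble (nat_lit 1219607) q)) (Bool.rec (motive := fun _ => ℕ) (Bool.rec (motive := fun _ => ℕ) U_e_6 (Bool.rec (motive := fun _ => ℕ) U_e_7 U_e_8 (Nat.ble (nat_lit 1508719) q)) (Nat.ble (nat_lit 1450907) q)) (Bool.rec (motive := fun _ => ℕ) (Bool.rec (motive := fun _ => ℕ) U_e_9 U_e_10 (Nat.ble (nat_lit 1626301) q)) (Bool.rec (motive := fun _ => ℕ) U_e_11 U_e_12 (Nat.ble (nat_lit 1744087) q)) (Nat.ble (nat_lit 1684993) q)) (Nat.ble (nat_lit 1567409) q)) (Nat.ble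 (nat_lit 1393159) q)) q) q) (E_78 (Nat.mod (Bool.rec (motive := fun _ => ℕ) (Bool.rec (motive := fun _ => ℕ) (Bool.rec (motive := fun _ => ℕ) U_e_0 (Bool.rec (motive := fun _ => ℕ) U_e_1 U_e_2 (Nat.ble (nat_lit 1162541) q)) (Nat.ble (nat_lit 1105579) q)) (Bool.rec (motive := fun _ => ℕ) U_e_3 (Bool.rec (motive := fun _ => ℕ) U_e_4 U_e_5 (Nat.ble (nat_lit 1335233) q)) (Nat.ble (nat_lit 1277147) q)) (Nat.ble (nat_lit 1219607) q)) (Bool.rec (motive := fun _ => ℕ) (Bool.rec (motive := fun _ => ℕ) U_e_6 (Bool.rec (motive := fun _ => ℕ) U_e_7 U_e_8 (Nat.ble (nat_lit 1508719) q)) (Nat.ble (nat_lit 1450907) q)) (Bool.rec (motive := fun _ => ℕ) (Bool.rec (motive := fun _ => ℕ) U_e_9 U_e_10 (Nat.ble (nat_lit 1626301) q)) (Bool.rec (motive := fun _ => ℕ) U_e_11 U_e_12 (Nat.ble (nat_lit 1744087) q)) (Nat.ble (nat_lit 1684993) q)) (Nat.ble (nat_lit 1567409) q)) (Nat.ble (nat_lit 1393159) q)) q) q) (Nat.ble (nat_lit 9) (Nat.mod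 (Bool.rec (motive := fun _ => ℕ) (Bool.rec (motive := fun _ => ℕ) (Bool.rec (motive := fun _ => ℕ) V_e_0 (Bool.rec (motive := fun _ => ℕ) V_e_1 V_e_2 (Nat.ble (nat_lit 1162541) q)) (Nat.ble (nat_lit 1105579) q)) (Bool.rec (motive := fun _ => ℕ) V_e_3 (Bool.rec (motive := fun _ => ℕ) V_e_4 V_e_5 (Nat.ble (nat_lit 1335233) q)) (Nat.ble (nat_lit 1277147) q)) (Nat.ble (nat_lit 1219607) q)) (Bool.rec (motive := fun _ => ℕ) (Bool.rec (motive := fun _ => ℕ) V_e_6 (Bool.rec (motive := fun _ => ℕ) V_e_7 V_e_8 (Nat.ble (nat_lit 1508719) q)) (Nat.ble (nat_lit 1450907) q)) (Bool.rec (motive := fun _ => ℕ) (Bool.rec (motive := fun _ => ℕ) V_e_9 V_e_10 (Nat.ble (nat_lit 1626301) q)) (Bool.rec (motive := fun _ => ℕ) V_e_11 V_e_12 (Nat.ble (nat_lit 1744087) q)) (Nat.ble (nat_lit 1684993) q)) (Nat.ble (nat_lit 1567409) q)) (Nat.ble (nat_lit 1393159) q)) q))) (Nat.ble (nat_lit 8) (Nat.mod (Bool.rec (motive := fun _ => ℕ) (Bool.rec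 (motive := fun _ => ℕ) (Bool.rec (motive := fun _ => ℕ) V_e_0 (Bool.rec (motive := fun _ => ℕ) V_e_1 V_e_2 (Nat.ble (nat_lit 1162541) q)) (Nat.ble (nat_lit 1105579) q)) (Bool.rec (motive := fun _ => ℕ) V_e_3 (Bool.rec (motive := fun _ => ℕ) V_e_4 V_e_5 (Nat.ble (nat_lit 1335233) q)) (Nat.ble (nat_lit 1277147) q)) (Nat.ble (nat_lit 1219607) q)) (Bool.rec (motive := fun _ => ℕ) (Bool.rec (motive := fun _ => ℕ) V_e_6 (Bool.rec (motive := fun _ => ℕ) V_e_7 V_e_8 (Nat.ble (nat_lit 1508719) q)) (Nat.ble (nat_lit 1450907) q)) (Bool.rec (motive := fun _ => ℕ) (Bool.rec (motive := fun _ => ℕ) V_e_9 V_e_10 (Nat.ble (nat_lit 1626301) q)) (Bool.rec (motive := fun _ => ℕ) V_e_11 V_e_12 (Nat.ble (nat_lit 1744087) q)) (Nat.ble (nat_lit 1684993) q)) (Nat.ble (nat_lit 1567409) q)) (Nat.ble (nat_lit 1393159) q)) q))) (Bool.rec (motive := fun _ => Bool) (E_79 (Nat.mod (Bool.rec (motive := fun _ => ℕ) (Bool.rec (motive := fun _ => ℕ)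 (Bool.rec (motive := fun _ => ℕ) U_e_0 (Bool.rec (motive := fun _ => ℕ) U_e_1 U_e_2 (Nat.ble (nat_lit 1162541) q)) (Nat.ble (nat_lit 1105579) q)) (Bool.rec (motive := fun _ => ℕ) U_e_3 (Bool.rec (motive := fun _ => ℕ) U_e_4 U_e_5 (Nat.ble (nat_lit 1335233) q)) (Nat.ble (nat_lit 1277147) q)) (Nat.ble (nat_lit 1219607) q)) (Bool.rec (motive := fun _ => ℕ) (Bool.rec (motive := fun _ => ℕ) U_e_6 (Bool.rec (motive := fun _ => ℕ) U_e_7 U_e_8 (Nat.ble (nat_lit 1508719) q)) (Nat.ble (nat_lit 1450907) q)) (Bool.rec (motive := fun _ => ℕ) (Bool.rec (motive := fun _ => ℕ) U_e_9 U_e_10 (Nat.ble (nat_lit 1626301) q)) (Bool.rec (motive := fun _ => ℕ) U_e_11 U_e_12 (Nat.ble (nat_lit 1744087) q)) (Nat.ble (nat_lit 1684993) q)) (Nat.ble (nat_lit 1567409) q)) (Nat.ble (nat_lit 1393159) q)) q) q) (Bool.rec (motive := fun _ => Bool) (E_80 (Nat.mod (Bool.rec (motive := fun _ => ℕ) (Bool.rec (motive := fun _ => ℕ) (Bool.rec (motive :=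 fun _ => ℕ) U_e_0 (Bool.rec (motive := fun _ => ℕ) U_e_1 U_e_2 (Nat.ble (nat_lit 1162541) q)) (Nat.ble (nat_lit 1105579) q)) (Bool.rec (motive := fun _ => ℕ) U_e_3 (Bool.rec (motive := fun _ => ℕ) U_e_4 U_e_5 (Nat.ble (nat_lit 1335233) q)) (Nat.ble (nat_lit 1277147) q)) (Nat.ble (nat_lit 1219607) q)) (Bool.rec (motive := fun _ => ℕ) (Bool.rec (motive := fun _ => ℕ) U_e_6 (Bool.rec (motive := fun _ => ℕ) U_e_7 U_e_8 (Nat.ble (nat_lit 1508719) q)) (Nat.ble (nat_lit 1450907) q)) (Bool.rec (motive := fun _ => ℕ) (Bool.rec (motive := fun _ => ℕ) U_e_9 U_e_10 (Nat.ble (nat_lit 1626301) q)) (Bool.rec (motive := fun _ => ℕ) U_e_11 U_e_12 (Nat.ble (nat_lit 1744087) q)) (Nat.ble (nat_lit 1684993) q)) (Nat.ble (nat_lit 1567409) q)) (Nat.ble (nat_lit 1393159) q)) q) q) (E_81 (Nat.mod (Bool.rec (motive := fun _ => ℕ) (Bool.rec (motive := fun _ => ℕ) (Bool.rec (motive := fun _ => ℕ) U_e_0 (Bool.rec (motive := fun _ => ℕ) U_e_1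 U_e_2 (Nat.ble (nat_lit 1162541) q)) (Nat.ble (nat_lit 1105579) q)) (Bool.rec (motive := fun _ => ℕ) U_e_3 (Bool.rec (motive := fun _ => ℕ) U_e_4 U_e_5 (Nat.ble (nat_lit 1335233) q)) (Nat.ble (nat_lit 1277147) q)) (Nat.ble (nat_lit 1219607) q)) (Bool.rec (motive := fun _ => ℕ) (Bool.rec (motive := fun _ => ℕ) U_e_6 (Bool.rec (motive := fun _ => ℕ) U_e_7 U_e_8 (Nat.ble (nat_lit 1508719) q)) (Nat.ble (nat_lit 1450907) q)) (Bool.rec (motive := fun _ => ℕ) (Bool.rec (motive := fun _ => ℕ) U_e_9 U_e_10 (Nat.ble (nat_lit 1626301) q)) (Bool.rec (motive := fun _ => ℕ) U_e_11 U_e_12 (Nat.ble (nat_lit 1744087) q)) (Nat.ble (nat_lit 1684993) q)) (Nat.ble (nat_lit 1567409) q)) (Nat.ble (nat_lit 1393159) q)) q) q) (Nat.ble (nat_lit 12) (Nat.mod (Bool.rec (motive := fun _ => ℕ) (Bool.rec (motive := fun _ => ℕ) (Bool.rec (motive := fun _ => ℕ) V_e_0 (Bool.rec (motive := fun _ => ℕ) V_e_1 V_e_2 (Nat.ble (nat_lit 1162541) q)) (Nat.ble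 (nat_lit 1105579) q)) (Bool.rec (motive := fun _ => ℕ) V_e_3 (Bool.rec (motive := fun _ => ℕ) V_e_4 V_e_5 (Nat.ble (nat_lit 1335233) q)) (Nat.ble (nat_lit 1277147) q)) (Nat.ble (nat_lit 1219607) q)) (Bool.rec (motive := fun _ => ℕ) (Bool.rec (motive := fun _ => ℕ) V_e_6 (Bool.rec (motive := fun _ => ℕ) V_e_7 V_e_8 (Nat.ble (nat_lit 1508719) q)) (Nat.ble (nat_lit 1450907) q)) (Bool.rec (motive := fun _ => ℕ) (Bool.rec (motive := fun _ => ℕ) V_e_9 V_e_10 (Nat.ble (nat_lit 1626301) q)) (Bool.rec (motive := fun _ => ℕ) V_e_11 V_e_12 (Nat.ble (nat_lit 1744087) q)) (Nat.ble (nat_lit 1684993) q)) (Nat.ble (nat_lit 1567409) q)) (Nat.ble (nat_lit 1393159) q)) q))) (Nat.ble (nat_lit 11) (Nat.mod (Bool.rec (motive := fun _ => ℕ) (Bool.rec (motive := fun _ => ℕ) (Bool.rec (motive := fun _ => ℕ) V_e_0 (Bool.rec (motive := fun _ => ℕ) V_e_1 V_e_2 (Nat.ble (nat_lit 1162541) q)) (Nat.ble (nat_lit 1105579) q)) (Bool.rec (motive :=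 fun _ => ℕ) V_e_3 (Bool.rec (motive := fun _ => ℕ) V_e_4 V_e_5 (Nat.ble (nat_lit 1335233) q)) (Nat.ble (nat_lit 1277147) q)) (Nat.ble (nat_lit 1219607) q)) (Bool.rec (motive := fun _ => ℕ) (Bool.rec (motive := fun _ => ℕ) V_e_6 (Bool.rec (motive := fun _ => ℕ) V_e_7 V_e_8 (Nat.ble (nat_lit 1508719) q)) (Nat.ble (nat_lit 1450907) q)) (Bool.rec (motive := fun _ => ℕ) (Bool.rec (motive := fun _ => ℕ) V_e_9 V_e_10 (Nat.ble (nat_lit 1626301) q)) (Bool.rec (motive := fun _ => ℕ) V_e_11 V_e_12 (Nat.ble (nat_lit 1744087) q)) (Nat.ble (nat_lit 1684993) q)) (Nat.ble (nat_lit 1567409) q)) (Nat.ble (nat_lit 1393159) q)) q))) (Nat.ble (nat_lit 10) (Nat.mod (Bool.rec (motive := fun _ => ℕ) (Bool.rec (motive := fun _ => ℕ) (Bool.rec (motive := fun _ => ℕ) V_e_0 (Bool.rec (motive := fun _ => ℕ) V_e_1 V_e_2 (Nat.ble (nat_lit 1162541) q)) (Nat.ble (nat_lit 1105579) q)) (Bool.rec (motive := fun _ => ℕ) V_e_3 (Bool.rec (motive := fun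 _ => ℕ) V_e_4 V_e_5 (Nat.ble (nat_lit 1335233) q)) (Nat.ble (nat_lit 1277147) q)) (Nat.ble (nat_lit 1219607) q)) (Bool.rec (motive := fun _ => ℕ) (Bool.rec (motive := fun _ => ℕ) V_e_6 (Bool.rec (motive := fun _ => ℕ) V_e_7 V_e_8 (Nat.ble (nat_lit 1508719) q)) (Nat.ble (nat_lit 1450907) q)) (Bool.rec (motive := fun _ => ℕ) (Bool.rec (motive := fun _ => ℕ) V_e_9 V_e_10 (Nat.ble (nat_lit 1626301) q)) (Bool.rec (motive := fun _ => ℕ) V_e_11 V_e_12 (Nat.ble (nat_lit 1744087) q)) (Nat.ble (nat_lit 1684993) q)) (Nat.ble (nat_lit 1567409) q)) (Nat.ble (nat_lit 1393159) q)) q))) (Nat.ble (nat_lit 7) (Nat.mod (Bool.rec (motive := fun _ => ℕ) (Bool.rec (motive := fun _ => ℕ) (Bool.rec (motive := fun _ => ℕ) V_e_0 (Bool.rec (motive := fun _ => ℕ) V_e_1 V_e_2 (Nat.ble (nat_lit 1162541) q)) (Nat.ble (nat_lit 1105579) q)) (Bool.rec (motive := fun _ => ℕ) V_e_3 (Bool.rec (motive := fun _ => ℕ) V_e_4 V_e_5 (Nat.ble (nat_lit 1335233)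 q)) (Nat.ble (nat_lit 1277147) q)) (Nat.ble (nat_lit 1219607) q)) (Bool.rec (motive := fun _ => ℕ) (Bool.rec (motive := fun _ => ℕ) V_e_6 (Bool.rec (motive := fun _ => ℕ) V_e_7 V_e_8 (Nat.ble (nat_lit 1508719) q)) (Nat.ble (nat_lit 1450907) q)) (Bool.rec (motive := fun _ => ℕ) (Bool.rec (motive := fun _ => ℕ) V_e_9 V_e_10 (Nat.ble (nat_lit 1626301) q)) (Bool.rec (motive := fun _ => ℕ) V_e_11 V_e_12 (Nat.ble (nat_lit 1744087) q)) (Nat.ble (nat_lit 1684993) q)) (Nat.ble (nat_lit 1567409) q)) (Nat.ble (nat_lit 1393159) q)) q))) (Nat.ble (nat_lit 2) (Nat.mod (Bool.rec (motive := fun _ => ℕ) (Bool.rec (motive := fun _ => ℕ) (Bool.rec (motive := fun _ => ℕ) V_e_0 (Bool.rec (motive := fun _ => ℕ) V_e_1 V_e_2 (Nat.ble (nat_lit 1162541) q)) (Nat.ble (nat_lit 1105579) q)) (Bool.rec (motive := fun _ => ℕ) V_e_3 (Bool.rec (motive := fun _ => ℕ) V_e_4 V_e_5 (Nat.ble (nat_lit 1335233) q)) (Nat.ble (nat_lit 1277147) q)) (Nat.ble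 (nat_lit 1219607) q)) (Bool.rec (motive := fun _ => ℕ) (Bool.rec (motive := fun _ => ℕ) V_e_6 (Bool.rec (motive := fun _ => ℕ) V_e_7 V_e_8 (Nat.ble (nat_lit 1508719) q)) (Nat.ble (nat_lit 1450907) q)) (Bool.rec (motive := fun _ => ℕ) (Bool.rec (motive := fun _ => ℕ) V_e_9 V_e_10 (Nat.ble (nat_lit 1626301) q)) (Bool.rec (motive := fun _ => ℕ) V_e_11 V_e_12 (Nat.ble (nat_lit 1744087) q)) (Nat.ble (nat_lit 1684993) q)) (Nat.ble (nat_lit 1567409) q)) (Nat.ble (nat_lit 1393159) q)) q)))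
noncomputable def E_82 (t q : ℕ) : Bool := Nat.beq (G_f t (F_f q)) q
noncomputable def a_82 : CfsgLib.TC.AG Col := .word .f 25 0 true [Col.f]
noncomputable def E_83 (t q : ℕ) : Bool := band (Nat.beq (PT (F_f q)) q) (band (Nat.beq (DT (F_f q)) 5) (band (Nat.ble (Nat.succ q) (F_f q)) (Nat.ble (Nat.succ q0) (F_f q))))
noncomputable def a_83 : CfsgLib.TC.AG Col := .tree .f
noncomputable def E_84 (t q : ℕ) : Bool := Nat.beq (G_a t (G_f t (G_a t (F_f q)))) q
noncomputable def a_84 : CfsgLib.TC.AG Col := .word .f 5 0 true [Col.a, Col.f, Col.a]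
noncomputable def E_85 (t q : ℕ) : Bool := Nat.beq (G_b t (G_f t (G_b t (F_f q)))) q
noncomputable def a_85 : CfsgLib.TC.AG Col := .word .f 11 0 true [Col.b, Col.f, Col.b]
noncomputable def E_86 (t q : ℕ) : Bool := Nat.beq (G_c t (G_f t (G_c t (F_f q)))) q
noncomputable def a_86 : CfsgLib.TC.AG Col := .word .f 16 0 true [Col.c, Col.f, Col.c]
noncomputable def E_87 (t q : ℕ) : Bool := Nat.beq (G_d t (G_f t (G_d t (G_f t (G_d t (F_f q)))))) q
noncomputable def a_87 : CfsgLib.TC.AG Col := .word .f 20 0 true [Col.d, Col.f, Col.d, Col.f, Col.d]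
noncomputable def E_88 (t q : ℕ) : Bool := Nat.beq (G_e t (G_f t (G_e t (F_f q)))) q
noncomputable def a_88 : CfsgLib.TC.AG Col := .word .f 23 0 true [Col.e, Col.f, Col.e]
noncomputable def E_89 (t q : ℕ) : Bool := Nat.beq (G_g t (G_f t (G_e t (G_g t (F_f q))))) q
noncomputable def a_89 : CfsgLib.TC.AG Col := .word .f 28 2 true [Col.g, Col.e, Col.f, Col.g]
noncomputable def E_90 (t q : ℕ) : Bool := Nat.beq (G_e t (G_g t (G_f t (G_g t (F_f q))))) q
noncomputable def a_90 : CfsgLib.TC.AG Col := .word .f 28 0 true [Col.g, Col.f, Col.g, Col.e]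
noncomputable def E_91 (t q : ℕ) : Bool := Nat.beq (G_g t (G_c t (G_d t (G_f t (G_g t (G_c t (G_d t (G_f t (G_g t (G_c t (G_d t (G_f t (G_g t (G_c t (G_d t (F_f q)))))))))))))))) q
noncomputable def a_91 : CfsgLib.TC.AG Col := .word .f 31 1 true [Col.d, Col.c, Col.g, Col.f, Col.d, Col.c, Col.g, Col.f, Col.d, Col.c, Col.g, Col.f, Col.d, Col.c, Col.g]
noncomputable def E_92 (t q : ℕ) : Bool := Nat.beq (G_d t (G_c t (G_g t (G_f t (G_d t (G_c t (G_g t (G_f t (G_d t (G_c t (G_g t (G_f t (G_d t (G_c t (G_g t (F_f q)))))))))))))))) q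
noncomputable def a_92 : CfsgLib.TC.AG Col := .word .f 31 2 false [Col.g, Col.c, Col.d, Col.f, Col.g, Col.c, Col.d, Col.f, Col.g, Col.c, Col.d, Col.f, Col.g, Col.c, Col.d]
noncomputable def E_93 (t q : ℕ) : Bool := Nat.beq (G_g t (G_f t (G_g t (G_e t (F_f q))))) q
noncomputable def a_93 : CfsgLib.TC.AG Col := .word .f 28 4 false [Col.e, Col.g, Col.f, Col.g]
noncomputable def E_94 (t q : ℕ) : Bool := Nat.beq (G_g t (G_e t (G_f t (G_g t (F_f q))))) q
noncomputable def a_94 : CfsgLib.TC.AG Col := .word .f 28 2 false [Col.g, Col.f, Col.e, Col.g]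
noncomputable def E_95 (t q : ℕ) : Bool := band (Nat.beq q0 q) (Nat.beq (F_f q) q0)
noncomputable def a_95 : CfsgLib.TC.AG Col := .base .f 4 [] []
noncomputable def D_f (q : ℕ) : Bool := (Bool.rec (motive := fun _ => Bool) (Bool.rec (motive := fun _ => Bool) (E_82 (Nat.mod (Bool.rec (motive := fun _ => ℕ) (Bool.rec (motive := fun _ => ℕ) (Bool.rec (motive := fun _ => ℕ) U_f_0 (Bool.rec (motive := fun _ => ℕ) U_f_1 U_f_2 (Nat.ble (nat_lit 1162541) q)) (Nat.ble (nat_lit 1105579) q)) (Bool.rec (motive := fun _ => ℕ) U_f_3 (Bool.rec (motive := fun _ => ℕ) U_f_4 U_f_5 (Nat.ble (nat_lit 1335233) q)) (Nat.ble (nat_lit 1277147) q)) (Nat.ble (nat_lit 1219607) q)) (Bool.rec (motive := fun _ => ℕ) (Bool.rec (motive := fun _ => ℕ) U_f_6 (Bool.rec (motive := fun _ => ℕ) U_f_7 U_f_8 (Nat.ble (nat_lit 1508719) q)) (Nat.ble (nat_lit 1450907) q)) (Bool.rec (motive := fun _ => ℕ) (Bool.rec (motive := fun _ => ℕ) U_f_9 U_f_10 (Nat.ble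 (nat_lit 1626301) q)) (Bool.rec (motive := fun _ => ℕ) U_f_11 U_f_12 (Nat.ble (nat_lit 1744087) q)) (Nat.ble (nat_lit 1684993) q)) (Nat.ble (nat_lit 1567409) q)) (Nat.ble (nat_lit 1393159) q)) q) q) (E_83 (Nat.mod (Bool.rec (motive := fun _ => ℕ) (Bool.rec (motive := fun _ => ℕ) (Bool.rec (motive := fun _ => ℕ) U_f_0 (Bool.rec (motive := fun _ => ℕ) U_f_1 U_f_2 (Nat.ble (nat_lit 1162541) q)) (Nat.ble (nat_lit 1105579) q)) (Bool.rec (motive := fun _ => ℕ) U_f_3 (Bool.rec (motive := fun _ => ℕ) U_f_4 U_f_5 (Nat.ble (nat_lit 1335233) q)) (Nat.ble (nat_lit 1277147) q)) (Nat.ble (nat_lit 1219607) q)) (Bool.rec (motive := fun _ => ℕ) (Bool.rec (motive := fun _ => ℕ) U_f_6 (Bool.rec (motive := fun _ => ℕ) U_f_7 U_f_8 (Nat.ble (nat_lit 1508719) q)) (Nat.ble (nat_lit 1450907) q)) (Bool.rec (motive := fun _ => ℕ) (Bool.rec (motive := fun _ => ℕ) U_f_9 U_f_10 (Nat.ble (nat_lit 1626301) q)) (Bool.rec (motive := fun _ => ℕ) U_f_11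 U_f_12 (Nat.ble (nat_lit 1744087) q)) (Nat.ble (nat_lit 1684993) q)) (Nat.ble (nat_lit 1567409) q)) (Nat.ble (nat_lit 1393159) q)) q) q) (Nat.ble (nat_lit 1) (Nat.mod (Bool.rec (motive := fun _ => ℕ) (Bool.rec (motive := fun _ => ℕ) (Bool.rec (motive := fun _ => ℕ) V_f_0 (Bool.rec (motive := fun _ => ℕ) V_f_1 V_f_2 (Nat.ble (nat_lit 1162541) q)) (Nat.ble (nat_lit 1105579) q)) (Bool.rec (motive := fun _ => ℕ) V_f_3 (Bool.rec (motive := fun _ => ℕ) V_f_4 V_f_5 (Nat.ble (nat_lit 1335233) q)) (Nat.ble (nat_lit 1277147) q)) (Nat.ble (nat_lit 1219607) q)) (Bool.rec (motive := fun _ => ℕ) (Bool.rec (motive := fun _ => ℕ) V_f_6 (Bool.rec (motive := fun _ => ℕ) V_f_7 V_f_8 (Nat.ble (nat_lit 1508719) q)) (Nat.ble (nat_lit 1450907) q)) (Bool.rec (motive := fun _ => ℕ) (Bool.rec (motive := fun _ => ℕ) V_f_9 V_f_10 (Nat.ble (nat_lit 1626301) q)) (Bool.rec (motive := fun _ => ℕ) V_f_11 V_f_12 (Nat.ble (nat_lit 1744087) q)) (Nat.ble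 (nat_lit 1684993) q)) (Nat.ble (nat_lit 1567409) q)) (Nat.ble (nat_lit 1393159) q)) q))) (Bool.rec (motive := fun _ => Bool) (Bool.rec (motive := fun _ => Bool) (Bool.rec (motive := fun _ => Bool) (E_84 (Nat.mod (Bool.rec (motive := fun _ => ℕ) (Bool.rec (motive := fun _ => ℕ) (Bool.rec (motive := fun _ => ℕ) U_f_0 (Bool.rec (motive := fun _ => ℕ) U_f_1 U_f_2 (Nat.ble (nat_lit 1162541) q)) (Nat.ble (nat_lit 1105579) q)) (Bool.rec (motive := fun _ => ℕ) U_f_3 (Bool.rec (motive := fun _ => ℕ) U_f_4 U_f_5 (Nat.ble (nat_lit 1335233) q)) (Nat.ble (nat_lit 1277147) q)) (Nat.ble (nat_lit 1219607) q)) (Bool.rec (motive := fun _ => ℕ) (Bool.rec (motive := fun _ => ℕ) U_f_6 (Bool.rec (motive := fun _ => ℕ) U_f_7 U_f_8 (Nat.ble (nat_lit 1508719) q)) (Nat.ble (nat_lit 1450907) q)) (Bool.rec (motive := fun _ => ℕ) (Bool.rec (motive := fun _ => ℕ) U_f_9 U_f_10 (Nat.ble (nat_lit 1626301) q)) (Bool.rec (motive := fun _ => ℕ) U_f_11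 U_f_12 (Nat.ble (nat_lit 1744087) q)) (Nat.ble (nat_lit 1684993) q)) (Nat.ble (nat_lit 1567409) q)) (Nat.ble (nat_lit 1393159) q)) q) q) (Bool.rec (motive := fun _ => Bool) (E_85 (Nat.mod (Bool.rec (motive := fun _ => ℕ) (Bool.rec (motive := fun _ => ℕ) (Bool.rec (motive := fun _ => ℕ) U_f_0 (Bool.rec (motive := fun _ => ℕ) U_f_1 U_f_2 (Nat.ble (nat_lit 1162541) q)) (Nat.ble (nat_lit 1105579) q)) (Bool.rec (motive := fun _ => ℕ) U_f_3 (Bool.rec (motive := fun _ => ℕ) U_f_4 U_f_5 (Nat.ble (nat_lit 1335233) q)) (Nat.ble (nat_lit 1277147) q)) (Nat.ble (nat_lit 1219607) q)) (Bool.rec (motive := fun _ => ℕ) (Bool.rec (motive := fun _ => ℕ) U_f_6 (Bool.rec (motive := fun _ => ℕ) U_f_7 U_f_8 (Nat.ble (nat_lit 1508719) q)) (Nat.ble (nat_lit 1450907) q)) (Bool.rec (motive := fun _ => ℕ) (Bool.rec (motive := fun _ => ℕ) U_f_9 U_f_10 (Nat.ble (nat_lit 1626301) q)) (Bool.rec (motive := fun _ => ℕ) U_f_11 U_f_12 (Nat.ble (nat_lit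 1744087) q)) (Nat.ble (nat_lit 1684993) q)) (Nat.ble (nat_lit 1567409) q)) (Nat.ble (nat_lit 1393159) q)) q) q) (E_86 (Nat.mod (Bool.rec (motive := fun _ => ℕ) (Bool.rec (motive := fun _ => ℕ) (Bool.rec (motive := fun _ => ℕ) U_f_0 (Bool.rec (motive := fun _ => ℕ) U_f_1 U_f_2 (Nat.ble (nat_lit 1162541) q)) (Nat.ble (nat_lit 1105579) q)) (Bool.rec (motive := fun _ => ℕ) U_f_3 (Bool.rec (motive := fun _ => ℕ) U_f_4 U_f_5 (Nat.ble (nat_lit 1335233) q)) (Nat.ble (nat_lit 1277147) q)) (Nat.ble (nat_lit 1219607) q)) (Bool.rec (motive := fun _ => ℕ) (Bool.rec (motive := fun _ => ℕ) U_f_6 (Bool.rec (motive := fun _ => ℕ) U_f_7 U_f_8 (Nat.ble (nat_lit 1508719) q)) (Nat.ble (nat_lit 1450907) q)) (Bool.rec (motive := fun _ => ℕ) (Bool.rec (motive := fun _ => ℕ) U_f_9 U_f_10 (Nat.ble (nat_lit 1626301) q)) (Bool.rec (motive := fun _ => ℕ) U_f_11 U_f_12 (Nat.ble (nat_lit 1744087) q)) (Nat.ble (nat_lit 1684993) q)) (Nat.ble (nat_lit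 1567409) q)) (Nat.ble (nat_lit 1393159) q)) q) q) (Nat.ble (nat_lit 4) (Nat.mod (Bool.rec (motive := fun _ => ℕ) (Bool.rec (motive := fun _ => ℕ) (Bool.rec (motive := fun _ => ℕ) V_f_0 (Bool.rec (motive := fun _ => ℕ) V_f_1 V_f_2 (Nat.ble (nat_lit 1162541) q)) (Nat.ble (nat_lit 1105579) q)) (Bool.rec (motive := fun _ => ℕ) V_f_3 (Bool.rec (motive := fun _ => ℕ) V_f_4 V_f_5 (Nat.ble (nat_lit 1335233) q)) (Nat.ble (nat_lit 1277147) q)) (Nat.ble (nat_lit 1219607) q)) (Bool.rec (motive := fun _ => ℕ) (Bool.rec (motive := fun _ => ℕ) V_f_6 (Bool.rec (motive := fun _ => ℕ) V_f_7 V_f_8 (Nat.ble (nat_lit 1508719) q)) (Nat.ble (nat_lit 1450907) q)) (Bool.rec (motive := fun _ => ℕ) (Bool.rec (motive := fun _ => ℕ) V_f_9 V_f_10 (Nat.ble (nat_lit 1626301) q)) (Bool.rec (motive := fun _ => ℕ) V_f_11 V_f_12 (Nat.ble (nat_lit 1744087) q)) (Nat.ble (nat_lit 1684993) q)) (Nat.ble (nat_lit 1567409) q)) (Nat.ble (nat_lit 1393159) q))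 q))) (Nat.ble (nat_lit 3) (Nat.mod (Bool.rec (motive := fun _ => ℕ) (Bool.rec (motive := fun _ => ℕ) (Bool.rec (motive := fun _ => ℕ) V_f_0 (Bool.rec (motive := fun _ => ℕ) V_f_1 V_f_2 (Nat.ble (nat_lit 1162541) q)) (Nat.ble (nat_lit 1105579) q)) (Bool.rec (motive := fun _ => ℕ) V_f_3 (Bool.rec (motive := fun _ => ℕ) V_f_4 V_f_5 (Nat.ble (nat_lit 1335233) q)) (Nat.ble (nat_lit 1277147) q)) (Nat.ble (nat_lit 1219607) q)) (Bool.rec (motive := fun _ => ℕ) (Bool.rec (motive := fun _ => ℕ) V_f_6 (Bool.rec (motive := fun _ => ℕ) V_f_7 V_f_8 (Nat.ble (nat_lit 1508719) q)) (Nat.ble (nat_lit 1450907) q)) (Bool.rec (motive := fun _ => ℕ) (Bool.rec (motive := fun _ => ℕ) V_f_9 V_f_10 (Nat.ble (nat_lit 1626301) q)) (Bool.rec (motive := fun _ => ℕ) V_f_11 V_f_12 (Nat.ble (nat_lit 1744087) q)) (Nat.ble (nat_lit 1684993) q)) (Nat.ble (nat_lit 1567409) q)) (Nat.ble (nat_lit 1393159) q)) q))) (Bool.rec (motive := fun _ => Bool) (E_87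 (Nat.mod (Bool.rec (motive := fun _ => ℕ) (Bool.rec (motive := fun _ => ℕ) (Bool.rec (motive := fun _ => ℕ) U_f_0 (Bool.rec (motive := fun _ => ℕ) U_f_1 U_f_2 (Nat.ble (nat_lit 1162541) q)) (Nat.ble (nat_lit 1105579) q)) (Bool.rec (motive := fun _ => ℕ) U_f_3 (Bool.rec (motive := fun _ => ℕ) U_f_4 U_f_5 (Nat.ble (nat_lit 1335233) q)) (Nat.ble (nat_lit 1277147) q)) (Nat.ble (nat_lit 1219607) q)) (Bool.rec (motive := fun _ => ℕ) (Bool.rec (motive := fun _ => ℕ) U_f_6 (Bool.rec (motive := fun _ => ℕ) U_f_7 U_f_8 (Nat.ble (nat_lit 1508719) q)) (Nat.ble (nat_lit 1450907) q)) (Bool.rec (motive := fun _ => ℕ) (Bool.rec (motive := fun _ => ℕ) U_f_9 U_f_10 (Nat.ble (nat_lit 1626301) q)) (Bool.rec (motive := fun _ => ℕ) U_f_11 U_f_12 (Nat.ble (nat_lit 1744087) q)) (Nat.ble (nat_lit 1684993) q)) (Nat.ble (nat_lit 1567409) q)) (Nat.ble (nat_lit 1393159) q)) q) q) (Bool.rec (motive := fun _ => Bool) (E_88 (Nat.mod (Bool.rec (motive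 := fun _ => ℕ) (Bool.rec (motive := fun _ => ℕ) (Bool.rec (motive := fun _ => ℕ) U_f_0 (Bool.rec (motive := fun _ => ℕ) U_f_1 U_f_2 (Nat.ble (nat_lit 1162541) q)) (Nat.ble (nat_lit 1105579) q)) (Bool.rec (motive := fun _ => ℕ) U_f_3 (Bool.rec (motive := fun _ => ℕ) U_f_4 U_f_5 (Nat.ble (nat_lit 1335233) q)) (Nat.ble (nat_lit 1277147) q)) (Nat.ble (nat_lit 1219607) q)) (Bool.rec (motive := fun _ => ℕ) (Bool.rec (motive := fun _ => ℕ) U_f_6 (Bool.rec (motive := fun _ => ℕ) U_f_7 U_f_8 (Nat.ble (nat_lit 1508719) q)) (Nat.ble (nat_lit 1450907) q)) (Bool.rec (motive := fun _ => ℕ) (Bool.rec (motive := fun _ => ℕ) U_f_9 U_f_10 (Nat.ble (nat_lit 1626301) q)) (Bool.rec (motive := fun _ => ℕ) U_f_11 U_f_12 (Nat.ble (nat_lit 1744087) q)) (Nat.ble (nat_lit 1684993) q)) (Nat.ble (nat_lit 1567409) q)) (Nat.ble (nat_lit 1393159) q)) q) q) (E_89 (Nat.mod (Bool.rec (motive := fun _ => ℕ) (Bool.rec (motive := fun _ => ℕ) (Bool.rec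 (motive := fun _ => ℕ) U_f_0 (Bool.rec (motive := fun _ => ℕ) U_f_1 U_f_2 (Nat.ble (nat_lit 1162541) q)) (Nat.ble (nat_lit 1105579) q)) (Bool.rec (motive := fun _ => ℕ) U_f_3 (Bool.rec (motive := fun _ => ℕ) U_f_4 U_f_5 (Nat.ble (nat_lit 1335233) q)) (Nat.ble (nat_lit 1277147) q)) (Nat.ble (nat_lit 1219607) q)) (Bool.rec (motive := fun _ => ℕ) (Bool.rec (motive := fun _ => ℕ) U_f_6 (Bool.rec (motive := fun _ => ℕ) U_f_7 U_f_8 (Nat.ble (nat_lit 1508719) q)) (Nat.ble (nat_lit 1450907) q)) (Bool.rec (motive := fun _ => ℕ) (Bool.rec (motive := fun _ => ℕ) U_f_9 U_f_10 (Nat.ble (nat_lit 1626301) q)) (Bool.rec (motive := fun _ => ℕ) U_f_11 U_f_12 (Nat.ble (nat_lit 1744087) q)) (Nat.ble (nat_lit 1684993) q)) (Nat.ble (nat_lit 1567409) q)) (Nat.ble (nat_lit 1393159) q)) q) q) (Nat.ble (nat_lit 7) (Nat.mod (Bool.rec (motive := fun _ => ℕ) (Bool.rec (motive := fun _ => ℕ) (Bool.rec (motive := fun _ => ℕ) V_f_0 (Bool.rec (motive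 := fun _ => ℕ) V_f_1 V_f_2 (Nat.ble (nat_lit 1162541) q)) (Nat.ble (nat_lit 1105579) q)) (Bool.rec (motive := fun _ => ℕ) V_f_3 (Bool.rec (motive := fun _ => ℕ) V_f_4 V_f_5 (Nat.ble (nat_lit 1335233) q)) (Nat.ble (nat_lit 1277147) q)) (Nat.ble (nat_lit 1219607) q)) (Bool.rec (motive := fun _ => ℕ) (Bool.rec (motive := fun _ => ℕ) V_f_6 (Bool.rec (motive := fun _ => ℕ) V_f_7 V_f_8 (Nat.ble (nat_lit 1508719) q)) (Nat.ble (nat_lit 1450907) q)) (Bool.rec (motive := fun _ => ℕ) (Bool.rec (motive := fun _ => ℕ) V_f_9 V_f_10 (Nat.ble (nat_lit 1626301) q)) (Bool.rec (motive := fun _ => ℕ) V_f_11 V_f_12 (Nat.ble (nat_lit 1744087) q)) (Nat.ble (nat_lit 1684993) q)) (Nat.ble (nat_lit 1567409) q)) (Nat.ble (nat_lit 1393159) q)) q))) (Nat.ble (nat_lit 6) (Nat.mod (Bool.rec (motive := fun _ => ℕ) (Bool.rec (motive := fun _ => ℕ) (Bool.rec (motive := fun _ => ℕ) V_f_0 (Bool.rec (motive := fun _ => ℕ) V_f_1 V_f_2 (Nat.ble (nat_lit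 1162541) q)) (Nat.ble (nat_lit 1105579) q)) (Bool.rec (motive := fun _ => ℕ) V_f_3 (Bool.rec (motive := fun _ => ℕ) V_f_4 V_f_5 (Nat.ble (nat_lit 1335233) q)) (Nat.ble (nat_lit 1277147) q)) (Nat.ble (nat_lit 1219607) q)) (Bool.rec (motive := fun _ => ℕ) (Bool.rec (motive := fun _ => ℕ) V_f_6 (Bool.rec (motive := fun _ => ℕ) V_f_7 V_f_8 (Nat.ble (nat_lit 1508719) q)) (Nat.ble (nat_lit 1450907) q)) (Bool.rec (motive := fun _ => ℕ) (Bool.rec (motive := fun _ => ℕ) V_f_9 V_f_10 (Nat.ble (nat_lit 1626301) q)) (Bool.rec (motive := fun _ => ℕ) V_f_11 V_f_12 (Nat.ble (nat_lit 1744087) q)) (Nat.ble (nat_lit 1684993) q)) (Nat.ble (nat_lit 1567409) q)) (Nat.ble (nat_lit 1393159) q)) q))) (Nat.ble (nat_lit 5) (Nat.mod (Bool.rec (motive := fun _ => ℕ) (Bool.rec (motive := fun _ => ℕ) (Bool.rec (motive := fun _ => ℕ) V_f_0 (Bool.rec (motive := fun _ => ℕ) V_f_1 V_f_2 (Nat.ble (nat_lit 1162541) q)) (Nat.ble (nat_lit 1105579) q))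 (Bool.rec (motive := fun _ => ℕ) V_f_3 (Bool.rec (motive := fun _ => ℕ) V_f_4 V_f_5 (Nat.ble (nat_lit 1335233) q)) (Nat.ble (nat_lit 1277147) q)) (Nat.ble (nat_lit 1219607) q)) (Bool.rec (motive := fun _ => ℕ) (Bool.rec (motive := fun _ => ℕ) V_f_6 (Bool.rec (motive := fun _ => ℕ) V_f_7 V_f_8 (Nat.ble (nat_lit 1508719) q)) (Nat.ble (nat_lit 1450907) q)) (Bool.rec (motive := fun _ => ℕ) (Bool.rec (motive := fun _ => ℕ) V_f_9 V_f_10 (Nat.ble (nat_lit 1626301) q)) (Bool.rec (motive := fun _ => ℕ) V_f_11 V_f_12 (Nat.ble (nat_lit 1744087) q)) (Nat.ble (nat_lit 1684993) q)) (Nat.ble (nat_lit 1567409) q)) (Nat.ble (nat_lit 1393159) q)) q))) (Bool.rec (motive := fun _ => Bool) (Bool.rec (motive := fun _ => Bool) (E_90 (Nat.mod (Bool.rec (motive := fun _ => ℕ) (Bool.rec (motive := fun _ => ℕ) (Bool.rec (motive := fun _ => ℕ) U_f_0 (Bool.rec (motive := fun _ => ℕ) U_f_1 U_f_2 (Nat.ble (nat_lit 1162541) q)) (Nat.ble (nat_lit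 1105579) q)) (Bool.rec (motive := fun _ => ℕ) U_f_3 (Bool.rec (motive := fun _ => ℕ) U_f_4 U_f_5 (Nat.ble (nat_lit 1335233) q)) (Nat.ble (nat_lit 1277147) q)) (Nat.ble (nat_lit 1219607) q)) (Bool.rec (motive := fun _ => ℕ) (Bool.rec (motive := fun _ => ℕ) U_f_6 (Bool.rec (motive := fun _ => ℕ) U_f_7 U_f_8 (Nat.ble (nat_lit 1508719) q)) (Nat.ble (nat_lit 1450907) q)) (Bool.rec (motive := fun _ => ℕ) (Bool.rec (motive := fun _ => ℕ) U_f_9 U_f_10 (Nat.ble (nat_lit 1626301) q)) (Bool.rec (motive := fun _ => ℕ) U_f_11 U_f_12 (Nat.ble (nat_lit 1744087) q)) (Nat.ble (nat_lit 1684993) q)) (Nat.ble (nat_lit 1567409) q)) (Nat.ble (nat_lit 1393159) q)) q) q) (Bool.rec (motive := fun _ => Bool) (E_91 (Nat.mod (Bool.rec (motive := fun _ => ℕ) (Bool.rec (motive := fun _ => ℕ) (Bool.rec (motive := fun _ => ℕ) U_f_0 (Bool.rec (motive := fun _ => ℕ) U_f_1 U_f_2 (Nat.ble (nat_lit 1162541) q)) (Nat.ble (nat_lit 1105579) q)) (Bool.rec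 (motive := fun _ => ℕ) U_f_3 (Bool.rec (motive := fun _ => ℕ) U_f_4 U_f_5 (Nat.ble (nat_lit 1335233) q)) (Nat.ble (nat_lit 1277147) q)) (Nat.ble (nat_lit 1219607) q)) (Bool.rec (motive := fun _ => ℕ) (Bool.rec (motive := fun _ => ℕ) U_f_6 (Bool.rec (motive := fun _ => ℕ) U_f_7 U_f_8 (Nat.ble (nat_lit 1508719) q)) (Nat.ble (nat_lit 1450907) q)) (Bool.rec (motive := fun _ => ℕ) (Bool.rec (motive := fun _ => ℕ) U_f_9 U_f_10 (Nat.ble (nat_lit 1626301) q)) (Bool.rec (motive := fun _ => ℕ) U_f_11 U_f_12 (Nat.ble (nat_lit 1744087) q)) (Nat.ble (nat_lit 1684993) q)) (Nat.ble (nat_lit 1567409) q)) (Nat.ble (nat_lit 1393159) q)) q) q) (E_92 (Nat.mod (Bool.rec (motive := fun _ => ℕ) (Bool.rec (motive := fun _ => ℕ) (Bool.rec (motive := fun _ => ℕ) U_f_0 (Bool.rec (motive := fun _ => ℕ) U_f_1 U_f_2 (Nat.ble (nat_lit 1162541) q)) (Nat.ble (nat_lit 1105579) q)) (Bool.rec (motive := fun _ => ℕ) U_f_3 (Bool.rec (motive := fun _ =>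 ℕ) U_f_4 U_f_5 (Nat.ble (nat_lit 1335233) q)) (Nat.ble (nat_lit 1277147) q)) (Nat.ble (nat_lit 1219607) q)) (Bool.rec (motive := fun _ => ℕ) (Bool.rec (motive := fun _ => ℕ) U_f_6 (Bool.rec (motive := fun _ => ℕ) U_f_7 U_f_8 (Nat.ble (nat_lit 1508719) q)) (Nat.ble (nat_lit 1450907) q)) (Bool.rec (motive := fun _ => ℕ) (Bool.rec (motive := fun _ => ℕ) U_f_9 U_f_10 (Nat.ble (nat_lit 1626301) q)) (Bool.rec (motive := fun _ => ℕ) U_f_11 U_f_12 (Nat.ble (nat_lit 1744087) q)) (Nat.ble (nat_lit 1684993) q)) (Nat.ble (nat_lit 1567409) q)) (Nat.ble (nat_lit 1393159) q)) q) q) (Nat.ble (nat_lit 10) (Nat.mod (Bool.rec (motive := fun _ => ℕ) (Bool.rec (motive := fun _ => ℕ) (Bool.rec (motive := fun _ => ℕ) V_f_0 (Bool.rec (motive := fun _ => ℕ) V_f_1 V_f_2 (Nat.ble (nat_lit 1162541) q)) (Nat.ble (nat_lit 1105579) q)) (Bool.rec (motive := fun _ => ℕ) V_f_3 (Bool.rec (motive := fun _ => ℕ) V_f_4 V_f_5 (Nat.ble (nat_lit 1335233)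 q)) (Nat.ble (nat_lit 1277147) q)) (Nat.ble (nat_lit 1219607) q)) (Bool.rec (motive := fun _ => ℕ) (Bool.rec (motive := fun _ => ℕ) V_f_6 (Bool.rec (motive := fun _ => ℕ) V_f_7 V_f_8 (Nat.ble (nat_lit 1508719) q)) (Nat.ble (nat_lit 1450907) q)) (Bool.rec (motive := fun _ => ℕ) (Bool.rec (motive := fun _ => ℕ) V_f_9 V_f_10 (Nat.ble (nat_lit 1626301) q)) (Bool.rec (motive := fun _ => ℕ) V_f_11 V_f_12 (Nat.ble (nat_lit 1744087) q)) (Nat.ble (nat_lit 1684993) q)) (Nat.ble (nat_lit 1567409) q)) (Nat.ble (nat_lit 1393159) q)) q))) (Nat.ble (nat_lit 9) (Nat.mod (Bool.rec (motive := fun _ => ℕ) (Bool.rec (motive := fun _ => ℕ) (Bool.rec (motive := fun _ => ℕ) V_f_0 (Bool.rec (motive := fun _ => ℕ) V_f_1 V_f_2 (Nat.ble (nat_lit 1162541) q)) (Nat.ble (nat_lit 1105579) q)) (Bool.rec (motive := fun _ => ℕ) V_f_3 (Bool.rec (motive := fun _ => ℕ) V_f_4 V_f_5 (Nat.ble (nat_lit 1335233) q)) (Nat.ble (nat_lit 1277147) q)) (Nat.ble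 (nat_lit 1219607) q)) (Bool.rec (motive := fun _ => ℕ) (Bool.rec (motive := fun _ => ℕ) V_f_6 (Bool.rec (motive := fun _ => ℕ) V_f_7 V_f_8 (Nat.ble (nat_lit 1508719) q)) (Nat.ble (nat_lit 1450907) q)) (Bool.rec (motive := fun _ => ℕ) (Bool.rec (motive := fun _ => ℕ) V_f_9 V_f_10 (Nat.ble (nat_lit 1626301) q)) (Bool.rec (motive := fun _ => ℕ) V_f_11 V_f_12 (Nat.ble (nat_lit 1744087) q)) (Nat.ble (nat_lit 1684993) q)) (Nat.ble (nat_lit 1567409) q)) (Nat.ble (nat_lit 1393159) q)) q))) (Bool.rec (motive := fun _ => Bool) (E_93 (Nat.mod (Bool.rec (motive := fun _ => ℕ) (Bool.rec (motive := fun _ => ℕ) (Bool.rec (motive := fun _ => ℕ) U_f_0 (Bool.rec (motive := fun _ => ℕ) U_f_1 U_f_2 (Nat.ble (nat_lit 1162541) q)) (Nat.ble (nat_lit 1105579) q)) (Bool.rec (motive := fun _ => ℕ) U_f_3 (Bool.rec (motive := fun _ => ℕ) U_f_4 U_f_5 (Nat.ble (nat_lit 1335233) q)) (Nat.ble (nat_lit 1277147) q)) (Nat.ble (nat_lit 1219607) q))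 (Bool.rec (motive := fun _ => ℕ) (Bool.rec (motive := fun _ => ℕ) U_f_6 (Bool.rec (motive := fun _ => ℕ) U_f_7 U_f_8 (Nat.ble (nat_lit 1508719) q)) (Nat.ble (nat_lit 1450907) q)) (Bool.rec (motive := fun _ => ℕ) (Bool.rec (motive := fun _ => ℕ) U_f_9 U_f_10 (Nat.ble (nat_lit 1626301) q)) (Bool.rec (motive := fun _ => ℕ) U_f_11 U_f_12 (Nat.ble (nat_lit 1744087) q)) (Nat.ble (nat_lit 1684993) q)) (Nat.ble (nat_lit 1567409) q)) (Nat.ble (nat_lit 1393159) q)) q) q) (Bool.rec (motive := fun _ => Bool) (E_94 (Nat.mod (Bool.rec (motive := fun _ => ℕ) (Bool.rec (motive := fun _ => ℕ) (Bool.rec (motive := fun _ => ℕ) U_f_0 (Bool.rec (motive := fun _ => ℕ) U_f_1 U_f_2 (Nat.ble (nat_lit 1162541) q)) (Nat.ble (nat_lit 1105579) q)) (Bool.rec (motive := fun _ => ℕ) U_f_3 (Bool.rec (motive := fun _ => ℕ) U_f_4 U_f_5 (Nat.ble (nat_lit 1335233) q)) (Nat.ble (nat_lit 1277147) q)) (Nat.ble (nat_lit 1219607) q)) (Bool.rec (motive :=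 fun _ => ℕ) (Bool.rec (motive := fun _ => ℕ) U_f_6 (Bool.rec (motive := fun _ => ℕ) U_f_7 U_f_8 (Nat.ble (nat_lit 1508719) q)) (Nat.ble (nat_lit 1450907) q)) (Bool.rec (motive := fun _ => ℕ) (Bool.rec (motive := fun _ => ℕ) U_f_9 U_f_10 (Nat.ble (nat_lit 1626301) q)) (Bool.rec (motive := fun _ => ℕ) U_f_11 U_f_12 (Nat.ble (nat_lit 1744087) q)) (Nat.ble (nat_lit 1684993) q)) (Nat.ble (nat_lit 1567409) q)) (Nat.ble (nat_lit 1393159) q)) q) q) (E_95 (Nat.mod (Bool.rec (motive := fun _ => ℕ) (Bool.rec (motive := fun _ => ℕ) (Bool.rec (motive := fun _ => ℕ) U_f_0 (Bool.rec (motive := fun _ => ℕ) U_f_1 U_f_2 (Nat.ble (nat_lit 1162541) q)) (Nat.ble (nat_lit 1105579) q)) (Bool.rec (motive := fun _ => ℕ) U_f_3 (Bool.rec (motive := fun _ => ℕ) U_f_4 U_f_5 (Nat.ble (nat_lit 1335233) q)) (Nat.ble (nat_lit 1277147) q)) (Nat.ble (nat_lit 1219607) q)) (Bool.rec (motive := fun _ => ℕ) (Bool.rec (motive := fun _ => ℕ) U_f_6 (Bool.rec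 (motive := fun _ => ℕ) U_f_7 U_f_8 (Nat.ble (nat_lit 1508719) q)) (Nat.ble (nat_lit 1450907) q)) (Bool.rec (motive := fun _ => ℕ) (Bool.rec (motive := fun _ => ℕ) U_f_9 U_f_10 (Nat.ble (nat_lit 1626301) q)) (Bool.rec (motive := fun _ => ℕ) U_f_11 U_f_12 (Nat.ble (nat_lit 1744087) q)) (Nat.ble (nat_lit 1684993) q)) (Nat.ble (nat_lit 1567409) q)) (Nat.ble (nat_lit 1393159) q)) q) q) (Nat.ble (nat_lit 13) (Nat.mod (Bool.rec (motive := fun _ => ℕ) (Bool.rec (motive := fun _ => ℕ) (Bool.rec (motive := fun _ => ℕ) V_f_0 (Bool.rec (motive := fun _ => ℕ) V_f_1 V_f_2 (Nat.ble (nat_lit 1162541) q)) (Nat.ble (nat_lit 1105579) q)) (Bool.rec (motive := fun _ => ℕ) V_f_3 (Bool.rec (motive := fun _ => ℕ) V_f_4 V_f_5 (Nat.ble (nat_lit 1335233) q)) (Nat.ble (nat_lit 1277147) q)) (Nat.ble (nat_lit 1219607) q)) (Bool.rec (motive := fun _ => ℕ) (Bool.rec (motive := fun _ => ℕ) V_f_6 (Bool.rec (motive := fun _ => ℕ) V_f_7 V_f_8 (Nat.ble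 (nat_lit 1508719) q)) (Nat.ble (nat_lit 1450907) q)) (Bool.rec (motive := fun _ => ℕ) (Bool.rec (motive := fun _ => ℕ) V_f_9 V_f_10 (Nat.ble (nat_lit 1626301) q)) (Bool.rec (motive := fun _ => ℕ) V_f_11 V_f_12 (Nat.ble (nat_lit 1744087) q)) (Nat.ble (nat_lit 1684993) q)) (Nat.ble (nat_lit 1567409) q)) (Nat.ble (nat_lit 1393159) q)) q))) (Nat.ble (nat_lit 12) (Nat.mod (Bool.rec (motive := fun _ => ℕ) (Bool.rec (motive := fun _ => ℕ) (Bool.rec (motive := fun _ => ℕ) V_f_0 (Bool.rec (motive := fun _ => ℕ) V_f_1 V_f_2 (Nat.ble (nat_lit 1162541) q)) (Nat.ble (nat_lit 1105579) q)) (Bool.rec (motive := fun _ => ℕ) V_f_3 (Bool.rec (motive := fun _ => ℕ) V_f_4 V_f_5 (Nat.ble (nat_lit 1335233) q)) (Nat.ble (nat_lit 1277147) q)) (Nat.ble (nat_lit 1219607) q)) (Bool.rec (motive := fun _ => ℕ) (Bool.rec (motive := fun _ => ℕ) V_f_6 (Bool.rec (motive := fun _ => ℕ) V_f_7 V_f_8 (Nat.ble (nat_lit 1508719) q)) (Nat.ble (nat_lit 1450907)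 q)) (Bool.rec (motive := fun _ => ℕ) (Bool.rec (motive := fun _ => ℕ) V_f_9 V_f_10 (Nat.ble (nat_lit 1626301) q)) (Bool.rec (motive := fun _ => ℕ) V_f_11 V_f_12 (Nat.ble (nat_lit 1744087) q)) (Nat.ble (nat_lit 1684993) q)) (Nat.ble (nat_lit 1567409) q)) (Nat.ble (nat_lit 1393159) q)) q))) (Nat.ble (nat_lit 11) (Nat.mod (Bool.rec (motive := fun _ => ℕ) (Bool.rec (motive := fun _ => ℕ) (Bool.rec (motive := fun _ => ℕ) V_f_0 (Bool.rec (motive := fun _ => ℕ) V_f_1 V_f_2 (Nat.ble (nat_lit 1162541) q)) (Nat.ble (nat_lit 1105579) q)) (Bool.rec (motive := fun _ => ℕ) V_f_3 (Bool.rec (motive := fun _ => ℕ) V_f_4 V_f_5 (Nat.ble (nat_lit 1335233) q)) (Nat.ble (nat_lit 1277147) q)) (Nat.ble (nat_lit 1219607) q)) (Bool.rec (motive := fun _ => ℕ) (Bool.rec (motive := fun _ => ℕ) V_f_6 (Bool.rec (motive := fun _ => ℕ) V_f_7 V_f_8 (Nat.ble (nat_lit 1508719) q)) (Nat.ble (nat_lit 1450907) q)) (Bool.rec (motive := fun _ => ℕ) (Bool.rec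 (motive := fun _ => ℕ) V_f_9 V_f_10 (Nat.ble (nat_lit 1626301) q)) (Bool.rec (motive := fun _ => ℕ) V_f_11 V_f_12 (Nat.ble (nat_lit 1744087) q)) (Nat.ble (nat_lit 1684993) q)) (Nat.ble (nat_lit 1567409) q)) (Nat.ble (nat_lit 1393159) q)) q))) (Nat.ble (nat_lit 8) (Nat.mod (Bool.rec (motive := fun _ => ℕ) (Bool.rec (motive := fun _ => ℕ) (Bool.rec (motive := fun _ => ℕ) V_f_0 (Bool.rec (motive := fun _ => ℕ) V_f_1 V_f_2 (Nat.ble (nat_lit 1162541) q)) (Nat.ble (nat_lit 1105579) q)) (Bool.rec (motive := fun _ => ℕ) V_f_3 (Bool.rec (motive := fun _ => ℕ) V_f_4 V_f_5 (Nat.ble (nat_lit 1335233) q)) (Nat.ble (nat_lit 1277147) q)) (Nat.ble (nat_lit 1219607) q)) (Bool.rec (motive := fun _ => ℕ) (Bool.rec (motive := fun _ => ℕ) V_f_6 (Bool.rec (motive := fun _ => ℕ) V_f_7 V_f_8 (Nat.ble (nat_lit 1508719) q)) (Nat.ble (nat_lit 1450907) q)) (Bool.rec (motive := fun _ => ℕ) (Bool.rec (motive := fun _ => ℕ) V_f_9 V_f_10 (Nat.ble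 (nat_lit 1626301) q)) (Bool.rec (motive := fun _ => ℕ) V_f_11 V_f_12 (Nat.ble (nat_lit 1744087) q)) (Nat.ble (nat_lit 1684993) q)) (Nat.ble (nat_lit 1567409) q)) (Nat.ble (nat_lit 1393159) q)) q))) (Nat.ble (nat_lit 2) (Nat.mod (Bool.rec (motive := fun _ => ℕ) (Bool.rec (motive := fun _ => ℕ) (Bool.rec (motive := fun _ => ℕ) V_f_0 (Bool.rec (motive := fun _ => ℕ) V_f_1 V_f_2 (Nat.ble (nat_lit 1162541) q)) (Nat.ble (nat_lit 1105579) q)) (Bool.rec (motive := fun _ => ℕ) V_f_3 (Bool.rec (motive := fun _ => ℕ) V_f_4 V_f_5 (Nat.ble (nat_lit 1335233) q)) (Nat.ble (nat_lit 1277147) q)) (Nat.ble (nat_lit 1219607) q)) (Bool.rec (motive := fun _ => ℕ) (Bool.rec (motive := fun _ => ℕ) V_f_6 (Bool.rec (motive := fun _ => ℕ) V_f_7 V_f_8 (Nat.ble (nat_lit 1508719) q)) (Nat.ble (nat_lit 1450907) q)) (Bool.rec (motive := fun _ => ℕ) (Bool.rec (motive := fun _ => ℕ) V_f_9 V_f_10 (Nat.ble (nat_lit 1626301) q)) (Bool.rec (motive :=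 fun _ => ℕ) V_f_11 V_f_12 (Nat.ble (nat_lit 1744087) q)) (Nat.ble (nat_lit 1684993) q)) (Nat.ble (nat_lit 1567409) q)) (Nat.ble (nat_lit 1393159) q)) q)))
noncomputable def E_96 (t q : ℕ) : Bool := Nat.beq (G_g t (F_g q)) q
noncomputable def a_96 : CfsgLib.TC.AG Col := .word .g 27 0 true [Col.g]
noncomputable def E_97 (t q : ℕ) : Bool := band (Nat.beq (PT (F_g q)) q) (band (Nat.beq (DT (F_g q)) 6) (band (Nat.ble (Nat.succ q) (F_g q)) (Nat.ble (Nat.succ q0) (F_g q))))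
noncomputable def a_97 : CfsgLib.TC.AG Col := .tree .g
noncomputable def E_98 (t q : ℕ) : Bool := Nat.beq (G_a t (G_g t (G_a t (F_g q)))) q
noncomputable def a_98 : CfsgLib.TC.AG Col := .word .g 6 0 true [Col.a, Col.g, Col.a]
noncomputable def E_99 (t q : ℕ) : Bool := Nat.beq (G_b t (G_g t (G_b t (F_g q)))) q
noncomputable def a_99 : CfsgLib.TC.AG Col := .word .g 12 0 true [Col.b, Col.g, Col.b]
noncomputable def E_100 (t q : ℕ) : Bool := Nat.beq (G_c t (G_g t (G_c t (F_g q)))) q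
noncomputable def a_100 : CfsgLib.TC.AG Col := .word .g 17 0 true [Col.c, Col.g, Col.c]
noncomputable def E_101 (t q : ℕ) : Bool := Nat.beq (G_e t (G_g t (G_e t (F_g q)))) q
noncomputable def a_101 : CfsgLib.TC.AG Col := .word .g 24 0 true [Col.e, Col.g, Col.e]
noncomputable def E_102 (t q : ℕ) : Bool := Nat.beq (G_d t (G_g t (G_d t (G_g t (G_d t (F_g q)))))) q
noncomputable def a_102 : CfsgLib.TC.AG Col := .word .g 21 0 true [Col.d, Col.g, Col.d, Col.g, Col.d]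
noncomputable def E_103 (t q : ℕ) : Bool := Nat.beq (G_f t (G_e t (G_g t (G_f t (F_g q))))) q
noncomputable def a_103 : CfsgLib.TC.AG Col := .word .g 28 1 true [Col.f, Col.g, Col.e, Col.f]
noncomputable def E_104 (t q : ℕ) : Bool := Nat.beq (G_e t (G_f t (G_g t (G_f t (F_g q))))) q
noncomputable def a_104 : CfsgLib.TC.AG Col := .word .g 28 1 false [Col.f, Col.g, Col.f, Col.e]
noncomputable def E_105 (t q : ℕ) : Bool := Nat.beq (G_c t (G_d t (G_f t (G_g t (G_c t (G_d t (G_f t (G_g t (G_c t (G_d t (G_f t (G_g t (G_c t (G_d t (G_f t (F_g q)))))))))))))))) q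
noncomputable def a_105 : CfsgLib.TC.AG Col := .word .g 31 0 true [Col.f, Col.d, Col.c, Col.g, Col.f, Col.d, Col.c, Col.g, Col.f, Col.d, Col.c, Col.g, Col.f, Col.d, Col.c]
noncomputable def E_106 (t q : ℕ) : Bool := Nat.beq (G_f t (G_d t (G_c t (G_g t (G_f t (G_d t (G_c t (G_g t (G_f t (G_d t (G_c t (G_g t (G_f t (G_d t (G_c t (F_g q)))))))))))))))) q
noncomputable def a_106 : CfsgLib.TC.AG Col := .word .g 31 3 false [Col.c, Col.d, Col.f, Col.g, Col.c, Col.d, Col.f, Col.g, Col.c, Col.d, Col.f, Col.g, Col.c, Col.d, Col.f]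
noncomputable def E_107 (t q : ℕ) : Bool := Nat.beq (G_f t (G_g t (G_f t (G_e t (F_g q))))) q
noncomputable def a_107 : CfsgLib.TC.AG Col := .word .g 28 3 true [Col.e, Col.f, Col.g, Col.f]
noncomputable def E_108 (t q : ℕ) : Bool := band (Nat.beq q0 q) (Nat.beq (F_g q) q0)
noncomputable def a_108 : CfsgLib.TC.AG Col := .base .g 5 [] []
noncomputable def E_109 (t q : ℕ) : Bool := Nat.beq (G_f t (G_g t (G_e t (G_f t (F_g q))))) q
noncomputable def a_109 : CfsgLib.TC.AG Col := .word .g 28 3 false [Col.f, Col.e, Col.g, Col.f]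
noncomputable def D_g (q : ℕ) : Bool := (Bool.rec (motive := fun _ => Bool) (Bool.rec (motive := fun _ => Bool) (E_96 (Nat.mod (Bool.rec (motive := fun _ => ℕ) (Bool.rec (motive := fun _ => ℕ) (Bool.rec (motive := fun _ => ℕ) U_g_0 (Bool.rec (motive := fun _ => ℕ) U_g_1 U_g_2 (Nat.ble (nat_lit 1162541) q)) (Nat.ble (nat_lit 1105579) q)) (Bool.rec (motive := fun _ => ℕ) U_g_3 (Bool.rec (motive := fun _ => ℕ) U_g_4 U_g_5 (Nat.ble (nat_lit 1335233) q)) (Nat.ble (nat_lit 1277147) q)) (Nat.ble (nat_lit 1219607) q)) (Bool.rec (motive := fun _ => ℕ) (Bool.rec (motive := fun _ => ℕ) U_g_6 (Bool.rec (motive := fun _ => ℕ) U_g_7 U_g_8 (Nat.ble (nat_lit 1508719) q)) (Nat.ble (nat_lit 1450907) q)) (Bool.rec (motive := fun _ => ℕ) (Bool.rec (motive := fun _ => ℕ) U_g_9 U_g_10 (Nat.ble (nat_lit 1626301) q)) (Bool.rec (motive := fun _ => ℕ) U_g_11 U_g_12 (Nat.ble (nat_lit 1744087) q)) (Nat.ble (nat_lit 1684993) q)) (Nat.ble (nat_lit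 1567409) q)) (Nat.ble (nat_lit 1393159) q)) q) q) (E_97 (Nat.mod (Bool.rec (motive := fun _ => ℕ) (Bool.rec (motive := fun _ => ℕ) (Bool.rec (motive := fun _ => ℕ) U_g_0 (Bool.rec (motive := fun _ => ℕ) U_g_1 U_g_2 (Nat.ble (nat_lit 1162541) q)) (Nat.ble (nat_lit 1105579) q)) (Bool.rec (motive := fun _ => ℕ) U_g_3 (Bool.rec (motive := fun _ => ℕ) U_g_4 U_g_5 (Nat.ble (nat_lit 1335233) q)) (Nat.ble (nat_lit 1277147) q)) (Nat.ble (nat_lit 1219607) q)) (Bool.rec (motive := fun _ => ℕ) (Bool.rec (motive := fun _ => ℕ) U_g_6 (Bool.rec (motive := fun _ => ℕ) U_g_7 U_g_8 (Nat.ble (nat_lit 1508719) q)) (Nat.ble (nat_lit 1450907) q)) (Bool.rec (motive := fun _ => ℕ) (Bool.rec (motive := fun _ => ℕ) U_g_9 U_g_10 (Nat.ble (nat_lit 1626301) q)) (Bool.rec (motive := fun _ => ℕ) U_g_11 U_g_12 (Nat.ble (nat_lit 1744087) q)) (Nat.ble (nat_lit 1684993) q)) (Nat.ble (nat_lit 1567409) q)) (Nat.ble (nat_lit 1393159) q)) q) q) (Nat.ble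 (nat_lit 1) (Nat.mod (Bool.rec (motive := fun _ => ℕ) (Bool.rec (motive := fun _ => ℕ) (Bool.rec (motive := fun _ => ℕ) V_g_0 (Bool.rec (motive := fun _ => ℕ) V_g_1 V_g_2 (Nat.ble (nat_lit 1162541) q)) (Nat.ble (nat_lit 1105579) q)) (Bool.rec (motive := fun _ => ℕ) V_g_3 (Bool.rec (motive := fun _ => ℕ) V_g_4 V_g_5 (Nat.ble (nat_lit 1335233) q)) (Nat.ble (nat_lit 1277147) q)) (Nat.ble (nat_lit 1219607) q)) (Bool.rec (motive := fun _ => ℕ) (Bool.rec (motive := fun _ => ℕ) V_g_6 (Bool.rec (motive := fun _ => ℕ) V_g_7 V_g_8 (Nat.ble (nat_lit 1508719) q)) (Nat.ble (nat_lit 1450907) q)) (Bool.rec (motive := fun _ => ℕ) (Bool.rec (motive := fun _ => ℕ) V_g_9 V_g_10 (Nat.ble (nat_lit 1626301) q)) (Bool.rec (motive := fun _ => ℕ) V_g_11 V_g_12 (Nat.ble (nat_lit 1744087) q)) (Nat.ble (nat_lit 1684993) q)) (Nat.ble (nat_lit 1567409) q)) (Nat.ble (nat_lit 1393159) q)) q))) (Bool.rec (motive := fun _ => Bool) (Bool.rec (motive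 := fun _ => Bool) (Bool.rec (motive := fun _ => Bool) (E_98 (Nat.mod (Bool.rec (motive := fun _ => ℕ) (Bool.rec (motive := fun _ => ℕ) (Bool.rec (motive := fun _ => ℕ) U_g_0 (Bool.rec (motive := fun _ => ℕ) U_g_1 U_g_2 (Nat.ble (nat_lit 1162541) q)) (Nat.ble (nat_lit 1105579) q)) (Bool.rec (motive := fun _ => ℕ) U_g_3 (Bool.rec (motive := fun _ => ℕ) U_g_4 U_g_5 (Nat.ble (nat_lit 1335233) q)) (Nat.ble (nat_lit 1277147) q)) (Nat.ble (nat_lit 1219607) q)) (Bool.rec (motive := fun _ => ℕ) (Bool.rec (motive := fun _ => ℕ) U_g_6 (Bool.rec (motive := fun _ => ℕ) U_g_7 U_g_8 (Nat.ble (nat_lit 1508719) q)) (Nat.ble (nat_lit 1450907) q)) (Bool.rec (motive := fun _ => ℕ) (Bool.rec (motive := fun _ => ℕ) U_g_9 U_g_10 (Nat.ble (nat_lit 1626301) q)) (Bool.rec (motive := fun _ => ℕ) U_g_11 U_g_12 (Nat.ble (nat_lit 1744087) q)) (Nat.ble (nat_lit 1684993) q)) (Nat.ble (nat_lit 1567409) q)) (Nat.ble (nat_lit 1393159) q)) q) q) (Bool.rec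 (motive := fun _ => Bool) (E_99 (Nat.mod (Bool.rec (motive := fun _ => ℕ) (Bool.rec (motive := fun _ => ℕ) (Bool.rec (motive := fun _ => ℕ) U_g_0 (Bool.rec (motive := fun _ => ℕ) U_g_1 U_g_2 (Nat.ble (nat_lit 1162541) q)) (Nat.ble (nat_lit 1105579) q)) (Bool.rec (motive := fun _ => ℕ) U_g_3 (Bool.rec (motive := fun _ => ℕ) U_g_4 U_g_5 (Nat.ble (nat_lit 1335233) q)) (Nat.ble (nat_lit 1277147) q)) (Nat.ble (nat_lit 1219607) q)) (Bool.rec (motive := fun _ => ℕ) (Bool.rec (motive := fun _ => ℕ) U_g_6 (Bool.rec (motive := fun _ => ℕ) U_g_7 U_g_8 (Nat.ble (nat_lit 1508719) q)) (Nat.ble (nat_lit 1450907) q)) (Bool.rec (motive := fun _ => ℕ) (Bool.rec (motive := fun _ => ℕ) U_g_9 U_g_10 (Nat.ble (nat_lit 1626301) q)) (Bool.rec (motive := fun _ => ℕ) U_g_11 U_g_12 (Nat.ble (nat_lit 1744087) q)) (Nat.ble (nat_lit 1684993) q)) (Nat.ble (nat_lit 1567409) q)) (Nat.ble (nat_lit 1393159) q)) q) q) (E_100 (Nat.mod (Bool.rec (motive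 := fun _ => ℕ) (Bool.rec (motive := fun _ => ℕ) (Bool.rec (motive := fun _ => ℕ) U_g_0 (Bool.rec (motive := fun _ => ℕ) U_g_1 U_g_2 (Nat.ble (nat_lit 1162541) q)) (Nat.ble (nat_lit 1105579) q)) (Bool.rec (motive := fun _ => ℕ) U_g_3 (Bool.rec (motive := fun _ => ℕ) U_g_4 U_g_5 (Nat.ble (nat_lit 1335233) q)) (Nat.ble (nat_lit 1277147) q)) (Nat.ble (nat_lit 1219607) q)) (Bool.rec (motive := fun _ => ℕ) (Bool.rec (motive := fun _ => ℕ) U_g_6 (Bool.rec (motive := fun _ => ℕ) U_g_7 U_g_8 (Nat.ble (nat_lit 1508719) q)) (Nat.ble (nat_lit 1450907) q)) (Bool.rec (motive := fun _ => ℕ) (Bool.rec (motive := fun _ => ℕ) U_g_9 U_g_10 (Nat.ble (nat_lit 1626301) q)) (Bool.rec (motive := fun _ => ℕ) U_g_11 U_g_12 (Nat.ble (nat_lit 1744087) q)) (Nat.ble (nat_lit 1684993) q)) (Nat.ble (nat_lit 1567409) q)) (Nat.ble (nat_lit 1393159) q)) q) q) (Nat.ble (nat_lit 4) (Nat.mod (Bool.rec (motive := fun _ => ℕ) (Bool.rec (motive := fun _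 => ℕ) (Bool.rec (motive := fun _ => ℕ) V_g_0 (Bool.rec (motive := fun _ => ℕ) V_g_1 V_g_2 (Nat.ble (nat_lit 1162541) q)) (Nat.ble (nat_lit 1105579) q)) (Bool.rec (motive := fun _ => ℕ) V_g_3 (Bool.rec (motive := fun _ => ℕ) V_g_4 V_g_5 (Nat.ble (nat_lit 1335233) q)) (Nat.ble (nat_lit 1277147) q)) (Nat.ble (nat_lit 1219607) q)) (Bool.rec (motive := fun _ => ℕ) (Bool.rec (motive := fun _ => ℕ) V_g_6 (Bool.rec (motive := fun _ => ℕ) V_g_7 V_g_8 (Nat.ble (nat_lit 1508719) q)) (Nat.ble (nat_lit 1450907) q)) (Bool.rec (motive := fun _ => ℕ) (Bool.rec (motive := fun _ => ℕ) V_g_9 V_g_10 (Nat.ble (nat_lit 1626301) q)) (Bool.rec (motive := fun _ => ℕ) V_g_11 V_g_12 (Nat.ble (nat_lit 1744087) q)) (Nat.ble (nat_lit 1684993) q)) (Nat.ble (nat_lit 1567409) q)) (Nat.ble (nat_lit 1393159) q)) q))) (Nat.ble (nat_lit 3) (Nat.mod (Bool.rec (motive := fun _ => ℕ) (Bool.rec (motive := fun _ => ℕ) (Bool.rec (motive := fun _ => ℕ) V_g_0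 (Bool.rec (motive := fun _ => ℕ) V_g_1 V_g_2 (Nat.ble (nat_lit 1162541) q)) (Nat.ble (nat_lit 1105579) q)) (Bool.rec (motive := fun _ => ℕ) V_g_3 (Bool.rec (motive := fun _ => ℕ) V_g_4 V_g_5 (Nat.ble (nat_lit 1335233) q)) (Nat.ble (nat_lit 1277147) q)) (Nat.ble (nat_lit 1219607) q)) (Bool.rec (motive := fun _ => ℕ) (Bool.rec (motive := fun _ => ℕ) V_g_6 (Bool.rec (motive := fun _ => ℕ) V_g_7 V_g_8 (Nat.ble (nat_lit 1508719) q)) (Nat.ble (nat_lit 1450907) q)) (Bool.rec (motive := fun _ => ℕ) (Bool.rec (motive := fun _ => ℕ) V_g_9 V_g_10 (Nat.ble (nat_lit 1626301) q)) (Bool.rec (motive := fun _ => ℕ) V_g_11 V_g_12 (Nat.ble (nat_lit 1744087) q)) (Nat.ble (nat_lit 1684993) q)) (Nat.ble (nat_lit 1567409) q)) (Nat.ble (nat_lit 1393159) q)) q))) (Bool.rec (motive := fun _ => Bool) (E_101 (Nat.mod (Bool.rec (motive := fun _ => ℕ) (Bool.rec (motive := fun _ => ℕ) (Bool.rec (motive := fun _ => ℕ) U_g_0 (Bool.rec (motive :=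 fun _ => ℕ) U_g_1 U_g_2 (Nat.ble (nat_lit 1162541) q)) (Nat.ble (nat_lit 1105579) q)) (Bool.rec (motive := fun _ => ℕ) U_g_3 (Bool.rec (motive := fun _ => ℕ) U_g_4 U_g_5 (Nat.ble (nat_lit 1335233) q)) (Nat.ble (nat_lit 1277147) q)) (Nat.ble (nat_lit 1219607) q)) (Bool.rec (motive := fun _ => ℕ) (Bool.rec (motive := fun _ => ℕ) U_g_6 (Bool.rec (motive := fun _ => ℕ) U_g_7 U_g_8 (Nat.ble (nat_lit 1508719) q)) (Nat.ble (nat_lit 1450907) q)) (Bool.rec (motive := fun _ => ℕ) (Bool.rec (motive := fun _ => ℕ) U_g_9 U_g_10 (Nat.ble (nat_lit 1626301) q)) (Bool.rec (motive := fun _ => ℕ) U_g_11 U_g_12 (Nat.ble (nat_lit 1744087) q)) (Nat.ble (nat_lit 1684993) q)) (Nat.ble (nat_lit 1567409) q)) (Nat.ble (nat_lit 1393159) q)) q) q) (Bool.rec (motive := fun _ => Bool) (E_102 (Nat.mod (Bool.rec (motive := fun _ => ℕ) (Bool.rec (motive := fun _ => ℕ) (Bool.rec (motive := fun _ => ℕ) U_g_0 (Bool.rec (motive := fun _ => ℕ) U_g_1 U_g_2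 (Nat.ble (nat_lit 1162541) q)) (Nat.ble (nat_lit 1105579) q)) (Bool.rec (motive := fun _ => ℕ) U_g_3 (Bool.rec (motive := fun _ => ℕ) U_g_4 U_g_5 (Nat.ble (nat_lit 1335233) q)) (Nat.ble (nat_lit 1277147) q)) (Nat.ble (nat_lit 1219607) q)) (Bool.rec (motive := fun _ => ℕ) (Bool.rec (motive := fun _ => ℕ) U_g_6 (Bool.rec (motive := fun _ => ℕ) U_g_7 U_g_8 (Nat.ble (nat_lit 1508719) q)) (Nat.ble (nat_lit 1450907) q)) (Bool.rec (motive := fun _ => ℕ) (Bool.rec (motive := fun _ => ℕ) U_g_9 U_g_10 (Nat.ble (nat_lit 1626301) q)) (Bool.rec (motive := fun _ => ℕ) U_g_11 U_g_12 (Nat.ble (nat_lit 1744087) q)) (Nat.ble (nat_lit 1684993) q)) (Nat.ble (nat_lit 1567409) q)) (Nat.ble (nat_lit 1393159) q)) q) q) (E_103 (Nat.mod (Bool.rec (motive := fun _ => ℕ) (Bool.rec (motive := fun _ => ℕ) (Bool.rec (motive := fun _ => ℕ) U_g_0 (Bool.rec (motive := fun _ => ℕ) U_g_1 U_g_2 (Nat.ble (nat_lit 1162541) q)) (Nat.ble (nat_lit 1105579)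 q)) (Bool.rec (motive := fun _ => ℕ) U_g_3 (Bool.rec (motive := fun _ => ℕ) U_g_4 U_g_5 (Nat.ble (nat_lit 1335233) q)) (Nat.ble (nat_lit 1277147) q)) (Nat.ble (nat_lit 1219607) q)) (Bool.rec (motive := fun _ => ℕ) (Bool.rec (motive := fun _ => ℕ) U_g_6 (Bool.rec (motive := fun _ => ℕ) U_g_7 U_g_8 (Nat.ble (nat_lit 1508719) q)) (Nat.ble (nat_lit 1450907) q)) (Bool.rec (motive := fun _ => ℕ) (Bool.rec (motive := fun _ => ℕ) U_g_9 U_g_10 (Nat.ble (nat_lit 1626301) q)) (Bool.rec (motive := fun _ => ℕ) U_g_11 U_g_12 (Nat.ble (nat_lit 1744087) q)) (Nat.ble (nat_lit 1684993) q)) (Nat.ble (nat_lit 1567409) q)) (Nat.ble (nat_lit 1393159) q)) q) q) (Nat.ble (nat_lit 7) (Nat.mod (Bool.rec (motive := fun _ => ℕ) (Bool.rec (motive := fun _ => ℕ) (Bool.rec (motive := fun _ => ℕ) V_g_0 (Bool.rec (motive := fun _ => ℕ) V_g_1 V_g_2 (Nat.ble (nat_lit 1162541) q)) (Nat.ble (nat_lit 1105579) q)) (Bool.rec (motive := fun _ => ℕ) V_g_3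 (Bool.rec (motive := fun _ => ℕ) V_g_4 V_g_5 (Nat.ble (nat_lit 1335233) q)) (Nat.ble (nat_lit 1277147) q)) (Nat.ble (nat_lit 1219607) q)) (Bool.rec (motive := fun _ => ℕ) (Bool.rec (motive := fun _ => ℕ) V_g_6 (Bool.rec (motive := fun _ => ℕ) V_g_7 V_g_8 (Nat.ble (nat_lit 1508719) q)) (Nat.ble (nat_lit 1450907) q)) (Bool.rec (motive := fun _ => ℕ) (Bool.rec (motive := fun _ => ℕ) V_g_9 V_g_10 (Nat.ble (nat_lit 1626301) q)) (Bool.rec (motive := fun _ => ℕ) V_g_11 V_g_12 (Nat.ble (nat_lit 1744087) q)) (Nat.ble (nat_lit 1684993) q)) (Nat.ble (nat_lit 1567409) q)) (Nat.ble (nat_lit 1393159) q)) q))) (Nat.ble (nat_lit 6) (Nat.mod (Bool.rec (motive := fun _ => ℕ) (Bool.rec (motive := fun _ => ℕ) (Bool.rec (motive := fun _ => ℕ) V_g_0 (Bool.rec (motive := fun _ => ℕ) V_g_1 V_g_2 (Nat.ble (nat_lit 1162541) q)) (Nat.ble (nat_lit 1105579) q)) (Bool.rec (motive := fun _ => ℕ) V_g_3 (Bool.rec (motive := fun _ => ℕ) V_g_4 V_g_5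 (Nat.ble (nat_lit 1335233) q)) (Nat.ble (nat_lit 1277147) q)) (Nat.ble (nat_lit 1219607) q)) (Bool.rec (motive := fun _ => ℕ) (Bool.rec (motive := fun _ => ℕ) V_g_6 (Bool.rec (motive := fun _ => ℕ) V_g_7 V_g_8 (Nat.ble (nat_lit 1508719) q)) (Nat.ble (nat_lit 1450907) q)) (Bool.rec (motive := fun _ => ℕ) (Bool.rec (motive := fun _ => ℕ) V_g_9 V_g_10 (Nat.ble (nat_lit 1626301) q)) (Bool.rec (motive := fun _ => ℕ) V_g_11 V_g_12 (Nat.ble (nat_lit 1744087) q)) (Nat.ble (nat_lit 1684993) q)) (Nat.ble (nat_lit 1567409) q)) (Nat.ble (nat_lit 1393159) q)) q))) (Nat.ble (nat_lit 5) (Nat.mod (Bool.rec (motive := fun _ => ℕ) (Bool.rec (motive := fun _ => ℕ) (Bool.rec (motive := fun _ => ℕ) V_g_0 (Bool.rec (motive := fun _ => ℕ) V_g_1 V_g_2 (Nat.ble (nat_lit 1162541) q)) (Nat.ble (nat_lit 1105579) q)) (Bool.rec (motive := fun _ => ℕ) V_g_3 (Bool.rec (motive := fun _ => ℕ) V_g_4 V_g_5 (Nat.ble (nat_lit 1335233) q)) (Nat.ble (nat_lit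 1277147) q)) (Nat.ble (nat_lit 1219607) q)) (Bool.rec (motive := fun _ => ℕ) (Bool.rec (motive := fun _ => ℕ) V_g_6 (Bool.rec (motive := fun _ => ℕ) V_g_7 V_g_8 (Nat.ble (nat_lit 1508719) q)) (Nat.ble (nat_lit 1450907) q)) (Bool.rec (motive := fun _ => ℕ) (Bool.rec (motive := fun _ => ℕ) V_g_9 V_g_10 (Nat.ble (nat_lit 1626301) q)) (Bool.rec (motive := fun _ => ℕ) V_g_11 V_g_12 (Nat.ble (nat_lit 1744087) q)) (Nat.ble (nat_lit 1684993) q)) (Nat.ble (nat_lit 1567409) q)) (Nat.ble (nat_lit 1393159) q)) q))) (Bool.rec (motive := fun _ => Bool) (Bool.rec (motive := fun _ => Bool) (E_104 (Nat.mod (Bool.rec (motive := fun _ => ℕ) (Bool.rec (motive := fun _ => ℕ) (Bool.rec (motive := fun _ => ℕ) U_g_0 (Bool.rec (motive := fun _ => ℕ) U_g_1 U_g_2 (Nat.ble (nat_lit 1162541) q)) (Nat.ble (nat_lit 1105579) q)) (Bool.rec (motive := fun _ => ℕ) U_g_3 (Bool.rec (motive := fun _ => ℕ) U_g_4 U_g_5 (Nat.ble (nat_lit 1335233) q)) (Nat.ble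 (nat_lit 1277147) q)) (Nat.ble (nat_lit 1219607) q)) (Bool.rec (motive := fun _ => ℕ) (Bool.rec (motive := fun _ => ℕ) U_g_6 (Bool.rec (motive := fun _ => ℕ) U_g_7 U_g_8 (Nat.ble (nat_lit 1508719) q)) (Nat.ble (nat_lit 1450907) q)) (Bool.rec (motive := fun _ => ℕ) (Bool.rec (motive := fun _ => ℕ) U_g_9 U_g_10 (Nat.ble (nat_lit 1626301) q)) (Bool.rec (motive := fun _ => ℕ) U_g_11 U_g_12 (Nat.ble (nat_lit 1744087) q)) (Nat.ble (nat_lit 1684993) q)) (Nat.ble (nat_lit 1567409) q)) (Nat.ble (nat_lit 1393159) q)) q) q) (Bool.rec (motive := fun _ => Bool) (E_105 (Nat.mod (Bool.rec (motive := fun _ => ℕ) (Bool.rec (motive := fun _ => ℕ) (Bool.rec (motive := fun _ => ℕ) U_g_0 (Bool.rec (motive := fun _ => ℕ) U_g_1 U_g_2 (Nat.ble (nat_lit 1162541) q)) (Nat.ble (nat_lit 1105579) q)) (Bool.rec (motive := fun _ => ℕ) U_g_3 (Bool.rec (motive := fun _ => ℕ) U_g_4 U_g_5 (Nat.ble (nat_lit 1335233) q)) (Nat.ble (nat_lit 1277147) q))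 (Nat.ble (nat_lit 1219607) q)) (Bool.rec (motive := fun _ => ℕ) (Bool.rec (motive := fun _ => ℕ) U_g_6 (Bool.rec (motive := fun _ => ℕ) U_g_7 U_g_8 (Nat.ble (nat_lit 1508719) q)) (Nat.ble (nat_lit 1450907) q)) (Bool.rec (motive := fun _ => ℕ) (Bool.rec (motive := fun _ => ℕ) U_g_9 U_g_10 (Nat.ble (nat_lit 1626301) q)) (Bool.rec (motive := fun _ => ℕ) U_g_11 U_g_12 (Nat.ble (nat_lit 1744087) q)) (Nat.ble (nat_lit 1684993) q)) (Nat.ble (nat_lit 1567409) q)) (Nat.ble (nat_lit 1393159) q)) q) q) (E_106 (Nat.mod (Bool.rec (motive := fun _ => ℕ) (Bool.rec (motive := fun _ => ℕ) (Bool.rec (motive := fun _ => ℕ) U_g_0 (Bool.rec (motive := fun _ => ℕ) U_g_1 U_g_2 (Nat.ble (nat_lit 1162541) q)) (Nat.ble (nat_lit 1105579) q)) (Bool.rec (motive := fun _ => ℕ) U_g_3 (Bool.rec (motive := fun _ => ℕ) U_g_4 U_g_5 (Nat.ble (nat_lit 1335233) q)) (Nat.ble (nat_lit 1277147) q)) (Nat.ble (nat_lit 1219607) q)) (Bool.rec (motive := fun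 _ => ℕ) (Bool.rec (motive := fun _ => ℕ) U_g_6 (Bool.rec (motive := fun _ => ℕ) U_g_7 U_g_8 (Nat.ble (nat_lit 1508719) q)) (Nat.ble (nat_lit 1450907) q)) (Bool.rec (motive := fun _ => ℕ) (Bool.rec (motive := fun _ => ℕ) U_g_9 U_g_10 (Nat.ble (nat_lit 1626301) q)) (Bool.rec (motive := fun _ => ℕ) U_g_11 U_g_12 (Nat.ble (nat_lit 1744087) q)) (Nat.ble (nat_lit 1684993) q)) (Nat.ble (nat_lit 1567409) q)) (Nat.ble (nat_lit 1393159) q)) q) q) (Nat.ble (nat_lit 10) (Nat.mod (Bool.rec (motive := fun _ => ℕ) (Bool.rec (motive := fun _ => ℕ) (Bool.rec (motive := fun _ => ℕ) V_g_0 (Bool.rec (motive := fun _ => ℕ) V_g_1 V_g_2 (Nat.ble (nat_lit 1162541) q)) (Nat.ble (nat_lit 1105579) q)) (Bool.rec (motive := fun _ => ℕ) V_g_3 (Bool.rec (motive := fun _ => ℕ) V_g_4 V_g_5 (Nat.ble (nat_lit 1335233) q)) (Nat.ble (nat_lit 1277147) q)) (Nat.ble (nat_lit 1219607) q)) (Bool.rec (motive := fun _ => ℕ) (Bool.rec (motive := fun _ => ℕ)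 V_g_6 (Bool.rec (motive := fun _ => ℕ) V_g_7 V_g_8 (Nat.ble (nat_lit 1508719) q)) (Nat.ble (nat_lit 1450907) q)) (Bool.rec (motive := fun _ => ℕ) (Bool.rec (motive := fun _ => ℕ) V_g_9 V_g_10 (Nat.ble (nat_lit 1626301) q)) (Bool.rec (motive := fun _ => ℕ) V_g_11 V_g_12 (Nat.ble (nat_lit 1744087) q)) (Nat.ble (nat_lit 1684993) q)) (Nat.ble (nat_lit 1567409) q)) (Nat.ble (nat_lit 1393159) q)) q))) (Nat.ble (nat_lit 9) (Nat.mod (Bool.rec (motive := fun _ => ℕ) (Bool.rec (motive := fun _ => ℕ) (Bool.rec (motive := fun _ => ℕ) V_g_0 (Bool.rec (motive := fun _ => ℕ) V_g_1 V_g_2 (Nat.ble (nat_lit 1162541) q)) (Nat.ble (nat_lit 1105579) q)) (Bool.rec (motive := fun _ => ℕ) V_g_3 (Bool.rec (motive := fun _ => ℕ) V_g_4 V_g_5 (Nat.ble (nat_lit 1335233) q)) (Nat.ble (nat_lit 1277147) q)) (Nat.ble (nat_lit 1219607) q)) (Bool.rec (motive := fun _ => ℕ) (Bool.rec (motive := fun _ => ℕ) V_g_6 (Bool.rec (motive := fun _ => ℕ) V_g_7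 V_g_8 (Nat.ble (nat_lit 1508719) q)) (Nat.ble (nat_lit 1450907) q)) (Bool.rec (motive := fun _ => ℕ) (Bool.rec (motive := fun _ => ℕ) V_g_9 V_g_10 (Nat.ble (nat_lit 1626301) q)) (Bool.rec (motive := fun _ => ℕ) V_g_11 V_g_12 (Nat.ble (nat_lit 1744087) q)) (Nat.ble (nat_lit 1684993) q)) (Nat.ble (nat_lit 1567409) q)) (Nat.ble (nat_lit 1393159) q)) q))) (Bool.rec (motive := fun _ => Bool) (E_107 (Nat.mod (Bool.rec (motive := fun _ => ℕ) (Bool.rec (motive := fun _ => ℕ) (Bool.rec (motive := fun _ => ℕ) U_g_0 (Bool.rec (motive := fun _ => ℕ) U_g_1 U_g_2 (Nat.ble (nat_lit 1162541) q)) (Nat.ble (nat_lit 1105579) q)) (Bool.rec (motive := fun _ => ℕ) U_g_3 (Bool.rec (motive := fun _ => ℕ) U_g_4 U_g_5 (Nat.ble (nat_lit 1335233) q)) (Nat.ble (nat_lit 1277147) q)) (Nat.ble (nat_lit 1219607) q)) (Bool.rec (motive := fun _ => ℕ) (Bool.rec (motive := fun _ => ℕ) U_g_6 (Bool.rec (motive := fun _ => ℕ) U_g_7 U_g_8 (Nat.ble (nat_lit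 1508719) q)) (Nat.ble (nat_lit 1450907) q)) (Bool.rec (motive := fun _ => ℕ) (Bool.rec (motive := fun _ => ℕ) U_g_9 U_g_10 (Nat.ble (nat_lit 1626301) q)) (Bool.rec (motive := fun _ => ℕ) U_g_11 U_g_12 (Nat.ble (nat_lit 1744087) q)) (Nat.ble (nat_lit 1684993) q)) (Nat.ble (nat_lit 1567409) q)) (Nat.ble (nat_lit 1393159) q)) q) q) (Bool.rec (motive := fun _ => Bool) (E_108 (Nat.mod (Bool.rec (motive := fun _ => ℕ) (Bool.rec (motive := fun _ => ℕ) (Bool.rec (motive := fun _ => ℕ) U_g_0 (Bool.rec (motive := fun _ => ℕ) U_g_1 U_g_2 (Nat.ble (nat_lit 1162541) q)) (Nat.ble (nat_lit 1105579) q)) (Bool.rec (motive := fun _ => ℕ) U_g_3 (Bool.rec (motive := fun _ => ℕ) U_g_4 U_g_5 (Nat.ble (nat_lit 1335233) q)) (Nat.ble (nat_lit 1277147) q)) (Nat.ble (nat_lit 1219607) q)) (Bool.rec (motive := fun _ => ℕ) (Bool.rec (motive := fun _ => ℕ) U_g_6 (Bool.rec (motive := fun _ => ℕ) U_g_7 U_g_8 (Nat.ble (nat_lit 1508719) q)) (Nat.ble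 (nat_lit 1450907) q)) (Bool.rec (motive := fun _ => ℕ) (Bool.rec (motive := fun _ => ℕ) U_g_9 U_g_10 (Nat.ble (nat_lit 1626301) q)) (Bool.rec (motive := fun _ => ℕ) U_g_11 U_g_12 (Nat.ble (nat_lit 1744087) q)) (Nat.ble (nat_lit 1684993) q)) (Nat.ble (nat_lit 1567409) q)) (Nat.ble (nat_lit 1393159) q)) q) q) (E_109 (Nat.mod (Bool.rec (motive := fun _ => ℕ) (Bool.rec (motive := fun _ => ℕ) (Bool.rec (motive := fun _ => ℕ) U_g_0 (Bool.rec (motive := fun _ => ℕ) U_g_1 U_g_2 (Nat.ble (nat_lit 1162541) q)) (Nat.ble (nat_lit 1105579) q)) (Bool.rec (motive := fun _ => ℕ) U_g_3 (Bool.rec (motive := fun _ => ℕ) U_g_4 U_g_5 (Nat.ble (nat_lit 1335233) q)) (Nat.ble (nat_lit 1277147) q)) (Nat.ble (nat_lit 1219607) q)) (Bool.rec (motive := fun _ => ℕ) (Bool.rec (motive := fun _ => ℕ) U_g_6 (Bool.rec (motive := fun _ => ℕ) U_g_7 U_g_8 (Nat.ble (nat_lit 1508719) q)) (Nat.ble (nat_lit 1450907) q)) (Bool.rec (motive := fun _ => ℕ) (Bool.rec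 (motive := fun _ => ℕ) U_g_9 U_g_10 (Nat.ble (nat_lit 1626301) q)) (Bool.rec (motive := fun _ => ℕ) U_g_11 U_g_12 (Nat.ble (nat_lit 1744087) q)) (Nat.ble (nat_lit 1684993) q)) (Nat.ble (nat_lit 1567409) q)) (Nat.ble (nat_lit 1393159) q)) q) q) (Nat.ble (nat_lit 13) (Nat.mod (Bool.rec (motive := fun _ => ℕ) (Bool.rec (motive := fun _ => ℕ) (Bool.rec (motive := fun _ => ℕ) V_g_0 (Bool.rec (motive := fun _ => ℕ) V_g_1 V_g_2 (Nat.ble (nat_lit 1162541) q)) (Nat.ble (nat_lit 1105579) q)) (Bool.rec (motive := fun _ => ℕ) V_g_3 (Bool.rec (motive := fun _ => ℕ) V_g_4 V_g_5 (Nat.ble (nat_lit 1335233) q)) (Nat.ble (nat_lit 1277147) q)) (Nat.ble (nat_lit 1219607) q)) (Bool.rec (motive := fun _ => ℕ) (Bool.rec (motive := fun _ => ℕ) V_g_6 (Bool.rec (motive := fun _ => ℕ) V_g_7 V_g_8 (Nat.ble (nat_lit 1508719) q)) (Nat.ble (nat_lit 1450907) q)) (Bool.rec (motive := fun _ => ℕ) (Bool.rec (motive := fun _ => ℕ) V_g_9 V_g_10 (Nat.ble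 (nat_lit 1626301) q)) (Bool.rec (motive := fun _ => ℕ) V_g_11 V_g_12 (Nat.ble (nat_lit 1744087) q)) (Nat.ble (nat_lit 1684993) q)) (Nat.ble (nat_lit 1567409) q)) (Nat.ble (nat_lit 1393159) q)) q))) (Nat.ble (nat_lit 12) (Nat.mod (Bool.rec (motive := fun _ => ℕ) (Bool.rec (motive := fun _ => ℕ) (Bool.rec (motive := fun _ => ℕ) V_g_0 (Bool.rec (motive := fun _ => ℕ) V_g_1 V_g_2 (Nat.ble (nat_lit 1162541) q)) (Nat.ble (nat_lit 1105579) q)) (Bool.rec (motive := fun _ => ℕ) V_g_3 (Bool.rec (motive := fun _ => ℕ) V_g_4 V_g_5 (Nat.ble (nat_lit 1335233) q)) (Nat.ble (nat_lit 1277147) q)) (Nat.ble (nat_lit 1219607) q)) (Bool.rec (motive := fun _ => ℕ) (Bool.rec (motive := fun _ => ℕ) V_g_6 (Bool.rec (motive := fun _ => ℕ) V_g_7 V_g_8 (Nat.ble (nat_lit 1508719) q)) (Nat.ble (nat_lit 1450907) q)) (Bool.rec (motive := fun _ => ℕ) (Bool.rec (motive := fun _ => ℕ) V_g_9 V_g_10 (Nat.ble (nat_lit 1626301) q)) (Bool.rec (motive :=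 fun _ => ℕ) V_g_11 V_g_12 (Nat.ble (nat_lit 1744087) q)) (Nat.ble (nat_lit 1684993) q)) (Nat.ble (nat_lit 1567409) q)) (Nat.ble (nat_lit 1393159) q)) q))) (Nat.ble (nat_lit 11) (Nat.mod (Bool.rec (motive := fun _ => ℕ) (Bool.rec (motive := fun _ => ℕ) (Bool.rec (motive := fun _ => ℕ) V_g_0 (Bool.rec (motive := fun _ => ℕ) V_g_1 V_g_2 (Nat.ble (nat_lit 1162541) q)) (Nat.ble (nat_lit 1105579) q)) (Bool.rec (motive := fun _ => ℕ) V_g_3 (Bool.rec (motive := fun _ => ℕ) V_g_4 V_g_5 (Nat.ble (nat_lit 1335233) q)) (Nat.ble (nat_lit 1277147) q)) (Nat.ble (nat_lit 1219607) q)) (Bool.rec (motive := fun _ => ℕ) (Bool.rec (motive := fun _ => ℕ) V_g_6 (Bool.rec (motive := fun _ => ℕ) V_g_7 V_g_8 (Nat.ble (nat_lit 1508719) q)) (Nat.ble (nat_lit 1450907) q)) (Bool.rec (motive := fun _ => ℕ) (Bool.rec (motive := fun _ => ℕ) V_g_9 V_g_10 (Nat.ble (nat_lit 1626301) q)) (Bool.rec (motive := fun _ => ℕ) V_g_11 V_g_12 (Nat.ble (nat_lit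 1744087) q)) (Nat.ble (nat_lit 1684993) q)) (Nat.ble (nat_lit 1567409) q)) (Nat.ble (nat_lit 1393159) q)) q))) (Nat.ble (nat_lit 8) (Nat.mod (Bool.rec (motive := fun _ => ℕ) (Bool.rec (motive := fun _ => ℕ) (Bool.rec (motive := fun _ => ℕ) V_g_0 (Bool.rec (motive := fun _ => ℕ) V_g_1 V_g_2 (Nat.ble (nat_lit 1162541) q)) (Nat.ble (nat_lit 1105579) q)) (Bool.rec (motive := fun _ => ℕ) V_g_3 (Bool.rec (motive := fun _ => ℕ) V_g_4 V_g_5 (Nat.ble (nat_lit 1335233) q)) (Nat.ble (nat_lit 1277147) q)) (Nat.ble (nat_lit 1219607) q)) (Bool.rec (motive := fun _ => ℕ) (Bool.rec (motive := fun _ => ℕ) V_g_6 (Bool.rec (motive := fun _ => ℕ) V_g_7 V_g_8 (Nat.ble (nat_lit 1508719) q)) (Nat.ble (nat_lit 1450907) q)) (Bool.rec (motive := fun _ => ℕ) (Bool.rec (motive := fun _ => ℕ) V_g_9 V_g_10 (Nat.ble (nat_lit 1626301) q)) (Bool.rec (motive := fun _ => ℕ) V_g_11 V_g_12 (Nat.ble (nat_lit 1744087) q)) (Nat.ble (nat_lit 1684993) q))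 (Nat.ble (nat_lit 1567409) q)) (Nat.ble (nat_lit 1393159) q)) q))) (Nat.ble (nat_lit 2) (Nat.mod (Bool.rec (motive := fun _ => ℕ) (Bool.rec (motive := fun _ => ℕ) (Bool.rec (motive := fun _ => ℕ) V_g_0 (Bool.rec (motive := fun _ => ℕ) V_g_1 V_g_2 (Nat.ble (nat_lit 1162541) q)) (Nat.ble (nat_lit 1105579) q)) (Bool.rec (motive := fun _ => ℕ) V_g_3 (Bool.rec (motive := fun _ => ℕ) V_g_4 V_g_5 (Nat.ble (nat_lit 1335233) q)) (Nat.ble (nat_lit 1277147) q)) (Nat.ble (nat_lit 1219607) q)) (Bool.rec (motive := fun _ => ℕ) (Bool.rec (motive := fun _ => ℕ) V_g_6 (Bool.rec (motive := fun _ => ℕ) V_g_7 V_g_8 (Nat.ble (nat_lit 1508719) q)) (Nat.ble (nat_lit 1450907) q)) (Bool.rec (motive := fun _ => ℕ) (Bool.rec (motive := fun _ => ℕ) V_g_9 V_g_10 (Nat.ble (nat_lit 1626301) q)) (Bool.rec (motive := fun _ => ℕ) V_g_11 V_g_12 (Nat.ble (nat_lit 1744087) q)) (Nat.ble (nat_lit 1684993) q)) (Nat.ble (nat_lit 1567409) q)) (Nat.ble (nat_lit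 1393159) q)) q)))
noncomputable def CD_a (q : ℕ) : Bool := band (clQ mt F_a F_a q) (D_a q)
noncomputable def CD_b (q : ℕ) : Bool := band (clQ mt F_b F_b q) (D_b q)
noncomputable def CD_c (q : ℕ) : Bool := band (clQ mt F_c F_c q) (D_c q)
noncomputable def CD_d (q : ℕ) : Bool := band (clQ mt F_d F_d q) (D_d q)
noncomputable def CD_e (q : ℕ) : Bool := band (clQ mt F_e F_e q) (D_e q)
noncomputable def CD_f (q : ℕ) : Bool := band (clQ mt F_f F_f q) (D_f q)
noncomputable def CD_g (q : ℕ) : Bool := band (clQ mt F_g F_g q) (D_g q)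
noncomputable def CE_0 (q : ℕ) : Bool := (Bool.rec (motive := fun _ => Bool) false (Bool.rec (motive := fun _ => Bool) false (Bool.rec (motive := fun _ => Bool) false (Bool.rec (motive := fun _ => Bool) false (Bool.rec (motive := fun _ => Bool) false true (CD_e q)) (CD_d q)) (CD_c q)) (CD_b q)) (CD_a q))
noncomputable def CE_1 (q : ℕ) : Bool := (Bool.rec (motive := fun _ => Bool) false (Bool.rec (motive := fun _ => Bool) false true (CD_g q)) (CD_f q))
end CfsgLib.TCHeb
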