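import Cfsg.Agent.EqBase
import Cfsg.Agent.LibTCHebD
set_option autoImplicit false
set_option linter.all false
set_option maxRecDepth 1000000
set_option maxHeartbeats 0
namespace CfsgLib.TCHeb
open CfsgLib.TC Cfsg.Spor CfsgLib.TCG_He
theorem ce_0_0 : Tr.all CE_0 L_0 = true := by decide +kernel
theorem ce_0_2 : Tr.all CE_0 L_2 = true := by decide +kernel
theorem ce_0_4 : Tr.all CE_0 L_4 = true := by decide +kernel
theorem ce_0_6 : Tr.all CE_0 L_6 = true := by decide +kernel
theorem ce_0_8 : Tr.all CE_0 L_8 = true := by decide +kernel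
theorem ce_0_10 : Tr.all CE_0 L_10 = true := by decide +kernel
theorem ce_1_0 : Tr.all CE_1 L_0 = true := by decide +kernel
theorem ce_1_2 : Tr.all CE_1 L_2 = true := by decide +kernel
theorem ce_1_4 : Tr.all CE_1 L_4 = true := by decide +kernel
theorem ce_1_6 : Tr.all CE_1 L_6 = true := by decide +kernel
theorem ce_1_8 : Tr.all CE_1 L_8 = true := by decide +kernel
theorem ce_1_10 : Tr.all CE_1 L_10 = true := by decide +kernel
theorem ce_0_12 : Tr.all CE_0 L_12 = true := by decide +kernel
theorem bs_2 : bst L_2 1048576 (2 * 1048576) = true := by decide +kernel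
theorem bs_4 : bst L_4 1048576 (2 * 1048576) = true := by decide +kernel
theorem bs_6 : bst L_6 1048576 (2 * 1048576) = true := by decide +kernel
theorem bs_8 : bst L_8 1048576 (2 * 1048576) = true := by decide +kernel
theorem bs_10 : bst L_10 1048576 (2 * 1048576) = true := by decide +kernel
theorem pr_0 : prodT L_0 = MM_0 := by decide +kernel
theorem pr_1 : prodT L_1 = MM_1 := by decide +kernel
theorem pr_2 : prodT L_2 = MM_2 := by decide +kernel
theorem pr_3 : prodT L_3 = MM_3 := by decide +kernel
theorem pr_4 : prodT L_4 = MM_4 := by decide +kernel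
theorem pr_5 : prodT L_5 = MM_5 := by decide +kernel
theorem pr_6 : prodT L_6 = MM_6 := by decide +kernel
theorem pr_7 : prodT L_7 = MM_7 := by decide +kernel
theorem pr_8 : prodT L_8 = MM_8 := by decide +kernel
theorem pr_9 : prodT L_9 = MM_9 := by decide +kernel
theorem pr_10 : prodT L_10 = MM_10 := by decide +kernel
theorem pr_11 : prodT L_11 = MM_11 := by decide +kernel
theorem ce_1_12 : Tr.all CE_1 L_12 = true := by decide +kernel
theorem pr_12 : prodT L_12 = MM_12 := by decide +kernel
theorem sz_12 : size L_12 = 828 := by decide +kernel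
end CfsgLib.TCHeb
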