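import Cfsg.Agent.EqBase
import Cfsg.Agent.LibTCHebD
set_option autoImplicit false
set_option linter.all false
set_option maxRecDepth 1000000
set_option maxHeartbeats 0
namespace CfsgLib.TCHeb
open CfsgLib.TC Cfsg.Spor CfsgLib.TCG_He
theorem ce_0_1 : Tr.all CE_0 L_1 = true := by decide +kernel
theorem ce_0_3 : Tr.all CE_0 L_3 = true := by decide +kernel
theorem ce_0_5 : Tr.all CE_0 L_5 = true := by decide +kernel
theorem ce_0_7 : Tr.all CE_0 L_7 = true := by decide +kernel
theorem ce_0_9 : Tr.all CE_0 L_9 = true := by decide +kernel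
theorem ce_0_11 : Tr.all CE_0 L_11 = true := by decide +kernel
theorem ce_1_1 : Tr.all CE_1 L_1 = true := by decide +kernel
theorem ce_1_3 : Tr.all CE_1 L_3 = true := by decide +kernel
theorem ce_1_5 : Tr.all CE_1 L_5 = true := by decide +kernel
theorem ce_1_7 : Tr.all CE_1 L_7 = true := by decide +kernel
theorem ce_1_9 : Tr.all CE_1 L_9 = true := by decide +kernel
theorem ce_1_11 : Tr.all CE_1 L_11 = true := by decide +kernel
theorem bs_0 : bst L_0 1048576 (2 * 1048576) = true := by decide +kernel
theorem bs_1 : bst L_1 1048576 (2 * 1048576) = true := by decide +kernel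
theorem bs_3 : bst L_3 1048576 (2 * 1048576) = true := by decide +kernel
theorem bs_5 : bst L_5 1048576 (2 * 1048576) = true := by decide +kernel
theorem bs_7 : bst L_7 1048576 (2 * 1048576) = true := by decide +kernel
theorem bs_9 : bst L_9 1048576 (2 * 1048576) = true := by decide +kernel
theorem bs_11 : bst L_11 1048576 (2 * 1048576) = true := by decide +kernel
theorem sz_0 : size L_0 = 4096 := by decide +kernel
theorem sz_1 : size L_1 = 4096 := by decide +kernel
theorem sz_2 : size L_2 = 4096 := by decide +kernel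
theorem sz_3 : size L_3 = 4096 := by decide +kernel
theorem sz_4 : size L_4 = 4096 := by decide +kernel
theorem sz_5 : size L_5 = 4096 := by decide +kernel
theorem sz_6 : size L_6 = 4096 := by decide +kernel
theorem sz_7 : size L_7 = 4096 := by decide +kernel
theorem sz_8 : size L_8 = 4096 := by decide +kernel
theorem sz_9 : size L_9 = 4096 := by decide +kernel
theorem sz_10 : size L_10 = 4096 := by decide +kernel
theorem sz_11 : size L_11 = 4096 := by decide +kernel
theorem bs_12 : bst L_12 1048576 (2 * 1048576) = true := by decide +kernel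
theorem gc_0 : Nat.gcd MM_0 (prodTo 1449) = 1 := by decide +kernel
theorem gc_1 : Nat.gcd MM_1 (prodTo 1449) = 1 := by decide +kernel
theorem gc_2 : Nat.gcd MM_2 (prodTo 1449) = 1 := by decide +kernel
theorem gc_3 : Nat.gcd MM_3 (prodTo 1449) = 1 := by decide +kernel
theorem gc_4 : Nat.gcd MM_4 (prodTo 1449) = 1 := by decide +kernel
theorem gc_5 : Nat.gcd MM_5 (prodTo 1449) = 1 := by decide +kernel
theorem gc_6 : Nat.gcd MM_6 (prodTo 1449) = 1 := by decide +kernel
theorem gc_7 : Nat.gcd MM_7 (prodTo 1449) = 1 := by decide +kernel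
theorem gc_8 : Nat.gcd MM_8 (prodTo 1449) = 1 := by decide +kernel
theorem gc_9 : Nat.gcd MM_9 (prodTo 1449) = 1 := by decide +kernel
theorem gc_10 : Nat.gcd MM_10 (prodTo 1449) = 1 := by decide +kernel
theorem gc_11 : Nat.gcd MM_11 (prodTo 1449) = 1 := by decide +kernel
theorem gc_12 : Nat.gcd MM_12 (prodTo 1449) = 1 := by decide +kernel
end CfsgLib.TCHeb
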