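import Cfsg.Agent.EqBase
import Cfsg.Agent.LibTCGHe
set_option autoImplicit false
set_option linter.all false
set_option maxRecDepth 1000000
set_option maxHeartbeats 0
namespace CfsgLib.TCHed
open CfsgLib.TC Cfsg.Spor
inductive Col where
  | d
  | e
  | f
  | g
noncomputable def idx : Col → ℕ := fun c => Col.rec (motive := fun _ => ℕ) 0 1 2 3 c
noncomputable def inv : Col → Col := fun c => Col.rec (motive := fun _ => Col) .d .e .f .g c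
def dec : ℕ → Col := fun n => if n = 0 then .d else if n = 1 then .e else if n = 2 then .f else .g
theorem hdec : ∀ c, dec (idx c) = c := by intro c; cases c <;> rfl
theorem inv_inv : ∀ c, inv (inv c) = c := by intro c; cases c <;> rfl
def cols : List Col := [Col.d, Col.e, Col.f, Col.g]
theorem hcols : ∀ c, c ∈ cols := by intro c; cases c <;> simp [cols]
/-- relators as path words (first letter acts first) -/
noncomputable def RWb : List (List Col) := [[Col.d, Col.d],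
  [Col.e, Col.d, Col.e, Col.d, Col.e, Col.d],
  [Col.f, Col.d, Col.f, Col.d, Col.f, Col.d],
  [Col.g, Col.d, Col.g, Col.d, Col.g, Col.d],
  [Col.e, Col.e],
  [Col.f, Col.e, Col.f, Col.e],
  [Col.g, Col.e, Col.g, Col.e],
  [Col.f, Col.f],
  [Col.g, Col.f, Col.g, Col.f, Col.g, Col.f, Col.g, Col.f],
  [Col.g, Col.g],
  [Col.f, Col.g, Col.f, Col.g, Col.e]]
noncomputable def RWe : List (List Col) := []
noncomputable def RW : List (List Col) := [[Col.d, Col.d],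
  [Col.e, Col.d, Col.e, Col.d, Col.e, Col.d],
  [Col.f, Col.d, Col.f, Col.d, Col.f, Col.d],
  [Col.g, Col.d, Col.g, Col.d, Col.g, Col.d],
  [Col.e, Col.e],
  [Col.f, Col.e, Col.f, Col.e],
  [Col.g, Col.e, Col.g, Col.e],
  [Col.f, Col.f],
  [Col.g, Col.f, Col.g, Col.f, Col.g, Col.f, Col.g, Col.f],
  [Col.g, Col.g],
  [Col.f, Col.g, Col.f, Col.g, Col.e]]
theorem rw_mem : ∀ w ∈ RW, w ∈ RWb ∨ w ∈ RWe := fun w hw => Or.inl hw
def emb : Col → TCG_He.Col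
  | .d => .d
  | .e => .e
  | .f => .f
  | .g => .g
theorem emb_inv : ∀ c, emb (inv c) = TCG_He.inv (emb c) := by intro c; cases c <;> rfl
def RI : List ℕ := [18, 19, 20, 21, 22, 23, 24, 25, 26, 27, 28]
theorem ri_chk : lleq TCG_He.idx (mapR (nthR TCG_He.RW) RI) (mapR (mapR emb) RWb) = true := by decide +kernel
/-- the family of generators -/
def Pc {G : Type*} [Group G] (f : He.Gen → G) (c : Col) : G := TCG_He.Pc f (emb c)
theorem Pc_inv {G : Type*} [Group G] {f : He.Gen → G} (hs : Sat He.edges He.extra f) (c : Col) : Pc f (inv c) = (Pc f c)⁻¹ := by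
  rw [Pc, emb_inv]; exact TCG_He.Pc_inv hs _
theorem Pc_RW {G : Type*} [Group G] {f : He.Gen → G} (hs : Sat He.edges He.extra f) : ∀ w ∈ RWb, gw (Pc f) w = 1 :=
  rw_sub TCG_He.dec TCG_He.hdec emb RI ri_chk (TCG_He.Pc f) (TCG_He.Pc_RW hs)
noncomputable def SW0 : List (List Col) := []
def T_d : ℕ := (nat_lit 0x78a4bfb7342eb56dc5358d3e5cf9d6f74e8e440ac8714c9309b60e91728ee5243ae541b278e5f2a8b9e4d1f63991f6451375b8e11f17f6001b871385946f08a45dec1d167e020833f163ae0b5c5e93173c9899f15469cbbc45d9efa3064aa0dc296b2264ccecdc8ac60b3c6724efc8ee7a363a74836b083207bf405528eb439e4ebfa2e31add5c153d1c96d0564052d6c26a66b8ba9edd865f5aee7283991379d418979f00940a1b6e6d05b9a5702446981df16ff567732e40dc738f4873a98955ad6cd15985a3e628a13697d4c7af5f8c2aa7fa763133156656e607aa5eed5bbcff2d0a11ea34dd74661112a99772)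
def T_e : ℕ := (nat_lit 0xb88ba09adcd9d64e6bb09696abce290920021665be2153ec86280ab9eea3846509b1278d2b0660c8428eca9335dfa165914d1a6b3f5d287c8be96372d0f6d2f182f2bd5001190ee05bb2115e37cd15754719ac8031d075be2fba93d83164315670a0e3155d7c55716deb3fda12d3cf66bb45dcb5ef39bfe435af524f55cbd604306d9a179e2d0ec8908ad72709dae43100155adf09388ec4b31efec3d1fc9faf08c887244d13db73398bb64395b4cf9487a964d0369ba5a63ae644091b32e51e7e548c6f3c5c602c08346b627c7ab19fc0172dd1de8d1af2071c52ba761adc402e603338776acb0694ad0a07939ec)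
def T_f : ℕ := (nat_lit 0x13cff09c4e43eff8232d0cff8e6d4450de052f1d1e8b3d134c4cd73462084c6fa422323059515fd323111857c8500ff5522adf0a0fb7e1219cd3ae410d11f6121213dc982b62531e2aa778f8e37a1a8270b76b0df08884769c8ef574672c1a6e257d42b1369866f36edb15f3a109443051b8378000c716a859096a5db0130ec6a8d0139db5d5202da6d80e3e86829d8df21cd259349c00ecfe285792d36396a54732e01f514085801465c24faa7831ead250818bb04ff4ab518b5977ddb41179640b6deb361983c7d8a8ff54aa0a45529e5dea03ab25bff4be5a0aa55af8278de2037cd5fd80b644c70b5e181244301)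
def T_g : ℕ := (nat_lit 0xe125157eb30bd781148eae3cc506fe344d831a9919a7a2a79d147d68e5aabedca16ce94f66dd49d6532aae7e8e4d967e41ea60f429a1cc06867a2282ca1a7ba1bbd8dbfdfb9074bc7cf38a42c9a79ead62f7aafaaa0345d6675e0c553bda06b15f0aa5a5aa7ead89ad6671fb8563b972ea3986e61e0165699b39666a881e653ea74057001e0bf9bea4433c34b7b53ac5056edccea592731747038ff67830bb89498006e74c084b5ed0061ebe71c23205da8a563ff8c360f8342e21e3dd48e767a43084de71700da954b38dd7a204322367776648e2388216648dbc0c71eec08ae064990c68eabd2ad39031e0323006)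
def U_d : ℕ := (nat_lit 0x1a0abb4fc97e8a657059f7dcebb3c2bfdd322d2d964f7f4aafb21a5efa0fcf73ee8bebd6fcd0db85e083cfd000d0497a65321b5bb17f4b6eb1c5782921029f66460a9700a550ccf8ecd77efba3a8eb33ca033b355a45eef4e8a9e9f811f437d5bc7345e21bdb9e73a64f4feb6eafdec2c878ec3832b73fbfa6fa22eb5a7d2091c8bf9e726ae8d0b910a8c67b7b7e80220658ad7a80e514c3d234f0b003d18387aba4bd0cdd27023b480f35389e4813773d789bf3f890eec89eb86a3b568794ce1ae5147d9b938d36d728a4ada03df8aa242f25aab3670d20935d6a8c4a8d1a32bfa23056ec3264b72af9d8da1c8ce30)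
def U_e : ℕ := (nat_lit 0x155ba9912721e52e4d0b7d1619e5ee45a030c617cd812ed5f2ae00c1021ecb2ced34a7c2494bddc964c4eba7ac76cd701a00ce5e6ba8e2517f19e836b954f6f19501ea618ef60ab0d92d173d3b26fbc80d047c142d99333780e52f473dfe9a907fd2146fed2a0c444b83c36ad3c0f363f3955056f3f76aad4a9b63bc5d65cfec14aaa40f6aa10e18b39592d9daa927c594e17572ab435ca7035d8176786990bf7aa167fa46ee7b545772dc8952c36283b63ed974c384608ade3c7730eba15d3deb35789e6210a55c1686bbd5891bf1f7ea7031a04eac9915585ad2a3a01db8051c286977246e3c5b2c6ef003038226b)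
def U_f : ℕ := (nat_lit 0x3f29362b6e2727d70d24e3f09206796fa1ed31369ef489919b9a133bf266b02321129e888b85ec6f4bde31ebf57ef131735dd2879bcf48c1bab5bae3e01d9408c1bd5c7b81cf17f5cb911ebf05641c840f1d24e9059fccab281574b1eb35611cf9a05239a6343cf109ed63fe7ab2ebacac535443f4e1b6f11074a2c0a132f9eb6852129507262967872039aa13d53f2ee4294d74ca02b4d329fe85ea8ceafae772989f3dc5925329807b6d32f667861b3af1888147467e0c063b6e42e5c1b398bd2f4e5c5d350dd6793e879a3718b67e3a0884a09b17371f49ed648e1840b82480a025f410849ad7efa93eb0cf5f43)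
def U_g : ℕ := (nat_lit 0x105cc538be7d9f7823768e113bc3fb1e312ca06cdaf852756ded11daf94ac617f44f244a169c51abee187d2f851f19d9737e423e0fbf9e93d7932c406e0a90711d154e0e1bd39cf2649b3fdad5df2dfdeadd0eaf650e60711cfff3b05c46ebcae0428531287f3eecac836de77284a4843dfd61d89a1cc1b098f5250a8bad9b196d757c5d22ce46430f1e0e4e78f326653b82838558b03cf239bbd01ed24c4c3e3a669c65256015106f6d0cc4f017d0e6ca2e41114f10ee5d60ee1a206ec850bd4bf811323f01d00e7e6b4245d9d0ae0b978309e9e3957981a26fcd58b7f7482216603dd08f4f82311307948ee61922e)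
def V_d : ℕ := (nat_lit 0x11008db8aadecdf7da64042f20a641d7f2d4b5bd517f2c4522bfc8d5a94b819b73044e283f96ed017a9f850c7526a7192a224edee7962f6a5006ec22ca7108a382192c3c2c33b7274bdfce070ac4af45647b76023a58d601d8854f666eb37852d314f946408dce2f528eeec12eacf1bb570a4735b81ce36892ef8959406ece56202ec3838e5e34514737d42a1be9bacd95d6584c082d235bf3294b8b0a5b2a4c1c4a9c53ae3c2edbc747556ea64d882de7b7a979dffc421f85ad99da6d70b1364bdaaac9b0fb93d39146e7be25b8c695d85c0ca50f84ef74a2b183ae7c343dc3a4a549c03fbf70bfab0a48546975900)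
def V_e : ℕ := (nat_lit 0x140ba1fc63f72fc48f8daf9d7a8afec2ea3fc2a47bc425e00b5dee56c1055ed86b18761db1dcbba36d7beee380e0c9745d830bda743142775926724d1fa2c31f969f08b92d5afa9c82dde64b940e78b76b219f23d7ad7a6c54a3cba36abaf7dd7676aaa4e735a495ed15a5873bc96f758d72bbdb83bf113c954a55e941480190bdc10ae77bb2de391b2ebe35ea7d8f2587b02c7c73996bf3526ece7ee01754acee670d68b604935f042e36ccc2641c3756c1fb0f26538d0b31d250d93736a6241c77b53f4c6b6901000a7badf2070f89ef954b0ee6e3b73942021394b6b4fc88404be9cf683a2034684799fc860399f)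
def V_f : ℕ := (nat_lit 0x1bacc30745d82cea876db605720e66d2ec9474fe0ab2457876795f28fdef765dcc01a13ab1f34cdde3302d503f266d1d3d7cb27ed8093ebf9371ac103cdebdcf2a6b3b60fd4ade2f53f96a7b272ad0741a07276c3061dc4994a989ec4157c6e8dbbb3691f06d0f1233894f70d8390e69337421927c9d8d550778515553ac49f529541db25a23b0d8af97eb67aea97bb3194faf6d584d8ebd5d179dfc03586e428107595f597602a064a88bf6ee66cdab8487b2fe5d0ee5a8c00f5a2dc02af23f96be329f7b7e93ea7470f8ec8f7b0bc4472676c2f02327597460ccd78d71320ada5d8f071b42596ff90100f4cc6e08f)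
def V_g : ℕ := (nat_lit 0x1af81722a018e69bfc84427f7cf725403e8ccc4c0b2cf83baf00a98893e5443e4d5d8a6b43569955fc40d8b1212e2f11696ea2e02950d0d78350450b88c411562f7364570b3a763ea00049844cee6f061c9f58da0592209d7248c1dcbc3c888552120958242d7470a45f985286bc635c90ae31d35af44232f3ca0e43944395978b4faf8aeb9d6aca8e97a460a5887ffbca8ff8765f70d6f70b6e53d436aaa8adc5b6650e249dc3895c64c159496cdd2ccbbfe3f4c0ddf73e41a7ef05449f49d1745b4260bae6fea4076ccf47c9b0acd00adba165df0bc0e5255a28218b5cd248f8d5380cb742e029fa7fc27b1922c60)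
def PP : ℕ := (nat_lit 0x153efe3fdcd4e4bb5a602ab56b49541b0e810ea866010ecb4a0248b69cda9cc0e264260e5c1baffbf16cbe40df590b081021e549cefdfcae216b9dab06faf12d3ab4cbad099e182de7d0de340ddede8a2c2a5767501c8327aca6900099b45f6f81fe845a284512be4e34ac812792ddf59a8e426f2e27cec7ceac7c74181396e08b0d4eeca384f809b5680e4844d3b436d9595bcc143e754c0a30943f79c8e501519f027d99d9c0ba11a3d0596e9942238d70f6847d221b8b3e34d6c0c1840deff7d3060717581ded277ea58525bfba6f23503b5d1783a09ad3e8bcc9dbb8efe8b5e74a86d33c308b80d699dd699938f)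
def DD : ℕ := (nat_lit 0x21160751485374cccbb13ab18e0f745971ba00fe8fd164fd577b118b7c7e866ea53937ea80da2c4109e241b82c271330685b79dd2f450049bbe905b38312211c610cab4cccce3cfa3017a96b72a9104cd98a9662619a856e4bb5dd1a326b23f69132c5dc4fbf90dcb3c9401337edcfb225b5c2410d572a0009d76b7460cd425be0a55dda5ed39d0ea2f77625b1c1c33514120aac962899bda0072d25f596fc02bd31ffbb56f84f9ae666e6d9e64fa9563c59afb66238872a449a38ad0f618410404eb3e7a53f46d1447dbaa648e162ce3702f3edc6872c85b961137f96bc4be32027b2ca8ebf44c033bc7e32c550d62)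
noncomputable def stp : Col → ℕ → ℕ := fun c q => Nat.add (Nat.mod (Col.rec (motive := fun _ => ℕ) T_d T_e T_f T_g c) q) (nat_lit 2048)
noncomputable def tau : Col → ℕ → ℕ := fun c q => (Nat.mod (Col.rec (motive := fun _ => ℕ) U_d U_e U_f U_g c) q)
noncomputable def del : Col → ℕ → ℕ := fun c q => (Nat.mod (Col.rec (motive := fun _ => ℕ) V_d V_e V_f V_g c) q)
noncomputable def PT : ℕ → ℕ := fun q => Nat.add (Nat.mod PP q) (nat_lit 2048)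
noncomputable def DT : ℕ → ℕ := fun q => (Nat.mod DD q)
noncomputable def L_0 : Tr ℕ := (Tr.nd (nat_lit 2707) (Tr.nd (nat_lit 2377) (Tr.nd (nat_lit 2221) (Tr.nd (nat_lit 2129) (Tr.nd (nat_lit 2087) (Tr.nd (nat_lit 2069) (Tr.nd (nat_lit 2063) (Tr.lf (nat_lit 2053)) (Tr.lf (nat_lit 2063))) (Tr.nd (nat_lit 2081) (Tr.lf (nat_lit 2069)) (Tr.nd (nat_lit 2083) (Tr.lf (nat_lit 2081)) (Tr.lf (nat_lit 2083))))) (Tr.nd (nat_lit 2099) (Tr.nd (nat_lit 2089) (Tr.lf (nat_lit 2087)) (Tr.lf (nat_lit 2089))) (Tr.nd (nat_lit 2111) (Tr.lf (nat_lit 2099)) (Tr.nd (nat_lit 2113) (Tr.lf (nat_lit 2111)) (Tr.lf (nat_lit 2113)))))) (Tr.nd (nat_lit 2153) (Tr.nd (nat_lit 2137) (Tr.nd (nat_lit 2131) (Tr.lf (nat_lit 2129)) (Tr.lf (nat_lit 2131))) (Tr.nd (nat_lit 2141) (Tr.lf (nat_lit 2137)) (Tr.nd (nat_lit 2143) (Tr.lf (nat_lit 2141)) (Tr.lf (nat_lit 2143))))) (Tr.nd (nat_lit 2203) (Tr.nd (nat_lit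 2161) (Tr.lf (nat_lit 2153)) (Tr.nd (nat_lit 2179) (Tr.lf (nat_lit 2161)) (Tr.lf (nat_lit 2179)))) (Tr.nd (nat_lit 2207) (Tr.lf (nat_lit 2203)) (Tr.nd (nat_lit 2213) (Tr.lf (nat_lit 2207)) (Tr.lf (nat_lit 2213))))))) (Tr.nd (nat_lit 2293) (Tr.nd (nat_lit 2267) (Tr.nd (nat_lit 2239) (Tr.nd (nat_lit 2237) (Tr.lf (nat_lit 2221)) (Tr.lf (nat_lit 2237))) (Tr.nd (nat_lit 2243) (Tr.lf (nat_lit 2239)) (Tr.nd (nat_lit 2251) (Tr.lf (nat_lit 2243)) (Tr.lf (nat_lit 2251))))) (Tr.nd (nat_lit 2273) (Tr.nd (nat_lit 2269) (Tr.lf (nat_lit 2267)) (Tr.lf (nat_lit 2269))) (Tr.nd (nat_lit 2281) (Tr.lf (nat_lit 2273)) (Tr.nd (nat_lit 2287) (Tr.lf (nat_lit 2281)) (Tr.lf (nat_lit 2287)))))) (Tr.nd (nat_lit 2339) (Tr.nd (nat_lit 2309) (Tr.nd (nat_lit 2297) (Tr.lf (nat_lit 2293)) (Tr.lf (nat_lit 2297))) (Tr.nd (nat_lit 2311) (Tr.lf (nat_lit 2309)) (Tr.nd (nat_lit 2333) (Tr.lf (nat_lit 2311))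 (Tr.lf (nat_lit 2333))))) (Tr.nd (nat_lit 2351) (Tr.nd (nat_lit 2341) (Tr.lf (nat_lit 2339)) (Tr.nd (nat_lit 2347) (Tr.lf (nat_lit 2341)) (Tr.lf (nat_lit 2347)))) (Tr.nd (nat_lit 2357) (Tr.lf (nat_lit 2351)) (Tr.nd (nat_lit 2371) (Tr.lf (nat_lit 2357)) (Tr.lf (nat_lit 2371)))))))) (Tr.nd (nat_lit 2549) (Tr.nd (nat_lit 2441) (Tr.nd (nat_lit 2399) (Tr.nd (nat_lit 2383) (Tr.nd (nat_lit 2381) (Tr.lf (nat_lit 2377)) (Tr.lf (nat_lit 2381))) (Tr.nd (nat_lit 2389) (Tr.lf (nat_lit 2383)) (Tr.nd (nat_lit 2393) (Tr.lf (nat_lit 2389)) (Tr.lf (nat_lit 2393))))) (Tr.nd (nat_lit 2417) (Tr.nd (nat_lit 2411) (Tr.lf (nat_lit 2399)) (Tr.lf (nat_lit 2411))) (Tr.nd (nat_lit 2423) (Tr.lf (nat_lit 2417)) (Tr.nd (nat_lit 2437) (Tr.lf (nat_lit 2423)) (Tr.lf (nat_lit 2437)))))) (Tr.nd (nat_lit 2477) (Tr.nd (nat_lit 2459) (Tr.nd (nat_lit 2447) (Tr.lf (nat_lit 2441)) (Tr.lf (nat_lit 2447)))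 (Tr.nd (nat_lit 2467) (Tr.lf (nat_lit 2459)) (Tr.nd (nat_lit 2473) (Tr.lf (nat_lit 2467)) (Tr.lf (nat_lit 2473))))) (Tr.nd (nat_lit 2531) (Tr.nd (nat_lit 2503) (Tr.lf (nat_lit 2477)) (Tr.nd (nat_lit 2521) (Tr.lf (nat_lit 2503)) (Tr.lf (nat_lit 2521)))) (Tr.nd (nat_lit 2539) (Tr.lf (nat_lit 2531)) (Tr.nd (nat_lit 2543) (Tr.lf (nat_lit 2539)) (Tr.lf (nat_lit 2543))))))) (Tr.nd (nat_lit 2647) (Tr.nd (nat_lit 2593) (Tr.nd (nat_lit 2557) (Tr.nd (nat_lit 2551) (Tr.lf (nat_lit 2549)) (Tr.lf (nat_lit 2551))) (Tr.nd (nat_lit 2579) (Tr.lf (nat_lit 2557)) (Tr.nd (nat_lit 2591) (Tr.lf (nat_lit 2579)) (Tr.lf (nat_lit 2591))))) (Tr.nd (nat_lit 2617) (Tr.nd (nat_lit 2609) (Tr.lf (nat_lit 2593)) (Tr.lf (nat_lit 2609))) (Tr.nd (nat_lit 2621) (Tr.lf (nat_lit 2617)) (Tr.nd (nat_lit 2633) (Tr.lf (nat_lit 2621)) (Tr.lf (nat_lit 2633)))))) (Tr.nd (nat_lit 2677) (Tr.nd (nat_lit 2659) (Tr.nd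 (nat_lit 2657) (Tr.lf (nat_lit 2647)) (Tr.lf (nat_lit 2657))) (Tr.nd (nat_lit 2663) (Tr.lf (nat_lit 2659)) (Tr.nd (nat_lit 2671) (Tr.lf (nat_lit 2663)) (Tr.lf (nat_lit 2671))))) (Tr.nd (nat_lit 2689) (Tr.nd (nat_lit 2683) (Tr.lf (nat_lit 2677)) (Tr.nd (nat_lit 2687) (Tr.lf (nat_lit 2683)) (Tr.lf (nat_lit 2687)))) (Tr.nd (nat_lit 2693) (Tr.lf (nat_lit 2689)) (Tr.nd (nat_lit 2699) (Tr.lf (nat_lit 2693)) (Tr.lf (nat_lit 2699))))))))) (Tr.nd (nat_lit 3041) (Tr.nd (nat_lit 2857) (Tr.nd (nat_lit 2777) (Tr.nd (nat_lit 2731) (Tr.nd (nat_lit 2713) (Tr.nd (nat_lit 2711) (Tr.lf (nat_lit 2707)) (Tr.lf (nat_lit 2711))) (Tr.nd (nat_lit 2719) (Tr.lf (nat_lit 2713)) (Tr.nd (nat_lit 2729) (Tr.lf (nat_lit 2719)) (Tr.lf (nat_lit 2729))))) (Tr.nd (nat_lit 2749) (Tr.nd (nat_lit 2741) (Tr.lf (nat_lit 2731)) (Tr.lf (nat_lit 2741))) (Tr.nd (nat_lit 2753) (Tr.lf (nat_lit 2749)) (Tr.nd (nat_lit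 2767) (Tr.lf (nat_lit 2753)) (Tr.lf (nat_lit 2767)))))) (Tr.nd (nat_lit 2803) (Tr.nd (nat_lit 2791) (Tr.nd (nat_lit 2789) (Tr.lf (nat_lit 2777)) (Tr.lf (nat_lit 2789))) (Tr.nd (nat_lit 2797) (Tr.lf (nat_lit 2791)) (Tr.nd (nat_lit 2801) (Tr.lf (nat_lit 2797)) (Tr.lf (nat_lit 2801))))) (Tr.nd (nat_lit 2837) (Tr.nd (nat_lit 2819) (Tr.lf (nat_lit 2803)) (Tr.nd (nat_lit 2833) (Tr.lf (nat_lit 2819)) (Tr.lf (nat_lit 2833)))) (Tr.nd (nat_lit 2843) (Tr.lf (nat_lit 2837)) (Tr.nd (nat_lit 2851) (Tr.lf (nat_lit 2843)) (Tr.lf (nat_lit 2851))))))) (Tr.nd (nat_lit 2953) (Tr.nd (nat_lit 2903) (Tr.nd (nat_lit 2879) (Tr.nd (nat_lit 2861) (Tr.lf (nat_lit 2857)) (Tr.lf (nat_lit 2861))) (Tr.nd (nat_lit 2887) (Tr.lf (nat_lit 2879)) (Tr.nd (nat_lit 2897) (Tr.lf (nat_lit 2887)) (Tr.lf (nat_lit 2897))))) (Tr.nd (nat_lit 2917) (Tr.nd (nat_lit 2909) (Tr.lf (nat_lit 2903)) (Tr.lf (nat_lit 2909)))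 (Tr.nd (nat_lit 2927) (Tr.lf (nat_lit 2917)) (Tr.nd (nat_lit 2939) (Tr.lf (nat_lit 2927)) (Tr.lf (nat_lit 2939)))))) (Tr.nd (nat_lit 2999) (Tr.nd (nat_lit 2963) (Tr.nd (nat_lit 2957) (Tr.lf (nat_lit 2953)) (Tr.lf (nat_lit 2957))) (Tr.nd (nat_lit 2969) (Tr.lf (nat_lit 2963)) (Tr.nd (nat_lit 2971) (Tr.lf (nat_lit 2969)) (Tr.lf (nat_lit 2971))))) (Tr.nd (nat_lit 3019) (Tr.nd (nat_lit 3001) (Tr.lf (nat_lit 2999)) (Tr.nd (nat_lit 3011) (Tr.lf (nat_lit 3001)) (Tr.lf (nat_lit 3011)))) (Tr.nd (nat_lit 3023) (Tr.lf (nat_lit 3019)) (Tr.nd (nat_lit 3037) (Tr.lf (nat_lit 3023)) (Tr.lf (nat_lit 3037)))))))) (Tr.nd (nat_lit 3229) (Tr.nd (nat_lit 3137) (Tr.nd (nat_lit 3083) (Tr.nd (nat_lit 3061) (Tr.nd (nat_lit 3049) (Tr.lf (nat_lit 3041)) (Tr.lf (nat_lit 3049))) (Tr.nd (nat_lit 3067) (Tr.lf (nat_lit 3061)) (Tr.nd (nat_lit 3079) (Tr.lf (nat_lit 3067)) (Tr.lf (nat_lit 3079)))))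 (Tr.nd (nat_lit 3109) (Tr.nd (nat_lit 3089) (Tr.lf (nat_lit 3083)) (Tr.lf (nat_lit 3089))) (Tr.nd (nat_lit 3119) (Tr.lf (nat_lit 3109)) (Tr.nd (nat_lit 3121) (Tr.lf (nat_lit 3119)) (Tr.lf (nat_lit 3121)))))) (Tr.nd (nat_lit 3187) (Tr.nd (nat_lit 3167) (Tr.nd (nat_lit 3163) (Tr.lf (nat_lit 3137)) (Tr.lf (nat_lit 3163))) (Tr.nd (nat_lit 3169) (Tr.lf (nat_lit 3167)) (Tr.nd (nat_lit 3181) (Tr.lf (nat_lit 3169)) (Tr.lf (nat_lit 3181))))) (Tr.nd (nat_lit 3209) (Tr.nd (nat_lit 3191) (Tr.lf (nat_lit 3187)) (Tr.nd (nat_lit 3203) (Tr.lf (nat_lit 3191)) (Tr.lf (nat_lit 3203)))) (Tr.nd (nat_lit 3217) (Tr.lf (nat_lit 3209)) (Tr.nd (nat_lit 3221) (Tr.lf (nat_lit 3217)) (Tr.lf (nat_lit 3221))))))) (Tr.nd (nat_lit 3319) (Tr.nd (nat_lit 3271) (Tr.nd (nat_lit 3253) (Tr.nd (nat_lit 3251) (Tr.lf (nat_lit 3229)) (Tr.lf (nat_lit 3251))) (Tr.nd (nat_lit 3257) (Tr.lf (nat_lit 3253)) (Tr.nd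 (nat_lit 3259) (Tr.lf (nat_lit 3257)) (Tr.lf (nat_lit 3259))))) (Tr.nd (nat_lit 3301) (Tr.nd (nat_lit 3299) (Tr.lf (nat_lit 3271)) (Tr.lf (nat_lit 3299))) (Tr.nd (nat_lit 3307) (Tr.lf (nat_lit 3301)) (Tr.nd (nat_lit 3313) (Tr.lf (nat_lit 3307)) (Tr.lf (nat_lit 3313)))))) (Tr.nd (nat_lit 3347) (Tr.nd (nat_lit 3329) (Tr.nd (nat_lit 3323) (Tr.lf (nat_lit 3319)) (Tr.lf (nat_lit 3323))) (Tr.nd (nat_lit 3331) (Tr.lf (nat_lit 3329)) (Tr.nd (nat_lit 3343) (Tr.lf (nat_lit 3331)) (Tr.lf (nat_lit 3343))))) (Tr.nd (nat_lit 3371) (Tr.nd (nat_lit 3359) (Tr.lf (nat_lit 3347)) (Tr.nd (nat_lit 3361) (Tr.lf (nat_lit 3359)) (Tr.lf (nat_lit 3361)))) (Tr.nd (nat_lit 3373) (Tr.lf (nat_lit 3371)) (Tr.nd (nat_lit 3389) (Tr.lf (nat_lit 3373)) (Tr.lf (nat_lit 3389))))))))))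
noncomputable def L : Tr ℕ := L_0
noncomputable def A : Tr (Alt Col) := (Tr.nd (nat_lit 9) (Tr.nd (nat_lit 4) (Tr.nd (nat_lit 2) (Tr.nd (nat_lit 1) (Tr.lf Alt.tree) (Tr.lf (Alt.word (nat_lit 0) (nat_lit 0) true [Col.d, Col.d]))) (Tr.nd (nat_lit 3) (Tr.lf (Alt.word (nat_lit 4) (nat_lit 0) true [Col.e, Col.e])) (Tr.lf (Alt.word (nat_lit 7) (nat_lit 0) true [Col.f, Col.f])))) (Tr.nd (nat_lit 6) (Tr.nd (nat_lit 5) (Tr.lf (Alt.word (nat_lit 9) (nat_lit 0) true [Col.g, Col.g])) (Tr.lf (Alt.word (nat_lit 1) (nat_lit 1) true [Col.d, Col.e, Col.d, Col.e, Col.d, Col.e]))) (Tr.nd (nat_lit 7) (Tr.lf (Alt.word (nat_lit 6) (nat_lit 0) true [Col.g, Col.e, Col.g, Col.e])) (Tr.nd (nat_lit 8) (Tr.lf (Alt.word (nat_lit 5) (nat_lit 1) true [Col.e, Col.f, Col.e, Col.f])) (Tr.lf (Alt.word (nat_lit 5) (nat_lit 0) true [Col.f, Col.e, Col.f, Col.e])))))) (Tr.nd (nat_lit 13) (Tr.nd (nat_lit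 11) (Tr.nd (nat_lit 10) (Tr.lf (Alt.word (nat_lit 6) (nat_lit 1) true [Col.e, Col.g, Col.e, Col.g])) (Tr.lf (Alt.word (nat_lit 2) (nat_lit 0) true [Col.f, Col.d, Col.f, Col.d, Col.f, Col.d]))) (Tr.nd (nat_lit 12) (Tr.lf (Alt.word (nat_lit 3) (nat_lit 0) true [Col.g, Col.d, Col.g, Col.d, Col.g, Col.d])) (Tr.lf (Alt.word (nat_lit 10) (nat_lit 1) true [Col.g, Col.f, Col.g, Col.e, Col.f])))) (Tr.nd (nat_lit 15) (Tr.nd (nat_lit 14) (Tr.lf (Alt.word (nat_lit 10) (nat_lit 0) true [Col.f, Col.g, Col.f, Col.g, Col.e])) (Tr.lf (Alt.word (nat_lit 2) (nat_lit 1) true [Col.d, Col.f, Col.d, Col.f, Col.d, Col.f]))) (Tr.nd (nat_lit 16) (Tr.lf (Alt.word (nat_lit 3) (nat_lit 1) true [Col.d, Col.g, Col.d, Col.g, Col.d, Col.g])) (Tr.nd (nat_lit 17) (Tr.lf (Alt.word (nat_lit 1) (nat_lit 0) true [Col.e, Col.d, Col.e, Col.d, Col.e, Col.d])) (Tr.lf (Alt.word (nat_lit 10) (nat_lit 2) true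 [Col.f, Col.g, Col.e, Col.f, Col.g])))))))
abbrev q0 : ℕ := nat_lit 2053
theorem alt_chk : Tr.all (altChk idx inv RW SW0) A = true := by decide +kernel
theorem bst_chk : bst L 2048 4096 = true := by decide +kernel
theorem size_L : size L = 168 := by decide +kernel
theorem q0_mem : q0 ∈ L.toList := mem_sound (by decide +kernel)
theorem closed_chk_0 : Tr.all (closedP L stp inv cols) L_0 = true := by decide +kernel
theorem closed_chk : Tr.all (closedP L stp inv cols) L = true := closed_chk_0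
theorem edge_chk_0 : Tr.all (fun q => lall (fun c => chkEdge stp tau del idx PT DT q0 A c q) cols) L_0 = true := by decide +kernel
theorem edge_chk : Tr.all (fun q => lall (fun c => chkEdge stp tau del idx PT DT q0 A c q) cols) L = true := edge_chk_0
theorem trans_chk_0 : Tr.all (transP L stp PT q0 cols) L_0 = true := by decide +kernel
theorem trans_chk : Tr.all (transP L stp PT q0 cols) L = true := trans_chk_0
theorem closed : Closed L stp inv := Closed.of_chk hcols inv_inv closed_chk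
theorem pos : ∀ q ∈ L.toList, q ≠ 0 := fun q hq h => by
  have := ((bst_sound L _ _ bst_chk).1 q hq).1
  omega
theorem nodup : L.toList.Nodup := ((bst_sound L _ _ bst_chk).2.imp (fun h => Nat.ne_of_lt h))
theorem card_L : Nat.card (Om L) = 168 := by rw [card_Om L nodup, ← size_eq, size_L]
theorem trans : ∀ q ∈ L.toList, ∃ w : List Col, walk stp w q0 = q := trans_sound trans_chk
attribute [local irreducible] L A stp tau del PT DT
theorem closure_thm {G X : Type*} [Group G] [MulAction G X] (g : Col → G) (x0 : X) (hinv : ∀ c, g (inv c) = (g c)⁻¹)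
    (hRW : ∀ w ∈ RW, gw g w = 1) (hSW : ∀ w ∈ SW0, gw g w • x0 = x0) :
    ∃ f : ℕ → X, f q0 = x0 ∧ ∀ q ∈ L.toList, ∀ c, g c • f q = f (stp c q) := by
  have hA : ∀ a ∈ A.toList, AltOK g x0 a := fun a ha =>
    altChk_sound (idx := idx) (inv := inv) (RW := RW) (SW := SW0) g x0 dec hdec hinv hRW hSW ((Tr.all_iff _ _).1 alt_chk a ha)
  exact closure_sound (L := L) (stp := stp) (tau := tau) (del := del) (idx := idx) (PT := PT) (DT := DT) (q0 := q0) (A := A) (cols := cols)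
    g x0 dec hdec hcols closed.mem pos q0_mem edge_chk hA
universe u
/-- upper bound for a relative index -/
theorem rel_upper {G : Type u} [Group G] (g : Col → G) (hinv : ∀ c, g (inv c) = (g c)⁻¹)
    (hRW : ∀ w ∈ RW, gw g w = 1) (H : Subgroup G) (hSW : ∀ w ∈ SW0, gw g w ∈ H) :
    H.relIndex (genBy g) ≠ 0 ∧ H.relIndex (genBy g) ≤ 168 := by
  rw [← size_L]
  exact relIndex_of_closure closed.mem q0_mem g hinv hRW H hSW (fun X _ x0 h1 h2 h3 => closure_thm (liftGen g) x0 h1 h2 h3)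
end CfsgLib.TCHed
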