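import Cfsg.Agent.EqBase
import Cfsg.Agent.LibTCHeb
import Cfsg.Agent.LibTCHec
import Cfsg.Agent.LibTCHed
import Cfsg.Agent.LibTCHeW
import Cfsg.Agent.LibTCHeC
set_option autoImplicit false
set_option linter.all false
set_option maxRecDepth 1000000

namespace CfsgLib.TCHe
open CfsgLib.TC Cfsg.Spor

abbrev P0 : TCHec.Col → He := TCHec.Pc PresentedGroup.of
abbrev P1 : TCHed.Col → He := TCHed.Pc PresentedGroup.of
theorem le0 : genBy P0 ≤ genBy TCG_He.P := by
  rw [Subgroup.closure_le]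
  rintro _ ⟨c, rfl⟩
  cases c
  · exact Subgroup.subset_closure ⟨.a, rfl⟩
  · exact Subgroup.subset_closure ⟨.c, rfl⟩
  · exact Subgroup.subset_closure ⟨.d, rfl⟩
  · exact Subgroup.subset_closure ⟨.e, rfl⟩
  · exact Subgroup.subset_closure ⟨.f, rfl⟩
  · exact Subgroup.subset_closure ⟨.g, rfl⟩
theorem le1 : genBy P1 ≤ genBy P0 := by
  rw [Subgroup.closure_le]
  rintro _ ⟨c, rfl⟩
  cases c
  · exact Subgroup.subset_closure ⟨.d, rfl⟩
  · exact Subgroup.subset_closure ⟨.e, rfl⟩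
  · exact Subgroup.subset_closure ⟨.f, rfl⟩
  · exact Subgroup.subset_closure ⟨.g, rfl⟩
theorem card1 : Nat.card (genBy P1) ≠ 0 ∧ Nat.card (genBy P1) ≤ 168 :=
  card_of_bot (TCHed.rel_upper P1 (TCHed.Pc_inv TCG_He.hsat) (fun w hw => (TCHed.rw_mem w hw).elim (TCHed.Pc_RW TCG_He.hsat w) (fun h => absurd h (by simp [TCHed.RWe]))) ⊥
    (fun w hw => absurd hw (by simp [TCHed.SW0])))
theorem hW : ∀ w ∈ TCHec.RWe, gw (TCHec.Pc (PresentedGroup.of : He.Gen → He)) w = 1 := by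
  intro w hw
  have h := TCHeW.words_pres TCG_He.hsat
  simp only [TCHec.RWe, List.mem_cons, List.not_mem_nil, or_false] at hw
  subst hw
  have h2 := h [.c, .d, .c, .d, .e, .d, .c, .d, .c, .d, .e, .d, .c, .d, .e] (by simp [TCHeW.SW1])
  exact h2

theorem card0 : Nat.card (genBy P0) ≠ 0 ∧ Nat.card (genBy P0) ≤ 80640 :=
  card_chain le1 (TCHec.rel_upper P0 (TCHec.Pc_inv TCG_He.hsat) (fun w hw => (TCHec.rw_mem w hw).elim (TCHec.Pc_RW TCG_He.hsat w) (hW w)) (genBy P1)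
    (fun w hw => by
      simp only [TCHec.SW0, List.mem_cons, List.not_mem_nil, or_false] at hw
      rcases hw with rfl | rfl | rfl | rfl <;> rw [gw_cons, gw_nil, one_mul] <;> apply Subgroup.subset_closure
      exacts [⟨.d, rfl⟩, ⟨.e, rfl⟩, ⟨.f, rfl⟩, ⟨.g, rfl⟩])) card1 (by norm_num)
theorem cardP : Nat.card (genBy TCG_He.P) ≠ 0 ∧ Nat.card (genBy TCG_He.P) ≤ 4030387200 :=
  card_chain le0 (TCHeb.rel_upper TCG_He.P TCG_He.P_inv TCG_He.P_RW (genBy P0)
    (fun w hw => by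
      simp only [TCHeb.SW0, List.mem_cons, List.not_mem_nil, or_false] at hw
      rcases hw with rfl | rfl | rfl | rfl | rfl | rfl <;> rw [gw_cons, gw_nil, one_mul] <;> apply Subgroup.subset_closure
      exacts [⟨.a, rfl⟩, ⟨.c, rfl⟩, ⟨.d, rfl⟩, ⟨.e, rfl⟩, ⟨.f, rfl⟩, ⟨.g, rfl⟩])) card0 (by norm_num)

theorem card_top : Nat.card He ≠ 0 ∧ Nat.card He ≤ 4030387200 := by
  have h := cardP
  have h1 : genBy TCG_He.P = ⊤ := TCG_He.P_top
  rw [h1, Subgroup.card_top] at h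
  exact h

instance finite_He : Finite He := Nat.finite_of_card_ne_zero card_top.1

theorem order_main : Nat.card He = 4030387200 ∧ Function.Injective TCHe.φ :=
  order_faithful TCHe.φ card_top.2 (TCHe.Chain.lev0 TCHe.φ.range.subtype (rangeGen TCHe.φ TCG_He.P) TCHe.φ_P)

end CfsgLib.TCHe
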