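import Cfsg.Agent.EqBase
import Cfsg.Agent.LibTCV
import Cfsg.Agent.LibTCHeF
import Cfsg.Agent.LibTCHeO
import Cfsg.Agent.LibTCHeeO
set_option autoImplicit false
set_option linter.all false
set_option maxRecDepth 1000000

/-! Simplicity of the Held group. -/

namespace CfsgLib.TCHe
open CfsgLib.TC Cfsg.Spor CfsgLib.TCG_He

theorem P_sq (c : Col) : P c * P c = 1 := by
  have h : P (inv c) = (P c)⁻¹ := P_inv c
  have h2 : inv c = c := by cases c <;> rfl
  rw [h2] at h
  nth_rewrite 1 [h]
  exact inv_mul_cancel _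

def z1w : List Col := [.a]
def z2w : List Col := [.c,.d,.g,.c,.d,.g,.c,.d,.g,.c,.d,.g,.c,.d,.g]

abbrev SA : Set He := {gw P z1w, gw P z2w}

theorem cj (w z z' : List Col) (h : relChk L stp (invW inv w ++ (z ++ (w ++ invW inv z'))) = true) :
    gw P w * gw P z * (gw P w)⁻¹ = gw P z' := conj_rel closed φ P φ_P order_main.2 P_inv w z z' h
theorem cj' (w z z' : List Col) (h : relChk L stp (w ++ (z ++ (invW inv w ++ invW inv z'))) = true) :
    (gw P w)⁻¹ * gw P z * (gw P w) = gw P z' := conj_rel' closed φ P φ_P order_main.2 P_inv w z z' h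

theorem m1 : gw P z1w ∈ Subgroup.closure SA := Subgroup.subset_closure (Or.inl rfl)
theorem m2 : gw P z2w ∈ Subgroup.closure SA := Subgroup.subset_closure (Or.inr rfl)
theorem m3 : gw P (z1w ++ z2w) ∈ Subgroup.closure SA := by
  rw [gw_append]; exact Subgroup.mul_mem _ m2 m1

theorem norm_gens : ∀ w ∈ TCHee.SW0, (∀ z ∈ SA, gw P w * z * (gw P w)⁻¹ ∈ Subgroup.closure SA) ∧
    (∀ z ∈ SA, (gw P w)⁻¹ * z * gw P w ∈ Subgroup.closure SA) := by
  intro w hw
  simp only [TCHee.SW0, List.mem_cons, List.not_mem_nil, or_false] at hw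
  rcases hw with rfl | rfl | rfl | rfl | rfl | rfl | rfl | rfl <;> refine ⟨?_, ?_⟩ <;> rintro _ (rfl | rfl)
  · rw [cj _ _ z1w (by decide +kernel)]; exact m1
  · rw [cj _ _ z2w (by decide +kernel)]; exact m2
  · rw [cj' _ _ z1w (by decide +kernel)]; exact m1
  · rw [cj' _ _ z2w (by decide +kernel)]; exact m2
  · rw [cj _ _ z1w (by decide +kernel)]; exact m1
  · rw [cj _ _ z2w (by decide +kernel)]; exact m2
  · rw [cj' _ _ z1w (by decide +kernel)]; exact m1
  · rw [cj' _ _ z2w (by decide +kernel)]; exact m2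
  · rw [cj _ _ z1w (by decide +kernel)]; exact m1
  · rw [cj _ _ z2w (by decide +kernel)]; exact m2
  · rw [cj' _ _ z1w (by decide +kernel)]; exact m1
  · rw [cj' _ _ z2w (by decide +kernel)]; exact m2
  · rw [cj _ _ z1w (by decide +kernel)]; exact m1
  · rw [cj _ _ z2w (by decide +kernel)]; exact m2
  · rw [cj' _ _ z1w (by decide +kernel)]; exact m1
  · rw [cj' _ _ z2w (by decide +kernel)]; exact m2
  · rw [cj _ _ z1w (by decide +kernel)]; exact m1
  · rw [cj _ _ z2w (by decide +kernel)]; exact m2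
  · rw [cj' _ _ z1w (by decide +kernel)]; exact m1
  · rw [cj' _ _ z2w (by decide +kernel)]; exact m2
  · rw [cj _ _ z1w (by decide +kernel)]; exact m1
  · rw [cj _ _ z2w (by decide +kernel)]; exact m2
  · rw [cj' _ _ z1w (by decide +kernel)]; exact m1
  · rw [cj' _ _ z2w (by decide +kernel)]; exact m2
  · rw [cj _ _ z1w (by decide +kernel)]; exact m1
  · rw [cj _ _ (z1w ++ z2w) (by decide +kernel)]; exact m3
  · rw [cj' _ _ z1w (by decide +kernel)]; exact m1
  · rw [cj' _ _ (z1w ++ z2w) (by decide +kernel)]; exact m3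
  · rw [cj _ _ z2w (by decide +kernel)]; exact m2
  · rw [cj _ _ (z1w ++ z2w) (by decide +kernel)]; exact m3
  · rw [cj' _ _ (z1w ++ z2w) (by decide +kernel)]; exact m3
  · rw [cj' _ _ z1w (by decide +kernel)]; exact m1

theorem A_norm : ∀ h ∈ TCHee.H, ∀ a ∈ Subgroup.closure SA, h * a * h⁻¹ ∈ Subgroup.closure SA := by
  apply conj_mem_of_gens (le_of_eq TCHee.H_eq)
  · rintro _ ⟨w, hw, rfl⟩
    exact closure_conj (norm_gens w hw).1
  · rintro _ ⟨w, hw, rfl⟩
    have := closure_conj (S := SA) (s := (gw P w)⁻¹) (fun z hz => by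
      rw [_root_.inv_inv]; exact (norm_gens w hw).2 z hz)
    intro a ha
    have h := this a ha
    rwa [_root_.inv_inv] at h

theorem A_le : Subgroup.closure SA ≤ TCHee.H := by
  rw [Subgroup.closure_le]
  have h : ∀ x ∈ [Col.a, Col.c, Col.d, Col.e, Col.f, Col.g], P x ∈ TCHee.H := by
    intro x hx
    have h0 := TCHee.H_SW [x] (by
      simp only [List.mem_cons, List.not_mem_nil, or_false] at hx
      rcases hx with rfl | rfl | rfl | rfl | rfl | rfl <;> simp [TCHee.SW0])
    rwa [gw_cons, gw_nil, one_mul] at h0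
  rintro _ (rfl | rfl)
  · exact gw_mem_of P _ _ (fun x hx => h x (by revert hx x; simp [z1w]))
  · exact gw_mem_of P _ _ (fun x hx => h x (by
      simp only [z2w, List.mem_cons, List.not_mem_nil, or_false] at hx
      rcases hx with rfl | rfl | rfl | rfl | rfl | rfl | rfl | rfl | rfl | rfl | rfl | rfl | rfl | rfl | rfl <;> simp))

theorem A_comm : ∀ a ∈ Subgroup.closure SA, ∀ b ∈ Subgroup.closure SA, a * b = b * a := by
  have h12 : gw P z1w * gw P z2w = gw P z2w * gw P z1w := by
    rw [← gw_append, ← gw_append]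
    exact eq_rel closed φ P φ_P order_main.2 P_inv _ _ (by decide +kernel)
  have key : ∀ x ∈ SA, ∀ y ∈ SA, x * y = y * x := by
    rintro _ (rfl | rfl) _ (rfl | rfl)
    · rfl
    · exact h12
    · exact h12.symm
    · rfl
  intro a ha b hb
  have h1 := Subgroup.closure_le_centralizer_centralizer SA
  have hb' : b ∈ Subgroup.centralizer SA := by
    have : Subgroup.closure SA ≤ Subgroup.centralizer SA := by
      rw [Subgroup.closure_le]
      intro x hx
      rw [SetLike.mem_coe, Subgroup.mem_centralizer_iff]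
      intro y hy
      exact key y hy x hx
    exact this hb
  have ha' := h1 ha
  rw [Subgroup.mem_centralizer_iff] at ha'
  exact (ha' b hb').symm

section rels
variable {G : Type*} [Group G] {f : He.Gen → G} (hs : Sat He.edges He.extra f)
include hs
theorem sq (x : He.Gen) : f x * f x = 1 := by
  have := cox_rel h1 h3 hs x x 1 (by cases x <;> decide)
  rwa [pow_one] at this
theorem rbc : (f .b * f .c)^3 = 1 := cox_rel h1 h3 hs _ _ _ (by decide)
theorem rde : (f .d * f .e)^3 = 1 := cox_rel h1 h3 hs _ _ _ (by decide)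
theorem rdf : (f .d * f .f)^3 = 1 := cox_rel h1 h3 hs _ _ _ (by decide)
theorem rdg : (f .d * f .g)^3 = 1 := cox_rel h1 h3 hs _ _ _ (by decide)
theorem re1 : f .e = (f .f * f .g)^2 := by
  have := hs (He.e * ((He.f * He.g) ^ 2)⁻¹) (Or.inr (by simp [He.extra]))
  simp only [map_mul, map_inv, map_pow, FreeGroup.lift_apply_of] at this
  exact mul_inv_eq_one.1 this
theorem re2 : f .e = (f .a * f .b * f .c)^3 := by
  have := hs (He.e * ((He.a * He.b * He.c) ^ 3)⁻¹) (Or.inr (by simp [He.extra]))
  simp only [map_mul, map_inv, map_pow, FreeGroup.lift_apply_of] at this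
  exact mul_inv_eq_one.1 this
theorem ra : f .a = (f .c * f .d)^5 := by
  have := hs (He.a * ((He.c * He.d) ^ 5)⁻¹) (Or.inr (by simp [He.extra]))
  simp only [map_mul, map_inv, map_pow, FreeGroup.lift_apply_of] at this
  exact mul_inv_eq_one.1 this
end rels

theorem gen_top : Subgroup.normalClosure (Subgroup.closure SA : Set He) = ⊤ := by
  apply normal_eq_top
  intro f hf hs
  have ha : f .a = 1 := by
    rw [hf]
    refine (QuotientGroup.eq_one_iff _).2 (Subgroup.subset_normalClosure ?_)
    have h := m1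
    rw [z1w, gw_cons, gw_nil, one_mul] at h
    exact h
  have he : f .e = 1 := by
    rw [re2 hs, ha, one_mul, rbc hs]
  have hd : f .d = 1 := odd_one' he (sq hs _) (rde hs) rfl
  have hf' : f .f = 1 := odd_one hd (sq hs _) (rdf hs) rfl
  have hg : f .g = 1 := odd_one hd (sq hs _) (rdg hs) rfl
  have hc : f .c = 1 := by
    have h := ra hs
    rw [ha, hd, mul_one] at h
    rw [show (5:ℕ) = 2 * 2 + 1 from rfl, pow_add, pow_mul, pow_two (f .c), sq hs, one_pow, one_mul, pow_one] at h
    exact h.symm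
  have hb : f .b = 1 := odd_one' hc (sq hs _) (rbc hs) rfl
  intro x
  cases x <;> assumption

theorem perfect : commutator He = ⊤ := by
  apply perfect_of
  intro f hs
  have hbc := odd_eq (sq hs _) (sq hs _) (rbc hs) rfl
  have hde := odd_eq (sq hs _) (sq hs _) (rde hs) rfl
  have hdf := odd_eq (sq hs _) (sq hs _) (rdf hs) rfl
  have hdg := odd_eq (sq hs _) (sq hs _) (rdg hs) rfl
  have he : f .e = 1 := by
    rw [re1 hs, pow_two, mul_mul_mul_comm, sq hs, sq hs, one_mul]
  have hd : f .d = 1 := by rw [hde, he]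
  have hf' : f .f = 1 := by rw [← hdf, hd]
  have hg : f .g = 1 := by rw [← hdg, hd]
  have ha : f .a = 1 := by
    have h := re2 hs
    rw [he, hbc, mul_assoc, sq hs, mul_one, pow_succ, pow_two, sq hs, one_mul] at h
    exact h.symm
  have hc : f .c = 1 := by
    have h := ra hs
    rw [ha, hd, mul_one] at h
    rw [show (5:ℕ) = 2 * 2 + 1 from rfl, pow_add, pow_mul, pow_two (f .c), sq hs, one_pow, one_mul, pow_one] at h
    exact h.symm
  have hb : f .b = 1 := by rw [hbc, hc]
  intro x
  cases x <;> assumption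

theorem core_a : H.normalCore = ⊥ := core_bot_of_faithful φ order_main.2 _ main.2.1 main.2.2

theorem core_b : TCHee.H.normalCore = ⊥ := by
  by_contra hne
  have h1 := normal_sup_top maximal core_a hne
  have h2 := index_dvd_of_sup _ _ h1
  rw [main.1] at h2
  have h3 : Nat.card TCHee.H.normalCore ∣ Nat.card TCHee.H := Subgroup.card_dvd_of_le (Subgroup.normalCore_le _)
  have h4 := Subgroup.card_mul_index TCHee.H
  rw [TCHee.main.1, order_main.1] at h4
  have h5 : Nat.card TCHee.H = 483840 := by omega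
  have h6 := h2.trans h3
  rw [h5] at h6
  revert h6
  norm_num

instance : Nontrivial He := by
  rw [← Finite.one_lt_card_iff_nontrivial, order_main.1]
  norm_num

theorem simple : IsSimpleGroup He :=
  simple_iwasawa TCHee.H (Subgroup.closure SA) TCHee.maximal core_b A_le A_norm A_comm gen_top perfect

end CfsgLib.TCHe
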