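import Cfsg.Agent.EqBase
import Cfsg.Agent.LibTCAutONA
set_option autoImplicit false
set_option linter.all false
set_option maxRecDepth 1000000
set_option maxHeartbeats 0
namespace CfsgLib.TCON.Au
open CfsgLib.TC Cfsg.Spor CfsgLib.TCG_ON CfsgLib.TCON CfsgLib.TCON.Chain
theorem tX_1 : Tr.all (fun q => Nat.beq (walkC stp wx q) (TX q)) L_1 = true := by decide +kernel
theorem tX_9 : Tr.all (fun q => Nat.beq (walkC stp wx q) (TX q)) L_9 = true := by decide +kernel
theorem tX_17 : Tr.all (fun q => Nat.beq (walkC stp wx q) (TX q)) L_17 = true := by decide +kernel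
theorem tX_25 : Tr.all (fun q => Nat.beq (walkC stp wx q) (TX q)) L_25 = true := by decide +kernel
theorem tY_3 : Tr.all (fun q => Nat.beq (walkC stp wy q) (TY q)) L_3 = true := by decide +kernel
theorem tY_11 : Tr.all (fun q => Nat.beq (walkC stp wy q) (TY q)) L_11 = true := by decide +kernel
theorem tY_19 : Tr.all (fun q => Nat.beq (walkC stp wy q) (TY q)) L_19 = true := by decide +kernel
theorem tY_27 : Tr.all (fun q => Nat.beq (walkC stp wy q) (TY q)) L_27 = true := by decide +kernel
theorem tS_5 : Tr.all (fun q => Nat.beq (walkC stp ws q) (TS q)) L_5 = true := by decide +kernel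
theorem tS_13 : Tr.all (fun q => Nat.beq (walkC stp ws q) (TS q)) L_13 = true := by decide +kernel
theorem tS_21 : Tr.all (fun q => Nat.beq (walkC stp ws q) (TS q)) L_21 = true := by decide +kernel
theorem tS_29 : Tr.all (fun q => Nat.beq (walkC stp ws q) (TS q)) L_29 = true := by decide +kernel
theorem tU_7 : Tr.all (fun q => Nat.beq (TS (walkC stp z1 q)) (TU q)) L_7 = true := by decide +kernel
theorem tU_15 : Tr.all (fun q => Nat.beq (TS (walkC stp z1 q)) (TU q)) L_15 = true := by decide +kernel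
theorem tU_23 : Tr.all (fun q => Nat.beq (TS (walkC stp z1 q)) (TU q)) L_23 = true := by decide +kernel
theorem cX_0_r : Tr.all (cenB stp 200 [2308807, 3586889] lvs TX [9, 4, 6, 0, 1] QX) (rgt L_0) = true := by decide +kernel
theorem cX_4_r : Tr.all (cenB stp 200 [2308807, 3586889] lvs TX [9, 4, 6, 0, 1] QX) (rgt L_4) = true := by decide +kernel
theorem cX_8_r : Tr.all (cenB stp 200 [2308807, 3586889] lvs TX [9, 4, 6, 0, 1] QX) (rgt L_8) = true := by decide +kernel
theorem cX_12_r : Tr.all (cenB stp 200 [2308807, 3586889] lvs TX [9, 4, 6, 0, 1] QX) (rgt L_12) = true := by decide +kernel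
theorem cX_16_r : Tr.all (cenB stp 200 [2308807, 3586889] lvs TX [9, 4, 6, 0, 1] QX) (rgt L_16) = true := by decide +kernel
theorem cX_20_r : Tr.all (cenB stp 200 [2308807, 3586889] lvs TX [9, 4, 6, 0, 1] QX) (rgt L_20) = true := by decide +kernel
theorem cX_24_r : Tr.all (cenB stp 200 [2308807, 3586889] lvs TX [9, 4, 6, 0, 1] QX) (rgt L_24) = true := by decide +kernel
theorem cX_28_r : Tr.all (cenB stp 200 [2308807, 3586889] lvs TX [9, 4, 6, 0, 1] QX) (rgt L_28) = true := by decide +kernel
theorem cY_2_r : Tr.all (cenB stp 200 [2798849, 2548327] lvs TY [0, 9, 4, 1, 2] QY) (rgt L_2) = true := by decide +kernel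
theorem cY_6_r : Tr.all (cenB stp 200 [2798849, 2548327] lvs TY [0, 9, 4, 1, 2] QY) (rgt L_6) = true := by decide +kernel
theorem cY_10_r : Tr.all (cenB stp 200 [2798849, 2548327] lvs TY [0, 9, 4, 1, 2] QY) (rgt L_10) = true := by decide +kernel
theorem cY_14_r : Tr.all (cenB stp 200 [2798849, 2548327] lvs TY [0, 9, 4, 1, 2] QY) (rgt L_14) = true := by decide +kernel
theorem cY_18_r : Tr.all (cenB stp 200 [2798849, 2548327] lvs TY [0, 9, 4, 1, 2] QY) (rgt L_18) = true := by decide +kernel
theorem cY_22_r : Tr.all (cenB stp 200 [2798849, 2548327] lvs TY [0, 9, 4, 1, 2] QY) (rgt L_22) = true := by decide +kernel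
theorem cY_26_r : Tr.all (cenB stp 200 [2798849, 2548327] lvs TY [0, 9, 4, 1, 2] QY) (rgt L_26) = true := by decide +kernel
end CfsgLib.TCON.Au
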