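import Cfsg.Agent.EqBase
import Cfsg.Agent.LibTCAutONA
set_option autoImplicit false
set_option linter.all false
set_option maxRecDepth 1000000
set_option maxHeartbeats 0
namespace CfsgLib.TCON.Au
open CfsgLib.TC Cfsg.Spor CfsgLib.TCG_ON CfsgLib.TCON CfsgLib.TCON.Chain
theorem tX_4 : Tr.all (fun q => Nat.beq (walkC stp wx q) (TX q)) L_4 = true := by decide +kernel
theorem tX_12 : Tr.all (fun q => Nat.beq (walkC stp wx q) (TX q)) L_12 = true := by decide +kernel
theorem tX_20 : Tr.all (fun q => Nat.beq (walkC stp wx q) (TX q)) L_20 = true := by decide +kernel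
theorem tX_28 : Tr.all (fun q => Nat.beq (walkC stp wx q) (TX q)) L_28 = true := by decide +kernel
theorem tY_6 : Tr.all (fun q => Nat.beq (walkC stp wy q) (TY q)) L_6 = true := by decide +kernel
theorem tY_14 : Tr.all (fun q => Nat.beq (walkC stp wy q) (TY q)) L_14 = true := by decide +kernel
theorem tY_22 : Tr.all (fun q => Nat.beq (walkC stp wy q) (TY q)) L_22 = true := by decide +kernel
theorem tS_0 : Tr.all (fun q => Nat.beq (walkC stp ws q) (TS q)) L_0 = true := by decide +kernel
theorem tS_8 : Tr.all (fun q => Nat.beq (walkC stp ws q) (TS q)) L_8 = true := by decide +kernel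
theorem tS_16 : Tr.all (fun q => Nat.beq (walkC stp ws q) (TS q)) L_16 = true := by decide +kernel
theorem tS_24 : Tr.all (fun q => Nat.beq (walkC stp ws q) (TS q)) L_24 = true := by decide +kernel
theorem tU_2 : Tr.all (fun q => Nat.beq (TS (walkC stp z1 q)) (TU q)) L_2 = true := by decide +kernel
theorem tU_10 : Tr.all (fun q => Nat.beq (TS (walkC stp z1 q)) (TU q)) L_10 = true := by decide +kernel
theorem tU_18 : Tr.all (fun q => Nat.beq (TS (walkC stp z1 q)) (TU q)) L_18 = true := by decide +kernel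
theorem tU_26 : Tr.all (fun q => Nat.beq (TS (walkC stp z1 q)) (TU q)) L_26 = true := by decide +kernel
theorem cX_2_l : Tr.all (cenB stp 200 [2308807, 3586889] lvs TX [9, 4, 6, 0, 1] QX) (lft L_2) = true := by decide +kernel
theorem cX_6_l : Tr.all (cenB stp 200 [2308807, 3586889] lvs TX [9, 4, 6, 0, 1] QX) (lft L_6) = true := by decide +kernel
theorem cX_10_l : Tr.all (cenB stp 200 [2308807, 3586889] lvs TX [9, 4, 6, 0, 1] QX) (lft L_10) = true := by decide +kernel
theorem cX_14_l : Tr.all (cenB stp 200 [2308807, 3586889] lvs TX [9, 4, 6, 0, 1] QX) (lft L_14) = true := by decide +kernel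
theorem cX_18_l : Tr.all (cenB stp 200 [2308807, 3586889] lvs TX [9, 4, 6, 0, 1] QX) (lft L_18) = true := by decide +kernel
theorem cX_22_l : Tr.all (cenB stp 200 [2308807, 3586889] lvs TX [9, 4, 6, 0, 1] QX) (lft L_22) = true := by decide +kernel
theorem cX_26_l : Tr.all (cenB stp 200 [2308807, 3586889] lvs TX [9, 4, 6, 0, 1] QX) (lft L_26) = true := by decide +kernel
theorem cY_0_l : Tr.all (cenB stp 200 [2798849, 2548327] lvs TY [0, 9, 4, 1, 2] QY) (lft L_0) = true := by decide +kernel
theorem cY_4_l : Tr.all (cenB stp 200 [2798849, 2548327] lvs TY [0, 9, 4, 1, 2] QY) (lft L_4) = true := by decide +kernel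
theorem cY_8_l : Tr.all (cenB stp 200 [2798849, 2548327] lvs TY [0, 9, 4, 1, 2] QY) (lft L_8) = true := by decide +kernel
theorem cY_12_l : Tr.all (cenB stp 200 [2798849, 2548327] lvs TY [0, 9, 4, 1, 2] QY) (lft L_12) = true := by decide +kernel
theorem cY_16_l : Tr.all (cenB stp 200 [2798849, 2548327] lvs TY [0, 9, 4, 1, 2] QY) (lft L_16) = true := by decide +kernel
theorem cY_20_l : Tr.all (cenB stp 200 [2798849, 2548327] lvs TY [0, 9, 4, 1, 2] QY) (lft L_20) = true := by decide +kernel
theorem cY_24_l : Tr.all (cenB stp 200 [2798849, 2548327] lvs TY [0, 9, 4, 1, 2] QY) (lft L_24) = true := by decide +kernel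
theorem cY_28_l : Tr.all (cenB stp 200 [2798849, 2548327] lvs TY [0, 9, 4, 1, 2] QY) (lft L_28) = true := by decide +kernel
end CfsgLib.TCON.Au
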