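import Cfsg.Agent.EqBase
import Cfsg.Agent.LibTCAutONA
set_option autoImplicit false
set_option linter.all false
set_option maxRecDepth 1000000
set_option maxHeartbeats 0
namespace CfsgLib.TCON.Au
open CfsgLib.TC Cfsg.Spor CfsgLib.TCG_ON CfsgLib.TCON CfsgLib.TCON.Chain
theorem tX_6 : Tr.all (fun q => Nat.beq (walkC stp wx q) (TX q)) L_6 = true := by decide +kernel
theorem tX_14 : Tr.all (fun q => Nat.beq (walkC stp wx q) (TX q)) L_14 = true := by decide +kernel
theorem tX_22 : Tr.all (fun q => Nat.beq (walkC stp wx q) (TX q)) L_22 = true := by decide +kernel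
theorem tY_0 : Tr.all (fun q => Nat.beq (walkC stp wy q) (TY q)) L_0 = true := by decide +kernel
theorem tY_8 : Tr.all (fun q => Nat.beq (walkC stp wy q) (TY q)) L_8 = true := by decide +kernel
theorem tY_16 : Tr.all (fun q => Nat.beq (walkC stp wy q) (TY q)) L_16 = true := by decide +kernel
theorem tY_24 : Tr.all (fun q => Nat.beq (walkC stp wy q) (TY q)) L_24 = true := by decide +kernel
theorem tS_2 : Tr.all (fun q => Nat.beq (walkC stp ws q) (TS q)) L_2 = true := by decide +kernel
theorem tS_10 : Tr.all (fun q => Nat.beq (walkC stp ws q) (TS q)) L_10 = true := by decide +kernel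
theorem tS_18 : Tr.all (fun q => Nat.beq (walkC stp ws q) (TS q)) L_18 = true := by decide +kernel
theorem tS_26 : Tr.all (fun q => Nat.beq (walkC stp ws q) (TS q)) L_26 = true := by decide +kernel
theorem tU_4 : Tr.all (fun q => Nat.beq (TS (walkC stp z1 q)) (TU q)) L_4 = true := by decide +kernel
theorem tU_12 : Tr.all (fun q => Nat.beq (TS (walkC stp z1 q)) (TU q)) L_12 = true := by decide +kernel
theorem tU_20 : Tr.all (fun q => Nat.beq (TS (walkC stp z1 q)) (TU q)) L_20 = true := by decide +kernel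
theorem tU_28 : Tr.all (fun q => Nat.beq (TS (walkC stp z1 q)) (TU q)) L_28 = true := by decide +kernel
theorem cX_3_l : Tr.all (cenB stp 200 [2308807, 3586889] lvs TX [9, 4, 6, 0, 1] QX) (lft L_3) = true := by decide +kernel
theorem cX_7_l : Tr.all (cenB stp 200 [2308807, 3586889] lvs TX [9, 4, 6, 0, 1] QX) (lft L_7) = true := by decide +kernel
theorem cX_11_l : Tr.all (cenB stp 200 [2308807, 3586889] lvs TX [9, 4, 6, 0, 1] QX) (lft L_11) = true := by decide +kernel
theorem cX_15_l : Tr.all (cenB stp 200 [2308807, 3586889] lvs TX [9, 4, 6, 0, 1] QX) (lft L_15) = true := by decide +kernel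
theorem cX_19_l : Tr.all (cenB stp 200 [2308807, 3586889] lvs TX [9, 4, 6, 0, 1] QX) (lft L_19) = true := by decide +kernel
theorem cX_23_l : Tr.all (cenB stp 200 [2308807, 3586889] lvs TX [9, 4, 6, 0, 1] QX) (lft L_23) = true := by decide +kernel
theorem cX_27_l : Tr.all (cenB stp 200 [2308807, 3586889] lvs TX [9, 4, 6, 0, 1] QX) (lft L_27) = true := by decide +kernel
theorem cY_1_l : Tr.all (cenB stp 200 [2798849, 2548327] lvs TY [0, 9, 4, 1, 2] QY) (lft L_1) = true := by decide +kernel
theorem cY_5_l : Tr.all (cenB stp 200 [2798849, 2548327] lvs TY [0, 9, 4, 1, 2] QY) (lft L_5) = true := by decide +kernel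
theorem cY_9_l : Tr.all (cenB stp 200 [2798849, 2548327] lvs TY [0, 9, 4, 1, 2] QY) (lft L_9) = true := by decide +kernel
theorem cY_13_l : Tr.all (cenB stp 200 [2798849, 2548327] lvs TY [0, 9, 4, 1, 2] QY) (lft L_13) = true := by decide +kernel
theorem cY_17_l : Tr.all (cenB stp 200 [2798849, 2548327] lvs TY [0, 9, 4, 1, 2] QY) (lft L_17) = true := by decide +kernel
theorem cY_21_l : Tr.all (cenB stp 200 [2798849, 2548327] lvs TY [0, 9, 4, 1, 2] QY) (lft L_21) = true := by decide +kernel
theorem cY_25_l : Tr.all (cenB stp 200 [2798849, 2548327] lvs TY [0, 9, 4, 1, 2] QY) (lft L_25) = true := by decide +kernel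
theorem cY_29_l : Tr.all (cenB stp 200 [2798849, 2548327] lvs TY [0, 9, 4, 1, 2] QY) (lft L_29) = true := by decide +kernel
end CfsgLib.TCON.Au
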