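import Cfsg.Agent.EqBase
import Cfsg.Agent.LibTCAutONA
set_option autoImplicit false
set_option linter.all false
set_option maxRecDepth 1000000
set_option maxHeartbeats 0
namespace CfsgLib.TCON.Au
open CfsgLib.TC Cfsg.Spor CfsgLib.TCG_ON CfsgLib.TCON CfsgLib.TCON.Chain
theorem tX_7 : Tr.all (fun q => Nat.beq (walkC stp wx q) (TX q)) L_7 = true := by decide +kernel
theorem tX_15 : Tr.all (fun q => Nat.beq (walkC stp wx q) (TX q)) L_15 = true := by decide +kernel
theorem tX_23 : Tr.all (fun q => Nat.beq (walkC stp wx q) (TX q)) L_23 = true := by decide +kernel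
theorem tY_1 : Tr.all (fun q => Nat.beq (walkC stp wy q) (TY q)) L_1 = true := by decide +kernel
theorem tY_9 : Tr.all (fun q => Nat.beq (walkC stp wy q) (TY q)) L_9 = true := by decide +kernel
theorem tY_17 : Tr.all (fun q => Nat.beq (walkC stp wy q) (TY q)) L_17 = true := by decide +kernel
theorem tY_25 : Tr.all (fun q => Nat.beq (walkC stp wy q) (TY q)) L_25 = true := by decide +kernel
theorem tS_3 : Tr.all (fun q => Nat.beq (walkC stp ws q) (TS q)) L_3 = true := by decide +kernel
theorem tS_11 : Tr.all (fun q => Nat.beq (walkC stp ws q) (TS q)) L_11 = true := by decide +kernel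
theorem tS_19 : Tr.all (fun q => Nat.beq (walkC stp ws q) (TS q)) L_19 = true := by decide +kernel
theorem tS_27 : Tr.all (fun q => Nat.beq (walkC stp ws q) (TS q)) L_27 = true := by decide +kernel
theorem tU_5 : Tr.all (fun q => Nat.beq (TS (walkC stp z1 q)) (TU q)) L_5 = true := by decide +kernel
theorem tU_13 : Tr.all (fun q => Nat.beq (TS (walkC stp z1 q)) (TU q)) L_13 = true := by decide +kernel
theorem tU_21 : Tr.all (fun q => Nat.beq (TS (walkC stp z1 q)) (TU q)) L_21 = true := by decide +kernel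
theorem tU_29 : Tr.all (fun q => Nat.beq (TS (walkC stp z1 q)) (TU q)) L_29 = true := by decide +kernel
theorem cX_3_r : Tr.all (cenB stp 200 [2308807, 3586889] lvs TX [9, 4, 6, 0, 1] QX) (rgt L_3) = true := by decide +kernel
theorem cX_7_r : Tr.all (cenB stp 200 [2308807, 3586889] lvs TX [9, 4, 6, 0, 1] QX) (rgt L_7) = true := by decide +kernel
theorem cX_11_r : Tr.all (cenB stp 200 [2308807, 3586889] lvs TX [9, 4, 6, 0, 1] QX) (rgt L_11) = true := by decide +kernel
theorem cX_15_r : Tr.all (cenB stp 200 [2308807, 3586889] lvs TX [9, 4, 6, 0, 1] QX) (rgt L_15) = true := by decide +kernel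
theorem cX_19_r : Tr.all (cenB stp 200 [2308807, 3586889] lvs TX [9, 4, 6, 0, 1] QX) (rgt L_19) = true := by decide +kernel
theorem cX_23_r : Tr.all (cenB stp 200 [2308807, 3586889] lvs TX [9, 4, 6, 0, 1] QX) (rgt L_23) = true := by decide +kernel
theorem cX_27_r : Tr.all (cenB stp 200 [2308807, 3586889] lvs TX [9, 4, 6, 0, 1] QX) (rgt L_27) = true := by decide +kernel
theorem cY_1_r : Tr.all (cenB stp 200 [2798849, 2548327] lvs TY [0, 9, 4, 1, 2] QY) (rgt L_1) = true := by decide +kernel
theorem cY_5_r : Tr.all (cenB stp 200 [2798849, 2548327] lvs TY [0, 9, 4, 1, 2] QY) (rgt L_5) = true := by decide +kernel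
theorem cY_9_r : Tr.all (cenB stp 200 [2798849, 2548327] lvs TY [0, 9, 4, 1, 2] QY) (rgt L_9) = true := by decide +kernel
theorem cY_13_r : Tr.all (cenB stp 200 [2798849, 2548327] lvs TY [0, 9, 4, 1, 2] QY) (rgt L_13) = true := by decide +kernel
theorem cY_17_r : Tr.all (cenB stp 200 [2798849, 2548327] lvs TY [0, 9, 4, 1, 2] QY) (rgt L_17) = true := by decide +kernel
theorem cY_21_r : Tr.all (cenB stp 200 [2798849, 2548327] lvs TY [0, 9, 4, 1, 2] QY) (rgt L_21) = true := by decide +kernel
theorem cY_25_r : Tr.all (cenB stp 200 [2798849, 2548327] lvs TY [0, 9, 4, 1, 2] QY) (rgt L_25) = true := by decide +kernel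
theorem cY_29_r : Tr.all (cenB stp 200 [2798849, 2548327] lvs TY [0, 9, 4, 1, 2] QY) (rgt L_29) = true := by decide +kernel
end CfsgLib.TCON.Au
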