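import Cfsg.Agent.EqBase
import Cfsg.Agent.LibTCONM2D
set_option autoImplicit false
set_option linter.all false
set_option maxRecDepth 1000000
set_option maxHeartbeats 0
namespace CfsgLib.TCON
open CfsgLib.TC Cfsg.Spor CfsgLib.TCG_ON
theorem mini2_chk_0 : Tr.all (chkFc idx inv mini2S mini2A mini2P mini2Q) mini2S_0 = true := by decide +kernel
end CfsgLib.TCON
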