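import Cfsg.Agent.EqBase
import Cfsg.Agent.LibTCONM2C0
import Cfsg.Agent.LibTCONM2C1
import Cfsg.Agent.LibTCONM2C2
import Cfsg.Agent.LibTCONM2C3
import Cfsg.Agent.LibTCONM2C4
import Cfsg.Agent.LibTCONM2C5
import Cfsg.Agent.LibTCONM2C6
import Cfsg.Agent.LibTCONM2C7
set_option autoImplicit false
set_option linter.all false
set_option maxRecDepth 1000000
set_option maxHeartbeats 0
namespace CfsgLib.TCON
open CfsgLib.TC Cfsg.Spor CfsgLib.TCG_ON
theorem mini2_alt : Tr.all (altChk idx inv RW (SW2)) mini2A = true := by decide +kernel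
theorem mini2_chk : Tr.all (chkFc idx inv mini2S mini2A mini2P mini2Q) mini2S = true := (Tr.all_nd (Tr.all_nd (Tr.all_nd mini2_chk_0 mini2_chk_1) (Tr.all_nd mini2_chk_2 mini2_chk_3)) (Tr.all_nd (Tr.all_nd mini2_chk_4 mini2_chk_5) (Tr.all_nd mini2_chk_6 mini2_chk_7)))
theorem mini2_run : runM idx inv mini2S 21028 0 [Mv.f (nat_lit 6), Mv.f (nat_lit 18), Mv.f (nat_lit 20), Mv.f (nat_lit 22), Mv.f (nat_lit 23), Mv.f (nat_lit 24), Mv.f (nat_lit 25), Mv.f (nat_lit 26), Mv.f (nat_lit 27), Mv.b (nat_lit 21027), Mv.b (nat_lit 22), Mv.b (nat_lit 20), Mv.b (nat_lit 18), Mv.b (nat_lit 6)] [Col.g, Col.e, Col.d, Col.gi, Col.e, Col.g, Col.c, Col.d, Col.e, Col.c, Col.g, Col.d, Col.e, Col.gi] 0 = true := by decide +kernel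
theorem mini2_fix {G X : Type*} [Group G] [MulAction G X] (g : Col → G) (x0 : X) (hinv : ∀ c, g (inv c) = (g c)⁻¹)
    (hRW : ∀ w ∈ RW, gw g w = 1) (hSW : ∀ w ∈ SW2, gw g w • x0 = x0) : gw g [Col.g, Col.e, Col.d, Col.gi, Col.e, Col.g, Col.c, Col.d, Col.e, Col.c, Col.g, Col.d, Col.e, Col.gi] • x0 = x0 :=
  mini_sound g x0 dec hdec hinv
    (fun a ha => altChk_sound g x0 dec hdec hinv hRW hSW ((Tr.all_iff _ _).1 mini2_alt a ha)) mini2_chk mini2_run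
end CfsgLib.TCON
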