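import Cfsg.Agent.EqBase
import Cfsg.Agent.LibTCONW
set_option autoImplicit false
set_option linter.all false
set_option maxRecDepth 1000000
set_option maxHeartbeats 0
namespace CfsgLib.TCON
open CfsgLib.TC Cfsg.Spor CfsgLib.TCG_ON
noncomputable def mini0S : Tr (Fc Col) := (Tr.nd (nat_lit 38) (Tr.nd (nat_lit 19) (Tr.nd (nat_lit 9) (Tr.nd (nat_lit 4) (Tr.nd (nat_lit 2) (Tr.nd (nat_lit 1) (Tr.lf (Fc.ed (nat_lit 0) (nat_lit 0) Col.a (nat_lit 0) (Dv.sb (nat_lit 0) [] [])))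
(Tr.lf (Fc.ed (nat_lit 1) (nat_lit 0) Col.b (nat_lit 0) (Dv.sb (nat_lit 1) [] []))))
(Tr.nd (nat_lit 3) (Tr.lf (Fc.ed (nat_lit 2) (nat_lit 0) Col.c (nat_lit 0) (Dv.sb (nat_lit 2) [] [])))
(Tr.lf (Fc.ed (nat_lit 3) (nat_lit 0) Col.f (nat_lit 0) (Dv.sb (nat_lit 3) [] [])))))
(Tr.nd (nat_lit 6) (Tr.nd (nat_lit 5) (Tr.lf (Fc.ed (nat_lit 4) (nat_lit 0) Col.g (nat_lit 1) Dv.df))
(Tr.lf (Fc.ed (nat_lit 5) (nat_lit 1) Col.g (nat_lit 0) (Dv.wd (nat_lit 4) [Mv.f (nat_lit 0), Mv.f (nat_lit 3), Mv.f (nat_lit 4)]))))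
(Tr.nd (nat_lit 7) (Tr.lf (Fc.ed (nat_lit 6) (nat_lit 1) Col.a (nat_lit 2) Dv.df))
(Tr.nd (nat_lit 8) (Tr.lf (Fc.ed (nat_lit 7) (nat_lit 2) Col.f (nat_lit 1) (Dv.wd (nat_lit 5) [Mv.f (nat_lit 5), Mv.f (nat_lit 4), Mv.f (nat_lit 6)])))
(Tr.lf (Fc.ed (nat_lit 8) (nat_lit 1) Col.b (nat_lit 3) Dv.df))))))
(Tr.nd (nat_lit 14) (Tr.nd (nat_lit 11) (Tr.nd (nat_lit 10) (Tr.lf (Fc.ed (nat_lit 9) (nat_lit 1) Col.c (nat_lit 4) Dv.df))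
(Tr.lf (Fc.ed (nat_lit 10) (nat_lit 2) Col.b (nat_lit 5) Dv.df)))
(Tr.nd (nat_lit 12) (Tr.lf (Fc.ed (nat_lit 11) (nat_lit 5) Col.f (nat_lit 3) (Dv.wd (nat_lit 6) [Mv.b (nat_lit 8), Mv.b (nat_lit 7), Mv.f (nat_lit 10)])))
(Tr.nd (nat_lit 13) (Tr.lf (Fc.ed (nat_lit 12) (nat_lit 2) Col.c (nat_lit 6) Dv.df))
(Tr.lf (Fc.ed (nat_lit 13) (nat_lit 6) Col.a (nat_lit 4) (Dv.wd (nat_lit 7) [Mv.b (nat_lit 9), Mv.f (nat_lit 6), Mv.f (nat_lit 12)]))))))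
(Tr.nd (nat_lit 16) (Tr.nd (nat_lit 15) (Tr.lf (Fc.ed (nat_lit 14) (nat_lit 6) Col.f (nat_lit 4) (Dv.wd (nat_lit 8) [Mv.b (nat_lit 9), Mv.b (nat_lit 7), Mv.f (nat_lit 12)])))
(Tr.lf (Fc.ed (nat_lit 15) (nat_lit 3) Col.c (nat_lit 7) Dv.df)))
(Tr.nd (nat_lit 17) (Tr.lf (Fc.ed (nat_lit 16) (nat_lit 3) Col.g (nat_lit 8) Dv.df))
(Tr.nd (nat_lit 18) (Tr.lf (Fc.ed (nat_lit 17) (nat_lit 3) Col.a (nat_lit 9) Dv.df))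
(Tr.lf (Fc.ed (nat_lit 18) (nat_lit 4) Col.g (nat_lit 10) Dv.df)))))))
(Tr.nd (nat_lit 28) (Tr.nd (nat_lit 23) (Tr.nd (nat_lit 21) (Tr.nd (nat_lit 20) (Tr.lf (Fc.ed (nat_lit 19) (nat_lit 10) Col.g (nat_lit 4) (Dv.wd (nat_lit 4) [Mv.b (nat_lit 13), Mv.f (nat_lit 14), Mv.f (nat_lit 18)])))
(Tr.lf (Fc.ed (nat_lit 20) (nat_lit 4) Col.b (nat_lit 11) Dv.df)))
(Tr.nd (nat_lit 22) (Tr.lf (Fc.ed (nat_lit 21) (nat_lit 5) Col.c (nat_lit 12) Dv.df))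
(Tr.lf (Fc.ed (nat_lit 22) (nat_lit 12) Col.f (nat_lit 7) (Dv.wd (nat_lit 8) [Mv.b (nat_lit 15), Mv.b (nat_lit 11), Mv.f (nat_lit 21)])))))
(Tr.nd (nat_lit 25) (Tr.nd (nat_lit 24) (Tr.lf (Fc.ed (nat_lit 23) (nat_lit 5) Col.gi (nat_lit 13) Dv.df))
(Tr.lf (Fc.ed (nat_lit 24) (nat_lit 5) Col.a (nat_lit 14) Dv.df)))
(Tr.nd (nat_lit 26) (Tr.lf (Fc.ed (nat_lit 25) (nat_lit 14) Col.f (nat_lit 9) (Dv.wd (nat_lit 9) [Mv.b (nat_lit 17), Mv.b (nat_lit 11), Mv.f (nat_lit 24)])))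
(Tr.nd (nat_lit 27) (Tr.lf (Fc.ed (nat_lit 26) (nat_lit 14) Col.gi (nat_lit 8) (Dv.wd (nat_lit 10) [Mv.b (nat_lit 16), Mv.b (nat_lit 11), Mv.f (nat_lit 24)])))
(Tr.lf (Fc.ed (nat_lit 27) (nat_lit 9) Col.g (nat_lit 13) (Dv.wd (nat_lit 11) [Mv.b (nat_lit 23), Mv.f (nat_lit 24), Mv.f (nat_lit 25)])))))))
(Tr.nd (nat_lit 33) (Tr.nd (nat_lit 30) (Tr.nd (nat_lit 29) (Tr.lf (Fc.ed (nat_lit 28) (nat_lit 14) Col.b (nat_lit 9) (Dv.wd (nat_lit 12) [Mv.b (nat_lit 17), Mv.b (nat_lit 8), Mv.f (nat_lit 6), Mv.f (nat_lit 10), Mv.f (nat_lit 24)])))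
(Tr.lf (Fc.ed (nat_lit 29) (nat_lit 6) Col.b (nat_lit 15) Dv.df)))
(Tr.nd (nat_lit 31) (Tr.lf (Fc.ed (nat_lit 30) (nat_lit 15) Col.f (nat_lit 11) (Dv.wd (nat_lit 6) [Mv.b (nat_lit 20), Mv.b (nat_lit 14), Mv.f (nat_lit 29)])))
(Tr.nd (nat_lit 32) (Tr.lf (Fc.ed (nat_lit 31) (nat_lit 7) Col.b (nat_lit 16) Dv.df))
(Tr.lf (Fc.ed (nat_lit 32) (nat_lit 16) Col.c (nat_lit 11) (Dv.wd (nat_lit 13) [Mv.b (nat_lit 20), Mv.b (nat_lit 9), Mv.f (nat_lit 8), Mv.f (nat_lit 15), Mv.f (nat_lit 31)]))))))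
(Tr.nd (nat_lit 35) (Tr.nd (nat_lit 34) (Tr.lf (Fc.ed (nat_lit 33) (nat_lit 7) Col.a (nat_lit 17) Dv.df))
(Tr.lf (Fc.ed (nat_lit 34) (nat_lit 7) Col.g (nat_lit 18) Dv.df)))
(Tr.nd (nat_lit 36) (Tr.lf (Fc.ed (nat_lit 35) (nat_lit 7) Col.gi (nat_lit 19) Dv.df))
(Tr.nd (nat_lit 37) (Tr.lf (Fc.ed (nat_lit 36) (nat_lit 8) Col.b (nat_lit 20) Dv.df))
(Tr.lf (Fc.ed (nat_lit 37) (nat_lit 10) Col.b (nat_lit 21) Dv.df))))))))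
(Tr.nd (nat_lit 57) (Tr.nd (nat_lit 47) (Tr.nd (nat_lit 42) (Tr.nd (nat_lit 40) (Tr.nd (nat_lit 39) (Tr.lf (Fc.ed (nat_lit 38) (nat_lit 21) Col.c (nat_lit 18) (Dv.wd (nat_lit 14) [Mv.b (nat_lit 34), Mv.b (nat_lit 15), Mv.b (nat_lit 8), Mv.b (nat_lit 4), Mv.f (nat_lit 1), Mv.f (nat_lit 2), Mv.b (nat_lit 5), Mv.f (nat_lit 9), Mv.b (nat_lit 19), Mv.f (nat_lit 37)])))
(Tr.lf (Fc.ed (nat_lit 39) (nat_lit 10) Col.c (nat_lit 22) Dv.df)))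
(Tr.nd (nat_lit 41) (Tr.lf (Fc.ed (nat_lit 40) (nat_lit 11) Col.gi (nat_lit 23) Dv.df))
(Tr.lf (Fc.ed (nat_lit 41) (nat_lit 23) Col.b (nat_lit 22) (Dv.wd (nat_lit 15) [Mv.b (nat_lit 39), Mv.b (nat_lit 18), Mv.b (nat_lit 9), Mv.b (nat_lit 4), Mv.f (nat_lit 1), Mv.f (nat_lit 2), Mv.b (nat_lit 5), Mv.f (nat_lit 9), Mv.f (nat_lit 20), Mv.f (nat_lit 40)])))))
(Tr.nd (nat_lit 44) (Tr.nd (nat_lit 43) (Tr.lf (Fc.ed (nat_lit 42) (nat_lit 11) Col.a (nat_lit 24) Dv.df))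
(Tr.lf (Fc.ed (nat_lit 43) (nat_lit 11) Col.g (nat_lit 25) Dv.df)))
(Tr.nd (nat_lit 45) (Tr.lf (Fc.ed (nat_lit 44) (nat_lit 25) Col.c (nat_lit 19) (Dv.wd (nat_lit 16) [Mv.b (nat_lit 35), Mv.b (nat_lit 15), Mv.b (nat_lit 8), Mv.f (nat_lit 5), Mv.f (nat_lit 1), Mv.f (nat_lit 2), Mv.f (nat_lit 4), Mv.f (nat_lit 9), Mv.f (nat_lit 20), Mv.f (nat_lit 43)])))
(Tr.nd (nat_lit 46) (Tr.lf (Fc.ed (nat_lit 45) (nat_lit 25) Col.b (nat_lit 25) (Dv.wd (nat_lit 17) [Mv.b (nat_lit 43), Mv.b (nat_lit 20), Mv.b (nat_lit 9), Mv.b (nat_lit 4), Mv.f (nat_lit 2), Mv.b (nat_lit 5), Mv.f (nat_lit 8), Mv.f (nat_lit 15), Mv.f (nat_lit 35), Mv.b (nat_lit 44)])))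
(Tr.lf (Fc.ed (nat_lit 46) (nat_lit 12) Col.b (nat_lit 26) Dv.df))))))
(Tr.nd (nat_lit 52) (Tr.nd (nat_lit 49) (Tr.nd (nat_lit 48) (Tr.lf (Fc.ed (nat_lit 47) (nat_lit 26) Col.f (nat_lit 16) (Dv.wd (nat_lit 6) [Mv.b (nat_lit 31), Mv.b (nat_lit 22), Mv.f (nat_lit 46)])))
(Tr.lf (Fc.ed (nat_lit 48) (nat_lit 12) Col.a (nat_lit 27) Dv.df)))
(Tr.nd (nat_lit 50) (Tr.lf (Fc.ed (nat_lit 49) (nat_lit 27) Col.c (nat_lit 14) (Dv.wd (nat_lit 18) [Mv.b (nat_lit 24), Mv.f (nat_lit 21), Mv.f (nat_lit 48)])))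
(Tr.nd (nat_lit 51) (Tr.lf (Fc.ed (nat_lit 50) (nat_lit 27) Col.f (nat_lit 17) (Dv.wd (nat_lit 9) [Mv.b (nat_lit 33), Mv.b (nat_lit 22), Mv.f (nat_lit 48)])))
(Tr.lf (Fc.ed (nat_lit 51) (nat_lit 27) Col.gi (nat_lit 18) (Dv.wd (nat_lit 10) [Mv.b (nat_lit 34), Mv.b (nat_lit 22), Mv.f (nat_lit 48)]))))))
(Tr.nd (nat_lit 54) (Tr.nd (nat_lit 53) (Tr.lf (Fc.ed (nat_lit 52) (nat_lit 19) Col.gi (nat_lit 27) (Dv.wd (nat_lit 19) [Mv.f (nat_lit 50), Mv.b (nat_lit 33), Mv.f (nat_lit 35)])))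
(Tr.lf (Fc.ed (nat_lit 53) (nat_lit 13) Col.b (nat_lit 28) Dv.df)))
(Tr.nd (nat_lit 55) (Tr.lf (Fc.ed (nat_lit 54) (nat_lit 13) Col.c (nat_lit 29) Dv.df))
(Tr.nd (nat_lit 56) (Tr.lf (Fc.ed (nat_lit 55) (nat_lit 29) Col.g (nat_lit 16) (Dv.wd (nat_lit 20) [Mv.f (nat_lit 32), Mv.b (nat_lit 20), Mv.f (nat_lit 18), Mv.f (nat_lit 37), Mv.f (nat_lit 38), Mv.b (nat_lit 51), Mv.f (nat_lit 49), Mv.f (nat_lit 28), Mv.f (nat_lit 27), Mv.f (nat_lit 54)])))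
(Tr.lf (Fc.ed (nat_lit 56) (nat_lit 15) Col.a (nat_lit 30) Dv.df)))))))
(Tr.nd (nat_lit 66) (Tr.nd (nat_lit 61) (Tr.nd (nat_lit 59) (Tr.nd (nat_lit 58) (Tr.lf (Fc.ed (nat_lit 57) (nat_lit 30) Col.gi (nat_lit 25) (Dv.wd (nat_lit 10) [Mv.b (nat_lit 43), Mv.b (nat_lit 30), Mv.f (nat_lit 56)])))
(Tr.lf (Fc.ed (nat_lit 58) (nat_lit 30) Col.b (nat_lit 24) (Dv.wd (nat_lit 12) [Mv.b (nat_lit 42), Mv.b (nat_lit 20), Mv.b (nat_lit 13), Mv.f (nat_lit 29), Mv.f (nat_lit 56)]))))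
(Tr.nd (nat_lit 60) (Tr.lf (Fc.ed (nat_lit 59) (nat_lit 16) Col.a (nat_lit 31) Dv.df))
(Tr.lf (Fc.ed (nat_lit 60) (nat_lit 31) Col.c (nat_lit 24) (Dv.wd (nat_lit 18) [Mv.b (nat_lit 42), Mv.b (nat_lit 32), Mv.f (nat_lit 59)])))))
(Tr.nd (nat_lit 63) (Tr.nd (nat_lit 62) (Tr.lf (Fc.ed (nat_lit 61) (nat_lit 18) Col.b (nat_lit 32) Dv.df))
(Tr.lf (Fc.ed (nat_lit 62) (nat_lit 32) Col.c (nat_lit 23) (Dv.wd (nat_lit 13) [Mv.f (nat_lit 41), Mv.b (nat_lit 39), Mv.f (nat_lit 37), Mv.f (nat_lit 38), Mv.f (nat_lit 61)]))))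
(Tr.nd (nat_lit 64) (Tr.lf (Fc.al (nat_lit 63) (nat_lit 21) (nat_lit 23) (Dv.wd (nat_lit 20) [Mv.b (nat_lit 40), Mv.b (nat_lit 32), Mv.b (nat_lit 31), Mv.f (nat_lit 34), Mv.f (nat_lit 61), Mv.f (nat_lit 62), Mv.b (nat_lit 40), Mv.b (nat_lit 32), Mv.b (nat_lit 31), Mv.f (nat_lit 34), Mv.b (nat_lit 38)])))
(Tr.nd (nat_lit 65) (Tr.lf (Fc.al (nat_lit 64) (nat_lit 10) (nat_lit 22) (Dv.wd (nat_lit 21) [Mv.b (nat_lit 41), Mv.b (nat_lit 63), Mv.b (nat_lit 37)])))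
(Tr.lf (Fc.ed (nat_lit 65) (nat_lit 10) Col.c (nat_lit 10) (Dv.wd (nat_lit 22) [Mv.f (nat_lit 39), Mv.b (nat_lit 64)])))))))
(Tr.nd (nat_lit 71) (Tr.nd (nat_lit 68) (Tr.nd (nat_lit 67) (Tr.lf (Fc.al (nat_lit 66) (nat_lit 20) (nat_lit 13) (Dv.wd (nat_lit 23) [Mv.f (nat_lit 54), Mv.f (nat_lit 55), Mv.f (nat_lit 32), Mv.b (nat_lit 20), Mv.f (nat_lit 18), Mv.f (nat_lit 65), Mv.f (nat_lit 19), Mv.b (nat_lit 9), Mv.f (nat_lit 8), Mv.f (nat_lit 16), Mv.f (nat_lit 36)])))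
(Tr.lf (Fc.al (nat_lit 67) (nat_lit 28) (nat_lit 8) (Dv.wd (nat_lit 21) [Mv.f (nat_lit 36), Mv.f (nat_lit 66), Mv.f (nat_lit 53)]))))
(Tr.nd (nat_lit 69) (Tr.lf (Fc.ed (nat_lit 68) (nat_lit 8) Col.b (nat_lit 13) (Dv.wd (nat_lit 21) [Mv.f (nat_lit 53), Mv.f (nat_lit 67)])))
(Tr.nd (nat_lit 70) (Tr.lf (Fc.ed (nat_lit 69) (nat_lit 29) Col.gi (nat_lit 31) (Dv.wd (nat_lit 24) [Mv.f (nat_lit 60), Mv.b (nat_lit 58), Mv.f (nat_lit 57), Mv.f (nat_lit 45), Mv.f (nat_lit 44), Mv.f (nat_lit 52), Mv.f (nat_lit 49), Mv.f (nat_lit 26), Mv.f (nat_lit 68), Mv.f (nat_lit 54)])))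
(Tr.lf (Fc.ed (nat_lit 70) (nat_lit 31) Col.f (nat_lit 31) (Dv.wd (nat_lit 25) [Mv.b (nat_lit 59), Mv.b (nat_lit 55), Mv.f (nat_lit 69)]))))))
(Tr.nd (nat_lit 73) (Tr.nd (nat_lit 72) (Tr.lf (Fc.al (nat_lit 71) (nat_lit 26) (nat_lit 16) (Dv.wd (nat_lit 26) [Mv.f (nat_lit 59), Mv.f (nat_lit 70), Mv.b (nat_lit 59), Mv.b (nat_lit 47)])))
(Tr.lf (Fc.al (nat_lit 72) (nat_lit 7) (nat_lit 12) (Dv.wd (nat_lit 21) [Mv.f (nat_lit 46), Mv.f (nat_lit 71), Mv.b (nat_lit 31)]))))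
(Tr.nd (nat_lit 74) (Tr.lf (Fc.al (nat_lit 73) (nat_lit 3) (nat_lit 5) (Dv.wd (nat_lit 22) [Mv.f (nat_lit 21), Mv.b (nat_lit 72), Mv.b (nat_lit 15)])))
(Tr.nd (nat_lit 75) (Tr.lf (Fc.al (nat_lit 74) (nat_lit 1) (nat_lit 2) (Dv.wd (nat_lit 21) [Mv.f (nat_lit 10), Mv.b (nat_lit 73), Mv.b (nat_lit 8)])))
(Tr.lf (Fc.ed (nat_lit 75) (nat_lit 1) Col.a (nat_lit 1) (Dv.wd (nat_lit 27) [Mv.f (nat_lit 6), Mv.b (nat_lit 74)]))))))))))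
noncomputable def mini0A : Tr (Alt Col) := (Tr.nd (nat_lit 14) (Tr.nd (nat_lit 7) (Tr.nd (nat_lit 3) (Tr.nd (nat_lit 1) (Tr.lf (Alt.base (nat_lit 0) [] [Col.a]))
(Tr.nd (nat_lit 2) (Tr.lf (Alt.base (nat_lit 1) [] [Col.b]))
(Tr.lf (Alt.base (nat_lit 2) [] [Col.c]))))
(Tr.nd (nat_lit 5) (Tr.nd (nat_lit 4) (Tr.lf (Alt.base (nat_lit 5) [] [Col.f]))
(Tr.lf (Alt.word (nat_lit 21) (nat_lit 3) false [Col.g, Col.a, Col.f, Col.g])))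
(Tr.nd (nat_lit 6) (Tr.lf (Alt.word (nat_lit 21) (nat_lit 1) false [Col.f, Col.g, Col.g, Col.a]))
(Tr.lf (Alt.word (nat_lit 10) (nat_lit 2) true [Col.f, Col.b, Col.f, Col.b])))))
(Tr.nd (nat_lit 10) (Tr.nd (nat_lit 8) (Tr.lf (Alt.word (nat_lit 2) (nat_lit 1) true [Col.a, Col.c, Col.a, Col.c]))
(Tr.nd (nat_lit 9) (Tr.lf (Alt.word (nat_lit 14) (nat_lit 2) true [Col.f, Col.c, Col.f, Col.c]))
(Tr.lf (Alt.word (nat_lit 5) (nat_lit 2) true [Col.f, Col.a, Col.f, Col.a]))))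
(Tr.nd (nat_lit 12) (Tr.nd (nat_lit 11) (Tr.lf (Alt.word (nat_lit 21) (nat_lit 0) true [Col.gi, Col.gi, Col.f, Col.a]))
(Tr.lf (Alt.word (nat_lit 21) (nat_lit 2) false [Col.g, Col.g, Col.a, Col.f])))
(Tr.nd (nat_lit 13) (Tr.lf (Alt.word (nat_lit 1) (nat_lit 2) true [Col.b, Col.a, Col.b, Col.a, Col.b, Col.a]))
(Tr.lf (Alt.word (nat_lit 7) (nat_lit 2) true [Col.c, Col.b, Col.c, Col.b, Col.c, Col.b]))))))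
(Tr.nd (nat_lit 21) (Tr.nd (nat_lit 17) (Tr.nd (nat_lit 15) (Tr.lf (Alt.word (nat_lit 26) (nat_lit 2) false [Col.c, Col.gi, Col.c, Col.b, Col.gi, Col.b, Col.c, Col.gi, Col.c, Col.gi, Col.b]))
(Tr.nd (nat_lit 16) (Tr.lf (Alt.word (nat_lit 26) (nat_lit 7) false [Col.b, Col.c, Col.gi, Col.c, Col.gi, Col.b, Col.c, Col.gi, Col.c, Col.b, Col.gi]))
(Tr.lf (Alt.word (nat_lit 26) (nat_lit 0) true [Col.c, Col.g, Col.c, Col.b, Col.g, Col.b, Col.c, Col.g, Col.c, Col.b, Col.g]))))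
(Tr.nd (nat_lit 19) (Tr.nd (nat_lit 18) (Tr.lf (Alt.word (nat_lit 26) (nat_lit 5) false [Col.b, Col.gi, Col.b, Col.c, Col.gi, Col.c, Col.gi, Col.b, Col.c, Col.gi, Col.c]))
(Tr.lf (Alt.word (nat_lit 2) (nat_lit 2) true [Col.c, Col.a, Col.c, Col.a])))
(Tr.nd (nat_lit 20) (Tr.lf (Alt.word (nat_lit 21) (nat_lit 1) true [Col.gi, Col.f, Col.a, Col.gi]))
(Tr.lf (Alt.word (nat_lit 26) (nat_lit 1) true [Col.g, Col.c, Col.b, Col.g, Col.b, Col.c, Col.g, Col.c, Col.b, Col.g, Col.c])))))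
(Tr.nd (nat_lit 24) (Tr.nd (nat_lit 22) (Tr.lf (Alt.word (nat_lit 6) (nat_lit 0) true [Col.b, Col.b]))
(Tr.nd (nat_lit 23) (Tr.lf (Alt.word (nat_lit 11) (nat_lit 0) true [Col.c, Col.c]))
(Tr.lf (Alt.word (nat_lit 26) (nat_lit 6) true [Col.c, Col.g, Col.c, Col.b, Col.g, Col.c, Col.g, Col.c, Col.b, Col.g, Col.b]))))
(Tr.nd (nat_lit 26) (Tr.nd (nat_lit 25) (Tr.lf (Alt.word (nat_lit 26) (nat_lit 3) false [Col.gi, Col.c, Col.b, Col.gi, Col.b, Col.c, Col.gi, Col.c, Col.gi, Col.b, Col.c]))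
(Tr.lf (Alt.word (nat_lit 21) (nat_lit 2) true [Col.f, Col.a, Col.gi, Col.gi])))
(Tr.nd (nat_lit 27) (Tr.lf (Alt.word (nat_lit 5) (nat_lit 3) true [Col.a, Col.f, Col.a, Col.f]))
(Tr.lf (Alt.word (nat_lit 0) (nat_lit 0) true [Col.a, Col.a])))))))
noncomputable def mini0P : Tr ℕ := (Tr.nd (nat_lit 16) (Tr.nd (nat_lit 8) (Tr.nd (nat_lit 4) (Tr.nd (nat_lit 2) (Tr.nd (nat_lit 1) (Tr.lf (nat_lit 0))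
(Tr.lf (nat_lit 0)))
(Tr.nd (nat_lit 3) (Tr.lf (nat_lit 1))
(Tr.lf (nat_lit 1))))
(Tr.nd (nat_lit 6) (Tr.nd (nat_lit 5) (Tr.lf (nat_lit 1))
(Tr.lf (nat_lit 2)))
(Tr.nd (nat_lit 7) (Tr.lf (nat_lit 2))
(Tr.lf (nat_lit 3)))))
(Tr.nd (nat_lit 12) (Tr.nd (nat_lit 10) (Tr.nd (nat_lit 9) (Tr.lf (nat_lit 3))
(Tr.lf (nat_lit 3)))
(Tr.nd (nat_lit 11) (Tr.lf (nat_lit 4))
(Tr.lf (nat_lit 4))))
(Tr.nd (nat_lit 14) (Tr.nd (nat_lit 13) (Tr.lf (nat_lit 5))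
(Tr.lf (nat_lit 5)))
(Tr.nd (nat_lit 15) (Tr.lf (nat_lit 5))
(Tr.lf (nat_lit 6))))))
(Tr.nd (nat_lit 24) (Tr.nd (nat_lit 20) (Tr.nd (nat_lit 18) (Tr.nd (nat_lit 17) (Tr.lf (nat_lit 7))
(Tr.lf (nat_lit 7)))
(Tr.nd (nat_lit 19) (Tr.lf (nat_lit 7))
(Tr.lf (nat_lit 7))))
(Tr.nd (nat_lit 22) (Tr.nd (nat_lit 21) (Tr.lf (nat_lit 8))
(Tr.lf (nat_lit 10)))
(Tr.nd (nat_lit 23) (Tr.lf (nat_lit 10))
(Tr.lf (nat_lit 11)))))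
(Tr.nd (nat_lit 28) (Tr.nd (nat_lit 26) (Tr.nd (nat_lit 25) (Tr.lf (nat_lit 11))
(Tr.lf (nat_lit 11)))
(Tr.nd (nat_lit 27) (Tr.lf (nat_lit 12))
(Tr.lf (nat_lit 12))))
(Tr.nd (nat_lit 30) (Tr.nd (nat_lit 29) (Tr.lf (nat_lit 13))
(Tr.lf (nat_lit 13)))
(Tr.nd (nat_lit 31) (Tr.lf (nat_lit 15))
(Tr.nd (nat_lit 32) (Tr.lf (nat_lit 16))
(Tr.lf (nat_lit 18))))))))
noncomputable def mini0Q : Tr ℕ := (Tr.nd (nat_lit 16) (Tr.nd (nat_lit 8) (Tr.nd (nat_lit 4) (Tr.nd (nat_lit 2) (Tr.nd (nat_lit 1) (Tr.lf (nat_lit 0))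
(Tr.lf (nat_lit 0)))
(Tr.nd (nat_lit 3) (Tr.lf (nat_lit 2))
(Tr.lf (nat_lit 3))))
(Tr.nd (nat_lit 6) (Tr.nd (nat_lit 5) (Tr.lf (nat_lit 4))
(Tr.lf (nat_lit 3)))
(Tr.nd (nat_lit 7) (Tr.lf (nat_lit 4))
(Tr.lf (nat_lit 4)))))
(Tr.nd (nat_lit 12) (Tr.nd (nat_lit 10) (Tr.nd (nat_lit 9) (Tr.lf (nat_lit 0))
(Tr.lf (nat_lit 2)))
(Tr.nd (nat_lit 11) (Tr.lf (nat_lit 0))
(Tr.lf (nat_lit 3))))
(Tr.nd (nat_lit 14) (Tr.nd (nat_lit 13) (Tr.lf (nat_lit 4))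
(Tr.lf (nat_lit 1)))
(Tr.nd (nat_lit 15) (Tr.lf (nat_lit 2))
(Tr.lf (nat_lit 3))))))
(Tr.nd (nat_lit 24) (Tr.nd (nat_lit 20) (Tr.nd (nat_lit 18) (Tr.nd (nat_lit 17) (Tr.lf (nat_lit 3))
(Tr.lf (nat_lit 2)))
(Tr.nd (nat_lit 19) (Tr.lf (nat_lit 0))
(Tr.lf (nat_lit 1))))
(Tr.nd (nat_lit 22) (Tr.nd (nat_lit 21) (Tr.lf (nat_lit 3))
(Tr.lf (nat_lit 3)))
(Tr.nd (nat_lit 23) (Tr.lf (nat_lit 4))
(Tr.lf (nat_lit 1)))))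
(Tr.nd (nat_lit 28) (Tr.nd (nat_lit 26) (Tr.nd (nat_lit 25) (Tr.lf (nat_lit 2))
(Tr.lf (nat_lit 0)))
(Tr.nd (nat_lit 27) (Tr.lf (nat_lit 3))
(Tr.lf (nat_lit 2))))
(Tr.nd (nat_lit 30) (Tr.nd (nat_lit 29) (Tr.lf (nat_lit 3))
(Tr.lf (nat_lit 4)))
(Tr.nd (nat_lit 31) (Tr.lf (nat_lit 2))
(Tr.nd (nat_lit 32) (Tr.lf (nat_lit 2))
(Tr.lf (nat_lit 3))))))))
theorem mini0_alt : Tr.all (altChk idx inv RW (SW0)) mini0A = true := by decide +kernel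
theorem mini0_chk : Tr.all (chkFc idx inv mini0S mini0A (fun b => Tr.find b mini0P) (fun b => Tr.find b mini0Q)) mini0S = true := by decide +kernel
theorem mini0_run : runM idx inv mini0S 76 0 [Mv.f (nat_lit 4), Mv.f (nat_lit 75), Mv.b (nat_lit 4)] [Col.g, Col.a, Col.gi] 0 = true := by decide +kernel
theorem mini0_fix {G X : Type*} [Group G] [MulAction G X] (g : Col → G) (x0 : X) (hinv : ∀ c, g (inv c) = (g c)⁻¹)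
    (hRW : ∀ w ∈ RW, gw g w = 1) (hSW : ∀ w ∈ SW0, gw g w • x0 = x0) : gw g [Col.g, Col.a, Col.gi] • x0 = x0 :=
  mini_sound g x0 dec hdec hinv
    (fun a ha => altChk_sound g x0 dec hdec hinv hRW hSW ((Tr.all_iff _ _).1 mini0_alt a ha)) mini0_chk mini0_run
noncomputable def mini1S : Tr (Fc Col) := (Tr.nd (nat_lit 18) (Tr.nd (nat_lit 9) (Tr.nd (nat_lit 4) (Tr.nd (nat_lit 2) (Tr.nd (nat_lit 1) (Tr.lf (Fc.ed (nat_lit 0) (nat_lit 0) Col.a (nat_lit 0) (Dv.sb (nat_lit 0) [] [])))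
(Tr.lf (Fc.ed (nat_lit 1) (nat_lit 0) Col.d (nat_lit 0) (Dv.sb (nat_lit 1) [] []))))
(Tr.nd (nat_lit 3) (Tr.lf (Fc.ed (nat_lit 2) (nat_lit 0) Col.e (nat_lit 0) (Dv.sb (nat_lit 2) [] [])))
(Tr.lf (Fc.ed (nat_lit 3) (nat_lit 0) Col.f (nat_lit 0) (Dv.sb (nat_lit 3) [] [])))))
(Tr.nd (nat_lit 6) (Tr.nd (nat_lit 5) (Tr.lf (Fc.ed (nat_lit 4) (nat_lit 0) Col.g (nat_lit 1) Dv.df))
(Tr.lf (Fc.ed (nat_lit 5) (nat_lit 1) Col.a (nat_lit 1) (Dv.sb (nat_lit 4) [Mv.f (nat_lit 4)] [Mv.b (nat_lit 4)]))))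
(Tr.nd (nat_lit 7) (Tr.lf (Fc.ed (nat_lit 6) (nat_lit 1) Col.g (nat_lit 0) (Dv.wd (nat_lit 5) [Mv.f (nat_lit 0), Mv.f (nat_lit 3), Mv.f (nat_lit 4)])))
(Tr.nd (nat_lit 8) (Tr.lf (Fc.ed (nat_lit 7) (nat_lit 1) Col.f (nat_lit 1) (Dv.wd (nat_lit 6) [Mv.f (nat_lit 6), Mv.f (nat_lit 4), Mv.f (nat_lit 5)])))
(Tr.lf (Fc.ed (nat_lit 8) (nat_lit 1) Col.d (nat_lit 2) Dv.df))))))
(Tr.nd (nat_lit 13) (Tr.nd (nat_lit 11) (Tr.nd (nat_lit 10) (Tr.lf (Fc.ed (nat_lit 9) (nat_lit 2) Col.a (nat_lit 2) (Dv.wd (nat_lit 7) [Mv.b (nat_lit 8), Mv.f (nat_lit 5), Mv.f (nat_lit 8)])))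
(Tr.lf (Fc.ed (nat_lit 10) (nat_lit 2) Col.f (nat_lit 2) (Dv.wd (nat_lit 8) [Mv.b (nat_lit 8), Mv.f (nat_lit 7), Mv.f (nat_lit 8)]))))
(Tr.nd (nat_lit 12) (Tr.lf (Fc.ed (nat_lit 11) (nat_lit 2) Col.g (nat_lit 3) Dv.df))
(Tr.lf (Fc.ed (nat_lit 12) (nat_lit 3) Col.g (nat_lit 2) (Dv.wd (nat_lit 5) [Mv.f (nat_lit 9), Mv.f (nat_lit 10), Mv.f (nat_lit 11)])))))
(Tr.nd (nat_lit 15) (Tr.nd (nat_lit 14) (Tr.lf (Fc.ed (nat_lit 13) (nat_lit 3) Col.a (nat_lit 4) Dv.df))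
(Tr.lf (Fc.ed (nat_lit 14) (nat_lit 4) Col.f (nat_lit 3) (Dv.wd (nat_lit 6) [Mv.f (nat_lit 12), Mv.f (nat_lit 11), Mv.f (nat_lit 13)]))))
(Tr.nd (nat_lit 16) (Tr.lf (Fc.ed (nat_lit 15) (nat_lit 4) Col.e (nat_lit 5) Dv.df))
(Tr.nd (nat_lit 17) (Tr.lf (Fc.ed (nat_lit 16) (nat_lit 2) Col.e (nat_lit 6) Dv.df))
(Tr.lf (Fc.ed (nat_lit 17) (nat_lit 1) Col.e (nat_lit 7) Dv.df)))))))
(Tr.nd (nat_lit 27) (Tr.nd (nat_lit 22) (Tr.nd (nat_lit 20) (Tr.nd (nat_lit 19) (Tr.lf (Fc.ed (nat_lit 18) (nat_lit 3) Col.e (nat_lit 8) Dv.df))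
(Tr.lf (Fc.ed (nat_lit 19) (nat_lit 8) Col.a (nat_lit 5) (Dv.wd (nat_lit 9) [Mv.b (nat_lit 15), Mv.b (nat_lit 13), Mv.f (nat_lit 18)]))))
(Tr.nd (nat_lit 21) (Tr.lf (Fc.ed (nat_lit 20) (nat_lit 5) Col.d (nat_lit 9) Dv.df))
(Tr.lf (Fc.ed (nat_lit 21) (nat_lit 6) Col.g (nat_lit 10) Dv.df))))
(Tr.nd (nat_lit 24) (Tr.nd (nat_lit 23) (Tr.lf (Fc.ed (nat_lit 22) (nat_lit 7) Col.d (nat_lit 11) Dv.df))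
(Tr.lf (Fc.ed (nat_lit 23) (nat_lit 8) Col.d (nat_lit 12) Dv.df)))
(Tr.nd (nat_lit 25) (Tr.lf (Fc.ed (nat_lit 24) (nat_lit 12) Col.a (nat_lit 9) (Dv.wd (nat_lit 7) [Mv.b (nat_lit 20), Mv.b (nat_lit 19), Mv.f (nat_lit 23)])))
(Tr.nd (nat_lit 26) (Tr.lf (Fc.ed (nat_lit 25) (nat_lit 12) Col.gi (nat_lit 11) (Dv.wd (nat_lit 10) [Mv.b (nat_lit 22), Mv.b (nat_lit 17), Mv.b (nat_lit 4), Mv.f (nat_lit 2), Mv.f (nat_lit 1), Mv.b (nat_lit 6), Mv.f (nat_lit 8), Mv.b (nat_lit 12), Mv.f (nat_lit 18), Mv.f (nat_lit 23)])))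
(Tr.lf (Fc.ed (nat_lit 26) (nat_lit 5) Col.f (nat_lit 13) Dv.df))))))
(Tr.nd (nat_lit 32) (Tr.nd (nat_lit 29) (Tr.nd (nat_lit 28) (Tr.lf (Fc.ed (nat_lit 27) (nat_lit 9) Col.f (nat_lit 14) Dv.df))
(Tr.lf (Fc.ed (nat_lit 28) (nat_lit 14) Col.d (nat_lit 13) (Dv.wd (nat_lit 11) [Mv.b (nat_lit 26), Mv.f (nat_lit 20), Mv.f (nat_lit 27)]))))
(Tr.nd (nat_lit 30) (Tr.lf (Fc.ed (nat_lit 29) (nat_lit 14) Col.g (nat_lit 11) (Dv.wd (nat_lit 12) [Mv.b (nat_lit 25), Mv.f (nat_lit 24), Mv.f (nat_lit 27)])))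
(Tr.nd (nat_lit 31) (Tr.lf (Fc.al (nat_lit 30) (nat_lit 10) (nat_lit 13) (Dv.wd (nat_lit 13) [Mv.b (nat_lit 28), Mv.f (nat_lit 29), Mv.b (nat_lit 22), Mv.b (nat_lit 17), Mv.f (nat_lit 6), Mv.f (nat_lit 2), Mv.f (nat_lit 1), Mv.f (nat_lit 4), Mv.f (nat_lit 8), Mv.f (nat_lit 16), Mv.f (nat_lit 21)])))
(Tr.lf (Fc.ed (nat_lit 31) (nat_lit 10) Col.d (nat_lit 14) (Dv.wd (nat_lit 14) [Mv.f (nat_lit 28), Mv.b (nat_lit 30)]))))))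
(Tr.nd (nat_lit 34) (Tr.nd (nat_lit 33) (Tr.lf (Fc.ed (nat_lit 32) (nat_lit 10) Col.f (nat_lit 5) (Dv.wd (nat_lit 15) [Mv.f (nat_lit 26), Mv.b (nat_lit 30)])))
(Tr.lf (Fc.ed (nat_lit 33) (nat_lit 10) Col.e (nat_lit 10) (Dv.wd (nat_lit 16) [Mv.f (nat_lit 31), Mv.f (nat_lit 29), Mv.b (nat_lit 22), Mv.b (nat_lit 17), Mv.f (nat_lit 6), Mv.f (nat_lit 1), Mv.f (nat_lit 4), Mv.f (nat_lit 8), Mv.f (nat_lit 16), Mv.f (nat_lit 21)]))))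
(Tr.nd (nat_lit 35) (Tr.lf (Fc.al (nat_lit 34) (nat_lit 8) (nat_lit 5) (Dv.wd (nat_lit 17) [Mv.b (nat_lit 32), Mv.f (nat_lit 33), Mv.f (nat_lit 32), Mv.b (nat_lit 15), Mv.f (nat_lit 14), Mv.f (nat_lit 18)])))
(Tr.nd (nat_lit 36) (Tr.lf (Fc.al (nat_lit 35) (nat_lit 4) (nat_lit 3) (Dv.wd (nat_lit 18) [Mv.f (nat_lit 18), Mv.f (nat_lit 34), Mv.b (nat_lit 15)])))
(Tr.lf (Fc.ed (nat_lit 36) (nat_lit 3) Col.a (nat_lit 3) (Dv.wd (nat_lit 19) [Mv.f (nat_lit 13), Mv.f (nat_lit 35)])))))))))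
noncomputable def mini1A : Tr (Alt Col) := (Tr.nd (nat_lit 10) (Tr.nd (nat_lit 5) (Tr.nd (nat_lit 2) (Tr.nd (nat_lit 1) (Tr.lf (Alt.base (nat_lit 0) [] [Col.a]))
(Tr.lf (Alt.base (nat_lit 3) [] [Col.d])))
(Tr.nd (nat_lit 3) (Tr.lf (Alt.base (nat_lit 4) [] [Col.e]))
(Tr.nd (nat_lit 4) (Tr.lf (Alt.base (nat_lit 5) [] [Col.f]))
(Tr.lf (Alt.base (nat_lit 6) [Col.g] [Col.a, Col.gi])))))
(Tr.nd (nat_lit 7) (Tr.nd (nat_lit 6) (Tr.lf (Alt.word (nat_lit 21) (nat_lit 3) false [Col.g, Col.a, Col.f, Col.g]))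
(Tr.lf (Alt.word (nat_lit 21) (nat_lit 1) false [Col.f, Col.g, Col.g, Col.a])))
(Tr.nd (nat_lit 8) (Tr.lf (Alt.word (nat_lit 3) (nat_lit 1) true [Col.a, Col.d, Col.a, Col.d]))
(Tr.nd (nat_lit 9) (Tr.lf (Alt.word (nat_lit 17) (nat_lit 2) true [Col.f, Col.d, Col.f, Col.d]))
(Tr.lf (Alt.word (nat_lit 4) (nat_lit 1) true [Col.a, Col.e, Col.a, Col.e]))))))
(Tr.nd (nat_lit 15) (Tr.nd (nat_lit 12) (Tr.nd (nat_lit 11) (Tr.lf (Alt.word (nat_lit 27) (nat_lit 3) false [Col.gi, Col.d, Col.e, Col.gi, Col.e, Col.d, Col.gi, Col.d, Col.gi, Col.e, Col.d]))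
(Tr.lf (Alt.word (nat_lit 17) (nat_lit 1) true [Col.d, Col.f, Col.d, Col.f])))
(Tr.nd (nat_lit 13) (Tr.lf (Alt.word (nat_lit 21) (nat_lit 2) false [Col.g, Col.g, Col.a, Col.f]))
(Tr.nd (nat_lit 14) (Tr.lf (Alt.word (nat_lit 27) (nat_lit 0) true [Col.d, Col.g, Col.d, Col.e, Col.g, Col.e, Col.d, Col.g, Col.d, Col.e, Col.g]))
(Tr.lf (Alt.word (nat_lit 15) (nat_lit 0) true [Col.d, Col.d])))))
(Tr.nd (nat_lit 17) (Tr.nd (nat_lit 16) (Tr.lf (Alt.word (nat_lit 20) (nat_lit 0) true [Col.f, Col.f]))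
(Tr.lf (Alt.word (nat_lit 27) (nat_lit 5) true [Col.e, Col.d, Col.g, Col.d, Col.e, Col.g, Col.d, Col.g, Col.d, Col.e, Col.g])))
(Tr.nd (nat_lit 18) (Tr.lf (Alt.word (nat_lit 19) (nat_lit 0) true [Col.f, Col.e, Col.f, Col.e, Col.f, Col.e]))
(Tr.nd (nat_lit 19) (Tr.lf (Alt.word (nat_lit 18) (nat_lit 0) true [Col.e, Col.e]))
(Tr.lf (Alt.word (nat_lit 0) (nat_lit 0) true [Col.a, Col.a])))))))
noncomputable def mini1P : Tr ℕ := (Tr.nd (nat_lit 7) (Tr.nd (nat_lit 3) (Tr.nd (nat_lit 1) (Tr.lf (nat_lit 0))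
(Tr.nd (nat_lit 2) (Tr.lf (nat_lit 0))
(Tr.lf (nat_lit 1))))
(Tr.nd (nat_lit 5) (Tr.nd (nat_lit 4) (Tr.lf (nat_lit 2))
(Tr.lf (nat_lit 3)))
(Tr.nd (nat_lit 6) (Tr.lf (nat_lit 4))
(Tr.lf (nat_lit 2)))))
(Tr.nd (nat_lit 11) (Tr.nd (nat_lit 9) (Tr.nd (nat_lit 8) (Tr.lf (nat_lit 1))
(Tr.lf (nat_lit 3)))
(Tr.nd (nat_lit 10) (Tr.lf (nat_lit 5))
(Tr.lf (nat_lit 6))))
(Tr.nd (nat_lit 13) (Tr.nd (nat_lit 12) (Tr.lf (nat_lit 7))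
(Tr.lf (nat_lit 8)))
(Tr.nd (nat_lit 14) (Tr.lf (nat_lit 5))
(Tr.lf (nat_lit 9))))))
noncomputable def mini1Q : Tr ℕ := (Tr.nd (nat_lit 7) (Tr.nd (nat_lit 3) (Tr.nd (nat_lit 1) (Tr.lf (nat_lit 0))
(Tr.nd (nat_lit 2) (Tr.lf (nat_lit 0))
(Tr.lf (nat_lit 5))))
(Tr.nd (nat_lit 5) (Tr.nd (nat_lit 4) (Tr.lf (nat_lit 0))
(Tr.lf (nat_lit 2)))
(Tr.nd (nat_lit 6) (Tr.lf (nat_lit 6))
(Tr.lf (nat_lit 6)))))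
(Tr.nd (nat_lit 11) (Tr.nd (nat_lit 9) (Tr.nd (nat_lit 8) (Tr.lf (nat_lit 6))
(Tr.lf (nat_lit 6)))
(Tr.nd (nat_lit 10) (Tr.lf (nat_lit 5))
(Tr.lf (nat_lit 0))))
(Tr.nd (nat_lit 13) (Tr.nd (nat_lit 12) (Tr.lf (nat_lit 5))
(Tr.lf (nat_lit 5)))
(Tr.nd (nat_lit 14) (Tr.lf (nat_lit 7))
(Tr.lf (nat_lit 7))))))
theorem mini1_alt : Tr.all (altChk idx inv RW (SW1)) mini1A = true := by decide +kernel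
theorem mini1_chk : Tr.all (chkFc idx inv mini1S mini1A (fun b => Tr.find b mini1P) (fun b => Tr.find b mini1Q)) mini1S = true := by decide +kernel
theorem mini1_run : runM idx inv mini1S 37 0 [Mv.f (nat_lit 4), Mv.f (nat_lit 8), Mv.f (nat_lit 11), Mv.f (nat_lit 36), Mv.b (nat_lit 11), Mv.b (nat_lit 8), Mv.b (nat_lit 4)] [Col.g, Col.d, Col.g, Col.a, Col.gi, Col.d, Col.gi] 0 = true := by decide +kernel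
theorem mini1_fix {G X : Type*} [Group G] [MulAction G X] (g : Col → G) (x0 : X) (hinv : ∀ c, g (inv c) = (g c)⁻¹)
    (hRW : ∀ w ∈ RW, gw g w = 1) (hSW : ∀ w ∈ SW1, gw g w • x0 = x0) : gw g [Col.g, Col.d, Col.g, Col.a, Col.gi, Col.d, Col.gi] • x0 = x0 :=
  mini_sound g x0 dec hdec hinv
    (fun a ha => altChk_sound g x0 dec hdec hinv hRW hSW ((Tr.all_iff _ _).1 mini1_alt a ha)) mini1_chk mini1_run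
end CfsgLib.TCON
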