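import Cfsg.Agent.EqBase
import Cfsg.Agent.LibTCONW
import Cfsg.Agent.LibTCONN0
import Cfsg.Agent.LibTCONN1
import Cfsg.Agent.LibTCONN2
import Cfsg.Agent.LibTCONN3
import Cfsg.Agent.LibTCONN4
import Cfsg.Agent.LibTCONN5
import Cfsg.Agent.LibTCONN6
import Cfsg.Agent.LibTCONN7
set_option autoImplicit false
set_option linter.all false
set_option maxRecDepth 1000000
set_option maxHeartbeats 0
namespace CfsgLib.TCON
open CfsgLib.TC Cfsg.Spor CfsgLib.TCG_ON
noncomputable def ms0 : List ℕ := []
noncomputable def ms1 : List ℕ := (nat_lit 0x1000000) :: ms0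
noncomputable def ms2 : List ℕ := (nat_lit 0x1000000000000) :: ms1
noncomputable def ms3 : List ℕ := (nat_lit 0x1000000000000000000000000) :: ms2
noncomputable def ms4 : List ℕ := (nat_lit 0x1000000000000000000000000000000000000000000000000) :: ms3
noncomputable def ms5 : List ℕ := (nat_lit 0x1000000000000000000000000000000000000000000000000000000000000000000000000000000000000000000000000) :: ms4
noncomputable def ms6 : List ℕ := (nat_lit 0x1000000000000000000000000000000000000000000000000000000000000000000000000000000000000000000000000000000000000000000000000000000000000000000000000000000000000000000000000000000000000000000000000) :: ms5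
noncomputable def ms7 : List ℕ := (nat_lit 0x1000000000000000000000000000000000000000000000000000000000000000000000000000000000000000000000000000000000000000000000000000000000000000000000000000000000000000000000000000000000000000000000000000000000000000000000000000000000000000000000000000000000000000000000000000000000000000000000000000000000000000000000000000000000000000000000000000000000000000000000000000000000000000000000000) :: ms6
noncomputable def ms8 : List ℕ := (nat_lit 0x1000000000000000000000000000000000000000000000000000000000000000000000000000000000000000000000000000000000000000000000000000000000000000000000000000000000000000000000000000000000000000000000000000000000000000000000000000000000000000000000000000000000000000000000000000000000000000000000000000000000000000000000000000000000000000000000000000000000000000000000000000000000000000000000000000000000000000000000000000000000000000000000000000000000000000000000000000000000000000000000000000000000000000000000000000000000000000000000000000000000000000000000000000000000000000000000000000000000000000000000000000000000000000000000000000000000000000000000000000000000000000000000000000000000000000000000000000000000000000000000000000000000000000000000000000000000000000000000000)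 :: ms7
noncomputable def ms9 : List ℕ := (nat_lit 0x100000000000000000000000000000000000000000000000000000000000000000000000000000000000000000000000000000000000000000000000000000000000000000000000000000000000000000000000000000000000000000000000000000000000000000000000000000000000000000000000000000000000000000000000000000000000000000000000000000000000000000000000000000000000000000000000000000000000000000000000000000000000000000000000000000000000000000000000000000000000000000000000000000000000000000000000000000000000000000000000000000000000000000000000000000000000000000000000000000000000000000000000000000000000000000000000000000000000000000000000000000000000000000000000000000000000000000000000000000000000000000000000000000000000000000000000000000000000000000000000000000000000000000000000000000000000000000000000000000000000000000000000000000000000000000000000000000000000000000000000000000000000000000000000000000000000000000000000000000000000000000000000000000000000000000000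0000000000000000000000000000000000000000000000000000000000000000000000000000000000000000000000000000000000000000000000000000000000000000000000000000000000000000000000000000000000000000000000000000000000000000000000000000000000000000000000000000000000000000000000000000000000000000000000000000000000000000000000000000000000000000000000000000000000000000000000000000000000000000000000000000000000000000000000000000000000000000000000000000000000000000000000000000000000000000000000000000000000000000000000000000000000000000000000000000000000000000000000000000000000000000000000000000000000000000000000000000) :: ms8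
noncomputable def ms10 : List ℕ := (nat_lit 0x100000000000000000000000000000000000000000000000000000000000000000000000000000000000000000000000000000000000000000000000000000000000000000000000000000000000000000000000000000000000000000000000000000000000000000000000000000000000000000000000000000000000000000000000000000000000000000000000000000000000000000000000000000000000000000000000000000000000000000000000000000000000000000000000000000000000000000000000000000000000000000000000000000000000000000000000000000000000000000000000000000000000000000000000000000000000000000000000000000000000000000000000000000000000000000000000000000000000000000000000000000000000000000000000000000000000000000000000000000000000000000000000000000000000000000000000000000000000000000000000000000000000000000000000000000000000000000000000000000000000000000000000000000000000000000000000000000000000000000000000000000000000000000000000000000000000000000000000000000000000000000000000000000000000000000000000000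00000000000000000000000000000000000000000000000000000000000000000000000000000000000000000000000000000000000000000000000000000000000000000000000000000000000000000000000000000000000000000000000000000000000000000000000000000000000000000000000000000000000000000000000000000000000000000000000000000000000000000000000000000000000000000000000000000000000000000000000000000000000000000000000000000000000000000000000000000000000000000000000000000000000000000000000000000000000000000000000000000000000000000000000000000000000000000000000000000000000000000000000000000000000000000000000000000000000000000000000000000000000000000000000000000000000000000000000000000000000000000000000000000000000000000000000000000000000000000000000000000000000000000000000000000000000000000000000000000000000000000000000000000000000000000000000000000000000000000000000000000000000000000000000000000000000000000000000000000000000000000000000000000000000000000000000000000000000000000000000000000000000000000000000000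00000000000000000000000000000000000000000000000000000000000000000000000000000000000000000000000000000000000000000000000000000000000000000000000000000000000000000000000000000000000000000000000000000000000000000000000000000000000000000000000000000000000000000000000000000000000000000000000000000000000000000000000000000000000000000000000000000000000000000000000000000000000000000000000000000000000000000000000000000000000000000000000000000000000000000000000000000000000000000000000000000000000000000000000000000000000000000000000000000000000000000000000000000000000000000000000000000000000000000000000000000000000000000000000000000000000000000000000000000000000000000000000000000000000000000000000000000000000000000000000000000000000000000000000000000000000000000000000000000000000000000000000000000000000000000000000000000000000000000000000000000000000000000000000000000000000000000000000000000000000000000000000000000000000000000000000000000000000000000000000000000000000000000000000000000000000000000000000000000000000000000000000000000000000000000000000000000000000000000000000000000000000000000000000000000000000000000000000000000000000000000000)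 :: ms9
noncomputable def ms11 : List ℕ := (nat_lit 0x10000000000000000000000000000000000000000000000000000000000000000000000000000000000000000000000000000000000000000000000000000000000000000000000000000000000000000000000000000000000000000000000000000000000000000000000000000000000000000000000000000000000000000000000000000000000000000000000000000000000000000000000000000000000000000000000000000000000000000000000000000000000000000000000000000000000000000000000000000000000000000000000000000000000000000000000000000000000000000000000000000000000000000000000000000000000000000000000000000000000000000000000000000000000000000000000000000000000000000000000000000000000000000000000000000000000000000000000000000000000000000000000000000000000000000000000000000000000000000000000000000000000000000000000000000000000000000000000000000000000000000000000000000000000000000000000000000000000000000000000000000000000000000000000000000000000000000000000000000000000000000000000000000000000000000000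00000000000000000000000000000000000000000000000000000000000000000000000000000000000000000000000000000000000000000000000000000000000000000000000000000000000000000000000000000000000000000000000000000000000000000000000000000000000000000000000000000000000000000000000000000000000000000000000000000000000000000000000000000000000000000000000000000000000000000000000000000000000000000000000000000000000000000000000000000000000000000000000000000000000000000000000000000000000000000000000000000000000000000000000000000000000000000000000000000000000000000000000000000000000000000000000000000000000000000000000000000000000000000000000000000000000000000000000000000000000000000000000000000000000000000000000000000000000000000000000000000000000000000000000000000000000000000000000000000000000000000000000000000000000000000000000000000000000000000000000000000000000000000000000000000000000000000000000000000000000000000000000000000000000000000000000000000000000000000000000000000000000000000000000000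00000000000000000000000000000000000000000000000000000000000000000000000000000000000000000000000000000000000000000000000000000000000000000000000000000000000000000000000000000000000000000000000000000000000000000000000000000000000000000000000000000000000000000000000000000000000000000000000000000000000000000000000000000000000000000000000000000000000000000000000000000000000000000000000000000000000000000000000000000000000000000000000000000000000000000000000000000000000000000000000000000000000000000000000000000000000000000000000000000000000000000000000000000000000000000000000000000000000000000000000000000000000000000000000000000000000000000000000000000000000000000000000000000000000000000000000000000000000000000000000000000000000000000000000000000000000000000000000000000000000000000000000000000000000000000000000000000000000000000000000000000000000000000000000000000000000000000000000000000000000000000000000000000000000000000000000000000000000000000000000000000000000000000000000000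00000000000000000000000000000000000000000000000000000000000000000000000000000000000000000000000000000000000000000000000000000000000000000000000000000000000000000000000000000000000000000000000000000000000000000000000000000000000000000000000000000000000000000000000000000000000000000000000000000000000000000000000000000000000000000000000000000000000000000000000000000000000000000000000000000000000000000000000000000000000000000000000000000000000000000000000000000000000000000000000000000000000000000000000000000000000000000000000000000000000000000000000000000000000000000000000000000000000000000000000000000000000000000000000000000000000000000000000000000000000000000000000000000000000000000000000000000000000000000000000000000000000000000000000000000000000000000000000000000000000000000000000000000000000000000000000000000000000000000000000000000000000000000000000000000000000000000000000000000000000000000000000000000000000000000000000000000000000000000000000000000000000000000000000000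00000000000000000000000000000000000000000000000000000000000000000000000000000000000000000000000000000000000000000000000000000000000000000000000000000000000000000000000000000000000000000000000000000000000000000000000000000000000000000000000000000000000000000000000000000000000000000000000000000000000000000000000000000000000000000000000000000000000000000000000000000000000000000000000000000000000000000000000000000000000000000000000000000000000000000000000000000000000000000000000000000000000000000000000000000000000000000000000000000000000000000000000000000000000000000000000000000000000000000000000000000000000000000000000000000000000000000000000000000000000000000000000000000000000000000000000000000000000000000000000000000000000000000000000000000000000000000000000000000000000000000000000000000000000000000000000000000000000000000000000000000000000000000000000000000000000000000000000000000000000000000000000000000000000000000000000000000000000000000000000000000000000000000000000000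000000000000000000000000000000000000000000000000000000000000000000000000000000000000000000000000000000000000000000000000000000000000000000000000000000000000000000000000000000000000000000000000000000000000000000000000000000000000000000000000000000000000000000000000000000000000000000000000000000000000000000000000000000000000000000000000000000000000000000000000000000000000000000000000000000000000000000000000000000000000000000000000000000000000000000000000000000000000000000000000000000000000000000000000000000000000000000000000000000000000000000000000000000000000000000000000000000000000000000000000000000000000000000000000000000000000000000000000000000000000000000000000000000000000000000000000000000000000000000000000000000000000000000000000000000000000000000000000000000000000000000000000000000000000000000000000000000000000000000000000000000000000000000000000000000000000000000000000000000000000000000000000000000000000000000000000000000000000000000000000000000000000000000000000000000000000000000000000000000000000000000000000000000000000000000000000000000000000000000000000000000000000000000000000000000000000000000000000000000000000000000000000000000000000000000000000000000000000000000000000000000000000000000000000000000000000000000000000000000000000000000000)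 :: ms10
noncomputable def ms12 : List ℕ := (nat_lit 0x1000000000000000000000000000000000000000000000000000000000000000000000000000000000000000000000000000000000000000000000000000000000000000000000000000000000000000000000000000000000000000000000000000000000000000000000000000000000000000000000000000000000000000000000000000000000000000000000000000000000000000000000000000000000000000000000000000000000000000000000000000000000000000000000000000000000000000000000000000000000000000000000000000000000000000000000000000000000000000000000000000000000000000000000000000000000000000000000000000000000000000000000000000000000000000000000000000000000000000000000000000000000000000000000000000000000000000000000000000000000000000000000000000000000000000000000000000000000000000000000000000000000000000000000000000000000000000000000000000000000000000000000000000000000000000000000000000000000000000000000000000000000000000000000000000000000000000000000000000000000000000000000000000000000000000000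00000000000000000000000000000000000000000000000000000000000000000000000000000000000000000000000000000000000000000000000000000000000000000000000000000000000000000000000000000000000000000000000000000000000000000000000000000000000000000000000000000000000000000000000000000000000000000000000000000000000000000000000000000000000000000000000000000000000000000000000000000000000000000000000000000000000000000000000000000000000000000000000000000000000000000000000000000000000000000000000000000000000000000000000000000000000000000000000000000000000000000000000000000000000000000000000000000000000000000000000000000000000000000000000000000000000000000000000000000000000000000000000000000000000000000000000000000000000000000000000000000000000000000000000000000000000000000000000000000000000000000000000000000000000000000000000000000000000000000000000000000000000000000000000000000000000000000000000000000000000000000000000000000000000000000000000000000000000000000000000000000000000000000000000000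00000000000000000000000000000000000000000000000000000000000000000000000000000000000000000000000000000000000000000000000000000000000000000000000000000000000000000000000000000000000000000000000000000000000000000000000000000000000000000000000000000000000000000000000000000000000000000000000000000000000000000000000000000000000000000000000000000000000000000000000000000000000000000000000000000000000000000000000000000000000000000000000000000000000000000000000000000000000000000000000000000000000000000000000000000000000000000000000000000000000000000000000000000000000000000000000000000000000000000000000000000000000000000000000000000000000000000000000000000000000000000000000000000000000000000000000000000000000000000000000000000000000000000000000000000000000000000000000000000000000000000000000000000000000000000000000000000000000000000000000000000000000000000000000000000000000000000000000000000000000000000000000000000000000000000000000000000000000000000000000000000000000000000000000000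00000000000000000000000000000000000000000000000000000000000000000000000000000000000000000000000000000000000000000000000000000000000000000000000000000000000000000000000000000000000000000000000000000000000000000000000000000000000000000000000000000000000000000000000000000000000000000000000000000000000000000000000000000000000000000000000000000000000000000000000000000000000000000000000000000000000000000000000000000000000000000000000000000000000000000000000000000000000000000000000000000000000000000000000000000000000000000000000000000000000000000000000000000000000000000000000000000000000000000000000000000000000000000000000000000000000000000000000000000000000000000000000000000000000000000000000000000000000000000000000000000000000000000000000000000000000000000000000000000000000000000000000000000000000000000000000000000000000000000000000000000000000000000000000000000000000000000000000000000000000000000000000000000000000000000000000000000000000000000000000000000000000000000000000000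00000000000000000000000000000000000000000000000000000000000000000000000000000000000000000000000000000000000000000000000000000000000000000000000000000000000000000000000000000000000000000000000000000000000000000000000000000000000000000000000000000000000000000000000000000000000000000000000000000000000000000000000000000000000000000000000000000000000000000000000000000000000000000000000000000000000000000000000000000000000000000000000000000000000000000000000000000000000000000000000000000000000000000000000000000000000000000000000000000000000000000000000000000000000000000000000000000000000000000000000000000000000000000000000000000000000000000000000000000000000000000000000000000000000000000000000000000000000000000000000000000000000000000000000000000000000000000000000000000000000000000000000000000000000000000000000000000000000000000000000000000000000000000000000000000000000000000000000000000000000000000000000000000000000000000000000000000000000000000000000000000000000000000000000000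00000000000000000000000000000000000000000000000000000000000000000000000000000000000000000000000000000000000000000000000000000000000000000000000000000000000000000000000000000000000000000000000000000000000000000000000000000000000000000000000000000000000000000000000000000000000000000000000000000000000000000000000000000000000000000000000000000000000000000000000000000000000000000000000000000000000000000000000000000000000000000000000000000000000000000000000000000000000000000000000000000000000000000000000000000000000000000000000000000000000000000000000000000000000000000000000000000000000000000000000000000000000000000000000000000000000000000000000000000000000000000000000000000000000000000000000000000000000000000000000000000000000000000000000000000000000000000000000000000000000000000000000000000000000000000000000000000000000000000000000000000000000000000000000000000000000000000000000000000000000000000000000000000000000000000000000000000000000000000000000000000000000000000000000000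00000000000000000000000000000000000000000000000000000000000000000000000000000000000000000000000000000000000000000000000000000000000000000000000000000000000000000000000000000000000000000000000000000000000000000000000000000000000000000000000000000000000000000000000000000000000000000000000000000000000000000000000000000000000000000000000000000000000000000000000000000000000000000000000000000000000000000000000000000000000000000000000000000000000000000000000000000000000000000000000000000000000000000000000000000000000000000000000000000000000000000000000000000000000000000000000000000000000000000000000000000000000000000000000000000000000000000000000000000000000000000000000000000000000000000000000000000000000000000000000000000000000000000000000000000000000000000000000000000000000000000000000000000000000000000000000000000000000000000000000000000000000000000000000000000000000000000000000000000000000000000000000000000000000000000000000000000000000000000000000000000000000000000000000000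00000000000000000000000000000000000000000000000000000000000000000000000000000000000000000000000000000000000000000000000000000000000000000000000000000000000000000000000000000000000000000000000000000000000000000000000000000000000000000000000000000000000000000000000000000000000000000000000000000000000000000000000000000000000000000000000000000000000000000000000000000000000000000000000000000000000000000000000000000000000000000000000000000000000000000000000000000000000000000000000000000000000000000000000000000000000000000000000000000000000000000000000000000000000000000000000000000000000000000000000000000000000000000000000000000000000000000000000000000000000000000000000000000000000000000000000000000000000000000000000000000000000000000000000000000000000000000000000000000000000000000000000000000000000000000000000000000000000000000000000000000000000000000000000000000000000000000000000000000000000000000000000000000000000000000000000000000000000000000000000000000000000000000000000000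00000000000000000000000000000000000000000000000000000000000000000000000000000000000000000000000000000000000000000000000000000000000000000000000000000000000000000000000000000000000000000000000000000000000000000000000000000000000000000000000000000000000000000000000000000000000000000000000000000000000000000000000000000000000000000000000000000000000000000000000000000000000000000000000000000000000000000000000000000000000000000000000000000000000000000000000000000000000000000000000000000000000000000000000000000000000000000000000000000000000000000000000000000000000000000000000000000000000000000000000000000000000000000000000000000000000000000000000000000000000000000000000000000000000000000000000000000000000000000000000000000000000000000000000000000000000000000000000000000000000000000000000000000000000000000000000000000000000000000000000000000000000000000000000000000000000000000000000000000000000000000000000000000000000000000000000000000000000000000000000000000000000000000000000000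00000000000000000000000000000000000000000000000000000000000000000000000000000000000000000000000000000000000000000000000000000000000000000000000000000000000000000000000000000000000000000000000000000000000000000000000000000000000000000000000000000000000000000000000000000000000000000000000000000000000000000000000000000000000000000000000000000000000000000000000000000000000000000000000000000000000000000000000000000000000000000000000000000000000000000000000000000000000000000000000000000000000000000000000000000000000000000000000000000000000000000000000000000000000000000000000000000000000000000000000000000000000000000000000000000000000000000000000000000000000000000000000000000000000000000000000000000000000000000000000000000000000000000000000000000000000000000000000000000000000000000000000000000000000000000000000000000000000000000000000000000000000000000000000000000000000000000000000000000000000000000000000000000000000000000000000000000000000000000000000000000000000000000000000000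00000000000000000000000000000000000000000000000000000000000000000000000000000000000000000000000000000000000000000000000000000000000000000000000000000000000000000000000000000000000000000000000000000000000000000000000000000000000000000000000000000000000000000000000000000000000000000000000000000000000000000000000000000000000000000000000000000000000000000000000000000000000000000000000000000000000000000000000000000000000000000000000000000000000000000000000000000000000000000000000000000000000000000000000000000000000000000000000000000000000000000000000000000000000000000000000000000000000000000000000000000000000000000000000000000000000000000000000000000000000000000000000000000000000000000000000000000000000000000000000000000000000000000000000000000000000000000000000000000000000000000000000000000000000000000000000000000000000000000000000000000000000000000000000000000000000000000000000000000000000000000000000000000000000000000000000000000000000000000000000000000000000000000000000000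00000000000000000000000000000000000000000000000000000000000000000000000000000000000000000000000000000000000000000000000000000000000000000000000000000000000000000000000000000000000000000000000000000000000000000000000000000000000000000000000000000000000000000000000000000000000000000000000000000000000000000000000000000000000000000000000000000000000000000000000000000000000000000000000000000000000000000000000000000000000000000000000000000000000000000000000000000000000000000000000000000000000000000000000000000000000000000000000000000000000000000000000000000000000000000000000000000000000000000000000000000000000000000000000000000000000000000000000000000000000000000000000000000000000000000000000000000000000000000000000000000000000000000000000000000000000000000000000000000000000000000000000000000000000000000000000000000000000000000000000000000000000000000000000000000000000000000000000000000000000000000000000000000000000000000000000000000000000000000000000000000000000000000000000000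00000000000000000000000000000000000000000000000000000000000000000000000000000000000000000000000000000000000000000000000000000000000000000000000000000000000000000000000000000000000000000000000000000000000000000000000000000000000000000000000000000000000000000000000000000000000000000000000000000000000000000000000000000000000000000000000000000000000000000000000000000000000000000000000000000000000000000000000000000000000000000000000000000000000000000000000000000000000000000000000000000000000000000000000000000000) :: ms11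
noncomputable def L_0 : Tr ℕ := (decT (nat_lit 16777216) (ms12) LN0_b12)
noncomputable def L_1 : Tr ℕ := (decT (nat_lit 16777216) (ms12) LN1_b12)
noncomputable def L_2 : Tr ℕ := (decT (nat_lit 16777216) (ms12) LN2_b12)
noncomputable def L_3 : Tr ℕ := (decT (nat_lit 16777216) (ms12) LN3_b12)
noncomputable def L_4 : Tr ℕ := (decT (nat_lit 16777216) (ms12) LN4_b12)
noncomputable def L_5 : Tr ℕ := (decT (nat_lit 16777216) (ms12) LN5_b12)
noncomputable def L_6 : Tr ℕ := (decT (nat_lit 16777216) (ms12) LN6_b12)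
noncomputable def L_7 : Tr ℕ := (decT (nat_lit 16777216) (ms12) LN7_b12)
noncomputable def L_8 : Tr ℕ := (decT (nat_lit 16777216) (ms12) LN8_b12)
noncomputable def L_9 : Tr ℕ := (decT (nat_lit 16777216) (ms12) LN9_b12)
noncomputable def L_10 : Tr ℕ := (decT (nat_lit 16777216) (ms12) LN10_b12)
noncomputable def L_11 : Tr ℕ := (decT (nat_lit 16777216) (ms12) LN11_b12)
noncomputable def L_12 : Tr ℕ := (decT (nat_lit 16777216) (ms12) LN12_b12)
noncomputable def L_13 : Tr ℕ := (decT (nat_lit 16777216) (ms12) LN13_b12)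
noncomputable def L_14 : Tr ℕ := (decT (nat_lit 16777216) (ms12) LN14_b12)
noncomputable def L_15 : Tr ℕ := (decT (nat_lit 16777216) (ms12) LN15_b12)
noncomputable def L_16 : Tr ℕ := (decT (nat_lit 16777216) (ms12) LN16_b12)
noncomputable def L_17 : Tr ℕ := (decT (nat_lit 16777216) (ms12) LN17_b12)
noncomputable def L_18 : Tr ℕ := (decT (nat_lit 16777216) (ms12) LN18_b12)
noncomputable def L_19 : Tr ℕ := (decT (nat_lit 16777216) (ms12) LN19_b12)
noncomputable def L_20 : Tr ℕ := (decT (nat_lit 16777216) (ms12) LN20_b12)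
noncomputable def L_21 : Tr ℕ := (decT (nat_lit 16777216) (ms12) LN21_b12)
noncomputable def L_22 : Tr ℕ := (decT (nat_lit 16777216) (ms12) LN22_b12)
noncomputable def L_23 : Tr ℕ := (decT (nat_lit 16777216) (ms12) LN23_b12)
noncomputable def L_24 : Tr ℕ := (decT (nat_lit 16777216) (ms12) LN24_b12)
noncomputable def L_25 : Tr ℕ := (decT (nat_lit 16777216) (ms12) LN25_b12)
noncomputable def L_26 : Tr ℕ := (decT (nat_lit 16777216) (ms12) LN26_b12)
noncomputable def L_27 : Tr ℕ := (decT (nat_lit 16777216) (ms12) LN27_b12)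
noncomputable def L_28 : Tr ℕ := (decT (nat_lit 16777216) (ms12) LN28_b12)
noncomputable def L_29 : Tr ℕ := (Tr.nd (nat_lit 3920941) (Tr.nd (nat_lit 3897449) (decT (nat_lit 16777216) (ms11) LN29_b11) (Tr.nd (nat_lit 3913103) (decT (nat_lit 16777216) (ms10) LN29_b10) (decT (nat_lit 16777216) (ms9) LN29_b9))) (Tr.nd (nat_lit 3924761) (decT (nat_lit 16777216) (ms8) LN29_b8) (Tr.nd (nat_lit 3926729) (decT (nat_lit 16777216) (ms7) LN29_b7) (decT (nat_lit 16777216) (ms3) LN29_b3))))
noncomputable def L : Tr ℕ := (Tr.nd (nat_lit 3003431) (Tr.nd (nat_lit 2517959) (Tr.nd (nat_lit 2275913) (Tr.nd (nat_lit 2156617) L_0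
(Tr.nd (nat_lit 2216629) L_1
L_2))
(Tr.nd (nat_lit 2397113) (Tr.nd (nat_lit 2336801) L_3
L_4)
(Tr.nd (nat_lit 2457439) L_5
L_6)))
(Tr.nd (nat_lit 2760049) (Tr.nd (nat_lit 2638667) (Tr.nd (nat_lit 2578019) L_7
L_8)
(Tr.nd (nat_lit 2698847) L_9
L_10))
(Tr.nd (nat_lit 2881303) (Tr.nd (nat_lit 2820239) L_11
L_12)
(Tr.nd (nat_lit 2942477) L_13
L_14))))
(Tr.nd (nat_lit 3432547) (Tr.nd (nat_lit 3187213) (Tr.nd (nat_lit 3065533) L_15
(Tr.nd (nat_lit 3126077) L_16
L_17))
(Tr.nd (nat_lit 3309379) (Tr.nd (nat_lit 3247781) L_18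
L_19)
(Tr.nd (nat_lit 3371257) L_20
L_21)))
(Tr.nd (nat_lit 3680519) (Tr.nd (nat_lit 3557621) (Tr.nd (nat_lit 3494899) L_22
L_23)
(Tr.nd (nat_lit 3618743) L_24
L_25))
(Tr.nd (nat_lit 3804701) (Tr.nd (nat_lit 3742133) L_26
L_27)
(Tr.nd (nat_lit 3866647) L_28
L_29)))))
abbrev q0 : ℕ := nat_lit 2097169
noncomputable def F_g (q : ℕ) : ℕ := Nat.add (nat_lit 2097152) (Nat.mod (Bool.rec (motive := fun _ => ℕ) (Bool.rec (motive := fun _ => ℕ) (Bool.rec (motive := fun _ => ℕ) (Bool.rec (motive := fun _ => ℕ) T_g_0 (Bool.rec (motive := fun _ => ℕ) T_g_1 T_g_2 (Nat.ble (nat_lit 2216629) q)) (Nat.ble (nat_lit 2156617) q)) (Bool.rec (motive := fun _ => ℕ) (Bool.rec (motive := fun _ => ℕ) T_g_3 T_g_4 (Nat.ble (nat_lit 2336801) q)) (Bool.rec (motive := fun _ => ℕ) T_g_5 T_g_6 (Nat.ble (nat_lit 2457439) q)) (Nat.ble (nat_lit 2397113) q)) (Nat.ble (nat_lit 2275913) q)) (Bool.rec (motive := fun _ => ℕ) (Bool.rec (motive := fun _ => ℕ) (Bool.rec (motive := fun _ => ℕ) T_g_7 T_g_8 (Nat.ble (nat_lit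 2578019) q)) (Bool.rec (motive := fun _ => ℕ) T_g_9 T_g_10 (Nat.ble (nat_lit 2698847) q)) (Nat.ble (nat_lit 2638667) q)) (Bool.rec (motive := fun _ => ℕ) (Bool.rec (motive := fun _ => ℕ) T_g_11 T_g_12 (Nat.ble (nat_lit 2820239) q)) (Bool.rec (motive := fun _ => ℕ) T_g_13 T_g_14 (Nat.ble (nat_lit 2942477) q)) (Nat.ble (nat_lit 2881303) q)) (Nat.ble (nat_lit 2760049) q)) (Nat.ble (nat_lit 2517959) q)) (Bool.rec (motive := fun _ => ℕ) (Bool.rec (motive := fun _ => ℕ) (Bool.rec (motive := fun _ => ℕ) T_g_15 (Bool.rec (motive := fun _ => ℕ) T_g_16 T_g_17 (Nat.ble (nat_lit 3126077) q)) (Nat.ble (nat_lit 3065533) q)) (Bool.rec (motive := fun _ => ℕ) (Bool.rec (motive := fun _ => ℕ) T_g_18 T_g_19 (Nat.ble (nat_lit 3247781) q)) (Bool.rec (motive := fun _ => ℕ) T_g_20 T_g_21 (Nat.ble (nat_lit 3371257) q)) (Nat.ble (nat_lit 3309379) q)) (Nat.ble (nat_lit 3187213) q)) (Bool.rec (motive := fun _ => ℕ) (Bool.rec (motive := fun _ => ℕ) (Bool.rec (motive := fun _ => ℕ) T_g_22 T_g_23 (Nat.ble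 (nat_lit 3494899) q)) (Bool.rec (motive := fun _ => ℕ) T_g_24 T_g_25 (Nat.ble (nat_lit 3618743) q)) (Nat.ble (nat_lit 3557621) q)) (Bool.rec (motive := fun _ => ℕ) (Bool.rec (motive := fun _ => ℕ) T_g_26 T_g_27 (Nat.ble (nat_lit 3742133) q)) (Bool.rec (motive := fun _ => ℕ) T_g_28 T_g_29 (Nat.ble (nat_lit 3866647) q)) (Nat.ble (nat_lit 3804701) q)) (Nat.ble (nat_lit 3680519) q)) (Nat.ble (nat_lit 3432547) q)) (Nat.ble (nat_lit 3003431) q)) q)
noncomputable def UU_g (q : ℕ) : ℕ := (Nat.mod (Bool.rec (motive := fun _ => ℕ) (Bool.rec (motive := fun _ => ℕ) (Bool.rec (motive := fun _ => ℕ) (Bool.rec (motive := fun _ => ℕ) U_g_0 (Bool.rec (motive := fun _ => ℕ) U_g_1 U_g_2 (Nat.ble (nat_lit 2216629) q)) (Nat.ble (nat_lit 2156617) q)) (Bool.rec (motive := fun _ => ℕ) (Bool.rec (motive := fun _ => ℕ) U_g_3 U_g_4 (Nat.ble (nat_lit 2336801) q)) (Bool.rec (motive := fun _ => ℕ) U_g_5 U_g_6 (Nat.ble (nat_lit 2457439) q)) (Nat.ble (nat_lit 2397113) q)) (Nat.ble (nat_lit 2275913) q))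 (Bool.rec (motive := fun _ => ℕ) (Bool.rec (motive := fun _ => ℕ) (Bool.rec (motive := fun _ => ℕ) U_g_7 U_g_8 (Nat.ble (nat_lit 2578019) q)) (Bool.rec (motive := fun _ => ℕ) U_g_9 U_g_10 (Nat.ble (nat_lit 2698847) q)) (Nat.ble (nat_lit 2638667) q)) (Bool.rec (motive := fun _ => ℕ) (Bool.rec (motive := fun _ => ℕ) U_g_11 U_g_12 (Nat.ble (nat_lit 2820239) q)) (Bool.rec (motive := fun _ => ℕ) U_g_13 U_g_14 (Nat.ble (nat_lit 2942477) q)) (Nat.ble (nat_lit 2881303) q)) (Nat.ble (nat_lit 2760049) q)) (Nat.ble (nat_lit 2517959) q)) (Bool.rec (motive := fun _ => ℕ) (Bool.rec (motive := fun _ => ℕ) (Bool.rec (motive := fun _ => ℕ) U_g_15 (Bool.rec (motive := fun _ => ℕ) U_g_16 U_g_17 (Nat.ble (nat_lit 3126077) q)) (Nat.ble (nat_lit 3065533) q)) (Bool.rec (motive := fun _ => ℕ) (Bool.rec (motive := fun _ => ℕ) U_g_18 U_g_19 (Nat.ble (nat_lit 3247781) q)) (Bool.rec (motive := fun _ => ℕ) U_g_20 U_g_21 (Nat.ble (nat_lit 3371257) q)) (Nat.ble (nat_lit 3309379) q)) (Nat.ble (nat_lit 3187213)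 q)) (Bool.rec (motive := fun _ => ℕ) (Bool.rec (motive := fun _ => ℕ) (Bool.rec (motive := fun _ => ℕ) U_g_22 U_g_23 (Nat.ble (nat_lit 3494899) q)) (Bool.rec (motive := fun _ => ℕ) U_g_24 U_g_25 (Nat.ble (nat_lit 3618743) q)) (Nat.ble (nat_lit 3557621) q)) (Bool.rec (motive := fun _ => ℕ) (Bool.rec (motive := fun _ => ℕ) U_g_26 U_g_27 (Nat.ble (nat_lit 3742133) q)) (Bool.rec (motive := fun _ => ℕ) U_g_28 U_g_29 (Nat.ble (nat_lit 3866647) q)) (Nat.ble (nat_lit 3804701) q)) (Nat.ble (nat_lit 3680519) q)) (Nat.ble (nat_lit 3432547) q)) (Nat.ble (nat_lit 3003431) q)) q)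
noncomputable def VV_g (q : ℕ) : ℕ := (Nat.mod (Bool.rec (motive := fun _ => ℕ) (Bool.rec (motive := fun _ => ℕ) (Bool.rec (motive := fun _ => ℕ) (Bool.rec (motive := fun _ => ℕ) V_g_0 (Bool.rec (motive := fun _ => ℕ) V_g_1 V_g_2 (Nat.ble (nat_lit 2216629) q)) (Nat.ble (nat_lit 2156617) q)) (Bool.rec (motive := fun _ => ℕ) (Bool.rec (motive := fun _ => ℕ) V_g_3 V_g_4 (Nat.ble (nat_lit 2336801) q)) (Bool.rec (motive := fun _ => ℕ) V_g_5 V_g_6 (Nat.ble (nat_lit 2457439) q)) (Nat.ble (nat_lit 2397113) q)) (Nat.ble (nat_lit 2275913) q)) (Bool.rec (motive := fun _ => ℕ) (Bool.rec (motive := fun _ => ℕ) (Bool.rec (motive := fun _ => ℕ) V_g_7 V_g_8 (Nat.ble (nat_lit 2578019) q)) (Bool.rec (motive := fun _ => ℕ) V_g_9 V_g_10 (Nat.ble (nat_lit 2698847) q)) (Nat.ble (nat_lit 2638667) q)) (Bool.rec (motive := fun _ => ℕ) (Bool.rec (motive := fun _ => ℕ) V_g_11 V_g_12 (Nat.ble (nat_lit 2820239) q)) (Bool.rec (motive := fun _ => ℕ) V_g_13 V_g_14 (Nat.ble (nat_lit 2942477) q)) (Nat.ble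 (nat_lit 2881303) q)) (Nat.ble (nat_lit 2760049) q)) (Nat.ble (nat_lit 2517959) q)) (Bool.rec (motive := fun _ => ℕ) (Bool.rec (motive := fun _ => ℕ) (Bool.rec (motive := fun _ => ℕ) V_g_15 (Bool.rec (motive := fun _ => ℕ) V_g_16 V_g_17 (Nat.ble (nat_lit 3126077) q)) (Nat.ble (nat_lit 3065533) q)) (Bool.rec (motive := fun _ => ℕ) (Bool.rec (motive := fun _ => ℕ) V_g_18 V_g_19 (Nat.ble (nat_lit 3247781) q)) (Bool.rec (motive := fun _ => ℕ) V_g_20 V_g_21 (Nat.ble (nat_lit 3371257) q)) (Nat.ble (nat_lit 3309379) q)) (Nat.ble (nat_lit 3187213) q)) (Bool.rec (motive := fun _ => ℕ) (Bool.rec (motive := fun _ => ℕ) (Bool.rec (motive := fun _ => ℕ) V_g_22 V_g_23 (Nat.ble (nat_lit 3494899) q)) (Bool.rec (motive := fun _ => ℕ) V_g_24 V_g_25 (Nat.ble (nat_lit 3618743) q)) (Nat.ble (nat_lit 3557621) q)) (Bool.rec (motive := fun _ => ℕ) (Bool.rec (motive := fun _ => ℕ) V_g_26 V_g_27 (Nat.ble (nat_lit 3742133) q)) (Bool.rec (motive := fun _ => ℕ) V_g_28 V_g_29 (Nat.ble (nat_lit 3866647)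 q)) (Nat.ble (nat_lit 3804701) q)) (Nat.ble (nat_lit 3680519) q)) (Nat.ble (nat_lit 3432547) q)) (Nat.ble (nat_lit 3003431) q)) q)
noncomputable def G_g (t q : ℕ) : ℕ := Bool.rec (motive := fun _ => ℕ) (nat_lit 0) (F_g q) (Nat.ble (Nat.succ (UU_g q)) t)
noncomputable def F_gi (q : ℕ) : ℕ := Nat.add (nat_lit 2097152) (Nat.mod (Bool.rec (motive := fun _ => ℕ) (Bool.rec (motive := fun _ => ℕ) (Bool.rec (motive := fun _ => ℕ) (Bool.rec (motive := fun _ => ℕ) T_gi_0 (Bool.rec (motive := fun _ => ℕ) T_gi_1 T_gi_2 (Nat.ble (nat_lit 2216629) q)) (Nat.ble (nat_lit 2156617) q)) (Bool.rec (motive := fun _ => ℕ) (Bool.rec (motive := fun _ => ℕ) T_gi_3 T_gi_4 (Nat.ble (nat_lit 2336801) q)) (Bool.rec (motive := fun _ => ℕ) T_gi_5 T_gi_6 (Nat.ble (nat_lit 2457439) q)) (Nat.ble (nat_lit 2397113) q)) (Nat.ble (nat_lit 2275913) q)) (Bool.rec (motive := fun _ => ℕ) (Bool.rec (motive := fun _ => ℕ) (Bool.rec (motive := fun _ => ℕ) T_gi_7 T_gi_8 (Nat.ble (nat_lit 2578019) q)) (Bool.rec (motive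 := fun _ => ℕ) T_gi_9 T_gi_10 (Nat.ble (nat_lit 2698847) q)) (Nat.ble (nat_lit 2638667) q)) (Bool.rec (motive := fun _ => ℕ) (Bool.rec (motive := fun _ => ℕ) T_gi_11 T_gi_12 (Nat.ble (nat_lit 2820239) q)) (Bool.rec (motive := fun _ => ℕ) T_gi_13 T_gi_14 (Nat.ble (nat_lit 2942477) q)) (Nat.ble (nat_lit 2881303) q)) (Nat.ble (nat_lit 2760049) q)) (Nat.ble (nat_lit 2517959) q)) (Bool.rec (motive := fun _ => ℕ) (Bool.rec (motive := fun _ => ℕ) (Bool.rec (motive := fun _ => ℕ) T_gi_15 (Bool.rec (motive := fun _ => ℕ) T_gi_16 T_gi_17 (Nat.ble (nat_lit 3126077) q)) (Nat.ble (nat_lit 3065533) q)) (Bool.rec (motive := fun _ => ℕ) (Bool.rec (motive := fun _ => ℕ) T_gi_18 T_gi_19 (Nat.ble (nat_lit 3247781) q)) (Bool.rec (motive := fun _ => ℕ) T_gi_20 T_gi_21 (Nat.ble (nat_lit 3371257) q)) (Nat.ble (nat_lit 3309379) q)) (Nat.ble (nat_lit 3187213) q)) (Bool.rec (motive := fun _ => ℕ) (Bool.rec (motive := fun _ => ℕ) (Bool.rec (motive := fun _ => ℕ) T_gi_22 T_gi_23 (Nat.ble (nat_lit 3494899)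 q)) (Bool.rec (motive := fun _ => ℕ) T_gi_24 T_gi_25 (Nat.ble (nat_lit 3618743) q)) (Nat.ble (nat_lit 3557621) q)) (Bool.rec (motive := fun _ => ℕ) (Bool.rec (motive := fun _ => ℕ) T_gi_26 T_gi_27 (Nat.ble (nat_lit 3742133) q)) (Bool.rec (motive := fun _ => ℕ) T_gi_28 T_gi_29 (Nat.ble (nat_lit 3866647) q)) (Nat.ble (nat_lit 3804701) q)) (Nat.ble (nat_lit 3680519) q)) (Nat.ble (nat_lit 3432547) q)) (Nat.ble (nat_lit 3003431) q)) q)
noncomputable def UU_gi (q : ℕ) : ℕ := (Nat.mod (Bool.rec (motive := fun _ => ℕ) (Bool.rec (motive := fun _ => ℕ) (Bool.rec (motive := fun _ => ℕ) (Bool.rec (motive := fun _ => ℕ) U_gi_0 (Bool.rec (motive := fun _ => ℕ) U_gi_1 U_gi_2 (Nat.ble (nat_lit 2216629) q)) (Nat.ble (nat_lit 2156617) q)) (Bool.rec (motive := fun _ => ℕ) (Bool.rec (motive := fun _ => ℕ) U_gi_3 U_gi_4 (Nat.ble (nat_lit 2336801) q)) (Bool.rec (motive := fun _ => ℕ) U_gi_5 U_gi_6 (Nat.ble (nat_lit 2457439) q)) (Nat.ble (nat_lit 2397113) q)) (Nat.ble (nat_lit 2275913) q)) (Bool.rec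 (motive := fun _ => ℕ) (Bool.rec (motive := fun _ => ℕ) (Bool.rec (motive := fun _ => ℕ) U_gi_7 U_gi_8 (Nat.ble (nat_lit 2578019) q)) (Bool.rec (motive := fun _ => ℕ) U_gi_9 U_gi_10 (Nat.ble (nat_lit 2698847) q)) (Nat.ble (nat_lit 2638667) q)) (Bool.rec (motive := fun _ => ℕ) (Bool.rec (motive := fun _ => ℕ) U_gi_11 U_gi_12 (Nat.ble (nat_lit 2820239) q)) (Bool.rec (motive := fun _ => ℕ) U_gi_13 U_gi_14 (Nat.ble (nat_lit 2942477) q)) (Nat.ble (nat_lit 2881303) q)) (Nat.ble (nat_lit 2760049) q)) (Nat.ble (nat_lit 2517959) q)) (Bool.rec (motive := fun _ => ℕ) (Bool.rec (motive := fun _ => ℕ) (Bool.rec (motive := fun _ => ℕ) U_gi_15 (Bool.rec (motive := fun _ => ℕ) U_gi_16 U_gi_17 (Nat.ble (nat_lit 3126077) q)) (Nat.ble (nat_lit 3065533) q)) (Bool.rec (motive := fun _ => ℕ) (Bool.rec (motive := fun _ => ℕ) U_gi_18 U_gi_19 (Nat.ble (nat_lit 3247781) q)) (Bool.rec (motive := fun _ => ℕ) U_gi_20 U_gi_21 (Nat.ble (nat_lit 3371257) q)) (Nat.ble (nat_lit 3309379) q)) (Nat.ble (nat_lit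 3187213) q)) (Bool.rec (motive := fun _ => ℕ) (Bool.rec (motive := fun _ => ℕ) (Bool.rec (motive := fun _ => ℕ) U_gi_22 U_gi_23 (Nat.ble (nat_lit 3494899) q)) (Bool.rec (motive := fun _ => ℕ) U_gi_24 U_gi_25 (Nat.ble (nat_lit 3618743) q)) (Nat.ble (nat_lit 3557621) q)) (Bool.rec (motive := fun _ => ℕ) (Bool.rec (motive := fun _ => ℕ) U_gi_26 U_gi_27 (Nat.ble (nat_lit 3742133) q)) (Bool.rec (motive := fun _ => ℕ) U_gi_28 U_gi_29 (Nat.ble (nat_lit 3866647) q)) (Nat.ble (nat_lit 3804701) q)) (Nat.ble (nat_lit 3680519) q)) (Nat.ble (nat_lit 3432547) q)) (Nat.ble (nat_lit 3003431) q)) q)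
noncomputable def VV_gi (q : ℕ) : ℕ := (Nat.mod (Bool.rec (motive := fun _ => ℕ) (Bool.rec (motive := fun _ => ℕ) (Bool.rec (motive := fun _ => ℕ) (Bool.rec (motive := fun _ => ℕ) V_gi_0 (Bool.rec (motive := fun _ => ℕ) V_gi_1 V_gi_2 (Nat.ble (nat_lit 2216629) q)) (Nat.ble (nat_lit 2156617) q)) (Bool.rec (motive := fun _ => ℕ) (Bool.rec (motive := fun _ => ℕ) V_gi_3 V_gi_4 (Nat.ble (nat_lit 2336801) q)) (Bool.rec (motive := fun _ => ℕ) V_gi_5 V_gi_6 (Nat.ble (nat_lit 2457439) q)) (Nat.ble (nat_lit 2397113) q)) (Nat.ble (nat_lit 2275913) q)) (Bool.rec (motive := fun _ => ℕ) (Bool.rec (motive := fun _ => ℕ) (Bool.rec (motive := fun _ => ℕ) V_gi_7 V_gi_8 (Nat.ble (nat_lit 2578019) q)) (Bool.rec (motive := fun _ => ℕ) V_gi_9 V_gi_10 (Nat.ble (nat_lit 2698847) q)) (Nat.ble (nat_lit 2638667) q)) (Bool.rec (motive := fun _ => ℕ) (Bool.rec (motive := fun _ => ℕ) V_gi_11 V_gi_12 (Nat.ble (nat_lit 2820239) q)) (Bool.rec (motive := fun _ => ℕ) V_gi_13 V_gi_14 (Nat.ble (nat_lit 2942477)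 q)) (Nat.ble (nat_lit 2881303) q)) (Nat.ble (nat_lit 2760049) q)) (Nat.ble (nat_lit 2517959) q)) (Bool.rec (motive := fun _ => ℕ) (Bool.rec (motive := fun _ => ℕ) (Bool.rec (motive := fun _ => ℕ) V_gi_15 (Bool.rec (motive := fun _ => ℕ) V_gi_16 V_gi_17 (Nat.ble (nat_lit 3126077) q)) (Nat.ble (nat_lit 3065533) q)) (Bool.rec (motive := fun _ => ℕ) (Bool.rec (motive := fun _ => ℕ) V_gi_18 V_gi_19 (Nat.ble (nat_lit 3247781) q)) (Bool.rec (motive := fun _ => ℕ) V_gi_20 V_gi_21 (Nat.ble (nat_lit 3371257) q)) (Nat.ble (nat_lit 3309379) q)) (Nat.ble (nat_lit 3187213) q)) (Bool.rec (motive := fun _ => ℕ) (Bool.rec (motive := fun _ => ℕ) (Bool.rec (motive := fun _ => ℕ) V_gi_22 V_gi_23 (Nat.ble (nat_lit 3494899) q)) (Bool.rec (motive := fun _ => ℕ) V_gi_24 V_gi_25 (Nat.ble (nat_lit 3618743) q)) (Nat.ble (nat_lit 3557621) q)) (Bool.rec (motive := fun _ => ℕ) (Bool.rec (motive := fun _ => ℕ) V_gi_26 V_gi_27 (Nat.ble (nat_lit 3742133) q)) (Bool.rec (motive := fun _ => ℕ) V_gi_28 V_gi_29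 (Nat.ble (nat_lit 3866647) q)) (Nat.ble (nat_lit 3804701) q)) (Nat.ble (nat_lit 3680519) q)) (Nat.ble (nat_lit 3432547) q)) (Nat.ble (nat_lit 3003431) q)) q)
noncomputable def G_gi (t q : ℕ) : ℕ := Bool.rec (motive := fun _ => ℕ) (nat_lit 0) (F_gi q) (Nat.ble (Nat.succ (UU_gi q)) t)
noncomputable def F_a (q : ℕ) : ℕ := Nat.add (nat_lit 2097152) (Nat.mod (Bool.rec (motive := fun _ => ℕ) (Bool.rec (motive := fun _ => ℕ) (Bool.rec (motive := fun _ => ℕ) (Bool.rec (motive := fun _ => ℕ) T_a_0 (Bool.rec (motive := fun _ => ℕ) T_a_1 T_a_2 (Nat.ble (nat_lit 2216629) q)) (Nat.ble (nat_lit 2156617) q)) (Bool.rec (motive := fun _ => ℕ) (Bool.rec (motive := fun _ => ℕ) T_a_3 T_a_4 (Nat.ble (nat_lit 2336801) q)) (Bool.rec (motive := fun _ => ℕ) T_a_5 T_a_6 (Nat.ble (nat_lit 2457439) q)) (Nat.ble (nat_lit 2397113) q)) (Nat.ble (nat_lit 2275913) q)) (Bool.rec (motive := fun _ => ℕ) (Bool.rec (motive := fun _ => ℕ) (Bool.rec (motive := fun _ => ℕ) T_a_7 T_a_8 (Nat.ble (nat_lit 2578019)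 q)) (Bool.rec (motive := fun _ => ℕ) T_a_9 T_a_10 (Nat.ble (nat_lit 2698847) q)) (Nat.ble (nat_lit 2638667) q)) (Bool.rec (motive := fun _ => ℕ) (Bool.rec (motive := fun _ => ℕ) T_a_11 T_a_12 (Nat.ble (nat_lit 2820239) q)) (Bool.rec (motive := fun _ => ℕ) T_a_13 T_a_14 (Nat.ble (nat_lit 2942477) q)) (Nat.ble (nat_lit 2881303) q)) (Nat.ble (nat_lit 2760049) q)) (Nat.ble (nat_lit 2517959) q)) (Bool.rec (motive := fun _ => ℕ) (Bool.rec (motive := fun _ => ℕ) (Bool.rec (motive := fun _ => ℕ) T_a_15 (Bool.rec (motive := fun _ => ℕ) T_a_16 T_a_17 (Nat.ble (nat_lit 3126077) q)) (Nat.ble (nat_lit 3065533) q)) (Bool.rec (motive := fun _ => ℕ) (Bool.rec (motive := fun _ => ℕ) T_a_18 T_a_19 (Nat.ble (nat_lit 3247781) q)) (Bool.rec (motive := fun _ => ℕ) T_a_20 T_a_21 (Nat.ble (nat_lit 3371257) q)) (Nat.ble (nat_lit 3309379) q)) (Nat.ble (nat_lit 3187213) q)) (Bool.rec (motive := fun _ => ℕ) (Bool.rec (motive := fun _ => ℕ) (Bool.rec (motive := fun _ => ℕ) T_a_22 T_a_23 (Nat.ble (nat_lit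 3494899) q)) (Bool.rec (motive := fun _ => ℕ) T_a_24 T_a_25 (Nat.ble (nat_lit 3618743) q)) (Nat.ble (nat_lit 3557621) q)) (Bool.rec (motive := fun _ => ℕ) (Bool.rec (motive := fun _ => ℕ) T_a_26 T_a_27 (Nat.ble (nat_lit 3742133) q)) (Bool.rec (motive := fun _ => ℕ) T_a_28 T_a_29 (Nat.ble (nat_lit 3866647) q)) (Nat.ble (nat_lit 3804701) q)) (Nat.ble (nat_lit 3680519) q)) (Nat.ble (nat_lit 3432547) q)) (Nat.ble (nat_lit 3003431) q)) q)
noncomputable def UU_a (q : ℕ) : ℕ := (Nat.mod (Bool.rec (motive := fun _ => ℕ) (Bool.rec (motive := fun _ => ℕ) (Bool.rec (motive := fun _ => ℕ) (Bool.rec (motive := fun _ => ℕ) U_a_0 (Bool.rec (motive := fun _ => ℕ) U_a_1 U_a_2 (Nat.ble (nat_lit 2216629) q)) (Nat.ble (nat_lit 2156617) q)) (Bool.rec (motive := fun _ => ℕ) (Bool.rec (motive := fun _ => ℕ) U_a_3 U_a_4 (Nat.ble (nat_lit 2336801) q)) (Bool.rec (motive := fun _ => ℕ) U_a_5 U_a_6 (Nat.ble (nat_lit 2457439) q)) (Nat.ble (nat_lit 2397113) q)) (Nat.ble (nat_lit 2275913) q)) (Bool.rec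 (motive := fun _ => ℕ) (Bool.rec (motive := fun _ => ℕ) (Bool.rec (motive := fun _ => ℕ) U_a_7 U_a_8 (Nat.ble (nat_lit 2578019) q)) (Bool.rec (motive := fun _ => ℕ) U_a_9 U_a_10 (Nat.ble (nat_lit 2698847) q)) (Nat.ble (nat_lit 2638667) q)) (Bool.rec (motive := fun _ => ℕ) (Bool.rec (motive := fun _ => ℕ) U_a_11 U_a_12 (Nat.ble (nat_lit 2820239) q)) (Bool.rec (motive := fun _ => ℕ) U_a_13 U_a_14 (Nat.ble (nat_lit 2942477) q)) (Nat.ble (nat_lit 2881303) q)) (Nat.ble (nat_lit 2760049) q)) (Nat.ble (nat_lit 2517959) q)) (Bool.rec (motive := fun _ => ℕ) (Bool.rec (motive := fun _ => ℕ) (Bool.rec (motive := fun _ => ℕ) U_a_15 (Bool.rec (motive := fun _ => ℕ) U_a_16 U_a_17 (Nat.ble (nat_lit 3126077) q)) (Nat.ble (nat_lit 3065533) q)) (Bool.rec (motive := fun _ => ℕ) (Bool.rec (motive := fun _ => ℕ) U_a_18 U_a_19 (Nat.ble (nat_lit 3247781) q)) (Bool.rec (motive := fun _ => ℕ) U_a_20 U_a_21 (Nat.ble (nat_lit 3371257) q)) (Nat.ble (nat_lit 3309379) q)) (Nat.ble (nat_lit 3187213) q))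 (Bool.rec (motive := fun _ => ℕ) (Bool.rec (motive := fun _ => ℕ) (Bool.rec (motive := fun _ => ℕ) U_a_22 U_a_23 (Nat.ble (nat_lit 3494899) q)) (Bool.rec (motive := fun _ => ℕ) U_a_24 U_a_25 (Nat.ble (nat_lit 3618743) q)) (Nat.ble (nat_lit 3557621) q)) (Bool.rec (motive := fun _ => ℕ) (Bool.rec (motive := fun _ => ℕ) U_a_26 U_a_27 (Nat.ble (nat_lit 3742133) q)) (Bool.rec (motive := fun _ => ℕ) U_a_28 U_a_29 (Nat.ble (nat_lit 3866647) q)) (Nat.ble (nat_lit 3804701) q)) (Nat.ble (nat_lit 3680519) q)) (Nat.ble (nat_lit 3432547) q)) (Nat.ble (nat_lit 3003431) q)) q)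
noncomputable def VV_a (q : ℕ) : ℕ := (Nat.mod (Bool.rec (motive := fun _ => ℕ) (Bool.rec (motive := fun _ => ℕ) (Bool.rec (motive := fun _ => ℕ) (Bool.rec (motive := fun _ => ℕ) V_a_0 (Bool.rec (motive := fun _ => ℕ) V_a_1 V_a_2 (Nat.ble (nat_lit 2216629) q)) (Nat.ble (nat_lit 2156617) q)) (Bool.rec (motive := fun _ => ℕ) (Bool.rec (motive := fun _ => ℕ) V_a_3 V_a_4 (Nat.ble (nat_lit 2336801) q)) (Bool.rec (motive := fun _ => ℕ) V_a_5 V_a_6 (Nat.ble (nat_lit 2457439) q)) (Nat.ble (nat_lit 2397113) q)) (Nat.ble (nat_lit 2275913) q)) (Bool.rec (motive := fun _ => ℕ) (Bool.rec (motive := fun _ => ℕ) (Bool.rec (motive := fun _ => ℕ) V_a_7 V_a_8 (Nat.ble (nat_lit 2578019) q)) (Bool.rec (motive := fun _ => ℕ) V_a_9 V_a_10 (Nat.ble (nat_lit 2698847) q)) (Nat.ble (nat_lit 2638667) q)) (Bool.rec (motive := fun _ => ℕ) (Bool.rec (motive := fun _ => ℕ) V_a_11 V_a_12 (Nat.ble (nat_lit 2820239) q)) (Bool.rec (motive := fun _ => ℕ) V_a_13 V_a_14 (Nat.ble (nat_lit 2942477) q)) (Nat.ble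 (nat_lit 2881303) q)) (Nat.ble (nat_lit 2760049) q)) (Nat.ble (nat_lit 2517959) q)) (Bool.rec (motive := fun _ => ℕ) (Bool.rec (motive := fun _ => ℕ) (Bool.rec (motive := fun _ => ℕ) V_a_15 (Bool.rec (motive := fun _ => ℕ) V_a_16 V_a_17 (Nat.ble (nat_lit 3126077) q)) (Nat.ble (nat_lit 3065533) q)) (Bool.rec (motive := fun _ => ℕ) (Bool.rec (motive := fun _ => ℕ) V_a_18 V_a_19 (Nat.ble (nat_lit 3247781) q)) (Bool.rec (motive := fun _ => ℕ) V_a_20 V_a_21 (Nat.ble (nat_lit 3371257) q)) (Nat.ble (nat_lit 3309379) q)) (Nat.ble (nat_lit 3187213) q)) (Bool.rec (motive := fun _ => ℕ) (Bool.rec (motive := fun _ => ℕ) (Bool.rec (motive := fun _ => ℕ) V_a_22 V_a_23 (Nat.ble (nat_lit 3494899) q)) (Bool.rec (motive := fun _ => ℕ) V_a_24 V_a_25 (Nat.ble (nat_lit 3618743) q)) (Nat.ble (nat_lit 3557621) q)) (Bool.rec (motive := fun _ => ℕ) (Bool.rec (motive := fun _ => ℕ) V_a_26 V_a_27 (Nat.ble (nat_lit 3742133) q)) (Bool.rec (motive := fun _ => ℕ) V_a_28 V_a_29 (Nat.ble (nat_lit 3866647)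 q)) (Nat.ble (nat_lit 3804701) q)) (Nat.ble (nat_lit 3680519) q)) (Nat.ble (nat_lit 3432547) q)) (Nat.ble (nat_lit 3003431) q)) q)
noncomputable def G_a (t q : ℕ) : ℕ := Bool.rec (motive := fun _ => ℕ) (nat_lit 0) (F_a q) (Nat.ble (Nat.succ (UU_a q)) t)
noncomputable def F_b (q : ℕ) : ℕ := Nat.add (nat_lit 2097152) (Nat.mod (Bool.rec (motive := fun _ => ℕ) (Bool.rec (motive := fun _ => ℕ) (Bool.rec (motive := fun _ => ℕ) (Bool.rec (motive := fun _ => ℕ) T_b_0 (Bool.rec (motive := fun _ => ℕ) T_b_1 T_b_2 (Nat.ble (nat_lit 2216629) q)) (Nat.ble (nat_lit 2156617) q)) (Bool.rec (motive := fun _ => ℕ) (Bool.rec (motive := fun _ => ℕ) T_b_3 T_b_4 (Nat.ble (nat_lit 2336801) q)) (Bool.rec (motive := fun _ => ℕ) T_b_5 T_b_6 (Nat.ble (nat_lit 2457439) q)) (Nat.ble (nat_lit 2397113) q)) (Nat.ble (nat_lit 2275913) q)) (Bool.rec (motive := fun _ => ℕ) (Bool.rec (motive := fun _ => ℕ) (Bool.rec (motive := fun _ => ℕ) T_b_7 T_b_8 (Nat.ble (nat_lit 2578019) q)) (Bool.rec (motive := fun _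 => ℕ) T_b_9 T_b_10 (Nat.ble (nat_lit 2698847) q)) (Nat.ble (nat_lit 2638667) q)) (Bool.rec (motive := fun _ => ℕ) (Bool.rec (motive := fun _ => ℕ) T_b_11 T_b_12 (Nat.ble (nat_lit 2820239) q)) (Bool.rec (motive := fun _ => ℕ) T_b_13 T_b_14 (Nat.ble (nat_lit 2942477) q)) (Nat.ble (nat_lit 2881303) q)) (Nat.ble (nat_lit 2760049) q)) (Nat.ble (nat_lit 2517959) q)) (Bool.rec (motive := fun _ => ℕ) (Bool.rec (motive := fun _ => ℕ) (Bool.rec (motive := fun _ => ℕ) T_b_15 (Bool.rec (motive := fun _ => ℕ) T_b_16 T_b_17 (Nat.ble (nat_lit 3126077) q)) (Nat.ble (nat_lit 3065533) q)) (Bool.rec (motive := fun _ => ℕ) (Bool.rec (motive := fun _ => ℕ) T_b_18 T_b_19 (Nat.ble (nat_lit 3247781) q)) (Bool.rec (motive := fun _ => ℕ) T_b_20 T_b_21 (Nat.ble (nat_lit 3371257) q)) (Nat.ble (nat_lit 3309379) q)) (Nat.ble (nat_lit 3187213) q)) (Bool.rec (motive := fun _ => ℕ) (Bool.rec (motive := fun _ => ℕ) (Bool.rec (motive := fun _ => ℕ) T_b_22 T_b_23 (Nat.ble (nat_lit 3494899) q)) (Bool.rec (motive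 := fun _ => ℕ) T_b_24 T_b_25 (Nat.ble (nat_lit 3618743) q)) (Nat.ble (nat_lit 3557621) q)) (Bool.rec (motive := fun _ => ℕ) (Bool.rec (motive := fun _ => ℕ) T_b_26 T_b_27 (Nat.ble (nat_lit 3742133) q)) (Bool.rec (motive := fun _ => ℕ) T_b_28 T_b_29 (Nat.ble (nat_lit 3866647) q)) (Nat.ble (nat_lit 3804701) q)) (Nat.ble (nat_lit 3680519) q)) (Nat.ble (nat_lit 3432547) q)) (Nat.ble (nat_lit 3003431) q)) q)
noncomputable def UU_b (q : ℕ) : ℕ := (Nat.mod (Bool.rec (motive := fun _ => ℕ) (Bool.rec (motive := fun _ => ℕ) (Bool.rec (motive := fun _ => ℕ) (Bool.rec (motive := fun _ => ℕ) U_b_0 (Bool.rec (motive := fun _ => ℕ) U_b_1 U_b_2 (Nat.ble (nat_lit 2216629) q)) (Nat.ble (nat_lit 2156617) q)) (Bool.rec (motive := fun _ => ℕ) (Bool.rec (motive := fun _ => ℕ) U_b_3 U_b_4 (Nat.ble (nat_lit 2336801) q)) (Bool.rec (motive := fun _ => ℕ) U_b_5 U_b_6 (Nat.ble (nat_lit 2457439) q)) (Nat.ble (nat_lit 2397113) q)) (Nat.ble (nat_lit 2275913) q)) (Bool.rec (motive := fun _ => ℕ) (Bool.rec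 (motive := fun _ => ℕ) (Bool.rec (motive := fun _ => ℕ) U_b_7 U_b_8 (Nat.ble (nat_lit 2578019) q)) (Bool.rec (motive := fun _ => ℕ) U_b_9 U_b_10 (Nat.ble (nat_lit 2698847) q)) (Nat.ble (nat_lit 2638667) q)) (Bool.rec (motive := fun _ => ℕ) (Bool.rec (motive := fun _ => ℕ) U_b_11 U_b_12 (Nat.ble (nat_lit 2820239) q)) (Bool.rec (motive := fun _ => ℕ) U_b_13 U_b_14 (Nat.ble (nat_lit 2942477) q)) (Nat.ble (nat_lit 2881303) q)) (Nat.ble (nat_lit 2760049) q)) (Nat.ble (nat_lit 2517959) q)) (Bool.rec (motive := fun _ => ℕ) (Bool.rec (motive := fun _ => ℕ) (Bool.rec (motive := fun _ => ℕ) U_b_15 (Bool.rec (motive := fun _ => ℕ) U_b_16 U_b_17 (Nat.ble (nat_lit 3126077) q)) (Nat.ble (nat_lit 3065533) q)) (Bool.rec (motive := fun _ => ℕ) (Bool.rec (motive := fun _ => ℕ) U_b_18 U_b_19 (Nat.ble (nat_lit 3247781) q)) (Bool.rec (motive := fun _ => ℕ) U_b_20 U_b_21 (Nat.ble (nat_lit 3371257) q)) (Nat.ble (nat_lit 3309379) q)) (Nat.ble (nat_lit 3187213) q)) (Bool.rec (motive := fun _ => ℕ)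 (Bool.rec (motive := fun _ => ℕ) (Bool.rec (motive := fun _ => ℕ) U_b_22 U_b_23 (Nat.ble (nat_lit 3494899) q)) (Bool.rec (motive := fun _ => ℕ) U_b_24 U_b_25 (Nat.ble (nat_lit 3618743) q)) (Nat.ble (nat_lit 3557621) q)) (Bool.rec (motive := fun _ => ℕ) (Bool.rec (motive := fun _ => ℕ) U_b_26 U_b_27 (Nat.ble (nat_lit 3742133) q)) (Bool.rec (motive := fun _ => ℕ) U_b_28 U_b_29 (Nat.ble (nat_lit 3866647) q)) (Nat.ble (nat_lit 3804701) q)) (Nat.ble (nat_lit 3680519) q)) (Nat.ble (nat_lit 3432547) q)) (Nat.ble (nat_lit 3003431) q)) q)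
noncomputable def VV_b (q : ℕ) : ℕ := (Nat.mod (Bool.rec (motive := fun _ => ℕ) (Bool.rec (motive := fun _ => ℕ) (Bool.rec (motive := fun _ => ℕ) (Bool.rec (motive := fun _ => ℕ) V_b_0 (Bool.rec (motive := fun _ => ℕ) V_b_1 V_b_2 (Nat.ble (nat_lit 2216629) q)) (Nat.ble (nat_lit 2156617) q)) (Bool.rec (motive := fun _ => ℕ) (Bool.rec (motive := fun _ => ℕ) V_b_3 V_b_4 (Nat.ble (nat_lit 2336801) q)) (Bool.rec (motive := fun _ => ℕ) V_b_5 V_b_6 (Nat.ble (nat_lit 2457439) q)) (Nat.ble (nat_lit 2397113) q)) (Nat.ble (nat_lit 2275913) q)) (Bool.rec (motive := fun _ => ℕ) (Bool.rec (motive := fun _ => ℕ) (Bool.rec (motive := fun _ => ℕ) V_b_7 V_b_8 (Nat.ble (nat_lit 2578019) q)) (Bool.rec (motive := fun _ => ℕ) V_b_9 V_b_10 (Nat.ble (nat_lit 2698847) q)) (Nat.ble (nat_lit 2638667) q)) (Bool.rec (motive := fun _ => ℕ) (Bool.rec (motive := fun _ => ℕ) V_b_11 V_b_12 (Nat.ble (nat_lit 2820239) q)) (Bool.rec (motive := fun _ => ℕ) V_b_13 V_b_14 (Nat.ble (nat_lit 2942477) q)) (Nat.ble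 (nat_lit 2881303) q)) (Nat.ble (nat_lit 2760049) q)) (Nat.ble (nat_lit 2517959) q)) (Bool.rec (motive := fun _ => ℕ) (Bool.rec (motive := fun _ => ℕ) (Bool.rec (motive := fun _ => ℕ) V_b_15 (Bool.rec (motive := fun _ => ℕ) V_b_16 V_b_17 (Nat.ble (nat_lit 3126077) q)) (Nat.ble (nat_lit 3065533) q)) (Bool.rec (motive := fun _ => ℕ) (Bool.rec (motive := fun _ => ℕ) V_b_18 V_b_19 (Nat.ble (nat_lit 3247781) q)) (Bool.rec (motive := fun _ => ℕ) V_b_20 V_b_21 (Nat.ble (nat_lit 3371257) q)) (Nat.ble (nat_lit 3309379) q)) (Nat.ble (nat_lit 3187213) q)) (Bool.rec (motive := fun _ => ℕ) (Bool.rec (motive := fun _ => ℕ) (Bool.rec (motive := fun _ => ℕ) V_b_22 V_b_23 (Nat.ble (nat_lit 3494899) q)) (Bool.rec (motive := fun _ => ℕ) V_b_24 V_b_25 (Nat.ble (nat_lit 3618743) q)) (Nat.ble (nat_lit 3557621) q)) (Bool.rec (motive := fun _ => ℕ) (Bool.rec (motive := fun _ => ℕ) V_b_26 V_b_27 (Nat.ble (nat_lit 3742133) q)) (Bool.rec (motive := fun _ => ℕ) V_b_28 V_b_29 (Nat.ble (nat_lit 3866647)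 q)) (Nat.ble (nat_lit 3804701) q)) (Nat.ble (nat_lit 3680519) q)) (Nat.ble (nat_lit 3432547) q)) (Nat.ble (nat_lit 3003431) q)) q)
noncomputable def G_b (t q : ℕ) : ℕ := Bool.rec (motive := fun _ => ℕ) (nat_lit 0) (F_b q) (Nat.ble (Nat.succ (UU_b q)) t)
noncomputable def F_c (q : ℕ) : ℕ := Nat.add (nat_lit 2097152) (Nat.mod (Bool.rec (motive := fun _ => ℕ) (Bool.rec (motive := fun _ => ℕ) (Bool.rec (motive := fun _ => ℕ) (Bool.rec (motive := fun _ => ℕ) T_c_0 (Bool.rec (motive := fun _ => ℕ) T_c_1 T_c_2 (Nat.ble (nat_lit 2216629) q)) (Nat.ble (nat_lit 2156617) q)) (Bool.rec (motive := fun _ => ℕ) (Bool.rec (motive := fun _ => ℕ) T_c_3 T_c_4 (Nat.ble (nat_lit 2336801) q)) (Bool.rec (motive := fun _ => ℕ) T_c_5 T_c_6 (Nat.ble (nat_lit 2457439) q)) (Nat.ble (nat_lit 2397113) q)) (Nat.ble (nat_lit 2275913) q)) (Bool.rec (motive := fun _ => ℕ) (Bool.rec (motive := fun _ => ℕ) (Bool.rec (motive := fun _ => ℕ) T_c_7 T_c_8 (Nat.ble (nat_lit 2578019) q)) (Bool.rec (motive := fun _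 => ℕ) T_c_9 T_c_10 (Nat.ble (nat_lit 2698847) q)) (Nat.ble (nat_lit 2638667) q)) (Bool.rec (motive := fun _ => ℕ) (Bool.rec (motive := fun _ => ℕ) T_c_11 T_c_12 (Nat.ble (nat_lit 2820239) q)) (Bool.rec (motive := fun _ => ℕ) T_c_13 T_c_14 (Nat.ble (nat_lit 2942477) q)) (Nat.ble (nat_lit 2881303) q)) (Nat.ble (nat_lit 2760049) q)) (Nat.ble (nat_lit 2517959) q)) (Bool.rec (motive := fun _ => ℕ) (Bool.rec (motive := fun _ => ℕ) (Bool.rec (motive := fun _ => ℕ) T_c_15 (Bool.rec (motive := fun _ => ℕ) T_c_16 T_c_17 (Nat.ble (nat_lit 3126077) q)) (Nat.ble (nat_lit 3065533) q)) (Bool.rec (motive := fun _ => ℕ) (Bool.rec (motive := fun _ => ℕ) T_c_18 T_c_19 (Nat.ble (nat_lit 3247781) q)) (Bool.rec (motive := fun _ => ℕ) T_c_20 T_c_21 (Nat.ble (nat_lit 3371257) q)) (Nat.ble (nat_lit 3309379) q)) (Nat.ble (nat_lit 3187213) q)) (Bool.rec (motive := fun _ => ℕ) (Bool.rec (motive := fun _ => ℕ) (Bool.rec (motive := fun _ => ℕ) T_c_22 T_c_23 (Nat.ble (nat_lit 3494899) q)) (Bool.rec (motive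 := fun _ => ℕ) T_c_24 T_c_25 (Nat.ble (nat_lit 3618743) q)) (Nat.ble (nat_lit 3557621) q)) (Bool.rec (motive := fun _ => ℕ) (Bool.rec (motive := fun _ => ℕ) T_c_26 T_c_27 (Nat.ble (nat_lit 3742133) q)) (Bool.rec (motive := fun _ => ℕ) T_c_28 T_c_29 (Nat.ble (nat_lit 3866647) q)) (Nat.ble (nat_lit 3804701) q)) (Nat.ble (nat_lit 3680519) q)) (Nat.ble (nat_lit 3432547) q)) (Nat.ble (nat_lit 3003431) q)) q)
noncomputable def UU_c (q : ℕ) : ℕ := (Nat.mod (Bool.rec (motive := fun _ => ℕ) (Bool.rec (motive := fun _ => ℕ) (Bool.rec (motive := fun _ => ℕ) (Bool.rec (motive := fun _ => ℕ) U_c_0 (Bool.rec (motive := fun _ => ℕ) U_c_1 U_c_2 (Nat.ble (nat_lit 2216629) q)) (Nat.ble (nat_lit 2156617) q)) (Bool.rec (motive := fun _ => ℕ) (Bool.rec (motive := fun _ => ℕ) U_c_3 U_c_4 (Nat.ble (nat_lit 2336801) q)) (Bool.rec (motive := fun _ => ℕ) U_c_5 U_c_6 (Nat.ble (nat_lit 2457439) q)) (Nat.ble (nat_lit 2397113) q)) (Nat.ble (nat_lit 2275913) q)) (Bool.rec (motive := fun _ => ℕ) (Bool.rec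 (motive := fun _ => ℕ) (Bool.rec (motive := fun _ => ℕ) U_c_7 U_c_8 (Nat.ble (nat_lit 2578019) q)) (Bool.rec (motive := fun _ => ℕ) U_c_9 U_c_10 (Nat.ble (nat_lit 2698847) q)) (Nat.ble (nat_lit 2638667) q)) (Bool.rec (motive := fun _ => ℕ) (Bool.rec (motive := fun _ => ℕ) U_c_11 U_c_12 (Nat.ble (nat_lit 2820239) q)) (Bool.rec (motive := fun _ => ℕ) U_c_13 U_c_14 (Nat.ble (nat_lit 2942477) q)) (Nat.ble (nat_lit 2881303) q)) (Nat.ble (nat_lit 2760049) q)) (Nat.ble (nat_lit 2517959) q)) (Bool.rec (motive := fun _ => ℕ) (Bool.rec (motive := fun _ => ℕ) (Bool.rec (motive := fun _ => ℕ) U_c_15 (Bool.rec (motive := fun _ => ℕ) U_c_16 U_c_17 (Nat.ble (nat_lit 3126077) q)) (Nat.ble (nat_lit 3065533) q)) (Bool.rec (motive := fun _ => ℕ) (Bool.rec (motive := fun _ => ℕ) U_c_18 U_c_19 (Nat.ble (nat_lit 3247781) q)) (Bool.rec (motive := fun _ => ℕ) U_c_20 U_c_21 (Nat.ble (nat_lit 3371257) q)) (Nat.ble (nat_lit 3309379) q)) (Nat.ble (nat_lit 3187213) q)) (Bool.rec (motive := fun _ => ℕ)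 (Bool.rec (motive := fun _ => ℕ) (Bool.rec (motive := fun _ => ℕ) U_c_22 U_c_23 (Nat.ble (nat_lit 3494899) q)) (Bool.rec (motive := fun _ => ℕ) U_c_24 U_c_25 (Nat.ble (nat_lit 3618743) q)) (Nat.ble (nat_lit 3557621) q)) (Bool.rec (motive := fun _ => ℕ) (Bool.rec (motive := fun _ => ℕ) U_c_26 U_c_27 (Nat.ble (nat_lit 3742133) q)) (Bool.rec (motive := fun _ => ℕ) U_c_28 U_c_29 (Nat.ble (nat_lit 3866647) q)) (Nat.ble (nat_lit 3804701) q)) (Nat.ble (nat_lit 3680519) q)) (Nat.ble (nat_lit 3432547) q)) (Nat.ble (nat_lit 3003431) q)) q)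
noncomputable def VV_c (q : ℕ) : ℕ := (Nat.mod (Bool.rec (motive := fun _ => ℕ) (Bool.rec (motive := fun _ => ℕ) (Bool.rec (motive := fun _ => ℕ) (Bool.rec (motive := fun _ => ℕ) V_c_0 (Bool.rec (motive := fun _ => ℕ) V_c_1 V_c_2 (Nat.ble (nat_lit 2216629) q)) (Nat.ble (nat_lit 2156617) q)) (Bool.rec (motive := fun _ => ℕ) (Bool.rec (motive := fun _ => ℕ) V_c_3 V_c_4 (Nat.ble (nat_lit 2336801) q)) (Bool.rec (motive := fun _ => ℕ) V_c_5 V_c_6 (Nat.ble (nat_lit 2457439) q)) (Nat.ble (nat_lit 2397113) q)) (Nat.ble (nat_lit 2275913) q)) (Bool.rec (motive := fun _ => ℕ) (Bool.rec (motive := fun _ => ℕ) (Bool.rec (motive := fun _ => ℕ) V_c_7 V_c_8 (Nat.ble (nat_lit 2578019) q)) (Bool.rec (motive := fun _ => ℕ) V_c_9 V_c_10 (Nat.ble (nat_lit 2698847) q)) (Nat.ble (nat_lit 2638667) q)) (Bool.rec (motive := fun _ => ℕ) (Bool.rec (motive := fun _ => ℕ) V_c_11 V_c_12 (Nat.ble (nat_lit 2820239) q)) (Bool.rec (motive := fun _ => ℕ) V_c_13 V_c_14 (Nat.ble (nat_lit 2942477) q)) (Nat.ble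 (nat_lit 2881303) q)) (Nat.ble (nat_lit 2760049) q)) (Nat.ble (nat_lit 2517959) q)) (Bool.rec (motive := fun _ => ℕ) (Bool.rec (motive := fun _ => ℕ) (Bool.rec (motive := fun _ => ℕ) V_c_15 (Bool.rec (motive := fun _ => ℕ) V_c_16 V_c_17 (Nat.ble (nat_lit 3126077) q)) (Nat.ble (nat_lit 3065533) q)) (Bool.rec (motive := fun _ => ℕ) (Bool.rec (motive := fun _ => ℕ) V_c_18 V_c_19 (Nat.ble (nat_lit 3247781) q)) (Bool.rec (motive := fun _ => ℕ) V_c_20 V_c_21 (Nat.ble (nat_lit 3371257) q)) (Nat.ble (nat_lit 3309379) q)) (Nat.ble (nat_lit 3187213) q)) (Bool.rec (motive := fun _ => ℕ) (Bool.rec (motive := fun _ => ℕ) (Bool.rec (motive := fun _ => ℕ) V_c_22 V_c_23 (Nat.ble (nat_lit 3494899) q)) (Bool.rec (motive := fun _ => ℕ) V_c_24 V_c_25 (Nat.ble (nat_lit 3618743) q)) (Nat.ble (nat_lit 3557621) q)) (Bool.rec (motive := fun _ => ℕ) (Bool.rec (motive := fun _ => ℕ) V_c_26 V_c_27 (Nat.ble (nat_lit 3742133) q)) (Bool.rec (motive := fun _ => ℕ) V_c_28 V_c_29 (Nat.ble (nat_lit 3866647)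 q)) (Nat.ble (nat_lit 3804701) q)) (Nat.ble (nat_lit 3680519) q)) (Nat.ble (nat_lit 3432547) q)) (Nat.ble (nat_lit 3003431) q)) q)
noncomputable def G_c (t q : ℕ) : ℕ := Bool.rec (motive := fun _ => ℕ) (nat_lit 0) (F_c q) (Nat.ble (Nat.succ (UU_c q)) t)
noncomputable def F_d (q : ℕ) : ℕ := Nat.add (nat_lit 2097152) (Nat.mod (Bool.rec (motive := fun _ => ℕ) (Bool.rec (motive := fun _ => ℕ) (Bool.rec (motive := fun _ => ℕ) (Bool.rec (motive := fun _ => ℕ) T_d_0 (Bool.rec (motive := fun _ => ℕ) T_d_1 T_d_2 (Nat.ble (nat_lit 2216629) q)) (Nat.ble (nat_lit 2156617) q)) (Bool.rec (motive := fun _ => ℕ) (Bool.rec (motive := fun _ => ℕ) T_d_3 T_d_4 (Nat.ble (nat_lit 2336801) q)) (Bool.rec (motive := fun _ => ℕ) T_d_5 T_d_6 (Nat.ble (nat_lit 2457439) q)) (Nat.ble (nat_lit 2397113) q)) (Nat.ble (nat_lit 2275913) q)) (Bool.rec (motive := fun _ => ℕ) (Bool.rec (motive := fun _ => ℕ) (Bool.rec (motive := fun _ => ℕ) T_d_7 T_d_8 (Nat.ble (nat_lit 2578019) q)) (Bool.rec (motive := fun _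 => ℕ) T_d_9 T_d_10 (Nat.ble (nat_lit 2698847) q)) (Nat.ble (nat_lit 2638667) q)) (Bool.rec (motive := fun _ => ℕ) (Bool.rec (motive := fun _ => ℕ) T_d_11 T_d_12 (Nat.ble (nat_lit 2820239) q)) (Bool.rec (motive := fun _ => ℕ) T_d_13 T_d_14 (Nat.ble (nat_lit 2942477) q)) (Nat.ble (nat_lit 2881303) q)) (Nat.ble (nat_lit 2760049) q)) (Nat.ble (nat_lit 2517959) q)) (Bool.rec (motive := fun _ => ℕ) (Bool.rec (motive := fun _ => ℕ) (Bool.rec (motive := fun _ => ℕ) T_d_15 (Bool.rec (motive := fun _ => ℕ) T_d_16 T_d_17 (Nat.ble (nat_lit 3126077) q)) (Nat.ble (nat_lit 3065533) q)) (Bool.rec (motive := fun _ => ℕ) (Bool.rec (motive := fun _ => ℕ) T_d_18 T_d_19 (Nat.ble (nat_lit 3247781) q)) (Bool.rec (motive := fun _ => ℕ) T_d_20 T_d_21 (Nat.ble (nat_lit 3371257) q)) (Nat.ble (nat_lit 3309379) q)) (Nat.ble (nat_lit 3187213) q)) (Bool.rec (motive := fun _ => ℕ) (Bool.rec (motive := fun _ => ℕ) (Bool.rec (motive := fun _ => ℕ) T_d_22 T_d_23 (Nat.ble (nat_lit 3494899) q)) (Bool.rec (motive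 := fun _ => ℕ) T_d_24 T_d_25 (Nat.ble (nat_lit 3618743) q)) (Nat.ble (nat_lit 3557621) q)) (Bool.rec (motive := fun _ => ℕ) (Bool.rec (motive := fun _ => ℕ) T_d_26 T_d_27 (Nat.ble (nat_lit 3742133) q)) (Bool.rec (motive := fun _ => ℕ) T_d_28 T_d_29 (Nat.ble (nat_lit 3866647) q)) (Nat.ble (nat_lit 3804701) q)) (Nat.ble (nat_lit 3680519) q)) (Nat.ble (nat_lit 3432547) q)) (Nat.ble (nat_lit 3003431) q)) q)
noncomputable def UU_d (q : ℕ) : ℕ := (Nat.mod (Bool.rec (motive := fun _ => ℕ) (Bool.rec (motive := fun _ => ℕ) (Bool.rec (motive := fun _ => ℕ) (Bool.rec (motive := fun _ => ℕ) U_d_0 (Bool.rec (motive := fun _ => ℕ) U_d_1 U_d_2 (Nat.ble (nat_lit 2216629) q)) (Nat.ble (nat_lit 2156617) q)) (Bool.rec (motive := fun _ => ℕ) (Bool.rec (motive := fun _ => ℕ) U_d_3 U_d_4 (Nat.ble (nat_lit 2336801) q)) (Bool.rec (motive := fun _ => ℕ) U_d_5 U_d_6 (Nat.ble (nat_lit 2457439) q)) (Nat.ble (nat_lit 2397113) q)) (Nat.ble (nat_lit 2275913) q)) (Bool.rec (motive := fun _ => ℕ) (Bool.rec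 (motive := fun _ => ℕ) (Bool.rec (motive := fun _ => ℕ) U_d_7 U_d_8 (Nat.ble (nat_lit 2578019) q)) (Bool.rec (motive := fun _ => ℕ) U_d_9 U_d_10 (Nat.ble (nat_lit 2698847) q)) (Nat.ble (nat_lit 2638667) q)) (Bool.rec (motive := fun _ => ℕ) (Bool.rec (motive := fun _ => ℕ) U_d_11 U_d_12 (Nat.ble (nat_lit 2820239) q)) (Bool.rec (motive := fun _ => ℕ) U_d_13 U_d_14 (Nat.ble (nat_lit 2942477) q)) (Nat.ble (nat_lit 2881303) q)) (Nat.ble (nat_lit 2760049) q)) (Nat.ble (nat_lit 2517959) q)) (Bool.rec (motive := fun _ => ℕ) (Bool.rec (motive := fun _ => ℕ) (Bool.rec (motive := fun _ => ℕ) U_d_15 (Bool.rec (motive := fun _ => ℕ) U_d_16 U_d_17 (Nat.ble (nat_lit 3126077) q)) (Nat.ble (nat_lit 3065533) q)) (Bool.rec (motive := fun _ => ℕ) (Bool.rec (motive := fun _ => ℕ) U_d_18 U_d_19 (Nat.ble (nat_lit 3247781) q)) (Bool.rec (motive := fun _ => ℕ) U_d_20 U_d_21 (Nat.ble (nat_lit 3371257) q)) (Nat.ble (nat_lit 3309379) q)) (Nat.ble (nat_lit 3187213) q)) (Bool.rec (motive := fun _ => ℕ)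 (Bool.rec (motive := fun _ => ℕ) (Bool.rec (motive := fun _ => ℕ) U_d_22 U_d_23 (Nat.ble (nat_lit 3494899) q)) (Bool.rec (motive := fun _ => ℕ) U_d_24 U_d_25 (Nat.ble (nat_lit 3618743) q)) (Nat.ble (nat_lit 3557621) q)) (Bool.rec (motive := fun _ => ℕ) (Bool.rec (motive := fun _ => ℕ) U_d_26 U_d_27 (Nat.ble (nat_lit 3742133) q)) (Bool.rec (motive := fun _ => ℕ) U_d_28 U_d_29 (Nat.ble (nat_lit 3866647) q)) (Nat.ble (nat_lit 3804701) q)) (Nat.ble (nat_lit 3680519) q)) (Nat.ble (nat_lit 3432547) q)) (Nat.ble (nat_lit 3003431) q)) q)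
noncomputable def VV_d (q : ℕ) : ℕ := (Nat.mod (Bool.rec (motive := fun _ => ℕ) (Bool.rec (motive := fun _ => ℕ) (Bool.rec (motive := fun _ => ℕ) (Bool.rec (motive := fun _ => ℕ) V_d_0 (Bool.rec (motive := fun _ => ℕ) V_d_1 V_d_2 (Nat.ble (nat_lit 2216629) q)) (Nat.ble (nat_lit 2156617) q)) (Bool.rec (motive := fun _ => ℕ) (Bool.rec (motive := fun _ => ℕ) V_d_3 V_d_4 (Nat.ble (nat_lit 2336801) q)) (Bool.rec (motive := fun _ => ℕ) V_d_5 V_d_6 (Nat.ble (nat_lit 2457439) q)) (Nat.ble (nat_lit 2397113) q)) (Nat.ble (nat_lit 2275913) q)) (Bool.rec (motive := fun _ => ℕ) (Bool.rec (motive := fun _ => ℕ) (Bool.rec (motive := fun _ => ℕ) V_d_7 V_d_8 (Nat.ble (nat_lit 2578019) q)) (Bool.rec (motive := fun _ => ℕ) V_d_9 V_d_10 (Nat.ble (nat_lit 2698847) q)) (Nat.ble (nat_lit 2638667) q)) (Bool.rec (motive := fun _ => ℕ) (Bool.rec (motive := fun _ => ℕ) V_d_11 V_d_12 (Nat.ble (nat_lit 2820239) q)) (Bool.rec (motive := fun _ => ℕ) V_d_13 V_d_14 (Nat.ble (nat_lit 2942477) q)) (Nat.ble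 (nat_lit 2881303) q)) (Nat.ble (nat_lit 2760049) q)) (Nat.ble (nat_lit 2517959) q)) (Bool.rec (motive := fun _ => ℕ) (Bool.rec (motive := fun _ => ℕ) (Bool.rec (motive := fun _ => ℕ) V_d_15 (Bool.rec (motive := fun _ => ℕ) V_d_16 V_d_17 (Nat.ble (nat_lit 3126077) q)) (Nat.ble (nat_lit 3065533) q)) (Bool.rec (motive := fun _ => ℕ) (Bool.rec (motive := fun _ => ℕ) V_d_18 V_d_19 (Nat.ble (nat_lit 3247781) q)) (Bool.rec (motive := fun _ => ℕ) V_d_20 V_d_21 (Nat.ble (nat_lit 3371257) q)) (Nat.ble (nat_lit 3309379) q)) (Nat.ble (nat_lit 3187213) q)) (Bool.rec (motive := fun _ => ℕ) (Bool.rec (motive := fun _ => ℕ) (Bool.rec (motive := fun _ => ℕ) V_d_22 V_d_23 (Nat.ble (nat_lit 3494899) q)) (Bool.rec (motive := fun _ => ℕ) V_d_24 V_d_25 (Nat.ble (nat_lit 3618743) q)) (Nat.ble (nat_lit 3557621) q)) (Bool.rec (motive := fun _ => ℕ) (Bool.rec (motive := fun _ => ℕ) V_d_26 V_d_27 (Nat.ble (nat_lit 3742133) q)) (Bool.rec (motive := fun _ => ℕ) V_d_28 V_d_29 (Nat.ble (nat_lit 3866647)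 q)) (Nat.ble (nat_lit 3804701) q)) (Nat.ble (nat_lit 3680519) q)) (Nat.ble (nat_lit 3432547) q)) (Nat.ble (nat_lit 3003431) q)) q)
noncomputable def G_d (t q : ℕ) : ℕ := Bool.rec (motive := fun _ => ℕ) (nat_lit 0) (F_d q) (Nat.ble (Nat.succ (UU_d q)) t)
noncomputable def F_e (q : ℕ) : ℕ := Nat.add (nat_lit 2097152) (Nat.mod (Bool.rec (motive := fun _ => ℕ) (Bool.rec (motive := fun _ => ℕ) (Bool.rec (motive := fun _ => ℕ) (Bool.rec (motive := fun _ => ℕ) T_e_0 (Bool.rec (motive := fun _ => ℕ) T_e_1 T_e_2 (Nat.ble (nat_lit 2216629) q)) (Nat.ble (nat_lit 2156617) q)) (Bool.rec (motive := fun _ => ℕ) (Bool.rec (motive := fun _ => ℕ) T_e_3 T_e_4 (Nat.ble (nat_lit 2336801) q)) (Bool.rec (motive := fun _ => ℕ) T_e_5 T_e_6 (Nat.ble (nat_lit 2457439) q)) (Nat.ble (nat_lit 2397113) q)) (Nat.ble (nat_lit 2275913) q)) (Bool.rec (motive := fun _ => ℕ) (Bool.rec (motive := fun _ => ℕ) (Bool.rec (motive := fun _ => ℕ) T_e_7 T_e_8 (Nat.ble (nat_lit 2578019) q)) (Bool.rec (motive := fun _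 => ℕ) T_e_9 T_e_10 (Nat.ble (nat_lit 2698847) q)) (Nat.ble (nat_lit 2638667) q)) (Bool.rec (motive := fun _ => ℕ) (Bool.rec (motive := fun _ => ℕ) T_e_11 T_e_12 (Nat.ble (nat_lit 2820239) q)) (Bool.rec (motive := fun _ => ℕ) T_e_13 T_e_14 (Nat.ble (nat_lit 2942477) q)) (Nat.ble (nat_lit 2881303) q)) (Nat.ble (nat_lit 2760049) q)) (Nat.ble (nat_lit 2517959) q)) (Bool.rec (motive := fun _ => ℕ) (Bool.rec (motive := fun _ => ℕ) (Bool.rec (motive := fun _ => ℕ) T_e_15 (Bool.rec (motive := fun _ => ℕ) T_e_16 T_e_17 (Nat.ble (nat_lit 3126077) q)) (Nat.ble (nat_lit 3065533) q)) (Bool.rec (motive := fun _ => ℕ) (Bool.rec (motive := fun _ => ℕ) T_e_18 T_e_19 (Nat.ble (nat_lit 3247781) q)) (Bool.rec (motive := fun _ => ℕ) T_e_20 T_e_21 (Nat.ble (nat_lit 3371257) q)) (Nat.ble (nat_lit 3309379) q)) (Nat.ble (nat_lit 3187213) q)) (Bool.rec (motive := fun _ => ℕ) (Bool.rec (motive := fun _ => ℕ) (Bool.rec (motive := fun _ => ℕ) T_e_22 T_e_23 (Nat.ble (nat_lit 3494899) q)) (Bool.rec (motive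 := fun _ => ℕ) T_e_24 T_e_25 (Nat.ble (nat_lit 3618743) q)) (Nat.ble (nat_lit 3557621) q)) (Bool.rec (motive := fun _ => ℕ) (Bool.rec (motive := fun _ => ℕ) T_e_26 T_e_27 (Nat.ble (nat_lit 3742133) q)) (Bool.rec (motive := fun _ => ℕ) T_e_28 T_e_29 (Nat.ble (nat_lit 3866647) q)) (Nat.ble (nat_lit 3804701) q)) (Nat.ble (nat_lit 3680519) q)) (Nat.ble (nat_lit 3432547) q)) (Nat.ble (nat_lit 3003431) q)) q)
noncomputable def UU_e (q : ℕ) : ℕ := (Nat.mod (Bool.rec (motive := fun _ => ℕ) (Bool.rec (motive := fun _ => ℕ) (Bool.rec (motive := fun _ => ℕ) (Bool.rec (motive := fun _ => ℕ) U_e_0 (Bool.rec (motive := fun _ => ℕ) U_e_1 U_e_2 (Nat.ble (nat_lit 2216629) q)) (Nat.ble (nat_lit 2156617) q)) (Bool.rec (motive := fun _ => ℕ) (Bool.rec (motive := fun _ => ℕ) U_e_3 U_e_4 (Nat.ble (nat_lit 2336801) q)) (Bool.rec (motive := fun _ => ℕ) U_e_5 U_e_6 (Nat.ble (nat_lit 2457439) q)) (Nat.ble (nat_lit 2397113) q)) (Nat.ble (nat_lit 2275913) q)) (Bool.rec (motive := fun _ => ℕ) (Bool.rec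 (motive := fun _ => ℕ) (Bool.rec (motive := fun _ => ℕ) U_e_7 U_e_8 (Nat.ble (nat_lit 2578019) q)) (Bool.rec (motive := fun _ => ℕ) U_e_9 U_e_10 (Nat.ble (nat_lit 2698847) q)) (Nat.ble (nat_lit 2638667) q)) (Bool.rec (motive := fun _ => ℕ) (Bool.rec (motive := fun _ => ℕ) U_e_11 U_e_12 (Nat.ble (nat_lit 2820239) q)) (Bool.rec (motive := fun _ => ℕ) U_e_13 U_e_14 (Nat.ble (nat_lit 2942477) q)) (Nat.ble (nat_lit 2881303) q)) (Nat.ble (nat_lit 2760049) q)) (Nat.ble (nat_lit 2517959) q)) (Bool.rec (motive := fun _ => ℕ) (Bool.rec (motive := fun _ => ℕ) (Bool.rec (motive := fun _ => ℕ) U_e_15 (Bool.rec (motive := fun _ => ℕ) U_e_16 U_e_17 (Nat.ble (nat_lit 3126077) q)) (Nat.ble (nat_lit 3065533) q)) (Bool.rec (motive := fun _ => ℕ) (Bool.rec (motive := fun _ => ℕ) U_e_18 U_e_19 (Nat.ble (nat_lit 3247781) q)) (Bool.rec (motive := fun _ => ℕ) U_e_20 U_e_21 (Nat.ble (nat_lit 3371257) q)) (Nat.ble (nat_lit 3309379) q)) (Nat.ble (nat_lit 3187213) q)) (Bool.rec (motive := fun _ => ℕ)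 (Bool.rec (motive := fun _ => ℕ) (Bool.rec (motive := fun _ => ℕ) U_e_22 U_e_23 (Nat.ble (nat_lit 3494899) q)) (Bool.rec (motive := fun _ => ℕ) U_e_24 U_e_25 (Nat.ble (nat_lit 3618743) q)) (Nat.ble (nat_lit 3557621) q)) (Bool.rec (motive := fun _ => ℕ) (Bool.rec (motive := fun _ => ℕ) U_e_26 U_e_27 (Nat.ble (nat_lit 3742133) q)) (Bool.rec (motive := fun _ => ℕ) U_e_28 U_e_29 (Nat.ble (nat_lit 3866647) q)) (Nat.ble (nat_lit 3804701) q)) (Nat.ble (nat_lit 3680519) q)) (Nat.ble (nat_lit 3432547) q)) (Nat.ble (nat_lit 3003431) q)) q)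
noncomputable def VV_e (q : ℕ) : ℕ := (Nat.mod (Bool.rec (motive := fun _ => ℕ) (Bool.rec (motive := fun _ => ℕ) (Bool.rec (motive := fun _ => ℕ) (Bool.rec (motive := fun _ => ℕ) V_e_0 (Bool.rec (motive := fun _ => ℕ) V_e_1 V_e_2 (Nat.ble (nat_lit 2216629) q)) (Nat.ble (nat_lit 2156617) q)) (Bool.rec (motive := fun _ => ℕ) (Bool.rec (motive := fun _ => ℕ) V_e_3 V_e_4 (Nat.ble (nat_lit 2336801) q)) (Bool.rec (motive := fun _ => ℕ) V_e_5 V_e_6 (Nat.ble (nat_lit 2457439) q)) (Nat.ble (nat_lit 2397113) q)) (Nat.ble (nat_lit 2275913) q)) (Bool.rec (motive := fun _ => ℕ) (Bool.rec (motive := fun _ => ℕ) (Bool.rec (motive := fun _ => ℕ) V_e_7 V_e_8 (Nat.ble (nat_lit 2578019) q)) (Bool.rec (motive := fun _ => ℕ) V_e_9 V_e_10 (Nat.ble (nat_lit 2698847) q)) (Nat.ble (nat_lit 2638667) q)) (Bool.rec (motive := fun _ => ℕ) (Bool.rec (motive := fun _ => ℕ) V_e_11 V_e_12 (Nat.ble (nat_lit 2820239) q)) (Bool.rec (motive := fun _ => ℕ) V_e_13 V_e_14 (Nat.ble (nat_lit 2942477) q)) (Nat.ble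 (nat_lit 2881303) q)) (Nat.ble (nat_lit 2760049) q)) (Nat.ble (nat_lit 2517959) q)) (Bool.rec (motive := fun _ => ℕ) (Bool.rec (motive := fun _ => ℕ) (Bool.rec (motive := fun _ => ℕ) V_e_15 (Bool.rec (motive := fun _ => ℕ) V_e_16 V_e_17 (Nat.ble (nat_lit 3126077) q)) (Nat.ble (nat_lit 3065533) q)) (Bool.rec (motive := fun _ => ℕ) (Bool.rec (motive := fun _ => ℕ) V_e_18 V_e_19 (Nat.ble (nat_lit 3247781) q)) (Bool.rec (motive := fun _ => ℕ) V_e_20 V_e_21 (Nat.ble (nat_lit 3371257) q)) (Nat.ble (nat_lit 3309379) q)) (Nat.ble (nat_lit 3187213) q)) (Bool.rec (motive := fun _ => ℕ) (Bool.rec (motive := fun _ => ℕ) (Bool.rec (motive := fun _ => ℕ) V_e_22 V_e_23 (Nat.ble (nat_lit 3494899) q)) (Bool.rec (motive := fun _ => ℕ) V_e_24 V_e_25 (Nat.ble (nat_lit 3618743) q)) (Nat.ble (nat_lit 3557621) q)) (Bool.rec (motive := fun _ => ℕ) (Bool.rec (motive := fun _ => ℕ) V_e_26 V_e_27 (Nat.ble (nat_lit 3742133) q)) (Bool.rec (motive := fun _ => ℕ) V_e_28 V_e_29 (Nat.ble (nat_lit 3866647)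 q)) (Nat.ble (nat_lit 3804701) q)) (Nat.ble (nat_lit 3680519) q)) (Nat.ble (nat_lit 3432547) q)) (Nat.ble (nat_lit 3003431) q)) q)
noncomputable def G_e (t q : ℕ) : ℕ := Bool.rec (motive := fun _ => ℕ) (nat_lit 0) (F_e q) (Nat.ble (Nat.succ (UU_e q)) t)
noncomputable def F_f (q : ℕ) : ℕ := Nat.add (nat_lit 2097152) (Nat.mod (Bool.rec (motive := fun _ => ℕ) (Bool.rec (motive := fun _ => ℕ) (Bool.rec (motive := fun _ => ℕ) (Bool.rec (motive := fun _ => ℕ) T_f_0 (Bool.rec (motive := fun _ => ℕ) T_f_1 T_f_2 (Nat.ble (nat_lit 2216629) q)) (Nat.ble (nat_lit 2156617) q)) (Bool.rec (motive := fun _ => ℕ) (Bool.rec (motive := fun _ => ℕ) T_f_3 T_f_4 (Nat.ble (nat_lit 2336801) q)) (Bool.rec (motive := fun _ => ℕ) T_f_5 T_f_6 (Nat.ble (nat_lit 2457439) q)) (Nat.ble (nat_lit 2397113) q)) (Nat.ble (nat_lit 2275913) q)) (Bool.rec (motive := fun _ => ℕ) (Bool.rec (motive := fun _ => ℕ) (Bool.rec (motive := fun _ => ℕ) T_f_7 T_f_8 (Nat.ble (nat_lit 2578019) q)) (Bool.rec (motive := fun _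 => ℕ) T_f_9 T_f_10 (Nat.ble (nat_lit 2698847) q)) (Nat.ble (nat_lit 2638667) q)) (Bool.rec (motive := fun _ => ℕ) (Bool.rec (motive := fun _ => ℕ) T_f_11 T_f_12 (Nat.ble (nat_lit 2820239) q)) (Bool.rec (motive := fun _ => ℕ) T_f_13 T_f_14 (Nat.ble (nat_lit 2942477) q)) (Nat.ble (nat_lit 2881303) q)) (Nat.ble (nat_lit 2760049) q)) (Nat.ble (nat_lit 2517959) q)) (Bool.rec (motive := fun _ => ℕ) (Bool.rec (motive := fun _ => ℕ) (Bool.rec (motive := fun _ => ℕ) T_f_15 (Bool.rec (motive := fun _ => ℕ) T_f_16 T_f_17 (Nat.ble (nat_lit 3126077) q)) (Nat.ble (nat_lit 3065533) q)) (Bool.rec (motive := fun _ => ℕ) (Bool.rec (motive := fun _ => ℕ) T_f_18 T_f_19 (Nat.ble (nat_lit 3247781) q)) (Bool.rec (motive := fun _ => ℕ) T_f_20 T_f_21 (Nat.ble (nat_lit 3371257) q)) (Nat.ble (nat_lit 3309379) q)) (Nat.ble (nat_lit 3187213) q)) (Bool.rec (motive := fun _ => ℕ) (Bool.rec (motive := fun _ => ℕ) (Bool.rec (motive := fun _ => ℕ) T_f_22 T_f_23 (Nat.ble (nat_lit 3494899) q)) (Bool.rec (motive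 := fun _ => ℕ) T_f_24 T_f_25 (Nat.ble (nat_lit 3618743) q)) (Nat.ble (nat_lit 3557621) q)) (Bool.rec (motive := fun _ => ℕ) (Bool.rec (motive := fun _ => ℕ) T_f_26 T_f_27 (Nat.ble (nat_lit 3742133) q)) (Bool.rec (motive := fun _ => ℕ) T_f_28 T_f_29 (Nat.ble (nat_lit 3866647) q)) (Nat.ble (nat_lit 3804701) q)) (Nat.ble (nat_lit 3680519) q)) (Nat.ble (nat_lit 3432547) q)) (Nat.ble (nat_lit 3003431) q)) q)
noncomputable def UU_f (q : ℕ) : ℕ := (Nat.mod (Bool.rec (motive := fun _ => ℕ) (Bool.rec (motive := fun _ => ℕ) (Bool.rec (motive := fun _ => ℕ) (Bool.rec (motive := fun _ => ℕ) U_f_0 (Bool.rec (motive := fun _ => ℕ) U_f_1 U_f_2 (Nat.ble (nat_lit 2216629) q)) (Nat.ble (nat_lit 2156617) q)) (Bool.rec (motive := fun _ => ℕ) (Bool.rec (motive := fun _ => ℕ) U_f_3 U_f_4 (Nat.ble (nat_lit 2336801) q)) (Bool.rec (motive := fun _ => ℕ) U_f_5 U_f_6 (Nat.ble (nat_lit 2457439) q)) (Nat.ble (nat_lit 2397113) q)) (Nat.ble (nat_lit 2275913) q)) (Bool.rec (motive := fun _ => ℕ) (Bool.rec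 (motive := fun _ => ℕ) (Bool.rec (motive := fun _ => ℕ) U_f_7 U_f_8 (Nat.ble (nat_lit 2578019) q)) (Bool.rec (motive := fun _ => ℕ) U_f_9 U_f_10 (Nat.ble (nat_lit 2698847) q)) (Nat.ble (nat_lit 2638667) q)) (Bool.rec (motive := fun _ => ℕ) (Bool.rec (motive := fun _ => ℕ) U_f_11 U_f_12 (Nat.ble (nat_lit 2820239) q)) (Bool.rec (motive := fun _ => ℕ) U_f_13 U_f_14 (Nat.ble (nat_lit 2942477) q)) (Nat.ble (nat_lit 2881303) q)) (Nat.ble (nat_lit 2760049) q)) (Nat.ble (nat_lit 2517959) q)) (Bool.rec (motive := fun _ => ℕ) (Bool.rec (motive := fun _ => ℕ) (Bool.rec (motive := fun _ => ℕ) U_f_15 (Bool.rec (motive := fun _ => ℕ) U_f_16 U_f_17 (Nat.ble (nat_lit 3126077) q)) (Nat.ble (nat_lit 3065533) q)) (Bool.rec (motive := fun _ => ℕ) (Bool.rec (motive := fun _ => ℕ) U_f_18 U_f_19 (Nat.ble (nat_lit 3247781) q)) (Bool.rec (motive := fun _ => ℕ) U_f_20 U_f_21 (Nat.ble (nat_lit 3371257) q)) (Nat.ble (nat_lit 3309379) q)) (Nat.ble (nat_lit 3187213) q)) (Bool.rec (motive := fun _ => ℕ)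 (Bool.rec (motive := fun _ => ℕ) (Bool.rec (motive := fun _ => ℕ) U_f_22 U_f_23 (Nat.ble (nat_lit 3494899) q)) (Bool.rec (motive := fun _ => ℕ) U_f_24 U_f_25 (Nat.ble (nat_lit 3618743) q)) (Nat.ble (nat_lit 3557621) q)) (Bool.rec (motive := fun _ => ℕ) (Bool.rec (motive := fun _ => ℕ) U_f_26 U_f_27 (Nat.ble (nat_lit 3742133) q)) (Bool.rec (motive := fun _ => ℕ) U_f_28 U_f_29 (Nat.ble (nat_lit 3866647) q)) (Nat.ble (nat_lit 3804701) q)) (Nat.ble (nat_lit 3680519) q)) (Nat.ble (nat_lit 3432547) q)) (Nat.ble (nat_lit 3003431) q)) q)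
noncomputable def VV_f (q : ℕ) : ℕ := (Nat.mod (Bool.rec (motive := fun _ => ℕ) (Bool.rec (motive := fun _ => ℕ) (Bool.rec (motive := fun _ => ℕ) (Bool.rec (motive := fun _ => ℕ) V_f_0 (Bool.rec (motive := fun _ => ℕ) V_f_1 V_f_2 (Nat.ble (nat_lit 2216629) q)) (Nat.ble (nat_lit 2156617) q)) (Bool.rec (motive := fun _ => ℕ) (Bool.rec (motive := fun _ => ℕ) V_f_3 V_f_4 (Nat.ble (nat_lit 2336801) q)) (Bool.rec (motive := fun _ => ℕ) V_f_5 V_f_6 (Nat.ble (nat_lit 2457439) q)) (Nat.ble (nat_lit 2397113) q)) (Nat.ble (nat_lit 2275913) q)) (Bool.rec (motive := fun _ => ℕ) (Bool.rec (motive := fun _ => ℕ) (Bool.rec (motive := fun _ => ℕ) V_f_7 V_f_8 (Nat.ble (nat_lit 2578019) q)) (Bool.rec (motive := fun _ => ℕ) V_f_9 V_f_10 (Nat.ble (nat_lit 2698847) q)) (Nat.ble (nat_lit 2638667) q)) (Bool.rec (motive := fun _ => ℕ) (Bool.rec (motive := fun _ => ℕ) V_f_11 V_f_12 (Nat.ble (nat_lit 2820239) q)) (Bool.rec (motive := fun _ => ℕ) V_f_13 V_f_14 (Nat.ble (nat_lit 2942477) q)) (Nat.ble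 (nat_lit 2881303) q)) (Nat.ble (nat_lit 2760049) q)) (Nat.ble (nat_lit 2517959) q)) (Bool.rec (motive := fun _ => ℕ) (Bool.rec (motive := fun _ => ℕ) (Bool.rec (motive := fun _ => ℕ) V_f_15 (Bool.rec (motive := fun _ => ℕ) V_f_16 V_f_17 (Nat.ble (nat_lit 3126077) q)) (Nat.ble (nat_lit 3065533) q)) (Bool.rec (motive := fun _ => ℕ) (Bool.rec (motive := fun _ => ℕ) V_f_18 V_f_19 (Nat.ble (nat_lit 3247781) q)) (Bool.rec (motive := fun _ => ℕ) V_f_20 V_f_21 (Nat.ble (nat_lit 3371257) q)) (Nat.ble (nat_lit 3309379) q)) (Nat.ble (nat_lit 3187213) q)) (Bool.rec (motive := fun _ => ℕ) (Bool.rec (motive := fun _ => ℕ) (Bool.rec (motive := fun _ => ℕ) V_f_22 V_f_23 (Nat.ble (nat_lit 3494899) q)) (Bool.rec (motive := fun _ => ℕ) V_f_24 V_f_25 (Nat.ble (nat_lit 3618743) q)) (Nat.ble (nat_lit 3557621) q)) (Bool.rec (motive := fun _ => ℕ) (Bool.rec (motive := fun _ => ℕ) V_f_26 V_f_27 (Nat.ble (nat_lit 3742133) q)) (Bool.rec (motive := fun _ => ℕ) V_f_28 V_f_29 (Nat.ble (nat_lit 3866647)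 q)) (Nat.ble (nat_lit 3804701) q)) (Nat.ble (nat_lit 3680519) q)) (Nat.ble (nat_lit 3432547) q)) (Nat.ble (nat_lit 3003431) q)) q)
noncomputable def G_f (t q : ℕ) : ℕ := Bool.rec (motive := fun _ => ℕ) (nat_lit 0) (F_f q) (Nat.ble (Nat.succ (UU_f q)) t)
theorem Fge_g (q : ℕ) : 2097152 ≤ F_g q := Nat.le_add_right _ _
theorem Fge_gi (q : ℕ) : 2097152 ≤ F_gi q := Nat.le_add_right _ _
theorem Fge_a (q : ℕ) : 2097152 ≤ F_a q := Nat.le_add_right _ _
theorem Fge_b (q : ℕ) : 2097152 ≤ F_b q := Nat.le_add_right _ _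
theorem Fge_c (q : ℕ) : 2097152 ≤ F_c q := Nat.le_add_right _ _
theorem Fge_d (q : ℕ) : 2097152 ≤ F_d q := Nat.le_add_right _ _
theorem Fge_e (q : ℕ) : 2097152 ≤ F_e q := Nat.le_add_right _ _
theorem Fge_f (q : ℕ) : 2097152 ≤ F_f q := Nat.le_add_right _ _
attribute [irreducible] F_g F_gi F_a F_b F_c F_d F_e F_f
noncomputable def stp : Col → ℕ → ℕ := fun c => Col.rec (motive := fun _ => ℕ → ℕ) F_g F_gi F_a F_b F_c F_d F_e F_f c
noncomputable def tau : Col → ℕ → ℕ := fun c => Col.rec (motive := fun _ => ℕ → ℕ) UU_g UU_gi UU_a UU_b UU_c UU_d UU_e UU_f c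
noncomputable def PT (q : ℕ) : ℕ := Nat.add (nat_lit 2097152) (Nat.mod (Bool.rec (motive := fun _ => ℕ) (Bool.rec (motive := fun _ => ℕ) (Bool.rec (motive := fun _ => ℕ) (Bool.rec (motive := fun _ => ℕ) PP_0 (Bool.rec (motive := fun _ => ℕ) PP_1 PP_2 (Nat.ble (nat_lit 2216629) q)) (Nat.ble (nat_lit 2156617) q)) (Bool.rec (motive := fun _ => ℕ) (Bool.rec (motive := fun _ => ℕ) PP_3 PP_4 (Nat.ble (nat_lit 2336801) q)) (Bool.rec (motive := fun _ => ℕ) PP_5 PP_6 (Nat.ble (nat_lit 2457439) q)) (Nat.ble (nat_lit 2397113) q)) (Nat.ble (nat_lit 2275913) q)) (Bool.rec (motive := fun _ => ℕ) (Bool.rec (motive := fun _ => ℕ) (Bool.rec (motive := fun _ => ℕ) PP_7 PP_8 (Nat.ble (nat_lit 2578019) q)) (Bool.rec (motive := fun _ => ℕ) PP_9 PP_10 (Nat.ble (nat_lit 2698847) q)) (Nat.ble (nat_lit 2638667) q)) (Bool.rec (motive := fun _ => ℕ) (Bool.rec (motive := fun _ => ℕ) PP_11 PP_12 (Nat.ble (nat_lit 2820239) q)) (Bool.rec (motive := fun _ => ℕ) PP_13 PP_14 (Nat.ble (nat_lit 2942477) q))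 (Nat.ble (nat_lit 2881303) q)) (Nat.ble (nat_lit 2760049) q)) (Nat.ble (nat_lit 2517959) q)) (Bool.rec (motive := fun _ => ℕ) (Bool.rec (motive := fun _ => ℕ) (Bool.rec (motive := fun _ => ℕ) PP_15 (Bool.rec (motive := fun _ => ℕ) PP_16 PP_17 (Nat.ble (nat_lit 3126077) q)) (Nat.ble (nat_lit 3065533) q)) (Bool.rec (motive := fun _ => ℕ) (Bool.rec (motive := fun _ => ℕ) PP_18 PP_19 (Nat.ble (nat_lit 3247781) q)) (Bool.rec (motive := fun _ => ℕ) PP_20 PP_21 (Nat.ble (nat_lit 3371257) q)) (Nat.ble (nat_lit 3309379) q)) (Nat.ble (nat_lit 3187213) q)) (Bool.rec (motive := fun _ => ℕ) (Bool.rec (motive := fun _ => ℕ) (Bool.rec (motive := fun _ => ℕ) PP_22 PP_23 (Nat.ble (nat_lit 3494899) q)) (Bool.rec (motive := fun _ => ℕ) PP_24 PP_25 (Nat.ble (nat_lit 3618743) q)) (Nat.ble (nat_lit 3557621) q)) (Bool.rec (motive := fun _ => ℕ) (Bool.rec (motive := fun _ => ℕ) PP_26 PP_27 (Nat.ble (nat_lit 3742133) q)) (Bool.rec (motive := fun _ => ℕ) PP_28 PP_29 (Nat.ble (nat_lit 3866647) q))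 (Nat.ble (nat_lit 3804701) q)) (Nat.ble (nat_lit 3680519) q)) (Nat.ble (nat_lit 3432547) q)) (Nat.ble (nat_lit 3003431) q)) q)
noncomputable def DT (q : ℕ) : ℕ := (Nat.mod (Bool.rec (motive := fun _ => ℕ) (Bool.rec (motive := fun _ => ℕ) (Bool.rec (motive := fun _ => ℕ) (Bool.rec (motive := fun _ => ℕ) DD_0 (Bool.rec (motive := fun _ => ℕ) DD_1 DD_2 (Nat.ble (nat_lit 2216629) q)) (Nat.ble (nat_lit 2156617) q)) (Bool.rec (motive := fun _ => ℕ) (Bool.rec (motive := fun _ => ℕ) DD_3 DD_4 (Nat.ble (nat_lit 2336801) q)) (Bool.rec (motive := fun _ => ℕ) DD_5 DD_6 (Nat.ble (nat_lit 2457439) q)) (Nat.ble (nat_lit 2397113) q)) (Nat.ble (nat_lit 2275913) q)) (Bool.rec (motive := fun _ => ℕ) (Bool.rec (motive := fun _ => ℕ) (Bool.rec (motive := fun _ => ℕ) DD_7 DD_8 (Nat.ble (nat_lit 2578019) q)) (Bool.rec (motive := fun _ => ℕ) DD_9 DD_10 (Nat.ble (nat_lit 2698847) q)) (Nat.ble (nat_lit 2638667) q)) (Bool.rec (motive := fun _ => ℕ) (Bool.rec (motive := fun _ => ℕ) DD_11 DD_12 (Nat.ble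 (nat_lit 2820239) q)) (Bool.rec (motive := fun _ => ℕ) DD_13 DD_14 (Nat.ble (nat_lit 2942477) q)) (Nat.ble (nat_lit 2881303) q)) (Nat.ble (nat_lit 2760049) q)) (Nat.ble (nat_lit 2517959) q)) (Bool.rec (motive := fun _ => ℕ) (Bool.rec (motive := fun _ => ℕ) (Bool.rec (motive := fun _ => ℕ) DD_15 (Bool.rec (motive := fun _ => ℕ) DD_16 DD_17 (Nat.ble (nat_lit 3126077) q)) (Nat.ble (nat_lit 3065533) q)) (Bool.rec (motive := fun _ => ℕ) (Bool.rec (motive := fun _ => ℕ) DD_18 DD_19 (Nat.ble (nat_lit 3247781) q)) (Bool.rec (motive := fun _ => ℕ) DD_20 DD_21 (Nat.ble (nat_lit 3371257) q)) (Nat.ble (nat_lit 3309379) q)) (Nat.ble (nat_lit 3187213) q)) (Bool.rec (motive := fun _ => ℕ) (Bool.rec (motive := fun _ => ℕ) (Bool.rec (motive := fun _ => ℕ) DD_22 DD_23 (Nat.ble (nat_lit 3494899) q)) (Bool.rec (motive := fun _ => ℕ) DD_24 DD_25 (Nat.ble (nat_lit 3618743) q)) (Nat.ble (nat_lit 3557621) q)) (Bool.rec (motive := fun _ => ℕ) (Bool.rec (motive := fun _ => ℕ) DD_26 DD_27 (Nat.ble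 (nat_lit 3742133) q)) (Bool.rec (motive := fun _ => ℕ) DD_28 DD_29 (Nat.ble (nat_lit 3866647) q)) (Nat.ble (nat_lit 3804701) q)) (Nat.ble (nat_lit 3680519) q)) (Nat.ble (nat_lit 3432547) q)) (Nat.ble (nat_lit 3003431) q)) q)
noncomputable def MB (q : ℕ) : ℕ := (Bool.rec (motive := fun _ => ℕ) (Bool.rec (motive := fun _ => ℕ) (Bool.rec (motive := fun _ => ℕ) (Bool.rec (motive := fun _ => ℕ) MM_0 (Bool.rec (motive := fun _ => ℕ) MM_1 MM_2 (Nat.ble (nat_lit 2216629) q)) (Nat.ble (nat_lit 2156617) q)) (Bool.rec (motive := fun _ => ℕ) (Bool.rec (motive := fun _ => ℕ) MM_3 MM_4 (Nat.ble (nat_lit 2336801) q)) (Bool.rec (motive := fun _ => ℕ) MM_5 MM_6 (Nat.ble (nat_lit 2457439) q)) (Nat.ble (nat_lit 2397113) q)) (Nat.ble (nat_lit 2275913) q)) (Bool.rec (motive := fun _ => ℕ) (Bool.rec (motive := fun _ => ℕ) (Bool.rec (motive := fun _ => ℕ) MM_7 MM_8 (Nat.ble (nat_lit 2578019) q)) (Bool.rec (motive := fun _ => ℕ) MM_9 MM_10 (Nat.ble (nat_lit 2698847) q)) (Nat.ble (nat_lit 2638667)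 q)) (Bool.rec (motive := fun _ => ℕ) (Bool.rec (motive := fun _ => ℕ) MM_11 MM_12 (Nat.ble (nat_lit 2820239) q)) (Bool.rec (motive := fun _ => ℕ) MM_13 MM_14 (Nat.ble (nat_lit 2942477) q)) (Nat.ble (nat_lit 2881303) q)) (Nat.ble (nat_lit 2760049) q)) (Nat.ble (nat_lit 2517959) q)) (Bool.rec (motive := fun _ => ℕ) (Bool.rec (motive := fun _ => ℕ) (Bool.rec (motive := fun _ => ℕ) MM_15 (Bool.rec (motive := fun _ => ℕ) MM_16 MM_17 (Nat.ble (nat_lit 3126077) q)) (Nat.ble (nat_lit 3065533) q)) (Bool.rec (motive := fun _ => ℕ) (Bool.rec (motive := fun _ => ℕ) MM_18 MM_19 (Nat.ble (nat_lit 3247781) q)) (Bool.rec (motive := fun _ => ℕ) MM_20 MM_21 (Nat.ble (nat_lit 3371257) q)) (Nat.ble (nat_lit 3309379) q)) (Nat.ble (nat_lit 3187213) q)) (Bool.rec (motive := fun _ => ℕ) (Bool.rec (motive := fun _ => ℕ) (Bool.rec (motive := fun _ => ℕ) MM_22 MM_23 (Nat.ble (nat_lit 3494899) q)) (Bool.rec (motive := fun _ => ℕ) MM_24 MM_25 (Nat.ble (nat_lit 3618743) q)) (Nat.ble (nat_lit 3557621)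 q)) (Bool.rec (motive := fun _ => ℕ) (Bool.rec (motive := fun _ => ℕ) MM_26 MM_27 (Nat.ble (nat_lit 3742133) q)) (Bool.rec (motive := fun _ => ℕ) MM_28 MM_29 (Nat.ble (nat_lit 3866647) q)) (Nat.ble (nat_lit 3804701) q)) (Nat.ble (nat_lit 3680519) q)) (Nat.ble (nat_lit 3432547) q)) (Nat.ble (nat_lit 3003431) q))
noncomputable def mt (q : ℕ) : Bool := memt MB (nat_lit 2097152) (nat_lit 4194304) q
noncomputable def sd (d q : ℕ) : ℕ := (Bool.rec (motive := fun _ => ℕ) (Bool.rec (motive := fun _ => ℕ) (Bool.rec (motive := fun _ => ℕ) (F_g q) (F_gi q) (Nat.ble (nat_lit 1) d)) (Bool.rec (motive := fun _ => ℕ) (F_a q) (F_b q) (Nat.ble (nat_lit 3) d)) (Nat.ble (nat_lit 2) d)) (Bool.rec (motive := fun _ => ℕ) (Bool.rec (motive := fun _ => ℕ) (F_c q) (F_d q) (Nat.ble (nat_lit 5) d)) (Bool.rec (motive := fun _ => ℕ) (F_e q) (F_f q) (Nat.ble (nat_lit 7) d)) (Nat.ble (nat_lit 6) d)) (Nat.ble (nat_lit 4) d))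
noncomputable def E_0 (t q : ℕ) : Bool := Nat.beq (G_gi t (F_g q)) q
noncomputable def a_0 : CfsgLib.TC.AG Col := .word .g 28 0 true [Col.gi]
noncomputable def E_1 (t q : ℕ) : Bool := Nat.beq (G_f t (G_a t (G_g t (F_g q)))) q
noncomputable def a_1 : CfsgLib.TC.AG Col := .word .g 21 2 false [Col.g, Col.a, Col.f]
noncomputable def E_2 (t q : ℕ) : Bool := band (Nat.beq (PT (F_g q)) q) (band (Nat.beq (DT (F_g q)) 0) (band (Nat.ble (Nat.succ q) (F_g q)) (Nat.ble (Nat.succ q0) (F_g q))))
noncomputable def a_2 : CfsgLib.TC.AG Col := .tree .g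
noncomputable def E_3 (t q : ℕ) : Bool := Nat.beq (G_g t (G_f t (G_a t (F_g q)))) q
noncomputable def a_3 : CfsgLib.TC.AG Col := .word .g 21 3 false [Col.a, Col.f, Col.g]
noncomputable def E_4 (t q : ℕ) : Bool := Nat.beq (G_d t (G_g t (G_c t (G_gi t (G_d t (G_gi t (G_d t (G_c t (G_d t (F_g q)))))))))) q
noncomputable def a_4 : CfsgLib.TC.AG Col := .word .g 23 2 true [Col.d, Col.c, Col.d, Col.gi, Col.d, Col.gi, Col.c, Col.g, Col.d]
noncomputable def E_5 (t q : ℕ) : Bool := Nat.beq (G_c t (G_gi t (G_d t (G_gi t (G_d t (G_c t (G_d t (G_g t (G_d t (F_g q)))))))))) q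
noncomputable def a_5 : CfsgLib.TC.AG Col := .word .g 23 0 true [Col.d, Col.g, Col.d, Col.c, Col.d, Col.gi, Col.d, Col.gi, Col.c]
noncomputable def E_6 (t q : ℕ) : Bool := Nat.beq (G_c t (G_g t (G_d t (G_gi t (G_c t (G_gi t (G_c t (G_d t (G_c t (F_g q)))))))))) q
noncomputable def a_6 : CfsgLib.TC.AG Col := .word .g 24 2 true [Col.c, Col.d, Col.c, Col.gi, Col.c, Col.gi, Col.d, Col.g, Col.c]
noncomputable def E_7 (t q : ℕ) : Bool := Nat.beq (G_b t (G_c t (G_g t (G_c t (G_g t (G_b t (G_c t (G_g t (G_c t (G_b t (F_g q))))))))))) q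
noncomputable def a_7 : CfsgLib.TC.AG Col := .word .g 26 4 true [Col.b, Col.c, Col.g, Col.c, Col.b, Col.g, Col.c, Col.g, Col.c, Col.b]
noncomputable def E_8 (t q : ℕ) : Bool := Nat.beq (G_e t (G_d t (G_g t (G_d t (G_g t (G_e t (G_d t (G_g t (G_d t (G_e t (F_g q))))))))))) q
noncomputable def a_8 : CfsgLib.TC.AG Col := .word .g 27 4 true [Col.e, Col.d, Col.g, Col.d, Col.e, Col.g, Col.d, Col.g, Col.d, Col.e]
noncomputable def E_9 (t q : ℕ) : Bool := Nat.beq (G_c t (G_g t (G_b t (G_c t (G_g t (G_c t (G_b t (G_g t (G_b t (G_c t (F_g q))))))))))) q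
noncomputable def a_9 : CfsgLib.TC.AG Col := .word .g 26 1 true [Col.c, Col.b, Col.g, Col.b, Col.c, Col.g, Col.c, Col.b, Col.g, Col.c]
noncomputable def E_10 (t q : ℕ) : Bool := Nat.beq (G_d t (G_g t (G_e t (G_d t (G_g t (G_d t (G_e t (G_g t (G_e t (G_d t (F_g q))))))))))) q
noncomputable def a_10 : CfsgLib.TC.AG Col := .word .g 27 1 true [Col.d, Col.e, Col.g, Col.e, Col.d, Col.g, Col.d, Col.e, Col.g, Col.d]
noncomputable def E_11 (t q : ℕ) : Bool := Nat.beq (G_d t (G_gi t (G_c t (G_gi t (G_c t (G_d t (G_c t (G_g t (G_c t (F_g q)))))))))) q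
noncomputable def a_11 : CfsgLib.TC.AG Col := .word .g 24 0 true [Col.c, Col.g, Col.c, Col.d, Col.c, Col.gi, Col.c, Col.gi, Col.d]
noncomputable def E_12 (t q : ℕ) : Bool := Nat.beq (G_c t (G_b t (G_g t (G_b t (G_c t (G_g t (G_c t (G_g t (G_b t (G_c t (F_g q))))))))))) q
noncomputable def a_12 : CfsgLib.TC.AG Col := .word .g 26 7 true [Col.c, Col.b, Col.g, Col.c, Col.g, Col.c, Col.b, Col.g, Col.b, Col.c]
noncomputable def E_13 (t q : ℕ) : Bool := Nat.beq (G_d t (G_e t (G_g t (G_e t (G_d t (G_g t (G_d t (G_g t (G_e t (G_d t (F_g q))))))))))) q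
noncomputable def a_13 : CfsgLib.TC.AG Col := .word .g 27 7 true [Col.d, Col.e, Col.g, Col.d, Col.g, Col.d, Col.e, Col.g, Col.e, Col.d]
noncomputable def E_14 (t q : ℕ) : Bool := Nat.beq (G_b t (G_c t (G_g t (G_c t (G_b t (G_g t (G_b t (G_c t (G_g t (G_c t (F_g q))))))))))) q
noncomputable def a_14 : CfsgLib.TC.AG Col := .word .g 26 10 true [Col.c, Col.g, Col.c, Col.b, Col.g, Col.b, Col.c, Col.g, Col.c, Col.b]
noncomputable def E_15 (t q : ℕ) : Bool := Nat.beq (G_e t (G_d t (G_g t (G_d t (G_e t (G_g t (G_e t (G_d t (G_g t (G_d t (F_g q))))))))))) q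
noncomputable def a_15 : CfsgLib.TC.AG Col := .word .g 27 10 true [Col.d, Col.g, Col.d, Col.e, Col.g, Col.e, Col.d, Col.g, Col.d, Col.e]
noncomputable def E_16 (t q : ℕ) : Bool := Nat.beq (G_b t (G_c t (G_d t (G_g t (G_b t (G_c t (G_d t (G_g t (G_b t (G_c t (G_d t (G_g t (G_b t (G_c t (G_d t (G_g t (G_b t (G_c t (G_d t (F_g q)))))))))))))))))))) q
noncomputable def a_16 : CfsgLib.TC.AG Col := .word .g 25 0 true [Col.d, Col.c, Col.b, Col.g, Col.d, Col.c, Col.b, Col.g, Col.d, Col.c, Col.b, Col.g, Col.d, Col.c, Col.b, Col.g, Col.d, Col.c, Col.b]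
noncomputable def D_g (q : ℕ) : Bool := (Bool.rec (motive := fun _ => Bool) (Bool.rec (motive := fun _ => Bool) (E_0 (UU_g q) q) (E_1 (UU_g q) q) (Nat.ble (nat_lit 1) (VV_g q))) (Bool.rec (motive := fun _ => Bool) (Bool.rec (motive := fun _ => Bool) (Bool.rec (motive := fun _ => Bool) (E_2 (UU_g q) q) (Bool.rec (motive := fun _ => Bool) (E_3 (UU_g q) q) (E_4 (UU_g q) q) (Nat.ble (nat_lit 4) (VV_g q))) (Nat.ble (nat_lit 3) (VV_g q))) (Bool.rec (motive := fun _ => Bool) (Bool.rec (motive := fun _ => Bool) (E_5 (UU_g q) q) (E_6 (UU_g q) q) (Nat.ble (nat_lit 6) (VV_g q))) (Bool.rec (motive := fun _ => Bool) (E_7 (UU_g q) q) (E_8 (UU_g q) q) (Nat.ble (nat_lit 8) (VV_g q))) (Nat.ble (nat_lit 7) (VV_g q))) (Nat.ble (nat_lit 5) (VV_g q))) (Bool.rec (motive := fun _ => Bool) (Bool.rec (motive := fun _ => Bool) (Bool.rec (motive := fun _ => Bool) (E_9 (UU_g q) q) (E_10 (UU_g q) q) (Nat.ble (nat_lit 10) (VV_g q))) (Bool.rec (motive := fun _ => Bool) (E_11 (UU_g q) q) (E_12 (UU_g q)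 q) (Nat.ble (nat_lit 12) (VV_g q))) (Nat.ble (nat_lit 11) (VV_g q))) (Bool.rec (motive := fun _ => Bool) (Bool.rec (motive := fun _ => Bool) (E_13 (UU_g q) q) (E_14 (UU_g q) q) (Nat.ble (nat_lit 14) (VV_g q))) (Bool.rec (motive := fun _ => Bool) (E_15 (UU_g q) q) (E_16 (UU_g q) q) (Nat.ble (nat_lit 16) (VV_g q))) (Nat.ble (nat_lit 15) (VV_g q))) (Nat.ble (nat_lit 13) (VV_g q))) (Nat.ble (nat_lit 9) (VV_g q))) (Nat.ble (nat_lit 2) (VV_g q)))
noncomputable def E_17 (t q : ℕ) : Bool := Nat.beq (G_g t (F_gi q)) q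
noncomputable def a_17 : CfsgLib.TC.AG Col := .word .gi 29 0 true [Col.g]
noncomputable def E_18 (t q : ℕ) : Bool := Nat.beq (G_a t (G_f t (G_gi t (F_gi q)))) q
noncomputable def a_18 : CfsgLib.TC.AG Col := .word .gi 21 0 true [Col.gi, Col.f, Col.a]
noncomputable def E_19 (t q : ℕ) : Bool := band (Nat.beq (PT (F_gi q)) q) (band (Nat.beq (DT (F_gi q)) 1) (band (Nat.ble (Nat.succ q) (F_gi q)) (Nat.ble (Nat.succ q0) (F_gi q))))
noncomputable def a_19 : CfsgLib.TC.AG Col := .tree .gi
noncomputable def E_20 (t q : ℕ) : Bool := Nat.beq (G_gi t (G_a t (G_f t (F_gi q)))) q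
noncomputable def a_20 : CfsgLib.TC.AG Col := .word .gi 21 1 true [Col.f, Col.a, Col.gi]
noncomputable def E_21 (t q : ℕ) : Bool := Nat.beq (G_d t (G_c t (G_d t (G_g t (G_d t (G_g t (G_c t (G_gi t (G_d t (F_gi q)))))))))) q
noncomputable def a_21 : CfsgLib.TC.AG Col := .word .gi 23 6 true [Col.d, Col.gi, Col.c, Col.g, Col.d, Col.g, Col.d, Col.c, Col.d]
noncomputable def E_22 (t q : ℕ) : Bool := Nat.beq (G_c t (G_d t (G_c t (G_g t (G_c t (G_g t (G_d t (G_gi t (G_c t (F_gi q)))))))))) q
noncomputable def a_22 : CfsgLib.TC.AG Col := .word .gi 24 6 true [Col.c, Col.gi, Col.d, Col.g, Col.c, Col.g, Col.c, Col.d, Col.c]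
noncomputable def E_23 (t q : ℕ) : Bool := Nat.beq (G_b t (G_c t (G_gi t (G_c t (G_b t (G_gi t (G_c t (G_gi t (G_c t (G_b t (F_gi q))))))))))) q
noncomputable def a_23 : CfsgLib.TC.AG Col := .word .gi 26 6 false [Col.b, Col.c, Col.gi, Col.c, Col.gi, Col.b, Col.c, Col.gi, Col.c, Col.b]
noncomputable def E_24 (t q : ℕ) : Bool := Nat.beq (G_c t (G_b t (G_gi t (G_c t (G_gi t (G_c t (G_b t (G_gi t (G_b t (G_c t (F_gi q))))))))))) q
noncomputable def a_24 : CfsgLib.TC.AG Col := .word .gi 26 3 false [Col.c, Col.b, Col.gi, Col.b, Col.c, Col.gi, Col.c, Col.gi, Col.b, Col.c]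
noncomputable def E_25 (t q : ℕ) : Bool := Nat.beq (G_e t (G_d t (G_gi t (G_d t (G_e t (G_gi t (G_d t (G_gi t (G_d t (G_e t (F_gi q))))))))))) q
noncomputable def a_25 : CfsgLib.TC.AG Col := .word .gi 27 6 false [Col.e, Col.d, Col.gi, Col.d, Col.gi, Col.e, Col.d, Col.gi, Col.d, Col.e]
noncomputable def E_26 (t q : ℕ) : Bool := Nat.beq (G_d t (G_gi t (G_d t (G_c t (G_d t (G_g t (G_d t (G_g t (G_c t (F_gi q)))))))))) q
noncomputable def a_26 : CfsgLib.TC.AG Col := .word .gi 23 8 true [Col.c, Col.g, Col.d, Col.g, Col.d, Col.c, Col.d, Col.gi, Col.d]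
noncomputable def E_27 (t q : ℕ) : Bool := Nat.beq (G_d t (G_e t (G_gi t (G_d t (G_gi t (G_d t (G_e t (G_gi t (G_e t (G_d t (F_gi q))))))))))) q
noncomputable def a_27 : CfsgLib.TC.AG Col := .word .gi 27 3 false [Col.d, Col.e, Col.gi, Col.e, Col.d, Col.gi, Col.d, Col.gi, Col.e, Col.d]
noncomputable def E_28 (t q : ℕ) : Bool := Nat.beq (G_c t (G_gi t (G_c t (G_b t (G_gi t (G_b t (G_c t (G_gi t (G_c t (G_b t (F_gi q))))))))))) q
noncomputable def a_28 : CfsgLib.TC.AG Col := .word .gi 26 0 false [Col.b, Col.c, Col.gi, Col.c, Col.b, Col.gi, Col.b, Col.c, Col.gi, Col.c]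
noncomputable def E_29 (t q : ℕ) : Bool := Nat.beq (G_d t (G_gi t (G_d t (G_e t (G_gi t (G_e t (G_d t (G_gi t (G_d t (G_e t (F_gi q))))))))))) q
noncomputable def a_29 : CfsgLib.TC.AG Col := .word .gi 27 0 false [Col.e, Col.d, Col.gi, Col.d, Col.e, Col.gi, Col.e, Col.d, Col.gi, Col.d]
noncomputable def E_30 (t q : ℕ) : Bool := Nat.beq (G_c t (G_gi t (G_c t (G_d t (G_c t (G_g t (G_c t (G_g t (G_d t (F_gi q)))))))))) q
noncomputable def a_30 : CfsgLib.TC.AG Col := .word .gi 24 8 true [Col.d, Col.g, Col.c, Col.g, Col.c, Col.d, Col.c, Col.gi, Col.c]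
noncomputable def E_31 (t q : ℕ) : Bool := Nat.beq (G_c t (G_b t (G_gi t (G_b t (G_c t (G_gi t (G_c t (G_b t (G_gi t (G_c t (F_gi q))))))))))) q
noncomputable def a_31 : CfsgLib.TC.AG Col := .word .gi 26 9 false [Col.c, Col.gi, Col.b, Col.c, Col.gi, Col.c, Col.b, Col.gi, Col.b, Col.c]
noncomputable def E_32 (t q : ℕ) : Bool := Nat.beq (G_d t (G_e t (G_gi t (G_e t (G_d t (G_gi t (G_d t (G_e t (G_gi t (G_d t (F_gi q))))))))))) q
noncomputable def a_32 : CfsgLib.TC.AG Col := .word .gi 27 9 false [Col.d, Col.gi, Col.e, Col.d, Col.gi, Col.d, Col.e, Col.gi, Col.e, Col.d]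
noncomputable def E_33 (t q : ℕ) : Bool := Nat.beq (G_d t (G_c t (G_b t (G_gi t (G_d t (G_c t (G_b t (G_gi t (G_d t (G_c t (G_b t (G_gi t (G_d t (G_c t (G_b t (G_gi t (G_d t (G_c t (G_b t (F_gi q)))))))))))))))))))) q
noncomputable def a_33 : CfsgLib.TC.AG Col := .word .gi 25 3 false [Col.b, Col.c, Col.d, Col.gi, Col.b, Col.c, Col.d, Col.gi, Col.b, Col.c, Col.d, Col.gi, Col.b, Col.c, Col.d, Col.gi, Col.b, Col.c, Col.d]
noncomputable def D_gi (q : ℕ) : Bool := (Bool.rec (motive := fun _ => Bool) (Bool.rec (motive := fun _ => Bool) (E_17 (UU_gi q) q) (E_18 (UU_gi q) q) (Nat.ble (nat_lit 1) (VV_gi q))) (Bool.rec (motive := fun _ => Bool) (Bool.rec (motive := fun _ => Bool) (Bool.rec (motive := fun _ => Bool) (E_19 (UU_gi q) q) (Bool.rec (motive := fun _ => Bool) (E_20 (UU_gi q) q) (E_21 (UU_gi q) q) (Nat.ble (nat_lit 4) (VV_gi q))) (Nat.ble (nat_lit 3) (VV_gi q))) (Bool.rec (motive := fun _ => Bool) (Bool.rec (motive := fun _ => Bool) (E_22 (UU_gi q) q) (E_23 (UU_gi q) q) (Nat.ble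 (nat_lit 6) (VV_gi q))) (Bool.rec (motive := fun _ => Bool) (E_24 (UU_gi q) q) (E_25 (UU_gi q) q) (Nat.ble (nat_lit 8) (VV_gi q))) (Nat.ble (nat_lit 7) (VV_gi q))) (Nat.ble (nat_lit 5) (VV_gi q))) (Bool.rec (motive := fun _ => Bool) (Bool.rec (motive := fun _ => Bool) (Bool.rec (motive := fun _ => Bool) (E_26 (UU_gi q) q) (E_27 (UU_gi q) q) (Nat.ble (nat_lit 10) (VV_gi q))) (Bool.rec (motive := fun _ => Bool) (E_28 (UU_gi q) q) (E_29 (UU_gi q) q) (Nat.ble (nat_lit 12) (VV_gi q))) (Nat.ble (nat_lit 11) (VV_gi q))) (Bool.rec (motive := fun _ => Bool) (Bool.rec (motive := fun _ => Bool) (E_30 (UU_gi q) q) (E_31 (UU_gi q) q) (Nat.ble (nat_lit 14) (VV_gi q))) (Bool.rec (motive := fun _ => Bool) (E_32 (UU_gi q) q) (E_33 (UU_gi q) q) (Nat.ble (nat_lit 16) (VV_gi q))) (Nat.ble (nat_lit 15) (VV_gi q))) (Nat.ble (nat_lit 13) (VV_gi q))) (Nat.ble (nat_lit 9) (VV_gi q))) (Nat.ble (nat_lit 2) (VV_gi q)))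
noncomputable def E_34 (t q : ℕ) : Bool := Nat.beq (G_a t (F_a q)) q
noncomputable def a_34 : CfsgLib.TC.AG Col := .word .a 0 0 true [Col.a]
noncomputable def E_35 (t q : ℕ) : Bool := Nat.beq (G_d t (G_a t (G_d t (F_a q)))) q
noncomputable def a_35 : CfsgLib.TC.AG Col := .word .a 3 1 true [Col.d, Col.a, Col.d]
noncomputable def E_36 (t q : ℕ) : Bool := Nat.beq (G_c t (G_a t (G_c t (F_a q)))) q
noncomputable def a_36 : CfsgLib.TC.AG Col := .word .a 2 1 true [Col.c, Col.a, Col.c]
noncomputable def E_37 (t q : ℕ) : Bool := Nat.beq (G_e t (G_a t (G_e t (F_a q)))) q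
noncomputable def a_37 : CfsgLib.TC.AG Col := .word .a 4 1 true [Col.e, Col.a, Col.e]
noncomputable def E_38 (t q : ℕ) : Bool := Nat.beq (G_f t (G_a t (G_f t (F_a q)))) q
noncomputable def a_38 : CfsgLib.TC.AG Col := .word .a 5 1 true [Col.f, Col.a, Col.f]
noncomputable def E_39 (t q : ℕ) : Bool := band (Nat.beq (PT (F_a q)) q) (band (Nat.beq (DT (F_a q)) 2) (band (Nat.ble (Nat.succ q) (F_a q)) (Nat.ble (Nat.succ q0) (F_a q))))
noncomputable def a_39 : CfsgLib.TC.AG Col := .tree .a
noncomputable def E_40 (t q : ℕ) : Bool := Nat.beq (G_g t (G_g t (G_f t (F_a q)))) q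
noncomputable def a_40 : CfsgLib.TC.AG Col := .word .a 21 0 false [Col.f, Col.g, Col.g]
noncomputable def E_41 (t q : ℕ) : Bool := Nat.beq (G_f t (G_gi t (G_gi t (F_a q)))) q
noncomputable def a_41 : CfsgLib.TC.AG Col := .word .a 21 3 true [Col.gi, Col.gi, Col.f]
noncomputable def E_42 (t q : ℕ) : Bool := Nat.beq (G_b t (G_a t (G_b t (G_a t (G_b t (F_a q)))))) q
noncomputable def a_42 : CfsgLib.TC.AG Col := .word .a 1 1 true [Col.b, Col.a, Col.b, Col.a, Col.b]
noncomputable def E_43 (t q : ℕ) : Bool := Nat.beq (G_f t (G_d t (G_c t (G_d t (G_c t (G_d t (G_c t (G_d t (G_c t (F_a q)))))))))) q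
noncomputable def a_43 : CfsgLib.TC.AG Col := .word .a 22 9 true [Col.c, Col.d, Col.c, Col.d, Col.c, Col.d, Col.c, Col.d, Col.f]
noncomputable def E_44 (t q : ℕ) : Bool := Nat.beq (G_c t (G_d t (G_c t (G_d t (G_c t (G_d t (G_c t (G_d t (G_f t (F_a q)))))))))) q
noncomputable def a_44 : CfsgLib.TC.AG Col := .word .a 22 0 false [Col.f, Col.d, Col.c, Col.d, Col.c, Col.d, Col.c, Col.d, Col.c]
noncomputable def E_45 (t q : ℕ) : Bool := band (Nat.beq q0 q) (Nat.beq (F_a q) q0)
noncomputable def a_45 : CfsgLib.TC.AG Col := .base .a 0 [] []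
noncomputable def E_46 (t q : ℕ) : Bool := band (Nat.beq (G_g t q0) q) (Nat.beq (G_gi t (F_a q)) q0)
noncomputable def a_46 : CfsgLib.TC.AG Col := .base .a 6 [Col.g] [Col.gi]
noncomputable def E_47 (t q : ℕ) : Bool := band (Nat.beq (G_g t (G_d t (G_g t q0))) q) (Nat.beq (G_gi t (G_d t (G_gi t (F_a q)))) q0)
noncomputable def a_47 : CfsgLib.TC.AG Col := .base .a 7 [Col.g, Col.d, Col.g] [Col.gi, Col.d, Col.gi]
noncomputable def D_a (q : ℕ) : Bool := (Bool.rec (motive := fun _ => Bool) (Bool.rec (motive := fun _ => Bool) (E_34 (UU_a q) q) (E_35 (UU_a q) q) (Nat.ble (nat_lit 1) (VV_a q))) (Bool.rec (motive := fun _ => Bool) (Bool.rec (motive := fun _ => Bool) (Bool.rec (motive := fun _ => Bool) (E_36 (UU_a q) q) (Bool.rec (motive := fun _ => Bool) (E_37 (UU_a q) q) (E_38 (UU_a q) q) (Nat.ble (nat_lit 4) (VV_a q))) (Nat.ble (nat_lit 3) (VV_a q))) (Bool.rec (motive := fun _ => Bool) (E_39 (UU_a q) q) (Bool.rec (motive := fun _ => Bool) (E_40 (UU_a q) q) (E_41 (UU_a q) q) (Nat.ble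 (nat_lit 7) (VV_a q))) (Nat.ble (nat_lit 6) (VV_a q))) (Nat.ble (nat_lit 5) (VV_a q))) (Bool.rec (motive := fun _ => Bool) (Bool.rec (motive := fun _ => Bool) (E_42 (UU_a q) q) (Bool.rec (motive := fun _ => Bool) (E_43 (UU_a q) q) (E_44 (UU_a q) q) (Nat.ble (nat_lit 10) (VV_a q))) (Nat.ble (nat_lit 9) (VV_a q))) (Bool.rec (motive := fun _ => Bool) (E_45 (UU_a q) q) (Bool.rec (motive := fun _ => Bool) (E_46 (UU_a q) q) (E_47 (UU_a q) q) (Nat.ble (nat_lit 13) (VV_a q))) (Nat.ble (nat_lit 12) (VV_a q))) (Nat.ble (nat_lit 11) (VV_a q))) (Nat.ble (nat_lit 8) (VV_a q))) (Nat.ble (nat_lit 2) (VV_a q)))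
noncomputable def E_48 (t q : ℕ) : Bool := Nat.beq (G_b t (F_b q)) q
noncomputable def a_48 : CfsgLib.TC.AG Col := .word .b 6 0 true [Col.b]
noncomputable def E_49 (t q : ℕ) : Bool := Nat.beq (G_d t (G_b t (G_d t (F_b q)))) q
noncomputable def a_49 : CfsgLib.TC.AG Col := .word .b 8 1 true [Col.d, Col.b, Col.d]
noncomputable def E_50 (t q : ℕ) : Bool := Nat.beq (G_e t (G_b t (G_e t (F_b q)))) q
noncomputable def a_50 : CfsgLib.TC.AG Col := .word .b 9 1 true [Col.e, Col.b, Col.e]
noncomputable def E_51 (t q : ℕ) : Bool := band (Nat.beq (PT (F_b q)) q) (band (Nat.beq (DT (F_b q)) 3) (band (Nat.ble (Nat.succ q) (F_b q)) (Nat.ble (Nat.succ q0) (F_b q))))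
noncomputable def a_51 : CfsgLib.TC.AG Col := .tree .b
noncomputable def E_52 (t q : ℕ) : Bool := Nat.beq (G_f t (G_b t (G_f t (F_b q)))) q
noncomputable def a_52 : CfsgLib.TC.AG Col := .word .b 10 1 true [Col.f, Col.b, Col.f]
noncomputable def E_53 (t q : ℕ) : Bool := Nat.beq (G_c t (G_b t (G_c t (G_b t (G_c t (F_b q)))))) q
noncomputable def a_53 : CfsgLib.TC.AG Col := .word .b 7 1 true [Col.c, Col.b, Col.c, Col.b, Col.c]
noncomputable def E_54 (t q : ℕ) : Bool := Nat.beq (G_a t (G_b t (G_a t (G_b t (G_a t (F_b q)))))) q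
noncomputable def a_54 : CfsgLib.TC.AG Col := .word .b 1 0 true [Col.a, Col.b, Col.a, Col.b, Col.a]
noncomputable def E_55 (t q : ℕ) : Bool := Nat.beq (G_g t (G_b t (G_c t (G_g t (G_c t (G_g t (G_b t (G_c t (G_g t (G_c t (F_b q))))))))))) q
noncomputable def a_55 : CfsgLib.TC.AG Col := .word .b 26 5 true [Col.c, Col.g, Col.c, Col.b, Col.g, Col.c, Col.g, Col.c, Col.b, Col.g]
noncomputable def E_56 (t q : ℕ) : Bool := Nat.beq (G_c t (G_g t (G_c t (G_g t (G_b t (G_c t (G_g t (G_c t (G_b t (G_g t (F_b q))))))))))) q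
noncomputable def a_56 : CfsgLib.TC.AG Col := .word .b 26 3 true [Col.g, Col.b, Col.c, Col.g, Col.c, Col.b, Col.g, Col.c, Col.g, Col.c]
noncomputable def E_57 (t q : ℕ) : Bool := Nat.beq (G_c t (G_gi t (G_c t (G_b t (G_gi t (G_c t (G_gi t (G_c t (G_b t (G_gi t (F_b q))))))))))) q
noncomputable def a_57 : CfsgLib.TC.AG Col := .word .b 26 5 false [Col.gi, Col.b, Col.c, Col.gi, Col.c, Col.gi, Col.b, Col.c, Col.gi, Col.c]
noncomputable def E_58 (t q : ℕ) : Bool := Nat.beq (G_gi t (G_b t (G_c t (G_gi t (G_c t (G_b t (G_gi t (G_c t (G_gi t (G_c t (F_b q))))))))))) q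
noncomputable def a_58 : CfsgLib.TC.AG Col := .word .b 26 7 false [Col.c, Col.gi, Col.c, Col.gi, Col.b, Col.c, Col.gi, Col.c, Col.b, Col.gi]
noncomputable def E_59 (t q : ℕ) : Bool := Nat.beq (G_gi t (G_c t (G_gi t (G_c t (G_b t (G_gi t (G_b t (G_c t (G_gi t (G_c t (F_b q))))))))))) q
noncomputable def a_59 : CfsgLib.TC.AG Col := .word .b 26 1 false [Col.c, Col.gi, Col.c, Col.b, Col.gi, Col.b, Col.c, Col.gi, Col.c, Col.gi]
noncomputable def E_60 (t q : ℕ) : Bool := Nat.beq (G_c t (G_g t (G_c t (G_b t (G_g t (G_b t (G_c t (G_g t (G_c t (G_g t (F_b q))))))))))) q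
noncomputable def a_60 : CfsgLib.TC.AG Col := .word .b 26 9 true [Col.g, Col.c, Col.g, Col.c, Col.b, Col.g, Col.b, Col.c, Col.g, Col.c]
noncomputable def E_61 (t q : ℕ) : Bool := Nat.beq (G_gi t (G_d t (G_c t (G_b t (G_gi t (G_d t (G_c t (G_b t (G_gi t (G_d t (G_c t (G_b t (G_gi t (G_d t (G_c t (G_b t (G_gi t (G_d t (G_c t (F_b q)))))))))))))))))))) q
noncomputable def a_61 : CfsgLib.TC.AG Col := .word .b 25 0 false [Col.c, Col.d, Col.gi, Col.b, Col.c, Col.d, Col.gi, Col.b, Col.c, Col.d, Col.gi, Col.b, Col.c, Col.d, Col.gi, Col.b, Col.c, Col.d, Col.gi]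
noncomputable def E_62 (t q : ℕ) : Bool := Nat.beq (G_c t (G_d t (G_g t (G_b t (G_c t (G_d t (G_g t (G_b t (G_c t (G_d t (G_g t (G_b t (G_c t (G_d t (G_g t (G_b t (G_c t (G_d t (G_g t (F_b q)))))))))))))))))))) q
noncomputable def a_62 : CfsgLib.TC.AG Col := .word .b 25 3 true [Col.g, Col.d, Col.c, Col.b, Col.g, Col.d, Col.c, Col.b, Col.g, Col.d, Col.c, Col.b, Col.g, Col.d, Col.c, Col.b, Col.g, Col.d, Col.c]
noncomputable def E_63 (t q : ℕ) : Bool := band (Nat.beq q0 q) (Nat.beq (F_b q) q0)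
noncomputable def a_63 : CfsgLib.TC.AG Col := .base .b 1 [] []
noncomputable def D_b (q : ℕ) : Bool := (Bool.rec (motive := fun _ => Bool) (Bool.rec (motive := fun _ => Bool) (E_48 (UU_b q) q) (E_49 (UU_b q) q) (Nat.ble (nat_lit 1) (VV_b q))) (Bool.rec (motive := fun _ => Bool) (Bool.rec (motive := fun _ => Bool) (Bool.rec (motive := fun _ => Bool) (E_50 (UU_b q) q) (Bool.rec (motive := fun _ => Bool) (E_51 (UU_b q) q) (E_52 (UU_b q) q) (Nat.ble (nat_lit 4) (VV_b q))) (Nat.ble (nat_lit 3) (VV_b q))) (Bool.rec (motive := fun _ => Bool) (Bool.rec (motive := fun _ => Bool) (E_53 (UU_b q) q) (E_54 (UU_b q) q) (Nat.ble (nat_lit 6) (VV_b q))) (Bool.rec (motive := fun _ => Bool) (E_55 (UU_b q) q) (E_56 (UU_b q) q) (Nat.ble (nat_lit 8) (VV_b q))) (Nat.ble (nat_lit 7) (VV_b q))) (Nat.ble (nat_lit 5) (VV_b q))) (Bool.rec (motive := fun _ => Bool) (Bool.rec (motive := fun _ => Bool) (E_57 (UU_b q) q) (Bool.rec (motive := fun _ => Bool) (E_58 (UU_b q) q) (E_59 (UU_b q) q) (Nat.ble (nat_lit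 11) (VV_b q))) (Nat.ble (nat_lit 10) (VV_b q))) (Bool.rec (motive := fun _ => Bool) (Bool.rec (motive := fun _ => Bool) (E_60 (UU_b q) q) (E_61 (UU_b q) q) (Nat.ble (nat_lit 13) (VV_b q))) (Bool.rec (motive := fun _ => Bool) (E_62 (UU_b q) q) (E_63 (UU_b q) q) (Nat.ble (nat_lit 15) (VV_b q))) (Nat.ble (nat_lit 14) (VV_b q))) (Nat.ble (nat_lit 12) (VV_b q))) (Nat.ble (nat_lit 9) (VV_b q))) (Nat.ble (nat_lit 2) (VV_b q)))
noncomputable def E_64 (t q : ℕ) : Bool := Nat.beq (G_c t (F_c q)) q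
noncomputable def a_64 : CfsgLib.TC.AG Col := .word .c 11 0 true [Col.c]
noncomputable def E_65 (t q : ℕ) : Bool := band (Nat.beq (PT (F_c q)) q) (band (Nat.beq (DT (F_c q)) 4) (band (Nat.ble (Nat.succ q) (F_c q)) (Nat.ble (Nat.succ q0) (F_c q))))
noncomputable def a_65 : CfsgLib.TC.AG Col := .tree .c
noncomputable def E_66 (t q : ℕ) : Bool := Nat.beq (G_a t (G_c t (G_a t (F_c q)))) q
noncomputable def a_66 : CfsgLib.TC.AG Col := .word .c 2 0 true [Col.a, Col.c, Col.a]
noncomputable def E_67 (t q : ℕ) : Bool := Nat.beq (G_e t (G_c t (G_e t (F_c q)))) q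
noncomputable def a_67 : CfsgLib.TC.AG Col := .word .c 13 1 true [Col.e, Col.c, Col.e]
noncomputable def E_68 (t q : ℕ) : Bool := Nat.beq (G_f t (G_c t (G_f t (F_c q)))) q
noncomputable def a_68 : CfsgLib.TC.AG Col := .word .c 14 1 true [Col.f, Col.c, Col.f]
noncomputable def E_69 (t q : ℕ) : Bool := Nat.beq (G_b t (G_c t (G_b t (G_c t (G_b t (F_c q)))))) q
noncomputable def a_69 : CfsgLib.TC.AG Col := .word .c 7 0 true [Col.b, Col.c, Col.b, Col.c, Col.b]
noncomputable def E_70 (t q : ℕ) : Bool := Nat.beq (G_d t (G_c t (G_a t (G_f t (G_d t (G_c t (G_d t (G_c t (G_d t (F_c q)))))))))) q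
noncomputable def a_70 : CfsgLib.TC.AG Col := .word .c 22 2 true [Col.d, Col.c, Col.d, Col.c, Col.d, Col.f, Col.a, Col.c, Col.d]
noncomputable def E_71 (t q : ℕ) : Bool := Nat.beq (G_g t (G_c t (G_g t (G_d t (G_gi t (G_c t (G_gi t (G_c t (G_d t (F_c q)))))))))) q
noncomputable def a_71 : CfsgLib.TC.AG Col := .word .c 24 3 true [Col.d, Col.c, Col.gi, Col.c, Col.gi, Col.d, Col.g, Col.c, Col.g]
noncomputable def E_72 (t q : ℕ) : Bool := Nat.beq (G_g t (G_d t (G_gi t (G_c t (G_gi t (G_c t (G_d t (G_c t (G_g t (F_c q)))))))))) q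
noncomputable def a_72 : CfsgLib.TC.AG Col := .word .c 24 1 true [Col.g, Col.c, Col.d, Col.c, Col.gi, Col.c, Col.gi, Col.d, Col.g]
noncomputable def E_73 (t q : ℕ) : Bool := Nat.beq (G_gi t (G_c t (G_d t (G_c t (G_g t (G_c t (G_g t (G_d t (G_gi t (F_c q)))))))))) q
noncomputable def a_73 : CfsgLib.TC.AG Col := .word .c 24 7 true [Col.gi, Col.d, Col.g, Col.c, Col.g, Col.c, Col.d, Col.c, Col.gi]
noncomputable def E_74 (t q : ℕ) : Bool := Nat.beq (G_gi t (G_d t (G_gi t (G_d t (G_c t (G_d t (G_g t (G_d t (G_g t (F_c q)))))))))) q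
noncomputable def a_74 : CfsgLib.TC.AG Col := .word .c 23 9 true [Col.g, Col.d, Col.g, Col.d, Col.c, Col.d, Col.gi, Col.d, Col.gi]
noncomputable def E_75 (t q : ℕ) : Bool := Nat.beq (G_gi t (G_c t (G_b t (G_gi t (G_c t (G_gi t (G_c t (G_b t (G_gi t (G_b t (F_c q))))))))))) q
noncomputable def a_75 : CfsgLib.TC.AG Col := .word .c 26 4 false [Col.b, Col.gi, Col.b, Col.c, Col.gi, Col.c, Col.gi, Col.b, Col.c, Col.gi]
noncomputable def E_76 (t q : ℕ) : Bool := Nat.beq (G_b t (G_g t (G_b t (G_c t (G_g t (G_c t (G_g t (G_b t (G_c t (G_g t (F_c q))))))))))) q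
noncomputable def a_76 : CfsgLib.TC.AG Col := .word .c 26 6 true [Col.g, Col.c, Col.b, Col.g, Col.c, Col.g, Col.c, Col.b, Col.g, Col.b]
noncomputable def E_77 (t q : ℕ) : Bool := Nat.beq (G_g t (G_c t (G_g t (G_b t (G_c t (G_g t (G_c t (G_b t (G_g t (G_b t (F_c q))))))))))) q
noncomputable def a_77 : CfsgLib.TC.AG Col := .word .c 26 2 true [Col.b, Col.g, Col.b, Col.c, Col.g, Col.c, Col.b, Col.g, Col.c, Col.g]
noncomputable def E_78 (t q : ℕ) : Bool := Nat.beq (G_d t (G_g t (G_d t (G_g t (G_c t (G_gi t (G_d t (G_gi t (G_d t (F_c q)))))))))) q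
noncomputable def a_78 : CfsgLib.TC.AG Col := .word .c 23 4 true [Col.d, Col.gi, Col.d, Col.gi, Col.c, Col.g, Col.d, Col.g, Col.d]
noncomputable def E_79 (t q : ℕ) : Bool := Nat.beq (G_d t (G_c t (G_g t (G_c t (G_g t (G_d t (G_gi t (G_c t (G_gi t (F_c q)))))))))) q
noncomputable def a_79 : CfsgLib.TC.AG Col := .word .c 24 5 true [Col.gi, Col.c, Col.gi, Col.d, Col.g, Col.c, Col.g, Col.c, Col.d]
noncomputable def E_80 (t q : ℕ) : Bool := Nat.beq (G_g t (G_b t (G_c t (G_g t (G_c t (G_b t (G_g t (G_b t (G_c t (G_g t (F_c q))))))))))) q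
noncomputable def a_80 : CfsgLib.TC.AG Col := .word .c 26 0 true [Col.g, Col.c, Col.b, Col.g, Col.b, Col.c, Col.g, Col.c, Col.b, Col.g]
noncomputable def E_81 (t q : ℕ) : Bool := Nat.beq (G_a t (G_f t (G_d t (G_c t (G_d t (G_c t (G_d t (G_c t (G_d t (F_c q)))))))))) q
noncomputable def a_81 : CfsgLib.TC.AG Col := .word .c 22 0 true [Col.d, Col.c, Col.d, Col.c, Col.d, Col.c, Col.d, Col.f, Col.a]
noncomputable def E_82 (t q : ℕ) : Bool := Nat.beq (G_gi t (G_c t (G_b t (G_gi t (G_b t (G_c t (G_gi t (G_c t (G_b t (G_gi t (F_c q))))))))))) q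
noncomputable def a_82 : CfsgLib.TC.AG Col := .word .c 26 10 false [Col.gi, Col.b, Col.c, Col.gi, Col.c, Col.b, Col.gi, Col.b, Col.c, Col.gi]
noncomputable def E_83 (t q : ℕ) : Bool := Nat.beq (G_g t (G_c t (G_b t (G_g t (G_b t (G_c t (G_g t (G_c t (G_g t (G_b t (F_c q))))))))))) q
noncomputable def a_83 : CfsgLib.TC.AG Col := .word .c 26 8 true [Col.b, Col.g, Col.c, Col.g, Col.c, Col.b, Col.g, Col.b, Col.c, Col.g]
noncomputable def E_84 (t q : ℕ) : Bool := Nat.beq (G_b t (G_gi t (G_c t (G_gi t (G_c t (G_b t (G_gi t (G_b t (G_c t (G_gi t (F_c q))))))))))) q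
noncomputable def a_84 : CfsgLib.TC.AG Col := .word .c 26 2 false [Col.gi, Col.c, Col.b, Col.gi, Col.b, Col.c, Col.gi, Col.c, Col.gi, Col.b]
noncomputable def E_85 (t q : ℕ) : Bool := Nat.beq (G_d t (G_c t (G_d t (G_c t (G_a t (G_f t (G_d t (G_c t (G_d t (F_c q)))))))))) q
noncomputable def a_85 : CfsgLib.TC.AG Col := .word .c 22 4 true [Col.d, Col.c, Col.d, Col.f, Col.a, Col.c, Col.d, Col.c, Col.d]
noncomputable def E_86 (t q : ℕ) : Bool := Nat.beq (G_b t (G_gi t (G_b t (G_c t (G_gi t (G_c t (G_b t (G_gi t (G_c t (G_gi t (F_c q))))))))))) q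
noncomputable def a_86 : CfsgLib.TC.AG Col := .word .c 26 8 false [Col.gi, Col.c, Col.gi, Col.b, Col.c, Col.gi, Col.c, Col.b, Col.gi, Col.b]
noncomputable def E_87 (t q : ℕ) : Bool := Nat.beq (G_d t (G_c t (G_d t (G_c t (G_d t (G_c t (G_a t (G_f t (G_d t (F_c q)))))))))) q
noncomputable def a_87 : CfsgLib.TC.AG Col := .word .c 22 6 true [Col.d, Col.f, Col.a, Col.c, Col.d, Col.c, Col.d, Col.c, Col.d]
noncomputable def E_88 (t q : ℕ) : Bool := Nat.beq (G_d t (G_g t (G_b t (G_c t (G_d t (G_g t (G_b t (G_c t (G_d t (G_g t (G_b t (G_c t (G_d t (G_g t (G_b t (G_c t (G_d t (G_g t (G_b t (F_c q)))))))))))))))))))) q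
noncomputable def a_88 : CfsgLib.TC.AG Col := .word .c 25 2 true [Col.b, Col.g, Col.d, Col.c, Col.b, Col.g, Col.d, Col.c, Col.b, Col.g, Col.d, Col.c, Col.b, Col.g, Col.d, Col.c, Col.b, Col.g, Col.d]
noncomputable def E_89 (t q : ℕ) : Bool := Nat.beq (G_b t (G_gi t (G_d t (G_c t (G_b t (G_gi t (G_d t (G_c t (G_b t (G_gi t (G_d t (G_c t (G_b t (G_gi t (G_d t (G_c t (G_b t (G_gi t (G_d t (F_c q)))))))))))))))))))) q
noncomputable def a_89 : CfsgLib.TC.AG Col := .word .c 25 1 false [Col.d, Col.gi, Col.b, Col.c, Col.d, Col.gi, Col.b, Col.c, Col.d, Col.gi, Col.b, Col.c, Col.d, Col.gi, Col.b, Col.c, Col.d, Col.gi, Col.b]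
noncomputable def E_90 (t q : ℕ) : Bool := Nat.beq (G_d t (G_c t (G_d t (G_c t (G_d t (G_c t (G_d t (G_f t (G_a t (F_c q)))))))))) q
noncomputable def a_90 : CfsgLib.TC.AG Col := .word .c 22 9 false [Col.a, Col.f, Col.d, Col.c, Col.d, Col.c, Col.d, Col.c, Col.d]
noncomputable def E_91 (t q : ℕ) : Bool := Nat.beq (G_d t (G_f t (G_a t (G_c t (G_d t (G_c t (G_d t (G_c t (G_d t (F_c q)))))))))) q
noncomputable def a_91 : CfsgLib.TC.AG Col := .word .c 22 3 false [Col.d, Col.c, Col.d, Col.c, Col.d, Col.c, Col.a, Col.f, Col.d]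
noncomputable def E_92 (t q : ℕ) : Bool := Nat.beq (G_d t (G_c t (G_d t (G_c t (G_d t (G_c t (G_d t (G_c t (G_d t (G_c t (G_d t (G_c t (G_d t (G_c t (G_d t (F_c q)))))))))))))))) q
noncomputable def a_92 : CfsgLib.TC.AG Col := .word .c 12 1 true [Col.d, Col.c, Col.d, Col.c, Col.d, Col.c, Col.d, Col.c, Col.d, Col.c, Col.d, Col.c, Col.d, Col.c, Col.d]
noncomputable def E_93 (t q : ℕ) : Bool := Nat.beq (G_d t (G_c t (G_d t (G_c t (G_d t (G_f t (G_a t (G_c t (G_d t (F_c q)))))))))) q
noncomputable def a_93 : CfsgLib.TC.AG Col := .word .c 22 7 false [Col.d, Col.c, Col.a, Col.f, Col.d, Col.c, Col.d, Col.c, Col.d]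
noncomputable def E_94 (t q : ℕ) : Bool := Nat.beq (G_d t (G_c t (G_d t (G_f t (G_a t (G_c t (G_d t (G_c t (G_d t (F_c q)))))))))) q
noncomputable def a_94 : CfsgLib.TC.AG Col := .word .c 22 5 false [Col.d, Col.c, Col.d, Col.c, Col.a, Col.f, Col.d, Col.c, Col.d]
noncomputable def E_95 (t q : ℕ) : Bool := band (Nat.beq q0 q) (Nat.beq (F_c q) q0)
noncomputable def a_95 : CfsgLib.TC.AG Col := .base .c 2 [] []
noncomputable def E_96 (t q : ℕ) : Bool := band (Nat.beq (G_g t (G_e t (G_gi t (G_d t (G_e t (G_g t q0)))))) q) (Nat.beq (G_gi t (G_e t (G_d t (G_g t (G_c t (G_e t (G_d t (F_c q)))))))) q0)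
noncomputable def a_96 : CfsgLib.TC.AG Col := .base .c 8 [Col.g, Col.e, Col.d, Col.gi, Col.e, Col.g] [Col.d, Col.e, Col.c, Col.g, Col.d, Col.e, Col.gi]
noncomputable def D_c (q : ℕ) : Bool := (Bool.rec (motive := fun _ => Bool) (Bool.rec (motive := fun _ => Bool) (E_64 (UU_c q) q) (E_65 (UU_c q) q) (Nat.ble (nat_lit 1) (VV_c q))) (Bool.rec (motive := fun _ => Bool) (Bool.rec (motive := fun _ => Bool) (Bool.rec (motive := fun _ => Bool) (Bool.rec (motive := fun _ => Bool) (E_66 (UU_c q) q) (Bool.rec (motive := fun _ => Bool) (E_67 (UU_c q) q) (E_68 (UU_c q) q) (Nat.ble (nat_lit 4) (VV_c q))) (Nat.ble (nat_lit 3) (VV_c q))) (Bool.rec (motive := fun _ => Bool) (Bool.rec (motive := fun _ => Bool) (E_69 (UU_c q) q) (E_70 (UU_c q) q) (Nat.ble (nat_lit 6) (VV_c q))) (Bool.rec (motive := fun _ => Bool) (E_71 (UU_c q) q) (E_72 (UU_c q) q) (Nat.ble (nat_lit 8) (VV_c q))) (Nat.ble (nat_lit 7) (VV_c q))) (Nat.ble (nat_lit 5) (VV_c q))) (Bool.rec (motive := fun _ => Bool) (Bool.rec (motive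 := fun _ => Bool) (Bool.rec (motive := fun _ => Bool) (E_73 (UU_c q) q) (E_74 (UU_c q) q) (Nat.ble (nat_lit 10) (VV_c q))) (Bool.rec (motive := fun _ => Bool) (E_75 (UU_c q) q) (E_76 (UU_c q) q) (Nat.ble (nat_lit 12) (VV_c q))) (Nat.ble (nat_lit 11) (VV_c q))) (Bool.rec (motive := fun _ => Bool) (Bool.rec (motive := fun _ => Bool) (E_77 (UU_c q) q) (E_78 (UU_c q) q) (Nat.ble (nat_lit 14) (VV_c q))) (Bool.rec (motive := fun _ => Bool) (E_79 (UU_c q) q) (E_80 (UU_c q) q) (Nat.ble (nat_lit 16) (VV_c q))) (Nat.ble (nat_lit 15) (VV_c q))) (Nat.ble (nat_lit 13) (VV_c q))) (Nat.ble (nat_lit 9) (VV_c q))) (Bool.rec (motive := fun _ => Bool) (Bool.rec (motive := fun _ => Bool) (Bool.rec (motive := fun _ => Bool) (Bool.rec (motive := fun _ => Bool) (E_81 (UU_c q) q) (E_82 (UU_c q) q) (Nat.ble (nat_lit 18) (VV_c q))) (Bool.rec (motive := fun _ => Bool) (E_83 (UU_c q) q) (E_84 (UU_c q) q) (Nat.ble (nat_lit 20) (VV_c q))) (Nat.ble (nat_lit 19) (VV_c q))) (Bool.rec (motive := fun _ =>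 Bool) (Bool.rec (motive := fun _ => Bool) (E_85 (UU_c q) q) (E_86 (UU_c q) q) (Nat.ble (nat_lit 22) (VV_c q))) (Bool.rec (motive := fun _ => Bool) (E_87 (UU_c q) q) (E_88 (UU_c q) q) (Nat.ble (nat_lit 24) (VV_c q))) (Nat.ble (nat_lit 23) (VV_c q))) (Nat.ble (nat_lit 21) (VV_c q))) (Bool.rec (motive := fun _ => Bool) (Bool.rec (motive := fun _ => Bool) (Bool.rec (motive := fun _ => Bool) (E_89 (UU_c q) q) (E_90 (UU_c q) q) (Nat.ble (nat_lit 26) (VV_c q))) (Bool.rec (motive := fun _ => Bool) (E_91 (UU_c q) q) (E_92 (UU_c q) q) (Nat.ble (nat_lit 28) (VV_c q))) (Nat.ble (nat_lit 27) (VV_c q))) (Bool.rec (motive := fun _ => Bool) (Bool.rec (motive := fun _ => Bool) (E_93 (UU_c q) q) (E_94 (UU_c q) q) (Nat.ble (nat_lit 30) (VV_c q))) (Bool.rec (motive := fun _ => Bool) (E_95 (UU_c q) q) (E_96 (UU_c q) q) (Nat.ble (nat_lit 32) (VV_c q))) (Nat.ble (nat_lit 31) (VV_c q))) (Nat.ble (nat_lit 29) (VV_c q))) (Nat.ble (nat_lit 25) (VV_c q))) (Nat.ble (nat_lit 17) (VV_c q))) (Nat.ble (nat_lit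 2) (VV_c q)))
noncomputable def E_97 (t q : ℕ) : Bool := Nat.beq (G_d t (F_d q)) q
noncomputable def a_97 : CfsgLib.TC.AG Col := .word .d 15 0 true [Col.d]
noncomputable def E_98 (t q : ℕ) : Bool := band (Nat.beq (PT (F_d q)) q) (band (Nat.beq (DT (F_d q)) 5) (band (Nat.ble (Nat.succ q) (F_d q)) (Nat.ble (Nat.succ q0) (F_d q))))
noncomputable def a_98 : CfsgLib.TC.AG Col := .tree .d
noncomputable def E_99 (t q : ℕ) : Bool := Nat.beq (G_a t (G_d t (G_a t (F_d q)))) q
noncomputable def a_99 : CfsgLib.TC.AG Col := .word .d 3 0 true [Col.a, Col.d, Col.a]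
noncomputable def E_100 (t q : ℕ) : Bool := Nat.beq (G_b t (G_d t (G_b t (F_d q)))) q
noncomputable def a_100 : CfsgLib.TC.AG Col := .word .d 8 0 true [Col.b, Col.d, Col.b]
noncomputable def E_101 (t q : ℕ) : Bool := Nat.beq (G_f t (G_d t (G_f t (F_d q)))) q
noncomputable def a_101 : CfsgLib.TC.AG Col := .word .d 17 1 true [Col.f, Col.d, Col.f]
noncomputable def E_102 (t q : ℕ) : Bool := Nat.beq (G_e t (G_d t (G_e t (G_d t (G_e t (F_d q)))))) q
noncomputable def a_102 : CfsgLib.TC.AG Col := .word .d 16 1 true [Col.e, Col.d, Col.e, Col.d, Col.e]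
noncomputable def E_103 (t q : ℕ) : Bool := Nat.beq (G_g t (G_d t (G_g t (G_c t (G_gi t (G_d t (G_gi t (G_d t (G_c t (F_d q)))))))))) q
noncomputable def a_103 : CfsgLib.TC.AG Col := .word .d 23 3 true [Col.c, Col.d, Col.gi, Col.d, Col.gi, Col.c, Col.g, Col.d, Col.g]
noncomputable def E_104 (t q : ℕ) : Bool := Nat.beq (G_g t (G_c t (G_gi t (G_d t (G_gi t (G_d t (G_c t (G_d t (G_g t (F_d q)))))))))) q
noncomputable def a_104 : CfsgLib.TC.AG Col := .word .d 23 1 true [Col.g, Col.d, Col.c, Col.d, Col.gi, Col.d, Col.gi, Col.c, Col.g]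
noncomputable def E_105 (t q : ℕ) : Bool := Nat.beq (G_c t (G_a t (G_f t (G_d t (G_c t (G_d t (G_c t (G_d t (G_c t (F_d q)))))))))) q
noncomputable def a_105 : CfsgLib.TC.AG Col := .word .d 22 1 true [Col.c, Col.d, Col.c, Col.d, Col.c, Col.d, Col.f, Col.a, Col.c]
noncomputable def E_106 (t q : ℕ) : Bool := Nat.beq (G_gi t (G_d t (G_c t (G_d t (G_g t (G_d t (G_g t (G_c t (G_gi t (F_d q)))))))))) q
noncomputable def a_106 : CfsgLib.TC.AG Col := .word .d 23 7 true [Col.gi, Col.c, Col.g, Col.d, Col.g, Col.d, Col.c, Col.d, Col.gi]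
noncomputable def E_107 (t q : ℕ) : Bool := Nat.beq (G_e t (G_g t (G_e t (G_d t (G_g t (G_d t (G_g t (G_e t (G_d t (G_g t (F_d q))))))))))) q
noncomputable def a_107 : CfsgLib.TC.AG Col := .word .d 27 6 true [Col.g, Col.d, Col.e, Col.g, Col.d, Col.g, Col.d, Col.e, Col.g, Col.e]
noncomputable def E_108 (t q : ℕ) : Bool := Nat.beq (G_gi t (G_d t (G_e t (G_gi t (G_d t (G_gi t (G_d t (G_e t (G_gi t (G_e t (F_d q))))))))))) q
noncomputable def a_108 : CfsgLib.TC.AG Col := .word .d 27 4 false [Col.e, Col.gi, Col.e, Col.d, Col.gi, Col.d, Col.gi, Col.e, Col.d, Col.gi]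
noncomputable def E_109 (t q : ℕ) : Bool := Nat.beq (G_c t (G_d t (G_g t (G_d t (G_g t (G_c t (G_gi t (G_d t (G_gi t (F_d q)))))))))) q
noncomputable def a_109 : CfsgLib.TC.AG Col := .word .d 23 5 true [Col.gi, Col.d, Col.gi, Col.c, Col.g, Col.d, Col.g, Col.d, Col.c]
noncomputable def E_110 (t q : ℕ) : Bool := Nat.beq (G_g t (G_d t (G_g t (G_e t (G_d t (G_g t (G_d t (G_e t (G_g t (G_e t (F_d q))))))))))) q
noncomputable def a_110 : CfsgLib.TC.AG Col := .word .d 27 2 true [Col.e, Col.g, Col.e, Col.d, Col.g, Col.d, Col.e, Col.g, Col.d, Col.g]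
noncomputable def E_111 (t q : ℕ) : Bool := Nat.beq (G_g t (G_e t (G_d t (G_g t (G_d t (G_e t (G_g t (G_e t (G_d t (G_g t (F_d q))))))))))) q
noncomputable def a_111 : CfsgLib.TC.AG Col := .word .d 27 0 true [Col.g, Col.d, Col.e, Col.g, Col.e, Col.d, Col.g, Col.d, Col.e, Col.g]
noncomputable def E_112 (t q : ℕ) : Bool := Nat.beq (G_c t (G_d t (G_c t (G_a t (G_f t (G_d t (G_c t (G_d t (G_c t (F_d q)))))))))) q
noncomputable def a_112 : CfsgLib.TC.AG Col := .word .d 22 3 true [Col.c, Col.d, Col.c, Col.d, Col.f, Col.a, Col.c, Col.d, Col.c]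
noncomputable def E_113 (t q : ℕ) : Bool := Nat.beq (G_gi t (G_d t (G_e t (G_gi t (G_e t (G_d t (G_gi t (G_d t (G_e t (G_gi t (F_d q))))))))))) q
noncomputable def a_113 : CfsgLib.TC.AG Col := .word .d 27 10 false [Col.gi, Col.e, Col.d, Col.gi, Col.d, Col.e, Col.gi, Col.e, Col.d, Col.gi]
noncomputable def E_114 (t q : ℕ) : Bool := Nat.beq (G_gi t (G_c t (G_gi t (G_c t (G_d t (G_c t (G_g t (G_c t (G_g t (F_d q)))))))))) q
noncomputable def a_114 : CfsgLib.TC.AG Col := .word .d 24 9 true [Col.g, Col.c, Col.g, Col.c, Col.d, Col.c, Col.gi, Col.c, Col.gi]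
noncomputable def E_115 (t q : ℕ) : Bool := Nat.beq (G_c t (G_g t (G_c t (G_g t (G_d t (G_gi t (G_c t (G_gi t (G_c t (F_d q)))))))))) q
noncomputable def a_115 : CfsgLib.TC.AG Col := .word .d 24 4 true [Col.c, Col.gi, Col.c, Col.gi, Col.d, Col.g, Col.c, Col.g, Col.c]
noncomputable def E_116 (t q : ℕ) : Bool := Nat.beq (G_e t (G_gi t (G_d t (G_gi t (G_d t (G_e t (G_gi t (G_e t (G_d t (G_gi t (F_d q))))))))))) q
noncomputable def a_116 : CfsgLib.TC.AG Col := .word .d 27 2 false [Col.gi, Col.d, Col.e, Col.gi, Col.e, Col.d, Col.gi, Col.d, Col.gi, Col.e]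
noncomputable def E_117 (t q : ℕ) : Bool := Nat.beq (G_g t (G_d t (G_e t (G_g t (G_e t (G_d t (G_g t (G_d t (G_g t (G_e t (F_d q))))))))))) q
noncomputable def a_117 : CfsgLib.TC.AG Col := .word .d 27 8 true [Col.e, Col.g, Col.d, Col.g, Col.d, Col.e, Col.g, Col.e, Col.d, Col.g]
noncomputable def E_118 (t q : ℕ) : Bool := Nat.beq (G_g t (G_b t (G_c t (G_d t (G_g t (G_b t (G_c t (G_d t (G_g t (G_b t (G_c t (G_d t (G_g t (G_b t (G_c t (G_d t (G_g t (G_b t (G_c t (F_d q)))))))))))))))))))) q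
noncomputable def a_118 : CfsgLib.TC.AG Col := .word .d 25 1 true [Col.c, Col.b, Col.g, Col.d, Col.c, Col.b, Col.g, Col.d, Col.c, Col.b, Col.g, Col.d, Col.c, Col.b, Col.g, Col.d, Col.c, Col.b, Col.g]
noncomputable def E_119 (t q : ℕ) : Bool := Nat.beq (G_c t (G_d t (G_c t (G_d t (G_c t (G_a t (G_f t (G_d t (G_c t (F_d q)))))))))) q
noncomputable def a_119 : CfsgLib.TC.AG Col := .word .d 22 5 true [Col.c, Col.d, Col.f, Col.a, Col.c, Col.d, Col.c, Col.d, Col.c]
noncomputable def E_120 (t q : ℕ) : Bool := Nat.beq (G_c t (G_b t (G_gi t (G_d t (G_c t (G_b t (G_gi t (G_d t (G_c t (G_b t (G_gi t (G_d t (G_c t (G_b t (G_gi t (G_d t (G_c t (G_b t (G_gi t (F_d q)))))))))))))))))))) q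
noncomputable def a_120 : CfsgLib.TC.AG Col := .word .d 25 2 false [Col.gi, Col.b, Col.c, Col.d, Col.gi, Col.b, Col.c, Col.d, Col.gi, Col.b, Col.c, Col.d, Col.gi, Col.b, Col.c, Col.d, Col.gi, Col.b, Col.c]
noncomputable def E_121 (t q : ℕ) : Bool := Nat.beq (G_e t (G_gi t (G_e t (G_d t (G_gi t (G_d t (G_e t (G_gi t (G_d t (G_gi t (F_d q))))))))))) q
noncomputable def a_121 : CfsgLib.TC.AG Col := .word .d 27 8 false [Col.gi, Col.d, Col.gi, Col.e, Col.d, Col.gi, Col.d, Col.e, Col.gi, Col.e]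
noncomputable def E_122 (t q : ℕ) : Bool := Nat.beq (G_f t (G_a t (G_c t (G_d t (G_c t (G_d t (G_c t (G_d t (G_c t (F_d q)))))))))) q
noncomputable def a_122 : CfsgLib.TC.AG Col := .word .d 22 2 false [Col.c, Col.d, Col.c, Col.d, Col.c, Col.d, Col.c, Col.a, Col.f]
noncomputable def E_123 (t q : ℕ) : Bool := Nat.beq (G_c t (G_d t (G_c t (G_d t (G_c t (G_d t (G_c t (G_a t (G_f t (F_d q)))))))))) q
noncomputable def a_123 : CfsgLib.TC.AG Col := .word .d 22 7 true [Col.f, Col.a, Col.c, Col.d, Col.c, Col.d, Col.c, Col.d, Col.c]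
noncomputable def E_124 (t q : ℕ) : Bool := Nat.beq (G_c t (G_d t (G_c t (G_d t (G_c t (G_d t (G_f t (G_a t (G_c t (F_d q)))))))))) q
noncomputable def a_124 : CfsgLib.TC.AG Col := .word .d 22 8 false [Col.c, Col.a, Col.f, Col.d, Col.c, Col.d, Col.c, Col.d, Col.c]
noncomputable def E_125 (t q : ℕ) : Bool := Nat.beq (G_c t (G_d t (G_c t (G_d t (G_c t (G_d t (G_c t (G_d t (G_c t (G_d t (G_c t (G_d t (G_c t (G_d t (G_c t (F_d q)))))))))))))))) q
noncomputable def a_125 : CfsgLib.TC.AG Col := .word .d 12 0 true [Col.c, Col.d, Col.c, Col.d, Col.c, Col.d, Col.c, Col.d, Col.c, Col.d, Col.c, Col.d, Col.c, Col.d, Col.c]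
noncomputable def E_126 (t q : ℕ) : Bool := Nat.beq (G_c t (G_d t (G_c t (G_d t (G_f t (G_a t (G_c t (G_d t (G_c t (F_d q)))))))))) q
noncomputable def a_126 : CfsgLib.TC.AG Col := .word .d 22 6 false [Col.c, Col.d, Col.c, Col.a, Col.f, Col.d, Col.c, Col.d, Col.c]
noncomputable def E_127 (t q : ℕ) : Bool := Nat.beq (G_c t (G_d t (G_f t (G_a t (G_c t (G_d t (G_c t (G_d t (G_c t (F_d q)))))))))) q
noncomputable def a_127 : CfsgLib.TC.AG Col := .word .d 22 4 false [Col.c, Col.d, Col.c, Col.d, Col.c, Col.a, Col.f, Col.d, Col.c]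
noncomputable def E_128 (t q : ℕ) : Bool := band (Nat.beq q0 q) (Nat.beq (F_d q) q0)
noncomputable def a_128 : CfsgLib.TC.AG Col := .base .d 3 [] []
noncomputable def D_d (q : ℕ) : Bool := (Bool.rec (motive := fun _ => Bool) (Bool.rec (motive := fun _ => Bool) (E_97 (UU_d q) q) (E_98 (UU_d q) q) (Nat.ble (nat_lit 1) (VV_d q))) (Bool.rec (motive := fun _ => Bool) (Bool.rec (motive := fun _ => Bool) (Bool.rec (motive := fun _ => Bool) (Bool.rec (motive := fun _ => Bool) (E_99 (UU_d q) q) (Bool.rec (motive := fun _ => Bool) (E_100 (UU_d q) q) (E_101 (UU_d q) q) (Nat.ble (nat_lit 4) (VV_d q))) (Nat.ble (nat_lit 3) (VV_d q))) (Bool.rec (motive := fun _ => Bool) (Bool.rec (motive := fun _ => Bool) (E_102 (UU_d q) q) (E_103 (UU_d q) q) (Nat.ble (nat_lit 6) (VV_d q))) (Bool.rec (motive := fun _ => Bool) (E_104 (UU_d q) q) (E_105 (UU_d q) q) (Nat.ble (nat_lit 8) (VV_d q))) (Nat.ble (nat_lit 7) (VV_d q))) (Nat.ble (nat_lit 5) (VV_d q))) (Bool.rec (motive := fun _ => Bool) (Bool.rec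 (motive := fun _ => Bool) (Bool.rec (motive := fun _ => Bool) (E_106 (UU_d q) q) (E_107 (UU_d q) q) (Nat.ble (nat_lit 10) (VV_d q))) (Bool.rec (motive := fun _ => Bool) (E_108 (UU_d q) q) (E_109 (UU_d q) q) (Nat.ble (nat_lit 12) (VV_d q))) (Nat.ble (nat_lit 11) (VV_d q))) (Bool.rec (motive := fun _ => Bool) (Bool.rec (motive := fun _ => Bool) (E_110 (UU_d q) q) (E_111 (UU_d q) q) (Nat.ble (nat_lit 14) (VV_d q))) (Bool.rec (motive := fun _ => Bool) (E_112 (UU_d q) q) (E_113 (UU_d q) q) (Nat.ble (nat_lit 16) (VV_d q))) (Nat.ble (nat_lit 15) (VV_d q))) (Nat.ble (nat_lit 13) (VV_d q))) (Nat.ble (nat_lit 9) (VV_d q))) (Bool.rec (motive := fun _ => Bool) (Bool.rec (motive := fun _ => Bool) (Bool.rec (motive := fun _ => Bool) (E_114 (UU_d q) q) (Bool.rec (motive := fun _ => Bool) (E_115 (UU_d q) q) (E_116 (UU_d q) q) (Nat.ble (nat_lit 19) (VV_d q))) (Nat.ble (nat_lit 18) (VV_d q))) (Bool.rec (motive := fun _ => Bool) (Bool.rec (motive := fun _ => Bool) (E_117 (UU_d q) q) (E_118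 (UU_d q) q) (Nat.ble (nat_lit 21) (VV_d q))) (Bool.rec (motive := fun _ => Bool) (E_119 (UU_d q) q) (E_120 (UU_d q) q) (Nat.ble (nat_lit 23) (VV_d q))) (Nat.ble (nat_lit 22) (VV_d q))) (Nat.ble (nat_lit 20) (VV_d q))) (Bool.rec (motive := fun _ => Bool) (Bool.rec (motive := fun _ => Bool) (Bool.rec (motive := fun _ => Bool) (E_121 (UU_d q) q) (E_122 (UU_d q) q) (Nat.ble (nat_lit 25) (VV_d q))) (Bool.rec (motive := fun _ => Bool) (E_123 (UU_d q) q) (E_124 (UU_d q) q) (Nat.ble (nat_lit 27) (VV_d q))) (Nat.ble (nat_lit 26) (VV_d q))) (Bool.rec (motive := fun _ => Bool) (Bool.rec (motive := fun _ => Bool) (E_125 (UU_d q) q) (E_126 (UU_d q) q) (Nat.ble (nat_lit 29) (VV_d q))) (Bool.rec (motive := fun _ => Bool) (E_127 (UU_d q) q) (E_128 (UU_d q) q) (Nat.ble (nat_lit 31) (VV_d q))) (Nat.ble (nat_lit 30) (VV_d q))) (Nat.ble (nat_lit 28) (VV_d q))) (Nat.ble (nat_lit 24) (VV_d q))) (Nat.ble (nat_lit 17) (VV_d q))) (Nat.ble (nat_lit 2) (VV_d q)))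
noncomputable def E_129 (t q : ℕ) : Bool := Nat.beq (G_e t (F_e q)) q
noncomputable def a_129 : CfsgLib.TC.AG Col := .word .e 18 0 true [Col.e]
noncomputable def E_130 (t q : ℕ) : Bool := band (Nat.beq (PT (F_e q)) q) (band (Nat.beq (DT (F_e q)) 6) (band (Nat.ble (Nat.succ q) (F_e q)) (Nat.ble (Nat.succ q0) (F_e q))))
noncomputable def a_130 : CfsgLib.TC.AG Col := .tree .e
noncomputable def E_131 (t q : ℕ) : Bool := Nat.beq (G_a t (G_e t (G_a t (F_e q)))) q
noncomputable def a_131 : CfsgLib.TC.AG Col := .word .e 4 0 true [Col.a, Col.e, Col.a]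
noncomputable def E_132 (t q : ℕ) : Bool := Nat.beq (G_b t (G_e t (G_b t (F_e q)))) q
noncomputable def a_132 : CfsgLib.TC.AG Col := .word .e 9 0 true [Col.b, Col.e, Col.b]
noncomputable def E_133 (t q : ℕ) : Bool := Nat.beq (G_c t (G_e t (G_c t (F_e q)))) q
noncomputable def a_133 : CfsgLib.TC.AG Col := .word .e 13 0 true [Col.c, Col.e, Col.c]
noncomputable def E_134 (t q : ℕ) : Bool := Nat.beq (G_d t (G_e t (G_d t (G_e t (G_d t (F_e q)))))) q
noncomputable def a_134 : CfsgLib.TC.AG Col := .word .e 16 0 true [Col.d, Col.e, Col.d, Col.e, Col.d]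
noncomputable def E_135 (t q : ℕ) : Bool := Nat.beq (G_g t (G_e t (G_d t (G_g t (G_d t (G_g t (G_e t (G_d t (G_g t (G_d t (F_e q))))))))))) q
noncomputable def a_135 : CfsgLib.TC.AG Col := .word .e 27 5 true [Col.d, Col.g, Col.d, Col.e, Col.g, Col.d, Col.g, Col.d, Col.e, Col.g]
noncomputable def E_136 (t q : ℕ) : Bool := Nat.beq (G_f t (G_e t (G_f t (G_e t (G_f t (F_e q)))))) q
noncomputable def a_136 : CfsgLib.TC.AG Col := .word .e 19 1 true [Col.f, Col.e, Col.f, Col.e, Col.f]
noncomputable def E_137 (t q : ℕ) : Bool := Nat.beq (G_d t (G_g t (G_d t (G_g t (G_e t (G_d t (G_g t (G_d t (G_e t (G_g t (F_e q))))))))))) q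
noncomputable def a_137 : CfsgLib.TC.AG Col := .word .e 27 3 true [Col.g, Col.e, Col.d, Col.g, Col.d, Col.e, Col.g, Col.d, Col.g, Col.d]
noncomputable def E_138 (t q : ℕ) : Bool := Nat.beq (G_d t (G_gi t (G_d t (G_e t (G_gi t (G_d t (G_gi t (G_d t (G_e t (G_gi t (F_e q))))))))))) q
noncomputable def a_138 : CfsgLib.TC.AG Col := .word .e 27 5 false [Col.gi, Col.e, Col.d, Col.gi, Col.d, Col.gi, Col.e, Col.d, Col.gi, Col.d]
noncomputable def E_139 (t q : ℕ) : Bool := Nat.beq (G_gi t (G_e t (G_d t (G_gi t (G_d t (G_e t (G_gi t (G_d t (G_gi t (G_d t (F_e q))))))))))) q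
noncomputable def a_139 : CfsgLib.TC.AG Col := .word .e 27 7 false [Col.d, Col.gi, Col.d, Col.gi, Col.e, Col.d, Col.gi, Col.d, Col.e, Col.gi]
noncomputable def E_140 (t q : ℕ) : Bool := Nat.beq (G_gi t (G_d t (G_gi t (G_d t (G_e t (G_gi t (G_e t (G_d t (G_gi t (G_d t (F_e q))))))))))) q
noncomputable def a_140 : CfsgLib.TC.AG Col := .word .e 27 1 false [Col.d, Col.gi, Col.d, Col.e, Col.gi, Col.e, Col.d, Col.gi, Col.d, Col.gi]
noncomputable def E_141 (t q : ℕ) : Bool := Nat.beq (G_d t (G_g t (G_d t (G_e t (G_g t (G_e t (G_d t (G_g t (G_d t (G_g t (F_e q))))))))))) q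
noncomputable def a_141 : CfsgLib.TC.AG Col := .word .e 27 9 true [Col.g, Col.d, Col.g, Col.d, Col.e, Col.g, Col.e, Col.d, Col.g, Col.d]
noncomputable def E_142 (t q : ℕ) : Bool := band (Nat.beq q0 q) (Nat.beq (F_e q) q0)
noncomputable def a_142 : CfsgLib.TC.AG Col := .base .e 4 [] []
noncomputable def D_e (q : ℕ) : Bool := (Bool.rec (motive := fun _ => Bool) (Bool.rec (motive := fun _ => Bool) (E_129 (UU_e q) q) (E_130 (UU_e q) q) (Nat.ble (nat_lit 1) (VV_e q))) (Bool.rec (motive := fun _ => Bool) (Bool.rec (motive := fun _ => Bool) (Bool.rec (motive := fun _ => Bool) (E_131 (UU_e q) q) (Bool.rec (motive := fun _ => Bool) (E_132 (UU_e q) q) (E_133 (UU_e q) q) (Nat.ble (nat_lit 4) (VV_e q))) (Nat.ble (nat_lit 3) (VV_e q))) (Bool.rec (motive := fun _ => Bool) (E_134 (UU_e q) q) (Bool.rec (motive := fun _ => Bool) (E_135 (UU_e q) q) (E_136 (UU_e q) q) (Nat.ble (nat_lit 7) (VV_e q))) (Nat.ble (nat_lit 6) (VV_e q))) (Nat.ble (nat_lit 5) (VV_e q))) (Bool.rec (motive := fun _ =>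 Bool) (Bool.rec (motive := fun _ => Bool) (E_137 (UU_e q) q) (Bool.rec (motive := fun _ => Bool) (E_138 (UU_e q) q) (E_139 (UU_e q) q) (Nat.ble (nat_lit 10) (VV_e q))) (Nat.ble (nat_lit 9) (VV_e q))) (Bool.rec (motive := fun _ => Bool) (E_140 (UU_e q) q) (Bool.rec (motive := fun _ => Bool) (E_141 (UU_e q) q) (E_142 (UU_e q) q) (Nat.ble (nat_lit 13) (VV_e q))) (Nat.ble (nat_lit 12) (VV_e q))) (Nat.ble (nat_lit 11) (VV_e q))) (Nat.ble (nat_lit 8) (VV_e q))) (Nat.ble (nat_lit 2) (VV_e q)))
noncomputable def E_143 (t q : ℕ) : Bool := Nat.beq (G_f t (F_f q)) q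
noncomputable def a_143 : CfsgLib.TC.AG Col := .word .f 20 0 true [Col.f]
noncomputable def E_144 (t q : ℕ) : Bool := Nat.beq (G_a t (G_f t (G_a t (F_f q)))) q
noncomputable def a_144 : CfsgLib.TC.AG Col := .word .f 5 0 true [Col.a, Col.f, Col.a]
noncomputable def E_145 (t q : ℕ) : Bool := Nat.beq (G_b t (G_f t (G_b t (F_f q)))) q
noncomputable def a_145 : CfsgLib.TC.AG Col := .word .f 10 0 true [Col.b, Col.f, Col.b]
noncomputable def E_146 (t q : ℕ) : Bool := band (Nat.beq (PT (F_f q)) q) (band (Nat.beq (DT (F_f q)) 7) (band (Nat.ble (Nat.succ q) (F_f q)) (Nat.ble (Nat.succ q0) (F_f q))))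
noncomputable def a_146 : CfsgLib.TC.AG Col := .tree .f
noncomputable def E_147 (t q : ℕ) : Bool := Nat.beq (G_c t (G_f t (G_c t (F_f q)))) q
noncomputable def a_147 : CfsgLib.TC.AG Col := .word .f 14 0 true [Col.c, Col.f, Col.c]
noncomputable def E_148 (t q : ℕ) : Bool := Nat.beq (G_gi t (G_gi t (G_a t (F_f q)))) q
noncomputable def a_148 : CfsgLib.TC.AG Col := .word .f 21 2 true [Col.a, Col.gi, Col.gi]
noncomputable def E_149 (t q : ℕ) : Bool := Nat.beq (G_d t (G_f t (G_d t (F_f q)))) q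
noncomputable def a_149 : CfsgLib.TC.AG Col := .word .f 17 0 true [Col.d, Col.f, Col.d]
noncomputable def E_150 (t q : ℕ) : Bool := Nat.beq (G_a t (G_g t (G_g t (F_f q)))) q
noncomputable def a_150 : CfsgLib.TC.AG Col := .word .f 21 1 false [Col.g, Col.g, Col.a]
noncomputable def E_151 (t q : ℕ) : Bool := Nat.beq (G_e t (G_f t (G_e t (G_f t (G_e t (F_f q)))))) q
noncomputable def a_151 : CfsgLib.TC.AG Col := .word .f 19 0 true [Col.e, Col.f, Col.e, Col.f, Col.e]
noncomputable def E_152 (t q : ℕ) : Bool := Nat.beq (G_d t (G_c t (G_d t (G_c t (G_d t (G_c t (G_d t (G_c t (G_a t (F_f q)))))))))) q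
noncomputable def a_152 : CfsgLib.TC.AG Col := .word .f 22 8 true [Col.a, Col.c, Col.d, Col.c, Col.d, Col.c, Col.d, Col.c, Col.d]
noncomputable def E_153 (t q : ℕ) : Bool := Nat.beq (G_a t (G_c t (G_d t (G_c t (G_d t (G_c t (G_d t (G_c t (G_d t (F_f q)))))))))) q
noncomputable def a_153 : CfsgLib.TC.AG Col := .word .f 22 1 false [Col.d, Col.c, Col.d, Col.c, Col.d, Col.c, Col.d, Col.c, Col.a]
noncomputable def D_f (q : ℕ) : Bool := (Bool.rec (motive := fun _ => Bool) (Bool.rec (motive := fun _ => Bool) (E_143 (UU_f q) q) (E_144 (UU_f q) q) (Nat.ble (nat_lit 1) (VV_f q))) (Bool.rec (motive := fun _ => Bool) (Bool.rec (motive := fun _ => Bool) (Bool.rec (motive := fun _ => Bool) (E_145 (UU_f q) q) (E_146 (UU_f q) q) (Nat.ble (nat_lit 3) (VV_f q))) (Bool.rec (motive := fun _ => Bool) (E_147 (UU_f q) q) (E_148 (UU_f q) q) (Nat.ble (nat_lit 5) (VV_f q))) (Nat.ble (nat_lit 4) (VV_f q))) (Bool.rec (motive := fun _ => Bool) (Bool.rec (motive := fun _ => Bool) (E_149 (UU_f q) q) (E_150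 (UU_f q) q) (Nat.ble (nat_lit 7) (VV_f q))) (Bool.rec (motive := fun _ => Bool) (E_151 (UU_f q) q) (Bool.rec (motive := fun _ => Bool) (E_152 (UU_f q) q) (E_153 (UU_f q) q) (Nat.ble (nat_lit 10) (VV_f q))) (Nat.ble (nat_lit 9) (VV_f q))) (Nat.ble (nat_lit 8) (VV_f q))) (Nat.ble (nat_lit 6) (VV_f q))) (Nat.ble (nat_lit 2) (VV_f q)))
noncomputable def CD_g (q : ℕ) : Bool := band (clQ mt F_g F_gi q) (D_g q)
noncomputable def CD_gi (q : ℕ) : Bool := band (clQ mt F_gi F_g q) (D_gi q)
noncomputable def CD_a (q : ℕ) : Bool := band (clQ mt F_a F_a q) (D_a q)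
noncomputable def CD_b (q : ℕ) : Bool := band (clQ mt F_b F_b q) (D_b q)
noncomputable def CD_c (q : ℕ) : Bool := band (clQ mt F_c F_c q) (D_c q)
noncomputable def CD_d (q : ℕ) : Bool := band (clQ mt F_d F_d q) (D_d q)
noncomputable def CD_e (q : ℕ) : Bool := band (clQ mt F_e F_e q) (D_e q)
noncomputable def CD_f (q : ℕ) : Bool := band (clQ mt F_f F_f q) (D_f q)
noncomputable def CE_0 (q : ℕ) : Bool := (Bool.rec (motive := fun _ => Bool) false (Bool.rec (motive := fun _ => Bool) false (Bool.rec (motive := fun _ => Bool) false (Bool.rec (motive := fun _ => Bool) false (Bool.rec (motive := fun _ => Bool) false true (CD_c q)) (CD_b q)) (CD_a q)) (CD_gi q)) (CD_g q))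
noncomputable def CE_1 (q : ℕ) : Bool := (Bool.rec (motive := fun _ => Bool) false (Bool.rec (motive := fun _ => Bool) false (Bool.rec (motive := fun _ => Bool) false true (CD_f q)) (CD_e q)) (CD_d q))
noncomputable def Rf_0 (q : ℕ) : Bool := (Bool.rec (motive := fun _ => Bool) false (Bool.rec (motive := fun _ => Bool) false (Bool.rec (motive := fun _ => Bool) false (Bool.rec (motive := fun _ => Bool) false (Bool.rec (motive := fun _ => Bool) false (Bool.rec (motive := fun _ => Bool) false (Bool.rec (motive := fun _ => Bool) false (Bool.rec (motive := fun _ => Bool) false (Bool.rec (motive := fun _ => Bool) false (Bool.rec (motive := fun _ => Bool) false (Bool.rec (motive := fun _ => Bool) false (Bool.rec (motive := fun _ => Bool) false true (Nat.beq (F_c (F_c q)) q)) (Nat.beq (F_b (F_f (F_b (F_f q)))) q)) (Nat.beq (F_b (F_e (F_b (F_e q)))) q)) (Nat.beq (F_b (F_d (F_b (F_d q)))) q)) (Nat.beq (F_b (F_c (F_b (F_c (F_b (F_c q)))))) q)) (Nat.beq (F_b (F_b q)) q)) (Nat.beq (F_a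 (F_f (F_a (F_f q)))) q)) (Nat.beq (F_a (F_e (F_a (F_e q)))) q)) (Nat.beq (F_a (F_d (F_a (F_d q)))) q)) (Nat.beq (F_a (F_c (F_a (F_c q)))) q)) (Nat.beq (F_a (F_b (F_a (F_b (F_a (F_b q)))))) q)) (Nat.beq (F_a (F_a q)) q))
noncomputable def Rf_1 (q : ℕ) : Bool := (Bool.rec (motive := fun _ => Bool) false (Bool.rec (motive := fun _ => Bool) false (Bool.rec (motive := fun _ => Bool) false (Bool.rec (motive := fun _ => Bool) false (Bool.rec (motive := fun _ => Bool) false (Bool.rec (motive := fun _ => Bool) false (Bool.rec (motive := fun _ => Bool) false (Bool.rec (motive := fun _ => Bool) false (Bool.rec (motive := fun _ => Bool) false (Bool.rec (motive := fun _ => Bool) false (Bool.rec (motive := fun _ => Bool) false true (Nat.beq (F_a (F_f (F_d (F_c (F_d (F_c (F_d (F_c (F_d (F_c q)))))))))) q)) (Nat.beq (F_a (F_f (F_gi (F_gi q)))) q)) (Nat.beq (F_f (F_f q)) q)) (Nat.beq (F_e (F_f (F_e (F_f (F_e (F_f q)))))) q)) (Nat.beq (F_e (F_e q)) q)) (Nat.beq (F_d (F_f (F_d (F_f q)))) q))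 (Nat.beq (F_d (F_e (F_d (F_e (F_d (F_e q)))))) q)) (Nat.beq (F_d (F_d q)) q)) (Nat.beq (F_c (F_f (F_c (F_f q)))) q)) (Nat.beq (F_c (F_e (F_c (F_e q)))) q)) (Nat.beq (F_c (F_d (F_c (F_d (F_c (F_d (F_c (F_d (F_c (F_d (F_c (F_d (F_c (F_d (F_c (F_d q)))))))))))))))) q))
noncomputable def Rf_2 (q : ℕ) : Bool := (Bool.rec (motive := fun _ => Bool) false (Bool.rec (motive := fun _ => Bool) false (Bool.rec (motive := fun _ => Bool) false (Bool.rec (motive := fun _ => Bool) false true (Nat.beq (F_g (F_b (F_c (F_g (F_c (F_b (F_g (F_b (F_c (F_g (F_c q))))))))))) q)) (Nat.beq (F_b (F_c (F_d (F_g (F_b (F_c (F_d (F_g (F_b (F_c (F_d (F_g (F_b (F_c (F_d (F_g (F_b (F_c (F_d (F_g q)))))))))))))))))))) q)) (Nat.beq (F_d (F_gi (F_c (F_gi (F_c (F_d (F_c (F_g (F_c (F_g q)))))))))) q)) (Nat.beq (F_c (F_gi (F_d (F_gi (F_d (F_c (F_d (F_g (F_d (F_g q)))))))))) q))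
noncomputable def Rf_3 (q : ℕ) : Bool := (Bool.rec (motive := fun _ => Bool) false true (Nat.beq (F_g (F_e (F_d (F_g (F_d (F_e (F_g (F_e (F_d (F_g (F_d q))))))))))) q))
end CfsgLib.TCON
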