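import Cfsg.Agent.EqBase
import Cfsg.Agent.LibTCOND
set_option autoImplicit false
set_option linter.all false
set_option maxRecDepth 1000000
set_option maxHeartbeats 0
namespace CfsgLib.TCON
open CfsgLib.TC Cfsg.Spor CfsgLib.TCG_ON
theorem re_1_0 : Tr.all Rf_1 L_0 = true := by decide +kernel
theorem re_1_13 : Tr.all Rf_1 L_13 = true := by decide +kernel
theorem re_1_26 : Tr.all Rf_1 L_26 = true := by decide +kernel
theorem ce_0_19 : Tr.all CE_0 L_19 = true := by decide +kernel
theorem re_2_3 : Tr.all Rf_2 L_3 = true := by decide +kernel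
theorem re_2_16 : Tr.all Rf_2 L_16 = true := by decide +kernel
theorem ce_0_29 : Tr.all CE_0 L_29 = true := by decide +kernel
theorem re_0_13 : Tr.all Rf_0 L_13 = true := by decide +kernel
theorem re_0_26 : Tr.all Rf_0 L_26 = true := by decide +kernel
theorem ce_1_9 : Tr.all CE_1 L_9 = true := by decide +kernel
theorem ce_1_19 : Tr.all CE_1 L_19 = true := by decide +kernel
theorem re_3_2 : Tr.all Rf_3 L_2 = true := by decide +kernel
theorem re_3_8 : Tr.all Rf_3 L_8 = true := by decide +kernel
theorem re_3_21 : Tr.all Rf_3 L_21 = true := by decide +kernel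
theorem tr_4 : Tr.all (transQ mt sd PT DT q0) L_4 = true := by decide +kernel
theorem tr_12 : Tr.all (transQ mt sd PT DT q0) L_12 = true := by decide +kernel
theorem tr_25 : Tr.all (transQ mt sd PT DT q0) L_25 = true := by decide +kernel
theorem bs_9 : bst L_9 2097152 (2 * 2097152) = true := by decide +kernel
theorem bs_22 : bst L_22 2097152 (2 * 2097152) = true := by decide +kernel
theorem sz_2 : size L_2 = 4096 := by decide +kernel
theorem pr_9 : prodT L_9 = MM_9 := by decide +kernel
theorem sz_15 : size L_15 = 4096 := by decide +kernel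
theorem pr_22 : prodT L_22 = MM_22 := by decide +kernel
theorem sz_28 : size L_28 = 4096 := by decide +kernel
end CfsgLib.TCON
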