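import Cfsg.Agent.EqBase
import Cfsg.Agent.LibTCOND
set_option autoImplicit false
set_option linter.all false
set_option maxRecDepth 1000000
set_option maxHeartbeats 0
namespace CfsgLib.TCON
open CfsgLib.TC Cfsg.Spor CfsgLib.TCG_ON
theorem re_1_1 : Tr.all Rf_1 L_1 = true := by decide +kernel
theorem re_1_14 : Tr.all Rf_1 L_14 = true := by decide +kernel
theorem re_1_27 : Tr.all Rf_1 L_27 = true := by decide +kernel
theorem ce_0_20 : Tr.all CE_0 L_20 = true := by decide +kernel
theorem re_2_4 : Tr.all Rf_2 L_4 = true := by decide +kernel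
theorem re_2_17 : Tr.all Rf_2 L_17 = true := by decide +kernel
theorem re_2_29 : Tr.all Rf_2 L_29 = true := by decide +kernel
theorem re_0_12 : Tr.all Rf_0 L_12 = true := by decide +kernel
theorem re_0_25 : Tr.all Rf_0 L_25 = true := by decide +kernel
theorem ce_1_8 : Tr.all CE_1 L_8 = true := by decide +kernel
theorem ce_1_18 : Tr.all CE_1 L_18 = true := by decide +kernel
theorem re_3_1 : Tr.all Rf_3 L_1 = true := by decide +kernel
theorem re_3_7 : Tr.all Rf_3 L_7 = true := by decide +kernel
theorem re_3_20 : Tr.all Rf_3 L_20 = true := by decide +kernel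
theorem tr_3 : Tr.all (transQ mt sd PT DT q0) L_3 = true := by decide +kernel
theorem tr_8 : Tr.all (transQ mt sd PT DT q0) L_8 = true := by decide +kernel
theorem tr_21 : Tr.all (transQ mt sd PT DT q0) L_21 = true := by decide +kernel
theorem bs_4 : bst L_4 2097152 (2 * 2097152) = true := by decide +kernel
theorem bs_17 : bst L_17 2097152 (2 * 2097152) = true := by decide +kernel
theorem pr_0 : prodT L_0 = MM_0 := by decide +kernel
theorem pr_6 : prodT L_6 = MM_6 := by decide +kernel
theorem sz_12 : size L_12 = 4096 := by decide +kernel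
theorem pr_19 : prodT L_19 = MM_19 := by decide +kernel
theorem sz_25 : size L_25 = 4096 := by decide +kernel
end CfsgLib.TCON
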