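import Cfsg.Agent.EqBase
import Cfsg.Agent.LibTCOND
set_option autoImplicit false
set_option linter.all false
set_option maxRecDepth 1000000
set_option maxHeartbeats 0
namespace CfsgLib.TCON
open CfsgLib.TC Cfsg.Spor CfsgLib.TCG_ON
theorem re_1_10 : Tr.all Rf_1 L_10 = true := by decide +kernel
theorem re_1_23 : Tr.all Rf_1 L_23 = true := by decide +kernel
theorem ce_0_6 : Tr.all CE_0 L_6 = true := by decide +kernel
theorem ce_0_15 : Tr.all CE_0 L_15 = true := by decide +kernel
theorem ce_0_28 : Tr.all CE_0 L_28 = true := by decide +kernel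
theorem re_2_14 : Tr.all Rf_2 L_14 = true := by decide +kernel
theorem re_2_27 : Tr.all Rf_2 L_27 = true := by decide +kernel
theorem re_0_9 : Tr.all Rf_0 L_9 = true := by decide +kernel
theorem re_0_22 : Tr.all Rf_0 L_22 = true := by decide +kernel
theorem ce_1_5 : Tr.all CE_1 L_5 = true := by decide +kernel
theorem ce_1_15 : Tr.all CE_1 L_15 = true := by decide +kernel
theorem ce_1_28 : Tr.all CE_1 L_28 = true := by decide +kernel
theorem re_3_17 : Tr.all Rf_3 L_17 = true := by decide +kernel
theorem tr_0 : Tr.all (transQ mt sd PT DT q0) L_0 = true := by decide +kernel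
theorem tr_5 : Tr.all (transQ mt sd PT DT q0) L_5 = true := by decide +kernel
theorem tr_18 : Tr.all (transQ mt sd PT DT q0) L_18 = true := by decide +kernel
theorem bs_1 : bst L_1 2097152 (2 * 2097152) = true := by decide +kernel
theorem bs_14 : bst L_14 2097152 (2 * 2097152) = true := by decide +kernel
theorem bs_27 : bst L_27 2097152 (2 * 2097152) = true := by decide +kernel
theorem pr_5 : prodT L_5 = MM_5 := by decide +kernel
theorem sz_11 : size L_11 = 4096 := by decide +kernel
theorem pr_18 : prodT L_18 = MM_18 := by decide +kernel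
theorem sz_24 : size L_24 = 4096 := by decide +kernel
end CfsgLib.TCON
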