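import Cfsg.Agent.EqBase
import Cfsg.Agent.LibTCOND
set_option autoImplicit false
set_option linter.all false
set_option maxRecDepth 1000000
set_option maxHeartbeats 0
namespace CfsgLib.TCON
open CfsgLib.TC Cfsg.Spor CfsgLib.TCG_ON
theorem re_1_11 : Tr.all Rf_1 L_11 = true := by decide +kernel
theorem re_1_24 : Tr.all Rf_1 L_24 = true := by decide +kernel
theorem ce_0_7 : Tr.all CE_0 L_7 = true := by decide +kernel
theorem ce_0_16 : Tr.all CE_0 L_16 = true := by decide +kernel
theorem re_2_0 : Tr.all Rf_2 L_0 = true := by decide +kernel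
theorem re_2_6 : Tr.all Rf_2 L_6 = true := by decide +kernel
theorem re_2_19 : Tr.all Rf_2 L_19 = true := by decide +kernel
theorem re_0_1 : Tr.all Rf_0 L_1 = true := by decide +kernel
theorem re_0_14 : Tr.all Rf_0 L_14 = true := by decide +kernel
theorem re_0_27 : Tr.all Rf_0 L_27 = true := by decide +kernel
theorem ce_1_21 : Tr.all CE_1 L_21 = true := by decide +kernel
theorem re_3_4 : Tr.all Rf_3 L_4 = true := by decide +kernel
theorem re_3_10 : Tr.all Rf_3 L_10 = true := by decide +kernel
theorem re_3_23 : Tr.all Rf_3 L_23 = true := by decide +kernel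
theorem tr_10 : Tr.all (transQ mt sd PT DT q0) L_10 = true := by decide +kernel
theorem tr_23 : Tr.all (transQ mt sd PT DT q0) L_23 = true := by decide +kernel
theorem bs_7 : bst L_7 2097152 (2 * 2097152) = true := by decide +kernel
theorem bs_20 : bst L_20 2097152 (2 * 2097152) = true := by decide +kernel
theorem sz_1 : size L_1 = 4096 := by decide +kernel
theorem pr_8 : prodT L_8 = MM_8 := by decide +kernel
theorem sz_14 : size L_14 = 4096 := by decide +kernel
theorem pr_21 : prodT L_21 = MM_21 := by decide +kernel
theorem sz_27 : size L_27 = 4096 := by decide +kernel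
end CfsgLib.TCON
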