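import Cfsg.Agent.EqBase
import Cfsg.Agent.LibTCOND
set_option autoImplicit false
set_option linter.all false
set_option maxRecDepth 1000000
set_option maxHeartbeats 0
namespace CfsgLib.TCON
open CfsgLib.TC Cfsg.Spor CfsgLib.TCG_ON
theorem re_1_12 : Tr.all Rf_1 L_12 = true := by decide +kernel
theorem re_1_25 : Tr.all Rf_1 L_25 = true := by decide +kernel
theorem ce_0_8 : Tr.all CE_0 L_8 = true := by decide +kernel
theorem ce_0_17 : Tr.all CE_0 L_17 = true := by decide +kernel
theorem re_2_1 : Tr.all Rf_2 L_1 = true := by decide +kernel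
theorem re_2_7 : Tr.all Rf_2 L_7 = true := by decide +kernel
theorem re_2_20 : Tr.all Rf_2 L_20 = true := by decide +kernel
theorem re_0_2 : Tr.all Rf_0 L_2 = true := by decide +kernel
theorem re_0_15 : Tr.all Rf_0 L_15 = true := by decide +kernel
theorem re_0_28 : Tr.all Rf_0 L_28 = true := by decide +kernel
theorem ce_1_22 : Tr.all CE_1 L_22 = true := by decide +kernel
theorem re_3_5 : Tr.all Rf_3 L_5 = true := by decide +kernel
theorem re_3_11 : Tr.all Rf_3 L_11 = true := by decide +kernel
theorem re_3_24 : Tr.all Rf_3 L_24 = true := by decide +kernel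
theorem tr_11 : Tr.all (transQ mt sd PT DT q0) L_11 = true := by decide +kernel
theorem tr_24 : Tr.all (transQ mt sd PT DT q0) L_24 = true := by decide +kernel
theorem bs_8 : bst L_8 2097152 (2 * 2097152) = true := by decide +kernel
theorem bs_21 : bst L_21 2097152 (2 * 2097152) = true := by decide +kernel
theorem pr_2 : prodT L_2 = MM_2 := by decide +kernel
theorem sz_8 : size L_8 = 4096 := by decide +kernel
theorem pr_15 : prodT L_15 = MM_15 := by decide +kernel
theorem sz_21 : size L_21 = 4096 := by decide +kernel
theorem pr_28 : prodT L_28 = MM_28 := by decide +kernel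
end CfsgLib.TCON
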