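import Cfsg.Agent.EqBase
import Cfsg.Agent.LibTCOND
set_option autoImplicit false
set_option linter.all false
set_option maxRecDepth 1000000
set_option maxHeartbeats 0
namespace CfsgLib.TCON
open CfsgLib.TC Cfsg.Spor CfsgLib.TCG_ON
theorem re_1_2 : Tr.all Rf_1 L_2 = true := by decide +kernel
theorem re_1_15 : Tr.all Rf_1 L_15 = true := by decide +kernel
theorem re_1_28 : Tr.all Rf_1 L_28 = true := by decide +kernel
theorem ce_0_21 : Tr.all CE_0 L_21 = true := by decide +kernel
theorem re_2_5 : Tr.all Rf_2 L_5 = true := by decide +kernel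
theorem re_2_18 : Tr.all Rf_2 L_18 = true := by decide +kernel
theorem re_0_0 : Tr.all Rf_0 L_0 = true := by decide +kernel
theorem re_0_10 : Tr.all Rf_0 L_10 = true := by decide +kernel
theorem re_0_23 : Tr.all Rf_0 L_23 = true := by decide +kernel
theorem ce_1_6 : Tr.all CE_1 L_6 = true := by decide +kernel
theorem ce_1_16 : Tr.all CE_1 L_16 = true := by decide +kernel
theorem ce_1_29 : Tr.all CE_1 L_29 = true := by decide +kernel
theorem re_3_18 : Tr.all Rf_3 L_18 = true := by decide +kernel
theorem tr_1 : Tr.all (transQ mt sd PT DT q0) L_1 = true := by decide +kernel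
theorem tr_6 : Tr.all (transQ mt sd PT DT q0) L_6 = true := by decide +kernel
theorem tr_19 : Tr.all (transQ mt sd PT DT q0) L_19 = true := by decide +kernel
theorem bs_2 : bst L_2 2097152 (2 * 2097152) = true := by decide +kernel
theorem bs_15 : bst L_15 2097152 (2 * 2097152) = true := by decide +kernel
theorem bs_28 : bst L_28 2097152 (2 * 2097152) = true := by decide +kernel
theorem sz_5 : size L_5 = 4096 := by decide +kernel
theorem pr_12 : prodT L_12 = MM_12 := by decide +kernel
theorem sz_18 : size L_18 = 4096 := by decide +kernel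
theorem pr_25 : prodT L_25 = MM_25 := by decide +kernel
end CfsgLib.TCON
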