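import Cfsg.Agent.EqBase
import Cfsg.Agent.LibTCOND
set_option autoImplicit false
set_option linter.all false
set_option maxRecDepth 1000000
set_option maxHeartbeats 0
namespace CfsgLib.TCON
open CfsgLib.TC Cfsg.Spor CfsgLib.TCG_ON
theorem re_1_3 : Tr.all Rf_1 L_3 = true := by decide +kernel
theorem re_1_16 : Tr.all Rf_1 L_16 = true := by decide +kernel
theorem re_1_29 : Tr.all Rf_1 L_29 = true := by decide +kernel
theorem ce_0_18 : Tr.all CE_0 L_18 = true := by decide +kernel
theorem re_2_2 : Tr.all Rf_2 L_2 = true := by decide +kernel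
theorem re_2_15 : Tr.all Rf_2 L_15 = true := by decide +kernel
theorem re_2_28 : Tr.all Rf_2 L_28 = true := by decide +kernel
theorem re_0_11 : Tr.all Rf_0 L_11 = true := by decide +kernel
theorem re_0_24 : Tr.all Rf_0 L_24 = true := by decide +kernel
theorem ce_1_7 : Tr.all CE_1 L_7 = true := by decide +kernel
theorem ce_1_17 : Tr.all CE_1 L_17 = true := by decide +kernel
theorem re_3_0 : Tr.all Rf_3 L_0 = true := by decide +kernel
theorem re_3_6 : Tr.all Rf_3 L_6 = true := by decide +kernel
theorem re_3_19 : Tr.all Rf_3 L_19 = true := by decide +kernel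
theorem tr_2 : Tr.all (transQ mt sd PT DT q0) L_2 = true := by decide +kernel
theorem tr_7 : Tr.all (transQ mt sd PT DT q0) L_7 = true := by decide +kernel
theorem tr_20 : Tr.all (transQ mt sd PT DT q0) L_20 = true := by decide +kernel
theorem bs_3 : bst L_3 2097152 (2 * 2097152) = true := by decide +kernel
theorem bs_16 : bst L_16 2097152 (2 * 2097152) = true := by decide +kernel
theorem bs_29 : bst L_29 2097152 (2 * 2097152) = true := by decide +kernel
theorem sz_7 : size L_7 = 4096 := by decide +kernel
theorem pr_14 : prodT L_14 = MM_14 := by decide +kernel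
theorem sz_20 : size L_20 = 4096 := by decide +kernel
theorem pr_27 : prodT L_27 = MM_27 := by decide +kernel
end CfsgLib.TCON
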