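import Cfsg.Agent.EqBase
import Cfsg.Agent.LibTCOND
set_option autoImplicit false
set_option linter.all false
set_option maxRecDepth 1000000
set_option maxHeartbeats 0
namespace CfsgLib.TCON
open CfsgLib.TC Cfsg.Spor CfsgLib.TCG_ON
theorem re_1_4 : Tr.all Rf_1 L_4 = true := by decide +kernel
theorem re_1_17 : Tr.all Rf_1 L_17 = true := by decide +kernel
theorem ce_0_0 : Tr.all CE_0 L_0 = true := by decide +kernel
theorem ce_0_9 : Tr.all CE_0 L_9 = true := by decide +kernel
theorem ce_0_22 : Tr.all CE_0 L_22 = true := by decide +kernel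
theorem re_2_8 : Tr.all Rf_2 L_8 = true := by decide +kernel
theorem re_2_21 : Tr.all Rf_2 L_21 = true := by decide +kernel
theorem re_0_3 : Tr.all Rf_0 L_3 = true := by decide +kernel
theorem re_0_16 : Tr.all Rf_0 L_16 = true := by decide +kernel
theorem re_0_29 : Tr.all Rf_0 L_29 = true := by decide +kernel
theorem ce_1_20 : Tr.all CE_1 L_20 = true := by decide +kernel
theorem re_3_3 : Tr.all Rf_3 L_3 = true := by decide +kernel
theorem re_3_9 : Tr.all Rf_3 L_9 = true := by decide +kernel
theorem re_3_22 : Tr.all Rf_3 L_22 = true := by decide +kernel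
theorem tr_9 : Tr.all (transQ mt sd PT DT q0) L_9 = true := by decide +kernel
theorem tr_22 : Tr.all (transQ mt sd PT DT q0) L_22 = true := by decide +kernel
theorem bs_6 : bst L_6 2097152 (2 * 2097152) = true := by decide +kernel
theorem bs_19 : bst L_19 2097152 (2 * 2097152) = true := by decide +kernel
theorem pr_1 : prodT L_1 = MM_1 := by decide +kernel
theorem pr_7 : prodT L_7 = MM_7 := by decide +kernel
theorem sz_13 : size L_13 = 4096 := by decide +kernel
theorem pr_20 : prodT L_20 = MM_20 := by decide +kernel
theorem sz_26 : size L_26 = 4096 := by decide +kernel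
end CfsgLib.TCON
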