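import Cfsg.Agent.EqBase
import Cfsg.Agent.LibTCOND
set_option autoImplicit false
set_option linter.all false
set_option maxRecDepth 1000000
set_option maxHeartbeats 0
namespace CfsgLib.TCON
open CfsgLib.TC Cfsg.Spor CfsgLib.TCG_ON
theorem re_1_5 : Tr.all Rf_1 L_5 = true := by decide +kernel
theorem re_1_18 : Tr.all Rf_1 L_18 = true := by decide +kernel
theorem ce_0_1 : Tr.all CE_0 L_1 = true := by decide +kernel
theorem ce_0_10 : Tr.all CE_0 L_10 = true := by decide +kernel
theorem ce_0_23 : Tr.all CE_0 L_23 = true := by decide +kernel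
theorem re_2_9 : Tr.all Rf_2 L_9 = true := by decide +kernel
theorem re_2_22 : Tr.all Rf_2 L_22 = true := by decide +kernel
theorem re_0_4 : Tr.all Rf_0 L_4 = true := by decide +kernel
theorem re_0_17 : Tr.all Rf_0 L_17 = true := by decide +kernel
theorem ce_1_0 : Tr.all CE_1 L_0 = true := by decide +kernel
theorem ce_1_10 : Tr.all CE_1 L_10 = true := by decide +kernel
theorem ce_1_23 : Tr.all CE_1 L_23 = true := by decide +kernel
theorem re_3_12 : Tr.all Rf_3 L_12 = true := by decide +kernel
theorem re_3_25 : Tr.all Rf_3 L_25 = true := by decide +kernel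
theorem tr_14 : Tr.all (transQ mt sd PT DT q0) L_14 = true := by decide +kernel
theorem tr_27 : Tr.all (transQ mt sd PT DT q0) L_27 = true := by decide +kernel
theorem bs_12 : bst L_12 2097152 (2 * 2097152) = true := by decide +kernel
theorem bs_25 : bst L_25 2097152 (2 * 2097152) = true := by decide +kernel
theorem pr_4 : prodT L_4 = MM_4 := by decide +kernel
theorem sz_10 : size L_10 = 4096 := by decide +kernel
theorem pr_17 : prodT L_17 = MM_17 := by decide +kernel
theorem sz_23 : size L_23 = 4096 := by decide +kernel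
theorem gc_0 : Nat.gcd MM_0 (prodTo 2049) = 1 := by decide +kernel
theorem gc_2 : Nat.gcd MM_2 (prodTo 2049) = 1 := by decide +kernel
theorem gc_4 : Nat.gcd MM_4 (prodTo 2049) = 1 := by decide +kernel
theorem gc_6 : Nat.gcd MM_6 (prodTo 2049) = 1 := by decide +kernel
theorem gc_8 : Nat.gcd MM_8 (prodTo 2049) = 1 := by decide +kernel
theorem gc_10 : Nat.gcd MM_10 (prodTo 2049) = 1 := by decide +kernel
theorem gc_12 : Nat.gcd MM_12 (prodTo 2049) = 1 := by decide +kernel
theorem gc_14 : Nat.gcd MM_14 (prodTo 2049) = 1 := by decide +kernel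
theorem gc_16 : Nat.gcd MM_16 (prodTo 2049) = 1 := by decide +kernel
theorem gc_18 : Nat.gcd MM_18 (prodTo 2049) = 1 := by decide +kernel
theorem gc_20 : Nat.gcd MM_20 (prodTo 2049) = 1 := by decide +kernel
theorem gc_22 : Nat.gcd MM_22 (prodTo 2049) = 1 := by decide +kernel
theorem gc_24 : Nat.gcd MM_24 (prodTo 2049) = 1 := by decide +kernel
theorem gc_26 : Nat.gcd MM_26 (prodTo 2049) = 1 := by decide +kernel
theorem gc_28 : Nat.gcd MM_28 (prodTo 2049) = 1 := by decide +kernel
end CfsgLib.TCON
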