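import Cfsg.Agent.EqBase
import Cfsg.Agent.LibTCOND
set_option autoImplicit false
set_option linter.all false
set_option maxRecDepth 1000000
set_option maxHeartbeats 0
namespace CfsgLib.TCON
open CfsgLib.TC Cfsg.Spor CfsgLib.TCG_ON
theorem re_1_6 : Tr.all Rf_1 L_6 = true := by decide +kernel
theorem re_1_19 : Tr.all Rf_1 L_19 = true := by decide +kernel
theorem ce_0_2 : Tr.all CE_0 L_2 = true := by decide +kernel
theorem ce_0_11 : Tr.all CE_0 L_11 = true := by decide +kernel
theorem ce_0_24 : Tr.all CE_0 L_24 = true := by decide +kernel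
theorem re_2_10 : Tr.all Rf_2 L_10 = true := by decide +kernel
theorem re_2_23 : Tr.all Rf_2 L_23 = true := by decide +kernel
theorem re_0_5 : Tr.all Rf_0 L_5 = true := by decide +kernel
theorem re_0_18 : Tr.all Rf_0 L_18 = true := by decide +kernel
theorem ce_1_1 : Tr.all CE_1 L_1 = true := by decide +kernel
theorem ce_1_11 : Tr.all CE_1 L_11 = true := by decide +kernel
theorem ce_1_24 : Tr.all CE_1 L_24 = true := by decide +kernel
theorem re_3_13 : Tr.all Rf_3 L_13 = true := by decide +kernel
theorem re_3_26 : Tr.all Rf_3 L_26 = true := by decide +kernel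
theorem tr_15 : Tr.all (transQ mt sd PT DT q0) L_15 = true := by decide +kernel
theorem tr_28 : Tr.all (transQ mt sd PT DT q0) L_28 = true := by decide +kernel
theorem bs_13 : bst L_13 2097152 (2 * 2097152) = true := by decide +kernel
theorem bs_26 : bst L_26 2097152 (2 * 2097152) = true := by decide +kernel
theorem sz_4 : size L_4 = 4096 := by decide +kernel
theorem pr_11 : prodT L_11 = MM_11 := by decide +kernel
theorem sz_17 : size L_17 = 4096 := by decide +kernel
theorem pr_24 : prodT L_24 = MM_24 := by decide +kernel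
theorem gc_1 : Nat.gcd MM_1 (prodTo 2049) = 1 := by decide +kernel
theorem gc_3 : Nat.gcd MM_3 (prodTo 2049) = 1 := by decide +kernel
theorem gc_5 : Nat.gcd MM_5 (prodTo 2049) = 1 := by decide +kernel
theorem gc_7 : Nat.gcd MM_7 (prodTo 2049) = 1 := by decide +kernel
theorem gc_9 : Nat.gcd MM_9 (prodTo 2049) = 1 := by decide +kernel
theorem gc_11 : Nat.gcd MM_11 (prodTo 2049) = 1 := by decide +kernel
theorem gc_13 : Nat.gcd MM_13 (prodTo 2049) = 1 := by decide +kernel
theorem gc_15 : Nat.gcd MM_15 (prodTo 2049) = 1 := by decide +kernel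
theorem gc_17 : Nat.gcd MM_17 (prodTo 2049) = 1 := by decide +kernel
theorem gc_19 : Nat.gcd MM_19 (prodTo 2049) = 1 := by decide +kernel
theorem gc_21 : Nat.gcd MM_21 (prodTo 2049) = 1 := by decide +kernel
theorem gc_23 : Nat.gcd MM_23 (prodTo 2049) = 1 := by decide +kernel
theorem gc_25 : Nat.gcd MM_25 (prodTo 2049) = 1 := by decide +kernel
theorem gc_27 : Nat.gcd MM_27 (prodTo 2049) = 1 := by decide +kernel
theorem gc_29 : Nat.gcd MM_29 (prodTo 2049) = 1 := by decide +kernel
end CfsgLib.TCON
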