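import Cfsg.Agent.EqBase
import Cfsg.Agent.LibTCOND
set_option autoImplicit false
set_option linter.all false
set_option maxRecDepth 1000000
set_option maxHeartbeats 0
namespace CfsgLib.TCON
open CfsgLib.TC Cfsg.Spor CfsgLib.TCG_ON
theorem re_1_7 : Tr.all Rf_1 L_7 = true := by decide +kernel
theorem re_1_20 : Tr.all Rf_1 L_20 = true := by decide +kernel
theorem ce_0_3 : Tr.all CE_0 L_3 = true := by decide +kernel
theorem ce_0_12 : Tr.all CE_0 L_12 = true := by decide +kernel
theorem ce_0_25 : Tr.all CE_0 L_25 = true := by decide +kernel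
theorem re_2_11 : Tr.all Rf_2 L_11 = true := by decide +kernel
theorem re_2_24 : Tr.all Rf_2 L_24 = true := by decide +kernel
theorem re_0_6 : Tr.all Rf_0 L_6 = true := by decide +kernel
theorem re_0_19 : Tr.all Rf_0 L_19 = true := by decide +kernel
theorem ce_1_2 : Tr.all CE_1 L_2 = true := by decide +kernel
theorem ce_1_12 : Tr.all CE_1 L_12 = true := by decide +kernel
theorem ce_1_25 : Tr.all CE_1 L_25 = true := by decide +kernel
theorem re_3_14 : Tr.all Rf_3 L_14 = true := by decide +kernel
theorem re_3_27 : Tr.all Rf_3 L_27 = true := by decide +kernel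
theorem tr_16 : Tr.all (transQ mt sd PT DT q0) L_16 = true := by decide +kernel
theorem tr_29 : Tr.all (transQ mt sd PT DT q0) L_29 = true := by decide +kernel
theorem bs_11 : bst L_11 2097152 (2 * 2097152) = true := by decide +kernel
theorem bs_24 : bst L_24 2097152 (2 * 2097152) = true := by decide +kernel
theorem sz_3 : size L_3 = 4096 := by decide +kernel
theorem pr_10 : prodT L_10 = MM_10 := by decide +kernel
theorem sz_16 : size L_16 = 4096 := by decide +kernel
theorem pr_23 : prodT L_23 = MM_23 := by decide +kernel
theorem sz_29 : size L_29 = 3976 := by decide +kernel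
end CfsgLib.TCON
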