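import Cfsg.Agent.EqBase
import Cfsg.Agent.LibTCOND
set_option autoImplicit false
set_option linter.all false
set_option maxRecDepth 1000000
set_option maxHeartbeats 0
namespace CfsgLib.TCON
open CfsgLib.TC Cfsg.Spor CfsgLib.TCG_ON
theorem re_1_8 : Tr.all Rf_1 L_8 = true := by decide +kernel
theorem re_1_21 : Tr.all Rf_1 L_21 = true := by decide +kernel
theorem ce_0_4 : Tr.all CE_0 L_4 = true := by decide +kernel
theorem ce_0_13 : Tr.all CE_0 L_13 = true := by decide +kernel
theorem ce_0_26 : Tr.all CE_0 L_26 = true := by decide +kernel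
theorem re_2_12 : Tr.all Rf_2 L_12 = true := by decide +kernel
theorem re_2_25 : Tr.all Rf_2 L_25 = true := by decide +kernel
theorem re_0_7 : Tr.all Rf_0 L_7 = true := by decide +kernel
theorem re_0_20 : Tr.all Rf_0 L_20 = true := by decide +kernel
theorem ce_1_3 : Tr.all CE_1 L_3 = true := by decide +kernel
theorem ce_1_13 : Tr.all CE_1 L_13 = true := by decide +kernel
theorem ce_1_26 : Tr.all CE_1 L_26 = true := by decide +kernel
theorem re_3_15 : Tr.all Rf_3 L_15 = true := by decide +kernel
theorem re_3_28 : Tr.all Rf_3 L_28 = true := by decide +kernel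
theorem tr_17 : Tr.all (transQ mt sd PT DT q0) L_17 = true := by decide +kernel
theorem bs_0 : bst L_0 2097152 (2 * 2097152) = true := by decide +kernel
theorem bs_5 : bst L_5 2097152 (2 * 2097152) = true := by decide +kernel
theorem bs_18 : bst L_18 2097152 (2 * 2097152) = true := by decide +kernel
theorem sz_0 : size L_0 = 4096 := by decide +kernel
theorem sz_6 : size L_6 = 4096 := by decide +kernel
theorem pr_13 : prodT L_13 = MM_13 := by decide +kernel
theorem sz_19 : size L_19 = 4096 := by decide +kernel
theorem pr_26 : prodT L_26 = MM_26 := by decide +kernel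
end CfsgLib.TCON
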