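import Cfsg.Agent.EqBase
import Cfsg.Agent.LibTCOND
set_option autoImplicit false
set_option linter.all false
set_option maxRecDepth 1000000
set_option maxHeartbeats 0
namespace CfsgLib.TCON
open CfsgLib.TC Cfsg.Spor CfsgLib.TCG_ON
theorem re_1_9 : Tr.all Rf_1 L_9 = true := by decide +kernel
theorem re_1_22 : Tr.all Rf_1 L_22 = true := by decide +kernel
theorem ce_0_5 : Tr.all CE_0 L_5 = true := by decide +kernel
theorem ce_0_14 : Tr.all CE_0 L_14 = true := by decide +kernel
theorem ce_0_27 : Tr.all CE_0 L_27 = true := by decide +kernel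
theorem re_2_13 : Tr.all Rf_2 L_13 = true := by decide +kernel
theorem re_2_26 : Tr.all Rf_2 L_26 = true := by decide +kernel
theorem re_0_8 : Tr.all Rf_0 L_8 = true := by decide +kernel
theorem re_0_21 : Tr.all Rf_0 L_21 = true := by decide +kernel
theorem ce_1_4 : Tr.all CE_1 L_4 = true := by decide +kernel
theorem ce_1_14 : Tr.all CE_1 L_14 = true := by decide +kernel
theorem ce_1_27 : Tr.all CE_1 L_27 = true := by decide +kernel
theorem re_3_16 : Tr.all Rf_3 L_16 = true := by decide +kernel
theorem re_3_29 : Tr.all Rf_3 L_29 = true := by decide +kernel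
theorem tr_13 : Tr.all (transQ mt sd PT DT q0) L_13 = true := by decide +kernel
theorem tr_26 : Tr.all (transQ mt sd PT DT q0) L_26 = true := by decide +kernel
theorem bs_10 : bst L_10 2097152 (2 * 2097152) = true := by decide +kernel
theorem bs_23 : bst L_23 2097152 (2 * 2097152) = true := by decide +kernel
theorem pr_3 : prodT L_3 = MM_3 := by decide +kernel
theorem sz_9 : size L_9 = 4096 := by decide +kernel
theorem pr_16 : prodT L_16 = MM_16 := by decide +kernel
theorem sz_22 : size L_22 = 4096 := by decide +kernel
theorem pr_29 : prodT L_29 = MM_29 := by decide +kernel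
end CfsgLib.TCON
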