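import Cfsg.Agent.EqBase
import Cfsg.Agent.LibTCONX0
import Cfsg.Agent.LibTCONX1
import Cfsg.Agent.LibTCONX2
import Cfsg.Agent.LibTCONX3
import Cfsg.Agent.LibTCONX4
import Cfsg.Agent.LibTCONX5
import Cfsg.Agent.LibTCONX6
import Cfsg.Agent.LibTCONX7
import Cfsg.Agent.LibTCONX8
import Cfsg.Agent.LibTCONX9
import Cfsg.Agent.LibTCONX10
import Cfsg.Agent.LibTCONX11
import Cfsg.Agent.LibTCONX12
import Cfsg.Agent.LibTCONM2
import Cfsg.Agent.LibTCONMs
set_option autoImplicit false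
set_option linter.all false
set_option maxRecDepth 1000000
set_option maxHeartbeats 0
namespace CfsgLib.TCON
open CfsgLib.TC Cfsg.Spor CfsgLib.TCG_ON
theorem size_nd {k : ℕ} {l r : Tr ℕ} {a b : ℕ} (hl : size l = a) (hr : size r = b) : size (Tr.nd k l r) = a + b := by rw [← hl, ← hr]; rfl
theorem bst_nd {k lo hi : ℕ} {l r : Tr ℕ} (hl : bst l lo k = true) (hr : bst r k hi = true) : bst (Tr.nd k l r) lo hi = true := by
  have : bst (Tr.nd k l r) lo hi = band (bst l lo k) (bst r k hi) := rfl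
  rw [this, band_iff]; exact ⟨hl, hr⟩
theorem bst_chk : bst L 2097152 (2 * 2097152) = true := by decide +kernel
theorem size_L : size L = 122760 := (size_nd (size_nd (size_nd (size_nd sz_0 (size_nd sz_1 sz_2)) (size_nd (size_nd sz_3 sz_4) (size_nd sz_5 sz_6))) (size_nd (size_nd (size_nd sz_7 sz_8) (size_nd sz_9 sz_10)) (size_nd (size_nd sz_11 sz_12) (size_nd sz_13 sz_14)))) (size_nd (size_nd (size_nd sz_15 (size_nd sz_16 sz_17)) (size_nd (size_nd sz_18 sz_19) (size_nd sz_20 sz_21))) (size_nd (size_nd (size_nd sz_22 sz_23) (size_nd sz_24 sz_25)) (size_nd (size_nd sz_26 sz_27) (size_nd sz_28 sz_29)))))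
theorem q0_mem : q0 ∈ L.toList := mem_sound (by decide +kernel)
theorem ce_0 : Tr.all CE_0 L = true := (Tr.all_nd (Tr.all_nd (Tr.all_nd (Tr.all_nd ce_0_0 (Tr.all_nd ce_0_1 ce_0_2)) (Tr.all_nd (Tr.all_nd ce_0_3 ce_0_4) (Tr.all_nd ce_0_5 ce_0_6))) (Tr.all_nd (Tr.all_nd (Tr.all_nd ce_0_7 ce_0_8) (Tr.all_nd ce_0_9 ce_0_10)) (Tr.all_nd (Tr.all_nd ce_0_11 ce_0_12) (Tr.all_nd ce_0_13 ce_0_14)))) (Tr.all_nd (Tr.all_nd (Tr.all_nd ce_0_15 (Tr.all_nd ce_0_16 ce_0_17)) (Tr.all_nd (Tr.all_nd ce_0_18 ce_0_19) (Tr.all_nd ce_0_20 ce_0_21))) (Tr.all_nd (Tr.all_nd (Tr.all_nd ce_0_22 ce_0_23) (Tr.all_nd ce_0_24 ce_0_25)) (Tr.all_nd (Tr.all_nd ce_0_26 ce_0_27) (Tr.all_nd ce_0_28 ce_0_29)))))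
theorem ce_1 : Tr.all CE_1 L = true := (Tr.all_nd (Tr.all_nd (Tr.all_nd (Tr.all_nd ce_1_0 (Tr.all_nd ce_1_1 ce_1_2)) (Tr.all_nd (Tr.all_nd ce_1_3 ce_1_4) (Tr.all_nd ce_1_5 ce_1_6))) (Tr.all_nd (Tr.all_nd (Tr.all_nd ce_1_7 ce_1_8) (Tr.all_nd ce_1_9 ce_1_10)) (Tr.all_nd (Tr.all_nd ce_1_11 ce_1_12) (Tr.all_nd ce_1_13 ce_1_14)))) (Tr.all_nd (Tr.all_nd (Tr.all_nd ce_1_15 (Tr.all_nd ce_1_16 ce_1_17)) (Tr.all_nd (Tr.all_nd ce_1_18 ce_1_19) (Tr.all_nd ce_1_20 ce_1_21))) (Tr.all_nd (Tr.all_nd (Tr.all_nd ce_1_22 ce_1_23) (Tr.all_nd ce_1_24 ce_1_25)) (Tr.all_nd (Tr.all_nd ce_1_26 ce_1_27) (Tr.all_nd ce_1_28 ce_1_29)))))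
theorem tr : Tr.all (transQ mt sd PT DT q0) L = true := (Tr.all_nd (Tr.all_nd (Tr.all_nd (Tr.all_nd tr_0 (Tr.all_nd tr_1 tr_2)) (Tr.all_nd (Tr.all_nd tr_3 tr_4) (Tr.all_nd tr_5 tr_6))) (Tr.all_nd (Tr.all_nd (Tr.all_nd tr_7 tr_8) (Tr.all_nd tr_9 tr_10)) (Tr.all_nd (Tr.all_nd tr_11 tr_12) (Tr.all_nd tr_13 tr_14)))) (Tr.all_nd (Tr.all_nd (Tr.all_nd tr_15 (Tr.all_nd tr_16 tr_17)) (Tr.all_nd (Tr.all_nd tr_18 tr_19) (Tr.all_nd tr_20 tr_21))) (Tr.all_nd (Tr.all_nd (Tr.all_nd tr_22 tr_23) (Tr.all_nd tr_24 tr_25)) (Tr.all_nd (Tr.all_nd tr_26 tr_27) (Tr.all_nd tr_28 tr_29)))))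
theorem re_0 : Tr.all Rf_0 L = true := (Tr.all_nd (Tr.all_nd (Tr.all_nd (Tr.all_nd re_0_0 (Tr.all_nd re_0_1 re_0_2)) (Tr.all_nd (Tr.all_nd re_0_3 re_0_4) (Tr.all_nd re_0_5 re_0_6))) (Tr.all_nd (Tr.all_nd (Tr.all_nd re_0_7 re_0_8) (Tr.all_nd re_0_9 re_0_10)) (Tr.all_nd (Tr.all_nd re_0_11 re_0_12) (Tr.all_nd re_0_13 re_0_14)))) (Tr.all_nd (Tr.all_nd (Tr.all_nd re_0_15 (Tr.all_nd re_0_16 re_0_17)) (Tr.all_nd (Tr.all_nd re_0_18 re_0_19) (Tr.all_nd re_0_20 re_0_21))) (Tr.all_nd (Tr.all_nd (Tr.all_nd re_0_22 re_0_23) (Tr.all_nd re_0_24 re_0_25)) (Tr.all_nd (Tr.all_nd re_0_26 re_0_27) (Tr.all_nd re_0_28 re_0_29)))))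
theorem re_1 : Tr.all Rf_1 L = true := (Tr.all_nd (Tr.all_nd (Tr.all_nd (Tr.all_nd re_1_0 (Tr.all_nd re_1_1 re_1_2)) (Tr.all_nd (Tr.all_nd re_1_3 re_1_4) (Tr.all_nd re_1_5 re_1_6))) (Tr.all_nd (Tr.all_nd (Tr.all_nd re_1_7 re_1_8) (Tr.all_nd re_1_9 re_1_10)) (Tr.all_nd (Tr.all_nd re_1_11 re_1_12) (Tr.all_nd re_1_13 re_1_14)))) (Tr.all_nd (Tr.all_nd (Tr.all_nd re_1_15 (Tr.all_nd re_1_16 re_1_17)) (Tr.all_nd (Tr.all_nd re_1_18 re_1_19) (Tr.all_nd re_1_20 re_1_21))) (Tr.all_nd (Tr.all_nd (Tr.all_nd re_1_22 re_1_23) (Tr.all_nd re_1_24 re_1_25)) (Tr.all_nd (Tr.all_nd re_1_26 re_1_27) (Tr.all_nd re_1_28 re_1_29)))))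
theorem re_2 : Tr.all Rf_2 L = true := (Tr.all_nd (Tr.all_nd (Tr.all_nd (Tr.all_nd re_2_0 (Tr.all_nd re_2_1 re_2_2)) (Tr.all_nd (Tr.all_nd re_2_3 re_2_4) (Tr.all_nd re_2_5 re_2_6))) (Tr.all_nd (Tr.all_nd (Tr.all_nd re_2_7 re_2_8) (Tr.all_nd re_2_9 re_2_10)) (Tr.all_nd (Tr.all_nd re_2_11 re_2_12) (Tr.all_nd re_2_13 re_2_14)))) (Tr.all_nd (Tr.all_nd (Tr.all_nd re_2_15 (Tr.all_nd re_2_16 re_2_17)) (Tr.all_nd (Tr.all_nd re_2_18 re_2_19) (Tr.all_nd re_2_20 re_2_21))) (Tr.all_nd (Tr.all_nd (Tr.all_nd re_2_22 re_2_23) (Tr.all_nd re_2_24 re_2_25)) (Tr.all_nd (Tr.all_nd re_2_26 re_2_27) (Tr.all_nd re_2_28 re_2_29)))))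
theorem re_3 : Tr.all Rf_3 L = true := (Tr.all_nd (Tr.all_nd (Tr.all_nd (Tr.all_nd re_3_0 (Tr.all_nd re_3_1 re_3_2)) (Tr.all_nd (Tr.all_nd re_3_3 re_3_4) (Tr.all_nd re_3_5 re_3_6))) (Tr.all_nd (Tr.all_nd (Tr.all_nd re_3_7 re_3_8) (Tr.all_nd re_3_9 re_3_10)) (Tr.all_nd (Tr.all_nd re_3_11 re_3_12) (Tr.all_nd re_3_13 re_3_14)))) (Tr.all_nd (Tr.all_nd (Tr.all_nd re_3_15 (Tr.all_nd re_3_16 re_3_17)) (Tr.all_nd (Tr.all_nd re_3_18 re_3_19) (Tr.all_nd re_3_20 re_3_21))) (Tr.all_nd (Tr.all_nd (Tr.all_nd re_3_22 re_3_23) (Tr.all_nd re_3_24 re_3_25)) (Tr.all_nd (Tr.all_nd re_3_26 re_3_27) (Tr.all_nd re_3_28 re_3_29)))))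
theorem pl_0 : ∀ q ∈ L_0.toList, q.Prime := prime_labels bs_0 pr_0 gc_0 (by norm_num) (by norm_num)
theorem pl_1 : ∀ q ∈ L_1.toList, q.Prime := prime_labels bs_1 pr_1 gc_1 (by norm_num) (by norm_num)
theorem pl_2 : ∀ q ∈ L_2.toList, q.Prime := prime_labels bs_2 pr_2 gc_2 (by norm_num) (by norm_num)
theorem pl_3 : ∀ q ∈ L_3.toList, q.Prime := prime_labels bs_3 pr_3 gc_3 (by norm_num) (by norm_num)
theorem pl_4 : ∀ q ∈ L_4.toList, q.Prime := prime_labels bs_4 pr_4 gc_4 (by norm_num) (by norm_num)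
theorem pl_5 : ∀ q ∈ L_5.toList, q.Prime := prime_labels bs_5 pr_5 gc_5 (by norm_num) (by norm_num)
theorem pl_6 : ∀ q ∈ L_6.toList, q.Prime := prime_labels bs_6 pr_6 gc_6 (by norm_num) (by norm_num)
theorem pl_7 : ∀ q ∈ L_7.toList, q.Prime := prime_labels bs_7 pr_7 gc_7 (by norm_num) (by norm_num)
theorem pl_8 : ∀ q ∈ L_8.toList, q.Prime := prime_labels bs_8 pr_8 gc_8 (by norm_num) (by norm_num)
theorem pl_9 : ∀ q ∈ L_9.toList, q.Prime := prime_labels bs_9 pr_9 gc_9 (by norm_num) (by norm_num)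
theorem pl_10 : ∀ q ∈ L_10.toList, q.Prime := prime_labels bs_10 pr_10 gc_10 (by norm_num) (by norm_num)
theorem pl_11 : ∀ q ∈ L_11.toList, q.Prime := prime_labels bs_11 pr_11 gc_11 (by norm_num) (by norm_num)
theorem pl_12 : ∀ q ∈ L_12.toList, q.Prime := prime_labels bs_12 pr_12 gc_12 (by norm_num) (by norm_num)
theorem pl_13 : ∀ q ∈ L_13.toList, q.Prime := prime_labels bs_13 pr_13 gc_13 (by norm_num) (by norm_num)
theorem pl_14 : ∀ q ∈ L_14.toList, q.Prime := prime_labels bs_14 pr_14 gc_14 (by norm_num) (by norm_num)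
theorem pl_15 : ∀ q ∈ L_15.toList, q.Prime := prime_labels bs_15 pr_15 gc_15 (by norm_num) (by norm_num)
theorem pl_16 : ∀ q ∈ L_16.toList, q.Prime := prime_labels bs_16 pr_16 gc_16 (by norm_num) (by norm_num)
theorem pl_17 : ∀ q ∈ L_17.toList, q.Prime := prime_labels bs_17 pr_17 gc_17 (by norm_num) (by norm_num)
theorem pl_18 : ∀ q ∈ L_18.toList, q.Prime := prime_labels bs_18 pr_18 gc_18 (by norm_num) (by norm_num)
theorem pl_19 : ∀ q ∈ L_19.toList, q.Prime := prime_labels bs_19 pr_19 gc_19 (by norm_num) (by norm_num)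
theorem pl_20 : ∀ q ∈ L_20.toList, q.Prime := prime_labels bs_20 pr_20 gc_20 (by norm_num) (by norm_num)
theorem pl_21 : ∀ q ∈ L_21.toList, q.Prime := prime_labels bs_21 pr_21 gc_21 (by norm_num) (by norm_num)
theorem pl_22 : ∀ q ∈ L_22.toList, q.Prime := prime_labels bs_22 pr_22 gc_22 (by norm_num) (by norm_num)
theorem pl_23 : ∀ q ∈ L_23.toList, q.Prime := prime_labels bs_23 pr_23 gc_23 (by norm_num) (by norm_num)
theorem pl_24 : ∀ q ∈ L_24.toList, q.Prime := prime_labels bs_24 pr_24 gc_24 (by norm_num) (by norm_num)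
theorem pl_25 : ∀ q ∈ L_25.toList, q.Prime := prime_labels bs_25 pr_25 gc_25 (by norm_num) (by norm_num)
theorem pl_26 : ∀ q ∈ L_26.toList, q.Prime := prime_labels bs_26 pr_26 gc_26 (by norm_num) (by norm_num)
theorem pl_27 : ∀ q ∈ L_27.toList, q.Prime := prime_labels bs_27 pr_27 gc_27 (by norm_num) (by norm_num)
theorem pl_28 : ∀ q ∈ L_28.toList, q.Prime := prime_labels bs_28 pr_28 gc_28 (by norm_num) (by norm_num)
theorem pl_29 : ∀ q ∈ L_29.toList, q.Prime := prime_labels bs_29 pr_29 gc_29 (by norm_num) (by norm_num)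
theorem brecP {α : Type} {P : α → Prop} {x y : α} {b : Bool} (hx : P x) (hy : P y) : P (Bool.rec (motive := fun _ => α) x y b) := by
  cases b
  · exact hx
  · exact hy
theorem memM (x : ℕ) (h1 : 2097152 ≤ x) (h2 : x < 2 * 2097152) (h3 : MB x % x = 0) : x ∈ L.toList :=
  ((brecP (P := fun M => M % x = 0 → x ∈ L.toList) (brecP (P := fun M => M % x = 0 → x ∈ L.toList) (brecP (P := fun M => M % x = 0 → x ∈ L.toList) (brecP (P := fun M => M % x = 0 → x ∈ L.toList) (fun h => (mem_nd_l (mem_nd_l (mem_nd_l (mem_nd_l (mem_of_mod bs_0 pr_0 pl_0 h1 h2 (by norm_num) h)))))) (brecP (P := fun M => M % x = 0 → x ∈ L.toList) (fun h => (mem_nd_l (mem_nd_l (mem_nd_l (mem_nd_r (mem_nd_l (mem_of_mod bs_1 pr_1 pl_1 h1 h2 (by norm_num) h))))))) (fun h => (mem_nd_l (mem_nd_l (mem_nd_l (mem_nd_r (mem_nd_r (mem_of_mod bs_2 pr_2 pl_2 h1 h2 (by norm_num) h))))))))) (brecP (P := fun M => M % x = 0 → x ∈ L.toList) (brecP (P := fun M =>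 M % x = 0 → x ∈ L.toList) (fun h => (mem_nd_l (mem_nd_l (mem_nd_r (mem_nd_l (mem_nd_l (mem_of_mod bs_3 pr_3 pl_3 h1 h2 (by norm_num) h))))))) (fun h => (mem_nd_l (mem_nd_l (mem_nd_r (mem_nd_l (mem_nd_r (mem_of_mod bs_4 pr_4 pl_4 h1 h2 (by norm_num) h)))))))) (brecP (P := fun M => M % x = 0 → x ∈ L.toList) (fun h => (mem_nd_l (mem_nd_l (mem_nd_r (mem_nd_r (mem_nd_l (mem_of_mod bs_5 pr_5 pl_5 h1 h2 (by norm_num) h))))))) (fun h => (mem_nd_l (mem_nd_l (mem_nd_r (mem_nd_r (mem_nd_r (mem_of_mod bs_6 pr_6 pl_6 h1 h2 (by norm_num) h)))))))))) (brecP (P := fun M => M % x = 0 → x ∈ L.toList) (brecP (P := fun M => M % x = 0 → x ∈ L.toList) (brecP (P := fun M => M % x = 0 → x ∈ L.toList) (fun h => (mem_nd_l (mem_nd_r (mem_nd_l (mem_nd_l (mem_nd_l (mem_of_mod bs_7 pr_7 pl_7 h1 h2 (by norm_num) h))))))) (fun h => (mem_nd_l (mem_nd_r (mem_nd_l (mem_nd_l (mem_nd_r (mem_of_mod bs_8 pr_8 pl_8 h1 h2 (by norm_num) h)))))))) (brecP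 (P := fun M => M % x = 0 → x ∈ L.toList) (fun h => (mem_nd_l (mem_nd_r (mem_nd_l (mem_nd_r (mem_nd_l (mem_of_mod bs_9 pr_9 pl_9 h1 h2 (by norm_num) h))))))) (fun h => (mem_nd_l (mem_nd_r (mem_nd_l (mem_nd_r (mem_nd_r (mem_of_mod bs_10 pr_10 pl_10 h1 h2 (by norm_num) h))))))))) (brecP (P := fun M => M % x = 0 → x ∈ L.toList) (brecP (P := fun M => M % x = 0 → x ∈ L.toList) (fun h => (mem_nd_l (mem_nd_r (mem_nd_r (mem_nd_l (mem_nd_l (mem_of_mod bs_11 pr_11 pl_11 h1 h2 (by norm_num) h))))))) (fun h => (mem_nd_l (mem_nd_r (mem_nd_r (mem_nd_l (mem_nd_r (mem_of_mod bs_12 pr_12 pl_12 h1 h2 (by norm_num) h)))))))) (brecP (P := fun M => M % x = 0 → x ∈ L.toList) (fun h => (mem_nd_l (mem_nd_r (mem_nd_r (mem_nd_r (mem_nd_l (mem_of_mod bs_13 pr_13 pl_13 h1 h2 (by norm_num) h))))))) (fun h => (mem_nd_l (mem_nd_r (mem_nd_r (mem_nd_r (mem_nd_r (mem_of_mod bs_14 pr_14 pl_14 h1 h2 (by norm_num) h))))))))))) (brecP (P := fun M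 => M % x = 0 → x ∈ L.toList) (brecP (P := fun M => M % x = 0 → x ∈ L.toList) (brecP (P := fun M => M % x = 0 → x ∈ L.toList) (fun h => (mem_nd_r (mem_nd_l (mem_nd_l (mem_nd_l (mem_of_mod bs_15 pr_15 pl_15 h1 h2 (by norm_num) h)))))) (brecP (P := fun M => M % x = 0 → x ∈ L.toList) (fun h => (mem_nd_r (mem_nd_l (mem_nd_l (mem_nd_r (mem_nd_l (mem_of_mod bs_16 pr_16 pl_16 h1 h2 (by norm_num) h))))))) (fun h => (mem_nd_r (mem_nd_l (mem_nd_l (mem_nd_r (mem_nd_r (mem_of_mod bs_17 pr_17 pl_17 h1 h2 (by norm_num) h))))))))) (brecP (P := fun M => M % x = 0 → x ∈ L.toList) (brecP (P := fun M => M % x = 0 → x ∈ L.toList) (fun h => (mem_nd_r (mem_nd_l (mem_nd_r (mem_nd_l (mem_nd_l (mem_of_mod bs_18 pr_18 pl_18 h1 h2 (by norm_num) h))))))) (fun h => (mem_nd_r (mem_nd_l (mem_nd_r (mem_nd_l (mem_nd_r (mem_of_mod bs_19 pr_19 pl_19 h1 h2 (by norm_num) h)))))))) (brecP (P := fun M => M % x = 0 → x ∈ L.toList) (fun h => (mem_nd_r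 (mem_nd_l (mem_nd_r (mem_nd_r (mem_nd_l (mem_of_mod bs_20 pr_20 pl_20 h1 h2 (by norm_num) h))))))) (fun h => (mem_nd_r (mem_nd_l (mem_nd_r (mem_nd_r (mem_nd_r (mem_of_mod bs_21 pr_21 pl_21 h1 h2 (by norm_num) h)))))))))) (brecP (P := fun M => M % x = 0 → x ∈ L.toList) (brecP (P := fun M => M % x = 0 → x ∈ L.toList) (brecP (P := fun M => M % x = 0 → x ∈ L.toList) (fun h => (mem_nd_r (mem_nd_r (mem_nd_l (mem_nd_l (mem_nd_l (mem_of_mod bs_22 pr_22 pl_22 h1 h2 (by norm_num) h))))))) (fun h => (mem_nd_r (mem_nd_r (mem_nd_l (mem_nd_l (mem_nd_r (mem_of_mod bs_23 pr_23 pl_23 h1 h2 (by norm_num) h)))))))) (brecP (P := fun M => M % x = 0 → x ∈ L.toList) (fun h => (mem_nd_r (mem_nd_r (mem_nd_l (mem_nd_r (mem_nd_l (mem_of_mod bs_24 pr_24 pl_24 h1 h2 (by norm_num) h))))))) (fun h => (mem_nd_r (mem_nd_r (mem_nd_l (mem_nd_r (mem_nd_r (mem_of_mod bs_25 pr_25 pl_25 h1 h2 (by norm_num) h))))))))) (brecP (P := fun M => M % x =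 0 → x ∈ L.toList) (brecP (P := fun M => M % x = 0 → x ∈ L.toList) (fun h => (mem_nd_r (mem_nd_r (mem_nd_r (mem_nd_l (mem_nd_l (mem_of_mod bs_26 pr_26 pl_26 h1 h2 (by norm_num) h))))))) (fun h => (mem_nd_r (mem_nd_r (mem_nd_r (mem_nd_l (mem_nd_r (mem_of_mod bs_27 pr_27 pl_27 h1 h2 (by norm_num) h)))))))) (brecP (P := fun M => M % x = 0 → x ∈ L.toList) (fun h => (mem_nd_r (mem_nd_r (mem_nd_r (mem_nd_r (mem_nd_l (mem_of_mod bs_28 pr_28 pl_28 h1 h2 (by norm_num) h))))))) (fun h => (mem_nd_r (mem_nd_r (mem_nd_r (mem_nd_r (mem_nd_r (mem_of_mod bs_29 pr_29 pl_29 h1 h2 (by norm_num) h)))))))))))) : (fun M => M % x = 0 → x ∈ L.toList) (MB x)) h3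
theorem mt_sound : ∀ x, mt x = true → x ∈ L.toList := fun x h => memt_sound (K := 2097152) memM (x := x) h
theorem pos : ∀ q ∈ L.toList, q ≠ 0 := fun q hq h => by
  have := ((bst_sound L _ _ bst_chk).1 q hq).1
  omega
theorem cu_0 (q : ℕ) : CE_0 q = true ↔ CD_g q = true ∧ CD_gi q = true ∧ CD_a q = true ∧ CD_b q = true ∧ CD_c q = true := by
  unfold CE_0
  simp only [bfalse_iff, and_true]
theorem cd_g : ∀ q ∈ L.toList, clQ mt F_g F_gi q = true ∧ D_g q = true := fun q hq => (band_iff _ _).1 ((cu_0 q).1 ((Tr.all_iff _ _).1 ce_0 q hq)).1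
theorem cd_gi : ∀ q ∈ L.toList, clQ mt F_gi F_g q = true ∧ D_gi q = true := fun q hq => (band_iff _ _).1 ((cu_0 q).1 ((Tr.all_iff _ _).1 ce_0 q hq)).2.1
theorem cd_a : ∀ q ∈ L.toList, clQ mt F_a F_a q = true ∧ D_a q = true := fun q hq => (band_iff _ _).1 ((cu_0 q).1 ((Tr.all_iff _ _).1 ce_0 q hq)).2.2.1
theorem cd_b : ∀ q ∈ L.toList, clQ mt F_b F_b q = true ∧ D_b q = true := fun q hq => (band_iff _ _).1 ((cu_0 q).1 ((Tr.all_iff _ _).1 ce_0 q hq)).2.2.2.1
theorem cd_c : ∀ q ∈ L.toList, clQ mt F_c F_c q = true ∧ D_c q = true := fun q hq => (band_iff _ _).1 ((cu_0 q).1 ((Tr.all_iff _ _).1 ce_0 q hq)).2.2.2.2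
theorem cu_1 (q : ℕ) : CE_1 q = true ↔ CD_d q = true ∧ CD_e q = true ∧ CD_f q = true := by
  unfold CE_1
  simp only [bfalse_iff, and_true]
theorem cd_d : ∀ q ∈ L.toList, clQ mt F_d F_d q = true ∧ D_d q = true := fun q hq => (band_iff _ _).1 ((cu_1 q).1 ((Tr.all_iff _ _).1 ce_1 q hq)).1
theorem cd_e : ∀ q ∈ L.toList, clQ mt F_e F_e q = true ∧ D_e q = true := fun q hq => (band_iff _ _).1 ((cu_1 q).1 ((Tr.all_iff _ _).1 ce_1 q hq)).2.1
theorem cd_f : ∀ q ∈ L.toList, clQ mt F_f F_f q = true ∧ D_f q = true := fun q hq => (band_iff _ _).1 ((cu_1 q).1 ((Tr.all_iff _ _).1 ce_1 q hq)).2.2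
theorem closed : Closed L stp inv := by
  refine ⟨?_, ?_, inv_inv⟩
  · intro q hq c
    cases c
    · exact mt_sound _ ((band_iff _ _).1 (cd_g q hq).1).1
    · exact mt_sound _ ((band_iff _ _).1 (cd_gi q hq).1).1
    · exact mt_sound _ ((band_iff _ _).1 (cd_a q hq).1).1
    · exact mt_sound _ ((band_iff _ _).1 (cd_b q hq).1).1
    · exact mt_sound _ ((band_iff _ _).1 (cd_c q hq).1).1
    · exact mt_sound _ ((band_iff _ _).1 (cd_d q hq).1).1
    · exact mt_sound _ ((band_iff _ _).1 (cd_e q hq).1).1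
    · exact mt_sound _ ((band_iff _ _).1 (cd_f q hq).1).1
  · intro q hq c
    cases c
    · exact Nat.eq_of_beq_eq_true ((band_iff _ _).1 (cd_g q hq).1).2
    · exact Nat.eq_of_beq_eq_true ((band_iff _ _).1 (cd_gi q hq).1).2
    · exact Nat.eq_of_beq_eq_true ((band_iff _ _).1 (cd_a q hq).1).2
    · exact Nat.eq_of_beq_eq_true ((band_iff _ _).1 (cd_b q hq).1).2
    · exact Nat.eq_of_beq_eq_true ((band_iff _ _).1 (cd_c q hq).1).2
    · exact Nat.eq_of_beq_eq_true ((band_iff _ _).1 (cd_d q hq).1).2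
    · exact Nat.eq_of_beq_eq_true ((band_iff _ _).1 (cd_e q hq).1).2
    · exact Nat.eq_of_beq_eq_true ((band_iff _ _).1 (cd_f q hq).1).2
theorem nodup : L.toList.Nodup := ((bst_sound L _ _ bst_chk).2.imp (fun h => Nat.ne_of_lt h))
theorem card_L : Nat.card (Om L) = 122760 := by rw [card_Om L nodup, ← size_eq, size_L]
theorem hsd (d x : ℕ) : ∃ c, sd d x = stp c x := (brecP (P := fun y => ∃ c : Col, y = stp c x) (brecP (P := fun y => ∃ c : Col, y = stp c x) (brecP (P := fun y => ∃ c : Col, y = stp c x) ⟨.g, rfl⟩ ⟨.gi, rfl⟩) (brecP (P := fun y => ∃ c : Col, y = stp c x) ⟨.a, rfl⟩ ⟨.b, rfl⟩)) (brecP (P := fun y => ∃ c : Col, y = stp c x) (brecP (P := fun y => ∃ c : Col, y = stp c x) ⟨.c, rfl⟩ ⟨.d, rfl⟩) (brecP (P := fun y => ∃ c : Col, y = stp c x) ⟨.e, rfl⟩ ⟨.f, rfl⟩)))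
theorem trans : ∀ q ∈ L.toList, ∃ w : List Col, walk stp w q0 = q := transQ_sound mt_sound hsd tr
theorem tau_lt (c : Col) {q : ℕ} (hq : 0 < q) : tau c q < q := by cases c <;> exact Nat.mod_lt _ hq
theorem tau_z : lall (fun c => Nat.ble 4194304 (tau c 0)) cols = true := by decide +kernel
theorem hz : ∀ q ∈ L.toList, ∀ c c', tau c q ≤ tau c' 0 := by
  intro q hq c c'
  have h1 := (bst_sound L _ _ bst_chk).1 q hq
  have h2 := tau_lt c (q := q) (by omega)
  have h3 := Nat.le_of_ble_eq_true ((lall_iff _ _).1 tau_z c' (hcols c'))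
  omega
theorem ac_0 : agChk idx inv RW SW3 a_0 = true := by decide +kernel
theorem ac_1 : agChk idx inv RW SW3 a_1 = true := by decide +kernel
theorem ac_2 : agChk idx inv RW SW3 a_2 = true := by decide +kernel
theorem ac_3 : agChk idx inv RW SW3 a_3 = true := by decide +kernel
theorem ac_4 : agChk idx inv RW SW3 a_4 = true := by decide +kernel
theorem ac_5 : agChk idx inv RW SW3 a_5 = true := by decide +kernel
theorem ac_6 : agChk idx inv RW SW3 a_6 = true := by decide +kernel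
theorem ac_7 : agChk idx inv RW SW3 a_7 = true := by decide +kernel
theorem ac_8 : agChk idx inv RW SW3 a_8 = true := by decide +kernel
theorem ac_9 : agChk idx inv RW SW3 a_9 = true := by decide +kernel
theorem ac_10 : agChk idx inv RW SW3 a_10 = true := by decide +kernel
theorem ac_11 : agChk idx inv RW SW3 a_11 = true := by decide +kernel
theorem ac_12 : agChk idx inv RW SW3 a_12 = true := by decide +kernel
theorem ac_13 : agChk idx inv RW SW3 a_13 = true := by decide +kernel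
theorem ac_14 : agChk idx inv RW SW3 a_14 = true := by decide +kernel
theorem ac_15 : agChk idx inv RW SW3 a_15 = true := by decide +kernel
theorem ac_16 : agChk idx inv RW SW3 a_16 = true := by decide +kernel
theorem ac_17 : agChk idx inv RW SW3 a_17 = true := by decide +kernel
theorem ac_18 : agChk idx inv RW SW3 a_18 = true := by decide +kernel
theorem ac_19 : agChk idx inv RW SW3 a_19 = true := by decide +kernel
theorem ac_20 : agChk idx inv RW SW3 a_20 = true := by decide +kernel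
theorem ac_21 : agChk idx inv RW SW3 a_21 = true := by decide +kernel
theorem ac_22 : agChk idx inv RW SW3 a_22 = true := by decide +kernel
theorem ac_23 : agChk idx inv RW SW3 a_23 = true := by decide +kernel
theorem ac_24 : agChk idx inv RW SW3 a_24 = true := by decide +kernel
theorem ac_25 : agChk idx inv RW SW3 a_25 = true := by decide +kernel
theorem ac_26 : agChk idx inv RW SW3 a_26 = true := by decide +kernel
theorem ac_27 : agChk idx inv RW SW3 a_27 = true := by decide +kernel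
theorem ac_28 : agChk idx inv RW SW3 a_28 = true := by decide +kernel
theorem ac_29 : agChk idx inv RW SW3 a_29 = true := by decide +kernel
theorem ac_30 : agChk idx inv RW SW3 a_30 = true := by decide +kernel
theorem ac_31 : agChk idx inv RW SW3 a_31 = true := by decide +kernel
theorem ac_32 : agChk idx inv RW SW3 a_32 = true := by decide +kernel
theorem ac_33 : agChk idx inv RW SW3 a_33 = true := by decide +kernel
theorem ac_34 : agChk idx inv RW SW3 a_34 = true := by decide +kernel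
theorem ac_35 : agChk idx inv RW SW3 a_35 = true := by decide +kernel
theorem ac_36 : agChk idx inv RW SW3 a_36 = true := by decide +kernel
theorem ac_37 : agChk idx inv RW SW3 a_37 = true := by decide +kernel
theorem ac_38 : agChk idx inv RW SW3 a_38 = true := by decide +kernel
theorem ac_39 : agChk idx inv RW SW3 a_39 = true := by decide +kernel
theorem ac_40 : agChk idx inv RW SW3 a_40 = true := by decide +kernel
theorem ac_41 : agChk idx inv RW SW3 a_41 = true := by decide +kernel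
theorem ac_42 : agChk idx inv RW SW3 a_42 = true := by decide +kernel
theorem ac_43 : agChk idx inv RW SW3 a_43 = true := by decide +kernel
theorem ac_44 : agChk idx inv RW SW3 a_44 = true := by decide +kernel
theorem ac_45 : agChk idx inv RW SW3 a_45 = true := by decide +kernel
theorem ac_46 : agChk idx inv RW SW3 a_46 = true := by decide +kernel
theorem ac_47 : agChk idx inv RW SW3 a_47 = true := by decide +kernel
theorem ac_48 : agChk idx inv RW SW3 a_48 = true := by decide +kernel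
theorem ac_49 : agChk idx inv RW SW3 a_49 = true := by decide +kernel
theorem ac_50 : agChk idx inv RW SW3 a_50 = true := by decide +kernel
theorem ac_51 : agChk idx inv RW SW3 a_51 = true := by decide +kernel
theorem ac_52 : agChk idx inv RW SW3 a_52 = true := by decide +kernel
theorem ac_53 : agChk idx inv RW SW3 a_53 = true := by decide +kernel
theorem ac_54 : agChk idx inv RW SW3 a_54 = true := by decide +kernel
theorem ac_55 : agChk idx inv RW SW3 a_55 = true := by decide +kernel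
theorem ac_56 : agChk idx inv RW SW3 a_56 = true := by decide +kernel
theorem ac_57 : agChk idx inv RW SW3 a_57 = true := by decide +kernel
theorem ac_58 : agChk idx inv RW SW3 a_58 = true := by decide +kernel
theorem ac_59 : agChk idx inv RW SW3 a_59 = true := by decide +kernel
theorem ac_60 : agChk idx inv RW SW3 a_60 = true := by decide +kernel
theorem ac_61 : agChk idx inv RW SW3 a_61 = true := by decide +kernel
theorem ac_62 : agChk idx inv RW SW3 a_62 = true := by decide +kernel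
theorem ac_63 : agChk idx inv RW SW3 a_63 = true := by decide +kernel
theorem ac_64 : agChk idx inv RW SW3 a_64 = true := by decide +kernel
theorem ac_65 : agChk idx inv RW SW3 a_65 = true := by decide +kernel
theorem ac_66 : agChk idx inv RW SW3 a_66 = true := by decide +kernel
theorem ac_67 : agChk idx inv RW SW3 a_67 = true := by decide +kernel
theorem ac_68 : agChk idx inv RW SW3 a_68 = true := by decide +kernel
theorem ac_69 : agChk idx inv RW SW3 a_69 = true := by decide +kernel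
theorem ac_70 : agChk idx inv RW SW3 a_70 = true := by decide +kernel
theorem ac_71 : agChk idx inv RW SW3 a_71 = true := by decide +kernel
theorem ac_72 : agChk idx inv RW SW3 a_72 = true := by decide +kernel
theorem ac_73 : agChk idx inv RW SW3 a_73 = true := by decide +kernel
theorem ac_74 : agChk idx inv RW SW3 a_74 = true := by decide +kernel
theorem ac_75 : agChk idx inv RW SW3 a_75 = true := by decide +kernel
theorem ac_76 : agChk idx inv RW SW3 a_76 = true := by decide +kernel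
theorem ac_77 : agChk idx inv RW SW3 a_77 = true := by decide +kernel
theorem ac_78 : agChk idx inv RW SW3 a_78 = true := by decide +kernel
theorem ac_79 : agChk idx inv RW SW3 a_79 = true := by decide +kernel
theorem ac_80 : agChk idx inv RW SW3 a_80 = true := by decide +kernel
theorem ac_81 : agChk idx inv RW SW3 a_81 = true := by decide +kernel
theorem ac_82 : agChk idx inv RW SW3 a_82 = true := by decide +kernel
theorem ac_83 : agChk idx inv RW SW3 a_83 = true := by decide +kernel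
theorem ac_84 : agChk idx inv RW SW3 a_84 = true := by decide +kernel
theorem ac_85 : agChk idx inv RW SW3 a_85 = true := by decide +kernel
theorem ac_86 : agChk idx inv RW SW3 a_86 = true := by decide +kernel
theorem ac_87 : agChk idx inv RW SW3 a_87 = true := by decide +kernel
theorem ac_88 : agChk idx inv RW SW3 a_88 = true := by decide +kernel
theorem ac_89 : agChk idx inv RW SW3 a_89 = true := by decide +kernel
theorem ac_90 : agChk idx inv RW SW3 a_90 = true := by decide +kernel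
theorem ac_91 : agChk idx inv RW SW3 a_91 = true := by decide +kernel
theorem ac_92 : agChk idx inv RW SW3 a_92 = true := by decide +kernel
theorem ac_93 : agChk idx inv RW SW3 a_93 = true := by decide +kernel
theorem ac_94 : agChk idx inv RW SW3 a_94 = true := by decide +kernel
theorem ac_95 : agChk idx inv RW SW3 a_95 = true := by decide +kernel
theorem ac_96 : agChk idx inv RW SW3 a_96 = true := by decide +kernel
theorem ac_97 : agChk idx inv RW SW3 a_97 = true := by decide +kernel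
theorem ac_98 : agChk idx inv RW SW3 a_98 = true := by decide +kernel
theorem ac_99 : agChk idx inv RW SW3 a_99 = true := by decide +kernel
theorem ac_100 : agChk idx inv RW SW3 a_100 = true := by decide +kernel
theorem ac_101 : agChk idx inv RW SW3 a_101 = true := by decide +kernel
theorem ac_102 : agChk idx inv RW SW3 a_102 = true := by decide +kernel
theorem ac_103 : agChk idx inv RW SW3 a_103 = true := by decide +kernel
theorem ac_104 : agChk idx inv RW SW3 a_104 = true := by decide +kernel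
theorem ac_105 : agChk idx inv RW SW3 a_105 = true := by decide +kernel
theorem ac_106 : agChk idx inv RW SW3 a_106 = true := by decide +kernel
theorem ac_107 : agChk idx inv RW SW3 a_107 = true := by decide +kernel
theorem ac_108 : agChk idx inv RW SW3 a_108 = true := by decide +kernel
theorem ac_109 : agChk idx inv RW SW3 a_109 = true := by decide +kernel
theorem ac_110 : agChk idx inv RW SW3 a_110 = true := by decide +kernel
theorem ac_111 : agChk idx inv RW SW3 a_111 = true := by decide +kernel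
theorem ac_112 : agChk idx inv RW SW3 a_112 = true := by decide +kernel
theorem ac_113 : agChk idx inv RW SW3 a_113 = true := by decide +kernel
theorem ac_114 : agChk idx inv RW SW3 a_114 = true := by decide +kernel
theorem ac_115 : agChk idx inv RW SW3 a_115 = true := by decide +kernel
theorem ac_116 : agChk idx inv RW SW3 a_116 = true := by decide +kernel
theorem ac_117 : agChk idx inv RW SW3 a_117 = true := by decide +kernel
theorem ac_118 : agChk idx inv RW SW3 a_118 = true := by decide +kernel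
theorem ac_119 : agChk idx inv RW SW3 a_119 = true := by decide +kernel
theorem ac_120 : agChk idx inv RW SW3 a_120 = true := by decide +kernel
theorem ac_121 : agChk idx inv RW SW3 a_121 = true := by decide +kernel
theorem ac_122 : agChk idx inv RW SW3 a_122 = true := by decide +kernel
theorem ac_123 : agChk idx inv RW SW3 a_123 = true := by decide +kernel
theorem ac_124 : agChk idx inv RW SW3 a_124 = true := by decide +kernel
theorem ac_125 : agChk idx inv RW SW3 a_125 = true := by decide +kernel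
theorem ac_126 : agChk idx inv RW SW3 a_126 = true := by decide +kernel
theorem ac_127 : agChk idx inv RW SW3 a_127 = true := by decide +kernel
theorem ac_128 : agChk idx inv RW SW3 a_128 = true := by decide +kernel
theorem ac_129 : agChk idx inv RW SW3 a_129 = true := by decide +kernel
theorem ac_130 : agChk idx inv RW SW3 a_130 = true := by decide +kernel
theorem ac_131 : agChk idx inv RW SW3 a_131 = true := by decide +kernel
theorem ac_132 : agChk idx inv RW SW3 a_132 = true := by decide +kernel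
theorem ac_133 : agChk idx inv RW SW3 a_133 = true := by decide +kernel
theorem ac_134 : agChk idx inv RW SW3 a_134 = true := by decide +kernel
theorem ac_135 : agChk idx inv RW SW3 a_135 = true := by decide +kernel
theorem ac_136 : agChk idx inv RW SW3 a_136 = true := by decide +kernel
theorem ac_137 : agChk idx inv RW SW3 a_137 = true := by decide +kernel
theorem ac_138 : agChk idx inv RW SW3 a_138 = true := by decide +kernel
theorem ac_139 : agChk idx inv RW SW3 a_139 = true := by decide +kernel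
theorem ac_140 : agChk idx inv RW SW3 a_140 = true := by decide +kernel
theorem ac_141 : agChk idx inv RW SW3 a_141 = true := by decide +kernel
theorem ac_142 : agChk idx inv RW SW3 a_142 = true := by decide +kernel
theorem ac_143 : agChk idx inv RW SW3 a_143 = true := by decide +kernel
theorem ac_144 : agChk idx inv RW SW3 a_144 = true := by decide +kernel
theorem ac_145 : agChk idx inv RW SW3 a_145 = true := by decide +kernel
theorem ac_146 : agChk idx inv RW SW3 a_146 = true := by decide +kernel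
theorem ac_147 : agChk idx inv RW SW3 a_147 = true := by decide +kernel
theorem ac_148 : agChk idx inv RW SW3 a_148 = true := by decide +kernel
theorem ac_149 : agChk idx inv RW SW3 a_149 = true := by decide +kernel
theorem ac_150 : agChk idx inv RW SW3 a_150 = true := by decide +kernel
theorem ac_151 : agChk idx inv RW SW3 a_151 = true := by decide +kernel
theorem ac_152 : agChk idx inv RW SW3 a_152 = true := by decide +kernel
theorem ac_153 : agChk idx inv RW SW3 a_153 = true := by decide +kernel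
theorem j_0 (q : ℕ) (h : E_0 (UU_g q) q = true) : Just stp tau idx inv RW SW3 PT DT q0 .g q := ⟨a_0, ac_0, rfl, h⟩
theorem j_1 (q : ℕ) (h : E_1 (UU_g q) q = true) : Just stp tau idx inv RW SW3 PT DT q0 .g q := ⟨a_1, ac_1, rfl, h⟩
theorem j_2 (q : ℕ) (h : E_2 (UU_g q) q = true) : Just stp tau idx inv RW SW3 PT DT q0 .g q := ⟨a_2, ac_2, rfl, h⟩
theorem j_3 (q : ℕ) (h : E_3 (UU_g q) q = true) : Just stp tau idx inv RW SW3 PT DT q0 .g q := ⟨a_3, ac_3, rfl, h⟩
theorem j_4 (q : ℕ) (h : E_4 (UU_g q) q = true) : Just stp tau idx inv RW SW3 PT DT q0 .g q := ⟨a_4, ac_4, rfl, h⟩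
theorem j_5 (q : ℕ) (h : E_5 (UU_g q) q = true) : Just stp tau idx inv RW SW3 PT DT q0 .g q := ⟨a_5, ac_5, rfl, h⟩
theorem j_6 (q : ℕ) (h : E_6 (UU_g q) q = true) : Just stp tau idx inv RW SW3 PT DT q0 .g q := ⟨a_6, ac_6, rfl, h⟩
theorem j_7 (q : ℕ) (h : E_7 (UU_g q) q = true) : Just stp tau idx inv RW SW3 PT DT q0 .g q := ⟨a_7, ac_7, rfl, h⟩
theorem j_8 (q : ℕ) (h : E_8 (UU_g q) q = true) : Just stp tau idx inv RW SW3 PT DT q0 .g q := ⟨a_8, ac_8, rfl, h⟩
theorem j_9 (q : ℕ) (h : E_9 (UU_g q) q = true) : Just stp tau idx inv RW SW3 PT DT q0 .g q := ⟨a_9, ac_9, rfl, h⟩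
theorem j_10 (q : ℕ) (h : E_10 (UU_g q) q = true) : Just stp tau idx inv RW SW3 PT DT q0 .g q := ⟨a_10, ac_10, rfl, h⟩
theorem j_11 (q : ℕ) (h : E_11 (UU_g q) q = true) : Just stp tau idx inv RW SW3 PT DT q0 .g q := ⟨a_11, ac_11, rfl, h⟩
theorem j_12 (q : ℕ) (h : E_12 (UU_g q) q = true) : Just stp tau idx inv RW SW3 PT DT q0 .g q := ⟨a_12, ac_12, rfl, h⟩
theorem j_13 (q : ℕ) (h : E_13 (UU_g q) q = true) : Just stp tau idx inv RW SW3 PT DT q0 .g q := ⟨a_13, ac_13, rfl, h⟩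
theorem j_14 (q : ℕ) (h : E_14 (UU_g q) q = true) : Just stp tau idx inv RW SW3 PT DT q0 .g q := ⟨a_14, ac_14, rfl, h⟩
theorem j_15 (q : ℕ) (h : E_15 (UU_g q) q = true) : Just stp tau idx inv RW SW3 PT DT q0 .g q := ⟨a_15, ac_15, rfl, h⟩
theorem j_16 (q : ℕ) (h : E_16 (UU_g q) q = true) : Just stp tau idx inv RW SW3 PT DT q0 .g q := ⟨a_16, ac_16, rfl, h⟩
theorem j_17 (q : ℕ) (h : E_17 (UU_gi q) q = true) : Just stp tau idx inv RW SW3 PT DT q0 .gi q := ⟨a_17, ac_17, rfl, h⟩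
theorem j_18 (q : ℕ) (h : E_18 (UU_gi q) q = true) : Just stp tau idx inv RW SW3 PT DT q0 .gi q := ⟨a_18, ac_18, rfl, h⟩
theorem j_19 (q : ℕ) (h : E_19 (UU_gi q) q = true) : Just stp tau idx inv RW SW3 PT DT q0 .gi q := ⟨a_19, ac_19, rfl, h⟩
theorem j_20 (q : ℕ) (h : E_20 (UU_gi q) q = true) : Just stp tau idx inv RW SW3 PT DT q0 .gi q := ⟨a_20, ac_20, rfl, h⟩
theorem j_21 (q : ℕ) (h : E_21 (UU_gi q) q = true) : Just stp tau idx inv RW SW3 PT DT q0 .gi q := ⟨a_21, ac_21, rfl, h⟩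
theorem j_22 (q : ℕ) (h : E_22 (UU_gi q) q = true) : Just stp tau idx inv RW SW3 PT DT q0 .gi q := ⟨a_22, ac_22, rfl, h⟩
theorem j_23 (q : ℕ) (h : E_23 (UU_gi q) q = true) : Just stp tau idx inv RW SW3 PT DT q0 .gi q := ⟨a_23, ac_23, rfl, h⟩
theorem j_24 (q : ℕ) (h : E_24 (UU_gi q) q = true) : Just stp tau idx inv RW SW3 PT DT q0 .gi q := ⟨a_24, ac_24, rfl, h⟩
theorem j_25 (q : ℕ) (h : E_25 (UU_gi q) q = true) : Just stp tau idx inv RW SW3 PT DT q0 .gi q := ⟨a_25, ac_25, rfl, h⟩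
theorem j_26 (q : ℕ) (h : E_26 (UU_gi q) q = true) : Just stp tau idx inv RW SW3 PT DT q0 .gi q := ⟨a_26, ac_26, rfl, h⟩
theorem j_27 (q : ℕ) (h : E_27 (UU_gi q) q = true) : Just stp tau idx inv RW SW3 PT DT q0 .gi q := ⟨a_27, ac_27, rfl, h⟩
theorem j_28 (q : ℕ) (h : E_28 (UU_gi q) q = true) : Just stp tau idx inv RW SW3 PT DT q0 .gi q := ⟨a_28, ac_28, rfl, h⟩
theorem j_29 (q : ℕ) (h : E_29 (UU_gi q) q = true) : Just stp tau idx inv RW SW3 PT DT q0 .gi q := ⟨a_29, ac_29, rfl, h⟩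
theorem j_30 (q : ℕ) (h : E_30 (UU_gi q) q = true) : Just stp tau idx inv RW SW3 PT DT q0 .gi q := ⟨a_30, ac_30, rfl, h⟩
theorem j_31 (q : ℕ) (h : E_31 (UU_gi q) q = true) : Just stp tau idx inv RW SW3 PT DT q0 .gi q := ⟨a_31, ac_31, rfl, h⟩
theorem j_32 (q : ℕ) (h : E_32 (UU_gi q) q = true) : Just stp tau idx inv RW SW3 PT DT q0 .gi q := ⟨a_32, ac_32, rfl, h⟩
theorem j_33 (q : ℕ) (h : E_33 (UU_gi q) q = true) : Just stp tau idx inv RW SW3 PT DT q0 .gi q := ⟨a_33, ac_33, rfl, h⟩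
theorem j_34 (q : ℕ) (h : E_34 (UU_a q) q = true) : Just stp tau idx inv RW SW3 PT DT q0 .a q := ⟨a_34, ac_34, rfl, h⟩
theorem j_35 (q : ℕ) (h : E_35 (UU_a q) q = true) : Just stp tau idx inv RW SW3 PT DT q0 .a q := ⟨a_35, ac_35, rfl, h⟩
theorem j_36 (q : ℕ) (h : E_36 (UU_a q) q = true) : Just stp tau idx inv RW SW3 PT DT q0 .a q := ⟨a_36, ac_36, rfl, h⟩
theorem j_37 (q : ℕ) (h : E_37 (UU_a q) q = true) : Just stp tau idx inv RW SW3 PT DT q0 .a q := ⟨a_37, ac_37, rfl, h⟩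
theorem j_38 (q : ℕ) (h : E_38 (UU_a q) q = true) : Just stp tau idx inv RW SW3 PT DT q0 .a q := ⟨a_38, ac_38, rfl, h⟩
theorem j_39 (q : ℕ) (h : E_39 (UU_a q) q = true) : Just stp tau idx inv RW SW3 PT DT q0 .a q := ⟨a_39, ac_39, rfl, h⟩
theorem j_40 (q : ℕ) (h : E_40 (UU_a q) q = true) : Just stp tau idx inv RW SW3 PT DT q0 .a q := ⟨a_40, ac_40, rfl, h⟩
theorem j_41 (q : ℕ) (h : E_41 (UU_a q) q = true) : Just stp tau idx inv RW SW3 PT DT q0 .a q := ⟨a_41, ac_41, rfl, h⟩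
theorem j_42 (q : ℕ) (h : E_42 (UU_a q) q = true) : Just stp tau idx inv RW SW3 PT DT q0 .a q := ⟨a_42, ac_42, rfl, h⟩
theorem j_43 (q : ℕ) (h : E_43 (UU_a q) q = true) : Just stp tau idx inv RW SW3 PT DT q0 .a q := ⟨a_43, ac_43, rfl, h⟩
theorem j_44 (q : ℕ) (h : E_44 (UU_a q) q = true) : Just stp tau idx inv RW SW3 PT DT q0 .a q := ⟨a_44, ac_44, rfl, h⟩
theorem j_45 (q : ℕ) (h : E_45 (UU_a q) q = true) : Just stp tau idx inv RW SW3 PT DT q0 .a q := ⟨a_45, ac_45, rfl, h⟩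
theorem j_46 (q : ℕ) (h : E_46 (UU_a q) q = true) : Just stp tau idx inv RW SW3 PT DT q0 .a q := ⟨a_46, ac_46, rfl, h⟩
theorem j_47 (q : ℕ) (h : E_47 (UU_a q) q = true) : Just stp tau idx inv RW SW3 PT DT q0 .a q := ⟨a_47, ac_47, rfl, h⟩
theorem j_48 (q : ℕ) (h : E_48 (UU_b q) q = true) : Just stp tau idx inv RW SW3 PT DT q0 .b q := ⟨a_48, ac_48, rfl, h⟩
theorem j_49 (q : ℕ) (h : E_49 (UU_b q) q = true) : Just stp tau idx inv RW SW3 PT DT q0 .b q := ⟨a_49, ac_49, rfl, h⟩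
theorem j_50 (q : ℕ) (h : E_50 (UU_b q) q = true) : Just stp tau idx inv RW SW3 PT DT q0 .b q := ⟨a_50, ac_50, rfl, h⟩
theorem j_51 (q : ℕ) (h : E_51 (UU_b q) q = true) : Just stp tau idx inv RW SW3 PT DT q0 .b q := ⟨a_51, ac_51, rfl, h⟩
theorem j_52 (q : ℕ) (h : E_52 (UU_b q) q = true) : Just stp tau idx inv RW SW3 PT DT q0 .b q := ⟨a_52, ac_52, rfl, h⟩
theorem j_53 (q : ℕ) (h : E_53 (UU_b q) q = true) : Just stp tau idx inv RW SW3 PT DT q0 .b q := ⟨a_53, ac_53, rfl, h⟩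
theorem j_54 (q : ℕ) (h : E_54 (UU_b q) q = true) : Just stp tau idx inv RW SW3 PT DT q0 .b q := ⟨a_54, ac_54, rfl, h⟩
theorem j_55 (q : ℕ) (h : E_55 (UU_b q) q = true) : Just stp tau idx inv RW SW3 PT DT q0 .b q := ⟨a_55, ac_55, rfl, h⟩
theorem j_56 (q : ℕ) (h : E_56 (UU_b q) q = true) : Just stp tau idx inv RW SW3 PT DT q0 .b q := ⟨a_56, ac_56, rfl, h⟩
theorem j_57 (q : ℕ) (h : E_57 (UU_b q) q = true) : Just stp tau idx inv RW SW3 PT DT q0 .b q := ⟨a_57, ac_57, rfl, h⟩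
theorem j_58 (q : ℕ) (h : E_58 (UU_b q) q = true) : Just stp tau idx inv RW SW3 PT DT q0 .b q := ⟨a_58, ac_58, rfl, h⟩
theorem j_59 (q : ℕ) (h : E_59 (UU_b q) q = true) : Just stp tau idx inv RW SW3 PT DT q0 .b q := ⟨a_59, ac_59, rfl, h⟩
theorem j_60 (q : ℕ) (h : E_60 (UU_b q) q = true) : Just stp tau idx inv RW SW3 PT DT q0 .b q := ⟨a_60, ac_60, rfl, h⟩
theorem j_61 (q : ℕ) (h : E_61 (UU_b q) q = true) : Just stp tau idx inv RW SW3 PT DT q0 .b q := ⟨a_61, ac_61, rfl, h⟩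
theorem j_62 (q : ℕ) (h : E_62 (UU_b q) q = true) : Just stp tau idx inv RW SW3 PT DT q0 .b q := ⟨a_62, ac_62, rfl, h⟩
theorem j_63 (q : ℕ) (h : E_63 (UU_b q) q = true) : Just stp tau idx inv RW SW3 PT DT q0 .b q := ⟨a_63, ac_63, rfl, h⟩
theorem j_64 (q : ℕ) (h : E_64 (UU_c q) q = true) : Just stp tau idx inv RW SW3 PT DT q0 .c q := ⟨a_64, ac_64, rfl, h⟩
theorem j_65 (q : ℕ) (h : E_65 (UU_c q) q = true) : Just stp tau idx inv RW SW3 PT DT q0 .c q := ⟨a_65, ac_65, rfl, h⟩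
theorem j_66 (q : ℕ) (h : E_66 (UU_c q) q = true) : Just stp tau idx inv RW SW3 PT DT q0 .c q := ⟨a_66, ac_66, rfl, h⟩
theorem j_67 (q : ℕ) (h : E_67 (UU_c q) q = true) : Just stp tau idx inv RW SW3 PT DT q0 .c q := ⟨a_67, ac_67, rfl, h⟩
theorem j_68 (q : ℕ) (h : E_68 (UU_c q) q = true) : Just stp tau idx inv RW SW3 PT DT q0 .c q := ⟨a_68, ac_68, rfl, h⟩
theorem j_69 (q : ℕ) (h : E_69 (UU_c q) q = true) : Just stp tau idx inv RW SW3 PT DT q0 .c q := ⟨a_69, ac_69, rfl, h⟩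
theorem j_70 (q : ℕ) (h : E_70 (UU_c q) q = true) : Just stp tau idx inv RW SW3 PT DT q0 .c q := ⟨a_70, ac_70, rfl, h⟩
theorem j_71 (q : ℕ) (h : E_71 (UU_c q) q = true) : Just stp tau idx inv RW SW3 PT DT q0 .c q := ⟨a_71, ac_71, rfl, h⟩
theorem j_72 (q : ℕ) (h : E_72 (UU_c q) q = true) : Just stp tau idx inv RW SW3 PT DT q0 .c q := ⟨a_72, ac_72, rfl, h⟩
theorem j_73 (q : ℕ) (h : E_73 (UU_c q) q = true) : Just stp tau idx inv RW SW3 PT DT q0 .c q := ⟨a_73, ac_73, rfl, h⟩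
theorem j_74 (q : ℕ) (h : E_74 (UU_c q) q = true) : Just stp tau idx inv RW SW3 PT DT q0 .c q := ⟨a_74, ac_74, rfl, h⟩
theorem j_75 (q : ℕ) (h : E_75 (UU_c q) q = true) : Just stp tau idx inv RW SW3 PT DT q0 .c q := ⟨a_75, ac_75, rfl, h⟩
theorem j_76 (q : ℕ) (h : E_76 (UU_c q) q = true) : Just stp tau idx inv RW SW3 PT DT q0 .c q := ⟨a_76, ac_76, rfl, h⟩
theorem j_77 (q : ℕ) (h : E_77 (UU_c q) q = true) : Just stp tau idx inv RW SW3 PT DT q0 .c q := ⟨a_77, ac_77, rfl, h⟩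
theorem j_78 (q : ℕ) (h : E_78 (UU_c q) q = true) : Just stp tau idx inv RW SW3 PT DT q0 .c q := ⟨a_78, ac_78, rfl, h⟩
theorem j_79 (q : ℕ) (h : E_79 (UU_c q) q = true) : Just stp tau idx inv RW SW3 PT DT q0 .c q := ⟨a_79, ac_79, rfl, h⟩
theorem j_80 (q : ℕ) (h : E_80 (UU_c q) q = true) : Just stp tau idx inv RW SW3 PT DT q0 .c q := ⟨a_80, ac_80, rfl, h⟩
theorem j_81 (q : ℕ) (h : E_81 (UU_c q) q = true) : Just stp tau idx inv RW SW3 PT DT q0 .c q := ⟨a_81, ac_81, rfl, h⟩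
theorem j_82 (q : ℕ) (h : E_82 (UU_c q) q = true) : Just stp tau idx inv RW SW3 PT DT q0 .c q := ⟨a_82, ac_82, rfl, h⟩
theorem j_83 (q : ℕ) (h : E_83 (UU_c q) q = true) : Just stp tau idx inv RW SW3 PT DT q0 .c q := ⟨a_83, ac_83, rfl, h⟩
theorem j_84 (q : ℕ) (h : E_84 (UU_c q) q = true) : Just stp tau idx inv RW SW3 PT DT q0 .c q := ⟨a_84, ac_84, rfl, h⟩
theorem j_85 (q : ℕ) (h : E_85 (UU_c q) q = true) : Just stp tau idx inv RW SW3 PT DT q0 .c q := ⟨a_85, ac_85, rfl, h⟩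
theorem j_86 (q : ℕ) (h : E_86 (UU_c q) q = true) : Just stp tau idx inv RW SW3 PT DT q0 .c q := ⟨a_86, ac_86, rfl, h⟩
theorem j_87 (q : ℕ) (h : E_87 (UU_c q) q = true) : Just stp tau idx inv RW SW3 PT DT q0 .c q := ⟨a_87, ac_87, rfl, h⟩
theorem j_88 (q : ℕ) (h : E_88 (UU_c q) q = true) : Just stp tau idx inv RW SW3 PT DT q0 .c q := ⟨a_88, ac_88, rfl, h⟩
theorem j_89 (q : ℕ) (h : E_89 (UU_c q) q = true) : Just stp tau idx inv RW SW3 PT DT q0 .c q := ⟨a_89, ac_89, rfl, h⟩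
theorem j_90 (q : ℕ) (h : E_90 (UU_c q) q = true) : Just stp tau idx inv RW SW3 PT DT q0 .c q := ⟨a_90, ac_90, rfl, h⟩
theorem j_91 (q : ℕ) (h : E_91 (UU_c q) q = true) : Just stp tau idx inv RW SW3 PT DT q0 .c q := ⟨a_91, ac_91, rfl, h⟩
theorem j_92 (q : ℕ) (h : E_92 (UU_c q) q = true) : Just stp tau idx inv RW SW3 PT DT q0 .c q := ⟨a_92, ac_92, rfl, h⟩
theorem j_93 (q : ℕ) (h : E_93 (UU_c q) q = true) : Just stp tau idx inv RW SW3 PT DT q0 .c q := ⟨a_93, ac_93, rfl, h⟩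
theorem j_94 (q : ℕ) (h : E_94 (UU_c q) q = true) : Just stp tau idx inv RW SW3 PT DT q0 .c q := ⟨a_94, ac_94, rfl, h⟩
theorem j_95 (q : ℕ) (h : E_95 (UU_c q) q = true) : Just stp tau idx inv RW SW3 PT DT q0 .c q := ⟨a_95, ac_95, rfl, h⟩
theorem j_96 (q : ℕ) (h : E_96 (UU_c q) q = true) : Just stp tau idx inv RW SW3 PT DT q0 .c q := ⟨a_96, ac_96, rfl, h⟩
theorem j_97 (q : ℕ) (h : E_97 (UU_d q) q = true) : Just stp tau idx inv RW SW3 PT DT q0 .d q := ⟨a_97, ac_97, rfl, h⟩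
theorem j_98 (q : ℕ) (h : E_98 (UU_d q) q = true) : Just stp tau idx inv RW SW3 PT DT q0 .d q := ⟨a_98, ac_98, rfl, h⟩
theorem j_99 (q : ℕ) (h : E_99 (UU_d q) q = true) : Just stp tau idx inv RW SW3 PT DT q0 .d q := ⟨a_99, ac_99, rfl, h⟩
theorem j_100 (q : ℕ) (h : E_100 (UU_d q) q = true) : Just stp tau idx inv RW SW3 PT DT q0 .d q := ⟨a_100, ac_100, rfl, h⟩
theorem j_101 (q : ℕ) (h : E_101 (UU_d q) q = true) : Just stp tau idx inv RW SW3 PT DT q0 .d q := ⟨a_101, ac_101, rfl, h⟩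
theorem j_102 (q : ℕ) (h : E_102 (UU_d q) q = true) : Just stp tau idx inv RW SW3 PT DT q0 .d q := ⟨a_102, ac_102, rfl, h⟩
theorem j_103 (q : ℕ) (h : E_103 (UU_d q) q = true) : Just stp tau idx inv RW SW3 PT DT q0 .d q := ⟨a_103, ac_103, rfl, h⟩
theorem j_104 (q : ℕ) (h : E_104 (UU_d q) q = true) : Just stp tau idx inv RW SW3 PT DT q0 .d q := ⟨a_104, ac_104, rfl, h⟩
theorem j_105 (q : ℕ) (h : E_105 (UU_d q) q = true) : Just stp tau idx inv RW SW3 PT DT q0 .d q := ⟨a_105, ac_105, rfl, h⟩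
theorem j_106 (q : ℕ) (h : E_106 (UU_d q) q = true) : Just stp tau idx inv RW SW3 PT DT q0 .d q := ⟨a_106, ac_106, rfl, h⟩
theorem j_107 (q : ℕ) (h : E_107 (UU_d q) q = true) : Just stp tau idx inv RW SW3 PT DT q0 .d q := ⟨a_107, ac_107, rfl, h⟩
theorem j_108 (q : ℕ) (h : E_108 (UU_d q) q = true) : Just stp tau idx inv RW SW3 PT DT q0 .d q := ⟨a_108, ac_108, rfl, h⟩
theorem j_109 (q : ℕ) (h : E_109 (UU_d q) q = true) : Just stp tau idx inv RW SW3 PT DT q0 .d q := ⟨a_109, ac_109, rfl, h⟩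
theorem j_110 (q : ℕ) (h : E_110 (UU_d q) q = true) : Just stp tau idx inv RW SW3 PT DT q0 .d q := ⟨a_110, ac_110, rfl, h⟩
theorem j_111 (q : ℕ) (h : E_111 (UU_d q) q = true) : Just stp tau idx inv RW SW3 PT DT q0 .d q := ⟨a_111, ac_111, rfl, h⟩
theorem j_112 (q : ℕ) (h : E_112 (UU_d q) q = true) : Just stp tau idx inv RW SW3 PT DT q0 .d q := ⟨a_112, ac_112, rfl, h⟩
theorem j_113 (q : ℕ) (h : E_113 (UU_d q) q = true) : Just stp tau idx inv RW SW3 PT DT q0 .d q := ⟨a_113, ac_113, rfl, h⟩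
theorem j_114 (q : ℕ) (h : E_114 (UU_d q) q = true) : Just stp tau idx inv RW SW3 PT DT q0 .d q := ⟨a_114, ac_114, rfl, h⟩
theorem j_115 (q : ℕ) (h : E_115 (UU_d q) q = true) : Just stp tau idx inv RW SW3 PT DT q0 .d q := ⟨a_115, ac_115, rfl, h⟩
theorem j_116 (q : ℕ) (h : E_116 (UU_d q) q = true) : Just stp tau idx inv RW SW3 PT DT q0 .d q := ⟨a_116, ac_116, rfl, h⟩
theorem j_117 (q : ℕ) (h : E_117 (UU_d q) q = true) : Just stp tau idx inv RW SW3 PT DT q0 .d q := ⟨a_117, ac_117, rfl, h⟩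
theorem j_118 (q : ℕ) (h : E_118 (UU_d q) q = true) : Just stp tau idx inv RW SW3 PT DT q0 .d q := ⟨a_118, ac_118, rfl, h⟩
theorem j_119 (q : ℕ) (h : E_119 (UU_d q) q = true) : Just stp tau idx inv RW SW3 PT DT q0 .d q := ⟨a_119, ac_119, rfl, h⟩
theorem j_120 (q : ℕ) (h : E_120 (UU_d q) q = true) : Just stp tau idx inv RW SW3 PT DT q0 .d q := ⟨a_120, ac_120, rfl, h⟩
theorem j_121 (q : ℕ) (h : E_121 (UU_d q) q = true) : Just stp tau idx inv RW SW3 PT DT q0 .d q := ⟨a_121, ac_121, rfl, h⟩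
theorem j_122 (q : ℕ) (h : E_122 (UU_d q) q = true) : Just stp tau idx inv RW SW3 PT DT q0 .d q := ⟨a_122, ac_122, rfl, h⟩
theorem j_123 (q : ℕ) (h : E_123 (UU_d q) q = true) : Just stp tau idx inv RW SW3 PT DT q0 .d q := ⟨a_123, ac_123, rfl, h⟩
theorem j_124 (q : ℕ) (h : E_124 (UU_d q) q = true) : Just stp tau idx inv RW SW3 PT DT q0 .d q := ⟨a_124, ac_124, rfl, h⟩
theorem j_125 (q : ℕ) (h : E_125 (UU_d q) q = true) : Just stp tau idx inv RW SW3 PT DT q0 .d q := ⟨a_125, ac_125, rfl, h⟩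
theorem j_126 (q : ℕ) (h : E_126 (UU_d q) q = true) : Just stp tau idx inv RW SW3 PT DT q0 .d q := ⟨a_126, ac_126, rfl, h⟩
theorem j_127 (q : ℕ) (h : E_127 (UU_d q) q = true) : Just stp tau idx inv RW SW3 PT DT q0 .d q := ⟨a_127, ac_127, rfl, h⟩
theorem j_128 (q : ℕ) (h : E_128 (UU_d q) q = true) : Just stp tau idx inv RW SW3 PT DT q0 .d q := ⟨a_128, ac_128, rfl, h⟩
theorem j_129 (q : ℕ) (h : E_129 (UU_e q) q = true) : Just stp tau idx inv RW SW3 PT DT q0 .e q := ⟨a_129, ac_129, rfl, h⟩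
theorem j_130 (q : ℕ) (h : E_130 (UU_e q) q = true) : Just stp tau idx inv RW SW3 PT DT q0 .e q := ⟨a_130, ac_130, rfl, h⟩
theorem j_131 (q : ℕ) (h : E_131 (UU_e q) q = true) : Just stp tau idx inv RW SW3 PT DT q0 .e q := ⟨a_131, ac_131, rfl, h⟩
theorem j_132 (q : ℕ) (h : E_132 (UU_e q) q = true) : Just stp tau idx inv RW SW3 PT DT q0 .e q := ⟨a_132, ac_132, rfl, h⟩
theorem j_133 (q : ℕ) (h : E_133 (UU_e q) q = true) : Just stp tau idx inv RW SW3 PT DT q0 .e q := ⟨a_133, ac_133, rfl, h⟩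
theorem j_134 (q : ℕ) (h : E_134 (UU_e q) q = true) : Just stp tau idx inv RW SW3 PT DT q0 .e q := ⟨a_134, ac_134, rfl, h⟩
theorem j_135 (q : ℕ) (h : E_135 (UU_e q) q = true) : Just stp tau idx inv RW SW3 PT DT q0 .e q := ⟨a_135, ac_135, rfl, h⟩
theorem j_136 (q : ℕ) (h : E_136 (UU_e q) q = true) : Just stp tau idx inv RW SW3 PT DT q0 .e q := ⟨a_136, ac_136, rfl, h⟩
theorem j_137 (q : ℕ) (h : E_137 (UU_e q) q = true) : Just stp tau idx inv RW SW3 PT DT q0 .e q := ⟨a_137, ac_137, rfl, h⟩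
theorem j_138 (q : ℕ) (h : E_138 (UU_e q) q = true) : Just stp tau idx inv RW SW3 PT DT q0 .e q := ⟨a_138, ac_138, rfl, h⟩
theorem j_139 (q : ℕ) (h : E_139 (UU_e q) q = true) : Just stp tau idx inv RW SW3 PT DT q0 .e q := ⟨a_139, ac_139, rfl, h⟩
theorem j_140 (q : ℕ) (h : E_140 (UU_e q) q = true) : Just stp tau idx inv RW SW3 PT DT q0 .e q := ⟨a_140, ac_140, rfl, h⟩
theorem j_141 (q : ℕ) (h : E_141 (UU_e q) q = true) : Just stp tau idx inv RW SW3 PT DT q0 .e q := ⟨a_141, ac_141, rfl, h⟩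
theorem j_142 (q : ℕ) (h : E_142 (UU_e q) q = true) : Just stp tau idx inv RW SW3 PT DT q0 .e q := ⟨a_142, ac_142, rfl, h⟩
theorem j_143 (q : ℕ) (h : E_143 (UU_f q) q = true) : Just stp tau idx inv RW SW3 PT DT q0 .f q := ⟨a_143, ac_143, rfl, h⟩
theorem j_144 (q : ℕ) (h : E_144 (UU_f q) q = true) : Just stp tau idx inv RW SW3 PT DT q0 .f q := ⟨a_144, ac_144, rfl, h⟩
theorem j_145 (q : ℕ) (h : E_145 (UU_f q) q = true) : Just stp tau idx inv RW SW3 PT DT q0 .f q := ⟨a_145, ac_145, rfl, h⟩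
theorem j_146 (q : ℕ) (h : E_146 (UU_f q) q = true) : Just stp tau idx inv RW SW3 PT DT q0 .f q := ⟨a_146, ac_146, rfl, h⟩
theorem j_147 (q : ℕ) (h : E_147 (UU_f q) q = true) : Just stp tau idx inv RW SW3 PT DT q0 .f q := ⟨a_147, ac_147, rfl, h⟩
theorem j_148 (q : ℕ) (h : E_148 (UU_f q) q = true) : Just stp tau idx inv RW SW3 PT DT q0 .f q := ⟨a_148, ac_148, rfl, h⟩
theorem j_149 (q : ℕ) (h : E_149 (UU_f q) q = true) : Just stp tau idx inv RW SW3 PT DT q0 .f q := ⟨a_149, ac_149, rfl, h⟩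
theorem j_150 (q : ℕ) (h : E_150 (UU_f q) q = true) : Just stp tau idx inv RW SW3 PT DT q0 .f q := ⟨a_150, ac_150, rfl, h⟩
theorem j_151 (q : ℕ) (h : E_151 (UU_f q) q = true) : Just stp tau idx inv RW SW3 PT DT q0 .f q := ⟨a_151, ac_151, rfl, h⟩
theorem j_152 (q : ℕ) (h : E_152 (UU_f q) q = true) : Just stp tau idx inv RW SW3 PT DT q0 .f q := ⟨a_152, ac_152, rfl, h⟩
theorem j_153 (q : ℕ) (h : E_153 (UU_f q) q = true) : Just stp tau idx inv RW SW3 PT DT q0 .f q := ⟨a_153, ac_153, rfl, h⟩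
theorem jc_g (q : ℕ) (h : D_g q = true) : Just stp tau idx inv RW SW3 PT DT q0 .g q := (brec (brec (j_0 q) (j_1 q)) (brec (brec (brec (j_2 q) (brec (j_3 q) (j_4 q))) (brec (brec (j_5 q) (j_6 q)) (brec (j_7 q) (j_8 q)))) (brec (brec (brec (j_9 q) (j_10 q)) (brec (j_11 q) (j_12 q))) (brec (brec (j_13 q) (j_14 q)) (brec (j_15 q) (j_16 q)))))) h
theorem jc_gi (q : ℕ) (h : D_gi q = true) : Just stp tau idx inv RW SW3 PT DT q0 .gi q := (brec (brec (j_17 q) (j_18 q)) (brec (brec (brec (j_19 q) (brec (j_20 q) (j_21 q))) (brec (brec (j_22 q) (j_23 q)) (brec (j_24 q) (j_25 q)))) (brec (brec (brec (j_26 q) (j_27 q)) (brec (j_28 q) (j_29 q))) (brec (brec (j_30 q) (j_31 q)) (brec (j_32 q) (j_33 q)))))) h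
theorem jc_a (q : ℕ) (h : D_a q = true) : Just stp tau idx inv RW SW3 PT DT q0 .a q := (brec (brec (j_34 q) (j_35 q)) (brec (brec (brec (j_36 q) (brec (j_37 q) (j_38 q))) (brec (j_39 q) (brec (j_40 q) (j_41 q)))) (brec (brec (j_42 q) (brec (j_43 q) (j_44 q))) (brec (j_45 q) (brec (j_46 q) (j_47 q)))))) h
theorem jc_b (q : ℕ) (h : D_b q = true) : Just stp tau idx inv RW SW3 PT DT q0 .b q := (brec (brec (j_48 q) (j_49 q)) (brec (brec (brec (j_50 q) (brec (j_51 q) (j_52 q))) (brec (brec (j_53 q) (j_54 q)) (brec (j_55 q) (j_56 q)))) (brec (brec (j_57 q) (brec (j_58 q) (j_59 q))) (brec (brec (j_60 q) (j_61 q)) (brec (j_62 q) (j_63 q)))))) h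
theorem jc_c (q : ℕ) (h : D_c q = true) : Just stp tau idx inv RW SW3 PT DT q0 .c q := (brec (brec (j_64 q) (j_65 q)) (brec (brec (brec (brec (j_66 q) (brec (j_67 q) (j_68 q))) (brec (brec (j_69 q) (j_70 q)) (brec (j_71 q) (j_72 q)))) (brec (brec (brec (j_73 q) (j_74 q)) (brec (j_75 q) (j_76 q))) (brec (brec (j_77 q) (j_78 q)) (brec (j_79 q) (j_80 q))))) (brec (brec (brec (brec (j_81 q) (j_82 q)) (brec (j_83 q) (j_84 q))) (brec (brec (j_85 q) (j_86 q)) (brec (j_87 q) (j_88 q)))) (brec (brec (brec (j_89 q) (j_90 q)) (brec (j_91 q) (j_92 q))) (brec (brec (j_93 q) (j_94 q)) (brec (j_95 q) (j_96 q))))))) h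
theorem jc_d (q : ℕ) (h : D_d q = true) : Just stp tau idx inv RW SW3 PT DT q0 .d q := (brec (brec (j_97 q) (j_98 q)) (brec (brec (brec (brec (j_99 q) (brec (j_100 q) (j_101 q))) (brec (brec (j_102 q) (j_103 q)) (brec (j_104 q) (j_105 q)))) (brec (brec (brec (j_106 q) (j_107 q)) (brec (j_108 q) (j_109 q))) (brec (brec (j_110 q) (j_111 q)) (brec (j_112 q) (j_113 q))))) (brec (brec (brec (j_114 q) (brec (j_115 q) (j_116 q))) (brec (brec (j_117 q) (j_118 q)) (brec (j_119 q) (j_120 q)))) (brec (brec (brec (j_121 q) (j_122 q)) (brec (j_123 q) (j_124 q))) (brec (brec (j_125 q) (j_126 q)) (brec (j_127 q) (j_128 q))))))) h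
theorem jc_e (q : ℕ) (h : D_e q = true) : Just stp tau idx inv RW SW3 PT DT q0 .e q := (brec (brec (j_129 q) (j_130 q)) (brec (brec (brec (j_131 q) (brec (j_132 q) (j_133 q))) (brec (j_134 q) (brec (j_135 q) (j_136 q)))) (brec (brec (j_137 q) (brec (j_138 q) (j_139 q))) (brec (j_140 q) (brec (j_141 q) (j_142 q)))))) h
theorem jc_f (q : ℕ) (h : D_f q = true) : Just stp tau idx inv RW SW3 PT DT q0 .f q := (brec (brec (j_143 q) (j_144 q)) (brec (brec (brec (j_145 q) (j_146 q)) (brec (j_147 q) (j_148 q))) (brec (brec (j_149 q) (j_150 q)) (brec (j_151 q) (brec (j_152 q) (j_153 q)))))) h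
theorem hE : ∀ q ∈ L.toList, ∀ c, Just stp tau idx inv RW SW3 PT DT q0 c q := by
  intro q hq c
  cases c
  · exact jc_g q (cd_g q hq).2
  · exact jc_gi q (cd_gi q hq).2
  · exact jc_a q (cd_a q hq).2
  · exact jc_b q (cd_b q hq).2
  · exact jc_c q (cd_c q hq).2
  · exact jc_d q (cd_d q hq).2
  · exact jc_e q (cd_e q hq).2
  · exact jc_f q (cd_f q hq).2
theorem stp_g (q : ℕ) : stp Col.g q = F_g q := rfl
theorem stp_gi (q : ℕ) : stp Col.gi q = F_gi q := rfl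
theorem stp_a (q : ℕ) : stp Col.a q = F_a q := rfl
theorem stp_b (q : ℕ) : stp Col.b q = F_b q := rfl
theorem stp_c (q : ℕ) : stp Col.c q = F_c q := rfl
theorem stp_d (q : ℕ) : stp Col.d q = F_d q := rfl
theorem stp_e (q : ℕ) : stp Col.e q = F_e q := rfl
theorem stp_f (q : ℕ) : stp Col.f q = F_f q := rfl
theorem ru_0 (q : ℕ) : Rf_0 q = true ↔ Nat.beq ((F_a (F_a q))) q = true ∧ Nat.beq ((F_a (F_b (F_a (F_b (F_a (F_b q))))))) q = true ∧ Nat.beq ((F_a (F_c (F_a (F_c q))))) q = true ∧ Nat.beq ((F_a (F_d (F_a (F_d q))))) q = true ∧ Nat.beq ((F_a (F_e (F_a (F_e q))))) q = true ∧ Nat.beq ((F_a (F_f (F_a (F_f q))))) q = true ∧ Nat.beq ((F_b (F_b q))) q = true ∧ Nat.beq ((F_b (F_c (F_b (F_c (F_b (F_c q))))))) q = true ∧ Nat.beq ((F_b (F_d (F_b (F_d q))))) q = true ∧ Nat.beq ((F_b (F_e (F_b (F_e q))))) q = true ∧ Nat.beq ((F_b (F_f (F_b (F_f q))))) q = true ∧ Nat.beq ((F_c (F_c q))) q = true := by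
  unfold Rf_0
  simp only [bfalse_iff, and_true]
theorem rel_0 : relChk L stp [Col.a, Col.a] = true := by
  rw [relChk, Tr.all_iff]
  intro q hq
  have h := ((ru_0 q).1 ((Tr.all_iff _ _).1 re_0 q hq)).1
  simp only [walk_cons, walk_nil, stp_g, stp_gi, stp_a, stp_b, stp_c, stp_d, stp_e, stp_f]
  exact h
theorem rel_1 : relChk L stp [Col.b, Col.a, Col.b, Col.a, Col.b, Col.a] = true := by
  rw [relChk, Tr.all_iff]
  intro q hq
  have h := ((ru_0 q).1 ((Tr.all_iff _ _).1 re_0 q hq)).2.1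
  simp only [walk_cons, walk_nil, stp_g, stp_gi, stp_a, stp_b, stp_c, stp_d, stp_e, stp_f]
  exact h
theorem rel_2 : relChk L stp [Col.c, Col.a, Col.c, Col.a] = true := by
  rw [relChk, Tr.all_iff]
  intro q hq
  have h := ((ru_0 q).1 ((Tr.all_iff _ _).1 re_0 q hq)).2.2.1
  simp only [walk_cons, walk_nil, stp_g, stp_gi, stp_a, stp_b, stp_c, stp_d, stp_e, stp_f]
  exact h
theorem rel_3 : relChk L stp [Col.d, Col.a, Col.d, Col.a] = true := by
  rw [relChk, Tr.all_iff]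
  intro q hq
  have h := ((ru_0 q).1 ((Tr.all_iff _ _).1 re_0 q hq)).2.2.2.1
  simp only [walk_cons, walk_nil, stp_g, stp_gi, stp_a, stp_b, stp_c, stp_d, stp_e, stp_f]
  exact h
theorem rel_4 : relChk L stp [Col.e, Col.a, Col.e, Col.a] = true := by
  rw [relChk, Tr.all_iff]
  intro q hq
  have h := ((ru_0 q).1 ((Tr.all_iff _ _).1 re_0 q hq)).2.2.2.2.1
  simp only [walk_cons, walk_nil, stp_g, stp_gi, stp_a, stp_b, stp_c, stp_d, stp_e, stp_f]
  exact h
theorem rel_5 : relChk L stp [Col.f, Col.a, Col.f, Col.a] = true := by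
  rw [relChk, Tr.all_iff]
  intro q hq
  have h := ((ru_0 q).1 ((Tr.all_iff _ _).1 re_0 q hq)).2.2.2.2.2.1
  simp only [walk_cons, walk_nil, stp_g, stp_gi, stp_a, stp_b, stp_c, stp_d, stp_e, stp_f]
  exact h
theorem rel_6 : relChk L stp [Col.b, Col.b] = true := by
  rw [relChk, Tr.all_iff]
  intro q hq
  have h := ((ru_0 q).1 ((Tr.all_iff _ _).1 re_0 q hq)).2.2.2.2.2.2.1
  simp only [walk_cons, walk_nil, stp_g, stp_gi, stp_a, stp_b, stp_c, stp_d, stp_e, stp_f]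
  exact h
theorem rel_7 : relChk L stp [Col.c, Col.b, Col.c, Col.b, Col.c, Col.b] = true := by
  rw [relChk, Tr.all_iff]
  intro q hq
  have h := ((ru_0 q).1 ((Tr.all_iff _ _).1 re_0 q hq)).2.2.2.2.2.2.2.1
  simp only [walk_cons, walk_nil, stp_g, stp_gi, stp_a, stp_b, stp_c, stp_d, stp_e, stp_f]
  exact h
theorem rel_8 : relChk L stp [Col.d, Col.b, Col.d, Col.b] = true := by
  rw [relChk, Tr.all_iff]
  intro q hq
  have h := ((ru_0 q).1 ((Tr.all_iff _ _).1 re_0 q hq)).2.2.2.2.2.2.2.2.1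
  simp only [walk_cons, walk_nil, stp_g, stp_gi, stp_a, stp_b, stp_c, stp_d, stp_e, stp_f]
  exact h
theorem rel_9 : relChk L stp [Col.e, Col.b, Col.e, Col.b] = true := by
  rw [relChk, Tr.all_iff]
  intro q hq
  have h := ((ru_0 q).1 ((Tr.all_iff _ _).1 re_0 q hq)).2.2.2.2.2.2.2.2.2.1
  simp only [walk_cons, walk_nil, stp_g, stp_gi, stp_a, stp_b, stp_c, stp_d, stp_e, stp_f]
  exact h
theorem rel_10 : relChk L stp [Col.f, Col.b, Col.f, Col.b] = true := by
  rw [relChk, Tr.all_iff]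
  intro q hq
  have h := ((ru_0 q).1 ((Tr.all_iff _ _).1 re_0 q hq)).2.2.2.2.2.2.2.2.2.2.1
  simp only [walk_cons, walk_nil, stp_g, stp_gi, stp_a, stp_b, stp_c, stp_d, stp_e, stp_f]
  exact h
theorem rel_11 : relChk L stp [Col.c, Col.c] = true := by
  rw [relChk, Tr.all_iff]
  intro q hq
  have h := ((ru_0 q).1 ((Tr.all_iff _ _).1 re_0 q hq)).2.2.2.2.2.2.2.2.2.2.2
  simp only [walk_cons, walk_nil, stp_g, stp_gi, stp_a, stp_b, stp_c, stp_d, stp_e, stp_f]
  exact h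
theorem ru_1 (q : ℕ) : Rf_1 q = true ↔ Nat.beq ((F_c (F_d (F_c (F_d (F_c (F_d (F_c (F_d (F_c (F_d (F_c (F_d (F_c (F_d (F_c (F_d q))))))))))))))))) q = true ∧ Nat.beq ((F_c (F_e (F_c (F_e q))))) q = true ∧ Nat.beq ((F_c (F_f (F_c (F_f q))))) q = true ∧ Nat.beq ((F_d (F_d q))) q = true ∧ Nat.beq ((F_d (F_e (F_d (F_e (F_d (F_e q))))))) q = true ∧ Nat.beq ((F_d (F_f (F_d (F_f q))))) q = true ∧ Nat.beq ((F_e (F_e q))) q = true ∧ Nat.beq ((F_e (F_f (F_e (F_f (F_e (F_f q))))))) q = true ∧ Nat.beq ((F_f (F_f q))) q = true ∧ Nat.beq ((F_a (F_f (F_gi (F_gi q))))) q = true ∧ Nat.beq ((F_a (F_f (F_d (F_c (F_d (F_c (F_d (F_c (F_d (F_c q))))))))))) q = true := by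
  unfold Rf_1
  simp only [bfalse_iff, and_true]
theorem rel_12 : relChk L stp [Col.d, Col.c, Col.d, Col.c, Col.d, Col.c, Col.d, Col.c, Col.d, Col.c, Col.d, Col.c, Col.d, Col.c, Col.d, Col.c] = true := by
  rw [relChk, Tr.all_iff]
  intro q hq
  have h := ((ru_1 q).1 ((Tr.all_iff _ _).1 re_1 q hq)).1
  simp only [walk_cons, walk_nil, stp_g, stp_gi, stp_a, stp_b, stp_c, stp_d, stp_e, stp_f]
  exact h
theorem rel_13 : relChk L stp [Col.e, Col.c, Col.e, Col.c] = true := by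
  rw [relChk, Tr.all_iff]
  intro q hq
  have h := ((ru_1 q).1 ((Tr.all_iff _ _).1 re_1 q hq)).2.1
  simp only [walk_cons, walk_nil, stp_g, stp_gi, stp_a, stp_b, stp_c, stp_d, stp_e, stp_f]
  exact h
theorem rel_14 : relChk L stp [Col.f, Col.c, Col.f, Col.c] = true := by
  rw [relChk, Tr.all_iff]
  intro q hq
  have h := ((ru_1 q).1 ((Tr.all_iff _ _).1 re_1 q hq)).2.2.1
  simp only [walk_cons, walk_nil, stp_g, stp_gi, stp_a, stp_b, stp_c, stp_d, stp_e, stp_f]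
  exact h
theorem rel_15 : relChk L stp [Col.d, Col.d] = true := by
  rw [relChk, Tr.all_iff]
  intro q hq
  have h := ((ru_1 q).1 ((Tr.all_iff _ _).1 re_1 q hq)).2.2.2.1
  simp only [walk_cons, walk_nil, stp_g, stp_gi, stp_a, stp_b, stp_c, stp_d, stp_e, stp_f]
  exact h
theorem rel_16 : relChk L stp [Col.e, Col.d, Col.e, Col.d, Col.e, Col.d] = true := by
  rw [relChk, Tr.all_iff]
  intro q hq
  have h := ((ru_1 q).1 ((Tr.all_iff _ _).1 re_1 q hq)).2.2.2.2.1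
  simp only [walk_cons, walk_nil, stp_g, stp_gi, stp_a, stp_b, stp_c, stp_d, stp_e, stp_f]
  exact h
theorem rel_17 : relChk L stp [Col.f, Col.d, Col.f, Col.d] = true := by
  rw [relChk, Tr.all_iff]
  intro q hq
  have h := ((ru_1 q).1 ((Tr.all_iff _ _).1 re_1 q hq)).2.2.2.2.2.1
  simp only [walk_cons, walk_nil, stp_g, stp_gi, stp_a, stp_b, stp_c, stp_d, stp_e, stp_f]
  exact h
theorem rel_18 : relChk L stp [Col.e, Col.e] = true := by
  rw [relChk, Tr.all_iff]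
  intro q hq
  have h := ((ru_1 q).1 ((Tr.all_iff _ _).1 re_1 q hq)).2.2.2.2.2.2.1
  simp only [walk_cons, walk_nil, stp_g, stp_gi, stp_a, stp_b, stp_c, stp_d, stp_e, stp_f]
  exact h
theorem rel_19 : relChk L stp [Col.f, Col.e, Col.f, Col.e, Col.f, Col.e] = true := by
  rw [relChk, Tr.all_iff]
  intro q hq
  have h := ((ru_1 q).1 ((Tr.all_iff _ _).1 re_1 q hq)).2.2.2.2.2.2.2.1
  simp only [walk_cons, walk_nil, stp_g, stp_gi, stp_a, stp_b, stp_c, stp_d, stp_e, stp_f]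
  exact h
theorem rel_20 : relChk L stp [Col.f, Col.f] = true := by
  rw [relChk, Tr.all_iff]
  intro q hq
  have h := ((ru_1 q).1 ((Tr.all_iff _ _).1 re_1 q hq)).2.2.2.2.2.2.2.2.1
  simp only [walk_cons, walk_nil, stp_g, stp_gi, stp_a, stp_b, stp_c, stp_d, stp_e, stp_f]
  exact h
theorem rel_21 : relChk L stp [Col.gi, Col.gi, Col.f, Col.a] = true := by
  rw [relChk, Tr.all_iff]
  intro q hq
  have h := ((ru_1 q).1 ((Tr.all_iff _ _).1 re_1 q hq)).2.2.2.2.2.2.2.2.2.1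
  simp only [walk_cons, walk_nil, stp_g, stp_gi, stp_a, stp_b, stp_c, stp_d, stp_e, stp_f]
  exact h
theorem rel_22 : relChk L stp [Col.c, Col.d, Col.c, Col.d, Col.c, Col.d, Col.c, Col.d, Col.f, Col.a] = true := by
  rw [relChk, Tr.all_iff]
  intro q hq
  have h := ((ru_1 q).1 ((Tr.all_iff _ _).1 re_1 q hq)).2.2.2.2.2.2.2.2.2.2
  simp only [walk_cons, walk_nil, stp_g, stp_gi, stp_a, stp_b, stp_c, stp_d, stp_e, stp_f]
  exact h
theorem ru_2 (q : ℕ) : Rf_2 q = true ↔ Nat.beq ((F_c (F_gi (F_d (F_gi (F_d (F_c (F_d (F_g (F_d (F_g q))))))))))) q = true ∧ Nat.beq ((F_d (F_gi (F_c (F_gi (F_c (F_d (F_c (F_g (F_c (F_g q))))))))))) q = true ∧ Nat.beq ((F_b (F_c (F_d (F_g (F_b (F_c (F_d (F_g (F_b (F_c (F_d (F_g (F_b (F_c (F_d (F_g (F_b (F_c (F_d (F_g q))))))))))))))))))))) q = true ∧ Nat.beq ((F_g (F_b (F_c (F_g (F_c (F_b (F_g (F_b (F_c (F_g (F_c q)))))))))))) q = true := by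
  unfold Rf_2
  simp only [bfalse_iff, and_true]
theorem rel_23 : relChk L stp [Col.g, Col.d, Col.g, Col.d, Col.c, Col.d, Col.gi, Col.d, Col.gi, Col.c] = true := by
  rw [relChk, Tr.all_iff]
  intro q hq
  have h := ((ru_2 q).1 ((Tr.all_iff _ _).1 re_2 q hq)).1
  simp only [walk_cons, walk_nil, stp_g, stp_gi, stp_a, stp_b, stp_c, stp_d, stp_e, stp_f]
  exact h
theorem rel_24 : relChk L stp [Col.g, Col.c, Col.g, Col.c, Col.d, Col.c, Col.gi, Col.c, Col.gi, Col.d] = true := by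
  rw [relChk, Tr.all_iff]
  intro q hq
  have h := ((ru_2 q).1 ((Tr.all_iff _ _).1 re_2 q hq)).2.1
  simp only [walk_cons, walk_nil, stp_g, stp_gi, stp_a, stp_b, stp_c, stp_d, stp_e, stp_f]
  exact h
theorem rel_25 : relChk L stp [Col.g, Col.d, Col.c, Col.b, Col.g, Col.d, Col.c, Col.b, Col.g, Col.d, Col.c, Col.b, Col.g, Col.d, Col.c, Col.b, Col.g, Col.d, Col.c, Col.b] = true := by
  rw [relChk, Tr.all_iff]
  intro q hq
  have h := ((ru_2 q).1 ((Tr.all_iff _ _).1 re_2 q hq)).2.2.1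
  simp only [walk_cons, walk_nil, stp_g, stp_gi, stp_a, stp_b, stp_c, stp_d, stp_e, stp_f]
  exact h
theorem rel_26 : relChk L stp [Col.c, Col.g, Col.c, Col.b, Col.g, Col.b, Col.c, Col.g, Col.c, Col.b, Col.g] = true := by
  rw [relChk, Tr.all_iff]
  intro q hq
  have h := ((ru_2 q).1 ((Tr.all_iff _ _).1 re_2 q hq)).2.2.2
  simp only [walk_cons, walk_nil, stp_g, stp_gi, stp_a, stp_b, stp_c, stp_d, stp_e, stp_f]
  exact h
theorem ru_3 (q : ℕ) : Rf_3 q = true ↔ Nat.beq ((F_g (F_e (F_d (F_g (F_d (F_e (F_g (F_e (F_d (F_g (F_d q)))))))))))) q = true := by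
  unfold Rf_3
  simp only [bfalse_iff, and_true]
theorem rel_27 : relChk L stp [Col.d, Col.g, Col.d, Col.e, Col.g, Col.e, Col.d, Col.g, Col.d, Col.e, Col.g] = true := by
  rw [relChk, Tr.all_iff]
  intro q hq
  have h := ((ru_3 q).1 ((Tr.all_iff _ _).1 re_3 q hq))
  simp only [walk_cons, walk_nil, stp_g, stp_gi, stp_a, stp_b, stp_c, stp_d, stp_e, stp_f]
  exact h
attribute [local irreducible] L stp tau PT DT
theorem closure_thm {G X : Type*} [Group G] [MulAction G X] (g : Col → G) (x0 : X) (hinv : ∀ c, g (inv c) = (g c)⁻¹)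
    (hRW : ∀ w ∈ RW, gw g w = 1) (hSW : ∀ w ∈ SW0, gw g w • x0 = x0) :
    ∃ f : ℕ → X, f q0 = x0 ∧ ∀ q ∈ L.toList, ∀ c, g c • f q = f (stp c q) := by
  have hSW1 : ∀ w ∈ SW1, gw g w • x0 = x0 := by
    have h := mini0_fix g x0 hinv hRW hSW
    intro w hw; unfold SW1 at hw; rw [List.mem_append, List.mem_singleton] at hw
    rcases hw with hw | rfl
    · exact hSW w hw
    · exact h
  have hSW2 : ∀ w ∈ SW2, gw g w • x0 = x0 := by
    have h := mini1_fix g x0 hinv hRW hSW1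
    intro w hw; unfold SW2 at hw; rw [List.mem_append, List.mem_singleton] at hw
    rcases hw with hw | rfl
    · exact hSW1 w hw
    · exact h
  have hSW3 : ∀ w ∈ SW3, gw g w • x0 = x0 := by
    have h := mini2_fix g x0 hinv hRW hSW2
    intro w hw; unfold SW3 at hw; rw [List.mem_append, List.mem_singleton] at hw
    rcases hw with hw | rfl
    · exact hSW2 w hw
    · exact h
  exact closure_sound2 g x0 dec hdec hinv hRW hSW3 closed.mem pos q0_mem hz hE
theorem perm_RW : ∀ w ∈ RW, gw closed.perm w = 1 := by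
  intro w hw
  simp only [RW, List.mem_cons, List.not_mem_nil, or_false] at hw
  rcases hw with rfl | rfl | rfl | rfl | rfl | rfl | rfl | rfl | rfl | rfl | rfl | rfl | rfl | rfl | rfl | rfl | rfl | rfl | rfl | rfl | rfl | rfl | rfl | rfl | rfl | rfl | rfl | rfl | rfl | rfl
  · exact closed.gw_eq_one rel_0
  · exact closed.gw_eq_one rel_1
  · exact closed.gw_eq_one rel_2
  · exact closed.gw_eq_one rel_3
  · exact closed.gw_eq_one rel_4
  · exact closed.gw_eq_one rel_5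
  · exact closed.gw_eq_one rel_6
  · exact closed.gw_eq_one rel_7
  · exact closed.gw_eq_one rel_8
  · exact closed.gw_eq_one rel_9
  · exact closed.gw_eq_one rel_10
  · exact closed.gw_eq_one rel_11
  · exact closed.gw_eq_one rel_12
  · exact closed.gw_eq_one rel_13
  · exact closed.gw_eq_one rel_14
  · exact closed.gw_eq_one rel_15
  · exact closed.gw_eq_one rel_16
  · exact closed.gw_eq_one rel_17
  · exact closed.gw_eq_one rel_18
  · exact closed.gw_eq_one rel_19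
  · exact closed.gw_eq_one rel_20
  · exact closed.gw_eq_one rel_21
  · exact closed.gw_eq_one rel_22
  · exact closed.gw_eq_one rel_23
  · exact closed.gw_eq_one rel_24
  · exact closed.gw_eq_one rel_25
  · exact closed.gw_eq_one rel_26
  · exact closed.gw_eq_one rel_27
  · rw [gw_cons, gw_cons, gw_nil, one_mul]; exact closed.perm_mul_inv _ _ rfl
  · rw [gw_cons, gw_cons, gw_nil, one_mul]; exact closed.perm_mul_inv _ _ rfl
universe u
/-- upper bound for a relative index -/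
theorem rel_upper {G : Type u} [Group G] (g : Col → G) (hinv : ∀ c, g (inv c) = (g c)⁻¹)
    (hRW : ∀ w ∈ RW, gw g w = 1) (H : Subgroup G) (hSW : ∀ w ∈ SW0, gw g w ∈ H) :
    H.relIndex (genBy g) ≠ 0 ∧ H.relIndex (genBy g) ≤ 122760 := by
  rw [← size_L]
  exact relIndex_of_closure closed.mem q0_mem g hinv hRW H hSW (fun X _ x0 h1 h2 h3 => closure_thm (liftGen g) x0 h1 h2 h3)
/-- the permutation representation -/
noncomputable def φ : ON →* Equiv.Perm (Om L) :=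
  homOf (sat_of_rwx (col := col) (inv := inv) h2 h3 closed.perm closed.perm_inv TV (by rw [rw_eq]; exact perm_RW))
theorem φ_P : ∀ c, φ (P c) = closed.perm c := by
  have h : ∀ x : ON.Gen, φ (PresentedGroup.of x) = closed.perm (col x) := fun x => homOf_of _ x
  intro c
  cases c
  · exact h .g
  · show φ ((P Col.g)⁻¹) = closed.perm (inv Col.g)
    rw [map_inv, closed.perm_inv]; exact congrArg (·⁻¹) (h .g)
  · exact h .a
  · exact h .b
  · exact h .c
  · exact h .d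
  · exact h .e
  · exact h .f
/-- the subgroup -/
abbrev H : Subgroup ON := presSub ON.edges ON.extra HX
theorem H_eq : H = Subgroup.closure {x | ∃ w ∈ SW0, gw P w = x} := presSub_eq HX P P_inv P_col sw_eq
theorem H_SW : ∀ w ∈ SW0, gw P w ∈ H := fun w hw => by rw [H_eq]; exact Subgroup.subset_closure ⟨w, hw, rfl⟩
theorem main : H.index = 122760 ∧ (∀ x, φ x ⟨q0, q0_mem⟩ = ⟨q0, q0_mem⟩ ↔ x ∈ H) ∧ (∀ q : Om L, ∃ x, φ x ⟨q0, q0_mem⟩ = q) := by
  rw [← size_L]
  exact index_main closed nodup q0_mem trans P P_top φ φ_P H (le_of_eq H_eq) H_SW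
    (fun w hw => Nat.eq_of_beq_eq_true ((lall_iff (fun w => Nat.beq (walk stp w q0) q0) SW0).1 (by decide +kernel) w hw))
    (fun h => closure_thm P _ P_inv P_RW h)
end CfsgLib.TCON
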