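import Cfsg.Agent.EqBase
import Cfsg.Agent.LibTCONCD
set_option autoImplicit false
set_option linter.all false
set_option maxRecDepth 1000000
set_option maxHeartbeats 0
namespace CfsgLib.TCON.Chain
open CfsgLib.TC Cfsg.Spor CfsgLib.TCG_ON CfsgLib.TCON
theorem tree0_0 : Tr.all (treeR mt wl0 HP0 HR0 HW0 (nat_lit 2097169)) L_0 = true := by decide +kernel
theorem tree0_3 : Tr.all (treeR mt wl0 HP0 HR0 HW0 (nat_lit 2097169)) L_3 = true := by decide +kernel
theorem tree0_6 : Tr.all (treeR mt wl0 HP0 HR0 HW0 (nat_lit 2097169)) L_6 = true := by decide +kernel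
theorem tree0_9 : Tr.all (treeR mt wl0 HP0 HR0 HW0 (nat_lit 2097169)) L_9 = true := by decide +kernel
theorem tree0_12 : Tr.all (treeR mt wl0 HP0 HR0 HW0 (nat_lit 2097169)) L_12 = true := by decide +kernel
theorem tree0_15 : Tr.all (treeR mt wl0 HP0 HR0 HW0 (nat_lit 2097169)) L_15 = true := by decide +kernel
theorem tree0_18 : Tr.all (treeR mt wl0 HP0 HR0 HW0 (nat_lit 2097169)) L_18 = true := by decide +kernel
theorem tree0_21 : Tr.all (treeR mt wl0 HP0 HR0 HW0 (nat_lit 2097169)) L_21 = true := by decide +kernel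
theorem tree0_24 : Tr.all (treeR mt wl0 HP0 HR0 HW0 (nat_lit 2097169)) L_24 = true := by decide +kernel
theorem tree0_27 : Tr.all (treeR mt wl0 HP0 HR0 HW0 (nat_lit 2097169)) L_27 = true := by decide +kernel
theorem tree1_28 : Tr.all (treeR mt wl1 HP1 HR1 HW1 (nat_lit 2097211)) L_28 = true := by decide +kernel
theorem tree1_24 : Tr.all (treeR mt wl1 HP1 HR1 HW1 (nat_lit 2097211)) L_24 = true := by decide +kernel
theorem tree1_22 : Tr.all (treeR mt wl1 HP1 HR1 HW1 (nat_lit 2097211)) L_22 = true := by decide +kernel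
theorem tree1_20 : Tr.all (treeR mt wl1 HP1 HR1 HW1 (nat_lit 2097211)) L_20 = true := by decide +kernel
theorem tree1_17 : Tr.all (treeR mt wl1 HP1 HR1 HW1 (nat_lit 2097211)) L_17 = true := by decide +kernel
theorem tree1_8 : Tr.all (treeR mt wl1 HP1 HR1 HW1 (nat_lit 2097211)) L_8 = true := by decide +kernel
theorem tree1_5 : Tr.all (treeR mt wl1 HP1 HR1 HW1 (nat_lit 2097211)) L_5 = true := by decide +kernel
theorem tree1_10 : Tr.all (treeR mt wl1 HP1 HR1 HW1 (nat_lit 2097211)) L_10 = true := by decide +kernel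
theorem tree1_4 : Tr.all (treeR mt wl1 HP1 HR1 HW1 (nat_lit 2097211)) L_4 = true := by decide +kernel
theorem tree1_9 : Tr.all (treeR mt wl1 HP1 HR1 HW1 (nat_lit 2097211)) L_9 = true := by decide +kernel
theorem tree2_0 : Tr.all (treeR mt wl2 HP2 HR2 HW2 (nat_lit 2097617)) L_0 = true := by decide +kernel
theorem tree2_13 : Tr.all (treeR mt wl2 HP2 HR2 HW2 (nat_lit 2097617)) L_13 = true := by decide +kernel
theorem tree2_8 : Tr.all (treeR mt wl2 HP2 HR2 HW2 (nat_lit 2097617)) L_8 = true := by decide +kernel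
theorem tree2_1 : Tr.all (treeR mt wl2 HP2 HR2 HW2 (nat_lit 2097617)) L_1 = true := by decide +kernel
theorem tree2_7 : Tr.all (treeR mt wl2 HP2 HR2 HW2 (nat_lit 2097617)) L_7 = true := by decide +kernel
theorem tree2_14 : Tr.all (treeR mt wl2 HP2 HR2 HW2 (nat_lit 2097617)) L_14 = true := by decide +kernel
theorem z0_0 : cnt HR0 0 L_0 = 0 := by decide +kernel
theorem z0_3 : cnt HR0 0 L_3 = 0 := by decide +kernel
theorem z0_6 : cnt HR0 0 L_6 = 0 := by decide +kernel
theorem z0_9 : cnt HR0 0 L_9 = 0 := by decide +kernel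
theorem z0_12 : cnt HR0 0 L_12 = 0 := by decide +kernel
theorem z0_15 : cnt HR0 0 L_15 = 0 := by decide +kernel
theorem z0_18 : cnt HR0 0 L_18 = 0 := by decide +kernel
theorem z0_21 : cnt HR0 0 L_21 = 0 := by decide +kernel
theorem z0_24 : cnt HR0 0 L_24 = 0 := by decide +kernel
theorem z0_27 : cnt HR0 0 L_27 = 0 := by decide +kernel
theorem z1_1 : cnt HR1 0 L_1 = 2334 := by decide +kernel
theorem z1_4 : cnt HR1 0 L_4 = 2383 := by decide +kernel
theorem z1_7 : cnt HR1 0 L_7 = 2270 := by decide +kernel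
theorem z1_10 : cnt HR1 0 L_10 = 2281 := by decide +kernel
theorem z1_13 : cnt HR1 0 L_13 = 2149 := by decide +kernel
theorem z1_16 : cnt HR1 0 L_16 = 2200 := by decide +kernel
theorem z1_19 : cnt HR1 0 L_19 = 2146 := by decide +kernel
theorem z1_22 : cnt HR1 0 L_22 = 2065 := by decide +kernel
theorem z1_25 : cnt HR1 0 L_25 = 1949 := by decide +kernel
theorem z1_28 : cnt HR1 0 L_28 = 1659 := by decide +kernel
theorem z2_2 : cnt HR2 0 L_2 = 4095 := by decide +kernel
theorem z2_5 : cnt HR2 0 L_5 = 4090 := by decide +kernel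
theorem z2_8 : cnt HR2 0 L_8 = 4094 := by decide +kernel
theorem z2_11 : cnt HR2 0 L_11 = 4095 := by decide +kernel
theorem z2_14 : cnt HR2 0 L_14 = 4095 := by decide +kernel
theorem z2_16 : cnt HR2 0 L_16 = 4093 := by decide +kernel
theorem z2_19 : cnt HR2 0 L_19 = 4094 := by decide +kernel
theorem z2_21 : cnt HR2 0 L_21 = 4096 := by decide +kernel
theorem tree2_23 : Tr.all (treeR mt wl2 HP2 HR2 HW2 (nat_lit 2097617)) L_23 = true := by decide +kernel
theorem z2_24 : cnt HR2 0 L_24 = 4096 := by decide +kernel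
theorem tree2_26 : Tr.all (treeR mt wl2 HP2 HR2 HW2 (nat_lit 2097617)) L_26 = true := by decide +kernel
theorem z2_27 : cnt HR2 0 L_27 = 4096 := by decide +kernel
theorem z0_29 : cnt HR0 0 L_29 = 0 := by decide +kernel
theorem z1_29 : cnt HR1 0 L_29 = 1358 := by decide +kernel
end CfsgLib.TCON.Chain
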