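import Cfsg.Agent.EqBase
import Cfsg.Agent.LibTCONCD
set_option autoImplicit false
set_option linter.all false
set_option maxRecDepth 1000000
set_option maxHeartbeats 0
namespace CfsgLib.TCON.Chain
open CfsgLib.TC Cfsg.Spor CfsgLib.TCG_ON CfsgLib.TCON
theorem tree0_1 : Tr.all (treeR mt wl0 HP0 HR0 HW0 (nat_lit 2097169)) L_1 = true := by decide +kernel
theorem tree0_4 : Tr.all (treeR mt wl0 HP0 HR0 HW0 (nat_lit 2097169)) L_4 = true := by decide +kernel
theorem tree0_7 : Tr.all (treeR mt wl0 HP0 HR0 HW0 (nat_lit 2097169)) L_7 = true := by decide +kernel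
theorem tree0_10 : Tr.all (treeR mt wl0 HP0 HR0 HW0 (nat_lit 2097169)) L_10 = true := by decide +kernel
theorem tree0_13 : Tr.all (treeR mt wl0 HP0 HR0 HW0 (nat_lit 2097169)) L_13 = true := by decide +kernel
theorem tree0_16 : Tr.all (treeR mt wl0 HP0 HR0 HW0 (nat_lit 2097169)) L_16 = true := by decide +kernel
theorem tree0_19 : Tr.all (treeR mt wl0 HP0 HR0 HW0 (nat_lit 2097169)) L_19 = true := by decide +kernel
theorem tree0_22 : Tr.all (treeR mt wl0 HP0 HR0 HW0 (nat_lit 2097169)) L_22 = true := by decide +kernel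
theorem tree0_25 : Tr.all (treeR mt wl0 HP0 HR0 HW0 (nat_lit 2097169)) L_25 = true := by decide +kernel
theorem tree0_28 : Tr.all (treeR mt wl0 HP0 HR0 HW0 (nat_lit 2097169)) L_28 = true := by decide +kernel
theorem tree1_27 : Tr.all (treeR mt wl1 HP1 HR1 HW1 (nat_lit 2097211)) L_27 = true := by decide +kernel
theorem tree1_26 : Tr.all (treeR mt wl1 HP1 HR1 HW1 (nat_lit 2097211)) L_26 = true := by decide +kernel
theorem tree1_23 : Tr.all (treeR mt wl1 HP1 HR1 HW1 (nat_lit 2097211)) L_23 = true := by decide +kernel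
theorem tree1_14 : Tr.all (treeR mt wl1 HP1 HR1 HW1 (nat_lit 2097211)) L_14 = true := by decide +kernel
theorem tree1_19 : Tr.all (treeR mt wl1 HP1 HR1 HW1 (nat_lit 2097211)) L_19 = true := by decide +kernel
theorem tree1_15 : Tr.all (treeR mt wl1 HP1 HR1 HW1 (nat_lit 2097211)) L_15 = true := by decide +kernel
theorem tree1_7 : Tr.all (treeR mt wl1 HP1 HR1 HW1 (nat_lit 2097211)) L_7 = true := by decide +kernel
theorem tree1_18 : Tr.all (treeR mt wl1 HP1 HR1 HW1 (nat_lit 2097211)) L_18 = true := by decide +kernel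
theorem tree1_1 : Tr.all (treeR mt wl1 HP1 HR1 HW1 (nat_lit 2097211)) L_1 = true := by decide +kernel
theorem tree1_3 : Tr.all (treeR mt wl1 HP1 HR1 HW1 (nat_lit 2097211)) L_3 = true := by decide +kernel
theorem tree2_10 : Tr.all (treeR mt wl2 HP2 HR2 HW2 (nat_lit 2097617)) L_10 = true := by decide +kernel
theorem tree2_9 : Tr.all (treeR mt wl2 HP2 HR2 HW2 (nat_lit 2097617)) L_9 = true := by decide +kernel
theorem tree2_16 : Tr.all (treeR mt wl2 HP2 HR2 HW2 (nat_lit 2097617)) L_16 = true := by decide +kernel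
theorem tree2_19 : Tr.all (treeR mt wl2 HP2 HR2 HW2 (nat_lit 2097617)) L_19 = true := by decide +kernel
theorem tree2_2 : Tr.all (treeR mt wl2 HP2 HR2 HW2 (nat_lit 2097617)) L_2 = true := by decide +kernel
theorem tree2_11 : Tr.all (treeR mt wl2 HP2 HR2 HW2 (nat_lit 2097617)) L_11 = true := by decide +kernel
theorem tree2_17 : Tr.all (treeR mt wl2 HP2 HR2 HW2 (nat_lit 2097617)) L_17 = true := by decide +kernel
theorem z0_1 : cnt HR0 0 L_1 = 0 := by decide +kernel
theorem z0_4 : cnt HR0 0 L_4 = 0 := by decide +kernel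
theorem z0_7 : cnt HR0 0 L_7 = 0 := by decide +kernel
theorem z0_10 : cnt HR0 0 L_10 = 0 := by decide +kernel
theorem z0_13 : cnt HR0 0 L_13 = 0 := by decide +kernel
theorem z0_16 : cnt HR0 0 L_16 = 0 := by decide +kernel
theorem z0_19 : cnt HR0 0 L_19 = 0 := by decide +kernel
theorem z0_22 : cnt HR0 0 L_22 = 0 := by decide +kernel
theorem z0_25 : cnt HR0 0 L_25 = 0 := by decide +kernel
theorem z0_28 : cnt HR0 0 L_28 = 0 := by decide +kernel
theorem z1_2 : cnt HR1 0 L_2 = 2304 := by decide +kernel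
theorem z1_5 : cnt HR1 0 L_5 = 2264 := by decide +kernel
theorem z1_8 : cnt HR1 0 L_8 = 2246 := by decide +kernel
theorem z1_11 : cnt HR1 0 L_11 = 2349 := by decide +kernel
theorem z1_14 : cnt HR1 0 L_14 = 2101 := by decide +kernel
theorem z1_17 : cnt HR1 0 L_17 = 2155 := by decide +kernel
theorem z1_20 : cnt HR1 0 L_20 = 2127 := by decide +kernel
theorem z1_23 : cnt HR1 0 L_23 = 1978 := by decide +kernel
theorem z1_26 : cnt HR1 0 L_26 = 1931 := by decide +kernel
theorem z2_0 : cnt HR2 0 L_0 = 4073 := by decide +kernel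
theorem z2_3 : cnt HR2 0 L_3 = 4095 := by decide +kernel
theorem z2_6 : cnt HR2 0 L_6 = 4093 := by decide +kernel
theorem z2_9 : cnt HR2 0 L_9 = 4092 := by decide +kernel
theorem z2_12 : cnt HR2 0 L_12 = 4095 := by decide +kernel
theorem tree2_15 : Tr.all (treeR mt wl2 HP2 HR2 HW2 (nat_lit 2097617)) L_15 = true := by decide +kernel
theorem z2_17 : cnt HR2 0 L_17 = 4095 := by decide +kernel
theorem z2_20 : cnt HR2 0 L_20 = 4094 := by decide +kernel
theorem tree2_22 : Tr.all (treeR mt wl2 HP2 HR2 HW2 (nat_lit 2097617)) L_22 = true := by decide +kernel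
theorem z2_23 : cnt HR2 0 L_23 = 4096 := by decide +kernel
theorem tree2_25 : Tr.all (treeR mt wl2 HP2 HR2 HW2 (nat_lit 2097617)) L_25 = true := by decide +kernel
theorem z2_26 : cnt HR2 0 L_26 = 4096 := by decide +kernel
theorem tree2_28 : Tr.all (treeR mt wl2 HP2 HR2 HW2 (nat_lit 2097617)) L_28 = true := by decide +kernel
theorem tree2_29 : Tr.all (treeR mt wl2 HP2 HR2 HW2 (nat_lit 2097617)) L_29 = true := by decide +kernel
end CfsgLib.TCON.Chain
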