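import Cfsg.Agent.EqBase
import Cfsg.Agent.LibTCONCD
set_option autoImplicit false
set_option linter.all false
set_option maxRecDepth 1000000
set_option maxHeartbeats 0
namespace CfsgLib.TCON.Chain
open CfsgLib.TC Cfsg.Spor CfsgLib.TCG_ON CfsgLib.TCON
theorem tree0_2 : Tr.all (treeR mt wl0 HP0 HR0 HW0 (nat_lit 2097169)) L_2 = true := by decide +kernel
theorem tree0_5 : Tr.all (treeR mt wl0 HP0 HR0 HW0 (nat_lit 2097169)) L_5 = true := by decide +kernel
theorem tree0_8 : Tr.all (treeR mt wl0 HP0 HR0 HW0 (nat_lit 2097169)) L_8 = true := by decide +kernel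
theorem tree0_11 : Tr.all (treeR mt wl0 HP0 HR0 HW0 (nat_lit 2097169)) L_11 = true := by decide +kernel
theorem tree0_14 : Tr.all (treeR mt wl0 HP0 HR0 HW0 (nat_lit 2097169)) L_14 = true := by decide +kernel
theorem tree0_17 : Tr.all (treeR mt wl0 HP0 HR0 HW0 (nat_lit 2097169)) L_17 = true := by decide +kernel
theorem tree0_20 : Tr.all (treeR mt wl0 HP0 HR0 HW0 (nat_lit 2097169)) L_20 = true := by decide +kernel
theorem tree0_23 : Tr.all (treeR mt wl0 HP0 HR0 HW0 (nat_lit 2097169)) L_23 = true := by decide +kernel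
theorem tree0_26 : Tr.all (treeR mt wl0 HP0 HR0 HW0 (nat_lit 2097169)) L_26 = true := by decide +kernel
theorem tree0_29 : Tr.all (treeR mt wl0 HP0 HR0 HW0 (nat_lit 2097169)) L_29 = true := by decide +kernel
theorem tree1_29 : Tr.all (treeR mt wl1 HP1 HR1 HW1 (nat_lit 2097211)) L_29 = true := by decide +kernel
theorem tree1_25 : Tr.all (treeR mt wl1 HP1 HR1 HW1 (nat_lit 2097211)) L_25 = true := by decide +kernel
theorem tree1_21 : Tr.all (treeR mt wl1 HP1 HR1 HW1 (nat_lit 2097211)) L_21 = true := by decide +kernel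
theorem tree1_0 : Tr.all (treeR mt wl1 HP1 HR1 HW1 (nat_lit 2097211)) L_0 = true := by decide +kernel
theorem tree1_13 : Tr.all (treeR mt wl1 HP1 HR1 HW1 (nat_lit 2097211)) L_13 = true := by decide +kernel
theorem tree1_16 : Tr.all (treeR mt wl1 HP1 HR1 HW1 (nat_lit 2097211)) L_16 = true := by decide +kernel
theorem tree1_12 : Tr.all (treeR mt wl1 HP1 HR1 HW1 (nat_lit 2097211)) L_12 = true := by decide +kernel
theorem tree1_2 : Tr.all (treeR mt wl1 HP1 HR1 HW1 (nat_lit 2097211)) L_2 = true := by decide +kernel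
theorem tree1_11 : Tr.all (treeR mt wl1 HP1 HR1 HW1 (nat_lit 2097211)) L_11 = true := by decide +kernel
theorem tree1_6 : Tr.all (treeR mt wl1 HP1 HR1 HW1 (nat_lit 2097211)) L_6 = true := by decide +kernel
theorem tree2_5 : Tr.all (treeR mt wl2 HP2 HR2 HW2 (nat_lit 2097617)) L_5 = true := by decide +kernel
theorem tree2_6 : Tr.all (treeR mt wl2 HP2 HR2 HW2 (nat_lit 2097617)) L_6 = true := by decide +kernel
theorem tree2_4 : Tr.all (treeR mt wl2 HP2 HR2 HW2 (nat_lit 2097617)) L_4 = true := by decide +kernel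
theorem tree2_20 : Tr.all (treeR mt wl2 HP2 HR2 HW2 (nat_lit 2097617)) L_20 = true := by decide +kernel
theorem tree2_3 : Tr.all (treeR mt wl2 HP2 HR2 HW2 (nat_lit 2097617)) L_3 = true := by decide +kernel
theorem tree2_12 : Tr.all (treeR mt wl2 HP2 HR2 HW2 (nat_lit 2097617)) L_12 = true := by decide +kernel
theorem tree2_18 : Tr.all (treeR mt wl2 HP2 HR2 HW2 (nat_lit 2097617)) L_18 = true := by decide +kernel
theorem z0_2 : cnt HR0 0 L_2 = 0 := by decide +kernel
theorem z0_5 : cnt HR0 0 L_5 = 0 := by decide +kernel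
theorem z0_8 : cnt HR0 0 L_8 = 0 := by decide +kernel
theorem z0_11 : cnt HR0 0 L_11 = 0 := by decide +kernel
theorem z0_14 : cnt HR0 0 L_14 = 0 := by decide +kernel
theorem z0_17 : cnt HR0 0 L_17 = 0 := by decide +kernel
theorem z0_20 : cnt HR0 0 L_20 = 0 := by decide +kernel
theorem z0_23 : cnt HR0 0 L_23 = 0 := by decide +kernel
theorem z0_26 : cnt HR0 0 L_26 = 0 := by decide +kernel
theorem z1_0 : cnt HR1 0 L_0 = 2069 := by decide +kernel
theorem z1_3 : cnt HR1 0 L_3 = 2395 := by decide +kernel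
theorem z1_6 : cnt HR1 0 L_6 = 2389 := by decide +kernel
theorem z1_9 : cnt HR1 0 L_9 = 2386 := by decide +kernel
theorem z1_12 : cnt HR1 0 L_12 = 2264 := by decide +kernel
theorem z1_15 : cnt HR1 0 L_15 = 2166 := by decide +kernel
theorem z1_18 : cnt HR1 0 L_18 = 2319 := by decide +kernel
theorem z1_21 : cnt HR1 0 L_21 = 2035 := by decide +kernel
theorem z1_24 : cnt HR1 0 L_24 = 1969 := by decide +kernel
theorem z1_27 : cnt HR1 0 L_27 = 1866 := by decide +kernel
theorem z2_1 : cnt HR2 0 L_1 = 4095 := by decide +kernel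
theorem z2_4 : cnt HR2 0 L_4 = 4094 := by decide +kernel
theorem z2_7 : cnt HR2 0 L_7 = 4095 := by decide +kernel
theorem z2_10 : cnt HR2 0 L_10 = 4091 := by decide +kernel
theorem z2_13 : cnt HR2 0 L_13 = 4093 := by decide +kernel
theorem z2_15 : cnt HR2 0 L_15 = 4096 := by decide +kernel
theorem z2_18 : cnt HR2 0 L_18 = 4095 := by decide +kernel
theorem tree2_21 : Tr.all (treeR mt wl2 HP2 HR2 HW2 (nat_lit 2097617)) L_21 = true := by decide +kernel
theorem z2_22 : cnt HR2 0 L_22 = 4096 := by decide +kernel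
theorem tree2_24 : Tr.all (treeR mt wl2 HP2 HR2 HW2 (nat_lit 2097617)) L_24 = true := by decide +kernel
theorem z2_25 : cnt HR2 0 L_25 = 4096 := by decide +kernel
theorem tree2_27 : Tr.all (treeR mt wl2 HP2 HR2 HW2 (nat_lit 2097617)) L_27 = true := by decide +kernel
theorem z2_28 : cnt HR2 0 L_28 = 4096 := by decide +kernel
theorem z2_29 : cnt HR2 0 L_29 = 3976 := by decide +kernel
end CfsgLib.TCON.Chain
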