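import Cfsg.Agent.EqBase
import Cfsg.Agent.LibTCON
import Cfsg.Agent.LibTCONCX0
import Cfsg.Agent.LibTCONCX1
import Cfsg.Agent.LibTCONCX2
set_option autoImplicit false
set_option linter.all false
set_option maxRecDepth 1000000
set_option maxHeartbeats 0
namespace CfsgLib.TCON.Chain
open CfsgLib.TC Cfsg.Spor CfsgLib.TCG_ON CfsgLib.TCON
theorem cnt_nd' {OB : ℕ → ℕ} {i k : ℕ} {l r : Tr ℕ} {a b : ℕ} (hl : cnt OB i l = a) (hr : cnt OB i r = b) : cnt OB i (Tr.nd k l r) = a + b := by rw [← hl, ← hr]; rfl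
theorem tree0 : Tr.all (treeR mt wl0 HP0 HR0 HW0 (nat_lit 2097169)) L = true := (Tr.all_nd (Tr.all_nd (Tr.all_nd (Tr.all_nd tree0_0 (Tr.all_nd tree0_1 tree0_2)) (Tr.all_nd (Tr.all_nd tree0_3 tree0_4) (Tr.all_nd tree0_5 tree0_6))) (Tr.all_nd (Tr.all_nd (Tr.all_nd tree0_7 tree0_8) (Tr.all_nd tree0_9 tree0_10)) (Tr.all_nd (Tr.all_nd tree0_11 tree0_12) (Tr.all_nd tree0_13 tree0_14)))) (Tr.all_nd (Tr.all_nd (Tr.all_nd tree0_15 (Tr.all_nd tree0_16 tree0_17)) (Tr.all_nd (Tr.all_nd tree0_18 tree0_19) (Tr.all_nd tree0_20 tree0_21))) (Tr.all_nd (Tr.all_nd (Tr.all_nd tree0_22 tree0_23) (Tr.all_nd tree0_24 tree0_25)) (Tr.all_nd (Tr.all_nd tree0_26 tree0_27) (Tr.all_nd tree0_28 tree0_29)))))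
theorem z0 : cnt HR0 0 L = 0 := (cnt_nd' (cnt_nd' (cnt_nd' (cnt_nd' z0_0 (cnt_nd' z0_1 z0_2)) (cnt_nd' (cnt_nd' z0_3 z0_4) (cnt_nd' z0_5 z0_6))) (cnt_nd' (cnt_nd' (cnt_nd' z0_7 z0_8) (cnt_nd' z0_9 z0_10)) (cnt_nd' (cnt_nd' z0_11 z0_12) (cnt_nd' z0_13 z0_14)))) (cnt_nd' (cnt_nd' (cnt_nd' z0_15 (cnt_nd' z0_16 z0_17)) (cnt_nd' (cnt_nd' z0_18 z0_19) (cnt_nd' z0_20 z0_21))) (cnt_nd' (cnt_nd' (cnt_nd' z0_22 z0_23) (cnt_nd' z0_24 z0_25)) (cnt_nd' (cnt_nd' z0_26 z0_27) (cnt_nd' z0_28 z0_29)))))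
theorem hwl0 (j x : ℕ) : ∃ w ∈ WL0, wl0 j x = walk stp w x := (brecP (P := fun y => ∃ w ∈ WL0, y = walk stp w x) (brecP (P := fun y => ∃ w ∈ WL0, y = walk stp w x) (brecP (P := fun y => ∃ w ∈ WL0, y = walk stp w x) ⟨[TCG_ON.Col.g], List.mem_cons_self, rfl⟩ ⟨[TCG_ON.Col.gi], (List.mem_cons_of_mem _ List.mem_cons_self), rfl⟩) (brecP (P := fun y => ∃ w ∈ WL0, y = walk stp w x) ⟨[TCG_ON.Col.a], (List.mem_cons_of_mem _ (List.mem_cons_of_mem _ List.mem_cons_self)), rfl⟩ ⟨[TCG_ON.Col.b], (List.mem_cons_of_mem _ (List.mem_cons_of_mem _ (List.mem_cons_of_mem _ List.mem_cons_self))), rfl⟩)) (brecP (P := fun y => ∃ w ∈ WL0, y = walk stp w x) (brecP (P := fun y => ∃ w ∈ WL0, y = walk stp w x) ⟨[TCG_ON.Col.c], (List.mem_cons_of_mem _ (List.mem_cons_of_mem _ (List.mem_cons_of_mem _ (List.mem_cons_of_mem _ List.mem_cons_self)))),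 rfl⟩ ⟨[TCG_ON.Col.d], (List.mem_cons_of_mem _ (List.mem_cons_of_mem _ (List.mem_cons_of_mem _ (List.mem_cons_of_mem _ (List.mem_cons_of_mem _ List.mem_cons_self))))), rfl⟩) (brecP (P := fun y => ∃ w ∈ WL0, y = walk stp w x) ⟨[TCG_ON.Col.e], (List.mem_cons_of_mem _ (List.mem_cons_of_mem _ (List.mem_cons_of_mem _ (List.mem_cons_of_mem _ (List.mem_cons_of_mem _ (List.mem_cons_of_mem _ List.mem_cons_self)))))), rfl⟩ ⟨[TCG_ON.Col.f], (List.mem_cons_of_mem _ (List.mem_cons_of_mem _ (List.mem_cons_of_mem _ (List.mem_cons_of_mem _ (List.mem_cons_of_mem _ (List.mem_cons_of_mem _ (List.mem_cons_of_mem _ List.mem_cons_self))))))), rfl⟩)))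
theorem tree1 : Tr.all (treeR mt wl1 HP1 HR1 HW1 (nat_lit 2097211)) L = true := (Tr.all_nd (Tr.all_nd (Tr.all_nd (Tr.all_nd tree1_0 (Tr.all_nd tree1_1 tree1_2)) (Tr.all_nd (Tr.all_nd tree1_3 tree1_4) (Tr.all_nd tree1_5 tree1_6))) (Tr.all_nd (Tr.all_nd (Tr.all_nd tree1_7 tree1_8) (Tr.all_nd tree1_9 tree1_10)) (Tr.all_nd (Tr.all_nd tree1_11 tree1_12) (Tr.all_nd tree1_13 tree1_14)))) (Tr.all_nd (Tr.all_nd (Tr.all_nd tree1_15 (Tr.all_nd tree1_16 tree1_17)) (Tr.all_nd (Tr.all_nd tree1_18 tree1_19) (Tr.all_nd tree1_20 tree1_21))) (Tr.all_nd (Tr.all_nd (Tr.all_nd tree1_22 tree1_23) (Tr.all_nd tree1_24 tree1_25)) (Tr.all_nd (Tr.all_nd tree1_26 tree1_27) (Tr.all_nd tree1_28 tree1_29)))))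
theorem z1 : cnt HR1 0 L = 64107 := (cnt_nd' (cnt_nd' (cnt_nd' (cnt_nd' z1_0 (cnt_nd' z1_1 z1_2)) (cnt_nd' (cnt_nd' z1_3 z1_4) (cnt_nd' z1_5 z1_6))) (cnt_nd' (cnt_nd' (cnt_nd' z1_7 z1_8) (cnt_nd' z1_9 z1_10)) (cnt_nd' (cnt_nd' z1_11 z1_12) (cnt_nd' z1_13 z1_14)))) (cnt_nd' (cnt_nd' (cnt_nd' z1_15 (cnt_nd' z1_16 z1_17)) (cnt_nd' (cnt_nd' z1_18 z1_19) (cnt_nd' z1_20 z1_21))) (cnt_nd' (cnt_nd' (cnt_nd' z1_22 z1_23) (cnt_nd' z1_24 z1_25)) (cnt_nd' (cnt_nd' z1_26 z1_27) (cnt_nd' z1_28 z1_29)))))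
theorem hwl1 (j x : ℕ) : ∃ w ∈ WL1, wl1 j x = walk stp w x := (brecP (P := fun y => ∃ w ∈ WL1, y = walk stp w x) (brecP (P := fun y => ∃ w ∈ WL1, y = walk stp w x) ⟨[TCG_ON.Col.b], List.mem_cons_self, rfl⟩ ⟨[TCG_ON.Col.c], (List.mem_cons_of_mem _ List.mem_cons_self), rfl⟩) (brecP (P := fun y => ∃ w ∈ WL1, y = walk stp w x) ⟨[TCG_ON.Col.d], (List.mem_cons_of_mem _ (List.mem_cons_of_mem _ List.mem_cons_self)), rfl⟩ ⟨[TCG_ON.Col.e], (List.mem_cons_of_mem _ (List.mem_cons_of_mem _ (List.mem_cons_of_mem _ List.mem_cons_self))), rfl⟩))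
theorem tree2 : Tr.all (treeR mt wl2 HP2 HR2 HW2 (nat_lit 2097617)) L = true := (Tr.all_nd (Tr.all_nd (Tr.all_nd (Tr.all_nd tree2_0 (Tr.all_nd tree2_1 tree2_2)) (Tr.all_nd (Tr.all_nd tree2_3 tree2_4) (Tr.all_nd tree2_5 tree2_6))) (Tr.all_nd (Tr.all_nd (Tr.all_nd tree2_7 tree2_8) (Tr.all_nd tree2_9 tree2_10)) (Tr.all_nd (Tr.all_nd tree2_11 tree2_12) (Tr.all_nd tree2_13 tree2_14)))) (Tr.all_nd (Tr.all_nd (Tr.all_nd tree2_15 (Tr.all_nd tree2_16 tree2_17)) (Tr.all_nd (Tr.all_nd tree2_18 tree2_19) (Tr.all_nd tree2_20 tree2_21))) (Tr.all_nd (Tr.all_nd (Tr.all_nd tree2_22 tree2_23) (Tr.all_nd tree2_24 tree2_25)) (Tr.all_nd (Tr.all_nd tree2_26 tree2_27) (Tr.all_nd tree2_28 tree2_29)))))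
theorem z2 : cnt HR2 0 L = 122696 := (cnt_nd' (cnt_nd' (cnt_nd' (cnt_nd' z2_0 (cnt_nd' z2_1 z2_2)) (cnt_nd' (cnt_nd' z2_3 z2_4) (cnt_nd' z2_5 z2_6))) (cnt_nd' (cnt_nd' (cnt_nd' z2_7 z2_8) (cnt_nd' z2_9 z2_10)) (cnt_nd' (cnt_nd' z2_11 z2_12) (cnt_nd' z2_13 z2_14)))) (cnt_nd' (cnt_nd' (cnt_nd' z2_15 (cnt_nd' z2_16 z2_17)) (cnt_nd' (cnt_nd' z2_18 z2_19) (cnt_nd' z2_20 z2_21))) (cnt_nd' (cnt_nd' (cnt_nd' z2_22 z2_23) (cnt_nd' z2_24 z2_25)) (cnt_nd' (cnt_nd' z2_26 z2_27) (cnt_nd' z2_28 z2_29)))))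
theorem hwl2 (j x : ℕ) : ∃ w ∈ WL2, wl2 j x = walk stp w x := (brecP (P := fun y => ∃ w ∈ WL2, y = walk stp w x) ⟨[TCG_ON.Col.g, TCG_ON.Col.a, TCG_ON.Col.c, TCG_ON.Col.d, TCG_ON.Col.c, TCG_ON.Col.d, TCG_ON.Col.gi], List.mem_cons_self, rfl⟩ (brecP (P := fun y => ∃ w ∈ WL2, y = walk stp w x) ⟨[TCG_ON.Col.c, TCG_ON.Col.b, TCG_ON.Col.e, TCG_ON.Col.d, TCG_ON.Col.c, TCG_ON.Col.d, TCG_ON.Col.c, TCG_ON.Col.b, TCG_ON.Col.e, TCG_ON.Col.d, TCG_ON.Col.c, TCG_ON.Col.d, TCG_ON.Col.c, TCG_ON.Col.d, TCG_ON.Col.e, TCG_ON.Col.d, TCG_ON.Col.c, TCG_ON.Col.a, TCG_ON.Col.b, TCG_ON.Col.d, TCG_ON.Col.c, TCG_ON.Col.d, TCG_ON.Col.e, TCG_ON.Col.gi, TCG_ON.Col.gi, TCG_ON.Col.e, TCG_ON.Col.c, TCG_ON.Col.d, TCG_ON.Col.b, TCG_ON.Col.c, TCG_ON.Col.d, TCG_ON.Col.b, TCG_ON.Col.c, TCG_ON.Col.d, TCG_ON.Col.e, TCG_ON.Col.d, TCG_ON.Col.c], (List.mem_cons_of_mem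 _ List.mem_cons_self), rfl⟩ ⟨[TCG_ON.Col.b, TCG_ON.Col.e, TCG_ON.Col.d, TCG_ON.Col.c, TCG_ON.Col.b, TCG_ON.Col.d, TCG_ON.Col.c, TCG_ON.Col.b, TCG_ON.Col.e, TCG_ON.Col.d, TCG_ON.Col.c, TCG_ON.Col.b, TCG_ON.Col.d, TCG_ON.Col.c, TCG_ON.Col.b, TCG_ON.Col.d, TCG_ON.Col.c, TCG_ON.Col.b, TCG_ON.Col.a, TCG_ON.Col.e, TCG_ON.Col.d, TCG_ON.Col.c, TCG_ON.Col.d, TCG_ON.Col.b, TCG_ON.Col.c, TCG_ON.Col.d, TCG_ON.Col.e, TCG_ON.Col.d, TCG_ON.Col.c, TCG_ON.Col.d, TCG_ON.Col.c, TCG_ON.Col.d, TCG_ON.Col.e, TCG_ON.Col.c, TCG_ON.Col.d, TCG_ON.Col.c, TCG_ON.Col.b], (List.mem_cons_of_mem _ (List.mem_cons_of_mem _ List.mem_cons_self)), rfl⟩))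
section
variable {Γ : Type} [Group Γ] [Finite Γ] (ψ : Γ →* Equiv.Perm (Om L)) (g : Col → Γ) (hψ : ∀ c, ψ (g c) = closed.perm c)
include hψ
omit hψ in
theorem lev3 : 1 ≤ Nat.card (stabN ψ [2097617, 2097211, 2097169]) := lev_zero _ _
theorem lev2 : 64 ≤ Nat.card (stabN ψ [2097211, 2097169]) :=
  lev_step3 (n := 64) closed nodup ψ g hψ [2097211, 2097169] 2097617 size_L (mt_sound _ (by decide +kernel)) mt_sound hwl2 (by decide +kernel) tree2 z2 (lev3 ψ) (by norm_num) (by norm_num)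
theorem lev1 : 3753792 ≤ Nat.card (stabN ψ [2097169]) :=
  lev_step3 (n := 58653) closed nodup ψ g hψ [2097169] 2097211 size_L (mt_sound _ (by decide +kernel)) mt_sound hwl1 (by decide +kernel) tree1 z1 (lev2 ψ g hψ) (by norm_num) (by norm_num)
theorem lev0 : 460815505920 ≤ Nat.card (stabN ψ []) :=
  lev_step3 (n := 122760) closed nodup ψ g hψ [] 2097169 size_L (mt_sound _ (by decide +kernel)) mt_sound hwl0 (by decide +kernel) tree0 z0 (lev1 ψ g hψ) (by norm_num) (by norm_num)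
end
end CfsgLib.TCON.Chain
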