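import Cfsg.Agent.EqBase
import Cfsg.Agent.LibTCON
import Cfsg.Agent.LibTCONb
import Cfsg.Agent.LibTCONc
import Cfsg.Agent.LibTCONC
set_option autoImplicit false
set_option linter.all false
set_option maxRecDepth 1000000

namespace CfsgLib.TCON
open CfsgLib.TC Cfsg.Spor

abbrev P0 : TCONb.Col → ON := TCONb.Pc PresentedGroup.of
abbrev P1 : TCONc.Col → ON := TCONc.Pc PresentedGroup.of
theorem le0 : genBy P0 ≤ genBy TCG_ON.P := by
  rw [Subgroup.closure_le]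
  rintro _ ⟨c, rfl⟩
  cases c
  · exact Subgroup.subset_closure ⟨.a, rfl⟩
  · exact Subgroup.subset_closure ⟨.b, rfl⟩
  · exact Subgroup.subset_closure ⟨.c, rfl⟩
  · exact Subgroup.subset_closure ⟨.d, rfl⟩
  · exact Subgroup.subset_closure ⟨.e, rfl⟩
  · exact Subgroup.subset_closure ⟨.f, rfl⟩
theorem le1 : genBy P1 ≤ genBy P0 := by
  rw [Subgroup.closure_le]
  rintro _ ⟨c, rfl⟩
  cases c
  · exact Subgroup.subset_closure ⟨.a, rfl⟩
  · exact Subgroup.subset_closure ⟨.b, rfl⟩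
  · exact Subgroup.subset_closure ⟨.c, rfl⟩
  · exact Subgroup.subset_closure ⟨.e, rfl⟩
  · exact Subgroup.subset_closure ⟨.f, rfl⟩
theorem card1 : Nat.card (genBy P1) ≠ 0 ∧ Nat.card (genBy P1) ≤ 144 :=
  card_of_bot (TCONc.rel_upper P1 (TCONc.Pc_inv TCG_ON.hsat) (fun w hw => (TCONc.rw_mem w hw).elim (TCONc.Pc_RW TCG_ON.hsat w) (fun h => absurd h (by simp [TCONc.RWe]))) ⊥
    (fun w hw => absurd hw (by simp [TCONc.SW0])))
theorem card0 : Nat.card (genBy P0) ≠ 0 ∧ Nat.card (genBy P0) ≤ 3753792 :=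
  card_chain le1 (TCONb.rel_upper P0 (TCONb.Pc_inv TCG_ON.hsat) (fun w hw => (TCONb.rw_mem w hw).elim (TCONb.Pc_RW TCG_ON.hsat w) (fun h => absurd h (by simp [TCONb.RWe]))) (genBy P1)
    (fun w hw => by
      simp only [TCONb.SW0, List.mem_cons, List.not_mem_nil, or_false] at hw
      rcases hw with rfl | rfl | rfl | rfl | rfl <;> rw [gw_cons, gw_nil, one_mul] <;> apply Subgroup.subset_closure
      exacts [⟨.a, rfl⟩, ⟨.b, rfl⟩, ⟨.c, rfl⟩, ⟨.e, rfl⟩, ⟨.f, rfl⟩])) card1 (by norm_num)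
theorem cardP : Nat.card (genBy TCG_ON.P) ≠ 0 ∧ Nat.card (genBy TCG_ON.P) ≤ 460815505920 :=
  card_chain le0 (TCON.rel_upper TCG_ON.P TCG_ON.P_inv TCG_ON.P_RW (genBy P0)
    (fun w hw => by
      simp only [TCON.SW0, List.mem_cons, List.not_mem_nil, or_false] at hw
      rcases hw with rfl | rfl | rfl | rfl | rfl | rfl <;> rw [gw_cons, gw_nil, one_mul] <;> apply Subgroup.subset_closure
      exacts [⟨.a, rfl⟩, ⟨.b, rfl⟩, ⟨.c, rfl⟩, ⟨.d, rfl⟩, ⟨.e, rfl⟩, ⟨.f, rfl⟩])) card0 (by norm_num)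

theorem card_top : Nat.card ON ≠ 0 ∧ Nat.card ON ≤ 460815505920 := by
  have h := cardP
  have h1 : genBy TCG_ON.P = ⊤ := TCG_ON.P_top
  rw [h1, Subgroup.card_top] at h
  exact h

instance finite_ON : Finite ON := Nat.finite_of_card_ne_zero card_top.1

theorem order_main : Nat.card ON = 460815505920 ∧ Function.Injective TCON.φ :=
  order_faithful TCON.φ card_top.2 (TCON.Chain.lev0 TCON.φ.range.subtype (rangeGen TCON.φ TCG_ON.P) TCON.φ_P)

end CfsgLib.TCON
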