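import Cfsg.Agent.EqBase
import Cfsg.Agent.LibTCAutONX0
import Cfsg.Agent.LibTCAutONX1
import Cfsg.Agent.LibTCAutONX2
import Cfsg.Agent.LibTCAutONX3
import Cfsg.Agent.LibTCAutONX4
import Cfsg.Agent.LibTCAutONX5
import Cfsg.Agent.LibTCAutONX6
import Cfsg.Agent.LibTCAutONX7
import Cfsg.Agent.LibTCONC
import Cfsg.Agent.LibTCONF
set_option autoImplicit false
set_option linter.all false
set_option maxRecDepth 1000000
set_option maxHeartbeats 0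
namespace CfsgLib.TCON.Au
open CfsgLib.TC Cfsg.Spor CfsgLib.TCG_ON CfsgLib.TCON CfsgLib.TCON.Chain
theorem tX : Tr.all (fun q => Nat.beq (walkC stp wx q) (TX q)) L = true := (Tr.all_nd (Tr.all_nd (Tr.all_nd (Tr.all_nd tX_0 (Tr.all_nd tX_1 tX_2)) (Tr.all_nd (Tr.all_nd tX_3 tX_4) (Tr.all_nd tX_5 tX_6))) (Tr.all_nd (Tr.all_nd (Tr.all_nd tX_7 tX_8) (Tr.all_nd tX_9 tX_10)) (Tr.all_nd (Tr.all_nd tX_11 tX_12) (Tr.all_nd tX_13 tX_14)))) (Tr.all_nd (Tr.all_nd (Tr.all_nd tX_15 (Tr.all_nd tX_16 tX_17)) (Tr.all_nd (Tr.all_nd tX_18 tX_19) (Tr.all_nd tX_20 tX_21))) (Tr.all_nd (Tr.all_nd (Tr.all_nd tX_22 tX_23) (Tr.all_nd tX_24 tX_25)) (Tr.all_nd (Tr.all_nd tX_26 tX_27) (Tr.all_nd tX_28 tX_29)))))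
theorem tY : Tr.all (fun q => Nat.beq (walkC stp wy q) (TY q)) L = true := (Tr.all_nd (Tr.all_nd (Tr.all_nd (Tr.all_nd tY_0 (Tr.all_nd tY_1 tY_2)) (Tr.all_nd (Tr.all_nd tY_3 tY_4) (Tr.all_nd tY_5 tY_6))) (Tr.all_nd (Tr.all_nd (Tr.all_nd tY_7 tY_8) (Tr.all_nd tY_9 tY_10)) (Tr.all_nd (Tr.all_nd tY_11 tY_12) (Tr.all_nd tY_13 tY_14)))) (Tr.all_nd (Tr.all_nd (Tr.all_nd tY_15 (Tr.all_nd tY_16 tY_17)) (Tr.all_nd (Tr.all_nd tY_18 tY_19) (Tr.all_nd tY_20 tY_21))) (Tr.all_nd (Tr.all_nd (Tr.all_nd tY_22 tY_23) (Tr.all_nd tY_24 tY_25)) (Tr.all_nd (Tr.all_nd tY_26 tY_27) (Tr.all_nd tY_28 tY_29)))))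
theorem tS : Tr.all (fun q => Nat.beq (walkC stp ws q) (TS q)) L = true := (Tr.all_nd (Tr.all_nd (Tr.all_nd (Tr.all_nd tS_0 (Tr.all_nd tS_1 tS_2)) (Tr.all_nd (Tr.all_nd tS_3 tS_4) (Tr.all_nd tS_5 tS_6))) (Tr.all_nd (Tr.all_nd (Tr.all_nd tS_7 tS_8) (Tr.all_nd tS_9 tS_10)) (Tr.all_nd (Tr.all_nd tS_11 tS_12) (Tr.all_nd tS_13 tS_14)))) (Tr.all_nd (Tr.all_nd (Tr.all_nd tS_15 (Tr.all_nd tS_16 tS_17)) (Tr.all_nd (Tr.all_nd tS_18 tS_19) (Tr.all_nd tS_20 tS_21))) (Tr.all_nd (Tr.all_nd (Tr.all_nd tS_22 tS_23) (Tr.all_nd tS_24 tS_25)) (Tr.all_nd (Tr.all_nd tS_26 tS_27) (Tr.all_nd tS_28 tS_29)))))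
theorem tU : Tr.all (fun q => Nat.beq (TS (walkC stp z1 q)) (TU q)) L = true := (Tr.all_nd (Tr.all_nd (Tr.all_nd (Tr.all_nd tU_0 (Tr.all_nd tU_1 tU_2)) (Tr.all_nd (Tr.all_nd tU_3 tU_4) (Tr.all_nd tU_5 tU_6))) (Tr.all_nd (Tr.all_nd (Tr.all_nd tU_7 tU_8) (Tr.all_nd tU_9 tU_10)) (Tr.all_nd (Tr.all_nd tU_11 tU_12) (Tr.all_nd tU_13 tU_14)))) (Tr.all_nd (Tr.all_nd (Tr.all_nd tU_15 (Tr.all_nd tU_16 tU_17)) (Tr.all_nd (Tr.all_nd tU_18 tU_19) (Tr.all_nd tU_20 tU_21))) (Tr.all_nd (Tr.all_nd (Tr.all_nd tU_22 tU_23) (Tr.all_nd tU_24 tU_25)) (Tr.all_nd (Tr.all_nd tU_26 tU_27) (Tr.all_nd tU_28 tU_29)))))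
theorem cX_0 : Tr.all (cenB stp 200 [2308807, 3586889] lvs TX [9, 4, 6, 0, 1] QX) L_0 = true := (all_split _ _ cX_0_l cX_0_r)
theorem cX_1 : Tr.all (cenB stp 200 [2308807, 3586889] lvs TX [9, 4, 6, 0, 1] QX) L_1 = true := (all_split _ _ cX_1_l cX_1_r)
theorem cX_2 : Tr.all (cenB stp 200 [2308807, 3586889] lvs TX [9, 4, 6, 0, 1] QX) L_2 = true := (all_split _ _ cX_2_l cX_2_r)
theorem cX_3 : Tr.all (cenB stp 200 [2308807, 3586889] lvs TX [9, 4, 6, 0, 1] QX) L_3 = true := (all_split _ _ cX_3_l cX_3_r)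
theorem cX_4 : Tr.all (cenB stp 200 [2308807, 3586889] lvs TX [9, 4, 6, 0, 1] QX) L_4 = true := (all_split _ _ cX_4_l cX_4_r)
theorem cX_5 : Tr.all (cenB stp 200 [2308807, 3586889] lvs TX [9, 4, 6, 0, 1] QX) L_5 = true := (all_split _ _ cX_5_l cX_5_r)
theorem cX_6 : Tr.all (cenB stp 200 [2308807, 3586889] lvs TX [9, 4, 6, 0, 1] QX) L_6 = true := (all_split _ _ cX_6_l cX_6_r)
theorem cX_7 : Tr.all (cenB stp 200 [2308807, 3586889] lvs TX [9, 4, 6, 0, 1] QX) L_7 = true := (all_split _ _ cX_7_l cX_7_r)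
theorem cX_8 : Tr.all (cenB stp 200 [2308807, 3586889] lvs TX [9, 4, 6, 0, 1] QX) L_8 = true := (all_split _ _ cX_8_l cX_8_r)
theorem cX_9 : Tr.all (cenB stp 200 [2308807, 3586889] lvs TX [9, 4, 6, 0, 1] QX) L_9 = true := (all_split _ _ cX_9_l cX_9_r)
theorem cX_10 : Tr.all (cenB stp 200 [2308807, 3586889] lvs TX [9, 4, 6, 0, 1] QX) L_10 = true := (all_split _ _ cX_10_l cX_10_r)
theorem cX_11 : Tr.all (cenB stp 200 [2308807, 3586889] lvs TX [9, 4, 6, 0, 1] QX) L_11 = true := (all_split _ _ cX_11_l cX_11_r)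
theorem cX_12 : Tr.all (cenB stp 200 [2308807, 3586889] lvs TX [9, 4, 6, 0, 1] QX) L_12 = true := (all_split _ _ cX_12_l cX_12_r)
theorem cX_13 : Tr.all (cenB stp 200 [2308807, 3586889] lvs TX [9, 4, 6, 0, 1] QX) L_13 = true := (all_split _ _ cX_13_l cX_13_r)
theorem cX_14 : Tr.all (cenB stp 200 [2308807, 3586889] lvs TX [9, 4, 6, 0, 1] QX) L_14 = true := (all_split _ _ cX_14_l cX_14_r)
theorem cX_15 : Tr.all (cenB stp 200 [2308807, 3586889] lvs TX [9, 4, 6, 0, 1] QX) L_15 = true := (all_split _ _ cX_15_l cX_15_r)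
theorem cX_16 : Tr.all (cenB stp 200 [2308807, 3586889] lvs TX [9, 4, 6, 0, 1] QX) L_16 = true := (all_split _ _ cX_16_l cX_16_r)
theorem cX_17 : Tr.all (cenB stp 200 [2308807, 3586889] lvs TX [9, 4, 6, 0, 1] QX) L_17 = true := (all_split _ _ cX_17_l cX_17_r)
theorem cX_18 : Tr.all (cenB stp 200 [2308807, 3586889] lvs TX [9, 4, 6, 0, 1] QX) L_18 = true := (all_split _ _ cX_18_l cX_18_r)
theorem cX_19 : Tr.all (cenB stp 200 [2308807, 3586889] lvs TX [9, 4, 6, 0, 1] QX) L_19 = true := (all_split _ _ cX_19_l cX_19_r)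
theorem cX_20 : Tr.all (cenB stp 200 [2308807, 3586889] lvs TX [9, 4, 6, 0, 1] QX) L_20 = true := (all_split _ _ cX_20_l cX_20_r)
theorem cX_21 : Tr.all (cenB stp 200 [2308807, 3586889] lvs TX [9, 4, 6, 0, 1] QX) L_21 = true := (all_split _ _ cX_21_l cX_21_r)
theorem cX_22 : Tr.all (cenB stp 200 [2308807, 3586889] lvs TX [9, 4, 6, 0, 1] QX) L_22 = true := (all_split _ _ cX_22_l cX_22_r)
theorem cX_23 : Tr.all (cenB stp 200 [2308807, 3586889] lvs TX [9, 4, 6, 0, 1] QX) L_23 = true := (all_split _ _ cX_23_l cX_23_r)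
theorem cX_24 : Tr.all (cenB stp 200 [2308807, 3586889] lvs TX [9, 4, 6, 0, 1] QX) L_24 = true := (all_split _ _ cX_24_l cX_24_r)
theorem cX_25 : Tr.all (cenB stp 200 [2308807, 3586889] lvs TX [9, 4, 6, 0, 1] QX) L_25 = true := (all_split _ _ cX_25_l cX_25_r)
theorem cX_26 : Tr.all (cenB stp 200 [2308807, 3586889] lvs TX [9, 4, 6, 0, 1] QX) L_26 = true := (all_split _ _ cX_26_l cX_26_r)
theorem cX_27 : Tr.all (cenB stp 200 [2308807, 3586889] lvs TX [9, 4, 6, 0, 1] QX) L_27 = true := (all_split _ _ cX_27_l cX_27_r)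
theorem cX_28 : Tr.all (cenB stp 200 [2308807, 3586889] lvs TX [9, 4, 6, 0, 1] QX) L_28 = true := (all_split _ _ cX_28_l cX_28_r)
theorem cX_29 : Tr.all (cenB stp 200 [2308807, 3586889] lvs TX [9, 4, 6, 0, 1] QX) L_29 = true := (all_split _ _ cX_29_l cX_29_r)
theorem cX : Tr.all (cenB stp 200 [2308807, 3586889] lvs TX [9, 4, 6, 0, 1] QX) L = true := (Tr.all_nd (Tr.all_nd (Tr.all_nd (Tr.all_nd cX_0 (Tr.all_nd cX_1 cX_2)) (Tr.all_nd (Tr.all_nd cX_3 cX_4) (Tr.all_nd cX_5 cX_6))) (Tr.all_nd (Tr.all_nd (Tr.all_nd cX_7 cX_8) (Tr.all_nd cX_9 cX_10)) (Tr.all_nd (Tr.all_nd cX_11 cX_12) (Tr.all_nd cX_13 cX_14)))) (Tr.all_nd (Tr.all_nd (Tr.all_nd cX_15 (Tr.all_nd cX_16 cX_17)) (Tr.all_nd (Tr.all_nd cX_18 cX_19) (Tr.all_nd cX_20 cX_21))) (Tr.all_nd (Tr.all_nd (Tr.all_nd cX_22 cX_23) (Tr.all_nd cX_24 cX_25)) (Tr.all_nd (Tr.all_nd cX_26 cX_27) (Tr.all_nd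 cX_28 cX_29)))))
theorem cY_0 : Tr.all (cenB stp 200 [2798849, 2548327] lvs TY [0, 9, 4, 1, 2] QY) L_0 = true := (all_split _ _ cY_0_l cY_0_r)
theorem cY_1 : Tr.all (cenB stp 200 [2798849, 2548327] lvs TY [0, 9, 4, 1, 2] QY) L_1 = true := (all_split _ _ cY_1_l cY_1_r)
theorem cY_2 : Tr.all (cenB stp 200 [2798849, 2548327] lvs TY [0, 9, 4, 1, 2] QY) L_2 = true := (all_split _ _ cY_2_l cY_2_r)
theorem cY_3 : Tr.all (cenB stp 200 [2798849, 2548327] lvs TY [0, 9, 4, 1, 2] QY) L_3 = true := (all_split _ _ cY_3_l cY_3_r)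
theorem cY_4 : Tr.all (cenB stp 200 [2798849, 2548327] lvs TY [0, 9, 4, 1, 2] QY) L_4 = true := (all_split _ _ cY_4_l cY_4_r)
theorem cY_5 : Tr.all (cenB stp 200 [2798849, 2548327] lvs TY [0, 9, 4, 1, 2] QY) L_5 = true := (all_split _ _ cY_5_l cY_5_r)
theorem cY_6 : Tr.all (cenB stp 200 [2798849, 2548327] lvs TY [0, 9, 4, 1, 2] QY) L_6 = true := (all_split _ _ cY_6_l cY_6_r)
theorem cY_7 : Tr.all (cenB stp 200 [2798849, 2548327] lvs TY [0, 9, 4, 1, 2] QY) L_7 = true := (all_split _ _ cY_7_l cY_7_r)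
theorem cY_8 : Tr.all (cenB stp 200 [2798849, 2548327] lvs TY [0, 9, 4, 1, 2] QY) L_8 = true := (all_split _ _ cY_8_l cY_8_r)
theorem cY_9 : Tr.all (cenB stp 200 [2798849, 2548327] lvs TY [0, 9, 4, 1, 2] QY) L_9 = true := (all_split _ _ cY_9_l cY_9_r)
theorem cY_10 : Tr.all (cenB stp 200 [2798849, 2548327] lvs TY [0, 9, 4, 1, 2] QY) L_10 = true := (all_split _ _ cY_10_l cY_10_r)
theorem cY_11 : Tr.all (cenB stp 200 [2798849, 2548327] lvs TY [0, 9, 4, 1, 2] QY) L_11 = true := (all_split _ _ cY_11_l cY_11_r)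
theorem cY_12 : Tr.all (cenB stp 200 [2798849, 2548327] lvs TY [0, 9, 4, 1, 2] QY) L_12 = true := (all_split _ _ cY_12_l cY_12_r)
theorem cY_13 : Tr.all (cenB stp 200 [2798849, 2548327] lvs TY [0, 9, 4, 1, 2] QY) L_13 = true := (all_split _ _ cY_13_l cY_13_r)
theorem cY_14 : Tr.all (cenB stp 200 [2798849, 2548327] lvs TY [0, 9, 4, 1, 2] QY) L_14 = true := (all_split _ _ cY_14_l cY_14_r)
theorem cY_15 : Tr.all (cenB stp 200 [2798849, 2548327] lvs TY [0, 9, 4, 1, 2] QY) L_15 = true := (all_split _ _ cY_15_l cY_15_r)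
theorem cY_16 : Tr.all (cenB stp 200 [2798849, 2548327] lvs TY [0, 9, 4, 1, 2] QY) L_16 = true := (all_split _ _ cY_16_l cY_16_r)
theorem cY_17 : Tr.all (cenB stp 200 [2798849, 2548327] lvs TY [0, 9, 4, 1, 2] QY) L_17 = true := (all_split _ _ cY_17_l cY_17_r)
theorem cY_18 : Tr.all (cenB stp 200 [2798849, 2548327] lvs TY [0, 9, 4, 1, 2] QY) L_18 = true := (all_split _ _ cY_18_l cY_18_r)
theorem cY_19 : Tr.all (cenB stp 200 [2798849, 2548327] lvs TY [0, 9, 4, 1, 2] QY) L_19 = true := (all_split _ _ cY_19_l cY_19_r)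
theorem cY_20 : Tr.all (cenB stp 200 [2798849, 2548327] lvs TY [0, 9, 4, 1, 2] QY) L_20 = true := (all_split _ _ cY_20_l cY_20_r)
theorem cY_21 : Tr.all (cenB stp 200 [2798849, 2548327] lvs TY [0, 9, 4, 1, 2] QY) L_21 = true := (all_split _ _ cY_21_l cY_21_r)
theorem cY_22 : Tr.all (cenB stp 200 [2798849, 2548327] lvs TY [0, 9, 4, 1, 2] QY) L_22 = true := (all_split _ _ cY_22_l cY_22_r)
theorem cY_23 : Tr.all (cenB stp 200 [2798849, 2548327] lvs TY [0, 9, 4, 1, 2] QY) L_23 = true := (all_split _ _ cY_23_l cY_23_r)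
theorem cY_24 : Tr.all (cenB stp 200 [2798849, 2548327] lvs TY [0, 9, 4, 1, 2] QY) L_24 = true := (all_split _ _ cY_24_l cY_24_r)
theorem cY_25 : Tr.all (cenB stp 200 [2798849, 2548327] lvs TY [0, 9, 4, 1, 2] QY) L_25 = true := (all_split _ _ cY_25_l cY_25_r)
theorem cY_26 : Tr.all (cenB stp 200 [2798849, 2548327] lvs TY [0, 9, 4, 1, 2] QY) L_26 = true := (all_split _ _ cY_26_l cY_26_r)
theorem cY_27 : Tr.all (cenB stp 200 [2798849, 2548327] lvs TY [0, 9, 4, 1, 2] QY) L_27 = true := (all_split _ _ cY_27_l cY_27_r)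
theorem cY_28 : Tr.all (cenB stp 200 [2798849, 2548327] lvs TY [0, 9, 4, 1, 2] QY) L_28 = true := (all_split _ _ cY_28_l cY_28_r)
theorem cY_29 : Tr.all (cenB stp 200 [2798849, 2548327] lvs TY [0, 9, 4, 1, 2] QY) L_29 = true := (all_split _ _ cY_29_l cY_29_r)
theorem cY : Tr.all (cenB stp 200 [2798849, 2548327] lvs TY [0, 9, 4, 1, 2] QY) L = true := (Tr.all_nd (Tr.all_nd (Tr.all_nd (Tr.all_nd cY_0 (Tr.all_nd cY_1 cY_2)) (Tr.all_nd (Tr.all_nd cY_3 cY_4) (Tr.all_nd cY_5 cY_6))) (Tr.all_nd (Tr.all_nd (Tr.all_nd cY_7 cY_8) (Tr.all_nd cY_9 cY_10)) (Tr.all_nd (Tr.all_nd cY_11 cY_12) (Tr.all_nd cY_13 cY_14)))) (Tr.all_nd (Tr.all_nd (Tr.all_nd cY_15 (Tr.all_nd cY_16 cY_17)) (Tr.all_nd (Tr.all_nd cY_18 cY_19) (Tr.all_nd cY_20 cY_21))) (Tr.all_nd (Tr.all_nd (Tr.all_nd cY_22 cY_23) (Tr.all_nd cY_24 cY_25)) (Tr.all_nd (Tr.all_nd cY_26 cY_27) (Tr.all_nd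 cY_28 cY_29)))))
theorem hg : ∀ c, Acts φ (P c) (stp c) := fun c q => by rw [φ_P]; rfl
noncomputable def x : ON := gw P wx
noncomputable def y : ON := gw P wy
noncomputable def s : ON := gw P ws
theorem hx : Acts φ x TX := Acts.of_tabC (Acts.gwC hg wx) tX
theorem hy : Acts φ y TY := Acts.of_tabC (Acts.gwC hg wy) tY
theorem hs : Acts φ s TS := Acts.of_tabC (Acts.gwC hg ws) tS
theorem hu : Acts φ (s * gw P z1) TU := Acts.of_tabC (hs.mul (Acts.gwC hg z1)) tU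
theorem mb0 : 2097169 ∈ L.toList := mt_sound _ (by decide +kernel)
theorem ex0 : (∀ u ∈ stabN φ [], HR0 (φ u ⟨2097169, mb0⟩).1 ≠ 0) ∧ Nat.card (stabN φ [2097169]) ≤ 3753792 :=
  lev_exact3 (n := 122760) (m := 3753792) closed nodup φ P φ_P [] 2097169 size_L mb0 mt_sound hwl0 (by decide +kernel) tree0 z0 (lev1 φ P φ_P) (by norm_num) (by norm_num) (by norm_num) (le_trans (Subgroup.card_le_card_group _) (by rw [order_main.1]))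
theorem mb1 : 2097211 ∈ L.toList := mt_sound _ (by decide +kernel)
theorem ex1 : (∀ u ∈ stabN φ [2097169], HR1 (φ u ⟨2097211, mb1⟩).1 ≠ 0) ∧ Nat.card (stabN φ [2097211, 2097169]) ≤ 64 :=
  lev_exact3 (n := 58653) (m := 64) closed nodup φ P φ_P [2097169] 2097211 size_L mb1 mt_sound hwl1 (by decide +kernel) tree1 CfsgLib.TCON.Chain.z1 (lev2 φ P φ_P) (by norm_num) (by norm_num) (by norm_num) (le_trans ex0.2 (by norm_num))
theorem mb2 : 2097617 ∈ L.toList := mt_sound _ (by decide +kernel)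
theorem ex2 : (∀ u ∈ stabN φ [2097211, 2097169], HR2 (φ u ⟨2097617, mb2⟩).1 ≠ 0) ∧ Nat.card (stabN φ [2097617, 2097211, 2097169]) ≤ 1 :=
  lev_exact3 (n := 64) (m := 1) closed nodup φ P φ_P [2097211, 2097169] 2097617 size_L mb2 mt_sound hwl2 (by decide +kernel) tree2 z2 (lev3 φ) (by norm_num) (by norm_num) (by norm_num) (le_trans ex1.2 (by norm_num))
theorem good : Good φ P [] lvs := (good_cons3 closed φ_P mb0 ex0.1 (by decide +kernel) (good_cons3 closed φ_P mb1 ex1.1 (by decide +kernel) (good_cons3 closed φ_P mb2 ex2.1 (by decide +kernel) (good_nil_of ex2.2))))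
def Wx : List Col := [TCG_ON.Col.g, TCG_ON.Col.a, TCG_ON.Col.c, TCG_ON.Col.d, TCG_ON.Col.c, TCG_ON.Col.d, TCG_ON.Col.gi, TCG_ON.Col.c, TCG_ON.Col.e, TCG_ON.Col.d, TCG_ON.Col.c, TCG_ON.Col.b, TCG_ON.Col.d, TCG_ON.Col.c, TCG_ON.Col.d, TCG_ON.Col.c, TCG_ON.Col.e, TCG_ON.Col.d, TCG_ON.Col.c, TCG_ON.Col.d, TCG_ON.Col.c, TCG_ON.Col.b, TCG_ON.Col.e, TCG_ON.Col.d, TCG_ON.Col.c, TCG_ON.Col.d, TCG_ON.Col.c, TCG_ON.Col.d, TCG_ON.Col.g, TCG_ON.Col.b, TCG_ON.Col.e, TCG_ON.Col.gi, TCG_ON.Col.d, TCG_ON.Col.c, TCG_ON.Col.b, TCG_ON.Col.d, TCG_ON.Col.c, TCG_ON.Col.g, TCG_ON.Col.b, TCG_ON.Col.g, TCG_ON.Col.c]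
def Wy : List Col := [TCG_ON.Col.b, TCG_ON.Col.e, TCG_ON.Col.d, TCG_ON.Col.c, TCG_ON.Col.b, TCG_ON.Col.d, TCG_ON.Col.c, TCG_ON.Col.b, TCG_ON.Col.e, TCG_ON.Col.d, TCG_ON.Col.c, TCG_ON.Col.b, TCG_ON.Col.d, TCG_ON.Col.c, TCG_ON.Col.b, TCG_ON.Col.d, TCG_ON.Col.c, TCG_ON.Col.b, TCG_ON.Col.a, TCG_ON.Col.e, TCG_ON.Col.d, TCG_ON.Col.c, TCG_ON.Col.d, TCG_ON.Col.b, TCG_ON.Col.c, TCG_ON.Col.d, TCG_ON.Col.e, TCG_ON.Col.d, TCG_ON.Col.c, TCG_ON.Col.d, TCG_ON.Col.c, TCG_ON.Col.d, TCG_ON.Col.e, TCG_ON.Col.c, TCG_ON.Col.d, TCG_ON.Col.c, TCG_ON.Col.e, TCG_ON.Col.d, TCG_ON.Col.c, TCG_ON.Col.b, TCG_ON.Col.d, TCG_ON.Col.c, TCG_ON.Col.b, TCG_ON.Col.e, TCG_ON.Col.d, TCG_ON.Col.c, TCG_ON.Col.b, TCG_ON.Col.d, TCG_ON.Col.c, TCG_ON.Col.b, TCG_ON.Col.d, TCG_ON.Col.c, TCG_ON.Col.b, TCG_ON.Col.a, TCG_ON.Col.e, TCG_ON.Col.d, TCG_ON.Col.c, TCG_ON.Col.d, TCG_ON.Col.b,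 TCG_ON.Col.c, TCG_ON.Col.d, TCG_ON.Col.e, TCG_ON.Col.d, TCG_ON.Col.c, TCG_ON.Col.d, TCG_ON.Col.c, TCG_ON.Col.d, TCG_ON.Col.e, TCG_ON.Col.c, TCG_ON.Col.d, TCG_ON.Col.c, TCG_ON.Col.b, TCG_ON.Col.c, TCG_ON.Col.b, TCG_ON.Col.e, TCG_ON.Col.d, TCG_ON.Col.c, TCG_ON.Col.d, TCG_ON.Col.c, TCG_ON.Col.b, TCG_ON.Col.e, TCG_ON.Col.d, TCG_ON.Col.c, TCG_ON.Col.d, TCG_ON.Col.c, TCG_ON.Col.d, TCG_ON.Col.e, TCG_ON.Col.d, TCG_ON.Col.c, TCG_ON.Col.a, TCG_ON.Col.b, TCG_ON.Col.d, TCG_ON.Col.c, TCG_ON.Col.d, TCG_ON.Col.e, TCG_ON.Col.gi, TCG_ON.Col.gi, TCG_ON.Col.e, TCG_ON.Col.c, TCG_ON.Col.d, TCG_ON.Col.b, TCG_ON.Col.c, TCG_ON.Col.d, TCG_ON.Col.b, TCG_ON.Col.c, TCG_ON.Col.d, TCG_ON.Col.e, TCG_ON.Col.d, TCG_ON.Col.c, TCG_ON.Col.b, TCG_ON.Col.d, TCG_ON.Col.c, TCG_ON.Col.e, TCG_ON.Col.d, TCG_ON.Col.c, TCG_ON.Col.b, TCG_ON.Col.d, TCG_ON.Col.c, TCG_ON.Col.d, TCG_ON.Col.c,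 TCG_ON.Col.e, TCG_ON.Col.d, TCG_ON.Col.g, TCG_ON.Col.b, TCG_ON.Col.a, TCG_ON.Col.c, TCG_ON.Col.d, TCG_ON.Col.e]
theorem dx : CData φ P closed lvs x TX 3277297 Wx [2308807, 3586889] [9, 4, 6, 0, 1] := CData.mk' hx (by decide +kernel) (by decide +kernel) (by decide +kernel) (by decide +kernel)
theorem dy : CData φ P closed lvs y TY 2099497 Wy [2798849, 2548327] [0, 9, 4, 1, 2] := CData.mk' hy (by decide +kernel) (by decide +kernel) (by decide +kernel) (by decide +kernel)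
end CfsgLib.TCON.Au
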