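import Cfsg.Agent.EqBase
import Cfsg.Agent.LibTCONmX0
set_option autoImplicit false
set_option linter.all false
set_option maxRecDepth 1000000
set_option maxHeartbeats 0
namespace CfsgLib.TCONm
open CfsgLib.TC
theorem size_nd {k : ℕ} {l r : Tr ℕ} {a b : ℕ} (hl : size l = a) (hr : size r = b) : size (Tr.nd k l r) = a + b := by rw [← hl, ← hr]; rfl
theorem bst_nd {k lo hi : ℕ} {l r : Tr ℕ} (hl : bst l lo k = true) (hr : bst r k hi = true) : bst (Tr.nd k l r) lo hi = true := by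
  have : bst (Tr.nd k l r) lo hi = band (bst l lo k) (bst r k hi) := rfl
  rw [this, band_iff]; exact ⟨hl, hr⟩
theorem bst_chk : bst L 512 (2 * 512) = true := bs_0
theorem size_L : size L = 72 := sz_0
theorem q0_mem : q0 ∈ L.toList := mem_sound (by decide +kernel)
theorem ce_0 : Tr.all CE_0 L = true := ce_0_0
theorem pl_0 : ∀ q ∈ L.toList, q.Prime := prime_labels bs_0 pr_0 gc_0 (by norm_num) (by norm_num)
theorem brecP {α : Type} {P : α → Prop} {x y : α} {b : Bool} (hx : P x) (hy : P y) : P (Bool.rec (motive := fun _ => α) x y b) := by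
  cases b
  · exact hx
  · exact hy
theorem memM (x : ℕ) (h1 : 512 ≤ x) (h2 : x < 2 * 512) (h3 : MB x % x = 0) : x ∈ L.toList :=
  ((fun h => (mem_of_mod bs_0 pr_0 pl_0 h1 h2 (by norm_num) h)) : (fun M => M % x = 0 → x ∈ L.toList) (MB x)) h3
theorem mt_sound : ∀ x, mt x = true → x ∈ L.toList := fun x h => memt_sound (K := 512) memM (x := x) h
theorem pos : ∀ q ∈ L.toList, q ≠ 0 := fun q hq h => by
  have := ((bst_sound L _ _ bst_chk).1 q hq).1
  omega
theorem cu_0 (q : ℕ) : CE_0 q = true ↔ CD_yb q = true ∧ CD_ybi q = true ∧ CD_yc q = true ∧ CD_ye q = true ∧ CD_yf q = true := by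
  unfold CE_0
  simp only [bfalse_iff, and_true]
theorem cd_yb : ∀ q ∈ L.toList, clQ mt F_yb F_ybi q = true ∧ D_yb q = true := fun q hq => (band_iff _ _).1 ((cu_0 q).1 ((Tr.all_iff _ _).1 ce_0 q hq)).1
theorem cd_ybi : ∀ q ∈ L.toList, clQ mt F_ybi F_yb q = true ∧ D_ybi q = true := fun q hq => (band_iff _ _).1 ((cu_0 q).1 ((Tr.all_iff _ _).1 ce_0 q hq)).2.1
theorem cd_yc : ∀ q ∈ L.toList, clQ mt F_yc F_yc q = true ∧ D_yc q = true := fun q hq => (band_iff _ _).1 ((cu_0 q).1 ((Tr.all_iff _ _).1 ce_0 q hq)).2.2.1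
theorem cd_ye : ∀ q ∈ L.toList, clQ mt F_ye F_ye q = true ∧ D_ye q = true := fun q hq => (band_iff _ _).1 ((cu_0 q).1 ((Tr.all_iff _ _).1 ce_0 q hq)).2.2.2.1
theorem cd_yf : ∀ q ∈ L.toList, clQ mt F_yf F_yf q = true ∧ D_yf q = true := fun q hq => (band_iff _ _).1 ((cu_0 q).1 ((Tr.all_iff _ _).1 ce_0 q hq)).2.2.2.2
theorem closed : Closed L stp inv := by
  refine ⟨?_, ?_, inv_inv⟩
  · intro q hq c
    cases c
    · exact mt_sound _ ((band_iff _ _).1 (cd_yb q hq).1).1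
    · exact mt_sound _ ((band_iff _ _).1 (cd_ybi q hq).1).1
    · exact mt_sound _ ((band_iff _ _).1 (cd_yc q hq).1).1
    · exact mt_sound _ ((band_iff _ _).1 (cd_ye q hq).1).1
    · exact mt_sound _ ((band_iff _ _).1 (cd_yf q hq).1).1
  · intro q hq c
    cases c
    · exact Nat.eq_of_beq_eq_true ((band_iff _ _).1 (cd_yb q hq).1).2
    · exact Nat.eq_of_beq_eq_true ((band_iff _ _).1 (cd_ybi q hq).1).2
    · exact Nat.eq_of_beq_eq_true ((band_iff _ _).1 (cd_yc q hq).1).2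
    · exact Nat.eq_of_beq_eq_true ((band_iff _ _).1 (cd_ye q hq).1).2
    · exact Nat.eq_of_beq_eq_true ((band_iff _ _).1 (cd_yf q hq).1).2
theorem nodup : L.toList.Nodup := ((bst_sound L _ _ bst_chk).2.imp (fun h => Nat.ne_of_lt h))
theorem card_L : Nat.card (Om L) = 72 := by rw [card_Om L nodup, ← size_eq, size_L]
theorem tau_lt (c : Col) {q : ℕ} (hq : 0 < q) : tau c q < q := by cases c <;> exact Nat.mod_lt _ hq
theorem tau_z : lall (fun c => Nat.ble 1024 (tau c 0)) cols = true := by decide +kernel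
theorem hz : ∀ q ∈ L.toList, ∀ c c', tau c q ≤ tau c' 0 := by
  intro q hq c c'
  have h1 := (bst_sound L _ _ bst_chk).1 q hq
  have h2 := tau_lt c (q := q) (by omega)
  have h3 := Nat.le_of_ble_eq_true ((lall_iff _ _).1 tau_z c' (hcols c'))
  omega
theorem ac_0 : agChk idx inv RW SW0 a_0 = true := by decide +kernel
theorem ac_1 : agChk idx inv RW SW0 a_1 = true := by decide +kernel
theorem ac_2 : agChk idx inv RW SW0 a_2 = true := by decide +kernel
theorem ac_3 : agChk idx inv RW SW0 a_3 = true := by decide +kernel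
theorem ac_4 : agChk idx inv RW SW0 a_4 = true := by decide +kernel
theorem ac_5 : agChk idx inv RW SW0 a_5 = true := by decide +kernel
theorem ac_6 : agChk idx inv RW SW0 a_6 = true := by decide +kernel
theorem ac_7 : agChk idx inv RW SW0 a_7 = true := by decide +kernel
theorem ac_8 : agChk idx inv RW SW0 a_8 = true := by decide +kernel
theorem ac_9 : agChk idx inv RW SW0 a_9 = true := by decide +kernel
theorem ac_10 : agChk idx inv RW SW0 a_10 = true := by decide +kernel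
theorem ac_11 : agChk idx inv RW SW0 a_11 = true := by decide +kernel
theorem ac_12 : agChk idx inv RW SW0 a_12 = true := by decide +kernel
theorem ac_13 : agChk idx inv RW SW0 a_13 = true := by decide +kernel
theorem ac_14 : agChk idx inv RW SW0 a_14 = true := by decide +kernel
theorem ac_15 : agChk idx inv RW SW0 a_15 = true := by decide +kernel
theorem ac_16 : agChk idx inv RW SW0 a_16 = true := by decide +kernel
theorem ac_17 : agChk idx inv RW SW0 a_17 = true := by decide +kernel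
theorem ac_18 : agChk idx inv RW SW0 a_18 = true := by decide +kernel
theorem ac_19 : agChk idx inv RW SW0 a_19 = true := by decide +kernel
theorem ac_20 : agChk idx inv RW SW0 a_20 = true := by decide +kernel
theorem ac_21 : agChk idx inv RW SW0 a_21 = true := by decide +kernel
theorem ac_22 : agChk idx inv RW SW0 a_22 = true := by decide +kernel
theorem j_0 (q : ℕ) (h : E_0 (UU_yb q) q = true) : Just stp tau idx inv RW SW0 PT DT q0 .yb q := ⟨a_0, ac_0, rfl, h⟩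
theorem j_1 (q : ℕ) (h : E_1 (UU_yb q) q = true) : Just stp tau idx inv RW SW0 PT DT q0 .yb q := ⟨a_1, ac_1, rfl, h⟩
theorem j_2 (q : ℕ) (h : E_2 (UU_yb q) q = true) : Just stp tau idx inv RW SW0 PT DT q0 .yb q := ⟨a_2, ac_2, rfl, h⟩
theorem j_3 (q : ℕ) (h : E_3 (UU_yb q) q = true) : Just stp tau idx inv RW SW0 PT DT q0 .yb q := ⟨a_3, ac_3, rfl, h⟩
theorem j_4 (q : ℕ) (h : E_4 (UU_yb q) q = true) : Just stp tau idx inv RW SW0 PT DT q0 .yb q := ⟨a_4, ac_4, rfl, h⟩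
theorem j_5 (q : ℕ) (h : E_5 (UU_ybi q) q = true) : Just stp tau idx inv RW SW0 PT DT q0 .ybi q := ⟨a_5, ac_5, rfl, h⟩
theorem j_6 (q : ℕ) (h : E_6 (UU_ybi q) q = true) : Just stp tau idx inv RW SW0 PT DT q0 .ybi q := ⟨a_6, ac_6, rfl, h⟩
theorem j_7 (q : ℕ) (h : E_7 (UU_ybi q) q = true) : Just stp tau idx inv RW SW0 PT DT q0 .ybi q := ⟨a_7, ac_7, rfl, h⟩
theorem j_8 (q : ℕ) (h : E_8 (UU_ybi q) q = true) : Just stp tau idx inv RW SW0 PT DT q0 .ybi q := ⟨a_8, ac_8, rfl, h⟩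
theorem j_9 (q : ℕ) (h : E_9 (UU_ybi q) q = true) : Just stp tau idx inv RW SW0 PT DT q0 .ybi q := ⟨a_9, ac_9, rfl, h⟩
theorem j_10 (q : ℕ) (h : E_10 (UU_yc q) q = true) : Just stp tau idx inv RW SW0 PT DT q0 .yc q := ⟨a_10, ac_10, rfl, h⟩
theorem j_11 (q : ℕ) (h : E_11 (UU_yc q) q = true) : Just stp tau idx inv RW SW0 PT DT q0 .yc q := ⟨a_11, ac_11, rfl, h⟩
theorem j_12 (q : ℕ) (h : E_12 (UU_yc q) q = true) : Just stp tau idx inv RW SW0 PT DT q0 .yc q := ⟨a_12, ac_12, rfl, h⟩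
theorem j_13 (q : ℕ) (h : E_13 (UU_yc q) q = true) : Just stp tau idx inv RW SW0 PT DT q0 .yc q := ⟨a_13, ac_13, rfl, h⟩
theorem j_14 (q : ℕ) (h : E_14 (UU_yc q) q = true) : Just stp tau idx inv RW SW0 PT DT q0 .yc q := ⟨a_14, ac_14, rfl, h⟩
theorem j_15 (q : ℕ) (h : E_15 (UU_yc q) q = true) : Just stp tau idx inv RW SW0 PT DT q0 .yc q := ⟨a_15, ac_15, rfl, h⟩
theorem j_16 (q : ℕ) (h : E_16 (UU_ye q) q = true) : Just stp tau idx inv RW SW0 PT DT q0 .ye q := ⟨a_16, ac_16, rfl, h⟩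
theorem j_17 (q : ℕ) (h : E_17 (UU_ye q) q = true) : Just stp tau idx inv RW SW0 PT DT q0 .ye q := ⟨a_17, ac_17, rfl, h⟩
theorem j_18 (q : ℕ) (h : E_18 (UU_yf q) q = true) : Just stp tau idx inv RW SW0 PT DT q0 .yf q := ⟨a_18, ac_18, rfl, h⟩
theorem j_19 (q : ℕ) (h : E_19 (UU_yf q) q = true) : Just stp tau idx inv RW SW0 PT DT q0 .yf q := ⟨a_19, ac_19, rfl, h⟩
theorem j_20 (q : ℕ) (h : E_20 (UU_yf q) q = true) : Just stp tau idx inv RW SW0 PT DT q0 .yf q := ⟨a_20, ac_20, rfl, h⟩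
theorem j_21 (q : ℕ) (h : E_21 (UU_yf q) q = true) : Just stp tau idx inv RW SW0 PT DT q0 .yf q := ⟨a_21, ac_21, rfl, h⟩
theorem j_22 (q : ℕ) (h : E_22 (UU_yf q) q = true) : Just stp tau idx inv RW SW0 PT DT q0 .yf q := ⟨a_22, ac_22, rfl, h⟩
theorem jc_yb (q : ℕ) (h : D_yb q = true) : Just stp tau idx inv RW SW0 PT DT q0 .yb q := (brec (brec (j_0 q) (j_1 q)) (brec (j_2 q) (brec (j_3 q) (j_4 q)))) h
theorem jc_ybi (q : ℕ) (h : D_ybi q = true) : Just stp tau idx inv RW SW0 PT DT q0 .ybi q := (brec (brec (j_5 q) (j_6 q)) (brec (j_7 q) (brec (j_8 q) (j_9 q)))) h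
theorem jc_yc (q : ℕ) (h : D_yc q = true) : Just stp tau idx inv RW SW0 PT DT q0 .yc q := (brec (brec (j_10 q) (j_11 q)) (brec (brec (j_12 q) (j_13 q)) (brec (j_14 q) (j_15 q)))) h
theorem jc_ye (q : ℕ) (h : D_ye q = true) : Just stp tau idx inv RW SW0 PT DT q0 .ye q := (brec (j_16 q) (j_17 q)) h
theorem jc_yf (q : ℕ) (h : D_yf q = true) : Just stp tau idx inv RW SW0 PT DT q0 .yf q := (brec (brec (j_18 q) (j_19 q)) (brec (j_20 q) (brec (j_21 q) (j_22 q)))) h
theorem hE : ∀ q ∈ L.toList, ∀ c, Just stp tau idx inv RW SW0 PT DT q0 c q := by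
  intro q hq c
  cases c
  · exact jc_yb q (cd_yb q hq).2
  · exact jc_ybi q (cd_ybi q hq).2
  · exact jc_yc q (cd_yc q hq).2
  · exact jc_ye q (cd_ye q hq).2
  · exact jc_yf q (cd_yf q hq).2
attribute [local irreducible] L stp tau PT DT
theorem closure_thm {G X : Type*} [Group G] [MulAction G X] (g : Col → G) (x0 : X) (hinv : ∀ c, g (inv c) = (g c)⁻¹)
    (hRW : ∀ w ∈ RW, gw g w = 1) (hSW : ∀ w ∈ SW0, gw g w • x0 = x0) :
    ∃ f : ℕ → X, f q0 = x0 ∧ ∀ q ∈ L.toList, ∀ c, g c • f q = f (stp c q) := by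
  exact closure_sound2 g x0 dec hdec hinv hRW hSW closed.mem pos q0_mem hz hE
universe u
/-- upper bound for a relative index -/
theorem rel_upper {G : Type u} [Group G] (g : Col → G) (hinv : ∀ c, g (inv c) = (g c)⁻¹)
    (hRW : ∀ w ∈ RW, gw g w = 1) (H : Subgroup G) (hSW : ∀ w ∈ SW0, gw g w ∈ H) :
    H.relIndex (genBy g) ≠ 0 ∧ H.relIndex (genBy g) ≤ 72 := by
  rw [← size_L]
  exact relIndex_of_closure closed.mem q0_mem g hinv hRW H hSW (fun X _ x0 h1 h2 h3 => closure_thm (liftGen g) x0 h1 h2 h3)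
end CfsgLib.TCONm
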