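import Cfsg.Agent.EqBase
import Cfsg.Agent.LibMC
import Cfsg.Agent.LibTCONn
import Cfsg.Agent.LibTCONm
import Cfsg.Agent.LibH22SL
import Cfsg.Agent.LibH22Lin
set_option autoImplicit false
set_option linter.all false
set_option maxRecDepth 1000000

/-! The matrix side of `L₃(7)`. -/

namespace CfsgLib.TCONL
open CfsgLib.TC CfsgLib.MC

instance : Fact (Nat.Prime 7) := ⟨by norm_num⟩
abbrev SL := Matrix.SpecialLinearGroup (Fin 3) (ZMod 7)
abbrev PSL := Matrix.ProjectiveSpecialLinearGroup (Fin 3) (ZMod 7)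
abbrev ι7 : ℕ → ZMod 7 := fun a => (a : ZMod 7)
theorem cod7 : Cod (ZMod 7) 7 ι7 (addp 7) (mulp 7) := cod_zmod 7

noncomputable def mY : TCONn.Col → ℕ := fun c => TCONn.Col.rec (motive := fun _ => ℕ) 23072264 11544714 23542004 34603213 970758 34591213 c

noncomputable abbrev MY (c : TCONn.Col) : Matrix (Fin 3) (Fin 3) (ZMod 7) := toM 7 ι7 3 (mY c)

theorem det_Y (c : TCONn.Col) : (MY c).det = 1 := by
  cases c <;> · rw [Matrix.det_fin_three]; decide +kernel

noncomputable def Y (c : TCONn.Col) : SL := ⟨MY c, det_Y c⟩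

/-- coercion as a homomorphism -/
def co : SL →* Matrix (Fin 3) (Fin 3) (ZMod 7) where
  toFun A := A.1
  map_one' := rfl
  map_mul' _ _ := rfl

theorem co_Y (w : List TCONn.Col) : (gw Y w : SL).1 = toM 7 ι7 3 (gwC 7 (addp 7) (mulp 7) 3 mY w) :=
  gwC_spec cod7 co Y mY (fun _ => rfl) w

theorem mk_eq_of_smul {A B : SL} (s : ZMod 7) (hs : s ^ 3 = 1) (h : A.1 = s • B.1) : (QuotientGroup.mk A : PSL) = QuotientGroup.mk B := by
  rw [QuotientGroup.eq, Matrix.SpecialLinearGroup.mem_center_iff]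
  have hs0 : s ≠ 0 := by rintro rfl; norm_num at hs
  refine ⟨s⁻¹, by rw [Fintype.card_fin, inv_pow, hs, inv_one], ?_⟩
  have h1 : (A⁻¹ * B).1 = s⁻¹ • (1 : Matrix (Fin 3) (Fin 3) (ZMod 7)) := by
    have h2 : B.1 = s⁻¹ • A.1 := by rw [h, smul_smul, inv_mul_cancel₀ hs0, one_smul]
    rw [Matrix.SpecialLinearGroup.coe_mul, h2, Matrix.mul_smul, ← Matrix.SpecialLinearGroup.coe_mul, inv_mul_cancel]
    rfl
  rw [h1, Matrix.scalar_apply, Matrix.smul_one_eq_diagonal]

noncomputable def PY (c : TCONn.Col) : PSL := QuotientGroup.mk (Y c)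

theorem gw_PY (w : List TCONn.Col) : gw PY w = QuotientGroup.mk (gw Y w) := (map_gw (QuotientGroup.mk' _) Y w).symm

/-- the word is scalar -/
noncomputable def scw (w : List TCONn.Col) (B : ℕ) : Bool :=
  Bool.rec (motive := fun _ => Bool)
   (Bool.rec (motive := fun _ => Bool)
     (Nat.beq (gwC 7 (addp 7) (mulp 7) 3 mY w) (mulC 7 (addp 7) (mulp 7) 3 (scC 7 3 4) B)) true
     (Nat.beq (gwC 7 (addp 7) (mulp 7) 3 mY w) (mulC 7 (addp 7) (mulp 7) 3 (scC 7 3 2) B))) true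
    (Nat.beq (gwC 7 (addp 7) (mulp 7) 3 mY w) (mulC 7 (addp 7) (mulp 7) 3 (scC 7 3 1) B))

theorem scw_sound {w : List TCONn.Col} {B : ℕ} (h : scw w B = true) : ∃ s : ZMod 7, s ^ 3 = 1 ∧ (gw Y w : SL).1 = s • toM 7 ι7 3 B := by
  have key : ∀ s : ℕ, s < 7 → Nat.beq (gwC 7 (addp 7) (mulp 7) 3 mY w) (mulC 7 (addp 7) (mulp 7) 3 (scC 7 3 s) B) = true →
      (gw Y w : SL).1 = (s : ZMod 7) • toM 7 ι7 3 B := by
    intro s hs h
    rw [co_Y, Nat.eq_of_beq_eq_true h, toM_mul cod7, toM_sc cod7 hs, Matrix.smul_mul, one_mul]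
  unfold scw at h
  cases h1 : Nat.beq (gwC 7 (addp 7) (mulp 7) 3 mY w) (mulC 7 (addp 7) (mulp 7) 3 (scC 7 3 1) B)
  · rw [h1] at h
    cases h2 : Nat.beq (gwC 7 (addp 7) (mulp 7) 3 mY w) (mulC 7 (addp 7) (mulp 7) 3 (scC 7 3 2) B)
    · rw [h2] at h
      exact ⟨_, by decide, key 4 (by norm_num) h⟩
    · exact ⟨_, by decide, key 2 (by norm_num) h2⟩
  · exact ⟨_, by decide, key 1 (by norm_num) h1⟩

theorem rel_chk : lall (fun w => scw w (scC 7 3 1)) TCONn.RW = true := by decide +kernel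

theorem PY_RW : ∀ w ∈ TCONn.RW, gw PY w = 1 := by
  intro w hw
  obtain ⟨s, hs, h⟩ := scw_sound ((lall_iff _ _).1 rel_chk w hw)
  rw [gw_PY, ← QuotientGroup.mk_one]
  apply mk_eq_of_smul s hs
  rw [h, toM_one cod7]
  rfl

theorem inv_words : ∀ c : TCONn.Col, [c, TCONn.inv c] ∈ TCONn.RW ∨ [TCONn.inv c, c] ∈ TCONn.RW := by
  intro c
  cases c <;> simp [TCONn.RW, TCONn.inv]

theorem inv_of_RW {G : Type*} [Group G] (g : TCONn.Col → G) (h : ∀ w ∈ TCONn.RW, gw g w = 1) (c : TCONn.Col) :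
    g (TCONn.inv c) = (g c)⁻¹ := by
  rcases inv_words c with h1 | h1
  · have := h _ h1
    simp only [gw_cons, gw_nil, one_mul] at this
    exact eq_inv_of_mul_eq_one_left this
  · have := h _ h1
    simp only [gw_cons, gw_nil, one_mul] at this
    exact eq_inv_of_mul_eq_one_right this

/-! ### the upper bound for groups satisfying the relations -/

def embm : TCONm.Col → TCONn.Col
  | .yb => .yb
  | .ybi => .ybi
  | .yc => .yc
  | .ye => .ye
  | .yf => .yf

noncomputable instance decCol : DecidableEq TCONn.Col := fun x y =>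
  decidable_of_iff (TCONn.idx x = TCONn.idx y) ⟨fun h => by rw [← TCONn.hdec x, ← TCONn.hdec y, h], fun h => by rw [h]⟩

theorem embm_RW : ∀ w ∈ TCONm.RW, w.map embm ∈ TCONn.RW := by decide +kernel

theorem card_le {G : Type*} [Group G] (g : TCONn.Col → G) (h : ∀ w ∈ TCONn.RW, gw g w = 1) :
    Nat.card (genBy g) ≠ 0 ∧ Nat.card (genBy g) ≤ 1876896 := by
  have hinv := inv_of_RW g h
  have hle : genBy (fun c => g (embm c)) ≤ genBy g := by
    unfold genBy
    rw [Subgroup.closure_le]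
    rintro _ ⟨c, rfl⟩
    exact Subgroup.subset_closure ⟨embm c, rfl⟩
  have h1 : Nat.card (genBy (fun c => g (embm c))) ≠ 0 ∧ Nat.card (genBy (fun c => g (embm c))) ≤ 72 := by
    apply card_of_bot
    apply TCONm.rel_upper (fun c => g (embm c))
    · intro c
      rw [← hinv]
      cases c <;> rfl
    · intro w hw
      rw [← gw_map g embm w]
      exact h _ (embm_RW w hw)
    · intro w hw
      exact absurd hw (by simp [TCONm.SW0])
  refine card_chain hle (TCONn.rel_upper g hinv h _ ?_) h1 (by norm_num)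
  intro w hw
  simp only [TCONn.SW0, List.mem_cons, List.not_mem_nil, or_false] at hw
  rcases hw with rfl | rfl | rfl | rfl <;> rw [gw_cons, gw_nil, one_mul] <;> apply Subgroup.subset_closure
  exacts [⟨.yb, rfl⟩, ⟨.yc, rfl⟩, ⟨.ye, rfl⟩, ⟨.yf, rfl⟩]

/-! ### transvections -/

theorem tv_pow {i j : Fin 3} (hij : i ≠ j) (n : ℕ) :
    (Matrix.SpecialLinearGroup.transvection hij (1 : ZMod 7)) ^ n = Matrix.SpecialLinearGroup.transvection hij (n : ZMod 7) := by
  induction n with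
  | zero => rw [pow_zero, Nat.cast_zero, Matrix.SpecialLinearGroup.transvection_coeff_zero]
  | succ n ih =>
    rw [pow_succ, ih]
    apply Subtype.ext
    show Matrix.transvection i j (n : ZMod 7) * Matrix.transvection i j (1 : ZMod 7) = Matrix.transvection i j ((n + 1 : ℕ) : ZMod 7)
    rw [Matrix.transvection_mul_transvection_same _ _ hij]
    push_cast
    rfl

/-- code of the elementary transvection -/
noncomputable def tvC (i j : ℕ) : ℕ := Nat.add (scC 7 3 1) (Nat.pow 7 (Nat.add (Nat.mul 3 i) j))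

theorem tv_code : ∀ i j : Fin 3, i ≠ j → toM 7 ι7 3 (tvC i.1 j.1) = Matrix.transvection i j (1 : ZMod 7) := by
  decide +kernel

theorem range_top {N : Type*} [Group N] (χ : N →* PSL) (g : TCONn.Col → N) (hg : ∀ c, χ (g c) = PY c) : Function.Surjective χ := by
  have hw : ∀ w : List TCONn.Col, gw PY w ∈ χ.range := by
    intro w
    refine ⟨gw g w, ?_⟩
    rw [map_gw]
    congr 1
    exact funext hg
  have h1 : ∀ i j : Fin 3, i ≠ j → ∃ w : List TCONn.Col, scw w (tvC i.1 j.1) = true := by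
    intro i j hij
    fin_cases i <;> fin_cases j
    · exact absurd rfl hij
    · exact ⟨[.ybi, .yc, .ye, .yf, .yd, .ye, .yc, .yd, .yb, .yc, .yd, .ye, .yb, .yc, .yd, .yc, .yd, .ye, .yf, .ybi], by decide +kernel⟩
    · exact ⟨[.yb, .ye, .yd, .yc, .ybi, .yd, .yc, .ye, .yd, .yc, .ybi, .yd, .yc, .yd, .ye, .yc, .yd, .yc, .yd, .ye, .yf, .yb, .yc, .yd, .ye, .yc, .yd, .yb], by decide +kernel⟩
    · exact ⟨[.ybi, .yc, .ye, .yf, .yd, .ye, .yd, .yc, .yd, .ybi, .yc, .yd, .ye, .ybi, .yc, .yd, .yc, .yd, .ye, .ybi], by decide +kernel⟩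
    · exact absurd rfl hij
    · exact ⟨[.yc, .ybi, .yd, .yc, .yb, .ye, .yd, .yf, .ye, .yd, .yc, .yd, .ybi, .yc, .yd, .ye, .ybi, .yc, .yd, .yc, .yd, .ye, .ybi, .yc, .yd, .yc], by decide +kernel⟩
    · exact ⟨[.yb, .yd, .ye, .yd, .yc, .yb, .yd, .yc, .ye, .yd, .yc, .yd, .ybi, .yc, .yd, .ye, .yc, .yd, .yc, .yd, .ye, .yf, .ybi, .yc, .yd, .ye, .yc, .yb], by decide +kernel⟩
    · exact ⟨[.yc, .ybi, .yd, .yc, .yb, .ye, .yd, .yc, .ybi, .yf, .ye, .yd, .yc, .yd, .ye, .yb, .yc, .yd, .yc, .yd, .ye, .yf, .ybi, .yc, .yd, .yc], by decide +kernel⟩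
    · exact absurd rfl hij
  have h2 : ∀ (i j : Fin 3) (hij : i ≠ j) (c : ZMod 7), (QuotientGroup.mk (Matrix.SpecialLinearGroup.transvection hij c) : PSL) ∈ χ.range := by
    intro i j hij c
    obtain ⟨w, hw'⟩ := h1 i j hij
    obtain ⟨s, hs, h3⟩ := scw_sound hw'
    rw [tv_code i j hij] at h3
    have h4 : (QuotientGroup.mk (gw Y w) : PSL) = QuotientGroup.mk (Matrix.SpecialLinearGroup.transvection hij (1 : ZMod 7)) :=
      mk_eq_of_smul s hs h3
    have h5 : c = ((c.val : ℕ) : ZMod 7) := (ZMod.natCast_zmod_val c).symm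
    rw [h5, ← tv_pow hij, QuotientGroup.mk_pow, ← h4, ← gw_PY]
    exact Subgroup.pow_mem _ (hw w) _
  intro q
  obtain ⟨A, rfl⟩ := QuotientGroup.mk_surjective q
  show (QuotientGroup.mk A : PSL) ∈ χ.range
  exact Cfsg.Agent.H22.SLn.transvection_induction (fun A => (QuotientGroup.mk A : PSL) ∈ χ.range) h2
    (fun A B hA hB => by rw [QuotientGroup.mk_mul]; exact Subgroup.mul_mem _ hA hB) A

theorem card_PSL : Nat.card PSL = 1876896 := by
  have h1 := Cfsg.Agent.H22.card_SL (F := ZMod 7) (ZMod.card 7) 3 (by norm_num)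
  have h2 := Cfsg.Agent.H22.card_center_SL (F := ZMod 7) 3 (by norm_num)
  have h3 := Subgroup.card_mul_index (Subgroup.center SL)
  have h5 : Nat.gcd 3 (Fintype.card (ZMod 7) - 1) = 3 := by rw [ZMod.card]; norm_num
  rw [h2, h5] at h3
  rw [Fin.prod_univ_three, show ((7:ℕ) ^ 3 - 7 ^ ((0 : Fin 3) : ℕ)) * (7 ^ 3 - 7 ^ ((1 : Fin 3) : ℕ)) *
    (7 ^ 3 - 7 ^ ((2 : Fin 3) : ℕ)) = 33784128 by norm_num, show 7 - 1 = 6 from rfl] at h1
  have h4 : Nat.card PSL = (Subgroup.center SL).index := rfl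
  rw [h4]
  have h7 : 6 * Nat.card SL = 33784128 := h1
  omega


/-! ### a class function -/

/-- traces cubed -/
theorem trace_cube {A B : SL} (h : (QuotientGroup.mk A : PSL) = QuotientGroup.mk B) : A.1.trace ^ 3 = B.1.trace ^ 3 := by
  rw [QuotientGroup.eq, Matrix.SpecialLinearGroup.mem_center_iff] at h
  obtain ⟨r, hr, h1⟩ := h
  have h2 : B = A * (A⁻¹ * B) := by rw [mul_inv_cancel_left]
  have h3 : B.1 = A.1 * (A⁻¹ * B).1 := by
    conv_lhs => rw [h2]
    rfl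
  rw [h3, ← h1, Matrix.scalar_apply, ← Matrix.smul_one_eq_diagonal, Matrix.mul_smul, mul_one, Matrix.trace_smul, smul_eq_mul, mul_pow]
  rw [Fintype.card_fin] at hr
  rw [hr, one_mul]

theorem conj_cube {A B C : SL} (h : (QuotientGroup.mk C : PSL) * QuotientGroup.mk A * (QuotientGroup.mk C)⁻¹ = QuotientGroup.mk B) :
    A.1.trace ^ 3 = B.1.trace ^ 3 := by
  have h1 : (QuotientGroup.mk (C * A * C⁻¹) : PSL) = QuotientGroup.mk B := h
  rw [← trace_cube h1]
  congr 1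
  show A.1.trace = (C.1 * A.1 * (C⁻¹).1).trace
  rw [Matrix.trace_mul_comm, ← mul_assoc]
  have : (C⁻¹).1 * C.1 = 1 := by
    have : (C⁻¹ * C).1 = 1 := by rw [inv_mul_cancel]; rfl
    exact this
  rw [this, one_mul]

theorem simple_PSL : IsSimpleGroup PSL := Cfsg.Agent.H22.PSLn_simple (by rw [Fintype.card_fin])

end CfsgLib.TCONL
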