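import Cfsg.Agent.EqBase
import Cfsg.Agent.LibTCONL
import Cfsg.Agent.LibTCONF
set_option autoImplicit false
set_option linter.all false
set_option maxRecDepth 1000000

/-! The subgroup `L₃(7)` of the O'Nan group. -/

namespace CfsgLib.TCON
open CfsgLib.TC CfsgLib.MC Cfsg.Spor

/-- signed letters -/
inductive C10 where
  | yb | ybi | yc | yci | yd | ydi | ye | yei | yf | yfi

def to6 : C10 → TCONn.Col
  | .yb => .yb
  | .ybi => .ybi
  | .yc => .yc
  | .yci => .yc
  | .yd => .yd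
  | .ydi => .yd
  | .ye => .ye
  | .yei => .ye
  | .yf => .yf
  | .yfi => .yf

def sb10 : C10 → List TCONb.Col
  | .yb => [.b, .a]
  | .ybi => [.a, .b]
  | .yc => [.c, .a]
  | .yci => [.a, .c]
  | .yd => [.d, .a]
  | .ydi => [.a, .d]
  | .ye => [.e, .a]
  | .yei => [.a, .e]
  | .yf => [.f, .a]
  | .yfi => [.a, .f]

def RS : List (List C10) := [[.yb, .yb, .yb],
  [.yc, .yc],
  [.yd, .yd],
  [.ye, .ye],
  [.yf, .yf],
  [.yc, .ybi, .yc, .ybi, .yc, .ybi],
  [.yci, .yb, .yci, .yb, .yci, .yb],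
  [.yd, .ybi, .yd, .ybi],
  [.ydi, .yb, .ydi, .yb],
  [.ye, .ybi, .ye, .ybi],
  [.yei, .yb, .yei, .yb],
  [.yf, .ybi, .yf, .ybi],
  [.yfi, .yb, .yfi, .yb],
  [.yd, .yci, .yd, .yci, .yd, .yci, .yd, .yci, .yd, .yci, .yd, .yci, .yd, .yci, .yd, .yci],
  [.ye, .yci, .ye, .yci],
  [.yf, .yci, .yf, .yci],
  [.ye, .ydi, .ye, .ydi, .ye, .ydi],
  [.yf, .ydi, .yf, .ydi],
  [.yf, .yei, .yf, .yei, .yf, .yei],
  [.yc, .ydi, .yc, .ydi, .yc, .ydi, .yc, .ydi, .yf],
  [.yb, .ybi],
  [.ybi, .yb]]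

noncomputable instance decColb : DecidableEq TCONb.Col := fun x y =>
  decidable_of_iff (TCONb.idx x = TCONb.idx y) ⟨fun h => by rw [← TCONb.hdec x, ← TCONb.hdec y, h], fun h => by rw [h]⟩

theorem rs_eq : TCONn.RW = RS.map (fun w => w.map to6) := rfl

theorem rs_red : ∀ w ∈ RS, redI TCONb.idx (w.flatMap sb10) = [] ∨ redI TCONb.idx (w.flatMap sb10) ∈ TCONb.RW ∨
    ∃ r ∈ TCONb.RW, redI TCONb.idx (w.flatMap sb10) = redI TCONb.idx (.a :: (r ++ [.a])) := by decide +kernel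

section
variable {G : Type*} [Group G] (p : TCONb.Col → G) (hp : ∀ w ∈ TCONb.RW, gw p w = 1)
include hp

theorem p_sq (c : TCONb.Col) : p c * p c = 1 := by
  have h : [c, c] ∈ TCONb.RW := by cases c <;> simp [TCONb.RW]
  have := hp _ h
  simpa only [gw_cons, gw_nil, one_mul] using this

theorem gw10 : ∀ w ∈ RS, gw (fun c => gw p (sb10 c)) w = 1 := by
  intro w hw
  rw [← gw_flat, ← gw_redI TCONb.dec TCONb.hdec p (p_sq p hp)]
  rcases rs_red w hw with h | h | ⟨r, hr, h⟩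
  · rw [h]; rfl
  · exact hp _ h
  · rw [h, gw_redI TCONb.dec TCONb.hdec p (p_sq p hp), gw_cons, gw_append, hp _ hr, gw_cons, gw_nil, one_mul, mul_one]
    exact p_sq p hp _

/-- the letters `y_x = a x` -/
def yy {G : Type*} [Group G] (p : TCONb.Col → G) : TCONn.Col → G
  | .yb => gw p [.b, .a]
  | .ybi => gw p [.a, .b]
  | .yc => gw p [.c, .a]
  | .yd => gw p [.d, .a]
  | .ye => gw p [.e, .a]
  | .yf => gw p [.f, .a]

theorem comm_of (x y : TCONb.Col) (h : [y, x, y, x] ∈ TCONb.RW) : p x * p y = p y * p x := by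
  have h1 := hp _ h
  simp only [gw_cons, gw_nil, one_mul] at h1
  have hx := p_sq p hp x
  have hy := p_sq p hp y
  calc p x * p y = p x * p y * (p x * p y) * (p y * p x) := by
        rw [mul_assoc (p x * p y), mul_assoc (p x) (p y) (p y * p x), ← mul_assoc (p y) (p y) (p x), hy, one_mul, hx, mul_one]
    _ = p y * p x := by
        rw [show p x * p y * (p x * p y) = p x * p y * p x * p y by group, h1, one_mul]

theorem yy_to6 (c : C10) : yy p (to6 c) = gw p (sb10 c) := by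
  have e : ∀ x : TCONb.Col, [x, .a, x, .a] ∈ TCONb.RW → gw p [x, .a] = gw p [.a, x] := by
    intro x h
    simp only [gw_cons, gw_nil, one_mul]
    exact comm_of p hp _ _ h
  cases c
  · rfl
  · rfl
  · rfl
  · exact e _ (by simp [TCONb.RW])
  · rfl
  · exact e _ (by simp [TCONb.RW])
  · rfl
  · exact e _ (by simp [TCONb.RW])
  · rfl
  · exact e _ (by simp [TCONb.RW])

theorem yy_RW : ∀ w ∈ TCONn.RW, gw (yy p) w = 1 := by
  intro w hw
  rw [rs_eq, List.mem_map] at hw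
  obtain ⟨v, hv, rfl⟩ := hw
  rw [gw_map]
  have h := gw10 p hp v hv
  have e : (fun c => yy p (to6 c)) = fun c => gw p (sb10 c) := funext (yy_to6 p hp)
  rw [e]; exact h

end

abbrev Pb : TCONb.Col → ON := TCONb.Pc PresentedGroup.of

theorem Pb_RW : ∀ w ∈ TCONb.RW, gw Pb w = 1 :=
  fun w hw => (TCONb.rw_mem w hw).elim (TCONb.Pc_RW TCG_ON.hsat w) (fun h => absurd h (by simp [TCONb.RWe]))

theorem H_gen : TCON.H = genBy Pb := by
  rw [TCON.H_eq]
  apply le_antisymm
  · rw [Subgroup.closure_le]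
    rintro _ ⟨w, hw, rfl⟩
    simp only [TCON.SW0, List.mem_cons, List.not_mem_nil, or_false] at hw
    rcases hw with rfl | rfl | rfl | rfl | rfl | rfl <;> rw [gw_cons, gw_nil, one_mul] <;> apply Subgroup.subset_closure
    exacts [⟨.a, rfl⟩, ⟨.b, rfl⟩, ⟨.c, rfl⟩, ⟨.d, rfl⟩, ⟨.e, rfl⟩, ⟨.f, rfl⟩]
  · unfold genBy
    rw [Subgroup.closure_le]
    rintro _ ⟨c, rfl⟩
    have e : ∀ x : TCG_ON.Col, [x] ∈ TCON.SW0 → TCG_ON.P x ∈ Subgroup.closure {x | ∃ w ∈ TCON.SW0, gw TCG_ON.P w = x} := by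
      intro x hx
      exact Subgroup.subset_closure ⟨_, hx, by rw [gw_cons, gw_nil, one_mul]⟩
    cases c
    · exact e .a (by simp [TCON.SW0])
    · exact e .b (by simp [TCON.SW0])
    · exact e .c (by simp [TCON.SW0])
    · exact e .d (by simp [TCON.SW0])
    · exact e .e (by simp [TCON.SW0])
    · exact e .f (by simp [TCON.SW0])

theorem card_H : Nat.card TCON.H = 3753792 := by
  have h1 := Subgroup.card_mul_index TCON.H
  rw [TCON.main.1, order_main.1] at h1
  omega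

/-- the subgroup `L₃(7)` -/
noncomputable def NN : Subgroup ON := genBy (yy Pb)

theorem NN_le : NN ≤ TCON.H := by
  unfold NN genBy
  rw [Subgroup.closure_le, H_gen]
  have e : ∀ w : List TCONb.Col, gw Pb w ∈ genBy Pb := gw_mem_genBy Pb
  rintro _ ⟨c, rfl⟩
  cases c <;> exact e _

theorem NN_card_le : Nat.card NN ≠ 0 ∧ Nat.card NN ≤ 1876896 := TCONL.card_le _ (yy_RW Pb Pb_RW)

/-- letters in terms of `y` -/
theorem letter_mul (x : TCONb.Col) : ∀ n ∈ NN, (∃ m ∈ NN, Pb x * n = Pb .a * m) ∧ (∃ m ∈ NN, Pb x * (Pb .a * n) = m) := by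
  intro n hn
  have ha := p_sq Pb Pb_RW .a
  have hx := p_sq Pb Pb_RW x
  have h1 : Pb .a * Pb x ∈ NN := by
    have e : ∀ c : TCONn.Col, yy Pb c ∈ NN := fun c => Subgroup.subset_closure ⟨c, rfl⟩
    cases x
    · rw [ha]; exact Subgroup.one_mem _
    · have := e .yb; simpa only [yy, gw_cons, gw_nil, one_mul] using this
    · have := e .yc; simpa only [yy, gw_cons, gw_nil, one_mul] using this
    · have := e .yd; simpa only [yy, gw_cons, gw_nil, one_mul] using this
    · have := e .ye; simpa only [yy, gw_cons, gw_nil, one_mul] using this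
    · have := e .yf; simpa only [yy, gw_cons, gw_nil, one_mul] using this
  constructor
  · refine ⟨Pb .a * Pb x * n, NN.mul_mem h1 hn, ?_⟩
    rw [← mul_assoc, ← mul_assoc, ha, one_mul]
  · refine ⟨_, ?_, rfl⟩
    have h2 : (Pb .a * Pb x)⁻¹ = Pb x * Pb .a := by
      rw [mul_inv_rev, inv_eq_of_mul_eq_one_left ha, inv_eq_of_mul_eq_one_left hx]
    rw [← mul_assoc, ← h2]
    exact NN.mul_mem (NN.inv_mem h1) hn

theorem H_cover : ∀ h ∈ TCON.H, h ∈ NN ∨ ∃ m ∈ NN, h = Pb .a * m := by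
  intro h hh
  rw [H_gen] at hh
  unfold genBy at hh
  induction hh using Subgroup.closure_induction_left with
  | one => exact Or.inl NN.one_mem
  | mul_left x hx y hy ih =>
    obtain ⟨c, rfl⟩ := hx
    rcases ih with h1 | ⟨m, hm, h1⟩
    · right
      obtain ⟨⟨m, hm, h2⟩, _⟩ := letter_mul c y h1
      exact ⟨m, hm, h2⟩
    · left
      obtain ⟨_, ⟨m', hm', h2⟩⟩ := letter_mul c m hm
      rw [h1, h2]; exact hm'
  | inv_mul_cancel x hx y hy ih =>
    obtain ⟨c, rfl⟩ := hx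
    rw [inv_eq_of_mul_eq_one_left (p_sq Pb Pb_RW c)]
    rcases ih with h1 | ⟨m, hm, h1⟩
    · right
      obtain ⟨⟨m, hm, h2⟩, _⟩ := letter_mul c y h1
      exact ⟨m, hm, h2⟩
    · left
      obtain ⟨_, ⟨m', hm', h2⟩⟩ := letter_mul c m hm
      rw [h1, h2]; exact hm'

theorem card_H_le : Nat.card TCON.H ≤ Nat.card NN + Nat.card NN := by
  have : Finite ON := finite_ON
  have h1 : (TCON.H : Set ON) ⊆ (NN : Set ON) ∪ (fun m => Pb .a * m) '' (NN : Set ON) := by
    intro h hh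
    rcases H_cover h hh with h2 | ⟨m, hm, h2⟩
    · exact Or.inl h2
    · exact Or.inr ⟨m, hm, h2.symm⟩
  have h2 := Set.ncard_le_ncard h1 (Set.toFinite _)
  have h3 := Set.ncard_union_le (NN : Set ON) ((fun m => Pb .a * m) '' (NN : Set ON))
  have h4 := Set.ncard_image_le (f := fun m => Pb .a * m) (Set.toFinite (NN : Set ON))
  have e1 : Nat.card TCON.H = (TCON.H : Set ON).ncard := rfl
  have e2 : Nat.card NN = (NN : Set ON).ncard := rfl
  omega

theorem card_NN : Nat.card NN = 1876896 := by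
  have h1 := card_H_le
  have h2 := NN_card_le.2
  rw [card_H] at h1
  omega

theorem NN_index : (NN.subgroupOf TCON.H).index = 2 := by
  have h1 := Subgroup.card_mul_index (NN.subgroupOf TCON.H)
  rw [Nat.card_congr (Subgroup.subgroupOfEquivOfLe NN_le).toEquiv, card_NN, card_H] at h1
  omega

noncomputable def gNN (c : TCONn.Col) : NN := ⟨yy Pb c, Subgroup.subset_closure ⟨c, rfl⟩⟩

theorem gNN_top : genBy gNN = ⊤ := by
  have h := Subgroup.closure_closure_coe_preimage (k := Set.range (yy Pb))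
  have e : Set.range gNN = ((↑) : NN → ON) ⁻¹' (Set.range (yy Pb)) := by
    ext x
    constructor
    · rintro ⟨c, rfl⟩; exact ⟨c, rfl⟩
    · rintro ⟨c, hc⟩; exact ⟨c, Subtype.ext hc⟩
  unfold genBy
  rw [e]; exact h

theorem gNN_RW : ∀ w ∈ TCONn.RW, gw gNN w = 1 := by
  intro w hw
  apply Subtype.ext
  have h : (gw gNN w : NN).1 = gw (fun c => (gNN c).1) w := map_gw NN.subtype gNN w
  rw [h]
  exact yy_RW Pb Pb_RW w hw

theorem chi_exists : ∃ χ : NN →* TCONL.PSL, ∀ c, χ (gNN c) = TCONL.PY c := by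
  have : Finite NN := Nat.finite_of_card_ne_zero (by rw [card_NN]; norm_num)
  apply exists_hom gNN gNN_top TCONL.PY
  rw [card_NN]
  apply TCONL.card_le
  intro w hw
  rw [gw_prod, gNN_RW w hw, TCONL.PY_RW w hw]
  rfl

theorem NN_iso : Nonempty (NN ≃* TCONL.PSL) := by
  have : Finite NN := Nat.finite_of_card_ne_zero (by rw [card_NN]; norm_num)
  obtain ⟨χ, hχ⟩ := chi_exists
  have h1 := TCONL.range_top χ gNN hχ
  have h2 : Function.Bijective χ := by
    have : Finite TCONL.PSL := Finite.of_surjective χ h1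
    rw [Nat.bijective_iff_surjective_and_card]
    exact ⟨h1, by rw [card_NN, TCONL.card_PSL]⟩
  exact ⟨MulEquiv.ofBijective χ h2⟩

theorem H_main : ∃ N : Subgroup TCON.H, N.Normal ∧ N.index = 2 ∧ Nonempty (N ≃* TCONL.PSL) := by
  refine ⟨NN.subgroupOf TCON.H, Subgroup.normal_of_index_eq_two NN_index, NN_index, ?_⟩
  obtain ⟨e⟩ := NN_iso
  exact ⟨(Subgroup.subgroupOfEquivOfLe NN_le).trans e⟩

end CfsgLib.TCON
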