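import Cfsg.Agent.EqBase
import Cfsg.Agent.LibTCONOD
set_option autoImplicit false
set_option linter.all false
set_option maxRecDepth 1000000
set_option maxHeartbeats 0
namespace CfsgLib.TCON
open CfsgLib.TC Cfsg.Spor CfsgLib.TCG_ON
theorem iv_0 : Tr.all IV L_0 = true := by decide +kernel
theorem iv_3 : Tr.all IV L_3 = true := by decide +kernel
theorem iv_6 : Tr.all IV L_6 = true := by decide +kernel
theorem iv_9 : Tr.all IV L_9 = true := by decide +kernel
theorem iv_12 : Tr.all IV L_12 = true := by decide +kernel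
theorem iv_15 : Tr.all IV L_15 = true := by decide +kernel
theorem iv_18 : Tr.all IV L_18 = true := by decide +kernel
theorem iv_21 : Tr.all IV L_21 = true := by decide +kernel
theorem iv_24 : Tr.all IV L_24 = true := by decide +kernel
theorem iv_27 : Tr.all IV L_27 = true := by decide +kernel
theorem ht_1 : Tr.all (treeQ mt (fun q => Nat.beq (RP (OB q)) q) wsH HP HR HW) L_1 = true := by decide +kernel
theorem ht_4 : Tr.all (treeQ mt (fun q => Nat.beq (RP (OB q)) q) wsH HP HR HW) L_4 = true := by decide +kernel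
theorem ht_7 : Tr.all (treeQ mt (fun q => Nat.beq (RP (OB q)) q) wsH HP HR HW) L_7 = true := by decide +kernel
theorem ht_10 : Tr.all (treeQ mt (fun q => Nat.beq (RP (OB q)) q) wsH HP HR HW) L_10 = true := by decide +kernel
theorem ht_13 : Tr.all (treeQ mt (fun q => Nat.beq (RP (OB q)) q) wsH HP HR HW) L_13 = true := by decide +kernel
theorem ht_16 : Tr.all (treeQ mt (fun q => Nat.beq (RP (OB q)) q) wsH HP HR HW) L_16 = true := by decide +kernel
theorem ht_19 : Tr.all (treeQ mt (fun q => Nat.beq (RP (OB q)) q) wsH HP HR HW) L_19 = true := by decide +kernel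
theorem ht_22 : Tr.all (treeQ mt (fun q => Nat.beq (RP (OB q)) q) wsH HP HR HW) L_22 = true := by decide +kernel
theorem ht_25 : Tr.all (treeQ mt (fun q => Nat.beq (RP (OB q)) q) wsH HP HR HW) L_25 = true := by decide +kernel
theorem ht_28 : Tr.all (treeQ mt (fun q => Nat.beq (RP (OB q)) q) wsH HP HR HW) L_28 = true := by decide +kernel
theorem cn_3_0 : cnt OB 3 L_0 = 1390 := by decide +kernel
theorem cn_2_1 : cnt OB 2 L_1 = 296 := by decide +kernel
theorem cn_1_2 : cnt OB 1 L_2 = 209 := by decide +kernel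
theorem cn_4_2 : cnt OB 4 L_2 = 1792 := by decide +kernel
theorem cn_3_3 : cnt OB 3 L_3 = 1928 := by decide +kernel
theorem cn_2_4 : cnt OB 2 L_4 = 228 := by decide +kernel
theorem cn_1_5 : cnt OB 1 L_5 = 203 := by decide +kernel
theorem cn_4_5 : cnt OB 4 L_5 = 1832 := by decide +kernel
theorem cn_3_6 : cnt OB 3 L_6 = 1982 := by decide +kernel
theorem cn_2_7 : cnt OB 2 L_7 = 260 := by decide +kernel
theorem cn_1_8 : cnt OB 1 L_8 = 199 := by decide +kernel
theorem cn_4_8 : cnt OB 4 L_8 = 1850 := by decide +kernel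
theorem cn_3_9 : cnt OB 3 L_9 = 2036 := by decide +kernel
theorem cn_2_10 : cnt OB 2 L_10 = 222 := by decide +kernel
theorem cn_1_11 : cnt OB 1 L_11 = 179 := by decide +kernel
theorem cn_4_11 : cnt OB 4 L_11 = 1747 := by decide +kernel
theorem cn_3_12 : cnt OB 3 L_12 = 1916 := by decide +kernel
theorem cn_2_13 : cnt OB 2 L_13 = 224 := by decide +kernel
theorem cn_1_14 : cnt OB 1 L_14 = 168 := by decide +kernel
theorem cn_4_14 : cnt OB 4 L_14 = 1995 := by decide +kernel
theorem cn_3_15 : cnt OB 3 L_15 = 1759 := by decide +kernel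
theorem cn_2_16 : cnt OB 2 L_16 = 74 := by decide +kernel
theorem cn_1_17 : cnt OB 1 L_17 = 176 := by decide +kernel
theorem cn_4_17 : cnt OB 4 L_17 = 1941 := by decide +kernel
theorem cn_3_18 : cnt OB 3 L_18 = 1859 := by decide +kernel
theorem cn_2_19 : cnt OB 2 L_19 = 197 := by decide +kernel
theorem cn_1_20 : cnt OB 1 L_20 = 186 := by decide +kernel
theorem cn_4_20 : cnt OB 4 L_20 = 1969 := by decide +kernel
theorem cn_3_21 : cnt OB 3 L_21 = 1710 := by decide +kernel
theorem cn_2_22 : cnt OB 2 L_22 = 190 := by decide +kernel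
theorem cn_1_23 : cnt OB 1 L_23 = 180 := by decide +kernel
theorem cn_4_23 : cnt OB 4 L_23 = 2118 := by decide +kernel
theorem cn_3_24 : cnt OB 3 L_24 = 1574 := by decide +kernel
theorem cn_2_25 : cnt OB 2 L_25 = 109 := by decide +kernel
theorem cn_1_26 : cnt OB 1 L_26 = 172 := by decide +kernel
theorem cn_4_26 : cnt OB 4 L_26 = 2165 := by decide +kernel
theorem cn_3_27 : cnt OB 3 L_27 = 1505 := by decide +kernel
theorem cn_2_28 : cnt OB 2 L_28 = 114 := by decide +kernel
theorem cn_1_29 : cnt OB 1 L_29 = 158 := by decide +kernel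
theorem cn_4_29 : cnt OB 4 L_29 = 2618 := by decide +kernel
end CfsgLib.TCON
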