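import Cfsg.Agent.EqBase
import Cfsg.Agent.LibTCONOD
set_option autoImplicit false
set_option linter.all false
set_option maxRecDepth 1000000
set_option maxHeartbeats 0
namespace CfsgLib.TCON
open CfsgLib.TC Cfsg.Spor CfsgLib.TCG_ON
theorem iv_1 : Tr.all IV L_1 = true := by decide +kernel
theorem iv_4 : Tr.all IV L_4 = true := by decide +kernel
theorem iv_7 : Tr.all IV L_7 = true := by decide +kernel
theorem iv_10 : Tr.all IV L_10 = true := by decide +kernel
theorem iv_13 : Tr.all IV L_13 = true := by decide +kernel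
theorem iv_16 : Tr.all IV L_16 = true := by decide +kernel
theorem iv_19 : Tr.all IV L_19 = true := by decide +kernel
theorem iv_22 : Tr.all IV L_22 = true := by decide +kernel
theorem iv_25 : Tr.all IV L_25 = true := by decide +kernel
theorem iv_28 : Tr.all IV L_28 = true := by decide +kernel
theorem ht_2 : Tr.all (treeQ mt (fun q => Nat.beq (RP (OB q)) q) wsH HP HR HW) L_2 = true := by decide +kernel
theorem ht_5 : Tr.all (treeQ mt (fun q => Nat.beq (RP (OB q)) q) wsH HP HR HW) L_5 = true := by decide +kernel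
theorem ht_8 : Tr.all (treeQ mt (fun q => Nat.beq (RP (OB q)) q) wsH HP HR HW) L_8 = true := by decide +kernel
theorem ht_11 : Tr.all (treeQ mt (fun q => Nat.beq (RP (OB q)) q) wsH HP HR HW) L_11 = true := by decide +kernel
theorem ht_14 : Tr.all (treeQ mt (fun q => Nat.beq (RP (OB q)) q) wsH HP HR HW) L_14 = true := by decide +kernel
theorem ht_17 : Tr.all (treeQ mt (fun q => Nat.beq (RP (OB q)) q) wsH HP HR HW) L_17 = true := by decide +kernel
theorem ht_20 : Tr.all (treeQ mt (fun q => Nat.beq (RP (OB q)) q) wsH HP HR HW) L_20 = true := by decide +kernel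
theorem ht_23 : Tr.all (treeQ mt (fun q => Nat.beq (RP (OB q)) q) wsH HP HR HW) L_23 = true := by decide +kernel
theorem ht_26 : Tr.all (treeQ mt (fun q => Nat.beq (RP (OB q)) q) wsH HP HR HW) L_26 = true := by decide +kernel
theorem ht_29 : Tr.all (treeQ mt (fun q => Nat.beq (RP (OB q)) q) wsH HP HR HW) L_29 = true := by decide +kernel
theorem cn_2_0 : cnt OB 2 L_0 = 490 := by decide +kernel
theorem cn_1_1 : cnt OB 1 L_1 = 205 := by decide +kernel
theorem cn_4_1 : cnt OB 4 L_1 = 1762 := by decide +kernel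
theorem cn_3_2 : cnt OB 3 L_2 = 1901 := by decide +kernel
theorem cn_2_3 : cnt OB 2 L_3 = 244 := by decide +kernel
theorem cn_1_4 : cnt OB 1 L_4 = 201 := by decide +kernel
theorem cn_4_4 : cnt OB 4 L_4 = 1713 := by decide +kernel
theorem cn_3_5 : cnt OB 3 L_5 = 1930 := by decide +kernel
theorem cn_2_6 : cnt OB 2 L_6 = 208 := by decide +kernel
theorem cn_1_7 : cnt OB 1 L_7 = 246 := by decide +kernel
theorem cn_4_7 : cnt OB 4 L_7 = 1826 := by decide +kernel
theorem cn_3_8 : cnt OB 3 L_8 = 1835 := by decide +kernel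
theorem cn_2_9 : cnt OB 2 L_9 = 172 := by decide +kernel
theorem cn_1_10 : cnt OB 1 L_10 = 210 := by decide +kernel
theorem cn_4_10 : cnt OB 4 L_10 = 1815 := by decide +kernel
theorem cn_3_11 : cnt OB 3 L_11 = 1990 := by decide +kernel
theorem cn_2_12 : cnt OB 2 L_12 = 143 := by decide +kernel
theorem cn_1_13 : cnt OB 1 L_13 = 200 := by decide +kernel
theorem cn_4_13 : cnt OB 4 L_13 = 1947 := by decide +kernel
theorem cn_3_14 : cnt OB 3 L_14 = 1640 := by decide +kernel
theorem cn_2_15 : cnt OB 2 L_15 = 293 := by decide +kernel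
theorem cn_1_16 : cnt OB 1 L_16 = 222 := by decide +kernel
theorem cn_4_16 : cnt OB 4 L_16 = 1896 := by decide +kernel
theorem cn_3_17 : cnt OB 3 L_17 = 1729 := by decide +kernel
theorem cn_2_18 : cnt OB 2 L_18 = 326 := by decide +kernel
theorem cn_1_19 : cnt OB 1 L_19 = 221 := by decide +kernel
theorem cn_4_19 : cnt OB 4 L_19 = 1950 := by decide +kernel
theorem cn_3_20 : cnt OB 3 L_20 = 1730 := by decide +kernel
theorem cn_2_21 : cnt OB 2 L_21 = 164 := by decide +kernel
theorem cn_1_22 : cnt OB 1 L_22 = 174 := by decide +kernel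
theorem cn_4_22 : cnt OB 4 L_22 = 2031 := by decide +kernel
theorem cn_3_23 : cnt OB 3 L_23 = 1566 := by decide +kernel
theorem cn_2_24 : cnt OB 2 L_24 = 250 := by decide +kernel
theorem cn_1_25 : cnt OB 1 L_25 = 151 := by decide +kernel
theorem cn_4_25 : cnt OB 4 L_25 = 2147 := by decide +kernel
theorem cn_3_26 : cnt OB 3 L_26 = 1509 := by decide +kernel
theorem cn_2_27 : cnt OB 2 L_27 = 138 := by decide +kernel
theorem cn_1_28 : cnt OB 1 L_28 = 156 := by decide +kernel
theorem cn_4_28 : cnt OB 4 L_28 = 2437 := by decide +kernel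
theorem cn_3_29 : cnt OB 3 L_29 = 1111 := by decide +kernel
end CfsgLib.TCON
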