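import Cfsg.Agent.EqBase
import Cfsg.Agent.LibTCONOD
set_option autoImplicit false
set_option linter.all false
set_option maxRecDepth 1000000
set_option maxHeartbeats 0
namespace CfsgLib.TCON
open CfsgLib.TC Cfsg.Spor CfsgLib.TCG_ON
theorem iv_2 : Tr.all IV L_2 = true := by decide +kernel
theorem iv_5 : Tr.all IV L_5 = true := by decide +kernel
theorem iv_8 : Tr.all IV L_8 = true := by decide +kernel
theorem iv_11 : Tr.all IV L_11 = true := by decide +kernel
theorem iv_14 : Tr.all IV L_14 = true := by decide +kernel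
theorem iv_17 : Tr.all IV L_17 = true := by decide +kernel
theorem iv_20 : Tr.all IV L_20 = true := by decide +kernel
theorem iv_23 : Tr.all IV L_23 = true := by decide +kernel
theorem iv_26 : Tr.all IV L_26 = true := by decide +kernel
theorem iv_29 : Tr.all IV L_29 = true := by decide +kernel
theorem ht_0 : Tr.all (treeQ mt (fun q => Nat.beq (RP (OB q)) q) wsH HP HR HW) L_0 = true := by decide +kernel
theorem ht_3 : Tr.all (treeQ mt (fun q => Nat.beq (RP (OB q)) q) wsH HP HR HW) L_3 = true := by decide +kernel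
theorem ht_6 : Tr.all (treeQ mt (fun q => Nat.beq (RP (OB q)) q) wsH HP HR HW) L_6 = true := by decide +kernel
theorem ht_9 : Tr.all (treeQ mt (fun q => Nat.beq (RP (OB q)) q) wsH HP HR HW) L_9 = true := by decide +kernel
theorem ht_12 : Tr.all (treeQ mt (fun q => Nat.beq (RP (OB q)) q) wsH HP HR HW) L_12 = true := by decide +kernel
theorem ht_15 : Tr.all (treeQ mt (fun q => Nat.beq (RP (OB q)) q) wsH HP HR HW) L_15 = true := by decide +kernel
theorem ht_18 : Tr.all (treeQ mt (fun q => Nat.beq (RP (OB q)) q) wsH HP HR HW) L_18 = true := by decide +kernel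
theorem ht_21 : Tr.all (treeQ mt (fun q => Nat.beq (RP (OB q)) q) wsH HP HR HW) L_21 = true := by decide +kernel
theorem ht_24 : Tr.all (treeQ mt (fun q => Nat.beq (RP (OB q)) q) wsH HP HR HW) L_24 = true := by decide +kernel
theorem ht_27 : Tr.all (treeQ mt (fun q => Nat.beq (RP (OB q)) q) wsH HP HR HW) L_27 = true := by decide +kernel
theorem cn_1_0 : cnt OB 1 L_0 = 188 := by decide +kernel
theorem cn_4_0 : cnt OB 4 L_0 = 2027 := by decide +kernel
theorem cn_3_1 : cnt OB 3 L_1 = 1833 := by decide +kernel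
theorem cn_2_2 : cnt OB 2 L_2 = 194 := by decide +kernel
theorem cn_1_3 : cnt OB 1 L_3 = 223 := by decide +kernel
theorem cn_4_3 : cnt OB 4 L_3 = 1701 := by decide +kernel
theorem cn_3_4 : cnt OB 3 L_4 = 1954 := by decide +kernel
theorem cn_2_5 : cnt OB 2 L_5 = 131 := by decide +kernel
theorem cn_1_6 : cnt OB 1 L_6 = 199 := by decide +kernel
theorem cn_4_6 : cnt OB 4 L_6 = 1707 := by decide +kernel
theorem cn_3_7 : cnt OB 3 L_7 = 1764 := by decide +kernel
theorem cn_2_8 : cnt OB 2 L_8 = 212 := by decide +kernel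
theorem cn_1_9 : cnt OB 1 L_9 = 178 := by decide +kernel
theorem cn_4_9 : cnt OB 4 L_9 = 1710 := by decide +kernel
theorem cn_3_10 : cnt OB 3 L_10 = 1849 := by decide +kernel
theorem cn_2_11 : cnt OB 2 L_11 = 180 := by decide +kernel
theorem cn_1_12 : cnt OB 1 L_12 = 205 := by decide +kernel
theorem cn_4_12 : cnt OB 4 L_12 = 1832 := by decide +kernel
theorem cn_3_13 : cnt OB 3 L_13 = 1725 := by decide +kernel
theorem cn_2_14 : cnt OB 2 L_14 = 293 := by decide +kernel
theorem cn_1_15 : cnt OB 1 L_15 = 114 := by decide +kernel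
theorem cn_4_15 : cnt OB 4 L_15 = 1930 := by decide +kernel
theorem cn_3_16 : cnt OB 3 L_16 = 1904 := by decide +kernel
theorem cn_2_17 : cnt OB 2 L_17 = 250 := by decide +kernel
theorem cn_1_18 : cnt OB 1 L_18 = 134 := by decide +kernel
theorem cn_4_18 : cnt OB 4 L_18 = 1777 := by decide +kernel
theorem cn_3_19 : cnt OB 3 L_19 = 1728 := by decide +kernel
theorem cn_2_20 : cnt OB 2 L_20 = 211 := by decide +kernel
theorem cn_1_21 : cnt OB 1 L_21 = 161 := by decide +kernel
theorem cn_4_21 : cnt OB 4 L_21 = 2061 := by decide +kernel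
theorem cn_3_22 : cnt OB 3 L_22 = 1701 := by decide +kernel
theorem cn_2_23 : cnt OB 2 L_23 = 232 := by decide +kernel
theorem cn_1_24 : cnt OB 1 L_24 = 145 := by decide +kernel
theorem cn_4_24 : cnt OB 4 L_24 = 2127 := by decide +kernel
theorem cn_3_25 : cnt OB 3 L_25 = 1689 := by decide +kernel
theorem cn_2_26 : cnt OB 2 L_26 = 250 := by decide +kernel
theorem cn_1_27 : cnt OB 1 L_27 = 223 := by decide +kernel
theorem cn_4_27 : cnt OB 4 L_27 = 2230 := by decide +kernel
theorem cn_3_28 : cnt OB 3 L_28 = 1389 := by decide +kernel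
theorem cn_2_29 : cnt OB 2 L_29 = 89 := by decide +kernel
end CfsgLib.TCON
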