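import Cfsg.Agent.EqBase
import Cfsg.Agent.LibTCON
import Cfsg.Agent.LibTCONOX0
import Cfsg.Agent.LibTCONOX1
import Cfsg.Agent.LibTCONOX2
set_option autoImplicit false
set_option linter.all false
set_option maxRecDepth 1000000
set_option maxHeartbeats 0
namespace CfsgLib.TCON
open CfsgLib.TC Cfsg.Spor CfsgLib.TCG_ON
theorem ht : Tr.all (treeQ mt (fun q => Nat.beq (RP (OB q)) q) wsH HP HR HW) L = true := (Tr.all_nd (Tr.all_nd (Tr.all_nd (Tr.all_nd ht_0 (Tr.all_nd ht_1 ht_2)) (Tr.all_nd (Tr.all_nd ht_3 ht_4) (Tr.all_nd ht_5 ht_6))) (Tr.all_nd (Tr.all_nd (Tr.all_nd ht_7 ht_8) (Tr.all_nd ht_9 ht_10)) (Tr.all_nd (Tr.all_nd ht_11 ht_12) (Tr.all_nd ht_13 ht_14)))) (Tr.all_nd (Tr.all_nd (Tr.all_nd ht_15 (Tr.all_nd ht_16 ht_17)) (Tr.all_nd (Tr.all_nd ht_18 ht_19) (Tr.all_nd ht_20 ht_21))) (Tr.all_nd (Tr.all_nd (Tr.all_nd ht_22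 ht_23) (Tr.all_nd ht_24 ht_25)) (Tr.all_nd (Tr.all_nd ht_26 ht_27) (Tr.all_nd ht_28 ht_29)))))
theorem iv : Tr.all IV L = true := (Tr.all_nd (Tr.all_nd (Tr.all_nd (Tr.all_nd iv_0 (Tr.all_nd iv_1 iv_2)) (Tr.all_nd (Tr.all_nd iv_3 iv_4) (Tr.all_nd iv_5 iv_6))) (Tr.all_nd (Tr.all_nd (Tr.all_nd iv_7 iv_8) (Tr.all_nd iv_9 iv_10)) (Tr.all_nd (Tr.all_nd iv_11 iv_12) (Tr.all_nd iv_13 iv_14)))) (Tr.all_nd (Tr.all_nd (Tr.all_nd iv_15 (Tr.all_nd iv_16 iv_17)) (Tr.all_nd (Tr.all_nd iv_18 iv_19) (Tr.all_nd iv_20 iv_21))) (Tr.all_nd (Tr.all_nd (Tr.all_nd iv_22 iv_23) (Tr.all_nd iv_24 iv_25)) (Tr.all_nd (Tr.all_nd iv_26 iv_27) (Tr.all_nd iv_28 iv_29)))))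
theorem cnt_nd {OB : ℕ → ℕ} {i k : ℕ} {l r : Tr ℕ} {a b : ℕ} (hl : cnt OB i l = a) (hr : cnt OB i r = b) : cnt OB i (Tr.nd k l r) = a + b := by rw [← hl, ← hr]; rfl
theorem cnt_1 : cnt OB 1 L = 5586 := (cnt_nd (cnt_nd (cnt_nd (cnt_nd cn_1_0 (cnt_nd cn_1_1 cn_1_2)) (cnt_nd (cnt_nd cn_1_3 cn_1_4) (cnt_nd cn_1_5 cn_1_6))) (cnt_nd (cnt_nd (cnt_nd cn_1_7 cn_1_8) (cnt_nd cn_1_9 cn_1_10)) (cnt_nd (cnt_nd cn_1_11 cn_1_12) (cnt_nd cn_1_13 cn_1_14)))) (cnt_nd (cnt_nd (cnt_nd cn_1_15 (cnt_nd cn_1_16 cn_1_17)) (cnt_nd (cnt_nd cn_1_18 cn_1_19) (cnt_nd cn_1_20 cn_1_21))) (cnt_nd (cnt_nd (cnt_nd cn_1_22 cn_1_23) (cnt_nd cn_1_24 cn_1_25)) (cnt_nd (cnt_nd cn_1_26 cn_1_27) (cnt_nd cn_1_28 cn_1_29)))))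
theorem cnt_2 : cnt OB 2 L = 6384 := (cnt_nd (cnt_nd (cnt_nd (cnt_nd cn_2_0 (cnt_nd cn_2_1 cn_2_2)) (cnt_nd (cnt_nd cn_2_3 cn_2_4) (cnt_nd cn_2_5 cn_2_6))) (cnt_nd (cnt_nd (cnt_nd cn_2_7 cn_2_8) (cnt_nd cn_2_9 cn_2_10)) (cnt_nd (cnt_nd cn_2_11 cn_2_12) (cnt_nd cn_2_13 cn_2_14)))) (cnt_nd (cnt_nd (cnt_nd cn_2_15 (cnt_nd cn_2_16 cn_2_17)) (cnt_nd (cnt_nd cn_2_18 cn_2_19) (cnt_nd cn_2_20 cn_2_21))) (cnt_nd (cnt_nd (cnt_nd cn_2_22 cn_2_23) (cnt_nd cn_2_24 cn_2_25)) (cnt_nd (cnt_nd cn_2_26 cn_2_27) (cnt_nd cn_2_28 cn_2_29)))))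
theorem cnt_3 : cnt OB 3 L = 52136 := (cnt_nd (cnt_nd (cnt_nd (cnt_nd cn_3_0 (cnt_nd cn_3_1 cn_3_2)) (cnt_nd (cnt_nd cn_3_3 cn_3_4) (cnt_nd cn_3_5 cn_3_6))) (cnt_nd (cnt_nd (cnt_nd cn_3_7 cn_3_8) (cnt_nd cn_3_9 cn_3_10)) (cnt_nd (cnt_nd cn_3_11 cn_3_12) (cnt_nd cn_3_13 cn_3_14)))) (cnt_nd (cnt_nd (cnt_nd cn_3_15 (cnt_nd cn_3_16 cn_3_17)) (cnt_nd (cnt_nd cn_3_18 cn_3_19) (cnt_nd cn_3_20 cn_3_21))) (cnt_nd (cnt_nd (cnt_nd cn_3_22 cn_3_23) (cnt_nd cn_3_24 cn_3_25)) (cnt_nd (cnt_nd cn_3_26 cn_3_27) (cnt_nd cn_3_28 cn_3_29)))))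
theorem cnt_4 : cnt OB 4 L = 58653 := (cnt_nd (cnt_nd (cnt_nd (cnt_nd cn_4_0 (cnt_nd cn_4_1 cn_4_2)) (cnt_nd (cnt_nd cn_4_3 cn_4_4) (cnt_nd cn_4_5 cn_4_6))) (cnt_nd (cnt_nd (cnt_nd cn_4_7 cn_4_8) (cnt_nd cn_4_9 cn_4_10)) (cnt_nd (cnt_nd cn_4_11 cn_4_12) (cnt_nd cn_4_13 cn_4_14)))) (cnt_nd (cnt_nd (cnt_nd cn_4_15 (cnt_nd cn_4_16 cn_4_17)) (cnt_nd (cnt_nd cn_4_18 cn_4_19) (cnt_nd cn_4_20 cn_4_21))) (cnt_nd (cnt_nd (cnt_nd cn_4_22 cn_4_23) (cnt_nd cn_4_24 cn_4_25)) (cnt_nd (cnt_nd cn_4_26 cn_4_27) (cnt_nd cn_4_28 cn_4_29)))))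
theorem hwsH (j x : ℕ) : ∃ w ∈ SW0, wsH j x = walk stp w x := (brecP (P := fun y => ∃ w ∈ SW0, y = walk stp w x) (brecP (P := fun y => ∃ w ∈ SW0, y = walk stp w x) ⟨[Col.a], List.mem_cons_self, rfl⟩ (brecP (P := fun y => ∃ w ∈ SW0, y = walk stp w x) ⟨[Col.b], (List.mem_cons_of_mem _ List.mem_cons_self), rfl⟩ ⟨[Col.c], (List.mem_cons_of_mem _ (List.mem_cons_of_mem _ List.mem_cons_self)), rfl⟩)) (brecP (P := fun y => ∃ w ∈ SW0, y = walk stp w x) ⟨[Col.d], (List.mem_cons_of_mem _ (List.mem_cons_of_mem _ (List.mem_cons_of_mem _ List.mem_cons_self))), rfl⟩ (brecP (P := fun y => ∃ w ∈ SW0, y = walk stp w x) ⟨[Col.e], (List.mem_cons_of_mem _ (List.mem_cons_of_mem _ (List.mem_cons_of_mem _ (List.mem_cons_of_mem _ List.mem_cons_self)))), rfl⟩ ⟨[Col.f], (List.mem_cons_of_mem _ (List.mem_cons_of_mem _ (List.mem_cons_of_mem _ (List.mem_cons_of_mem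 _ (List.mem_cons_of_mem _ List.mem_cons_self))))), rfl⟩)))
theorem iu (q : ℕ) : IV q = true ↔ Nat.ble (OB q) 4 = true ∧ Nat.beq (OB (F_a q)) (OB q) = true ∧ Nat.beq (OB (F_b q)) (OB q) = true ∧ Nat.beq (OB (F_c q)) (OB q) = true ∧ Nat.beq (OB (F_d q)) (OB q) = true ∧ Nat.beq (OB (F_e q)) (OB q) = true ∧ Nat.beq (OB (F_f q)) (OB q) = true := by
  unfold IV
  simp only [bfalse_iff, and_true]
theorem hinvw : ∀ w ∈ SW0, ∀ q ∈ L.toList, OB (walk stp w q) = OB q := by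
  intro w hw q hq
  have h := ((iu q).1 ((Tr.all_iff _ _).1 iv q hq)).2
  simp only [SW0, List.mem_cons, List.not_mem_nil, or_false] at hw
  rcases hw with rfl | rfl | rfl | rfl | rfl | rfl
  · simp only [walk_cons, walk_nil, stp_g, stp_gi, stp_a, stp_b, stp_c, stp_d, stp_e, stp_f]
    exact Nat.eq_of_beq_eq_true (h.1)
  · simp only [walk_cons, walk_nil, stp_g, stp_gi, stp_a, stp_b, stp_c, stp_d, stp_e, stp_f]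
    exact Nat.eq_of_beq_eq_true (h.2.1)
  · simp only [walk_cons, walk_nil, stp_g, stp_gi, stp_a, stp_b, stp_c, stp_d, stp_e, stp_f]
    exact Nat.eq_of_beq_eq_true (h.2.2.1)
  · simp only [walk_cons, walk_nil, stp_g, stp_gi, stp_a, stp_b, stp_c, stp_d, stp_e, stp_f]
    exact Nat.eq_of_beq_eq_true (h.2.2.2.1)
  · simp only [walk_cons, walk_nil, stp_g, stp_gi, stp_a, stp_b, stp_c, stp_d, stp_e, stp_f]
    exact Nat.eq_of_beq_eq_true (h.2.2.2.2.1)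
  · simp only [walk_cons, walk_nil, stp_g, stp_gi, stp_a, stp_b, stp_c, stp_d, stp_e, stp_f]
    exact Nat.eq_of_beq_eq_true (h.2.2.2.2.2)
theorem hlt : Tr.all (fun q => Nat.ble (OB q) ([5586, 6384, 52136, 58653] : List ℕ).length) L = true := by
  rw [Tr.all_iff]
  intro q hq
  exact ((iu q).1 ((Tr.all_iff _ _).1 iv q hq)).1
theorem sub : Sub closed φ H OB ⟨q0, q0_mem⟩ := by
  refine ⟨main.2.1, main.2.2, orbit_labels2 φ (RP := RP) H (fun q => ?_)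
    (invQ_sound closed φ P φ_P (SW := SW0) H (le_of_eq H_eq) hinvw)⟩
  obtain ⟨r, _, h2, h, hh, hhr⟩ := treeQ_sound closed φ P φ_P (LB := L) (SW := SW0) (fun q h => h) mt_sound hwsH H H_SW ht q q.2
  exact ⟨r, Nat.eq_of_beq_eq_true h2, h, hh, hhr⟩
theorem ob_r1 : OB 2097383 = 1 := by decide +kernel
theorem orb_1 : ∃ x : ON, (φ x ⟨q0, q0_mem⟩).1 = 2097383 ∧ (MulAction.orbit H ((x : ON) : ON ⧸ H)).ncard = 5586 :=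
  sub.size_orb nodup (mt_sound _ (by decide +kernel)) (by rw [ob_r1]; exact cnt_1)
theorem ob_r2 : OB 2097629 = 2 := by decide +kernel
theorem orb_2 : ∃ x : ON, (φ x ⟨q0, q0_mem⟩).1 = 2097629 ∧ (MulAction.orbit H ((x : ON) : ON ⧸ H)).ncard = 6384 :=
  sub.size_orb nodup (mt_sound _ (by decide +kernel)) (by rw [ob_r2]; exact cnt_2)
theorem ob_r3 : OB 2097287 = 3 := by decide +kernel
theorem orb_3 : ∃ x : ON, (φ x ⟨q0, q0_mem⟩).1 = 2097287 ∧ (MulAction.orbit H ((x : ON) : ON ⧸ H)).ncard = 52136 :=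
  sub.size_orb nodup (mt_sound _ (by decide +kernel)) (by rw [ob_r3]; exact cnt_3)
theorem ob_r4 : OB 2097211 = 4 := by decide +kernel
theorem orb_4 : ∃ x : ON, (φ x ⟨q0, q0_mem⟩).1 = 2097211 ∧ (MulAction.orbit H ((x : ON) : ON ⧸ H)).ncard = 58653 :=
  sub.size_orb nodup (mt_sound _ (by decide +kernel)) (by rw [ob_r4]; exact cnt_4)
theorem ob_q0 : OB q0 = 0 := by decide +kernel
theorem cnt_all : ∀ j (hj : j < ([5586, 6384, 52136, 58653] : List ℕ).length), cnt OB (j+1) L = ([5586, 6384, 52136, 58653] : List ℕ)[j] := by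
  intro j hj
  match j, hj with
  | 0, _ => exact cnt_1
  | 1, _ => exact cnt_2
  | 2, _ => exact cnt_3
  | 3, _ => exact cnt_4
  | (j+4), hj => exact absurd hj (by simp)
theorem maximal : ∀ K : Subgroup ON, H ≤ K → K = H ∨ K = ⊤ :=
  sub.maximal nodup P φ_P (s := [5586, 6384, 52136, 58653]) ob_q0 hlt cnt_all size_L [] (by simp) (by decide +kernel)
end CfsgLib.TCON
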