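import Cfsg.Agent.EqBase
import Cfsg.Agent.LibTCONN
import Cfsg.Agent.LibTCONO
import Cfsg.Agent.LibTC8
set_option autoImplicit false
set_option linter.all false
set_option maxRecDepth 1000000

/-! Simplicity of the O'Nan group. -/

namespace CfsgLib.TCON
open CfsgLib.TC CfsgLib.MC Cfsg.Spor

section rels
variable {G : Type*} [Group G] {f : ON.Gen → G} (hs : Sat ON.edges ON.extra f)
include hs
theorem sqx (x : ON.Gen) (hx : x ≠ .g) : f x * f x = 1 := by
  have := cox_rel TCG_ON.h1 TCG_ON.h3 hs x x 1 (by cases x <;> first | exact absurd rfl hx | decide)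
  rwa [pow_one] at this
theorem rab : (f .a * f .b)^3 = 1 := cox_rel TCG_ON.h1 TCG_ON.h3 hs _ _ _ (by decide)
theorem rbc : (f .b * f .c)^3 = 1 := cox_rel TCG_ON.h1 TCG_ON.h3 hs _ _ _ (by decide)
theorem rde : (f .d * f .e)^3 = 1 := cox_rel TCG_ON.h1 TCG_ON.h3 hs _ _ _ (by decide)
theorem ref : (f .e * f .f)^3 = 1 := cox_rel TCG_ON.h1 TCG_ON.h3 hs _ _ _ (by decide)
theorem x1 : (f .a * f .f) * (f .g ^ 2)⁻¹ = 1 := by
  have := hs ((ON.a * ON.f) * ((ON.g ^ 2)⁻¹)) (Or.inr (by simp [ON.extra]))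
  simpa only [map_mul, map_inv, map_pow, FreeGroup.lift_apply_of] using this
theorem x2 : (f .a * f .f) * ((f .c * f .d) ^ 4)⁻¹ = 1 := by
  have := hs ((ON.a * ON.f) * (((ON.c * ON.d) ^ 4)⁻¹)) (Or.inr (by simp [ON.extra]))
  simpa only [map_mul, map_inv, map_pow, FreeGroup.lift_apply_of] using this
theorem x5 : (f .b * f .c * f .d * f .g) ^ 5 = 1 := by
  have := hs ((ON.b * ON.c * ON.d * ON.g) ^ 5) (Or.inr (by simp [ON.extra]))
  simpa only [map_mul, map_inv, map_pow, FreeGroup.lift_apply_of] using this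
theorem x6 : f .g * f .b * ((f .c)⁻¹ * f .g * f .c) * ((f .b)⁻¹ * f .g * f .b) * ((f .c)⁻¹ * f .g * f .c) = 1 := by
  have := hs (ON.g * ON.b * (ON.c⁻¹ * ON.g * ON.c) * (ON.b⁻¹ * ON.g * ON.b) * (ON.c⁻¹ * ON.g * ON.c)) (Or.inr (by simp [ON.extra]))
  simpa only [map_mul, map_inv, map_pow, FreeGroup.lift_apply_of] using this
end rels

theorem perfect : commutator ON = ⊤ := by
  apply perfect_of
  intro f hs
  have sa := sqx hs .a (by decide)
  have sb := sqx hs .b (by decide)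
  have sc := sqx hs .c (by decide)
  have sd := sqx hs .d (by decide)
  have se := sqx hs .e (by decide)
  have sf := sqx hs .f (by decide)
  have hab := odd_eq sa sb (rab hs) rfl
  have hbc := odd_eq sb sc (rbc hs) rfl
  have hde := odd_eq sd se (rde hs) rfl
  have hef := odd_eq se sf (ref hs) rfl
  have hcd : (f .c * f .d) ^ 4 = 1 := by
    have : (f .c * f .d) ^ 2 = 1 := by rw [pow_two, mul_mul_mul_comm, sc, sd, one_mul]
    rw [show 4 = 2 * 2 from rfl, pow_mul, this, one_pow]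
  have h2 := x2 hs
  rw [hcd, inv_one, mul_one] at h2
  have h1 := x1 hs
  rw [h2, one_mul, inv_eq_one] at h1
  have h6 := x6 hs
  have e1 : ∀ x : f .g = f .g, (f .c)⁻¹ * f .g * f .c = f .g := fun _ => by rw [mul_comm, mul_inv_cancel_left]
  have e2 : (f .b)⁻¹ * f .g * f .b = f .g := by rw [mul_comm, mul_inv_cancel_left]
  rw [e1 rfl, e2] at h6
  have hb : f .b = 1 := by
    have h7 : f .b * (f .g ^ 2 * f .g ^ 2) = 1 := by
      rw [← h6, pow_two]
      simp only [mul_comm, mul_left_comm]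
    rwa [h1, one_mul, mul_one] at h7
  have ha : f .a = 1 := by rw [hab, hb]
  have hc : f .c = 1 := by rw [← hbc, hb]
  have hf : f .f = 1 := by rwa [ha, one_mul] at h2
  have he : f .e = 1 := by rw [hef, hf]
  have hd : f .d = 1 := by rw [hde, he]
  have hg : f .g = 1 := by
    have h5 := x5 hs
    rw [hb, hc, hd, one_mul, one_mul, one_mul, show 5 = 2 * 2 + 1 from rfl, pow_succ, pow_mul, h1, one_pow, one_mul] at h5
    exact h5
  intro x
  cases x <;> assumption

theorem core_a : TCON.H.normalCore = ⊥ := core_bot_of_faithful φ order_main.2 _ main.2.1 main.2.2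

theorem NN_normalized : ∀ h ∈ TCON.H, ∀ n ∈ NN, h * n * h⁻¹ ∈ NN := by
  intro h hh n hn
  have hnorm : (NN.subgroupOf TCON.H).Normal := Subgroup.normal_of_index_eq_two NN_index
  have := hnorm.conj_mem ⟨n, NN_le hn⟩ hn ⟨h, hh⟩
  exact this

theorem NN_simple : IsSimpleGroup NN := by
  obtain ⟨e⟩ := NN_iso
  have := TCONL.simple_PSL
  exact e.isSimpleGroup

/-- the word used for the non-inner automorphism -/
def uw : List TCONn.Col := [.ye, .yb, .yd, .yf, .yc]
def uw' : List TCONn.Col := [.ye, .ybi, .yd, .yf, .yc]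

theorem a_conj (c : TCONn.Col) : Pb .a * yy Pb c * Pb .a = yy Pb (TCONn.inv c) := by
  have ha := p_sq Pb Pb_RW .a
  have e : ∀ x : TCONb.Col, Pb .a * gw Pb [x, .a] * Pb .a = gw Pb [.a, x] := by
    intro x
    simp only [gw_cons, gw_nil, one_mul]
    rw [← mul_assoc, ha, one_mul]
  have e' : ∀ x : TCONb.Col, Pb .a * gw Pb [.a, x] * Pb .a = gw Pb [x, .a] := by
    intro x
    simp only [gw_cons, gw_nil, one_mul]
    rw [mul_assoc, mul_assoc, ha, mul_one]
  have k : ∀ x : TCONb.Col, [x, .a, x, .a] ∈ TCONb.RW → gw Pb [x, .a] = gw Pb [.a, x] := by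
    intro x h
    simp only [gw_cons, gw_nil, one_mul]
    exact comm_of Pb Pb_RW _ _ h
  cases c
  · exact e .b
  · exact e' .b
  · exact (e .c).trans (k .c (by simp [TCONb.RW])).symm
  · exact (e .d).trans (k .d (by simp [TCONb.RW])).symm
  · exact (e .e).trans (k .e (by simp [TCONb.RW])).symm
  · exact (e .f).trans (k .f (by simp [TCONb.RW])).symm

theorem a_conj_word (w : List TCONn.Col) : Pb .a * gw (yy Pb) w * Pb .a = gw (fun c => yy Pb (TCONn.inv c)) w := by
  have ha := p_sq Pb Pb_RW .a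
  induction w with
  | nil => rw [gw_nil, gw_nil, mul_one, ha]
  | cons c w ih =>
    rw [gw_cons, gw_cons, ← ih, ← a_conj]
    calc Pb .a * (gw (yy Pb) w * yy Pb c) * Pb .a = Pb .a * gw (yy Pb) w * 1 * yy Pb c * Pb .a := by group
      _ = Pb .a * gw (yy Pb) w * (Pb .a * Pb .a) * yy Pb c * Pb .a := by rw [ha]
      _ = _ := by group

theorem trace_ne : (gw TCONL.Y uw : TCONL.SL).1.trace ^ 3 ≠ (gw TCONL.Y uw' : TCONL.SL).1.trace ^ 3 := by
  rw [TCONL.co_Y, TCONL.co_Y]
  simp only [Matrix.trace, Matrix.diag, Fin.sum_univ_three]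
  decide +kernel

/-- conjugation by `a` is not inner on `L₃(7)` -/
theorem not_inner (n : ON) (hn : n ∈ NN) (h : ∀ u ∈ NN, Pb .a * u * Pb .a = n⁻¹ * u * n) : False := by
  obtain ⟨χ, hχ⟩ := chi_exists
  have hw : ∀ w : List TCONn.Col, χ (gw gNN w) = QuotientGroup.mk (gw TCONL.Y w) := by
    intro w
    rw [map_gw, ← TCONL.gw_PY]
    congr 1
    exact funext hχ
  have hval : ∀ w : List TCONn.Col, (gw gNN w : NN).1 = gw (yy Pb) w := fun w => map_gw NN.subtype gNN w
  have h1 := h (gw (yy Pb) uw) (by rw [← hval]; exact (gw gNN uw : NN).2)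
  rw [a_conj_word] at h1
  have h2 : gw (fun c => yy Pb (TCONn.inv c)) uw = gw (yy Pb) uw' := rfl
  rw [h2] at h1
  have h3 : (gw gNN uw' : NN) = (⟨n, hn⟩ : NN)⁻¹ * gw gNN uw * ⟨n, hn⟩ := by
    apply Subtype.ext
    rw [hval, h1, ← hval]
    rfl
  obtain ⟨A, hA⟩ := QuotientGroup.mk_surjective (χ (⟨n, hn⟩ : NN)⁻¹)
  have h4 : χ (gw gNN uw') = χ (⟨n, hn⟩ : NN)⁻¹ * χ (gw gNN uw) * (χ (⟨n, hn⟩ : NN)⁻¹)⁻¹ := by
    rw [h3, map_mul, map_mul]
    congr 1
    rw [map_inv, inv_inv]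
  rw [hw, hw, ← hA] at h4
  exact trace_ne (TCONL.conj_cube h4.symm)

theorem simple : IsSimpleGroup ON := by
  have hnt : Nontrivial ON := by
    have : Finite ON := finite_ON
    rw [← Finite.one_lt_card_iff_nontrivial, order_main.1]
    norm_num
  have haH : Pb .a ∈ TCON.H := by rw [H_gen]; exact Subgroup.subset_closure ⟨.a, rfl⟩
  exact simple_gen (a := Pb .a) maximal core_a NN_le NN_normalized H_cover haH (p_sq Pb Pb_RW .a) perfect NN_simple not_inner

end CfsgLib.TCON
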