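import Cfsg.Agent.EqBase
import Cfsg.Agent.LibTCAutONB
import Cfsg.Agent.LibTCONS
set_option autoImplicit false
set_option linter.all false
set_option maxRecDepth 1000000
set_option maxHeartbeats 0
namespace CfsgLib.TCON.Au
open CfsgLib.TC Cfsg.Spor CfsgLib.TCG_ON CfsgLib.TCON CfsgLib.TCON.Chain
noncomputable def Z : List (List Col) := [[],
  [TCG_ON.Col.e, TCG_ON.Col.d, TCG_ON.Col.c, TCG_ON.Col.a, TCG_ON.Col.b, TCG_ON.Col.gi, TCG_ON.Col.d, TCG_ON.Col.e, TCG_ON.Col.c, TCG_ON.Col.d, TCG_ON.Col.c, TCG_ON.Col.d, TCG_ON.Col.b, TCG_ON.Col.c, TCG_ON.Col.d, TCG_ON.Col.e, TCG_ON.Col.c, TCG_ON.Col.d, TCG_ON.Col.b, TCG_ON.Col.d, TCG_ON.Col.e, TCG_ON.Col.d, TCG_ON.Col.c, TCG_ON.Col.d, TCG_ON.Col.c, TCG_ON.Col.e, TCG_ON.Col.d, TCG_ON.Col.c, TCG_ON.Col.d,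 TCG_ON.Col.c, TCG_ON.Col.b, TCG_ON.Col.d, TCG_ON.Col.c, TCG_ON.Col.e, TCG_ON.Col.d, TCG_ON.Col.c, TCG_ON.Col.b, TCG_ON.Col.g, TCG_ON.Col.b, TCG_ON.Col.c, TCG_ON.Col.d, TCG_ON.Col.e, TCG_ON.Col.d, TCG_ON.Col.c, TCG_ON.Col.gi, TCG_ON.Col.b, TCG_ON.Col.a, TCG_ON.Col.d, TCG_ON.Col.e, TCG_ON.Col.gi],
  [TCG_ON.Col.c, TCG_ON.Col.g, TCG_ON.Col.b, TCG_ON.Col.d, TCG_ON.Col.g, TCG_ON.Col.g, TCG_ON.Col.g, TCG_ON.Col.e, TCG_ON.Col.d, TCG_ON.Col.c, TCG_ON.Col.b, TCG_ON.Col.d, TCG_ON.Col.c, TCG_ON.Col.d, TCG_ON.Col.a, TCG_ON.Col.b, TCG_ON.Col.e, TCG_ON.Col.d, TCG_ON.Col.f, TCG_ON.Col.c, TCG_ON.Col.g, TCG_ON.Col.b, TCG_ON.Col.d, TCG_ON.Col.e, TCG_ON.Col.gi, TCG_ON.Col.c, TCG_ON.Col.e],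
  [TCG_ON.Col.c, TCG_ON.Col.b, TCG_ON.Col.d, TCG_ON.Col.g, TCG_ON.Col.c, TCG_ON.Col.e, TCG_ON.Col.g, TCG_ON.Col.e, TCG_ON.Col.d, TCG_ON.Col.b, TCG_ON.Col.c, TCG_ON.Col.d, TCG_ON.Col.a, TCG_ON.Col.f, TCG_ON.Col.a, TCG_ON.Col.e, TCG_ON.Col.c, TCG_ON.Col.d, TCG_ON.Col.c, TCG_ON.Col.f, TCG_ON.Col.g, TCG_ON.Col.d, TCG_ON.Col.f, TCG_ON.Col.c, TCG_ON.Col.g, TCG_ON.Col.e, TCG_ON.Col.d, TCG_ON.Col.b, TCG_ON.Col.c, TCG_ON.Col.gi, TCG_ON.Col.d, TCG_ON.Col.f, TCG_ON.Col.b],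
  [TCG_ON.Col.gi, TCG_ON.Col.b, TCG_ON.Col.c, TCG_ON.Col.e, TCG_ON.Col.gi, TCG_ON.Col.b, TCG_ON.Col.d, TCG_ON.Col.g, TCG_ON.Col.g, TCG_ON.Col.g, TCG_ON.Col.b, TCG_ON.Col.g, TCG_ON.Col.e, TCG_ON.Col.d, TCG_ON.Col.c, TCG_ON.Col.b, TCG_ON.Col.g, TCG_ON.Col.b, TCG_ON.Col.a, TCG_ON.Col.c, TCG_ON.Col.b, TCG_ON.Col.e, TCG_ON.Col.d, TCG_ON.Col.c, TCG_ON.Col.d, TCG_ON.Col.c, TCG_ON.Col.d, TCG_ON.Col.b, TCG_ON.Col.e, TCG_ON.Col.gi, TCG_ON.Col.c, TCG_ON.Col.b, TCG_ON.Col.d, TCG_ON.Col.c, TCG_ON.Col.f, TCG_ON.Col.e],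
  [TCG_ON.Col.a, TCG_ON.Col.e, TCG_ON.Col.d, TCG_ON.Col.c, TCG_ON.Col.gi, TCG_ON.Col.b, TCG_ON.Col.e, TCG_ON.Col.g, TCG_ON.Col.e, TCG_ON.Col.g, TCG_ON.Col.d, TCG_ON.Col.c, TCG_ON.Col.b, TCG_ON.Col.e, TCG_ON.Col.g, TCG_ON.Col.c, TCG_ON.Col.d, TCG_ON.Col.f, TCG_ON.Col.e, TCG_ON.Col.d, TCG_ON.Col.f, TCG_ON.Col.g, TCG_ON.Col.c, TCG_ON.Col.b, TCG_ON.Col.gi, TCG_ON.Col.d, TCG_ON.Col.c, TCG_ON.Col.a, TCG_ON.Col.b, TCG_ON.Col.gi, TCG_ON.Col.gi],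
  [TCG_ON.Col.a, TCG_ON.Col.b, TCG_ON.Col.d, TCG_ON.Col.c, TCG_ON.Col.d, TCG_ON.Col.e, TCG_ON.Col.g, TCG_ON.Col.g, TCG_ON.Col.g, TCG_ON.Col.c, TCG_ON.Col.d, TCG_ON.Col.c, TCG_ON.Col.b, TCG_ON.Col.e, TCG_ON.Col.g, TCG_ON.Col.a, TCG_ON.Col.b, TCG_ON.Col.d, TCG_ON.Col.e, TCG_ON.Col.g, TCG_ON.Col.a, TCG_ON.Col.c, TCG_ON.Col.f, TCG_ON.Col.e, TCG_ON.Col.d, TCG_ON.Col.c, TCG_ON.Col.b, TCG_ON.Col.d, TCG_ON.Col.c, TCG_ON.Col.b, TCG_ON.Col.e, TCG_ON.Col.d, TCG_ON.Col.a, TCG_ON.Col.g, TCG_ON.Col.c, TCG_ON.Col.e, TCG_ON.Col.d, TCG_ON.Col.c, TCG_ON.Col.d, TCG_ON.Col.e, TCG_ON.Col.b],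
  [TCG_ON.Col.a, TCG_ON.Col.b, TCG_ON.Col.d, TCG_ON.Col.g, TCG_ON.Col.c, TCG_ON.Col.e, TCG_ON.Col.g, TCG_ON.Col.g, TCG_ON.Col.g, TCG_ON.Col.b, TCG_ON.Col.d, TCG_ON.Col.c, TCG_ON.Col.e, TCG_ON.Col.d, TCG_ON.Col.c, TCG_ON.Col.b, TCG_ON.Col.d, TCG_ON.Col.c, TCG_ON.Col.d, TCG_ON.Col.e, TCG_ON.Col.f, TCG_ON.Col.e, TCG_ON.Col.d, TCG_ON.Col.c, TCG_ON.Col.b, TCG_ON.Col.g, TCG_ON.Col.g, TCG_ON.Col.d, TCG_ON.Col.e, TCG_ON.Col.d, TCG_ON.Col.c, TCG_ON.Col.b, TCG_ON.Col.c, TCG_ON.Col.d, TCG_ON.Col.f, TCG_ON.Col.c, TCG_ON.Col.d, TCG_ON.Col.e, TCG_ON.Col.gi, TCG_ON.Col.f, TCG_ON.Col.e, TCG_ON.Col.f, TCG_ON.Col.e, TCG_ON.Col.a, TCG_ON.Col.e, TCG_ON.Col.d, TCG_ON.Col.f, TCG_ON.Col.a, TCG_ON.Col.c, TCG_ON.Col.b, TCG_ON.Col.e, TCG_ON.Col.f],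
  [TCG_ON.Col.f, TCG_ON.Col.e, TCG_ON.Col.d, TCG_ON.Col.c, TCG_ON.Col.b, TCG_ON.Col.d, TCG_ON.Col.g, TCG_ON.Col.a, TCG_ON.Col.c, TCG_ON.Col.b, TCG_ON.Col.d, TCG_ON.Col.e, TCG_ON.Col.d, TCG_ON.Col.c, TCG_ON.Col.d, TCG_ON.Col.c, TCG_ON.Col.d, TCG_ON.Col.e, TCG_ON.Col.d, TCG_ON.Col.c, TCG_ON.Col.b, TCG_ON.Col.f, TCG_ON.Col.e, TCG_ON.Col.c, TCG_ON.Col.d, TCG_ON.Col.f, TCG_ON.Col.c, TCG_ON.Col.d, TCG_ON.Col.b, TCG_ON.Col.gi, TCG_ON.Col.f, TCG_ON.Col.b, TCG_ON.Col.d, TCG_ON.Col.e, TCG_ON.Col.d, TCG_ON.Col.g, TCG_ON.Col.c, TCG_ON.Col.a, TCG_ON.Col.d, TCG_ON.Col.gi],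
  [TCG_ON.Col.gi, TCG_ON.Col.b, TCG_ON.Col.a, TCG_ON.Col.e, TCG_ON.Col.d, TCG_ON.Col.c, TCG_ON.Col.b, TCG_ON.Col.g, TCG_ON.Col.a, TCG_ON.Col.e, TCG_ON.Col.d, TCG_ON.Col.c, TCG_ON.Col.b, TCG_ON.Col.f, TCG_ON.Col.e, TCG_ON.Col.g, TCG_ON.Col.g, TCG_ON.Col.d, TCG_ON.Col.e, TCG_ON.Col.g, TCG_ON.Col.g, TCG_ON.Col.d, TCG_ON.Col.c, TCG_ON.Col.d, TCG_ON.Col.c, TCG_ON.Col.g, TCG_ON.Col.d, TCG_ON.Col.e, TCG_ON.Col.d, TCG_ON.Col.gi, TCG_ON.Col.f, TCG_ON.Col.c, TCG_ON.Col.d, TCG_ON.Col.b, TCG_ON.Col.a],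
  [TCG_ON.Col.a, TCG_ON.Col.b, TCG_ON.Col.c, TCG_ON.Col.gi, TCG_ON.Col.b, TCG_ON.Col.g, TCG_ON.Col.a, TCG_ON.Col.g, TCG_ON.Col.c, TCG_ON.Col.d, TCG_ON.Col.gi, TCG_ON.Col.c, TCG_ON.Col.b, TCG_ON.Col.e, TCG_ON.Col.g, TCG_ON.Col.b, TCG_ON.Col.c, TCG_ON.Col.e, TCG_ON.Col.d, TCG_ON.Col.g, TCG_ON.Col.a, TCG_ON.Col.c, TCG_ON.Col.d, TCG_ON.Col.c, TCG_ON.Col.e, TCG_ON.Col.d, TCG_ON.Col.c, TCG_ON.Col.b, TCG_ON.Col.d, TCG_ON.Col.b, TCG_ON.Col.e, TCG_ON.Col.d, TCG_ON.Col.f, TCG_ON.Col.e, TCG_ON.Col.a, TCG_ON.Col.b, TCG_ON.Col.c, TCG_ON.Col.d, TCG_ON.Col.e, TCG_ON.Col.c, TCG_ON.Col.d, TCG_ON.Col.f, TCG_ON.Col.c, TCG_ON.Col.d, TCG_ON.Col.b, TCG_ON.Col.gi, TCG_ON.Col.e, TCG_ON.Col.c, TCG_ON.Col.d, TCG_ON.Col.b],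
  [TCG_ON.Col.c, TCG_ON.Col.a, TCG_ON.Col.b, TCG_ON.Col.c, TCG_ON.Col.d, TCG_ON.Col.a, TCG_ON.Col.e, TCG_ON.Col.c, TCG_ON.Col.gi, TCG_ON.Col.b, TCG_ON.Col.c, TCG_ON.Col.d, TCG_ON.Col.f, TCG_ON.Col.g, TCG_ON.Col.g, TCG_ON.Col.b, TCG_ON.Col.c, TCG_ON.Col.b, TCG_ON.Col.d, TCG_ON.Col.e, TCG_ON.Col.d, TCG_ON.Col.a, TCG_ON.Col.c, TCG_ON.Col.d, TCG_ON.Col.c, TCG_ON.Col.gi, TCG_ON.Col.e, TCG_ON.Col.d, TCG_ON.Col.g, TCG_ON.Col.c, TCG_ON.Col.d, TCG_ON.Col.e, TCG_ON.Col.f],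
  [TCG_ON.Col.g, TCG_ON.Col.b, TCG_ON.Col.c, TCG_ON.Col.e, TCG_ON.Col.d, TCG_ON.Col.g, TCG_ON.Col.e, TCG_ON.Col.g, TCG_ON.Col.g, TCG_ON.Col.g, TCG_ON.Col.b, TCG_ON.Col.g, TCG_ON.Col.b, TCG_ON.Col.c, TCG_ON.Col.d, TCG_ON.Col.e, TCG_ON.Col.g, TCG_ON.Col.d, TCG_ON.Col.c, TCG_ON.Col.d, TCG_ON.Col.f, TCG_ON.Col.e, TCG_ON.Col.g, TCG_ON.Col.d, TCG_ON.Col.c, TCG_ON.Col.e, TCG_ON.Col.d, TCG_ON.Col.c, TCG_ON.Col.e, TCG_ON.Col.b, TCG_ON.Col.a, TCG_ON.Col.f, TCG_ON.Col.g, TCG_ON.Col.e, TCG_ON.Col.f, TCG_ON.Col.e, TCG_ON.Col.c, TCG_ON.Col.d, TCG_ON.Col.a, TCG_ON.Col.e, TCG_ON.Col.c, TCG_ON.Col.f, TCG_ON.Col.b, TCG_ON.Col.g, TCG_ON.Col.b],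
  [TCG_ON.Col.d, TCG_ON.Col.e, TCG_ON.Col.c, TCG_ON.Col.b, TCG_ON.Col.g, TCG_ON.Col.d, TCG_ON.Col.c, TCG_ON.Col.gi, TCG_ON.Col.f, TCG_ON.Col.e, TCG_ON.Col.c, TCG_ON.Col.g, TCG_ON.Col.a, TCG_ON.Col.b, TCG_ON.Col.d, TCG_ON.Col.c, TCG_ON.Col.b, TCG_ON.Col.d, TCG_ON.Col.e, TCG_ON.Col.g, TCG_ON.Col.g, TCG_ON.Col.b, TCG_ON.Col.c, TCG_ON.Col.d, TCG_ON.Col.c, TCG_ON.Col.b, TCG_ON.Col.d, TCG_ON.Col.f, TCG_ON.Col.gi, TCG_ON.Col.e, TCG_ON.Col.a, TCG_ON.Col.c, TCG_ON.Col.g, TCG_ON.Col.f, TCG_ON.Col.b, TCG_ON.Col.gi],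
  [TCG_ON.Col.g, TCG_ON.Col.g, TCG_ON.Col.c, TCG_ON.Col.e, TCG_ON.Col.d, TCG_ON.Col.c, TCG_ON.Col.d, TCG_ON.Col.e, TCG_ON.Col.g, TCG_ON.Col.g, TCG_ON.Col.g, TCG_ON.Col.b, TCG_ON.Col.c, TCG_ON.Col.d, TCG_ON.Col.gi, TCG_ON.Col.c, TCG_ON.Col.b, TCG_ON.Col.g, TCG_ON.Col.a, TCG_ON.Col.e, TCG_ON.Col.d, TCG_ON.Col.c, TCG_ON.Col.b, TCG_ON.Col.d, TCG_ON.Col.g, TCG_ON.Col.g, TCG_ON.Col.d, TCG_ON.Col.g, TCG_ON.Col.c, TCG_ON.Col.b, TCG_ON.Col.g, TCG_ON.Col.e, TCG_ON.Col.g, TCG_ON.Col.b, TCG_ON.Col.d, TCG_ON.Col.c, TCG_ON.Col.b, TCG_ON.Col.g, TCG_ON.Col.c, TCG_ON.Col.b, TCG_ON.Col.d, TCG_ON.Col.f, TCG_ON.Col.e, TCG_ON.Col.g, TCG_ON.Col.b, TCG_ON.Col.e, TCG_ON.Col.d, TCG_ON.Col.g, TCG_ON.Col.b, TCG_ON.Col.a, TCG_ON.Col.c, TCG_ON.Col.b, TCG_ON.Col.d, TCG_ON.Col.c,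 TCG_ON.Col.d, TCG_ON.Col.c, TCG_ON.Col.b, TCG_ON.Col.e, TCG_ON.Col.c, TCG_ON.Col.d, TCG_ON.Col.b, TCG_ON.Col.e, TCG_ON.Col.g, TCG_ON.Col.a, TCG_ON.Col.c],
  [TCG_ON.Col.gi, TCG_ON.Col.b, TCG_ON.Col.a, TCG_ON.Col.d, TCG_ON.Col.c, TCG_ON.Col.b, TCG_ON.Col.e, TCG_ON.Col.g, TCG_ON.Col.a, TCG_ON.Col.b, TCG_ON.Col.e, TCG_ON.Col.g, TCG_ON.Col.c, TCG_ON.Col.g, TCG_ON.Col.b, TCG_ON.Col.d, TCG_ON.Col.e, TCG_ON.Col.g, TCG_ON.Col.b, TCG_ON.Col.c, TCG_ON.Col.g, TCG_ON.Col.d, TCG_ON.Col.c, TCG_ON.Col.d, TCG_ON.Col.e, TCG_ON.Col.b, TCG_ON.Col.d, TCG_ON.Col.g, TCG_ON.Col.c, TCG_ON.Col.d, TCG_ON.Col.g, TCG_ON.Col.b, TCG_ON.Col.d, TCG_ON.Col.e, TCG_ON.Col.d, TCG_ON.Col.c],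
  [TCG_ON.Col.c, TCG_ON.Col.e, TCG_ON.Col.d, TCG_ON.Col.gi, TCG_ON.Col.b, TCG_ON.Col.e, TCG_ON.Col.g, TCG_ON.Col.d, TCG_ON.Col.c, TCG_ON.Col.d, TCG_ON.Col.c, TCG_ON.Col.b, TCG_ON.Col.e, TCG_ON.Col.a, TCG_ON.Col.b, TCG_ON.Col.d, TCG_ON.Col.c, TCG_ON.Col.b, TCG_ON.Col.e, TCG_ON.Col.c, TCG_ON.Col.d, TCG_ON.Col.f, TCG_ON.Col.c, TCG_ON.Col.d, TCG_ON.Col.b, TCG_ON.Col.gi, TCG_ON.Col.b, TCG_ON.Col.c, TCG_ON.Col.d, TCG_ON.Col.e, TCG_ON.Col.gi, TCG_ON.Col.d, TCG_ON.Col.g, TCG_ON.Col.d, TCG_ON.Col.f],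
  [TCG_ON.Col.c, TCG_ON.Col.b, TCG_ON.Col.d, TCG_ON.Col.e, TCG_ON.Col.g, TCG_ON.Col.g, TCG_ON.Col.g, TCG_ON.Col.e, TCG_ON.Col.d, TCG_ON.Col.c, TCG_ON.Col.gi, TCG_ON.Col.d, TCG_ON.Col.e, TCG_ON.Col.g, TCG_ON.Col.b, TCG_ON.Col.c, TCG_ON.Col.d, TCG_ON.Col.c, TCG_ON.Col.d, TCG_ON.Col.e, TCG_ON.Col.a, TCG_ON.Col.g, TCG_ON.Col.g, TCG_ON.Col.c, TCG_ON.Col.b, TCG_ON.Col.d, TCG_ON.Col.c, TCG_ON.Col.d, TCG_ON.Col.e, TCG_ON.Col.b, TCG_ON.Col.gi, TCG_ON.Col.c, TCG_ON.Col.d, TCG_ON.Col.e, TCG_ON.Col.c, TCG_ON.Col.e, TCG_ON.Col.d, TCG_ON.Col.g, TCG_ON.Col.a, TCG_ON.Col.b, TCG_ON.Col.c, TCG_ON.Col.d, TCG_ON.Col.f, TCG_ON.Col.c, TCG_ON.Col.b, TCG_ON.Col.f, TCG_ON.Col.d, TCG_ON.Col.e, TCG_ON.Col.d, TCG_ON.Col.gi, TCG_ON.Col.d],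
  [TCG_ON.Col.g, TCG_ON.Col.d, TCG_ON.Col.c, TCG_ON.Col.gi, TCG_ON.Col.b, TCG_ON.Col.e, TCG_ON.Col.g, TCG_ON.Col.a, TCG_ON.Col.d, TCG_ON.Col.e, TCG_ON.Col.d, TCG_ON.Col.c, TCG_ON.Col.d, TCG_ON.Col.c, TCG_ON.Col.b, TCG_ON.Col.e, TCG_ON.Col.d, TCG_ON.Col.c, TCG_ON.Col.d, TCG_ON.Col.c, TCG_ON.Col.b, TCG_ON.Col.e, TCG_ON.Col.gi, TCG_ON.Col.b, TCG_ON.Col.d, TCG_ON.Col.g, TCG_ON.Col.c, TCG_ON.Col.b, TCG_ON.Col.e, TCG_ON.Col.b, TCG_ON.Col.c, TCG_ON.Col.e, TCG_ON.Col.gi, TCG_ON.Col.b, TCG_ON.Col.d, TCG_ON.Col.g, TCG_ON.Col.d, TCG_ON.Col.c, TCG_ON.Col.d, TCG_ON.Col.c, TCG_ON.Col.gi, TCG_ON.Col.e, TCG_ON.Col.b, TCG_ON.Col.g, TCG_ON.Col.d, TCG_ON.Col.c, TCG_ON.Col.a, TCG_ON.Col.gi, TCG_ON.Col.c, TCG_ON.Col.gi],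
  [TCG_ON.Col.d, TCG_ON.Col.e, TCG_ON.Col.c, TCG_ON.Col.gi, TCG_ON.Col.b, TCG_ON.Col.c, TCG_ON.Col.d, TCG_ON.Col.f, TCG_ON.Col.e, TCG_ON.Col.b, TCG_ON.Col.g, TCG_ON.Col.e, TCG_ON.Col.c, TCG_ON.Col.b, TCG_ON.Col.c, TCG_ON.Col.d, TCG_ON.Col.c, TCG_ON.Col.d, TCG_ON.Col.e, TCG_ON.Col.d, TCG_ON.Col.c, TCG_ON.Col.b, TCG_ON.Col.f, TCG_ON.Col.e, TCG_ON.Col.a, TCG_ON.Col.c, TCG_ON.Col.b, TCG_ON.Col.d, TCG_ON.Col.e, TCG_ON.Col.d, TCG_ON.Col.a, TCG_ON.Col.c, TCG_ON.Col.d, TCG_ON.Col.c, TCG_ON.Col.d, TCG_ON.Col.b, TCG_ON.Col.c, TCG_ON.Col.d, TCG_ON.Col.c, TCG_ON.Col.b, TCG_ON.Col.gi, TCG_ON.Col.e, TCG_ON.Col.gi, TCG_ON.Col.f, TCG_ON.Col.b, TCG_ON.Col.e, TCG_ON.Col.gi]]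
theorem zB : lall (fun w => agB (fun q => walk stp w (TY q)) (fun q => TY (walk stp w q)) (lvs.map Lv.b)) Z = true := by decide +kernel
theorem zQ : lall (fun a => lany2 (fun w => Nat.beq a (walk stp w 2099497)) Z) QY = true := by decide +kernel
theorem cy (c : ON) (h : c * y = y * c) : ∃ w ∈ Z, c = gw P w := dy.lst φ_P good cY Z zB zQ c h
theorem xQ : lall (fun a => lany2 (fun i => Nat.beq a (itN TX i 3277297)) (List.range 11)) QX = true := by decide +kernel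
theorem cx (c : ON) (h : c * x = x * c) : ∃ i : ℕ, c = x ^ i := dx.cyc φ_P good cX x TX hx rfl 11 xQ c h
theorem xp : x ^ 11 = 1 := eq_of_agB good (hx.pow 11) (Acts.one φ) (by decide +kernel)
theorem x1 : x ≠ 1 := ne_of_moved hx (Acts.one φ) (b := 3277297) (mem_sound (by decide +kernel)) (by decide +kernel)
theorem ox : orderOf x = 11 := by
  have : Fact (Nat.Prime 11) := ⟨by norm_num⟩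
  exact orderOf_eq_prime xp x1
theorem yx : y * x = x ^ 2 * y := eq_of_agB good (hy.mul hx) ((hx.pow 2).mul hy) (by decide +kernel)
theorem sy : s * y = y ^ 1 * s := eq_of_agB good (hs.mul hy) ((hy.pow 1).mul hs) (by decide +kernel)
def R : List (List ℕ) := [[0, 2, 2, 0, 2, 2]]
theorem rB : relB TX TY TS R (lvs.map Lv.b) = true := by decide +kernel
theorem srv : srvB stp TX TY TS [1] Z R [(1, 2099497), (1, 3780599)] 2099497 2097169 = true := by decide +kernel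
noncomputable def E : Col → List ℕ := fun c => Col.rec (motive := fun _ => List ℕ) [0, 0, 1, 2, 2, 1, 1, 2, 1, 0, 0, 1, 0, 2, 1, 0, 1, 1, 2, 0, 2, 0, 0, 2, 1, 1, 2, 1, 0, 2, 0, 0, 2, 1, 2, 2, 0, 2, 0, 2, 0, 2, 2, 1, 0, 2, 0, 0, 0, 0, 0, 2, 0, 1, 0, 1, 0] [1, 2, 1, 2, 1, 0, 2, 0, 1, 0, 1, 2, 0, 1, 0, 2, 0, 0, 1, 0, 2, 0, 1, 1, 0, 2, 2, 2, 0, 0, 1, 1, 2, 0, 0, 2, 0, 0, 2, 2, 2, 1, 1, 0, 0, 2, 1, 1, 0, 2, 0, 1, 1, 2, 2, 2, 0, 1, 1, 0, 1, 2, 0, 2, 0, 1, 1, 2, 1, 0, 0, 2, 0, 2, 1, 1, 0, 2, 0, 1, 0, 2, 0, 1, 2, 0, 2, 1, 2, 2, 0, 2, 2, 2, 0, 0, 2, 0, 2, 0, 1, 1, 2, 1, 0] [0, 1, 0, 2, 1, 1, 1, 0, 2, 0, 2, 0, 1, 1, 0, 0, 2, 0, 2, 1, 0, 1, 0, 2, 0, 1, 0, 0, 1, 0, 2, 0, 2, 2, 2, 1, 1, 1, 0, 1, 1] [2, 1, 2, 1, 1, 1, 2, 0, 2, 0, 2, 0, 2, 1, 0, 0, 2, 0, 1,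 2, 1, 2, 1, 1, 2, 0, 1, 2, 1, 2, 2, 0, 1, 2, 2, 2, 0, 1, 2, 0, 2, 1, 0, 1, 2, 2, 2, 0, 0, 1, 2, 1, 0, 1, 1, 0, 2, 0, 1, 2, 2, 2, 1, 2, 2, 0, 2, 1, 0, 0, 2, 2, 0, 0, 1, 0, 1, 2, 0, 2, 2, 2, 1, 0, 2, 1, 0, 2, 1, 0, 1, 1, 2] [1, 1, 1, 2, 0, 1, 1, 2, 0, 0, 1, 1, 1, 1, 2, 0, 2, 0, 1, 2, 0, 2, 0, 1, 1, 0, 0, 2, 0, 0, 2, 1, 0, 1, 2, 2, 2, 2, 2, 2, 2, 0, 1, 2, 0, 1, 2, 0, 2, 2, 2, 0, 1, 0, 1, 1, 1, 1, 2, 0, 2, 0, 0, 1, 0, 0, 0, 0, 2, 0, 0, 0, 2, 2, 1, 2, 0, 1, 1, 2, 0, 2, 1, 2, 2] [1, 1, 0, 1, 2, 1, 1, 1, 0, 2, 1, 1, 2, 2, 2, 0, 0, 2, 0, 2, 1, 0, 0, 1, 2, 1, 1, 2, 2, 2, 0, 0, 1, 0, 2, 0, 2, 1, 0, 2, 0, 2, 0, 0, 1, 0, 0, 0, 2, 2, 2, 2, 0, 0, 2, 0, 1, 2, 0, 1] [0, 1, 2, 0, 2, 0, 1, 2, 2, 2, 0, 2, 0, 1, 1, 2, 0, 1, 2, 0, 2, 2, 0, 1, 0, 2, 0, 1, 1, 1, 1,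 1, 0, 1, 1, 2, 1, 0, 2, 0, 0, 0, 1, 0, 2, 0, 2, 0, 2, 0, 1, 2, 0, 2, 2, 0, 2, 0, 2, 0, 1, 0, 2, 2, 0, 0, 1, 2, 1, 1, 0, 2, 2] [0, 2, 2, 1, 1, 1, 2, 0, 0, 2, 0, 0, 0, 1, 0, 1, 2, 2, 0, 0, 2, 0, 0, 2, 1, 0, 0, 2, 0, 2, 0, 0, 0, 2, 0, 1, 1, 0, 1, 0, 2, 0, 0, 1, 2, 0, 1, 0, 0, 0, 0, 0, 0, 1, 2, 2, 0, 0, 2, 0, 0, 0, 0, 2, 1, 1, 0, 2, 0, 2, 0, 2, 0, 1, 2, 2, 1, 1, 0, 2, 0, 0, 2, 0] c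
theorem eB : lall (fun c => agB (stp c) (walkC (st3 TX TY TS) (E c)) (lvs.map Lv.b)) cols = true := by decide +kernel
theorem norm (α : MulAut ON) : ∃ h : ON, ∃ k ∈ [1], ∃ z : ON, z * y = y * z ∧ h * α x * h⁻¹ = x ^ k ∧ h * α y * h⁻¹ = y ∧ h * α s * h⁻¹ = s * z := by
  have : Fact (Nat.Prime 11) := ⟨by norm_num⟩
  refine aut_norm2 (p := 11) (M := 11) (q := 1) ox (by norm_num) rfl (by rw [order_main.1]; norm_num) (fun c h => cx c (by simpa using h)) yx ?_ sy [1] ?_ α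
  · have h : ∀ i < 11, ∃ a < 11, (a + 2 * i) % 11 = (2 * a) % 11 := by decide +kernel
    exact fun i hi => Or.inl (h i hi)
  · decide +kernel
theorem aut : AutD φ P stp lvs x y s TX TY TS [1] Z 2099497 [(1, 2099497), (1, 3780599)] E where
  hG := good
  hg := hg
  hgen := P_top
  hx := hx
  hy := hy
  hs := hs
  norm := norm
  cy := cy
  zy := fun w hw w' hw' h => dy.z_eq φ_P good zB hw hw' h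
  srv := fun δ k hk w hw h1 h2 h3 => srv_sound good hg hx hy hs (mem_sound (by decide +kernel)) rB srv δ hk hw h1 h2 h3
  hE := hE_of good hg hx hy hs hcols eB
noncomputable def F (c : Col) : ON := gw (ge3 (x ^ 1) y (s * gw P z1)) (E c)
noncomputable def stF : Col → ℕ → ℕ := fun c q => nf q (walkC (st3 (itN TX 1) TY TU) (E c))
theorem hF (c : Col) : Acts φ (F c) (stF c) := ActsF (hx.pow 1) hy hu E c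
theorem invB : lall (fun c => agB (walkC stF [c, inv c]) (fun q => q) (lvs.map Lv.b)) cols = true := by decide +kernel
theorem F_inv (c : Col) : F (inv c) = (F c)⁻¹ := CfsgLib.TC.inv_of good hF hcols invB c
theorem relFB : lall (fun w => agB (walkC stF w) (fun q => q) (lvs.map Lv.b)) RW = true := by decide +kernel
theorem F_sat : Sat ON.edges ON.extra (fun a => F (col a)) := sat_of_rwx (col := col) (inv := inv) h2 h3 F F_inv TV (by rw [rw_eq]; exact CfsgLib.TC.rel_of good hF relFB)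
noncomputable def τ : ON →* ON := homOf F_sat
theorem τ_of (a : ON.Gen) : τ (PresentedGroup.of a) = F (col a) := homOf_of F_sat a
theorem τ_P (c : Col) : τ (P c) = F c := by
  cases c
  · exact τ_of .g
  · have h := τ_of .g
    have h1 : P .gi = (P .g)⁻¹ := P_inv .g
    have h2 : F .gi = (F .g)⁻¹ := F_inv .g
    rw [h1, map_inv, h2]; exact congrArg _ h
  · exact τ_of .a
  · exact τ_of .b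
  · exact τ_of .c
  · exact τ_of .d
  · exact τ_of .e
  · exact τ_of .f
theorem txB : agB (walkC stF wx) (itN TX 1) (lvs.map Lv.b) = true := by decide +kernel
theorem tyB : agB (walkC stF wy) TY (lvs.map Lv.b) = true := by decide +kernel
theorem tsB : agB (walkC stF ws) TU (lvs.map Lv.b) = true := by decide +kernel
theorem τx : τ x = x ^ 1 := CfsgLib.TC.tau_word good hF τ_P wx (hx.pow 1) txB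
theorem τy : τ y = y := CfsgLib.TC.tau_word good hF τ_P wy hy tyB
theorem τs : τ s = s * gw P z1 := CfsgLib.TC.tau_word good hF τ_P ws hu tsB
theorem xk : x ^ 1 ≠ 1 := ne_of_moved (hx.pow 1) (Acts.one φ) (b := 3277297) (mem_sound (by decide +kernel)) (by decide +kernel)
theorem z1m : z1 ∈ Z := List.getElem_mem (l := Z) (n := 2) (by decide +kernel)
theorem ni : niB stp TX TS 1 z1 Z [2097211] = true := by decide +kernel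
theorem z1q : walk stp z1 2099497 = 3780599 := by decide +kernel
theorem out_card : Nat.card (Cfsg.Out ON) = 2 :=
  aut.out_two simple List.mem_cons_self x1 xk z1m (by rw [z1q]) τ τ_P τx τy τs (by decide +kernel) ni
end CfsgLib.TCON.Au
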