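import Cfsg.Agent.EqBase
import Cfsg.Agent.LibTCAutSuzA
set_option autoImplicit false
set_option linter.all false
set_option maxRecDepth 1000000
set_option maxHeartbeats 0
namespace CfsgLib.TCSuz.Au
open CfsgLib.TC Cfsg.Spor CfsgLib.TCG_Suz CfsgLib.TCSuz CfsgLib.TCSuz.Chain
theorem cX : Tr.all (cenB stp 80 [46549, 41213] lvs TX [10, 1, 4, 5, 0, 2] QX) L = true := by decide +kernel
end CfsgLib.TCSuz.Au
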