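import Cfsg.Agent.EqBase
import Cfsg.Agent.LibTCGSuz
set_option autoImplicit false
set_option linter.all false
set_option maxRecDepth 1000000
set_option maxHeartbeats 0
namespace CfsgLib.TCSuz
open CfsgLib.TC Cfsg.Spor
open CfsgLib.TCG_Suz
noncomputable def SW0 : List (List Col) := [[Col.a], [Col.b], [Col.c], [Col.d], [Col.e], [Col.f]]
def HX : List (Ex Suz.Gen) := [(.v .a), (.v .b), (.v .c), (.v .d), (.v .e), (.v .f)]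
theorem sw_eq : HX.map (fun e => e.word col inv) = SW0 := lleq_sound dec hdec _ _ (by decide +kernel)
noncomputable def SW1 : List (List Col) := SW0 ++ [[Col.g, Col.b, Col.a, Col.f, Col.b, Col.a, Col.b, Col.g]]
noncomputable def SW2 : List (List Col) := SW1 ++ [[Col.g, Col.b, Col.a, Col.b, Col.c, Col.b, Col.a, Col.g, Col.b, Col.c, Col.a, Col.b, Col.g]]
noncomputable def SW3 : List (List Col) := SW2 ++ [[Col.g, Col.b, Col.c, Col.d, Col.f, Col.b, Col.g, Col.c, Col.b, Col.f, Col.d, Col.c, Col.b, Col.g]]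
noncomputable def SW4 : List (List Col) := SW3 ++ [[Col.g, Col.b, Col.a, Col.c, Col.b, Col.d, Col.e, Col.g, Col.f, Col.b, Col.c, Col.d, Col.c, Col.b, Col.f, Col.g, Col.e, Col.d, Col.b, Col.c, Col.a, Col.b, Col.g]]
noncomputable def SW5 : List (List Col) := SW4 ++ [[Col.g, Col.b, Col.c, Col.d, Col.c, Col.b, Col.e, Col.d, Col.c, Col.g, Col.b, Col.a, Col.b, Col.g, Col.c, Col.d, Col.e, Col.b, Col.c, Col.d, Col.c, Col.b, Col.g]]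
noncomputable def SW6 : List (List Col) := SW5 ++ [[Col.g, Col.b, Col.c, Col.d, Col.c, Col.b, Col.e, Col.d, Col.c, Col.g, Col.b, Col.f, Col.b, Col.g, Col.b, Col.c, Col.d, Col.e, Col.b, Col.c, Col.d, Col.c, Col.b, Col.g]]
noncomputable def mini0S : Tr (Fc Col) := (Tr.nd (nat_lit 7) (Tr.nd (nat_lit 3) (Tr.nd (nat_lit 1) (Tr.lf (Fc.ed (nat_lit 0) (nat_lit 0) Col.a (nat_lit 0) (Dv.sb (nat_lit 0) [] []))) (Tr.nd (nat_lit 2) (Tr.lf (Fc.ed (nat_lit 1) (nat_lit 0) Col.b (nat_lit 0) (Dv.sb (nat_lit 1) [] []))) (Tr.lf (Fc.ed (nat_lit 2) (nat_lit 0) Col.f (nat_lit 0) (Dv.sb (nat_lit 2) [] []))))) (Tr.nd (nat_lit 5) (Tr.nd (nat_lit 4) (Tr.lf (Fc.ed (nat_lit 3) (nat_lit 0) Col.g (nat_lit 1) Dv.df)) (Tr.lf (Fc.ed (nat_lit 4) (nat_lit 1) Col.f (nat_lit 1) (Dv.wd (nat_lit 3) [Mv.b (nat_lit 3), Mv.f (nat_lit 0), Mv.f (nat_lit 2),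 Mv.f (nat_lit 3)])))) (Tr.nd (nat_lit 6) (Tr.lf (Fc.ed (nat_lit 5) (nat_lit 1) Col.b (nat_lit 2) Dv.df)) (Tr.lf (Fc.ed (nat_lit 6) (nat_lit 2) Col.g (nat_lit 2) (Dv.wd (nat_lit 4) [Mv.b (nat_lit 5), Mv.b (nat_lit 3), Mv.f (nat_lit 1), Mv.f (nat_lit 3), Mv.f (nat_lit 5)])))))) (Tr.nd (nat_lit 11) (Tr.nd (nat_lit 9) (Tr.nd (nat_lit 8) (Tr.lf (Fc.ed (nat_lit 7) (nat_lit 2) Col.a (nat_lit 3) Dv.df)) (Tr.lf (Fc.ed (nat_lit 8) (nat_lit 3) Col.f (nat_lit 4) Dv.df))) (Tr.nd (nat_lit 10) (Tr.lf (Fc.ed (nat_lit 9) (nat_lit 4) Col.b (nat_lit 5) Dv.df)) (Tr.lf (Fc.ed (nat_lit 10) (nat_lit 4) Col.g (nat_lit 6) Dv.df)))) (Tr.nd (nat_lit 13) (Tr.nd (nat_lit 12) (Tr.lf (Fc.ed (nat_lit 11) (nat_lit 6) Col.f (nat_lit 2) (Dv.wd (nat_lit 3) [Mv.f (nat_lit 6), Mv.f (nat_lit 7), Mv.f (nat_lit 8), Mv.f (nat_lit 10)]))) (Tr.lf (Fc.ed (nat_lit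 12) (nat_lit 6) Col.b (nat_lit 6) (Dv.wd (nat_lit 5) [Mv.f (nat_lit 11), Mv.b (nat_lit 5), Mv.f (nat_lit 4), Mv.f (nat_lit 5), Mv.b (nat_lit 11)])))) (Tr.nd (nat_lit 14) (Tr.lf (Fc.al (nat_lit 13) (nat_lit 3) (nat_lit 5) (Dv.wd (nat_lit 6) [Mv.b (nat_lit 9), Mv.f (nat_lit 10), Mv.f (nat_lit 11), Mv.b (nat_lit 5), Mv.b (nat_lit 3), Mv.f (nat_lit 2), Mv.f (nat_lit 1), Mv.f (nat_lit 3), Mv.f (nat_lit 4), Mv.f (nat_lit 5), Mv.f (nat_lit 6), Mv.b (nat_lit 11), Mv.f (nat_lit 12), Mv.b (nat_lit 10), Mv.b (nat_lit 8)]))) (Tr.lf (Fc.ed (nat_lit 14) (nat_lit 3) Col.b (nat_lit 4) (Dv.wd (nat_lit 7) [Mv.f (nat_lit 9), Mv.b (nat_lit 13)])))))))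
noncomputable def mini0A : Tr (Alt Col) := (Tr.nd (nat_lit 4) (Tr.nd (nat_lit 2) (Tr.nd (nat_lit 1) (Tr.lf (Alt.base (nat_lit 0) [] [Col.a])) (Tr.lf (Alt.base (nat_lit 1) [] [Col.b]))) (Tr.nd (nat_lit 3) (Tr.lf (Alt.base (nat_lit 5) [] [Col.f])) (Tr.lf (Alt.word (nat_lit 29) (nat_lit 2) true [Col.f, Col.g, Col.a, Col.f, Col.g])))) (Tr.nd (nat_lit 6) (Tr.nd (nat_lit 5) (Tr.lf (Alt.word (nat_lit 12) (nat_lit 2) true [Col.g, Col.b, Col.g, Col.b, Col.g, Col.b])) (Tr.lf (Alt.word (nat_lit 11) (nat_lit 5) true [Col.b, Col.f, Col.b, Col.f, Col.b, Col.f]))) (Tr.nd (nat_lit 7) (Tr.lf (Alt.word (nat_lit 31) (nat_lit 14) true [Col.b, Col.g, Col.f, Col.b, Col.g, Col.f, Col.b, Col.g, Col.f, Col.b, Col.g, Col.f, Col.b, Col.g, Col.f])) (Tr.lf (Alt.word (nat_lit 7) (nat_lit 0) true [Col.b, Col.b])))))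
noncomputable def mini0P : Tr ℕ := (Tr.nd (nat_lit 3) (Tr.nd (nat_lit 1) (Tr.lf (nat_lit 0)) (Tr.nd (nat_lit 2) (Tr.lf (nat_lit 0)) (Tr.lf (nat_lit 1)))) (Tr.nd (nat_lit 5) (Tr.nd (nat_lit 4) (Tr.lf (nat_lit 2)) (Tr.lf (nat_lit 3))) (Tr.nd (nat_lit 6) (Tr.lf (nat_lit 4)) (Tr.lf (nat_lit 4)))))
noncomputable def mini0Q : Tr ℕ := (Tr.nd (nat_lit 3) (Tr.nd (nat_lit 1) (Tr.lf (nat_lit 0)) (Tr.nd (nat_lit 2) (Tr.lf (nat_lit 6)) (Tr.lf (nat_lit 1)))) (Tr.nd (nat_lit 5) (Tr.nd (nat_lit 4) (Tr.lf (nat_lit 0)) (Tr.lf (nat_lit 5))) (Tr.nd (nat_lit 6) (Tr.lf (nat_lit 1)) (Tr.lf (nat_lit 6)))))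
theorem mini0_alt : Tr.all (altChk idx inv RW (SW0)) mini0A = true := by decide +kernel
theorem mini0_chk : Tr.all (chkFc idx inv mini0S mini0A (fun b => Tr.find b mini0P) (fun b => Tr.find b mini0Q)) mini0S = true := by decide +kernel
theorem mini0_run : runM idx inv mini0S 15 0 [Mv.f (nat_lit 3), Mv.f (nat_lit 5), Mv.f (nat_lit 7), Mv.f (nat_lit 8), Mv.b (nat_lit 14), Mv.b (nat_lit 7), Mv.b (nat_lit 5), Mv.b (nat_lit 3)] [Col.g, Col.b, Col.a, Col.f, Col.b, Col.a, Col.b, Col.g] 0 = true := by decide +kernel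
theorem mini0_fix {G X : Type*} [Group G] [MulAction G X] (g : Col → G) (x0 : X) (hinv : ∀ c, g (inv c) = (g c)⁻¹)
    (hRW : ∀ w ∈ RW, gw g w = 1) (hSW : ∀ w ∈ SW0, gw g w • x0 = x0) : gw g [Col.g, Col.b, Col.a, Col.f, Col.b, Col.a, Col.b, Col.g] • x0 = x0 :=
  mini_sound g x0 dec hdec hinv
    (fun a ha => altChk_sound g x0 dec hdec hinv hRW hSW ((Tr.all_iff _ _).1 mini0_alt a ha)) mini0_chk mini0_run
noncomputable def mini1S : Tr (Fc Col) := (Tr.nd (nat_lit 24) (Tr.nd (nat_lit 12) (Tr.nd (nat_lit 6) (Tr.nd (nat_lit 3) (Tr.nd (nat_lit 1) (Tr.lf (Fc.ed (nat_lit 0) (nat_lit 0) Col.a (nat_lit 0) (Dv.sb (nat_lit 0) [] []))) (Tr.nd (nat_lit 2) (Tr.lf (Fc.ed (nat_lit 1) (nat_lit 0) Col.b (nat_lit 0) (Dv.sb (nat_lit 1) [] []))) (Tr.lf (Fc.ed (nat_lit 2) (nat_lit 0) Col.c (nat_lit 0) (Dv.sb (nat_lit 2) [] []))))) (Tr.nd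 (nat_lit 4) (Tr.lf (Fc.ed (nat_lit 3) (nat_lit 0) Col.f (nat_lit 0) (Dv.sb (nat_lit 3) [] []))) (Tr.nd (nat_lit 5) (Tr.lf (Fc.ed (nat_lit 4) (nat_lit 0) Col.g (nat_lit 1) Dv.df)) (Tr.lf (Fc.ed (nat_lit 5) (nat_lit 1) Col.b (nat_lit 2) Dv.df))))) (Tr.nd (nat_lit 9) (Tr.nd (nat_lit 7) (Tr.lf (Fc.ed (nat_lit 6) (nat_lit 2) Col.a (nat_lit 3) Dv.df)) (Tr.nd (nat_lit 8) (Tr.lf (Fc.ed (nat_lit 7) (nat_lit 3) Col.f (nat_lit 4) Dv.df)) (Tr.lf (Fc.ed (nat_lit 8) (nat_lit 4) Col.b (nat_lit 3) (Dv.sb (nat_lit 4) [Mv.f (nat_lit 4), Mv.f (nat_lit 5), Mv.f (nat_lit 6), Mv.f (nat_lit 7)] [Mv.b (nat_lit 6), Mv.b (nat_lit 5), Mv.b (nat_lit 4)]))))) (Tr.nd (nat_lit 10) (Tr.lf (Fc.ed (nat_lit 9) (nat_lit 2) Col.g (nat_lit 2) (Dv.wd (nat_lit 5) [Mv.b (nat_lit 5), Mv.b (nat_lit 4), Mv.f (nat_lit 1), Mv.f (nat_lit 4), Mv.f (nat_lit 5)])))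 (Tr.nd (nat_lit 11) (Tr.lf (Fc.ed (nat_lit 10) (nat_lit 3) Col.g (nat_lit 3) (Dv.wd (nat_lit 6) [Mv.b (nat_lit 6), Mv.f (nat_lit 9), Mv.f (nat_lit 6)]))) (Tr.lf (Fc.ed (nat_lit 11) (nat_lit 1) Col.c (nat_lit 1) (Dv.wd (nat_lit 7) [Mv.b (nat_lit 4), Mv.f (nat_lit 2), Mv.f (nat_lit 4)]))))))) (Tr.nd (nat_lit 18) (Tr.nd (nat_lit 15) (Tr.nd (nat_lit 13) (Tr.lf (Fc.ed (nat_lit 12) (nat_lit 1) Col.f (nat_lit 1) (Dv.wd (nat_lit 8) [Mv.b (nat_lit 4), Mv.f (nat_lit 0), Mv.f (nat_lit 3), Mv.f (nat_lit 4)]))) (Tr.nd (nat_lit 14) (Tr.lf (Fc.ed (nat_lit 13) (nat_lit 4) Col.c (nat_lit 5) Dv.df)) (Tr.lf (Fc.ed (nat_lit 14) (nat_lit 5) Col.b (nat_lit 6) Dv.df)))) (Tr.nd (nat_lit 16) (Tr.lf (Fc.ed (nat_lit 15) (nat_lit 6) Col.a (nat_lit 7) Dv.df)) (Tr.nd (nat_lit 17) (Tr.lf (Fc.ed (nat_lit 16) (nat_lit 7) Col.g (nat_lit 8) Dv.df))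 (Tr.lf (Fc.ed (nat_lit 17) (nat_lit 8) Col.b (nat_lit 9) Dv.df))))) (Tr.nd (nat_lit 21) (Tr.nd (nat_lit 19) (Tr.lf (Fc.ed (nat_lit 18) (nat_lit 9) Col.c (nat_lit 10) Dv.df)) (Tr.nd (nat_lit 20) (Tr.lf (Fc.ed (nat_lit 19) (nat_lit 6) Col.g (nat_lit 11) Dv.df)) (Tr.lf (Fc.ed (nat_lit 20) (nat_lit 11) Col.a (nat_lit 8) (Dv.wd (nat_lit 9) [Mv.b (nat_lit 16), Mv.b (nat_lit 15), Mv.f (nat_lit 19)]))))) (Tr.nd (nat_lit 22) (Tr.lf (Fc.ed (nat_lit 21) (nat_lit 2) Col.f (nat_lit 12) Dv.df)) (Tr.nd (nat_lit 23) (Tr.lf (Fc.ed (nat_lit 22) (nat_lit 12) Col.a (nat_lit 4) (Dv.wd (nat_lit 10) [Mv.b (nat_lit 7), Mv.b (nat_lit 6), Mv.f (nat_lit 21)]))) (Tr.lf (Fc.ed (nat_lit 23) (nat_lit 12) Col.g (nat_lit 4) (Dv.wd (nat_lit 11) [Mv.b (nat_lit 7), Mv.f (nat_lit 10), Mv.b (nat_lit 6), Mv.f (nat_lit 21)])))))))) (Tr.nd (nat_lit 36)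 (Tr.nd (nat_lit 30) (Tr.nd (nat_lit 27) (Tr.nd (nat_lit 25) (Tr.lf (Fc.ed (nat_lit 24) (nat_lit 12) Col.b (nat_lit 12) (Dv.wd (nat_lit 12) [Mv.b (nat_lit 21), Mv.b (nat_lit 5), Mv.f (nat_lit 12), Mv.f (nat_lit 5), Mv.f (nat_lit 21)]))) (Tr.nd (nat_lit 26) (Tr.lf (Fc.ed (nat_lit 25) (nat_lit 2) Col.c (nat_lit 13) Dv.df)) (Tr.lf (Fc.ed (nat_lit 26) (nat_lit 13) Col.g (nat_lit 13) (Dv.wd (nat_lit 13) [Mv.b (nat_lit 25), Mv.f (nat_lit 9), Mv.f (nat_lit 25)]))))) (Tr.nd (nat_lit 28) (Tr.lf (Fc.ed (nat_lit 27) (nat_lit 13) Col.b (nat_lit 13) (Dv.wd (nat_lit 14) [Mv.b (nat_lit 25), Mv.b (nat_lit 5), Mv.f (nat_lit 11), Mv.f (nat_lit 5), Mv.f (nat_lit 25)]))) (Tr.nd (nat_lit 29) (Tr.lf (Fc.ed (nat_lit 28) (nat_lit 6) Col.f (nat_lit 14) Dv.df)) (Tr.lf (Fc.ed (nat_lit 29) (nat_lit 5) Col.f (nat_lit 15) Dv.df))))) (Tr.nd (nat_lit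 33) (Tr.nd (nat_lit 31) (Tr.lf (Fc.ed (nat_lit 30) (nat_lit 15) Col.c (nat_lit 3) (Dv.wd (nat_lit 15) [Mv.f (nat_lit 7), Mv.f (nat_lit 13), Mv.f (nat_lit 29)]))) (Tr.nd (nat_lit 32) (Tr.lf (Fc.ed (nat_lit 31) (nat_lit 13) Col.a (nat_lit 15) (Dv.wd (nat_lit 16) [Mv.f (nat_lit 30), Mv.b (nat_lit 6), Mv.f (nat_lit 25)]))) (Tr.lf (Fc.ed (nat_lit 32) (nat_lit 12) Col.c (nat_lit 16) Dv.df)))) (Tr.nd (nat_lit 34) (Tr.lf (Fc.ed (nat_lit 33) (nat_lit 16) Col.a (nat_lit 5) (Dv.wd (nat_lit 17) [Mv.b (nat_lit 13), Mv.b (nat_lit 22), Mv.f (nat_lit 32)]))) (Tr.nd (nat_lit 35) (Tr.lf (Fc.ed (nat_lit 34) (nat_lit 16) Col.f (nat_lit 13) (Dv.wd (nat_lit 18) [Mv.b (nat_lit 25), Mv.f (nat_lit 21), Mv.f (nat_lit 32)]))) (Tr.lf (Fc.ed (nat_lit 35) (nat_lit 16) Col.g (nat_lit 5) (Dv.wd (nat_lit 13) [Mv.b (nat_lit 13), Mv.b (nat_lit 23),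 Mv.f (nat_lit 32)]))))))) (Tr.nd (nat_lit 42) (Tr.nd (nat_lit 39) (Tr.nd (nat_lit 37) (Tr.lf (Fc.ed (nat_lit 36) (nat_lit 11) Col.b (nat_lit 17) Dv.df)) (Tr.nd (nat_lit 38) (Tr.lf (Fc.ed (nat_lit 37) (nat_lit 8) Col.f (nat_lit 18) Dv.df)) (Tr.lf (Fc.ed (nat_lit 38) (nat_lit 18) Col.g (nat_lit 14) (Dv.wd (nat_lit 11) [Mv.b (nat_lit 28), Mv.f (nat_lit 19), Mv.f (nat_lit 20), Mv.f (nat_lit 37)]))))) (Tr.nd (nat_lit 40) (Tr.lf (Fc.ed (nat_lit 39) (nat_lit 16) Col.b (nat_lit 19) Dv.df)) (Tr.nd (nat_lit 41) (Tr.lf (Fc.ed (nat_lit 40) (nat_lit 19) Col.c (nat_lit 19) (Dv.wd (nat_lit 19) [Mv.b (nat_lit 39), Mv.b (nat_lit 32), Mv.f (nat_lit 24), Mv.f (nat_lit 32), Mv.f (nat_lit 39)]))) (Tr.lf (Fc.ed (nat_lit 41) (nat_lit 19) Col.f (nat_lit 19) (Dv.wd (nat_lit 20) [Mv.b (nat_lit 39), Mv.f (nat_lit 34), Mv.f (nat_lit 27), Mv.b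 (nat_lit 34), Mv.f (nat_lit 39)])))))) (Tr.nd (nat_lit 45) (Tr.nd (nat_lit 43) (Tr.lf (Fc.ed (nat_lit 42) (nat_lit 19) Col.g (nat_lit 17) (Dv.wd (nat_lit 5) [Mv.b (nat_lit 36), Mv.b (nat_lit 19), Mv.b (nat_lit 14), Mv.b (nat_lit 35), Mv.f (nat_lit 39)]))) (Tr.nd (nat_lit 44) (Tr.lf (Fc.ed (nat_lit 43) (nat_lit 19) Col.a (nat_lit 19) (Dv.wd (nat_lit 21) [Mv.f (nat_lit 41), Mv.f (nat_lit 40), Mv.b (nat_lit 39), Mv.f (nat_lit 33), Mv.f (nat_lit 29), Mv.f (nat_lit 30), Mv.b (nat_lit 8), Mv.b (nat_lit 22), Mv.b (nat_lit 21), Mv.f (nat_lit 25), Mv.f (nat_lit 27), Mv.f (nat_lit 31), Mv.b (nat_lit 29), Mv.b (nat_lit 13), Mv.f (nat_lit 8), Mv.b (nat_lit 6), Mv.f (nat_lit 21), Mv.f (nat_lit 32), Mv.f (nat_lit 39)]))) (Tr.lf (Fc.ed (nat_lit 44) (nat_lit 17) Col.f (nat_lit 17) (Dv.wd (nat_lit 8) [Mv.b (nat_lit 42), Mv.f (nat_lit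 43), Mv.f (nat_lit 41), Mv.f (nat_lit 42)]))))) (Tr.nd (nat_lit 47) (Tr.nd (nat_lit 46) (Tr.lf (Fc.ed (nat_lit 45) (nat_lit 14) Col.b (nat_lit 18) (Dv.wd (nat_lit 22) [Mv.f (nat_lit 38), Mv.b (nat_lit 28), Mv.b (nat_lit 14), Mv.b (nat_lit 35), Mv.f (nat_lit 34), Mv.f (nat_lit 27), Mv.f (nat_lit 26), Mv.b (nat_lit 34), Mv.f (nat_lit 39), Mv.f (nat_lit 42), Mv.f (nat_lit 44), Mv.b (nat_lit 36), Mv.b (nat_lit 19), Mv.f (nat_lit 28)]))) (Tr.lf (Fc.al (nat_lit 46) (nat_lit 9) (nat_lit 15) (Dv.wd (nat_lit 23) [Mv.b (nat_lit 29), Mv.f (nat_lit 14), Mv.f (nat_lit 28), Mv.f (nat_lit 45), Mv.b (nat_lit 37), Mv.f (nat_lit 17)])))) (Tr.nd (nat_lit 48) (Tr.lf (Fc.al (nat_lit 47) (nat_lit 10) (nat_lit 3) (Dv.wd (nat_lit 24) [Mv.b (nat_lit 30), Mv.b (nat_lit 46), Mv.f (nat_lit 18)]))) (Tr.lf (Fc.ed (nat_lit 48) (nat_lit 3) Col.c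 (nat_lit 9) (Dv.wd (nat_lit 24) [Mv.f (nat_lit 18), Mv.f (nat_lit 47)])))))))))
noncomputable def mini1A : Tr (Alt Col) := (Tr.nd (nat_lit 12) (Tr.nd (nat_lit 6) (Tr.nd (nat_lit 3) (Tr.nd (nat_lit 1) (Tr.lf (Alt.base (nat_lit 0) [] [Col.a])) (Tr.nd (nat_lit 2) (Tr.lf (Alt.base (nat_lit 1) [] [Col.b])) (Tr.lf (Alt.base (nat_lit 2) [] [Col.c])))) (Tr.nd (nat_lit 4) (Tr.lf (Alt.base (nat_lit 5) [] [Col.f])) (Tr.nd (nat_lit 5) (Tr.lf (Alt.base (nat_lit 6) [Col.g, Col.b, Col.a, Col.f] [Col.b, Col.a, Col.b, Col.g])) (Tr.lf (Alt.word (nat_lit 12) (nat_lit 2) true [Col.g, Col.b, Col.g, Col.b, Col.g, Col.b]))))) (Tr.nd (nat_lit 9) (Tr.nd (nat_lit 7) (Tr.lf (Alt.word (nat_lit 6) (nat_lit 2) true [Col.g, Col.a, Col.g, Col.a])) (Tr.nd (nat_lit 8) (Tr.lf (Alt.word (nat_lit 17) (nat_lit 1) true [Col.c, Col.g, Col.c, Col.g])) (Tr.lf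 (Alt.word (nat_lit 29) (nat_lit 2) true [Col.f, Col.g, Col.a, Col.f, Col.g])))) (Tr.nd (nat_lit 10) (Tr.lf (Alt.word (nat_lit 6) (nat_lit 1) true [Col.a, Col.g, Col.a, Col.g])) (Tr.nd (nat_lit 11) (Tr.lf (Alt.word (nat_lit 5) (nat_lit 1) true [Col.a, Col.f, Col.a, Col.f])) (Tr.lf (Alt.word (nat_lit 29) (nat_lit 1) true [Col.g, Col.f, Col.g, Col.a, Col.f])))))) (Tr.nd (nat_lit 18) (Tr.nd (nat_lit 15) (Tr.nd (nat_lit 13) (Tr.lf (Alt.word (nat_lit 11) (nat_lit 1) true [Col.b, Col.f, Col.b, Col.f, Col.b, Col.f])) (Tr.nd (nat_lit 14) (Tr.lf (Alt.word (nat_lit 17) (nat_lit 2) true [Col.g, Col.c, Col.g, Col.c])) (Tr.lf (Alt.word (nat_lit 8) (nat_lit 1) true [Col.b, Col.c, Col.b, Col.c, Col.b, Col.c])))) (Tr.nd (nat_lit 16) (Tr.lf (Alt.word (nat_lit 16) (nat_lit 1) true [Col.c, Col.f, Col.c, Col.f])) (Tr.nd (nat_lit 17)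 (Tr.lf (Alt.word (nat_lit 2) (nat_lit 3) true [Col.a, Col.c, Col.a, Col.c])) (Tr.lf (Alt.word (nat_lit 2) (nat_lit 1) true [Col.a, Col.c, Col.a, Col.c]))))) (Tr.nd (nat_lit 21) (Tr.nd (nat_lit 19) (Tr.lf (Alt.word (nat_lit 16) (nat_lit 2) true [Col.f, Col.c, Col.f, Col.c])) (Tr.nd (nat_lit 20) (Tr.lf (Alt.word (nat_lit 8) (nat_lit 2) true [Col.c, Col.b, Col.c, Col.b, Col.c, Col.b])) (Tr.lf (Alt.word (nat_lit 11) (nat_lit 2) true [Col.f, Col.b, Col.f, Col.b, Col.f, Col.b])))) (Tr.nd (nat_lit 23) (Tr.nd (nat_lit 22) (Tr.lf (Alt.word (nat_lit 30) (nat_lit 3) true [Col.a, Col.f, Col.c, Col.b, Col.a, Col.f, Col.c, Col.b, Col.a, Col.f, Col.c, Col.b, Col.a, Col.f, Col.c, Col.b, Col.a, Col.f, Col.c, Col.b])) (Tr.lf (Alt.word (nat_lit 31) (nat_lit 5) true [Col.b, Col.g, Col.f, Col.b, Col.g, Col.f, Col.b, Col.g, Col.f, Col.b,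 Col.g, Col.f, Col.b, Col.g, Col.f]))) (Tr.nd (nat_lit 24) (Tr.lf (Alt.word (nat_lit 11) (nat_lit 4) true [Col.f, Col.b, Col.f, Col.b, Col.f, Col.b])) (Tr.lf (Alt.word (nat_lit 13) (nat_lit 0) true [Col.c, Col.c])))))))
noncomputable def mini1P : Tr ℕ := (Tr.nd (nat_lit 10) (Tr.nd (nat_lit 5) (Tr.nd (nat_lit 2) (Tr.nd (nat_lit 1) (Tr.lf (nat_lit 0)) (Tr.lf (nat_lit 0))) (Tr.nd (nat_lit 3) (Tr.lf (nat_lit 1)) (Tr.nd (nat_lit 4) (Tr.lf (nat_lit 2)) (Tr.lf (nat_lit 3))))) (Tr.nd (nat_lit 7) (Tr.nd (nat_lit 6) (Tr.lf (nat_lit 4)) (Tr.lf (nat_lit 5))) (Tr.nd (nat_lit 8) (Tr.lf (nat_lit 6)) (Tr.nd (nat_lit 9) (Tr.lf (nat_lit 7)) (Tr.lf (nat_lit 8)))))) (Tr.nd (nat_lit 15) (Tr.nd (nat_lit 12) (Tr.nd (nat_lit 11) (Tr.lf (nat_lit 9)) (Tr.lf (nat_lit 6))) (Tr.nd (nat_lit 13) (Tr.lf (nat_lit 2)) (Tr.nd (nat_lit 14) (Tr.lf (nat_lit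 2)) (Tr.lf (nat_lit 6))))) (Tr.nd (nat_lit 17) (Tr.nd (nat_lit 16) (Tr.lf (nat_lit 5)) (Tr.lf (nat_lit 12))) (Tr.nd (nat_lit 18) (Tr.lf (nat_lit 11)) (Tr.nd (nat_lit 19) (Tr.lf (nat_lit 8)) (Tr.lf (nat_lit 16)))))))
noncomputable def mini1Q : Tr ℕ := (Tr.nd (nat_lit 10) (Tr.nd (nat_lit 5) (Tr.nd (nat_lit 2) (Tr.nd (nat_lit 1) (Tr.lf (nat_lit 0)) (Tr.lf (nat_lit 6))) (Tr.nd (nat_lit 3) (Tr.lf (nat_lit 1)) (Tr.nd (nat_lit 4) (Tr.lf (nat_lit 0)) (Tr.lf (nat_lit 5))))) (Tr.nd (nat_lit 7) (Tr.nd (nat_lit 6) (Tr.lf (nat_lit 2)) (Tr.lf (nat_lit 1))) (Tr.nd (nat_lit 8) (Tr.lf (nat_lit 0)) (Tr.nd (nat_lit 9) (Tr.lf (nat_lit 6)) (Tr.lf (nat_lit 1)))))) (Tr.nd (nat_lit 15) (Tr.nd (nat_lit 12) (Tr.nd (nat_lit 11) (Tr.lf (nat_lit 2)) (Tr.lf (nat_lit 6))) (Tr.nd (nat_lit 13) (Tr.lf (nat_lit 5)) (Tr.nd (nat_lit 14) (Tr.lf (nat_lit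 2)) (Tr.lf (nat_lit 5))))) (Tr.nd (nat_lit 17) (Tr.nd (nat_lit 16) (Tr.lf (nat_lit 5)) (Tr.lf (nat_lit 2))) (Tr.nd (nat_lit 18) (Tr.lf (nat_lit 1)) (Tr.nd (nat_lit 19) (Tr.lf (nat_lit 5)) (Tr.lf (nat_lit 1)))))))
theorem mini1_alt : Tr.all (altChk idx inv RW (SW1)) mini1A = true := by decide +kernel
theorem mini1_chk : Tr.all (chkFc idx inv mini1S mini1A (fun b => Tr.find b mini1P) (fun b => Tr.find b mini1Q)) mini1S = true := by decide +kernel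
theorem mini1_run : runM idx inv mini1S 49 0 [Mv.f (nat_lit 4), Mv.f (nat_lit 5), Mv.f (nat_lit 6), Mv.b (nat_lit 8), Mv.f (nat_lit 13), Mv.f (nat_lit 14), Mv.f (nat_lit 15), Mv.f (nat_lit 16), Mv.f (nat_lit 17), Mv.b (nat_lit 48), Mv.b (nat_lit 6), Mv.b (nat_lit 5), Mv.b (nat_lit 4)] [Col.g, Col.b, Col.a, Col.b, Col.c, Col.b, Col.a, Col.g, Col.b, Col.c, Col.a, Col.b, Col.g] 0 = true := by decide +kernel
theorem mini1_fix {G X : Type*} [Group G] [MulAction G X] (g : Col → G) (x0 : X) (hinv : ∀ c, g (inv c) = (g c)⁻¹)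
    (hRW : ∀ w ∈ RW, gw g w = 1) (hSW : ∀ w ∈ SW1, gw g w • x0 = x0) : gw g [Col.g, Col.b, Col.a, Col.b, Col.c, Col.b, Col.a, Col.g, Col.b, Col.c, Col.a, Col.b, Col.g] • x0 = x0 :=
  mini_sound g x0 dec hdec hinv
    (fun a ha => altChk_sound g x0 dec hdec hinv hRW hSW ((Tr.all_iff _ _).1 mini1_alt a ha)) mini1_chk mini1_run
noncomputable def mini2S : Tr (Fc Col) := (Tr.nd (nat_lit 298) (Tr.nd (nat_lit 149) (Tr.nd (nat_lit 74) (Tr.nd (nat_lit 37) (Tr.nd (nat_lit 18) (Tr.nd (nat_lit 9) (Tr.nd (nat_lit 4) (Tr.nd (nat_lit 2) (Tr.nd (nat_lit 1) (Tr.lf (Fc.ed (nat_lit 0) (nat_lit 0) Col.b (nat_lit 0) (Dv.sb (nat_lit 0) [] []))) (Tr.lf (Fc.ed (nat_lit 1) (nat_lit 0) Col.c (nat_lit 0) (Dv.sb (nat_lit 1) [] [])))) (Tr.nd (nat_lit 3) (Tr.lf (Fc.ed (nat_lit 2) (nat_lit 0) Col.d (nat_lit 0) (Dv.sb (nat_lit 2) [] []))) (Tr.lf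 (Fc.ed (nat_lit 3) (nat_lit 0) Col.g (nat_lit 1) Dv.df)))) (Tr.nd (nat_lit 6) (Tr.nd (nat_lit 5) (Tr.lf (Fc.ed (nat_lit 4) (nat_lit 1) Col.b (nat_lit 2) Dv.df)) (Tr.lf (Fc.ed (nat_lit 5) (nat_lit 2) Col.a (nat_lit 3) Dv.df))) (Tr.nd (nat_lit 7) (Tr.lf (Fc.ed (nat_lit 6) (nat_lit 3) Col.f (nat_lit 4) Dv.df)) (Tr.nd (nat_lit 8) (Tr.lf (Fc.ed (nat_lit 7) (nat_lit 4) Col.b (nat_lit 3) (Dv.sb (nat_lit 3) [Mv.f (nat_lit 3), Mv.f (nat_lit 4), Mv.f (nat_lit 5), Mv.f (nat_lit 6)] [Mv.b (nat_lit 5), Mv.b (nat_lit 4), Mv.b (nat_lit 3)]))) (Tr.lf (Fc.ed (nat_lit 8) (nat_lit 4) Col.c (nat_lit 5) Dv.df)))))) (Tr.nd (nat_lit 13) (Tr.nd (nat_lit 11) (Tr.nd (nat_lit 10) (Tr.lf (Fc.ed (nat_lit 9) (nat_lit 5) Col.b (nat_lit 6) Dv.df)) (Tr.lf (Fc.ed (nat_lit 10) (nat_lit 6) Col.a (nat_lit 7) Dv.df))) (Tr.nd (nat_lit 12) (Tr.lf (Fc.ed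 (nat_lit 11) (nat_lit 7) Col.g (nat_lit 8) Dv.df)) (Tr.lf (Fc.ed (nat_lit 12) (nat_lit 8) Col.b (nat_lit 9) Dv.df)))) (Tr.nd (nat_lit 15) (Tr.nd (nat_lit 14) (Tr.lf (Fc.ed (nat_lit 13) (nat_lit 9) Col.c (nat_lit 3) (Dv.sb (nat_lit 4) [Mv.f (nat_lit 3), Mv.f (nat_lit 4), Mv.f (nat_lit 5), Mv.b (nat_lit 7), Mv.f (nat_lit 8), Mv.f (nat_lit 9), Mv.f (nat_lit 10), Mv.f (nat_lit 11), Mv.f (nat_lit 12)] [Mv.b (nat_lit 5), Mv.b (nat_lit 4), Mv.b (nat_lit 3)]))) (Tr.lf (Fc.ed (nat_lit 14) (nat_lit 5) Col.f (nat_lit 9) (Dv.wd (nat_lit 5) [Mv.f (nat_lit 13), Mv.f (nat_lit 6), Mv.f (nat_lit 8)])))) (Tr.nd (nat_lit 16) (Tr.lf (Fc.ed (nat_lit 15) (nat_lit 6) Col.c (nat_lit 8) (Dv.wd (nat_lit 6) [Mv.f (nat_lit 12), Mv.f (nat_lit 13), Mv.b (nat_lit 7), Mv.f (nat_lit 8), Mv.f (nat_lit 9)]))) (Tr.nd (nat_lit 17) (Tr.lf (Fc.ed (nat_lit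 16) (nat_lit 2) Col.g (nat_lit 2) (Dv.wd (nat_lit 7) [Mv.b (nat_lit 4), Mv.b (nat_lit 3), Mv.f (nat_lit 0), Mv.f (nat_lit 3), Mv.f (nat_lit 4)]))) (Tr.lf (Fc.ed (nat_lit 17) (nat_lit 3) Col.g (nat_lit 3) (Dv.wd (nat_lit 8) [Mv.b (nat_lit 5), Mv.f (nat_lit 16), Mv.f (nat_lit 5)])))))))) (Tr.nd (nat_lit 27) (Tr.nd (nat_lit 22) (Tr.nd (nat_lit 20) (Tr.nd (nat_lit 19) (Tr.lf (Fc.ed (nat_lit 18) (nat_lit 9) Col.g (nat_lit 9) (Dv.wd (nat_lit 9) [Mv.f (nat_lit 13), Mv.f (nat_lit 17), Mv.b (nat_lit 13)]))) (Tr.lf (Fc.ed (nat_lit 19) (nat_lit 7) Col.b (nat_lit 7) (Dv.wd (nat_lit 10) [Mv.f (nat_lit 11), Mv.f (nat_lit 12), Mv.f (nat_lit 18), Mv.b (nat_lit 12), Mv.b (nat_lit 11)])))) (Tr.nd (nat_lit 21) (Tr.lf (Fc.ed (nat_lit 20) (nat_lit 1) Col.c (nat_lit 1) (Dv.wd (nat_lit 11) [Mv.b (nat_lit 3), Mv.f (nat_lit 1), Mv.f (nat_lit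 3)]))) (Tr.lf (Fc.ed (nat_lit 21) (nat_lit 1) Col.d (nat_lit 1) (Dv.wd (nat_lit 12) [Mv.b (nat_lit 3), Mv.f (nat_lit 2), Mv.f (nat_lit 3)]))))) (Tr.nd (nat_lit 24) (Tr.nd (nat_lit 23) (Tr.lf (Fc.ed (nat_lit 22) (nat_lit 2) Col.d (nat_lit 2) (Dv.wd (nat_lit 13) [Mv.b (nat_lit 4), Mv.f (nat_lit 21), Mv.f (nat_lit 4)]))) (Tr.lf (Fc.ed (nat_lit 23) (nat_lit 3) Col.d (nat_lit 3) (Dv.wd (nat_lit 14) [Mv.b (nat_lit 5), Mv.f (nat_lit 22), Mv.f (nat_lit 5)])))) (Tr.nd (nat_lit 25) (Tr.lf (Fc.ed (nat_lit 24) (nat_lit 4) Col.d (nat_lit 4) (Dv.wd (nat_lit 13) [Mv.f (nat_lit 7), Mv.f (nat_lit 23), Mv.b (nat_lit 7)]))) (Tr.nd (nat_lit 26) (Tr.lf (Fc.ed (nat_lit 25) (nat_lit 2) Col.c (nat_lit 10) Dv.df)) (Tr.lf (Fc.ed (nat_lit 26) (nat_lit 10) Col.a (nat_lit 9) (Dv.wd (nat_lit 15) [Mv.f (nat_lit 13), Mv.b (nat_lit 5), Mv.f (nat_lit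 25)]))))))) (Tr.nd (nat_lit 32) (Tr.nd (nat_lit 29) (Tr.nd (nat_lit 28) (Tr.lf (Fc.ed (nat_lit 27) (nat_lit 10) Col.g (nat_lit 10) (Dv.wd (nat_lit 9) [Mv.b (nat_lit 25), Mv.f (nat_lit 16), Mv.f (nat_lit 25)]))) (Tr.lf (Fc.ed (nat_lit 28) (nat_lit 10) Col.b (nat_lit 10) (Dv.wd (nat_lit 16) [Mv.b (nat_lit 25), Mv.b (nat_lit 4), Mv.f (nat_lit 20), Mv.f (nat_lit 4), Mv.f (nat_lit 25)])))) (Tr.nd (nat_lit 30) (Tr.lf (Fc.ed (nat_lit 29) (nat_lit 10) Col.d (nat_lit 11) Dv.df)) (Tr.nd (nat_lit 31) (Tr.lf (Fc.ed (nat_lit 30) (nat_lit 11) Col.b (nat_lit 11) (Dv.wd (nat_lit 17) [Mv.b (nat_lit 29), Mv.f (nat_lit 28), Mv.f (nat_lit 29)]))) (Tr.lf (Fc.ed (nat_lit 31) (nat_lit 11) Col.g (nat_lit 11) (Dv.wd (nat_lit 18) [Mv.b (nat_lit 29), Mv.f (nat_lit 27), Mv.f (nat_lit 29)])))))) (Tr.nd (nat_lit 34) (Tr.nd (nat_lit 33) (Tr.lf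 (Fc.ed (nat_lit 32) (nat_lit 11) Col.f (nat_lit 12) Dv.df)) (Tr.lf (Fc.ed (nat_lit 33) (nat_lit 12) Col.b (nat_lit 13) Dv.df))) (Tr.nd (nat_lit 35) (Tr.lf (Fc.ed (nat_lit 34) (nat_lit 13) Col.f (nat_lit 13) (Dv.wd (nat_lit 19) [Mv.b (nat_lit 33), Mv.b (nat_lit 32), Mv.f (nat_lit 30), Mv.f (nat_lit 32), Mv.f (nat_lit 33)]))) (Tr.nd (nat_lit 36) (Tr.lf (Fc.ed (nat_lit 35) (nat_lit 13) Col.g (nat_lit 14) Dv.df)) (Tr.lf (Fc.ed (nat_lit 36) (nat_lit 14) Col.c (nat_lit 15) Dv.df)))))))) (Tr.nd (nat_lit 55) (Tr.nd (nat_lit 46) (Tr.nd (nat_lit 41) (Tr.nd (nat_lit 39) (Tr.nd (nat_lit 38) (Tr.lf (Fc.ed (nat_lit 37) (nat_lit 15) Col.b (nat_lit 16) Dv.df)) (Tr.lf (Fc.ed (nat_lit 38) (nat_lit 16) Col.f (nat_lit 17) Dv.df))) (Tr.nd (nat_lit 40) (Tr.lf (Fc.ed (nat_lit 39) (nat_lit 17) Col.d (nat_lit 18) Dv.df)) (Tr.lf (Fc.ed (nat_lit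 40) (nat_lit 18) Col.c (nat_lit 19) Dv.df)))) (Tr.nd (nat_lit 43) (Tr.nd (nat_lit 42) (Tr.lf (Fc.ed (nat_lit 41) (nat_lit 4) Col.a (nat_lit 20) Dv.df)) (Tr.lf (Fc.ed (nat_lit 42) (nat_lit 20) Col.d (nat_lit 20) (Dv.wd (nat_lit 14) [Mv.b (nat_lit 41), Mv.f (nat_lit 24), Mv.f (nat_lit 41)])))) (Tr.nd (nat_lit 44) (Tr.lf (Fc.ed (nat_lit 43) (nat_lit 6) Col.d (nat_lit 21) Dv.df)) (Tr.nd (nat_lit 45) (Tr.lf (Fc.ed (nat_lit 44) (nat_lit 5) Col.a (nat_lit 22) Dv.df)) (Tr.lf (Fc.ed (nat_lit 45) (nat_lit 22) Col.c (nat_lit 20) (Dv.wd (nat_lit 20) [Mv.b (nat_lit 41), Mv.f (nat_lit 8), Mv.f (nat_lit 44)]))))))) (Tr.nd (nat_lit 50) (Tr.nd (nat_lit 48) (Tr.nd (nat_lit 47) (Tr.lf (Fc.ed (nat_lit 46) (nat_lit 22) Col.f (nat_lit 10) (Dv.wd (nat_lit 21) [Mv.f (nat_lit 26), Mv.b (nat_lit 14), Mv.f (nat_lit 44)]))) (Tr.lf (Fc.ed (nat_lit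 47) (nat_lit 22) Col.g (nat_lit 5) (Dv.wd (nat_lit 22) [Mv.f (nat_lit 44), Mv.f (nat_lit 46), Mv.f (nat_lit 27), Mv.b (nat_lit 46)])))) (Tr.nd (nat_lit 49) (Tr.lf (Fc.ed (nat_lit 48) (nat_lit 12) Col.d (nat_lit 22) (Dv.wd (nat_lit 23) [Mv.f (nat_lit 46), Mv.f (nat_lit 29), Mv.f (nat_lit 32)]))) (Tr.lf (Fc.ed (nat_lit 49) (nat_lit 5) Col.d (nat_lit 23) Dv.df)))) (Tr.nd (nat_lit 52) (Tr.nd (nat_lit 51) (Tr.lf (Fc.ed (nat_lit 50) (nat_lit 23) Col.a (nat_lit 12) (Dv.wd (nat_lit 24) [Mv.f (nat_lit 48), Mv.b (nat_lit 44), Mv.f (nat_lit 49)]))) (Tr.lf (Fc.ed (nat_lit 51) (nat_lit 23) Col.b (nat_lit 21) (Dv.wd (nat_lit 17) [Mv.b (nat_lit 43), Mv.b (nat_lit 9), Mv.f (nat_lit 49)])))) (Tr.nd (nat_lit 53) (Tr.lf (Fc.ed (nat_lit 52) (nat_lit 23) Col.g (nat_lit 12) (Dv.wd (nat_lit 18) [Mv.f (nat_lit 48), Mv.f (nat_lit 47), Mv.f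 (nat_lit 49)]))) (Tr.nd (nat_lit 54) (Tr.lf (Fc.ed (nat_lit 53) (nat_lit 8) Col.d (nat_lit 24) Dv.df)) (Tr.lf (Fc.ed (nat_lit 54) (nat_lit 9) Col.d (nat_lit 25) Dv.df))))))) (Tr.nd (nat_lit 64) (Tr.nd (nat_lit 59) (Tr.nd (nat_lit 57) (Tr.nd (nat_lit 56) (Tr.lf (Fc.ed (nat_lit 55) (nat_lit 25) Col.a (nat_lit 11) (Dv.wd (nat_lit 24) [Mv.b (nat_lit 29), Mv.f (nat_lit 26), Mv.f (nat_lit 54)]))) (Tr.lf (Fc.ed (nat_lit 56) (nat_lit 25) Col.b (nat_lit 24) (Dv.wd (nat_lit 17) [Mv.b (nat_lit 53), Mv.f (nat_lit 12), Mv.f (nat_lit 54)])))) (Tr.nd (nat_lit 58) (Tr.lf (Fc.ed (nat_lit 57) (nat_lit 11) Col.c (nat_lit 26) Dv.df)) (Tr.lf (Fc.ed (nat_lit 58) (nat_lit 26) Col.g (nat_lit 26) (Dv.wd (nat_lit 9) [Mv.b (nat_lit 57), Mv.f (nat_lit 31), Mv.f (nat_lit 57)]))))) (Tr.nd (nat_lit 61) (Tr.nd (nat_lit 60) (Tr.lf (Fc.ed (nat_lit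 59) (nat_lit 12) Col.c (nat_lit 27) Dv.df)) (Tr.lf (Fc.ed (nat_lit 60) (nat_lit 27) Col.f (nat_lit 26) (Dv.wd (nat_lit 25) [Mv.b (nat_lit 57), Mv.f (nat_lit 32), Mv.f (nat_lit 59)])))) (Tr.nd (nat_lit 62) (Tr.lf (Fc.ed (nat_lit 61) (nat_lit 13) Col.a (nat_lit 28) Dv.df)) (Tr.nd (nat_lit 63) (Tr.lf (Fc.ed (nat_lit 62) (nat_lit 7) Col.d (nat_lit 29) Dv.df)) (Tr.lf (Fc.ed (nat_lit 63) (nat_lit 29) Col.a (nat_lit 21) (Dv.wd (nat_lit 24) [Mv.b (nat_lit 43), Mv.f (nat_lit 10), Mv.f (nat_lit 62)]))))))) (Tr.nd (nat_lit 69) (Tr.nd (nat_lit 66) (Tr.nd (nat_lit 65) (Tr.lf (Fc.ed (nat_lit 64) (nat_lit 29) Col.b (nat_lit 29) (Dv.wd (nat_lit 17) [Mv.b (nat_lit 62), Mv.f (nat_lit 19), Mv.f (nat_lit 62)]))) (Tr.lf (Fc.ed (nat_lit 65) (nat_lit 29) Col.g (nat_lit 24) (Dv.wd (nat_lit 18) [Mv.b (nat_lit 53), Mv.b (nat_lit 11), Mv.f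 (nat_lit 62)])))) (Tr.nd (nat_lit 67) (Tr.lf (Fc.al (nat_lit 66) (nat_lit 28) (nat_lit 13) (Dv.wd (nat_lit 26) [Mv.b (nat_lit 33), Mv.b (nat_lit 50), Mv.f (nat_lit 51), Mv.b (nat_lit 63), Mv.f (nat_lit 64), Mv.f (nat_lit 63), Mv.b (nat_lit 51), Mv.f (nat_lit 50), Mv.f (nat_lit 33), Mv.f (nat_lit 61)]))) (Tr.nd (nat_lit 68) (Tr.lf (Fc.ed (nat_lit 67) (nat_lit 13) Col.a (nat_lit 13) (Dv.wd (nat_lit 27) [Mv.f (nat_lit 61), Mv.f (nat_lit 66)]))) (Tr.lf (Fc.ed (nat_lit 68) (nat_lit 14) Col.a (nat_lit 14) (Dv.wd (nat_lit 28) [Mv.b (nat_lit 35), Mv.f (nat_lit 67), Mv.f (nat_lit 35)])))))) (Tr.nd (nat_lit 71) (Tr.nd (nat_lit 70) (Tr.lf (Fc.ed (nat_lit 69) (nat_lit 14) Col.f (nat_lit 14) (Dv.wd (nat_lit 29) [Mv.b (nat_lit 35), Mv.f (nat_lit 67), Mv.f (nat_lit 34), Mv.f (nat_lit 35)]))) (Tr.lf (Fc.ed (nat_lit 70) (nat_lit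 15) Col.f (nat_lit 15) (Dv.wd (nat_lit 25) [Mv.b (nat_lit 36), Mv.f (nat_lit 69), Mv.f (nat_lit 36)])))) (Tr.nd (nat_lit 72) (Tr.lf (Fc.ed (nat_lit 71) (nat_lit 17) Col.b (nat_lit 17) (Dv.wd (nat_lit 30) [Mv.b (nat_lit 38), Mv.b (nat_lit 37), Mv.f (nat_lit 70), Mv.f (nat_lit 37), Mv.f (nat_lit 38)]))) (Tr.nd (nat_lit 73) (Tr.lf (Fc.ed (nat_lit 72) (nat_lit 15) Col.a (nat_lit 15) (Dv.wd (nat_lit 31) [Mv.b (nat_lit 36), Mv.f (nat_lit 68), Mv.f (nat_lit 36)]))) (Tr.lf (Fc.ed (nat_lit 73) (nat_lit 13) Col.c (nat_lit 30) Dv.df))))))))) (Tr.nd (nat_lit 111) (Tr.nd (nat_lit 92) (Tr.nd (nat_lit 83) (Tr.nd (nat_lit 78) (Tr.nd (nat_lit 76) (Tr.nd (nat_lit 75) (Tr.lf (Fc.ed (nat_lit 74) (nat_lit 30) Col.a (nat_lit 30) (Dv.wd (nat_lit 15) [Mv.b (nat_lit 73), Mv.f (nat_lit 67), Mv.f (nat_lit 73)]))) (Tr.lf (Fc.ed (nat_lit 75)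 (nat_lit 30) Col.f (nat_lit 30) (Dv.wd (nat_lit 25) [Mv.b (nat_lit 73), Mv.f (nat_lit 34), Mv.f (nat_lit 73)])))) (Tr.nd (nat_lit 77) (Tr.lf (Fc.ed (nat_lit 76) (nat_lit 30) Col.g (nat_lit 15) (Dv.wd (nat_lit 9) [Mv.b (nat_lit 36), Mv.b (nat_lit 35), Mv.f (nat_lit 73)]))) (Tr.lf (Fc.ed (nat_lit 77) (nat_lit 14) Col.b (nat_lit 31) Dv.df)))) (Tr.nd (nat_lit 80) (Tr.nd (nat_lit 79) (Tr.lf (Fc.ed (nat_lit 78) (nat_lit 31) Col.g (nat_lit 21) (Dv.wd (nat_lit 7) [Mv.b (nat_lit 51), Mv.f (nat_lit 52), Mv.f (nat_lit 33), Mv.f (nat_lit 35), Mv.f (nat_lit 77)]))) (Tr.lf (Fc.ed (nat_lit 79) (nat_lit 24) Col.a (nat_lit 31) (Dv.wd (nat_lit 28) [Mv.f (nat_lit 78), Mv.b (nat_lit 63), Mv.f (nat_lit 65)])))) (Tr.nd (nat_lit 81) (Tr.lf (Fc.ed (nat_lit 80) (nat_lit 16) Col.g (nat_lit 32) Dv.df)) (Tr.nd (nat_lit 82) (Tr.lf (Fc.ed (nat_lit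 81) (nat_lit 16) Col.a (nat_lit 33) Dv.df)) (Tr.lf (Fc.ed (nat_lit 82) (nat_lit 16) Col.d (nat_lit 34) Dv.df)))))) (Tr.nd (nat_lit 87) (Tr.nd (nat_lit 85) (Tr.nd (nat_lit 84) (Tr.lf (Fc.ed (nat_lit 83) (nat_lit 34) Col.f (nat_lit 18) (Dv.wd (nat_lit 32) [Mv.b (nat_lit 39), Mv.b (nat_lit 38), Mv.f (nat_lit 82)]))) (Tr.lf (Fc.ed (nat_lit 84) (nat_lit 16) Col.c (nat_lit 35) Dv.df))) (Tr.nd (nat_lit 86) (Tr.lf (Fc.ed (nat_lit 85) (nat_lit 19) Col.f (nat_lit 36) Dv.df)) (Tr.lf (Fc.ed (nat_lit 86) (nat_lit 36) Col.c (nat_lit 34) (Dv.wd (nat_lit 33) [Mv.f (nat_lit 83), Mv.f (nat_lit 40), Mv.f (nat_lit 85)]))))) (Tr.nd (nat_lit 89) (Tr.nd (nat_lit 88) (Tr.lf (Fc.ed (nat_lit 87) (nat_lit 17) Col.g (nat_lit 37) Dv.df)) (Tr.lf (Fc.ed (nat_lit 88) (nat_lit 17) Col.a (nat_lit 38) Dv.df))) (Tr.nd (nat_lit 90) (Tr.lf (Fc.ed (nat_lit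 89) (nat_lit 38) Col.f (nat_lit 33) (Dv.wd (nat_lit 21) [Mv.b (nat_lit 81), Mv.f (nat_lit 38), Mv.f (nat_lit 88)]))) (Tr.nd (nat_lit 91) (Tr.lf (Fc.ed (nat_lit 90) (nat_lit 21) Col.c (nat_lit 39) Dv.df)) (Tr.lf (Fc.ed (nat_lit 91) (nat_lit 23) Col.c (nat_lit 40) Dv.df))))))) (Tr.nd (nat_lit 101) (Tr.nd (nat_lit 96) (Tr.nd (nat_lit 94) (Tr.nd (nat_lit 93) (Tr.lf (Fc.ed (nat_lit 92) (nat_lit 40) Col.d (nat_lit 27) (Dv.wd (nat_lit 34) [Mv.b (nat_lit 59), Mv.f (nat_lit 48), Mv.f (nat_lit 45), Mv.f (nat_lit 42), Mv.b (nat_lit 45), Mv.b (nat_lit 48), Mv.b (nat_lit 50), Mv.f (nat_lit 91)]))) (Tr.lf (Fc.ed (nat_lit 93) (nat_lit 24) Col.c (nat_lit 41) Dv.df))) (Tr.nd (nat_lit 95) (Tr.lf (Fc.ed (nat_lit 94) (nat_lit 25) Col.c (nat_lit 42) Dv.df)) (Tr.lf (Fc.ed (nat_lit 95) (nat_lit 42) Col.a (nat_lit 26) (Dv.wd (nat_lit 15)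 [Mv.b (nat_lit 57), Mv.b (nat_lit 55), Mv.f (nat_lit 94)]))))) (Tr.nd (nat_lit 98) (Tr.nd (nat_lit 97) (Tr.lf (Fc.ed (nat_lit 96) (nat_lit 42) Col.d (nat_lit 26) (Dv.wd (nat_lit 34) [Mv.b (nat_lit 57), Mv.b (nat_lit 29), Mv.b (nat_lit 25), Mv.f (nat_lit 22), Mv.f (nat_lit 25), Mv.f (nat_lit 29), Mv.b (nat_lit 55), Mv.f (nat_lit 94)]))) (Tr.lf (Fc.ed (nat_lit 97) (nat_lit 26) Col.b (nat_lit 43) Dv.df))) (Tr.nd (nat_lit 99) (Tr.lf (Fc.ed (nat_lit 98) (nat_lit 43) Col.c (nat_lit 43) (Dv.wd (nat_lit 35) [Mv.b (nat_lit 97), Mv.b (nat_lit 57), Mv.f (nat_lit 30), Mv.f (nat_lit 57), Mv.f (nat_lit 97)]))) (Tr.nd (nat_lit 100) (Tr.lf (Fc.ed (nat_lit 99) (nat_lit 27) Col.b (nat_lit 44) Dv.df)) (Tr.lf (Fc.ed (nat_lit 100) (nat_lit 29) Col.c (nat_lit 45) Dv.df)))))) (Tr.nd (nat_lit 106) (Tr.nd (nat_lit 103) (Tr.nd (nat_lit 102)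 (Tr.lf (Fc.ed (nat_lit 101) (nat_lit 45) Col.a (nat_lit 39) (Dv.wd (nat_lit 15) [Mv.b (nat_lit 90), Mv.b (nat_lit 63), Mv.f (nat_lit 100)]))) (Tr.lf (Fc.ed (nat_lit 102) (nat_lit 45) Col.g (nat_lit 41) (Dv.wd (nat_lit 9) [Mv.b (nat_lit 93), Mv.b (nat_lit 65), Mv.f (nat_lit 100)])))) (Tr.nd (nat_lit 104) (Tr.lf (Fc.ed (nat_lit 103) (nat_lit 30) Col.b (nat_lit 46) Dv.df)) (Tr.nd (nat_lit 105) (Tr.lf (Fc.ed (nat_lit 104) (nat_lit 46) Col.c (nat_lit 44) (Dv.wd (nat_lit 35) [Mv.b (nat_lit 99), Mv.b (nat_lit 59), Mv.f (nat_lit 33), Mv.f (nat_lit 73), Mv.f (nat_lit 103)]))) (Tr.lf (Fc.ed (nat_lit 105) (nat_lit 31) Col.c (nat_lit 47) Dv.df))))) (Tr.nd (nat_lit 108) (Tr.nd (nat_lit 107) (Tr.lf (Fc.ed (nat_lit 106) (nat_lit 47) Col.a (nat_lit 41) (Dv.wd (nat_lit 15) [Mv.b (nat_lit 93), Mv.f (nat_lit 79), Mv.f (nat_lit 105)])))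 (Tr.lf (Fc.ed (nat_lit 107) (nat_lit 47) Col.g (nat_lit 39) (Dv.wd (nat_lit 9) [Mv.b (nat_lit 90), Mv.b (nat_lit 78), Mv.f (nat_lit 105)])))) (Tr.nd (nat_lit 109) (Tr.lf (Fc.ed (nat_lit 108) (nat_lit 47) Col.b (nat_lit 35) (Dv.wd (nat_lit 16) [Mv.b (nat_lit 84), Mv.b (nat_lit 37), Mv.b (nat_lit 36), Mv.f (nat_lit 77), Mv.f (nat_lit 105)]))) (Tr.nd (nat_lit 110) (Tr.lf (Fc.ed (nat_lit 109) (nat_lit 33) Col.d (nat_lit 48) Dv.df)) (Tr.lf (Fc.ed (nat_lit 110) (nat_lit 48) Col.a (nat_lit 34) (Dv.wd (nat_lit 24) [Mv.b (nat_lit 82), Mv.f (nat_lit 81), Mv.f (nat_lit 109)]))))))))) (Tr.nd (nat_lit 130) (Tr.nd (nat_lit 120) (Tr.nd (nat_lit 115) (Tr.nd (nat_lit 113) (Tr.nd (nat_lit 112) (Tr.lf (Fc.ed (nat_lit 111) (nat_lit 33) Col.g (nat_lit 49) Dv.df)) (Tr.lf (Fc.ed (nat_lit 112) (nat_lit 49) Col.a (nat_lit 32) (Dv.wd (nat_lit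 36) [Mv.b (nat_lit 80), Mv.f (nat_lit 81), Mv.f (nat_lit 111)])))) (Tr.nd (nat_lit 114) (Tr.lf (Fc.ed (nat_lit 113) (nat_lit 49) Col.f (nat_lit 37) (Dv.wd (nat_lit 29) [Mv.b (nat_lit 87), Mv.f (nat_lit 88), Mv.f (nat_lit 89), Mv.f (nat_lit 111)]))) (Tr.lf (Fc.ed (nat_lit 114) (nat_lit 33) Col.c (nat_lit 50) Dv.df)))) (Tr.nd (nat_lit 117) (Tr.nd (nat_lit 116) (Tr.lf (Fc.ed (nat_lit 115) (nat_lit 50) Col.a (nat_lit 35) (Dv.wd (nat_lit 15) [Mv.b (nat_lit 84), Mv.f (nat_lit 81), Mv.f (nat_lit 114)]))) (Tr.lf (Fc.ed (nat_lit 116) (nat_lit 33) Col.b (nat_lit 51) Dv.df))) (Tr.nd (nat_lit 118) (Tr.lf (Fc.ed (nat_lit 117) (nat_lit 32) Col.f (nat_lit 52) Dv.df)) (Tr.nd (nat_lit 119) (Tr.lf (Fc.ed (nat_lit 118) (nat_lit 52) Col.a (nat_lit 37) (Dv.wd (nat_lit 37) [Mv.b (nat_lit 113), Mv.f (nat_lit 112), Mv.f (nat_lit 117)])))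 (Tr.lf (Fc.ed (nat_lit 119) (nat_lit 52) Col.g (nat_lit 38) (Dv.wd (nat_lit 38) [Mv.f (nat_lit 89), Mv.f (nat_lit 111), Mv.f (nat_lit 112), Mv.f (nat_lit 117)]))))))) (Tr.nd (nat_lit 125) (Tr.nd (nat_lit 122) (Tr.nd (nat_lit 121) (Tr.lf (Fc.ed (nat_lit 120) (nat_lit 32) Col.c (nat_lit 53) Dv.df)) (Tr.lf (Fc.ed (nat_lit 121) (nat_lit 53) Col.g (nat_lit 35) (Dv.wd (nat_lit 9) [Mv.b (nat_lit 84), Mv.f (nat_lit 80), Mv.f (nat_lit 120)])))) (Tr.nd (nat_lit 123) (Tr.lf (Fc.ed (nat_lit 122) (nat_lit 32) Col.b (nat_lit 54) Dv.df)) (Tr.nd (nat_lit 124) (Tr.lf (Fc.ed (nat_lit 123) (nat_lit 54) Col.g (nat_lit 46) (Dv.wd (nat_lit 7) [Mv.b (nat_lit 103), Mv.f (nat_lit 76), Mv.f (nat_lit 37), Mv.f (nat_lit 80), Mv.f (nat_lit 122)]))) (Tr.lf (Fc.ed (nat_lit 124) (nat_lit 35) Col.d (nat_lit 55) Dv.df))))) (Tr.nd (nat_lit 127) (Tr.nd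 (nat_lit 126) (Tr.lf (Fc.ed (nat_lit 125) (nat_lit 36) Col.a (nat_lit 56) Dv.df)) (Tr.lf (Fc.ed (nat_lit 126) (nat_lit 56) Col.c (nat_lit 48) (Dv.wd (nat_lit 20) [Mv.f (nat_lit 110), Mv.b (nat_lit 86), Mv.f (nat_lit 125)])))) (Tr.nd (nat_lit 128) (Tr.lf (Fc.ed (nat_lit 127) (nat_lit 37) Col.b (nat_lit 57) Dv.df)) (Tr.nd (nat_lit 129) (Tr.lf (Fc.ed (nat_lit 128) (nat_lit 57) Col.g (nat_lit 57) (Dv.wd (nat_lit 7) [Mv.b (nat_lit 127), Mv.b (nat_lit 87), Mv.f (nat_lit 71), Mv.f (nat_lit 87), Mv.f (nat_lit 127)]))) (Tr.lf (Fc.ed (nat_lit 129) (nat_lit 38) Col.b (nat_lit 58) Dv.df))))))) (Tr.nd (nat_lit 139) (Tr.nd (nat_lit 134) (Tr.nd (nat_lit 132) (Tr.nd (nat_lit 131) (Tr.lf (Fc.ed (nat_lit 130) (nat_lit 39) Col.b (nat_lit 59) Dv.df)) (Tr.lf (Fc.ed (nat_lit 131) (nat_lit 39) Col.d (nat_lit 60) Dv.df))) (Tr.nd (nat_lit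 133) (Tr.lf (Fc.ed (nat_lit 132) (nat_lit 40) Col.b (nat_lit 61) Dv.df)) (Tr.lf (Fc.ed (nat_lit 133) (nat_lit 61) Col.d (nat_lit 44) (Dv.wd (nat_lit 13) [Mv.b (nat_lit 99), Mv.b (nat_lit 92), Mv.f (nat_lit 132)]))))) (Tr.nd (nat_lit 136) (Tr.nd (nat_lit 135) (Tr.lf (Fc.ed (nat_lit 134) (nat_lit 61) Col.c (nat_lit 59) (Dv.wd (nat_lit 35) [Mv.b (nat_lit 130), Mv.b (nat_lit 90), Mv.b (nat_lit 51), Mv.f (nat_lit 91), Mv.f (nat_lit 132)]))) (Tr.lf (Fc.ed (nat_lit 135) (nat_lit 41) Col.d (nat_lit 62) Dv.df))) (Tr.nd (nat_lit 137) (Tr.lf (Fc.ed (nat_lit 136) (nat_lit 41) Col.b (nat_lit 63) Dv.df)) (Tr.nd (nat_lit 138) (Tr.lf (Fc.ed (nat_lit 137) (nat_lit 42) Col.b (nat_lit 64) Dv.df)) (Tr.lf (Fc.ed (nat_lit 138) (nat_lit 64) Col.d (nat_lit 43) (Dv.wd (nat_lit 13) [Mv.b (nat_lit 97), Mv.b (nat_lit 96), Mv.f (nat_lit 137)])))))))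 (Tr.nd (nat_lit 144) (Tr.nd (nat_lit 141) (Tr.nd (nat_lit 140) (Tr.lf (Fc.ed (nat_lit 139) (nat_lit 64) Col.c (nat_lit 63) (Dv.wd (nat_lit 35) [Mv.b (nat_lit 136), Mv.b (nat_lit 93), Mv.b (nat_lit 56), Mv.f (nat_lit 94), Mv.f (nat_lit 137)]))) (Tr.lf (Fc.ed (nat_lit 140) (nat_lit 43) Col.f (nat_lit 65) Dv.df))) (Tr.nd (nat_lit 142) (Tr.lf (Fc.ed (nat_lit 141) (nat_lit 43) Col.a (nat_lit 66) Dv.df)) (Tr.nd (nat_lit 143) (Tr.lf (Fc.ed (nat_lit 142) (nat_lit 44) Col.a (nat_lit 67) Dv.df)) (Tr.lf (Fc.ed (nat_lit 143) (nat_lit 44) Col.f (nat_lit 68) Dv.df))))) (Tr.nd (nat_lit 146) (Tr.nd (nat_lit 145) (Tr.lf (Fc.ed (nat_lit 144) (nat_lit 68) Col.b (nat_lit 65) (Dv.wd (nat_lit 39) [Mv.b (nat_lit 140), Mv.b (nat_lit 97), Mv.b (nat_lit 60), Mv.f (nat_lit 99), Mv.f (nat_lit 143)]))) (Tr.lf (Fc.ed (nat_lit 145) (nat_lit 43)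 Col.g (nat_lit 69) Dv.df))) (Tr.nd (nat_lit 147) (Tr.lf (Fc.ed (nat_lit 146) (nat_lit 69) Col.c (nat_lit 69) (Dv.wd (nat_lit 11) [Mv.b (nat_lit 145), Mv.f (nat_lit 98), Mv.f (nat_lit 145)]))) (Tr.nd (nat_lit 148) (Tr.lf (Fc.ed (nat_lit 147) (nat_lit 69) Col.b (nat_lit 69) (Dv.wd (nat_lit 40) [Mv.b (nat_lit 145), Mv.b (nat_lit 97), Mv.f (nat_lit 58), Mv.f (nat_lit 97), Mv.f (nat_lit 145)]))) (Tr.lf (Fc.ed (nat_lit 148) (nat_lit 45) Col.b (nat_lit 70) Dv.df)))))))))) (Tr.nd (nat_lit 223) (Tr.nd (nat_lit 186) (Tr.nd (nat_lit 167) (Tr.nd (nat_lit 158) (Tr.nd (nat_lit 153) (Tr.nd (nat_lit 151) (Tr.nd (nat_lit 150) (Tr.lf (Fc.ed (nat_lit 149) (nat_lit 70) Col.c (nat_lit 70) (Dv.wd (nat_lit 35) [Mv.b (nat_lit 148), Mv.b (nat_lit 100), Mv.f (nat_lit 64), Mv.f (nat_lit 100), Mv.f (nat_lit 148)]))) (Tr.lf (Fc.ed (nat_lit 150)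 (nat_lit 45) Col.d (nat_lit 71) Dv.df))) (Tr.nd (nat_lit 152) (Tr.lf (Fc.ed (nat_lit 151) (nat_lit 71) Col.g (nat_lit 62) (Dv.wd (nat_lit 18) [Mv.b (nat_lit 135), Mv.b (nat_lit 102), Mv.f (nat_lit 150)]))) (Tr.lf (Fc.ed (nat_lit 152) (nat_lit 71) Col.c (nat_lit 62) (Dv.wd (nat_lit 41) [Mv.b (nat_lit 135), Mv.b (nat_lit 93), Mv.b (nat_lit 53), Mv.b (nat_lit 15), Mv.f (nat_lit 43), Mv.b (nat_lit 63), Mv.f (nat_lit 100), Mv.f (nat_lit 150)]))))) (Tr.nd (nat_lit 155) (Tr.nd (nat_lit 154) (Tr.lf (Fc.ed (nat_lit 153) (nat_lit 46) Col.d (nat_lit 72) Dv.df)) (Tr.lf (Fc.ed (nat_lit 154) (nat_lit 46) Col.a (nat_lit 73) Dv.df))) (Tr.nd (nat_lit 156) (Tr.lf (Fc.ed (nat_lit 155) (nat_lit 73) Col.c (nat_lit 67) (Dv.wd (nat_lit 20) [Mv.b (nat_lit 142), Mv.b (nat_lit 104), Mv.f (nat_lit 154)]))) (Tr.nd (nat_lit 157) (Tr.lf (Fc.ed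 (nat_lit 156) (nat_lit 46) Col.f (nat_lit 74) Dv.df)) (Tr.lf (Fc.ed (nat_lit 157) (nat_lit 74) Col.b (nat_lit 74) (Dv.wd (nat_lit 39) [Mv.b (nat_lit 156), Mv.b (nat_lit 103), Mv.f (nat_lit 75), Mv.f (nat_lit 103), Mv.f (nat_lit 156)]))))))) (Tr.nd (nat_lit 162) (Tr.nd (nat_lit 160) (Tr.nd (nat_lit 159) (Tr.lf (Fc.ed (nat_lit 158) (nat_lit 47) Col.d (nat_lit 75) Dv.df)) (Tr.lf (Fc.ed (nat_lit 159) (nat_lit 75) Col.b (nat_lit 55) (Dv.wd (nat_lit 17) [Mv.b (nat_lit 124), Mv.b (nat_lit 108), Mv.f (nat_lit 158)])))) (Tr.nd (nat_lit 161) (Tr.lf (Fc.ed (nat_lit 160) (nat_lit 75) Col.c (nat_lit 60) (Dv.wd (nat_lit 41) [Mv.b (nat_lit 131), Mv.b (nat_lit 90), Mv.b (nat_lit 43), Mv.f (nat_lit 15), Mv.f (nat_lit 53), Mv.f (nat_lit 79), Mv.f (nat_lit 105), Mv.f (nat_lit 158)]))) (Tr.lf (Fc.ed (nat_lit 161) (nat_lit 48) Col.b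 (nat_lit 76) Dv.df)))) (Tr.nd (nat_lit 164) (Tr.nd (nat_lit 163) (Tr.lf (Fc.ed (nat_lit 162) (nat_lit 76) Col.d (nat_lit 51) (Dv.wd (nat_lit 13) [Mv.b (nat_lit 116), Mv.f (nat_lit 109), Mv.f (nat_lit 161)]))) (Tr.lf (Fc.ed (nat_lit 163) (nat_lit 50) Col.g (nat_lit 77) Dv.df))) (Tr.nd (nat_lit 165) (Tr.lf (Fc.ed (nat_lit 164) (nat_lit 77) Col.a (nat_lit 53) (Dv.wd (nat_lit 36) [Mv.f (nat_lit 121), Mv.b (nat_lit 115), Mv.f (nat_lit 163)]))) (Tr.nd (nat_lit 166) (Tr.lf (Fc.ed (nat_lit 165) (nat_lit 77) Col.c (nat_lit 49) (Dv.wd (nat_lit 11) [Mv.b (nat_lit 111), Mv.f (nat_lit 114), Mv.f (nat_lit 163)]))) (Tr.lf (Fc.ed (nat_lit 166) (nat_lit 50) Col.d (nat_lit 78) Dv.df))))))) (Tr.nd (nat_lit 176) (Tr.nd (nat_lit 171) (Tr.nd (nat_lit 169) (Tr.nd (nat_lit 168) (Tr.lf (Fc.ed (nat_lit 167) (nat_lit 78) Col.a (nat_lit 55)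 (Dv.wd (nat_lit 24) [Mv.b (nat_lit 124), Mv.b (nat_lit 115), Mv.f (nat_lit 166)]))) (Tr.lf (Fc.ed (nat_lit 168) (nat_lit 49) Col.b (nat_lit 79) Dv.df))) (Tr.nd (nat_lit 170) (Tr.lf (Fc.ed (nat_lit 169) (nat_lit 50) Col.b (nat_lit 80) Dv.df)) (Tr.lf (Fc.ed (nat_lit 170) (nat_lit 51) Col.f (nat_lit 81) Dv.df)))) (Tr.nd (nat_lit 173) (Tr.nd (nat_lit 172) (Tr.lf (Fc.ed (nat_lit 171) (nat_lit 51) Col.g (nat_lit 82) Dv.df)) (Tr.lf (Fc.ed (nat_lit 172) (nat_lit 51) Col.c (nat_lit 83) Dv.df))) (Tr.nd (nat_lit 174) (Tr.lf (Fc.ed (nat_lit 173) (nat_lit 51) Col.a (nat_lit 84) Dv.df)) (Tr.nd (nat_lit 175) (Tr.lf (Fc.ed (nat_lit 174) (nat_lit 84) Col.b (nat_lit 84) (Dv.wd (nat_lit 42) [Mv.b (nat_lit 173), Mv.b (nat_lit 116), Mv.b (nat_lit 81), Mv.b (nat_lit 37), Mv.f (nat_lit 72), Mv.f (nat_lit 37), Mv.f (nat_lit 81), Mv.f (nat_lit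 116), Mv.f (nat_lit 173)]))) (Tr.lf (Fc.ed (nat_lit 175) (nat_lit 52) Col.b (nat_lit 85) Dv.df)))))) (Tr.nd (nat_lit 181) (Tr.nd (nat_lit 178) (Tr.nd (nat_lit 177) (Tr.lf (Fc.ed (nat_lit 176) (nat_lit 54) Col.f (nat_lit 86) Dv.df)) (Tr.lf (Fc.ed (nat_lit 177) (nat_lit 53) Col.b (nat_lit 87) Dv.df))) (Tr.nd (nat_lit 179) (Tr.lf (Fc.ed (nat_lit 178) (nat_lit 87) Col.g (nat_lit 59) (Dv.wd (nat_lit 7) [Mv.b (nat_lit 130), Mv.b (nat_lit 107), Mv.f (nat_lit 108), Mv.b (nat_lit 121), Mv.f (nat_lit 177)]))) (Tr.nd (nat_lit 180) (Tr.lf (Fc.ed (nat_lit 179) (nat_lit 54) Col.a (nat_lit 88) Dv.df)) (Tr.lf (Fc.ed (nat_lit 180) (nat_lit 88) Col.g (nat_lit 73) (Dv.wd (nat_lit 8) [Mv.b (nat_lit 154), Mv.b (nat_lit 123), Mv.f (nat_lit 179)])))))) (Tr.nd (nat_lit 183) (Tr.nd (nat_lit 182) (Tr.lf (Fc.ed (nat_lit 181) (nat_lit 55) Col.c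 (nat_lit 89) Dv.df)) (Tr.lf (Fc.ed (nat_lit 182) (nat_lit 56) Col.b (nat_lit 90) Dv.df))) (Tr.nd (nat_lit 184) (Tr.lf (Fc.ed (nat_lit 183) (nat_lit 56) Col.d (nat_lit 91) Dv.df)) (Tr.nd (nat_lit 185) (Tr.lf (Fc.ed (nat_lit 184) (nat_lit 57) Col.a (nat_lit 92) Dv.df)) (Tr.lf (Fc.ed (nat_lit 185) (nat_lit 57) Col.f (nat_lit 93) Dv.df)))))))) (Tr.nd (nat_lit 204) (Tr.nd (nat_lit 195) (Tr.nd (nat_lit 190) (Tr.nd (nat_lit 188) (Tr.nd (nat_lit 187) (Tr.lf (Fc.ed (nat_lit 186) (nat_lit 58) Col.f (nat_lit 94) Dv.df)) (Tr.lf (Fc.ed (nat_lit 187) (nat_lit 94) Col.b (nat_lit 81) (Dv.wd (nat_lit 39) [Mv.b (nat_lit 170), Mv.b (nat_lit 116), Mv.b (nat_lit 89), Mv.f (nat_lit 129), Mv.f (nat_lit 186)])))) (Tr.nd (nat_lit 189) (Tr.lf (Fc.ed (nat_lit 188) (nat_lit 59) Col.d (nat_lit 95) Dv.df)) (Tr.lf (Fc.ed (nat_lit 189) (nat_lit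 95) Col.b (nat_lit 60) (Dv.wd (nat_lit 17) [Mv.b (nat_lit 131), Mv.f (nat_lit 130), Mv.f (nat_lit 188)]))))) (Tr.nd (nat_lit 192) (Tr.nd (nat_lit 191) (Tr.lf (Fc.ed (nat_lit 190) (nat_lit 59) Col.a (nat_lit 96) Dv.df)) (Tr.lf (Fc.ed (nat_lit 191) (nat_lit 61) Col.a (nat_lit 97) Dv.df))) (Tr.nd (nat_lit 193) (Tr.lf (Fc.ed (nat_lit 192) (nat_lit 97) Col.c (nat_lit 96) (Dv.wd (nat_lit 20) [Mv.b (nat_lit 190), Mv.b (nat_lit 134), Mv.f (nat_lit 191)]))) (Tr.nd (nat_lit 194) (Tr.lf (Fc.ed (nat_lit 193) (nat_lit 97) Col.d (nat_lit 67) (Dv.wd (nat_lit 14) [Mv.b (nat_lit 142), Mv.b (nat_lit 133), Mv.f (nat_lit 191)]))) (Tr.lf (Fc.ed (nat_lit 194) (nat_lit 63) Col.d (nat_lit 98) Dv.df)))))) (Tr.nd (nat_lit 199) (Tr.nd (nat_lit 197) (Tr.nd (nat_lit 196) (Tr.lf (Fc.ed (nat_lit 195) (nat_lit 98) Col.b (nat_lit 62) (Dv.wd (nat_lit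 17) [Mv.b (nat_lit 135), Mv.f (nat_lit 136), Mv.f (nat_lit 194)]))) (Tr.lf (Fc.ed (nat_lit 196) (nat_lit 63) Col.g (nat_lit 99) Dv.df))) (Tr.nd (nat_lit 198) (Tr.lf (Fc.ed (nat_lit 197) (nat_lit 63) Col.a (nat_lit 100) Dv.df)) (Tr.lf (Fc.ed (nat_lit 198) (nat_lit 64) Col.g (nat_lit 101) Dv.df)))) (Tr.nd (nat_lit 201) (Tr.nd (nat_lit 200) (Tr.lf (Fc.ed (nat_lit 199) (nat_lit 101) Col.c (nat_lit 99) (Dv.wd (nat_lit 11) [Mv.b (nat_lit 196), Mv.b (nat_lit 139), Mv.f (nat_lit 198)]))) (Tr.lf (Fc.ed (nat_lit 200) (nat_lit 101) Col.d (nat_lit 69) (Dv.wd (nat_lit 12) [Mv.b (nat_lit 145), Mv.b (nat_lit 138), Mv.f (nat_lit 198)])))) (Tr.nd (nat_lit 202) (Tr.lf (Fc.ed (nat_lit 201) (nat_lit 64) Col.a (nat_lit 102) Dv.df)) (Tr.nd (nat_lit 203) (Tr.lf (Fc.ed (nat_lit 202) (nat_lit 102) Col.c (nat_lit 100) (Dv.wd (nat_lit 20)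 [Mv.b (nat_lit 197), Mv.b (nat_lit 139), Mv.f (nat_lit 201)]))) (Tr.lf (Fc.ed (nat_lit 203) (nat_lit 102) Col.d (nat_lit 66) (Dv.wd (nat_lit 14) [Mv.b (nat_lit 141), Mv.b (nat_lit 138), Mv.f (nat_lit 201)])))))))) (Tr.nd (nat_lit 213) (Tr.nd (nat_lit 208) (Tr.nd (nat_lit 206) (Tr.nd (nat_lit 205) (Tr.lf (Fc.ed (nat_lit 204) (nat_lit 65) Col.a (nat_lit 103) Dv.df)) (Tr.lf (Fc.ed (nat_lit 205) (nat_lit 103) Col.f (nat_lit 66) (Dv.wd (nat_lit 21) [Mv.b (nat_lit 141), Mv.f (nat_lit 140), Mv.f (nat_lit 204)])))) (Tr.nd (nat_lit 207) (Tr.lf (Fc.ed (nat_lit 206) (nat_lit 67) Col.b (nat_lit 104) Dv.df)) (Tr.lf (Fc.ed (nat_lit 207) (nat_lit 66) Col.g (nat_lit 105) Dv.df)))) (Tr.nd (nat_lit 210) (Tr.nd (nat_lit 209) (Tr.lf (Fc.ed (nat_lit 208) (nat_lit 105) Col.a (nat_lit 69) (Dv.wd (nat_lit 36) [Mv.b (nat_lit 145), Mv.f (nat_lit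 141), Mv.f (nat_lit 207)]))) (Tr.lf (Fc.ed (nat_lit 209) (nat_lit 67) Col.g (nat_lit 106) Dv.df))) (Tr.nd (nat_lit 211) (Tr.lf (Fc.ed (nat_lit 210) (nat_lit 106) Col.c (nat_lit 88) (Dv.wd (nat_lit 11) [Mv.f (nat_lit 180), Mv.f (nat_lit 155), Mv.f (nat_lit 209)]))) (Tr.nd (nat_lit 212) (Tr.lf (Fc.ed (nat_lit 211) (nat_lit 66) Col.b (nat_lit 107) Dv.df)) (Tr.lf (Fc.ed (nat_lit 212) (nat_lit 68) Col.g (nat_lit 108) Dv.df)))))) (Tr.nd (nat_lit 218) (Tr.nd (nat_lit 215) (Tr.nd (nat_lit 214) (Tr.lf (Fc.ed (nat_lit 213) (nat_lit 108) Col.f (nat_lit 106) (Dv.wd (nat_lit 29) [Mv.b (nat_lit 209), Mv.b (nat_lit 142), Mv.f (nat_lit 143), Mv.f (nat_lit 212)]))) (Tr.lf (Fc.ed (nat_lit 214) (nat_lit 69) Col.f (nat_lit 109) Dv.df))) (Tr.nd (nat_lit 216) (Tr.lf (Fc.ed (nat_lit 215) (nat_lit 109) Col.g (nat_lit 103) (Dv.wd (nat_lit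 38) [Mv.f (nat_lit 205), Mv.f (nat_lit 207), Mv.f (nat_lit 208), Mv.f (nat_lit 214)]))) (Tr.nd (nat_lit 217) (Tr.lf (Fc.ed (nat_lit 216) (nat_lit 70) Col.d (nat_lit 110) Dv.df)) (Tr.lf (Fc.ed (nat_lit 217) (nat_lit 110) Col.b (nat_lit 71) (Dv.wd (nat_lit 17) [Mv.b (nat_lit 150), Mv.f (nat_lit 148), Mv.f (nat_lit 216)])))))) (Tr.nd (nat_lit 220) (Tr.nd (nat_lit 219) (Tr.lf (Fc.ed (nat_lit 218) (nat_lit 70) Col.a (nat_lit 111) Dv.df)) (Tr.lf (Fc.ed (nat_lit 219) (nat_lit 73) Col.d (nat_lit 112) Dv.df))) (Tr.nd (nat_lit 221) (Tr.lf (Fc.ed (nat_lit 220) (nat_lit 112) Col.a (nat_lit 72) (Dv.wd (nat_lit 24) [Mv.b (nat_lit 153), Mv.f (nat_lit 154), Mv.f (nat_lit 219)]))) (Tr.nd (nat_lit 222) (Tr.lf (Fc.ed (nat_lit 221) (nat_lit 73) Col.b (nat_lit 113) Dv.df)) (Tr.lf (Fc.ed (nat_lit 222) (nat_lit 74) Col.g (nat_lit 114)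 Dv.df))))))))) (Tr.nd (nat_lit 260) (Tr.nd (nat_lit 241) (Tr.nd (nat_lit 232) (Tr.nd (nat_lit 227) (Tr.nd (nat_lit 225) (Tr.nd (nat_lit 224) (Tr.lf (Fc.ed (nat_lit 223) (nat_lit 114) Col.f (nat_lit 88) (Dv.wd (nat_lit 29) [Mv.f (nat_lit 180), Mv.b (nat_lit 154), Mv.f (nat_lit 156), Mv.f (nat_lit 222)]))) (Tr.lf (Fc.ed (nat_lit 224) (nat_lit 76) Col.c (nat_lit 115) Dv.df))) (Tr.nd (nat_lit 226) (Tr.lf (Fc.ed (nat_lit 225) (nat_lit 77) Col.b (nat_lit 116) Dv.df)) (Tr.lf (Fc.ed (nat_lit 226) (nat_lit 78) Col.b (nat_lit 117) Dv.df)))) (Tr.nd (nat_lit 229) (Tr.nd (nat_lit 228) (Tr.lf (Fc.ed (nat_lit 227) (nat_lit 117) Col.d (nat_lit 80) (Dv.wd (nat_lit 13) [Mv.b (nat_lit 169), Mv.f (nat_lit 166), Mv.f (nat_lit 226)]))) (Tr.lf (Fc.ed (nat_lit 228) (nat_lit 79) Col.g (nat_lit 118) Dv.df))) (Tr.nd (nat_lit 230) (Tr.lf (Fc.ed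 (nat_lit 229) (nat_lit 118) Col.b (nat_lit 82) (Dv.wd (nat_lit 40) [Mv.b (nat_lit 171), Mv.b (nat_lit 116), Mv.f (nat_lit 111), Mv.f (nat_lit 168), Mv.f (nat_lit 228)]))) (Tr.nd (nat_lit 231) (Tr.lf (Fc.ed (nat_lit 230) (nat_lit 79) Col.c (nat_lit 119) Dv.df)) (Tr.lf (Fc.ed (nat_lit 231) (nat_lit 79) Col.a (nat_lit 120) Dv.df)))))) (Tr.nd (nat_lit 236) (Tr.nd (nat_lit 234) (Tr.nd (nat_lit 233) (Tr.lf (Fc.ed (nat_lit 232) (nat_lit 80) Col.a (nat_lit 121) Dv.df)) (Tr.lf (Fc.ed (nat_lit 233) (nat_lit 80) Col.g (nat_lit 122) Dv.df))) (Tr.nd (nat_lit 235) (Tr.lf (Fc.ed (nat_lit 234) (nat_lit 80) Col.c (nat_lit 123) Dv.df)) (Tr.lf (Fc.ed (nat_lit 235) (nat_lit 123) Col.b (nat_lit 83) (Dv.wd (nat_lit 16) [Mv.b (nat_lit 172), Mv.b (nat_lit 116), Mv.f (nat_lit 114), Mv.f (nat_lit 169), Mv.f (nat_lit 234)]))))) (Tr.nd (nat_lit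 238) (Tr.nd (nat_lit 237) (Tr.lf (Fc.ed (nat_lit 236) (nat_lit 81) Col.g (nat_lit 124) Dv.df)) (Tr.lf (Fc.ed (nat_lit 237) (nat_lit 81) Col.a (nat_lit 125) Dv.df))) (Tr.nd (nat_lit 239) (Tr.lf (Fc.ed (nat_lit 238) (nat_lit 125) Col.f (nat_lit 84) (Dv.wd (nat_lit 21) [Mv.b (nat_lit 173), Mv.f (nat_lit 170), Mv.f (nat_lit 237)]))) (Tr.nd (nat_lit 240) (Tr.lf (Fc.ed (nat_lit 239) (nat_lit 82) Col.a (nat_lit 126) Dv.df)) (Tr.lf (Fc.ed (nat_lit 240) (nat_lit 126) Col.g (nat_lit 84) (Dv.wd (nat_lit 8) [Mv.b (nat_lit 173), Mv.f (nat_lit 171), Mv.f (nat_lit 239)])))))))) (Tr.nd (nat_lit 250) (Tr.nd (nat_lit 245) (Tr.nd (nat_lit 243) (Tr.nd (nat_lit 242) (Tr.lf (Fc.ed (nat_lit 241) (nat_lit 126) Col.f (nat_lit 124) (Dv.wd (nat_lit 43) [Mv.b (nat_lit 236), Mv.b (nat_lit 170), Mv.f (nat_lit 171), Mv.f (nat_lit 239)]))) (Tr.lf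 (Fc.ed (nat_lit 242) (nat_lit 82) Col.f (nat_lit 127) Dv.df))) (Tr.nd (nat_lit 244) (Tr.lf (Fc.ed (nat_lit 243) (nat_lit 127) Col.a (nat_lit 124) (Dv.wd (nat_lit 37) [Mv.b (nat_lit 241), Mv.b (nat_lit 239), Mv.f (nat_lit 242)]))) (Tr.lf (Fc.ed (nat_lit 244) (nat_lit 127) Col.g (nat_lit 125) (Dv.wd (nat_lit 38) [Mv.f (nat_lit 238), Mv.b (nat_lit 240), Mv.b (nat_lit 239), Mv.f (nat_lit 242)]))))) (Tr.nd (nat_lit 247) (Tr.nd (nat_lit 246) (Tr.lf (Fc.ed (nat_lit 245) (nat_lit 79) Col.f (nat_lit 128) Dv.df)) (Tr.lf (Fc.ed (nat_lit 246) (nat_lit 128) Col.b (nat_lit 93) (Dv.wd (nat_lit 39) [Mv.b (nat_lit 185), Mv.b (nat_lit 127), Mv.b (nat_lit 113), Mv.f (nat_lit 168), Mv.f (nat_lit 245)])))) (Tr.nd (nat_lit 248) (Tr.lf (Fc.ed (nat_lit 247) (nat_lit 83) Col.g (nat_lit 129) Dv.df)) (Tr.nd (nat_lit 249) (Tr.lf (Fc.ed (nat_lit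 248) (nat_lit 129) Col.c (nat_lit 82) (Dv.wd (nat_lit 11) [Mv.b (nat_lit 171), Mv.f (nat_lit 172), Mv.f (nat_lit 247)]))) (Tr.lf (Fc.ed (nat_lit 249) (nat_lit 83) Col.a (nat_lit 130) Dv.df)))))) (Tr.nd (nat_lit 255) (Tr.nd (nat_lit 252) (Tr.nd (nat_lit 251) (Tr.lf (Fc.ed (nat_lit 250) (nat_lit 130) Col.c (nat_lit 84) (Dv.wd (nat_lit 20) [Mv.b (nat_lit 173), Mv.f (nat_lit 172), Mv.f (nat_lit 249)]))) (Tr.lf (Fc.ed (nat_lit 251) (nat_lit 83) Col.d (nat_lit 131) Dv.df))) (Tr.nd (nat_lit 253) (Tr.lf (Fc.ed (nat_lit 252) (nat_lit 85) Col.f (nat_lit 132) Dv.df)) (Tr.nd (nat_lit 254) (Tr.lf (Fc.ed (nat_lit 253) (nat_lit 132) Col.b (nat_lit 86) (Dv.wd (nat_lit 39) [Mv.b (nat_lit 176), Mv.b (nat_lit 122), Mv.f (nat_lit 117), Mv.f (nat_lit 175), Mv.f (nat_lit 252)]))) (Tr.lf (Fc.ed (nat_lit 254) (nat_lit 85) Col.g (nat_lit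 133) Dv.df))))) (Tr.nd (nat_lit 257) (Tr.nd (nat_lit 256) (Tr.lf (Fc.ed (nat_lit 255) (nat_lit 87) Col.d (nat_lit 134) Dv.df)) (Tr.lf (Fc.ed (nat_lit 256) (nat_lit 85) Col.a (nat_lit 135) Dv.df))) (Tr.nd (nat_lit 258) (Tr.lf (Fc.ed (nat_lit 257) (nat_lit 87) Col.a (nat_lit 136) Dv.df)) (Tr.nd (nat_lit 259) (Tr.lf (Fc.ed (nat_lit 258) (nat_lit 136) Col.g (nat_lit 96) (Dv.wd (nat_lit 8) [Mv.b (nat_lit 190), Mv.b (nat_lit 178), Mv.f (nat_lit 257)]))) (Tr.lf (Fc.ed (nat_lit 259) (nat_lit 88) Col.b (nat_lit 137) Dv.df)))))))) (Tr.nd (nat_lit 279) (Tr.nd (nat_lit 269) (Tr.nd (nat_lit 264) (Tr.nd (nat_lit 262) (Tr.nd (nat_lit 261) (Tr.lf (Fc.ed (nat_lit 260) (nat_lit 89) Col.b (nat_lit 138) Dv.df)) (Tr.lf (Fc.ed (nat_lit 261) (nat_lit 138) Col.c (nat_lit 95) (Dv.wd (nat_lit 35) [Mv.f (nat_lit 189), Mv.b (nat_lit 160), Mv.f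 (nat_lit 159), Mv.f (nat_lit 181), Mv.f (nat_lit 260)])))) (Tr.nd (nat_lit 263) (Tr.lf (Fc.ed (nat_lit 262) (nat_lit 89) Col.d (nat_lit 139) Dv.df)) (Tr.lf (Fc.ed (nat_lit 263) (nat_lit 139) Col.c (nat_lit 91) (Dv.wd (nat_lit 41) [Mv.b (nat_lit 183), Mv.f (nat_lit 126), Mv.b (nat_lit 109), Mv.f (nat_lit 114), Mv.f (nat_lit 166), Mv.f (nat_lit 167), Mv.f (nat_lit 181), Mv.f (nat_lit 262)]))))) (Tr.nd (nat_lit 266) (Tr.nd (nat_lit 265) (Tr.lf (Fc.ed (nat_lit 264) (nat_lit 90) Col.c (nat_lit 140) Dv.df)) (Tr.lf (Fc.ed (nat_lit 265) (nat_lit 140) Col.b (nat_lit 115) (Dv.wd (nat_lit 16) [Mv.b (nat_lit 224), Mv.b (nat_lit 161), Mv.b (nat_lit 126), Mv.f (nat_lit 182), Mv.f (nat_lit 264)])))) (Tr.nd (nat_lit 267) (Tr.lf (Fc.ed (nat_lit 266) (nat_lit 90) Col.d (nat_lit 141) Dv.df)) (Tr.nd (nat_lit 268) (Tr.lf (Fc.ed (nat_lit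 267) (nat_lit 141) Col.b (nat_lit 91) (Dv.wd (nat_lit 17) [Mv.b (nat_lit 183), Mv.f (nat_lit 182), Mv.f (nat_lit 266)]))) (Tr.lf (Fc.ed (nat_lit 268) (nat_lit 92) Col.b (nat_lit 142) Dv.df)))))) (Tr.nd (nat_lit 274) (Tr.nd (nat_lit 271) (Tr.nd (nat_lit 270) (Tr.lf (Fc.ed (nat_lit 269) (nat_lit 92) Col.f (nat_lit 143) Dv.df)) (Tr.lf (Fc.ed (nat_lit 270) (nat_lit 143) Col.g (nat_lit 93) (Dv.wd (nat_lit 38) [Mv.b (nat_lit 185), Mv.f (nat_lit 128), Mv.f (nat_lit 184), Mv.f (nat_lit 269)])))) (Tr.nd (nat_lit 272) (Tr.lf (Fc.ed (nat_lit 271) (nat_lit 94) Col.g (nat_lit 144) Dv.df)) (Tr.nd (nat_lit 273) (Tr.lf (Fc.ed (nat_lit 272) (nat_lit 96) Col.b (nat_lit 145) Dv.df)) (Tr.lf (Fc.ed (nat_lit 273) (nat_lit 97) Col.g (nat_lit 146) Dv.df))))) (Tr.nd (nat_lit 276) (Tr.nd (nat_lit 275) (Tr.lf (Fc.ed (nat_lit 274) (nat_lit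 146) Col.c (nat_lit 136) (Dv.wd (nat_lit 11) [Mv.f (nat_lit 258), Mv.b (nat_lit 192), Mv.f (nat_lit 273)]))) (Tr.lf (Fc.ed (nat_lit 275) (nat_lit 146) Col.d (nat_lit 106) (Dv.wd (nat_lit 12) [Mv.b (nat_lit 209), Mv.b (nat_lit 193), Mv.f (nat_lit 273)])))) (Tr.nd (nat_lit 277) (Tr.lf (Fc.ed (nat_lit 276) (nat_lit 98) Col.g (nat_lit 147) Dv.df)) (Tr.nd (nat_lit 278) (Tr.lf (Fc.ed (nat_lit 277) (nat_lit 147) Col.d (nat_lit 99) (Dv.wd (nat_lit 12) [Mv.b (nat_lit 196), Mv.f (nat_lit 194), Mv.f (nat_lit 276)]))) (Tr.lf (Fc.ed (nat_lit 278) (nat_lit 98) Col.a (nat_lit 148) Dv.df))))))) (Tr.nd (nat_lit 288) (Tr.nd (nat_lit 283) (Tr.nd (nat_lit 281) (Tr.nd (nat_lit 280) (Tr.lf (Fc.ed (nat_lit 279) (nat_lit 148) Col.d (nat_lit 100) (Dv.wd (nat_lit 14) [Mv.b (nat_lit 197), Mv.f (nat_lit 194), Mv.f (nat_lit 278)]))) (Tr.lf (Fc.ed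 (nat_lit 280) (nat_lit 148) Col.c (nat_lit 98) (Dv.wd (nat_lit 44) [Mv.b (nat_lit 194), Mv.b (nat_lit 139), Mv.f (nat_lit 138), Mv.f (nat_lit 98), Mv.b (nat_lit 138), Mv.f (nat_lit 139), Mv.f (nat_lit 194), Mv.f (nat_lit 278)])))) (Tr.nd (nat_lit 282) (Tr.lf (Fc.ed (nat_lit 281) (nat_lit 99) Col.a (nat_lit 149) Dv.df)) (Tr.lf (Fc.ed (nat_lit 282) (nat_lit 149) Col.g (nat_lit 100) (Dv.wd (nat_lit 8) [Mv.b (nat_lit 197), Mv.f (nat_lit 196), Mv.f (nat_lit 281)]))))) (Tr.nd (nat_lit 285) (Tr.nd (nat_lit 284) (Tr.lf (Fc.ed (nat_lit 283) (nat_lit 100) Col.b (nat_lit 150) Dv.df)) (Tr.lf (Fc.ed (nat_lit 284) (nat_lit 101) Col.a (nat_lit 151) Dv.df))) (Tr.nd (nat_lit 286) (Tr.lf (Fc.ed (nat_lit 285) (nat_lit 151) Col.c (nat_lit 149) (Dv.wd (nat_lit 20) [Mv.b (nat_lit 281), Mv.b (nat_lit 199), Mv.f (nat_lit 284)]))) (Tr.nd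 (nat_lit 287) (Tr.lf (Fc.ed (nat_lit 286) (nat_lit 151) Col.d (nat_lit 105) (Dv.wd (nat_lit 14) [Mv.f (nat_lit 208), Mv.b (nat_lit 200), Mv.f (nat_lit 284)]))) (Tr.lf (Fc.ed (nat_lit 287) (nat_lit 151) Col.g (nat_lit 102) (Dv.wd (nat_lit 8) [Mv.b (nat_lit 201), Mv.f (nat_lit 198), Mv.f (nat_lit 284)]))))))) (Tr.nd (nat_lit 293) (Tr.nd (nat_lit 290) (Tr.nd (nat_lit 289) (Tr.lf (Fc.ed (nat_lit 288) (nat_lit 102) Col.b (nat_lit 152) Dv.df)) (Tr.lf (Fc.ed (nat_lit 289) (nat_lit 152) Col.d (nat_lit 107) (Dv.wd (nat_lit 13) [Mv.b (nat_lit 211), Mv.b (nat_lit 203), Mv.f (nat_lit 288)])))) (Tr.nd (nat_lit 291) (Tr.lf (Fc.ed (nat_lit 290) (nat_lit 103) Col.b (nat_lit 153) Dv.df)) (Tr.nd (nat_lit 292) (Tr.lf (Fc.ed (nat_lit 291) (nat_lit 104) Col.c (nat_lit 154) Dv.df)) (Tr.lf (Fc.ed (nat_lit 292) (nat_lit 104) Col.g (nat_lit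 155) Dv.df))))) (Tr.nd (nat_lit 295) (Tr.nd (nat_lit 294) (Tr.lf (Fc.ed (nat_lit 293) (nat_lit 105) Col.b (nat_lit 156) Dv.df)) (Tr.lf (Fc.ed (nat_lit 294) (nat_lit 104) Col.a (nat_lit 157) Dv.df))) (Tr.nd (nat_lit 296) (Tr.lf (Fc.ed (nat_lit 295) (nat_lit 106) Col.b (nat_lit 158) Dv.df)) (Tr.nd (nat_lit 297) (Tr.lf (Fc.ed (nat_lit 296) (nat_lit 107) Col.g (nat_lit 159) Dv.df)) (Tr.lf (Fc.ed (nat_lit 297) (nat_lit 107) Col.a (nat_lit 160) Dv.df))))))))))) (Tr.nd (nat_lit 447) (Tr.nd (nat_lit 372) (Tr.nd (nat_lit 335) (Tr.nd (nat_lit 316) (Tr.nd (nat_lit 307) (Tr.nd (nat_lit 302) (Tr.nd (nat_lit 300) (Tr.nd (nat_lit 299) (Tr.lf (Fc.ed (nat_lit 298) (nat_lit 107) Col.c (nat_lit 161) Dv.df)) (Tr.lf (Fc.ed (nat_lit 299) (nat_lit 107) Col.f (nat_lit 162) Dv.df))) (Tr.nd (nat_lit 301) (Tr.lf (Fc.ed (nat_lit 300) (nat_lit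 111) Col.d (nat_lit 163) Dv.df)) (Tr.lf (Fc.ed (nat_lit 301) (nat_lit 163) Col.a (nat_lit 110) (Dv.wd (nat_lit 24) [Mv.b (nat_lit 216), Mv.f (nat_lit 218), Mv.f (nat_lit 300)]))))) (Tr.nd (nat_lit 304) (Tr.nd (nat_lit 303) (Tr.lf (Fc.ed (nat_lit 302) (nat_lit 111) Col.b (nat_lit 164) Dv.df)) (Tr.lf (Fc.ed (nat_lit 303) (nat_lit 110) Col.g (nat_lit 165) Dv.df))) (Tr.nd (nat_lit 305) (Tr.lf (Fc.ed (nat_lit 304) (nat_lit 165) Col.b (nat_lit 147) (Dv.wd (nat_lit 40) [Mv.b (nat_lit 276), Mv.f (nat_lit 195), Mv.b (nat_lit 151), Mv.b (nat_lit 217), Mv.f (nat_lit 303)]))) (Tr.nd (nat_lit 306) (Tr.lf (Fc.ed (nat_lit 305) (nat_lit 110) Col.c (nat_lit 166) Dv.df)) (Tr.lf (Fc.ed (nat_lit 306) (nat_lit 166) Col.b (nat_lit 148) (Dv.wd (nat_lit 16) [Mv.f (nat_lit 280), Mv.f (nat_lit 195), Mv.b (nat_lit 152), Mv.b (nat_lit 217),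 Mv.f (nat_lit 305)]))))))) (Tr.nd (nat_lit 311) (Tr.nd (nat_lit 309) (Tr.nd (nat_lit 308) (Tr.lf (Fc.ed (nat_lit 307) (nat_lit 150) Col.d (nat_lit 166) (Dv.wd (nat_lit 45) [Mv.f (nat_lit 306), Mv.f (nat_lit 279), Mv.f (nat_lit 283)]))) (Tr.lf (Fc.ed (nat_lit 308) (nat_lit 112) Col.b (nat_lit 167) Dv.df))) (Tr.nd (nat_lit 310) (Tr.lf (Fc.ed (nat_lit 309) (nat_lit 167) Col.d (nat_lit 113) (Dv.wd (nat_lit 13) [Mv.b (nat_lit 221), Mv.f (nat_lit 219), Mv.f (nat_lit 308)]))) (Tr.lf (Fc.ed (nat_lit 310) (nat_lit 113) Col.a (nat_lit 168) Dv.df)))) (Tr.nd (nat_lit 313) (Tr.nd (nat_lit 312) (Tr.lf (Fc.ed (nat_lit 311) (nat_lit 113) Col.g (nat_lit 169) Dv.df)) (Tr.lf (Fc.ed (nat_lit 312) (nat_lit 113) Col.c (nat_lit 170) Dv.df))) (Tr.nd (nat_lit 314) (Tr.lf (Fc.ed (nat_lit 313) (nat_lit 170) Col.b (nat_lit 154) (Dv.wd (nat_lit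 16) [Mv.b (nat_lit 291), Mv.b (nat_lit 206), Mv.b (nat_lit 155), Mv.f (nat_lit 221), Mv.f (nat_lit 312)]))) (Tr.nd (nat_lit 315) (Tr.lf (Fc.ed (nat_lit 314) (nat_lit 113) Col.f (nat_lit 171) Dv.df)) (Tr.lf (Fc.ed (nat_lit 315) (nat_lit 112) Col.c (nat_lit 172) Dv.df))))))) (Tr.nd (nat_lit 325) (Tr.nd (nat_lit 320) (Tr.nd (nat_lit 318) (Tr.nd (nat_lit 317) (Tr.lf (Fc.ed (nat_lit 316) (nat_lit 172) Col.d (nat_lit 138) (Dv.wd (nat_lit 34) [Mv.f (nat_lit 261), Mv.b (nat_lit 188), Mv.b (nat_lit 134), Mv.f (nat_lit 133), Mv.b (nat_lit 104), Mv.f (nat_lit 153), Mv.b (nat_lit 220), Mv.f (nat_lit 315)]))) (Tr.lf (Fc.ed (nat_lit 317) (nat_lit 139) Col.b (nat_lit 172) (Dv.wd (nat_lit 46) [Mv.f (nat_lit 316), Mv.b (nat_lit 260), Mv.f (nat_lit 262)])))) (Tr.nd (nat_lit 319) (Tr.lf (Fc.ed (nat_lit 318) (nat_lit 167) Col.c (nat_lit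 141) (Dv.wd (nat_lit 6) [Mv.f (nat_lit 267), Mv.b (nat_lit 263), Mv.f (nat_lit 317), Mv.b (nat_lit 315), Mv.f (nat_lit 308)]))) (Tr.lf (Fc.ed (nat_lit 319) (nat_lit 115) Col.d (nat_lit 173) Dv.df)))) (Tr.nd (nat_lit 322) (Tr.nd (nat_lit 321) (Tr.lf (Fc.ed (nat_lit 320) (nat_lit 116) Col.a (nat_lit 174) Dv.df)) (Tr.lf (Fc.ed (nat_lit 321) (nat_lit 116) Col.c (nat_lit 175) Dv.df))) (Tr.nd (nat_lit 323) (Tr.lf (Fc.ed (nat_lit 322) (nat_lit 175) Col.b (nat_lit 119) (Dv.wd (nat_lit 16) [Mv.b (nat_lit 230), Mv.b (nat_lit 168), Mv.b (nat_lit 165), Mv.f (nat_lit 225), Mv.f (nat_lit 321)]))) (Tr.nd (nat_lit 324) (Tr.lf (Fc.ed (nat_lit 323) (nat_lit 116) Col.g (nat_lit 176) Dv.df)) (Tr.lf (Fc.ed (nat_lit 324) (nat_lit 176) Col.b (nat_lit 122) (Dv.wd (nat_lit 40) [Mv.b (nat_lit 233), Mv.b (nat_lit 169), Mv.f (nat_lit 163),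 Mv.f (nat_lit 225), Mv.f (nat_lit 323)]))))))) (Tr.nd (nat_lit 330) (Tr.nd (nat_lit 327) (Tr.nd (nat_lit 326) (Tr.lf (Fc.ed (nat_lit 325) (nat_lit 117) Col.a (nat_lit 177) Dv.df)) (Tr.lf (Fc.ed (nat_lit 326) (nat_lit 177) Col.d (nat_lit 121) (Dv.wd (nat_lit 14) [Mv.b (nat_lit 232), Mv.b (nat_lit 227), Mv.f (nat_lit 325)])))) (Tr.nd (nat_lit 328) (Tr.lf (Fc.ed (nat_lit 327) (nat_lit 118) Col.a (nat_lit 178) Dv.df)) (Tr.nd (nat_lit 329) (Tr.lf (Fc.ed (nat_lit 328) (nat_lit 178) Col.g (nat_lit 120) (Dv.wd (nat_lit 8) [Mv.b (nat_lit 231), Mv.f (nat_lit 228), Mv.f (nat_lit 327)]))) (Tr.lf (Fc.ed (nat_lit 329) (nat_lit 118) Col.c (nat_lit 179) Dv.df))))) (Tr.nd (nat_lit 332) (Tr.nd (nat_lit 331) (Tr.lf (Fc.ed (nat_lit 330) (nat_lit 179) Col.g (nat_lit 119) (Dv.wd (nat_lit 9) [Mv.b (nat_lit 230), Mv.f (nat_lit 228), Mv.f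 (nat_lit 329)]))) (Tr.lf (Fc.ed (nat_lit 331) (nat_lit 118) Col.f (nat_lit 180) Dv.df))) (Tr.nd (nat_lit 333) (Tr.lf (Fc.ed (nat_lit 332) (nat_lit 121) Col.b (nat_lit 181) Dv.df)) (Tr.nd (nat_lit 334) (Tr.lf (Fc.ed (nat_lit 333) (nat_lit 181) Col.a (nat_lit 150) (Dv.wd (nat_lit 47) [Mv.b (nat_lit 283), Mv.b (nat_lit 197), Mv.b (nat_lit 136), Mv.b (nat_lit 106), Mv.f (nat_lit 108), Mv.b (nat_lit 115), Mv.f (nat_lit 169), Mv.f (nat_lit 232), Mv.f (nat_lit 332)]))) (Tr.lf (Fc.ed (nat_lit 334) (nat_lit 150) Col.c (nat_lit 181) (Dv.wd (nat_lit 48) [Mv.f (nat_lit 333), Mv.f (nat_lit 307), Mv.b (nat_lit 305), Mv.b (nat_lit 216), Mv.f (nat_lit 149), Mv.f (nat_lit 216), Mv.f (nat_lit 305), Mv.b (nat_lit 307)]))))))))) (Tr.nd (nat_lit 353) (Tr.nd (nat_lit 344) (Tr.nd (nat_lit 339) (Tr.nd (nat_lit 337) (Tr.nd (nat_lit 336)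 (Tr.lf (Fc.ed (nat_lit 335) (nat_lit 121) Col.c (nat_lit 152) (Dv.wd (nat_lit 35) [Mv.b (nat_lit 288), Mv.f (nat_lit 202), Mv.f (nat_lit 283), Mv.f (nat_lit 334), Mv.b (nat_lit 332)]))) (Tr.lf (Fc.ed (nat_lit 336) (nat_lit 152) Col.a (nat_lit 123) (Dv.wd (nat_lit 15) [Mv.b (nat_lit 234), Mv.f (nat_lit 232), Mv.f (nat_lit 335)])))) (Tr.nd (nat_lit 338) (Tr.lf (Fc.ed (nat_lit 337) (nat_lit 123) Col.d (nat_lit 160) (Dv.wd (nat_lit 14) [Mv.b (nat_lit 297), Mv.b (nat_lit 289), Mv.f (nat_lit 336)]))) (Tr.lf (Fc.al (nat_lit 338) (nat_lit 130) (nat_lit 107) (Dv.wd (nat_lit 49) [Mv.b (nat_lit 211), Mv.b (nat_lit 141), Mv.b (nat_lit 97), Mv.b (nat_lit 95), Mv.f (nat_lit 137), Mv.f (nat_lit 201), Mv.f (nat_lit 288), Mv.f (nat_lit 336), Mv.f (nat_lit 235), Mv.f (nat_lit 249)]))))) (Tr.nd (nat_lit 341) (Tr.nd (nat_lit 340) (Tr.lf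 (Fc.al (nat_lit 339) (nat_lit 160) (nat_lit 83) (Dv.wd (nat_lit 27) [Mv.f (nat_lit 249), Mv.f (nat_lit 338), Mv.f (nat_lit 297)]))) (Tr.lf (Fc.al (nat_lit 340) (nat_lit 161) (nat_lit 84) (Dv.wd (nat_lit 50) [Mv.b (nat_lit 250), Mv.f (nat_lit 338), Mv.f (nat_lit 298)])))) (Tr.nd (nat_lit 342) (Tr.lf (Fc.al (nat_lit 341) (nat_lit 131) (nat_lit 123) (Dv.wd (nat_lit 51) [Mv.f (nat_lit 337), Mv.f (nat_lit 339), Mv.f (nat_lit 251)]))) (Tr.nd (nat_lit 343) (Tr.lf (Fc.ed (nat_lit 342) (nat_lit 84) Col.c (nat_lit 107) (Dv.wd (nat_lit 50) [Mv.f (nat_lit 298), Mv.f (nat_lit 340)]))) (Tr.lf (Fc.ed (nat_lit 343) (nat_lit 123) Col.d (nat_lit 83) (Dv.wd (nat_lit 51) [Mv.f (nat_lit 251), Mv.f (nat_lit 341)]))))))) (Tr.nd (nat_lit 348) (Tr.nd (nat_lit 346) (Tr.nd (nat_lit 345) (Tr.lf (Fc.ed (nat_lit 344) (nat_lit 177) Col.c (nat_lit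 173) (Dv.wd (nat_lit 41) [Mv.b (nat_lit 319), Mv.b (nat_lit 224), Mv.f (nat_lit 162), Mv.f (nat_lit 172), Mv.b (nat_lit 343), Mv.b (nat_lit 336), Mv.b (nat_lit 335), Mv.b (nat_lit 326)]))) (Tr.lf (Fc.ed (nat_lit 345) (nat_lit 162) Col.c (nat_lit 125) (Dv.wd (nat_lit 52) [Mv.f (nat_lit 238), Mv.f (nat_lit 342), Mv.f (nat_lit 299)])))) (Tr.nd (nat_lit 347) (Tr.lf (Fc.ed (nat_lit 346) (nat_lit 159) Col.c (nat_lit 126) (Dv.wd (nat_lit 53) [Mv.f (nat_lit 240), Mv.f (nat_lit 342), Mv.f (nat_lit 296)]))) (Tr.lf (Fc.ed (nat_lit 347) (nat_lit 129) Col.a (nat_lit 159) (Dv.wd (nat_lit 31) [Mv.f (nat_lit 346), Mv.b (nat_lit 239), Mv.b (nat_lit 248)]))))) (Tr.nd (nat_lit 350) (Tr.nd (nat_lit 349) (Tr.lf (Fc.ed (nat_lit 348) (nat_lit 120) Col.f (nat_lit 182) Dv.df)) (Tr.lf (Fc.ed (nat_lit 349) (nat_lit 182) Col.a (nat_lit 128)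 (Dv.wd (nat_lit 37) [Mv.b (nat_lit 245), Mv.f (nat_lit 231), Mv.f (nat_lit 348)])))) (Tr.nd (nat_lit 351) (Tr.lf (Fc.ed (nat_lit 350) (nat_lit 182) Col.g (nat_lit 180) (Dv.wd (nat_lit 38) [Mv.b (nat_lit 331), Mv.b (nat_lit 228), Mv.f (nat_lit 231), Mv.f (nat_lit 348)]))) (Tr.nd (nat_lit 352) (Tr.lf (Fc.ed (nat_lit 351) (nat_lit 120) Col.b (nat_lit 183) Dv.df)) (Tr.lf (Fc.ed (nat_lit 352) (nat_lit 122) Col.c (nat_lit 184) Dv.df))))))) (Tr.nd (nat_lit 362) (Tr.nd (nat_lit 357) (Tr.nd (nat_lit 355) (Tr.nd (nat_lit 354) (Tr.lf (Fc.ed (nat_lit 353) (nat_lit 184) Col.g (nat_lit 123) (Dv.wd (nat_lit 9) [Mv.b (nat_lit 234), Mv.f (nat_lit 233), Mv.f (nat_lit 352)]))) (Tr.lf (Fc.ed (nat_lit 354) (nat_lit 129) Col.d (nat_lit 184) (Dv.wd (nat_lit 54) [Mv.f (nat_lit 353), Mv.f (nat_lit 343), Mv.f (nat_lit 247)])))) (Tr.nd (nat_lit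 356) (Tr.lf (Fc.ed (nat_lit 355) (nat_lit 121) Col.g (nat_lit 185) Dv.df)) (Tr.lf (Fc.ed (nat_lit 356) (nat_lit 185) Col.a (nat_lit 122) (Dv.wd (nat_lit 36) [Mv.b (nat_lit 233), Mv.f (nat_lit 232), Mv.f (nat_lit 355)]))))) (Tr.nd (nat_lit 359) (Tr.nd (nat_lit 358) (Tr.lf (Fc.ed (nat_lit 357) (nat_lit 124) Col.b (nat_lit 186) Dv.df)) (Tr.lf (Fc.ed (nat_lit 358) (nat_lit 126) Col.b (nat_lit 187) Dv.df))) (Tr.nd (nat_lit 360) (Tr.lf (Fc.ed (nat_lit 359) (nat_lit 187) Col.g (nat_lit 187) (Dv.wd (nat_lit 7) [Mv.b (nat_lit 358), Mv.f (nat_lit 240), Mv.f (nat_lit 174), Mv.b (nat_lit 240), Mv.f (nat_lit 358)]))) (Tr.nd (nat_lit 361) (Tr.lf (Fc.ed (nat_lit 360) (nat_lit 127) Col.b (nat_lit 188) Dv.df)) (Tr.lf (Fc.ed (nat_lit 361) (nat_lit 127) Col.c (nat_lit 189) Dv.df)))))) (Tr.nd (nat_lit 367) (Tr.nd (nat_lit 364) (Tr.nd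 (nat_lit 363) (Tr.lf (Fc.ed (nat_lit 362) (nat_lit 189) Col.f (nat_lit 129) (Dv.wd (nat_lit 25) [Mv.f (nat_lit 248), Mv.f (nat_lit 242), Mv.f (nat_lit 361)]))) (Tr.lf (Fc.ed (nat_lit 363) (nat_lit 189) Col.g (nat_lit 162) (Dv.wd (nat_lit 9) [Mv.f (nat_lit 345), Mv.b (nat_lit 244), Mv.f (nat_lit 361)])))) (Tr.nd (nat_lit 365) (Tr.lf (Fc.ed (nat_lit 364) (nat_lit 129) Col.b (nat_lit 190) Dv.df)) (Tr.nd (nat_lit 366) (Tr.lf (Fc.ed (nat_lit 365) (nat_lit 128) Col.g (nat_lit 191) Dv.df)) (Tr.lf (Fc.ed (nat_lit 366) (nat_lit 191) Col.a (nat_lit 180) (Dv.wd (nat_lit 36) [Mv.b (nat_lit 350), Mv.f (nat_lit 349), Mv.f (nat_lit 365)])))))) (Tr.nd (nat_lit 369) (Tr.nd (nat_lit 368) (Tr.lf (Fc.ed (nat_lit 367) (nat_lit 191) Col.f (nat_lit 178) (Dv.wd (nat_lit 29) [Mv.f (nat_lit 328), Mv.b (nat_lit 231), Mv.f (nat_lit 245), Mv.f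 (nat_lit 365)]))) (Tr.lf (Fc.ed (nat_lit 368) (nat_lit 132) Col.g (nat_lit 192) Dv.df))) (Tr.nd (nat_lit 370) (Tr.lf (Fc.ed (nat_lit 369) (nat_lit 133) Col.a (nat_lit 193) Dv.df)) (Tr.nd (nat_lit 371) (Tr.lf (Fc.ed (nat_lit 370) (nat_lit 193) Col.g (nat_lit 135) (Dv.wd (nat_lit 8) [Mv.b (nat_lit 256), Mv.f (nat_lit 254), Mv.f (nat_lit 369)]))) (Tr.lf (Fc.ed (nat_lit 371) (nat_lit 193) Col.f (nat_lit 192) (Dv.wd (nat_lit 43) [Mv.b (nat_lit 368), Mv.b (nat_lit 252), Mv.f (nat_lit 254), Mv.f (nat_lit 369)])))))))))) (Tr.nd (nat_lit 409) (Tr.nd (nat_lit 390) (Tr.nd (nat_lit 381) (Tr.nd (nat_lit 376) (Tr.nd (nat_lit 374) (Tr.nd (nat_lit 373) (Tr.lf (Fc.ed (nat_lit 372) (nat_lit 143) Col.b (nat_lit 193) (Dv.wd (nat_lit 55) [Mv.f (nat_lit 371), Mv.b (nat_lit 368), Mv.f (nat_lit 253), Mv.b (nat_lit 176), Mv.f (nat_lit 123),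 Mv.b (nat_lit 103), Mv.f (nat_lit 75), Mv.f (nat_lit 76), Mv.f (nat_lit 37), Mv.f (nat_lit 38), Mv.f (nat_lit 87), Mv.f (nat_lit 127), Mv.f (nat_lit 185), Mv.b (nat_lit 270)]))) (Tr.lf (Fc.ed (nat_lit 373) (nat_lit 135) Col.b (nat_lit 191) (Dv.wd (nat_lit 10) [Mv.b (nat_lit 365), Mv.f (nat_lit 246), Mv.b (nat_lit 270), Mv.f (nat_lit 372), Mv.f (nat_lit 370)])))) (Tr.nd (nat_lit 375) (Tr.lf (Fc.ed (nat_lit 374) (nat_lit 134) Col.a (nat_lit 194) Dv.df)) (Tr.lf (Fc.ed (nat_lit 375) (nat_lit 194) Col.d (nat_lit 136) (Dv.wd (nat_lit 14) [Mv.b (nat_lit 257), Mv.f (nat_lit 255), Mv.f (nat_lit 374)]))))) (Tr.nd (nat_lit 378) (Tr.nd (nat_lit 377) (Tr.lf (Fc.ed (nat_lit 376) (nat_lit 137) Col.g (nat_lit 195) Dv.df)) (Tr.lf (Fc.ed (nat_lit 377) (nat_lit 195) Col.b (nat_lit 169) (Dv.wd (nat_lit 40) [Mv.b (nat_lit 311), Mv.b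 (nat_lit 221), Mv.b (nat_lit 180), Mv.f (nat_lit 259), Mv.f (nat_lit 376)])))) (Tr.nd (nat_lit 379) (Tr.lf (Fc.ed (nat_lit 378) (nat_lit 136) Col.b (nat_lit 196) Dv.df)) (Tr.nd (nat_lit 380) (Tr.lf (Fc.ed (nat_lit 379) (nat_lit 137) Col.c (nat_lit 197) Dv.df)) (Tr.lf (Fc.ed (nat_lit 380) (nat_lit 137) Col.a (nat_lit 198) Dv.df)))))) (Tr.nd (nat_lit 385) (Tr.nd (nat_lit 383) (Tr.nd (nat_lit 382) (Tr.lf (Fc.ed (nat_lit 381) (nat_lit 140) Col.d (nat_lit 199) Dv.df)) (Tr.lf (Fc.ed (nat_lit 382) (nat_lit 199) Col.b (nat_lit 173) (Dv.wd (nat_lit 17) [Mv.b (nat_lit 319), Mv.b (nat_lit 265), Mv.f (nat_lit 381)])))) (Tr.nd (nat_lit 384) (Tr.lf (Fc.ed (nat_lit 383) (nat_lit 142) Col.a (nat_lit 200) Dv.df)) (Tr.lf (Fc.ed (nat_lit 384) (nat_lit 200) Col.b (nat_lit 180) (Dv.wd (nat_lit 42) [Mv.b (nat_lit 366), Mv.b (nat_lit 373),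 Mv.b (nat_lit 256), Mv.b (nat_lit 175), Mv.f (nat_lit 118), Mv.f (nat_lit 127), Mv.f (nat_lit 184), Mv.f (nat_lit 268), Mv.f (nat_lit 383)]))))) (Tr.nd (nat_lit 387) (Tr.nd (nat_lit 386) (Tr.lf (Fc.ed (nat_lit 385) (nat_lit 188) Col.f (nat_lit 200) (Dv.wd (nat_lit 56) [Mv.f (nat_lit 384), Mv.b (nat_lit 331), Mv.f (nat_lit 229), Mv.f (nat_lit 242), Mv.f (nat_lit 360)]))) (Tr.lf (Fc.ed (nat_lit 386) (nat_lit 144) Col.b (nat_lit 201) Dv.df))) (Tr.nd (nat_lit 388) (Tr.lf (Fc.ed (nat_lit 387) (nat_lit 201) Col.g (nat_lit 186) (Dv.wd (nat_lit 7) [Mv.b (nat_lit 357), Mv.b (nat_lit 236), Mv.b (nat_lit 187), Mv.f (nat_lit 271), Mv.f (nat_lit 386)]))) (Tr.nd (nat_lit 389) (Tr.lf (Fc.ed (nat_lit 388) (nat_lit 201) Col.f (nat_lit 195) (Dv.wd (nat_lit 57) [Mv.b (nat_lit 376), Mv.b (nat_lit 259), Mv.b (nat_lit 223), Mv.b (nat_lit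 222), Mv.f (nat_lit 157), Mv.b (nat_lit 156), Mv.b (nat_lit 123), Mv.b (nat_lit 122), Mv.f (nat_lit 117), Mv.f (nat_lit 119), Mv.f (nat_lit 129), Mv.f (nat_lit 186), Mv.f (nat_lit 271), Mv.f (nat_lit 386)]))) (Tr.lf (Fc.ed (nat_lit 389) (nat_lit 198) Col.f (nat_lit 186) (Dv.wd (nat_lit 43) [Mv.b (nat_lit 387), Mv.f (nat_lit 388), Mv.b (nat_lit 376), Mv.f (nat_lit 380)])))))))) (Tr.nd (nat_lit 399) (Tr.nd (nat_lit 394) (Tr.nd (nat_lit 392) (Tr.nd (nat_lit 391) (Tr.lf (Fc.ed (nat_lit 390) (nat_lit 145) Col.c (nat_lit 202) Dv.df)) (Tr.lf (Fc.ed (nat_lit 391) (nat_lit 145) Col.a (nat_lit 203) Dv.df))) (Tr.nd (nat_lit 393) (Tr.lf (Fc.ed (nat_lit 392) (nat_lit 145) Col.g (nat_lit 204) Dv.df)) (Tr.lf (Fc.ed (nat_lit 393) (nat_lit 146) Col.b (nat_lit 205) Dv.df)))) (Tr.nd (nat_lit 396) (Tr.nd (nat_lit 395) (Tr.lf (Fc.ed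 (nat_lit 394) (nat_lit 205) Col.d (nat_lit 158) (Dv.wd (nat_lit 13) [Mv.b (nat_lit 295), Mv.b (nat_lit 275), Mv.f (nat_lit 393)]))) (Tr.lf (Fc.ed (nat_lit 395) (nat_lit 147) Col.a (nat_lit 206) Dv.df))) (Tr.nd (nat_lit 397) (Tr.lf (Fc.ed (nat_lit 396) (nat_lit 206) Col.d (nat_lit 149) (Dv.wd (nat_lit 14) [Mv.b (nat_lit 281), Mv.b (nat_lit 277), Mv.f (nat_lit 395)]))) (Tr.nd (nat_lit 398) (Tr.lf (Fc.ed (nat_lit 397) (nat_lit 206) Col.c (nat_lit 147) (Dv.wd (nat_lit 44) [Mv.f (nat_lit 277), Mv.b (nat_lit 199), Mv.f (nat_lit 200), Mv.f (nat_lit 146), Mv.b (nat_lit 200), Mv.f (nat_lit 199), Mv.b (nat_lit 277), Mv.f (nat_lit 395)]))) (Tr.lf (Fc.ed (nat_lit 398) (nat_lit 149) Col.b (nat_lit 207) Dv.df)))))) (Tr.nd (nat_lit 404) (Tr.nd (nat_lit 401) (Tr.nd (nat_lit 400) (Tr.lf (Fc.ed (nat_lit 399) (nat_lit 150) Col.g (nat_lit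 208) Dv.df)) (Tr.lf (Fc.ed (nat_lit 400) (nat_lit 151) Col.b (nat_lit 209) Dv.df))) (Tr.nd (nat_lit 402) (Tr.lf (Fc.ed (nat_lit 401) (nat_lit 209) Col.d (nat_lit 156) (Dv.wd (nat_lit 13) [Mv.b (nat_lit 293), Mv.b (nat_lit 286), Mv.f (nat_lit 400)]))) (Tr.nd (nat_lit 403) (Tr.lf (Fc.ed (nat_lit 402) (nat_lit 152) Col.g (nat_lit 210) Dv.df)) (Tr.lf (Fc.ed (nat_lit 403) (nat_lit 210) Col.a (nat_lit 184) (Dv.wd (nat_lit 36) [Mv.f (nat_lit 353), Mv.b (nat_lit 336), Mv.f (nat_lit 402)])))))) (Tr.nd (nat_lit 406) (Tr.nd (nat_lit 405) (Tr.lf (Fc.ed (nat_lit 404) (nat_lit 210) Col.d (nat_lit 159) (Dv.wd (nat_lit 12) [Mv.b (nat_lit 296), Mv.b (nat_lit 289), Mv.f (nat_lit 402)]))) (Tr.lf (Fc.ed (nat_lit 405) (nat_lit 153) Col.f (nat_lit 211) Dv.df))) (Tr.nd (nat_lit 407) (Tr.lf (Fc.ed (nat_lit 406) (nat_lit 211) Col.b (nat_lit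 162) (Dv.wd (nat_lit 39) [Mv.b (nat_lit 299), Mv.b (nat_lit 211), Mv.b (nat_lit 205), Mv.f (nat_lit 290), Mv.f (nat_lit 405)]))) (Tr.nd (nat_lit 408) (Tr.lf (Fc.ed (nat_lit 407) (nat_lit 154) Col.g (nat_lit 212) Dv.df)) (Tr.lf (Fc.ed (nat_lit 408) (nat_lit 212) Col.c (nat_lit 155) (Dv.wd (nat_lit 11) [Mv.b (nat_lit 292), Mv.f (nat_lit 291), Mv.f (nat_lit 407)]))))))))) (Tr.nd (nat_lit 428) (Tr.nd (nat_lit 418) (Tr.nd (nat_lit 413) (Tr.nd (nat_lit 411) (Tr.nd (nat_lit 410) (Tr.lf (Fc.ed (nat_lit 409) (nat_lit 154) Col.a (nat_lit 213) Dv.df)) (Tr.lf (Fc.ed (nat_lit 410) (nat_lit 213) Col.c (nat_lit 157) (Dv.wd (nat_lit 20) [Mv.b (nat_lit 294), Mv.f (nat_lit 291), Mv.f (nat_lit 409)])))) (Tr.nd (nat_lit 412) (Tr.lf (Fc.ed (nat_lit 411) (nat_lit 155) Col.a (nat_lit 214) Dv.df)) (Tr.lf (Fc.ed (nat_lit 412) (nat_lit 214)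 Col.g (nat_lit 157) (Dv.wd (nat_lit 8) [Mv.b (nat_lit 294), Mv.f (nat_lit 292), Mv.f (nat_lit 411)]))))) (Tr.nd (nat_lit 415) (Tr.nd (nat_lit 414) (Tr.lf (Fc.ed (nat_lit 413) (nat_lit 155) Col.b (nat_lit 215) Dv.df)) (Tr.lf (Fc.ed (nat_lit 414) (nat_lit 215) Col.g (nat_lit 158) (Dv.wd (nat_lit 7) [Mv.b (nat_lit 295), Mv.b (nat_lit 209), Mv.f (nat_lit 206), Mv.f (nat_lit 292), Mv.f (nat_lit 413)])))) (Tr.nd (nat_lit 416) (Tr.lf (Fc.ed (nat_lit 415) (nat_lit 156) Col.a (nat_lit 216) Dv.df)) (Tr.nd (nat_lit 417) (Tr.lf (Fc.ed (nat_lit 416) (nat_lit 156) Col.c (nat_lit 217) Dv.df)) (Tr.lf (Fc.ed (nat_lit 417) (nat_lit 156) Col.g (nat_lit 218) Dv.df)))))) (Tr.nd (nat_lit 423) (Tr.nd (nat_lit 420) (Tr.nd (nat_lit 419) (Tr.lf (Fc.ed (nat_lit 418) (nat_lit 218) Col.b (nat_lit 159) (Dv.wd (nat_lit 40) [Mv.b (nat_lit 296),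 Mv.b (nat_lit 211), Mv.f (nat_lit 207), Mv.f (nat_lit 293), Mv.f (nat_lit 417)]))) (Tr.lf (Fc.ed (nat_lit 419) (nat_lit 158) Col.a (nat_lit 219) Dv.df))) (Tr.nd (nat_lit 421) (Tr.lf (Fc.ed (nat_lit 420) (nat_lit 158) Col.f (nat_lit 220) Dv.df)) (Tr.nd (nat_lit 422) (Tr.lf (Fc.ed (nat_lit 421) (nat_lit 158) Col.c (nat_lit 221) Dv.df)) (Tr.lf (Fc.ed (nat_lit 422) (nat_lit 221) Col.b (nat_lit 197) (Dv.wd (nat_lit 16) [Mv.b (nat_lit 379), Mv.b (nat_lit 259), Mv.b (nat_lit 210), Mv.f (nat_lit 295), Mv.f (nat_lit 421)])))))) (Tr.nd (nat_lit 425) (Tr.nd (nat_lit 424) (Tr.lf (Fc.ed (nat_lit 423) (nat_lit 163) Col.c (nat_lit 222) Dv.df)) (Tr.lf (Fc.ed (nat_lit 424) (nat_lit 222) Col.d (nat_lit 181) (Dv.wd (nat_lit 34) [Mv.b (nat_lit 334), Mv.f (nat_lit 307), Mv.b (nat_lit 305), Mv.b (nat_lit 216), Mv.f (nat_lit 149), Mv.f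 (nat_lit 216), Mv.b (nat_lit 301), Mv.f (nat_lit 423)])))) (Tr.nd (nat_lit 426) (Tr.lf (Fc.ed (nat_lit 425) (nat_lit 177) Col.b (nat_lit 222) (Dv.wd (nat_lit 46) [Mv.f (nat_lit 424), Mv.b (nat_lit 332), Mv.b (nat_lit 326)]))) (Tr.nd (nat_lit 427) (Tr.lf (Fc.ed (nat_lit 426) (nat_lit 163) Col.b (nat_lit 223) Dv.df)) (Tr.lf (Fc.ed (nat_lit 427) (nat_lit 223) Col.d (nat_lit 164) (Dv.wd (nat_lit 13) [Mv.b (nat_lit 302), Mv.f (nat_lit 300), Mv.f (nat_lit 426)])))))))) (Tr.nd (nat_lit 437) (Tr.nd (nat_lit 432) (Tr.nd (nat_lit 430) (Tr.nd (nat_lit 429) (Tr.lf (Fc.ed (nat_lit 428) (nat_lit 223) Col.c (nat_lit 199) (Dv.wd (nat_lit 35) [Mv.f (nat_lit 382), Mv.b (nat_lit 344), Mv.f (nat_lit 425), Mv.b (nat_lit 423), Mv.f (nat_lit 426)]))) (Tr.lf (Fc.ed (nat_lit 429) (nat_lit 168) Col.c (nat_lit 164) (Dv.wd (nat_lit 44) [Mv.b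 (nat_lit 427), Mv.f (nat_lit 428), Mv.b (nat_lit 381), Mv.b (nat_lit 264), Mv.f (nat_lit 266), Mv.b (nat_lit 318), Mv.f (nat_lit 309), Mv.f (nat_lit 310)])))) (Tr.nd (nat_lit 431) (Tr.lf (Fc.ed (nat_lit 430) (nat_lit 170) Col.a (nat_lit 164) (Dv.wd (nat_lit 58) [Mv.b (nat_lit 427), Mv.f (nat_lit 428), Mv.b (nat_lit 381), Mv.b (nat_lit 264), Mv.f (nat_lit 266), Mv.b (nat_lit 318), Mv.f (nat_lit 309), Mv.f (nat_lit 312)]))) (Tr.lf (Fc.al (nat_lit 431) (nat_lit 203) (nat_lit 154) (Dv.wd (nat_lit 59) [Mv.b (nat_lit 313), Mv.f (nat_lit 430), Mv.b (nat_lit 302), Mv.b (nat_lit 218), Mv.b (nat_lit 148), Mv.f (nat_lit 101), Mv.f (nat_lit 130), Mv.f (nat_lit 190), Mv.f (nat_lit 272), Mv.f (nat_lit 391)]))))) (Tr.nd (nat_lit 434) (Tr.nd (nat_lit 433) (Tr.lf (Fc.al (nat_lit 432) (nat_lit 213) (nat_lit 145) (Dv.wd (nat_lit 27)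 [Mv.f (nat_lit 391), Mv.f (nat_lit 431), Mv.f (nat_lit 409)]))) (Tr.lf (Fc.al (nat_lit 433) (nat_lit 202) (nat_lit 157) (Dv.wd (nat_lit 50) [Mv.b (nat_lit 410), Mv.f (nat_lit 432), Mv.f (nat_lit 390)])))) (Tr.nd (nat_lit 435) (Tr.lf (Fc.ed (nat_lit 434) (nat_lit 157) Col.c (nat_lit 145) (Dv.wd (nat_lit 50) [Mv.f (nat_lit 390), Mv.f (nat_lit 433)]))) (Tr.nd (nat_lit 436) (Tr.lf (Fc.ed (nat_lit 435) (nat_lit 204) Col.c (nat_lit 214) (Dv.wd (nat_lit 53) [Mv.f (nat_lit 412), Mv.f (nat_lit 434), Mv.f (nat_lit 392)]))) (Tr.lf (Fc.ed (nat_lit 436) (nat_lit 212) Col.a (nat_lit 204) (Dv.wd (nat_lit 31) [Mv.f (nat_lit 435), Mv.b (nat_lit 411), Mv.b (nat_lit 408)]))))))) (Tr.nd (nat_lit 442) (Tr.nd (nat_lit 439) (Tr.nd (nat_lit 438) (Tr.lf (Fc.ed (nat_lit 437) (nat_lit 164) Col.g (nat_lit 224) Dv.df)) (Tr.lf (Fc.ed (nat_lit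 438) (nat_lit 165) Col.c (nat_lit 225) Dv.df))) (Tr.nd (nat_lit 440) (Tr.lf (Fc.ed (nat_lit 439) (nat_lit 225) Col.g (nat_lit 166) (Dv.wd (nat_lit 9) [Mv.b (nat_lit 305), Mv.f (nat_lit 303), Mv.f (nat_lit 438)]))) (Tr.nd (nat_lit 441) (Tr.lf (Fc.ed (nat_lit 440) (nat_lit 208) Col.d (nat_lit 225) (Dv.wd (nat_lit 54) [Mv.f (nat_lit 439), Mv.b (nat_lit 307), Mv.f (nat_lit 399)]))) (Tr.lf (Fc.ed (nat_lit 441) (nat_lit 168) Col.g (nat_lit 226) Dv.df))))) (Tr.nd (nat_lit 444) (Tr.nd (nat_lit 443) (Tr.lf (Fc.ed (nat_lit 442) (nat_lit 226) Col.a (nat_lit 169) (Dv.wd (nat_lit 36) [Mv.b (nat_lit 311), Mv.f (nat_lit 310), Mv.f (nat_lit 441)]))) (Tr.lf (Fc.ed (nat_lit 443) (nat_lit 226) Col.c (nat_lit 224) (Dv.wd (nat_lit 11) [Mv.b (nat_lit 437), Mv.b (nat_lit 429), Mv.f (nat_lit 441)])))) (Tr.nd (nat_lit 445) (Tr.lf (Fc.ed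 (nat_lit 444) (nat_lit 169) Col.c (nat_lit 227) Dv.df)) (Tr.nd (nat_lit 446) (Tr.lf (Fc.ed (nat_lit 445) (nat_lit 227) Col.a (nat_lit 224) (Dv.wd (nat_lit 15) [Mv.b (nat_lit 443), Mv.f (nat_lit 442), Mv.f (nat_lit 444)]))) (Tr.lf (Fc.ed (nat_lit 446) (nat_lit 227) Col.g (nat_lit 170) (Dv.wd (nat_lit 9) [Mv.b (nat_lit 312), Mv.f (nat_lit 311), Mv.f (nat_lit 444)]))))))))))) (Tr.nd (nat_lit 522) (Tr.nd (nat_lit 484) (Tr.nd (nat_lit 465) (Tr.nd (nat_lit 456) (Tr.nd (nat_lit 451) (Tr.nd (nat_lit 449) (Tr.nd (nat_lit 448) (Tr.lf (Fc.ed (nat_lit 447) (nat_lit 171) Col.b (nat_lit 228) Dv.df)) (Tr.lf (Fc.ed (nat_lit 448) (nat_lit 228) Col.g (nat_lit 200) (Dv.wd (nat_lit 60) [Mv.b (nat_lit 385), Mv.b (nat_lit 360), Mv.f (nat_lit 244), Mv.f (nat_lit 238), Mv.f (nat_lit 174), Mv.b (nat_lit 240), Mv.f (nat_lit 241), Mv.f (nat_lit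 357), Mv.b (nat_lit 387), Mv.f (nat_lit 388), Mv.f (nat_lit 377), Mv.b (nat_lit 311), Mv.f (nat_lit 314), Mv.f (nat_lit 447)])))) (Tr.nd (nat_lit 450) (Tr.lf (Fc.ed (nat_lit 449) (nat_lit 171) Col.g (nat_lit 229) Dv.df)) (Tr.lf (Fc.ed (nat_lit 450) (nat_lit 229) Col.f (nat_lit 226) (Dv.wd (nat_lit 29) [Mv.b (nat_lit 441), Mv.b (nat_lit 310), Mv.f (nat_lit 314), Mv.f (nat_lit 449)]))))) (Tr.nd (nat_lit 453) (Tr.nd (nat_lit 452) (Tr.lf (Fc.ed (nat_lit 451) (nat_lit 229) Col.b (nat_lit 182) (Dv.wd (nat_lit 40) [Mv.f (nat_lit 350), Mv.b (nat_lit 384), Mv.b (nat_lit 448), Mv.b (nat_lit 447), Mv.f (nat_lit 449)]))) (Tr.lf (Fc.ed (nat_lit 452) (nat_lit 174) Col.b (nat_lit 230) Dv.df))) (Tr.nd (nat_lit 454) (Tr.lf (Fc.ed (nat_lit 453) (nat_lit 174) Col.c (nat_lit 231) Dv.df)) (Tr.nd (nat_lit 455) (Tr.lf (Fc.ed (nat_lit 454)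 (nat_lit 231) Col.a (nat_lit 175) (Dv.wd (nat_lit 15) [Mv.b (nat_lit 321), Mv.f (nat_lit 320), Mv.f (nat_lit 453)]))) (Tr.lf (Fc.ed (nat_lit 455) (nat_lit 174) Col.g (nat_lit 232) Dv.df)))))) (Tr.nd (nat_lit 460) (Tr.nd (nat_lit 458) (Tr.nd (nat_lit 457) (Tr.lf (Fc.ed (nat_lit 456) (nat_lit 232) Col.a (nat_lit 176) (Dv.wd (nat_lit 36) [Mv.b (nat_lit 323), Mv.f (nat_lit 320), Mv.f (nat_lit 455)]))) (Tr.lf (Fc.ed (nat_lit 457) (nat_lit 178) Col.b (nat_lit 233) Dv.df))) (Tr.nd (nat_lit 459) (Tr.lf (Fc.ed (nat_lit 458) (nat_lit 233) Col.g (nat_lit 198) (Dv.wd (nat_lit 60) [Mv.f (nat_lit 389), Mv.b (nat_lit 357), Mv.b (nat_lit 236), Mv.b (nat_lit 170), Mv.b (nat_lit 116), Mv.f (nat_lit 111), Mv.f (nat_lit 113), Mv.f (nat_lit 127), Mv.f (nat_lit 128), Mv.f (nat_lit 185), Mv.b (nat_lit 246), Mv.f (nat_lit 365), Mv.f (nat_lit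 367), Mv.f (nat_lit 457)]))) (Tr.lf (Fc.ed (nat_lit 459) (nat_lit 195) Col.a (nat_lit 233) (Dv.wd (nat_lit 28) [Mv.f (nat_lit 458), Mv.b (nat_lit 380), Mv.f (nat_lit 376)]))))) (Tr.nd (nat_lit 462) (Tr.nd (nat_lit 461) (Tr.lf (Fc.ed (nat_lit 460) (nat_lit 179) Col.b (nat_lit 234) Dv.df)) (Tr.lf (Fc.ed (nat_lit 461) (nat_lit 234) Col.c (nat_lit 190) (Dv.wd (nat_lit 35) [Mv.b (nat_lit 364), Mv.f (nat_lit 248), Mv.b (nat_lit 229), Mv.f (nat_lit 329), Mv.f (nat_lit 460)])))) (Tr.nd (nat_lit 463) (Tr.lf (Fc.ed (nat_lit 462) (nat_lit 183) Col.g (nat_lit 235) Dv.df)) (Tr.nd (nat_lit 464) (Tr.lf (Fc.ed (nat_lit 463) (nat_lit 235) Col.b (nat_lit 198) (Dv.wd (nat_lit 40) [Mv.b (nat_lit 458), Mv.b (nat_lit 457), Mv.f (nat_lit 328), Mv.f (nat_lit 351), Mv.f (nat_lit 462)]))) (Tr.lf (Fc.ed (nat_lit 464) (nat_lit 187) Col.f (nat_lit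 235) (Dv.wd (nat_lit 56) [Mv.f (nat_lit 463), Mv.f (nat_lit 389), Mv.b (nat_lit 357), Mv.b (nat_lit 241), Mv.f (nat_lit 358)])))))))) (Tr.nd (nat_lit 474) (Tr.nd (nat_lit 469) (Tr.nd (nat_lit 467) (Tr.nd (nat_lit 466) (Tr.lf (Fc.ed (nat_lit 465) (nat_lit 183) Col.a (nat_lit 235) (Dv.wd (nat_lit 61) [Mv.f (nat_lit 463), Mv.b (nat_lit 380), Mv.b (nat_lit 259), Mv.b (nat_lit 179), Mv.b (nat_lit 122), Mv.b (nat_lit 112), Mv.f (nat_lit 168), Mv.f (nat_lit 231), Mv.f (nat_lit 351)]))) (Tr.lf (Fc.ed (nat_lit 466) (nat_lit 183) Col.c (nat_lit 236) Dv.df))) (Tr.nd (nat_lit 468) (Tr.lf (Fc.ed (nat_lit 467) (nat_lit 183) Col.f (nat_lit 237) Dv.df)) (Tr.lf (Fc.ed (nat_lit 468) (nat_lit 237) Col.b (nat_lit 226) (Dv.wd (nat_lit 39) [Mv.b (nat_lit 450), Mv.f (nat_lit 451), Mv.b (nat_lit 348), Mv.f (nat_lit 351), Mv.f (nat_lit 467)])))))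 (Tr.nd (nat_lit 471) (Tr.nd (nat_lit 470) (Tr.lf (Fc.ed (nat_lit 469) (nat_lit 181) Col.g (nat_lit 238) Dv.df)) (Tr.lf (Fc.ed (nat_lit 470) (nat_lit 238) Col.a (nat_lit 208) (Dv.wd (nat_lit 36) [Mv.b (nat_lit 399), Mv.b (nat_lit 333), Mv.f (nat_lit 469)])))) (Tr.nd (nat_lit 472) (Tr.lf (Fc.ed (nat_lit 471) (nat_lit 238) Col.c (nat_lit 208) (Dv.wd (nat_lit 11) [Mv.b (nat_lit 399), Mv.f (nat_lit 334), Mv.f (nat_lit 469)]))) (Tr.nd (nat_lit 473) (Tr.lf (Fc.ed (nat_lit 472) (nat_lit 185) Col.b (nat_lit 239) Dv.df)) (Tr.lf (Fc.ed (nat_lit 473) (nat_lit 184) Col.b (nat_lit 240) Dv.df)))))) (Tr.nd (nat_lit 479) (Tr.nd (nat_lit 476) (Tr.nd (nat_lit 475) (Tr.lf (Fc.ed (nat_lit 474) (nat_lit 240) Col.d (nat_lit 190) (Dv.wd (nat_lit 13) [Mv.b (nat_lit 364), Mv.f (nat_lit 354), Mv.f (nat_lit 473)]))) (Tr.lf (Fc.ed (nat_lit 475)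 (nat_lit 240) Col.g (nat_lit 190) (Dv.wd (nat_lit 7) [Mv.b (nat_lit 364), Mv.b (nat_lit 247), Mv.b (nat_lit 235), Mv.b (nat_lit 353), Mv.f (nat_lit 473)])))) (Tr.nd (nat_lit 477) (Tr.lf (Fc.ed (nat_lit 476) (nat_lit 186) Col.c (nat_lit 241) Dv.df)) (Tr.nd (nat_lit 478) (Tr.lf (Fc.ed (nat_lit 477) (nat_lit 187) Col.c (nat_lit 242) Dv.df)) (Tr.lf (Fc.ed (nat_lit 478) (nat_lit 242) Col.g (nat_lit 242) (Dv.wd (nat_lit 9) [Mv.b (nat_lit 477), Mv.f (nat_lit 359), Mv.f (nat_lit 477)])))))) (Tr.nd (nat_lit 481) (Tr.nd (nat_lit 480) (Tr.lf (Fc.ed (nat_lit 479) (nat_lit 189) Col.b (nat_lit 243) Dv.df)) (Tr.lf (Fc.ed (nat_lit 480) (nat_lit 190) Col.a (nat_lit 244) Dv.df))) (Tr.nd (nat_lit 482) (Tr.lf (Fc.ed (nat_lit 481) (nat_lit 190) Col.f (nat_lit 245) Dv.df)) (Tr.nd (nat_lit 483) (Tr.lf (Fc.ed (nat_lit 482) (nat_lit 195)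 Col.c (nat_lit 246) Dv.df)) (Tr.lf (Fc.ed (nat_lit 483) (nat_lit 246) Col.g (nat_lit 197) (Dv.wd (nat_lit 9) [Mv.b (nat_lit 379), Mv.f (nat_lit 376), Mv.f (nat_lit 482)]))))))))) (Tr.nd (nat_lit 503) (Tr.nd (nat_lit 493) (Tr.nd (nat_lit 488) (Tr.nd (nat_lit 486) (Tr.nd (nat_lit 485) (Tr.lf (Fc.ed (nat_lit 484) (nat_lit 196) Col.a (nat_lit 247) Dv.df)) (Tr.lf (Fc.ed (nat_lit 485) (nat_lit 196) Col.g (nat_lit 248) Dv.df))) (Tr.nd (nat_lit 487) (Tr.lf (Fc.ed (nat_lit 486) (nat_lit 248) Col.b (nat_lit 204) (Dv.wd (nat_lit 40) [Mv.b (nat_lit 392), Mv.b (nat_lit 272), Mv.b (nat_lit 258), Mv.f (nat_lit 378), Mv.f (nat_lit 485)]))) (Tr.lf (Fc.ed (nat_lit 487) (nat_lit 196) Col.c (nat_lit 249) Dv.df)))) (Tr.nd (nat_lit 490) (Tr.nd (nat_lit 489) (Tr.lf (Fc.ed (nat_lit 488) (nat_lit 198) Col.c (nat_lit 250) Dv.df)) (Tr.lf (Fc.ed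 (nat_lit 489) (nat_lit 250) Col.a (nat_lit 197) (Dv.wd (nat_lit 15) [Mv.b (nat_lit 379), Mv.f (nat_lit 380), Mv.f (nat_lit 488)])))) (Tr.nd (nat_lit 491) (Tr.lf (Fc.ed (nat_lit 490) (nat_lit 250) Col.f (nat_lit 241) (Dv.wd (nat_lit 25) [Mv.b (nat_lit 476), Mv.b (nat_lit 389), Mv.f (nat_lit 488)]))) (Tr.nd (nat_lit 492) (Tr.lf (Fc.ed (nat_lit 491) (nat_lit 205) Col.c (nat_lit 251) Dv.df)) (Tr.lf (Fc.ed (nat_lit 492) (nat_lit 251) Col.b (nat_lit 249) (Dv.wd (nat_lit 16) [Mv.b (nat_lit 487), Mv.b (nat_lit 378), Mv.b (nat_lit 274), Mv.f (nat_lit 393), Mv.f (nat_lit 491)]))))))) (Tr.nd (nat_lit 498) (Tr.nd (nat_lit 495) (Tr.nd (nat_lit 494) (Tr.lf (Fc.ed (nat_lit 493) (nat_lit 205) Col.a (nat_lit 252) Dv.df)) (Tr.lf (Fc.ed (nat_lit 494) (nat_lit 252) Col.d (nat_lit 219) (Dv.wd (nat_lit 14) [Mv.b (nat_lit 419), Mv.b (nat_lit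 394), Mv.f (nat_lit 493)])))) (Tr.nd (nat_lit 496) (Tr.lf (Fc.ed (nat_lit 495) (nat_lit 205) Col.g (nat_lit 253) Dv.df)) (Tr.nd (nat_lit 497) (Tr.lf (Fc.ed (nat_lit 496) (nat_lit 206) Col.b (nat_lit 254) Dv.df)) (Tr.lf (Fc.ed (nat_lit 497) (nat_lit 254) Col.d (nat_lit 207) (Dv.wd (nat_lit 13) [Mv.b (nat_lit 398), Mv.b (nat_lit 396), Mv.f (nat_lit 496)])))))) (Tr.nd (nat_lit 500) (Tr.nd (nat_lit 499) (Tr.lf (Fc.ed (nat_lit 498) (nat_lit 207) Col.a (nat_lit 255) Dv.df)) (Tr.lf (Fc.ed (nat_lit 499) (nat_lit 207) Col.g (nat_lit 256) Dv.df))) (Tr.nd (nat_lit 501) (Tr.lf (Fc.ed (nat_lit 500) (nat_lit 256) Col.b (nat_lit 208) (Dv.wd (nat_lit 40) [Mv.b (nat_lit 399), Mv.b (nat_lit 283), Mv.b (nat_lit 282), Mv.f (nat_lit 398), Mv.f (nat_lit 499)]))) (Tr.nd (nat_lit 502) (Tr.lf (Fc.ed (nat_lit 501) (nat_lit 207) Col.c (nat_lit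 257) Dv.df)) (Tr.lf (Fc.ed (nat_lit 502) (nat_lit 209) Col.g (nat_lit 258) Dv.df))))))) (Tr.nd (nat_lit 512) (Tr.nd (nat_lit 507) (Tr.nd (nat_lit 505) (Tr.nd (nat_lit 504) (Tr.lf (Fc.ed (nat_lit 503) (nat_lit 258) Col.d (nat_lit 218) (Dv.wd (nat_lit 12) [Mv.b (nat_lit 417), Mv.b (nat_lit 401), Mv.f (nat_lit 502)]))) (Tr.lf (Fc.ed (nat_lit 504) (nat_lit 258) Col.b (nat_lit 210) (Dv.wd (nat_lit 40) [Mv.b (nat_lit 402), Mv.b (nat_lit 288), Mv.b (nat_lit 287), Mv.f (nat_lit 400), Mv.f (nat_lit 502)])))) (Tr.nd (nat_lit 506) (Tr.lf (Fc.ed (nat_lit 505) (nat_lit 209) Col.c (nat_lit 259) Dv.df)) (Tr.lf (Fc.ed (nat_lit 506) (nat_lit 259) Col.b (nat_lit 257) (Dv.wd (nat_lit 16) [Mv.b (nat_lit 501), Mv.b (nat_lit 398), Mv.b (nat_lit 285), Mv.f (nat_lit 400), Mv.f (nat_lit 505)]))))) (Tr.nd (nat_lit 509) (Tr.nd (nat_lit 508)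 (Tr.lf (Fc.ed (nat_lit 507) (nat_lit 209) Col.a (nat_lit 260) Dv.df)) (Tr.lf (Fc.ed (nat_lit 508) (nat_lit 260) Col.d (nat_lit 216) (Dv.wd (nat_lit 14) [Mv.b (nat_lit 415), Mv.b (nat_lit 401), Mv.f (nat_lit 507)])))) (Tr.nd (nat_lit 510) (Tr.lf (Fc.ed (nat_lit 509) (nat_lit 211) Col.g (nat_lit 261) Dv.df)) (Tr.nd (nat_lit 511) (Tr.lf (Fc.ed (nat_lit 510) (nat_lit 212) Col.b (nat_lit 262) Dv.df)) (Tr.lf (Fc.ed (nat_lit 511) (nat_lit 215) Col.f (nat_lit 263) Dv.df)))))) (Tr.nd (nat_lit 517) (Tr.nd (nat_lit 514) (Tr.nd (nat_lit 513) (Tr.lf (Fc.ed (nat_lit 512) (nat_lit 263) Col.b (nat_lit 261) (Dv.wd (nat_lit 62) [Mv.b (nat_lit 509), Mv.b (nat_lit 405), Mv.b (nat_lit 290), Mv.b (nat_lit 215), Mv.b (nat_lit 214), Mv.f (nat_lit 147), Mv.b (nat_lit 145), Mv.f (nat_lit 140), Mv.b (nat_lit 144), Mv.f (nat_lit 212), Mv.f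 (nat_lit 213), Mv.f (nat_lit 295), Mv.b (nat_lit 414), Mv.f (nat_lit 511)]))) (Tr.lf (Fc.ed (nat_lit 513) (nat_lit 243) Col.g (nat_lit 263) (Dv.wd (nat_lit 63) [Mv.f (nat_lit 512), Mv.b (nat_lit 509), Mv.f (nat_lit 406), Mv.b (nat_lit 363), Mv.f (nat_lit 479)])))) (Tr.nd (nat_lit 515) (Tr.lf (Fc.ed (nat_lit 514) (nat_lit 219) Col.f (nat_lit 243) (Dv.wd (nat_lit 43) [Mv.f (nat_lit 513), Mv.b (nat_lit 511), Mv.f (nat_lit 414), Mv.f (nat_lit 419)]))) (Tr.nd (nat_lit 516) (Tr.lf (Fc.ed (nat_lit 515) (nat_lit 220) Col.a (nat_lit 243) (Dv.wd (nat_lit 64) [Mv.f (nat_lit 513), Mv.b (nat_lit 511), Mv.f (nat_lit 414), Mv.f (nat_lit 420)]))) (Tr.lf (Fc.ed (nat_lit 516) (nat_lit 242) Col.f (nat_lit 244) (Dv.wd (nat_lit 65) [Mv.b (nat_lit 480), Mv.b (nat_lit 364), Mv.f (nat_lit 248), Mv.f (nat_lit 242), Mv.f (nat_lit 243), Mv.f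 (nat_lit 357), Mv.f (nat_lit 476), Mv.b (nat_lit 490), Mv.f (nat_lit 489), Mv.b (nat_lit 422), Mv.b (nat_lit 421), Mv.f (nat_lit 420), Mv.f (nat_lit 515), Mv.b (nat_lit 479), Mv.b (nat_lit 361), Mv.b (nat_lit 242), Mv.f (nat_lit 239), Mv.f (nat_lit 358), Mv.f (nat_lit 477)])))))) (Tr.nd (nat_lit 519) (Tr.nd (nat_lit 518) (Tr.lf (Fc.ed (nat_lit 517) (nat_lit 244) Col.c (nat_lit 235) (Dv.wd (nat_lit 33) [Mv.b (nat_lit 464), Mv.f (nat_lit 477), Mv.f (nat_lit 516)]))) (Tr.lf (Fc.al (nat_lit 518) (nat_lit 244) (nat_lit 240) (Dv.wd (nat_lit 22) [Mv.f (nat_lit 475), Mv.f (nat_lit 480), Mv.b (nat_lit 516), Mv.f (nat_lit 478), Mv.f (nat_lit 516)])))) (Tr.nd (nat_lit 520) (Tr.lf (Fc.ed (nat_lit 519) (nat_lit 240) Col.a (nat_lit 190) (Dv.wd (nat_lit 27) [Mv.f (nat_lit 480), Mv.f (nat_lit 518)]))) (Tr.nd (nat_lit 521) (Tr.lf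 (Fc.ed (nat_lit 520) (nat_lit 240) Col.c (nat_lit 235) (Dv.wd (nat_lit 50) [Mv.b (nat_lit 517), Mv.f (nat_lit 518)]))) (Tr.lf (Fc.ed (nat_lit 521) (nat_lit 240) Col.f (nat_lit 242) (Dv.wd (nat_lit 66) [Mv.f (nat_lit 516), Mv.f (nat_lit 518)])))))))))) (Tr.nd (nat_lit 559) (Tr.nd (nat_lit 540) (Tr.nd (nat_lit 531) (Tr.nd (nat_lit 526) (Tr.nd (nat_lit 524) (Tr.nd (nat_lit 523) (Tr.lf (Fc.ed (nat_lit 522) (nat_lit 242) Col.d (nat_lit 245) (Dv.wd (nat_lit 67) [Mv.b (nat_lit 481), Mv.b (nat_lit 474), Mv.f (nat_lit 521)]))) (Tr.lf (Fc.al (nat_lit 523) (nat_lit 236) (nat_lit 190) (Dv.wd (nat_lit 31) [Mv.b (nat_lit 519), Mv.f (nat_lit 520), Mv.b (nat_lit 465), Mv.f (nat_lit 466)])))) (Tr.nd (nat_lit 525) (Tr.lf (Fc.al (nat_lit 524) (nat_lit 234) (nat_lit 183) (Dv.wd (nat_lit 50) [Mv.f (nat_lit 466), Mv.f (nat_lit 523), Mv.b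 (nat_lit 461)]))) (Tr.lf (Fc.al (nat_lit 525) (nat_lit 120) (nat_lit 179) (Dv.wd (nat_lit 68) [Mv.f (nat_lit 460), Mv.f (nat_lit 524), Mv.b (nat_lit 351)]))))) (Tr.nd (nat_lit 528) (Tr.nd (nat_lit 527) (Tr.lf (Fc.ed (nat_lit 526) (nat_lit 183) Col.c (nat_lit 190) (Dv.wd (nat_lit 50) [Mv.b (nat_lit 461), Mv.f (nat_lit 524)]))) (Tr.lf (Fc.al (nat_lit 527) (nat_lit 178) (nat_lit 119) (Dv.wd (nat_lit 69) [Mv.b (nat_lit 330), Mv.b (nat_lit 525), Mv.b (nat_lit 328)])))) (Tr.nd (nat_lit 529) (Tr.lf (Fc.ed (nat_lit 528) (nat_lit 119) Col.a (nat_lit 118) (Dv.wd (nat_lit 27) [Mv.f (nat_lit 327), Mv.f (nat_lit 527)]))) (Tr.nd (nat_lit 530) (Tr.lf (Fc.al (nat_lit 529) (nat_lit 175) (nat_lit 233) (Dv.wd (nat_lit 68) [Mv.b (nat_lit 457), Mv.f (nat_lit 527), Mv.b (nat_lit 322)]))) (Tr.lf (Fc.al (nat_lit 530) (nat_lit 231) (nat_lit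 195) (Dv.wd (nat_lit 27) [Mv.f (nat_lit 459), Mv.b (nat_lit 529), Mv.b (nat_lit 454)]))))))) (Tr.nd (nat_lit 535) (Tr.nd (nat_lit 533) (Tr.nd (nat_lit 532) (Tr.lf (Fc.al (nat_lit 531) (nat_lit 246) (nat_lit 174) (Dv.wd (nat_lit 50) [Mv.f (nat_lit 453), Mv.f (nat_lit 530), Mv.f (nat_lit 482)]))) (Tr.lf (Fc.al (nat_lit 532) (nat_lit 232) (nat_lit 197) (Dv.wd (nat_lit 69) [Mv.b (nat_lit 483), Mv.f (nat_lit 531), Mv.f (nat_lit 455)])))) (Tr.nd (nat_lit 534) (Tr.lf (Fc.ed (nat_lit 533) (nat_lit 197) Col.a (nat_lit 176) (Dv.wd (nat_lit 27) [Mv.b (nat_lit 456), Mv.f (nat_lit 532)]))) (Tr.lf (Fc.ed (nat_lit 534) (nat_lit 245) Col.c (nat_lit 237) (Dv.wd (nat_lit 52) [Mv.b (nat_lit 467), Mv.f (nat_lit 526), Mv.f (nat_lit 481)]))))) (Tr.nd (nat_lit 537) (Tr.nd (nat_lit 536) (Tr.lf (Fc.ed (nat_lit 535) (nat_lit 245) Col.b (nat_lit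 219) (Dv.wd (nat_lit 70) [Mv.f (nat_lit 514), Mv.b (nat_lit 479), Mv.f (nat_lit 362), Mv.f (nat_lit 364), Mv.f (nat_lit 481)]))) (Tr.lf (Fc.ed (nat_lit 536) (nat_lit 252) Col.b (nat_lit 242) (Dv.wd (nat_lit 46) [Mv.f (nat_lit 522), Mv.f (nat_lit 535), Mv.b (nat_lit 494)])))) (Tr.nd (nat_lit 538) (Tr.lf (Fc.ed (nat_lit 537) (nat_lit 218) Col.c (nat_lit 252) (Dv.wd (nat_lit 71) [Mv.f (nat_lit 536), Mv.b (nat_lit 477), Mv.b (nat_lit 358), Mv.b (nat_lit 346), Mv.b (nat_lit 418)]))) (Tr.nd (nat_lit 539) (Tr.lf (Fc.ed (nat_lit 538) (nat_lit 251) Col.a (nat_lit 218) (Dv.wd (nat_lit 31) [Mv.f (nat_lit 537), Mv.b (nat_lit 493), Mv.f (nat_lit 491)]))) (Tr.lf (Fc.ed (nat_lit 539) (nat_lit 252) Col.g (nat_lit 217) (Dv.wd (nat_lit 9) [Mv.b (nat_lit 416), Mv.f (nat_lit 417), Mv.f (nat_lit 537)])))))))) (Tr.nd (nat_lit 549) (Tr.nd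 (nat_lit 544) (Tr.nd (nat_lit 542) (Tr.nd (nat_lit 541) (Tr.lf (Fc.ed (nat_lit 540) (nat_lit 217) Col.a (nat_lit 253) (Dv.wd (nat_lit 36) [Mv.b (nat_lit 495), Mv.f (nat_lit 493), Mv.f (nat_lit 539)]))) (Tr.lf (Fc.ed (nat_lit 541) (nat_lit 253) Col.c (nat_lit 216) (Dv.wd (nat_lit 20) [Mv.b (nat_lit 415), Mv.f (nat_lit 416), Mv.f (nat_lit 540)])))) (Tr.nd (nat_lit 543) (Tr.lf (Fc.ed (nat_lit 542) (nat_lit 216) Col.g (nat_lit 251) (Dv.wd (nat_lit 9) [Mv.b (nat_lit 491), Mv.f (nat_lit 495), Mv.f (nat_lit 541)]))) (Tr.lf (Fc.ed (nat_lit 543) (nat_lit 258) Col.a (nat_lit 249) (Dv.wd (nat_lit 61) [Mv.b (nat_lit 492), Mv.f (nat_lit 538), Mv.f (nat_lit 418), Mv.b (nat_lit 347), Mv.f (nat_lit 364), Mv.b (nat_lit 519), Mv.b (nat_lit 473), Mv.b (nat_lit 403), Mv.b (nat_lit 504)]))))) (Tr.nd (nat_lit 546) (Tr.nd (nat_lit 545)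 (Tr.lf (Fc.ed (nat_lit 544) (nat_lit 251) Col.d (nat_lit 249) (Dv.wd (nat_lit 14) [Mv.b (nat_lit 543), Mv.f (nat_lit 503), Mv.b (nat_lit 538)]))) (Tr.lf (Fc.ed (nat_lit 545) (nat_lit 249) Col.g (nat_lit 260) (Dv.wd (nat_lit 18) [Mv.f (nat_lit 508), Mv.f (nat_lit 542), Mv.f (nat_lit 544)])))) (Tr.nd (nat_lit 547) (Tr.lf (Fc.ed (nat_lit 546) (nat_lit 260) Col.c (nat_lit 248) (Dv.wd (nat_lit 11) [Mv.b (nat_lit 485), Mv.f (nat_lit 487), Mv.f (nat_lit 545)]))) (Tr.nd (nat_lit 548) (Tr.lf (Fc.ed (nat_lit 547) (nat_lit 248) Col.a (nat_lit 259) (Dv.wd (nat_lit 15) [Mv.b (nat_lit 505), Mv.f (nat_lit 507), Mv.f (nat_lit 546)]))) (Tr.lf (Fc.ed (nat_lit 548) (nat_lit 259) Col.g (nat_lit 247) (Dv.wd (nat_lit 8) [Mv.b (nat_lit 484), Mv.f (nat_lit 485), Mv.f (nat_lit 547)]))))))) (Tr.nd (nat_lit 554) (Tr.nd (nat_lit 551) (Tr.nd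 (nat_lit 550) (Tr.lf (Fc.ed (nat_lit 549) (nat_lit 219) Col.c (nat_lit 264) Dv.df)) (Tr.lf (Fc.ed (nat_lit 550) (nat_lit 264) Col.a (nat_lit 221) (Dv.wd (nat_lit 15) [Mv.b (nat_lit 421), Mv.f (nat_lit 419), Mv.f (nat_lit 549)])))) (Tr.nd (nat_lit 552) (Tr.lf (Fc.ed (nat_lit 551) (nat_lit 264) Col.b (nat_lit 224) (Dv.wd (nat_lit 16) [Mv.b (nat_lit 443), Mv.b (nat_lit 468), Mv.b (nat_lit 534), Mv.f (nat_lit 535), Mv.f (nat_lit 549)]))) (Tr.nd (nat_lit 553) (Tr.lf (Fc.ed (nat_lit 552) (nat_lit 225) Col.b (nat_lit 265) Dv.df)) (Tr.lf (Fc.ed (nat_lit 553) (nat_lit 265) Col.d (nat_lit 256) (Dv.wd (nat_lit 13) [Mv.f (nat_lit 500), Mv.f (nat_lit 440), Mv.f (nat_lit 552)])))))) (Tr.nd (nat_lit 556) (Tr.nd (nat_lit 555) (Tr.lf (Fc.ed (nat_lit 554) (nat_lit 265) Col.c (nat_lit 254) (Dv.wd (nat_lit 35) [Mv.b (nat_lit 496), Mv.f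 (nat_lit 397), Mv.b (nat_lit 304), Mv.f (nat_lit 438), Mv.f (nat_lit 552)]))) (Tr.lf (Fc.ed (nat_lit 555) (nat_lit 227) Col.b (nat_lit 266) Dv.df))) (Tr.nd (nat_lit 557) (Tr.lf (Fc.ed (nat_lit 556) (nat_lit 266) Col.g (nat_lit 262) (Dv.wd (nat_lit 7) [Mv.b (nat_lit 510), Mv.b (nat_lit 407), Mv.b (nat_lit 313), Mv.b (nat_lit 446), Mv.f (nat_lit 555)]))) (Tr.nd (nat_lit 558) (Tr.lf (Fc.ed (nat_lit 557) (nat_lit 266) Col.a (nat_lit 239) (Dv.wd (nat_lit 47) [Mv.b (nat_lit 472), Mv.f (nat_lit 356), Mv.b (nat_lit 324), Mv.b (nat_lit 533), Mv.b (nat_lit 422), Mv.b (nat_lit 550), Mv.f (nat_lit 551), Mv.b (nat_lit 445), Mv.f (nat_lit 555)]))) (Tr.lf (Fc.ed (nat_lit 558) (nat_lit 230) Col.a (nat_lit 267) Dv.df)))))))) (Tr.nd (nat_lit 578) (Tr.nd (nat_lit 568) (Tr.nd (nat_lit 563) (Tr.nd (nat_lit 561) (Tr.nd (nat_lit 560) (Tr.lf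 (Fc.ed (nat_lit 559) (nat_lit 267) Col.b (nat_lit 247) (Dv.wd (nat_lit 42) [Mv.b (nat_lit 484), Mv.b (nat_lit 378), Mv.b (nat_lit 257), Mv.b (nat_lit 177), Mv.b (nat_lit 164), Mv.f (nat_lit 225), Mv.f (nat_lit 320), Mv.f (nat_lit 452), Mv.f (nat_lit 558)]))) (Tr.lf (Fc.ed (nat_lit 560) (nat_lit 238) Col.b (nat_lit 268) Dv.df))) (Tr.nd (nat_lit 562) (Tr.lf (Fc.ed (nat_lit 561) (nat_lit 268) Col.g (nat_lit 239) (Dv.wd (nat_lit 7) [Mv.b (nat_lit 472), Mv.b (nat_lit 355), Mv.f (nat_lit 332), Mv.f (nat_lit 469), Mv.f (nat_lit 560)]))) (Tr.lf (Fc.ed (nat_lit 562) (nat_lit 262) Col.a (nat_lit 268) (Dv.wd (nat_lit 28) [Mv.f (nat_lit 561), Mv.b (nat_lit 557), Mv.f (nat_lit 556)]))))) (Tr.nd (nat_lit 565) (Tr.nd (nat_lit 564) (Tr.lf (Fc.ed (nat_lit 563) (nat_lit 256) Col.a (nat_lit 257) (Dv.wd (nat_lit 72) [Mv.b (nat_lit 506),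 Mv.b (nat_lit 547), Mv.f (nat_lit 486), Mv.b (nat_lit 436), Mv.f (nat_lit 510), Mv.f (nat_lit 562), Mv.b (nat_lit 560), Mv.f (nat_lit 470), Mv.b (nat_lit 500)]))) (Tr.lf (Fc.ed (nat_lit 564) (nat_lit 255) Col.c (nat_lit 256) (Dv.wd (nat_lit 73) [Mv.f (nat_lit 563), Mv.b (nat_lit 501), Mv.f (nat_lit 498)])))) (Tr.nd (nat_lit 566) (Tr.lf (Fc.al (nat_lit 565) (nat_lit 255) (nat_lit 207) (Dv.wd (nat_lit 74) [Mv.b (nat_lit 497), Mv.b (nat_lit 554), Mv.f (nat_lit 553), Mv.f (nat_lit 563), Mv.b (nat_lit 501), Mv.b (nat_lit 497), Mv.b (nat_lit 554), Mv.f (nat_lit 553), Mv.b (nat_lit 564)]))) (Tr.nd (nat_lit 567) (Tr.lf (Fc.al (nat_lit 566) (nat_lit 257) (nat_lit 256) (Dv.wd (nat_lit 50) [Mv.b (nat_lit 564), Mv.f (nat_lit 565), Mv.f (nat_lit 501)]))) (Tr.lf (Fc.al (nat_lit 567) (nat_lit 208) (nat_lit 259) (Dv.wd (nat_lit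 68) [Mv.f (nat_lit 506), Mv.f (nat_lit 566), Mv.f (nat_lit 500)]))))))) (Tr.nd (nat_lit 573) (Tr.nd (nat_lit 570) (Tr.nd (nat_lit 569) (Tr.lf (Fc.al (nat_lit 568) (nat_lit 238) (nat_lit 248) (Dv.wd (nat_lit 27) [Mv.f (nat_lit 547), Mv.b (nat_lit 567), Mv.b (nat_lit 470)]))) (Tr.lf (Fc.al (nat_lit 569) (nat_lit 238) (nat_lit 209) (Dv.wd (nat_lit 50) [Mv.f (nat_lit 505), Mv.b (nat_lit 567), Mv.b (nat_lit 471)])))) (Tr.nd (nat_lit 571) (Tr.lf (Fc.al (nat_lit 570) (nat_lit 150) (nat_lit 247) (Dv.wd (nat_lit 69) [Mv.b (nat_lit 548), Mv.b (nat_lit 567), Mv.b (nat_lit 399)]))) (Tr.nd (nat_lit 572) (Tr.lf (Fc.al (nat_lit 571) (nat_lit 151) (nat_lit 204) (Dv.wd (nat_lit 68) [Mv.b (nat_lit 486), Mv.b (nat_lit 568), Mv.f (nat_lit 569), Mv.b (nat_lit 400)]))) (Tr.lf (Fc.al (nat_lit 572) (nat_lit 258) (nat_lit 196) (Dv.wd (nat_lit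 69) [Mv.f (nat_lit 485), Mv.b (nat_lit 568), Mv.f (nat_lit 569), Mv.f (nat_lit 502)])))))) (Tr.nd (nat_lit 575) (Tr.nd (nat_lit 574) (Tr.lf (Fc.al (nat_lit 573) (nat_lit 196) (nat_lit 181) (Dv.wd (nat_lit 69) [Mv.f (nat_lit 469), Mv.f (nat_lit 569), Mv.f (nat_lit 502), Mv.f (nat_lit 572)]))) (Tr.lf (Fc.al (nat_lit 574) (nat_lit 100) (nat_lit 267) (Dv.wd (nat_lit 68) [Mv.f (nat_lit 559), Mv.b (nat_lit 570), Mv.b (nat_lit 283)])))) (Tr.nd (nat_lit 576) (Tr.lf (Fc.al (nat_lit 575) (nat_lit 102) (nat_lit 145) (Dv.wd (nat_lit 69) [Mv.f (nat_lit 392), Mv.b (nat_lit 571), Mv.f (nat_lit 287)]))) (Tr.nd (nat_lit 577) (Tr.lf (Fc.al (nat_lit 576) (nat_lit 121) (nat_lit 210) (Dv.wd (nat_lit 68) [Mv.b (nat_lit 504), Mv.f (nat_lit 572), Mv.f (nat_lit 573), Mv.b (nat_lit 332)]))) (Tr.lf (Fc.al (nat_lit 577) (nat_lit 121) (nat_lit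 136) (Dv.wd (nat_lit 68) [Mv.f (nat_lit 378), Mv.f (nat_lit 573), Mv.b (nat_lit 332)])))))))) (Tr.nd (nat_lit 587) (Tr.nd (nat_lit 582) (Tr.nd (nat_lit 580) (Tr.nd (nat_lit 579) (Tr.lf (Fc.al (nat_lit 578) (nat_lit 63) (nat_lit 230) (Dv.wd (nat_lit 27) [Mv.f (nat_lit 558), Mv.b (nat_lit 574), Mv.b (nat_lit 197)]))) (Tr.lf (Fc.al (nat_lit 579) (nat_lit 152) (nat_lit 96) (Dv.wd (nat_lit 68) [Mv.f (nat_lit 272), Mv.b (nat_lit 575), Mv.f (nat_lit 288)])))) (Tr.nd (nat_lit 581) (Tr.lf (Fc.al (nat_lit 580) (nat_lit 80) (nat_lit 184) (Dv.wd (nat_lit 27) [Mv.b (nat_lit 403), Mv.b (nat_lit 576), Mv.b (nat_lit 232)]))) (Tr.lf (Fc.al (nat_lit 581) (nat_lit 177) (nat_lit 159) (Dv.wd (nat_lit 51) [Mv.b (nat_lit 404), Mv.b (nat_lit 576), Mv.b (nat_lit 326)]))))) (Tr.nd (nat_lit 584) (Tr.nd (nat_lit 583) (Tr.lf (Fc.al (nat_lit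 582) (nat_lit 80) (nat_lit 87) (Dv.wd (nat_lit 27) [Mv.f (nat_lit 257), Mv.b (nat_lit 577), Mv.b (nat_lit 232)]))) (Tr.lf (Fc.al (nat_lit 583) (nat_lit 159) (nat_lit 194) (Dv.wd (nat_lit 51) [Mv.f (nat_lit 375), Mv.b (nat_lit 577), Mv.b (nat_lit 326), Mv.f (nat_lit 581)])))) (Tr.nd (nat_lit 585) (Tr.lf (Fc.al (nat_lit 584) (nat_lit 41) (nat_lit 174) (Dv.wd (nat_lit 68) [Mv.f (nat_lit 452), Mv.b (nat_lit 578), Mv.b (nat_lit 136)]))) (Tr.nd (nat_lit 586) (Tr.lf (Fc.al (nat_lit 585) (nat_lit 97) (nat_lit 121) (Dv.wd (nat_lit 50) [Mv.f (nat_lit 335), Mv.f (nat_lit 579), Mv.b (nat_lit 192)]))) (Tr.lf (Fc.al (nat_lit 586) (nat_lit 117) (nat_lit 129) (Dv.wd (nat_lit 51) [Mv.f (nat_lit 354), Mv.b (nat_lit 580), Mv.b (nat_lit 227)]))))))) (Tr.nd (nat_lit 592) (Tr.nd (nat_lit 589) (Tr.nd (nat_lit 588) (Tr.lf (Fc.al (nat_lit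 587) (nat_lit 67) (nat_lit 159) (Dv.wd (nat_lit 51) [Mv.b (nat_lit 581), Mv.f (nat_lit 326), Mv.b (nat_lit 585), Mv.f (nat_lit 193)]))) (Tr.lf (Fc.al (nat_lit 588) (nat_lit 117) (nat_lit 134) (Dv.wd (nat_lit 51) [Mv.b (nat_lit 255), Mv.b (nat_lit 582), Mv.b (nat_lit 227)])))) (Tr.nd (nat_lit 590) (Tr.lf (Fc.al (nat_lit 589) (nat_lit 44) (nat_lit 117) (Dv.wd (nat_lit 27) [Mv.f (nat_lit 588), Mv.f (nat_lit 374), Mv.b (nat_lit 583), Mv.b (nat_lit 587), Mv.b (nat_lit 142)]))) (Tr.nd (nat_lit 591) (Tr.lf (Fc.al (nat_lit 590) (nat_lit 47) (nat_lit 116) (Dv.wd (nat_lit 27) [Mv.f (nat_lit 320), Mv.b (nat_lit 584), Mv.b (nat_lit 106)]))) (Tr.lf (Fc.al (nat_lit 591) (nat_lit 46) (nat_lit 82) (Dv.wd (nat_lit 50) [Mv.b (nat_lit 248), Mv.b (nat_lit 586), Mv.b (nat_lit 589), Mv.b (nat_lit 104)])))))) (Tr.nd (nat_lit 594) (Tr.nd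 (nat_lit 593) (Tr.lf (Fc.al (nat_lit 592) (nat_lit 31) (nat_lit 175) (Dv.wd (nat_lit 50) [Mv.b (nat_lit 321), Mv.b (nat_lit 590), Mv.b (nat_lit 105)]))) (Tr.lf (Fc.al (nat_lit 593) (nat_lit 30) (nat_lit 118) (Dv.wd (nat_lit 68) [Mv.f (nat_lit 229), Mv.b (nat_lit 591), Mv.b (nat_lit 103)])))) (Tr.nd (nat_lit 595) (Tr.lf (Fc.al (nat_lit 594) (nat_lit 14) (nat_lit 119) (Dv.wd (nat_lit 68) [Mv.b (nat_lit 322), Mv.b (nat_lit 592), Mv.b (nat_lit 77)]))) (Tr.nd (nat_lit 596) (Tr.lf (Fc.al (nat_lit 595) (nat_lit 30) (nat_lit 14) (Dv.wd (nat_lit 27) [Mv.f (nat_lit 594), Mv.f (nat_lit 528), Mv.b (nat_lit 593), Mv.f (nat_lit 74)]))) (Tr.lf (Fc.ed (nat_lit 596) (nat_lit 14) Col.c (nat_lit 13) (Dv.wd (nat_lit 50) [Mv.f (nat_lit 73), Mv.f (nat_lit 595)])))))))))))))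
noncomputable def mini2A : Tr (Alt Col) := (Tr.nd (nat_lit 37) (Tr.nd (nat_lit 18) (Tr.nd (nat_lit 9) (Tr.nd (nat_lit 4) (Tr.nd (nat_lit 2) (Tr.nd (nat_lit 1) (Tr.lf (Alt.base (nat_lit 1) [] [Col.b])) (Tr.lf (Alt.base (nat_lit 2) [] [Col.c]))) (Tr.nd (nat_lit 3) (Tr.lf (Alt.base (nat_lit 3) [] [Col.d])) (Tr.lf (Alt.base (nat_lit 6) [Col.g, Col.b, Col.a, Col.f] [Col.b, Col.a, Col.b, Col.g])))) (Tr.nd (nat_lit 6) (Tr.nd (nat_lit 5) (Tr.lf (Alt.base (nat_lit 7) [Col.g, Col.b, Col.a, Col.b, Col.c, Col.b, Col.a, Col.g, Col.b] [Col.c, Col.a, Col.b, Col.g])) (Tr.lf (Alt.word (nat_lit 16) (nat_lit 0) true [Col.f, Col.c, Col.f, Col.c]))) (Tr.nd (nat_lit 7) (Tr.lf (Alt.word (nat_lit 8) (nat_lit 4) true [Col.c, Col.b, Col.c, Col.b, Col.c, Col.b])) (Tr.nd (nat_lit 8) (Tr.lf (Alt.word (nat_lit 12) (nat_lit 2) true [Col.g, Col.b,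 Col.g, Col.b, Col.g, Col.b])) (Tr.lf (Alt.word (nat_lit 6) (nat_lit 2) true [Col.g, Col.a, Col.g, Col.a])))))) (Tr.nd (nat_lit 13) (Tr.nd (nat_lit 11) (Tr.nd (nat_lit 10) (Tr.lf (Alt.word (nat_lit 17) (nat_lit 2) true [Col.g, Col.c, Col.g, Col.c])) (Tr.lf (Alt.word (nat_lit 12) (nat_lit 3) true [Col.b, Col.g, Col.b, Col.g, Col.b, Col.g]))) (Tr.nd (nat_lit 12) (Tr.lf (Alt.word (nat_lit 17) (nat_lit 1) true [Col.c, Col.g, Col.c, Col.g])) (Tr.lf (Alt.word (nat_lit 21) (nat_lit 1) true [Col.d, Col.g, Col.d, Col.g])))) (Tr.nd (nat_lit 15) (Tr.nd (nat_lit 14) (Tr.lf (Alt.word (nat_lit 9) (nat_lit 2) true [Col.d, Col.b, Col.d, Col.b])) (Tr.lf (Alt.word (nat_lit 3) (nat_lit 2) true [Col.d, Col.a, Col.d, Col.a]))) (Tr.nd (nat_lit 16) (Tr.lf (Alt.word (nat_lit 2) (nat_lit 1) true [Col.a, Col.c, Col.a, Col.c])) (Tr.nd (nat_lit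 17) (Tr.lf (Alt.word (nat_lit 8) (nat_lit 1) true [Col.b, Col.c, Col.b, Col.c, Col.b, Col.c])) (Tr.lf (Alt.word (nat_lit 9) (nat_lit 1) true [Col.b, Col.d, Col.b, Col.d]))))))) (Tr.nd (nat_lit 27) (Tr.nd (nat_lit 22) (Tr.nd (nat_lit 20) (Tr.nd (nat_lit 19) (Tr.lf (Alt.word (nat_lit 21) (nat_lit 2) true [Col.g, Col.d, Col.g, Col.d])) (Tr.lf (Alt.word (nat_lit 11) (nat_lit 2) true [Col.f, Col.b, Col.f, Col.b, Col.f, Col.b]))) (Tr.nd (nat_lit 21) (Tr.lf (Alt.word (nat_lit 2) (nat_lit 2) true [Col.c, Col.a, Col.c, Col.a])) (Tr.lf (Alt.word (nat_lit 5) (nat_lit 2) true [Col.f, Col.a, Col.f, Col.a])))) (Tr.nd (nat_lit 24) (Tr.nd (nat_lit 23) (Tr.lf (Alt.word (nat_lit 29) (nat_lit 3) true [Col.g, Col.a, Col.f, Col.g, Col.f])) (Tr.lf (Alt.word (nat_lit 20) (nat_lit 3) true [Col.d, Col.f, Col.d, Col.f]))) (Tr.nd (nat_lit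 25) (Tr.lf (Alt.word (nat_lit 3) (nat_lit 1) true [Col.a, Col.d, Col.a, Col.d])) (Tr.nd (nat_lit 26) (Tr.lf (Alt.word (nat_lit 16) (nat_lit 2) true [Col.f, Col.c, Col.f, Col.c])) (Tr.lf (Alt.word (nat_lit 1) (nat_lit 6) true [Col.b, Col.a, Col.b, Col.a, Col.b, Col.a, Col.b, Col.a, Col.b, Col.a])))))) (Tr.nd (nat_lit 32) (Tr.nd (nat_lit 29) (Tr.nd (nat_lit 28) (Tr.lf (Alt.word (nat_lit 0) (nat_lit 0) true [Col.a, Col.a])) (Tr.lf (Alt.word (nat_lit 6) (nat_lit 3) true [Col.a, Col.g, Col.a, Col.g]))) (Tr.nd (nat_lit 30) (Tr.lf (Alt.word (nat_lit 29) (nat_lit 2) true [Col.f, Col.g, Col.a, Col.f, Col.g])) (Tr.nd (nat_lit 31) (Tr.lf (Alt.word (nat_lit 11) (nat_lit 3) true [Col.b, Col.f, Col.b, Col.f, Col.b, Col.f])) (Tr.lf (Alt.word (nat_lit 2) (nat_lit 3) true [Col.a, Col.c, Col.a, Col.c]))))) (Tr.nd (nat_lit 34) (Tr.nd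 (nat_lit 33) (Tr.lf (Alt.word (nat_lit 20) (nat_lit 2) true [Col.f, Col.d, Col.f, Col.d])) (Tr.lf (Alt.word (nat_lit 16) (nat_lit 1) true [Col.c, Col.f, Col.c, Col.f]))) (Tr.nd (nat_lit 35) (Tr.lf (Alt.word (nat_lit 28) (nat_lit 1) true [Col.d, Col.c, Col.d, Col.c, Col.d, Col.c, Col.d, Col.a, Col.c])) (Tr.nd (nat_lit 36) (Tr.lf (Alt.word (nat_lit 8) (nat_lit 2) true [Col.c, Col.b, Col.c, Col.b, Col.c, Col.b])) (Tr.lf (Alt.word (nat_lit 6) (nat_lit 1) true [Col.a, Col.g, Col.a, Col.g])))))))) (Tr.nd (nat_lit 56) (Tr.nd (nat_lit 46) (Tr.nd (nat_lit 41) (Tr.nd (nat_lit 39) (Tr.nd (nat_lit 38) (Tr.lf (Alt.word (nat_lit 5) (nat_lit 1) true [Col.a, Col.f, Col.a, Col.f])) (Tr.lf (Alt.word (nat_lit 29) (nat_lit 1) true [Col.g, Col.f, Col.g, Col.a, Col.f]))) (Tr.nd (nat_lit 40) (Tr.lf (Alt.word (nat_lit 11) (nat_lit 1) true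 [Col.b, Col.f, Col.b, Col.f, Col.b, Col.f])) (Tr.lf (Alt.word (nat_lit 12) (nat_lit 1) true [Col.b, Col.g, Col.b, Col.g, Col.b, Col.g])))) (Tr.nd (nat_lit 43) (Tr.nd (nat_lit 42) (Tr.lf (Alt.word (nat_lit 28) (nat_lit 2) true [Col.c, Col.d, Col.c, Col.d, Col.c, Col.d, Col.a, Col.c, Col.d])) (Tr.lf (Alt.word (nat_lit 1) (nat_lit 2) true [Col.b, Col.a, Col.b, Col.a, Col.b, Col.a, Col.b, Col.a, Col.b, Col.a]))) (Tr.nd (nat_lit 44) (Tr.lf (Alt.word (nat_lit 29) (nat_lit 0) true [Col.f, Col.g, Col.f, Col.g, Col.a])) (Tr.nd (nat_lit 45) (Tr.lf (Alt.word (nat_lit 28) (nat_lit 0) true [Col.c, Col.d, Col.c, Col.d, Col.c, Col.d, Col.c, Col.d, Col.a])) (Tr.lf (Alt.word (nat_lit 9) (nat_lit 0) true [Col.d, Col.b, Col.d, Col.b])))))) (Tr.nd (nat_lit 51) (Tr.nd (nat_lit 48) (Tr.nd (nat_lit 47) (Tr.lf (Alt.word (nat_lit 9) (nat_lit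 3) true [Col.b, Col.d, Col.b, Col.d])) (Tr.lf (Alt.word (nat_lit 1) (nat_lit 1) true [Col.a, Col.b, Col.a, Col.b, Col.a, Col.b, Col.a, Col.b, Col.a, Col.b]))) (Tr.nd (nat_lit 49) (Tr.lf (Alt.word (nat_lit 28) (nat_lit 8) false [Col.c, Col.a, Col.d, Col.c, Col.d, Col.c, Col.d, Col.c, Col.d])) (Tr.nd (nat_lit 50) (Tr.lf (Alt.word (nat_lit 1) (nat_lit 4) true [Col.b, Col.a, Col.b, Col.a, Col.b, Col.a, Col.b, Col.a, Col.b, Col.a])) (Tr.lf (Alt.word (nat_lit 13) (nat_lit 0) true [Col.c, Col.c]))))) (Tr.nd (nat_lit 53) (Tr.nd (nat_lit 52) (Tr.lf (Alt.word (nat_lit 18) (nat_lit 0) true [Col.d, Col.d])) (Tr.lf (Alt.word (nat_lit 16) (nat_lit 3) true [Col.c, Col.f, Col.c, Col.f]))) (Tr.nd (nat_lit 54) (Tr.lf (Alt.word (nat_lit 17) (nat_lit 3) true [Col.c, Col.g, Col.c, Col.g])) (Tr.nd (nat_lit 55) (Tr.lf (Alt.word (nat_lit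 21) (nat_lit 3) true [Col.d, Col.g, Col.d, Col.g])) (Tr.lf (Alt.word (nat_lit 31) (nat_lit 0) false [Col.b, Col.f, Col.g, Col.b, Col.f, Col.g, Col.b, Col.f, Col.g, Col.b, Col.f, Col.g, Col.b, Col.f, Col.g]))))))) (Tr.nd (nat_lit 65) (Tr.nd (nat_lit 60) (Tr.nd (nat_lit 58) (Tr.nd (nat_lit 57) (Tr.lf (Alt.word (nat_lit 11) (nat_lit 0) true [Col.f, Col.b, Col.f, Col.b, Col.f, Col.b])) (Tr.lf (Alt.word (nat_lit 31) (nat_lit 1) false [Col.f, Col.g, Col.b, Col.f, Col.g, Col.b, Col.f, Col.g, Col.b, Col.f, Col.g, Col.b, Col.f, Col.g, Col.b]))) (Tr.nd (nat_lit 59) (Tr.lf (Alt.word (nat_lit 28) (nat_lit 0) false [Col.a, Col.d, Col.c, Col.d, Col.c, Col.d, Col.c, Col.d, Col.c])) (Tr.lf (Alt.word (nat_lit 1) (nat_lit 0) true [Col.b, Col.a, Col.b, Col.a, Col.b, Col.a, Col.b, Col.a, Col.b, Col.a])))) (Tr.nd (nat_lit 62) (Tr.nd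 (nat_lit 61) (Tr.lf (Alt.word (nat_lit 31) (nat_lit 3) true [Col.g, Col.f, Col.b, Col.g, Col.f, Col.b, Col.g, Col.f, Col.b, Col.g, Col.f, Col.b, Col.g, Col.f, Col.b])) (Tr.lf (Alt.word (nat_lit 1) (nat_lit 9) true [Col.a, Col.b, Col.a, Col.b, Col.a, Col.b, Col.a, Col.b, Col.a, Col.b]))) (Tr.nd (nat_lit 63) (Tr.lf (Alt.word (nat_lit 31) (nat_lit 2) true [Col.b, Col.g, Col.f, Col.b, Col.g, Col.f, Col.b, Col.g, Col.f, Col.b, Col.g, Col.f, Col.b, Col.g, Col.f])) (Tr.nd (nat_lit 64) (Tr.lf (Alt.word (nat_lit 12) (nat_lit 0) true [Col.g, Col.b, Col.g, Col.b, Col.g, Col.b])) (Tr.lf (Alt.word (nat_lit 29) (nat_lit 0) false [Col.a, Col.g, Col.f, Col.g, Col.f])))))) (Tr.nd (nat_lit 70) (Tr.nd (nat_lit 67) (Tr.nd (nat_lit 66) (Tr.lf (Alt.word (nat_lit 30) (nat_lit 7) false [Col.f, Col.a, Col.b, Col.c, Col.f, Col.a, Col.b, Col.c,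 Col.f, Col.a, Col.b, Col.c, Col.f, Col.a, Col.b, Col.c, Col.f, Col.a, Col.b, Col.c])) (Tr.lf (Alt.word (nat_lit 25) (nat_lit 0) true [Col.f, Col.f]))) (Tr.nd (nat_lit 68) (Tr.lf (Alt.word (nat_lit 20) (nat_lit 1) true [Col.d, Col.f, Col.d, Col.f])) (Tr.nd (nat_lit 69) (Tr.lf (Alt.word (nat_lit 7) (nat_lit 0) true [Col.b, Col.b])) (Tr.lf (Alt.word (nat_lit 27) (nat_lit 0) true [Col.g, Col.g]))))) (Tr.nd (nat_lit 72) (Tr.nd (nat_lit 71) (Tr.lf (Alt.word (nat_lit 11) (nat_lit 5) true [Col.b, Col.f, Col.b, Col.f, Col.b, Col.f])) (Tr.lf (Alt.word (nat_lit 8) (nat_lit 0) true [Col.c, Col.b, Col.c, Col.b, Col.c, Col.b]))) (Tr.nd (nat_lit 73) (Tr.lf (Alt.word (nat_lit 1) (nat_lit 5) true [Col.a, Col.b, Col.a, Col.b, Col.a, Col.b, Col.a, Col.b, Col.a, Col.b])) (Tr.nd (nat_lit 74) (Tr.lf (Alt.word (nat_lit 2) (nat_lit 0) true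 [Col.c, Col.a, Col.c, Col.a])) (Tr.lf (Alt.word (nat_lit 28) (nat_lit 5) true [Col.d, Col.c, Col.d, Col.a, Col.c, Col.d, Col.c, Col.d, Col.c])))))))))
noncomputable def mini2P : Tr ℕ := (Tr.nd (nat_lit 134) (Tr.nd (nat_lit 67) (Tr.nd (nat_lit 33) (Tr.nd (nat_lit 16) (Tr.nd (nat_lit 8) (Tr.nd (nat_lit 4) (Tr.nd (nat_lit 2) (Tr.nd (nat_lit 1) (Tr.lf (nat_lit 0)) (Tr.lf (nat_lit 0))) (Tr.nd (nat_lit 3) (Tr.lf (nat_lit 1)) (Tr.lf (nat_lit 2)))) (Tr.nd (nat_lit 6) (Tr.nd (nat_lit 5) (Tr.lf (nat_lit 3)) (Tr.lf (nat_lit 4))) (Tr.nd (nat_lit 7) (Tr.lf (nat_lit 5)) (Tr.lf (nat_lit 6))))) (Tr.nd (nat_lit 12) (Tr.nd (nat_lit 10) (Tr.nd (nat_lit 9) (Tr.lf (nat_lit 7)) (Tr.lf (nat_lit 8))) (Tr.nd (nat_lit 11) (Tr.lf (nat_lit 2)) (Tr.lf (nat_lit 10)))) (Tr.nd (nat_lit 14) (Tr.nd (nat_lit 13) (Tr.lf (nat_lit 11)) (Tr.lf (nat_lit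 12))) (Tr.nd (nat_lit 15) (Tr.lf (nat_lit 13)) (Tr.lf (nat_lit 14)))))) (Tr.nd (nat_lit 24) (Tr.nd (nat_lit 20) (Tr.nd (nat_lit 18) (Tr.nd (nat_lit 17) (Tr.lf (nat_lit 15)) (Tr.lf (nat_lit 16))) (Tr.nd (nat_lit 19) (Tr.lf (nat_lit 17)) (Tr.lf (nat_lit 18)))) (Tr.nd (nat_lit 22) (Tr.nd (nat_lit 21) (Tr.lf (nat_lit 4)) (Tr.lf (nat_lit 6))) (Tr.nd (nat_lit 23) (Tr.lf (nat_lit 5)) (Tr.lf (nat_lit 5))))) (Tr.nd (nat_lit 28) (Tr.nd (nat_lit 26) (Tr.nd (nat_lit 25) (Tr.lf (nat_lit 8)) (Tr.lf (nat_lit 9))) (Tr.nd (nat_lit 27) (Tr.lf (nat_lit 11)) (Tr.lf (nat_lit 12)))) (Tr.nd (nat_lit 30) (Tr.nd (nat_lit 29) (Tr.lf (nat_lit 13)) (Tr.lf (nat_lit 7))) (Tr.nd (nat_lit 31) (Tr.lf (nat_lit 13)) (Tr.nd (nat_lit 32) (Tr.lf (nat_lit 14)) (Tr.lf (nat_lit 16)))))))) (Tr.nd (nat_lit 50) (Tr.nd (nat_lit 41) (Tr.nd (nat_lit 37) (Tr.nd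 (nat_lit 35) (Tr.nd (nat_lit 34) (Tr.lf (nat_lit 16)) (Tr.lf (nat_lit 16))) (Tr.nd (nat_lit 36) (Tr.lf (nat_lit 16)) (Tr.lf (nat_lit 19)))) (Tr.nd (nat_lit 39) (Tr.nd (nat_lit 38) (Tr.lf (nat_lit 17)) (Tr.lf (nat_lit 17))) (Tr.nd (nat_lit 40) (Tr.lf (nat_lit 21)) (Tr.lf (nat_lit 23))))) (Tr.nd (nat_lit 45) (Tr.nd (nat_lit 43) (Tr.nd (nat_lit 42) (Tr.lf (nat_lit 24)) (Tr.lf (nat_lit 25))) (Tr.nd (nat_lit 44) (Tr.lf (nat_lit 26)) (Tr.lf (nat_lit 27)))) (Tr.nd (nat_lit 47) (Tr.nd (nat_lit 46) (Tr.lf (nat_lit 29)) (Tr.lf (nat_lit 30))) (Tr.nd (nat_lit 48) (Tr.lf (nat_lit 31)) (Tr.nd (nat_lit 49) (Tr.lf (nat_lit 33)) (Tr.lf (nat_lit 33))))))) (Tr.nd (nat_lit 58) (Tr.nd (nat_lit 54) (Tr.nd (nat_lit 52) (Tr.nd (nat_lit 51) (Tr.lf (nat_lit 33)) (Tr.lf (nat_lit 33))) (Tr.nd (nat_lit 53) (Tr.lf (nat_lit 32)) (Tr.lf (nat_lit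 32)))) (Tr.nd (nat_lit 56) (Tr.nd (nat_lit 55) (Tr.lf (nat_lit 32)) (Tr.lf (nat_lit 35))) (Tr.nd (nat_lit 57) (Tr.lf (nat_lit 36)) (Tr.lf (nat_lit 37))))) (Tr.nd (nat_lit 62) (Tr.nd (nat_lit 60) (Tr.nd (nat_lit 59) (Tr.lf (nat_lit 38)) (Tr.lf (nat_lit 39))) (Tr.nd (nat_lit 61) (Tr.lf (nat_lit 39)) (Tr.lf (nat_lit 40)))) (Tr.nd (nat_lit 64) (Tr.nd (nat_lit 63) (Tr.lf (nat_lit 41)) (Tr.lf (nat_lit 41))) (Tr.nd (nat_lit 65) (Tr.lf (nat_lit 42)) (Tr.nd (nat_lit 66) (Tr.lf (nat_lit 43)) (Tr.lf (nat_lit 43))))))))) (Tr.nd (nat_lit 100) (Tr.nd (nat_lit 83) (Tr.nd (nat_lit 75) (Tr.nd (nat_lit 71) (Tr.nd (nat_lit 69) (Tr.nd (nat_lit 68) (Tr.lf (nat_lit 44)) (Tr.lf (nat_lit 44))) (Tr.nd (nat_lit 70) (Tr.lf (nat_lit 43)) (Tr.lf (nat_lit 45)))) (Tr.nd (nat_lit 73) (Tr.nd (nat_lit 72) (Tr.lf (nat_lit 45)) (Tr.lf (nat_lit 46)))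 (Tr.nd (nat_lit 74) (Tr.lf (nat_lit 46)) (Tr.lf (nat_lit 46))))) (Tr.nd (nat_lit 79) (Tr.nd (nat_lit 77) (Tr.nd (nat_lit 76) (Tr.lf (nat_lit 47)) (Tr.lf (nat_lit 48))) (Tr.nd (nat_lit 78) (Tr.lf (nat_lit 50)) (Tr.lf (nat_lit 50)))) (Tr.nd (nat_lit 81) (Tr.nd (nat_lit 80) (Tr.lf (nat_lit 49)) (Tr.lf (nat_lit 50))) (Tr.nd (nat_lit 82) (Tr.lf (nat_lit 51)) (Tr.lf (nat_lit 51)))))) (Tr.nd (nat_lit 91) (Tr.nd (nat_lit 87) (Tr.nd (nat_lit 85) (Tr.nd (nat_lit 84) (Tr.lf (nat_lit 51)) (Tr.lf (nat_lit 51))) (Tr.nd (nat_lit 86) (Tr.lf (nat_lit 52)) (Tr.lf (nat_lit 54)))) (Tr.nd (nat_lit 89) (Tr.nd (nat_lit 88) (Tr.lf (nat_lit 53)) (Tr.lf (nat_lit 54))) (Tr.nd (nat_lit 90) (Tr.lf (nat_lit 55)) (Tr.lf (nat_lit 56))))) (Tr.nd (nat_lit 95) (Tr.nd (nat_lit 93) (Tr.nd (nat_lit 92) (Tr.lf (nat_lit 56)) (Tr.lf (nat_lit 57))) (Tr.nd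 (nat_lit 94) (Tr.lf (nat_lit 57)) (Tr.lf (nat_lit 58)))) (Tr.nd (nat_lit 97) (Tr.nd (nat_lit 96) (Tr.lf (nat_lit 59)) (Tr.lf (nat_lit 59))) (Tr.nd (nat_lit 98) (Tr.lf (nat_lit 61)) (Tr.nd (nat_lit 99) (Tr.lf (nat_lit 63)) (Tr.lf (nat_lit 63)))))))) (Tr.nd (nat_lit 117) (Tr.nd (nat_lit 108) (Tr.nd (nat_lit 104) (Tr.nd (nat_lit 102) (Tr.nd (nat_lit 101) (Tr.lf (nat_lit 63)) (Tr.lf (nat_lit 64))) (Tr.nd (nat_lit 103) (Tr.lf (nat_lit 64)) (Tr.lf (nat_lit 65)))) (Tr.nd (nat_lit 106) (Tr.nd (nat_lit 105) (Tr.lf (nat_lit 67)) (Tr.lf (nat_lit 66))) (Tr.nd (nat_lit 107) (Tr.lf (nat_lit 67)) (Tr.lf (nat_lit 66))))) (Tr.nd (nat_lit 112) (Tr.nd (nat_lit 110) (Tr.nd (nat_lit 109) (Tr.lf (nat_lit 68)) (Tr.lf (nat_lit 69))) (Tr.nd (nat_lit 111) (Tr.lf (nat_lit 70)) (Tr.lf (nat_lit 70)))) (Tr.nd (nat_lit 114) (Tr.nd (nat_lit 113)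 (Tr.lf (nat_lit 73)) (Tr.lf (nat_lit 73))) (Tr.nd (nat_lit 115) (Tr.lf (nat_lit 74)) (Tr.nd (nat_lit 116) (Tr.lf (nat_lit 76)) (Tr.lf (nat_lit 77))))))) (Tr.nd (nat_lit 125) (Tr.nd (nat_lit 121) (Tr.nd (nat_lit 119) (Tr.nd (nat_lit 118) (Tr.lf (nat_lit 78)) (Tr.lf (nat_lit 79))) (Tr.nd (nat_lit 120) (Tr.lf (nat_lit 79)) (Tr.lf (nat_lit 79)))) (Tr.nd (nat_lit 123) (Tr.nd (nat_lit 122) (Tr.lf (nat_lit 80)) (Tr.lf (nat_lit 80))) (Tr.nd (nat_lit 124) (Tr.lf (nat_lit 80)) (Tr.lf (nat_lit 81))))) (Tr.nd (nat_lit 129) (Tr.nd (nat_lit 127) (Tr.nd (nat_lit 126) (Tr.lf (nat_lit 81)) (Tr.lf (nat_lit 82))) (Tr.nd (nat_lit 128) (Tr.lf (nat_lit 82)) (Tr.lf (nat_lit 79)))) (Tr.nd (nat_lit 131) (Tr.nd (nat_lit 130) (Tr.lf (nat_lit 83)) (Tr.lf (nat_lit 83))) (Tr.nd (nat_lit 132) (Tr.lf (nat_lit 83)) (Tr.nd (nat_lit 133) (Tr.lf (nat_lit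 85)) (Tr.lf (nat_lit 85)))))))))) (Tr.nd (nat_lit 201) (Tr.nd (nat_lit 167) (Tr.nd (nat_lit 150) (Tr.nd (nat_lit 142) (Tr.nd (nat_lit 138) (Tr.nd (nat_lit 136) (Tr.nd (nat_lit 135) (Tr.lf (nat_lit 87)) (Tr.lf (nat_lit 85))) (Tr.nd (nat_lit 137) (Tr.lf (nat_lit 87)) (Tr.lf (nat_lit 88)))) (Tr.nd (nat_lit 140) (Tr.nd (nat_lit 139) (Tr.lf (nat_lit 89)) (Tr.lf (nat_lit 89))) (Tr.nd (nat_lit 141) (Tr.lf (nat_lit 90)) (Tr.lf (nat_lit 90))))) (Tr.nd (nat_lit 146) (Tr.nd (nat_lit 144) (Tr.nd (nat_lit 143) (Tr.lf (nat_lit 92)) (Tr.lf (nat_lit 92))) (Tr.nd (nat_lit 145) (Tr.lf (nat_lit 94)) (Tr.lf (nat_lit 96)))) (Tr.nd (nat_lit 148) (Tr.nd (nat_lit 147) (Tr.lf (nat_lit 97)) (Tr.lf (nat_lit 98))) (Tr.nd (nat_lit 149) (Tr.lf (nat_lit 98)) (Tr.lf (nat_lit 99)))))) (Tr.nd (nat_lit 158) (Tr.nd (nat_lit 154) (Tr.nd (nat_lit 152)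 (Tr.nd (nat_lit 151) (Tr.lf (nat_lit 100)) (Tr.lf (nat_lit 101))) (Tr.nd (nat_lit 153) (Tr.lf (nat_lit 102)) (Tr.lf (nat_lit 103)))) (Tr.nd (nat_lit 156) (Tr.nd (nat_lit 155) (Tr.lf (nat_lit 104)) (Tr.lf (nat_lit 104))) (Tr.nd (nat_lit 157) (Tr.lf (nat_lit 105)) (Tr.lf (nat_lit 104))))) (Tr.nd (nat_lit 162) (Tr.nd (nat_lit 160) (Tr.nd (nat_lit 159) (Tr.lf (nat_lit 106)) (Tr.lf (nat_lit 107))) (Tr.nd (nat_lit 161) (Tr.lf (nat_lit 107)) (Tr.lf (nat_lit 107)))) (Tr.nd (nat_lit 164) (Tr.nd (nat_lit 163) (Tr.lf (nat_lit 107)) (Tr.lf (nat_lit 111))) (Tr.nd (nat_lit 165) (Tr.lf (nat_lit 111)) (Tr.nd (nat_lit 166) (Tr.lf (nat_lit 110)) (Tr.lf (nat_lit 110)))))))) (Tr.nd (nat_lit 184) (Tr.nd (nat_lit 175) (Tr.nd (nat_lit 171) (Tr.nd (nat_lit 169) (Tr.nd (nat_lit 168) (Tr.lf (nat_lit 112)) (Tr.lf (nat_lit 113))) (Tr.nd (nat_lit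 170) (Tr.lf (nat_lit 113)) (Tr.lf (nat_lit 113)))) (Tr.nd (nat_lit 173) (Tr.nd (nat_lit 172) (Tr.lf (nat_lit 113)) (Tr.lf (nat_lit 112))) (Tr.nd (nat_lit 174) (Tr.lf (nat_lit 115)) (Tr.lf (nat_lit 116))))) (Tr.nd (nat_lit 179) (Tr.nd (nat_lit 177) (Tr.nd (nat_lit 176) (Tr.lf (nat_lit 116)) (Tr.lf (nat_lit 116))) (Tr.nd (nat_lit 178) (Tr.lf (nat_lit 117)) (Tr.lf (nat_lit 118)))) (Tr.nd (nat_lit 181) (Tr.nd (nat_lit 180) (Tr.lf (nat_lit 118)) (Tr.lf (nat_lit 118))) (Tr.nd (nat_lit 182) (Tr.lf (nat_lit 121)) (Tr.nd (nat_lit 183) (Tr.lf (nat_lit 120)) (Tr.lf (nat_lit 120))))))) (Tr.nd (nat_lit 192) (Tr.nd (nat_lit 188) (Tr.nd (nat_lit 186) (Tr.nd (nat_lit 185) (Tr.lf (nat_lit 122)) (Tr.lf (nat_lit 121))) (Tr.nd (nat_lit 187) (Tr.lf (nat_lit 124)) (Tr.lf (nat_lit 126)))) (Tr.nd (nat_lit 190) (Tr.nd (nat_lit 189) (Tr.lf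 (nat_lit 127)) (Tr.lf (nat_lit 127))) (Tr.nd (nat_lit 191) (Tr.lf (nat_lit 129)) (Tr.lf (nat_lit 128))))) (Tr.nd (nat_lit 196) (Tr.nd (nat_lit 194) (Tr.nd (nat_lit 193) (Tr.lf (nat_lit 132)) (Tr.lf (nat_lit 133))) (Tr.nd (nat_lit 195) (Tr.lf (nat_lit 134)) (Tr.lf (nat_lit 137)))) (Tr.nd (nat_lit 198) (Tr.nd (nat_lit 197) (Tr.lf (nat_lit 136)) (Tr.lf (nat_lit 137))) (Tr.nd (nat_lit 199) (Tr.lf (nat_lit 137)) (Tr.nd (nat_lit 200) (Tr.lf (nat_lit 140)) (Tr.lf (nat_lit 142))))))))) (Tr.nd (nat_lit 235) (Tr.nd (nat_lit 218) (Tr.nd (nat_lit 209) (Tr.nd (nat_lit 205) (Tr.nd (nat_lit 203) (Tr.nd (nat_lit 202) (Tr.lf (nat_lit 144)) (Tr.lf (nat_lit 145))) (Tr.nd (nat_lit 204) (Tr.lf (nat_lit 145)) (Tr.lf (nat_lit 145)))) (Tr.nd (nat_lit 207) (Tr.nd (nat_lit 206) (Tr.lf (nat_lit 146)) (Tr.lf (nat_lit 147))) (Tr.nd (nat_lit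 208) (Tr.lf (nat_lit 149)) (Tr.lf (nat_lit 150))))) (Tr.nd (nat_lit 213) (Tr.nd (nat_lit 211) (Tr.nd (nat_lit 210) (Tr.lf (nat_lit 151)) (Tr.lf (nat_lit 152))) (Tr.nd (nat_lit 212) (Tr.lf (nat_lit 153)) (Tr.lf (nat_lit 154)))) (Tr.nd (nat_lit 215) (Tr.nd (nat_lit 214) (Tr.lf (nat_lit 154)) (Tr.lf (nat_lit 155))) (Tr.nd (nat_lit 216) (Tr.lf (nat_lit 155)) (Tr.nd (nat_lit 217) (Tr.lf (nat_lit 156)) (Tr.lf (nat_lit 156))))))) (Tr.nd (nat_lit 226) (Tr.nd (nat_lit 222) (Tr.nd (nat_lit 220) (Tr.nd (nat_lit 219) (Tr.lf (nat_lit 156)) (Tr.lf (nat_lit 158))) (Tr.nd (nat_lit 221) (Tr.lf (nat_lit 158)) (Tr.lf (nat_lit 158)))) (Tr.nd (nat_lit 224) (Tr.nd (nat_lit 223) (Tr.lf (nat_lit 163)) (Tr.lf (nat_lit 163))) (Tr.nd (nat_lit 225) (Tr.lf (nat_lit 164)) (Tr.lf (nat_lit 165))))) (Tr.nd (nat_lit 230) (Tr.nd (nat_lit 228) (Tr.nd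 (nat_lit 227) (Tr.lf (nat_lit 168)) (Tr.lf (nat_lit 169))) (Tr.nd (nat_lit 229) (Tr.lf (nat_lit 171)) (Tr.lf (nat_lit 171)))) (Tr.nd (nat_lit 232) (Tr.nd (nat_lit 231) (Tr.lf (nat_lit 174)) (Tr.lf (nat_lit 174))) (Tr.nd (nat_lit 233) (Tr.lf (nat_lit 174)) (Tr.nd (nat_lit 234) (Tr.lf (nat_lit 178)) (Tr.lf (nat_lit 179)))))))) (Tr.nd (nat_lit 252) (Tr.nd (nat_lit 243) (Tr.nd (nat_lit 239) (Tr.nd (nat_lit 237) (Tr.nd (nat_lit 236) (Tr.lf (nat_lit 183)) (Tr.lf (nat_lit 183))) (Tr.nd (nat_lit 238) (Tr.lf (nat_lit 183)) (Tr.lf (nat_lit 181)))) (Tr.nd (nat_lit 241) (Tr.nd (nat_lit 240) (Tr.lf (nat_lit 185)) (Tr.lf (nat_lit 184))) (Tr.nd (nat_lit 242) (Tr.lf (nat_lit 186)) (Tr.lf (nat_lit 187))))) (Tr.nd (nat_lit 247) (Tr.nd (nat_lit 245) (Tr.nd (nat_lit 244) (Tr.lf (nat_lit 189)) (Tr.lf (nat_lit 190))) (Tr.nd (nat_lit 246)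 (Tr.lf (nat_lit 190)) (Tr.lf (nat_lit 195)))) (Tr.nd (nat_lit 249) (Tr.nd (nat_lit 248) (Tr.lf (nat_lit 196)) (Tr.lf (nat_lit 196))) (Tr.nd (nat_lit 250) (Tr.lf (nat_lit 196)) (Tr.nd (nat_lit 251) (Tr.lf (nat_lit 198)) (Tr.lf (nat_lit 205))))))) (Tr.nd (nat_lit 260) (Tr.nd (nat_lit 256) (Tr.nd (nat_lit 254) (Tr.nd (nat_lit 253) (Tr.lf (nat_lit 205)) (Tr.lf (nat_lit 205))) (Tr.nd (nat_lit 255) (Tr.lf (nat_lit 206)) (Tr.lf (nat_lit 207)))) (Tr.nd (nat_lit 258) (Tr.nd (nat_lit 257) (Tr.lf (nat_lit 207)) (Tr.lf (nat_lit 207))) (Tr.nd (nat_lit 259) (Tr.lf (nat_lit 209)) (Tr.lf (nat_lit 209))))) (Tr.nd (nat_lit 264) (Tr.nd (nat_lit 262) (Tr.nd (nat_lit 261) (Tr.lf (nat_lit 209)) (Tr.lf (nat_lit 211))) (Tr.nd (nat_lit 263) (Tr.lf (nat_lit 212)) (Tr.lf (nat_lit 215)))) (Tr.nd (nat_lit 266) (Tr.nd (nat_lit 265) (Tr.lf (nat_lit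 219)) (Tr.lf (nat_lit 225))) (Tr.nd (nat_lit 267) (Tr.lf (nat_lit 227)) (Tr.nd (nat_lit 268) (Tr.lf (nat_lit 230)) (Tr.lf (nat_lit 238)))))))))))
noncomputable def mini2Q : Tr ℕ := (Tr.nd (nat_lit 134) (Tr.nd (nat_lit 67) (Tr.nd (nat_lit 33) (Tr.nd (nat_lit 16) (Tr.nd (nat_lit 8) (Tr.nd (nat_lit 4) (Tr.nd (nat_lit 2) (Tr.nd (nat_lit 1) (Tr.lf (nat_lit 0)) (Tr.lf (nat_lit 6))) (Tr.nd (nat_lit 3) (Tr.lf (nat_lit 1)) (Tr.lf (nat_lit 0)))) (Tr.nd (nat_lit 6) (Tr.nd (nat_lit 5) (Tr.lf (nat_lit 5)) (Tr.lf (nat_lit 2))) (Tr.nd (nat_lit 7) (Tr.lf (nat_lit 1)) (Tr.lf (nat_lit 0))))) (Tr.nd (nat_lit 12) (Tr.nd (nat_lit 10) (Tr.nd (nat_lit 9) (Tr.lf (nat_lit 6)) (Tr.lf (nat_lit 1))) (Tr.nd (nat_lit 11) (Tr.lf (nat_lit 2)) (Tr.lf (nat_lit 3)))) (Tr.nd (nat_lit 14) (Tr.nd (nat_lit 13) (Tr.lf (nat_lit 5)) (Tr.lf (nat_lit 1)))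 (Tr.nd (nat_lit 15) (Tr.lf (nat_lit 6)) (Tr.lf (nat_lit 2)))))) (Tr.nd (nat_lit 24) (Tr.nd (nat_lit 20) (Tr.nd (nat_lit 18) (Tr.nd (nat_lit 17) (Tr.lf (nat_lit 1)) (Tr.lf (nat_lit 5))) (Tr.nd (nat_lit 19) (Tr.lf (nat_lit 3)) (Tr.lf (nat_lit 2)))) (Tr.nd (nat_lit 22) (Tr.nd (nat_lit 21) (Tr.lf (nat_lit 0)) (Tr.lf (nat_lit 3))) (Tr.nd (nat_lit 23) (Tr.lf (nat_lit 0)) (Tr.lf (nat_lit 3))))) (Tr.nd (nat_lit 28) (Tr.nd (nat_lit 26) (Tr.nd (nat_lit 25) (Tr.lf (nat_lit 3)) (Tr.lf (nat_lit 3))) (Tr.nd (nat_lit 27) (Tr.lf (nat_lit 2)) (Tr.lf (nat_lit 2)))) (Tr.nd (nat_lit 30) (Tr.nd (nat_lit 29) (Tr.lf (nat_lit 0)) (Tr.lf (nat_lit 3))) (Tr.nd (nat_lit 31) (Tr.lf (nat_lit 2)) (Tr.nd (nat_lit 32) (Tr.lf (nat_lit 1)) (Tr.lf (nat_lit 6)))))))) (Tr.nd (nat_lit 50) (Tr.nd (nat_lit 41) (Tr.nd (nat_lit 37) (Tr.nd (nat_lit 35) (Tr.nd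 (nat_lit 34) (Tr.lf (nat_lit 0)) (Tr.lf (nat_lit 3))) (Tr.nd (nat_lit 36) (Tr.lf (nat_lit 2)) (Tr.lf (nat_lit 5)))) (Tr.nd (nat_lit 39) (Tr.nd (nat_lit 38) (Tr.lf (nat_lit 6)) (Tr.lf (nat_lit 0))) (Tr.nd (nat_lit 40) (Tr.lf (nat_lit 2)) (Tr.lf (nat_lit 2))))) (Tr.nd (nat_lit 45) (Tr.nd (nat_lit 43) (Tr.nd (nat_lit 42) (Tr.lf (nat_lit 2)) (Tr.lf (nat_lit 2))) (Tr.nd (nat_lit 44) (Tr.lf (nat_lit 1)) (Tr.lf (nat_lit 1)))) (Tr.nd (nat_lit 47) (Tr.nd (nat_lit 46) (Tr.lf (nat_lit 2)) (Tr.lf (nat_lit 1))) (Tr.nd (nat_lit 48) (Tr.lf (nat_lit 2)) (Tr.nd (nat_lit 49) (Tr.lf (nat_lit 3)) (Tr.lf (nat_lit 6))))))) (Tr.nd (nat_lit 58) (Tr.nd (nat_lit 54) (Tr.nd (nat_lit 52) (Tr.nd (nat_lit 51) (Tr.lf (nat_lit 2)) (Tr.lf (nat_lit 1))) (Tr.nd (nat_lit 53) (Tr.lf (nat_lit 5)) (Tr.lf (nat_lit 2)))) (Tr.nd (nat_lit 56) (Tr.nd (nat_lit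 55) (Tr.lf (nat_lit 1)) (Tr.lf (nat_lit 3))) (Tr.nd (nat_lit 57) (Tr.lf (nat_lit 0)) (Tr.lf (nat_lit 1))))) (Tr.nd (nat_lit 62) (Tr.nd (nat_lit 60) (Tr.nd (nat_lit 59) (Tr.lf (nat_lit 1)) (Tr.lf (nat_lit 1))) (Tr.nd (nat_lit 61) (Tr.lf (nat_lit 3)) (Tr.lf (nat_lit 1)))) (Tr.nd (nat_lit 64) (Tr.nd (nat_lit 63) (Tr.lf (nat_lit 3)) (Tr.lf (nat_lit 1))) (Tr.nd (nat_lit 65) (Tr.lf (nat_lit 1)) (Tr.nd (nat_lit 66) (Tr.lf (nat_lit 5)) (Tr.lf (nat_lit 0))))))))) (Tr.nd (nat_lit 100) (Tr.nd (nat_lit 83) (Tr.nd (nat_lit 75) (Tr.nd (nat_lit 71) (Tr.nd (nat_lit 69) (Tr.nd (nat_lit 68) (Tr.lf (nat_lit 0)) (Tr.lf (nat_lit 5))) (Tr.nd (nat_lit 70) (Tr.lf (nat_lit 6)) (Tr.lf (nat_lit 1)))) (Tr.nd (nat_lit 73) (Tr.nd (nat_lit 72) (Tr.lf (nat_lit 3)) (Tr.lf (nat_lit 3))) (Tr.nd (nat_lit 74) (Tr.lf (nat_lit 0)) (Tr.lf (nat_lit 5)))))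 (Tr.nd (nat_lit 79) (Tr.nd (nat_lit 77) (Tr.nd (nat_lit 76) (Tr.lf (nat_lit 3)) (Tr.lf (nat_lit 1))) (Tr.nd (nat_lit 78) (Tr.lf (nat_lit 6)) (Tr.lf (nat_lit 3)))) (Tr.nd (nat_lit 81) (Tr.nd (nat_lit 80) (Tr.lf (nat_lit 1)) (Tr.lf (nat_lit 1))) (Tr.nd (nat_lit 82) (Tr.lf (nat_lit 5)) (Tr.lf (nat_lit 6)))))) (Tr.nd (nat_lit 91) (Tr.nd (nat_lit 87) (Tr.nd (nat_lit 85) (Tr.nd (nat_lit 84) (Tr.lf (nat_lit 2)) (Tr.lf (nat_lit 0))) (Tr.nd (nat_lit 86) (Tr.lf (nat_lit 1)) (Tr.lf (nat_lit 5)))) (Tr.nd (nat_lit 89) (Tr.nd (nat_lit 88) (Tr.lf (nat_lit 1)) (Tr.lf (nat_lit 0))) (Tr.nd (nat_lit 90) (Tr.lf (nat_lit 2)) (Tr.lf (nat_lit 1))))) (Tr.nd (nat_lit 95) (Tr.nd (nat_lit 93) (Tr.nd (nat_lit 92) (Tr.lf (nat_lit 3)) (Tr.lf (nat_lit 0))) (Tr.nd (nat_lit 94) (Tr.lf (nat_lit 5)) (Tr.lf (nat_lit 5)))) (Tr.nd (nat_lit 97) (Tr.nd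 (nat_lit 96) (Tr.lf (nat_lit 3)) (Tr.lf (nat_lit 0))) (Tr.nd (nat_lit 98) (Tr.lf (nat_lit 0)) (Tr.nd (nat_lit 99) (Tr.lf (nat_lit 3)) (Tr.lf (nat_lit 6)))))))) (Tr.nd (nat_lit 117) (Tr.nd (nat_lit 108) (Tr.nd (nat_lit 104) (Tr.nd (nat_lit 102) (Tr.nd (nat_lit 101) (Tr.lf (nat_lit 0)) (Tr.lf (nat_lit 6))) (Tr.nd (nat_lit 103) (Tr.lf (nat_lit 0)) (Tr.lf (nat_lit 0)))) (Tr.nd (nat_lit 106) (Tr.nd (nat_lit 105) (Tr.lf (nat_lit 1)) (Tr.lf (nat_lit 6))) (Tr.nd (nat_lit 107) (Tr.lf (nat_lit 6)) (Tr.lf (nat_lit 1))))) (Tr.nd (nat_lit 112) (Tr.nd (nat_lit 110) (Tr.nd (nat_lit 109) (Tr.lf (nat_lit 6)) (Tr.lf (nat_lit 5))) (Tr.nd (nat_lit 111) (Tr.lf (nat_lit 3)) (Tr.lf (nat_lit 0)))) (Tr.nd (nat_lit 114) (Tr.nd (nat_lit 113) (Tr.lf (nat_lit 3)) (Tr.lf (nat_lit 1))) (Tr.nd (nat_lit 115) (Tr.lf (nat_lit 6)) (Tr.nd (nat_lit 116)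 (Tr.lf (nat_lit 2)) (Tr.lf (nat_lit 1))))))) (Tr.nd (nat_lit 125) (Tr.nd (nat_lit 121) (Tr.nd (nat_lit 119) (Tr.nd (nat_lit 118) (Tr.lf (nat_lit 1)) (Tr.lf (nat_lit 6))) (Tr.nd (nat_lit 120) (Tr.lf (nat_lit 2)) (Tr.lf (nat_lit 0)))) (Tr.nd (nat_lit 123) (Tr.nd (nat_lit 122) (Tr.lf (nat_lit 0)) (Tr.lf (nat_lit 6))) (Tr.nd (nat_lit 124) (Tr.lf (nat_lit 2)) (Tr.lf (nat_lit 6))))) (Tr.nd (nat_lit 129) (Tr.nd (nat_lit 127) (Tr.nd (nat_lit 126) (Tr.lf (nat_lit 0)) (Tr.lf (nat_lit 0))) (Tr.nd (nat_lit 128) (Tr.lf (nat_lit 5)) (Tr.lf (nat_lit 5)))) (Tr.nd (nat_lit 131) (Tr.nd (nat_lit 130) (Tr.lf (nat_lit 6)) (Tr.lf (nat_lit 0))) (Tr.nd (nat_lit 132) (Tr.lf (nat_lit 3)) (Tr.nd (nat_lit 133) (Tr.lf (nat_lit 5)) (Tr.lf (nat_lit 6)))))))))) (Tr.nd (nat_lit 201) (Tr.nd (nat_lit 167) (Tr.nd (nat_lit 150) (Tr.nd (nat_lit 142)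 (Tr.nd (nat_lit 138) (Tr.nd (nat_lit 136) (Tr.nd (nat_lit 135) (Tr.lf (nat_lit 3)) (Tr.lf (nat_lit 0))) (Tr.nd (nat_lit 137) (Tr.lf (nat_lit 0)) (Tr.lf (nat_lit 1)))) (Tr.nd (nat_lit 140) (Tr.nd (nat_lit 139) (Tr.lf (nat_lit 1)) (Tr.lf (nat_lit 3))) (Tr.nd (nat_lit 141) (Tr.lf (nat_lit 2)) (Tr.lf (nat_lit 3))))) (Tr.nd (nat_lit 146) (Tr.nd (nat_lit 144) (Tr.nd (nat_lit 143) (Tr.lf (nat_lit 1)) (Tr.lf (nat_lit 5))) (Tr.nd (nat_lit 145) (Tr.lf (nat_lit 6)) (Tr.lf (nat_lit 1)))) (Tr.nd (nat_lit 148) (Tr.nd (nat_lit 147) (Tr.lf (nat_lit 6)) (Tr.lf (nat_lit 6))) (Tr.nd (nat_lit 149) (Tr.lf (nat_lit 0)) (Tr.lf (nat_lit 0)))))) (Tr.nd (nat_lit 158) (Tr.nd (nat_lit 154) (Tr.nd (nat_lit 152) (Tr.nd (nat_lit 151) (Tr.lf (nat_lit 1)) (Tr.lf (nat_lit 0))) (Tr.nd (nat_lit 153) (Tr.lf (nat_lit 1)) (Tr.lf (nat_lit 1)))) (Tr.nd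 (nat_lit 156) (Tr.nd (nat_lit 155) (Tr.lf (nat_lit 2)) (Tr.lf (nat_lit 6))) (Tr.nd (nat_lit 157) (Tr.lf (nat_lit 1)) (Tr.lf (nat_lit 0))))) (Tr.nd (nat_lit 162) (Tr.nd (nat_lit 160) (Tr.nd (nat_lit 159) (Tr.lf (nat_lit 1)) (Tr.lf (nat_lit 6))) (Tr.nd (nat_lit 161) (Tr.lf (nat_lit 0)) (Tr.lf (nat_lit 2)))) (Tr.nd (nat_lit 164) (Tr.nd (nat_lit 163) (Tr.lf (nat_lit 5)) (Tr.lf (nat_lit 3))) (Tr.nd (nat_lit 165) (Tr.lf (nat_lit 1)) (Tr.nd (nat_lit 166) (Tr.lf (nat_lit 6)) (Tr.lf (nat_lit 2)))))))) (Tr.nd (nat_lit 184) (Tr.nd (nat_lit 175) (Tr.nd (nat_lit 171) (Tr.nd (nat_lit 169) (Tr.nd (nat_lit 168) (Tr.lf (nat_lit 1)) (Tr.lf (nat_lit 0))) (Tr.nd (nat_lit 170) (Tr.lf (nat_lit 6)) (Tr.lf (nat_lit 2)))) (Tr.nd (nat_lit 173) (Tr.nd (nat_lit 172) (Tr.lf (nat_lit 5)) (Tr.lf (nat_lit 2))) (Tr.nd (nat_lit 174) (Tr.lf (nat_lit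 3)) (Tr.lf (nat_lit 0))))) (Tr.nd (nat_lit 179) (Tr.nd (nat_lit 177) (Tr.nd (nat_lit 176) (Tr.lf (nat_lit 2)) (Tr.lf (nat_lit 6))) (Tr.nd (nat_lit 178) (Tr.lf (nat_lit 0)) (Tr.lf (nat_lit 0)))) (Tr.nd (nat_lit 181) (Tr.nd (nat_lit 180) (Tr.lf (nat_lit 2)) (Tr.lf (nat_lit 5))) (Tr.nd (nat_lit 182) (Tr.lf (nat_lit 1)) (Tr.nd (nat_lit 183) (Tr.lf (nat_lit 5)) (Tr.lf (nat_lit 1))))))) (Tr.nd (nat_lit 192) (Tr.nd (nat_lit 188) (Tr.nd (nat_lit 186) (Tr.nd (nat_lit 185) (Tr.lf (nat_lit 2)) (Tr.lf (nat_lit 6))) (Tr.nd (nat_lit 187) (Tr.lf (nat_lit 1)) (Tr.lf (nat_lit 1)))) (Tr.nd (nat_lit 190) (Tr.nd (nat_lit 189) (Tr.lf (nat_lit 1)) (Tr.lf (nat_lit 2))) (Tr.nd (nat_lit 191) (Tr.lf (nat_lit 1)) (Tr.lf (nat_lit 6))))) (Tr.nd (nat_lit 196) (Tr.nd (nat_lit 194) (Tr.nd (nat_lit 193) (Tr.lf (nat_lit 6)) (Tr.lf (nat_lit 0))) (Tr.nd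 (nat_lit 195) (Tr.lf (nat_lit 0)) (Tr.lf (nat_lit 6)))) (Tr.nd (nat_lit 198) (Tr.nd (nat_lit 197) (Tr.lf (nat_lit 1)) (Tr.lf (nat_lit 2))) (Tr.nd (nat_lit 199) (Tr.lf (nat_lit 0)) (Tr.nd (nat_lit 200) (Tr.lf (nat_lit 3)) (Tr.lf (nat_lit 0))))))))) (Tr.nd (nat_lit 235) (Tr.nd (nat_lit 218) (Tr.nd (nat_lit 209) (Tr.nd (nat_lit 205) (Tr.nd (nat_lit 203) (Tr.nd (nat_lit 202) (Tr.lf (nat_lit 1)) (Tr.lf (nat_lit 2))) (Tr.nd (nat_lit 204) (Tr.lf (nat_lit 0)) (Tr.lf (nat_lit 6)))) (Tr.nd (nat_lit 207) (Tr.nd (nat_lit 206) (Tr.lf (nat_lit 1)) (Tr.lf (nat_lit 0))) (Tr.nd (nat_lit 208) (Tr.lf (nat_lit 1)) (Tr.lf (nat_lit 6))))) (Tr.nd (nat_lit 213) (Tr.nd (nat_lit 211) (Tr.nd (nat_lit 210) (Tr.lf (nat_lit 1)) (Tr.lf (nat_lit 6))) (Tr.nd (nat_lit 212) (Tr.lf (nat_lit 5)) (Tr.lf (nat_lit 6)))) (Tr.nd (nat_lit 215) (Tr.nd (nat_lit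 214) (Tr.lf (nat_lit 0)) (Tr.lf (nat_lit 0))) (Tr.nd (nat_lit 216) (Tr.lf (nat_lit 1)) (Tr.nd (nat_lit 217) (Tr.lf (nat_lit 0)) (Tr.lf (nat_lit 2))))))) (Tr.nd (nat_lit 226) (Tr.nd (nat_lit 222) (Tr.nd (nat_lit 220) (Tr.nd (nat_lit 219) (Tr.lf (nat_lit 6)) (Tr.lf (nat_lit 0))) (Tr.nd (nat_lit 221) (Tr.lf (nat_lit 5)) (Tr.lf (nat_lit 2)))) (Tr.nd (nat_lit 224) (Tr.nd (nat_lit 223) (Tr.lf (nat_lit 2)) (Tr.lf (nat_lit 1))) (Tr.nd (nat_lit 225) (Tr.lf (nat_lit 6)) (Tr.lf (nat_lit 2))))) (Tr.nd (nat_lit 230) (Tr.nd (nat_lit 228) (Tr.nd (nat_lit 227) (Tr.lf (nat_lit 6)) (Tr.lf (nat_lit 2))) (Tr.nd (nat_lit 229) (Tr.lf (nat_lit 1)) (Tr.lf (nat_lit 6)))) (Tr.nd (nat_lit 232) (Tr.nd (nat_lit 231) (Tr.lf (nat_lit 1)) (Tr.lf (nat_lit 2))) (Tr.nd (nat_lit 233) (Tr.lf (nat_lit 6)) (Tr.nd (nat_lit 234) (Tr.lf (nat_lit 1)) (Tr.lf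 (nat_lit 1)))))))) (Tr.nd (nat_lit 252) (Tr.nd (nat_lit 243) (Tr.nd (nat_lit 239) (Tr.nd (nat_lit 237) (Tr.nd (nat_lit 236) (Tr.lf (nat_lit 6)) (Tr.lf (nat_lit 2))) (Tr.nd (nat_lit 238) (Tr.lf (nat_lit 5)) (Tr.lf (nat_lit 6)))) (Tr.nd (nat_lit 241) (Tr.nd (nat_lit 240) (Tr.lf (nat_lit 1)) (Tr.lf (nat_lit 1))) (Tr.nd (nat_lit 242) (Tr.lf (nat_lit 2)) (Tr.lf (nat_lit 2))))) (Tr.nd (nat_lit 247) (Tr.nd (nat_lit 245) (Tr.nd (nat_lit 244) (Tr.lf (nat_lit 1)) (Tr.lf (nat_lit 0))) (Tr.nd (nat_lit 246) (Tr.lf (nat_lit 5)) (Tr.lf (nat_lit 2)))) (Tr.nd (nat_lit 249) (Tr.nd (nat_lit 248) (Tr.lf (nat_lit 0)) (Tr.lf (nat_lit 6))) (Tr.nd (nat_lit 250) (Tr.lf (nat_lit 2)) (Tr.nd (nat_lit 251) (Tr.lf (nat_lit 2)) (Tr.lf (nat_lit 2))))))) (Tr.nd (nat_lit 260) (Tr.nd (nat_lit 256) (Tr.nd (nat_lit 254) (Tr.nd (nat_lit 253) (Tr.lf (nat_lit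 0)) (Tr.lf (nat_lit 6))) (Tr.nd (nat_lit 255) (Tr.lf (nat_lit 1)) (Tr.lf (nat_lit 0)))) (Tr.nd (nat_lit 258) (Tr.nd (nat_lit 257) (Tr.lf (nat_lit 6)) (Tr.lf (nat_lit 2))) (Tr.nd (nat_lit 259) (Tr.lf (nat_lit 6)) (Tr.lf (nat_lit 2))))) (Tr.nd (nat_lit 264) (Tr.nd (nat_lit 262) (Tr.nd (nat_lit 261) (Tr.lf (nat_lit 0)) (Tr.lf (nat_lit 6))) (Tr.nd (nat_lit 263) (Tr.lf (nat_lit 1)) (Tr.lf (nat_lit 5)))) (Tr.nd (nat_lit 266) (Tr.nd (nat_lit 265) (Tr.lf (nat_lit 2)) (Tr.lf (nat_lit 1))) (Tr.nd (nat_lit 267) (Tr.lf (nat_lit 1)) (Tr.nd (nat_lit 268) (Tr.lf (nat_lit 0)) (Tr.lf (nat_lit 1)))))))))))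
theorem mini2_alt : Tr.all (altChk idx inv RW (SW2)) mini2A = true := by decide +kernel
theorem mini2_chk : Tr.all (chkFc idx inv mini2S mini2A (fun b => Tr.find b mini2P) (fun b => Tr.find b mini2Q)) mini2S = true := by decide +kernel
theorem mini2_run : runM idx inv mini2S 597 0 [Mv.f (nat_lit 3), Mv.f (nat_lit 4), Mv.f (nat_lit 25), Mv.f (nat_lit 29), Mv.f (nat_lit 32), Mv.f (nat_lit 33), Mv.f (nat_lit 35), Mv.f (nat_lit 596), Mv.b (nat_lit 33), Mv.b (nat_lit 32), Mv.b (nat_lit 29), Mv.b (nat_lit 25), Mv.b (nat_lit 4), Mv.b (nat_lit 3)] [Col.g, Col.b, Col.c, Col.d, Col.f, Col.b, Col.g, Col.c, Col.b, Col.f, Col.d, Col.c, Col.b, Col.g] 0 = true := by decide +kernel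
theorem mini2_fix {G X : Type*} [Group G] [MulAction G X] (g : Col → G) (x0 : X) (hinv : ∀ c, g (inv c) = (g c)⁻¹)
    (hRW : ∀ w ∈ RW, gw g w = 1) (hSW : ∀ w ∈ SW2, gw g w • x0 = x0) : gw g [Col.g, Col.b, Col.c, Col.d, Col.f, Col.b, Col.g, Col.c, Col.b, Col.f, Col.d, Col.c, Col.b, Col.g] • x0 = x0 :=
  mini_sound g x0 dec hdec hinv
    (fun a ha => altChk_sound g x0 dec hdec hinv hRW hSW ((Tr.all_iff _ _).1 mini2_alt a ha)) mini2_chk mini2_run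
noncomputable def mini3S : Tr (Fc Col) := (Tr.nd (nat_lit 639) (Tr.nd (nat_lit 319) (Tr.nd (nat_lit 159) (Tr.nd (nat_lit 79) (Tr.nd (nat_lit 39) (Tr.nd (nat_lit 19) (Tr.nd (nat_lit 9) (Tr.nd (nat_lit 4) (Tr.nd (nat_lit 2) (Tr.nd (nat_lit 1) (Tr.lf (Fc.ed (nat_lit 0) (nat_lit 0) Col.b (nat_lit 0) (Dv.sb (nat_lit 0) [] []))) (Tr.lf (Fc.ed (nat_lit 1) (nat_lit 0) Col.c (nat_lit 0) (Dv.sb (nat_lit 1) [] [])))) (Tr.nd (nat_lit 3) (Tr.lf (Fc.ed (nat_lit 2) (nat_lit 0) Col.d (nat_lit 0) (Dv.sb (nat_lit 2) [] []))) (Tr.lf (Fc.ed (nat_lit 3) (nat_lit 0) Col.e (nat_lit 0) (Dv.sb (nat_lit 3) [] []))))) (Tr.nd (nat_lit 6) (Tr.nd (nat_lit 5) (Tr.lf (Fc.ed (nat_lit 4) (nat_lit 0) Col.g (nat_lit 1) Dv.df)) (Tr.lf (Fc.ed (nat_lit 5) (nat_lit 1) Col.b (nat_lit 2) Dv.df))) (Tr.nd (nat_lit 7) (Tr.lf (Fc.ed (nat_lit 6) (nat_lit 2) Col.a (nat_lit 3) Dv.df)) (Tr.nd (nat_lit 8) (Tr.lf (Fc.ed (nat_lit 7) (nat_lit 3) Col.f (nat_lit 4) Dv.df)) (Tr.lf (Fc.ed (nat_lit 8) (nat_lit 4) Col.b (nat_lit 3) (Dv.sb (nat_lit 4) [Mv.f (nat_lit 4), Mv.f (nat_lit 5), Mv.f (nat_lit 6), Mv.f (nat_lit 7)] [Mv.b (nat_lit 6), Mv.b (nat_lit 5), Mv.b (nat_lit 4)]))))))) (Tr.nd (nat_lit 14) (Tr.nd (nat_lit 11) (Tr.nd (nat_lit 10) (Tr.lf (Fc.ed (nat_lit 9) (nat_lit 4) Col.c (nat_lit 5) Dv.df)) (Tr.lf (Fc.ed (nat_lit 10) (nat_lit 5) Col.b (nat_lit 6) Dv.df))) (Tr.nd (nat_lit 12) (Tr.lf (Fc.ed (nat_lit 11) (nat_lit 6) Col.a (nat_lit 7) Dv.df)) (Tr.nd (nat_lit 13) (Tr.lf (Fc.ed (nat_lit 12) (nat_lit 7) Col.g (nat_lit 8) Dv.df)) (Tr.lf (Fc.ed (nat_lit 13) (nat_lit 8) Col.b (nat_lit 9) Dv.df))))) (Tr.nd (nat_lit 16) (Tr.nd (nat_lit 15) (Tr.lf (Fc.ed (nat_lit 14) (nat_lit 9) Col.c (nat_lit 3) (Dv.sb (nat_lit 5) [Mv.f (nat_lit 4), Mv.f (nat_lit 5), Mv.f (nat_lit 6), Mv.b (nat_lit 8), Mv.f (nat_lit 9), Mv.f (nat_lit 10), Mv.f (nat_lit 11), Mv.f (nat_lit 12), Mv.f (nat_lit 13)] [Mv.b (nat_lit 6), Mv.b (nat_lit 5), Mv.b (nat_lit 4)]))) (Tr.lf (Fc.ed (nat_lit 15) (nat_lit 2) Col.c (nat_lit 10) Dv.df))) (Tr.nd (nat_lit 17) (Tr.lf (Fc.ed (nat_lit 16) (nat_lit 10) Col.d (nat_lit 11) Dv.df)) (Tr.nd (nat_lit 18) (Tr.lf (Fc.ed (nat_lit 17) (nat_lit 11) Col.f (nat_lit 12) Dv.df)) (Tr.lf (Fc.ed (nat_lit 18) (nat_lit 12) Col.b (nat_lit 13) Dv.df))))))) (Tr.nd (nat_lit 29) (Tr.nd (nat_lit 24) (Tr.nd (nat_lit 21) (Tr.nd (nat_lit 20) (Tr.lf (Fc.ed (nat_lit 19) (nat_lit 13) Col.g (nat_lit 14) Dv.df)) (Tr.lf (Fc.ed (nat_lit 20) (nat_lit 14) Col.c (nat_lit 13) (Dv.sb (nat_lit 6) [Mv.f (nat_lit 4), Mv.f (nat_lit 5), Mv.f (nat_lit 15), Mv.f (nat_lit 16), Mv.f (nat_lit 17), Mv.f (nat_lit 18), Mv.f (nat_lit 19)] [Mv.b (nat_lit 18), Mv.b (nat_lit 17), Mv.b (nat_lit 16), Mv.b (nat_lit 15), Mv.b (nat_lit 5), Mv.b (nat_lit 4)])))) (Tr.nd (nat_lit 22) (Tr.lf (Fc.ed (nat_lit 21) (nat_lit 10) Col.a (nat_lit 9) (Dv.wd (nat_lit 7) [Mv.f (nat_lit 14), Mv.b (nat_lit 6), Mv.f (nat_lit 15)]))) (Tr.nd (nat_lit 23) (Tr.lf (Fc.ed (nat_lit 22) (nat_lit 5) Col.f (nat_lit 9) (Dv.wd (nat_lit 8) [Mv.f (nat_lit 14), Mv.f (nat_lit 7), Mv.f (nat_lit 9)]))) (Tr.lf (Fc.ed (nat_lit 23) (nat_lit 6) Col.c (nat_lit 8) (Dv.wd (nat_lit 9) [Mv.f (nat_lit 13), Mv.f (nat_lit 14), Mv.b (nat_lit 8), Mv.f (nat_lit 9), Mv.f (nat_lit 10)])))))) (Tr.nd (nat_lit 26) (Tr.nd (nat_lit 25) (Tr.lf (Fc.ed (nat_lit 24) (nat_lit 2) Col.g (nat_lit 2) (Dv.wd (nat_lit 10) [Mv.b (nat_lit 5), Mv.b (nat_lit 4), Mv.f (nat_lit 0), Mv.f (nat_lit 4), Mv.f (nat_lit 5)]))) (Tr.lf (Fc.ed (nat_lit 25) (nat_lit 10) Col.g (nat_lit 10) (Dv.wd (nat_lit 11) [Mv.b (nat_lit 15), Mv.f (nat_lit 24), Mv.f (nat_lit 15)])))) (Tr.nd (nat_lit 27) (Tr.lf (Fc.ed (nat_lit 26) (nat_lit 11) Col.g (nat_lit 11) (Dv.wd (nat_lit 12) [Mv.b (nat_lit 16), Mv.f (nat_lit 25), Mv.f (nat_lit 16)]))) (Tr.nd (nat_lit 28) (Tr.lf (Fc.ed (nat_lit 27) (nat_lit 1) Col.c (nat_lit 1) (Dv.wd (nat_lit 13) [Mv.b (nat_lit 4), Mv.f (nat_lit 1), Mv.f (nat_lit 4)]))) (Tr.lf (Fc.ed (nat_lit 28) (nat_lit 1) Col.d (nat_lit 1) (Dv.wd (nat_lit 14) [Mv.b (nat_lit 4), Mv.f (nat_lit 2), Mv.f (nat_lit 4)]))))))) (Tr.nd (nat_lit 34) (Tr.nd (nat_lit 31) (Tr.nd (nat_lit 30) (Tr.lf (Fc.ed (nat_lit 29) (nat_lit 1) Col.e (nat_lit 1) (Dv.wd (nat_lit 15) [Mv.b (nat_lit 4), Mv.f (nat_lit 3), Mv.f (nat_lit 4)]))) (Tr.lf (Fc.ed (nat_lit 30) (nat_lit 2) Col.e (nat_lit 2) (Dv.wd (nat_lit 16) [Mv.b (nat_lit 5), Mv.f (nat_lit 29), Mv.f (nat_lit 5)])))) (Tr.nd (nat_lit 32) (Tr.lf (Fc.ed (nat_lit 31) (nat_lit 10) Col.e (nat_lit 10) (Dv.wd (nat_lit 17) [Mv.b (nat_lit 15), Mv.f (nat_lit 30), Mv.f (nat_lit 15)]))) (Tr.nd (nat_lit 33) (Tr.lf (Fc.ed (nat_lit 32) (nat_lit 9) Col.e (nat_lit 9) (Dv.wd (nat_lit 18) [Mv.b (nat_lit 21), Mv.f (nat_lit 31), Mv.f (nat_lit 21)]))) (Tr.lf (Fc.ed (nat_lit 33) (nat_lit 8) Col.e (nat_lit 8) (Dv.wd (nat_lit 16) [Mv.f (nat_lit 13), Mv.f (nat_lit 32), Mv.b (nat_lit 13)])))))) (Tr.nd (nat_lit 36) (Tr.nd (nat_lit 35) (Tr.lf (Fc.ed (nat_lit 34) (nat_lit 5) Col.e (nat_lit 5) (Dv.wd (nat_lit 19) [Mv.f (nat_lit 22), Mv.f (nat_lit 32), Mv.b (nat_lit 22)]))) (Tr.lf (Fc.ed (nat_lit 35) (nat_lit 6) Col.e (nat_lit 6) (Dv.wd (nat_lit 16) [Mv.b (nat_lit 10), Mv.f (nat_lit 34), Mv.f (nat_lit 10)])))) (Tr.nd (nat_lit 37) (Tr.lf (Fc.ed (nat_lit 36) (nat_lit 2) Col.d (nat_lit 2) (Dv.wd (nat_lit 20) [Mv.b (nat_lit 5), Mv.f (nat_lit 28), Mv.f (nat_lit 5)]))) (Tr.nd (nat_lit 38) (Tr.lf (Fc.ed (nat_lit 37) (nat_lit 3) Col.d (nat_lit 3) (Dv.wd (nat_lit 21) [Mv.b (nat_lit 6), Mv.f (nat_lit 36), Mv.f (nat_lit 6)]))) (Tr.lf (Fc.ed (nat_lit 38) (nat_lit 4) Col.d (nat_lit 4) (Dv.wd (nat_lit 20) [Mv.f (nat_lit 8), Mv.f (nat_lit 37), Mv.b (nat_lit 8)]))))))))) (Tr.nd (nat_lit 59) (Tr.nd (nat_lit 49) (Tr.nd (nat_lit 44) (Tr.nd (nat_lit 41) (Tr.nd (nat_lit 40) (Tr.lf (Fc.ed (nat_lit 39) (nat_lit 10) Col.b (nat_lit 10) (Dv.wd (nat_lit 22) [Mv.b (nat_lit 15), Mv.b (nat_lit 5), Mv.f (nat_lit 27), Mv.f (nat_lit 5), Mv.f (nat_lit 15)]))) (Tr.lf (Fc.ed (nat_lit 40) (nat_lit 11) Col.b (nat_lit 11) (Dv.wd (nat_lit 23) [Mv.b (nat_lit 16), Mv.f (nat_lit 39), Mv.f (nat_lit 16)])))) (Tr.nd (nat_lit 42) (Tr.lf (Fc.ed (nat_lit 41) (nat_lit 13) Col.f (nat_lit 13) (Dv.wd (nat_lit 24) [Mv.b (nat_lit 18), Mv.b (nat_lit 17), Mv.f (nat_lit 40), Mv.f (nat_lit 17), Mv.f (nat_lit 18)]))) (Tr.nd (nat_lit 43) (Tr.lf (Fc.ed (nat_lit 42) (nat_lit 14) Col.f (nat_lit 14) (Dv.wd (nat_lit 25) [Mv.f (nat_lit 20), Mv.f (nat_lit 41), Mv.b (nat_lit 20)]))) (Tr.lf (Fc.ed (nat_lit 43) (nat_lit 13) Col.a (nat_lit 13) (Dv.wd (nat_lit 26) [Mv.f (nat_lit 41), Mv.f (nat_lit 19), Mv.f (nat_lit 42), Mv.b (nat_lit 19)])))))) (Tr.nd (nat_lit 46) (Tr.nd (nat_lit 45) (Tr.lf (Fc.ed (nat_lit 44) (nat_lit 14) Col.a (nat_lit 14) (Dv.wd (nat_lit 26) [Mv.f (nat_lit 42), Mv.b (nat_lit 19), Mv.f (nat_lit 41), Mv.f (nat_lit 19)]))) (Tr.lf (Fc.ed (nat_lit 45) (nat_lit 8) Col.d (nat_lit 15) Dv.df))) (Tr.nd (nat_lit 47) (Tr.lf (Fc.ed (nat_lit 46) (nat_lit 15) Col.e (nat_lit 16) Dv.df)) (Tr.nd (nat_lit 48) (Tr.lf (Fc.ed (nat_lit 47) (nat_lit 16) Col.d (nat_lit 16) (Dv.wd (nat_lit 27) [Mv.b (nat_lit 46), Mv.b (nat_lit 45), Mv.f (nat_lit 33), Mv.f (nat_lit 45), Mv.f (nat_lit 46)]))) (Tr.lf (Fc.ed (nat_lit 48) (nat_lit 16) Col.g (nat_lit 17) Dv.df)))))) (Tr.nd (nat_lit 54) (Tr.nd (nat_lit 51) (Tr.nd (nat_lit 50) (Tr.lf (Fc.ed (nat_lit 49) (nat_lit 17) Col.d (nat_lit 17) (Dv.wd (nat_lit 14) [Mv.b (nat_lit 48), Mv.f (nat_lit 47), Mv.f (nat_lit 48)]))) (Tr.lf (Fc.ed (nat_lit 50) (nat_lit 17) Col.f (nat_lit 18) Dv.df))) (Tr.nd (nat_lit 52) (Tr.lf (Fc.ed (nat_lit 51) (nat_lit 18) Col.b (nat_lit 19) Dv.df)) (Tr.nd (nat_lit 53) (Tr.lf (Fc.ed (nat_lit 52) (nat_lit 19) Col.c (nat_lit 20) Dv.df)) (Tr.lf (Fc.ed (nat_lit 53) (nat_lit 20) Col.d (nat_lit 21) Dv.df))))) (Tr.nd (nat_lit 56) (Tr.nd (nat_lit 55) (Tr.lf (Fc.ed (nat_lit 54) (nat_lit 21) Col.c (nat_lit 22) Dv.df)) (Tr.lf (Fc.ed (nat_lit 55) (nat_lit 22) Col.b (nat_lit 23) Dv.df))) (Tr.nd (nat_lit 57) (Tr.lf (Fc.ed (nat_lit 56) (nat_lit 23) Col.f (nat_lit 24) Dv.df)) (Tr.nd (nat_lit 58) (Tr.lf (Fc.ed (nat_lit 57) (nat_lit 4) Col.a (nat_lit 25) Dv.df)) (Tr.lf (Fc.ed (nat_lit 58) (nat_lit 25) Col.d (nat_lit 25) (Dv.wd (nat_lit 21) [Mv.b (nat_lit 57), Mv.f (nat_lit 38), Mv.f (nat_lit 57)])))))))) (Tr.nd (nat_lit 69) (Tr.nd (nat_lit 64) (Tr.nd (nat_lit 61) (Tr.nd (nat_lit 60) (Tr.lf (Fc.ed (nat_lit 59) (nat_lit 5) Col.a (nat_lit 26) Dv.df)) (Tr.lf (Fc.ed (nat_lit 60) (nat_lit 26) Col.c (nat_lit 25) (Dv.wd (nat_lit 28) [Mv.b (nat_lit 57), Mv.f (nat_lit 9), Mv.f (nat_lit 59)])))) (Tr.nd (nat_lit 62) (Tr.lf (Fc.ed (nat_lit 61) (nat_lit 26) Col.f (nat_lit 10) (Dv.wd (nat_lit 29) [Mv.f (nat_lit 21), Mv.b (nat_lit 22), Mv.f (nat_lit 59)]))) (Tr.nd (nat_lit 63) (Tr.lf (Fc.ed (nat_lit 62) (nat_lit 26) Col.g (nat_lit 5) (Dv.wd (nat_lit 30) [Mv.f (nat_lit 59), Mv.f (nat_lit 61), Mv.f (nat_lit 25), Mv.b (nat_lit 61)]))) (Tr.lf (Fc.ed (nat_lit 63) (nat_lit 12) Col.d (nat_lit 26) (Dv.wd (nat_lit 31) [Mv.f (nat_lit 61), Mv.f (nat_lit 16), Mv.f (nat_lit 17)])))))) (Tr.nd (nat_lit 66) (Tr.nd (nat_lit 65) (Tr.lf (Fc.ed (nat_lit 64) (nat_lit 12) Col.a (nat_lit 27) Dv.df)) (Tr.lf (Fc.ed (nat_lit 65) (nat_lit 27) Col.d (nat_lit 5) (Dv.wd (nat_lit 21) [Mv.f (nat_lit 59), Mv.b (nat_lit 63), Mv.f (nat_lit 64)])))) (Tr.nd (nat_lit 67) (Tr.lf (Fc.ed (nat_lit 66) (nat_lit 27) Col.g (nat_lit 12) (Dv.wd (nat_lit 32) [Mv.b (nat_lit 17), Mv.f (nat_lit 26), Mv.f (nat_lit 17), Mv.f (nat_lit 64)]))) (Tr.nd (nat_lit 68) (Tr.lf (Fc.ed (nat_lit 67) (nat_lit 11) Col.a (nat_lit 28) Dv.df)) (Tr.lf (Fc.ed (nat_lit 68) (nat_lit 28) Col.d (nat_lit 9) (Dv.wd (nat_lit 21) [Mv.b (nat_lit 21), Mv.f (nat_lit 16), Mv.f (nat_lit 67)]))))))) (Tr.nd (nat_lit 74) (Tr.nd (nat_lit 71) (Tr.nd (nat_lit 70) (Tr.lf (Fc.ed (nat_lit 69) (nat_lit 28) Col.f (nat_lit 27) (Dv.wd (nat_lit 29) [Mv.b (nat_lit 64), Mv.b (nat_lit 17), Mv.f (nat_lit 67)]))) (Tr.lf (Fc.ed (nat_lit 70) (nat_lit 28) Col.g (nat_lit 28) (Dv.wd (nat_lit 33) [Mv.b (nat_lit 67), Mv.f (nat_lit 26), Mv.f (nat_lit 67)])))) (Tr.nd (nat_lit 72) (Tr.lf (Fc.ed (nat_lit 71) (nat_lit 15) Col.b (nat_lit 28) (Dv.wd (nat_lit 23) [Mv.f (nat_lit 68), Mv.b (nat_lit 13), Mv.f (nat_lit 45)]))) (Tr.nd (nat_lit 73) (Tr.lf (Fc.ed (nat_lit 72) (nat_lit 26) Col.b (nat_lit 29) Dv.df)) (Tr.lf (Fc.ed (nat_lit 73) (nat_lit 29) Col.f (nat_lit 29) (Dv.wd (nat_lit 34) [Mv.b (nat_lit 72), Mv.f (nat_lit 61), Mv.f (nat_lit 39), Mv.b (nat_lit 61), Mv.f (nat_lit 72)])))))) (Tr.nd (nat_lit 76) (Tr.nd (nat_lit 75) (Tr.lf (Fc.ed (nat_lit 74) (nat_lit 17) Col.e (nat_lit 30) Dv.df)) (Tr.lf (Fc.ed (nat_lit 75) (nat_lit 30) Col.g (nat_lit 15) (Dv.wd (nat_lit 35) [Mv.f (nat_lit 46), Mv.f (nat_lit 48), Mv.f (nat_lit 74)])))) (Tr.nd (nat_lit 77) (Tr.lf (Fc.ed (nat_lit 76) (nat_lit 7) Col.d (nat_lit 30) (Dv.wd (nat_lit 36) [Mv.f (nat_lit 75), Mv.b (nat_lit 45), Mv.b (nat_lit 12)]))) (Tr.nd (nat_lit 78) (Tr.lf (Fc.ed (nat_lit 77) (nat_lit 30) Col.b (nat_lit 30) (Dv.wd (nat_lit 37) [Mv.f (nat_lit 75), Mv.f (nat_lit 71), Mv.f (nat_lit 70), Mv.b (nat_lit 71), Mv.b (nat_lit 75)]))) (Tr.lf (Fc.ed (nat_lit 78) (nat_lit 17) Col.b (nat_lit 17) (Dv.wd (nat_lit 38) [Mv.f (nat_lit 74), Mv.f (nat_lit 77), Mv.b (nat_lit 74)])))))))))) (Tr.nd (nat_lit 119) (Tr.nd (nat_lit 99) (Tr.nd (nat_lit 89) (Tr.nd (nat_lit 84) (Tr.nd (nat_lit 81) (Tr.nd (nat_lit 80) (Tr.lf (Fc.ed (nat_lit 79) (nat_lit 19) Col.f (nat_lit 19) (Dv.wd (nat_lit 24) [Mv.b (nat_lit 51), Mv.b (nat_lit 50), Mv.f (nat_lit 78), Mv.f (nat_lit 50), Mv.f (nat_lit 51)]))) (Tr.lf (Fc.ed (nat_lit 80) (nat_lit 20) Col.f (nat_lit 20) (Dv.wd (nat_lit 25) [Mv.b (nat_lit 52), Mv.f (nat_lit 79), Mv.f (nat_lit 52)])))) (Tr.nd (nat_lit 82) (Tr.lf (Fc.ed (nat_lit 81) (nat_lit 21) Col.f (nat_lit 21) (Dv.wd (nat_lit 39) [Mv.b (nat_lit 53), Mv.f (nat_lit 80), Mv.f (nat_lit 53)]))) (Tr.nd (nat_lit 83) (Tr.lf (Fc.ed (nat_lit 82) (nat_lit 22) Col.f (nat_lit 22) (Dv.wd (nat_lit 25) [Mv.b (nat_lit 54), Mv.f (nat_lit 81), Mv.f (nat_lit 54)]))) (Tr.lf (Fc.ed (nat_lit 83) (nat_lit 24) Col.b (nat_lit 24) (Dv.wd (nat_lit 40) [Mv.b (nat_lit 56), Mv.b (nat_lit 55), Mv.f (nat_lit 82), Mv.f (nat_lit 55), Mv.f (nat_lit 56)])))))) (Tr.nd (nat_lit 86) (Tr.nd (nat_lit 85) (Tr.lf (Fc.ed (nat_lit 84) (nat_lit 6) Col.g (nat_lit 31) Dv.df)) (Tr.lf (Fc.ed (nat_lit 85) (nat_lit 31) Col.a (nat_lit 8) (Dv.wd (nat_lit 41) [Mv.b (nat_lit 12), Mv.b (nat_lit 11), Mv.f (nat_lit 84)])))) (Tr.nd (nat_lit 87) (Tr.lf (Fc.ed (nat_lit 86) (nat_lit 31) Col.c (nat_lit 7) (Dv.wd (nat_lit 13) [Mv.f (nat_lit 12), Mv.b (nat_lit 23), Mv.f (nat_lit 84)]))) (Tr.nd (nat_lit 88) (Tr.lf (Fc.ed (nat_lit 87) (nat_lit 30) Col.f (nat_lit 32) Dv.df)) (Tr.lf (Fc.ed (nat_lit 88) (nat_lit 32) Col.e (nat_lit 18) (Dv.wd (nat_lit 42) [Mv.b (nat_lit 50), Mv.f (nat_lit 74), Mv.f (nat_lit 87)]))))))) (Tr.nd (nat_lit 94) (Tr.nd (nat_lit 91) (Tr.nd (nat_lit 90) (Tr.lf (Fc.ed (nat_lit 89) (nat_lit 6) Col.d (nat_lit 33) Dv.df)) (Tr.lf (Fc.ed (nat_lit 90) (nat_lit 33) Col.a (nat_lit 30) (Dv.wd (nat_lit 43) [Mv.b (nat_lit 76), Mv.b (nat_lit 11), Mv.f (nat_lit 89)])))) (Tr.nd (nat_lit 92) (Tr.lf (Fc.ed (nat_lit 91) (nat_lit 33) Col.b (nat_lit 27) (Dv.wd (nat_lit 44) [Mv.f (nat_lit 65), Mv.f (nat_lit 10), Mv.f (nat_lit 89)]))) (Tr.nd (nat_lit 93) (Tr.lf (Fc.ed (nat_lit 92) (nat_lit 33) Col.e (nat_lit 34) Dv.df)) (Tr.lf (Fc.ed (nat_lit 93) (nat_lit 34) Col.a (nat_lit 17) (Dv.wd (nat_lit 45) [Mv.f (nat_lit 74), Mv.b (nat_lit 90), Mv.f (nat_lit 92)])))))) (Tr.nd (nat_lit 96) (Tr.nd (nat_lit 95) (Tr.lf (Fc.ed (nat_lit 94) (nat_lit 34) Col.d (nat_lit 34) (Dv.wd (nat_lit 27) [Mv.b (nat_lit 92), Mv.b (nat_lit 89), Mv.f (nat_lit 35), Mv.f (nat_lit 89), Mv.f (nat_lit 92)]))) (Tr.lf (Fc.ed (nat_lit 95) (nat_lit 32) Col.a (nat_lit 35) Dv.df))) (Tr.nd (nat_lit 97) (Tr.lf (Fc.ed (nat_lit 96) (nat_lit 35) Col.f (nat_lit 33) (Dv.wd (nat_lit 29) [Mv.f (nat_lit 90), Mv.f (nat_lit 87), Mv.f (nat_lit 95)]))) (Tr.nd (nat_lit 98) (Tr.lf (Fc.ed (nat_lit 97) (nat_lit 35) Col.b (nat_lit 36) Dv.df)) (Tr.lf (Fc.ed (nat_lit 98) (nat_lit 36) Col.f (nat_lit 15) (Dv.wd (nat_lit 34) [Mv.f (nat_lit 71), Mv.f (nat_lit 69), Mv.b (nat_lit 91), Mv.b (nat_lit 96), Mv.f (nat_lit 97)])))))))) (Tr.nd (nat_lit 109) (Tr.nd (nat_lit 104) (Tr.nd (nat_lit 101) (Tr.nd (nat_lit 100) (Tr.lf (Fc.ed (nat_lit 99) (nat_lit 35) Col.g (nat_lit 36) (Dv.wd (nat_lit 46) [Mv.f (nat_lit 98), Mv.b (nat_lit 75), Mv.b (nat_lit 90), Mv.b (nat_lit 96)]))) (Tr.lf (Fc.ed (nat_lit 100) (nat_lit 32) Col.d (nat_lit 37) Dv.df))) (Tr.nd (nat_lit 102) (Tr.lf (Fc.ed (nat_lit 101) (nat_lit 37) Col.f (nat_lit 7) (Dv.wd (nat_lit 39) [Mv.f (nat_lit 76), Mv.f (nat_lit 87), Mv.f (nat_lit 100)]))) (Tr.nd (nat_lit 103) (Tr.lf (Fc.ed (nat_lit 102) (nat_lit 34) Col.g (nat_lit 38) Dv.df)) (Tr.lf (Fc.ed (nat_lit 103) (nat_lit 38) Col.a (nat_lit 16) (Dv.wd (nat_lit 41) [Mv.f (nat_lit 48), Mv.b (nat_lit 93), Mv.f (nat_lit 102)])))))) (Tr.nd (nat_lit 106) (Tr.nd (nat_lit 105) (Tr.lf (Fc.ed (nat_lit 104) (nat_lit 33) Col.g (nat_lit 39) Dv.df)) (Tr.lf (Fc.ed (nat_lit 105) (nat_lit 39) Col.a (nat_lit 15) (Dv.wd (nat_lit 41) [Mv.b (nat_lit 75), Mv.b (nat_lit 90), Mv.f (nat_lit 104)])))) (Tr.nd (nat_lit 107) (Tr.lf (Fc.ed (nat_lit 106) (nat_lit 39) Col.e (nat_lit 38) (Dv.wd (nat_lit 15) [Mv.b (nat_lit 102), Mv.b (nat_lit 92), Mv.f (nat_lit 104)]))) (Tr.nd (nat_lit 108) (Tr.lf (Fc.ed (nat_lit 107) (nat_lit 39) Col.b (nat_lit 14) (Dv.wd (nat_lit 47) [Mv.b (nat_lit 19), Mv.b (nat_lit 18), Mv.b (nat_lit 66), Mv.b (nat_lit 91), Mv.f (nat_lit 104)]))) (Tr.lf (Fc.ed (nat_lit 108) (nat_lit 36) Col.d (nat_lit 40) Dv.df)))))) (Tr.nd (nat_lit 114) (Tr.nd (nat_lit 111) (Tr.nd (nat_lit 110) (Tr.lf (Fc.ed (nat_lit 109) (nat_lit 40) Col.f (nat_lit 8) (Dv.wd (nat_lit 39) [Mv.f (nat_lit 45), Mv.b (nat_lit 98), Mv.f (nat_lit 108)]))) (Tr.lf (Fc.ed (nat_lit 110) (nat_lit 31) Col.b (nat_lit 41) Dv.df))) (Tr.nd (nat_lit 112) (Tr.lf (Fc.ed (nat_lit 111) (nat_lit 41) Col.g (nat_lit 29) (Dv.wd (nat_lit 10) [Mv.b (nat_lit 72), Mv.f (nat_lit 62), Mv.f (nat_lit 10), Mv.f (nat_lit 84), Mv.f (nat_lit 110)]))) (Tr.nd (nat_lit 113) (Tr.lf (Fc.ed (nat_lit 112) (nat_lit 41) Col.a (nat_lit 41) (Dv.wd (nat_lit 48) [Mv.b (nat_lit 110), Mv.f (nat_lit 85), Mv.f (nat_lit 13), Mv.b (nat_lit 21), Mv.f (nat_lit 39), Mv.f (nat_lit 21), Mv.b (nat_lit 13), Mv.b (nat_lit 85), Mv.f (nat_lit 110)]))) (Tr.lf (Fc.ed (nat_lit 113) (nat_lit 41) Col.f (nat_lit 41) (Dv.wd (nat_lit 49) [Mv.f (nat_lit 111), Mv.f (nat_lit 73), Mv.b (nat_lit 111), Mv.f (nat_lit 112)])))))) (Tr.nd (nat_lit 116) (Tr.nd (nat_lit 115) (Tr.lf (Fc.ed (nat_lit 114) (nat_lit 35) Col.e (nat_lit 42) Dv.df)) (Tr.lf (Fc.ed (nat_lit 115) (nat_lit 42) Col.a (nat_lit 18) (Dv.wd (nat_lit 45) [Mv.b (nat_lit 88), Mv.f (nat_lit 95), Mv.f (nat_lit 114)])))) (Tr.nd (nat_lit 117) (Tr.lf (Fc.ed (nat_lit 116) (nat_lit 42) Col.f (nat_lit 34) (Dv.wd (nat_lit 50) [Mv.b (nat_lit 92), Mv.b (nat_lit 96), Mv.f (nat_lit 114)]))) (Tr.nd (nat_lit 118) (Tr.lf (Fc.ed (nat_lit 117) (nat_lit 42) Col.d (nat_lit 42) (Dv.wd (nat_lit 31) [Mv.f (nat_lit 116), Mv.f (nat_lit 94), Mv.b (nat_lit 116)]))) (Tr.lf (Fc.ed (nat_lit 118) (nat_lit 18) Col.g (nat_lit 43) Dv.df)))))))) (Tr.nd (nat_lit 139) (Tr.nd (nat_lit 129) (Tr.nd (nat_lit 124) (Tr.nd (nat_lit 121) (Tr.nd (nat_lit 120) (Tr.lf (Fc.ed (nat_lit 119) (nat_lit 43) Col.f (nat_lit 38) (Dv.wd (nat_lit 51) [Mv.b (nat_lit 102), Mv.f (nat_lit 93), Mv.f (nat_lit 50), Mv.f (nat_lit 118)]))) (Tr.lf (Fc.ed (nat_lit 120) (nat_lit 40) Col.g (nat_lit 44) Dv.df))) (Tr.nd (nat_lit 122) (Tr.lf (Fc.ed (nat_lit 121) (nat_lit 44) Col.d (nat_lit 35) (Dv.wd (nat_lit 14) [Mv.f (nat_lit 99), Mv.f (nat_lit 108), Mv.f (nat_lit 120)]))) (Tr.nd (nat_lit 123) (Tr.lf (Fc.ed (nat_lit 122) (nat_lit 44) Col.f (nat_lit 6) (Dv.wd (nat_lit 51) [Mv.f (nat_lit 84), Mv.f (nat_lit 85), Mv.b (nat_lit 109), Mv.f (nat_lit 120)]))) (Tr.lf (Fc.ed (nat_lit 123) (nat_lit 40) Col.c (nat_lit 44) (Dv.wd (nat_lit 52) [Mv.f (nat_lit 122), Mv.f (nat_lit 23), Mv.b (nat_lit 109)])))))) (Tr.nd (nat_lit 126) (Tr.nd (nat_lit 125) (Tr.lf (Fc.ed (nat_lit 124) (nat_lit 42) Col.g (nat_lit 45) Dv.df)) (Tr.lf (Fc.ed (nat_lit 125) (nat_lit 45) Col.d (nat_lit 45) (Dv.wd (nat_lit 14) [Mv.b (nat_lit 124), Mv.f (nat_lit 117), Mv.f (nat_lit 124)])))) (Tr.nd (nat_lit 127) (Tr.lf (Fc.ed (nat_lit 126) (nat_lit 45) Col.e (nat_lit 36) (Dv.wd (nat_lit 15) [Mv.b (nat_lit 99), Mv.f (nat_lit 114), Mv.f (nat_lit 124)]))) (Tr.nd (nat_lit 128) (Tr.lf (Fc.ed (nat_lit 127) (nat_lit 45) Col.f (nat_lit 16) (Dv.wd (nat_lit 51) [Mv.f (nat_lit 48), Mv.b (nat_lit 93), Mv.b (nat_lit 116), Mv.f (nat_lit 124)]))) (Tr.lf (Fc.ed (nat_lit 128) (nat_lit 42) Col.b (nat_lit 45) (Dv.wd (nat_lit 38) [Mv.f (nat_lit 126), Mv.b (nat_lit 97), Mv.f (nat_lit 114)]))))))) (Tr.nd (nat_lit 134) (Tr.nd (nat_lit 131) (Tr.nd (nat_lit 130) (Tr.lf (Fc.ed (nat_lit 129) (nat_lit 31) Col.f (nat_lit 46) Dv.df)) (Tr.lf (Fc.ed (nat_lit 130) (nat_lit 46) Col.c (nat_lit 37) (Dv.wd (nat_lit 53) [Mv.f (nat_lit 101), Mv.b (nat_lit 86), Mv.f (nat_lit 129)])))) (Tr.nd (nat_lit 132) (Tr.lf (Fc.ed (nat_lit 131) (nat_lit 46) Col.b (nat_lit 46) (Dv.wd (nat_lit 54) [Mv.b (nat_lit 129), Mv.f (nat_lit 110), Mv.f (nat_lit 113), Mv.b (nat_lit 110), Mv.f (nat_lit 129)]))) (Tr.nd (nat_lit 133) (Tr.lf (Fc.ed (nat_lit 132) (nat_lit 39) Col.f (nat_lit 47) Dv.df)) (Tr.lf (Fc.ed (nat_lit 133) (nat_lit 47) Col.a (nat_lit 36) (Dv.wd (nat_lit 55) [Mv.f (nat_lit 98), Mv.b (nat_lit 105), Mv.f (nat_lit 132)])))))) (Tr.nd (nat_lit 136) (Tr.nd (nat_lit 135) (Tr.lf (Fc.ed (nat_lit 134) (nat_lit 47) Col.e (nat_lit 43) (Dv.wd (nat_lit 42) [Mv.f (nat_lit 119), Mv.b (nat_lit 106), Mv.f (nat_lit 132)]))) (Tr.lf (Fc.ed (nat_lit 135) (nat_lit 47) Col.b (nat_lit 47) (Dv.wd (nat_lit 54) [Mv.b (nat_lit 132), Mv.f (nat_lit 107), Mv.f (nat_lit 42), Mv.b (nat_lit 107), Mv.f (nat_lit 132)])))) (Tr.nd (nat_lit 137) (Tr.lf (Fc.ed (nat_lit 136) (nat_lit 43) Col.b (nat_lit 43) (Dv.wd (nat_lit 38) [Mv.b (nat_lit 134), Mv.f (nat_lit 135), Mv.f (nat_lit 134)]))) (Tr.nd (nat_lit 138) (Tr.lf (Fc.ed (nat_lit 137) (nat_lit 22) Col.e (nat_lit 48) Dv.df)) (Tr.lf (Fc.ed (nat_lit 138) (nat_lit 28) Col.e (nat_lit 49) Dv.df))))))) (Tr.nd (nat_lit 149) (Tr.nd (nat_lit 144) (Tr.nd (nat_lit 141) (Tr.nd (nat_lit 140) (Tr.lf (Fc.ed (nat_lit 139) (nat_lit 49) Col.b (nat_lit 16) (Dv.wd (nat_lit 56) [Mv.b (nat_lit 46), Mv.f (nat_lit 71), Mv.f (nat_lit 138)]))) (Tr.lf (Fc.ed (nat_lit 140) (nat_lit 49) Col.d (nat_lit 49) (Dv.wd (nat_lit 27) [Mv.b (nat_lit 138), Mv.f (nat_lit 68), Mv.f (nat_lit 32), Mv.b (nat_lit 68), Mv.f (nat_lit 138)])))) (Tr.nd (nat_lit 142) (Tr.lf (Fc.ed (nat_lit 141) (nat_lit 19) Col.e (nat_lit 50) Dv.df)) (Tr.nd (nat_lit 143) (Tr.lf (Fc.ed (nat_lit 142) (nat_lit 50) Col.b (nat_lit 32) (Dv.wd (nat_lit 56) [Mv.f (nat_lit 88), Mv.f (nat_lit 51), Mv.f (nat_lit 141)]))) (Tr.lf (Fc.ed (nat_lit 143) (nat_lit 12) Col.c (nat_lit 51) Dv.df))))) (Tr.nd (nat_lit 146) (Tr.nd (nat_lit 145) (Tr.lf (Fc.ed (nat_lit 144) (nat_lit 27) Col.c (nat_lit 52) Dv.df)) (Tr.lf (Fc.ed (nat_lit 145) (nat_lit 52) Col.a (nat_lit 51) (Dv.wd (nat_lit 7) [Mv.b (nat_lit 143), Mv.f (nat_lit 64), Mv.f (nat_lit 144)])))) (Tr.nd (nat_lit 147) (Tr.lf (Fc.ed (nat_lit 146) (nat_lit 52) Col.g (nat_lit 51) (Dv.wd (nat_lit 11) [Mv.b (nat_lit 143), Mv.b (nat_lit 66), Mv.f (nat_lit 144)]))) (Tr.nd (nat_lit 148) (Tr.lf (Fc.ed (nat_lit 147) (nat_lit 52) Col.d (nat_lit 51) (Dv.wd (nat_lit 57) [Mv.b (nat_lit 143), Mv.f (nat_lit 63), Mv.f (nat_lit 60), Mv.f (nat_lit 58), Mv.b (nat_lit 60), Mv.b (nat_lit 63), Mv.f (nat_lit 64), Mv.f (nat_lit 144)]))) (Tr.lf (Fc.ed (nat_lit 148) (nat_lit 34) Col.b (nat_lit 53) Dv.df)))))) (Tr.nd (nat_lit 154) (Tr.nd (nat_lit 151) (Tr.nd (nat_lit 150) (Tr.lf (Fc.ed (nat_lit 149) (nat_lit 53) Col.e (nat_lit 27) (Dv.wd (nat_lit 16) [Mv.b (nat_lit 91), Mv.f (nat_lit 92), Mv.f (nat_lit 148)]))) (Tr.lf (Fc.ed (nat_lit 150) (nat_lit 53) Col.f (nat_lit 49) (Dv.wd (nat_lit 34) [Mv.f (nat_lit 139), Mv.b (nat_lit 127), Mv.b (nat_lit 128), Mv.f (nat_lit 116), Mv.f (nat_lit 148)])))) (Tr.nd (nat_lit 152) (Tr.lf (Fc.ed (nat_lit 151) (nat_lit 11) Col.e (nat_lit 54) Dv.df)) (Tr.nd (nat_lit 153) (Tr.lf (Fc.ed (nat_lit 152) (nat_lit 54) Col.a (nat_lit 49) (Dv.wd (nat_lit 45) [Mv.b (nat_lit 138), Mv.b (nat_lit 67), Mv.f (nat_lit 151)]))) (Tr.lf (Fc.ed (nat_lit 153) (nat_lit 54) Col.b (nat_lit 54) (Dv.wd (nat_lit 56) [Mv.b (nat_lit 151), Mv.f (nat_lit 40), Mv.f (nat_lit 151)])))))) (Tr.nd (nat_lit 156) (Tr.nd (nat_lit 155) (Tr.lf (Fc.ed (nat_lit 154) (nat_lit 54) Col.d (nat_lit 54) (Dv.wd (nat_lit 27) [Mv.b (nat_lit 151), Mv.b (nat_lit 16), Mv.f (nat_lit 31), Mv.f (nat_lit 16), Mv.f (nat_lit 151)]))) (Tr.lf (Fc.ed (nat_lit 155) (nat_lit 12) Col.e (nat_lit 55) Dv.df))) (Tr.nd (nat_lit 157) (Tr.lf (Fc.ed (nat_lit 156) (nat_lit 55) Col.a (nat_lit 53) (Dv.wd (nat_lit 45) [Mv.f (nat_lit 149), Mv.b (nat_lit 64), Mv.f (nat_lit 155)]))) (Tr.nd (nat_lit 158) (Tr.lf (Fc.ed (nat_lit 157) (nat_lit 55) Col.f (nat_lit 54) (Dv.wd (nat_lit 50) [Mv.b (nat_lit 151), Mv.f (nat_lit 17), Mv.f (nat_lit 155)]))) (Tr.lf (Fc.ed (nat_lit 158) (nat_lit 48) Col.c (nat_lit 56) Dv.df)))))))))) (Tr.nd (nat_lit 239) (Tr.nd (nat_lit 199) (Tr.nd (nat_lit 179) (Tr.nd (nat_lit 169) (Tr.nd (nat_lit 164) (Tr.nd (nat_lit 161) (Tr.nd (nat_lit 160) (Tr.lf (Fc.ed (nat_lit 159) (nat_lit 56) Col.e (nat_lit 21) (Dv.wd (nat_lit 17) [Mv.f (nat_lit 54), Mv.f (nat_lit 137), Mv.f (nat_lit 158)]))) (Tr.lf (Fc.ed (nat_lit 160) (nat_lit 20) Col.e (nat_lit 57) Dv.df))) (Tr.nd (nat_lit 162) (Tr.lf (Fc.ed (nat_lit 161) (nat_lit 57) Col.c (nat_lit 50) (Dv.wd (nat_lit 58) [Mv.b (nat_lit 141), Mv.f (nat_lit 52), Mv.f (nat_lit 160)]))) (Tr.nd (nat_lit 163) (Tr.lf (Fc.ed (nat_lit 162) (nat_lit 39) Col.c (nat_lit 58) Dv.df)) (Tr.lf (Fc.ed (nat_lit 163) (nat_lit 58) Col.b (nat_lit 51) (Dv.wd (nat_lit 59) [Mv.b (nat_lit 143), Mv.f (nat_lit 18), Mv.b (nat_lit 20), Mv.b (nat_lit 107), Mv.f (nat_lit 162)])))))) (Tr.nd (nat_lit 166) (Tr.nd (nat_lit 165) (Tr.lf (Fc.ed (nat_lit 164) (nat_lit 52) Col.f (nat_lit 59) Dv.df)) (Tr.lf (Fc.ed (nat_lit 165) (nat_lit 59) Col.c (nat_lit 28) (Dv.wd (nat_lit 53) [Mv.f (nat_lit 69), Mv.f (nat_lit 144), Mv.f (nat_lit 164)])))) (Tr.nd (nat_lit 167) (Tr.lf (Fc.ed (nat_lit 166) (nat_lit 59) Col.g (nat_lit 59) (Dv.wd (nat_lit 46) [Mv.b (nat_lit 164), Mv.f (nat_lit 146), Mv.b (nat_lit 145), Mv.f (nat_lit 164)]))) (Tr.nd (nat_lit 168) (Tr.lf (Fc.ed (nat_lit 167) (nat_lit 59) Col.d (nat_lit 60) Dv.df)) (Tr.lf (Fc.ed (nat_lit 168) (nat_lit 60) Col.f (nat_lit 51) (Dv.wd (nat_lit 39) [Mv.b (nat_lit 147), Mv.f (nat_lit 164), Mv.f (nat_lit 167)]))))))) (Tr.nd (nat_lit 174) (Tr.nd (nat_lit 171) (Tr.nd (nat_lit 170) (Tr.lf (Fc.ed (nat_lit 169) (nat_lit 60) Col.g (nat_lit 60) (Dv.wd (nat_lit 12) [Mv.b (nat_lit 167), Mv.f (nat_lit 166), Mv.f (nat_lit 167)]))) (Tr.lf (Fc.ed (nat_lit 170) (nat_lit 60) Col.c (nat_lit 11) (Dv.wd (nat_lit 60) [Mv.b (nat_lit 16), Mv.b (nat_lit 15), Mv.f (nat_lit 36), Mv.f (nat_lit 15), Mv.f (nat_lit 16), Mv.f (nat_lit 67), Mv.b (nat_lit 165), Mv.f (nat_lit 167)])))) (Tr.nd (nat_lit 172) (Tr.lf (Fc.ed (nat_lit 171) (nat_lit 60) Col.a (nat_lit 59) (Dv.wd (nat_lit 61) [Mv.f (nat_lit 165), Mv.f (nat_lit 68), Mv.f (nat_lit 14), Mv.f (nat_lit 37), Mv.b (nat_lit 14), Mv.b (nat_lit 68), Mv.b (nat_lit 165), Mv.f (nat_lit 167)]))) (Tr.nd (nat_lit 173) (Tr.lf (Fc.ed (nat_lit 172) (nat_lit 53) Col.c (nat_lit 61) Dv.df)) (Tr.lf (Fc.ed (nat_lit 173) (nat_lit 61) Col.e (nat_lit 52) (Dv.wd (nat_lit 17) [Mv.b (nat_lit 144), Mv.b (nat_lit 149), Mv.f (nat_lit 172)])))))) (Tr.nd (nat_lit 176) (Tr.nd (nat_lit 175) (Tr.lf (Fc.ed (nat_lit 174) (nat_lit 55) Col.c (nat_lit 62) Dv.df)) (Tr.lf (Fc.ed (nat_lit 175) (nat_lit 62) Col.a (nat_lit 61) (Dv.wd (nat_lit 7) [Mv.b (nat_lit 172), Mv.b (nat_lit 156), Mv.f (nat_lit 174)])))) (Tr.nd (nat_lit 177) (Tr.lf (Fc.ed (nat_lit 176) (nat_lit 62) Col.e (nat_lit 51) (Dv.wd (nat_lit 17) [Mv.b (nat_lit 143), Mv.f (nat_lit 155), Mv.f (nat_lit 174)]))) (Tr.nd (nat_lit 178) (Tr.lf (Fc.ed (nat_lit 177) (nat_lit 13) Col.e (nat_lit 63) Dv.df)) (Tr.lf (Fc.ed (nat_lit 178) (nat_lit 63) Col.a (nat_lit 63) (Dv.wd (nat_lit 45) [Mv.b (nat_lit 177), Mv.f (nat_lit 43), Mv.f (nat_lit 177)])))))))) (Tr.nd (nat_lit 189) (Tr.nd (nat_lit 184) (Tr.nd (nat_lit 181) (Tr.nd (nat_lit 180) (Tr.lf (Fc.ed (nat_lit 179) (nat_lit 63) Col.b (nat_lit 55) (Dv.wd (nat_lit 56) [Mv.b (nat_lit 155), Mv.f (nat_lit 18), Mv.f (nat_lit 177)]))) (Tr.lf (Fc.ed (nat_lit 180) (nat_lit 63) Col.f (nat_lit 63) (Dv.wd (nat_lit 50) [Mv.b (nat_lit 177), Mv.f (nat_lit 41), Mv.f (nat_lit 177)])))) (Tr.nd (nat_lit 182) (Tr.lf (Fc.ed (nat_lit 181) (nat_lit 14) Col.e (nat_lit 64) Dv.df)) (Tr.nd (nat_lit 183) (Tr.lf (Fc.ed (nat_lit 182) (nat_lit 64) Col.a (nat_lit 64) (Dv.wd (nat_lit 45) [Mv.b (nat_lit 181), Mv.f (nat_lit 44), Mv.f (nat_lit 181)]))) (Tr.lf (Fc.ed (nat_lit 183) (nat_lit 64) Col.b (nat_lit 38) (Dv.wd (nat_lit 56) [Mv.b (nat_lit 106), Mv.f (nat_lit 107), Mv.f (nat_lit 181)])))))) (Tr.nd (nat_lit 186) (Tr.nd (nat_lit 185) (Tr.lf (Fc.ed (nat_lit 184) (nat_lit 64) Col.c (nat_lit 63) (Dv.wd (nat_lit 58) [Mv.b (nat_lit 177), Mv.b (nat_lit 20), Mv.f (nat_lit 181)]))) (Tr.lf (Fc.ed (nat_lit 185) (nat_lit 64) Col.f (nat_lit 64) (Dv.wd (nat_lit 50) [Mv.b (nat_lit 181), Mv.f (nat_lit 42), Mv.f (nat_lit 181)])))) (Tr.nd (nat_lit 187) (Tr.lf (Fc.ed (nat_lit 186) (nat_lit 47) Col.c (nat_lit 65) Dv.df)) (Tr.nd (nat_lit 188) (Tr.lf (Fc.ed (nat_lit 187) (nat_lit 65) Col.f (nat_lit 58) (Dv.wd (nat_lit 25) [Mv.b (nat_lit 162), Mv.f (nat_lit 132), Mv.f (nat_lit 186)]))) (Tr.lf (Fc.ed (nat_lit 188) (nat_lit 65) Col.a (nat_lit 66) Dv.df)))))) (Tr.nd (nat_lit 194) (Tr.nd (nat_lit 191) (Tr.nd (nat_lit 190) (Tr.lf (Fc.ed (nat_lit 189) (nat_lit 66) Col.c (nat_lit 36) (Dv.wd (nat_lit 28) [Mv.b (nat_lit 133), Mv.f (nat_lit 186), Mv.f (nat_lit 188)]))) (Tr.lf (Fc.ed (nat_lit 190) (nat_lit 15) Col.c (nat_lit 67) Dv.df))) (Tr.nd (nat_lit 192) (Tr.lf (Fc.ed (nat_lit 191) (nat_lit 67) Col.a (nat_lit 58) (Dv.wd (nat_lit 7) [Mv.b (nat_lit 162), Mv.f (nat_lit 105), Mv.f (nat_lit 190)]))) (Tr.nd (nat_lit 193) (Tr.lf (Fc.ed (nat_lit 192) (nat_lit 67) Col.f (nat_lit 66) (Dv.wd (nat_lit 25) [Mv.f (nat_lit 189), Mv.f (nat_lit 98), Mv.f (nat_lit 190)]))) (Tr.lf (Fc.ed (nat_lit 193) (nat_lit 60) Col.e (nat_lit 68) Dv.df))))) (Tr.nd (nat_lit 196) (Tr.nd (nat_lit 195) (Tr.lf (Fc.ed (nat_lit 194) (nat_lit 68) Col.c (nat_lit 54) (Dv.wd (nat_lit 58) [Mv.b (nat_lit 151), Mv.b (nat_lit 170), Mv.f (nat_lit 193)]))) (Tr.lf (Fc.ed (nat_lit 195) (nat_lit 68) Col.f (nat_lit 62) (Dv.wd (nat_lit 50) [Mv.f (nat_lit 176), Mv.b (nat_lit 168), Mv.f (nat_lit 193)])))) (Tr.nd (nat_lit 197) (Tr.lf (Fc.ed (nat_lit 196) (nat_lit 68) Col.g (nat_lit 68) (Dv.wd (nat_lit 35) [Mv.b (nat_lit 193), Mv.f (nat_lit 169), Mv.f (nat_lit 193)]))) (Tr.nd (nat_lit 198) (Tr.lf (Fc.ed (nat_lit 197) (nat_lit 16) Col.c (nat_lit 69) Dv.df)) (Tr.lf (Fc.ed (nat_lit 198) (nat_lit 69) Col.e (nat_lit 67) (Dv.wd (nat_lit 17) [Mv.b (nat_lit 190), Mv.f (nat_lit 46), Mv.f (nat_lit 197)]))))))))) (Tr.nd (nat_lit 219) (Tr.nd (nat_lit 209) (Tr.nd (nat_lit 204) (Tr.nd (nat_lit 201) (Tr.nd (nat_lit 200) (Tr.lf (Fc.ed (nat_lit 199) (nat_lit 43) Col.c (nat_lit 70) Dv.df)) (Tr.lf (Fc.ed (nat_lit 200) (nat_lit 70) Col.e (nat_lit 65) (Dv.wd (nat_lit 17) [Mv.b (nat_lit 186), Mv.f (nat_lit 134), Mv.f (nat_lit 199)])))) (Tr.nd (nat_lit 202) (Tr.lf (Fc.ed (nat_lit 201) (nat_lit 66) Col.g (nat_lit 71) Dv.df)) (Tr.nd (nat_lit 203) (Tr.lf (Fc.ed (nat_lit 202) (nat_lit 71) Col.c (nat_lit 35) (Dv.wd (nat_lit 13) [Mv.f (nat_lit 99), Mv.b (nat_lit 189), Mv.f (nat_lit 201)]))) (Tr.lf (Fc.ed (nat_lit 203) (nat_lit 59) Col.e (nat_lit 72) Dv.df))))) (Tr.nd (nat_lit 206) (Tr.nd (nat_lit 205) (Tr.lf (Fc.ed (nat_lit 204) (nat_lit 72) Col.a (nat_lit 68) (Dv.wd (nat_lit 45) [Mv.b (nat_lit 193), Mv.f (nat_lit 171), Mv.f (nat_lit 203)]))) (Tr.lf (Fc.ed (nat_lit 205) (nat_lit 72) Col.c (nat_lit 49) (Dv.wd (nat_lit 58) [Mv.b (nat_lit 138), Mv.b (nat_lit 165), Mv.f (nat_lit 203)])))) (Tr.nd (nat_lit 207) (Tr.lf (Fc.ed (nat_lit 206) (nat_lit 72) Col.f (nat_lit 61) (Dv.wd (nat_lit 50) [Mv.f (nat_lit 173), Mv.f (nat_lit 164), Mv.f (nat_lit 203)]))) (Tr.nd (nat_lit 208) (Tr.lf (Fc.ed (nat_lit 207) (nat_lit 58) Col.g (nat_lit 73) Dv.df)) (Tr.lf (Fc.ed (nat_lit 208) (nat_lit 73) Col.c (nat_lit 33) (Dv.wd (nat_lit 13) [Mv.f (nat_lit 104), Mv.f (nat_lit 162), Mv.f (nat_lit 207)]))))))) (Tr.nd (nat_lit 214) (Tr.nd (nat_lit 211) (Tr.nd (nat_lit 210) (Tr.lf (Fc.ed (nat_lit 209) (nat_lit 73) Col.f (nat_lit 71) (Dv.wd (nat_lit 51) [Mv.b (nat_lit 201), Mv.b (nat_lit 188), Mv.f (nat_lit 187), Mv.f (nat_lit 207)]))) (Tr.lf (Fc.ed (nat_lit 210) (nat_lit 73) Col.a (nat_lit 74) Dv.df))) (Tr.nd (nat_lit 212) (Tr.lf (Fc.ed (nat_lit 211) (nat_lit 74) Col.c (nat_lit 30) (Dv.wd (nat_lit 28) [Mv.b (nat_lit 90), Mv.b (nat_lit 208), Mv.f (nat_lit 210)]))) (Tr.nd (nat_lit 213) (Tr.lf (Fc.ed (nat_lit 212) (nat_lit 74) Col.g (nat_lit 67) (Dv.wd (nat_lit 33) [Mv.f (nat_lit 191), Mv.f (nat_lit 207), Mv.f (nat_lit 210)]))) (Tr.lf (Fc.ed (nat_lit 213) (nat_lit 52) Col.b (nat_lit 75) Dv.df))))) (Tr.nd (nat_lit 216) (Tr.nd (nat_lit 215) (Tr.lf (Fc.ed (nat_lit 214) (nat_lit 75) Col.d (nat_lit 58) (Dv.wd (nat_lit 20) [Mv.f (nat_lit 163), Mv.b (nat_lit 147), Mv.f (nat_lit 213)]))) (Tr.lf (Fc.ed (nat_lit 215) (nat_lit 75) Col.g (nat_lit 76) Dv.df))) (Tr.nd (nat_lit 217) (Tr.lf (Fc.ed (nat_lit 216) (nat_lit 76) Col.d (nat_lit 73) (Dv.wd (nat_lit 14) [Mv.b (nat_lit 207), Mv.b (nat_lit 214), Mv.f (nat_lit 215)]))) (Tr.nd (nat_lit 218) (Tr.lf (Fc.ed (nat_lit 217) (nat_lit 76) Col.b (nat_lit 73) (Dv.wd (nat_lit 47) [Mv.b (nat_lit 207), Mv.f (nat_lit 163), Mv.b (nat_lit 146), Mv.f (nat_lit 213), Mv.f (nat_lit 215)]))) (Tr.lf (Fc.ed (nat_lit 218) (nat_lit 75) Col.c (nat_lit 76) (Dv.wd (nat_lit 62) [Mv.f (nat_lit 217), Mv.f (nat_lit 208), Mv.f (nat_lit 91), Mv.f (nat_lit 144), Mv.f (nat_lit 213)])))))))) (Tr.nd (nat_lit 229) (Tr.nd (nat_lit 224) (Tr.nd (nat_lit 221) (Tr.nd (nat_lit 220) (Tr.lf (Fc.ed (nat_lit 219) (nat_lit 74) Col.f (nat_lit 77) Dv.df)) (Tr.lf (Fc.ed (nat_lit 220) (nat_lit 77) Col.a (nat_lit 71) (Dv.wd (nat_lit 55) [Mv.b (nat_lit 209), Mv.f (nat_lit 210), Mv.f (nat_lit 219)])))) (Tr.nd (nat_lit 222) (Tr.lf (Fc.ed (nat_lit 221) (nat_lit 77) Col.c (nat_lit 32) (Dv.wd (nat_lit 53) [Mv.b (nat_lit 87), Mv.b (nat_lit 211), Mv.f (nat_lit 219)]))) (Tr.nd (nat_lit 223) (Tr.lf (Fc.ed (nat_lit 222) (nat_lit 77) Col.g (nat_lit 65) (Dv.wd (nat_lit 46) [Mv.f (nat_lit 187), Mv.f (nat_lit 207), Mv.f (nat_lit 210), Mv.f (nat_lit 219)]))) (Tr.lf (Fc.ed (nat_lit 223) (nat_lit 58) Col.e (nat_lit 78) Dv.df))))) (Tr.nd (nat_lit 226) (Tr.nd (nat_lit 225) (Tr.lf (Fc.ed (nat_lit 224) (nat_lit 78) Col.a (nat_lit 69) (Dv.wd (nat_lit 45) [Mv.f (nat_lit 198), Mv.f (nat_lit 191), Mv.f (nat_lit 223)]))) (Tr.lf (Fc.ed (nat_lit 225) (nat_lit 78) Col.b (nat_lit 62) (Dv.wd (nat_lit 56) [Mv.f (nat_lit 176), Mv.b (nat_lit 163), Mv.f (nat_lit 223)])))) (Tr.nd (nat_lit 227) (Tr.lf (Fc.ed (nat_lit 226) (nat_lit 78) Col.c (nat_lit 38) (Dv.wd (nat_lit 58) [Mv.b (nat_lit 106), Mv.f (nat_lit 162), Mv.f (nat_lit 223)]))) (Tr.nd (nat_lit 228) (Tr.lf (Fc.ed (nat_lit 227) (nat_lit 78) Col.f (nat_lit 70) (Dv.wd (nat_lit 50) [Mv.f (nat_lit 200), Mv.f (nat_lit 187), Mv.f (nat_lit 223)]))) (Tr.lf (Fc.ed (nat_lit 228) (nat_lit 17) Col.c (nat_lit 79) Dv.df)))))) (Tr.nd (nat_lit 234) (Tr.nd (nat_lit 231) (Tr.nd (nat_lit 230) (Tr.lf (Fc.ed (nat_lit 229) (nat_lit 79) Col.e (nat_lit 74) (Dv.wd (nat_lit 17) [Mv.f (nat_lit 211), Mv.b (nat_lit 74), Mv.f (nat_lit 228)]))) (Tr.lf (Fc.ed (nat_lit 230) (nat_lit 79) Col.g (nat_lit 69) (Dv.wd (nat_lit 11) [Mv.b (nat_lit 197), Mv.f (nat_lit 48), Mv.f (nat_lit 228)])))) (Tr.nd (nat_lit 232) (Tr.lf (Fc.ed (nat_lit 231) (nat_lit 65) Col.d (nat_lit 80) Dv.df)) (Tr.nd (nat_lit 233) (Tr.lf (Fc.ed (nat_lit 232) (nat_lit 80) Col.f (nat_lit 75) (Dv.wd (nat_lit 39) [Mv.f (nat_lit 214), Mv.b (nat_lit 187), Mv.f (nat_lit 231)]))) (Tr.lf (Fc.ed (nat_lit 233) (nat_lit 80) Col.c (nat_lit 81) Dv.df))))) (Tr.nd (nat_lit 236) (Tr.nd (nat_lit 235) (Tr.lf (Fc.ed (nat_lit 234) (nat_lit 81) Col.f (nat_lit 76) (Dv.wd (nat_lit 25) [Mv.b (nat_lit 218), Mv.b (nat_lit 232), Mv.f (nat_lit 233)]))) (Tr.lf (Fc.ed (nat_lit 235) (nat_lit 81) Col.d (nat_lit 71) (Dv.wd (nat_lit 63) [Mv.f (nat_lit 202), Mv.b (nat_lit 121), Mv.b (nat_lit 123), Mv.b (nat_lit 108), Mv.b (nat_lit 133), Mv.f (nat_lit 186), Mv.f (nat_lit 231), Mv.f (nat_lit 233)])))) (Tr.nd (nat_lit 237) (Tr.lf (Fc.ed (nat_lit 236) (nat_lit 77) Col.e (nat_lit 82) Dv.df)) (Tr.nd (nat_lit 238) (Tr.lf (Fc.ed (nat_lit 237) (nat_lit 82) Col.c (nat_lit 18) (Dv.wd (nat_lit 58) [Mv.b (nat_lit 88), Mv.b (nat_lit 221), Mv.f (nat_lit 236)]))) (Tr.lf (Fc.ed (nat_lit 238) (nat_lit 82) Col.f (nat_lit 79) (Dv.wd (nat_lit 50) [Mv.f (nat_lit 229), Mv.f (nat_lit 219), Mv.f (nat_lit 236)])))))))))) (Tr.nd (nat_lit 279) (Tr.nd (nat_lit 259) (Tr.nd (nat_lit 249) (Tr.nd (nat_lit 244) (Tr.nd (nat_lit 241) (Tr.nd (nat_lit 240) (Tr.lf (Fc.ed (nat_lit 239) (nat_lit 82) Col.g (nat_lit 70) (Dv.wd (nat_lit 35) [Mv.f (nat_lit 200), Mv.b (nat_lit 222), Mv.f (nat_lit 236)]))) (Tr.lf (Fc.ed (nat_lit 240) (nat_lit 69) Col.f (nat_lit 83) Dv.df))) (Tr.nd (nat_lit 242) (Tr.lf (Fc.ed (nat_lit 241) (nat_lit 83) Col.a (nat_lit 70) (Dv.wd (nat_lit 55) [Mv.b (nat_lit 227), Mv.f (nat_lit 224), Mv.f (nat_lit 240)]))) (Tr.nd (nat_lit 243) (Tr.lf (Fc.ed (nat_lit 242) (nat_lit 83) Col.c (nat_lit 45) (Dv.wd (nat_lit 53) [Mv.f (nat_lit 127), Mv.f (nat_lit 197), Mv.f (nat_lit 240)]))) (Tr.lf (Fc.ed (nat_lit 243) (nat_lit 83) Col.e (nat_lit 66) (Dv.wd (nat_lit 42) [Mv.b (nat_lit 192), Mv.b (nat_lit 198), Mv.f (nat_lit 240)])))))) (Tr.nd (nat_lit 246) (Tr.nd (nat_lit 245) (Tr.lf (Fc.ed (nat_lit 244) (nat_lit 80) Col.g (nat_lit 84) Dv.df)) (Tr.lf (Fc.ed (nat_lit 245) (nat_lit 84) Col.d (nat_lit 77) (Dv.wd (nat_lit 14) [Mv.f (nat_lit 222), Mv.f (nat_lit 231), Mv.f (nat_lit 244)])))) (Tr.nd (nat_lit 247) (Tr.lf (Fc.ed (nat_lit 246) (nat_lit 84) Col.a (nat_lit 81) (Dv.wd (nat_lit 26) [Mv.f (nat_lit 234), Mv.b (nat_lit 215), Mv.b (nat_lit 232), Mv.f (nat_lit 244)]))) (Tr.nd (nat_lit 248) (Tr.lf (Fc.ed (nat_lit 247) (nat_lit 34) Col.c (nat_lit 85) Dv.df)) (Tr.lf (Fc.ed (nat_lit 248) (nat_lit 85) Col.a (nat_lit 79) (Dv.wd (nat_lit 7) [Mv.b (nat_lit 228), Mv.b (nat_lit 93), Mv.f (nat_lit 247)]))))))) (Tr.nd (nat_lit 254) (Tr.nd (nat_lit 251) (Tr.nd (nat_lit 250) (Tr.lf (Fc.ed (nat_lit 249) (nat_lit 85) Col.e (nat_lit 73) (Dv.wd (nat_lit 17) [Mv.f (nat_lit 208), Mv.f (nat_lit 92), Mv.f (nat_lit 247)]))) (Tr.lf (Fc.ed (nat_lit 250) (nat_lit 85) Col.g (nat_lit 78) (Dv.wd (nat_lit 11) [Mv.f (nat_lit 226), Mv.b (nat_lit 102), Mv.f (nat_lit 247)])))) (Tr.nd (nat_lit 252) (Tr.lf (Fc.ed (nat_lit 251) (nat_lit 80) Col.a (nat_lit 86) Dv.df)) (Tr.nd (nat_lit 253) (Tr.lf (Fc.ed (nat_lit 252) (nat_lit 86) Col.c (nat_lit 84) (Dv.wd (nat_lit 28) [Mv.f (nat_lit 246), Mv.b (nat_lit 233), Mv.f (nat_lit 251)]))) (Tr.lf (Fc.ed (nat_lit 253) (nat_lit 86) Col.d (nat_lit 66) (Dv.wd (nat_lit 21) [Mv.b (nat_lit 188), Mv.f (nat_lit 231), Mv.f (nat_lit 251)])))))) (Tr.nd (nat_lit 256) (Tr.nd (nat_lit 255) (Tr.lf (Fc.ed (nat_lit 254) (nat_lit 86) Col.g (nat_lit 81) (Dv.wd (nat_lit 33) [Mv.b (nat_lit 246), Mv.b (nat_lit 244), Mv.f (nat_lit 251)]))) (Tr.lf (Fc.ed (nat_lit 255) (nat_lit 60) Col.b (nat_lit 87) Dv.df))) (Tr.nd (nat_lit 257) (Tr.lf (Fc.ed (nat_lit 256) (nat_lit 37) Col.b (nat_lit 88) Dv.df)) (Tr.nd (nat_lit 258) (Tr.lf (Fc.ed (nat_lit 257) (nat_lit 88) Col.d (nat_lit 50) (Dv.wd (nat_lit 20) [Mv.f (nat_lit 142), Mv.f (nat_lit 100), Mv.f (nat_lit 256)]))) (Tr.lf (Fc.ed (nat_lit 258) (nat_lit 88) Col.c (nat_lit 88) (Dv.wd (nat_lit 64) [Mv.b (nat_lit 256), Mv.b (nat_lit 130), Mv.f (nat_lit 131), Mv.f (nat_lit 130), Mv.f (nat_lit 256)])))))))) (Tr.nd (nat_lit 269) (Tr.nd (nat_lit 264) (Tr.nd (nat_lit 261) (Tr.nd (nat_lit 260) (Tr.lf (Fc.ed (nat_lit 259) (nat_lit 68) Col.b (nat_lit 89) Dv.df)) (Tr.lf (Fc.ed (nat_lit 260) (nat_lit 89) Col.e (nat_lit 87) (Dv.wd (nat_lit 16) [Mv.b (nat_lit 255), Mv.f (nat_lit 193), Mv.f (nat_lit 259)])))) (Tr.nd (nat_lit 262) (Tr.lf (Fc.ed (nat_lit 261) (nat_lit 89) Col.c (nat_lit 89) (Dv.wd (nat_lit 64) [Mv.b (nat_lit 259), Mv.f (nat_lit 194), Mv.f (nat_lit 153), Mv.b (nat_lit 194), Mv.f (nat_lit 259)]))) (Tr.nd (nat_lit 263) (Tr.lf (Fc.ed (nat_lit 262) (nat_lit 56) Col.d (nat_lit 90) Dv.df)) (Tr.lf (Fc.ed (nat_lit 263) (nat_lit 67) Col.d (nat_lit 91) Dv.df))))) (Tr.nd (nat_lit 266) (Tr.nd (nat_lit 265) (Tr.lf (Fc.ed (nat_lit 264) (nat_lit 91) Col.a (nat_lit 75) (Dv.wd (nat_lit 43) [Mv.f (nat_lit 214), Mv.b (nat_lit 191), Mv.f (nat_lit 263)]))) (Tr.lf (Fc.ed (nat_lit 265) (nat_lit 91) Col.f (nat_lit 86) (Dv.wd (nat_lit 39) [Mv.f (nat_lit 253), Mv.b (nat_lit 192), Mv.f (nat_lit 263)])))) (Tr.nd (nat_lit 267) (Tr.lf (Fc.ed (nat_lit 266) (nat_lit 74) Col.d (nat_lit 92) Dv.df)) (Tr.nd (nat_lit 268) (Tr.lf (Fc.ed (nat_lit 267) (nat_lit 92) Col.a (nat_lit 76) (Dv.wd (nat_lit 43) [Mv.f (nat_lit 216), Mv.f (nat_lit 210), Mv.f (nat_lit 266)]))) (Tr.lf (Fc.ed (nat_lit 268) (nat_lit 92) Col.f (nat_lit 84) (Dv.wd (nat_lit 39) [Mv.f (nat_lit 245), Mv.b (nat_lit 219), Mv.f (nat_lit 266)]))))))) (Tr.nd (nat_lit 274) (Tr.nd (nat_lit 271) (Tr.nd (nat_lit 270) (Tr.lf (Fc.ed (nat_lit 269) (nat_lit 92) Col.c (nat_lit 91) (Dv.wd (nat_lit 60) [Mv.b (nat_lit 263), Mv.b (nat_lit 190), Mv.b (nat_lit 45), Mv.b (nat_lit 23), Mv.f (nat_lit 89), Mv.f (nat_lit 90), Mv.b (nat_lit 211), Mv.f (nat_lit 266)]))) (Tr.lf (Fc.ed (nat_lit 270) (nat_lit 57) Col.d (nat_lit 93) Dv.df))) (Tr.nd (nat_lit 272) (Tr.lf (Fc.ed (nat_lit 271) (nat_lit 93) Col.e (nat_lit 90) (Dv.wd (nat_lit 65) [Mv.b (nat_lit 262), Mv.f (nat_lit 159), Mv.b (nat_lit 53), Mv.f (nat_lit 160), Mv.f (nat_lit 270)]))) (Tr.nd (nat_lit 273) (Tr.lf (Fc.ed (nat_lit 272) (nat_lit 83) Col.g (nat_lit 94) Dv.df)) (Tr.lf (Fc.ed (nat_lit 273) (nat_lit 94) Col.a (nat_lit 82) (Dv.wd (nat_lit 41) [Mv.f (nat_lit 239), Mv.b (nat_lit 241), Mv.f (nat_lit 272)])))))) (Tr.nd (nat_lit 276) (Tr.nd (nat_lit 275) (Tr.lf (Fc.ed (nat_lit 274) (nat_lit 94) Col.c (nat_lit 42) (Dv.wd (nat_lit 13) [Mv.f (nat_lit 124), Mv.b (nat_lit 242), Mv.f (nat_lit 272)]))) (Tr.lf (Fc.ed (nat_lit 275) (nat_lit 94) Col.e (nat_lit 71) (Dv.wd (nat_lit 15) [Mv.b (nat_lit 201), Mv.b (nat_lit 243), Mv.f (nat_lit 272)])))) (Tr.nd (nat_lit 277) (Tr.lf (Fc.ed (nat_lit 276) (nat_lit 94) Col.f (nat_lit 85) (Dv.wd (nat_lit 51) [Mv.f (nat_lit 250), Mv.f (nat_lit 224), Mv.f (nat_lit 240), Mv.f (nat_lit 272)]))) (Tr.nd (nat_lit 278) (Tr.lf (Fc.ed (nat_lit 277) (nat_lit 65) Col.b (nat_lit 95) Dv.df)) (Tr.lf (Fc.ed (nat_lit 278) (nat_lit 95) Col.c (nat_lit 95) (Dv.wd (nat_lit 64) [Mv.b (nat_lit 277), Mv.b (nat_lit 186), Mv.f (nat_lit 135), Mv.f (nat_lit 186), Mv.f (nat_lit 277)]))))))))) (Tr.nd (nat_lit 299) (Tr.nd (nat_lit 289) (Tr.nd (nat_lit 284) (Tr.nd (nat_lit 281) (Tr.nd (nat_lit 280) (Tr.lf (Fc.ed (nat_lit 279) (nat_lit 95) Col.f (nat_lit 87) (Dv.wd (nat_lit 34) [Mv.b (nat_lit 255), Mv.f (nat_lit 168), Mv.b (nat_lit 163), Mv.b (nat_lit 187), Mv.f (nat_lit 277)]))) (Tr.lf (Fc.ed (nat_lit 280) (nat_lit 74) Col.b (nat_lit 96) Dv.df))) (Tr.nd (nat_lit 282) (Tr.lf (Fc.ed (nat_lit 281) (nat_lit 96) Col.a (nat_lit 87) (Dv.wd (nat_lit 66) [Mv.b (nat_lit 279), Mv.f (nat_lit 278), Mv.b (nat_lit 277), Mv.f (nat_lit 188), Mv.b (nat_lit 192), Mv.b (nat_lit 190), Mv.f (nat_lit 71), Mv.b (nat_lit 67), Mv.f (nat_lit 17), Mv.f (nat_lit 143), Mv.b (nat_lit 163), Mv.b (nat_lit 191), Mv.f (nat_lit 192), Mv.f (nat_lit 189), Mv.b (nat_lit 97), Mv.b (nat_lit 95), Mv.b (nat_lit 87), Mv.b (nat_lit 211), Mv.f (nat_lit 280)]))) (Tr.nd (nat_lit 283) (Tr.lf (Fc.ed (nat_lit 282) (nat_lit 70) Col.b (nat_lit 97) Dv.df)) (Tr.lf (Fc.ed (nat_lit 283) (nat_lit 97) Col.e (nat_lit 95) (Dv.wd (nat_lit 16) [Mv.b (nat_lit 277), Mv.b (nat_lit 200), Mv.f (nat_lit 282)])))))) (Tr.nd (nat_lit 286) (Tr.nd (nat_lit 285) (Tr.lf (Fc.ed (nat_lit 284) (nat_lit 97) Col.c (nat_lit 97) (Dv.wd (nat_lit 64) [Mv.b (nat_lit 282), Mv.b (nat_lit 199), Mv.f (nat_lit 136), Mv.f (nat_lit 199), Mv.f (nat_lit 282)]))) (Tr.lf (Fc.ed (nat_lit 285) (nat_lit 97) Col.f (nat_lit 89) (Dv.wd (nat_lit 34) [Mv.b (nat_lit 259), Mv.f (nat_lit 195), Mv.b (nat_lit 225), Mv.f (nat_lit 227), Mv.f (nat_lit 282)])))) (Tr.nd (nat_lit 287) (Tr.lf (Fc.ed (nat_lit 286) (nat_lit 95) Col.a (nat_lit 98) Dv.df)) (Tr.nd (nat_lit 288) (Tr.lf (Fc.ed (nat_lit 287) (nat_lit 98) Col.c (nat_lit 98) (Dv.wd (nat_lit 28) [Mv.b (nat_lit 286), Mv.f (nat_lit 278), Mv.f (nat_lit 286)]))) (Tr.lf (Fc.ed (nat_lit 288) (nat_lit 98) Col.f (nat_lit 96) (Dv.wd (nat_lit 29) [Mv.f (nat_lit 281), Mv.b (nat_lit 279), Mv.f (nat_lit 286)]))))))) (Tr.nd (nat_lit 294) (Tr.nd (nat_lit 291) (Tr.nd (nat_lit 290) (Tr.lf (Fc.ed (nat_lit 289) (nat_lit 79) Col.b (nat_lit 99) Dv.df)) (Tr.lf (Fc.ed (nat_lit 290) (nat_lit 99) Col.e (nat_lit 96) (Dv.wd (nat_lit 16) [Mv.b (nat_lit 280), Mv.b (nat_lit 229), Mv.f (nat_lit 289)])))) (Tr.nd (nat_lit 292) (Tr.lf (Fc.ed (nat_lit 291) (nat_lit 99) Col.a (nat_lit 89) (Dv.wd (nat_lit 66) [Mv.b (nat_lit 285), Mv.f (nat_lit 284), Mv.b (nat_lit 282), Mv.b (nat_lit 241), Mv.b (nat_lit 240), Mv.b (nat_lit 197), Mv.b (nat_lit 139), Mv.b (nat_lit 152), Mv.b (nat_lit 157), Mv.f (nat_lit 174), Mv.b (nat_lit 225), Mv.f (nat_lit 224), Mv.f (nat_lit 240), Mv.f (nat_lit 242), Mv.b (nat_lit 128), Mv.f (nat_lit 115), Mv.b (nat_lit 50), Mv.f (nat_lit 228), Mv.f (nat_lit 289)]))) (Tr.nd (nat_lit 293) (Tr.lf (Fc.ed (nat_lit 292) (nat_lit 59) Col.b (nat_lit 100) Dv.df)) (Tr.lf (Fc.ed (nat_lit 293) (nat_lit 100) Col.d (nat_lit 87) (Dv.wd (nat_lit 20) [Mv.b (nat_lit 255), Mv.b (nat_lit 167), Mv.f (nat_lit 292)])))))) (Tr.nd (nat_lit 296) (Tr.nd (nat_lit 295) (Tr.lf (Fc.ed (nat_lit 294) (nat_lit 99) Col.f (nat_lit 101) Dv.df)) (Tr.lf (Fc.ed (nat_lit 295) (nat_lit 101) Col.a (nat_lit 97) (Dv.wd (nat_lit 55) [Mv.f (nat_lit 285), Mv.b (nat_lit 291), Mv.f (nat_lit 294)])))) (Tr.nd (nat_lit 297) (Tr.lf (Fc.ed (nat_lit 296) (nat_lit 101) Col.e (nat_lit 98) (Dv.wd (nat_lit 42) [Mv.f (nat_lit 288), Mv.b (nat_lit 290), Mv.f (nat_lit 294)]))) (Tr.nd (nat_lit 298) (Tr.lf (Fc.ed (nat_lit 297) (nat_lit 61) Col.b (nat_lit 102) Dv.df)) (Tr.lf (Fc.ed (nat_lit 298) (nat_lit 102) Col.e (nat_lit 75) (Dv.wd (nat_lit 16) [Mv.b (nat_lit 213), Mv.b (nat_lit 173), Mv.f (nat_lit 297)])))))))) (Tr.nd (nat_lit 309) (Tr.nd (nat_lit 304) (Tr.nd (nat_lit 301) (Tr.nd (nat_lit 300) (Tr.lf (Fc.ed (nat_lit 299) (nat_lit 100) Col.e (nat_lit 103) Dv.df)) (Tr.lf (Fc.ed (nat_lit 300) (nat_lit 103) Col.b (nat_lit 72) (Dv.wd (nat_lit 56) [Mv.b (nat_lit 203), Mv.f (nat_lit 292), Mv.f (nat_lit 299)])))) (Tr.nd (nat_lit 302) (Tr.lf (Fc.ed (nat_lit 301) (nat_lit 85) Col.b (nat_lit 104) Dv.df)) (Tr.nd (nat_lit 303) (Tr.lf (Fc.ed (nat_lit 302) (nat_lit 104) Col.e (nat_lit 76) (Dv.wd (nat_lit 16) [Mv.f (nat_lit 217), Mv.b (nat_lit 249), Mv.f (nat_lit 301)]))) (Tr.lf (Fc.ed (nat_lit 303) (nat_lit 104) Col.c (nat_lit 102) (Dv.wd (nat_lit 64) [Mv.b (nat_lit 297), Mv.b (nat_lit 172), Mv.b (nat_lit 148), Mv.f (nat_lit 247), Mv.f (nat_lit 301)])))))) (Tr.nd (nat_lit 306) (Tr.nd (nat_lit 305) (Tr.lf (Fc.ed (nat_lit 304) (nat_lit 100) Col.a (nat_lit 105) Dv.df)) (Tr.lf (Fc.ed (nat_lit 305) (nat_lit 105) Col.d (nat_lit 96) (Dv.wd (nat_lit 21) [Mv.f (nat_lit 281), Mv.b (nat_lit 293), Mv.f (nat_lit 304)])))) (Tr.nd (nat_lit 307) (Tr.lf (Fc.ed (nat_lit 306) (nat_lit 105) Col.b (nat_lit 92) (Dv.wd (nat_lit 67) [Mv.f (nat_lit 267), Mv.f (nat_lit 217), Mv.f (nat_lit 210), Mv.f (nat_lit 280), Mv.f (nat_lit 281), Mv.b (nat_lit 255), Mv.f (nat_lit 171), Mv.f (nat_lit 292), Mv.f (nat_lit 304)]))) (Tr.nd (nat_lit 308) (Tr.lf (Fc.ed (nat_lit 307) (nat_lit 67) Col.b (nat_lit 106) Dv.df)) (Tr.lf (Fc.ed (nat_lit 308) (nat_lit 106) Col.c (nat_lit 100) (Dv.wd (nat_lit 64) [Mv.b (nat_lit 292), Mv.f (nat_lit 165), Mv.b (nat_lit 71), Mv.f (nat_lit 190), Mv.f (nat_lit 307)]))))))) (Tr.nd (nat_lit 314) (Tr.nd (nat_lit 311) (Tr.nd (nat_lit 310) (Tr.lf (Fc.ed (nat_lit 309) (nat_lit 62) Col.d (nat_lit 107) Dv.df)) (Tr.lf (Fc.ed (nat_lit 310) (nat_lit 104) Col.a (nat_lit 108) Dv.df))) (Tr.nd (nat_lit 312) (Tr.lf (Fc.ed (nat_lit 311) (nat_lit 108) Col.e (nat_lit 92) (Dv.wd (nat_lit 18) [Mv.f (nat_lit 267), Mv.b (nat_lit 302), Mv.f (nat_lit 310)]))) (Tr.nd (nat_lit 313) (Tr.lf (Fc.ed (nat_lit 312) (nat_lit 80) Col.b (nat_lit 109) Dv.df)) (Tr.lf (Fc.ed (nat_lit 313) (nat_lit 109) Col.d (nat_lit 95) (Dv.wd (nat_lit 20) [Mv.b (nat_lit 277), Mv.f (nat_lit 231), Mv.f (nat_lit 312)])))))) (Tr.nd (nat_lit 316) (Tr.nd (nat_lit 315) (Tr.lf (Fc.ed (nat_lit 314) (nat_lit 109) Col.f (nat_lit 100) (Dv.wd (nat_lit 34) [Mv.b (nat_lit 292), Mv.b (nat_lit 164), Mv.f (nat_lit 213), Mv.b (nat_lit 232), Mv.f (nat_lit 312)]))) (Tr.lf (Fc.ed (nat_lit 315) (nat_lit 107) Col.e (nat_lit 110) Dv.df))) (Tr.nd (nat_lit 317) (Tr.lf (Fc.ed (nat_lit 316) (nat_lit 110) Col.d (nat_lit 61) (Dv.wd (nat_lit 27) [Mv.f (nat_lit 173), Mv.f (nat_lit 147), Mv.b (nat_lit 176), Mv.f (nat_lit 309), Mv.f (nat_lit 315)]))) (Tr.nd (nat_lit 318) (Tr.lf (Fc.ed (nat_lit 317) (nat_lit 107) Col.a (nat_lit 110) (Dv.wd (nat_lit 68) [Mv.f (nat_lit 316), Mv.b (nat_lit 175), Mv.f (nat_lit 309)]))) (Tr.lf (Fc.ed (nat_lit 318) (nat_lit 24) Col.c (nat_lit 111) Dv.df))))))))))) (Tr.nd (nat_lit 479) (Tr.nd (nat_lit 399) (Tr.nd (nat_lit 359) (Tr.nd (nat_lit 339) (Tr.nd (nat_lit 329) (Tr.nd (nat_lit 324) (Tr.nd (nat_lit 321) (Tr.nd (nat_lit 320) (Tr.lf (Fc.ed (nat_lit 319) (nat_lit 68) Col.d (nat_lit 112) Dv.df)) (Tr.lf (Fc.ed (nat_lit 320) (nat_lit 112) Col.f (nat_lit 107) (Dv.wd (nat_lit 39) [Mv.b (nat_lit 309), Mv.b (nat_lit 195), Mv.f (nat_lit 319)])))) (Tr.nd (nat_lit 322) (Tr.lf (Fc.ed (nat_lit 321) (nat_lit 69) Col.b (nat_lit 113) Dv.df)) (Tr.nd (nat_lit 323) (Tr.lf (Fc.ed (nat_lit 322) (nat_lit 113) Col.e (nat_lit 106) (Dv.wd (nat_lit 16) [Mv.b (nat_lit 307), Mv.b (nat_lit 198), Mv.f (nat_lit 321)]))) (Tr.lf (Fc.ed (nat_lit 323) (nat_lit 113) Col.c (nat_lit 103) (Dv.wd (nat_lit 64) [Mv.f (nat_lit 300), Mv.f (nat_lit 205), Mv.f (nat_lit 139), Mv.f (nat_lit 197), Mv.f (nat_lit 321)])))))) (Tr.nd (nat_lit 326) (Tr.nd (nat_lit 325) (Tr.lf (Fc.ed (nat_lit 324) (nat_lit 112) Col.e (nat_lit 114) Dv.df)) (Tr.lf (Fc.ed (nat_lit 325) (nat_lit 114) Col.d (nat_lit 72) (Dv.wd (nat_lit 27) [Mv.b (nat_lit 203), Mv.f (nat_lit 167), Mv.f (nat_lit 193), Mv.f (nat_lit 319), Mv.f (nat_lit 324)])))) (Tr.nd (nat_lit 327) (Tr.lf (Fc.ed (nat_lit 326) (nat_lit 112) Col.a (nat_lit 114) (Dv.wd (nat_lit 68) [Mv.f (nat_lit 325), Mv.f (nat_lit 204), Mv.f (nat_lit 319)]))) (Tr.nd (nat_lit 328) (Tr.lf (Fc.ed (nat_lit 327) (nat_lit 81) Col.e (nat_lit 115) Dv.df)) (Tr.lf (Fc.ed (nat_lit 328) (nat_lit 115) Col.f (nat_lit 104) (Dv.wd (nat_lit 50) [Mv.f (nat_lit 302), Mv.b (nat_lit 234), Mv.f (nat_lit 327)]))))))) (Tr.nd (nat_lit 334) (Tr.nd (nat_lit 331) (Tr.nd (nat_lit 330) (Tr.lf (Fc.ed (nat_lit 329) (nat_lit 108) Col.b (nat_lit 116) Dv.df)) (Tr.lf (Fc.ed (nat_lit 330) (nat_lit 116) Col.e (nat_lit 105) (Dv.wd (nat_lit 16) [Mv.f (nat_lit 306), Mv.b (nat_lit 311), Mv.f (nat_lit 329)])))) (Tr.nd (nat_lit 332) (Tr.lf (Fc.ed (nat_lit 331) (nat_lit 116) Col.a (nat_lit 103) (Dv.wd (nat_lit 48) [Mv.f (nat_lit 300), Mv.f (nat_lit 204), Mv.f (nat_lit 259), Mv.b (nat_lit 291), Mv.b (nat_lit 289), Mv.b (nat_lit 248), Mv.f (nat_lit 301), Mv.f (nat_lit 310), Mv.f (nat_lit 329)]))) (Tr.nd (nat_lit 333) (Tr.lf (Fc.ed (nat_lit 332) (nat_lit 23) Col.c (nat_lit 117) Dv.df)) (Tr.lf (Fc.ed (nat_lit 333) (nat_lit 117) Col.f (nat_lit 111) (Dv.wd (nat_lit 25) [Mv.b (nat_lit 318), Mv.b (nat_lit 56), Mv.f (nat_lit 332)])))))) (Tr.nd (nat_lit 336) (Tr.nd (nat_lit 335) (Tr.lf (Fc.ed (nat_lit 334) (nat_lit 84) Col.e (nat_lit 118) Dv.df)) (Tr.lf (Fc.ed (nat_lit 335) (nat_lit 118) Col.a (nat_lit 115) (Dv.wd (nat_lit 45) [Mv.b (nat_lit 327), Mv.b (nat_lit 246), Mv.f (nat_lit 334)])))) (Tr.nd (nat_lit 337) (Tr.lf (Fc.ed (nat_lit 336) (nat_lit 115) Col.c (nat_lit 119) Dv.df)) (Tr.nd (nat_lit 338) (Tr.lf (Fc.ed (nat_lit 337) (nat_lit 119) Col.e (nat_lit 80) (Dv.wd (nat_lit 17) [Mv.f (nat_lit 233), Mv.f (nat_lit 327), Mv.f (nat_lit 336)]))) (Tr.lf (Fc.ed (nat_lit 338) (nat_lit 119) Col.f (nat_lit 102) (Dv.wd (nat_lit 25) [Mv.b (nat_lit 303), Mv.b (nat_lit 328), Mv.f (nat_lit 336)])))))))) (Tr.nd (nat_lit 349) (Tr.nd (nat_lit 344) (Tr.nd (nat_lit 341) (Tr.nd (nat_lit 340) (Tr.lf (Fc.ed (nat_lit 339) (nat_lit 86) Col.e (nat_lit 120) Dv.df)) (Tr.lf (Fc.ed (nat_lit 340) (nat_lit 120) Col.a (nat_lit 119) (Dv.wd (nat_lit 45) [Mv.f (nat_lit 337), Mv.f (nat_lit 251), Mv.f (nat_lit 339)])))) (Tr.nd (nat_lit 342) (Tr.lf (Fc.ed (nat_lit 341) (nat_lit 120) Col.c (nat_lit 118) (Dv.wd (nat_lit 58) [Mv.b (nat_lit 334), Mv.b (nat_lit 252), Mv.f (nat_lit 339)]))) (Tr.nd (nat_lit 343) (Tr.lf (Fc.ed (nat_lit 342) (nat_lit 120) Col.g (nat_lit 115) (Dv.wd (nat_lit 35) [Mv.b (nat_lit 327), Mv.b (nat_lit 254), Mv.f (nat_lit 339)]))) (Tr.lf (Fc.ed (nat_lit 343) (nat_lit 119) Col.b (nat_lit 121) Dv.df))))) (Tr.nd (nat_lit 346) (Tr.nd (nat_lit 345) (Tr.lf (Fc.ed (nat_lit 344) (nat_lit 121) Col.e (nat_lit 109) (Dv.wd (nat_lit 16) [Mv.b (nat_lit 312), Mv.b (nat_lit 337), Mv.f (nat_lit 343)]))) (Tr.lf (Fc.ed (nat_lit 345) (nat_lit 121) Col.f (nat_lit 103) (Dv.wd (nat_lit 34) [Mv.f (nat_lit 300), Mv.f (nat_lit 206), Mv.f (nat_lit 297), Mv.b (nat_lit 338), Mv.f (nat_lit 343)])))) (Tr.nd (nat_lit 347) (Tr.lf (Fc.ed (nat_lit 346) (nat_lit 112) Col.b (nat_lit 122) Dv.df)) (Tr.nd (nat_lit 348) (Tr.lf (Fc.ed (nat_lit 347) (nat_lit 122) Col.d (nat_lit 89) (Dv.wd (nat_lit 20) [Mv.b (nat_lit 259), Mv.f (nat_lit 319), Mv.f (nat_lit 346)]))) (Tr.lf (Fc.ed (nat_lit 348) (nat_lit 103) Col.d (nat_lit 123) Dv.df)))))) (Tr.nd (nat_lit 354) (Tr.nd (nat_lit 351) (Tr.nd (nat_lit 350) (Tr.lf (Fc.ed (nat_lit 349) (nat_lit 123) Col.b (nat_lit 114) (Dv.wd (nat_lit 44) [Mv.f (nat_lit 325), Mv.b (nat_lit 300), Mv.f (nat_lit 348)]))) (Tr.lf (Fc.ed (nat_lit 350) (nat_lit 123) Col.e (nat_lit 122) (Dv.wd (nat_lit 65) [Mv.f (nat_lit 347), Mv.f (nat_lit 260), Mv.b (nat_lit 293), Mv.f (nat_lit 299), Mv.f (nat_lit 348)])))) (Tr.nd (nat_lit 352) (Tr.lf (Fc.ed (nat_lit 351) (nat_lit 78) Col.d (nat_lit 124) Dv.df)) (Tr.nd (nat_lit 353) (Tr.lf (Fc.ed (nat_lit 352) (nat_lit 124) Col.b (nat_lit 107) (Dv.wd (nat_lit 44) [Mv.b (nat_lit 309), Mv.b (nat_lit 225), Mv.f (nat_lit 351)]))) (Tr.lf (Fc.ed (nat_lit 353) (nat_lit 124) Col.a (nat_lit 125) Dv.df))))) (Tr.nd (nat_lit 356) (Tr.nd (nat_lit 355) (Tr.lf (Fc.ed (nat_lit 354) (nat_lit 125) Col.d (nat_lit 69) (Dv.wd (nat_lit 21) [Mv.b (nat_lit 224), Mv.f (nat_lit 351), Mv.f (nat_lit 353)]))) (Tr.lf (Fc.ed (nat_lit 355) (nat_lit 124) Col.g (nat_lit 126) Dv.df))) (Tr.nd (nat_lit 357) (Tr.lf (Fc.ed (nat_lit 356) (nat_lit 126) Col.d (nat_lit 85) (Dv.wd (nat_lit 14) [Mv.f (nat_lit 250), Mv.f (nat_lit 351), Mv.f (nat_lit 355)]))) (Tr.nd (nat_lit 358) (Tr.lf (Fc.ed (nat_lit 357) (nat_lit 91) Col.e (nat_lit 127) Dv.df)) (Tr.lf (Fc.ed (nat_lit 358) (nat_lit 127) Col.a (nat_lit 102) (Dv.wd (nat_lit 45) [Mv.f (nat_lit 298), Mv.b (nat_lit 264), Mv.f (nat_lit 357)]))))))))) (Tr.nd (nat_lit 379) (Tr.nd (nat_lit 369) (Tr.nd (nat_lit 364) (Tr.nd (nat_lit 361) (Tr.nd (nat_lit 360) (Tr.lf (Fc.ed (nat_lit 359) (nat_lit 127) Col.c (nat_lit 108) (Dv.wd (nat_lit 58) [Mv.f (nat_lit 311), Mv.f (nat_lit 269), Mv.f (nat_lit 357)]))) (Tr.lf (Fc.ed (nat_lit 360) (nat_lit 127) Col.f (nat_lit 120) (Dv.wd (nat_lit 50) [Mv.b (nat_lit 339), Mv.b (nat_lit 265), Mv.f (nat_lit 357)])))) (Tr.nd (nat_lit 362) (Tr.lf (Fc.ed (nat_lit 361) (nat_lit 89) Col.g (nat_lit 128) Dv.df)) (Tr.nd (nat_lit 363) (Tr.lf (Fc.ed (nat_lit 362) (nat_lit 128) Col.e (nat_lit 129) Dv.df)) (Tr.lf (Fc.ed (nat_lit 363) (nat_lit 129) Col.g (nat_lit 87) (Dv.wd (nat_lit 35) [Mv.b (nat_lit 260), Mv.f (nat_lit 361), Mv.f (nat_lit 362)])))))) (Tr.nd (nat_lit 366) (Tr.nd (nat_lit 365) (Tr.lf (Fc.ed (nat_lit 364) (nat_lit 122) Col.a (nat_lit 130) Dv.df)) (Tr.lf (Fc.ed (nat_lit 365) (nat_lit 130) Col.d (nat_lit 99) (Dv.wd (nat_lit 21) [Mv.f (nat_lit 291), Mv.b (nat_lit 347), Mv.f (nat_lit 364)])))) (Tr.nd (nat_lit 367) (Tr.lf (Fc.ed (nat_lit 366) (nat_lit 110) Col.b (nat_lit 131) Dv.df)) (Tr.nd (nat_lit 368) (Tr.lf (Fc.ed (nat_lit 367) (nat_lit 131) Col.d (nat_lit 102) (Dv.wd (nat_lit 20) [Mv.b (nat_lit 297), Mv.b (nat_lit 316), Mv.f (nat_lit 366)]))) (Tr.lf (Fc.ed (nat_lit 368) (nat_lit 131) Col.e (nat_lit 124) (Dv.wd (nat_lit 16) [Mv.f (nat_lit 352), Mv.f (nat_lit 315), Mv.f (nat_lit 366)]))))))) (Tr.nd (nat_lit 374) (Tr.nd (nat_lit 371) (Tr.nd (nat_lit 370) (Tr.lf (Fc.ed (nat_lit 369) (nat_lit 98) Col.d (nat_lit 132) Dv.df)) (Tr.lf (Fc.ed (nat_lit 370) (nat_lit 132) Col.a (nat_lit 109) (Dv.wd (nat_lit 43) [Mv.f (nat_lit 313), Mv.f (nat_lit 286), Mv.f (nat_lit 369)])))) (Tr.nd (nat_lit 372) (Tr.lf (Fc.ed (nat_lit 371) (nat_lit 132) Col.f (nat_lit 105) (Dv.wd (nat_lit 39) [Mv.f (nat_lit 305), Mv.b (nat_lit 288), Mv.f (nat_lit 369)]))) (Tr.nd (nat_lit 373) (Tr.lf (Fc.ed (nat_lit 372) (nat_lit 98) Col.g (nat_lit 133) Dv.df)) (Tr.lf (Fc.ed (nat_lit 373) (nat_lit 133) Col.f (nat_lit 129) (Dv.wd (nat_lit 51) [Mv.f (nat_lit 363), Mv.b (nat_lit 281), Mv.b (nat_lit 288), Mv.f (nat_lit 372)])))))) (Tr.nd (nat_lit 376) (Tr.nd (nat_lit 375) (Tr.lf (Fc.ed (nat_lit 374) (nat_lit 101) Col.g (nat_lit 134) Dv.df)) (Tr.lf (Fc.ed (nat_lit 375) (nat_lit 124) Col.f (nat_lit 135) Dv.df))) (Tr.nd (nat_lit 377) (Tr.lf (Fc.ed (nat_lit 376) (nat_lit 135) Col.d (nat_lit 70) (Dv.wd (nat_lit 69) [Mv.b (nat_lit 227), Mv.f (nat_lit 351), Mv.f (nat_lit 375)]))) (Tr.nd (nat_lit 378) (Tr.lf (Fc.ed (nat_lit 377) (nat_lit 128) Col.a (nat_lit 136) Dv.df)) (Tr.lf (Fc.ed (nat_lit 378) (nat_lit 136) Col.g (nat_lit 99) (Dv.wd (nat_lit 33) [Mv.f (nat_lit 291), Mv.f (nat_lit 361), Mv.f (nat_lit 377)])))))))) (Tr.nd (nat_lit 389) (Tr.nd (nat_lit 384) (Tr.nd (nat_lit 381) (Tr.nd (nat_lit 380) (Tr.lf (Fc.ed (nat_lit 379) (nat_lit 104) Col.d (nat_lit 137) Dv.df)) (Tr.lf (Fc.ed (nat_lit 380) (nat_lit 137) Col.b (nat_lit 126) (Dv.wd (nat_lit 44) [Mv.f (nat_lit 356), Mv.f (nat_lit 301), Mv.f (nat_lit 379)])))) (Tr.nd (nat_lit 382) (Tr.lf (Fc.ed (nat_lit 381) (nat_lit 137) Col.e (nat_lit 126) (Dv.wd (nat_lit 65) [Mv.f (nat_lit 356), Mv.f (nat_lit 249), Mv.b (nat_lit 216), Mv.b (nat_lit 302), Mv.f (nat_lit 379)]))) (Tr.nd (nat_lit 383) (Tr.lf (Fc.ed (nat_lit 382) (nat_lit 135) Col.b (nat_lit 138) Dv.df)) (Tr.lf (Fc.ed (nat_lit 383) (nat_lit 138) Col.d (nat_lit 97) (Dv.wd (nat_lit 20) [Mv.b (nat_lit 282), Mv.b (nat_lit 376), Mv.f (nat_lit 382)])))))) (Tr.nd (nat_lit 386) (Tr.nd (nat_lit 385) (Tr.lf (Fc.ed (nat_lit 384) (nat_lit 138) Col.f (nat_lit 122) (Dv.wd (nat_lit 34) [Mv.b (nat_lit 346), Mv.f (nat_lit 320), Mv.b (nat_lit 352), Mv.f (nat_lit 375), Mv.f (nat_lit 382)]))) (Tr.lf (Fc.ed (nat_lit 385) (nat_lit 112) Col.c (nat_lit 139) Dv.df))) (Tr.nd (nat_lit 387) (Tr.lf (Fc.ed (nat_lit 386) (nat_lit 139) Col.d (nat_lit 140) Dv.df)) (Tr.nd (nat_lit 388) (Tr.lf (Fc.ed (nat_lit 387) (nat_lit 140) Col.c (nat_lit 114) (Dv.wd (nat_lit 60) [Mv.f (nat_lit 325), Mv.f (nat_lit 205), Mv.f (nat_lit 140), Mv.b (nat_lit 205), Mv.b (nat_lit 325), Mv.b (nat_lit 326), Mv.f (nat_lit 385), Mv.f (nat_lit 386)]))) (Tr.lf (Fc.ed (nat_lit 388) (nat_lit 139) Col.e (nat_lit 140) (Dv.wd (nat_lit 70) [Mv.f (nat_lit 387), Mv.b (nat_lit 324), Mv.f (nat_lit 385)]))))))) (Tr.nd (nat_lit 394) (Tr.nd (nat_lit 391) (Tr.nd (nat_lit 390) (Tr.lf (Fc.ed (nat_lit 389) (nat_lit 133) Col.a (nat_lit 141) Dv.df)) (Tr.lf (Fc.ed (nat_lit 390) (nat_lit 141) Col.f (nat_lit 142) Dv.df))) (Tr.nd (nat_lit 392) (Tr.lf (Fc.ed (nat_lit 391) (nat_lit 142) Col.a (nat_lit 129) (Dv.wd (nat_lit 55) [Mv.b (nat_lit 373), Mv.f (nat_lit 389), Mv.f (nat_lit 390)]))) (Tr.nd (nat_lit 393) (Tr.lf (Fc.ed (nat_lit 392) (nat_lit 142) Col.g (nat_lit 96) (Dv.wd (nat_lit 46) [Mv.b (nat_lit 288), Mv.f (nat_lit 372), Mv.f (nat_lit 389), Mv.f (nat_lit 390)]))) (Tr.lf (Fc.ed (nat_lit 393) (nat_lit 79) Col.d (nat_lit 143) Dv.df))))) (Tr.nd (nat_lit 396) (Tr.nd (nat_lit 395) (Tr.lf (Fc.ed (nat_lit 394) (nat_lit 143) Col.a (nat_lit 126) (Dv.wd (nat_lit 43) [Mv.f (nat_lit 356), Mv.f (nat_lit 248), Mv.f (nat_lit 393)]))) (Tr.lf (Fc.ed (nat_lit 395) (nat_lit 143) Col.b (nat_lit 130) (Dv.wd (nat_lit 44) [Mv.f (nat_lit 365), Mv.b (nat_lit 289), Mv.f (nat_lit 393)])))) (Tr.nd (nat_lit 397) (Tr.lf (Fc.ed (nat_lit 396) (nat_lit 143) Col.g (nat_lit 125) (Dv.wd (nat_lit 12) [Mv.f (nat_lit 354), Mv.b (nat_lit 230), Mv.f (nat_lit 393)]))) (Tr.nd (nat_lit 398) (Tr.lf (Fc.ed (nat_lit 397) (nat_lit 97) Col.g (nat_lit 144) Dv.df)) (Tr.lf (Fc.ed (nat_lit 398) (nat_lit 144) Col.a (nat_lit 134) (Dv.wd (nat_lit 41) [Mv.b (nat_lit 374), Mv.f (nat_lit 295), Mv.f (nat_lit 397)])))))))))) (Tr.nd (nat_lit 439) (Tr.nd (nat_lit 419) (Tr.nd (nat_lit 409) (Tr.nd (nat_lit 404) (Tr.nd (nat_lit 401) (Tr.nd (nat_lit 400) (Tr.lf (Fc.ed (nat_lit 399) (nat_lit 144) Col.f (nat_lit 136) (Dv.wd (nat_lit 51) [Mv.f (nat_lit 378), Mv.f (nat_lit 291), Mv.b (nat_lit 285), Mv.f (nat_lit 397)]))) (Tr.lf (Fc.ed (nat_lit 400) (nat_lit 129) Col.d (nat_lit 145) Dv.df))) (Tr.nd (nat_lit 402) (Tr.lf (Fc.ed (nat_lit 401) (nat_lit 145) Col.g (nat_lit 100) (Dv.wd (nat_lit 12) [Mv.f (nat_lit 293), Mv.b (nat_lit 363), Mv.f (nat_lit 400)]))) (Tr.nd (nat_lit 403) (Tr.lf (Fc.ed (nat_lit 402) (nat_lit 130) Col.e (nat_lit 146) Dv.df)) (Tr.lf (Fc.ed (nat_lit 403) (nat_lit 146) Col.a (nat_lit 123) (Dv.wd (nat_lit 45) [Mv.f (nat_lit 350), Mv.f (nat_lit 364), Mv.f (nat_lit 402)])))))) (Tr.nd (nat_lit 406) (Tr.nd (nat_lit 405) (Tr.lf (Fc.ed (nat_lit 404) (nat_lit 83) Col.d (nat_lit 147) Dv.df)) (Tr.lf (Fc.ed (nat_lit 405) (nat_lit 147) Col.a (nat_lit 135) (Dv.wd (nat_lit 43) [Mv.f (nat_lit 376), Mv.b (nat_lit 241), Mv.f (nat_lit 404)])))) (Tr.nd (nat_lit 407) (Tr.lf (Fc.ed (nat_lit 406) (nat_lit 147) Col.f (nat_lit 125) (Dv.wd (nat_lit 39) [Mv.f (nat_lit 354), Mv.f (nat_lit 240), Mv.f (nat_lit 404)]))) (Tr.nd (nat_lit 408) (Tr.lf (Fc.ed (nat_lit 407) (nat_lit 101) Col.d (nat_lit 148) Dv.df)) (Tr.lf (Fc.ed (nat_lit 408) (nat_lit 148) Col.f (nat_lit 130) (Dv.wd (nat_lit 39) [Mv.f (nat_lit 365), Mv.f (nat_lit 294), Mv.f (nat_lit 407)]))))))) (Tr.nd (nat_lit 414) (Tr.nd (nat_lit 411) (Tr.nd (nat_lit 410) (Tr.lf (Fc.ed (nat_lit 409) (nat_lit 145) Col.a (nat_lit 149) Dv.df)) (Tr.lf (Fc.ed (nat_lit 410) (nat_lit 149) Col.d (nat_lit 142) (Dv.wd (nat_lit 21) [Mv.f (nat_lit 391), Mv.f (nat_lit 400), Mv.f (nat_lit 409)])))) (Tr.nd (nat_lit 412) (Tr.lf (Fc.ed (nat_lit 411) (nat_lit 149) Col.g (nat_lit 105) (Dv.wd (nat_lit 33) [Mv.b (nat_lit 304), Mv.b (nat_lit 401), Mv.f (nat_lit 409)]))) (Tr.nd (nat_lit 413) (Tr.lf (Fc.ed (nat_lit 412) (nat_lit 125) Col.e (nat_lit 150) Dv.df)) (Tr.lf (Fc.ed (nat_lit 413) (nat_lit 150) Col.a (nat_lit 131) (Dv.wd (nat_lit 45) [Mv.f (nat_lit 368), Mv.f (nat_lit 353), Mv.f (nat_lit 412)])))))) (Tr.nd (nat_lit 416) (Tr.nd (nat_lit 415) (Tr.lf (Fc.ed (nat_lit 414) (nat_lit 150) Col.d (nat_lit 127) (Dv.wd (nat_lit 27) [Mv.b (nat_lit 357), Mv.b (nat_lit 263), Mv.b (nat_lit 198), Mv.b (nat_lit 354), Mv.f (nat_lit 412)]))) (Tr.lf (Fc.ed (nat_lit 415) (nat_lit 136) Col.b (nat_lit 151) Dv.df))) (Tr.nd (nat_lit 417) (Tr.lf (Fc.ed (nat_lit 416) (nat_lit 151) Col.g (nat_lit 113) (Dv.wd (nat_lit 10) [Mv.b (nat_lit 321), Mv.b (nat_lit 230), Mv.f (nat_lit 289), Mv.b (nat_lit 378), Mv.f (nat_lit 415)]))) (Tr.nd (nat_lit 418) (Tr.lf (Fc.ed (nat_lit 417) (nat_lit 116) Col.c (nat_lit 152) Dv.df)) (Tr.lf (Fc.ed (nat_lit 418) (nat_lit 152) Col.a (nat_lit 113) (Dv.wd (nat_lit 7) [Mv.f (nat_lit 323), Mv.b (nat_lit 331), Mv.f (nat_lit 417)])))))))) (Tr.nd (nat_lit 429) (Tr.nd (nat_lit 424) (Tr.nd (nat_lit 421) (Tr.nd (nat_lit 420) (Tr.lf (Fc.ed (nat_lit 419) (nat_lit 56) Col.b (nat_lit 153) Dv.df)) (Tr.lf (Fc.ed (nat_lit 420) (nat_lit 126) Col.f (nat_lit 154) Dv.df))) (Tr.nd (nat_lit 422) (Tr.lf (Fc.ed (nat_lit 421) (nat_lit 154) Col.d (nat_lit 94) (Dv.wd (nat_lit 69) [Mv.f (nat_lit 276), Mv.b (nat_lit 356), Mv.f (nat_lit 420)]))) (Tr.nd (nat_lit 423) (Tr.lf (Fc.ed (nat_lit 422) (nat_lit 154) Col.g (nat_lit 147) (Dv.wd (nat_lit 46) [Mv.f (nat_lit 406), Mv.b (nat_lit 396), Mv.f (nat_lit 394), Mv.f (nat_lit 420)]))) (Tr.lf (Fc.ed (nat_lit 423) (nat_lit 119) Col.d (nat_lit 155) Dv.df))))) (Tr.nd (nat_lit 426) (Tr.nd (nat_lit 425) (Tr.lf (Fc.ed (nat_lit 424) (nat_lit 155) Col.e (nat_lit 135) (Dv.wd (nat_lit 65) [Mv.f (nat_lit 376), Mv.f (nat_lit 200), Mv.f (nat_lit 231), Mv.b (nat_lit 337), Mv.f (nat_lit 423)]))) (Tr.lf (Fc.ed (nat_lit 425) (nat_lit 120) Col.d (nat_lit 156) Dv.df))) (Tr.nd (nat_lit 427) (Tr.lf (Fc.ed (nat_lit 426) (nat_lit 156) Col.a (nat_lit 155) (Dv.wd (nat_lit 43) [Mv.b (nat_lit 423), Mv.b (nat_lit 340), Mv.f (nat_lit 425)]))) (Tr.nd (nat_lit 428) (Tr.lf (Fc.ed (nat_lit 427) (nat_lit 156) Col.f (nat_lit 150) (Dv.wd (nat_lit 39) [Mv.f (nat_lit 414), Mv.f (nat_lit 360), Mv.f (nat_lit 425)]))) (Tr.lf (Fc.ed (nat_lit 428) (nat_lit 138) Col.e (nat_lit 157) Dv.df)))))) (Tr.nd (nat_lit 434) (Tr.nd (nat_lit 431) (Tr.nd (nat_lit 430) (Tr.lf (Fc.ed (nat_lit 429) (nat_lit 157) Col.b (nat_lit 155) (Dv.wd (nat_lit 56) [Mv.f (nat_lit 424), Mv.f (nat_lit 382), Mv.f (nat_lit 428)]))) (Tr.lf (Fc.ed (nat_lit 430) (nat_lit 157) Col.f (nat_lit 123) (Dv.wd (nat_lit 50) [Mv.f (nat_lit 350), Mv.b (nat_lit 384), Mv.f (nat_lit 428)])))) (Tr.nd (nat_lit 432) (Tr.lf (Fc.ed (nat_lit 431) (nat_lit 157) Col.d (nat_lit 121) (Dv.wd (nat_lit 27) [Mv.f (nat_lit 344), Mv.f (nat_lit 313), Mv.b (nat_lit 283), Mv.b (nat_lit 383), Mv.f (nat_lit 428)]))) (Tr.nd (nat_lit 433) (Tr.lf (Fc.ed (nat_lit 432) (nat_lit 115) Col.d (nat_lit 158) Dv.df)) (Tr.lf (Fc.ed (nat_lit 433) (nat_lit 158) Col.f (nat_lit 137) (Dv.wd (nat_lit 39) [Mv.b (nat_lit 379), Mv.b (nat_lit 328), Mv.f (nat_lit 432)])))))) (Tr.nd (nat_lit 436) (Tr.nd (nat_lit 435) (Tr.lf (Fc.ed (nat_lit 434) (nat_lit 158) Col.g (nat_lit 156) (Dv.wd (nat_lit 12) [Mv.b (nat_lit 425), Mv.f (nat_lit 342), Mv.f (nat_lit 432)]))) (Tr.lf (Fc.ed (nat_lit 435) (nat_lit 82) Col.d (nat_lit 159) Dv.df))) (Tr.nd (nat_lit 437) (Tr.lf (Fc.ed (nat_lit 436) (nat_lit 159) Col.a (nat_lit 154) (Dv.wd (nat_lit 43) [Mv.f (nat_lit 421), Mv.f (nat_lit 273), Mv.f (nat_lit 435)]))) (Tr.nd (nat_lit 438) (Tr.lf (Fc.ed (nat_lit 437) (nat_lit 159) Col.f (nat_lit 143) (Dv.wd (nat_lit 39) [Mv.b (nat_lit 393), Mv.b (nat_lit 238), Mv.f (nat_lit 435)]))) (Tr.lf (Fc.ed (nat_lit 438) (nat_lit 144) Col.d (nat_lit 160) Dv.df)))))))) (Tr.nd (nat_lit 459) (Tr.nd (nat_lit 449) (Tr.nd (nat_lit 444) (Tr.nd (nat_lit 441) (Tr.nd (nat_lit 440) (Tr.lf (Fc.ed (nat_lit 439) (nat_lit 160) Col.g (nat_lit 138) (Dv.wd (nat_lit 12) [Mv.f (nat_lit 383), Mv.f (nat_lit 397), Mv.f (nat_lit 438)]))) (Tr.lf (Fc.ed (nat_lit 440) (nat_lit 152) Col.e (nat_lit 161) Dv.df))) (Tr.nd (nat_lit 442) (Tr.lf (Fc.ed (nat_lit 441) (nat_lit 161) Col.a (nat_lit 106) (Dv.wd (nat_lit 45) [Mv.b (nat_lit 322), Mv.b (nat_lit 418), Mv.f (nat_lit 440)]))) (Tr.nd (nat_lit 443) (Tr.lf (Fc.ed (nat_lit 442) (nat_lit 161) Col.c (nat_lit 105) (Dv.wd (nat_lit 58) [Mv.b (nat_lit 330), Mv.f (nat_lit 417), Mv.f (nat_lit 440)]))) (Tr.lf (Fc.ed (nat_lit 443) (nat_lit 109) Col.g (nat_lit 162) Dv.df))))) (Tr.nd (nat_lit 446) (Tr.nd (nat_lit 445) (Tr.lf (Fc.ed (nat_lit 444) (nat_lit 162) Col.f (nat_lit 149) (Dv.wd (nat_lit 51) [Mv.f (nat_lit 411), Mv.b (nat_lit 304), Mv.b (nat_lit 314), Mv.f (nat_lit 443)]))) (Tr.lf (Fc.ed (nat_lit 445) (nat_lit 21) Col.b (nat_lit 163) Dv.df))) (Tr.nd (nat_lit 447) (Tr.lf (Fc.ed (nat_lit 446) (nat_lit 121) Col.c (nat_lit 164) Dv.df)) (Tr.nd (nat_lit 448) (Tr.lf (Fc.ed (nat_lit 447) (nat_lit 164) Col.f (nat_lit 113) (Dv.wd (nat_lit 25) [Mv.f (nat_lit 323), Mv.b (nat_lit 345), Mv.f (nat_lit 446)]))) (Tr.lf (Fc.ed (nat_lit 448) (nat_lit 134) Col.d (nat_lit 165) Dv.df)))))) (Tr.nd (nat_lit 454) (Tr.nd (nat_lit 451) (Tr.nd (nat_lit 450) (Tr.lf (Fc.ed (nat_lit 449) (nat_lit 165) Col.a (nat_lit 160) (Dv.wd (nat_lit 43) [Mv.b (nat_lit 438), Mv.f (nat_lit 398), Mv.f (nat_lit 448)]))) (Tr.lf (Fc.ed (nat_lit 450) (nat_lit 165) Col.g (nat_lit 148) (Dv.wd (nat_lit 12) [Mv.b (nat_lit 407), Mv.f (nat_lit 374), Mv.f (nat_lit 448)])))) (Tr.nd (nat_lit 452) (Tr.lf (Fc.ed (nat_lit 451) (nat_lit 142) Col.b (nat_lit 166) Dv.df)) (Tr.nd (nat_lit 453) (Tr.lf (Fc.ed (nat_lit 452) (nat_lit 166) Col.g (nat_lit 106) (Dv.wd (nat_lit 10) [Mv.b (nat_lit 307), Mv.b (nat_lit 212), Mv.f (nat_lit 280), Mv.b (nat_lit 392), Mv.f (nat_lit 451)]))) (Tr.lf (Fc.ed (nat_lit 453) (nat_lit 106) Col.f (nat_lit 167) Dv.df))))) (Tr.nd (nat_lit 456) (Tr.nd (nat_lit 455) (Tr.lf (Fc.ed (nat_lit 454) (nat_lit 167) Col.c (nat_lit 109) (Dv.wd (nat_lit 53) [Mv.f (nat_lit 314), Mv.b (nat_lit 308), Mv.f (nat_lit 453)]))) (Tr.lf (Fc.ed (nat_lit 455) (nat_lit 161) Col.b (nat_lit 168) Dv.df))) (Tr.nd (nat_lit 457) (Tr.lf (Fc.ed (nat_lit 456) (nat_lit 91) Col.b (nat_lit 169) Dv.df)) (Tr.nd (nat_lit 458) (Tr.lf (Fc.ed (nat_lit 457) (nat_lit 169) Col.d (nat_lit 106) (Dv.wd (nat_lit 20) [Mv.b (nat_lit 307), Mv.f (nat_lit 263), Mv.f (nat_lit 456)]))) (Tr.lf (Fc.ed (nat_lit 458) (nat_lit 169) Col.c (nat_lit 168) (Dv.wd (nat_lit 64) [Mv.b (nat_lit 455), Mv.f (nat_lit 442), Mv.f (nat_lit 306), Mv.f (nat_lit 269), Mv.f (nat_lit 456)])))))))) (Tr.nd (nat_lit 469) (Tr.nd (nat_lit 464) (Tr.nd (nat_lit 461) (Tr.nd (nat_lit 460) (Tr.lf (Fc.ed (nat_lit 459) (nat_lit 169) Col.a (nat_lit 168) (Dv.wd (nat_lit 48) [Mv.b (nat_lit 455), Mv.f (nat_lit 441), Mv.b (nat_lit 307), Mv.f (nat_lit 191), Mv.f (nat_lit 163), Mv.b (nat_lit 145), Mv.f (nat_lit 213), Mv.b (nat_lit 264), Mv.f (nat_lit 456)]))) (Tr.lf (Fc.ed (nat_lit 460) (nat_lit 168) Col.d (nat_lit 161) (Dv.wd (nat_lit 21) [Mv.f (nat_lit 441), Mv.b (nat_lit 457), Mv.f (nat_lit 459)])))) (Tr.nd (nat_lit 462) (Tr.lf (Fc.ed (nat_lit 461) (nat_lit 124) Col.c (nat_lit 170) Dv.df)) (Tr.nd (nat_lit 463) (Tr.lf (Fc.ed (nat_lit 462) (nat_lit 121) Col.g (nat_lit 171) Dv.df)) (Tr.lf (Fc.ed (nat_lit 463) (nat_lit 103) Col.g (nat_lit 172) Dv.df))))) (Tr.nd (nat_lit 466) (Tr.nd (nat_lit 465) (Tr.lf (Fc.ed (nat_lit 464) (nat_lit 166) Col.d (nat_lit 173) Dv.df)) (Tr.lf (Fc.ed (nat_lit 465) (nat_lit 173) Col.b (nat_lit 149) (Dv.wd (nat_lit 44) [Mv.f (nat_lit 410), Mv.f (nat_lit 451), Mv.f (nat_lit 464)])))) (Tr.nd (nat_lit 467) (Tr.lf (Fc.ed (nat_lit 466) (nat_lit 173) Col.g (nat_lit 169) (Dv.wd (nat_lit 12) [Mv.f (nat_lit 457), Mv.b (nat_lit 452), Mv.f (nat_lit 464)]))) (Tr.nd (nat_lit 468) (Tr.lf (Fc.ed (nat_lit 467) (nat_lit 172) Col.d (nat_lit 174) Dv.df)) (Tr.lf (Fc.ed (nat_lit 468) (nat_lit 174) Col.g (nat_lit 123) (Dv.wd (nat_lit 12) [Mv.b (nat_lit 348), Mv.f (nat_lit 463), Mv.f (nat_lit 467)]))))))) (Tr.nd (nat_lit 474) (Tr.nd (nat_lit 471) (Tr.nd (nat_lit 470) (Tr.lf (Fc.ed (nat_lit 469) (nat_lit 116) Col.f (nat_lit 175) Dv.df)) (Tr.lf (Fc.ed (nat_lit 470) (nat_lit 175) Col.a (nat_lit 121) (Dv.wd (nat_lit 55) [Mv.f (nat_lit 345), Mv.b (nat_lit 331), Mv.f (nat_lit 469)])))) (Tr.nd (nat_lit 472) (Tr.lf (Fc.ed (nat_lit 471) (nat_lit 175) Col.e (nat_lit 132) (Dv.wd (nat_lit 42) [Mv.f (nat_lit 371), Mv.b (nat_lit 330), Mv.f (nat_lit 469)]))) (Tr.nd (nat_lit 473) (Tr.lf (Fc.ed (nat_lit 472) (nat_lit 77) Col.b (nat_lit 176) Dv.df)) (Tr.lf (Fc.ed (nat_lit 473) (nat_lit 163) Col.c (nat_lit 177) Dv.df))))) (Tr.nd (nat_lit 476) (Tr.nd (nat_lit 475) (Tr.lf (Fc.ed (nat_lit 474) (nat_lit 177) Col.b (nat_lit 117) (Dv.wd (nat_lit 59) [Mv.b (nat_lit 332), Mv.b (nat_lit 55), Mv.b (nat_lit 54), Mv.f (nat_lit 445), Mv.f (nat_lit 473)]))) (Tr.lf (Fc.ed (nat_lit 475) (nat_lit 98) Col.b (nat_lit 178) Dv.df))) (Tr.nd (nat_lit 477) (Tr.lf (Fc.ed (nat_lit 476) (nat_lit 178) Col.f (nat_lit 176) (Dv.wd (nat_lit 34) [Mv.b (nat_lit 472), Mv.b (nat_lit 219), Mv.f (nat_lit 280), Mv.b (nat_lit 288), Mv.f (nat_lit 475)]))) (Tr.nd (nat_lit 478) (Tr.lf (Fc.ed (nat_lit 477) (nat_lit 127) Col.b (nat_lit 179) Dv.df)) (Tr.lf (Fc.ed (nat_lit 478) (nat_lit 179) Col.e (nat_lit 169) (Dv.wd (nat_lit 16) [Mv.b (nat_lit 456), Mv.f (nat_lit 357), Mv.f (nat_lit 477)]))))))))))) (Tr.nd (nat_lit 559) (Tr.nd (nat_lit 519) (Tr.nd (nat_lit 499) (Tr.nd (nat_lit 489) (Tr.nd (nat_lit 484) (Tr.nd (nat_lit 481) (Tr.nd (nat_lit 480) (Tr.lf (Fc.ed (nat_lit 479) (nat_lit 175) Col.g (nat_lit 180) Dv.df)) (Tr.lf (Fc.ed (nat_lit 480) (nat_lit 180) Col.f (nat_lit 172) (Dv.wd (nat_lit 51) [Mv.b (nat_lit 463), Mv.b (nat_lit 331), Mv.f (nat_lit 469), Mv.f (nat_lit 479)])))) (Tr.nd (nat_lit 482) (Tr.lf (Fc.ed (nat_lit 481) (nat_lit 164) Col.a (nat_lit 181) Dv.df)) (Tr.nd (nat_lit 483) (Tr.lf (Fc.ed (nat_lit 482) (nat_lit 181) Col.c (nat_lit 175) (Dv.wd (nat_lit 28) [Mv.f (nat_lit 470), Mv.f (nat_lit 446), Mv.f (nat_lit 481)]))) (Tr.lf (Fc.ed (nat_lit 483) (nat_lit 181) Col.f (nat_lit 152) (Dv.wd (nat_lit 29) [Mv.f (nat_lit 418), Mv.b (nat_lit 447), Mv.f (nat_lit 481)])))))) (Tr.nd (nat_lit 486) (Tr.nd (nat_lit 485) (Tr.lf (Fc.ed (nat_lit 484) (nat_lit 164) Col.b (nat_lit 182) Dv.df)) (Tr.lf (Fc.ed (nat_lit 485) (nat_lit 82) Col.b (nat_lit 183) Dv.df))) (Tr.nd (nat_lit 487) (Tr.lf (Fc.ed (nat_lit 486) (nat_lit 183) Col.e (nat_lit 176) (Dv.wd (nat_lit 16) [Mv.b (nat_lit 472), Mv.f (nat_lit 236), Mv.f (nat_lit 485)]))) (Tr.nd (nat_lit 488) (Tr.lf (Fc.ed (nat_lit 487) (nat_lit 83) Col.b (nat_lit 184) Dv.df)) (Tr.lf (Fc.ed (nat_lit 488) (nat_lit 184) Col.f (nat_lit 182) (Dv.wd (nat_lit 34) [Mv.b (nat_lit 484), Mv.f (nat_lit 447), Mv.b (nat_lit 321), Mv.f (nat_lit 240), Mv.f (nat_lit 487)]))))))) (Tr.nd (nat_lit 494) (Tr.nd (nat_lit 491) (Tr.nd (nat_lit 490) (Tr.lf (Fc.ed (nat_lit 489) (nat_lit 179) Col.a (nat_lit 185) Dv.df)) (Tr.lf (Fc.ed (nat_lit 490) (nat_lit 185) Col.b (nat_lit 152) (Dv.wd (nat_lit 67) [Mv.f (nat_lit 418), Mv.b (nat_lit 321), Mv.b (nat_lit 224), Mv.f (nat_lit 225), Mv.f (nat_lit 175), Mv.f (nat_lit 297), Mv.b (nat_lit 358), Mv.f (nat_lit 477), Mv.f (nat_lit 489)])))) (Tr.nd (nat_lit 492) (Tr.lf (Fc.ed (nat_lit 491) (nat_lit 179) Col.c (nat_lit 185) (Dv.wd (nat_lit 62) [Mv.f (nat_lit 490), Mv.b (nat_lit 417), Mv.b (nat_lit 329), Mv.b (nat_lit 359), Mv.f (nat_lit 477)]))) (Tr.nd (nat_lit 493) (Tr.lf (Fc.ed (nat_lit 492) (nat_lit 144) Col.b (nat_lit 186) Dv.df)) (Tr.lf (Fc.ed (nat_lit 493) (nat_lit 186) Col.g (nat_lit 183) (Dv.wd (nat_lit 10) [Mv.b (nat_lit 485), Mv.f (nat_lit 239), Mv.f (nat_lit 282), Mv.f (nat_lit 397), Mv.f (nat_lit 492)])))))) (Tr.nd (nat_lit 496) (Tr.nd (nat_lit 495) (Tr.lf (Fc.ed (nat_lit 494) (nat_lit 126) Col.c (nat_lit 187) Dv.df)) (Tr.lf (Fc.ed (nat_lit 495) (nat_lit 57) Col.b (nat_lit 188) Dv.df))) (Tr.nd (nat_lit 497) (Tr.lf (Fc.ed (nat_lit 496) (nat_lit 188) Col.c (nat_lit 176) (Dv.wd (nat_lit 64) [Mv.b (nat_lit 472), Mv.f (nat_lit 221), Mv.b (nat_lit 142), Mv.b (nat_lit 161), Mv.f (nat_lit 495)]))) (Tr.nd (nat_lit 498) (Tr.lf (Fc.ed (nat_lit 497) (nat_lit 101) Col.b (nat_lit 189) Dv.df)) (Tr.lf (Fc.ed (nat_lit 498) (nat_lit 189) Col.e (nat_lit 178) (Dv.wd (nat_lit 16) [Mv.b (nat_lit 475), Mv.b (nat_lit 296), Mv.f (nat_lit 497)])))))))) (Tr.nd (nat_lit 509) (Tr.nd (nat_lit 504) (Tr.nd (nat_lit 501) (Tr.nd (nat_lit 500) (Tr.lf (Fc.ed (nat_lit 499) (nat_lit 189) Col.f (nat_lit 183) (Dv.wd (nat_lit 34) [Mv.b (nat_lit 485), Mv.f (nat_lit 238), Mv.f (nat_lit 289), Mv.f (nat_lit 294), Mv.f (nat_lit 497)]))) (Tr.lf (Fc.ed (nat_lit 500) (nat_lit 153) Col.d (nat_lit 190) Dv.df))) (Tr.nd (nat_lit 502) (Tr.lf (Fc.ed (nat_lit 501) (nat_lit 190) Col.b (nat_lit 90) (Dv.wd (nat_lit 44) [Mv.b (nat_lit 262), Mv.f (nat_lit 419), Mv.f (nat_lit 500)]))) (Tr.nd (nat_lit 503) (Tr.lf (Fc.ed (nat_lit 502) (nat_lit 167) Col.d (nat_lit 191) Dv.df)) (Tr.lf (Fc.ed (nat_lit 503) (nat_lit 191) Col.f (nat_lit 169) (Dv.wd (nat_lit 39) [Mv.f (nat_lit 457), Mv.f (nat_lit 453), Mv.f (nat_lit 502)])))))) (Tr.nd (nat_lit 506) (Tr.nd (nat_lit 505) (Tr.lf (Fc.ed (nat_lit 504) (nat_lit 187) Col.d (nat_lit 192) Dv.df)) (Tr.lf (Fc.ed (nat_lit 505) (nat_lit 192) Col.c (nat_lit 143) (Dv.wd (nat_lit 60) [Mv.b (nat_lit 393), Mv.b (nat_lit 228), Mv.f (nat_lit 49), Mv.f (nat_lit 228), Mv.f (nat_lit 393), Mv.f (nat_lit 394), Mv.f (nat_lit 494), Mv.f (nat_lit 504)])))) (Tr.nd (nat_lit 507) (Tr.lf (Fc.ed (nat_lit 506) (nat_lit 175) Col.d (nat_lit 193) Dv.df)) (Tr.nd (nat_lit 508) (Tr.lf (Fc.ed (nat_lit 507) (nat_lit 193) Col.a (nat_lit 157) (Dv.wd (nat_lit 43) [Mv.f (nat_lit 431), Mv.b (nat_lit 470), Mv.f (nat_lit 506)]))) (Tr.lf (Fc.ed (nat_lit 508) (nat_lit 193) Col.e (nat_lit 148) (Dv.wd (nat_lit 65) [Mv.b (nat_lit 407), Mv.f (nat_lit 296), Mv.f (nat_lit 369), Mv.b (nat_lit 471), Mv.f (nat_lit 506)]))))))) (Tr.nd (nat_lit 514) (Tr.nd (nat_lit 511) (Tr.nd (nat_lit 510) (Tr.lf (Fc.ed (nat_lit 509) (nat_lit 159) Col.b (nat_lit 194) Dv.df)) (Tr.lf (Fc.ed (nat_lit 510) (nat_lit 194) Col.d (nat_lit 183) (Dv.wd (nat_lit 20) [Mv.b (nat_lit 485), Mv.f (nat_lit 435), Mv.f (nat_lit 509)])))) (Tr.nd (nat_lit 512) (Tr.lf (Fc.ed (nat_lit 511) (nat_lit 115) Col.b (nat_lit 195) Dv.df)) (Tr.nd (nat_lit 513) (Tr.lf (Fc.ed (nat_lit 512) (nat_lit 195) Col.c (nat_lit 182) (Dv.wd (nat_lit 64) [Mv.b (nat_lit 484), Mv.b (nat_lit 446), Mv.b (nat_lit 343), Mv.b (nat_lit 336), Mv.f (nat_lit 511)]))) (Tr.lf (Fc.ed (nat_lit 513) (nat_lit 184) Col.d (nat_lit 196) Dv.df))))) (Tr.nd (nat_lit 516) (Tr.nd (nat_lit 515) (Tr.lf (Fc.ed (nat_lit 514) (nat_lit 196) Col.b (nat_lit 147) (Dv.wd (nat_lit 44) [Mv.b (nat_lit 404), Mv.f (nat_lit 487), Mv.f (nat_lit 513)]))) (Tr.lf (Fc.ed (nat_lit 515) (nat_lit 132) Col.c (nat_lit 197) Dv.df))) (Tr.nd (nat_lit 517) (Tr.lf (Fc.ed (nat_lit 516) (nat_lit 197) Col.a (nat_lit 167) (Dv.wd (nat_lit 7) [Mv.f (nat_lit 454), Mv.b (nat_lit 370), Mv.f (nat_lit 515)]))) (Tr.nd (nat_lit 518) (Tr.lf (Fc.ed (nat_lit 517) (nat_lit 197) Col.e (nat_lit 181) (Dv.wd (nat_lit 17) [Mv.f (nat_lit 482), Mv.f (nat_lit 471), Mv.f (nat_lit 515)]))) (Tr.lf (Fc.ed (nat_lit 518) (nat_lit 197) Col.f (nat_lit 161) (Dv.wd (nat_lit 25) [Mv.f (nat_lit 442), Mv.b (nat_lit 371), Mv.f (nat_lit 515)]))))))))) (Tr.nd (nat_lit 539) (Tr.nd (nat_lit 529) (Tr.nd (nat_lit 524) (Tr.nd (nat_lit 521) (Tr.nd (nat_lit 520) (Tr.lf (Fc.ed (nat_lit 519) (nat_lit 160) Col.f (nat_lit 198) Dv.df)) (Tr.lf (Fc.ed (nat_lit 520) (nat_lit 198) Col.g (nat_lit 130) (Dv.wd (nat_lit 46) [Mv.b (nat_lit 408), Mv.b (nat_lit 450), Mv.f (nat_lit 449), Mv.f (nat_lit 519)])))) (Tr.nd (nat_lit 522) (Tr.lf (Fc.ed (nat_lit 521) (nat_lit 190) Col.e (nat_lit 199) Dv.df)) (Tr.nd (nat_lit 523) (Tr.lf (Fc.ed (nat_lit 522) (nat_lit 199) Col.b (nat_lit 93) (Dv.wd (nat_lit 56) [Mv.f (nat_lit 271), Mv.b (nat_lit 501), Mv.f (nat_lit 521)]))) (Tr.lf (Fc.ed (nat_lit 523) (nat_lit 188) Col.d (nat_lit 199) (Dv.wd (nat_lit 71) [Mv.f (nat_lit 522), Mv.b (nat_lit 270), Mv.f (nat_lit 495)])))))) (Tr.nd (nat_lit 526) (Tr.nd (nat_lit 525) (Tr.lf (Fc.ed (nat_lit 524) (nat_lit 94) Col.b (nat_lit 200) Dv.df)) (Tr.lf (Fc.ed (nat_lit 525) (nat_lit 200) Col.c (nat_lit 184) (Dv.wd (nat_lit 64) [Mv.b (nat_lit 487), Mv.f (nat_lit 242), Mv.b (nat_lit 128), Mv.b (nat_lit 274), Mv.f (nat_lit 524)])))) (Tr.nd (nat_lit 527) (Tr.lf (Fc.ed (nat_lit 526) (nat_lit 200) Col.f (nat_lit 195) (Dv.wd (nat_lit 34) [Mv.b (nat_lit 511), Mv.f (nat_lit 328), Mv.b (nat_lit 301), Mv.b (nat_lit 276), Mv.f (nat_lit 524)]))) (Tr.nd (nat_lit 528) (Tr.lf (Fc.ed (nat_lit 527) (nat_lit 20) Col.b (nat_lit 201) Dv.df)) (Tr.lf (Fc.ed (nat_lit 528) (nat_lit 201) Col.d (nat_lit 163) (Dv.wd (nat_lit 20) [Mv.b (nat_lit 445), Mv.b (nat_lit 53), Mv.f (nat_lit 527)]))))))) (Tr.nd (nat_lit 534) (Tr.nd (nat_lit 531) (Tr.nd (nat_lit 530) (Tr.lf (Fc.ed (nat_lit 529) (nat_lit 201) Col.c (nat_lit 183) (Dv.wd (nat_lit 64) [Mv.b (nat_lit 485), Mv.f (nat_lit 237), Mv.f (nat_lit 51), Mv.f (nat_lit 52), Mv.f (nat_lit 527)]))) (Tr.lf (Fc.ed (nat_lit 530) (nat_lit 195) Col.a (nat_lit 202) Dv.df))) (Tr.nd (nat_lit 532) (Tr.lf (Fc.ed (nat_lit 531) (nat_lit 202) Col.b (nat_lit 181) (Dv.wd (nat_lit 72) [Mv.f (nat_lit 482), Mv.b (nat_lit 469), Mv.f (nat_lit 331), Mv.f (nat_lit 300), Mv.f (nat_lit 205), Mv.b (nat_lit 150), Mv.b (nat_lit 156), Mv.b (nat_lit 179), Mv.b (nat_lit 184), Mv.f (nat_lit 185), Mv.f (nat_lit 182), Mv.f (nat_lit 183), Mv.b (nat_lit 226), Mv.f (nat_lit 227), Mv.b (nat_lit 241), Mv.f (nat_lit 487), Mv.b (nat_lit 525), Mv.f (nat_lit 526), Mv.f (nat_lit 530)]))) (Tr.nd (nat_lit 533) (Tr.lf (Fc.ed (nat_lit 532) (nat_lit 200) Col.e (nat_lit 203) Dv.df)) (Tr.lf (Fc.ed (nat_lit 533) (nat_lit 203) Col.b (nat_lit 71) (Dv.wd (nat_lit 56) [Mv.b (nat_lit 275), Mv.f (nat_lit 524), Mv.f (nat_lit 532)])))))) (Tr.nd (nat_lit 536) (Tr.nd (nat_lit 535) (Tr.lf (Fc.ed (nat_lit 534) (nat_lit 111) Col.b (nat_lit 204) Dv.df)) (Tr.lf (Fc.ed (nat_lit 535) (nat_lit 204) Col.c (nat_lit 204) (Dv.wd (nat_lit 64) [Mv.b (nat_lit 534), Mv.b (nat_lit 318), Mv.f (nat_lit 83), Mv.f (nat_lit 318), Mv.f (nat_lit 534)])))) (Tr.nd (nat_lit 537) (Tr.lf (Fc.ed (nat_lit 536) (nat_lit 66) Col.b (nat_lit 205) Dv.df)) (Tr.nd (nat_lit 538) (Tr.lf (Fc.ed (nat_lit 537) (nat_lit 205) Col.e (nat_lit 184) (Dv.wd (nat_lit 16) [Mv.b (nat_lit 487), Mv.f (nat_lit 243), Mv.f (nat_lit 536)]))) (Tr.lf (Fc.ed (nat_lit 538) (nat_lit 205) Col.c (nat_lit 203) (Dv.wd (nat_lit 64) [Mv.f (nat_lit 533), Mv.f (nat_lit 202), Mv.f (nat_lit 97), Mv.b (nat_lit 189), Mv.f (nat_lit 536)])))))))) (Tr.nd (nat_lit 549) (Tr.nd (nat_lit 544) (Tr.nd (nat_lit 541) (Tr.nd (nat_lit 540) (Tr.lf (Fc.ed (nat_lit 539) (nat_lit 181) Col.g (nat_lit 206) Dv.df)) (Tr.lf (Fc.ed (nat_lit 540) (nat_lit 206) Col.f (nat_lit 151) (Dv.wd (nat_lit 51) [Mv.f (nat_lit 416), Mv.b (nat_lit 418), Mv.b (nat_lit 483), Mv.f (nat_lit 539)])))) (Tr.nd (nat_lit 542) (Tr.lf (Fc.ed (nat_lit 541) (nat_lit 167) Col.b (nat_lit 207) Dv.df)) (Tr.nd (nat_lit 543) (Tr.lf (Fc.ed (nat_lit 542) (nat_lit 207) Col.f (nat_lit 205) (Dv.wd (nat_lit 34) [Mv.b (nat_lit 536), Mv.b (nat_lit 192), Mv.f (nat_lit 307), Mv.f (nat_lit 453), Mv.f (nat_lit 541)]))) (Tr.lf (Fc.ed (nat_lit 543) (nat_lit 191) Col.c (nat_lit 208) Dv.df))))) (Tr.nd (nat_lit 546) (Tr.nd (nat_lit 545) (Tr.lf (Fc.ed (nat_lit 544) (nat_lit 208) Col.f (nat_lit 168) (Dv.wd (nat_lit 25) [Mv.b (nat_lit 458), Mv.b (nat_lit 503), Mv.f (nat_lit 543)]))) (Tr.lf (Fc.ed (nat_lit 545) (nat_lit 208) Col.d (nat_lit 197) (Dv.wd (nat_lit 63) [Mv.b (nat_lit 515), Mv.b (nat_lit 369), Mv.f (nat_lit 287), Mv.f (nat_lit 369), Mv.f (nat_lit 370), Mv.b (nat_lit 454), Mv.f (nat_lit 502), Mv.f (nat_lit 543)])))) (Tr.nd (nat_lit 547) (Tr.lf (Fc.ed (nat_lit 546) (nat_lit 170) Col.f (nat_lit 209) Dv.df)) (Tr.nd (nat_lit 548) (Tr.lf (Fc.ed (nat_lit 547) (nat_lit 209) Col.c (nat_lit 135) (Dv.wd (nat_lit 53) [Mv.b (nat_lit 375), Mv.f (nat_lit 461), Mv.f (nat_lit 546)]))) (Tr.lf (Fc.ed (nat_lit 548) (nat_lit 209) Col.d (nat_lit 210) Dv.df)))))) (Tr.nd (nat_lit 554) (Tr.nd (nat_lit 551) (Tr.nd (nat_lit 550) (Tr.lf (Fc.ed (nat_lit 549) (nat_lit 210) Col.c (nat_lit 147) (Dv.wd (nat_lit 60) [Mv.b (nat_lit 404), Mv.f (nat_lit 242), Mv.f (nat_lit 125), Mv.b (nat_lit 242), Mv.f (nat_lit 404), Mv.f (nat_lit 405), Mv.b (nat_lit 547), Mv.f (nat_lit 548)]))) (Tr.lf (Fc.ed (nat_lit 550) (nat_lit 84) Col.b (nat_lit 211) Dv.df))) (Tr.nd (nat_lit 552) (Tr.lf (Fc.ed (nat_lit 551) (nat_lit 211) Col.d (nat_lit 176) (Dv.wd (nat_lit 20) [Mv.b (nat_lit 472), Mv.b (nat_lit 245), Mv.f (nat_lit 550)]))) (Tr.nd (nat_lit 553) (Tr.lf (Fc.ed (nat_lit 552) (nat_lit 179) Col.d (nat_lit 212) Dv.df)) (Tr.lf (Fc.ed (nat_lit 553) (nat_lit 212) Col.b (nat_lit 150) (Dv.wd (nat_lit 44) [Mv.f (nat_lit 414), Mv.f (nat_lit 477), Mv.f (nat_lit 552)])))))) (Tr.nd (nat_lit 556) (Tr.nd (nat_lit 555) (Tr.lf (Fc.ed (nat_lit 554) (nat_lit 212) Col.e (nat_lit 213) Dv.df)) (Tr.lf (Fc.ed (nat_lit 555) (nat_lit 213) Col.b (nat_lit 125) (Dv.wd (nat_lit 56) [Mv.f (nat_lit 412), Mv.b (nat_lit 553), Mv.f (nat_lit 554)])))) (Tr.nd (nat_lit 557) (Tr.lf (Fc.ed (nat_lit 556) (nat_lit 213) Col.d (nat_lit 113) (Dv.wd (nat_lit 27) [Mv.f (nat_lit 322), Mv.b (nat_lit 457), Mv.b (nat_lit 478), Mv.f (nat_lit 552), Mv.f (nat_lit 554)]))) (Tr.nd (nat_lit 558) (Tr.lf (Fc.ed (nat_lit 557) (nat_lit 81) Col.b (nat_lit 214) Dv.df)) (Tr.lf (Fc.ed (nat_lit 558) (nat_lit 214) Col.d (nat_lit 203) (Dv.wd (nat_lit 20) [Mv.f (nat_lit 533), Mv.b (nat_lit 235), Mv.f (nat_lit 557)])))))))))) (Tr.nd (nat_lit 599) (Tr.nd (nat_lit 579) (Tr.nd (nat_lit 569) (Tr.nd (nat_lit 564) (Tr.nd (nat_lit 561) (Tr.nd (nat_lit 560) (Tr.lf (Fc.ed (nat_lit 559) (nat_lit 214) Col.c (nat_lit 207) (Dv.wd (nat_lit 64) [Mv.b (nat_lit 541), Mv.f (nat_lit 454), Mv.b (nat_lit 312), Mv.f (nat_lit 233), Mv.f (nat_lit 557)]))) (Tr.lf (Fc.ed (nat_lit 560) (nat_lit 214) Col.f (nat_lit 203) (Dv.wd (nat_lit 34) [Mv.f (nat_lit 533), Mv.b (nat_lit 209), Mv.b (nat_lit 217), Mv.b (nat_lit 234), Mv.f (nat_lit 557)])))) (Tr.nd (nat_lit 562) (Tr.lf (Fc.ed (nat_lit 561) (nat_lit 208) Col.b (nat_lit 215) Dv.df)) (Tr.nd (nat_lit 563) (Tr.lf (Fc.ed (nat_lit 562) (nat_lit 215) Col.a (nat_lit 203) (Dv.wd (nat_lit 66) [Mv.b (nat_lit 560), Mv.f (nat_lit 559), Mv.b (nat_lit 541), Mv.b (nat_lit 516), Mv.f (nat_lit 518), Mv.f (nat_lit 442), Mv.f (nat_lit 306), Mv.f (nat_lit 267), Mv.b (nat_lit 234), Mv.b (nat_lit 233), Mv.f (nat_lit 312), Mv.b (nat_lit 370), Mv.f (nat_lit 371), Mv.b (nat_lit 442), Mv.f (nat_lit 455), Mv.b (nat_lit 459), Mv.b (nat_lit 503), Mv.f (nat_lit 543), Mv.f (nat_lit 561)]))) (Tr.lf (Fc.ed (nat_lit 563) (nat_lit 204) Col.d (nat_lit 216) Dv.df))))) (Tr.nd (nat_lit 566) (Tr.nd (nat_lit 565) (Tr.lf (Fc.ed (nat_lit 564) (nat_lit 207) Col.g (nat_lit 217) Dv.df)) (Tr.lf (Fc.ed (nat_lit 565) (nat_lit 217) Col.b (nat_lit 191) (Dv.wd (nat_lit 73) [Mv.f (nat_lit 503), Mv.b (nat_lit 466), Mv.f (nat_lit 465), Mv.b (nat_lit 444), Mv.b (nat_lit 443), Mv.b (nat_lit 312), Mv.f (nat_lit 232), Mv.f (nat_lit 215), Mv.f (nat_lit 217), Mv.f (nat_lit 209), Mv.b (nat_lit 201), Mv.f (nat_lit 536), Mv.b (nat_lit 542), Mv.f (nat_lit 564)])))) (Tr.nd (nat_lit 567) (Tr.lf (Fc.ed (nat_lit 566) (nat_lit 207) Col.d (nat_lit 217) (Dv.wd (nat_lit 71) [Mv.f (nat_lit 565), Mv.b (nat_lit 502), Mv.f (nat_lit 541)]))) (Tr.nd (nat_lit 568) (Tr.lf (Fc.ed (nat_lit 567) (nat_lit 164) Col.d (nat_lit 218) Dv.df)) (Tr.lf (Fc.ed (nat_lit 568) (nat_lit 218) Col.f (nat_lit 213) (Dv.wd (nat_lit 39) [Mv.f (nat_lit 556), Mv.b (nat_lit 447), Mv.f (nat_lit 567)]))))))) (Tr.nd (nat_lit 574) (Tr.nd (nat_lit 571) (Tr.nd (nat_lit 570) (Tr.lf (Fc.ed (nat_lit 569) (nat_lit 197) Col.b (nat_lit 219) Dv.df)) (Tr.lf (Fc.ed (nat_lit 570) (nat_lit 219) Col.d (nat_lit 215) (Dv.wd (nat_lit 20) [Mv.b (nat_lit 561), Mv.f (nat_lit 545), Mv.f (nat_lit 569)])))) (Tr.nd (nat_lit 572) (Tr.lf (Fc.ed (nat_lit 571) (nat_lit 219) Col.e (nat_lit 202) (Dv.wd (nat_lit 16) [Mv.f (nat_lit 531), Mv.b (nat_lit 517), Mv.f (nat_lit 569)]))) (Tr.nd (nat_lit 573) (Tr.lf (Fc.ed (nat_lit 572) (nat_lit 219) Col.f (nat_lit 215) (Dv.wd (nat_lit 34) [Mv.b (nat_lit 561), Mv.f (nat_lit 544), Mv.b (nat_lit 455), Mv.b (nat_lit 518), Mv.f (nat_lit 569)]))) (Tr.lf (Fc.ed (nat_lit 573) (nat_lit 219) Col.a (nat_lit 214) (Dv.wd (nat_lit 66) [Mv.f (nat_lit 560), Mv.b (nat_lit 538), Mv.b (nat_lit 536), Mv.b (nat_lit 188), Mv.f (nat_lit 187), Mv.b (nat_lit 162), Mv.f (nat_lit 107), Mv.f (nat_lit 44), Mv.f (nat_lit 42), Mv.f (nat_lit 20), Mv.b (nat_lit 18), Mv.f (nat_lit 64), Mv.b (nat_lit 69), Mv.b (nat_lit 165), Mv.f (nat_lit 292), Mv.f (nat_lit 304), Mv.b (nat_lit 371), Mv.f (nat_lit 515), Mv.f (nat_lit 569)])))))) (Tr.nd (nat_lit 576) (Tr.nd (nat_lit 575) (Tr.lf (Fc.ed (nat_lit 574) (nat_lit 211) Col.f (nat_lit 220) Dv.df)) (Tr.lf (Fc.ed (nat_lit 575) (nat_lit 220) Col.d (nat_lit 178) (Dv.wd (nat_lit 69) [Mv.f (nat_lit 476), Mv.b (nat_lit 551), Mv.f (nat_lit 574)])))) (Tr.nd (nat_lit 577) (Tr.lf (Fc.ed (nat_lit 576) (nat_lit 220) Col.b (nat_lit 132) (Dv.wd (nat_lit 54) [Mv.f (nat_lit 371), Mv.f (nat_lit 306), Mv.f (nat_lit 268), Mv.f (nat_lit 550), Mv.f (nat_lit 574)]))) (Tr.nd (nat_lit 578) (Tr.lf (Fc.ed (nat_lit 577) (nat_lit 171) Col.d (nat_lit 221) Dv.df)) (Tr.lf (Fc.ed (nat_lit 578) (nat_lit 221) Col.g (nat_lit 157) (Dv.wd (nat_lit 12) [Mv.f (nat_lit 431), Mv.f (nat_lit 462), Mv.f (nat_lit 577)])))))))) (Tr.nd (nat_lit 589) (Tr.nd (nat_lit 584) (Tr.nd (nat_lit 581) (Tr.nd (nat_lit 580) (Tr.lf (Fc.ed (nat_lit 579) (nat_lit 217) Col.f (nat_lit 222) Dv.df)) (Tr.lf (Fc.ed (nat_lit 580) (nat_lit 222) Col.d (nat_lit 205) (Dv.wd (nat_lit 69) [Mv.b (nat_lit 542), Mv.f (nat_lit 566), Mv.f (nat_lit 579)])))) (Tr.nd (nat_lit 582) (Tr.lf (Fc.ed (nat_lit 581) (nat_lit 222) Col.b (nat_lit 86) (Dv.wd (nat_lit 54) [Mv.b (nat_lit 265), Mv.f (nat_lit 456), Mv.b (nat_lit 503), Mv.b (nat_lit 565), Mv.f (nat_lit 579)]))) (Tr.nd (nat_lit 583) (Tr.lf (Fc.ed (nat_lit 582) (nat_lit 221) Col.f (nat_lit 223) Dv.df)) (Tr.lf (Fc.ed (nat_lit 583) (nat_lit 223) Col.g (nat_lit 146) (Dv.wd (nat_lit 30) [Mv.f (nat_lit 403), Mv.b (nat_lit 430), Mv.b (nat_lit 578), Mv.f (nat_lit 582)])))))) (Tr.nd (nat_lit 586) (Tr.nd (nat_lit 585) (Tr.lf (Fc.ed (nat_lit 584) (nat_lit 223) Col.a (nat_lit 174) (Dv.wd (nat_lit 74) [Mv.f (nat_lit 468), Mv.b (nat_lit 430), Mv.b (nat_lit 578), Mv.f (nat_lit 582)]))) (Tr.lf (Fc.ed (nat_lit 585) (nat_lit 150) Col.c (nat_lit 224) Dv.df))) (Tr.nd (nat_lit 587) (Tr.lf (Fc.ed (nat_lit 586) (nat_lit 211) Col.e (nat_lit 225) Dv.df)) (Tr.nd (nat_lit 588) (Tr.lf (Fc.ed (nat_lit 587) (nat_lit 225) Col.b (nat_lit 118) (Dv.wd (nat_lit 56) [Mv.b (nat_lit 334), Mv.f (nat_lit 550), Mv.f (nat_lit 586)]))) (Tr.lf (Fc.ed (nat_lit 588) (nat_lit 186) Col.f (nat_lit 226) Dv.df)))))) (Tr.nd (nat_lit 594) (Tr.nd (nat_lit 591) (Tr.nd (nat_lit 590) (Tr.lf (Fc.ed (nat_lit 589) (nat_lit 226) Col.b (nat_lit 206) (Dv.wd (nat_lit 54) [Mv.f (nat_lit 540), Mv.b (nat_lit 415), Mv.b (nat_lit 399), Mv.f (nat_lit 492), Mv.f (nat_lit 588)]))) (Tr.lf (Fc.ed (nat_lit 590) (nat_lit 222) Col.e (nat_lit 227) Dv.df))) (Tr.nd (nat_lit 592) (Tr.lf (Fc.ed (nat_lit 591) (nat_lit 227) Col.b (nat_lit 120) (Dv.wd (nat_lit 56) [Mv.b (nat_lit 339), Mv.b (nat_lit 581), Mv.f (nat_lit 590)]))) (Tr.nd (nat_lit 593) (Tr.lf (Fc.ed (nat_lit 592) (nat_lit 200) Col.d (nat_lit 228) Dv.df)) (Tr.lf (Fc.ed (nat_lit 593) (nat_lit 228) Col.b (nat_lit 154) (Dv.wd (nat_lit 44) [Mv.f (nat_lit 421), Mv.f (nat_lit 524), Mv.f (nat_lit 592)])))))) (Tr.nd (nat_lit 596) (Tr.nd (nat_lit 595) (Tr.lf (Fc.ed (nat_lit 594) (nat_lit 196) Col.f (nat_lit 229) Dv.df)) (Tr.lf (Fc.ed (nat_lit 595) (nat_lit 229) Col.d (nat_lit 182) (Dv.wd (nat_lit 69) [Mv.b (nat_lit 488), Mv.f (nat_lit 513), Mv.f (nat_lit 594)])))) (Tr.nd (nat_lit 597) (Tr.lf (Fc.ed (nat_lit 596) (nat_lit 229) Col.b (nat_lit 218) (Dv.wd (nat_lit 54) [Mv.f (nat_lit 568), Mv.f (nat_lit 555), Mv.b (nat_lit 406), Mv.b (nat_lit 514), Mv.f (nat_lit 594)]))) (Tr.nd (nat_lit 598) (Tr.lf (Fc.ed (nat_lit 597) (nat_lit 111) Col.d (nat_lit 230) Dv.df)) (Tr.lf (Fc.ed (nat_lit 598) (nat_lit 230) Col.b (nat_lit 216) (Dv.wd (nat_lit 44) [Mv.b (nat_lit 563), Mv.b (nat_lit 534), Mv.f (nat_lit 597)]))))))))) (Tr.nd (nat_lit 619) (Tr.nd (nat_lit 609) (Tr.nd (nat_lit 604) (Tr.nd (nat_lit 601) (Tr.nd (nat_lit 600) (Tr.lf (Fc.ed (nat_lit 599) (nat_lit 180) Col.d (nat_lit 231) Dv.df)) (Tr.lf (Fc.ed (nat_lit 600) (nat_lit 231) Col.f (nat_lit 174) (Dv.wd (nat_lit 39) [Mv.b (nat_lit 467), Mv.b (nat_lit 480), Mv.f (nat_lit 599)])))) (Tr.nd (nat_lit 602) (Tr.lf (Fc.ed (nat_lit 601) (nat_lit 231) Col.g (nat_lit 193) (Dv.wd (nat_lit 12) [Mv.b (nat_lit 506), Mv.f (nat_lit 479), Mv.f (nat_lit 599)]))) (Tr.nd (nat_lit 603) (Tr.lf (Fc.ed (nat_lit 602) (nat_lit 182) Col.g (nat_lit 232) Dv.df)) (Tr.lf (Fc.ed (nat_lit 603) (nat_lit 232) Col.f (nat_lit 227) (Dv.wd (nat_lit 75) [Mv.f (nat_lit 591), Mv.f (nat_lit 342), Mv.f (nat_lit 328), Mv.b (nat_lit 301), Mv.f (nat_lit 250), Mv.f (nat_lit 227), Mv.f (nat_lit 282), Mv.f (nat_lit 397), Mv.f (nat_lit 399), Mv.f (nat_lit 415), Mv.f (nat_lit 416), Mv.b (nat_lit 447), Mv.f (nat_lit 484), Mv.f (nat_lit 602)])))))) (Tr.nd (nat_lit 606) (Tr.nd (nat_lit 605) (Tr.lf (Fc.ed (nat_lit 604) (nat_lit 187) Col.e (nat_lit 233) Dv.df)) (Tr.lf (Fc.ed (nat_lit 605) (nat_lit 233) Col.c (nat_lit 137) (Dv.wd (nat_lit 58) [Mv.f (nat_lit 381), Mv.f (nat_lit 494), Mv.f (nat_lit 604)])))) (Tr.nd (nat_lit 607) (Tr.lf (Fc.ed (nat_lit 606) (nat_lit 163) Col.f (nat_lit 234) Dv.df)) (Tr.nd (nat_lit 608) (Tr.lf (Fc.ed (nat_lit 607) (nat_lit 228) Col.f (nat_lit 235) Dv.df)) (Tr.lf (Fc.ed (nat_lit 608) (nat_lit 235) Col.d (nat_lit 195) (Dv.wd (nat_lit 69) [Mv.b (nat_lit 526), Mv.f (nat_lit 592), Mv.f (nat_lit 607)]))))))) (Tr.nd (nat_lit 614) (Tr.nd (nat_lit 611) (Tr.nd (nat_lit 610) (Tr.lf (Fc.ed (nat_lit 609) (nat_lit 235) Col.b (nat_lit 158) (Dv.wd (nat_lit 54) [Mv.f (nat_lit 433), Mv.f (nat_lit 380), Mv.f (nat_lit 420), Mv.b (nat_lit 593), Mv.f (nat_lit 607)]))) (Tr.lf (Fc.ed (nat_lit 610) (nat_lit 194) Col.f (nat_lit 236) Dv.df))) (Tr.nd (nat_lit 612) (Tr.lf (Fc.ed (nat_lit 611) (nat_lit 236) Col.d (nat_lit 189) (Dv.wd (nat_lit 69) [Mv.f (nat_lit 499), Mv.b (nat_lit 510), Mv.f (nat_lit 610)]))) (Tr.nd (nat_lit 613) (Tr.lf (Fc.ed (nat_lit 612) (nat_lit 236) Col.b (nat_lit 148) (Dv.wd (nat_lit 54) [Mv.f (nat_lit 408), Mv.b (nat_lit 395), Mv.b (nat_lit 437), Mv.f (nat_lit 509), Mv.f (nat_lit 610)]))) (Tr.lf (Fc.ed (nat_lit 613) (nat_lit 232) Col.b (nat_lit 237) Dv.df))))) (Tr.nd (nat_lit 616) (Tr.nd (nat_lit 615) (Tr.lf (Fc.ed (nat_lit 614) (nat_lit 237) Col.f (nat_lit 179) (Dv.wd (nat_lit 34) [Mv.b (nat_lit 477), Mv.f (nat_lit 360), Mv.b (nat_lit 591), Mv.b (nat_lit 603), Mv.f (nat_lit 613)]))) (Tr.lf (Fc.ed (nat_lit 615) (nat_lit 225) Col.c (nat_lit 238) Dv.df))) (Tr.nd (nat_lit 617) (Tr.lf (Fc.ed (nat_lit 616) (nat_lit 227) Col.d (nat_lit 239) Dv.df)) (Tr.nd (nat_lit 618) (Tr.lf (Fc.ed (nat_lit 617) (nat_lit 239) Col.b (nat_lit 156) (Dv.wd (nat_lit 44) [Mv.b (nat_lit 425), Mv.b (nat_lit 591), Mv.f (nat_lit 616)]))) (Tr.lf (Fc.ed (nat_lit 618) (nat_lit 239) Col.e (nat_lit 196) (Dv.wd (nat_lit 65) [Mv.b (nat_lit 513), Mv.b (nat_lit 537), Mv.b (nat_lit 580), Mv.f (nat_lit 590), Mv.f (nat_lit 616)])))))))) (Tr.nd (nat_lit 629) (Tr.nd (nat_lit 624) (Tr.nd (nat_lit 621) (Tr.nd (nat_lit 620) (Tr.lf (Fc.ed (nat_lit 619) (nat_lit 184) Col.a (nat_lit 240) Dv.df)) (Tr.lf (Fc.ed (nat_lit 620) (nat_lit 240) Col.g (nat_lit 227) (Dv.wd (nat_lit 32) [Mv.b (nat_lit 603), Mv.b (nat_lit 602), Mv.b (nat_lit 488), Mv.f (nat_lit 619)])))) (Tr.nd (nat_lit 622) (Tr.lf (Fc.ed (nat_lit 621) (nat_lit 213) Col.g (nat_lit 241) Dv.df)) (Tr.nd (nat_lit 623) (Tr.lf (Fc.ed (nat_lit 622) (nat_lit 241) Col.d (nat_lit 151) (Dv.wd (nat_lit 14) [Mv.f (nat_lit 416), Mv.b (nat_lit 556), Mv.f (nat_lit 621)]))) (Tr.lf (Fc.ed (nat_lit 623) (nat_lit 241) Col.b (nat_lit 198) (Dv.wd (nat_lit 47) [Mv.f (nat_lit 520), Mv.b (nat_lit 395), Mv.f (nat_lit 396), Mv.b (nat_lit 555), Mv.f (nat_lit 621)])))))) (Tr.nd (nat_lit 626) (Tr.nd (nat_lit 625) (Tr.lf (Fc.ed (nat_lit 624) (nat_lit 117) Col.d (nat_lit 242) Dv.df)) (Tr.lf (Fc.ed (nat_lit 625) (nat_lit 242) Col.f (nat_lit 230) (Dv.wd (nat_lit 39) [Mv.b (nat_lit 597), Mv.b (nat_lit 333), Mv.f (nat_lit 624)])))) (Tr.nd (nat_lit 627) (Tr.lf (Fc.ed (nat_lit 626) (nat_lit 139) Col.b (nat_lit 243) Dv.df)) (Tr.nd (nat_lit 628) (Tr.lf (Fc.ed (nat_lit 627) (nat_lit 195) Col.g (nat_lit 244) Dv.df)) (Tr.lf (Fc.ed (nat_lit 628) (nat_lit 244) Col.c (nat_lit 232) (Dv.wd (nat_lit 13) [Mv.b (nat_lit 602), Mv.b (nat_lit 512), Mv.f (nat_lit 627)]))))))) (Tr.nd (nat_lit 634) (Tr.nd (nat_lit 631) (Tr.nd (nat_lit 630) (Tr.lf (Fc.ed (nat_lit 629) (nat_lit 244) Col.b (nat_lit 240) (Dv.wd (nat_lit 47) [Mv.f (nat_lit 620), Mv.f (nat_lit 591), Mv.f (nat_lit 342), Mv.f (nat_lit 511), Mv.f (nat_lit 627)]))) (Tr.lf (Fc.ed (nat_lit 630) (nat_lit 236) Col.e (nat_lit 245) Dv.df))) (Tr.nd (nat_lit 632) (Tr.lf (Fc.ed (nat_lit 631) (nat_lit 245) Col.b (nat_lit 193) (Dv.wd (nat_lit 56) [Mv.f (nat_lit 508), Mv.b (nat_lit 612), Mv.f (nat_lit 630)]))) (Tr.nd (nat_lit 633) (Tr.lf (Fc.ed (nat_lit 632) (nat_lit 225) Col.a (nat_lit 246) Dv.df)) (Tr.lf (Fc.ed (nat_lit 633) (nat_lit 246) Col.f (nat_lit 238) (Dv.wd (nat_lit 76) [Mv.b (nat_lit 615), Mv.f (nat_lit 587), Mv.f (nat_lit 335), Mv.f (nat_lit 328), Mv.f (nat_lit 303), Mv.b (nat_lit 297), Mv.b (nat_lit 175), Mv.b (nat_lit 195), Mv.f (nat_lit 194), Mv.f (nat_lit 153), Mv.f (nat_lit 152), Mv.b (nat_lit 150), Mv.f (nat_lit 172), Mv.f (nat_lit 297), Mv.b (nat_lit 358), Mv.f (nat_lit 360), Mv.f (nat_lit 341), Mv.b (nat_lit 587), Mv.f (nat_lit 632)])))))) (Tr.nd (nat_lit 636) (Tr.nd (nat_lit 635) (Tr.lf (Fc.ed (nat_lit 634) (nat_lit 240) Col.f (nat_lit 247) Dv.df)) (Tr.lf (Fc.ed (nat_lit 635) (nat_lit 247) Col.a (nat_lit 182) (Dv.wd (nat_lit 55) [Mv.b (nat_lit 488), Mv.f (nat_lit 619), Mv.f (nat_lit 634)])))) (Tr.nd (nat_lit 637) (Tr.lf (Fc.ed (nat_lit 636) (nat_lit 247) Col.c (nat_lit 202) (Dv.wd (nat_lit 77) [Mv.f (nat_lit 531), Mv.b (nat_lit 481), Mv.f (nat_lit 447), Mv.f (nat_lit 323), Mv.f (nat_lit 300), Mv.f (nat_lit 204), Mv.f (nat_lit 195), Mv.b (nat_lit 174), Mv.b (nat_lit 179), Mv.f (nat_lit 178), Mv.f (nat_lit 180), Mv.b (nat_lit 184), Mv.f (nat_lit 183), Mv.f (nat_lit 103), Mv.b (nat_lit 127), Mv.b (nat_lit 242), Mv.f (nat_lit 487), Mv.f (nat_lit 619), Mv.f (nat_lit 634)]))) (Tr.nd (nat_lit 638) (Tr.lf (Fc.ed (nat_lit 637) (nat_lit 246) Col.b (nat_lit 247) (Dv.wd (nat_lit 78) [Mv.f (nat_lit 635), Mv.b (nat_lit 484), Mv.f (nat_lit 481), Mv.b (nat_lit 531), Mv.b (nat_lit 530), Mv.b (nat_lit 511), Mv.b (nat_lit 335), Mv.b (nat_lit 587), Mv.f (nat_lit 632)]))) (Tr.lf (Fc.ed (nat_lit 638) (nat_lit 245) Col.f (nat_lit 248) Dv.df)))))))))))) (Tr.nd (nat_lit 959) (Tr.nd (nat_lit 799) (Tr.nd (nat_lit 719) (Tr.nd (nat_lit 679) (Tr.nd (nat_lit 659) (Tr.nd (nat_lit 649) (Tr.nd (nat_lit 644) (Tr.nd (nat_lit 641) (Tr.nd (nat_lit 640) (Tr.lf (Fc.ed (nat_lit 639) (nat_lit 248) Col.e (nat_lit 194) (Dv.wd (nat_lit 42) [Mv.f (nat_lit 610), Mv.f (nat_lit 630), Mv.f (nat_lit 638)]))) (Tr.lf (Fc.ed (nat_lit 640) (nat_lit 219) Col.c (nat_lit 249) Dv.df))) (Tr.nd (nat_lit 642) (Tr.lf (Fc.ed (nat_lit 641) (nat_lit 249) Col.a (nat_lit 207) (Dv.wd (nat_lit 7) [Mv.b (nat_lit 559), Mv.b (nat_lit 573), Mv.f (nat_lit 640)]))) (Tr.nd (nat_lit 643) (Tr.lf (Fc.ed (nat_lit 642) (nat_lit 202) Col.f (nat_lit 250) Dv.df)) (Tr.lf (Fc.ed (nat_lit 643) (nat_lit 250) Col.a (nat_lit 200) (Dv.wd (nat_lit 55) [Mv.f (nat_lit 526), Mv.f (nat_lit 530), Mv.f (nat_lit 642)])))))) (Tr.nd (nat_lit 646) (Tr.nd (nat_lit 645) (Tr.lf (Fc.ed (nat_lit 644) (nat_lit 250) Col.c (nat_lit 240) (Dv.wd (nat_lit 53) [Mv.f (nat_lit 634), Mv.f (nat_lit 636), Mv.f (nat_lit 642)]))) (Tr.lf (Fc.ed (nat_lit 645) (nat_lit 250) Col.e (nat_lit 215) (Dv.wd (nat_lit 42) [Mv.b (nat_lit 572), Mv.f (nat_lit 571), Mv.f (nat_lit 642)])))) (Tr.nd (nat_lit 647) (Tr.lf (Fc.ed (nat_lit 646) (nat_lit 237) Col.a (nat_lit 251) Dv.df)) (Tr.nd (nat_lit 648) (Tr.lf (Fc.ed (nat_lit 647) (nat_lit 251) Col.f (nat_lit 185) (Dv.wd (nat_lit 29) [Mv.b (nat_lit 489), Mv.b (nat_lit 614), Mv.f (nat_lit 646)]))) (Tr.lf (Fc.ed (nat_lit 648) (nat_lit 251) Col.b (nat_lit 250) (Dv.wd (nat_lit 72) [Mv.f (nat_lit 644), Mv.f (nat_lit 634), Mv.f (nat_lit 635), Mv.b (nat_lit 484), Mv.b (nat_lit 446), Mv.f (nat_lit 345), Mv.b (nat_lit 331), Mv.b (nat_lit 329), Mv.b (nat_lit 359), Mv.f (nat_lit 360), Mv.f (nat_lit 340), Mv.f (nat_lit 343), Mv.f (nat_lit 446), Mv.f (nat_lit 447), Mv.b (nat_lit 418), Mv.b (nat_lit 490), Mv.b (nat_lit 491), Mv.b (nat_lit 614), Mv.f (nat_lit 646)]))))))) (Tr.nd (nat_lit 654) (Tr.nd (nat_lit 651) (Tr.nd (nat_lit 650) (Tr.lf (Fc.ed (nat_lit 649) (nat_lit 237) Col.c (nat_lit 251) (Dv.wd (nat_lit 62) [Mv.f (nat_lit 648), Mv.f (nat_lit 644), Mv.b (nat_lit 629), Mv.f (nat_lit 628), Mv.f (nat_lit 613)]))) (Tr.lf (Fc.ed (nat_lit 650) (nat_lit 229) Col.g (nat_lit 252) Dv.df))) (Tr.nd (nat_lit 652) (Tr.lf (Fc.ed (nat_lit 651) (nat_lit 252) Col.f (nat_lit 239) (Dv.wd (nat_lit 75) [Mv.f (nat_lit 617), Mv.b (nat_lit 434), Mv.f (nat_lit 433), Mv.f (nat_lit 380), Mv.b (nat_lit 355), Mv.f (nat_lit 375), Mv.f (nat_lit 382), Mv.b (nat_lit 439), Mv.f (nat_lit 519), Mv.b (nat_lit 623), Mv.b (nat_lit 621), Mv.b (nat_lit 568), Mv.b (nat_lit 596), Mv.f (nat_lit 650)]))) (Tr.nd (nat_lit 653) (Tr.lf (Fc.ed (nat_lit 652) (nat_lit 229) Col.e (nat_lit 252) (Dv.wd (nat_lit 19) [Mv.f (nat_lit 651), Mv.f (nat_lit 618), Mv.f (nat_lit 594)]))) (Tr.lf (Fc.ed (nat_lit 653) (nat_lit 238) Col.b (nat_lit 253) Dv.df))))) (Tr.nd (nat_lit 656) (Tr.nd (nat_lit 655) (Tr.lf (Fc.ed (nat_lit 654) (nat_lit 253) Col.f (nat_lit 244) (Dv.wd (nat_lit 34) [Mv.f (nat_lit 629), Mv.f (nat_lit 634), Mv.b (nat_lit 637), Mv.f (nat_lit 633), Mv.f (nat_lit 653)]))) (Tr.lf (Fc.ed (nat_lit 655) (nat_lit 250) Col.g (nat_lit 253) (Dv.wd (nat_lit 46) [Mv.f (nat_lit 654), Mv.b (nat_lit 627), Mv.f (nat_lit 530), Mv.f (nat_lit 642)])))) (Tr.nd (nat_lit 657) (Tr.lf (Fc.ed (nat_lit 656) (nat_lit 152) Col.d (nat_lit 254) Dv.df)) (Tr.nd (nat_lit 658) (Tr.lf (Fc.ed (nat_lit 657) (nat_lit 254) Col.a (nat_lit 213) (Dv.wd (nat_lit 43) [Mv.f (nat_lit 556), Mv.b (nat_lit 418), Mv.f (nat_lit 656)]))) (Tr.lf (Fc.ed (nat_lit 658) (nat_lit 254) Col.b (nat_lit 255) Dv.df))))))) (Tr.nd (nat_lit 669) (Tr.nd (nat_lit 664) (Tr.nd (nat_lit 661) (Tr.nd (nat_lit 660) (Tr.lf (Fc.ed (nat_lit 659) (nat_lit 255) Col.d (nat_lit 185) (Dv.wd (nat_lit 20) [Mv.f (nat_lit 490), Mv.f (nat_lit 656), Mv.f (nat_lit 658)]))) (Tr.lf (Fc.ed (nat_lit 660) (nat_lit 255) Col.a (nat_lit 212) (Dv.wd (nat_lit 48) [Mv.f (nat_lit 553), Mv.f (nat_lit 413), Mv.b (nat_lit 366), Mv.b (nat_lit 317), Mv.b (nat_lit 352), Mv.f (nat_lit 353), Mv.b (nat_lit 555), Mv.b (nat_lit 657), Mv.f (nat_lit 658)])))) (Tr.nd (nat_lit 662) (Tr.lf (Fc.ed (nat_lit 661) (nat_lit 212) Col.f (nat_lit 256) Dv.df)) (Tr.nd (nat_lit 663) (Tr.lf (Fc.ed (nat_lit 662) (nat_lit 256) Col.d (nat_lit 237) (Dv.wd (nat_lit 69) [Mv.f (nat_lit 614), Mv.f (nat_lit 552), Mv.f (nat_lit 661)]))) (Tr.lf (Fc.ed (nat_lit 663) (nat_lit 256) Col.e (nat_lit 218) (Dv.wd (nat_lit 42) [Mv.f (nat_lit 568), Mv.b (nat_lit 554), Mv.f (nat_lit 661)])))))) (Tr.nd (nat_lit 666) (Tr.nd (nat_lit 665) (Tr.lf (Fc.ed (nat_lit 664) (nat_lit 256) Col.b (nat_lit 252) (Dv.wd (nat_lit 54) [Mv.f (nat_lit 651), Mv.f (nat_lit 617), Mv.f (nat_lit 427), Mv.b (nat_lit 553), Mv.f (nat_lit 661)]))) (Tr.lf (Fc.ed (nat_lit 665) (nat_lit 220) Col.c (nat_lit 257) Dv.df))) (Tr.nd (nat_lit 667) (Tr.lf (Fc.ed (nat_lit 666) (nat_lit 257) Col.b (nat_lit 249) (Dv.wd (nat_lit 59) [Mv.b (nat_lit 640), Mv.b (nat_lit 569), Mv.b (nat_lit 515), Mv.b (nat_lit 576), Mv.f (nat_lit 665)]))) (Tr.nd (nat_lit 668) (Tr.lf (Fc.ed (nat_lit 667) (nat_lit 257) Col.a (nat_lit 211) (Dv.wd (nat_lit 79) [Mv.f (nat_lit 574), Mv.f (nat_lit 665), Mv.f (nat_lit 666), Mv.f (nat_lit 641), Mv.f (nat_lit 542), Mv.f (nat_lit 538), Mv.f (nat_lit 533), Mv.b (nat_lit 220), Mv.b (nat_lit 219), Mv.f (nat_lit 211), Mv.f (nat_lit 77), Mv.b (nat_lit 90), Mv.b (nat_lit 96), Mv.b (nat_lit 202), Mv.b (nat_lit 533), Mv.b (nat_lit 562), Mv.b (nat_lit 572), Mv.f (nat_lit 640), Mv.b (nat_lit 666)]))) (Tr.lf (Fc.ed (nat_lit 668) (nat_lit 257) Col.f (nat_lit 258) Dv.df)))))) (Tr.nd (nat_lit 674) (Tr.nd (nat_lit 671) (Tr.nd (nat_lit 670) (Tr.lf (Fc.ed (nat_lit 669) (nat_lit 258) Col.a (nat_lit 220) (Dv.wd (nat_lit 55) [Mv.b (nat_lit 574), Mv.b (nat_lit 667), Mv.f (nat_lit 668)]))) (Tr.lf (Fc.ed (nat_lit 670) (nat_lit 258) Col.c (nat_lit 211) (Dv.wd (nat_lit 53) [Mv.f (nat_lit 574), Mv.f (nat_lit 665), Mv.f (nat_lit 668)])))) (Tr.nd (nat_lit 672) (Tr.lf (Fc.ed (nat_lit 671) (nat_lit 224) Col.d (nat_lit 259) Dv.df)) (Tr.nd (nat_lit 673) (Tr.lf (Fc.ed (nat_lit 672) (nat_lit 140) Col.b (nat_lit 260) Dv.df)) (Tr.lf (Fc.ed (nat_lit 673) (nat_lit 260) Col.d (nat_lit 243) (Dv.wd (nat_lit 20) [Mv.b (nat_lit 626), Mv.f (nat_lit 386), Mv.f (nat_lit 672)])))))) (Tr.nd (nat_lit 676) (Tr.nd (nat_lit 675) (Tr.lf (Fc.ed (nat_lit 674) (nat_lit 260) Col.e (nat_lit 243) (Dv.wd (nat_lit 16) [Mv.b (nat_lit 626), Mv.f (nat_lit 388), Mv.f (nat_lit 672)]))) (Tr.lf (Fc.ed (nat_lit 675) (nat_lit 188) Col.f (nat_lit 261) Dv.df))) (Tr.nd (nat_lit 677) (Tr.lf (Fc.ed (nat_lit 676) (nat_lit 261) Col.c (nat_lit 178) (Dv.wd (nat_lit 53) [Mv.f (nat_lit 476), Mv.b (nat_lit 496), Mv.f (nat_lit 675)]))) (Tr.nd (nat_lit 678) (Tr.lf (Fc.ed (nat_lit 677) (nat_lit 259) Col.c (nat_lit 262) Dv.df)) (Tr.lf (Fc.ed (nat_lit 678) (nat_lit 262) Col.d (nat_lit 233) (Dv.wd (nat_lit 63) [Mv.f (nat_lit 605), Mv.b (nat_lit 379), Mv.f (nat_lit 303), Mv.b (nat_lit 367), Mv.b (nat_lit 413), Mv.f (nat_lit 585), Mv.f (nat_lit 671), Mv.f (nat_lit 677)]))))))))) (Tr.nd (nat_lit 699) (Tr.nd (nat_lit 689) (Tr.nd (nat_lit 684) (Tr.nd (nat_lit 681) (Tr.nd (nat_lit 680) (Tr.lf (Fc.ed (nat_lit 679) (nat_lit 206) Col.d (nat_lit 263) Dv.df)) (Tr.lf (Fc.ed (nat_lit 680) (nat_lit 263) Col.f (nat_lit 241) (Dv.wd (nat_lit 39) [Mv.f (nat_lit 622), Mv.b (nat_lit 540), Mv.f (nat_lit 679)])))) (Tr.nd (nat_lit 682) (Tr.lf (Fc.ed (nat_lit 681) (nat_lit 234) Col.d (nat_lit 264) Dv.df)) (Tr.nd (nat_lit 683) (Tr.lf (Fc.ed (nat_lit 682) (nat_lit 264) Col.f (nat_lit 201) (Dv.wd (nat_lit 39) [Mv.f (nat_lit 528), Mv.f (nat_lit 606), Mv.f (nat_lit 681)]))) (Tr.lf (Fc.ed (nat_lit 683) (nat_lit 189) Col.c (nat_lit 264) (Dv.wd (nat_lit 52) [Mv.f (nat_lit 682), Mv.f (nat_lit 529), Mv.b (nat_lit 499)])))))) (Tr.nd (nat_lit 686) (Tr.nd (nat_lit 685) (Tr.lf (Fc.ed (nat_lit 684) (nat_lit 178) Col.a (nat_lit 265) Dv.df)) (Tr.lf (Fc.ed (nat_lit 685) (nat_lit 265) Col.d (nat_lit 258) (Dv.wd (nat_lit 21) [Mv.f (nat_lit 669), Mv.f (nat_lit 575), Mv.f (nat_lit 684)])))) (Tr.nd (nat_lit 687) (Tr.lf (Fc.ed (nat_lit 686) (nat_lit 177) Col.d (nat_lit 266) Dv.df)) (Tr.nd (nat_lit 688) (Tr.lf (Fc.ed (nat_lit 687) (nat_lit 266) Col.b (nat_lit 242) (Dv.wd (nat_lit 44) [Mv.b (nat_lit 624), Mv.b (nat_lit 474), Mv.f (nat_lit 686)]))) (Tr.lf (Fc.ed (nat_lit 688) (nat_lit 181) Col.d (nat_lit 267) Dv.df)))))) (Tr.nd (nat_lit 694) (Tr.nd (nat_lit 691) (Tr.nd (nat_lit 690) (Tr.lf (Fc.ed (nat_lit 689) (nat_lit 267) Col.f (nat_lit 254) (Dv.wd (nat_lit 39) [Mv.b (nat_lit 656), Mv.b (nat_lit 483), Mv.f (nat_lit 688)]))) (Tr.lf (Fc.ed (nat_lit 690) (nat_lit 263) Col.b (nat_lit 268) Dv.df))) (Tr.nd (nat_lit 692) (Tr.lf (Fc.ed (nat_lit 691) (nat_lit 268) Col.d (nat_lit 226) (Dv.wd (nat_lit 20) [Mv.f (nat_lit 589), Mv.f (nat_lit 679), Mv.f (nat_lit 690)]))) (Tr.nd (nat_lit 693) (Tr.lf (Fc.ed (nat_lit 692) (nat_lit 176) Col.a (nat_lit 269) Dv.df)) (Tr.lf (Fc.ed (nat_lit 693) (nat_lit 269) Col.f (nat_lit 265) (Dv.wd (nat_lit 29) [Mv.b (nat_lit 684), Mv.f (nat_lit 476), Mv.f (nat_lit 692)])))))) (Tr.nd (nat_lit 696) (Tr.nd (nat_lit 695) (Tr.lf (Fc.ed (nat_lit 694) (nat_lit 177) Col.f (nat_lit 270) Dv.df)) (Tr.lf (Fc.ed (nat_lit 695) (nat_lit 270) Col.c (nat_lit 234) (Dv.wd (nat_lit 53) [Mv.b (nat_lit 606), Mv.f (nat_lit 473), Mv.f (nat_lit 694)])))) (Tr.nd (nat_lit 697) (Tr.lf (Fc.ed (nat_lit 696) (nat_lit 223) Col.c (nat_lit 271) Dv.df)) (Tr.nd (nat_lit 698) (Tr.lf (Fc.ed (nat_lit 697) (nat_lit 189) Col.a (nat_lit 272) Dv.df)) (Tr.lf (Fc.ed (nat_lit 698) (nat_lit 272) Col.e (nat_lit 265) (Dv.wd (nat_lit 18) [Mv.b (nat_lit 684), Mv.b (nat_lit 498), Mv.f (nat_lit 697)])))))))) (Tr.nd (nat_lit 709) (Tr.nd (nat_lit 704) (Tr.nd (nat_lit 701) (Tr.nd (nat_lit 700) (Tr.lf (Fc.ed (nat_lit 699) (nat_lit 272) Col.g (nat_lit 226) (Dv.wd (nat_lit 32) [Mv.b (nat_lit 588), Mv.f (nat_lit 493), Mv.b (nat_lit 499), Mv.f (nat_lit 697)]))) (Tr.lf (Fc.ed (nat_lit 700) (nat_lit 261) Col.d (nat_lit 273) Dv.df))) (Tr.nd (nat_lit 702) (Tr.lf (Fc.ed (nat_lit 701) (nat_lit 273) Col.c (nat_lit 199) (Dv.wd (nat_lit 60) [Mv.b (nat_lit 523), Mv.f (nat_lit 496), Mv.b (nat_lit 551), Mv.b (nat_lit 670), Mv.b (nat_lit 685), Mv.b (nat_lit 684), Mv.b (nat_lit 676), Mv.f (nat_lit 700)]))) (Tr.nd (nat_lit 703) (Tr.lf (Fc.ed (nat_lit 702) (nat_lit 269) Col.e (nat_lit 274) Dv.df)) (Tr.lf (Fc.ed (nat_lit 703) (nat_lit 274) Col.a (nat_lit 183) (Dv.wd (nat_lit 45) [Mv.f (nat_lit 486), Mv.f (nat_lit 692), Mv.f (nat_lit 702)])))))) (Tr.nd (nat_lit 706) (Tr.nd (nat_lit 705) (Tr.lf (Fc.ed (nat_lit 704) (nat_lit 274) Col.f (nat_lit 272) (Dv.wd (nat_lit 50) [Mv.f (nat_lit 698), Mv.b (nat_lit 693), Mv.f (nat_lit 702)]))) (Tr.lf (Fc.ed (nat_lit 705) (nat_lit 200) Col.g (nat_lit 275) Dv.df))) (Tr.nd (nat_lit 707) (Tr.lf (Fc.ed (nat_lit 706) (nat_lit 275) Col.a (nat_lit 253) (Dv.wd (nat_lit 41) [Mv.b (nat_lit 655), Mv.f (nat_lit 643), Mv.f (nat_lit 705)]))) (Tr.nd (nat_lit 708) (Tr.lf (Fc.ed (nat_lit 707) (nat_lit 184) Col.g (nat_lit 276) Dv.df)) (Tr.lf (Fc.ed (nat_lit 708) (nat_lit 276) Col.a (nat_lit 227) (Dv.wd (nat_lit 41) [Mv.b (nat_lit 620), Mv.b (nat_lit 619), Mv.f (nat_lit 707)]))))))) (Tr.nd (nat_lit 714) (Tr.nd (nat_lit 711) (Tr.nd (nat_lit 710) (Tr.lf (Fc.ed (nat_lit 709) (nat_lit 275) Col.f (nat_lit 277) Dv.df)) (Tr.lf (Fc.ed (nat_lit 710) (nat_lit 277) Col.g (nat_lit 202) (Dv.wd (nat_lit 46) [Mv.f (nat_lit 642), Mv.f (nat_lit 655), Mv.b (nat_lit 706), Mv.f (nat_lit 709)])))) (Tr.nd (nat_lit 712) (Tr.lf (Fc.ed (nat_lit 711) (nat_lit 277) Col.b (nat_lit 272) (Dv.wd (nat_lit 80) [Mv.f (nat_lit 699), Mv.b (nat_lit 588), Mv.b (nat_lit 492), Mv.b (nat_lit 397), Mv.f (nat_lit 285), Mv.b (nat_lit 259), Mv.f (nat_lit 196), Mv.f (nat_lit 195), Mv.b (nat_lit 225), Mv.b (nat_lit 250), Mv.b (nat_lit 276), Mv.f (nat_lit 524), Mv.f (nat_lit 705), Mv.f (nat_lit 709)]))) (Tr.nd (nat_lit 713) (Tr.lf (Fc.ed (nat_lit 712) (nat_lit 251) Col.d (nat_lit 278) Dv.df)) (Tr.lf (Fc.ed (nat_lit 713) (nat_lit 278) Col.a (nat_lit 256) (Dv.wd (nat_lit 43) [Mv.f (nat_lit 662), Mv.f (nat_lit 646), Mv.f (nat_lit 712)])))))) (Tr.nd (nat_lit 716) (Tr.nd (nat_lit 715) (Tr.lf (Fc.ed (nat_lit 714) (nat_lit 278) Col.f (nat_lit 255) (Dv.wd (nat_lit 39) [Mv.f (nat_lit 659), Mv.b (nat_lit 647), Mv.f (nat_lit 712)]))) (Tr.lf (Fc.ed (nat_lit 715) (nat_lit 271) Col.a (nat_lit 279) Dv.df))) (Tr.nd (nat_lit 717) (Tr.lf (Fc.ed (nat_lit 716) (nat_lit 279) Col.c (nat_lit 174) (Dv.wd (nat_lit 28) [Mv.b (nat_lit 584), Mv.f (nat_lit 696), Mv.f (nat_lit 715)]))) (Tr.nd (nat_lit 718) (Tr.lf (Fc.ed (nat_lit 717) (nat_lit 270) Col.d (nat_lit 280) Dv.df)) (Tr.lf (Fc.ed (nat_lit 718) (nat_lit 280) Col.f (nat_lit 266) (Dv.wd (nat_lit 39) [Mv.b (nat_lit 686), Mv.f (nat_lit 694), Mv.f (nat_lit 717)])))))))))) (Tr.nd (nat_lit 759) (Tr.nd (nat_lit 739) (Tr.nd (nat_lit 729) (Tr.nd (nat_lit 724) (Tr.nd (nat_lit 721) (Tr.nd (nat_lit 720) (Tr.lf (Fc.ed (nat_lit 719) (nat_lit 247) Col.d (nat_lit 281) Dv.df)) (Tr.lf (Fc.ed (nat_lit 720) (nat_lit 281) Col.a (nat_lit 229) (Dv.wd (nat_lit 43) [Mv.f (nat_lit 595), Mv.b (nat_lit 635), Mv.f (nat_lit 719)])))) (Tr.nd (nat_lit 722) (Tr.lf (Fc.ed (nat_lit 721) (nat_lit 146) Col.c (nat_lit 282) Dv.df)) (Tr.nd (nat_lit 723) (Tr.lf (Fc.ed (nat_lit 722) (nat_lit 282) Col.g (nat_lit 271) (Dv.wd (nat_lit 11) [Mv.b (nat_lit 696), Mv.f (nat_lit 583), Mv.f (nat_lit 721)]))) (Tr.lf (Fc.ed (nat_lit 723) (nat_lit 244) Col.d (nat_lit 283) Dv.df))))) (Tr.nd (nat_lit 726) (Tr.nd (nat_lit 725) (Tr.lf (Fc.ed (nat_lit 724) (nat_lit 283) Col.g (nat_lit 235) (Dv.wd (nat_lit 12) [Mv.f (nat_lit 608), Mv.f (nat_lit 627), Mv.f (nat_lit 723)]))) (Tr.lf (Fc.ed (nat_lit 725) (nat_lit 276) Col.d (nat_lit 284) Dv.df))) (Tr.nd (nat_lit 727) (Tr.lf (Fc.ed (nat_lit 726) (nat_lit 284) Col.a (nat_lit 239) (Dv.wd (nat_lit 43) [Mv.b (nat_lit 616), Mv.b (nat_lit 708), Mv.f (nat_lit 725)]))) (Tr.nd (nat_lit 728) (Tr.lf (Fc.ed (nat_lit 727) (nat_lit 284) Col.g (nat_lit 196) (Dv.wd (nat_lit 12) [Mv.b (nat_lit 513), Mv.f (nat_lit 707), Mv.f (nat_lit 725)]))) (Tr.lf (Fc.ed (nat_lit 728) (nat_lit 228) Col.g (nat_lit 285) Dv.df)))))) (Tr.nd (nat_lit 734) (Tr.nd (nat_lit 731) (Tr.nd (nat_lit 730) (Tr.lf (Fc.ed (nat_lit 729) (nat_lit 285) Col.b (nat_lit 284) (Dv.wd (nat_lit 47) [Mv.f (nat_lit 727), Mv.f (nat_lit 514), Mv.b (nat_lit 422), Mv.b (nat_lit 593), Mv.f (nat_lit 728)]))) (Tr.lf (Fc.ed (nat_lit 730) (nat_lit 196) Col.a (nat_lit 286) Dv.df))) (Tr.nd (nat_lit 732) (Tr.lf (Fc.ed (nat_lit 731) (nat_lit 286) Col.f (nat_lit 281) (Dv.wd (nat_lit 29) [Mv.f (nat_lit 720), Mv.b (nat_lit 594), Mv.f (nat_lit 730)]))) (Tr.nd (nat_lit 733) (Tr.lf (Fc.ed (nat_lit 732) (nat_lit 286) Col.g (nat_lit 239) (Dv.wd (nat_lit 33) [Mv.b (nat_lit 726), Mv.f (nat_lit 727), Mv.f (nat_lit 730)]))) (Tr.lf (Fc.ed (nat_lit 733) (nat_lit 283) Col.b (nat_lit 286) (Dv.wd (nat_lit 37) [Mv.f (nat_lit 732), Mv.f (nat_lit 617), Mv.b (nat_lit 434), Mv.b (nat_lit 609), Mv.b (nat_lit 724)])))))) (Tr.nd (nat_lit 736) (Tr.nd (nat_lit 735) (Tr.lf (Fc.ed (nat_lit 734) (nat_lit 274) Col.d (nat_lit 287) Dv.df)) (Tr.lf (Fc.ed (nat_lit 735) (nat_lit 287) Col.a (nat_lit 194) (Dv.wd (nat_lit 43) [Mv.f (nat_lit 510), Mv.b (nat_lit 703), Mv.f (nat_lit 734)])))) (Tr.nd (nat_lit 737) (Tr.lf (Fc.ed (nat_lit 736) (nat_lit 272) Col.d (nat_lit 288) Dv.df)) (Tr.nd (nat_lit 738) (Tr.lf (Fc.ed (nat_lit 737) (nat_lit 288) Col.f (nat_lit 287) (Dv.wd (nat_lit 39) [Mv.b (nat_lit 734), Mv.f (nat_lit 704), Mv.f (nat_lit 736)]))) (Tr.lf (Fc.ed (nat_lit 738) (nat_lit 288) Col.g (nat_lit 268) (Dv.wd (nat_lit 12) [Mv.f (nat_lit 691), Mv.b (nat_lit 699), Mv.f (nat_lit 736)])))))))) (Tr.nd (nat_lit 749) (Tr.nd (nat_lit 744) (Tr.nd (nat_lit 741) (Tr.nd (nat_lit 740) (Tr.lf (Fc.ed (nat_lit 739) (nat_lit 281) Col.g (nat_lit 289) Dv.df)) (Tr.lf (Fc.ed (nat_lit 740) (nat_lit 289) Col.a (nat_lit 252) (Dv.wd (nat_lit 41) [Mv.b (nat_lit 650), Mv.b (nat_lit 720), Mv.f (nat_lit 739)])))) (Tr.nd (nat_lit 742) (Tr.lf (Fc.ed (nat_lit 741) (nat_lit 289) Col.f (nat_lit 284) (Dv.wd (nat_lit 51) [Mv.f (nat_lit 727), Mv.f (nat_lit 730), Mv.f (nat_lit 731), Mv.f (nat_lit 739)]))) (Tr.nd (nat_lit 743) (Tr.lf (Fc.ed (nat_lit 742) (nat_lit 289) Col.b (nat_lit 287) (Dv.wd (nat_lit 73) [Mv.b (nat_lit 737), Mv.f (nat_lit 738), Mv.b (nat_lit 690), Mv.f (nat_lit 680), Mv.b (nat_lit 621), Mv.f (nat_lit 555), Mv.b (nat_lit 406), Mv.b (nat_lit 422), Mv.b (nat_lit 593), Mv.f (nat_lit 607), Mv.b (nat_lit 724), Mv.f (nat_lit 733), Mv.f (nat_lit 731), Mv.f (nat_lit 739)]))) (Tr.lf (Fc.ed (nat_lit 743) (nat_lit 216) Col.f (nat_lit 290) Dv.df))))) (Tr.nd (nat_lit 746) (Tr.nd (nat_lit 745) (Tr.lf (Fc.ed (nat_lit 744) (nat_lit 290) Col.b (nat_lit 280) (Dv.wd (nat_lit 54) [Mv.f (nat_lit 718), Mv.f (nat_lit 687), Mv.f (nat_lit 625), Mv.f (nat_lit 598), Mv.f (nat_lit 743)]))) (Tr.lf (Fc.ed (nat_lit 745) (nat_lit 278) Col.b (nat_lit 291) Dv.df))) (Tr.nd (nat_lit 747) (Tr.lf (Fc.ed (nat_lit 746) (nat_lit 291) Col.d (nat_lit 250) (Dv.wd (nat_lit 20) [Mv.b (nat_lit 648), Mv.f (nat_lit 712), Mv.f (nat_lit 745)]))) (Tr.nd (nat_lit 748) (Tr.lf (Fc.ed (nat_lit 747) (nat_lit 291) Col.a (nat_lit 228) (Dv.wd (nat_lit 48) [Mv.f (nat_lit 593), Mv.b (nat_lit 436), Mv.f (nat_lit 509), Mv.b (nat_lit 735), Mv.b (nat_lit 742), Mv.f (nat_lit 740), Mv.b (nat_lit 664), Mv.b (nat_lit 713), Mv.f (nat_lit 745)]))) (Tr.lf (Fc.ed (nat_lit 748) (nat_lit 288) Col.b (nat_lit 292) Dv.df)))))) (Tr.nd (nat_lit 754) (Tr.nd (nat_lit 751) (Tr.nd (nat_lit 750) (Tr.lf (Fc.ed (nat_lit 749) (nat_lit 292) Col.d (nat_lit 277) (Dv.wd (nat_lit 20) [Mv.f (nat_lit 711), Mv.f (nat_lit 736), Mv.f (nat_lit 748)]))) (Tr.lf (Fc.ed (nat_lit 750) (nat_lit 292) Col.f (nat_lit 285) (Dv.wd (nat_lit 34) [Mv.f (nat_lit 729), Mv.b (nat_lit 741), Mv.f (nat_lit 742), Mv.b (nat_lit 737), Mv.f (nat_lit 748)])))) (Tr.nd (nat_lit 752) (Tr.lf (Fc.ed (nat_lit 751) (nat_lit 202) Col.d (nat_lit 293) Dv.df)) (Tr.nd (nat_lit 753) (Tr.lf (Fc.ed (nat_lit 752) (nat_lit 293) Col.a (nat_lit 235) (Dv.wd (nat_lit 43) [Mv.f (nat_lit 608), Mv.f (nat_lit 530), Mv.f (nat_lit 751)]))) (Tr.lf (Fc.ed (nat_lit 753) (nat_lit 293) Col.b (nat_lit 267) (Dv.wd (nat_lit 44) [Mv.b (nat_lit 688), Mv.b (nat_lit 531), Mv.f (nat_lit 751)])))))) (Tr.nd (nat_lit 756) (Tr.nd (nat_lit 755) (Tr.lf (Fc.ed (nat_lit 754) (nat_lit 293) Col.g (nat_lit 292) (Dv.wd (nat_lit 12) [Mv.f (nat_lit 749), Mv.f (nat_lit 710), Mv.f (nat_lit 751)]))) (Tr.lf (Fc.ed (nat_lit 755) (nat_lit 293) Col.e (nat_lit 291) (Dv.wd (nat_lit 65) [Mv.f (nat_lit 746), Mv.f (nat_lit 645), Mv.b (nat_lit 570), Mv.f (nat_lit 571), Mv.f (nat_lit 751)])))) (Tr.nd (nat_lit 757) (Tr.lf (Fc.ed (nat_lit 756) (nat_lit 231) Col.c (nat_lit 294) Dv.df)) (Tr.nd (nat_lit 758) (Tr.lf (Fc.ed (nat_lit 757) (nat_lit 294) Col.f (nat_lit 279) (Dv.wd (nat_lit 25) [Mv.f (nat_lit 716), Mv.b (nat_lit 600), Mv.f (nat_lit 756)]))) (Tr.lf (Fc.ed (nat_lit 758) (nat_lit 123) Col.c (nat_lit 295) Dv.df)))))))) (Tr.nd (nat_lit 779) (Tr.nd (nat_lit 769) (Tr.nd (nat_lit 764) (Tr.nd (nat_lit 761) (Tr.nd (nat_lit 760) (Tr.lf (Fc.ed (nat_lit 759) (nat_lit 295) Col.a (nat_lit 282) (Dv.wd (nat_lit 7) [Mv.b (nat_lit 721), Mv.f (nat_lit 403), Mv.f (nat_lit 758)]))) (Tr.lf (Fc.ed (nat_lit 760) (nat_lit 295) Col.b (nat_lit 296) Dv.df))) (Tr.nd (nat_lit 762) (Tr.lf (Fc.ed (nat_lit 761) (nat_lit 296) Col.c (nat_lit 260) (Dv.wd (nat_lit 64) [Mv.b (nat_lit 672), Mv.f (nat_lit 387), Mv.b (nat_lit 349), Mv.f (nat_lit 758), Mv.f (nat_lit 760)]))) (Tr.nd (nat_lit 763) (Tr.lf (Fc.ed (nat_lit 762) (nat_lit 294) Col.g (nat_lit 297) Dv.df)) (Tr.lf (Fc.ed (nat_lit 763) (nat_lit 297) Col.c (nat_lit 193) (Dv.wd (nat_lit 13) [Mv.b (nat_lit 601), Mv.f (nat_lit 756), Mv.f (nat_lit 762)])))))) (Tr.nd (nat_lit 766) (Tr.nd (nat_lit 765) (Tr.lf (Fc.ed (nat_lit 764) (nat_lit 297) Col.f (nat_lit 282) (Dv.wd (nat_lit 51) [Mv.f (nat_lit 722), Mv.f (nat_lit 715), Mv.b (nat_lit 757), Mv.f (nat_lit 762)]))) (Tr.lf (Fc.ed (nat_lit 765) (nat_lit 297) Col.a (nat_lit 298) Dv.df))) (Tr.nd (nat_lit 767) (Tr.lf (Fc.ed (nat_lit 766) (nat_lit 298) Col.c (nat_lit 157) (Dv.wd (nat_lit 28) [Mv.b (nat_lit 507), Mv.b (nat_lit 763), Mv.f (nat_lit 765)]))) (Tr.nd (nat_lit 768) (Tr.lf (Fc.ed (nat_lit 767) (nat_lit 298) Col.f (nat_lit 295) (Dv.wd (nat_lit 29) [Mv.f (nat_lit 759), Mv.b (nat_lit 764), Mv.f (nat_lit 765)]))) (Tr.lf (Fc.ed (nat_lit 768) (nat_lit 130) Col.c (nat_lit 299) Dv.df)))))) (Tr.nd (nat_lit 774) (Tr.nd (nat_lit 771) (Tr.nd (nat_lit 770) (Tr.lf (Fc.ed (nat_lit 769) (nat_lit 297) Col.e (nat_lit 300) Dv.df)) (Tr.lf (Fc.ed (nat_lit 770) (nat_lit 300) Col.c (nat_lit 148) (Dv.wd (nat_lit 58) [Mv.b (nat_lit 508), Mv.b (nat_lit 763), Mv.f (nat_lit 769)])))) (Tr.nd (nat_lit 772) (Tr.lf (Fc.ed (nat_lit 771) (nat_lit 248) Col.a (nat_lit 301) Dv.df)) (Tr.nd (nat_lit 773) (Tr.lf (Fc.ed (nat_lit 772) (nat_lit 301) Col.e (nat_lit 287) (Dv.wd (nat_lit 18) [Mv.f (nat_lit 735), Mv.b (nat_lit 639), Mv.f (nat_lit 771)]))) (Tr.lf (Fc.ed (nat_lit 773) (nat_lit 301) Col.f (nat_lit 302) Dv.df))))) (Tr.nd (nat_lit 776) (Tr.nd (nat_lit 775) (Tr.lf (Fc.ed (nat_lit 774) (nat_lit 302) Col.a (nat_lit 245) (Dv.wd (nat_lit 55) [Mv.f (nat_lit 638), Mv.f (nat_lit 771), Mv.f (nat_lit 773)]))) (Tr.lf (Fc.ed (nat_lit 775) (nat_lit 302) Col.e (nat_lit 288) (Dv.wd (nat_lit 42) [Mv.f (nat_lit 737), Mv.b (nat_lit 772), Mv.f (nat_lit 773)])))) (Tr.nd (nat_lit 777) (Tr.lf (Fc.ed (nat_lit 776) (nat_lit 302) Col.b (nat_lit 303) Dv.df)) (Tr.nd (nat_lit 778) (Tr.lf (Fc.ed (nat_lit 777) (nat_lit 303) Col.e (nat_lit 292) (Dv.wd (nat_lit 16) [Mv.b (nat_lit 748), Mv.b (nat_lit 775), Mv.f (nat_lit 776)]))) (Tr.lf (Fc.ed (nat_lit 778) (nat_lit 303) Col.a (nat_lit 285) (Dv.wd (nat_lit 48) [Mv.f (nat_lit 729), Mv.f (nat_lit 726), Mv.f (nat_lit 617), Mv.f (nat_lit 426), Mv.b (nat_lit 429), Mv.b (nat_lit 507), Mv.b (nat_lit 631), Mv.b (nat_lit 774), Mv.f (nat_lit 776)])))))))) (Tr.nd (nat_lit 789) (Tr.nd (nat_lit 784) (Tr.nd (nat_lit 781) (Tr.nd (nat_lit 780) (Tr.lf (Fc.ed (nat_lit 779) (nat_lit 204) Col.a (nat_lit 304) Dv.df)) (Tr.lf (Fc.ed (nat_lit 780) (nat_lit 304) Col.c (nat_lit 304) (Dv.wd (nat_lit 28) [Mv.b (nat_lit 779), Mv.f (nat_lit 535), Mv.f (nat_lit 779)])))) (Tr.nd (nat_lit 782) (Tr.lf (Fc.ed (nat_lit 781) (nat_lit 213) Col.c (nat_lit 305) Dv.df)) (Tr.nd (nat_lit 783) (Tr.lf (Fc.ed (nat_lit 782) (nat_lit 122) Col.c (nat_lit 306) Dv.df)) (Tr.lf (Fc.ed (nat_lit 783) (nat_lit 306) Col.e (nat_lit 295) (Dv.wd (nat_lit 17) [Mv.b (nat_lit 758), Mv.f (nat_lit 350), Mv.f (nat_lit 782)])))))) (Tr.nd (nat_lit 786) (Tr.nd (nat_lit 785) (Tr.lf (Fc.ed (nat_lit 784) (nat_lit 298) Col.e (nat_lit 307) Dv.df)) (Tr.lf (Fc.ed (nat_lit 785) (nat_lit 307) Col.a (nat_lit 300) (Dv.wd (nat_lit 45) [Mv.b (nat_lit 769), Mv.f (nat_lit 765), Mv.f (nat_lit 784)])))) (Tr.nd (nat_lit 787) (Tr.lf (Fc.ed (nat_lit 786) (nat_lit 307) Col.c (nat_lit 138) (Dv.wd (nat_lit 58) [Mv.f (nat_lit 428), Mv.b (nat_lit 766), Mv.f (nat_lit 784)]))) (Tr.nd (nat_lit 788) (Tr.lf (Fc.ed (nat_lit 787) (nat_lit 307) Col.f (nat_lit 306) (Dv.wd (nat_lit 50) [Mv.f (nat_lit 783), Mv.b (nat_lit 767), Mv.f (nat_lit 784)]))) (Tr.lf (Fc.ed (nat_lit 788) (nat_lit 306) Col.b (nat_lit 308) Dv.df)))))) (Tr.nd (nat_lit 794) (Tr.nd (nat_lit 791) (Tr.nd (nat_lit 790) (Tr.lf (Fc.ed (nat_lit 789) (nat_lit 308) Col.c (nat_lit 243) (Dv.wd (nat_lit 64) [Mv.b (nat_lit 626), Mv.b (nat_lit 385), Mv.f (nat_lit 346), Mv.f (nat_lit 782), Mv.f (nat_lit 788)]))) (Tr.lf (Fc.ed (nat_lit 790) (nat_lit 212) Col.c (nat_lit 309) Dv.df))) (Tr.nd (nat_lit 792) (Tr.lf (Fc.ed (nat_lit 791) (nat_lit 309) Col.e (nat_lit 305) (Dv.wd (nat_lit 17) [Mv.b (nat_lit 781), Mv.b (nat_lit 554), Mv.f (nat_lit 790)]))) (Tr.nd (nat_lit 793) (Tr.lf (Fc.ed (nat_lit 792) (nat_lit 299) Col.d (nat_lit 310) Dv.df)) (Tr.lf (Fc.ed (nat_lit 793) (nat_lit 187) Col.b (nat_lit 311) Dv.df))))) (Tr.nd (nat_lit 796) (Tr.nd (nat_lit 795) (Tr.lf (Fc.ed (nat_lit 794) (nat_lit 307) Col.d (nat_lit 312) Dv.df)) (Tr.lf (Fc.ed (nat_lit 795) (nat_lit 311) Col.e (nat_lit 313) Dv.df))) (Tr.nd (nat_lit 797) (Tr.lf (Fc.ed (nat_lit 796) (nat_lit 313) Col.b (nat_lit 233) (Dv.wd (nat_lit 56) [Mv.b (nat_lit 604), Mv.f (nat_lit 793), Mv.f (nat_lit 795)]))) (Tr.nd (nat_lit 798) (Tr.lf (Fc.ed (nat_lit 797) (nat_lit 311) Col.c (nat_lit 313) (Dv.wd (nat_lit 62) [Mv.f (nat_lit 796), Mv.f (nat_lit 605), Mv.f (nat_lit 380), Mv.f (nat_lit 494), Mv.f (nat_lit 793)]))) (Tr.lf (Fc.ed (nat_lit 798) (nat_lit 310) Col.c (nat_lit 314) Dv.df)))))))))) (Tr.nd (nat_lit 879) (Tr.nd (nat_lit 839) (Tr.nd (nat_lit 819) (Tr.nd (nat_lit 809) (Tr.nd (nat_lit 804) (Tr.nd (nat_lit 801) (Tr.nd (nat_lit 800) (Tr.lf (Fc.ed (nat_lit 799) (nat_lit 314) Col.d (nat_lit 306) (Dv.wd (nat_lit 63) [Mv.b (nat_lit 782), Mv.f (nat_lit 347), Mv.f (nat_lit 261), Mv.b (nat_lit 347), Mv.f (nat_lit 364), Mv.f (nat_lit 768), Mv.f (nat_lit 792), Mv.f (nat_lit 798)]))) (Tr.lf (Fc.ed (nat_lit 800) (nat_lit 312) Col.a (nat_lit 315) Dv.df))) (Tr.nd (nat_lit 802) (Tr.lf (Fc.ed (nat_lit 801) (nat_lit 315) Col.d (nat_lit 300) (Dv.wd (nat_lit 21) [Mv.b (nat_lit 785), Mv.f (nat_lit 794), Mv.f (nat_lit 800)]))) (Tr.nd (nat_lit 803) (Tr.lf (Fc.ed (nat_lit 802) (nat_lit 315) Col.c (nat_lit 312) (Dv.wd (nat_lit 81) [Mv.b (nat_lit 794), Mv.f (nat_lit 786), Mv.f (nat_lit 383), Mv.f (nat_lit 284), Mv.b (nat_lit 383), Mv.b (nat_lit 786), Mv.f (nat_lit 794), Mv.f (nat_lit 800)]))) (Tr.lf (Fc.ed (nat_lit 803) (nat_lit 304) Col.f (nat_lit 316) Dv.df))))) (Tr.nd (nat_lit 806) (Tr.nd (nat_lit 805) (Tr.lf (Fc.ed (nat_lit 804) (nat_lit 316) Col.c (nat_lit 316) (Dv.wd (nat_lit 53) [Mv.b (nat_lit 803), Mv.f (nat_lit 780), Mv.f (nat_lit 803)]))) (Tr.lf (Fc.ed (nat_lit 805) (nat_lit 254) Col.c (nat_lit 317) Dv.df))) (Tr.nd (nat_lit 807) (Tr.lf (Fc.ed (nat_lit 806) (nat_lit 317) Col.a (nat_lit 305) (Dv.wd (nat_lit 7) [Mv.b (nat_lit 781), Mv.b (nat_lit 657), Mv.f (nat_lit 805)]))) (Tr.nd (nat_lit 808) (Tr.lf (Fc.ed (nat_lit 807) (nat_lit 210) Col.b (nat_lit 318) Dv.df)) (Tr.lf (Fc.ed (nat_lit 808) (nat_lit 256) Col.c (nat_lit 319) Dv.df)))))) (Tr.nd (nat_lit 814) (Tr.nd (nat_lit 811) (Tr.nd (nat_lit 810) (Tr.lf (Fc.ed (nat_lit 809) (nat_lit 319) Col.f (nat_lit 309) (Dv.wd (nat_lit 25) [Mv.b (nat_lit 790), Mv.f (nat_lit 661), Mv.f (nat_lit 808)]))) (Tr.lf (Fc.ed (nat_lit 810) (nat_lit 243) Col.f (nat_lit 320) Dv.df))) (Tr.nd (nat_lit 812) (Tr.lf (Fc.ed (nat_lit 811) (nat_lit 320) Col.e (nat_lit 321) Dv.df)) (Tr.nd (nat_lit 813) (Tr.lf (Fc.ed (nat_lit 812) (nat_lit 321) Col.f (nat_lit 260) (Dv.wd (nat_lit 50) [Mv.f (nat_lit 674), Mv.f (nat_lit 810), Mv.f (nat_lit 811)]))) (Tr.lf (Fc.ed (nat_lit 813) (nat_lit 320) Col.d (nat_lit 321) (Dv.wd (nat_lit 31) [Mv.f (nat_lit 812), Mv.f (nat_lit 673), Mv.f (nat_lit 810)])))))) (Tr.nd (nat_lit 816) (Tr.nd (nat_lit 815) (Tr.lf (Fc.ed (nat_lit 814) (nat_lit 309) Col.d (nat_lit 322) Dv.df)) (Tr.lf (Fc.ed (nat_lit 815) (nat_lit 309) Col.a (nat_lit 323) Dv.df))) (Tr.nd (nat_lit 817) (Tr.lf (Fc.ed (nat_lit 816) (nat_lit 323) Col.c (nat_lit 255) (Dv.wd (nat_lit 28) [Mv.f (nat_lit 660), Mv.f (nat_lit 790), Mv.f (nat_lit 815)]))) (Tr.nd (nat_lit 818) (Tr.lf (Fc.ed (nat_lit 817) (nat_lit 323) Col.e (nat_lit 317) (Dv.wd (nat_lit 18) [Mv.f (nat_lit 806), Mv.b (nat_lit 791), Mv.f (nat_lit 815)]))) (Tr.lf (Fc.ed (nat_lit 818) (nat_lit 278) Col.c (nat_lit 324) Dv.df))))))) (Tr.nd (nat_lit 829) (Tr.nd (nat_lit 824) (Tr.nd (nat_lit 821) (Tr.nd (nat_lit 820) (Tr.lf (Fc.ed (nat_lit 819) (nat_lit 324) Col.f (nat_lit 323) (Dv.wd (nat_lit 25) [Mv.f (nat_lit 816), Mv.b (nat_lit 714), Mv.f (nat_lit 818)]))) (Tr.lf (Fc.ed (nat_lit 820) (nat_lit 313) Col.d (nat_lit 325) Dv.df))) (Tr.nd (nat_lit 822) (Tr.lf (Fc.ed (nat_lit 821) (nat_lit 325) Col.b (nat_lit 262) (Dv.wd (nat_lit 44) [Mv.f (nat_lit 678), Mv.b (nat_lit 796), Mv.f (nat_lit 820)]))) (Tr.nd (nat_lit 823) (Tr.lf (Fc.ed (nat_lit 822) (nat_lit 323) Col.d (nat_lit 326) Dv.df)) (Tr.lf (Fc.ed (nat_lit 823) (nat_lit 317) Col.f (nat_lit 327) Dv.df))))) (Tr.nd (nat_lit 826) (Tr.nd (nat_lit 825) (Tr.lf (Fc.ed (nat_lit 824) (nat_lit 327) Col.c (nat_lit 267) (Dv.wd (nat_lit 53) [Mv.f (nat_lit 689), Mv.f (nat_lit 805), Mv.f (nat_lit 823)]))) (Tr.lf (Fc.ed (nat_lit 825) (nat_lit 327) Col.e (nat_lit 324) (Dv.wd (nat_lit 42) [Mv.f (nat_lit 819), Mv.f (nat_lit 817), Mv.f (nat_lit 823)])))) (Tr.nd (nat_lit 827) (Tr.lf (Fc.ed (nat_lit 826) (nat_lit 218) Col.c (nat_lit 328) Dv.df)) (Tr.nd (nat_lit 828) (Tr.lf (Fc.ed (nat_lit 827) (nat_lit 328) Col.e (nat_lit 319) (Dv.wd (nat_lit 17) [Mv.b (nat_lit 808), Mv.f (nat_lit 663), Mv.f (nat_lit 826)]))) (Tr.lf (Fc.ed (nat_lit 828) (nat_lit 298) Col.d (nat_lit 329) Dv.df)))))) (Tr.nd (nat_lit 834) (Tr.nd (nat_lit 831) (Tr.nd (nat_lit 830) (Tr.lf (Fc.ed (nat_lit 829) (nat_lit 304) Col.d (nat_lit 330) Dv.df)) (Tr.lf (Fc.ed (nat_lit 830) (nat_lit 330) Col.a (nat_lit 216) (Dv.wd (nat_lit 43) [Mv.b (nat_lit 563), Mv.f (nat_lit 779), Mv.f (nat_lit 829)])))) (Tr.nd (nat_lit 832) (Tr.lf (Fc.ed (nat_lit 831) (nat_lit 329) Col.c (nat_lit 331) Dv.df)) (Tr.nd (nat_lit 833) (Tr.lf (Fc.ed (nat_lit 832) (nat_lit 331) Col.d (nat_lit 327) (Dv.wd (nat_lit 63) [Mv.f (nat_lit 824), Mv.b (nat_lit 688), Mv.f (nat_lit 482), Mv.f (nat_lit 506), Mv.f (nat_lit 507), Mv.b (nat_lit 766), Mv.f (nat_lit 828), Mv.f (nat_lit 831)]))) (Tr.lf (Fc.ed (nat_lit 833) (nat_lit 192) Col.b (nat_lit 332) Dv.df))))) (Tr.nd (nat_lit 836) (Tr.nd (nat_lit 835) (Tr.lf (Fc.ed (nat_lit 834) (nat_lit 332) Col.d (nat_lit 311) (Dv.wd (nat_lit 20) [Mv.b (nat_lit 793), Mv.f (nat_lit 504), Mv.f (nat_lit 833)]))) (Tr.lf (Fc.ed (nat_lit 835) (nat_lit 318) Col.d (nat_lit 333) Dv.df))) (Tr.nd (nat_lit 837) (Tr.lf (Fc.ed (nat_lit 836) (nat_lit 333) Col.b (nat_lit 209) (Dv.wd (nat_lit 44) [Mv.f (nat_lit 548), Mv.f (nat_lit 807), Mv.f (nat_lit 835)]))) (Tr.nd (nat_lit 838) (Tr.lf (Fc.ed (nat_lit 837) (nat_lit 196) Col.c (nat_lit 334) Dv.df)) (Tr.lf (Fc.ed (nat_lit 838) (nat_lit 328) Col.d (nat_lit 335) Dv.df)))))))) (Tr.nd (nat_lit 859) (Tr.nd (nat_lit 849) (Tr.nd (nat_lit 844) (Tr.nd (nat_lit 841) (Tr.nd (nat_lit 840) (Tr.lf (Fc.ed (nat_lit 839) (nat_lit 334) Col.b (nat_lit 336) Dv.df)) (Tr.lf (Fc.ed (nat_lit 840) (nat_lit 336) Col.c (nat_lit 318) (Dv.wd (nat_lit 64) [Mv.b (nat_lit 807), Mv.f (nat_lit 549), Mv.b (nat_lit 514), Mv.f (nat_lit 837), Mv.f (nat_lit 839)])))) (Tr.nd (nat_lit 842) (Tr.lf (Fc.ed (nat_lit 841) (nat_lit 229) Col.c (nat_lit 337) Dv.df)) (Tr.nd (nat_lit 843) (Tr.lf (Fc.ed (nat_lit 842) (nat_lit 271) Col.d (nat_lit 338) Dv.df)) (Tr.lf (Fc.ed (nat_lit 843) (nat_lit 299) Col.b (nat_lit 339) Dv.df))))) (Tr.nd (nat_lit 846) (Tr.nd (nat_lit 845) (Tr.lf (Fc.ed (nat_lit 844) (nat_lit 339) Col.c (nat_lit 332) (Dv.wd (nat_lit 64) [Mv.b (nat_lit 833), Mv.f (nat_lit 505), Mv.f (nat_lit 395), Mv.f (nat_lit 768), Mv.f (nat_lit 843)]))) (Tr.lf (Fc.ed (nat_lit 845) (nat_lit 323) Col.b (nat_lit 340) Dv.df))) (Tr.nd (nat_lit 847) (Tr.lf (Fc.ed (nat_lit 846) (nat_lit 252) Col.c (nat_lit 341) Dv.df)) (Tr.nd (nat_lit 848) (Tr.lf (Fc.ed (nat_lit 847) (nat_lit 341) Col.e (nat_lit 337) (Dv.wd (nat_lit 17) [Mv.b (nat_lit 841), Mv.f (nat_lit 652), Mv.f (nat_lit 846)]))) (Tr.lf (Fc.ed (nat_lit 848) (nat_lit 307) Col.b (nat_lit 342) Dv.df)))))) (Tr.nd (nat_lit 854) (Tr.nd (nat_lit 851) (Tr.nd (nat_lit 850) (Tr.lf (Fc.ed (nat_lit 849) (nat_lit 342) Col.c (nat_lit 333) (Dv.wd (nat_lit 64) [Mv.f (nat_lit 836), Mv.f (nat_lit 547), Mv.f (nat_lit 382), Mv.b (nat_lit 786), Mv.f (nat_lit 848)]))) (Tr.lf (Fc.ed (nat_lit 850) (nat_lit 330) Col.f (nat_lit 343) Dv.df))) (Tr.nd (nat_lit 852) (Tr.lf (Fc.ed (nat_lit 851) (nat_lit 343) Col.a (nat_lit 290) (Dv.wd (nat_lit 55) [Mv.b (nat_lit 743), Mv.b (nat_lit 830), Mv.f (nat_lit 850)]))) (Tr.nd (nat_lit 853) (Tr.lf (Fc.ed (nat_lit 852) (nat_lit 343) Col.d (nat_lit 316) (Dv.wd (nat_lit 69) [Mv.b (nat_lit 803), Mv.f (nat_lit 829), Mv.f (nat_lit 850)]))) (Tr.lf (Fc.ed (nat_lit 853) (nat_lit 290) Col.g (nat_lit 344) Dv.df))))) (Tr.nd (nat_lit 856) (Tr.nd (nat_lit 855) (Tr.lf (Fc.ed (nat_lit 854) (nat_lit 285) Col.c (nat_lit 345) Dv.df)) (Tr.lf (Fc.ed (nat_lit 855) (nat_lit 320) Col.c (nat_lit 346) Dv.df))) (Tr.nd (nat_lit 857) (Tr.lf (Fc.ed (nat_lit 856) (nat_lit 346) Col.f (nat_lit 308) (Dv.wd (nat_lit 25) [Mv.f (nat_lit 789), Mv.f (nat_lit 810), Mv.f (nat_lit 855)]))) (Tr.nd (nat_lit 858) (Tr.lf (Fc.ed (nat_lit 857) (nat_lit 338) Col.g (nat_lit 347) Dv.df)) (Tr.lf (Fc.ed (nat_lit 858) (nat_lit 347) Col.d (nat_lit 282) (Dv.wd (nat_lit 14) [Mv.f (nat_lit 722), Mv.f (nat_lit 842), Mv.f (nat_lit 857)])))))))) (Tr.nd (nat_lit 869) (Tr.nd (nat_lit 864) (Tr.nd (nat_lit 861) (Tr.nd (nat_lit 860) (Tr.lf (Fc.ed (nat_lit 859) (nat_lit 340) Col.c (nat_lit 348) Dv.df)) (Tr.lf (Fc.ed (nat_lit 860) (nat_lit 348) Col.b (nat_lit 317) (Dv.wd (nat_lit 59) [Mv.b (nat_lit 805), Mv.f (nat_lit 658), Mv.b (nat_lit 816), Mv.f (nat_lit 845), Mv.f (nat_lit 859)])))) (Tr.nd (nat_lit 862) (Tr.lf (Fc.ed (nat_lit 861) (nat_lit 340) Col.e (nat_lit 348) (Dv.wd (nat_lit 82) [Mv.f (nat_lit 860), Mv.b (nat_lit 817), Mv.f (nat_lit 845)]))) (Tr.nd (nat_lit 863) (Tr.lf (Fc.ed (nat_lit 862) (nat_lit 260) Col.a (nat_lit 349) Dv.df)) (Tr.lf (Fc.ed (nat_lit 863) (nat_lit 347) Col.a (nat_lit 350) Dv.df))))) (Tr.nd (nat_lit 866) (Tr.nd (nat_lit 865) (Tr.lf (Fc.ed (nat_lit 864) (nat_lit 350) Col.d (nat_lit 295) (Dv.wd (nat_lit 21) [Mv.f (nat_lit 759), Mv.b (nat_lit 858), Mv.f (nat_lit 863)]))) (Tr.lf (Fc.ed (nat_lit 865) (nat_lit 296) Col.d (nat_lit 351) Dv.df))) (Tr.nd (nat_lit 867) (Tr.lf (Fc.ed (nat_lit 866) (nat_lit 351) Col.b (nat_lit 350) (Dv.wd (nat_lit 44) [Mv.f (nat_lit 864), Mv.f (nat_lit 760), Mv.f (nat_lit 865)]))) (Tr.nd (nat_lit 868) (Tr.lf (Fc.ed (nat_lit 867) (nat_lit 324) Col.d (nat_lit 352) Dv.df)) (Tr.lf (Fc.ed (nat_lit 868) (nat_lit 352) Col.f (nat_lit 326) (Dv.wd (nat_lit 39) [Mv.b (nat_lit 822), Mv.b (nat_lit 819), Mv.f (nat_lit 867)]))))))) (Tr.nd (nat_lit 874) (Tr.nd (nat_lit 871) (Tr.nd (nat_lit 870) (Tr.lf (Fc.ed (nat_lit 869) (nat_lit 352) Col.c (nat_lit 352) (Dv.wd (nat_lit 60) [Mv.b (nat_lit 867), Mv.b (nat_lit 818), Mv.b (nat_lit 712), Mv.b (nat_lit 649), Mv.b (nat_lit 662), Mv.b (nat_lit 713), Mv.f (nat_lit 818), Mv.f (nat_lit 867)]))) (Tr.lf (Fc.ed (nat_lit 870) (nat_lit 319) Col.d (nat_lit 353) Dv.df))) (Tr.nd (nat_lit 872) (Tr.lf (Fc.ed (nat_lit 871) (nat_lit 353) Col.f (nat_lit 322) (Dv.wd (nat_lit 39) [Mv.b (nat_lit 814), Mv.b (nat_lit 809), Mv.f (nat_lit 870)]))) (Tr.nd (nat_lit 873) (Tr.lf (Fc.ed (nat_lit 872) (nat_lit 317) Col.d (nat_lit 354) Dv.df)) (Tr.lf (Fc.ed (nat_lit 873) (nat_lit 354) Col.f (nat_lit 331) (Dv.wd (nat_lit 39) [Mv.f (nat_lit 832), Mv.b (nat_lit 823), Mv.f (nat_lit 872)])))))) (Tr.nd (nat_lit 876) (Tr.nd (nat_lit 875) (Tr.lf (Fc.ed (nat_lit 874) (nat_lit 354) Col.c (nat_lit 350) (Dv.wd (nat_lit 60) [Mv.f (nat_lit 864), Mv.b (nat_lit 758), Mv.b (nat_lit 348), Mv.b (nat_lit 323), Mv.b (nat_lit 556), Mv.b (nat_lit 657), Mv.f (nat_lit 805), Mv.f (nat_lit 872)]))) (Tr.lf (Fc.ed (nat_lit 875) (nat_lit 349) Col.e (nat_lit 355) Dv.df))) (Tr.nd (nat_lit 877) (Tr.lf (Fc.ed (nat_lit 876) (nat_lit 355) Col.a (nat_lit 243) (Dv.wd (nat_lit 45) [Mv.b (nat_lit 674), Mv.f (nat_lit 862), Mv.f (nat_lit 875)]))) (Tr.nd (nat_lit 878) (Tr.lf (Fc.ed (nat_lit 877) (nat_lit 349) Col.d (nat_lit 355) (Dv.wd (nat_lit 83) [Mv.f (nat_lit 876), Mv.b (nat_lit 673), Mv.f (nat_lit 862)]))) (Tr.lf (Fc.ed (nat_lit 878) (nat_lit 303) Col.c (nat_lit 356) Dv.df))))))))) (Tr.nd (nat_lit 919) (Tr.nd (nat_lit 899) (Tr.nd (nat_lit 889) (Tr.nd (nat_lit 884) (Tr.nd (nat_lit 881) (Tr.nd (nat_lit 880) (Tr.lf (Fc.ed (nat_lit 879) (nat_lit 356) Col.a (nat_lit 345) (Dv.wd (nat_lit 7) [Mv.b (nat_lit 854), Mv.b (nat_lit 778), Mv.f (nat_lit 878)]))) (Tr.lf (Fc.ed (nat_lit 880) (nat_lit 296) Col.g (nat_lit 357) Dv.df))) (Tr.nd (nat_lit 882) (Tr.lf (Fc.ed (nat_lit 881) (nat_lit 292) Col.c (nat_lit 358) Dv.df)) (Tr.nd (nat_lit 883) (Tr.lf (Fc.ed (nat_lit 882) (nat_lit 358) Col.e (nat_lit 356) (Dv.wd (nat_lit 17) [Mv.b (nat_lit 878), Mv.f (nat_lit 777), Mv.f (nat_lit 881)]))) (Tr.lf (Fc.ed (nat_lit 883) (nat_lit 358) Col.f (nat_lit 345) (Dv.wd (nat_lit 25) [Mv.b (nat_lit 854), Mv.b (nat_lit 750), Mv.f (nat_lit 881)])))))) (Tr.nd (nat_lit 886) (Tr.nd (nat_lit 885) (Tr.lf (Fc.ed (nat_lit 884) (nat_lit 321) Col.c (nat_lit 359) Dv.df)) (Tr.lf (Fc.ed (nat_lit 885) (nat_lit 359) Col.f (nat_lit 296) (Dv.wd (nat_lit 25) [Mv.f (nat_lit 761), Mv.b (nat_lit 812), Mv.f (nat_lit 884)])))) (Tr.nd (nat_lit 887) (Tr.lf (Fc.ed (nat_lit 886) (nat_lit 344) Col.c (nat_lit 360) Dv.df)) (Tr.nd (nat_lit 888) (Tr.lf (Fc.ed (nat_lit 887) (nat_lit 358) Col.g (nat_lit 361) Dv.df)) (Tr.lf (Fc.ed (nat_lit 888) (nat_lit 361) Col.c (nat_lit 293) (Dv.wd (nat_lit 13) [Mv.f (nat_lit 754), Mv.f (nat_lit 881), Mv.f (nat_lit 887)]))))))) (Tr.nd (nat_lit 894) (Tr.nd (nat_lit 891) (Tr.nd (nat_lit 890) (Tr.lf (Fc.ed (nat_lit 889) (nat_lit 361) Col.e (nat_lit 362) Dv.df)) (Tr.lf (Fc.ed (nat_lit 890) (nat_lit 362) Col.c (nat_lit 291) (Dv.wd (nat_lit 58) [Mv.b (nat_lit 755), Mv.b (nat_lit 888), Mv.f (nat_lit 889)])))) (Tr.nd (nat_lit 892) (Tr.lf (Fc.ed (nat_lit 891) (nat_lit 362) Col.g (nat_lit 356) (Dv.wd (nat_lit 35) [Mv.b (nat_lit 882), Mv.f (nat_lit 887), Mv.f (nat_lit 889)]))) (Tr.nd (nat_lit 893) (Tr.lf (Fc.ed (nat_lit 892) (nat_lit 361) Col.f (nat_lit 362) (Dv.wd (nat_lit 51) [Mv.f (nat_lit 891), Mv.f (nat_lit 879), Mv.b (nat_lit 883), Mv.f (nat_lit 887)]))) (Tr.lf (Fc.ed (nat_lit 893) (nat_lit 357) Col.d (nat_lit 363) Dv.df))))) (Tr.nd (nat_lit 896) (Tr.nd (nat_lit 895) (Tr.lf (Fc.ed (nat_lit 894) (nat_lit 363) Col.g (nat_lit 351) (Dv.wd (nat_lit 12) [Mv.b (nat_lit 865), Mv.f (nat_lit 880), Mv.f (nat_lit 893)]))) (Tr.lf (Fc.ed (nat_lit 895) (nat_lit 308) Col.d (nat_lit 364) Dv.df))) (Tr.nd (nat_lit 897) (Tr.lf (Fc.ed (nat_lit 896) (nat_lit 342) Col.f (nat_lit 365) Dv.df)) (Tr.nd (nat_lit 898) (Tr.lf (Fc.ed (nat_lit 897) (nat_lit 365) Col.b (nat_lit 346) (Dv.wd (nat_lit 54) [Mv.f (nat_lit 856), Mv.b (nat_lit 788), Mv.b (nat_lit 787), Mv.f (nat_lit 848), Mv.f (nat_lit 896)]))) (Tr.lf (Fc.ed (nat_lit 898) (nat_lit 308) Col.a (nat_lit 366) Dv.df))))))) (Tr.nd (nat_lit 909) (Tr.nd (nat_lit 904) (Tr.nd (nat_lit 901) (Tr.nd (nat_lit 900) (Tr.lf (Fc.ed (nat_lit 899) (nat_lit 366) Col.c (nat_lit 355) (Dv.wd (nat_lit 28) [Mv.f (nat_lit 876), Mv.b (nat_lit 789), Mv.f (nat_lit 898)]))) (Tr.lf (Fc.ed (nat_lit 900) (nat_lit 310) Col.b (nat_lit 367) Dv.df))) (Tr.nd (nat_lit 902) (Tr.lf (Fc.ed (nat_lit 901) (nat_lit 367) Col.d (nat_lit 339) (Dv.wd (nat_lit 20) [Mv.b (nat_lit 843), Mv.f (nat_lit 792), Mv.f (nat_lit 900)]))) (Tr.nd (nat_lit 903) (Tr.lf (Fc.ed (nat_lit 902) (nat_lit 360) Col.g (nat_lit 368) Dv.df)) (Tr.lf (Fc.ed (nat_lit 903) (nat_lit 368) Col.c (nat_lit 290) (Dv.wd (nat_lit 13) [Mv.f (nat_lit 853), Mv.f (nat_lit 886), Mv.f (nat_lit 902)])))))) (Tr.nd (nat_lit 906) (Tr.nd (nat_lit 905) (Tr.lf (Fc.ed (nat_lit 904) (nat_lit 368) Col.a (nat_lit 369) Dv.df)) (Tr.lf (Fc.ed (nat_lit 905) (nat_lit 369) Col.c (nat_lit 343) (Dv.wd (nat_lit 28) [Mv.f (nat_lit 851), Mv.b (nat_lit 903), Mv.f (nat_lit 904)])))) (Tr.nd (nat_lit 907) (Tr.lf (Fc.ed (nat_lit 906) (nat_lit 366) Col.d (nat_lit 370) Dv.df)) (Tr.nd (nat_lit 908) (Tr.lf (Fc.ed (nat_lit 907) (nat_lit 370) Col.a (nat_lit 364) (Dv.wd (nat_lit 43) [Mv.b (nat_lit 895), Mv.f (nat_lit 898), Mv.f (nat_lit 906)]))) (Tr.lf (Fc.ed (nat_lit 908) (nat_lit 322) Col.e (nat_lit 371) Dv.df)))))) (Tr.nd (nat_lit 914) (Tr.nd (nat_lit 911) (Tr.nd (nat_lit 910) (Tr.lf (Fc.ed (nat_lit 909) (nat_lit 329) Col.e (nat_lit 372) Dv.df)) (Tr.lf (Fc.ed (nat_lit 910) (nat_lit 329) Col.b (nat_lit 373) Dv.df))) (Tr.nd (nat_lit 912) (Tr.lf (Fc.ed (nat_lit 911) (nat_lit 371) Col.f (nat_lit 374) Dv.df)) (Tr.nd (nat_lit 913) (Tr.lf (Fc.ed (nat_lit 912) (nat_lit 374) Col.e (nat_lit 353) (Dv.wd (nat_lit 42) [Mv.f (nat_lit 871), Mv.f (nat_lit 908), Mv.f (nat_lit 911)]))) (Tr.lf (Fc.ed (nat_lit 913) (nat_lit 296) Col.a (nat_lit 375) Dv.df))))) (Tr.nd (nat_lit 916) (Tr.nd (nat_lit 915) (Tr.lf (Fc.ed (nat_lit 914) (nat_lit 375) Col.c (nat_lit 349) (Dv.wd (nat_lit 28) [Mv.b (nat_lit 862), Mv.b (nat_lit 761), Mv.f (nat_lit 913)]))) (Tr.lf (Fc.ed (nat_lit 915) (nat_lit 327) Col.b (nat_lit 376) Dv.df))) (Tr.nd (nat_lit 917) (Tr.lf (Fc.ed (nat_lit 916) (nat_lit 372) Col.b (nat_lit 377) Dv.df)) (Tr.nd (nat_lit 918) (Tr.lf (Fc.ed (nat_lit 917) (nat_lit 377) Col.e (nat_lit 373) (Dv.wd (nat_lit 16) [Mv.b (nat_lit 910), Mv.f (nat_lit 909), Mv.f (nat_lit 916)]))) (Tr.lf (Fc.ed (nat_lit 918) (nat_lit 312) Col.b (nat_lit 378) Dv.df)))))))) (Tr.nd (nat_lit 939) (Tr.nd (nat_lit 929) (Tr.nd (nat_lit 924) (Tr.nd (nat_lit 921) (Tr.nd (nat_lit 920) (Tr.lf (Fc.ed (nat_lit 919) (nat_lit 378) Col.d (nat_lit 342) (Dv.wd (nat_lit 20) [Mv.b (nat_lit 848), Mv.f (nat_lit 794), Mv.f (nat_lit 918)]))) (Tr.lf (Fc.ed (nat_lit 920) (nat_lit 374) Col.d (nat_lit 379) Dv.df))) (Tr.nd (nat_lit 922) (Tr.lf (Fc.ed (nat_lit 921) (nat_lit 379) Col.e (nat_lit 335) (Dv.wd (nat_lit 65) [Mv.b (nat_lit 838), Mv.f (nat_lit 827), Mv.f (nat_lit 870), Mv.b (nat_lit 912), Mv.f (nat_lit 920)]))) (Tr.nd (nat_lit 923) (Tr.lf (Fc.ed (nat_lit 922) (nat_lit 376) Col.d (nat_lit 380) Dv.df)) (Tr.lf (Fc.ed (nat_lit 923) (nat_lit 380) Col.b (nat_lit 331) (Dv.wd (nat_lit 44) [Mv.f (nat_lit 832), Mv.f (nat_lit 915), Mv.f (nat_lit 922)])))))) (Tr.nd (nat_lit 926) (Tr.nd (nat_lit 925) (Tr.lf (Fc.ed (nat_lit 924) (nat_lit 326) Col.e (nat_lit 381) Dv.df)) (Tr.lf (Fc.ed (nat_lit 925) (nat_lit 381) Col.f (nat_lit 382) Dv.df))) (Tr.nd (nat_lit 927) (Tr.lf (Fc.ed (nat_lit 926) (nat_lit 382) Col.e (nat_lit 352) (Dv.wd (nat_lit 42) [Mv.f (nat_lit 868), Mv.f (nat_lit 924), Mv.f (nat_lit 925)]))) (Tr.nd (nat_lit 928) (Tr.lf (Fc.ed (nat_lit 927) (nat_lit 324) Col.b (nat_lit 383) Dv.df)) (Tr.lf (Fc.ed (nat_lit 928) (nat_lit 383) Col.e (nat_lit 376) (Dv.wd (nat_lit 16) [Mv.b (nat_lit 915), Mv.f (nat_lit 825), Mv.f (nat_lit 927)]))))))) (Tr.nd (nat_lit 934) (Tr.nd (nat_lit 931) (Tr.nd (nat_lit 930) (Tr.lf (Fc.ed (nat_lit 929) (nat_lit 361) Col.d (nat_lit 384) Dv.df)) (Tr.lf (Fc.ed (nat_lit 930) (nat_lit 333) Col.a (nat_lit 385) Dv.df))) (Tr.nd (nat_lit 932) (Tr.lf (Fc.ed (nat_lit 931) (nat_lit 357) Col.f (nat_lit 386) Dv.df)) (Tr.nd (nat_lit 933) (Tr.lf (Fc.ed (nat_lit 932) (nat_lit 331) Col.e (nat_lit 387) Dv.df)) (Tr.lf (Fc.ed (nat_lit 933) (nat_lit 387) Col.c (nat_lit 372) (Dv.wd (nat_lit 58) [Mv.b (nat_lit 909), Mv.f (nat_lit 831), Mv.f (nat_lit 932)])))))) (Tr.nd (nat_lit 936) (Tr.nd (nat_lit 935) (Tr.lf (Fc.ed (nat_lit 934) (nat_lit 384) Col.c (nat_lit 388) Dv.df)) (Tr.lf (Fc.ed (nat_lit 935) (nat_lit 388) Col.d (nat_lit 337) (Dv.wd (nat_lit 63) [Mv.b (nat_lit 841), Mv.f (nat_lit 595), Mv.b (nat_lit 512), Mv.b (nat_lit 608), Mv.b (nat_lit 752), Mv.b (nat_lit 888), Mv.f (nat_lit 929), Mv.f (nat_lit 934)])))) (Tr.nd (nat_lit 937) (Tr.lf (Fc.ed (nat_lit 936) (nat_lit 361) Col.b (nat_lit 389) Dv.df)) (Tr.nd (nat_lit 938) (Tr.lf (Fc.ed (nat_lit 937) (nat_lit 389) Col.c (nat_lit 376) (Dv.wd (nat_lit 64) [Mv.b (nat_lit 915), Mv.f (nat_lit 824), Mv.b (nat_lit 753), Mv.b (nat_lit 888), Mv.f (nat_lit 936)]))) (Tr.lf (Fc.ed (nat_lit 938) (nat_lit 346) Col.d (nat_lit 390) Dv.df))))))) (Tr.nd (nat_lit 949) (Tr.nd (nat_lit 944) (Tr.nd (nat_lit 941) (Tr.nd (nat_lit 940) (Tr.lf (Fc.ed (nat_lit 939) (nat_lit 334) Col.d (nat_lit 391) Dv.df)) (Tr.lf (Fc.ed (nat_lit 940) (nat_lit 362) Col.d (nat_lit 392) Dv.df))) (Tr.nd (nat_lit 942) (Tr.lf (Fc.ed (nat_lit 941) (nat_lit 392) Col.f (nat_lit 384) (Dv.wd (nat_lit 39) [Mv.b (nat_lit 929), Mv.f (nat_lit 892), Mv.f (nat_lit 940)]))) (Tr.nd (nat_lit 943) (Tr.lf (Fc.ed (nat_lit 942) (nat_lit 392) Col.c (nat_lit 391) (Dv.wd (nat_lit 60) [Mv.b (nat_lit 939), Mv.b (nat_lit 837), Mv.b (nat_lit 513), Mv.b (nat_lit 525), Mv.f (nat_lit 592), Mv.b (nat_lit 747), Mv.b (nat_lit 890), Mv.f (nat_lit 940)]))) (Tr.lf (Fc.ed (nat_lit 943) (nat_lit 359) Col.d (nat_lit 393) Dv.df))))) (Tr.nd (nat_lit 946) (Tr.nd (nat_lit 945) (Tr.lf (Fc.ed (nat_lit 944) (nat_lit 393) Col.f (nat_lit 351) (Dv.wd (nat_lit 39) [Mv.b (nat_lit 865), Mv.b (nat_lit 885), Mv.f (nat_lit 943)]))) (Tr.lf (Fc.ed (nat_lit 945) (nat_lit 326) Col.b (nat_lit 394) Dv.df))) (Tr.nd (nat_lit 947) (Tr.lf (Fc.ed (nat_lit 946) (nat_lit 394) Col.d (nat_lit 340) (Dv.wd (nat_lit 20) [Mv.b (nat_lit 845), Mv.f (nat_lit 822), Mv.f (nat_lit 945)]))) (Tr.nd (nat_lit 948) (Tr.lf (Fc.ed (nat_lit 947) (nat_lit 391) Col.b (nat_lit 395) Dv.df)) (Tr.lf (Fc.ed (nat_lit 948) (nat_lit 395) Col.d (nat_lit 336) (Dv.wd (nat_lit 20) [Mv.b (nat_lit 839), Mv.f (nat_lit 939), Mv.f (nat_lit 947)]))))))) (Tr.nd (nat_lit 954) (Tr.nd (nat_lit 951) (Tr.nd (nat_lit 950) (Tr.lf (Fc.ed (nat_lit 949) (nat_lit 383) Col.c (nat_lit 396) Dv.df)) (Tr.lf (Fc.ed (nat_lit 950) (nat_lit 396) Col.e (nat_lit 389) (Dv.wd (nat_lit 17) [Mv.f (nat_lit 937), Mv.b (nat_lit 928), Mv.f (nat_lit 949)])))) (Tr.nd (nat_lit 952) (Tr.lf (Fc.ed (nat_lit 951) (nat_lit 396) Col.b (nat_lit 362) (Dv.wd (nat_lit 59) [Mv.f (nat_lit 890), Mv.b (nat_lit 745), Mv.f (nat_lit 818), Mv.f (nat_lit 927), Mv.f (nat_lit 949)]))) (Tr.nd (nat_lit 953) (Tr.lf (Fc.ed (nat_lit 952) (nat_lit 394) Col.f (nat_lit 397) Dv.df)) (Tr.lf (Fc.ed (nat_lit 953) (nat_lit 369) Col.d (nat_lit 398) Dv.df))))) (Tr.nd (nat_lit 956) (Tr.nd (nat_lit 955) (Tr.lf (Fc.ed (nat_lit 954) (nat_lit 368) Col.d (nat_lit 399) Dv.df)) (Tr.lf (Fc.ed (nat_lit 955) (nat_lit 399) Col.c (nat_lit 398) (Dv.wd (nat_lit 60) [Mv.b (nat_lit 953), Mv.f (nat_lit 905), Mv.f (nat_lit 852), Mv.f (nat_lit 804), Mv.b (nat_lit 852), Mv.f (nat_lit 851), Mv.b (nat_lit 903), Mv.f (nat_lit 954)])))) (Tr.nd (nat_lit 957) (Tr.lf (Fc.ed (nat_lit 956) (nat_lit 381) Col.b (nat_lit 400) Dv.df)) (Tr.nd (nat_lit 958) (Tr.lf (Fc.ed (nat_lit 957) (nat_lit 400) Col.e (nat_lit 394) (Dv.wd (nat_lit 16) [Mv.b (nat_lit 945), Mv.f (nat_lit 924), Mv.f (nat_lit 956)]))) (Tr.lf (Fc.ed (nat_lit 958) (nat_lit 365) Col.d (nat_lit 401) Dv.df))))))))))) (Tr.nd (nat_lit 1119) (Tr.nd (nat_lit 1039) (Tr.nd (nat_lit 999) (Tr.nd (nat_lit 979) (Tr.nd (nat_lit 969) (Tr.nd (nat_lit 964) (Tr.nd (nat_lit 961) (Tr.nd (nat_lit 960) (Tr.lf (Fc.ed (nat_lit 959) (nat_lit 401) Col.b (nat_lit 390) (Dv.wd (nat_lit 44) [Mv.b (nat_lit 938), Mv.b (nat_lit 897), Mv.f (nat_lit 958)]))) (Tr.lf (Fc.ed (nat_lit 960) (nat_lit 335) Col.b (nat_lit 402) Dv.df))) (Tr.nd (nat_lit 962) (Tr.lf (Fc.ed (nat_lit 961) (nat_lit 400) Col.c (nat_lit 403) Dv.df)) (Tr.nd (nat_lit 963) (Tr.lf (Fc.ed (nat_lit 962) (nat_lit 394) Col.c (nat_lit 404) Dv.df)) (Tr.lf (Fc.ed (nat_lit 963) (nat_lit 404) Col.d (nat_lit 403) (Dv.wd (nat_lit 84) [Mv.b (nat_lit 961), Mv.b (nat_lit 956), Mv.b (nat_lit 924), Mv.b (nat_lit 822), Mv.f (nat_lit 816), Mv.f (nat_lit 659), Mv.b (nat_lit 491), Mv.b (nat_lit 477), Mv.b (nat_lit 414), Mv.f (nat_lit 585), Mv.f (nat_lit 671), Mv.f (nat_lit 677), Mv.b (nat_lit 821), Mv.b (nat_lit 820), Mv.b (nat_lit 797), Mv.b (nat_lit 834), Mv.b (nat_lit 844), Mv.b (nat_lit 843), Mv.f (nat_lit 792), Mv.f (nat_lit 798), Mv.f (nat_lit 799), Mv.b (nat_lit 782), Mv.b (nat_lit 346), Mv.b (nat_lit 319), Mv.f (nat_lit 194), Mv.f (nat_lit 154), Mv.b (nat_lit 194), Mv.f (nat_lit 259), Mv.f (nat_lit 260), Mv.b (nat_lit 293), Mv.b (nat_lit 308), Mv.b (nat_lit 457), Mv.f (nat_lit 458), Mv.b (nat_lit 455), Mv.b (nat_lit 460), Mv.b (nat_lit 458), Mv.f (nat_lit 457), Mv.f (nat_lit 308), Mv.b (nat_lit 292), Mv.f (nat_lit 167), Mv.f (nat_lit 170), Mv.b (nat_lit 16), Mv.b (nat_lit 15), Mv.b (nat_lit 5), Mv.f (nat_lit 28), Mv.f (nat_lit 27), Mv.f (nat_lit 28), Mv.f (nat_lit 27), Mv.f (nat_lit 5), Mv.f (nat_lit 36), Mv.f (nat_lit 15), Mv.f (nat_lit 16), Mv.b (nat_lit 170), Mv.f (nat_lit 255), Mv.b (nat_lit 260), Mv.b (nat_lit 347), Mv.f (nat_lit 782), Mv.b (nat_lit 799), Mv.b (nat_lit 798), Mv.f (nat_lit 900), Mv.f (nat_lit 901), Mv.f (nat_lit 844), Mv.f (nat_lit 834), Mv.f (nat_lit 797), Mv.f (nat_lit 796), Mv.b (nat_lit 678), Mv.b (nat_lit 677), Mv.b (nat_lit 671), Mv.b (nat_lit 585), Mv.b (nat_lit 553), Mv.b (nat_lit 552), Mv.f (nat_lit 491), Mv.b (nat_lit 659), Mv.b (nat_lit 816), Mv.f (nat_lit 845), Mv.b (nat_lit 946), Mv.f (nat_lit 962)])))))) (Tr.nd (nat_lit 966) (Tr.nd (nat_lit 965) (Tr.lf (Fc.ed (nat_lit 964) (nat_lit 352) Col.b (nat_lit 405) Dv.df)) (Tr.lf (Fc.ed (nat_lit 965) (nat_lit 402) Col.d (nat_lit 406) Dv.df))) (Tr.nd (nat_lit 967) (Tr.lf (Fc.ed (nat_lit 966) (nat_lit 406) Col.b (nat_lit 328) (Dv.wd (nat_lit 44) [Mv.f (nat_lit 838), Mv.f (nat_lit 960), Mv.f (nat_lit 965)]))) (Tr.nd (nat_lit 968) (Tr.lf (Fc.ed (nat_lit 967) (nat_lit 406) Col.c (nat_lit 407) Dv.df)) (Tr.lf (Fc.ed (nat_lit 968) (nat_lit 407) Col.b (nat_lit 337) (Dv.wd (nat_lit 59) [Mv.b (nat_lit 841), Mv.f (nat_lit 596), Mv.f (nat_lit 826), Mv.b (nat_lit 966), Mv.f (nat_lit 967)]))))))) (Tr.nd (nat_lit 974) (Tr.nd (nat_lit 971) (Tr.nd (nat_lit 970) (Tr.lf (Fc.ed (nat_lit 969) (nat_lit 397) Col.b (nat_lit 408) Dv.df)) (Tr.lf (Fc.ed (nat_lit 970) (nat_lit 408) Col.f (nat_lit 405) (Dv.wd (nat_lit 34) [Mv.b (nat_lit 964), Mv.f (nat_lit 868), Mv.f (nat_lit 945), Mv.f (nat_lit 952), Mv.f (nat_lit 969)])))) (Tr.nd (nat_lit 972) (Tr.lf (Fc.ed (nat_lit 971) (nat_lit 385) Col.c (nat_lit 409) Dv.df)) (Tr.nd (nat_lit 973) (Tr.lf (Fc.ed (nat_lit 972) (nat_lit 409) Col.a (nat_lit 342) (Dv.wd (nat_lit 7) [Mv.f (nat_lit 849), Mv.f (nat_lit 930), Mv.f (nat_lit 971)]))) (Tr.lf (Fc.ed (nat_lit 973) (nat_lit 382) Col.b (nat_lit 410) Dv.df))))) (Tr.nd (nat_lit 976) (Tr.nd (nat_lit 975) (Tr.lf (Fc.ed (nat_lit 974) (nat_lit 410) Col.e (nat_lit 405) (Dv.wd (nat_lit 16) [Mv.b (nat_lit 964), Mv.b (nat_lit 926), Mv.f (nat_lit 973)]))) (Tr.lf (Fc.ed (nat_lit 975) (nat_lit 407) Col.e (nat_lit 411) Dv.df))) (Tr.nd (nat_lit 977) (Tr.lf (Fc.ed (nat_lit 976) (nat_lit 411) Col.b (nat_lit 341) (Dv.wd (nat_lit 56) [Mv.f (nat_lit 847), Mv.b (nat_lit 968), Mv.f (nat_lit 975)]))) (Tr.nd (nat_lit 978) (Tr.lf (Fc.ed (nat_lit 977) (nat_lit 354) Col.b (nat_lit 412) Dv.df)) (Tr.lf (Fc.ed (nat_lit 978) (nat_lit 412) Col.d (nat_lit 348) (Dv.wd (nat_lit 20) [Mv.f (nat_lit 860), Mv.f (nat_lit 872), Mv.f (nat_lit 977)])))))))) (Tr.nd (nat_lit 989) (Tr.nd (nat_lit 984) (Tr.nd (nat_lit 981) (Tr.nd (nat_lit 980) (Tr.lf (Fc.ed (nat_lit 979) (nat_lit 412) Col.e (nat_lit 413) Dv.df)) (Tr.lf (Fc.ed (nat_lit 980) (nat_lit 413) Col.d (nat_lit 400) (Dv.wd (nat_lit 27) [Mv.f (nat_lit 957), Mv.f (nat_lit 946), Mv.f (nat_lit 861), Mv.b (nat_lit 978), Mv.f (nat_lit 979)])))) (Tr.nd (nat_lit 982) (Tr.lf (Fc.ed (nat_lit 981) (nat_lit 379) Col.b (nat_lit 414) Dv.df)) (Tr.nd (nat_lit 983) (Tr.lf (Fc.ed (nat_lit 982) (nat_lit 414) Col.e (nat_lit 402) (Dv.wd (nat_lit 16) [Mv.b (nat_lit 960), Mv.b (nat_lit 921), Mv.f (nat_lit 981)]))) (Tr.lf (Fc.ed (nat_lit 983) (nat_lit 396) Col.d (nat_lit 415) Dv.df))))) (Tr.nd (nat_lit 986) (Tr.nd (nat_lit 985) (Tr.lf (Fc.ed (nat_lit 984) (nat_lit 415) Col.b (nat_lit 392) (Dv.wd (nat_lit 44) [Mv.b (nat_lit 940), Mv.b (nat_lit 951), Mv.f (nat_lit 983)]))) (Tr.lf (Fc.ed (nat_lit 985) (nat_lit 412) Col.a (nat_lit 416) Dv.df))) (Tr.nd (nat_lit 987) (Tr.lf (Fc.ed (nat_lit 986) (nat_lit 416) Col.c (nat_lit 413) (Dv.wd (nat_lit 81) [Mv.f (nat_lit 980), Mv.f (nat_lit 961), Mv.b (nat_lit 963), Mv.b (nat_lit 962), Mv.f (nat_lit 946), Mv.f (nat_lit 859), Mv.b (nat_lit 978), Mv.f (nat_lit 985)]))) (Tr.nd (nat_lit 988) (Tr.lf (Fc.ed (nat_lit 987) (nat_lit 387) Col.b (nat_lit 417) Dv.df)) (Tr.lf (Fc.ed (nat_lit 988) (nat_lit 417) Col.e (nat_lit 380) (Dv.wd (nat_lit 16) [Mv.f (nat_lit 923), Mv.f (nat_lit 932), Mv.f (nat_lit 987)]))))))) (Tr.nd (nat_lit 994) (Tr.nd (nat_lit 991) (Tr.nd (nat_lit 990) (Tr.lf (Fc.ed (nat_lit 989) (nat_lit 373) Col.a (nat_lit 418) Dv.df)) (Tr.lf (Fc.ed (nat_lit 990) (nat_lit 386) Col.d (nat_lit 419) Dv.df))) (Tr.nd (nat_lit 992) (Tr.lf (Fc.ed (nat_lit 991) (nat_lit 419) Col.f (nat_lit 363) (Dv.wd (nat_lit 39) [Mv.b (nat_lit 893), Mv.f (nat_lit 931), Mv.f (nat_lit 990)]))) (Tr.nd (nat_lit 993) (Tr.lf (Fc.ed (nat_lit 992) (nat_lit 340) Col.f (nat_lit 420) Dv.df)) (Tr.lf (Fc.ed (nat_lit 993) (nat_lit 420) Col.d (nat_lit 397) (Dv.wd (nat_lit 69) [Mv.b (nat_lit 952), Mv.f (nat_lit 946), Mv.f (nat_lit 992)])))))) (Tr.nd (nat_lit 996) (Tr.nd (nat_lit 995) (Tr.lf (Fc.ed (nat_lit 994) (nat_lit 365) Col.a (nat_lit 421) Dv.df)) (Tr.lf (Fc.ed (nat_lit 995) (nat_lit 421) Col.f (nat_lit 409) (Dv.wd (nat_lit 29) [Mv.f (nat_lit 972), Mv.f (nat_lit 896), Mv.f (nat_lit 994)])))) (Tr.nd (nat_lit 997) (Tr.lf (Fc.ed (nat_lit 996) (nat_lit 412) Col.c (nat_lit 422) Dv.df)) (Tr.nd (nat_lit 998) (Tr.lf (Fc.ed (nat_lit 997) (nat_lit 422) Col.a (nat_lit 413) (Dv.wd (nat_lit 7) [Mv.b (nat_lit 986), Mv.b (nat_lit 985), Mv.f (nat_lit 996)]))) (Tr.lf (Fc.ed (nat_lit 998) (nat_lit 400) Col.a (nat_lit 423) Dv.df)))))))) (Tr.nd (nat_lit 1019) (Tr.nd (nat_lit 1009) (Tr.nd (nat_lit 1004) (Tr.nd (nat_lit 1001) (Tr.nd (nat_lit 1000) (Tr.lf (Fc.ed (nat_lit 999) (nat_lit 423) Col.d (nat_lit 422) (Dv.wd (nat_lit 21) [Mv.f (nat_lit 997), Mv.f (nat_lit 980), Mv.f (nat_lit 998)]))) (Tr.lf (Fc.ed (nat_lit 1000) (nat_lit 363) Col.a (nat_lit 424) Dv.df))) (Tr.nd (nat_lit 1002) (Tr.lf (Fc.ed (nat_lit 1001) (nat_lit 409) Col.d (nat_lit 425) Dv.df)) (Tr.nd (nat_lit 1003) (Tr.lf (Fc.ed (nat_lit 1002) (nat_lit 425) Col.a (nat_lit 378) (Dv.wd (nat_lit 43) [Mv.f (nat_lit 919), Mv.b (nat_lit 972), Mv.f (nat_lit 1001)]))) (Tr.lf (Fc.ed (nat_lit 1003) (nat_lit 364) Col.c (nat_lit 426) Dv.df))))) (Tr.nd (nat_lit 1006) (Tr.nd (nat_lit 1005) (Tr.lf (Fc.ed (nat_lit 1004) (nat_lit 319) Col.b (nat_lit 427) Dv.df)) (Tr.lf (Fc.ed (nat_lit 1005) (nat_lit 427) Col.e (nat_lit 406) (Dv.wd (nat_lit 16) [Mv.f (nat_lit 966), Mv.f (nat_lit 827), Mv.f (nat_lit 1004)])))) (Tr.nd (nat_lit 1007) (Tr.lf (Fc.ed (nat_lit 1006) (nat_lit 427) Col.c (nat_lit 411) (Dv.wd (nat_lit 64) [Mv.f (nat_lit 976), Mv.b (nat_lit 846), Mv.b (nat_lit 664), Mv.f (nat_lit 808), Mv.f (nat_lit 1004)]))) (Tr.nd (nat_lit 1008) (Tr.lf (Fc.ed (nat_lit 1007) (nat_lit 421) Col.d (nat_lit 428) Dv.df)) (Tr.lf (Fc.ed (nat_lit 1008) (nat_lit 428) Col.a (nat_lit 401) (Dv.wd (nat_lit 43) [Mv.b (nat_lit 958), Mv.f (nat_lit 994), Mv.f (nat_lit 1007)]))))))) (Tr.nd (nat_lit 1014) (Tr.nd (nat_lit 1011) (Tr.nd (nat_lit 1010) (Tr.lf (Fc.ed (nat_lit 1009) (nat_lit 428) Col.f (nat_lit 425) (Dv.wd (nat_lit 39) [Mv.b (nat_lit 1001), Mv.b (nat_lit 995), Mv.f (nat_lit 1007)]))) (Tr.lf (Fc.ed (nat_lit 1010) (nat_lit 423) Col.c (nat_lit 429) Dv.df))) (Tr.nd (nat_lit 1012) (Tr.lf (Fc.ed (nat_lit 1011) (nat_lit 420) Col.b (nat_lit 430) Dv.df)) (Tr.nd (nat_lit 1013) (Tr.lf (Fc.ed (nat_lit 1012) (nat_lit 430) Col.d (nat_lit 408) (Dv.wd (nat_lit 20) [Mv.b (nat_lit 969), Mv.b (nat_lit 993), Mv.f (nat_lit 1011)]))) (Tr.lf (Fc.ed (nat_lit 1013) (nat_lit 430) Col.f (nat_lit 383) (Dv.wd (nat_lit 34) [Mv.b (nat_lit 927), Mv.f (nat_lit 819), Mv.f (nat_lit 845), Mv.f (nat_lit 992), Mv.f (nat_lit 1011)])))))) (Tr.nd (nat_lit 1016) (Tr.nd (nat_lit 1015) (Tr.lf (Fc.ed (nat_lit 1014) (nat_lit 351) Col.a (nat_lit 431) Dv.df)) (Tr.lf (Fc.ed (nat_lit 1015) (nat_lit 431) Col.d (nat_lit 375) (Dv.wd (nat_lit 21) [Mv.b (nat_lit 913), Mv.f (nat_lit 865), Mv.f (nat_lit 1014)])))) (Tr.nd (nat_lit 1017) (Tr.lf (Fc.ed (nat_lit 1016) (nat_lit 431) Col.g (nat_lit 424) (Dv.wd (nat_lit 33) [Mv.b (nat_lit 1000), Mv.f (nat_lit 894), Mv.f (nat_lit 1014)]))) (Tr.nd (nat_lit 1018) (Tr.lf (Fc.ed (nat_lit 1017) (nat_lit 348) Col.f (nat_lit 432) Dv.df)) (Tr.lf (Fc.ed (nat_lit 1018) (nat_lit 432) Col.e (nat_lit 420) (Dv.wd (nat_lit 42) [Mv.b (nat_lit 992), Mv.f (nat_lit 861), Mv.f (nat_lit 1017)])))))))) (Tr.nd (nat_lit 1029) (Tr.nd (nat_lit 1024) (Tr.nd (nat_lit 1021) (Tr.nd (nat_lit 1020) (Tr.lf (Fc.ed (nat_lit 1019) (nat_lit 419) Col.g (nat_lit 433) Dv.df)) (Tr.lf (Fc.ed (nat_lit 1020) (nat_lit 433) Col.f (nat_lit 431) (Dv.wd (nat_lit 51) [Mv.f (nat_lit 1016), Mv.b (nat_lit 1000), Mv.b (nat_lit 991), Mv.f (nat_lit 1019)])))) (Tr.nd (nat_lit 1022) (Tr.lf (Fc.ed (nat_lit 1021) (nat_lit 433) Col.a (nat_lit 393) (Dv.wd (nat_lit 26) [Mv.f (nat_lit 944), Mv.b (nat_lit 894), Mv.b (nat_lit 991), Mv.f (nat_lit 1019)]))) (Tr.nd (nat_lit 1023) (Tr.lf (Fc.ed (nat_lit 1022) (nat_lit 426) Col.d (nat_lit 434) Dv.df)) (Tr.lf (Fc.ed (nat_lit 1023) (nat_lit 434) Col.c (nat_lit 431) (Dv.wd (nat_lit 60) [Mv.f (nat_lit 1015), Mv.f (nat_lit 914), Mv.f (nat_lit 877), Mv.b (nat_lit 899), Mv.f (nat_lit 906), Mv.f (nat_lit 907), Mv.f (nat_lit 1003), Mv.f (nat_lit 1022)])))))) (Tr.nd (nat_lit 1026) (Tr.nd (nat_lit 1025) (Tr.lf (Fc.ed (nat_lit 1024) (nat_lit 384) Col.e (nat_lit 435) Dv.df)) (Tr.lf (Fc.ed (nat_lit 1025) (nat_lit 422) Col.b (nat_lit 436) Dv.df))) (Tr.nd (nat_lit 1027) (Tr.lf (Fc.ed (nat_lit 1026) (nat_lit 436) Col.c (nat_lit 351) (Dv.wd (nat_lit 64) [Mv.f (nat_lit 866), Mv.b (nat_lit 874), Mv.f (nat_lit 977), Mv.f (nat_lit 996), Mv.f (nat_lit 1025)]))) (Tr.nd (nat_lit 1028) (Tr.lf (Fc.ed (nat_lit 1027) (nat_lit 370) Col.c (nat_lit 437) Dv.df)) (Tr.lf (Fc.ed (nat_lit 1028) (nat_lit 437) Col.a (nat_lit 426) (Dv.wd (nat_lit 7) [Mv.b (nat_lit 1003), Mv.b (nat_lit 907), Mv.f (nat_lit 1027)]))))))) (Tr.nd (nat_lit 1034) (Tr.nd (nat_lit 1031) (Tr.nd (nat_lit 1030) (Tr.lf (Fc.ed (nat_lit 1029) (nat_lit 437) Col.d (nat_lit 436) (Dv.wd (nat_lit 57) [Mv.f (nat_lit 1026), Mv.b (nat_lit 865), Mv.f (nat_lit 761), Mv.f (nat_lit 673), Mv.b (nat_lit 789), Mv.f (nat_lit 895), Mv.b (nat_lit 907), Mv.f (nat_lit 1027)]))) (Tr.lf (Fc.ed (nat_lit 1030) (nat_lit 423) Col.b (nat_lit 437) (Dv.wd (nat_lit 23) [Mv.f (nat_lit 1029), Mv.b (nat_lit 1025), Mv.b (nat_lit 999)])))) (Tr.nd (nat_lit 1032) (Tr.lf (Fc.ed (nat_lit 1031) (nat_lit 432) Col.b (nat_lit 438) Dv.df)) (Tr.nd (nat_lit 1033) (Tr.lf (Fc.ed (nat_lit 1032) (nat_lit 438) Col.f (nat_lit 376) (Dv.wd (nat_lit 34) [Mv.b (nat_lit 915), Mv.b (nat_lit 823), Mv.b (nat_lit 860), Mv.f (nat_lit 1017), Mv.f (nat_lit 1031)]))) (Tr.lf (Fc.ed (nat_lit 1033) (nat_lit 412) Col.f (nat_lit 439) Dv.df))))) (Tr.nd (nat_lit 1036) (Tr.nd (nat_lit 1035) (Tr.lf (Fc.ed (nat_lit 1034) (nat_lit 439) Col.d (nat_lit 432) (Dv.wd (nat_lit 69) [Mv.b (nat_lit 1017), Mv.b (nat_lit 978), Mv.f (nat_lit 1033)]))) (Tr.lf (Fc.ed (nat_lit 1035) (nat_lit 433) Col.c (nat_lit 440) Dv.df))) (Tr.nd (nat_lit 1037) (Tr.lf (Fc.ed (nat_lit 1036) (nat_lit 440) Col.f (nat_lit 434) (Dv.wd (nat_lit 25) [Mv.f (nat_lit 1023), Mv.b (nat_lit 1020), Mv.f (nat_lit 1035)]))) (Tr.nd (nat_lit 1038) (Tr.lf (Fc.ed (nat_lit 1037) (nat_lit 384) Col.b (nat_lit 441) Dv.df)) (Tr.lf (Fc.ed (nat_lit 1038) (nat_lit 441) Col.d (nat_lit 389) (Dv.wd (nat_lit 20) [Mv.b (nat_lit 936), Mv.f (nat_lit 929), Mv.f (nat_lit 1037)])))))))))) (Tr.nd (nat_lit 1079) (Tr.nd (nat_lit 1059) (Tr.nd (nat_lit 1049) (Tr.nd (nat_lit 1044) (Tr.nd (nat_lit 1041) (Tr.nd (nat_lit 1040) (Tr.lf (Fc.ed (nat_lit 1039) (nat_lit 440) Col.d (nat_lit 442) Dv.df)) (Tr.lf (Fc.ed (nat_lit 1040) (nat_lit 442) Col.f (nat_lit 426) (Dv.wd (nat_lit 39) [Mv.f (nat_lit 1022), Mv.b (nat_lit 1036), Mv.f (nat_lit 1039)])))) (Tr.nd (nat_lit 1042) (Tr.lf (Fc.ed (nat_lit 1041) (nat_lit 442) Col.c (nat_lit 390) (Dv.wd (nat_lit 60) [Mv.b (nat_lit 938), Mv.b (nat_lit 855), Mv.f (nat_lit 813), Mv.f (nat_lit 884), Mv.f (nat_lit 943), Mv.b (nat_lit 1021), Mv.f (nat_lit 1035), Mv.f (nat_lit 1039)]))) (Tr.nd (nat_lit 1043) (Tr.lf (Fc.ed (nat_lit 1042) (nat_lit 374) Col.b (nat_lit 443) Dv.df)) (Tr.lf (Fc.ed (nat_lit 1043) (nat_lit 443) Col.d (nat_lit 414) (Dv.wd (nat_lit 20) [Mv.b (nat_lit 981), Mv.b (nat_lit 920), Mv.f (nat_lit 1042)])))))) (Tr.nd (nat_lit 1046) (Tr.nd (nat_lit 1045) (Tr.lf (Fc.ed (nat_lit 1044) (nat_lit 369) Col.b (nat_lit 444) Dv.df)) (Tr.lf (Fc.ed (nat_lit 1045) (nat_lit 435) Col.b (nat_lit 445) Dv.df))) (Tr.nd (nat_lit 1047) (Tr.lf (Fc.ed (nat_lit 1046) (nat_lit 445) Col.e (nat_lit 441) (Dv.wd (nat_lit 16) [Mv.b (nat_lit 1037), Mv.f (nat_lit 1024), Mv.f (nat_lit 1045)]))) (Tr.nd (nat_lit 1048) (Tr.lf (Fc.ed (nat_lit 1047) (nat_lit 380) Col.f (nat_lit 446) Dv.df)) (Tr.lf (Fc.ed (nat_lit 1048) (nat_lit 446) Col.d (nat_lit 438) (Dv.wd (nat_lit 69) [Mv.f (nat_lit 1032), Mv.f (nat_lit 922), Mv.f (nat_lit 1047)]))))))) (Tr.nd (nat_lit 1054) (Tr.nd (nat_lit 1051) (Tr.nd (nat_lit 1050) (Tr.lf (Fc.ed (nat_lit 1049) (nat_lit 446) Col.b (nat_lit 439) (Dv.wd (nat_lit 54) [Mv.b (nat_lit 1033), Mv.b (nat_lit 977), Mv.f (nat_lit 873), Mv.b (nat_lit 923), Mv.f (nat_lit 1047)]))) (Tr.lf (Fc.ed (nat_lit 1050) (nat_lit 443) Col.e (nat_lit 447) Dv.df))) (Tr.nd (nat_lit 1052) (Tr.lf (Fc.ed (nat_lit 1051) (nat_lit 447) Col.d (nat_lit 427) (Dv.wd (nat_lit 27) [Mv.f (nat_lit 1005), Mv.b (nat_lit 965), Mv.b (nat_lit 982), Mv.b (nat_lit 1043), Mv.f (nat_lit 1050)]))) (Tr.nd (nat_lit 1053) (Tr.lf (Fc.ed (nat_lit 1052) (nat_lit 415) Col.e (nat_lit 448) Dv.df)) (Tr.lf (Fc.ed (nat_lit 1053) (nat_lit 448) Col.d (nat_lit 445) (Dv.wd (nat_lit 27) [Mv.f (nat_lit 1046), Mv.f (nat_lit 1038), Mv.b (nat_lit 950), Mv.f (nat_lit 983), Mv.f (nat_lit 1052)])))))) (Tr.nd (nat_lit 1056) (Tr.nd (nat_lit 1055) (Tr.lf (Fc.ed (nat_lit 1054) (nat_lit 438) Col.c (nat_lit 449) Dv.df)) (Tr.lf (Fc.ed (nat_lit 1055) (nat_lit 449) Col.f (nat_lit 389) (Dv.wd (nat_lit 25) [Mv.f (nat_lit 937), Mv.b (nat_lit 1032), Mv.f (nat_lit 1054)])))) (Tr.nd (nat_lit 1057) (Tr.lf (Fc.ed (nat_lit 1056) (nat_lit 396) Col.f (nat_lit 450) Dv.df)) (Tr.nd (nat_lit 1058) (Tr.lf (Fc.ed (nat_lit 1057) (nat_lit 450) Col.c (nat_lit 430) (Dv.wd (nat_lit 53) [Mv.f (nat_lit 1013), Mv.f (nat_lit 949), Mv.f (nat_lit 1056)]))) (Tr.lf (Fc.ed (nat_lit 1058) (nat_lit 450) Col.b (nat_lit 449) (Dv.wd (nat_lit 54) [Mv.f (nat_lit 1055), Mv.b (nat_lit 936), Mv.f (nat_lit 892), Mv.b (nat_lit 951), Mv.f (nat_lit 1056)])))))))) (Tr.nd (nat_lit 1069) (Tr.nd (nat_lit 1064) (Tr.nd (nat_lit 1061) (Tr.nd (nat_lit 1060) (Tr.lf (Fc.ed (nat_lit 1059) (nat_lit 450) Col.d (nat_lit 451) Dv.df)) (Tr.lf (Fc.ed (nat_lit 1060) (nat_lit 451) Col.f (nat_lit 415) (Dv.wd (nat_lit 39) [Mv.b (nat_lit 983), Mv.f (nat_lit 1056), Mv.f (nat_lit 1059)])))) (Tr.nd (nat_lit 1062) (Tr.lf (Fc.ed (nat_lit 1061) (nat_lit 376) Col.a (nat_lit 452) Dv.df)) (Tr.nd (nat_lit 1063) (Tr.lf (Fc.ed (nat_lit 1062) (nat_lit 389) Col.a (nat_lit 453) Dv.df)) (Tr.lf (Fc.ed (nat_lit 1063) (nat_lit 397) Col.e (nat_lit 454) Dv.df))))) (Tr.nd (nat_lit 1066) (Tr.nd (nat_lit 1065) (Tr.lf (Fc.ed (nat_lit 1064) (nat_lit 454) Col.f (nat_lit 400) (Dv.wd (nat_lit 50) [Mv.f (nat_lit 957), Mv.f (nat_lit 952), Mv.f (nat_lit 1063)]))) (Tr.lf (Fc.ed (nat_lit 1065) (nat_lit 451) Col.b (nat_lit 455) Dv.df))) (Tr.nd (nat_lit 1067) (Tr.lf (Fc.ed (nat_lit 1066) (nat_lit 455) Col.d (nat_lit 449) (Dv.wd (nat_lit 20) [Mv.b (nat_lit 1058), Mv.f (nat_lit 1059), Mv.f (nat_lit 1065)]))) (Tr.nd (nat_lit 1068) (Tr.lf (Fc.ed (nat_lit 1067) (nat_lit 455) Col.f (nat_lit 441) (Dv.wd (nat_lit 34) [Mv.b (nat_lit 1037), Mv.b (nat_lit 941), Mv.b (nat_lit 984), Mv.b (nat_lit 1060), Mv.f (nat_lit 1065)]))) (Tr.lf (Fc.ed (nat_lit 1068) (nat_lit 446) Col.e (nat_lit 456) Dv.df)))))) (Tr.nd (nat_lit 1074) (Tr.nd (nat_lit 1071) (Tr.nd (nat_lit 1070) (Tr.lf (Fc.ed (nat_lit 1069) (nat_lit 456) Col.f (nat_lit 417) (Dv.wd (nat_lit 50) [Mv.f (nat_lit 988), Mv.f (nat_lit 1047), Mv.f (nat_lit 1068)]))) (Tr.lf (Fc.ed (nat_lit 1070) (nat_lit 454) Col.d (nat_lit 457) Dv.df))) (Tr.nd (nat_lit 1072) (Tr.lf (Fc.ed (nat_lit 1071) (nat_lit 457) Col.e (nat_lit 439) (Dv.wd (nat_lit 65) [Mv.f (nat_lit 1034), Mv.f (nat_lit 1018), Mv.f (nat_lit 993), Mv.f (nat_lit 1063), Mv.f (nat_lit 1070)]))) (Tr.nd (nat_lit 1073) (Tr.lf (Fc.ed (nat_lit 1072) (nat_lit 456) Col.b (nat_lit 457) (Dv.wd (nat_lit 38) [Mv.f (nat_lit 1071), Mv.b (nat_lit 1049), Mv.f (nat_lit 1068)]))) (Tr.lf (Fc.ed (nat_lit 1073) (nat_lit 395) Col.c (nat_lit 458) Dv.df))))) (Tr.nd (nat_lit 1076) (Tr.nd (nat_lit 1075) (Tr.lf (Fc.ed (nat_lit 1074) (nat_lit 425) Col.c (nat_lit 459) Dv.df)) (Tr.lf (Fc.ed (nat_lit 1075) (nat_lit 459) Col.d (nat_lit 458) (Dv.wd (nat_lit 57) [Mv.b (nat_lit 1073), Mv.f (nat_lit 948), Mv.f (nat_lit 840), Mv.f (nat_lit 835), Mv.b (nat_lit 849), Mv.b (nat_lit 919), Mv.b (nat_lit 1002), Mv.f (nat_lit 1074)])))) (Tr.nd (nat_lit 1077) (Tr.lf (Fc.ed (nat_lit 1076) (nat_lit 453) Col.d (nat_lit 460) Dv.df)) (Tr.nd (nat_lit 1078) (Tr.lf (Fc.ed (nat_lit 1077) (nat_lit 460) Col.a (nat_lit 441) (Dv.wd (nat_lit 43) [Mv.f (nat_lit 1038), Mv.f (nat_lit 1062), Mv.f (nat_lit 1076)]))) (Tr.lf (Fc.ed (nat_lit 1078) (nat_lit 388) Col.b (nat_lit 461) Dv.df)))))))) (Tr.nd (nat_lit 1099) (Tr.nd (nat_lit 1089) (Tr.nd (nat_lit 1084) (Tr.nd (nat_lit 1081) (Tr.nd (nat_lit 1080) (Tr.lf (Fc.ed (nat_lit 1079) (nat_lit 461) Col.d (nat_lit 407) (Dv.wd (nat_lit 20) [Mv.f (nat_lit 968), Mv.b (nat_lit 935), Mv.f (nat_lit 1078)]))) (Tr.lf (Fc.ed (nat_lit 1080) (nat_lit 403) Col.f (nat_lit 462) Dv.df))) (Tr.nd (nat_lit 1082) (Tr.lf (Fc.ed (nat_lit 1081) (nat_lit 462) Col.c (nat_lit 454) (Dv.wd (nat_lit 53) [Mv.f (nat_lit 1064), Mv.f (nat_lit 961), Mv.f (nat_lit 1080)]))) (Tr.nd (nat_lit 1083) (Tr.lf (Fc.ed (nat_lit 1082) (nat_lit 404) Col.f (nat_lit 463) Dv.df)) (Tr.lf (Fc.ed (nat_lit 1083) (nat_lit 463) Col.c (nat_lit 397) (Dv.wd (nat_lit 53) [Mv.b (nat_lit 952), Mv.f (nat_lit 962), Mv.f (nat_lit 1082)])))))) (Tr.nd (nat_lit 1086) (Tr.nd (nat_lit 1085) (Tr.lf (Fc.ed (nat_lit 1084) (nat_lit 463) Col.d (nat_lit 462) (Dv.wd (nat_lit 69) [Mv.b (nat_lit 1080), Mv.b (nat_lit 963), Mv.f (nat_lit 1082)]))) (Tr.lf (Fc.ed (nat_lit 1085) (nat_lit 461) Col.e (nat_lit 464) Dv.df))) (Tr.nd (nat_lit 1087) (Tr.lf (Fc.ed (nat_lit 1086) (nat_lit 415) Col.c (nat_lit 465) Dv.df)) (Tr.nd (nat_lit 1088) (Tr.lf (Fc.ed (nat_lit 1087) (nat_lit 465) Col.b (nat_lit 458) (Dv.wd (nat_lit 59) [Mv.b (nat_lit 1073), Mv.b (nat_lit 947), Mv.b (nat_lit 942), Mv.b (nat_lit 984), Mv.f (nat_lit 1086)]))) (Tr.lf (Fc.ed (nat_lit 1088) (nat_lit 454) Col.a (nat_lit 466) Dv.df)))))) (Tr.nd (nat_lit 1094) (Tr.nd (nat_lit 1091) (Tr.nd (nat_lit 1090) (Tr.lf (Fc.ed (nat_lit 1089) (nat_lit 466) Col.f (nat_lit 423) (Dv.wd (nat_lit 29) [Mv.b (nat_lit 998), Mv.b (nat_lit 1064), Mv.f (nat_lit 1088)]))) (Tr.lf (Fc.ed (nat_lit 1090) (nat_lit 454) Col.b (nat_lit 467) Dv.df))) (Tr.nd (nat_lit 1092) (Tr.lf (Fc.ed (nat_lit 1091) (nat_lit 467) Col.d (nat_lit 456) (Dv.wd (nat_lit 20) [Mv.f (nat_lit 1072), Mv.b (nat_lit 1070), Mv.f (nat_lit 1090)]))) (Tr.nd (nat_lit 1093) (Tr.lf (Fc.ed (nat_lit 1092) (nat_lit 467) Col.f (nat_lit 410) (Dv.wd (nat_lit 34) [Mv.b (nat_lit 973), Mv.b (nat_lit 925), Mv.f (nat_lit 956), Mv.b (nat_lit 1064), Mv.f (nat_lit 1090)]))) (Tr.lf (Fc.ed (nat_lit 1093) (nat_lit 406) Col.a (nat_lit 468) Dv.df))))) (Tr.nd (nat_lit 1096) (Tr.nd (nat_lit 1095) (Tr.lf (Fc.ed (nat_lit 1094) (nat_lit 453) Col.f (nat_lit 469) Dv.df)) (Tr.lf (Fc.ed (nat_lit 1095) (nat_lit 469) Col.a (nat_lit 449) (Dv.wd (nat_lit 55) [Mv.f (nat_lit 1055), Mv.f (nat_lit 1062), Mv.f (nat_lit 1094)])))) (Tr.nd (nat_lit 1097) (Tr.lf (Fc.ed (nat_lit 1096) (nat_lit 466) Col.c (nat_lit 470) Dv.df)) (Tr.nd (nat_lit 1098) (Tr.lf (Fc.ed (nat_lit 1097) (nat_lit 470) Col.a (nat_lit 462) (Dv.wd (nat_lit 7) [Mv.f (nat_lit 1081), Mv.f (nat_lit 1088), Mv.f (nat_lit 1096)]))) (Tr.lf (Fc.ed (nat_lit 1098) (nat_lit 470) Col.f (nat_lit 429) (Dv.wd (nat_lit 25) [Mv.b (nat_lit 1010), Mv.b (nat_lit 1089), Mv.f (nat_lit 1096)])))))))) (Tr.nd (nat_lit 1109) (Tr.nd (nat_lit 1104) (Tr.nd (nat_lit 1101) (Tr.nd (nat_lit 1100) (Tr.lf (Fc.ed (nat_lit 1099) (nat_lit 468) Col.c (nat_lit 471) Dv.df)) (Tr.lf (Fc.ed (nat_lit 1100) (nat_lit 471) Col.a (nat_lit 407) (Dv.wd (nat_lit 7) [Mv.b (nat_lit 967), Mv.f (nat_lit 1093), Mv.f (nat_lit 1099)])))) (Tr.nd (nat_lit 1102) (Tr.lf (Fc.ed (nat_lit 1101) (nat_lit 402) Col.c (nat_lit 472) Dv.df)) (Tr.nd (nat_lit 1103) (Tr.lf (Fc.ed (nat_lit 1102) (nat_lit 472) Col.e (nat_lit 473) Dv.df)) (Tr.lf (Fc.ed (nat_lit 1103) (nat_lit 473) Col.c (nat_lit 414) (Dv.wd (nat_lit 58) [Mv.f (nat_lit 982), Mv.f (nat_lit 1101), Mv.f (nat_lit 1102)])))))) (Tr.nd (nat_lit 1106) (Tr.nd (nat_lit 1105) (Tr.lf (Fc.ed (nat_lit 1104) (nat_lit 415) Col.a (nat_lit 474) Dv.df)) (Tr.lf (Fc.ed (nat_lit 1105) (nat_lit 427) Col.a (nat_lit 475) Dv.df))) (Tr.nd (nat_lit 1107) (Tr.lf (Fc.ed (nat_lit 1106) (nat_lit 474) Col.f (nat_lit 476) Dv.df)) (Tr.nd (nat_lit 1108) (Tr.lf (Fc.ed (nat_lit 1107) (nat_lit 476) Col.a (nat_lit 451) (Dv.wd (nat_lit 55) [Mv.f (nat_lit 1060), Mv.f (nat_lit 1104), Mv.f (nat_lit 1106)]))) (Tr.lf (Fc.ed (nat_lit 1108) (nat_lit 411) Col.a (nat_lit 477) Dv.df)))))) (Tr.nd (nat_lit 1114) (Tr.nd (nat_lit 1111) (Tr.nd (nat_lit 1110) (Tr.lf (Fc.ed (nat_lit 1109) (nat_lit 477) Col.c (nat_lit 475) (Dv.wd (nat_lit 28) [Mv.b (nat_lit 1105), Mv.f (nat_lit 1006), Mv.f (nat_lit 1108)]))) (Tr.lf (Fc.ed (nat_lit 1110) (nat_lit 477) Col.e (nat_lit 471) (Dv.wd (nat_lit 18) [Mv.f (nat_lit 1100), Mv.f (nat_lit 975), Mv.f (nat_lit 1108)])))) (Tr.nd (nat_lit 1112) (Tr.lf (Fc.ed (nat_lit 1111) (nat_lit 475) Col.d (nat_lit 478) Dv.df)) (Tr.nd (nat_lit 1113) (Tr.lf (Fc.ed (nat_lit 1112) (nat_lit 478) Col.a (nat_lit 447) (Dv.wd (nat_lit 43) [Mv.f (nat_lit 1051), Mv.f (nat_lit 1105), Mv.f (nat_lit 1111)]))) (Tr.lf (Fc.ed (nat_lit 1113) (nat_lit 376) Col.g (nat_lit 479) Dv.df))))) (Tr.nd (nat_lit 1116) (Tr.nd (nat_lit 1115) (Tr.lf (Fc.ed (nat_lit 1114) (nat_lit 479) Col.a (nat_lit 480) Dv.df)) (Tr.lf (Fc.ed (nat_lit 1115) (nat_lit 480) Col.g (nat_lit 452) (Dv.wd (nat_lit 33) [Mv.b (nat_lit 1061), Mv.f (nat_lit 1113), Mv.f (nat_lit 1114)])))) (Tr.nd (nat_lit 1117) (Tr.lf (Fc.ed (nat_lit 1116) (nat_lit 418) Col.c (nat_lit 481) Dv.df)) (Tr.nd (nat_lit 1118) (Tr.lf (Fc.ed (nat_lit 1117) (nat_lit 438) Col.g (nat_lit 482) Dv.df)) (Tr.lf (Fc.ed (nat_lit 1118) (nat_lit 482) Col.f (nat_lit 480) (Dv.wd (nat_lit 51) [Mv.f (nat_lit 1115), Mv.b (nat_lit 1061), Mv.b (nat_lit 1032), Mv.f (nat_lit 1117)]))))))))))) (Tr.nd (nat_lit 1199) (Tr.nd (nat_lit 1159) (Tr.nd (nat_lit 1139) (Tr.nd (nat_lit 1129) (Tr.nd (nat_lit 1124) (Tr.nd (nat_lit 1121) (Tr.nd (nat_lit 1120) (Tr.lf (Fc.ed (nat_lit 1119) (nat_lit 389) Col.g (nat_lit 483) Dv.df)) (Tr.lf (Fc.ed (nat_lit 1120) (nat_lit 483) Col.c (nat_lit 479) (Dv.wd (nat_lit 13) [Mv.b (nat_lit 1113), Mv.b (nat_lit 937), Mv.f (nat_lit 1119)])))) (Tr.nd (nat_lit 1122) (Tr.lf (Fc.ed (nat_lit 1121) (nat_lit 483) Col.f (nat_lit 484) Dv.df)) (Tr.nd (nat_lit 1123) (Tr.lf (Fc.ed (nat_lit 1122) (nat_lit 484) Col.g (nat_lit 469) (Dv.wd (nat_lit 30) [Mv.f (nat_lit 1095), Mv.f (nat_lit 1055), Mv.f (nat_lit 1119), Mv.f (nat_lit 1121)]))) (Tr.lf (Fc.ed (nat_lit 1123) (nat_lit 455) Col.a (nat_lit 485) Dv.df))))) (Tr.nd (nat_lit 1126) (Tr.nd (nat_lit 1125) (Tr.lf (Fc.ed (nat_lit 1124) (nat_lit 485) Col.d (nat_lit 469) (Dv.wd (nat_lit 21) [Mv.f (nat_lit 1095), Mv.b (nat_lit 1066), Mv.f (nat_lit 1123)]))) (Tr.lf (Fc.ed (nat_lit 1125) (nat_lit 485) Col.f (nat_lit 460) (Dv.wd (nat_lit 29) [Mv.f (nat_lit 1077), Mv.b (nat_lit 1067), Mv.f (nat_lit 1123)])))) (Tr.nd (nat_lit 1127) (Tr.lf (Fc.ed (nat_lit 1126) (nat_lit 455) Col.e (nat_lit 486) Dv.df)) (Tr.nd (nat_lit 1128) (Tr.lf (Fc.ed (nat_lit 1127) (nat_lit 486) Col.f (nat_lit 445) (Dv.wd (nat_lit 50) [Mv.f (nat_lit 1046), Mv.b (nat_lit 1067), Mv.f (nat_lit 1126)]))) (Tr.lf (Fc.ed (nat_lit 1128) (nat_lit 448) Col.f (nat_lit 487) Dv.df)))))) (Tr.nd (nat_lit 1134) (Tr.nd (nat_lit 1131) (Tr.nd (nat_lit 1130) (Tr.lf (Fc.ed (nat_lit 1129) (nat_lit 487) Col.d (nat_lit 486) (Dv.wd (nat_lit 69) [Mv.f (nat_lit 1127), Mv.b (nat_lit 1053), Mv.f (nat_lit 1128)]))) (Tr.lf (Fc.ed (nat_lit 1130) (nat_lit 487) Col.e (nat_lit 451) (Dv.wd (nat_lit 42) [Mv.f (nat_lit 1060), Mv.f (nat_lit 1052), Mv.f (nat_lit 1128)])))) (Tr.nd (nat_lit 1132) (Tr.lf (Fc.ed (nat_lit 1131) (nat_lit 481) Col.a (nat_lit 488) Dv.df)) (Tr.nd (nat_lit 1133) (Tr.lf (Fc.ed (nat_lit 1132) (nat_lit 488) Col.c (nat_lit 373) (Dv.wd (nat_lit 28) [Mv.f (nat_lit 989), Mv.f (nat_lit 1116), Mv.f (nat_lit 1131)]))) (Tr.lf (Fc.ed (nat_lit 1133) (nat_lit 477) Col.d (nat_lit 489) Dv.df))))) (Tr.nd (nat_lit 1136) (Tr.nd (nat_lit 1135) (Tr.lf (Fc.ed (nat_lit 1134) (nat_lit 479) Col.f (nat_lit 490) Dv.df)) (Tr.lf (Fc.ed (nat_lit 1135) (nat_lit 490) Col.a (nat_lit 482) (Dv.wd (nat_lit 55) [Mv.f (nat_lit 1118), Mv.b (nat_lit 1114), Mv.f (nat_lit 1134)])))) (Tr.nd (nat_lit 1137) (Tr.lf (Fc.ed (nat_lit 1136) (nat_lit 490) Col.c (nat_lit 484) (Dv.wd (nat_lit 53) [Mv.b (nat_lit 1121), Mv.f (nat_lit 1120), Mv.f (nat_lit 1134)]))) (Tr.nd (nat_lit 1138) (Tr.lf (Fc.ed (nat_lit 1137) (nat_lit 485) Col.g (nat_lit 491) Dv.df)) (Tr.lf (Fc.ed (nat_lit 1138) (nat_lit 491) Col.d (nat_lit 484) (Dv.wd (nat_lit 14) [Mv.f (nat_lit 1122), Mv.b (nat_lit 1124), Mv.f (nat_lit 1137)])))))))) (Tr.nd (nat_lit 1149) (Tr.nd (nat_lit 1144) (Tr.nd (nat_lit 1141) (Tr.nd (nat_lit 1140) (Tr.lf (Fc.ed (nat_lit 1139) (nat_lit 482) Col.d (nat_lit 492) Dv.df)) (Tr.lf (Fc.ed (nat_lit 1140) (nat_lit 492) Col.g (nat_lit 446) (Dv.wd (nat_lit 12) [Mv.f (nat_lit 1048), Mv.f (nat_lit 1117), Mv.f (nat_lit 1139)])))) (Tr.nd (nat_lit 1142) (Tr.lf (Fc.ed (nat_lit 1141) (nat_lit 474) Col.c (nat_lit 493) Dv.df)) (Tr.nd (nat_lit 1143) (Tr.lf (Fc.ed (nat_lit 1142) (nat_lit 493) Col.a (nat_lit 465) (Dv.wd (nat_lit 7) [Mv.b (nat_lit 1086), Mv.f (nat_lit 1104), Mv.f (nat_lit 1141)]))) (Tr.lf (Fc.ed (nat_lit 1143) (nat_lit 460) Col.e (nat_lit 494) Dv.df))))) (Tr.nd (nat_lit 1146) (Tr.nd (nat_lit 1145) (Tr.lf (Fc.ed (nat_lit 1144) (nat_lit 494) Col.a (nat_lit 445) (Dv.wd (nat_lit 45) [Mv.f (nat_lit 1046), Mv.b (nat_lit 1077), Mv.f (nat_lit 1143)]))) (Tr.lf (Fc.ed (nat_lit 1145) (nat_lit 494) Col.f (nat_lit 495) Dv.df))) (Tr.nd (nat_lit 1147) (Tr.lf (Fc.ed (nat_lit 1146) (nat_lit 495) Col.a (nat_lit 486) (Dv.wd (nat_lit 55) [Mv.f (nat_lit 1127), Mv.b (nat_lit 1144), Mv.f (nat_lit 1145)]))) (Tr.nd (nat_lit 1148) (Tr.lf (Fc.ed (nat_lit 1147) (nat_lit 471) Col.d (nat_lit 496) Dv.df)) (Tr.lf (Fc.ed (nat_lit 1148) (nat_lit 496) Col.a (nat_lit 461) (Dv.wd (nat_lit 43) [Mv.f (nat_lit 1079), Mv.b (nat_lit 1100), Mv.f (nat_lit 1147)]))))))) (Tr.nd (nat_lit 1154) (Tr.nd (nat_lit 1151) (Tr.nd (nat_lit 1150) (Tr.lf (Fc.ed (nat_lit 1149) (nat_lit 445) Col.g (nat_lit 497) Dv.df)) (Tr.lf (Fc.ed (nat_lit 1150) (nat_lit 492) Col.a (nat_lit 498) Dv.df))) (Tr.nd (nat_lit 1152) (Tr.lf (Fc.ed (nat_lit 1151) (nat_lit 498) Col.d (nat_lit 490) (Dv.wd (nat_lit 21) [Mv.f (nat_lit 1135), Mv.f (nat_lit 1139), Mv.f (nat_lit 1150)]))) (Tr.nd (nat_lit 1153) (Tr.lf (Fc.ed (nat_lit 1152) (nat_lit 497) Col.a (nat_lit 499) Dv.df)) (Tr.lf (Fc.ed (nat_lit 1153) (nat_lit 499) Col.g (nat_lit 494) (Dv.wd (nat_lit 33) [Mv.f (nat_lit 1144), Mv.f (nat_lit 1149), Mv.f (nat_lit 1152)])))))) (Tr.nd (nat_lit 1156) (Tr.nd (nat_lit 1155) (Tr.lf (Fc.ed (nat_lit 1154) (nat_lit 488) Col.e (nat_lit 500) Dv.df)) (Tr.lf (Fc.ed (nat_lit 1155) (nat_lit 500) Col.c (nat_lit 377) (Dv.wd (nat_lit 58) [Mv.f (nat_lit 917), Mv.b (nat_lit 1132), Mv.f (nat_lit 1154)])))) (Tr.nd (nat_lit 1157) (Tr.lf (Fc.ed (nat_lit 1156) (nat_lit 447) Col.c (nat_lit 501) Dv.df)) (Tr.nd (nat_lit 1158) (Tr.lf (Fc.ed (nat_lit 1157) (nat_lit 487) Col.a (nat_lit 502) Dv.df)) (Tr.lf (Fc.ed (nat_lit 1158) (nat_lit 502) Col.d (nat_lit 495) (Dv.wd (nat_lit 21) [Mv.f (nat_lit 1146), Mv.b (nat_lit 1129), Mv.f (nat_lit 1157)]))))))))) (Tr.nd (nat_lit 1179) (Tr.nd (nat_lit 1169) (Tr.nd (nat_lit 1164) (Tr.nd (nat_lit 1161) (Tr.nd (nat_lit 1160) (Tr.lf (Fc.ed (nat_lit 1159) (nat_lit 502) Col.e (nat_lit 476) (Dv.wd (nat_lit 18) [Mv.f (nat_lit 1107), Mv.b (nat_lit 1130), Mv.f (nat_lit 1157)]))) (Tr.lf (Fc.ed (nat_lit 1160) (nat_lit 497) Col.f (nat_lit 503) Dv.df))) (Tr.nd (nat_lit 1162) (Tr.lf (Fc.ed (nat_lit 1161) (nat_lit 503) Col.g (nat_lit 495) (Dv.wd (nat_lit 46) [Mv.b (nat_lit 1145), Mv.b (nat_lit 1153), Mv.b (nat_lit 1152), Mv.f (nat_lit 1160)]))) (Tr.nd (nat_lit 1163) (Tr.lf (Fc.ed (nat_lit 1162) (nat_lit 476) Col.c (nat_lit 504) Dv.df)) (Tr.lf (Fc.ed (nat_lit 1163) (nat_lit 504) Col.f (nat_lit 493) (Dv.wd (nat_lit 25) [Mv.b (nat_lit 1141), Mv.f (nat_lit 1106), Mv.f (nat_lit 1162)])))))) (Tr.nd (nat_lit 1166) (Tr.nd (nat_lit 1165) (Tr.lf (Fc.ed (nat_lit 1164) (nat_lit 500) Col.b (nat_lit 505) Dv.df)) (Tr.lf (Fc.ed (nat_lit 1165) (nat_lit 505) Col.c (nat_lit 417) (Dv.wd (nat_lit 64) [Mv.b (nat_lit 987), Mv.f (nat_lit 933), Mv.f (nat_lit 916), Mv.b (nat_lit 1155), Mv.f (nat_lit 1164)])))) (Tr.nd (nat_lit 1167) (Tr.lf (Fc.ed (nat_lit 1166) (nat_lit 502) Col.g (nat_lit 506) Dv.df)) (Tr.nd (nat_lit 1168) (Tr.lf (Fc.ed (nat_lit 1167) (nat_lit 506) Col.d (nat_lit 503) (Dv.wd (nat_lit 14) [Mv.f (nat_lit 1161), Mv.b (nat_lit 1158), Mv.f (nat_lit 1166)]))) (Tr.lf (Fc.ed (nat_lit 1168) (nat_lit 462) Col.b (nat_lit 507) Dv.df)))))) (Tr.nd (nat_lit 1174) (Tr.nd (nat_lit 1171) (Tr.nd (nat_lit 1170) (Tr.lf (Fc.ed (nat_lit 1169) (nat_lit 496) Col.c (nat_lit 508) Dv.df)) (Tr.lf (Fc.ed (nat_lit 1170) (nat_lit 496) Col.e (nat_lit 509) Dv.df))) (Tr.nd (nat_lit 1172) (Tr.lf (Fc.ed (nat_lit 1171) (nat_lit 509) Col.a (nat_lit 464) (Dv.wd (nat_lit 45) [Mv.b (nat_lit 1085), Mv.b (nat_lit 1148), Mv.f (nat_lit 1170)]))) (Tr.nd (nat_lit 1173) (Tr.lf (Fc.ed (nat_lit 1172) (nat_lit 405) Col.c (nat_lit 510) Dv.df)) (Tr.lf (Fc.ed (nat_lit 1173) (nat_lit 510) Col.b (nat_lit 510) (Dv.wd (nat_lit 59) [Mv.b (nat_lit 1172), Mv.b (nat_lit 964), Mv.f (nat_lit 869), Mv.f (nat_lit 964), Mv.f (nat_lit 1172)])))))) (Tr.nd (nat_lit 1176) (Tr.nd (nat_lit 1175) (Tr.lf (Fc.ed (nat_lit 1174) (nat_lit 505) Col.f (nat_lit 511) Dv.df)) (Tr.lf (Fc.ed (nat_lit 1175) (nat_lit 511) Col.c (nat_lit 456) (Dv.wd (nat_lit 53) [Mv.f (nat_lit 1069), Mv.b (nat_lit 1165), Mv.f (nat_lit 1174)])))) (Tr.nd (nat_lit 1177) (Tr.lf (Fc.ed (nat_lit 1176) (nat_lit 463) Col.b (nat_lit 512) Dv.df)) (Tr.nd (nat_lit 1178) (Tr.lf (Fc.ed (nat_lit 1177) (nat_lit 512) Col.d (nat_lit 507) (Dv.wd (nat_lit 20) [Mv.b (nat_lit 1168), Mv.b (nat_lit 1084), Mv.f (nat_lit 1176)]))) (Tr.lf (Fc.ed (nat_lit 1178) (nat_lit 510) Col.e (nat_lit 513) Dv.df))))))) (Tr.nd (nat_lit 1189) (Tr.nd (nat_lit 1184) (Tr.nd (nat_lit 1181) (Tr.nd (nat_lit 1180) (Tr.lf (Fc.ed (nat_lit 1179) (nat_lit 513) Col.b (nat_lit 513) (Dv.wd (nat_lit 56) [Mv.b (nat_lit 1178), Mv.f (nat_lit 1173), Mv.f (nat_lit 1178)]))) (Tr.lf (Fc.ed (nat_lit 1180) (nat_lit 513) Col.c (nat_lit 410) (Dv.wd (nat_lit 58) [Mv.f (nat_lit 974), Mv.f (nat_lit 1172), Mv.f (nat_lit 1178)])))) (Tr.nd (nat_lit 1182) (Tr.lf (Fc.ed (nat_lit 1181) (nat_lit 446) Col.c (nat_lit 514) Dv.df)) (Tr.nd (nat_lit 1183) (Tr.lf (Fc.ed (nat_lit 1182) (nat_lit 514) Col.e (nat_lit 511) (Dv.wd (nat_lit 17) [Mv.f (nat_lit 1175), Mv.b (nat_lit 1068), Mv.f (nat_lit 1181)]))) (Tr.lf (Fc.ed (nat_lit 1183) (nat_lit 472) Col.d (nat_lit 515) Dv.df))))) (Tr.nd (nat_lit 1186) (Tr.nd (nat_lit 1185) (Tr.lf (Fc.ed (nat_lit 1184) (nat_lit 467) Col.c (nat_lit 516) Dv.df)) (Tr.lf (Fc.ed (nat_lit 1185) (nat_lit 516) Col.f (nat_lit 513) (Dv.wd (nat_lit 25) [Mv.f (nat_lit 1180), Mv.b (nat_lit 1092), Mv.f (nat_lit 1184)])))) (Tr.nd (nat_lit 1187) (Tr.lf (Fc.ed (nat_lit 1186) (nat_lit 443) Col.c (nat_lit 517) Dv.df)) (Tr.nd (nat_lit 1188) (Tr.lf (Fc.ed (nat_lit 1187) (nat_lit 508) Col.a (nat_lit 518) Dv.df)) (Tr.lf (Fc.ed (nat_lit 1188) (nat_lit 518) Col.c (nat_lit 461) (Dv.wd (nat_lit 28) [Mv.b (nat_lit 1148), Mv.f (nat_lit 1169), Mv.f (nat_lit 1187)]))))))) (Tr.nd (nat_lit 1194) (Tr.nd (nat_lit 1191) (Tr.nd (nat_lit 1190) (Tr.lf (Fc.ed (nat_lit 1189) (nat_lit 510) Col.f (nat_lit 519) Dv.df)) (Tr.lf (Fc.ed (nat_lit 1190) (nat_lit 519) Col.c (nat_lit 408) (Dv.wd (nat_lit 53) [Mv.f (nat_lit 970), Mv.f (nat_lit 1172), Mv.f (nat_lit 1189)])))) (Tr.nd (nat_lit 1192) (Tr.lf (Fc.ed (nat_lit 1191) (nat_lit 518) Col.e (nat_lit 520) Dv.df)) (Tr.nd (nat_lit 1193) (Tr.lf (Fc.ed (nat_lit 1192) (nat_lit 520) Col.c (nat_lit 464) (Dv.wd (nat_lit 58) [Mv.b (nat_lit 1085), Mv.b (nat_lit 1188), Mv.f (nat_lit 1191)]))) (Tr.lf (Fc.ed (nat_lit 1193) (nat_lit 509) Col.d (nat_lit 521) Dv.df))))) (Tr.nd (nat_lit 1196) (Tr.nd (nat_lit 1195) (Tr.lf (Fc.ed (nat_lit 1194) (nat_lit 521) Col.e (nat_lit 489) (Dv.wd (nat_lit 65) [Mv.b (nat_lit 1133), Mv.f (nat_lit 1110), Mv.f (nat_lit 1147), Mv.f (nat_lit 1170), Mv.f (nat_lit 1193)]))) (Tr.lf (Fc.ed (nat_lit 1195) (nat_lit 508) Col.d (nat_lit 522) Dv.df))) (Tr.nd (nat_lit 1197) (Tr.lf (Fc.ed (nat_lit 1196) (nat_lit 522) Col.c (nat_lit 515) (Dv.wd (nat_lit 60) [Mv.b (nat_lit 1183), Mv.b (nat_lit 1101), Mv.f (nat_lit 965), Mv.f (nat_lit 967), Mv.b (nat_lit 1079), Mv.b (nat_lit 1148), Mv.f (nat_lit 1169), Mv.f (nat_lit 1195)]))) (Tr.nd (nat_lit 1198) (Tr.lf (Fc.ed (nat_lit 1197) (nat_lit 519) Col.b (nat_lit 523) Dv.df)) (Tr.lf (Fc.ed (nat_lit 1198) (nat_lit 523) Col.c (nat_lit 512) (Dv.wd (nat_lit 64) [Mv.b (nat_lit 1176), Mv.f (nat_lit 1083), Mv.f (nat_lit 969), Mv.b (nat_lit 1190), Mv.f (nat_lit 1197)])))))))))) (Tr.nd (nat_lit 1239) (Tr.nd (nat_lit 1219) (Tr.nd (nat_lit 1209) (Tr.nd (nat_lit 1204) (Tr.nd (nat_lit 1201) (Tr.nd (nat_lit 1200) (Tr.lf (Fc.ed (nat_lit 1199) (nat_lit 516) Col.b (nat_lit 524) Dv.df)) (Tr.lf (Fc.ed (nat_lit 1200) (nat_lit 524) Col.c (nat_lit 507) (Dv.wd (nat_lit 64) [Mv.b (nat_lit 1168), Mv.f (nat_lit 1081), Mv.f (nat_lit 1090), Mv.f (nat_lit 1184), Mv.f (nat_lit 1199)])))) (Tr.nd (nat_lit 1202) (Tr.lf (Fc.ed (nat_lit 1201) (nat_lit 524) Col.f (nat_lit 524) (Dv.wd (nat_lit 34) [Mv.b (nat_lit 1199), Mv.f (nat_lit 1185), Mv.f (nat_lit 1179), Mv.b (nat_lit 1185), Mv.f (nat_lit 1199)]))) (Tr.nd (nat_lit 1203) (Tr.lf (Fc.ed (nat_lit 1202) (nat_lit 441) Col.c (nat_lit 525) Dv.df)) (Tr.lf (Fc.ed (nat_lit 1203) (nat_lit 525) Col.b (nat_lit 518) (Dv.wd (nat_lit 59) [Mv.f (nat_lit 1188), Mv.b (nat_lit 1078), Mv.b (nat_lit 934), Mv.f (nat_lit 1037), Mv.f (nat_lit 1202)])))))) (Tr.nd (nat_lit 1206) (Tr.nd (nat_lit 1205) (Tr.lf (Fc.ed (nat_lit 1204) (nat_lit 525) Col.e (nat_lit 526) Dv.df)) (Tr.lf (Fc.ed (nat_lit 1205) (nat_lit 526) Col.b (nat_lit 520) (Dv.wd (nat_lit 56) [Mv.b (nat_lit 1191), Mv.b (nat_lit 1203), Mv.f (nat_lit 1204)])))) (Tr.nd (nat_lit 1207) (Tr.lf (Fc.ed (nat_lit 1206) (nat_lit 455) Col.c (nat_lit 527) Dv.df)) (Tr.nd (nat_lit 1208) (Tr.lf (Fc.ed (nat_lit 1207) (nat_lit 527) Col.f (nat_lit 525) (Dv.wd (nat_lit 25) [Mv.b (nat_lit 1202), Mv.b (nat_lit 1067), Mv.f (nat_lit 1206)]))) (Tr.lf (Fc.ed (nat_lit 1208) (nat_lit 525) Col.a (nat_lit 528) Dv.df)))))) (Tr.nd (nat_lit 1214) (Tr.nd (nat_lit 1211) (Tr.nd (nat_lit 1210) (Tr.lf (Fc.ed (nat_lit 1209) (nat_lit 528) Col.c (nat_lit 460) (Dv.wd (nat_lit 28) [Mv.f (nat_lit 1077), Mv.f (nat_lit 1202), Mv.f (nat_lit 1208)]))) (Tr.lf (Fc.ed (nat_lit 1210) (nat_lit 492) Col.c (nat_lit 529) Dv.df))) (Tr.nd (nat_lit 1212) (Tr.lf (Fc.ed (nat_lit 1211) (nat_lit 529) Col.g (nat_lit 514) (Dv.wd (nat_lit 11) [Mv.b (nat_lit 1181), Mv.b (nat_lit 1140), Mv.f (nat_lit 1210)]))) (Tr.nd (nat_lit 1213) (Tr.lf (Fc.ed (nat_lit 1212) (nat_lit 518) Col.d (nat_lit 530) Dv.df)) (Tr.lf (Fc.ed (nat_lit 1213) (nat_lit 530) Col.a (nat_lit 522) (Dv.wd (nat_lit 43) [Mv.b (nat_lit 1195), Mv.f (nat_lit 1187), Mv.f (nat_lit 1212)])))))) (Tr.nd (nat_lit 1216) (Tr.nd (nat_lit 1215) (Tr.lf (Fc.ed (nat_lit 1214) (nat_lit 485) Col.c (nat_lit 531) Dv.df)) (Tr.lf (Fc.ed (nat_lit 1215) (nat_lit 531) Col.f (nat_lit 528) (Dv.wd (nat_lit 25) [Mv.f (nat_lit 1209), Mv.b (nat_lit 1125), Mv.f (nat_lit 1214)])))) (Tr.nd (nat_lit 1217) (Tr.lf (Fc.ed (nat_lit 1216) (nat_lit 465) Col.d (nat_lit 532) Dv.df)) (Tr.nd (nat_lit 1218) (Tr.lf (Fc.ed (nat_lit 1217) (nat_lit 532) Col.b (nat_lit 459) (Dv.wd (nat_lit 44) [Mv.f (nat_lit 1075), Mv.b (nat_lit 1087), Mv.f (nat_lit 1216)]))) (Tr.lf (Fc.ed (nat_lit 1218) (nat_lit 493) Col.d (nat_lit 533) Dv.df))))))) (Tr.nd (nat_lit 1229) (Tr.nd (nat_lit 1224) (Tr.nd (nat_lit 1221) (Tr.nd (nat_lit 1220) (Tr.lf (Fc.ed (nat_lit 1219) (nat_lit 533) Col.a (nat_lit 532) (Dv.wd (nat_lit 43) [Mv.b (nat_lit 1216), Mv.b (nat_lit 1142), Mv.f (nat_lit 1218)]))) (Tr.lf (Fc.ed (nat_lit 1220) (nat_lit 489) Col.c (nat_lit 534) Dv.df))) (Tr.nd (nat_lit 1222) (Tr.lf (Fc.ed (nat_lit 1221) (nat_lit 509) Col.c (nat_lit 535) Dv.df)) (Tr.nd (nat_lit 1223) (Tr.lf (Fc.ed (nat_lit 1222) (nat_lit 535) Col.a (nat_lit 520) (Dv.wd (nat_lit 7) [Mv.f (nat_lit 1192), Mv.b (nat_lit 1171), Mv.f (nat_lit 1221)]))) (Tr.lf (Fc.ed (nat_lit 1223) (nat_lit 531) Col.g (nat_lit 536) Dv.df))))) (Tr.nd (nat_lit 1226) (Tr.nd (nat_lit 1225) (Tr.lf (Fc.ed (nat_lit 1224) (nat_lit 536) Col.c (nat_lit 491) (Dv.wd (nat_lit 13) [Mv.b (nat_lit 1137), Mv.f (nat_lit 1214), Mv.f (nat_lit 1223)]))) (Tr.lf (Fc.ed (nat_lit 1225) (nat_lit 527) Col.e (nat_lit 537) Dv.df))) (Tr.nd (nat_lit 1227) (Tr.lf (Fc.ed (nat_lit 1226) (nat_lit 537) Col.c (nat_lit 486) (Dv.wd (nat_lit 58) [Mv.b (nat_lit 1126), Mv.f (nat_lit 1206), Mv.f (nat_lit 1225)]))) (Tr.nd (nat_lit 1228) (Tr.lf (Fc.ed (nat_lit 1227) (nat_lit 537) Col.f (nat_lit 526) (Dv.wd (nat_lit 50) [Mv.b (nat_lit 1204), Mv.b (nat_lit 1207), Mv.f (nat_lit 1225)]))) (Tr.lf (Fc.ed (nat_lit 1228) (nat_lit 534) Col.d (nat_lit 538) Dv.df)))))) (Tr.nd (nat_lit 1234) (Tr.nd (nat_lit 1231) (Tr.nd (nat_lit 1230) (Tr.lf (Fc.ed (nat_lit 1229) (nat_lit 526) Col.a (nat_lit 539) Dv.df)) (Tr.lf (Fc.ed (nat_lit 1230) (nat_lit 537) Col.a (nat_lit 540) Dv.df))) (Tr.nd (nat_lit 1232) (Tr.lf (Fc.ed (nat_lit 1231) (nat_lit 540) Col.c (nat_lit 495) (Dv.wd (nat_lit 28) [Mv.f (nat_lit 1146), Mv.b (nat_lit 1226), Mv.f (nat_lit 1230)]))) (Tr.nd (nat_lit 1233) (Tr.lf (Fc.ed (nat_lit 1232) (nat_lit 540) Col.f (nat_lit 539) (Dv.wd (nat_lit 29) [Mv.b (nat_lit 1229), Mv.b (nat_lit 1227), Mv.f (nat_lit 1230)]))) (Tr.lf (Fc.ed (nat_lit 1233) (nat_lit 503) Col.c (nat_lit 541) Dv.df))))) (Tr.nd (nat_lit 1236) (Tr.nd (nat_lit 1235) (Tr.lf (Fc.ed (nat_lit 1234) (nat_lit 541) Col.g (nat_lit 540) (Dv.wd (nat_lit 11) [Mv.f (nat_lit 1231), Mv.b (nat_lit 1161), Mv.f (nat_lit 1233)]))) (Tr.lf (Fc.ed (nat_lit 1235) (nat_lit 536) Col.d (nat_lit 542) Dv.df))) (Tr.nd (nat_lit 1237) (Tr.lf (Fc.ed (nat_lit 1236) (nat_lit 501) Col.d (nat_lit 543) Dv.df)) (Tr.nd (nat_lit 1238) (Tr.lf (Fc.ed (nat_lit 1237) (nat_lit 543) Col.c (nat_lit 538) (Dv.wd (nat_lit 60) [Mv.b (nat_lit 1228), Mv.b (nat_lit 1220), Mv.b (nat_lit 1133), Mv.f (nat_lit 1109), Mv.f (nat_lit 1111), Mv.f (nat_lit 1112), Mv.f (nat_lit 1156), Mv.f (nat_lit 1236)]))) (Tr.lf (Fc.ed (nat_lit 1238) (nat_lit 529) Col.d (nat_lit 544) Dv.df)))))))) (Tr.nd (nat_lit 1259) (Tr.nd (nat_lit 1249) (Tr.nd (nat_lit 1244) (Tr.nd (nat_lit 1241) (Tr.nd (nat_lit 1240) (Tr.lf (Fc.ed (nat_lit 1239) (nat_lit 544) Col.c (nat_lit 542) (Dv.wd (nat_lit 60) [Mv.b (nat_lit 1235), Mv.f (nat_lit 1224), Mv.f (nat_lit 1138), Mv.b (nat_lit 1136), Mv.b (nat_lit 1151), Mv.b (nat_lit 1150), Mv.f (nat_lit 1210), Mv.f (nat_lit 1238)]))) (Tr.lf (Fc.ed (nat_lit 1240) (nat_lit 504) Col.d (nat_lit 545) Dv.df))) (Tr.nd (nat_lit 1242) (Tr.lf (Fc.ed (nat_lit 1241) (nat_lit 545) Col.f (nat_lit 533) (Dv.wd (nat_lit 39) [Mv.b (nat_lit 1218), Mv.b (nat_lit 1163), Mv.f (nat_lit 1240)]))) (Tr.nd (nat_lit 1243) (Tr.lf (Fc.ed (nat_lit 1242) (nat_lit 545) Col.c (nat_lit 546) Dv.df)) (Tr.lf (Fc.ed (nat_lit 1243) (nat_lit 546) Col.d (nat_lit 519) (Dv.wd (nat_lit 63) [Mv.f (nat_lit 1190), Mv.b (nat_lit 1012), Mv.b (nat_lit 1057), Mv.f (nat_lit 1059), Mv.b (nat_lit 1107), Mv.f (nat_lit 1162), Mv.f (nat_lit 1240), Mv.f (nat_lit 1242)])))))) (Tr.nd (nat_lit 1246) (Tr.nd (nat_lit 1245) (Tr.lf (Fc.ed (nat_lit 1244) (nat_lit 524) Col.a (nat_lit 547) Dv.df)) (Tr.lf (Fc.ed (nat_lit 1245) (nat_lit 547) Col.b (nat_lit 546) (Dv.wd (nat_lit 72) [Mv.b (nat_lit 1242), Mv.f (nat_lit 1241), Mv.f (nat_lit 1219), Mv.f (nat_lit 1217), Mv.b (nat_lit 1074), Mv.b (nat_lit 1009), Mv.f (nat_lit 1008), Mv.f (nat_lit 959), Mv.b (nat_lit 1041), Mv.f (nat_lit 1040), Mv.b (nat_lit 1028), Mv.b (nat_lit 1030), Mv.f (nat_lit 1010), Mv.b (nat_lit 1098), Mv.f (nat_lit 1097), Mv.f (nat_lit 1168), Mv.b (nat_lit 1200), Mv.f (nat_lit 1201), Mv.f (nat_lit 1244)])))) (Tr.nd (nat_lit 1247) (Tr.lf (Fc.ed (nat_lit 1246) (nat_lit 523) Col.d (nat_lit 547) (Dv.wd (nat_lit 71) [Mv.f (nat_lit 1245), Mv.f (nat_lit 1243), Mv.f (nat_lit 1197)]))) (Tr.nd (nat_lit 1248) (Tr.lf (Fc.al (nat_lit 1247) (nat_lit 547) (nat_lit 524) (Dv.wd (nat_lit 85) [Mv.f (nat_lit 1200), Mv.b (nat_lit 1177), Mv.b (nat_lit 1198), Mv.f (nat_lit 1246), Mv.b (nat_lit 1244), Mv.f (nat_lit 1200), Mv.b (nat_lit 1177), Mv.b (nat_lit 1198), Mv.f (nat_lit 1246)]))) (Tr.lf (Fc.al (nat_lit 1248) (nat_lit 516) (nat_lit 546) (Dv.wd (nat_lit 86) [Mv.b (nat_lit 1245), Mv.f (nat_lit 1247), Mv.b (nat_lit 1199)]))))))) (Tr.nd (nat_lit 1254) (Tr.nd (nat_lit 1251) (Tr.nd (nat_lit 1250) (Tr.lf (Fc.al (nat_lit 1249) (nat_lit 467) (nat_lit 545) (Dv.wd (nat_lit 87) [Mv.f (nat_lit 1242), Mv.b (nat_lit 1248), Mv.b (nat_lit 1184)]))) (Tr.lf (Fc.al (nat_lit 1250) (nat_lit 456) (nat_lit 504) (Dv.wd (nat_lit 88) [Mv.f (nat_lit 1240), Mv.b (nat_lit 1249), Mv.f (nat_lit 1091)])))) (Tr.nd (nat_lit 1252) (Tr.lf (Fc.al (nat_lit 1251) (nat_lit 511) (nat_lit 476) (Dv.wd (nat_lit 87) [Mv.f (nat_lit 1162), Mv.b (nat_lit 1250), Mv.b (nat_lit 1175)]))) (Tr.nd (nat_lit 1253) (Tr.lf (Fc.al (nat_lit 1252) (nat_lit 502) (nat_lit 514) (Dv.wd (nat_lit 89) [Mv.f (nat_lit 1182), Mv.f (nat_lit 1251), Mv.b (nat_lit 1159)]))) (Tr.lf (Fc.al (nat_lit 1253) (nat_lit 506) (nat_lit 529) (Dv.wd (nat_lit 90) [Mv.f (nat_lit 1211), Mv.b (nat_lit 1252), Mv.f (nat_lit 1166)])))))) (Tr.nd (nat_lit 1256) (Tr.nd (nat_lit 1255) (Tr.lf (Fc.al (nat_lit 1254) (nat_lit 503) (nat_lit 544) (Dv.wd (nat_lit 88) [Mv.b (nat_lit 1238), Mv.b (nat_lit 1253), Mv.f (nat_lit 1167)]))) (Tr.lf (Fc.al (nat_lit 1255) (nat_lit 541) (nat_lit 542) (Dv.wd (nat_lit 87) [Mv.b (nat_lit 1239), Mv.b (nat_lit 1254), Mv.f (nat_lit 1233)])))) (Tr.nd (nat_lit 1257) (Tr.lf (Fc.ed (nat_lit 1256) (nat_lit 541) Col.d (nat_lit 536) (Dv.wd (nat_lit 88) [Mv.f (nat_lit 1235), Mv.b (nat_lit 1255)]))) (Tr.nd (nat_lit 1258) (Tr.lf (Fc.ed (nat_lit 1257) (nat_lit 531) Col.d (nat_lit 540) (Dv.wd (nat_lit 36) [Mv.b (nat_lit 1234), Mv.f (nat_lit 1256), Mv.b (nat_lit 1223)]))) (Tr.lf (Fc.ed (nat_lit 1258) (nat_lit 539) Col.d (nat_lit 528) (Dv.wd (nat_lit 31) [Mv.b (nat_lit 1215), Mv.f (nat_lit 1257), Mv.f (nat_lit 1232)])))))))) (Tr.nd (nat_lit 1269) (Tr.nd (nat_lit 1264) (Tr.nd (nat_lit 1261) (Tr.nd (nat_lit 1260) (Tr.lf (Fc.ed (nat_lit 1259) (nat_lit 525) Col.d (nat_lit 526) (Dv.wd (nat_lit 21) [Mv.f (nat_lit 1229), Mv.f (nat_lit 1258), Mv.b (nat_lit 1208)]))) (Tr.lf (Fc.al (nat_lit 1260) (nat_lit 520) (nat_lit 530) (Dv.wd (nat_lit 20) [Mv.b (nat_lit 1212), Mv.b (nat_lit 1203), Mv.f (nat_lit 1259), Mv.f (nat_lit 1205)])))) (Tr.nd (nat_lit 1262) (Tr.lf (Fc.al (nat_lit 1261) (nat_lit 535) (nat_lit 522) (Dv.wd (nat_lit 91) [Mv.b (nat_lit 1213), Mv.b (nat_lit 1260), Mv.b (nat_lit 1222)]))) (Tr.nd (nat_lit 1263) (Tr.lf (Fc.al (nat_lit 1262) (nat_lit 515) (nat_lit 509) (Dv.wd (nat_lit 87) [Mv.f (nat_lit 1221), Mv.f (nat_lit 1261), Mv.f (nat_lit 1196)]))) (Tr.lf (Fc.al (nat_lit 1263) (nat_lit 521) (nat_lit 472) (Dv.wd (nat_lit 88) [Mv.f (nat_lit 1183), Mv.f (nat_lit 1262), Mv.f (nat_lit 1193)])))))) (Tr.nd (nat_lit 1266) (Tr.nd (nat_lit 1265) (Tr.lf (Fc.al (nat_lit 1264) (nat_lit 473) (nat_lit 489) (Dv.wd (nat_lit 89) [Mv.b (nat_lit 1194), Mv.f (nat_lit 1263), Mv.f (nat_lit 1102)]))) (Tr.lf (Fc.al (nat_lit 1265) (nat_lit 414) (nat_lit 534) (Dv.wd (nat_lit 87) [Mv.b (nat_lit 1220), Mv.b (nat_lit 1264), Mv.f (nat_lit 1103)])))) (Tr.nd (nat_lit 1267) (Tr.lf (Fc.al (nat_lit 1266) (nat_lit 443) (nat_lit 538) (Dv.wd (nat_lit 88) [Mv.b (nat_lit 1228), Mv.b (nat_lit 1265), Mv.b (nat_lit 1043)]))) (Tr.nd (nat_lit 1268) (Tr.lf (Fc.al (nat_lit 1267) (nat_lit 517) (nat_lit 543) (Dv.wd (nat_lit 87) [Mv.f (nat_lit 1237), Mv.b (nat_lit 1266), Mv.f (nat_lit 1186)]))) (Tr.lf (Fc.ed (nat_lit 1268) (nat_lit 517) Col.d (nat_lit 501) (Dv.wd (nat_lit 88) [Mv.f (nat_lit 1236), Mv.b (nat_lit 1267)]))))))) (Tr.nd (nat_lit 1274) (Tr.nd (nat_lit 1271) (Tr.nd (nat_lit 1270) (Tr.lf (Fc.al (nat_lit 1269) (nat_lit 444) (nat_lit 342) (Dv.wd (nat_lit 92) [Mv.f (nat_lit 849), Mv.b (nat_lit 835), Mv.b (nat_lit 840), Mv.b (nat_lit 948), Mv.b (nat_lit 947), Mv.b (nat_lit 942), Mv.b (nat_lit 940), Mv.f (nat_lit 890), Mv.f (nat_lit 746), Mv.b (nat_lit 648), Mv.b (nat_lit 649), Mv.b (nat_lit 662), Mv.f (nat_lit 808), Mv.f (nat_lit 870), Mv.b (nat_lit 912), Mv.f (nat_lit 1042), Mv.f (nat_lit 1186), Mv.f (nat_lit 1268), Mv.b (nat_lit 1156), Mv.f (nat_lit 1051), Mv.b (nat_lit 1004), Mv.b (nat_lit 808), Mv.f (nat_lit 662), Mv.f (nat_lit 649), Mv.f (nat_lit 712), Mv.f (nat_lit 745), Mv.b (nat_lit 890), Mv.f (nat_lit 940), Mv.f (nat_lit 942), Mv.b (nat_lit 939), Mv.f (nat_lit 839), Mv.f (nat_lit 840), Mv.f (nat_lit 835), Mv.b (nat_lit 849), Mv.b (nat_lit 919), Mv.b (nat_lit 918), Mv.b (nat_lit 802), Mv.f (nat_lit 801), Mv.f (nat_lit 770), Mv.b (nat_lit 407), Mv.f (nat_lit 296), Mv.f (nat_lit 475), Mv.b (nat_lit 676), Mv.f (nat_lit 700), Mv.f (nat_lit 701), Mv.b (nat_lit 523), Mv.b (nat_lit 495), Mv.f (nat_lit 161), Mv.b (nat_lit 257), Mv.f (nat_lit 258), Mv.f (nat_lit 257), Mv.f (nat_lit 142), Mv.b (nat_lit 221), Mv.b (nat_lit 245), Mv.b (nat_lit 252), Mv.f (nat_lit 253), Mv.f (nat_lit 536), Mv.f (nat_lit 538), Mv.b (nat_lit 558), Mv.f (nat_lit 559), Mv.f (nat_lit 566), Mv.f (nat_lit 565), Mv.f (nat_lit 543), Mv.f (nat_lit 545), Mv.b (nat_lit 515), Mv.b (nat_lit 369), Mv.b (nat_lit 296), Mv.f (nat_lit 497), Mv.f (nat_lit 683), Mv.b (nat_lit 681), Mv.b (nat_lit 695), Mv.f (nat_lit 717), Mv.b (nat_lit 744), Mv.b (nat_lit 903), Mv.f (nat_lit 954), Mv.f (nat_lit 955), Mv.b (nat_lit 953), Mv.f (nat_lit 1044)]))) (Tr.lf (Fc.al (nat_lit 1270) (nat_lit 307) (nat_lit 369) (Dv.wd (nat_lit 86) [Mv.f (nat_lit 1044), Mv.f (nat_lit 1269), Mv.b (nat_lit 848)])))) (Tr.nd (nat_lit 1272) (Tr.lf (Fc.al (nat_lit 1271) (nat_lit 300) (nat_lit 368) (Dv.wd (nat_lit 91) [Mv.f (nat_lit 904), Mv.b (nat_lit 1270), Mv.f (nat_lit 785)]))) (Tr.nd (nat_lit 1273) (Tr.lf (Fc.al (nat_lit 1272) (nat_lit 148) (nat_lit 290) (Dv.wd (nat_lit 87) [Mv.b (nat_lit 903), Mv.b (nat_lit 1271), Mv.f (nat_lit 770)]))) (Tr.lf (Fc.al (nat_lit 1273) (nat_lit 236) (nat_lit 280) (Dv.wd (nat_lit 86) [Mv.b (nat_lit 744), Mv.b (nat_lit 1272), Mv.b (nat_lit 612)])))))) (Tr.nd (nat_lit 1276) (Tr.nd (nat_lit 1275) (Tr.lf (Fc.al (nat_lit 1274) (nat_lit 189) (nat_lit 270) (Dv.wd (nat_lit 88) [Mv.f (nat_lit 717), Mv.b (nat_lit 1273), Mv.f (nat_lit 611)]))) (Tr.lf (Fc.al (nat_lit 1275) (nat_lit 264) (nat_lit 234) (Dv.wd (nat_lit 87) [Mv.b (nat_lit 695), Mv.b (nat_lit 1274), Mv.f (nat_lit 683)])))) (Tr.nd (nat_lit 1277) (Tr.lf (Fc.al (nat_lit 1276) (nat_lit 163) (nat_lit 201) (Dv.wd (nat_lit 93) [Mv.b (nat_lit 682), Mv.f (nat_lit 1275), Mv.b (nat_lit 606)]))) (Tr.nd (nat_lit 1278) (Tr.lf (Fc.al (nat_lit 1277) (nat_lit 21) (nat_lit 20) (Dv.wd (nat_lit 86) [Mv.f (nat_lit 527), Mv.b (nat_lit 1276), Mv.b (nat_lit 445)]))) (Tr.lf (Fc.ed (nat_lit 1278) (nat_lit 20) Col.d (nat_lit 20) (Dv.wd (nat_lit 88) [Mv.f (nat_lit 53), Mv.f (nat_lit 1277)]))))))))))))))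
noncomputable def mini3A : Tr (Alt Col) := (Tr.nd (nat_lit 47) (Tr.nd (nat_lit 23) (Tr.nd (nat_lit 11) (Tr.nd (nat_lit 5) (Tr.nd (nat_lit 2) (Tr.nd (nat_lit 1) (Tr.lf (Alt.base (nat_lit 1) [] [Col.b])) (Tr.lf (Alt.base (nat_lit 2) [] [Col.c]))) (Tr.nd (nat_lit 3) (Tr.lf (Alt.base (nat_lit 3) [] [Col.d])) (Tr.nd (nat_lit 4) (Tr.lf (Alt.base (nat_lit 4) [] [Col.e])) (Tr.lf (Alt.base (nat_lit 6) [Col.g, Col.b, Col.a, Col.f] [Col.b, Col.a, Col.b, Col.g]))))) (Tr.nd (nat_lit 8) (Tr.nd (nat_lit 6) (Tr.lf (Alt.base (nat_lit 7) [Col.g, Col.b, Col.a, Col.b, Col.c, Col.b, Col.a, Col.g, Col.b] [Col.c, Col.a, Col.b, Col.g])) (Tr.nd (nat_lit 7) (Tr.lf (Alt.base (nat_lit 8) [Col.g, Col.b, Col.c, Col.d, Col.f, Col.b, Col.g] [Col.c, Col.b, Col.f, Col.d, Col.c, Col.b, Col.g])) (Tr.lf (Alt.word (nat_lit 2) (nat_lit 1) true [Col.a,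 Col.c, Col.a, Col.c])))) (Tr.nd (nat_lit 9) (Tr.lf (Alt.word (nat_lit 16) (nat_lit 0) true [Col.f, Col.c, Col.f, Col.c])) (Tr.nd (nat_lit 10) (Tr.lf (Alt.word (nat_lit 8) (nat_lit 4) true [Col.c, Col.b, Col.c, Col.b, Col.c, Col.b])) (Tr.lf (Alt.word (nat_lit 12) (nat_lit 2) true [Col.g, Col.b, Col.g, Col.b, Col.g, Col.b])))))) (Tr.nd (nat_lit 17) (Tr.nd (nat_lit 14) (Tr.nd (nat_lit 12) (Tr.lf (Alt.word (nat_lit 17) (nat_lit 2) true [Col.g, Col.c, Col.g, Col.c])) (Tr.nd (nat_lit 13) (Tr.lf (Alt.word (nat_lit 21) (nat_lit 2) true [Col.g, Col.d, Col.g, Col.d])) (Tr.lf (Alt.word (nat_lit 17) (nat_lit 1) true [Col.c, Col.g, Col.c, Col.g])))) (Tr.nd (nat_lit 15) (Tr.lf (Alt.word (nat_lit 21) (nat_lit 1) true [Col.d, Col.g, Col.d, Col.g])) (Tr.nd (nat_lit 16) (Tr.lf (Alt.word (nat_lit 24) (nat_lit 1) true [Col.e, Col.g,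 Col.e, Col.g])) (Tr.lf (Alt.word (nat_lit 10) (nat_lit 2) true [Col.e, Col.b, Col.e, Col.b]))))) (Tr.nd (nat_lit 20) (Tr.nd (nat_lit 18) (Tr.lf (Alt.word (nat_lit 15) (nat_lit 2) true [Col.e, Col.c, Col.e, Col.c])) (Tr.nd (nat_lit 19) (Tr.lf (Alt.word (nat_lit 4) (nat_lit 2) true [Col.e, Col.a, Col.e, Col.a])) (Tr.lf (Alt.word (nat_lit 23) (nat_lit 3) true [Col.e, Col.f, Col.e, Col.f])))) (Tr.nd (nat_lit 21) (Tr.lf (Alt.word (nat_lit 9) (nat_lit 2) true [Col.d, Col.b, Col.d, Col.b])) (Tr.nd (nat_lit 22) (Tr.lf (Alt.word (nat_lit 3) (nat_lit 2) true [Col.d, Col.a, Col.d, Col.a])) (Tr.lf (Alt.word (nat_lit 8) (nat_lit 3) true [Col.b, Col.c, Col.b, Col.c, Col.b, Col.c]))))))) (Tr.nd (nat_lit 35) (Tr.nd (nat_lit 29) (Tr.nd (nat_lit 26) (Tr.nd (nat_lit 24) (Tr.lf (Alt.word (nat_lit 9) (nat_lit 3) true [Col.b, Col.d, Col.b,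 Col.d])) (Tr.nd (nat_lit 25) (Tr.lf (Alt.word (nat_lit 11) (nat_lit 4) true [Col.f, Col.b, Col.f, Col.b, Col.f, Col.b])) (Tr.lf (Alt.word (nat_lit 16) (nat_lit 2) true [Col.f, Col.c, Col.f, Col.c])))) (Tr.nd (nat_lit 27) (Tr.lf (Alt.word (nat_lit 29) (nat_lit 4) true [Col.a, Col.f, Col.g, Col.f, Col.g])) (Tr.nd (nat_lit 28) (Tr.lf (Alt.word (nat_lit 19) (nat_lit 1) true [Col.d, Col.e, Col.d, Col.e, Col.d, Col.e])) (Tr.lf (Alt.word (nat_lit 2) (nat_lit 2) true [Col.c, Col.a, Col.c, Col.a]))))) (Tr.nd (nat_lit 32) (Tr.nd (nat_lit 30) (Tr.lf (Alt.word (nat_lit 5) (nat_lit 2) true [Col.f, Col.a, Col.f, Col.a])) (Tr.nd (nat_lit 31) (Tr.lf (Alt.word (nat_lit 29) (nat_lit 3) true [Col.g, Col.a, Col.f, Col.g, Col.f])) (Tr.lf (Alt.word (nat_lit 20) (nat_lit 3) true [Col.d, Col.f, Col.d, Col.f])))) (Tr.nd (nat_lit 33) (Tr.lf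 (Alt.word (nat_lit 29) (nat_lit 1) false [Col.g, Col.f, Col.g, Col.f, Col.a])) (Tr.nd (nat_lit 34) (Tr.lf (Alt.word (nat_lit 6) (nat_lit 2) true [Col.g, Col.a, Col.g, Col.a])) (Tr.lf (Alt.word (nat_lit 11) (nat_lit 2) true [Col.f, Col.b, Col.f, Col.b, Col.f, Col.b])))))) (Tr.nd (nat_lit 41) (Tr.nd (nat_lit 38) (Tr.nd (nat_lit 36) (Tr.lf (Alt.word (nat_lit 24) (nat_lit 2) true [Col.g, Col.e, Col.g, Col.e])) (Tr.nd (nat_lit 37) (Tr.lf (Alt.word (nat_lit 21) (nat_lit 3) true [Col.d, Col.g, Col.d, Col.g])) (Tr.lf (Alt.word (nat_lit 12) (nat_lit 5) true [Col.b, Col.g, Col.b, Col.g, Col.b, Col.g])))) (Tr.nd (nat_lit 39) (Tr.lf (Alt.word (nat_lit 10) (nat_lit 3) true [Col.b, Col.e, Col.b, Col.e])) (Tr.nd (nat_lit 40) (Tr.lf (Alt.word (nat_lit 20) (nat_lit 2) true [Col.f, Col.d, Col.f, Col.d])) (Tr.lf (Alt.word (nat_lit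 11) (nat_lit 3) true [Col.b, Col.f, Col.b, Col.f, Col.b, Col.f]))))) (Tr.nd (nat_lit 44) (Tr.nd (nat_lit 42) (Tr.lf (Alt.word (nat_lit 6) (nat_lit 1) true [Col.a, Col.g, Col.a, Col.g])) (Tr.nd (nat_lit 43) (Tr.lf (Alt.word (nat_lit 23) (nat_lit 1) true [Col.e, Col.f, Col.e, Col.f])) (Tr.lf (Alt.word (nat_lit 3) (nat_lit 1) true [Col.a, Col.d, Col.a, Col.d])))) (Tr.nd (nat_lit 45) (Tr.lf (Alt.word (nat_lit 9) (nat_lit 1) true [Col.b, Col.d, Col.b, Col.d])) (Tr.nd (nat_lit 46) (Tr.lf (Alt.word (nat_lit 4) (nat_lit 1) true [Col.a, Col.e, Col.a, Col.e])) (Tr.lf (Alt.word (nat_lit 29) (nat_lit 1) true [Col.g, Col.f, Col.g, Col.a, Col.f])))))))) (Tr.nd (nat_lit 70) (Tr.nd (nat_lit 58) (Tr.nd (nat_lit 52) (Tr.nd (nat_lit 49) (Tr.nd (nat_lit 48) (Tr.lf (Alt.word (nat_lit 12) (nat_lit 1) true [Col.b, Col.g, Col.b, Col.g,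 Col.b, Col.g])) (Tr.lf (Alt.word (nat_lit 1) (nat_lit 1) true [Col.a, Col.b, Col.a, Col.b, Col.a, Col.b, Col.a, Col.b, Col.a, Col.b]))) (Tr.nd (nat_lit 50) (Tr.lf (Alt.word (nat_lit 29) (nat_lit 0) true [Col.f, Col.g, Col.f, Col.g, Col.a])) (Tr.nd (nat_lit 51) (Tr.lf (Alt.word (nat_lit 23) (nat_lit 2) true [Col.f, Col.e, Col.f, Col.e])) (Tr.lf (Alt.word (nat_lit 29) (nat_lit 2) true [Col.f, Col.g, Col.a, Col.f, Col.g]))))) (Tr.nd (nat_lit 55) (Tr.nd (nat_lit 53) (Tr.lf (Alt.word (nat_lit 16) (nat_lit 3) true [Col.c, Col.f, Col.c, Col.f])) (Tr.nd (nat_lit 54) (Tr.lf (Alt.word (nat_lit 16) (nat_lit 1) true [Col.c, Col.f, Col.c, Col.f])) (Tr.lf (Alt.word (nat_lit 11) (nat_lit 1) true [Col.b, Col.f, Col.b, Col.f, Col.b, Col.f])))) (Tr.nd (nat_lit 56) (Tr.lf (Alt.word (nat_lit 5) (nat_lit 1) true [Col.a, Col.f, Col.a,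 Col.f])) (Tr.nd (nat_lit 57) (Tr.lf (Alt.word (nat_lit 10) (nat_lit 1) true [Col.b, Col.e, Col.b, Col.e])) (Tr.lf (Alt.word (nat_lit 28) (nat_lit 1) true [Col.d, Col.c, Col.d, Col.c, Col.d, Col.c, Col.d, Col.a, Col.c])))))) (Tr.nd (nat_lit 64) (Tr.nd (nat_lit 61) (Tr.nd (nat_lit 59) (Tr.lf (Alt.word (nat_lit 15) (nat_lit 1) true [Col.c, Col.e, Col.c, Col.e])) (Tr.nd (nat_lit 60) (Tr.lf (Alt.word (nat_lit 8) (nat_lit 1) true [Col.b, Col.c, Col.b, Col.c, Col.b, Col.c])) (Tr.lf (Alt.word (nat_lit 28) (nat_lit 2) true [Col.c, Col.d, Col.c, Col.d, Col.c, Col.d, Col.a, Col.c, Col.d])))) (Tr.nd (nat_lit 62) (Tr.lf (Alt.word (nat_lit 28) (nat_lit 8) true [Col.a, Col.c, Col.d, Col.c, Col.d, Col.c, Col.d, Col.c, Col.d])) (Tr.nd (nat_lit 63) (Tr.lf (Alt.word (nat_lit 8) (nat_lit 0) true [Col.c, Col.b, Col.c, Col.b, Col.c, Col.b]))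 (Tr.lf (Alt.word (nat_lit 28) (nat_lit 3) true [Col.d, Col.c, Col.d, Col.c, Col.d, Col.a, Col.c, Col.d, Col.c]))))) (Tr.nd (nat_lit 67) (Tr.nd (nat_lit 65) (Tr.lf (Alt.word (nat_lit 8) (nat_lit 2) true [Col.c, Col.b, Col.c, Col.b, Col.c, Col.b])) (Tr.nd (nat_lit 66) (Tr.lf (Alt.word (nat_lit 19) (nat_lit 2) true [Col.e, Col.d, Col.e, Col.d, Col.e, Col.d])) (Tr.lf (Alt.word (nat_lit 30) (nat_lit 3) true [Col.a, Col.f, Col.c, Col.b, Col.a, Col.f, Col.c, Col.b, Col.a, Col.f, Col.c, Col.b, Col.a, Col.f, Col.c, Col.b, Col.a, Col.f, Col.c, Col.b])))) (Tr.nd (nat_lit 68) (Tr.lf (Alt.word (nat_lit 1) (nat_lit 2) true [Col.b, Col.a, Col.b, Col.a, Col.b, Col.a, Col.b, Col.a, Col.b, Col.a])) (Tr.nd (nat_lit 69) (Tr.lf (Alt.word (nat_lit 3) (nat_lit 3) true [Col.a, Col.d, Col.a, Col.d])) (Tr.lf (Alt.word (nat_lit 20) (nat_lit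 1) true [Col.d, Col.f, Col.d, Col.f]))))))) (Tr.nd (nat_lit 82) (Tr.nd (nat_lit 76) (Tr.nd (nat_lit 73) (Tr.nd (nat_lit 71) (Tr.lf (Alt.word (nat_lit 15) (nat_lit 0) true [Col.e, Col.c, Col.e, Col.c])) (Tr.nd (nat_lit 72) (Tr.lf (Alt.word (nat_lit 9) (nat_lit 0) true [Col.d, Col.b, Col.d, Col.b])) (Tr.lf (Alt.word (nat_lit 30) (nat_lit 1) false [Col.b, Col.c, Col.f, Col.a, Col.b, Col.c, Col.f, Col.a, Col.b, Col.c, Col.f, Col.a, Col.b, Col.c, Col.f, Col.a, Col.b, Col.c, Col.f, Col.a])))) (Tr.nd (nat_lit 74) (Tr.lf (Alt.word (nat_lit 31) (nat_lit 3) false [Col.b, Col.f, Col.g, Col.b, Col.f, Col.g, Col.b, Col.f, Col.g, Col.b, Col.f, Col.g, Col.b, Col.f, Col.g])) (Tr.nd (nat_lit 75) (Tr.lf (Alt.word (nat_lit 29) (nat_lit 0) false [Col.a, Col.g, Col.f, Col.g, Col.f])) (Tr.lf (Alt.word (nat_lit 31) (nat_lit 1) true [Col.f,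 Col.b, Col.g, Col.f, Col.b, Col.g, Col.f, Col.b, Col.g, Col.f, Col.b, Col.g, Col.f, Col.b, Col.g]))))) (Tr.nd (nat_lit 79) (Tr.nd (nat_lit 77) (Tr.lf (Alt.word (nat_lit 30) (nat_lit 4) true [Col.f, Col.c, Col.b, Col.a, Col.f, Col.c, Col.b, Col.a, Col.f, Col.c, Col.b, Col.a, Col.f, Col.c, Col.b, Col.a, Col.f, Col.c, Col.b, Col.a])) (Tr.nd (nat_lit 78) (Tr.lf (Alt.word (nat_lit 30) (nat_lit 1) true [Col.c, Col.b, Col.a, Col.f, Col.c, Col.b, Col.a, Col.f, Col.c, Col.b, Col.a, Col.f, Col.c, Col.b, Col.a, Col.f, Col.c, Col.b, Col.a, Col.f])) (Tr.lf (Alt.word (nat_lit 1) (nat_lit 0) true [Col.b, Col.a, Col.b, Col.a, Col.b, Col.a, Col.b, Col.a, Col.b, Col.a])))) (Tr.nd (nat_lit 80) (Tr.lf (Alt.word (nat_lit 30) (nat_lit 19) true [Col.a, Col.f, Col.c, Col.b, Col.a, Col.f, Col.c, Col.b, Col.a, Col.f, Col.c, Col.b, Col.a,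 Col.f, Col.c, Col.b, Col.a, Col.f, Col.c, Col.b])) (Tr.nd (nat_lit 81) (Tr.lf (Alt.word (nat_lit 31) (nat_lit 2) true [Col.b, Col.g, Col.f, Col.b, Col.g, Col.f, Col.b, Col.g, Col.f, Col.b, Col.g, Col.f, Col.b, Col.g, Col.f])) (Tr.lf (Alt.word (nat_lit 28) (nat_lit 0) true [Col.c, Col.d, Col.c, Col.d, Col.c, Col.d, Col.c, Col.d, Col.a])))))) (Tr.nd (nat_lit 88) (Tr.nd (nat_lit 85) (Tr.nd (nat_lit 83) (Tr.lf (Alt.word (nat_lit 10) (nat_lit 0) true [Col.e, Col.b, Col.e, Col.b])) (Tr.nd (nat_lit 84) (Tr.lf (Alt.word (nat_lit 3) (nat_lit 0) true [Col.d, Col.a, Col.d, Col.a])) (Tr.lf (Alt.word (nat_lit 32) (nat_lit 23) true [Col.d, Col.c, Col.b, Col.e, Col.d, Col.c, Col.d, Col.c, Col.b, Col.d, Col.c, Col.d, Col.c, Col.b, Col.d, Col.c, Col.d, Col.c, Col.b, Col.d, Col.c, Col.d, Col.c, Col.b, Col.d, Col.c, Col.d, Col.c, Col.b,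 Col.e, Col.d, Col.c, Col.d, Col.c, Col.b, Col.d, Col.c, Col.d, Col.c, Col.b, Col.d, Col.c, Col.d, Col.c, Col.b, Col.d, Col.c, Col.d, Col.c, Col.b, Col.d, Col.c, Col.d, Col.c, Col.b, Col.e, Col.d, Col.c, Col.d, Col.c, Col.b, Col.d, Col.c, Col.d, Col.c, Col.b, Col.d, Col.c, Col.d, Col.c, Col.b, Col.d, Col.c, Col.d, Col.c, Col.b, Col.d, Col.c])))) (Tr.nd (nat_lit 86) (Tr.lf (Alt.word (nat_lit 28) (nat_lit 4) true [Col.c, Col.d, Col.c, Col.d, Col.a, Col.c, Col.d, Col.c, Col.d])) (Tr.nd (nat_lit 87) (Tr.lf (Alt.word (nat_lit 7) (nat_lit 0) true [Col.b, Col.b])) (Tr.lf (Alt.word (nat_lit 13) (nat_lit 0) true [Col.c, Col.c]))))) (Tr.nd (nat_lit 91) (Tr.nd (nat_lit 89) (Tr.lf (Alt.word (nat_lit 18) (nat_lit 0) true [Col.d, Col.d])) (Tr.nd (nat_lit 90) (Tr.lf (Alt.word (nat_lit 22) (nat_lit 0) true [Col.e, Col.e])) (Tr.lf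 (Alt.word (nat_lit 27) (nat_lit 0) true [Col.g, Col.g])))) (Tr.nd (nat_lit 92) (Tr.lf (Alt.word (nat_lit 0) (nat_lit 0) true [Col.a, Col.a])) (Tr.nd (nat_lit 93) (Tr.lf (Alt.word (nat_lit 32) (nat_lit 63) false [Col.c, Col.d, Col.c, Col.d, Col.b, Col.c, Col.d, Col.c, Col.d, Col.b, Col.c, Col.d, Col.c, Col.d, Col.e, Col.b, Col.c, Col.d, Col.c, Col.d, Col.b, Col.c, Col.d, Col.c, Col.d, Col.b, Col.c, Col.d, Col.c, Col.d, Col.b, Col.c, Col.d, Col.c, Col.d, Col.b, Col.c, Col.d, Col.c, Col.d, Col.e, Col.b, Col.c, Col.d, Col.c, Col.d, Col.b, Col.c, Col.d, Col.c, Col.d, Col.b, Col.c, Col.d, Col.c, Col.d, Col.b, Col.c, Col.d, Col.c, Col.d, Col.b, Col.c, Col.d, Col.c, Col.d, Col.e, Col.b, Col.c, Col.d, Col.c, Col.d, Col.b, Col.c, Col.d, Col.c, Col.d, Col.b])) (Tr.lf (Alt.word (nat_lit 25) (nat_lit 0) true [Col.f, Col.f])))))))))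
noncomputable def mini3P : Tr ℕ := (Tr.nd (nat_lit 274) (Tr.nd (nat_lit 137) (Tr.nd (nat_lit 68) (Tr.nd (nat_lit 34) (Tr.nd (nat_lit 17) (Tr.nd (nat_lit 8) (Tr.nd (nat_lit 4) (Tr.nd (nat_lit 2) (Tr.nd (nat_lit 1) (Tr.lf (nat_lit 0)) (Tr.lf (nat_lit 0))) (Tr.nd (nat_lit 3) (Tr.lf (nat_lit 1)) (Tr.lf (nat_lit 2)))) (Tr.nd (nat_lit 6) (Tr.nd (nat_lit 5) (Tr.lf (nat_lit 3)) (Tr.lf (nat_lit 4))) (Tr.nd (nat_lit 7) (Tr.lf (nat_lit 5)) (Tr.lf (nat_lit 6))))) (Tr.nd (nat_lit 12) (Tr.nd (nat_lit 10) (Tr.nd (nat_lit 9) (Tr.lf (nat_lit 7)) (Tr.lf (nat_lit 8))) (Tr.nd (nat_lit 11) (Tr.lf (nat_lit 2)) (Tr.lf (nat_lit 10)))) (Tr.nd (nat_lit 14) (Tr.nd (nat_lit 13) (Tr.lf (nat_lit 11)) (Tr.lf (nat_lit 12))) (Tr.nd (nat_lit 15) (Tr.lf (nat_lit 13)) (Tr.nd (nat_lit 16) (Tr.lf (nat_lit 8)) (Tr.lf (nat_lit 15))))))) (Tr.nd (nat_lit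 25) (Tr.nd (nat_lit 21) (Tr.nd (nat_lit 19) (Tr.nd (nat_lit 18) (Tr.lf (nat_lit 16)) (Tr.lf (nat_lit 17))) (Tr.nd (nat_lit 20) (Tr.lf (nat_lit 18)) (Tr.lf (nat_lit 19)))) (Tr.nd (nat_lit 23) (Tr.nd (nat_lit 22) (Tr.lf (nat_lit 20)) (Tr.lf (nat_lit 21))) (Tr.nd (nat_lit 24) (Tr.lf (nat_lit 22)) (Tr.lf (nat_lit 23))))) (Tr.nd (nat_lit 29) (Tr.nd (nat_lit 27) (Tr.nd (nat_lit 26) (Tr.lf (nat_lit 4)) (Tr.lf (nat_lit 5))) (Tr.nd (nat_lit 28) (Tr.lf (nat_lit 12)) (Tr.lf (nat_lit 11)))) (Tr.nd (nat_lit 31) (Tr.nd (nat_lit 30) (Tr.lf (nat_lit 26)) (Tr.lf (nat_lit 17))) (Tr.nd (nat_lit 32) (Tr.lf (nat_lit 6)) (Tr.nd (nat_lit 33) (Tr.lf (nat_lit 30)) (Tr.lf (nat_lit 6)))))))) (Tr.nd (nat_lit 51) (Tr.nd (nat_lit 42) (Tr.nd (nat_lit 38) (Tr.nd (nat_lit 36) (Tr.nd (nat_lit 35) (Tr.lf (nat_lit 33)) (Tr.lf (nat_lit 32))) (Tr.nd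 (nat_lit 37) (Tr.lf (nat_lit 35)) (Tr.lf (nat_lit 32)))) (Tr.nd (nat_lit 40) (Tr.nd (nat_lit 39) (Tr.lf (nat_lit 34)) (Tr.lf (nat_lit 33))) (Tr.nd (nat_lit 41) (Tr.lf (nat_lit 36)) (Tr.lf (nat_lit 31))))) (Tr.nd (nat_lit 46) (Tr.nd (nat_lit 44) (Tr.nd (nat_lit 43) (Tr.lf (nat_lit 35)) (Tr.lf (nat_lit 18))) (Tr.nd (nat_lit 45) (Tr.lf (nat_lit 40)) (Tr.lf (nat_lit 42)))) (Tr.nd (nat_lit 48) (Tr.nd (nat_lit 47) (Tr.lf (nat_lit 31)) (Tr.lf (nat_lit 39))) (Tr.nd (nat_lit 49) (Tr.lf (nat_lit 22)) (Tr.nd (nat_lit 50) (Tr.lf (nat_lit 28)) (Tr.lf (nat_lit 19))))))) (Tr.nd (nat_lit 59) (Tr.nd (nat_lit 55) (Tr.nd (nat_lit 53) (Tr.nd (nat_lit 52) (Tr.lf (nat_lit 12)) (Tr.lf (nat_lit 27))) (Tr.nd (nat_lit 54) (Tr.lf (nat_lit 34)) (Tr.lf (nat_lit 11)))) (Tr.nd (nat_lit 57) (Tr.nd (nat_lit 56) (Tr.lf (nat_lit 12)) (Tr.lf (nat_lit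 48))) (Tr.nd (nat_lit 58) (Tr.lf (nat_lit 20)) (Tr.lf (nat_lit 39))))) (Tr.nd (nat_lit 63) (Tr.nd (nat_lit 61) (Tr.nd (nat_lit 60) (Tr.lf (nat_lit 52)) (Tr.lf (nat_lit 59))) (Tr.nd (nat_lit 62) (Tr.lf (nat_lit 53)) (Tr.lf (nat_lit 55)))) (Tr.nd (nat_lit 65) (Tr.nd (nat_lit 64) (Tr.lf (nat_lit 13)) (Tr.lf (nat_lit 14))) (Tr.nd (nat_lit 66) (Tr.lf (nat_lit 47)) (Tr.nd (nat_lit 67) (Tr.lf (nat_lit 65)) (Tr.lf (nat_lit 15))))))))) (Tr.nd (nat_lit 102) (Tr.nd (nat_lit 85) (Tr.nd (nat_lit 76) (Tr.nd (nat_lit 72) (Tr.nd (nat_lit 70) (Tr.nd (nat_lit 69) (Tr.lf (nat_lit 60)) (Tr.lf (nat_lit 16))) (Tr.nd (nat_lit 71) (Tr.lf (nat_lit 43)) (Tr.lf (nat_lit 66)))) (Tr.nd (nat_lit 74) (Tr.nd (nat_lit 73) (Tr.lf (nat_lit 59)) (Tr.lf (nat_lit 58))) (Tr.nd (nat_lit 75) (Tr.lf (nat_lit 73)) (Tr.lf (nat_lit 52))))) (Tr.nd (nat_lit 80)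 (Tr.nd (nat_lit 78) (Tr.nd (nat_lit 77) (Tr.lf (nat_lit 75)) (Tr.lf (nat_lit 74))) (Tr.nd (nat_lit 79) (Tr.lf (nat_lit 58)) (Tr.lf (nat_lit 17)))) (Tr.nd (nat_lit 82) (Tr.nd (nat_lit 81) (Tr.lf (nat_lit 65)) (Tr.lf (nat_lit 80))) (Tr.nd (nat_lit 83) (Tr.lf (nat_lit 77)) (Tr.nd (nat_lit 84) (Tr.lf (nat_lit 69)) (Tr.lf (nat_lit 80))))))) (Tr.nd (nat_lit 93) (Tr.nd (nat_lit 89) (Tr.nd (nat_lit 87) (Tr.nd (nat_lit 86) (Tr.lf (nat_lit 34)) (Tr.lf (nat_lit 80))) (Tr.nd (nat_lit 88) (Tr.lf (nat_lit 60)) (Tr.lf (nat_lit 37)))) (Tr.nd (nat_lit 91) (Tr.nd (nat_lit 90) (Tr.lf (nat_lit 68)) (Tr.lf (nat_lit 56))) (Tr.nd (nat_lit 92) (Tr.lf (nat_lit 67)) (Tr.lf (nat_lit 74))))) (Tr.nd (nat_lit 97) (Tr.nd (nat_lit 95) (Tr.nd (nat_lit 94) (Tr.lf (nat_lit 57)) (Tr.lf (nat_lit 83))) (Tr.nd (nat_lit 96) (Tr.lf (nat_lit 65)) (Tr.lf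 (nat_lit 74)))) (Tr.nd (nat_lit 99) (Tr.nd (nat_lit 98) (Tr.lf (nat_lit 70)) (Tr.lf (nat_lit 95))) (Tr.nd (nat_lit 100) (Tr.lf (nat_lit 79)) (Tr.nd (nat_lit 101) (Tr.lf (nat_lit 59)) (Tr.lf (nat_lit 99)))))))) (Tr.nd (nat_lit 119) (Tr.nd (nat_lit 110) (Tr.nd (nat_lit 106) (Tr.nd (nat_lit 104) (Tr.nd (nat_lit 103) (Tr.lf (nat_lit 61)) (Tr.lf (nat_lit 100))) (Tr.nd (nat_lit 105) (Tr.lf (nat_lit 85)) (Tr.lf (nat_lit 100)))) (Tr.nd (nat_lit 108) (Tr.nd (nat_lit 107) (Tr.lf (nat_lit 67)) (Tr.lf (nat_lit 62))) (Tr.nd (nat_lit 109) (Tr.lf (nat_lit 104)) (Tr.lf (nat_lit 80))))) (Tr.nd (nat_lit 114) (Tr.nd (nat_lit 112) (Tr.nd (nat_lit 111) (Tr.lf (nat_lit 107)) (Tr.lf (nat_lit 24))) (Tr.nd (nat_lit 113) (Tr.lf (nat_lit 68)) (Tr.lf (nat_lit 69)))) (Tr.nd (nat_lit 116) (Tr.nd (nat_lit 115) (Tr.lf (nat_lit 112)) (Tr.lf (nat_lit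 81))) (Tr.nd (nat_lit 117) (Tr.lf (nat_lit 108)) (Tr.nd (nat_lit 118) (Tr.lf (nat_lit 23)) (Tr.lf (nat_lit 84))))))) (Tr.nd (nat_lit 128) (Tr.nd (nat_lit 123) (Tr.nd (nat_lit 121) (Tr.nd (nat_lit 120) (Tr.lf (nat_lit 115)) (Tr.lf (nat_lit 86))) (Tr.nd (nat_lit 122) (Tr.lf (nat_lit 119)) (Tr.lf (nat_lit 112)))) (Tr.nd (nat_lit 125) (Tr.nd (nat_lit 124) (Tr.lf (nat_lit 103)) (Tr.lf (nat_lit 78))) (Tr.nd (nat_lit 126) (Tr.lf (nat_lit 124)) (Tr.nd (nat_lit 127) (Tr.lf (nat_lit 124)) (Tr.lf (nat_lit 91)))))) (Tr.nd (nat_lit 132) (Tr.nd (nat_lit 130) (Tr.nd (nat_lit 129) (Tr.lf (nat_lit 89)) (Tr.lf (nat_lit 128))) (Tr.nd (nat_lit 131) (Tr.lf (nat_lit 122)) (Tr.lf (nat_lit 110)))) (Tr.nd (nat_lit 134) (Tr.nd (nat_lit 133) (Tr.lf (nat_lit 98)) (Tr.lf (nat_lit 98))) (Tr.nd (nat_lit 135) (Tr.lf (nat_lit 101)) (Tr.nd (nat_lit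 136) (Tr.lf (nat_lit 124)) (Tr.lf (nat_lit 128)))))))))) (Tr.nd (nat_lit 205) (Tr.nd (nat_lit 171) (Tr.nd (nat_lit 154) (Tr.nd (nat_lit 145) (Tr.nd (nat_lit 141) (Tr.nd (nat_lit 139) (Tr.nd (nat_lit 138) (Tr.lf (nat_lit 104)) (Tr.lf (nat_lit 135))) (Tr.nd (nat_lit 140) (Tr.lf (nat_lit 112)) (Tr.lf (nat_lit 139)))) (Tr.nd (nat_lit 143) (Tr.nd (nat_lit 142) (Tr.lf (nat_lit 133)) (Tr.lf (nat_lit 141))) (Tr.nd (nat_lit 144) (Tr.lf (nat_lit 79)) (Tr.lf (nat_lit 97))))) (Tr.nd (nat_lit 149) (Tr.nd (nat_lit 147) (Tr.nd (nat_lit 146) (Tr.lf (nat_lit 129)) (Tr.lf (nat_lit 130))) (Tr.nd (nat_lit 148) (Tr.lf (nat_lit 83)) (Tr.lf (nat_lit 101)))) (Tr.nd (nat_lit 151) (Tr.nd (nat_lit 150) (Tr.lf (nat_lit 145)) (Tr.lf (nat_lit 125))) (Tr.nd (nat_lit 152) (Tr.lf (nat_lit 136)) (Tr.nd (nat_lit 153) (Tr.lf (nat_lit 116)) (Tr.lf (nat_lit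 56))))))) (Tr.nd (nat_lit 162) (Tr.nd (nat_lit 158) (Tr.nd (nat_lit 156) (Tr.nd (nat_lit 155) (Tr.lf (nat_lit 126)) (Tr.lf (nat_lit 119))) (Tr.nd (nat_lit 157) (Tr.lf (nat_lit 120)) (Tr.lf (nat_lit 138)))) (Tr.nd (nat_lit 160) (Tr.nd (nat_lit 159) (Tr.lf (nat_lit 115)) (Tr.lf (nat_lit 82))) (Tr.nd (nat_lit 161) (Tr.lf (nat_lit 144)) (Tr.lf (nat_lit 152))))) (Tr.nd (nat_lit 166) (Tr.nd (nat_lit 164) (Tr.nd (nat_lit 163) (Tr.lf (nat_lit 109)) (Tr.lf (nat_lit 21))) (Tr.nd (nat_lit 165) (Tr.lf (nat_lit 121)) (Tr.lf (nat_lit 134)))) (Tr.nd (nat_lit 168) (Tr.nd (nat_lit 167) (Tr.lf (nat_lit 142)) (Tr.lf (nat_lit 106))) (Tr.nd (nat_lit 169) (Tr.lf (nat_lit 161)) (Tr.nd (nat_lit 170) (Tr.lf (nat_lit 91)) (Tr.lf (nat_lit 124)))))))) (Tr.nd (nat_lit 188) (Tr.nd (nat_lit 179) (Tr.nd (nat_lit 175) (Tr.nd (nat_lit 173) (Tr.nd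 (nat_lit 172) (Tr.lf (nat_lit 121)) (Tr.lf (nat_lit 103))) (Tr.nd (nat_lit 174) (Tr.lf (nat_lit 166)) (Tr.lf (nat_lit 172)))) (Tr.nd (nat_lit 177) (Tr.nd (nat_lit 176) (Tr.lf (nat_lit 116)) (Tr.lf (nat_lit 77))) (Tr.nd (nat_lit 178) (Tr.lf (nat_lit 163)) (Tr.lf (nat_lit 98))))) (Tr.nd (nat_lit 183) (Tr.nd (nat_lit 181) (Tr.nd (nat_lit 180) (Tr.lf (nat_lit 127)) (Tr.lf (nat_lit 175))) (Tr.nd (nat_lit 182) (Tr.lf (nat_lit 164)) (Tr.lf (nat_lit 164)))) (Tr.nd (nat_lit 185) (Tr.nd (nat_lit 184) (Tr.lf (nat_lit 82)) (Tr.lf (nat_lit 83))) (Tr.nd (nat_lit 186) (Tr.lf (nat_lit 179)) (Tr.nd (nat_lit 187) (Tr.lf (nat_lit 144)) (Tr.lf (nat_lit 126))))))) (Tr.nd (nat_lit 196) (Tr.nd (nat_lit 192) (Tr.nd (nat_lit 190) (Tr.nd (nat_lit 189) (Tr.lf (nat_lit 57)) (Tr.lf (nat_lit 101))) (Tr.nd (nat_lit 191) (Tr.lf (nat_lit 153)) (Tr.lf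 (nat_lit 167)))) (Tr.nd (nat_lit 194) (Tr.nd (nat_lit 193) (Tr.lf (nat_lit 187)) (Tr.lf (nat_lit 175))) (Tr.nd (nat_lit 195) (Tr.lf (nat_lit 159)) (Tr.lf (nat_lit 115))))) (Tr.nd (nat_lit 200) (Tr.nd (nat_lit 198) (Tr.nd (nat_lit 197) (Tr.lf (nat_lit 184)) (Tr.lf (nat_lit 132))) (Tr.nd (nat_lit 199) (Tr.lf (nat_lit 160)) (Tr.lf (nat_lit 190)))) (Tr.nd (nat_lit 202) (Tr.nd (nat_lit 201) (Tr.lf (nat_lit 94)) (Tr.lf (nat_lit 20))) (Tr.nd (nat_lit 203) (Tr.lf (nat_lit 195)) (Tr.nd (nat_lit 204) (Tr.lf (nat_lit 200)) (Tr.lf (nat_lit 111))))))))) (Tr.nd (nat_lit 239) (Tr.nd (nat_lit 222) (Tr.nd (nat_lit 213) (Tr.nd (nat_lit 209) (Tr.nd (nat_lit 207) (Tr.nd (nat_lit 206) (Tr.lf (nat_lit 66)) (Tr.lf (nat_lit 181))) (Tr.nd (nat_lit 208) (Tr.lf (nat_lit 167)) (Tr.lf (nat_lit 191)))) (Tr.nd (nat_lit 211) (Tr.nd (nat_lit 210)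 (Tr.lf (nat_lit 170)) (Tr.lf (nat_lit 209))) (Tr.nd (nat_lit 212) (Tr.lf (nat_lit 84)) (Tr.lf (nat_lit 179))))) (Tr.nd (nat_lit 217) (Tr.nd (nat_lit 215) (Tr.nd (nat_lit 214) (Tr.lf (nat_lit 212)) (Tr.lf (nat_lit 81))) (Tr.nd (nat_lit 216) (Tr.lf (nat_lit 208)) (Tr.lf (nat_lit 204)))) (Tr.nd (nat_lit 219) (Tr.nd (nat_lit 218) (Tr.lf (nat_lit 207)) (Tr.lf (nat_lit 164))) (Tr.nd (nat_lit 220) (Tr.lf (nat_lit 197)) (Tr.nd (nat_lit 221) (Tr.lf (nat_lit 211)) (Tr.lf (nat_lit 171))))))) (Tr.nd (nat_lit 230) (Tr.nd (nat_lit 226) (Tr.nd (nat_lit 224) (Tr.nd (nat_lit 223) (Tr.lf (nat_lit 217)) (Tr.lf (nat_lit 221))) (Tr.nd (nat_lit 225) (Tr.lf (nat_lit 150)) (Tr.lf (nat_lit 211)))) (Tr.nd (nat_lit 228) (Tr.nd (nat_lit 227) (Tr.lf (nat_lit 186)) (Tr.lf (nat_lit 222))) (Tr.nd (nat_lit 229) (Tr.lf (nat_lit 200)) (Tr.lf (nat_lit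 196))))) (Tr.nd (nat_lit 234) (Tr.nd (nat_lit 232) (Tr.nd (nat_lit 231) (Tr.lf (nat_lit 111)) (Tr.lf (nat_lit 180))) (Tr.nd (nat_lit 233) (Tr.lf (nat_lit 182)) (Tr.lf (nat_lit 187)))) (Tr.nd (nat_lit 236) (Tr.nd (nat_lit 235) (Tr.lf (nat_lit 163)) (Tr.lf (nat_lit 228))) (Tr.nd (nat_lit 237) (Tr.lf (nat_lit 194)) (Tr.nd (nat_lit 238) (Tr.lf (nat_lit 232)) (Tr.lf (nat_lit 225)))))))) (Tr.nd (nat_lit 256) (Tr.nd (nat_lit 247) (Tr.nd (nat_lit 243) (Tr.nd (nat_lit 241) (Tr.nd (nat_lit 240) (Tr.lf (nat_lit 227)) (Tr.lf (nat_lit 184))) (Tr.nd (nat_lit 242) (Tr.lf (nat_lit 213)) (Tr.lf (nat_lit 117)))) (Tr.nd (nat_lit 245) (Tr.nd (nat_lit 244) (Tr.lf (nat_lit 139)) (Tr.lf (nat_lit 195))) (Tr.nd (nat_lit 246) (Tr.lf (nat_lit 236)) (Tr.lf (nat_lit 225))))) (Tr.nd (nat_lit 251) (Tr.nd (nat_lit 249) (Tr.nd (nat_lit 248) (Tr.lf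 (nat_lit 240)) (Tr.lf (nat_lit 245))) (Tr.nd (nat_lit 250) (Tr.lf (nat_lit 219)) (Tr.lf (nat_lit 202)))) (Tr.nd (nat_lit 253) (Tr.nd (nat_lit 252) (Tr.lf (nat_lit 237)) (Tr.lf (nat_lit 229))) (Tr.nd (nat_lit 254) (Tr.lf (nat_lit 238)) (Tr.nd (nat_lit 255) (Tr.lf (nat_lit 152)) (Tr.lf (nat_lit 254))))))) (Tr.nd (nat_lit 265) (Tr.nd (nat_lit 260) (Tr.nd (nat_lit 258) (Tr.nd (nat_lit 257) (Tr.lf (nat_lit 212)) (Tr.lf (nat_lit 220))) (Tr.nd (nat_lit 259) (Tr.lf (nat_lit 257)) (Tr.lf (nat_lit 224)))) (Tr.nd (nat_lit 262) (Tr.nd (nat_lit 261) (Tr.lf (nat_lit 140)) (Tr.lf (nat_lit 188))) (Tr.nd (nat_lit 263) (Tr.lf (nat_lit 259)) (Tr.nd (nat_lit 264) (Tr.lf (nat_lit 206)) (Tr.lf (nat_lit 234)))))) (Tr.nd (nat_lit 269) (Tr.nd (nat_lit 267) (Tr.nd (nat_lit 266) (Tr.lf (nat_lit 178)) (Tr.lf (nat_lit 177))) (Tr.nd (nat_lit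 268) (Tr.lf (nat_lit 181)) (Tr.lf (nat_lit 263)))) (Tr.nd (nat_lit 271) (Tr.nd (nat_lit 270) (Tr.lf (nat_lit 176)) (Tr.lf (nat_lit 177))) (Tr.nd (nat_lit 272) (Tr.lf (nat_lit 223)) (Tr.nd (nat_lit 273) (Tr.lf (nat_lit 189)) (Tr.lf (nat_lit 261))))))))))) (Tr.nd (nat_lit 411) (Tr.nd (nat_lit 342) (Tr.nd (nat_lit 308) (Tr.nd (nat_lit 291) (Tr.nd (nat_lit 282) (Tr.nd (nat_lit 278) (Tr.nd (nat_lit 276) (Tr.nd (nat_lit 275) (Tr.lf (nat_lit 269)) (Tr.lf (nat_lit 200))) (Tr.nd (nat_lit 277) (Tr.lf (nat_lit 184)) (Tr.lf (nat_lit 275)))) (Tr.nd (nat_lit 280) (Tr.nd (nat_lit 279) (Tr.lf (nat_lit 251)) (Tr.lf (nat_lit 271))) (Tr.nd (nat_lit 281) (Tr.lf (nat_lit 270)) (Tr.lf (nat_lit 247))))) (Tr.nd (nat_lit 286) (Tr.nd (nat_lit 284) (Tr.nd (nat_lit 283) (Tr.lf (nat_lit 146)) (Tr.lf (nat_lit 244))) (Tr.nd (nat_lit 285) (Tr.lf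 (nat_lit 276)) (Tr.lf (nat_lit 228)))) (Tr.nd (nat_lit 288) (Tr.nd (nat_lit 287) (Tr.lf (nat_lit 196)) (Tr.lf (nat_lit 274))) (Tr.nd (nat_lit 289) (Tr.lf (nat_lit 272)) (Tr.nd (nat_lit 290) (Tr.lf (nat_lit 281)) (Tr.lf (nat_lit 216))))))) (Tr.nd (nat_lit 299) (Tr.nd (nat_lit 295) (Tr.nd (nat_lit 293) (Tr.nd (nat_lit 292) (Tr.lf (nat_lit 278)) (Tr.lf (nat_lit 288))) (Tr.nd (nat_lit 294) (Tr.lf (nat_lit 202)) (Tr.lf (nat_lit 231)))) (Tr.nd (nat_lit 297) (Tr.nd (nat_lit 296) (Tr.lf (nat_lit 123)) (Tr.lf (nat_lit 295))) (Tr.nd (nat_lit 298) (Tr.lf (nat_lit 294)) (Tr.lf (nat_lit 297))))) (Tr.nd (nat_lit 303) (Tr.nd (nat_lit 301) (Tr.nd (nat_lit 300) (Tr.lf (nat_lit 130)) (Tr.lf (nat_lit 297))) (Tr.nd (nat_lit 302) (Tr.lf (nat_lit 248)) (Tr.lf (nat_lit 301)))) (Tr.nd (nat_lit 305) (Tr.nd (nat_lit 304) (Tr.lf (nat_lit 302))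 (Tr.lf (nat_lit 204))) (Tr.nd (nat_lit 306) (Tr.lf (nat_lit 213)) (Tr.nd (nat_lit 307) (Tr.lf (nat_lit 122)) (Tr.lf (nat_lit 298)))))))) (Tr.nd (nat_lit 325) (Tr.nd (nat_lit 316) (Tr.nd (nat_lit 312) (Tr.nd (nat_lit 310) (Tr.nd (nat_lit 309) (Tr.lf (nat_lit 306)) (Tr.lf (nat_lit 212))) (Tr.nd (nat_lit 311) (Tr.lf (nat_lit 299)) (Tr.lf (nat_lit 187)))) (Tr.nd (nat_lit 314) (Tr.nd (nat_lit 313) (Tr.lf (nat_lit 307)) (Tr.lf (nat_lit 311))) (Tr.nd (nat_lit 315) (Tr.lf (nat_lit 310)) (Tr.lf (nat_lit 312))))) (Tr.nd (nat_lit 320) (Tr.nd (nat_lit 318) (Tr.nd (nat_lit 317) (Tr.lf (nat_lit 304)) (Tr.lf (nat_lit 254))) (Tr.nd (nat_lit 319) (Tr.lf (nat_lit 210)) (Tr.lf (nat_lit 256)))) (Tr.nd (nat_lit 322) (Tr.nd (nat_lit 321) (Tr.lf (nat_lit 243)) (Tr.lf (nat_lit 320))) (Tr.nd (nat_lit 323) (Tr.lf (nat_lit 309)) (Tr.nd (nat_lit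 324) (Tr.lf (nat_lit 309)) (Tr.lf (nat_lit 278))))))) (Tr.nd (nat_lit 333) (Tr.nd (nat_lit 329) (Tr.nd (nat_lit 327) (Tr.nd (nat_lit 326) (Tr.lf (nat_lit 313)) (Tr.lf (nat_lit 323))) (Tr.nd (nat_lit 328) (Tr.lf (nat_lit 317)) (Tr.lf (nat_lit 218)))) (Tr.nd (nat_lit 331) (Tr.nd (nat_lit 330) (Tr.lf (nat_lit 298)) (Tr.lf (nat_lit 304))) (Tr.nd (nat_lit 332) (Tr.lf (nat_lit 329)) (Tr.lf (nat_lit 192))))) (Tr.nd (nat_lit 337) (Tr.nd (nat_lit 335) (Tr.nd (nat_lit 334) (Tr.lf (nat_lit 318)) (Tr.lf (nat_lit 196))) (Tr.nd (nat_lit 336) (Tr.lf (nat_lit 328)) (Tr.lf (nat_lit 334)))) (Tr.nd (nat_lit 339) (Tr.nd (nat_lit 338) (Tr.lf (nat_lit 229)) (Tr.lf (nat_lit 271))) (Tr.nd (nat_lit 340) (Tr.lf (nat_lit 299)) (Tr.nd (nat_lit 341) (Tr.lf (nat_lit 323)) (Tr.lf (nat_lit 252))))))))) (Tr.nd (nat_lit 376) (Tr.nd (nat_lit 359)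 (Tr.nd (nat_lit 350) (Tr.nd (nat_lit 346) (Tr.nd (nat_lit 344) (Tr.nd (nat_lit 343) (Tr.lf (nat_lit 307)) (Tr.lf (nat_lit 330))) (Tr.nd (nat_lit 345) (Tr.lf (nat_lit 290)) (Tr.lf (nat_lit 285)))) (Tr.nd (nat_lit 348) (Tr.nd (nat_lit 347) (Tr.lf (nat_lit 320)) (Tr.lf (nat_lit 338))) (Tr.nd (nat_lit 349) (Tr.lf (nat_lit 340)) (Tr.lf (nat_lit 260))))) (Tr.nd (nat_lit 354) (Tr.nd (nat_lit 352) (Tr.nd (nat_lit 351) (Tr.lf (nat_lit 347)) (Tr.lf (nat_lit 296))) (Tr.nd (nat_lit 353) (Tr.lf (nat_lit 324)) (Tr.lf (nat_lit 319)))) (Tr.nd (nat_lit 356) (Tr.nd (nat_lit 355) (Tr.lf (nat_lit 317)) (Tr.lf (nat_lit 349))) (Tr.nd (nat_lit 357) (Tr.lf (nat_lit 303)) (Tr.nd (nat_lit 358) (Tr.lf (nat_lit 296)) (Tr.lf (nat_lit 292))))))) (Tr.nd (nat_lit 367) (Tr.nd (nat_lit 363) (Tr.nd (nat_lit 361) (Tr.nd (nat_lit 360) (Tr.lf (nat_lit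 321)) (Tr.lf (nat_lit 344))) (Tr.nd (nat_lit 362) (Tr.lf (nat_lit 358)) (Tr.lf (nat_lit 361)))) (Tr.nd (nat_lit 365) (Tr.nd (nat_lit 364) (Tr.lf (nat_lit 357)) (Tr.lf (nat_lit 308))) (Tr.nd (nat_lit 366) (Tr.lf (nat_lit 342)) (Tr.lf (nat_lit 308))))) (Tr.nd (nat_lit 371) (Tr.nd (nat_lit 369) (Tr.nd (nat_lit 368) (Tr.lf (nat_lit 310)) (Tr.lf (nat_lit 360))) (Tr.nd (nat_lit 370) (Tr.lf (nat_lit 368)) (Tr.lf (nat_lit 366)))) (Tr.nd (nat_lit 373) (Tr.nd (nat_lit 372) (Tr.lf (nat_lit 322)) (Tr.lf (nat_lit 329))) (Tr.nd (nat_lit 374) (Tr.lf (nat_lit 329)) (Tr.nd (nat_lit 375) (Tr.lf (nat_lit 371)) (Tr.lf (nat_lit 296)))))))) (Tr.nd (nat_lit 393) (Tr.nd (nat_lit 384) (Tr.nd (nat_lit 380) (Tr.nd (nat_lit 378) (Tr.nd (nat_lit 377) (Tr.lf (nat_lit 327)) (Tr.lf (nat_lit 372))) (Tr.nd (nat_lit 379) (Tr.lf (nat_lit 312)) (Tr.lf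 (nat_lit 374)))) (Tr.nd (nat_lit 382) (Tr.nd (nat_lit 381) (Tr.lf (nat_lit 376)) (Tr.lf (nat_lit 326))) (Tr.nd (nat_lit 383) (Tr.lf (nat_lit 381)) (Tr.lf (nat_lit 324))))) (Tr.nd (nat_lit 388) (Tr.nd (nat_lit 386) (Tr.nd (nat_lit 385) (Tr.lf (nat_lit 361)) (Tr.lf (nat_lit 333))) (Tr.nd (nat_lit 387) (Tr.lf (nat_lit 357)) (Tr.lf (nat_lit 331)))) (Tr.nd (nat_lit 390) (Tr.nd (nat_lit 389) (Tr.lf (nat_lit 384)) (Tr.lf (nat_lit 361))) (Tr.nd (nat_lit 391) (Tr.lf (nat_lit 346)) (Tr.nd (nat_lit 392) (Tr.lf (nat_lit 334)) (Tr.lf (nat_lit 362))))))) (Tr.nd (nat_lit 402) (Tr.nd (nat_lit 397) (Tr.nd (nat_lit 395) (Tr.nd (nat_lit 394) (Tr.lf (nat_lit 359)) (Tr.lf (nat_lit 326))) (Tr.nd (nat_lit 396) (Tr.lf (nat_lit 391)) (Tr.lf (nat_lit 383)))) (Tr.nd (nat_lit 399) (Tr.nd (nat_lit 398) (Tr.lf (nat_lit 394)) (Tr.lf (nat_lit 369)))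 (Tr.nd (nat_lit 400) (Tr.lf (nat_lit 368)) (Tr.nd (nat_lit 401) (Tr.lf (nat_lit 381)) (Tr.lf (nat_lit 365)))))) (Tr.nd (nat_lit 406) (Tr.nd (nat_lit 404) (Tr.nd (nat_lit 403) (Tr.lf (nat_lit 335)) (Tr.lf (nat_lit 400))) (Tr.nd (nat_lit 405) (Tr.lf (nat_lit 394)) (Tr.lf (nat_lit 352)))) (Tr.nd (nat_lit 408) (Tr.nd (nat_lit 407) (Tr.lf (nat_lit 402)) (Tr.lf (nat_lit 406))) (Tr.nd (nat_lit 409) (Tr.lf (nat_lit 397)) (Tr.nd (nat_lit 410) (Tr.lf (nat_lit 385)) (Tr.lf (nat_lit 382)))))))))) (Tr.nd (nat_lit 479) (Tr.nd (nat_lit 445) (Tr.nd (nat_lit 428) (Tr.nd (nat_lit 419) (Tr.nd (nat_lit 415) (Tr.nd (nat_lit 413) (Tr.nd (nat_lit 412) (Tr.lf (nat_lit 407)) (Tr.lf (nat_lit 354))) (Tr.nd (nat_lit 414) (Tr.lf (nat_lit 412)) (Tr.lf (nat_lit 379)))) (Tr.nd (nat_lit 417) (Tr.nd (nat_lit 416) (Tr.lf (nat_lit 396)) (Tr.lf (nat_lit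 412))) (Tr.nd (nat_lit 418) (Tr.lf (nat_lit 387)) (Tr.lf (nat_lit 373))))) (Tr.nd (nat_lit 423) (Tr.nd (nat_lit 421) (Tr.nd (nat_lit 420) (Tr.lf (nat_lit 386)) (Tr.lf (nat_lit 340))) (Tr.nd (nat_lit 422) (Tr.lf (nat_lit 365)) (Tr.lf (nat_lit 412)))) (Tr.nd (nat_lit 425) (Tr.nd (nat_lit 424) (Tr.lf (nat_lit 400)) (Tr.lf (nat_lit 363))) (Tr.nd (nat_lit 426) (Tr.lf (nat_lit 409)) (Tr.nd (nat_lit 427) (Tr.lf (nat_lit 364)) (Tr.lf (nat_lit 319))))))) (Tr.nd (nat_lit 436) (Tr.nd (nat_lit 432) (Tr.nd (nat_lit 430) (Tr.nd (nat_lit 429) (Tr.lf (nat_lit 421)) (Tr.lf (nat_lit 423))) (Tr.nd (nat_lit 431) (Tr.lf (nat_lit 420)) (Tr.lf (nat_lit 351)))) (Tr.nd (nat_lit 434) (Tr.nd (nat_lit 433) (Tr.lf (nat_lit 348)) (Tr.lf (nat_lit 419))) (Tr.nd (nat_lit 435) (Tr.lf (nat_lit 426)) (Tr.lf (nat_lit 384))))) (Tr.nd (nat_lit 440) (Tr.nd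 (nat_lit 438) (Tr.nd (nat_lit 437) (Tr.lf (nat_lit 422)) (Tr.lf (nat_lit 370))) (Tr.nd (nat_lit 439) (Tr.lf (nat_lit 432)) (Tr.lf (nat_lit 412)))) (Tr.nd (nat_lit 442) (Tr.nd (nat_lit 441) (Tr.lf (nat_lit 433)) (Tr.lf (nat_lit 384))) (Tr.nd (nat_lit 443) (Tr.lf (nat_lit 440)) (Tr.nd (nat_lit 444) (Tr.lf (nat_lit 374)) (Tr.lf (nat_lit 369)))))))) (Tr.nd (nat_lit 462) (Tr.nd (nat_lit 453) (Tr.nd (nat_lit 449) (Tr.nd (nat_lit 447) (Tr.nd (nat_lit 446) (Tr.lf (nat_lit 435)) (Tr.lf (nat_lit 380))) (Tr.nd (nat_lit 448) (Tr.lf (nat_lit 443)) (Tr.lf (nat_lit 415)))) (Tr.nd (nat_lit 451) (Tr.nd (nat_lit 450) (Tr.lf (nat_lit 438)) (Tr.lf (nat_lit 396))) (Tr.nd (nat_lit 452) (Tr.lf (nat_lit 450)) (Tr.lf (nat_lit 376))))) (Tr.nd (nat_lit 457) (Tr.nd (nat_lit 455) (Tr.nd (nat_lit 454) (Tr.lf (nat_lit 389)) (Tr.lf (nat_lit 397)))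 (Tr.nd (nat_lit 456) (Tr.lf (nat_lit 451)) (Tr.lf (nat_lit 446)))) (Tr.nd (nat_lit 459) (Tr.nd (nat_lit 458) (Tr.lf (nat_lit 454)) (Tr.lf (nat_lit 395))) (Tr.nd (nat_lit 460) (Tr.lf (nat_lit 425)) (Tr.nd (nat_lit 461) (Tr.lf (nat_lit 453)) (Tr.lf (nat_lit 388))))))) (Tr.nd (nat_lit 470) (Tr.nd (nat_lit 466) (Tr.nd (nat_lit 464) (Tr.nd (nat_lit 463) (Tr.lf (nat_lit 403)) (Tr.lf (nat_lit 404))) (Tr.nd (nat_lit 465) (Tr.lf (nat_lit 461)) (Tr.lf (nat_lit 415)))) (Tr.nd (nat_lit 468) (Tr.nd (nat_lit 467) (Tr.lf (nat_lit 454)) (Tr.lf (nat_lit 454))) (Tr.nd (nat_lit 469) (Tr.lf (nat_lit 406)) (Tr.lf (nat_lit 453))))) (Tr.nd (nat_lit 474) (Tr.nd (nat_lit 472) (Tr.nd (nat_lit 471) (Tr.lf (nat_lit 466)) (Tr.lf (nat_lit 468))) (Tr.nd (nat_lit 473) (Tr.lf (nat_lit 402)) (Tr.lf (nat_lit 472)))) (Tr.nd (nat_lit 476) (Tr.nd (nat_lit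 475) (Tr.lf (nat_lit 415)) (Tr.lf (nat_lit 427))) (Tr.nd (nat_lit 477) (Tr.lf (nat_lit 474)) (Tr.nd (nat_lit 478) (Tr.lf (nat_lit 411)) (Tr.lf (nat_lit 475))))))))) (Tr.nd (nat_lit 513) (Tr.nd (nat_lit 496) (Tr.nd (nat_lit 487) (Tr.nd (nat_lit 483) (Tr.nd (nat_lit 481) (Tr.nd (nat_lit 480) (Tr.lf (nat_lit 376)) (Tr.lf (nat_lit 479))) (Tr.nd (nat_lit 482) (Tr.lf (nat_lit 418)) (Tr.lf (nat_lit 438)))) (Tr.nd (nat_lit 485) (Tr.nd (nat_lit 484) (Tr.lf (nat_lit 389)) (Tr.lf (nat_lit 483))) (Tr.nd (nat_lit 486) (Tr.lf (nat_lit 455)) (Tr.lf (nat_lit 455))))) (Tr.nd (nat_lit 491) (Tr.nd (nat_lit 489) (Tr.nd (nat_lit 488) (Tr.lf (nat_lit 448)) (Tr.lf (nat_lit 481))) (Tr.nd (nat_lit 490) (Tr.lf (nat_lit 477)) (Tr.lf (nat_lit 479)))) (Tr.nd (nat_lit 493) (Tr.nd (nat_lit 492) (Tr.lf (nat_lit 485)) (Tr.lf (nat_lit 482))) (Tr.nd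 (nat_lit 494) (Tr.lf (nat_lit 474)) (Tr.nd (nat_lit 495) (Tr.lf (nat_lit 460)) (Tr.lf (nat_lit 494))))))) (Tr.nd (nat_lit 504) (Tr.nd (nat_lit 500) (Tr.nd (nat_lit 498) (Tr.nd (nat_lit 497) (Tr.lf (nat_lit 471)) (Tr.lf (nat_lit 445))) (Tr.nd (nat_lit 499) (Tr.lf (nat_lit 492)) (Tr.lf (nat_lit 497)))) (Tr.nd (nat_lit 502) (Tr.nd (nat_lit 501) (Tr.lf (nat_lit 488)) (Tr.lf (nat_lit 447))) (Tr.nd (nat_lit 503) (Tr.lf (nat_lit 487)) (Tr.lf (nat_lit 497))))) (Tr.nd (nat_lit 508) (Tr.nd (nat_lit 506) (Tr.nd (nat_lit 505) (Tr.lf (nat_lit 476)) (Tr.lf (nat_lit 500))) (Tr.nd (nat_lit 507) (Tr.lf (nat_lit 502)) (Tr.lf (nat_lit 462)))) (Tr.nd (nat_lit 510) (Tr.nd (nat_lit 509) (Tr.lf (nat_lit 496)) (Tr.lf (nat_lit 496))) (Tr.nd (nat_lit 511) (Tr.lf (nat_lit 405)) (Tr.nd (nat_lit 512) (Tr.lf (nat_lit 505)) (Tr.lf (nat_lit 463))))))))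 (Tr.nd (nat_lit 530) (Tr.nd (nat_lit 521) (Tr.nd (nat_lit 517) (Tr.nd (nat_lit 515) (Tr.nd (nat_lit 514) (Tr.lf (nat_lit 510)) (Tr.lf (nat_lit 446))) (Tr.nd (nat_lit 516) (Tr.lf (nat_lit 472)) (Tr.lf (nat_lit 467)))) (Tr.nd (nat_lit 519) (Tr.nd (nat_lit 518) (Tr.lf (nat_lit 443)) (Tr.lf (nat_lit 508))) (Tr.nd (nat_lit 520) (Tr.lf (nat_lit 510)) (Tr.lf (nat_lit 518))))) (Tr.nd (nat_lit 525) (Tr.nd (nat_lit 523) (Tr.nd (nat_lit 522) (Tr.lf (nat_lit 509)) (Tr.lf (nat_lit 508))) (Tr.nd (nat_lit 524) (Tr.lf (nat_lit 519)) (Tr.lf (nat_lit 516)))) (Tr.nd (nat_lit 527) (Tr.nd (nat_lit 526) (Tr.lf (nat_lit 441)) (Tr.lf (nat_lit 525))) (Tr.nd (nat_lit 528) (Tr.lf (nat_lit 455)) (Tr.nd (nat_lit 529) (Tr.lf (nat_lit 525)) (Tr.lf (nat_lit 492))))))) (Tr.nd (nat_lit 539) (Tr.nd (nat_lit 534) (Tr.nd (nat_lit 532) (Tr.nd (nat_lit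 531) (Tr.lf (nat_lit 518)) (Tr.lf (nat_lit 485))) (Tr.nd (nat_lit 533) (Tr.lf (nat_lit 465)) (Tr.lf (nat_lit 493)))) (Tr.nd (nat_lit 536) (Tr.nd (nat_lit 535) (Tr.lf (nat_lit 489)) (Tr.lf (nat_lit 509))) (Tr.nd (nat_lit 537) (Tr.lf (nat_lit 531)) (Tr.nd (nat_lit 538) (Tr.lf (nat_lit 527)) (Tr.lf (nat_lit 534)))))) (Tr.nd (nat_lit 543) (Tr.nd (nat_lit 541) (Tr.nd (nat_lit 540) (Tr.lf (nat_lit 526)) (Tr.lf (nat_lit 537))) (Tr.nd (nat_lit 542) (Tr.lf (nat_lit 503)) (Tr.lf (nat_lit 536)))) (Tr.nd (nat_lit 545) (Tr.nd (nat_lit 544) (Tr.lf (nat_lit 501)) (Tr.lf (nat_lit 529))) (Tr.nd (nat_lit 546) (Tr.lf (nat_lit 504)) (Tr.nd (nat_lit 547) (Tr.lf (nat_lit 545)) (Tr.lf (nat_lit 524))))))))))))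
noncomputable def mini3Q : Tr ℕ := (Tr.nd (nat_lit 274) (Tr.nd (nat_lit 137) (Tr.nd (nat_lit 68) (Tr.nd (nat_lit 34) (Tr.nd (nat_lit 17) (Tr.nd (nat_lit 8) (Tr.nd (nat_lit 4) (Tr.nd (nat_lit 2) (Tr.nd (nat_lit 1) (Tr.lf (nat_lit 0)) (Tr.lf (nat_lit 6))) (Tr.nd (nat_lit 3) (Tr.lf (nat_lit 1)) (Tr.lf (nat_lit 0)))) (Tr.nd (nat_lit 6) (Tr.nd (nat_lit 5) (Tr.lf (nat_lit 5)) (Tr.lf (nat_lit 2))) (Tr.nd (nat_lit 7) (Tr.lf (nat_lit 1)) (Tr.lf (nat_lit 0))))) (Tr.nd (nat_lit 12) (Tr.nd (nat_lit 10) (Tr.nd (nat_lit 9) (Tr.lf (nat_lit 6)) (Tr.lf (nat_lit 1))) (Tr.nd (nat_lit 11) (Tr.lf (nat_lit 2)) (Tr.lf (nat_lit 3)))) (Tr.nd (nat_lit 14) (Tr.nd (nat_lit 13) (Tr.lf (nat_lit 5)) (Tr.lf (nat_lit 1))) (Tr.nd (nat_lit 15) (Tr.lf (nat_lit 6)) (Tr.nd (nat_lit 16) (Tr.lf (nat_lit 3)) (Tr.lf (nat_lit 4))))))) (Tr.nd (nat_lit 25)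 (Tr.nd (nat_lit 21) (Tr.nd (nat_lit 19) (Tr.nd (nat_lit 18) (Tr.lf (nat_lit 6)) (Tr.lf (nat_lit 5))) (Tr.nd (nat_lit 20) (Tr.lf (nat_lit 1)) (Tr.lf (nat_lit 2)))) (Tr.nd (nat_lit 23) (Tr.nd (nat_lit 22) (Tr.lf (nat_lit 3)) (Tr.lf (nat_lit 2))) (Tr.nd (nat_lit 24) (Tr.lf (nat_lit 1)) (Tr.lf (nat_lit 5))))) (Tr.nd (nat_lit 29) (Tr.nd (nat_lit 27) (Tr.nd (nat_lit 26) (Tr.lf (nat_lit 0)) (Tr.lf (nat_lit 0))) (Tr.nd (nat_lit 28) (Tr.lf (nat_lit 0)) (Tr.lf (nat_lit 0)))) (Tr.nd (nat_lit 31) (Tr.nd (nat_lit 30) (Tr.lf (nat_lit 1)) (Tr.lf (nat_lit 4))) (Tr.nd (nat_lit 32) (Tr.lf (nat_lit 6)) (Tr.nd (nat_lit 33) (Tr.lf (nat_lit 5)) (Tr.lf (nat_lit 3)))))))) (Tr.nd (nat_lit 51) (Tr.nd (nat_lit 42) (Tr.nd (nat_lit 38) (Tr.nd (nat_lit 36) (Tr.nd (nat_lit 35) (Tr.lf (nat_lit 4)) (Tr.lf (nat_lit 0))) (Tr.nd (nat_lit 37) (Tr.lf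 (nat_lit 1)) (Tr.lf (nat_lit 3)))) (Tr.nd (nat_lit 40) (Tr.nd (nat_lit 39) (Tr.lf (nat_lit 6)) (Tr.lf (nat_lit 6))) (Tr.nd (nat_lit 41) (Tr.lf (nat_lit 3)) (Tr.lf (nat_lit 1))))) (Tr.nd (nat_lit 46) (Tr.nd (nat_lit 44) (Tr.nd (nat_lit 43) (Tr.lf (nat_lit 4)) (Tr.lf (nat_lit 6))) (Tr.nd (nat_lit 45) (Tr.lf (nat_lit 6)) (Tr.lf (nat_lit 6)))) (Tr.nd (nat_lit 48) (Tr.nd (nat_lit 47) (Tr.lf (nat_lit 5)) (Tr.lf (nat_lit 5))) (Tr.nd (nat_lit 49) (Tr.lf (nat_lit 4)) (Tr.nd (nat_lit 50) (Tr.lf (nat_lit 4)) (Tr.lf (nat_lit 4))))))) (Tr.nd (nat_lit 59) (Tr.nd (nat_lit 55) (Tr.nd (nat_lit 53) (Tr.nd (nat_lit 52) (Tr.lf (nat_lit 2)) (Tr.lf (nat_lit 2))) (Tr.nd (nat_lit 54) (Tr.lf (nat_lit 1)) (Tr.lf (nat_lit 4)))) (Tr.nd (nat_lit 57) (Tr.nd (nat_lit 56) (Tr.lf (nat_lit 4)) (Tr.lf (nat_lit 2))) (Tr.nd (nat_lit 58) (Tr.lf (nat_lit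 4)) (Tr.lf (nat_lit 2))))) (Tr.nd (nat_lit 63) (Tr.nd (nat_lit 61) (Tr.nd (nat_lit 60) (Tr.lf (nat_lit 5)) (Tr.lf (nat_lit 3))) (Tr.nd (nat_lit 62) (Tr.lf (nat_lit 2)) (Tr.lf (nat_lit 2)))) (Tr.nd (nat_lit 65) (Tr.nd (nat_lit 64) (Tr.lf (nat_lit 4)) (Tr.lf (nat_lit 4))) (Tr.nd (nat_lit 66) (Tr.lf (nat_lit 2)) (Tr.nd (nat_lit 67) (Tr.lf (nat_lit 0)) (Tr.lf (nat_lit 2))))))))) (Tr.nd (nat_lit 102) (Tr.nd (nat_lit 85) (Tr.nd (nat_lit 76) (Tr.nd (nat_lit 72) (Tr.nd (nat_lit 70) (Tr.nd (nat_lit 69) (Tr.lf (nat_lit 4)) (Tr.lf (nat_lit 2))) (Tr.nd (nat_lit 71) (Tr.lf (nat_lit 2)) (Tr.lf (nat_lit 6)))) (Tr.nd (nat_lit 74) (Tr.nd (nat_lit 73) (Tr.lf (nat_lit 4)) (Tr.lf (nat_lit 6))) (Tr.nd (nat_lit 75) (Tr.lf (nat_lit 0)) (Tr.lf (nat_lit 1))))) (Tr.nd (nat_lit 80) (Tr.nd (nat_lit 78) (Tr.nd (nat_lit 77) (Tr.lf (nat_lit 6))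 (Tr.lf (nat_lit 5))) (Tr.nd (nat_lit 79) (Tr.lf (nat_lit 4)) (Tr.lf (nat_lit 2)))) (Tr.nd (nat_lit 82) (Tr.nd (nat_lit 81) (Tr.lf (nat_lit 3)) (Tr.lf (nat_lit 2))) (Tr.nd (nat_lit 83) (Tr.lf (nat_lit 4)) (Tr.nd (nat_lit 84) (Tr.lf (nat_lit 5)) (Tr.lf (nat_lit 6))))))) (Tr.nd (nat_lit 93) (Tr.nd (nat_lit 89) (Tr.nd (nat_lit 87) (Tr.nd (nat_lit 86) (Tr.lf (nat_lit 2)) (Tr.lf (nat_lit 0))) (Tr.nd (nat_lit 88) (Tr.lf (nat_lit 1)) (Tr.lf (nat_lit 1)))) (Tr.nd (nat_lit 91) (Tr.nd (nat_lit 90) (Tr.lf (nat_lit 1)) (Tr.lf (nat_lit 3))) (Tr.nd (nat_lit 92) (Tr.lf (nat_lit 3)) (Tr.lf (nat_lit 3))))) (Tr.nd (nat_lit 97) (Tr.nd (nat_lit 95) (Tr.nd (nat_lit 94) (Tr.lf (nat_lit 3)) (Tr.lf (nat_lit 6))) (Tr.nd (nat_lit 96) (Tr.lf (nat_lit 1)) (Tr.lf (nat_lit 1)))) (Tr.nd (nat_lit 99) (Tr.nd (nat_lit 98) (Tr.lf (nat_lit 1)) (Tr.lf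 (nat_lit 0))) (Tr.nd (nat_lit 100) (Tr.lf (nat_lit 1)) (Tr.nd (nat_lit 101) (Tr.lf (nat_lit 1)) (Tr.lf (nat_lit 5)))))))) (Tr.nd (nat_lit 119) (Tr.nd (nat_lit 110) (Tr.nd (nat_lit 106) (Tr.nd (nat_lit 104) (Tr.nd (nat_lit 103) (Tr.lf (nat_lit 1)) (Tr.lf (nat_lit 4))) (Tr.nd (nat_lit 105) (Tr.lf (nat_lit 1)) (Tr.lf (nat_lit 0)))) (Tr.nd (nat_lit 108) (Tr.nd (nat_lit 107) (Tr.lf (nat_lit 1)) (Tr.lf (nat_lit 3))) (Tr.nd (nat_lit 109) (Tr.lf (nat_lit 0)) (Tr.lf (nat_lit 1))))) (Tr.nd (nat_lit 114) (Tr.nd (nat_lit 112) (Tr.nd (nat_lit 111) (Tr.lf (nat_lit 4)) (Tr.lf (nat_lit 2))) (Tr.nd (nat_lit 113) (Tr.lf (nat_lit 3)) (Tr.lf (nat_lit 1)))) (Tr.nd (nat_lit 116) (Tr.nd (nat_lit 115) (Tr.lf (nat_lit 4)) (Tr.lf (nat_lit 4))) (Tr.nd (nat_lit 117) (Tr.lf (nat_lit 1)) (Tr.nd (nat_lit 118) (Tr.lf (nat_lit 2)) (Tr.lf (nat_lit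 4))))))) (Tr.nd (nat_lit 128) (Tr.nd (nat_lit 123) (Tr.nd (nat_lit 121) (Tr.nd (nat_lit 120) (Tr.lf (nat_lit 2)) (Tr.lf (nat_lit 4))) (Tr.nd (nat_lit 122) (Tr.lf (nat_lit 1)) (Tr.lf (nat_lit 1)))) (Tr.nd (nat_lit 125) (Tr.nd (nat_lit 124) (Tr.lf (nat_lit 3)) (Tr.lf (nat_lit 3))) (Tr.nd (nat_lit 126) (Tr.lf (nat_lit 0)) (Tr.nd (nat_lit 127) (Tr.lf (nat_lit 6)) (Tr.lf (nat_lit 4)))))) (Tr.nd (nat_lit 132) (Tr.nd (nat_lit 130) (Tr.nd (nat_lit 129) (Tr.lf (nat_lit 6)) (Tr.lf (nat_lit 4))) (Tr.nd (nat_lit 131) (Tr.lf (nat_lit 0)) (Tr.lf (nat_lit 1)))) (Tr.nd (nat_lit 134) (Tr.nd (nat_lit 133) (Tr.lf (nat_lit 3)) (Tr.lf (nat_lit 6))) (Tr.nd (nat_lit 135) (Tr.lf (nat_lit 6)) (Tr.nd (nat_lit 136) (Tr.lf (nat_lit 5)) (Tr.lf (nat_lit 0)))))))))) (Tr.nd (nat_lit 205) (Tr.nd (nat_lit 171) (Tr.nd (nat_lit 154) (Tr.nd (nat_lit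 145) (Tr.nd (nat_lit 141) (Tr.nd (nat_lit 139) (Tr.nd (nat_lit 138) (Tr.lf (nat_lit 3)) (Tr.lf (nat_lit 1))) (Tr.nd (nat_lit 140) (Tr.lf (nat_lit 2)) (Tr.lf (nat_lit 3)))) (Tr.nd (nat_lit 143) (Tr.nd (nat_lit 142) (Tr.lf (nat_lit 0)) (Tr.lf (nat_lit 5))) (Tr.nd (nat_lit 144) (Tr.lf (nat_lit 3)) (Tr.lf (nat_lit 6))))) (Tr.nd (nat_lit 149) (Tr.nd (nat_lit 147) (Tr.nd (nat_lit 146) (Tr.lf (nat_lit 3)) (Tr.lf (nat_lit 4))) (Tr.nd (nat_lit 148) (Tr.lf (nat_lit 3)) (Tr.lf (nat_lit 3)))) (Tr.nd (nat_lit 151) (Tr.nd (nat_lit 150) (Tr.lf (nat_lit 0)) (Tr.lf (nat_lit 4))) (Tr.nd (nat_lit 152) (Tr.lf (nat_lit 1)) (Tr.nd (nat_lit 153) (Tr.lf (nat_lit 2)) (Tr.lf (nat_lit 1))))))) (Tr.nd (nat_lit 162) (Tr.nd (nat_lit 158) (Tr.nd (nat_lit 156) (Tr.nd (nat_lit 155) (Tr.lf (nat_lit 5)) (Tr.lf (nat_lit 3))) (Tr.nd (nat_lit 157) (Tr.lf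 (nat_lit 3)) (Tr.lf (nat_lit 4)))) (Tr.nd (nat_lit 160) (Tr.nd (nat_lit 159) (Tr.lf (nat_lit 3)) (Tr.lf (nat_lit 3))) (Tr.nd (nat_lit 161) (Tr.lf (nat_lit 3)) (Tr.lf (nat_lit 4))))) (Tr.nd (nat_lit 166) (Tr.nd (nat_lit 164) (Tr.nd (nat_lit 163) (Tr.lf (nat_lit 6)) (Tr.lf (nat_lit 1))) (Tr.nd (nat_lit 165) (Tr.lf (nat_lit 2)) (Tr.lf (nat_lit 3)))) (Tr.nd (nat_lit 168) (Tr.nd (nat_lit 167) (Tr.lf (nat_lit 1)) (Tr.lf (nat_lit 5))) (Tr.nd (nat_lit 169) (Tr.lf (nat_lit 1)) (Tr.nd (nat_lit 170) (Tr.lf (nat_lit 1)) (Tr.lf (nat_lit 2)))))))) (Tr.nd (nat_lit 188) (Tr.nd (nat_lit 179) (Tr.nd (nat_lit 175) (Tr.nd (nat_lit 173) (Tr.nd (nat_lit 172) (Tr.lf (nat_lit 6)) (Tr.lf (nat_lit 6))) (Tr.nd (nat_lit 174) (Tr.lf (nat_lit 3)) (Tr.lf (nat_lit 3)))) (Tr.nd (nat_lit 177) (Tr.nd (nat_lit 176) (Tr.lf (nat_lit 5)) (Tr.lf (nat_lit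 1))) (Tr.nd (nat_lit 178) (Tr.lf (nat_lit 2)) (Tr.lf (nat_lit 1))))) (Tr.nd (nat_lit 183) (Tr.nd (nat_lit 181) (Tr.nd (nat_lit 180) (Tr.lf (nat_lit 1)) (Tr.lf (nat_lit 6))) (Tr.nd (nat_lit 182) (Tr.lf (nat_lit 0)) (Tr.lf (nat_lit 1)))) (Tr.nd (nat_lit 185) (Tr.nd (nat_lit 184) (Tr.lf (nat_lit 1)) (Tr.lf (nat_lit 1))) (Tr.nd (nat_lit 186) (Tr.lf (nat_lit 0)) (Tr.nd (nat_lit 187) (Tr.lf (nat_lit 1)) (Tr.lf (nat_lit 2))))))) (Tr.nd (nat_lit 196) (Tr.nd (nat_lit 192) (Tr.nd (nat_lit 190) (Tr.nd (nat_lit 189) (Tr.lf (nat_lit 1)) (Tr.lf (nat_lit 1))) (Tr.nd (nat_lit 191) (Tr.lf (nat_lit 3)) (Tr.lf (nat_lit 3)))) (Tr.nd (nat_lit 194) (Tr.nd (nat_lit 193) (Tr.lf (nat_lit 3)) (Tr.lf (nat_lit 3))) (Tr.nd (nat_lit 195) (Tr.lf (nat_lit 1)) (Tr.lf (nat_lit 1))))) (Tr.nd (nat_lit 200) (Tr.nd (nat_lit 198) (Tr.nd (nat_lit 197)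 (Tr.lf (nat_lit 3)) (Tr.lf (nat_lit 2))) (Tr.nd (nat_lit 199) (Tr.lf (nat_lit 5)) (Tr.lf (nat_lit 4)))) (Tr.nd (nat_lit 202) (Tr.nd (nat_lit 201) (Tr.lf (nat_lit 1)) (Tr.lf (nat_lit 1))) (Tr.nd (nat_lit 203) (Tr.lf (nat_lit 0)) (Tr.nd (nat_lit 204) (Tr.lf (nat_lit 4)) (Tr.lf (nat_lit 1))))))))) (Tr.nd (nat_lit 239) (Tr.nd (nat_lit 222) (Tr.nd (nat_lit 213) (Tr.nd (nat_lit 209) (Tr.nd (nat_lit 207) (Tr.nd (nat_lit 206) (Tr.lf (nat_lit 1)) (Tr.lf (nat_lit 6))) (Tr.nd (nat_lit 208) (Tr.lf (nat_lit 1)) (Tr.lf (nat_lit 2)))) (Tr.nd (nat_lit 211) (Tr.nd (nat_lit 210) (Tr.lf (nat_lit 5)) (Tr.lf (nat_lit 3))) (Tr.nd (nat_lit 212) (Tr.lf (nat_lit 1)) (Tr.lf (nat_lit 3))))) (Tr.nd (nat_lit 217) (Tr.nd (nat_lit 215) (Tr.nd (nat_lit 214) (Tr.lf (nat_lit 4)) (Tr.lf (nat_lit 1))) (Tr.nd (nat_lit 216) (Tr.lf (nat_lit 1)) (Tr.lf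 (nat_lit 3)))) (Tr.nd (nat_lit 219) (Tr.nd (nat_lit 218) (Tr.lf (nat_lit 6)) (Tr.lf (nat_lit 3))) (Tr.nd (nat_lit 220) (Tr.lf (nat_lit 1)) (Tr.nd (nat_lit 221) (Tr.lf (nat_lit 5)) (Tr.lf (nat_lit 3))))))) (Tr.nd (nat_lit 230) (Tr.nd (nat_lit 226) (Tr.nd (nat_lit 224) (Tr.nd (nat_lit 223) (Tr.lf (nat_lit 5)) (Tr.lf (nat_lit 5))) (Tr.nd (nat_lit 225) (Tr.lf (nat_lit 2)) (Tr.lf (nat_lit 4)))) (Tr.nd (nat_lit 228) (Tr.nd (nat_lit 227) (Tr.lf (nat_lit 5)) (Tr.lf (nat_lit 4))) (Tr.nd (nat_lit 229) (Tr.lf (nat_lit 3)) (Tr.lf (nat_lit 5))))) (Tr.nd (nat_lit 234) (Tr.nd (nat_lit 232) (Tr.nd (nat_lit 231) (Tr.lf (nat_lit 3)) (Tr.lf (nat_lit 3))) (Tr.nd (nat_lit 233) (Tr.lf (nat_lit 6)) (Tr.lf (nat_lit 4)))) (Tr.nd (nat_lit 236) (Tr.nd (nat_lit 235) (Tr.lf (nat_lit 5)) (Tr.lf (nat_lit 5))) (Tr.nd (nat_lit 237) (Tr.lf (nat_lit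 5)) (Tr.nd (nat_lit 238) (Tr.lf (nat_lit 1)) (Tr.lf (nat_lit 2)))))))) (Tr.nd (nat_lit 256) (Tr.nd (nat_lit 247) (Tr.nd (nat_lit 243) (Tr.nd (nat_lit 241) (Tr.nd (nat_lit 240) (Tr.lf (nat_lit 3)) (Tr.lf (nat_lit 0))) (Tr.nd (nat_lit 242) (Tr.lf (nat_lit 6)) (Tr.lf (nat_lit 3)))) (Tr.nd (nat_lit 245) (Tr.nd (nat_lit 244) (Tr.lf (nat_lit 1)) (Tr.lf (nat_lit 6))) (Tr.nd (nat_lit 246) (Tr.lf (nat_lit 4)) (Tr.lf (nat_lit 0))))) (Tr.nd (nat_lit 251) (Tr.nd (nat_lit 249) (Tr.nd (nat_lit 248) (Tr.lf (nat_lit 5)) (Tr.lf (nat_lit 5))) (Tr.nd (nat_lit 250) (Tr.lf (nat_lit 2)) (Tr.lf (nat_lit 5)))) (Tr.nd (nat_lit 253) (Tr.nd (nat_lit 252) (Tr.lf (nat_lit 0)) (Tr.lf (nat_lit 6))) (Tr.nd (nat_lit 254) (Tr.lf (nat_lit 1)) (Tr.nd (nat_lit 255) (Tr.lf (nat_lit 3)) (Tr.lf (nat_lit 1))))))) (Tr.nd (nat_lit 265) (Tr.nd (nat_lit 260)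 (Tr.nd (nat_lit 258) (Tr.nd (nat_lit 257) (Tr.lf (nat_lit 5)) (Tr.lf (nat_lit 2))) (Tr.nd (nat_lit 259) (Tr.lf (nat_lit 5)) (Tr.lf (nat_lit 3)))) (Tr.nd (nat_lit 262) (Tr.nd (nat_lit 261) (Tr.lf (nat_lit 1)) (Tr.lf (nat_lit 5))) (Tr.nd (nat_lit 263) (Tr.lf (nat_lit 2)) (Tr.nd (nat_lit 264) (Tr.lf (nat_lit 3)) (Tr.lf (nat_lit 3)))))) (Tr.nd (nat_lit 269) (Tr.nd (nat_lit 267) (Tr.nd (nat_lit 266) (Tr.lf (nat_lit 0)) (Tr.lf (nat_lit 3))) (Tr.nd (nat_lit 268) (Tr.lf (nat_lit 3)) (Tr.lf (nat_lit 1)))) (Tr.nd (nat_lit 271) (Tr.nd (nat_lit 270) (Tr.lf (nat_lit 0)) (Tr.lf (nat_lit 5))) (Tr.nd (nat_lit 272) (Tr.lf (nat_lit 2)) (Tr.nd (nat_lit 273) (Tr.lf (nat_lit 0)) (Tr.lf (nat_lit 3))))))))))) (Tr.nd (nat_lit 411) (Tr.nd (nat_lit 342) (Tr.nd (nat_lit 308) (Tr.nd (nat_lit 291) (Tr.nd (nat_lit 282) (Tr.nd (nat_lit 278) (Tr.nd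 (nat_lit 276) (Tr.nd (nat_lit 275) (Tr.lf (nat_lit 4)) (Tr.lf (nat_lit 6))) (Tr.nd (nat_lit 277) (Tr.lf (nat_lit 6)) (Tr.lf (nat_lit 5)))) (Tr.nd (nat_lit 280) (Tr.nd (nat_lit 279) (Tr.lf (nat_lit 3)) (Tr.lf (nat_lit 0))) (Tr.nd (nat_lit 281) (Tr.lf (nat_lit 3)) (Tr.lf (nat_lit 3))))) (Tr.nd (nat_lit 286) (Tr.nd (nat_lit 284) (Tr.nd (nat_lit 283) (Tr.lf (nat_lit 2)) (Tr.lf (nat_lit 3))) (Tr.nd (nat_lit 285) (Tr.lf (nat_lit 3)) (Tr.lf (nat_lit 6)))) (Tr.nd (nat_lit 288) (Tr.nd (nat_lit 287) (Tr.lf (nat_lit 0)) (Tr.lf (nat_lit 3))) (Tr.nd (nat_lit 289) (Tr.lf (nat_lit 3)) (Tr.nd (nat_lit 290) (Tr.lf (nat_lit 6)) (Tr.lf (nat_lit 5))))))) (Tr.nd (nat_lit 299) (Tr.nd (nat_lit 295) (Tr.nd (nat_lit 293) (Tr.nd (nat_lit 292) (Tr.lf (nat_lit 1)) (Tr.lf (nat_lit 1))) (Tr.nd (nat_lit 294) (Tr.lf (nat_lit 3)) (Tr.lf (nat_lit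 2)))) (Tr.nd (nat_lit 297) (Tr.nd (nat_lit 296) (Tr.lf (nat_lit 2)) (Tr.lf (nat_lit 1))) (Tr.nd (nat_lit 298) (Tr.lf (nat_lit 6)) (Tr.lf (nat_lit 0))))) (Tr.nd (nat_lit 303) (Tr.nd (nat_lit 301) (Tr.nd (nat_lit 300) (Tr.lf (nat_lit 2)) (Tr.lf (nat_lit 4))) (Tr.nd (nat_lit 302) (Tr.lf (nat_lit 0)) (Tr.lf (nat_lit 5)))) (Tr.nd (nat_lit 305) (Tr.nd (nat_lit 304) (Tr.lf (nat_lit 1)) (Tr.lf (nat_lit 0))) (Tr.nd (nat_lit 306) (Tr.lf (nat_lit 2)) (Tr.nd (nat_lit 307) (Tr.lf (nat_lit 2)) (Tr.lf (nat_lit 4)))))))) (Tr.nd (nat_lit 325) (Tr.nd (nat_lit 316) (Tr.nd (nat_lit 312) (Tr.nd (nat_lit 310) (Tr.nd (nat_lit 309) (Tr.lf (nat_lit 1)) (Tr.lf (nat_lit 2))) (Tr.nd (nat_lit 311) (Tr.lf (nat_lit 3)) (Tr.lf (nat_lit 1)))) (Tr.nd (nat_lit 314) (Tr.nd (nat_lit 313) (Tr.lf (nat_lit 3)) (Tr.lf (nat_lit 4))) (Tr.nd (nat_lit 315)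 (Tr.lf (nat_lit 2)) (Tr.lf (nat_lit 0))))) (Tr.nd (nat_lit 320) (Tr.nd (nat_lit 318) (Tr.nd (nat_lit 317) (Tr.lf (nat_lit 5)) (Tr.lf (nat_lit 2))) (Tr.nd (nat_lit 319) (Tr.lf (nat_lit 1)) (Tr.lf (nat_lit 2)))) (Tr.nd (nat_lit 322) (Tr.nd (nat_lit 321) (Tr.lf (nat_lit 5)) (Tr.lf (nat_lit 4))) (Tr.nd (nat_lit 323) (Tr.lf (nat_lit 3)) (Tr.nd (nat_lit 324) (Tr.lf (nat_lit 0)) (Tr.lf (nat_lit 2))))))) (Tr.nd (nat_lit 333) (Tr.nd (nat_lit 329) (Tr.nd (nat_lit 327) (Tr.nd (nat_lit 326) (Tr.lf (nat_lit 3)) (Tr.lf (nat_lit 3))) (Tr.nd (nat_lit 328) (Tr.lf (nat_lit 5)) (Tr.lf (nat_lit 2)))) (Tr.nd (nat_lit 331) (Tr.nd (nat_lit 330) (Tr.lf (nat_lit 3)) (Tr.lf (nat_lit 3))) (Tr.nd (nat_lit 332) (Tr.lf (nat_lit 2)) (Tr.lf (nat_lit 1))))) (Tr.nd (nat_lit 337) (Tr.nd (nat_lit 335) (Tr.nd (nat_lit 334) (Tr.lf (nat_lit 3)) (Tr.lf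 (nat_lit 2))) (Tr.nd (nat_lit 336) (Tr.lf (nat_lit 3)) (Tr.lf (nat_lit 1)))) (Tr.nd (nat_lit 339) (Tr.nd (nat_lit 338) (Tr.lf (nat_lit 2)) (Tr.lf (nat_lit 3))) (Tr.nd (nat_lit 340) (Tr.lf (nat_lit 1)) (Tr.nd (nat_lit 341) (Tr.lf (nat_lit 1)) (Tr.lf (nat_lit 2))))))))) (Tr.nd (nat_lit 376) (Tr.nd (nat_lit 359) (Tr.nd (nat_lit 350) (Tr.nd (nat_lit 346) (Tr.nd (nat_lit 344) (Tr.nd (nat_lit 343) (Tr.lf (nat_lit 1)) (Tr.lf (nat_lit 5))) (Tr.nd (nat_lit 345) (Tr.lf (nat_lit 6)) (Tr.lf (nat_lit 2)))) (Tr.nd (nat_lit 348) (Tr.nd (nat_lit 347) (Tr.lf (nat_lit 2)) (Tr.lf (nat_lit 6))) (Tr.nd (nat_lit 349) (Tr.lf (nat_lit 2)) (Tr.lf (nat_lit 0))))) (Tr.nd (nat_lit 354) (Tr.nd (nat_lit 352) (Tr.nd (nat_lit 351) (Tr.lf (nat_lit 0)) (Tr.lf (nat_lit 3))) (Tr.nd (nat_lit 353) (Tr.lf (nat_lit 3)) (Tr.lf (nat_lit 3)))) (Tr.nd (nat_lit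 356) (Tr.nd (nat_lit 355) (Tr.lf (nat_lit 3)) (Tr.lf (nat_lit 4))) (Tr.nd (nat_lit 357) (Tr.lf (nat_lit 2)) (Tr.nd (nat_lit 358) (Tr.lf (nat_lit 6)) (Tr.lf (nat_lit 2))))))) (Tr.nd (nat_lit 367) (Tr.nd (nat_lit 363) (Tr.nd (nat_lit 361) (Tr.nd (nat_lit 360) (Tr.lf (nat_lit 2)) (Tr.lf (nat_lit 2))) (Tr.nd (nat_lit 362) (Tr.lf (nat_lit 6)) (Tr.lf (nat_lit 4)))) (Tr.nd (nat_lit 365) (Tr.nd (nat_lit 364) (Tr.lf (nat_lit 3)) (Tr.lf (nat_lit 3))) (Tr.nd (nat_lit 366) (Tr.lf (nat_lit 5)) (Tr.lf (nat_lit 0))))) (Tr.nd (nat_lit 371) (Tr.nd (nat_lit 369) (Tr.nd (nat_lit 368) (Tr.lf (nat_lit 1)) (Tr.lf (nat_lit 6))) (Tr.nd (nat_lit 370) (Tr.lf (nat_lit 0)) (Tr.lf (nat_lit 3)))) (Tr.nd (nat_lit 373) (Tr.nd (nat_lit 372) (Tr.lf (nat_lit 4)) (Tr.lf (nat_lit 4))) (Tr.nd (nat_lit 374) (Tr.lf (nat_lit 1)) (Tr.nd (nat_lit 375) (Tr.lf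 (nat_lit 5)) (Tr.lf (nat_lit 0)))))))) (Tr.nd (nat_lit 393) (Tr.nd (nat_lit 384) (Tr.nd (nat_lit 380) (Tr.nd (nat_lit 378) (Tr.nd (nat_lit 377) (Tr.lf (nat_lit 1)) (Tr.lf (nat_lit 1))) (Tr.nd (nat_lit 379) (Tr.lf (nat_lit 1)) (Tr.lf (nat_lit 3)))) (Tr.nd (nat_lit 382) (Tr.nd (nat_lit 381) (Tr.lf (nat_lit 3)) (Tr.lf (nat_lit 4))) (Tr.nd (nat_lit 383) (Tr.lf (nat_lit 5)) (Tr.lf (nat_lit 1))))) (Tr.nd (nat_lit 388) (Tr.nd (nat_lit 386) (Tr.nd (nat_lit 385) (Tr.lf (nat_lit 3)) (Tr.lf (nat_lit 0))) (Tr.nd (nat_lit 387) (Tr.lf (nat_lit 5)) (Tr.lf (nat_lit 4)))) (Tr.nd (nat_lit 390) (Tr.nd (nat_lit 389) (Tr.lf (nat_lit 2)) (Tr.lf (nat_lit 1))) (Tr.nd (nat_lit 391) (Tr.lf (nat_lit 3)) (Tr.nd (nat_lit 392) (Tr.lf (nat_lit 3)) (Tr.lf (nat_lit 3))))))) (Tr.nd (nat_lit 402) (Tr.nd (nat_lit 397) (Tr.nd (nat_lit 395) (Tr.nd (nat_lit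 394) (Tr.lf (nat_lit 3)) (Tr.lf (nat_lit 1))) (Tr.nd (nat_lit 396) (Tr.lf (nat_lit 1)) (Tr.lf (nat_lit 2)))) (Tr.nd (nat_lit 399) (Tr.nd (nat_lit 398) (Tr.lf (nat_lit 5)) (Tr.lf (nat_lit 3))) (Tr.nd (nat_lit 400) (Tr.lf (nat_lit 3)) (Tr.nd (nat_lit 401) (Tr.lf (nat_lit 1)) (Tr.lf (nat_lit 3)))))) (Tr.nd (nat_lit 406) (Tr.nd (nat_lit 404) (Tr.nd (nat_lit 403) (Tr.lf (nat_lit 1)) (Tr.lf (nat_lit 2))) (Tr.nd (nat_lit 405) (Tr.lf (nat_lit 2)) (Tr.lf (nat_lit 1)))) (Tr.nd (nat_lit 408) (Tr.nd (nat_lit 407) (Tr.lf (nat_lit 3)) (Tr.lf (nat_lit 2))) (Tr.nd (nat_lit 409) (Tr.lf (nat_lit 1)) (Tr.nd (nat_lit 410) (Tr.lf (nat_lit 2)) (Tr.lf (nat_lit 1)))))))))) (Tr.nd (nat_lit 479) (Tr.nd (nat_lit 445) (Tr.nd (nat_lit 428) (Tr.nd (nat_lit 419) (Tr.nd (nat_lit 415) (Tr.nd (nat_lit 413) (Tr.nd (nat_lit 412) (Tr.lf (nat_lit 4))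 (Tr.lf (nat_lit 1))) (Tr.nd (nat_lit 414) (Tr.lf (nat_lit 4)) (Tr.lf (nat_lit 1)))) (Tr.nd (nat_lit 417) (Tr.nd (nat_lit 416) (Tr.lf (nat_lit 3)) (Tr.lf (nat_lit 0))) (Tr.nd (nat_lit 418) (Tr.lf (nat_lit 1)) (Tr.lf (nat_lit 0))))) (Tr.nd (nat_lit 423) (Tr.nd (nat_lit 421) (Tr.nd (nat_lit 420) (Tr.lf (nat_lit 3)) (Tr.lf (nat_lit 5))) (Tr.nd (nat_lit 422) (Tr.lf (nat_lit 0)) (Tr.lf (nat_lit 2)))) (Tr.nd (nat_lit 425) (Tr.nd (nat_lit 424) (Tr.lf (nat_lit 0)) (Tr.lf (nat_lit 0))) (Tr.nd (nat_lit 426) (Tr.lf (nat_lit 3)) (Tr.nd (nat_lit 427) (Tr.lf (nat_lit 2)) (Tr.lf (nat_lit 1))))))) (Tr.nd (nat_lit 436) (Tr.nd (nat_lit 432) (Tr.nd (nat_lit 430) (Tr.nd (nat_lit 429) (Tr.lf (nat_lit 3)) (Tr.lf (nat_lit 2))) (Tr.nd (nat_lit 431) (Tr.lf (nat_lit 1)) (Tr.lf (nat_lit 0)))) (Tr.nd (nat_lit 434) (Tr.nd (nat_lit 433) (Tr.lf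 (nat_lit 5)) (Tr.lf (nat_lit 6))) (Tr.nd (nat_lit 435) (Tr.lf (nat_lit 3)) (Tr.lf (nat_lit 4))))) (Tr.nd (nat_lit 440) (Tr.nd (nat_lit 438) (Tr.nd (nat_lit 437) (Tr.lf (nat_lit 1)) (Tr.lf (nat_lit 2))) (Tr.nd (nat_lit 439) (Tr.lf (nat_lit 1)) (Tr.lf (nat_lit 5)))) (Tr.nd (nat_lit 442) (Tr.nd (nat_lit 441) (Tr.lf (nat_lit 2)) (Tr.lf (nat_lit 1))) (Tr.nd (nat_lit 443) (Tr.lf (nat_lit 3)) (Tr.nd (nat_lit 444) (Tr.lf (nat_lit 1)) (Tr.lf (nat_lit 1)))))))) (Tr.nd (nat_lit 462) (Tr.nd (nat_lit 453) (Tr.nd (nat_lit 449) (Tr.nd (nat_lit 447) (Tr.nd (nat_lit 446) (Tr.lf (nat_lit 1)) (Tr.lf (nat_lit 5))) (Tr.nd (nat_lit 448) (Tr.lf (nat_lit 4)) (Tr.lf (nat_lit 4)))) (Tr.nd (nat_lit 451) (Tr.nd (nat_lit 450) (Tr.lf (nat_lit 2)) (Tr.lf (nat_lit 5))) (Tr.nd (nat_lit 452) (Tr.lf (nat_lit 3)) (Tr.lf (nat_lit 0))))) (Tr.nd (nat_lit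 457) (Tr.nd (nat_lit 455) (Tr.nd (nat_lit 454) (Tr.lf (nat_lit 0)) (Tr.lf (nat_lit 4))) (Tr.nd (nat_lit 456) (Tr.lf (nat_lit 1)) (Tr.lf (nat_lit 4)))) (Tr.nd (nat_lit 459) (Tr.nd (nat_lit 458) (Tr.lf (nat_lit 3)) (Tr.lf (nat_lit 2))) (Tr.nd (nat_lit 460) (Tr.lf (nat_lit 2)) (Tr.nd (nat_lit 461) (Tr.lf (nat_lit 3)) (Tr.lf (nat_lit 1))))))) (Tr.nd (nat_lit 470) (Tr.nd (nat_lit 466) (Tr.nd (nat_lit 464) (Tr.nd (nat_lit 463) (Tr.lf (nat_lit 5)) (Tr.lf (nat_lit 5))) (Tr.nd (nat_lit 465) (Tr.lf (nat_lit 4)) (Tr.lf (nat_lit 2)))) (Tr.nd (nat_lit 468) (Tr.nd (nat_lit 467) (Tr.lf (nat_lit 0)) (Tr.lf (nat_lit 1))) (Tr.nd (nat_lit 469) (Tr.lf (nat_lit 0)) (Tr.lf (nat_lit 5))))) (Tr.nd (nat_lit 474) (Tr.nd (nat_lit 472) (Tr.nd (nat_lit 471) (Tr.lf (nat_lit 2)) (Tr.lf (nat_lit 2))) (Tr.nd (nat_lit 473) (Tr.lf (nat_lit 2)) (Tr.lf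 (nat_lit 4)))) (Tr.nd (nat_lit 476) (Tr.nd (nat_lit 475) (Tr.lf (nat_lit 0)) (Tr.lf (nat_lit 0))) (Tr.nd (nat_lit 477) (Tr.lf (nat_lit 5)) (Tr.nd (nat_lit 478) (Tr.lf (nat_lit 0)) (Tr.lf (nat_lit 3))))))))) (Tr.nd (nat_lit 513) (Tr.nd (nat_lit 496) (Tr.nd (nat_lit 487) (Tr.nd (nat_lit 483) (Tr.nd (nat_lit 481) (Tr.nd (nat_lit 480) (Tr.lf (nat_lit 6)) (Tr.lf (nat_lit 0))) (Tr.nd (nat_lit 482) (Tr.lf (nat_lit 2)) (Tr.lf (nat_lit 6)))) (Tr.nd (nat_lit 485) (Tr.nd (nat_lit 484) (Tr.lf (nat_lit 6)) (Tr.lf (nat_lit 5))) (Tr.nd (nat_lit 486) (Tr.lf (nat_lit 0)) (Tr.lf (nat_lit 4))))) (Tr.nd (nat_lit 491) (Tr.nd (nat_lit 489) (Tr.nd (nat_lit 488) (Tr.lf (nat_lit 5)) (Tr.lf (nat_lit 0))) (Tr.nd (nat_lit 490) (Tr.lf (nat_lit 3)) (Tr.lf (nat_lit 5)))) (Tr.nd (nat_lit 493) (Tr.nd (nat_lit 492) (Tr.lf (nat_lit 6)) (Tr.lf (nat_lit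 3))) (Tr.nd (nat_lit 494) (Tr.lf (nat_lit 2)) (Tr.nd (nat_lit 495) (Tr.lf (nat_lit 4)) (Tr.lf (nat_lit 5))))))) (Tr.nd (nat_lit 504) (Tr.nd (nat_lit 500) (Tr.nd (nat_lit 498) (Tr.nd (nat_lit 497) (Tr.lf (nat_lit 3)) (Tr.lf (nat_lit 6))) (Tr.nd (nat_lit 499) (Tr.lf (nat_lit 0)) (Tr.lf (nat_lit 0)))) (Tr.nd (nat_lit 502) (Tr.nd (nat_lit 501) (Tr.lf (nat_lit 4)) (Tr.lf (nat_lit 2))) (Tr.nd (nat_lit 503) (Tr.lf (nat_lit 0)) (Tr.lf (nat_lit 5))))) (Tr.nd (nat_lit 508) (Tr.nd (nat_lit 506) (Tr.nd (nat_lit 505) (Tr.lf (nat_lit 2)) (Tr.lf (nat_lit 1))) (Tr.nd (nat_lit 507) (Tr.lf (nat_lit 6)) (Tr.lf (nat_lit 1)))) (Tr.nd (nat_lit 510) (Tr.nd (nat_lit 509) (Tr.lf (nat_lit 2)) (Tr.lf (nat_lit 4))) (Tr.nd (nat_lit 511) (Tr.lf (nat_lit 2)) (Tr.nd (nat_lit 512) (Tr.lf (nat_lit 5)) (Tr.lf (nat_lit 1)))))))) (Tr.nd (nat_lit 530)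 (Tr.nd (nat_lit 521) (Tr.nd (nat_lit 517) (Tr.nd (nat_lit 515) (Tr.nd (nat_lit 514) (Tr.lf (nat_lit 4)) (Tr.lf (nat_lit 2))) (Tr.nd (nat_lit 516) (Tr.lf (nat_lit 3)) (Tr.lf (nat_lit 2)))) (Tr.nd (nat_lit 519) (Tr.nd (nat_lit 518) (Tr.lf (nat_lit 2)) (Tr.lf (nat_lit 0))) (Tr.nd (nat_lit 520) (Tr.lf (nat_lit 5)) (Tr.lf (nat_lit 4))))) (Tr.nd (nat_lit 525) (Tr.nd (nat_lit 523) (Tr.nd (nat_lit 522) (Tr.lf (nat_lit 3)) (Tr.lf (nat_lit 3))) (Tr.nd (nat_lit 524) (Tr.lf (nat_lit 1)) (Tr.lf (nat_lit 1)))) (Tr.nd (nat_lit 527) (Tr.nd (nat_lit 526) (Tr.lf (nat_lit 2)) (Tr.lf (nat_lit 4))) (Tr.nd (nat_lit 528) (Tr.lf (nat_lit 2)) (Tr.nd (nat_lit 529) (Tr.lf (nat_lit 0)) (Tr.lf (nat_lit 2))))))) (Tr.nd (nat_lit 539) (Tr.nd (nat_lit 534) (Tr.nd (nat_lit 532) (Tr.nd (nat_lit 531) (Tr.lf (nat_lit 3)) (Tr.lf (nat_lit 2))) (Tr.nd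 (nat_lit 533) (Tr.lf (nat_lit 3)) (Tr.lf (nat_lit 3)))) (Tr.nd (nat_lit 536) (Tr.nd (nat_lit 535) (Tr.lf (nat_lit 2)) (Tr.lf (nat_lit 2))) (Tr.nd (nat_lit 537) (Tr.lf (nat_lit 6)) (Tr.nd (nat_lit 538) (Tr.lf (nat_lit 4)) (Tr.lf (nat_lit 3)))))) (Tr.nd (nat_lit 543) (Tr.nd (nat_lit 541) (Tr.nd (nat_lit 540) (Tr.lf (nat_lit 0)) (Tr.lf (nat_lit 0))) (Tr.nd (nat_lit 542) (Tr.lf (nat_lit 2)) (Tr.lf (nat_lit 3)))) (Tr.nd (nat_lit 545) (Tr.nd (nat_lit 544) (Tr.lf (nat_lit 3)) (Tr.lf (nat_lit 3))) (Tr.nd (nat_lit 546) (Tr.lf (nat_lit 3)) (Tr.nd (nat_lit 547) (Tr.lf (nat_lit 2)) (Tr.lf (nat_lit 0))))))))))))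
theorem mini3_alt : Tr.all (altChk idx inv RW (SW3)) mini3A = true := by decide +kernel
theorem mini3_chk : Tr.all (chkFc idx inv mini3S mini3A (fun b => Tr.find b mini3P) (fun b => Tr.find b mini3Q)) mini3S = true := by decide +kernel
theorem mini3_run : runM idx inv mini3S 1279 0 [Mv.f (nat_lit 4), Mv.f (nat_lit 5), Mv.f (nat_lit 6), Mv.b (nat_lit 14), Mv.b (nat_lit 13), Mv.f (nat_lit 45), Mv.f (nat_lit 46), Mv.f (nat_lit 48), Mv.f (nat_lit 50), Mv.f (nat_lit 51), Mv.f (nat_lit 52), Mv.f (nat_lit 1278), Mv.b (nat_lit 52), Mv.b (nat_lit 51), Mv.b (nat_lit 50), Mv.b (nat_lit 48), Mv.b (nat_lit 46), Mv.b (nat_lit 45), Mv.f (nat_lit 13), Mv.f (nat_lit 14), Mv.b (nat_lit 6), Mv.b (nat_lit 5), Mv.b (nat_lit 4)] [Col.g, Col.b, Col.a, Col.c, Col.b, Col.d, Col.e, Col.g, Col.f, Col.b, Col.c, Col.d, Col.c, Col.b, Col.f, Col.g,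 Col.e, Col.d, Col.b, Col.c, Col.a, Col.b, Col.g] 0 = true := by decide +kernel
theorem mini3_fix {G X : Type*} [Group G] [MulAction G X] (g : Col → G) (x0 : X) (hinv : ∀ c, g (inv c) = (g c)⁻¹)
    (hRW : ∀ w ∈ RW, gw g w = 1) (hSW : ∀ w ∈ SW3, gw g w • x0 = x0) : gw g [Col.g, Col.b, Col.a, Col.c, Col.b, Col.d, Col.e, Col.g, Col.f, Col.b, Col.c, Col.d, Col.c, Col.b, Col.f, Col.g, Col.e, Col.d, Col.b, Col.c, Col.a, Col.b, Col.g] • x0 = x0 :=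
  mini_sound g x0 dec hdec hinv
    (fun a ha => altChk_sound g x0 dec hdec hinv hRW hSW ((Tr.all_iff _ _).1 mini3_alt a ha)) mini3_chk mini3_run
noncomputable def mini4S : Tr (Fc Col) := (Tr.nd (nat_lit 346) (Tr.nd (nat_lit 173) (Tr.nd (nat_lit 86) (Tr.nd (nat_lit 43) (Tr.nd (nat_lit 21) (Tr.nd (nat_lit 10) (Tr.nd (nat_lit 5) (Tr.nd (nat_lit 2) (Tr.nd (nat_lit 1) (Tr.lf (Fc.ed (nat_lit 0) (nat_lit 0) Col.b (nat_lit 0) (Dv.sb (nat_lit 0) [] []))) (Tr.lf (Fc.ed (nat_lit 1) (nat_lit 0) Col.c (nat_lit 0) (Dv.sb (nat_lit 1) [] [])))) (Tr.nd (nat_lit 3) (Tr.lf (Fc.ed (nat_lit 2) (nat_lit 0) Col.d (nat_lit 0) (Dv.sb (nat_lit 2) [] []))) (Tr.nd (nat_lit 4) (Tr.lf (Fc.ed (nat_lit 3) (nat_lit 0) Col.g (nat_lit 1) Dv.df)) (Tr.lf (Fc.ed (nat_lit 4) (nat_lit 1) Col.b (nat_lit 2) Dv.df))))) (Tr.nd (nat_lit 7) (Tr.nd (nat_lit 6) (Tr.lf (Fc.ed (nat_lit 5) (nat_lit 2) Col.a (nat_lit 3) Dv.df)) (Tr.lf (Fc.ed (nat_lit 6) (nat_lit 3) Col.f (nat_lit 4) Dv.df))) (Tr.nd (nat_lit 8) (Tr.lf (Fc.ed (nat_lit 7) (nat_lit 4) Col.b (nat_lit 3) (Dv.sb (nat_lit 3) [Mv.f (nat_lit 3), Mv.f (nat_lit 4), Mv.f (nat_lit 5), Mv.f (nat_lit 6)] [Mv.b (nat_lit 5), Mv.b (nat_lit 4), Mv.b (nat_lit 3)]))) (Tr.nd (nat_lit 9) (Tr.lf (Fc.ed (nat_lit 8) (nat_lit 4) Col.c (nat_lit 5) Dv.df)) (Tr.lf (Fc.ed (nat_lit 9) (nat_lit 5) Col.b (nat_lit 6) Dv.df)))))) (Tr.nd (nat_lit 15) (Tr.nd (nat_lit 12) (Tr.nd (nat_lit 11) (Tr.lf (Fc.ed (nat_lit 10) (nat_lit 6) Col.a (nat_lit 7) Dv.df)) (Tr.lf (Fc.ed (nat_lit 11) (nat_lit 7) Col.g (nat_lit 8) Dv.df))) (Tr.nd (nat_lit 13) (Tr.lf (Fc.ed (nat_lit 12) (nat_lit 8) Col.b (nat_lit 9) Dv.df)) (Tr.nd (nat_lit 14) (Tr.lf (Fc.ed (nat_lit 13) (nat_lit 9) Col.c (nat_lit 3) (Dv.sb (nat_lit 4) [Mv.f (nat_lit 3), Mv.f (nat_lit 4), Mv.f (nat_lit 5), Mv.b (nat_lit 7), Mv.f (nat_lit 8), Mv.f (nat_lit 9), Mv.f (nat_lit 10), Mv.f (nat_lit 11), Mv.f (nat_lit 12)] [Mv.b (nat_lit 5), Mv.b (nat_lit 4), Mv.b (nat_lit 3)]))) (Tr.lf (Fc.ed (nat_lit 14) (nat_lit 2) Col.c (nat_lit 10) Dv.df))))) (Tr.nd (nat_lit 18) (Tr.nd (nat_lit 16) (Tr.lf (Fc.ed (nat_lit 15) (nat_lit 10) Col.d (nat_lit 11) Dv.df)) (Tr.nd (nat_lit 17) (Tr.lf (Fc.ed (nat_lit 16) (nat_lit 11) Col.f (nat_lit 12) Dv.df)) (Tr.lf (Fc.ed (nat_lit 17) (nat_lit 12) Col.b (nat_lit 13) Dv.df)))) (Tr.nd (nat_lit 19) (Tr.lf (Fc.ed (nat_lit 18) (nat_lit 13) Col.g (nat_lit 14) Dv.df)) (Tr.nd (nat_lit 20) (Tr.lf (Fc.ed (nat_lit 19) (nat_lit 14) Col.c (nat_lit 13) (Dv.sb (nat_lit 5) [Mv.f (nat_lit 3), Mv.f (nat_lit 4), Mv.f (nat_lit 14), Mv.f (nat_lit 15), Mv.f (nat_lit 16), Mv.f (nat_lit 17), Mv.f (nat_lit 18)] [Mv.b (nat_lit 17), Mv.b (nat_lit 16), Mv.b (nat_lit 15), Mv.b (nat_lit 14), Mv.b (nat_lit 4), Mv.b (nat_lit 3)]))) (Tr.lf (Fc.ed (nat_lit 20) (nat_lit 8) Col.d (nat_lit 15) Dv.df))))))) (Tr.nd (nat_lit 32) (Tr.nd (nat_lit 26) (Tr.nd (nat_lit 23) (Tr.nd (nat_lit 22) (Tr.lf (Fc.ed (nat_lit 21) (nat_lit 15) Col.e (nat_lit 16) Dv.df)) (Tr.lf (Fc.ed (nat_lit 22) (nat_lit 16) Col.g (nat_lit 17) Dv.df))) (Tr.nd (nat_lit 24) (Tr.lf (Fc.ed (nat_lit 23) (nat_lit 17) Col.f (nat_lit 18) Dv.df)) (Tr.nd (nat_lit 25) (Tr.lf (Fc.ed (nat_lit 24) (nat_lit 18) Col.b (nat_lit 19) Dv.df)) (Tr.lf (Fc.ed (nat_lit 25) (nat_lit 19) Col.c (nat_lit 20) Dv.df))))) (Tr.nd (nat_lit 29) (Tr.nd (nat_lit 27) (Tr.lf (Fc.ed (nat_lit 26) (nat_lit 20) Col.d (nat_lit 20) (Dv.sb (nat_lit 6) [Mv.f (nat_lit 3), Mv.f (nat_lit 4), Mv.f (nat_lit 5), Mv.b (nat_lit 13), Mv.b (nat_lit 12), Mv.f (nat_lit 20), Mv.f (nat_lit 21), Mv.f (nat_lit 22), Mv.f (nat_lit 23), Mv.f (nat_lit 24), Mv.f (nat_lit 25)] [Mv.b (nat_lit 25), Mv.b (nat_lit 24), Mv.b (nat_lit 23), Mv.b (nat_lit 22), Mv.b (nat_lit 21), Mv.b (nat_lit 20), Mv.f (nat_lit 12), Mv.f (nat_lit 13), Mv.b (nat_lit 5), Mv.b (nat_lit 4), Mv.b (nat_lit 3)]))) (Tr.nd (nat_lit 28) (Tr.lf (Fc.ed (nat_lit 27) (nat_lit 10) Col.a (nat_lit 9) (Dv.wd (nat_lit 7) [Mv.f (nat_lit 13), Mv.b (nat_lit 5), Mv.f (nat_lit 14)]))) (Tr.lf (Fc.ed (nat_lit 28) (nat_lit 5) Col.f (nat_lit 9) (Dv.wd (nat_lit 8) [Mv.f (nat_lit 13), Mv.f (nat_lit 6), Mv.f (nat_lit 8)]))))) (Tr.nd (nat_lit 30) (Tr.lf (Fc.ed (nat_lit 29) (nat_lit 6) Col.c (nat_lit 8) (Dv.wd (nat_lit 9) [Mv.f (nat_lit 12), Mv.f (nat_lit 13), Mv.b (nat_lit 7), Mv.f (nat_lit 8), Mv.f (nat_lit 9)]))) (Tr.nd (nat_lit 31) (Tr.lf (Fc.ed (nat_lit 30) (nat_lit 2) Col.g (nat_lit 2) (Dv.wd (nat_lit 10) [Mv.b (nat_lit 4), Mv.b (nat_lit 3), Mv.f (nat_lit 0), Mv.f (nat_lit 3), Mv.f (nat_lit 4)]))) (Tr.lf (Fc.ed (nat_lit 31) (nat_lit 10) Col.g (nat_lit 10) (Dv.wd (nat_lit 11) [Mv.b (nat_lit 14), Mv.f (nat_lit 30), Mv.f (nat_lit 14)]))))))) (Tr.nd (nat_lit 37) (Tr.nd (nat_lit 34) (Tr.nd (nat_lit 33) (Tr.lf (Fc.ed (nat_lit 32) (nat_lit 9) Col.g (nat_lit 9) (Dv.wd (nat_lit 12) [Mv.b (nat_lit 27), Mv.f (nat_lit 31), Mv.f (nat_lit 27)]))) (Tr.lf (Fc.ed (nat_lit 33) (nat_lit 11) Col.g (nat_lit 11) (Dv.wd (nat_lit 13) [Mv.b (nat_lit 15), Mv.f (nat_lit 31), Mv.f (nat_lit 15)])))) (Tr.nd (nat_lit 35) (Tr.lf (Fc.ed (nat_lit 34) (nat_lit 1) Col.c (nat_lit 1) (Dv.wd (nat_lit 14) [Mv.b (nat_lit 3), Mv.f (nat_lit 1), Mv.f (nat_lit 3)]))) (Tr.nd (nat_lit 36) (Tr.lf (Fc.ed (nat_lit 35) (nat_lit 1) Col.d (nat_lit 1) (Dv.wd (nat_lit 15) [Mv.b (nat_lit 3), Mv.f (nat_lit 2), Mv.f (nat_lit 3)]))) (Tr.lf (Fc.ed (nat_lit 36) (nat_lit 2) Col.d (nat_lit 2) (Dv.wd (nat_lit 16) [Mv.b (nat_lit 4), Mv.f (nat_lit 35), Mv.f (nat_lit 4)])))))) (Tr.nd (nat_lit 40) (Tr.nd (nat_lit 38) (Tr.lf (Fc.ed (nat_lit 37) (nat_lit 10) Col.b (nat_lit 10) (Dv.wd (nat_lit 17) [Mv.b (nat_lit 14), Mv.b (nat_lit 4), Mv.f (nat_lit 34), Mv.f (nat_lit 4), Mv.f (nat_lit 14)]))) (Tr.nd (nat_lit 39) (Tr.lf (Fc.ed (nat_lit 38) (nat_lit 11) Col.b (nat_lit 11) (Dv.wd (nat_lit 18) [Mv.b (nat_lit 15), Mv.f (nat_lit 37), Mv.f (nat_lit 15)]))) (Tr.lf (Fc.ed (nat_lit 39) (nat_lit 13) Col.f (nat_lit 13) (Dv.wd (nat_lit 19) [Mv.b (nat_lit 17), Mv.b (nat_lit 16), Mv.f (nat_lit 38), Mv.f (nat_lit 16), Mv.f (nat_lit 17)]))))) (Tr.nd (nat_lit 41) (Tr.lf (Fc.ed (nat_lit 40) (nat_lit 14) Col.f (nat_lit 14) (Dv.wd (nat_lit 20) [Mv.f (nat_lit 19), Mv.f (nat_lit 39), Mv.b (nat_lit 19)]))) (Tr.nd (nat_lit 42) (Tr.lf (Fc.ed (nat_lit 41) (nat_lit 11) Col.c (nat_lit 21) Dv.df)) (Tr.lf (Fc.ed (nat_lit 42) (nat_lit 21) Col.g (nat_lit 21) (Dv.wd (nat_lit 11) [Mv.b (nat_lit 41), Mv.f (nat_lit 33), Mv.f (nat_lit 41)]))))))))) (Tr.nd (nat_lit 64) (Tr.nd (nat_lit 53) (Tr.nd (nat_lit 48) (Tr.nd (nat_lit 45) (Tr.nd (nat_lit 44) (Tr.lf (Fc.ed (nat_lit 43) (nat_lit 21) Col.b (nat_lit 22) Dv.df)) (Tr.lf (Fc.ed (nat_lit 44) (nat_lit 22) Col.c (nat_lit 22) (Dv.wd (nat_lit 21) [Mv.b (nat_lit 43), Mv.b (nat_lit 41), Mv.f (nat_lit 38), Mv.f (nat_lit 41), Mv.f (nat_lit 43)])))) (Tr.nd (nat_lit 46) (Tr.lf (Fc.ed (nat_lit 45) (nat_lit 22) Col.e (nat_lit 23) Dv.df)) (Tr.nd (nat_lit 47) (Tr.lf (Fc.ed (nat_lit 46) (nat_lit 23) Col.c (nat_lit 23) (Dv.wd (nat_lit 22) [Mv.b (nat_lit 45), Mv.f (nat_lit 44), Mv.f (nat_lit 45)]))) (Tr.lf (Fc.ed (nat_lit 47) (nat_lit 23) Col.d (nat_lit 24) Dv.df))))) (Tr.nd (nat_lit 50) (Tr.nd (nat_lit 49) (Tr.lf (Fc.ed (nat_lit 48) (nat_lit 24) Col.c (nat_lit 25) Dv.df)) (Tr.lf (Fc.ed (nat_lit 49) (nat_lit 25) Col.g (nat_lit 26) Dv.df))) (Tr.nd (nat_lit 51) (Tr.lf (Fc.ed (nat_lit 50) (nat_lit 26) Col.b (nat_lit 27) Dv.df)) (Tr.nd (nat_lit 52) (Tr.lf (Fc.ed (nat_lit 51) (nat_lit 27) Col.a (nat_lit 28) Dv.df)) (Tr.lf (Fc.ed (nat_lit 52) (nat_lit 21) Col.a (nat_lit 29) Dv.df)))))) (Tr.nd (nat_lit 58) (Tr.nd (nat_lit 55) (Tr.nd (nat_lit 54) (Tr.lf (Fc.ed (nat_lit 53) (nat_lit 29) Col.g (nat_lit 29) (Dv.wd (nat_lit 12) [Mv.b (nat_lit 52), Mv.f (nat_lit 42), Mv.f (nat_lit 52)]))) (Tr.lf (Fc.ed (nat_lit 54) (nat_lit 29) Col.d (nat_lit 21) (Dv.wd (nat_lit 23) [Mv.b (nat_lit 41), Mv.b (nat_lit 15), Mv.b (nat_lit 14), Mv.f (nat_lit 36), Mv.f (nat_lit 14), Mv.f (nat_lit 15), Mv.f (nat_lit 41), Mv.f (nat_lit 52)])))) (Tr.nd (nat_lit 56) (Tr.lf (Fc.ed (nat_lit 55) (nat_lit 26) Col.c (nat_lit 30) Dv.df)) (Tr.nd (nat_lit 57) (Tr.lf (Fc.ed (nat_lit 56) (nat_lit 30) Col.g (nat_lit 24) (Dv.wd (nat_lit 11) [Mv.f (nat_lit 48), Mv.f (nat_lit 49), Mv.f (nat_lit 55)]))) (Tr.lf (Fc.ed (nat_lit 57) (nat_lit 30) Col.d (nat_lit 31) Dv.df))))) (Tr.nd (nat_lit 61) (Tr.nd (nat_lit 59) (Tr.lf (Fc.ed (nat_lit 58) (nat_lit 31) Col.g (nat_lit 23) (Dv.wd (nat_lit 13) [Mv.f (nat_lit 47), Mv.b (nat_lit 56), Mv.f (nat_lit 57)]))) (Tr.nd (nat_lit 60) (Tr.lf (Fc.ed (nat_lit 59) (nat_lit 31) Col.c (nat_lit 31) (Dv.wd (nat_lit 24) [Mv.f (nat_lit 58), Mv.f (nat_lit 46), Mv.b (nat_lit 58)]))) (Tr.lf (Fc.ed (nat_lit 60) (nat_lit 9) Col.d (nat_lit 32) Dv.df)))) (Tr.nd (nat_lit 62) (Tr.lf (Fc.ed (nat_lit 61) (nat_lit 32) Col.a (nat_lit 11) (Dv.wd (nat_lit 25) [Mv.b (nat_lit 15), Mv.f (nat_lit 27), Mv.f (nat_lit 60)]))) (Tr.nd (nat_lit 63) (Tr.lf (Fc.ed (nat_lit 62) (nat_lit 32) Col.b (nat_lit 15) (Dv.wd (nat_lit 26) [Mv.b (nat_lit 20), Mv.f (nat_lit 12), Mv.f (nat_lit 60)]))) (Tr.lf (Fc.ed (nat_lit 63) (nat_lit 32) Col.g (nat_lit 32) (Dv.wd (nat_lit 13) [Mv.b (nat_lit 60), Mv.f (nat_lit 32), Mv.f (nat_lit 60)])))))))) (Tr.nd (nat_lit 75) (Tr.nd (nat_lit 69) (Tr.nd (nat_lit 66) (Tr.nd (nat_lit 65) (Tr.lf (Fc.ed (nat_lit 64) (nat_lit 32) Col.c (nat_lit 29) (Dv.wd (nat_lit 27) [Mv.f (nat_lit 54), Mv.b (nat_lit 41), Mv.b (nat_lit 15), Mv.b (nat_lit 14), Mv.f (nat_lit 36), Mv.f (nat_lit 5), Mv.b (nat_lit 13), Mv.f (nat_lit 60)]))) (Tr.lf (Fc.ed (nat_lit 65) (nat_lit 23) Col.b (nat_lit 33) Dv.df))) (Tr.nd (nat_lit 67) (Tr.lf (Fc.ed (nat_lit 66) (nat_lit 33) Col.e (nat_lit 21) (Dv.wd (nat_lit 28) [Mv.f (nat_lit 43), Mv.f (nat_lit 45), Mv.f (nat_lit 65)]))) (Tr.nd (nat_lit 68) (Tr.lf (Fc.ed (nat_lit 67) (nat_lit 33) Col.g (nat_lit 33) (Dv.wd (nat_lit 29) [Mv.f (nat_lit 66), Mv.f (nat_lit 42), Mv.b (nat_lit 66)]))) (Tr.lf (Fc.ed (nat_lit 68) (nat_lit 31) Col.b (nat_lit 31) (Dv.wd (nat_lit 30) [Mv.f (nat_lit 58), Mv.f (nat_lit 65), Mv.f (nat_lit 67), Mv.b (nat_lit 65), Mv.b (nat_lit 58)])))))) (Tr.nd (nat_lit 72) (Tr.nd (nat_lit 70) (Tr.lf (Fc.ed (nat_lit 69) (nat_lit 30) Col.b (nat_lit 30) (Dv.wd (nat_lit 18) [Mv.f (nat_lit 57), Mv.f (nat_lit 68), Mv.b (nat_lit 57)]))) (Tr.nd (nat_lit 71) (Tr.lf (Fc.ed (nat_lit 70) (nat_lit 27) Col.c (nat_lit 27) (Dv.wd (nat_lit 9) [Mv.b (nat_lit 50), Mv.f (nat_lit 55), Mv.f (nat_lit 69), Mv.b (nat_lit 55), Mv.f (nat_lit 50)]))) (Tr.lf (Fc.ed (nat_lit 71) (nat_lit 28) Col.c (nat_lit 28) (Dv.wd (nat_lit 31) [Mv.b (nat_lit 51), Mv.f (nat_lit 70), Mv.f (nat_lit 51)]))))) (Tr.nd (nat_lit 73) (Tr.lf (Fc.ed (nat_lit 72) (nat_lit 21) Col.f (nat_lit 34) Dv.df)) (Tr.nd (nat_lit 74) (Tr.lf (Fc.ed (nat_lit 73) (nat_lit 34) Col.c (nat_lit 12) (Dv.wd (nat_lit 32) [Mv.b (nat_lit 16), Mv.f (nat_lit 41), Mv.f (nat_lit 72)]))) (Tr.lf (Fc.ed (nat_lit 74) (nat_lit 34) Col.g (nat_lit 35) Dv.df)))))) (Tr.nd (nat_lit 80) (Tr.nd (nat_lit 77) (Tr.nd (nat_lit 76) (Tr.lf (Fc.ed (nat_lit 75) (nat_lit 35) Col.f (nat_lit 29) (Dv.wd (nat_lit 33) [Mv.f (nat_lit 53), Mv.b (nat_lit 52), Mv.f (nat_lit 72), Mv.f (nat_lit 74)]))) (Tr.lf (Fc.ed (nat_lit 76) (nat_lit 35) Col.a (nat_lit 34) (Dv.wd (nat_lit 34) [Mv.b (nat_lit 72), Mv.f (nat_lit 42), Mv.f (nat_lit 72), Mv.f (nat_lit 74)])))) (Tr.nd (nat_lit 78) (Tr.lf (Fc.ed (nat_lit 77) (nat_lit 34) Col.d (nat_lit 35) (Dv.wd (nat_lit 35) [Mv.f (nat_lit 75), Mv.f (nat_lit 54), Mv.f (nat_lit 72)]))) (Tr.nd (nat_lit 79) (Tr.lf (Fc.ed (nat_lit 78) (nat_lit 29) Col.e (nat_lit 36) Dv.df)) (Tr.lf (Fc.ed (nat_lit 79) (nat_lit 36) Col.a (nat_lit 33) (Dv.wd (nat_lit 36) [Mv.f (nat_lit 66), Mv.f (nat_lit 52), Mv.f (nat_lit 78)])))))) (Tr.nd (nat_lit 83) (Tr.nd (nat_lit 81) (Tr.lf (Fc.ed (nat_lit 80) (nat_lit 36) Col.g (nat_lit 36) (Dv.wd (nat_lit 37) [Mv.b (nat_lit 78), Mv.f (nat_lit 53), Mv.f (nat_lit 78)]))) (Tr.nd (nat_lit 82) (Tr.lf (Fc.ed (nat_lit 81) (nat_lit 32) Col.f (nat_lit 37) Dv.df)) (Tr.lf (Fc.ed (nat_lit 82) (nat_lit 37) Col.c (nat_lit 35) (Dv.wd (nat_lit 32) [Mv.f (nat_lit 75), Mv.b (nat_lit 64), Mv.f (nat_lit 81)]))))) (Tr.nd (nat_lit 84) (Tr.lf (Fc.ed (nat_lit 83) (nat_lit 37) Col.d (nat_lit 5) (Dv.wd (nat_lit 38) [Mv.f (nat_lit 28), Mv.f (nat_lit 60), Mv.f (nat_lit 81)]))) (Tr.nd (nat_lit 85) (Tr.lf (Fc.ed (nat_lit 84) (nat_lit 37) Col.g (nat_lit 12) (Dv.wd (nat_lit 39) [Mv.b (nat_lit 16), Mv.f (nat_lit 33), Mv.b (nat_lit 61), Mv.f (nat_lit 81)]))) (Tr.lf (Fc.ed (nat_lit 85) (nat_lit 15) Col.g (nat_lit 38) Dv.df))))))))) (Tr.nd (nat_lit 129) (Tr.nd (nat_lit 107) (Tr.nd (nat_lit 96) (Tr.nd (nat_lit 91) (Tr.nd (nat_lit 88) (Tr.nd (nat_lit 87) (Tr.lf (Fc.ed (nat_lit 86) (nat_lit 38) Col.e (nat_lit 17) (Dv.wd (nat_lit 40) [Mv.b (nat_lit 22), Mv.b (nat_lit 21), Mv.f (nat_lit 85)]))) (Tr.lf (Fc.ed (nat_lit 87) (nat_lit 38) Col.b (nat_lit 38) (Dv.wd (nat_lit 41) [Mv.b (nat_lit 85), Mv.b (nat_lit 62), Mv.f (nat_lit 63), Mv.f (nat_lit 62), Mv.f (nat_lit 85)])))) (Tr.nd (nat_lit 89) (Tr.lf (Fc.ed (nat_lit 88) (nat_lit 17) Col.b (nat_lit 17) (Dv.wd (nat_lit 42) [Mv.b (nat_lit 86), Mv.f (nat_lit 87), Mv.f (nat_lit 86)]))) (Tr.nd (nat_lit 90) (Tr.lf (Fc.ed (nat_lit 89) (nat_lit 38) Col.f (nat_lit 39) Dv.df)) (Tr.lf (Fc.ed (nat_lit 90) (nat_lit 39) Col.e (nat_lit 18) (Dv.wd (nat_lit 43) [Mv.b (nat_lit 23), Mv.b (nat_lit 86), Mv.f (nat_lit 89)])))))) (Tr.nd (nat_lit 93) (Tr.nd (nat_lit 92) (Tr.lf (Fc.ed (nat_lit 91) (nat_lit 34) Col.e (nat_lit 40) Dv.df)) (Tr.lf (Fc.ed (nat_lit 92) (nat_lit 40) Col.f (nat_lit 33) (Dv.wd (nat_lit 44) [Mv.f (nat_lit 66), Mv.f (nat_lit 72), Mv.f (nat_lit 91)])))) (Tr.nd (nat_lit 94) (Tr.lf (Fc.ed (nat_lit 93) (nat_lit 32) Col.e (nat_lit 41) Dv.df)) (Tr.nd (nat_lit 95) (Tr.lf (Fc.ed (nat_lit 94) (nat_lit 41) Col.b (nat_lit 16) (Dv.wd (nat_lit 45) [Mv.b (nat_lit 21), Mv.b (nat_lit 62), Mv.f (nat_lit 93)]))) (Tr.lf (Fc.ed (nat_lit 95) (nat_lit 41) Col.g (nat_lit 41) (Dv.wd (nat_lit 37) [Mv.b (nat_lit 93), Mv.f (nat_lit 63), Mv.f (nat_lit 93)]))))))) (Tr.nd (nat_lit 101) (Tr.nd (nat_lit 98) (Tr.nd (nat_lit 97) (Tr.lf (Fc.ed (nat_lit 96) (nat_lit 8) Col.a (nat_lit 42) Dv.df)) (Tr.lf (Fc.ed (nat_lit 97) (nat_lit 42) Col.c (nat_lit 7) (Dv.wd (nat_lit 31) [Mv.b (nat_lit 10), Mv.f (nat_lit 29), Mv.f (nat_lit 96)])))) (Tr.nd (nat_lit 99) (Tr.lf (Fc.ed (nat_lit 98) (nat_lit 42) Col.g (nat_lit 6) (Dv.wd (nat_lit 12) [Mv.f (nat_lit 10), Mv.f (nat_lit 11), Mv.f (nat_lit 96)]))) (Tr.nd (nat_lit 100) (Tr.lf (Fc.ed (nat_lit 99) (nat_lit 40) Col.g (nat_lit 43) Dv.df)) (Tr.lf (Fc.ed (nat_lit 100) (nat_lit 43) Col.e (nat_lit 35) (Dv.wd (nat_lit 40) [Mv.b (nat_lit 74), Mv.f (nat_lit 91), Mv.f (nat_lit 99)])))))) (Tr.nd (nat_lit 104) (Tr.nd (nat_lit 102) (Tr.lf (Fc.ed (nat_lit 101) (nat_lit 43) Col.f (nat_lit 36) (Dv.wd (nat_lit 33) [Mv.f (nat_lit 80), Mv.f (nat_lit 79), Mv.b (nat_lit 92), Mv.f (nat_lit 99)]))) (Tr.nd (nat_lit 103) (Tr.lf (Fc.ed (nat_lit 102) (nat_lit 11) Col.e (nat_lit 44) Dv.df)) (Tr.lf (Fc.ed (nat_lit 103) (nat_lit 44) Col.a (nat_lit 41) (Dv.wd (nat_lit 36) [Mv.b (nat_lit 93), Mv.f (nat_lit 61), Mv.f (nat_lit 102)]))))) (Tr.nd (nat_lit 105) (Tr.lf (Fc.ed (nat_lit 104) (nat_lit 44) Col.g (nat_lit 44) (Dv.wd (nat_lit 37) [Mv.b (nat_lit 102), Mv.f (nat_lit 33), Mv.f (nat_lit 102)]))) (Tr.nd (nat_lit 106) (Tr.lf (Fc.ed (nat_lit 105) (nat_lit 37) Col.e (nat_lit 45) Dv.df)) (Tr.lf (Fc.ed (nat_lit 106) (nat_lit 45) Col.c (nat_lit 43) (Dv.wd (nat_lit 22) [Mv.f (nat_lit 100), Mv.b (nat_lit 82), Mv.f (nat_lit 105)])))))))) (Tr.nd (nat_lit 118) (Tr.nd (nat_lit 112) (Tr.nd (nat_lit 109) (Tr.nd (nat_lit 108) (Tr.lf (Fc.ed (nat_lit 107) (nat_lit 45) Col.f (nat_lit 41) (Dv.wd (nat_lit 44) [Mv.b (nat_lit 93), Mv.f (nat_lit 81), Mv.f (nat_lit 105)]))) (Tr.lf (Fc.ed (nat_lit 108) (nat_lit 45) Col.g (nat_lit 46) Dv.df))) (Tr.nd (nat_lit 110) (Tr.lf (Fc.ed (nat_lit 109) (nat_lit 46) Col.c (nat_lit 40) (Dv.wd (nat_lit 14) [Mv.f (nat_lit 99), Mv.b (nat_lit 106), Mv.f (nat_lit 108)]))) (Tr.nd (nat_lit 111) (Tr.lf (Fc.ed (nat_lit 110) (nat_lit 46) Col.f (nat_lit 44) (Dv.wd (nat_lit 33) [Mv.f (nat_lit 104), Mv.f (nat_lit 103), Mv.b (nat_lit 107), Mv.f (nat_lit 108)]))) (Tr.lf (Fc.ed (nat_lit 111) (nat_lit 42) Col.d (nat_lit 47) Dv.df))))) (Tr.nd (nat_lit 115) (Tr.nd (nat_lit 113) (Tr.lf (Fc.ed (nat_lit 112) (nat_lit 47) Col.a (nat_lit 15) (Dv.wd (nat_lit 25) [Mv.b (nat_lit 20), Mv.f (nat_lit 96), Mv.f (nat_lit 111)]))) (Tr.nd (nat_lit 114) (Tr.lf (Fc.ed (nat_lit 113) (nat_lit 47) Col.g (nat_lit 48) Dv.df)) (Tr.lf (Fc.ed (nat_lit 114) (nat_lit 48) Col.a (nat_lit 38) (Dv.wd (nat_lit 46) [Mv.b (nat_lit 85), Mv.b (nat_lit 112), Mv.f (nat_lit 113)]))))) (Tr.nd (nat_lit 116) (Tr.lf (Fc.ed (nat_lit 115) (nat_lit 48) Col.d (nat_lit 6) (Dv.wd (nat_lit 15) [Mv.b (nat_lit 98), Mv.f (nat_lit 111), Mv.f (nat_lit 113)]))) (Tr.nd (nat_lit 117) (Tr.lf (Fc.ed (nat_lit 116) (nat_lit 37) Col.b (nat_lit 48) (Dv.wd (nat_lit 18) [Mv.f (nat_lit 115), Mv.b (nat_lit 9), Mv.b (nat_lit 83)]))) (Tr.lf (Fc.ed (nat_lit 117) (nat_lit 47) Col.b (nat_lit 14) (Dv.wd (nat_lit 30) [Mv.b (nat_lit 18), Mv.b (nat_lit 17), Mv.b (nat_lit 84), Mv.f (nat_lit 116), Mv.b (nat_lit 113)]))))))) (Tr.nd (nat_lit 123) (Tr.nd (nat_lit 120) (Tr.nd (nat_lit 119) (Tr.lf (Fc.ed (nat_lit 118) (nat_lit 22) Col.g (nat_lit 49) Dv.df)) (Tr.lf (Fc.ed (nat_lit 119) (nat_lit 49) Col.e (nat_lit 31) (Dv.wd (nat_lit 40) [Mv.f (nat_lit 58), Mv.b (nat_lit 45), Mv.f (nat_lit 118)])))) (Tr.nd (nat_lit 121) (Tr.lf (Fc.ed (nat_lit 120) (nat_lit 49) Col.b (nat_lit 49) (Dv.wd (nat_lit 41) [Mv.b (nat_lit 118), Mv.b (nat_lit 43), Mv.f (nat_lit 42), Mv.f (nat_lit 43), Mv.f (nat_lit 118)]))) (Tr.nd (nat_lit 122) (Tr.lf (Fc.ed (nat_lit 121) (nat_lit 47) Col.f (nat_lit 50) Dv.df)) (Tr.lf (Fc.ed (nat_lit 122) (nat_lit 50) Col.g (nat_lit 39) (Dv.wd (nat_lit 39) [Mv.b (nat_lit 89), Mv.b (nat_lit 85), Mv.b (nat_lit 112), Mv.f (nat_lit 121)])))))) (Tr.nd (nat_lit 126) (Tr.nd (nat_lit 124) (Tr.lf (Fc.ed (nat_lit 123) (nat_lit 50) Col.b (nat_lit 50) (Dv.wd (nat_lit 47) [Mv.b (nat_lit 121), Mv.f (nat_lit 117), Mv.f (nat_lit 40), Mv.b (nat_lit 117), Mv.f (nat_lit 121)]))) (Tr.nd (nat_lit 125) (Tr.lf (Fc.ed (nat_lit 124) (nat_lit 50) Col.a (nat_lit 51) Dv.df)) (Tr.lf (Fc.ed (nat_lit 125) (nat_lit 51) Col.f (nat_lit 15) (Dv.wd (nat_lit 48) [Mv.b (nat_lit 112), Mv.f (nat_lit 121), Mv.f (nat_lit 124)]))))) (Tr.nd (nat_lit 127) (Tr.lf (Fc.ed (nat_lit 126) (nat_lit 51) Col.g (nat_lit 52) Dv.df)) (Tr.nd (nat_lit 128) (Tr.lf (Fc.ed (nat_lit 127) (nat_lit 52) Col.a (nat_lit 39) (Dv.wd (nat_lit 46) [Mv.b (nat_lit 122), Mv.f (nat_lit 124), Mv.f (nat_lit 126)]))) (Tr.lf (Fc.ed (nat_lit 128) (nat_lit 52) Col.f (nat_lit 48) (Dv.wd (nat_lit 33) [Mv.b (nat_lit 113), Mv.f (nat_lit 112), Mv.b (nat_lit 125), Mv.f (nat_lit 126)]))))))))) (Tr.nd (nat_lit 151) (Tr.nd (nat_lit 140) (Tr.nd (nat_lit 134) (Tr.nd (nat_lit 131) (Tr.nd (nat_lit 130) (Tr.lf (Fc.ed (nat_lit 129) (nat_lit 52) Col.b (nat_lit 51) (Dv.wd (nat_lit 49) [Mv.f (nat_lit 126), Mv.f (nat_lit 128), Mv.b (nat_lit 116), Mv.f (nat_lit 84), Mv.b (nat_lit 16), Mv.f (nat_lit 38), Mv.f (nat_lit 33), Mv.f (nat_lit 16), Mv.f (nat_lit 17), Mv.f (nat_lit 18), Mv.f (nat_lit 40), Mv.b (nat_lit 117), Mv.f (nat_lit 113), Mv.b (nat_lit 128)]))) (Tr.lf (Fc.ed (nat_lit 130) (nat_lit 17) Col.a (nat_lit 53) Dv.df))) (Tr.nd (nat_lit 132) (Tr.lf (Fc.ed (nat_lit 131) (nat_lit 53) Col.e (nat_lit 48) (Dv.wd (nat_lit 50) [Mv.f (nat_lit 114), Mv.f (nat_lit 86), Mv.f (nat_lit 130)]))) (Tr.nd (nat_lit 133) (Tr.lf (Fc.ed (nat_lit 132) (nat_lit 45) Col.b (nat_lit 53) (Dv.wd (nat_lit 42) [Mv.f (nat_lit 131), Mv.b (nat_lit 116), Mv.f (nat_lit 105)]))) (Tr.lf (Fc.ed (nat_lit 133) (nat_lit 50) Col.d (nat_lit 54) Dv.df))))) (Tr.nd (nat_lit 137) (Tr.nd (nat_lit 135) (Tr.lf (Fc.ed (nat_lit 134) (nat_lit 54) Col.f (nat_lit 42) (Dv.wd (nat_lit 51) [Mv.f (nat_lit 111), Mv.f (nat_lit 121), Mv.f (nat_lit 133)]))) (Tr.nd (nat_lit 136) (Tr.lf (Fc.ed (nat_lit 135) (nat_lit 54) Col.g (nat_lit 55) Dv.df)) (Tr.lf (Fc.ed (nat_lit 136) (nat_lit 55) Col.d (nat_lit 39) (Dv.wd (nat_lit 15) [Mv.b (nat_lit 122), Mv.f (nat_lit 133), Mv.f (nat_lit 135)]))))) (Tr.nd (nat_lit 138) (Tr.lf (Fc.ed (nat_lit 137) (nat_lit 55) Col.f (nat_lit 7) (Dv.wd (nat_lit 33) [Mv.f (nat_lit 11), Mv.f (nat_lit 96), Mv.b (nat_lit 134), Mv.f (nat_lit 135)]))) (Tr.nd (nat_lit 139) (Tr.lf (Fc.ed (nat_lit 138) (nat_lit 54) Col.c (nat_lit 55) (Dv.wd (nat_lit 52) [Mv.f (nat_lit 137), Mv.b (nat_lit 97), Mv.b (nat_lit 134)]))) (Tr.lf (Fc.ed (nat_lit 139) (nat_lit 16) Col.f (nat_lit 56) Dv.df)))))) (Tr.nd (nat_lit 145) (Tr.nd (nat_lit 142) (Tr.nd (nat_lit 141) (Tr.lf (Fc.ed (nat_lit 140) (nat_lit 56) Col.e (nat_lit 51) (Dv.wd (nat_lit 43) [Mv.f (nat_lit 125), Mv.f (nat_lit 21), Mv.f (nat_lit 139)]))) (Tr.lf (Fc.ed (nat_lit 141) (nat_lit 16) Col.a (nat_lit 57) Dv.df))) (Tr.nd (nat_lit 143) (Tr.lf (Fc.ed (nat_lit 142) (nat_lit 57) Col.e (nat_lit 47) (Dv.wd (nat_lit 50) [Mv.f (nat_lit 112), Mv.f (nat_lit 21), Mv.f (nat_lit 141)]))) (Tr.nd (nat_lit 144) (Tr.lf (Fc.ed (nat_lit 143) (nat_lit 57) Col.g (nat_lit 53) (Dv.wd (nat_lit 12) [Mv.b (nat_lit 130), Mv.b (nat_lit 22), Mv.f (nat_lit 141)]))) (Tr.lf (Fc.ed (nat_lit 144) (nat_lit 50) Col.e (nat_lit 58) Dv.df))))) (Tr.nd (nat_lit 148) (Tr.nd (nat_lit 146) (Tr.lf (Fc.ed (nat_lit 145) (nat_lit 58) Col.a (nat_lit 56) (Dv.wd (nat_lit 36) [Mv.f (nat_lit 140), Mv.b (nat_lit 124), Mv.f (nat_lit 144)]))) (Tr.nd (nat_lit 147) (Tr.lf (Fc.ed (nat_lit 146) (nat_lit 58) Col.b (nat_lit 58) (Dv.wd (nat_lit 45) [Mv.b (nat_lit 144), Mv.f (nat_lit 123), Mv.f (nat_lit 144)]))) (Tr.lf (Fc.ed (nat_lit 147) (nat_lit 58) Col.f (nat_lit 57) (Dv.wd (nat_lit 44) [Mv.f (nat_lit 142), Mv.f (nat_lit 121), Mv.f (nat_lit 144)]))))) (Tr.nd (nat_lit 149) (Tr.lf (Fc.ed (nat_lit 148) (nat_lit 58) Col.g (nat_lit 18) (Dv.wd (nat_lit 37) [Mv.b (nat_lit 90), Mv.b (nat_lit 122), Mv.f (nat_lit 144)]))) (Tr.nd (nat_lit 150) (Tr.lf (Fc.ed (nat_lit 149) (nat_lit 18) Col.a (nat_lit 59) Dv.df)) (Tr.lf (Fc.ed (nat_lit 150) (nat_lit 59) Col.g (nat_lit 56) (Dv.wd (nat_lit 12) [Mv.b (nat_lit 145), Mv.f (nat_lit 148), Mv.f (nat_lit 149)])))))))) (Tr.nd (nat_lit 162) (Tr.nd (nat_lit 156) (Tr.nd (nat_lit 153) (Tr.nd (nat_lit 152) (Tr.lf (Fc.ed (nat_lit 151) (nat_lit 56) Col.b (nat_lit 59) (Dv.wd (nat_lit 49) [Mv.f (nat_lit 150), Mv.b (nat_lit 139), Mv.b (nat_lit 94), Mv.f (nat_lit 95), Mv.b (nat_lit 107), Mv.f (nat_lit 132), Mv.b (nat_lit 143), Mv.b (nat_lit 147), Mv.f (nat_lit 146), Mv.f (nat_lit 148), Mv.b (nat_lit 23), Mv.f (nat_lit 88), Mv.b (nat_lit 22), Mv.f (nat_lit 139)]))) (Tr.lf (Fc.ed (nat_lit 152) (nat_lit 47) Col.c (nat_lit 60) Dv.df))) (Tr.nd (nat_lit 154) (Tr.lf (Fc.ed (nat_lit 153) (nat_lit 60) Col.b (nat_lit 34) (Dv.wd (nat_lit 53) [Mv.f (nat_lit 73), Mv.f (nat_lit 17), Mv.b (nat_lit 19), Mv.b (nat_lit 117), Mv.f (nat_lit 152)]))) (Tr.nd (nat_lit 155) (Tr.lf (Fc.ed (nat_lit 154) (nat_lit 29) Col.b (nat_lit 61) Dv.df)) (Tr.lf (Fc.ed (nat_lit 155) (nat_lit 61) Col.d (nat_lit 22) (Dv.wd (nat_lit 16) [Mv.b (nat_lit 43), Mv.b (nat_lit 54), Mv.f (nat_lit 154)])))))) (Tr.nd (nat_lit 159) (Tr.nd (nat_lit 157) (Tr.lf (Fc.ed (nat_lit 156) (nat_lit 60) Col.e (nat_lit 62) Dv.df)) (Tr.nd (nat_lit 158) (Tr.lf (Fc.ed (nat_lit 157) (nat_lit 62) Col.b (nat_lit 40) (Dv.wd (nat_lit 45) [Mv.b (nat_lit 91), Mv.b (nat_lit 153), Mv.f (nat_lit 156)]))) (Tr.lf (Fc.ed (nat_lit 158) (nat_lit 62) Col.c (nat_lit 57) (Dv.wd (nat_lit 22) [Mv.f (nat_lit 142), Mv.f (nat_lit 152), Mv.f (nat_lit 156)]))))) (Tr.nd (nat_lit 160) (Tr.lf (Fc.ed (nat_lit 159) (nat_lit 61) Col.g (nat_lit 63) Dv.df)) (Tr.nd (nat_lit 161) (Tr.lf (Fc.ed (nat_lit 160) (nat_lit 63) Col.d (nat_lit 49) (Dv.wd (nat_lit 15) [Mv.b (nat_lit 118), Mv.b (nat_lit 155), Mv.f (nat_lit 159)]))) (Tr.lf (Fc.ed (nat_lit 161) (nat_lit 36) Col.b (nat_lit 64) Dv.df)))))) (Tr.nd (nat_lit 167) (Tr.nd (nat_lit 164) (Tr.nd (nat_lit 163) (Tr.lf (Fc.ed (nat_lit 162) (nat_lit 64) Col.e (nat_lit 61) (Dv.wd (nat_lit 28) [Mv.b (nat_lit 154), Mv.f (nat_lit 78), Mv.f (nat_lit 161)]))) (Tr.lf (Fc.ed (nat_lit 163) (nat_lit 24) Col.b (nat_lit 65) Dv.df))) (Tr.nd (nat_lit 165) (Tr.lf (Fc.ed (nat_lit 164) (nat_lit 65) Col.d (nat_lit 33) (Dv.wd (nat_lit 16) [Mv.b (nat_lit 65), Mv.f (nat_lit 47), Mv.f (nat_lit 163)]))) (Tr.nd (nat_lit 166) (Tr.lf (Fc.ed (nat_lit 165) (nat_lit 24) Col.e (nat_lit 66) Dv.df)) (Tr.lf (Fc.ed (nat_lit 166) (nat_lit 66) Col.d (nat_lit 64) (Dv.wd (nat_lit 54) [Mv.f (nat_lit 162), Mv.f (nat_lit 155), Mv.f (nat_lit 45), Mv.f (nat_lit 47), Mv.f (nat_lit 165)])))))) (Tr.nd (nat_lit 170) (Tr.nd (nat_lit 168) (Tr.lf (Fc.ed (nat_lit 167) (nat_lit 66) Col.c (nat_lit 67) Dv.df)) (Tr.nd (nat_lit 169) (Tr.lf (Fc.ed (nat_lit 168) (nat_lit 60) Col.f (nat_lit 68) Dv.df)) (Tr.lf (Fc.ed (nat_lit 169) (nat_lit 68) Col.c (nat_lit 50) (Dv.wd (nat_lit 32) [Mv.b (nat_lit 121), Mv.f (nat_lit 152), Mv.f (nat_lit 168)]))))) (Tr.nd (nat_lit 171) (Tr.lf (Fc.ed (nat_lit 170) (nat_lit 65) Col.f (nat_lit 69) Dv.df)) (Tr.nd (nat_lit 172) (Tr.lf (Fc.ed (nat_lit 171) (nat_lit 69) Col.d (nat_lit 40) (Dv.wd (nat_lit 38) [Mv.f (nat_lit 92), Mv.b (nat_lit 164), Mv.f (nat_lit 170)]))) (Tr.lf (Fc.ed (nat_lit 172) (nat_lit 62) Col.g (nat_lit 70) Dv.df)))))))))) (Tr.nd (nat_lit 259) (Tr.nd (nat_lit 216) (Tr.nd (nat_lit 194) (Tr.nd (nat_lit 183) (Tr.nd (nat_lit 178) (Tr.nd (nat_lit 175) (Tr.nd (nat_lit 174) (Tr.lf (Fc.ed (nat_lit 173) (nat_lit 70) Col.c (nat_lit 53) (Dv.wd (nat_lit 14) [Mv.b (nat_lit 143), Mv.b (nat_lit 158), Mv.f (nat_lit 172)]))) (Tr.lf (Fc.ed (nat_lit 174) (nat_lit 30) Col.e (nat_lit 71) Dv.df))) (Tr.nd (nat_lit 176) (Tr.lf (Fc.ed (nat_lit 175) (nat_lit 71) Col.b (nat_lit 71) (Dv.wd (nat_lit 45) [Mv.b (nat_lit 174), Mv.f (nat_lit 69), Mv.f (nat_lit 174)]))) (Tr.nd (nat_lit 177) (Tr.lf (Fc.ed (nat_lit 176) (nat_lit 71) Col.g (nat_lit 66) (Dv.wd (nat_lit 37) [Mv.b (nat_lit 165), Mv.b (nat_lit 56), Mv.f (nat_lit 174)]))) (Tr.lf (Fc.ed (nat_lit 177) (nat_lit 71) Col.d (nat_lit 72) Dv.df))))) (Tr.nd (nat_lit 180) (Tr.nd (nat_lit 179) (Tr.lf (Fc.ed (nat_lit 178) (nat_lit 72) Col.b (nat_lit 72) (Dv.wd (nat_lit 26) [Mv.b (nat_lit 177), Mv.f (nat_lit 175), Mv.f (nat_lit 177)]))) (Tr.lf (Fc.ed (nat_lit 179) (nat_lit 72) Col.g (nat_lit 64) (Dv.wd (nat_lit 13) [Mv.b (nat_lit 166), Mv.b (nat_lit 176), Mv.f (nat_lit 177)])))) (Tr.nd (nat_lit 181) (Tr.lf (Fc.ed (nat_lit 180) (nat_lit 72) Col.e (nat_lit 63) (Dv.wd (nat_lit 55) [Mv.f (nat_lit 160), Mv.f (nat_lit 119), Mv.b (nat_lit 57), Mv.f (nat_lit 174), Mv.f (nat_lit 177)]))) (Tr.nd (nat_lit 182) (Tr.lf (Fc.ed (nat_lit 181) (nat_lit 71) Col.c (nat_lit 73) Dv.df)) (Tr.lf (Fc.ed (nat_lit 182) (nat_lit 73) Col.e (nat_lit 26) (Dv.wd (nat_lit 56) [Mv.f (nat_lit 55), Mv.f (nat_lit 174), Mv.f (nat_lit 181)]))))))) (Tr.nd (nat_lit 188) (Tr.nd (nat_lit 185) (Tr.nd (nat_lit 184) (Tr.lf (Fc.ed (nat_lit 183) (nat_lit 73) Col.g (nat_lit 67) (Dv.wd (nat_lit 11) [Mv.b (nat_lit 167), Mv.b (nat_lit 176), Mv.f (nat_lit 181)]))) (Tr.lf (Fc.ed (nat_lit 184) (nat_lit 48) Col.c (nat_lit 74) Dv.df))) (Tr.nd (nat_lit 186) (Tr.lf (Fc.ed (nat_lit 185) (nat_lit 74) Col.e (nat_lit 70) (Dv.wd (nat_lit 56) [Mv.f (nat_lit 173), Mv.f (nat_lit 131), Mv.f (nat_lit 184)]))) (Tr.nd (nat_lit 187) (Tr.lf (Fc.ed (nat_lit 186) (nat_lit 17) Col.c (nat_lit 75) Dv.df)) (Tr.lf (Fc.ed (nat_lit 187) (nat_lit 75) Col.a (nat_lit 70) (Dv.wd (nat_lit 7) [Mv.f (nat_lit 173), Mv.b (nat_lit 130), Mv.f (nat_lit 186)])))))) (Tr.nd (nat_lit 191) (Tr.nd (nat_lit 189) (Tr.lf (Fc.ed (nat_lit 188) (nat_lit 51) Col.c (nat_lit 76) Dv.df)) (Tr.nd (nat_lit 190) (Tr.lf (Fc.ed (nat_lit 189) (nat_lit 76) Col.a (nat_lit 68) (Dv.wd (nat_lit 7) [Mv.f (nat_lit 169), Mv.f (nat_lit 124), Mv.f (nat_lit 188)]))) (Tr.lf (Fc.ed (nat_lit 190) (nat_lit 22) Col.f (nat_lit 77) Dv.df)))) (Tr.nd (nat_lit 192) (Tr.lf (Fc.ed (nat_lit 191) (nat_lit 77) Col.c (nat_lit 77) (Dv.wd (nat_lit 32) [Mv.b (nat_lit 190), Mv.f (nat_lit 44), Mv.f (nat_lit 190)]))) (Tr.nd (nat_lit 193) (Tr.lf (Fc.ed (nat_lit 192) (nat_lit 77) Col.b (nat_lit 68) (Dv.wd (nat_lit 47) [Mv.b (nat_lit 168), Mv.f (nat_lit 153), Mv.b (nat_lit 72), Mv.f (nat_lit 43), Mv.f (nat_lit 190)]))) (Tr.lf (Fc.ed (nat_lit 193) (nat_lit 39) Col.c (nat_lit 78) Dv.df))))))) (Tr.nd (nat_lit 205) (Tr.nd (nat_lit 199) (Tr.nd (nat_lit 196) (Tr.nd (nat_lit 195) (Tr.lf (Fc.ed (nat_lit 194) (nat_lit 78) Col.g (nat_lit 68) (Dv.wd (nat_lit 11) [Mv.f (nat_lit 169), Mv.f (nat_lit 122), Mv.f (nat_lit 193)]))) (Tr.lf (Fc.ed (nat_lit 195) (nat_lit 38) Col.c (nat_lit 79) Dv.df))) (Tr.nd (nat_lit 197) (Tr.lf (Fc.ed (nat_lit 196) (nat_lit 79) Col.e (nat_lit 75) (Dv.wd (nat_lit 56) [Mv.b (nat_lit 186), Mv.b (nat_lit 86), Mv.f (nat_lit 195)]))) (Tr.nd (nat_lit 198) (Tr.lf (Fc.ed (nat_lit 197) (nat_lit 79) Col.f (nat_lit 78) (Dv.wd (nat_lit 20) [Mv.b (nat_lit 193), Mv.b (nat_lit 89), Mv.f (nat_lit 195)]))) (Tr.lf (Fc.ed (nat_lit 198) (nat_lit 62) Col.d (nat_lit 80) Dv.df))))) (Tr.nd (nat_lit 202) (Tr.nd (nat_lit 200) (Tr.lf (Fc.ed (nat_lit 199) (nat_lit 80) Col.b (nat_lit 69) (Dv.wd (nat_lit 26) [Mv.f (nat_lit 171), Mv.b (nat_lit 157), Mv.f (nat_lit 198)]))) (Tr.nd (nat_lit 201) (Tr.lf (Fc.ed (nat_lit 200) (nat_lit 18) Col.c (nat_lit 81) Dv.df)) (Tr.lf (Fc.ed (nat_lit 201) (nat_lit 81) Col.e (nat_lit 78) (Dv.wd (nat_lit 56) [Mv.b (nat_lit 193), Mv.f (nat_lit 90), Mv.f (nat_lit 200)]))))) (Tr.nd (nat_lit 203) (Tr.lf (Fc.ed (nat_lit 202) (nat_lit 81) Col.f (nat_lit 75) (Dv.wd (nat_lit 20) [Mv.b (nat_lit 186), Mv.f (nat_lit 23), Mv.f (nat_lit 200)]))) (Tr.nd (nat_lit 204) (Tr.lf (Fc.ed (nat_lit 203) (nat_lit 77) Col.d (nat_lit 82) Dv.df)) (Tr.lf (Fc.ed (nat_lit 204) (nat_lit 82) Col.f (nat_lit 61) (Dv.wd (nat_lit 51) [Mv.f (nat_lit 155), Mv.f (nat_lit 190), Mv.f (nat_lit 203)]))))))) (Tr.nd (nat_lit 210) (Tr.nd (nat_lit 207) (Tr.nd (nat_lit 206) (Tr.lf (Fc.ed (nat_lit 205) (nat_lit 16) Col.c (nat_lit 83) Dv.df)) (Tr.lf (Fc.ed (nat_lit 206) (nat_lit 83) Col.a (nat_lit 62) (Dv.wd (nat_lit 7) [Mv.f (nat_lit 158), Mv.b (nat_lit 141), Mv.f (nat_lit 205)])))) (Tr.nd (nat_lit 208) (Tr.lf (Fc.ed (nat_lit 207) (nat_lit 68) Col.e (nat_lit 84) Dv.df)) (Tr.nd (nat_lit 209) (Tr.lf (Fc.ed (nat_lit 208) (nat_lit 84) Col.c (nat_lit 58) (Dv.wd (nat_lit 22) [Mv.b (nat_lit 144), Mv.b (nat_lit 169), Mv.f (nat_lit 207)]))) (Tr.lf (Fc.ed (nat_lit 209) (nat_lit 84) Col.f (nat_lit 62) (Dv.wd (nat_lit 44) [Mv.b (nat_lit 156), Mv.f (nat_lit 168), Mv.f (nat_lit 207)])))))) (Tr.nd (nat_lit 213) (Tr.nd (nat_lit 211) (Tr.lf (Fc.ed (nat_lit 210) (nat_lit 84) Col.g (nat_lit 81) (Dv.wd (nat_lit 37) [Mv.f (nat_lit 201), Mv.f (nat_lit 194), Mv.f (nat_lit 207)]))) (Tr.nd (nat_lit 212) (Tr.lf (Fc.ed (nat_lit 211) (nat_lit 15) Col.c (nat_lit 85) Dv.df)) (Tr.lf (Fc.ed (nat_lit 212) (nat_lit 85) Col.a (nat_lit 60) (Dv.wd (nat_lit 7) [Mv.b (nat_lit 152), Mv.f (nat_lit 112), Mv.f (nat_lit 211)]))))) (Tr.nd (nat_lit 214) (Tr.lf (Fc.ed (nat_lit 213) (nat_lit 85) Col.f (nat_lit 76) (Dv.wd (nat_lit 20) [Mv.b (nat_lit 188), Mv.f (nat_lit 125), Mv.f (nat_lit 211)]))) (Tr.nd (nat_lit 215) (Tr.lf (Fc.ed (nat_lit 214) (nat_lit 85) Col.g (nat_lit 79) (Dv.wd (nat_lit 11) [Mv.b (nat_lit 195), Mv.b (nat_lit 85), Mv.f (nat_lit 211)]))) (Tr.lf (Fc.ed (nat_lit 215) (nat_lit 22) Col.a (nat_lit 86) Dv.df)))))))) (Tr.nd (nat_lit 237) (Tr.nd (nat_lit 226) (Tr.nd (nat_lit 221) (Tr.nd (nat_lit 218) (Tr.nd (nat_lit 217) (Tr.lf (Fc.ed (nat_lit 216) (nat_lit 86) Col.b (nat_lit 79) (Dv.wd (nat_lit 57) [Mv.b (nat_lit 195), Mv.f (nat_lit 89), Mv.b (nat_lit 127), Mv.f (nat_lit 129), Mv.f (nat_lit 188), Mv.b (nat_lit 213), Mv.f (nat_lit 212), Mv.f (nat_lit 153), Mv.f (nat_lit 73), Mv.b (nat_lit 16), Mv.b (nat_lit 61), Mv.f (nat_lit 62), Mv.f (nat_lit 211), Mv.f (nat_lit 213), Mv.f (nat_lit 189), Mv.b (nat_lit 192), Mv.f (nat_lit 191), Mv.b (nat_lit 190), Mv.f (nat_lit 215)]))) (Tr.lf (Fc.ed (nat_lit 217) (nat_lit 86) Col.f (nat_lit 87) Dv.df))) (Tr.nd (nat_lit 219) (Tr.lf (Fc.ed (nat_lit 218) (nat_lit 84) Col.b (nat_lit 88) Dv.df)) (Tr.nd (nat_lit 220) (Tr.lf (Fc.ed (nat_lit 219) (nat_lit 88) Col.e (nat_lit 77) (Dv.wd (nat_lit 28) [Mv.f (nat_lit 192), Mv.f (nat_lit 207), Mv.f (nat_lit 218)]))) (Tr.lf (Fc.ed (nat_lit 220) (nat_lit 88) Col.c (nat_lit 88) (Dv.wd (nat_lit 21) [Mv.b (nat_lit 218), Mv.f (nat_lit 208), Mv.f (nat_lit 146), Mv.b (nat_lit 208), Mv.f (nat_lit 218)])))))) (Tr.nd (nat_lit 223) (Tr.nd (nat_lit 222) (Tr.lf (Fc.ed (nat_lit 221) (nat_lit 88) Col.f (nat_lit 23) (Dv.wd (nat_lit 58) [Mv.f (nat_lit 65), Mv.b (nat_lit 92), Mv.b (nat_lit 157), Mv.b (nat_lit 209), Mv.f (nat_lit 218)]))) (Tr.lf (Fc.ed (nat_lit 222) (nat_lit 27) Col.e (nat_lit 89) Dv.df))) (Tr.nd (nat_lit 224) (Tr.lf (Fc.ed (nat_lit 223) (nat_lit 89) Col.b (nat_lit 73) (Dv.wd (nat_lit 45) [Mv.f (nat_lit 182), Mv.f (nat_lit 50), Mv.f (nat_lit 222)]))) (Tr.nd (nat_lit 225) (Tr.lf (Fc.ed (nat_lit 224) (nat_lit 89) Col.c (nat_lit 89) (Dv.wd (nat_lit 22) [Mv.b (nat_lit 222), Mv.f (nat_lit 70), Mv.f (nat_lit 222)]))) (Tr.lf (Fc.ed (nat_lit 225) (nat_lit 56) Col.c (nat_lit 90) Dv.df)))))) (Tr.nd (nat_lit 231) (Tr.nd (nat_lit 228) (Tr.nd (nat_lit 227) (Tr.lf (Fc.ed (nat_lit 226) (nat_lit 90) Col.a (nat_lit 84) (Dv.wd (nat_lit 7) [Mv.f (nat_lit 208), Mv.f (nat_lit 145), Mv.f (nat_lit 225)]))) (Tr.lf (Fc.ed (nat_lit 227) (nat_lit 90) Col.f (nat_lit 83) (Dv.wd (nat_lit 20) [Mv.b (nat_lit 205), Mv.f (nat_lit 139), Mv.f (nat_lit 225)])))) (Tr.nd (nat_lit 229) (Tr.lf (Fc.ed (nat_lit 228) (nat_lit 61) Col.c (nat_lit 91) Dv.df)) (Tr.nd (nat_lit 230) (Tr.lf (Fc.ed (nat_lit 229) (nat_lit 91) Col.b (nat_lit 85) (Dv.wd (nat_lit 53) [Mv.b (nat_lit 211), Mv.b (nat_lit 62), Mv.f (nat_lit 64), Mv.f (nat_lit 154), Mv.f (nat_lit 228)]))) (Tr.lf (Fc.ed (nat_lit 230) (nat_lit 75) Col.b (nat_lit 92) Dv.df))))) (Tr.nd (nat_lit 234) (Tr.nd (nat_lit 232) (Tr.lf (Fc.ed (nat_lit 231) (nat_lit 92) Col.e (nat_lit 86) (Dv.wd (nat_lit 28) [Mv.f (nat_lit 216), Mv.f (nat_lit 196), Mv.f (nat_lit 230)]))) (Tr.nd (nat_lit 233) (Tr.lf (Fc.ed (nat_lit 232) (nat_lit 92) Col.a (nat_lit 23) (Dv.wd (nat_lit 59) [Mv.b (nat_lit 221), Mv.f (nat_lit 220), Mv.b (nat_lit 218), Mv.b (nat_lit 226), Mv.f (nat_lit 227), Mv.b (nat_lit 205), Mv.b (nat_lit 94), Mv.b (nat_lit 103), Mv.b (nat_lit 110), Mv.f (nat_lit 109), Mv.b (nat_lit 157), Mv.b (nat_lit 206), Mv.b (nat_lit 227), Mv.b (nat_lit 225), Mv.f (nat_lit 151), Mv.b (nat_lit 149), Mv.b (nat_lit 23), Mv.f (nat_lit 186), Mv.f (nat_lit 230)]))) (Tr.lf (Fc.ed (nat_lit 233) (nat_lit 88) Col.d (nat_lit 93) Dv.df)))) (Tr.nd (nat_lit 235) (Tr.lf (Fc.ed (nat_lit 234) (nat_lit 93) Col.f (nat_lit 24) (Dv.wd (nat_lit 51) [Mv.b (nat_lit 47), Mv.b (nat_lit 221), Mv.f (nat_lit 233)]))) (Tr.nd (nat_lit 236) (Tr.lf (Fc.ed (nat_lit 235) (nat_lit 86) Col.g (nat_lit 94) Dv.df)) (Tr.lf (Fc.ed (nat_lit 236) (nat_lit 94) Col.a (nat_lit 49) (Dv.wd (nat_lit 46) [Mv.b (nat_lit 118), Mv.f (nat_lit 215), Mv.f (nat_lit 235)])))))))) (Tr.nd (nat_lit 248) (Tr.nd (nat_lit 242) (Tr.nd (nat_lit 239) (Tr.nd (nat_lit 238) (Tr.lf (Fc.ed (nat_lit 237) (nat_lit 92) Col.g (nat_lit 95) Dv.df)) (Tr.lf (Fc.ed (nat_lit 238) (nat_lit 95) Col.a (nat_lit 31) (Dv.wd (nat_lit 46) [Mv.f (nat_lit 58), Mv.b (nat_lit 232), Mv.f (nat_lit 237)])))) (Tr.nd (nat_lit 240) (Tr.lf (Fc.ed (nat_lit 239) (nat_lit 95) Col.e (nat_lit 94) (Dv.wd (nat_lit 40) [Mv.b (nat_lit 235), Mv.b (nat_lit 231), Mv.f (nat_lit 237)]))) (Tr.nd (nat_lit 241) (Tr.lf (Fc.ed (nat_lit 240) (nat_lit 95) Col.f (nat_lit 96) Dv.df)) (Tr.lf (Fc.ed (nat_lit 241) (nat_lit 96) Col.g (nat_lit 88) (Dv.wd (nat_lit 39) [Mv.f (nat_lit 221), Mv.b (nat_lit 58), Mv.b (nat_lit 238), Mv.f (nat_lit 240)])))))) (Tr.nd (nat_lit 245) (Tr.nd (nat_lit 243) (Tr.lf (Fc.ed (nat_lit 242) (nat_lit 49) Col.f (nat_lit 97) Dv.df)) (Tr.nd (nat_lit 244) (Tr.lf (Fc.ed (nat_lit 243) (nat_lit 66) Col.f (nat_lit 98) Dv.df)) (Tr.lf (Fc.ed (nat_lit 244) (nat_lit 98) Col.e (nat_lit 93) (Dv.wd (nat_lit 43) [Mv.f (nat_lit 234), Mv.f (nat_lit 165), Mv.f (nat_lit 243)]))))) (Tr.nd (nat_lit 246) (Tr.lf (Fc.ed (nat_lit 245) (nat_lit 63) Col.c (nat_lit 99) Dv.df)) (Tr.nd (nat_lit 247) (Tr.lf (Fc.ed (nat_lit 246) (nat_lit 99) Col.g (nat_lit 91) (Dv.wd (nat_lit 11) [Mv.b (nat_lit 228), Mv.f (nat_lit 159), Mv.f (nat_lit 245)]))) (Tr.lf (Fc.ed (nat_lit 247) (nat_lit 94) Col.b (nat_lit 99) (Dv.wd (nat_lit 60) [Mv.f (nat_lit 246), Mv.f (nat_lit 229), Mv.f (nat_lit 214), Mv.b (nat_lit 216), Mv.f (nat_lit 235)]))))))) (Tr.nd (nat_lit 253) (Tr.nd (nat_lit 250) (Tr.nd (nat_lit 249) (Tr.lf (Fc.ed (nat_lit 248) (nat_lit 93) Col.c (nat_lit 100) Dv.df)) (Tr.lf (Fc.ed (nat_lit 249) (nat_lit 100) Col.f (nat_lit 25) (Dv.wd (nat_lit 20) [Mv.b (nat_lit 48), Mv.b (nat_lit 234), Mv.f (nat_lit 248)])))) (Tr.nd (nat_lit 251) (Tr.lf (Fc.ed (nat_lit 250) (nat_lit 31) Col.f (nat_lit 101) Dv.df)) (Tr.nd (nat_lit 252) (Tr.lf (Fc.ed (nat_lit 251) (nat_lit 101) Col.a (nat_lit 96) (Dv.wd (nat_lit 61) [Mv.b (nat_lit 240), Mv.f (nat_lit 238), Mv.f (nat_lit 250)]))) (Tr.lf (Fc.ed (nat_lit 252) (nat_lit 101) Col.c (nat_lit 101) (Dv.wd (nat_lit 32) [Mv.b (nat_lit 250), Mv.f (nat_lit 59), Mv.f (nat_lit 250)])))))) (Tr.nd (nat_lit 256) (Tr.nd (nat_lit 254) (Tr.lf (Fc.ed (nat_lit 253) (nat_lit 101) Col.e (nat_lit 97) (Dv.wd (nat_lit 43) [Mv.b (nat_lit 242), Mv.f (nat_lit 119), Mv.f (nat_lit 250)]))) (Tr.nd (nat_lit 255) (Tr.lf (Fc.ed (nat_lit 254) (nat_lit 64) Col.c (nat_lit 102) Dv.df)) (Tr.lf (Fc.ed (nat_lit 255) (nat_lit 102) Col.e (nat_lit 91) (Dv.wd (nat_lit 56) [Mv.b (nat_lit 228), Mv.b (nat_lit 162), Mv.f (nat_lit 254)]))))) (Tr.nd (nat_lit 257) (Tr.lf (Fc.ed (nat_lit 256) (nat_lit 99) Col.e (nat_lit 103) Dv.df)) (Tr.nd (nat_lit 258) (Tr.lf (Fc.ed (nat_lit 257) (nat_lit 103) Col.b (nat_lit 95) (Dv.wd (nat_lit 45) [Mv.f (nat_lit 239), Mv.f (nat_lit 247), Mv.f (nat_lit 256)]))) (Tr.lf (Fc.ed (nat_lit 258) (nat_lit 103) Col.c (nat_lit 72) (Dv.wd (nat_lit 22) [Mv.f (nat_lit 180), Mv.f (nat_lit 245), Mv.f (nat_lit 256)])))))))))) (Tr.nd (nat_lit 302) (Tr.nd (nat_lit 280) (Tr.nd (nat_lit 269) (Tr.nd (nat_lit 264) (Tr.nd (nat_lit 261) (Tr.nd (nat_lit 260) (Tr.lf (Fc.ed (nat_lit 259) (nat_lit 103) Col.g (nat_lit 102) (Dv.wd (nat_lit 37) [Mv.f (nat_lit 255), Mv.b (nat_lit 246), Mv.f (nat_lit 256)]))) (Tr.lf (Fc.ed (nat_lit 260) (nat_lit 92) Col.f (nat_lit 104) Dv.df))) (Tr.nd (nat_lit 262) (Tr.lf (Fc.ed (nat_lit 261) (nat_lit 104) Col.a (nat_lit 88) (Dv.wd (nat_lit 61) [Mv.f (nat_lit 221), Mv.b (nat_lit 232), Mv.f (nat_lit 260)]))) (Tr.nd (nat_lit 263) (Tr.lf (Fc.ed (nat_lit 262) (nat_lit 104) Col.e (nat_lit 87) (Dv.wd (nat_lit 43) [Mv.b (nat_lit 217), Mv.b (nat_lit 231), Mv.f (nat_lit 260)]))) (Tr.lf (Fc.ed (nat_lit 263) (nat_lit 104) Col.g (nat_lit 101) (Dv.wd (nat_lit 39) [Mv.b (nat_lit 250), Mv.f (nat_lit 58), Mv.b (nat_lit 232), Mv.f (nat_lit 260)])))))) (Tr.nd (nat_lit 266) (Tr.nd (nat_lit 265) (Tr.lf (Fc.ed (nat_lit 264) (nat_lit 28) Col.e (nat_lit 105) Dv.df)) (Tr.lf (Fc.ed (nat_lit 265) (nat_lit 105) Col.a (nat_lit 89) (Dv.wd (nat_lit 36) [Mv.b (nat_lit 222), Mv.f (nat_lit 51), Mv.f (nat_lit 264)])))) (Tr.nd (nat_lit 267) (Tr.lf (Fc.ed (nat_lit 266) (nat_lit 105) Col.c (nat_lit 105) (Dv.wd (nat_lit 22) [Mv.b (nat_lit 264), Mv.f (nat_lit 71), Mv.f (nat_lit 264)]))) (Tr.nd (nat_lit 268) (Tr.lf (Fc.ed (nat_lit 267) (nat_lit 82) Col.e (nat_lit 106) Dv.df)) (Tr.lf (Fc.ed (nat_lit 268) (nat_lit 106) Col.f (nat_lit 64) (Dv.wd (nat_lit 44) [Mv.f (nat_lit 162), Mv.b (nat_lit 204), Mv.f (nat_lit 267)]))))))) (Tr.nd (nat_lit 274) (Tr.nd (nat_lit 271) (Tr.nd (nat_lit 270) (Tr.lf (Fc.ed (nat_lit 269) (nat_lit 106) Col.d (nat_lit 98) (Dv.wd (nat_lit 54) [Mv.f (nat_lit 244), Mv.b (nat_lit 233), Mv.f (nat_lit 219), Mv.f (nat_lit 203), Mv.f (nat_lit 267)]))) (Tr.lf (Fc.ed (nat_lit 270) (nat_lit 102) Col.f (nat_lit 107) Dv.df))) (Tr.nd (nat_lit 272) (Tr.lf (Fc.ed (nat_lit 271) (nat_lit 107) Col.c (nat_lit 106) (Dv.wd (nat_lit 32) [Mv.f (nat_lit 268), Mv.f (nat_lit 254), Mv.f (nat_lit 270)]))) (Tr.nd (nat_lit 273) (Tr.lf (Fc.ed (nat_lit 272) (nat_lit 94) Col.d (nat_lit 108) Dv.df)) (Tr.lf (Fc.ed (nat_lit 273) (nat_lit 108) Col.a (nat_lit 63) (Dv.wd (nat_lit 25) [Mv.f (nat_lit 160), Mv.b (nat_lit 236), Mv.f (nat_lit 272)])))))) (Tr.nd (nat_lit 277) (Tr.nd (nat_lit 275) (Tr.lf (Fc.ed (nat_lit 274) (nat_lit 61) Col.a (nat_lit 109) Dv.df)) (Tr.nd (nat_lit 276) (Tr.lf (Fc.ed (nat_lit 275) (nat_lit 109) Col.d (nat_lit 86) (Dv.wd (nat_lit 62) [Mv.b (nat_lit 215), Mv.b (nat_lit 155), Mv.f (nat_lit 274)]))) (Tr.lf (Fc.ed (nat_lit 276) (nat_lit 24) Col.a (nat_lit 110) Dv.df)))) (Tr.nd (nat_lit 278) (Tr.lf (Fc.ed (nat_lit 277) (nat_lit 110) Col.d (nat_lit 92) (Dv.wd (nat_lit 62) [Mv.f (nat_lit 232), Mv.f (nat_lit 47), Mv.f (nat_lit 276)]))) (Tr.nd (nat_lit 279) (Tr.lf (Fc.ed (nat_lit 278) (nat_lit 68) Col.d (nat_lit 111) Dv.df)) (Tr.lf (Fc.ed (nat_lit 279) (nat_lit 111) Col.b (nat_lit 82) (Dv.wd (nat_lit 26) [Mv.b (nat_lit 203), Mv.f (nat_lit 192), Mv.f (nat_lit 278)])))))))) (Tr.nd (nat_lit 291) (Tr.nd (nat_lit 285) (Tr.nd (nat_lit 282) (Tr.nd (nat_lit 281) (Tr.lf (Fc.ed (nat_lit 280) (nat_lit 111) Col.c (nat_lit 112) Dv.df)) (Tr.lf (Fc.ed (nat_lit 281) (nat_lit 35) Col.b (nat_lit 113) Dv.df))) (Tr.nd (nat_lit 283) (Tr.lf (Fc.ed (nat_lit 282) (nat_lit 113) Col.d (nat_lit 60) (Dv.wd (nat_lit 16) [Mv.f (nat_lit 153), Mv.f (nat_lit 77), Mv.f (nat_lit 281)]))) (Tr.nd (nat_lit 284) (Tr.lf (Fc.ed (nat_lit 283) (nat_lit 113) Col.f (nat_lit 111) (Dv.wd (nat_lit 58) [Mv.f (nat_lit 279), Mv.f (nat_lit 204), Mv.b (nat_lit 154), Mv.b (nat_lit 75), Mv.f (nat_lit 281)]))) (Tr.lf (Fc.ed (nat_lit 284) (nat_lit 113) Col.c (nat_lit 114) Dv.df))))) (Tr.nd (nat_lit 288) (Tr.nd (nat_lit 286) (Tr.lf (Fc.ed (nat_lit 285) (nat_lit 114) Col.f (nat_lit 112) (Dv.wd (nat_lit 20) [Mv.b (nat_lit 280), Mv.b (nat_lit 283), Mv.f (nat_lit 284)]))) (Tr.nd (nat_lit 287) (Tr.lf (Fc.ed (nat_lit 286) (nat_lit 114) Col.b (nat_lit 74) (Dv.wd (nat_lit 53) [Mv.b (nat_lit 184), Mv.b (nat_lit 116), Mv.f (nat_lit 82), Mv.f (nat_lit 281), Mv.f (nat_lit 284)]))) (Tr.lf (Fc.ed (nat_lit 287) (nat_lit 110) Col.g (nat_lit 115) Dv.df)))) (Tr.nd (nat_lit 289) (Tr.lf (Fc.ed (nat_lit 288) (nat_lit 115) Col.a (nat_lit 30) (Dv.wd (nat_lit 46) [Mv.f (nat_lit 56), Mv.f (nat_lit 276), Mv.f (nat_lit 287)]))) (Tr.nd (nat_lit 290) (Tr.lf (Fc.ed (nat_lit 289) (nat_lit 115) Col.d (nat_lit 95) (Dv.wd (nat_lit 15) [Mv.b (nat_lit 237), Mv.b (nat_lit 277), Mv.f (nat_lit 287)]))) (Tr.lf (Fc.ed (nat_lit 290) (nat_lit 72) Col.a (nat_lit 116) Dv.df)))))) (Tr.nd (nat_lit 296) (Tr.nd (nat_lit 293) (Tr.nd (nat_lit 292) (Tr.lf (Fc.ed (nat_lit 291) (nat_lit 116) Col.e (nat_lit 108) (Dv.wd (nat_lit 50) [Mv.f (nat_lit 273), Mv.b (nat_lit 180), Mv.f (nat_lit 290)]))) (Tr.lf (Fc.ed (nat_lit 292) (nat_lit 108) Col.f (nat_lit 117) Dv.df))) (Tr.nd (nat_lit 294) (Tr.lf (Fc.ed (nat_lit 293) (nat_lit 26) Col.a (nat_lit 118) Dv.df)) (Tr.nd (nat_lit 295) (Tr.lf (Fc.ed (nat_lit 294) (nat_lit 100) Col.g (nat_lit 119) Dv.df)) (Tr.lf (Fc.ed (nat_lit 295) (nat_lit 119) Col.f (nat_lit 118) (Dv.wd (nat_lit 63) [Mv.b (nat_lit 293), Mv.b (nat_lit 49), Mv.b (nat_lit 249), Mv.f (nat_lit 294)])))))) (Tr.nd (nat_lit 299) (Tr.nd (nat_lit 297) (Tr.lf (Fc.ed (nat_lit 296) (nat_lit 110) Col.e (nat_lit 120) Dv.df)) (Tr.nd (nat_lit 298) (Tr.lf (Fc.ed (nat_lit 297) (nat_lit 120) Col.a (nat_lit 66) (Dv.wd (nat_lit 36) [Mv.b (nat_lit 165), Mv.f (nat_lit 276), Mv.f (nat_lit 296)]))) (Tr.lf (Fc.ed (nat_lit 298) (nat_lit 115) Col.e (nat_lit 121) Dv.df)))) (Tr.nd (nat_lit 300) (Tr.lf (Fc.ed (nat_lit 299) (nat_lit 121) Col.a (nat_lit 71) (Dv.wd (nat_lit 36) [Mv.b (nat_lit 174), Mv.b (nat_lit 288), Mv.f (nat_lit 298)]))) (Tr.nd (nat_lit 301) (Tr.lf (Fc.ed (nat_lit 300) (nat_lit 121) Col.d (nat_lit 116) (Dv.wd (nat_lit 54) [Mv.f (nat_lit 291), Mv.b (nat_lit 272), Mv.b (nat_lit 239), Mv.b (nat_lit 289), Mv.f (nat_lit 298)]))) (Tr.lf (Fc.ed (nat_lit 301) (nat_lit 93) Col.b (nat_lit 122) Dv.df)))))))) (Tr.nd (nat_lit 324) (Tr.nd (nat_lit 313) (Tr.nd (nat_lit 307) (Tr.nd (nat_lit 304) (Tr.nd (nat_lit 303) (Tr.lf (Fc.ed (nat_lit 302) (nat_lit 122) Col.f (nat_lit 80) (Dv.wd (nat_lit 58) [Mv.f (nat_lit 199), Mv.b (nat_lit 170), Mv.b (nat_lit 163), Mv.b (nat_lit 234), Mv.f (nat_lit 301)]))) (Tr.lf (Fc.ed (nat_lit 303) (nat_lit 98) Col.a (nat_lit 123) Dv.df))) (Tr.nd (nat_lit 305) (Tr.lf (Fc.ed (nat_lit 304) (nat_lit 123) Col.f (nat_lit 120) (Dv.wd (nat_lit 48) [Mv.f (nat_lit 297), Mv.f (nat_lit 243), Mv.f (nat_lit 303)]))) (Tr.nd (nat_lit 306) (Tr.lf (Fc.ed (nat_lit 305) (nat_lit 64) Col.a (nat_lit 124) Dv.df)) (Tr.lf (Fc.ed (nat_lit 306) (nat_lit 124) Col.e (nat_lit 109) (Dv.wd (nat_lit 50) [Mv.b (nat_lit 274), Mv.b (nat_lit 162), Mv.f (nat_lit 305)])))))) (Tr.nd (nat_lit 310) (Tr.nd (nat_lit 308) (Tr.lf (Fc.ed (nat_lit 307) (nat_lit 124) Col.g (nat_lit 116) (Dv.wd (nat_lit 12) [Mv.b (nat_lit 290), Mv.f (nat_lit 179), Mv.f (nat_lit 305)]))) (Tr.nd (nat_lit 309) (Tr.lf (Fc.ed (nat_lit 308) (nat_lit 80) Col.g (nat_lit 125) Dv.df)) (Tr.lf (Fc.ed (nat_lit 309) (nat_lit 125) Col.d (nat_lit 70) (Dv.wd (nat_lit 15) [Mv.b (nat_lit 172), Mv.f (nat_lit 198), Mv.f (nat_lit 308)]))))) (Tr.nd (nat_lit 311) (Tr.lf (Fc.ed (nat_lit 310) (nat_lit 98) Col.b (nat_lit 126) Dv.df)) (Tr.nd (nat_lit 312) (Tr.lf (Fc.ed (nat_lit 311) (nat_lit 111) Col.a (nat_lit 127) Dv.df)) (Tr.lf (Fc.ed (nat_lit 312) (nat_lit 127) Col.d (nat_lit 76) (Dv.wd (nat_lit 62) [Mv.f (nat_lit 189), Mv.f (nat_lit 278), Mv.f (nat_lit 311)]))))))) (Tr.nd (nat_lit 318) (Tr.nd (nat_lit 315) (Tr.nd (nat_lit 314) (Tr.lf (Fc.ed (nat_lit 313) (nat_lit 63) Col.f (nat_lit 128) Dv.df)) (Tr.lf (Fc.ed (nat_lit 314) (nat_lit 128) Col.a (nat_lit 117) (Dv.wd (nat_lit 61) [Mv.b (nat_lit 292), Mv.f (nat_lit 273), Mv.f (nat_lit 313)])))) (Tr.nd (nat_lit 316) (Tr.lf (Fc.ed (nat_lit 315) (nat_lit 123) Col.g (nat_lit 129) Dv.df)) (Tr.nd (nat_lit 317) (Tr.lf (Fc.ed (nat_lit 316) (nat_lit 129) Col.f (nat_lit 71) (Dv.wd (nat_lit 33) [Mv.f (nat_lit 176), Mv.b (nat_lit 297), Mv.b (nat_lit 304), Mv.f (nat_lit 315)]))) (Tr.lf (Fc.ed (nat_lit 317) (nat_lit 73) Col.f (nat_lit 130) Dv.df))))) (Tr.nd (nat_lit 321) (Tr.nd (nat_lit 319) (Tr.lf (Fc.ed (nat_lit 318) (nat_lit 130) Col.c (nat_lit 129) (Dv.wd (nat_lit 32) [Mv.f (nat_lit 316), Mv.f (nat_lit 181), Mv.f (nat_lit 317)]))) (Tr.nd (nat_lit 320) (Tr.lf (Fc.ed (nat_lit 319) (nat_lit 127) Col.c (nat_lit 131) Dv.df)) (Tr.lf (Fc.ed (nat_lit 320) (nat_lit 131) Col.a (nat_lit 112) (Dv.wd (nat_lit 7) [Mv.b (nat_lit 280), Mv.f (nat_lit 311), Mv.f (nat_lit 319)]))))) (Tr.nd (nat_lit 322) (Tr.lf (Fc.ed (nat_lit 321) (nat_lit 131) Col.d (nat_lit 78) (Dv.wd (nat_lit 64) [Mv.b (nat_lit 193), Mv.b (nat_lit 136), Mv.b (nat_lit 138), Mv.b (nat_lit 133), Mv.b (nat_lit 169), Mv.f (nat_lit 278), Mv.f (nat_lit 311), Mv.f (nat_lit 319)]))) (Tr.nd (nat_lit 323) (Tr.lf (Fc.ed (nat_lit 322) (nat_lit 121) Col.f (nat_lit 132) Dv.df)) (Tr.lf (Fc.ed (nat_lit 323) (nat_lit 132) Col.a (nat_lit 129) (Dv.wd (nat_lit 61) [Mv.f (nat_lit 316), Mv.b (nat_lit 299), Mv.f (nat_lit 322)])))))))) (Tr.nd (nat_lit 335) (Tr.nd (nat_lit 329) (Tr.nd (nat_lit 326) (Tr.nd (nat_lit 325) (Tr.lf (Fc.ed (nat_lit 324) (nat_lit 116) Col.f (nat_lit 133) Dv.df)) (Tr.lf (Fc.ed (nat_lit 325) (nat_lit 133) Col.d (nat_lit 132) (Dv.wd (nat_lit 38) [Mv.b (nat_lit 322), Mv.f (nat_lit 300), Mv.f (nat_lit 324)])))) (Tr.nd (nat_lit 327) (Tr.lf (Fc.ed (nat_lit 326) (nat_lit 133) Col.e (nat_lit 117) (Dv.wd (nat_lit 43) [Mv.b (nat_lit 292), Mv.b (nat_lit 291), Mv.f (nat_lit 324)]))) (Tr.nd (nat_lit 328) (Tr.lf (Fc.ed (nat_lit 327) (nat_lit 133) Col.g (nat_lit 106) (Dv.wd (nat_lit 39) [Mv.f (nat_lit 268), Mv.b (nat_lit 179), Mv.f (nat_lit 290), Mv.f (nat_lit 324)]))) (Tr.lf (Fc.ed (nat_lit 328) (nat_lit 26) Col.f (nat_lit 134) Dv.df))))) (Tr.nd (nat_lit 332) (Tr.nd (nat_lit 330) (Tr.lf (Fc.ed (nat_lit 329) (nat_lit 134) Col.a (nat_lit 119) (Dv.wd (nat_lit 61) [Mv.f (nat_lit 295), Mv.b (nat_lit 293), Mv.f (nat_lit 328)]))) (Tr.nd (nat_lit 331) (Tr.lf (Fc.ed (nat_lit 330) (nat_lit 134) Col.e (nat_lit 130) (Dv.wd (nat_lit 43) [Mv.b (nat_lit 317), Mv.f (nat_lit 182), Mv.f (nat_lit 328)]))) (Tr.lf (Fc.ed (nat_lit 331) (nat_lit 116) Col.c (nat_lit 135) Dv.df)))) (Tr.nd (nat_lit 333) (Tr.lf (Fc.ed (nat_lit 332) (nat_lit 135) Col.a (nat_lit 103) (Dv.wd (nat_lit 7) [Mv.f (nat_lit 258), Mv.f (nat_lit 290), Mv.f (nat_lit 331)]))) (Tr.nd (nat_lit 334) (Tr.lf (Fc.ed (nat_lit 333) (nat_lit 73) Col.a (nat_lit 136) Dv.df)) (Tr.lf (Fc.ed (nat_lit 334) (nat_lit 70) Col.b (nat_lit 137) Dv.df)))))) (Tr.nd (nat_lit 340) (Tr.nd (nat_lit 337) (Tr.nd (nat_lit 336) (Tr.lf (Fc.ed (nat_lit 335) (nat_lit 137) Col.e (nat_lit 114) (Dv.wd (nat_lit 28) [Mv.f (nat_lit 286), Mv.f (nat_lit 185), Mv.f (nat_lit 334)]))) (Tr.lf (Fc.ed (nat_lit 336) (nat_lit 110) Col.b (nat_lit 138) Dv.df))) (Tr.nd (nat_lit 338) (Tr.lf (Fc.ed (nat_lit 337) (nat_lit 138) Col.d (nat_lit 75) (Dv.wd (nat_lit 16) [Mv.f (nat_lit 230), Mv.b (nat_lit 277), Mv.f (nat_lit 336)]))) (Tr.nd (nat_lit 339) (Tr.lf (Fc.ed (nat_lit 338) (nat_lit 125) Col.a (nat_lit 138) (Dv.wd (nat_lit 65) [Mv.f (nat_lit 337), Mv.f (nat_lit 187), Mv.b (nat_lit 309)]))) (Tr.lf (Fc.ed (nat_lit 339) (nat_lit 137) Col.a (nat_lit 139) Dv.df))))) (Tr.nd (nat_lit 343) (Tr.nd (nat_lit 341) (Tr.lf (Fc.ed (nat_lit 340) (nat_lit 139) Col.b (nat_lit 124) (Dv.wd (nat_lit 66) [Mv.b (nat_lit 305), Mv.b (nat_lit 161), Mv.f (nat_lit 79), Mv.b (nat_lit 65), Mv.b (nat_lit 232), Mv.b (nat_lit 230), Mv.f (nat_lit 187), Mv.f (nat_lit 334), Mv.f (nat_lit 339)]))) (Tr.nd (nat_lit 342) (Tr.lf (Fc.ed (nat_lit 341) (nat_lit 128) Col.e (nat_lit 140) Dv.df)) (Tr.lf (Fc.ed (nat_lit 342) (nat_lit 140) Col.a (nat_lit 133) (Dv.wd (nat_lit 36) [Mv.f (nat_lit 326), Mv.b (nat_lit 314), Mv.f (nat_lit 341)]))))) (Tr.nd (nat_lit 344) (Tr.lf (Fc.ed (nat_lit 343) (nat_lit 140) Col.f (nat_lit 72) (Dv.wd (nat_lit 44) [Mv.f (nat_lit 180), Mv.f (nat_lit 313), Mv.f (nat_lit 341)]))) (Tr.nd (nat_lit 345) (Tr.lf (Fc.ed (nat_lit 344) (nat_lit 129) Col.d (nat_lit 140) (Dv.wd (nat_lit 35) [Mv.f (nat_lit 343), Mv.b (nat_lit 177), Mv.b (nat_lit 316)]))) (Tr.lf (Fc.ed (nat_lit 345) (nat_lit 134) Col.c (nat_lit 141) Dv.df))))))))))) (Tr.nd (nat_lit 519) (Tr.nd (nat_lit 432) (Tr.nd (nat_lit 389) (Tr.nd (nat_lit 367) (Tr.nd (nat_lit 356) (Tr.nd (nat_lit 351) (Tr.nd (nat_lit 348) (Tr.nd (nat_lit 347) (Tr.lf (Fc.ed (nat_lit 346) (nat_lit 141) Col.e (nat_lit 129) (Dv.wd (nat_lit 56) [Mv.b (nat_lit 318), Mv.b (nat_lit 330), Mv.f (nat_lit 345)]))) (Tr.lf (Fc.ed (nat_lit 347) (nat_lit 141) Col.f (nat_lit 30) (Dv.wd (nat_lit 20) [Mv.b (nat_lit 55), Mv.f (nat_lit 328), Mv.f (nat_lit 345)])))) (Tr.nd (nat_lit 349) (Tr.lf (Fc.ed (nat_lit 348) (nat_lit 101) Col.d (nat_lit 141) (Dv.wd (nat_lit 35) [Mv.f (nat_lit 347), Mv.f (nat_lit 57), Mv.f (nat_lit 250)]))) (Tr.nd (nat_lit 350) (Tr.lf (Fc.ed (nat_lit 349) (nat_lit 85) Col.d (nat_lit 142) Dv.df)) (Tr.lf (Fc.ed (nat_lit 350) (nat_lit 142) Col.a (nat_lit 113) (Dv.wd (nat_lit 25) [Mv.f (nat_lit 282), Mv.b (nat_lit 212), Mv.f (nat_lit 349)])))))) (Tr.nd (nat_lit 353) (Tr.nd (nat_lit 352) (Tr.lf (Fc.ed (nat_lit 351) (nat_lit 142) Col.f (nat_lit 127) (Dv.wd (nat_lit 51) [Mv.f (nat_lit 312), Mv.b (nat_lit 213), Mv.f (nat_lit 349)]))) (Tr.lf (Fc.ed (nat_lit 352) (nat_lit 126) Col.d (nat_lit 143) Dv.df))) (Tr.nd (nat_lit 354) (Tr.lf (Fc.ed (nat_lit 353) (nat_lit 143) Col.b (nat_lit 106) (Dv.wd (nat_lit 26) [Mv.f (nat_lit 269), Mv.f (nat_lit 310), Mv.f (nat_lit 352)]))) (Tr.nd (nat_lit 355) (Tr.lf (Fc.ed (nat_lit 354) (nat_lit 140) Col.g (nat_lit 144) Dv.df)) (Tr.lf (Fc.ed (nat_lit 355) (nat_lit 144) Col.a (nat_lit 106) (Dv.wd (nat_lit 46) [Mv.b (nat_lit 327), Mv.b (nat_lit 342), Mv.f (nat_lit 354)]))))))) (Tr.nd (nat_lit 361) (Tr.nd (nat_lit 358) (Tr.nd (nat_lit 357) (Tr.lf (Fc.ed (nat_lit 356) (nat_lit 144) Col.f (nat_lit 124) (Dv.wd (nat_lit 33) [Mv.f (nat_lit 307), Mv.b (nat_lit 290), Mv.b (nat_lit 343), Mv.f (nat_lit 354)]))) (Tr.lf (Fc.ed (nat_lit 357) (nat_lit 79) Col.d (nat_lit 145) Dv.df))) (Tr.nd (nat_lit 359) (Tr.lf (Fc.ed (nat_lit 358) (nat_lit 145) Col.b (nat_lit 109) (Dv.wd (nat_lit 26) [Mv.f (nat_lit 275), Mv.f (nat_lit 216), Mv.f (nat_lit 357)]))) (Tr.nd (nat_lit 360) (Tr.lf (Fc.ed (nat_lit 359) (nat_lit 145) Col.f (nat_lit 131) (Dv.wd (nat_lit 51) [Mv.f (nat_lit 321), Mv.b (nat_lit 197), Mv.f (nat_lit 357)]))) (Tr.lf (Fc.ed (nat_lit 360) (nat_lit 141) Col.a (nat_lit 146) Dv.df))))) (Tr.nd (nat_lit 364) (Tr.nd (nat_lit 362) (Tr.lf (Fc.ed (nat_lit 361) (nat_lit 146) Col.c (nat_lit 119) (Dv.wd (nat_lit 31) [Mv.b (nat_lit 329), Mv.f (nat_lit 345), Mv.f (nat_lit 360)]))) (Tr.nd (nat_lit 363) (Tr.lf (Fc.ed (nat_lit 362) (nat_lit 146) Col.d (nat_lit 96) (Dv.wd (nat_lit 62) [Mv.b (nat_lit 251), Mv.f (nat_lit 348), Mv.f (nat_lit 360)]))) (Tr.lf (Fc.ed (nat_lit 363) (nat_lit 146) Col.e (nat_lit 132) (Dv.wd (nat_lit 50) [Mv.f (nat_lit 323), Mv.b (nat_lit 346), Mv.f (nat_lit 360)]))))) (Tr.nd (nat_lit 365) (Tr.lf (Fc.ed (nat_lit 364) (nat_lit 146) Col.f (nat_lit 115) (Dv.wd (nat_lit 48) [Mv.f (nat_lit 288), Mv.b (nat_lit 347), Mv.f (nat_lit 360)]))) (Tr.nd (nat_lit 366) (Tr.lf (Fc.ed (nat_lit 365) (nat_lit 146) Col.g (nat_lit 93) (Dv.wd (nat_lit 67) [Mv.f (nat_lit 234), Mv.b (nat_lit 56), Mv.b (nat_lit 347), Mv.f (nat_lit 360)]))) (Tr.lf (Fc.ed (nat_lit 366) (nat_lit 43) Col.b (nat_lit 147) Dv.df))))))) (Tr.nd (nat_lit 378) (Tr.nd (nat_lit 372) (Tr.nd (nat_lit 369) (Tr.nd (nat_lit 368) (Tr.lf (Fc.ed (nat_lit 367) (nat_lit 147) Col.f (nat_lit 143) (Dv.wd (nat_lit 58) [Mv.f (nat_lit 353), Mv.f (nat_lit 268), Mv.b (nat_lit 161), Mv.b (nat_lit 101), Mv.f (nat_lit 366)]))) (Tr.lf (Fc.ed (nat_lit 368) (nat_lit 147) Col.g (nat_lit 137) (Dv.wd (nat_lit 10) [Mv.b (nat_lit 334), Mv.b (nat_lit 172), Mv.f (nat_lit 157), Mv.f (nat_lit 99), Mv.f (nat_lit 366)])))) (Tr.nd (nat_lit 370) (Tr.lf (Fc.ed (nat_lit 369) (nat_lit 125) Col.f (nat_lit 148) Dv.df)) (Tr.nd (nat_lit 371) (Tr.lf (Fc.ed (nat_lit 370) (nat_lit 109) Col.f (nat_lit 149) Dv.df)) (Tr.lf (Fc.ed (nat_lit 371) (nat_lit 149) Col.e (nat_lit 144) (Dv.wd (nat_lit 43) [Mv.f (nat_lit 356), Mv.f (nat_lit 306), Mv.f (nat_lit 370)])))))) (Tr.nd (nat_lit 375) (Tr.nd (nat_lit 373) (Tr.lf (Fc.ed (nat_lit 372) (nat_lit 93) Col.a (nat_lit 150) Dv.df)) (Tr.nd (nat_lit 374) (Tr.lf (Fc.ed (nat_lit 373) (nat_lit 150) Col.d (nat_lit 104) (Dv.wd (nat_lit 62) [Mv.f (nat_lit 261), Mv.f (nat_lit 233), Mv.f (nat_lit 372)]))) (Tr.lf (Fc.ed (nat_lit 374) (nat_lit 150) Col.g (nat_lit 141) (Dv.wd (nat_lit 12) [Mv.f (nat_lit 360), Mv.f (nat_lit 365), Mv.f (nat_lit 372)]))))) (Tr.nd (nat_lit 376) (Tr.lf (Fc.ed (nat_lit 375) (nat_lit 148) Col.a (nat_lit 151) Dv.df)) (Tr.nd (nat_lit 377) (Tr.lf (Fc.ed (nat_lit 376) (nat_lit 151) Col.f (nat_lit 138) (Dv.wd (nat_lit 48) [Mv.b (nat_lit 338), Mv.f (nat_lit 369), Mv.f (nat_lit 375)]))) (Tr.lf (Fc.ed (nat_lit 377) (nat_lit 151) Col.g (nat_lit 122) (Dv.wd (nat_lit 67) [Mv.f (nat_lit 302), Mv.f (nat_lit 308), Mv.f (nat_lit 369), Mv.f (nat_lit 375)]))))))) (Tr.nd (nat_lit 383) (Tr.nd (nat_lit 380) (Tr.nd (nat_lit 379) (Tr.lf (Fc.ed (nat_lit 378) (nat_lit 136) Col.f (nat_lit 152) Dv.df)) (Tr.lf (Fc.ed (nat_lit 379) (nat_lit 152) Col.a (nat_lit 130) (Dv.wd (nat_lit 61) [Mv.b (nat_lit 317), Mv.f (nat_lit 333), Mv.f (nat_lit 378)])))) (Tr.nd (nat_lit 381) (Tr.lf (Fc.ed (nat_lit 380) (nat_lit 81) Col.b (nat_lit 153) Dv.df)) (Tr.nd (nat_lit 382) (Tr.lf (Fc.ed (nat_lit 381) (nat_lit 153) Col.g (nat_lit 154) Dv.df)) (Tr.lf (Fc.ed (nat_lit 382) (nat_lit 154) Col.b (nat_lit 96) (Dv.wd (nat_lit 41) [Mv.f (nat_lit 241), Mv.b (nat_lit 218), Mv.f (nat_lit 210), Mv.f (nat_lit 380), Mv.f (nat_lit 381)])))))) (Tr.nd (nat_lit 386) (Tr.nd (nat_lit 384) (Tr.lf (Fc.ed (nat_lit 383) (nat_lit 153) Col.f (nat_lit 155) Dv.df)) (Tr.nd (nat_lit 385) (Tr.lf (Fc.ed (nat_lit 384) (nat_lit 155) Col.b (nat_lit 104) (Dv.wd (nat_lit 47) [Mv.b (nat_lit 260), Mv.b (nat_lit 230), Mv.b (nat_lit 202), Mv.f (nat_lit 380), Mv.f (nat_lit 383)]))) (Tr.lf (Fc.ed (nat_lit 385) (nat_lit 153) Col.c (nat_lit 156) Dv.df)))) (Tr.nd (nat_lit 387) (Tr.lf (Fc.ed (nat_lit 386) (nat_lit 156) Col.b (nat_lit 20) (Dv.wd (nat_lit 53) [Mv.b (nat_lit 25), Mv.b (nat_lit 24), Mv.f (nat_lit 200), Mv.f (nat_lit 380), Mv.f (nat_lit 385)]))) (Tr.nd (nat_lit 388) (Tr.lf (Fc.ed (nat_lit 387) (nat_lit 156) Col.d (nat_lit 156) (Dv.wd (nat_lit 68) [Mv.f (nat_lit 386), Mv.f (nat_lit 26), Mv.b (nat_lit 386)]))) (Tr.lf (Fc.ed (nat_lit 388) (nat_lit 102) Col.a (nat_lit 157) Dv.df)))))))) (Tr.nd (nat_lit 410) (Tr.nd (nat_lit 399) (Tr.nd (nat_lit 394) (Tr.nd (nat_lit 391) (Tr.nd (nat_lit 390) (Tr.lf (Fc.ed (nat_lit 389) (nat_lit 157) Col.g (nat_lit 135) (Dv.wd (nat_lit 12) [Mv.f (nat_lit 332), Mv.f (nat_lit 259), Mv.f (nat_lit 388)]))) (Tr.lf (Fc.ed (nat_lit 390) (nat_lit 155) Col.e (nat_lit 158) Dv.df))) (Tr.nd (nat_lit 392) (Tr.lf (Fc.ed (nat_lit 391) (nat_lit 158) Col.b (nat_lit 87) (Dv.wd (nat_lit 45) [Mv.b (nat_lit 262), Mv.b (nat_lit 384), Mv.f (nat_lit 390)]))) (Tr.nd (nat_lit 393) (Tr.lf (Fc.ed (nat_lit 392) (nat_lit 158) Col.f (nat_lit 159) Dv.df)) (Tr.lf (Fc.ed (nat_lit 393) (nat_lit 159) Col.b (nat_lit 78) (Dv.wd (nat_lit 47) [Mv.b (nat_lit 197), Mv.b (nat_lit 216), Mv.f (nat_lit 217), Mv.b (nat_lit 391), Mv.f (nat_lit 392)])))))) (Tr.nd (nat_lit 396) (Tr.nd (nat_lit 395) (Tr.lf (Fc.ed (nat_lit 394) (nat_lit 107) Col.a (nat_lit 160) Dv.df)) (Tr.lf (Fc.ed (nat_lit 395) (nat_lit 160) Col.c (nat_lit 144) (Dv.wd (nat_lit 31) [Mv.f (nat_lit 355), Mv.b (nat_lit 271), Mv.f (nat_lit 394)])))) (Tr.nd (nat_lit 397) (Tr.lf (Fc.ed (nat_lit 396) (nat_lit 160) Col.f (nat_lit 157) (Dv.wd (nat_lit 48) [Mv.b (nat_lit 388), Mv.f (nat_lit 270), Mv.f (nat_lit 394)]))) (Tr.nd (nat_lit 398) (Tr.lf (Fc.ed (nat_lit 397) (nat_lit 159) Col.d (nat_lit 161) Dv.df)) (Tr.lf (Fc.ed (nat_lit 398) (nat_lit 161) Col.b (nat_lit 131) (Dv.wd (nat_lit 26) [Mv.f (nat_lit 321), Mv.b (nat_lit 393), Mv.f (nat_lit 397)]))))))) (Tr.nd (nat_lit 404) (Tr.nd (nat_lit 401) (Tr.nd (nat_lit 400) (Tr.lf (Fc.ed (nat_lit 399) (nat_lit 103) Col.f (nat_lit 162) Dv.df)) (Tr.lf (Fc.ed (nat_lit 400) (nat_lit 162) Col.c (nat_lit 140) (Dv.wd (nat_lit 32) [Mv.f (nat_lit 343), Mv.b (nat_lit 258), Mv.f (nat_lit 399)])))) (Tr.nd (nat_lit 402) (Tr.lf (Fc.ed (nat_lit 401) (nat_lit 162) Col.g (nat_lit 160) (Dv.wd (nat_lit 39) [Mv.f (nat_lit 396), Mv.f (nat_lit 389), Mv.f (nat_lit 332), Mv.f (nat_lit 399)]))) (Tr.nd (nat_lit 403) (Tr.lf (Fc.ed (nat_lit 402) (nat_lit 150) Col.b (nat_lit 163) Dv.df)) (Tr.lf (Fc.ed (nat_lit 403) (nat_lit 163) Col.d (nat_lit 155) (Dv.wd (nat_lit 16) [Mv.f (nat_lit 384), Mv.b (nat_lit 373), Mv.f (nat_lit 402)])))))) (Tr.nd (nat_lit 407) (Tr.nd (nat_lit 405) (Tr.lf (Fc.ed (nat_lit 404) (nat_lit 154) Col.f (nat_lit 164) Dv.df)) (Tr.nd (nat_lit 406) (Tr.lf (Fc.ed (nat_lit 405) (nat_lit 164) Col.b (nat_lit 162) (Dv.wd (nat_lit 47) [Mv.b (nat_lit 399), Mv.f (nat_lit 257), Mv.f (nat_lit 240), Mv.b (nat_lit 382), Mv.f (nat_lit 404)]))) (Tr.lf (Fc.ed (nat_lit 406) (nat_lit 112) Col.e (nat_lit 165) Dv.df)))) (Tr.nd (nat_lit 408) (Tr.lf (Fc.ed (nat_lit 407) (nat_lit 165) Col.f (nat_lit 137) (Dv.wd (nat_lit 44) [Mv.f (nat_lit 335), Mv.f (nat_lit 285), Mv.f (nat_lit 406)]))) (Tr.nd (nat_lit 409) (Tr.lf (Fc.ed (nat_lit 408) (nat_lit 165) Col.g (nat_lit 166) Dv.df)) (Tr.lf (Fc.ed (nat_lit 409) (nat_lit 166) Col.a (nat_lit 143) (Dv.wd (nat_lit 34) [Mv.b (nat_lit 367), Mv.f (nat_lit 368), Mv.b (nat_lit 407), Mv.f (nat_lit 408)])))))))) (Tr.nd (nat_lit 421) (Tr.nd (nat_lit 415) (Tr.nd (nat_lit 412) (Tr.nd (nat_lit 411) (Tr.lf (Fc.ed (nat_lit 410) (nat_lit 115) Col.b (nat_lit 167) Dv.df)) (Tr.lf (Fc.ed (nat_lit 411) (nat_lit 167) Col.d (nat_lit 103) (Dv.wd (nat_lit 16) [Mv.f (nat_lit 257), Mv.b (nat_lit 289), Mv.f (nat_lit 410)])))) (Tr.nd (nat_lit 413) (Tr.lf (Fc.ed (nat_lit 412) (nat_lit 161) Col.f (nat_lit 168) Dv.df)) (Tr.nd (nat_lit 414) (Tr.lf (Fc.ed (nat_lit 413) (nat_lit 168) Col.b (nat_lit 149) (Dv.wd (nat_lit 47) [Mv.b (nat_lit 370), Mv.b (nat_lit 358), Mv.f (nat_lit 359), Mv.b (nat_lit 398), Mv.f (nat_lit 412)]))) (Tr.lf (Fc.ed (nat_lit 414) (nat_lit 146) Col.b (nat_lit 169) Dv.df))))) (Tr.nd (nat_lit 418) (Tr.nd (nat_lit 416) (Tr.lf (Fc.ed (nat_lit 415) (nat_lit 169) Col.d (nat_lit 154) (Dv.wd (nat_lit 16) [Mv.f (nat_lit 382), Mv.b (nat_lit 362), Mv.f (nat_lit 414)]))) (Tr.nd (nat_lit 417) (Tr.lf (Fc.ed (nat_lit 416) (nat_lit 163) Col.f (nat_lit 170) Dv.df)) (Tr.lf (Fc.ed (nat_lit 417) (nat_lit 170) Col.g (nat_lit 169) (Dv.wd (nat_lit 69) [Mv.b (nat_lit 414), Mv.f (nat_lit 364), Mv.b (nat_lit 287), Mv.f (nat_lit 336), Mv.b (nat_lit 376), Mv.f (nat_lit 377), Mv.b (nat_lit 301), Mv.f (nat_lit 234), Mv.b (nat_lit 56), Mv.f (nat_lit 69), Mv.b (nat_lit 347), Mv.b (nat_lit 374), Mv.f (nat_lit 402), Mv.f (nat_lit 416)]))))) (Tr.nd (nat_lit 419) (Tr.lf (Fc.ed (nat_lit 418) (nat_lit 165) Col.a (nat_lit 171) Dv.df)) (Tr.nd (nat_lit 420) (Tr.lf (Fc.ed (nat_lit 419) (nat_lit 171) Col.f (nat_lit 139) (Dv.wd (nat_lit 48) [Mv.b (nat_lit 339), Mv.b (nat_lit 407), Mv.f (nat_lit 418)]))) (Tr.lf (Fc.ed (nat_lit 420) (nat_lit 171) Col.g (nat_lit 143) (Dv.wd (nat_lit 12) [Mv.b (nat_lit 409), Mv.b (nat_lit 408), Mv.f (nat_lit 418)]))))))) (Tr.nd (nat_lit 426) (Tr.nd (nat_lit 423) (Tr.nd (nat_lit 422) (Tr.lf (Fc.ed (nat_lit 421) (nat_lit 97) Col.b (nat_lit 172) Dv.df)) (Tr.lf (Fc.ed (nat_lit 422) (nat_lit 172) Col.f (nat_lit 172) (Dv.wd (nat_lit 58) [Mv.b (nat_lit 421), Mv.b (nat_lit 242), Mv.f (nat_lit 120), Mv.f (nat_lit 242), Mv.f (nat_lit 421)])))) (Tr.nd (nat_lit 424) (Tr.lf (Fc.ed (nat_lit 423) (nat_lit 169) Col.e (nat_lit 173) Dv.df)) (Tr.nd (nat_lit 425) (Tr.lf (Fc.ed (nat_lit 424) (nat_lit 173) Col.b (nat_lit 132) (Dv.wd (nat_lit 45) [Mv.b (nat_lit 363), Mv.f (nat_lit 414), Mv.f (nat_lit 423)]))) (Tr.lf (Fc.ed (nat_lit 425) (nat_lit 173) Col.g (nat_lit 174) Dv.df))))) (Tr.nd (nat_lit 429) (Tr.nd (nat_lit 427) (Tr.lf (Fc.ed (nat_lit 426) (nat_lit 174) Col.e (nat_lit 170) (Dv.wd (nat_lit 40) [Mv.f (nat_lit 417), Mv.f (nat_lit 423), Mv.f (nat_lit 425)]))) (Tr.nd (nat_lit 428) (Tr.lf (Fc.ed (nat_lit 427) (nat_lit 133) Col.b (nat_lit 175) Dv.df)) (Tr.lf (Fc.ed (nat_lit 428) (nat_lit 175) Col.d (nat_lit 173) (Dv.wd (nat_lit 16) [Mv.f (nat_lit 424), Mv.b (nat_lit 325), Mv.f (nat_lit 427)]))))) (Tr.nd (nat_lit 430) (Tr.lf (Fc.ed (nat_lit 429) (nat_lit 134) Col.b (nat_lit 176) Dv.df)) (Tr.nd (nat_lit 431) (Tr.lf (Fc.ed (nat_lit 430) (nat_lit 174) Col.f (nat_lit 177) Dv.df)) (Tr.lf (Fc.ed (nat_lit 431) (nat_lit 177) Col.e (nat_lit 163) (Dv.wd (nat_lit 43) [Mv.f (nat_lit 416), Mv.b (nat_lit 426), Mv.f (nat_lit 430)])))))))))) (Tr.nd (nat_lit 475) (Tr.nd (nat_lit 453) (Tr.nd (nat_lit 442) (Tr.nd (nat_lit 437) (Tr.nd (nat_lit 434) (Tr.nd (nat_lit 433) (Tr.lf (Fc.ed (nat_lit 432) (nat_lit 161) Col.a (nat_lit 178) Dv.df)) (Tr.lf (Fc.ed (nat_lit 433) (nat_lit 161) Col.c (nat_lit 179) Dv.df))) (Tr.nd (nat_lit 435) (Tr.lf (Fc.ed (nat_lit 434) (nat_lit 179) Col.f (nat_lit 178) (Dv.wd (nat_lit 70) [Mv.b (nat_lit 432), Mv.f (nat_lit 398), Mv.b (nat_lit 319), Mv.b (nat_lit 351), Mv.f (nat_lit 350), Mv.b (nat_lit 281), Mv.b (nat_lit 82), Mv.b (nat_lit 81), Mv.f (nat_lit 61), Mv.f (nat_lit 38), Mv.f (nat_lit 41), Mv.f (nat_lit 72), Mv.b (nat_lit 76), Mv.f (nat_lit 281), Mv.f (nat_lit 284), Mv.f (nat_lit 285), Mv.b (nat_lit 320), Mv.b (nat_lit 398), Mv.f (nat_lit 433)]))) (Tr.nd (nat_lit 436) (Tr.lf (Fc.ed (nat_lit 435) (nat_lit 168) Col.c (nat_lit 178) (Dv.wd (nat_lit 52) [Mv.b (nat_lit 434), Mv.b (nat_lit 433), Mv.f (nat_lit 412)]))) (Tr.lf (Fc.ed (nat_lit 436) (nat_lit 144) Col.b (nat_lit 180) Dv.df))))) (Tr.nd (nat_lit 439) (Tr.nd (nat_lit 438) (Tr.lf (Fc.ed (nat_lit 437) (nat_lit 180) Col.e (nat_lit 168) (Dv.wd (nat_lit 28) [Mv.f (nat_lit 413), Mv.f (nat_lit 371), Mv.f (nat_lit 436)]))) (Tr.lf (Fc.ed (nat_lit 438) (nat_lit 180) Col.f (nat_lit 181) Dv.df))) (Tr.nd (nat_lit 440) (Tr.lf (Fc.ed (nat_lit 439) (nat_lit 181) Col.e (nat_lit 161) (Dv.wd (nat_lit 43) [Mv.f (nat_lit 412), Mv.b (nat_lit 437), Mv.f (nat_lit 438)]))) (Tr.nd (nat_lit 441) (Tr.lf (Fc.ed (nat_lit 440) (nat_lit 181) Col.g (nat_lit 175) (Dv.wd (nat_lit 69) [Mv.b (nat_lit 427), Mv.b (nat_lit 324), Mv.b (nat_lit 307), Mv.b (nat_lit 340), Mv.b (nat_lit 419), Mv.f (nat_lit 420), Mv.f (nat_lit 353), Mv.f (nat_lit 268), Mv.b (nat_lit 179), Mv.f (nat_lit 178), Mv.b (nat_lit 343), Mv.f (nat_lit 354), Mv.f (nat_lit 436), Mv.f (nat_lit 438)]))) (Tr.lf (Fc.ed (nat_lit 441) (nat_lit 176) Col.e (nat_lit 182) Dv.df)))))) (Tr.nd (nat_lit 447) (Tr.nd (nat_lit 444) (Tr.nd (nat_lit 443) (Tr.lf (Fc.ed (nat_lit 442) (nat_lit 182) Col.b (nat_lit 130) (Dv.wd (nat_lit 45) [Mv.b (nat_lit 330), Mv.f (nat_lit 429), Mv.f (nat_lit 441)]))) (Tr.lf (Fc.ed (nat_lit 443) (nat_lit 172) Col.e (nat_lit 183) Dv.df))) (Tr.nd (nat_lit 445) (Tr.lf (Fc.ed (nat_lit 444) (nat_lit 183) Col.b (nat_lit 101) (Dv.wd (nat_lit 45) [Mv.f (nat_lit 253), Mv.f (nat_lit 421), Mv.f (nat_lit 443)]))) (Tr.nd (nat_lit 446) (Tr.lf (Fc.ed (nat_lit 445) (nat_lit 183) Col.f (nat_lit 183) (Dv.wd (nat_lit 44) [Mv.b (nat_lit 443), Mv.f (nat_lit 422), Mv.f (nat_lit 443)]))) (Tr.lf (Fc.ed (nat_lit 446) (nat_lit 67) Col.d (nat_lit 184) Dv.df))))) (Tr.nd (nat_lit 450) (Tr.nd (nat_lit 448) (Tr.lf (Fc.ed (nat_lit 447) (nat_lit 134) Col.d (nat_lit 185) Dv.df)) (Tr.nd (nat_lit 449) (Tr.lf (Fc.ed (nat_lit 448) (nat_lit 119) Col.d (nat_lit 186) Dv.df)) (Tr.lf (Fc.ed (nat_lit 449) (nat_lit 186) Col.c (nat_lit 185) (Dv.wd (nat_lit 27) [Mv.b (nat_lit 447), Mv.f (nat_lit 345), Mv.b (nat_lit 348), Mv.f (nat_lit 252), Mv.f (nat_lit 348), Mv.f (nat_lit 360), Mv.f (nat_lit 361), Mv.f (nat_lit 448)]))))) (Tr.nd (nat_lit 451) (Tr.lf (Fc.ed (nat_lit 450) (nat_lit 167) Col.f (nat_lit 187) Dv.df)) (Tr.nd (nat_lit 452) (Tr.lf (Fc.ed (nat_lit 451) (nat_lit 187) Col.d (nat_lit 162) (Dv.wd (nat_lit 38) [Mv.b (nat_lit 399), Mv.b (nat_lit 411), Mv.f (nat_lit 450)]))) (Tr.lf (Fc.ed (nat_lit 452) (nat_lit 184) Col.g (nat_lit 188) Dv.df))))))) (Tr.nd (nat_lit 464) (Tr.nd (nat_lit 458) (Tr.nd (nat_lit 455) (Tr.nd (nat_lit 454) (Tr.lf (Fc.ed (nat_lit 453) (nat_lit 188) Col.d (nat_lit 73) (Dv.wd (nat_lit 15) [Mv.f (nat_lit 183), Mv.f (nat_lit 446), Mv.f (nat_lit 452)]))) (Tr.lf (Fc.ed (nat_lit 454) (nat_lit 188) Col.b (nat_lit 189) Dv.df))) (Tr.nd (nat_lit 456) (Tr.lf (Fc.ed (nat_lit 455) (nat_lit 189) Col.d (nat_lit 89) (Dv.wd (nat_lit 16) [Mv.f (nat_lit 223), Mv.b (nat_lit 453), Mv.f (nat_lit 454)]))) (Tr.nd (nat_lit 457) (Tr.lf (Fc.ed (nat_lit 456) (nat_lit 169) Col.f (nat_lit 190) Dv.df)) (Tr.lf (Fc.ed (nat_lit 457) (nat_lit 190) Col.d (nat_lit 164) (Dv.wd (nat_lit 38) [Mv.b (nat_lit 404), Mv.b (nat_lit 415), Mv.f (nat_lit 456)])))))) (Tr.nd (nat_lit 461) (Tr.nd (nat_lit 459) (Tr.lf (Fc.ed (nat_lit 458) (nat_lit 190) Col.b (nat_lit 187) (Dv.wd (nat_lit 47) [Mv.b (nat_lit 450), Mv.b (nat_lit 410), Mv.b (nat_lit 364), Mv.f (nat_lit 414), Mv.f (nat_lit 456)]))) (Tr.nd (nat_lit 460) (Tr.lf (Fc.ed (nat_lit 459) (nat_lit 140) Col.b (nat_lit 191) Dv.df)) (Tr.lf (Fc.ed (nat_lit 460) (nat_lit 180) Col.c (nat_lit 192) Dv.df)))) (Tr.nd (nat_lit 462) (Tr.lf (Fc.ed (nat_lit 461) (nat_lit 192) Col.e (nat_lit 178) (Dv.wd (nat_lit 56) [Mv.b (nat_lit 435), Mv.b (nat_lit 437), Mv.f (nat_lit 460)]))) (Tr.nd (nat_lit 463) (Tr.lf (Fc.ed (nat_lit 462) (nat_lit 181) Col.a (nat_lit 192) (Dv.wd (nat_lit 71) [Mv.f (nat_lit 461), Mv.b (nat_lit 432), Mv.b (nat_lit 439)]))) (Tr.lf (Fc.ed (nat_lit 463) (nat_lit 176) Col.d (nat_lit 193) Dv.df)))))) (Tr.nd (nat_lit 469) (Tr.nd (nat_lit 466) (Tr.nd (nat_lit 465) (Tr.lf (Fc.ed (nat_lit 464) (nat_lit 193) Col.b (nat_lit 185) (Dv.wd (nat_lit 26) [Mv.b (nat_lit 447), Mv.f (nat_lit 429), Mv.f (nat_lit 463)]))) (Tr.lf (Fc.ed (nat_lit 465) (nat_lit 164) Col.a (nat_lit 194) Dv.df))) (Tr.nd (nat_lit 467) (Tr.lf (Fc.ed (nat_lit 466) (nat_lit 194) Col.g (nat_lit 155) (Dv.wd (nat_lit 67) [Mv.b (nat_lit 383), Mv.f (nat_lit 381), Mv.f (nat_lit 404), Mv.f (nat_lit 465)]))) (Tr.nd (nat_lit 468) (Tr.lf (Fc.ed (nat_lit 467) (nat_lit 154) Col.a (nat_lit 195) Dv.df)) (Tr.lf (Fc.ed (nat_lit 468) (nat_lit 195) Col.f (nat_lit 194) (Dv.wd (nat_lit 48) [Mv.b (nat_lit 465), Mv.b (nat_lit 404), Mv.f (nat_lit 467)])))))) (Tr.nd (nat_lit 472) (Tr.nd (nat_lit 470) (Tr.lf (Fc.ed (nat_lit 469) (nat_lit 152) Col.d (nat_lit 196) Dv.df)) (Tr.nd (nat_lit 471) (Tr.lf (Fc.ed (nat_lit 470) (nat_lit 105) Col.d (nat_lit 197) Dv.df)) (Tr.lf (Fc.ed (nat_lit 471) (nat_lit 197) Col.a (nat_lit 189) (Dv.wd (nat_lit 25) [Mv.f (nat_lit 455), Mv.b (nat_lit 265), Mv.f (nat_lit 470)]))))) (Tr.nd (nat_lit 473) (Tr.lf (Fc.ed (nat_lit 472) (nat_lit 136) Col.d (nat_lit 198) Dv.df)) (Tr.nd (nat_lit 474) (Tr.lf (Fc.ed (nat_lit 473) (nat_lit 198) Col.a (nat_lit 188) (Dv.wd (nat_lit 25) [Mv.f (nat_lit 453), Mv.f (nat_lit 333), Mv.f (nat_lit 472)]))) (Tr.lf (Fc.ed (nat_lit 474) (nat_lit 198) Col.f (nat_lit 196) (Dv.wd (nat_lit 51) [Mv.b (nat_lit 469), Mv.b (nat_lit 378), Mv.f (nat_lit 472)]))))))))) (Tr.nd (nat_lit 497) (Tr.nd (nat_lit 486) (Tr.nd (nat_lit 480) (Tr.nd (nat_lit 477) (Tr.nd (nat_lit 476) (Tr.lf (Fc.ed (nat_lit 475) (nat_lit 194) Col.b (nat_lit 199) Dv.df)) (Tr.lf (Fc.ed (nat_lit 476) (nat_lit 199) Col.g (nat_lit 183) (Dv.wd (nat_lit 10) [Mv.f (nat_lit 444), Mv.b (nat_lit 263), Mv.b (nat_lit 384), Mv.b (nat_lit 466), Mv.f (nat_lit 475)])))) (Tr.nd (nat_lit 478) (Tr.lf (Fc.ed (nat_lit 477) (nat_lit 191) Col.g (nat_lit 200) Dv.df)) (Tr.nd (nat_lit 479) (Tr.lf (Fc.ed (nat_lit 478) (nat_lit 200) Col.f (nat_lit 199) (Dv.wd (nat_lit 72) [Mv.b (nat_lit 475), Mv.f (nat_lit 466), Mv.b (nat_lit 383), Mv.b (nat_lit 380), Mv.b (nat_lit 210), Mv.f (nat_lit 209), Mv.f (nat_lit 157), Mv.f (nat_lit 99), Mv.f (nat_lit 101), Mv.f (nat_lit 161), Mv.b (nat_lit 179), Mv.b (nat_lit 343), Mv.f (nat_lit 459), Mv.f (nat_lit 477)]))) (Tr.lf (Fc.ed (nat_lit 479) (nat_lit 191) Col.a (nat_lit 183) (Dv.wd (nat_lit 34) [Mv.f (nat_lit 445), Mv.b (nat_lit 476), Mv.b (nat_lit 478), Mv.b (nat_lit 477)])))))) (Tr.nd (nat_lit 483) (Tr.nd (nat_lit 481) (Tr.lf (Fc.ed (nat_lit 480) (nat_lit 164) Col.g (nat_lit 201) Dv.df)) (Tr.nd (nat_lit 482) (Tr.lf (Fc.ed (nat_lit 481) (nat_lit 160) Col.b (nat_lit 202) Dv.df)) (Tr.lf (Fc.ed (nat_lit 482) (nat_lit 163) Col.a (nat_lit 203) Dv.df)))) (Tr.nd (nat_lit 484) (Tr.lf (Fc.ed (nat_lit 483) (nat_lit 203) Col.g (nat_lit 190) (Dv.wd (nat_lit 67) [Mv.b (nat_lit 456), Mv.b (nat_lit 417), Mv.b (nat_lit 416), Mv.f (nat_lit 482)]))) (Tr.nd (nat_lit 485) (Tr.lf (Fc.ed (nat_lit 484) (nat_lit 130) Col.d (nat_lit 204) Dv.df)) (Tr.lf (Fc.ed (nat_lit 485) (nat_lit 204) Col.a (nat_lit 196) (Dv.wd (nat_lit 25) [Mv.b (nat_lit 469), Mv.f (nat_lit 379), Mv.f (nat_lit 484)]))))))) (Tr.nd (nat_lit 491) (Tr.nd (nat_lit 488) (Tr.nd (nat_lit 487) (Tr.lf (Fc.ed (nat_lit 486) (nat_lit 204) Col.f (nat_lit 188) (Dv.wd (nat_lit 51) [Mv.f (nat_lit 453), Mv.f (nat_lit 317), Mv.f (nat_lit 484)]))) (Tr.lf (Fc.ed (nat_lit 487) (nat_lit 154) Col.c (nat_lit 205) Dv.df))) (Tr.nd (nat_lit 489) (Tr.lf (Fc.ed (nat_lit 488) (nat_lit 205) Col.g (nat_lit 156) (Dv.wd (nat_lit 11) [Mv.b (nat_lit 385), Mv.f (nat_lit 381), Mv.f (nat_lit 487)]))) (Tr.nd (nat_lit 490) (Tr.lf (Fc.ed (nat_lit 489) (nat_lit 205) Col.d (nat_lit 205) (Dv.wd (nat_lit 73) [Mv.f (nat_lit 488), Mv.f (nat_lit 387), Mv.b (nat_lit 488)]))) (Tr.lf (Fc.ed (nat_lit 490) (nat_lit 180) Col.g (nat_lit 206) Dv.df))))) (Tr.nd (nat_lit 494) (Tr.nd (nat_lit 492) (Tr.lf (Fc.ed (nat_lit 491) (nat_lit 206) Col.b (nat_lit 200) (Dv.wd (nat_lit 41) [Mv.b (nat_lit 477), Mv.b (nat_lit 459), Mv.f (nat_lit 354), Mv.f (nat_lit 436), Mv.f (nat_lit 490)]))) (Tr.nd (nat_lit 493) (Tr.lf (Fc.ed (nat_lit 492) (nat_lit 202) Col.c (nat_lit 207) Dv.df)) (Tr.lf (Fc.ed (nat_lit 493) (nat_lit 207) Col.b (nat_lit 192) (Dv.wd (nat_lit 53) [Mv.b (nat_lit 460), Mv.b (nat_lit 436), Mv.b (nat_lit 395), Mv.f (nat_lit 481), Mv.f (nat_lit 492)]))))) (Tr.nd (nat_lit 495) (Tr.lf (Fc.ed (nat_lit 494) (nat_lit 195) Col.b (nat_lit 208) Dv.df)) (Tr.nd (nat_lit 496) (Tr.lf (Fc.ed (nat_lit 495) (nat_lit 208) Col.a (nat_lit 175) (Dv.wd (nat_lit 74) [Mv.b (nat_lit 427), Mv.b (nat_lit 342), Mv.f (nat_lit 459), Mv.f (nat_lit 479), Mv.f (nat_lit 444), Mv.f (nat_lit 251), Mv.b (nat_lit 382), Mv.f (nat_lit 467), Mv.f (nat_lit 494)]))) (Tr.lf (Fc.ed (nat_lit 496) (nat_lit 192) Col.g (nat_lit 208) (Dv.wd (nat_lit 75) [Mv.f (nat_lit 495), Mv.b (nat_lit 440), Mv.f (nat_lit 462)])))))))) (Tr.nd (nat_lit 508) (Tr.nd (nat_lit 502) (Tr.nd (nat_lit 499) (Tr.nd (nat_lit 498) (Tr.lf (Fc.ed (nat_lit 497) (nat_lit 208) Col.c (nat_lit 206) (Dv.wd (nat_lit 14) [Mv.b (nat_lit 490), Mv.f (nat_lit 460), Mv.f (nat_lit 496)]))) (Tr.lf (Fc.ed (nat_lit 498) (nat_lit 141) Col.b (nat_lit 209) Dv.df))) (Tr.nd (nat_lit 500) (Tr.lf (Fc.ed (nat_lit 499) (nat_lit 209) Col.d (nat_lit 183) (Dv.wd (nat_lit 16) [Mv.f (nat_lit 444), Mv.f (nat_lit 348), Mv.f (nat_lit 498)]))) (Tr.nd (nat_lit 501) (Tr.lf (Fc.ed (nat_lit 500) (nat_lit 209) Col.f (nat_lit 209) (Dv.wd (nat_lit 58) [Mv.b (nat_lit 498), Mv.f (nat_lit 347), Mv.f (nat_lit 69), Mv.b (nat_lit 347), Mv.f (nat_lit 498)]))) (Tr.lf (Fc.ed (nat_lit 501) (nat_lit 195) Col.g (nat_lit 210) Dv.df))))) (Tr.nd (nat_lit 505) (Tr.nd (nat_lit 503) (Tr.lf (Fc.ed (nat_lit 502) (nat_lit 210) Col.a (nat_lit 153) (Dv.wd (nat_lit 46) [Mv.f (nat_lit 381), Mv.f (nat_lit 467), Mv.f (nat_lit 501)]))) (Tr.nd (nat_lit 504) (Tr.lf (Fc.ed (nat_lit 503) (nat_lit 163) Col.g (nat_lit 211) Dv.df)) (Tr.lf (Fc.ed (nat_lit 504) (nat_lit 211) Col.a (nat_lit 190) (Dv.wd (nat_lit 46) [Mv.b (nat_lit 483), Mv.b (nat_lit 482), Mv.f (nat_lit 503)]))))) (Tr.nd (nat_lit 506) (Tr.lf (Fc.ed (nat_lit 505) (nat_lit 211) Col.d (nat_lit 194) (Dv.wd (nat_lit 15) [Mv.f (nat_lit 466), Mv.b (nat_lit 403), Mv.f (nat_lit 503)]))) (Tr.nd (nat_lit 507) (Tr.lf (Fc.ed (nat_lit 506) (nat_lit 201) Col.b (nat_lit 212) Dv.df)) (Tr.lf (Fc.ed (nat_lit 507) (nat_lit 212) Col.g (nat_lit 202) (Dv.wd (nat_lit 10) [Mv.b (nat_lit 481), Mv.b (nat_lit 401), Mv.b (nat_lit 405), Mv.f (nat_lit 480), Mv.f (nat_lit 506)]))))))) (Tr.nd (nat_lit 513) (Tr.nd (nat_lit 510) (Tr.nd (nat_lit 509) (Tr.lf (Fc.ed (nat_lit 508) (nat_lit 210) Col.b (nat_lit 213) Dv.df)) (Tr.lf (Fc.ed (nat_lit 509) (nat_lit 213) Col.g (nat_lit 207) (Dv.wd (nat_lit 10) [Mv.f (nat_lit 493), Mv.f (nat_lit 496), Mv.b (nat_lit 494), Mv.f (nat_lit 501), Mv.f (nat_lit 508)])))) (Tr.nd (nat_lit 511) (Tr.lf (Fc.ed (nat_lit 510) (nat_lit 212) Col.c (nat_lit 213) (Dv.wd (nat_lit 24) [Mv.f (nat_lit 509), Mv.b (nat_lit 492), Mv.b (nat_lit 507)]))) (Tr.nd (nat_lit 512) (Tr.lf (Fc.ed (nat_lit 511) (nat_lit 210) Col.c (nat_lit 214) Dv.df)) (Tr.lf (Fc.ed (nat_lit 512) (nat_lit 214) Col.a (nat_lit 156) (Dv.wd (nat_lit 7) [Mv.b (nat_lit 385), Mv.b (nat_lit 502), Mv.f (nat_lit 511)])))))) (Tr.nd (nat_lit 516) (Tr.nd (nat_lit 514) (Tr.lf (Fc.ed (nat_lit 513) (nat_lit 214) Col.d (nat_lit 214) (Dv.wd (nat_lit 76) [Mv.f (nat_lit 512), Mv.f (nat_lit 387), Mv.b (nat_lit 512)]))) (Tr.nd (nat_lit 515) (Tr.lf (Fc.ed (nat_lit 514) (nat_lit 201) Col.c (nat_lit 215) Dv.df)) (Tr.lf (Fc.ed (nat_lit 515) (nat_lit 215) Col.b (nat_lit 214) (Dv.wd (nat_lit 53) [Mv.b (nat_lit 511), Mv.f (nat_lit 508), Mv.b (nat_lit 510), Mv.b (nat_lit 506), Mv.f (nat_lit 514)]))))) (Tr.nd (nat_lit 517) (Tr.lf (Fc.ed (nat_lit 516) (nat_lit 215) Col.d (nat_lit 215) (Dv.wd (nat_lit 68) [Mv.f (nat_lit 515), Mv.f (nat_lit 513), Mv.b (nat_lit 515)]))) (Tr.nd (nat_lit 518) (Tr.lf (Fc.ed (nat_lit 517) (nat_lit 209) Col.g (nat_lit 216) Dv.df)) (Tr.lf (Fc.ed (nat_lit 518) (nat_lit 216) Col.d (nat_lit 199) (Dv.wd (nat_lit 15) [Mv.f (nat_lit 476), Mv.b (nat_lit 499), Mv.f (nat_lit 517)]))))))))))) (Tr.nd (nat_lit 605) (Tr.nd (nat_lit 562) (Tr.nd (nat_lit 540) (Tr.nd (nat_lit 529) (Tr.nd (nat_lit 524) (Tr.nd (nat_lit 521) (Tr.nd (nat_lit 520) (Tr.lf (Fc.ed (nat_lit 519) (nat_lit 216) Col.b (nat_lit 211) (Dv.wd (nat_lit 41) [Mv.b (nat_lit 503), Mv.b (nat_lit 402), Mv.f (nat_lit 374), Mv.f (nat_lit 498), Mv.f (nat_lit 517)]))) (Tr.lf (Fc.ed (nat_lit 520) (nat_lit 211) Col.f (nat_lit 217) Dv.df))) (Tr.nd (nat_lit 522) (Tr.lf (Fc.ed (nat_lit 521) (nat_lit 217) Col.a (nat_lit 169) (Dv.wd (nat_lit 61) [Mv.f (nat_lit 456), Mv.b (nat_lit 504), Mv.f (nat_lit 520)]))) (Tr.nd (nat_lit 523) (Tr.lf (Fc.ed (nat_lit 522) (nat_lit 217) Col.d (nat_lit 195) (Dv.wd (nat_lit 38) [Mv.f (nat_lit 468), Mv.b (nat_lit 505), Mv.f (nat_lit 520)]))) (Tr.lf (Fc.ed (nat_lit 523) (nat_lit 215) Col.g (nat_lit 218) Dv.df))))) (Tr.nd (nat_lit 526) (Tr.nd (nat_lit 525) (Tr.lf (Fc.ed (nat_lit 524) (nat_lit 218) Col.c (nat_lit 164) (Dv.wd (nat_lit 14) [Mv.f (nat_lit 480), Mv.f (nat_lit 514), Mv.f (nat_lit 523)]))) (Tr.lf (Fc.ed (nat_lit 525) (nat_lit 218) Col.d (nat_lit 218) (Dv.wd (nat_lit 15) [Mv.b (nat_lit 523), Mv.f (nat_lit 516), Mv.f (nat_lit 523)])))) (Tr.nd (nat_lit 527) (Tr.lf (Fc.ed (nat_lit 526) (nat_lit 89) Col.f (nat_lit 219) Dv.df)) (Tr.nd (nat_lit 528) (Tr.lf (Fc.ed (nat_lit 527) (nat_lit 205) Col.a (nat_lit 220) Dv.df)) (Tr.lf (Fc.ed (nat_lit 528) (nat_lit 220) Col.c (nat_lit 195) (Dv.wd (nat_lit 31) [Mv.b (nat_lit 467), Mv.f (nat_lit 487), Mv.f (nat_lit 527)]))))))) (Tr.nd (nat_lit 534) (Tr.nd (nat_lit 531) (Tr.nd (nat_lit 530) (Tr.lf (Fc.ed (nat_lit 529) (nat_lit 220) Col.d (nat_lit 220) (Dv.wd (nat_lit 62) [Mv.b (nat_lit 527), Mv.f (nat_lit 489), Mv.f (nat_lit 527)]))) (Tr.lf (Fc.ed (nat_lit 530) (nat_lit 219) Col.b (nat_lit 221) Dv.df))) (Tr.nd (nat_lit 532) (Tr.lf (Fc.ed (nat_lit 531) (nat_lit 221) Col.f (nat_lit 182) (Dv.wd (nat_lit 58) [Mv.f (nat_lit 442), Mv.b (nat_lit 317), Mv.b (nat_lit 223), Mv.f (nat_lit 526), Mv.f (nat_lit 530)]))) (Tr.nd (nat_lit 533) (Tr.lf (Fc.ed (nat_lit 532) (nat_lit 187) Col.c (nat_lit 222) Dv.df)) (Tr.lf (Fc.ed (nat_lit 533) (nat_lit 196) Col.c (nat_lit 223) Dv.df))))) (Tr.nd (nat_lit 537) (Tr.nd (nat_lit 535) (Tr.lf (Fc.ed (nat_lit 534) (nat_lit 223) Col.d (nat_lit 222) (Dv.wd (nat_lit 64) [Mv.b (nat_lit 532), Mv.f (nat_lit 451), Mv.f (nat_lit 400), Mv.b (nat_lit 344), Mv.b (nat_lit 318), Mv.f (nat_lit 484), Mv.f (nat_lit 485), Mv.f (nat_lit 533)]))) (Tr.nd (nat_lit 536) (Tr.lf (Fc.ed (nat_lit 535) (nat_lit 182) Col.d (nat_lit 224) Dv.df)) (Tr.lf (Fc.ed (nat_lit 536) (nat_lit 224) Col.b (nat_lit 204) (Dv.wd (nat_lit 26) [Mv.b (nat_lit 484), Mv.b (nat_lit 442), Mv.f (nat_lit 535)]))))) (Tr.nd (nat_lit 538) (Tr.lf (Fc.ed (nat_lit 537) (nat_lit 191) Col.c (nat_lit 225) Dv.df)) (Tr.nd (nat_lit 539) (Tr.lf (Fc.ed (nat_lit 538) (nat_lit 225) Col.b (nat_lit 218) (Dv.wd (nat_lit 53) [Mv.f (nat_lit 524), Mv.f (nat_lit 405), Mv.f (nat_lit 400), Mv.f (nat_lit 459), Mv.f (nat_lit 537)]))) (Tr.lf (Fc.ed (nat_lit 539) (nat_lit 225) Col.d (nat_lit 225) (Dv.wd (nat_lit 68) [Mv.f (nat_lit 538), Mv.f (nat_lit 525), Mv.b (nat_lit 538)])))))))) (Tr.nd (nat_lit 551) (Tr.nd (nat_lit 545) (Tr.nd (nat_lit 542) (Tr.nd (nat_lit 541) (Tr.lf (Fc.ed (nat_lit 540) (nat_lit 220) Col.b (nat_lit 226) Dv.df)) (Tr.lf (Fc.ed (nat_lit 541) (nat_lit 226) Col.d (nat_lit 226) (Dv.wd (nat_lit 16) [Mv.b (nat_lit 540), Mv.f (nat_lit 529), Mv.f (nat_lit 540)])))) (Tr.nd (nat_lit 543) (Tr.lf (Fc.ed (nat_lit 542) (nat_lit 226) Col.c (nat_lit 200) (Dv.wd (nat_lit 21) [Mv.b (nat_lit 491), Mv.b (nat_lit 497), Mv.b (nat_lit 494), Mv.b (nat_lit 528), Mv.f (nat_lit 540)]))) (Tr.nd (nat_lit 544) (Tr.lf (Fc.ed (nat_lit 543) (nat_lit 174) Col.c (nat_lit 227) Dv.df)) (Tr.lf (Fc.ed (nat_lit 544) (nat_lit 105) Col.f (nat_lit 228) Dv.df))))) (Tr.nd (nat_lit 548) (Tr.nd (nat_lit 546) (Tr.lf (Fc.ed (nat_lit 545) (nat_lit 228) Col.a (nat_lit 219) (Dv.wd (nat_lit 61) [Mv.b (nat_lit 526), Mv.b (nat_lit 265), Mv.f (nat_lit 544)]))) (Tr.nd (nat_lit 547) (Tr.lf (Fc.ed (nat_lit 546) (nat_lit 183) Col.c (nat_lit 229) Dv.df)) (Tr.lf (Fc.ed (nat_lit 547) (nat_lit 229) Col.a (nat_lit 225) (Dv.wd (nat_lit 7) [Mv.b (nat_lit 537), Mv.f (nat_lit 479), Mv.f (nat_lit 546)]))))) (Tr.nd (nat_lit 549) (Tr.lf (Fc.ed (nat_lit 548) (nat_lit 229) Col.d (nat_lit 229) (Dv.wd (nat_lit 76) [Mv.f (nat_lit 547), Mv.f (nat_lit 539), Mv.b (nat_lit 547)]))) (Tr.nd (nat_lit 550) (Tr.lf (Fc.ed (nat_lit 549) (nat_lit 219) Col.d (nat_lit 230) Dv.df)) (Tr.lf (Fc.ed (nat_lit 550) (nat_lit 230) Col.f (nat_lit 189) (Dv.wd (nat_lit 51) [Mv.f (nat_lit 455), Mv.f (nat_lit 526), Mv.f (nat_lit 549)]))))))) (Tr.nd (nat_lit 556) (Tr.nd (nat_lit 553) (Tr.nd (nat_lit 552) (Tr.lf (Fc.ed (nat_lit 551) (nat_lit 174) Col.a (nat_lit 231) Dv.df)) (Tr.lf (Fc.ed (nat_lit 552) (nat_lit 227) Col.g (nat_lit 232) Dv.df))) (Tr.nd (nat_lit 554) (Tr.lf (Fc.ed (nat_lit 553) (nat_lit 232) Col.c (nat_lit 173) (Dv.wd (nat_lit 14) [Mv.f (nat_lit 425), Mv.f (nat_lit 543), Mv.f (nat_lit 552)]))) (Tr.nd (nat_lit 555) (Tr.lf (Fc.ed (nat_lit 554) (nat_lit 173) Col.a (nat_lit 233) Dv.df)) (Tr.lf (Fc.ed (nat_lit 555) (nat_lit 233) Col.d (nat_lit 208) (Dv.wd (nat_lit 62) [Mv.f (nat_lit 495), Mv.f (nat_lit 428), Mv.f (nat_lit 554)])))))) (Tr.nd (nat_lit 559) (Tr.nd (nat_lit 557) (Tr.lf (Fc.ed (nat_lit 556) (nat_lit 233) Col.e (nat_lit 217) (Dv.wd (nat_lit 50) [Mv.f (nat_lit 521), Mv.f (nat_lit 423), Mv.f (nat_lit 554)]))) (Tr.nd (nat_lit 558) (Tr.lf (Fc.ed (nat_lit 557) (nat_lit 233) Col.g (nat_lit 231) (Dv.wd (nat_lit 12) [Mv.b (nat_lit 551), Mv.b (nat_lit 425), Mv.f (nat_lit 554)]))) (Tr.lf (Fc.ed (nat_lit 558) (nat_lit 217) Col.b (nat_lit 233) (Dv.wd (nat_lit 18) [Mv.f (nat_lit 555), Mv.b (nat_lit 494), Mv.b (nat_lit 522)]))))) (Tr.nd (nat_lit 560) (Tr.lf (Fc.ed (nat_lit 559) (nat_lit 227) Col.f (nat_lit 234) Dv.df)) (Tr.nd (nat_lit 561) (Tr.lf (Fc.ed (nat_lit 560) (nat_lit 234) Col.c (nat_lit 177) (Dv.wd (nat_lit 32) [Mv.b (nat_lit 430), Mv.f (nat_lit 543), Mv.f (nat_lit 559)]))) (Tr.lf (Fc.ed (nat_lit 561) (nat_lit 177) Col.g (nat_lit 235) Dv.df)))))))) (Tr.nd (nat_lit 583) (Tr.nd (nat_lit 572) (Tr.nd (nat_lit 567) (Tr.nd (nat_lit 564) (Tr.nd (nat_lit 563) (Tr.lf (Fc.ed (nat_lit 562) (nat_lit 235) Col.e (nat_lit 211) (Dv.wd (nat_lit 40) [Mv.b (nat_lit 503), Mv.b (nat_lit 431), Mv.f (nat_lit 561)]))) (Tr.lf (Fc.ed (nat_lit 563) (nat_lit 235) Col.f (nat_lit 233) (Dv.wd (nat_lit 33) [Mv.f (nat_lit 557), Mv.b (nat_lit 551), Mv.f (nat_lit 430), Mv.f (nat_lit 561)])))) (Tr.nd (nat_lit 565) (Tr.lf (Fc.ed (nat_lit 564) (nat_lit 191) Col.d (nat_lit 236) Dv.df)) (Tr.nd (nat_lit 566) (Tr.lf (Fc.ed (nat_lit 565) (nat_lit 236) Col.a (nat_lit 209) (Dv.wd (nat_lit 25) [Mv.f (nat_lit 499), Mv.b (nat_lit 479), Mv.f (nat_lit 564)]))) (Tr.lf (Fc.ed (nat_lit 566) (nat_lit 236) Col.b (nat_lit 129) (Dv.wd (nat_lit 26) [Mv.f (nat_lit 344), Mv.f (nat_lit 459), Mv.f (nat_lit 564)])))))) (Tr.nd (nat_lit 569) (Tr.nd (nat_lit 568) (Tr.lf (Fc.ed (nat_lit 567) (nat_lit 216) Col.f (nat_lit 237) Dv.df)) (Tr.lf (Fc.ed (nat_lit 568) (nat_lit 237) Col.d (nat_lit 200) (Dv.wd (nat_lit 38) [Mv.f (nat_lit 478), Mv.b (nat_lit 518), Mv.f (nat_lit 567)])))) (Tr.nd (nat_lit 570) (Tr.lf (Fc.ed (nat_lit 569) (nat_lit 237) Col.a (nat_lit 216) (Dv.wd (nat_lit 77) [Mv.b (nat_lit 517), Mv.f (nat_lit 500), Mv.f (nat_lit 517), Mv.f (nat_lit 567)]))) (Tr.nd (nat_lit 571) (Tr.lf (Fc.ed (nat_lit 570) (nat_lit 237) Col.b (nat_lit 235) (Dv.wd (nat_lit 47) [Mv.f (nat_lit 563), Mv.b (nat_lit 558), Mv.b (nat_lit 520), Mv.b (nat_lit 519), Mv.f (nat_lit 567)]))) (Tr.lf (Fc.ed (nat_lit 571) (nat_lit 203) Col.c (nat_lit 238) Dv.df)))))) (Tr.nd (nat_lit 577) (Tr.nd (nat_lit 574) (Tr.nd (nat_lit 573) (Tr.lf (Fc.ed (nat_lit 572) (nat_lit 232) Col.e (nat_lit 239) Dv.df)) (Tr.lf (Fc.ed (nat_lit 573) (nat_lit 239) Col.c (nat_lit 169) (Dv.wd (nat_lit 22) [Mv.f (nat_lit 423), Mv.b (nat_lit 553), Mv.f (nat_lit 572)])))) (Tr.nd (nat_lit 575) (Tr.lf (Fc.ed (nat_lit 574) (nat_lit 217) Col.c (nat_lit 240) Dv.df)) (Tr.nd (nat_lit 576) (Tr.lf (Fc.ed (nat_lit 575) (nat_lit 240) Col.d (nat_lit 239) (Dv.wd (nat_lit 64) [Mv.f (nat_lit 573), Mv.f (nat_lit 415), Mv.f (nat_lit 487), Mv.f (nat_lit 489), Mv.b (nat_lit 487), Mv.b (nat_lit 415), Mv.b (nat_lit 521), Mv.f (nat_lit 574)]))) (Tr.lf (Fc.ed (nat_lit 576) (nat_lit 228) Col.d (nat_lit 241) Dv.df))))) (Tr.nd (nat_lit 580) (Tr.nd (nat_lit 578) (Tr.lf (Fc.ed (nat_lit 577) (nat_lit 241) Col.a (nat_lit 230) (Dv.wd (nat_lit 25) [Mv.b (nat_lit 549), Mv.b (nat_lit 545), Mv.f (nat_lit 576)]))) (Tr.nd (nat_lit 579) (Tr.lf (Fc.ed (nat_lit 578) (nat_lit 241) Col.f (nat_lit 197) (Dv.wd (nat_lit 51) [Mv.b (nat_lit 470), Mv.f (nat_lit 544), Mv.f (nat_lit 576)]))) (Tr.lf (Fc.ed (nat_lit 579) (nat_lit 233) Col.c (nat_lit 242) Dv.df)))) (Tr.nd (nat_lit 581) (Tr.lf (Fc.ed (nat_lit 580) (nat_lit 242) Col.a (nat_lit 232) (Dv.wd (nat_lit 7) [Mv.f (nat_lit 553), Mv.f (nat_lit 554), Mv.f (nat_lit 579)]))) (Tr.nd (nat_lit 582) (Tr.lf (Fc.ed (nat_lit 581) (nat_lit 242) Col.e (nat_lit 240) (Dv.wd (nat_lit 56) [Mv.b (nat_lit 574), Mv.b (nat_lit 556), Mv.f (nat_lit 579)]))) (Tr.lf (Fc.ed (nat_lit 582) (nat_lit 227) Col.a (nat_lit 243) Dv.df))))))) (Tr.nd (nat_lit 594) (Tr.nd (nat_lit 588) (Tr.nd (nat_lit 585) (Tr.nd (nat_lit 584) (Tr.lf (Fc.ed (nat_lit 583) (nat_lit 243) Col.g (nat_lit 242) (Dv.wd (nat_lit 12) [Mv.f (nat_lit 580), Mv.b (nat_lit 552), Mv.f (nat_lit 582)]))) (Tr.lf (Fc.ed (nat_lit 584) (nat_lit 221) Col.c (nat_lit 244) Dv.df))) (Tr.nd (nat_lit 586) (Tr.lf (Fc.ed (nat_lit 585) (nat_lit 234) Col.g (nat_lit 245) Dv.df)) (Tr.nd (nat_lit 587) (Tr.lf (Fc.ed (nat_lit 586) (nat_lit 245) Col.c (nat_lit 235) (Dv.wd (nat_lit 14) [Mv.b (nat_lit 561), Mv.b (nat_lit 560), Mv.f (nat_lit 585)]))) (Tr.lf (Fc.ed (nat_lit 587) (nat_lit 245) Col.f (nat_lit 242) (Dv.wd (nat_lit 33) [Mv.b (nat_lit 583), Mv.b (nat_lit 582), Mv.f (nat_lit 559), Mv.f (nat_lit 585)])))))) (Tr.nd (nat_lit 591) (Tr.nd (nat_lit 589) (Tr.lf (Fc.ed (nat_lit 588) (nat_lit 176) Col.c (nat_lit 246) Dv.df)) (Tr.nd (nat_lit 590) (Tr.lf (Fc.ed (nat_lit 589) (nat_lit 244) Col.f (nat_lit 247) Dv.df)) (Tr.lf (Fc.ed (nat_lit 590) (nat_lit 247) Col.c (nat_lit 182) (Dv.wd (nat_lit 32) [Mv.b (nat_lit 531), Mv.f (nat_lit 584), Mv.f (nat_lit 589)]))))) (Tr.nd (nat_lit 592) (Tr.lf (Fc.ed (nat_lit 591) (nat_lit 247) Col.b (nat_lit 248) Dv.df)) (Tr.nd (nat_lit 593) (Tr.lf (Fc.ed (nat_lit 592) (nat_lit 248) Col.c (nat_lit 236) (Dv.wd (nat_lit 21) [Mv.f (nat_lit 566), Mv.b (nat_lit 318), Mv.b (nat_lit 442), Mv.b (nat_lit 590), Mv.f (nat_lit 591)]))) (Tr.lf (Fc.ed (nat_lit 593) (nat_lit 246) Col.b (nat_lit 249) Dv.df)))))) (Tr.nd (nat_lit 599) (Tr.nd (nat_lit 596) (Tr.nd (nat_lit 595) (Tr.lf (Fc.ed (nat_lit 594) (nat_lit 249) Col.c (nat_lit 209) (Dv.wd (nat_lit 21) [Mv.b (nat_lit 498), Mv.b (nat_lit 345), Mv.f (nat_lit 429), Mv.f (nat_lit 588), Mv.f (nat_lit 593)]))) (Tr.lf (Fc.ed (nat_lit 595) (nat_lit 248) Col.a (nat_lit 249) (Dv.wd (nat_lit 78) [Mv.f (nat_lit 594), Mv.b (nat_lit 565), Mv.b (nat_lit 592)])))) (Tr.nd (nat_lit 597) (Tr.lf (Fc.ed (nat_lit 596) (nat_lit 249) Col.d (nat_lit 248) (Dv.wd (nat_lit 79) [Mv.f (nat_lit 595), Mv.f (nat_lit 594), Mv.f (nat_lit 499), Mv.f (nat_lit 546), Mv.f (nat_lit 548), Mv.b (nat_lit 546), Mv.b (nat_lit 499), Mv.b (nat_lit 594)]))) (Tr.nd (nat_lit 598) (Tr.lf (Fc.ed (nat_lit 597) (nat_lit 247) Col.d (nat_lit 246) (Dv.wd (nat_lit 16) [Mv.f (nat_lit 593), Mv.f (nat_lit 596), Mv.b (nat_lit 591)]))) (Tr.lf (Fc.ed (nat_lit 598) (nat_lit 186) Col.b (nat_lit 250) Dv.df))))) (Tr.nd (nat_lit 602) (Tr.nd (nat_lit 600) (Tr.lf (Fc.ed (nat_lit 599) (nat_lit 224) Col.f (nat_lit 251) Dv.df)) (Tr.nd (nat_lit 601) (Tr.lf (Fc.ed (nat_lit 600) (nat_lit 251) Col.b (nat_lit 230) (Dv.wd (nat_lit 47) [Mv.f (nat_lit 550), Mv.b (nat_lit 454), Mv.b (nat_lit 486), Mv.b (nat_lit 536), Mv.f (nat_lit 599)]))) (Tr.lf (Fc.ed (nat_lit 601) (nat_lit 182) Col.a (nat_lit 252) Dv.df)))) (Tr.nd (nat_lit 603) (Tr.lf (Fc.ed (nat_lit 602) (nat_lit 252) Col.d (nat_lit 253) Dv.df)) (Tr.nd (nat_lit 604) (Tr.lf (Fc.ed (nat_lit 603) (nat_lit 253) Col.a (nat_lit 224) (Dv.wd (nat_lit 25) [Mv.b (nat_lit 535), Mv.f (nat_lit 601), Mv.f (nat_lit 602)]))) (Tr.lf (Fc.ed (nat_lit 604) (nat_lit 238) Col.g (nat_lit 254) Dv.df))))))))) (Tr.nd (nat_lit 648) (Tr.nd (nat_lit 626) (Tr.nd (nat_lit 615) (Tr.nd (nat_lit 610) (Tr.nd (nat_lit 607) (Tr.nd (nat_lit 606) (Tr.lf (Fc.ed (nat_lit 605) (nat_lit 254) Col.c (nat_lit 190) (Dv.wd (nat_lit 14) [Mv.b (nat_lit 483), Mv.f (nat_lit 571), Mv.f (nat_lit 604)]))) (Tr.lf (Fc.ed (nat_lit 606) (nat_lit 211) Col.c (nat_lit 255) Dv.df))) (Tr.nd (nat_lit 608) (Tr.lf (Fc.ed (nat_lit 607) (nat_lit 255) Col.e (nat_lit 245) (Dv.wd (nat_lit 56) [Mv.f (nat_lit 586), Mv.f (nat_lit 562), Mv.f (nat_lit 606)]))) (Tr.nd (nat_lit 609) (Tr.lf (Fc.ed (nat_lit 608) (nat_lit 255) Col.f (nat_lit 240) (Dv.wd (nat_lit 20) [Mv.b (nat_lit 574), Mv.b (nat_lit 520), Mv.f (nat_lit 606)]))) (Tr.lf (Fc.ed (nat_lit 609) (nat_lit 255) Col.d (nat_lit 254) (Dv.wd (nat_lit 64) [Mv.f (nat_lit 605), Mv.f (nat_lit 457), Mv.b (nat_lit 524), Mv.f (nat_lit 525), Mv.f (nat_lit 524), Mv.b (nat_lit 457), Mv.b (nat_lit 504), Mv.f (nat_lit 606)])))))) (Tr.nd (nat_lit 612) (Tr.nd (nat_lit 611) (Tr.lf (Fc.ed (nat_lit 610) (nat_lit 224) Col.c (nat_lit 256) Dv.df)) (Tr.lf (Fc.ed (nat_lit 611) (nat_lit 119) Col.b (nat_lit 257) Dv.df))) (Tr.nd (nat_lit 613) (Tr.lf (Fc.ed (nat_lit 612) (nat_lit 257) Col.d (nat_lit 250) (Dv.wd (nat_lit 16) [Mv.b (nat_lit 598), Mv.b (nat_lit 448), Mv.f (nat_lit 611)]))) (Tr.nd (nat_lit 614) (Tr.lf (Fc.ed (nat_lit 613) (nat_lit 245) Col.d (nat_lit 258) Dv.df)) (Tr.lf (Fc.ed (nat_lit 614) (nat_lit 253) Col.c (nat_lit 259) Dv.df)))))) (Tr.nd (nat_lit 620) (Tr.nd (nat_lit 617) (Tr.nd (nat_lit 616) (Tr.lf (Fc.ed (nat_lit 615) (nat_lit 259) Col.a (nat_lit 256) (Dv.wd (nat_lit 7) [Mv.b (nat_lit 610), Mv.b (nat_lit 603), Mv.f (nat_lit 614)]))) (Tr.lf (Fc.ed (nat_lit 616) (nat_lit 257) Col.c (nat_lit 260) Dv.df))) (Tr.nd (nat_lit 618) (Tr.lf (Fc.ed (nat_lit 617) (nat_lit 260) Col.b (nat_lit 239) (Dv.wd (nat_lit 53) [Mv.f (nat_lit 573), Mv.b (nat_lit 414), Mv.f (nat_lit 361), Mv.f (nat_lit 611), Mv.f (nat_lit 616)]))) (Tr.nd (nat_lit 619) (Tr.lf (Fc.ed (nat_lit 618) (nat_lit 259) Col.d (nat_lit 261) Dv.df)) (Tr.lf (Fc.ed (nat_lit 619) (nat_lit 261) Col.c (nat_lit 193) (Dv.wd (nat_lit 27) [Mv.b (nat_lit 463), Mv.f (nat_lit 588), Mv.b (nat_lit 597), Mv.f (nat_lit 590), Mv.f (nat_lit 535), Mv.b (nat_lit 603), Mv.f (nat_lit 614), Mv.f (nat_lit 618)])))))) (Tr.nd (nat_lit 623) (Tr.nd (nat_lit 621) (Tr.lf (Fc.ed (nat_lit 620) (nat_lit 216) Col.c (nat_lit 262) Dv.df)) (Tr.nd (nat_lit 622) (Tr.lf (Fc.ed (nat_lit 621) (nat_lit 262) Col.d (nat_lit 263) Dv.df)) (Tr.lf (Fc.ed (nat_lit 622) (nat_lit 263) Col.c (nat_lit 237) (Dv.wd (nat_lit 27) [Mv.f (nat_lit 568), Mv.b (nat_lit 542), Mv.f (nat_lit 541), Mv.f (nat_lit 542), Mv.b (nat_lit 568), Mv.f (nat_lit 569), Mv.f (nat_lit 620), Mv.f (nat_lit 621)]))))) (Tr.nd (nat_lit 624) (Tr.lf (Fc.ed (nat_lit 623) (nat_lit 242) Col.d (nat_lit 264) Dv.df)) (Tr.nd (nat_lit 625) (Tr.lf (Fc.ed (nat_lit 624) (nat_lit 264) Col.f (nat_lit 258) (Dv.wd (nat_lit 51) [Mv.b (nat_lit 613), Mv.f (nat_lit 587), Mv.f (nat_lit 623)]))) (Tr.lf (Fc.ed (nat_lit 625) (nat_lit 197) Col.c (nat_lit 265) Dv.df))))))) (Tr.nd (nat_lit 637) (Tr.nd (nat_lit 631) (Tr.nd (nat_lit 628) (Tr.nd (nat_lit 627) (Tr.lf (Fc.ed (nat_lit 626) (nat_lit 251) Col.c (nat_lit 266) Dv.df)) (Tr.lf (Fc.ed (nat_lit 627) (nat_lit 266) Col.f (nat_lit 256) (Dv.wd (nat_lit 20) [Mv.b (nat_lit 610), Mv.f (nat_lit 599), Mv.f (nat_lit 626)])))) (Tr.nd (nat_lit 629) (Tr.lf (Fc.ed (nat_lit 628) (nat_lit 261) Col.b (nat_lit 267) Dv.df)) (Tr.nd (nat_lit 630) (Tr.lf (Fc.ed (nat_lit 629) (nat_lit 267) Col.c (nat_lit 250) (Dv.wd (nat_lit 21) [Mv.b (nat_lit 598), Mv.f (nat_lit 449), Mv.b (nat_lit 464), Mv.b (nat_lit 619), Mv.f (nat_lit 628)]))) (Tr.lf (Fc.ed (nat_lit 630) (nat_lit 189) Col.c (nat_lit 268) Dv.df))))) (Tr.nd (nat_lit 634) (Tr.nd (nat_lit 632) (Tr.lf (Fc.ed (nat_lit 631) (nat_lit 268) Col.a (nat_lit 265) (Dv.wd (nat_lit 7) [Mv.b (nat_lit 625), Mv.f (nat_lit 471), Mv.f (nat_lit 630)]))) (Tr.nd (nat_lit 633) (Tr.lf (Fc.ed (nat_lit 632) (nat_lit 268) Col.d (nat_lit 269) Dv.df)) (Tr.lf (Fc.ed (nat_lit 633) (nat_lit 269) Col.c (nat_lit 270) Dv.df)))) (Tr.nd (nat_lit 635) (Tr.lf (Fc.ed (nat_lit 634) (nat_lit 270) Col.d (nat_lit 265) (Dv.wd (nat_lit 80) [Mv.b (nat_lit 625), Mv.b (nat_lit 470), Mv.f (nat_lit 266), Mv.f (nat_lit 470), Mv.f (nat_lit 471), Mv.f (nat_lit 630), Mv.f (nat_lit 632), Mv.f (nat_lit 633)]))) (Tr.nd (nat_lit 636) (Tr.lf (Fc.ed (nat_lit 635) (nat_lit 255) Col.b (nat_lit 271) Dv.df)) (Tr.lf (Fc.ed (nat_lit 636) (nat_lit 265) Col.b (nat_lit 272) Dv.df)))))) (Tr.nd (nat_lit 642) (Tr.nd (nat_lit 639) (Tr.nd (nat_lit 638) (Tr.lf (Fc.ed (nat_lit 637) (nat_lit 240) Col.b (nat_lit 273) Dv.df)) (Tr.lf (Fc.ed (nat_lit 638) (nat_lit 273) Col.d (nat_lit 260) (Dv.wd (nat_lit 16) [Mv.f (nat_lit 617), Mv.b (nat_lit 575), Mv.f (nat_lit 637)])))) (Tr.nd (nat_lit 640) (Tr.lf (Fc.ed (nat_lit 639) (nat_lit 271) Col.c (nat_lit 274) Dv.df)) (Tr.nd (nat_lit 641) (Tr.lf (Fc.ed (nat_lit 640) (nat_lit 274) Col.b (nat_lit 262) (Dv.wd (nat_lit 53) [Mv.b (nat_lit 620), Mv.f (nat_lit 519), Mv.f (nat_lit 606), Mv.f (nat_lit 635), Mv.f (nat_lit 639)]))) (Tr.lf (Fc.ed (nat_lit 641) (nat_lit 273) Col.c (nat_lit 275) Dv.df))))) (Tr.nd (nat_lit 645) (Tr.nd (nat_lit 643) (Tr.lf (Fc.ed (nat_lit 642) (nat_lit 275) Col.b (nat_lit 242) (Dv.wd (nat_lit 53) [Mv.b (nat_lit 579), Mv.b (nat_lit 558), Mv.f (nat_lit 574), Mv.f (nat_lit 637), Mv.f (nat_lit 641)]))) (Tr.nd (nat_lit 644) (Tr.lf (Fc.ed (nat_lit 643) (nat_lit 273) Col.e (nat_lit 275) (Dv.wd (nat_lit 81) [Mv.f (nat_lit 642), Mv.f (nat_lit 581), Mv.f (nat_lit 637)]))) (Tr.lf (Fc.ed (nat_lit 644) (nat_lit 275) Col.d (nat_lit 276) Dv.df)))) (Tr.nd (nat_lit 646) (Tr.lf (Fc.ed (nat_lit 645) (nat_lit 276) Col.b (nat_lit 264) (Dv.wd (nat_lit 26) [Mv.b (nat_lit 623), Mv.b (nat_lit 642), Mv.f (nat_lit 644)]))) (Tr.nd (nat_lit 647) (Tr.lf (Fc.ed (nat_lit 646) (nat_lit 271) Col.e (nat_lit 277) Dv.df)) (Tr.lf (Fc.ed (nat_lit 647) (nat_lit 277) Col.b (nat_lit 245) (Dv.wd (nat_lit 45) [Mv.b (nat_lit 607), Mv.f (nat_lit 635), Mv.f (nat_lit 646)]))))))))) (Tr.nd (nat_lit 670) (Tr.nd (nat_lit 659) (Tr.nd (nat_lit 653) (Tr.nd (nat_lit 650) (Tr.nd (nat_lit 649) (Tr.lf (Fc.ed (nat_lit 648) (nat_lit 258) Col.b (nat_lit 278) Dv.df)) (Tr.lf (Fc.ed (nat_lit 649) (nat_lit 278) Col.d (nat_lit 277) (Dv.wd (nat_lit 16) [Mv.f (nat_lit 647), Mv.f (nat_lit 613), Mv.f (nat_lit 648)])))) (Tr.nd (nat_lit 651) (Tr.lf (Fc.ed (nat_lit 650) (nat_lit 271) Col.f (nat_lit 279) Dv.df)) (Tr.nd (nat_lit 652) (Tr.lf (Fc.ed (nat_lit 651) (nat_lit 279) Col.b (nat_lit 280) Dv.df)) (Tr.lf (Fc.ed (nat_lit 652) (nat_lit 280) Col.f (nat_lit 273) (Dv.wd (nat_lit 58) [Mv.b (nat_lit 637), Mv.b (nat_lit 608), Mv.f (nat_lit 635), Mv.f (nat_lit 650), Mv.f (nat_lit 651)])))))) (Tr.nd (nat_lit 656) (Tr.nd (nat_lit 654) (Tr.lf (Fc.ed (nat_lit 653) (nat_lit 263) Col.b (nat_lit 281) Dv.df)) (Tr.nd (nat_lit 655) (Tr.lf (Fc.ed (nat_lit 654) (nat_lit 281) Col.d (nat_lit 274) (Dv.wd (nat_lit 16) [Mv.f (nat_lit 640), Mv.f (nat_lit 621), Mv.f (nat_lit 653)]))) (Tr.lf (Fc.ed (nat_lit 655) (nat_lit 281) Col.c (nat_lit 277) (Dv.wd (nat_lit 21) [Mv.f (nat_lit 647), Mv.f (nat_lit 586), Mv.b (nat_lit 570), Mv.b (nat_lit 622), Mv.f (nat_lit 653)]))))) (Tr.nd (nat_lit 657) (Tr.lf (Fc.ed (nat_lit 656) (nat_lit 267) Col.a (nat_lit 282) Dv.df)) (Tr.nd (nat_lit 658) (Tr.lf (Fc.ed (nat_lit 657) (nat_lit 271) Col.d (nat_lit 283) Dv.df)) (Tr.lf (Fc.ed (nat_lit 658) (nat_lit 283) Col.b (nat_lit 254) (Dv.wd (nat_lit 26) [Mv.b (nat_lit 609), Mv.f (nat_lit 635), Mv.f (nat_lit 657)]))))))) (Tr.nd (nat_lit 664) (Tr.nd (nat_lit 661) (Tr.nd (nat_lit 660) (Tr.lf (Fc.ed (nat_lit 659) (nat_lit 276) Col.c (nat_lit 284) Dv.df)) (Tr.lf (Fc.ed (nat_lit 660) (nat_lit 284) Col.d (nat_lit 282) (Dv.wd (nat_lit 79) [Mv.b (nat_lit 656), Mv.f (nat_lit 629), Mv.b (nat_lit 612), Mv.f (nat_lit 616), Mv.b (nat_lit 638), Mv.f (nat_lit 641), Mv.f (nat_lit 644), Mv.f (nat_lit 659)])))) (Tr.nd (nat_lit 662) (Tr.lf (Fc.ed (nat_lit 661) (nat_lit 222) Col.b (nat_lit 285) Dv.df)) (Tr.nd (nat_lit 663) (Tr.lf (Fc.ed (nat_lit 662) (nat_lit 285) Col.c (nat_lit 283) (Dv.wd (nat_lit 21) [Mv.f (nat_lit 658), Mv.f (nat_lit 605), Mv.f (nat_lit 458), Mv.f (nat_lit 532), Mv.f (nat_lit 661)]))) (Tr.lf (Fc.ed (nat_lit 663) (nat_lit 267) Col.d (nat_lit 286) Dv.df))))) (Tr.nd (nat_lit 667) (Tr.nd (nat_lit 665) (Tr.lf (Fc.ed (nat_lit 664) (nat_lit 286) Col.a (nat_lit 284) (Dv.wd (nat_lit 25) [Mv.f (nat_lit 660), Mv.b (nat_lit 656), Mv.f (nat_lit 663)]))) (Tr.nd (nat_lit 666) (Tr.lf (Fc.ed (nat_lit 665) (nat_lit 286) Col.b (nat_lit 259) (Dv.wd (nat_lit 26) [Mv.f (nat_lit 618), Mv.f (nat_lit 628), Mv.f (nat_lit 663)]))) (Tr.lf (Fc.ed (nat_lit 666) (nat_lit 276) Col.a (nat_lit 287) Dv.df)))) (Tr.nd (nat_lit 668) (Tr.lf (Fc.ed (nat_lit 667) (nat_lit 287) Col.c (nat_lit 286) (Dv.wd (nat_lit 31) [Mv.f (nat_lit 664), Mv.b (nat_lit 659), Mv.f (nat_lit 666)]))) (Tr.nd (nat_lit 669) (Tr.lf (Fc.ed (nat_lit 668) (nat_lit 285) Col.d (nat_lit 288) Dv.df)) (Tr.lf (Fc.ed (nat_lit 669) (nat_lit 288) Col.b (nat_lit 223) (Dv.wd (nat_lit 26) [Mv.f (nat_lit 534), Mv.f (nat_lit 661), Mv.f (nat_lit 668)])))))))) (Tr.nd (nat_lit 681) (Tr.nd (nat_lit 675) (Tr.nd (nat_lit 672) (Tr.nd (nat_lit 671) (Tr.lf (Fc.ed (nat_lit 670) (nat_lit 280) Col.e (nat_lit 289) Dv.df)) (Tr.lf (Fc.ed (nat_lit 671) (nat_lit 289) Col.f (nat_lit 275) (Dv.wd (nat_lit 44) [Mv.b (nat_lit 643), Mv.b (nat_lit 652), Mv.f (nat_lit 670)])))) (Tr.nd (nat_lit 673) (Tr.lf (Fc.ed (nat_lit 672) (nat_lit 289) Col.d (nat_lit 290) Dv.df)) (Tr.nd (nat_lit 674) (Tr.lf (Fc.ed (nat_lit 673) (nat_lit 290) Col.f (nat_lit 276) (Dv.wd (nat_lit 51) [Mv.b (nat_lit 644), Mv.b (nat_lit 671), Mv.f (nat_lit 672)]))) (Tr.lf (Fc.ed (nat_lit 674) (nat_lit 278) Col.f (nat_lit 291) Dv.df))))) (Tr.nd (nat_lit 678) (Tr.nd (nat_lit 676) (Tr.lf (Fc.ed (nat_lit 675) (nat_lit 291) Col.b (nat_lit 290) (Dv.wd (nat_lit 47) [Mv.f (nat_lit 673), Mv.f (nat_lit 645), Mv.f (nat_lit 624), Mv.f (nat_lit 648), Mv.f (nat_lit 674)]))) (Tr.nd (nat_lit 677) (Tr.lf (Fc.ed (nat_lit 676) (nat_lit 278) Col.a (nat_lit 292) Dv.df)) (Tr.lf (Fc.ed (nat_lit 677) (nat_lit 292) Col.c (nat_lit 288) (Dv.wd (nat_lit 82) [Mv.b (nat_lit 668), Mv.f (nat_lit 662), Mv.b (nat_lit 657), Mv.f (nat_lit 639), Mv.b (nat_lit 654), Mv.f (nat_lit 655), Mv.b (nat_lit 649), Mv.f (nat_lit 676)]))))) (Tr.nd (nat_lit 679) (Tr.lf (Fc.ed (nat_lit 678) (nat_lit 278) Col.c (nat_lit 293) Dv.df)) (Tr.nd (nat_lit 680) (Tr.lf (Fc.ed (nat_lit 679) (nat_lit 293) Col.a (nat_lit 288) (Dv.wd (nat_lit 7) [Mv.b (nat_lit 677), Mv.b (nat_lit 676), Mv.f (nat_lit 678)]))) (Tr.lf (Fc.ed (nat_lit 680) (nat_lit 290) Col.a (nat_lit 294) Dv.df)))))) (Tr.nd (nat_lit 686) (Tr.nd (nat_lit 683) (Tr.nd (nat_lit 682) (Tr.lf (Fc.ed (nat_lit 681) (nat_lit 294) Col.f (nat_lit 287) (Dv.wd (nat_lit 48) [Mv.b (nat_lit 666), Mv.b (nat_lit 673), Mv.f (nat_lit 680)]))) (Tr.lf (Fc.ed (nat_lit 682) (nat_lit 293) Col.f (nat_lit 295) Dv.df))) (Tr.nd (nat_lit 684) (Tr.lf (Fc.ed (nat_lit 683) (nat_lit 295) Col.c (nat_lit 291) (Dv.wd (nat_lit 32) [Mv.b (nat_lit 674), Mv.f (nat_lit 678), Mv.f (nat_lit 682)]))) (Tr.nd (nat_lit 685) (Tr.lf (Fc.al (nat_lit 684) (nat_lit 272) (nat_lit 188) (Dv.wd (nat_lit 83) [Mv.b (nat_lit 473), Mv.f (nat_lit 474), Mv.f (nat_lit 533), Mv.b (nat_lit 669), Mv.b (nat_lit 679), Mv.f (nat_lit 682), Mv.f (nat_lit 683), Mv.f (nat_lit 675), Mv.f (nat_lit 680), Mv.f (nat_lit 681), Mv.f (nat_lit 667), Mv.f (nat_lit 665), Mv.f (nat_lit 615), Mv.b (nat_lit 627), Mv.b (nat_lit 626), Mv.f (nat_lit 600), Mv.b (nat_lit 577), Mv.f (nat_lit 578), Mv.f (nat_lit 625), Mv.f (nat_lit 636)]))) (Tr.lf (Fc.al (nat_lit 685) (nat_lit 189) (nat_lit 265) (Dv.wd (nat_lit 84) [Mv.f (nat_lit 636), Mv.f (nat_lit 684), Mv.f (nat_lit 454)])))))) (Tr.nd (nat_lit 689) (Tr.nd (nat_lit 687) (Tr.lf (Fc.al (nat_lit 686) (nat_lit 197) (nat_lit 268) (Dv.wd (nat_lit 85) [Mv.f (nat_lit 631), Mv.b (nat_lit 685), Mv.b (nat_lit 471)]))) (Tr.nd (nat_lit 688) (Tr.lf (Fc.al (nat_lit 687) (nat_lit 89) (nat_lit 270) (Dv.wd (nat_lit 86) [Mv.f (nat_lit 634), Mv.b (nat_lit 685), Mv.f (nat_lit 455)]))) (Tr.lf (Fc.al (nat_lit 688) (nat_lit 105) (nat_lit 269) (Dv.wd (nat_lit 86) [Mv.b (nat_lit 632), Mv.b (nat_lit 686), Mv.b (nat_lit 470)]))))) (Tr.nd (nat_lit 690) (Tr.lf (Fc.al (nat_lit 689) (nat_lit 89) (nat_lit 105) (Dv.wd (nat_lit 87) [Mv.f (nat_lit 688), Mv.f (nat_lit 633), Mv.b (nat_lit 687), Mv.f (nat_lit 224)]))) (Tr.nd (nat_lit 691) (Tr.lf (Fc.al (nat_lit 690) (nat_lit 27) (nat_lit 28) (Dv.wd (nat_lit 88) [Mv.f (nat_lit 264), Mv.b (nat_lit 689), Mv.b (nat_lit 222)]))) (Tr.lf (Fc.ed (nat_lit 691) (nat_lit 27) Col.a (nat_lit 27) (Dv.wd (nat_lit 85) [Mv.f (nat_lit 51), Mv.b (nat_lit 690)])))))))))))))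
noncomputable def mini4A : Tr (Alt Col) := (Tr.nd (nat_lit 44) (Tr.nd (nat_lit 22) (Tr.nd (nat_lit 11) (Tr.nd (nat_lit 5) (Tr.nd (nat_lit 2) (Tr.nd (nat_lit 1) (Tr.lf (Alt.base (nat_lit 1) [] [Col.b])) (Tr.lf (Alt.base (nat_lit 2) [] [Col.c]))) (Tr.nd (nat_lit 3) (Tr.lf (Alt.base (nat_lit 3) [] [Col.d])) (Tr.nd (nat_lit 4) (Tr.lf (Alt.base (nat_lit 6) [Col.g, Col.b, Col.a, Col.f] [Col.b, Col.a, Col.b, Col.g])) (Tr.lf (Alt.base (nat_lit 7) [Col.g, Col.b, Col.a, Col.b, Col.c, Col.b, Col.a, Col.g, Col.b] [Col.c, Col.a, Col.b, Col.g]))))) (Tr.nd (nat_lit 8) (Tr.nd (nat_lit 6) (Tr.lf (Alt.base (nat_lit 8) [Col.g, Col.b, Col.c, Col.d, Col.f, Col.b, Col.g] [Col.c, Col.b, Col.f, Col.d, Col.c, Col.b, Col.g])) (Tr.nd (nat_lit 7) (Tr.lf (Alt.base (nat_lit 9) [Col.g, Col.b, Col.a, Col.c, Col.b, Col.d, Col.e, Col.g, Col.f, Col.b,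 Col.c] [Col.d, Col.c, Col.b, Col.f, Col.g, Col.e, Col.d, Col.b, Col.c, Col.a, Col.b, Col.g])) (Tr.lf (Alt.word (nat_lit 2) (nat_lit 1) true [Col.a, Col.c, Col.a, Col.c])))) (Tr.nd (nat_lit 9) (Tr.lf (Alt.word (nat_lit 16) (nat_lit 0) true [Col.f, Col.c, Col.f, Col.c])) (Tr.nd (nat_lit 10) (Tr.lf (Alt.word (nat_lit 8) (nat_lit 4) true [Col.c, Col.b, Col.c, Col.b, Col.c, Col.b])) (Tr.lf (Alt.word (nat_lit 12) (nat_lit 2) true [Col.g, Col.b, Col.g, Col.b, Col.g, Col.b])))))) (Tr.nd (nat_lit 16) (Tr.nd (nat_lit 13) (Tr.nd (nat_lit 12) (Tr.lf (Alt.word (nat_lit 17) (nat_lit 2) true [Col.g, Col.c, Col.g, Col.c])) (Tr.lf (Alt.word (nat_lit 6) (nat_lit 2) true [Col.g, Col.a, Col.g, Col.a]))) (Tr.nd (nat_lit 14) (Tr.lf (Alt.word (nat_lit 21) (nat_lit 2) true [Col.g, Col.d, Col.g, Col.d])) (Tr.nd (nat_lit 15) (Tr.lf (Alt.word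 (nat_lit 17) (nat_lit 1) true [Col.c, Col.g, Col.c, Col.g])) (Tr.lf (Alt.word (nat_lit 21) (nat_lit 1) true [Col.d, Col.g, Col.d, Col.g]))))) (Tr.nd (nat_lit 19) (Tr.nd (nat_lit 17) (Tr.lf (Alt.word (nat_lit 9) (nat_lit 2) true [Col.d, Col.b, Col.d, Col.b])) (Tr.nd (nat_lit 18) (Tr.lf (Alt.word (nat_lit 8) (nat_lit 3) true [Col.b, Col.c, Col.b, Col.c, Col.b, Col.c])) (Tr.lf (Alt.word (nat_lit 9) (nat_lit 3) true [Col.b, Col.d, Col.b, Col.d])))) (Tr.nd (nat_lit 20) (Tr.lf (Alt.word (nat_lit 11) (nat_lit 4) true [Col.f, Col.b, Col.f, Col.b, Col.f, Col.b])) (Tr.nd (nat_lit 21) (Tr.lf (Alt.word (nat_lit 16) (nat_lit 2) true [Col.f, Col.c, Col.f, Col.c])) (Tr.lf (Alt.word (nat_lit 8) (nat_lit 2) true [Col.c, Col.b, Col.c, Col.b, Col.c, Col.b]))))))) (Tr.nd (nat_lit 33) (Tr.nd (nat_lit 27) (Tr.nd (nat_lit 24) (Tr.nd (nat_lit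 23) (Tr.lf (Alt.word (nat_lit 15) (nat_lit 1) true [Col.c, Col.e, Col.c, Col.e])) (Tr.lf (Alt.word (nat_lit 28) (nat_lit 1) false [Col.d, Col.c, Col.d, Col.c, Col.d, Col.c, Col.d, Col.c, Col.a]))) (Tr.nd (nat_lit 25) (Tr.lf (Alt.word (nat_lit 17) (nat_lit 3) true [Col.c, Col.g, Col.c, Col.g])) (Tr.nd (nat_lit 26) (Tr.lf (Alt.word (nat_lit 3) (nat_lit 1) true [Col.a, Col.d, Col.a, Col.d])) (Tr.lf (Alt.word (nat_lit 9) (nat_lit 1) true [Col.b, Col.d, Col.b, Col.d]))))) (Tr.nd (nat_lit 30) (Tr.nd (nat_lit 28) (Tr.lf (Alt.word (nat_lit 28) (nat_lit 2) true [Col.c, Col.d, Col.c, Col.d, Col.c, Col.d, Col.a, Col.c, Col.d])) (Tr.nd (nat_lit 29) (Tr.lf (Alt.word (nat_lit 10) (nat_lit 2) true [Col.e, Col.b, Col.e, Col.b])) (Tr.lf (Alt.word (nat_lit 24) (nat_lit 0) true [Col.g, Col.e, Col.g, Col.e])))) (Tr.nd (nat_lit 31) (Tr.lf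 (Alt.word (nat_lit 12) (nat_lit 3) true [Col.b, Col.g, Col.b, Col.g, Col.b, Col.g])) (Tr.nd (nat_lit 32) (Tr.lf (Alt.word (nat_lit 2) (nat_lit 2) true [Col.c, Col.a, Col.c, Col.a])) (Tr.lf (Alt.word (nat_lit 16) (nat_lit 1) true [Col.c, Col.f, Col.c, Col.f])))))) (Tr.nd (nat_lit 38) (Tr.nd (nat_lit 35) (Tr.nd (nat_lit 34) (Tr.lf (Alt.word (nat_lit 29) (nat_lit 2) true [Col.f, Col.g, Col.a, Col.f, Col.g])) (Tr.lf (Alt.word (nat_lit 29) (nat_lit 4) true [Col.a, Col.f, Col.g, Col.f, Col.g]))) (Tr.nd (nat_lit 36) (Tr.lf (Alt.word (nat_lit 20) (nat_lit 3) true [Col.d, Col.f, Col.d, Col.f])) (Tr.nd (nat_lit 37) (Tr.lf (Alt.word (nat_lit 4) (nat_lit 1) true [Col.a, Col.e, Col.a, Col.e])) (Tr.lf (Alt.word (nat_lit 24) (nat_lit 2) true [Col.g, Col.e, Col.g, Col.e]))))) (Tr.nd (nat_lit 41) (Tr.nd (nat_lit 39) (Tr.lf (Alt.word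 (nat_lit 20) (nat_lit 1) true [Col.d, Col.f, Col.d, Col.f])) (Tr.nd (nat_lit 40) (Tr.lf (Alt.word (nat_lit 29) (nat_lit 1) true [Col.g, Col.f, Col.g, Col.a, Col.f])) (Tr.lf (Alt.word (nat_lit 24) (nat_lit 1) true [Col.e, Col.g, Col.e, Col.g])))) (Tr.nd (nat_lit 42) (Tr.lf (Alt.word (nat_lit 12) (nat_lit 1) true [Col.b, Col.g, Col.b, Col.g, Col.b, Col.g])) (Tr.nd (nat_lit 43) (Tr.lf (Alt.word (nat_lit 10) (nat_lit 3) true [Col.b, Col.e, Col.b, Col.e])) (Tr.lf (Alt.word (nat_lit 23) (nat_lit 1) true [Col.e, Col.f, Col.e, Col.f])))))))) (Tr.nd (nat_lit 66) (Tr.nd (nat_lit 55) (Tr.nd (nat_lit 49) (Tr.nd (nat_lit 46) (Tr.nd (nat_lit 45) (Tr.lf (Alt.word (nat_lit 23) (nat_lit 2) true [Col.f, Col.e, Col.f, Col.e])) (Tr.lf (Alt.word (nat_lit 10) (nat_lit 1) true [Col.b, Col.e, Col.b, Col.e]))) (Tr.nd (nat_lit 47) (Tr.lf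 (Alt.word (nat_lit 6) (nat_lit 1) true [Col.a, Col.g, Col.a, Col.g])) (Tr.nd (nat_lit 48) (Tr.lf (Alt.word (nat_lit 11) (nat_lit 1) true [Col.b, Col.f, Col.b, Col.f, Col.b, Col.f])) (Tr.lf (Alt.word (nat_lit 5) (nat_lit 2) true [Col.f, Col.a, Col.f, Col.a]))))) (Tr.nd (nat_lit 52) (Tr.nd (nat_lit 50) (Tr.lf (Alt.word (nat_lit 31) (nat_lit 14) true [Col.b, Col.g, Col.f, Col.b, Col.g, Col.f, Col.b, Col.g, Col.f, Col.b, Col.g, Col.f, Col.b, Col.g, Col.f])) (Tr.nd (nat_lit 51) (Tr.lf (Alt.word (nat_lit 4) (nat_lit 2) true [Col.e, Col.a, Col.e, Col.a])) (Tr.lf (Alt.word (nat_lit 20) (nat_lit 2) true [Col.f, Col.d, Col.f, Col.d])))) (Tr.nd (nat_lit 53) (Tr.lf (Alt.word (nat_lit 16) (nat_lit 3) true [Col.c, Col.f, Col.c, Col.f])) (Tr.nd (nat_lit 54) (Tr.lf (Alt.word (nat_lit 8) (nat_lit 1) true [Col.b, Col.c, Col.b, Col.c,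 Col.b, Col.c])) (Tr.lf (Alt.word (nat_lit 19) (nat_lit 1) true [Col.d, Col.e, Col.d, Col.e, Col.d, Col.e])))))) (Tr.nd (nat_lit 60) (Tr.nd (nat_lit 57) (Tr.nd (nat_lit 56) (Tr.lf (Alt.word (nat_lit 19) (nat_lit 2) true [Col.e, Col.d, Col.e, Col.d, Col.e, Col.d])) (Tr.lf (Alt.word (nat_lit 15) (nat_lit 2) true [Col.e, Col.c, Col.e, Col.c]))) (Tr.nd (nat_lit 58) (Tr.lf (Alt.word (nat_lit 30) (nat_lit 1) false [Col.b, Col.c, Col.f, Col.a, Col.b, Col.c, Col.f, Col.a, Col.b, Col.c, Col.f, Col.a, Col.b, Col.c, Col.f, Col.a, Col.b, Col.c, Col.f, Col.a])) (Tr.nd (nat_lit 59) (Tr.lf (Alt.word (nat_lit 11) (nat_lit 2) true [Col.f, Col.b, Col.f, Col.b, Col.f, Col.b])) (Tr.lf (Alt.word (nat_lit 30) (nat_lit 3) true [Col.a, Col.f, Col.c, Col.b, Col.a, Col.f, Col.c, Col.b, Col.a, Col.f, Col.c, Col.b, Col.a, Col.f, Col.c, Col.b,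 Col.a, Col.f, Col.c, Col.b]))))) (Tr.nd (nat_lit 63) (Tr.nd (nat_lit 61) (Tr.lf (Alt.word (nat_lit 12) (nat_lit 5) true [Col.b, Col.g, Col.b, Col.g, Col.b, Col.g])) (Tr.nd (nat_lit 62) (Tr.lf (Alt.word (nat_lit 5) (nat_lit 1) true [Col.a, Col.f, Col.a, Col.f])) (Tr.lf (Alt.word (nat_lit 3) (nat_lit 2) true [Col.d, Col.a, Col.d, Col.a])))) (Tr.nd (nat_lit 64) (Tr.lf (Alt.word (nat_lit 29) (nat_lit 4) false [Col.f, Col.a, Col.g, Col.f, Col.g])) (Tr.nd (nat_lit 65) (Tr.lf (Alt.word (nat_lit 28) (nat_lit 1) true [Col.d, Col.c, Col.d, Col.c, Col.d, Col.c, Col.d, Col.a, Col.c])) (Tr.lf (Alt.word (nat_lit 3) (nat_lit 3) true [Col.a, Col.d, Col.a, Col.d]))))))) (Tr.nd (nat_lit 77) (Tr.nd (nat_lit 71) (Tr.nd (nat_lit 68) (Tr.nd (nat_lit 67) (Tr.lf (Alt.word (nat_lit 1) (nat_lit 2) true [Col.b, Col.a, Col.b, Col.a, Col.b,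 Col.a, Col.b, Col.a, Col.b, Col.a])) (Tr.lf (Alt.word (nat_lit 29) (nat_lit 1) false [Col.g, Col.f, Col.g, Col.f, Col.a]))) (Tr.nd (nat_lit 69) (Tr.lf (Alt.word (nat_lit 9) (nat_lit 0) true [Col.d, Col.b, Col.d, Col.b])) (Tr.nd (nat_lit 70) (Tr.lf (Alt.word (nat_lit 31) (nat_lit 2) false [Col.g, Col.b, Col.f, Col.g, Col.b, Col.f, Col.g, Col.b, Col.f, Col.g, Col.b, Col.f, Col.g, Col.b, Col.f])) (Tr.lf (Alt.word (nat_lit 30) (nat_lit 3) false [Col.f, Col.a, Col.b, Col.c, Col.f, Col.a, Col.b, Col.c, Col.f, Col.a, Col.b, Col.c, Col.f, Col.a, Col.b, Col.c, Col.f, Col.a, Col.b, Col.c]))))) (Tr.nd (nat_lit 74) (Tr.nd (nat_lit 72) (Tr.lf (Alt.word (nat_lit 4) (nat_lit 3) true [Col.a, Col.e, Col.a, Col.e])) (Tr.nd (nat_lit 73) (Tr.lf (Alt.word (nat_lit 31) (nat_lit 1) true [Col.f, Col.b, Col.g, Col.f, Col.b, Col.g, Col.f,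 Col.b, Col.g, Col.f, Col.b, Col.g, Col.f, Col.b, Col.g])) (Tr.lf (Alt.word (nat_lit 21) (nat_lit 3) true [Col.d, Col.g, Col.d, Col.g])))) (Tr.nd (nat_lit 75) (Tr.lf (Alt.word (nat_lit 1) (nat_lit 1) true [Col.a, Col.b, Col.a, Col.b, Col.a, Col.b, Col.a, Col.b, Col.a, Col.b])) (Tr.nd (nat_lit 76) (Tr.lf (Alt.word (nat_lit 6) (nat_lit 0) true [Col.g, Col.a, Col.g, Col.a])) (Tr.lf (Alt.word (nat_lit 3) (nat_lit 0) true [Col.d, Col.a, Col.d, Col.a])))))) (Tr.nd (nat_lit 83) (Tr.nd (nat_lit 80) (Tr.nd (nat_lit 78) (Tr.lf (Alt.word (nat_lit 29) (nat_lit 0) false [Col.a, Col.g, Col.f, Col.g, Col.f])) (Tr.nd (nat_lit 79) (Tr.lf (Alt.word (nat_lit 2) (nat_lit 3) true [Col.a, Col.c, Col.a, Col.c])) (Tr.lf (Alt.word (nat_lit 28) (nat_lit 7) true [Col.d, Col.a, Col.c, Col.d, Col.c, Col.d, Col.c, Col.d, Col.c])))) (Tr.nd (nat_lit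 81) (Tr.lf (Alt.word (nat_lit 28) (nat_lit 3) true [Col.d, Col.c, Col.d, Col.c, Col.d, Col.a, Col.c, Col.d, Col.c])) (Tr.nd (nat_lit 82) (Tr.lf (Alt.word (nat_lit 10) (nat_lit 0) true [Col.e, Col.b, Col.e, Col.b])) (Tr.lf (Alt.word (nat_lit 28) (nat_lit 0) true [Col.c, Col.d, Col.c, Col.d, Col.c, Col.d, Col.c, Col.d, Col.a]))))) (Tr.nd (nat_lit 86) (Tr.nd (nat_lit 84) (Tr.lf (Alt.word (nat_lit 30) (nat_lit 15) true [Col.a, Col.f, Col.c, Col.b, Col.a, Col.f, Col.c, Col.b, Col.a, Col.f, Col.c, Col.b, Col.a, Col.f, Col.c, Col.b, Col.a, Col.f, Col.c, Col.b])) (Tr.nd (nat_lit 85) (Tr.lf (Alt.word (nat_lit 7) (nat_lit 0) true [Col.b, Col.b])) (Tr.lf (Alt.word (nat_lit 0) (nat_lit 0) true [Col.a, Col.a])))) (Tr.nd (nat_lit 87) (Tr.lf (Alt.word (nat_lit 18) (nat_lit 0) true [Col.d, Col.d])) (Tr.nd (nat_lit 88) (Tr.lf (Alt.word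 (nat_lit 13) (nat_lit 0) true [Col.c, Col.c])) (Tr.lf (Alt.word (nat_lit 22) (nat_lit 0) true [Col.e, Col.e])))))))))
noncomputable def mini4P : Tr ℕ := (Tr.nd (nat_lit 148) (Tr.nd (nat_lit 74) (Tr.nd (nat_lit 37) (Tr.nd (nat_lit 18) (Tr.nd (nat_lit 9) (Tr.nd (nat_lit 4) (Tr.nd (nat_lit 2) (Tr.nd (nat_lit 1) (Tr.lf (nat_lit 0)) (Tr.lf (nat_lit 0))) (Tr.nd (nat_lit 3) (Tr.lf (nat_lit 1)) (Tr.lf (nat_lit 2)))) (Tr.nd (nat_lit 6) (Tr.nd (nat_lit 5) (Tr.lf (nat_lit 3)) (Tr.lf (nat_lit 4))) (Tr.nd (nat_lit 7) (Tr.lf (nat_lit 5)) (Tr.nd (nat_lit 8) (Tr.lf (nat_lit 6)) (Tr.lf (nat_lit 7)))))) (Tr.nd (nat_lit 13) (Tr.nd (nat_lit 11) (Tr.nd (nat_lit 10) (Tr.lf (nat_lit 8)) (Tr.lf (nat_lit 2))) (Tr.nd (nat_lit 12) (Tr.lf (nat_lit 10)) (Tr.lf (nat_lit 11)))) (Tr.nd (nat_lit 15) (Tr.nd (nat_lit 14) (Tr.lf (nat_lit 12)) (Tr.lf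 (nat_lit 13))) (Tr.nd (nat_lit 16) (Tr.lf (nat_lit 8)) (Tr.nd (nat_lit 17) (Tr.lf (nat_lit 15)) (Tr.lf (nat_lit 16))))))) (Tr.nd (nat_lit 27) (Tr.nd (nat_lit 22) (Tr.nd (nat_lit 20) (Tr.nd (nat_lit 19) (Tr.lf (nat_lit 17)) (Tr.lf (nat_lit 18))) (Tr.nd (nat_lit 21) (Tr.lf (nat_lit 19)) (Tr.lf (nat_lit 11)))) (Tr.nd (nat_lit 24) (Tr.nd (nat_lit 23) (Tr.lf (nat_lit 21)) (Tr.lf (nat_lit 22))) (Tr.nd (nat_lit 25) (Tr.lf (nat_lit 23)) (Tr.nd (nat_lit 26) (Tr.lf (nat_lit 24)) (Tr.lf (nat_lit 25)))))) (Tr.nd (nat_lit 32) (Tr.nd (nat_lit 29) (Tr.nd (nat_lit 28) (Tr.lf (nat_lit 26)) (Tr.lf (nat_lit 27))) (Tr.nd (nat_lit 30) (Tr.lf (nat_lit 21)) (Tr.nd (nat_lit 31) (Tr.lf (nat_lit 26)) (Tr.lf (nat_lit 30))))) (Tr.nd (nat_lit 34) (Tr.nd (nat_lit 33) (Tr.lf (nat_lit 9)) (Tr.lf (nat_lit 23))) (Tr.nd (nat_lit 35) (Tr.lf (nat_lit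 21)) (Tr.nd (nat_lit 36) (Tr.lf (nat_lit 34)) (Tr.lf (nat_lit 29)))))))) (Tr.nd (nat_lit 55) (Tr.nd (nat_lit 46) (Tr.nd (nat_lit 41) (Tr.nd (nat_lit 39) (Tr.nd (nat_lit 38) (Tr.lf (nat_lit 32)) (Tr.lf (nat_lit 15))) (Tr.nd (nat_lit 40) (Tr.lf (nat_lit 38)) (Tr.lf (nat_lit 34)))) (Tr.nd (nat_lit 43) (Tr.nd (nat_lit 42) (Tr.lf (nat_lit 32)) (Tr.lf (nat_lit 8))) (Tr.nd (nat_lit 44) (Tr.lf (nat_lit 40)) (Tr.nd (nat_lit 45) (Tr.lf (nat_lit 11)) (Tr.lf (nat_lit 37)))))) (Tr.nd (nat_lit 50) (Tr.nd (nat_lit 48) (Tr.nd (nat_lit 47) (Tr.lf (nat_lit 45)) (Tr.lf (nat_lit 42))) (Tr.nd (nat_lit 49) (Tr.lf (nat_lit 47)) (Tr.lf (nat_lit 22)))) (Tr.nd (nat_lit 52) (Tr.nd (nat_lit 51) (Tr.lf (nat_lit 47)) (Tr.lf (nat_lit 50))) (Tr.nd (nat_lit 53) (Tr.lf (nat_lit 51)) (Tr.nd (nat_lit 54) (Tr.lf (nat_lit 17)) (Tr.lf (nat_lit 50)))))))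 (Tr.nd (nat_lit 64) (Tr.nd (nat_lit 59) (Tr.nd (nat_lit 57) (Tr.nd (nat_lit 56) (Tr.lf (nat_lit 54)) (Tr.lf (nat_lit 16))) (Tr.nd (nat_lit 58) (Tr.lf (nat_lit 16)) (Tr.lf (nat_lit 50)))) (Tr.nd (nat_lit 61) (Tr.nd (nat_lit 60) (Tr.lf (nat_lit 18)) (Tr.lf (nat_lit 47))) (Tr.nd (nat_lit 62) (Tr.lf (nat_lit 29)) (Tr.nd (nat_lit 63) (Tr.lf (nat_lit 60)) (Tr.lf (nat_lit 61)))))) (Tr.nd (nat_lit 69) (Tr.nd (nat_lit 66) (Tr.nd (nat_lit 65) (Tr.lf (nat_lit 36)) (Tr.lf (nat_lit 24))) (Tr.nd (nat_lit 67) (Tr.lf (nat_lit 24)) (Tr.nd (nat_lit 68) (Tr.lf (nat_lit 66)) (Tr.lf (nat_lit 60))))) (Tr.nd (nat_lit 71) (Tr.nd (nat_lit 70) (Tr.lf (nat_lit 65)) (Tr.lf (nat_lit 62))) (Tr.nd (nat_lit 72) (Tr.lf (nat_lit 30)) (Tr.nd (nat_lit 73) (Tr.lf (nat_lit 71)) (Tr.lf (nat_lit 71))))))))) (Tr.nd (nat_lit 111) (Tr.nd (nat_lit 92) (Tr.nd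 (nat_lit 83) (Tr.nd (nat_lit 78) (Tr.nd (nat_lit 76) (Tr.nd (nat_lit 75) (Tr.lf (nat_lit 48)) (Tr.lf (nat_lit 17))) (Tr.nd (nat_lit 77) (Tr.lf (nat_lit 51)) (Tr.lf (nat_lit 22)))) (Tr.nd (nat_lit 80) (Tr.nd (nat_lit 79) (Tr.lf (nat_lit 39)) (Tr.lf (nat_lit 38))) (Tr.nd (nat_lit 81) (Tr.lf (nat_lit 62)) (Tr.nd (nat_lit 82) (Tr.lf (nat_lit 18)) (Tr.lf (nat_lit 77)))))) (Tr.nd (nat_lit 87) (Tr.nd (nat_lit 85) (Tr.nd (nat_lit 84) (Tr.lf (nat_lit 16)) (Tr.lf (nat_lit 68))) (Tr.nd (nat_lit 86) (Tr.lf (nat_lit 15)) (Tr.lf (nat_lit 22)))) (Tr.nd (nat_lit 89) (Tr.nd (nat_lit 88) (Tr.lf (nat_lit 86)) (Tr.lf (nat_lit 84))) (Tr.nd (nat_lit 90) (Tr.lf (nat_lit 27)) (Tr.nd (nat_lit 91) (Tr.lf (nat_lit 56)) (Tr.lf (nat_lit 61))))))) (Tr.nd (nat_lit 101) (Tr.nd (nat_lit 96) (Tr.nd (nat_lit 94) (Tr.nd (nat_lit 93) (Tr.lf (nat_lit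 75)) (Tr.lf (nat_lit 88))) (Tr.nd (nat_lit 95) (Tr.lf (nat_lit 86)) (Tr.lf (nat_lit 92)))) (Tr.nd (nat_lit 98) (Tr.nd (nat_lit 97) (Tr.lf (nat_lit 95)) (Tr.lf (nat_lit 49))) (Tr.nd (nat_lit 99) (Tr.lf (nat_lit 66)) (Tr.nd (nat_lit 100) (Tr.lf (nat_lit 63)) (Tr.lf (nat_lit 93)))))) (Tr.nd (nat_lit 106) (Tr.nd (nat_lit 103) (Tr.nd (nat_lit 102) (Tr.lf (nat_lit 31)) (Tr.lf (nat_lit 64))) (Tr.nd (nat_lit 104) (Tr.lf (nat_lit 99)) (Tr.nd (nat_lit 105) (Tr.lf (nat_lit 92)) (Tr.lf (nat_lit 28))))) (Tr.nd (nat_lit 108) (Tr.nd (nat_lit 107) (Tr.lf (nat_lit 82)) (Tr.lf (nat_lit 102))) (Tr.nd (nat_lit 109) (Tr.lf (nat_lit 94)) (Tr.nd (nat_lit 110) (Tr.lf (nat_lit 61)) (Tr.lf (nat_lit 24)))))))) (Tr.nd (nat_lit 129) (Tr.nd (nat_lit 120) (Tr.nd (nat_lit 115) (Tr.nd (nat_lit 113) (Tr.nd (nat_lit 112) (Tr.lf (nat_lit 68)) (Tr.lf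 (nat_lit 111))) (Tr.nd (nat_lit 114) (Tr.lf (nat_lit 35)) (Tr.lf (nat_lit 113)))) (Tr.nd (nat_lit 117) (Tr.nd (nat_lit 116) (Tr.lf (nat_lit 110)) (Tr.lf (nat_lit 72))) (Tr.nd (nat_lit 118) (Tr.lf (nat_lit 108)) (Tr.nd (nat_lit 119) (Tr.lf (nat_lit 26)) (Tr.lf (nat_lit 100)))))) (Tr.nd (nat_lit 124) (Tr.nd (nat_lit 122) (Tr.nd (nat_lit 121) (Tr.lf (nat_lit 110)) (Tr.lf (nat_lit 115))) (Tr.nd (nat_lit 123) (Tr.lf (nat_lit 93)) (Tr.lf (nat_lit 98)))) (Tr.nd (nat_lit 126) (Tr.nd (nat_lit 125) (Tr.lf (nat_lit 64)) (Tr.lf (nat_lit 80))) (Tr.nd (nat_lit 127) (Tr.lf (nat_lit 98)) (Tr.nd (nat_lit 128) (Tr.lf (nat_lit 111)) (Tr.lf (nat_lit 63))))))) (Tr.nd (nat_lit 138) (Tr.nd (nat_lit 133) (Tr.nd (nat_lit 131) (Tr.nd (nat_lit 130) (Tr.lf (nat_lit 123)) (Tr.lf (nat_lit 73))) (Tr.nd (nat_lit 132) (Tr.lf (nat_lit 127)) (Tr.lf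 (nat_lit 121)))) (Tr.nd (nat_lit 135) (Tr.nd (nat_lit 134) (Tr.lf (nat_lit 116)) (Tr.lf (nat_lit 26))) (Tr.nd (nat_lit 136) (Tr.lf (nat_lit 116)) (Tr.nd (nat_lit 137) (Tr.lf (nat_lit 73)) (Tr.lf (nat_lit 70)))))) (Tr.nd (nat_lit 143) (Tr.nd (nat_lit 140) (Tr.nd (nat_lit 139) (Tr.lf (nat_lit 110)) (Tr.lf (nat_lit 137))) (Tr.nd (nat_lit 141) (Tr.lf (nat_lit 128)) (Tr.nd (nat_lit 142) (Tr.lf (nat_lit 134)) (Tr.lf (nat_lit 85))))) (Tr.nd (nat_lit 145) (Tr.nd (nat_lit 144) (Tr.lf (nat_lit 126)) (Tr.lf (nat_lit 140))) (Tr.nd (nat_lit 146) (Tr.lf (nat_lit 79)) (Tr.nd (nat_lit 147) (Tr.lf (nat_lit 141)) (Tr.lf (nat_lit 43)))))))))) (Tr.nd (nat_lit 222) (Tr.nd (nat_lit 185) (Tr.nd (nat_lit 166) (Tr.nd (nat_lit 157) (Tr.nd (nat_lit 152) (Tr.nd (nat_lit 150) (Tr.nd (nat_lit 149) (Tr.lf (nat_lit 125)) (Tr.lf (nat_lit 109)))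 (Tr.nd (nat_lit 151) (Tr.lf (nat_lit 93)) (Tr.lf (nat_lit 148)))) (Tr.nd (nat_lit 154) (Tr.nd (nat_lit 153) (Tr.lf (nat_lit 136)) (Tr.lf (nat_lit 81))) (Tr.nd (nat_lit 155) (Tr.lf (nat_lit 153)) (Tr.nd (nat_lit 156) (Tr.lf (nat_lit 153)) (Tr.lf (nat_lit 153)))))) (Tr.nd (nat_lit 161) (Tr.nd (nat_lit 159) (Tr.nd (nat_lit 158) (Tr.lf (nat_lit 102)) (Tr.lf (nat_lit 155))) (Tr.nd (nat_lit 160) (Tr.lf (nat_lit 158)) (Tr.lf (nat_lit 107)))) (Tr.nd (nat_lit 163) (Tr.nd (nat_lit 162) (Tr.lf (nat_lit 159)) (Tr.lf (nat_lit 103))) (Tr.nd (nat_lit 164) (Tr.lf (nat_lit 150)) (Tr.nd (nat_lit 165) (Tr.lf (nat_lit 154)) (Tr.lf (nat_lit 112))))))) (Tr.nd (nat_lit 175) (Tr.nd (nat_lit 170) (Tr.nd (nat_lit 168) (Tr.nd (nat_lit 167) (Tr.lf (nat_lit 165)) (Tr.lf (nat_lit 115))) (Tr.nd (nat_lit 169) (Tr.lf (nat_lit 161)) (Tr.lf (nat_lit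 146)))) (Tr.nd (nat_lit 172) (Tr.nd (nat_lit 171) (Tr.lf (nat_lit 163)) (Tr.lf (nat_lit 165))) (Tr.nd (nat_lit 173) (Tr.lf (nat_lit 97)) (Tr.nd (nat_lit 174) (Tr.lf (nat_lit 169)) (Tr.lf (nat_lit 173)))))) (Tr.nd (nat_lit 180) (Tr.nd (nat_lit 177) (Tr.nd (nat_lit 176) (Tr.lf (nat_lit 133)) (Tr.lf (nat_lit 134))) (Tr.nd (nat_lit 178) (Tr.lf (nat_lit 174)) (Tr.nd (nat_lit 179) (Tr.lf (nat_lit 161)) (Tr.lf (nat_lit 161))))) (Tr.nd (nat_lit 182) (Tr.nd (nat_lit 181) (Tr.lf (nat_lit 144)) (Tr.lf (nat_lit 180))) (Tr.nd (nat_lit 183) (Tr.lf (nat_lit 176)) (Tr.nd (nat_lit 184) (Tr.lf (nat_lit 172)) (Tr.lf (nat_lit 67)))))))) (Tr.nd (nat_lit 203) (Tr.nd (nat_lit 194) (Tr.nd (nat_lit 189) (Tr.nd (nat_lit 187) (Tr.nd (nat_lit 186) (Tr.lf (nat_lit 134)) (Tr.lf (nat_lit 119))) (Tr.nd (nat_lit 188) (Tr.lf (nat_lit 167)) (Tr.lf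 (nat_lit 184)))) (Tr.nd (nat_lit 191) (Tr.nd (nat_lit 190) (Tr.lf (nat_lit 188)) (Tr.lf (nat_lit 169))) (Tr.nd (nat_lit 192) (Tr.lf (nat_lit 140)) (Tr.nd (nat_lit 193) (Tr.lf (nat_lit 180)) (Tr.lf (nat_lit 176)))))) (Tr.nd (nat_lit 198) (Tr.nd (nat_lit 196) (Tr.nd (nat_lit 195) (Tr.lf (nat_lit 164)) (Tr.lf (nat_lit 154))) (Tr.nd (nat_lit 197) (Tr.lf (nat_lit 152)) (Tr.lf (nat_lit 105)))) (Tr.nd (nat_lit 200) (Tr.nd (nat_lit 199) (Tr.lf (nat_lit 136)) (Tr.lf (nat_lit 194))) (Tr.nd (nat_lit 201) (Tr.lf (nat_lit 191)) (Tr.nd (nat_lit 202) (Tr.lf (nat_lit 164)) (Tr.lf (nat_lit 160))))))) (Tr.nd (nat_lit 212) (Tr.nd (nat_lit 207) (Tr.nd (nat_lit 205) (Tr.nd (nat_lit 204) (Tr.lf (nat_lit 163)) (Tr.lf (nat_lit 130))) (Tr.nd (nat_lit 206) (Tr.lf (nat_lit 154)) (Tr.lf (nat_lit 180)))) (Tr.nd (nat_lit 209) (Tr.nd (nat_lit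 208) (Tr.lf (nat_lit 202)) (Tr.lf (nat_lit 195))) (Tr.nd (nat_lit 210) (Tr.lf (nat_lit 141)) (Tr.nd (nat_lit 211) (Tr.lf (nat_lit 195)) (Tr.lf (nat_lit 163)))))) (Tr.nd (nat_lit 217) (Tr.nd (nat_lit 214) (Tr.nd (nat_lit 213) (Tr.lf (nat_lit 201)) (Tr.lf (nat_lit 210))) (Tr.nd (nat_lit 215) (Tr.lf (nat_lit 210)) (Tr.nd (nat_lit 216) (Tr.lf (nat_lit 201)) (Tr.lf (nat_lit 209))))) (Tr.nd (nat_lit 219) (Tr.nd (nat_lit 218) (Tr.lf (nat_lit 211)) (Tr.lf (nat_lit 215))) (Tr.nd (nat_lit 220) (Tr.lf (nat_lit 89)) (Tr.nd (nat_lit 221) (Tr.lf (nat_lit 205)) (Tr.lf (nat_lit 219))))))))) (Tr.nd (nat_lit 259) (Tr.nd (nat_lit 240) (Tr.nd (nat_lit 231) (Tr.nd (nat_lit 226) (Tr.nd (nat_lit 224) (Tr.nd (nat_lit 223) (Tr.lf (nat_lit 187)) (Tr.lf (nat_lit 196))) (Tr.nd (nat_lit 225) (Tr.lf (nat_lit 182)) (Tr.lf (nat_lit 191)))) (Tr.nd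 (nat_lit 228) (Tr.nd (nat_lit 227) (Tr.lf (nat_lit 220)) (Tr.lf (nat_lit 174))) (Tr.nd (nat_lit 229) (Tr.lf (nat_lit 105)) (Tr.nd (nat_lit 230) (Tr.lf (nat_lit 183)) (Tr.lf (nat_lit 219)))))) (Tr.nd (nat_lit 235) (Tr.nd (nat_lit 233) (Tr.nd (nat_lit 232) (Tr.lf (nat_lit 174)) (Tr.lf (nat_lit 227))) (Tr.nd (nat_lit 234) (Tr.lf (nat_lit 173)) (Tr.lf (nat_lit 227)))) (Tr.nd (nat_lit 237) (Tr.nd (nat_lit 236) (Tr.lf (nat_lit 177)) (Tr.lf (nat_lit 191))) (Tr.nd (nat_lit 238) (Tr.lf (nat_lit 216)) (Tr.nd (nat_lit 239) (Tr.lf (nat_lit 203)) (Tr.lf (nat_lit 232))))))) (Tr.nd (nat_lit 249) (Tr.nd (nat_lit 244) (Tr.nd (nat_lit 242) (Tr.nd (nat_lit 241) (Tr.lf (nat_lit 217)) (Tr.lf (nat_lit 228))) (Tr.nd (nat_lit 243) (Tr.lf (nat_lit 233)) (Tr.lf (nat_lit 227)))) (Tr.nd (nat_lit 246) (Tr.nd (nat_lit 245) (Tr.lf (nat_lit 221))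 (Tr.lf (nat_lit 234))) (Tr.nd (nat_lit 247) (Tr.lf (nat_lit 176)) (Tr.nd (nat_lit 248) (Tr.lf (nat_lit 244)) (Tr.lf (nat_lit 247)))))) (Tr.nd (nat_lit 254) (Tr.nd (nat_lit 251) (Tr.nd (nat_lit 250) (Tr.lf (nat_lit 246)) (Tr.lf (nat_lit 186))) (Tr.nd (nat_lit 252) (Tr.lf (nat_lit 224)) (Tr.nd (nat_lit 253) (Tr.lf (nat_lit 182)) (Tr.lf (nat_lit 252))))) (Tr.nd (nat_lit 256) (Tr.nd (nat_lit 255) (Tr.lf (nat_lit 238)) (Tr.lf (nat_lit 211))) (Tr.nd (nat_lit 257) (Tr.lf (nat_lit 224)) (Tr.nd (nat_lit 258) (Tr.lf (nat_lit 119)) (Tr.lf (nat_lit 245)))))))) (Tr.nd (nat_lit 277) (Tr.nd (nat_lit 268) (Tr.nd (nat_lit 263) (Tr.nd (nat_lit 261) (Tr.nd (nat_lit 260) (Tr.lf (nat_lit 253)) (Tr.lf (nat_lit 257))) (Tr.nd (nat_lit 262) (Tr.lf (nat_lit 259)) (Tr.lf (nat_lit 216)))) (Tr.nd (nat_lit 265) (Tr.nd (nat_lit 264) (Tr.lf (nat_lit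 262)) (Tr.lf (nat_lit 242))) (Tr.nd (nat_lit 266) (Tr.lf (nat_lit 197)) (Tr.nd (nat_lit 267) (Tr.lf (nat_lit 251)) (Tr.lf (nat_lit 261)))))) (Tr.nd (nat_lit 272) (Tr.nd (nat_lit 270) (Tr.nd (nat_lit 269) (Tr.lf (nat_lit 189)) (Tr.lf (nat_lit 268))) (Tr.nd (nat_lit 271) (Tr.lf (nat_lit 269)) (Tr.lf (nat_lit 255)))) (Tr.nd (nat_lit 274) (Tr.nd (nat_lit 273) (Tr.lf (nat_lit 265)) (Tr.lf (nat_lit 240))) (Tr.nd (nat_lit 275) (Tr.lf (nat_lit 271)) (Tr.nd (nat_lit 276) (Tr.lf (nat_lit 273)) (Tr.lf (nat_lit 275))))))) (Tr.nd (nat_lit 286) (Tr.nd (nat_lit 281) (Tr.nd (nat_lit 279) (Tr.nd (nat_lit 278) (Tr.lf (nat_lit 271)) (Tr.lf (nat_lit 258))) (Tr.nd (nat_lit 280) (Tr.lf (nat_lit 271)) (Tr.lf (nat_lit 279)))) (Tr.nd (nat_lit 283) (Tr.nd (nat_lit 282) (Tr.lf (nat_lit 263)) (Tr.lf (nat_lit 267))) (Tr.nd (nat_lit 284) (Tr.lf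 (nat_lit 271)) (Tr.nd (nat_lit 285) (Tr.lf (nat_lit 276)) (Tr.lf (nat_lit 222)))))) (Tr.nd (nat_lit 291) (Tr.nd (nat_lit 288) (Tr.nd (nat_lit 287) (Tr.lf (nat_lit 267)) (Tr.lf (nat_lit 276))) (Tr.nd (nat_lit 289) (Tr.lf (nat_lit 285)) (Tr.nd (nat_lit 290) (Tr.lf (nat_lit 280)) (Tr.lf (nat_lit 289))))) (Tr.nd (nat_lit 293) (Tr.nd (nat_lit 292) (Tr.lf (nat_lit 278)) (Tr.lf (nat_lit 278))) (Tr.nd (nat_lit 294) (Tr.lf (nat_lit 278)) (Tr.nd (nat_lit 295) (Tr.lf (nat_lit 290)) (Tr.lf (nat_lit 293)))))))))))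
noncomputable def mini4Q : Tr ℕ := (Tr.nd (nat_lit 148) (Tr.nd (nat_lit 74) (Tr.nd (nat_lit 37) (Tr.nd (nat_lit 18) (Tr.nd (nat_lit 9) (Tr.nd (nat_lit 4) (Tr.nd (nat_lit 2) (Tr.nd (nat_lit 1) (Tr.lf (nat_lit 0)) (Tr.lf (nat_lit 6))) (Tr.nd (nat_lit 3) (Tr.lf (nat_lit 1)) (Tr.lf (nat_lit 0)))) (Tr.nd (nat_lit 6) (Tr.nd (nat_lit 5) (Tr.lf (nat_lit 5)) (Tr.lf (nat_lit 2))) (Tr.nd (nat_lit 7) (Tr.lf (nat_lit 1)) (Tr.nd (nat_lit 8) (Tr.lf (nat_lit 0)) (Tr.lf (nat_lit 6)))))) (Tr.nd (nat_lit 13) (Tr.nd (nat_lit 11) (Tr.nd (nat_lit 10) (Tr.lf (nat_lit 1)) (Tr.lf (nat_lit 2))) (Tr.nd (nat_lit 12) (Tr.lf (nat_lit 3)) (Tr.lf (nat_lit 5)))) (Tr.nd (nat_lit 15) (Tr.nd (nat_lit 14) (Tr.lf (nat_lit 1)) (Tr.lf (nat_lit 6))) (Tr.nd (nat_lit 16) (Tr.lf (nat_lit 3)) (Tr.nd (nat_lit 17) (Tr.lf (nat_lit 4)) (Tr.lf (nat_lit 6)))))))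 (Tr.nd (nat_lit 27) (Tr.nd (nat_lit 22) (Tr.nd (nat_lit 20) (Tr.nd (nat_lit 19) (Tr.lf (nat_lit 5)) (Tr.lf (nat_lit 1))) (Tr.nd (nat_lit 21) (Tr.lf (nat_lit 2)) (Tr.lf (nat_lit 2)))) (Tr.nd (nat_lit 24) (Tr.nd (nat_lit 23) (Tr.lf (nat_lit 1)) (Tr.lf (nat_lit 4))) (Tr.nd (nat_lit 25) (Tr.lf (nat_lit 3)) (Tr.nd (nat_lit 26) (Tr.lf (nat_lit 2)) (Tr.lf (nat_lit 6)))))) (Tr.nd (nat_lit 32) (Tr.nd (nat_lit 29) (Tr.nd (nat_lit 28) (Tr.lf (nat_lit 1)) (Tr.lf (nat_lit 0))) (Tr.nd (nat_lit 30) (Tr.lf (nat_lit 0)) (Tr.nd (nat_lit 31) (Tr.lf (nat_lit 2)) (Tr.lf (nat_lit 3))))) (Tr.nd (nat_lit 34) (Tr.nd (nat_lit 33) (Tr.lf (nat_lit 3)) (Tr.lf (nat_lit 1))) (Tr.nd (nat_lit 35) (Tr.lf (nat_lit 5)) (Tr.nd (nat_lit 36) (Tr.lf (nat_lit 6)) (Tr.lf (nat_lit 4)))))))) (Tr.nd (nat_lit 55) (Tr.nd (nat_lit 46) (Tr.nd (nat_lit 41) (Tr.nd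 (nat_lit 39) (Tr.nd (nat_lit 38) (Tr.lf (nat_lit 5)) (Tr.lf (nat_lit 6))) (Tr.nd (nat_lit 40) (Tr.lf (nat_lit 5)) (Tr.lf (nat_lit 4)))) (Tr.nd (nat_lit 43) (Tr.nd (nat_lit 42) (Tr.lf (nat_lit 4)) (Tr.lf (nat_lit 0))) (Tr.nd (nat_lit 44) (Tr.lf (nat_lit 6)) (Tr.nd (nat_lit 45) (Tr.lf (nat_lit 4)) (Tr.lf (nat_lit 4)))))) (Tr.nd (nat_lit 50) (Tr.nd (nat_lit 48) (Tr.nd (nat_lit 47) (Tr.lf (nat_lit 6)) (Tr.lf (nat_lit 3))) (Tr.nd (nat_lit 49) (Tr.lf (nat_lit 6)) (Tr.lf (nat_lit 6)))) (Tr.nd (nat_lit 52) (Tr.nd (nat_lit 51) (Tr.lf (nat_lit 5)) (Tr.lf (nat_lit 0))) (Tr.nd (nat_lit 53) (Tr.lf (nat_lit 6)) (Tr.nd (nat_lit 54) (Tr.lf (nat_lit 0)) (Tr.lf (nat_lit 3))))))) (Tr.nd (nat_lit 64) (Tr.nd (nat_lit 59) (Tr.nd (nat_lit 57) (Tr.nd (nat_lit 56) (Tr.lf (nat_lit 6)) (Tr.lf (nat_lit 5))) (Tr.nd (nat_lit 58) (Tr.lf (nat_lit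 0)) (Tr.lf (nat_lit 4)))) (Tr.nd (nat_lit 61) (Tr.nd (nat_lit 60) (Tr.lf (nat_lit 0)) (Tr.lf (nat_lit 2))) (Tr.nd (nat_lit 62) (Tr.lf (nat_lit 1)) (Tr.nd (nat_lit 63) (Tr.lf (nat_lit 4)) (Tr.lf (nat_lit 6)))))) (Tr.nd (nat_lit 69) (Tr.nd (nat_lit 66) (Tr.nd (nat_lit 65) (Tr.lf (nat_lit 1)) (Tr.lf (nat_lit 1))) (Tr.nd (nat_lit 67) (Tr.lf (nat_lit 4)) (Tr.nd (nat_lit 68) (Tr.lf (nat_lit 2)) (Tr.lf (nat_lit 5))))) (Tr.nd (nat_lit 71) (Tr.nd (nat_lit 70) (Tr.lf (nat_lit 5)) (Tr.lf (nat_lit 6))) (Tr.nd (nat_lit 72) (Tr.lf (nat_lit 4)) (Tr.nd (nat_lit 73) (Tr.lf (nat_lit 3)) (Tr.lf (nat_lit 2))))))))) (Tr.nd (nat_lit 111) (Tr.nd (nat_lit 92) (Tr.nd (nat_lit 83) (Tr.nd (nat_lit 78) (Tr.nd (nat_lit 76) (Tr.nd (nat_lit 75) (Tr.lf (nat_lit 2)) (Tr.lf (nat_lit 2))) (Tr.nd (nat_lit 77) (Tr.lf (nat_lit 2)) (Tr.lf (nat_lit 5))))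 (Tr.nd (nat_lit 80) (Tr.nd (nat_lit 79) (Tr.lf (nat_lit 2)) (Tr.lf (nat_lit 2))) (Tr.nd (nat_lit 81) (Tr.lf (nat_lit 3)) (Tr.nd (nat_lit 82) (Tr.lf (nat_lit 2)) (Tr.lf (nat_lit 3)))))) (Tr.nd (nat_lit 87) (Tr.nd (nat_lit 85) (Tr.nd (nat_lit 84) (Tr.lf (nat_lit 2)) (Tr.lf (nat_lit 4))) (Tr.nd (nat_lit 86) (Tr.lf (nat_lit 2)) (Tr.lf (nat_lit 0)))) (Tr.nd (nat_lit 89) (Tr.nd (nat_lit 88) (Tr.lf (nat_lit 5)) (Tr.lf (nat_lit 1))) (Tr.nd (nat_lit 90) (Tr.lf (nat_lit 4)) (Tr.nd (nat_lit 91) (Tr.lf (nat_lit 2)) (Tr.lf (nat_lit 2))))))) (Tr.nd (nat_lit 101) (Tr.nd (nat_lit 96) (Tr.nd (nat_lit 94) (Tr.nd (nat_lit 93) (Tr.lf (nat_lit 1)) (Tr.lf (nat_lit 3))) (Tr.nd (nat_lit 95) (Tr.lf (nat_lit 6)) (Tr.lf (nat_lit 6)))) (Tr.nd (nat_lit 98) (Tr.nd (nat_lit 97) (Tr.lf (nat_lit 5)) (Tr.lf (nat_lit 5))) (Tr.nd (nat_lit 99) (Tr.lf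 (nat_lit 5)) (Tr.nd (nat_lit 100) (Tr.lf (nat_lit 2)) (Tr.lf (nat_lit 2)))))) (Tr.nd (nat_lit 106) (Tr.nd (nat_lit 103) (Tr.nd (nat_lit 102) (Tr.lf (nat_lit 5)) (Tr.lf (nat_lit 2))) (Tr.nd (nat_lit 104) (Tr.lf (nat_lit 4)) (Tr.nd (nat_lit 105) (Tr.lf (nat_lit 5)) (Tr.lf (nat_lit 4))))) (Tr.nd (nat_lit 108) (Tr.nd (nat_lit 107) (Tr.lf (nat_lit 4)) (Tr.lf (nat_lit 5))) (Tr.nd (nat_lit 109) (Tr.lf (nat_lit 3)) (Tr.nd (nat_lit 110) (Tr.lf (nat_lit 0)) (Tr.lf (nat_lit 0)))))))) (Tr.nd (nat_lit 129) (Tr.nd (nat_lit 120) (Tr.nd (nat_lit 115) (Tr.nd (nat_lit 113) (Tr.nd (nat_lit 112) (Tr.lf (nat_lit 3)) (Tr.lf (nat_lit 2))) (Tr.nd (nat_lit 114) (Tr.lf (nat_lit 1)) (Tr.lf (nat_lit 2)))) (Tr.nd (nat_lit 117) (Tr.nd (nat_lit 116) (Tr.lf (nat_lit 6)) (Tr.lf (nat_lit 0))) (Tr.nd (nat_lit 118) (Tr.lf (nat_lit 5)) (Tr.nd (nat_lit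 119) (Tr.lf (nat_lit 0)) (Tr.lf (nat_lit 6)))))) (Tr.nd (nat_lit 124) (Tr.nd (nat_lit 122) (Tr.nd (nat_lit 121) (Tr.lf (nat_lit 4)) (Tr.lf (nat_lit 4))) (Tr.nd (nat_lit 123) (Tr.lf (nat_lit 1)) (Tr.lf (nat_lit 0)))) (Tr.nd (nat_lit 126) (Tr.nd (nat_lit 125) (Tr.lf (nat_lit 0)) (Tr.lf (nat_lit 6))) (Tr.nd (nat_lit 127) (Tr.lf (nat_lit 1)) (Tr.nd (nat_lit 128) (Tr.lf (nat_lit 0)) (Tr.lf (nat_lit 5))))))) (Tr.nd (nat_lit 138) (Tr.nd (nat_lit 133) (Tr.nd (nat_lit 131) (Tr.nd (nat_lit 130) (Tr.lf (nat_lit 6)) (Tr.lf (nat_lit 5))) (Tr.nd (nat_lit 132) (Tr.lf (nat_lit 2)) (Tr.lf (nat_lit 5)))) (Tr.nd (nat_lit 135) (Tr.nd (nat_lit 134) (Tr.lf (nat_lit 5)) (Tr.lf (nat_lit 5))) (Tr.nd (nat_lit 136) (Tr.lf (nat_lit 2)) (Tr.nd (nat_lit 137) (Tr.lf (nat_lit 0)) (Tr.lf (nat_lit 1)))))) (Tr.nd (nat_lit 143) (Tr.nd (nat_lit 140)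 (Tr.nd (nat_lit 139) (Tr.lf (nat_lit 1)) (Tr.lf (nat_lit 0))) (Tr.nd (nat_lit 141) (Tr.lf (nat_lit 4)) (Tr.nd (nat_lit 142) (Tr.lf (nat_lit 2)) (Tr.lf (nat_lit 3))))) (Tr.nd (nat_lit 145) (Tr.nd (nat_lit 144) (Tr.lf (nat_lit 3)) (Tr.lf (nat_lit 6))) (Tr.nd (nat_lit 146) (Tr.lf (nat_lit 3)) (Tr.nd (nat_lit 147) (Tr.lf (nat_lit 0)) (Tr.lf (nat_lit 1)))))))))) (Tr.nd (nat_lit 222) (Tr.nd (nat_lit 185) (Tr.nd (nat_lit 166) (Tr.nd (nat_lit 157) (Tr.nd (nat_lit 152) (Tr.nd (nat_lit 150) (Tr.nd (nat_lit 149) (Tr.lf (nat_lit 5)) (Tr.lf (nat_lit 5))) (Tr.nd (nat_lit 151) (Tr.lf (nat_lit 0)) (Tr.lf (nat_lit 0)))) (Tr.nd (nat_lit 154) (Tr.nd (nat_lit 153) (Tr.lf (nat_lit 5)) (Tr.lf (nat_lit 1))) (Tr.nd (nat_lit 155) (Tr.lf (nat_lit 6)) (Tr.nd (nat_lit 156) (Tr.lf (nat_lit 5)) (Tr.lf (nat_lit 2)))))) (Tr.nd (nat_lit 161) (Tr.nd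 (nat_lit 159) (Tr.nd (nat_lit 158) (Tr.lf (nat_lit 0)) (Tr.lf (nat_lit 4))) (Tr.nd (nat_lit 160) (Tr.lf (nat_lit 5)) (Tr.lf (nat_lit 0)))) (Tr.nd (nat_lit 163) (Tr.nd (nat_lit 162) (Tr.lf (nat_lit 3)) (Tr.lf (nat_lit 5))) (Tr.nd (nat_lit 164) (Tr.lf (nat_lit 1)) (Tr.nd (nat_lit 165) (Tr.lf (nat_lit 5)) (Tr.lf (nat_lit 4))))))) (Tr.nd (nat_lit 175) (Tr.nd (nat_lit 170) (Tr.nd (nat_lit 168) (Tr.nd (nat_lit 167) (Tr.lf (nat_lit 6)) (Tr.lf (nat_lit 1))) (Tr.nd (nat_lit 169) (Tr.lf (nat_lit 5)) (Tr.lf (nat_lit 1)))) (Tr.nd (nat_lit 172) (Tr.nd (nat_lit 171) (Tr.lf (nat_lit 5)) (Tr.lf (nat_lit 0))) (Tr.nd (nat_lit 173) (Tr.lf (nat_lit 1)) (Tr.nd (nat_lit 174) (Tr.lf (nat_lit 4)) (Tr.lf (nat_lit 6)))))) (Tr.nd (nat_lit 180) (Tr.nd (nat_lit 177) (Tr.nd (nat_lit 176) (Tr.lf (nat_lit 1)) (Tr.lf (nat_lit 1))) (Tr.nd (nat_lit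 178) (Tr.lf (nat_lit 5)) (Tr.nd (nat_lit 179) (Tr.lf (nat_lit 0)) (Tr.lf (nat_lit 2))))) (Tr.nd (nat_lit 182) (Tr.nd (nat_lit 181) (Tr.lf (nat_lit 1)) (Tr.lf (nat_lit 5))) (Tr.nd (nat_lit 183) (Tr.lf (nat_lit 4)) (Tr.nd (nat_lit 184) (Tr.lf (nat_lit 4)) (Tr.lf (nat_lit 3)))))))) (Tr.nd (nat_lit 203) (Tr.nd (nat_lit 194) (Tr.nd (nat_lit 189) (Tr.nd (nat_lit 187) (Tr.nd (nat_lit 186) (Tr.lf (nat_lit 3)) (Tr.lf (nat_lit 3))) (Tr.nd (nat_lit 188) (Tr.lf (nat_lit 5)) (Tr.lf (nat_lit 6)))) (Tr.nd (nat_lit 191) (Tr.nd (nat_lit 190) (Tr.lf (nat_lit 1)) (Tr.lf (nat_lit 5))) (Tr.nd (nat_lit 192) (Tr.lf (nat_lit 1)) (Tr.nd (nat_lit 193) (Tr.lf (nat_lit 2)) (Tr.lf (nat_lit 3)))))) (Tr.nd (nat_lit 198) (Tr.nd (nat_lit 196) (Tr.nd (nat_lit 195) (Tr.lf (nat_lit 0)) (Tr.lf (nat_lit 0))) (Tr.nd (nat_lit 197) (Tr.lf (nat_lit 3)) (Tr.lf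 (nat_lit 3)))) (Tr.nd (nat_lit 200) (Tr.nd (nat_lit 199) (Tr.lf (nat_lit 3)) (Tr.lf (nat_lit 1))) (Tr.nd (nat_lit 201) (Tr.lf (nat_lit 6)) (Tr.nd (nat_lit 202) (Tr.lf (nat_lit 6)) (Tr.lf (nat_lit 1))))))) (Tr.nd (nat_lit 212) (Tr.nd (nat_lit 207) (Tr.nd (nat_lit 205) (Tr.nd (nat_lit 204) (Tr.lf (nat_lit 0)) (Tr.lf (nat_lit 3))) (Tr.nd (nat_lit 206) (Tr.lf (nat_lit 2)) (Tr.lf (nat_lit 6)))) (Tr.nd (nat_lit 209) (Tr.nd (nat_lit 208) (Tr.lf (nat_lit 2)) (Tr.lf (nat_lit 1))) (Tr.nd (nat_lit 210) (Tr.lf (nat_lit 1)) (Tr.nd (nat_lit 211) (Tr.lf (nat_lit 6)) (Tr.lf (nat_lit 6)))))) (Tr.nd (nat_lit 217) (Tr.nd (nat_lit 214) (Tr.nd (nat_lit 213) (Tr.lf (nat_lit 1)) (Tr.lf (nat_lit 1))) (Tr.nd (nat_lit 215) (Tr.lf (nat_lit 2)) (Tr.nd (nat_lit 216) (Tr.lf (nat_lit 2)) (Tr.lf (nat_lit 6))))) (Tr.nd (nat_lit 219) (Tr.nd (nat_lit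 218) (Tr.lf (nat_lit 5)) (Tr.lf (nat_lit 6))) (Tr.nd (nat_lit 220) (Tr.lf (nat_lit 5)) (Tr.nd (nat_lit 221) (Tr.lf (nat_lit 0)) (Tr.lf (nat_lit 1))))))))) (Tr.nd (nat_lit 259) (Tr.nd (nat_lit 240) (Tr.nd (nat_lit 231) (Tr.nd (nat_lit 226) (Tr.nd (nat_lit 224) (Tr.nd (nat_lit 223) (Tr.lf (nat_lit 2)) (Tr.lf (nat_lit 2))) (Tr.nd (nat_lit 225) (Tr.lf (nat_lit 3)) (Tr.lf (nat_lit 2)))) (Tr.nd (nat_lit 228) (Tr.nd (nat_lit 227) (Tr.lf (nat_lit 1)) (Tr.lf (nat_lit 2))) (Tr.nd (nat_lit 229) (Tr.lf (nat_lit 5)) (Tr.nd (nat_lit 230) (Tr.lf (nat_lit 2)) (Tr.lf (nat_lit 3)))))) (Tr.nd (nat_lit 235) (Tr.nd (nat_lit 233) (Tr.nd (nat_lit 232) (Tr.lf (nat_lit 0)) (Tr.lf (nat_lit 6))) (Tr.nd (nat_lit 234) (Tr.lf (nat_lit 0)) (Tr.lf (nat_lit 5)))) (Tr.nd (nat_lit 237) (Tr.nd (nat_lit 236) (Tr.lf (nat_lit 6)) (Tr.lf (nat_lit 3)))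 (Tr.nd (nat_lit 238) (Tr.lf (nat_lit 5)) (Tr.nd (nat_lit 239) (Tr.lf (nat_lit 2)) (Tr.lf (nat_lit 4))))))) (Tr.nd (nat_lit 249) (Tr.nd (nat_lit 244) (Tr.nd (nat_lit 242) (Tr.nd (nat_lit 241) (Tr.lf (nat_lit 2)) (Tr.lf (nat_lit 3))) (Tr.nd (nat_lit 243) (Tr.lf (nat_lit 2)) (Tr.lf (nat_lit 0)))) (Tr.nd (nat_lit 246) (Tr.nd (nat_lit 245) (Tr.lf (nat_lit 2)) (Tr.lf (nat_lit 6))) (Tr.nd (nat_lit 247) (Tr.lf (nat_lit 2)) (Tr.nd (nat_lit 248) (Tr.lf (nat_lit 5)) (Tr.lf (nat_lit 1)))))) (Tr.nd (nat_lit 254) (Tr.nd (nat_lit 251) (Tr.nd (nat_lit 250) (Tr.lf (nat_lit 1)) (Tr.lf (nat_lit 1))) (Tr.nd (nat_lit 252) (Tr.lf (nat_lit 5)) (Tr.nd (nat_lit 253) (Tr.lf (nat_lit 0)) (Tr.lf (nat_lit 3))))) (Tr.nd (nat_lit 256) (Tr.nd (nat_lit 255) (Tr.lf (nat_lit 6)) (Tr.lf (nat_lit 2))) (Tr.nd (nat_lit 257) (Tr.lf (nat_lit 2)) (Tr.nd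 (nat_lit 258) (Tr.lf (nat_lit 1)) (Tr.lf (nat_lit 3)))))))) (Tr.nd (nat_lit 277) (Tr.nd (nat_lit 268) (Tr.nd (nat_lit 263) (Tr.nd (nat_lit 261) (Tr.nd (nat_lit 260) (Tr.lf (nat_lit 2)) (Tr.lf (nat_lit 2))) (Tr.nd (nat_lit 262) (Tr.lf (nat_lit 3)) (Tr.lf (nat_lit 2)))) (Tr.nd (nat_lit 265) (Tr.nd (nat_lit 264) (Tr.lf (nat_lit 3)) (Tr.lf (nat_lit 3))) (Tr.nd (nat_lit 266) (Tr.lf (nat_lit 2)) (Tr.nd (nat_lit 267) (Tr.lf (nat_lit 2)) (Tr.lf (nat_lit 1)))))) (Tr.nd (nat_lit 272) (Tr.nd (nat_lit 270) (Tr.nd (nat_lit 269) (Tr.lf (nat_lit 2)) (Tr.lf (nat_lit 3))) (Tr.nd (nat_lit 271) (Tr.lf (nat_lit 2)) (Tr.lf (nat_lit 1)))) (Tr.nd (nat_lit 274) (Tr.nd (nat_lit 273) (Tr.lf (nat_lit 1)) (Tr.lf (nat_lit 1))) (Tr.nd (nat_lit 275) (Tr.lf (nat_lit 2)) (Tr.nd (nat_lit 276) (Tr.lf (nat_lit 2)) (Tr.lf (nat_lit 3))))))) (Tr.nd (nat_lit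 286) (Tr.nd (nat_lit 281) (Tr.nd (nat_lit 279) (Tr.nd (nat_lit 278) (Tr.lf (nat_lit 4)) (Tr.lf (nat_lit 1))) (Tr.nd (nat_lit 280) (Tr.lf (nat_lit 5)) (Tr.lf (nat_lit 1)))) (Tr.nd (nat_lit 283) (Tr.nd (nat_lit 282) (Tr.lf (nat_lit 1)) (Tr.lf (nat_lit 0))) (Tr.nd (nat_lit 284) (Tr.lf (nat_lit 3)) (Tr.nd (nat_lit 285) (Tr.lf (nat_lit 2)) (Tr.lf (nat_lit 1)))))) (Tr.nd (nat_lit 291) (Tr.nd (nat_lit 288) (Tr.nd (nat_lit 287) (Tr.lf (nat_lit 3)) (Tr.lf (nat_lit 0))) (Tr.nd (nat_lit 289) (Tr.lf (nat_lit 3)) (Tr.nd (nat_lit 290) (Tr.lf (nat_lit 4)) (Tr.lf (nat_lit 3))))) (Tr.nd (nat_lit 293) (Tr.nd (nat_lit 292) (Tr.lf (nat_lit 5)) (Tr.lf (nat_lit 0))) (Tr.nd (nat_lit 294) (Tr.lf (nat_lit 2)) (Tr.nd (nat_lit 295) (Tr.lf (nat_lit 0)) (Tr.lf (nat_lit 5)))))))))))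
theorem mini4_alt : Tr.all (altChk idx inv RW (SW4)) mini4A = true := by decide +kernel
theorem mini4_chk : Tr.all (chkFc idx inv mini4S mini4A (fun b => Tr.find b mini4P) (fun b => Tr.find b mini4Q)) mini4S = true := by decide +kernel
theorem mini4_run : runM idx inv mini4S 692 0 [Mv.f (nat_lit 3), Mv.f (nat_lit 4), Mv.f (nat_lit 14), Mv.f (nat_lit 15), Mv.f (nat_lit 41), Mv.f (nat_lit 43), Mv.f (nat_lit 45), Mv.f (nat_lit 47), Mv.f (nat_lit 48), Mv.f (nat_lit 49), Mv.f (nat_lit 50), Mv.f (nat_lit 691), Mv.b (nat_lit 50), Mv.b (nat_lit 49), Mv.b (nat_lit 48), Mv.b (nat_lit 47), Mv.b (nat_lit 45), Mv.b (nat_lit 43), Mv.b (nat_lit 41), Mv.b (nat_lit 15), Mv.b (nat_lit 14), Mv.b (nat_lit 4), Mv.b (nat_lit 3)] [Col.g, Col.b, Col.c, Col.d, Col.c, Col.b, Col.e, Col.d, Col.c, Col.g, Col.b, Col.a, Col.b, Col.g, Col.c, Col.d,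 Col.e, Col.b, Col.c, Col.d, Col.c, Col.b, Col.g] 0 = true := by decide +kernel
theorem mini4_fix {G X : Type*} [Group G] [MulAction G X] (g : Col → G) (x0 : X) (hinv : ∀ c, g (inv c) = (g c)⁻¹)
    (hRW : ∀ w ∈ RW, gw g w = 1) (hSW : ∀ w ∈ SW4, gw g w • x0 = x0) : gw g [Col.g, Col.b, Col.c, Col.d, Col.c, Col.b, Col.e, Col.d, Col.c, Col.g, Col.b, Col.a, Col.b, Col.g, Col.c, Col.d, Col.e, Col.b, Col.c, Col.d, Col.c, Col.b, Col.g] • x0 = x0 :=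
  mini_sound g x0 dec hdec hinv
    (fun a ha => altChk_sound g x0 dec hdec hinv hRW hSW ((Tr.all_iff _ _).1 mini4_alt a ha)) mini4_chk mini4_run
noncomputable def mini5S : Tr (Fc Col) := (Tr.nd (nat_lit 428) (Tr.nd (nat_lit 214) (Tr.nd (nat_lit 107) (Tr.nd (nat_lit 53) (Tr.nd (nat_lit 26) (Tr.nd (nat_lit 13) (Tr.nd (nat_lit 6) (Tr.nd (nat_lit 3) (Tr.nd (nat_lit 1) (Tr.lf (Fc.ed (nat_lit 0) (nat_lit 0) Col.b (nat_lit 0) (Dv.sb (nat_lit 0) [] []))) (Tr.nd (nat_lit 2) (Tr.lf (Fc.ed (nat_lit 1) (nat_lit 0) Col.c (nat_lit 0) (Dv.sb (nat_lit 1) [] []))) (Tr.lf (Fc.ed (nat_lit 2) (nat_lit 0) Col.d (nat_lit 0) (Dv.sb (nat_lit 2) [] []))))) (Tr.nd (nat_lit 4) (Tr.lf (Fc.ed (nat_lit 3) (nat_lit 0) Col.e (nat_lit 0) (Dv.sb (nat_lit 3) [] []))) (Tr.nd (nat_lit 5) (Tr.lf (Fc.ed (nat_lit 4) (nat_lit 0) Col.g (nat_lit 1) Dv.df)) (Tr.lf (Fc.ed (nat_lit 5) (nat_lit 1) Col.b (nat_lit 2) Dv.df))))) (Tr.nd (nat_lit 9) (Tr.nd (nat_lit 7) (Tr.lf (Fc.ed (nat_lit 6) (nat_lit 2) Col.a (nat_lit 3) Dv.df)) (Tr.nd (nat_lit 8) (Tr.lf (Fc.ed (nat_lit 7) (nat_lit 3) Col.f (nat_lit 4) Dv.df)) (Tr.lf (Fc.ed (nat_lit 8) (nat_lit 4) Col.b (nat_lit 3) (Dv.sb (nat_lit 4) [Mv.f (nat_lit 4), Mv.f (nat_lit 5), Mv.f (nat_lit 6), Mv.f (nat_lit 7)] [Mv.b (nat_lit 6), Mv.b (nat_lit 5), Mv.b (nat_lit 4)]))))) (Tr.nd (nat_lit 11) (Tr.nd (nat_lit 10) (Tr.lf (Fc.ed (nat_lit 9) (nat_lit 4) Col.c (nat_lit 5) Dv.df)) (Tr.lf (Fc.ed (nat_lit 10) (nat_lit 5) Col.b (nat_lit 6) Dv.df))) (Tr.nd (nat_lit 12) (Tr.lf (Fc.ed (nat_lit 11) (nat_lit 6) Col.a (nat_lit 7) Dv.df)) (Tr.lf (Fc.ed (nat_lit 12) (nat_lit 7) Col.g (nat_lit 8) Dv.df)))))) (Tr.nd (nat_lit 19) (Tr.nd (nat_lit 16) (Tr.nd (nat_lit 14) (Tr.lf (Fc.ed (nat_lit 13) (nat_lit 8) Col.b (nat_lit 9) Dv.df)) (Tr.nd (nat_lit 15) (Tr.lf (Fc.ed (nat_lit 14) (nat_lit 9) Col.c (nat_lit 3) (Dv.sb (nat_lit 5) [Mv.f (nat_lit 4), Mv.f (nat_lit 5), Mv.f (nat_lit 6), Mv.b (nat_lit 8), Mv.f (nat_lit 9), Mv.f (nat_lit 10), Mv.f (nat_lit 11), Mv.f (nat_lit 12), Mv.f (nat_lit 13)] [Mv.b (nat_lit 6), Mv.b (nat_lit 5), Mv.b (nat_lit 4)]))) (Tr.lf (Fc.ed (nat_lit 15) (nat_lit 2) Col.c (nat_lit 10) Dv.df)))) (Tr.nd (nat_lit 17) (Tr.lf (Fc.ed (nat_lit 16) (nat_lit 10) Col.d (nat_lit 11) Dv.df)) (Tr.nd (nat_lit 18) (Tr.lf (Fc.ed (nat_lit 17) (nat_lit 11) Col.f (nat_lit 12) Dv.df)) (Tr.lf (Fc.ed (nat_lit 18) (nat_lit 12) Col.b (nat_lit 13) Dv.df))))) (Tr.nd (nat_lit 22) (Tr.nd (nat_lit 20) (Tr.lf (Fc.ed (nat_lit 19) (nat_lit 13) Col.g (nat_lit 14) Dv.df)) (Tr.nd (nat_lit 21) (Tr.lf (Fc.ed (nat_lit 20) (nat_lit 14) Col.c (nat_lit 13) (Dv.sb (nat_lit 6) [Mv.f (nat_lit 4), Mv.f (nat_lit 5), Mv.f (nat_lit 15), Mv.f (nat_lit 16), Mv.f (nat_lit 17), Mv.f (nat_lit 18), Mv.f (nat_lit 19)] [Mv.b (nat_lit 18), Mv.b (nat_lit 17), Mv.b (nat_lit 16), Mv.b (nat_lit 15), Mv.b (nat_lit 5), Mv.b (nat_lit 4)]))) (Tr.lf (Fc.ed (nat_lit 21) (nat_lit 8) Col.d (nat_lit 15) Dv.df)))) (Tr.nd (nat_lit 24) (Tr.nd (nat_lit 23) (Tr.lf (Fc.ed (nat_lit 22) (nat_lit 15) Col.e (nat_lit 16) Dv.df)) (Tr.lf (Fc.ed (nat_lit 23) (nat_lit 16) Col.g (nat_lit 17) Dv.df))) (Tr.nd (nat_lit 25) (Tr.lf (Fc.ed (nat_lit 24) (nat_lit 17) Col.f (nat_lit 18) Dv.df)) (Tr.lf (Fc.ed (nat_lit 25) (nat_lit 18) Col.b (nat_lit 19) Dv.df))))))) (Tr.nd (nat_lit 39) (Tr.nd (nat_lit 32) (Tr.nd (nat_lit 29) (Tr.nd (nat_lit 27) (Tr.lf (Fc.ed (nat_lit 26) (nat_lit 19) Col.c (nat_lit 20) Dv.df)) (Tr.nd (nat_lit 28) (Tr.lf (Fc.ed (nat_lit 27) (nat_lit 20) Col.d (nat_lit 20) (Dv.sb (nat_lit 7) [Mv.f (nat_lit 4), Mv.f (nat_lit 5), Mv.f (nat_lit 6), Mv.b (nat_lit 14), Mv.b (nat_lit 13), Mv.f (nat_lit 21), Mv.f (nat_lit 22), Mv.f (nat_lit 23), Mv.f (nat_lit 24), Mv.f (nat_lit 25), Mv.f (nat_lit 26)] [Mv.b (nat_lit 26), Mv.b (nat_lit 25), Mv.b (nat_lit 24), Mv.b (nat_lit 23), Mv.b (nat_lit 22), Mv.b (nat_lit 21), Mv.f (nat_lit 13), Mv.f (nat_lit 14), Mv.b (nat_lit 6), Mv.b (nat_lit 5), Mv.b (nat_lit 4)]))) (Tr.lf (Fc.ed (nat_lit 28) (nat_lit 11) Col.c (nat_lit 21) Dv.df)))) (Tr.nd (nat_lit 30) (Tr.lf (Fc.ed (nat_lit 29) (nat_lit 21) Col.b (nat_lit 22) Dv.df)) (Tr.nd (nat_lit 31) (Tr.lf (Fc.ed (nat_lit 30) (nat_lit 22) Col.e (nat_lit 23) Dv.df)) (Tr.lf (Fc.ed (nat_lit 31) (nat_lit 23) Col.d (nat_lit 24) Dv.df))))) (Tr.nd (nat_lit 35) (Tr.nd (nat_lit 33) (Tr.lf (Fc.ed (nat_lit 32) (nat_lit 24) Col.c (nat_lit 25) Dv.df)) (Tr.nd (nat_lit 34) (Tr.lf (Fc.ed (nat_lit 33) (nat_lit 25) Col.g (nat_lit 26) Dv.df)) (Tr.lf (Fc.ed (nat_lit 34) (nat_lit 26) Col.b (nat_lit 27) Dv.df)))) (Tr.nd (nat_lit 37) (Tr.nd (nat_lit 36) (Tr.lf (Fc.ed (nat_lit 35) (nat_lit 27) Col.a (nat_lit 27) (Dv.sb (nat_lit 8) [Mv.f (nat_lit 4), Mv.f (nat_lit 5), Mv.f (nat_lit 15), Mv.f (nat_lit 16), Mv.f (nat_lit 28), Mv.f (nat_lit 29), Mv.f (nat_lit 30), Mv.f (nat_lit 31), Mv.f (nat_lit 32), Mv.f (nat_lit 33), Mv.f (nat_lit 34)] [Mv.b (nat_lit 34), Mv.b (nat_lit 33), Mv.b (nat_lit 32), Mv.b (nat_lit 31), Mv.b (nat_lit 30), Mv.b (nat_lit 29), Mv.b (nat_lit 28), Mv.b (nat_lit 16), Mv.b (nat_lit 15), Mv.b (nat_lit 5), Mv.b (nat_lit 4)]))) (Tr.lf (Fc.ed (nat_lit 36) (nat_lit 10) Col.a (nat_lit 9) (Dv.wd (nat_lit 9) [Mv.f (nat_lit 14), Mv.b (nat_lit 6), Mv.f (nat_lit 15)])))) (Tr.nd (nat_lit 38) (Tr.lf (Fc.ed (nat_lit 37) (nat_lit 5) Col.f (nat_lit 9) (Dv.wd (nat_lit 10) [Mv.f (nat_lit 14), Mv.f (nat_lit 7), Mv.f (nat_lit 9)]))) (Tr.lf (Fc.ed (nat_lit 38) (nat_lit 2) Col.g (nat_lit 2) (Dv.wd (nat_lit 11) [Mv.b (nat_lit 5), Mv.b (nat_lit 4), Mv.f (nat_lit 0), Mv.f (nat_lit 4), Mv.f (nat_lit 5)]))))))) (Tr.nd (nat_lit 46) (Tr.nd (nat_lit 42) (Tr.nd (nat_lit 40) (Tr.lf (Fc.ed (nat_lit 39) (nat_lit 10) Col.g (nat_lit 10) (Dv.wd (nat_lit 12) [Mv.b (nat_lit 15), Mv.f (nat_lit 38), Mv.f (nat_lit 15)]))) (Tr.nd (nat_lit 41) (Tr.lf (Fc.ed (nat_lit 40) (nat_lit 11) Col.g (nat_lit 11) (Dv.wd (nat_lit 13) [Mv.b (nat_lit 16), Mv.f (nat_lit 39), Mv.f (nat_lit 16)]))) (Tr.lf (Fc.ed (nat_lit 41) (nat_lit 21) Col.g (nat_lit 21) (Dv.wd (nat_lit 12) [Mv.b (nat_lit 28), Mv.f (nat_lit 40), Mv.f (nat_lit 28)]))))) (Tr.nd (nat_lit 44) (Tr.nd (nat_lit 43) (Tr.lf (Fc.ed (nat_lit 42) (nat_lit 1) Col.c (nat_lit 1) (Dv.wd (nat_lit 14) [Mv.b (nat_lit 4), Mv.f (nat_lit 1), Mv.f (nat_lit 4)]))) (Tr.lf (Fc.ed (nat_lit 43) (nat_lit 1) Col.d (nat_lit 1) (Dv.wd (nat_lit 15) [Mv.b (nat_lit 4), Mv.f (nat_lit 2), Mv.f (nat_lit 4)])))) (Tr.nd (nat_lit 45) (Tr.lf (Fc.ed (nat_lit 44) (nat_lit 1) Col.e (nat_lit 1) (Dv.wd (nat_lit 16) [Mv.b (nat_lit 4), Mv.f (nat_lit 3), Mv.f (nat_lit 4)]))) (Tr.lf (Fc.ed (nat_lit 45) (nat_lit 2) Col.e (nat_lit 2) (Dv.wd (nat_lit 17) [Mv.b (nat_lit 5), Mv.f (nat_lit 44), Mv.f (nat_lit 5)])))))) (Tr.nd (nat_lit 49) (Tr.nd (nat_lit 47) (Tr.lf (Fc.ed (nat_lit 46) (nat_lit 10) Col.e (nat_lit 10) (Dv.wd (nat_lit 18) [Mv.b (nat_lit 15), Mv.f (nat_lit 45), Mv.f (nat_lit 15)]))) (Tr.nd (nat_lit 48) (Tr.lf (Fc.ed (nat_lit 47) (nat_lit 2) Col.d (nat_lit 2) (Dv.wd (nat_lit 19) [Mv.b (nat_lit 5), Mv.f (nat_lit 43), Mv.f (nat_lit 5)]))) (Tr.lf (Fc.ed (nat_lit 48) (nat_lit 3) Col.d (nat_lit 3) (Dv.wd (nat_lit 20) [Mv.b (nat_lit 6), Mv.f (nat_lit 47), Mv.f (nat_lit 6)]))))) (Tr.nd (nat_lit 51) (Tr.nd (nat_lit 50) (Tr.lf (Fc.ed (nat_lit 49) (nat_lit 10) Col.b (nat_lit 10) (Dv.wd (nat_lit 21) [Mv.b (nat_lit 15), Mv.b (nat_lit 5), Mv.f (nat_lit 42), Mv.f (nat_lit 5), Mv.f (nat_lit 15)]))) (Tr.lf (Fc.ed (nat_lit 50) (nat_lit 11) Col.b (nat_lit 11) (Dv.wd (nat_lit 22) [Mv.b (nat_lit 16), Mv.f (nat_lit 49), Mv.f (nat_lit 16)])))) (Tr.nd (nat_lit 52) (Tr.lf (Fc.ed (nat_lit 51) (nat_lit 22) Col.c (nat_lit 22) (Dv.wd (nat_lit 23) [Mv.b (nat_lit 29), Mv.b (nat_lit 28), Mv.f (nat_lit 50), Mv.f (nat_lit 28), Mv.f (nat_lit 29)]))) (Tr.lf (Fc.ed (nat_lit 52) (nat_lit 23) Col.c (nat_lit 23) (Dv.wd (nat_lit 24) [Mv.b (nat_lit 30), Mv.f (nat_lit 51), Mv.f (nat_lit 30)]))))))))) (Tr.nd (nat_lit 80) (Tr.nd (nat_lit 66) (Tr.nd (nat_lit 59) (Tr.nd (nat_lit 56) (Tr.nd (nat_lit 54) (Tr.lf (Fc.ed (nat_lit 53) (nat_lit 27) Col.f (nat_lit 28) Dv.df)) (Tr.nd (nat_lit 55) (Tr.lf (Fc.ed (nat_lit 54) (nat_lit 28) Col.a (nat_lit 28) (Dv.wd (nat_lit 25) [Mv.b (nat_lit 53), Mv.f (nat_lit 35), Mv.f (nat_lit 53)]))) (Tr.lf (Fc.ed (nat_lit 55) (nat_lit 28) Col.b (nat_lit 29) Dv.df)))) (Tr.nd (nat_lit 57) (Tr.lf (Fc.ed (nat_lit 56) (nat_lit 29) Col.g (nat_lit 30) Dv.df)) (Tr.nd (nat_lit 58) (Tr.lf (Fc.ed (nat_lit 57) (nat_lit 30) Col.b (nat_lit 31) Dv.df)) (Tr.lf (Fc.ed (nat_lit 58) (nat_lit 31) Col.c (nat_lit 32) Dv.df))))) (Tr.nd (nat_lit 62) (Tr.nd (nat_lit 60) (Tr.lf (Fc.ed (nat_lit 59) (nat_lit 32) Col.d (nat_lit 33) Dv.df)) (Tr.nd (nat_lit 61) (Tr.lf (Fc.ed (nat_lit 60) (nat_lit 9) Col.d (nat_lit 34) Dv.df)) (Tr.lf (Fc.ed (nat_lit 61) (nat_lit 34) Col.a (nat_lit 11) (Dv.wd (nat_lit 26) [Mv.b (nat_lit 16), Mv.f (nat_lit 36), Mv.f (nat_lit 60)]))))) (Tr.nd (nat_lit 64) (Tr.nd (nat_lit 63) (Tr.lf (Fc.ed (nat_lit 62) (nat_lit 34) Col.b (nat_lit 15) (Dv.wd (nat_lit 27) [Mv.b (nat_lit 21), Mv.f (nat_lit 13), Mv.f (nat_lit 60)]))) (Tr.lf (Fc.ed (nat_lit 63) (nat_lit 5) Col.g (nat_lit 35) Dv.df))) (Tr.nd (nat_lit 65) (Tr.lf (Fc.ed (nat_lit 64) (nat_lit 35) Col.f (nat_lit 10) (Dv.wd (nat_lit 28) [Mv.f (nat_lit 39), Mv.f (nat_lit 36), Mv.b (nat_lit 37), Mv.f (nat_lit 63)]))) (Tr.lf (Fc.ed (nat_lit 65) (nat_lit 12) Col.d (nat_lit 35) (Dv.wd (nat_lit 29) [Mv.f (nat_lit 64), Mv.f (nat_lit 16), Mv.f (nat_lit 17)]))))))) (Tr.nd (nat_lit 73) (Tr.nd (nat_lit 69) (Tr.nd (nat_lit 67) (Tr.lf (Fc.ed (nat_lit 66) (nat_lit 6) Col.d (nat_lit 36) Dv.df)) (Tr.nd (nat_lit 68) (Tr.lf (Fc.ed (nat_lit 67) (nat_lit 5) Col.d (nat_lit 37) Dv.df)) (Tr.lf (Fc.ed (nat_lit 68) (nat_lit 37) Col.b (nat_lit 36) (Dv.wd (nat_lit 27) [Mv.b (nat_lit 66), Mv.b (nat_lit 10), Mv.f (nat_lit 67)]))))) (Tr.nd (nat_lit 71) (Tr.nd (nat_lit 70) (Tr.lf (Fc.ed (nat_lit 69) (nat_lit 37) Col.f (nat_lit 34) (Dv.wd (nat_lit 30) [Mv.b (nat_lit 60), Mv.b (nat_lit 37), Mv.f (nat_lit 67)]))) (Tr.lf (Fc.ed (nat_lit 70) (nat_lit 37) Col.g (nat_lit 12) (Dv.wd (nat_lit 13) [Mv.f (nat_lit 65), Mv.b (nat_lit 63), Mv.f (nat_lit 67)])))) (Tr.nd (nat_lit 72) (Tr.lf (Fc.ed (nat_lit 71) (nat_lit 15) Col.g (nat_lit 38) Dv.df)) (Tr.lf (Fc.ed (nat_lit 72) (nat_lit 38) Col.d (nat_lit 7) (Dv.wd (nat_lit 15) [Mv.f (nat_lit 12), Mv.f (nat_lit 21), Mv.f (nat_lit 71)])))))) (Tr.nd (nat_lit 76) (Tr.nd (nat_lit 74) (Tr.lf (Fc.ed (nat_lit 73) (nat_lit 38) Col.e (nat_lit 17) (Dv.wd (nat_lit 16) [Mv.b (nat_lit 23), Mv.b (nat_lit 22), Mv.f (nat_lit 71)]))) (Tr.nd (nat_lit 75) (Tr.lf (Fc.ed (nat_lit 74) (nat_lit 36) Col.a (nat_lit 38) (Dv.wd (nat_lit 31) [Mv.f (nat_lit 72), Mv.b (nat_lit 11), Mv.f (nat_lit 66)]))) (Tr.lf (Fc.ed (nat_lit 75) (nat_lit 11) Col.e (nat_lit 39) Dv.df)))) (Tr.nd (nat_lit 78) (Tr.nd (nat_lit 77) (Tr.lf (Fc.ed (nat_lit 76) (nat_lit 39) Col.d (nat_lit 39) (Dv.wd (nat_lit 32) [Mv.b (nat_lit 75), Mv.b (nat_lit 16), Mv.f (nat_lit 46), Mv.f (nat_lit 16), Mv.f (nat_lit 75)]))) (Tr.lf (Fc.ed (nat_lit 77) (nat_lit 17) Col.c (nat_lit 40) Dv.df))) (Tr.nd (nat_lit 79) (Tr.lf (Fc.ed (nat_lit 78) (nat_lit 17) Col.a (nat_lit 41) Dv.df)) (Tr.lf (Fc.ed (nat_lit 79) (nat_lit 41) Col.e (nat_lit 36) (Dv.wd (nat_lit 33) [Mv.f (nat_lit 74), Mv.f (nat_lit 73), Mv.f (nat_lit 78)])))))))) (Tr.nd (nat_lit 93) (Tr.nd (nat_lit 86) (Tr.nd (nat_lit 83) (Tr.nd (nat_lit 81) (Tr.lf (Fc.ed (nat_lit 80) (nat_lit 15) Col.f (nat_lit 42) Dv.df)) (Tr.nd (nat_lit 82) (Tr.lf (Fc.ed (nat_lit 81) (nat_lit 20) Col.b (nat_lit 43) Dv.df)) (Tr.lf (Fc.ed (nat_lit 82) (nat_lit 43) Col.d (nat_lit 43) (Dv.wd (nat_lit 19) [Mv.b (nat_lit 81), Mv.f (nat_lit 27), Mv.f (nat_lit 81)]))))) (Tr.nd (nat_lit 84) (Tr.lf (Fc.ed (nat_lit 83) (nat_lit 16) Col.b (nat_lit 44) Dv.df)) (Tr.nd (nat_lit 85) (Tr.lf (Fc.ed (nat_lit 84) (nat_lit 44) Col.e (nat_lit 34) (Dv.wd (nat_lit 17) [Mv.f (nat_lit 62), Mv.f (nat_lit 22), Mv.f (nat_lit 83)]))) (Tr.lf (Fc.ed (nat_lit 85) (nat_lit 39) Col.a (nat_lit 44) (Dv.wd (nat_lit 34) [Mv.f (nat_lit 84), Mv.f (nat_lit 61), Mv.f (nat_lit 75)])))))) (Tr.nd (nat_lit 89) (Tr.nd (nat_lit 87) (Tr.lf (Fc.ed (nat_lit 86) (nat_lit 21) Col.a (nat_lit 45) Dv.df)) (Tr.nd (nat_lit 88) (Tr.lf (Fc.ed (nat_lit 87) (nat_lit 45) Col.c (nat_lit 34) (Dv.wd (nat_lit 35) [Mv.f (nat_lit 61), Mv.f (nat_lit 28), Mv.f (nat_lit 86)]))) (Tr.lf (Fc.ed (nat_lit 88) (nat_lit 45) Col.d (nat_lit 21) (Dv.wd (nat_lit 36) [Mv.f (nat_lit 86), Mv.f (nat_lit 87), Mv.b (nat_lit 60), Mv.f (nat_lit 14), Mv.f (nat_lit 48), Mv.b (nat_lit 14), Mv.f (nat_lit 60), Mv.b (nat_lit 87)]))))) (Tr.nd (nat_lit 91) (Tr.nd (nat_lit 90) (Tr.lf (Fc.ed (nat_lit 89) (nat_lit 22) Col.g (nat_lit 46) Dv.df)) (Tr.lf (Fc.ed (nat_lit 90) (nat_lit 46) Col.b (nat_lit 46) (Dv.wd (nat_lit 37) [Mv.b (nat_lit 89), Mv.b (nat_lit 29), Mv.f (nat_lit 41), Mv.f (nat_lit 29), Mv.f (nat_lit 89)])))) (Tr.nd (nat_lit 92) (Tr.lf (Fc.ed (nat_lit 91) (nat_lit 22) Col.d (nat_lit 47) Dv.df)) (Tr.lf (Fc.ed (nat_lit 92) (nat_lit 47) Col.b (nat_lit 45) (Dv.wd (nat_lit 27) [Mv.f (nat_lit 88), Mv.f (nat_lit 29), Mv.f (nat_lit 91)]))))))) (Tr.nd (nat_lit 100) (Tr.nd (nat_lit 96) (Tr.nd (nat_lit 94) (Tr.lf (Fc.ed (nat_lit 93) (nat_lit 16) Col.c (nat_lit 48) Dv.df)) (Tr.nd (nat_lit 95) (Tr.lf (Fc.ed (nat_lit 94) (nat_lit 48) Col.g (nat_lit 40) (Dv.wd (nat_lit 12) [Mv.b (nat_lit 77), Mv.b (nat_lit 23), Mv.f (nat_lit 93)]))) (Tr.lf (Fc.ed (nat_lit 95) (nat_lit 22) Col.a (nat_lit 49) Dv.df)))) (Tr.nd (nat_lit 98) (Tr.nd (nat_lit 97) (Tr.lf (Fc.ed (nat_lit 96) (nat_lit 18) Col.c (nat_lit 50) Dv.df)) (Tr.lf (Fc.ed (nat_lit 97) (nat_lit 50) Col.f (nat_lit 40) (Dv.wd (nat_lit 38) [Mv.b (nat_lit 77), Mv.f (nat_lit 24), Mv.f (nat_lit 96)])))) (Tr.nd (nat_lit 99) (Tr.lf (Fc.ed (nat_lit 98) (nat_lit 16) Col.a (nat_lit 51) Dv.df)) (Tr.lf (Fc.ed (nat_lit 99) (nat_lit 51) Col.g (nat_lit 41) (Dv.wd (nat_lit 39) [Mv.b (nat_lit 78), Mv.b (nat_lit 23), Mv.f (nat_lit 98)])))))) (Tr.nd (nat_lit 103) (Tr.nd (nat_lit 101) (Tr.lf (Fc.ed (nat_lit 100) (nat_lit 15) Col.c (nat_lit 52) Dv.df)) (Tr.nd (nat_lit 102) (Tr.lf (Fc.ed (nat_lit 101) (nat_lit 52) Col.e (nat_lit 48) (Dv.wd (nat_lit 18) [Mv.b (nat_lit 93), Mv.b (nat_lit 22), Mv.f (nat_lit 100)]))) (Tr.lf (Fc.ed (nat_lit 102) (nat_lit 16) Col.f (nat_lit 53) Dv.df)))) (Tr.nd (nat_lit 105) (Tr.nd (nat_lit 104) (Tr.lf (Fc.ed (nat_lit 103) (nat_lit 53) Col.e (nat_lit 42) (Dv.wd (nat_lit 40) [Mv.b (nat_lit 80), Mv.f (nat_lit 22), Mv.f (nat_lit 102)]))) (Tr.lf (Fc.ed (nat_lit 104) (nat_lit 23) Col.b (nat_lit 54) Dv.df))) (Tr.nd (nat_lit 106) (Tr.lf (Fc.ed (nat_lit 105) (nat_lit 54) Col.e (nat_lit 21) (Dv.wd (nat_lit 17) [Mv.f (nat_lit 29), Mv.f (nat_lit 30), Mv.f (nat_lit 104)]))) (Tr.lf (Fc.ed (nat_lit 106) (nat_lit 39) Col.c (nat_lit 54) (Dv.wd (nat_lit 24) [Mv.f (nat_lit 105), Mv.b (nat_lit 28), Mv.f (nat_lit 75)])))))))))) (Tr.nd (nat_lit 160) (Tr.nd (nat_lit 133) (Tr.nd (nat_lit 120) (Tr.nd (nat_lit 113) (Tr.nd (nat_lit 110) (Tr.nd (nat_lit 108) (Tr.lf (Fc.ed (nat_lit 107) (nat_lit 54) Col.g (nat_lit 54) (Dv.wd (nat_lit 41) [Mv.f (nat_lit 105), Mv.f (nat_lit 41), Mv.b (nat_lit 105)]))) (Tr.nd (nat_lit 109) (Tr.lf (Fc.ed (nat_lit 108) (nat_lit 22) Col.f (nat_lit 55) Dv.df)) (Tr.lf (Fc.ed (nat_lit 109) (nat_lit 55) Col.c (nat_lit 55) (Dv.wd (nat_lit 42) [Mv.b (nat_lit 108), Mv.f (nat_lit 51), Mv.f (nat_lit 108)]))))) (Tr.nd (nat_lit 111) (Tr.lf (Fc.ed (nat_lit 110) (nat_lit 18) Col.g (nat_lit 56) Dv.df)) (Tr.nd (nat_lit 112) (Tr.lf (Fc.ed (nat_lit 111) (nat_lit 56) Col.f (nat_lit 51) (Dv.wd (nat_lit 28) [Mv.f (nat_lit 99), Mv.b (nat_lit 78), Mv.f (nat_lit 24), Mv.f (nat_lit 110)]))) (Tr.lf (Fc.ed (nat_lit 112) (nat_lit 56) Col.a (nat_lit 53) (Dv.wd (nat_lit 43) [Mv.b (nat_lit 102), Mv.f (nat_lit 23), Mv.f (nat_lit 24), Mv.f (nat_lit 110)])))))) (Tr.nd (nat_lit 116) (Tr.nd (nat_lit 114) (Tr.lf (Fc.ed (nat_lit 113) (nat_lit 18) Col.e (nat_lit 57) Dv.df)) (Tr.nd (nat_lit 115) (Tr.lf (Fc.ed (nat_lit 114) (nat_lit 57) Col.f (nat_lit 38) (Dv.wd (nat_lit 44) [Mv.f (nat_lit 73), Mv.f (nat_lit 24), Mv.f (nat_lit 113)]))) (Tr.lf (Fc.ed (nat_lit 115) (nat_lit 12) Col.c (nat_lit 58) Dv.df)))) (Tr.nd (nat_lit 118) (Tr.nd (nat_lit 117) (Tr.lf (Fc.ed (nat_lit 116) (nat_lit 58) Col.f (nat_lit 21) (Dv.wd (nat_lit 38) [Mv.b (nat_lit 28), Mv.f (nat_lit 17), Mv.f (nat_lit 115)]))) (Tr.lf (Fc.ed (nat_lit 117) (nat_lit 15) Col.a (nat_lit 59) Dv.df))) (Tr.nd (nat_lit 119) (Tr.lf (Fc.ed (nat_lit 118) (nat_lit 59) Col.g (nat_lit 36) (Dv.wd (nat_lit 39) [Mv.f (nat_lit 74), Mv.b (nat_lit 71), Mv.f (nat_lit 117)]))) (Tr.lf (Fc.ed (nat_lit 119) (nat_lit 14) Col.b (nat_lit 59) (Dv.wd (nat_lit 45) [Mv.f (nat_lit 118), Mv.b (nat_lit 68), Mv.f (nat_lit 70), Mv.f (nat_lit 18), Mv.f (nat_lit 19)]))))))) (Tr.nd (nat_lit 126) (Tr.nd (nat_lit 123) (Tr.nd (nat_lit 121) (Tr.lf (Fc.ed (nat_lit 120) (nat_lit 26) Col.d (nat_lit 60) Dv.df)) (Tr.nd (nat_lit 122) (Tr.lf (Fc.ed (nat_lit 121) (nat_lit 12) Col.e (nat_lit 61) Dv.df)) (Tr.lf (Fc.ed (nat_lit 122) (nat_lit 61) Col.f (nat_lit 39) (Dv.wd (nat_lit 44) [Mv.b (nat_lit 75), Mv.f (nat_lit 17), Mv.f (nat_lit 121)]))))) (Tr.nd (nat_lit 124) (Tr.lf (Fc.ed (nat_lit 123) (nat_lit 18) Col.a (nat_lit 62) Dv.df)) (Tr.nd (nat_lit 125) (Tr.lf (Fc.ed (nat_lit 124) (nat_lit 62) Col.f (nat_lit 41) (Dv.wd (nat_lit 46) [Mv.b (nat_lit 78), Mv.f (nat_lit 24), Mv.f (nat_lit 123)]))) (Tr.lf (Fc.ed (nat_lit 125) (nat_lit 27) Col.e (nat_lit 63) Dv.df))))) (Tr.nd (nat_lit 129) (Tr.nd (nat_lit 127) (Tr.lf (Fc.ed (nat_lit 126) (nat_lit 26) Col.a (nat_lit 64) Dv.df)) (Tr.nd (nat_lit 128) (Tr.lf (Fc.ed (nat_lit 127) (nat_lit 26) Col.e (nat_lit 65) Dv.df)) (Tr.lf (Fc.ed (nat_lit 128) (nat_lit 65) Col.b (nat_lit 63) (Dv.wd (nat_lit 47) [Mv.b (nat_lit 125), Mv.b (nat_lit 34), Mv.f (nat_lit 127)]))))) (Tr.nd (nat_lit 131) (Tr.nd (nat_lit 130) (Tr.lf (Fc.ed (nat_lit 129) (nat_lit 28) Col.g (nat_lit 66) Dv.df)) (Tr.lf (Fc.ed (nat_lit 130) (nat_lit 66) Col.a (nat_lit 66) (Dv.wd (nat_lit 48) [Mv.b (nat_lit 129), Mv.f (nat_lit 54), Mv.f (nat_lit 129)])))) (Tr.nd (nat_lit 132) (Tr.lf (Fc.ed (nat_lit 131) (nat_lit 29) Col.f (nat_lit 67) Dv.df)) (Tr.lf (Fc.ed (nat_lit 132) (nat_lit 27) Col.g (nat_lit 68) Dv.df))))))) (Tr.nd (nat_lit 146) (Tr.nd (nat_lit 139) (Tr.nd (nat_lit 136) (Tr.nd (nat_lit 134) (Tr.lf (Fc.ed (nat_lit 133) (nat_lit 68) Col.f (nat_lit 66) (Dv.wd (nat_lit 28) [Mv.b (nat_lit 129), Mv.f (nat_lit 54), Mv.b (nat_lit 53), Mv.f (nat_lit 132)]))) (Tr.nd (nat_lit 135) (Tr.lf (Fc.ed (nat_lit 134) (nat_lit 24) Col.g (nat_lit 69) Dv.df)) (Tr.lf (Fc.ed (nat_lit 135) (nat_lit 69) Col.c (nat_lit 26) (Dv.wd (nat_lit 14) [Mv.b (nat_lit 33), Mv.b (nat_lit 32), Mv.f (nat_lit 134)]))))) (Tr.nd (nat_lit 137) (Tr.lf (Fc.ed (nat_lit 136) (nat_lit 24) Col.e (nat_lit 70) Dv.df)) (Tr.nd (nat_lit 138) (Tr.lf (Fc.ed (nat_lit 137) (nat_lit 24) Col.b (nat_lit 71) Dv.df)) (Tr.lf (Fc.ed (nat_lit 138) (nat_lit 71) Col.d (nat_lit 54) (Dv.wd (nat_lit 19) [Mv.b (nat_lit 104), Mv.f (nat_lit 31), Mv.f (nat_lit 137)])))))) (Tr.nd (nat_lit 142) (Tr.nd (nat_lit 140) (Tr.lf (Fc.ed (nat_lit 139) (nat_lit 71) Col.g (nat_lit 71) (Dv.wd (nat_lit 49) [Mv.f (nat_lit 138), Mv.f (nat_lit 107), Mv.b (nat_lit 138)]))) (Tr.nd (nat_lit 141) (Tr.lf (Fc.ed (nat_lit 140) (nat_lit 69) Col.b (nat_lit 69) (Dv.wd (nat_lit 50) [Mv.b (nat_lit 134), Mv.f (nat_lit 137), Mv.f (nat_lit 139), Mv.b (nat_lit 137), Mv.f (nat_lit 134)]))) (Tr.lf (Fc.ed (nat_lit 141) (nat_lit 27) Col.c (nat_lit 27) (Dv.wd (nat_lit 23) [Mv.b (nat_lit 34), Mv.b (nat_lit 135), Mv.f (nat_lit 140), Mv.f (nat_lit 135), Mv.f (nat_lit 34)]))))) (Tr.nd (nat_lit 144) (Tr.nd (nat_lit 143) (Tr.lf (Fc.ed (nat_lit 142) (nat_lit 28) Col.d (nat_lit 72) Dv.df)) (Tr.lf (Fc.ed (nat_lit 143) (nat_lit 28) Col.e (nat_lit 73) Dv.df))) (Tr.nd (nat_lit 145) (Tr.lf (Fc.ed (nat_lit 144) (nat_lit 73) Col.f (nat_lit 63) (Dv.wd (nat_lit 44) [Mv.b (nat_lit 125), Mv.f (nat_lit 53), Mv.f (nat_lit 143)]))) (Tr.lf (Fc.ed (nat_lit 145) (nat_lit 24) Col.a (nat_lit 74) Dv.df)))))) (Tr.nd (nat_lit 153) (Tr.nd (nat_lit 149) (Tr.nd (nat_lit 147) (Tr.lf (Fc.ed (nat_lit 146) (nat_lit 31) Col.g (nat_lit 75) Dv.df)) (Tr.nd (nat_lit 148) (Tr.lf (Fc.ed (nat_lit 147) (nat_lit 75) Col.b (nat_lit 66) (Dv.wd (nat_lit 37) [Mv.b (nat_lit 129), Mv.f (nat_lit 55), Mv.f (nat_lit 56), Mv.f (nat_lit 57), Mv.f (nat_lit 146)]))) (Tr.lf (Fc.ed (nat_lit 148) (nat_lit 26) Col.f (nat_lit 76) Dv.df)))) (Tr.nd (nat_lit 151) (Tr.nd (nat_lit 150) (Tr.lf (Fc.ed (nat_lit 149) (nat_lit 76) Col.b (nat_lit 67) (Dv.wd (nat_lit 51) [Mv.b (nat_lit 131), Mv.b (nat_lit 55), Mv.b (nat_lit 53), Mv.b (nat_lit 34), Mv.f (nat_lit 148)]))) (Tr.lf (Fc.ed (nat_lit 150) (nat_lit 23) Col.a (nat_lit 77) Dv.df))) (Tr.nd (nat_lit 152) (Tr.lf (Fc.ed (nat_lit 151) (nat_lit 77) Col.d (nat_lit 74) (Dv.wd (nat_lit 20) [Mv.b (nat_lit 145), Mv.b (nat_lit 31), Mv.f (nat_lit 150)]))) (Tr.lf (Fc.ed (nat_lit 152) (nat_lit 77) Col.e (nat_lit 49) (Dv.wd (nat_lit 33) [Mv.b (nat_lit 95), Mv.f (nat_lit 30), Mv.f (nat_lit 150)])))))) (Tr.nd (nat_lit 156) (Tr.nd (nat_lit 154) (Tr.lf (Fc.ed (nat_lit 153) (nat_lit 25) Col.a (nat_lit 78) Dv.df)) (Tr.nd (nat_lit 155) (Tr.lf (Fc.ed (nat_lit 154) (nat_lit 78) Col.c (nat_lit 74) (Dv.wd (nat_lit 35) [Mv.b (nat_lit 145), Mv.f (nat_lit 32), Mv.f (nat_lit 153)]))) (Tr.lf (Fc.ed (nat_lit 155) (nat_lit 78) Col.g (nat_lit 64) (Dv.wd (nat_lit 39) [Mv.b (nat_lit 126), Mv.b (nat_lit 33), Mv.f (nat_lit 153)]))))) (Tr.nd (nat_lit 158) (Tr.nd (nat_lit 157) (Tr.lf (Fc.ed (nat_lit 156) (nat_lit 27) Col.d (nat_lit 79) Dv.df)) (Tr.lf (Fc.ed (nat_lit 157) (nat_lit 79) Col.a (nat_lit 79) (Dv.wd (nat_lit 26) [Mv.b (nat_lit 156), Mv.f (nat_lit 35), Mv.f (nat_lit 156)])))) (Tr.nd (nat_lit 159) (Tr.lf (Fc.ed (nat_lit 158) (nat_lit 79) Col.b (nat_lit 60) (Dv.wd (nat_lit 27) [Mv.b (nat_lit 120), Mv.f (nat_lit 34), Mv.f (nat_lit 156)]))) (Tr.lf (Fc.ed (nat_lit 159) (nat_lit 79) Col.f (nat_lit 72) (Dv.wd (nat_lit 30) [Mv.b (nat_lit 142), Mv.b (nat_lit 53), Mv.f (nat_lit 156)]))))))))) (Tr.nd (nat_lit 187) (Tr.nd (nat_lit 173) (Tr.nd (nat_lit 166) (Tr.nd (nat_lit 163) (Tr.nd (nat_lit 161) (Tr.lf (Fc.ed (nat_lit 160) (nat_lit 32) Col.g (nat_lit 80) Dv.df)) (Tr.nd (nat_lit 162) (Tr.lf (Fc.ed (nat_lit 161) (nat_lit 80) Col.c (nat_lit 75) (Dv.wd (nat_lit 14) [Mv.b (nat_lit 146), Mv.f (nat_lit 58), Mv.f (nat_lit 160)]))) (Tr.lf (Fc.ed (nat_lit 162) (nat_lit 25) Col.d (nat_lit 81) Dv.df)))) (Tr.nd (nat_lit 164) (Tr.lf (Fc.ed (nat_lit 163) (nat_lit 81) Col.g (nat_lit 60) (Dv.wd (nat_lit 13) [Mv.b (nat_lit 120), Mv.b (nat_lit 33), Mv.f (nat_lit 162)]))) (Tr.nd (nat_lit 165) (Tr.lf (Fc.ed (nat_lit 164) (nat_lit 33) Col.g (nat_lit 82) Dv.df)) (Tr.lf (Fc.ed (nat_lit 165) (nat_lit 82) Col.d (nat_lit 80) (Dv.wd (nat_lit 15) [Mv.b (nat_lit 160), Mv.f (nat_lit 59), Mv.f (nat_lit 164)])))))) (Tr.nd (nat_lit 169) (Tr.nd (nat_lit 167) (Tr.lf (Fc.ed (nat_lit 166) (nat_lit 29) Col.a (nat_lit 83) Dv.df)) (Tr.nd (nat_lit 168) (Tr.lf (Fc.ed (nat_lit 167) (nat_lit 31) Col.a (nat_lit 84) Dv.df)) (Tr.lf (Fc.ed (nat_lit 168) (nat_lit 25) Col.e (nat_lit 85) Dv.df)))) (Tr.nd (nat_lit 171) (Tr.nd (nat_lit 170) (Tr.lf (Fc.ed (nat_lit 169) (nat_lit 85) Col.c (nat_lit 70) (Dv.wd (nat_lit 52) [Mv.b (nat_lit 136), Mv.f (nat_lit 32), Mv.f (nat_lit 168)]))) (Tr.lf (Fc.ed (nat_lit 170) (nat_lit 85) Col.g (nat_lit 65) (Dv.wd (nat_lit 53) [Mv.b (nat_lit 127), Mv.b (nat_lit 33), Mv.f (nat_lit 168)])))) (Tr.nd (nat_lit 172) (Tr.lf (Fc.ed (nat_lit 171) (nat_lit 29) Col.e (nat_lit 86) Dv.df)) (Tr.lf (Fc.ed (nat_lit 172) (nat_lit 86) Col.b (nat_lit 73) (Dv.wd (nat_lit 47) [Mv.b (nat_lit 143), Mv.f (nat_lit 55), Mv.f (nat_lit 171)]))))))) (Tr.nd (nat_lit 180) (Tr.nd (nat_lit 176) (Tr.nd (nat_lit 174) (Tr.lf (Fc.ed (nat_lit 173) (nat_lit 23) Col.g (nat_lit 87) Dv.df)) (Tr.nd (nat_lit 175) (Tr.lf (Fc.ed (nat_lit 174) (nat_lit 87) Col.c (nat_lit 87) (Dv.wd (nat_lit 14) [Mv.b (nat_lit 173), Mv.f (nat_lit 52), Mv.f (nat_lit 173)]))) (Tr.lf (Fc.ed (nat_lit 175) (nat_lit 87) Col.d (nat_lit 69) (Dv.wd (nat_lit 15) [Mv.b (nat_lit 134), Mv.b (nat_lit 31), Mv.f (nat_lit 173)]))))) (Tr.nd (nat_lit 178) (Tr.nd (nat_lit 177) (Tr.lf (Fc.ed (nat_lit 176) (nat_lit 87) Col.e (nat_lit 46) (Dv.wd (nat_lit 16) [Mv.b (nat_lit 89), Mv.f (nat_lit 30), Mv.f (nat_lit 173)]))) (Tr.lf (Fc.ed (nat_lit 177) (nat_lit 23) Col.f (nat_lit 88) Dv.df))) (Tr.nd (nat_lit 179) (Tr.lf (Fc.ed (nat_lit 178) (nat_lit 88) Col.c (nat_lit 88) (Dv.wd (nat_lit 42) [Mv.b (nat_lit 177), Mv.f (nat_lit 52), Mv.f (nat_lit 177)]))) (Tr.lf (Fc.ed (nat_lit 179) (nat_lit 30) Col.f (nat_lit 89) Dv.df))))) (Tr.nd (nat_lit 183) (Tr.nd (nat_lit 181) (Tr.lf (Fc.ed (nat_lit 180) (nat_lit 31) Col.f (nat_lit 90) Dv.df)) (Tr.nd (nat_lit 182) (Tr.lf (Fc.ed (nat_lit 181) (nat_lit 25) Col.f (nat_lit 91) Dv.df)) (Tr.lf (Fc.ed (nat_lit 182) (nat_lit 30) Col.d (nat_lit 92) Dv.df)))) (Tr.nd (nat_lit 185) (Tr.nd (nat_lit 184) (Tr.lf (Fc.ed (nat_lit 183) (nat_lit 25) Col.b (nat_lit 93) Dv.df)) (Tr.lf (Fc.ed (nat_lit 184) (nat_lit 31) Col.d (nat_lit 94) Dv.df))) (Tr.nd (nat_lit 186) (Tr.lf (Fc.ed (nat_lit 185) (nat_lit 94) Col.b (nat_lit 92) (Dv.wd (nat_lit 27) [Mv.b (nat_lit 182), Mv.f (nat_lit 57), Mv.f (nat_lit 184)]))) (Tr.lf (Fc.ed (nat_lit 186) (nat_lit 29) Col.c (nat_lit 95) Dv.df))))))) (Tr.nd (nat_lit 200) (Tr.nd (nat_lit 193) (Tr.nd (nat_lit 190) (Tr.nd (nat_lit 188) (Tr.lf (Fc.ed (nat_lit 187) (nat_lit 29) Col.d (nat_lit 96) Dv.df)) (Tr.nd (nat_lit 189) (Tr.lf (Fc.ed (nat_lit 188) (nat_lit 96) Col.b (nat_lit 72) (Dv.wd (nat_lit 27) [Mv.b (nat_lit 142), Mv.f (nat_lit 55), Mv.f (nat_lit 187)]))) (Tr.lf (Fc.ed (nat_lit 189) (nat_lit 96) Col.g (nat_lit 92) (Dv.wd (nat_lit 13) [Mv.b (nat_lit 182), Mv.b (nat_lit 56), Mv.f (nat_lit 187)]))))) (Tr.nd (nat_lit 191) (Tr.lf (Fc.ed (nat_lit 190) (nat_lit 36) Col.f (nat_lit 97) Dv.df)) (Tr.nd (nat_lit 192) (Tr.lf (Fc.ed (nat_lit 191) (nat_lit 97) Col.a (nat_lit 57) (Dv.wd (nat_lit 25) [Mv.f (nat_lit 114), Mv.b (nat_lit 74), Mv.f (nat_lit 190)]))) (Tr.lf (Fc.ed (nat_lit 192) (nat_lit 97) Col.e (nat_lit 62) (Dv.wd (nat_lit 40) [Mv.f (nat_lit 124), Mv.f (nat_lit 79), Mv.f (nat_lit 190)])))))) (Tr.nd (nat_lit 196) (Tr.nd (nat_lit 194) (Tr.lf (Fc.ed (nat_lit 193) (nat_lit 97) Col.b (nat_lit 42) (Dv.wd (nat_lit 51) [Mv.b (nat_lit 80), Mv.b (nat_lit 62), Mv.b (nat_lit 69), Mv.f (nat_lit 68), Mv.f (nat_lit 190)]))) (Tr.nd (nat_lit 195) (Tr.lf (Fc.ed (nat_lit 194) (nat_lit 53) Col.b (nat_lit 62) (Dv.wd (nat_lit 54) [Mv.b (nat_lit 192), Mv.f (nat_lit 193), Mv.b (nat_lit 103)]))) (Tr.lf (Fc.ed (nat_lit 195) (nat_lit 38) Col.c (nat_lit 98) Dv.df)))) (Tr.nd (nat_lit 198) (Tr.nd (nat_lit 197) (Tr.lf (Fc.ed (nat_lit 196) (nat_lit 98) Col.e (nat_lit 40) (Dv.wd (nat_lit 18) [Mv.b (nat_lit 77), Mv.b (nat_lit 73), Mv.f (nat_lit 195)]))) (Tr.lf (Fc.ed (nat_lit 197) (nat_lit 98) Col.g (nat_lit 52) (Dv.wd (nat_lit 12) [Mv.b (nat_lit 100), Mv.f (nat_lit 71), Mv.f (nat_lit 195)])))) (Tr.nd (nat_lit 199) (Tr.lf (Fc.ed (nat_lit 198) (nat_lit 37) Col.c (nat_lit 99) Dv.df)) (Tr.lf (Fc.ed (nat_lit 199) (nat_lit 99) Col.f (nat_lit 45) (Dv.wd (nat_lit 38) [Mv.f (nat_lit 87), Mv.b (nat_lit 69), Mv.f (nat_lit 198)]))))))) (Tr.nd (nat_lit 207) (Tr.nd (nat_lit 203) (Tr.nd (nat_lit 201) (Tr.lf (Fc.ed (nat_lit 200) (nat_lit 99) Col.g (nat_lit 58) (Dv.wd (nat_lit 12) [Mv.b (nat_lit 115), Mv.b (nat_lit 70), Mv.f (nat_lit 198)]))) (Tr.nd (nat_lit 202) (Tr.lf (Fc.ed (nat_lit 201) (nat_lit 42) Col.c (nat_lit 100) Dv.df)) (Tr.lf (Fc.ed (nat_lit 202) (nat_lit 100) Col.f (nat_lit 52) (Dv.wd (nat_lit 38) [Mv.b (nat_lit 100), Mv.f (nat_lit 80), Mv.f (nat_lit 201)]))))) (Tr.nd (nat_lit 205) (Tr.nd (nat_lit 204) (Tr.lf (Fc.ed (nat_lit 203) (nat_lit 44) Col.c (nat_lit 101) Dv.df)) (Tr.lf (Fc.ed (nat_lit 204) (nat_lit 101) Col.a (nat_lit 54) (Dv.wd (nat_lit 9) [Mv.b (nat_lit 106), Mv.f (nat_lit 85), Mv.f (nat_lit 203)])))) (Tr.nd (nat_lit 206) (Tr.lf (Fc.ed (nat_lit 205) (nat_lit 101) Col.e (nat_lit 45) (Dv.wd (nat_lit 18) [Mv.f (nat_lit 87), Mv.b (nat_lit 84), Mv.f (nat_lit 203)]))) (Tr.lf (Fc.ed (nat_lit 206) (nat_lit 46) Col.f (nat_lit 102) Dv.df))))) (Tr.nd (nat_lit 210) (Tr.nd (nat_lit 208) (Tr.lf (Fc.ed (nat_lit 207) (nat_lit 48) Col.f (nat_lit 103) Dv.df)) (Tr.nd (nat_lit 209) (Tr.lf (Fc.ed (nat_lit 208) (nat_lit 103) Col.c (nat_lit 53) (Dv.wd (nat_lit 42) [Mv.b (nat_lit 102), Mv.f (nat_lit 93), Mv.f (nat_lit 207)]))) (Tr.lf (Fc.ed (nat_lit 209) (nat_lit 46) Col.d (nat_lit 104) Dv.df)))) (Tr.nd (nat_lit 212) (Tr.nd (nat_lit 211) (Tr.lf (Fc.ed (nat_lit 210) (nat_lit 104) Col.g (nat_lit 47) (Dv.wd (nat_lit 13) [Mv.b (nat_lit 91), Mv.f (nat_lit 89), Mv.f (nat_lit 209)]))) (Tr.lf (Fc.ed (nat_lit 211) (nat_lit 40) Col.b (nat_lit 105) Dv.df))) (Tr.nd (nat_lit 213) (Tr.lf (Fc.ed (nat_lit 212) (nat_lit 51) Col.c (nat_lit 106) Dv.df)) (Tr.lf (Fc.ed (nat_lit 213) (nat_lit 106) Col.a (nat_lit 48) (Dv.wd (nat_lit 9) [Mv.b (nat_lit 93), Mv.f (nat_lit 98), Mv.f (nat_lit 212)]))))))))))) (Tr.nd (nat_lit 321) (Tr.nd (nat_lit 267) (Tr.nd (nat_lit 240) (Tr.nd (nat_lit 227) (Tr.nd (nat_lit 220) (Tr.nd (nat_lit 217) (Tr.nd (nat_lit 215) (Tr.lf (Fc.ed (nat_lit 214) (nat_lit 49) Col.f (nat_lit 107) Dv.df)) (Tr.nd (nat_lit 216) (Tr.lf (Fc.ed (nat_lit 215) (nat_lit 107) Col.g (nat_lit 102) (Dv.wd (nat_lit 55) [Mv.b (nat_lit 206), Mv.b (nat_lit 89), Mv.f (nat_lit 95), Mv.f (nat_lit 214)]))) (Tr.lf (Fc.ed (nat_lit 216) (nat_lit 49) Col.b (nat_lit 108) Dv.df)))) (Tr.nd (nat_lit 218) (Tr.lf (Fc.ed (nat_lit 217) (nat_lit 48) Col.b (nat_lit 109) Dv.df)) (Tr.nd (nat_lit 219) (Tr.lf (Fc.ed (nat_lit 218) (nat_lit 43) Col.g (nat_lit 110) Dv.df)) (Tr.lf (Fc.ed (nat_lit 219) (nat_lit 110) Col.d (nat_lit 110) (Dv.wd (nat_lit 15) [Mv.b (nat_lit 218), Mv.f (nat_lit 82), Mv.f (nat_lit 218)])))))) (Tr.nd (nat_lit 223) (Tr.nd (nat_lit 221) (Tr.lf (Fc.ed (nat_lit 220) (nat_lit 50) Col.e (nat_lit 111) Dv.df)) (Tr.nd (nat_lit 222) (Tr.lf (Fc.ed (nat_lit 221) (nat_lit 111) Col.f (nat_lit 98) (Dv.wd (nat_lit 44) [Mv.f (nat_lit 196), Mv.b (nat_lit 97), Mv.f (nat_lit 220)]))) (Tr.lf (Fc.ed (nat_lit 222) (nat_lit 52) Col.a (nat_lit 112) Dv.df)))) (Tr.nd (nat_lit 225) (Tr.nd (nat_lit 224) (Tr.lf (Fc.ed (nat_lit 223) (nat_lit 112) Col.c (nat_lit 59) (Dv.wd (nat_lit 35) [Mv.b (nat_lit 117), Mv.f (nat_lit 100), Mv.f (nat_lit 222)]))) (Tr.lf (Fc.ed (nat_lit 224) (nat_lit 112) Col.e (nat_lit 106) (Dv.wd (nat_lit 33) [Mv.f (nat_lit 213), Mv.b (nat_lit 101), Mv.f (nat_lit 222)])))) (Tr.nd (nat_lit 226) (Tr.lf (Fc.ed (nat_lit 225) (nat_lit 58) Col.b (nat_lit 112) (Dv.wd (nat_lit 56) [Mv.f (nat_lit 223), Mv.b (nat_lit 119), Mv.f (nat_lit 20), Mv.b (nat_lit 18), Mv.f (nat_lit 115)]))) (Tr.lf (Fc.ed (nat_lit 226) (nat_lit 58) Col.e (nat_lit 113) Dv.df)))))) (Tr.nd (nat_lit 233) (Tr.nd (nat_lit 230) (Tr.nd (nat_lit 228) (Tr.lf (Fc.ed (nat_lit 227) (nat_lit 113) Col.b (nat_lit 106) (Dv.wd (nat_lit 47) [Mv.b (nat_lit 224), Mv.b (nat_lit 225), Mv.f (nat_lit 226)]))) (Tr.nd (nat_lit 229) (Tr.lf (Fc.ed (nat_lit 228) (nat_lit 113) Col.c (nat_lit 61) (Dv.wd (nat_lit 52) [Mv.b (nat_lit 121), Mv.f (nat_lit 115), Mv.f (nat_lit 226)]))) (Tr.lf (Fc.ed (nat_lit 229) (nat_lit 113) Col.f (nat_lit 54) (Dv.wd (nat_lit 44) [Mv.f (nat_lit 105), Mv.b (nat_lit 116), Mv.f (nat_lit 226)]))))) (Tr.nd (nat_lit 231) (Tr.lf (Fc.ed (nat_lit 230) (nat_lit 60) Col.c (nat_lit 114) Dv.df)) (Tr.nd (nat_lit 232) (Tr.lf (Fc.ed (nat_lit 231) (nat_lit 114) Col.d (nat_lit 64) (Dv.wd (nat_lit 36) [Mv.b (nat_lit 126), Mv.b (nat_lit 135), Mv.b (nat_lit 175), Mv.f (nat_lit 174), Mv.f (nat_lit 175), Mv.f (nat_lit 135), Mv.f (nat_lit 120), Mv.f (nat_lit 230)]))) (Tr.lf (Fc.ed (nat_lit 232) (nat_lit 114) Col.a (nat_lit 60) (Dv.wd (nat_lit 57) [Mv.b (nat_lit 120), Mv.b (nat_lit 135), Mv.b (nat_lit 175), Mv.f (nat_lit 174), Mv.f (nat_lit 175), Mv.f (nat_lit 135), Mv.f (nat_lit 120), Mv.f (nat_lit 230)])))))) (Tr.nd (nat_lit 236) (Tr.nd (nat_lit 234) (Tr.lf (Fc.ed (nat_lit 233) (nat_lit 52) Col.b (nat_lit 115) Dv.df)) (Tr.nd (nat_lit 235) (Tr.lf (Fc.ed (nat_lit 234) (nat_lit 115) Col.e (nat_lit 109) (Dv.wd (nat_lit 17) [Mv.b (nat_lit 217), Mv.b (nat_lit 101), Mv.f (nat_lit 233)]))) (Tr.lf (Fc.ed (nat_lit 235) (nat_lit 115) Col.c (nat_lit 47) (Dv.wd (nat_lit 58) [Mv.f (nat_lit 92), Mv.f (nat_lit 87), Mv.f (nat_lit 62), Mv.f (nat_lit 100), Mv.f (nat_lit 233)]))))) (Tr.nd (nat_lit 238) (Tr.nd (nat_lit 237) (Tr.lf (Fc.ed (nat_lit 236) (nat_lit 43) Col.c (nat_lit 116) Dv.df)) (Tr.lf (Fc.ed (nat_lit 237) (nat_lit 116) Col.b (nat_lit 50) (Dv.wd (nat_lit 59) [Mv.b (nat_lit 96), Mv.f (nat_lit 25), Mv.f (nat_lit 26), Mv.f (nat_lit 81), Mv.f (nat_lit 236)])))) (Tr.nd (nat_lit 239) (Tr.lf (Fc.ed (nat_lit 238) (nat_lit 63) Col.d (nat_lit 117) Dv.df)) (Tr.lf (Fc.ed (nat_lit 239) (nat_lit 56) Col.c (nat_lit 118) Dv.df))))))) (Tr.nd (nat_lit 253) (Tr.nd (nat_lit 246) (Tr.nd (nat_lit 243) (Tr.nd (nat_lit 241) (Tr.lf (Fc.ed (nat_lit 240) (nat_lit 118) Col.a (nat_lit 103) (Dv.wd (nat_lit 9) [Mv.f (nat_lit 208), Mv.b (nat_lit 112), Mv.f (nat_lit 239)]))) (Tr.nd (nat_lit 242) (Tr.lf (Fc.ed (nat_lit 241) (nat_lit 118) Col.f (nat_lit 106) (Dv.wd (nat_lit 38) [Mv.b (nat_lit 212), Mv.b (nat_lit 111), Mv.f (nat_lit 239)]))) (Tr.lf (Fc.ed (nat_lit 242) (nat_lit 118) Col.g (nat_lit 50) (Dv.wd (nat_lit 12) [Mv.b (nat_lit 96), Mv.f (nat_lit 110), Mv.f (nat_lit 239)]))))) (Tr.nd (nat_lit 244) (Tr.lf (Fc.ed (nat_lit 243) (nat_lit 88) Col.b (nat_lit 118) (Dv.wd (nat_lit 60) [Mv.f (nat_lit 241), Mv.b (nat_lit 227), Mv.f (nat_lit 229), Mv.b (nat_lit 104), Mv.f (nat_lit 177)]))) (Tr.nd (nat_lit 245) (Tr.lf (Fc.al (nat_lit 244) (nat_lit 105) (nat_lit 77) (Dv.wd (nat_lit 61) [Mv.b (nat_lit 150), Mv.f (nat_lit 177), Mv.f (nat_lit 178), Mv.f (nat_lit 243), Mv.f (nat_lit 240), Mv.b (nat_lit 207), Mv.b (nat_lit 93), Mv.f (nat_lit 83), Mv.b (nat_lit 85), Mv.b (nat_lit 122), Mv.b (nat_lit 228), Mv.f (nat_lit 227), Mv.f (nat_lit 213), Mv.f (nat_lit 207), Mv.f (nat_lit 208), Mv.f (nat_lit 194), Mv.b (nat_lit 123), Mv.b (nat_lit 24), Mv.f (nat_lit 77), Mv.f (nat_lit 211)]))) (Tr.lf (Fc.ed (nat_lit 245) (nat_lit 77) Col.b (nat_lit 40) (Dv.wd (nat_lit 62) [Mv.f (nat_lit 211), Mv.f (nat_lit 244)])))))) (Tr.nd (nat_lit 249) (Tr.nd (nat_lit 247) (Tr.lf (Fc.al (nat_lit 246) (nat_lit 98) (nat_lit 108) (Dv.wd (nat_lit 54) [Mv.b (nat_lit 216), Mv.b (nat_lit 152), Mv.f (nat_lit 245), Mv.b (nat_lit 196)]))) (Tr.nd (nat_lit 248) (Tr.lf (Fc.ed (nat_lit 247) (nat_lit 98) Col.b (nat_lit 49) (Dv.wd (nat_lit 62) [Mv.f (nat_lit 216), Mv.b (nat_lit 246)]))) (Tr.lf (Fc.ed (nat_lit 248) (nat_lit 64) Col.f (nat_lit 119) Dv.df)))) (Tr.nd (nat_lit 251) (Tr.nd (nat_lit 250) (Tr.lf (Fc.ed (nat_lit 249) (nat_lit 119) Col.g (nat_lit 91) (Dv.wd (nat_lit 55) [Mv.b (nat_lit 181), Mv.f (nat_lit 33), Mv.f (nat_lit 126), Mv.f (nat_lit 248)]))) (Tr.lf (Fc.ed (nat_lit 250) (nat_lit 60) Col.e (nat_lit 120) Dv.df))) (Tr.nd (nat_lit 252) (Tr.lf (Fc.ed (nat_lit 251) (nat_lit 60) Col.f (nat_lit 121) Dv.df)) (Tr.lf (Fc.ed (nat_lit 252) (nat_lit 121) Col.d (nat_lit 76) (Dv.wd (nat_lit 63) [Mv.b (nat_lit 148), Mv.f (nat_lit 120), Mv.f (nat_lit 251)]))))))) (Tr.nd (nat_lit 260) (Tr.nd (nat_lit 256) (Tr.nd (nat_lit 254) (Tr.lf (Fc.ed (nat_lit 253) (nat_lit 63) Col.g (nat_lit 122) Dv.df)) (Tr.nd (nat_lit 255) (Tr.lf (Fc.ed (nat_lit 254) (nat_lit 68) Col.b (nat_lit 123) Dv.df)) (Tr.lf (Fc.ed (nat_lit 255) (nat_lit 123) Col.g (nat_lit 93) (Dv.wd (nat_lit 11) [Mv.b (nat_lit 183), Mv.f (nat_lit 33), Mv.f (nat_lit 34), Mv.f (nat_lit 132), Mv.f (nat_lit 254)]))))) (Tr.nd (nat_lit 258) (Tr.nd (nat_lit 257) (Tr.lf (Fc.ed (nat_lit 256) (nat_lit 66) Col.d (nat_lit 124) Dv.df)) (Tr.lf (Fc.ed (nat_lit 257) (nat_lit 124) Col.g (nat_lit 72) (Dv.wd (nat_lit 13) [Mv.b (nat_lit 142), Mv.f (nat_lit 129), Mv.f (nat_lit 256)])))) (Tr.nd (nat_lit 259) (Tr.lf (Fc.ed (nat_lit 258) (nat_lit 69) Col.f (nat_lit 125) Dv.df)) (Tr.lf (Fc.ed (nat_lit 259) (nat_lit 125) Col.c (nat_lit 76) (Dv.wd (nat_lit 42) [Mv.b (nat_lit 148), Mv.b (nat_lit 135), Mv.f (nat_lit 258)])))))) (Tr.nd (nat_lit 263) (Tr.nd (nat_lit 261) (Tr.lf (Fc.ed (nat_lit 260) (nat_lit 68) Col.d (nat_lit 126) Dv.df)) (Tr.nd (nat_lit 262) (Tr.lf (Fc.ed (nat_lit 261) (nat_lit 126) Col.g (nat_lit 79) (Dv.wd (nat_lit 13) [Mv.b (nat_lit 156), Mv.f (nat_lit 132), Mv.f (nat_lit 260)]))) (Tr.lf (Fc.ed (nat_lit 262) (nat_lit 64) Col.c (nat_lit 127) Dv.df)))) (Tr.nd (nat_lit 265) (Tr.nd (nat_lit 264) (Tr.lf (Fc.ed (nat_lit 263) (nat_lit 127) Col.g (nat_lit 74) (Dv.wd (nat_lit 12) [Mv.b (nat_lit 154), Mv.f (nat_lit 155), Mv.f (nat_lit 262)]))) (Tr.lf (Fc.ed (nat_lit 264) (nat_lit 65) Col.d (nat_lit 128) Dv.df))) (Tr.nd (nat_lit 266) (Tr.lf (Fc.ed (nat_lit 265) (nat_lit 128) Col.b (nat_lit 117) (Dv.wd (nat_lit 27) [Mv.b (nat_lit 238), Mv.b (nat_lit 128), Mv.f (nat_lit 264)]))) (Tr.lf (Fc.ed (nat_lit 266) (nat_lit 64) Col.b (nat_lit 129) Dv.df)))))))) (Tr.nd (nat_lit 294) (Tr.nd (nat_lit 280) (Tr.nd (nat_lit 273) (Tr.nd (nat_lit 270) (Tr.nd (nat_lit 268) (Tr.lf (Fc.ed (nat_lit 267) (nat_lit 65) Col.f (nat_lit 130) Dv.df)) (Tr.nd (nat_lit 269) (Tr.lf (Fc.ed (nat_lit 268) (nat_lit 130) Col.e (nat_lit 76) (Dv.wd (nat_lit 40) [Mv.b (nat_lit 148), Mv.f (nat_lit 127), Mv.f (nat_lit 267)]))) (Tr.lf (Fc.ed (nat_lit 269) (nat_lit 69) Col.e (nat_lit 131) Dv.df)))) (Tr.nd (nat_lit 271) (Tr.lf (Fc.ed (nat_lit 270) (nat_lit 131) Col.c (nat_lit 65) (Dv.wd (nat_lit 52) [Mv.b (nat_lit 127), Mv.b (nat_lit 135), Mv.f (nat_lit 269)]))) (Tr.nd (nat_lit 272) (Tr.lf (Fc.ed (nat_lit 271) (nat_lit 73) Col.d (nat_lit 132) Dv.df)) (Tr.lf (Fc.ed (nat_lit 272) (nat_lit 132) Col.f (nat_lit 117) (Dv.wd (nat_lit 30) [Mv.b (nat_lit 238), Mv.b (nat_lit 144), Mv.f (nat_lit 271)])))))) (Tr.nd (nat_lit 276) (Tr.nd (nat_lit 274) (Tr.lf (Fc.ed (nat_lit 273) (nat_lit 71) Col.e (nat_lit 133) Dv.df)) (Tr.nd (nat_lit 275) (Tr.lf (Fc.ed (nat_lit 274) (nat_lit 133) Col.b (nat_lit 70) (Dv.wd (nat_lit 47) [Mv.b (nat_lit 136), Mv.f (nat_lit 137), Mv.f (nat_lit 273)]))) (Tr.lf (Fc.ed (nat_lit 275) (nat_lit 133) Col.d (nat_lit 101) (Dv.wd (nat_lit 32) [Mv.f (nat_lit 205), Mv.f (nat_lit 88), Mv.b (nat_lit 105), Mv.b (nat_lit 138), Mv.f (nat_lit 273)]))))) (Tr.nd (nat_lit 278) (Tr.nd (nat_lit 277) (Tr.lf (Fc.ed (nat_lit 276) (nat_lit 71) Col.a (nat_lit 133) (Dv.wd (nat_lit 31) [Mv.f (nat_lit 275), Mv.f (nat_lit 204), Mv.b (nat_lit 138)]))) (Tr.lf (Fc.ed (nat_lit 277) (nat_lit 55) Col.b (nat_lit 134) Dv.df))) (Tr.nd (nat_lit 279) (Tr.lf (Fc.ed (nat_lit 278) (nat_lit 134) Col.f (nat_lit 112) (Dv.wd (nat_lit 64) [Mv.b (nat_lit 225), Mv.f (nat_lit 116), Mv.f (nat_lit 29), Mv.f (nat_lit 108), Mv.f (nat_lit 277)]))) (Tr.lf (Fc.ed (nat_lit 279) (nat_lit 134) Col.a (nat_lit 100) (Dv.wd (nat_lit 65) [Mv.f (nat_lit 202), Mv.b (nat_lit 100), Mv.b (nat_lit 62), Mv.f (nat_lit 61), Mv.f (nat_lit 17), Mv.f (nat_lit 115), Mv.f (nat_lit 225), Mv.b (nat_lit 222), Mv.b (nat_lit 202), Mv.b (nat_lit 201), Mv.b (nat_lit 193), Mv.f (nat_lit 191), Mv.f (nat_lit 114), Mv.f (nat_lit 195), Mv.f (nat_lit 247), Mv.b (nat_lit 95), Mv.f (nat_lit 108), Mv.f (nat_lit 109), Mv.f (nat_lit 277)]))))))) (Tr.nd (nat_lit 287) (Tr.nd (nat_lit 283) (Tr.nd (nat_lit 281) (Tr.lf (Fc.ed (nat_lit 280) (nat_lit 111) Col.g (nat_lit 134) (Dv.wd (nat_lit 66) [Mv.f (nat_lit 279), Mv.f (nat_lit 202), Mv.b (nat_lit 197), Mv.b (nat_lit 221)]))) (Tr.nd (nat_lit 282) (Tr.lf (Fc.ed (nat_lit 281) (nat_lit 72) Col.c (nat_lit 135) Dv.df)) (Tr.lf (Fc.ed (nat_lit 282) (nat_lit 78) Col.f (nat_lit 136) Dv.df)))) (Tr.nd (nat_lit 285) (Tr.nd (nat_lit 284) (Tr.lf (Fc.ed (nat_lit 283) (nat_lit 136) Col.g (nat_lit 76) (Dv.wd (nat_lit 55) [Mv.b (nat_lit 148), Mv.b (nat_lit 33), Mv.f (nat_lit 153), Mv.f (nat_lit 282)]))) (Tr.lf (Fc.ed (nat_lit 284) (nat_lit 75) Col.d (nat_lit 137) Dv.df))) (Tr.nd (nat_lit 286) (Tr.lf (Fc.ed (nat_lit 285) (nat_lit 137) Col.b (nat_lit 124) (Dv.wd (nat_lit 27) [Mv.b (nat_lit 256), Mv.b (nat_lit 147), Mv.f (nat_lit 284)]))) (Tr.lf (Fc.ed (nat_lit 286) (nat_lit 137) Col.g (nat_lit 94) (Dv.wd (nat_lit 13) [Mv.b (nat_lit 184), Mv.f (nat_lit 146), Mv.f (nat_lit 284)])))))) (Tr.nd (nat_lit 290) (Tr.nd (nat_lit 288) (Tr.lf (Fc.ed (nat_lit 287) (nat_lit 72) Col.e (nat_lit 138) Dv.df)) (Tr.nd (nat_lit 289) (Tr.lf (Fc.ed (nat_lit 288) (nat_lit 67) Col.a (nat_lit 139) Dv.df)) (Tr.lf (Fc.ed (nat_lit 289) (nat_lit 139) Col.f (nat_lit 83) (Dv.wd (nat_lit 46) [Mv.b (nat_lit 166), Mv.f (nat_lit 131), Mv.f (nat_lit 288)]))))) (Tr.nd (nat_lit 292) (Tr.nd (nat_lit 291) (Tr.lf (Fc.ed (nat_lit 290) (nat_lit 75) Col.a (nat_lit 140) Dv.df)) (Tr.lf (Fc.ed (nat_lit 291) (nat_lit 140) Col.g (nat_lit 84) (Dv.wd (nat_lit 39) [Mv.b (nat_lit 167), Mv.f (nat_lit 146), Mv.f (nat_lit 290)])))) (Tr.nd (nat_lit 293) (Tr.lf (Fc.ed (nat_lit 292) (nat_lit 78) Col.d (nat_lit 141) Dv.df)) (Tr.lf (Fc.ed (nat_lit 293) (nat_lit 141) Col.g (nat_lit 114) (Dv.wd (nat_lit 13) [Mv.f (nat_lit 231), Mv.b (nat_lit 155), Mv.f (nat_lit 292)])))))))) (Tr.nd (nat_lit 307) (Tr.nd (nat_lit 300) (Tr.nd (nat_lit 297) (Tr.nd (nat_lit 295) (Tr.lf (Fc.ed (nat_lit 294) (nat_lit 141) Col.c (nat_lit 81) (Dv.wd (nat_lit 67) [Mv.b (nat_lit 162), Mv.b (nat_lit 32), Mv.b (nat_lit 31), Mv.f (nat_lit 52), Mv.f (nat_lit 31), Mv.f (nat_lit 145), Mv.b (nat_lit 154), Mv.f (nat_lit 292)]))) (Tr.nd (nat_lit 296) (Tr.lf (Fc.ed (nat_lit 295) (nat_lit 75) Col.f (nat_lit 142) Dv.df)) (Tr.lf (Fc.ed (nat_lit 296) (nat_lit 79) Col.e (nat_lit 143) Dv.df)))) (Tr.nd (nat_lit 298) (Tr.lf (Fc.ed (nat_lit 297) (nat_lit 143) Col.a (nat_lit 143) (Dv.wd (nat_lit 68) [Mv.b (nat_lit 296), Mv.f (nat_lit 157), Mv.f (nat_lit 296)]))) (Tr.nd (nat_lit 299) (Tr.lf (Fc.ed (nat_lit 298) (nat_lit 143) Col.b (nat_lit 120) (Dv.wd (nat_lit 47) [Mv.b (nat_lit 250), Mv.b (nat_lit 158), Mv.f (nat_lit 296)]))) (Tr.lf (Fc.ed (nat_lit 299) (nat_lit 143) Col.f (nat_lit 138) (Dv.wd (nat_lit 44) [Mv.b (nat_lit 287), Mv.b (nat_lit 159), Mv.f (nat_lit 296)])))))) (Tr.nd (nat_lit 303) (Tr.nd (nat_lit 301) (Tr.lf (Fc.ed (nat_lit 300) (nat_lit 77) Col.g (nat_lit 144) Dv.df)) (Tr.nd (nat_lit 302) (Tr.lf (Fc.ed (nat_lit 301) (nat_lit 144) Col.d (nat_lit 127) (Dv.wd (nat_lit 15) [Mv.f (nat_lit 263), Mv.b (nat_lit 151), Mv.f (nat_lit 300)]))) (Tr.lf (Fc.ed (nat_lit 302) (nat_lit 78) Col.b (nat_lit 145) Dv.df)))) (Tr.nd (nat_lit 305) (Tr.nd (nat_lit 304) (Tr.lf (Fc.ed (nat_lit 303) (nat_lit 79) Col.c (nat_lit 146) Dv.df)) (Tr.lf (Fc.ed (nat_lit 304) (nat_lit 71) Col.c (nat_lit 147) Dv.df))) (Tr.nd (nat_lit 306) (Tr.lf (Fc.ed (nat_lit 305) (nat_lit 67) Col.d (nat_lit 148) Dv.df)) (Tr.lf (Fc.ed (nat_lit 306) (nat_lit 148) Col.b (nat_lit 121) (Dv.wd (nat_lit 27) [Mv.f (nat_lit 252), Mv.f (nat_lit 149), Mv.f (nat_lit 305)]))))))) (Tr.nd (nat_lit 314) (Tr.nd (nat_lit 310) (Tr.nd (nat_lit 308) (Tr.lf (Fc.ed (nat_lit 307) (nat_lit 148) Col.f (nat_lit 96) (Dv.wd (nat_lit 30) [Mv.b (nat_lit 187), Mv.f (nat_lit 131), Mv.f (nat_lit 305)]))) (Tr.nd (nat_lit 309) (Tr.lf (Fc.ed (nat_lit 308) (nat_lit 81) Col.b (nat_lit 149) Dv.df)) (Tr.lf (Fc.ed (nat_lit 309) (nat_lit 149) Col.d (nat_lit 93) (Dv.wd (nat_lit 19) [Mv.b (nat_lit 183), Mv.f (nat_lit 162), Mv.f (nat_lit 308)]))))) (Tr.nd (nat_lit 312) (Tr.nd (nat_lit 311) (Tr.lf (Fc.ed (nat_lit 310) (nat_lit 80) Col.a (nat_lit 150) Dv.df)) (Tr.lf (Fc.ed (nat_lit 311) (nat_lit 150) Col.c (nat_lit 140) (Dv.wd (nat_lit 35) [Mv.b (nat_lit 290), Mv.b (nat_lit 161), Mv.f (nat_lit 310)])))) (Tr.nd (nat_lit 313) (Tr.lf (Fc.ed (nat_lit 312) (nat_lit 81) Col.f (nat_lit 151) Dv.df)) (Tr.lf (Fc.ed (nat_lit 313) (nat_lit 85) Col.b (nat_lit 152) Dv.df))))) (Tr.nd (nat_lit 317) (Tr.nd (nat_lit 315) (Tr.lf (Fc.ed (nat_lit 314) (nat_lit 82) Col.c (nat_lit 153) Dv.df)) (Tr.nd (nat_lit 316) (Tr.lf (Fc.ed (nat_lit 315) (nat_lit 84) Col.b (nat_lit 154) Dv.df)) (Tr.lf (Fc.ed (nat_lit 316) (nat_lit 83) Col.d (nat_lit 155) Dv.df)))) (Tr.nd (nat_lit 319) (Tr.nd (nat_lit 318) (Tr.lf (Fc.ed (nat_lit 317) (nat_lit 155) Col.a (nat_lit 96) (Dv.wd (nat_lit 26) [Mv.b (nat_lit 187), Mv.f (nat_lit 166), Mv.f (nat_lit 316)]))) (Tr.lf (Fc.ed (nat_lit 318) (nat_lit 87) Col.f (nat_lit 156) Dv.df))) (Tr.nd (nat_lit 320) (Tr.lf (Fc.ed (nat_lit 319) (nat_lit 156) Col.d (nat_lit 125) (Dv.wd (nat_lit 63) [Mv.b (nat_lit 258), Mv.b (nat_lit 175), Mv.f (nat_lit 318)]))) (Tr.lf (Fc.ed (nat_lit 320) (nat_lit 156) Col.e (nat_lit 102) (Dv.wd (nat_lit 40) [Mv.b (nat_lit 206), Mv.b (nat_lit 176), Mv.f (nat_lit 318)])))))))))) (Tr.nd (nat_lit 374) (Tr.nd (nat_lit 347) (Tr.nd (nat_lit 334) (Tr.nd (nat_lit 327) (Tr.nd (nat_lit 324) (Tr.nd (nat_lit 322) (Tr.lf (Fc.ed (nat_lit 321) (nat_lit 67) Col.e (nat_lit 157) Dv.df)) (Tr.nd (nat_lit 323) (Tr.lf (Fc.ed (nat_lit 322) (nat_lit 157) Col.b (nat_lit 130) (Dv.wd (nat_lit 47) [Mv.f (nat_lit 268), Mv.f (nat_lit 149), Mv.f (nat_lit 321)]))) (Tr.lf (Fc.ed (nat_lit 323) (nat_lit 157) Col.f (nat_lit 86) (Dv.wd (nat_lit 44) [Mv.b (nat_lit 171), Mv.f (nat_lit 131), Mv.f (nat_lit 321)]))))) (Tr.nd (nat_lit 325) (Tr.lf (Fc.ed (nat_lit 324) (nat_lit 86) Col.d (nat_lit 158) Dv.df)) (Tr.nd (nat_lit 326) (Tr.lf (Fc.ed (nat_lit 325) (nat_lit 158) Col.b (nat_lit 132) (Dv.wd (nat_lit 27) [Mv.b (nat_lit 271), Mv.b (nat_lit 172), Mv.f (nat_lit 324)]))) (Tr.lf (Fc.ed (nat_lit 326) (nat_lit 67) Col.c (nat_lit 159) Dv.df))))) (Tr.nd (nat_lit 330) (Tr.nd (nat_lit 328) (Tr.lf (Fc.ed (nat_lit 327) (nat_lit 159) Col.f (nat_lit 95) (Dv.wd (nat_lit 38) [Mv.b (nat_lit 186), Mv.f (nat_lit 131), Mv.f (nat_lit 326)]))) (Tr.nd (nat_lit 329) (Tr.lf (Fc.ed (nat_lit 328) (nat_lit 82) Col.a (nat_lit 160) Dv.df)) (Tr.lf (Fc.ed (nat_lit 329) (nat_lit 160) Col.d (nat_lit 150) (Dv.wd (nat_lit 20) [Mv.b (nat_lit 310), Mv.b (nat_lit 165), Mv.f (nat_lit 328)]))))) (Tr.nd (nat_lit 332) (Tr.nd (nat_lit 331) (Tr.lf (Fc.ed (nat_lit 330) (nat_lit 84) Col.f (nat_lit 161) Dv.df)) (Tr.lf (Fc.ed (nat_lit 331) (nat_lit 161) Col.g (nat_lit 142) (Dv.wd (nat_lit 55) [Mv.b (nat_lit 295), Mv.b (nat_lit 146), Mv.f (nat_lit 167), Mv.f (nat_lit 330)])))) (Tr.nd (nat_lit 333) (Tr.lf (Fc.ed (nat_lit 332) (nat_lit 84) Col.d (nat_lit 162) Dv.df)) (Tr.lf (Fc.ed (nat_lit 333) (nat_lit 162) Col.a (nat_lit 94) (Dv.wd (nat_lit 26) [Mv.b (nat_lit 184), Mv.f (nat_lit 167), Mv.f (nat_lit 332)]))))))) (Tr.nd (nat_lit 340) (Tr.nd (nat_lit 337) (Tr.nd (nat_lit 335) (Tr.lf (Fc.ed (nat_lit 334) (nat_lit 90) Col.d (nat_lit 163) Dv.df)) (Tr.nd (nat_lit 336) (Tr.lf (Fc.ed (nat_lit 335) (nat_lit 163) Col.f (nat_lit 94) (Dv.wd (nat_lit 30) [Mv.b (nat_lit 184), Mv.f (nat_lit 180), Mv.f (nat_lit 334)]))) (Tr.lf (Fc.ed (nat_lit 336) (nat_lit 88) Col.g (nat_lit 164) Dv.df)))) (Tr.nd (nat_lit 338) (Tr.lf (Fc.ed (nat_lit 337) (nat_lit 164) Col.f (nat_lit 144) (Dv.wd (nat_lit 28) [Mv.b (nat_lit 300), Mv.b (nat_lit 150), Mv.f (nat_lit 177), Mv.f (nat_lit 336)]))) (Tr.nd (nat_lit 339) (Tr.lf (Fc.ed (nat_lit 338) (nat_lit 90) Col.b (nat_lit 165) Dv.df)) (Tr.lf (Fc.ed (nat_lit 339) (nat_lit 89) Col.d (nat_lit 166) Dv.df))))) (Tr.nd (nat_lit 343) (Tr.nd (nat_lit 341) (Tr.lf (Fc.ed (nat_lit 340) (nat_lit 166) Col.f (nat_lit 92) (Dv.wd (nat_lit 30) [Mv.b (nat_lit 182), Mv.f (nat_lit 179), Mv.f (nat_lit 339)]))) (Tr.nd (nat_lit 342) (Tr.lf (Fc.ed (nat_lit 341) (nat_lit 90) Col.g (nat_lit 167) Dv.df)) (Tr.lf (Fc.ed (nat_lit 342) (nat_lit 167) Col.f (nat_lit 140) (Dv.wd (nat_lit 28) [Mv.f (nat_lit 291), Mv.b (nat_lit 167), Mv.f (nat_lit 180), Mv.f (nat_lit 341)]))))) (Tr.nd (nat_lit 345) (Tr.nd (nat_lit 344) (Tr.lf (Fc.ed (nat_lit 343) (nat_lit 83) Col.c (nat_lit 168) Dv.df)) (Tr.lf (Fc.ed (nat_lit 344) (nat_lit 168) Col.a (nat_lit 95) (Dv.wd (nat_lit 9) [Mv.b (nat_lit 186), Mv.f (nat_lit 166), Mv.f (nat_lit 343)])))) (Tr.nd (nat_lit 346) (Tr.lf (Fc.ed (nat_lit 345) (nat_lit 89) Col.b (nat_lit 169) Dv.df)) (Tr.lf (Fc.ed (nat_lit 346) (nat_lit 169) Col.f (nat_lit 165) (Dv.wd (nat_lit 64) [Mv.b (nat_lit 338), Mv.b (nat_lit 180), Mv.b (nat_lit 57), Mv.f (nat_lit 179), Mv.f (nat_lit 345)])))))))) (Tr.nd (nat_lit 360) (Tr.nd (nat_lit 353) (Tr.nd (nat_lit 350) (Tr.nd (nat_lit 348) (Tr.lf (Fc.ed (nat_lit 347) (nat_lit 95) Col.d (nat_lit 170) Dv.df)) (Tr.nd (nat_lit 349) (Tr.lf (Fc.ed (nat_lit 348) (nat_lit 93) Col.c (nat_lit 171) Dv.df)) (Tr.lf (Fc.ed (nat_lit 349) (nat_lit 171) Col.b (nat_lit 147) (Dv.wd (nat_lit 59) [Mv.b (nat_lit 304), Mv.b (nat_lit 137), Mv.f (nat_lit 32), Mv.f (nat_lit 183), Mv.f (nat_lit 348)]))))) (Tr.nd (nat_lit 351) (Tr.lf (Fc.ed (nat_lit 350) (nat_lit 96) Col.e (nat_lit 172) Dv.df)) (Tr.nd (nat_lit 352) (Tr.lf (Fc.ed (nat_lit 351) (nat_lit 96) Col.c (nat_lit 173) Dv.df)) (Tr.lf (Fc.ed (nat_lit 352) (nat_lit 94) Col.c (nat_lit 174) Dv.df))))) (Tr.nd (nat_lit 356) (Tr.nd (nat_lit 354) (Tr.lf (Fc.ed (nat_lit 353) (nat_lit 92) Col.c (nat_lit 175) Dv.df)) (Tr.nd (nat_lit 355) (Tr.lf (Fc.ed (nat_lit 354) (nat_lit 175) Col.g (nat_lit 173) (Dv.wd (nat_lit 12) [Mv.b (nat_lit 351), Mv.f (nat_lit 189), Mv.f (nat_lit 353)]))) (Tr.lf (Fc.ed (nat_lit 355) (nat_lit 102) Col.d (nat_lit 176) Dv.df)))) (Tr.nd (nat_lit 358) (Tr.nd (nat_lit 357) (Tr.lf (Fc.ed (nat_lit 356) (nat_lit 176) Col.f (nat_lit 104) (Dv.wd (nat_lit 30) [Mv.b (nat_lit 209), Mv.f (nat_lit 206), Mv.f (nat_lit 355)]))) (Tr.lf (Fc.ed (nat_lit 357) (nat_lit 104) Col.c (nat_lit 177) Dv.df))) (Tr.nd (nat_lit 359) (Tr.lf (Fc.ed (nat_lit 358) (nat_lit 177) Col.g (nat_lit 115) (Dv.wd (nat_lit 12) [Mv.f (nat_lit 235), Mv.b (nat_lit 210), Mv.f (nat_lit 357)]))) (Tr.lf (Fc.ed (nat_lit 359) (nat_lit 102) Col.b (nat_lit 178) Dv.df)))))) (Tr.nd (nat_lit 367) (Tr.nd (nat_lit 363) (Tr.nd (nat_lit 361) (Tr.lf (Fc.ed (nat_lit 360) (nat_lit 178) Col.f (nat_lit 178) (Dv.wd (nat_lit 64) [Mv.b (nat_lit 359), Mv.b (nat_lit 206), Mv.f (nat_lit 90), Mv.f (nat_lit 206), Mv.f (nat_lit 359)]))) (Tr.nd (nat_lit 362) (Tr.lf (Fc.ed (nat_lit 361) (nat_lit 109) Col.g (nat_lit 179) Dv.df)) (Tr.lf (Fc.ed (nat_lit 362) (nat_lit 179) Col.e (nat_lit 177) (Dv.wd (nat_lit 16) [Mv.f (nat_lit 358), Mv.f (nat_lit 234), Mv.f (nat_lit 361)]))))) (Tr.nd (nat_lit 365) (Tr.nd (nat_lit 364) (Tr.lf (Fc.ed (nat_lit 363) (nat_lit 179) Col.b (nat_lit 144) (Dv.wd (nat_lit 37) [Mv.b (nat_lit 300), Mv.f (nat_lit 245), Mv.b (nat_lit 94), Mv.f (nat_lit 217), Mv.f (nat_lit 361)]))) (Tr.lf (Fc.ed (nat_lit 364) (nat_lit 104) Col.e (nat_lit 180) Dv.df))) (Tr.nd (nat_lit 366) (Tr.lf (Fc.ed (nat_lit 365) (nat_lit 180) Col.c (nat_lit 179) (Dv.wd (nat_lit 52) [Mv.f (nat_lit 362), Mv.b (nat_lit 357), Mv.f (nat_lit 364)]))) (Tr.lf (Fc.ed (nat_lit 366) (nat_lit 180) Col.d (nat_lit 131) (Dv.wd (nat_lit 32) [Mv.b (nat_lit 269), Mv.b (nat_lit 175), Mv.f (nat_lit 176), Mv.f (nat_lit 209), Mv.f (nat_lit 364)])))))) (Tr.nd (nat_lit 370) (Tr.nd (nat_lit 368) (Tr.lf (Fc.ed (nat_lit 367) (nat_lit 111) Col.b (nat_lit 181) Dv.df)) (Tr.nd (nat_lit 369) (Tr.lf (Fc.ed (nat_lit 368) (nat_lit 114) Col.f (nat_lit 182) Dv.df)) (Tr.lf (Fc.ed (nat_lit 369) (nat_lit 182) Col.a (nat_lit 121) (Dv.wd (nat_lit 25) [Mv.b (nat_lit 251), Mv.b (nat_lit 232), Mv.f (nat_lit 368)]))))) (Tr.nd (nat_lit 372) (Tr.nd (nat_lit 371) (Tr.lf (Fc.ed (nat_lit 370) (nat_lit 182) Col.c (nat_lit 121) (Dv.wd (nat_lit 42) [Mv.b (nat_lit 251), Mv.f (nat_lit 230), Mv.f (nat_lit 368)]))) (Tr.lf (Fc.ed (nat_lit 371) (nat_lit 182) Col.g (nat_lit 151) (Dv.wd (nat_lit 55) [Mv.b (nat_lit 312), Mv.f (nat_lit 163), Mv.b (nat_lit 232), Mv.f (nat_lit 368)])))) (Tr.nd (nat_lit 373) (Tr.lf (Fc.ed (nat_lit 372) (nat_lit 110) Col.c (nat_lit 183) Dv.df)) (Tr.lf (Fc.ed (nat_lit 373) (nat_lit 183) Col.g (nat_lit 116) (Dv.wd (nat_lit 12) [Mv.b (nat_lit 236), Mv.f (nat_lit 218), Mv.f (nat_lit 372)]))))))))) (Tr.nd (nat_lit 401) (Tr.nd (nat_lit 387) (Tr.nd (nat_lit 380) (Tr.nd (nat_lit 377) (Tr.nd (nat_lit 375) (Tr.lf (Fc.ed (nat_lit 374) (nat_lit 164) Col.b (nat_lit 183) (Dv.wd (nat_lit 45) [Mv.f (nat_lit 373), Mv.f (nat_lit 237), Mv.b (nat_lit 242), Mv.b (nat_lit 243), Mv.f (nat_lit 336)]))) (Tr.nd (nat_lit 376) (Tr.lf (Fc.ed (nat_lit 375) (nat_lit 110) Col.f (nat_lit 184) Dv.df)) (Tr.lf (Fc.ed (nat_lit 376) (nat_lit 184) Col.d (nat_lit 184) (Dv.wd (nat_lit 63) [Mv.b (nat_lit 375), Mv.f (nat_lit 219), Mv.f (nat_lit 375)]))))) (Tr.nd (nat_lit 378) (Tr.lf (Fc.ed (nat_lit 377) (nat_lit 114) Col.b (nat_lit 185) Dv.df)) (Tr.nd (nat_lit 379) (Tr.lf (Fc.ed (nat_lit 378) (nat_lit 185) Col.d (nat_lit 129) (Dv.wd (nat_lit 19) [Mv.b (nat_lit 266), Mv.b (nat_lit 231), Mv.f (nat_lit 377)]))) (Tr.lf (Fc.ed (nat_lit 379) (nat_lit 121) Col.e (nat_lit 186) Dv.df))))) (Tr.nd (nat_lit 383) (Tr.nd (nat_lit 381) (Tr.lf (Fc.ed (nat_lit 380) (nat_lit 121) Col.g (nat_lit 187) Dv.df)) (Tr.nd (nat_lit 382) (Tr.lf (Fc.ed (nat_lit 381) (nat_lit 187) Col.f (nat_lit 141) (Dv.wd (nat_lit 28) [Mv.f (nat_lit 293), Mv.f (nat_lit 232), Mv.f (nat_lit 251), Mv.f (nat_lit 380)]))) (Tr.lf (Fc.ed (nat_lit 382) (nat_lit 122) Col.b (nat_lit 188) Dv.df)))) (Tr.nd (nat_lit 385) (Tr.nd (nat_lit 384) (Tr.lf (Fc.ed (nat_lit 383) (nat_lit 188) Col.g (nat_lit 152) (Dv.wd (nat_lit 11) [Mv.b (nat_lit 313), Mv.f (nat_lit 170), Mv.f (nat_lit 128), Mv.f (nat_lit 253), Mv.f (nat_lit 382)]))) (Tr.lf (Fc.ed (nat_lit 384) (nat_lit 117) Col.c (nat_lit 189) Dv.df))) (Tr.nd (nat_lit 386) (Tr.lf (Fc.ed (nat_lit 385) (nat_lit 117) Col.g (nat_lit 190) Dv.df)) (Tr.lf (Fc.ed (nat_lit 386) (nat_lit 190) Col.d (nat_lit 122) (Dv.wd (nat_lit 15) [Mv.b (nat_lit 253), Mv.f (nat_lit 238), Mv.f (nat_lit 385)]))))))) (Tr.nd (nat_lit 394) (Tr.nd (nat_lit 390) (Tr.nd (nat_lit 388) (Tr.lf (Fc.ed (nat_lit 387) (nat_lit 107) Col.b (nat_lit 191) Dv.df)) (Tr.nd (nat_lit 389) (Tr.lf (Fc.ed (nat_lit 388) (nat_lit 191) Col.f (nat_lit 181) (Dv.wd (nat_lit 64) [Mv.b (nat_lit 367), Mv.f (nat_lit 221), Mv.f (nat_lit 247), Mv.f (nat_lit 214), Mv.f (nat_lit 387)]))) (Tr.lf (Fc.ed (nat_lit 389) (nat_lit 125) Col.e (nat_lit 192) Dv.df)))) (Tr.nd (nat_lit 392) (Tr.nd (nat_lit 391) (Tr.lf (Fc.ed (nat_lit 390) (nat_lit 192) Col.c (nat_lit 130) (Dv.wd (nat_lit 52) [Mv.f (nat_lit 268), Mv.b (nat_lit 259), Mv.f (nat_lit 389)]))) (Tr.lf (Fc.ed (nat_lit 391) (nat_lit 124) Col.c (nat_lit 193) Dv.df))) (Tr.nd (nat_lit 393) (Tr.lf (Fc.ed (nat_lit 392) (nat_lit 193) Col.g (nat_lit 135) (Dv.wd (nat_lit 12) [Mv.b (nat_lit 281), Mv.b (nat_lit 257), Mv.f (nat_lit 391)]))) (Tr.lf (Fc.ed (nat_lit 393) (nat_lit 127) Col.b (nat_lit 194) Dv.df))))) (Tr.nd (nat_lit 397) (Tr.nd (nat_lit 395) (Tr.lf (Fc.ed (nat_lit 394) (nat_lit 194) Col.d (nat_lit 179) (Dv.wd (nat_lit 19) [Mv.f (nat_lit 363), Mv.f (nat_lit 301), Mv.f (nat_lit 393)]))) (Tr.nd (nat_lit 396) (Tr.lf (Fc.ed (nat_lit 395) (nat_lit 119) Col.b (nat_lit 195) Dv.df)) (Tr.lf (Fc.ed (nat_lit 396) (nat_lit 125) Col.b (nat_lit 196) Dv.df)))) (Tr.nd (nat_lit 399) (Tr.nd (nat_lit 398) (Tr.lf (Fc.ed (nat_lit 397) (nat_lit 114) Col.e (nat_lit 197) Dv.df)) (Tr.lf (Fc.ed (nat_lit 398) (nat_lit 197) Col.c (nat_lit 120) (Dv.wd (nat_lit 52) [Mv.b (nat_lit 250), Mv.f (nat_lit 230), Mv.f (nat_lit 397)])))) (Tr.nd (nat_lit 400) (Tr.lf (Fc.ed (nat_lit 399) (nat_lit 126) Col.b (nat_lit 198) Dv.df)) (Tr.lf (Fc.ed (nat_lit 400) (nat_lit 198) Col.d (nat_lit 123) (Dv.wd (nat_lit 19) [Mv.b (nat_lit 254), Mv.f (nat_lit 260), Mv.f (nat_lit 399)])))))))) (Tr.nd (nat_lit 414) (Tr.nd (nat_lit 407) (Tr.nd (nat_lit 404) (Tr.nd (nat_lit 402) (Tr.lf (Fc.ed (nat_lit 401) (nat_lit 198) Col.g (nat_lit 149) (Dv.wd (nat_lit 11) [Mv.b (nat_lit 308), Mv.f (nat_lit 163), Mv.b (nat_lit 158), Mv.b (nat_lit 261), Mv.f (nat_lit 399)]))) (Tr.nd (nat_lit 403) (Tr.lf (Fc.ed (nat_lit 402) (nat_lit 126) Col.c (nat_lit 199) Dv.df)) (Tr.lf (Fc.ed (nat_lit 403) (nat_lit 129) Col.f (nat_lit 200) Dv.df)))) (Tr.nd (nat_lit 405) (Tr.lf (Fc.ed (nat_lit 404) (nat_lit 128) Col.c (nat_lit 201) Dv.df)) (Tr.nd (nat_lit 406) (Tr.lf (Fc.ed (nat_lit 405) (nat_lit 123) Col.f (nat_lit 202) Dv.df)) (Tr.lf (Fc.ed (nat_lit 406) (nat_lit 202) Col.b (nat_lit 142) (Dv.wd (nat_lit 51) [Mv.b (nat_lit 295), Mv.f (nat_lit 147), Mv.b (nat_lit 133), Mv.f (nat_lit 254), Mv.f (nat_lit 405)])))))) (Tr.nd (nat_lit 410) (Tr.nd (nat_lit 408) (Tr.lf (Fc.ed (nat_lit 407) (nat_lit 123) Col.c (nat_lit 203) Dv.df)) (Tr.nd (nat_lit 409) (Tr.lf (Fc.ed (nat_lit 408) (nat_lit 203) Col.g (nat_lit 171) (Dv.wd (nat_lit 12) [Mv.b (nat_lit 348), Mv.b (nat_lit 255), Mv.f (nat_lit 407)]))) (Tr.lf (Fc.ed (nat_lit 409) (nat_lit 136) Col.b (nat_lit 204) Dv.df)))) (Tr.nd (nat_lit 412) (Tr.nd (nat_lit 411) (Tr.lf (Fc.ed (nat_lit 410) (nat_lit 135) Col.b (nat_lit 205) Dv.df)) (Tr.lf (Fc.ed (nat_lit 411) (nat_lit 133) Col.c (nat_lit 206) Dv.df))) (Tr.nd (nat_lit 413) (Tr.lf (Fc.ed (nat_lit 412) (nat_lit 206) Col.d (nat_lit 147) (Dv.wd (nat_lit 69) [Mv.b (nat_lit 304), Mv.f (nat_lit 138), Mv.b (nat_lit 106), Mv.f (nat_lit 76), Mv.f (nat_lit 106), Mv.b (nat_lit 138), Mv.f (nat_lit 276), Mv.f (nat_lit 411)]))) (Tr.lf (Fc.ed (nat_lit 413) (nat_lit 135) Col.e (nat_lit 207) Dv.df)))))) (Tr.nd (nat_lit 421) (Tr.nd (nat_lit 417) (Tr.nd (nat_lit 415) (Tr.lf (Fc.ed (nat_lit 414) (nat_lit 207) Col.c (nat_lit 138) (Dv.wd (nat_lit 52) [Mv.b (nat_lit 287), Mv.f (nat_lit 281), Mv.f (nat_lit 413)]))) (Tr.nd (nat_lit 416) (Tr.lf (Fc.ed (nat_lit 415) (nat_lit 132) Col.c (nat_lit 208) Dv.df)) (Tr.lf (Fc.ed (nat_lit 416) (nat_lit 208) Col.f (nat_lit 189) (Dv.wd (nat_lit 38) [Mv.b (nat_lit 384), Mv.b (nat_lit 272), Mv.f (nat_lit 415)]))))) (Tr.nd (nat_lit 419) (Tr.nd (nat_lit 418) (Tr.lf (Fc.ed (nat_lit 417) (nat_lit 129) Col.c (nat_lit 209) Dv.df)) (Tr.lf (Fc.ed (nat_lit 418) (nat_lit 137) Col.c (nat_lit 210) Dv.df))) (Tr.nd (nat_lit 420) (Tr.lf (Fc.ed (nat_lit 419) (nat_lit 210) Col.g (nat_lit 174) (Dv.wd (nat_lit 12) [Mv.b (nat_lit 352), Mv.b (nat_lit 286), Mv.f (nat_lit 418)]))) (Tr.lf (Fc.ed (nat_lit 420) (nat_lit 141) Col.b (nat_lit 211) Dv.df))))) (Tr.nd (nat_lit 424) (Tr.nd (nat_lit 422) (Tr.lf (Fc.ed (nat_lit 421) (nat_lit 211) Col.d (nat_lit 145) (Dv.wd (nat_lit 19) [Mv.b (nat_lit 302), Mv.f (nat_lit 292), Mv.f (nat_lit 420)]))) (Tr.nd (nat_lit 423) (Tr.lf (Fc.ed (nat_lit 422) (nat_lit 137) Col.f (nat_lit 212) Dv.df)) (Tr.lf (Fc.ed (nat_lit 423) (nat_lit 212) Col.d (nat_lit 142) (Dv.wd (nat_lit 63) [Mv.b (nat_lit 295), Mv.f (nat_lit 284), Mv.f (nat_lit 422)]))))) (Tr.nd (nat_lit 426) (Tr.nd (nat_lit 425) (Tr.lf (Fc.ed (nat_lit 424) (nat_lit 140) Col.b (nat_lit 213) Dv.df)) (Tr.lf (Fc.ed (nat_lit 425) (nat_lit 139) Col.d (nat_lit 214) Dv.df))) (Tr.nd (nat_lit 427) (Tr.lf (Fc.ed (nat_lit 426) (nat_lit 214) Col.a (nat_lit 148) (Dv.wd (nat_lit 26) [Mv.b (nat_lit 305), Mv.f (nat_lit 288), Mv.f (nat_lit 425)]))) (Tr.lf (Fc.ed (nat_lit 427) (nat_lit 214) Col.f (nat_lit 155) (Dv.wd (nat_lit 30) [Mv.b (nat_lit 316), Mv.b (nat_lit 289), Mv.f (nat_lit 425)])))))))))))) (Tr.nd (nat_lit 642) (Tr.nd (nat_lit 535) (Tr.nd (nat_lit 481) (Tr.nd (nat_lit 454) (Tr.nd (nat_lit 441) (Tr.nd (nat_lit 434) (Tr.nd (nat_lit 431) (Tr.nd (nat_lit 429) (Tr.lf (Fc.ed (nat_lit 428) (nat_lit 129) Col.a (nat_lit 215) Dv.df)) (Tr.nd (nat_lit 430) (Tr.lf (Fc.ed (nat_lit 429) (nat_lit 215) Col.b (nat_lit 215) (Dv.wd (nat_lit 70) [Mv.b (nat_lit 428), Mv.b (nat_lit 266), Mv.b (nat_lit 126), Mv.f (nat_lit 34), Mv.f (nat_lit 35), Mv.b (nat_lit 34), Mv.f (nat_lit 126), Mv.f (nat_lit 266), Mv.f (nat_lit 428)]))) (Tr.lf (Fc.ed (nat_lit 430) (nat_lit 145) Col.a (nat_lit 216) Dv.df)))) (Tr.nd (nat_lit 432) (Tr.lf (Fc.ed (nat_lit 431) (nat_lit 140) Col.d (nat_lit 217) Dv.df)) (Tr.nd (nat_lit 433) (Tr.lf (Fc.ed (nat_lit 432) (nat_lit 217) Col.a (nat_lit 137) (Dv.wd (nat_lit 26) [Mv.b (nat_lit 284), Mv.f (nat_lit 290), Mv.f (nat_lit 431)]))) (Tr.lf (Fc.ed (nat_lit 433) (nat_lit 217) Col.g (nat_lit 162) (Dv.wd (nat_lit 13) [Mv.b (nat_lit 332), Mv.b (nat_lit 291), Mv.f (nat_lit 431)])))))) (Tr.nd (nat_lit 437) (Tr.nd (nat_lit 435) (Tr.lf (Fc.ed (nat_lit 434) (nat_lit 129) Col.g (nat_lit 218) Dv.df)) (Tr.nd (nat_lit 436) (Tr.lf (Fc.ed (nat_lit 435) (nat_lit 145) Col.g (nat_lit 219) Dv.df)) (Tr.lf (Fc.ed (nat_lit 436) (nat_lit 219) Col.b (nat_lit 218) (Dv.wd (nat_lit 37) [Mv.b (nat_lit 434), Mv.b (nat_lit 266), Mv.b (nat_lit 155), Mv.f (nat_lit 302), Mv.f (nat_lit 435)]))))) (Tr.nd (nat_lit 439) (Tr.nd (nat_lit 438) (Tr.lf (Fc.ed (nat_lit 437) (nat_lit 146) Col.b (nat_lit 220) Dv.df)) (Tr.lf (Fc.ed (nat_lit 438) (nat_lit 220) Col.c (nat_lit 185) (Dv.wd (nat_lit 58) [Mv.b (nat_lit 377), Mv.b (nat_lit 230), Mv.b (nat_lit 158), Mv.f (nat_lit 303), Mv.f (nat_lit 437)])))) (Tr.nd (nat_lit 440) (Tr.lf (Fc.ed (nat_lit 439) (nat_lit 149) Col.f (nat_lit 221) Dv.df)) (Tr.lf (Fc.ed (nat_lit 440) (nat_lit 146) Col.d (nat_lit 222) Dv.df)))))) (Tr.nd (nat_lit 447) (Tr.nd (nat_lit 444) (Tr.nd (nat_lit 442) (Tr.lf (Fc.ed (nat_lit 441) (nat_lit 222) Col.c (nat_lit 222) (Dv.wd (nat_lit 67) [Mv.b (nat_lit 440), Mv.b (nat_lit 303), Mv.b (nat_lit 156), Mv.f (nat_lit 141), Mv.f (nat_lit 156), Mv.f (nat_lit 157), Mv.f (nat_lit 303), Mv.f (nat_lit 440)]))) (Tr.nd (nat_lit 443) (Tr.lf (Fc.ed (nat_lit 442) (nat_lit 145) Col.f (nat_lit 223) Dv.df)) (Tr.lf (Fc.ed (nat_lit 443) (nat_lit 149) Col.a (nat_lit 224) Dv.df)))) (Tr.nd (nat_lit 445) (Tr.lf (Fc.ed (nat_lit 444) (nat_lit 148) Col.e (nat_lit 225) Dv.df)) (Tr.nd (nat_lit 446) (Tr.lf (Fc.ed (nat_lit 445) (nat_lit 225) Col.b (nat_lit 186) (Dv.wd (nat_lit 47) [Mv.b (nat_lit 379), Mv.b (nat_lit 306), Mv.f (nat_lit 444)]))) (Tr.lf (Fc.ed (nat_lit 446) (nat_lit 225) Col.f (nat_lit 172) (Dv.wd (nat_lit 44) [Mv.b (nat_lit 350), Mv.b (nat_lit 307), Mv.f (nat_lit 444)])))))) (Tr.nd (nat_lit 450) (Tr.nd (nat_lit 448) (Tr.lf (Fc.ed (nat_lit 447) (nat_lit 152) Col.c (nat_lit 226) Dv.df)) (Tr.nd (nat_lit 449) (Tr.lf (Fc.ed (nat_lit 448) (nat_lit 226) Col.b (nat_lit 206) (Dv.wd (nat_lit 59) [Mv.b (nat_lit 411), Mv.f (nat_lit 274), Mv.b (nat_lit 169), Mv.f (nat_lit 313), Mv.f (nat_lit 447)]))) (Tr.lf (Fc.ed (nat_lit 449) (nat_lit 171) Col.d (nat_lit 226) (Dv.wd (nat_lit 71) [Mv.f (nat_lit 448), Mv.f (nat_lit 412), Mv.b (nat_lit 349)]))))) (Tr.nd (nat_lit 452) (Tr.nd (nat_lit 451) (Tr.lf (Fc.ed (nat_lit 450) (nat_lit 153) Col.d (nat_lit 227) Dv.df)) (Tr.lf (Fc.ed (nat_lit 451) (nat_lit 149) Col.c (nat_lit 228) Dv.df))) (Tr.nd (nat_lit 453) (Tr.lf (Fc.ed (nat_lit 452) (nat_lit 156) Col.b (nat_lit 229) Dv.df)) (Tr.lf (Fc.ed (nat_lit 453) (nat_lit 229) Col.d (nat_lit 196) (Dv.wd (nat_lit 19) [Mv.b (nat_lit 396), Mv.b (nat_lit 319), Mv.f (nat_lit 452)])))))))) (Tr.nd (nat_lit 467) (Tr.nd (nat_lit 460) (Tr.nd (nat_lit 457) (Tr.nd (nat_lit 455) (Tr.lf (Fc.ed (nat_lit 454) (nat_lit 229) Col.e (nat_lit 178) (Dv.wd (nat_lit 17) [Mv.b (nat_lit 359), Mv.b (nat_lit 320), Mv.f (nat_lit 452)]))) (Tr.nd (nat_lit 456) (Tr.lf (Fc.ed (nat_lit 455) (nat_lit 155) Col.c (nat_lit 230) Dv.df)) (Tr.lf (Fc.ed (nat_lit 456) (nat_lit 230) Col.a (nat_lit 173) (Dv.wd (nat_lit 9) [Mv.b (nat_lit 351), Mv.b (nat_lit 317), Mv.f (nat_lit 455)]))))) (Tr.nd (nat_lit 458) (Tr.lf (Fc.ed (nat_lit 457) (nat_lit 157) Col.c (nat_lit 231) Dv.df)) (Tr.nd (nat_lit 459) (Tr.lf (Fc.ed (nat_lit 458) (nat_lit 154) Col.g (nat_lit 232) Dv.df)) (Tr.lf (Fc.ed (nat_lit 459) (nat_lit 155) Col.e (nat_lit 233) Dv.df))))) (Tr.nd (nat_lit 463) (Tr.nd (nat_lit 461) (Tr.lf (Fc.ed (nat_lit 460) (nat_lit 159) Col.b (nat_lit 234) Dv.df)) (Tr.nd (nat_lit 462) (Tr.lf (Fc.ed (nat_lit 461) (nat_lit 234) Col.c (nat_lit 196) (Dv.wd (nat_lit 58) [Mv.b (nat_lit 396), Mv.f (nat_lit 259), Mv.f (nat_lit 149), Mv.f (nat_lit 326), Mv.f (nat_lit 460)]))) (Tr.lf (Fc.ed (nat_lit 462) (nat_lit 159) Col.d (nat_lit 235) Dv.df)))) (Tr.nd (nat_lit 465) (Tr.nd (nat_lit 464) (Tr.lf (Fc.ed (nat_lit 463) (nat_lit 235) Col.f (nat_lit 170) (Dv.wd (nat_lit 30) [Mv.b (nat_lit 347), Mv.b (nat_lit 327), Mv.f (nat_lit 462)]))) (Tr.lf (Fc.ed (nat_lit 464) (nat_lit 162) Col.f (nat_lit 236) Dv.df))) (Tr.nd (nat_lit 466) (Tr.lf (Fc.ed (nat_lit 465) (nat_lit 236) Col.a (nat_lit 163) (Dv.wd (nat_lit 25) [Mv.f (nat_lit 335), Mv.b (nat_lit 333), Mv.f (nat_lit 464)]))) (Tr.lf (Fc.ed (nat_lit 466) (nat_lit 236) Col.g (nat_lit 212) (Dv.wd (nat_lit 55) [Mv.b (nat_lit 422), Mv.f (nat_lit 286), Mv.b (nat_lit 333), Mv.f (nat_lit 464)]))))))) (Tr.nd (nat_lit 474) (Tr.nd (nat_lit 470) (Tr.nd (nat_lit 468) (Tr.lf (Fc.ed (nat_lit 467) (nat_lit 158) Col.c (nat_lit 237) Dv.df)) (Tr.nd (nat_lit 469) (Tr.lf (Fc.ed (nat_lit 468) (nat_lit 162) Col.c (nat_lit 238) Dv.df)) (Tr.lf (Fc.ed (nat_lit 469) (nat_lit 238) Col.a (nat_lit 174) (Dv.wd (nat_lit 9) [Mv.b (nat_lit 352), Mv.b (nat_lit 333), Mv.f (nat_lit 468)]))))) (Tr.nd (nat_lit 472) (Tr.nd (nat_lit 471) (Tr.lf (Fc.ed (nat_lit 470) (nat_lit 163) Col.b (nat_lit 239) Dv.df)) (Tr.lf (Fc.ed (nat_lit 471) (nat_lit 163) Col.c (nat_lit 240) Dv.df))) (Tr.nd (nat_lit 473) (Tr.lf (Fc.ed (nat_lit 472) (nat_lit 240) Col.f (nat_lit 174) (Dv.wd (nat_lit 38) [Mv.b (nat_lit 352), Mv.b (nat_lit 335), Mv.f (nat_lit 471)]))) (Tr.lf (Fc.ed (nat_lit 473) (nat_lit 163) Col.g (nat_lit 241) Dv.df))))) (Tr.nd (nat_lit 477) (Tr.nd (nat_lit 475) (Tr.lf (Fc.ed (nat_lit 474) (nat_lit 241) Col.a (nat_lit 212) (Dv.wd (nat_lit 48) [Mv.b (nat_lit 466), Mv.f (nat_lit 465), Mv.f (nat_lit 473)]))) (Tr.nd (nat_lit 476) (Tr.lf (Fc.ed (nat_lit 475) (nat_lit 241) Col.d (nat_lit 167) (Dv.wd (nat_lit 15) [Mv.b (nat_lit 341), Mv.f (nat_lit 334), Mv.f (nat_lit 473)]))) (Tr.lf (Fc.ed (nat_lit 476) (nat_lit 241) Col.f (nat_lit 217) (Dv.wd (nat_lit 28) [Mv.f (nat_lit 433), Mv.f (nat_lit 333), Mv.b (nat_lit 335), Mv.f (nat_lit 473)]))))) (Tr.nd (nat_lit 479) (Tr.nd (nat_lit 478) (Tr.lf (Fc.ed (nat_lit 477) (nat_lit 165) Col.a (nat_lit 242) Dv.df)) (Tr.lf (Fc.ed (nat_lit 478) (nat_lit 166) Col.b (nat_lit 243) Dv.df))) (Tr.nd (nat_lit 480) (Tr.lf (Fc.ed (nat_lit 479) (nat_lit 243) Col.d (nat_lit 169) (Dv.wd (nat_lit 19) [Mv.b (nat_lit 345), Mv.f (nat_lit 339), Mv.f (nat_lit 478)]))) (Tr.lf (Fc.ed (nat_lit 480) (nat_lit 243) Col.f (nat_lit 239) (Dv.wd (nat_lit 64) [Mv.b (nat_lit 470), Mv.f (nat_lit 335), Mv.f (nat_lit 185), Mv.b (nat_lit 340), Mv.f (nat_lit 478)]))))))))) (Tr.nd (nat_lit 508) (Tr.nd (nat_lit 494) (Tr.nd (nat_lit 487) (Tr.nd (nat_lit 484) (Tr.nd (nat_lit 482) (Tr.lf (Fc.ed (nat_lit 481) (nat_lit 166) Col.c (nat_lit 244) Dv.df)) (Tr.nd (nat_lit 483) (Tr.lf (Fc.ed (nat_lit 482) (nat_lit 244) Col.f (nat_lit 175) (Dv.wd (nat_lit 38) [Mv.b (nat_lit 353), Mv.b (nat_lit 340), Mv.f (nat_lit 481)]))) (Tr.lf (Fc.ed (nat_lit 483) (nat_lit 165) Col.g (nat_lit 245) Dv.df)))) (Tr.nd (nat_lit 485) (Tr.lf (Fc.ed (nat_lit 484) (nat_lit 167) Col.b (nat_lit 246) Dv.df)) (Tr.nd (nat_lit 486) (Tr.lf (Fc.ed (nat_lit 485) (nat_lit 168) Col.d (nat_lit 247) Dv.df)) (Tr.lf (Fc.ed (nat_lit 486) (nat_lit 247) Col.a (nat_lit 170) (Dv.wd (nat_lit 26) [Mv.b (nat_lit 347), Mv.b (nat_lit 344), Mv.f (nat_lit 485)])))))) (Tr.nd (nat_lit 490) (Tr.nd (nat_lit 488) (Tr.lf (Fc.ed (nat_lit 487) (nat_lit 169) Col.a (nat_lit 248) Dv.df)) (Tr.nd (nat_lit 489) (Tr.lf (Fc.ed (nat_lit 488) (nat_lit 248) Col.f (nat_lit 242) (Dv.wd (nat_lit 46) [Mv.b (nat_lit 477), Mv.b (nat_lit 346), Mv.f (nat_lit 487)]))) (Tr.lf (Fc.ed (nat_lit 489) (nat_lit 170) Col.c (nat_lit 249) Dv.df)))) (Tr.nd (nat_lit 492) (Tr.nd (nat_lit 491) (Tr.lf (Fc.ed (nat_lit 490) (nat_lit 172) Col.c (nat_lit 250) Dv.df)) (Tr.lf (Fc.ed (nat_lit 491) (nat_lit 250) Col.e (nat_lit 173) (Dv.wd (nat_lit 18) [Mv.b (nat_lit 351), Mv.f (nat_lit 350), Mv.f (nat_lit 490)])))) (Tr.nd (nat_lit 493) (Tr.lf (Fc.ed (nat_lit 492) (nat_lit 173) Col.b (nat_lit 251) Dv.df)) (Tr.lf (Fc.ed (nat_lit 493) (nat_lit 251) Col.c (nat_lit 205) (Dv.wd (nat_lit 58) [Mv.b (nat_lit 410), Mv.b (nat_lit 281), Mv.b (nat_lit 188), Mv.f (nat_lit 351), Mv.f (nat_lit 492)]))))))) (Tr.nd (nat_lit 501) (Tr.nd (nat_lit 497) (Tr.nd (nat_lit 495) (Tr.lf (Fc.ed (nat_lit 494) (nat_lit 174) Col.b (nat_lit 252) Dv.df)) (Tr.nd (nat_lit 496) (Tr.lf (Fc.ed (nat_lit 495) (nat_lit 175) Col.d (nat_lit 253) Dv.df)) (Tr.lf (Fc.ed (nat_lit 496) (nat_lit 175) Col.b (nat_lit 254) Dv.df)))) (Tr.nd (nat_lit 499) (Tr.nd (nat_lit 498) (Tr.lf (Fc.ed (nat_lit 497) (nat_lit 254) Col.c (nat_lit 252) (Dv.wd (nat_lit 58) [Mv.b (nat_lit 494), Mv.b (nat_lit 352), Mv.f (nat_lit 185), Mv.f (nat_lit 353), Mv.f (nat_lit 496)]))) (Tr.lf (Fc.ed (nat_lit 498) (nat_lit 178) Col.d (nat_lit 255) Dv.df))) (Tr.nd (nat_lit 500) (Tr.lf (Fc.ed (nat_lit 499) (nat_lit 255) Col.b (nat_lit 176) (Dv.wd (nat_lit 27) [Mv.b (nat_lit 355), Mv.f (nat_lit 359), Mv.f (nat_lit 498)]))) (Tr.lf (Fc.ed (nat_lit 500) (nat_lit 176) Col.e (nat_lit 256) Dv.df))))) (Tr.nd (nat_lit 504) (Tr.nd (nat_lit 502) (Tr.lf (Fc.ed (nat_lit 501) (nat_lit 256) Col.f (nat_lit 180) (Dv.wd (nat_lit 44) [Mv.b (nat_lit 364), Mv.b (nat_lit 356), Mv.f (nat_lit 500)]))) (Tr.nd (nat_lit 503) (Tr.lf (Fc.ed (nat_lit 502) (nat_lit 178) Col.a (nat_lit 257) Dv.df)) (Tr.lf (Fc.ed (nat_lit 503) (nat_lit 178) Col.g (nat_lit 258) Dv.df)))) (Tr.nd (nat_lit 506) (Tr.nd (nat_lit 505) (Tr.lf (Fc.ed (nat_lit 504) (nat_lit 179) Col.f (nat_lit 259) Dv.df)) (Tr.lf (Fc.ed (nat_lit 505) (nat_lit 259) Col.c (nat_lit 256) (Dv.wd (nat_lit 42) [Mv.f (nat_lit 501), Mv.f (nat_lit 365), Mv.f (nat_lit 504)])))) (Tr.nd (nat_lit 507) (Tr.lf (Fc.ed (nat_lit 506) (nat_lit 182) Col.e (nat_lit 260) Dv.df)) (Tr.lf (Fc.ed (nat_lit 507) (nat_lit 260) Col.a (nat_lit 186) (Dv.wd (nat_lit 68) [Mv.b (nat_lit 379), Mv.b (nat_lit 369), Mv.f (nat_lit 506)])))))))) (Tr.nd (nat_lit 521) (Tr.nd (nat_lit 514) (Tr.nd (nat_lit 511) (Tr.nd (nat_lit 509) (Tr.lf (Fc.ed (nat_lit 508) (nat_lit 260) Col.c (nat_lit 186) (Dv.wd (nat_lit 52) [Mv.b (nat_lit 379), Mv.b (nat_lit 370), Mv.f (nat_lit 506)]))) (Tr.nd (nat_lit 510) (Tr.lf (Fc.ed (nat_lit 509) (nat_lit 260) Col.f (nat_lit 197) (Dv.wd (nat_lit 44) [Mv.b (nat_lit 397), Mv.f (nat_lit 368), Mv.f (nat_lit 506)]))) (Tr.lf (Fc.ed (nat_lit 510) (nat_lit 183) Col.f (nat_lit 261) Dv.df)))) (Tr.nd (nat_lit 512) (Tr.lf (Fc.ed (nat_lit 511) (nat_lit 261) Col.c (nat_lit 184) (Dv.wd (nat_lit 42) [Mv.b (nat_lit 375), Mv.f (nat_lit 372), Mv.f (nat_lit 510)]))) (Tr.nd (nat_lit 513) (Tr.lf (Fc.ed (nat_lit 512) (nat_lit 261) Col.b (nat_lit 259) (Dv.wd (nat_lit 51) [Mv.b (nat_lit 504), Mv.f (nat_lit 363), Mv.b (nat_lit 337), Mv.f (nat_lit 374), Mv.f (nat_lit 510)]))) (Tr.lf (Fc.ed (nat_lit 513) (nat_lit 184) Col.b (nat_lit 262) Dv.df))))) (Tr.nd (nat_lit 517) (Tr.nd (nat_lit 515) (Tr.lf (Fc.ed (nat_lit 514) (nat_lit 262) Col.d (nat_lit 262) (Dv.wd (nat_lit 19) [Mv.b (nat_lit 513), Mv.f (nat_lit 376), Mv.f (nat_lit 513)]))) (Tr.nd (nat_lit 516) (Tr.lf (Fc.ed (nat_lit 515) (nat_lit 187) Col.b (nat_lit 263) Dv.df)) (Tr.lf (Fc.ed (nat_lit 516) (nat_lit 191) Col.g (nat_lit 264) Dv.df)))) (Tr.nd (nat_lit 519) (Tr.nd (nat_lit 518) (Tr.lf (Fc.ed (nat_lit 517) (nat_lit 264) Col.b (nat_lit 258) (Dv.wd (nat_lit 37) [Mv.b (nat_lit 503), Mv.b (nat_lit 359), Mv.b (nat_lit 215), Mv.f (nat_lit 387), Mv.f (nat_lit 516)]))) (Tr.lf (Fc.ed (nat_lit 518) (nat_lit 190) Col.c (nat_lit 265) Dv.df))) (Tr.nd (nat_lit 520) (Tr.lf (Fc.ed (nat_lit 519) (nat_lit 265) Col.g (nat_lit 189) (Dv.wd (nat_lit 12) [Mv.b (nat_lit 384), Mv.f (nat_lit 385), Mv.f (nat_lit 518)]))) (Tr.lf (Fc.ed (nat_lit 520) (nat_lit 190) Col.b (nat_lit 266) Dv.df)))))) (Tr.nd (nat_lit 528) (Tr.nd (nat_lit 524) (Tr.nd (nat_lit 522) (Tr.lf (Fc.ed (nat_lit 521) (nat_lit 266) Col.d (nat_lit 188) (Dv.wd (nat_lit 19) [Mv.b (nat_lit 382), Mv.b (nat_lit 386), Mv.f (nat_lit 520)]))) (Tr.nd (nat_lit 523) (Tr.lf (Fc.ed (nat_lit 522) (nat_lit 188) Col.c (nat_lit 267) Dv.df)) (Tr.lf (Fc.ed (nat_lit 523) (nat_lit 267) Col.g (nat_lit 226) (Dv.wd (nat_lit 12) [Mv.b (nat_lit 447), Mv.b (nat_lit 383), Mv.f (nat_lit 522)]))))) (Tr.nd (nat_lit 526) (Tr.nd (nat_lit 525) (Tr.lf (Fc.ed (nat_lit 524) (nat_lit 203) Col.d (nat_lit 267) (Dv.wd (nat_lit 72) [Mv.f (nat_lit 523), Mv.b (nat_lit 449), Mv.b (nat_lit 408)]))) (Tr.lf (Fc.ed (nat_lit 525) (nat_lit 189) Col.b (nat_lit 268) Dv.df))) (Tr.nd (nat_lit 527) (Tr.lf (Fc.ed (nat_lit 526) (nat_lit 193) Col.b (nat_lit 269) Dv.df)) (Tr.lf (Fc.ed (nat_lit 527) (nat_lit 194) Col.c (nat_lit 270) Dv.df))))) (Tr.nd (nat_lit 531) (Tr.nd (nat_lit 529) (Tr.lf (Fc.ed (nat_lit 528) (nat_lit 270) Col.b (nat_lit 209) (Dv.wd (nat_lit 59) [Mv.b (nat_lit 417), Mv.b (nat_lit 266), Mv.f (nat_lit 262), Mv.f (nat_lit 393), Mv.f (nat_lit 527)]))) (Tr.nd (nat_lit 530) (Tr.lf (Fc.ed (nat_lit 529) (nat_lit 195) Col.a (nat_lit 271) Dv.df)) (Tr.lf (Fc.ed (nat_lit 530) (nat_lit 192) Col.b (nat_lit 272) Dv.df)))) (Tr.nd (nat_lit 533) (Tr.nd (nat_lit 532) (Tr.lf (Fc.ed (nat_lit 531) (nat_lit 272) Col.e (nat_lit 196) (Dv.wd (nat_lit 17) [Mv.b (nat_lit 396), Mv.f (nat_lit 389), Mv.f (nat_lit 530)]))) (Tr.lf (Fc.ed (nat_lit 532) (nat_lit 196) Col.a (nat_lit 273) Dv.df))) (Tr.nd (nat_lit 534) (Tr.lf (Fc.ed (nat_lit 533) (nat_lit 198) Col.a (nat_lit 274) Dv.df)) (Tr.lf (Fc.ed (nat_lit 534) (nat_lit 274) Col.g (nat_lit 224) (Dv.wd (nat_lit 39) [Mv.b (nat_lit 443), Mv.b (nat_lit 401), Mv.f (nat_lit 533)])))))))))) (Tr.nd (nat_lit 588) (Tr.nd (nat_lit 561) (Tr.nd (nat_lit 548) (Tr.nd (nat_lit 541) (Tr.nd (nat_lit 538) (Tr.nd (nat_lit 536) (Tr.lf (Fc.ed (nat_lit 535) (nat_lit 201) Col.a (nat_lit 275) Dv.df)) (Tr.nd (nat_lit 537) (Tr.lf (Fc.ed (nat_lit 536) (nat_lit 275) Col.d (nat_lit 270) (Dv.wd (nat_lit 73) [Mv.b (nat_lit 527), Mv.f (nat_lit 394), Mv.b (nat_lit 365), Mv.f (nat_lit 366), Mv.f (nat_lit 270), Mv.f (nat_lit 264), Mv.f (nat_lit 404), Mv.f (nat_lit 535)]))) (Tr.lf (Fc.ed (nat_lit 537) (nat_lit 195) Col.f (nat_lit 276) Dv.df)))) (Tr.nd (nat_lit 539) (Tr.lf (Fc.ed (nat_lit 538) (nat_lit 276) Col.b (nat_lit 200) (Dv.wd (nat_lit 51) [Mv.b (nat_lit 403), Mv.b (nat_lit 266), Mv.f (nat_lit 248), Mv.f (nat_lit 395), Mv.f (nat_lit 537)]))) (Tr.nd (nat_lit 540) (Tr.lf (Fc.ed (nat_lit 539) (nat_lit 199) Col.b (nat_lit 277) Dv.df)) (Tr.lf (Fc.ed (nat_lit 540) (nat_lit 201) Col.b (nat_lit 278) Dv.df))))) (Tr.nd (nat_lit 544) (Tr.nd (nat_lit 542) (Tr.lf (Fc.ed (nat_lit 541) (nat_lit 278) Col.c (nat_lit 268) (Dv.wd (nat_lit 58) [Mv.b (nat_lit 525), Mv.b (nat_lit 384), Mv.b (nat_lit 265), Mv.f (nat_lit 404), Mv.f (nat_lit 540)]))) (Tr.nd (nat_lit 543) (Tr.lf (Fc.ed (nat_lit 542) (nat_lit 204) Col.f (nat_lit 279) Dv.df)) (Tr.lf (Fc.ed (nat_lit 543) (nat_lit 279) Col.b (nat_lit 223) (Dv.wd (nat_lit 51) [Mv.b (nat_lit 442), Mv.b (nat_lit 302), Mv.f (nat_lit 282), Mv.f (nat_lit 409), Mv.f (nat_lit 542)]))))) (Tr.nd (nat_lit 546) (Tr.nd (nat_lit 545) (Tr.lf (Fc.ed (nat_lit 544) (nat_lit 201) Col.d (nat_lit 280) Dv.df)) (Tr.lf (Fc.ed (nat_lit 545) (nat_lit 280) Col.a (nat_lit 270) (Dv.wd (nat_lit 26) [Mv.b (nat_lit 536), Mv.b (nat_lit 535), Mv.f (nat_lit 544)])))) (Tr.nd (nat_lit 547) (Tr.lf (Fc.ed (nat_lit 546) (nat_lit 202) Col.d (nat_lit 281) Dv.df)) (Tr.lf (Fc.ed (nat_lit 547) (nat_lit 281) Col.b (nat_lit 212) (Dv.wd (nat_lit 27) [Mv.f (nat_lit 423), Mv.b (nat_lit 406), Mv.f (nat_lit 546)]))))))) (Tr.nd (nat_lit 554) (Tr.nd (nat_lit 551) (Tr.nd (nat_lit 549) (Tr.lf (Fc.ed (nat_lit 548) (nat_lit 281) Col.f (nat_lit 198) (Dv.wd (nat_lit 30) [Mv.f (nat_lit 400), Mv.f (nat_lit 405), Mv.f (nat_lit 546)]))) (Tr.nd (nat_lit 550) (Tr.lf (Fc.ed (nat_lit 549) (nat_lit 205) Col.e (nat_lit 282) Dv.df)) (Tr.lf (Fc.ed (nat_lit 550) (nat_lit 282) Col.b (nat_lit 207) (Dv.wd (nat_lit 47) [Mv.b (nat_lit 413), Mv.f (nat_lit 410), Mv.f (nat_lit 549)]))))) (Tr.nd (nat_lit 552) (Tr.lf (Fc.ed (nat_lit 551) (nat_lit 205) Col.a (nat_lit 283) Dv.df)) (Tr.nd (nat_lit 553) (Tr.lf (Fc.ed (nat_lit 552) (nat_lit 205) Col.f (nat_lit 284) Dv.df)) (Tr.lf (Fc.ed (nat_lit 553) (nat_lit 208) Col.b (nat_lit 285) Dv.df))))) (Tr.nd (nat_lit 557) (Tr.nd (nat_lit 555) (Tr.lf (Fc.ed (nat_lit 554) (nat_lit 205) Col.g (nat_lit 286) Dv.df)) (Tr.nd (nat_lit 556) (Tr.lf (Fc.ed (nat_lit 555) (nat_lit 209) Col.a (nat_lit 287) Dv.df)) (Tr.lf (Fc.ed (nat_lit 556) (nat_lit 287) Col.c (nat_lit 215) (Dv.wd (nat_lit 35) [Mv.b (nat_lit 428), Mv.f (nat_lit 417), Mv.f (nat_lit 555)]))))) (Tr.nd (nat_lit 559) (Tr.nd (nat_lit 558) (Tr.lf (Fc.ed (nat_lit 557) (nat_lit 209) Col.d (nat_lit 288) Dv.df)) (Tr.lf (Fc.ed (nat_lit 558) (nat_lit 198) Col.c (nat_lit 289) Dv.df))) (Tr.nd (nat_lit 560) (Tr.lf (Fc.ed (nat_lit 559) (nat_lit 289) Col.g (nat_lit 228) (Dv.wd (nat_lit 12) [Mv.b (nat_lit 451), Mv.b (nat_lit 401), Mv.f (nat_lit 558)]))) (Tr.lf (Fc.ed (nat_lit 560) (nat_lit 210) Col.a (nat_lit 290) Dv.df))))))) (Tr.nd (nat_lit 574) (Tr.nd (nat_lit 567) (Tr.nd (nat_lit 564) (Tr.nd (nat_lit 562) (Tr.lf (Fc.ed (nat_lit 561) (nat_lit 290) Col.c (nat_lit 217) (Dv.wd (nat_lit 35) [Mv.f (nat_lit 432), Mv.f (nat_lit 418), Mv.f (nat_lit 560)]))) (Tr.nd (nat_lit 563) (Tr.lf (Fc.ed (nat_lit 562) (nat_lit 290) Col.g (nat_lit 238) (Dv.wd (nat_lit 39) [Mv.f (nat_lit 469), Mv.b (nat_lit 419), Mv.f (nat_lit 560)]))) (Tr.lf (Fc.ed (nat_lit 563) (nat_lit 212) Col.c (nat_lit 291) Dv.df)))) (Tr.nd (nat_lit 565) (Tr.lf (Fc.ed (nat_lit 564) (nat_lit 291) Col.f (nat_lit 210) (Dv.wd (nat_lit 38) [Mv.b (nat_lit 418), Mv.f (nat_lit 422), Mv.f (nat_lit 563)]))) (Tr.nd (nat_lit 566) (Tr.lf (Fc.ed (nat_lit 565) (nat_lit 213) Col.d (nat_lit 292) Dv.df)) (Tr.lf (Fc.ed (nat_lit 566) (nat_lit 292) Col.b (nat_lit 217) (Dv.wd (nat_lit 27) [Mv.b (nat_lit 431), Mv.f (nat_lit 424), Mv.f (nat_lit 565)])))))) (Tr.nd (nat_lit 570) (Tr.nd (nat_lit 568) (Tr.lf (Fc.ed (nat_lit 567) (nat_lit 214) Col.e (nat_lit 293) Dv.df)) (Tr.nd (nat_lit 569) (Tr.lf (Fc.ed (nat_lit 568) (nat_lit 293) Col.a (nat_lit 225) (Dv.wd (nat_lit 68) [Mv.b (nat_lit 444), Mv.b (nat_lit 426), Mv.f (nat_lit 567)]))) (Tr.lf (Fc.ed (nat_lit 569) (nat_lit 293) Col.f (nat_lit 233) (Dv.wd (nat_lit 44) [Mv.b (nat_lit 459), Mv.b (nat_lit 427), Mv.f (nat_lit 567)]))))) (Tr.nd (nat_lit 572) (Tr.nd (nat_lit 571) (Tr.lf (Fc.ed (nat_lit 570) (nat_lit 213) Col.g (nat_lit 294) Dv.df)) (Tr.lf (Fc.ed (nat_lit 571) (nat_lit 294) Col.b (nat_lit 232) (Dv.wd (nat_lit 37) [Mv.b (nat_lit 458), Mv.b (nat_lit 315), Mv.b (nat_lit 291), Mv.f (nat_lit 424), Mv.f (nat_lit 570)])))) (Tr.nd (nat_lit 573) (Tr.lf (Fc.ed (nat_lit 572) (nat_lit 213) Col.f (nat_lit 295) Dv.df)) (Tr.lf (Fc.ed (nat_lit 573) (nat_lit 210) Col.d (nat_lit 296) Dv.df)))))) (Tr.nd (nat_lit 581) (Tr.nd (nat_lit 577) (Tr.nd (nat_lit 575) (Tr.lf (Fc.ed (nat_lit 574) (nat_lit 210) Col.b (nat_lit 297) Dv.df)) (Tr.nd (nat_lit 576) (Tr.lf (Fc.ed (nat_lit 575) (nat_lit 297) Col.c (nat_lit 269) (Dv.wd (nat_lit 58) [Mv.b (nat_lit 526), Mv.b (nat_lit 391), Mv.b (nat_lit 285), Mv.f (nat_lit 418), Mv.f (nat_lit 574)]))) (Tr.lf (Fc.ed (nat_lit 576) (nat_lit 216) Col.g (nat_lit 298) Dv.df)))) (Tr.nd (nat_lit 579) (Tr.nd (nat_lit 578) (Tr.lf (Fc.ed (nat_lit 577) (nat_lit 298) Col.a (nat_lit 219) (Dv.wd (nat_lit 48) [Mv.b (nat_lit 435), Mv.f (nat_lit 430), Mv.f (nat_lit 576)]))) (Tr.lf (Fc.ed (nat_lit 578) (nat_lit 211) Col.c (nat_lit 299) Dv.df))) (Tr.nd (nat_lit 580) (Tr.lf (Fc.ed (nat_lit 579) (nat_lit 299) Col.b (nat_lit 228) (Dv.wd (nat_lit 59) [Mv.b (nat_lit 451), Mv.b (nat_lit 308), Mv.b (nat_lit 294), Mv.f (nat_lit 420), Mv.f (nat_lit 578)]))) (Tr.lf (Fc.ed (nat_lit 580) (nat_lit 213) Col.a (nat_lit 300) Dv.df))))) (Tr.nd (nat_lit 584) (Tr.nd (nat_lit 582) (Tr.lf (Fc.ed (nat_lit 581) (nat_lit 300) Col.b (nat_lit 300) (Dv.wd (nat_lit 70) [Mv.b (nat_lit 580), Mv.b (nat_lit 424), Mv.b (nat_lit 290), Mv.f (nat_lit 147), Mv.f (nat_lit 130), Mv.b (nat_lit 147), Mv.f (nat_lit 290), Mv.f (nat_lit 424), Mv.f (nat_lit 580)]))) (Tr.nd (nat_lit 583) (Tr.lf (Fc.ed (nat_lit 582) (nat_lit 211) Col.f (nat_lit 301) Dv.df)) (Tr.lf (Fc.ed (nat_lit 583) (nat_lit 301) Col.d (nat_lit 223) (Dv.wd (nat_lit 63) [Mv.b (nat_lit 442), Mv.b (nat_lit 421), Mv.f (nat_lit 582)]))))) (Tr.nd (nat_lit 586) (Tr.nd (nat_lit 585) (Tr.lf (Fc.ed (nat_lit 584) (nat_lit 216) Col.f (nat_lit 302) Dv.df)) (Tr.lf (Fc.ed (nat_lit 585) (nat_lit 219) Col.f (nat_lit 303) Dv.df))) (Tr.nd (nat_lit 587) (Tr.lf (Fc.ed (nat_lit 586) (nat_lit 303) Col.g (nat_lit 302) (Dv.wd (nat_lit 55) [Mv.b (nat_lit 584), Mv.f (nat_lit 576), Mv.f (nat_lit 577), Mv.f (nat_lit 585)]))) (Tr.lf (Fc.ed (nat_lit 587) (nat_lit 220) Col.d (nat_lit 304) Dv.df)))))))) (Tr.nd (nat_lit 615) (Tr.nd (nat_lit 601) (Tr.nd (nat_lit 594) (Tr.nd (nat_lit 591) (Tr.nd (nat_lit 589) (Tr.lf (Fc.ed (nat_lit 588) (nat_lit 304) Col.b (nat_lit 222) (Dv.wd (nat_lit 27) [Mv.b (nat_lit 440), Mv.f (nat_lit 437), Mv.f (nat_lit 587)]))) (Tr.nd (nat_lit 590) (Tr.lf (Fc.ed (nat_lit 589) (nat_lit 224) Col.f (nat_lit 305) Dv.df)) (Tr.lf (Fc.ed (nat_lit 590) (nat_lit 305) Col.a (nat_lit 221) (Dv.wd (nat_lit 25) [Mv.b (nat_lit 439), Mv.f (nat_lit 443), Mv.f (nat_lit 589)]))))) (Tr.nd (nat_lit 592) (Tr.lf (Fc.ed (nat_lit 591) (nat_lit 305) Col.g (nat_lit 281) (Dv.wd (nat_lit 55) [Mv.f (nat_lit 548), Mv.f (nat_lit 401), Mv.f (nat_lit 443), Mv.f (nat_lit 589)]))) (Tr.nd (nat_lit 593) (Tr.lf (Fc.ed (nat_lit 592) (nat_lit 221) Col.g (nat_lit 306) Dv.df)) (Tr.lf (Fc.ed (nat_lit 593) (nat_lit 306) Col.a (nat_lit 281) (Dv.wd (nat_lit 48) [Mv.b (nat_lit 591), Mv.f (nat_lit 590), Mv.f (nat_lit 592)])))))) (Tr.nd (nat_lit 597) (Tr.nd (nat_lit 595) (Tr.lf (Fc.ed (nat_lit 594) (nat_lit 306) Col.f (nat_lit 274) (Dv.wd (nat_lit 28) [Mv.f (nat_lit 534), Mv.b (nat_lit 443), Mv.f (nat_lit 439), Mv.f (nat_lit 592)]))) (Tr.nd (nat_lit 596) (Tr.lf (Fc.ed (nat_lit 595) (nat_lit 223) Col.g (nat_lit 307) Dv.df)) (Tr.lf (Fc.ed (nat_lit 596) (nat_lit 225) Col.c (nat_lit 308) Dv.df)))) (Tr.nd (nat_lit 599) (Tr.nd (nat_lit 598) (Tr.lf (Fc.ed (nat_lit 597) (nat_lit 308) Col.f (nat_lit 250) (Dv.wd (nat_lit 38) [Mv.b (nat_lit 490), Mv.b (nat_lit 446), Mv.f (nat_lit 596)]))) (Tr.lf (Fc.ed (nat_lit 598) (nat_lit 230) Col.b (nat_lit 309) Dv.df))) (Tr.nd (nat_lit 600) (Tr.lf (Fc.ed (nat_lit 599) (nat_lit 229) Col.a (nat_lit 310) Dv.df)) (Tr.lf (Fc.ed (nat_lit 600) (nat_lit 310) Col.d (nat_lit 273) (Dv.wd (nat_lit 20) [Mv.b (nat_lit 532), Mv.b (nat_lit 453), Mv.f (nat_lit 599)]))))))) (Tr.nd (nat_lit 608) (Tr.nd (nat_lit 604) (Tr.nd (nat_lit 602) (Tr.lf (Fc.ed (nat_lit 601) (nat_lit 310) Col.e (nat_lit 257) (Dv.wd (nat_lit 33) [Mv.b (nat_lit 502), Mv.b (nat_lit 454), Mv.f (nat_lit 599)]))) (Tr.nd (nat_lit 603) (Tr.lf (Fc.ed (nat_lit 602) (nat_lit 227) Col.c (nat_lit 311) Dv.df)) (Tr.lf (Fc.ed (nat_lit 603) (nat_lit 311) Col.d (nat_lit 290) (Dv.wd (nat_lit 74) [Mv.f (nat_lit 561), Mv.b (nat_lit 431), Mv.b (nat_lit 311), Mv.b (nat_lit 329), Mv.b (nat_lit 328), Mv.f (nat_lit 314), Mv.f (nat_lit 450), Mv.f (nat_lit 602)]))))) (Tr.nd (nat_lit 606) (Tr.nd (nat_lit 605) (Tr.lf (Fc.ed (nat_lit 604) (nat_lit 311) Col.a (nat_lit 296) (Dv.wd (nat_lit 57) [Mv.b (nat_lit 573), Mv.b (nat_lit 418), Mv.b (nat_lit 284), Mv.b (nat_lit 161), Mv.b (nat_lit 165), Mv.f (nat_lit 314), Mv.f (nat_lit 450), Mv.f (nat_lit 602)]))) (Tr.lf (Fc.ed (nat_lit 605) (nat_lit 231) Col.b (nat_lit 312) Dv.df))) (Tr.nd (nat_lit 607) (Tr.lf (Fc.ed (nat_lit 606) (nat_lit 312) Col.c (nat_lit 272) (Dv.wd (nat_lit 58) [Mv.b (nat_lit 530), Mv.f (nat_lit 390), Mv.b (nat_lit 322), Mv.f (nat_lit 457), Mv.f (nat_lit 605)]))) (Tr.lf (Fc.ed (nat_lit 607) (nat_lit 230) Col.d (nat_lit 313) Dv.df))))) (Tr.nd (nat_lit 611) (Tr.nd (nat_lit 609) (Tr.lf (Fc.ed (nat_lit 608) (nat_lit 230) Col.e (nat_lit 314) Dv.df)) (Tr.nd (nat_lit 610) (Tr.lf (Fc.ed (nat_lit 609) (nat_lit 314) Col.a (nat_lit 250) (Dv.wd (nat_lit 68) [Mv.f (nat_lit 491), Mv.b (nat_lit 456), Mv.f (nat_lit 608)]))) (Tr.lf (Fc.ed (nat_lit 610) (nat_lit 314) Col.c (nat_lit 233) (Dv.wd (nat_lit 52) [Mv.b (nat_lit 459), Mv.f (nat_lit 455), Mv.f (nat_lit 608)]))))) (Tr.nd (nat_lit 613) (Tr.nd (nat_lit 612) (Tr.lf (Fc.ed (nat_lit 611) (nat_lit 234) Col.d (nat_lit 315) Dv.df)) (Tr.lf (Fc.ed (nat_lit 612) (nat_lit 315) Col.b (nat_lit 235) (Dv.wd (nat_lit 27) [Mv.b (nat_lit 462), Mv.f (nat_lit 460), Mv.f (nat_lit 611)])))) (Tr.nd (nat_lit 614) (Tr.lf (Fc.ed (nat_lit 613) (nat_lit 232) Col.f (nat_lit 316) Dv.df)) (Tr.lf (Fc.ed (nat_lit 614) (nat_lit 235) Col.c (nat_lit 317) Dv.df))))))) (Tr.nd (nat_lit 628) (Tr.nd (nat_lit 621) (Tr.nd (nat_lit 618) (Tr.nd (nat_lit 616) (Tr.lf (Fc.ed (nat_lit 615) (nat_lit 317) Col.f (nat_lit 249) (Dv.wd (nat_lit 38) [Mv.b (nat_lit 489), Mv.b (nat_lit 463), Mv.f (nat_lit 614)]))) (Tr.nd (nat_lit 617) (Tr.lf (Fc.ed (nat_lit 616) (nat_lit 237) Col.d (nat_lit 318) Dv.df)) (Tr.lf (Fc.ed (nat_lit 617) (nat_lit 237) Col.b (nat_lit 319) Dv.df)))) (Tr.nd (nat_lit 619) (Tr.lf (Fc.ed (nat_lit 618) (nat_lit 319) Col.c (nat_lit 285) (Dv.wd (nat_lit 58) [Mv.b (nat_lit 553), Mv.b (nat_lit 415), Mv.b (nat_lit 325), Mv.f (nat_lit 467), Mv.f (nat_lit 617)]))) (Tr.nd (nat_lit 620) (Tr.lf (Fc.ed (nat_lit 619) (nat_lit 239) Col.a (nat_lit 320) Dv.df)) (Tr.lf (Fc.ed (nat_lit 620) (nat_lit 240) Col.b (nat_lit 321) Dv.df))))) (Tr.nd (nat_lit 624) (Tr.nd (nat_lit 622) (Tr.lf (Fc.ed (nat_lit 621) (nat_lit 239) Col.c (nat_lit 322) Dv.df)) (Tr.nd (nat_lit 623) (Tr.lf (Fc.ed (nat_lit 622) (nat_lit 240) Col.g (nat_lit 323) Dv.df)) (Tr.lf (Fc.ed (nat_lit 623) (nat_lit 323) Col.c (nat_lit 241) (Dv.wd (nat_lit 14) [Mv.b (nat_lit 473), Mv.f (nat_lit 471), Mv.f (nat_lit 622)]))))) (Tr.nd (nat_lit 626) (Tr.nd (nat_lit 625) (Tr.lf (Fc.ed (nat_lit 624) (nat_lit 323) Col.f (nat_lit 290) (Dv.wd (nat_lit 28) [Mv.f (nat_lit 562), Mv.f (nat_lit 469), Mv.b (nat_lit 472), Mv.f (nat_lit 622)]))) (Tr.lf (Fc.ed (nat_lit 625) (nat_lit 241) Col.b (nat_lit 324) Dv.df))) (Tr.nd (nat_lit 627) (Tr.lf (Fc.ed (nat_lit 626) (nat_lit 324) Col.d (nat_lit 246) (Dv.wd (nat_lit 19) [Mv.b (nat_lit 484), Mv.b (nat_lit 475), Mv.f (nat_lit 625)]))) (Tr.lf (Fc.ed (nat_lit 627) (nat_lit 239) Col.g (nat_lit 325) Dv.df)))))) (Tr.nd (nat_lit 635) (Tr.nd (nat_lit 631) (Tr.nd (nat_lit 629) (Tr.lf (Fc.ed (nat_lit 628) (nat_lit 242) Col.g (nat_lit 326) Dv.df)) (Tr.nd (nat_lit 630) (Tr.lf (Fc.ed (nat_lit 629) (nat_lit 326) Col.a (nat_lit 245) (Dv.wd (nat_lit 48) [Mv.b (nat_lit 483), Mv.f (nat_lit 477), Mv.f (nat_lit 628)]))) (Tr.lf (Fc.ed (nat_lit 630) (nat_lit 243) Col.c (nat_lit 327) Dv.df)))) (Tr.nd (nat_lit 633) (Tr.nd (nat_lit 632) (Tr.lf (Fc.ed (nat_lit 631) (nat_lit 327) Col.f (nat_lit 322) (Dv.wd (nat_lit 38) [Mv.b (nat_lit 621), Mv.b (nat_lit 480), Mv.f (nat_lit 630)]))) (Tr.lf (Fc.ed (nat_lit 632) (nat_lit 243) Col.a (nat_lit 328) Dv.df))) (Tr.nd (nat_lit 634) (Tr.lf (Fc.ed (nat_lit 633) (nat_lit 328) Col.d (nat_lit 248) (Dv.wd (nat_lit 20) [Mv.b (nat_lit 487), Mv.b (nat_lit 479), Mv.f (nat_lit 632)]))) (Tr.lf (Fc.ed (nat_lit 634) (nat_lit 328) Col.f (nat_lit 320) (Dv.wd (nat_lit 46) [Mv.b (nat_lit 619), Mv.b (nat_lit 480), Mv.f (nat_lit 632)])))))) (Tr.nd (nat_lit 638) (Tr.nd (nat_lit 636) (Tr.lf (Fc.ed (nat_lit 635) (nat_lit 244) Col.b (nat_lit 329) Dv.df)) (Tr.nd (nat_lit 637) (Tr.lf (Fc.ed (nat_lit 636) (nat_lit 245) Col.f (nat_lit 330) Dv.df)) (Tr.lf (Fc.ed (nat_lit 637) (nat_lit 330) Col.g (nat_lit 248) (Dv.wd (nat_lit 55) [Mv.f (nat_lit 488), Mv.f (nat_lit 628), Mv.f (nat_lit 629), Mv.f (nat_lit 636)]))))) (Tr.nd (nat_lit 640) (Tr.nd (nat_lit 639) (Tr.lf (Fc.ed (nat_lit 638) (nat_lit 246) Col.f (nat_lit 331) Dv.df)) (Tr.lf (Fc.ed (nat_lit 639) (nat_lit 331) Col.b (nat_lit 295) (Dv.wd (nat_lit 51) [Mv.b (nat_lit 572), Mv.b (nat_lit 424), Mv.b (nat_lit 342), Mv.f (nat_lit 484), Mv.f (nat_lit 638)])))) (Tr.nd (nat_lit 641) (Tr.lf (Fc.ed (nat_lit 640) (nat_lit 248) Col.b (nat_lit 332) Dv.df)) (Tr.lf (Fc.ed (nat_lit 641) (nat_lit 249) Col.d (nat_lit 333) Dv.df)))))))))) (Tr.nd (nat_lit 749) (Tr.nd (nat_lit 695) (Tr.nd (nat_lit 668) (Tr.nd (nat_lit 655) (Tr.nd (nat_lit 648) (Tr.nd (nat_lit 645) (Tr.nd (nat_lit 643) (Tr.lf (Fc.ed (nat_lit 642) (nat_lit 333) Col.c (nat_lit 313) (Dv.wd (nat_lit 67) [Mv.b (nat_lit 607), Mv.b (nat_lit 455), Mv.b (nat_lit 316), Mv.f (nat_lit 343), Mv.f (nat_lit 485), Mv.f (nat_lit 486), Mv.f (nat_lit 489), Mv.f (nat_lit 641)]))) (Tr.nd (nat_lit 644) (Tr.lf (Fc.ed (nat_lit 643) (nat_lit 251) Col.a (nat_lit 334) Dv.df)) (Tr.lf (Fc.ed (nat_lit 644) (nat_lit 334) Col.c (nat_lit 283) (Dv.wd (nat_lit 35) [Mv.b (nat_lit 551), Mv.b (nat_lit 493), Mv.f (nat_lit 643)]))))) (Tr.nd (nat_lit 646) (Tr.lf (Fc.ed (nat_lit 645) (nat_lit 251) Col.g (nat_lit 335) Dv.df)) (Tr.nd (nat_lit 647) (Tr.lf (Fc.ed (nat_lit 646) (nat_lit 252) Col.f (nat_lit 336) Dv.df)) (Tr.lf (Fc.ed (nat_lit 647) (nat_lit 253) Col.b (nat_lit 337) Dv.df))))) (Tr.nd (nat_lit 651) (Tr.nd (nat_lit 649) (Tr.lf (Fc.ed (nat_lit 648) (nat_lit 337) Col.d (nat_lit 254) (Dv.wd (nat_lit 19) [Mv.b (nat_lit 496), Mv.f (nat_lit 495), Mv.f (nat_lit 647)]))) (Tr.nd (nat_lit 650) (Tr.lf (Fc.ed (nat_lit 649) (nat_lit 254) Col.g (nat_lit 338) Dv.df)) (Tr.lf (Fc.ed (nat_lit 650) (nat_lit 338) Col.b (nat_lit 335) (Dv.wd (nat_lit 37) [Mv.b (nat_lit 645), Mv.b (nat_lit 492), Mv.b (nat_lit 354), Mv.f (nat_lit 496), Mv.f (nat_lit 649)]))))) (Tr.nd (nat_lit 653) (Tr.nd (nat_lit 652) (Tr.lf (Fc.ed (nat_lit 651) (nat_lit 254) Col.f (nat_lit 339) Dv.df)) (Tr.lf (Fc.ed (nat_lit 652) (nat_lit 339) Col.c (nat_lit 336) (Dv.wd (nat_lit 42) [Mv.b (nat_lit 646), Mv.b (nat_lit 497), Mv.f (nat_lit 651)])))) (Tr.nd (nat_lit 654) (Tr.lf (Fc.ed (nat_lit 653) (nat_lit 255) Col.g (nat_lit 340) Dv.df)) (Tr.lf (Fc.ed (nat_lit 654) (nat_lit 340) Col.f (nat_lit 258) (Dv.wd (nat_lit 75) [Mv.b (nat_lit 517), Mv.b (nat_lit 516), Mv.f (nat_lit 388), Mv.b (nat_lit 367), Mv.f (nat_lit 280), Mv.f (nat_lit 278), Mv.b (nat_lit 225), Mv.b (nat_lit 200), Mv.f (nat_lit 199), Mv.b (nat_lit 92), Mv.b (nat_lit 210), Mv.b (nat_lit 356), Mv.b (nat_lit 499), Mv.f (nat_lit 653)]))))))) (Tr.nd (nat_lit 661) (Tr.nd (nat_lit 658) (Tr.nd (nat_lit 656) (Tr.lf (Fc.al (nat_lit 655) (nat_lit 255) (nat_lit 257) (Dv.wd (nat_lit 43) [Mv.b (nat_lit 502), Mv.f (nat_lit 360), Mv.f (nat_lit 503), Mv.b (nat_lit 654), Mv.b (nat_lit 653)]))) (Tr.nd (nat_lit 657) (Tr.lf (Fc.ed (nat_lit 656) (nat_lit 255) Col.e (nat_lit 310) (Dv.wd (nat_lit 76) [Mv.f (nat_lit 601), Mv.b (nat_lit 655)]))) (Tr.lf (Fc.ed (nat_lit 657) (nat_lit 310) Col.b (nat_lit 256) (Dv.wd (nat_lit 47) [Mv.b (nat_lit 500), Mv.b (nat_lit 499), Mv.f (nat_lit 656)]))))) (Tr.nd (nat_lit 659) (Tr.lf (Fc.al (nat_lit 658) (nat_lit 273) (nat_lit 272) (Dv.wd (nat_lit 77) [Mv.f (nat_lit 531), Mv.b (nat_lit 453), Mv.f (nat_lit 454), Mv.f (nat_lit 498), Mv.f (nat_lit 656), Mv.f (nat_lit 600)]))) (Tr.nd (nat_lit 660) (Tr.lf (Fc.ed (nat_lit 659) (nat_lit 272) Col.d (nat_lit 310) (Dv.wd (nat_lit 78) [Mv.f (nat_lit 600), Mv.f (nat_lit 658)]))) (Tr.lf (Fc.ed (nat_lit 660) (nat_lit 262) Col.c (nat_lit 310) (Dv.wd (nat_lit 79) [Mv.f (nat_lit 657), Mv.b (nat_lit 505), Mv.b (nat_lit 512), Mv.f (nat_lit 511), Mv.f (nat_lit 513)])))))) (Tr.nd (nat_lit 664) (Tr.nd (nat_lit 662) (Tr.lf (Fc.al (nat_lit 661) (nat_lit 312) (nat_lit 315) (Dv.wd (nat_lit 80) [Mv.b (nat_lit 611), Mv.f (nat_lit 461), Mv.b (nat_lit 453), Mv.f (nat_lit 599), Mv.b (nat_lit 660), Mv.f (nat_lit 514), Mv.f (nat_lit 660), Mv.b (nat_lit 659), Mv.b (nat_lit 606)]))) (Tr.nd (nat_lit 663) (Tr.lf (Fc.al (nat_lit 662) (nat_lit 231) (nat_lit 235) (Dv.wd (nat_lit 62) [Mv.b (nat_lit 612), Mv.b (nat_lit 661), Mv.b (nat_lit 605)]))) (Tr.lf (Fc.al (nat_lit 663) (nat_lit 157) (nat_lit 317) (Dv.wd (nat_lit 81) [Mv.b (nat_lit 614), Mv.b (nat_lit 662), Mv.b (nat_lit 457)]))))) (Tr.nd (nat_lit 666) (Tr.nd (nat_lit 665) (Tr.lf (Fc.al (nat_lit 664) (nat_lit 86) (nat_lit 249) (Dv.wd (nat_lit 82) [Mv.b (nat_lit 615), Mv.b (nat_lit 663), Mv.f (nat_lit 323)]))) (Tr.lf (Fc.al (nat_lit 665) (nat_lit 158) (nat_lit 333) (Dv.wd (nat_lit 78) [Mv.b (nat_lit 641), Mv.b (nat_lit 664), Mv.f (nat_lit 324)])))) (Tr.nd (nat_lit 667) (Tr.lf (Fc.al (nat_lit 666) (nat_lit 237) (nat_lit 313) (Dv.wd (nat_lit 81) [Mv.b (nat_lit 642), Mv.b (nat_lit 665), Mv.f (nat_lit 467)]))) (Tr.lf (Fc.al (nat_lit 667) (nat_lit 318) (nat_lit 230) (Dv.wd (nat_lit 78) [Mv.f (nat_lit 607), Mv.b (nat_lit 666), Mv.f (nat_lit 616)])))))))) (Tr.nd (nat_lit 681) (Tr.nd (nat_lit 674) (Tr.nd (nat_lit 671) (Tr.nd (nat_lit 669) (Tr.lf (Fc.ed (nat_lit 668) (nat_lit 230) Col.d (nat_lit 237) (Dv.wd (nat_lit 78) [Mv.f (nat_lit 616), Mv.f (nat_lit 667)]))) (Tr.nd (nat_lit 670) (Tr.lf (Fc.ed (nat_lit 669) (nat_lit 319) Col.d (nat_lit 309) (Dv.wd (nat_lit 19) [Mv.b (nat_lit 598), Mv.f (nat_lit 668), Mv.f (nat_lit 617)]))) (Tr.lf (Fc.ed (nat_lit 670) (nat_lit 265) Col.b (nat_lit 341) Dv.df)))) (Tr.nd (nat_lit 672) (Tr.lf (Fc.ed (nat_lit 671) (nat_lit 266) Col.c (nat_lit 342) Dv.df)) (Tr.nd (nat_lit 673) (Tr.lf (Fc.ed (nat_lit 672) (nat_lit 263) Col.f (nat_lit 343) Dv.df)) (Tr.lf (Fc.ed (nat_lit 673) (nat_lit 343) Col.b (nat_lit 301) (Dv.wd (nat_lit 51) [Mv.b (nat_lit 582), Mv.b (nat_lit 420), Mv.b (nat_lit 381), Mv.f (nat_lit 515), Mv.f (nat_lit 672)])))))) (Tr.nd (nat_lit 677) (Tr.nd (nat_lit 675) (Tr.lf (Fc.ed (nat_lit 674) (nat_lit 269) Col.g (nat_lit 344) Dv.df)) (Tr.nd (nat_lit 676) (Tr.lf (Fc.ed (nat_lit 675) (nat_lit 344) Col.b (nat_lit 286) (Dv.wd (nat_lit 37) [Mv.b (nat_lit 554), Mv.b (nat_lit 410), Mv.b (nat_lit 392), Mv.f (nat_lit 526), Mv.f (nat_lit 674)]))) (Tr.lf (Fc.ed (nat_lit 676) (nat_lit 271) Col.g (nat_lit 345) Dv.df)))) (Tr.nd (nat_lit 679) (Tr.nd (nat_lit 678) (Tr.lf (Fc.ed (nat_lit 677) (nat_lit 276) Col.g (nat_lit 346) Dv.df)) (Tr.lf (Fc.ed (nat_lit 678) (nat_lit 346) Col.f (nat_lit 345) (Dv.wd (nat_lit 28) [Mv.b (nat_lit 676), Mv.b (nat_lit 529), Mv.f (nat_lit 537), Mv.f (nat_lit 677)])))) (Tr.nd (nat_lit 680) (Tr.lf (Fc.ed (nat_lit 679) (nat_lit 346) Col.b (nat_lit 316) (Dv.wd (nat_lit 83) [Mv.b (nat_lit 613), Mv.b (nat_lit 458), Mv.b (nat_lit 315), Mv.f (nat_lit 330), Mv.f (nat_lit 331), Mv.b (nat_lit 406), Mv.b (nat_lit 405), Mv.f (nat_lit 255), Mv.b (nat_lit 183), Mv.f (nat_lit 181), Mv.b (nat_lit 249), Mv.f (nat_lit 395), Mv.f (nat_lit 537), Mv.f (nat_lit 677)]))) (Tr.lf (Fc.ed (nat_lit 680) (nat_lit 277) Col.c (nat_lit 347) Dv.df)))))) (Tr.nd (nat_lit 688) (Tr.nd (nat_lit 684) (Tr.nd (nat_lit 682) (Tr.lf (Fc.ed (nat_lit 681) (nat_lit 347) Col.b (nat_lit 289) (Dv.wd (nat_lit 59) [Mv.b (nat_lit 558), Mv.b (nat_lit 399), Mv.f (nat_lit 402), Mv.f (nat_lit 539), Mv.f (nat_lit 680)]))) (Tr.nd (nat_lit 683) (Tr.lf (Fc.ed (nat_lit 682) (nat_lit 278) Col.a (nat_lit 348) Dv.df)) (Tr.lf (Fc.ed (nat_lit 683) (nat_lit 274) Col.c (nat_lit 349) Dv.df)))) (Tr.nd (nat_lit 686) (Tr.nd (nat_lit 685) (Tr.lf (Fc.ed (nat_lit 684) (nat_lit 349) Col.a (nat_lit 289) (Dv.wd (nat_lit 9) [Mv.b (nat_lit 558), Mv.f (nat_lit 533), Mv.f (nat_lit 683)]))) (Tr.lf (Fc.ed (nat_lit 685) (nat_lit 349) Col.d (nat_lit 342) (Dv.wd (nat_lit 69) [Mv.b (nat_lit 671), Mv.f (nat_lit 521), Mv.f (nat_lit 522), Mv.b (nat_lit 524), Mv.b (nat_lit 407), Mv.b (nat_lit 400), Mv.f (nat_lit 533), Mv.f (nat_lit 683)])))) (Tr.nd (nat_lit 687) (Tr.lf (Fc.ed (nat_lit 686) (nat_lit 279) Col.g (nat_lit 350) Dv.df)) (Tr.lf (Fc.ed (nat_lit 687) (nat_lit 350) Col.b (nat_lit 330) (Dv.wd (nat_lit 83) [Mv.b (nat_lit 636), Mv.b (nat_lit 483), Mv.b (nat_lit 338), Mv.b (nat_lit 180), Mv.f (nat_lit 146), Mv.f (nat_lit 147), Mv.b (nat_lit 133), Mv.b (nat_lit 132), Mv.b (nat_lit 34), Mv.f (nat_lit 148), Mv.b (nat_lit 283), Mv.f (nat_lit 409), Mv.f (nat_lit 542), Mv.f (nat_lit 686)])))))) (Tr.nd (nat_lit 691) (Tr.nd (nat_lit 689) (Tr.lf (Fc.al (nat_lit 688) (nat_lit 307) (nat_lit 332) (Dv.wd (nat_lit 50) [Mv.b (nat_lit 640), Mv.b (nat_lit 637), Mv.b (nat_lit 687), Mv.b (nat_lit 686), Mv.f (nat_lit 543), Mv.f (nat_lit 595)]))) (Tr.nd (nat_lit 690) (Tr.lf (Fc.ed (nat_lit 689) (nat_lit 307) Col.b (nat_lit 248) (Dv.wd (nat_lit 62) [Mv.f (nat_lit 640), Mv.b (nat_lit 688)]))) (Tr.lf (Fc.ed (nat_lit 690) (nat_lit 281) Col.c (nat_lit 351) Dv.df)))) (Tr.nd (nat_lit 693) (Tr.nd (nat_lit 692) (Tr.lf (Fc.ed (nat_lit 691) (nat_lit 351) Col.f (nat_lit 289) (Dv.wd (nat_lit 38) [Mv.b (nat_lit 558), Mv.b (nat_lit 548), Mv.f (nat_lit 690)]))) (Tr.lf (Fc.ed (nat_lit 692) (nat_lit 280) Col.b (nat_lit 352) Dv.df))) (Tr.nd (nat_lit 694) (Tr.lf (Fc.ed (nat_lit 693) (nat_lit 352) Col.d (nat_lit 278) (Dv.wd (nat_lit 19) [Mv.b (nat_lit 540), Mv.f (nat_lit 544), Mv.f (nat_lit 692)]))) (Tr.lf (Fc.ed (nat_lit 694) (nat_lit 282) Col.a (nat_lit 353) Dv.df)))))))) (Tr.nd (nat_lit 722) (Tr.nd (nat_lit 708) (Tr.nd (nat_lit 701) (Tr.nd (nat_lit 698) (Tr.nd (nat_lit 696) (Tr.lf (Fc.ed (nat_lit 695) (nat_lit 353) Col.e (nat_lit 283) (Dv.wd (nat_lit 33) [Mv.b (nat_lit 551), Mv.f (nat_lit 549), Mv.f (nat_lit 694)]))) (Tr.nd (nat_lit 697) (Tr.lf (Fc.ed (nat_lit 696) (nat_lit 286) Col.a (nat_lit 354) Dv.df)) (Tr.lf (Fc.ed (nat_lit 697) (nat_lit 354) Col.g (nat_lit 283) (Dv.wd (nat_lit 39) [Mv.b (nat_lit 551), Mv.f (nat_lit 554), Mv.f (nat_lit 696)]))))) (Tr.nd (nat_lit 699) (Tr.lf (Fc.ed (nat_lit 698) (nat_lit 284) Col.a (nat_lit 355) Dv.df)) (Tr.nd (nat_lit 700) (Tr.lf (Fc.ed (nat_lit 699) (nat_lit 355) Col.f (nat_lit 283) (Dv.wd (nat_lit 46) [Mv.b (nat_lit 551), Mv.f (nat_lit 552), Mv.f (nat_lit 698)]))) (Tr.lf (Fc.ed (nat_lit 700) (nat_lit 286) Col.f (nat_lit 356) Dv.df))))) (Tr.nd (nat_lit 704) (Tr.nd (nat_lit 702) (Tr.lf (Fc.ed (nat_lit 701) (nat_lit 356) Col.g (nat_lit 355) (Dv.wd (nat_lit 55) [Mv.f (nat_lit 699), Mv.b (nat_lit 697), Mv.b (nat_lit 696), Mv.f (nat_lit 700)]))) (Tr.nd (nat_lit 703) (Tr.lf (Fc.ed (nat_lit 702) (nat_lit 289) Col.d (nat_lit 357) Dv.df)) (Tr.lf (Fc.ed (nat_lit 703) (nat_lit 357) Col.a (nat_lit 342) (Dv.wd (nat_lit 26) [Mv.b (nat_lit 685), Mv.f (nat_lit 684), Mv.f (nat_lit 702)]))))) (Tr.nd (nat_lit 706) (Tr.nd (nat_lit 705) (Tr.lf (Fc.ed (nat_lit 704) (nat_lit 290) Col.b (nat_lit 358) Dv.df)) (Tr.lf (Fc.ed (nat_lit 705) (nat_lit 288) Col.c (nat_lit 359) Dv.df))) (Tr.nd (nat_lit 707) (Tr.lf (Fc.ed (nat_lit 706) (nat_lit 288) Col.a (nat_lit 360) Dv.df)) (Tr.lf (Fc.ed (nat_lit 707) (nat_lit 360) Col.d (nat_lit 287) (Dv.wd (nat_lit 20) [Mv.b (nat_lit 555), Mv.f (nat_lit 557), Mv.f (nat_lit 706)]))))))) (Tr.nd (nat_lit 715) (Tr.nd (nat_lit 711) (Tr.nd (nat_lit 709) (Tr.lf (Fc.ed (nat_lit 708) (nat_lit 287) Col.b (nat_lit 361) Dv.df)) (Tr.nd (nat_lit 710) (Tr.lf (Fc.ed (nat_lit 709) (nat_lit 361) Col.c (nat_lit 361) (Dv.wd (nat_lit 58) [Mv.b (nat_lit 708), Mv.f (nat_lit 556), Mv.f (nat_lit 429), Mv.b (nat_lit 556), Mv.f (nat_lit 708)]))) (Tr.lf (Fc.ed (nat_lit 710) (nat_lit 294) Col.a (nat_lit 362) Dv.df)))) (Tr.nd (nat_lit 713) (Tr.nd (nat_lit 712) (Tr.lf (Fc.ed (nat_lit 711) (nat_lit 362) Col.g (nat_lit 300) (Dv.wd (nat_lit 39) [Mv.b (nat_lit 580), Mv.f (nat_lit 570), Mv.f (nat_lit 710)]))) (Tr.lf (Fc.ed (nat_lit 712) (nat_lit 292) Col.f (nat_lit 363) Dv.df))) (Tr.nd (nat_lit 714) (Tr.lf (Fc.ed (nat_lit 713) (nat_lit 294) Col.f (nat_lit 364) Dv.df)) (Tr.lf (Fc.ed (nat_lit 714) (nat_lit 364) Col.b (nat_lit 345) (Dv.wd (nat_lit 51) [Mv.b (nat_lit 678), Mv.f (nat_lit 679), Mv.b (nat_lit 613), Mv.b (nat_lit 571), Mv.f (nat_lit 713)])))))) (Tr.nd (nat_lit 718) (Tr.nd (nat_lit 716) (Tr.lf (Fc.ed (nat_lit 715) (nat_lit 295) Col.a (nat_lit 365) Dv.df)) (Tr.nd (nat_lit 717) (Tr.lf (Fc.ed (nat_lit 716) (nat_lit 365) Col.f (nat_lit 300) (Dv.wd (nat_lit 46) [Mv.b (nat_lit 580), Mv.f (nat_lit 572), Mv.f (nat_lit 715)]))) (Tr.lf (Fc.ed (nat_lit 717) (nat_lit 365) Col.g (nat_lit 364) (Dv.wd (nat_lit 84) [Mv.b (nat_lit 713), Mv.b (nat_lit 570), Mv.f (nat_lit 572), Mv.f (nat_lit 715)]))))) (Tr.nd (nat_lit 720) (Tr.nd (nat_lit 719) (Tr.lf (Fc.ed (nat_lit 718) (nat_lit 292) Col.c (nat_lit 366) Dv.df)) (Tr.lf (Fc.ed (nat_lit 719) (nat_lit 295) Col.g (nat_lit 367) Dv.df))) (Tr.nd (nat_lit 721) (Tr.lf (Fc.ed (nat_lit 720) (nat_lit 367) Col.f (nat_lit 362) (Dv.wd (nat_lit 28) [Mv.f (nat_lit 711), Mv.b (nat_lit 580), Mv.f (nat_lit 572), Mv.f (nat_lit 719)]))) (Tr.lf (Fc.ed (nat_lit 721) (nat_lit 302) Col.b (nat_lit 367) (Dv.wd (nat_lit 85) [Mv.f (nat_lit 720), Mv.f (nat_lit 711), Mv.f (nat_lit 581), Mv.b (nat_lit 716), Mv.f (nat_lit 717), Mv.f (nat_lit 714), Mv.b (nat_lit 678), Mv.b (nat_lit 677), Mv.f (nat_lit 538), Mv.b (nat_lit 403), Mv.f (nat_lit 434), Mv.b (nat_lit 436), Mv.f (nat_lit 585), Mv.f (nat_lit 586)])))))))) (Tr.nd (nat_lit 735) (Tr.nd (nat_lit 728) (Tr.nd (nat_lit 725) (Tr.nd (nat_lit 723) (Tr.lf (Fc.ed (nat_lit 722) (nat_lit 297) Col.g (nat_lit 368) Dv.df)) (Tr.nd (nat_lit 724) (Tr.lf (Fc.ed (nat_lit 723) (nat_lit 368) Col.c (nat_lit 344) (Dv.wd (nat_lit 14) [Mv.b (nat_lit 674), Mv.b (nat_lit 575), Mv.f (nat_lit 722)]))) (Tr.lf (Fc.ed (nat_lit 724) (nat_lit 299) Col.f (nat_lit 369) Dv.df)))) (Tr.nd (nat_lit 726) (Tr.lf (Fc.ed (nat_lit 725) (nat_lit 369) Col.c (nat_lit 301) (Dv.wd (nat_lit 42) [Mv.b (nat_lit 582), Mv.f (nat_lit 578), Mv.f (nat_lit 724)]))) (Tr.nd (nat_lit 727) (Tr.lf (Fc.ed (nat_lit 726) (nat_lit 301) Col.g (nat_lit 370) Dv.df)) (Tr.lf (Fc.ed (nat_lit 727) (nat_lit 370) Col.d (nat_lit 307) (Dv.wd (nat_lit 15) [Mv.b (nat_lit 595), Mv.b (nat_lit 583), Mv.f (nat_lit 726)])))))) (Tr.nd (nat_lit 731) (Tr.nd (nat_lit 729) (Tr.lf (Fc.ed (nat_lit 728) (nat_lit 328) Col.b (nat_lit 370) (Dv.wd (nat_lit 22) [Mv.f (nat_lit 727), Mv.f (nat_lit 689), Mv.b (nat_lit 633)]))) (Tr.nd (nat_lit 730) (Tr.lf (Fc.ed (nat_lit 729) (nat_lit 303) Col.b (nat_lit 371) Dv.df)) (Tr.lf (Fc.ed (nat_lit 730) (nat_lit 371) Col.g (nat_lit 331) (Dv.wd (nat_lit 11) [Mv.f (nat_lit 639), Mv.f (nat_lit 719), Mv.b (nat_lit 721), Mv.b (nat_lit 586), Mv.f (nat_lit 729)]))))) (Tr.nd (nat_lit 733) (Tr.nd (nat_lit 732) (Tr.lf (Fc.ed (nat_lit 731) (nat_lit 304) Col.c (nat_lit 372) Dv.df)) (Tr.lf (Fc.ed (nat_lit 732) (nat_lit 372) Col.b (nat_lit 372) (Dv.wd (nat_lit 59) [Mv.b (nat_lit 731), Mv.f (nat_lit 588), Mv.f (nat_lit 441), Mv.b (nat_lit 588), Mv.f (nat_lit 731)])))) (Tr.nd (nat_lit 734) (Tr.lf (Fc.ed (nat_lit 733) (nat_lit 309) Col.e (nat_lit 373) Dv.df)) (Tr.lf (Fc.ed (nat_lit 734) (nat_lit 373) Col.b (nat_lit 314) (Dv.wd (nat_lit 47) [Mv.b (nat_lit 608), Mv.f (nat_lit 598), Mv.f (nat_lit 733)]))))))) (Tr.nd (nat_lit 742) (Tr.nd (nat_lit 738) (Tr.nd (nat_lit 736) (Tr.lf (Fc.ed (nat_lit 735) (nat_lit 311) Col.b (nat_lit 374) Dv.df)) (Tr.nd (nat_lit 737) (Tr.lf (Fc.ed (nat_lit 736) (nat_lit 374) Col.d (nat_lit 358) (Dv.wd (nat_lit 19) [Mv.b (nat_lit 704), Mv.b (nat_lit 603), Mv.f (nat_lit 735)]))) (Tr.lf (Fc.ed (nat_lit 737) (nat_lit 320) Col.c (nat_lit 375) Dv.df)))) (Tr.nd (nat_lit 740) (Tr.nd (nat_lit 739) (Tr.lf (Fc.ed (nat_lit 738) (nat_lit 375) Col.a (nat_lit 322) (Dv.wd (nat_lit 9) [Mv.b (nat_lit 621), Mv.f (nat_lit 619), Mv.f (nat_lit 737)]))) (Tr.lf (Fc.ed (nat_lit 739) (nat_lit 320) Col.g (nat_lit 376) Dv.df))) (Tr.nd (nat_lit 741) (Tr.lf (Fc.ed (nat_lit 740) (nat_lit 376) Col.a (nat_lit 325) (Dv.wd (nat_lit 48) [Mv.b (nat_lit 627), Mv.f (nat_lit 619), Mv.f (nat_lit 739)]))) (Tr.lf (Fc.ed (nat_lit 741) (nat_lit 321) Col.c (nat_lit 377) Dv.df))))) (Tr.nd (nat_lit 745) (Tr.nd (nat_lit 743) (Tr.lf (Fc.ed (nat_lit 742) (nat_lit 377) Col.b (nat_lit 322) (Dv.wd (nat_lit 59) [Mv.b (nat_lit 621), Mv.b (nat_lit 470), Mv.f (nat_lit 471), Mv.f (nat_lit 620), Mv.f (nat_lit 741)]))) (Tr.nd (nat_lit 744) (Tr.lf (Fc.ed (nat_lit 743) (nat_lit 321) Col.f (nat_lit 378) Dv.df)) (Tr.lf (Fc.ed (nat_lit 744) (nat_lit 378) Col.b (nat_lit 336) (Dv.wd (nat_lit 51) [Mv.b (nat_lit 646), Mv.b (nat_lit 494), Mv.b (nat_lit 472), Mv.f (nat_lit 620), Mv.f (nat_lit 743)]))))) (Tr.nd (nat_lit 747) (Tr.nd (nat_lit 746) (Tr.lf (Fc.ed (nat_lit 745) (nat_lit 322) Col.g (nat_lit 379) Dv.df)) (Tr.lf (Fc.ed (nat_lit 746) (nat_lit 379) Col.c (nat_lit 325) (Dv.wd (nat_lit 14) [Mv.b (nat_lit 627), Mv.f (nat_lit 621), Mv.f (nat_lit 745)])))) (Tr.nd (nat_lit 748) (Tr.lf (Fc.ed (nat_lit 747) (nat_lit 321) Col.g (nat_lit 380) Dv.df)) (Tr.lf (Fc.ed (nat_lit 748) (nat_lit 323) Col.b (nat_lit 381) Dv.df))))))))) (Tr.nd (nat_lit 803) (Tr.nd (nat_lit 776) (Tr.nd (nat_lit 762) (Tr.nd (nat_lit 755) (Tr.nd (nat_lit 752) (Tr.nd (nat_lit 750) (Tr.lf (Fc.ed (nat_lit 749) (nat_lit 324) Col.f (nat_lit 382) Dv.df)) (Tr.nd (nat_lit 751) (Tr.lf (Fc.ed (nat_lit 750) (nat_lit 382) Col.d (nat_lit 331) (Dv.wd (nat_lit 63) [Mv.b (nat_lit 638), Mv.b (nat_lit 626), Mv.f (nat_lit 749)]))) (Tr.lf (Fc.ed (nat_lit 751) (nat_lit 382) Col.b (nat_lit 363) (Dv.wd (nat_lit 51) [Mv.b (nat_lit 712), Mv.f (nat_lit 566), Mv.b (nat_lit 476), Mv.f (nat_lit 625), Mv.f (nat_lit 749)]))))) (Tr.nd (nat_lit 753) (Tr.lf (Fc.ed (nat_lit 752) (nat_lit 324) Col.g (nat_lit 383) Dv.df)) (Tr.nd (nat_lit 754) (Tr.lf (Fc.ed (nat_lit 753) (nat_lit 383) Col.b (nat_lit 325) (Dv.wd (nat_lit 37) [Mv.b (nat_lit 627), Mv.b (nat_lit 470), Mv.f (nat_lit 473), Mv.f (nat_lit 625), Mv.f (nat_lit 752)]))) (Tr.lf (Fc.ed (nat_lit 754) (nat_lit 324) Col.c (nat_lit 384) Dv.df))))) (Tr.nd (nat_lit 758) (Tr.nd (nat_lit 756) (Tr.lf (Fc.ed (nat_lit 755) (nat_lit 325) Col.f (nat_lit 385) Dv.df)) (Tr.nd (nat_lit 757) (Tr.lf (Fc.ed (nat_lit 756) (nat_lit 385) Col.g (nat_lit 328) (Dv.wd (nat_lit 55) [Mv.f (nat_lit 634), Mv.f (nat_lit 739), Mv.f (nat_lit 740), Mv.f (nat_lit 755)]))) (Tr.lf (Fc.ed (nat_lit 757) (nat_lit 327) Col.a (nat_lit 386) Dv.df)))) (Tr.nd (nat_lit 760) (Tr.nd (nat_lit 759) (Tr.lf (Fc.ed (nat_lit 758) (nat_lit 386) Col.c (nat_lit 328) (Dv.wd (nat_lit 35) [Mv.b (nat_lit 632), Mv.f (nat_lit 630), Mv.f (nat_lit 757)]))) (Tr.lf (Fc.ed (nat_lit 759) (nat_lit 386) Col.f (nat_lit 375) (Dv.wd (nat_lit 46) [Mv.f (nat_lit 738), Mv.b (nat_lit 631), Mv.f (nat_lit 757)])))) (Tr.nd (nat_lit 761) (Tr.lf (Fc.ed (nat_lit 760) (nat_lit 329) Col.f (nat_lit 387) Dv.df)) (Tr.lf (Fc.ed (nat_lit 761) (nat_lit 387) Col.b (nat_lit 339) (Dv.wd (nat_lit 51) [Mv.b (nat_lit 651), Mv.b (nat_lit 496), Mv.b (nat_lit 482), Mv.f (nat_lit 635), Mv.f (nat_lit 760)]))))))) (Tr.nd (nat_lit 769) (Tr.nd (nat_lit 765) (Tr.nd (nat_lit 763) (Tr.lf (Fc.ed (nat_lit 762) (nat_lit 334) Col.f (nat_lit 388) Dv.df)) (Tr.nd (nat_lit 764) (Tr.lf (Fc.ed (nat_lit 763) (nat_lit 388) Col.c (nat_lit 355) (Dv.wd (nat_lit 42) [Mv.f (nat_lit 699), Mv.b (nat_lit 644), Mv.f (nat_lit 762)]))) (Tr.lf (Fc.ed (nat_lit 764) (nat_lit 335) Col.a (nat_lit 389) Dv.df)))) (Tr.nd (nat_lit 767) (Tr.nd (nat_lit 766) (Tr.lf (Fc.ed (nat_lit 765) (nat_lit 389) Col.g (nat_lit 334) (Dv.wd (nat_lit 39) [Mv.b (nat_lit 643), Mv.f (nat_lit 645), Mv.f (nat_lit 764)]))) (Tr.lf (Fc.ed (nat_lit 766) (nat_lit 335) Col.f (nat_lit 390) Dv.df))) (Tr.nd (nat_lit 768) (Tr.lf (Fc.ed (nat_lit 767) (nat_lit 390) Col.g (nat_lit 388) (Dv.wd (nat_lit 55) [Mv.b (nat_lit 762), Mv.b (nat_lit 765), Mv.b (nat_lit 764), Mv.f (nat_lit 766)]))) (Tr.lf (Fc.ed (nat_lit 768) (nat_lit 337) Col.g (nat_lit 391) Dv.df))))) (Tr.nd (nat_lit 772) (Tr.nd (nat_lit 770) (Tr.lf (Fc.ed (nat_lit 769) (nat_lit 391) Col.d (nat_lit 338) (Dv.wd (nat_lit 15) [Mv.b (nat_lit 649), Mv.b (nat_lit 648), Mv.f (nat_lit 768)]))) (Tr.nd (nat_lit 771) (Tr.lf (Fc.ed (nat_lit 770) (nat_lit 337) Col.f (nat_lit 392) Dv.df)) (Tr.lf (Fc.ed (nat_lit 771) (nat_lit 392) Col.d (nat_lit 339) (Dv.wd (nat_lit 63) [Mv.b (nat_lit 651), Mv.b (nat_lit 648), Mv.f (nat_lit 770)]))))) (Tr.nd (nat_lit 774) (Tr.nd (nat_lit 773) (Tr.lf (Fc.ed (nat_lit 772) (nat_lit 342) Col.b (nat_lit 393) Dv.df)) (Tr.lf (Fc.ed (nat_lit 773) (nat_lit 393) Col.c (nat_lit 341) (Dv.wd (nat_lit 58) [Mv.b (nat_lit 670), Mv.b (nat_lit 518), Mv.f (nat_lit 520), Mv.f (nat_lit 671), Mv.f (nat_lit 772)])))) (Tr.nd (nat_lit 775) (Tr.lf (Fc.ed (nat_lit 774) (nat_lit 343) Col.g (nat_lit 394) Dv.df)) (Tr.lf (Fc.ed (nat_lit 775) (nat_lit 394) Col.b (nat_lit 385) (Dv.wd (nat_lit 37) [Mv.f (nat_lit 756), Mv.f (nat_lit 728), Mv.b (nat_lit 726), Mv.b (nat_lit 673), Mv.f (nat_lit 774)])))))))) (Tr.nd (nat_lit 789) (Tr.nd (nat_lit 782) (Tr.nd (nat_lit 779) (Tr.nd (nat_lit 777) (Tr.lf (Fc.ed (nat_lit 776) (nat_lit 348) Col.d (nat_lit 395) Dv.df)) (Tr.nd (nat_lit 778) (Tr.lf (Fc.ed (nat_lit 777) (nat_lit 395) Col.a (nat_lit 352) (Dv.wd (nat_lit 26) [Mv.f (nat_lit 693), Mv.f (nat_lit 682), Mv.f (nat_lit 776)]))) (Tr.lf (Fc.ed (nat_lit 778) (nat_lit 349) Col.b (nat_lit 396) Dv.df)))) (Tr.nd (nat_lit 780) (Tr.lf (Fc.ed (nat_lit 779) (nat_lit 396) Col.d (nat_lit 393) (Dv.wd (nat_lit 19) [Mv.b (nat_lit 772), Mv.b (nat_lit 685), Mv.f (nat_lit 778)]))) (Tr.nd (nat_lit 781) (Tr.lf (Fc.ed (nat_lit 780) (nat_lit 347) Col.d (nat_lit 397) Dv.df)) (Tr.lf (Fc.ed (nat_lit 781) (nat_lit 397) Col.b (nat_lit 357) (Dv.wd (nat_lit 27) [Mv.b (nat_lit 702), Mv.b (nat_lit 681), Mv.f (nat_lit 780)])))))) (Tr.nd (nat_lit 785) (Tr.nd (nat_lit 783) (Tr.lf (Fc.ed (nat_lit 782) (nat_lit 353) Col.f (nat_lit 398) Dv.df)) (Tr.nd (nat_lit 784) (Tr.lf (Fc.ed (nat_lit 783) (nat_lit 398) Col.e (nat_lit 355) (Dv.wd (nat_lit 40) [Mv.f (nat_lit 699), Mv.b (nat_lit 695), Mv.f (nat_lit 782)]))) (Tr.lf (Fc.ed (nat_lit 784) (nat_lit 358) Col.f (nat_lit 399) Dv.df)))) (Tr.nd (nat_lit 787) (Tr.nd (nat_lit 786) (Tr.lf (Fc.ed (nat_lit 785) (nat_lit 358) Col.c (nat_lit 400) Dv.df)) (Tr.lf (Fc.ed (nat_lit 786) (nat_lit 400) Col.b (nat_lit 366) (Dv.wd (nat_lit 59) [Mv.b (nat_lit 718), Mv.f (nat_lit 566), Mv.b (nat_lit 561), Mv.f (nat_lit 704), Mv.f (nat_lit 785)])))) (Tr.nd (nat_lit 788) (Tr.lf (Fc.ed (nat_lit 787) (nat_lit 358) Col.a (nat_lit 401) Dv.df)) (Tr.lf (Fc.ed (nat_lit 788) (nat_lit 359) Col.a (nat_lit 402) Dv.df)))))) (Tr.nd (nat_lit 796) (Tr.nd (nat_lit 792) (Tr.nd (nat_lit 790) (Tr.lf (Fc.ed (nat_lit 789) (nat_lit 402) Col.c (nat_lit 360) (Dv.wd (nat_lit 35) [Mv.b (nat_lit 706), Mv.f (nat_lit 705), Mv.f (nat_lit 788)]))) (Tr.nd (nat_lit 791) (Tr.lf (Fc.ed (nat_lit 790) (nat_lit 402) Col.d (nat_lit 372) (Dv.wd (nat_lit 73) [Mv.b (nat_lit 731), Mv.b (nat_lit 587), Mv.f (nat_lit 438), Mv.f (nat_lit 378), Mv.f (nat_lit 417), Mv.f (nat_lit 557), Mv.f (nat_lit 705), Mv.f (nat_lit 788)]))) (Tr.lf (Fc.ed (nat_lit 791) (nat_lit 402) Col.b (nat_lit 402) (Dv.wd (nat_lit 22) [Mv.f (nat_lit 790), Mv.f (nat_lit 732), Mv.b (nat_lit 790)]))))) (Tr.nd (nat_lit 794) (Tr.nd (nat_lit 793) (Tr.lf (Fc.ed (nat_lit 792) (nat_lit 360) Col.b (nat_lit 403) Dv.df)) (Tr.lf (Fc.ed (nat_lit 793) (nat_lit 403) Col.d (nat_lit 361) (Dv.wd (nat_lit 19) [Mv.b (nat_lit 708), Mv.b (nat_lit 707), Mv.f (nat_lit 792)])))) (Tr.nd (nat_lit 795) (Tr.lf (Fc.ed (nat_lit 794) (nat_lit 403) Col.c (nat_lit 403) (Dv.wd (nat_lit 58) [Mv.b (nat_lit 792), Mv.b (nat_lit 789), Mv.f (nat_lit 791), Mv.f (nat_lit 789), Mv.f (nat_lit 792)]))) (Tr.lf (Fc.ed (nat_lit 795) (nat_lit 361) Col.a (nat_lit 361) (Dv.wd (nat_lit 86) [Mv.f (nat_lit 709), Mv.b (nat_lit 793), Mv.f (nat_lit 794), Mv.f (nat_lit 793), Mv.f (nat_lit 709), Mv.b (nat_lit 793), Mv.f (nat_lit 794), Mv.f (nat_lit 793)])))))) (Tr.nd (nat_lit 799) (Tr.nd (nat_lit 797) (Tr.lf (Fc.al (nat_lit 796) (nat_lit 395) (nat_lit 270) (Dv.wd (nat_lit 87) [Mv.f (nat_lit 528), Mv.f (nat_lit 555), Mv.f (nat_lit 708), Mv.f (nat_lit 795), Mv.b (nat_lit 708), Mv.b (nat_lit 555), Mv.b (nat_lit 528), Mv.b (nat_lit 545), Mv.f (nat_lit 692), Mv.b (nat_lit 777)]))) (Tr.nd (nat_lit 798) (Tr.lf (Fc.al (nat_lit 797) (nat_lit 280) (nat_lit 352) (Dv.wd (nat_lit 88) [Mv.b (nat_lit 777), Mv.f (nat_lit 796), Mv.b (nat_lit 545)]))) (Tr.lf (Fc.al (nat_lit 798) (nat_lit 201) (nat_lit 278) (Dv.wd (nat_lit 78) [Mv.b (nat_lit 693), Mv.b (nat_lit 797), Mv.b (nat_lit 544)]))))) (Tr.nd (nat_lit 801) (Tr.nd (nat_lit 800) (Tr.lf (Fc.al (nat_lit 799) (nat_lit 128) (nat_lit 268) (Dv.wd (nat_lit 81) [Mv.b (nat_lit 541), Mv.b (nat_lit 798), Mv.b (nat_lit 404)]))) (Tr.lf (Fc.al (nat_lit 800) (nat_lit 117) (nat_lit 189) (Dv.wd (nat_lit 62) [Mv.f (nat_lit 525), Mv.b (nat_lit 799), Mv.f (nat_lit 265)])))) (Tr.nd (nat_lit 802) (Tr.lf (Fc.al (nat_lit 801) (nat_lit 132) (nat_lit 208) (Dv.wd (nat_lit 82) [Mv.f (nat_lit 416), Mv.b (nat_lit 800), Mv.b (nat_lit 272)]))) (Tr.lf (Fc.al (nat_lit 802) (nat_lit 190) (nat_lit 265) (Dv.wd (nat_lit 89) [Mv.f (nat_lit 519), Mv.b (nat_lit 800), Mv.f (nat_lit 385)]))))))))) (Tr.nd (nat_lit 830) (Tr.nd (nat_lit 816) (Tr.nd (nat_lit 809) (Tr.nd (nat_lit 806) (Tr.nd (nat_lit 804) (Tr.lf (Fc.al (nat_lit 803) (nat_lit 158) (nat_lit 285) (Dv.wd (nat_lit 62) [Mv.b (nat_lit 553), Mv.b (nat_lit 801), Mv.b (nat_lit 325)]))) (Tr.nd (nat_lit 805) (Tr.lf (Fc.al (nat_lit 804) (nat_lit 266) (nat_lit 341) (Dv.wd (nat_lit 62) [Mv.b (nat_lit 670), Mv.b (nat_lit 802), Mv.f (nat_lit 520)]))) (Tr.lf (Fc.al (nat_lit 805) (nat_lit 237) (nat_lit 319) (Dv.wd (nat_lit 81) [Mv.f (nat_lit 618), Mv.b (nat_lit 803), Mv.f (nat_lit 467)]))))) (Tr.nd (nat_lit 807) (Tr.lf (Fc.al (nat_lit 806) (nat_lit 342) (nat_lit 393) (Dv.wd (nat_lit 81) [Mv.f (nat_lit 773), Mv.b (nat_lit 804), Mv.f (nat_lit 671)]))) (Tr.nd (nat_lit 808) (Tr.lf (Fc.al (nat_lit 807) (nat_lit 230) (nat_lit 309) (Dv.wd (nat_lit 78) [Mv.b (nat_lit 669), Mv.b (nat_lit 805), Mv.b (nat_lit 668)]))) (Tr.lf (Fc.ed (nat_lit 808) (nat_lit 342) Col.b (nat_lit 342) (Dv.wd (nat_lit 62) [Mv.f (nat_lit 772), Mv.b (nat_lit 806)])))))) (Tr.nd (nat_lit 812) (Tr.nd (nat_lit 810) (Tr.lf (Fc.al (nat_lit 809) (nat_lit 349) (nat_lit 396) (Dv.wd (nat_lit 78) [Mv.f (nat_lit 779), Mv.b (nat_lit 806), Mv.b (nat_lit 685)]))) (Tr.nd (nat_lit 811) (Tr.lf (Fc.al (nat_lit 810) (nat_lit 314) (nat_lit 373) (Dv.wd (nat_lit 76) [Mv.b (nat_lit 733), Mv.b (nat_lit 807), Mv.f (nat_lit 608)]))) (Tr.lf (Fc.ed (nat_lit 811) (nat_lit 349) Col.b (nat_lit 349) (Dv.wd (nat_lit 62) [Mv.f (nat_lit 778), Mv.b (nat_lit 809)]))))) (Tr.nd (nat_lit 814) (Tr.nd (nat_lit 813) (Tr.lf (Fc.ed (nat_lit 812) (nat_lit 314) Col.b (nat_lit 314) (Dv.wd (nat_lit 62) [Mv.b (nat_lit 734), Mv.b (nat_lit 810)]))) (Tr.lf (Fc.al (nat_lit 813) (nat_lit 398) (nat_lit 260) (Dv.wd (nat_lit 90) [Mv.f (nat_lit 508), Mv.b (nat_lit 445), Mv.b (nat_lit 568), Mv.f (nat_lit 569), Mv.b (nat_lit 610), Mv.f (nat_lit 812), Mv.f (nat_lit 609), Mv.b (nat_lit 597), Mv.b (nat_lit 596), Mv.f (nat_lit 445), Mv.b (nat_lit 507), Mv.f (nat_lit 509), Mv.f (nat_lit 398), Mv.b (nat_lit 298), Mv.f (nat_lit 297), Mv.f (nat_lit 299), Mv.b (nat_lit 414), Mv.b (nat_lit 550), Mv.f (nat_lit 694), Mv.f (nat_lit 782)])))) (Tr.nd (nat_lit 815) (Tr.lf (Fc.al (nat_lit 814) (nat_lit 182) (nat_lit 355) (Dv.wd (nat_lit 76) [Mv.b (nat_lit 783), Mv.f (nat_lit 813), Mv.b (nat_lit 506)]))) (Tr.lf (Fc.al (nat_lit 815) (nat_lit 121) (nat_lit 388) (Dv.wd (nat_lit 81) [Mv.f (nat_lit 763), Mv.b (nat_lit 814), Mv.f (nat_lit 370)]))))))) (Tr.nd (nat_lit 823) (Tr.nd (nat_lit 819) (Tr.nd (nat_lit 817) (Tr.lf (Fc.al (nat_lit 816) (nat_lit 151) (nat_lit 356) (Dv.wd (nat_lit 89) [Mv.f (nat_lit 701), Mv.b (nat_lit 814), Mv.f (nat_lit 371)]))) (Tr.nd (nat_lit 818) (Tr.lf (Fc.al (nat_lit 817) (nat_lit 187) (nat_lit 390) (Dv.wd (nat_lit 89) [Mv.f (nat_lit 767), Mv.b (nat_lit 815), Mv.f (nat_lit 380)]))) (Tr.lf (Fc.al (nat_lit 818) (nat_lit 81) (nat_lit 286) (Dv.wd (nat_lit 82) [Mv.f (nat_lit 700), Mv.b (nat_lit 816), Mv.b (nat_lit 312)]))))) (Tr.nd (nat_lit 821) (Tr.nd (nat_lit 820) (Tr.lf (Fc.al (nat_lit 819) (nat_lit 141) (nat_lit 335) (Dv.wd (nat_lit 82) [Mv.f (nat_lit 766), Mv.b (nat_lit 817), Mv.f (nat_lit 381)]))) (Tr.lf (Fc.al (nat_lit 820) (nat_lit 149) (nat_lit 344) (Dv.wd (nat_lit 62) [Mv.f (nat_lit 675), Mv.b (nat_lit 818), Mv.f (nat_lit 308)])))) (Tr.nd (nat_lit 822) (Tr.lf (Fc.al (nat_lit 821) (nat_lit 211) (nat_lit 338) (Dv.wd (nat_lit 62) [Mv.f (nat_lit 650), Mv.b (nat_lit 819), Mv.f (nat_lit 420)]))) (Tr.lf (Fc.al (nat_lit 822) (nat_lit 228) (nat_lit 368) (Dv.wd (nat_lit 81) [Mv.f (nat_lit 723), Mv.b (nat_lit 820), Mv.f (nat_lit 451)])))))) (Tr.nd (nat_lit 826) (Tr.nd (nat_lit 824) (Tr.lf (Fc.al (nat_lit 823) (nat_lit 145) (nat_lit 391) (Dv.wd (nat_lit 78) [Mv.f (nat_lit 769), Mv.b (nat_lit 821), Mv.f (nat_lit 421)]))) (Tr.nd (nat_lit 825) (Tr.lf (Fc.al (nat_lit 824) (nat_lit 289) (nat_lit 297) (Dv.wd (nat_lit 89) [Mv.f (nat_lit 722), Mv.b (nat_lit 822), Mv.b (nat_lit 559)]))) (Tr.lf (Fc.al (nat_lit 825) (nat_lit 219) (nat_lit 337) (Dv.wd (nat_lit 89) [Mv.f (nat_lit 768), Mv.b (nat_lit 823), Mv.f (nat_lit 435)]))))) (Tr.nd (nat_lit 828) (Tr.nd (nat_lit 827) (Tr.lf (Fc.al (nat_lit 826) (nat_lit 347) (nat_lit 210) (Dv.wd (nat_lit 62) [Mv.f (nat_lit 574), Mv.b (nat_lit 824), Mv.b (nat_lit 681)]))) (Tr.lf (Fc.al (nat_lit 827) (nat_lit 303) (nat_lit 392) (Dv.wd (nat_lit 82) [Mv.b (nat_lit 770), Mv.b (nat_lit 825), Mv.f (nat_lit 585)])))) (Tr.nd (nat_lit 829) (Tr.lf (Fc.al (nat_lit 828) (nat_lit 296) (nat_lit 397) (Dv.wd (nat_lit 78) [Mv.b (nat_lit 780), Mv.f (nat_lit 826), Mv.f (nat_lit 573)]))) (Tr.lf (Fc.ed (nat_lit 829) (nat_lit 303) Col.d (nat_lit 339) (Dv.wd (nat_lit 78) [Mv.b (nat_lit 771), Mv.b (nat_lit 827)])))))))) (Tr.nd (nat_lit 843) (Tr.nd (nat_lit 836) (Tr.nd (nat_lit 833) (Tr.nd (nat_lit 831) (Tr.lf (Fc.ed (nat_lit 830) (nat_lit 296) Col.b (nat_lit 357) (Dv.wd (nat_lit 62) [Mv.b (nat_lit 781), Mv.b (nat_lit 828)]))) (Tr.nd (nat_lit 832) (Tr.lf (Fc.ed (nat_lit 831) (nat_lit 374) Col.a (nat_lit 374) (Dv.wd (nat_lit 91) [Mv.b (nat_lit 735), Mv.f (nat_lit 604), Mv.f (nat_lit 830), Mv.f (nat_lit 703), Mv.f (nat_lit 808), Mv.b (nat_lit 703), Mv.b (nat_lit 830), Mv.b (nat_lit 604), Mv.f (nat_lit 735)]))) (Tr.lf (Fc.al (nat_lit 832) (nat_lit 401) (nat_lit 358) (Dv.wd (nat_lit 92) [Mv.b (nat_lit 736), Mv.f (nat_lit 831), Mv.f (nat_lit 736), Mv.f (nat_lit 787)]))))) (Tr.nd (nat_lit 834) (Tr.lf (Fc.ed (nat_lit 833) (nat_lit 358) Col.a (nat_lit 358) (Dv.wd (nat_lit 88) [Mv.f (nat_lit 787), Mv.f (nat_lit 832)]))) (Tr.nd (nat_lit 835) (Tr.lf (Fc.al (nat_lit 834) (nat_lit 399) (nat_lit 400) (Dv.wd (nat_lit 93) [Mv.b (nat_lit 785), Mv.b (nat_lit 704), Mv.b (nat_lit 560), Mv.b (nat_lit 564), Mv.b (nat_lit 563), Mv.b (nat_lit 547), Mv.b (nat_lit 593), Mv.f (nat_lit 594), Mv.f (nat_lit 683), Mv.f (nat_lit 811), Mv.f (nat_lit 684), Mv.b (nat_lit 691), Mv.b (nat_lit 690), Mv.f (nat_lit 547), Mv.b (nat_lit 474), Mv.f (nat_lit 476), Mv.b (nat_lit 561), Mv.f (nat_lit 704), Mv.f (nat_lit 833), Mv.f (nat_lit 784)]))) (Tr.lf (Fc.ed (nat_lit 835) (nat_lit 399) Col.b (nat_lit 366) (Dv.wd (nat_lit 62) [Mv.b (nat_lit 786), Mv.b (nat_lit 834)])))))) (Tr.nd (nat_lit 839) (Tr.nd (nat_lit 837) (Tr.lf (Fc.ed (nat_lit 836) (nat_lit 366) Col.f (nat_lit 381) (Dv.wd (nat_lit 64) [Mv.b (nat_lit 748), Mv.f (nat_lit 624), Mv.f (nat_lit 704), Mv.f (nat_lit 784), Mv.f (nat_lit 835)]))) (Tr.nd (nat_lit 838) (Tr.lf (Fc.ed (nat_lit 837) (nat_lit 381) Col.c (nat_lit 363) (Dv.wd (nat_lit 42) [Mv.b (nat_lit 712), Mv.f (nat_lit 718), Mv.f (nat_lit 836)]))) (Tr.lf (Fc.al (nat_lit 838) (nat_lit 382) (nat_lit 384) (Dv.wd (nat_lit 58) [Mv.b (nat_lit 754), Mv.b (nat_lit 625), Mv.b (nat_lit 623), Mv.f (nat_lit 748), Mv.f (nat_lit 837), Mv.b (nat_lit 751)]))))) (Tr.nd (nat_lit 841) (Tr.nd (nat_lit 840) (Tr.lf (Fc.ed (nat_lit 839) (nat_lit 382) Col.c (nat_lit 324) (Dv.wd (nat_lit 81) [Mv.f (nat_lit 754), Mv.b (nat_lit 838)]))) (Tr.lf (Fc.ed (nat_lit 840) (nat_lit 387) Col.d (nat_lit 371) (Dv.wd (nat_lit 19) [Mv.b (nat_lit 729), Mv.f (nat_lit 829), Mv.b (nat_lit 761)])))) (Tr.nd (nat_lit 842) (Tr.lf (Fc.ed (nat_lit 841) (nat_lit 382) Col.g (nat_lit 387) (Dv.wd (nat_lit 49) [Mv.f (nat_lit 840), Mv.f (nat_lit 730), Mv.b (nat_lit 750)]))) (Tr.lf (Fc.ed (nat_lit 842) (nat_lit 387) Col.c (nat_lit 383) (Dv.wd (nat_lit 14) [Mv.b (nat_lit 752), Mv.b (nat_lit 839), Mv.f (nat_lit 841)]))))))) (Tr.nd (nat_lit 850) (Tr.nd (nat_lit 846) (Tr.nd (nat_lit 844) (Tr.lf (Fc.al (nat_lit 843) (nat_lit 379) (nat_lit 378) (Dv.wd (nat_lit 21) [Mv.f (nat_lit 744), Mv.b (nat_lit 652), Mv.b (nat_lit 761), Mv.f (nat_lit 842), Mv.f (nat_lit 753), Mv.b (nat_lit 746)]))) (Tr.nd (nat_lit 845) (Tr.lf (Fc.ed (nat_lit 844) (nat_lit 378) Col.g (nat_lit 322) (Dv.wd (nat_lit 89) [Mv.f (nat_lit 745), Mv.f (nat_lit 843)]))) (Tr.lf (Fc.al (nat_lit 845) (nat_lit 386) (nat_lit 380) (Dv.wd (nat_lit 55) [Mv.b (nat_lit 747), Mv.f (nat_lit 743), Mv.f (nat_lit 844), Mv.b (nat_lit 738), Mv.b (nat_lit 759)]))))) (Tr.nd (nat_lit 848) (Tr.nd (nat_lit 847) (Tr.lf (Fc.ed (nat_lit 846) (nat_lit 380) Col.c (nat_lit 328) (Dv.wd (nat_lit 81) [Mv.b (nat_lit 758), Mv.f (nat_lit 845)]))) (Tr.lf (Fc.al (nat_lit 847) (nat_lit 385) (nat_lit 377) (Dv.wd (nat_lit 94) [Mv.b (nat_lit 741), Mv.f (nat_lit 747), Mv.f (nat_lit 846), Mv.b (nat_lit 756)])))) (Tr.nd (nat_lit 849) (Tr.lf (Fc.al (nat_lit 848) (nat_lit 322) (nat_lit 394) (Dv.wd (nat_lit 62) [Mv.f (nat_lit 775), Mv.f (nat_lit 847), Mv.f (nat_lit 742)]))) (Tr.lf (Fc.al (nat_lit 849) (nat_lit 378) (nat_lit 343) (Dv.wd (nat_lit 89) [Mv.f (nat_lit 774), Mv.b (nat_lit 848), Mv.b (nat_lit 844)])))))) (Tr.nd (nat_lit 853) (Tr.nd (nat_lit 851) (Tr.lf (Fc.al (nat_lit 850) (nat_lit 301) (nat_lit 336) (Dv.wd (nat_lit 62) [Mv.b (nat_lit 744), Mv.f (nat_lit 849), Mv.f (nat_lit 673)]))) (Tr.nd (nat_lit 852) (Tr.lf (Fc.al (nat_lit 851) (nat_lit 369) (nat_lit 339) (Dv.wd (nat_lit 81) [Mv.f (nat_lit 652), Mv.b (nat_lit 850), Mv.b (nat_lit 725)]))) (Tr.lf (Fc.al (nat_lit 852) (nat_lit 254) (nat_lit 299) (Dv.wd (nat_lit 82) [Mv.f (nat_lit 724), Mv.f (nat_lit 851), Mv.b (nat_lit 651)]))))) (Tr.nd (nat_lit 855) (Tr.nd (nat_lit 854) (Tr.lf (Fc.al (nat_lit 853) (nat_lit 175) (nat_lit 228) (Dv.wd (nat_lit 62) [Mv.b (nat_lit 579), Mv.b (nat_lit 852), Mv.b (nat_lit 496)]))) (Tr.lf (Fc.al (nat_lit 854) (nat_lit 92) (nat_lit 149) (Dv.wd (nat_lit 81) [Mv.f (nat_lit 451), Mv.b (nat_lit 853), Mv.b (nat_lit 353)])))) (Tr.nd (nat_lit 856) (Tr.lf (Fc.al (nat_lit 855) (nat_lit 30) (nat_lit 93) (Dv.wd (nat_lit 78) [Mv.b (nat_lit 309), Mv.b (nat_lit 854), Mv.b (nat_lit 182)]))) (Tr.lf (Fc.ed (nat_lit 856) (nat_lit 30) Col.b (nat_lit 25) (Dv.wd (nat_lit 62) [Mv.f (nat_lit 183), Mv.b (nat_lit 855)])))))))))))))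
noncomputable def mini5A : Tr (Alt Col) := (Tr.nd (nat_lit 47) (Tr.nd (nat_lit 23) (Tr.nd (nat_lit 11) (Tr.nd (nat_lit 5) (Tr.nd (nat_lit 2) (Tr.nd (nat_lit 1) (Tr.lf (Alt.base (nat_lit 1) [] [Col.b])) (Tr.lf (Alt.base (nat_lit 2) [] [Col.c]))) (Tr.nd (nat_lit 3) (Tr.lf (Alt.base (nat_lit 3) [] [Col.d])) (Tr.nd (nat_lit 4) (Tr.lf (Alt.base (nat_lit 4) [] [Col.e])) (Tr.lf (Alt.base (nat_lit 6) [Col.g, Col.b, Col.a, Col.f] [Col.b, Col.a, Col.b, Col.g]))))) (Tr.nd (nat_lit 8) (Tr.nd (nat_lit 6) (Tr.lf (Alt.base (nat_lit 7) [Col.g, Col.b, Col.a, Col.b, Col.c, Col.b, Col.a, Col.g, Col.b] [Col.c, Col.a, Col.b, Col.g])) (Tr.nd (nat_lit 7) (Tr.lf (Alt.base (nat_lit 8) [Col.g, Col.b, Col.c, Col.d, Col.f, Col.b, Col.g] [Col.c, Col.b, Col.f, Col.d, Col.c, Col.b, Col.g])) (Tr.lf (Alt.base (nat_lit 9) [Col.g, Col.b, Col.a, Col.c,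 Col.b, Col.d, Col.e, Col.g, Col.f, Col.b, Col.c] [Col.d, Col.c, Col.b, Col.f, Col.g, Col.e, Col.d, Col.b, Col.c, Col.a, Col.b, Col.g])))) (Tr.nd (nat_lit 9) (Tr.lf (Alt.base (nat_lit 10) [Col.g, Col.b, Col.c, Col.d, Col.c, Col.b, Col.e, Col.d, Col.c, Col.g, Col.b] [Col.a, Col.b, Col.g, Col.c, Col.d, Col.e, Col.b, Col.c, Col.d, Col.c, Col.b, Col.g])) (Tr.nd (nat_lit 10) (Tr.lf (Alt.word (nat_lit 2) (nat_lit 1) true [Col.a, Col.c, Col.a, Col.c])) (Tr.lf (Alt.word (nat_lit 16) (nat_lit 0) true [Col.f, Col.c, Col.f, Col.c])))))) (Tr.nd (nat_lit 17) (Tr.nd (nat_lit 14) (Tr.nd (nat_lit 12) (Tr.lf (Alt.word (nat_lit 12) (nat_lit 2) true [Col.g, Col.b, Col.g, Col.b, Col.g, Col.b])) (Tr.nd (nat_lit 13) (Tr.lf (Alt.word (nat_lit 17) (nat_lit 2) true [Col.g, Col.c, Col.g, Col.c])) (Tr.lf (Alt.word (nat_lit 21) (nat_lit 2) true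 [Col.g, Col.d, Col.g, Col.d])))) (Tr.nd (nat_lit 15) (Tr.lf (Alt.word (nat_lit 17) (nat_lit 1) true [Col.c, Col.g, Col.c, Col.g])) (Tr.nd (nat_lit 16) (Tr.lf (Alt.word (nat_lit 21) (nat_lit 1) true [Col.d, Col.g, Col.d, Col.g])) (Tr.lf (Alt.word (nat_lit 24) (nat_lit 1) true [Col.e, Col.g, Col.e, Col.g]))))) (Tr.nd (nat_lit 20) (Tr.nd (nat_lit 18) (Tr.lf (Alt.word (nat_lit 10) (nat_lit 2) true [Col.e, Col.b, Col.e, Col.b])) (Tr.nd (nat_lit 19) (Tr.lf (Alt.word (nat_lit 15) (nat_lit 2) true [Col.e, Col.c, Col.e, Col.c])) (Tr.lf (Alt.word (nat_lit 9) (nat_lit 2) true [Col.d, Col.b, Col.d, Col.b])))) (Tr.nd (nat_lit 21) (Tr.lf (Alt.word (nat_lit 3) (nat_lit 2) true [Col.d, Col.a, Col.d, Col.a])) (Tr.nd (nat_lit 22) (Tr.lf (Alt.word (nat_lit 8) (nat_lit 3) true [Col.b, Col.c, Col.b, Col.c, Col.b, Col.c])) (Tr.lf (Alt.word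 (nat_lit 9) (nat_lit 3) true [Col.b, Col.d, Col.b, Col.d]))))))) (Tr.nd (nat_lit 35) (Tr.nd (nat_lit 29) (Tr.nd (nat_lit 26) (Tr.nd (nat_lit 24) (Tr.lf (Alt.word (nat_lit 8) (nat_lit 4) true [Col.c, Col.b, Col.c, Col.b, Col.c, Col.b])) (Tr.nd (nat_lit 25) (Tr.lf (Alt.word (nat_lit 15) (nat_lit 3) true [Col.c, Col.e, Col.c, Col.e])) (Tr.lf (Alt.word (nat_lit 5) (nat_lit 1) true [Col.a, Col.f, Col.a, Col.f])))) (Tr.nd (nat_lit 27) (Tr.lf (Alt.word (nat_lit 3) (nat_lit 1) true [Col.a, Col.d, Col.a, Col.d])) (Tr.nd (nat_lit 28) (Tr.lf (Alt.word (nat_lit 9) (nat_lit 1) true [Col.b, Col.d, Col.b, Col.d])) (Tr.lf (Alt.word (nat_lit 29) (nat_lit 2) true [Col.f, Col.g, Col.a, Col.f, Col.g]))))) (Tr.nd (nat_lit 32) (Tr.nd (nat_lit 30) (Tr.lf (Alt.word (nat_lit 20) (nat_lit 3) true [Col.d, Col.f, Col.d, Col.f])) (Tr.nd (nat_lit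 31) (Tr.lf (Alt.word (nat_lit 20) (nat_lit 2) true [Col.f, Col.d, Col.f, Col.d])) (Tr.lf (Alt.word (nat_lit 3) (nat_lit 3) true [Col.a, Col.d, Col.a, Col.d])))) (Tr.nd (nat_lit 33) (Tr.lf (Alt.word (nat_lit 19) (nat_lit 1) true [Col.d, Col.e, Col.d, Col.e, Col.d, Col.e])) (Tr.nd (nat_lit 34) (Tr.lf (Alt.word (nat_lit 4) (nat_lit 2) true [Col.e, Col.a, Col.e, Col.a])) (Tr.lf (Alt.word (nat_lit 4) (nat_lit 3) true [Col.a, Col.e, Col.a, Col.e])))))) (Tr.nd (nat_lit 41) (Tr.nd (nat_lit 38) (Tr.nd (nat_lit 36) (Tr.lf (Alt.word (nat_lit 2) (nat_lit 2) true [Col.c, Col.a, Col.c, Col.a])) (Tr.nd (nat_lit 37) (Tr.lf (Alt.word (nat_lit 28) (nat_lit 7) true [Col.d, Col.a, Col.c, Col.d, Col.c, Col.d, Col.c, Col.d, Col.c])) (Tr.lf (Alt.word (nat_lit 12) (nat_lit 1) true [Col.b, Col.g, Col.b, Col.g, Col.b, Col.g])))) (Tr.nd (nat_lit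 39) (Tr.lf (Alt.word (nat_lit 16) (nat_lit 2) true [Col.f, Col.c, Col.f, Col.c])) (Tr.nd (nat_lit 40) (Tr.lf (Alt.word (nat_lit 6) (nat_lit 2) true [Col.g, Col.a, Col.g, Col.a])) (Tr.lf (Alt.word (nat_lit 23) (nat_lit 1) true [Col.e, Col.f, Col.e, Col.f]))))) (Tr.nd (nat_lit 44) (Tr.nd (nat_lit 42) (Tr.lf (Alt.word (nat_lit 24) (nat_lit 0) true [Col.g, Col.e, Col.g, Col.e])) (Tr.nd (nat_lit 43) (Tr.lf (Alt.word (nat_lit 16) (nat_lit 1) true [Col.c, Col.f, Col.c, Col.f])) (Tr.lf (Alt.word (nat_lit 29) (nat_lit 4) true [Col.a, Col.f, Col.g, Col.f, Col.g])))) (Tr.nd (nat_lit 45) (Tr.lf (Alt.word (nat_lit 23) (nat_lit 2) true [Col.f, Col.e, Col.f, Col.e])) (Tr.nd (nat_lit 46) (Tr.lf (Alt.word (nat_lit 12) (nat_lit 5) true [Col.b, Col.g, Col.b, Col.g, Col.b, Col.g])) (Tr.lf (Alt.word (nat_lit 5) (nat_lit 2) true [Col.f,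 Col.a, Col.f, Col.a])))))))) (Tr.nd (nat_lit 71) (Tr.nd (nat_lit 59) (Tr.nd (nat_lit 53) (Tr.nd (nat_lit 50) (Tr.nd (nat_lit 48) (Tr.lf (Alt.word (nat_lit 10) (nat_lit 1) true [Col.b, Col.e, Col.b, Col.e])) (Tr.nd (nat_lit 49) (Tr.lf (Alt.word (nat_lit 6) (nat_lit 1) true [Col.a, Col.g, Col.a, Col.g])) (Tr.lf (Alt.word (nat_lit 21) (nat_lit 0) true [Col.g, Col.d, Col.g, Col.d])))) (Tr.nd (nat_lit 51) (Tr.lf (Alt.word (nat_lit 12) (nat_lit 3) true [Col.b, Col.g, Col.b, Col.g, Col.b, Col.g])) (Tr.nd (nat_lit 52) (Tr.lf (Alt.word (nat_lit 11) (nat_lit 1) true [Col.b, Col.f, Col.b, Col.f, Col.b, Col.f])) (Tr.lf (Alt.word (nat_lit 15) (nat_lit 1) true [Col.c, Col.e, Col.c, Col.e]))))) (Tr.nd (nat_lit 56) (Tr.nd (nat_lit 54) (Tr.lf (Alt.word (nat_lit 24) (nat_lit 2) true [Col.g, Col.e, Col.g, Col.e])) (Tr.nd (nat_lit 55)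 (Tr.lf (Alt.word (nat_lit 10) (nat_lit 3) true [Col.b, Col.e, Col.b, Col.e])) (Tr.lf (Alt.word (nat_lit 29) (nat_lit 1) true [Col.g, Col.f, Col.g, Col.a, Col.f])))) (Tr.nd (nat_lit 57) (Tr.lf (Alt.word (nat_lit 8) (nat_lit 5) true [Col.b, Col.c, Col.b, Col.c, Col.b, Col.c])) (Tr.nd (nat_lit 58) (Tr.lf (Alt.word (nat_lit 28) (nat_lit 0) false [Col.a, Col.d, Col.c, Col.d, Col.c, Col.d, Col.c, Col.d, Col.c])) (Tr.lf (Alt.word (nat_lit 8) (nat_lit 2) true [Col.c, Col.b, Col.c, Col.b, Col.c, Col.b])))))) (Tr.nd (nat_lit 65) (Tr.nd (nat_lit 62) (Tr.nd (nat_lit 60) (Tr.lf (Alt.word (nat_lit 8) (nat_lit 1) true [Col.b, Col.c, Col.b, Col.c, Col.b, Col.c])) (Tr.nd (nat_lit 61) (Tr.lf (Alt.word (nat_lit 11) (nat_lit 5) true [Col.b, Col.f, Col.b, Col.f, Col.b, Col.f])) (Tr.lf (Alt.word (nat_lit 30) (nat_lit 19) true [Col.a,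 Col.f, Col.c, Col.b, Col.a, Col.f, Col.c, Col.b, Col.a, Col.f, Col.c, Col.b, Col.a, Col.f, Col.c, Col.b, Col.a, Col.f, Col.c, Col.b])))) (Tr.nd (nat_lit 63) (Tr.lf (Alt.word (nat_lit 7) (nat_lit 0) true [Col.b, Col.b])) (Tr.nd (nat_lit 64) (Tr.lf (Alt.word (nat_lit 20) (nat_lit 1) true [Col.d, Col.f, Col.d, Col.f])) (Tr.lf (Alt.word (nat_lit 11) (nat_lit 2) true [Col.f, Col.b, Col.f, Col.b, Col.f, Col.b]))))) (Tr.nd (nat_lit 68) (Tr.nd (nat_lit 66) (Tr.lf (Alt.word (nat_lit 30) (nat_lit 3) true [Col.a, Col.f, Col.c, Col.b, Col.a, Col.f, Col.c, Col.b, Col.a, Col.f, Col.c, Col.b, Col.a, Col.f, Col.c, Col.b, Col.a, Col.f, Col.c, Col.b])) (Tr.nd (nat_lit 67) (Tr.lf (Alt.word (nat_lit 29) (nat_lit 3) true [Col.g, Col.a, Col.f, Col.g, Col.f])) (Tr.lf (Alt.word (nat_lit 28) (nat_lit 2) true [Col.c, Col.d, Col.c, Col.d,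 Col.c, Col.d, Col.a, Col.c, Col.d])))) (Tr.nd (nat_lit 69) (Tr.lf (Alt.word (nat_lit 4) (nat_lit 1) true [Col.a, Col.e, Col.a, Col.e])) (Tr.nd (nat_lit 70) (Tr.lf (Alt.word (nat_lit 28) (nat_lit 1) true [Col.d, Col.c, Col.d, Col.c, Col.d, Col.c, Col.d, Col.a, Col.c])) (Tr.lf (Alt.word (nat_lit 1) (nat_lit 2) true [Col.b, Col.a, Col.b, Col.a, Col.b, Col.a, Col.b, Col.a, Col.b, Col.a]))))))) (Tr.nd (nat_lit 83) (Tr.nd (nat_lit 77) (Tr.nd (nat_lit 74) (Tr.nd (nat_lit 72) (Tr.lf (Alt.word (nat_lit 9) (nat_lit 0) true [Col.d, Col.b, Col.d, Col.b])) (Tr.nd (nat_lit 73) (Tr.lf (Alt.word (nat_lit 21) (nat_lit 3) true [Col.d, Col.g, Col.d, Col.g])) (Tr.lf (Alt.word (nat_lit 28) (nat_lit 1) false [Col.d, Col.c, Col.d, Col.c, Col.d, Col.c, Col.d, Col.c, Col.a])))) (Tr.nd (nat_lit 75) (Tr.lf (Alt.word (nat_lit 28) (nat_lit 3)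 true [Col.d, Col.c, Col.d, Col.c, Col.d, Col.a, Col.c, Col.d, Col.c])) (Tr.nd (nat_lit 76) (Tr.lf (Alt.word (nat_lit 31) (nat_lit 1) true [Col.f, Col.b, Col.g, Col.f, Col.b, Col.g, Col.f, Col.b, Col.g, Col.f, Col.b, Col.g, Col.f, Col.b, Col.g])) (Tr.lf (Alt.word (nat_lit 22) (nat_lit 0) true [Col.e, Col.e]))))) (Tr.nd (nat_lit 80) (Tr.nd (nat_lit 78) (Tr.lf (Alt.word (nat_lit 19) (nat_lit 2) true [Col.e, Col.d, Col.e, Col.d, Col.e, Col.d])) (Tr.nd (nat_lit 79) (Tr.lf (Alt.word (nat_lit 18) (nat_lit 0) true [Col.d, Col.d])) (Tr.lf (Alt.word (nat_lit 8) (nat_lit 0) true [Col.c, Col.b, Col.c, Col.b, Col.c, Col.b])))) (Tr.nd (nat_lit 81) (Tr.lf (Alt.word (nat_lit 28) (nat_lit 5) true [Col.d, Col.c, Col.d, Col.a, Col.c, Col.d, Col.c, Col.d, Col.c])) (Tr.nd (nat_lit 82) (Tr.lf (Alt.word (nat_lit 13) (nat_lit 0) true [Col.c,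 Col.c])) (Tr.lf (Alt.word (nat_lit 25) (nat_lit 0) true [Col.f, Col.f])))))) (Tr.nd (nat_lit 89) (Tr.nd (nat_lit 86) (Tr.nd (nat_lit 84) (Tr.lf (Alt.word (nat_lit 31) (nat_lit 3) false [Col.b, Col.f, Col.g, Col.b, Col.f, Col.g, Col.b, Col.f, Col.g, Col.b, Col.f, Col.g, Col.b, Col.f, Col.g])) (Tr.nd (nat_lit 85) (Tr.lf (Alt.word (nat_lit 29) (nat_lit 1) false [Col.g, Col.f, Col.g, Col.f, Col.a])) (Tr.lf (Alt.word (nat_lit 31) (nat_lit 0) false [Col.b, Col.f, Col.g, Col.b, Col.f, Col.g, Col.b, Col.f, Col.g, Col.b, Col.f, Col.g, Col.b, Col.f, Col.g])))) (Tr.nd (nat_lit 87) (Tr.lf (Alt.word (nat_lit 28) (nat_lit 8) true [Col.a, Col.c, Col.d, Col.c, Col.d, Col.c, Col.d, Col.c, Col.d])) (Tr.nd (nat_lit 88) (Tr.lf (Alt.word (nat_lit 1) (nat_lit 8) true [Col.b, Col.a, Col.b, Col.a, Col.b, Col.a, Col.b, Col.a, Col.b, Col.a]))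 (Tr.lf (Alt.word (nat_lit 0) (nat_lit 0) true [Col.a, Col.a]))))) (Tr.nd (nat_lit 92) (Tr.nd (nat_lit 90) (Tr.lf (Alt.word (nat_lit 27) (nat_lit 0) true [Col.g, Col.g])) (Tr.nd (nat_lit 91) (Tr.lf (Alt.word (nat_lit 30) (nat_lit 17) true [Col.c, Col.b, Col.a, Col.f, Col.c, Col.b, Col.a, Col.f, Col.c, Col.b, Col.a, Col.f, Col.c, Col.b, Col.a, Col.f, Col.c, Col.b, Col.a, Col.f])) (Tr.lf (Alt.word (nat_lit 1) (nat_lit 7) true [Col.a, Col.b, Col.a, Col.b, Col.a, Col.b, Col.a, Col.b, Col.a, Col.b])))) (Tr.nd (nat_lit 93) (Tr.lf (Alt.word (nat_lit 3) (nat_lit 0) true [Col.d, Col.a, Col.d, Col.a])) (Tr.nd (nat_lit 94) (Tr.lf (Alt.word (nat_lit 30) (nat_lit 5) true [Col.c, Col.b, Col.a, Col.f, Col.c, Col.b, Col.a, Col.f, Col.c, Col.b, Col.a, Col.f, Col.c, Col.b, Col.a, Col.f, Col.c, Col.b, Col.a, Col.f])) (Tr.lf (Alt.word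 (nat_lit 17) (nat_lit 3) true [Col.c, Col.g, Col.c, Col.g])))))))))
noncomputable def mini5P : Tr ℕ := (Tr.nd (nat_lit 202) (Tr.nd (nat_lit 101) (Tr.nd (nat_lit 50) (Tr.nd (nat_lit 25) (Tr.nd (nat_lit 12) (Tr.nd (nat_lit 6) (Tr.nd (nat_lit 3) (Tr.nd (nat_lit 1) (Tr.lf (nat_lit 0)) (Tr.nd (nat_lit 2) (Tr.lf (nat_lit 0)) (Tr.lf (nat_lit 1)))) (Tr.nd (nat_lit 4) (Tr.lf (nat_lit 2)) (Tr.nd (nat_lit 5) (Tr.lf (nat_lit 3)) (Tr.lf (nat_lit 4))))) (Tr.nd (nat_lit 9) (Tr.nd (nat_lit 7) (Tr.lf (nat_lit 5)) (Tr.nd (nat_lit 8) (Tr.lf (nat_lit 6)) (Tr.lf (nat_lit 7)))) (Tr.nd (nat_lit 10) (Tr.lf (nat_lit 8)) (Tr.nd (nat_lit 11) (Tr.lf (nat_lit 2)) (Tr.lf (nat_lit 10)))))) (Tr.nd (nat_lit 18) (Tr.nd (nat_lit 15) (Tr.nd (nat_lit 13) (Tr.lf (nat_lit 11)) (Tr.nd (nat_lit 14) (Tr.lf (nat_lit 12)) (Tr.lf (nat_lit 13)))) (Tr.nd (nat_lit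 16) (Tr.lf (nat_lit 8)) (Tr.nd (nat_lit 17) (Tr.lf (nat_lit 15)) (Tr.lf (nat_lit 16))))) (Tr.nd (nat_lit 21) (Tr.nd (nat_lit 19) (Tr.lf (nat_lit 17)) (Tr.nd (nat_lit 20) (Tr.lf (nat_lit 18)) (Tr.lf (nat_lit 19)))) (Tr.nd (nat_lit 23) (Tr.nd (nat_lit 22) (Tr.lf (nat_lit 11)) (Tr.lf (nat_lit 21))) (Tr.nd (nat_lit 24) (Tr.lf (nat_lit 22)) (Tr.lf (nat_lit 23))))))) (Tr.nd (nat_lit 37) (Tr.nd (nat_lit 31) (Tr.nd (nat_lit 28) (Tr.nd (nat_lit 26) (Tr.lf (nat_lit 24)) (Tr.nd (nat_lit 27) (Tr.lf (nat_lit 25)) (Tr.lf (nat_lit 26)))) (Tr.nd (nat_lit 29) (Tr.lf (nat_lit 27)) (Tr.nd (nat_lit 30) (Tr.lf (nat_lit 28)) (Tr.lf (nat_lit 29))))) (Tr.nd (nat_lit 34) (Tr.nd (nat_lit 32) (Tr.lf (nat_lit 30)) (Tr.nd (nat_lit 33) (Tr.lf (nat_lit 31)) (Tr.lf (nat_lit 32)))) (Tr.nd (nat_lit 35) (Tr.lf (nat_lit 9)) (Tr.nd (nat_lit 36) (Tr.lf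 (nat_lit 5)) (Tr.lf (nat_lit 6)))))) (Tr.nd (nat_lit 43) (Tr.nd (nat_lit 40) (Tr.nd (nat_lit 38) (Tr.lf (nat_lit 5)) (Tr.nd (nat_lit 39) (Tr.lf (nat_lit 15)) (Tr.lf (nat_lit 11)))) (Tr.nd (nat_lit 41) (Tr.lf (nat_lit 17)) (Tr.nd (nat_lit 42) (Tr.lf (nat_lit 17)) (Tr.lf (nat_lit 15))))) (Tr.nd (nat_lit 46) (Tr.nd (nat_lit 44) (Tr.lf (nat_lit 20)) (Tr.nd (nat_lit 45) (Tr.lf (nat_lit 16)) (Tr.lf (nat_lit 21)))) (Tr.nd (nat_lit 48) (Tr.nd (nat_lit 47) (Tr.lf (nat_lit 22)) (Tr.lf (nat_lit 22))) (Tr.nd (nat_lit 49) (Tr.lf (nat_lit 16)) (Tr.lf (nat_lit 22)))))))) (Tr.nd (nat_lit 75) (Tr.nd (nat_lit 62) (Tr.nd (nat_lit 56) (Tr.nd (nat_lit 53) (Tr.nd (nat_lit 51) (Tr.lf (nat_lit 18)) (Tr.nd (nat_lit 52) (Tr.lf (nat_lit 16)) (Tr.lf (nat_lit 15)))) (Tr.nd (nat_lit 54) (Tr.lf (nat_lit 16)) (Tr.nd (nat_lit 55) (Tr.lf (nat_lit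 23)) (Tr.lf (nat_lit 22))))) (Tr.nd (nat_lit 59) (Tr.nd (nat_lit 57) (Tr.lf (nat_lit 18)) (Tr.nd (nat_lit 58) (Tr.lf (nat_lit 18)) (Tr.lf (nat_lit 12)))) (Tr.nd (nat_lit 60) (Tr.lf (nat_lit 15)) (Tr.nd (nat_lit 61) (Tr.lf (nat_lit 26)) (Tr.lf (nat_lit 12)))))) (Tr.nd (nat_lit 68) (Tr.nd (nat_lit 65) (Tr.nd (nat_lit 63) (Tr.lf (nat_lit 18)) (Tr.nd (nat_lit 64) (Tr.lf (nat_lit 27)) (Tr.lf (nat_lit 26)))) (Tr.nd (nat_lit 66) (Tr.lf (nat_lit 26)) (Tr.nd (nat_lit 67) (Tr.lf (nat_lit 28)) (Tr.lf (nat_lit 29))))) (Tr.nd (nat_lit 71) (Tr.nd (nat_lit 69) (Tr.lf (nat_lit 27)) (Tr.nd (nat_lit 70) (Tr.lf (nat_lit 24)) (Tr.lf (nat_lit 24)))) (Tr.nd (nat_lit 73) (Tr.nd (nat_lit 72) (Tr.lf (nat_lit 24)) (Tr.lf (nat_lit 28))) (Tr.nd (nat_lit 74) (Tr.lf (nat_lit 28)) (Tr.lf (nat_lit 24))))))) (Tr.nd (nat_lit 88) (Tr.nd (nat_lit 81)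 (Tr.nd (nat_lit 78) (Tr.nd (nat_lit 76) (Tr.lf (nat_lit 31)) (Tr.nd (nat_lit 77) (Tr.lf (nat_lit 26)) (Tr.lf (nat_lit 23)))) (Tr.nd (nat_lit 79) (Tr.lf (nat_lit 25)) (Tr.nd (nat_lit 80) (Tr.lf (nat_lit 27)) (Tr.lf (nat_lit 32))))) (Tr.nd (nat_lit 84) (Tr.nd (nat_lit 82) (Tr.lf (nat_lit 25)) (Tr.nd (nat_lit 83) (Tr.lf (nat_lit 33)) (Tr.lf (nat_lit 29)))) (Tr.nd (nat_lit 86) (Tr.nd (nat_lit 85) (Tr.lf (nat_lit 31)) (Tr.lf (nat_lit 25))) (Tr.nd (nat_lit 87) (Tr.lf (nat_lit 29)) (Tr.lf (nat_lit 23)))))) (Tr.nd (nat_lit 94) (Tr.nd (nat_lit 91) (Tr.nd (nat_lit 89) (Tr.lf (nat_lit 23)) (Tr.nd (nat_lit 90) (Tr.lf (nat_lit 30)) (Tr.lf (nat_lit 31)))) (Tr.nd (nat_lit 92) (Tr.lf (nat_lit 25)) (Tr.nd (nat_lit 93) (Tr.lf (nat_lit 30)) (Tr.lf (nat_lit 25))))) (Tr.nd (nat_lit 97) (Tr.nd (nat_lit 95) (Tr.lf (nat_lit 31)) (Tr.nd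 (nat_lit 96) (Tr.lf (nat_lit 29)) (Tr.lf (nat_lit 29)))) (Tr.nd (nat_lit 99) (Tr.nd (nat_lit 98) (Tr.lf (nat_lit 36)) (Tr.lf (nat_lit 38))) (Tr.nd (nat_lit 100) (Tr.lf (nat_lit 37)) (Tr.lf (nat_lit 42))))))))) (Tr.nd (nat_lit 151) (Tr.nd (nat_lit 126) (Tr.nd (nat_lit 113) (Tr.nd (nat_lit 107) (Tr.nd (nat_lit 104) (Tr.nd (nat_lit 102) (Tr.lf (nat_lit 44)) (Tr.nd (nat_lit 103) (Tr.lf (nat_lit 46)) (Tr.lf (nat_lit 48)))) (Tr.nd (nat_lit 105) (Tr.lf (nat_lit 46)) (Tr.nd (nat_lit 106) (Tr.lf (nat_lit 40)) (Tr.lf (nat_lit 51))))) (Tr.nd (nat_lit 110) (Tr.nd (nat_lit 108) (Tr.lf (nat_lit 49)) (Tr.nd (nat_lit 109) (Tr.lf (nat_lit 49)) (Tr.lf (nat_lit 48)))) (Tr.nd (nat_lit 111) (Tr.lf (nat_lit 43)) (Tr.nd (nat_lit 112) (Tr.lf (nat_lit 50)) (Tr.lf (nat_lit 52)))))) (Tr.nd (nat_lit 119) (Tr.nd (nat_lit 116) (Tr.nd (nat_lit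 114) (Tr.lf (nat_lit 58)) (Tr.nd (nat_lit 115) (Tr.lf (nat_lit 60)) (Tr.lf (nat_lit 52)))) (Tr.nd (nat_lit 117) (Tr.lf (nat_lit 43)) (Tr.nd (nat_lit 118) (Tr.lf (nat_lit 63)) (Tr.lf (nat_lit 56))))) (Tr.nd (nat_lit 122) (Tr.nd (nat_lit 120) (Tr.lf (nat_lit 64)) (Tr.nd (nat_lit 121) (Tr.lf (nat_lit 60)) (Tr.lf (nat_lit 60)))) (Tr.nd (nat_lit 124) (Tr.nd (nat_lit 123) (Tr.lf (nat_lit 63)) (Tr.lf (nat_lit 68))) (Tr.nd (nat_lit 125) (Tr.lf (nat_lit 66)) (Tr.lf (nat_lit 69))))))) (Tr.nd (nat_lit 138) (Tr.nd (nat_lit 132) (Tr.nd (nat_lit 129) (Tr.nd (nat_lit 127) (Tr.lf (nat_lit 68)) (Tr.nd (nat_lit 128) (Tr.lf (nat_lit 64)) (Tr.lf (nat_lit 65)))) (Tr.nd (nat_lit 130) (Tr.lf (nat_lit 64)) (Tr.nd (nat_lit 131) (Tr.lf (nat_lit 65)) (Tr.lf (nat_lit 69))))) (Tr.nd (nat_lit 135) (Tr.nd (nat_lit 133) (Tr.lf (nat_lit 73)) (Tr.nd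 (nat_lit 134) (Tr.lf (nat_lit 71)) (Tr.lf (nat_lit 55)))) (Tr.nd (nat_lit 136) (Tr.lf (nat_lit 72)) (Tr.nd (nat_lit 137) (Tr.lf (nat_lit 78)) (Tr.lf (nat_lit 75)))))) (Tr.nd (nat_lit 144) (Tr.nd (nat_lit 141) (Tr.nd (nat_lit 139) (Tr.lf (nat_lit 72)) (Tr.nd (nat_lit 140) (Tr.lf (nat_lit 67)) (Tr.lf (nat_lit 75)))) (Tr.nd (nat_lit 142) (Tr.lf (nat_lit 78)) (Tr.nd (nat_lit 143) (Tr.lf (nat_lit 75)) (Tr.lf (nat_lit 79))))) (Tr.nd (nat_lit 147) (Tr.nd (nat_lit 145) (Tr.lf (nat_lit 77)) (Tr.nd (nat_lit 146) (Tr.lf (nat_lit 78)) (Tr.lf (nat_lit 79)))) (Tr.nd (nat_lit 149) (Tr.nd (nat_lit 148) (Tr.lf (nat_lit 71)) (Tr.lf (nat_lit 67))) (Tr.nd (nat_lit 150) (Tr.lf (nat_lit 81)) (Tr.lf (nat_lit 80)))))))) (Tr.nd (nat_lit 176) (Tr.nd (nat_lit 163) (Tr.nd (nat_lit 157) (Tr.nd (nat_lit 154) (Tr.nd (nat_lit 152) (Tr.lf (nat_lit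 81)) (Tr.nd (nat_lit 153) (Tr.lf (nat_lit 85)) (Tr.lf (nat_lit 82)))) (Tr.nd (nat_lit 155) (Tr.lf (nat_lit 84)) (Tr.nd (nat_lit 156) (Tr.lf (nat_lit 83)) (Tr.lf (nat_lit 87))))) (Tr.nd (nat_lit 160) (Tr.nd (nat_lit 158) (Tr.lf (nat_lit 67)) (Tr.nd (nat_lit 159) (Tr.lf (nat_lit 86)) (Tr.lf (nat_lit 67)))) (Tr.nd (nat_lit 161) (Tr.lf (nat_lit 82)) (Tr.nd (nat_lit 162) (Tr.lf (nat_lit 84)) (Tr.lf (nat_lit 84)))))) (Tr.nd (nat_lit 169) (Tr.nd (nat_lit 166) (Tr.nd (nat_lit 164) (Tr.lf (nat_lit 90)) (Tr.nd (nat_lit 165) (Tr.lf (nat_lit 88)) (Tr.lf (nat_lit 90)))) (Tr.nd (nat_lit 167) (Tr.lf (nat_lit 89)) (Tr.nd (nat_lit 168) (Tr.lf (nat_lit 90)) (Tr.lf (nat_lit 83))))) (Tr.nd (nat_lit 172) (Tr.nd (nat_lit 170) (Tr.lf (nat_lit 89)) (Tr.nd (nat_lit 171) (Tr.lf (nat_lit 95)) (Tr.lf (nat_lit 93)))) (Tr.nd (nat_lit 174) (Tr.nd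 (nat_lit 173) (Tr.lf (nat_lit 96)) (Tr.lf (nat_lit 96))) (Tr.nd (nat_lit 175) (Tr.lf (nat_lit 94)) (Tr.lf (nat_lit 92))))))) (Tr.nd (nat_lit 189) (Tr.nd (nat_lit 182) (Tr.nd (nat_lit 179) (Tr.nd (nat_lit 177) (Tr.lf (nat_lit 102)) (Tr.nd (nat_lit 178) (Tr.lf (nat_lit 104)) (Tr.lf (nat_lit 102)))) (Tr.nd (nat_lit 180) (Tr.lf (nat_lit 109)) (Tr.nd (nat_lit 181) (Tr.lf (nat_lit 104)) (Tr.lf (nat_lit 111))))) (Tr.nd (nat_lit 185) (Tr.nd (nat_lit 183) (Tr.lf (nat_lit 114)) (Tr.nd (nat_lit 184) (Tr.lf (nat_lit 110)) (Tr.lf (nat_lit 110)))) (Tr.nd (nat_lit 187) (Tr.nd (nat_lit 186) (Tr.lf (nat_lit 114)) (Tr.lf (nat_lit 121))) (Tr.nd (nat_lit 188) (Tr.lf (nat_lit 121)) (Tr.lf (nat_lit 122)))))) (Tr.nd (nat_lit 195) (Tr.nd (nat_lit 192) (Tr.nd (nat_lit 190) (Tr.lf (nat_lit 117)) (Tr.nd (nat_lit 191) (Tr.lf (nat_lit 117))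 (Tr.lf (nat_lit 107)))) (Tr.nd (nat_lit 193) (Tr.lf (nat_lit 125)) (Tr.nd (nat_lit 194) (Tr.lf (nat_lit 124)) (Tr.lf (nat_lit 127))))) (Tr.nd (nat_lit 198) (Tr.nd (nat_lit 196) (Tr.lf (nat_lit 119)) (Tr.nd (nat_lit 197) (Tr.lf (nat_lit 125)) (Tr.lf (nat_lit 114)))) (Tr.nd (nat_lit 200) (Tr.nd (nat_lit 199) (Tr.lf (nat_lit 126)) (Tr.lf (nat_lit 126))) (Tr.nd (nat_lit 201) (Tr.lf (nat_lit 129)) (Tr.lf (nat_lit 128)))))))))) (Tr.nd (nat_lit 303) (Tr.nd (nat_lit 252) (Tr.nd (nat_lit 227) (Tr.nd (nat_lit 214) (Tr.nd (nat_lit 208) (Tr.nd (nat_lit 205) (Tr.nd (nat_lit 203) (Tr.lf (nat_lit 123)) (Tr.nd (nat_lit 204) (Tr.lf (nat_lit 123)) (Tr.lf (nat_lit 136)))) (Tr.nd (nat_lit 206) (Tr.lf (nat_lit 135)) (Tr.nd (nat_lit 207) (Tr.lf (nat_lit 133)) (Tr.lf (nat_lit 135))))) (Tr.nd (nat_lit 211) (Tr.nd (nat_lit 209) (Tr.lf (nat_lit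 132)) (Tr.nd (nat_lit 210) (Tr.lf (nat_lit 129)) (Tr.lf (nat_lit 137)))) (Tr.nd (nat_lit 212) (Tr.lf (nat_lit 141)) (Tr.nd (nat_lit 213) (Tr.lf (nat_lit 137)) (Tr.lf (nat_lit 140)))))) (Tr.nd (nat_lit 220) (Tr.nd (nat_lit 217) (Tr.nd (nat_lit 215) (Tr.lf (nat_lit 139)) (Tr.nd (nat_lit 216) (Tr.lf (nat_lit 129)) (Tr.lf (nat_lit 145)))) (Tr.nd (nat_lit 218) (Tr.lf (nat_lit 140)) (Tr.nd (nat_lit 219) (Tr.lf (nat_lit 129)) (Tr.lf (nat_lit 145))))) (Tr.nd (nat_lit 223) (Tr.nd (nat_lit 221) (Tr.lf (nat_lit 146)) (Tr.nd (nat_lit 222) (Tr.lf (nat_lit 149)) (Tr.lf (nat_lit 146)))) (Tr.nd (nat_lit 225) (Tr.nd (nat_lit 224) (Tr.lf (nat_lit 145)) (Tr.lf (nat_lit 149))) (Tr.nd (nat_lit 226) (Tr.lf (nat_lit 148)) (Tr.lf (nat_lit 152))))))) (Tr.nd (nat_lit 239) (Tr.nd (nat_lit 233) (Tr.nd (nat_lit 230) (Tr.nd (nat_lit 228) (Tr.lf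 (nat_lit 153)) (Tr.nd (nat_lit 229) (Tr.lf (nat_lit 149)) (Tr.lf (nat_lit 156)))) (Tr.nd (nat_lit 231) (Tr.lf (nat_lit 155)) (Tr.nd (nat_lit 232) (Tr.lf (nat_lit 157)) (Tr.lf (nat_lit 154))))) (Tr.nd (nat_lit 236) (Tr.nd (nat_lit 234) (Tr.lf (nat_lit 155)) (Tr.nd (nat_lit 235) (Tr.lf (nat_lit 159)) (Tr.lf (nat_lit 159)))) (Tr.nd (nat_lit 237) (Tr.lf (nat_lit 162)) (Tr.nd (nat_lit 238) (Tr.lf (nat_lit 158)) (Tr.lf (nat_lit 162)))))) (Tr.nd (nat_lit 245) (Tr.nd (nat_lit 242) (Tr.nd (nat_lit 240) (Tr.lf (nat_lit 163)) (Tr.nd (nat_lit 241) (Tr.lf (nat_lit 163)) (Tr.lf (nat_lit 163)))) (Tr.nd (nat_lit 243) (Tr.lf (nat_lit 165)) (Tr.nd (nat_lit 244) (Tr.lf (nat_lit 166)) (Tr.lf (nat_lit 166))))) (Tr.nd (nat_lit 248) (Tr.nd (nat_lit 246) (Tr.lf (nat_lit 165)) (Tr.nd (nat_lit 247) (Tr.lf (nat_lit 167)) (Tr.lf (nat_lit 168))))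 (Tr.nd (nat_lit 250) (Tr.nd (nat_lit 249) (Tr.lf (nat_lit 169)) (Tr.lf (nat_lit 170))) (Tr.nd (nat_lit 251) (Tr.lf (nat_lit 172)) (Tr.lf (nat_lit 173)))))))) (Tr.nd (nat_lit 277) (Tr.nd (nat_lit 264) (Tr.nd (nat_lit 258) (Tr.nd (nat_lit 255) (Tr.nd (nat_lit 253) (Tr.lf (nat_lit 174)) (Tr.nd (nat_lit 254) (Tr.lf (nat_lit 175)) (Tr.lf (nat_lit 175)))) (Tr.nd (nat_lit 256) (Tr.lf (nat_lit 178)) (Tr.nd (nat_lit 257) (Tr.lf (nat_lit 176)) (Tr.lf (nat_lit 178))))) (Tr.nd (nat_lit 261) (Tr.nd (nat_lit 259) (Tr.lf (nat_lit 178)) (Tr.nd (nat_lit 260) (Tr.lf (nat_lit 179)) (Tr.lf (nat_lit 182)))) (Tr.nd (nat_lit 262) (Tr.lf (nat_lit 183)) (Tr.nd (nat_lit 263) (Tr.lf (nat_lit 184)) (Tr.lf (nat_lit 187)))))) (Tr.nd (nat_lit 270) (Tr.nd (nat_lit 267) (Tr.nd (nat_lit 265) (Tr.lf (nat_lit 191)) (Tr.nd (nat_lit 266) (Tr.lf (nat_lit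 190)) (Tr.lf (nat_lit 190)))) (Tr.nd (nat_lit 268) (Tr.lf (nat_lit 188)) (Tr.nd (nat_lit 269) (Tr.lf (nat_lit 189)) (Tr.lf (nat_lit 193))))) (Tr.nd (nat_lit 273) (Tr.nd (nat_lit 271) (Tr.lf (nat_lit 194)) (Tr.nd (nat_lit 272) (Tr.lf (nat_lit 195)) (Tr.lf (nat_lit 192)))) (Tr.nd (nat_lit 275) (Tr.nd (nat_lit 274) (Tr.lf (nat_lit 196)) (Tr.lf (nat_lit 198))) (Tr.nd (nat_lit 276) (Tr.lf (nat_lit 201)) (Tr.lf (nat_lit 195))))))) (Tr.nd (nat_lit 290) (Tr.nd (nat_lit 283) (Tr.nd (nat_lit 280) (Tr.nd (nat_lit 278) (Tr.lf (nat_lit 199)) (Tr.nd (nat_lit 279) (Tr.lf (nat_lit 201)) (Tr.lf (nat_lit 204)))) (Tr.nd (nat_lit 281) (Tr.lf (nat_lit 201)) (Tr.nd (nat_lit 282) (Tr.lf (nat_lit 202)) (Tr.lf (nat_lit 205))))) (Tr.nd (nat_lit 286) (Tr.nd (nat_lit 284) (Tr.lf (nat_lit 205)) (Tr.nd (nat_lit 285) (Tr.lf (nat_lit 205)) (Tr.lf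 (nat_lit 208)))) (Tr.nd (nat_lit 288) (Tr.nd (nat_lit 287) (Tr.lf (nat_lit 205)) (Tr.lf (nat_lit 209))) (Tr.nd (nat_lit 289) (Tr.lf (nat_lit 209)) (Tr.lf (nat_lit 198)))))) (Tr.nd (nat_lit 296) (Tr.nd (nat_lit 293) (Tr.nd (nat_lit 291) (Tr.lf (nat_lit 210)) (Tr.nd (nat_lit 292) (Tr.lf (nat_lit 212)) (Tr.lf (nat_lit 213)))) (Tr.nd (nat_lit 294) (Tr.lf (nat_lit 214)) (Tr.nd (nat_lit 295) (Tr.lf (nat_lit 213)) (Tr.lf (nat_lit 213))))) (Tr.nd (nat_lit 299) (Tr.nd (nat_lit 297) (Tr.lf (nat_lit 210)) (Tr.nd (nat_lit 298) (Tr.lf (nat_lit 210)) (Tr.lf (nat_lit 216)))) (Tr.nd (nat_lit 301) (Tr.nd (nat_lit 300) (Tr.lf (nat_lit 211)) (Tr.lf (nat_lit 213))) (Tr.nd (nat_lit 302) (Tr.lf (nat_lit 211)) (Tr.lf (nat_lit 216))))))))) (Tr.nd (nat_lit 353) (Tr.nd (nat_lit 328) (Tr.nd (nat_lit 315) (Tr.nd (nat_lit 309) (Tr.nd (nat_lit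 306) (Tr.nd (nat_lit 304) (Tr.lf (nat_lit 219)) (Tr.nd (nat_lit 305) (Tr.lf (nat_lit 220)) (Tr.lf (nat_lit 224)))) (Tr.nd (nat_lit 307) (Tr.lf (nat_lit 221)) (Tr.nd (nat_lit 308) (Tr.lf (nat_lit 223)) (Tr.lf (nat_lit 225))))) (Tr.nd (nat_lit 312) (Tr.nd (nat_lit 310) (Tr.lf (nat_lit 230)) (Tr.nd (nat_lit 311) (Tr.lf (nat_lit 229)) (Tr.lf (nat_lit 227)))) (Tr.nd (nat_lit 313) (Tr.lf (nat_lit 231)) (Tr.nd (nat_lit 314) (Tr.lf (nat_lit 230)) (Tr.lf (nat_lit 230)))))) (Tr.nd (nat_lit 321) (Tr.nd (nat_lit 318) (Tr.nd (nat_lit 316) (Tr.lf (nat_lit 234)) (Tr.nd (nat_lit 317) (Tr.lf (nat_lit 232)) (Tr.lf (nat_lit 235)))) (Tr.nd (nat_lit 319) (Tr.lf (nat_lit 237)) (Tr.nd (nat_lit 320) (Tr.lf (nat_lit 237)) (Tr.lf (nat_lit 239))))) (Tr.nd (nat_lit 324) (Tr.nd (nat_lit 322) (Tr.lf (nat_lit 240)) (Tr.nd (nat_lit 323) (Tr.lf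 (nat_lit 239)) (Tr.lf (nat_lit 240)))) (Tr.nd (nat_lit 326) (Tr.nd (nat_lit 325) (Tr.lf (nat_lit 241)) (Tr.lf (nat_lit 239))) (Tr.nd (nat_lit 327) (Tr.lf (nat_lit 242)) (Tr.lf (nat_lit 243))))))) (Tr.nd (nat_lit 340) (Tr.nd (nat_lit 334) (Tr.nd (nat_lit 331) (Tr.nd (nat_lit 329) (Tr.lf (nat_lit 243)) (Tr.nd (nat_lit 330) (Tr.lf (nat_lit 244)) (Tr.lf (nat_lit 245)))) (Tr.nd (nat_lit 332) (Tr.lf (nat_lit 246)) (Tr.nd (nat_lit 333) (Tr.lf (nat_lit 248)) (Tr.lf (nat_lit 249))))) (Tr.nd (nat_lit 337) (Tr.nd (nat_lit 335) (Tr.lf (nat_lit 251)) (Tr.nd (nat_lit 336) (Tr.lf (nat_lit 251)) (Tr.lf (nat_lit 252)))) (Tr.nd (nat_lit 338) (Tr.lf (nat_lit 253)) (Tr.nd (nat_lit 339) (Tr.lf (nat_lit 254)) (Tr.lf (nat_lit 254)))))) (Tr.nd (nat_lit 346) (Tr.nd (nat_lit 343) (Tr.nd (nat_lit 341) (Tr.lf (nat_lit 255)) (Tr.nd (nat_lit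 342) (Tr.lf (nat_lit 265)) (Tr.lf (nat_lit 266)))) (Tr.nd (nat_lit 344) (Tr.lf (nat_lit 263)) (Tr.nd (nat_lit 345) (Tr.lf (nat_lit 269)) (Tr.lf (nat_lit 271))))) (Tr.nd (nat_lit 349) (Tr.nd (nat_lit 347) (Tr.lf (nat_lit 276)) (Tr.nd (nat_lit 348) (Tr.lf (nat_lit 277)) (Tr.lf (nat_lit 278)))) (Tr.nd (nat_lit 351) (Tr.nd (nat_lit 350) (Tr.lf (nat_lit 274)) (Tr.lf (nat_lit 279))) (Tr.nd (nat_lit 352) (Tr.lf (nat_lit 281)) (Tr.lf (nat_lit 280)))))))) (Tr.nd (nat_lit 378) (Tr.nd (nat_lit 365) (Tr.nd (nat_lit 359) (Tr.nd (nat_lit 356) (Tr.nd (nat_lit 354) (Tr.lf (nat_lit 282)) (Tr.nd (nat_lit 355) (Tr.lf (nat_lit 286)) (Tr.lf (nat_lit 284)))) (Tr.nd (nat_lit 357) (Tr.lf (nat_lit 286)) (Tr.nd (nat_lit 358) (Tr.lf (nat_lit 289)) (Tr.lf (nat_lit 290))))) (Tr.nd (nat_lit 362) (Tr.nd (nat_lit 360) (Tr.lf (nat_lit 288)) (Tr.nd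 (nat_lit 361) (Tr.lf (nat_lit 288)) (Tr.lf (nat_lit 287)))) (Tr.nd (nat_lit 363) (Tr.lf (nat_lit 294)) (Tr.nd (nat_lit 364) (Tr.lf (nat_lit 292)) (Tr.lf (nat_lit 294)))))) (Tr.nd (nat_lit 371) (Tr.nd (nat_lit 368) (Tr.nd (nat_lit 366) (Tr.lf (nat_lit 295)) (Tr.nd (nat_lit 367) (Tr.lf (nat_lit 292)) (Tr.lf (nat_lit 295)))) (Tr.nd (nat_lit 369) (Tr.lf (nat_lit 297)) (Tr.nd (nat_lit 370) (Tr.lf (nat_lit 299)) (Tr.lf (nat_lit 301))))) (Tr.nd (nat_lit 374) (Tr.nd (nat_lit 372) (Tr.lf (nat_lit 303)) (Tr.nd (nat_lit 373) (Tr.lf (nat_lit 304)) (Tr.lf (nat_lit 309)))) (Tr.nd (nat_lit 376) (Tr.nd (nat_lit 375) (Tr.lf (nat_lit 311)) (Tr.lf (nat_lit 320))) (Tr.nd (nat_lit 377) (Tr.lf (nat_lit 320)) (Tr.lf (nat_lit 321))))))) (Tr.nd (nat_lit 391) (Tr.nd (nat_lit 384) (Tr.nd (nat_lit 381) (Tr.nd (nat_lit 379) (Tr.lf (nat_lit 321))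 (Tr.nd (nat_lit 380) (Tr.lf (nat_lit 322)) (Tr.lf (nat_lit 321)))) (Tr.nd (nat_lit 382) (Tr.lf (nat_lit 323)) (Tr.nd (nat_lit 383) (Tr.lf (nat_lit 324)) (Tr.lf (nat_lit 324))))) (Tr.nd (nat_lit 387) (Tr.nd (nat_lit 385) (Tr.lf (nat_lit 324)) (Tr.nd (nat_lit 386) (Tr.lf (nat_lit 325)) (Tr.lf (nat_lit 327)))) (Tr.nd (nat_lit 389) (Tr.nd (nat_lit 388) (Tr.lf (nat_lit 329)) (Tr.lf (nat_lit 334))) (Tr.nd (nat_lit 390) (Tr.lf (nat_lit 335)) (Tr.lf (nat_lit 335)))))) (Tr.nd (nat_lit 397) (Tr.nd (nat_lit 394) (Tr.nd (nat_lit 392) (Tr.lf (nat_lit 337)) (Tr.nd (nat_lit 393) (Tr.lf (nat_lit 337)) (Tr.lf (nat_lit 342)))) (Tr.nd (nat_lit 395) (Tr.lf (nat_lit 343)) (Tr.nd (nat_lit 396) (Tr.lf (nat_lit 348)) (Tr.lf (nat_lit 349))))) (Tr.nd (nat_lit 400) (Tr.nd (nat_lit 398) (Tr.lf (nat_lit 347)) (Tr.nd (nat_lit 399) (Tr.lf (nat_lit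 353)) (Tr.lf (nat_lit 358)))) (Tr.nd (nat_lit 402) (Tr.nd (nat_lit 401) (Tr.lf (nat_lit 358)) (Tr.lf (nat_lit 358))) (Tr.nd (nat_lit 403) (Tr.lf (nat_lit 359)) (Tr.lf (nat_lit 360)))))))))))
noncomputable def mini5Q : Tr ℕ := (Tr.nd (nat_lit 202) (Tr.nd (nat_lit 101) (Tr.nd (nat_lit 50) (Tr.nd (nat_lit 25) (Tr.nd (nat_lit 12) (Tr.nd (nat_lit 6) (Tr.nd (nat_lit 3) (Tr.nd (nat_lit 1) (Tr.lf (nat_lit 0)) (Tr.nd (nat_lit 2) (Tr.lf (nat_lit 6)) (Tr.lf (nat_lit 1)))) (Tr.nd (nat_lit 4) (Tr.lf (nat_lit 0)) (Tr.nd (nat_lit 5) (Tr.lf (nat_lit 5)) (Tr.lf (nat_lit 2))))) (Tr.nd (nat_lit 9) (Tr.nd (nat_lit 7) (Tr.lf (nat_lit 1)) (Tr.nd (nat_lit 8) (Tr.lf (nat_lit 0)) (Tr.lf (nat_lit 6)))) (Tr.nd (nat_lit 10) (Tr.lf (nat_lit 1)) (Tr.nd (nat_lit 11) (Tr.lf (nat_lit 2)) (Tr.lf (nat_lit 3)))))) (Tr.nd (nat_lit 18) (Tr.nd (nat_lit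 15) (Tr.nd (nat_lit 13) (Tr.lf (nat_lit 5)) (Tr.nd (nat_lit 14) (Tr.lf (nat_lit 1)) (Tr.lf (nat_lit 6)))) (Tr.nd (nat_lit 16) (Tr.lf (nat_lit 3)) (Tr.nd (nat_lit 17) (Tr.lf (nat_lit 4)) (Tr.lf (nat_lit 6))))) (Tr.nd (nat_lit 21) (Tr.nd (nat_lit 19) (Tr.lf (nat_lit 5)) (Tr.nd (nat_lit 20) (Tr.lf (nat_lit 1)) (Tr.lf (nat_lit 2)))) (Tr.nd (nat_lit 23) (Tr.nd (nat_lit 22) (Tr.lf (nat_lit 2)) (Tr.lf (nat_lit 1))) (Tr.nd (nat_lit 24) (Tr.lf (nat_lit 4)) (Tr.lf (nat_lit 3))))))) (Tr.nd (nat_lit 37) (Tr.nd (nat_lit 31) (Tr.nd (nat_lit 28) (Tr.nd (nat_lit 26) (Tr.lf (nat_lit 2)) (Tr.nd (nat_lit 27) (Tr.lf (nat_lit 6)) (Tr.lf (nat_lit 1)))) (Tr.nd (nat_lit 29) (Tr.lf (nat_lit 5)) (Tr.nd (nat_lit 30) (Tr.lf (nat_lit 1)) (Tr.lf (nat_lit 6))))) (Tr.nd (nat_lit 34) (Tr.nd (nat_lit 32) (Tr.lf (nat_lit 1)) (Tr.nd (nat_lit 33) (Tr.lf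 (nat_lit 2)) (Tr.lf (nat_lit 3)))) (Tr.nd (nat_lit 35) (Tr.lf (nat_lit 3)) (Tr.nd (nat_lit 36) (Tr.lf (nat_lit 6)) (Tr.lf (nat_lit 3)))))) (Tr.nd (nat_lit 43) (Tr.nd (nat_lit 40) (Tr.nd (nat_lit 38) (Tr.lf (nat_lit 3)) (Tr.nd (nat_lit 39) (Tr.lf (nat_lit 6)) (Tr.lf (nat_lit 4)))) (Tr.nd (nat_lit 41) (Tr.lf (nat_lit 2)) (Tr.nd (nat_lit 42) (Tr.lf (nat_lit 0)) (Tr.lf (nat_lit 5))))) (Tr.nd (nat_lit 46) (Tr.nd (nat_lit 44) (Tr.lf (nat_lit 1)) (Tr.nd (nat_lit 45) (Tr.lf (nat_lit 1)) (Tr.lf (nat_lit 0)))) (Tr.nd (nat_lit 48) (Tr.nd (nat_lit 47) (Tr.lf (nat_lit 6)) (Tr.lf (nat_lit 3))) (Tr.nd (nat_lit 49) (Tr.lf (nat_lit 2)) (Tr.lf (nat_lit 0)))))))) (Tr.nd (nat_lit 75) (Tr.nd (nat_lit 62) (Tr.nd (nat_lit 56) (Tr.nd (nat_lit 53) (Tr.nd (nat_lit 51) (Tr.lf (nat_lit 2)) (Tr.nd (nat_lit 52) (Tr.lf (nat_lit 0)) (Tr.lf (nat_lit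 2)))) (Tr.nd (nat_lit 54) (Tr.lf (nat_lit 5)) (Tr.nd (nat_lit 55) (Tr.lf (nat_lit 1)) (Tr.lf (nat_lit 5))))) (Tr.nd (nat_lit 59) (Tr.nd (nat_lit 57) (Tr.lf (nat_lit 6)) (Tr.nd (nat_lit 58) (Tr.lf (nat_lit 4)) (Tr.lf (nat_lit 2)))) (Tr.nd (nat_lit 60) (Tr.lf (nat_lit 0)) (Tr.nd (nat_lit 61) (Tr.lf (nat_lit 3)) (Tr.lf (nat_lit 4)))))) (Tr.nd (nat_lit 68) (Tr.nd (nat_lit 65) (Tr.nd (nat_lit 63) (Tr.lf (nat_lit 0)) (Tr.nd (nat_lit 64) (Tr.lf (nat_lit 4)) (Tr.lf (nat_lit 0)))) (Tr.nd (nat_lit 66) (Tr.lf (nat_lit 4)) (Tr.nd (nat_lit 67) (Tr.lf (nat_lit 6)) (Tr.lf (nat_lit 5))))) (Tr.nd (nat_lit 71) (Tr.nd (nat_lit 69) (Tr.lf (nat_lit 6)) (Tr.nd (nat_lit 70) (Tr.lf (nat_lit 6)) (Tr.lf (nat_lit 4)))) (Tr.nd (nat_lit 73) (Tr.nd (nat_lit 72) (Tr.lf (nat_lit 1)) (Tr.lf (nat_lit 3))) (Tr.nd (nat_lit 74) (Tr.lf (nat_lit 4)) (Tr.lf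 (nat_lit 0))))))) (Tr.nd (nat_lit 88) (Tr.nd (nat_lit 81) (Tr.nd (nat_lit 78) (Tr.nd (nat_lit 76) (Tr.lf (nat_lit 6)) (Tr.nd (nat_lit 77) (Tr.lf (nat_lit 5)) (Tr.lf (nat_lit 0)))) (Tr.nd (nat_lit 79) (Tr.lf (nat_lit 0)) (Tr.nd (nat_lit 80) (Tr.lf (nat_lit 3)) (Tr.lf (nat_lit 6))))) (Tr.nd (nat_lit 84) (Tr.nd (nat_lit 82) (Tr.lf (nat_lit 3)) (Tr.nd (nat_lit 83) (Tr.lf (nat_lit 6)) (Tr.lf (nat_lit 0)))) (Tr.nd (nat_lit 86) (Tr.nd (nat_lit 85) (Tr.lf (nat_lit 0)) (Tr.lf (nat_lit 4))) (Tr.nd (nat_lit 87) (Tr.lf (nat_lit 4)) (Tr.lf (nat_lit 6)))))) (Tr.nd (nat_lit 94) (Tr.nd (nat_lit 91) (Tr.nd (nat_lit 89) (Tr.lf (nat_lit 5)) (Tr.nd (nat_lit 90) (Tr.lf (nat_lit 5)) (Tr.lf (nat_lit 5)))) (Tr.nd (nat_lit 92) (Tr.lf (nat_lit 5)) (Tr.nd (nat_lit 93) (Tr.lf (nat_lit 3)) (Tr.lf (nat_lit 1))))) (Tr.nd (nat_lit 97) (Tr.nd (nat_lit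 95) (Tr.lf (nat_lit 3)) (Tr.nd (nat_lit 96) (Tr.lf (nat_lit 2)) (Tr.lf (nat_lit 3)))) (Tr.nd (nat_lit 99) (Tr.nd (nat_lit 98) (Tr.lf (nat_lit 5)) (Tr.lf (nat_lit 2))) (Tr.nd (nat_lit 100) (Tr.lf (nat_lit 2)) (Tr.lf (nat_lit 2))))))))) (Tr.nd (nat_lit 151) (Tr.nd (nat_lit 126) (Tr.nd (nat_lit 113) (Tr.nd (nat_lit 107) (Tr.nd (nat_lit 104) (Tr.nd (nat_lit 102) (Tr.lf (nat_lit 2)) (Tr.nd (nat_lit 103) (Tr.lf (nat_lit 5)) (Tr.lf (nat_lit 5)))) (Tr.nd (nat_lit 105) (Tr.lf (nat_lit 3)) (Tr.nd (nat_lit 106) (Tr.lf (nat_lit 1)) (Tr.lf (nat_lit 2))))) (Tr.nd (nat_lit 110) (Tr.nd (nat_lit 108) (Tr.lf (nat_lit 5)) (Tr.nd (nat_lit 109) (Tr.lf (nat_lit 1)) (Tr.lf (nat_lit 1)))) (Tr.nd (nat_lit 111) (Tr.lf (nat_lit 6)) (Tr.nd (nat_lit 112) (Tr.lf (nat_lit 4)) (Tr.lf (nat_lit 0)))))) (Tr.nd (nat_lit 119) (Tr.nd (nat_lit 116) (Tr.nd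 (nat_lit 114) (Tr.lf (nat_lit 4)) (Tr.nd (nat_lit 115) (Tr.lf (nat_lit 2)) (Tr.lf (nat_lit 1)))) (Tr.nd (nat_lit 117) (Tr.lf (nat_lit 2)) (Tr.nd (nat_lit 118) (Tr.lf (nat_lit 3)) (Tr.lf (nat_lit 2))))) (Tr.nd (nat_lit 122) (Tr.nd (nat_lit 120) (Tr.lf (nat_lit 5)) (Tr.nd (nat_lit 121) (Tr.lf (nat_lit 4)) (Tr.lf (nat_lit 5)))) (Tr.nd (nat_lit 124) (Tr.nd (nat_lit 123) (Tr.lf (nat_lit 6)) (Tr.lf (nat_lit 1))) (Tr.nd (nat_lit 125) (Tr.lf (nat_lit 3)) (Tr.lf (nat_lit 5))))))) (Tr.nd (nat_lit 138) (Tr.nd (nat_lit 132) (Tr.nd (nat_lit 129) (Tr.nd (nat_lit 127) (Tr.lf (nat_lit 3)) (Tr.nd (nat_lit 128) (Tr.lf (nat_lit 2)) (Tr.lf (nat_lit 3)))) (Tr.nd (nat_lit 130) (Tr.lf (nat_lit 1)) (Tr.nd (nat_lit 131) (Tr.lf (nat_lit 5)) (Tr.lf (nat_lit 4))))) (Tr.nd (nat_lit 135) (Tr.nd (nat_lit 133) (Tr.lf (nat_lit 3)) (Tr.nd (nat_lit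 134) (Tr.lf (nat_lit 4)) (Tr.lf (nat_lit 1)))) (Tr.nd (nat_lit 136) (Tr.lf (nat_lit 2)) (Tr.nd (nat_lit 137) (Tr.lf (nat_lit 5)) (Tr.lf (nat_lit 3)))))) (Tr.nd (nat_lit 144) (Tr.nd (nat_lit 141) (Tr.nd (nat_lit 139) (Tr.lf (nat_lit 4)) (Tr.nd (nat_lit 140) (Tr.lf (nat_lit 0)) (Tr.lf (nat_lit 0)))) (Tr.nd (nat_lit 142) (Tr.lf (nat_lit 3)) (Tr.nd (nat_lit 143) (Tr.lf (nat_lit 5)) (Tr.lf (nat_lit 4))))) (Tr.nd (nat_lit 147) (Tr.nd (nat_lit 145) (Tr.lf (nat_lit 6)) (Tr.nd (nat_lit 146) (Tr.lf (nat_lit 1)) (Tr.lf (nat_lit 2)))) (Tr.nd (nat_lit 149) (Tr.nd (nat_lit 148) (Tr.lf (nat_lit 2)) (Tr.lf (nat_lit 3))) (Tr.nd (nat_lit 150) (Tr.lf (nat_lit 1)) (Tr.lf (nat_lit 0)))))))) (Tr.nd (nat_lit 176) (Tr.nd (nat_lit 163) (Tr.nd (nat_lit 157) (Tr.nd (nat_lit 154) (Tr.nd (nat_lit 152) (Tr.lf (nat_lit 5)) (Tr.nd (nat_lit 153)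 (Tr.lf (nat_lit 1)) (Tr.lf (nat_lit 2)))) (Tr.nd (nat_lit 155) (Tr.lf (nat_lit 1)) (Tr.nd (nat_lit 156) (Tr.lf (nat_lit 3)) (Tr.lf (nat_lit 5))))) (Tr.nd (nat_lit 160) (Tr.nd (nat_lit 158) (Tr.lf (nat_lit 4)) (Tr.nd (nat_lit 159) (Tr.lf (nat_lit 3)) (Tr.lf (nat_lit 2)))) (Tr.nd (nat_lit 161) (Tr.lf (nat_lit 0)) (Tr.nd (nat_lit 162) (Tr.lf (nat_lit 5)) (Tr.lf (nat_lit 3)))))) (Tr.nd (nat_lit 169) (Tr.nd (nat_lit 166) (Tr.nd (nat_lit 164) (Tr.lf (nat_lit 3)) (Tr.nd (nat_lit 165) (Tr.lf (nat_lit 6)) (Tr.lf (nat_lit 1)))) (Tr.nd (nat_lit 167) (Tr.lf (nat_lit 3)) (Tr.nd (nat_lit 168) (Tr.lf (nat_lit 6)) (Tr.lf (nat_lit 2))))) (Tr.nd (nat_lit 172) (Tr.nd (nat_lit 170) (Tr.lf (nat_lit 1)) (Tr.nd (nat_lit 171) (Tr.lf (nat_lit 3)) (Tr.lf (nat_lit 2)))) (Tr.nd (nat_lit 174) (Tr.nd (nat_lit 173) (Tr.lf (nat_lit 4)) (Tr.lf (nat_lit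 2))) (Tr.nd (nat_lit 175) (Tr.lf (nat_lit 2)) (Tr.lf (nat_lit 2))))))) (Tr.nd (nat_lit 189) (Tr.nd (nat_lit 182) (Tr.nd (nat_lit 179) (Tr.nd (nat_lit 177) (Tr.lf (nat_lit 3)) (Tr.nd (nat_lit 178) (Tr.lf (nat_lit 2)) (Tr.lf (nat_lit 1)))) (Tr.nd (nat_lit 180) (Tr.lf (nat_lit 6)) (Tr.nd (nat_lit 181) (Tr.lf (nat_lit 4)) (Tr.lf (nat_lit 1))))) (Tr.nd (nat_lit 185) (Tr.nd (nat_lit 183) (Tr.lf (nat_lit 5)) (Tr.nd (nat_lit 184) (Tr.lf (nat_lit 2)) (Tr.lf (nat_lit 5)))) (Tr.nd (nat_lit 187) (Tr.nd (nat_lit 186) (Tr.lf (nat_lit 1)) (Tr.lf (nat_lit 4))) (Tr.nd (nat_lit 188) (Tr.lf (nat_lit 6)) (Tr.lf (nat_lit 1)))))) (Tr.nd (nat_lit 195) (Tr.nd (nat_lit 192) (Tr.nd (nat_lit 190) (Tr.lf (nat_lit 2)) (Tr.nd (nat_lit 191) (Tr.lf (nat_lit 6)) (Tr.lf (nat_lit 1)))) (Tr.nd (nat_lit 193) (Tr.lf (nat_lit 4)) (Tr.nd (nat_lit 194)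 (Tr.lf (nat_lit 2)) (Tr.lf (nat_lit 1))))) (Tr.nd (nat_lit 198) (Tr.nd (nat_lit 196) (Tr.lf (nat_lit 1)) (Tr.nd (nat_lit 197) (Tr.lf (nat_lit 1)) (Tr.lf (nat_lit 4)))) (Tr.nd (nat_lit 200) (Tr.nd (nat_lit 199) (Tr.lf (nat_lit 1)) (Tr.lf (nat_lit 2))) (Tr.nd (nat_lit 201) (Tr.lf (nat_lit 5)) (Tr.lf (nat_lit 2)))))))))) (Tr.nd (nat_lit 303) (Tr.nd (nat_lit 252) (Tr.nd (nat_lit 227) (Tr.nd (nat_lit 214) (Tr.nd (nat_lit 208) (Tr.nd (nat_lit 205) (Tr.nd (nat_lit 203) (Tr.lf (nat_lit 5)) (Tr.nd (nat_lit 204) (Tr.lf (nat_lit 2)) (Tr.lf (nat_lit 1)))) (Tr.nd (nat_lit 206) (Tr.lf (nat_lit 1)) (Tr.nd (nat_lit 207) (Tr.lf (nat_lit 2)) (Tr.lf (nat_lit 4))))) (Tr.nd (nat_lit 211) (Tr.nd (nat_lit 209) (Tr.lf (nat_lit 2)) (Tr.nd (nat_lit 210) (Tr.lf (nat_lit 2)) (Tr.lf (nat_lit 2)))) (Tr.nd (nat_lit 212) (Tr.lf (nat_lit 1)) (Tr.nd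 (nat_lit 213) (Tr.lf (nat_lit 5)) (Tr.lf (nat_lit 1)))))) (Tr.nd (nat_lit 220) (Tr.nd (nat_lit 217) (Tr.nd (nat_lit 215) (Tr.lf (nat_lit 3)) (Tr.nd (nat_lit 216) (Tr.lf (nat_lit 0)) (Tr.lf (nat_lit 0)))) (Tr.nd (nat_lit 218) (Tr.lf (nat_lit 3)) (Tr.nd (nat_lit 219) (Tr.lf (nat_lit 6)) (Tr.lf (nat_lit 6))))) (Tr.nd (nat_lit 223) (Tr.nd (nat_lit 221) (Tr.lf (nat_lit 1)) (Tr.nd (nat_lit 222) (Tr.lf (nat_lit 5)) (Tr.lf (nat_lit 3)))) (Tr.nd (nat_lit 225) (Tr.nd (nat_lit 224) (Tr.lf (nat_lit 5)) (Tr.lf (nat_lit 0))) (Tr.nd (nat_lit 226) (Tr.lf (nat_lit 4)) (Tr.lf (nat_lit 2))))))) (Tr.nd (nat_lit 239) (Tr.nd (nat_lit 233) (Tr.nd (nat_lit 230) (Tr.nd (nat_lit 228) (Tr.lf (nat_lit 3)) (Tr.nd (nat_lit 229) (Tr.lf (nat_lit 2)) (Tr.lf (nat_lit 1)))) (Tr.nd (nat_lit 231) (Tr.lf (nat_lit 2)) (Tr.nd (nat_lit 232) (Tr.lf (nat_lit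 2)) (Tr.lf (nat_lit 6))))) (Tr.nd (nat_lit 236) (Tr.nd (nat_lit 234) (Tr.lf (nat_lit 4)) (Tr.nd (nat_lit 235) (Tr.lf (nat_lit 1)) (Tr.lf (nat_lit 3)))) (Tr.nd (nat_lit 237) (Tr.lf (nat_lit 5)) (Tr.nd (nat_lit 238) (Tr.lf (nat_lit 2)) (Tr.lf (nat_lit 2)))))) (Tr.nd (nat_lit 245) (Tr.nd (nat_lit 242) (Tr.nd (nat_lit 240) (Tr.lf (nat_lit 1)) (Tr.nd (nat_lit 241) (Tr.lf (nat_lit 2)) (Tr.lf (nat_lit 6)))) (Tr.nd (nat_lit 243) (Tr.lf (nat_lit 0)) (Tr.nd (nat_lit 244) (Tr.lf (nat_lit 1)) (Tr.lf (nat_lit 2))))) (Tr.nd (nat_lit 248) (Tr.nd (nat_lit 246) (Tr.lf (nat_lit 6)) (Tr.nd (nat_lit 247) (Tr.lf (nat_lit 1)) (Tr.lf (nat_lit 3)))) (Tr.nd (nat_lit 250) (Tr.nd (nat_lit 249) (Tr.lf (nat_lit 0)) (Tr.lf (nat_lit 2))) (Tr.nd (nat_lit 251) (Tr.lf (nat_lit 2)) (Tr.lf (nat_lit 1)))))))) (Tr.nd (nat_lit 277) (Tr.nd (nat_lit 264)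 (Tr.nd (nat_lit 258) (Tr.nd (nat_lit 255) (Tr.nd (nat_lit 253) (Tr.lf (nat_lit 1)) (Tr.nd (nat_lit 254) (Tr.lf (nat_lit 3)) (Tr.lf (nat_lit 1)))) (Tr.nd (nat_lit 256) (Tr.lf (nat_lit 3)) (Tr.nd (nat_lit 257) (Tr.lf (nat_lit 4)) (Tr.lf (nat_lit 0))))) (Tr.nd (nat_lit 261) (Tr.nd (nat_lit 259) (Tr.lf (nat_lit 6)) (Tr.nd (nat_lit 260) (Tr.lf (nat_lit 5)) (Tr.lf (nat_lit 4)))) (Tr.nd (nat_lit 262) (Tr.lf (nat_lit 5)) (Tr.nd (nat_lit 263) (Tr.lf (nat_lit 1)) (Tr.lf (nat_lit 1)))))) (Tr.nd (nat_lit 270) (Tr.nd (nat_lit 267) (Tr.nd (nat_lit 265) (Tr.lf (nat_lit 6)) (Tr.nd (nat_lit 266) (Tr.lf (nat_lit 2)) (Tr.lf (nat_lit 1)))) (Tr.nd (nat_lit 268) (Tr.lf (nat_lit 2)) (Tr.nd (nat_lit 269) (Tr.lf (nat_lit 1)) (Tr.lf (nat_lit 1))))) (Tr.nd (nat_lit 273) (Tr.nd (nat_lit 271) (Tr.lf (nat_lit 2)) (Tr.nd (nat_lit 272) (Tr.lf (nat_lit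 0)) (Tr.lf (nat_lit 1)))) (Tr.nd (nat_lit 275) (Tr.nd (nat_lit 274) (Tr.lf (nat_lit 0)) (Tr.lf (nat_lit 0))) (Tr.nd (nat_lit 276) (Tr.lf (nat_lit 0)) (Tr.lf (nat_lit 5))))))) (Tr.nd (nat_lit 290) (Tr.nd (nat_lit 283) (Tr.nd (nat_lit 280) (Tr.nd (nat_lit 278) (Tr.lf (nat_lit 1)) (Tr.nd (nat_lit 279) (Tr.lf (nat_lit 1)) (Tr.lf (nat_lit 5)))) (Tr.nd (nat_lit 281) (Tr.lf (nat_lit 3)) (Tr.nd (nat_lit 282) (Tr.lf (nat_lit 3)) (Tr.lf (nat_lit 4))))) (Tr.nd (nat_lit 286) (Tr.nd (nat_lit 284) (Tr.lf (nat_lit 0)) (Tr.nd (nat_lit 285) (Tr.lf (nat_lit 5)) (Tr.lf (nat_lit 1)))) (Tr.nd (nat_lit 288) (Tr.nd (nat_lit 287) (Tr.lf (nat_lit 6)) (Tr.lf (nat_lit 0))) (Tr.nd (nat_lit 289) (Tr.lf (nat_lit 3)) (Tr.lf (nat_lit 2)))))) (Tr.nd (nat_lit 296) (Tr.nd (nat_lit 293) (Tr.nd (nat_lit 291) (Tr.lf (nat_lit 0)) (Tr.nd (nat_lit 292)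 (Tr.lf (nat_lit 2)) (Tr.lf (nat_lit 3)))) (Tr.nd (nat_lit 294) (Tr.lf (nat_lit 4)) (Tr.nd (nat_lit 295) (Tr.lf (nat_lit 6)) (Tr.lf (nat_lit 5))))) (Tr.nd (nat_lit 299) (Tr.nd (nat_lit 297) (Tr.lf (nat_lit 3)) (Tr.nd (nat_lit 298) (Tr.lf (nat_lit 1)) (Tr.lf (nat_lit 6)))) (Tr.nd (nat_lit 301) (Tr.nd (nat_lit 300) (Tr.lf (nat_lit 2)) (Tr.lf (nat_lit 0))) (Tr.nd (nat_lit 302) (Tr.lf (nat_lit 5)) (Tr.lf (nat_lit 5))))))))) (Tr.nd (nat_lit 353) (Tr.nd (nat_lit 328) (Tr.nd (nat_lit 315) (Tr.nd (nat_lit 309) (Tr.nd (nat_lit 306) (Tr.nd (nat_lit 304) (Tr.lf (nat_lit 5)) (Tr.nd (nat_lit 305) (Tr.lf (nat_lit 3)) (Tr.lf (nat_lit 5)))) (Tr.nd (nat_lit 307) (Tr.lf (nat_lit 6)) (Tr.nd (nat_lit 308) (Tr.lf (nat_lit 6)) (Tr.lf (nat_lit 2))))) (Tr.nd (nat_lit 312) (Tr.nd (nat_lit 310) (Tr.lf (nat_lit 1)) (Tr.nd (nat_lit 311) (Tr.lf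 (nat_lit 0)) (Tr.lf (nat_lit 2)))) (Tr.nd (nat_lit 313) (Tr.lf (nat_lit 1)) (Tr.nd (nat_lit 314) (Tr.lf (nat_lit 3)) (Tr.lf (nat_lit 4)))))) (Tr.nd (nat_lit 321) (Tr.nd (nat_lit 318) (Tr.nd (nat_lit 316) (Tr.lf (nat_lit 3)) (Tr.nd (nat_lit 317) (Tr.lf (nat_lit 5)) (Tr.lf (nat_lit 2)))) (Tr.nd (nat_lit 319) (Tr.lf (nat_lit 3)) (Tr.nd (nat_lit 320) (Tr.lf (nat_lit 1)) (Tr.lf (nat_lit 0))))) (Tr.nd (nat_lit 324) (Tr.nd (nat_lit 322) (Tr.lf (nat_lit 1)) (Tr.nd (nat_lit 323) (Tr.lf (nat_lit 2)) (Tr.lf (nat_lit 6)))) (Tr.nd (nat_lit 326) (Tr.nd (nat_lit 325) (Tr.lf (nat_lit 1)) (Tr.lf (nat_lit 6))) (Tr.nd (nat_lit 327) (Tr.lf (nat_lit 6)) (Tr.lf (nat_lit 2))))))) (Tr.nd (nat_lit 340) (Tr.nd (nat_lit 334) (Tr.nd (nat_lit 331) (Tr.nd (nat_lit 329) (Tr.lf (nat_lit 0)) (Tr.nd (nat_lit 330) (Tr.lf (nat_lit 1)) (Tr.lf (nat_lit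 5)))) (Tr.nd (nat_lit 332) (Tr.lf (nat_lit 5)) (Tr.nd (nat_lit 333) (Tr.lf (nat_lit 1)) (Tr.lf (nat_lit 3))))) (Tr.nd (nat_lit 337) (Tr.nd (nat_lit 335) (Tr.lf (nat_lit 0)) (Tr.nd (nat_lit 336) (Tr.lf (nat_lit 6)) (Tr.lf (nat_lit 5)))) (Tr.nd (nat_lit 338) (Tr.lf (nat_lit 1)) (Tr.nd (nat_lit 339) (Tr.lf (nat_lit 6)) (Tr.lf (nat_lit 5)))))) (Tr.nd (nat_lit 346) (Tr.nd (nat_lit 343) (Tr.nd (nat_lit 341) (Tr.lf (nat_lit 6)) (Tr.nd (nat_lit 342) (Tr.lf (nat_lit 1)) (Tr.lf (nat_lit 2)))) (Tr.nd (nat_lit 344) (Tr.lf (nat_lit 5)) (Tr.nd (nat_lit 345) (Tr.lf (nat_lit 6)) (Tr.lf (nat_lit 6))))) (Tr.nd (nat_lit 349) (Tr.nd (nat_lit 347) (Tr.lf (nat_lit 6)) (Tr.nd (nat_lit 348) (Tr.lf (nat_lit 2)) (Tr.lf (nat_lit 0)))) (Tr.nd (nat_lit 351) (Tr.nd (nat_lit 350) (Tr.lf (nat_lit 2)) (Tr.lf (nat_lit 6))) (Tr.nd (nat_lit 352) (Tr.lf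 (nat_lit 2)) (Tr.lf (nat_lit 1)))))))) (Tr.nd (nat_lit 378) (Tr.nd (nat_lit 365) (Tr.nd (nat_lit 359) (Tr.nd (nat_lit 356) (Tr.nd (nat_lit 354) (Tr.lf (nat_lit 0)) (Tr.nd (nat_lit 355) (Tr.lf (nat_lit 0)) (Tr.lf (nat_lit 0)))) (Tr.nd (nat_lit 357) (Tr.lf (nat_lit 5)) (Tr.nd (nat_lit 358) (Tr.lf (nat_lit 3)) (Tr.lf (nat_lit 1))))) (Tr.nd (nat_lit 362) (Tr.nd (nat_lit 360) (Tr.lf (nat_lit 2)) (Tr.nd (nat_lit 361) (Tr.lf (nat_lit 0)) (Tr.lf (nat_lit 1)))) (Tr.nd (nat_lit 363) (Tr.lf (nat_lit 0)) (Tr.nd (nat_lit 364) (Tr.lf (nat_lit 5)) (Tr.lf (nat_lit 5)))))) (Tr.nd (nat_lit 371) (Tr.nd (nat_lit 368) (Tr.nd (nat_lit 366) (Tr.lf (nat_lit 0)) (Tr.nd (nat_lit 367) (Tr.lf (nat_lit 2)) (Tr.lf (nat_lit 6)))) (Tr.nd (nat_lit 369) (Tr.lf (nat_lit 6)) (Tr.nd (nat_lit 370) (Tr.lf (nat_lit 5)) (Tr.lf (nat_lit 6))))) (Tr.nd (nat_lit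 374) (Tr.nd (nat_lit 372) (Tr.lf (nat_lit 1)) (Tr.nd (nat_lit 373) (Tr.lf (nat_lit 2)) (Tr.lf (nat_lit 4)))) (Tr.nd (nat_lit 376) (Tr.nd (nat_lit 375) (Tr.lf (nat_lit 1)) (Tr.lf (nat_lit 2))) (Tr.nd (nat_lit 377) (Tr.lf (nat_lit 6)) (Tr.lf (nat_lit 2))))))) (Tr.nd (nat_lit 391) (Tr.nd (nat_lit 384) (Tr.nd (nat_lit 381) (Tr.nd (nat_lit 379) (Tr.lf (nat_lit 5)) (Tr.nd (nat_lit 380) (Tr.lf (nat_lit 6)) (Tr.lf (nat_lit 6)))) (Tr.nd (nat_lit 382) (Tr.lf (nat_lit 1)) (Tr.nd (nat_lit 383) (Tr.lf (nat_lit 5)) (Tr.lf (nat_lit 6))))) (Tr.nd (nat_lit 387) (Tr.nd (nat_lit 385) (Tr.lf (nat_lit 2)) (Tr.nd (nat_lit 386) (Tr.lf (nat_lit 5)) (Tr.lf (nat_lit 0)))) (Tr.nd (nat_lit 389) (Tr.nd (nat_lit 388) (Tr.lf (nat_lit 5)) (Tr.lf (nat_lit 5))) (Tr.nd (nat_lit 390) (Tr.lf (nat_lit 0)) (Tr.lf (nat_lit 5)))))) (Tr.nd (nat_lit 397)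 (Tr.nd (nat_lit 394) (Tr.nd (nat_lit 392) (Tr.lf (nat_lit 6)) (Tr.nd (nat_lit 393) (Tr.lf (nat_lit 5)) (Tr.lf (nat_lit 1)))) (Tr.nd (nat_lit 395) (Tr.lf (nat_lit 6)) (Tr.nd (nat_lit 396) (Tr.lf (nat_lit 3)) (Tr.lf (nat_lit 1))))) (Tr.nd (nat_lit 400) (Tr.nd (nat_lit 398) (Tr.lf (nat_lit 3)) (Tr.nd (nat_lit 399) (Tr.lf (nat_lit 5)) (Tr.lf (nat_lit 5)))) (Tr.nd (nat_lit 402) (Tr.nd (nat_lit 401) (Tr.lf (nat_lit 2)) (Tr.lf (nat_lit 0))) (Tr.nd (nat_lit 403) (Tr.lf (nat_lit 0)) (Tr.lf (nat_lit 1)))))))))))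
theorem mini5_alt : Tr.all (altChk idx inv RW (SW5)) mini5A = true := by decide +kernel
theorem mini5_chk : Tr.all (chkFc idx inv mini5S mini5A (fun b => Tr.find b mini5P) (fun b => Tr.find b mini5Q)) mini5S = true := by decide +kernel
theorem mini5_run : runM idx inv mini5S 857 0 [Mv.f (nat_lit 4), Mv.f (nat_lit 5), Mv.f (nat_lit 15), Mv.f (nat_lit 16), Mv.f (nat_lit 28), Mv.f (nat_lit 29), Mv.f (nat_lit 30), Mv.f (nat_lit 31), Mv.f (nat_lit 32), Mv.f (nat_lit 33), Mv.f (nat_lit 34), Mv.f (nat_lit 53), Mv.f (nat_lit 55), Mv.f (nat_lit 56), Mv.f (nat_lit 856), Mv.b (nat_lit 32), Mv.b (nat_lit 31), Mv.b (nat_lit 30), Mv.b (nat_lit 29), Mv.b (nat_lit 28), Mv.b (nat_lit 16), Mv.b (nat_lit 15), Mv.b (nat_lit 5), Mv.b (nat_lit 4)] [Col.g, Col.b, Col.c, Col.d, Col.c, Col.b, Col.e, Col.d, Col.c, Col.g, Col.b, Col.f, Col.b,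 Col.g, Col.b, Col.c, Col.d, Col.e, Col.b, Col.c, Col.d, Col.c, Col.b, Col.g] 0 = true := by decide +kernel
theorem mini5_fix {G X : Type*} [Group G] [MulAction G X] (g : Col → G) (x0 : X) (hinv : ∀ c, g (inv c) = (g c)⁻¹)
    (hRW : ∀ w ∈ RW, gw g w = 1) (hSW : ∀ w ∈ SW5, gw g w • x0 = x0) : gw g [Col.g, Col.b, Col.c, Col.d, Col.c, Col.b, Col.e, Col.d, Col.c, Col.g, Col.b, Col.f, Col.b, Col.g, Col.b, Col.c, Col.d, Col.e, Col.b, Col.c, Col.d, Col.c, Col.b, Col.g] • x0 = x0 :=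
  mini_sound g x0 dec hdec hinv
    (fun a ha => altChk_sound g x0 dec hdec hinv hRW hSW ((Tr.all_iff _ _).1 mini5_alt a ha)) mini5_chk mini5_run
def T_a : ℕ := (nat_lit 0x382e59f631ab82e8f83864252a51ed220ea2fa7fb612685b754b8ceb71951041f53b716a3fc268d9a1290df9f29e85997de0dd794dad01cb511d520a526712abb96f0458af092f8c21cd08235205c70d37f1fc5055db3994af3e8e2ea95e912b22f1a65158e0e282b4a5f29d10537b727968702fa7b97a6b3bd8e43a2b664f3cca27de8752592f23b7212d66a5696196397d9c7af8785701c45444e5d3d0d082e43ef58fa8bc8d294ed027997ed9ef0cff9d71a84c23251645913713f1e3e275a61b72fc27678e430587169412ddd285d53129a95836e6d5bf0189eb3a93881925761cf48581319c57fedba8da612569d4d87233cbc1e31188e3f7a33b77fa6f2aaecbdc51e02160cb44df412e80ca76544969e1c5c0a557f05cc61526b402d4dba47fa093e4c9b4cdc6825c0c720f327733fda27302b50d1c281ba584c817eabcacb9e2669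67250264012a99f22e57acf3199aa075af3eb3ea88b56572368306c65aaf10ec8153b003828cc527f10416c2d55dc4cd028204916acdf97aa2940578769dcd3da96fddba242eca156037becf911145088f066128d72bc0f8bb4de882129b1eef1ba27ce6c91ebcb13ad697103c7afb04edfd502586569702ea7bd065ebd83f16cf04f596560689d2c445154d23d545e941fdcad3c9f542d84483c28618194c0846bf054cee1bcd9b4f8009a4a015d75abb3bd3b0e80da30d08066d1cd8e470139ed93f896a4c88e0afc04ea9368334600afec32cd178e7094727f661d28d41b74b958a4016e0f4bdc602efe4de5c432e093430cd76cb5abf8d4300b4b43a89ec705bfeb49d6ec514237c449820b2451bf3c0895423dadc218e05f8dfb2b532d435707a2b8c7993d6438472bf0b69c9db1c93f29003ae69b5b8128db9f34cb50ddfd166d2cb17296852b37069e1e2ce27bd350357293264c9b58bdd8145f7f701d9995cc9e4bda50951daae4113dab4d240244a93799b4a3f2afba2997fce189ecfc0e08b7060e872bf37e589c0c03a20e379d51056df3775a0938d0d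fd020c20e2e6d7f7a67ce80fed08e77583dbc6e135cb3eeb664d77724d56b968f53cd6da3c2bf500000e1f30ecc2bad55832b9427e47b0f200aa9a1f8d022af8525e1615272398c498f07685b39de3243595198e0414722541c0abcf29c782814c7c8274bde5865e6fcbc32b8e30cfdd80af887b7029b5683e9ce8b26bbe308b122a766e65d14d7e570b8e5cb1207ff2d4483dbf6817ef9276b2c960d5c6a0268597eb8c2b67ef408958a56c37d3c0efd6b8e41f13c5ca653402cc33e130bf0f3b390fb4acd68023b1742f857aefc03fc0f96f033485b47593c00fa66dead9d6528246640615881a3c662040b50da075d794dd887dc36d3487671d7cfc5a47eafacbfbeb2938507e3f0d410cbe0c43030ebc21b77995ebeadce2121efab84b17efa91d42bd53f02bb823dbf96c5e2944a04302a5f36ad2444791e4f117478ccdb811e0a904f000e2a35d71b31fc20080af27e5045d915bc8530ef6753b564a4675574c93c5b948fdab38653a8cee2c97a150978afd598b15acf26330af5d3b033a6140f4ec6eb516e74c00017156c7cd5981d525692eb836b01d45da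72eab3a909ce03f0da222b6f3496843f1fd1dba2ee8ecb89e44327067c9d0fa2e39c6b88022ad40a11aed961de64601a66d7d8c37bfc4fb85f0347d04883da8a075796554f7c3bf1f6d571344c402fe6bf35b7e81100439495c50c523dcbe4eac7414104335119dd6ba2c58f51c1130b2302cb49e8d49b6f9678e5a90726e3190f6351245d85ed598caf7c57d6306b0e63878885ccd2fb34053fc98ee507d59d36e632407e90bd19822bf6624c6c31e89f36a0ea3a17ac5d20ad64fb03dfd82f2c9550d2a628fa21cdd460d09c18f431bc2db595f25c770877baa64cfc66b3c5e3959e2f16afb174fbd2d30ea156db0d6f004ba95e3558fb05a964ef7816080b088a894c2aa66fbede0738e25f71aae6c5e06b61e6ddbfca48e9edb6f503af7a4972dc3cf9089e062046dbbaf9fdfd6c44016c759c918af6494050e2e6dd19fc674a7f04fd19a1457a43beaeebf0601cb21d428317577fc978bc454845aea51dd24f358515369607cdd21a7fb3ef55c633e6e19771494a8ace1db7b171e3702d22e61389d08fa7a5230423d26982bf17b363d5e9595a3741efe66599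6cc06067122e3122bb073a9b6907b72317c1d7618537f513b0fe922e7669b8593dc252f95a624fbccf1862e55a8fc9cdf0685c3073d9eef5d63e8c6a14ab088024ea132c67b9048132dc184da7383792d236c1578e9fb01d494aea33c6df8f1a10dd929b2fb9f3098b3c52b2049548f4baf3e236097e46ed0c5b8ba17ef4edce69186c8420d041f367b8e5d04f557ba3f37d37d24628eeaa0e1284e49cd866e65b5b825f27fbee260ce963a9e3505757d1e77da5347151fdb304d57b5f6cabe27a4680f4c91f8e01fdc3b87ae1e5c5c01e8317fe13e3be658d9a6d268460377f9462e685026e90cf65e8b4fae1f69a67f0a6e95ae45223cd2bc92310cc7d015e06c26cdd6dd538cdebc9a247640955f6acdb7b25b83d806495110ab979bb2bb31e154e5c755b853847234bedc08a59d2cf38164f1e46293d9261d1a6ae9ea17650d82183db8e6e0503f62878c8639f48710455609d1e39a372f84e28a526107931d5fcec030c6b52dc56fbf00479c1871226938642a9faa8b97989962679ce51deb917cd1ff0bcc1de0576a0480b5a2de83a048e9adc8cd56730fc21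a2d75c60126fb31a8a1d987a073e9e84f05cd737bb57d2418dbf023283b65024783e893d3673bc7891a4b5e257d399c39278cf1d8c489e819752301980ef567aca242707696c6bb514f2d6b8852408de2270cae2f68329370402eb73096429ee6815ed7805ec70b127f230221b8f33b4a47e54988900f162a51c093cde1a003af7f57e168fbb3c164a535a1dafa4670d9b96432c086e8322c352b67da369075430d8994bed06917757417d921603545dd2d4534297c914cea9726d30776e3cc34297c9231951a59535c2d935ee4a7b216b6c912d96f273b42a1068d3fd4cbec29107c59ba59e6b18c16cf1598a925cfc07aeae54f403694870726e9a14ef46f1cdfc9f0614e6697266c14c8ec70bc934c997f6307e1b03cd0f169b7670a74c8f5dc7717c5fdb155f6ea26f6720aa7b1ee6746fbaef5b471c75e6b848ea72644c216c52b4d58b83e81b2146da38dbc65ff98d6feec43ecb9f85f06a44d2e5dfcdb9beae49b9d0b695de8893630bbc890760b550ddb0e54cfc03202c979d23c6e55a6ad8909d5ef3c8deec82f9cc35521a81bdd02f863d0badea98b5e3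470d1e669653b8a65555cc23c00142cec69940a6528b2da27869a6b2018bd263d4515a33868755fddfe1a3cca7d6764436f9c81b9cd8f36fdb5e14e5b6f100ed4da53167d0b823f2ab189922a1f15ba6ee4a746a65d7c568af962b6ca8dedb752ea804fc096a05738b389b0cef7082fcd298485dd3ff4bb5355af12fbd7de05ca58431b08161a8cf94c2ebf4dbe111bcaef17e6a3e2194ce9acc20afc6cf12768fe2b03c87a217b1a4429b2dc622911a7a4c0266546f5ef1c293ee27175ed3d7e80a5443b89528c2ebff7cfb0495cb0676ad8dae21e32d75ea5470f5621d56df00bd7cb4fa2b8cbc49eefd75e49ed411e1aad4d4f1b384408476f83e4f9aeedb887ff698212b11ce52e359addaa594a01ecf14c7c95062abc41d9da2173b330efe6225c3c376ffa0144e975041502ed2e585be9439c43710e314beb66d71be4d3120aa99c90acb100549761d9d2b2abf3663598c8ae223d5d7f360a57fd9856d6c38b6fe31561490aca596b92d967610050d361ac8a2c3363c076a998ca8ed017a07e819d79a42dcd4f67195e0d86efd6c59184187f1401f0bc35536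a5f4439e4983fc0cc1acf1a566c4381e93ae8d3620696fd31c6b5263e8f3bfa1321387c72d4e208aa7c3cd46a0fd39e89ba1ed049e575cc5a8b5c143dc7197c6db42886261b1b490353f2e012febefa865fa60832b5c6d89d6580da9af8bfff86184e970e7a517c651c4610c99d2a05658c299def7d5c6d22ec393249ab3faa39e7c0b02ab4423aa5ec4e7f246b745857e10edce813543a407e2bb86f5c0882e66ab189f10805e261e2095dce342f7d38242903c2cd5b355ecd9436f7d2bb08a01bfc0c28a8e5c7c8ae57dc9a58e92100713564ac9dbc3de6126fc845f2d176a46b180eea7bfe0f34bb7072e4f9cd2a94531774032d610923abde26756f06bb57282dbdb33775980a0ec6d676d437bb2efc34d06e65e2930aa8dc8f58ef2d48e3c44c4dce6c38aabde71ad9849fa15b0d1a8fd9c51d4998f724022914a50f3a2a05a8fbf0f236149e87a7f73ee9a207212d260f14e00dc3d160c86404d61df435d6138a6a63137eb07c504d2d8fa910003d62f38ed380933b99138093aa0c7dd60c2e1c083241f4e97b19ae44b440574ed22be7d5d0f397a2fc80d9b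5a60bd35a8e71caa62e0c099e764d7e56613273807bad3c835aef00f330b5a2d437fb7f56b68c8d829fd4e08f08a0109b8bb84c166af07d3ee37de886c3f7446e7b4a4a70e1681413bb54d48be8154cd016abd903950febd9bffc2a30d84ff37dcfc201d147751c77b7ade4387426d071c8701bdaeccc865017d8acde1ab5602022766cc9b47b34cf6620b47bccb3a4c06e36b8a9c0acf2aa3b761ec34c826a97c5efb3c9ba56e040ac92775711468a2374239a0bcd6aa6f088283e0ceb3ea844f18cdc445bb27960ac8b8fc258418659e94)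
def T_b : ℕ := (nat_lit 0xd1ddbaed37c55988fd0c49b5765c369e957b87a571cfefc19804be7e3c7134deac28c18a8128246a057accaab5dcfdd417090f4a419c52810f806e85dc29a9aa574b2f059bb9785bab86c55c107dacba96939ea64886ee3aa6ae68adfe95b2b16fa6fcbece6e3012966d1e1cba02675e222cbd1f0ae443539ed7929f6df058c61842dc7a5c508820120956ca1ef8100e7f5aa7526eeccf0d0eb4bd2c71026f9fe2765a030b92c366c32a1e712e18ec80a8eb692a044a92ef7d5f5fe3e93a91c03e8ab4cf7e275d68c1e7f07434f313b558c65178e3089e8c9e1758da56f934caf9b57004892a42d2ffe1cf6814ee677d815772a23861f606cebfb97733cbc25dec159acff27d78d5f82cfd41994fead44edc48350d44e23065117b0b70806dc9931b0950496bd34a4b0300b1053ff4df5d45c792ae1c5bfaaa1bbc624bb599f46e0e83e6c3e1749755c3c70d0319e1dfee761ed85096656bdd68caf1cf0d13d6920a175527e2334c949ab6fad5a69ba59316d9caa46f254e52fd4a83526834f19b3abc9454a2d982af34563279801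649e849623af31c8344b398cfb86b0da37bc7f37499f8a8673ee3b348b6ac60c541fe817f09bb5bdbda4fa9395d62c80be62ab1f576425bdc1b26ad47791cfa2cfc295a13b4c857d12a68ede2ffe2eaa2c8af1e9a54af7f579ce129d7a7a3fd21df492bfd5342b9d9b87d2fad51718ec1b34b3da9b7ed500279db2fd9f27543ab142264678d0667df70372904893f05e07442eb7f673e9515c55055307473e58e0cb96d4ee3e99713f74bea73ebaf1048d61ef62a0fdede1a922d3f144693ea850882c89492e3b4b28f04201dd810a1b3654745f61e6c4ed53b4f7b1fdaa5c8db404757f0842d5ed6bc432f6e7de2c0b443fe201d001842e0a1ba3dc17fff7a8bc9977ec25fec01b9c790a0aae0808ce708a216f575980fdb281ccea48c4dd09085c8363c4b4727afa3304e3e9a76e4ed60a07e52edf0f8bd34ecd998aa62c48ee0d7f5ff0801c29bc610a7903f6bbdb1574448a2df58722dc354ef48c789eadaf4e3f95d858ffeb7d28614bb9cc67d570dfecf9fb24203561db091f1c14fcc7b0bf232573b86ce7a077407e24bde9899e75a6d4dc4e85149c38c0ee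e889698fe388dee6503856f175e842901e913a380e6995bd816bc0d73f8d03f44f88c8735edb8fa96e0465cc808cf18928cf57aff84811e5d4a529de46a084cfcc044830aaf5cbb73be78d818d8cceee630b32c2232569cba51799e301553d6052d3e5c7e3284683705e44eea3460648b25d3b97793e4c57dc47a35e132da5008d449a2b2b6b1b95387fb50071d65911ae58090785d79fdc42d4b079ac82a95d21ea46fe049fc0101abeda21883f3b3ff2714fdbff4a2e47a809c85ef35a48b25a023b832a37bad15a66d3b9d1ea098ac220f200b3db6dd427d623cdecdf5a2722892e4cf0301901287da64b4e2ba9a254671f019ae1ad7190af427b597a52b9dff3eb5e359e3e44a337185da83affc7053a3e5a7cd977602f803f61c05ed618a9542e9f4b11183338e3dfcdb856a53735981f58e43d9c87f01178733cd7cf33b0209b43b2c90860debbfc54ebfd7f2ef6308381a9b343f48d1c186b942f50af85750dd533f629be523dd3916f61c14bbc6c91cb3026566af774f75394c0efb93605b17413bc9c7e1a07ad76d552595655ab43040ddeb64a437f20e2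e58dadb7d0d5d9785c6111e049f36e1108d9c042ddf2aaea5f81722c0443ffc713f528adcfc1401af220a20c0aeac7b99279a2509757f5cc7012905e899066c408ca2537f223c10102fe6d434884488152de1df63f1fce540204650013b055e779645360b871013792e61d8d89867aad0e0203fabd93f29b14bbdfe8e6a01e49b6168df3ec8d2a26f67ea58c6e5d7b262e5cac9d3bc766ad4254a94948b164ccd8c8cac6f0c02011b320654b6d71e9e4f0cf7772e3ec33fd6d3bfb8b53d157d7c5f3deac994fe37d0ad9f02c0883f6574c3708fedfd5369e19608cd88d737e5dca420b46f08185e5e133d740b3899e64d6e5565217c84df64293c77ce8c6bf4821e00bff66a6692536fcdc7bbcc73ed16f06b7f925fce37b2de779546bd28c44234aee935d22aee92217ae139d2a6deb9b9408833aa3ca99e9cfac9b8ec950e81a4b12e50bec7164fe7152d00076fa8810b8358d357b833479534ec82a57ca8ed3ac0ccb6d11a7da675522e8f92441c58a31e3ab16b8a33a43164eb1d3d35b6e694c0dd37ebe15042e1d98697875fdacd7ec3a9c4b1d54b04167e463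dde4ba3c260a21d8493e3c22d74346a464f450fab5ef620f380b694224e525cea53a571a7854974853e90d678279ccfdc065fafd22c65052533d03ea60791776500dc1a53419421d9a814dd2948c3c08fb6d6875b5c8db007ddf5103b5661a1a3c9b06a8585b80a7ecef096f7b695abd76f8e61455cbfd089c55b8bd290c9754ceb41a6533e25b38e6e072251089a775f72fef426473a093f69b95d9f50bcaf358aa63bf54916c8dd51601c474badf4a6e495f96a18391404ce80ff19283e82fa3c5f0ee9948daad16f624e10d4ff0526ac3592d720a8a42411c4517e298e98cb1de136db0ac49ab07091fb94d838c7de10a78a18349d6461958b1ac0312bb58aa66a50343e23fbcfb03e5cde38e09a6a4d1d991ed61e4949d49a4b0c1cfe20ebf3055d517af733d2c1c70529b8df149d331b2e9f35ad1618d1b105e8c2d82f4e6ee21179b47cc99a104482c0ff2a0f2a7df5bdf4710c085ad766f21b358015ccde5bb6479f08541dbe0bddba20d4c219754c231d53a3017e997bc1fbfec9f9b70e3623c415df59d0c06f3d668a88650c39266a80c01f6aec9d47ce6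5e42443f7afd930c5a17bbce6712adf9e6f321bafb37b432ea90de198cf49be94c1f68ac4473f721f45505ae11cdb3a04540b3922c419e79ca8e0541fe9f525768a45642b0e0d7cab29ddf6df14e1748db7484a180116fa705fe42fe3f1ff632fcd603ed1da4e0ca7a56177447c7db6b69afd5799a31bbab649c6705ea3e2469ac22f37ac6ef2b7694d89b5adcb08d35a438c860e54cc424afeedf4c2ff70dde5805abe0454bd3101b12b0a73fea23d9c84aa205f3eabcdce7b3beaed2119a083af71f0ed60d2bedb2986e3aca343795e08459d14d4dc0c44fdda22d15503d67d5a51326b899d26f0efb1b8c29f287cab98c25cb65a19042b42de197f42d80c3c298be7835c6f2767b00818bb9f1a0a5a0eb4ffcf2a9553d2810e1ab762eac1045b08850ac9f711454bc77c763149dd75793c4f2ea0222763e4e957f3afab9174d9b145516e6a500fe96a3b4dc0635549ead727037c9432de50008ce25ef04e7c01b8a8c441092fa85aa1076ccae98516dfe048ab73b254f0ae0e2e9a66932b2f83fba7a70b4518667362d91fc9b5b543da56262d9fdf9fea2a49ad5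4a254cee024241b7ea89d3fdbbc15c1563388a125846550225a033030c43b350fd6815fa387be5d5f0b8ccc1ef58cdf7287200424ac3dcb5b4d85ab57b58e07c0b2a47d42b42689ae170c8f6d15698c1f96c40ef09104c6d97074b8008ac618aeafa56f63a12d442fec2b4cef14be8ef98ac63b7502bfd1ca2b97d37843a0bfd9809bf661650ec23e7aac804de5da75b599cd9bcd9c947280c70a96b5e86952eca32503eb390da8b4ac9e2816b0afcbb7914982f982d2783c6e7dc2d5aa2b15ea3d3881f22c8387a23c503ce31f1c42b41361b482cabef4ec86a16ef9a511e88f61ca52fbbc7f68a3f1d61ce87759576ea29afb9282f528977fcbc22f38b2872e1b31b5203ce49d40d3b7cca2551b68c24e774867d0975d711d3c6524c4a0b6c176bfe1e8d20b94d0aa4c59c2b44226aefd3329153e7b49c48fbfd00fb3734b04b051871e6b1a26af80245d1d6b7e3e93242bd6379c9b59e4e8ee417c96f5ceef5cd192789900e1d2edf432fa5d7f2cf63ad52bd52a836e7ae656ab9154d906159746ff43269304aba83ae8802224b9c0bc0e4d3ea8bc650b9e1b0b9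7eb9bf14f0b7245936ea7d17f7053990d2ae346f713b7dbfc789a5ef427a6680016c7a97547303d02dd315f95e6c65e6fff994708fdb7ef7d102df84003b07cd16737e2b686489b9a4e6918b466ac82a9eb06b442dd2c2713f3b06cc1ed6b3dedd21114328158824878abbafb824c832575d8965c6bc673a5d615c4789accc6321d039ab266120040c634471c4e70a3cf7e32bb715a2e88774f6beebfa272db75f3add9795844682137c291a34cd3ab632a941ebda39c41ced32736d62a54d178eb67569c3207b94bcedc154eb90e3f1272daf34e37d1e4810b12ba2c30ca24c0373336f350063ebe6442b9bbb70aa64ee63cf066d50983803ff83f012c97b2db8e65f1a74291443824b57bb999a874184d509e19ad94cff03c3d66798ff1afe75555f387580e3fa5635a23928fd295b9839c4b539ced3d2e1c41699a9e7243c3e879ec152da18234e5c12cbbaa7681147dcefc8da9f24224bfeabf393b32b2b102fa766f73b13d27cc7d880627785f982657886e6a742317e9910f7280c0e2e82d1b8c1abe2603b9a506deab041801ccf6191269989e3e907be236093cead15a8544cd386ff0ceb67177dfbb3de2956a5764172ebdd6cd3a7678ac6a108bf81fee211ed9f48d79e809cf2ad57ff08cde5fbf6a383e53ad08f1d8d0927cfdbbcd754832cf84c870743b4431f00a2d6826f00fd8fe988837e7557b316a328c984a1450ffe81ed3c8ab4106e3229acd1b2590de42ec3f4c6a2c97643d9a8485f7a48184496c4)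
def T_c : ℕ := (nat_lit 0x10af4b7e266f17270b2c980a8ac04b75d31b116d19c8aa8dc82099fb2050587b69e45dff207eab02544c92d454b2ff5a6ecae2848d8265fc596a48ad766957e10ddcb6ad009079852fc73f318a30afce2575b4299685a167b66a8a1991081594a1ce63ddce3f7c5d464831e290df5cc83b32defcafa6f36e891f7a6fea703a4e7386802e17b7c84a9f98ccab60a28a4cd06a5718eee7e0f44ed72ea9d04a3d55ae2d1ec7e3cc1e6c9c9a1b26e4da3e6616c5212c9bbc0c34964d9638839d44e08c4655b67612a97a89b1943499a84ed41db17bf278d872f09eff2c34163a88201651ae7258cf4bef67a4ea1626431bc2baa1b30c01946ed199ce87dbe8d5c73401f731de4ff0d665c591be4f61c9a2529017d56018e537ece0c71f2a8e57da01407b661b2f4f62684f2efa414b3e264a42f5a57eaf8145723e7b5dbb21a2aea31a855346754895b0099b4dc34e637c13fc0863ea90ae36a587a3082b8869432afb4450a5dae9c7c83f53f9d537f8de17cb31fe28ad0232376d564ee419b78fd8076f4a4a67b2fcdae24725ddf15b9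f2bcedd29494f0e8e0908a29f8d75c43b25fc695b1e2fcb32e7c7616d9c32b7991b2d4e29991425fed134e7ab8c9f0342865d335466a3231e7d23d53b7d5f1251cb9a51a38b1652716e02d5d1b75575453954134d6f45b95acffc3dd05d5a642516e6217be77d9e6de2740627ebb74050fd9c3f69447fd0df84a2eb90a6badaaf512d0cf689116eafcd6e8757d1bd7806a75082f7db963f2caaf62bf5fe7e72178461e4d8153c1e2ca93b27c350cfa898bec6bd49cf336cb91a5663e6a2fdd07ff9f98f6003fa6816ed66cd8cc998fbc51c9fa246c3784e8139ecbd833d12561b6bd287828b7ad99904c6581fda24cb76b6105942699e3e1e12c346c48539780da050fef9e0c0ab134c27fa2b89f6be06d1ebd256edfc62f345b7d6e4d3c4763a566ba3d59aa56b7d6dd86ca4f1323666e0ec1ccd2ebc44117e7f3ef90da9cd3d7407661723024840c438605100695d72fb1410a7c02117a9c24e318f8bcc044d7f78241f90851d41f9084301a6b0e3666becd671a1bb71eb6b2a39156bb301a62dabe6075d0653460f9418d96ba01f4742c162489830653361d3b76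b067777bfb83985367b13da00d2e0dbe5e65c5a4ec43af62af9e19068012583684f72bed8542edf0c600aedf1ee601dd85de4f2665c852ebd40665279400869938eb9e9df72990cc21f289d95ee2c42639ab9d891e8176ae02c841cfc5db3485263c895b657be520f1d29901998739f858b4b6abdea3e13d4331081caf6678550e6102f8adac7342d0a27f94027b6852e112c68b63cdfec7eaf316b985fd8240902f0eb914752a55a25c64cf5d96fd14ebc38ca3262553831656b4eaae99ec8fecb04fc51c25d58ab87f2302e6d630cf862e03c8835b83e18b48da35c2d816ed6172e85bde144986665cd18fc9406b1077b78a741a2583cf25e641f9513b132e171d1c47767e97c6ae2e13cfb27b96c83d92b24daa6e969346263ca20acc60e1e9fd2de715afe35273232da0cc740cbbad66b005a8c2479a596a14f864f84d2c7f2075919db003a41758e0be496ed8c0e3924e5056678b5e4325b3b2cf27db6aacfe1b303a01671ea1c7ef97f0b19872e9ff5f102960c54c725c791da469877b33e434418a5a82e6fb5ecfb2831095974919312200447652d8b31fb6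f4f5066b8dd0d9397e34b54d40bf35b9b56deacdd268eec0fd639bbfb711365f69432ad6b6297c18d42026e09b03a51f99020fe6331a62518b96460eb609a8f66194122379e23e2126809ae61f4b6a249bd371a6419eb3b5645d7ccf1aecfef93bb0236e15fe6fec1da9361cba0aa56b80cea017ea21712d6545a81d67bf8b05100b6213943608ad58513a7c05be6fd2ec8d06274420ef2da8c5fe8750f737eed38d68ebfe5c60023e1dd560207fcd40ca057b5dc4a773f90745aaf76928edb75f09f350d80bc2e0f07906ef910f5eadcec69c0b15afacbd8e8729f4e7ff570311ac19f8033f2af2809fb8108243fc13d1156a55c6c700f32b38fcba0e4e61e43975a94c1b48080f8a4fae7bbfe0a84aaaadac6130f889f6a5bcbc6ee964cc66eb5b7342a5458bf3c9d30f18ef3fe504ae1ef5473779c102ae7ed6d70bb6b87f9ae8b29fe214c1a0d05ef8eee0360e0d5b09b7659b0540ce97869f07dad6bb962aa3d8523e3e63b7565856debe9af4f2beb2eb7402e7989d0b7b963f2cc8f6497c11227dd009414e84c15230eb090a43cdf2fc00098e8f1b8529522c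45a6dda9619775a874b89f9bffd0b69d9304545ac12ddd927a4ac762331a7a0d57e1e6652c95df932a362abd679e88b38e6b74fde2ded8f24826124d95cf41eeee82ebc64901d85b5cd0373a6c0ebe74d38b60a24345137817b68aa7c42f0978e58321f94fe1a07d1571015a1c9598b137216ba432b07875461ac812673f44c8d0a53e3ea0211fab53e6835cfc2c1148f160b969a363cc7199f44e65c54224768b509475329c492f57786001a82865f54d371817c0c3550d13cf8f920998d268ccb07e44069ef8a388683ada2bc02a7af9db7111ed47aa03b8e7c978070e1155130e5d62011616cfa071ddf2904ac59a5a504758753f789025ef12e29200983cd89eb28be922d48647d62fe3b58fa554a63034dc2af5d2ddd101013c0f6ada98d82269eeb55763251fefd35907454f6d6f19bc72051434053e7a03d5fc43dda17d0815e8c364eb394817f108daaa18a7e0fe78db44f3b38ad8e8d7c57b6c181802d26604fb78f6dcde8d403aa85d2f37315b75b8d3346cd24f200d19a1bea55dfda06b12f187ec5d35ebc7a3095040fa143e5402f456d418deac5c04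8e56ec4411de1897511ffe5e73e3f937da459724b78ceca4a18ccad57f58ff21d5788864d87c5fdb67ef2a3f26de6b84a067df3bfe4be5029e5c0c5c456f3e2485839992c06b064efff4c5ed08de9dbcc040f52398f0dae995425c1990035f379a44de472322b9a12e8517b42e1af59d1814848709d4c87f35f26abf7e7d7899c52fa990cc6f630c165bded341afd90685bd8cf4b2eeccd32f179f2220c8ffe9469ed83306ba3bf7b81fd3f1a5817849151ebf89ef903c60c8dbb42500cde42e4b2dda443f2a3d218bfa620319cade80d53e785fd97e18f4c8c284da53a803fdb24252c7c8707906c2006eae6f462d8b98c890c054f7566688a75294c1564fd99f5ab2b94808d373d6ef33f62eb7e64a07809420b4a17b553535eb79d1c5a534602b0c90cbce2b488c2a49c68c644ad43cfaec68a692fa4024f098e98cfca0464f73dce45faa04e79abf98c0b631be9330981068b5199f43b8ccdefae99af0499251eeac93c7a7aa2658cc1b8a83765633dfc5010f7702c1b2e95df8731c92bf5a73e7a03a9e38c3e4246f87036c2582e6d1a3a00e3b42d04a3ce171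e9855e1c0d576cf8d01fd96e2700ebed329ec46a61a82a9cefbeda5ef8524cdf2d2bbb85939da3abdd0939e215907cbb03d613ff1c053a2fe45fb12877bc5d3f70af6d7b23e57122736ad74f0528499e018b4f0c3d93ff6ca61b777e735ebd0b53c42008ddb329045e4a578c3298173cf82a9c7dc71d05bc69eae378620aede92a042b46b315d7e757a09e481aaf9a703f096b470a1f24ae37c2c61734cad0c2f3d5b302699fdd31b7274990dbdabac6209d71ce3ef5e9c3c873b6f4c362aa130e7e55eba8df1191fcf58ec8cfc2dc6a26615a1e06c842500f3d198a0106a55c2254994e2ae6154ad8018728cb4bd281facd406414d0de62c80db428e6381c8fb2e8a206b17bcb203263a9a4c91de5f84da2d623429b12ad7b0f4580c5a3aa13d006c3c420ad01e65b149cbc8e55efdbea5de2889cda50255e08cc2b3403d6415fe0df7d8dd9380d4f22fe9a287c991d46fc64fbe0fb7bcaae081fde0d5bbca099f5b98a96214d45393ff8c31b83968fc71dfa17662f585b061b327f296cf12d81ddcda3a2c25ff408cc8196f1cf6d328c6b5f957311aa5e1229ca94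3eda2718de760be8f0be25913b61bd8177d3ca4e4b2e8f38739c01277ea162de9efb60dfd4ad9e2720f97f3c53a4244cbddf7be18048d1a3cef54c0e6f8e612d41396127b49a5dc9ad4b5f84372ca617795c27bd2ab94cf6ca2a746fea1efe0488474e5784208dc84c9f871daa9fa6b9807f6fdb374ffa12cdee2842005cf886723f493a20aeb36c894839dd4da57da5e57d7077a9961b422af359a5d9c25eaafddad85ec073c9b4dbcb221b2842620497b805569e3d8d072eb376567192ad64230b828f16870ed28fc84445c4d562002cbe83c3083496bbbad2877e3bf79f1e499f02d77a3332ca606e666815bc682ff2abd13751691211900526607b50eef1774eee0db1fc0487f00c87303236d1581eb6c6f7bf90f26e23665b99af42784f5fb2cd9768176040e8ca9c361e48def75a7adb7f5de69936f39875c905f6dafaf4d0a15f1af70f19f318ad74a18d398f06aeca82880fe5cae8468b5f9aaea1b523b3129ccf46fbef0f9d70eb3060fe42afc58c4d1c0f1f85d231fb432b0eddf4a357c0613819e4b6c958d83ca75101d4ba4ff980846db85cf4c1357a010191e7bb1423a9316168ba2926a040bd8eb87ce1ada901c47fe0a7380cdc600bd4b0bd31e459b52787135a484acd7051cc246bb6efdf6be69109f470c848858c97a16a6ee0de1b864cc9adfe627dfe41842984d3bec9abd4e87cac00856b72536fb0f31650dd8f6347b4cbfc3a83371e6558ed0ec448fd96e91f39120dc289379abc520156bf39dbc)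
def T_d : ℕ := (nat_lit 0xdac74d6a6fecfb8b6e2c27868aca7b975be02a983617e187a80c4cdc388373106f69a57248e986c52e42f3f986714c87b29e9ffca22393070fb6e13664fc2edb77c3dad241ed26a1359e293f68ad7a0891564829752a0470ce8d370715b1d2bf028358f5439b559c73e253ac25637251190f217c69a8d5de2016c5e496257ce8b00ab87cdabaffdf6f529af8138146a4361aa70247f35090109d698603d0ced844d214532c27fecb54da1d568559f66500b3ed3cbd8cd124f40be4b6bfe245e40c4a6d84ad648f6c266150fdb22c93b18e75386f461b4e21652e62f421a5ea3be8368fde4445e259d5913b060ac80d9be2e329f08a8ef1456df366202456005c3b1cf00ecc2b2e7a20b3b4e71f0f0940cee59d38bf9c79c48e726f2396d2c03b00498a91522712ba30224cf2fbbddeb32fbc10b900287b783014b86a5211df7b9dcc6b4e1e3d5fc2d5a807a844ce957589d3a77eba876c458612e3bef0caedc02b46c40474d182e56b806d7792d09ae9da4a7aa12b58d1236e4767e6a03ee0bbf65e5d38415939d30838bd5689c9d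ec944c6e8c742f0308c219b7ec142ea25b520b15bbfb1f6de491fc956801dd7a9ec96b1c80e684663b0e987e0f3c12dd5a98d6a7b0d76116e1e7e8c5f20c29b84b3f637b7bc06998ce4995475e987c56689e52568a2b334f83be485e2a2b408a93c3d500214969b794a1d69055f9c40171d92c4ba9e792c2bd19b77418b406076a5269cebf2e207dc83d08727bcd5e3880e4dc564161d67e53db8c61bfca9d894944872b69e1a9fd0d59c092a842972ebe7b57fd7b0b733511f4044391a1408342160f6f20b4ebd80950d9b5a052f50f88e0b513e8157b3ff0c5ecf18902bdcd1244f7f8bee56f6aa96c2bb74351becdc4b64d455d69d1a50d612c56718d1ca92835fff1ca15c8c68f3ee5c2611fdc017565bf4d6bafbcf5d5870c2ec55614999b2acf390dfd1af145e83ea23b5ec2f6ccbab1a91afe55d08948dd2e137722995fd843d680b30629abfbf71b63aa32c595809b348c8242cb3a331891d59c43cb9667a2c7c7c899e6cc888c0f6aee0d7201637d05747d969a6cb73c9c1394a1e218e5df0d4db40f7bd4b8034da734fc3ae2f7b4f2bcdb0ca7b4675af7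6b6afe3db6d18a49657f69c2d7b6c1f14077c8e992ff7f042a9788e4b35016829f59865da28e16820120718bab8d6978c347931c57805d83bde824585488a96586502dbba27e62893ee5f0e98dbd620b20cc51ee95cf6cdf9b690dd3612c3986f692ce21edae5f23536396355a141827bbf1d8d6291bec97e009e0bb8ccf6d1917e5e931707604e8a4ce43973f94341554babb26cb3838c1062a10093f62685a6d51f49349ca533d956869ae5491a51de50781a558307b16250c7ec47fc1119fa9b42b16ec24e14cf8b3cf06b48c8384fd6e432234c984d0ee5b5b9917dcb3388ed65e6306e6a14e9f3ecfb6df5c9e61b3413d49a05f499b99004b4b653e1c056f689f5735d3601b796756c696e3031c157ddccafc29596a53b3949918a02e0f628d29dd8b887dacede0aecb5d49b18fdde11117d2711fe9b583078a9da567d933c7dd814788239d84d481a1558b4f52ec8eea36e17bb834e32958fd2dac70ae2d9906e2cd50627b8c53db6e16746c083e7a87201659666e86085d2feeeff314ed00eb7be81b7066736b0ead7a2bf82c5a11c2c515e0b6762ccbf549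99bd8e440402c69ebc7b6669a48ae20bd3074a505e7205e46fb0153cffe15ee4472b4198cc0426a37e7089ade377e4ca804a270dbea176c85a9873e392097223708ccfac5c321b0dde5a9679e78246f0cb45d4ebde9d030c445b6f6ff24eaa66a64c12c4f2a937c23d4506a9279f549658a514586f30d587e7da409fab9ace94eb037f9b481888ac7725cde84e795c865994beac751e5684d53b01b45223d3e46371ddb2f05f55dbbe3448e9424143fdb22cd0ff3bec25e845e7c051dc7aa1a892312d7fd83947054e9733e88f2fce2767756e8c0825f2ebf75650e54f5a9bb776276768571f98363f9ccc2747641e137b63de437d481934f5358aa2093c29cc013054ed3ab48212c9ef2b33dc1808599eea575ea658e41b3e3b6d67d5559914419a8c4e62f29107e1c054ff29b49af7500cc6bd8bc616b1c7fc7363b6049a12ce493cb132607e1981a61a3fff29743895ced94f2f97b70542ee6fcf55683ef0e88d97eafb358301f361ec3291fe9ff753e8042ca27492a328d827126bd9f41a8f013b069928b171969efce0cdc6f976c8033cdc44dc9bbfcbd53b54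da79d2f43e26f57bea7e589b22fc95dc6ddf91b2c70a051398e3fac77f704ea172cd71203805b4e0d07cd7614d77f71a2695e7fa28b2370dee076b86104ed32649ecb6711e04c7002a217d7b3c67da7349a3b280c449cf4bcf4594b43b807b65db3d9c78b9b12f54895c3d8abeed3f3cbc5341b43c9a127a1e8d5bd92b5c9bf2325f0d091f14f64404911790df3a32c607c2bb5e65801d397f874231b260df6b564ac04744ef0b78d4ebe74d26e7fb52c4485a0c6682ccf5cdcada8ee8fb51ad187ba31e4f4a8a07fa51618e1746686ebf94acbe9ab8ebf72c54f31955e31280649a5c89dcaa182c167330b3213b4fada1fce27de32da90ce392096b984c972d649217fa50ca93cf60d3cd59413b4fab7119e89c5326a5665a7f5f17fed9e55927b89b2b5b227dc1706f309cbf25de546ff6c3e1b08245f5564a21d016531e4b42813524a92d4a952279741fda405ab138ef97df76435f1fb90a33493ab0c82d316195ba8cf77d899bc7248cff20f90de9bf38f5a7d58d43f829718ad240aad9de8ac905a2d04c0a77aabd9de29826f22935327068015f6c6d655d3a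a28b9c448b3ff20f2aa053cddbeadc6a60f92039733863ca6383cf96aab0ba306801877122dadbeb57ec8baf791355ef645d4778fba1c8bcceb68cc586c753036def383832e7b2cc3b012e564068e4051729b144e5f34f77aa7ad6f8acc39b8562a784bb0f314a4f1e3e741848e19ae0f9db1983fd1dd7fad444fa5ac1cdf4efd4aad1b5f5d1cc8d1120094b8bd6163dd4a24502a9c566fb7120d05da2bcd30b878ee906f59230622a0b4f64688f67a67c1d61f8ff6f64e614f59f9b52d223864555cd42c8eca956472a79ee5f8e4d81c5708d87605a966d89017c337599e2bbbb576173bd6f3331d8a0c01ba54b7062ab84b9df723d5100f3aee9bc695de258b67d65d72b4dc7731242055e22e0ab582319c92899e7cf7e6d0b55ef58cf46d4401e9d2bdaaa8656c177a8990ef5ddcab543a9c227632c34b00807aca3887331d81a2d97fd911e5c075be628b32737ffcdd9c1cc98137989ba5bc9027bea2bd713bb3eb25b1287992c66ef0e9d1d8e6899901899df86209f6cd96e0d95912da4a4d041b79dac0a000069498847176dd5f7c4106088e97038e96e3e0b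35f11a6312d2613c89c61e99a27a3d638d0f6c5efeaa94a67c2a2372fd1d65645d0427db1f12652e35285f72b366428c67b99008bfacdd697232fb89fc4396f45336d23ef340c1b086dd0f004d8c09dda8b19462a15fe9b92070c8f44d40cc62242ca4ee86495a12e4f70feba61943500d97518fe348a09fe142cd3c0a931573a61779f4bc1a4aebe1f7ca07631b8ca291e86cae75afda7c55f2568fa27d788fbfbf8c97967162dc99ee5a524a5427770b67d36501231fb9f564d0d84d81ea403ab284d498c2f7141b52070e055db3166d9c5eb0c886b6f32bdb1891185864d403c617579ecad6b3835f1f5f02561b23c7b30eb08344af20ac541fc59a0cf5914203010872088557247d6c78593e30f8f0f27ed1a46e2de168eddf8a4a083eca9e3adf66ab989b31a6bf08d0575eb43661c80ec3d6ceace6a4e2daa930f71ee972cf2b496c18d6b10ad26bd54aad13f58b2febdc06a072c2757bd8bda2d100531b52464b3f7f15a14276e1ec8036d881d4e9a158f44569859d417f9443c195d85e2e9895f68c1b56d91732f2532fea71abba9c9487ce354188d6c316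25dc98cb6723f6b5812f726e2418b439e2052902f535b400aafc8f95f8e2b63d75a9f49e679d430870d33eb6c75e52e3ea6690f7be17d676a6402720aa88b333848a5be72e63185b6e3cc645e42d3118e9233cccc229a8c95b1aecf4a5b128d1db019d193a512a3f7a2f045387cf6e8f2b57be101a889a7c2f7bf5cf8eef9482434c3c6745943cb2fa21f11a6603f5c58cc301a306e61fae76aa21f85e2886dcd700ebfb9cd9d17ccad6fbf8d0c2e6b1a108f858f349412c3076bc3dd335999474a70cf2cf336bc864bbe8731c5d7219686e61f5b46590717a6d3b2ab14ff8d9fdbee07a88ae831273f20dcb99ed72d2d168bbfe6d0d080e0a1a93b8bf997c060501f28f6a83aa3cc5816d0501c74834fa3e58325a41ce3a626ad78f78ac0582e8b2f4f8d9c4ca055ad60bf1cb6c855ab15fdbbb49755d5f68bbe062d734ec024eb28433f77aac8213f7314e218c1f7fbfe86f149faccc593ea7c45b66435aa95561d436c6ddbea441e8bc9a3b467677476d0e08b5e5f1f83aee8b4b8400185f6bfc1907dc3918e2ac22669840c8f26c6e7d61bfe79ab0fec43d931985c3fd4892a6e777509bc4065172c273c6c187c76f7ac041b5a37e7063d9295ef01ffdccd03c585758f4315dba6f33655e56171b75824ed76220768a5de686fc6a10e97877fbe2962862e85a258977ab57e3d9b8411c0b2d896b8cfcf56e0b6d968cb9171a02d72b4e5fa041ffb95e5c62dcf713a7beb3dd89cc17d7e8dea35f085c2ef431039d682c)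
def T_e : ℕ := (nat_lit 0x39cb118f4e9fe9aa4ebefacace5960afc5a23b40a2dc30b0a71b93c3a836faabbe40864eaf897771fbbf63ad7b95be0597bf0cff97e0c055f80c0511b66f71f03d4d8e40029c58fd77704e67a84c859bb076e034001c315b2e7640ef2abc597b096382d2959b42ff5c70b6570d05f2a099854ee5b7e3fefa0c63ac50afcc4519016086e0fd8236ae3638ecda8eadb9205628962aae43317d1f3401f81472a45d9ce96ad216cf0e9325ac4387e11e5f56cdba871b8c941faac7ad6819aee31e477505036a4a07d2f0a07336004528d146a30b4b789a312410dae0c69704f459316025c954b5723691bb686aa519ca015eb5bed251f5b50e3136bac8e9a4890459747d0b201314d367a6a7a6b15ebe5f7dee04140334550cda119790b0b38b5495dfe4f2919f18bbc8f76f16640af6a24b63ac8721f4ad19a8d90f805f2321471b4e29612b4f67d8b8530076e419755767a5ea3b8c899510b10cba671d128eeb90d13fc4777878f0b821f939c5fb54f4a5235d7c938ab8c10e2e04a24add1dfae3ed5594e3966750b3f905348566846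b03d04917361d19e8c76bbed3bfaa6bcca9e4392cf12bfc1ec00762be6df8276efa2b45af0e22e6299daf35d29d655e42e0e0875941ebd9310a8708476a763aad20aee6ee6af1464becb9c58ff5e824a85816fa8faa74f0c2b35f4b60339da7963bc1e4f27a1abf48647e7b7b354b3bd11faf9329282284a69da120cb5020a388818227c1172caede151b55e504634b97ad593933a660f50fd6dea519f2639c89d73d4ca762b60d9fa92afa882ac967ddf90cc6680dc1a9db826595b1673cee6d4825e35c07a8a5f5547c12bec376bd2b50901d5cc4df02bf33cab3f9eee5d68a350efb64ab0c34b6d2b514d01466fde856d83e9aa31a407cf34af47cd84ead1f9abc4ca76e77e3413fe950f40598fb062f4cdd722bccdf741a58c5214105007d5bdcf21e88a739d7884d0f8d0b5834384d6f5768b84ad28a0e0e52ac1aa04d4a8004085ef8d7e35294dbc7a35de26e0088ab631b5b75a574c012d7c55014a68f581f18c65f7c5eac499392e72020e20940b7fc9425d7fd3d338d217a8763b06f8da3ba4602bd27a19aa36a5bcc941c4900deb8b5018aa496a25d1cd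c1db4bf1dd75a6f15adf8db397f4d120ad214c18be18ad33d6bd49b786444f2227e97657824cffdf29ba14ea66016147cc95bf1547abdd09e06a8bd36cd84dbcaaf66838a8c3c3b41327cc38fbda1a521902649e50e077a0b6308bbaad5ebfd3c8d23356c911096fb035162c45a7d61c81afa921220e319576e08004cd8037b5077c4732e4561c3655321f58ad3e316e170c9fd72c494231796ccf3535617460a6bd3012e5bb0b30109fd78cea435710b086c66416eb4f557b769415d2e1b34351a8c0c0a60ec02463e5bca2badff62059fc9ea16bdb7b29143074f5c0f2112e74cf9ee4619b71430f19a88b702ec500e58e130944623ecb5dfd592576884cf6f974f3f9256541f718a1b09d655a9f42a8e11edb72378aa70db9bd0e93a6f376b8b201e5071b168b38af27403295a881aa4c5968c95e5fb396950249dbac9fff2a3552cf143469551877f6159a1ffd3e17634c7835f6ff96a74662e85a80daaa8b5eef73e836365f91b1ac907fcce97ffc06c3dfb871c4f52234511da4046004bf97722530206578ea8eff23424d95542d6e63be05f4e2b9a2e423dc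97060d7f324f2628b105cc6ba7009ceda48ae2b1e7b4154d9a87bc46cbc20860e667b9b85857f87e2c314da92a4935cc7e8152654ed62a68ec003f8ea969c6226cfef4f1a0df395d89ef011f7f35d197507bc745e4b912b5ff35bbedbe018c0cdaed102cdd337eb0a3a1403b37d31b5260dc9921407422c05542b0bf2612dc52b34b601d84233ed824816318a04682b1aa1b426618ee3e895cd32adf5ae658e514ef6952383de1bf4396a42b158e3e15c1431d16390f908059342c02223aae14033f1963ffed960312bf68ef295c6fa23c2ecf205deb574e6e8d83a7e044683bab8ae9f65d9a1cdb68d7cddedeceb4965ed6a5d854ce853e641fcca06528667a9c998b410b56bb7a1f620e8e2a0d8b8b8a0cd1bd4b4c259f382e07c0b9ce8d32c92470bc4399fd039400cc92c3d954d3e60dadac8b9cd9ffaf3a75c05863cb9df0c2e2507e67a8b4d077af06ccbe491b6e2e753bd3b168a35dfbf5b3926c06e8722cd7652b17adecfbfbeb11ec1d4ce9deb4e42d88b26bed16e9a50c1667044e79370bff3ba474f8ded1d22f76e8817071b68f4df3eb2c255234d11e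e5e703e5cbf7232bec0d6dcf01f30af30b3e96492ca488366216b69242cf59ada6d2d9fa21e08f551ac326d7fc273c572acac214b01264c2fdc2c1d8a24507b466f150280c5705b3b8f4dc59c81cce218e6a6cbff14eff9f01a468614934a5701810efe3d0dc4b75f81e04a8854f47548a1dce17cb42b39fb87c571bd1bae74f0c1ce283f3585846d0cd7e7d9a2df4bd3eb689976e6ceb14db05848f2a1e4d6fdda0a037341ae467b799b8b25f19ee371867451b66fc3750dbffa464efcc5aaa59a3e57ae87042aa018b2d01b096c814e81fe47d62ea2ff649c8baf35c0910385b3052301fd953695adad8f1fa730c0f4d8ee81d66cf710f2f78ffe89ee234c8018487469108cef8c7f8efec78bfa3005e0f436bbec79cb4765bcd67c65753f1a187ad3b586da38ffce5d677272b213ca7e14ae58d45a0b4a10a7ba41cc34ef83641b45afa6d63ed2ebcd8ee9c9591fad9fb42b265df8452ca09e750d5b7a57d5f906bf918d1fcaf74f0efe1bc14765e0aa0e4b55522cdadff01ef344ea4487278140ed030f049000ad52b8eb505e8ec79b3631418bc38cd1d734a06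acdac5caa81d16c096848f4de85e5c97211c720dc2da7bbcbea637169b13a306b2ec10a5939c5bb035dd279036e1b46e245f490ee9e6fcde16ff84b4248e156826688c51dce0d8bece34d96dde1112546a54be55c4f9c4b3445d43acc86403b3b9b797ae9600e746b922fa5fc3c4bd7016ad644056cbc15f3dc25bd6fc5f53d0c2040befeed64eefc11cb46015c1e2a5cde68c4b3b8f103eaa8c7221ceed65c688bcc076da7c56b1ce6b5874a2e5fb84f9c17f313023de2b5397b8d811c82951e056415e7e2d52df428c13f63c325adde9f7ab7443dbbce9f507b7281a6e3e389875b73b0a6604defa8d808c8387b8cef537f6cdaf1c7042754b2cb7d3218637505e5a04c28b8a2b5eb10e54362f997b1ac22f4243b314b6a3a462c524b9e7c7b798117e756d681f6faef78c0bda6fc878f7836c787bfbeb50f0bb97c26eae4d33b5ffe86d8051227ac8e49c0b621ac27f6d6c71cf05bbab2e79b261c83bf2e1d634f799a015db8723f5f4fdf082b3a44fdea7b743da076df8de9fe0214b670d5e4d7fc0cafd62d543a35b82c175247c5f2d8047e8a83d3e071864d8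b3c242add8c08c125c44101f1684e7499ccf9dedb8a161a8f049b8bf061f9176b6d5052b912e098781e52b8aa54253fefea599f7a0463dd312a6d27ab18bb4fc7cbef9dbd7e197b604caa270824cac8d959ae813338b1261aa422180018e4687f099471585a70f43f366234153f1c79643d72dd91b23de65b65db11c4c6107987aa693d1622f359c25a0cf836a0d7630148c409d16927cd556cc1e60119ef3a2f6df4a47cd24cf3cbd154a16d005f4291d6a96de74a05cefdf462af965500e19a701a28fca7465ade1bbf5023ef6265a6b53d8158aa17516daed4871541f3bfa47809c7a33002ecf22466748afa33032f30229e4f40e1807b795773b900d334991b05000e0f926fa2aa9a4f6554df819a1b4175f8307e1e24820001a719d9fa2ce98fcd24c16b2d1c93b9cbf378849805621049b4ea26e21954d18752d24690028e9f670e8851711581ab00c560dc0c41c64f25e7057009b0309364e88992025d50cea0c339ee6f5df9d2ec816d09ed3062d6e60c085b82b442bab7ca7c02256822890796be9b58d68f8398507fa5f6e40d2f9024f2d9f0e03192a65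5b5ad4159bce0e66ea72752952a3c04ac39201c507c0f9d40ace21a75006b16032095f53e2f06a511eb8c02d6ee75384f44a87d28e4e7f47804151993b31cb6336979b57c37a43258d81b3368f99bbdd619f66f4756ee9356691c3cf9ab39648375347e8a41171e56700af8ab4831b66146390ac79665aaa6c4c6701e572bd17d1cddb38e846b2a53645b2227c2b1dc17d4f40c0c481a4dc8e09cc89e6f0ead84be1bde69a2a64302f304cdd30fcee1db11d34951c82b4bac3b44289e88cc9f1fb33c75206c459c42a55a2afb8c29a0effed43042e49ca4b7dbab84422ef22ca51640cd8295c152525a8912c45e8bc97448b50f02fed7da1a37343d147474907390e9c91e9a343004d19ffe867cce9948237810a9637ce2cfd2d04a38c74b88e08ff59c539fc9bba723fb9024ceff5612691ac025ee9bd5f9e96463d3ae22c5005c84a93cecf93a6516696f7aabed7df3f8c4efc61e0f81c92763c4d202b7e118dd324e0e1d704bc41f4f7842cc57ff7503ac36e6f12beee4ca648810cdffe5c39029915d0105914436f5253c18c3186ebc20fb1e3c6c08604c34d7014f1b6d3f8d1872a13bfa19d684a43317b9d57268056f2a46919baf3ebdd2e1e70440e0958a0f466cae75fdf01c565d49a1fc91a0499c8ee57b0ac8163c08517d1c9453f1b7102b0aeee329e37df04b414320b48bd6da101c3f4e80acdf710b4ef3f02c94622d8da9a3f08214fc1651c70c16d3296cb86e504ac4b156c13cd5199e55d233732772a26)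
def T_f : ℕ := (nat_lit 0x6d55aefc65d1cd567aedfc1b9f79559a1016d21926c27dc58dfe5722aa6684385cf6a87a5f8e82436650d5b2c20299ec29eb6b50bd9ac5cb4f70edf8e1cf61938a838b30ddf1c07f217169cca80bfe0e43bba3a6f331fb24a7a4f38d50b73f95e494f9c92f0bf0e6e0303472932e2d923fe278346f2c91027950617c35214501086ac6b7418079daab767f0625915de2007e8b7601ba475dfa9f14f5e8a95b04ceb8796ac06c0a6e5838a74f02828f689cc5020ef6b23ebb0de2e5767d27c08a4ad2eb654ba9f62122ccfc47c5a7c6e2e83bab760b403ae8a0be94d2bfa47d090fe691f24a7145b38c7118635eb0c16c6b3c833d8fd1e2e36675f41f1da6cd266bfd4e57cc1c1ce540acc95e030f31739c39098ec204f3430f25a4b90a8b9b4e16eb3ec517efdb22ff804a413295fc04251b8949fbf5de52dbbb1411a7f5047f1728822dec9ffb48aa0716079916c46d368f6265750ca28edc28d891773ff6348490e6aa0af8cbcff4e9bc34997784e3613286c0582344dc7369569ef51246f4d2f1c924cbf86b6965c23a65d5af8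da2f2481bd24e157fa20f7a129940d36c6c191df68d396bb7547a96757dad312b458a95ebf1bc207740d9fa2a9d216655d52e4ad33753ca4e6a44bef496e0ec670d85ec12c25bbd8b3f175a2cdf9f79012ce9921c6bb5fcbae9fb618e11677d7eead43036a016e750bb41adc5df4f56ccb32b040d0d2c5b5293ee1c46d7a363b220739ef888c0663983b322824c5c97108bf9ef529cf28fdb9fc1093b0ea431de1f56cf57c769620e7c7a5a920f3ac29cb7d851c00134a3cc4452b9c7de70ec00d567fef52d01b515e0e3bbaf2a8aacef23f0bb9a556ec6a5aac382d0a73e834c6429a72cfabf09614f2a9abfbd7805ca7fd78468cdb2a7a8bf89f02a6d853f02448207383c4c68357b4efba81835ed02691e3ea1c5a39191750f504d4863ff7b08daec8c2ff8708effc715c6dab031f6f022596468ade90076503fdc08ee6f5ba87c01ea5b74d86ff0028a4cdfef73e4cae0b74ef8f4a9bb54d4e5851ff19ff34c25d4743c7cee312a035efd3ff3aabb9f370fdcf057a3d06cdeecaa20ea5d574c5ce388f6b41e66c8ae7b40004b331f5c70bd5d2ad46aae14feb49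2e0b6eb4e60cdf740bfdad8a7aaddf45424c67931833bb2598847209c557532f39a7ee1247747e4819c6672c0455786179e6206885aa3216233882e06cafa716d6313195b328138b42ba16ba4dd370ca64bd075f8994381cbbcae89d215a3b46ef7c0279c4bc2d2354cd9f031534351e45054d585adf64dae607e5cf14e8b46499c6be87ffc001be80bf17f2128a2da93cdf9dbac91e963c56c862107e383d62bc04e3deab1423ea167979a4362b71f78d108c21e4d5752da0ffa3c59c98ffc49390abf4590373890dfddd276ba61256ca15629a362c4dc3dcc7dc8c7198d18838f6979b1097de8c3979f25e9ed3200eba5db07f527631dd3dce9bcaba7d57b9a12f2bd3cafbe391af74de15bd2b2e500920dee5ed262b504e9c6461d02871f213c88a0a90dc2b6ce8d47f2699ac480002e4de9f418d5bce043cfd9b7865329485f549f628a738e0d138ae00418c78ca19dfef4ead07d102c96273aaed68915a4cb1b1e67bff15ac89a0323bee3c71d06cb62948665535ba3296b98ca440455d009720d8152e3f2c0feac1084a4f103d1e71c8519905edddb2e9d629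0c6833bcc404dd2ab5fe6297aa629567bd8b8c940e2d7f0265386fa894ff34f97dd01a9b51e8352bf60c97610bf70644a94a2f0f6a524b5ed8697b51af9e4b898034f2f4b1b2624c7da5f0cc2c66ed4a41196f7983829ce99d935369e7d9de5b7cc1b5ca85db79ba2ee8f14d2514839dd5d166a537d57b17e16564a86bbf5530b1d017a7db7db65ae67c42f05b9662e98e0d8e7e875f1f3fdf7210ac92195f375e5f5e07ee80763242639689250868bb53f3f6ef35a96883c65adff84ef67783e1e8452fe51a333330b68c823bf0aaa4e8c200b2ceab22a6b97bf7b7f10c6da18547a07d68821d14f30cb544b99491f60133400295b3bae796e8afc7e5598cbd6fe36e17972cf2f13388b05af67a384e644a8fb143c21ab772eb4df0422542082b007c54616f5ed666c67201149e66f7a9e33c9b77faef0a58ce1c4cb7e4faf13d6be2773cff270f278fb8f8a0aa33980c81d2a0445a7c940ddb47a73fc3fbb92eb261a3048be3aafedc04e620887670031d643918bbc1803ee268d0637f0e5de558234a7b7af437cf7cbb7a510f1964df2adbaba498e55fc22977b7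16255855f09a4ef8773fee5d762ad1ccce9401c36fb81c30c511d98d7483fe68ef5ae967e362871302c89d8af4f31efe9227dcd428ce958c5311709b8678b5435eae042c4f7d3ee26de344eb2b2c9c7eaea8e65239577160bd52651efaa95a57e7587931d1839513ebb27eb4da2308ccfce4d6e678e3773e6dd9a9ef7dd2c2c48db6915c74d9c1236bbd74536594f5edce7dbb834c5501fa63e329d5285beba715843c7e66d9ad0db5aa374aae9b33409261e8bcc7278c53ec99b63698b51db58599273fc81c7f5416930c6a79b33c2b80127dac0211a34b24c206200f8947ed2851dc25a72f5e0be90a316ab4db644a1db22edebe3db100dc80e0c156662f460ed64a97c49829bdf93f67545a7bcd4e1639a30c737bfcaef6d01d75340ff5cabe280a45f687f34ad879c0da37c0fd4cc95d2309b1c10b356127908c33d714586bc667f0794a00cb304f8ea92479ec23f90c401a4befad41167a4d3933109942da8e6466c87a7c82a9d0b988217c910c959cf14bb129856ea2a71ba8778e8a2375894fa2f8187226bdb8fca27ddfaa3fba45209d01a011a6b91c1cd1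5ea90139f4b9ad1feb01d5924d09c3393182613ba2041c274af4732be0cd9d689fee024c86ab031932481e62d66a6811484582ebc3470f1e3dc29ad6249e5a512fffe3072d990637320f0486848c3c48afd04c56d17c987299ac104e3e15d9c0fe690f2cfecd92f59caa534311618d8f9c56aee3195c78861c97a3db3fd4ff51c0f6cc6460ac2d5cc81275f43df24346a6107932cd8309ae0e7b08128912a8a7282f723bc22a792a1b1b4ad04a9117d3adda84f0c8c15d00c49750e054ec67a673e99ef7862a5eb510754a6336c691042ced07ffe1f1c4b9816287e43fa641bd33a821e27816acf70bdc944c79b4b11e3470fa55dc8745aa72b0fe03fc08a6a8e7671e479b691a653b58c69ad1c6b97919d7b9747984ab7db95b2ed7a36e3a4795a17852b429f99b38d4c0f351a09907f5a98d2c4d929e75f7c95b085d5808af50bc5b3d9e66c13b3af751eb59b403e5f05c5a05eba7218e641adee83700f2d8ded2371340cedd22266a0fd9af78ba9b2f4f92a268366aea1df9548c692a671097e7a3513077c16ac878ca2747aec555f2c6dacec8faf7642c450a4e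04ac9664ac143af620925ee322e09e448c5cfaad57ad369c1a9f662c0f4252b27ce22c53c15c1f3aa73a4aec410708731c855aec0efdf68a9a86e9577b3f03c753994d2228c91ec62c9cddb3dd4f6ad41de70a2b47e40a3e64ce0721ab5112012a164b7b5c817836b60b723751e6889585e459598f909e4acdb57b65c0fddf844a4c72cb408c2c7284876b27047585e60eb146f9de85bd97ce2787ac74e07ed0862904dc63539a5d1f57f84fc53e7625a5c2f388efd7e4d3efe31e1c2b011db8682ef484fd5e2649cce53e63db066fdc75b77e7820534728d62a8e4be29c1cb5aa6e3a8f1653a034ec6a7a89c4dce867f6121b09e330ecacedcc37bafe7b252be75a97f6c504ac3dc7ede1574d8b4c6c480f8a0cf9b5a74be5874e1dc357017e0560b5d283435d8c9c8d6ad55e4141731c3fcca1471a631238ee82558a9e1b6d00dfa6b8f9d33d068a76cecb02280b25875546ed8bbfb66ff040faf8f19351682493dce81088c80ca921078f9f2c3db2a5a51e0e9f9a5972c34fbac7a06a293015704393afa50d9cf92fc9e754592af5cd5120bf82442b0e09dd4f79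51073b84e9edac02661a06938542d9a3d88e8ef8baafe0171cd01c6a232e69eedc5daa0fd96928ee324a1c307a05365b88c6f0ba17e3a9dcfc1693e3bb06cb41487185dbdd4ae187d13951bcb1d8e7641c35c6e5510c958175d2531d136ba3d3c56ae643e84930105542f9298cd4b66ea314fdf60d39a3a347851291d0176eda1ddf65b74b97b3a544d021fc3a92c3147baa7c441c11c53b7c75137c30b708f2dd215b7483a56fe8146cd526267333b2fea8f6d5b716bfb77d40a2ab0362f07e6313a758865f731333f8e0ea1ff34975b236ce3111b198f77f4bf20b3eb39dd95348bc3f1af034204598942b9dfc74998952c038c2df983b1adcc315c68d2670d93ab5dab50b9de1e2b3d1f59209ce1517b5ae072482f27774b4a6ec1af9ddefe7e9b4602709f9338b9c4305bb5f3d5d1b0161557030504a7da075bb7ba480e73fd261c2c9428f7b976b4776feda13af6e637449b9cdebae2dc8064f4771c2b725ce5d79ef0f40b23f01be50554bf3d54be8ebefa3548e2af8e666ac64c6c76c21721cdd0708087a533dfed440e6a6e3aebfd9ea4e40931cf68ed0ac3db59e35b1cc16c3b5ad7feacb4aa94a725b6fe4df99c9b8706329a4b17237a4490e61aff2992bd3bd6328d42cd1c21aa15c1cbe763ba6394dae03b6bc83db0a784b3615364941ce1c9174e82e5283646123a4cc14baec02a9486f46b63d6a04427a5e40d9239747616cb1be5b20aff7c71b81107c356cda71f6bcc9a8a0c4743424f5cac7dd82a836)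
def T_g : ℕ := (nat_lit 0x111d09dfd72a9f7ab030721c26fedecafb69fc0cda85b9011219520cdeb7632be01567ac61f43696edf522694f2afe65e2956bc2977ef19e75e52b67052b1a98e86b5e0cdfb9b01ee8f476b0d054d5ab4d36fdae668691f1920600cdf3a157359053cd524d2638dd8590a05d739255777f3f2f249688b11378b2882ee77f479448a97c89a4002ad0e6c486eab9496c2d9507faabb10901d0d3d39f65f6da1cfcddd2f6bc79c008635f1b9ce7eaf820b4a0645aa446062769abe35b6be3d1c17815a8d70ada9488d22d9feeddb43452722918aeea70298844f91928d025cfc72a7bd490a0004313782a9837ba0da4edb7c8345009fbbfbeefcfa84ce5e81f84658ac44f3347a3edd87e097c2237011b690af3681b7005a126615eb9473c305d7983bae46c998b4d494c5b923e138fbb27cb85fa30ac048f1560b52fd22b058119b074fb386dc3a24b2df711431bb130615deae71648ea6b9511555ab1b70a3470f4f7aaa8b72cde76c71cbe5f62bf6dd511c42dd6bce80d8d23c74d8e4ee1174b49e11ab0a3c5813adcd1736fb2c64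6bbaff581528ff1e9f622b22bda2e1de5feb71d70b713db33d81961486f75b0170f6fddb864e1c2ba9dfd5d358bfd44c22e8feba622ec4f2b81ed26396f48fec3a60cfbc461c43ae3c400f25aa985af874c8e87bcad2693942b29bdb3e8f49f5e2edbab4596cb8800d531d130453e00bc46821012e00bd6a151c62cd79425cdb58e7784f939df7ba1b576f7475c3cdde4a07fc45a8ae0861a856ef9477d213956463208d5d9188a866273fcb4837beffcea92f1270e9414f3f089532f786ef59e06b924da6d63c6383a9649e24d010c243e19f5ac7d3cb40b25742fb0257b736e66ffcb779fedcaf548da6f1287ccf1443c17c10a879c51771b8ee92fbe15e5fcf459ccf49397111fab12ec9a7e2a80d8059871259419c707a58ecc25cbd464bd58d07fad054749e2f8058eabeb3528632d4c8a86cc86ad32eae2d765cf15691cf42ec03c1ada225377c6d4523dc4d6e7e59b0a7a0fe15d11369738f45af31c4357c7b1e301cf7edc12b1ecb9c742d250005f5e215c42da476c68e1ea9ad7e4ee7614e69da9c0baf3f22e5cbd5e4c191c21279a99d99361859d93be2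ca7dd368c26691ed24046617bb670a21e20edfc672c93034636302e6b50f1ab0f8d7668f5f80ed856b7796ff246726c599127247a5aeead115b96ded1f5c53034d38c63500b89c97bdda6f5da395a185194eda67352834fb9f1e276e6797fa9fc8145c19507b8fe2c31f823b3bc59229092be6ecf993fb514fbf3d948d27929703e9349f8ecad091132a1a10e3af48f76f713bded23e1e035c5452e103589483da8d73fe5acd19264da5f3e61d946aa3ae9f6a965def40d4080042366200f65e9fa7d38993471f862dd4d81223df50fe2ac3858994f1594ddd5407f8a00ce00a666bc476f80b5fc8516dfa5792db79c39e67f8c8d91acd4fa301e9c66b1e3d64e4ee88330f126ee844099be171fc4c4151de8c4e113fd209d1a887098d10c70881191df5cbb77f6d71959b40cfe3b88bc68877a69f56ecadb643afdbd7329f3897835c0fde9ea4de7b5b0bbeb66551bbc88b5d33827c1093a4ce257d8580646f13c050fce4ba138a8adf4d1f980d916ffb6aac14e00e437922bc24d1be7495d9ad05c7e14d86979c85df25e8777ce89d196c1df250fd1170818be7fe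c4047683a9d43cb4323902458935f1f65b7972f19f2154d19cb5bc3cbfa671f4b83f3a43e304f7e82c00ba9c4f3cd3a4b0eeb69d69d97e88a74381b1e9d40fecb5e5997d26cc171b48340b0565ba2335cdd2204ebc69164b65a6304a6f358efb3f9431b28901cb2215dceae14aa2b103e2303bb5e0a66b3338898b003a1550fb2fb4379f4e697b05b00b7373db6b18b57ea973763b4b7c7186d011b496102ddb7c2f6a7262919fa87e488d543e8fbe3deb414d4c82d62d8775c28cf7d98763d898b3215f5a36f59028870fcdfff7fd11bf593e3bf009a6465b72e30b3b547be47524e796c61a359c5b537073946012cf4822967c9e3ca52356359d7a9dd1fa5135d4de2c194aa8443f33ae1e1691e13d7adb3d0bcac1c895fd5b74695fe4b2fe678f82f8c4163b11e362cb32aab6ac7630b5efbc12028e8d939fa5a97de486e0c1bf77dcd8bd15a2489c4fd3388c68efb98b8026fd19df8f07b05a80fa33306ef4f583915b73aaec73a47cc760ca43430153cd29525c9f8365fbf3de8b713b86a6dca55c2fb8057d59d09bb5f091a7418f2aad1c1a2c5e09553b340d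477c606344df1cecaa76cec408a937ec052671d6a6c9496a20ef2abe948855e46b1425c4bcd02b37ac82e267e6692126906dc8adb24c58897b728bc514453ec53e3558c8e3e993745c35a0aace3ca8ff36e53008ca68d60c5fb87d88a8a594f67c93dc28cf86c69cf81961360e4b4a6db90ff0c43122369664ffe3a177f2b9c67edd64fb5a75cbff6f6e2b59bdf2d1d8afaded15d729b8baf2612ff61df8ef16e3d13ba3f15832f6ee34005b3bd92e65cd266c995e0cf2fe57e4ae4420f2fb745cc021c5147311fed8a9295d1b4a7f111b14318192551098c306cf943d8ea3cced4e0abd9e7948040ff7e8973bcff61e764558679a58d47b7b1092c23509a0a25c516938fe222b625d1e80960bc3da6ce338e501aebcd24466d500dd1ef8f40f54af30475390652c86c2a3f3409a9ec3d654e1c911b308ae5deacebbb39157b6ddccc02914719b6aee3742bdde9f818d4339095a141032dfb8d937e674f52111194049e9c2ef3c977b7092e0ea7f609eae85f23ae202c671e544666ea53e61bcc36ed98ebe99eaf53b9529acdba3731ea2b6a54e0d55d0f121549798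9c5cb759624179915621251b4693a6a74eafe94563e7415ddf6d2bdcd0d6824fb03aec686dc341f03ba482ec92e4c6b8a022666324592be039ba444bc8732f2b912ea23e915ff4528c366e48b9140a617d874f45b7dcf43bca78d302fc8e477f7ff84d64b8b8d90ce20e1a031442aca617deba09c033c045b8af3f46ff802986bd8bbf21835793aa988822190f44cbd18652cc8e3c09fcd159111922dbd76aa2ef005ebab2038c741665f5da4b8a11ea246ec917b5d315ff361ec93c6e55bf7d1959ac9e4a22ff6f417dabf56fd583d15eb5fadeec315bf34fbb8373bd60c75826f8919155be0a7f54a5c3df0e5042c4dc12be63c2f0d25814162b362f055f0660527898abebbbdb8da46d9d0aadf7a57e759e8596b3783c2505e5eb601f467b970f60121776071d25a0126c0c2dbbc0b433b05a3eb046e9897b3d5c1943f176f6015a4b64afa5775b7a867944459720490bab684b48aa5716e1f82784a38d1ec3fc1a4b40aca1f527b7ec67e422105e402b47853ce3112609902943c192ffbda709b60db1fcf0f2e58c8c8fac29b9b6cff7862c968dc5539860734f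961a3bcc7ef71b2898c92d7cccae45f6f28e530df8e2881e00f5b815703e1c4ada956cd6e3f1f9210d1bf3a19e5d000e9aacfce4e42876b72137cc09b8b9e51df7ea8209b8660c380155e97a70b7f967ff7d9ba61983a3a85476c7d2c305c97a32a3fcccfe31e5df91739c81f7a453a15b0d36aebcb85823b1fa15a3cdf2fa003ab97a9ec7177674440bb391d72ce2f6035742fbf76299f76b290da1fff0133ba741cd28334f15b34052884b8c44c2f1621026947819b9ae473f4ed70878141b30922071b0a6e86670c91c7e301c1676ca323f1165e99e661317e19cac560fa33feee51260d497994cf8bbeed7406f8bbc85a38857e97a94ef7deb2abcc52228cb319c2683516321d63526b4fa55d0f57c1bc67b62a994b34e8b1fc0edb1f1697e5d0f384f7ae65408cf275bdfe1b9f6b163949bb971074f62f32a456304f9836e26bf7c120f2547ac4574896055ee47fc43ed4ad8cd60abdae30c5b24b6ce762835500b9e5522d2453c32820f078b0b8a8659dda65cbf8401fe338c260f3017b233fe3f50cca51ac9f37a30975c0611564b4f8eddc938ce2979627c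de34802348ae4e56662bd41d822abcbb8c61dc1cd3fbb42ed8df67f0eb7e9d381a270aefe2c04d015b21cea59fdc18dca46dbf0503927e71beaadf26439037a7db827c2aa1554bb917a18ae60875f76d6fbe1efc264c7b066564816565c1209380db5d9cfa8ad98f176cf47dc515980c4ccbf1a7b18e3a734507cb464505251f7e88ed9e338fa4b51d28000890676dff8ecf218e80fb6cc68a2fc808c36b6214a3eb5b2e7234596108a6c7c306dd1eeb1ab58b8ba37b62a169be5061fc918530dabae002b80314fe78537c7dc04c0d27a2e98a8606dc463a9dbbc8afe82b9e298e0957fe7aed4c69901f5e2be8cdd66442575e962d6f6699ad881257f927d2585027799a3451701a5a61e0f95514c3902741988a939db40ecb744f373b8ce2f607afade136eb7d33483ea7306ffe88f6b5341527a7fe4d94c454e2b906ea5be5bfbc4dfd964069b8ee78e9408db79812a5c4a165343e3c2f8e097d7e2a99a0702c4ad762f50aad9cf6f66efcceefe8b9e67b7287180d93dad918e3c3df0ebbf1196243773b5ddced830062b622d0307a079f862344145529b8614d63ff205cd23d23458647604bda37e50d78c826699e7a37024895a82b471512fb902045de9a083f92d9d7f94d91feb135b1b517f6ea1e5494f66b4e6f413f40662d5c098a5bcc38933cbce403a1b635d300bb6c69162f4d39eba61150b3ac67faa2bda41ab9465cb74175dd9b7c084f08baab44200e30115258e735c58dee7d2a88c94fa46805da9cd4f5b)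
def U_a : ℕ := (nat_lit 0x130e0367f40b2f3a67c0d39645bde20de940fbed14108d27e53ee44c03615b2962f475dd4e090746f843f7a655ab29dd5ae936752a74db79389a6298af59ef8353d126076b3226b43565ced70062ca27e315556c76206fe13dd2081003d5066dc28b7814776d3c6554fdb51573cbe6e89354b78335a3a4adb00d8b5144185b443599e81f503b5bce736b6f8a939b688bc1d9fd272abf7373b8f76f06df45f284eb14b697c5fc1b237d598192c91ff554a610e2358813df9ef725b1ad6ca1ccc984daf7a0b343e72679f570a0a8557ce57e999b9845349cb6655829f2bc635411d1b5817c275cf0063015d622b2013b394dc9d2b92c8867e3a2ec06b4be44345502c12a6cdf962105da2a2814e2bd92ce6b22a86d141b5804ecc26378f53a1aaba89220e8860edd01889cd7ae4ea98bf9f942447969f7cce82a0947d87acc89cfb29f4780e860c164903e5cda9269822115fd4769cff31bc39df783746cb24024c025ea98da91f17d79a37f34983afb198c63cf35889a18e5334d475954686f369435cbfe0f2483eee76083afe4ffb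b049a3dddc2c76492209f768530464ce2b1c56c39f54ca4b41a48bebfdd543becbefeac1bce183f7a345c97a3ecc7be614d93f73000cc146c1dc1e88b57dcb09168a9de4647498f983d3b9b38b375cf4328400d4f7bdda769afdb684ad6eb3ad565d2e3f47232c051a883432281b3e6720452ec19393303630102f122101525ef97390e0a75744d5ac563524a5145bc38242ec903bbef846c9aeb70066a052d7d0644211b5dcac75e1dc9934387af244c5c927812a3a236d6fa6b9999965536d5c9ddb49693741c8d6b005f259f4dc4057ad69f05d9a04e9546a473c491844ab458b20efc4556e43c615e89f56d307f71fd9b1d9c6041e1d23fe6db811c0bda62746da7787f7588bf20a8279b9d899d741ca507da4c2a177bea715f29418aec6c80c032e18a869c7380fabe948f889e553377638072af3a10a8631e9bfffbdc5c04846390b4da335cc67546f0c2e11cacda2ad558a424d99298a6b5080a316e7d0f1a71e73d8af52511c004b634a01a5ad61fddb20e51524ded7595985e79e93d22c607d864ad7371ac676314dba17658e2758c018b12b27745fff5a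5f3eccab1554c8f912012b9ed592b5446a52a8af6683adf32a13c92c49a936e15614c5bb63fc95d3ea71f44b41bcd318a2464807103bf3d572e9b288b7135e94dfeec6cd9f16f3d5953c35bc11b154e0e0011b7f77d907f9d3d54dad2969978668d6f6b3a007d84764fce91422ec7b8c91a1edd66b069cd3d2e7edcc6fdfa66d818ed7c843c11e549dcfb900a4b6520e7c05b8c6b736a29f66480d18b1977c2e4ddc18109daa3afe833120ff2edf0d61a1d183642fb8aecfc2c061b1306b3a79c2dcccd4d6cf9fbc881bca31d2a3a08072e0a27b182a62a9e326d9d5149bacc8957821c0d745a74e75a607a5b2bb2d2aadadc528373880b18b05d1a4dc6011c56e651410f00d7e59ce81366b9c1d8a8417d226d7394a1cfc7c32104e2441bd81a169e43611be4a1816c31afbc571c96517414095c39046ff26339baa85b4036f9b674c2bb4f18b25f7ca9e22109774aeb0b97275e1dd2354b23735deb746e944d254f1ac3fd71e72343c207a27f63b9140594498e25025bf47048cd48e97eec5b685c761a2e1fe81032e5101dd4c3a19d2ab0bac76b6d89e44104799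b9c226d1593b8f98d39fd56e9d263d42e7132a9a0feabfee6f7c6aa5495cfb6258399578679d89190010f8d33e25d0e4925f3ffdbebb523b908efaf6bef4dfd5c07e74bfdb99bc7883cda94a39a212d1ebe7238cbd8119b297816fe7756654cfc05307c9808bb241be147c73889f8d5dd172ab762eac322857991acdeae7706964bba2f16eda7c44d4aa37707f85d5e2ae173416d71c7c8429e628fc7210bfde172ab50fc484e9afeac1e7b330a0f7ecff9922341a1888d630f185288611945b0fae8f1ff343459e7bde16005324f6a2e814503ddaddb6c401750e3e2a3a6b0587ca09d051125c6bb7e3393284d4e0b44f98fad2e22871285045fa43828d8f73431144a9327ddeb3c559fa51de791bcff0b7215b24b4294482cad36b42ac581c0db82ca356cddf893c142b81edf56e017ee10cb1cf433eb51c87acd5f4d8565d9919609cdf72beab9e25913d07ce7ed17d02172acef0e041b241e33b2e250303b947c506f2c7d3d05cbf62187f5e2d61f285f75adaf69ab98ff07c94a4126469a626cbccccb0fd606a9b21dd17b821dad9fe7b15f442a7d3d90217d9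e325c12d10628db99fd683eba0502225bb803be1dd95ad3bfdb458fe3229019bbe4dedfda618e2236dba4dfd19661d3e91ea9dfae765486ea5bf624ae75d63932eff663c11ebc2400a4ef05abb144b901fb7d19906f554f615193e4dc01b88aac28c322a4acbde5662582248d340f21e60657b092987b25c9332ba25c899f75b8ce3fd662276a86c49bf4cb478af2e97738ed209ee133f5569a0bec1cf10c9a58854f2ae094b38256b4ad5f002c073e482ddc51f73619d019a31a78add24c305a2b1085fb4f0a9070aacc7cf04f8a78d69b9ef0e3d97a3635044034db64194730e662062ddfcfb0ff2558166f255c273c06fc573cb82a20d3ad70395967f386fc8df3f9a3a488d0ceb250c4b79c1d62c5aabe8142ece7b286623d24ac900d04b45e7ff0131c3cd5838d30e25159c7985afce6b5acd7afb7323964c2bd35b60d04fdbc43bc37ba8a8f4c161111d434bd374f34a10119784b4a462f4b3bfcc8bc442c348fe8c4f84a46cb4f30b4bac16ff0317a45d32eb9ee4a7eeedb0588fe10ab1ccdc50cc1a158d83a01fa798ab112c278661c1aa89d67967bdbdad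26a3f9705603cd2be1739ea8419fa39b61aa8cced20896f75507696b0036ec868663126a46dea80003da08ff29494f5240c793dfd79faa69c94aa960a981d8a697d44215dd1b2ac14ba011adb35143f89fb99ed87452c0accf17a1b98c149a70b74e538c30b82f56dcfaa165bbb1ea85feb1069e754a13a15f5ca77f750ad39cd5dd6b5cb3f972a62db1ae30abbaa0b88fc2b9633704d6beafaad662535d4f7dc5503665702447866791fb254b07feed8503d7fc8a76a8f9cb60b087c938a0aa023a97d8e0b18b4054485840c281d914955894c4ed37e9ea6f76ec557716ff555f19f803f861417c2ffc09e20410167fc3d5444002029ddbd0b5f8048f379b10bd0ddb45db20a5422a703fa89240ffcd44f2f18c09546ccac46d8886a2929d09b601d6d0e22321c7cb140e127aa4d46e0e9dfa7986c98f63aff96617d8a1c50a3e3f1c597082db9671a2d8738b5b5a3f1bdef007ac58b6d2d8a59466310f70a0537088f81c34a5e56cbde2d00659ddd43fe9b9d86ad921d96666f53be4904a2b04b4ebd1e5e809908df41031e2f92ca6e06bc47a84a6856fc5ca959f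7e5c89cb454e188660d4bafaec8bcff6edaa8f0f853fb9b940916acade9616699083afaa7f7c31cb37e994457b98e155d49896bb1190a741e6e49e242f867ef3552de4ff9f065735daaf2292e3d680773c56c2f7477d8eac0b9590fb382bf09ba2709a785a0eb65cb233bc4df54f03e68444406322e1aa6e37bb97dcb0b559b84f21252d8174c20e969f59ea41b4130fd54d65d99850be906251cb7907c4fadf8388a5abf478a668a6cae029c79868d26b28c5334332a2b39934dc2f81f265bb9b98775d10b2c88ca3894c05e1fa739cd17540af5473b3c4652ccabc8ae057e9b1cf94e77eecf96d2f5691be159e376d6c3620708357b5d36f61844db3e676321112bd898ee4ffe1375ebe5064419c0811896ed80f4bb696aefd7aeaff27a9d948c577f9f354653530f03856dcc65aa20038721425490e23fe5cddeb7c33f8841548664dc3f727b017332b836cd9c85fe8320102c21617eab11ed0d9d6b915ba65496df8256ba6ee7999d049b8f50db9f5c73bf31ec608a030e503138a4bc186a2ab03db22358899b23a5ddad6929e23dbd1a8c7f651c69fc1551da7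86b45835c7684e0d8ebf68d9d07304d4af2adb41a3377f208ac32f280c4d5eb9c7f88bb827e88f232c8690c29eff680fd75ad7cbfb484d48bb65b1e98a76627010e2d7fed8632257310c2647cc536ddf4a910f6f45b8fbc1a58baa9a1fd5c79bbcb9ac97c32d0ae4edc669c79499795c5caf75074d27980889ea7d1415ab65de7305e9f191735211b2751206981f436de8e544f7dd93fc396b92ff6c9b2796d90f5955da65d45469ae86febb73a7dfbd55d1d5220965fdc021f5b82370549c47c3d0c3c9532dd3b383b77bb60ee3de94f207c0f8e506d2477910ca5a395e8433cb72080685de48c37fc51975a4d0db0453f308809a7174cff0887d8761d4d6e5ab905db4d51e167ea1a3864a0e45036e09b12d9a02dc5381ba586cb78ef4bae66eaa6e44cbb2fad54fce6da2813182952a96c647944630118e15a65e83777b4d30637f28bf34a5d5409b5f10bcb0e87ffdbe8417cca6448a96c4d9abb94b8e254f8e60382259bf0c86c63ccf807304f49bca93a8db48f3716acc7d62823cf0feb0368f17bbe452504435d7f55ca119bc5340f8fe49ae578558ff581cd2dda7f12794804255ee8c8ca65204ab8b880a94a67e2f41020bca2ead4e72a23eefc924d60968404dd567ec26e128d15b2aec7e882966847d4fcd08e9004a196e4160188d182cec8eb2b45974fe70f4e5db39536645bc690ad9637210dc9d49853d9a8c3d32fd3f122ff8f4dd6c6a778c244565879854f67a6fe33769615bf18e713d35054ab1cea43)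
def U_b : ℕ := (nat_lit 0x116d504d2eca6771e1efb8584e55c3fdcbeb6b1999ad74c706f57128979eb6a84dc654a916b60c40974690cf476a84dea6dd4ff819a1d60eb767054d89d05161c9106aed73eacc840e3742ab948dee9dce70f26ddf1758e2c8694878e7565eb3ab0451bfb8536ceaf75db6ab094dcec14590cd52e51054849bbc269796afd99cdcc96f2f2b281a9d5bfbdac8d9326bfd7b245efb7b521cb153590b5417b64fd71f0600a9f1640e78a9b1865c98bc873d60d220c9b252eeab0398fb5b82b86e468a2d0aa6ef2d7f9640165f5f51756f2530afa7c3926fff573f2789242b61e4356a8a63340025e4513c7d7f52f3584d767b645b09c90a8580217738af404e24998cf48cdfb5c724ec16d457e218eca1cf4256575ba9c3d54935f0a9d40957a63fc083f7f8c3077783d993ff5960eecf5596453e7d1b69e4f4a0b4c6c123c77916c4570c0ee443b8e7fa36d87b284eda66f97a9cb2cd3ec49e84170cd8f0d214feeae8e711e8e24d6933b41fb20bf2aed4236739a574b1e25c291459d7f680899a9c4030e74f7abb1541418da70bb68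af969488cd55bc56d26923716e79e3fe9bf20b0a2fe55374587023807b3c577157559c5d879cd6c5df6b29f4d2b2ac6afdbc2fcca476a1c45288916542b700bf28d448e0a8d3d6eca834fd27dd6fc68b16733be38af6e08e3e2f4d0c7a0b81b4d61f6480dc78e95543830474a58416a4be2f53dd53f0944485b9522b94391743a0931f80afa2dcd1ecd33f0f6d7de73b55cd549ffd23713386c98743a5d30812ab69eac9812768a636a63b1a174b922723278d2d21a5cbe098304f3ca79464402ed48b1134be61d23d4ea6e63f7c52c4bff6bbb7b97af538941afe44f6284baf12478defe83cea022f9688008a9d0246ad22dd2e437934b2969483530871ab28c4225ec9a7e4a5744172087bf0268bd86433451613385b7e0a269dddb13b175c74a6419efd448873cfaadcd3b3ef1ffe3effcf0cbb3e6eb493b26bc7226fc95e2536208f76f8d157b56a601012fd59f74855faa37639a6d76d2d5db8c128390b3bd71119aa190ffab6a527a4ad14015cb7899c4d64509ee26afddf4ff7215f45dfff2247582748d6b0930f4cfa3511637acc6e28ba8f97233ad75ded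afba1ca67ea147e011483437eebf69f4ecc0efbb8ca70fc46433b41429638bcb3f5862f1b982541325e2c9115ea3ab07deb63f0e1e81e3346286099dbe8d3d93bb228974ca0469d96792d094735d4eddf30992d27a0b17775954b651c83d2f6c851bfae123ec3371e64b9144e018c40afd7c314ca1f6a82f22c2e4756f4e7dc6b10337d7887a3781acf3b935dd2efccc5f6407a4f43d31063f7d4d0ec61b6bf2c15d1f2b8f8f6cb5e82d135312ae877f4c87ce84646c9a27367566c489c8cff82066b9c4e53454dde886004460ef561aa3533d230be8cdbd06fa8b0657ddfdfd3b0dce10eaf2bfb9ba1ed4a956c733dac68de932a17aa5d854fdb5fb5465a73429fbe79dac88e308a6c346432674a02a302e0950dc1c96be91466111e99bbb9e4b58db7e0538a49abeb39607773f60ab8124b0f494bce3073c0f0b2d9369b49eb6dcc481e08bd09e8a311e0e3bed22c7de30d74bea5ad1d3e2d0fba865f412cef38535ca4e50389d11de4b082c569f61a00447eb8fe06280937df94c56e101349a7ea9b8a1ce3be30f150ec155ac66c0f47c87c5cb7914ffa7102975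74e45f64338d23235d93b4efbcea8c476bda47c5305c9e887b8964bec144cdb43501b9b6382d72357bd74ef31d9647dd9cbce5ed3a4597698380a953f6bc9e4362e551c21659f97619d70ab697113dacc1388057986f390cffc99b29c1b6ac512cf610db6c0478b2161a037f7b9bf2e59dd3431536c87e139788d70b23c1dadca0052aae7ec42b421f2014b1c8a4074aed61ba89429e5bea89e593a39515472126e76d64295297babd11d07e01dfd9d209c6d5f42a114cba66b30e014f82df8da89591e1affd06acafa976431286b4322f3306d8c4493357f4625d16b3c94def021678dc0ff31d2b5849e78cf4f99bfbfb215e861ff51898cbe5a0d72192504fe07a9f4cea558c2c3b23679799cd5ac93b14e5f20b98bfe188b944d8e5b5c2c115b196fe508a7668beefdc5169afb2435e148fb9f8041c20a61fd4a81737595c2bb3eef500d013516a2c9e2c52c1a1bbab46d29853e60317f5964d8f4afcd184a8d867f22bacde0db825cfa41bac014ac5f7219b956cead6bf4535a5225ae3df98adbf1e758cd3ca6c7a3bbe7d28e15b810b5e0ebba1788effb06546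b8039a746503a97ce1e884bdb28782f36b60bf6364f306f2fb048d34b3bf9c5ed43bee58db8c7ba10aa65769bc1482d601f13ed680281c335f71805a23818b8e63e13a757fe51fcd316533718d97c7ebda780338be0fd0862273d7667503fa1a677fd3b118ffb530a91c1bda70a989be456b6feb2afca9302e21e0a9a469e808ad447d355271ffc819c12eed16b3f0c6616e0b6825b8522e4626468640896b44cf9c50ae43492fd95ce7c698fb1b57fdfdca5a918738fb52fb55bac1bdfdf7dbb7def5c4c6168b9442b37d992c18c6eb084cb82ac1be36de5792bb51e67a66e0bad7d8e138ac51bf10aed8eb9cb6166792b6b36c6e9eea7287848cad821bbd2e1a71286b8fe1023c1043d41468f6e37931fa760842f1dc53810ba5f468f33132db38a8a652108ee47596ce3b926554ebde336fc220c1fa0681786f562605c4c6978636dad7fd804a3e47f31933265a1855b402a86c0d15e8740d9c3a1e565acf3bc1c1a0032587b445105b9013598e24f69711d9216a9bc875191d06b1376cacc8832c8f625b808608549165f29a861ce50c0cbeb79b8976686c0163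5332d27e69bdd92ea1f28fc97cb830b005e94ca8e67bb1a81422170ed33f8408ad68519e9de010f104450b68cd7206de8541d04ab394be6e5b3efad0956995a182e3e9279b37e4065aefa220d801fa7cab59eb4445ad687e3839098e9a294bc72abdf1d9cabfe89ce7b838cc47d1d067d2c807d3be303bb5562795d5e867020c3e0bcba126bbcfa2e072f51db9693dcca0bff5787f09cc30e46f1e41486ac61fd1c84ca16e1a73a5bef1e7a594a55fc59cbe95cfa4ab0fafe434c3352623615166532df1ad5cd254fee0ad63cfed927895952aade127240d40557a87bed10c7ae2c6be1d0a0c83f17c567e747872169bfc57d425c44a756d3bbb526ef56755a1604ef4337e359e2a982a720f5a2fd035c8f589bcc3a39d85c6de7c80ca8b4ce74102b76ff77e64057b4f0d393102557a52396de8027f8a8aa04d639fe6b82e2916b48123d75dc09c5b4aa4b83997ed27e7a355cde3dba2f092c9722df210213f0f6371ac47b8f87da82f3e571db7be0278f8dc50a6fb7fcbaef6a8e53a3fa9149d511ea5e82294d78d11677f6aa8606a03628d57d49edc9b8abe77dc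dce2eda1f522be6d65ee42ec4fe468935940dd5f54d4cbd0e470eb9d2956910c1cafa948836502f977ea6516acf9389a2b414bdbf9844ad366830a2b7549b3815a3a7863151b11177a23890190858f7a3f638ad5a0a94da678574d4329bf8e0c8cc2477f2984485be1e6dbf930bbfb9d039a74d7ae98c1d0175944b47d730c8cbd04931d90b1fbce79dee0913f97bcc5ffed6480673dce4f0d3ee48b2c1bdb8628aa58949d85171aa0027c92fb26427b0046203f0a6dc98e4fc4f1f79720f12effab1bed2440422d5982a43eab1dbd27763bb9007d0dcad6d7cc84e54d61b96f3265ab8e99188babd3ef23811586631436ec9253457f13c2df92e8b3d2d0b656fd7e692bbefbd00c442e76e9add904977d44b3528f97ddaf7bee4264cd8426995dc15a803d2f940fba3be998ea26e7dbf0c905154c0bdf0ac29b1fb5fb7b6ab08e6e5c30f9c824411c8b294695eda9ee09be916fe8f46d26186a6a5c231e25102d6ada76a95be333ced47c9a843303079a7f6f5bead0f265137bfdee27223ef909cb4e8d3cb79ee81819e3fc3e68c5c6e00232af11a5a35adf0a00a4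09863b372d03d5d7afb3bef78ed360838134ae08a01095fd519c3298a74afd172f0e0d930904e0afefc46033f70d53d002ff1bddc932f937dfa50eec9c7263fb55ba66e8355c155893d6a12b59423e1d9f9c085c88770f230dc69829f31d18e1a3c0c639088bf83228a2e5dabdfe179543b33ba66cae4809b970a4838d24c4f724a4929f5c783e66e57161bfc6e3b51642f3ad3c57a1e07cd6f12a3cdbec131d4906706bc3301269ded6fb871bb81cecb1d9d38e7912531a8e774692d6cc5260b247394375cf078309780c423b4ec226f80b7036ab4ae96d387ac0673ac7c2a641c3b3f39136e89f253bd61e356de1a06062c9f2bddd9ebe80743e7d51f5216f076949fadf81a7cd5492a0a9a585dcb199f1df34d5cf7a4e8b46ff33643953db3f7a04cb4cf6ad59a09353d790472588bf9d698a32d689141f0e45a0264114debf71ac16622c36a342508233c18c51c5e9c3d1cf0abc74718fae198804d80832450b86b4b4f03772a8e69d5563d5bcb3b964e47a1f99043d8004098d5c094a8a8cbf73f4fd73fae966f4923b7f1a3b982b508f3e80991bf4e63ac0daa4ba20ec85807e51421146fc39be0ce16dedbc5a1f814906004162447828201287d5411254a1fa879a1c53f3bf7d1e637a1bcaab02944b56732ef47f2c149253dc69b65003469bd33d236791c10d9a60983da3d10b3c1255c35f3caca9d9463abd6b39c557c2572bf05f16e306d482e2d81269c2a1d0f1246f85b8220f347d1d307ff5ad1361638ed87)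
def U_c : ℕ := (nat_lit 0x41e7fa5c22bf95fd9e84179ef02cfdf23772b0dc7b3b761050480b5cd4c53937ea9a5fa8c585bdc8eea4b7cac5968073461810a3b96275a1c13d96360281f3c14aa3d9bae572287de3362c252d8c93c932bf8a71159f6603d2e91fca1ee17297f65063195c0b5ab84d3c57f0b57a5c7ca280f4f0016af4562b88c11bc3e64153c5bd09e810ea51b1976d1da0574377bbf434fce5920dbb4942191302e160fd6366fa69bd735928f23454de0754548406cc57f69b4098457bc2937f437b3ca8f7b213ca85b199e72fea7001d5ee930e76da9916f9a8f3c7eead581d8c9404c2b040d70d2242302f015650bd9fe86fb4a612ebb6b3a81a25ff50f771ceca8c5e2f2d28398feb2ee0e575021840fd309a7b8020dd4d48ae1a17e9d7ba0855f473403875ea1c8846a1b2366843d2b001e774bf23f9dfad68d552cba808c4dd29a08941bd472728f7097cc6f71d296bec2e89bcc1655ca1a6479832dc6d53fdc824acff288b5b00370b855f2a011a0fadb34abfff29b6695ffc0b41196c8a340c98af8b0c07b98a7e3a047901d0d661dd8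286487bd325ea7a8275854895e75f860756e89c63d6f42011c823af1dc55e3ddaa0050adb2eadc1ad7bb5d947fb32423682766f691c92c0a385a641be6999cb930ada5d30692b894134c82703d9f87ac57b3e55f49718ea8fcf24078bae6b98d325767dd42ca29bc44d8a56702369fc3822319445fa2c304f2713f8c1e66f964a5f426623b172e8ac60b674fdc5df009badda662b969ac559ad60a9e046cbfdced678384c9ddecba2eb1bef199fb1d80d085f1113bcc27fff8be3c03b4f5d982584266c7de9e02be77a7e62905cab817af9811bfb53f4953c152b03a94982a9e727152c99b721ddad18b68290b4b61f9f60ee9f1eff463a30371407fb81de8daa782f76210c2c8e886285535c8a92fa3aad34a050cf7a30f6553db18ec0d5d8c17d61274813263d36f39eea24986816c5384b3c7a93b0a77a9fb3cf54b7566d1e05ce4890437a1fff6222d445537faa84b59a255916ce0b6022cc4a2966367ac910c3ee19daeb11640895ee3c5660e65082b2548a97fd094a91e9b2222d60768d5f44c38e3de45536a3e8f1b34a1fdb687c9bb1bb1268c988b20f426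6830eecbe6441963ea9de63331febccea861bc57b93f1a1c027340896f57e5daaaae2693829ba7fec588a540479605dcec8e022bbdd64d5dd10c40080b4916bf17b6c50d4aa3f34fe5bae8dd4c5b3639ff25e6766537659196ec22be55a69a05aac488643ba9640ec3c56268abbf3cf9b62cb24527e0055c65831a43596ed181fcdb2b5f158b33dfbc544a193b589c6c9c6c8136fb19a11bfdb1d0dadef4fbcbb731b74204287172305dd83f6e3ee2b8478f1b05cb5c83b1bc1838ff9a5b1032303f8b9ff3fba4fef03443139935295d22d9eb07ffcd5b7f08bd8059f5188e11dc7ac48697bf3cf0f0838f974c5831d115175467bc434c93b3348d3039259d7f8d8a3591e979eea4527e2f734c2ff2ca5cbdbabbbac22417b58cad55c475eb34c14576169879b5912877c7bd64e99248649509204aa52dbdaf1b26372beec2e4dc0b700f823c0b411d01d33416c10d14c96642faf86d9a1bdaa3ddc03b3853ac369914fa459a84edbb90e7bd7525dc83a5c1422659b1afbe3b2949235e156dae06f7beac484d46f4de4a8716f2cf56a7de736283d8fe8a76983d9791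4ef8679a17f7db378ba23a5899151ade6970fbdb4251c340350a58472c8ce7ac2716a10f0a11251ab8740befe5ac34a360ec84a06950a60105df048b019d3804f367ef5f3bac07d11c1d3ff4a8e27378acbf06627804f1bc42db861ba83cf741c1a8ef36c1c335d0034aa92adaf73e718bd21505b99aa15c05cf7053272a830641d58711b93a6cb9a2923b9d5f97cae7c0949d938d1fae123761cee069fab64afa3e63d4525a37bfa425185f06cf1382218ef47986d2f90187aaa9dc7be5ab7339588c21c7e49765f341ee0fbe19c651b3f4beab536e24700c35ceb4899459efe6e4ae82267d3150c3d76d3e5b15e9dcced529a4ab0fdd775ea0f9590d643d56c4193792d766a5813f32d9bd39c358f44a68181f08bedf2536c2a319e2714c25eed2089e1ff7278258ae51b5ee40c1dda791161da22326cabb711425bbd8009bc0906be78d4df5fd251566a3644c01b4223762c5811a6d0e28bfa6a65af0be5b811b0eeb1ac925e7c67c284fbb11a7121019f5e78b1adc6c64244e43450bc767befba20e341db4cb82df878506adb706c5b95e7dd715ce5b6ff81029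8519ef4b5d336293a9e106a8049642ad5f909647cc37ae05d6770f1ee7710edca36bcf565c9ac68344c0626a3eb718b85d53c58103613e82463eb9ff72f750e6fdf4f90c10cfff284a178557392d533dc437c68971476f6b91dd7e32f150ba9cee2e29ee5745b7758769d5ad0526a799b5e16f41a39d3ddb6e66298f0ba34cf21aec7fd7e9dae9af84c98366ccfa6018dda714df41803ce51737dd1b0e036131ac4e1b5c62271b67211135b91e981ba0a60b824365e2a54bcee01d657b10bd39875479974bf4df8ad1f73dfb98cda1cfed428a3d091e741f0964a5d1d40cde92781881f5253109b84d647e24145620acdec2c3f6d0afdfa1f52c7fba41635e79624cfdbc9872b2924f933aa2aca63652bd61e626f2e95932200623499e26abeb18f4a15580cdb8ab042b8324f6a3900bc8c5f06c26d1e1362d71ac13904926a7760921c82ddc81b5f5baf4b3ddd1911028d997437b32a76a7f61a9a2603209aefe6f7d2c5ac7b395c7b1f9810096d868f939c694c605d0621fc69ceb25bd6ab3a98d78d2cb50a56108fc3f01a9b2852f14b7ec8b6171365002190a4f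25889b8e7bd9157d893914e948895301857be9ba5c3d34b007fccddc4fe63905b9b6e7ec466a91618c306b2e85254ce9c69754712cc302422242f4a5ec9f3db742f489f15b4eabcbd79de1505dd3b0c3c494d92094a70f59e71e48386b3b0a3a3e85104af8182f05a20e859223311b64d7ea9172c36d2aad383961b7657cbcddc384a0a4f0b189cb758a0d98f7486510f77ac8a76182bfc60f13d7f1d991756d2932f5cbde038c5501a431ffdb8ab81a94626021f700bf0a72f3eb0feeaf65ab362fa96012c68adcc9937ba0b409521964bb0713e7a2d04102ecf9fb6c3f66808b15d7dc3d6b6ed04fb34a3ba44bb96456dbea2d65f7d0516e163b10ea63efc7f15e616106202010e4d2943fb645ff54c1716ce3dbb937909f6b0c49ec64d59ac167945d69e981e9d3ad8d56243eafee739003c03ed44d0966939ca72ac889a783d6af9b353e540ed728ed576ecb7fdf70eb7f545f3da9eb66aba8bc01d30495cb4fbb7915ed1a043ea18b4e36f6876c651f8f1934f0e64eea38ad87e206463ed864a585fb312232fe20b43f5dbb3b85337b3610ff9cf38d95d93ffd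eb0175cd903e35f5a4abf71e775165c91629397e54dc26cd2ff60efafc86294b7a8233115fea034ae735adc8fda3799567babbf827b8dd371404fd68754a34ed5e1b2476dccef8393b8921391cf0f74dddc0a4512eeea093a8687e8ec1fc41e2b237eefb68d2813e9c2270fd65d04509567af18baafcf1bf44dc9d895bd07f94159bfbcc7b1777665de681b4e0e36409ca5215d78cbdece0770adf94d218699e88c82f6d0e6be773d4daf29598a9640b8ff86b3c6ffe9f0be93625d677f0a7e74377b91b9ca1bdd5400eb3ba702abcd6dc0f849507f51d1fd2b42de89d444c7ea927c84a3442d1f641221c344adcd15b4c949dc4b17a4160004f831aab2b47052c7b5189aa1bc8b4b91a8682f1b36222b76a699f1a853b7615f13ace7ff0a1ac3d554f6e38d0bf45278f36e9d5d670283031d3a17b3ff852b04bf1154215a0e3e968e194004e35daf629c19626f23ab6cff01b6a44eeaa1e6eb174344e8815eeb36be5af9791d0bb17be1fc6be29e8e5f2497109875cc10370c828d9791385764666c06b9d75b612021839a5e37cce09a55942cf6c48434617c8044f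a7a541e020f251d5d1a73b3ea7e0399c7c15cf821ebaad8a9f80efcfeeda317c5969546cf1bceb2374c1319f6e574c3ed248676c9486d04b684cb3bb12c354c81f37c6659717039251c173673e0f66ed5ec0401748f69c7c70edb76d43bf12eea84a1369df67b4e1335115c2017fcbf58777a80ff93e9384706da93629f8cb4d93f7f7ab7c0ee4c37e203500923323d3ce7dd1806443ee7902b22591da2e8b2006933f49c4f7aa35f09f4ffa9d43c1f1aaa5c565d518e102d78067f71700cd26ba4d3a0aa29576357246b67c59966ea53bf1b1f87c6231369763167bdf12ebf69c9b68d4dd259df5cc505a7cb7fc74a2c7f7afab1c16a956d4c814c1cb4116bef9f1474a9362053654533691923d3af5dfe3b21d6277682cb005c071611e9aedfc0a46d963fad80d3c2f2647809b3d16416cc5492a7c8ca3076488cb4aae465d239ae44bf3fa217bbf95c62d0df33b0ce7b8d388b43efbef9c1118c285dd46cb2f63321979b0002279b9bcce95cb3d0c0c1483c016a119b8bf2138981ca433934f6dbfd446638376c01c42722a8e2aa87edb5e69075517fb4f292830977d3057ee18d177c9d26aefaf9547b798dba58ef916b5948b78e50a36fbc2f62bc0cda4cababa9b2b9c8af9d7d3adc2d5096657eb49e361e29fb07c6f682a2d24d57adb72a8d2a0d094091256e4e6523e2bbfed0a051b36f9aca7bd081801bd094324aeefa994de7858e42e8699fc12ee09573cd7346980c20a5a89db911ce2d26d25fd041a1db3bc)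
def U_d : ℕ := (nat_lit 0x65c3a30fc2e3483bfb936846b2be40d4b44b38f4d43744ae90ed1a2c4eaf707a74b0baf516410733f421db20f78d51c3fc58122e16071346ae4706251843e3e2dbd03b0235b37f66dc6ec6629acf3bc5c57f756c0b56be66e8bf819e78715f9afef3d3bf1c8f8a879749adaa1fb782f5a53ef298f09e8c19c202e829c16f125cfefa9e38b7d7859130a8628e107c470d3d8a6508659f8ffcb9a3534450ad5bad4116973ebe7c972f2d1960315da2a5c4ac0dbd25dbef5e48d7ec4276931e8c5b215be3cb386ba5af7d19859c6e40dc9d888542559eaf1c0b27bf9c6127c13a1872e3532bb2a6f3e1c928e3769ab46674b73656327fef5b0d8d64c89389819721a996178ccd844f844b33dc46bc24b05e182824fb292d498f401083ea947cad987b6a84b1ea772822131770b366a7fc0c77065b5f820b3a3a8f03ccd9d28299fdbabdbb76a0e9df65e8cf3994f0a3629249154c2dd5c4259c8070b6d4dbe8ba8b66b3b4792be78c31c024f8d594b2e68c258bf802a2b9c96d611550b15796c8705a20e2afd80047901b8921873c41e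e76b556b6f967ae648d0f5772765f7bebbca452aa25efd02581fb84269e52bbc9e8e9278e7cb7f4b1a3a75dd42851c4a5fa94db16b5830d2b6c6014db3efc426dc5387756efbe7c07a0e8703e504bfceb9c62986421ca759028dc641f85c1eac125576bdce2c6af2381b0fc0e650b3a41710a311f45f8a4bd2668f5b5af90debda65e9ed488760bc94ea0adbdc949bc1d8821dd90bf7a5045f0511c80e06eeee67631abf53d991e5df1310da80fa4992c053e37033ddc32ca378df7a6cd2af60034c7fe694d951761e20138585cbdc2d42c62e44c89e459f35aa22717b526f510b2f0179e354155b24221d99e746f4abe51425dd96ea85b3f7f5b1a26a42f12e94c85fefc952c47054da2943b97db45f130133b20707eff609b5cc12c250486c5683db04b19de71a2184da7831bae529847b772b50cbed97bb5c7754942dc4419207a7eddf9368a812a95ab0bfce1b583592e5bc5cdcf72ffe53ecd5c5526f48d990fc759158ecff01ca74a44a3d84cfd4cb72ebcfb2a95e2d6f02c55eebc3e2fb49a77e79a89807590a0ad1fb5c39d3a2022fe45ed9d26d1f6bf66f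efebc84ec3b81d7e85a9d6ef8b8b63416cb39861b69abdcc2151f75badac5543c6083c10d65891ff53e975829c1231d6a0791f4cb4db2816cbeee428ae72c37f91e8bb934ea70840ffde89e351686fef8eb7d5fbb9e1bc25c1040995708f18ef2340599ff54e7ea656347c2176e7cdc164ece14e1494262c58a57bfd6ac5733f5e57be0206bc476ce24b9cc286b7a70524c62af3773a4cce586f2ff2bf7b71bcec15cebe3d4a95068ab8e8b095cdc6bda3e135c74f2930ab20616e6149d1442bc03b94c3042eb618531d4bfc0b61abb655b4b1b6c4e0cc7585b41c83dd7d58288bfe846c7113236e0a3567471941f99f62f39ce6f833af19f06642456a7afe515fd2d056ba25bb3844036b2e1feb8da787639f3bc9bd2dde72897c33fa3d5c6b7c920d4724d51466e81549065f511b962d16c3bab8001f6a9010eb310923cc39989fc34b5d2014775b2869e20d484ebaf297121290ae0449ac2d28fdbe939bf04536e732d8c5e0c635a786230afdfa4d3ba5fd97f2fc7719aa1a24760e4b1517ced9d1306743fb3387a84de55deedd7299a5e6f381f10b3a5db70be8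a03ed87a437d4bf98d246cc4852125729c77b82c3b249e072cf90cd5f892f329db9ff22eaa2e29b572d75231557d3143664c48caf86a3c57973e9e76f2286fcce60ed412e2cf72755fa77ae2d46d27d114e00917968d2d2d96c284351eb70ce4877eb77f075dae0528cbb5c5f1e0ac4e8e93a012dd631f088bbd8901eac0617997dae0706562188ef4803765f1d872bd44842b0ac37bde71dcbc81f6a0ab66597b2cb138abdbf22674dc6a023a9525b914d03757327239811e11a5faedfac452e44dc46a9b5984434f5f02077baf0a7fa4179989df263411ee4090a76c8243df906110f27f977054407b57589b34627997ae64728dc3f3c1060defe905b948b35e7f8852daa049ba0e0fcffe5c78b06cc0e7e93dba74bf6c5f6db2859adbdd345f56e7af9cf2e42513e6c8a22690b2e43de3a722e0ea02b6da84feeed81f6e11d75cf1020c874733e99f0f16cda16baef970251d0614abe60ce0c20323c8e2d34dd4d79fcfda7c78ed5b51c2ecee548e03a62bdb9d18bf97f4c3f747adc961d157fa7f266f26addcc9d567aeffaf887fdb6993c209f88ca6d1349c8d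ec9bcd51830eb44be493246100fcb21cc7a6a646622968cec3274c8c015b252298469cd38675892de878d6f9ee521b5f2146a3d57d667d498a6c8b2d09b8f2e9d9692b1a89d5115e5540fae4e103d6602fa19fa41a56640ec99c058a0cc6bc841ff63f323c809f26b7befab6f1b26e7c4471603dad22472143d42f7c2e49674e182d37870e5290d3a187ccf1efd9842bac9f2857e44eb4d95d09c565dbd38268b8905f7736d573d0be134cbb423c34791f6f96505ff63fce9b0a610d9277e64c30e9559d728e1a34e68fe0f82575ba51c0a6a89b0b6dd3ad0eee40b5ef040feb9e5d467e1a760e74fc871cd3a84987eecabc6576e1a48480555aa6a915c700525737c34c279d9d2c4db5a8026891214b6d3df05db59c47f2d75ceedfb8c4c31d44a75e017ed401ce36c2a13f663225767fd50c16cb75b9983e635bab602b0292c0addc7d8e409756ce69d20852a88bd2ccafadb58682a30f27d850e06a024b19c1cb9906e238e81b7ba3fa4cd7661f6f737b4f8abe28b81668bf8f5afc0206651a24874b490677d88ed426d133afb93b8d11f9c1ca51c08d13e00059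449fa2368ea10e81d3adec1f259d7740e6d5f55449e72483ffaf49de52303335c5044a9fd4711e74f44ad4c99c6e61e727cf5dbfcd95845031905f5adf8670eb93b82c4798b96861fb04de79a213bb755600d7fe664bd345a10e2af07f7a463f130fa3979176b1cbe83fbc706642609835ae36f9fb84331b5d2e7cce851f7a6efafcec9f16652c6e1f639d9e1b2b227b190fc492730c557ed73a91159225016bdd7a1cc53f66d37b956c998ba25a5511cf2ef47f3813de3c828ba3555dc4665f80091de25bf3e447c7e11564b80a9e3ee8eca387ba494cb625bad9a2e05abaec5e56c760432d04a024fd35a334e14f7c53c218ec4630afeeda1346b952e37d53222a926b5192eece033fc6520c6d4aae72cca7424eb14af79dda42d4e9863e60a24f873b3de9800a1faf7f60f85b3436132fb7bdadb206873904fe27b84929c9807e1258a2c004a5380cb71ab00a1d4facc7422e20c0248a51319b506bbfdfbacdbf1188aeb16261cc7443d7d60dff2dbfc56f4afb15800e0c99c287be7282aac09ad505a93f84e163e9bbabb45ab9506dbf36d57ca1ee14eb0aba84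175a2f1b081c662da9f0c148d4cdbc1314d9b42b0d6257d9afb38782d04fd0df4988c88acbb9dbd3345ed5652a8075e6bed294d3c639f0833929eb61efbfa050c1cd2e3b0b48105e95b131214d46c77b2138444e70269096944d92ac8e5f4575b3321e556699003b4c673273df3b3fe703c871fb87f6526df023b78c0c0e32c0c2ed8b8dcb2b95524fb5485f3338725ecce07332bf80457a1aa5e229da63df9206da783a7e7637c5fd89aa9518a28fb4e6d7ab3efeb0dedcb2fc3f5598f4ea21957a9e1ad64345e755742bc6e523cd9c7182a98744ab55fbc32723588845b9d53cc02475c7abdcfdb64191255feaba6de2624957b1f82d1f6afbe94c63b6cb4de1f9244109d48b286ca290984a8f4e0c9b1d0b5aa037da2373d6a1d3e58ee4b27596b7eae4aede05b084bcce1221e0a0c7d33911d1242efe087bcbac0f439b92f0585145d7221e3887d728b88b47d248d68a8d54954d9c6212a8cf24d5dcb1c5f465d3c0e6a60a67a69ef40d8e01dc89f17fc44ab102c37b5abcf1ec07b4732652c7e177cbcff2c1f546981512ef489fcd973501f9d4a04fb9947e89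49dbf8f94544cd3a35d2962a9b845f376d6294c4403270c25b7cfda88272c3e26d338cdf8ed2f53a61dc540d57f5f06128c1f2bb4a39e6ca3b43d981fecf124d7df89ee15f2652d813544b2597ca0ed77c637e39838e22fec2e1dd39742139ced8b3f7eb5068b5b8fca70e3597f8307a659474e943dd56187baea386366eeea51b72fe4dda517337e8432969956d399be932ce67a186e41d7e02089534e83b0d53afc32e277ea0044e22ca143527838773a2bd448b8ff7650cde834f21537106b4b4948da2b67197e7ae25456eeba638abf3f5b01455ef011f4ba948661b5a1a6bc7b015fc4f025de1700a356b417ccc260dce34263043dd800501cf1c211716666722827ba622ca9960be6d53efd6a8eb3e42199712ef1286e33f784f57c4979ec09c6d3a483b5a4d634a28d32458a5be1bf0924adda996730a88f09eb3d5290ea714863ad5cbc91306e9bb88dce764b10fb0d8e9000e3b7a45693b46f1a4332e0628560df1cdb4c780c977806f05f983e4bebd42216ef3f85f72cb450e3ecb3b1806152ae2b7af78b31d45312b581bdcab198a9fe8057bea3622ed908e3a9289cf561692b053970600bffd7fa96b343643c7b3b9243c081f10d8b0f41251113a5e92fa0fee0de00a21696b8e28ce934fbc104bc6f15d1259767bdd167223c7093bbb9a037597af2c5996dbf581e4f2d64e26ae6ee9565165f3f0ddd8000b79c3ffc6fb7c88ee3af523193bf25b072189045a7fc43edc3379207237100636d676ff243d26)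
def U_e : ℕ := (nat_lit 0xfc02774f2bad2c7f7e6caa5a73a1bd8c25e01b4860e26f937bccfbcc9bde536fab270deb1141462183bae70f7edafbe47ea020643aecf1f3da261028f08e682fbdc2ac4673f72d38c5e46cabc51fffe23038072b496ad9c7e1163f4059847b4c0968c9957b9a1b06849e4f79b256d05b63b4fe1f152b01fd797b3141ab2dbe952d213faba6c1a4d50d222042f05e9273d4bc6c7565af7e462df946dfaacb21f4713e474db436f196c91b30174a2b61ded1fb8f5dbf4631daa6259bdf1fad4c7bec8bf8aa3f64f335614d0544b506da4a58262a01b0864523958d617c2ad4a02d58f10834e13f595e0b1fcb50ddb6e198aedb91c1a4c3fc6c42ca1016bb19886dbe7ad18f0cff731c399fd5480751bc5269689b9a78f29e41065ada03d198a3d0f591bf41a1a38dd77772145eceeb47022c02656964c39d594bfc1e0b2e9ab0d7e32e0add0939f32661e1df5ef075f2f2bd4a85876aa903f7daa92dff9bb2984848595412388c364e0d5996c8ade4f960c3c638adf96c45fceb78e05bc3c6a6c8b7c28b323bd30ece63a62ba6bc1a2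414a94140695b9e42758fb71d7471adcb031ebe588b9d3d0e798f13e8b33c2fc94a0d214a65b96cd6fe44a00ffe496a0813d7cbee7fc596629924124f7749bf1e9b42eca7b1af328ce2b848743cae0a44cf51e0a46dbc8790f6b35b722b590ce5291e29ae91a6bc77fcb40bc600de2039540a1a3b0bcf8877c5c54212e750c54c801b6335564379e43bbce240b0ab4f0e8cc10d662daac87facd55be6b0c11766a86240a9dc0a1e530df4ef940084b66ea4a22410ee0e03baf1652e3c341da01cf8ad7cec0b9faa196307c3a9e8c5363f4ce3d488357db748cbb189f5fc7b7677fa898e47b3c9027ae99bc1cb72ebdb006b1c001d2e3c313dadf7df2ee4dd5b02b96fd0ed88a26942288b296958f33ad1347a95c5dec0b496595c4aad90ea8146205bb777d09d34c41e8e26f3dc4bec67d1dcf1aee63eac2c6dc40f91762e8f70e0afb6bf4e9fb6299de84ffd60073d387892a8296fc186804efc52c3c4f039f9e4a35dd50eec6090817256fc84b8843d74d9dae62596ba0260deb9e0d7fb2682c4e8605d312265fe7f23ac8fae80c8ee450738ae8cc8bc6eff34be8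38bc8337d64fab68e2299c0c39f3110cd939015226d72dea3688ee8b96d5d0d395d11c486ac9c5c70637bf1bbf951af4f07978b19b41ef99a7bca75fe02bca0f2b1981f78839bfb29a9b0169d88c2ce48ed5f4b105a978439355770a8cec2b80a62dfbd6c0f45c5d64067d50d0dda44ef1c4bab273deb510d06f4cea8d9f860accc6c101be965607ba2b0de967bed1ba38a3e828ab3db69fd32af668dcbb94bc86ebef85626c8b9136ced654d9d89db91866cb2bb85c20aaad470364805a57da42377370507f91b095f8d9ff902bca3bbcdc9a9ed892328db8b87220298412b12b1cee600ac6c393602b575e512803edc5ca5c9c494c383d7a659b11c29d3d491102993fb5204662051479e70fbf2ba53431e667ae666773b72386314b47d04f6eb3a535ed0c28f776c405a5aafca8ffc4e9f5888521ae0a2a33feeca97172678be6fc68f6818c7d92bbe114ff20da686cefbc2fb54a2687b7ae3ae77aaa19d4330edd05911a6c441c4a6718ed6a7c3a951970a8563136bde2914466367d0e55904e3f047c1113daa8e3b4ff618ccf482e7a145ca8c90d512bff4a70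2e2c695436fa4f454b3c5f08b4afd5be81b480873f8e9282250a31dc2041038b36eab3487b9a9cb832ca47889ae4e647e47a4a9312b469f57b18e01f11a03bb8a24268736fc93d4a59eecc8e8d8c84708900c4ea6ceefdedeef8f147af970e940f1e462e058f67ecf8b1103229a794ebe2495ffe4c9a53ec45b5080607aa60e085f19307b2f7b1bdb02eac96ee3a7c6c0fc20ab78ca2aa88facd1873f9c22986924c2d79135ff5e8fb35c4f2a54ee215cceda075bb695cd9ba8cd82a0cba02df359205d5e748d1f73665d11989564a05c3895e88dfc8ed7bc9ac03883911cbba2bcae27c4bbb7c6b59ba70e79a0f2a7dd40438cd13d1921c599d5f826eb13613e09e478eab78f5584439fb14f5150f755af3b960487e15a863d68bb52229cbad1b3db36a53e482c494f6a1dfcf09fa32c5c8fe0d033f75503a283390141fe0ad9200fed986a57e35040e4836142c738f6cc7036f17c429d59bd3f19ef82b43f3b113c224b4d9ac860d991d75306a30b25a9c7b44917931bb59e90b0c9c990e0bc53a493baa3bbc3e9d1b8d699263e03c0eeea631c790e98a608bdef5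8dcaee46fe03705dc3572cbbccbc332221f91c0f285451f8d587327b7d4646f4265bc81acd9689fa677a458640a0ef6cab4d236ec2634e595e1420957a4775ec6552cf4f49bd1429cee343fa8fce134a03468bdfdc382a65915de1820779f55d2ba17562eff321d072a7ac782bb286c977703750724670443000be0043e19033d063aaf8bbddea17ca031fe18b591280981ff51d3d940f7f9246871bbfc026806d3aaea988ef3978145681e70ccde6abdc606b2ccf1647612d121d4d447dfdeee2bbe8667b645108df974f2a57c301a51e9664d0d56068d399f6cd68980c2119f10dad3257b3cb8da7b22ee2f24db2563358c89900defcb1d4eacda1411a604fd622d3e4586c18a2c2b6584211174c85fa10434eb9eb9ddd5ddffaf6ae29ded5135dfb096013a43336d6745504d2b0c6c37ed2203b84266c185935bc48b4e9cfbc25ce1c1e424658c9cae9d3bda980a7f1e3374bf4a4c7e9a589c58ad79af7130544995a87954a0ad6f03c34220d546d5c7e6a8dc6dfd4e394872b967d20bf5f81895968ed577980d52d9bb081d323d41fac3c2d9c132fa645401f9e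ded5467ff7f377fc3b460e058f8ac28713c6ef7ee39c3deb94896a65fd4fdca575648957a13d19e65e47b3c66c069a666256f659a57c1118eeb108f716d8cc22ed34ace477b1056ebf00e365389bf1bffbadd25e0080c0efcb455f8333c762160e80a61411f68cf77edd45d443b95be0484e735083f1d1e9cf849e3e6f075d1d7a912de153c97959a319a444e0f253a0213ea2e8ea0faa46fb1af9abc4c196a2d34b15e7efa1ce0abdc30dd3bf5aff10cca83c1fd1842aaa77656f76cc3b48e4bd1108729900f5d5ecd9077103c342c7b4302ef9f8e4798711abe73dc78d2acb7af1a2a4cb2ac2a5a7e8fbba0952c03c3ab4eab9796697c5b31611fc2e74b9fc3ead31fcdfeb24b788f99b1b27e41d14547d790d5fbe19235af94a6df2958ff2e1ee13c11bade1993349bb67f8e43d0d97f86ddcc2907822b16ea2d028da7e678518d8819a4d021a0f1e22e943ad89ad21e8769f73a7708b15dbe1125f9d5b0c5f2ca2272ffd0c43de80481eb24e30956bc6e6ed283d50157f220f8793e7c954b70de1730080f210571ae822c27d96a2886ac15e9d3cfe408dd5f99f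dac9d5e8f917103690d015315c1e0dbeb29ba39ce2c19e05144d6489d09918680ba5c7e6ff99b8c78776994bb0b32dae7b6f292a842dc49a15ed8c56829be8cf82ee937cee49b8b52057ef9fcf7d519f02dc23561ed7b8b5e6830269546321d1966078c3152e387c23d9beded1686434fc19cb8a9acf8aa78b6582f98148f5e7c99650a26d18482f23b8ba5af2ab62052484fd1d98d5776d358a7204b744d18b92e8371a4ce88011fc2bc061c5882ace5d6719793da4753fbf442127ea62d9a293d861805717a7adcf004f2df4bd5af8bc00269a5a22f69bfad89dac644e5b15cc9fb09eac6ed56b8c43c7698d87285d99ef97adf79eaf37f468b54ce7a9e3de73edb62a3b484f3d8759df1fad1f2cd2a64f88713a615292dc7bdc5a95a1eaa0d25f80a8748c0d3aa591e50361f17645eccab273997ebe06c24bca252c43f9473b3c73d09f959f033f2c794afb8c1b874b53c6f12172fecd8daa7bdf3c3d50be616559854a85cd8666ffa7c09bf03bad80ebdb1a5d8785d8523c5c5611943659e0427e39ae1c60b3ea116c7cac08ca422c50e2ea83185cfc834dc414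fa317d125b28172dec357d9a8f4bda2cf3c22d66196649f388b97ef129b5e7c20a26e9f9e7e147f6b47b35e189260fd7de9b86f763202f410825ca0b48d2e79963adeb832ac758f44ba9b54f5d1918c78a0b941df719171f1ce3cdd68d6ac28d781826405704a58992885ddd2399fdef45b3735bd01afe955351106bab2f593080a065633b1986c664ca0862f5e81e0fcf8419ffd9bcc43112ea2f0f0ebb79bd179cdf56533196bb562ea22ec662883c419deae9bd28daed9a44ebd7017f8e683a84135d80963e58cf7515d8355fe7323241132faf787e1308120ad2ae3e2244f4f408aeffff4277543bdf77deed51a30a3618bac1a827db50cb8a5a8eeb587c8c17215c796a1cbb089c0824332f192fa92f02de86e897815c5a5faf8b7feb07d3cf5236da56c9c3c33ff69a382a54894f152b34bda9c729f65f1de8344191e78eee47569ac9eccb5fc3ce216a29018c11d3c4ba8a0f05ca14969a4042db536061a8e062a2bf77a25cc8d517766acf48759bc856e9093e811f2f985a1fc0eb8223ad3800cf0eb0394781679c75c53f99befbb70be41a89b68a7c521048b6bbbb9163e18001470587fdd092ef583f43926bd7dd360fea269782eebe1edddd945b07b49332c60146a3f227cc24db5fd9d038dae87e3b61be6cf7420056717ea1d1b81a740ac5913678aae3c568072e95e4afc6cd2701b801fffecf769717f396a8479f8a04e827d1ba98a312697c509bd818f5dc0811aaada62ea5d55ba14e71886bf901305f)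
def U_f : ℕ := (nat_lit 0x12bfa625f23a5189961827c0bd34865398de2387c80b7f43fda66a9b9f7d07d9a05a62ba07d5f99c5167be5528a513f9322cb9f38bcdc859fb1c4939e871295f9b8948751f8326642f502635188cdb16d47fb344455b340ffc5483f0292c2f19342a5561cd4aee2da3dfa18b370df327975d50ecd751d65930d1aa9b9e288ade979e90b6a9585b713648ebc6373c0cfcb821f066e9abcd9add596a60a79c98ebcd3e372ba520127d7ed80aa98c0e8d8374029e963f28af61623476e0a04505e9feccef518b404bc9865bc59ba81827caa8a46469b2184ecbfed6345edce12b1fc62ba6bb1f76f6c70e3f08f818d37730043b56d1bfeeeeb2e87063bf8d8af592874cee6a000483b8a400e80f73a5d21e875469d9f7fff9cec9ced442d1ca576c9182a02bab0fe5478eb9a9e8d17d732a4264a0220495061472b05483a7ae2193a6d771e3be2e5c3cd861d1609e196958560649ca2b1c665d1d57d958e65d3b6e8bea25937f4aa8b5d59ac9e31e7acdc573b5478fc003ffc210ef14e9ca9048f136ae8c363b5b0dcf7938c7a07fe98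c692640632708732896d9c2d78858db8fed36d0cc036461fd0cecd54686a03fb139272ab93274d1cebc221c599e3289665e1cb3138205c3d602ca2de6cfd4cad8dbe04e1ad810e231b14d4e1c80f5f2c0fed06ccf611cf9a26f80a6578099db796cc60486d83c2ea8ef4a787748536495612746f57869c6ef71dec7e935be1d3b45e0554a46049dd25ac26997b347ecba981b016752dc4213aaac260a3d211e10b408a4ff1033e74a8ceafe8d55aff50cce7c7ae74b257b97f41cbeb6ead2649c34393abfa66a744b86f81e72a1221c9c55ec40dc64739f5b4c7e5a484c529dfa5a10177a3c987c9be70e53e56533127864e75528d0c5edcd69b56f34dd8ada6b9feeb7d384e701d28a478adde2fe5461e15744d99bb49c3b82fcd0cbe17182b73645c92d96169ace681319514c37bf2044fc6fe5955ed7e78d14fe1f22dbfd59ceae5690bd59786aa290c71b16aa3226d24630fb4dc30ac6755328c6e8c229a195199793a2e80b233617de97638dd0c8818c96bee4cdde6a91797400d89592ad00fc4a0e85501351e7d0b0f9d3c06a634c66cd05ad5533f2c52d8d9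2333b27da01771acf414159c59014c7c4531474784f8173f12224aa498d9fe13739f6d8270756c409a86c8c3a1a3f2296f1ebae9121036bbf6f155ea0e7459ec9e4e9bcbe7ae9957bd292d7da377c4301e735edc60983fc9342e0f1060b5c9888b8c87f270de84fb853b72230d063a4c7ebf571ced407747a378959dbe67c6e9c28067ce36a5742774c344066869e2be4a7162f9a0aed4a355819af729159ed9d60ec7a2a6872fc5957f03600c678e9d668c2397d8368dd6564413266c9da4dfffed18605d25576bd51ba157113496d933d3eba3536d1fce9b82892f63ec64e4973335a1e0cbc74d0d46fdd3f765d9fd7704aeab06ffb80407e7c1dd6ef1beced859fce4d978d8654968c1430b4f999085e0878dadb4cd6f9f0309b12b5adab7621e01651d1aeb07a87eafa4bb4250019c92e8689f416f44d6d6e354b79854881a3e505d42b21d337b36835ead0b19a60fba3a9e3d3b7ee5eb502323ae0abab31ef7bf30cb7e599a05983ccf35fe22892ddda72e0f70ab91bc366e2dffa511cc9d223f03557200407aaf48f0218faf96de8be79f527c515dbfde2ebd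9c71590ed600ec006797a1d3dd6e1f2e22b0f2a7acbaddc6d3b1a22d71eb1e25ed2e62a0e0eaa4bc6d4d6d1a82e4b1a49d09bfd43ca3d58acb5bd81acdd2466b44afc857d0f42cdf211755dba20aa950e7da5665544c3a4c383563385e774f50c25fb8e3b95f1847fb08e66881bb308ce889f1afea036f1b06942b1dd6173d8289517e729eb377e104a712c82d8b0b4dd89b1560d60458d226444b3426d0fb072a9c0442cf21b1a72a073895f8b4cf509fb822a09ac5cb16342960919e7ed52ffde7623b1fc30655175f3161ec7ea3eee423944ad64fca5459a356461146d58a35587c89a356e381bed9c035be88530c4a008ea4076a071202b517731d72d64315b407cebd73488fee32f46f725be910b3bdf4be852d248f36c3dbab400a8a96ebcc39d40e3f3d27c29d4cbf12c460fa36abff71556e9af06845ba14629159a69ce73784ad097b31d73cdfd7ef0eb79797906b466a37891e070d1895a7098a9d618c488583c060e6025126d2d1254859716160a37edac6236ed447a2812c548a06bd5bdfcc929c5f95fab75dfc8cf28dad4621d169651fe988294ee8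991ef0097a0174fb154fa4801a6c86a8506bcd1c5711e2841070957a8db85a2e4393e6f6251f9ceff03dc2acb4422f1a97385bd0b4b5c003976b3a7cf3a20eb6d03d477f5ab2a110811846d2caf7ae15e2d9fcec8e079164c973ff8abec55952c994840ba199e5220ec598399f14db9bc3a8238914eb966e6b1a153809adf10119f2e23413d5b95e4284419f952adc85f8d9065fc213b2f771f6e3a50c6b30b55fddf29224337abc6e2212e3bc0c80e30c14ac2fac539e22231a5edb13b87e31cd83ae86290b0bebc75a349df9006ad5c342074de6f77dc22740511355c2b9966c3098550db045239e0c7f250df2ba8eb249b073efe8a86a38c6f022a4c2169cac8d94c1f1a3d68dd34e1ac4c3693a4568260dabaa30de748d5d98aeaa2ca1b5795feb00300f2a20fcf456c487f6920cf550595aefdf9eb5675a392f5845c5dabcde0cc4f19059f2992e65a8851ec5cdafdb2572c5c0878453fb3a24c6744c802b42506cbaa3fa4ef163274273c0ac292a60bca5e48bc3d8cff0228bbcbe612dc976c83219db2b7a97fc1669d9e20f7216bb99305788c4b98241c651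4cf55450ba97011d7000ad3d3a9e2550b164be43188ee4908486b58e3f139a118133f48abfa2030e26df6f82be5c2c22072e5fdfa183931659cfddc4f5bbbb7befe1d34b7cd4ceeec0ed0ed821882176ffd27fa5f1460f42b633f4b1b8e33237ad4bf4130b2d5c3ddcb8cc5abf06e0ba6597079d727f8dc76ef8fabacf1d27bb214fab8ca42258997bde883290c88eaccac9ba8bed953736b1765a03700174c604d6ff42febd95b2755d98d27feca4a812c8ef671c930f1fc8886fef63560b5593d6510ae695c896f98650672f73f9f1c8e3dd08bdf43b2ccd09c6cc022fba32cc0949d47e1d89c0ab65aa7fc0113a0e98bd9435eced17c49e9cd1c1b982ab1cfe5e0147771e156d2751d4763ef5d5f8ca5f5bf581b80b38e0e669b08de7863f53d46ad40a12d5641d7fbc5f48e0aaddb64b5d09fd27cf301eb4e42ed9fee4deecab090827ca41b2f8b74529e77d2a26582c5955ce06f3d6bdb4ce82828d08a099513d57a74f0a591d90e615054bd75a79af674a9c06b108ab3eeaddf9080ddf46806ff512834807c33d40d00f74a44e525afb68daab2855b1454757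57598923c44cfbdf46a74ed63073880aadf43b768c07bec9fb082ee2cfbd34c8c326cb40042d43e38af24bceab6dc7cb62abf616509e9f818e6b36e3e4851cb587c71a2e7d2f134613ae16a76092c3fea9fe0443c045ca8ded47ec6010d30bc65a1bba496477f52b6b6cd9a30979bb64f54405c9b07fbe1821d32735a7d23e441c50c525a4033867a5bd865a8359249c8b2c96bc30fade8f240d6cc56725952e4d8e62475e4dacb3e70f5a5db0df3a112cded16f48d9c9b98728c7bb408816cf8bf4b502a710b32660dff4c4c3591d6347c05ede8f6a0405a34e93a74e4cab5ed589cc91e5c1fe53b5d5b6cbe8ac676b5a058d764b2e80a6e738ed2a7720e18c31dfcb47c5de176273483c0376d2ac2e646aa1b7d439d779479d8afc8586710ad2dfc25ace7b7e554718f9921a41a5ed887ebdfd5919e5e0606b6bc211bdf1e7442af2af3c3c5948e1b2d2cfcd2c28bc6a0f1e851803b3faa00724a07e96ebfeb2d6bad7563fdb4af3430c127aae07f752f5d02ffcdac711dfe2ac8f67ddacb5d2f5ebd9dab2e7a45fee6e55efc19b524c2e6db2079251b387fccfa6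699c1ad0faa3c6000c2a909c89cebe064ba39154dd49652502eac22d28201b198756d8074dc30a36c7e4c4832b7d9fa985032d8d2f0f4d1eb5221bac7e7555e36b457f1959e9cdd953a66e8cea440c5f7c019bb374211b25c92c2d0c9caf5028123f0f96a2f170fa6a0ff2f465a536ddbbb6bce6046f230c60caa26e45826d719c1b2386840212a173898e5d359c979914c7180fc90655ba0227fed7d4fd92a4f73d06711a65695ea4209db327b61f93ae7cc6f86806fce883791dae7ddb97389440bdc6c1d40283d76308a93798f9f7ab0b0a6f59da03d6922f70fbfd1d3add2d474adcd75cfad2ab091eb574dfd5b1c57cbc9e45a0f32794743f99e5d3882377388323078ec51aff9d7a6430413f7a1ce656972549faa1ce31e8fcc4a31d382415c0f9e43c475251b5395547f0c213eb486b8f6e724cf4d6cdb2eac76652015ceb7674298557010e2a323e6d9a530fa5803f637f4adc8943c4f2a271bef8d46edbb4a87d7975673cc7d8989165467e0e8ba1e846218e845074174dd32c6a5833af9003281fdfeb083d3fc70e267cfccb93e8cf32ecbed98ed0d862404cc36a21201fbb4859b1fa2220b4a191aa43efa4d15b9289df4fe93b8bfc4eeeda4a0bd14a969be662b46cce311224fc54ced4e84fb8be372b3ea086e0e9fd3af70fa732cba03f11a4e3f4de6fa23aa7591ff0938ad1842a2cd1bc3520a181e69965c8baf80f663323b56fce0529397229e3d93548b9b3c6257e20f3dcbceb812c25a8c7723ca2f2d)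
def U_g : ℕ := (nat_lit 0x176c77748c4e313ec92692633f571c1e6a75d325bc9387693be412b4e7850f2b4268f3d132e0a48f777fc157998962876f8a98a5373d0a1c6537e6cc4f81ab472f66c42026dde863934046c3c270eb1b671e8a14330030078280bbec02a87edf590adae9b56947a11fd4ba95712cca5aa26a094ac4e8c4f047ed2d0033a4ff5dd2a43490172eff77e506fcce642dde5e5444efd8ece8cedce55fc1eca882ecfaf697533bcb1be9915ab49e48d70865181d6384113eca06fa8b449cad0499303bac057df40371f57f8c51d5e90f831920b105de9be9d10d28fa66d52c8f6c622d7e0e32ecabacacae017864509ff408d4b1798697e36a1282965df1a69b82982f8bbc397ad063ee2ce4a4c509d3320fabc2f9be2328f0fa39849f4447f419e0c2bf2fb8e67ed5498919e2437e9e0298ecd9ffa983569c382a2e8e6b1a0ded9f508bdb2c6d5f62393e758266f180867eb905fcddd9b246dbc774b200510f4169934fb4d9c0ecbcc52f15e8bc1584e1b1b130158da5be5a9caff17da5a7e40265e989cf60ab81dfece0b0e99506d36c8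84b80cc13527a9a3ec2de314598a0e5f447fc381871ad8f5f73915ac2fdb6a1a8465b699e51e54c87272bd531e39f5be3ca0ae159835ab78919a9f5df1dad39275a679aed5725a5ca9a000ddc1ab36aa611a57c333a50ed9203b6fd77bb51f3244b0cf743ceb32f4b1461cec7893de22dc83fe9be8d7171991550f14670847d45a5b50b4971a9be476cfac473255f0d30ea8772aab44faaab45959e52b5554520f2fc299e44649323022ed161679d03c3268f179794da6c4d8fb0d56751543881ac54e5cdc24ed73efcdc0df58c5b5a4ca3eb6a9573f0d17e93aeaba8cfd848ad3ea81aee19018dbb2c23f990fb680395c2683194bdaa1c90a0cf433322869abebe2c25a1e476570aed696ab2296284ffaf7fe68df709e62c593f94172f07f6f578325c86cea19cceb509ac49e6990c08626255151195d0fe8a4ae0ec6cfc954b2ef6fb768e5d3e602e2c93312165d39dfd0e4cb232a6a7a3d28f282302f10e652c5757c79db3b03c0753ab3124f44f3c91a71d9216e38cf86f70507ffd4c5ca16343367174be4d5871daf2f119b525b0fc82bdf7e5ec2f8fc3ced62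218c2b9538e510e47ab2311c43e35047465576b3049cd2a17f1625e15e086df8344be76d4f2f868ca9dacf0416acf4418e4d7a024fec25a0e7029ca8dfc6dcf70c84c516f876c5f3ee5ffef1830d0c24c945fbdc87883065e58d1b601eb0cb3db82e04dc8e99eee19d30c1d5913a695ab2120030402b120a1423586f5d7fe2ca338dddbc8e0ca4b2d06e7e63b6bbdbff0a7cf43c4ef5ac2c205da3a8c6807332c2b661911d846e94c418e314529c63df3177b0ec2c48cce37d6143541f65d7202edcc20b8278602821348d35dd740bce9166e3d31d54b53a60f01d210bcfb2a5fd6a447dc1d392e6a9af7b63206b0b3f6b9db8d75f49aaf971e0eab2d28dbeeb1308f565a61349d0e77c956c6ff899eaf30e0e136037de1be6a3b2605be72bf48fc98be121083b2d7d65c9cad78e52dc475670045574832bf7edf16378c4f5fbf553c0728eefbbfbc76890fa1699efc49f51683e7f9697b8966f738d72864e682135607aeedc1fda411d430ba8bb025e954940278b8d5517b0533ada77987be14584820d52ff48285ec08820af165cb51dc4c6ffe60155cbb4a72365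d1175800953152e43b4f53b66fb22379c0f4345baf9d523114c8e6e1aa8208f6e4014f43c3ef7fb533904101ce3120a93c3dfbc881b07a29709e6cde7205f4f65fa78f680969c8c7b17e55a33afaf3e779e30b24cffbe0dd2578c4fdc2a32702740854589744be11db7e9053afe381244b52bf054c977969558a5c0992cdee1639d2ebdbdf4a45ec9207f5f04d1d015e1526b446e4782e1268d3bddb0f0eb2b1f988fb6c69caab5825903191e6c1f6c06b6834bfc69221651f2932e240b6170aeeee98ce108c73bda156ca41894e14472cb2e802278362432241129c1fadad0e16b13a67ee12bb5222d42cec730085c20d1acbc348e66d144f9c89f4b0dd57d1e9a33a15bb10a256d64d5c29f1efd4536f57c590311c6fc6e80fd0f44cb884312bf037174ceec14cc757033639a213ba1793d67c865cd1b129e9531c47c0d5bc7809c8881535fc189cc8429e2b3d7f423d20d209f9527d302f92528854282e4994e2ef7f796eb892aa1c10aec57f47b8e881b6e529b644b2112fbd496a2b7b2c7bfd0d9b0e9306fa35b87ab56f5c738919f71bc1df773cb6626bb439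2012d79359586cbbe53b96b5cabda78868a20f22fca06d7e8459e48674efa3c9dfe0478122b0d3444c1ef55f8eea9187e99bd2512a637c97b7dc523f022bfa81f279d5afa96ad447ea33a889e2a5c471915c6c60fdc25f10c5773eb16146ed029ca97ded27f4598e2bf4b73752b91928d0fc319057cbbbfdee2b3b8fe714da3e9824be52ac2ce3edbe5d22d87bc22fc5bb3dac40d7a4a537d3249233eef069c3c430cfe5ece4a4ace52c76ba2f2f91c2f695fa892b8327bb8a1646989d96e3d3161a3651cd90b16ae568988b4e29d838411fe121fd586adda93dda049cdc6f09d3c20d6940c3ae1883b9ea2bb608983cde84d83f0f02581c87da08f5387bf3c0a5e0a5086f4846e6d728e470e8c9df406ee4c318173b789f7fbef7436ba75c1660a7e92dd786017d206966f2fead764a903865d901e5fff9b5933791eff3d8b4ea8947895764366965f6a54dc738fb0ca495d7d76935518eb32ea4420f3e31d6703791929c3706e6111209239aab3f0d7f7e625055146f45a63aff5280489bdc5b1d5b5c79bd9c2648e03faf25d97a10bbbda49c5b9c82ae1f917f88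d921ede765723191d05bb15f3f5590f26139df4cee98052d7760de23062ddf05628b6a7dee8bc55d9f3862ffef8a948d3694a9df137504c4dd78052cde15362a24c8b3701ad442925461bc61817421a2bbe864f6bc3d876f2a7599b20bd42892b128bf52d86e49ad115bf4ecf22ca0d5eac1f1f706ccb2a026c070be63ac517d0715075e119e6cf069abf375e2f10566fe1bab72515b0b67bf01425fb8b251457f224d15a62354b4ab219115e5eb993af613b723b5850a27a8fdb85a615822281ae4579360e99ac1c49d8c247da8838f1659da65947d5ded64d28d2a3cfe142530471fbeaa7a931ca68c789956d475ed05b2514e2d028cad61519868e162eaca68ce7cbde9c0efe7befde020b35aff2d5130aadab0a304d18cf517f3a6cf5d4136da68edb89bd623dddbdc701a9af2cd0b41863cb556f0aa7f967f414901f8f65a6e1796bc9e3bd58008d383876990501fc5392980c92775b2df0e0fc926cfcf624a33c7fc26ff36adfa61fcc5060d8822510851328d8bcfb78effa65f06e7df672b6e03c0861379b225f68dfde417b3e9a4b6c10123f21bc27a491e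e4af29af7dbdd33608d2167e75a735cfafed60b9c7cdabfbdb9f9666a2ecebc9cc02133ed673ea401142ba45e1cb29b52e3d1529f90039398e2c8e33060ae3494ab44dce91cba0703c033acfaf0483e74fc1f600060a40b4bc012aaa3adc40a2d7309df00790f389f5005dbdd63690e95c22fe44d5d39e25eb6b2693068db3d318b2eb86414d477a4bdfc58ce3188f6fb5c6cfc823039d9ddf75eac25274bfdb5a01de9e75faa5a65e4e07adda8c7f1d1feb72e7a42ed0623d957f547c4e8b3ac1bef55126b20017243bb676c8f739077247423c60752276d44807d601561c1efb987eee8bd544f2e8e6a00dc08f1559c60f4cbe878c4b18e1b13dc2323cab9f2be9685739c53f489c9d81aea3187cdfa92eefb88e7521c7a21a3c904acc4633c2032b8857181395f9f92bdd3a22ee241ced8c34e2968e82a4e78ae469724f5f67f3d7efdb226909fcca00108d5fb7c828a042c60c4d726af626162081cddd03c157afd46394dfcd905ef55dc8e59689d9fa156f8f32b46573ed72d2df6925bc5057fba1f1097b344ce940af65264879fd790fec26d3904e9a2f0509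7bcacba609391eb8fb50591288e7dde8dacb022269dad7c4578fc0e919c273306404a6824c4cb4fe3cb205e328efc862874ceb2754ac46f70ef94f820a897296d6750b86593ffd164ad2388464308bcfc667e707f949be1a485f49860e262e7e2d8dcaab591492466110470caf8477e929006204428c554eaa8b1798c97ff9f2313f0f2fe7ffec71a7451ce889aaaa6474c5d6f11574603401bdfb322680d5e13b50ddb01c2ff31ec180def2b0d46023846cde9a72b564eaae1a56a94b9ebab14b39079d9bd12aead013145c1cef253227a19da59d832198c250c60e2baa06844aa1241dbbe4ee7c520ce955f79c74f48ba66d2f72d7c3c6e53f5bbaff8c484121f6033f6d13675e248b5674d321f5c40436087ce22f99812908000fa13bf9d3f0db1ffa2598cdaea9a75f391dcfdf5e905760f1fb86fa3957cb1041ef51912a9932f9980bcdd159d0bc018169f181bcbdb2b381aef128eedc294031a5bf4c94f2bd7236c47f05e42d121855b850a3d685e4f7bfb353b6c2c4609a7ef1deeb496621bb5d3072ec15f64b8ea4758fcb51f36a6fc92e11a73d1cc4454237673854860378480643143d1d3799c2db92f514fddbc15bd5e7ecd3cf3ae7188bfe9ec6723083fc543a7bd0a0ba9e7cdb616d536dfe7d2003e8a46601ae2ae1b095f43f3253566d0fb0ad5bf42d03f6efcbab7aae1c1e9fac2c2c2317b5ca391d9ff16c67578acb28a45488ae0faefcf7b9b59158c1e049983b251f1e1bf053bf81e000e106a49542)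
def V_a : ℕ := (nat_lit 0x44cd4b3d5ac42d87c0b5b487473e6ce2625b7b7fd165324ce5e7180a8b343ae7ce4eac9c2bd9a92a5cac63359d8add23d5e253df320325afdaa95df0186c4293968f0cb10950d08ba5aa1f43a0a726177019bd8c390af8458b02f1a3e08a77b3ef1117bd75cbcc2f9fa005c74baa502f68db92401cd6cad4c5314936aa789dc087573370c21d3afaaa986f9e3b123561a6ed1053df8ec7877cfa0cf3d02f37b5a054003662c3c6e6a232a51205545070e9adbbc77aa49512ce14d57cb21a28d928686fd6de74399696ca016b811cb99cb41c7484de82cd12a4b5217a3edf2ee7c78c7ed4ff1bf933cf82f5b262b4bb4dceaecfbbf8e56612abb11dbadac6bf3b21895d98687a2fc0ffb5fa9166cf0f3a11941b431f3b8375de54fadf68f377ce3614e8dcdd60cc1fe229dc3f2ed3b8ad8aeaab5734d2e0b586821bf78d720df110715626e1f48d30ae866fffaefe3b88e7ea7ef5a3158fd19e5587eda73c52e68d6be78cf4dabdf218d63ae5b7174b21dbb6e539c41395d9841fc345e22645948ee11809426621b9bbf06a5ac24ae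9dd59d388121ab5a8e8f6a2ba621b301c241347a42f2dbf51725c8aa712a984cb33533debc740150deea0055cd64be36757b0965c8b8cc952df68b363dd004da98877b7ffa7dac1442394848efcea9cb0a86970c4ca3c5c1ef00f14dfdd3b49695804909e6809aa55d4c9a66015508c8f18127f63517a5c38b5c3dcdd11b18509840eb76696ac7c9c46b84daed0e852dc36905113d6157cb90121043f46cdf732f8d31caafc685319e933f7b4ab8a70cbf4f30e02700da39eb1aa59aae2b0cfb344da3cdace43a9919fdcab6be7f593cd28352b6fbac8dd74a20a6b9433036fcf895fb338d53ec8bec6f5387489e31cb0152ed3ad8e79695333d68c20ce3705a7f87cde048c56fbf2e4630d6777b9b04f8c426570b31b15ffac7136d8ac8d7d1f4604f19ffabcf416d96106c141a4f5c05329dd251f2a14f70c21ebefc11408d91ff36dae0b66a4a9e9aeb3bc21fb56328b1f1eb48749fbeae7b1bd433eca160130dd6cdad62fb4b3036565556f2334157985f1e965c89ca827a623275b5cb2d76a677b1e83a965f64f43262cd94d35d2cac27fbe7186bd9fac4be4d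5b71dddc30c541e2d230f49045888b018f7e4277c7177c8b8478fe350734e4832fa693e3b4b607187cd9e786df782dc388caedced7aa9848c367f09d55cee3cc1be50539b708ad686e6919924ada663daae6b97b81cd8b5859b180770ec89831f30028a4e2f08b4bd8a709539e5df1f03f7955f421b73497ca08f41764d713c60736c8ec46cfaef456d2bd3e5ddff068061b4b8f311c97acb6e1ed3c143fb30a5204e72a56566e1f7e627aaa14b6964bd9fa51605103e746bd394b2496a8fdc41dece40c08b1bf833f6aba6cfecdbb807562204b5f6f7de2f5c89ff7a850feca0c8d4de878b18811c25c3906ed5fb12c20b8d6692426cfd11325c3b1594a493ce5cdf394d2dd75f41af790ee57fbf37e579fae7fbcdf60c4570b9533c959e62d6f31c2b4816fe9631451a015ec987722f171a21cc4ff22b429af3cea465ab30f807e668e04fbcbe342cfe052022d2df6b4b50695fb390d04855f1f37ec081f9797410d32d729cb8e6a115b938d24ae51d6ef1b0c7b1b8463bfe7d20455c2a130b933db48fc5a2937da5944c4cbb58ed0b7b5b17293bc3b4c10f3f8cb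ff6856945c9bfdc7cc2a66f48050a6f8301b42a47809209d05522b3cb8c9058d6dfa0cfece4e6216a31a1260ad64c9ff84975a6e50320f42b222750eaf9df7660551134baff4df97d58bf519e749e216a1bb5eccd852713a5c13f3cc5293279b731b1387e7c2e9fe67b2300ccc4ed64c7edd943007be1a96c10657f38272aa9f14703232119b9cfd3ed05b4d82c08a0d5f48dd76be10d68fa6b980dc05268f600955cb140a8214dcc94d967ab4f1c238fe2e9bf550fe25557f85ee5c9bf423221779d1d7c56750ba3240d3b26445ef0ff1e5529974296fc004126c03fd8120998a981ce9ea5a7d24cac7995050d95a9e9d103b301d424601cb15454eb8944236af379c9a65ee96fac5f78c607f846381d0684babe8af6f351130e3f167337fc783eef6cebd2e946b75d5c7eaef4d608e159ffe0f81d1e535ae150b93cdf7b9be38cef4d6bf05635c443d0e1b1eca48058d9528aa9f211c3e63ca9fa6db7ec0b2057917d74f23eeedf3a921a4d12ee4ae09bfb74b552a61e4bd7f63f4cc0b3933de1e263009ff934a3ccd117e92096060846e13228a3b380dbfe069ea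070df7e32837d54c794d93a89083d483be6821aa1f7c86f4db1ec1fa14ac91f56e74da47d88162fb1dc6d017cb473f0aeed8f0696ebb1ca71d190d36dedefefac175236418e5a5b720b87b66b83849bda5700665cf55c17ae83ac6b40b38f1bd13db9fa4c50cfc3d3ec88e3291f7f5c034fbaf1a9ae83a8d4f86f4e024bac03c4f7d3d66d17d892e2c04d754c7ffc4642b00dda7b616521eb1b7428435c291379578507ed06f2386b9762880712e27158547ef3ee317d6f5142e4f29219148b6712609498a9b766ae8fd07f4b0c050944e537a91930d839f1a4f2ba11947f24832ac163b2ad33386467f81f8e87cb56bdacbec1c640e76494540d5a7783d07e35469f424b64173e2c4630233d40cbf8219771d862ad773b62be95fdacbbb8086780de388ecacff3896e1204c0a1039b3d2be5b096ba721c1fb1153f89f8b39da4723e330bb078e6d1498d01480efdbf7d1d44b83c40826d72c4ee3d85ff159aba0e9e95d159398795dacfa05b0efdcfed5adb78987a16a2a4891f34f04a446810ffc5ab05984bab57ee3a8e73257ef03a9ad6d7e2643f6fa04d23be4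777c20cdf0e58a42a99b45bc0e7547f91d9049eae7fce490e568fb5223b7945ee5d2f2643da2bb020278a328edf1d18344a0e1bbbe0fa1c12045c270faed2c9c94d27168dcf1c313516bcd041a850baa9bf1da80281a3d080afa45b2c0e5a722edcca88e86b2a69b9428a36dc6cd9369631214b1d6e8c11732233dafb850c62a38039365f447f0b052f94a6559a7d8f6af92e47a52a1b5d7d4c9fa34c8c193ce63a9f42ab34841a51e2a8b6cb7d38416e59de51a632e4cbadabadc5b1422d5174bb4813172bbf8a2e8b5f42c1e8282362d9522500959fd1799f863f793a31a3b6427e9dc3a06611d5998419caa292cc80d943b40329b62f78899419d4099b08bc3c7dc9dcc46a5fe5fb28b9896af62f2538c3d17db9724354a737ffae3a3a32cd9d3c2754adec69ed27e06d3ef772180e9e9ce78497212e1e9dc481a6341de620233a30c77ce1e96381716896195e9bbc68887e94cda725592e06587e9862ab862ad005d28d9427162009adfce5e217b5082c836a8da7f8fcdb1c39f4c41083632b01988d775a5e407a2cbc75197ea5a23b47030a8025c9462fe02d1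2a2eee67a1051e8243392317537bdc65435b0e74a10a434f3b6da97fe1d218edb61dfd55cbe98f026bdf4cc4acb7552aea05dc3d5b9bb2a7a4111631092d36da7867fe460c0e1b12ba4d3c7318a46b5a45b53d92f2bcc0f8902ab45e68fca41a672339c2cecd0da2942e0dcc7124c5eac820c72084fa195fa241b4c1758867222608c9b20c8ea0ba460ed015c085404f8790784fd9258716580769f06f9876b57cd6704769dda82aad492860cd890507bb898e44ad0acace2142cf0a289048be4361f9a51e17ee03ab65d11f02568c32e21ea28bb41018c5beeffcaaafdfb7d27edb75d3954a8cfc92a69453b74889c085dc5897bac5dee6d5a3d7b0cfe26e09458a390ccd4883ef87bb31da29ca6490df5cf5ecf0813060664166ee0c59136fbdee7eef18333b9f14b43552b74c5d85a089b045eae937d7587b6e938501c1f8893d880f63fc26431fc6dc6db5e8e93e34cf3cc7e3f1d5f9b0a9406f70f7695e71eec0c0a4fe23061e4b72e4d4bc8c014fdf62ad88b4e36953782f3ce2a72b786a6b4e61197f1bd72a5f889c132cbebb402941f4d30adfdd7b5050d8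f95cd58fbbe9811546324e5ca53afeeaebeed44ff4823573e6095a9cb78d0b5aad10bdd44eea179dcedba9caa996a2c4f2e7b3103315125b43f57631bf063965e956f75dd38450f795721dfae8570b91a133d1333025cde698b8f3ada9efe68fb8d36119cb5e5d5b5c24a7ba5398f11eeb31367ae8dca9162b0b44fe3d9579703475248226d95b03e1914dc39618eb3fe2690477ec4a60b0670818221cc6abc544caccdcec243054cc9f427730a8a2421a2a2ccac91192047a97faa3b3680853a0356c634a28f347935e1e2e71fc83c92e2f8f965de42e7195f9c4505b2277a4e13a9d4ffb00e1c93ee0e262dd5afb92a0ebc52ad00d47d6e609d164dd7a87a049ee94fedf84852d5383ec2542787e1efca1d457a2046e59a2268fd7453b178ff71830ff2e77eab236ad8739b477d6b7a41c44992baa9be0129eea3d8d97d748301ec88b1487bf32ad1631d91d93bb5b532f96eaa3686959b313702076958217f2d75cada006e13d6dc8c2caae01f2f012cd864dccde468a4f728835806626c016e8015c7daf588678dbea9a9c2fcb588c9090882c9dbdb4034dd7a52f6191007bd54a34ce8978a11ae5ac2ea22f8476e8e1ca3e07ca4df2d7f033a2afefed40953e464f50e2a40bb94a10a444df1259f767c27ecf19c10cc2d33e9def168c37f8e0fd06a855b5c7241de5e8f91ffacbb137f89bb4c3d4e3e3d87bb6965b3879863eb9af74b7588c63fba05403950aa4953059177a97bb69bba6cec3c397103b30bbc633dd)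
def V_b : ℕ := (nat_lit 0xdfbd6f22e45e2137ce226d4a47ecc94480361c75007360c81c79528774e429c9a2a85261b249ed208ba144e71e16c55efc1e7f7d6e76ff8b768a5fd05dab068c19ec33e818f4e9f7cc8f3897e7f1b0ffa5aef4f866a0315ebfa69f36d8d92a7c05a59c7f63922f1db4a7a0d16510eb2d004f907f6dbaba1b9ad49404f37f8be16d865d62eae917074216f22f5504a49886579688d90c89e2f78cb79f72d284991c20e0ddb4996800ebdd9aa32394f0320a0c7dc25e6fd2e365e9e8845a3017b05b525db4830411b13cc4548aceb832bfba0150bb6f2d915d9bb7667182a4d56f03ac11382b5099748f97f0aa83522c503a7e74bad942fca16f8cbaa5de3fd8f03d7e39347c6516c612fff018505c93ecda34dcd63770acfe86488a8468d10f4d75215323f77d3acf0afe872f6414bf75bf72d59adddd2b81afbfe2877c7cb65c7351794fb36343cd043dfe11d362dc8dc3f83ac256e9fb67035069b038c65abcb2f108a49d3584f9f2d99dd39288c3ad26d5676f0def98e3372f307834198716b81e3d6b684e73ac20a221f425643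d623f0cdf834edfa0bf47971d4cd33858c80a27772b17e905182bc5a4687e91c9905d2bf1c1a8e92bde9ba4a81e13127837fb29475ad01cddaff4011929715e6178a3366b971aceb5bee8ea9e862cd1d31e60a3bd1cf675a56559ac6c29aa87e3b474c17e45f44cea4ff2d6329759696849d996fb509e662a07939dd58e031e212d2189a518918b7d83a7d26823713cadb56692018acd61a12cbc6093d53231c9de36244b40be7eb6a6ff78301bd887a9a49148b0935aad1d6b68e575be67bd25cdfef78396d8bd21a848e7648456e1c09a7344b9ee1bab28e7216712d0f9f06be98b16a46b947d989bf05d8b1dfae16373f68f1e27e06e5c36a18e0e3aaadc2270cf86f68f1313c95d9d13119cf5c0cbf659ff1829957947536d646616caa2ca0af5c0f2ef422d5cf21422d7f875b69a0082073d89ce2d6f2b04c70bd1d7279c9602606db7b8d7b9022a29b8689049fd68f5df208876fabe63cfcc127a629c1a95f8fe6330ec3708efa1b85fb4f150d189181b5b61806e280e4edbc6d0a3bd77cef829a8b29193fe7186aa35ca772d970cf22476cd8ab000f23e2a2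9c0c7b69cbcf1293d6d6a17a43a07914b406d1766b8cd65299e30f4c95bbcdaed757fcc8537598185091827943953c16c39b68368ff94187a4ac3068806e0827f5eaee1c631a3b0732b6d209c4389df8b27d67aec3a371aaf624a041b7bf0a1f5eab3f907597b1473d929c113e0648c33d5fe5644627aa5682371c52ce5e673d107565695ec67d08ba2833ecde0d07900680d3a9c78ff67f16e7ab1c09c2b0aa936bc7a5f8eeed6a904a21ecca5ae102d6aef4cd58b0c20a429236a93468cddfaa8d93d7fc540b5062790541c69420e83f4d1eb0471e80de91b29ae04203e1e1cf40d416100e7736965f6bb52aaefd6f23272bb33c9437b31f57cf006d219d302866d8307a6db1fb1c839390eaf330533b64ae606f16a3280ce9d70f56e6a21962e5303f1308d37723ccb27f7e3c41c86a79bf17a78cadb2b6ec957494e5e1d362a9db4de74ea4ef4ab9648adbf2cef219f482d0d93ea9262e498c2b55878edab7325d1887d0ff82597a3bdc60a5247261ffdd59402f765876af1b6d4916259dbbba4172a3fe8b6e3cb1a439ef0b92a6876d88629a975af9ffacc513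551b67661a0f543d9eeb266ce9a489a29a40e6a2a6e51b3202f2d531abc7ce039af70ad31e501ff08695c739a6345cceccce47adcddb0f1e70ef3027f741118cab71dc1704bbb7b877a03d1957ee987540d63abdaf159f05a4e2ec83cb11d38b4bb17378b818694012d7f1ad70635c592aaa4b48f254014a6cd7c38239a0e220ddddfecdcb96ba7b42d1cc1e3ed22c0a061a29a22052a3286f0681d794f321e9893ba9db2267012624d681644287b6347b2c4829b00ea7afd53dd5ec7035375b419f1d3b21cee0fc07bf02130a6a67e9dc5e8f43f8825244c531e65950f051acb6f6a7fa1dc09a17f20d0c209521a443091969d6ff06471156f3e29cfb1358d3136fabd301a95f51c231781a271f8cac79afcac636bcaea2c5bffd5fdfb9b7fc2fa38bb1809f7b222b83cefdb2578d1ddfcef7844d357023567ecabf76c7fff2bf2dfd50c8a0d2813061d4e3f5cf765427e4aeb18636b041a520d0639dd3fbd4ef08faa54c275a3ffd2490278026140f3b7814c262268fdd8a208c10a9682a288e021bb40a48114d64d37b27211a4ecbf15e8ceda3156da2d63ec128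1bedb7af600efcf2bfedab3a1e9a856e21bec3429294bed4a6baa59c6e1399c3e1ee1ec77786600d979316707a8e975034d9258f5c95201c7e5575e22e80b840f30510593bf7000dee3cd2deb06a644d3ddc4493ff61de8d1d44bc8dddd5f264fc855bd59c5c11d0aaf0fa045c9c35abb65daa3cd6f86cc6142da6c385f7e87b48e5cc882295dd45996acd347b37d6eb069663ed276421bdcf7886b7adb84a032af817ea166298119c0780caff9f3423ca0b59b4a6a84c84bf04e3f8c02a75d746ffbe557cb952fc194908059ab0c2635313bb27195c3fcb560644eedcf4796aa2419650f2425e88ee0366df9c30d4f7dd79c3dd9832e6205774d7e5f269f148db120baa5e72924d3e6627707d2022785387fe01dc74d4486a290475ac4037f5ae6160dc15a5cfe95847da4335dcc7b65a38fa9a55b0f040d85198559b08a496286f6a6c13e53c45172be5e2d9fd782ae7fbf4ffb9b1f81654dce95ff9d9bf0d382c0fecbf64b655632765e5e222f884605743c452367caa15597eff3635979a160b57254bc4da0796df7a368bb71b58756404667bce69135ca45e58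329442c77e1a520a19fd7bf29a7e1d3e3b7b00a470a7ab457808b4859ffb4fff0cddf0850361e925e2a560bdfb150be799b664aeb25dc3295962818fa1f0c536fa556ddb9f1288b636f6a6cea9189af29178eb824e2c062ad9aa57cafe4a6958f6c330172463e0971e3ad9516cebedc4368f1ffd4d4116cc3022eec25fbf2324b5959abfe93c6c5ca41c5f60d3f5cf689cd43e60d7bc3985a3c7c30a0858dcfb4ef0d7370d945873e8bc1d2f68f8dfc1a9601398cf2b2232c5776cf27ca41b9afa8e1ca89e69198667d5ff51d8529b725406c9393dee7591bc4472664d73c5129ca376b7e4b4453d40889d59b9f3028b563a4fe4e801e045ebbb30ff426629fd0a0e9fe93592c3edc1a691d09f27d28ef19428ffdd3a13ac39de59884c58f903412fb6f0d082d72249597d86bd50e1287ed801745f3eddafc2a18e72f0a6bfef2f34eab633f533444edd3babe27204d02067dfd2487c4850d83fd7fb6e28690e329049c3c2ab32338e56a406e460aaa886cca9f5a0cb211f7a238484b5f1a12d09ead8f3adb0e995c8e6a61d28483c2b2315801c7a40edcdc5e83fa0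11637a26630d66715a5578d671b32401403633a64dda16cbc333ac5fb923515c9bb4f2f27f2baaa2f1399753e60a68a0fe7bc79b4adb39c3126bc1d85af2cebbbcc3903f6c60e040925753372cff829220811dba3be70309e8409a5ff57ab39cb304d6aa0eb07b2774b660da83696c769d716f1247458e6ca4b26ae6e554191d6b305a5777e2dd22402f00db03fd2e2ea5465ef1c05296a61383df2c6db9faa581ae8903f81a02857fab1b9f724859576ef37b5ee629a8db50893968797874a6dd7ccce49eb2254a7e8203c2deafde3c0b0783b79094ec6a0fc11c1e6d41c09d897df5f06c20e1e8c569af23e5c412ac0c9a7c6eecda766698b5f0a2d5d76d18b771e916dfe813be5a3456a3c74478ac2f5bdbad5246c578ad9ceb0b971fb59a44566bc914a240c269bef5aedc85bac0ba038c73846e2ffc356b9c5d7127d0561e04464dd96cfe7fa53fb345c208271928de01c21d32966f1ed9a0faa72d2b5128c8fe2264f1d536fe4b0778cbfd48855617dd389888917c037f256b446f485d2a7a5e847778a2afc3f704b2618c5172a4d44db989b20586fb1761e2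43b073a818470d02ef9062cb7374161917270eef5bcc8aee3cf69a9110336a7cf6432baf73bcb97e7f07f2239b14e7aef213d1824b946b2da7dbb44d06f0291e87fcc494c79fdcf1edf72d029d688ef98a0c25efff4e77594d8225410ec8cf0c9f75604ce45d32c6db1d4542b8adfc0cd26e7a207548f768a1c58f448a4dd92208a369b147b95fa809eeb8e11c3e2d94a0e34a2d9e25477d11daa7e23ed97010aa3d0b60de88460f615c4ef052a942added3abffbb5fc7c063d2cb468621d4bd84e70bacc97bfd6418d9ce923e8f395bb5b94f19b4e1750089b69e4983787ad4493b251f859a21e0bc3cc97e7c4577e31df76d44ca786f16bbb0c53b4c4d2efe2db310841c70349459577a16045cd16ddda9304ff511d3e8d1bfc0cdfeb8a6f4c869ff7fdb00c3f7068216199227ba2f5b1ef2d6d9936fe7d233c4c94fa3ab40ca1263ec9cc85ccf65fac88a7c2f0f9fe9f778ad7e374b9f6549fd6999dd52fc01be93ff37db91009131ad537a2db04c1944f065d7d7a56157ab595215b3908046998aa1ec2c4648a00c9155b9c6cba55d52783963ec67ddce2db70b2e704ae8a3d2fb88794afa0ef1b5d236cb9f52343a5369b6e9cf6a4393e7e1a1b1d0f4dbfa694dd8e356f8b466b214ca7e7d47f2612129f6093101e800cd15f61680a66a79f51ae65b65e9fc9d7eca3342b8adfc8505326a54563c057389b3e6035a3219f9e89107f47359748f25b70f6520eb41ee8a4ddf07f7a808f8bab2059799f34b506ac883d0)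
def V_c : ℕ := (nat_lit 0x1447fdf74ffc0d8f7b6c8c7476cf6efd87bd6679382403792c8f0939feb96707527b40ddd21dc2383627dea0d284e1b59f3db9b7af997dad87f647fc7d558db34e85cbb692aba544fef1f3cc54dac4596db42e3c46792f31c4397b6220c81de2e6bb5ac1be1fe145b7cbdb12a002c0564ed2eb1181eb7dd112041d3372ad6a5ff9a93b46f6241f70a5bfdf50925f2d62d692be969e52185e4b370d2cbff8b5cdaf934652b2814acf4707741f43300b8336d2f88073ccbe7d467667e8c06e952ac31de3e0f45c01aa804757807734bce6000a609c73e19312996ab756c228f31bf282bb6ee6eb6d4a6d3dc2c9655a7cac98059a0aa5511f97954ed79d5167f6196785586ac94f2e26476624535f35cccc84e3275a57c9cf8f21a7ab440c5103ea18e8af42c52b6318ff361a7df5325c1c801b50bd9765b0a2efc17d7bf92570a3e07a1fefa660072a521b04f75bbb5f18f75b376f19d8b5eac18741233e756ec74a0b51bb82690f6081f333f7a1b374b9081c7507c4a57da419e4f3a03db4d9d4999f4c2142c2811ddc88a1b153482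505a0d4d312e0a690ba67c08dcfec43c8779fb93234a5079386857b8a216912f3c506a69d23f20eafa55270015c194ee83b70d89b9e3d57959f7e89ffd5071420b8a098afd7cd88a8c767cc9fcb2d37f7ffd95fdaff1279bbd43f50c2361ccffcb87dda1ab612d3cbdc17fb632d07439f645889ecfea747df5edce74406b4dffa135506d7276c9735d37c3fdea04dddad3477a16c79bcc10ad4b6a97834912972b32c925a95039c82c052e8da717bfb147d97d8e77cd2c8619edfb5b6f459c89c3df0a8b41e08a1edd2bb930a3a973cd4590ed8d5199ececca70a370754cd307ed49e5a86c3297dd5d7b2d2a4253af91cc7ee4cf018ea3dd9fa025dfefaa0211c30d9db39fad3532cf0a25546435040f68318c5034504a744a33b81bb28848ad3ba3eb23c21c1c0a47a09088827e1c3643e80827c15778972e012268cc817fcf1bc0ea8fcaa5224e2505886b4f316895a9f5a5c6576d0a81b2811883edc1ffd81d1d2f6381bd78443b1c5e5d21d35945d6e67b0ffc8cebb9ff6b5db8a3a8412f3f198e8dc25a6420d4e05b6313301883ce7724f1058533022cd5807b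3bdb8b7c5e354fad283db91fa2ef0ee0138cdaefcbdf3b6f543b4f2f9ec20b0a4fe8bc8774455df32826ac33bd5620d46699d8a6e6297f2d9449bb63485159c843d3a01dbcfc9fee6db3a8b0210cc75286f1d6e61b11543d8beadd8836d8e20d2e18b1a7e25d7a92d418cff657c12c1c90fa83487db38901d0e35eb9155ed95e8c357c444cd07a85771311b1739fac39763a6c77f554b473ee4d28ed67c70a78966a36d4af3d887cb61dad18f4b22c0773bbb190faa98970621e8c74eef6f5fa1823bbf4feeddb4dcca6b4ee436f71e7d62a21a16b4cc0c37c6bd3544dc98d461b8105b855b0ee321d2b73360eba1aa46487e1bac6759c789168fd5142ff8ee81940671d20f55099695521d2cd842d50b435e547a64364ce5e2f5278b35dd273da07f93535ba1438b2708cb87648b0146bf64457a9b54b61429257b118b61e99d00a3c6d3614c44e1464fd0b8b943988c0e4a2ff3aae4e787b808d612b41a8b5d138dc95a4d31bc9d40ddb2bb70a20d7bf151f765cad562aa488df5527fc5fab2c532f1bde5bf92f6b9fc7c636259ad83ddfbc81d0a61cb1ccfc6028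8f2312afa067c74ae6d09679bb8561f0e8e187b56cdf5db85be76806769623c6a43403655c8be9dee26dee2c4027a0250acac3017378313d49521d86280a690fdaf3e91d002d8efe870e490abf4dac453b7aa5f931f1b9623d21b13aa1d8d5e7a387454b6af0bdc0f7e13658f5ab0b6db2c7533aef6af902c65592be228f717370d017c87066c3aaec13afb2e1db1c0e1241d8ffceac83e0010c84764555219da296328cf6c54915b15b877fd49d30b8249afdfef8dd4941774070e8f6734a0bf1f8d3e81bb1abc975bdd488284edaab9bb02362c54fc86d7b688f5c76bebc101ac7e0908686b9572e231e918d0206eecf328727bdd6ccc136e81c2252d5011bb885fa732ac41cbfbc177e0abbd93f874c038d866a5b036c2eedda981efaa2be47fb9a8c42436eadfed9f83099b64311b87cbb6ce660bde2c5e866269e9ca14d853adbd2347669be684cb15006650b4bf458caca28fad0dcd66262c853d62d6b2160998a309ee73f0ad6d79722bd064286a09f481f88750e0cb259c0498ff409af3741460b5b48cb684ccfb47ce63a63a6cc64e008189fb8a9bf64eb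b4d7df576a0de4956b7768f87fd516e07ce527318da25f0fe68cab5ed20fca2cc3d1bdfbca9ce2557d79b0ad960ca2d24b2e27d95b293862bf46e9aae9f3b2c45d480c0cd4c2bfa47bb724dca70bfc03e7104b753ea12a159afaed9562347f7b6a3c289f160a08250b2983a719d7652eb157591679d0f734ad119486cb29d82284f9614feced8c1fb93418ac14b4f6e2e64c1771f77123a782e34e2176236d55d6faae920bbaf588b06d9556c77db2749dbb20786032967d11f4efc15e9df8e53bb7221328c2164be66ef4322c6547bfcda1deefa7e87d87f1ead0e729c363c7c36f1e51734548bb627e4ca560792b16ce432d07e9df573c889000fb322a4489820525da32bd459c24a36d6810a70a20e7cf7827ebe93a39e139de332dff608c94304a94ac9c5c62adb92821af09f778e3edf50d1191df821f7a722763e9abaf293e8f62db747f46bf03875d8078e49a8f62df509a03eb3db343dae1c2035bcb82c21911bc710600f585aeda6e46953e585492eb4eb662a0161164c4a0013888da6f4599afe4b8f2715eba9e1f932d38454a03ea91a701ff445cef9c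b36f443d37d4deb2292be91f84e91fa7742cc6109f71043a5eaa08e00173f1337c3fdd660daa61867e06fbe9e4b1215bd427b084602c13599ea5bf6462dbbd4bad28caadaa98137a05edeca6c02e29abfd18c7a67722ab28fb746a4a2e15ad28bc2bc9eb2ba5dce34954671391806d5d4c5b7006a2d47db993be4f7b9f27b0d2a68e5bdefe6fe1e7e421b159b09b04479b915504d8c2d94c2978df2375da781c2cbf97f8d21bf6be995da6f68f47ea00c24eb97d8b4c836257c0cd43188234fec924474272e65fb234e6927da94384147da8a1e25b1a014a0bf12028101ac0d99e72c3bb91bceef25d6835fa9d388e0d5afe97a1c4971b673a252ab087338f2b797d8d05438105a7b21907ce0b5c6e72a91c8e7ade776e408afb63cea1822647afaa0ed971c658d4c1782da2ad63fd81ce1991f8a056dbeb40ed20a0471929d467a4265f60ed6bd9753cb18c7e765b711daa6cddcd52c702af0a8921067985d13bfebdfe2dd4a033a9b1f951280120232fbfe2873a2fe00a376a23bc2f3e2fa5f91fdf6d7dc2f11bcf21b00b257d3a352df0b6ae5ba72bf3f3b6c9b4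97fea0bdef7a4986f4acf2c2345362ccf54b3704e0226731745a938a813ab0f9f60e554758eae5aa5ecc62ef150d22fc239e643985cb128d43d4e9ef0f28b462f6edc9225b202ccb9e7683df7358605d64e12fc735200171eb18029d71eb045fbb06953a87d7a6d31dae42d7003f4f2272019a66cabf1caacbf2ee427aa0a1423700cd09c286e15168eb344455c203168f27633547a1d690a8d316d04c0122200f42ff5332eff330cdcbbfe98ebe8bae5185694ae638752d758a3bd1f6684e30a23d6a3ed2c611be162e2d70400d7f8bd8586613379a3bbc57eb05933f737b03fd241a83236837159f53db17b8d9c8434c28f2c3f0d81f96acab4dc53924e927297bd5917a4509867b393f959a43c98d43be6c8df3e75b85e895665b45b0b563f744969160ed404b46de13e8c13fd1e421c1bf2143d0fd788e64607b874dfbb2d000c394a4e05616b7ef583bbd5b3a219fe6168b5a27b04173aa7e0dbff363a6b33aad373b64d870c0140b1f8c9f1648a49cb2417f7362616f43c4cfdb298c407baea3bffc98b35700e38dcfeab15004c6f17d811c99fd7adabf03cb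fd8d9837a117a5522fa38fb8569984ffeeb8dee35f9f1465e275c8c710f4eda00f73b2f4b2dc369999eb562ec7e1a85700e589081ff5249a6283cb5f35871f5c44bd8a6cec6b196a27115ee6acaaf8648de186878c7167b46af2c197b9314a6183b813cb16d6253bb3b3d18072952bc672d4c3b95c53d1b40f39dd00e3fdc0e3d4232c041914d378236f2afddda356c646b308133afab624ca4351990f619045627916b2d2b0184297c45b6a3fe9820ea4a59351b6d8c5e01bf1713026b0468bd610afe959d1b8896185d6a23446a84432a64ddea97a0fdcb55ce3641eaf3be56a8cc74f36efa7c9a1486403f1986b322095036aeba4db539559c98afaa0354d7c5178992364e2652dffda99c4fd93a2056b528780bbfaaa463bf531a9c960c3e10738def52f3f355f0c33b850176c0b33caecfe1c1ec99f8d8e31d7633d531fbc3cbe08da9763e878a9d09646450565e3b4992506ba1f5ba0f746582613f1004f60b2816b5a24a4c7c9cb3167510cbe47537eaba056aabe597d0e212adb1c765534eb07691a4fae69f38fb9f35f3c139a3de8a9cb0ab6411e56d1f138abd19bf810e337592b5d903e68a65bae250a2681477da06a769945398d2a0722a1ad801d6307c45c770be0c07365396f2e3a142bd2fec3936b05d1f8aeb2c51b137a3028d7d943a16c6593a7b6e5f07737e367ecc54c136b1b16fea66ec89d80c073ec00df10ce6f5c347501e44ddbec696b02e11d6ba6622eb60b5a9205177f946eec82e1841877f)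
def V_d : ℕ := (nat_lit 0x1400caf21462476318bde163ffb08c85a21edc8304ef8d206ef8d6fc6e499d848d313011ea93f626fde77280a02736ccf789d05b8e5ca73bd3b25dbe7430d4dd488b7ef7bb04d49c10305a5510bf3b89179a2282087317cdab8fed04b66461150b6f62fc8f9be714bca475c6531550cc94118ea716dd6465823e3ececd809d24d5751ae283a18c7758a65da222aaa565a71b668e2a016097a38cfbd13d88ca4326645b5c26bf325c1057aa3e0a16aa4d78a54b990a216a0e87bec03e1c65a19806e83c68caf1aae069d5cbc732bdf49397b15dd0ee59b55c737b1cffc9fa19bff796f5b9679e15c38440762d12470c7f0473b57b8e513fe03f0c0f524d049b968d372e54ffc10cb600527ec28d2e64c7c285a7c28e30fafba657c2f5dac0b55ee91e4ce246fc7f808d2561eb464c8246b1df2c64fe6a43114e3be37bdfd3319916f5feb88def1dce07a15ac0c114f7d42acc42bba93bb60e31e315a9500b39bf97522bf1b15a119c4f14858776d652d56d665db946c9dab4690754fc73321cfa7c894c34f6f6e040ee5d17bf6e20e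9939e5560a66d45317c4c0b3e7a337db2a9335dcfb493fb91803e39eef4c35e12c8ba86bf67ae0932c1d190d39bd502f8e2c3a4f4be804d8452d176f211940736de019e884df31fddd169b930c8ca6d4a9583352d1064cff75e926594488dd8a869b86b4e2f2fad1177577e842b8f5613dfa1ab0aa663537ac62ee7bf07909c47b7abfbf2ae70accd6c8dfae9d7ad32306c21d1268a58609b9ebdf975561fedbe4b0daff6f11fc1cffd06bf0970036e445b159f8bd435b64b5d936c9f7a3680c18be832cb2bfa42107c40e39ec63f2b2bfc9a19a98e0c5e0536ae021ff4b3f90f061c727edccfc5c0f7dd3c5b0f04588818c4a61edc8a8277108097f1e99a16286d65431a73f83f3386f3ce4fe261db4e9b761d6ae151055260385c9c8c5e0f4be25d4dafdb37ae307447af2128ae79ec0aa1f78e684f7d81a017a714d870b8efff257404464a0f4c47b02c7a109adf59197cc01044c7f72d9f3efd8d0275234fa63c5b523fd3f21f4d4375231db9469ab83fac4810d497cb4d425a8418861d1069dc9bcb3db116e93c950ffef7c917d9919cd89b46f2e33f0b4393b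2751c10689ba9adea4d72aeb188e9ff4cfb7639cbcb280f7bb466383625c2f6393f10940e1786a0e087e591f1e003b67a0f78c061d3651d41e014a5bbf4c4ea1975464d07f7c7aea1aca566aae56aaf2a676efff09ab38e6c4bce55de3edda35a5cfe8c069b00fe00c4e4dceffcdc530a01adc576091ccd081a3af6bacc60586fc5a2267e647b4f60f087616f0313714a437212b6a6a62dee3822359f0d4ccb85fb9ae5ea897614e55430fee1e57fae5fbd89ecbb4b355ec285940d237723b091cac67f907a34e6f164606d6b418ea54b939936dc5e4dd3c54eedc83b6ce04cd5029099c90030825cf711fb7d8e6cbf07509c300e50b4ef5e282213587c5f30082f27ebb0725d93dc3206b6255c2d84ca4b26d400eb8f1be6547e71c927f03e805f8e41066f52abfcf5fd156f109c3bad56813a8f1bdf844e8a4da7f9e62cff2b620834ede16bbcba8a72d432efb731cbe3363450b7c2741365ab4d671921193daba3ea18d9e0d43c43b064a8f120399e7e4543b59053424bd2b6b068d43f7400f5db9f054a0cd9c3bd7c8be7f940f7bf4827db67fcdb28a954b0d0f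23d9d527a40013459f2b9d4cf807aae1e5c497e58fea083186fea83a604e30327001c12535eba82eaedbaca48dbbe2a0771b532d4fbf77eea900dada04d60d959af7c5310f720f46c6bc92e7ae2b64ddcd868e56b2ff31e13039e2dbaa341e3d50c14f534323b28ae2914360fe07d13d58948f53461e827ae99d651a52e429ac913c30240fbd2711072a89e7dcf58e19eda9d7956dc3f8b55a722ff6d9014e5eea3834693276129f47f7180b0df70a3b5553cba16282a31791ec94b8528d20abd8e8ecfefa01932a8f10a411a9463396a0e7e558929221cf7e3bdc9e6307014eb833ce7044b1079be1b1ffee05a114b38cac626816112809140d9ddd17f6d41fe9d8af201c74150a242d8585558fa23b63977698d9788173091f1007969aeac9829bce35ce53c0ccbddc268884b0f1618d4df5ceb50af2c1d21bd7e4f6aaa8457550fb0be926a77dd2d509dd0edafdf7d3b77d86714f6491d5d11ea53149ffc8b1890a9364b9c67123be69bbb73bc6d3426ebf697089c010ece72862e0bb9b4246e48d891766e1ed5f1304da25cfa0d81dbb4577209b88a3974d2a87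f69a636afc380b974097db4c1cb47922a903006ee60dec43b7c487fac13dab313fe5be9f61871fb941e26942a15ebc311c97d71c65aa8d4da482b4e76de0f73d5a6f5578060993b6b20cda49327cd655fa2bdeb2af9c90225b88a68259f8aaba4356d0be920d060fb46d34965e9e646f5e8207fce51710bc9e61eb371c90a5514ff6424714ca3151d68876235f1d13faea6a68c1f4f21d7d88051737b3f723c6334c4f30e987ec2ac5e33d5130665c66a6fe4c5589b763fba0823758ece78213a68415056063e224500c5daf36b960a9fae5a268cd68086baadf7efd9e58f4236fffac6bf0e2c33999e3d324304a4634b23650e9d5d2c9784187fc542c37366328e5fc64197723ea144b78e3bc6571f3ebc0e409048446848342d23e6366f62fee691cff0792978a8ae2eff431a79f15966c74073ca02edd577f02cf39135ae28951d5d677d985958895bbbb8887cbeb04be57df20a32915506f8845517e0e46b1dcffdc6bdf02921550c3727d0f8727fe1952d799c6daa5fdcea97fecefb9a11895844c5e0981d778a6a65b606dcafe77ca792da71a9350683da2b3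7aeacc7e1a7aa910087210f1b842b470e534688054ba5bec4f86e6bf4512bc4319a83b649035a2af4d584a3745fb7cce3cc9d5ac32e11bf74ba52a2fb80612b9b6bd64e5c8267e2a640f7f0af5e31b6641d663a13ae5d104deb3a41f65a9da8b9fdd70892be03da876b12d978d21328e64454166fb1fa68ce0077777a4f78f7539e9973e929e5342b415decfff8d9e7e7519c61f05d8764255affc01630dd31ee152a1cf146f736e6994d9459cb1b9b576d94ba700b8a08de37064c30de0cb8e67e72883d388ce36e7b4ef83749ea01eb9d7c99dd65390d4b6ea047c8d96dc10a60df0221b4492fd44ba51c08ee2310b415f3c977fbd80a5618c50afbb6141362da62f6401f1c46225b5ee04a3169b931969ee9c06bab80fb0fa95f0a519d08591e87b2fa168c80e62cd9684b8247518c6683c95be973d53db6d09d4a8f79ae4b5c6d07cf485b052e62976ff21394f6c698ff280d3cdbec894c6e5e6e407dc5a8bcd21a44e2a2b8d7ce74dba71bc7d5134c8e95992ae82c2e74f048f53eef654a4e8217a32d71b236b2e28bc7fe9310c11f698d1de30f64378c959b8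160c230c51b9680a1e92679845161ee985f8bb9b1d9f450cefcb8fb90a874e016d7ac9d0b004c58f1953465075206f71bb61720f7c5927978bcb9fd6021d54beb4341ee4fdc3a75187030249b098ea0c9a25451e8031841e2a6e0b59e643a3ee4c4887799496a8589508b6c4e8cb0c2cef69318d4852116b45fbea84c394cbac7eea87da8d6b6d0d76d7c93b6b4696a6a0a8ebe924903bcf0a91a4a340ff92b771bb76c4f0639e385bcf7848d3f19879272294431d23e241704f578c81d7157c253ad2a6b734c26ee0a4413946e733c8295762c9b9dc8a8ec761a7b141199f2fe99de4464d01cf79dd08e4a6a56999713408dab32300a7fd3e3c236c3da76390b933ccb075fa90feeaa3b32d7cee1c28d7595c18de93449a3762f654a96db2bd7dcfbbd372bbd4548881bfda3ca6e1fee64fc9e125225cf106966c064ae13ec425c3f822609155de397a090d1959409b80d7d1306bd701cd123190612ca79a7a2962c090c3b3d7d34bce9f877caefcc96301b3c4f9d308a701c0a34ee097e50051119d925843b77d6c058dd47ed741d3036a80cb50569ae3596d0e29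d58bf1085063e51fb9562436b2d83549642710e0b2f791f5f9fa5f2c5d876cf561b24d17a5b43b66488a1c02b73a2a32967137d69fd630ded8f2f788eedf64decfc7a663f4c26093cac757a54439bfc2fe6a440ee03c432ff906ca07acd7988b0f44631a1588af2172b463c69e5d7d17e9c54a3d1d34b9abf3f45eb1f41e9733aaae8ce7bca7f72e86f06587ff1486f4a4151e055992f12326dfdb630f2266bb89dd5cda6d1e026d24aad5731c89691784143e3fdf82a2c786b1d47bc5d84657a98a7a086a8b97f8ff3c134476726dd47b9888a92c7424428772113c73312225af1301ef15e2c34985041d7ff964453147e7e7b7bdd5eda56284a6a22fb9278045a3a1ca12ee9dbc6c462b386f43e3954657ff5804ddb005ae9384b879dcb342de2d05e5fb96aacba4476db5b7d10001b7fc816984143e56aed3fcf96dd5304978e38c8a6e053fad777f389d0420b44810dd024a3aacff87559f9538f83a584685868c91d269b3edb835c5e4cf557e310106da10744751ae30103ff37bbaa90b480fd27bbe1206f0dfc1d7e298cdafd5091e1fea25661ff95ed2a34f9726094615d660f86982a920238318409b6bfe5b22ef374c68573c769326b7bc73b89d1fe37958e4b57ed2b750a88ba89cc105b6a0594968d6e30f46e0c3d26de09e83c303b537d33431be050641bffeafb9349c119ac609a049c8649230c87f7e9d8c03d96dbab5de3f2ce0fbedeb6ab28c39000a969835e6adf2d97a685db41a3e091f7c68a428667)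
def V_e : ℕ := (nat_lit 0x5d1caf4b11ee1ed21f75ca152883d5c4f5a48e45d53c38ae0c8070169716fab20f28a0167d384eda2ae75a085d83f6412a7cd33c077b1e156bec9be2653d94ef60d3727b1a010a4a0817284a0df61d04d0760dd58b8c9ac97cac43d3cb95b466b4eeaf7454fc0c0ebf58bed06b0886b65d892065de6e6c3d7c5677fe324fedfb8dd689b798c42b879bd26baa028c1a7a3fbbb82f018cffb469e29c49e5eb4f863887e89de804b48eb26b026b6e17c3bda443dfc7fed197fd693a9c98771856a84707d7133133ab92e117afc3aae5d8da73b57e1a2d83f920ec318dbb8754ae1e85f422dc99685ebf5c3901f6fa7b11f88f597511e59beceef0114c04621fbe69ea642788b1e5c6a3ef7fef31666fde5a9c978d28a8f3f706da9246497dc3fde7767427d08385a9ff8431b1d4fa1fbc2b72ac26b266795f68e78b0ea387c28b50a9e0a0f5c35982cfc0a12a345f54c7bc5e62162e1a927a1761f1243a0f4926371f2d72daa910bdfa0f47ff2dcffe9d1f51057cb138c99d73ad130c68f61caabe69264719c056b54ba7eb3da0288ab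42e8586a48ed77b1984b6fa37e183f5bbfb99aff78ead299ec35970b2da7949b7448b1183f9ddd500209f3bf6c87f1ec021aa07ba678472bc278ebb56f454d246891be638591622ead66771c47d4876ad41143bf9a943d21fcb281f8c1e1e64c130f90fa82b4f0b785d81715e05583f26a522c243ab884855e7d63929a376c0e83ad562c0d2cded9a6cb3f700be6abe8d7f8e3c8dec0c1a81dfc13253898b6f7ed8d109424f521a3a8203c9354bb63fa93be5eabec75dc6a1b5e95dd79e5292245b3ef67eacec0221ea75e8f791d32919294c6765e12136960d56accca48da16e7a37d82ebfa5057120149035e3a460a72a4997a40c8e023d94f4858d84821a64784f9110101f115d30c5cea1f9a66a3ccda64a714076da320fa2c97e04a84acc29687a7fd942d1a7a47b5f0d92f7608fbfa7a047e939c24c32f015c955f2b991f6b9d6ecaa986421425699d5acaaff7c2e1ed5e1dcb1dd2f24f96e820f3d6c06688cfeea64453f0a626e0c81ab38a22ceed9ca6278a98c657a3dc4f89a0db0e4aa8593024e0c359eb4adfc1d8004d7f6b844a4e1fb736d27b07deee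2a2f534976ff0c3505072e812f0b7ec0a5bc7c2cd9925b03a593a52a0ce8e1f71dfa57ed2a3cf1aebf40187242d2660d5454beab364ecb63168b33d329c9d9307f0d16bfbaaa316c7e42420ca2a9fa768f44d837b3456afe02b20308d2d0d78b425bcef75d3351ff019df4b6e064547ae6a2e79ba793a4bda6949dba428108777c0d480db08c8495dc8ff8065c245abe5e0998b3a5d0db7a0f11876c75c134b975007cf02c1689327238485e9d96d4535da1ec22ba2853215f768175ef51eba39f04caee067ab7db44ff485ec24f43f8837c9ba7321f625447400552b4376965b08fad14bfdf08a521da2fc4b76272b569e2afbdd9440bc6a3908cb541c5d837de203cfbbcf20b1aed213d26bd7404f318011f02fdc7b7dde455e7a36a24952ca6b6bdbe35d8d11e8cac416b8c407cbeaec1b365dc0b1c7b9033cce4bc824efd5661595f9240de77e82d19e4a7cae0f5e29d190d0776efc13fc0bc6c2b53f8c93206e26d004b6cbbc1e2ded45d262dfaec594d2a411d73e680149bce20719cdb90a63d8d90fcc373d16772bf4ca98ebeeaa26edd023340673da10da9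7a2c7a239fe900153b784a3cc036794ff2c53056cd626d7b566b4682b854a2cf63d03989bbc4577d04a21e3d26d39afd08625034ab0950c3cc8e4b60e57e5629959e46d90381b084c50cdb1b4c06fd770ab814316e2a72cb2140f0f99da2c0bda8e6f6c73813cf8cb98e8e62d5624fc6601b2c50550eebd35ce045c5425aa67ff5a5cc40a4594247b61ce791c80b155a98cb0ff2c9d62945500607f6aa9279f40dd5e53e2284f3cbcfbf8bfd235d50881ce876d04d06cbba564610b49fc39045cf50904fd6bfc7ec9ad55b49e765f4a4fa1f5b56e34828e9a60576c24a9bd2705b93a69709e4ef34c970d908ccbc086ca29598c40ca69e2755d30e7b0bd77e24c88f5f802a6900aba5f13e4a40ce7ab10c836b0a413a1cc66647edd0dae23b6f67b10dc895868fa6f162c27bc7a799126b80e7808afd9453786c6a6d313dff7ceb9bbf106fd93283c290b6765bfeb47573d1aa15a26c4845e2dceb56a661afb4d7a871cbc091f2662c66e05b2caff05c45a24bd95079879b827fcfc79a7723c58da03d8a57a84b38ad933095ef0817e1612dcc603f4611642d806bae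ea44104e2138b26a478fc96ca74340317b7891ed204f57c014f64d723ba7a4383b942ece21acc9da734c37daca0019eb877ec2a8af2fc6e65e315e451b32530ffea977ce3ae15ee62e3f943a119d47d0ac40b7612843f6601343499088bbc44a83b128d012be03d70e00b7a8cfab6d2e4a21cf39251dcf1df6651e79c6ecb552793b58e2f5858bab9f4acce011c2d3eafc3871b7d3bbdd8f28ac54e2099ef959bd941571e548c23bcb1f7ec444f2e57d7d8b4c67ca55de6b983df0ebf86d7603b06d87ed32b31837240f7f1f1b11a4f9baa9f0d9e2924e57915b36ec2dccfbead13503418a3c7b9007b7baecc5ccca64fc18ddade3bb5ac670eed0db6e56ee5d00e7778e0b612ce474b11ad9f7046d38d5a4b78121457e4b018d5753655ef2e1d1caf91456666f3b16ed98c3922164e46cc8ae6c6e99d17fdfefd83773f7129c17987c71a43271a680650379a6f64962c0ca82224103bdf5280823a6143cbb1a30b38a40caa0e5f935ea5ccaa01c4f89d90b1af561356ff0056510ffcf98534353a6d5359d15fdcba8d4ddab60cd5d753eb4f2f4e7923dc6c11a1164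93ff5663e73cf9ac9943b0f586d072672c644d1e798ccd8365681f61d55d13b61286608c62d7772118905a76d3843097e7982eba74fb056c370aff9368e15a581a3f0e434c0fe77f25443f84d376776970abb2d260cd6b627b3c7dc913ce0322f2185c3cfbacc386aa4f3e16d8dfb4e1b7edf2bd7dc070333c0a0aa2ecfab5c7538e19853a61587db4727e9b770f4a965803225678be3237da39359322ead8d86eeeef0b94b8e6b6da4386559d897aa39392bbb3244603c7381c9d7ac6ed50121479ffdd6f6a01a9c1c8e17edd8c270f12c3c0d1388e291ec11d8ffdf1a5b6dcecf53dbb89e72bba51ff0873e7238e4b9b605fc9034352133487e56061804db98b2e7b5afe3aa6996775f6bfe982fb410a627886593c793c604ec5c333243713f207eb0a3c25624e442cd095c232ee800d2670209cc9efd238b712910a6d317d7e3afc13f2ee4a81c616f461c0c7bf938b7b4a5df9a8153e431f37c499ba4d33fa441698f6a71990a3a9b63095ec495c8ec943423edede03318a8703b4e7132d6641273977d4b69d2c2fbd1ed700b3ad43d4921eb0fa04456bc3afcc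f68bfc4192a4bfc71ff9584cc6863ad4efee95a455dcfa6ce2e73fed3be73864d98879bfb83971edd46976a111afcc7d9f51041465ebb704deebad7a343ccc86e56b352928679c287543c4b6f425de25fe06138ffd09ac6412d7bc9b4de8d5627844cb1b03cc72f3d559a4f5e987037ff2587909770a87404b9f9e55630a6914de39f754a2cfb0af7fddb061ec75931cf2a9f7d534276a673d334635c6c66cd060e2941bd9efb9e3b21eb022902bf393ff556a6306cd18671a9944d80882bb93dc1f8f2a86ca686174101478d34043e99159dac4b12700842595e184748c7b30b16d8d3448903617a3bf9f0f86300de2563f70f29da0e09870bcc1f842b237bf18ce9a2f6d3a1c42f447d4e0fa66bad71117ee91cda9e7593dfa2ed333f73a130f01ce2334f0e8c4b77c7079b58d151db86ca3610e47615e46c295794481ea3d39f46b117c8a90528975cc722d5aaea39018d117f20c32dca165412f866f49aa6d2f745fb21715486581c0ad38e7fe2b4461f5d183e9c15a7b79d46c541c1ebc5452e645cd8e67c8f91e8dba4225823ab03702cea2e2d46fe2c1928f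0b2854b7ad4204fccfbd25029ac1c5177e6d86614b8e41469a1ad7c65f906003161e287b0387bbcee0d51f3fff77ecc3813231c42a740c268af3bd61730f8cdf69a8949797f28253d220fe84987879de1c78a4f4f72739c142364b6f3d5dbc4613acd67d3e22c4ff642b648078021331ef5ed682d886cc847d802fa16f90e8c5fb3ace5deac128bdc42480d4a67d1572251e058ca2b6a41e643c9c6529624a3ae08526197ff88ccc6ed14687e03dcb5262bbc9b547e80199c8c265cd322aeb2aa54bf8a292d7b852ef3ef02a696fa1fa56b0763537a18f053d03b1a1a9909ecd18b0a6e7cbbe1078d2eb4ff84fe17ca8ddc39f6fe015872b157c3104779ebb92f0309c159c2754c62dbcf2fe933beb1c92dbfa9d6f66691d7d86902fa33599e30b2ad0aba52e518324099393b52ddaff14e9bef6c09a860620a10728e1b9708ddde400bc41e0fae6cec83e2da212f688035a71223d2572393163e7018d5240cb7952b7725d372ac8575e6c312819974c3ed80717b954c73549848d876dcc751e73d37af8c5d8b7acef3bf3d5e0bb2767ced9aea9a6bc2560400441e5bed71899cf01587c4a9b8ba9bddf6bbb097cf8cc8b444e7826ebd99ea8da3fee9fb6d60a42911d3dd730061d936a38d4d41e156e7a03e84ea7a1d5a64b00e5121894c2fdbc61b19e4bc4031b238a4c5eee31d0d04d1d28472a5422de61c6e9ed7046adfa82b7f0d7059a9cbb22b8ecbd0943c6f772ac819a5da237d7dd94dd0f85c4dacd07cdcaae1d)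
def V_f : ℕ := (nat_lit 0x146b326cd87aa138ca85bbf42c0bb288748a34db1be04693d8a103b1c6d4e8c73e065151b0fcdb9b7d8973887baf215fef224d214c48f5e0138b1e9a0c522d6757833ab8792c38c18837e1d0a27c79d7d23d7329a3b0b13993028f6f854f8a79a6ca61eee4a470965fd2c4030e37fcc1107786d12955646e07d814cf1654694d9e8038f11c6698b0b56e09745c9f59ef6962901c4a3c5f64ccc52c29390cea0d5e6976f2fc033258ad7bc8de176cf100567d13aafcaaf74a82178a9c5dd1a930b97e8d7dab9b9efeb6df2c3c5df355b03ab7c75790cdb7d1486e896d8c161df3a9f5e815350adf675143abf8236920d9e7be2017ebc0eb6ec48ef1e5b619f5e1714cab58c7e4cd7ce1069e76eea3edcf1ba2c6401fda2e981c5d1c8b614b3da8b5c1a36311e35d1443e0e7f1b9a672471b6912034c0fe28eeef01926fc919e290fd2468c01bd56f88c4781da7a3c3fb3796563c0b6f334c8b26245ab6d415111f04076e1eecaae9ea46199733970b7dfcf6b655dc84ab6538cb5b40092c9f496f72c7982cccc109a4bd1ea6a1c02e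6dd962129ca8e400d1218c9a4404f580e21b90890119434ca3eacdae98c8dc671f8a4fb2c29c0987439f26e65228c417b92d7598a3ea79eaa7004d59e585b2536e23db0ccb139a54852484de2b76ebad903a13083bee7da247fee8e93abf7f3f0113391f4691d752992ad1fd2bdc6af379e6de2f4fc0ba9092b24f3caf27c8f5fa5c643a83bd7e92c4fc5a029ab6b90d03f4c79036a7c24cd58c9ebaad68a936896ae8556c7309bdd55b2fa9cbf37352a980c4728ad0554aa183a3486072047bc788ef861e3dc05c2209dffa374e7081b6fe3b790fc1882ba1b595bbe726f9d949050a77ed9a483bd7da75ad8590aaab9260a5e204bdd1f4e87000dba82e070e7065b86234fea076b154e44bdf37fc60996e2c64d74b1e3a9c731a95d9c985f505a00a79f198cb0c2e5babd78fef30f272adf54b46058861e4efdbb5a21a36849addd200e44593ddc34f9279b4cdc564a7745c979a0124ac7c4e1acffade33dcd7ebd7709f5f4afd6262aceedddaa096216b17966687f61c731e7525217b4cc092d519fc5e00124174e98e899029a7bb7a2a07338f927c452d7f8efb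e3f87f0d896110d6b8bd66c4a91505622c5396341597471076647c87cf28681f579854bb80b83b427d96ed5a89434f298d905ed9d3999551473828f5b4b5a570112d3e5770e61e57744dde571015f45489e431e6481d1926e7c3149b703f9dc01ea0effeb0b5581ccf6e84cdd944b48d4b2d4d7b90ba93bd1518111f12db0d96d62b53b0ddf9b5b00eb84c74e6a681bdcfeb641dc96ab62e86d38f617bd77e7e92b3e772271fbc75f6100807cdec33df2a29033845efb7861ebbc9674690a60f7b0fab501fa1691742fdc56d25e3855c6a88a56878dd7809f7a01b483d9251d5e0aab4e1e9c80f39ab6d786f378676db35b19a158666b603c253d835603fc2b1e858501c78353d57449117f384b6d1c39684e45e7012ab7f2d8aee3bfc6520793b36fcba26b52da8732fed3742446c3a36f14e1f7f371627b77db5f5e6c25a5a53ec8593c227c8365a2b60ed5468f2731f301072c5cbf3e1912c7ed910184440aaac41e3d86eb248f7d52992d3ab0d36a47f0eff684983255f5a4904f316c2d10a9d3dd3cb9aaf130e660b8937ef9e258ebba510849c687d9cbd94bf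a0d24c5c0a22c69c4656513fbbae4bbbd00531dcc9005a8cb0927f2e9536e7ba0b505f650bcc1a4f7c2ef5c954324a1df6621d1274b6453ff414f82d1cc7014395ef061280ae6107b40a6dbab012cdbddd29cdf8152548461718828008e49803ff7e4ea01559b506398f74ddb617edc3fd87415c466b4139d6688f2a576cd1e91d080ef1eb39cb3ab3f6f5fed3906feadb7e54978836c1eb819068fdd8017c305e16914581edb436df7fa85b1fbe6751ea150de2dc09eaffa9217e1629cfd45a8f12cab42447c2814ba42c21e9b6828352c0206d4707c70df22d2ed506dd6b090196ce501f2b8df65332c55f112b5280eb855f36e4821c7c216cf66d5c999dee1c213eccc25265a47bd11acb3d47eb8b0eefd6c2abaef504df79e3785b271f39632b18e43bcb612b4d3b44ad4fb539c94484221be7d383b7c4b26fc3949002dee3eb919fc8dec5410ecdeca8d3a90f9e216dbe0a4080e54d62f3ad102145e00adf424e1bf0962ce3e8eb613a5ee34f304ec98cf96bfb5c376c241006d917c2c6e744e4e9e27112333ddd9a1a08843cc02462fe11017a8762bc18dce0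3aec687c51d0d8fa1bdf77ca6f006973a846f07124dd3461fd2af0ac267fedc59b8be4f5afc25c3bb794006872f880a106615d8c191a0b3bdb67667148bdad73fea248294be80dbbf2591db344e9bbfdcb1686ee3d09b2500e82950f9445da8bccbe8e144cf7d26c1946a45b3f097828c60cef5b34acfc8d07ab83330ccd49f1b8fa7bd546f29b12e5bccec32edba49dce43b2fc7d95be104bcac8cc74301a43e0937d7d2a380efd6aaf741163bb17e3835ad8933137ad747bfbc7167a525f40cb18dac2aacab368a333b86d6caf7ba8542d2e1be1b21b51efab256cd09f76fc253f73bc0d41cf9ff63bc882f7c0a9f0a2fc12c69c586d208d594610a23f90a67e90382f596ab117dbecd1e46e776c4049dc666d932363c7eeee75f8149b72bdfe6bd2431a9ae5a3f07e83d5a3c7895b3384b9f09399e390c9c68b75491ebfe2062fa267080fb623d6bac72b260d352cafeb890c02bfb2021b9b520e31d0bddb20468fcf1d616aba828e3913c82675d003665c29a4d94bec0d133d002291780e682ee649918dafd336486cb388bb2685794c9041b2feed07ad663d43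e7852bf537a2c4e018663c1e7797b223d240e8f3405b272ff36abf984d01b3f4604a803f3dd43572e5c4c598fc5c2322a3203e1dc338e07b262b2f48fcb98b57262a1121c50e53a1e44547933a79d7fe3b38592eab40b57fdb37127f22a558eaa5462a8d63312e9e4647f5c07b3f5c90fffcfc57a2f3ad9e2a6f5e2a4b250b5622e5e172a0bc96634446eba91dd1afffce137c3c179b9aeb464ca4c22777aeea5e2fe56c13184e5c5ed91f1af22cb1da007e69784240fccb955b30409da235e2f49e16891e667feb5170820be7f01916f59037b0f7a35d5558bdc16b41bff6fb22c882a444a6447a84f3b8cdfdfe2845df02dae0cc1da6cfce263e78677430e6dde9ec0c6e4ea13b049b0a6932f8ea3fde76d377e1878be955c3784a0678b38d4136a05f77a6a450374f03663ebc19997a52370c11ab53096b7c894cabbe61d5f84522100daa935059528e9deffd1459b8f56ea20c050742b2b217372493d7159544ac9e680b85c69face38a3fa3af12d0981fa88f030873b9e0171993b12ccaee0797a5fa2b155d816a6fa28db0127f8599dbc2af48bca0fc9d4860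2aa04675f6738d7cdf091401ece1852c4530cdfecef7ad7a1bacdfa80b86dcb3611ffbd3e93654df604e6ae60a177ed0110508093a12e68bf6dea578bec733893fb19de460af6ebd85622e96ebedfc47e1097ffb5ec4836ba84357da4e1b71564e357dab37353362f9b827c9b9f0dfa83ddefaca6e93b09a677d4cd5741b74a2d01f755625dd5746ff3e71097e77646f5c77f1df8bae8faa701be250c8aa297ad95b33b8dc1f564ce7765cf183a71ec40da647605aec27ed40e5fc84492fd7bad57e8615aa85c899c1700c559e86df69f4cf1c2529b4beceb0285ff1e6a5fb9220088db917f8b3b3ecdd411bbe7ebac5ae7b9670f58bf275789cdb2aaf0f1941b5dc8d3ac47330a5ec9c085e549f60ae62dd74790857e29ede26cb979e0ad0a2e0f6da3cd5c5846b7c9c48c8a1178af0076d2f60a48269ad3fe690fd8e1b5e5c2fcad9f478d8e1f6ce180d066c624a89bd100ab76bb865815eff0326403e818105a5150f77efa63629cb4449a666ed77b589ff3b6eb864a3e1b5cce0018388755a3d522e0e1f67ff6a7664f2f42154c1f522bed5692897cb73146185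52d2206c6461ce64dba3cf93012559e35ac5005d21e784c7ed480ef9b8abb6aa9f54da3e9d9bd7da3d8e162fa085a483b24cc5b850c3ac2b47c5edbbc9129e2d0c630852c24d3e68eb92c7e9e61c5adc0ff43da0b7765ac20acdccb1fa9023e1eb5f963b33fa8d830ca964bbcf88496a75808810afcc475af678191b25188e38e5554f695fd32736edf07a2fa22ebc0182f0b757b74deefed56f118d8c0fc9837f9de459f2af2733469cb88629b08a02653c3a64062d022a34d19f36472ab2b105942e56f1d6c652735f6a14ec4c637303c0711f8def2b48f22cddaf16d5e2f1eca779b34b9077363bdbcb9cabb33b43f464e70abe94522a93ff3e9598df2f356def2043c5e0eb7d70b404ab35129e8ae7911d68c509ba349497f7d16dcb5d54fdcf8fec322a168b68385201375ce0a57579ba03c528579739f3963643df73005be169310e214db2a2f2d38824c1a135b2ceebdf9781d91388a0c3ce3e13b0110efb2bac87868149fabee99f3b0b4fd262817abf07fbd49800c94890d92b126d6a59da597608bdda3cb1707d9db492f972c7c86ca1c576739610478c4d6f78771839cfab73d9682354a5aefe19e1b79941b6cf0f38d0a917432a751b76e6cfb3f6c0637f0bdcd1a95f361598ebb4b8d093d6ff9861968b1822900f61f718d3fb4978b0aa2a62bd0459d3c5d2605d37fd17e92335eced1df0b8aba627434537cb18a168b1e6c36e74308989ab471721a63e1c152739e5b2195b18ce08392026d93c8fb084f25)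
def V_g : ℕ := (nat_lit 0x905a4e5c778d5c66531f3f8412447d4c13b6359022e21fc2b1b5e23c4aee2eafc4eccacebc56dcf80ccb5cabc5b6008b95692a0ada33e11be326251ca603f8d40ea42dd7e44b3c96d5f138498830e7f3fc0cd68a139bd13d4380925265efa376f98280f796d91f1c08ca4c5a780c24f86d278b729a76be3f053e6d52c34c4e3881e7fda4206dcf4e7b63f838dbf0d6e688cc61df5aa17b03e0227c9cad34df643679a8df5cc2c94f27c9db55047f461e236132ffd87963c412431a5ee0f32bc377173060c981a2db03c9f25f5b0f8df24f6ddbd0ed57672e5b57fc76a6a3f32688297314c1f3c71521312a62f8c73b4047e9f606ce10f8a2a694cd01130e0609fe982f3e8d4a94a7043e388fcaad69644d126433e9fda05b536b35fe28f2d2c4dee9b9593e7280902b1a79ca087039c2528238aa4f6616c8f9ae0fc4009db0375c58a8c0cfbbfb5b6f12be27c0d556f510a0683a1417ec23a34bb4989e12ce0e25152a823032b164deb37a74e86de36f51d038abc34ccc806938298136cd081cc6a0915509f37a80ab931758fba6f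e14440a50350a58a85b8225e48552fa814e348b30cd636801c62c13572bf6fe686534597300954efd1b0e8c8cfcaa5280368fe05670bde6b0396da6b864d6b1f917f1b9eec235dc5db22d10db044caa47f4363a195a2d1617fde5a3536ce411eae0e412bf68da990b919c71f27a5240e6835cf735a0f0552eff7cfd138fac3882a9f13b2a8545f7c28325eb04700a106ddbe17d03e2a66b5a76c0c9f4c1972eed06bb335185b34ba770d0bf74a106a48a1fc7fb0a4a5e9f93a38df369d5f7feb51581bb90f25ddd4cebf55681082b1b8d289591c17910f1cd4b7ea991e9db1fb04fc4611a6969063ce029a40a06a0b6df2fe59457d35e71234b6aca6d492bb3e9020e998a9d312125065c18ccc375a9ad331e41b4bd72a277b8d08f1fe8acad621096e7e662c19ba9dffa5a6d453b1ff30ccdc67a590743002ceb512446b5c6a50d854897ec6d68f9d65e09733cdb0a00d6f7309be932aa711cdae39265ac12943838c2c3ec902e86a76d3773b0809c5fab596f12fdca2c47516894a9d001eb6023906ab87f459f95e87176338f8448a75a9f071277b426f5d267abd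c9aacc175cf99c6e873bc416641e5517622d8880aa62498ea3b38d90e0435332c3453bd07ed941d445fed47f0f08d192315791cb4129d95028f37948537c0172897b3bbad7ed509fde3dedb3b913a0e56dd29272fe2b537e93d394adf64f79fc12874e9c0c90e4b349fbbb2bfe7801d0624caf6b62cf43467b23ab0292b09b2fe1ba0ddb7162b9e03196045cdb2bf4eb48a0bb787f9867534c40b67b1873b52b6f88eca9e8d9112c4939dfdc080eacc55983315169beb9a546b2151fc3bb928f25cbeccdf18bfcc123fc9752cd0fd56ce4255218a51d2be468c098c11fbb16129d5383621a7f2379ac3180ec00aee962d368804e7b2bb75daf05d4ebc780cedf4602f5b8e2ae48de989cf29979285fbb5de989d11855d63c8d6e8db09f8418e0e3c424488f82fb51c2755d0b76caeedf968d48a662a35a4634041f7854f062352bdd4e12cb2de3a370a18a2ed48ae6cf5375ae33546d79b3a13f8f543f2aee678f0b8b7d3a717c19164d6a4ea42ecad23048fdd50f041381aa92fa9b797aa10cc8987c2441d891113b0877f512a7a27a791477c0713f652723fac519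029eefab8941cbed2294cc176d92cf8ce71d82d0b365b7eb58607ae9e968b510ec6bd45204597a0cd2b9ae130397869436a821d6e6835a83491b4bf39cf33bdc5da537488c5049a3b78720b22820797d6067128cb8fffdcb5e0203c65dd1487735401378b93f4d4f0e34b3528f73e52a933e5c3f32d7509161dbabb3079c2006efcd17754f7556eee845e262262d9b3889d9459aa28f36ee9106a338ef21c13405a92bba65277396b3c33c32e292153a26a7b8c1a1fafef1ce0b7bb8fde5cc13180f499538e3fa4af4520d1b146848016b2252a03c2fc1d95487cebb3d648799a5e908247b6cb889ba16c781d8369cee7e7ef12d42ff12d5aac0f67f76cdc09bf53647fbddf43448874933726f02e29e4888ab8e608137fe48e02d691782710b4c121cfd043b49844f4ec0ff94bd2dc9522f2b14673f5de626c6b044a6739c08d2ba1dacae779ff3d52e7dd587007cafccadd7bd616c02d15d2e9033c765842e1e23af6af8caaff223695f999ad64c41644ffef8f05982553f50957a7501e5b3e98132f1d4c0f1964807cfdf300b01983a41f99396b7014916279e7b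f4cd86ac4a50aadff5a949c0c42d584b162b2225e55ea25713038cb97e104f7b28dcc7b51f8bac64452bd305a2051c0aea194f27d9c95e245b3205262177afa86b365fc7b620d29e9d3a6830f7558d294d857de27dba50f0377e38545787dddf9e28aee77cb9d2ef9ed52169d56254cb92571bd4a05c4f92a020883b0bbc5bb7be752ae232e50ae427e601472e9c238b322612795e77354736c614871a461ebee6f0f2a09da19e92ae0feb0124e3622a1b87ec76b2111d6de34ce3a5b6b959a9a69e25b9800b6180beb81c9339a362d1fba2eb8ed10ed276b375db5fa57670f5dac734d2c4834aa8a5e027e9e54010d914a5c4c8ea091c434c5f85b30a24db80bf0037a9e8cd7006c7d8fa4c1087f7f0826f419393936c66ecae73973f022815fb1e6503b7daad6b5c1e8605e20e72d55126bd08b13482feb673ce2f54d2ac74de73aa3e989848cd04be313a7e7061138f4e4918966cfa07f79ce56ca4112d9b933e8bf219b84cc7dc106080a83d53123204ce787df0c2d68d3b4f19fd57aa1a67190beb092773d797809f2fa43c235ee25be7bac101b7d8d20cfba8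4a236cbc61ce81e964a86d5aca382aeed27aa461c22a55d4de3c8a5bcc221f0a69eb80ceed056a08bfbf7ca504b3497ae980bdbb53e43287c5df8ffb400b5171380e0d71da8e149b76903e9e4e9e3075970870ab335c49fec892925795a3bd49b7572fcfabcb87014f165e73c9e6b641fa11821f4294186b4f86264ee4bf014babe9840893aa15345bf3e38d7c430f1ab441a3230839cd70c48390ecc8943327881d175e18aaef278ca4648e77fa228ac15a2fb49832b113ceddcd9c76803cf11b71a48e8099feab80033ecc35dc6c7d2d5827de8ccfc07f9281f0b22c4636c539212ff8b7741ac17fd50b44f0d089c16d3b7edd66d1b3a750bf5ad0aca2e96bc9f42879c27041bf7e484865860f540208078741a4193d7b643852cd37dce491493eb18c4ad5a79e41a0ce5ceb9901c958c37bfb1a418ccaabd8646d888c5637a609f925138168fea8717abff066177249179aee41e19e55f59aaea85c7f94b234beae2cf429350a3867a74b87be28f5585753495bb779f4a73b16b977966188155d4596d049d858ed070411d4979ddad03c4552d76173555686b457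ac010bc435462d44b53c4d25d7d0ea7ef194b5d0cc2ef25408d4513db6d949475cec33dd138b2617907dd04180a0e78e4539b2b7cbc9cd810dade8e674920b9cf25a5575cf91922be4b1320d869a8e408a8654906b8ef5a2557d33a9cb1a6ed39e1cf160b8684cbd5d944c9dea56e68badc75a0047b5b15655c8f2def88bd44c6344a694b907c093590d519f00744dffa983ca1dd4948e698d9633321ed1e59f618537ea688d092c76e7436f9a0668b87c54853fdd9d837082d8b3fb23a50d4faeb83bbb42736d4b6f5f0e16bc9c2e0081e9d09a753fbb4325090382935ea8e2b31184626b0d97bc7f66bd4d690e56c10bb2a3c76e28754fb21f57173b0fa0260582ebebb6d638d67dee3d5ea490cbda3c8f8465480fa3d57df07eed2ca2955352db35eaa4731f6bba5d00d0c81001ad7d74c2d807f28be120e6a64d69ea00589d7db273352e352623c85a45ddc3737e43e28c0d27d742d724a7b2f7e733e98ab701b35311a3e53c372da120f7a32c59d1119e924593aa5372a08619bb4ae3250ae51c5b663b7d6e6d56efcd8033ec53d2efb1c1099813cf187f8e75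750ad629d684af2c867f3fb1386b78d80b3afe2d6cd9dc7f6f8d8adfa6145bb91c0a0808bae29dfdc2aae46bacce7e4676aa0ebba024d967f28acd5fba4fd2b2885cd2190d2e92fc68fc3ccbd6f36867606fea982a2c47795e1032f2acea94a1d3ad8de1740b2c1466818199172152ed4896c046d1cd532a46662d8da261c6eadb8c521145182ab01d3da233588adcdc218c5a6ef2b6cb9dae0e90f994bf05f804380e266b36aa5eead3f3a6d63d9ad094534c6e438b3f705c6525de3bbbca08379818f009c1b50638dd168c870363550af9131b223a70b23b406eebd624faafa50ffafd08e9792ee278b5f54c0c2498780771ae06d61c5667245d0881ca07639e7b236b7ba182bb06cdb16f7b5051fdea023a62f67abf668881824c65d141f78d4ac89031972794e8e8afb54635f90cf21adc452bc86e98d656de9b7c563694474ac01ab62a2be72d8a55ae1be71a1170be3999fdf5ad4b8df8373190ca7a7d9e6a434a54cb4e4228ae47d3ca5eb5430e6981b822d523a754bb7ead84fad91ea92505be6af26b3cb263b42d62ae22f010ea524b999d03800f1fe804a2b5a88b411fa62c74da98202bc3719d2c4450907906dab1554872873a83d32e53a413cd7db1d40bcf1e5bbc88ee030edda2cb3dccf1b866fd879c1384e61ae1eac6aab4105db9334aeda51bbfe1b64921f3c4c1429f6826e7a933aa61ec62cf0703456ebd34ad21b827042865c5b958b236340c233d1af98ea17dcd7226f2a652d9b2eb53af94b168)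
def PP : ℕ := (nat_lit 0x3e058426ff7d0db41bae64905be215193a457e208548ffae5fd8dd011fccfcb6d18478a20db31660217994628ac61d64e5cbfa50d789c5a87af422e3606d5a5eead76c0b5dcf3aeed8172e697c2919dedca0a9a664cfe7496dc35d8204d8e519247219358d337518a31433c53e1e20c0ced5fb28ffec319fddd5f144ff84891aa9e73302e7590708ef4bfd86b97e9155a827d86e56f4622ef6ec269751bcdcb97753c40d24d8c8475e533f01b547294a6a18ded94d69feee71d65313f12b1d72f0fc80342ea62c10526c0e9ad3a3e3b00330c04ed14a18b0b863134d52529803259e0dcf4d5cb83344d9f25d9fbb7a9c506d2af67ebf9eced4523ee9712e4d87f76e4c7b910e9bbfbac8aac20fdeaea819ea66beeeaff2aa051d696f84ee65b2efb337445f7d21332bae35115397639f1163645ef501aa318ffe458c7db939d139d47b5effe22fad359ea1e1f22b1819ee90ca486572578c20dae97ee1214a60633abd0f5ad9b7e34969ae385a5bec8a70e14990057467097a1a997de1f4f087624fd451fa19abd70e6a579abc53f9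267a9fae4e397007607e4c4cb6e48e4ef39eed3c78bef69dca6f130607eff75db76bc5fd17f4a5bf0c21b4290cf7c57da7be310a5b99d335990be2b12ff85540fb1d75e50a2a45601f3ce105c8ae8b2434613764fc02a812a504cde7e720b24fe38afd9c0a880795cd3d24f67f8f38e72833b71e56167c35638ef3a9a4f92425d5b7924f8b62b4f091fb7f2b282828923ad4808ec94f6b4069797d205c643305ce5f6bcc6d70d4a6c7b24acc42ac5161cdd7a170f81cd851fd1bd060ad6908fa7f007c49efe5f150ca2ca9faff52ea1edf00a0ce0775e064e3898581ff2e45f089545894c03a6d497cda1e29b2c9b620085458cbd86156b4d7869aa467a32b4d87cca1e4c6a6a8ceb72a270a1077fccd9444598a8bf4d9c98ca54a081a940a74fae0eeb8f161cc2c915ea1d59e96a94b9b018aef704730623268c9ac3607c6480de534e135295a6d47b7c01ec53032cf6b07a078aa187d7b7aab5ef52f3a325a95b6343f5bbef0ab9b033dabd0c0f9192c18c525097966ea64f693ea177855fa2b98ca90d7b643d34324bc1a44589c47a1bea6dfa03b59c4ddebb404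c1c82fb355c6acdc58ad4f88e404c3de80e135a55dd1fd341e09feb62f33a1f5ae5c206eae9560d069230935876491dee522b10e2ac263096865d9ebfadd393941143390e3c1dc30734a1c60ac4ec9f312a0e3439cd5d36a984237ee344dbd548753aa28a5d0617dd3244ec574fe19022e4f92100ebc6bdc41770bef130608034090f9d861ccbcb260286ee921815bf8e57c90719a133f59dbbf495ed457157b9fffc4945e413e68e480507f3594e30b3b48e051e5ec419fd259a9143afb5a55d1f8b2eb43632638cc4eae42e1849cd812a5e7bc69d9037e6b2592975ec4aacb6d95182c25f803cbdd6b81c0f18e50576facef349e7453c4a9910a670014834e17b8b0a520477a17e0cd51e961d881b5bfb90bd1c84a7378f06122a5bce29a939d5fe4c95db1cf4bc79c9bb547545a169af059cd04e259769b411d873865a528a48c01926360150cd9812d324ede1e33d91e9cf8251b9bd881587b892a119edda1b983603ddd0e380d94c1b94673cb09e75356f54fbb88f8215e5d219dc20134291440adb11ac8443a2b7426585a4e34b8dbdaf6712b6cd04e748431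b4060bcf78c400730f2698fbdba3afbaf0816c7b424eb314864aa44a6961e2ffb9120c91d316cb0ad7ef06b4009badd7d56edad93c48ec491e6f2a0f3af718b658d88d33a9489b6e182c70a18e124386d4aec82ae64d0becd2e57449bb2bfdaaa5a70471ebb03d452e6011dc6b5e4e810ce312a2996022e4a67cd04768487d10c320c5f65b4a44448eedac70d68f1ef5d98f515e006b3370217cb850489c438374f34a67d250094ca1cb6c02bad9a1890299e43efa05f4d76be306087fa4140364729fcbf09086453e18b267358037ea36ae000c6cd00d30db145d54b17d537a6a5c8e8235b702c52ab80f56d3af89e565892cd2580c6fdbdc40076af72c232cd9acbfe7a74fe72070d32925ddb1dba1fddb37aa9f715e7710e0f30837792d6e6df687a96aa1f6e5c95f4b6ba9a12e2c9ba0656ff6fd5707e415e9fd24e65292719d19192f320c98e7865c1cee758a947b4c115389b75559556e68cd96ef221a716456576e78e5cb2fdfa930c57bf1937f8cdf311957c8a53506e332e0960af0f1800ea0125809d24bc6f672fc5088788a5e54ca6d9ead4469b48c86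042918884182d4509db5a3195dc860b35db50df4db41186b5e8ad5ab48d260885e11faf5f208d752d69ce5869c076955c878dc497cd93af0595000fd58ed33815b4effa2194d2a42b7b244c5c54e0aa02d13945c126363d6ce56ff249d54861291f4da3c290abe056933e9fdb250b7bcdf880f58649f8c37582e305f9a8f874bacb2a23805499606ad775e3f92c65405c6b44478803177dcb98c4409b5e457272d85b1703829c778d7db5ff621852c1e6ab0dddfc25c320918b4c392074fdbf8f0a4d2f94203512d509b726616061a66112ca1eadefae82577625d4d881b78f0ed83cc87d017b0042d9b980e111b8953c4e1fd3066c9e13c73328acb66ff650582d4da22abc602a28c7864993a231f25e2a474a3817af122f425aaa90a0a02859378f6adbdfca824f452cd617888de37e8b384ef55b8c281e44b9bcc61c3c7c6bfbdc661540c38ea71f5574791e018bd80280be42f551497d4ed79dcd67b3ac5e282d10546e1bbfc0dd51821c32926e7df1c896af0ae696bd8101a8df8a5422d37e3bdd4f4e6ab36ac53a2fe79d681962a33bff428a484a0f9c1f803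9be1c03467156b5d3608067d36fd7d9f0b763845cd462a01be687069413014879426f4d9438b1ebb68d8a6225c3de50b42119d59241cea0a9cb780669dc71e158b6627ee7efa658eb27e5a85ca4205d7900262724eb291acebd58eb4ff585adbe6127d8676a21e8d44b2e5f576300cec11e3b1aeb7128d302a89da035e72ee26d18af268e450850830843e02bd6e1508589d9aac7ec07ed9673bb8664549f78542bb49c282110093a954b78fa1cf7725d2faf10f66d75a2e6df50a61f9cc1589b5bf9c3aecfe85750b2fccca57e0ea0a3c509302689a159c7803799d654dbbe254417cdcb0e87f298e1df2b5e98bb53d8d672d7e2aa2b12d175f6d82626fc5cea0f0c90f12689355a18da511355a052de4ab00969dd139e7679c64b0b8b52d1c5c50bc3f071d2ec78730ac38e25dc73801886ab7ac5a9926f659c4010779058e21ecfbc721773edfe903e9e00439095a4a15e1e3abf7e03414b7ef4d47a517f4086c66ce270d8c057f13e300459cb9bfb3c64d381bd219e49376cdad9cb54f15b404a009dd292e1f810642120708e5d8a4b6dcbe1fbb90c48c4f7150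98f70053177c392c31b5d3dd229d245fe0946b72ee32880f775058a6279294a1ce0cbe1c353df2011893562cbb77e263cf031cd92d5b1e15d1967ca2ff653b3782e5aa9cc9f7066516f8b3caf093e5a5036144b607a8daeb3ed0f13b7f63d628b4d86efb01aaeb07967406ee22fba34ffb6375143bbeb5b1072a370b9b761dfa6b575ae4b2c0831488ad7792824de55e5ea26c875dba5f6a99f99bcff72f52ed0a9f4a55544d7f5e13ccab76be16ac0b516a8860f880ec316ba5914333cd8c2802669cdfd31043510ee76c23d4fa3e1ea14b8394249ae1177194a546d813eb1d5c3bd84ae2006293a9ff224b822348392cb739c151e0305c0a8951b21d775466b4c85cc2a4cd62f6889835b719a685a9623a308858c5bdb85b80a82f3ccd741a234397cf3c58778f29b3272b296c07f8bfd418a6a1ffe5a9aa6a3aa1b6bfea338f307738c0b3533956e41b37adee76f7f4b0c02de3e9b532c26947d8393d74ce7213fb240f0e95f23010a52a3ed8df38c1f5df130a168e32c5d8b3f2241c8bb7686a881a045c2a0db20e167b74239f322971e0989668bac245517c87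314680d9ac85294ad7c0567d2ed782bcfb0c998197144c6489c696cbc297f849763f98131366f7881b52094b8c3259851b012f089c5ff059c3aaedac0b15ae974ab889c606a2693ac95c1bec33cb8af8ff3f0d17e5c5e84ddbe4b90886286a68d7ff8de5646d937c110e02a9f02658293e7d6c11b1e97a38acbbe03234fe1f5286518826cbb0515b2ed0a75c3868c079804fa8b383a834417e8c23a6dd6cb2b03e05b05f5ac6ff43bf7487e5ca877acd415852b73b36ded9363bd2751717b24d0e0de68b4985befe00c3fa2a03a03f423c38bccd7437df51d16f24fc5a323363b6b93449f6100d03a7c5d3923f816a492f1b4eeee96595f4431596cba233c939ee1cb6a91e039c7e4484fa50b67a4038019b074c83fa1e9eafd46bd5a4822a2d245d07f6d08a05245694551c0c4ec28ba4afdf5d3b9170477b41b099edab52ffaac35341ea880ed40955bdad041ee06b952d9bbd72409b79eb1b08c933cc14d9cc23527e438f51ed84d42f97b7572792099854ffa00dd665e323a47b8486cbc1e037b9af7d164a1575cb7142d6beca962b26d967205b243a308e30f1be8331f26dea7f78318c5ba347da9697e06df0b7ec4a41e0586ab365b64ba0e06f79fad880e5461a71d38ddf6106fa88c8eb97a2b519c6118871939460d4ceba912f2319465be4ca39faa718e06314ff29f552d9b29a686d5d729da480961c804590f0e119c934c74431b9ee58044a29448c2ab574bbd895484921653b6d6b38fd4e95f04c79a49ba)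
def DD : ℕ := (nat_lit 0xdefda6639503053d85839ab487de987b553b08cf6e4be10cbea8c2b4e1ecc61224281173e04d048d312f170242805708f282bf5751f44b924a314c35b1cb325879c8815c7b523159c2ab9f114e80b99565cec598ae474f4e536c9b40cafb68df1d7f35ac201e9556fc416f1f2f2a2d8b8726e701052ff275fca5d1cd6854c0686560b697cce2ae422b5c19a93447e08d211ce81a6dc0cc9ada006a042d8c5d5c83a7484e9fa1c087deeb37c084754b347c8e12b4891949e50d86304e0012f199472e6dbb57c2b4cda6f18d28df9deda896ef296d5f4229ee874269d2436d116736f679ae06f096c8ad7ac47c4c2d216f06ccea1dda70e9c749d7ae41415924247af8d82ff334d8f753cbfcb4328c322caa7292d8aaecb9993948125b927d9dd64ccf3addfa3bfecd611ca8451b72a3fbdcca04d16f1a0ac02118b2a7cf25cddf72774564d66ffa726834bff337ec01974691a2f2a61d1fc3d432fba223384057d545d47f0b508666893d3cb86806dc26d29a204eb47c6ff048af1cd9de7234e8e5ed0b6e077388683583bb8726645b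a7818f85e29869d44e203d6857756d721a61b4d430ee6e4a71007f55dae43826743a1e489e0ac5deea661a698e2e17bb6905082a7b5980077baf087b7a97d4bd035710759107030264b3cf773ba12e030337bbe3d710eb53c4cc54e568da3affa6941de8f3a4e5d079b364f28354d294fa6e8574d3b5daf90d09a8c5c242dd02ef4525ad2d842c6cf1605877d8c0701c4f5719b2fceae109b0c3ae36ab0fee334c2f1e6c65a32ee705effc21245fcb4627300966d79883a2cfd61d821b04a01e0f6dc1bf7a8650ee38b04ee1abe620d5fcac2286c947162f4c53be1ee607777c11cf618f091e377f236812a046044479e0395d476a7d152c41049e0a401bb013a6dd2a7a140ce2a3a138b816bc875f136d724e791f4d2985ab6856c2d7ba45ee6cf2c72655ff30bfc132488f025fba91ca113886c58e37fb05e073a89f27a9a62789e21575dbd256117428e8d0bae9f0d64ef271d60794750e152cf4650d08a77a2ace7a5a632872ff558c079855117ea084af5099a3c251270deda81a6231d29123e276e9b153177c27bb46451ad7a0172adc042c48c434ce81a955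2b192ed98787bf352fc0ce99084c49624b4652b59e319dbce6221ba32a39e1ce366911aa3fbdee4ae87ed9f3871de70eb71c1a4b343fc4c8d740ba3cd454908759885fd7b1c55ad60219d71eb721369f725d4b3425811d26a19c2c8941be31def81adeda319043909aa6271551d555c6ef944d5fb4ea675dd0973d4a17e94ce3cf825bbb376057d7b735bc2976b6a39942c24b578711dda82f5a1da0d6b89947e1d6f40a5ee13a581f607eedfa58c9a4dc10eaa2dd782a967dec664ed8b2b4136dcaeb13fe7b52ee85fd52bc1daa3733983aabb7bd7f5172c49ca75d3e0663a0d2044eeeffb8c3e847ee073741fc1f065a8338a003ec8519f9fb3e0e522d46a981ba4c4e2ce03afce73b9acf46a3a855bb0857d10d5bc83f073ce0a48e1214945f8c3226f0fb7377b277718c9c34765b81665e1ace73a9d8c8f27cb6b9645a394fbb1b886d618c6d70ffd8075d65d9dbaa22375770dcdb82736b020dee9c7b9a884aeb26549b9a9e9587f1e293414197c9429b2b99aa8f0cc39b566e3b2bf4598958679ef913786ae08610662db82f6fd564478bcdb33f895a3e7eb2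313e3eddb8839db552dcb3771f280d83ed627b095ca03438e6f21dfb093d33d658c403f26440eb4a0863fa5c3c32026f0e5ddc77ed7f4305d9eff3a2efdb00a9e73486c48663c959ee19cd843dea3b5179335ae6cbc2eddaf2fbc78b9d1587a27962b85b85ae1b3720fc427d8e64af7cc51aa2c59e54dddef0b865cfad2d802deb5fd443ca94be4facae0967a304e932e4ab1f97dbccf914e4d377c04a7d7b09cd36ee3bde393b4743ae3185c94b7be83e5b61b700cf12b129e4c91a699666f24cf0dfc4ad8641510f8d69e2e38febd45ff248a0d5d0a747bae92ca43a74da730fcf6bc8015ce37e942e5fdc9d70fc162c71af2b50339ea93db5cc870f50bc8a98367d95d897509522dc26c490fcb478ced72c7fef40e33c174b9f290ee2907536f6ae7256e8272b9244cbe8e76dce16e62ab1339fc92d10928c359d8f1fb368db9c4bdbb7bd1a3a87495ec7a119be966a6f46f76197847efb20776e81b3a13e17a1ddf56e29d8c3d456cdb5e5e278c06185f3b36903ce5b17a2bea1c94fe13757b17439b74b1e30fccb58a2858a2f1200c01855588959d3a7a0717c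c4a02bdd46bbfe42984e1bd3bb8f6fa0908b4566d6281a461417a01334a2f8fad0c1c14f19e7193287e4237ddce1aa2280eda005fac7a13ae734f91423baddc3e8921da023ebbb332e049c6cd459e37bb693169114fe4336969153c200ce3d69396988eff63505bf4d4ad3adced8f3c0e073d22873d8291039b4aa1941c4781a6a8facba3eca092d024d153b9c492dc47ab589491facbb0a92d26318fb85b3acb8fa9fc3d632fdfd2a45f45a007930e1e4ef92b41350456f509ad8069de64f0b43efb4fd0146974d14b2c6d135439681c9b5a9ad5cf44919dc4073f20af6fc7b831745ccd3750ee640fd26f5a3cc1c2883719343fe25945328b7e5c6a99d399e5e323621d0036aa0fa383a9f1c37f052dbea4b2981f96525ce1784cbf5dc836946775d74c54113e085a739881832c10e7d4665dcb2ab59a10d220a65cc4c474cda0a459da4cdf4731dbbf42a975ac2d78a42b0b22050af327d8ebebedbf288e6a7f6fd0f54cf8828e1d3cb579b4d2fe71fe09c3979ecf34ffa717f6bbc9e7e6eccbe3beef345f7462bf5e4f8aac1379bcd38b50f906b6e64f85d0567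d4eb5f8c4ddee196f081205fdb8137f030c36637ea90fef2dc1bc6ca660980d26306133695afe71e53d96350791c19b9fd92279db7b6391f873ca050acec031ebd3926ba3592ae9e9b0545b1eb47b4493aed5d328bd54c70f29960ffc92863fc57abba3c817ca87d4897ad5dd4835ab42a9fa0b1670b84559ecf7395d0a9e1e76ecd9f329c488f590f4298a666d54425c3a87fc27a690fe4af57e7d3f475967323dfa54a7251e87650e9910edc9fbaab01bafd81d22b3c3403aa12e7fd3501b3036a6f6b3bd751c095b5b1f05216e55d38f062bb01c5a78e8bbce279f13cab6314855d12b7d84193e07abf67856eba4986abf560a841757e343ee83cfd4e87a310ed5a78f6550bc205855893f0026ac08113c55a55234e15ced6f922b9dcc6c857744928a38028a81862384740525782a1bfa54d1908701a7503d2238ae726447ae86f552acf018ae0b506c6fa0ccce040b3fc3df2188c45b95ab9ff9a5ba25c10a6e99755966ecacd2b7327732100f251844d15de0808c1b6c33ca25255848b41b3d0c97bcbb2754748e8ef0bfb61ecfdea08598c4a7473059a8eb5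7b9d027b51b47470d145c43bce9a0ab5d482879a09ff7fb48daecda2f34b1d3fdd3de452e93fc5a885edb063114c99f2275df548bb16913cd0d7b0decf3bf5260c9a96acd56d6d53b9d3bee128391bb4efd93c77a6f73861fd0ee9a394dd895c3cf143298563a894e0120b4e18c8fab82a347822cf4572252a6fd5bb6fde296165f2ecf5761128405095758df7ffb109788a9a30765136cd8a70a8c3d5b18ce1c185e148997ddf89cdbd382b4a48e7124cf14b8a3f6711d525d3428a42c7c75f20f58ded10a0b271630c3fb0f046759fb5adb1bbc8cea7d650f2cfe846c8b445daae7589c2b9efbc2d53db9746eda053cc3554b07aa3a223dff8eb7931f7448ab6e7919dced69df6ac474f9d4419ae6a2df6e987f2b133d1524d0227b595f05aab54cff83105a50b03e6ceb07e321c0a942d6a4322b6efe306a6a482707bfa9ea7b948e3956d2334e2754a84128b528b69497af7e8167f12668ad5c7fdec4d6c89699206ff888f7871592b55ea9ae347928fd26d7f904509a5f8b813dc868d45c81c6c691838ab374e668bc4004380d630924ab4540777ac8936438c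991e7affd7e216f34775ab1c103510aa0615adab6276152d929bb08894cce84ff6937047198d75c591647769630c324d8c42f8e1a12dcf7091fb6ec8b8ef189b3606e21092c786a1004ed0851ecbdf4aae9324602415c0bfab8646f5dc5365907733843536e14dcb27c03b1f00180dc08359ba027f0f5c906ae3af3cf8ee3a205b7872bada698eb59bc180a8af2c0a6bbce6e27ca414b260b33325789e7e2e328b619a2516a0f08efb31bdc24c41c22afa84d66d240c995c137c26c92fb6af30ff5df5aaa607579e8a805ac76cf707828e2955a4c2f5d8090471525a586fdece0749fce5fbfe514da6588cb28a676318c0a9e4970717f938631b4cde8fc13c56a665381972812407c842abd8102bdcf2f1481ce506e99d180e9a228df6dfe0ef269baef2340ad861e4fde512ea92361b8b1b2ee1e8a1e1770541c4199186b767fe4c98ac841d235d648dd0862c07252f1911a72be4604aeb4982181e6212c62ea985b3074bbbd481bfa04dde0f48e961aac21077c3915e227a0d2c9dadfa7dd697e314847d78997b3d224d03cccc91d85189c46faac98ef35bf1a77cfefd76df76b3b880521d2b1cdf12d8710b8356ae75f458d03f051b65796799dacf0e806e766e804876d35149d0afda674f1a8505f9c96261cca39268028fb256c40cd87a5339671f827014dc0e724e6df6093fdce4b4a22372416db6d2e7115421a9333e47cfef5237b55a641660d11e6a22b08a8349d7aa7d2f3d01d225fc52a665f5f05665bc773)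
noncomputable def stp : Col → ℕ → ℕ := fun c q => Nat.add (Nat.mod (Col.rec (motive := fun _ => ℕ) T_a T_b T_c T_d T_e T_f T_g c) q) (nat_lit 32768)
noncomputable def tau : Col → ℕ → ℕ := fun c q => (Nat.mod (Col.rec (motive := fun _ => ℕ) U_a U_b U_c U_d U_e U_f U_g c) q)
noncomputable def del : Col → ℕ → ℕ := fun c q => (Nat.mod (Col.rec (motive := fun _ => ℕ) V_a V_b V_c V_d V_e V_f V_g c) q)
noncomputable def PT : ℕ → ℕ := fun q => Nat.add (Nat.mod PP q) (nat_lit 32768)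
noncomputable def DT : ℕ → ℕ := fun q => (Nat.mod DD q)
noncomputable def L_0 : Tr ℕ := (Tr.nd (nat_lit 42131) (Tr.nd (nat_lit 37369) (Tr.nd (nat_lit 35051) (Tr.nd (nat_lit 33829) (Tr.nd (nat_lit 33329) (Tr.nd (nat_lit 33023) (Tr.nd (nat_lit 32909) (Tr.nd (nat_lit 32803) (Tr.nd (nat_lit 32789) (Tr.nd (nat_lit 32779) (Tr.lf (nat_lit 32771)) (Tr.nd (nat_lit 32783) (Tr.lf (nat_lit 32779)) (Tr.lf (nat_lit 32783)))) (Tr.nd (nat_lit 32797) (Tr.lf (nat_lit 32789)) (Tr.nd (nat_lit 32801) (Tr.lf (nat_lit 32797)) (Tr.lf (nat_lit 32801))))) (Tr.nd (nat_lit 32839) (Tr.nd (nat_lit 32831) (Tr.lf (nat_lit 32803)) (Tr.nd (nat_lit 32833) (Tr.lf (nat_lit 32831)) (Tr.lf (nat_lit 32833)))) (Tr.nd (nat_lit 32869) (Tr.nd (nat_lit 32843) (Tr.lf (nat_lit 32839)) (Tr.lf (nat_lit 32843))) (Tr.nd (nat_lit 32887) (Tr.lf (nat_lit 32869)) (Tr.lf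 (nat_lit 32887)))))) (Tr.nd (nat_lit 32969) (Tr.nd (nat_lit 32933) (Tr.nd (nat_lit 32911) (Tr.lf (nat_lit 32909)) (Tr.nd (nat_lit 32917) (Tr.lf (nat_lit 32911)) (Tr.lf (nat_lit 32917)))) (Tr.nd (nat_lit 32941) (Tr.nd (nat_lit 32939) (Tr.lf (nat_lit 32933)) (Tr.lf (nat_lit 32939))) (Tr.nd (nat_lit 32957) (Tr.lf (nat_lit 32941)) (Tr.lf (nat_lit 32957))))) (Tr.nd (nat_lit 32987) (Tr.nd (nat_lit 32971) (Tr.lf (nat_lit 32969)) (Tr.nd (nat_lit 32983) (Tr.lf (nat_lit 32971)) (Tr.lf (nat_lit 32983)))) (Tr.nd (nat_lit 32999) (Tr.nd (nat_lit 32993) (Tr.lf (nat_lit 32987)) (Tr.lf (nat_lit 32993))) (Tr.nd (nat_lit 33013) (Tr.lf (nat_lit 32999)) (Tr.lf (nat_lit 33013))))))) (Tr.nd (nat_lit 33161) (Tr.nd (nat_lit 33083) (Tr.nd (nat_lit 33049) (Tr.nd (nat_lit 33029) (Tr.lf (nat_lit 33023)) (Tr.nd (nat_lit 33037) (Tr.lf (nat_lit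 33029)) (Tr.lf (nat_lit 33037)))) (Tr.nd (nat_lit 33071) (Tr.nd (nat_lit 33053) (Tr.lf (nat_lit 33049)) (Tr.lf (nat_lit 33053))) (Tr.nd (nat_lit 33073) (Tr.lf (nat_lit 33071)) (Tr.lf (nat_lit 33073))))) (Tr.nd (nat_lit 33113) (Tr.nd (nat_lit 33091) (Tr.lf (nat_lit 33083)) (Tr.nd (nat_lit 33107) (Tr.lf (nat_lit 33091)) (Tr.lf (nat_lit 33107)))) (Tr.nd (nat_lit 33149) (Tr.nd (nat_lit 33119) (Tr.lf (nat_lit 33113)) (Tr.lf (nat_lit 33119))) (Tr.nd (nat_lit 33151) (Tr.lf (nat_lit 33149)) (Tr.lf (nat_lit 33151)))))) (Tr.nd (nat_lit 33223) (Tr.nd (nat_lit 33191) (Tr.nd (nat_lit 33179) (Tr.lf (nat_lit 33161)) (Tr.nd (nat_lit 33181) (Tr.lf (nat_lit 33179)) (Tr.lf (nat_lit 33181)))) (Tr.nd (nat_lit 33203) (Tr.nd (nat_lit 33199) (Tr.lf (nat_lit 33191)) (Tr.lf (nat_lit 33199))) (Tr.nd (nat_lit 33211) (Tr.lf (nat_lit 33203))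 (Tr.lf (nat_lit 33211))))) (Tr.nd (nat_lit 33289) (Tr.nd (nat_lit 33247) (Tr.lf (nat_lit 33223)) (Tr.nd (nat_lit 33287) (Tr.lf (nat_lit 33247)) (Tr.lf (nat_lit 33287)))) (Tr.nd (nat_lit 33311) (Tr.nd (nat_lit 33301) (Tr.lf (nat_lit 33289)) (Tr.lf (nat_lit 33301))) (Tr.nd (nat_lit 33317) (Tr.lf (nat_lit 33311)) (Tr.lf (nat_lit 33317)))))))) (Tr.nd (nat_lit 33587) (Tr.nd (nat_lit 33461) (Tr.nd (nat_lit 33377) (Tr.nd (nat_lit 33347) (Tr.nd (nat_lit 33331) (Tr.lf (nat_lit 33329)) (Tr.nd (nat_lit 33343) (Tr.lf (nat_lit 33331)) (Tr.lf (nat_lit 33343)))) (Tr.nd (nat_lit 33353) (Tr.nd (nat_lit 33349) (Tr.lf (nat_lit 33347)) (Tr.lf (nat_lit 33349))) (Tr.nd (nat_lit 33359) (Tr.lf (nat_lit 33353)) (Tr.lf (nat_lit 33359))))) (Tr.nd (nat_lit 33409) (Tr.nd (nat_lit 33391) (Tr.lf (nat_lit 33377)) (Tr.nd (nat_lit 33403) (Tr.lf (nat_lit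 33391)) (Tr.lf (nat_lit 33403)))) (Tr.nd (nat_lit 33427) (Tr.nd (nat_lit 33413) (Tr.lf (nat_lit 33409)) (Tr.lf (nat_lit 33413))) (Tr.nd (nat_lit 33457) (Tr.lf (nat_lit 33427)) (Tr.lf (nat_lit 33457)))))) (Tr.nd (nat_lit 33529) (Tr.nd (nat_lit 33487) (Tr.nd (nat_lit 33469) (Tr.lf (nat_lit 33461)) (Tr.nd (nat_lit 33479) (Tr.lf (nat_lit 33469)) (Tr.lf (nat_lit 33479)))) (Tr.nd (nat_lit 33503) (Tr.nd (nat_lit 33493) (Tr.lf (nat_lit 33487)) (Tr.lf (nat_lit 33493))) (Tr.nd (nat_lit 33521) (Tr.lf (nat_lit 33503)) (Tr.lf (nat_lit 33521))))) (Tr.nd (nat_lit 33563) (Tr.nd (nat_lit 33533) (Tr.lf (nat_lit 33529)) (Tr.nd (nat_lit 33547) (Tr.lf (nat_lit 33533)) (Tr.lf (nat_lit 33547)))) (Tr.nd (nat_lit 33577) (Tr.nd (nat_lit 33569) (Tr.lf (nat_lit 33563)) (Tr.lf (nat_lit 33569))) (Tr.nd (nat_lit 33581) (Tr.lf (nat_lit 33577))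 (Tr.lf (nat_lit 33581))))))) (Tr.nd (nat_lit 33713) (Tr.nd (nat_lit 33623) (Tr.nd (nat_lit 33601) (Tr.nd (nat_lit 33589) (Tr.lf (nat_lit 33587)) (Tr.nd (nat_lit 33599) (Tr.lf (nat_lit 33589)) (Tr.lf (nat_lit 33599)))) (Tr.nd (nat_lit 33617) (Tr.nd (nat_lit 33613) (Tr.lf (nat_lit 33601)) (Tr.lf (nat_lit 33613))) (Tr.nd (nat_lit 33619) (Tr.lf (nat_lit 33617)) (Tr.lf (nat_lit 33619))))) (Tr.nd (nat_lit 33641) (Tr.nd (nat_lit 33629) (Tr.lf (nat_lit 33623)) (Tr.nd (nat_lit 33637) (Tr.lf (nat_lit 33629)) (Tr.lf (nat_lit 33637)))) (Tr.nd (nat_lit 33679) (Tr.nd (nat_lit 33647) (Tr.lf (nat_lit 33641)) (Tr.lf (nat_lit 33647))) (Tr.nd (nat_lit 33703) (Tr.lf (nat_lit 33679)) (Tr.lf (nat_lit 33703)))))) (Tr.nd (nat_lit 33769) (Tr.nd (nat_lit 33749) (Tr.nd (nat_lit 33721) (Tr.lf (nat_lit 33713)) (Tr.nd (nat_lit 33739) (Tr.lf (nat_lit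 33721)) (Tr.lf (nat_lit 33739)))) (Tr.nd (nat_lit 33757) (Tr.nd (nat_lit 33751) (Tr.lf (nat_lit 33749)) (Tr.lf (nat_lit 33751))) (Tr.nd (nat_lit 33767) (Tr.lf (nat_lit 33757)) (Tr.lf (nat_lit 33767))))) (Tr.nd (nat_lit 33797) (Tr.nd (nat_lit 33773) (Tr.lf (nat_lit 33769)) (Tr.nd (nat_lit 33791) (Tr.lf (nat_lit 33773)) (Tr.lf (nat_lit 33791)))) (Tr.nd (nat_lit 33811) (Tr.nd (nat_lit 33809) (Tr.lf (nat_lit 33797)) (Tr.lf (nat_lit 33809))) (Tr.nd (nat_lit 33827) (Tr.lf (nat_lit 33811)) (Tr.lf (nat_lit 33827))))))))) (Tr.nd (nat_lit 34439) (Tr.nd (nat_lit 34159) (Tr.nd (nat_lit 33967) (Tr.nd (nat_lit 33893) (Tr.nd (nat_lit 33863) (Tr.nd (nat_lit 33851) (Tr.lf (nat_lit 33829)) (Tr.nd (nat_lit 33857) (Tr.lf (nat_lit 33851)) (Tr.lf (nat_lit 33857)))) (Tr.nd (nat_lit 33871) (Tr.lf (nat_lit 33863)) (Tr.nd (nat_lit 33889)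 (Tr.lf (nat_lit 33871)) (Tr.lf (nat_lit 33889))))) (Tr.nd (nat_lit 33931) (Tr.nd (nat_lit 33911) (Tr.lf (nat_lit 33893)) (Tr.nd (nat_lit 33923) (Tr.lf (nat_lit 33911)) (Tr.lf (nat_lit 33923)))) (Tr.nd (nat_lit 33941) (Tr.nd (nat_lit 33937) (Tr.lf (nat_lit 33931)) (Tr.lf (nat_lit 33937))) (Tr.nd (nat_lit 33961) (Tr.lf (nat_lit 33941)) (Tr.lf (nat_lit 33961)))))) (Tr.nd (nat_lit 34061) (Tr.nd (nat_lit 34031) (Tr.nd (nat_lit 33997) (Tr.lf (nat_lit 33967)) (Tr.nd (nat_lit 34019) (Tr.lf (nat_lit 33997)) (Tr.lf (nat_lit 34019)))) (Tr.nd (nat_lit 34039) (Tr.nd (nat_lit 34033) (Tr.lf (nat_lit 34031)) (Tr.lf (nat_lit 34033))) (Tr.nd (nat_lit 34057) (Tr.lf (nat_lit 34039)) (Tr.lf (nat_lit 34057))))) (Tr.nd (nat_lit 34129) (Tr.nd (nat_lit 34123) (Tr.lf (nat_lit 34061)) (Tr.nd (nat_lit 34127) (Tr.lf (nat_lit 34123)) (Tr.lf (nat_lit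 34127)))) (Tr.nd (nat_lit 34147) (Tr.nd (nat_lit 34141) (Tr.lf (nat_lit 34129)) (Tr.lf (nat_lit 34141))) (Tr.nd (nat_lit 34157) (Tr.lf (nat_lit 34147)) (Tr.lf (nat_lit 34157))))))) (Tr.nd (nat_lit 34301) (Tr.nd (nat_lit 34253) (Tr.nd (nat_lit 34211) (Tr.nd (nat_lit 34171) (Tr.lf (nat_lit 34159)) (Tr.nd (nat_lit 34183) (Tr.lf (nat_lit 34171)) (Tr.lf (nat_lit 34183)))) (Tr.nd (nat_lit 34217) (Tr.nd (nat_lit 34213) (Tr.lf (nat_lit 34211)) (Tr.lf (nat_lit 34213))) (Tr.nd (nat_lit 34231) (Tr.lf (nat_lit 34217)) (Tr.lf (nat_lit 34231))))) (Tr.nd (nat_lit 34267) (Tr.nd (nat_lit 34259) (Tr.lf (nat_lit 34253)) (Tr.nd (nat_lit 34261) (Tr.lf (nat_lit 34259)) (Tr.lf (nat_lit 34261)))) (Tr.nd (nat_lit 34283) (Tr.nd (nat_lit 34273) (Tr.lf (nat_lit 34267)) (Tr.lf (nat_lit 34273))) (Tr.nd (nat_lit 34297) (Tr.lf (nat_lit 34283))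 (Tr.lf (nat_lit 34297)))))) (Tr.nd (nat_lit 34361) (Tr.nd (nat_lit 34319) (Tr.nd (nat_lit 34303) (Tr.lf (nat_lit 34301)) (Tr.nd (nat_lit 34313) (Tr.lf (nat_lit 34303)) (Tr.lf (nat_lit 34313)))) (Tr.nd (nat_lit 34337) (Tr.nd (nat_lit 34327) (Tr.lf (nat_lit 34319)) (Tr.lf (nat_lit 34327))) (Tr.nd (nat_lit 34351) (Tr.lf (nat_lit 34337)) (Tr.lf (nat_lit 34351))))) (Tr.nd (nat_lit 34381) (Tr.nd (nat_lit 34367) (Tr.lf (nat_lit 34361)) (Tr.nd (nat_lit 34369) (Tr.lf (nat_lit 34367)) (Tr.lf (nat_lit 34369)))) (Tr.nd (nat_lit 34421) (Tr.nd (nat_lit 34403) (Tr.lf (nat_lit 34381)) (Tr.lf (nat_lit 34403))) (Tr.nd (nat_lit 34429) (Tr.lf (nat_lit 34421)) (Tr.lf (nat_lit 34429)))))))) (Tr.nd (nat_lit 34703) (Tr.nd (nat_lit 34583) (Tr.nd (nat_lit 34501) (Tr.nd (nat_lit 34471) (Tr.nd (nat_lit 34457) (Tr.lf (nat_lit 34439)) (Tr.nd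 (nat_lit 34469) (Tr.lf (nat_lit 34457)) (Tr.lf (nat_lit 34469)))) (Tr.nd (nat_lit 34487) (Tr.nd (nat_lit 34483) (Tr.lf (nat_lit 34471)) (Tr.lf (nat_lit 34483))) (Tr.nd (nat_lit 34499) (Tr.lf (nat_lit 34487)) (Tr.lf (nat_lit 34499))))) (Tr.nd (nat_lit 34519) (Tr.nd (nat_lit 34511) (Tr.lf (nat_lit 34501)) (Tr.nd (nat_lit 34513) (Tr.lf (nat_lit 34511)) (Tr.lf (nat_lit 34513)))) (Tr.nd (nat_lit 34543) (Tr.nd (nat_lit 34537) (Tr.lf (nat_lit 34519)) (Tr.lf (nat_lit 34537))) (Tr.nd (nat_lit 34549) (Tr.lf (nat_lit 34543)) (Tr.lf (nat_lit 34549)))))) (Tr.nd (nat_lit 34649) (Tr.nd (nat_lit 34603) (Tr.nd (nat_lit 34589) (Tr.lf (nat_lit 34583)) (Tr.nd (nat_lit 34591) (Tr.lf (nat_lit 34589)) (Tr.lf (nat_lit 34591)))) (Tr.nd (nat_lit 34613) (Tr.nd (nat_lit 34607) (Tr.lf (nat_lit 34603)) (Tr.lf (nat_lit 34607))) (Tr.nd (nat_lit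 34631) (Tr.lf (nat_lit 34613)) (Tr.lf (nat_lit 34631))))) (Tr.nd (nat_lit 34673) (Tr.nd (nat_lit 34651) (Tr.lf (nat_lit 34649)) (Tr.nd (nat_lit 34667) (Tr.lf (nat_lit 34651)) (Tr.lf (nat_lit 34667)))) (Tr.nd (nat_lit 34687) (Tr.nd (nat_lit 34679) (Tr.lf (nat_lit 34673)) (Tr.lf (nat_lit 34679))) (Tr.nd (nat_lit 34693) (Tr.lf (nat_lit 34687)) (Tr.lf (nat_lit 34693))))))) (Tr.nd (nat_lit 34849) (Tr.nd (nat_lit 34763) (Tr.nd (nat_lit 34739) (Tr.nd (nat_lit 34721) (Tr.lf (nat_lit 34703)) (Tr.nd (nat_lit 34729) (Tr.lf (nat_lit 34721)) (Tr.lf (nat_lit 34729)))) (Tr.nd (nat_lit 34757) (Tr.nd (nat_lit 34747) (Tr.lf (nat_lit 34739)) (Tr.lf (nat_lit 34747))) (Tr.nd (nat_lit 34759) (Tr.lf (nat_lit 34757)) (Tr.lf (nat_lit 34759))))) (Tr.nd (nat_lit 34819) (Tr.nd (nat_lit 34781) (Tr.lf (nat_lit 34763)) (Tr.nd (nat_lit 34807) (Tr.lf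 (nat_lit 34781)) (Tr.lf (nat_lit 34807)))) (Tr.nd (nat_lit 34843) (Tr.nd (nat_lit 34841) (Tr.lf (nat_lit 34819)) (Tr.lf (nat_lit 34841))) (Tr.nd (nat_lit 34847) (Tr.lf (nat_lit 34843)) (Tr.lf (nat_lit 34847)))))) (Tr.nd (nat_lit 34939) (Tr.nd (nat_lit 34883) (Tr.nd (nat_lit 34871) (Tr.lf (nat_lit 34849)) (Tr.nd (nat_lit 34877) (Tr.lf (nat_lit 34871)) (Tr.lf (nat_lit 34877)))) (Tr.nd (nat_lit 34913) (Tr.nd (nat_lit 34897) (Tr.lf (nat_lit 34883)) (Tr.lf (nat_lit 34897))) (Tr.nd (nat_lit 34919) (Tr.lf (nat_lit 34913)) (Tr.lf (nat_lit 34919))))) (Tr.nd (nat_lit 34963) (Tr.nd (nat_lit 34949) (Tr.lf (nat_lit 34939)) (Tr.nd (nat_lit 34961) (Tr.lf (nat_lit 34949)) (Tr.lf (nat_lit 34961)))) (Tr.nd (nat_lit 35023) (Tr.nd (nat_lit 34981) (Tr.lf (nat_lit 34963)) (Tr.lf (nat_lit 34981))) (Tr.nd (nat_lit 35027) (Tr.lf (nat_lit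 35023)) (Tr.lf (nat_lit 35027)))))))))) (Tr.nd (nat_lit 36241) (Tr.nd (nat_lit 35593) (Tr.nd (nat_lit 35317) (Tr.nd (nat_lit 35149) (Tr.nd (nat_lit 35089) (Tr.nd (nat_lit 35069) (Tr.nd (nat_lit 35053) (Tr.lf (nat_lit 35051)) (Tr.nd (nat_lit 35059) (Tr.lf (nat_lit 35053)) (Tr.lf (nat_lit 35059)))) (Tr.nd (nat_lit 35081) (Tr.lf (nat_lit 35069)) (Tr.nd (nat_lit 35083) (Tr.lf (nat_lit 35081)) (Tr.lf (nat_lit 35083))))) (Tr.nd (nat_lit 35111) (Tr.nd (nat_lit 35099) (Tr.lf (nat_lit 35089)) (Tr.nd (nat_lit 35107) (Tr.lf (nat_lit 35099)) (Tr.lf (nat_lit 35107)))) (Tr.nd (nat_lit 35129) (Tr.nd (nat_lit 35117) (Tr.lf (nat_lit 35111)) (Tr.lf (nat_lit 35117))) (Tr.nd (nat_lit 35141) (Tr.lf (nat_lit 35129)) (Tr.lf (nat_lit 35141)))))) (Tr.nd (nat_lit 35251) (Tr.nd (nat_lit 35171) (Tr.nd (nat_lit 35153) (Tr.lf (nat_lit 35149))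 (Tr.nd (nat_lit 35159) (Tr.lf (nat_lit 35153)) (Tr.lf (nat_lit 35159)))) (Tr.nd (nat_lit 35221) (Tr.nd (nat_lit 35201) (Tr.lf (nat_lit 35171)) (Tr.lf (nat_lit 35201))) (Tr.nd (nat_lit 35227) (Tr.lf (nat_lit 35221)) (Tr.lf (nat_lit 35227))))) (Tr.nd (nat_lit 35279) (Tr.nd (nat_lit 35257) (Tr.lf (nat_lit 35251)) (Tr.nd (nat_lit 35267) (Tr.lf (nat_lit 35257)) (Tr.lf (nat_lit 35267)))) (Tr.nd (nat_lit 35291) (Tr.nd (nat_lit 35281) (Tr.lf (nat_lit 35279)) (Tr.lf (nat_lit 35281))) (Tr.nd (nat_lit 35311) (Tr.lf (nat_lit 35291)) (Tr.lf (nat_lit 35311))))))) (Tr.nd (nat_lit 35449) (Tr.nd (nat_lit 35393) (Tr.nd (nat_lit 35339) (Tr.nd (nat_lit 35323) (Tr.lf (nat_lit 35317)) (Tr.nd (nat_lit 35327) (Tr.lf (nat_lit 35323)) (Tr.lf (nat_lit 35327)))) (Tr.nd (nat_lit 35363) (Tr.nd (nat_lit 35353) (Tr.lf (nat_lit 35339)) (Tr.lf (nat_lit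 35353))) (Tr.nd (nat_lit 35381) (Tr.lf (nat_lit 35363)) (Tr.lf (nat_lit 35381))))) (Tr.nd (nat_lit 35419) (Tr.nd (nat_lit 35401) (Tr.lf (nat_lit 35393)) (Tr.nd (nat_lit 35407) (Tr.lf (nat_lit 35401)) (Tr.lf (nat_lit 35407)))) (Tr.nd (nat_lit 35437) (Tr.nd (nat_lit 35423) (Tr.lf (nat_lit 35419)) (Tr.lf (nat_lit 35423))) (Tr.nd (nat_lit 35447) (Tr.lf (nat_lit 35437)) (Tr.lf (nat_lit 35447)))))) (Tr.nd (nat_lit 35531) (Tr.nd (nat_lit 35507) (Tr.nd (nat_lit 35461) (Tr.lf (nat_lit 35449)) (Tr.nd (nat_lit 35491) (Tr.lf (nat_lit 35461)) (Tr.lf (nat_lit 35491)))) (Tr.nd (nat_lit 35521) (Tr.nd (nat_lit 35509) (Tr.lf (nat_lit 35507)) (Tr.lf (nat_lit 35509))) (Tr.nd (nat_lit 35527) (Tr.lf (nat_lit 35521)) (Tr.lf (nat_lit 35527))))) (Tr.nd (nat_lit 35543) (Tr.nd (nat_lit 35533) (Tr.lf (nat_lit 35531)) (Tr.nd (nat_lit 35537)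 (Tr.lf (nat_lit 35533)) (Tr.lf (nat_lit 35537)))) (Tr.nd (nat_lit 35573) (Tr.nd (nat_lit 35569) (Tr.lf (nat_lit 35543)) (Tr.lf (nat_lit 35569))) (Tr.nd (nat_lit 35591) (Tr.lf (nat_lit 35573)) (Tr.lf (nat_lit 35591)))))))) (Tr.nd (nat_lit 35951) (Tr.nd (nat_lit 35803) (Tr.nd (nat_lit 35731) (Tr.nd (nat_lit 35617) (Tr.nd (nat_lit 35597) (Tr.lf (nat_lit 35593)) (Tr.nd (nat_lit 35603) (Tr.lf (nat_lit 35597)) (Tr.lf (nat_lit 35603)))) (Tr.nd (nat_lit 35677) (Tr.nd (nat_lit 35671) (Tr.lf (nat_lit 35617)) (Tr.lf (nat_lit 35671))) (Tr.nd (nat_lit 35729) (Tr.lf (nat_lit 35677)) (Tr.lf (nat_lit 35729))))) (Tr.nd (nat_lit 35759) (Tr.nd (nat_lit 35747) (Tr.lf (nat_lit 35731)) (Tr.nd (nat_lit 35753) (Tr.lf (nat_lit 35747)) (Tr.lf (nat_lit 35753)))) (Tr.nd (nat_lit 35797) (Tr.nd (nat_lit 35771) (Tr.lf (nat_lit 35759)) (Tr.lf (nat_lit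 35771))) (Tr.nd (nat_lit 35801) (Tr.lf (nat_lit 35797)) (Tr.lf (nat_lit 35801)))))) (Tr.nd (nat_lit 35869) (Tr.nd (nat_lit 35837) (Tr.nd (nat_lit 35809) (Tr.lf (nat_lit 35803)) (Tr.nd (nat_lit 35831) (Tr.lf (nat_lit 35809)) (Tr.lf (nat_lit 35831)))) (Tr.nd (nat_lit 35851) (Tr.nd (nat_lit 35839) (Tr.lf (nat_lit 35837)) (Tr.lf (nat_lit 35839))) (Tr.nd (nat_lit 35863) (Tr.lf (nat_lit 35851)) (Tr.lf (nat_lit 35863))))) (Tr.nd (nat_lit 35899) (Tr.nd (nat_lit 35879) (Tr.lf (nat_lit 35869)) (Tr.nd (nat_lit 35897) (Tr.lf (nat_lit 35879)) (Tr.lf (nat_lit 35897)))) (Tr.nd (nat_lit 35923) (Tr.nd (nat_lit 35911) (Tr.lf (nat_lit 35899)) (Tr.lf (nat_lit 35911))) (Tr.nd (nat_lit 35933) (Tr.lf (nat_lit 35923)) (Tr.lf (nat_lit 35933))))))) (Tr.nd (nat_lit 36073) (Tr.nd (nat_lit 36007) (Tr.nd (nat_lit 35977) (Tr.nd (nat_lit 35963)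 (Tr.lf (nat_lit 35951)) (Tr.nd (nat_lit 35969) (Tr.lf (nat_lit 35963)) (Tr.lf (nat_lit 35969)))) (Tr.nd (nat_lit 35993) (Tr.nd (nat_lit 35983) (Tr.lf (nat_lit 35977)) (Tr.lf (nat_lit 35983))) (Tr.nd (nat_lit 35999) (Tr.lf (nat_lit 35993)) (Tr.lf (nat_lit 35999))))) (Tr.nd (nat_lit 36017) (Tr.nd (nat_lit 36011) (Tr.lf (nat_lit 36007)) (Tr.nd (nat_lit 36013) (Tr.lf (nat_lit 36011)) (Tr.lf (nat_lit 36013)))) (Tr.nd (nat_lit 36061) (Tr.nd (nat_lit 36037) (Tr.lf (nat_lit 36017)) (Tr.lf (nat_lit 36037))) (Tr.nd (nat_lit 36067) (Tr.lf (nat_lit 36061)) (Tr.lf (nat_lit 36067)))))) (Tr.nd (nat_lit 36151) (Tr.nd (nat_lit 36107) (Tr.nd (nat_lit 36083) (Tr.lf (nat_lit 36073)) (Tr.nd (nat_lit 36097) (Tr.lf (nat_lit 36083)) (Tr.lf (nat_lit 36097)))) (Tr.nd (nat_lit 36131) (Tr.nd (nat_lit 36109) (Tr.lf (nat_lit 36107)) (Tr.lf (nat_lit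 36109))) (Tr.nd (nat_lit 36137) (Tr.lf (nat_lit 36131)) (Tr.lf (nat_lit 36137))))) (Tr.nd (nat_lit 36191) (Tr.nd (nat_lit 36161) (Tr.lf (nat_lit 36151)) (Tr.nd (nat_lit 36187) (Tr.lf (nat_lit 36161)) (Tr.lf (nat_lit 36187)))) (Tr.nd (nat_lit 36217) (Tr.nd (nat_lit 36209) (Tr.lf (nat_lit 36191)) (Tr.lf (nat_lit 36209))) (Tr.nd (nat_lit 36229) (Tr.lf (nat_lit 36217)) (Tr.lf (nat_lit 36229))))))))) (Tr.nd (nat_lit 36791) (Tr.nd (nat_lit 36541) (Tr.nd (nat_lit 36383) (Tr.nd (nat_lit 36307) (Tr.nd (nat_lit 36269) (Tr.nd (nat_lit 36251) (Tr.lf (nat_lit 36241)) (Tr.nd (nat_lit 36263) (Tr.lf (nat_lit 36251)) (Tr.lf (nat_lit 36263)))) (Tr.nd (nat_lit 36293) (Tr.nd (nat_lit 36277) (Tr.lf (nat_lit 36269)) (Tr.lf (nat_lit 36277))) (Tr.nd (nat_lit 36299) (Tr.lf (nat_lit 36293)) (Tr.lf (nat_lit 36299))))) (Tr.nd (nat_lit 36341)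 (Tr.nd (nat_lit 36313) (Tr.lf (nat_lit 36307)) (Tr.nd (nat_lit 36319) (Tr.lf (nat_lit 36313)) (Tr.lf (nat_lit 36319)))) (Tr.nd (nat_lit 36353) (Tr.nd (nat_lit 36343) (Tr.lf (nat_lit 36341)) (Tr.lf (nat_lit 36343))) (Tr.nd (nat_lit 36373) (Tr.lf (nat_lit 36353)) (Tr.lf (nat_lit 36373)))))) (Tr.nd (nat_lit 36473) (Tr.nd (nat_lit 36451) (Tr.nd (nat_lit 36389) (Tr.lf (nat_lit 36383)) (Tr.nd (nat_lit 36433) (Tr.lf (nat_lit 36389)) (Tr.lf (nat_lit 36433)))) (Tr.nd (nat_lit 36467) (Tr.nd (nat_lit 36457) (Tr.lf (nat_lit 36451)) (Tr.lf (nat_lit 36457))) (Tr.nd (nat_lit 36469) (Tr.lf (nat_lit 36467)) (Tr.lf (nat_lit 36469))))) (Tr.nd (nat_lit 36497) (Tr.nd (nat_lit 36479) (Tr.lf (nat_lit 36473)) (Tr.nd (nat_lit 36493) (Tr.lf (nat_lit 36479)) (Tr.lf (nat_lit 36493)))) (Tr.nd (nat_lit 36527) (Tr.nd (nat_lit 36523) (Tr.lf (nat_lit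 36497)) (Tr.lf (nat_lit 36523))) (Tr.nd (nat_lit 36529) (Tr.lf (nat_lit 36527)) (Tr.lf (nat_lit 36529))))))) (Tr.nd (nat_lit 36677) (Tr.nd (nat_lit 36599) (Tr.nd (nat_lit 36563) (Tr.nd (nat_lit 36551) (Tr.lf (nat_lit 36541)) (Tr.nd (nat_lit 36559) (Tr.lf (nat_lit 36551)) (Tr.lf (nat_lit 36559)))) (Tr.nd (nat_lit 36583) (Tr.nd (nat_lit 36571) (Tr.lf (nat_lit 36563)) (Tr.lf (nat_lit 36571))) (Tr.nd (nat_lit 36587) (Tr.lf (nat_lit 36583)) (Tr.lf (nat_lit 36587))))) (Tr.nd (nat_lit 36637) (Tr.nd (nat_lit 36607) (Tr.lf (nat_lit 36599)) (Tr.nd (nat_lit 36629) (Tr.lf (nat_lit 36607)) (Tr.lf (nat_lit 36629)))) (Tr.nd (nat_lit 36653) (Tr.nd (nat_lit 36643) (Tr.lf (nat_lit 36637)) (Tr.lf (nat_lit 36643))) (Tr.nd (nat_lit 36671) (Tr.lf (nat_lit 36653)) (Tr.lf (nat_lit 36671)))))) (Tr.nd (nat_lit 36739) (Tr.nd (nat_lit 36697)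 (Tr.nd (nat_lit 36683) (Tr.lf (nat_lit 36677)) (Tr.nd (nat_lit 36691) (Tr.lf (nat_lit 36683)) (Tr.lf (nat_lit 36691)))) (Tr.nd (nat_lit 36713) (Tr.nd (nat_lit 36709) (Tr.lf (nat_lit 36697)) (Tr.lf (nat_lit 36709))) (Tr.nd (nat_lit 36721) (Tr.lf (nat_lit 36713)) (Tr.lf (nat_lit 36721))))) (Tr.nd (nat_lit 36767) (Tr.nd (nat_lit 36749) (Tr.lf (nat_lit 36739)) (Tr.nd (nat_lit 36761) (Tr.lf (nat_lit 36749)) (Tr.lf (nat_lit 36761)))) (Tr.nd (nat_lit 36781) (Tr.nd (nat_lit 36779) (Tr.lf (nat_lit 36767)) (Tr.lf (nat_lit 36779))) (Tr.nd (nat_lit 36787) (Tr.lf (nat_lit 36781)) (Tr.lf (nat_lit 36787)))))))) (Tr.nd (nat_lit 37057) (Tr.nd (nat_lit 36923) (Tr.nd (nat_lit 36871) (Tr.nd (nat_lit 36821) (Tr.nd (nat_lit 36793) (Tr.lf (nat_lit 36791)) (Tr.nd (nat_lit 36809) (Tr.lf (nat_lit 36793)) (Tr.lf (nat_lit 36809)))) (Tr.nd (nat_lit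 36847) (Tr.nd (nat_lit 36833) (Tr.lf (nat_lit 36821)) (Tr.lf (nat_lit 36833))) (Tr.nd (nat_lit 36857) (Tr.lf (nat_lit 36847)) (Tr.lf (nat_lit 36857))))) (Tr.nd (nat_lit 36899) (Tr.nd (nat_lit 36877) (Tr.lf (nat_lit 36871)) (Tr.nd (nat_lit 36887) (Tr.lf (nat_lit 36877)) (Tr.lf (nat_lit 36887)))) (Tr.nd (nat_lit 36913) (Tr.nd (nat_lit 36901) (Tr.lf (nat_lit 36899)) (Tr.lf (nat_lit 36901))) (Tr.nd (nat_lit 36919) (Tr.lf (nat_lit 36913)) (Tr.lf (nat_lit 36919)))))) (Tr.nd (nat_lit 36997) (Tr.nd (nat_lit 36943) (Tr.nd (nat_lit 36929) (Tr.lf (nat_lit 36923)) (Tr.nd (nat_lit 36931) (Tr.lf (nat_lit 36929)) (Tr.lf (nat_lit 36931)))) (Tr.nd (nat_lit 36973) (Tr.nd (nat_lit 36947) (Tr.lf (nat_lit 36943)) (Tr.lf (nat_lit 36947))) (Tr.nd (nat_lit 36979) (Tr.lf (nat_lit 36973)) (Tr.lf (nat_lit 36979))))) (Tr.nd (nat_lit 37019)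 (Tr.nd (nat_lit 37003) (Tr.lf (nat_lit 36997)) (Tr.nd (nat_lit 37013) (Tr.lf (nat_lit 37003)) (Tr.lf (nat_lit 37013)))) (Tr.nd (nat_lit 37039) (Tr.nd (nat_lit 37021) (Tr.lf (nat_lit 37019)) (Tr.lf (nat_lit 37021))) (Tr.nd (nat_lit 37049) (Tr.lf (nat_lit 37039)) (Tr.lf (nat_lit 37049))))))) (Tr.nd (nat_lit 37223) (Tr.nd (nat_lit 37159) (Tr.nd (nat_lit 37097) (Tr.nd (nat_lit 37061) (Tr.lf (nat_lit 37057)) (Tr.nd (nat_lit 37087) (Tr.lf (nat_lit 37061)) (Tr.lf (nat_lit 37087)))) (Tr.nd (nat_lit 37123) (Tr.nd (nat_lit 37117) (Tr.lf (nat_lit 37097)) (Tr.lf (nat_lit 37117))) (Tr.nd (nat_lit 37139) (Tr.lf (nat_lit 37123)) (Tr.lf (nat_lit 37139))))) (Tr.nd (nat_lit 37189) (Tr.nd (nat_lit 37171) (Tr.lf (nat_lit 37159)) (Tr.nd (nat_lit 37181) (Tr.lf (nat_lit 37171)) (Tr.lf (nat_lit 37181)))) (Tr.nd (nat_lit 37201) (Tr.nd (nat_lit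 37199) (Tr.lf (nat_lit 37189)) (Tr.lf (nat_lit 37199))) (Tr.nd (nat_lit 37217) (Tr.lf (nat_lit 37201)) (Tr.lf (nat_lit 37217)))))) (Tr.nd (nat_lit 37313) (Tr.nd (nat_lit 37273) (Tr.nd (nat_lit 37243) (Tr.lf (nat_lit 37223)) (Tr.nd (nat_lit 37253) (Tr.lf (nat_lit 37243)) (Tr.lf (nat_lit 37253)))) (Tr.nd (nat_lit 37307) (Tr.nd (nat_lit 37277) (Tr.lf (nat_lit 37273)) (Tr.lf (nat_lit 37277))) (Tr.nd (nat_lit 37309) (Tr.lf (nat_lit 37307)) (Tr.lf (nat_lit 37309))))) (Tr.nd (nat_lit 37339) (Tr.nd (nat_lit 37321) (Tr.lf (nat_lit 37313)) (Tr.nd (nat_lit 37337) (Tr.lf (nat_lit 37321)) (Tr.lf (nat_lit 37337)))) (Tr.nd (nat_lit 37361) (Tr.nd (nat_lit 37357) (Tr.lf (nat_lit 37339)) (Tr.lf (nat_lit 37357))) (Tr.nd (nat_lit 37363) (Tr.lf (nat_lit 37361)) (Tr.lf (nat_lit 37363))))))))))) (Tr.nd (nat_lit 39779) (Tr.nd (nat_lit 38629)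 (Tr.nd (nat_lit 37967) (Tr.nd (nat_lit 37619) (Tr.nd (nat_lit 37511) (Tr.nd (nat_lit 37447) (Tr.nd (nat_lit 37409) (Tr.nd (nat_lit 37379) (Tr.lf (nat_lit 37369)) (Tr.nd (nat_lit 37397) (Tr.lf (nat_lit 37379)) (Tr.lf (nat_lit 37397)))) (Tr.nd (nat_lit 37423) (Tr.lf (nat_lit 37409)) (Tr.nd (nat_lit 37441) (Tr.lf (nat_lit 37423)) (Tr.lf (nat_lit 37441))))) (Tr.nd (nat_lit 37489) (Tr.nd (nat_lit 37463) (Tr.lf (nat_lit 37447)) (Tr.nd (nat_lit 37483) (Tr.lf (nat_lit 37463)) (Tr.lf (nat_lit 37483)))) (Tr.nd (nat_lit 37501) (Tr.nd (nat_lit 37493) (Tr.lf (nat_lit 37489)) (Tr.lf (nat_lit 37493))) (Tr.nd (nat_lit 37507) (Tr.lf (nat_lit 37501)) (Tr.lf (nat_lit 37507)))))) (Tr.nd (nat_lit 37567) (Tr.nd (nat_lit 37537) (Tr.nd (nat_lit 37517) (Tr.lf (nat_lit 37511)) (Tr.nd (nat_lit 37529) (Tr.lf (nat_lit 37517)) (Tr.lf (nat_lit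 37529)))) (Tr.nd (nat_lit 37549) (Tr.nd (nat_lit 37547) (Tr.lf (nat_lit 37537)) (Tr.lf (nat_lit 37547))) (Tr.nd (nat_lit 37561) (Tr.lf (nat_lit 37549)) (Tr.lf (nat_lit 37561))))) (Tr.nd (nat_lit 37579) (Tr.nd (nat_lit 37571) (Tr.lf (nat_lit 37567)) (Tr.nd (nat_lit 37573) (Tr.lf (nat_lit 37571)) (Tr.lf (nat_lit 37573)))) (Tr.nd (nat_lit 37591) (Tr.nd (nat_lit 37589) (Tr.lf (nat_lit 37579)) (Tr.lf (nat_lit 37589))) (Tr.nd (nat_lit 37607) (Tr.lf (nat_lit 37591)) (Tr.lf (nat_lit 37607))))))) (Tr.nd (nat_lit 37811) (Tr.nd (nat_lit 37693) (Tr.nd (nat_lit 37649) (Tr.nd (nat_lit 37633) (Tr.lf (nat_lit 37619)) (Tr.nd (nat_lit 37643) (Tr.lf (nat_lit 37633)) (Tr.lf (nat_lit 37643)))) (Tr.nd (nat_lit 37663) (Tr.nd (nat_lit 37657) (Tr.lf (nat_lit 37649)) (Tr.lf (nat_lit 37657))) (Tr.nd (nat_lit 37691) (Tr.lf (nat_lit 37663))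 (Tr.lf (nat_lit 37691))))) (Tr.nd (nat_lit 37747) (Tr.nd (nat_lit 37699) (Tr.lf (nat_lit 37693)) (Tr.nd (nat_lit 37717) (Tr.lf (nat_lit 37699)) (Tr.lf (nat_lit 37717)))) (Tr.nd (nat_lit 37783) (Tr.nd (nat_lit 37781) (Tr.lf (nat_lit 37747)) (Tr.lf (nat_lit 37781))) (Tr.nd (nat_lit 37799) (Tr.lf (nat_lit 37783)) (Tr.lf (nat_lit 37799)))))) (Tr.nd (nat_lit 37879) (Tr.nd (nat_lit 37847) (Tr.nd (nat_lit 37813) (Tr.lf (nat_lit 37811)) (Tr.nd (nat_lit 37831) (Tr.lf (nat_lit 37813)) (Tr.lf (nat_lit 37831)))) (Tr.nd (nat_lit 37861) (Tr.nd (nat_lit 37853) (Tr.lf (nat_lit 37847)) (Tr.lf (nat_lit 37853))) (Tr.nd (nat_lit 37871) (Tr.lf (nat_lit 37861)) (Tr.lf (nat_lit 37871))))) (Tr.nd (nat_lit 37907) (Tr.nd (nat_lit 37889) (Tr.lf (nat_lit 37879)) (Tr.nd (nat_lit 37897) (Tr.lf (nat_lit 37889)) (Tr.lf (nat_lit 37897)))) (Tr.nd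 (nat_lit 37957) (Tr.nd (nat_lit 37951) (Tr.lf (nat_lit 37907)) (Tr.lf (nat_lit 37951))) (Tr.nd (nat_lit 37963) (Tr.lf (nat_lit 37957)) (Tr.lf (nat_lit 37963)))))))) (Tr.nd (nat_lit 38287) (Tr.nd (nat_lit 38153) (Tr.nd (nat_lit 38047) (Tr.nd (nat_lit 37993) (Tr.nd (nat_lit 37987) (Tr.lf (nat_lit 37967)) (Tr.nd (nat_lit 37991) (Tr.lf (nat_lit 37987)) (Tr.lf (nat_lit 37991)))) (Tr.nd (nat_lit 38011) (Tr.nd (nat_lit 37997) (Tr.lf (nat_lit 37993)) (Tr.lf (nat_lit 37997))) (Tr.nd (nat_lit 38039) (Tr.lf (nat_lit 38011)) (Tr.lf (nat_lit 38039))))) (Tr.nd (nat_lit 38083) (Tr.nd (nat_lit 38053) (Tr.lf (nat_lit 38047)) (Tr.nd (nat_lit 38069) (Tr.lf (nat_lit 38053)) (Tr.lf (nat_lit 38069)))) (Tr.nd (nat_lit 38119) (Tr.nd (nat_lit 38113) (Tr.lf (nat_lit 38083)) (Tr.lf (nat_lit 38113))) (Tr.nd (nat_lit 38149) (Tr.lf (nat_lit 38119))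 (Tr.lf (nat_lit 38149)))))) (Tr.nd (nat_lit 38219) (Tr.nd (nat_lit 38183) (Tr.nd (nat_lit 38167) (Tr.lf (nat_lit 38153)) (Tr.nd (nat_lit 38177) (Tr.lf (nat_lit 38167)) (Tr.lf (nat_lit 38177)))) (Tr.nd (nat_lit 38197) (Tr.nd (nat_lit 38189) (Tr.lf (nat_lit 38183)) (Tr.lf (nat_lit 38189))) (Tr.nd (nat_lit 38201) (Tr.lf (nat_lit 38197)) (Tr.lf (nat_lit 38201))))) (Tr.nd (nat_lit 38239) (Tr.nd (nat_lit 38231) (Tr.lf (nat_lit 38219)) (Tr.nd (nat_lit 38237) (Tr.lf (nat_lit 38231)) (Tr.lf (nat_lit 38237)))) (Tr.nd (nat_lit 38273) (Tr.nd (nat_lit 38261) (Tr.lf (nat_lit 38239)) (Tr.lf (nat_lit 38261))) (Tr.nd (nat_lit 38281) (Tr.lf (nat_lit 38273)) (Tr.lf (nat_lit 38281))))))) (Tr.nd (nat_lit 38449) (Tr.nd (nat_lit 38333) (Tr.nd (nat_lit 38317) (Tr.nd (nat_lit 38299) (Tr.lf (nat_lit 38287)) (Tr.nd (nat_lit 38303) (Tr.lf (nat_lit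 38299)) (Tr.lf (nat_lit 38303)))) (Tr.nd (nat_lit 38327) (Tr.nd (nat_lit 38321) (Tr.lf (nat_lit 38317)) (Tr.lf (nat_lit 38321))) (Tr.nd (nat_lit 38329) (Tr.lf (nat_lit 38327)) (Tr.lf (nat_lit 38329))))) (Tr.nd (nat_lit 38377) (Tr.nd (nat_lit 38351) (Tr.lf (nat_lit 38333)) (Tr.nd (nat_lit 38371) (Tr.lf (nat_lit 38351)) (Tr.lf (nat_lit 38371)))) (Tr.nd (nat_lit 38431) (Tr.nd (nat_lit 38393) (Tr.lf (nat_lit 38377)) (Tr.lf (nat_lit 38393))) (Tr.nd (nat_lit 38447) (Tr.lf (nat_lit 38431)) (Tr.lf (nat_lit 38447)))))) (Tr.nd (nat_lit 38561) (Tr.nd (nat_lit 38461) (Tr.nd (nat_lit 38453) (Tr.lf (nat_lit 38449)) (Tr.nd (nat_lit 38459) (Tr.lf (nat_lit 38453)) (Tr.lf (nat_lit 38459)))) (Tr.nd (nat_lit 38543) (Tr.nd (nat_lit 38501) (Tr.lf (nat_lit 38461)) (Tr.lf (nat_lit 38501))) (Tr.nd (nat_lit 38557) (Tr.lf (nat_lit 38543))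 (Tr.lf (nat_lit 38557))))) (Tr.nd (nat_lit 38593) (Tr.nd (nat_lit 38567) (Tr.lf (nat_lit 38561)) (Tr.nd (nat_lit 38569) (Tr.lf (nat_lit 38567)) (Tr.lf (nat_lit 38569)))) (Tr.nd (nat_lit 38609) (Tr.nd (nat_lit 38603) (Tr.lf (nat_lit 38593)) (Tr.lf (nat_lit 38603))) (Tr.nd (nat_lit 38611) (Tr.lf (nat_lit 38609)) (Tr.lf (nat_lit 38611))))))))) (Tr.nd (nat_lit 39181) (Tr.nd (nat_lit 38891) (Tr.nd (nat_lit 38737) (Tr.nd (nat_lit 38693) (Tr.nd (nat_lit 38653) (Tr.nd (nat_lit 38639) (Tr.lf (nat_lit 38629)) (Tr.nd (nat_lit 38651) (Tr.lf (nat_lit 38639)) (Tr.lf (nat_lit 38651)))) (Tr.nd (nat_lit 38671) (Tr.nd (nat_lit 38669) (Tr.lf (nat_lit 38653)) (Tr.lf (nat_lit 38669))) (Tr.nd (nat_lit 38677) (Tr.lf (nat_lit 38671)) (Tr.lf (nat_lit 38677))))) (Tr.nd (nat_lit 38711) (Tr.nd (nat_lit 38699) (Tr.lf (nat_lit 38693)) (Tr.nd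 (nat_lit 38707) (Tr.lf (nat_lit 38699)) (Tr.lf (nat_lit 38707)))) (Tr.nd (nat_lit 38723) (Tr.nd (nat_lit 38713) (Tr.lf (nat_lit 38711)) (Tr.lf (nat_lit 38713))) (Tr.nd (nat_lit 38729) (Tr.lf (nat_lit 38723)) (Tr.lf (nat_lit 38729)))))) (Tr.nd (nat_lit 38821) (Tr.nd (nat_lit 38767) (Tr.nd (nat_lit 38747) (Tr.lf (nat_lit 38737)) (Tr.nd (nat_lit 38749) (Tr.lf (nat_lit 38747)) (Tr.lf (nat_lit 38749)))) (Tr.nd (nat_lit 38791) (Tr.nd (nat_lit 38783) (Tr.lf (nat_lit 38767)) (Tr.lf (nat_lit 38783))) (Tr.nd (nat_lit 38803) (Tr.lf (nat_lit 38791)) (Tr.lf (nat_lit 38803))))) (Tr.nd (nat_lit 38851) (Tr.nd (nat_lit 38833) (Tr.lf (nat_lit 38821)) (Tr.nd (nat_lit 38839) (Tr.lf (nat_lit 38833)) (Tr.lf (nat_lit 38839)))) (Tr.nd (nat_lit 38867) (Tr.nd (nat_lit 38861) (Tr.lf (nat_lit 38851)) (Tr.lf (nat_lit 38861))) (Tr.nd (nat_lit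 38873) (Tr.lf (nat_lit 38867)) (Tr.lf (nat_lit 38873))))))) (Tr.nd (nat_lit 39043) (Tr.nd (nat_lit 38959) (Tr.nd (nat_lit 38921) (Tr.nd (nat_lit 38903) (Tr.lf (nat_lit 38891)) (Tr.nd (nat_lit 38917) (Tr.lf (nat_lit 38903)) (Tr.lf (nat_lit 38917)))) (Tr.nd (nat_lit 38933) (Tr.nd (nat_lit 38923) (Tr.lf (nat_lit 38921)) (Tr.lf (nat_lit 38923))) (Tr.nd (nat_lit 38953) (Tr.lf (nat_lit 38933)) (Tr.lf (nat_lit 38953))))) (Tr.nd (nat_lit 38993) (Tr.nd (nat_lit 38971) (Tr.lf (nat_lit 38959)) (Tr.nd (nat_lit 38977) (Tr.lf (nat_lit 38971)) (Tr.lf (nat_lit 38977)))) (Tr.nd (nat_lit 39023) (Tr.nd (nat_lit 39019) (Tr.lf (nat_lit 38993)) (Tr.lf (nat_lit 39019))) (Tr.nd (nat_lit 39041) (Tr.lf (nat_lit 39023)) (Tr.lf (nat_lit 39041)))))) (Tr.nd (nat_lit 39113) (Tr.nd (nat_lit 39089) (Tr.nd (nat_lit 39047) (Tr.lf (nat_lit 39043))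 (Tr.nd (nat_lit 39079) (Tr.lf (nat_lit 39047)) (Tr.lf (nat_lit 39079)))) (Tr.nd (nat_lit 39103) (Tr.nd (nat_lit 39097) (Tr.lf (nat_lit 39089)) (Tr.lf (nat_lit 39097))) (Tr.nd (nat_lit 39107) (Tr.lf (nat_lit 39103)) (Tr.lf (nat_lit 39107))))) (Tr.nd (nat_lit 39139) (Tr.nd (nat_lit 39119) (Tr.lf (nat_lit 39113)) (Tr.nd (nat_lit 39133) (Tr.lf (nat_lit 39119)) (Tr.lf (nat_lit 39133)))) (Tr.nd (nat_lit 39161) (Tr.nd (nat_lit 39157) (Tr.lf (nat_lit 39139)) (Tr.lf (nat_lit 39157))) (Tr.nd (nat_lit 39163) (Tr.lf (nat_lit 39161)) (Tr.lf (nat_lit 39163)))))))) (Tr.nd (nat_lit 39451) (Tr.nd (nat_lit 39317) (Tr.nd (nat_lit 39233) (Tr.nd (nat_lit 39209) (Tr.nd (nat_lit 39191) (Tr.lf (nat_lit 39181)) (Tr.nd (nat_lit 39199) (Tr.lf (nat_lit 39191)) (Tr.lf (nat_lit 39199)))) (Tr.nd (nat_lit 39227) (Tr.nd (nat_lit 39217) (Tr.lf (nat_lit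 39209)) (Tr.lf (nat_lit 39217))) (Tr.nd (nat_lit 39229) (Tr.lf (nat_lit 39227)) (Tr.lf (nat_lit 39229))))) (Tr.nd (nat_lit 39251) (Tr.nd (nat_lit 39239) (Tr.lf (nat_lit 39233)) (Tr.nd (nat_lit 39241) (Tr.lf (nat_lit 39239)) (Tr.lf (nat_lit 39241)))) (Tr.nd (nat_lit 39301) (Tr.nd (nat_lit 39293) (Tr.lf (nat_lit 39251)) (Tr.lf (nat_lit 39293))) (Tr.nd (nat_lit 39313) (Tr.lf (nat_lit 39301)) (Tr.lf (nat_lit 39313)))))) (Tr.nd (nat_lit 39373) (Tr.nd (nat_lit 39343) (Tr.nd (nat_lit 39323) (Tr.lf (nat_lit 39317)) (Tr.nd (nat_lit 39341) (Tr.lf (nat_lit 39323)) (Tr.lf (nat_lit 39341)))) (Tr.nd (nat_lit 39367) (Tr.nd (nat_lit 39359) (Tr.lf (nat_lit 39343)) (Tr.lf (nat_lit 39359))) (Tr.nd (nat_lit 39371) (Tr.lf (nat_lit 39367)) (Tr.lf (nat_lit 39371))))) (Tr.nd (nat_lit 39409) (Tr.nd (nat_lit 39383) (Tr.lf (nat_lit 39373))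 (Tr.nd (nat_lit 39397) (Tr.lf (nat_lit 39383)) (Tr.lf (nat_lit 39397)))) (Tr.nd (nat_lit 39439) (Tr.nd (nat_lit 39419) (Tr.lf (nat_lit 39409)) (Tr.lf (nat_lit 39419))) (Tr.nd (nat_lit 39443) (Tr.lf (nat_lit 39439)) (Tr.lf (nat_lit 39443))))))) (Tr.nd (nat_lit 39623) (Tr.nd (nat_lit 39541) (Tr.nd (nat_lit 39503) (Tr.nd (nat_lit 39461) (Tr.lf (nat_lit 39451)) (Tr.nd (nat_lit 39499) (Tr.lf (nat_lit 39461)) (Tr.lf (nat_lit 39499)))) (Tr.nd (nat_lit 39511) (Tr.nd (nat_lit 39509) (Tr.lf (nat_lit 39503)) (Tr.lf (nat_lit 39509))) (Tr.nd (nat_lit 39521) (Tr.lf (nat_lit 39511)) (Tr.lf (nat_lit 39521))))) (Tr.nd (nat_lit 39569) (Tr.nd (nat_lit 39551) (Tr.lf (nat_lit 39541)) (Tr.nd (nat_lit 39563) (Tr.lf (nat_lit 39551)) (Tr.lf (nat_lit 39563)))) (Tr.nd (nat_lit 39607) (Tr.nd (nat_lit 39581) (Tr.lf (nat_lit 39569)) (Tr.lf (nat_lit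 39581))) (Tr.nd (nat_lit 39619) (Tr.lf (nat_lit 39607)) (Tr.lf (nat_lit 39619)))))) (Tr.nd (nat_lit 39709) (Tr.nd (nat_lit 39667) (Tr.nd (nat_lit 39631) (Tr.lf (nat_lit 39623)) (Tr.nd (nat_lit 39659) (Tr.lf (nat_lit 39631)) (Tr.lf (nat_lit 39659)))) (Tr.nd (nat_lit 39679) (Tr.nd (nat_lit 39671) (Tr.lf (nat_lit 39667)) (Tr.lf (nat_lit 39671))) (Tr.nd (nat_lit 39703) (Tr.lf (nat_lit 39679)) (Tr.lf (nat_lit 39703))))) (Tr.nd (nat_lit 39733) (Tr.nd (nat_lit 39719) (Tr.lf (nat_lit 39709)) (Tr.nd (nat_lit 39727) (Tr.lf (nat_lit 39719)) (Tr.lf (nat_lit 39727)))) (Tr.nd (nat_lit 39761) (Tr.nd (nat_lit 39749) (Tr.lf (nat_lit 39733)) (Tr.lf (nat_lit 39749))) (Tr.nd (nat_lit 39769) (Tr.lf (nat_lit 39761)) (Tr.lf (nat_lit 39769)))))))))) (Tr.nd (nat_lit 41011) (Tr.nd (nat_lit 40387) (Tr.nd (nat_lit 40039) (Tr.nd (nat_lit 39883)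 (Tr.nd (nat_lit 39839) (Tr.nd (nat_lit 39821) (Tr.nd (nat_lit 39791) (Tr.lf (nat_lit 39779)) (Tr.nd (nat_lit 39799) (Tr.lf (nat_lit 39791)) (Tr.lf (nat_lit 39799)))) (Tr.nd (nat_lit 39827) (Tr.lf (nat_lit 39821)) (Tr.nd (nat_lit 39829) (Tr.lf (nat_lit 39827)) (Tr.lf (nat_lit 39829))))) (Tr.nd (nat_lit 39857) (Tr.nd (nat_lit 39841) (Tr.lf (nat_lit 39839)) (Tr.nd (nat_lit 39847) (Tr.lf (nat_lit 39841)) (Tr.lf (nat_lit 39847)))) (Tr.nd (nat_lit 39869) (Tr.nd (nat_lit 39863) (Tr.lf (nat_lit 39857)) (Tr.lf (nat_lit 39863))) (Tr.nd (nat_lit 39877) (Tr.lf (nat_lit 39869)) (Tr.lf (nat_lit 39877)))))) (Tr.nd (nat_lit 39979) (Tr.nd (nat_lit 39929) (Tr.nd (nat_lit 39887) (Tr.lf (nat_lit 39883)) (Tr.nd (nat_lit 39901) (Tr.lf (nat_lit 39887)) (Tr.lf (nat_lit 39901)))) (Tr.nd (nat_lit 39953) (Tr.nd (nat_lit 39937) (Tr.lf (nat_lit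 39929)) (Tr.lf (nat_lit 39937))) (Tr.nd (nat_lit 39971) (Tr.lf (nat_lit 39953)) (Tr.lf (nat_lit 39971))))) (Tr.nd (nat_lit 40009) (Tr.nd (nat_lit 39983) (Tr.lf (nat_lit 39979)) (Tr.nd (nat_lit 39989) (Tr.lf (nat_lit 39983)) (Tr.lf (nat_lit 39989)))) (Tr.nd (nat_lit 40031) (Tr.nd (nat_lit 40013) (Tr.lf (nat_lit 40009)) (Tr.lf (nat_lit 40013))) (Tr.nd (nat_lit 40037) (Tr.lf (nat_lit 40031)) (Tr.lf (nat_lit 40037))))))) (Tr.nd (nat_lit 40189) (Tr.nd (nat_lit 40127) (Tr.nd (nat_lit 40093) (Tr.nd (nat_lit 40063) (Tr.lf (nat_lit 40039)) (Tr.nd (nat_lit 40087) (Tr.lf (nat_lit 40063)) (Tr.lf (nat_lit 40087)))) (Tr.nd (nat_lit 40111) (Tr.nd (nat_lit 40099) (Tr.lf (nat_lit 40093)) (Tr.lf (nat_lit 40099))) (Tr.nd (nat_lit 40123) (Tr.lf (nat_lit 40111)) (Tr.lf (nat_lit 40123))))) (Tr.nd (nat_lit 40153) (Tr.nd (nat_lit 40129)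 (Tr.lf (nat_lit 40127)) (Tr.nd (nat_lit 40151) (Tr.lf (nat_lit 40129)) (Tr.lf (nat_lit 40151)))) (Tr.nd (nat_lit 40169) (Tr.nd (nat_lit 40163) (Tr.lf (nat_lit 40153)) (Tr.lf (nat_lit 40163))) (Tr.nd (nat_lit 40177) (Tr.lf (nat_lit 40169)) (Tr.lf (nat_lit 40177)))))) (Tr.nd (nat_lit 40277) (Tr.nd (nat_lit 40231) (Tr.nd (nat_lit 40193) (Tr.lf (nat_lit 40189)) (Tr.nd (nat_lit 40213) (Tr.lf (nat_lit 40193)) (Tr.lf (nat_lit 40213)))) (Tr.nd (nat_lit 40241) (Tr.nd (nat_lit 40237) (Tr.lf (nat_lit 40231)) (Tr.lf (nat_lit 40237))) (Tr.nd (nat_lit 40253) (Tr.lf (nat_lit 40241)) (Tr.lf (nat_lit 40253))))) (Tr.nd (nat_lit 40343) (Tr.nd (nat_lit 40283) (Tr.lf (nat_lit 40277)) (Tr.nd (nat_lit 40289) (Tr.lf (nat_lit 40283)) (Tr.lf (nat_lit 40289)))) (Tr.nd (nat_lit 40357) (Tr.nd (nat_lit 40351) (Tr.lf (nat_lit 40343)) (Tr.lf (nat_lit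 40351))) (Tr.nd (nat_lit 40361) (Tr.lf (nat_lit 40357)) (Tr.lf (nat_lit 40361)))))))) (Tr.nd (nat_lit 40709) (Tr.nd (nat_lit 40531) (Tr.nd (nat_lit 40483) (Tr.nd (nat_lit 40429) (Tr.nd (nat_lit 40423) (Tr.lf (nat_lit 40387)) (Tr.nd (nat_lit 40427) (Tr.lf (nat_lit 40423)) (Tr.lf (nat_lit 40427)))) (Tr.nd (nat_lit 40459) (Tr.nd (nat_lit 40433) (Tr.lf (nat_lit 40429)) (Tr.lf (nat_lit 40433))) (Tr.nd (nat_lit 40471) (Tr.lf (nat_lit 40459)) (Tr.lf (nat_lit 40471))))) (Tr.nd (nat_lit 40499) (Tr.nd (nat_lit 40487) (Tr.lf (nat_lit 40483)) (Tr.nd (nat_lit 40493) (Tr.lf (nat_lit 40487)) (Tr.lf (nat_lit 40493)))) (Tr.nd (nat_lit 40519) (Tr.nd (nat_lit 40507) (Tr.lf (nat_lit 40499)) (Tr.lf (nat_lit 40507))) (Tr.nd (nat_lit 40529) (Tr.lf (nat_lit 40519)) (Tr.lf (nat_lit 40529)))))) (Tr.nd (nat_lit 40609) (Tr.nd (nat_lit 40577)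 (Tr.nd (nat_lit 40543) (Tr.lf (nat_lit 40531)) (Tr.nd (nat_lit 40559) (Tr.lf (nat_lit 40543)) (Tr.lf (nat_lit 40559)))) (Tr.nd (nat_lit 40591) (Tr.nd (nat_lit 40583) (Tr.lf (nat_lit 40577)) (Tr.lf (nat_lit 40583))) (Tr.nd (nat_lit 40597) (Tr.lf (nat_lit 40591)) (Tr.lf (nat_lit 40597))))) (Tr.nd (nat_lit 40639) (Tr.nd (nat_lit 40627) (Tr.lf (nat_lit 40609)) (Tr.nd (nat_lit 40637) (Tr.lf (nat_lit 40627)) (Tr.lf (nat_lit 40637)))) (Tr.nd (nat_lit 40697) (Tr.nd (nat_lit 40693) (Tr.lf (nat_lit 40639)) (Tr.lf (nat_lit 40693))) (Tr.nd (nat_lit 40699) (Tr.lf (nat_lit 40697)) (Tr.lf (nat_lit 40699))))))) (Tr.nd (nat_lit 40849) (Tr.nd (nat_lit 40801) (Tr.nd (nat_lit 40759) (Tr.nd (nat_lit 40739) (Tr.lf (nat_lit 40709)) (Tr.nd (nat_lit 40751) (Tr.lf (nat_lit 40739)) (Tr.lf (nat_lit 40751)))) (Tr.nd (nat_lit 40771) (Tr.nd (nat_lit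 40763) (Tr.lf (nat_lit 40759)) (Tr.lf (nat_lit 40763))) (Tr.nd (nat_lit 40787) (Tr.lf (nat_lit 40771)) (Tr.lf (nat_lit 40787))))) (Tr.nd (nat_lit 40823) (Tr.nd (nat_lit 40813) (Tr.lf (nat_lit 40801)) (Tr.nd (nat_lit 40819) (Tr.lf (nat_lit 40813)) (Tr.lf (nat_lit 40819)))) (Tr.nd (nat_lit 40841) (Tr.nd (nat_lit 40829) (Tr.lf (nat_lit 40823)) (Tr.lf (nat_lit 40829))) (Tr.nd (nat_lit 40847) (Tr.lf (nat_lit 40841)) (Tr.lf (nat_lit 40847)))))) (Tr.nd (nat_lit 40927) (Tr.nd (nat_lit 40879) (Tr.nd (nat_lit 40853) (Tr.lf (nat_lit 40849)) (Tr.nd (nat_lit 40867) (Tr.lf (nat_lit 40853)) (Tr.lf (nat_lit 40867)))) (Tr.nd (nat_lit 40897) (Tr.nd (nat_lit 40883) (Tr.lf (nat_lit 40879)) (Tr.lf (nat_lit 40883))) (Tr.nd (nat_lit 40903) (Tr.lf (nat_lit 40897)) (Tr.lf (nat_lit 40903))))) (Tr.nd (nat_lit 40949) (Tr.nd (nat_lit 40933)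 (Tr.lf (nat_lit 40927)) (Tr.nd (nat_lit 40939) (Tr.lf (nat_lit 40933)) (Tr.lf (nat_lit 40939)))) (Tr.nd (nat_lit 40973) (Tr.nd (nat_lit 40961) (Tr.lf (nat_lit 40949)) (Tr.lf (nat_lit 40961))) (Tr.nd (nat_lit 40993) (Tr.lf (nat_lit 40973)) (Tr.lf (nat_lit 40993))))))))) (Tr.nd (nat_lit 41593) (Tr.nd (nat_lit 41257) (Tr.nd (nat_lit 41149) (Tr.nd (nat_lit 41077) (Tr.nd (nat_lit 41039) (Tr.nd (nat_lit 41017) (Tr.lf (nat_lit 41011)) (Tr.nd (nat_lit 41023) (Tr.lf (nat_lit 41017)) (Tr.lf (nat_lit 41023)))) (Tr.nd (nat_lit 41051) (Tr.nd (nat_lit 41047) (Tr.lf (nat_lit 41039)) (Tr.lf (nat_lit 41047))) (Tr.nd (nat_lit 41057) (Tr.lf (nat_lit 41051)) (Tr.lf (nat_lit 41057))))) (Tr.nd (nat_lit 41117) (Tr.nd (nat_lit 41081) (Tr.lf (nat_lit 41077)) (Tr.nd (nat_lit 41113) (Tr.lf (nat_lit 41081)) (Tr.lf (nat_lit 41113)))) (Tr.nd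 (nat_lit 41141) (Tr.nd (nat_lit 41131) (Tr.lf (nat_lit 41117)) (Tr.lf (nat_lit 41131))) (Tr.nd (nat_lit 41143) (Tr.lf (nat_lit 41141)) (Tr.lf (nat_lit 41143)))))) (Tr.nd (nat_lit 41203) (Tr.nd (nat_lit 41179) (Tr.nd (nat_lit 41161) (Tr.lf (nat_lit 41149)) (Tr.nd (nat_lit 41177) (Tr.lf (nat_lit 41161)) (Tr.lf (nat_lit 41177)))) (Tr.nd (nat_lit 41189) (Tr.nd (nat_lit 41183) (Tr.lf (nat_lit 41179)) (Tr.lf (nat_lit 41183))) (Tr.nd (nat_lit 41201) (Tr.lf (nat_lit 41189)) (Tr.lf (nat_lit 41201))))) (Tr.nd (nat_lit 41227) (Tr.nd (nat_lit 41213) (Tr.lf (nat_lit 41203)) (Tr.nd (nat_lit 41221) (Tr.lf (nat_lit 41213)) (Tr.lf (nat_lit 41221)))) (Tr.nd (nat_lit 41233) (Tr.nd (nat_lit 41231) (Tr.lf (nat_lit 41227)) (Tr.lf (nat_lit 41231))) (Tr.nd (nat_lit 41243) (Tr.lf (nat_lit 41233)) (Tr.lf (nat_lit 41243))))))) (Tr.nd (nat_lit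 41413) (Tr.nd (nat_lit 41351) (Tr.nd (nat_lit 41281) (Tr.nd (nat_lit 41263) (Tr.lf (nat_lit 41257)) (Tr.nd (nat_lit 41269) (Tr.lf (nat_lit 41263)) (Tr.lf (nat_lit 41269)))) (Tr.nd (nat_lit 41333) (Tr.nd (nat_lit 41299) (Tr.lf (nat_lit 41281)) (Tr.lf (nat_lit 41299))) (Tr.nd (nat_lit 41341) (Tr.lf (nat_lit 41333)) (Tr.lf (nat_lit 41341))))) (Tr.nd (nat_lit 41387) (Tr.nd (nat_lit 41357) (Tr.lf (nat_lit 41351)) (Tr.nd (nat_lit 41381) (Tr.lf (nat_lit 41357)) (Tr.lf (nat_lit 41381)))) (Tr.nd (nat_lit 41399) (Tr.nd (nat_lit 41389) (Tr.lf (nat_lit 41387)) (Tr.lf (nat_lit 41389))) (Tr.nd (nat_lit 41411) (Tr.lf (nat_lit 41399)) (Tr.lf (nat_lit 41411)))))) (Tr.nd (nat_lit 41513) (Tr.nd (nat_lit 41467) (Tr.nd (nat_lit 41443) (Tr.lf (nat_lit 41413)) (Tr.nd (nat_lit 41453) (Tr.lf (nat_lit 41443)) (Tr.lf (nat_lit 41453)))) (Tr.nd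 (nat_lit 41491) (Tr.nd (nat_lit 41479) (Tr.lf (nat_lit 41467)) (Tr.lf (nat_lit 41479))) (Tr.nd (nat_lit 41507) (Tr.lf (nat_lit 41491)) (Tr.lf (nat_lit 41507))))) (Tr.nd (nat_lit 41539) (Tr.nd (nat_lit 41519) (Tr.lf (nat_lit 41513)) (Tr.nd (nat_lit 41521) (Tr.lf (nat_lit 41519)) (Tr.lf (nat_lit 41521)))) (Tr.nd (nat_lit 41549) (Tr.nd (nat_lit 41543) (Tr.lf (nat_lit 41539)) (Tr.lf (nat_lit 41543))) (Tr.nd (nat_lit 41579) (Tr.lf (nat_lit 41549)) (Tr.lf (nat_lit 41579)))))))) (Tr.nd (nat_lit 41863) (Tr.nd (nat_lit 41687) (Tr.nd (nat_lit 41627) (Tr.nd (nat_lit 41609) (Tr.nd (nat_lit 41597) (Tr.lf (nat_lit 41593)) (Tr.nd (nat_lit 41603) (Tr.lf (nat_lit 41597)) (Tr.lf (nat_lit 41603)))) (Tr.nd (nat_lit 41617) (Tr.nd (nat_lit 41611) (Tr.lf (nat_lit 41609)) (Tr.lf (nat_lit 41611))) (Tr.nd (nat_lit 41621) (Tr.lf (nat_lit 41617))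 (Tr.lf (nat_lit 41621))))) (Tr.nd (nat_lit 41651) (Tr.nd (nat_lit 41641) (Tr.lf (nat_lit 41627)) (Tr.nd (nat_lit 41647) (Tr.lf (nat_lit 41641)) (Tr.lf (nat_lit 41647)))) (Tr.nd (nat_lit 41669) (Tr.nd (nat_lit 41659) (Tr.lf (nat_lit 41651)) (Tr.lf (nat_lit 41659))) (Tr.nd (nat_lit 41681) (Tr.lf (nat_lit 41669)) (Tr.lf (nat_lit 41681)))))) (Tr.nd (nat_lit 41777) (Tr.nd (nat_lit 41737) (Tr.nd (nat_lit 41719) (Tr.lf (nat_lit 41687)) (Tr.nd (nat_lit 41729) (Tr.lf (nat_lit 41719)) (Tr.lf (nat_lit 41729)))) (Tr.nd (nat_lit 41761) (Tr.nd (nat_lit 41759) (Tr.lf (nat_lit 41737)) (Tr.lf (nat_lit 41759))) (Tr.nd (nat_lit 41771) (Tr.lf (nat_lit 41761)) (Tr.lf (nat_lit 41771))))) (Tr.nd (nat_lit 41813) (Tr.nd (nat_lit 41801) (Tr.lf (nat_lit 41777)) (Tr.nd (nat_lit 41809) (Tr.lf (nat_lit 41801)) (Tr.lf (nat_lit 41809)))) (Tr.nd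 (nat_lit 41849) (Tr.nd (nat_lit 41843) (Tr.lf (nat_lit 41813)) (Tr.lf (nat_lit 41843))) (Tr.nd (nat_lit 41851) (Tr.lf (nat_lit 41849)) (Tr.lf (nat_lit 41851))))))) (Tr.nd (nat_lit 41981) (Tr.nd (nat_lit 41927) (Tr.nd (nat_lit 41893) (Tr.nd (nat_lit 41879) (Tr.lf (nat_lit 41863)) (Tr.nd (nat_lit 41887) (Tr.lf (nat_lit 41879)) (Tr.lf (nat_lit 41887)))) (Tr.nd (nat_lit 41903) (Tr.nd (nat_lit 41897) (Tr.lf (nat_lit 41893)) (Tr.lf (nat_lit 41897))) (Tr.nd (nat_lit 41911) (Tr.lf (nat_lit 41903)) (Tr.lf (nat_lit 41911))))) (Tr.nd (nat_lit 41953) (Tr.nd (nat_lit 41941) (Tr.lf (nat_lit 41927)) (Tr.nd (nat_lit 41947) (Tr.lf (nat_lit 41941)) (Tr.lf (nat_lit 41947)))) (Tr.nd (nat_lit 41959) (Tr.nd (nat_lit 41957) (Tr.lf (nat_lit 41953)) (Tr.lf (nat_lit 41957))) (Tr.nd (nat_lit 41969) (Tr.lf (nat_lit 41959)) (Tr.lf (nat_lit 41969))))))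 (Tr.nd (nat_lit 42043) (Tr.nd (nat_lit 42013) (Tr.nd (nat_lit 41983) (Tr.lf (nat_lit 41981)) (Tr.nd (nat_lit 41999) (Tr.lf (nat_lit 41983)) (Tr.lf (nat_lit 41999)))) (Tr.nd (nat_lit 42019) (Tr.nd (nat_lit 42017) (Tr.lf (nat_lit 42013)) (Tr.lf (nat_lit 42017))) (Tr.nd (nat_lit 42023) (Tr.lf (nat_lit 42019)) (Tr.lf (nat_lit 42023))))) (Tr.nd (nat_lit 42073) (Tr.nd (nat_lit 42061) (Tr.lf (nat_lit 42043)) (Tr.nd (nat_lit 42071) (Tr.lf (nat_lit 42061)) (Tr.lf (nat_lit 42071)))) (Tr.nd (nat_lit 42089) (Tr.nd (nat_lit 42083) (Tr.lf (nat_lit 42073)) (Tr.lf (nat_lit 42083))) (Tr.nd (nat_lit 42101) (Tr.lf (nat_lit 42089)) (Tr.lf (nat_lit 42101)))))))))))) (Tr.nd (nat_lit 46957) (Tr.nd (nat_lit 44507) (Tr.nd (nat_lit 43261) (Tr.nd (nat_lit 42667) (Tr.nd (nat_lit 42391) (Tr.nd (nat_lit 42239) (Tr.nd (nat_lit 42187) (Tr.nd (nat_lit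 42169) (Tr.nd (nat_lit 42139) (Tr.lf (nat_lit 42131)) (Tr.nd (nat_lit 42157) (Tr.lf (nat_lit 42139)) (Tr.lf (nat_lit 42157)))) (Tr.nd (nat_lit 42179) (Tr.lf (nat_lit 42169)) (Tr.nd (nat_lit 42181) (Tr.lf (nat_lit 42179)) (Tr.lf (nat_lit 42181))))) (Tr.nd (nat_lit 42209) (Tr.nd (nat_lit 42193) (Tr.lf (nat_lit 42187)) (Tr.nd (nat_lit 42197) (Tr.lf (nat_lit 42193)) (Tr.lf (nat_lit 42197)))) (Tr.nd (nat_lit 42223) (Tr.nd (nat_lit 42221) (Tr.lf (nat_lit 42209)) (Tr.lf (nat_lit 42221))) (Tr.nd (nat_lit 42227) (Tr.lf (nat_lit 42223)) (Tr.lf (nat_lit 42227)))))) (Tr.nd (nat_lit 42323) (Tr.nd (nat_lit 42283) (Tr.nd (nat_lit 42257) (Tr.lf (nat_lit 42239)) (Tr.nd (nat_lit 42281) (Tr.lf (nat_lit 42257)) (Tr.lf (nat_lit 42281)))) (Tr.nd (nat_lit 42299) (Tr.nd (nat_lit 42293) (Tr.lf (nat_lit 42283)) (Tr.lf (nat_lit 42293))) (Tr.nd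 (nat_lit 42307) (Tr.lf (nat_lit 42299)) (Tr.lf (nat_lit 42307))))) (Tr.nd (nat_lit 42349) (Tr.nd (nat_lit 42331) (Tr.lf (nat_lit 42323)) (Tr.nd (nat_lit 42337) (Tr.lf (nat_lit 42331)) (Tr.lf (nat_lit 42337)))) (Tr.nd (nat_lit 42373) (Tr.nd (nat_lit 42359) (Tr.lf (nat_lit 42349)) (Tr.lf (nat_lit 42359))) (Tr.nd (nat_lit 42379) (Tr.lf (nat_lit 42373)) (Tr.lf (nat_lit 42379))))))) (Tr.nd (nat_lit 42487) (Tr.nd (nat_lit 42443) (Tr.nd (nat_lit 42407) (Tr.nd (nat_lit 42397) (Tr.lf (nat_lit 42391)) (Tr.nd (nat_lit 42403) (Tr.lf (nat_lit 42397)) (Tr.lf (nat_lit 42403)))) (Tr.nd (nat_lit 42433) (Tr.nd (nat_lit 42409) (Tr.lf (nat_lit 42407)) (Tr.lf (nat_lit 42409))) (Tr.nd (nat_lit 42437) (Tr.lf (nat_lit 42433)) (Tr.lf (nat_lit 42437))))) (Tr.nd (nat_lit 42461) (Tr.nd (nat_lit 42451) (Tr.lf (nat_lit 42443)) (Tr.nd (nat_lit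 42457) (Tr.lf (nat_lit 42451)) (Tr.lf (nat_lit 42457)))) (Tr.nd (nat_lit 42467) (Tr.nd (nat_lit 42463) (Tr.lf (nat_lit 42461)) (Tr.lf (nat_lit 42463))) (Tr.nd (nat_lit 42473) (Tr.lf (nat_lit 42467)) (Tr.lf (nat_lit 42473)))))) (Tr.nd (nat_lit 42571) (Tr.nd (nat_lit 42509) (Tr.nd (nat_lit 42491) (Tr.lf (nat_lit 42487)) (Tr.nd (nat_lit 42499) (Tr.lf (nat_lit 42491)) (Tr.lf (nat_lit 42499)))) (Tr.nd (nat_lit 42557) (Tr.nd (nat_lit 42533) (Tr.lf (nat_lit 42509)) (Tr.lf (nat_lit 42533))) (Tr.nd (nat_lit 42569) (Tr.lf (nat_lit 42557)) (Tr.lf (nat_lit 42569))))) (Tr.nd (nat_lit 42611) (Tr.nd (nat_lit 42577) (Tr.lf (nat_lit 42571)) (Tr.nd (nat_lit 42589) (Tr.lf (nat_lit 42577)) (Tr.lf (nat_lit 42589)))) (Tr.nd (nat_lit 42643) (Tr.nd (nat_lit 42641) (Tr.lf (nat_lit 42611)) (Tr.lf (nat_lit 42641))) (Tr.nd (nat_lit 42649) (Tr.lf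 (nat_lit 42643)) (Tr.lf (nat_lit 42649)))))))) (Tr.nd (nat_lit 42929) (Tr.nd (nat_lit 42773) (Tr.nd (nat_lit 42709) (Tr.nd (nat_lit 42689) (Tr.nd (nat_lit 42677) (Tr.lf (nat_lit 42667)) (Tr.nd (nat_lit 42683) (Tr.lf (nat_lit 42677)) (Tr.lf (nat_lit 42683)))) (Tr.nd (nat_lit 42701) (Tr.nd (nat_lit 42697) (Tr.lf (nat_lit 42689)) (Tr.lf (nat_lit 42697))) (Tr.nd (nat_lit 42703) (Tr.lf (nat_lit 42701)) (Tr.lf (nat_lit 42703))))) (Tr.nd (nat_lit 42737) (Tr.nd (nat_lit 42719) (Tr.lf (nat_lit 42709)) (Tr.nd (nat_lit 42727) (Tr.lf (nat_lit 42719)) (Tr.lf (nat_lit 42727)))) (Tr.nd (nat_lit 42751) (Tr.nd (nat_lit 42743) (Tr.lf (nat_lit 42737)) (Tr.lf (nat_lit 42743))) (Tr.nd (nat_lit 42767) (Tr.lf (nat_lit 42751)) (Tr.lf (nat_lit 42767)))))) (Tr.nd (nat_lit 42841) (Tr.nd (nat_lit 42797) (Tr.nd (nat_lit 42787) (Tr.lf (nat_lit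 42773)) (Tr.nd (nat_lit 42793) (Tr.lf (nat_lit 42787)) (Tr.lf (nat_lit 42793)))) (Tr.nd (nat_lit 42829) (Tr.nd (nat_lit 42821) (Tr.lf (nat_lit 42797)) (Tr.lf (nat_lit 42821))) (Tr.nd (nat_lit 42839) (Tr.lf (nat_lit 42829)) (Tr.lf (nat_lit 42839))))) (Tr.nd (nat_lit 42863) (Tr.nd (nat_lit 42853) (Tr.lf (nat_lit 42841)) (Tr.nd (nat_lit 42859) (Tr.lf (nat_lit 42853)) (Tr.lf (nat_lit 42859)))) (Tr.nd (nat_lit 42901) (Tr.nd (nat_lit 42899) (Tr.lf (nat_lit 42863)) (Tr.lf (nat_lit 42899))) (Tr.nd (nat_lit 42923) (Tr.lf (nat_lit 42901)) (Tr.lf (nat_lit 42923))))))) (Tr.nd (nat_lit 43063) (Tr.nd (nat_lit 42989) (Tr.nd (nat_lit 42953) (Tr.nd (nat_lit 42937) (Tr.lf (nat_lit 42929)) (Tr.nd (nat_lit 42943) (Tr.lf (nat_lit 42937)) (Tr.lf (nat_lit 42943)))) (Tr.nd (nat_lit 42967) (Tr.nd (nat_lit 42961) (Tr.lf (nat_lit 42953)) (Tr.lf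 (nat_lit 42961))) (Tr.nd (nat_lit 42979) (Tr.lf (nat_lit 42967)) (Tr.lf (nat_lit 42979))))) (Tr.nd (nat_lit 43019) (Tr.nd (nat_lit 43003) (Tr.lf (nat_lit 42989)) (Tr.nd (nat_lit 43013) (Tr.lf (nat_lit 43003)) (Tr.lf (nat_lit 43013)))) (Tr.nd (nat_lit 43049) (Tr.nd (nat_lit 43037) (Tr.lf (nat_lit 43019)) (Tr.lf (nat_lit 43037))) (Tr.nd (nat_lit 43051) (Tr.lf (nat_lit 43049)) (Tr.lf (nat_lit 43051)))))) (Tr.nd (nat_lit 43159) (Tr.nd (nat_lit 43103) (Tr.nd (nat_lit 43067) (Tr.lf (nat_lit 43063)) (Tr.nd (nat_lit 43093) (Tr.lf (nat_lit 43067)) (Tr.lf (nat_lit 43093)))) (Tr.nd (nat_lit 43133) (Tr.nd (nat_lit 43117) (Tr.lf (nat_lit 43103)) (Tr.lf (nat_lit 43117))) (Tr.nd (nat_lit 43151) (Tr.lf (nat_lit 43133)) (Tr.lf (nat_lit 43151))))) (Tr.nd (nat_lit 43201) (Tr.nd (nat_lit 43177) (Tr.lf (nat_lit 43159)) (Tr.nd (nat_lit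 43189) (Tr.lf (nat_lit 43177)) (Tr.lf (nat_lit 43189)))) (Tr.nd (nat_lit 43223) (Tr.nd (nat_lit 43207) (Tr.lf (nat_lit 43201)) (Tr.lf (nat_lit 43207))) (Tr.nd (nat_lit 43237) (Tr.lf (nat_lit 43223)) (Tr.lf (nat_lit 43237))))))))) (Tr.nd (nat_lit 43933) (Tr.nd (nat_lit 43597) (Tr.nd (nat_lit 43427) (Tr.nd (nat_lit 43321) (Tr.nd (nat_lit 43291) (Tr.nd (nat_lit 43271) (Tr.lf (nat_lit 43261)) (Tr.nd (nat_lit 43283) (Tr.lf (nat_lit 43271)) (Tr.lf (nat_lit 43283)))) (Tr.nd (nat_lit 43313) (Tr.lf (nat_lit 43291)) (Tr.nd (nat_lit 43319) (Tr.lf (nat_lit 43313)) (Tr.lf (nat_lit 43319))))) (Tr.nd (nat_lit 43397) (Tr.nd (nat_lit 43331) (Tr.lf (nat_lit 43321)) (Tr.nd (nat_lit 43391) (Tr.lf (nat_lit 43331)) (Tr.lf (nat_lit 43391)))) (Tr.nd (nat_lit 43403) (Tr.nd (nat_lit 43399) (Tr.lf (nat_lit 43397)) (Tr.lf (nat_lit 43399)))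 (Tr.nd (nat_lit 43411) (Tr.lf (nat_lit 43403)) (Tr.lf (nat_lit 43411)))))) (Tr.nd (nat_lit 43517) (Tr.nd (nat_lit 43457) (Tr.nd (nat_lit 43441) (Tr.lf (nat_lit 43427)) (Tr.nd (nat_lit 43451) (Tr.lf (nat_lit 43441)) (Tr.lf (nat_lit 43451)))) (Tr.nd (nat_lit 43487) (Tr.nd (nat_lit 43481) (Tr.lf (nat_lit 43457)) (Tr.lf (nat_lit 43481))) (Tr.nd (nat_lit 43499) (Tr.lf (nat_lit 43487)) (Tr.lf (nat_lit 43499))))) (Tr.nd (nat_lit 43573) (Tr.nd (nat_lit 43541) (Tr.lf (nat_lit 43517)) (Tr.nd (nat_lit 43543) (Tr.lf (nat_lit 43541)) (Tr.lf (nat_lit 43543)))) (Tr.nd (nat_lit 43579) (Tr.nd (nat_lit 43577) (Tr.lf (nat_lit 43573)) (Tr.lf (nat_lit 43577))) (Tr.nd (nat_lit 43591) (Tr.lf (nat_lit 43579)) (Tr.lf (nat_lit 43591))))))) (Tr.nd (nat_lit 43753) (Tr.nd (nat_lit 43651) (Tr.nd (nat_lit 43613) (Tr.nd (nat_lit 43607) (Tr.lf (nat_lit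 43597)) (Tr.nd (nat_lit 43609) (Tr.lf (nat_lit 43607)) (Tr.lf (nat_lit 43609)))) (Tr.nd (nat_lit 43633) (Tr.nd (nat_lit 43627) (Tr.lf (nat_lit 43613)) (Tr.lf (nat_lit 43627))) (Tr.nd (nat_lit 43649) (Tr.lf (nat_lit 43633)) (Tr.lf (nat_lit 43649))))) (Tr.nd (nat_lit 43691) (Tr.nd (nat_lit 43661) (Tr.lf (nat_lit 43651)) (Tr.nd (nat_lit 43669) (Tr.lf (nat_lit 43661)) (Tr.lf (nat_lit 43669)))) (Tr.nd (nat_lit 43717) (Tr.nd (nat_lit 43711) (Tr.lf (nat_lit 43691)) (Tr.lf (nat_lit 43711))) (Tr.nd (nat_lit 43721) (Tr.lf (nat_lit 43717)) (Tr.lf (nat_lit 43721)))))) (Tr.nd (nat_lit 43793) (Tr.nd (nat_lit 43781) (Tr.nd (nat_lit 43759) (Tr.lf (nat_lit 43753)) (Tr.nd (nat_lit 43777) (Tr.lf (nat_lit 43759)) (Tr.lf (nat_lit 43777)))) (Tr.nd (nat_lit 43787) (Tr.nd (nat_lit 43783) (Tr.lf (nat_lit 43781)) (Tr.lf (nat_lit 43783)))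 (Tr.nd (nat_lit 43789) (Tr.lf (nat_lit 43787)) (Tr.lf (nat_lit 43789))))) (Tr.nd (nat_lit 43867) (Tr.nd (nat_lit 43801) (Tr.lf (nat_lit 43793)) (Tr.nd (nat_lit 43853) (Tr.lf (nat_lit 43801)) (Tr.lf (nat_lit 43853)))) (Tr.nd (nat_lit 43891) (Tr.nd (nat_lit 43889) (Tr.lf (nat_lit 43867)) (Tr.lf (nat_lit 43889))) (Tr.nd (nat_lit 43913) (Tr.lf (nat_lit 43891)) (Tr.lf (nat_lit 43913)))))))) (Tr.nd (nat_lit 44179) (Tr.nd (nat_lit 44041) (Tr.nd (nat_lit 43987) (Tr.nd (nat_lit 43961) (Tr.nd (nat_lit 43943) (Tr.lf (nat_lit 43933)) (Tr.nd (nat_lit 43951) (Tr.lf (nat_lit 43943)) (Tr.lf (nat_lit 43951)))) (Tr.nd (nat_lit 43969) (Tr.nd (nat_lit 43963) (Tr.lf (nat_lit 43961)) (Tr.lf (nat_lit 43963))) (Tr.nd (nat_lit 43973) (Tr.lf (nat_lit 43969)) (Tr.lf (nat_lit 43973))))) (Tr.nd (nat_lit 44017) (Tr.nd (nat_lit 43991) (Tr.lf (nat_lit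 43987)) (Tr.nd (nat_lit 43997) (Tr.lf (nat_lit 43991)) (Tr.lf (nat_lit 43997)))) (Tr.nd (nat_lit 44027) (Tr.nd (nat_lit 44021) (Tr.lf (nat_lit 44017)) (Tr.lf (nat_lit 44021))) (Tr.nd (nat_lit 44029) (Tr.lf (nat_lit 44027)) (Tr.lf (nat_lit 44029)))))) (Tr.nd (nat_lit 44111) (Tr.nd (nat_lit 44071) (Tr.nd (nat_lit 44053) (Tr.lf (nat_lit 44041)) (Tr.nd (nat_lit 44059) (Tr.lf (nat_lit 44053)) (Tr.lf (nat_lit 44059)))) (Tr.nd (nat_lit 44089) (Tr.nd (nat_lit 44087) (Tr.lf (nat_lit 44071)) (Tr.lf (nat_lit 44087))) (Tr.nd (nat_lit 44101) (Tr.lf (nat_lit 44089)) (Tr.lf (nat_lit 44101))))) (Tr.nd (nat_lit 44129) (Tr.nd (nat_lit 44119) (Tr.lf (nat_lit 44111)) (Tr.nd (nat_lit 44123) (Tr.lf (nat_lit 44119)) (Tr.lf (nat_lit 44123)))) (Tr.nd (nat_lit 44159) (Tr.nd (nat_lit 44131) (Tr.lf (nat_lit 44129)) (Tr.lf (nat_lit 44131)))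 (Tr.nd (nat_lit 44171) (Tr.lf (nat_lit 44159)) (Tr.lf (nat_lit 44171))))))) (Tr.nd (nat_lit 44293) (Tr.nd (nat_lit 44257) (Tr.nd (nat_lit 44203) (Tr.nd (nat_lit 44189) (Tr.lf (nat_lit 44179)) (Tr.nd (nat_lit 44201) (Tr.lf (nat_lit 44189)) (Tr.lf (nat_lit 44201)))) (Tr.nd (nat_lit 44221) (Tr.nd (nat_lit 44207) (Tr.lf (nat_lit 44203)) (Tr.lf (nat_lit 44207))) (Tr.nd (nat_lit 44249) (Tr.lf (nat_lit 44221)) (Tr.lf (nat_lit 44249))))) (Tr.nd (nat_lit 44269) (Tr.nd (nat_lit 44263) (Tr.lf (nat_lit 44257)) (Tr.nd (nat_lit 44267) (Tr.lf (nat_lit 44263)) (Tr.lf (nat_lit 44267)))) (Tr.nd (nat_lit 44279) (Tr.nd (nat_lit 44273) (Tr.lf (nat_lit 44269)) (Tr.lf (nat_lit 44273))) (Tr.nd (nat_lit 44281) (Tr.lf (nat_lit 44279)) (Tr.lf (nat_lit 44281)))))) (Tr.nd (nat_lit 44417) (Tr.nd (nat_lit 44371) (Tr.nd (nat_lit 44351) (Tr.lf (nat_lit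 44293)) (Tr.nd (nat_lit 44357) (Tr.lf (nat_lit 44351)) (Tr.lf (nat_lit 44357)))) (Tr.nd (nat_lit 44383) (Tr.nd (nat_lit 44381) (Tr.lf (nat_lit 44371)) (Tr.lf (nat_lit 44381))) (Tr.nd (nat_lit 44389) (Tr.lf (nat_lit 44383)) (Tr.lf (nat_lit 44389))))) (Tr.nd (nat_lit 44483) (Tr.nd (nat_lit 44449) (Tr.lf (nat_lit 44417)) (Tr.nd (nat_lit 44453) (Tr.lf (nat_lit 44449)) (Tr.lf (nat_lit 44453)))) (Tr.nd (nat_lit 44497) (Tr.nd (nat_lit 44491) (Tr.lf (nat_lit 44483)) (Tr.lf (nat_lit 44491))) (Tr.nd (nat_lit 44501) (Tr.lf (nat_lit 44497)) (Tr.lf (nat_lit 44501)))))))))) (Tr.nd (nat_lit 45707) (Tr.nd (nat_lit 45083) (Tr.nd (nat_lit 44773) (Tr.nd (nat_lit 44633) (Tr.nd (nat_lit 44549) (Tr.nd (nat_lit 44533) (Tr.nd (nat_lit 44519) (Tr.lf (nat_lit 44507)) (Tr.nd (nat_lit 44531) (Tr.lf (nat_lit 44519)) (Tr.lf (nat_lit 44531))))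 (Tr.nd (nat_lit 44537) (Tr.lf (nat_lit 44533)) (Tr.nd (nat_lit 44543) (Tr.lf (nat_lit 44537)) (Tr.lf (nat_lit 44543))))) (Tr.nd (nat_lit 44587) (Tr.nd (nat_lit 44563) (Tr.lf (nat_lit 44549)) (Tr.nd (nat_lit 44579) (Tr.lf (nat_lit 44563)) (Tr.lf (nat_lit 44579)))) (Tr.nd (nat_lit 44621) (Tr.nd (nat_lit 44617) (Tr.lf (nat_lit 44587)) (Tr.lf (nat_lit 44617))) (Tr.nd (nat_lit 44623) (Tr.lf (nat_lit 44621)) (Tr.lf (nat_lit 44623)))))) (Tr.nd (nat_lit 44699) (Tr.nd (nat_lit 44651) (Tr.nd (nat_lit 44641) (Tr.lf (nat_lit 44633)) (Tr.nd (nat_lit 44647) (Tr.lf (nat_lit 44641)) (Tr.lf (nat_lit 44647)))) (Tr.nd (nat_lit 44683) (Tr.nd (nat_lit 44657) (Tr.lf (nat_lit 44651)) (Tr.lf (nat_lit 44657))) (Tr.nd (nat_lit 44687) (Tr.lf (nat_lit 44683)) (Tr.lf (nat_lit 44687))))) (Tr.nd (nat_lit 44729) (Tr.nd (nat_lit 44701) (Tr.lf (nat_lit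 44699)) (Tr.nd (nat_lit 44711) (Tr.lf (nat_lit 44701)) (Tr.lf (nat_lit 44711)))) (Tr.nd (nat_lit 44753) (Tr.nd (nat_lit 44741) (Tr.lf (nat_lit 44729)) (Tr.lf (nat_lit 44741))) (Tr.nd (nat_lit 44771) (Tr.lf (nat_lit 44753)) (Tr.lf (nat_lit 44771))))))) (Tr.nd (nat_lit 44917) (Tr.nd (nat_lit 44843) (Tr.nd (nat_lit 44797) (Tr.nd (nat_lit 44777) (Tr.lf (nat_lit 44773)) (Tr.nd (nat_lit 44789) (Tr.lf (nat_lit 44777)) (Tr.lf (nat_lit 44789)))) (Tr.nd (nat_lit 44819) (Tr.nd (nat_lit 44809) (Tr.lf (nat_lit 44797)) (Tr.lf (nat_lit 44809))) (Tr.nd (nat_lit 44839) (Tr.lf (nat_lit 44819)) (Tr.lf (nat_lit 44839))))) (Tr.nd (nat_lit 44879) (Tr.nd (nat_lit 44851) (Tr.lf (nat_lit 44843)) (Tr.nd (nat_lit 44867) (Tr.lf (nat_lit 44851)) (Tr.lf (nat_lit 44867)))) (Tr.nd (nat_lit 44893) (Tr.nd (nat_lit 44887) (Tr.lf (nat_lit 44879)) (Tr.lf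 (nat_lit 44887))) (Tr.nd (nat_lit 44909) (Tr.lf (nat_lit 44893)) (Tr.lf (nat_lit 44909)))))) (Tr.nd (nat_lit 44983) (Tr.nd (nat_lit 44953) (Tr.nd (nat_lit 44927) (Tr.lf (nat_lit 44917)) (Tr.nd (nat_lit 44939) (Tr.lf (nat_lit 44927)) (Tr.lf (nat_lit 44939)))) (Tr.nd (nat_lit 44963) (Tr.nd (nat_lit 44959) (Tr.lf (nat_lit 44953)) (Tr.lf (nat_lit 44959))) (Tr.nd (nat_lit 44971) (Tr.lf (nat_lit 44963)) (Tr.lf (nat_lit 44971))))) (Tr.nd (nat_lit 45013) (Tr.nd (nat_lit 44987) (Tr.lf (nat_lit 44983)) (Tr.nd (nat_lit 45007) (Tr.lf (nat_lit 44987)) (Tr.lf (nat_lit 45007)))) (Tr.nd (nat_lit 45061) (Tr.nd (nat_lit 45053) (Tr.lf (nat_lit 45013)) (Tr.lf (nat_lit 45053))) (Tr.nd (nat_lit 45077) (Tr.lf (nat_lit 45061)) (Tr.lf (nat_lit 45077)))))))) (Tr.nd (nat_lit 45389) (Tr.nd (nat_lit 45259) (Tr.nd (nat_lit 45161) (Tr.nd (nat_lit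 45127) (Tr.nd (nat_lit 45119) (Tr.lf (nat_lit 45083)) (Tr.nd (nat_lit 45121) (Tr.lf (nat_lit 45119)) (Tr.lf (nat_lit 45121)))) (Tr.nd (nat_lit 45137) (Tr.nd (nat_lit 45131) (Tr.lf (nat_lit 45127)) (Tr.lf (nat_lit 45131))) (Tr.nd (nat_lit 45139) (Tr.lf (nat_lit 45137)) (Tr.lf (nat_lit 45139))))) (Tr.nd (nat_lit 45191) (Tr.nd (nat_lit 45179) (Tr.lf (nat_lit 45161)) (Tr.nd (nat_lit 45181) (Tr.lf (nat_lit 45179)) (Tr.lf (nat_lit 45181)))) (Tr.nd (nat_lit 45233) (Tr.nd (nat_lit 45197) (Tr.lf (nat_lit 45191)) (Tr.lf (nat_lit 45197))) (Tr.nd (nat_lit 45247) (Tr.lf (nat_lit 45233)) (Tr.lf (nat_lit 45247)))))) (Tr.nd (nat_lit 45319) (Tr.nd (nat_lit 45289) (Tr.nd (nat_lit 45263) (Tr.lf (nat_lit 45259)) (Tr.nd (nat_lit 45281) (Tr.lf (nat_lit 45263)) (Tr.lf (nat_lit 45281)))) (Tr.nd (nat_lit 45307) (Tr.nd (nat_lit 45293) (Tr.lf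 (nat_lit 45289)) (Tr.lf (nat_lit 45293))) (Tr.nd (nat_lit 45317) (Tr.lf (nat_lit 45307)) (Tr.lf (nat_lit 45317))))) (Tr.nd (nat_lit 45341) (Tr.nd (nat_lit 45329) (Tr.lf (nat_lit 45319)) (Tr.nd (nat_lit 45337) (Tr.lf (nat_lit 45329)) (Tr.lf (nat_lit 45337)))) (Tr.nd (nat_lit 45361) (Tr.nd (nat_lit 45343) (Tr.lf (nat_lit 45341)) (Tr.lf (nat_lit 45343))) (Tr.nd (nat_lit 45377) (Tr.lf (nat_lit 45361)) (Tr.lf (nat_lit 45377))))))) (Tr.nd (nat_lit 45557) (Tr.nd (nat_lit 45491) (Tr.nd (nat_lit 45427) (Tr.nd (nat_lit 45403) (Tr.lf (nat_lit 45389)) (Tr.nd (nat_lit 45413) (Tr.lf (nat_lit 45403)) (Tr.lf (nat_lit 45413)))) (Tr.nd (nat_lit 45439) (Tr.nd (nat_lit 45433) (Tr.lf (nat_lit 45427)) (Tr.lf (nat_lit 45433))) (Tr.nd (nat_lit 45481) (Tr.lf (nat_lit 45439)) (Tr.lf (nat_lit 45481))))) (Tr.nd (nat_lit 45523) (Tr.nd (nat_lit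 45497) (Tr.lf (nat_lit 45491)) (Tr.nd (nat_lit 45503) (Tr.lf (nat_lit 45497)) (Tr.lf (nat_lit 45503)))) (Tr.nd (nat_lit 45541) (Tr.nd (nat_lit 45533) (Tr.lf (nat_lit 45523)) (Tr.lf (nat_lit 45533))) (Tr.nd (nat_lit 45553) (Tr.lf (nat_lit 45541)) (Tr.lf (nat_lit 45553)))))) (Tr.nd (nat_lit 45641) (Tr.nd (nat_lit 45589) (Tr.nd (nat_lit 45569) (Tr.lf (nat_lit 45557)) (Tr.nd (nat_lit 45587) (Tr.lf (nat_lit 45569)) (Tr.lf (nat_lit 45587)))) (Tr.nd (nat_lit 45613) (Tr.nd (nat_lit 45599) (Tr.lf (nat_lit 45589)) (Tr.lf (nat_lit 45599))) (Tr.nd (nat_lit 45631) (Tr.lf (nat_lit 45613)) (Tr.lf (nat_lit 45631))))) (Tr.nd (nat_lit 45673) (Tr.nd (nat_lit 45659) (Tr.lf (nat_lit 45641)) (Tr.nd (nat_lit 45667) (Tr.lf (nat_lit 45659)) (Tr.lf (nat_lit 45667)))) (Tr.nd (nat_lit 45691) (Tr.nd (nat_lit 45677) (Tr.lf (nat_lit 45673)) (Tr.lf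 (nat_lit 45677))) (Tr.nd (nat_lit 45697) (Tr.lf (nat_lit 45691)) (Tr.lf (nat_lit 45697))))))))) (Tr.nd (nat_lit 46349) (Tr.nd (nat_lit 46051) (Tr.nd (nat_lit 45863) (Tr.nd (nat_lit 45817) (Tr.nd (nat_lit 45757) (Tr.nd (nat_lit 45737) (Tr.lf (nat_lit 45707)) (Tr.nd (nat_lit 45751) (Tr.lf (nat_lit 45737)) (Tr.lf (nat_lit 45751)))) (Tr.nd (nat_lit 45767) (Tr.nd (nat_lit 45763) (Tr.lf (nat_lit 45757)) (Tr.lf (nat_lit 45763))) (Tr.nd (nat_lit 45779) (Tr.lf (nat_lit 45767)) (Tr.lf (nat_lit 45779))))) (Tr.nd (nat_lit 45827) (Tr.nd (nat_lit 45821) (Tr.lf (nat_lit 45817)) (Tr.nd (nat_lit 45823) (Tr.lf (nat_lit 45821)) (Tr.lf (nat_lit 45823)))) (Tr.nd (nat_lit 45841) (Tr.nd (nat_lit 45833) (Tr.lf (nat_lit 45827)) (Tr.lf (nat_lit 45833))) (Tr.nd (nat_lit 45853) (Tr.lf (nat_lit 45841)) (Tr.lf (nat_lit 45853)))))) (Tr.nd (nat_lit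 45959) (Tr.nd (nat_lit 45893) (Tr.nd (nat_lit 45869) (Tr.lf (nat_lit 45863)) (Tr.nd (nat_lit 45887) (Tr.lf (nat_lit 45869)) (Tr.lf (nat_lit 45887)))) (Tr.nd (nat_lit 45949) (Tr.nd (nat_lit 45943) (Tr.lf (nat_lit 45893)) (Tr.lf (nat_lit 45943))) (Tr.nd (nat_lit 45953) (Tr.lf (nat_lit 45949)) (Tr.lf (nat_lit 45953))))) (Tr.nd (nat_lit 45989) (Tr.nd (nat_lit 45971) (Tr.lf (nat_lit 45959)) (Tr.nd (nat_lit 45979) (Tr.lf (nat_lit 45971)) (Tr.lf (nat_lit 45979)))) (Tr.nd (nat_lit 46027) (Tr.nd (nat_lit 46021) (Tr.lf (nat_lit 45989)) (Tr.lf (nat_lit 46021))) (Tr.nd (nat_lit 46049) (Tr.lf (nat_lit 46027)) (Tr.lf (nat_lit 46049))))))) (Tr.nd (nat_lit 46187) (Tr.nd (nat_lit 46133) (Tr.nd (nat_lit 46091) (Tr.nd (nat_lit 46061) (Tr.lf (nat_lit 46051)) (Tr.nd (nat_lit 46073) (Tr.lf (nat_lit 46061)) (Tr.lf (nat_lit 46073)))) (Tr.nd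 (nat_lit 46099) (Tr.nd (nat_lit 46093) (Tr.lf (nat_lit 46091)) (Tr.lf (nat_lit 46093))) (Tr.nd (nat_lit 46103) (Tr.lf (nat_lit 46099)) (Tr.lf (nat_lit 46103))))) (Tr.nd (nat_lit 46153) (Tr.nd (nat_lit 46141) (Tr.lf (nat_lit 46133)) (Tr.nd (nat_lit 46147) (Tr.lf (nat_lit 46141)) (Tr.lf (nat_lit 46147)))) (Tr.nd (nat_lit 46181) (Tr.nd (nat_lit 46171) (Tr.lf (nat_lit 46153)) (Tr.lf (nat_lit 46171))) (Tr.nd (nat_lit 46183) (Tr.lf (nat_lit 46181)) (Tr.lf (nat_lit 46183)))))) (Tr.nd (nat_lit 46273) (Tr.nd (nat_lit 46229) (Tr.nd (nat_lit 46199) (Tr.lf (nat_lit 46187)) (Tr.nd (nat_lit 46219) (Tr.lf (nat_lit 46199)) (Tr.lf (nat_lit 46219)))) (Tr.nd (nat_lit 46261) (Tr.nd (nat_lit 46237) (Tr.lf (nat_lit 46229)) (Tr.lf (nat_lit 46237))) (Tr.nd (nat_lit 46271) (Tr.lf (nat_lit 46261)) (Tr.lf (nat_lit 46271))))) (Tr.nd (nat_lit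 46307) (Tr.nd (nat_lit 46279) (Tr.lf (nat_lit 46273)) (Tr.nd (nat_lit 46301) (Tr.lf (nat_lit 46279)) (Tr.lf (nat_lit 46301)))) (Tr.nd (nat_lit 46327) (Tr.nd (nat_lit 46309) (Tr.lf (nat_lit 46307)) (Tr.lf (nat_lit 46309))) (Tr.nd (nat_lit 46337) (Tr.lf (nat_lit 46327)) (Tr.lf (nat_lit 46337)))))))) (Tr.nd (nat_lit 46649) (Tr.nd (nat_lit 46507) (Tr.nd (nat_lit 46447) (Tr.nd (nat_lit 46399) (Tr.nd (nat_lit 46351) (Tr.lf (nat_lit 46349)) (Tr.nd (nat_lit 46381) (Tr.lf (nat_lit 46351)) (Tr.lf (nat_lit 46381)))) (Tr.nd (nat_lit 46439) (Tr.nd (nat_lit 46411) (Tr.lf (nat_lit 46399)) (Tr.lf (nat_lit 46411))) (Tr.nd (nat_lit 46441) (Tr.lf (nat_lit 46439)) (Tr.lf (nat_lit 46441))))) (Tr.nd (nat_lit 46471) (Tr.nd (nat_lit 46451) (Tr.lf (nat_lit 46447)) (Tr.nd (nat_lit 46457) (Tr.lf (nat_lit 46451)) (Tr.lf (nat_lit 46457)))) (Tr.nd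 (nat_lit 46489) (Tr.nd (nat_lit 46477) (Tr.lf (nat_lit 46471)) (Tr.lf (nat_lit 46477))) (Tr.nd (nat_lit 46499) (Tr.lf (nat_lit 46489)) (Tr.lf (nat_lit 46499)))))) (Tr.nd (nat_lit 46589) (Tr.nd (nat_lit 46549) (Tr.nd (nat_lit 46511) (Tr.lf (nat_lit 46507)) (Tr.nd (nat_lit 46523) (Tr.lf (nat_lit 46511)) (Tr.lf (nat_lit 46523)))) (Tr.nd (nat_lit 46567) (Tr.nd (nat_lit 46559) (Tr.lf (nat_lit 46549)) (Tr.lf (nat_lit 46559))) (Tr.nd (nat_lit 46573) (Tr.lf (nat_lit 46567)) (Tr.lf (nat_lit 46573))))) (Tr.nd (nat_lit 46619) (Tr.nd (nat_lit 46591) (Tr.lf (nat_lit 46589)) (Tr.nd (nat_lit 46601) (Tr.lf (nat_lit 46591)) (Tr.lf (nat_lit 46601)))) (Tr.nd (nat_lit 46639) (Tr.nd (nat_lit 46633) (Tr.lf (nat_lit 46619)) (Tr.lf (nat_lit 46633))) (Tr.nd (nat_lit 46643) (Tr.lf (nat_lit 46639)) (Tr.lf (nat_lit 46643))))))) (Tr.nd (nat_lit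 46807) (Tr.nd (nat_lit 46723) (Tr.nd (nat_lit 46681) (Tr.nd (nat_lit 46663) (Tr.lf (nat_lit 46649)) (Tr.nd (nat_lit 46679) (Tr.lf (nat_lit 46663)) (Tr.lf (nat_lit 46679)))) (Tr.nd (nat_lit 46691) (Tr.nd (nat_lit 46687) (Tr.lf (nat_lit 46681)) (Tr.lf (nat_lit 46687))) (Tr.nd (nat_lit 46703) (Tr.lf (nat_lit 46691)) (Tr.lf (nat_lit 46703))))) (Tr.nd (nat_lit 46751) (Tr.nd (nat_lit 46727) (Tr.lf (nat_lit 46723)) (Tr.nd (nat_lit 46747) (Tr.lf (nat_lit 46727)) (Tr.lf (nat_lit 46747)))) (Tr.nd (nat_lit 46769) (Tr.nd (nat_lit 46757) (Tr.lf (nat_lit 46751)) (Tr.lf (nat_lit 46757))) (Tr.nd (nat_lit 46771) (Tr.lf (nat_lit 46769)) (Tr.lf (nat_lit 46771)))))) (Tr.nd (nat_lit 46861) (Tr.nd (nat_lit 46819) (Tr.nd (nat_lit 46811) (Tr.lf (nat_lit 46807)) (Tr.nd (nat_lit 46817) (Tr.lf (nat_lit 46811)) (Tr.lf (nat_lit 46817)))) (Tr.nd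 (nat_lit 46831) (Tr.nd (nat_lit 46829) (Tr.lf (nat_lit 46819)) (Tr.lf (nat_lit 46829))) (Tr.nd (nat_lit 46853) (Tr.lf (nat_lit 46831)) (Tr.lf (nat_lit 46853))))) (Tr.nd (nat_lit 46889) (Tr.nd (nat_lit 46867) (Tr.lf (nat_lit 46861)) (Tr.nd (nat_lit 46877) (Tr.lf (nat_lit 46867)) (Tr.lf (nat_lit 46877)))) (Tr.nd (nat_lit 46919) (Tr.nd (nat_lit 46901) (Tr.lf (nat_lit 46889)) (Tr.lf (nat_lit 46901))) (Tr.nd (nat_lit 46933) (Tr.lf (nat_lit 46919)) (Tr.lf (nat_lit 46933))))))))))) (Tr.nd (nat_lit 49367) (Tr.nd (nat_lit 48179) (Tr.nd (nat_lit 47569) (Tr.nd (nat_lit 47293) (Tr.nd (nat_lit 47129) (Tr.nd (nat_lit 47057) (Tr.nd (nat_lit 47017) (Tr.nd (nat_lit 46993) (Tr.lf (nat_lit 46957)) (Tr.nd (nat_lit 46997) (Tr.lf (nat_lit 46993)) (Tr.lf (nat_lit 46997)))) (Tr.nd (nat_lit 47041) (Tr.lf (nat_lit 47017)) (Tr.nd (nat_lit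 47051) (Tr.lf (nat_lit 47041)) (Tr.lf (nat_lit 47051))))) (Tr.nd (nat_lit 47093) (Tr.nd (nat_lit 47059) (Tr.lf (nat_lit 47057)) (Tr.nd (nat_lit 47087) (Tr.lf (nat_lit 47059)) (Tr.lf (nat_lit 47087)))) (Tr.nd (nat_lit 47119) (Tr.nd (nat_lit 47111) (Tr.lf (nat_lit 47093)) (Tr.lf (nat_lit 47111))) (Tr.nd (nat_lit 47123) (Tr.lf (nat_lit 47119)) (Tr.lf (nat_lit 47123)))))) (Tr.nd (nat_lit 47207) (Tr.nd (nat_lit 47147) (Tr.nd (nat_lit 47137) (Tr.lf (nat_lit 47129)) (Tr.nd (nat_lit 47143) (Tr.lf (nat_lit 47137)) (Tr.lf (nat_lit 47143)))) (Tr.nd (nat_lit 47161) (Tr.nd (nat_lit 47149) (Tr.lf (nat_lit 47147)) (Tr.lf (nat_lit 47149))) (Tr.nd (nat_lit 47189) (Tr.lf (nat_lit 47161)) (Tr.lf (nat_lit 47189))))) (Tr.nd (nat_lit 47251) (Tr.nd (nat_lit 47221) (Tr.lf (nat_lit 47207)) (Tr.nd (nat_lit 47237) (Tr.lf (nat_lit 47221)) (Tr.lf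 (nat_lit 47237)))) (Tr.nd (nat_lit 47279) (Tr.nd (nat_lit 47269) (Tr.lf (nat_lit 47251)) (Tr.lf (nat_lit 47269))) (Tr.nd (nat_lit 47287) (Tr.lf (nat_lit 47279)) (Tr.lf (nat_lit 47287))))))) (Tr.nd (nat_lit 47419) (Tr.nd (nat_lit 47353) (Tr.nd (nat_lit 47309) (Tr.nd (nat_lit 47297) (Tr.lf (nat_lit 47293)) (Tr.nd (nat_lit 47303) (Tr.lf (nat_lit 47297)) (Tr.lf (nat_lit 47303)))) (Tr.nd (nat_lit 47339) (Tr.nd (nat_lit 47317) (Tr.lf (nat_lit 47309)) (Tr.lf (nat_lit 47317))) (Tr.nd (nat_lit 47351) (Tr.lf (nat_lit 47339)) (Tr.lf (nat_lit 47351))))) (Tr.nd (nat_lit 47387) (Tr.nd (nat_lit 47363) (Tr.lf (nat_lit 47353)) (Tr.nd (nat_lit 47381) (Tr.lf (nat_lit 47363)) (Tr.lf (nat_lit 47381)))) (Tr.nd (nat_lit 47407) (Tr.nd (nat_lit 47389) (Tr.lf (nat_lit 47387)) (Tr.lf (nat_lit 47389))) (Tr.nd (nat_lit 47417) (Tr.lf (nat_lit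 47407)) (Tr.lf (nat_lit 47417)))))) (Tr.nd (nat_lit 47507) (Tr.nd (nat_lit 47459) (Tr.nd (nat_lit 47431) (Tr.lf (nat_lit 47419)) (Tr.nd (nat_lit 47441) (Tr.lf (nat_lit 47431)) (Tr.lf (nat_lit 47441)))) (Tr.nd (nat_lit 47497) (Tr.nd (nat_lit 47491) (Tr.lf (nat_lit 47459)) (Tr.lf (nat_lit 47491))) (Tr.nd (nat_lit 47501) (Tr.lf (nat_lit 47497)) (Tr.lf (nat_lit 47501))))) (Tr.nd (nat_lit 47527) (Tr.nd (nat_lit 47513) (Tr.lf (nat_lit 47507)) (Tr.nd (nat_lit 47521) (Tr.lf (nat_lit 47513)) (Tr.lf (nat_lit 47521)))) (Tr.nd (nat_lit 47543) (Tr.nd (nat_lit 47533) (Tr.lf (nat_lit 47527)) (Tr.lf (nat_lit 47533))) (Tr.nd (nat_lit 47563) (Tr.lf (nat_lit 47543)) (Tr.lf (nat_lit 47563)))))))) (Tr.nd (nat_lit 47843) (Tr.nd (nat_lit 47711) (Tr.nd (nat_lit 47639) (Tr.nd (nat_lit 47599) (Tr.nd (nat_lit 47581) (Tr.lf (nat_lit 47569))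 (Tr.nd (nat_lit 47591) (Tr.lf (nat_lit 47581)) (Tr.lf (nat_lit 47591)))) (Tr.nd (nat_lit 47623) (Tr.nd (nat_lit 47609) (Tr.lf (nat_lit 47599)) (Tr.lf (nat_lit 47609))) (Tr.nd (nat_lit 47629) (Tr.lf (nat_lit 47623)) (Tr.lf (nat_lit 47629))))) (Tr.nd (nat_lit 47659) (Tr.nd (nat_lit 47653) (Tr.lf (nat_lit 47639)) (Tr.nd (nat_lit 47657) (Tr.lf (nat_lit 47653)) (Tr.lf (nat_lit 47657)))) (Tr.nd (nat_lit 47699) (Tr.nd (nat_lit 47681) (Tr.lf (nat_lit 47659)) (Tr.lf (nat_lit 47681))) (Tr.nd (nat_lit 47701) (Tr.lf (nat_lit 47699)) (Tr.lf (nat_lit 47701)))))) (Tr.nd (nat_lit 47779) (Tr.nd (nat_lit 47737) (Tr.nd (nat_lit 47713) (Tr.lf (nat_lit 47711)) (Tr.nd (nat_lit 47717) (Tr.lf (nat_lit 47713)) (Tr.lf (nat_lit 47717)))) (Tr.nd (nat_lit 47743) (Tr.nd (nat_lit 47741) (Tr.lf (nat_lit 47737)) (Tr.lf (nat_lit 47741))) (Tr.nd (nat_lit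 47777) (Tr.lf (nat_lit 47743)) (Tr.lf (nat_lit 47777))))) (Tr.nd (nat_lit 47807) (Tr.nd (nat_lit 47791) (Tr.lf (nat_lit 47779)) (Tr.nd (nat_lit 47797) (Tr.lf (nat_lit 47791)) (Tr.lf (nat_lit 47797)))) (Tr.nd (nat_lit 47819) (Tr.nd (nat_lit 47809) (Tr.lf (nat_lit 47807)) (Tr.lf (nat_lit 47809))) (Tr.nd (nat_lit 47837) (Tr.lf (nat_lit 47819)) (Tr.lf (nat_lit 47837))))))) (Tr.nd (nat_lit 47981) (Tr.nd (nat_lit 47933) (Tr.nd (nat_lit 47881) (Tr.nd (nat_lit 47857) (Tr.lf (nat_lit 47843)) (Tr.nd (nat_lit 47869) (Tr.lf (nat_lit 47857)) (Tr.lf (nat_lit 47869)))) (Tr.nd (nat_lit 47911) (Tr.nd (nat_lit 47903) (Tr.lf (nat_lit 47881)) (Tr.lf (nat_lit 47903))) (Tr.nd (nat_lit 47917) (Tr.lf (nat_lit 47911)) (Tr.lf (nat_lit 47917))))) (Tr.nd (nat_lit 47951) (Tr.nd (nat_lit 47939) (Tr.lf (nat_lit 47933)) (Tr.nd (nat_lit 47947) (Tr.lf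 (nat_lit 47939)) (Tr.lf (nat_lit 47947)))) (Tr.nd (nat_lit 47969) (Tr.nd (nat_lit 47963) (Tr.lf (nat_lit 47951)) (Tr.lf (nat_lit 47963))) (Tr.nd (nat_lit 47977) (Tr.lf (nat_lit 47969)) (Tr.lf (nat_lit 47977)))))) (Tr.nd (nat_lit 48091) (Tr.nd (nat_lit 48029) (Tr.nd (nat_lit 48017) (Tr.lf (nat_lit 47981)) (Tr.nd (nat_lit 48023) (Tr.lf (nat_lit 48017)) (Tr.lf (nat_lit 48023)))) (Tr.nd (nat_lit 48073) (Tr.nd (nat_lit 48049) (Tr.lf (nat_lit 48029)) (Tr.lf (nat_lit 48049))) (Tr.nd (nat_lit 48079) (Tr.lf (nat_lit 48073)) (Tr.lf (nat_lit 48079))))) (Tr.nd (nat_lit 48121) (Tr.nd (nat_lit 48109) (Tr.lf (nat_lit 48091)) (Tr.nd (nat_lit 48119) (Tr.lf (nat_lit 48109)) (Tr.lf (nat_lit 48119)))) (Tr.nd (nat_lit 48157) (Tr.nd (nat_lit 48131) (Tr.lf (nat_lit 48121)) (Tr.lf (nat_lit 48131))) (Tr.nd (nat_lit 48163) (Tr.lf (nat_lit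 48157)) (Tr.lf (nat_lit 48163))))))))) (Tr.nd (nat_lit 48781) (Tr.nd (nat_lit 48487) (Tr.nd (nat_lit 48341) (Tr.nd (nat_lit 48259) (Tr.nd (nat_lit 48197) (Tr.nd (nat_lit 48187) (Tr.lf (nat_lit 48179)) (Tr.nd (nat_lit 48193) (Tr.lf (nat_lit 48187)) (Tr.lf (nat_lit 48193)))) (Tr.nd (nat_lit 48239) (Tr.nd (nat_lit 48221) (Tr.lf (nat_lit 48197)) (Tr.lf (nat_lit 48221))) (Tr.nd (nat_lit 48247) (Tr.lf (nat_lit 48239)) (Tr.lf (nat_lit 48247))))) (Tr.nd (nat_lit 48299) (Tr.nd (nat_lit 48271) (Tr.lf (nat_lit 48259)) (Tr.nd (nat_lit 48281) (Tr.lf (nat_lit 48271)) (Tr.lf (nat_lit 48281)))) (Tr.nd (nat_lit 48313) (Tr.nd (nat_lit 48311) (Tr.lf (nat_lit 48299)) (Tr.lf (nat_lit 48311))) (Tr.nd (nat_lit 48337) (Tr.lf (nat_lit 48313)) (Tr.lf (nat_lit 48337)))))) (Tr.nd (nat_lit 48413) (Tr.nd (nat_lit 48383) (Tr.nd (nat_lit 48353)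 (Tr.lf (nat_lit 48341)) (Tr.nd (nat_lit 48371) (Tr.lf (nat_lit 48353)) (Tr.lf (nat_lit 48371)))) (Tr.nd (nat_lit 48407) (Tr.nd (nat_lit 48397) (Tr.lf (nat_lit 48383)) (Tr.lf (nat_lit 48397))) (Tr.nd (nat_lit 48409) (Tr.lf (nat_lit 48407)) (Tr.lf (nat_lit 48409))))) (Tr.nd (nat_lit 48463) (Tr.nd (nat_lit 48437) (Tr.lf (nat_lit 48413)) (Tr.nd (nat_lit 48449) (Tr.lf (nat_lit 48437)) (Tr.lf (nat_lit 48449)))) (Tr.nd (nat_lit 48479) (Tr.nd (nat_lit 48473) (Tr.lf (nat_lit 48463)) (Tr.lf (nat_lit 48473))) (Tr.nd (nat_lit 48481) (Tr.lf (nat_lit 48479)) (Tr.lf (nat_lit 48481))))))) (Tr.nd (nat_lit 48623) (Tr.nd (nat_lit 48541) (Tr.nd (nat_lit 48523) (Tr.nd (nat_lit 48491) (Tr.lf (nat_lit 48487)) (Tr.nd (nat_lit 48497) (Tr.lf (nat_lit 48491)) (Tr.lf (nat_lit 48497)))) (Tr.nd (nat_lit 48533) (Tr.nd (nat_lit 48527) (Tr.lf (nat_lit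 48523)) (Tr.lf (nat_lit 48527))) (Tr.nd (nat_lit 48539) (Tr.lf (nat_lit 48533)) (Tr.lf (nat_lit 48539))))) (Tr.nd (nat_lit 48589) (Tr.nd (nat_lit 48563) (Tr.lf (nat_lit 48541)) (Tr.nd (nat_lit 48571) (Tr.lf (nat_lit 48563)) (Tr.lf (nat_lit 48571)))) (Tr.nd (nat_lit 48611) (Tr.nd (nat_lit 48593) (Tr.lf (nat_lit 48589)) (Tr.lf (nat_lit 48593))) (Tr.nd (nat_lit 48619) (Tr.lf (nat_lit 48611)) (Tr.lf (nat_lit 48619)))))) (Tr.nd (nat_lit 48731) (Tr.nd (nat_lit 48661) (Tr.nd (nat_lit 48647) (Tr.lf (nat_lit 48623)) (Tr.nd (nat_lit 48649) (Tr.lf (nat_lit 48647)) (Tr.lf (nat_lit 48649)))) (Tr.nd (nat_lit 48677) (Tr.nd (nat_lit 48673) (Tr.lf (nat_lit 48661)) (Tr.lf (nat_lit 48673))) (Tr.nd (nat_lit 48679) (Tr.lf (nat_lit 48677)) (Tr.lf (nat_lit 48679))))) (Tr.nd (nat_lit 48757) (Tr.nd (nat_lit 48733) (Tr.lf (nat_lit 48731))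 (Tr.nd (nat_lit 48751) (Tr.lf (nat_lit 48733)) (Tr.lf (nat_lit 48751)))) (Tr.nd (nat_lit 48767) (Tr.nd (nat_lit 48761) (Tr.lf (nat_lit 48757)) (Tr.lf (nat_lit 48761))) (Tr.nd (nat_lit 48779) (Tr.lf (nat_lit 48767)) (Tr.lf (nat_lit 48779)))))))) (Tr.nd (nat_lit 49069) (Tr.nd (nat_lit 48907) (Tr.nd (nat_lit 48847) (Tr.nd (nat_lit 48809) (Tr.nd (nat_lit 48787) (Tr.lf (nat_lit 48781)) (Tr.nd (nat_lit 48799) (Tr.lf (nat_lit 48787)) (Tr.lf (nat_lit 48799)))) (Tr.nd (nat_lit 48821) (Tr.nd (nat_lit 48817) (Tr.lf (nat_lit 48809)) (Tr.lf (nat_lit 48817))) (Tr.nd (nat_lit 48823) (Tr.lf (nat_lit 48821)) (Tr.lf (nat_lit 48823))))) (Tr.nd (nat_lit 48869) (Tr.nd (nat_lit 48857) (Tr.lf (nat_lit 48847)) (Tr.nd (nat_lit 48859) (Tr.lf (nat_lit 48857)) (Tr.lf (nat_lit 48859)))) (Tr.nd (nat_lit 48883) (Tr.nd (nat_lit 48871) (Tr.lf (nat_lit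 48869)) (Tr.lf (nat_lit 48871))) (Tr.nd (nat_lit 48889) (Tr.lf (nat_lit 48883)) (Tr.lf (nat_lit 48889)))))) (Tr.nd (nat_lit 49009) (Tr.nd (nat_lit 48973) (Tr.nd (nat_lit 48947) (Tr.lf (nat_lit 48907)) (Tr.nd (nat_lit 48953) (Tr.lf (nat_lit 48947)) (Tr.lf (nat_lit 48953)))) (Tr.nd (nat_lit 48991) (Tr.nd (nat_lit 48989) (Tr.lf (nat_lit 48973)) (Tr.lf (nat_lit 48989))) (Tr.nd (nat_lit 49003) (Tr.lf (nat_lit 48991)) (Tr.lf (nat_lit 49003))))) (Tr.nd (nat_lit 49033) (Tr.nd (nat_lit 49019) (Tr.lf (nat_lit 49009)) (Tr.nd (nat_lit 49031) (Tr.lf (nat_lit 49019)) (Tr.lf (nat_lit 49031)))) (Tr.nd (nat_lit 49043) (Tr.nd (nat_lit 49037) (Tr.lf (nat_lit 49033)) (Tr.lf (nat_lit 49037))) (Tr.nd (nat_lit 49057) (Tr.lf (nat_lit 49043)) (Tr.lf (nat_lit 49057))))))) (Tr.nd (nat_lit 49201) (Tr.nd (nat_lit 49139) (Tr.nd (nat_lit 49109)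 (Tr.nd (nat_lit 49081) (Tr.lf (nat_lit 49069)) (Tr.nd (nat_lit 49103) (Tr.lf (nat_lit 49081)) (Tr.lf (nat_lit 49103)))) (Tr.nd (nat_lit 49121) (Tr.nd (nat_lit 49117) (Tr.lf (nat_lit 49109)) (Tr.lf (nat_lit 49117))) (Tr.nd (nat_lit 49123) (Tr.lf (nat_lit 49121)) (Tr.lf (nat_lit 49123))))) (Tr.nd (nat_lit 49171) (Tr.nd (nat_lit 49157) (Tr.lf (nat_lit 49139)) (Tr.nd (nat_lit 49169) (Tr.lf (nat_lit 49157)) (Tr.lf (nat_lit 49169)))) (Tr.nd (nat_lit 49193) (Tr.nd (nat_lit 49177) (Tr.lf (nat_lit 49171)) (Tr.lf (nat_lit 49177))) (Tr.nd (nat_lit 49199) (Tr.lf (nat_lit 49193)) (Tr.lf (nat_lit 49199)))))) (Tr.nd (nat_lit 49279) (Tr.nd (nat_lit 49223) (Tr.nd (nat_lit 49207) (Tr.lf (nat_lit 49201)) (Tr.nd (nat_lit 49211) (Tr.lf (nat_lit 49207)) (Tr.lf (nat_lit 49211)))) (Tr.nd (nat_lit 49261) (Tr.nd (nat_lit 49253) (Tr.lf (nat_lit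 49223)) (Tr.lf (nat_lit 49253))) (Tr.nd (nat_lit 49277) (Tr.lf (nat_lit 49261)) (Tr.lf (nat_lit 49277))))) (Tr.nd (nat_lit 49331) (Tr.nd (nat_lit 49297) (Tr.lf (nat_lit 49279)) (Tr.nd (nat_lit 49307) (Tr.lf (nat_lit 49297)) (Tr.lf (nat_lit 49307)))) (Tr.nd (nat_lit 49339) (Tr.nd (nat_lit 49333) (Tr.lf (nat_lit 49331)) (Tr.lf (nat_lit 49333))) (Tr.nd (nat_lit 49363) (Tr.lf (nat_lit 49339)) (Tr.lf (nat_lit 49363)))))))))) (Tr.nd (nat_lit 50539) (Tr.nd (nat_lit 49937) (Tr.nd (nat_lit 49639) (Tr.nd (nat_lit 49481) (Tr.nd (nat_lit 49417) (Tr.nd (nat_lit 49393) (Tr.nd (nat_lit 49369) (Tr.lf (nat_lit 49367)) (Tr.nd (nat_lit 49391) (Tr.lf (nat_lit 49369)) (Tr.lf (nat_lit 49391)))) (Tr.nd (nat_lit 49409) (Tr.lf (nat_lit 49393)) (Tr.nd (nat_lit 49411) (Tr.lf (nat_lit 49409)) (Tr.lf (nat_lit 49411))))) (Tr.nd (nat_lit 49451)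 (Tr.nd (nat_lit 49429) (Tr.lf (nat_lit 49417)) (Tr.nd (nat_lit 49433) (Tr.lf (nat_lit 49429)) (Tr.lf (nat_lit 49433)))) (Tr.nd (nat_lit 49463) (Tr.nd (nat_lit 49459) (Tr.lf (nat_lit 49451)) (Tr.lf (nat_lit 49459))) (Tr.nd (nat_lit 49477) (Tr.lf (nat_lit 49463)) (Tr.lf (nat_lit 49477)))))) (Tr.nd (nat_lit 49549) (Tr.nd (nat_lit 49529) (Tr.nd (nat_lit 49499) (Tr.lf (nat_lit 49481)) (Tr.nd (nat_lit 49523) (Tr.lf (nat_lit 49499)) (Tr.lf (nat_lit 49523)))) (Tr.nd (nat_lit 49537) (Tr.nd (nat_lit 49531) (Tr.lf (nat_lit 49529)) (Tr.lf (nat_lit 49531))) (Tr.nd (nat_lit 49547) (Tr.lf (nat_lit 49537)) (Tr.lf (nat_lit 49547))))) (Tr.nd (nat_lit 49603) (Tr.nd (nat_lit 49559) (Tr.lf (nat_lit 49549)) (Tr.nd (nat_lit 49597) (Tr.lf (nat_lit 49559)) (Tr.lf (nat_lit 49597)))) (Tr.nd (nat_lit 49627) (Tr.nd (nat_lit 49613) (Tr.lf (nat_lit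 49603)) (Tr.lf (nat_lit 49613))) (Tr.nd (nat_lit 49633) (Tr.lf (nat_lit 49627)) (Tr.lf (nat_lit 49633))))))) (Tr.nd (nat_lit 49789) (Tr.nd (nat_lit 49727) (Tr.nd (nat_lit 49669) (Tr.nd (nat_lit 49663) (Tr.lf (nat_lit 49639)) (Tr.nd (nat_lit 49667) (Tr.lf (nat_lit 49663)) (Tr.lf (nat_lit 49667)))) (Tr.nd (nat_lit 49697) (Tr.nd (nat_lit 49681) (Tr.lf (nat_lit 49669)) (Tr.lf (nat_lit 49681))) (Tr.nd (nat_lit 49711) (Tr.lf (nat_lit 49697)) (Tr.lf (nat_lit 49711))))) (Tr.nd (nat_lit 49747) (Tr.nd (nat_lit 49739) (Tr.lf (nat_lit 49727)) (Tr.nd (nat_lit 49741) (Tr.lf (nat_lit 49739)) (Tr.lf (nat_lit 49741)))) (Tr.nd (nat_lit 49783) (Tr.nd (nat_lit 49757) (Tr.lf (nat_lit 49747)) (Tr.lf (nat_lit 49757))) (Tr.nd (nat_lit 49787) (Tr.lf (nat_lit 49783)) (Tr.lf (nat_lit 49787)))))) (Tr.nd (nat_lit 49853) (Tr.nd (nat_lit 49811)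 (Tr.nd (nat_lit 49801) (Tr.lf (nat_lit 49789)) (Tr.nd (nat_lit 49807) (Tr.lf (nat_lit 49801)) (Tr.lf (nat_lit 49807)))) (Tr.nd (nat_lit 49831) (Tr.nd (nat_lit 49823) (Tr.lf (nat_lit 49811)) (Tr.lf (nat_lit 49823))) (Tr.nd (nat_lit 49843) (Tr.lf (nat_lit 49831)) (Tr.lf (nat_lit 49843))))) (Tr.nd (nat_lit 49891) (Tr.nd (nat_lit 49871) (Tr.lf (nat_lit 49853)) (Tr.nd (nat_lit 49877) (Tr.lf (nat_lit 49871)) (Tr.lf (nat_lit 49877)))) (Tr.nd (nat_lit 49921) (Tr.nd (nat_lit 49919) (Tr.lf (nat_lit 49891)) (Tr.lf (nat_lit 49919))) (Tr.nd (nat_lit 49927) (Tr.lf (nat_lit 49921)) (Tr.lf (nat_lit 49927)))))))) (Tr.nd (nat_lit 50221) (Tr.nd (nat_lit 50077) (Tr.nd (nat_lit 50021) (Tr.nd (nat_lit 49957) (Tr.nd (nat_lit 49939) (Tr.lf (nat_lit 49937)) (Tr.nd (nat_lit 49943) (Tr.lf (nat_lit 49939)) (Tr.lf (nat_lit 49943)))) (Tr.nd (nat_lit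 49993) (Tr.nd (nat_lit 49991) (Tr.lf (nat_lit 49957)) (Tr.lf (nat_lit 49991))) (Tr.nd (nat_lit 49999) (Tr.lf (nat_lit 49993)) (Tr.lf (nat_lit 49999))))) (Tr.nd (nat_lit 50047) (Tr.nd (nat_lit 50023) (Tr.lf (nat_lit 50021)) (Tr.nd (nat_lit 50033) (Tr.lf (nat_lit 50023)) (Tr.lf (nat_lit 50033)))) (Tr.nd (nat_lit 50053) (Tr.nd (nat_lit 50051) (Tr.lf (nat_lit 50047)) (Tr.lf (nat_lit 50051))) (Tr.nd (nat_lit 50069) (Tr.lf (nat_lit 50053)) (Tr.lf (nat_lit 50069)))))) (Tr.nd (nat_lit 50129) (Tr.nd (nat_lit 50101) (Tr.nd (nat_lit 50087) (Tr.lf (nat_lit 50077)) (Tr.nd (nat_lit 50093) (Tr.lf (nat_lit 50087)) (Tr.lf (nat_lit 50093)))) (Tr.nd (nat_lit 50119) (Tr.nd (nat_lit 50111) (Tr.lf (nat_lit 50101)) (Tr.lf (nat_lit 50111))) (Tr.nd (nat_lit 50123) (Tr.lf (nat_lit 50119)) (Tr.lf (nat_lit 50123))))) (Tr.nd (nat_lit 50153)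 (Tr.nd (nat_lit 50131) (Tr.lf (nat_lit 50129)) (Tr.nd (nat_lit 50147) (Tr.lf (nat_lit 50131)) (Tr.lf (nat_lit 50147)))) (Tr.nd (nat_lit 50177) (Tr.nd (nat_lit 50159) (Tr.lf (nat_lit 50153)) (Tr.lf (nat_lit 50159))) (Tr.nd (nat_lit 50207) (Tr.lf (nat_lit 50177)) (Tr.lf (nat_lit 50207))))))) (Tr.nd (nat_lit 50363) (Tr.nd (nat_lit 50291) (Tr.nd (nat_lit 50261) (Tr.nd (nat_lit 50227) (Tr.lf (nat_lit 50221)) (Tr.nd (nat_lit 50231) (Tr.lf (nat_lit 50227)) (Tr.lf (nat_lit 50231)))) (Tr.nd (nat_lit 50273) (Tr.nd (nat_lit 50263) (Tr.lf (nat_lit 50261)) (Tr.lf (nat_lit 50263))) (Tr.nd (nat_lit 50287) (Tr.lf (nat_lit 50273)) (Tr.lf (nat_lit 50287))))) (Tr.nd (nat_lit 50329) (Tr.nd (nat_lit 50311) (Tr.lf (nat_lit 50291)) (Tr.nd (nat_lit 50321) (Tr.lf (nat_lit 50311)) (Tr.lf (nat_lit 50321)))) (Tr.nd (nat_lit 50341) (Tr.nd (nat_lit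 50333) (Tr.lf (nat_lit 50329)) (Tr.lf (nat_lit 50333))) (Tr.nd (nat_lit 50359) (Tr.lf (nat_lit 50341)) (Tr.lf (nat_lit 50359)))))) (Tr.nd (nat_lit 50441) (Tr.nd (nat_lit 50387) (Tr.nd (nat_lit 50377) (Tr.lf (nat_lit 50363)) (Tr.nd (nat_lit 50383) (Tr.lf (nat_lit 50377)) (Tr.lf (nat_lit 50383)))) (Tr.nd (nat_lit 50417) (Tr.nd (nat_lit 50411) (Tr.lf (nat_lit 50387)) (Tr.lf (nat_lit 50411))) (Tr.nd (nat_lit 50423) (Tr.lf (nat_lit 50417)) (Tr.lf (nat_lit 50423))))) (Tr.nd (nat_lit 50497) (Tr.nd (nat_lit 50459) (Tr.lf (nat_lit 50441)) (Tr.nd (nat_lit 50461) (Tr.lf (nat_lit 50459)) (Tr.lf (nat_lit 50461)))) (Tr.nd (nat_lit 50513) (Tr.nd (nat_lit 50503) (Tr.lf (nat_lit 50497)) (Tr.lf (nat_lit 50503))) (Tr.nd (nat_lit 50527) (Tr.lf (nat_lit 50513)) (Tr.lf (nat_lit 50527))))))))) (Tr.nd (nat_lit 51199) (Tr.nd (nat_lit 50873)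 (Tr.nd (nat_lit 50707) (Tr.nd (nat_lit 50593) (Tr.nd (nat_lit 50551) (Tr.nd (nat_lit 50543) (Tr.lf (nat_lit 50539)) (Tr.nd (nat_lit 50549) (Tr.lf (nat_lit 50543)) (Tr.lf (nat_lit 50549)))) (Tr.nd (nat_lit 50587) (Tr.nd (nat_lit 50581) (Tr.lf (nat_lit 50551)) (Tr.lf (nat_lit 50581))) (Tr.nd (nat_lit 50591) (Tr.lf (nat_lit 50587)) (Tr.lf (nat_lit 50591))))) (Tr.nd (nat_lit 50647) (Tr.nd (nat_lit 50599) (Tr.lf (nat_lit 50593)) (Tr.nd (nat_lit 50627) (Tr.lf (nat_lit 50599)) (Tr.lf (nat_lit 50627)))) (Tr.nd (nat_lit 50671) (Tr.nd (nat_lit 50651) (Tr.lf (nat_lit 50647)) (Tr.lf (nat_lit 50651))) (Tr.nd (nat_lit 50683) (Tr.lf (nat_lit 50671)) (Tr.lf (nat_lit 50683)))))) (Tr.nd (nat_lit 50789) (Tr.nd (nat_lit 50753) (Tr.nd (nat_lit 50723) (Tr.lf (nat_lit 50707)) (Tr.nd (nat_lit 50741) (Tr.lf (nat_lit 50723)) (Tr.lf (nat_lit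 50741)))) (Tr.nd (nat_lit 50773) (Tr.nd (nat_lit 50767) (Tr.lf (nat_lit 50753)) (Tr.lf (nat_lit 50767))) (Tr.nd (nat_lit 50777) (Tr.lf (nat_lit 50773)) (Tr.lf (nat_lit 50777))))) (Tr.nd (nat_lit 50839) (Tr.nd (nat_lit 50821) (Tr.lf (nat_lit 50789)) (Tr.nd (nat_lit 50833) (Tr.lf (nat_lit 50821)) (Tr.lf (nat_lit 50833)))) (Tr.nd (nat_lit 50857) (Tr.nd (nat_lit 50849) (Tr.lf (nat_lit 50839)) (Tr.lf (nat_lit 50849))) (Tr.nd (nat_lit 50867) (Tr.lf (nat_lit 50857)) (Tr.lf (nat_lit 50867))))))) (Tr.nd (nat_lit 51043) (Tr.nd (nat_lit 50957) (Tr.nd (nat_lit 50909) (Tr.nd (nat_lit 50891) (Tr.lf (nat_lit 50873)) (Tr.nd (nat_lit 50893) (Tr.lf (nat_lit 50891)) (Tr.lf (nat_lit 50893)))) (Tr.nd (nat_lit 50929) (Tr.nd (nat_lit 50923) (Tr.lf (nat_lit 50909)) (Tr.lf (nat_lit 50923))) (Tr.nd (nat_lit 50951) (Tr.lf (nat_lit 50929))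 (Tr.lf (nat_lit 50951))))) (Tr.nd (nat_lit 50989) (Tr.nd (nat_lit 50969) (Tr.lf (nat_lit 50957)) (Tr.nd (nat_lit 50971) (Tr.lf (nat_lit 50969)) (Tr.lf (nat_lit 50971)))) (Tr.nd (nat_lit 51001) (Tr.nd (nat_lit 50993) (Tr.lf (nat_lit 50989)) (Tr.lf (nat_lit 50993))) (Tr.nd (nat_lit 51031) (Tr.lf (nat_lit 51001)) (Tr.lf (nat_lit 51031)))))) (Tr.nd (nat_lit 51133) (Tr.nd (nat_lit 51061) (Tr.nd (nat_lit 51047) (Tr.lf (nat_lit 51043)) (Tr.nd (nat_lit 51059) (Tr.lf (nat_lit 51047)) (Tr.lf (nat_lit 51059)))) (Tr.nd (nat_lit 51109) (Tr.nd (nat_lit 51071) (Tr.lf (nat_lit 51061)) (Tr.lf (nat_lit 51071))) (Tr.nd (nat_lit 51131) (Tr.lf (nat_lit 51109)) (Tr.lf (nat_lit 51131))))) (Tr.nd (nat_lit 51157) (Tr.nd (nat_lit 51137) (Tr.lf (nat_lit 51133)) (Tr.nd (nat_lit 51151) (Tr.lf (nat_lit 51137)) (Tr.lf (nat_lit 51151)))) (Tr.nd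 (nat_lit 51193) (Tr.nd (nat_lit 51169) (Tr.lf (nat_lit 51157)) (Tr.lf (nat_lit 51169))) (Tr.nd (nat_lit 51197) (Tr.lf (nat_lit 51193)) (Tr.lf (nat_lit 51197)))))))) (Tr.nd (nat_lit 51473) (Tr.nd (nat_lit 51347) (Tr.nd (nat_lit 51263) (Tr.nd (nat_lit 51229) (Tr.nd (nat_lit 51203) (Tr.lf (nat_lit 51199)) (Tr.nd (nat_lit 51217) (Tr.lf (nat_lit 51203)) (Tr.lf (nat_lit 51217)))) (Tr.nd (nat_lit 51241) (Tr.nd (nat_lit 51239) (Tr.lf (nat_lit 51229)) (Tr.lf (nat_lit 51239))) (Tr.nd (nat_lit 51257) (Tr.lf (nat_lit 51241)) (Tr.lf (nat_lit 51257))))) (Tr.nd (nat_lit 51307) (Tr.nd (nat_lit 51283) (Tr.lf (nat_lit 51263)) (Tr.nd (nat_lit 51287) (Tr.lf (nat_lit 51283)) (Tr.lf (nat_lit 51287)))) (Tr.nd (nat_lit 51341) (Tr.nd (nat_lit 51329) (Tr.lf (nat_lit 51307)) (Tr.lf (nat_lit 51329))) (Tr.nd (nat_lit 51343) (Tr.lf (nat_lit 51341))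 (Tr.lf (nat_lit 51343)))))) (Tr.nd (nat_lit 51421) (Tr.nd (nat_lit 51383) (Tr.nd (nat_lit 51349) (Tr.lf (nat_lit 51347)) (Tr.nd (nat_lit 51361) (Tr.lf (nat_lit 51349)) (Tr.lf (nat_lit 51361)))) (Tr.nd (nat_lit 51413) (Tr.nd (nat_lit 51407) (Tr.lf (nat_lit 51383)) (Tr.lf (nat_lit 51407))) (Tr.nd (nat_lit 51419) (Tr.lf (nat_lit 51413)) (Tr.lf (nat_lit 51419))))) (Tr.nd (nat_lit 51437) (Tr.nd (nat_lit 51427) (Tr.lf (nat_lit 51421)) (Tr.nd (nat_lit 51431) (Tr.lf (nat_lit 51427)) (Tr.lf (nat_lit 51431)))) (Tr.nd (nat_lit 51449) (Tr.nd (nat_lit 51439) (Tr.lf (nat_lit 51437)) (Tr.lf (nat_lit 51439))) (Tr.nd (nat_lit 51461) (Tr.lf (nat_lit 51449)) (Tr.lf (nat_lit 51461))))))) (Tr.nd (nat_lit 51599) (Tr.nd (nat_lit 51521) (Tr.nd (nat_lit 51487) (Tr.nd (nat_lit 51479) (Tr.lf (nat_lit 51473)) (Tr.nd (nat_lit 51481) (Tr.lf (nat_lit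 51479)) (Tr.lf (nat_lit 51481)))) (Tr.nd (nat_lit 51511) (Tr.nd (nat_lit 51503) (Tr.lf (nat_lit 51487)) (Tr.lf (nat_lit 51503))) (Tr.nd (nat_lit 51517) (Tr.lf (nat_lit 51511)) (Tr.lf (nat_lit 51517))))) (Tr.nd (nat_lit 51563) (Tr.nd (nat_lit 51539) (Tr.lf (nat_lit 51521)) (Tr.nd (nat_lit 51551) (Tr.lf (nat_lit 51539)) (Tr.lf (nat_lit 51551)))) (Tr.nd (nat_lit 51581) (Tr.nd (nat_lit 51577) (Tr.lf (nat_lit 51563)) (Tr.lf (nat_lit 51577))) (Tr.nd (nat_lit 51593) (Tr.lf (nat_lit 51581)) (Tr.lf (nat_lit 51593)))))) (Tr.nd (nat_lit 51673) (Tr.nd (nat_lit 51631) (Tr.nd (nat_lit 51607) (Tr.lf (nat_lit 51599)) (Tr.nd (nat_lit 51613) (Tr.lf (nat_lit 51607)) (Tr.lf (nat_lit 51613)))) (Tr.nd (nat_lit 51647) (Tr.nd (nat_lit 51637) (Tr.lf (nat_lit 51631)) (Tr.lf (nat_lit 51637))) (Tr.nd (nat_lit 51659) (Tr.lf (nat_lit 51647))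 (Tr.lf (nat_lit 51659))))) (Tr.nd (nat_lit 51691) (Tr.nd (nat_lit 51679) (Tr.lf (nat_lit 51673)) (Tr.nd (nat_lit 51683) (Tr.lf (nat_lit 51679)) (Tr.lf (nat_lit 51683)))) (Tr.nd (nat_lit 51719) (Tr.nd (nat_lit 51713) (Tr.lf (nat_lit 51691)) (Tr.lf (nat_lit 51713))) (Tr.nd (nat_lit 51721) (Tr.lf (nat_lit 51719)) (Tr.lf (nat_lit 51721)))))))))))))
noncomputable def L : Tr ℕ := L_0
noncomputable def A : Tr (Alt Col) := (Tr.nd (nat_lit 41) (Tr.nd (nat_lit 20) (Tr.nd (nat_lit 10) (Tr.nd (nat_lit 5) (Tr.nd (nat_lit 2) (Tr.nd (nat_lit 1) (Tr.lf Alt.tree) (Tr.lf (Alt.word (nat_lit 18) (nat_lit 0) true [Col.d, Col.d]))) (Tr.nd (nat_lit 3) (Tr.lf (Alt.word (nat_lit 22) (nat_lit 0) true [Col.e, Col.e])) (Tr.nd (nat_lit 4) (Tr.lf (Alt.word (nat_lit 27) (nat_lit 0) true [Col.g, Col.g])) (Tr.lf (Alt.word (nat_lit 7) (nat_lit 0)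 true [Col.b, Col.b]))))) (Tr.nd (nat_lit 7) (Tr.nd (nat_lit 6) (Tr.lf (Alt.word (nat_lit 0) (nat_lit 0) true [Col.a, Col.a])) (Tr.lf (Alt.word (nat_lit 13) (nat_lit 0) true [Col.c, Col.c]))) (Tr.nd (nat_lit 8) (Tr.lf (Alt.word (nat_lit 25) (nat_lit 0) true [Col.f, Col.f])) (Tr.nd (nat_lit 9) (Tr.lf (Alt.word (nat_lit 4) (nat_lit 0) true [Col.e, Col.a, Col.e, Col.a])) (Tr.lf (Alt.word (nat_lit 3) (nat_lit 0) true [Col.d, Col.a, Col.d, Col.a])))))) (Tr.nd (nat_lit 15) (Tr.nd (nat_lit 12) (Tr.nd (nat_lit 11) (Tr.lf (Alt.word (nat_lit 6) (nat_lit 0) true [Col.g, Col.a, Col.g, Col.a])) (Tr.lf (Alt.word (nat_lit 2) (nat_lit 0) true [Col.c, Col.a, Col.c, Col.a]))) (Tr.nd (nat_lit 13) (Tr.lf (Alt.word (nat_lit 9) (nat_lit 0) true [Col.d, Col.b, Col.d, Col.b])) (Tr.nd (nat_lit 14) (Tr.lf (Alt.word (nat_lit 10) (nat_lit 0)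 true [Col.e, Col.b, Col.e, Col.b])) (Tr.lf (Alt.word (nat_lit 9) (nat_lit 1) true [Col.b, Col.d, Col.b, Col.d]))))) (Tr.nd (nat_lit 17) (Tr.nd (nat_lit 16) (Tr.lf (Alt.word (nat_lit 5) (nat_lit 0) true [Col.f, Col.a, Col.f, Col.a])) (Tr.lf (Alt.word (nat_lit 5) (nat_lit 1) true [Col.a, Col.f, Col.a, Col.f]))) (Tr.nd (nat_lit 18) (Tr.lf (Alt.word (nat_lit 2) (nat_lit 1) true [Col.a, Col.c, Col.a, Col.c])) (Tr.nd (nat_lit 19) (Tr.lf (Alt.word (nat_lit 10) (nat_lit 1) true [Col.b, Col.e, Col.b, Col.e])) (Tr.lf (Alt.word (nat_lit 6) (nat_lit 1) true [Col.a, Col.g, Col.a, Col.g]))))))) (Tr.nd (nat_lit 30) (Tr.nd (nat_lit 25) (Tr.nd (nat_lit 22) (Tr.nd (nat_lit 21) (Tr.lf (Alt.word (nat_lit 15) (nat_lit 0) true [Col.e, Col.c, Col.e, Col.c])) (Tr.lf (Alt.word (nat_lit 16) (nat_lit 0) true [Col.f, Col.c, Col.f, Col.c])))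 (Tr.nd (nat_lit 23) (Tr.lf (Alt.word (nat_lit 17) (nat_lit 0) true [Col.g, Col.c, Col.g, Col.c])) (Tr.nd (nat_lit 24) (Tr.lf (Alt.word (nat_lit 20) (nat_lit 0) true [Col.f, Col.d, Col.f, Col.d])) (Tr.lf (Alt.word (nat_lit 3) (nat_lit 1) true [Col.a, Col.d, Col.a, Col.d]))))) (Tr.nd (nat_lit 27) (Tr.nd (nat_lit 26) (Tr.lf (Alt.word (nat_lit 21) (nat_lit 0) true [Col.g, Col.d, Col.g, Col.d])) (Tr.lf (Alt.word (nat_lit 21) (nat_lit 1) true [Col.d, Col.g, Col.d, Col.g]))) (Tr.nd (nat_lit 28) (Tr.lf (Alt.word (nat_lit 16) (nat_lit 1) true [Col.c, Col.f, Col.c, Col.f])) (Tr.nd (nat_lit 29) (Tr.lf (Alt.word (nat_lit 20) (nat_lit 1) true [Col.d, Col.f, Col.d, Col.f])) (Tr.lf (Alt.word (nat_lit 17) (nat_lit 1) true [Col.c, Col.g, Col.c, Col.g])))))) (Tr.nd (nat_lit 35) (Tr.nd (nat_lit 32) (Tr.nd (nat_lit 31) (Tr.lf (Alt.word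 (nat_lit 15) (nat_lit 1) true [Col.c, Col.e, Col.c, Col.e])) (Tr.lf (Alt.word (nat_lit 8) (nat_lit 1) true [Col.b, Col.c, Col.b, Col.c, Col.b, Col.c]))) (Tr.nd (nat_lit 33) (Tr.lf (Alt.word (nat_lit 8) (nat_lit 0) true [Col.c, Col.b, Col.c, Col.b, Col.c, Col.b])) (Tr.nd (nat_lit 34) (Tr.lf (Alt.word (nat_lit 4) (nat_lit 1) true [Col.a, Col.e, Col.a, Col.e])) (Tr.lf (Alt.word (nat_lit 24) (nat_lit 1) true [Col.e, Col.g, Col.e, Col.g]))))) (Tr.nd (nat_lit 38) (Tr.nd (nat_lit 36) (Tr.lf (Alt.word (nat_lit 23) (nat_lit 0) true [Col.f, Col.e, Col.f, Col.e])) (Tr.nd (nat_lit 37) (Tr.lf (Alt.word (nat_lit 23) (nat_lit 1) true [Col.e, Col.f, Col.e, Col.f])) (Tr.lf (Alt.word (nat_lit 24) (nat_lit 0) true [Col.g, Col.e, Col.g, Col.e])))) (Tr.nd (nat_lit 39) (Tr.lf (Alt.word (nat_lit 11) (nat_lit 0) true [Col.f, Col.b, Col.f,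 Col.b, Col.f, Col.b])) (Tr.nd (nat_lit 40) (Tr.lf (Alt.word (nat_lit 12) (nat_lit 0) true [Col.g, Col.b, Col.g, Col.b, Col.g, Col.b])) (Tr.lf (Alt.word (nat_lit 12) (nat_lit 1) true [Col.b, Col.g, Col.b, Col.g, Col.b, Col.g])))))))) (Tr.nd (nat_lit 62) (Tr.nd (nat_lit 51) (Tr.nd (nat_lit 46) (Tr.nd (nat_lit 43) (Tr.nd (nat_lit 42) (Tr.lf (Alt.word (nat_lit 11) (nat_lit 1) true [Col.b, Col.f, Col.b, Col.f, Col.b, Col.f])) (Tr.lf (Alt.word (nat_lit 28) (nat_lit 1) true [Col.d, Col.c, Col.d, Col.c, Col.d, Col.c, Col.d, Col.a, Col.c]))) (Tr.nd (nat_lit 44) (Tr.lf (Alt.word (nat_lit 1) (nat_lit 0) true [Col.b, Col.a, Col.b, Col.a, Col.b, Col.a, Col.b, Col.a, Col.b, Col.a])) (Tr.nd (nat_lit 45) (Tr.lf (Alt.word (nat_lit 29) (nat_lit 0) true [Col.f, Col.g, Col.f, Col.g, Col.a])) (Tr.lf (Alt.word (nat_lit 19) (nat_lit 0)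 true [Col.e, Col.d, Col.e, Col.d, Col.e, Col.d]))))) (Tr.nd (nat_lit 48) (Tr.nd (nat_lit 47) (Tr.lf (Alt.word (nat_lit 28) (nat_lit 0) true [Col.c, Col.d, Col.c, Col.d, Col.c, Col.d, Col.c, Col.d, Col.a])) (Tr.lf (Alt.word (nat_lit 29) (nat_lit 1) true [Col.g, Col.f, Col.g, Col.a, Col.f]))) (Tr.nd (nat_lit 49) (Tr.lf (Alt.word (nat_lit 1) (nat_lit 1) true [Col.a, Col.b, Col.a, Col.b, Col.a, Col.b, Col.a, Col.b, Col.a, Col.b])) (Tr.nd (nat_lit 50) (Tr.lf (Alt.word (nat_lit 28) (nat_lit 2) true [Col.c, Col.d, Col.c, Col.d, Col.c, Col.d, Col.a, Col.c, Col.d])) (Tr.lf (Alt.word (nat_lit 19) (nat_lit 1) true [Col.d, Col.e, Col.d, Col.e, Col.d, Col.e])))))) (Tr.nd (nat_lit 56) (Tr.nd (nat_lit 53) (Tr.nd (nat_lit 52) (Tr.lf (Alt.word (nat_lit 29) (nat_lit 4) true [Col.a, Col.f, Col.g, Col.f, Col.g])) (Tr.lf (Alt.word (nat_lit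 29) (nat_lit 2) true [Col.f, Col.g, Col.a, Col.f, Col.g]))) (Tr.nd (nat_lit 54) (Tr.lf (Alt.word (nat_lit 30) (nat_lit 1) false [Col.b, Col.c, Col.f, Col.a, Col.b, Col.c, Col.f, Col.a, Col.b, Col.c, Col.f, Col.a, Col.b, Col.c, Col.f, Col.a, Col.b, Col.c, Col.f, Col.a])) (Tr.nd (nat_lit 55) (Tr.lf (Alt.word (nat_lit 31) (nat_lit 0) true [Col.g, Col.f, Col.b, Col.g, Col.f, Col.b, Col.g, Col.f, Col.b, Col.g, Col.f, Col.b, Col.g, Col.f, Col.b])) (Tr.lf (Alt.word (nat_lit 29) (nat_lit 3) true [Col.g, Col.a, Col.f, Col.g, Col.f]))))) (Tr.nd (nat_lit 59) (Tr.nd (nat_lit 57) (Tr.lf (Alt.word (nat_lit 28) (nat_lit 6) true [Col.c, Col.d, Col.a, Col.c, Col.d, Col.c, Col.d, Col.c, Col.d])) (Tr.nd (nat_lit 58) (Tr.lf (Alt.word (nat_lit 30) (nat_lit 2) true [Col.b, Col.a, Col.f, Col.c, Col.b, Col.a, Col.f, Col.c, Col.b, Col.a,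 Col.f, Col.c, Col.b, Col.a, Col.f, Col.c, Col.b, Col.a, Col.f, Col.c])) (Tr.lf (Alt.word (nat_lit 31) (nat_lit 1) false [Col.f, Col.g, Col.b, Col.f, Col.g, Col.b, Col.f, Col.g, Col.b, Col.f, Col.g, Col.b, Col.f, Col.g, Col.b])))) (Tr.nd (nat_lit 60) (Tr.lf (Alt.word (nat_lit 31) (nat_lit 0) false [Col.b, Col.f, Col.g, Col.b, Col.f, Col.g, Col.b, Col.f, Col.g, Col.b, Col.f, Col.g, Col.b, Col.f, Col.g])) (Tr.nd (nat_lit 61) (Tr.lf (Alt.word (nat_lit 31) (nat_lit 1) true [Col.f, Col.b, Col.g, Col.f, Col.b, Col.g, Col.f, Col.b, Col.g, Col.f, Col.b, Col.g, Col.f, Col.b, Col.g])) (Tr.lf (Alt.word (nat_lit 29) (nat_lit 1) false [Col.g, Col.f, Col.g, Col.f, Col.a]))))))) (Tr.nd (nat_lit 72) (Tr.nd (nat_lit 67) (Tr.nd (nat_lit 64) (Tr.nd (nat_lit 63) (Tr.lf (Alt.base (nat_lit 0) [] [Col.a])) (Tr.lf (Alt.base (nat_lit 1) []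 [Col.b]))) (Tr.nd (nat_lit 65) (Tr.lf (Alt.base (nat_lit 2) [] [Col.c])) (Tr.nd (nat_lit 66) (Tr.lf (Alt.base (nat_lit 3) [] [Col.d])) (Tr.lf (Alt.base (nat_lit 4) [] [Col.e]))))) (Tr.nd (nat_lit 69) (Tr.nd (nat_lit 68) (Tr.lf (Alt.base (nat_lit 5) [] [Col.f])) (Tr.lf (Alt.base (nat_lit 6) [Col.g, Col.b, Col.a] [Col.f, Col.b, Col.a, Col.b, Col.g]))) (Tr.nd (nat_lit 70) (Tr.lf (Alt.word (nat_lit 30) (nat_lit 3) true [Col.a, Col.f, Col.c, Col.b, Col.a, Col.f, Col.c, Col.b, Col.a, Col.f, Col.c, Col.b, Col.a, Col.f, Col.c, Col.b, Col.a, Col.f, Col.c, Col.b])) (Tr.nd (nat_lit 71) (Tr.lf (Alt.base (nat_lit 7) [Col.g, Col.b, Col.a, Col.b, Col.c, Col.b] [Col.a, Col.g, Col.b, Col.c, Col.a, Col.b, Col.g])) (Tr.lf (Alt.base (nat_lit 8) [Col.g, Col.b, Col.c, Col.d, Col.f, Col.b] [Col.g, Col.c, Col.b, Col.f, Col.d, Col.c, Col.b,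 Col.g])))))) (Tr.nd (nat_lit 77) (Tr.nd (nat_lit 74) (Tr.nd (nat_lit 73) (Tr.lf (Alt.word (nat_lit 28) (nat_lit 0) false [Col.a, Col.d, Col.c, Col.d, Col.c, Col.d, Col.c, Col.d, Col.c])) (Tr.lf (Alt.base (nat_lit 9) [Col.g, Col.b, Col.a, Col.c, Col.b, Col.d, Col.e, Col.g, Col.f, Col.b, Col.c] [Col.d, Col.c, Col.b, Col.f, Col.g, Col.e, Col.d, Col.b, Col.c, Col.a, Col.b, Col.g]))) (Tr.nd (nat_lit 75) (Tr.lf (Alt.base (nat_lit 10) [Col.g, Col.b, Col.c, Col.d, Col.c, Col.b, Col.e, Col.d, Col.c, Col.g, Col.b] [Col.a, Col.b, Col.g, Col.c, Col.d, Col.e, Col.b, Col.c, Col.d, Col.c, Col.b, Col.g])) (Tr.nd (nat_lit 76) (Tr.lf (Alt.base (nat_lit 11) [Col.g, Col.b, Col.c, Col.d, Col.c, Col.b, Col.e, Col.d, Col.c, Col.g, Col.b] [Col.f, Col.b, Col.g, Col.b, Col.c, Col.d, Col.e, Col.b, Col.c, Col.d, Col.c, Col.b, Col.g])) (Tr.lf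 (Alt.word (nat_lit 31) (nat_lit 2) true [Col.b, Col.g, Col.f, Col.b, Col.g, Col.f, Col.b, Col.g, Col.f, Col.b, Col.g, Col.f, Col.b, Col.g, Col.f]))))) (Tr.nd (nat_lit 80) (Tr.nd (nat_lit 78) (Tr.lf (Alt.word (nat_lit 28) (nat_lit 3) true [Col.d, Col.c, Col.d, Col.c, Col.d, Col.a, Col.c, Col.d, Col.c])) (Tr.nd (nat_lit 79) (Tr.lf (Alt.word (nat_lit 28) (nat_lit 8) true [Col.a, Col.c, Col.d, Col.c, Col.d, Col.c, Col.d, Col.c, Col.d])) (Tr.lf (Alt.word (nat_lit 32) (nat_lit 7) true [Col.c, Col.d, Col.c, Col.b, Col.d, Col.c, Col.d, Col.c, Col.b, Col.d, Col.c, Col.d, Col.c, Col.b, Col.d, Col.c, Col.d, Col.c, Col.b, Col.e, Col.d, Col.c, Col.d, Col.c, Col.b, Col.d, Col.c, Col.d, Col.c, Col.b, Col.d, Col.c, Col.d, Col.c, Col.b, Col.d, Col.c, Col.d, Col.c, Col.b, Col.d, Col.c, Col.d, Col.c, Col.b, Col.e, Col.d, Col.c, Col.d,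 Col.c, Col.b, Col.d, Col.c, Col.d, Col.c, Col.b, Col.d, Col.c, Col.d, Col.c, Col.b, Col.d, Col.c, Col.d, Col.c, Col.b, Col.d, Col.c, Col.d, Col.c, Col.b, Col.e, Col.d, Col.c, Col.d, Col.c, Col.b, Col.d])))) (Tr.nd (nat_lit 81) (Tr.lf (Alt.word (nat_lit 30) (nat_lit 2) false [Col.c, Col.f, Col.a, Col.b, Col.c, Col.f, Col.a, Col.b, Col.c, Col.f, Col.a, Col.b, Col.c, Col.f, Col.a, Col.b, Col.c, Col.f, Col.a, Col.b])) (Tr.nd (nat_lit 82) (Tr.lf (Alt.word (nat_lit 30) (nat_lit 0) false [Col.a, Col.b, Col.c, Col.f, Col.a, Col.b, Col.c, Col.f, Col.a, Col.b, Col.c, Col.f, Col.a, Col.b, Col.c, Col.f, Col.a, Col.b, Col.c, Col.f])) (Tr.lf (Alt.word (nat_lit 29) (nat_lit 0) false [Col.a, Col.g, Col.f, Col.g, Col.f])))))))))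
abbrev q0 : ℕ := nat_lit 32771
theorem alt_chk : Tr.all (altChk idx inv RW SW6) A = true := by decide +kernel
theorem bst_chk : bst L 32768 65536 = true := by decide +kernel
theorem size_L : size L = 1782 := by decide +kernel
theorem q0_mem : q0 ∈ L.toList := mem_sound (by decide +kernel)
theorem closed_chk_0 : Tr.all (closedP L stp inv cols) L_0 = true := by decide +kernel
theorem closed_chk : Tr.all (closedP L stp inv cols) L = true := closed_chk_0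
theorem edge_chk_0 : Tr.all (fun q => lall (fun c => chkEdge stp tau del idx PT DT q0 A c q) cols) L_0 = true := by decide +kernel
theorem edge_chk : Tr.all (fun q => lall (fun c => chkEdge stp tau del idx PT DT q0 A c q) cols) L = true := edge_chk_0
theorem trans_chk_0 : Tr.all (transP L stp PT q0 cols) L_0 = true := by decide +kernel
theorem trans_chk : Tr.all (transP L stp PT q0 cols) L = true := trans_chk_0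
theorem rel_chk0 : relChk L stp [Col.a, Col.a] = true := by decide +kernel
theorem rel_chk1 : relChk L stp [Col.b, Col.a, Col.b, Col.a, Col.b, Col.a, Col.b, Col.a, Col.b, Col.a] = true := by decide +kernel
theorem rel_chk2 : relChk L stp [Col.c, Col.a, Col.c, Col.a] = true := by decide +kernel
theorem rel_chk3 : relChk L stp [Col.d, Col.a, Col.d, Col.a] = true := by decide +kernel
theorem rel_chk4 : relChk L stp [Col.e, Col.a, Col.e, Col.a] = true := by decide +kernel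
theorem rel_chk5 : relChk L stp [Col.f, Col.a, Col.f, Col.a] = true := by decide +kernel
theorem rel_chk6 : relChk L stp [Col.g, Col.a, Col.g, Col.a] = true := by decide +kernel
theorem rel_chk7 : relChk L stp [Col.b, Col.b] = true := by decide +kernel
theorem rel_chk8 : relChk L stp [Col.c, Col.b, Col.c, Col.b, Col.c, Col.b] = true := by decide +kernel
theorem rel_chk9 : relChk L stp [Col.d, Col.b, Col.d, Col.b] = true := by decide +kernel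
theorem rel_chk10 : relChk L stp [Col.e, Col.b, Col.e, Col.b] = true := by decide +kernel
theorem rel_chk11 : relChk L stp [Col.f, Col.b, Col.f, Col.b, Col.f, Col.b] = true := by decide +kernel
theorem rel_chk12 : relChk L stp [Col.g, Col.b, Col.g, Col.b, Col.g, Col.b] = true := by decide +kernel
theorem rel_chk13 : relChk L stp [Col.c, Col.c] = true := by decide +kernel
theorem rel_chk14 : relChk L stp [Col.d, Col.c, Col.d, Col.c, Col.d, Col.c, Col.d, Col.c, Col.d, Col.c, Col.d, Col.c, Col.d, Col.c, Col.d, Col.c] = true := by decide +kernel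
theorem rel_chk15 : relChk L stp [Col.e, Col.c, Col.e, Col.c] = true := by decide +kernel
theorem rel_chk16 : relChk L stp [Col.f, Col.c, Col.f, Col.c] = true := by decide +kernel
theorem rel_chk17 : relChk L stp [Col.g, Col.c, Col.g, Col.c] = true := by decide +kernel
theorem rel_chk18 : relChk L stp [Col.d, Col.d] = true := by decide +kernel
theorem rel_chk19 : relChk L stp [Col.e, Col.d, Col.e, Col.d, Col.e, Col.d] = true := by decide +kernel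
theorem rel_chk20 : relChk L stp [Col.f, Col.d, Col.f, Col.d] = true := by decide +kernel
theorem rel_chk21 : relChk L stp [Col.g, Col.d, Col.g, Col.d] = true := by decide +kernel
theorem rel_chk22 : relChk L stp [Col.e, Col.e] = true := by decide +kernel
theorem rel_chk23 : relChk L stp [Col.f, Col.e, Col.f, Col.e] = true := by decide +kernel
theorem rel_chk24 : relChk L stp [Col.g, Col.e, Col.g, Col.e] = true := by decide +kernel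
theorem rel_chk25 : relChk L stp [Col.f, Col.f] = true := by decide +kernel
theorem rel_chk26 : relChk L stp [Col.g, Col.f, Col.g, Col.f, Col.g, Col.f, Col.g, Col.f] = true := by decide +kernel
theorem rel_chk27 : relChk L stp [Col.g, Col.g] = true := by decide +kernel
theorem rel_chk28 : relChk L stp [Col.c, Col.d, Col.c, Col.d, Col.c, Col.d, Col.c, Col.d, Col.a] = true := by decide +kernel
theorem rel_chk29 : relChk L stp [Col.f, Col.g, Col.f, Col.g, Col.a] = true := by decide +kernel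
theorem rel_chk30 : relChk L stp [Col.f, Col.c, Col.b, Col.a, Col.f, Col.c, Col.b, Col.a, Col.f, Col.c, Col.b, Col.a, Col.f, Col.c, Col.b, Col.a, Col.f, Col.c, Col.b, Col.a] = true := by decide +kernel
theorem rel_chk31 : relChk L stp [Col.g, Col.f, Col.b, Col.g, Col.f, Col.b, Col.g, Col.f, Col.b, Col.g, Col.f, Col.b, Col.g, Col.f, Col.b] = true := by decide +kernel
theorem rel_chk32 : relChk L stp [Col.e, Col.d, Col.c, Col.d, Col.c, Col.b, Col.d, Col.c, Col.d, Col.c, Col.b, Col.d, Col.c, Col.d, Col.c, Col.b, Col.d, Col.c, Col.d, Col.c, Col.b, Col.d, Col.c, Col.d, Col.c, Col.b, Col.e, Col.d, Col.c, Col.d, Col.c, Col.b, Col.d, Col.c, Col.d, Col.c, Col.b, Col.d, Col.c, Col.d, Col.c, Col.b, Col.d, Col.c, Col.d, Col.c, Col.b, Col.d, Col.c, Col.d, Col.c, Col.b, Col.e, Col.d, Col.c, Col.d, Col.c, Col.b, Col.d, Col.c, Col.d,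 Col.c, Col.b, Col.d, Col.c, Col.d, Col.c, Col.b, Col.d, Col.c, Col.d, Col.c, Col.b, Col.d, Col.c, Col.d, Col.c, Col.b] = true := by decide +kernel
theorem closed : Closed L stp inv := Closed.of_chk hcols inv_inv closed_chk
theorem pos : ∀ q ∈ L.toList, q ≠ 0 := fun q hq h => by
  have := ((bst_sound L _ _ bst_chk).1 q hq).1
  omega
theorem nodup : L.toList.Nodup := ((bst_sound L _ _ bst_chk).2.imp (fun h => Nat.ne_of_lt h))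
theorem card_L : Nat.card (Om L) = 1782 := by rw [card_Om L nodup, ← size_eq, size_L]
theorem trans : ∀ q ∈ L.toList, ∃ w : List Col, walk stp w q0 = q := trans_sound trans_chk
attribute [local irreducible] L A stp tau del PT DT
theorem closure_thm {G X : Type*} [Group G] [MulAction G X] (g : Col → G) (x0 : X) (hinv : ∀ c, g (inv c) = (g c)⁻¹)
    (hRW : ∀ w ∈ RW, gw g w = 1) (hSW : ∀ w ∈ SW0, gw g w • x0 = x0) :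
    ∃ f : ℕ → X, f q0 = x0 ∧ ∀ q ∈ L.toList, ∀ c, g c • f q = f (stp c q) := by
  have hSW1 : ∀ w ∈ SW1, gw g w • x0 = x0 := by
    have h := mini0_fix g x0 hinv hRW hSW
    intro w hw; unfold SW1 at hw; rw [List.mem_append, List.mem_singleton] at hw
    rcases hw with hw | rfl
    · exact hSW w hw
    · exact h
  have hSW2 : ∀ w ∈ SW2, gw g w • x0 = x0 := by
    have h := mini1_fix g x0 hinv hRW hSW1
    intro w hw; unfold SW2 at hw; rw [List.mem_append, List.mem_singleton] at hw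
    rcases hw with hw | rfl
    · exact hSW1 w hw
    · exact h
  have hSW3 : ∀ w ∈ SW3, gw g w • x0 = x0 := by
    have h := mini2_fix g x0 hinv hRW hSW2
    intro w hw; unfold SW3 at hw; rw [List.mem_append, List.mem_singleton] at hw
    rcases hw with hw | rfl
    · exact hSW2 w hw
    · exact h
  have hSW4 : ∀ w ∈ SW4, gw g w • x0 = x0 := by
    have h := mini3_fix g x0 hinv hRW hSW3
    intro w hw; unfold SW4 at hw; rw [List.mem_append, List.mem_singleton] at hw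
    rcases hw with hw | rfl
    · exact hSW3 w hw
    · exact h
  have hSW5 : ∀ w ∈ SW5, gw g w • x0 = x0 := by
    have h := mini4_fix g x0 hinv hRW hSW4
    intro w hw; unfold SW5 at hw; rw [List.mem_append, List.mem_singleton] at hw
    rcases hw with hw | rfl
    · exact hSW4 w hw
    · exact h
  have hSW6 : ∀ w ∈ SW6, gw g w • x0 = x0 := by
    have h := mini5_fix g x0 hinv hRW hSW5
    intro w hw; unfold SW6 at hw; rw [List.mem_append, List.mem_singleton] at hw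
    rcases hw with hw | rfl
    · exact hSW5 w hw
    · exact h
  have hA : ∀ a ∈ A.toList, AltOK g x0 a := fun a ha =>
    altChk_sound (idx := idx) (inv := inv) (RW := RW) (SW := SW6) g x0 dec hdec hinv hRW hSW6 ((Tr.all_iff _ _).1 alt_chk a ha)
  exact closure_sound (L := L) (stp := stp) (tau := tau) (del := del) (idx := idx) (PT := PT) (DT := DT) (q0 := q0) (A := A) (cols := cols)
    g x0 dec hdec hcols closed.mem pos q0_mem edge_chk hA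
theorem perm_RW : ∀ w ∈ RW, gw closed.perm w = 1 := by
  intro w hw
  simp only [RW, List.mem_cons, List.not_mem_nil, or_false] at hw
  rcases hw with rfl | rfl | rfl | rfl | rfl | rfl | rfl | rfl | rfl | rfl | rfl | rfl | rfl | rfl | rfl | rfl | rfl | rfl | rfl | rfl | rfl | rfl | rfl | rfl | rfl | rfl | rfl | rfl | rfl | rfl | rfl | rfl | rfl
  · exact closed.gw_eq_one rel_chk0
  · exact closed.gw_eq_one rel_chk1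
  · exact closed.gw_eq_one rel_chk2
  · exact closed.gw_eq_one rel_chk3
  · exact closed.gw_eq_one rel_chk4
  · exact closed.gw_eq_one rel_chk5
  · exact closed.gw_eq_one rel_chk6
  · exact closed.gw_eq_one rel_chk7
  · exact closed.gw_eq_one rel_chk8
  · exact closed.gw_eq_one rel_chk9
  · exact closed.gw_eq_one rel_chk10
  · exact closed.gw_eq_one rel_chk11
  · exact closed.gw_eq_one rel_chk12
  · exact closed.gw_eq_one rel_chk13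
  · exact closed.gw_eq_one rel_chk14
  · exact closed.gw_eq_one rel_chk15
  · exact closed.gw_eq_one rel_chk16
  · exact closed.gw_eq_one rel_chk17
  · exact closed.gw_eq_one rel_chk18
  · exact closed.gw_eq_one rel_chk19
  · exact closed.gw_eq_one rel_chk20
  · exact closed.gw_eq_one rel_chk21
  · exact closed.gw_eq_one rel_chk22
  · exact closed.gw_eq_one rel_chk23
  · exact closed.gw_eq_one rel_chk24
  · exact closed.gw_eq_one rel_chk25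
  · exact closed.gw_eq_one rel_chk26
  · exact closed.gw_eq_one rel_chk27
  · exact closed.gw_eq_one rel_chk28
  · exact closed.gw_eq_one rel_chk29
  · exact closed.gw_eq_one rel_chk30
  · exact closed.gw_eq_one rel_chk31
  · exact closed.gw_eq_one rel_chk32
universe u
/-- upper bound for a relative index -/
theorem rel_upper {G : Type u} [Group G] (g : Col → G) (hinv : ∀ c, g (inv c) = (g c)⁻¹)
    (hRW : ∀ w ∈ RW, gw g w = 1) (H : Subgroup G) (hSW : ∀ w ∈ SW0, gw g w ∈ H) :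
    H.relIndex (genBy g) ≠ 0 ∧ H.relIndex (genBy g) ≤ 1782 := by
  rw [← size_L]
  exact relIndex_of_closure closed.mem q0_mem g hinv hRW H hSW (fun X _ x0 h1 h2 h3 => closure_thm (liftGen g) x0 h1 h2 h3)
/-- the permutation representation -/
noncomputable def φ : Suz →* Equiv.Perm (Om L) :=
  homOf (sat_of_rwx (col := col) (inv := inv) h2 h3 closed.perm closed.perm_inv TV (by rw [rw_eq]; exact perm_RW))
theorem φ_P : ∀ c, φ (P c) = closed.perm c := by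
  have h : ∀ x : Suz.Gen, φ (PresentedGroup.of x) = closed.perm (col x) := fun x => homOf_of _ x
  intro c
  cases c
  · exact h .a
  · exact h .b
  · exact h .c
  · exact h .d
  · exact h .e
  · exact h .f
  · exact h .g
/-- the subgroup -/
abbrev H : Subgroup Suz := presSub Suz.edges Suz.extra HX
theorem H_eq : H = Subgroup.closure {x | ∃ w ∈ SW0, gw P w = x} := presSub_eq HX P P_inv P_col sw_eq
theorem H_SW : ∀ w ∈ SW0, gw P w ∈ H := fun w hw => by rw [H_eq]; exact Subgroup.subset_closure ⟨w, hw, rfl⟩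
theorem main : H.index = 1782 ∧ (∀ x, φ x ⟨q0, q0_mem⟩ = ⟨q0, q0_mem⟩ ↔ x ∈ H) ∧ (∀ q : Om L, ∃ x, φ x ⟨q0, q0_mem⟩ = q) := by
  rw [← size_L]
  exact index_main closed nodup q0_mem trans P P_top φ φ_P H (le_of_eq H_eq) H_SW
    (fun w hw => Nat.eq_of_beq_eq_true ((lall_iff (fun w => Nat.beq (walk stp w q0) q0) SW0).1 (by decide +kernel) w hw))
    (fun h => closure_thm P _ P_inv P_RW h)
end CfsgLib.TCSuz
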