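import Cfsg.Agent.EqBase
import Cfsg.Agent.LibTCR
import Cfsg.Agent.LibTCSuz
set_option autoImplicit false
set_option linter.all false
set_option maxRecDepth 1000000
set_option maxHeartbeats 0
namespace CfsgLib.TCSuz.Chain
open CfsgLib.TC Cfsg.Spor CfsgLib.TCG_Suz CfsgLib.TCSuz
noncomputable def WL0 : List (List Col) := [[TCG_Suz.Col.a], [TCG_Suz.Col.b], [TCG_Suz.Col.c], [TCG_Suz.Col.d], [TCG_Suz.Col.e], [TCG_Suz.Col.f], [TCG_Suz.Col.g]]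
def HP0t : ℕ := (nat_lit 0x8a33cf9e1da19d0aece2f567df9a1c169f3b1ee754b193ccd72cfd21b4b49d12c9c40419104806e7c36298b91c9d546011868a3b676c04c452b0c62734f1e23e0b0ff09d4a00e7c251a86062e499f2d5d69137ca5d905c724d4b4394e00a8a07f188385def5d9cbd935e6922223a6bf3f152b67f13dbca799a7a171785febb7e02900c93d8973e7d3d25426af4916ed62c1d5e79f5cab369f4b41cb2a4e62f187bc14453859d0f3accfb10be0e3e65cab662d32b412fd4dcced03b6e2b7e77b59ab46554ec4134425d829a37a43dbe2d119983814616cf1514b4c0e506f5e31d0f844d2924e0896d696db115a19917044ce51a6f5e2986ac855b30131b139bfd2abb3ee35c13b5e12650d92ff695bd6e8fca1420a633bfb7e7c59d7e11eaad6e6026c2a08a74112fb7f5607b9dd445d7eac6c8b50e3147cd4c1632c16968d6d60b768b98b984e2003842e1875571088941babd000074260700aae7da84f9ad1b526e380063975da5f2775c340dc37c234c0c92ea7bd85f7ff0706fac700661834bb6c7e7f182098905bb4abd2b2c3fc3bddd04fcc2299084dc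35d08f77b83f6e5e3d542f4a6120fdd9d0ff4305554e6ebbce8796485f07f5a4a3e0c58cbbd1d1d8b82e855f71cd231185db2e3e28b120a78240b78847c8ca4a832c31923e3d402194ffe44f37d46072110ecc41b44ae80f4e668e77a36120d08d1dc246575adc2eb81696e3700676c06f583cf71a0235d6c0e84d19708eaeb13cdb7bd724ae227ade04626668b963fd3f96a8f77d1e7a168d1817d89ac6447f39e602827f1b52d8f8f5a60861c1c37fd488d43a85fefd0ae080bc049d1a5d428de36297b6402a29c7f534489c5044fd0684235cee3bdbf2d46b22b6c41e6e1c1b9d2c57ae25b04a43c7536e19fd55a6d3ad88c3f21e469e971bbc24217757c4dd9631a85bab76a7b8ddbfd3801db789fe569e51917492b6777ad430432223a819e3d79e548e3d6163a45cd0c1324fcd1cfa1695208e0910e123ec02f77b51f9b7a6925dd20a05bd646893d4ad2d7a04af3d70ee48e905a185750a18f0237a33f3f517a8cf14471800b182d4fe6e877ab2937a08b31306dcc5f6f430ac4efd7d280955957db9448959c7130f9cf167f605460453cb23c1b3e022db34e41a350980806275f08fff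929001ef34496225b6b70687c26d209c377d4f076ea5a8a272f8d518938627c1d878e9c97d76cc7bbff700d0c980a625c916b3217e8ccbdbc5d79fac3f9b4d0b76c8e1dd6b5c69395385b22f86a637d6b8d8b20747296c8c0185c900fb15f3fdd17e1e5690de29f810b94d4c490559ba3349ddf07460d4186849715317eba9a86844da8845344ab112bb1b34b7734a66bb8bbd0f7fe024513f8a7d05d6c1dba15cd8226e11dd854fe0cae5b705589ddba50232e1cf4ba0e72e38dc92a6df53a94c14dcba6d0bc278a0540936bf2033f600b12f83eea23938750e2a8fabb9b554d32c7275c133f247d032c30a3490e2fa1b34a8c055c5aadc2eefb5a2252f9114ee87f407e79cb460b03530b874289ad75d6d6c500ac859ac06359890ade788ba664533a22040fa9f6004dd09011a32cfb0ca277f0734ed81edf5920235ba90635847934b3ea41deb444b844e700c78dbdf34f489fa77c31213d04bedcb27453232fa3693da9e9905d31855d63712c9ea58159fdea76743ad02afa3086457cfa74a7f5732acfd57db77b2b8fa5b8397ae6901730a6825ca7ff474a79c3d07b48b9935eed193aac4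6afc6095f63ba4921578346ba104f1c4a305fce7cea995ff037dddf7e12b7c0ebe7f032c93e88b4b60552356427e6f4fdbccfa65c516f2172c08565d4ec71ecf688f1239cb1e4283359690a12898135ef71feff48d7457128586933242b5b8dcfe8aacb6a3b620e18b5ae65b5708fb45dd7baacb44d8640847172786b529ff05ed62cafa47a0635dbe5e962bc294b6bc101e03b33d806b79715fa705dd8e92675169ef0751867bbe1f67e2f25485da0aefbfb97a0e3d92cafbbcb8715d183bcda1b233f93f6f063192f095540775f1bebaf2d500b0fb7edb21f12994ee960618a54541ae80fede0f7b6e9c4c9b548a06bdc9721757d260cd633214258cd7856e41ce528683976f761e5f33a5fab6701628516a4e697180128cdc1afcb9487801619953b276cd2c34f5703f764aa5b54e265ea77cf204b1c3f16d4be48ec4b9fa4dde929ae81c9ea206c36f7ed9c68381f0cd588c4ba6e644fc87e9115a5a15f54536373b48b922909ffe42ee70d358640b29b9babdc134367a43347668079456a2817dfd5e48713005284de3743e7374765e1721361e6c939693beff19baa8c0985d7f19b000e6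14613a2281bcc9e87641948555f9da6ce3a999d3e9085146281d4726a8ad102bd6a306a37b9f257e5e2b3a5e79ea88f7402fcde9384a81a456f9c1fa4bd77bd4fcbca70a947fec75d7e57b546fc26fe608e5f6f3bb811ca00bfe80ce65a3b683b111be7755f7b02b5a3872191cc24436749b48d3a4618a28c5795b96b8b70844008ea64f04f891a9b0db38faf19056431ad4ff10359f7ea5d3e4002d521ca32a078eb61f50ad182cb1bd819dbd036f1b7e786fadf210b482888fefc416d91eb717fb4714c5ccede4accc5ef62502935c9293ae8e713963f7ff4edcdef6598aab479c19ef6f003c5160f78ebca62664d14805846fcc50a0c56b0d750d00d7a0ea36296c45ab98abf0e07525cc9c356e31c25c7792356891925f3092fcfd6378ce5052559c9dcf9e324bad9edf018c27ca40bd1f88a0661927f8d69b58074bd3580716f12421748f417da1f4f454ef91636b3a9d25d0bc79761023d51141ce48a20380b03b90565d938f06c452f08ccee66dfc088c72c0599b6a5cc8a5156c0b8d2a3250f993520a4d1d16124572f10ee17f09682e95d55c3534a25728b974d7ca2254bc174f4904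d0e4c0855dfbe22b1f0b3570ff5ce13dbc2e9e7e2c7d818e6c27039d801de32a62920ec37a4b51dad44209354d91ecb8a603f34d78ee3cab0e6cc10d0e656350f414d35e35c99a082f5fe29fae8eaea522360efea7b376b3c861bd3f88f7af34c158687de04cdf0eafcfe1e1d74f457d9884367ba1121d04ab370dec8ddec786dba9e2efdcb434851cebe5e000813b38e2fe35d3635a0f81461ec9cf2e902d9427350993ccfb743ee5948695b32824b6319651c03fa7d0bc63c44198a70ee2f5a67ef5424bdc2d8ab570f76525a142150664e13cb93731fff8664be3ad97e48e8f27d0bbf6126292af54f09bbdfd0f4c561b69450341df6bc69377375f3b1af4bbb4f12f3c8cbf6630f6cf430d28a7eedd70bae4520daa9e431b70c18de9b8a869ee1681fc08482cf49df26c551eb4a5828903bc9a8e1107f189809ef44610cc92f908ff15788854f657aee320c796707107bd808caf2602a21e08e16b6c6ac3b6144dd6aa28fc00405b1e39489569b15e9a591f14688fdf22d733a9b77851bb5dde213d58c51bf1d0922e5e6e7d8a79e7809df2d1ec729c61cc8140e4c9bfd182c4124cec44d3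22c7966ab86667b0b6be1060c5c2e4b6241af0b7ec062c407c74fcc26ebe23a7030ea4e12205f4e35849a74dbbcc7e1ddccedd5c5c20360a5356cea5c514f69bcaf4ebe8a0f3087b1af6aad1736947838794d1b9bcb9711c5d8a845621561f399cb625454de97479278049dd103bd80654398c1a0cc96c23a60281744b094a3558e99da5e2de44ccd88456dcf9b94d627ad4ad0cf58241c27e623e98224f2ee280cfe249a0e068650ba481a8069c6332b101dd1a03c272894430acdd3459dd53ec9186f171c0ed95570dbc5f78e7805877110eb55148deab4c09022946464100444c39bcca1ba0c3209f8133773df80ffbfaacfd59fbf8a0201d59f543c99603f9b872a9ae80dae16965c52a41e5755c16534f3353e6f8809cb579fe9517c80d5fdc3a9efdd7c1e11b705f1605fce4773dbfa62a5a3873e1865cf5493d0dd278e8eb51ac909c35829423aed4f479348e1240d8286fa141a8229873ad0082dd214c0f144f952a34f0b4d1290be7a8cbec76839a3f9c22efd9a6b2b05f8abc27790fb93082d00f3bbff4f5b5817863a40859c421ac322d5ad84fdf8a48ce5afde4f194bcf19cc15d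877bd4ff8c5d5e7dc9dd35a92d341e8755d8cf7d4331dc23a16b027a559507fa6d97f117e5645025f04496c142e9bc301234aa47a301f018ed882ccd7758f89df132ae76b05c41f48fae566265d00696966764deba76e16e723c7f38c54624ad026eedb06b865c546cfc94f9970a53fe7f8995f4ff582147a3fc4c0034036778ba73b7cf091535aa2586702bca0627cb28ff8d4424523fc389cb9da3d96809aeca4cabb83ee216676e9fb9847b11d1aabbbb36af02e4a2e6204e0bd1b1b9799c229f64fddee6a3f5c2108cc1db830b0cca646bcc1dde980120a8da60dfd1c372b8346439e6e4cc50a1818dd109c58c25f38a71ee2005d2da51b4a685efe4c9f0e3bfece66524e4b85a5469a7892c6edb98211da234d02786e887cccb8f665b6be54434adba4ecfcb8d6a0b96f3135c0d43d0fc186c51879c506234a425931bc8b0cbe1c4eec1ec333e79079927259da8805965915dc6e9b75a4e703518570d98e3865b87d0088dec641e1ffb4c2944768981aec61b0e76221b58503414ed3a7f8c51cdce5364fe30a1692cd765644432f45197ad42e54e8e85a6854a4651a621d427bdb82bf56af461cf0680747fc53c3be529ca31f950810ea5c52b3d7df39f369b64b3af49679eeb020939790cc9ae593ef2105a864db94)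
def HR0t : ℕ := (nat_lit 0x281143486116bc1316d855d4715c843d19b0f52ad18264d98eea01d9328d787ec12aadd978530e4b9fe1b69b15be07ff72ae45807838e8bf2a4491b356922211ba87ed194a9e6e871c213a4e11cb0814488e9e395fefa2c66761f91dbdc3801c188643652fcb75eb69d685ab8338820358b95a6953410a39b14e2b372f8d76e9124fc0754b46eef83d3992587fe268aa29836e3269ded355e710731cfbb13097f76861a20854062fde9e9a51de220ba5205520a0750c690c414b9f1995127f89488cd56f1ef0f3a315977472f33ee6049993db0f47191167dc5b0d02ffb146782672a9069e57bcf58ccd116513b92d48e94ce00410c2b1cffc75518c565794005408e75d520c2b04e36e6403d73994c1839ce9d81432f06059bd7a3c4c1a520e5c013b4ba5689ed1e875f6bfb8d5d24b495a19cb911e3c001ff114eb23f55de830e78f9c75bfad4636fe9258fb8313c94fbf51972f0d5528d5d26f64975a238886222ade9044013519b8b2fbf3aa17831b77d75cd80dc9aedf3c8036d357189f49908bfb3b243674715dcbafb3d5a909ab450b7a2ef9e12559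aff26de110515790b78d81fc3f4450e89637168e9f5dab0fce1b0e840c94e3e67b0ee62c6307ec4c71fba0ef76d7bc5dc18955474a65c275ac6e109ff0ac8add51a50dc504a536bfbf48cc11c6842f1ae658227507238c7dfb53ed8310298e2940da7d1883216220258b959acc8fface636dfae1984b608b7c02d201121d3b624ae934138691aa6dc6909e8bc443ea1bd3582f494cdeb3470b0387edea4c26badf950133224bfc51f0344f8ca039a5feb664b557878dcb40f2caae5106ead29b4a5b378b78d3a712da8c6be71c811b35260627bd729da39438106e36572534b1502e13142f04166352303d52c3ef6ee4ab7f2c6534886a63f29ca3f2308656c84273daf7f43ef60004c02ca0c0e675de8f103b57df389626bede85b186d8ee28e104164e56964ca8a0b0b9e27a5df5667c8feb7176a8472e55dfb96e4664bc5f120f992917ee04580ee457636aa1f145f0e0d64cea7999ed07d1e521b4282bfe1ba5b940451d4c1570fbe7e5213864ce62bba738758bc2317704a8368d12cf6e512082ee5dfbba05d4f74f2767d32621ba94f3990bccf6c015eb663b7c30426ff800275803cf94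a77c1dd7d025d7734f003df64fde234574112194ab574a53f719205972d33da76c8b834575619af781ee26a817dc3a1a7bc51f3afb3ed186272ca666ed2a0d2bac98465ffa84097b5a7eedbdb5b680f3ab04b9853c821017c06f95349348d712658b4771983d7a006ac13ad3d3cc7f004b9c8879dcd0c05e4e7135851582fe727f12b2f9820092b3c6678289d193c3718c6d6d3c6da81b5373dae74511aa5f21b2b05fd894e6591ae37123169a924683dbb6d8cf664b52837e9fa96a17cab12de3719c5ff96fc4d3dcf805637eff1c9f6d837997b4d4809d91218ddc4f6fd3a0334e97c6966cdbe975cbd17743ca4ded6508b47500059b6b769e0d2f7427e1355a525dd562bc6ee33d39b7cf82506e0025b57ace7d313c18772fc2a975fdf544acb49b810127ee6a7b6170e9362b94718c83a14a6962edb46425e5ecd8cd0f4ea0b505218d852e7d3f0e9ea65ad710ec273f07fae1e72e64a265c4833909a98e84c65c24ac1c69f1a5ba53869e76f46827f83ac28891f49dbae58731bda0c1d103f748cdc83c4e1c7fb6503b2d21bba3911ed6ad8e62521ab688c8253d54af09542bdb29bc20cb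2d3213cec5cc8aecbedeb114b50815e37fb4ca8ca86812aff868381a4ed0bfca171eeaea4d234e4e6c5947be48ee7e8440f6696be1673486ef440a8473b9534a775574114dd5b9717fc9de4563ed52792753c5797e40b7bcc45f71a478746c96b5a29c2be77c74cc2a3e92a284e17438ab62e0a08e9d6cc352e1f871487dc05f8367c2a5fb9009548bde2c5c68a5e4adaea2078ca5514ebef73ee1f5c42c4a537944f48b22d2fd5554ceb7b02d79428f74de5f7688e33380885eacf1cdd5b4c98e9eb327b79d7a328d9e03503b2b88cb65b9f4e70a8948e1451e1ad855bcd2f2b5e7f060a59d962f8290ec50fb9551fd7bb2b6c70cd69fa0eee326aeb7b12be16eca236ce19712beddc3990ec2b808a9238376538e387b022d00435bfd7f979d774d292e44de2ae38c187e29b7b8483d5118e94a191e0d7425f4c325b9e6153bd8757404806b615cc34aa39f8f3e6a9c7dca1227f3927e50503f56b0ba8b8ddf9ea9fdb8eeee72130da7ac45a25fa0d724ab0a797c17c0f456591ced53e8f164ede134f463ba9aa466479f9340041144c7b2da2340febface2035353dfe4e51c48473034c2d757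b3eb51f9576c7bc4bed730faada35a6bb9241fefd2d9a15298ef867a76d79b986abb8384c426f03b2e92fb98a98e4642595819d64ebc7b58eac0b4d1a3f52573b0817fbe9052a5a6510435c883d296b34f2fc59e3af1764fb4c332533d9da010db725be43eeae801caa782ba04b11997fa8e196b160dbfe3c8e423e1f626fc691c910cc48d92abc7c808ff178c7e2b2f1495f71e8682bdc311a1e923dfeb768d0b66ba80124f6bf108f88b0761c940f97ef39cb13e68361ef5687dcb6f804779ca0c121e4184f12eb6fecb8efe0adb20644d5bce85c21d9c6ac4b4b9d95f3e43e317c4da41cb39c618749d045b9a5cb120850e99f8efe91de21eb7613862c6ffb7ff512e5e7201670c6b9b1240ffebd473bb715b198ce3f8a028cb322206eaef5fc5e014defd927324bfc00fa1f98705596685920ca26e839f2e9dfdeb305ae49550cb79255144d458d51db0af77f4c69b1b2c8d2c961a2c92d5d977b6a3013fd05112e3f603f237f64955a4c10825ed5f6c03292f3f2937a980bc8f5ce37081d6a54d3e36ade9f911e8c1ccf119aeedab23e572bfc772e6fef7b53a71062940d740b67b55499a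ad3337f914ee7f286b46da64bae7825f6f4ca804e8b39f746c87950cafe961ddad9eb2231ccdd80cf37d82367cc8cd68377cbe0cb40620974f977acd56d50ec176fd868c44f5f62056f7bf2820b2ed328032663c58426814ba756b62fbe4c9c31be6766cc802690d57504d6788ec1c1993e179dba7a544c8f4f9fc926f935daaedd913e534b89fb14396525cf955e863e759b527a6d8c58daaed15529453315d8049a5faa85e3b0974e94fbab171fbeaa7e802b6bd21753f5f08e7ab85bdef42cf28598f3d8f3d3878eaf59a06ed8e25ce0bbcbb75f710c33cf0c46e30bd54d59a5944df8472f0b9e241f52fdce69be6a27cc73e86cb797a31dcf2e55e7394bd68ca3fb8ec16bc77abd540624df604f17cd3610eaa203dabf0f35ce49b5970c5e1557812feffd8582c195ae675d5fd4dc561f2248e6f89bb8e3e9c79727f79cae5cc8f5757aa31c58b79bd1460215f117add81c0f7ee185d13e7b19ea0f5eea928587f0980d6b53874db8fb2a7be8b4222d83a1688ce166f80dd8ce6500f2725e23147eb05a2327d549dc7b6c11e5d96c01e995a0ff85472056eed87439303709a81116ef65103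39855a738c3be1c66a56ffe87fb3e7371577e3e6103f48bf1354a6c2b31f46034451612329517d6e9ed356e9bd5ab4c21f499c252e6591b033876b0a309a7c4f9a3747b2b41d1a60c5e6521b936a5b30f7be326d6799f7d11827aaaca8c1f695e10017bcf8b4bdbbd9fe8fb2cd1857bc9b6d720fc70398593ac638cc4238f8c5f49ecdf1994913101d9edb6a0dbd291200c939eefc7759294d6a378284936300f1f4a2e761235b896a201599ae0e10904455dfd70b1645c4ba6cb351a9fe1ee830d6fe76187fc7b4d8d17c7b43435aed2d7d73728f9ec898cd2db9244248a8e93ad07e3c055d1e77353b6349334b82b20ec941fe9daf32fb8bd07b9227c0ce697496dbea9d3c051f5f28cbb430b3b5aa3ca8e798109bdb3c1a82f21b358009fa3f41b7dda132624fa7dc10b00a0746cf6e9212b14c441778919f7c1dac933228548c3cba5d82d35b4eeb0b35d653ded11de71fd908a0d82ac029e5a611feafb6761b0c5cf9d35b8b6ef57bd8efe038f3a002f49c0de8aeb705fc9d2dd2996f93843d2a1444ac29aa162bd8d1bb45a7ba1a71c7fea899a0a560923c46122c99546af02c41499407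1fb60cb2d646aadb133cfeb2814b439c581bf561928e3cc5cf9e87fc2566a3c806c09655e62c315ad62eada7433a6e0fa62854a5d0b860ead88648e265b7f185a92f39a5600afc1d3ce5b7234d96c23f9cc0dda01cd2d8f706febe73ce37504a8c0f3fe1bead2a33616f2901124cfaf1ebebc8901b415757f09221fdf5c8951a7016baad46d177feed75049ea284ef396b70b41eb51dfae7fed4b9b724049ca23f8abcfb302a60fb27ef5572b758b7d580f5d6f0120ce911f402f25eaa30f8b399bce944be9a9f85c6f201e471a0fffe484cdb9184c9d1d0d8d7c8b944ef1ecd7bb1f3b3cdbee21206e069f35607249df8bdcf8a0281b20d1f5fbd314fdd3c1221fc8ee7567575596ab043aa660ceacbd5ad663233d339fcacc7a718782076b08dbadf758aa1fbb8d31b7ce20973251df108c22ccdce5bbb2858597e2f232227352e0821098e6e14e8bc6b8243627bbecab86ca248782ca2413e7962d293dfc4db1295a603223d1d17475b4a724b836a5ca6a04bfad4b704f516beb2885c2cd764e8aeb240815683431c245ee8ac79f008e04d0102e1b8362ea1e62e327621efd19bac17b4b6f079d48f0b4b176d4a2a22a06a919cf6eaab66ff1c818d2e6ddf02d98008c4a963aae124df77cf01b18b64c8e5b1a9bca00f2)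
def HW0t : ℕ := (nat_lit 0xdefda6639503053d85839ab487de987b553b08cf6e4be10cbea8c2b4e1ecc61224281173e04d048d312f170242805708f282bf5751f44b924a314c35b1cb325879c8815c7b523159c2ab9f114e80b99565cec598ae474f4e536c9b40cafb68df1d7f35ac201e9556fc416f1f2f2a2d8b8726e701052ff275fca5d1cd6854c0686560b697cce2ae422b5c19a93447e08d211ce81a6dc0cc9ada006a042d8c5d5c83a7484e9fa1c087deeb37c084754b347c8e12b4891949e50d86304e0012f199472e6dbb57c2b4cda6f18d28df9deda896ef296d5f4229ee874269d2436d116736f679ae06f096c8ad7ac47c4c2d216f06ccea1dda70e9c749d7ae41415924247af8d82ff334d8f753cbfcb4328c322caa7292d8aaecb9993948125b927d9dd64ccf3addfa3bfecd611ca8451b72a3fbdcca04d16f1a0ac02118b2a7cf25cddf72774564d66ffa726834bff337ec01974691a2f2a61d1fc3d432fba223384057d545d47f0b508666893d3cb86806dc26d29a204eb47c6ff048af1cd9de7234e8e5ed0b6e077388683583bb8726645ba7818f85e29869d44e20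3d6857756d721a61b4d430ee6e4a71007f55dae43826743a1e489e0ac5deea661a698e2e17bb6905082a7b5980077baf087b7a97d4bd035710759107030264b3cf773ba12e030337bbe3d710eb53c4cc54e568da3affa6941de8f3a4e5d079b364f28354d294fa6e8574d3b5daf90d09a8c5c242dd02ef4525ad2d842c6cf1605877d8c0701c4f5719b2fceae109b0c3ae36ab0fee334c2f1e6c65a32ee705effc21245fcb4627300966d79883a2cfd61d821b04a01e0f6dc1bf7a8650ee38b04ee1abe620d5fcac2286c947162f4c53be1ee607777c11cf618f091e377f236812a046044479e0395d476a7d152c41049e0a401bb013a6dd2a7a140ce2a3a138b816bc875f136d724e791f4d2985ab6856c2d7ba45ee6cf2c72655ff30bfc132488f025fba91ca113886c58e37fb05e073a89f27a9a62789e21575dbd256117428e8d0bae9f0d64ef271d60794750e152cf4650d08a77a2ace7a5a632872ff558c079855117ea084af5099a3c251270deda81a6231d29123e276e9b153177c27bb46451ad7a0172adc042c48c434ce81a9552b192ed98787bf352fc0ce99084c49624b4652b59e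319dbce6221ba32a39e1ce366911aa3fbdee4ae87ed9f3871de70eb71c1a4b343fc4c8d740ba3cd454908759885fd7b1c55ad60219d71eb721369f725d4b3425811d26a19c2c8941be31def81adeda319043909aa6271551d555c6ef944d5fb4ea675dd0973d4a17e94ce3cf825bbb376057d7b735bc2976b6a39942c24b578711dda82f5a1da0d6b89947e1d6f40a5ee13a581f607eedfa58c9a4dc10eaa2dd782a967dec664ed8b2b4136dcaeb13fe7b52ee85fd52bc1daa3733983aabb7bd7f5172c49ca75d3e0663a0d2044eeeffb8c3e847ee073741fc1f065a8338a003ec8519f9fb3e0e522d46a981ba4c4e2ce03afce73b9acf46a3a855bb0857d10d5bc83f073ce0a48e1214945f8c3226f0fb7377b277718c9c34765b81665e1ace73a9d8c8f27cb6b9645a394fbb1b886d618c6d70ffd8075d65d9dbaa22375770dcdb82736b020dee9c7b9a884aeb26549b9a9e9587f1e293414197c9429b2b99aa8f0cc39b566e3b2bf4598958679ef913786ae08610662db82f6fd564478bcdb33f895a3e7eb2313e3eddb8839db552dcb3771f280d83ed627b095ca03438e6f21dfb093d33d6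58c403f26440eb4a0863fa5c3c32026f0e5ddc77ed7f4305d9eff3a2efdb00a9e73486c48663c959ee19cd843dea3b5179335ae6cbc2eddaf2fbc78b9d1587a27962b85b85ae1b3720fc427d8e64af7cc51aa2c59e54dddef0b865cfad2d802deb5fd443ca94be4facae0967a304e932e4ab1f97dbccf914e4d377c04a7d7b09cd36ee3bde393b4743ae3185c94b7be83e5b61b700cf12b129e4c91a699666f24cf0dfc4ad8641510f8d69e2e38febd45ff248a0d5d0a747bae92ca43a74da730fcf6bc8015ce37e942e5fdc9d70fc162c71af2b50339ea93db5cc870f50bc8a98367d95d897509522dc26c490fcb478ced72c7fef40e33c174b9f290ee2907536f6ae7256e8272b9244cbe8e76dce16e62ab1339fc92d10928c359d8f1fb368db9c4bdbb7bd1a3a87495ec7a119be966a6f46f76197847efb20776e81b3a13e17a1ddf56e29d8c3d456cdb5e5e278c06185f3b36903ce5b17a2bea1c94fe13757b17439b74b1e30fccb58a2858a2f1200c01855588959d3a7a0717cc4a02bdd46bbfe42984e1bd3bb8f6fa0908b4566d6281a461417a01334a2f8fad0c1c14f19e7193287e423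7ddce1aa2280eda005fac7a13ae734f91423baddc3e8921da023ebbb332e049c6cd459e37bb693169114fe4336969153c200ce3d69396988eff63505bf4d4ad3adced8f3c0e073d22873d8291039b4aa1941c4781a6a8facba3eca092d024d153b9c492dc47ab589491facbb0a92d26318fb85b3acb8fa9fc3d632fdfd2a45f45a007930e1e4ef92b41350456f509ad8069de64f0b43efb4fd0146974d14b2c6d135439681c9b5a9ad5cf44919dc4073f20af6fc7b831745ccd3750ee640fd26f5a3cc1c2883719343fe25945328b7e5c6a99d399e5e323621d0036aa0fa383a9f1c37f052dbea4b2981f96525ce1784cbf5dc836946775d74c54113e085a739881832c10e7d4665dcb2ab59a10d220a65cc4c474cda0a459da4cdf4731dbbf42a975ac2d78a42b0b22050af327d8ebebedbf288e6a7f6fd0f54cf8828e1d3cb579b4d2fe71fe09c3979ecf34ffa717f6bbc9e7e6eccbe3beef345f7462bf5e4f8aac1379bcd38b50f906b6e64f85d0567d4eb5f8c4ddee196f081205fdb8137f030c36637ea90fef2dc1bc6ca660980d26306133695afe71e53d96350791c19b9fd92279db7b6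391f873ca050acec031ebd3926ba3592ae9e9b0545b1eb47b4493aed5d328bd54c70f29960ffc92863fc57abba3c817ca87d4897ad5dd4835ab42a9fa0b1670b84559ecf7395d0a9e1e76ecd9f329c488f590f4298a666d54425c3a87fc27a690fe4af57e7d3f475967323dfa54a7251e87650e9910edc9fbaab01bafd81d22b3c3403aa12e7fd3501b3036a6f6b3bd751c095b5b1f05216e55d38f062bb01c5a78e8bbce279f13cab6314855d12b7d84193e07abf67856eba4986abf560a841757e343ee83cfd4e87a310ed5a78f6550bc205855893f0026ac08113c55a55234e15ced6f922b9dcc6c857744928a38028a81862384740525782a1bfa54d1908701a7503d2238ae726447ae86f552acf018ae0b506c6fa0ccce040b3fc3df2188c45b95ab9ff9a5ba25c10a6e99755966ecacd2b7327732100f251844d15de0808c1b6c33ca25255848b41b3d0c97bcbb2754748e8ef0bfb61ecfdea08598c4a7473059a8eb57b9d027b51b47470d145c43bce9a0ab5d482879a09ff7fb48daecda2f34b1d3fdd3de452e93fc5a885edb063114c99f2275df548bb16913cd0d7b0decf3bf5260c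9a96acd56d6d53b9d3bee128391bb4efd93c77a6f73861fd0ee9a394dd895c3cf143298563a894e0120b4e18c8fab82a347822cf4572252a6fd5bb6fde296165f2ecf5761128405095758df7ffb109788a9a30765136cd8a70a8c3d5b18ce1c185e148997ddf89cdbd382b4a48e7124cf14b8a3f6711d525d3428a42c7c75f20f58ded10a0b271630c3fb0f046759fb5adb1bbc8cea7d650f2cfe846c8b445daae7589c2b9efbc2d53db9746eda053cc3554b07aa3a223dff8eb7931f7448ab6e7919dced69df6ac474f9d4419ae6a2df6e987f2b133d1524d0227b595f05aab54cff83105a50b03e6ceb07e321c0a942d6a4322b6efe306a6a482707bfa9ea7b948e3956d2334e2754a84128b528b69497af7e8167f12668ad5c7fdec4d6c89699206ff888f7871592b55ea9ae347928fd26d7f904509a5f8b813dc868d45c81c6c691838ab374e668bc4004380d630924ab4540777ac8936438c991e7affd7e216f34775ab1c103510aa0615adab6276152d929bb08894cce84ff6937047198d75c591647769630c324d8c42f8e1a12dcf7091fb6ec8b8ef189b3606e21092c786a1004ed085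1ecbdf4aae9324602415c0bfab8646f5dc5365907733843536e14dcb27c03b1f00180dc08359ba027f0f5c906ae3af3cf8ee3a205b7872bada698eb59bc180a8af2c0a6bbce6e27ca414b260b33325789e7e2e328b619a2516a0f08efb31bdc24c41c22afa84d66d240c995c137c26c92fb6af30ff5df5aaa607579e8a805ac76cf707828e2955a4c2f5d8090471525a586fdece0749fce5fbfe514da6588cb28a676318c0a9e4970717f938631b4cde8fc13c56a665381972812407c842abd8102bdcf2f1481ce506e99d180e9a228df6dfe0ef269baef2340ad861e4fde512ea92361b8b1b2ee1e8a1e1770541c4199186b767fe4c98ac841d235d648dd0862c07252f1911a72be4604aeb4982181e6212c62ea985b3074bbbd481bfa04dde0f48e961aac21077c3915e227a0d2c9dadfa7dd697e314847d78997b3d224d03cccc91d85189c46faac98ef35bf1a77cfefd76df76b3b880521d2b1cdf12d8710b8356ae75f458d03f051b65796799dacf0e806e766e804876d35149d0afda674f1a8505f9c96261cca39268028fb256c40cd87a5339671f827014dc0e724e6df6093fdce4b4a22372416db6d2e7115421a9333e47cfef5237b55a641660d11e6a22b08a8349d7aa7d2f3d01d225fc52a665f5f05665bc773)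
noncomputable def HP0 : ℕ → ℕ := fun q => Nat.add (Nat.mod HP0t q) (nat_lit 32768)
noncomputable def HR0 : ℕ → ℕ := fun q => (Nat.mod HR0t q)
noncomputable def HW0 : ℕ → ℕ := fun q => (Nat.mod HW0t q)
theorem tree0 : Tr.all (treeP L stp HP0 HR0 HW0 WL0 (fun q => Nat.beq (nat_lit 32771) q)) L = true := by decide +kernel
theorem sub0 : Tr.all (mem L) L = true := by decide +kernel
noncomputable def WL1 : List (List Col) := [[TCG_Suz.Col.b], [TCG_Suz.Col.c], [TCG_Suz.Col.d], [TCG_Suz.Col.e], [TCG_Suz.Col.f]]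
def HP1t : ℕ := (nat_lit 0x6108c50ac5b2d7d389a57c348565a997fb92171207742919c0781afd9223034899723a98fb8e72828db0bfe693ce5b005bb105f1ae0b3afb16fd31005322453498e98982427c394f9dcf11222b0a21ef1c5fb7f68537ce03a38671aebb12955e02ba372c28aaf2e7306af3f834615541d02483878915281016e1772fdbc2733aea28ce38bd413293de8c4b110fa06c917342dcaa1cf519f55864506664e971382ffb3fb5d5943592ca6f23fceec724a483aae3c752905ca66f5ff74a14abce79013c17ccbb20af41769e750ba232dede06c50e4464b4d50bfb9a18fc6a347d2ee682cba5a17612c8478336b8f325352fad2f35f868731daf3e039242ffb7ad6998b67b7219aa4025c4c16b1e518cae1a31b60a9fcd90d8775a8805ce04199d67a6b560c2c0bfcc7bd2e23bfa2b1410154a23d6216a0501ede112e57fab29616cae5c37d02a722fe4038787aba7d2918659d841df634af7ea1c5df54b314d4b172de0dc4f53582434e833feb07ac0f1259f4caa73c691a2b6116006121fb480452ae43e8e88d16f0d900d9ce4ecf251e4159e917507073c33a7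e84cde2c7db7fb3b1d24a34ee4f30a079936aff22227dd71cfbe5ba35048a0e9a267d99d04faa4ae658f24c4b0032dbadc0669a8707c730bea1ae73a072de444b2505e84cd1c4f8616fac9c70653b84da8487ed42b5c41b98724ccae723a053dd2b00000c83fc9869009da587c794d79f1b035244f5e90cc244ec78b55a76380071f7e61411930f897263988959f086a27a6c1f504d0d9005ee08d99425235a1a2fa784374ebd4504c692b5b5aa0e0edf2b6fc187a1a5ed08f098a62409c4976a61d888dff1dc422cb2468b1861fd155a0bb7a5abef9fff64663194230d2208991b04b8d6bab4b919b57252c8af1a9868e6044ff08277d71a605572da2971d193e5a7291d144d803feca68dc925afe74b6ed9803a1df0e108db42bf1896fa497e850f26a81714c34122ee5fd47c8b053d5f7799c3af60516f917691d114b32b67e68da91709c86a75644bc401a504f8c138df4e1986e1785605b5d4f4a8a9d49805e02718bb6f0cddfa1677479e3318bcd340bcc43238ccdda2ffd1a970120133469336cc497429bdcb4275e38252e7e63c1495ed0ef03ebbcac7be1a42d907bee5be9d3192ebf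73ed78d660182a6c1a8a28112e3761fdb06663fd5ee58312361de00bb708f2db06e3dd90cb771bbbfaec3036cd123f7f609582e1e068cdb6c1fafb50918440d1dbe9f0f399f80a258d7cf05b0a66b4428aeaf1a6ce2e2e261165e5b7326f3415bef485e8a06375d3318d81a21dd471ea8ac0445e674dc78ac0a7c5a6d98db1f1f19869185ddaddacac66acb33a85b73e9faf185271f3ef83575171bbb1dd608fa7f6806d7a3c606f8f2845b4c4b4065a74e96276ad5f6f08f26a90b9323a55ee94e67f0135712240c2efc28cb917bb04934905476267d599d39a166431945a2565e62d40f9fecb6eaee2bf1ab95f233aa9ed0a25508fecae736dd30c9122b99ebe215be4d88887480b4c59701453fec296978af9b72246968c9907edb0776e4fca15ce3c915162b4872faa884e15cc8b9f38f2e96a837363268dcfa98bdd0210db00b73cb7f5789fcd6a75de7c6a461a7b0c24a2fd9b93b857b3ee18ed9d1c3189bd304896e858cca73af6b38f1cd9f8cd7ae8ec05b04c581051f44d82467dc8824b2d76bca129305eaf3b0110a67a83b0dba00bbb93bc5466561a513479b6815f6820cb398d3b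f692e0c5512605208ea6b4ec5eda7db1c8cb61dbb43d4fdf0ae57cc77c5cd821a4e39bf40d3af63256ad962978687ce1b450417959e9d631e98e277ddb177f8987bcf98bc1cacbbb5d23c66dab868bae1243c3d375375247ee0cd4645a2529c1c7e9b0b4eec867b2f52acc7ed0f7cdfe56d8e6ec2bfd79a9d7ead96e05f7410ca05cbc4aec583509ca1c014b4b86f4ad1e2ab821f985b813c29d501f83366e4050a6776fd382828c02dcf5bfbf2e81472657534f17ffba18aba8e04431b090b0b912a038060f1297e296007b579479abed97cafef2b619e28b207e79c60296e04c18e7f747f8b26508c72fd133e7c78438d47744c3071cdf3400ae9817bc9aeb53c8f4f5941c25fb7c987203822bd8f825aa1cad95a8763730a01431a05bbe6911492452ef1ede3f36aaf3ab1533c276bb5a4e7c4488d992a75124973d9c073987d9d78750623ba3a3465fb7c4a688a6da9310f3227546aa7ab73e2c2e9d68182b99dc9dbd2f959f25737421e1610066d1fa634bc2d348ca2ab7ab5998bf0f20c56e70db787a4a887f83721c5c570717af52c1a126339ec273b957514e2faa50026ddd70970c48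c431d52bd2849ea85f645d3bd9ff6acacc54860e22c360648840f978fef94599aedc6f72fbbb27d33a90cfc702453c3aec89a785edc0df2148347301c7e0eb4f29a250d24ba1642a85c7dfee202a9d8ad9793507f3aecef100feaa41f07e41fbc89e46d22fa6f159f9cada0d20bf0784fecbd0460a107060a67730a40cd03e4f82f62c08e5c36d6a6253f3eb7e949554e24cec14689080e30ff2fc222b07535e8ffc501485e36c2962db948fa1c317761d9eefd31507568788404adb09dddd330aebf608f5de28462f143e22a2d1680c7b912dbc25b2fa7dc7068122d1880a79a0e187a3ca8f9a79fccf2fa7753c6d3c90edda3524156270bf780fafc704ba6d47ca469137dc58ca3fe0bca2c48d505d838116210d59f4b7f7eaf3ddaf6a707da563bad7c54ad40afa31e5a4378309459030a71120fd135a757f7135006507524a6ad7868f565d0e391cb4cb4a0cc7ddbd09e74dc6574bafa90fdaaa8c6ffa3a728108a8b5d7ec80a90c82103e405c02f29c6a0505089106dae7938b448c387c66db99dbba23d9667cb050ce724d316f5630c8d55f8b75ac2bc64cf15dff88b0600355c93f2a86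cd842a30be0e14e4221cfcf65f01fe2beb2f1ee447ec8ce0801f0065905786f6f276ec9bfabf18df8489cabce03745daa0e4385c5e2ce8fa7526117bda20958cb721d56dcfd84279dd30664ee6c6fcefeab5eb2c54f28b8d97e4a7bf27590032861027d91f8170678c0c2290d6931e3aead42f65811279ccd694722afc4315f9f31436851a71590f8e4703bfd3a6fc1b19dca2b327dab7f4265e271a57d21a0004321f9cda457983caeab71a9da2f5e0b92c140853c4127404808a7dc341759b6c140c756b240870d48d907312d911d30e276bf2eeef908f6b53c87da18bd29a7ec0318007cbe2a8492d14289a7701fec7a598c77b5e6cd90177d20b04255186edbc26a6a38776aad6d39da5139928d898dea702b4cb18ea73e7f1668d5c09cbe1a8c07d77faeda243fc5e28885b4c86e4c9eaf3a9cee4243d695d8528c6176eef135003241c3e32ee126a2ec3eaf66ec0f5d71ed9ae04d7ae2e51ac99288ea7e9d60ab451ac9e140deaf6b91ef7e6101407543df21ccdb30bea82b2805b6528d3f257bd180573853564d16c71657676242c467cc201af3d6ccd3f1ad79f2c27ac9f1d3c5009efd855970c8fd69b973219b10388b66d955a727e0a6b9d3186189fed033250069ff7d15bd0289d5b71b4e772548313142f1af2a0f0b2d2a2295bc895b877e5c18d0044dff8b83884890470c699595f8a1830375f1f3cc65f43a6818da392b96c86ed)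
def HR1t : ℕ := (nat_lit 0x89f6d4bf5e67b48ba2df722627dfc646cfd2641663e9e880c12c5436823e481868dcaba7ff9d12b07dee583e5fab1ef127b534f4d6baa59722a64075c451bd74d2b7e4f7f2219116c587df6caeff244699ff898a6c3f130af12dd15564978d589794aa0330292bb0a1b48929d444be8e67ddd55fd7589df49e3218224c6434952149313986078d6365c1771d0c7bed5362839331820b3963e90efdc51ff6d557f848d5656e155ac95541ef75083f0e6ae530dd8cbd4657f19d99347078af99d7cec0d6d47b05b6cb613b462d334dfb8195d8a06a3e3e41680fea44c915ed7fc46f5bef2160a099b59cb318d821859a79599905d3c4db80d9c7d7fbfb897712c8a1c3a51a0d09de3b7972d990dec946d5eadc08a4636c9e19f7f6f81c1ad574a877e6a1b4283742f638e4af0ba12f124aa882fe72e73d2641001d3ffae92cc8bbc0e0f8af1ba4b92ccee0572f0649d647a560cce41724a21faae34c9525ba1f7c940e506c37d7b5e5391c24344ac2e187bd2e0e28a8c030e8c597f3895d6a20efe97b166055f535114389340a736e1285d5025e3dafc6b55521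6462323a0ed53611209f08d189dfc692f4e660d848f9fd24f0a7cc4beb9c467bac2a8d8a1ba380a6c6026ac2bd860c35acfc926a76875446b9c9386ef15440c2e1fa934147627b9570be2d0e5b67531e0a9daef23a797cc0fa49191ee2c0ba5f0a83afda65242bfe0d4093872e5479cbee2de66217dbd7a442acb7d77762265d4c1eedff096c7858cbc2b13f3881cfb5d766205c3bd1a7ecd0b84574fdd2d2cf0d09dc594fcfc9a0111a2937e5c516a457b04db2cf56bdaf748491cbfc15dce3103deaf9302fa2bef095e80cd7779e21d5428b70f660009df613e8d023c3593f5cd28ac20da17ea070215f118a3ddb341179cac841590602b1a340415fe7382aadd9a32539a1c4eb32c1e865b2d507a65c8965c392c9d9e17d2a01ae542573480dca5f014261f88ac3a178090ea6b606f28539842c485cacb8920f6de84107ef1336e018ce7101d251b42ee1bbc587acf475db15fa198eacf48cb3b952b2a16d6d702ce34f9b840c68b525e72d9ade93c3b438fff67ace35a33ee7137a2349b0241668b35c8339ac4f1d24946e233210fd751e9d35cdb08a0fdfa4eeb76a88ea029f6b4e3463cc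29f7a9fce2d533ca9ddf91bdc1de64a40001f2248e33254c58ab1959828e4c79322c885bd4361df8ea13b44a07be67c9411e2a9dd9f5d5db4e3b87e6c97ddd4386a4e5f4aae1a9143f238bae048a7691add47a444c32e21bf188ccb6add77bfd07daf5fa47b2557fdd5ca58ab59a01cb08c9af0da7541cfc0b4f7283f6dc8deca545dfc6d6a5ef7db65bd10015c0c045efb390bd1b2035ba98c95866d567a6267ae8df0b4b00a39ebaec3f88632c6520343e6d937b0f786c780bae7e94f7a48fb14c6ea8ea721314c1ac63d71278145163541e39a431c0bfcf96c8e22f23cbcb32cbcf8956b117ea6c5024315030234e85b02f3f69e79b4f607d8b0face541d69677de3ddfe5296b6042e8baebcaacc13d56a88443bd79b89f9a642ef6fd04ec94fd8526f45172825fddcbd45be77c70f33582a1e1038a5cf5bc4bb5535c84995a69c59404bf053d6a4d2318c1ab49c36190e0667ab076432b0c27324347fb0ebaa56175dc418c25b6ef562f1de07c31fea27edf4e322c1477eb81ff5a09f4e4627df86b07298efdd21b9bd91fbb686d4dd1f05acc7f6e9e2ba231adf672a9ac37ece77a7bc3a4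9563500fe1bd3d16490ae05460561cf39212f9919f47403efe6fb7f1a0005d4df95fa1b10e3d60eb43839b2499ba8d0c22007fec191b16531c4daa0675154c2a1703ed6a779d11c68b9dde5d9bdd2df069ba0ce1fbce94827d8ecd4ab6f0a179a3df6ee9de841de90156e585893503dce2192389ad01b3230821b34e49567f2d6d1a6d2fce3ec783a87d8bf00807b06f762acc2703b168dae86543c1eed50ca55cb4f790e8d91412df10bc4cc55d2326916ad286eb424b87ae2562ce3548959c90385bd7c788e50313060663f8e817d14c506778c8c1c8290840b8281e76d1653374bc751a7050f50507a00cf31d1cb1c8ec83ac050458989d1af456ae5a0378dd21d192046e214fb9659b28d9e750af958d5970ccc2fee79ca2d3f1f29d6f8ba117e7a8073aaceba9eca30238a0120bcb1c63ccb40ea430921cb8de8831dac5681b141aa5be5c68b7b6442660e7a7e3268fe5bcf12bf50d8e31cc86c01b35d476d4642953b69c32101089e30836448edad49b146894db079a95f68d271bcb2dec74fe6df30eb6bf499df3ace89daf78d8c163e11b765f295b3f6a827d283ac016de6162314a89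2ff362a667149ee635f12222a0b667aa18102b6414b77651003c7125d7c057fc0d2c1a51f4c689b47383197a306d0d16e476e0bff16fc51e089414d7be645ca2e8f04b9bc020db5aa8871790ebb94d6aa70d742ef23f8dd692bbf6c1173a05a72d1767197616e3c693be9061d541e964cf0760b6e051f0e4d4f1f640f337205048e51da5876355dd87f580f9c7c9ddd73b4f46698422b597bb7442082c9701af661cde3ec42d5268edc8db8d72a2c5879de3e8aeba3c10b78eb35a8378af22cdca5090f4e2f48d47b82f274994077c025bd2be592eedc5b819545188fb41e4af135de6bece587f5ac02cd33958dc42c6bdc65bc3311a2dcbc3de20992d839caeb1cfae282ed3e747501e7d842da570f4c9455141ec33ea55d3863be3b755bfb772f0d12d0e4511a7938aac368eeb11dcd819afd7e1ad1deb557aba5c7b4607dcc17527f94774cc21a4b502e6f84e23030ca1d1c59841e27f08cd7790233518ebb58d42118f425c9385b4907aa53c7d5548b604b28ff61ea1d9bcf752a1f0ba4fde532454b12a2ea67be4351521fa34a1cc905a280e4cfeafb4b1229ee5484c0e5cc3b491dea45e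01a6e70318924b0c3bab84e7f9ca016084aff5e5f249fb9a746e66b45c160c84a369078b2ff9be344e143db2a3ee9fd911ff773ca9d2531f04a85003c3b7711ee8dbb2466ff6d9a3e3a86ead9cfa3d4443c8fdd4b3c0d5a7bac9acd879849a56efbbb80920a62a1c0f9ce80470db4268803fe53cff2411d836f121735749f86a81fbafc2aa73bf08a60b5ad19ee43faa0a84bad81fe3ed6577bc3e2caa09a1bab18ec6c84c5b70349b14ef674e8667f12536dc8ebac923524ddd5382c0b20f2d1f37bb1501e4ea58d618966dd6cf10cf4c04eeb361f9ba2923253098d0051a500ba29d450aa7d4b5a52f9f0a43555d7e8d8c43c84d649b152a4825482dacf3f9d23d74c71d310ef5690e229f80b43556ef934c96a10ec8453b0f0ccb2fa414fbd36db11cf5a6f40c64ca6126248b385255e91e12cae3d2a6330bd2fe9792b1efd4e4e325e117d47d40ed4175465398c25cbf6d6e162a75b6fd814a012cde85dc6142bd0a99e1e2132875819666e44bf2932447497a60fd21f5d3d38898f1e38da9c313b5ebfd2391681f5750c972f95e23cf02cb0993064f2b506fd733b5c78070e092b4d9c3175f34f94eb9ea5972c0ca66a0ffd2f238d8d7ad79ecd0c371f2b612bb28b7fb2da36201ef439fd5a2286635c4e63c946d860626c3b61983e21f7934d3b11cf84bc608bf392d26ce3b466d2a749a9ca817e2c92e163e53a5a3b2bc56e87c4b4f00f9)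
def HW1t : ℕ := (nat_lit 0x85f0ae0b6176337a0901c32be0e86d4ea0590964b0de52f0635da441f751fe8b516f8e84a8aa29840cf69a01b9b116cb59cb12ee12c91bb391ea1202483730e4fa124610ed2ce4da96b2cdc7f8c91dc8e17bccd4fec56c7aa63cd6e4b201293fd56b04e7a895e8e03a8296f8be6ab05f9373441869b8226673eaf139ed217dad78b0a6bd5cae1b830df7a414cc4ca56544c18be940b6de479b9211fb4fd22f7da5874bd3711e6ed01a0e682889ef15ea16ba29d6127154b97a3f8fa1cbdb21cf7fdbc15e40db8fd2a4f80737c9f10a228a93872bb98f121adf713a1e55a9554524d6518547bf461708d54b21ae05b6fae21249bf8c71cb89576decb7298d75228f0188f864ab80ef657b52574f30ac56e89aeaed08c1f9e2a4a1c0ebcd0772d0ea823c913f413ddd19a0469b76fdc52e25315b89b6f5a2bf416e08f7c07436951974870d5144bb1cb0cf81eb71f148c127ff15e17f3b309b7a7bbfe77c60e62c68930aa574972a344d4b857f106724f2c5588aaa4caed54c684ea4bed99d8f99b825c43ffa7ba1b8bc4182ebd0bbb77dbe804bf899b9522a5e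f87cc150d83996313ace69ec4039eb7fbf15484d0e155bc939e1568db279eb1ec12031dd6df91b207da5a9721f129e02c0bdead49b3f714b1a67e14167fafd6d49b22aa48b289057c9e283b6da63be5013e9fc0710fa3d70d183efa9daca5aa2ba473aefd36bb6494ad95ca2bce06d6cfc8b0e6f649fde5a766d49bf04761972bd03941e757f2fb30ce8fc69cd5edef9260aa5ef93228fae1d241c4f088a1f6274bd7da1be2d5957a0e3bc5eb86198aab289eec528d067264b5ebd85aaaae6319f6a8cfc8bdc2eaa21db2af2052671b5375b82a60a95b6b181807e0f6b971f44c51c76e45bacf48faeb8c0745e418170afe765b666cb480f9afb973e5a7cef02c6c48a7415f3e40b81e1100f04645296c2918aa394ccb767f2357043ae08917874b7413d0f8125e5930868efaeeae6c25ee9da5c821c5da273046fe14a22565f9552a1e0bdb106c1b3b220c236076fe07fd179ce6dbaf4d9585947eecae42da3fa29f0377233179e9bbfe8d8990e6b7caf47fd25439f01b12d92c186c4bef0786e3a16d3d137f4c708afb73e79df2fa6fcb1cbb592bc6d739a5241b6b25ce34ae4241913c42b3b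f2b003cf9243862792dd27497ece1bae268ece52a2fed52ed91cec675919b960c93784265598ea0098d51f7e0f705353227bff3554c4324c5b2c3b0bbb82e05c377147d11f87e823cafc2b46fd59f7dd541925edf81687cc0891b28de995120391eae8f20049d94f3cb3ba9ad0f52bfa9723aafde6cc9b8f1350445705beb0112bcd4626217f2f4fee93ce3b66a340062ab3df297f0ef5e0cc52eb8bfc44be27ec5423f56eb153310bd8ff0b2fb3604068470e02ec12767069d26b2af7c8611e521d1167c57056d0eebcb979261c1480316339f7210709c33feca458eb6907ee11ca13f9e7cf0020be073cc22c9047e39622cea11e20a0a533cc120ed62f66e7e2f0868e8c4bd526a69cb53c5b758584dc848aa89f487ed88bc5c09d18f7510e6f809c6ea3ec105ef96bf53da96421cc4fc0fe3d33c877b05255c7de92b2bc796de7b5fe1e19d84258faa90220142b0d338c8ccfa98494381f787540f04897f52743283811b601c94f46dd6d5755a2a222d1bb06d88ae3c138270ba21c28d348b33d252c22f0818348c4352a3cab3213d401ea3148db2dd253a2c65c9dbb86634db9b750b56b78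d3096c1909527ecaa2940e885475681cb23b0c67cf41f77949631a28c0ad87a3e884847486eade55e76932eaa87e367e4614937113d283c399e59b3331566a533b6c69b451af6da896c68ad8b959155fdeff7613df3988c2730b8ca93401fce5fe25d9172ba79960f98a18c7bd0051941491bc787e2a4ca447f85591b56c00ca15d17017e3170d73a55aa00ad49dfeaee6fe8010018df0d180e286c5f2d231b5d0797bd80dff7ee2eec395439310a3ddf12171dec40ce880951f3cb0a87ae2ea83994ad3e7ea06bbd06e21921dfcc2a3ace53ab1c74f2d5ed0557c1e22f02cf856cfcd8fe1c55f27ffb5ff60c78ee5f6a557efc3052d6ac6445a36c15ab2b2848707924feb298968a1e425289942aa1df2789a63ac35581483e8f5893263dc082616b2cc24301ce1816d7591a1633faca880707703448990805b9e61556c7f18fe972fa709d58e54d0d97ed94e9adf0db35652203187c3a630c62318d99d1d7308182cf850b44368d2a12442ec4c3c87b7e60ce4ce52b1af9709e7bf3016a5104e05861f271d7660547210d906b7637eba882c7df29e073f3c7f200940da4de7834ae4c46db2a8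840c5bca54f5620fe6b0d9139ff55c79880fe1cb666d0b6c3127cf181025e2a754774a78993369639d20add834439b56b8eacf37b2073ad0c9e2c93119ab7b377e3049ef34ff5b21ed141ac8bbaeca6fc38ca42a711752d09dab58a99162aa4a37c6f43e972afdba308246eaf72831efc0e732565f41834a9c71810cc57e2ce2ae3af5bb66f847384d4ba6ced5edbd79e0c91d8ee838d75b2e1a70ed488e8ce559e153986a660113e22ff81a27d311f84db3789bebf490aa6ee624e9cfaadf1646e0cdce06007918cf5c38fd0e4825c0e592d186e92b7c3b71cb7b25ed4e10cac83795f87ef8fb623f8698e000fc42905e51dbbca00d938da38000bbbc85f21b639208e5ac0f4ada1f6fa216d66a425470deed1d108e71e35164476b07858e72d0cebda58d1c868cd6dc7491230265d5e092e0ed85baa2f267f37148f0eb6ddbf12adc04044277d71217c11d838f94be302ae1bbe2a08c2b66b78d640eaf7bf86d0af5106238fedc453965ea9e23540b16b1cd5e1eb2ec28d22070868e1c4578767f9db2b820a7c1869ad587c35f02940bd04c6b6781ff0d13798c2384c023d28046ad97c054f1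9658e80f7967db84709d19344ecfa9d0a1a3e9fe0aac45f3cee807afda7885f7e7f6b9304c60aeeca467b17861bb861fc1694024b6aa063b951efdf530ca9ee2f55dcfe963aede108b1bec7ca244775b1168a85d2282e17be51e8dcf793e835680abd58c0f3712d93170b861f6436f550273be1b9f4b6084462759a6abdf91e7ed9ef60708f7d6176a84c1483c5b094203581d0e051b2cbe90be58d54d33c0c9606a714b606eb4d141ab34fc4893396cd02330a36a24479fca061929d038affa1914154a361b89b9fd0783fa9d096996ad5cc71d0480d4c91b082af9fe80aa1b010f59990830426bc5a78392ea3b6011a112286fe8ab2d824d316cfb9561f75c3736dbfad61ab63b2c283c371d5180605b1a942854d028381503973b06a47840e0532f17a41c628ccae07e8eebe5fbd89288865317b5ad7508dac3b64640c60415b9c9f75adddafdf5646be82de68a00d07acddc4724658fb6b92b79d08a4adf8b08d9a4c086909577e23e6ced995298f36ff780369cf344d686485618a368a75b77417f7015bbbe0ec47beeabd215faca03c9875a802ac9c289a45f8c7bcb0de7e0f09ecddff10253da4a787cad63d2be2ad6d87284a0d04db39756ebc9bf5279ac21e8025eb16e8b671812f24e89a8b7f923883f286cc60fed3093491dfaebde7a738874cad6661f272180e2701b7552d1fb3eada62caf94f47aae5d5052b407b649ea837e59c5)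
noncomputable def LB1 : Tr ℕ := (Tr.nd (nat_lit 42611) (Tr.nd (nat_lit 37811) (Tr.nd (nat_lit 34897) (Tr.nd (nat_lit 33637) (Tr.nd (nat_lit 33181) (Tr.nd (nat_lit 32983) (Tr.nd (nat_lit 32869) (Tr.nd (nat_lit 32803) (Tr.nd (nat_lit 32789) (Tr.nd (nat_lit 32783) (Tr.lf (nat_lit 32779)) (Tr.lf (nat_lit 32783))) (Tr.nd (nat_lit 32797) (Tr.lf (nat_lit 32789)) (Tr.nd (nat_lit 32801) (Tr.lf (nat_lit 32797)) (Tr.lf (nat_lit 32801))))) (Tr.nd (nat_lit 32833) (Tr.nd (nat_lit 32831) (Tr.lf (nat_lit 32803)) (Tr.lf (nat_lit 32831))) (Tr.nd (nat_lit 32839) (Tr.lf (nat_lit 32833)) (Tr.nd (nat_lit 32843) (Tr.lf (nat_lit 32839)) (Tr.lf (nat_lit 32843)))))) (Tr.nd (nat_lit 32933) (Tr.nd (nat_lit 32909) (Tr.nd (nat_lit 32887) (Tr.lf (nat_lit 32869)) (Tr.lf (nat_lit 32887))) (Tr.nd (nat_lit 32911) (Tr.lf (nat_lit 32909)) (Tr.nd (nat_lit 32917) (Tr.lf (nat_lit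 32911)) (Tr.lf (nat_lit 32917))))) (Tr.nd (nat_lit 32957) (Tr.nd (nat_lit 32939) (Tr.lf (nat_lit 32933)) (Tr.nd (nat_lit 32941) (Tr.lf (nat_lit 32939)) (Tr.lf (nat_lit 32941)))) (Tr.nd (nat_lit 32969) (Tr.lf (nat_lit 32957)) (Tr.nd (nat_lit 32971) (Tr.lf (nat_lit 32969)) (Tr.lf (nat_lit 32971))))))) (Tr.nd (nat_lit 33071) (Tr.nd (nat_lit 33023) (Tr.nd (nat_lit 32993) (Tr.nd (nat_lit 32987) (Tr.lf (nat_lit 32983)) (Tr.lf (nat_lit 32987))) (Tr.nd (nat_lit 32999) (Tr.lf (nat_lit 32993)) (Tr.nd (nat_lit 33013) (Tr.lf (nat_lit 32999)) (Tr.lf (nat_lit 33013))))) (Tr.nd (nat_lit 33037) (Tr.nd (nat_lit 33029) (Tr.lf (nat_lit 33023)) (Tr.lf (nat_lit 33029))) (Tr.nd (nat_lit 33049) (Tr.lf (nat_lit 33037)) (Tr.nd (nat_lit 33053) (Tr.lf (nat_lit 33049)) (Tr.lf (nat_lit 33053)))))) (Tr.nd (nat_lit 33113) (Tr.nd (nat_lit 33083) (Tr.nd (nat_lit 33073)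 (Tr.lf (nat_lit 33071)) (Tr.lf (nat_lit 33073))) (Tr.nd (nat_lit 33091) (Tr.lf (nat_lit 33083)) (Tr.nd (nat_lit 33107) (Tr.lf (nat_lit 33091)) (Tr.lf (nat_lit 33107))))) (Tr.nd (nat_lit 33151) (Tr.nd (nat_lit 33119) (Tr.lf (nat_lit 33113)) (Tr.nd (nat_lit 33149) (Tr.lf (nat_lit 33119)) (Tr.lf (nat_lit 33149)))) (Tr.nd (nat_lit 33161) (Tr.lf (nat_lit 33151)) (Tr.nd (nat_lit 33179) (Tr.lf (nat_lit 33161)) (Tr.lf (nat_lit 33179)))))))) (Tr.nd (nat_lit 33409) (Tr.nd (nat_lit 33317) (Tr.nd (nat_lit 33247) (Tr.nd (nat_lit 33199) (Tr.nd (nat_lit 33191) (Tr.lf (nat_lit 33181)) (Tr.lf (nat_lit 33191))) (Tr.nd (nat_lit 33203) (Tr.lf (nat_lit 33199)) (Tr.nd (nat_lit 33223) (Tr.lf (nat_lit 33203)) (Tr.lf (nat_lit 33223))))) (Tr.nd (nat_lit 33289) (Tr.nd (nat_lit 33287) (Tr.lf (nat_lit 33247)) (Tr.lf (nat_lit 33287))) (Tr.nd (nat_lit 33301) (Tr.lf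 (nat_lit 33289)) (Tr.nd (nat_lit 33311) (Tr.lf (nat_lit 33301)) (Tr.lf (nat_lit 33311)))))) (Tr.nd (nat_lit 33349) (Tr.nd (nat_lit 33331) (Tr.nd (nat_lit 33329) (Tr.lf (nat_lit 33317)) (Tr.lf (nat_lit 33329))) (Tr.nd (nat_lit 33343) (Tr.lf (nat_lit 33331)) (Tr.nd (nat_lit 33347) (Tr.lf (nat_lit 33343)) (Tr.lf (nat_lit 33347))))) (Tr.nd (nat_lit 33377) (Tr.nd (nat_lit 33353) (Tr.lf (nat_lit 33349)) (Tr.nd (nat_lit 33359) (Tr.lf (nat_lit 33353)) (Tr.lf (nat_lit 33359)))) (Tr.nd (nat_lit 33391) (Tr.lf (nat_lit 33377)) (Tr.nd (nat_lit 33403) (Tr.lf (nat_lit 33391)) (Tr.lf (nat_lit 33403))))))) (Tr.nd (nat_lit 33547) (Tr.nd (nat_lit 33469) (Tr.nd (nat_lit 33427) (Tr.nd (nat_lit 33413) (Tr.lf (nat_lit 33409)) (Tr.lf (nat_lit 33413))) (Tr.nd (nat_lit 33457) (Tr.lf (nat_lit 33427)) (Tr.nd (nat_lit 33461) (Tr.lf (nat_lit 33457)) (Tr.lf (nat_lit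 33461))))) (Tr.nd (nat_lit 33503) (Tr.nd (nat_lit 33479) (Tr.lf (nat_lit 33469)) (Tr.nd (nat_lit 33493) (Tr.lf (nat_lit 33479)) (Tr.lf (nat_lit 33493)))) (Tr.nd (nat_lit 33521) (Tr.lf (nat_lit 33503)) (Tr.nd (nat_lit 33533) (Tr.lf (nat_lit 33521)) (Tr.lf (nat_lit 33533)))))) (Tr.nd (nat_lit 33601) (Tr.nd (nat_lit 33587) (Tr.nd (nat_lit 33569) (Tr.lf (nat_lit 33547)) (Tr.lf (nat_lit 33569))) (Tr.nd (nat_lit 33589) (Tr.lf (nat_lit 33587)) (Tr.nd (nat_lit 33599) (Tr.lf (nat_lit 33589)) (Tr.lf (nat_lit 33599))))) (Tr.nd (nat_lit 33619) (Tr.nd (nat_lit 33613) (Tr.lf (nat_lit 33601)) (Tr.nd (nat_lit 33617) (Tr.lf (nat_lit 33613)) (Tr.lf (nat_lit 33617)))) (Tr.nd (nat_lit 33623) (Tr.lf (nat_lit 33619)) (Tr.nd (nat_lit 33629) (Tr.lf (nat_lit 33623)) (Tr.lf (nat_lit 33629))))))))) (Tr.nd (nat_lit 34253) (Tr.nd (nat_lit 33911) (Tr.nd (nat_lit 33767)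 (Tr.nd (nat_lit 33713) (Tr.nd (nat_lit 33647) (Tr.nd (nat_lit 33641) (Tr.lf (nat_lit 33637)) (Tr.lf (nat_lit 33641))) (Tr.nd (nat_lit 33679) (Tr.lf (nat_lit 33647)) (Tr.nd (nat_lit 33703) (Tr.lf (nat_lit 33679)) (Tr.lf (nat_lit 33703))))) (Tr.nd (nat_lit 33749) (Tr.nd (nat_lit 33721) (Tr.lf (nat_lit 33713)) (Tr.lf (nat_lit 33721))) (Tr.nd (nat_lit 33751) (Tr.lf (nat_lit 33749)) (Tr.nd (nat_lit 33757) (Tr.lf (nat_lit 33751)) (Tr.lf (nat_lit 33757)))))) (Tr.nd (nat_lit 33809) (Tr.nd (nat_lit 33773) (Tr.nd (nat_lit 33769) (Tr.lf (nat_lit 33767)) (Tr.lf (nat_lit 33769))) (Tr.nd (nat_lit 33791) (Tr.lf (nat_lit 33773)) (Tr.nd (nat_lit 33797) (Tr.lf (nat_lit 33791)) (Tr.lf (nat_lit 33797))))) (Tr.nd (nat_lit 33829) (Tr.nd (nat_lit 33811) (Tr.lf (nat_lit 33809)) (Tr.nd (nat_lit 33827) (Tr.lf (nat_lit 33811)) (Tr.lf (nat_lit 33827)))) (Tr.nd (nat_lit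 33857) (Tr.lf (nat_lit 33829)) (Tr.nd (nat_lit 33863) (Tr.lf (nat_lit 33857)) (Tr.lf (nat_lit 33863))))))) (Tr.nd (nat_lit 34129) (Tr.nd (nat_lit 33967) (Tr.nd (nat_lit 33931) (Tr.nd (nat_lit 33923) (Tr.lf (nat_lit 33911)) (Tr.lf (nat_lit 33923))) (Tr.nd (nat_lit 33941) (Tr.lf (nat_lit 33931)) (Tr.nd (nat_lit 33961) (Tr.lf (nat_lit 33941)) (Tr.lf (nat_lit 33961))))) (Tr.nd (nat_lit 34061) (Tr.nd (nat_lit 34019) (Tr.lf (nat_lit 33967)) (Tr.lf (nat_lit 34019))) (Tr.nd (nat_lit 34123) (Tr.lf (nat_lit 34061)) (Tr.nd (nat_lit 34127) (Tr.lf (nat_lit 34123)) (Tr.lf (nat_lit 34127)))))) (Tr.nd (nat_lit 34171) (Tr.nd (nat_lit 34147) (Tr.nd (nat_lit 34141) (Tr.lf (nat_lit 34129)) (Tr.lf (nat_lit 34141))) (Tr.nd (nat_lit 34157) (Tr.lf (nat_lit 34147)) (Tr.nd (nat_lit 34159) (Tr.lf (nat_lit 34157)) (Tr.lf (nat_lit 34159))))) (Tr.nd (nat_lit 34213)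 (Tr.nd (nat_lit 34183) (Tr.lf (nat_lit 34171)) (Tr.nd (nat_lit 34211) (Tr.lf (nat_lit 34183)) (Tr.lf (nat_lit 34211)))) (Tr.nd (nat_lit 34217) (Tr.lf (nat_lit 34213)) (Tr.nd (nat_lit 34231) (Tr.lf (nat_lit 34217)) (Tr.lf (nat_lit 34231)))))))) (Tr.nd (nat_lit 34487) (Tr.nd (nat_lit 34367) (Tr.nd (nat_lit 34303) (Tr.nd (nat_lit 34267) (Tr.nd (nat_lit 34261) (Tr.lf (nat_lit 34253)) (Tr.lf (nat_lit 34261))) (Tr.nd (nat_lit 34283) (Tr.lf (nat_lit 34267)) (Tr.nd (nat_lit 34297) (Tr.lf (nat_lit 34283)) (Tr.lf (nat_lit 34297))))) (Tr.nd (nat_lit 34337) (Tr.nd (nat_lit 34327) (Tr.lf (nat_lit 34303)) (Tr.lf (nat_lit 34327))) (Tr.nd (nat_lit 34351) (Tr.lf (nat_lit 34337)) (Tr.nd (nat_lit 34361) (Tr.lf (nat_lit 34351)) (Tr.lf (nat_lit 34361)))))) (Tr.nd (nat_lit 34429) (Tr.nd (nat_lit 34381) (Tr.nd (nat_lit 34369) (Tr.lf (nat_lit 34367)) (Tr.lf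 (nat_lit 34369))) (Tr.nd (nat_lit 34403) (Tr.lf (nat_lit 34381)) (Tr.nd (nat_lit 34421) (Tr.lf (nat_lit 34403)) (Tr.lf (nat_lit 34421))))) (Tr.nd (nat_lit 34469) (Tr.nd (nat_lit 34439) (Tr.lf (nat_lit 34429)) (Tr.nd (nat_lit 34457) (Tr.lf (nat_lit 34439)) (Tr.lf (nat_lit 34457)))) (Tr.nd (nat_lit 34471) (Tr.lf (nat_lit 34469)) (Tr.nd (nat_lit 34483) (Tr.lf (nat_lit 34471)) (Tr.lf (nat_lit 34483))))))) (Tr.nd (nat_lit 34673) (Tr.nd (nat_lit 34591) (Tr.nd (nat_lit 34511) (Tr.nd (nat_lit 34501) (Tr.lf (nat_lit 34487)) (Tr.lf (nat_lit 34501))) (Tr.nd (nat_lit 34513) (Tr.lf (nat_lit 34511)) (Tr.nd (nat_lit 34589) (Tr.lf (nat_lit 34513)) (Tr.lf (nat_lit 34589))))) (Tr.nd (nat_lit 34631) (Tr.nd (nat_lit 34603) (Tr.lf (nat_lit 34591)) (Tr.nd (nat_lit 34613) (Tr.lf (nat_lit 34603)) (Tr.lf (nat_lit 34613)))) (Tr.nd (nat_lit 34649) (Tr.lf (nat_lit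 34631)) (Tr.nd (nat_lit 34667) (Tr.lf (nat_lit 34649)) (Tr.lf (nat_lit 34667)))))) (Tr.nd (nat_lit 34843) (Tr.nd (nat_lit 34693) (Tr.nd (nat_lit 34679) (Tr.lf (nat_lit 34673)) (Tr.lf (nat_lit 34679))) (Tr.nd (nat_lit 34807) (Tr.lf (nat_lit 34693)) (Tr.nd (nat_lit 34819) (Tr.lf (nat_lit 34807)) (Tr.lf (nat_lit 34819))))) (Tr.nd (nat_lit 34871) (Tr.nd (nat_lit 34847) (Tr.lf (nat_lit 34843)) (Tr.nd (nat_lit 34849) (Tr.lf (nat_lit 34847)) (Tr.lf (nat_lit 34849)))) (Tr.nd (nat_lit 34877) (Tr.lf (nat_lit 34871)) (Tr.nd (nat_lit 34883) (Tr.lf (nat_lit 34877)) (Tr.lf (nat_lit 34883)))))))))) (Tr.nd (nat_lit 36313) (Tr.nd (nat_lit 35461) (Tr.nd (nat_lit 35251) (Tr.nd (nat_lit 35051) (Tr.nd (nat_lit 34961) (Tr.nd (nat_lit 34919) (Tr.nd (nat_lit 34913) (Tr.lf (nat_lit 34897)) (Tr.lf (nat_lit 34913))) (Tr.nd (nat_lit 34939) (Tr.lf (nat_lit 34919))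 (Tr.nd (nat_lit 34949) (Tr.lf (nat_lit 34939)) (Tr.lf (nat_lit 34949))))) (Tr.nd (nat_lit 34981) (Tr.nd (nat_lit 34963) (Tr.lf (nat_lit 34961)) (Tr.lf (nat_lit 34963))) (Tr.nd (nat_lit 35023) (Tr.lf (nat_lit 34981)) (Tr.nd (nat_lit 35027) (Tr.lf (nat_lit 35023)) (Tr.lf (nat_lit 35027)))))) (Tr.nd (nat_lit 35107) (Tr.nd (nat_lit 35069) (Tr.nd (nat_lit 35059) (Tr.lf (nat_lit 35051)) (Tr.lf (nat_lit 35059))) (Tr.nd (nat_lit 35083) (Tr.lf (nat_lit 35069)) (Tr.nd (nat_lit 35099) (Tr.lf (nat_lit 35083)) (Tr.lf (nat_lit 35099))))) (Tr.nd (nat_lit 35153) (Tr.nd (nat_lit 35117) (Tr.lf (nat_lit 35107)) (Tr.nd (nat_lit 35149) (Tr.lf (nat_lit 35117)) (Tr.lf (nat_lit 35149)))) (Tr.nd (nat_lit 35171) (Tr.lf (nat_lit 35153)) (Tr.nd (nat_lit 35227) (Tr.lf (nat_lit 35171)) (Tr.lf (nat_lit 35227))))))) (Tr.nd (nat_lit 35339) (Tr.nd (nat_lit 35291) (Tr.nd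 (nat_lit 35267) (Tr.nd (nat_lit 35257) (Tr.lf (nat_lit 35251)) (Tr.lf (nat_lit 35257))) (Tr.nd (nat_lit 35279) (Tr.lf (nat_lit 35267)) (Tr.nd (nat_lit 35281) (Tr.lf (nat_lit 35279)) (Tr.lf (nat_lit 35281))))) (Tr.nd (nat_lit 35317) (Tr.nd (nat_lit 35311) (Tr.lf (nat_lit 35291)) (Tr.lf (nat_lit 35311))) (Tr.nd (nat_lit 35323) (Tr.lf (nat_lit 35317)) (Tr.nd (nat_lit 35327) (Tr.lf (nat_lit 35323)) (Tr.lf (nat_lit 35327)))))) (Tr.nd (nat_lit 35401) (Tr.nd (nat_lit 35363) (Tr.nd (nat_lit 35353) (Tr.lf (nat_lit 35339)) (Tr.lf (nat_lit 35353))) (Tr.nd (nat_lit 35381) (Tr.lf (nat_lit 35363)) (Tr.nd (nat_lit 35393) (Tr.lf (nat_lit 35381)) (Tr.lf (nat_lit 35393))))) (Tr.nd (nat_lit 35423) (Tr.nd (nat_lit 35407) (Tr.lf (nat_lit 35401)) (Tr.nd (nat_lit 35419) (Tr.lf (nat_lit 35407)) (Tr.lf (nat_lit 35419)))) (Tr.nd (nat_lit 35437) (Tr.lf (nat_lit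 35423)) (Tr.nd (nat_lit 35447) (Tr.lf (nat_lit 35437)) (Tr.lf (nat_lit 35447)))))))) (Tr.nd (nat_lit 35897) (Tr.nd (nat_lit 35747) (Tr.nd (nat_lit 35531) (Tr.nd (nat_lit 35507) (Tr.nd (nat_lit 35491) (Tr.lf (nat_lit 35461)) (Tr.lf (nat_lit 35491))) (Tr.nd (nat_lit 35521) (Tr.lf (nat_lit 35507)) (Tr.nd (nat_lit 35527) (Tr.lf (nat_lit 35521)) (Tr.lf (nat_lit 35527))))) (Tr.nd (nat_lit 35671) (Tr.nd (nat_lit 35617) (Tr.lf (nat_lit 35531)) (Tr.lf (nat_lit 35617))) (Tr.nd (nat_lit 35729) (Tr.lf (nat_lit 35671)) (Tr.nd (nat_lit 35731) (Tr.lf (nat_lit 35729)) (Tr.lf (nat_lit 35731)))))) (Tr.nd (nat_lit 35809) (Tr.nd (nat_lit 35771) (Tr.nd (nat_lit 35759) (Tr.lf (nat_lit 35747)) (Tr.lf (nat_lit 35759))) (Tr.nd (nat_lit 35797) (Tr.lf (nat_lit 35771)) (Tr.nd (nat_lit 35803) (Tr.lf (nat_lit 35797)) (Tr.lf (nat_lit 35803))))) (Tr.nd (nat_lit 35851)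 (Tr.nd (nat_lit 35831) (Tr.lf (nat_lit 35809)) (Tr.nd (nat_lit 35839) (Tr.lf (nat_lit 35831)) (Tr.lf (nat_lit 35839)))) (Tr.nd (nat_lit 35863) (Tr.lf (nat_lit 35851)) (Tr.nd (nat_lit 35879) (Tr.lf (nat_lit 35863)) (Tr.lf (nat_lit 35879))))))) (Tr.nd (nat_lit 36209) (Tr.nd (nat_lit 36107) (Tr.nd (nat_lit 35963) (Tr.nd (nat_lit 35911) (Tr.lf (nat_lit 35897)) (Tr.lf (nat_lit 35911))) (Tr.nd (nat_lit 36073) (Tr.lf (nat_lit 35963)) (Tr.nd (nat_lit 36083) (Tr.lf (nat_lit 36073)) (Tr.lf (nat_lit 36083))))) (Tr.nd (nat_lit 36161) (Tr.nd (nat_lit 36137) (Tr.lf (nat_lit 36107)) (Tr.nd (nat_lit 36151) (Tr.lf (nat_lit 36137)) (Tr.lf (nat_lit 36151)))) (Tr.nd (nat_lit 36187) (Tr.lf (nat_lit 36161)) (Tr.nd (nat_lit 36191) (Tr.lf (nat_lit 36187)) (Tr.lf (nat_lit 36191)))))) (Tr.nd (nat_lit 36263) (Tr.nd (nat_lit 36229) (Tr.nd (nat_lit 36217) (Tr.lf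 (nat_lit 36209)) (Tr.lf (nat_lit 36217))) (Tr.nd (nat_lit 36241) (Tr.lf (nat_lit 36229)) (Tr.nd (nat_lit 36251) (Tr.lf (nat_lit 36241)) (Tr.lf (nat_lit 36251))))) (Tr.nd (nat_lit 36293) (Tr.nd (nat_lit 36269) (Tr.lf (nat_lit 36263)) (Tr.nd (nat_lit 36277) (Tr.lf (nat_lit 36269)) (Tr.lf (nat_lit 36277)))) (Tr.nd (nat_lit 36299) (Tr.lf (nat_lit 36293)) (Tr.nd (nat_lit 36307) (Tr.lf (nat_lit 36299)) (Tr.lf (nat_lit 36307))))))))) (Tr.nd (nat_lit 36857) (Tr.nd (nat_lit 36643) (Tr.nd (nat_lit 36493) (Tr.nd (nat_lit 36389) (Tr.nd (nat_lit 36341) (Tr.nd (nat_lit 36319) (Tr.lf (nat_lit 36313)) (Tr.lf (nat_lit 36319))) (Tr.nd (nat_lit 36343) (Tr.lf (nat_lit 36341)) (Tr.nd (nat_lit 36353) (Tr.lf (nat_lit 36343)) (Tr.lf (nat_lit 36353))))) (Tr.nd (nat_lit 36457) (Tr.nd (nat_lit 36433) (Tr.lf (nat_lit 36389)) (Tr.lf (nat_lit 36433))) (Tr.nd (nat_lit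 36469) (Tr.lf (nat_lit 36457)) (Tr.nd (nat_lit 36473) (Tr.lf (nat_lit 36469)) (Tr.lf (nat_lit 36473)))))) (Tr.nd (nat_lit 36583) (Tr.nd (nat_lit 36529) (Tr.nd (nat_lit 36527) (Tr.lf (nat_lit 36493)) (Tr.lf (nat_lit 36527))) (Tr.nd (nat_lit 36541) (Tr.lf (nat_lit 36529)) (Tr.nd (nat_lit 36559) (Tr.lf (nat_lit 36541)) (Tr.lf (nat_lit 36559))))) (Tr.nd (nat_lit 36607) (Tr.nd (nat_lit 36587) (Tr.lf (nat_lit 36583)) (Tr.nd (nat_lit 36599) (Tr.lf (nat_lit 36587)) (Tr.lf (nat_lit 36599)))) (Tr.nd (nat_lit 36629) (Tr.lf (nat_lit 36607)) (Tr.nd (nat_lit 36637) (Tr.lf (nat_lit 36629)) (Tr.lf (nat_lit 36637))))))) (Tr.nd (nat_lit 36749) (Tr.nd (nat_lit 36691) (Tr.nd (nat_lit 36671) (Tr.nd (nat_lit 36653) (Tr.lf (nat_lit 36643)) (Tr.lf (nat_lit 36653))) (Tr.nd (nat_lit 36677) (Tr.lf (nat_lit 36671)) (Tr.nd (nat_lit 36683) (Tr.lf (nat_lit 36677))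 (Tr.lf (nat_lit 36683))))) (Tr.nd (nat_lit 36713) (Tr.nd (nat_lit 36697) (Tr.lf (nat_lit 36691)) (Tr.nd (nat_lit 36709) (Tr.lf (nat_lit 36697)) (Tr.lf (nat_lit 36709)))) (Tr.nd (nat_lit 36721) (Tr.lf (nat_lit 36713)) (Tr.nd (nat_lit 36739) (Tr.lf (nat_lit 36721)) (Tr.lf (nat_lit 36739)))))) (Tr.nd (nat_lit 36787) (Tr.nd (nat_lit 36767) (Tr.nd (nat_lit 36761) (Tr.lf (nat_lit 36749)) (Tr.lf (nat_lit 36761))) (Tr.nd (nat_lit 36779) (Tr.lf (nat_lit 36767)) (Tr.nd (nat_lit 36781) (Tr.lf (nat_lit 36779)) (Tr.lf (nat_lit 36781))))) (Tr.nd (nat_lit 36809) (Tr.nd (nat_lit 36791) (Tr.lf (nat_lit 36787)) (Tr.nd (nat_lit 36793) (Tr.lf (nat_lit 36791)) (Tr.lf (nat_lit 36793)))) (Tr.nd (nat_lit 36833) (Tr.lf (nat_lit 36809)) (Tr.nd (nat_lit 36847) (Tr.lf (nat_lit 36833)) (Tr.lf (nat_lit 36847)))))))) (Tr.nd (nat_lit 37309) (Tr.nd (nat_lit 37123) (Tr.nd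 (nat_lit 36919) (Tr.nd (nat_lit 36887) (Tr.nd (nat_lit 36877) (Tr.lf (nat_lit 36857)) (Tr.lf (nat_lit 36877))) (Tr.nd (nat_lit 36899) (Tr.lf (nat_lit 36887)) (Tr.nd (nat_lit 36913) (Tr.lf (nat_lit 36899)) (Tr.lf (nat_lit 36913))))) (Tr.nd (nat_lit 36931) (Tr.nd (nat_lit 36923) (Tr.lf (nat_lit 36919)) (Tr.lf (nat_lit 36923))) (Tr.nd (nat_lit 37057) (Tr.lf (nat_lit 36931)) (Tr.nd (nat_lit 37061) (Tr.lf (nat_lit 37057)) (Tr.lf (nat_lit 37061)))))) (Tr.nd (nat_lit 37189) (Tr.nd (nat_lit 37159) (Tr.nd (nat_lit 37139) (Tr.lf (nat_lit 37123)) (Tr.lf (nat_lit 37139))) (Tr.nd (nat_lit 37171) (Tr.lf (nat_lit 37159)) (Tr.nd (nat_lit 37181) (Tr.lf (nat_lit 37171)) (Tr.lf (nat_lit 37181))))) (Tr.nd (nat_lit 37243) (Tr.nd (nat_lit 37201) (Tr.lf (nat_lit 37189)) (Tr.nd (nat_lit 37223) (Tr.lf (nat_lit 37201)) (Tr.lf (nat_lit 37223)))) (Tr.nd (nat_lit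 37273) (Tr.lf (nat_lit 37243)) (Tr.nd (nat_lit 37277) (Tr.lf (nat_lit 37273)) (Tr.lf (nat_lit 37277))))))) (Tr.nd (nat_lit 37517) (Tr.nd (nat_lit 37369) (Tr.nd (nat_lit 37339) (Tr.nd (nat_lit 37337) (Tr.lf (nat_lit 37309)) (Tr.lf (nat_lit 37337))) (Tr.nd (nat_lit 37357) (Tr.lf (nat_lit 37339)) (Tr.nd (nat_lit 37363) (Tr.lf (nat_lit 37357)) (Tr.lf (nat_lit 37363))))) (Tr.nd (nat_lit 37463) (Tr.nd (nat_lit 37379) (Tr.lf (nat_lit 37369)) (Tr.nd (nat_lit 37409) (Tr.lf (nat_lit 37379)) (Tr.lf (nat_lit 37409)))) (Tr.nd (nat_lit 37489) (Tr.lf (nat_lit 37463)) (Tr.nd (nat_lit 37511) (Tr.lf (nat_lit 37489)) (Tr.lf (nat_lit 37511)))))) (Tr.nd (nat_lit 37693) (Tr.nd (nat_lit 37649) (Tr.nd (nat_lit 37529) (Tr.lf (nat_lit 37517)) (Tr.lf (nat_lit 37529))) (Tr.nd (nat_lit 37657) (Tr.lf (nat_lit 37649)) (Tr.nd (nat_lit 37663) (Tr.lf (nat_lit 37657))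 (Tr.lf (nat_lit 37663))))) (Tr.nd (nat_lit 37781) (Tr.nd (nat_lit 37699) (Tr.lf (nat_lit 37693)) (Tr.nd (nat_lit 37747) (Tr.lf (nat_lit 37699)) (Tr.lf (nat_lit 37747)))) (Tr.nd (nat_lit 37783) (Tr.lf (nat_lit 37781)) (Tr.nd (nat_lit 37799) (Tr.lf (nat_lit 37783)) (Tr.lf (nat_lit 37799))))))))))) (Tr.nd (nat_lit 40429) (Tr.nd (nat_lit 38903) (Tr.nd (nat_lit 38393) (Tr.nd (nat_lit 38047) (Tr.nd (nat_lit 37907) (Tr.nd (nat_lit 37861) (Tr.nd (nat_lit 37831) (Tr.nd (nat_lit 37813) (Tr.lf (nat_lit 37811)) (Tr.lf (nat_lit 37813))) (Tr.nd (nat_lit 37847) (Tr.lf (nat_lit 37831)) (Tr.nd (nat_lit 37853) (Tr.lf (nat_lit 37847)) (Tr.lf (nat_lit 37853))))) (Tr.nd (nat_lit 37879) (Tr.nd (nat_lit 37871) (Tr.lf (nat_lit 37861)) (Tr.lf (nat_lit 37871))) (Tr.nd (nat_lit 37889) (Tr.lf (nat_lit 37879)) (Tr.nd (nat_lit 37897) (Tr.lf (nat_lit 37889)) (Tr.lf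 (nat_lit 37897)))))) (Tr.nd (nat_lit 37987) (Tr.nd (nat_lit 37957) (Tr.nd (nat_lit 37951) (Tr.lf (nat_lit 37907)) (Tr.lf (nat_lit 37951))) (Tr.nd (nat_lit 37963) (Tr.lf (nat_lit 37957)) (Tr.nd (nat_lit 37967) (Tr.lf (nat_lit 37963)) (Tr.lf (nat_lit 37967))))) (Tr.nd (nat_lit 37997) (Tr.nd (nat_lit 37991) (Tr.lf (nat_lit 37987)) (Tr.nd (nat_lit 37993) (Tr.lf (nat_lit 37991)) (Tr.lf (nat_lit 37993)))) (Tr.nd (nat_lit 38011) (Tr.lf (nat_lit 37997)) (Tr.nd (nat_lit 38039) (Tr.lf (nat_lit 38011)) (Tr.lf (nat_lit 38039))))))) (Tr.nd (nat_lit 38219) (Tr.nd (nat_lit 38153) (Tr.nd (nat_lit 38069) (Tr.nd (nat_lit 38053) (Tr.lf (nat_lit 38047)) (Tr.lf (nat_lit 38053))) (Tr.nd (nat_lit 38083) (Tr.lf (nat_lit 38069)) (Tr.nd (nat_lit 38113) (Tr.lf (nat_lit 38083)) (Tr.lf (nat_lit 38113))))) (Tr.nd (nat_lit 38183) (Tr.nd (nat_lit 38167) (Tr.lf (nat_lit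 38153)) (Tr.lf (nat_lit 38167))) (Tr.nd (nat_lit 38197) (Tr.lf (nat_lit 38183)) (Tr.nd (nat_lit 38201) (Tr.lf (nat_lit 38197)) (Tr.lf (nat_lit 38201)))))) (Tr.nd (nat_lit 38299) (Tr.nd (nat_lit 38273) (Tr.nd (nat_lit 38237) (Tr.lf (nat_lit 38219)) (Tr.lf (nat_lit 38237))) (Tr.nd (nat_lit 38281) (Tr.lf (nat_lit 38273)) (Tr.nd (nat_lit 38287) (Tr.lf (nat_lit 38281)) (Tr.lf (nat_lit 38287))))) (Tr.nd (nat_lit 38327) (Tr.nd (nat_lit 38303) (Tr.lf (nat_lit 38299)) (Tr.nd (nat_lit 38317) (Tr.lf (nat_lit 38303)) (Tr.lf (nat_lit 38317)))) (Tr.nd (nat_lit 38371) (Tr.lf (nat_lit 38327)) (Tr.nd (nat_lit 38377) (Tr.lf (nat_lit 38371)) (Tr.lf (nat_lit 38377)))))))) (Tr.nd (nat_lit 38669) (Tr.nd (nat_lit 38561) (Tr.nd (nat_lit 38459) (Tr.nd (nat_lit 38447) (Tr.nd (nat_lit 38431) (Tr.lf (nat_lit 38393)) (Tr.lf (nat_lit 38431))) (Tr.nd (nat_lit 38449)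 (Tr.lf (nat_lit 38447)) (Tr.nd (nat_lit 38453) (Tr.lf (nat_lit 38449)) (Tr.lf (nat_lit 38453))))) (Tr.nd (nat_lit 38501) (Tr.nd (nat_lit 38461) (Tr.lf (nat_lit 38459)) (Tr.lf (nat_lit 38461))) (Tr.nd (nat_lit 38543) (Tr.lf (nat_lit 38501)) (Tr.nd (nat_lit 38557) (Tr.lf (nat_lit 38543)) (Tr.lf (nat_lit 38557)))))) (Tr.nd (nat_lit 38609) (Tr.nd (nat_lit 38569) (Tr.nd (nat_lit 38567) (Tr.lf (nat_lit 38561)) (Tr.lf (nat_lit 38567))) (Tr.nd (nat_lit 38593) (Tr.lf (nat_lit 38569)) (Tr.nd (nat_lit 38603) (Tr.lf (nat_lit 38593)) (Tr.lf (nat_lit 38603))))) (Tr.nd (nat_lit 38639) (Tr.nd (nat_lit 38611) (Tr.lf (nat_lit 38609)) (Tr.nd (nat_lit 38629) (Tr.lf (nat_lit 38611)) (Tr.lf (nat_lit 38629)))) (Tr.nd (nat_lit 38651) (Tr.lf (nat_lit 38639)) (Tr.nd (nat_lit 38653) (Tr.lf (nat_lit 38651)) (Tr.lf (nat_lit 38653))))))) (Tr.nd (nat_lit 38747) (Tr.nd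 (nat_lit 38707) (Tr.nd (nat_lit 38677) (Tr.nd (nat_lit 38671) (Tr.lf (nat_lit 38669)) (Tr.lf (nat_lit 38671))) (Tr.nd (nat_lit 38693) (Tr.lf (nat_lit 38677)) (Tr.nd (nat_lit 38699) (Tr.lf (nat_lit 38693)) (Tr.lf (nat_lit 38699))))) (Tr.nd (nat_lit 38723) (Tr.nd (nat_lit 38711) (Tr.lf (nat_lit 38707)) (Tr.nd (nat_lit 38713) (Tr.lf (nat_lit 38711)) (Tr.lf (nat_lit 38713)))) (Tr.nd (nat_lit 38729) (Tr.lf (nat_lit 38723)) (Tr.nd (nat_lit 38737) (Tr.lf (nat_lit 38729)) (Tr.lf (nat_lit 38737)))))) (Tr.nd (nat_lit 38821) (Tr.nd (nat_lit 38767) (Tr.nd (nat_lit 38749) (Tr.lf (nat_lit 38747)) (Tr.lf (nat_lit 38749))) (Tr.nd (nat_lit 38783) (Tr.lf (nat_lit 38767)) (Tr.nd (nat_lit 38791) (Tr.lf (nat_lit 38783)) (Tr.lf (nat_lit 38791))))) (Tr.nd (nat_lit 38867) (Tr.nd (nat_lit 38839) (Tr.lf (nat_lit 38821)) (Tr.nd (nat_lit 38851) (Tr.lf (nat_lit 38839))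 (Tr.lf (nat_lit 38851)))) (Tr.nd (nat_lit 38873) (Tr.lf (nat_lit 38867)) (Tr.nd (nat_lit 38891) (Tr.lf (nat_lit 38873)) (Tr.lf (nat_lit 38891))))))))) (Tr.nd (nat_lit 39667) (Tr.nd (nat_lit 39323) (Tr.nd (nat_lit 39113) (Tr.nd (nat_lit 39019) (Tr.nd (nat_lit 38923) (Tr.nd (nat_lit 38921) (Tr.lf (nat_lit 38903)) (Tr.lf (nat_lit 38921))) (Tr.nd (nat_lit 38933) (Tr.lf (nat_lit 38923)) (Tr.nd (nat_lit 38959) (Tr.lf (nat_lit 38933)) (Tr.lf (nat_lit 38959))))) (Tr.nd (nat_lit 39041) (Tr.nd (nat_lit 39023) (Tr.lf (nat_lit 39019)) (Tr.lf (nat_lit 39023))) (Tr.nd (nat_lit 39047) (Tr.lf (nat_lit 39041)) (Tr.nd (nat_lit 39089) (Tr.lf (nat_lit 39047)) (Tr.lf (nat_lit 39089)))))) (Tr.nd (nat_lit 39241) (Tr.nd (nat_lit 39217) (Tr.nd (nat_lit 39119) (Tr.lf (nat_lit 39113)) (Tr.lf (nat_lit 39119))) (Tr.nd (nat_lit 39227) (Tr.lf (nat_lit 39217)) (Tr.nd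 (nat_lit 39239) (Tr.lf (nat_lit 39227)) (Tr.lf (nat_lit 39239))))) (Tr.nd (nat_lit 39301) (Tr.nd (nat_lit 39251) (Tr.lf (nat_lit 39241)) (Tr.nd (nat_lit 39293) (Tr.lf (nat_lit 39251)) (Tr.lf (nat_lit 39293)))) (Tr.nd (nat_lit 39313) (Tr.lf (nat_lit 39301)) (Tr.nd (nat_lit 39317) (Tr.lf (nat_lit 39313)) (Tr.lf (nat_lit 39317))))))) (Tr.nd (nat_lit 39461) (Tr.nd (nat_lit 39373) (Tr.nd (nat_lit 39343) (Tr.nd (nat_lit 39341) (Tr.lf (nat_lit 39323)) (Tr.lf (nat_lit 39341))) (Tr.nd (nat_lit 39359) (Tr.lf (nat_lit 39343)) (Tr.nd (nat_lit 39367) (Tr.lf (nat_lit 39359)) (Tr.lf (nat_lit 39367))))) (Tr.nd (nat_lit 39409) (Tr.nd (nat_lit 39397) (Tr.lf (nat_lit 39373)) (Tr.lf (nat_lit 39397))) (Tr.nd (nat_lit 39419) (Tr.lf (nat_lit 39409)) (Tr.nd (nat_lit 39451) (Tr.lf (nat_lit 39419)) (Tr.lf (nat_lit 39451)))))) (Tr.nd (nat_lit 39563) (Tr.nd (nat_lit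 39521) (Tr.nd (nat_lit 39511) (Tr.lf (nat_lit 39461)) (Tr.lf (nat_lit 39511))) (Tr.nd (nat_lit 39541) (Tr.lf (nat_lit 39521)) (Tr.nd (nat_lit 39551) (Tr.lf (nat_lit 39541)) (Tr.lf (nat_lit 39551))))) (Tr.nd (nat_lit 39607) (Tr.nd (nat_lit 39569) (Tr.lf (nat_lit 39563)) (Tr.nd (nat_lit 39581) (Tr.lf (nat_lit 39569)) (Tr.lf (nat_lit 39581)))) (Tr.nd (nat_lit 39631) (Tr.lf (nat_lit 39607)) (Tr.nd (nat_lit 39659) (Tr.lf (nat_lit 39631)) (Tr.lf (nat_lit 39659)))))))) (Tr.nd (nat_lit 40151) (Tr.nd (nat_lit 39847) (Tr.nd (nat_lit 39769) (Tr.nd (nat_lit 39727) (Tr.nd (nat_lit 39679) (Tr.lf (nat_lit 39667)) (Tr.lf (nat_lit 39679))) (Tr.nd (nat_lit 39733) (Tr.lf (nat_lit 39727)) (Tr.nd (nat_lit 39749) (Tr.lf (nat_lit 39733)) (Tr.lf (nat_lit 39749))))) (Tr.nd (nat_lit 39827) (Tr.nd (nat_lit 39821) (Tr.lf (nat_lit 39769)) (Tr.lf (nat_lit 39821)))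 (Tr.nd (nat_lit 39829) (Tr.lf (nat_lit 39827)) (Tr.nd (nat_lit 39841) (Tr.lf (nat_lit 39829)) (Tr.lf (nat_lit 39841)))))) (Tr.nd (nat_lit 40009) (Tr.nd (nat_lit 39863) (Tr.nd (nat_lit 39857) (Tr.lf (nat_lit 39847)) (Tr.lf (nat_lit 39857))) (Tr.nd (nat_lit 39869) (Tr.lf (nat_lit 39863)) (Tr.nd (nat_lit 39877) (Tr.lf (nat_lit 39869)) (Tr.lf (nat_lit 39877))))) (Tr.nd (nat_lit 40037) (Tr.nd (nat_lit 40013) (Tr.lf (nat_lit 40009)) (Tr.nd (nat_lit 40031) (Tr.lf (nat_lit 40013)) (Tr.lf (nat_lit 40031)))) (Tr.nd (nat_lit 40099) (Tr.lf (nat_lit 40037)) (Tr.nd (nat_lit 40111) (Tr.lf (nat_lit 40099)) (Tr.lf (nat_lit 40111))))))) (Tr.nd (nat_lit 40253) (Tr.nd (nat_lit 40189) (Tr.nd (nat_lit 40163) (Tr.nd (nat_lit 40153) (Tr.lf (nat_lit 40151)) (Tr.lf (nat_lit 40153))) (Tr.nd (nat_lit 40169) (Tr.lf (nat_lit 40163)) (Tr.nd (nat_lit 40177) (Tr.lf (nat_lit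 40169)) (Tr.lf (nat_lit 40177))))) (Tr.nd (nat_lit 40231) (Tr.nd (nat_lit 40193) (Tr.lf (nat_lit 40189)) (Tr.nd (nat_lit 40213) (Tr.lf (nat_lit 40193)) (Tr.lf (nat_lit 40213)))) (Tr.nd (nat_lit 40237) (Tr.lf (nat_lit 40231)) (Tr.nd (nat_lit 40241) (Tr.lf (nat_lit 40237)) (Tr.lf (nat_lit 40241)))))) (Tr.nd (nat_lit 40351) (Tr.nd (nat_lit 40283) (Tr.nd (nat_lit 40277) (Tr.lf (nat_lit 40253)) (Tr.lf (nat_lit 40277))) (Tr.nd (nat_lit 40289) (Tr.lf (nat_lit 40283)) (Tr.nd (nat_lit 40343) (Tr.lf (nat_lit 40289)) (Tr.lf (nat_lit 40343))))) (Tr.nd (nat_lit 40387) (Tr.nd (nat_lit 40357) (Tr.lf (nat_lit 40351)) (Tr.nd (nat_lit 40361) (Tr.lf (nat_lit 40357)) (Tr.lf (nat_lit 40361)))) (Tr.nd (nat_lit 40423) (Tr.lf (nat_lit 40387)) (Tr.nd (nat_lit 40427) (Tr.lf (nat_lit 40423)) (Tr.lf (nat_lit 40427)))))))))) (Tr.nd (nat_lit 41453) (Tr.nd (nat_lit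 40939) (Tr.nd (nat_lit 40639) (Tr.nd (nat_lit 40529) (Tr.nd (nat_lit 40487) (Tr.nd (nat_lit 40459) (Tr.nd (nat_lit 40433) (Tr.lf (nat_lit 40429)) (Tr.lf (nat_lit 40433))) (Tr.nd (nat_lit 40471) (Tr.lf (nat_lit 40459)) (Tr.nd (nat_lit 40483) (Tr.lf (nat_lit 40471)) (Tr.lf (nat_lit 40483))))) (Tr.nd (nat_lit 40499) (Tr.nd (nat_lit 40493) (Tr.lf (nat_lit 40487)) (Tr.lf (nat_lit 40493))) (Tr.nd (nat_lit 40507) (Tr.lf (nat_lit 40499)) (Tr.nd (nat_lit 40519) (Tr.lf (nat_lit 40507)) (Tr.lf (nat_lit 40519)))))) (Tr.nd (nat_lit 40583) (Tr.nd (nat_lit 40543) (Tr.nd (nat_lit 40531) (Tr.lf (nat_lit 40529)) (Tr.lf (nat_lit 40531))) (Tr.nd (nat_lit 40559) (Tr.lf (nat_lit 40543)) (Tr.nd (nat_lit 40577) (Tr.lf (nat_lit 40559)) (Tr.lf (nat_lit 40577))))) (Tr.nd (nat_lit 40609) (Tr.nd (nat_lit 40591) (Tr.lf (nat_lit 40583)) (Tr.nd (nat_lit 40597) (Tr.lf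 (nat_lit 40591)) (Tr.lf (nat_lit 40597)))) (Tr.nd (nat_lit 40627) (Tr.lf (nat_lit 40609)) (Tr.nd (nat_lit 40637) (Tr.lf (nat_lit 40627)) (Tr.lf (nat_lit 40637))))))) (Tr.nd (nat_lit 40813) (Tr.nd (nat_lit 40759) (Tr.nd (nat_lit 40709) (Tr.nd (nat_lit 40693) (Tr.lf (nat_lit 40639)) (Tr.lf (nat_lit 40693))) (Tr.nd (nat_lit 40739) (Tr.lf (nat_lit 40709)) (Tr.nd (nat_lit 40751) (Tr.lf (nat_lit 40739)) (Tr.lf (nat_lit 40751))))) (Tr.nd (nat_lit 40771) (Tr.nd (nat_lit 40763) (Tr.lf (nat_lit 40759)) (Tr.lf (nat_lit 40763))) (Tr.nd (nat_lit 40787) (Tr.lf (nat_lit 40771)) (Tr.nd (nat_lit 40801) (Tr.lf (nat_lit 40787)) (Tr.lf (nat_lit 40801)))))) (Tr.nd (nat_lit 40879) (Tr.nd (nat_lit 40829) (Tr.nd (nat_lit 40819) (Tr.lf (nat_lit 40813)) (Tr.lf (nat_lit 40819))) (Tr.nd (nat_lit 40853) (Tr.lf (nat_lit 40829)) (Tr.nd (nat_lit 40867) (Tr.lf (nat_lit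 40853)) (Tr.lf (nat_lit 40867))))) (Tr.nd (nat_lit 40903) (Tr.nd (nat_lit 40883) (Tr.lf (nat_lit 40879)) (Tr.nd (nat_lit 40897) (Tr.lf (nat_lit 40883)) (Tr.lf (nat_lit 40897)))) (Tr.nd (nat_lit 40927) (Tr.lf (nat_lit 40903)) (Tr.nd (nat_lit 40933) (Tr.lf (nat_lit 40927)) (Tr.lf (nat_lit 40933)))))))) (Tr.nd (nat_lit 41213) (Tr.nd (nat_lit 41131) (Tr.nd (nat_lit 41057) (Tr.nd (nat_lit 40993) (Tr.nd (nat_lit 40973) (Tr.lf (nat_lit 40939)) (Tr.lf (nat_lit 40973))) (Tr.nd (nat_lit 41047) (Tr.lf (nat_lit 40993)) (Tr.nd (nat_lit 41051) (Tr.lf (nat_lit 41047)) (Tr.lf (nat_lit 41051))))) (Tr.nd (nat_lit 41081) (Tr.nd (nat_lit 41077) (Tr.lf (nat_lit 41057)) (Tr.lf (nat_lit 41077))) (Tr.nd (nat_lit 41113) (Tr.lf (nat_lit 41081)) (Tr.nd (nat_lit 41117) (Tr.lf (nat_lit 41113)) (Tr.lf (nat_lit 41117)))))) (Tr.nd (nat_lit 41177) (Tr.nd (nat_lit 41143)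 (Tr.nd (nat_lit 41141) (Tr.lf (nat_lit 41131)) (Tr.lf (nat_lit 41141))) (Tr.nd (nat_lit 41149) (Tr.lf (nat_lit 41143)) (Tr.nd (nat_lit 41161) (Tr.lf (nat_lit 41149)) (Tr.lf (nat_lit 41161))))) (Tr.nd (nat_lit 41189) (Tr.nd (nat_lit 41179) (Tr.lf (nat_lit 41177)) (Tr.nd (nat_lit 41183) (Tr.lf (nat_lit 41179)) (Tr.lf (nat_lit 41183)))) (Tr.nd (nat_lit 41201) (Tr.lf (nat_lit 41189)) (Tr.nd (nat_lit 41203) (Tr.lf (nat_lit 41201)) (Tr.lf (nat_lit 41203))))))) (Tr.nd (nat_lit 41333) (Tr.nd (nat_lit 41243) (Tr.nd (nat_lit 41227) (Tr.nd (nat_lit 41221) (Tr.lf (nat_lit 41213)) (Tr.lf (nat_lit 41221))) (Tr.nd (nat_lit 41231) (Tr.lf (nat_lit 41227)) (Tr.nd (nat_lit 41233) (Tr.lf (nat_lit 41231)) (Tr.lf (nat_lit 41233))))) (Tr.nd (nat_lit 41269) (Tr.nd (nat_lit 41257) (Tr.lf (nat_lit 41243)) (Tr.nd (nat_lit 41263) (Tr.lf (nat_lit 41257)) (Tr.lf (nat_lit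 41263)))) (Tr.nd (nat_lit 41281) (Tr.lf (nat_lit 41269)) (Tr.nd (nat_lit 41299) (Tr.lf (nat_lit 41281)) (Tr.lf (nat_lit 41299)))))) (Tr.nd (nat_lit 41387) (Tr.nd (nat_lit 41351) (Tr.nd (nat_lit 41341) (Tr.lf (nat_lit 41333)) (Tr.lf (nat_lit 41341))) (Tr.nd (nat_lit 41357) (Tr.lf (nat_lit 41351)) (Tr.nd (nat_lit 41381) (Tr.lf (nat_lit 41357)) (Tr.lf (nat_lit 41381))))) (Tr.nd (nat_lit 41411) (Tr.nd (nat_lit 41389) (Tr.lf (nat_lit 41387)) (Tr.nd (nat_lit 41399) (Tr.lf (nat_lit 41389)) (Tr.lf (nat_lit 41399)))) (Tr.nd (nat_lit 41413) (Tr.lf (nat_lit 41411)) (Tr.nd (nat_lit 41443) (Tr.lf (nat_lit 41413)) (Tr.lf (nat_lit 41443))))))))) (Tr.nd (nat_lit 41959) (Tr.nd (nat_lit 41647) (Tr.nd (nat_lit 41549) (Tr.nd (nat_lit 41513) (Tr.nd (nat_lit 41479) (Tr.nd (nat_lit 41467) (Tr.lf (nat_lit 41453)) (Tr.lf (nat_lit 41467))) (Tr.nd (nat_lit 41491)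 (Tr.lf (nat_lit 41479)) (Tr.nd (nat_lit 41507) (Tr.lf (nat_lit 41491)) (Tr.lf (nat_lit 41507))))) (Tr.nd (nat_lit 41521) (Tr.nd (nat_lit 41519) (Tr.lf (nat_lit 41513)) (Tr.lf (nat_lit 41519))) (Tr.nd (nat_lit 41539) (Tr.lf (nat_lit 41521)) (Tr.nd (nat_lit 41543) (Tr.lf (nat_lit 41539)) (Tr.lf (nat_lit 41543)))))) (Tr.nd (nat_lit 41609) (Tr.nd (nat_lit 41593) (Tr.nd (nat_lit 41579) (Tr.lf (nat_lit 41549)) (Tr.lf (nat_lit 41579))) (Tr.nd (nat_lit 41597) (Tr.lf (nat_lit 41593)) (Tr.nd (nat_lit 41603) (Tr.lf (nat_lit 41597)) (Tr.lf (nat_lit 41603))))) (Tr.nd (nat_lit 41621) (Tr.nd (nat_lit 41611) (Tr.lf (nat_lit 41609)) (Tr.nd (nat_lit 41617) (Tr.lf (nat_lit 41611)) (Tr.lf (nat_lit 41617)))) (Tr.nd (nat_lit 41627) (Tr.lf (nat_lit 41621)) (Tr.nd (nat_lit 41641) (Tr.lf (nat_lit 41627)) (Tr.lf (nat_lit 41641))))))) (Tr.nd (nat_lit 41843) (Tr.nd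 (nat_lit 41729) (Tr.nd (nat_lit 41659) (Tr.nd (nat_lit 41651) (Tr.lf (nat_lit 41647)) (Tr.lf (nat_lit 41651))) (Tr.nd (nat_lit 41681) (Tr.lf (nat_lit 41659)) (Tr.nd (nat_lit 41719) (Tr.lf (nat_lit 41681)) (Tr.lf (nat_lit 41719))))) (Tr.nd (nat_lit 41777) (Tr.nd (nat_lit 41737) (Tr.lf (nat_lit 41729)) (Tr.nd (nat_lit 41771) (Tr.lf (nat_lit 41737)) (Tr.lf (nat_lit 41771)))) (Tr.nd (nat_lit 41809) (Tr.lf (nat_lit 41777)) (Tr.nd (nat_lit 41813) (Tr.lf (nat_lit 41809)) (Tr.lf (nat_lit 41813)))))) (Tr.nd (nat_lit 41887) (Tr.nd (nat_lit 41851) (Tr.nd (nat_lit 41849) (Tr.lf (nat_lit 41843)) (Tr.lf (nat_lit 41849))) (Tr.nd (nat_lit 41863) (Tr.lf (nat_lit 41851)) (Tr.nd (nat_lit 41879) (Tr.lf (nat_lit 41863)) (Tr.lf (nat_lit 41879))))) (Tr.nd (nat_lit 41911) (Tr.nd (nat_lit 41893) (Tr.lf (nat_lit 41887)) (Tr.nd (nat_lit 41897) (Tr.lf (nat_lit 41893))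 (Tr.lf (nat_lit 41897)))) (Tr.nd (nat_lit 41947) (Tr.lf (nat_lit 41911)) (Tr.nd (nat_lit 41953) (Tr.lf (nat_lit 41947)) (Tr.lf (nat_lit 41953)))))))) (Tr.nd (nat_lit 42359) (Tr.nd (nat_lit 42101) (Tr.nd (nat_lit 42017) (Tr.nd (nat_lit 41981) (Tr.nd (nat_lit 41969) (Tr.lf (nat_lit 41959)) (Tr.lf (nat_lit 41969))) (Tr.nd (nat_lit 41983) (Tr.lf (nat_lit 41981)) (Tr.nd (nat_lit 41999) (Tr.lf (nat_lit 41983)) (Tr.lf (nat_lit 41999))))) (Tr.nd (nat_lit 42071) (Tr.nd (nat_lit 42019) (Tr.lf (nat_lit 42017)) (Tr.lf (nat_lit 42019))) (Tr.nd (nat_lit 42073) (Tr.lf (nat_lit 42071)) (Tr.nd (nat_lit 42083) (Tr.lf (nat_lit 42073)) (Tr.lf (nat_lit 42083)))))) (Tr.nd (nat_lit 42227) (Tr.nd (nat_lit 42139) (Tr.nd (nat_lit 42131) (Tr.lf (nat_lit 42101)) (Tr.lf (nat_lit 42131))) (Tr.nd (nat_lit 42157) (Tr.lf (nat_lit 42139)) (Tr.nd (nat_lit 42223) (Tr.lf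 (nat_lit 42157)) (Tr.lf (nat_lit 42223))))) (Tr.nd (nat_lit 42331) (Tr.nd (nat_lit 42307) (Tr.lf (nat_lit 42227)) (Tr.nd (nat_lit 42323) (Tr.lf (nat_lit 42307)) (Tr.lf (nat_lit 42323)))) (Tr.nd (nat_lit 42337) (Tr.lf (nat_lit 42331)) (Tr.nd (nat_lit 42349) (Tr.lf (nat_lit 42337)) (Tr.lf (nat_lit 42349))))))) (Tr.nd (nat_lit 42457) (Tr.nd (nat_lit 42403) (Tr.nd (nat_lit 42379) (Tr.nd (nat_lit 42373) (Tr.lf (nat_lit 42359)) (Tr.lf (nat_lit 42373))) (Tr.nd (nat_lit 42391) (Tr.lf (nat_lit 42379)) (Tr.nd (nat_lit 42397) (Tr.lf (nat_lit 42391)) (Tr.lf (nat_lit 42397))))) (Tr.nd (nat_lit 42433) (Tr.nd (nat_lit 42407) (Tr.lf (nat_lit 42403)) (Tr.nd (nat_lit 42409) (Tr.lf (nat_lit 42407)) (Tr.lf (nat_lit 42409)))) (Tr.nd (nat_lit 42437) (Tr.lf (nat_lit 42433)) (Tr.nd (nat_lit 42443) (Tr.lf (nat_lit 42437)) (Tr.lf (nat_lit 42443)))))) (Tr.nd (nat_lit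 42499) (Tr.nd (nat_lit 42463) (Tr.nd (nat_lit 42461) (Tr.lf (nat_lit 42457)) (Tr.lf (nat_lit 42461))) (Tr.nd (nat_lit 42487) (Tr.lf (nat_lit 42463)) (Tr.nd (nat_lit 42491) (Tr.lf (nat_lit 42487)) (Tr.lf (nat_lit 42491))))) (Tr.nd (nat_lit 42557) (Tr.nd (nat_lit 42509) (Tr.lf (nat_lit 42499)) (Tr.nd (nat_lit 42533) (Tr.lf (nat_lit 42509)) (Tr.lf (nat_lit 42533)))) (Tr.nd (nat_lit 42571) (Tr.lf (nat_lit 42557)) (Tr.nd (nat_lit 42589) (Tr.lf (nat_lit 42571)) (Tr.lf (nat_lit 42589)))))))))))) (Tr.nd (nat_lit 47491) (Tr.nd (nat_lit 44939) (Tr.nd (nat_lit 43891) (Tr.nd (nat_lit 43331) (Tr.nd (nat_lit 42929) (Tr.nd (nat_lit 42703) (Tr.nd (nat_lit 42677) (Tr.nd (nat_lit 42643) (Tr.nd (nat_lit 42641) (Tr.lf (nat_lit 42611)) (Tr.lf (nat_lit 42641))) (Tr.nd (nat_lit 42649) (Tr.lf (nat_lit 42643)) (Tr.nd (nat_lit 42667) (Tr.lf (nat_lit 42649)) (Tr.lf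 (nat_lit 42667))))) (Tr.nd (nat_lit 42689) (Tr.nd (nat_lit 42683) (Tr.lf (nat_lit 42677)) (Tr.lf (nat_lit 42683))) (Tr.nd (nat_lit 42697) (Tr.lf (nat_lit 42689)) (Tr.nd (nat_lit 42701) (Tr.lf (nat_lit 42697)) (Tr.lf (nat_lit 42701)))))) (Tr.nd (nat_lit 42821) (Tr.nd (nat_lit 42743) (Tr.nd (nat_lit 42737) (Tr.lf (nat_lit 42703)) (Tr.lf (nat_lit 42737))) (Tr.nd (nat_lit 42767) (Tr.lf (nat_lit 42743)) (Tr.nd (nat_lit 42797) (Tr.lf (nat_lit 42767)) (Tr.lf (nat_lit 42797))))) (Tr.nd (nat_lit 42853) (Tr.nd (nat_lit 42829) (Tr.lf (nat_lit 42821)) (Tr.nd (nat_lit 42841) (Tr.lf (nat_lit 42829)) (Tr.lf (nat_lit 42841)))) (Tr.nd (nat_lit 42859) (Tr.lf (nat_lit 42853)) (Tr.nd (nat_lit 42923) (Tr.lf (nat_lit 42859)) (Tr.lf (nat_lit 42923))))))) (Tr.nd (nat_lit 43051) (Tr.nd (nat_lit 42979) (Tr.nd (nat_lit 42953) (Tr.nd (nat_lit 42937) (Tr.lf (nat_lit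 42929)) (Tr.lf (nat_lit 42937))) (Tr.nd (nat_lit 42961) (Tr.lf (nat_lit 42953)) (Tr.nd (nat_lit 42967) (Tr.lf (nat_lit 42961)) (Tr.lf (nat_lit 42967))))) (Tr.nd (nat_lit 43019) (Tr.nd (nat_lit 43013) (Tr.lf (nat_lit 42979)) (Tr.lf (nat_lit 43013))) (Tr.nd (nat_lit 43037) (Tr.lf (nat_lit 43019)) (Tr.nd (nat_lit 43049) (Tr.lf (nat_lit 43037)) (Tr.lf (nat_lit 43049)))))) (Tr.nd (nat_lit 43207) (Tr.nd (nat_lit 43177) (Tr.nd (nat_lit 43063) (Tr.lf (nat_lit 43051)) (Tr.lf (nat_lit 43063))) (Tr.nd (nat_lit 43189) (Tr.lf (nat_lit 43177)) (Tr.nd (nat_lit 43201) (Tr.lf (nat_lit 43189)) (Tr.lf (nat_lit 43201))))) (Tr.nd (nat_lit 43313) (Tr.nd (nat_lit 43223) (Tr.lf (nat_lit 43207)) (Tr.nd (nat_lit 43237) (Tr.lf (nat_lit 43223)) (Tr.lf (nat_lit 43237)))) (Tr.nd (nat_lit 43319) (Tr.lf (nat_lit 43313)) (Tr.nd (nat_lit 43321) (Tr.lf (nat_lit 43319))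 (Tr.lf (nat_lit 43321)))))))) (Tr.nd (nat_lit 43627) (Tr.nd (nat_lit 43517) (Tr.nd (nat_lit 43451) (Tr.nd (nat_lit 43397) (Tr.nd (nat_lit 43391) (Tr.lf (nat_lit 43331)) (Tr.lf (nat_lit 43391))) (Tr.nd (nat_lit 43427) (Tr.lf (nat_lit 43397)) (Tr.nd (nat_lit 43441) (Tr.lf (nat_lit 43427)) (Tr.lf (nat_lit 43441))))) (Tr.nd (nat_lit 43481) (Tr.nd (nat_lit 43457) (Tr.lf (nat_lit 43451)) (Tr.lf (nat_lit 43457))) (Tr.nd (nat_lit 43487) (Tr.lf (nat_lit 43481)) (Tr.nd (nat_lit 43499) (Tr.lf (nat_lit 43487)) (Tr.lf (nat_lit 43499)))))) (Tr.nd (nat_lit 43579) (Tr.nd (nat_lit 43543) (Tr.nd (nat_lit 43541) (Tr.lf (nat_lit 43517)) (Tr.lf (nat_lit 43541))) (Tr.nd (nat_lit 43573) (Tr.lf (nat_lit 43543)) (Tr.nd (nat_lit 43577) (Tr.lf (nat_lit 43573)) (Tr.lf (nat_lit 43577))))) (Tr.nd (nat_lit 43607) (Tr.nd (nat_lit 43591) (Tr.lf (nat_lit 43579)) (Tr.nd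 (nat_lit 43597) (Tr.lf (nat_lit 43591)) (Tr.lf (nat_lit 43597)))) (Tr.nd (nat_lit 43609) (Tr.lf (nat_lit 43607)) (Tr.nd (nat_lit 43613) (Tr.lf (nat_lit 43609)) (Tr.lf (nat_lit 43613))))))) (Tr.nd (nat_lit 43759) (Tr.nd (nat_lit 43669) (Tr.nd (nat_lit 43649) (Tr.nd (nat_lit 43633) (Tr.lf (nat_lit 43627)) (Tr.lf (nat_lit 43633))) (Tr.nd (nat_lit 43651) (Tr.lf (nat_lit 43649)) (Tr.nd (nat_lit 43661) (Tr.lf (nat_lit 43651)) (Tr.lf (nat_lit 43661))))) (Tr.nd (nat_lit 43717) (Tr.nd (nat_lit 43691) (Tr.lf (nat_lit 43669)) (Tr.nd (nat_lit 43711) (Tr.lf (nat_lit 43691)) (Tr.lf (nat_lit 43711)))) (Tr.nd (nat_lit 43721) (Tr.lf (nat_lit 43717)) (Tr.nd (nat_lit 43753) (Tr.lf (nat_lit 43721)) (Tr.lf (nat_lit 43753)))))) (Tr.nd (nat_lit 43789) (Tr.nd (nat_lit 43781) (Tr.nd (nat_lit 43777) (Tr.lf (nat_lit 43759)) (Tr.lf (nat_lit 43777))) (Tr.nd (nat_lit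 43783) (Tr.lf (nat_lit 43781)) (Tr.nd (nat_lit 43787) (Tr.lf (nat_lit 43783)) (Tr.lf (nat_lit 43787))))) (Tr.nd (nat_lit 43853) (Tr.nd (nat_lit 43793) (Tr.lf (nat_lit 43789)) (Tr.nd (nat_lit 43801) (Tr.lf (nat_lit 43793)) (Tr.lf (nat_lit 43801)))) (Tr.nd (nat_lit 43867) (Tr.lf (nat_lit 43853)) (Tr.nd (nat_lit 43889) (Tr.lf (nat_lit 43867)) (Tr.lf (nat_lit 43889))))))))) (Tr.nd (nat_lit 44389) (Tr.nd (nat_lit 44101) (Tr.nd (nat_lit 43991) (Tr.nd (nat_lit 43961) (Tr.nd (nat_lit 43933) (Tr.nd (nat_lit 43913) (Tr.lf (nat_lit 43891)) (Tr.lf (nat_lit 43913))) (Tr.nd (nat_lit 43943) (Tr.lf (nat_lit 43933)) (Tr.nd (nat_lit 43951) (Tr.lf (nat_lit 43943)) (Tr.lf (nat_lit 43951))))) (Tr.nd (nat_lit 43969) (Tr.nd (nat_lit 43963) (Tr.lf (nat_lit 43961)) (Tr.lf (nat_lit 43963))) (Tr.nd (nat_lit 43973) (Tr.lf (nat_lit 43969)) (Tr.nd (nat_lit 43987)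 (Tr.lf (nat_lit 43973)) (Tr.lf (nat_lit 43987)))))) (Tr.nd (nat_lit 44029) (Tr.nd (nat_lit 44017) (Tr.nd (nat_lit 43997) (Tr.lf (nat_lit 43991)) (Tr.lf (nat_lit 43997))) (Tr.nd (nat_lit 44021) (Tr.lf (nat_lit 44017)) (Tr.nd (nat_lit 44027) (Tr.lf (nat_lit 44021)) (Tr.lf (nat_lit 44027))))) (Tr.nd (nat_lit 44071) (Tr.nd (nat_lit 44041) (Tr.lf (nat_lit 44029)) (Tr.nd (nat_lit 44053) (Tr.lf (nat_lit 44041)) (Tr.lf (nat_lit 44053)))) (Tr.nd (nat_lit 44087) (Tr.lf (nat_lit 44071)) (Tr.nd (nat_lit 44089) (Tr.lf (nat_lit 44087)) (Tr.lf (nat_lit 44089))))))) (Tr.nd (nat_lit 44203) (Tr.nd (nat_lit 44131) (Tr.nd (nat_lit 44119) (Tr.nd (nat_lit 44111) (Tr.lf (nat_lit 44101)) (Tr.lf (nat_lit 44111))) (Tr.nd (nat_lit 44123) (Tr.lf (nat_lit 44119)) (Tr.nd (nat_lit 44129) (Tr.lf (nat_lit 44123)) (Tr.lf (nat_lit 44129))))) (Tr.nd (nat_lit 44179) (Tr.nd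 (nat_lit 44159) (Tr.lf (nat_lit 44131)) (Tr.lf (nat_lit 44159))) (Tr.nd (nat_lit 44189) (Tr.lf (nat_lit 44179)) (Tr.nd (nat_lit 44201) (Tr.lf (nat_lit 44189)) (Tr.lf (nat_lit 44201)))))) (Tr.nd (nat_lit 44263) (Tr.nd (nat_lit 44221) (Tr.nd (nat_lit 44207) (Tr.lf (nat_lit 44203)) (Tr.lf (nat_lit 44207))) (Tr.nd (nat_lit 44249) (Tr.lf (nat_lit 44221)) (Tr.nd (nat_lit 44257) (Tr.lf (nat_lit 44249)) (Tr.lf (nat_lit 44257))))) (Tr.nd (nat_lit 44273) (Tr.nd (nat_lit 44267) (Tr.lf (nat_lit 44263)) (Tr.nd (nat_lit 44269) (Tr.lf (nat_lit 44267)) (Tr.lf (nat_lit 44269)))) (Tr.nd (nat_lit 44293) (Tr.lf (nat_lit 44273)) (Tr.nd (nat_lit 44351) (Tr.lf (nat_lit 44293)) (Tr.lf (nat_lit 44351)))))))) (Tr.nd (nat_lit 44701) (Tr.nd (nat_lit 44617) (Tr.nd (nat_lit 44491) (Tr.nd (nat_lit 44449) (Tr.nd (nat_lit 44417) (Tr.lf (nat_lit 44389)) (Tr.lf (nat_lit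 44417))) (Tr.nd (nat_lit 44453) (Tr.lf (nat_lit 44449)) (Tr.nd (nat_lit 44483) (Tr.lf (nat_lit 44453)) (Tr.lf (nat_lit 44483))))) (Tr.nd (nat_lit 44507) (Tr.nd (nat_lit 44501) (Tr.lf (nat_lit 44491)) (Tr.lf (nat_lit 44501))) (Tr.nd (nat_lit 44537) (Tr.lf (nat_lit 44507)) (Tr.nd (nat_lit 44543) (Tr.lf (nat_lit 44537)) (Tr.lf (nat_lit 44543)))))) (Tr.nd (nat_lit 44647) (Tr.nd (nat_lit 44623) (Tr.nd (nat_lit 44621) (Tr.lf (nat_lit 44617)) (Tr.lf (nat_lit 44621))) (Tr.nd (nat_lit 44633) (Tr.lf (nat_lit 44623)) (Tr.nd (nat_lit 44641) (Tr.lf (nat_lit 44633)) (Tr.lf (nat_lit 44641))))) (Tr.nd (nat_lit 44683) (Tr.nd (nat_lit 44651) (Tr.lf (nat_lit 44647)) (Tr.nd (nat_lit 44657) (Tr.lf (nat_lit 44651)) (Tr.lf (nat_lit 44657)))) (Tr.nd (nat_lit 44687) (Tr.lf (nat_lit 44683)) (Tr.nd (nat_lit 44699) (Tr.lf (nat_lit 44687)) (Tr.lf (nat_lit 44699)))))))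 (Tr.nd (nat_lit 44819) (Tr.nd (nat_lit 44771) (Tr.nd (nat_lit 44729) (Tr.nd (nat_lit 44711) (Tr.lf (nat_lit 44701)) (Tr.lf (nat_lit 44711))) (Tr.nd (nat_lit 44741) (Tr.lf (nat_lit 44729)) (Tr.nd (nat_lit 44753) (Tr.lf (nat_lit 44741)) (Tr.lf (nat_lit 44753))))) (Tr.nd (nat_lit 44789) (Tr.nd (nat_lit 44773) (Tr.lf (nat_lit 44771)) (Tr.nd (nat_lit 44777) (Tr.lf (nat_lit 44773)) (Tr.lf (nat_lit 44777)))) (Tr.nd (nat_lit 44797) (Tr.lf (nat_lit 44789)) (Tr.nd (nat_lit 44809) (Tr.lf (nat_lit 44797)) (Tr.lf (nat_lit 44809)))))) (Tr.nd (nat_lit 44879) (Tr.nd (nat_lit 44843) (Tr.nd (nat_lit 44839) (Tr.lf (nat_lit 44819)) (Tr.lf (nat_lit 44839))) (Tr.nd (nat_lit 44851) (Tr.lf (nat_lit 44843)) (Tr.nd (nat_lit 44867) (Tr.lf (nat_lit 44851)) (Tr.lf (nat_lit 44867))))) (Tr.nd (nat_lit 44909) (Tr.nd (nat_lit 44887) (Tr.lf (nat_lit 44879)) (Tr.nd (nat_lit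 44893) (Tr.lf (nat_lit 44887)) (Tr.lf (nat_lit 44893)))) (Tr.nd (nat_lit 44917) (Tr.lf (nat_lit 44909)) (Tr.nd (nat_lit 44927) (Tr.lf (nat_lit 44917)) (Tr.lf (nat_lit 44927)))))))))) (Tr.nd (nat_lit 46171) (Tr.nd (nat_lit 45413) (Tr.nd (nat_lit 45181) (Tr.nd (nat_lit 45061) (Tr.nd (nat_lit 44983) (Tr.nd (nat_lit 44959) (Tr.nd (nat_lit 44953) (Tr.lf (nat_lit 44939)) (Tr.lf (nat_lit 44953))) (Tr.nd (nat_lit 44963) (Tr.lf (nat_lit 44959)) (Tr.nd (nat_lit 44971) (Tr.lf (nat_lit 44963)) (Tr.lf (nat_lit 44971))))) (Tr.nd (nat_lit 45007) (Tr.nd (nat_lit 44987) (Tr.lf (nat_lit 44983)) (Tr.lf (nat_lit 44987))) (Tr.nd (nat_lit 45013) (Tr.lf (nat_lit 45007)) (Tr.nd (nat_lit 45053) (Tr.lf (nat_lit 45013)) (Tr.lf (nat_lit 45053)))))) (Tr.nd (nat_lit 45127) (Tr.nd (nat_lit 45083) (Tr.nd (nat_lit 45077) (Tr.lf (nat_lit 45061)) (Tr.lf (nat_lit 45077)))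 (Tr.nd (nat_lit 45119) (Tr.lf (nat_lit 45083)) (Tr.nd (nat_lit 45121) (Tr.lf (nat_lit 45119)) (Tr.lf (nat_lit 45121))))) (Tr.nd (nat_lit 45139) (Tr.nd (nat_lit 45131) (Tr.lf (nat_lit 45127)) (Tr.nd (nat_lit 45137) (Tr.lf (nat_lit 45131)) (Tr.lf (nat_lit 45137)))) (Tr.nd (nat_lit 45161) (Tr.lf (nat_lit 45139)) (Tr.nd (nat_lit 45179) (Tr.lf (nat_lit 45161)) (Tr.lf (nat_lit 45179))))))) (Tr.nd (nat_lit 45307) (Tr.nd (nat_lit 45259) (Tr.nd (nat_lit 45197) (Tr.nd (nat_lit 45191) (Tr.lf (nat_lit 45181)) (Tr.lf (nat_lit 45191))) (Tr.nd (nat_lit 45233) (Tr.lf (nat_lit 45197)) (Tr.nd (nat_lit 45247) (Tr.lf (nat_lit 45233)) (Tr.lf (nat_lit 45247))))) (Tr.nd (nat_lit 45281) (Tr.nd (nat_lit 45263) (Tr.lf (nat_lit 45259)) (Tr.lf (nat_lit 45263))) (Tr.nd (nat_lit 45289) (Tr.lf (nat_lit 45281)) (Tr.nd (nat_lit 45293) (Tr.lf (nat_lit 45289)) (Tr.lf (nat_lit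 45293)))))) (Tr.nd (nat_lit 45341) (Tr.nd (nat_lit 45319) (Tr.nd (nat_lit 45317) (Tr.lf (nat_lit 45307)) (Tr.lf (nat_lit 45317))) (Tr.nd (nat_lit 45329) (Tr.lf (nat_lit 45319)) (Tr.nd (nat_lit 45337) (Tr.lf (nat_lit 45329)) (Tr.lf (nat_lit 45337))))) (Tr.nd (nat_lit 45377) (Tr.nd (nat_lit 45343) (Tr.lf (nat_lit 45341)) (Tr.nd (nat_lit 45361) (Tr.lf (nat_lit 45343)) (Tr.lf (nat_lit 45361)))) (Tr.nd (nat_lit 45389) (Tr.lf (nat_lit 45377)) (Tr.nd (nat_lit 45403) (Tr.lf (nat_lit 45389)) (Tr.lf (nat_lit 45403)))))))) (Tr.nd (nat_lit 45677) (Tr.nd (nat_lit 45541) (Tr.nd (nat_lit 45491) (Tr.nd (nat_lit 45433) (Tr.nd (nat_lit 45427) (Tr.lf (nat_lit 45413)) (Tr.lf (nat_lit 45427))) (Tr.nd (nat_lit 45439) (Tr.lf (nat_lit 45433)) (Tr.nd (nat_lit 45481) (Tr.lf (nat_lit 45439)) (Tr.lf (nat_lit 45481))))) (Tr.nd (nat_lit 45503) (Tr.nd (nat_lit 45497)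 (Tr.lf (nat_lit 45491)) (Tr.lf (nat_lit 45497))) (Tr.nd (nat_lit 45523) (Tr.lf (nat_lit 45503)) (Tr.nd (nat_lit 45533) (Tr.lf (nat_lit 45523)) (Tr.lf (nat_lit 45533)))))) (Tr.nd (nat_lit 45589) (Tr.nd (nat_lit 45557) (Tr.nd (nat_lit 45553) (Tr.lf (nat_lit 45541)) (Tr.lf (nat_lit 45553))) (Tr.nd (nat_lit 45569) (Tr.lf (nat_lit 45557)) (Tr.nd (nat_lit 45587) (Tr.lf (nat_lit 45569)) (Tr.lf (nat_lit 45587))))) (Tr.nd (nat_lit 45659) (Tr.nd (nat_lit 45631) (Tr.lf (nat_lit 45589)) (Tr.nd (nat_lit 45641) (Tr.lf (nat_lit 45631)) (Tr.lf (nat_lit 45641)))) (Tr.nd (nat_lit 45667) (Tr.lf (nat_lit 45659)) (Tr.nd (nat_lit 45673) (Tr.lf (nat_lit 45667)) (Tr.lf (nat_lit 45673))))))) (Tr.nd (nat_lit 45869) (Tr.nd (nat_lit 45767) (Tr.nd (nat_lit 45707) (Tr.nd (nat_lit 45697) (Tr.lf (nat_lit 45677)) (Tr.lf (nat_lit 45697))) (Tr.nd (nat_lit 45757) (Tr.lf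 (nat_lit 45707)) (Tr.nd (nat_lit 45763) (Tr.lf (nat_lit 45757)) (Tr.lf (nat_lit 45763))))) (Tr.nd (nat_lit 45833) (Tr.nd (nat_lit 45779) (Tr.lf (nat_lit 45767)) (Tr.nd (nat_lit 45823) (Tr.lf (nat_lit 45779)) (Tr.lf (nat_lit 45823)))) (Tr.nd (nat_lit 45841) (Tr.lf (nat_lit 45833)) (Tr.nd (nat_lit 45863) (Tr.lf (nat_lit 45841)) (Tr.lf (nat_lit 45863)))))) (Tr.nd (nat_lit 45959) (Tr.nd (nat_lit 45943) (Tr.nd (nat_lit 45887) (Tr.lf (nat_lit 45869)) (Tr.lf (nat_lit 45887))) (Tr.nd (nat_lit 45949) (Tr.lf (nat_lit 45943)) (Tr.nd (nat_lit 45953) (Tr.lf (nat_lit 45949)) (Tr.lf (nat_lit 45953))))) (Tr.nd (nat_lit 46049) (Tr.nd (nat_lit 45971) (Tr.lf (nat_lit 45959)) (Tr.nd (nat_lit 46027) (Tr.lf (nat_lit 45971)) (Tr.lf (nat_lit 46027)))) (Tr.nd (nat_lit 46051) (Tr.lf (nat_lit 46049)) (Tr.nd (nat_lit 46153) (Tr.lf (nat_lit 46051)) (Tr.lf (nat_lit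 46153))))))))) (Tr.nd (nat_lit 46817) (Tr.nd (nat_lit 46477) (Tr.nd (nat_lit 46307) (Tr.nd (nat_lit 46261) (Tr.nd (nat_lit 46219) (Tr.nd (nat_lit 46181) (Tr.lf (nat_lit 46171)) (Tr.lf (nat_lit 46181))) (Tr.nd (nat_lit 46229) (Tr.lf (nat_lit 46219)) (Tr.nd (nat_lit 46237) (Tr.lf (nat_lit 46229)) (Tr.lf (nat_lit 46237))))) (Tr.nd (nat_lit 46273) (Tr.nd (nat_lit 46271) (Tr.lf (nat_lit 46261)) (Tr.lf (nat_lit 46271))) (Tr.nd (nat_lit 46279) (Tr.lf (nat_lit 46273)) (Tr.nd (nat_lit 46301) (Tr.lf (nat_lit 46279)) (Tr.lf (nat_lit 46301)))))) (Tr.nd (nat_lit 46351) (Tr.nd (nat_lit 46327) (Tr.nd (nat_lit 46309) (Tr.lf (nat_lit 46307)) (Tr.lf (nat_lit 46309))) (Tr.nd (nat_lit 46337) (Tr.lf (nat_lit 46327)) (Tr.nd (nat_lit 46349) (Tr.lf (nat_lit 46337)) (Tr.lf (nat_lit 46349))))) (Tr.nd (nat_lit 46441) (Tr.nd (nat_lit 46411) (Tr.lf (nat_lit 46351))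 (Tr.nd (nat_lit 46439) (Tr.lf (nat_lit 46411)) (Tr.lf (nat_lit 46439)))) (Tr.nd (nat_lit 46451) (Tr.lf (nat_lit 46441)) (Tr.nd (nat_lit 46457) (Tr.lf (nat_lit 46451)) (Tr.lf (nat_lit 46457))))))) (Tr.nd (nat_lit 46591) (Tr.nd (nat_lit 46523) (Tr.nd (nat_lit 46499) (Tr.nd (nat_lit 46489) (Tr.lf (nat_lit 46477)) (Tr.lf (nat_lit 46489))) (Tr.nd (nat_lit 46507) (Tr.lf (nat_lit 46499)) (Tr.nd (nat_lit 46511) (Tr.lf (nat_lit 46507)) (Tr.lf (nat_lit 46511))))) (Tr.nd (nat_lit 46567) (Tr.nd (nat_lit 46549) (Tr.lf (nat_lit 46523)) (Tr.nd (nat_lit 46559) (Tr.lf (nat_lit 46549)) (Tr.lf (nat_lit 46559)))) (Tr.nd (nat_lit 46573) (Tr.lf (nat_lit 46567)) (Tr.nd (nat_lit 46589) (Tr.lf (nat_lit 46573)) (Tr.lf (nat_lit 46589)))))) (Tr.nd (nat_lit 46679) (Tr.nd (nat_lit 46639) (Tr.nd (nat_lit 46619) (Tr.lf (nat_lit 46591)) (Tr.lf (nat_lit 46619))) (Tr.nd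 (nat_lit 46649) (Tr.lf (nat_lit 46639)) (Tr.nd (nat_lit 46663) (Tr.lf (nat_lit 46649)) (Tr.lf (nat_lit 46663))))) (Tr.nd (nat_lit 46747) (Tr.nd (nat_lit 46687) (Tr.lf (nat_lit 46679)) (Tr.nd (nat_lit 46727) (Tr.lf (nat_lit 46687)) (Tr.lf (nat_lit 46727)))) (Tr.nd (nat_lit 46807) (Tr.lf (nat_lit 46747)) (Tr.nd (nat_lit 46811) (Tr.lf (nat_lit 46807)) (Tr.lf (nat_lit 46811)))))))) (Tr.nd (nat_lit 47237) (Tr.nd (nat_lit 47093) (Tr.nd (nat_lit 46901) (Tr.nd (nat_lit 46829) (Tr.nd (nat_lit 46819) (Tr.lf (nat_lit 46817)) (Tr.lf (nat_lit 46819))) (Tr.nd (nat_lit 46861) (Tr.lf (nat_lit 46829)) (Tr.nd (nat_lit 46889) (Tr.lf (nat_lit 46861)) (Tr.lf (nat_lit 46889))))) (Tr.nd (nat_lit 46933) (Tr.nd (nat_lit 46919) (Tr.lf (nat_lit 46901)) (Tr.lf (nat_lit 46919))) (Tr.nd (nat_lit 46957) (Tr.lf (nat_lit 46933)) (Tr.nd (nat_lit 46993) (Tr.lf (nat_lit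 46957)) (Tr.lf (nat_lit 46993)))))) (Tr.nd (nat_lit 47137) (Tr.nd (nat_lit 47119) (Tr.nd (nat_lit 47111) (Tr.lf (nat_lit 47093)) (Tr.lf (nat_lit 47111))) (Tr.nd (nat_lit 47123) (Tr.lf (nat_lit 47119)) (Tr.nd (nat_lit 47129) (Tr.lf (nat_lit 47123)) (Tr.lf (nat_lit 47129))))) (Tr.nd (nat_lit 47189) (Tr.nd (nat_lit 47149) (Tr.lf (nat_lit 47137)) (Tr.nd (nat_lit 47161) (Tr.lf (nat_lit 47149)) (Tr.lf (nat_lit 47161)))) (Tr.nd (nat_lit 47207) (Tr.lf (nat_lit 47189)) (Tr.nd (nat_lit 47221) (Tr.lf (nat_lit 47207)) (Tr.lf (nat_lit 47221))))))) (Tr.nd (nat_lit 47353) (Tr.nd (nat_lit 47297) (Tr.nd (nat_lit 47269) (Tr.nd (nat_lit 47251) (Tr.lf (nat_lit 47237)) (Tr.lf (nat_lit 47251))) (Tr.nd (nat_lit 47279) (Tr.lf (nat_lit 47269)) (Tr.nd (nat_lit 47287) (Tr.lf (nat_lit 47279)) (Tr.lf (nat_lit 47287))))) (Tr.nd (nat_lit 47317) (Tr.nd (nat_lit 47303)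 (Tr.lf (nat_lit 47297)) (Tr.nd (nat_lit 47309) (Tr.lf (nat_lit 47303)) (Tr.lf (nat_lit 47309)))) (Tr.nd (nat_lit 47339) (Tr.lf (nat_lit 47317)) (Tr.nd (nat_lit 47351) (Tr.lf (nat_lit 47339)) (Tr.lf (nat_lit 47351)))))) (Tr.nd (nat_lit 47407) (Tr.nd (nat_lit 47381) (Tr.nd (nat_lit 47363) (Tr.lf (nat_lit 47353)) (Tr.lf (nat_lit 47363))) (Tr.nd (nat_lit 47387) (Tr.lf (nat_lit 47381)) (Tr.nd (nat_lit 47389) (Tr.lf (nat_lit 47387)) (Tr.lf (nat_lit 47389))))) (Tr.nd (nat_lit 47431) (Tr.nd (nat_lit 47417) (Tr.lf (nat_lit 47407)) (Tr.nd (nat_lit 47419) (Tr.lf (nat_lit 47417)) (Tr.lf (nat_lit 47419)))) (Tr.nd (nat_lit 47441) (Tr.lf (nat_lit 47431)) (Tr.nd (nat_lit 47459) (Tr.lf (nat_lit 47441)) (Tr.lf (nat_lit 47459))))))))))) (Tr.nd (nat_lit 49433) (Tr.nd (nat_lit 48539) (Tr.nd (nat_lit 47911) (Tr.nd (nat_lit 47681) (Tr.nd (nat_lit 47569) (Tr.nd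 (nat_lit 47521) (Tr.nd (nat_lit 47501) (Tr.nd (nat_lit 47497) (Tr.lf (nat_lit 47491)) (Tr.lf (nat_lit 47497))) (Tr.nd (nat_lit 47507) (Tr.lf (nat_lit 47501)) (Tr.nd (nat_lit 47513) (Tr.lf (nat_lit 47507)) (Tr.lf (nat_lit 47513))))) (Tr.nd (nat_lit 47533) (Tr.nd (nat_lit 47527) (Tr.lf (nat_lit 47521)) (Tr.lf (nat_lit 47527))) (Tr.nd (nat_lit 47543) (Tr.lf (nat_lit 47533)) (Tr.nd (nat_lit 47563) (Tr.lf (nat_lit 47543)) (Tr.lf (nat_lit 47563)))))) (Tr.nd (nat_lit 47623) (Tr.nd (nat_lit 47591) (Tr.nd (nat_lit 47581) (Tr.lf (nat_lit 47569)) (Tr.lf (nat_lit 47581))) (Tr.nd (nat_lit 47599) (Tr.lf (nat_lit 47591)) (Tr.nd (nat_lit 47609) (Tr.lf (nat_lit 47599)) (Tr.lf (nat_lit 47609))))) (Tr.nd (nat_lit 47653) (Tr.nd (nat_lit 47629) (Tr.lf (nat_lit 47623)) (Tr.nd (nat_lit 47639) (Tr.lf (nat_lit 47629)) (Tr.lf (nat_lit 47639)))) (Tr.nd (nat_lit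 47657) (Tr.lf (nat_lit 47653)) (Tr.nd (nat_lit 47659) (Tr.lf (nat_lit 47657)) (Tr.lf (nat_lit 47659))))))) (Tr.nd (nat_lit 47779) (Tr.nd (nat_lit 47717) (Tr.nd (nat_lit 47701) (Tr.nd (nat_lit 47699) (Tr.lf (nat_lit 47681)) (Tr.lf (nat_lit 47699))) (Tr.nd (nat_lit 47711) (Tr.lf (nat_lit 47701)) (Tr.nd (nat_lit 47713) (Tr.lf (nat_lit 47711)) (Tr.lf (nat_lit 47713))))) (Tr.nd (nat_lit 47741) (Tr.nd (nat_lit 47737) (Tr.lf (nat_lit 47717)) (Tr.lf (nat_lit 47737))) (Tr.nd (nat_lit 47743) (Tr.lf (nat_lit 47741)) (Tr.nd (nat_lit 47777) (Tr.lf (nat_lit 47743)) (Tr.lf (nat_lit 47777)))))) (Tr.nd (nat_lit 47819) (Tr.nd (nat_lit 47797) (Tr.nd (nat_lit 47791) (Tr.lf (nat_lit 47779)) (Tr.lf (nat_lit 47791))) (Tr.nd (nat_lit 47807) (Tr.lf (nat_lit 47797)) (Tr.nd (nat_lit 47809) (Tr.lf (nat_lit 47807)) (Tr.lf (nat_lit 47809))))) (Tr.nd (nat_lit 47857)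 (Tr.nd (nat_lit 47837) (Tr.lf (nat_lit 47819)) (Tr.nd (nat_lit 47843) (Tr.lf (nat_lit 47837)) (Tr.lf (nat_lit 47843)))) (Tr.nd (nat_lit 47869) (Tr.lf (nat_lit 47857)) (Tr.nd (nat_lit 47903) (Tr.lf (nat_lit 47869)) (Tr.lf (nat_lit 47903)))))))) (Tr.nd (nat_lit 48247) (Tr.nd (nat_lit 48017) (Tr.nd (nat_lit 47951) (Tr.nd (nat_lit 47933) (Tr.nd (nat_lit 47917) (Tr.lf (nat_lit 47911)) (Tr.lf (nat_lit 47917))) (Tr.nd (nat_lit 47939) (Tr.lf (nat_lit 47933)) (Tr.nd (nat_lit 47947) (Tr.lf (nat_lit 47939)) (Tr.lf (nat_lit 47947))))) (Tr.nd (nat_lit 47969) (Tr.nd (nat_lit 47963) (Tr.lf (nat_lit 47951)) (Tr.lf (nat_lit 47963))) (Tr.nd (nat_lit 47977) (Tr.lf (nat_lit 47969)) (Tr.nd (nat_lit 47981) (Tr.lf (nat_lit 47977)) (Tr.lf (nat_lit 47981)))))) (Tr.nd (nat_lit 48079) (Tr.nd (nat_lit 48029) (Tr.nd (nat_lit 48023) (Tr.lf (nat_lit 48017)) (Tr.lf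 (nat_lit 48023))) (Tr.nd (nat_lit 48049) (Tr.lf (nat_lit 48029)) (Tr.nd (nat_lit 48073) (Tr.lf (nat_lit 48049)) (Tr.lf (nat_lit 48073))))) (Tr.nd (nat_lit 48121) (Tr.nd (nat_lit 48091) (Tr.lf (nat_lit 48079)) (Tr.nd (nat_lit 48119) (Tr.lf (nat_lit 48091)) (Tr.lf (nat_lit 48119)))) (Tr.nd (nat_lit 48179) (Tr.lf (nat_lit 48121)) (Tr.nd (nat_lit 48187) (Tr.lf (nat_lit 48179)) (Tr.lf (nat_lit 48187))))))) (Tr.nd (nat_lit 48449) (Tr.nd (nat_lit 48311) (Tr.nd (nat_lit 48271) (Tr.nd (nat_lit 48259) (Tr.lf (nat_lit 48247)) (Tr.lf (nat_lit 48259))) (Tr.nd (nat_lit 48281) (Tr.lf (nat_lit 48271)) (Tr.nd (nat_lit 48299) (Tr.lf (nat_lit 48281)) (Tr.lf (nat_lit 48299))))) (Tr.nd (nat_lit 48409) (Tr.nd (nat_lit 48371) (Tr.lf (nat_lit 48311)) (Tr.nd (nat_lit 48383) (Tr.lf (nat_lit 48371)) (Tr.lf (nat_lit 48383)))) (Tr.nd (nat_lit 48413) (Tr.lf (nat_lit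 48409)) (Tr.nd (nat_lit 48437) (Tr.lf (nat_lit 48413)) (Tr.lf (nat_lit 48437)))))) (Tr.nd (nat_lit 48487) (Tr.nd (nat_lit 48473) (Tr.nd (nat_lit 48463) (Tr.lf (nat_lit 48449)) (Tr.lf (nat_lit 48463))) (Tr.nd (nat_lit 48479) (Tr.lf (nat_lit 48473)) (Tr.nd (nat_lit 48481) (Tr.lf (nat_lit 48479)) (Tr.lf (nat_lit 48481))))) (Tr.nd (nat_lit 48523) (Tr.nd (nat_lit 48491) (Tr.lf (nat_lit 48487)) (Tr.nd (nat_lit 48497) (Tr.lf (nat_lit 48491)) (Tr.lf (nat_lit 48497)))) (Tr.nd (nat_lit 48527) (Tr.lf (nat_lit 48523)) (Tr.nd (nat_lit 48533) (Tr.lf (nat_lit 48527)) (Tr.lf (nat_lit 48533))))))))) (Tr.nd (nat_lit 49009) (Tr.nd (nat_lit 48779) (Tr.nd (nat_lit 48649) (Tr.nd (nat_lit 48593) (Tr.nd (nat_lit 48563) (Tr.nd (nat_lit 48541) (Tr.lf (nat_lit 48539)) (Tr.lf (nat_lit 48541))) (Tr.nd (nat_lit 48571) (Tr.lf (nat_lit 48563)) (Tr.nd (nat_lit 48589)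 (Tr.lf (nat_lit 48571)) (Tr.lf (nat_lit 48589))))) (Tr.nd (nat_lit 48619) (Tr.nd (nat_lit 48611) (Tr.lf (nat_lit 48593)) (Tr.lf (nat_lit 48611))) (Tr.nd (nat_lit 48623) (Tr.lf (nat_lit 48619)) (Tr.nd (nat_lit 48647) (Tr.lf (nat_lit 48623)) (Tr.lf (nat_lit 48647)))))) (Tr.nd (nat_lit 48731) (Tr.nd (nat_lit 48673) (Tr.nd (nat_lit 48661) (Tr.lf (nat_lit 48649)) (Tr.lf (nat_lit 48661))) (Tr.nd (nat_lit 48677) (Tr.lf (nat_lit 48673)) (Tr.nd (nat_lit 48679) (Tr.lf (nat_lit 48677)) (Tr.lf (nat_lit 48679))))) (Tr.nd (nat_lit 48757) (Tr.nd (nat_lit 48733) (Tr.lf (nat_lit 48731)) (Tr.nd (nat_lit 48751) (Tr.lf (nat_lit 48733)) (Tr.lf (nat_lit 48751)))) (Tr.nd (nat_lit 48761) (Tr.lf (nat_lit 48757)) (Tr.nd (nat_lit 48767) (Tr.lf (nat_lit 48761)) (Tr.lf (nat_lit 48767))))))) (Tr.nd (nat_lit 48869) (Tr.nd (nat_lit 48817) (Tr.nd (nat_lit 48787) (Tr.nd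 (nat_lit 48781) (Tr.lf (nat_lit 48779)) (Tr.lf (nat_lit 48781))) (Tr.nd (nat_lit 48799) (Tr.lf (nat_lit 48787)) (Tr.nd (nat_lit 48809) (Tr.lf (nat_lit 48799)) (Tr.lf (nat_lit 48809))))) (Tr.nd (nat_lit 48847) (Tr.nd (nat_lit 48821) (Tr.lf (nat_lit 48817)) (Tr.nd (nat_lit 48823) (Tr.lf (nat_lit 48821)) (Tr.lf (nat_lit 48823)))) (Tr.nd (nat_lit 48857) (Tr.lf (nat_lit 48847)) (Tr.nd (nat_lit 48859) (Tr.lf (nat_lit 48857)) (Tr.lf (nat_lit 48859)))))) (Tr.nd (nat_lit 48947) (Tr.nd (nat_lit 48883) (Tr.nd (nat_lit 48871) (Tr.lf (nat_lit 48869)) (Tr.lf (nat_lit 48871))) (Tr.nd (nat_lit 48889) (Tr.lf (nat_lit 48883)) (Tr.nd (nat_lit 48907) (Tr.lf (nat_lit 48889)) (Tr.lf (nat_lit 48907))))) (Tr.nd (nat_lit 48989) (Tr.nd (nat_lit 48953) (Tr.lf (nat_lit 48947)) (Tr.nd (nat_lit 48973) (Tr.lf (nat_lit 48953)) (Tr.lf (nat_lit 48973)))) (Tr.nd (nat_lit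 48991) (Tr.lf (nat_lit 48989)) (Tr.nd (nat_lit 49003) (Tr.lf (nat_lit 48991)) (Tr.lf (nat_lit 49003)))))))) (Tr.nd (nat_lit 49201) (Tr.nd (nat_lit 49109) (Tr.nd (nat_lit 49043) (Tr.nd (nat_lit 49031) (Tr.nd (nat_lit 49019) (Tr.lf (nat_lit 49009)) (Tr.lf (nat_lit 49019))) (Tr.nd (nat_lit 49033) (Tr.lf (nat_lit 49031)) (Tr.nd (nat_lit 49037) (Tr.lf (nat_lit 49033)) (Tr.lf (nat_lit 49037))))) (Tr.nd (nat_lit 49069) (Tr.nd (nat_lit 49057) (Tr.lf (nat_lit 49043)) (Tr.lf (nat_lit 49057))) (Tr.nd (nat_lit 49081) (Tr.lf (nat_lit 49069)) (Tr.nd (nat_lit 49103) (Tr.lf (nat_lit 49081)) (Tr.lf (nat_lit 49103)))))) (Tr.nd (nat_lit 49157) (Tr.nd (nat_lit 49121) (Tr.nd (nat_lit 49117) (Tr.lf (nat_lit 49109)) (Tr.lf (nat_lit 49117))) (Tr.nd (nat_lit 49123) (Tr.lf (nat_lit 49121)) (Tr.nd (nat_lit 49139) (Tr.lf (nat_lit 49123)) (Tr.lf (nat_lit 49139)))))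 (Tr.nd (nat_lit 49177) (Tr.nd (nat_lit 49169) (Tr.lf (nat_lit 49157)) (Tr.nd (nat_lit 49171) (Tr.lf (nat_lit 49169)) (Tr.lf (nat_lit 49171)))) (Tr.nd (nat_lit 49193) (Tr.lf (nat_lit 49177)) (Tr.nd (nat_lit 49199) (Tr.lf (nat_lit 49193)) (Tr.lf (nat_lit 49199))))))) (Tr.nd (nat_lit 49333) (Tr.nd (nat_lit 49261) (Tr.nd (nat_lit 49211) (Tr.nd (nat_lit 49207) (Tr.lf (nat_lit 49201)) (Tr.lf (nat_lit 49207))) (Tr.nd (nat_lit 49223) (Tr.lf (nat_lit 49211)) (Tr.nd (nat_lit 49253) (Tr.lf (nat_lit 49223)) (Tr.lf (nat_lit 49253))))) (Tr.nd (nat_lit 49297) (Tr.nd (nat_lit 49277) (Tr.lf (nat_lit 49261)) (Tr.nd (nat_lit 49279) (Tr.lf (nat_lit 49277)) (Tr.lf (nat_lit 49279)))) (Tr.nd (nat_lit 49307) (Tr.lf (nat_lit 49297)) (Tr.nd (nat_lit 49331) (Tr.lf (nat_lit 49307)) (Tr.lf (nat_lit 49331)))))) (Tr.nd (nat_lit 49391) (Tr.nd (nat_lit 49363) (Tr.nd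 (nat_lit 49339) (Tr.lf (nat_lit 49333)) (Tr.lf (nat_lit 49339))) (Tr.nd (nat_lit 49367) (Tr.lf (nat_lit 49363)) (Tr.nd (nat_lit 49369) (Tr.lf (nat_lit 49367)) (Tr.lf (nat_lit 49369))))) (Tr.nd (nat_lit 49411) (Tr.nd (nat_lit 49393) (Tr.lf (nat_lit 49391)) (Tr.nd (nat_lit 49409) (Tr.lf (nat_lit 49393)) (Tr.lf (nat_lit 49409)))) (Tr.nd (nat_lit 49417) (Tr.lf (nat_lit 49411)) (Tr.nd (nat_lit 49429) (Tr.lf (nat_lit 49417)) (Tr.lf (nat_lit 49429)))))))))) (Tr.nd (nat_lit 50581) (Tr.nd (nat_lit 50077) (Tr.nd (nat_lit 49747) (Tr.nd (nat_lit 49547) (Tr.nd (nat_lit 49481) (Tr.nd (nat_lit 49459) (Tr.nd (nat_lit 49451) (Tr.lf (nat_lit 49433)) (Tr.lf (nat_lit 49451))) (Tr.nd (nat_lit 49463) (Tr.lf (nat_lit 49459)) (Tr.nd (nat_lit 49477) (Tr.lf (nat_lit 49463)) (Tr.lf (nat_lit 49477))))) (Tr.nd (nat_lit 49529) (Tr.nd (nat_lit 49523) (Tr.lf (nat_lit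 49481)) (Tr.lf (nat_lit 49523))) (Tr.nd (nat_lit 49531) (Tr.lf (nat_lit 49529)) (Tr.nd (nat_lit 49537) (Tr.lf (nat_lit 49531)) (Tr.lf (nat_lit 49537)))))) (Tr.nd (nat_lit 49633) (Tr.nd (nat_lit 49559) (Tr.nd (nat_lit 49549) (Tr.lf (nat_lit 49547)) (Tr.lf (nat_lit 49549))) (Tr.nd (nat_lit 49597) (Tr.lf (nat_lit 49559)) (Tr.nd (nat_lit 49603) (Tr.lf (nat_lit 49597)) (Tr.lf (nat_lit 49603))))) (Tr.nd (nat_lit 49681) (Tr.nd (nat_lit 49639) (Tr.lf (nat_lit 49633)) (Tr.nd (nat_lit 49663) (Tr.lf (nat_lit 49639)) (Tr.lf (nat_lit 49663)))) (Tr.nd (nat_lit 49697) (Tr.lf (nat_lit 49681)) (Tr.nd (nat_lit 49727) (Tr.lf (nat_lit 49697)) (Tr.lf (nat_lit 49727))))))) (Tr.nd (nat_lit 49853) (Tr.nd (nat_lit 49801) (Tr.nd (nat_lit 49783) (Tr.nd (nat_lit 49757) (Tr.lf (nat_lit 49747)) (Tr.lf (nat_lit 49757))) (Tr.nd (nat_lit 49787) (Tr.lf (nat_lit 49783))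 (Tr.nd (nat_lit 49789) (Tr.lf (nat_lit 49787)) (Tr.lf (nat_lit 49789))))) (Tr.nd (nat_lit 49811) (Tr.nd (nat_lit 49807) (Tr.lf (nat_lit 49801)) (Tr.lf (nat_lit 49807))) (Tr.nd (nat_lit 49823) (Tr.lf (nat_lit 49811)) (Tr.nd (nat_lit 49843) (Tr.lf (nat_lit 49823)) (Tr.lf (nat_lit 49843)))))) (Tr.nd (nat_lit 49921) (Tr.nd (nat_lit 49877) (Tr.nd (nat_lit 49871) (Tr.lf (nat_lit 49853)) (Tr.lf (nat_lit 49871))) (Tr.nd (nat_lit 49891) (Tr.lf (nat_lit 49877)) (Tr.nd (nat_lit 49919) (Tr.lf (nat_lit 49891)) (Tr.lf (nat_lit 49919))))) (Tr.nd (nat_lit 49991) (Tr.nd (nat_lit 49927) (Tr.lf (nat_lit 49921)) (Tr.nd (nat_lit 49937) (Tr.lf (nat_lit 49927)) (Tr.lf (nat_lit 49937)))) (Tr.nd (nat_lit 49999) (Tr.lf (nat_lit 49991)) (Tr.nd (nat_lit 50047) (Tr.lf (nat_lit 49999)) (Tr.lf (nat_lit 50047)))))))) (Tr.nd (nat_lit 50321) (Tr.nd (nat_lit 50177) (Tr.nd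 (nat_lit 50123) (Tr.nd (nat_lit 50101) (Tr.nd (nat_lit 50087) (Tr.lf (nat_lit 50077)) (Tr.lf (nat_lit 50087))) (Tr.nd (nat_lit 50111) (Tr.lf (nat_lit 50101)) (Tr.nd (nat_lit 50119) (Tr.lf (nat_lit 50111)) (Tr.lf (nat_lit 50119))))) (Tr.nd (nat_lit 50131) (Tr.nd (nat_lit 50129) (Tr.lf (nat_lit 50123)) (Tr.lf (nat_lit 50129))) (Tr.nd (nat_lit 50147) (Tr.lf (nat_lit 50131)) (Tr.nd (nat_lit 50153) (Tr.lf (nat_lit 50147)) (Tr.lf (nat_lit 50153)))))) (Tr.nd (nat_lit 50261) (Tr.nd (nat_lit 50221) (Tr.nd (nat_lit 50207) (Tr.lf (nat_lit 50177)) (Tr.lf (nat_lit 50207))) (Tr.nd (nat_lit 50227) (Tr.lf (nat_lit 50221)) (Tr.nd (nat_lit 50231) (Tr.lf (nat_lit 50227)) (Tr.lf (nat_lit 50231))))) (Tr.nd (nat_lit 50287) (Tr.nd (nat_lit 50263) (Tr.lf (nat_lit 50261)) (Tr.nd (nat_lit 50273) (Tr.lf (nat_lit 50263)) (Tr.lf (nat_lit 50273)))) (Tr.nd (nat_lit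 50291) (Tr.lf (nat_lit 50287)) (Tr.nd (nat_lit 50311) (Tr.lf (nat_lit 50291)) (Tr.lf (nat_lit 50311))))))) (Tr.nd (nat_lit 50441) (Tr.nd (nat_lit 50377) (Tr.nd (nat_lit 50333) (Tr.nd (nat_lit 50329) (Tr.lf (nat_lit 50321)) (Tr.lf (nat_lit 50329))) (Tr.nd (nat_lit 50341) (Tr.lf (nat_lit 50333)) (Tr.nd (nat_lit 50363) (Tr.lf (nat_lit 50341)) (Tr.lf (nat_lit 50363))))) (Tr.nd (nat_lit 50411) (Tr.nd (nat_lit 50383) (Tr.lf (nat_lit 50377)) (Tr.nd (nat_lit 50387) (Tr.lf (nat_lit 50383)) (Tr.lf (nat_lit 50387)))) (Tr.nd (nat_lit 50417) (Tr.lf (nat_lit 50411)) (Tr.nd (nat_lit 50423) (Tr.lf (nat_lit 50417)) (Tr.lf (nat_lit 50423)))))) (Tr.nd (nat_lit 50513) (Tr.nd (nat_lit 50461) (Tr.nd (nat_lit 50459) (Tr.lf (nat_lit 50441)) (Tr.lf (nat_lit 50459))) (Tr.nd (nat_lit 50497) (Tr.lf (nat_lit 50461)) (Tr.nd (nat_lit 50503) (Tr.lf (nat_lit 50497))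 (Tr.lf (nat_lit 50503))))) (Tr.nd (nat_lit 50543) (Tr.nd (nat_lit 50527) (Tr.lf (nat_lit 50513)) (Tr.nd (nat_lit 50539) (Tr.lf (nat_lit 50527)) (Tr.lf (nat_lit 50539)))) (Tr.nd (nat_lit 50549) (Tr.lf (nat_lit 50543)) (Tr.nd (nat_lit 50551) (Tr.lf (nat_lit 50549)) (Tr.lf (nat_lit 50551))))))))) (Tr.nd (nat_lit 51193) (Tr.nd (nat_lit 50849) (Tr.nd (nat_lit 50707) (Tr.nd (nat_lit 50627) (Tr.nd (nat_lit 50591) (Tr.nd (nat_lit 50587) (Tr.lf (nat_lit 50581)) (Tr.lf (nat_lit 50587))) (Tr.nd (nat_lit 50593) (Tr.lf (nat_lit 50591)) (Tr.nd (nat_lit 50599) (Tr.lf (nat_lit 50593)) (Tr.lf (nat_lit 50599))))) (Tr.nd (nat_lit 50651) (Tr.nd (nat_lit 50647) (Tr.lf (nat_lit 50627)) (Tr.lf (nat_lit 50647))) (Tr.nd (nat_lit 50671) (Tr.lf (nat_lit 50651)) (Tr.nd (nat_lit 50683) (Tr.lf (nat_lit 50671)) (Tr.lf (nat_lit 50683)))))) (Tr.nd (nat_lit 50773) (Tr.nd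 (nat_lit 50741) (Tr.nd (nat_lit 50723) (Tr.lf (nat_lit 50707)) (Tr.lf (nat_lit 50723))) (Tr.nd (nat_lit 50753) (Tr.lf (nat_lit 50741)) (Tr.nd (nat_lit 50767) (Tr.lf (nat_lit 50753)) (Tr.lf (nat_lit 50767))))) (Tr.nd (nat_lit 50821) (Tr.nd (nat_lit 50777) (Tr.lf (nat_lit 50773)) (Tr.nd (nat_lit 50789) (Tr.lf (nat_lit 50777)) (Tr.lf (nat_lit 50789)))) (Tr.nd (nat_lit 50833) (Tr.lf (nat_lit 50821)) (Tr.nd (nat_lit 50839) (Tr.lf (nat_lit 50833)) (Tr.lf (nat_lit 50839))))))) (Tr.nd (nat_lit 51047) (Tr.nd (nat_lit 50971) (Tr.nd (nat_lit 50951) (Tr.nd (nat_lit 50929) (Tr.lf (nat_lit 50849)) (Tr.lf (nat_lit 50929))) (Tr.nd (nat_lit 50957) (Tr.lf (nat_lit 50951)) (Tr.nd (nat_lit 50969) (Tr.lf (nat_lit 50957)) (Tr.lf (nat_lit 50969))))) (Tr.nd (nat_lit 51001) (Tr.nd (nat_lit 50989) (Tr.lf (nat_lit 50971)) (Tr.nd (nat_lit 50993) (Tr.lf (nat_lit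 50989)) (Tr.lf (nat_lit 50993)))) (Tr.nd (nat_lit 51031) (Tr.lf (nat_lit 51001)) (Tr.nd (nat_lit 51043) (Tr.lf (nat_lit 51031)) (Tr.lf (nat_lit 51043)))))) (Tr.nd (nat_lit 51131) (Tr.nd (nat_lit 51061) (Tr.nd (nat_lit 51059) (Tr.lf (nat_lit 51047)) (Tr.lf (nat_lit 51059))) (Tr.nd (nat_lit 51071) (Tr.lf (nat_lit 51061)) (Tr.nd (nat_lit 51109) (Tr.lf (nat_lit 51071)) (Tr.lf (nat_lit 51109))))) (Tr.nd (nat_lit 51151) (Tr.nd (nat_lit 51133) (Tr.lf (nat_lit 51131)) (Tr.nd (nat_lit 51137) (Tr.lf (nat_lit 51133)) (Tr.lf (nat_lit 51137)))) (Tr.nd (nat_lit 51157) (Tr.lf (nat_lit 51151)) (Tr.nd (nat_lit 51169) (Tr.lf (nat_lit 51157)) (Tr.lf (nat_lit 51169)))))))) (Tr.nd (nat_lit 51413) (Tr.nd (nat_lit 51283) (Tr.nd (nat_lit 51229) (Tr.nd (nat_lit 51199) (Tr.nd (nat_lit 51197) (Tr.lf (nat_lit 51193)) (Tr.lf (nat_lit 51197))) (Tr.nd (nat_lit 51203)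 (Tr.lf (nat_lit 51199)) (Tr.nd (nat_lit 51217) (Tr.lf (nat_lit 51203)) (Tr.lf (nat_lit 51217))))) (Tr.nd (nat_lit 51241) (Tr.nd (nat_lit 51239) (Tr.lf (nat_lit 51229)) (Tr.lf (nat_lit 51239))) (Tr.nd (nat_lit 51257) (Tr.lf (nat_lit 51241)) (Tr.nd (nat_lit 51263) (Tr.lf (nat_lit 51257)) (Tr.lf (nat_lit 51263)))))) (Tr.nd (nat_lit 51343) (Tr.nd (nat_lit 51307) (Tr.nd (nat_lit 51287) (Tr.lf (nat_lit 51283)) (Tr.lf (nat_lit 51287))) (Tr.nd (nat_lit 51329) (Tr.lf (nat_lit 51307)) (Tr.nd (nat_lit 51341) (Tr.lf (nat_lit 51329)) (Tr.lf (nat_lit 51341))))) (Tr.nd (nat_lit 51361) (Tr.nd (nat_lit 51347) (Tr.lf (nat_lit 51343)) (Tr.nd (nat_lit 51349) (Tr.lf (nat_lit 51347)) (Tr.lf (nat_lit 51349)))) (Tr.nd (nat_lit 51383) (Tr.lf (nat_lit 51361)) (Tr.nd (nat_lit 51407) (Tr.lf (nat_lit 51383)) (Tr.lf (nat_lit 51407))))))) (Tr.nd (nat_lit 51581) (Tr.nd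 (nat_lit 51449) (Tr.nd (nat_lit 51431) (Tr.nd (nat_lit 51427) (Tr.lf (nat_lit 51413)) (Tr.lf (nat_lit 51427))) (Tr.nd (nat_lit 51437) (Tr.lf (nat_lit 51431)) (Tr.nd (nat_lit 51439) (Tr.lf (nat_lit 51437)) (Tr.lf (nat_lit 51439))))) (Tr.nd (nat_lit 51551) (Tr.nd (nat_lit 51473) (Tr.lf (nat_lit 51449)) (Tr.nd (nat_lit 51479) (Tr.lf (nat_lit 51473)) (Tr.lf (nat_lit 51479)))) (Tr.nd (nat_lit 51563) (Tr.lf (nat_lit 51551)) (Tr.nd (nat_lit 51577) (Tr.lf (nat_lit 51563)) (Tr.lf (nat_lit 51577)))))) (Tr.nd (nat_lit 51631) (Tr.nd (nat_lit 51599) (Tr.nd (nat_lit 51593) (Tr.lf (nat_lit 51581)) (Tr.lf (nat_lit 51593))) (Tr.nd (nat_lit 51607) (Tr.lf (nat_lit 51599)) (Tr.nd (nat_lit 51613) (Tr.lf (nat_lit 51607)) (Tr.lf (nat_lit 51613))))) (Tr.nd (nat_lit 51659) (Tr.nd (nat_lit 51637) (Tr.lf (nat_lit 51631)) (Tr.nd (nat_lit 51647) (Tr.lf (nat_lit 51637))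 (Tr.lf (nat_lit 51647)))) (Tr.nd (nat_lit 51691) (Tr.lf (nat_lit 51659)) (Tr.nd (nat_lit 51713) (Tr.lf (nat_lit 51691)) (Tr.lf (nat_lit 51713)))))))))))))
noncomputable def HP1 : ℕ → ℕ := fun q => Nat.add (Nat.mod HP1t q) (nat_lit 32768)
noncomputable def HR1 : ℕ → ℕ := fun q => (Nat.mod HR1t q)
noncomputable def HW1 : ℕ → ℕ := fun q => (Nat.mod HW1t q)
theorem tree1 : Tr.all (treeP LB1 stp HP1 HR1 HW1 WL1 (fun q => Nat.beq (nat_lit 32779) q)) LB1 = true := by decide +kernel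
theorem sub1 : Tr.all (mem L) LB1 = true := by decide +kernel
theorem bst1 : bst LB1 32768 65536 = true := by decide +kernel
theorem size1 : size LB1 = 1365 := by decide +kernel
noncomputable def WL2 : List (List Col) := [[TCG_Suz.Col.e], [TCG_Suz.Col.b, TCG_Suz.Col.a, TCG_Suz.Col.c, TCG_Suz.Col.f, TCG_Suz.Col.c, TCG_Suz.Col.b, TCG_Suz.Col.a, TCG_Suz.Col.b], [TCG_Suz.Col.a, TCG_Suz.Col.b, TCG_Suz.Col.a, TCG_Suz.Col.c, TCG_Suz.Col.b, TCG_Suz.Col.a, TCG_Suz.Col.d, TCG_Suz.Col.c, TCG_Suz.Col.b, TCG_Suz.Col.f, TCG_Suz.Col.c, TCG_Suz.Col.d, TCG_Suz.Col.c, TCG_Suz.Col.b]]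
def HP2t : ℕ := (nat_lit 0x47a6cb02d57fd7ddad853215f14ec86f6122029e913a71a2cb23d0e1eb745e1299e138a1f18b6be85ea94f1f13edba5ead2ca7fbc172889a25a4e3c87c9fa737432e268bf8ba22e661688f9507e3010e190ed4c52ee38aa39c414ed6279f7d41bc12c23d2844dbdb8f3c2596bec585158ec67ccfa1f42c3f774bd1a6cd155e91f65fe7cf660796690b5671112b769f1ffeac50ec20f5d036c4a6a159dd266bbc32c42702e3ab791d4d7755a01a2d42f4ac2d9bcf71b94cdc823b534a298ba35b1ac45cd4a289b510d1ff983f9494b785380a782f01e879da83453caad938edc6863e47b64ae9595d02f3e66325234c1d2d92a7a43ab91258d194b31b0ab6fe5aaed1aa555853ed6a151944f170b730105425e8c4b95ca2666215b80c853220bbed8085ea768eb21a2a7a5fc939303ea55ff540ad9550de79c5f322ab630b00a4a07a1a941da7a43a62bb0157cf0f510c67a15e8abb0a5bf480857bef1a886b85356234df5374638af37a78c33e40c2468dbfe6162c5dedba58fa948d367c3c48e0568cd1226c9b3a7fcbfc908b0651eb8b2d2f8a8cc34a490b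c16795446ff025d275f71e0102012d7b5dc202c3400dc8c4eaabffe5c0aa5724e5a5841e1fa008a2cc740436dcab53327495bbf193ed9a2f28344ca798abb90231652e45174c36d50130fd6dcc864a8654a760a65f487e48b6a69a8cacff28a1b5227293071a9d8fd43cf76ebafd72e799d5853359eae56867d3603b39043ea2daa18d62f6bed2ccafebebc2d5847a484f9e1f25aeb74aff7923a38769ce50b8565713a4897bee35b0d7247269fce2ed89ebe6446aee0244e85f18c6ee0e264e957ffdff3a1477d2e7c53920fd8794878483ac4f1298000cadd5a256450b4916de7a4571ec64e54b1912bd50d29b0f64e8384842e66d545c0478301b27d8e6c7ef6c8f8077105f3d26d3512182ad0e9444fb844a6636d95cffd93d57a73bffeb4c1e99f0f298022380bfb61ba5d0fa68dfe4bb45d74de500d72f8ac302aa1629e0931690f1bb9da0ff62f7eaf2c0a11d4d9b78210d2de435b0faf9530a0839d3ea43f5f5698029503fbcb3bf44f2213848cd0db27ab9ae18ff430c03dca13950cb473fd2173d899f3026667a0abc7612d8ad71ba062a8fd9eb53aa5637387305550cc07bc2a2ee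bf1dd8da341fd1c8e216ae1a11f8c71a09fd83b142b12e2a4841cf3036edb690e65f57050551203c903e858a1ae5e8287b26ce9ee7114c048284e80ebc4857302bfa3f8d64ff3290cf5d84ed07522827ecb68d77212209f5289b73f43d11a91a46c3d0fccde826b0f7f6a7fc16bf57bbf4a9f03b4068475cbf7cfe1514a33e0afde25c15bc1c90c66f53747689197d16d2bd953992739aa57c13f4114dcf5ee302f9438d060b3ca6e45487a122d1ed4acf85915dbe11dc7dc723e2ad3bd462678c3941a9f58fc5fdc8fa77f4239ed9771fad255f6956437c658e2f6a381459611a2d15ad6cefd920ce65ead24753ba8a4ec889da987856566da776cccd7f121bc6a64ec843574ae7a26e3f059ee77dd7d3ca0ac03b7a90911a5ee521c49ca8955d182121860e45e3f079d94606e95c2002373002649953b7414e6da212981c713385546e69a2b2d8792551e0e9ec8118007e050afa9f63f3005ad29b6e043cfcb7bd769707975a3b18db004b386fa2d07ed1e2c08baed2c3e73f3d42d95e3cbe30206d286912ccb2b17b97084a35e9bb94d51e116518b3652975eb8577865a2b2ff2b79bcdd099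59c60f04632b4424fc289249b308a216e530ece42051df72d54d6c8fbf401a12eb58de6485e844ed3a598c13879a6f16c51d8139b81136768f53b41f51643f45e9a8042963299963a454d8dfbf8f6f9cf38ddee3b06669d26ef9edd4fad0c88b29b3708192f239ceaf4fa958fb95d47e4ceb15b602e2dab729cef139519fb0d523ff6e285a36de1381b3cfee553838d700ce43bca00a6e71a0e25fc277cae5f7a394500ac445430854e4063e4d87f7e33482b64e8b22b48504d41431836558dfc4f0d6c7767b9755307bf878ca994467ae81fca0e4212fcfc1e2d4e52afd5651cb21319fb0b1f30966af6cdd389d8d22fea87a9d536cce58038dc1f0d03fe5afd4eec938bb7e568d2b0fcf374fa77f67a1afaef55e273fb72da132609b7cb34ecb746d8dc4158df8cbde32120f44b36beb64f886b9d0efc7d25b9bf836b54536e9c44c379e279142b2b932e3936f8c0b38a0de9d21e011b12f7ba1ee45ad354ec0ee570ee6b752c91ceb900abd38d1b96ad2c8b6ad74385d2aac50f6b63f9d7bfe528d8e59e52bf560f8d25189bc8dfcbdfe21da79e2c05184bb3f546fbc1cc84e6f683b949d35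b3574daf84ed5aa5ceaf9f95fb19ccbed69229f8d7d91443eb83e8b9ebca70918a3899e141db793e93dab7fea91bfbbe23c6ff4d7f34753cc03a615b90c6fc7f6a3217c8f963302ae3623eba648b67b6c42c3250fd5241519237ceba1b298ff552743907eb7e6292a04c718bc7d51e1ab08a3c49483554bbecd013c27025557ad3f554fc863413fab219763cfa9ec0b8f479daea50f82a2cb837a503d72507ae76a7e5b420b72ecb6a8b563085bd7b5f93e975ce9f2a7c61e9fec8bb219f8a31384b2cb3cc4a095637d6a982a88447c9b08d6b02aa1140607b6c2c218246898f73a74f5567d13501dd2b797e866591d62a8425e68d0260af505d62fff6e89490fb120617c67c26b410feb898a0af6ed6e63471ee0d2f3c21753a714b6326d43857b42f)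
def HR2t : ℕ := (nat_lit 0x19f958efff0beba2b5e881431ad708e6e725702cec7431a8c278611bffb779430fa7e97c5df257fe173a4a3a827a96328117ad2c15c9bc7569178f20fcd78985def188b3992838499285f8a84a7ce38e2ccc46ff7fc0c6eab14c848d5361bc611cc250b314134447538b647b4c0e3404f806d51802847717d8b8d495501005c4b2fc0c40c899469924b40e512ecee9c52a22f94effd0445a42706b69ac2589e9a863931d20586d460066e337e849407247316f84dad08bc70cab2ba2078472ec5940a11153a5ddf4a5618041746ca0e5b1889e2ec2c879f4c4023d7b137d134ad1f72490bb51f4e091bc97d31675c59a4452f3c3ff65407d4c26dc25b0015bdcb8e68ac5af99dcd9db14ca3e4c5a6bf0a9e23b36ab63b30b23b9c3c2c4176e31cc34089175a7f5cb8bfb882a1811a1d893b40238b3f4e96d118e70a43c5f0e3f897891cad82d804a52615e76c0791a0f61c3690d4ff90778ae8611827bd2ec2eacfcba8e3859ea6fd626cbb12d470e55d3ec38b693570657f393344a3fa37bdc6c7377fcf84733169724fc845861c23ddc1e8c68807cc253b4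82ac6ea5d5b2ffd6a359a663c26ba283e697417943b520cd1f0b1d3e07fd24b65fffcedb1742623caf2143bd8fc399642e96a0fc726a8fcc75f61ad2099a08d7dfdccc50fb5d998cfa14d7f10e2fe445efabb63ddeb453a3020e4f43858315f7fd3012c236c88fb4e1ac9cc7870baea4c3003dca070e8458ff182e97111d50a28d53a4d3d5b06f7bcc7ea960dccae5b295eeda5a0510c6b49b5a372799d0d04081bad7a8f9ac41b5457c840771ee3b1f6fb263db4db0dbdec09d70f18d5deb3afecd658c2de004e1c356dfc998dfee07eb0d5905f22a5ab08faea4987c669e7ee749de7298b40db9f7101d16105c2a0986731e9b1cbe5635cc3a5cb61149080523e6fe90ef86dd135166c972aa8fdb345e1ea072e2cdf075f28839ab582aba66aa2b36ca2cbaf047fbdafdaaf0e09bc6466ac8b467beb8e09683427c41fe693319a33af9fc1ce08269c6553e452d09e3451ee302155b51027781df418d01130836017a10968f836deb7141ebef70554e9300c954168f0aac09ab930b1173c6d9f493893e292cccbe6ac71cf1934d34e34e6be1e45d4dbf9ab5a7935bb6b23c2d402abef3596004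4baeea81982d04f4fe48897464070ad735dda0d6870c6b0097e302cee56ec9464af9aa4b8cc17879c37199d94e9ec7a0e941d1e9dfe8796db27cc691fe227724b4e501b8e7522cf4b8e92223a6cd4652b7c4c11061c993a4754fc9acb02eaa4175b72f47dc96117ce8fc5b37d826717580e4c1f57811f84293382199a001bc29d0104f1c3927fb534babf9e7fd2254998ca696082a8d9cd3e03155fcafc2c707c75db743f49d1a5a20c943c0c1a28691ea6716fd890233f9a8cab565608b0c4c59a7216d233975bc3c1b980d82f47a8a90ffd1c412b169a4a7a327824dad5c1b1101028d0d6d907b01deb15c0052b4e2c1df6b763d4c79ead389ed6ba6d4b059c667e9ef92b45132fd363690a192d9299e6e641625488202dd3f9338ea397ecd1f10d9d812312be808d71c17a8f13ab341fc4aba6b26e6558b294850ea25bda2b77a548d52886216e97a6b353c4c7109ddf2f34fe32d6da4db394763b2a6367c79a8fc6dd7254930b5c4b913cb8edfa9dd2610a3c399e51441c174439b69fb11fc59f6d12ff07acaf2b435935a35e70ca0bff132469f05d83af86f7db7f8f2214a7283558518fe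fffaf7ff90d26284ee37f412759f9a7d58a902d55b1314dc57dc6d129a77978af3d996d51b681a108f8b736d07e3b640518a0c7b6e76bd39f13879a9856d0ddfbae93290684310c390d0e29e29ff2dc56727debec824a2b98e50cf90e8dca4f15fe42a760e389d3d7dba8f8215f3145e8987ecbc621332b67a9a3fcb8b38000e0e580fb2312033408afe3630c0153b475b76e712e59c1fc5624d064d01907ca2ae70fd743a89322c48b88b461b3d1ffdbfa2446c2b9d1d24b1fc8867e5fac4bf060822b372569227828ad2340dae721ee8d12f5202e71a9c06395360c10b8e9e875d97b91fa84f3b6653faf732db08bc759e3bb64c180d3c8ad85c94eaa1ed9c9b6ac7f2d5f709f02810080c586b0f10e739ec911c83c4cbf7eff31728a166ccbe35ea32e517b4dd26fc9fb634cb24e801e609a79bcb29f5e5b8f01870c9cae9edf771620008db28658ba4efa1836128ef3b84379c9e5f446c23f45b9e639d28b8f7be7ac04a5cdc560415f7b139023f0a1f9face38bede8c93d2c8623e98cbdff1c87bcdeb556fc55f2736082852388c085fad97d2aca9375b2a676d52f6574db2407e28ff6c5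4a41558b41d85ed3843dea397c120eddf434df694c15d33490de97d16738d886b12efda7d0fd539d621e0df3f49f08890e177bb4542301c60211fa5511b3f5dfa08fa9b405fdc0d2aed5dc771f7b8778b957ec0ebd7e23cbae14fb46fcc4e78484c3f665960684f3c385a69aadc1029936d07151d8b6f3b3b2e0d5f701ea0c1b57f917ef30b9cd11a8169ba35dd51c61a4107de4afa542831c55fe516c5d0c238361c4c175187acfa2cc73633ce062a78d7218dab53f0703ab4e7e0ff3947331b244f3f73308f4d8260cf872b40e9aa4c4874ccb2fd3fdf2f72dacf721f97af7e6d1900790cdb93bf6de07cd7bc09e144eb3f5dca74de7c08d4e2a17d8f4085038fa7239f8204a67e18aa1d7b46fb5db6bc644a0a8744b6c431600417a2ea43dc79a5)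
def HW2t : ℕ := (nat_lit 0x1fd100ee5d0c4bcd0390ffd0521e2e568798a3db98a74474853e622d89ddb3be23b607db23c9a2ff58f44f74bd68f5c9b516a2d57a093f4b226e5fd3214c28cf8c17c08d2b4e52056592ee32ac2f180a0c18bab6d6053a7d1dcc4ee4bf626566973d304e0f2d5fa49225593d42833426a943f0f60604a620ab32972918ece77aa318af18431a107232e53697f6e144f6ce502d378d014f67013fca418f792c96078bf08e4062c9946b508d9ee0ec63dd9e97bd84f42b9cae751f4923adcf8ab9e4e4ebc1bed58843bab8a9db5cfdddfc56f43d49bb2304deb2e28312290f94f5b6dc39343ed47446948849e69e2bb41e1da9e8ee3436391174f0f3c3ef15f091af9cf5af163298e000e5098b42746d0150a3a5a0d406984ddba115385e1f20bf1e45be4da886efe842b5c890e9c61c0dec4f42c8c194764407094d23a1f401bc01be340e42f6129b08be214703c8668928dede5323f76bd96f0a87e50e1b19019e2c18174d42df19250c20504d419f9b44863597e6eabf13556100ac253c691846bec5dcc3479acfa199097eadf4d53e440576f83663112d2b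abb0a7a8d46724ff83fc52069b31ec137cf078862cb61bf1ac8334eb723c394ad3e71b5c2809cb8c480cfc130562f49d793c83a9db863d155349ab07f6d85964770d86d739fcfaa3e3950c190e1d8fecc4676246a5f91ab8eada2de53841ff4efbdfd942dc0ded322dcae8894dba1f2015b7428ef5deb0cb41b3c2bdcf52ce01bbdb53943afc6436b3cd41af5aed45aa8a369242050ddf80f998a59290d53d0c58fc9db0390270d41a91df60a1f7a9a91a9e3f11547f2f3db728a1cd283f4aa6b5e5a443aa88927fef7b8f187d08b8764f13623fe6e45c5dc2d1fb29b2656d4fc2680c0c188c84d89746eb0c3bb2bbd978fb9b1ee9b3b1471b34cb11ff6f364f0deb75e2acbf469c28cdecb3605cbfec3f41593267543de9cd507707a3ae8a02e2defe0345761486434f24967808561dbcfb52840ffe1603b1308c6a175ecf8ffa777cb5bc7799823f41380a27d5ee087b730d1a94f6b6657d780ee13fbf6cc8482a299cbd427d2f0ef36218565018e5ce245e55e7a56b425906b8aa44deff4cf446f9db4eee3dc52025aee662ac1eab783921414fb7278e69c02aa651ca6cb3398905c523a508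8f4f775a4e69334de3812166443520774c73dd3b285c43d05612425fbfd54de6b6a5acf6d5f14d3f4e7e455d3d864e58772253be4526dcdd051a8e12fbf5cccec88328e171474e704dab6e7f6b14a8d3bc495c19ea7a4f16e697341b474154a5adbc830ae7a54f84629d5cb8e2a982d61e41ac39010df2ddb8508f49347183866177f75b79c6def66be567c883444eba45b2c4400e3a82a7a6591ef3eddc8b95436761533b0cabe3981a366dfc543523fe8b32e11652e7a4ca58633c8875e16440f61c12d86ef529faf8e8065eba841c9167e86a9a3a878870b797d4fd0a8acb3168d69ced8257480e5d267d3b830120a6e28ff5f1501ec03fbcb6b89ae5d3646e96e150af62a96db4c0bbdb4f775ae51824be5abf53a324d2d018c2c88c2c2ec8c816100a8ca8b978df29e4d182933d0b145f8cf72f56b81759d82f7fd28ff066b3087417dabddc12070c6487f0cafac8f62432f0fd296ab25676a82bc9d7f5bd23e8c38bff34992fdd0556ad338e9d2d3f500083099faeb409ce6fae7b6f8df10ce0ee9cb08bd5d7fdf4846129b98e262c81bc933512154d8d6e3fd4ed16724e6651d0e99549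fa0951f1513b0db7af4fb44bb71e0d76a543f431e3e6c3fa2f2bb2f259f272c8e78492dbf882eb408f005de8e82b1a8b822fd0e98a53c7710935f936e11254cbcd755af20348c79aae9358d3b59c5022bfa93fde8ef25b5d17acfa4047edfae75fa9a3a5d6e8996d13952676b252327af323888e14e8f0e87c22047812726f82934ff1f56fd4bd6cbc30fbe498feb7583e233f9830f9c6fd4feff75f7d0e9f28fd6aae3d7b1e23d6d3ea64f84240de1dcf07a8332b39d4420c5b457ffcda5f1772cdcb924defdbcdc67dc6629a50211946dd67dfd0e9d0f1631e5bef3720db4eae76620c12c111247c93c6b6cbf4557b997e2e6256b61344a2efb17fbf63a1d090a5c116981a0b557f00844b7eb45ff8c642d340e5688718b56b20359ba4ab84d79599b58183872561f8f6ed07f2c2b5e86743b322c4128231f017f2a6474116ae0c6c053650db4f183f04fa96dc1434e1c7e8ceb58141523cf896103478eaef831276abefe294952428a0e77f23da5c7cbd2860165e6d20c169cdf3095918aa78d50e675806748e8f26a17a6b3c074e36a565aa5fc0b810b8d853902dc533a87d100854e5b4ca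8ed9148fc3103015e0838dfe5ab5a5b28a8a0ced71cbd6ea526a330eae865df152b26a1e732bca6e1e83002c877b65da09ce1d1cd957a6e6b431286a67d91d20e50877f8cdea29a55e6c710482b4ecfe9590c27620b339c3d6e261628a074828d33b8d97e1f0f0f5c337d32e9b91c5a88ccc08ef069417519285cb53bdf8fdace9a3e8c85e978ed7af6b0f5c5163ade09df53c3887197c4ea1fa31093119fb2d5979aa382f94656bf062f7c7bf53a55f772e386401eb9defba344638e635336da2851a23a1e109dfb2c4578e50199e98049fc363518c239221608933bb349ba5008801f6ac096143144947bde370951a6d569cac6d8951c5ba1c4db55b6d181bf4296490e84fb8feec3a1b8c200ff52b536e29cdd14bdbf4a0bddf9315539a266c3029)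
noncomputable def LB2 : Tr ℕ := (Tr.nd (nat_lit 43633) (Tr.nd (nat_lit 38671) (Tr.nd (nat_lit 35323) (Tr.nd (nat_lit 33637) (Tr.nd (nat_lit 33119) (Tr.nd (nat_lit 32957) (Tr.nd (nat_lit 32843) (Tr.nd (nat_lit 32803) (Tr.nd (nat_lit 32797) (Tr.nd (nat_lit 32789) (Tr.lf (nat_lit 32783)) (Tr.lf (nat_lit 32789))) (Tr.nd (nat_lit 32801) (Tr.lf (nat_lit 32797)) (Tr.lf (nat_lit 32801)))) (Tr.nd (nat_lit 32833) (Tr.nd (nat_lit 32831) (Tr.lf (nat_lit 32803)) (Tr.lf (nat_lit 32831))) (Tr.nd (nat_lit 32839) (Tr.lf (nat_lit 32833)) (Tr.lf (nat_lit 32839))))) (Tr.nd (nat_lit 32911) (Tr.nd (nat_lit 32887) (Tr.nd (nat_lit 32869) (Tr.lf (nat_lit 32843)) (Tr.lf (nat_lit 32869))) (Tr.nd (nat_lit 32909) (Tr.lf (nat_lit 32887)) (Tr.lf (nat_lit 32909)))) (Tr.nd (nat_lit 32939) (Tr.nd (nat_lit 32917) (Tr.lf (nat_lit 32911)) (Tr.lf (nat_lit 32917))) (Tr.nd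 (nat_lit 32941) (Tr.lf (nat_lit 32939)) (Tr.lf (nat_lit 32941)))))) (Tr.nd (nat_lit 33029) (Tr.nd (nat_lit 32987) (Tr.nd (nat_lit 32971) (Tr.nd (nat_lit 32969) (Tr.lf (nat_lit 32957)) (Tr.lf (nat_lit 32969))) (Tr.nd (nat_lit 32983) (Tr.lf (nat_lit 32971)) (Tr.lf (nat_lit 32983)))) (Tr.nd (nat_lit 33013) (Tr.nd (nat_lit 32993) (Tr.lf (nat_lit 32987)) (Tr.lf (nat_lit 32993))) (Tr.nd (nat_lit 33023) (Tr.lf (nat_lit 33013)) (Tr.lf (nat_lit 33023))))) (Tr.nd (nat_lit 33083) (Tr.nd (nat_lit 33071) (Tr.nd (nat_lit 33053) (Tr.lf (nat_lit 33029)) (Tr.lf (nat_lit 33053))) (Tr.nd (nat_lit 33073) (Tr.lf (nat_lit 33071)) (Tr.lf (nat_lit 33073)))) (Tr.nd (nat_lit 33107) (Tr.nd (nat_lit 33091) (Tr.lf (nat_lit 33083)) (Tr.lf (nat_lit 33091))) (Tr.nd (nat_lit 33113) (Tr.lf (nat_lit 33107)) (Tr.lf (nat_lit 33113))))))) (Tr.nd (nat_lit 33377) (Tr.nd (nat_lit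 33311) (Tr.nd (nat_lit 33181) (Tr.nd (nat_lit 33151) (Tr.nd (nat_lit 33149) (Tr.lf (nat_lit 33119)) (Tr.lf (nat_lit 33149))) (Tr.nd (nat_lit 33161) (Tr.lf (nat_lit 33151)) (Tr.lf (nat_lit 33161)))) (Tr.nd (nat_lit 33247) (Tr.nd (nat_lit 33223) (Tr.lf (nat_lit 33181)) (Tr.lf (nat_lit 33223))) (Tr.nd (nat_lit 33287) (Tr.lf (nat_lit 33247)) (Tr.lf (nat_lit 33287))))) (Tr.nd (nat_lit 33343) (Tr.nd (nat_lit 33329) (Tr.nd (nat_lit 33317) (Tr.lf (nat_lit 33311)) (Tr.lf (nat_lit 33317))) (Tr.nd (nat_lit 33331) (Tr.lf (nat_lit 33329)) (Tr.lf (nat_lit 33331)))) (Tr.nd (nat_lit 33349) (Tr.nd (nat_lit 33347) (Tr.lf (nat_lit 33343)) (Tr.lf (nat_lit 33347))) (Tr.nd (nat_lit 33359) (Tr.lf (nat_lit 33349)) (Tr.lf (nat_lit 33359)))))) (Tr.nd (nat_lit 33587) (Tr.nd (nat_lit 33413) (Tr.nd (nat_lit 33403) (Tr.nd (nat_lit 33391) (Tr.lf (nat_lit 33377)) (Tr.lf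 (nat_lit 33391))) (Tr.nd (nat_lit 33409) (Tr.lf (nat_lit 33403)) (Tr.lf (nat_lit 33409)))) (Tr.nd (nat_lit 33493) (Tr.nd (nat_lit 33427) (Tr.lf (nat_lit 33413)) (Tr.lf (nat_lit 33427))) (Tr.nd (nat_lit 33569) (Tr.lf (nat_lit 33493)) (Tr.lf (nat_lit 33569))))) (Tr.nd (nat_lit 33617) (Tr.nd (nat_lit 33599) (Tr.nd (nat_lit 33589) (Tr.lf (nat_lit 33587)) (Tr.lf (nat_lit 33589))) (Tr.nd (nat_lit 33613) (Tr.lf (nat_lit 33599)) (Tr.lf (nat_lit 33613)))) (Tr.nd (nat_lit 33623) (Tr.nd (nat_lit 33619) (Tr.lf (nat_lit 33617)) (Tr.lf (nat_lit 33619))) (Tr.nd (nat_lit 33629) (Tr.lf (nat_lit 33623)) (Tr.lf (nat_lit 33629)))))))) (Tr.nd (nat_lit 34381) (Tr.nd (nat_lit 34129) (Tr.nd (nat_lit 33773) (Tr.nd (nat_lit 33751) (Tr.nd (nat_lit 33647) (Tr.nd (nat_lit 33641) (Tr.lf (nat_lit 33637)) (Tr.lf (nat_lit 33641))) (Tr.nd (nat_lit 33749) (Tr.lf (nat_lit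 33647)) (Tr.lf (nat_lit 33749)))) (Tr.nd (nat_lit 33767) (Tr.nd (nat_lit 33757) (Tr.lf (nat_lit 33751)) (Tr.lf (nat_lit 33757))) (Tr.nd (nat_lit 33769) (Tr.lf (nat_lit 33767)) (Tr.lf (nat_lit 33769))))) (Tr.nd (nat_lit 33911) (Tr.nd (nat_lit 33797) (Tr.nd (nat_lit 33791) (Tr.lf (nat_lit 33773)) (Tr.lf (nat_lit 33791))) (Tr.nd (nat_lit 33809) (Tr.lf (nat_lit 33797)) (Tr.lf (nat_lit 33809)))) (Tr.nd (nat_lit 34123) (Tr.nd (nat_lit 34019) (Tr.lf (nat_lit 33911)) (Tr.lf (nat_lit 34019))) (Tr.nd (nat_lit 34127) (Tr.lf (nat_lit 34123)) (Tr.lf (nat_lit 34127)))))) (Tr.nd (nat_lit 34213) (Tr.nd (nat_lit 34159) (Tr.nd (nat_lit 34147) (Tr.nd (nat_lit 34141) (Tr.lf (nat_lit 34129)) (Tr.lf (nat_lit 34141))) (Tr.nd (nat_lit 34157) (Tr.lf (nat_lit 34147)) (Tr.lf (nat_lit 34157)))) (Tr.nd (nat_lit 34183) (Tr.nd (nat_lit 34171) (Tr.lf (nat_lit 34159))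 (Tr.lf (nat_lit 34171))) (Tr.nd (nat_lit 34211) (Tr.lf (nat_lit 34183)) (Tr.lf (nat_lit 34211))))) (Tr.nd (nat_lit 34351) (Tr.nd (nat_lit 34327) (Tr.nd (nat_lit 34303) (Tr.lf (nat_lit 34213)) (Tr.lf (nat_lit 34303))) (Tr.nd (nat_lit 34337) (Tr.lf (nat_lit 34327)) (Tr.lf (nat_lit 34337)))) (Tr.nd (nat_lit 34367) (Tr.nd (nat_lit 34361) (Tr.lf (nat_lit 34351)) (Tr.lf (nat_lit 34361))) (Tr.nd (nat_lit 34369) (Tr.lf (nat_lit 34367)) (Tr.lf (nat_lit 34369))))))) (Tr.nd (nat_lit 34949) (Tr.nd (nat_lit 34849) (Tr.nd (nat_lit 34439) (Tr.nd (nat_lit 34421) (Tr.nd (nat_lit 34403) (Tr.lf (nat_lit 34381)) (Tr.lf (nat_lit 34403))) (Tr.nd (nat_lit 34429) (Tr.lf (nat_lit 34421)) (Tr.lf (nat_lit 34429)))) (Tr.nd (nat_lit 34843) (Tr.nd (nat_lit 34693) (Tr.lf (nat_lit 34439)) (Tr.lf (nat_lit 34693))) (Tr.nd (nat_lit 34847) (Tr.lf (nat_lit 34843)) (Tr.lf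 (nat_lit 34847))))) (Tr.nd (nat_lit 34897) (Tr.nd (nat_lit 34877) (Tr.nd (nat_lit 34871) (Tr.lf (nat_lit 34849)) (Tr.lf (nat_lit 34871))) (Tr.nd (nat_lit 34883) (Tr.lf (nat_lit 34877)) (Tr.lf (nat_lit 34883)))) (Tr.nd (nat_lit 34919) (Tr.nd (nat_lit 34913) (Tr.lf (nat_lit 34897)) (Tr.lf (nat_lit 34913))) (Tr.nd (nat_lit 34939) (Tr.lf (nat_lit 34919)) (Tr.lf (nat_lit 34939)))))) (Tr.nd (nat_lit 35251) (Tr.nd (nat_lit 35083) (Tr.nd (nat_lit 34963) (Tr.nd (nat_lit 34961) (Tr.lf (nat_lit 34949)) (Tr.lf (nat_lit 34961))) (Tr.nd (nat_lit 35023) (Tr.lf (nat_lit 34963)) (Tr.lf (nat_lit 35023)))) (Tr.nd (nat_lit 35171) (Tr.nd (nat_lit 35117) (Tr.lf (nat_lit 35083)) (Tr.lf (nat_lit 35117))) (Tr.nd (nat_lit 35227) (Tr.lf (nat_lit 35171)) (Tr.lf (nat_lit 35227))))) (Tr.nd (nat_lit 35281) (Tr.nd (nat_lit 35267) (Tr.nd (nat_lit 35257) (Tr.lf (nat_lit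 35251)) (Tr.lf (nat_lit 35257))) (Tr.nd (nat_lit 35279) (Tr.lf (nat_lit 35267)) (Tr.lf (nat_lit 35279)))) (Tr.nd (nat_lit 35311) (Tr.nd (nat_lit 35291) (Tr.lf (nat_lit 35281)) (Tr.lf (nat_lit 35291))) (Tr.nd (nat_lit 35317) (Tr.lf (nat_lit 35311)) (Tr.lf (nat_lit 35317))))))))) (Tr.nd (nat_lit 37511) (Tr.nd (nat_lit 36527) (Tr.nd (nat_lit 36191) (Tr.nd (nat_lit 35911) (Tr.nd (nat_lit 35381) (Tr.nd (nat_lit 35339) (Tr.nd (nat_lit 35327) (Tr.lf (nat_lit 35323)) (Tr.lf (nat_lit 35327))) (Tr.nd (nat_lit 35353) (Tr.lf (nat_lit 35339)) (Tr.lf (nat_lit 35353)))) (Tr.nd (nat_lit 35729) (Tr.nd (nat_lit 35393) (Tr.lf (nat_lit 35381)) (Tr.lf (nat_lit 35393))) (Tr.nd (nat_lit 35803) (Tr.lf (nat_lit 35729)) (Tr.lf (nat_lit 35803))))) (Tr.nd (nat_lit 36137) (Tr.nd (nat_lit 36073) (Tr.nd (nat_lit 35963) (Tr.lf (nat_lit 35911)) (Tr.lf (nat_lit 35963)))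 (Tr.nd (nat_lit 36107) (Tr.lf (nat_lit 36073)) (Tr.lf (nat_lit 36107)))) (Tr.nd (nat_lit 36161) (Tr.nd (nat_lit 36151) (Tr.lf (nat_lit 36137)) (Tr.lf (nat_lit 36151))) (Tr.nd (nat_lit 36187) (Tr.lf (nat_lit 36161)) (Tr.lf (nat_lit 36187)))))) (Tr.nd (nat_lit 36277) (Tr.nd (nat_lit 36241) (Tr.nd (nat_lit 36217) (Tr.nd (nat_lit 36209) (Tr.lf (nat_lit 36191)) (Tr.lf (nat_lit 36209))) (Tr.nd (nat_lit 36229) (Tr.lf (nat_lit 36217)) (Tr.lf (nat_lit 36229)))) (Tr.nd (nat_lit 36263) (Tr.nd (nat_lit 36251) (Tr.lf (nat_lit 36241)) (Tr.lf (nat_lit 36251))) (Tr.nd (nat_lit 36269) (Tr.lf (nat_lit 36263)) (Tr.lf (nat_lit 36269))))) (Tr.nd (nat_lit 36319) (Tr.nd (nat_lit 36299) (Tr.nd (nat_lit 36293) (Tr.lf (nat_lit 36277)) (Tr.lf (nat_lit 36293))) (Tr.nd (nat_lit 36313) (Tr.lf (nat_lit 36299)) (Tr.lf (nat_lit 36313)))) (Tr.nd (nat_lit 36457) (Tr.nd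 (nat_lit 36341) (Tr.lf (nat_lit 36319)) (Tr.lf (nat_lit 36341))) (Tr.nd (nat_lit 36493) (Tr.lf (nat_lit 36457)) (Tr.lf (nat_lit 36493))))))) (Tr.nd (nat_lit 36713) (Tr.nd (nat_lit 36643) (Tr.nd (nat_lit 36599) (Tr.nd (nat_lit 36583) (Tr.nd (nat_lit 36559) (Tr.lf (nat_lit 36527)) (Tr.lf (nat_lit 36559))) (Tr.nd (nat_lit 36587) (Tr.lf (nat_lit 36583)) (Tr.lf (nat_lit 36587)))) (Tr.nd (nat_lit 36629) (Tr.nd (nat_lit 36607) (Tr.lf (nat_lit 36599)) (Tr.lf (nat_lit 36607))) (Tr.nd (nat_lit 36637) (Tr.lf (nat_lit 36629)) (Tr.lf (nat_lit 36637))))) (Tr.nd (nat_lit 36683) (Tr.nd (nat_lit 36671) (Tr.nd (nat_lit 36653) (Tr.lf (nat_lit 36643)) (Tr.lf (nat_lit 36653))) (Tr.nd (nat_lit 36677) (Tr.lf (nat_lit 36671)) (Tr.lf (nat_lit 36677)))) (Tr.nd (nat_lit 36697) (Tr.nd (nat_lit 36691) (Tr.lf (nat_lit 36683)) (Tr.lf (nat_lit 36691))) (Tr.nd (nat_lit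 36709) (Tr.lf (nat_lit 36697)) (Tr.lf (nat_lit 36709)))))) (Tr.nd (nat_lit 37139) (Tr.nd (nat_lit 36791) (Tr.nd (nat_lit 36749) (Tr.nd (nat_lit 36721) (Tr.lf (nat_lit 36713)) (Tr.lf (nat_lit 36721))) (Tr.nd (nat_lit 36761) (Tr.lf (nat_lit 36749)) (Tr.lf (nat_lit 36761)))) (Tr.nd (nat_lit 37057) (Tr.nd (nat_lit 36931) (Tr.lf (nat_lit 36791)) (Tr.lf (nat_lit 36931))) (Tr.nd (nat_lit 37123) (Tr.lf (nat_lit 37057)) (Tr.lf (nat_lit 37123))))) (Tr.nd (nat_lit 37273) (Tr.nd (nat_lit 37171) (Tr.nd (nat_lit 37159) (Tr.lf (nat_lit 37139)) (Tr.lf (nat_lit 37159))) (Tr.nd (nat_lit 37201) (Tr.lf (nat_lit 37171)) (Tr.lf (nat_lit 37201)))) (Tr.nd (nat_lit 37409) (Tr.nd (nat_lit 37337) (Tr.lf (nat_lit 37273)) (Tr.lf (nat_lit 37337))) (Tr.nd (nat_lit 37489) (Tr.lf (nat_lit 37409)) (Tr.lf (nat_lit 37489)))))))) (Tr.nd (nat_lit 38153) (Tr.nd (nat_lit 37871)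 (Tr.nd (nat_lit 37783) (Tr.nd (nat_lit 37657) (Tr.nd (nat_lit 37529) (Tr.nd (nat_lit 37517) (Tr.lf (nat_lit 37511)) (Tr.lf (nat_lit 37517))) (Tr.nd (nat_lit 37649) (Tr.lf (nat_lit 37529)) (Tr.lf (nat_lit 37649)))) (Tr.nd (nat_lit 37699) (Tr.nd (nat_lit 37693) (Tr.lf (nat_lit 37657)) (Tr.lf (nat_lit 37693))) (Tr.nd (nat_lit 37781) (Tr.lf (nat_lit 37699)) (Tr.lf (nat_lit 37781))))) (Tr.nd (nat_lit 37831) (Tr.nd (nat_lit 37811) (Tr.nd (nat_lit 37799) (Tr.lf (nat_lit 37783)) (Tr.lf (nat_lit 37799))) (Tr.nd (nat_lit 37813) (Tr.lf (nat_lit 37811)) (Tr.lf (nat_lit 37813)))) (Tr.nd (nat_lit 37853) (Tr.nd (nat_lit 37847) (Tr.lf (nat_lit 37831)) (Tr.lf (nat_lit 37847))) (Tr.nd (nat_lit 37861) (Tr.lf (nat_lit 37853)) (Tr.lf (nat_lit 37861)))))) (Tr.nd (nat_lit 37967) (Tr.nd (nat_lit 37907) (Tr.nd (nat_lit 37889) (Tr.nd (nat_lit 37879) (Tr.lf (nat_lit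 37871)) (Tr.lf (nat_lit 37879))) (Tr.nd (nat_lit 37897) (Tr.lf (nat_lit 37889)) (Tr.lf (nat_lit 37897)))) (Tr.nd (nat_lit 37957) (Tr.nd (nat_lit 37951) (Tr.lf (nat_lit 37907)) (Tr.lf (nat_lit 37951))) (Tr.nd (nat_lit 37963) (Tr.lf (nat_lit 37957)) (Tr.lf (nat_lit 37963))))) (Tr.nd (nat_lit 37997) (Tr.nd (nat_lit 37991) (Tr.nd (nat_lit 37987) (Tr.lf (nat_lit 37967)) (Tr.lf (nat_lit 37987))) (Tr.nd (nat_lit 37993) (Tr.lf (nat_lit 37991)) (Tr.lf (nat_lit 37993)))) (Tr.nd (nat_lit 38053) (Tr.nd (nat_lit 38047) (Tr.lf (nat_lit 37997)) (Tr.lf (nat_lit 38047))) (Tr.nd (nat_lit 38069) (Tr.lf (nat_lit 38053)) (Tr.lf (nat_lit 38069))))))) (Tr.nd (nat_lit 38461) (Tr.nd (nat_lit 38371) (Tr.nd (nat_lit 38273) (Tr.nd (nat_lit 38197) (Tr.nd (nat_lit 38183) (Tr.lf (nat_lit 38153)) (Tr.lf (nat_lit 38183))) (Tr.nd (nat_lit 38237) (Tr.lf (nat_lit 38197))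 (Tr.lf (nat_lit 38237)))) (Tr.nd (nat_lit 38287) (Tr.nd (nat_lit 38281) (Tr.lf (nat_lit 38273)) (Tr.lf (nat_lit 38281))) (Tr.nd (nat_lit 38299) (Tr.lf (nat_lit 38287)) (Tr.lf (nat_lit 38299))))) (Tr.nd (nat_lit 38447) (Tr.nd (nat_lit 38393) (Tr.nd (nat_lit 38377) (Tr.lf (nat_lit 38371)) (Tr.lf (nat_lit 38377))) (Tr.nd (nat_lit 38431) (Tr.lf (nat_lit 38393)) (Tr.lf (nat_lit 38431)))) (Tr.nd (nat_lit 38453) (Tr.nd (nat_lit 38449) (Tr.lf (nat_lit 38447)) (Tr.lf (nat_lit 38449))) (Tr.nd (nat_lit 38459) (Tr.lf (nat_lit 38453)) (Tr.lf (nat_lit 38459)))))) (Tr.nd (nat_lit 38603) (Tr.nd (nat_lit 38561) (Tr.nd (nat_lit 38543) (Tr.nd (nat_lit 38501) (Tr.lf (nat_lit 38461)) (Tr.lf (nat_lit 38501))) (Tr.nd (nat_lit 38557) (Tr.lf (nat_lit 38543)) (Tr.lf (nat_lit 38557)))) (Tr.nd (nat_lit 38569) (Tr.nd (nat_lit 38567) (Tr.lf (nat_lit 38561)) (Tr.lf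 (nat_lit 38567))) (Tr.nd (nat_lit 38593) (Tr.lf (nat_lit 38569)) (Tr.lf (nat_lit 38593))))) (Tr.nd (nat_lit 38639) (Tr.nd (nat_lit 38611) (Tr.nd (nat_lit 38609) (Tr.lf (nat_lit 38603)) (Tr.lf (nat_lit 38609))) (Tr.nd (nat_lit 38629) (Tr.lf (nat_lit 38611)) (Tr.lf (nat_lit 38629)))) (Tr.nd (nat_lit 38653) (Tr.nd (nat_lit 38651) (Tr.lf (nat_lit 38639)) (Tr.lf (nat_lit 38651))) (Tr.nd (nat_lit 38669) (Tr.lf (nat_lit 38653)) (Tr.lf (nat_lit 38669)))))))))) (Tr.nd (nat_lit 41269) (Tr.nd (nat_lit 40289) (Tr.nd (nat_lit 39511) (Tr.nd (nat_lit 39217) (Tr.nd (nat_lit 38767) (Tr.nd (nat_lit 38707) (Tr.nd (nat_lit 38693) (Tr.nd (nat_lit 38677) (Tr.lf (nat_lit 38671)) (Tr.lf (nat_lit 38677))) (Tr.nd (nat_lit 38699) (Tr.lf (nat_lit 38693)) (Tr.lf (nat_lit 38699)))) (Tr.nd (nat_lit 38747) (Tr.nd (nat_lit 38737) (Tr.lf (nat_lit 38707)) (Tr.lf (nat_lit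 38737))) (Tr.nd (nat_lit 38749) (Tr.lf (nat_lit 38747)) (Tr.lf (nat_lit 38749))))) (Tr.nd (nat_lit 39019) (Tr.nd (nat_lit 38873) (Tr.nd (nat_lit 38821) (Tr.lf (nat_lit 38767)) (Tr.lf (nat_lit 38821))) (Tr.nd (nat_lit 38959) (Tr.lf (nat_lit 38873)) (Tr.lf (nat_lit 38959)))) (Tr.nd (nat_lit 39113) (Tr.nd (nat_lit 39089) (Tr.lf (nat_lit 39019)) (Tr.lf (nat_lit 39089))) (Tr.nd (nat_lit 39119) (Tr.lf (nat_lit 39113)) (Tr.lf (nat_lit 39119)))))) (Tr.nd (nat_lit 39323) (Tr.nd (nat_lit 39293) (Tr.nd (nat_lit 39241) (Tr.nd (nat_lit 39239) (Tr.lf (nat_lit 39217)) (Tr.lf (nat_lit 39239))) (Tr.nd (nat_lit 39251) (Tr.lf (nat_lit 39241)) (Tr.lf (nat_lit 39251)))) (Tr.nd (nat_lit 39313) (Tr.nd (nat_lit 39301) (Tr.lf (nat_lit 39293)) (Tr.lf (nat_lit 39301))) (Tr.nd (nat_lit 39317) (Tr.lf (nat_lit 39313)) (Tr.lf (nat_lit 39317))))) (Tr.nd (nat_lit 39397)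 (Tr.nd (nat_lit 39359) (Tr.nd (nat_lit 39341) (Tr.lf (nat_lit 39323)) (Tr.lf (nat_lit 39341))) (Tr.nd (nat_lit 39373) (Tr.lf (nat_lit 39359)) (Tr.lf (nat_lit 39373)))) (Tr.nd (nat_lit 39419) (Tr.nd (nat_lit 39409) (Tr.lf (nat_lit 39397)) (Tr.lf (nat_lit 39409))) (Tr.nd (nat_lit 39451) (Tr.lf (nat_lit 39419)) (Tr.lf (nat_lit 39451))))))) (Tr.nd (nat_lit 39863) (Tr.nd (nat_lit 39749) (Tr.nd (nat_lit 39563) (Tr.nd (nat_lit 39541) (Tr.nd (nat_lit 39521) (Tr.lf (nat_lit 39511)) (Tr.lf (nat_lit 39521))) (Tr.nd (nat_lit 39551) (Tr.lf (nat_lit 39541)) (Tr.lf (nat_lit 39551)))) (Tr.nd (nat_lit 39727) (Tr.nd (nat_lit 39679) (Tr.lf (nat_lit 39563)) (Tr.lf (nat_lit 39679))) (Tr.nd (nat_lit 39733) (Tr.lf (nat_lit 39727)) (Tr.lf (nat_lit 39733))))) (Tr.nd (nat_lit 39829) (Tr.nd (nat_lit 39821) (Tr.nd (nat_lit 39769) (Tr.lf (nat_lit 39749)) (Tr.lf (nat_lit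 39769))) (Tr.nd (nat_lit 39827) (Tr.lf (nat_lit 39821)) (Tr.lf (nat_lit 39827)))) (Tr.nd (nat_lit 39847) (Tr.nd (nat_lit 39841) (Tr.lf (nat_lit 39829)) (Tr.lf (nat_lit 39841))) (Tr.nd (nat_lit 39857) (Tr.lf (nat_lit 39847)) (Tr.lf (nat_lit 39857)))))) (Tr.nd (nat_lit 40193) (Tr.nd (nat_lit 40111) (Tr.nd (nat_lit 40009) (Tr.nd (nat_lit 39877) (Tr.lf (nat_lit 39863)) (Tr.lf (nat_lit 39877))) (Tr.nd (nat_lit 40099) (Tr.lf (nat_lit 40009)) (Tr.lf (nat_lit 40099)))) (Tr.nd (nat_lit 40177) (Tr.nd (nat_lit 40169) (Tr.lf (nat_lit 40111)) (Tr.lf (nat_lit 40169))) (Tr.nd (nat_lit 40189) (Tr.lf (nat_lit 40177)) (Tr.lf (nat_lit 40189))))) (Tr.nd (nat_lit 40241) (Tr.nd (nat_lit 40231) (Tr.nd (nat_lit 40213) (Tr.lf (nat_lit 40193)) (Tr.lf (nat_lit 40213))) (Tr.nd (nat_lit 40237) (Tr.lf (nat_lit 40231)) (Tr.lf (nat_lit 40237)))) (Tr.nd (nat_lit 40277)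 (Tr.nd (nat_lit 40253) (Tr.lf (nat_lit 40241)) (Tr.lf (nat_lit 40253))) (Tr.nd (nat_lit 40283) (Tr.lf (nat_lit 40277)) (Tr.lf (nat_lit 40283)))))))) (Tr.nd (nat_lit 40853) (Tr.nd (nat_lit 40507) (Tr.nd (nat_lit 40429) (Tr.nd (nat_lit 40361) (Tr.nd (nat_lit 40351) (Tr.nd (nat_lit 40343) (Tr.lf (nat_lit 40289)) (Tr.lf (nat_lit 40343))) (Tr.nd (nat_lit 40357) (Tr.lf (nat_lit 40351)) (Tr.lf (nat_lit 40357)))) (Tr.nd (nat_lit 40423) (Tr.nd (nat_lit 40387) (Tr.lf (nat_lit 40361)) (Tr.lf (nat_lit 40387))) (Tr.nd (nat_lit 40427) (Tr.lf (nat_lit 40423)) (Tr.lf (nat_lit 40427))))) (Tr.nd (nat_lit 40483) (Tr.nd (nat_lit 40459) (Tr.nd (nat_lit 40433) (Tr.lf (nat_lit 40429)) (Tr.lf (nat_lit 40433))) (Tr.nd (nat_lit 40471) (Tr.lf (nat_lit 40459)) (Tr.lf (nat_lit 40471)))) (Tr.nd (nat_lit 40493) (Tr.nd (nat_lit 40487) (Tr.lf (nat_lit 40483)) (Tr.lf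 (nat_lit 40487))) (Tr.nd (nat_lit 40499) (Tr.lf (nat_lit 40493)) (Tr.lf (nat_lit 40499)))))) (Tr.nd (nat_lit 40709) (Tr.nd (nat_lit 40543) (Tr.nd (nat_lit 40529) (Tr.nd (nat_lit 40519) (Tr.lf (nat_lit 40507)) (Tr.lf (nat_lit 40519))) (Tr.nd (nat_lit 40531) (Tr.lf (nat_lit 40529)) (Tr.lf (nat_lit 40531)))) (Tr.nd (nat_lit 40627) (Tr.nd (nat_lit 40597) (Tr.lf (nat_lit 40543)) (Tr.lf (nat_lit 40597))) (Tr.nd (nat_lit 40637) (Tr.lf (nat_lit 40627)) (Tr.lf (nat_lit 40637))))) (Tr.nd (nat_lit 40763) (Tr.nd (nat_lit 40751) (Tr.nd (nat_lit 40739) (Tr.lf (nat_lit 40709)) (Tr.lf (nat_lit 40739))) (Tr.nd (nat_lit 40759) (Tr.lf (nat_lit 40751)) (Tr.lf (nat_lit 40759)))) (Tr.nd (nat_lit 40787) (Tr.nd (nat_lit 40771) (Tr.lf (nat_lit 40763)) (Tr.lf (nat_lit 40771))) (Tr.nd (nat_lit 40801) (Tr.lf (nat_lit 40787)) (Tr.lf (nat_lit 40801))))))) (Tr.nd (nat_lit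 41149) (Tr.nd (nat_lit 41057) (Tr.nd (nat_lit 40897) (Tr.nd (nat_lit 40879) (Tr.nd (nat_lit 40867) (Tr.lf (nat_lit 40853)) (Tr.lf (nat_lit 40867))) (Tr.nd (nat_lit 40883) (Tr.lf (nat_lit 40879)) (Tr.lf (nat_lit 40883)))) (Tr.nd (nat_lit 41047) (Tr.nd (nat_lit 40927) (Tr.lf (nat_lit 40897)) (Tr.lf (nat_lit 40927))) (Tr.nd (nat_lit 41051) (Tr.lf (nat_lit 41047)) (Tr.lf (nat_lit 41051))))) (Tr.nd (nat_lit 41117) (Tr.nd (nat_lit 41081) (Tr.nd (nat_lit 41077) (Tr.lf (nat_lit 41057)) (Tr.lf (nat_lit 41077))) (Tr.nd (nat_lit 41113) (Tr.lf (nat_lit 41081)) (Tr.lf (nat_lit 41113)))) (Tr.nd (nat_lit 41141) (Tr.nd (nat_lit 41131) (Tr.lf (nat_lit 41117)) (Tr.lf (nat_lit 41131))) (Tr.nd (nat_lit 41143) (Tr.lf (nat_lit 41141)) (Tr.lf (nat_lit 41143)))))) (Tr.nd (nat_lit 41213) (Tr.nd (nat_lit 41183) (Tr.nd (nat_lit 41177) (Tr.nd (nat_lit 41161) (Tr.lf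 (nat_lit 41149)) (Tr.lf (nat_lit 41161))) (Tr.nd (nat_lit 41179) (Tr.lf (nat_lit 41177)) (Tr.lf (nat_lit 41179)))) (Tr.nd (nat_lit 41201) (Tr.nd (nat_lit 41189) (Tr.lf (nat_lit 41183)) (Tr.lf (nat_lit 41189))) (Tr.nd (nat_lit 41203) (Tr.lf (nat_lit 41201)) (Tr.lf (nat_lit 41203))))) (Tr.nd (nat_lit 41233) (Tr.nd (nat_lit 41227) (Tr.nd (nat_lit 41221) (Tr.lf (nat_lit 41213)) (Tr.lf (nat_lit 41221))) (Tr.nd (nat_lit 41231) (Tr.lf (nat_lit 41227)) (Tr.lf (nat_lit 41231)))) (Tr.nd (nat_lit 41257) (Tr.nd (nat_lit 41243) (Tr.lf (nat_lit 41233)) (Tr.lf (nat_lit 41243))) (Tr.nd (nat_lit 41263) (Tr.lf (nat_lit 41257)) (Tr.lf (nat_lit 41263))))))))) (Tr.nd (nat_lit 42379) (Tr.nd (nat_lit 41627) (Tr.nd (nat_lit 41479) (Tr.nd (nat_lit 41387) (Tr.nd (nat_lit 41341) (Tr.nd (nat_lit 41299) (Tr.nd (nat_lit 41281) (Tr.lf (nat_lit 41269)) (Tr.lf (nat_lit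 41281))) (Tr.nd (nat_lit 41333) (Tr.lf (nat_lit 41299)) (Tr.lf (nat_lit 41333)))) (Tr.nd (nat_lit 41357) (Tr.nd (nat_lit 41351) (Tr.lf (nat_lit 41341)) (Tr.lf (nat_lit 41351))) (Tr.nd (nat_lit 41381) (Tr.lf (nat_lit 41357)) (Tr.lf (nat_lit 41381))))) (Tr.nd (nat_lit 41413) (Tr.nd (nat_lit 41399) (Tr.nd (nat_lit 41389) (Tr.lf (nat_lit 41387)) (Tr.lf (nat_lit 41389))) (Tr.nd (nat_lit 41411) (Tr.lf (nat_lit 41399)) (Tr.lf (nat_lit 41411)))) (Tr.nd (nat_lit 41453) (Tr.nd (nat_lit 41443) (Tr.lf (nat_lit 41413)) (Tr.lf (nat_lit 41443))) (Tr.nd (nat_lit 41467) (Tr.lf (nat_lit 41453)) (Tr.lf (nat_lit 41467)))))) (Tr.nd (nat_lit 41579) (Tr.nd (nat_lit 41519) (Tr.nd (nat_lit 41507) (Tr.nd (nat_lit 41491) (Tr.lf (nat_lit 41479)) (Tr.lf (nat_lit 41491))) (Tr.nd (nat_lit 41513) (Tr.lf (nat_lit 41507)) (Tr.lf (nat_lit 41513)))) (Tr.nd (nat_lit 41539)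 (Tr.nd (nat_lit 41521) (Tr.lf (nat_lit 41519)) (Tr.lf (nat_lit 41521))) (Tr.nd (nat_lit 41543) (Tr.lf (nat_lit 41539)) (Tr.lf (nat_lit 41543))))) (Tr.nd (nat_lit 41609) (Tr.nd (nat_lit 41597) (Tr.nd (nat_lit 41593) (Tr.lf (nat_lit 41579)) (Tr.lf (nat_lit 41593))) (Tr.nd (nat_lit 41603) (Tr.lf (nat_lit 41597)) (Tr.lf (nat_lit 41603)))) (Tr.nd (nat_lit 41617) (Tr.nd (nat_lit 41611) (Tr.lf (nat_lit 41609)) (Tr.lf (nat_lit 41611))) (Tr.nd (nat_lit 41621) (Tr.lf (nat_lit 41617)) (Tr.lf (nat_lit 41621))))))) (Tr.nd (nat_lit 41981) (Tr.nd (nat_lit 41843) (Tr.nd (nat_lit 41719) (Tr.nd (nat_lit 41651) (Tr.nd (nat_lit 41641) (Tr.lf (nat_lit 41627)) (Tr.lf (nat_lit 41641))) (Tr.nd (nat_lit 41681) (Tr.lf (nat_lit 41651)) (Tr.lf (nat_lit 41681)))) (Tr.nd (nat_lit 41737) (Tr.nd (nat_lit 41729) (Tr.lf (nat_lit 41719)) (Tr.lf (nat_lit 41729))) (Tr.nd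 (nat_lit 41813) (Tr.lf (nat_lit 41737)) (Tr.lf (nat_lit 41813))))) (Tr.nd (nat_lit 41947) (Tr.nd (nat_lit 41879) (Tr.nd (nat_lit 41849) (Tr.lf (nat_lit 41843)) (Tr.lf (nat_lit 41849))) (Tr.nd (nat_lit 41911) (Tr.lf (nat_lit 41879)) (Tr.lf (nat_lit 41911)))) (Tr.nd (nat_lit 41959) (Tr.nd (nat_lit 41953) (Tr.lf (nat_lit 41947)) (Tr.lf (nat_lit 41953))) (Tr.nd (nat_lit 41969) (Tr.lf (nat_lit 41959)) (Tr.lf (nat_lit 41969)))))) (Tr.nd (nat_lit 42157) (Tr.nd (nat_lit 42073) (Tr.nd (nat_lit 42019) (Tr.nd (nat_lit 42017) (Tr.lf (nat_lit 41981)) (Tr.lf (nat_lit 42017))) (Tr.nd (nat_lit 42071) (Tr.lf (nat_lit 42019)) (Tr.lf (nat_lit 42071)))) (Tr.nd (nat_lit 42101) (Tr.nd (nat_lit 42083) (Tr.lf (nat_lit 42073)) (Tr.lf (nat_lit 42083))) (Tr.nd (nat_lit 42131) (Tr.lf (nat_lit 42101)) (Tr.lf (nat_lit 42131))))) (Tr.nd (nat_lit 42337) (Tr.nd (nat_lit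 42323) (Tr.nd (nat_lit 42307) (Tr.lf (nat_lit 42157)) (Tr.lf (nat_lit 42307))) (Tr.nd (nat_lit 42331) (Tr.lf (nat_lit 42323)) (Tr.lf (nat_lit 42331)))) (Tr.nd (nat_lit 42359) (Tr.nd (nat_lit 42349) (Tr.lf (nat_lit 42337)) (Tr.lf (nat_lit 42349))) (Tr.nd (nat_lit 42373) (Tr.lf (nat_lit 42359)) (Tr.lf (nat_lit 42373)))))))) (Tr.nd (nat_lit 42929) (Tr.nd (nat_lit 42589) (Tr.nd (nat_lit 42461) (Tr.nd (nat_lit 42407) (Tr.nd (nat_lit 42397) (Tr.nd (nat_lit 42391) (Tr.lf (nat_lit 42379)) (Tr.lf (nat_lit 42391))) (Tr.nd (nat_lit 42403) (Tr.lf (nat_lit 42397)) (Tr.lf (nat_lit 42403)))) (Tr.nd (nat_lit 42443) (Tr.nd (nat_lit 42409) (Tr.lf (nat_lit 42407)) (Tr.lf (nat_lit 42409))) (Tr.nd (nat_lit 42457) (Tr.lf (nat_lit 42443)) (Tr.lf (nat_lit 42457))))) (Tr.nd (nat_lit 42509) (Tr.nd (nat_lit 42491) (Tr.nd (nat_lit 42463) (Tr.lf (nat_lit 42461))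 (Tr.lf (nat_lit 42463))) (Tr.nd (nat_lit 42499) (Tr.lf (nat_lit 42491)) (Tr.lf (nat_lit 42499)))) (Tr.nd (nat_lit 42557) (Tr.nd (nat_lit 42533) (Tr.lf (nat_lit 42509)) (Tr.lf (nat_lit 42533))) (Tr.nd (nat_lit 42571) (Tr.lf (nat_lit 42557)) (Tr.lf (nat_lit 42571)))))) (Tr.nd (nat_lit 42689) (Tr.nd (nat_lit 42649) (Tr.nd (nat_lit 42641) (Tr.nd (nat_lit 42611) (Tr.lf (nat_lit 42589)) (Tr.lf (nat_lit 42611))) (Tr.nd (nat_lit 42643) (Tr.lf (nat_lit 42641)) (Tr.lf (nat_lit 42643)))) (Tr.nd (nat_lit 42677) (Tr.nd (nat_lit 42667) (Tr.lf (nat_lit 42649)) (Tr.lf (nat_lit 42667))) (Tr.nd (nat_lit 42683) (Tr.lf (nat_lit 42677)) (Tr.lf (nat_lit 42683))))) (Tr.nd (nat_lit 42829) (Tr.nd (nat_lit 42797) (Tr.nd (nat_lit 42767) (Tr.lf (nat_lit 42689)) (Tr.lf (nat_lit 42767))) (Tr.nd (nat_lit 42821) (Tr.lf (nat_lit 42797)) (Tr.lf (nat_lit 42821)))) (Tr.nd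 (nat_lit 42853) (Tr.nd (nat_lit 42841) (Tr.lf (nat_lit 42829)) (Tr.lf (nat_lit 42841))) (Tr.nd (nat_lit 42923) (Tr.lf (nat_lit 42853)) (Tr.lf (nat_lit 42923))))))) (Tr.nd (nat_lit 43457) (Tr.nd (nat_lit 43177) (Tr.nd (nat_lit 42967) (Tr.nd (nat_lit 42953) (Tr.nd (nat_lit 42937) (Tr.lf (nat_lit 42929)) (Tr.lf (nat_lit 42937))) (Tr.nd (nat_lit 42961) (Tr.lf (nat_lit 42953)) (Tr.lf (nat_lit 42961)))) (Tr.nd (nat_lit 43019) (Tr.nd (nat_lit 43013) (Tr.lf (nat_lit 42967)) (Tr.lf (nat_lit 43013))) (Tr.nd (nat_lit 43037) (Tr.lf (nat_lit 43019)) (Tr.lf (nat_lit 43037))))) (Tr.nd (nat_lit 43331) (Tr.nd (nat_lit 43319) (Tr.nd (nat_lit 43207) (Tr.lf (nat_lit 43177)) (Tr.lf (nat_lit 43207))) (Tr.nd (nat_lit 43321) (Tr.lf (nat_lit 43319)) (Tr.lf (nat_lit 43321)))) (Tr.nd (nat_lit 43397) (Tr.nd (nat_lit 43391) (Tr.lf (nat_lit 43331)) (Tr.lf (nat_lit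 43391))) (Tr.nd (nat_lit 43441) (Tr.lf (nat_lit 43397)) (Tr.lf (nat_lit 43441)))))) (Tr.nd (nat_lit 43577) (Tr.nd (nat_lit 43517) (Tr.nd (nat_lit 43487) (Tr.nd (nat_lit 43481) (Tr.lf (nat_lit 43457)) (Tr.lf (nat_lit 43481))) (Tr.nd (nat_lit 43499) (Tr.lf (nat_lit 43487)) (Tr.lf (nat_lit 43499)))) (Tr.nd (nat_lit 43543) (Tr.nd (nat_lit 43541) (Tr.lf (nat_lit 43517)) (Tr.lf (nat_lit 43541))) (Tr.nd (nat_lit 43573) (Tr.lf (nat_lit 43543)) (Tr.lf (nat_lit 43573))))) (Tr.nd (nat_lit 43607) (Tr.nd (nat_lit 43591) (Tr.nd (nat_lit 43579) (Tr.lf (nat_lit 43577)) (Tr.lf (nat_lit 43579))) (Tr.nd (nat_lit 43597) (Tr.lf (nat_lit 43591)) (Tr.lf (nat_lit 43597)))) (Tr.nd (nat_lit 43613) (Tr.nd (nat_lit 43609) (Tr.lf (nat_lit 43607)) (Tr.lf (nat_lit 43609))) (Tr.nd (nat_lit 43627) (Tr.lf (nat_lit 43613)) (Tr.lf (nat_lit 43627))))))))))) (Tr.nd (nat_lit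 47777) (Tr.nd (nat_lit 45389) (Tr.nd (nat_lit 44687) (Tr.nd (nat_lit 43997) (Tr.nd (nat_lit 43793) (Tr.nd (nat_lit 43721) (Tr.nd (nat_lit 43669) (Tr.nd (nat_lit 43651) (Tr.nd (nat_lit 43649) (Tr.lf (nat_lit 43633)) (Tr.lf (nat_lit 43649))) (Tr.nd (nat_lit 43661) (Tr.lf (nat_lit 43651)) (Tr.lf (nat_lit 43661)))) (Tr.nd (nat_lit 43711) (Tr.nd (nat_lit 43691) (Tr.lf (nat_lit 43669)) (Tr.lf (nat_lit 43691))) (Tr.nd (nat_lit 43717) (Tr.lf (nat_lit 43711)) (Tr.lf (nat_lit 43717))))) (Tr.nd (nat_lit 43781) (Tr.nd (nat_lit 43759) (Tr.nd (nat_lit 43753) (Tr.lf (nat_lit 43721)) (Tr.lf (nat_lit 43753))) (Tr.nd (nat_lit 43777) (Tr.lf (nat_lit 43759)) (Tr.lf (nat_lit 43777)))) (Tr.nd (nat_lit 43787) (Tr.nd (nat_lit 43783) (Tr.lf (nat_lit 43781)) (Tr.lf (nat_lit 43783))) (Tr.nd (nat_lit 43789) (Tr.lf (nat_lit 43787)) (Tr.lf (nat_lit 43789)))))) (Tr.nd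 (nat_lit 43943) (Tr.nd (nat_lit 43889) (Tr.nd (nat_lit 43853) (Tr.nd (nat_lit 43801) (Tr.lf (nat_lit 43793)) (Tr.lf (nat_lit 43801))) (Tr.nd (nat_lit 43867) (Tr.lf (nat_lit 43853)) (Tr.lf (nat_lit 43867)))) (Tr.nd (nat_lit 43913) (Tr.nd (nat_lit 43891) (Tr.lf (nat_lit 43889)) (Tr.lf (nat_lit 43891))) (Tr.nd (nat_lit 43933) (Tr.lf (nat_lit 43913)) (Tr.lf (nat_lit 43933))))) (Tr.nd (nat_lit 43969) (Tr.nd (nat_lit 43961) (Tr.nd (nat_lit 43951) (Tr.lf (nat_lit 43943)) (Tr.lf (nat_lit 43951))) (Tr.nd (nat_lit 43963) (Tr.lf (nat_lit 43961)) (Tr.lf (nat_lit 43963)))) (Tr.nd (nat_lit 43987) (Tr.nd (nat_lit 43973) (Tr.lf (nat_lit 43969)) (Tr.lf (nat_lit 43973))) (Tr.nd (nat_lit 43991) (Tr.lf (nat_lit 43987)) (Tr.lf (nat_lit 43991))))))) (Tr.nd (nat_lit 44249) (Tr.nd (nat_lit 44129) (Tr.nd (nat_lit 44101) (Tr.nd (nat_lit 44053) (Tr.nd (nat_lit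 44017) (Tr.lf (nat_lit 43997)) (Tr.lf (nat_lit 44017))) (Tr.nd (nat_lit 44071) (Tr.lf (nat_lit 44053)) (Tr.lf (nat_lit 44071)))) (Tr.nd (nat_lit 44119) (Tr.nd (nat_lit 44111) (Tr.lf (nat_lit 44101)) (Tr.lf (nat_lit 44111))) (Tr.nd (nat_lit 44123) (Tr.lf (nat_lit 44119)) (Tr.lf (nat_lit 44123))))) (Tr.nd (nat_lit 44201) (Tr.nd (nat_lit 44179) (Tr.nd (nat_lit 44131) (Tr.lf (nat_lit 44129)) (Tr.lf (nat_lit 44131))) (Tr.nd (nat_lit 44189) (Tr.lf (nat_lit 44179)) (Tr.lf (nat_lit 44189)))) (Tr.nd (nat_lit 44207) (Tr.nd (nat_lit 44203) (Tr.lf (nat_lit 44201)) (Tr.lf (nat_lit 44203))) (Tr.nd (nat_lit 44221) (Tr.lf (nat_lit 44207)) (Tr.lf (nat_lit 44221)))))) (Tr.nd (nat_lit 44621) (Tr.nd (nat_lit 44417) (Tr.nd (nat_lit 44267) (Tr.nd (nat_lit 44257) (Tr.lf (nat_lit 44249)) (Tr.lf (nat_lit 44257))) (Tr.nd (nat_lit 44389) (Tr.lf (nat_lit 44267))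 (Tr.lf (nat_lit 44389)))) (Tr.nd (nat_lit 44537) (Tr.nd (nat_lit 44483) (Tr.lf (nat_lit 44417)) (Tr.lf (nat_lit 44483))) (Tr.nd (nat_lit 44617) (Tr.lf (nat_lit 44537)) (Tr.lf (nat_lit 44617))))) (Tr.nd (nat_lit 44647) (Tr.nd (nat_lit 44633) (Tr.nd (nat_lit 44623) (Tr.lf (nat_lit 44621)) (Tr.lf (nat_lit 44623))) (Tr.nd (nat_lit 44641) (Tr.lf (nat_lit 44633)) (Tr.lf (nat_lit 44641)))) (Tr.nd (nat_lit 44657) (Tr.nd (nat_lit 44651) (Tr.lf (nat_lit 44647)) (Tr.lf (nat_lit 44651))) (Tr.nd (nat_lit 44683) (Tr.lf (nat_lit 44657)) (Tr.lf (nat_lit 44683)))))))) (Tr.nd (nat_lit 45013) (Tr.nd (nat_lit 44851) (Tr.nd (nat_lit 44773) (Tr.nd (nat_lit 44729) (Tr.nd (nat_lit 44701) (Tr.nd (nat_lit 44699) (Tr.lf (nat_lit 44687)) (Tr.lf (nat_lit 44699))) (Tr.nd (nat_lit 44711) (Tr.lf (nat_lit 44701)) (Tr.lf (nat_lit 44711)))) (Tr.nd (nat_lit 44753) (Tr.nd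 (nat_lit 44741) (Tr.lf (nat_lit 44729)) (Tr.lf (nat_lit 44741))) (Tr.nd (nat_lit 44771) (Tr.lf (nat_lit 44753)) (Tr.lf (nat_lit 44771))))) (Tr.nd (nat_lit 44809) (Tr.nd (nat_lit 44789) (Tr.nd (nat_lit 44777) (Tr.lf (nat_lit 44773)) (Tr.lf (nat_lit 44777))) (Tr.nd (nat_lit 44797) (Tr.lf (nat_lit 44789)) (Tr.lf (nat_lit 44797)))) (Tr.nd (nat_lit 44839) (Tr.nd (nat_lit 44819) (Tr.lf (nat_lit 44809)) (Tr.lf (nat_lit 44819))) (Tr.nd (nat_lit 44843) (Tr.lf (nat_lit 44839)) (Tr.lf (nat_lit 44843)))))) (Tr.nd (nat_lit 44939) (Tr.nd (nat_lit 44893) (Tr.nd (nat_lit 44879) (Tr.nd (nat_lit 44867) (Tr.lf (nat_lit 44851)) (Tr.lf (nat_lit 44867))) (Tr.nd (nat_lit 44887) (Tr.lf (nat_lit 44879)) (Tr.lf (nat_lit 44887)))) (Tr.nd (nat_lit 44917) (Tr.nd (nat_lit 44909) (Tr.lf (nat_lit 44893)) (Tr.lf (nat_lit 44909))) (Tr.nd (nat_lit 44927) (Tr.lf (nat_lit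 44917)) (Tr.lf (nat_lit 44927))))) (Tr.nd (nat_lit 44971) (Tr.nd (nat_lit 44959) (Tr.nd (nat_lit 44953) (Tr.lf (nat_lit 44939)) (Tr.lf (nat_lit 44953))) (Tr.nd (nat_lit 44963) (Tr.lf (nat_lit 44959)) (Tr.lf (nat_lit 44963)))) (Tr.nd (nat_lit 44987) (Tr.nd (nat_lit 44983) (Tr.lf (nat_lit 44971)) (Tr.lf (nat_lit 44983))) (Tr.nd (nat_lit 45007) (Tr.lf (nat_lit 44987)) (Tr.lf (nat_lit 45007))))))) (Tr.nd (nat_lit 45233) (Tr.nd (nat_lit 45131) (Tr.nd (nat_lit 45083) (Tr.nd (nat_lit 45061) (Tr.nd (nat_lit 45053) (Tr.lf (nat_lit 45013)) (Tr.lf (nat_lit 45053))) (Tr.nd (nat_lit 45077) (Tr.lf (nat_lit 45061)) (Tr.lf (nat_lit 45077)))) (Tr.nd (nat_lit 45121) (Tr.nd (nat_lit 45119) (Tr.lf (nat_lit 45083)) (Tr.lf (nat_lit 45119))) (Tr.nd (nat_lit 45127) (Tr.lf (nat_lit 45121)) (Tr.lf (nat_lit 45127))))) (Tr.nd (nat_lit 45179) (Tr.nd (nat_lit 45139)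 (Tr.nd (nat_lit 45137) (Tr.lf (nat_lit 45131)) (Tr.lf (nat_lit 45137))) (Tr.nd (nat_lit 45161) (Tr.lf (nat_lit 45139)) (Tr.lf (nat_lit 45161)))) (Tr.nd (nat_lit 45191) (Tr.nd (nat_lit 45181) (Tr.lf (nat_lit 45179)) (Tr.lf (nat_lit 45181))) (Tr.nd (nat_lit 45197) (Tr.lf (nat_lit 45191)) (Tr.lf (nat_lit 45197)))))) (Tr.nd (nat_lit 45317) (Tr.nd (nat_lit 45281) (Tr.nd (nat_lit 45259) (Tr.nd (nat_lit 45247) (Tr.lf (nat_lit 45233)) (Tr.lf (nat_lit 45247))) (Tr.nd (nat_lit 45263) (Tr.lf (nat_lit 45259)) (Tr.lf (nat_lit 45263)))) (Tr.nd (nat_lit 45293) (Tr.nd (nat_lit 45289) (Tr.lf (nat_lit 45281)) (Tr.lf (nat_lit 45289))) (Tr.nd (nat_lit 45307) (Tr.lf (nat_lit 45293)) (Tr.lf (nat_lit 45307))))) (Tr.nd (nat_lit 45341) (Tr.nd (nat_lit 45329) (Tr.nd (nat_lit 45319) (Tr.lf (nat_lit 45317)) (Tr.lf (nat_lit 45319))) (Tr.nd (nat_lit 45337) (Tr.lf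 (nat_lit 45329)) (Tr.lf (nat_lit 45337)))) (Tr.nd (nat_lit 45361) (Tr.nd (nat_lit 45343) (Tr.lf (nat_lit 45341)) (Tr.lf (nat_lit 45343))) (Tr.nd (nat_lit 45377) (Tr.lf (nat_lit 45361)) (Tr.lf (nat_lit 45377))))))))) (Tr.nd (nat_lit 46817) (Tr.nd (nat_lit 46153) (Tr.nd (nat_lit 45659) (Tr.nd (nat_lit 45503) (Tr.nd (nat_lit 45439) (Tr.nd (nat_lit 45413) (Tr.nd (nat_lit 45403) (Tr.lf (nat_lit 45389)) (Tr.lf (nat_lit 45403))) (Tr.nd (nat_lit 45427) (Tr.lf (nat_lit 45413)) (Tr.lf (nat_lit 45427)))) (Tr.nd (nat_lit 45491) (Tr.nd (nat_lit 45481) (Tr.lf (nat_lit 45439)) (Tr.lf (nat_lit 45481))) (Tr.nd (nat_lit 45497) (Tr.lf (nat_lit 45491)) (Tr.lf (nat_lit 45497))))) (Tr.nd (nat_lit 45569) (Tr.nd (nat_lit 45533) (Tr.nd (nat_lit 45523) (Tr.lf (nat_lit 45503)) (Tr.lf (nat_lit 45523))) (Tr.nd (nat_lit 45557) (Tr.lf (nat_lit 45533)) (Tr.lf (nat_lit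 45557)))) (Tr.nd (nat_lit 45589) (Tr.nd (nat_lit 45587) (Tr.lf (nat_lit 45569)) (Tr.lf (nat_lit 45587))) (Tr.nd (nat_lit 45641) (Tr.lf (nat_lit 45589)) (Tr.lf (nat_lit 45641)))))) (Tr.nd (nat_lit 45833) (Tr.nd (nat_lit 45697) (Tr.nd (nat_lit 45673) (Tr.nd (nat_lit 45667) (Tr.lf (nat_lit 45659)) (Tr.lf (nat_lit 45667))) (Tr.nd (nat_lit 45677) (Tr.lf (nat_lit 45673)) (Tr.lf (nat_lit 45677)))) (Tr.nd (nat_lit 45779) (Tr.nd (nat_lit 45757) (Tr.lf (nat_lit 45697)) (Tr.lf (nat_lit 45757))) (Tr.nd (nat_lit 45823) (Tr.lf (nat_lit 45779)) (Tr.lf (nat_lit 45823))))) (Tr.nd (nat_lit 45943) (Tr.nd (nat_lit 45869) (Tr.nd (nat_lit 45863) (Tr.lf (nat_lit 45833)) (Tr.lf (nat_lit 45863))) (Tr.nd (nat_lit 45887) (Tr.lf (nat_lit 45869)) (Tr.lf (nat_lit 45887)))) (Tr.nd (nat_lit 45953) (Tr.nd (nat_lit 45949) (Tr.lf (nat_lit 45943)) (Tr.lf (nat_lit 45949)))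 (Tr.nd (nat_lit 45971) (Tr.lf (nat_lit 45953)) (Tr.lf (nat_lit 45971))))))) (Tr.nd (nat_lit 46489) (Tr.nd (nat_lit 46307) (Tr.nd (nat_lit 46261) (Tr.nd (nat_lit 46229) (Tr.nd (nat_lit 46219) (Tr.lf (nat_lit 46153)) (Tr.lf (nat_lit 46219))) (Tr.nd (nat_lit 46237) (Tr.lf (nat_lit 46229)) (Tr.lf (nat_lit 46237)))) (Tr.nd (nat_lit 46273) (Tr.nd (nat_lit 46271) (Tr.lf (nat_lit 46261)) (Tr.lf (nat_lit 46271))) (Tr.nd (nat_lit 46301) (Tr.lf (nat_lit 46273)) (Tr.lf (nat_lit 46301))))) (Tr.nd (nat_lit 46351) (Tr.nd (nat_lit 46337) (Tr.nd (nat_lit 46309) (Tr.lf (nat_lit 46307)) (Tr.lf (nat_lit 46309))) (Tr.nd (nat_lit 46349) (Tr.lf (nat_lit 46337)) (Tr.lf (nat_lit 46349)))) (Tr.nd (nat_lit 46457) (Tr.nd (nat_lit 46451) (Tr.lf (nat_lit 46351)) (Tr.lf (nat_lit 46451))) (Tr.nd (nat_lit 46477) (Tr.lf (nat_lit 46457)) (Tr.lf (nat_lit 46477)))))) (Tr.nd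 (nat_lit 46573) (Tr.nd (nat_lit 46523) (Tr.nd (nat_lit 46507) (Tr.nd (nat_lit 46499) (Tr.lf (nat_lit 46489)) (Tr.lf (nat_lit 46499))) (Tr.nd (nat_lit 46511) (Tr.lf (nat_lit 46507)) (Tr.lf (nat_lit 46511)))) (Tr.nd (nat_lit 46559) (Tr.nd (nat_lit 46549) (Tr.lf (nat_lit 46523)) (Tr.lf (nat_lit 46549))) (Tr.nd (nat_lit 46567) (Tr.lf (nat_lit 46559)) (Tr.lf (nat_lit 46567))))) (Tr.nd (nat_lit 46679) (Tr.nd (nat_lit 46649) (Tr.nd (nat_lit 46589) (Tr.lf (nat_lit 46573)) (Tr.lf (nat_lit 46589))) (Tr.nd (nat_lit 46663) (Tr.lf (nat_lit 46649)) (Tr.lf (nat_lit 46663)))) (Tr.nd (nat_lit 46807) (Tr.nd (nat_lit 46727) (Tr.lf (nat_lit 46679)) (Tr.lf (nat_lit 46727))) (Tr.nd (nat_lit 46811) (Tr.lf (nat_lit 46807)) (Tr.lf (nat_lit 46811)))))))) (Tr.nd (nat_lit 47441) (Tr.nd (nat_lit 47279) (Tr.nd (nat_lit 47123) (Tr.nd (nat_lit 46901) (Tr.nd (nat_lit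 46861) (Tr.nd (nat_lit 46819) (Tr.lf (nat_lit 46817)) (Tr.lf (nat_lit 46819))) (Tr.nd (nat_lit 46889) (Tr.lf (nat_lit 46861)) (Tr.lf (nat_lit 46889)))) (Tr.nd (nat_lit 47093) (Tr.nd (nat_lit 46919) (Tr.lf (nat_lit 46901)) (Tr.lf (nat_lit 46919))) (Tr.nd (nat_lit 47119) (Tr.lf (nat_lit 47093)) (Tr.lf (nat_lit 47119))))) (Tr.nd (nat_lit 47221) (Tr.nd (nat_lit 47189) (Tr.nd (nat_lit 47161) (Tr.lf (nat_lit 47123)) (Tr.lf (nat_lit 47161))) (Tr.nd (nat_lit 47207) (Tr.lf (nat_lit 47189)) (Tr.lf (nat_lit 47207)))) (Tr.nd (nat_lit 47251) (Tr.nd (nat_lit 47237) (Tr.lf (nat_lit 47221)) (Tr.lf (nat_lit 47237))) (Tr.nd (nat_lit 47269) (Tr.lf (nat_lit 47251)) (Tr.lf (nat_lit 47269)))))) (Tr.nd (nat_lit 47363) (Tr.nd (nat_lit 47317) (Tr.nd (nat_lit 47297) (Tr.nd (nat_lit 47287) (Tr.lf (nat_lit 47279)) (Tr.lf (nat_lit 47287))) (Tr.nd (nat_lit 47309)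 (Tr.lf (nat_lit 47297)) (Tr.lf (nat_lit 47309)))) (Tr.nd (nat_lit 47351) (Tr.nd (nat_lit 47339) (Tr.lf (nat_lit 47317)) (Tr.lf (nat_lit 47339))) (Tr.nd (nat_lit 47353) (Tr.lf (nat_lit 47351)) (Tr.lf (nat_lit 47353))))) (Tr.nd (nat_lit 47407) (Tr.nd (nat_lit 47387) (Tr.nd (nat_lit 47381) (Tr.lf (nat_lit 47363)) (Tr.lf (nat_lit 47381))) (Tr.nd (nat_lit 47389) (Tr.lf (nat_lit 47387)) (Tr.lf (nat_lit 47389)))) (Tr.nd (nat_lit 47419) (Tr.nd (nat_lit 47417) (Tr.lf (nat_lit 47407)) (Tr.lf (nat_lit 47417))) (Tr.nd (nat_lit 47431) (Tr.lf (nat_lit 47419)) (Tr.lf (nat_lit 47431))))))) (Tr.nd (nat_lit 47609) (Tr.nd (nat_lit 47527) (Tr.nd (nat_lit 47501) (Tr.nd (nat_lit 47491) (Tr.nd (nat_lit 47459) (Tr.lf (nat_lit 47441)) (Tr.lf (nat_lit 47459))) (Tr.nd (nat_lit 47497) (Tr.lf (nat_lit 47491)) (Tr.lf (nat_lit 47497)))) (Tr.nd (nat_lit 47513) (Tr.nd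 (nat_lit 47507) (Tr.lf (nat_lit 47501)) (Tr.lf (nat_lit 47507))) (Tr.nd (nat_lit 47521) (Tr.lf (nat_lit 47513)) (Tr.lf (nat_lit 47521))))) (Tr.nd (nat_lit 47569) (Tr.nd (nat_lit 47543) (Tr.nd (nat_lit 47533) (Tr.lf (nat_lit 47527)) (Tr.lf (nat_lit 47533))) (Tr.nd (nat_lit 47563) (Tr.lf (nat_lit 47543)) (Tr.lf (nat_lit 47563)))) (Tr.nd (nat_lit 47591) (Tr.nd (nat_lit 47581) (Tr.lf (nat_lit 47569)) (Tr.lf (nat_lit 47581))) (Tr.nd (nat_lit 47599) (Tr.lf (nat_lit 47591)) (Tr.lf (nat_lit 47599)))))) (Tr.nd (nat_lit 47699) (Tr.nd (nat_lit 47653) (Tr.nd (nat_lit 47629) (Tr.nd (nat_lit 47623) (Tr.lf (nat_lit 47609)) (Tr.lf (nat_lit 47623))) (Tr.nd (nat_lit 47639) (Tr.lf (nat_lit 47629)) (Tr.lf (nat_lit 47639)))) (Tr.nd (nat_lit 47659) (Tr.nd (nat_lit 47657) (Tr.lf (nat_lit 47653)) (Tr.lf (nat_lit 47657))) (Tr.nd (nat_lit 47681) (Tr.lf (nat_lit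 47659)) (Tr.lf (nat_lit 47681))))) (Tr.nd (nat_lit 47717) (Tr.nd (nat_lit 47711) (Tr.nd (nat_lit 47701) (Tr.lf (nat_lit 47699)) (Tr.lf (nat_lit 47701))) (Tr.nd (nat_lit 47713) (Tr.lf (nat_lit 47711)) (Tr.lf (nat_lit 47713)))) (Tr.nd (nat_lit 47741) (Tr.nd (nat_lit 47737) (Tr.lf (nat_lit 47717)) (Tr.lf (nat_lit 47737))) (Tr.nd (nat_lit 47743) (Tr.lf (nat_lit 47741)) (Tr.lf (nat_lit 47743)))))))))) (Tr.nd (nat_lit 49459) (Tr.nd (nat_lit 48779) (Tr.nd (nat_lit 48449) (Tr.nd (nat_lit 47977) (Tr.nd (nat_lit 47843) (Tr.nd (nat_lit 47807) (Tr.nd (nat_lit 47791) (Tr.nd (nat_lit 47779) (Tr.lf (nat_lit 47777)) (Tr.lf (nat_lit 47779))) (Tr.nd (nat_lit 47797) (Tr.lf (nat_lit 47791)) (Tr.lf (nat_lit 47797)))) (Tr.nd (nat_lit 47819) (Tr.nd (nat_lit 47809) (Tr.lf (nat_lit 47807)) (Tr.lf (nat_lit 47809))) (Tr.nd (nat_lit 47837) (Tr.lf (nat_lit 47819))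 (Tr.lf (nat_lit 47837))))) (Tr.nd (nat_lit 47947) (Tr.nd (nat_lit 47911) (Tr.nd (nat_lit 47903) (Tr.lf (nat_lit 47843)) (Tr.lf (nat_lit 47903))) (Tr.nd (nat_lit 47939) (Tr.lf (nat_lit 47911)) (Tr.lf (nat_lit 47939)))) (Tr.nd (nat_lit 47963) (Tr.nd (nat_lit 47951) (Tr.lf (nat_lit 47947)) (Tr.lf (nat_lit 47951))) (Tr.nd (nat_lit 47969) (Tr.lf (nat_lit 47963)) (Tr.lf (nat_lit 47969)))))) (Tr.nd (nat_lit 48271) (Tr.nd (nat_lit 48029) (Tr.nd (nat_lit 48017) (Tr.nd (nat_lit 47981) (Tr.lf (nat_lit 47977)) (Tr.lf (nat_lit 47981))) (Tr.nd (nat_lit 48023) (Tr.lf (nat_lit 48017)) (Tr.lf (nat_lit 48023)))) (Tr.nd (nat_lit 48179) (Tr.nd (nat_lit 48079) (Tr.lf (nat_lit 48029)) (Tr.lf (nat_lit 48079))) (Tr.nd (nat_lit 48247) (Tr.lf (nat_lit 48179)) (Tr.lf (nat_lit 48247))))) (Tr.nd (nat_lit 48383) (Tr.nd (nat_lit 48299) (Tr.nd (nat_lit 48281) (Tr.lf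 (nat_lit 48271)) (Tr.lf (nat_lit 48281))) (Tr.nd (nat_lit 48371) (Tr.lf (nat_lit 48299)) (Tr.lf (nat_lit 48371)))) (Tr.nd (nat_lit 48413) (Tr.nd (nat_lit 48409) (Tr.lf (nat_lit 48383)) (Tr.lf (nat_lit 48409))) (Tr.nd (nat_lit 48437) (Tr.lf (nat_lit 48413)) (Tr.lf (nat_lit 48437))))))) (Tr.nd (nat_lit 48593) (Tr.nd (nat_lit 48523) (Tr.nd (nat_lit 48481) (Tr.nd (nat_lit 48473) (Tr.nd (nat_lit 48463) (Tr.lf (nat_lit 48449)) (Tr.lf (nat_lit 48463))) (Tr.nd (nat_lit 48479) (Tr.lf (nat_lit 48473)) (Tr.lf (nat_lit 48479)))) (Tr.nd (nat_lit 48491) (Tr.nd (nat_lit 48487) (Tr.lf (nat_lit 48481)) (Tr.lf (nat_lit 48487))) (Tr.nd (nat_lit 48497) (Tr.lf (nat_lit 48491)) (Tr.lf (nat_lit 48497))))) (Tr.nd (nat_lit 48541) (Tr.nd (nat_lit 48533) (Tr.nd (nat_lit 48527) (Tr.lf (nat_lit 48523)) (Tr.lf (nat_lit 48527))) (Tr.nd (nat_lit 48539) (Tr.lf (nat_lit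 48533)) (Tr.lf (nat_lit 48539)))) (Tr.nd (nat_lit 48571) (Tr.nd (nat_lit 48563) (Tr.lf (nat_lit 48541)) (Tr.lf (nat_lit 48563))) (Tr.nd (nat_lit 48589) (Tr.lf (nat_lit 48571)) (Tr.lf (nat_lit 48589)))))) (Tr.nd (nat_lit 48677) (Tr.nd (nat_lit 48647) (Tr.nd (nat_lit 48619) (Tr.nd (nat_lit 48611) (Tr.lf (nat_lit 48593)) (Tr.lf (nat_lit 48611))) (Tr.nd (nat_lit 48623) (Tr.lf (nat_lit 48619)) (Tr.lf (nat_lit 48623)))) (Tr.nd (nat_lit 48661) (Tr.nd (nat_lit 48649) (Tr.lf (nat_lit 48647)) (Tr.lf (nat_lit 48649))) (Tr.nd (nat_lit 48673) (Tr.lf (nat_lit 48661)) (Tr.lf (nat_lit 48673))))) (Tr.nd (nat_lit 48751) (Tr.nd (nat_lit 48731) (Tr.nd (nat_lit 48679) (Tr.lf (nat_lit 48677)) (Tr.lf (nat_lit 48679))) (Tr.nd (nat_lit 48733) (Tr.lf (nat_lit 48731)) (Tr.lf (nat_lit 48733)))) (Tr.nd (nat_lit 48761) (Tr.nd (nat_lit 48757) (Tr.lf (nat_lit 48751))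 (Tr.lf (nat_lit 48757))) (Tr.nd (nat_lit 48767) (Tr.lf (nat_lit 48761)) (Tr.lf (nat_lit 48767)))))))) (Tr.nd (nat_lit 49109) (Tr.nd (nat_lit 48947) (Tr.nd (nat_lit 48847) (Tr.nd (nat_lit 48809) (Tr.nd (nat_lit 48787) (Tr.nd (nat_lit 48781) (Tr.lf (nat_lit 48779)) (Tr.lf (nat_lit 48781))) (Tr.nd (nat_lit 48799) (Tr.lf (nat_lit 48787)) (Tr.lf (nat_lit 48799)))) (Tr.nd (nat_lit 48821) (Tr.nd (nat_lit 48817) (Tr.lf (nat_lit 48809)) (Tr.lf (nat_lit 48817))) (Tr.nd (nat_lit 48823) (Tr.lf (nat_lit 48821)) (Tr.lf (nat_lit 48823))))) (Tr.nd (nat_lit 48871) (Tr.nd (nat_lit 48859) (Tr.nd (nat_lit 48857) (Tr.lf (nat_lit 48847)) (Tr.lf (nat_lit 48857))) (Tr.nd (nat_lit 48869) (Tr.lf (nat_lit 48859)) (Tr.lf (nat_lit 48869)))) (Tr.nd (nat_lit 48889) (Tr.nd (nat_lit 48883) (Tr.lf (nat_lit 48871)) (Tr.lf (nat_lit 48883))) (Tr.nd (nat_lit 48907) (Tr.lf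 (nat_lit 48889)) (Tr.lf (nat_lit 48907)))))) (Tr.nd (nat_lit 49031) (Tr.nd (nat_lit 48991) (Tr.nd (nat_lit 48973) (Tr.nd (nat_lit 48953) (Tr.lf (nat_lit 48947)) (Tr.lf (nat_lit 48953))) (Tr.nd (nat_lit 48989) (Tr.lf (nat_lit 48973)) (Tr.lf (nat_lit 48989)))) (Tr.nd (nat_lit 49009) (Tr.nd (nat_lit 49003) (Tr.lf (nat_lit 48991)) (Tr.lf (nat_lit 49003))) (Tr.nd (nat_lit 49019) (Tr.lf (nat_lit 49009)) (Tr.lf (nat_lit 49019))))) (Tr.nd (nat_lit 49057) (Tr.nd (nat_lit 49037) (Tr.nd (nat_lit 49033) (Tr.lf (nat_lit 49031)) (Tr.lf (nat_lit 49033))) (Tr.nd (nat_lit 49043) (Tr.lf (nat_lit 49037)) (Tr.lf (nat_lit 49043)))) (Tr.nd (nat_lit 49081) (Tr.nd (nat_lit 49069) (Tr.lf (nat_lit 49057)) (Tr.lf (nat_lit 49069))) (Tr.nd (nat_lit 49103) (Tr.lf (nat_lit 49081)) (Tr.lf (nat_lit 49103))))))) (Tr.nd (nat_lit 49277) (Tr.nd (nat_lit 49193) (Tr.nd (nat_lit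 49157) (Tr.nd (nat_lit 49123) (Tr.nd (nat_lit 49121) (Tr.lf (nat_lit 49109)) (Tr.lf (nat_lit 49121))) (Tr.nd (nat_lit 49139) (Tr.lf (nat_lit 49123)) (Tr.lf (nat_lit 49139)))) (Tr.nd (nat_lit 49171) (Tr.nd (nat_lit 49169) (Tr.lf (nat_lit 49157)) (Tr.lf (nat_lit 49169))) (Tr.nd (nat_lit 49177) (Tr.lf (nat_lit 49171)) (Tr.lf (nat_lit 49177))))) (Tr.nd (nat_lit 49211) (Tr.nd (nat_lit 49201) (Tr.nd (nat_lit 49199) (Tr.lf (nat_lit 49193)) (Tr.lf (nat_lit 49199))) (Tr.nd (nat_lit 49207) (Tr.lf (nat_lit 49201)) (Tr.lf (nat_lit 49207)))) (Tr.nd (nat_lit 49253) (Tr.nd (nat_lit 49223) (Tr.lf (nat_lit 49211)) (Tr.lf (nat_lit 49223))) (Tr.nd (nat_lit 49261) (Tr.lf (nat_lit 49253)) (Tr.lf (nat_lit 49261)))))) (Tr.nd (nat_lit 49391) (Tr.nd (nat_lit 49331) (Tr.nd (nat_lit 49297) (Tr.nd (nat_lit 49279) (Tr.lf (nat_lit 49277)) (Tr.lf (nat_lit 49279)))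 (Tr.nd (nat_lit 49307) (Tr.lf (nat_lit 49297)) (Tr.lf (nat_lit 49307)))) (Tr.nd (nat_lit 49363) (Tr.nd (nat_lit 49333) (Tr.lf (nat_lit 49331)) (Tr.lf (nat_lit 49333))) (Tr.nd (nat_lit 49369) (Tr.lf (nat_lit 49363)) (Tr.lf (nat_lit 49369))))) (Tr.nd (nat_lit 49417) (Tr.nd (nat_lit 49409) (Tr.nd (nat_lit 49393) (Tr.lf (nat_lit 49391)) (Tr.lf (nat_lit 49393))) (Tr.nd (nat_lit 49411) (Tr.lf (nat_lit 49409)) (Tr.lf (nat_lit 49411)))) (Tr.nd (nat_lit 49433) (Tr.nd (nat_lit 49429) (Tr.lf (nat_lit 49417)) (Tr.lf (nat_lit 49429))) (Tr.nd (nat_lit 49451) (Tr.lf (nat_lit 49433)) (Tr.lf (nat_lit 49451))))))))) (Tr.nd (nat_lit 50581) (Tr.nd (nat_lit 50131) (Tr.nd (nat_lit 49789) (Tr.nd (nat_lit 49547) (Tr.nd (nat_lit 49523) (Tr.nd (nat_lit 49477) (Tr.nd (nat_lit 49463) (Tr.lf (nat_lit 49459)) (Tr.lf (nat_lit 49463))) (Tr.nd (nat_lit 49481) (Tr.lf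 (nat_lit 49477)) (Tr.lf (nat_lit 49481)))) (Tr.nd (nat_lit 49531) (Tr.nd (nat_lit 49529) (Tr.lf (nat_lit 49523)) (Tr.lf (nat_lit 49529))) (Tr.nd (nat_lit 49537) (Tr.lf (nat_lit 49531)) (Tr.lf (nat_lit 49537))))) (Tr.nd (nat_lit 49633) (Tr.nd (nat_lit 49559) (Tr.nd (nat_lit 49549) (Tr.lf (nat_lit 49547)) (Tr.lf (nat_lit 49549))) (Tr.nd (nat_lit 49597) (Tr.lf (nat_lit 49559)) (Tr.lf (nat_lit 49597)))) (Tr.nd (nat_lit 49757) (Tr.nd (nat_lit 49747) (Tr.lf (nat_lit 49633)) (Tr.lf (nat_lit 49747))) (Tr.nd (nat_lit 49783) (Tr.lf (nat_lit 49757)) (Tr.lf (nat_lit 49783)))))) (Tr.nd (nat_lit 49991) (Tr.nd (nat_lit 49891) (Tr.nd (nat_lit 49853) (Tr.nd (nat_lit 49843) (Tr.lf (nat_lit 49789)) (Tr.lf (nat_lit 49843))) (Tr.nd (nat_lit 49877) (Tr.lf (nat_lit 49853)) (Tr.lf (nat_lit 49877)))) (Tr.nd (nat_lit 49921) (Tr.nd (nat_lit 49919) (Tr.lf (nat_lit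 49891)) (Tr.lf (nat_lit 49919))) (Tr.nd (nat_lit 49927) (Tr.lf (nat_lit 49921)) (Tr.lf (nat_lit 49927))))) (Tr.nd (nat_lit 50111) (Tr.nd (nat_lit 50087) (Tr.nd (nat_lit 50047) (Tr.lf (nat_lit 49991)) (Tr.lf (nat_lit 50047))) (Tr.nd (nat_lit 50101) (Tr.lf (nat_lit 50087)) (Tr.lf (nat_lit 50101)))) (Tr.nd (nat_lit 50123) (Tr.nd (nat_lit 50119) (Tr.lf (nat_lit 50111)) (Tr.lf (nat_lit 50119))) (Tr.nd (nat_lit 50129) (Tr.lf (nat_lit 50123)) (Tr.lf (nat_lit 50129))))))) (Tr.nd (nat_lit 50383) (Tr.nd (nat_lit 50273) (Tr.nd (nat_lit 50227) (Tr.nd (nat_lit 50207) (Tr.nd (nat_lit 50147) (Tr.lf (nat_lit 50131)) (Tr.lf (nat_lit 50147))) (Tr.nd (nat_lit 50221) (Tr.lf (nat_lit 50207)) (Tr.lf (nat_lit 50221)))) (Tr.nd (nat_lit 50261) (Tr.nd (nat_lit 50231) (Tr.lf (nat_lit 50227)) (Tr.lf (nat_lit 50231))) (Tr.nd (nat_lit 50263) (Tr.lf (nat_lit 50261))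 (Tr.lf (nat_lit 50263))))) (Tr.nd (nat_lit 50329) (Tr.nd (nat_lit 50291) (Tr.nd (nat_lit 50287) (Tr.lf (nat_lit 50273)) (Tr.lf (nat_lit 50287))) (Tr.nd (nat_lit 50311) (Tr.lf (nat_lit 50291)) (Tr.lf (nat_lit 50311)))) (Tr.nd (nat_lit 50341) (Tr.nd (nat_lit 50333) (Tr.lf (nat_lit 50329)) (Tr.lf (nat_lit 50333))) (Tr.nd (nat_lit 50377) (Tr.lf (nat_lit 50341)) (Tr.lf (nat_lit 50377)))))) (Tr.nd (nat_lit 50497) (Tr.nd (nat_lit 50423) (Tr.nd (nat_lit 50411) (Tr.nd (nat_lit 50387) (Tr.lf (nat_lit 50383)) (Tr.lf (nat_lit 50387))) (Tr.nd (nat_lit 50417) (Tr.lf (nat_lit 50411)) (Tr.lf (nat_lit 50417)))) (Tr.nd (nat_lit 50459) (Tr.nd (nat_lit 50441) (Tr.lf (nat_lit 50423)) (Tr.lf (nat_lit 50441))) (Tr.nd (nat_lit 50461) (Tr.lf (nat_lit 50459)) (Tr.lf (nat_lit 50461))))) (Tr.nd (nat_lit 50539) (Tr.nd (nat_lit 50513) (Tr.nd (nat_lit 50503) (Tr.lf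 (nat_lit 50497)) (Tr.lf (nat_lit 50503))) (Tr.nd (nat_lit 50527) (Tr.lf (nat_lit 50513)) (Tr.lf (nat_lit 50527)))) (Tr.nd (nat_lit 50549) (Tr.nd (nat_lit 50543) (Tr.lf (nat_lit 50539)) (Tr.lf (nat_lit 50543))) (Tr.nd (nat_lit 50551) (Tr.lf (nat_lit 50549)) (Tr.lf (nat_lit 50551)))))))) (Tr.nd (nat_lit 51131) (Tr.nd (nat_lit 50833) (Tr.nd (nat_lit 50671) (Tr.nd (nat_lit 50599) (Tr.nd (nat_lit 50591) (Tr.nd (nat_lit 50587) (Tr.lf (nat_lit 50581)) (Tr.lf (nat_lit 50587))) (Tr.nd (nat_lit 50593) (Tr.lf (nat_lit 50591)) (Tr.lf (nat_lit 50593)))) (Tr.nd (nat_lit 50647) (Tr.nd (nat_lit 50627) (Tr.lf (nat_lit 50599)) (Tr.lf (nat_lit 50627))) (Tr.nd (nat_lit 50651) (Tr.lf (nat_lit 50647)) (Tr.lf (nat_lit 50651))))) (Tr.nd (nat_lit 50753) (Tr.nd (nat_lit 50723) (Tr.nd (nat_lit 50707) (Tr.lf (nat_lit 50671)) (Tr.lf (nat_lit 50707))) (Tr.nd (nat_lit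 50741) (Tr.lf (nat_lit 50723)) (Tr.lf (nat_lit 50741)))) (Tr.nd (nat_lit 50773) (Tr.nd (nat_lit 50767) (Tr.lf (nat_lit 50753)) (Tr.lf (nat_lit 50767))) (Tr.nd (nat_lit 50821) (Tr.lf (nat_lit 50773)) (Tr.lf (nat_lit 50821)))))) (Tr.nd (nat_lit 51001) (Tr.nd (nat_lit 50969) (Tr.nd (nat_lit 50951) (Tr.nd (nat_lit 50929) (Tr.lf (nat_lit 50833)) (Tr.lf (nat_lit 50929))) (Tr.nd (nat_lit 50957) (Tr.lf (nat_lit 50951)) (Tr.lf (nat_lit 50957)))) (Tr.nd (nat_lit 50989) (Tr.nd (nat_lit 50971) (Tr.lf (nat_lit 50969)) (Tr.lf (nat_lit 50971))) (Tr.nd (nat_lit 50993) (Tr.lf (nat_lit 50989)) (Tr.lf (nat_lit 50993))))) (Tr.nd (nat_lit 51059) (Tr.nd (nat_lit 51043) (Tr.nd (nat_lit 51031) (Tr.lf (nat_lit 51001)) (Tr.lf (nat_lit 51031))) (Tr.nd (nat_lit 51047) (Tr.lf (nat_lit 51043)) (Tr.lf (nat_lit 51047)))) (Tr.nd (nat_lit 51071) (Tr.nd (nat_lit 51061)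 (Tr.lf (nat_lit 51059)) (Tr.lf (nat_lit 51061))) (Tr.nd (nat_lit 51109) (Tr.lf (nat_lit 51071)) (Tr.lf (nat_lit 51109))))))) (Tr.nd (nat_lit 51287) (Tr.nd (nat_lit 51199) (Tr.nd (nat_lit 51157) (Tr.nd (nat_lit 51137) (Tr.nd (nat_lit 51133) (Tr.lf (nat_lit 51131)) (Tr.lf (nat_lit 51133))) (Tr.nd (nat_lit 51151) (Tr.lf (nat_lit 51137)) (Tr.lf (nat_lit 51151)))) (Tr.nd (nat_lit 51193) (Tr.nd (nat_lit 51169) (Tr.lf (nat_lit 51157)) (Tr.lf (nat_lit 51169))) (Tr.nd (nat_lit 51197) (Tr.lf (nat_lit 51193)) (Tr.lf (nat_lit 51197))))) (Tr.nd (nat_lit 51241) (Tr.nd (nat_lit 51217) (Tr.nd (nat_lit 51203) (Tr.lf (nat_lit 51199)) (Tr.lf (nat_lit 51203))) (Tr.nd (nat_lit 51229) (Tr.lf (nat_lit 51217)) (Tr.lf (nat_lit 51229)))) (Tr.nd (nat_lit 51263) (Tr.nd (nat_lit 51257) (Tr.lf (nat_lit 51241)) (Tr.lf (nat_lit 51257))) (Tr.nd (nat_lit 51283) (Tr.lf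 (nat_lit 51263)) (Tr.lf (nat_lit 51283)))))) (Tr.nd (nat_lit 51407) (Tr.nd (nat_lit 51347) (Tr.nd (nat_lit 51341) (Tr.nd (nat_lit 51329) (Tr.lf (nat_lit 51287)) (Tr.lf (nat_lit 51329))) (Tr.nd (nat_lit 51343) (Tr.lf (nat_lit 51341)) (Tr.lf (nat_lit 51343)))) (Tr.nd (nat_lit 51361) (Tr.nd (nat_lit 51349) (Tr.lf (nat_lit 51347)) (Tr.lf (nat_lit 51349))) (Tr.nd (nat_lit 51383) (Tr.lf (nat_lit 51361)) (Tr.lf (nat_lit 51383))))) (Tr.nd (nat_lit 51581) (Tr.nd (nat_lit 51563) (Tr.nd (nat_lit 51431) (Tr.lf (nat_lit 51407)) (Tr.lf (nat_lit 51431))) (Tr.nd (nat_lit 51577) (Tr.lf (nat_lit 51563)) (Tr.lf (nat_lit 51577)))) (Tr.nd (nat_lit 51607) (Tr.nd (nat_lit 51593) (Tr.lf (nat_lit 51581)) (Tr.lf (nat_lit 51593))) (Tr.nd (nat_lit 51613) (Tr.lf (nat_lit 51607)) (Tr.lf (nat_lit 51613))))))))))))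
noncomputable def HP2 : ℕ → ℕ := fun q => Nat.add (Nat.mod HP2t q) (nat_lit 32768)
noncomputable def HR2 : ℕ → ℕ := fun q => (Nat.mod HR2t q)
noncomputable def HW2 : ℕ → ℕ := fun q => (Nat.mod HW2t q)
theorem tree2 : Tr.all (treeP LB2 stp HP2 HR2 HW2 WL2 (fun q => Nat.beq (nat_lit 32783) q)) LB2 = true := by decide +kernel
theorem sub2 : Tr.all (mem L) LB2 = true := by decide +kernel
theorem bst2 : bst LB2 32768 65536 = true := by decide +kernel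
theorem size2 : size LB2 = 1024 := by decide +kernel
noncomputable def WL3 : List (List Col) := [[TCG_Suz.Col.b, TCG_Suz.Col.a, TCG_Suz.Col.b, TCG_Suz.Col.a, TCG_Suz.Col.d, TCG_Suz.Col.e, TCG_Suz.Col.f, TCG_Suz.Col.b, TCG_Suz.Col.a], [TCG_Suz.Col.c, TCG_Suz.Col.e, TCG_Suz.Col.d, TCG_Suz.Col.c, TCG_Suz.Col.f, TCG_Suz.Col.b, TCG_Suz.Col.a, TCG_Suz.Col.b, TCG_Suz.Col.c, TCG_Suz.Col.f, TCG_Suz.Col.c, TCG_Suz.Col.a, TCG_Suz.Col.c, TCG_Suz.Col.d, TCG_Suz.Col.c, TCG_Suz.Col.f, TCG_Suz.Col.b, TCG_Suz.Col.c, TCG_Suz.Col.d, TCG_Suz.Col.a, TCG_Suz.Col.b, TCG_Suz.Col.c, TCG_Suz.Col.a, TCG_Suz.Col.b, TCG_Suz.Col.a, TCG_Suz.Col.b, TCG_Suz.Col.a, TCG_Suz.Col.b, TCG_Suz.Col.c, TCG_Suz.Col.f, TCG_Suz.Col.c, TCG_Suz.Col.a, TCG_Suz.Col.b]]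
def HP3t : ℕ := (nat_lit 0x3bcf12d0f2ff5a99cf472f6731f383041a60064558faa11739cf30560f439d94d82cd88aa6b91cd61267e0adabac3c3ea37ca1b261675bded24a839cb1474830ffb8d474633f6a3a635764ae0df8a77760e9b2c790d977d8dd99ed6ee49723c0e400329d261b2d15e5850c84e0c58d1de64f65dedac34a3dbafa56759e27ef397b9fe91ac4736693328acf13966175965f4e646c16c57667fc5bccb463852c0b5adaf8f1790be9ff1ffd379edb6bf264e7f7d77250ea3bedf532015561c639ef634a775d5f130e6fcce3c539c017c07c4b298bb98607699d121f8a6047cfc3be7c8f8540a5f79fee662a1c0999ad0cf4fa237b36d21fb58a908b0757a3b3f6b72e726cd94bd41f8f806a4dcedda6232ada052977be230da59f215b9a32267224cf0e8a9521ef7423ef23a00026552a0f5f35314ffc1ef4145b27837fffd84a93fc42c2cdeb5b3d2260dbfe02ff98170b3eb18803056c7f88cfb32)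
def HR3t : ℕ := (nat_lit 0x54b11de465452853db34504d313ae785849d004f41c49ae83d66a65cd4d1ca93145ebd258b1b75a9bcb72a72e4fdc8510e83d1fb27044c756a352c450f589e3de05791f2c561decedc0354faa0f3c82ec8a39681f36d5dbfdd6f40b5b4d2e1323853fae7d0b6351f9084ac57412433329a1baaabff20f268ea886035f841dab453a18807718e31df172da6b33e98fcdfd27c6833c5abdec90dc140f2e8499975acd897ffabc298cf9ca1650a0cad5f77abc057770e65dc4a9d5113fefff5a506550628a2dda719b1eb8beefa8a42e8ef1d69b043961cc315ef13674fbd650314aa10d2f399fcf5e6e2b52cbd60ecd01a27607e24e04f3bc36c5d63d8f2d5687439b6760bb3420544629c890cd638bbcb9dd18c5f0c47c6d0d61fed82b108c97626757a2c4b0f77928f4f9023b232e797c6a71d51931c43a94ff794da4e8431a3c0ec1a41b7cf8c08bf275c1f7cda051573f79d359608979fab53)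
def HW3t : ℕ := (nat_lit 0xd70d427512d1090f438eb34c7ef514b344bd44ed4aa0b974194bf9f56da713aa757dd3e8fe5df8b6e90ba1f65dc85944e1cc99d85f86ba1322d5bb4f94fd44d624c61da103c559fcea3ff0756b43f1413a76bc06d6c2d3a625485d038e15b28a4e5fab95d06b2329515c3b1d5ad20807d0ce00a00c3e50335ba76fa10bdb3ad429f3f72d0ce11bdb69bd1353d2d323f6f0a34a1b7e7ff08d98193af3ac0c2dfda5ccb4ef674a2b76e25959b6e9c03cf13ae9d15928d522f9f408b5e055914d944979cf91c1cfa881e22b71d849d5749ed9d0e264ec68273c2a330777e10e66766c102d0e8c284e220933cff5998c501a035096c5ecde4d5dd30756ff5bb8596ea1033887972cb8e841db5eda7d502219e674482cc18982107b46c4ec78a41b547bad97655434487350d6aca623222a2c1fa9dfddd0b8f86510cd1831b1e6f0a29d60dcc92f6130785f7aedb16d84ed7e63f350463a491113c7c84)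
noncomputable def LB3 : Tr ℕ := (Tr.nd (nat_lit 43777) (Tr.nd (nat_lit 40289) (Tr.nd (nat_lit 37813) (Tr.nd (nat_lit 36277) (Tr.nd (nat_lit 35291) (Tr.nd (nat_lit 34883) (Tr.nd (nat_lit 34847) (Tr.lf (nat_lit 34367)) (Tr.lf (nat_lit 34847))) (Tr.nd (nat_lit 34949) (Tr.lf (nat_lit 34883)) (Tr.nd (nat_lit 35257) (Tr.lf (nat_lit 34949)) (Tr.lf (nat_lit 35257))))) (Tr.nd (nat_lit 36187) (Tr.nd (nat_lit 35317) (Tr.lf (nat_lit 35291)) (Tr.nd (nat_lit 36151) (Tr.lf (nat_lit 35317)) (Tr.lf (nat_lit 36151)))) (Tr.nd (nat_lit 36217) (Tr.lf (nat_lit 36187)) (Tr.nd (nat_lit 36269) (Tr.lf (nat_lit 36217)) (Tr.lf (nat_lit 36269)))))) (Tr.nd (nat_lit 36677) (Tr.nd (nat_lit 36599) (Tr.nd (nat_lit 36587) (Tr.lf (nat_lit 36277)) (Tr.lf (nat_lit 36587))) (Tr.nd (nat_lit 36607) (Tr.lf (nat_lit 36599)) (Tr.nd (nat_lit 36653) (Tr.lf (nat_lit 36607)) (Tr.lf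 (nat_lit 36653))))) (Tr.nd (nat_lit 37781) (Tr.nd (nat_lit 36691) (Tr.lf (nat_lit 36677)) (Tr.nd (nat_lit 37649) (Tr.lf (nat_lit 36691)) (Tr.lf (nat_lit 37649)))) (Tr.nd (nat_lit 37783) (Tr.lf (nat_lit 37781)) (Tr.nd (nat_lit 37811) (Tr.lf (nat_lit 37783)) (Tr.lf (nat_lit 37811))))))) (Tr.nd (nat_lit 38453) (Tr.nd (nat_lit 37957) (Tr.nd (nat_lit 37871) (Tr.nd (nat_lit 37853) (Tr.lf (nat_lit 37813)) (Tr.lf (nat_lit 37853))) (Tr.nd (nat_lit 37897) (Tr.lf (nat_lit 37871)) (Tr.nd (nat_lit 37951) (Tr.lf (nat_lit 37897)) (Tr.lf (nat_lit 37951))))) (Tr.nd (nat_lit 38393) (Tr.nd (nat_lit 37967) (Tr.lf (nat_lit 37957)) (Tr.nd (nat_lit 37987) (Tr.lf (nat_lit 37967)) (Tr.lf (nat_lit 37987)))) (Tr.nd (nat_lit 38431) (Tr.lf (nat_lit 38393)) (Tr.nd (nat_lit 38447) (Tr.lf (nat_lit 38431)) (Tr.lf (nat_lit 38447)))))) (Tr.nd (nat_lit 39217) (Tr.nd (nat_lit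 38603) (Tr.nd (nat_lit 38557) (Tr.lf (nat_lit 38453)) (Tr.nd (nat_lit 38567) (Tr.lf (nat_lit 38557)) (Tr.lf (nat_lit 38567)))) (Tr.nd (nat_lit 38611) (Tr.lf (nat_lit 38603)) (Tr.nd (nat_lit 38651) (Tr.lf (nat_lit 38611)) (Tr.lf (nat_lit 38651))))) (Tr.nd (nat_lit 40169) (Tr.nd (nat_lit 39521) (Tr.lf (nat_lit 39217)) (Tr.nd (nat_lit 39847) (Tr.lf (nat_lit 39521)) (Tr.lf (nat_lit 39847)))) (Tr.nd (nat_lit 40193) (Tr.lf (nat_lit 40169)) (Tr.nd (nat_lit 40241) (Tr.lf (nat_lit 40193)) (Tr.lf (nat_lit 40241)))))))) (Tr.nd (nat_lit 41443) (Tr.nd (nat_lit 41113) (Tr.nd (nat_lit 40427) (Tr.nd (nat_lit 40361) (Tr.nd (nat_lit 40343) (Tr.lf (nat_lit 40289)) (Tr.lf (nat_lit 40343))) (Tr.nd (nat_lit 40387) (Tr.lf (nat_lit 40361)) (Tr.nd (nat_lit 40423) (Tr.lf (nat_lit 40387)) (Tr.lf (nat_lit 40423))))) (Tr.nd (nat_lit 40529) (Tr.nd (nat_lit 40471)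 (Tr.lf (nat_lit 40427)) (Tr.nd (nat_lit 40499) (Tr.lf (nat_lit 40471)) (Tr.lf (nat_lit 40499)))) (Tr.nd (nat_lit 41057) (Tr.lf (nat_lit 40529)) (Tr.nd (nat_lit 41081) (Tr.lf (nat_lit 41057)) (Tr.lf (nat_lit 41081)))))) (Tr.nd (nat_lit 41231) (Tr.nd (nat_lit 41141) (Tr.nd (nat_lit 41117) (Tr.lf (nat_lit 41113)) (Tr.lf (nat_lit 41117))) (Tr.nd (nat_lit 41161) (Tr.lf (nat_lit 41141)) (Tr.nd (nat_lit 41201) (Tr.lf (nat_lit 41161)) (Tr.lf (nat_lit 41201))))) (Tr.nd (nat_lit 41341) (Tr.nd (nat_lit 41233) (Tr.lf (nat_lit 41231)) (Tr.nd (nat_lit 41263) (Tr.lf (nat_lit 41233)) (Tr.lf (nat_lit 41263)))) (Tr.nd (nat_lit 41357) (Tr.lf (nat_lit 41341)) (Tr.nd (nat_lit 41389) (Tr.lf (nat_lit 41357)) (Tr.lf (nat_lit 41389))))))) (Tr.nd (nat_lit 43579) (Tr.nd (nat_lit 43013) (Tr.nd (nat_lit 41609) (Tr.nd (nat_lit 41479) (Tr.lf (nat_lit 41443)) (Tr.lf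 (nat_lit 41479))) (Tr.nd (nat_lit 41843) (Tr.lf (nat_lit 41609)) (Tr.nd (nat_lit 42841) (Tr.lf (nat_lit 41843)) (Tr.lf (nat_lit 42841))))) (Tr.nd (nat_lit 43457) (Tr.nd (nat_lit 43019) (Tr.lf (nat_lit 43013)) (Tr.nd (nat_lit 43037) (Tr.lf (nat_lit 43019)) (Tr.lf (nat_lit 43037)))) (Tr.nd (nat_lit 43487) (Tr.lf (nat_lit 43457)) (Tr.nd (nat_lit 43541) (Tr.lf (nat_lit 43487)) (Tr.lf (nat_lit 43541)))))) (Tr.nd (nat_lit 43691) (Tr.nd (nat_lit 43613) (Tr.nd (nat_lit 43591) (Tr.lf (nat_lit 43579)) (Tr.nd (nat_lit 43607) (Tr.lf (nat_lit 43591)) (Tr.lf (nat_lit 43607)))) (Tr.nd (nat_lit 43651) (Tr.lf (nat_lit 43613)) (Tr.nd (nat_lit 43669) (Tr.lf (nat_lit 43651)) (Tr.lf (nat_lit 43669))))) (Tr.nd (nat_lit 43721) (Tr.nd (nat_lit 43711) (Tr.lf (nat_lit 43691)) (Tr.nd (nat_lit 43717) (Tr.lf (nat_lit 43711)) (Tr.lf (nat_lit 43717)))) (Tr.nd (nat_lit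 43753) (Tr.lf (nat_lit 43721)) (Tr.nd (nat_lit 43759) (Tr.lf (nat_lit 43753)) (Tr.lf (nat_lit 43759))))))))) (Tr.nd (nat_lit 47569) (Tr.nd (nat_lit 45233) (Tr.nd (nat_lit 44797) (Tr.nd (nat_lit 43987) (Tr.nd (nat_lit 43943) (Tr.nd (nat_lit 43853) (Tr.lf (nat_lit 43777)) (Tr.lf (nat_lit 43853))) (Tr.nd (nat_lit 43963) (Tr.lf (nat_lit 43943)) (Tr.nd (nat_lit 43969) (Tr.lf (nat_lit 43963)) (Tr.lf (nat_lit 43969))))) (Tr.nd (nat_lit 44701) (Tr.nd (nat_lit 43991) (Tr.lf (nat_lit 43987)) (Tr.nd (nat_lit 44111) (Tr.lf (nat_lit 43991)) (Tr.lf (nat_lit 44111)))) (Tr.nd (nat_lit 44753) (Tr.lf (nat_lit 44701)) (Tr.nd (nat_lit 44777) (Tr.lf (nat_lit 44753)) (Tr.lf (nat_lit 44777)))))) (Tr.nd (nat_lit 44959) (Tr.nd (nat_lit 44879) (Tr.nd (nat_lit 44839) (Tr.lf (nat_lit 44797)) (Tr.lf (nat_lit 44839))) (Tr.nd (nat_lit 44909) (Tr.lf (nat_lit 44879))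 (Tr.nd (nat_lit 44917) (Tr.lf (nat_lit 44909)) (Tr.lf (nat_lit 44917))))) (Tr.nd (nat_lit 45131) (Tr.nd (nat_lit 45007) (Tr.lf (nat_lit 44959)) (Tr.nd (nat_lit 45077) (Tr.lf (nat_lit 45007)) (Tr.lf (nat_lit 45077)))) (Tr.nd (nat_lit 45139) (Tr.lf (nat_lit 45131)) (Tr.nd (nat_lit 45191) (Tr.lf (nat_lit 45139)) (Tr.lf (nat_lit 45191))))))) (Tr.nd (nat_lit 47381) (Tr.nd (nat_lit 46727) (Tr.nd (nat_lit 45281) (Tr.nd (nat_lit 45263) (Tr.lf (nat_lit 45233)) (Tr.lf (nat_lit 45263))) (Tr.nd (nat_lit 45403) (Tr.lf (nat_lit 45281)) (Tr.nd (nat_lit 45943) (Tr.lf (nat_lit 45403)) (Tr.lf (nat_lit 45943))))) (Tr.nd (nat_lit 47269) (Tr.nd (nat_lit 46901) (Tr.lf (nat_lit 46727)) (Tr.nd (nat_lit 46919) (Tr.lf (nat_lit 46901)) (Tr.lf (nat_lit 46919)))) (Tr.nd (nat_lit 47353) (Tr.lf (nat_lit 47269)) (Tr.nd (nat_lit 47363) (Tr.lf (nat_lit 47353)) (Tr.lf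 (nat_lit 47363)))))) (Tr.nd (nat_lit 47491) (Tr.nd (nat_lit 47431) (Tr.nd (nat_lit 47407) (Tr.lf (nat_lit 47381)) (Tr.nd (nat_lit 47417) (Tr.lf (nat_lit 47407)) (Tr.lf (nat_lit 47417)))) (Tr.nd (nat_lit 47441) (Tr.lf (nat_lit 47431)) (Tr.nd (nat_lit 47459) (Tr.lf (nat_lit 47441)) (Tr.lf (nat_lit 47459))))) (Tr.nd (nat_lit 47507) (Tr.nd (nat_lit 47497) (Tr.lf (nat_lit 47491)) (Tr.nd (nat_lit 47501) (Tr.lf (nat_lit 47497)) (Tr.lf (nat_lit 47501)))) (Tr.nd (nat_lit 47513) (Tr.lf (nat_lit 47507)) (Tr.nd (nat_lit 47527) (Tr.lf (nat_lit 47513)) (Tr.lf (nat_lit 47527)))))))) (Tr.nd (nat_lit 48757) (Tr.nd (nat_lit 47791) (Tr.nd (nat_lit 47699) (Tr.nd (nat_lit 47599) (Tr.nd (nat_lit 47591) (Tr.lf (nat_lit 47569)) (Tr.lf (nat_lit 47591))) (Tr.nd (nat_lit 47609) (Tr.lf (nat_lit 47599)) (Tr.nd (nat_lit 47623) (Tr.lf (nat_lit 47609)) (Tr.lf (nat_lit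 47623))))) (Tr.nd (nat_lit 47741) (Tr.nd (nat_lit 47711) (Tr.lf (nat_lit 47699)) (Tr.nd (nat_lit 47737) (Tr.lf (nat_lit 47711)) (Tr.lf (nat_lit 47737)))) (Tr.nd (nat_lit 47743) (Tr.lf (nat_lit 47741)) (Tr.nd (nat_lit 47779) (Tr.lf (nat_lit 47743)) (Tr.lf (nat_lit 47779)))))) (Tr.nd (nat_lit 48491) (Tr.nd (nat_lit 47809) (Tr.nd (nat_lit 47797) (Tr.lf (nat_lit 47791)) (Tr.lf (nat_lit 47797))) (Tr.nd (nat_lit 47947) (Tr.lf (nat_lit 47809)) (Tr.nd (nat_lit 47951) (Tr.lf (nat_lit 47947)) (Tr.lf (nat_lit 47951))))) (Tr.nd (nat_lit 48589) (Tr.nd (nat_lit 48497) (Tr.lf (nat_lit 48491)) (Tr.nd (nat_lit 48563) (Tr.lf (nat_lit 48497)) (Tr.lf (nat_lit 48563)))) (Tr.nd (nat_lit 48593) (Tr.lf (nat_lit 48589)) (Tr.nd (nat_lit 48649) (Tr.lf (nat_lit 48593)) (Tr.lf (nat_lit 48649))))))) (Tr.nd (nat_lit 49559) (Tr.nd (nat_lit 48821) (Tr.nd (nat_lit 48781)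 (Tr.nd (nat_lit 48779) (Tr.lf (nat_lit 48757)) (Tr.lf (nat_lit 48779))) (Tr.nd (nat_lit 48787) (Tr.lf (nat_lit 48781)) (Tr.nd (nat_lit 48809) (Tr.lf (nat_lit 48787)) (Tr.lf (nat_lit 48809))))) (Tr.nd (nat_lit 49009) (Tr.nd (nat_lit 48883) (Tr.lf (nat_lit 48821)) (Tr.nd (nat_lit 49003) (Tr.lf (nat_lit 48883)) (Tr.lf (nat_lit 49003)))) (Tr.nd (nat_lit 49057) (Tr.lf (nat_lit 49009)) (Tr.nd (nat_lit 49223) (Tr.lf (nat_lit 49057)) (Tr.lf (nat_lit 49223)))))) (Tr.nd (nat_lit 50461) (Tr.nd (nat_lit 50417) (Tr.nd (nat_lit 50333) (Tr.lf (nat_lit 49559)) (Tr.nd (nat_lit 50341) (Tr.lf (nat_lit 50333)) (Tr.lf (nat_lit 50341)))) (Tr.nd (nat_lit 50423) (Tr.lf (nat_lit 50417)) (Tr.nd (nat_lit 50441) (Tr.lf (nat_lit 50423)) (Tr.lf (nat_lit 50441))))) (Tr.nd (nat_lit 50513) (Tr.nd (nat_lit 50497) (Tr.lf (nat_lit 50461)) (Tr.nd (nat_lit 50503) (Tr.lf (nat_lit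 50497)) (Tr.lf (nat_lit 50503)))) (Tr.nd (nat_lit 50753) (Tr.lf (nat_lit 50513)) (Tr.nd (nat_lit 51157) (Tr.lf (nat_lit 50753)) (Tr.lf (nat_lit 51157))))))))))
noncomputable def HP3 : ℕ → ℕ := fun q => Nat.add (Nat.mod HP3t q) (nat_lit 32768)
noncomputable def HR3 : ℕ → ℕ := fun q => (Nat.mod HR3t q)
noncomputable def HW3 : ℕ → ℕ := fun q => (Nat.mod HW3t q)
theorem tree3 : Tr.all (treeP LB3 stp HP3 HR3 HW3 WL3 (fun q => Nat.beq (nat_lit 34367) q)) LB3 = true := by decide +kernel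
theorem sub3 : Tr.all (mem L) LB3 = true := by decide +kernel
theorem bst3 : bst LB3 32768 65536 = true := by decide +kernel
theorem size3 : size LB3 = 180 := by decide +kernel
section
variable {Γ : Type} [Group Γ] [Finite Γ] (ψ : Γ →* Equiv.Perm (Om L)) (g : Col → Γ) (hψ : ∀ c, ψ (g c) = closed.perm c)
include hψ
omit hψ in
theorem lev4 : 1 ≤ Nat.card (stabN ψ [34367, 32783, 32779, 32771]) := lev_zero _ _
theorem lev3 : 180 ≤ Nat.card (stabN ψ [32783, 32779, 32771]) :=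
  lev_step closed ψ g hψ [32783, 32779, 32771] 34367 bst3 sub3 (by decide +kernel) (by decide +kernel) tree3 (lev4 ψ) size3 (by norm_num)
theorem lev2 : 184320 ≤ Nat.card (stabN ψ [32779, 32771]) :=
  lev_step closed ψ g hψ [32779, 32771] 32783 bst2 sub2 (by decide +kernel) (by decide +kernel) tree2 (lev3 ψ g hψ) size2 (by norm_num)
theorem lev1 : 251596800 ≤ Nat.card (stabN ψ [32771]) :=
  lev_step closed ψ g hψ [32771] 32779 bst1 sub1 (by decide +kernel) (by decide +kernel) tree1 (lev2 ψ g hψ) size1 (by norm_num)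
theorem lev0 : 448345497600 ≤ Nat.card (stabN ψ []) :=
  lev_step closed ψ g hψ [] 32771 bst_chk sub0 (by decide +kernel) (by decide +kernel) tree0 (lev1 ψ g hψ) size_L (by norm_num)
end
end CfsgLib.TCSuz.Chain
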