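import Cfsg.Agent.EqBase
import Cfsg.Agent.LibTCGSuz
set_option autoImplicit false
set_option linter.all false
set_option maxRecDepth 1000000
set_option maxHeartbeats 0
namespace CfsgLib.TCSuzG
open CfsgLib.TC Cfsg.Spor
inductive Col where
  | a
  | b
  | c
  | d
  | e
  | f
noncomputable def idx : Col → ℕ := fun c => Col.rec (motive := fun _ => ℕ) 0 1 2 3 4 5 c
noncomputable def inv : Col → Col := fun c => Col.rec (motive := fun _ => Col) .a .b .c .d .e .f c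
def dec : ℕ → Col := fun n => if n = 0 then .a else if n = 1 then .b else if n = 2 then .c else if n = 3 then .d else if n = 4 then .e else .f
theorem hdec : ∀ c, dec (idx c) = c := by intro c; cases c <;> rfl
theorem inv_inv : ∀ c, inv (inv c) = c := by intro c; cases c <;> rfl
def cols : List Col := [Col.a, Col.b, Col.c, Col.d, Col.e, Col.f]
theorem hcols : ∀ c, c ∈ cols := by intro c; cases c <;> simp [cols]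
/-- relators as path words (first letter acts first) -/
noncomputable def RWb : List (List Col) := [[Col.a, Col.a],
  [Col.b, Col.a, Col.b, Col.a, Col.b, Col.a, Col.b, Col.a, Col.b, Col.a],
  [Col.c, Col.a, Col.c, Col.a],
  [Col.d, Col.a, Col.d, Col.a],
  [Col.e, Col.a, Col.e, Col.a],
  [Col.f, Col.a, Col.f, Col.a],
  [Col.b, Col.b],
  [Col.c, Col.b, Col.c, Col.b, Col.c, Col.b],
  [Col.d, Col.b, Col.d, Col.b],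
  [Col.e, Col.b, Col.e, Col.b],
  [Col.f, Col.b, Col.f, Col.b, Col.f, Col.b],
  [Col.c, Col.c],
  [Col.d, Col.c, Col.d, Col.c, Col.d, Col.c, Col.d, Col.c, Col.d, Col.c, Col.d, Col.c, Col.d, Col.c, Col.d, Col.c],
  [Col.e, Col.c, Col.e, Col.c],
  [Col.f, Col.c, Col.f, Col.c],
  [Col.d, Col.d],
  [Col.e, Col.d, Col.e, Col.d, Col.e, Col.d],
  [Col.f, Col.d, Col.f, Col.d],
  [Col.e, Col.e],
  [Col.f, Col.e, Col.f, Col.e],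
  [Col.f, Col.f],
  [Col.c, Col.d, Col.c, Col.d, Col.c, Col.d, Col.c, Col.d, Col.a],
  [Col.f, Col.c, Col.b, Col.a, Col.f, Col.c, Col.b, Col.a, Col.f, Col.c, Col.b, Col.a, Col.f, Col.c, Col.b, Col.a, Col.f, Col.c, Col.b, Col.a],
  [Col.e, Col.d, Col.c, Col.d, Col.c, Col.b, Col.d, Col.c, Col.d, Col.c, Col.b, Col.d, Col.c, Col.d, Col.c, Col.b, Col.d, Col.c, Col.d, Col.c, Col.b, Col.d, Col.c, Col.d, Col.c, Col.b, Col.e, Col.d, Col.c, Col.d, Col.c, Col.b, Col.d, Col.c, Col.d, Col.c, Col.b, Col.d, Col.c, Col.d, Col.c, Col.b, Col.d, Col.c, Col.d, Col.c, Col.b, Col.d, Col.c, Col.d, Col.c, Col.b, Col.e, Col.d, Col.c, Col.d, Col.c, Col.b, Col.d, Col.c, Col.d, Col.c, Col.b, Col.d, Col.c, Col.d, Col.c, Col.b, Col.d, Col.c, Col.d, Col.c, Col.b, Col.d, Col.c, Col.d, Col.c, Col.b]]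
noncomputable def RWe : List (List Col) := []
noncomputable def RW : List (List Col) := [[Col.a, Col.a],
  [Col.b, Col.a, Col.b, Col.a, Col.b, Col.a, Col.b, Col.a, Col.b, Col.a],
  [Col.c, Col.a, Col.c, Col.a],
  [Col.d, Col.a, Col.d, Col.a],
  [Col.e, Col.a, Col.e, Col.a],
  [Col.f, Col.a, Col.f, Col.a],
  [Col.b, Col.b],
  [Col.c, Col.b, Col.c, Col.b, Col.c, Col.b],
  [Col.d, Col.b, Col.d, Col.b],
  [Col.e, Col.b, Col.e, Col.b],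
  [Col.f, Col.b, Col.f, Col.b, Col.f, Col.b],
  [Col.c, Col.c],
  [Col.d, Col.c, Col.d, Col.c, Col.d, Col.c, Col.d, Col.c, Col.d, Col.c, Col.d, Col.c, Col.d, Col.c, Col.d, Col.c],
  [Col.e, Col.c, Col.e, Col.c],
  [Col.f, Col.c, Col.f, Col.c],
  [Col.d, Col.d],
  [Col.e, Col.d, Col.e, Col.d, Col.e, Col.d],
  [Col.f, Col.d, Col.f, Col.d],
  [Col.e, Col.e],
  [Col.f, Col.e, Col.f, Col.e],
  [Col.f, Col.f],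
  [Col.c, Col.d, Col.c, Col.d, Col.c, Col.d, Col.c, Col.d, Col.a],
  [Col.f, Col.c, Col.b, Col.a, Col.f, Col.c, Col.b, Col.a, Col.f, Col.c, Col.b, Col.a, Col.f, Col.c, Col.b, Col.a, Col.f, Col.c, Col.b, Col.a],
  [Col.e, Col.d, Col.c, Col.d, Col.c, Col.b, Col.d, Col.c, Col.d, Col.c, Col.b, Col.d, Col.c, Col.d, Col.c, Col.b, Col.d, Col.c, Col.d, Col.c, Col.b, Col.d, Col.c, Col.d, Col.c, Col.b, Col.e, Col.d, Col.c, Col.d, Col.c, Col.b, Col.d, Col.c, Col.d, Col.c, Col.b, Col.d, Col.c, Col.d, Col.c, Col.b, Col.d, Col.c, Col.d, Col.c, Col.b, Col.d, Col.c, Col.d, Col.c, Col.b, Col.e, Col.d, Col.c, Col.d, Col.c, Col.b, Col.d, Col.c, Col.d, Col.c, Col.b, Col.d, Col.c, Col.d, Col.c, Col.b, Col.d, Col.c, Col.d, Col.c, Col.b, Col.d, Col.c, Col.d, Col.c, Col.b]]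
theorem rw_mem : ∀ w ∈ RW, w ∈ RWb ∨ w ∈ RWe := fun w hw => Or.inl hw
def emb : Col → TCG_Suz.Col
  | .a => .a
  | .b => .b
  | .c => .c
  | .d => .d
  | .e => .e
  | .f => .f
theorem emb_inv : ∀ c, emb (inv c) = TCG_Suz.inv (emb c) := by intro c; cases c <;> rfl
def RI : List ℕ := [0, 1, 2, 3, 4, 5, 7, 8, 9, 10, 11, 13, 14, 15, 16, 18, 19, 20, 22, 23, 25, 28, 30, 32]
theorem ri_chk : lleq TCG_Suz.idx (mapR (nthR TCG_Suz.RW) RI) (mapR (mapR emb) RWb) = true := by decide +kernel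
/-- the family of generators -/
def Pc {G : Type*} [Group G] (f : Suz.Gen → G) (c : Col) : G := TCG_Suz.Pc f (emb c)
theorem Pc_inv {G : Type*} [Group G] {f : Suz.Gen → G} (hs : Sat Suz.edges Suz.extra f) (c : Col) : Pc f (inv c) = (Pc f c)⁻¹ := by
  rw [Pc, emb_inv]; exact TCG_Suz.Pc_inv hs _
theorem Pc_RW {G : Type*} [Group G] {f : Suz.Gen → G} (hs : Sat Suz.edges Suz.extra f) : ∀ w ∈ RWb, gw (Pc f) w = 1 :=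
  rw_sub TCG_Suz.dec TCG_Suz.hdec emb RI ri_chk (TCG_Suz.Pc f) (TCG_Suz.Pc_RW hs)
noncomputable def SW0 : List (List Col) := [[Col.a], [Col.b], [Col.c], [Col.d], [Col.e]]
noncomputable def SW1 : List (List Col) := SW0 ++ [[Col.f, Col.b, Col.a, Col.b, Col.f, Col.a, Col.b, Col.a, Col.b, Col.f]]
noncomputable def SW2 : List (List Col) := SW1 ++ [[Col.f, Col.b, Col.c, Col.d, Col.c, Col.b, Col.a, Col.b, Col.f, Col.c, Col.d, Col.b, Col.c, Col.a, Col.b, Col.f]]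
noncomputable def SW3 : List (List Col) := SW2 ++ [[Col.f, Col.b, Col.c, Col.d, Col.c, Col.b, Col.e, Col.d, Col.c, Col.f, Col.b, Col.a, Col.b, Col.f, Col.c, Col.d, Col.e, Col.b, Col.c, Col.d, Col.c, Col.b, Col.f]]
noncomputable def SW4 : List (List Col) := SW3 ++ [[Col.f, Col.b, Col.c, Col.d, Col.c, Col.b, Col.a, Col.e, Col.d, Col.c, Col.b, Col.d, Col.f, Col.c, Col.d, Col.b, Col.c, Col.d, Col.e, Col.a, Col.b, Col.c, Col.d, Col.c, Col.b, Col.f]]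
noncomputable def mini0S : Tr (Fc Col) := (Tr.nd (nat_lit 125) (Tr.nd (nat_lit 62) (Tr.nd (nat_lit 31) (Tr.nd (nat_lit 15) (Tr.nd (nat_lit 7) (Tr.nd (nat_lit 3) (Tr.nd (nat_lit 1) (Tr.lf (Fc.ed (nat_lit 0) (nat_lit 0) Col.a (nat_lit 0) (Dv.sb (nat_lit 0) [] []))) (Tr.nd (nat_lit 2) (Tr.lf (Fc.ed (nat_lit 1) (nat_lit 0) Col.b (nat_lit 0) (Dv.sb (nat_lit 1) [] []))) (Tr.lf (Fc.ed (nat_lit 2) (nat_lit 0) Col.c (nat_lit 0) (Dv.sb (nat_lit 2) [] []))))) (Tr.nd (nat_lit 5) (Tr.nd (nat_lit 4) (Tr.lf (Fc.ed (nat_lit 3) (nat_lit 0) Col.d (nat_lit 0) (Dv.sb (nat_lit 3) [] []))) (Tr.lf (Fc.ed (nat_lit 4) (nat_lit 0) Col.f (nat_lit 1) Dv.df))) (Tr.nd (nat_lit 6) (Tr.lf (Fc.ed (nat_lit 5) (nat_lit 1) Col.a (nat_lit 1) (Dv.wd (nat_lit 4) [Mv.b (nat_lit 4), Mv.f (nat_lit 0), Mv.f (nat_lit 4)]))) (Tr.lf (Fc.ed (nat_lit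 6) (nat_lit 1) Col.c (nat_lit 1) (Dv.wd (nat_lit 5) [Mv.b (nat_lit 4), Mv.f (nat_lit 2), Mv.f (nat_lit 4)])))))) (Tr.nd (nat_lit 11) (Tr.nd (nat_lit 9) (Tr.nd (nat_lit 8) (Tr.lf (Fc.ed (nat_lit 7) (nat_lit 1) Col.d (nat_lit 1) (Dv.wd (nat_lit 6) [Mv.b (nat_lit 4), Mv.f (nat_lit 3), Mv.f (nat_lit 4)]))) (Tr.lf (Fc.ed (nat_lit 8) (nat_lit 1) Col.b (nat_lit 2) Dv.df))) (Tr.nd (nat_lit 10) (Tr.lf (Fc.ed (nat_lit 9) (nat_lit 2) Col.d (nat_lit 2) (Dv.wd (nat_lit 7) [Mv.b (nat_lit 8), Mv.f (nat_lit 7), Mv.f (nat_lit 8)]))) (Tr.lf (Fc.ed (nat_lit 10) (nat_lit 2) Col.f (nat_lit 2) (Dv.wd (nat_lit 8) [Mv.b (nat_lit 8), Mv.b (nat_lit 4), Mv.f (nat_lit 1), Mv.f (nat_lit 4), Mv.f (nat_lit 8)]))))) (Tr.nd (nat_lit 13) (Tr.nd (nat_lit 12) (Tr.lf (Fc.ed (nat_lit 11) (nat_lit 2) Col.a (nat_lit 3) Dv.df)) (Tr.lf (Fc.ed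 (nat_lit 12) (nat_lit 3) Col.d (nat_lit 3) (Dv.wd (nat_lit 9) [Mv.b (nat_lit 11), Mv.f (nat_lit 9), Mv.f (nat_lit 11)])))) (Tr.nd (nat_lit 14) (Tr.lf (Fc.ed (nat_lit 13) (nat_lit 3) Col.f (nat_lit 3) (Dv.wd (nat_lit 10) [Mv.b (nat_lit 11), Mv.f (nat_lit 10), Mv.f (nat_lit 11)]))) (Tr.lf (Fc.ed (nat_lit 14) (nat_lit 3) Col.b (nat_lit 4) Dv.df)))))) (Tr.nd (nat_lit 23) (Tr.nd (nat_lit 19) (Tr.nd (nat_lit 17) (Tr.nd (nat_lit 16) (Tr.lf (Fc.ed (nat_lit 15) (nat_lit 4) Col.d (nat_lit 4) (Dv.wd (nat_lit 7) [Mv.b (nat_lit 14), Mv.f (nat_lit 12), Mv.f (nat_lit 14)]))) (Tr.lf (Fc.ed (nat_lit 16) (nat_lit 4) Col.f (nat_lit 5) Dv.df))) (Tr.nd (nat_lit 18) (Tr.lf (Fc.ed (nat_lit 17) (nat_lit 5) Col.a (nat_lit 6) Dv.df)) (Tr.lf (Fc.ed (nat_lit 18) (nat_lit 2) Col.c (nat_lit 7) Dv.df)))) (Tr.nd (nat_lit 21) (Tr.nd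 (nat_lit 20) (Tr.lf (Fc.ed (nat_lit 19) (nat_lit 7) Col.f (nat_lit 7) (Dv.wd (nat_lit 11) [Mv.b (nat_lit 18), Mv.f (nat_lit 10), Mv.f (nat_lit 18)]))) (Tr.lf (Fc.ed (nat_lit 20) (nat_lit 7) Col.b (nat_lit 7) (Dv.wd (nat_lit 12) [Mv.b (nat_lit 18), Mv.b (nat_lit 8), Mv.f (nat_lit 6), Mv.f (nat_lit 8), Mv.f (nat_lit 18)])))) (Tr.nd (nat_lit 22) (Tr.lf (Fc.ed (nat_lit 21) (nat_lit 4) Col.c (nat_lit 8) Dv.df)) (Tr.lf (Fc.ed (nat_lit 22) (nat_lit 3) Col.c (nat_lit 9) Dv.df))))) (Tr.nd (nat_lit 27) (Tr.nd (nat_lit 25) (Tr.nd (nat_lit 24) (Tr.lf (Fc.ed (nat_lit 23) (nat_lit 9) Col.a (nat_lit 7) (Dv.wd (nat_lit 13) [Mv.b (nat_lit 18), Mv.f (nat_lit 11), Mv.f (nat_lit 22)]))) (Tr.lf (Fc.ed (nat_lit 24) (nat_lit 9) Col.f (nat_lit 9) (Dv.wd (nat_lit 11) [Mv.b (nat_lit 22), Mv.f (nat_lit 13), Mv.f (nat_lit 22)]))))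 (Tr.nd (nat_lit 26) (Tr.lf (Fc.ed (nat_lit 25) (nat_lit 9) Col.d (nat_lit 10) Dv.df)) (Tr.lf (Fc.ed (nat_lit 26) (nat_lit 10) Col.f (nat_lit 10) (Dv.wd (nat_lit 14) [Mv.b (nat_lit 25), Mv.f (nat_lit 24), Mv.f (nat_lit 25)]))))) (Tr.nd (nat_lit 29) (Tr.nd (nat_lit 28) (Tr.lf (Fc.ed (nat_lit 27) (nat_lit 5) Col.c (nat_lit 11) Dv.df)) (Tr.lf (Fc.ed (nat_lit 28) (nat_lit 11) Col.f (nat_lit 8) (Dv.wd (nat_lit 11) [Mv.b (nat_lit 21), Mv.f (nat_lit 16), Mv.f (nat_lit 27)])))) (Tr.nd (nat_lit 30) (Tr.lf (Fc.ed (nat_lit 29) (nat_lit 10) Col.b (nat_lit 12) Dv.df)) (Tr.lf (Fc.ed (nat_lit 30) (nat_lit 8) Col.d (nat_lit 13) Dv.df))))))) (Tr.nd (nat_lit 46) (Tr.nd (nat_lit 38) (Tr.nd (nat_lit 34) (Tr.nd (nat_lit 32) (Tr.lf (Fc.ed (nat_lit 31) (nat_lit 7) Col.d (nat_lit 14) Dv.df)) (Tr.nd (nat_lit 33) (Tr.lf (Fc.ed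 (nat_lit 32) (nat_lit 14) Col.a (nat_lit 10) (Dv.wd (nat_lit 15) [Mv.b (nat_lit 25), Mv.f (nat_lit 23), Mv.f (nat_lit 31)]))) (Tr.lf (Fc.ed (nat_lit 33) (nat_lit 14) Col.b (nat_lit 14) (Dv.wd (nat_lit 16) [Mv.b (nat_lit 31), Mv.f (nat_lit 20), Mv.f (nat_lit 31)]))))) (Tr.nd (nat_lit 36) (Tr.nd (nat_lit 35) (Tr.lf (Fc.ed (nat_lit 34) (nat_lit 14) Col.f (nat_lit 14) (Dv.wd (nat_lit 14) [Mv.b (nat_lit 31), Mv.f (nat_lit 19), Mv.f (nat_lit 31)]))) (Tr.lf (Fc.ed (nat_lit 35) (nat_lit 11) Col.d (nat_lit 15) Dv.df))) (Tr.nd (nat_lit 37) (Tr.lf (Fc.ed (nat_lit 36) (nat_lit 15) Col.f (nat_lit 13) (Dv.wd (nat_lit 14) [Mv.b (nat_lit 30), Mv.b (nat_lit 28), Mv.f (nat_lit 35)]))) (Tr.lf (Fc.ed (nat_lit 37) (nat_lit 9) Col.b (nat_lit 16) Dv.df))))) (Tr.nd (nat_lit 42) (Tr.nd (nat_lit 40) (Tr.nd (nat_lit 39) (Tr.lf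 (Fc.ed (nat_lit 38) (nat_lit 16) Col.d (nat_lit 12) (Dv.wd (nat_lit 7) [Mv.b (nat_lit 29), Mv.b (nat_lit 25), Mv.f (nat_lit 37)]))) (Tr.lf (Fc.ed (nat_lit 39) (nat_lit 10) Col.c (nat_lit 17) Dv.df))) (Tr.nd (nat_lit 41) (Tr.lf (Fc.ed (nat_lit 40) (nat_lit 17) Col.f (nat_lit 17) (Dv.wd (nat_lit 11) [Mv.b (nat_lit 39), Mv.f (nat_lit 26), Mv.f (nat_lit 39)]))) (Tr.lf (Fc.ed (nat_lit 41) (nat_lit 11) Col.a (nat_lit 18) Dv.df)))) (Tr.nd (nat_lit 44) (Tr.nd (nat_lit 43) (Tr.lf (Fc.ed (nat_lit 42) (nat_lit 18) Col.c (nat_lit 6) (Dv.wd (nat_lit 17) [Mv.b (nat_lit 17), Mv.f (nat_lit 27), Mv.f (nat_lit 41)]))) (Tr.lf (Fc.ed (nat_lit 43) (nat_lit 13) Col.c (nat_lit 19) Dv.df))) (Tr.nd (nat_lit 45) (Tr.lf (Fc.ed (nat_lit 44) (nat_lit 14) Col.c (nat_lit 20) Dv.df)) (Tr.lf (Fc.ed (nat_lit 45) (nat_lit 20) Col.a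 (nat_lit 17) (Dv.wd (nat_lit 13) [Mv.b (nat_lit 39), Mv.b (nat_lit 32), Mv.f (nat_lit 44)]))))))) (Tr.nd (nat_lit 54) (Tr.nd (nat_lit 50) (Tr.nd (nat_lit 48) (Tr.nd (nat_lit 47) (Tr.lf (Fc.ed (nat_lit 46) (nat_lit 20) Col.f (nat_lit 20) (Dv.wd (nat_lit 11) [Mv.b (nat_lit 44), Mv.f (nat_lit 34), Mv.f (nat_lit 44)]))) (Tr.lf (Fc.ed (nat_lit 47) (nat_lit 20) Col.d (nat_lit 17) (Dv.wd (nat_lit 18) [Mv.b (nat_lit 39), Mv.b (nat_lit 25), Mv.b (nat_lit 22), Mv.f (nat_lit 12), Mv.f (nat_lit 22), Mv.f (nat_lit 25), Mv.b (nat_lit 32), Mv.f (nat_lit 44)])))) (Tr.nd (nat_lit 49) (Tr.lf (Fc.ed (nat_lit 48) (nat_lit 17) Col.b (nat_lit 21) Dv.df)) (Tr.lf (Fc.ed (nat_lit 49) (nat_lit 8) Col.b (nat_lit 22) Dv.df)))) (Tr.nd (nat_lit 52) (Tr.nd (nat_lit 51) (Tr.lf (Fc.ed (nat_lit 50) (nat_lit 22) Col.c (nat_lit 16)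 (Dv.wd (nat_lit 19) [Mv.b (nat_lit 37), Mv.b (nat_lit 22), Mv.f (nat_lit 14), Mv.f (nat_lit 21), Mv.f (nat_lit 49)]))) (Tr.lf (Fc.ed (nat_lit 51) (nat_lit 15) Col.c (nat_lit 23) Dv.df))) (Tr.nd (nat_lit 53) (Tr.lf (Fc.ed (nat_lit 52) (nat_lit 23) Col.f (nat_lit 19) (Dv.wd (nat_lit 11) [Mv.b (nat_lit 43), Mv.b (nat_lit 36), Mv.f (nat_lit 51)]))) (Tr.lf (Fc.ed (nat_lit 53) (nat_lit 13) Col.b (nat_lit 24) Dv.df))))) (Tr.nd (nat_lit 58) (Tr.nd (nat_lit 56) (Tr.nd (nat_lit 55) (Tr.lf (Fc.ed (nat_lit 54) (nat_lit 24) Col.d (nat_lit 22) (Dv.wd (nat_lit 7) [Mv.b (nat_lit 49), Mv.f (nat_lit 30), Mv.f (nat_lit 53)]))) (Tr.lf (Fc.ed (nat_lit 55) (nat_lit 12) Col.f (nat_lit 25) Dv.df))) (Tr.nd (nat_lit 57) (Tr.lf (Fc.ed (nat_lit 56) (nat_lit 25) Col.b (nat_lit 25) (Dv.wd (nat_lit 20) [Mv.b (nat_lit 55), Mv.b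 (nat_lit 29), Mv.f (nat_lit 26), Mv.f (nat_lit 29), Mv.f (nat_lit 55)]))) (Tr.lf (Fc.ed (nat_lit 57) (nat_lit 19) Col.d (nat_lit 26) Dv.df)))) (Tr.nd (nat_lit 60) (Tr.nd (nat_lit 59) (Tr.lf (Fc.ed (nat_lit 58) (nat_lit 26) Col.a (nat_lit 19) (Dv.wd (nat_lit 21) [Mv.b (nat_lit 43), Mv.b (nat_lit 30), Mv.b (nat_lit 21), Mv.f (nat_lit 15), Mv.f (nat_lit 21), Mv.f (nat_lit 30), Mv.f (nat_lit 43), Mv.f (nat_lit 57)]))) (Tr.lf (Fc.ed (nat_lit 59) (nat_lit 19) Col.b (nat_lit 27) Dv.df))) (Tr.nd (nat_lit 61) (Tr.lf (Fc.ed (nat_lit 60) (nat_lit 18) Col.d (nat_lit 28) Dv.df)) (Tr.lf (Fc.ed (nat_lit 61) (nat_lit 28) Col.a (nat_lit 15) (Dv.wd (nat_lit 15) [Mv.b (nat_lit 35), Mv.f (nat_lit 41), Mv.f (nat_lit 60)]))))))))) (Tr.nd (nat_lit 93) (Tr.nd (nat_lit 77) (Tr.nd (nat_lit 69) (Tr.nd (nat_lit 65) (Tr.nd (nat_lit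 63) (Tr.lf (Fc.ed (nat_lit 62) (nat_lit 12) Col.c (nat_lit 29) Dv.df)) (Tr.nd (nat_lit 64) (Tr.lf (Fc.ed (nat_lit 63) (nat_lit 16) Col.f (nat_lit 30) Dv.df)) (Tr.lf (Fc.ed (nat_lit 64) (nat_lit 30) Col.d (nat_lit 25) (Dv.wd (nat_lit 6) [Mv.b (nat_lit 55), Mv.b (nat_lit 38), Mv.f (nat_lit 63)]))))) (Tr.nd (nat_lit 67) (Tr.nd (nat_lit 66) (Tr.lf (Fc.ed (nat_lit 65) (nat_lit 12) Col.a (nat_lit 31) Dv.df)) (Tr.lf (Fc.ed (nat_lit 66) (nat_lit 20) Col.b (nat_lit 32) Dv.df))) (Tr.nd (nat_lit 68) (Tr.lf (Fc.ed (nat_lit 67) (nat_lit 32) Col.d (nat_lit 21) (Dv.wd (nat_lit 7) [Mv.b (nat_lit 48), Mv.b (nat_lit 47), Mv.f (nat_lit 66)]))) (Tr.lf (Fc.ed (nat_lit 68) (nat_lit 32) Col.c (nat_lit 32) (Dv.wd (nat_lit 19) [Mv.b (nat_lit 66), Mv.b (nat_lit 44), Mv.f (nat_lit 33), Mv.f (nat_lit 44), Mv.f (nat_lit 66)]))))))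 (Tr.nd (nat_lit 73) (Tr.nd (nat_lit 71) (Tr.nd (nat_lit 70) (Tr.lf (Fc.ed (nat_lit 69) (nat_lit 16) Col.a (nat_lit 33) Dv.df)) (Tr.lf (Fc.ed (nat_lit 70) (nat_lit 33) Col.f (nat_lit 22) (Dv.wd (nat_lit 22) [Mv.f (nat_lit 50), Mv.b (nat_lit 37), Mv.f (nat_lit 23), Mv.f (nat_lit 19), Mv.b (nat_lit 18), Mv.b (nat_lit 8), Mv.f (nat_lit 5), Mv.b (nat_lit 4), Mv.f (nat_lit 2), Mv.f (nat_lit 1), Mv.f (nat_lit 0), Mv.f (nat_lit 4), Mv.f (nat_lit 6), Mv.f (nat_lit 8), Mv.f (nat_lit 11), Mv.f (nat_lit 13), Mv.f (nat_lit 22), Mv.f (nat_lit 37), Mv.f (nat_lit 69)])))) (Tr.nd (nat_lit 72) (Tr.lf (Fc.ed (nat_lit 71) (nat_lit 30) Col.a (nat_lit 22) (Dv.wd (nat_lit 23) [Mv.b (nat_lit 70), Mv.b (nat_lit 69), Mv.f (nat_lit 63)]))) (Tr.lf (Fc.ed (nat_lit 72) (nat_lit 24) Col.a (nat_lit 25) (Dv.wd (nat_lit 24) [Mv.b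 (nat_lit 64), Mv.f (nat_lit 71), Mv.b (nat_lit 54)]))))) (Tr.nd (nat_lit 75) (Tr.nd (nat_lit 74) (Tr.lf (Fc.ed (nat_lit 73) (nat_lit 31) Col.f (nat_lit 24) (Dv.wd (nat_lit 25) [Mv.f (nat_lit 72), Mv.b (nat_lit 55), Mv.f (nat_lit 65)]))) (Tr.lf (Fc.ed (nat_lit 74) (nat_lit 24) Col.c (nat_lit 34) Dv.df))) (Tr.nd (nat_lit 76) (Tr.lf (Fc.ed (nat_lit 75) (nat_lit 25) Col.c (nat_lit 35) Dv.df)) (Tr.lf (Fc.ed (nat_lit 76) (nat_lit 35) Col.a (nat_lit 34) (Dv.wd (nat_lit 13) [Mv.b (nat_lit 74), Mv.f (nat_lit 72), Mv.f (nat_lit 75)]))))))) (Tr.nd (nat_lit 85) (Tr.nd (nat_lit 81) (Tr.nd (nat_lit 79) (Tr.nd (nat_lit 78) (Tr.lf (Fc.ed (nat_lit 77) (nat_lit 35) Col.f (nat_lit 29) (Dv.wd (nat_lit 11) [Mv.b (nat_lit 62), Mv.f (nat_lit 55), Mv.f (nat_lit 75)]))) (Tr.lf (Fc.ed (nat_lit 78) (nat_lit 26) Col.b (nat_lit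 36) Dv.df))) (Tr.nd (nat_lit 80) (Tr.lf (Fc.ed (nat_lit 79) (nat_lit 36) Col.d (nat_lit 27) (Dv.wd (nat_lit 7) [Mv.b (nat_lit 59), Mv.f (nat_lit 57), Mv.f (nat_lit 78)]))) (Tr.lf (Fc.ed (nat_lit 80) (nat_lit 27) Col.a (nat_lit 37) Dv.df)))) (Tr.nd (nat_lit 83) (Tr.nd (nat_lit 82) (Tr.lf (Fc.ed (nat_lit 81) (nat_lit 26) Col.f (nat_lit 38) Dv.df)) (Tr.lf (Fc.ed (nat_lit 82) (nat_lit 38) Col.a (nat_lit 23) (Dv.wd (nat_lit 4) [Mv.f (nat_lit 52), Mv.b (nat_lit 58), Mv.f (nat_lit 81)])))) (Tr.nd (nat_lit 84) (Tr.lf (Fc.ed (nat_lit 83) (nat_lit 27) Col.c (nat_lit 39) Dv.df)) (Tr.lf (Fc.ed (nat_lit 84) (nat_lit 39) Col.b (nat_lit 34) (Dv.wd (nat_lit 12) [Mv.b (nat_lit 74), Mv.b (nat_lit 53), Mv.f (nat_lit 43), Mv.f (nat_lit 59), Mv.f (nat_lit 83)])))))) (Tr.nd (nat_lit 89) (Tr.nd (nat_lit 87) (Tr.nd (nat_lit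 86) (Tr.lf (Fc.ed (nat_lit 85) (nat_lit 27) Col.f (nat_lit 40) Dv.df)) (Tr.lf (Fc.ed (nat_lit 86) (nat_lit 31) Col.c (nat_lit 41) Dv.df))) (Tr.nd (nat_lit 88) (Tr.lf (Fc.ed (nat_lit 87) (nat_lit 41) Col.a (nat_lit 29) (Dv.wd (nat_lit 13) [Mv.b (nat_lit 62), Mv.f (nat_lit 65), Mv.f (nat_lit 86)]))) (Tr.lf (Fc.ed (nat_lit 88) (nat_lit 41) Col.f (nat_lit 34) (Dv.wd (nat_lit 11) [Mv.b (nat_lit 74), Mv.b (nat_lit 73), Mv.f (nat_lit 86)]))))) (Tr.nd (nat_lit 91) (Tr.nd (nat_lit 90) (Tr.lf (Fc.ed (nat_lit 89) (nat_lit 29) Col.b (nat_lit 42) Dv.df)) (Tr.lf (Fc.ed (nat_lit 90) (nat_lit 42) Col.c (nat_lit 21) (Dv.wd (nat_lit 19) [Mv.b (nat_lit 48), Mv.b (nat_lit 39), Mv.f (nat_lit 29), Mv.f (nat_lit 62), Mv.f (nat_lit 89)])))) (Tr.nd (nat_lit 92) (Tr.lf (Fc.ed (nat_lit 91) (nat_lit 34) Col.d (nat_lit 43) Dv.df))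 (Tr.lf (Fc.ed (nat_lit 92) (nat_lit 29) Col.d (nat_lit 44) Dv.df))))))) (Tr.nd (nat_lit 109) (Tr.nd (nat_lit 101) (Tr.nd (nat_lit 97) (Tr.nd (nat_lit 95) (Tr.nd (nat_lit 94) (Tr.lf (Fc.ed (nat_lit 93) (nat_lit 35) Col.d (nat_lit 45) Dv.df)) (Tr.lf (Fc.ed (nat_lit 94) (nat_lit 45) Col.a (nat_lit 43) (Dv.wd (nat_lit 15) [Mv.b (nat_lit 91), Mv.b (nat_lit 76), Mv.f (nat_lit 93)])))) (Tr.nd (nat_lit 96) (Tr.lf (Fc.ed (nat_lit 95) (nat_lit 45) Col.f (nat_lit 44) (Dv.wd (nat_lit 14) [Mv.b (nat_lit 92), Mv.b (nat_lit 77), Mv.f (nat_lit 93)]))) (Tr.lf (Fc.ed (nat_lit 96) (nat_lit 45) Col.c (nat_lit 44) (Dv.wd (nat_lit 26) [Mv.b (nat_lit 92), Mv.b (nat_lit 62), Mv.b (nat_lit 38), Mv.b (nat_lit 50), Mv.b (nat_lit 54), Mv.f (nat_lit 72), Mv.f (nat_lit 75), Mv.f (nat_lit 93)]))))) (Tr.nd (nat_lit 99) (Tr.nd (nat_lit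 98) (Tr.lf (Fc.ed (nat_lit 97) (nat_lit 36) Col.f (nat_lit 46) Dv.df)) (Tr.lf (Fc.ed (nat_lit 98) (nat_lit 46) Col.d (nat_lit 40) (Dv.wd (nat_lit 6) [Mv.b (nat_lit 85), Mv.b (nat_lit 79), Mv.f (nat_lit 97)])))) (Tr.nd (nat_lit 100) (Tr.lf (Fc.ed (nat_lit 99) (nat_lit 35) Col.b (nat_lit 47) Dv.df)) (Tr.lf (Fc.ed (nat_lit 100) (nat_lit 47) Col.c (nat_lit 47) (Dv.wd (nat_lit 19) [Mv.b (nat_lit 99), Mv.b (nat_lit 75), Mv.f (nat_lit 56), Mv.f (nat_lit 75), Mv.f (nat_lit 99)])))))) (Tr.nd (nat_lit 105) (Tr.nd (nat_lit 103) (Tr.nd (nat_lit 102) (Tr.lf (Fc.ed (nat_lit 101) (nat_lit 21) Col.f (nat_lit 48) Dv.df)) (Tr.lf (Fc.ed (nat_lit 102) (nat_lit 36) Col.a (nat_lit 49) Dv.df))) (Tr.nd (nat_lit 104) (Tr.lf (Fc.ed (nat_lit 103) (nat_lit 49) Col.d (nat_lit 37) (Dv.wd (nat_lit 9) [Mv.b (nat_lit 80), Mv.b (nat_lit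 79), Mv.f (nat_lit 102)]))) (Tr.lf (Fc.ed (nat_lit 104) (nat_lit 21) Col.a (nat_lit 50) Dv.df)))) (Tr.nd (nat_lit 107) (Tr.nd (nat_lit 106) (Tr.lf (Fc.ed (nat_lit 105) (nat_lit 32) Col.f (nat_lit 51) Dv.df)) (Tr.lf (Fc.ed (nat_lit 106) (nat_lit 51) Col.d (nat_lit 48) (Dv.wd (nat_lit 6) [Mv.b (nat_lit 101), Mv.b (nat_lit 67), Mv.f (nat_lit 105)])))) (Tr.nd (nat_lit 108) (Tr.lf (Fc.ed (nat_lit 107) (nat_lit 41) Col.d (nat_lit 52) Dv.df)) (Tr.lf (Fc.ed (nat_lit 108) (nat_lit 52) Col.a (nat_lit 44) (Dv.wd (nat_lit 15) [Mv.b (nat_lit 92), Mv.b (nat_lit 87), Mv.f (nat_lit 107)]))))))) (Tr.nd (nat_lit 117) (Tr.nd (nat_lit 113) (Tr.nd (nat_lit 111) (Tr.nd (nat_lit 110) (Tr.lf (Fc.ed (nat_lit 109) (nat_lit 52) Col.f (nat_lit 43) (Dv.wd (nat_lit 14) [Mv.b (nat_lit 91), Mv.b (nat_lit 88), Mv.f (nat_lit 107)])))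 (Tr.lf (Fc.ed (nat_lit 110) (nat_lit 40) Col.b (nat_lit 53) Dv.df))) (Tr.nd (nat_lit 112) (Tr.lf (Fc.ed (nat_lit 111) (nat_lit 37) Col.c (nat_lit 54) Dv.df)) (Tr.lf (Fc.ed (nat_lit 112) (nat_lit 54) Col.a (nat_lit 39) (Dv.wd (nat_lit 13) [Mv.b (nat_lit 83), Mv.f (nat_lit 80), Mv.f (nat_lit 111)]))))) (Tr.nd (nat_lit 115) (Tr.nd (nat_lit 114) (Tr.lf (Fc.ed (nat_lit 113) (nat_lit 41) Col.b (nat_lit 55) Dv.df)) (Tr.lf (Fc.ed (nat_lit 114) (nat_lit 39) Col.d (nat_lit 56) Dv.df))) (Tr.nd (nat_lit 116) (Tr.lf (Fc.ed (nat_lit 115) (nat_lit 56) Col.b (nat_lit 43) (Dv.wd (nat_lit 16) [Mv.b (nat_lit 91), Mv.b (nat_lit 84), Mv.f (nat_lit 114)]))) (Tr.lf (Fc.ed (nat_lit 116) (nat_lit 42) Col.a (nat_lit 57) Dv.df))))) (Tr.nd (nat_lit 121) (Tr.nd (nat_lit 119) (Tr.nd (nat_lit 118) (Tr.lf (Fc.ed (nat_lit 117) (nat_lit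 57) Col.c (nat_lit 50) (Dv.wd (nat_lit 17) [Mv.b (nat_lit 104), Mv.b (nat_lit 90), Mv.f (nat_lit 116)]))) (Tr.lf (Fc.ed (nat_lit 118) (nat_lit 37) Col.f (nat_lit 58) Dv.df))) (Tr.nd (nat_lit 120) (Tr.lf (Fc.ed (nat_lit 119) (nat_lit 58) Col.a (nat_lit 40) (Dv.wd (nat_lit 4) [Mv.b (nat_lit 85), Mv.f (nat_lit 80), Mv.f (nat_lit 118)]))) (Tr.lf (Fc.ed (nat_lit 120) (nat_lit 42) Col.f (nat_lit 59) Dv.df)))) (Tr.nd (nat_lit 123) (Tr.nd (nat_lit 122) (Tr.lf (Fc.ed (nat_lit 121) (nat_lit 42) Col.d (nat_lit 60) Dv.df)) (Tr.lf (Fc.ed (nat_lit 122) (nat_lit 60) Col.b (nat_lit 44) (Dv.wd (nat_lit 16) [Mv.b (nat_lit 92), Mv.f (nat_lit 89), Mv.f (nat_lit 121)])))) (Tr.nd (nat_lit 124) (Tr.lf (Fc.ed (nat_lit 123) (nat_lit 37) Col.b (nat_lit 61) Dv.df)) (Tr.lf (Fc.ed (nat_lit 124) (nat_lit 45) Col.b (nat_lit 62)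 Dv.df))))))))) (Tr.nd (nat_lit 188) (Tr.nd (nat_lit 156) (Tr.nd (nat_lit 140) (Tr.nd (nat_lit 132) (Tr.nd (nat_lit 128) (Tr.nd (nat_lit 126) (Tr.lf (Fc.ed (nat_lit 125) (nat_lit 62) Col.d (nat_lit 47) (Dv.wd (nat_lit 7) [Mv.b (nat_lit 99), Mv.f (nat_lit 93), Mv.f (nat_lit 124)]))) (Tr.nd (nat_lit 127) (Tr.lf (Fc.ed (nat_lit 126) (nat_lit 48) Col.a (nat_lit 63) Dv.df)) (Tr.lf (Fc.ed (nat_lit 127) (nat_lit 63) Col.f (nat_lit 50) (Dv.wd (nat_lit 10) [Mv.b (nat_lit 104), Mv.f (nat_lit 101), Mv.f (nat_lit 126)]))))) (Tr.nd (nat_lit 130) (Tr.nd (nat_lit 129) (Tr.lf (Fc.ed (nat_lit 128) (nat_lit 47) Col.f (nat_lit 64) Dv.df)) (Tr.lf (Fc.ed (nat_lit 129) (nat_lit 46) Col.a (nat_lit 65) Dv.df))) (Tr.nd (nat_lit 131) (Tr.lf (Fc.ed (nat_lit 130) (nat_lit 65) Col.d (nat_lit 58) (Dv.wd (nat_lit 9) [Mv.f (nat_lit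 119), Mv.b (nat_lit 98), Mv.f (nat_lit 129)]))) (Tr.lf (Fc.ed (nat_lit 131) (nat_lit 52) Col.b (nat_lit 66) Dv.df))))) (Tr.nd (nat_lit 136) (Tr.nd (nat_lit 134) (Tr.nd (nat_lit 133) (Tr.lf (Fc.ed (nat_lit 132) (nat_lit 49) Col.b (nat_lit 67) Dv.df)) (Tr.lf (Fc.ed (nat_lit 133) (nat_lit 67) Col.d (nat_lit 61) (Dv.wd (nat_lit 7) [Mv.b (nat_lit 123), Mv.b (nat_lit 103), Mv.f (nat_lit 132)])))) (Tr.nd (nat_lit 135) (Tr.lf (Fc.ed (nat_lit 134) (nat_lit 51) Col.a (nat_lit 68) Dv.df)) (Tr.lf (Fc.ed (nat_lit 135) (nat_lit 68) Col.d (nat_lit 63) (Dv.wd (nat_lit 9) [Mv.b (nat_lit 126), Mv.b (nat_lit 106), Mv.f (nat_lit 134)]))))) (Tr.nd (nat_lit 138) (Tr.nd (nat_lit 137) (Tr.lf (Fc.ed (nat_lit 136) (nat_lit 56) Col.f (nat_lit 69) Dv.df)) (Tr.lf (Fc.ed (nat_lit 137) (nat_lit 57) Col.d (nat_lit 70) Dv.df)))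 (Tr.nd (nat_lit 139) (Tr.lf (Fc.ed (nat_lit 138) (nat_lit 70) Col.c (nat_lit 60) (Dv.wd (nat_lit 26) [Mv.b (nat_lit 121), Mv.f (nat_lit 90), Mv.b (nat_lit 67), Mv.f (nat_lit 68), Mv.f (nat_lit 67), Mv.f (nat_lit 104), Mv.b (nat_lit 117), Mv.f (nat_lit 137)]))) (Tr.lf (Fc.ed (nat_lit 139) (nat_lit 57) Col.f (nat_lit 71) Dv.df)))))) (Tr.nd (nat_lit 148) (Tr.nd (nat_lit 144) (Tr.nd (nat_lit 142) (Tr.nd (nat_lit 141) (Tr.lf (Fc.ed (nat_lit 140) (nat_lit 71) Col.a (nat_lit 59) (Dv.wd (nat_lit 4) [Mv.b (nat_lit 120), Mv.f (nat_lit 116), Mv.f (nat_lit 139)]))) (Tr.lf (Fc.ed (nat_lit 141) (nat_lit 71) Col.c (nat_lit 63) (Dv.wd (nat_lit 5) [Mv.f (nat_lit 127), Mv.b (nat_lit 117), Mv.f (nat_lit 139)])))) (Tr.nd (nat_lit 143) (Tr.lf (Fc.ed (nat_lit 142) (nat_lit 57) Col.b (nat_lit 72) Dv.df)) (Tr.lf (Fc.ed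 (nat_lit 143) (nat_lit 55) Col.c (nat_lit 73) Dv.df)))) (Tr.nd (nat_lit 146) (Tr.nd (nat_lit 145) (Tr.lf (Fc.ed (nat_lit 144) (nat_lit 55) Col.a (nat_lit 74) Dv.df)) (Tr.lf (Fc.ed (nat_lit 145) (nat_lit 59) Col.d (nat_lit 75) Dv.df))) (Tr.nd (nat_lit 147) (Tr.lf (Fc.ed (nat_lit 146) (nat_lit 75) Col.f (nat_lit 60) (Dv.wd (nat_lit 14) [Mv.b (nat_lit 121), Mv.f (nat_lit 120), Mv.f (nat_lit 145)]))) (Tr.lf (Fc.ed (nat_lit 147) (nat_lit 54) Col.f (nat_lit 76) Dv.df))))) (Tr.nd (nat_lit 152) (Tr.nd (nat_lit 150) (Tr.nd (nat_lit 149) (Tr.lf (Fc.ed (nat_lit 148) (nat_lit 76) Col.c (nat_lit 58) (Dv.wd (nat_lit 5) [Mv.b (nat_lit 118), Mv.f (nat_lit 111), Mv.f (nat_lit 147)]))) (Tr.lf (Fc.ed (nat_lit 149) (nat_lit 58) Col.b (nat_lit 77) Dv.df))) (Tr.nd (nat_lit 151) (Tr.lf (Fc.ed (nat_lit 150) (nat_lit 61)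 Col.f (nat_lit 78) Dv.df)) (Tr.lf (Fc.ed (nat_lit 151) (nat_lit 62) Col.f (nat_lit 79) Dv.df)))) (Tr.nd (nat_lit 154) (Tr.nd (nat_lit 153) (Tr.lf (Fc.ed (nat_lit 152) (nat_lit 79) Col.d (nat_lit 64) (Dv.wd (nat_lit 6) [Mv.b (nat_lit 128), Mv.b (nat_lit 125), Mv.f (nat_lit 151)]))) (Tr.lf (Fc.ed (nat_lit 153) (nat_lit 79) Col.b (nat_lit 75) (Dv.wd (nat_lit 20) [Mv.f (nat_lit 146), Mv.f (nat_lit 122), Mv.b (nat_lit 95), Mv.f (nat_lit 124), Mv.f (nat_lit 151)])))) (Tr.nd (nat_lit 155) (Tr.lf (Fc.ed (nat_lit 154) (nat_lit 63) Col.b (nat_lit 80) Dv.df)) (Tr.lf (Fc.ed (nat_lit 155) (nat_lit 65) Col.b (nat_lit 81) Dv.df))))))) (Tr.nd (nat_lit 172) (Tr.nd (nat_lit 164) (Tr.nd (nat_lit 160) (Tr.nd (nat_lit 158) (Tr.nd (nat_lit 157) (Tr.lf (Fc.ed (nat_lit 156) (nat_lit 81) Col.d (nat_lit 77) (Dv.wd (nat_lit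 7) [Mv.b (nat_lit 149), Mv.b (nat_lit 130), Mv.f (nat_lit 155)]))) (Tr.lf (Fc.ed (nat_lit 157) (nat_lit 62) Col.c (nat_lit 82) Dv.df))) (Tr.nd (nat_lit 159) (Tr.lf (Fc.ed (nat_lit 158) (nat_lit 82) Col.b (nat_lit 70) (Dv.wd (nat_lit 12) [Mv.f (nat_lit 138), Mv.f (nat_lit 122), Mv.b (nat_lit 96), Mv.f (nat_lit 124), Mv.f (nat_lit 157)]))) (Tr.lf (Fc.ed (nat_lit 159) (nat_lit 72) Col.d (nat_lit 82) (Dv.wd (nat_lit 27) [Mv.f (nat_lit 158), Mv.b (nat_lit 137), Mv.f (nat_lit 142)]))))) (Tr.nd (nat_lit 162) (Tr.nd (nat_lit 161) (Tr.lf (Fc.ed (nat_lit 160) (nat_lit 67) Col.f (nat_lit 83) Dv.df)) (Tr.lf (Fc.ed (nat_lit 161) (nat_lit 83) Col.d (nat_lit 78) (Dv.wd (nat_lit 6) [Mv.b (nat_lit 150), Mv.b (nat_lit 133), Mv.f (nat_lit 160)])))) (Tr.nd (nat_lit 163) (Tr.lf (Fc.ed (nat_lit 162) (nat_lit 68) Col.b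 (nat_lit 84) Dv.df)) (Tr.lf (Fc.ed (nat_lit 163) (nat_lit 84) Col.d (nat_lit 80) (Dv.wd (nat_lit 7) [Mv.b (nat_lit 154), Mv.b (nat_lit 135), Mv.f (nat_lit 162)])))))) (Tr.nd (nat_lit 168) (Tr.nd (nat_lit 166) (Tr.nd (nat_lit 165) (Tr.lf (Fc.ed (nat_lit 164) (nat_lit 66) Col.f (nat_lit 85) Dv.df)) (Tr.lf (Fc.ed (nat_lit 165) (nat_lit 85) Col.b (nat_lit 69) (Dv.wd (nat_lit 20) [Mv.b (nat_lit 136), Mv.f (nat_lit 115), Mv.b (nat_lit 109), Mv.f (nat_lit 131), Mv.f (nat_lit 164)])))) (Tr.nd (nat_lit 167) (Tr.lf (Fc.ed (nat_lit 166) (nat_lit 66) Col.a (nat_lit 86) Dv.df)) (Tr.lf (Fc.ed (nat_lit 167) (nat_lit 70) Col.f (nat_lit 87) Dv.df)))) (Tr.nd (nat_lit 170) (Tr.nd (nat_lit 169) (Tr.lf (Fc.ed (nat_lit 168) (nat_lit 87) Col.c (nat_lit 75) (Dv.wd (nat_lit 5) [Mv.f (nat_lit 146), Mv.b (nat_lit 138), Mv.f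 (nat_lit 167)]))) (Tr.lf (Fc.ed (nat_lit 169) (nat_lit 87) Col.d (nat_lit 71) (Dv.wd (nat_lit 6) [Mv.b (nat_lit 139), Mv.f (nat_lit 137), Mv.f (nat_lit 167)])))) (Tr.nd (nat_lit 171) (Tr.lf (Fc.ed (nat_lit 170) (nat_lit 71) Col.b (nat_lit 88) Dv.df)) (Tr.lf (Fc.ed (nat_lit 171) (nat_lit 72) Col.c (nat_lit 89) Dv.df)))))) (Tr.nd (nat_lit 180) (Tr.nd (nat_lit 176) (Tr.nd (nat_lit 174) (Tr.nd (nat_lit 173) (Tr.lf (Fc.ed (nat_lit 172) (nat_lit 89) Col.a (nat_lit 72) (Dv.wd (nat_lit 28) [Mv.f (nat_lit 159), Mv.b (nat_lit 157), Mv.f (nat_lit 125), Mv.f (nat_lit 100), Mv.b (nat_lit 125), Mv.f (nat_lit 157), Mv.b (nat_lit 159), Mv.f (nat_lit 171)]))) (Tr.lf (Fc.ed (nat_lit 173) (nat_lit 72) Col.f (nat_lit 90) Dv.df))) (Tr.nd (nat_lit 175) (Tr.lf (Fc.ed (nat_lit 174) (nat_lit 74) Col.c (nat_lit 91) Dv.df))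 (Tr.lf (Fc.ed (nat_lit 175) (nat_lit 91) Col.a (nat_lit 73) (Dv.wd (nat_lit 13) [Mv.b (nat_lit 143), Mv.f (nat_lit 144), Mv.f (nat_lit 174)]))))) (Tr.nd (nat_lit 178) (Tr.nd (nat_lit 177) (Tr.lf (Fc.ed (nat_lit 176) (nat_lit 78) Col.b (nat_lit 92) Dv.df)) (Tr.lf (Fc.ed (nat_lit 177) (nat_lit 92) Col.f (nat_lit 77) (Dv.wd (nat_lit 8) [Mv.b (nat_lit 149), Mv.b (nat_lit 118), Mv.f (nat_lit 123), Mv.f (nat_lit 150), Mv.f (nat_lit 176)])))) (Tr.nd (nat_lit 179) (Tr.lf (Fc.ed (nat_lit 178) (nat_lit 77) Col.a (nat_lit 93) Dv.df)) (Tr.lf (Fc.ed (nat_lit 179) (nat_lit 79) Col.c (nat_lit 94) Dv.df))))) (Tr.nd (nat_lit 184) (Tr.nd (nat_lit 182) (Tr.nd (nat_lit 181) (Tr.lf (Fc.ed (nat_lit 180) (nat_lit 94) Col.f (nat_lit 82) (Dv.wd (nat_lit 11) [Mv.b (nat_lit 157), Mv.f (nat_lit 151), Mv.f (nat_lit 179)])))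 (Tr.lf (Fc.ed (nat_lit 181) (nat_lit 90) Col.d (nat_lit 94) (Dv.wd (nat_lit 29) [Mv.f (nat_lit 180), Mv.b (nat_lit 159), Mv.f (nat_lit 173)])))) (Tr.nd (nat_lit 183) (Tr.lf (Fc.ed (nat_lit 182) (nat_lit 81) Col.f (nat_lit 95) Dv.df)) (Tr.lf (Fc.ed (nat_lit 183) (nat_lit 95) Col.d (nat_lit 92) (Dv.wd (nat_lit 6) [Mv.f (nat_lit 177), Mv.b (nat_lit 156), Mv.f (nat_lit 182)]))))) (Tr.nd (nat_lit 186) (Tr.nd (nat_lit 185) (Tr.lf (Fc.ed (nat_lit 184) (nat_lit 80) Col.a (nat_lit 96) Dv.df)) (Tr.lf (Fc.ed (nat_lit 185) (nat_lit 80) Col.c (nat_lit 97) Dv.df))) (Tr.nd (nat_lit 187) (Tr.lf (Fc.ed (nat_lit 186) (nat_lit 85) Col.a (nat_lit 98) Dv.df)) (Tr.lf (Fc.ed (nat_lit 187) (nat_lit 98) Col.f (nat_lit 86) (Dv.wd (nat_lit 10) [Mv.b (nat_lit 166), Mv.f (nat_lit 164), Mv.f (nat_lit 186)]))))))))) (Tr.nd (nat_lit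 219) (Tr.nd (nat_lit 203) (Tr.nd (nat_lit 195) (Tr.nd (nat_lit 191) (Tr.nd (nat_lit 189) (Tr.lf (Fc.ed (nat_lit 188) (nat_lit 84) Col.c (nat_lit 99) Dv.df)) (Tr.nd (nat_lit 190) (Tr.lf (Fc.ed (nat_lit 189) (nat_lit 99) Col.f (nat_lit 93) (Dv.wd (nat_lit 30) [Mv.b (nat_lit 178), Mv.b (nat_lit 149), Mv.b (nat_lit 148), Mv.b (nat_lit 147), Mv.f (nat_lit 112), Mv.f (nat_lit 84), Mv.b (nat_lit 74), Mv.b (nat_lit 73), Mv.b (nat_lit 65), Mv.b (nat_lit 29), Mv.f (nat_lit 39), Mv.f (nat_lit 40), Mv.b (nat_lit 45), Mv.f (nat_lit 66), Mv.f (nat_lit 68), Mv.f (nat_lit 105), Mv.f (nat_lit 134), Mv.f (nat_lit 162), Mv.f (nat_lit 188)]))) (Tr.lf (Fc.ed (nat_lit 190) (nat_lit 92) Col.a (nat_lit 99) (Dv.wd (nat_lit 23) [Mv.f (nat_lit 189), Mv.b (nat_lit 178), Mv.b (nat_lit 177)]))))) (Tr.nd (nat_lit 193) (Tr.nd (nat_lit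 192) (Tr.lf (Fc.ed (nat_lit 191) (nat_lit 88) Col.c (nat_lit 100) Dv.df)) (Tr.lf (Fc.ed (nat_lit 192) (nat_lit 100) Col.b (nat_lit 97) (Dv.wd (nat_lit 12) [Mv.b (nat_lit 185), Mv.b (nat_lit 154), Mv.b (nat_lit 141), Mv.f (nat_lit 170), Mv.f (nat_lit 191)])))) (Tr.nd (nat_lit 194) (Tr.lf (Fc.ed (nat_lit 193) (nat_lit 87) Col.b (nat_lit 101) Dv.df)) (Tr.lf (Fc.ed (nat_lit 194) (nat_lit 101) Col.d (nat_lit 88) (Dv.wd (nat_lit 7) [Mv.b (nat_lit 170), Mv.b (nat_lit 169), Mv.f (nat_lit 193)])))))) (Tr.nd (nat_lit 199) (Tr.nd (nat_lit 197) (Tr.nd (nat_lit 196) (Tr.lf (Fc.ed (nat_lit 195) (nat_lit 88) Col.f (nat_lit 102) Dv.df)) (Tr.lf (Fc.ed (nat_lit 196) (nat_lit 102) Col.b (nat_lit 90) (Dv.wd (nat_lit 20) [Mv.b (nat_lit 173), Mv.b (nat_lit 142), Mv.f (nat_lit 139), Mv.f (nat_lit 170), Mv.f (nat_lit 195)]))))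 (Tr.nd (nat_lit 198) (Tr.lf (Fc.ed (nat_lit 197) (nat_lit 84) Col.a (nat_lit 103) Dv.df)) (Tr.lf (Fc.ed (nat_lit 198) (nat_lit 103) Col.c (nat_lit 92) (Dv.wd (nat_lit 17) [Mv.f (nat_lit 190), Mv.b (nat_lit 188), Mv.f (nat_lit 197)]))))) (Tr.nd (nat_lit 201) (Tr.nd (nat_lit 200) (Tr.lf (Fc.ed (nat_lit 199) (nat_lit 103) Col.d (nat_lit 96) (Dv.wd (nat_lit 9) [Mv.b (nat_lit 184), Mv.b (nat_lit 163), Mv.f (nat_lit 197)]))) (Tr.lf (Fc.ed (nat_lit 200) (nat_lit 88) Col.a (nat_lit 104) Dv.df))) (Tr.nd (nat_lit 202) (Tr.lf (Fc.ed (nat_lit 201) (nat_lit 104) Col.f (nat_lit 100) (Dv.wd (nat_lit 22) [Mv.b (nat_lit 191), Mv.b (nat_lit 170), Mv.f (nat_lit 140), Mv.b (nat_lit 120), Mv.f (nat_lit 90), Mv.b (nat_lit 48), Mv.b (nat_lit 45), Mv.f (nat_lit 46), Mv.b (nat_lit 44), Mv.f (nat_lit 33), Mv.f (nat_lit 32),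 Mv.f (nat_lit 26), Mv.f (nat_lit 39), Mv.f (nat_lit 48), Mv.f (nat_lit 104), Mv.b (nat_lit 127), Mv.b (nat_lit 141), Mv.f (nat_lit 170), Mv.f (nat_lit 200)]))) (Tr.lf (Fc.ed (nat_lit 202) (nat_lit 102) Col.a (nat_lit 100) (Dv.wd (nat_lit 23) [Mv.b (nat_lit 201), Mv.b (nat_lit 200), Mv.f (nat_lit 195)]))))))) (Tr.nd (nat_lit 211) (Tr.nd (nat_lit 207) (Tr.nd (nat_lit 205) (Tr.nd (nat_lit 204) (Tr.lf (Fc.ed (nat_lit 203) (nat_lit 104) Col.c (nat_lit 102) (Dv.wd (nat_lit 31) [Mv.f (nat_lit 202), Mv.b (nat_lit 191), Mv.f (nat_lit 200)]))) (Tr.lf (Fc.ed (nat_lit 204) (nat_lit 89) Col.f (nat_lit 105) Dv.df))) (Tr.nd (nat_lit 206) (Tr.lf (Fc.ed (nat_lit 205) (nat_lit 105) Col.a (nat_lit 90) (Dv.wd (nat_lit 4) [Mv.b (nat_lit 173), Mv.b (nat_lit 172), Mv.f (nat_lit 204)]))) (Tr.lf (Fc.ed (nat_lit 206) (nat_lit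 105) Col.c (nat_lit 90) (Dv.wd (nat_lit 5) [Mv.b (nat_lit 173), Mv.f (nat_lit 171), Mv.f (nat_lit 204)]))))) (Tr.nd (nat_lit 209) (Tr.nd (nat_lit 208) (Tr.lf (Fc.ed (nat_lit 207) (nat_lit 94) Col.b (nat_lit 106) Dv.df)) (Tr.lf (Fc.ed (nat_lit 208) (nat_lit 106) Col.d (nat_lit 102) (Dv.wd (nat_lit 7) [Mv.f (nat_lit 196), Mv.f (nat_lit 181), Mv.f (nat_lit 207)])))) (Tr.nd (nat_lit 210) (Tr.lf (Fc.ed (nat_lit 209) (nat_lit 106) Col.c (nat_lit 101) (Dv.wd (nat_lit 19) [Mv.b (nat_lit 193), Mv.f (nat_lit 168), Mv.b (nat_lit 153), Mv.f (nat_lit 179), Mv.f (nat_lit 207)]))) (Tr.lf (Fc.al (nat_lit 210) (nat_lit 100) (nat_lit 102) (Dv.wd (nat_lit 32) [Mv.b (nat_lit 208), Mv.f (nat_lit 209), Mv.f (nat_lit 194), Mv.f (nat_lit 200), Mv.f (nat_lit 203), Mv.b (nat_lit 208), Mv.f (nat_lit 209), Mv.f (nat_lit 194),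 Mv.f (nat_lit 191)])))))) (Tr.nd (nat_lit 215) (Tr.nd (nat_lit 213) (Tr.nd (nat_lit 212) (Tr.lf (Fc.al (nat_lit 211) (nat_lit 97) (nat_lit 90) (Dv.wd (nat_lit 33) [Mv.b (nat_lit 196), Mv.b (nat_lit 210), Mv.f (nat_lit 192)]))) (Tr.lf (Fc.al (nat_lit 212) (nat_lit 105) (nat_lit 80) (Dv.wd (nat_lit 34) [Mv.f (nat_lit 185), Mv.f (nat_lit 211), Mv.b (nat_lit 206)])))) (Tr.nd (nat_lit 214) (Tr.lf (Fc.al (nat_lit 213) (nat_lit 96) (nat_lit 90) (Dv.wd (nat_lit 35) [Mv.b (nat_lit 205), Mv.f (nat_lit 212), Mv.f (nat_lit 184)]))) (Tr.lf (Fc.al (nat_lit 214) (nat_lit 94) (nat_lit 103) (Dv.wd (nat_lit 36) [Mv.f (nat_lit 199), Mv.f (nat_lit 213), Mv.f (nat_lit 181)]))))) (Tr.nd (nat_lit 217) (Tr.nd (nat_lit 216) (Tr.lf (Fc.al (nat_lit 215) (nat_lit 79) (nat_lit 92) (Dv.wd (nat_lit 34) [Mv.b (nat_lit 198), Mv.b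 (nat_lit 214), Mv.b (nat_lit 179)]))) (Tr.lf (Fc.al (nat_lit 216) (nat_lit 75) (nat_lit 78) (Dv.wd (nat_lit 33) [Mv.f (nat_lit 176), Mv.b (nat_lit 215), Mv.f (nat_lit 153)])))) (Tr.nd (nat_lit 218) (Tr.lf (Fc.al (nat_lit 217) (nat_lit 64) (nat_lit 95) (Dv.wd (nat_lit 36) [Mv.f (nat_lit 183), Mv.b (nat_lit 215), Mv.f (nat_lit 152)]))) (Tr.lf (Fc.al (nat_lit 218) (nat_lit 62) (nat_lit 77) (Dv.wd (nat_lit 37) [Mv.b (nat_lit 177), Mv.b (nat_lit 215), Mv.b (nat_lit 151)])))))))) (Tr.nd (nat_lit 235) (Tr.nd (nat_lit 227) (Tr.nd (nat_lit 223) (Tr.nd (nat_lit 221) (Tr.nd (nat_lit 220) (Tr.lf (Fc.al (nat_lit 219) (nat_lit 59) (nat_lit 83) (Dv.wd (nat_lit 36) [Mv.f (nat_lit 161), Mv.b (nat_lit 216), Mv.b (nat_lit 145)]))) (Tr.lf (Fc.al (nat_lit 220) (nat_lit 60) (nat_lit 61) (Dv.wd (nat_lit 37) [Mv.f (nat_lit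 150), Mv.b (nat_lit 216), Mv.f (nat_lit 146)])))) (Tr.nd (nat_lit 222) (Tr.lf (Fc.al (nat_lit 221) (nat_lit 47) (nat_lit 81) (Dv.wd (nat_lit 37) [Mv.f (nat_lit 182), Mv.b (nat_lit 217), Mv.b (nat_lit 128)]))) (Tr.lf (Fc.al (nat_lit 222) (nat_lit 45) (nat_lit 58) (Dv.wd (nat_lit 33) [Mv.f (nat_lit 149), Mv.b (nat_lit 218), Mv.b (nat_lit 124)]))))) (Tr.nd (nat_lit 225) (Tr.nd (nat_lit 224) (Tr.lf (Fc.al (nat_lit 223) (nat_lit 42) (nat_lit 67) (Dv.wd (nat_lit 37) [Mv.f (nat_lit 160), Mv.b (nat_lit 219), Mv.b (nat_lit 120)]))) (Tr.lf (Fc.al (nat_lit 224) (nat_lit 44) (nat_lit 37) (Dv.wd (nat_lit 33) [Mv.f (nat_lit 123), Mv.b (nat_lit 220), Mv.f (nat_lit 122)])))) (Tr.nd (nat_lit 226) (Tr.lf (Fc.al (nat_lit 225) (nat_lit 35) (nat_lit 65) (Dv.wd (nat_lit 33) [Mv.f (nat_lit 155), Mv.b (nat_lit 221), Mv.b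 (nat_lit 99)]))) (Tr.lf (Fc.al (nat_lit 226) (nat_lit 43) (nat_lit 40) (Dv.wd (nat_lit 35) [Mv.b (nat_lit 119), Mv.b (nat_lit 222), Mv.f (nat_lit 94)])))))) (Tr.nd (nat_lit 231) (Tr.nd (nat_lit 229) (Tr.nd (nat_lit 228) (Tr.lf (Fc.al (nat_lit 227) (nat_lit 29) (nat_lit 49) (Dv.wd (nat_lit 33) [Mv.f (nat_lit 132), Mv.b (nat_lit 223), Mv.b (nat_lit 89)]))) (Tr.lf (Fc.al (nat_lit 228) (nat_lit 27) (nat_lit 52) (Dv.wd (nat_lit 35) [Mv.f (nat_lit 108), Mv.f (nat_lit 224), Mv.b (nat_lit 80)])))) (Tr.nd (nat_lit 230) (Tr.lf (Fc.al (nat_lit 229) (nat_lit 54) (nat_lit 45) (Dv.wd (nat_lit 34) [Mv.f (nat_lit 96), Mv.f (nat_lit 224), Mv.f (nat_lit 111)]))) (Tr.lf (Fc.al (nat_lit 230) (nat_lit 34) (nat_lit 46) (Dv.wd (nat_lit 35) [Mv.f (nat_lit 129), Mv.b (nat_lit 225), Mv.f (nat_lit 76)]))))) (Tr.nd (nat_lit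 233) (Tr.nd (nat_lit 232) (Tr.lf (Fc.ed (nat_lit 231) (nat_lit 40) Col.a (nat_lit 45) (Dv.wd (nat_lit 35) [Mv.f (nat_lit 94), Mv.f (nat_lit 226)]))) (Tr.lf (Fc.al (nat_lit 232) (nat_lit 53) (nat_lit 56) (Dv.wd (nat_lit 33) [Mv.f (nat_lit 115), Mv.f (nat_lit 226), Mv.f (nat_lit 110)])))) (Tr.nd (nat_lit 234) (Tr.lf (Fc.al (nat_lit 233) (nat_lit 41) (nat_lit 36) (Dv.wd (nat_lit 35) [Mv.f (nat_lit 102), Mv.b (nat_lit 227), Mv.b (nat_lit 87)]))) (Tr.lf (Fc.al (nat_lit 234) (nat_lit 19) (nat_lit 66) (Dv.wd (nat_lit 33) [Mv.b (nat_lit 131), Mv.b (nat_lit 228), Mv.b (nat_lit 59)]))))))) (Tr.nd (nat_lit 243) (Tr.nd (nat_lit 239) (Tr.nd (nat_lit 237) (Tr.nd (nat_lit 236) (Tr.lf (Fc.al (nat_lit 235) (nat_lit 40) (nat_lit 39) (Dv.wd (nat_lit 35) [Mv.b (nat_lit 112), Mv.f (nat_lit 229), Mv.b (nat_lit 231)])))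 (Tr.lf (Fc.al (nat_lit 236) (nat_lit 53) (nat_lit 34) (Dv.wd (nat_lit 36) [Mv.f (nat_lit 230), Mv.f (nat_lit 98), Mv.f (nat_lit 235), Mv.f (nat_lit 114), Mv.b (nat_lit 232)])))) (Tr.nd (nat_lit 238) (Tr.lf (Fc.al (nat_lit 237) (nat_lit 36) (nat_lit 69) (Dv.wd (nat_lit 37) [Mv.b (nat_lit 136), Mv.b (nat_lit 232), Mv.f (nat_lit 236), Mv.b (nat_lit 88), Mv.f (nat_lit 233)]))) (Tr.lf (Fc.al (nat_lit 238) (nat_lit 26) (nat_lit 55) (Dv.wd (nat_lit 33) [Mv.b (nat_lit 113), Mv.f (nat_lit 233), Mv.b (nat_lit 78)]))))) (Tr.nd (nat_lit 241) (Tr.nd (nat_lit 240) (Tr.lf (Fc.al (nat_lit 239) (nat_lit 26) (nat_lit 86) (Dv.wd (nat_lit 35) [Mv.b (nat_lit 166), Mv.b (nat_lit 234), Mv.b (nat_lit 58)]))) (Tr.lf (Fc.al (nat_lit 240) (nat_lit 23) (nat_lit 85) (Dv.wd (nat_lit 37) [Mv.b (nat_lit 164), Mv.b (nat_lit 234),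 Mv.b (nat_lit 52)])))) (Tr.nd (nat_lit 242) (Tr.lf (Fc.al (nat_lit 241) (nat_lit 26) (nat_lit 23) (Dv.wd (nat_lit 33) [Mv.f (nat_lit 240), Mv.f (nat_lit 165), Mv.b (nat_lit 237), Mv.b (nat_lit 78)]))) (Tr.lf (Fc.al (nat_lit 242) (nat_lit 38) (nat_lit 74) (Dv.wd (nat_lit 35) [Mv.b (nat_lit 144), Mv.b (nat_lit 238), Mv.f (nat_lit 241), Mv.b (nat_lit 82)])))))) (Tr.nd (nat_lit 247) (Tr.nd (nat_lit 245) (Tr.nd (nat_lit 244) (Tr.lf (Fc.al (nat_lit 243) (nat_lit 15) (nat_lit 73) (Dv.wd (nat_lit 34) [Mv.b (nat_lit 143), Mv.b (nat_lit 238), Mv.f (nat_lit 241), Mv.b (nat_lit 51)]))) (Tr.lf (Fc.al (nat_lit 244) (nat_lit 19) (nat_lit 98) (Dv.wd (nat_lit 37) [Mv.f (nat_lit 187), Mv.b (nat_lit 239), Mv.f (nat_lit 241), Mv.f (nat_lit 52)])))) (Tr.nd (nat_lit 246) (Tr.lf (Fc.al (nat_lit 245) (nat_lit 38) (nat_lit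 19) (Dv.wd (nat_lit 35) [Mv.f (nat_lit 244), Mv.b (nat_lit 186), Mv.b (nat_lit 240), Mv.b (nat_lit 82)]))) (Tr.lf (Fc.al (nat_lit 246) (nat_lit 13) (nat_lit 91) (Dv.wd (nat_lit 34) [Mv.b (nat_lit 174), Mv.b (nat_lit 242), Mv.f (nat_lit 245), Mv.b (nat_lit 43)]))))) (Tr.nd (nat_lit 249) (Tr.nd (nat_lit 248) (Tr.lf (Fc.al (nat_lit 247) (nat_lit 28) (nat_lit 13) (Dv.wd (nat_lit 35) [Mv.f (nat_lit 246), Mv.f (nat_lit 175), Mv.b (nat_lit 243), Mv.b (nat_lit 61)]))) (Tr.lf (Fc.al (nat_lit 248) (nat_lit 8) (nat_lit 18) (Dv.wd (nat_lit 36) [Mv.f (nat_lit 60), Mv.f (nat_lit 247), Mv.b (nat_lit 30)])))) (Tr.nd (nat_lit 250) (Tr.lf (Fc.al (nat_lit 249) (nat_lit 4) (nat_lit 6) (Dv.wd (nat_lit 34) [Mv.b (nat_lit 42), Mv.b (nat_lit 248), Mv.b (nat_lit 21)]))) (Tr.lf (Fc.ed (nat_lit 250) (nat_lit 4) Col.a (nat_lit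 5) (Dv.wd (nat_lit 35) [Mv.f (nat_lit 17), Mv.b (nat_lit 249)])))))))))))
noncomputable def mini0A : Tr (Alt Col) := (Tr.nd (nat_lit 19) (Tr.nd (nat_lit 9) (Tr.nd (nat_lit 4) (Tr.nd (nat_lit 2) (Tr.nd (nat_lit 1) (Tr.lf (Alt.base (nat_lit 0) [] [Col.a])) (Tr.lf (Alt.base (nat_lit 1) [] [Col.b]))) (Tr.nd (nat_lit 3) (Tr.lf (Alt.base (nat_lit 2) [] [Col.c])) (Tr.lf (Alt.base (nat_lit 3) [] [Col.d])))) (Tr.nd (nat_lit 6) (Tr.nd (nat_lit 5) (Tr.lf (Alt.word (nat_lit 5) (nat_lit 1) true [Col.a, Col.f, Col.a, Col.f])) (Tr.lf (Alt.word (nat_lit 14) (nat_lit 1) true [Col.c, Col.f, Col.c, Col.f]))) (Tr.nd (nat_lit 7) (Tr.lf (Alt.word (nat_lit 17) (nat_lit 1) true [Col.d, Col.f, Col.d, Col.f])) (Tr.nd (nat_lit 8) (Tr.lf (Alt.word (nat_lit 8) (nat_lit 2) true [Col.d, Col.b, Col.d, Col.b])) (Tr.lf (Alt.word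 (nat_lit 10) (nat_lit 2) true [Col.f, Col.b, Col.f, Col.b, Col.f, Col.b])))))) (Tr.nd (nat_lit 14) (Tr.nd (nat_lit 11) (Tr.nd (nat_lit 10) (Tr.lf (Alt.word (nat_lit 3) (nat_lit 2) true [Col.d, Col.a, Col.d, Col.a])) (Tr.lf (Alt.word (nat_lit 5) (nat_lit 2) true [Col.f, Col.a, Col.f, Col.a]))) (Tr.nd (nat_lit 12) (Tr.lf (Alt.word (nat_lit 14) (nat_lit 2) true [Col.f, Col.c, Col.f, Col.c])) (Tr.nd (nat_lit 13) (Tr.lf (Alt.word (nat_lit 7) (nat_lit 1) true [Col.b, Col.c, Col.b, Col.c, Col.b, Col.c])) (Tr.lf (Alt.word (nat_lit 2) (nat_lit 1) true [Col.a, Col.c, Col.a, Col.c]))))) (Tr.nd (nat_lit 16) (Tr.nd (nat_lit 15) (Tr.lf (Alt.word (nat_lit 17) (nat_lit 2) true [Col.f, Col.d, Col.f, Col.d])) (Tr.lf (Alt.word (nat_lit 3) (nat_lit 1) true [Col.a, Col.d, Col.a, Col.d]))) (Tr.nd (nat_lit 17) (Tr.lf (Alt.word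 (nat_lit 8) (nat_lit 1) true [Col.b, Col.d, Col.b, Col.d])) (Tr.nd (nat_lit 18) (Tr.lf (Alt.word (nat_lit 2) (nat_lit 2) true [Col.c, Col.a, Col.c, Col.a])) (Tr.lf (Alt.word (nat_lit 21) (nat_lit 1) true [Col.d, Col.c, Col.d, Col.c, Col.d, Col.c, Col.d, Col.a, Col.c]))))))) (Tr.nd (nat_lit 28) (Tr.nd (nat_lit 23) (Tr.nd (nat_lit 21) (Tr.nd (nat_lit 20) (Tr.lf (Alt.word (nat_lit 7) (nat_lit 2) true [Col.c, Col.b, Col.c, Col.b, Col.c, Col.b])) (Tr.lf (Alt.word (nat_lit 10) (nat_lit 1) true [Col.b, Col.f, Col.b, Col.f, Col.b, Col.f]))) (Tr.nd (nat_lit 22) (Tr.lf (Alt.word (nat_lit 21) (nat_lit 8) true [Col.a, Col.c, Col.d, Col.c, Col.d, Col.c, Col.d, Col.c, Col.d])) (Tr.lf (Alt.word (nat_lit 22) (nat_lit 4) true [Col.f, Col.c, Col.b, Col.a, Col.f, Col.c, Col.b, Col.a, Col.f, Col.c, Col.b, Col.a, Col.f,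 Col.c, Col.b, Col.a, Col.f, Col.c, Col.b, Col.a])))) (Tr.nd (nat_lit 25) (Tr.nd (nat_lit 24) (Tr.lf (Alt.word (nat_lit 5) (nat_lit 3) true [Col.a, Col.f, Col.a, Col.f])) (Tr.lf (Alt.word (nat_lit 3) (nat_lit 3) true [Col.a, Col.d, Col.a, Col.d]))) (Tr.nd (nat_lit 26) (Tr.lf (Alt.word (nat_lit 5) (nat_lit 0) true [Col.f, Col.a, Col.f, Col.a])) (Tr.nd (nat_lit 27) (Tr.lf (Alt.word (nat_lit 21) (nat_lit 2) true [Col.c, Col.d, Col.c, Col.d, Col.c, Col.d, Col.a, Col.c, Col.d])) (Tr.lf (Alt.word (nat_lit 8) (nat_lit 0) true [Col.d, Col.b, Col.d, Col.b])))))) (Tr.nd (nat_lit 33) (Tr.nd (nat_lit 30) (Tr.nd (nat_lit 29) (Tr.lf (Alt.word (nat_lit 21) (nat_lit 0) false [Col.a, Col.d, Col.c, Col.d, Col.c, Col.d, Col.c, Col.d, Col.c])) (Tr.lf (Alt.word (nat_lit 17) (nat_lit 3) true [Col.d, Col.f, Col.d, Col.f])))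 (Tr.nd (nat_lit 31) (Tr.lf (Alt.word (nat_lit 22) (nat_lit 3) false [Col.f, Col.a, Col.b, Col.c, Col.f, Col.a, Col.b, Col.c, Col.f, Col.a, Col.b, Col.c, Col.f, Col.a, Col.b, Col.c, Col.f, Col.a, Col.b, Col.c])) (Tr.nd (nat_lit 32) (Tr.lf (Alt.word (nat_lit 2) (nat_lit 0) true [Col.c, Col.a, Col.c, Col.a])) (Tr.lf (Alt.word (nat_lit 21) (nat_lit 5) true [Col.d, Col.c, Col.d, Col.a, Col.c, Col.d, Col.c, Col.d, Col.c]))))) (Tr.nd (nat_lit 35) (Tr.nd (nat_lit 34) (Tr.lf (Alt.word (nat_lit 6) (nat_lit 0) true [Col.b, Col.b])) (Tr.lf (Alt.word (nat_lit 11) (nat_lit 0) true [Col.c, Col.c]))) (Tr.nd (nat_lit 36) (Tr.lf (Alt.word (nat_lit 0) (nat_lit 0) true [Col.a, Col.a])) (Tr.nd (nat_lit 37) (Tr.lf (Alt.word (nat_lit 15) (nat_lit 0) true [Col.d, Col.d])) (Tr.lf (Alt.word (nat_lit 20) (nat_lit 0) true [Col.f,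 Col.f]))))))))
noncomputable def mini0P : Tr ℕ := (Tr.nd (nat_lit 53) (Tr.nd (nat_lit 26) (Tr.nd (nat_lit 13) (Tr.nd (nat_lit 6) (Tr.nd (nat_lit 3) (Tr.nd (nat_lit 1) (Tr.lf (nat_lit 0)) (Tr.nd (nat_lit 2) (Tr.lf (nat_lit 0)) (Tr.lf (nat_lit 1)))) (Tr.nd (nat_lit 4) (Tr.lf (nat_lit 2)) (Tr.nd (nat_lit 5) (Tr.lf (nat_lit 3)) (Tr.lf (nat_lit 4))))) (Tr.nd (nat_lit 9) (Tr.nd (nat_lit 7) (Tr.lf (nat_lit 5)) (Tr.nd (nat_lit 8) (Tr.lf (nat_lit 2)) (Tr.lf (nat_lit 4)))) (Tr.nd (nat_lit 11) (Tr.nd (nat_lit 10) (Tr.lf (nat_lit 3)) (Tr.lf (nat_lit 9))) (Tr.nd (nat_lit 12) (Tr.lf (nat_lit 5)) (Tr.lf (nat_lit 10)))))) (Tr.nd (nat_lit 19) (Tr.nd (nat_lit 16) (Tr.nd (nat_lit 14) (Tr.lf (nat_lit 8)) (Tr.nd (nat_lit 15) (Tr.lf (nat_lit 7)) (Tr.lf (nat_lit 11)))) (Tr.nd (nat_lit 17) (Tr.lf (nat_lit 9)) (Tr.nd (nat_lit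 18) (Tr.lf (nat_lit 10)) (Tr.lf (nat_lit 11))))) (Tr.nd (nat_lit 22) (Tr.nd (nat_lit 20) (Tr.lf (nat_lit 13)) (Tr.nd (nat_lit 21) (Tr.lf (nat_lit 14)) (Tr.lf (nat_lit 17)))) (Tr.nd (nat_lit 24) (Tr.nd (nat_lit 23) (Tr.lf (nat_lit 8)) (Tr.lf (nat_lit 15))) (Tr.nd (nat_lit 25) (Tr.lf (nat_lit 13)) (Tr.lf (nat_lit 12))))))) (Tr.nd (nat_lit 39) (Tr.nd (nat_lit 32) (Tr.nd (nat_lit 29) (Tr.nd (nat_lit 27) (Tr.lf (nat_lit 19)) (Tr.nd (nat_lit 28) (Tr.lf (nat_lit 19)) (Tr.lf (nat_lit 18)))) (Tr.nd (nat_lit 30) (Tr.lf (nat_lit 12)) (Tr.nd (nat_lit 31) (Tr.lf (nat_lit 16)) (Tr.lf (nat_lit 12))))) (Tr.nd (nat_lit 35) (Tr.nd (nat_lit 33) (Tr.lf (nat_lit 20)) (Tr.nd (nat_lit 34) (Tr.lf (nat_lit 16)) (Tr.lf (nat_lit 24)))) (Tr.nd (nat_lit 37) (Tr.nd (nat_lit 36) (Tr.lf (nat_lit 25)) (Tr.lf (nat_lit 26))) (Tr.nd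 (nat_lit 38) (Tr.lf (nat_lit 27)) (Tr.lf (nat_lit 26)))))) (Tr.nd (nat_lit 46) (Tr.nd (nat_lit 42) (Tr.nd (nat_lit 40) (Tr.lf (nat_lit 27)) (Tr.nd (nat_lit 41) (Tr.lf (nat_lit 27)) (Tr.lf (nat_lit 31)))) (Tr.nd (nat_lit 44) (Tr.nd (nat_lit 43) (Tr.lf (nat_lit 29)) (Tr.lf (nat_lit 34))) (Tr.nd (nat_lit 45) (Tr.lf (nat_lit 29)) (Tr.lf (nat_lit 35))))) (Tr.nd (nat_lit 49) (Tr.nd (nat_lit 47) (Tr.lf (nat_lit 36)) (Tr.nd (nat_lit 48) (Tr.lf (nat_lit 35)) (Tr.lf (nat_lit 21)))) (Tr.nd (nat_lit 51) (Tr.nd (nat_lit 50) (Tr.lf (nat_lit 36)) (Tr.lf (nat_lit 21))) (Tr.nd (nat_lit 52) (Tr.lf (nat_lit 32)) (Tr.lf (nat_lit 41)))))))) (Tr.nd (nat_lit 80) (Tr.nd (nat_lit 66) (Tr.nd (nat_lit 59) (Tr.nd (nat_lit 56) (Tr.nd (nat_lit 54) (Tr.lf (nat_lit 40)) (Tr.nd (nat_lit 55) (Tr.lf (nat_lit 37)) (Tr.lf (nat_lit 41))))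 (Tr.nd (nat_lit 57) (Tr.lf (nat_lit 39)) (Tr.nd (nat_lit 58) (Tr.lf (nat_lit 42)) (Tr.lf (nat_lit 37))))) (Tr.nd (nat_lit 62) (Tr.nd (nat_lit 60) (Tr.lf (nat_lit 42)) (Tr.nd (nat_lit 61) (Tr.lf (nat_lit 42)) (Tr.lf (nat_lit 37)))) (Tr.nd (nat_lit 64) (Tr.nd (nat_lit 63) (Tr.lf (nat_lit 45)) (Tr.lf (nat_lit 48))) (Tr.nd (nat_lit 65) (Tr.lf (nat_lit 47)) (Tr.lf (nat_lit 46)))))) (Tr.nd (nat_lit 73) (Tr.nd (nat_lit 69) (Tr.nd (nat_lit 67) (Tr.lf (nat_lit 52)) (Tr.nd (nat_lit 68) (Tr.lf (nat_lit 49)) (Tr.lf (nat_lit 51)))) (Tr.nd (nat_lit 71) (Tr.nd (nat_lit 70) (Tr.lf (nat_lit 56)) (Tr.lf (nat_lit 57))) (Tr.nd (nat_lit 72) (Tr.lf (nat_lit 57)) (Tr.lf (nat_lit 57))))) (Tr.nd (nat_lit 76) (Tr.nd (nat_lit 74) (Tr.lf (nat_lit 55)) (Tr.nd (nat_lit 75) (Tr.lf (nat_lit 55)) (Tr.lf (nat_lit 59)))) (Tr.nd (nat_lit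 78) (Tr.nd (nat_lit 77) (Tr.lf (nat_lit 54)) (Tr.lf (nat_lit 58))) (Tr.nd (nat_lit 79) (Tr.lf (nat_lit 61)) (Tr.lf (nat_lit 62))))))) (Tr.nd (nat_lit 93) (Tr.nd (nat_lit 86) (Tr.nd (nat_lit 83) (Tr.nd (nat_lit 81) (Tr.lf (nat_lit 63)) (Tr.nd (nat_lit 82) (Tr.lf (nat_lit 65)) (Tr.lf (nat_lit 62)))) (Tr.nd (nat_lit 84) (Tr.lf (nat_lit 67)) (Tr.nd (nat_lit 85) (Tr.lf (nat_lit 68)) (Tr.lf (nat_lit 66))))) (Tr.nd (nat_lit 89) (Tr.nd (nat_lit 87) (Tr.lf (nat_lit 66)) (Tr.nd (nat_lit 88) (Tr.lf (nat_lit 70)) (Tr.lf (nat_lit 71)))) (Tr.nd (nat_lit 91) (Tr.nd (nat_lit 90) (Tr.lf (nat_lit 72)) (Tr.lf (nat_lit 72))) (Tr.nd (nat_lit 92) (Tr.lf (nat_lit 74)) (Tr.lf (nat_lit 78)))))) (Tr.nd (nat_lit 100) (Tr.nd (nat_lit 96) (Tr.nd (nat_lit 94) (Tr.lf (nat_lit 77)) (Tr.nd (nat_lit 95) (Tr.lf (nat_lit 79)) (Tr.lf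 (nat_lit 81)))) (Tr.nd (nat_lit 98) (Tr.nd (nat_lit 97) (Tr.lf (nat_lit 80)) (Tr.lf (nat_lit 80))) (Tr.nd (nat_lit 99) (Tr.lf (nat_lit 85)) (Tr.lf (nat_lit 84))))) (Tr.nd (nat_lit 103) (Tr.nd (nat_lit 101) (Tr.lf (nat_lit 88)) (Tr.nd (nat_lit 102) (Tr.lf (nat_lit 87)) (Tr.lf (nat_lit 88)))) (Tr.nd (nat_lit 105) (Tr.nd (nat_lit 104) (Tr.lf (nat_lit 84)) (Tr.lf (nat_lit 88))) (Tr.nd (nat_lit 106) (Tr.lf (nat_lit 89)) (Tr.lf (nat_lit 94)))))))))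
noncomputable def mini0Q : Tr ℕ := (Tr.nd (nat_lit 53) (Tr.nd (nat_lit 26) (Tr.nd (nat_lit 13) (Tr.nd (nat_lit 6) (Tr.nd (nat_lit 3) (Tr.nd (nat_lit 1) (Tr.lf (nat_lit 0)) (Tr.nd (nat_lit 2) (Tr.lf (nat_lit 5)) (Tr.lf (nat_lit 1)))) (Tr.nd (nat_lit 4) (Tr.lf (nat_lit 0)) (Tr.nd (nat_lit 5) (Tr.lf (nat_lit 1)) (Tr.lf (nat_lit 5))))) (Tr.nd (nat_lit 9) (Tr.nd (nat_lit 7) (Tr.lf (nat_lit 0)) (Tr.nd (nat_lit 8) (Tr.lf (nat_lit 2)) (Tr.lf (nat_lit 2)))) (Tr.nd (nat_lit 11) (Tr.nd (nat_lit 10) (Tr.lf (nat_lit 2)) (Tr.lf (nat_lit 3))) (Tr.nd (nat_lit 12) (Tr.lf (nat_lit 2)) (Tr.lf (nat_lit 1)))))) (Tr.nd (nat_lit 19) (Tr.nd (nat_lit 16) (Tr.nd (nat_lit 14) (Tr.lf (nat_lit 3)) (Tr.nd (nat_lit 15) (Tr.lf (nat_lit 3)) (Tr.lf (nat_lit 3)))) (Tr.nd (nat_lit 17) (Tr.lf (nat_lit 1)) (Tr.nd (nat_lit 18) (Tr.lf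 (nat_lit 2)) (Tr.lf (nat_lit 0))))) (Tr.nd (nat_lit 22) (Tr.nd (nat_lit 20) (Tr.lf (nat_lit 2)) (Tr.nd (nat_lit 21) (Tr.lf (nat_lit 2)) (Tr.lf (nat_lit 1)))) (Tr.nd (nat_lit 24) (Tr.nd (nat_lit 23) (Tr.lf (nat_lit 1)) (Tr.lf (nat_lit 2))) (Tr.nd (nat_lit 25) (Tr.lf (nat_lit 1)) (Tr.lf (nat_lit 5))))))) (Tr.nd (nat_lit 39) (Tr.nd (nat_lit 32) (Tr.nd (nat_lit 29) (Tr.nd (nat_lit 27) (Tr.lf (nat_lit 3)) (Tr.nd (nat_lit 28) (Tr.lf (nat_lit 1)) (Tr.lf (nat_lit 3)))) (Tr.nd (nat_lit 30) (Tr.lf (nat_lit 2)) (Tr.nd (nat_lit 31) (Tr.lf (nat_lit 5)) (Tr.lf (nat_lit 0))))) (Tr.nd (nat_lit 35) (Tr.nd (nat_lit 33) (Tr.lf (nat_lit 1)) (Tr.nd (nat_lit 34) (Tr.lf (nat_lit 0)) (Tr.lf (nat_lit 2)))) (Tr.nd (nat_lit 37) (Tr.nd (nat_lit 36) (Tr.lf (nat_lit 2)) (Tr.lf (nat_lit 1))) (Tr.nd (nat_lit 38) (Tr.lf (nat_lit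 0)) (Tr.lf (nat_lit 5)))))) (Tr.nd (nat_lit 46) (Tr.nd (nat_lit 42) (Tr.nd (nat_lit 40) (Tr.lf (nat_lit 2)) (Tr.nd (nat_lit 41) (Tr.lf (nat_lit 5)) (Tr.lf (nat_lit 2)))) (Tr.nd (nat_lit 44) (Tr.nd (nat_lit 43) (Tr.lf (nat_lit 1)) (Tr.lf (nat_lit 3))) (Tr.nd (nat_lit 45) (Tr.lf (nat_lit 3)) (Tr.lf (nat_lit 3))))) (Tr.nd (nat_lit 49) (Tr.nd (nat_lit 47) (Tr.lf (nat_lit 5)) (Tr.nd (nat_lit 48) (Tr.lf (nat_lit 1)) (Tr.lf (nat_lit 5)))) (Tr.nd (nat_lit 51) (Tr.nd (nat_lit 50) (Tr.lf (nat_lit 0)) (Tr.lf (nat_lit 0))) (Tr.nd (nat_lit 52) (Tr.lf (nat_lit 5)) (Tr.lf (nat_lit 3)))))))) (Tr.nd (nat_lit 80) (Tr.nd (nat_lit 66) (Tr.nd (nat_lit 59) (Tr.nd (nat_lit 56) (Tr.nd (nat_lit 54) (Tr.lf (nat_lit 1)) (Tr.nd (nat_lit 55) (Tr.lf (nat_lit 2)) (Tr.lf (nat_lit 1)))) (Tr.nd (nat_lit 57) (Tr.lf (nat_lit 3)) (Tr.nd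 (nat_lit 58) (Tr.lf (nat_lit 0)) (Tr.lf (nat_lit 5))))) (Tr.nd (nat_lit 62) (Tr.nd (nat_lit 60) (Tr.lf (nat_lit 5)) (Tr.nd (nat_lit 61) (Tr.lf (nat_lit 3)) (Tr.lf (nat_lit 1)))) (Tr.nd (nat_lit 64) (Tr.nd (nat_lit 63) (Tr.lf (nat_lit 1)) (Tr.lf (nat_lit 0))) (Tr.nd (nat_lit 65) (Tr.lf (nat_lit 5)) (Tr.lf (nat_lit 0)))))) (Tr.nd (nat_lit 73) (Tr.nd (nat_lit 69) (Tr.nd (nat_lit 67) (Tr.lf (nat_lit 1)) (Tr.nd (nat_lit 68) (Tr.lf (nat_lit 1)) (Tr.lf (nat_lit 0)))) (Tr.nd (nat_lit 71) (Tr.nd (nat_lit 70) (Tr.lf (nat_lit 5)) (Tr.lf (nat_lit 3))) (Tr.nd (nat_lit 72) (Tr.lf (nat_lit 5)) (Tr.lf (nat_lit 1))))) (Tr.nd (nat_lit 76) (Tr.nd (nat_lit 74) (Tr.lf (nat_lit 2)) (Tr.nd (nat_lit 75) (Tr.lf (nat_lit 0)) (Tr.lf (nat_lit 3)))) (Tr.nd (nat_lit 78) (Tr.nd (nat_lit 77) (Tr.lf (nat_lit 5)) (Tr.lf (nat_lit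 1))) (Tr.nd (nat_lit 79) (Tr.lf (nat_lit 5)) (Tr.lf (nat_lit 5))))))) (Tr.nd (nat_lit 93) (Tr.nd (nat_lit 86) (Tr.nd (nat_lit 83) (Tr.nd (nat_lit 81) (Tr.lf (nat_lit 1)) (Tr.nd (nat_lit 82) (Tr.lf (nat_lit 1)) (Tr.lf (nat_lit 2)))) (Tr.nd (nat_lit 84) (Tr.lf (nat_lit 5)) (Tr.nd (nat_lit 85) (Tr.lf (nat_lit 1)) (Tr.lf (nat_lit 5))))) (Tr.nd (nat_lit 89) (Tr.nd (nat_lit 87) (Tr.lf (nat_lit 0)) (Tr.nd (nat_lit 88) (Tr.lf (nat_lit 5)) (Tr.lf (nat_lit 1)))) (Tr.nd (nat_lit 91) (Tr.nd (nat_lit 90) (Tr.lf (nat_lit 2)) (Tr.lf (nat_lit 5))) (Tr.nd (nat_lit 92) (Tr.lf (nat_lit 2)) (Tr.lf (nat_lit 1)))))) (Tr.nd (nat_lit 100) (Tr.nd (nat_lit 96) (Tr.nd (nat_lit 94) (Tr.lf (nat_lit 0)) (Tr.nd (nat_lit 95) (Tr.lf (nat_lit 2)) (Tr.lf (nat_lit 5)))) (Tr.nd (nat_lit 98) (Tr.nd (nat_lit 97) (Tr.lf (nat_lit 0)) (Tr.lf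 (nat_lit 2))) (Tr.nd (nat_lit 99) (Tr.lf (nat_lit 0)) (Tr.lf (nat_lit 2))))) (Tr.nd (nat_lit 103) (Tr.nd (nat_lit 101) (Tr.lf (nat_lit 2)) (Tr.nd (nat_lit 102) (Tr.lf (nat_lit 1)) (Tr.lf (nat_lit 5)))) (Tr.nd (nat_lit 105) (Tr.nd (nat_lit 104) (Tr.lf (nat_lit 0)) (Tr.lf (nat_lit 0))) (Tr.nd (nat_lit 106) (Tr.lf (nat_lit 5)) (Tr.lf (nat_lit 1)))))))))
theorem mini0_alt : Tr.all (altChk idx inv RW (SW0)) mini0A = true := by decide +kernel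
theorem mini0_chk : Tr.all (chkFc idx inv mini0S mini0A (fun b => Tr.find b mini0P) (fun b => Tr.find b mini0Q)) mini0S = true := by decide +kernel
theorem mini0_run : runM idx inv mini0S 251 0 [Mv.f (nat_lit 4), Mv.f (nat_lit 8), Mv.f (nat_lit 11), Mv.f (nat_lit 14), Mv.f (nat_lit 16), Mv.b (nat_lit 250), Mv.b (nat_lit 14), Mv.b (nat_lit 11), Mv.b (nat_lit 8), Mv.b (nat_lit 4)] [Col.f, Col.b, Col.a, Col.b, Col.f, Col.a, Col.b, Col.a, Col.b, Col.f] 0 = true := by decide +kernel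
theorem mini0_fix {G X : Type*} [Group G] [MulAction G X] (g : Col → G) (x0 : X) (hinv : ∀ c, g (inv c) = (g c)⁻¹)
    (hRW : ∀ w ∈ RW, gw g w = 1) (hSW : ∀ w ∈ SW0, gw g w • x0 = x0) : gw g [Col.f, Col.b, Col.a, Col.b, Col.f, Col.a, Col.b, Col.a, Col.b, Col.f] • x0 = x0 :=
  mini_sound g x0 dec hdec hinv
    (fun a ha => altChk_sound g x0 dec hdec hinv hRW hSW ((Tr.all_iff _ _).1 mini0_alt a ha)) mini0_chk mini0_run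
noncomputable def mini1S : Tr (Fc Col) := (Tr.nd (nat_lit 103) (Tr.nd (nat_lit 51) (Tr.nd (nat_lit 25) (Tr.nd (nat_lit 12) (Tr.nd (nat_lit 6) (Tr.nd (nat_lit 3) (Tr.nd (nat_lit 1) (Tr.lf (Fc.ed (nat_lit 0) (nat_lit 0) Col.a (nat_lit 0) (Dv.sb (nat_lit 0) [] []))) (Tr.nd (nat_lit 2) (Tr.lf (Fc.ed (nat_lit 1) (nat_lit 0) Col.b (nat_lit 0) (Dv.sb (nat_lit 1) [] []))) (Tr.lf (Fc.ed (nat_lit 2) (nat_lit 0) Col.c (nat_lit 0) (Dv.sb (nat_lit 2) [] []))))) (Tr.nd (nat_lit 4) (Tr.lf (Fc.ed (nat_lit 3) (nat_lit 0) Col.d (nat_lit 0) (Dv.sb (nat_lit 3) [] []))) (Tr.nd (nat_lit 5) (Tr.lf (Fc.ed (nat_lit 4) (nat_lit 0) Col.f (nat_lit 1) Dv.df)) (Tr.lf (Fc.ed (nat_lit 5) (nat_lit 1) Col.b (nat_lit 2) Dv.df))))) (Tr.nd (nat_lit 9) (Tr.nd (nat_lit 7) (Tr.lf (Fc.ed (nat_lit 6) (nat_lit 2) Col.a (nat_lit 3) Dv.df))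 (Tr.nd (nat_lit 8) (Tr.lf (Fc.ed (nat_lit 7) (nat_lit 3) Col.b (nat_lit 4) Dv.df)) (Tr.lf (Fc.ed (nat_lit 8) (nat_lit 4) Col.f (nat_lit 5) Dv.df)))) (Tr.nd (nat_lit 10) (Tr.lf (Fc.ed (nat_lit 9) (nat_lit 5) Col.a (nat_lit 4) (Dv.sb (nat_lit 4) [Mv.f (nat_lit 4), Mv.f (nat_lit 5), Mv.f (nat_lit 6), Mv.f (nat_lit 7), Mv.f (nat_lit 8)] [Mv.b (nat_lit 7), Mv.b (nat_lit 6), Mv.b (nat_lit 5), Mv.b (nat_lit 4)]))) (Tr.nd (nat_lit 11) (Tr.lf (Fc.ed (nat_lit 10) (nat_lit 2) Col.f (nat_lit 2) (Dv.wd (nat_lit 5) [Mv.b (nat_lit 5), Mv.b (nat_lit 4), Mv.f (nat_lit 1), Mv.f (nat_lit 4), Mv.f (nat_lit 5)]))) (Tr.lf (Fc.ed (nat_lit 11) (nat_lit 3) Col.f (nat_lit 3) (Dv.wd (nat_lit 6) [Mv.b (nat_lit 6), Mv.f (nat_lit 10), Mv.f (nat_lit 6)]))))))) (Tr.nd (nat_lit 18) (Tr.nd (nat_lit 15) (Tr.nd (nat_lit 13) (Tr.lf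 (Fc.ed (nat_lit 12) (nat_lit 5) Col.b (nat_lit 5) (Dv.wd (nat_lit 7) [Mv.b (nat_lit 8), Mv.b (nat_lit 7), Mv.f (nat_lit 11), Mv.f (nat_lit 7), Mv.f (nat_lit 8)]))) (Tr.nd (nat_lit 14) (Tr.lf (Fc.ed (nat_lit 13) (nat_lit 1) Col.a (nat_lit 1) (Dv.wd (nat_lit 8) [Mv.f (nat_lit 5), Mv.f (nat_lit 6), Mv.f (nat_lit 7), Mv.b (nat_lit 9), Mv.f (nat_lit 12), Mv.f (nat_lit 9), Mv.b (nat_lit 7), Mv.b (nat_lit 6), Mv.b (nat_lit 5)]))) (Tr.lf (Fc.ed (nat_lit 14) (nat_lit 1) Col.c (nat_lit 1) (Dv.wd (nat_lit 9) [Mv.b (nat_lit 4), Mv.f (nat_lit 2), Mv.f (nat_lit 4)]))))) (Tr.nd (nat_lit 16) (Tr.lf (Fc.ed (nat_lit 15) (nat_lit 1) Col.d (nat_lit 1) (Dv.wd (nat_lit 10) [Mv.b (nat_lit 4), Mv.f (nat_lit 3), Mv.f (nat_lit 4)]))) (Tr.nd (nat_lit 17) (Tr.lf (Fc.ed (nat_lit 16) (nat_lit 2) Col.d (nat_lit 2) (Dv.wd (nat_lit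 11) [Mv.b (nat_lit 5), Mv.f (nat_lit 15), Mv.f (nat_lit 5)]))) (Tr.lf (Fc.ed (nat_lit 17) (nat_lit 3) Col.d (nat_lit 3) (Dv.wd (nat_lit 12) [Mv.b (nat_lit 6), Mv.f (nat_lit 16), Mv.f (nat_lit 6)])))))) (Tr.nd (nat_lit 21) (Tr.nd (nat_lit 19) (Tr.lf (Fc.ed (nat_lit 18) (nat_lit 2) Col.c (nat_lit 6) Dv.df)) (Tr.nd (nat_lit 20) (Tr.lf (Fc.ed (nat_lit 19) (nat_lit 6) Col.f (nat_lit 6) (Dv.wd (nat_lit 13) [Mv.b (nat_lit 18), Mv.f (nat_lit 10), Mv.f (nat_lit 18)]))) (Tr.lf (Fc.ed (nat_lit 20) (nat_lit 6) Col.b (nat_lit 6) (Dv.wd (nat_lit 14) [Mv.b (nat_lit 18), Mv.b (nat_lit 5), Mv.f (nat_lit 14), Mv.f (nat_lit 5), Mv.f (nat_lit 18)]))))) (Tr.nd (nat_lit 23) (Tr.nd (nat_lit 22) (Tr.lf (Fc.ed (nat_lit 21) (nat_lit 6) Col.d (nat_lit 7) Dv.df)) (Tr.lf (Fc.ed (nat_lit 22) (nat_lit 7) Col.b (nat_lit 7) (Dv.wd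 (nat_lit 15) [Mv.b (nat_lit 21), Mv.f (nat_lit 20), Mv.f (nat_lit 21)])))) (Tr.nd (nat_lit 24) (Tr.lf (Fc.ed (nat_lit 23) (nat_lit 7) Col.f (nat_lit 7) (Dv.wd (nat_lit 16) [Mv.b (nat_lit 21), Mv.f (nat_lit 19), Mv.f (nat_lit 21)]))) (Tr.lf (Fc.ed (nat_lit 24) (nat_lit 7) Col.c (nat_lit 8) Dv.df))))))) (Tr.nd (nat_lit 38) (Tr.nd (nat_lit 31) (Tr.nd (nat_lit 28) (Tr.nd (nat_lit 26) (Tr.lf (Fc.ed (nat_lit 25) (nat_lit 8) Col.f (nat_lit 8) (Dv.wd (nat_lit 13) [Mv.b (nat_lit 24), Mv.f (nat_lit 23), Mv.f (nat_lit 24)]))) (Tr.nd (nat_lit 27) (Tr.lf (Fc.ed (nat_lit 26) (nat_lit 8) Col.b (nat_lit 9) Dv.df)) (Tr.lf (Fc.ed (nat_lit 27) (nat_lit 9) Col.c (nat_lit 9) (Dv.wd (nat_lit 17) [Mv.b (nat_lit 26), Mv.b (nat_lit 24), Mv.f (nat_lit 22), Mv.f (nat_lit 24), Mv.f (nat_lit 26)]))))) (Tr.nd (nat_lit 29) (Tr.lf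 (Fc.ed (nat_lit 28) (nat_lit 9) Col.a (nat_lit 10) Dv.df)) (Tr.nd (nat_lit 30) (Tr.lf (Fc.ed (nat_lit 29) (nat_lit 10) Col.c (nat_lit 10) (Dv.wd (nat_lit 18) [Mv.b (nat_lit 28), Mv.f (nat_lit 27), Mv.f (nat_lit 28)]))) (Tr.lf (Fc.ed (nat_lit 30) (nat_lit 10) Col.b (nat_lit 11) Dv.df))))) (Tr.nd (nat_lit 34) (Tr.nd (nat_lit 32) (Tr.lf (Fc.ed (nat_lit 31) (nat_lit 11) Col.f (nat_lit 12) Dv.df)) (Tr.nd (nat_lit 33) (Tr.lf (Fc.ed (nat_lit 32) (nat_lit 12) Col.c (nat_lit 13) Dv.df)) (Tr.lf (Fc.ed (nat_lit 33) (nat_lit 13) Col.d (nat_lit 14) Dv.df)))) (Tr.nd (nat_lit 36) (Tr.nd (nat_lit 35) (Tr.lf (Fc.ed (nat_lit 34) (nat_lit 14) Col.b (nat_lit 15) Dv.df)) (Tr.lf (Fc.ed (nat_lit 35) (nat_lit 15) Col.c (nat_lit 16) Dv.df))) (Tr.nd (nat_lit 37) (Tr.lf (Fc.ed (nat_lit 36) (nat_lit 6) Col.a (nat_lit 17) Dv.df))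 (Tr.lf (Fc.ed (nat_lit 37) (nat_lit 17) Col.c (nat_lit 3) (Dv.wd (nat_lit 18) [Mv.b (nat_lit 6), Mv.f (nat_lit 18), Mv.f (nat_lit 36)]))))))) (Tr.nd (nat_lit 44) (Tr.nd (nat_lit 41) (Tr.nd (nat_lit 39) (Tr.lf (Fc.ed (nat_lit 38) (nat_lit 9) Col.f (nat_lit 18) Dv.df)) (Tr.nd (nat_lit 40) (Tr.lf (Fc.ed (nat_lit 39) (nat_lit 18) Col.b (nat_lit 18) (Dv.wd (nat_lit 19) [Mv.b (nat_lit 38), Mv.b (nat_lit 26), Mv.f (nat_lit 25), Mv.f (nat_lit 26), Mv.f (nat_lit 38)]))) (Tr.lf (Fc.ed (nat_lit 40) (nat_lit 10) Col.d (nat_lit 19) Dv.df)))) (Tr.nd (nat_lit 42) (Tr.lf (Fc.ed (nat_lit 41) (nat_lit 11) Col.d (nat_lit 20) Dv.df)) (Tr.nd (nat_lit 43) (Tr.lf (Fc.ed (nat_lit 42) (nat_lit 20) Col.b (nat_lit 19) (Dv.wd (nat_lit 15) [Mv.b (nat_lit 40), Mv.f (nat_lit 30), Mv.f (nat_lit 41)]))) (Tr.lf (Fc.ed (nat_lit 43)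 (nat_lit 4) Col.c (nat_lit 21) Dv.df))))) (Tr.nd (nat_lit 47) (Tr.nd (nat_lit 45) (Tr.lf (Fc.ed (nat_lit 44) (nat_lit 12) Col.d (nat_lit 22) Dv.df)) (Tr.nd (nat_lit 46) (Tr.lf (Fc.ed (nat_lit 45) (nat_lit 22) Col.f (nat_lit 20) (Dv.wd (nat_lit 16) [Mv.b (nat_lit 41), Mv.f (nat_lit 31), Mv.f (nat_lit 44)]))) (Tr.lf (Fc.ed (nat_lit 46) (nat_lit 7) Col.a (nat_lit 23) Dv.df)))) (Tr.nd (nat_lit 49) (Tr.nd (nat_lit 48) (Tr.lf (Fc.ed (nat_lit 47) (nat_lit 23) Col.d (nat_lit 17) (Dv.wd (nat_lit 12) [Mv.b (nat_lit 36), Mv.f (nat_lit 21), Mv.f (nat_lit 46)]))) (Tr.lf (Fc.ed (nat_lit 48) (nat_lit 23) Col.f (nat_lit 23) (Dv.wd (nat_lit 6) [Mv.b (nat_lit 46), Mv.f (nat_lit 23), Mv.f (nat_lit 46)])))) (Tr.nd (nat_lit 50) (Tr.lf (Fc.ed (nat_lit 49) (nat_lit 5) Col.c (nat_lit 24) Dv.df)) (Tr.lf (Fc.ed (nat_lit 50)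 (nat_lit 24) Col.a (nat_lit 21) (Dv.wd (nat_lit 20) [Mv.b (nat_lit 43), Mv.b (nat_lit 9), Mv.f (nat_lit 49)]))))))))) (Tr.nd (nat_lit 77) (Tr.nd (nat_lit 64) (Tr.nd (nat_lit 57) (Tr.nd (nat_lit 54) (Tr.nd (nat_lit 52) (Tr.lf (Fc.ed (nat_lit 51) (nat_lit 24) Col.f (nat_lit 21) (Dv.wd (nat_lit 13) [Mv.b (nat_lit 43), Mv.f (nat_lit 8), Mv.f (nat_lit 49)]))) (Tr.nd (nat_lit 53) (Tr.lf (Fc.ed (nat_lit 52) (nat_lit 8) Col.d (nat_lit 25) Dv.df)) (Tr.lf (Fc.ed (nat_lit 53) (nat_lit 25) Col.c (nat_lit 23) (Dv.wd (nat_lit 21) [Mv.f (nat_lit 47), Mv.f (nat_lit 37), Mv.f (nat_lit 17), Mv.b (nat_lit 37), Mv.b (nat_lit 47), Mv.b (nat_lit 46), Mv.f (nat_lit 24), Mv.f (nat_lit 52)]))))) (Tr.nd (nat_lit 55) (Tr.lf (Fc.ed (nat_lit 54) (nat_lit 25) Col.a (nat_lit 8) (Dv.wd (nat_lit 22) [Mv.b (nat_lit 24), Mv.b (nat_lit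 21), Mv.b (nat_lit 18), Mv.f (nat_lit 16), Mv.f (nat_lit 18), Mv.f (nat_lit 21), Mv.f (nat_lit 24), Mv.f (nat_lit 52)]))) (Tr.nd (nat_lit 56) (Tr.lf (Fc.ed (nat_lit 55) (nat_lit 10) Col.f (nat_lit 26) Dv.df)) (Tr.lf (Fc.ed (nat_lit 56) (nat_lit 26) Col.c (nat_lit 26) (Dv.wd (nat_lit 9) [Mv.b (nat_lit 55), Mv.f (nat_lit 29), Mv.f (nat_lit 55)])))))) (Tr.nd (nat_lit 60) (Tr.nd (nat_lit 58) (Tr.lf (Fc.ed (nat_lit 57) (nat_lit 12) Col.b (nat_lit 27) Dv.df)) (Tr.nd (nat_lit 59) (Tr.lf (Fc.ed (nat_lit 58) (nat_lit 9) Col.d (nat_lit 28) Dv.df)) (Tr.lf (Fc.ed (nat_lit 59) (nat_lit 28) Col.a (nat_lit 19) (Dv.wd (nat_lit 23) [Mv.b (nat_lit 40), Mv.b (nat_lit 28), Mv.f (nat_lit 58)]))))) (Tr.nd (nat_lit 62) (Tr.nd (nat_lit 61) (Tr.lf (Fc.ed (nat_lit 60) (nat_lit 28) Col.b (nat_lit 25) (Dv.wd (nat_lit 15) [Mv.b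 (nat_lit 52), Mv.f (nat_lit 26), Mv.f (nat_lit 58)]))) (Tr.lf (Fc.ed (nat_lit 61) (nat_lit 15) Col.d (nat_lit 29) Dv.df))) (Tr.nd (nat_lit 63) (Tr.lf (Fc.ed (nat_lit 62) (nat_lit 29) Col.b (nat_lit 13) (Dv.wd (nat_lit 15) [Mv.f (nat_lit 33), Mv.f (nat_lit 34), Mv.f (nat_lit 61)]))) (Tr.lf (Fc.ed (nat_lit 63) (nat_lit 18) Col.d (nat_lit 30) Dv.df)))))) (Tr.nd (nat_lit 70) (Tr.nd (nat_lit 67) (Tr.nd (nat_lit 65) (Tr.lf (Fc.ed (nat_lit 64) (nat_lit 30) Col.b (nat_lit 30) (Dv.wd (nat_lit 15) [Mv.b (nat_lit 63), Mv.f (nat_lit 39), Mv.f (nat_lit 63)]))) (Tr.nd (nat_lit 66) (Tr.lf (Fc.ed (nat_lit 65) (nat_lit 30) Col.f (nat_lit 28) (Dv.wd (nat_lit 16) [Mv.b (nat_lit 58), Mv.f (nat_lit 38), Mv.f (nat_lit 63)]))) (Tr.lf (Fc.ed (nat_lit 66) (nat_lit 21) Col.d (nat_lit 31) Dv.df)))) (Tr.nd (nat_lit 68) (Tr.lf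 (Fc.ed (nat_lit 67) (nat_lit 19) Col.c (nat_lit 32) Dv.df)) (Tr.nd (nat_lit 69) (Tr.lf (Fc.ed (nat_lit 68) (nat_lit 19) Col.f (nat_lit 33) Dv.df)) (Tr.lf (Fc.ed (nat_lit 69) (nat_lit 33) Col.a (nat_lit 30) (Dv.wd (nat_lit 24) [Mv.f (nat_lit 65), Mv.f (nat_lit 59), Mv.f (nat_lit 68)])))))) (Tr.nd (nat_lit 73) (Tr.nd (nat_lit 71) (Tr.lf (Fc.ed (nat_lit 70) (nat_lit 17) Col.b (nat_lit 34) Dv.df)) (Tr.nd (nat_lit 72) (Tr.lf (Fc.ed (nat_lit 71) (nat_lit 20) Col.c (nat_lit 35) Dv.df)) (Tr.lf (Fc.ed (nat_lit 72) (nat_lit 24) Col.d (nat_lit 36) Dv.df)))) (Tr.nd (nat_lit 75) (Tr.nd (nat_lit 74) (Tr.lf (Fc.ed (nat_lit 73) (nat_lit 36) Col.a (nat_lit 31) (Dv.wd (nat_lit 23) [Mv.b (nat_lit 66), Mv.b (nat_lit 50), Mv.f (nat_lit 72)]))) (Tr.lf (Fc.ed (nat_lit 74) (nat_lit 36) Col.f (nat_lit 31) (Dv.wd (nat_lit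 16) [Mv.b (nat_lit 66), Mv.b (nat_lit 51), Mv.f (nat_lit 72)])))) (Tr.nd (nat_lit 76) (Tr.lf (Fc.ed (nat_lit 75) (nat_lit 22) Col.b (nat_lit 37) Dv.df)) (Tr.lf (Fc.ed (nat_lit 76) (nat_lit 23) Col.b (nat_lit 38) Dv.df))))))) (Tr.nd (nat_lit 90) (Tr.nd (nat_lit 83) (Tr.nd (nat_lit 80) (Tr.nd (nat_lit 78) (Tr.lf (Fc.ed (nat_lit 77) (nat_lit 38) Col.d (nat_lit 34) (Dv.wd (nat_lit 11) [Mv.b (nat_lit 70), Mv.b (nat_lit 47), Mv.f (nat_lit 76)]))) (Tr.nd (nat_lit 79) (Tr.lf (Fc.ed (nat_lit 78) (nat_lit 22) Col.c (nat_lit 39) Dv.df)) (Tr.lf (Fc.ed (nat_lit 79) (nat_lit 39) Col.f (nat_lit 35) (Dv.wd (nat_lit 13) [Mv.b (nat_lit 71), Mv.b (nat_lit 45), Mv.f (nat_lit 78)]))))) (Tr.nd (nat_lit 81) (Tr.lf (Fc.ed (nat_lit 80) (nat_lit 21) Col.b (nat_lit 40) Dv.df)) (Tr.nd (nat_lit 82) (Tr.lf (Fc.ed (nat_lit 81)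 (nat_lit 40) Col.c (nat_lit 34) (Dv.wd (nat_lit 17) [Mv.b (nat_lit 70), Mv.f (nat_lit 37), Mv.f (nat_lit 7), Mv.f (nat_lit 43), Mv.f (nat_lit 80)]))) (Tr.lf (Fc.ed (nat_lit 82) (nat_lit 26) Col.b (nat_lit 41) Dv.df))))) (Tr.nd (nat_lit 86) (Tr.nd (nat_lit 84) (Tr.lf (Fc.ed (nat_lit 83) (nat_lit 41) Col.f (nat_lit 27) (Dv.wd (nat_lit 5) [Mv.b (nat_lit 57), Mv.b (nat_lit 31), Mv.b (nat_lit 30), Mv.f (nat_lit 55), Mv.f (nat_lit 82)]))) (Tr.nd (nat_lit 85) (Tr.lf (Fc.ed (nat_lit 84) (nat_lit 27) Col.a (nat_lit 42) Dv.df)) (Tr.lf (Fc.ed (nat_lit 85) (nat_lit 28) Col.c (nat_lit 43) Dv.df)))) (Tr.nd (nat_lit 88) (Tr.nd (nat_lit 87) (Tr.lf (Fc.ed (nat_lit 86) (nat_lit 43) Col.a (nat_lit 32) (Dv.wd (nat_lit 20) [Mv.b (nat_lit 67), Mv.b (nat_lit 59), Mv.f (nat_lit 85)]))) (Tr.lf (Fc.ed (nat_lit 87) (nat_lit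 29) Col.c (nat_lit 44) Dv.df))) (Tr.nd (nat_lit 89) (Tr.lf (Fc.ed (nat_lit 88) (nat_lit 27) Col.c (nat_lit 45) Dv.df)) (Tr.lf (Fc.ed (nat_lit 89) (nat_lit 45) Col.b (nat_lit 44) (Dv.wd (nat_lit 14) [Mv.b (nat_lit 87), Mv.f (nat_lit 62), Mv.b (nat_lit 32), Mv.f (nat_lit 57), Mv.f (nat_lit 88)]))))))) (Tr.nd (nat_lit 96) (Tr.nd (nat_lit 93) (Tr.nd (nat_lit 91) (Tr.lf (Fc.ed (nat_lit 90) (nat_lit 30) Col.c (nat_lit 46) Dv.df)) (Tr.nd (nat_lit 92) (Tr.lf (Fc.ed (nat_lit 91) (nat_lit 46) Col.f (nat_lit 43) (Dv.wd (nat_lit 13) [Mv.b (nat_lit 85), Mv.b (nat_lit 65), Mv.f (nat_lit 90)]))) (Tr.lf (Fc.ed (nat_lit 92) (nat_lit 32) Col.d (nat_lit 47) Dv.df)))) (Tr.nd (nat_lit 94) (Tr.lf (Fc.ed (nat_lit 93) (nat_lit 32) Col.f (nat_lit 48) Dv.df)) (Tr.nd (nat_lit 95) (Tr.lf (Fc.ed (nat_lit 94) (nat_lit 48) Col.a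 (nat_lit 46) (Dv.wd (nat_lit 24) [Mv.f (nat_lit 91), Mv.f (nat_lit 86), Mv.f (nat_lit 93)]))) (Tr.lf (Fc.ed (nat_lit 95) (nat_lit 48) Col.c (nat_lit 33) (Dv.wd (nat_lit 9) [Mv.b (nat_lit 68), Mv.f (nat_lit 67), Mv.f (nat_lit 93)])))))) (Tr.nd (nat_lit 99) (Tr.nd (nat_lit 97) (Tr.lf (Fc.ed (nat_lit 96) (nat_lit 32) Col.b (nat_lit 49) Dv.df)) (Tr.nd (nat_lit 98) (Tr.lf (Fc.ed (nat_lit 97) (nat_lit 34) Col.a (nat_lit 50) Dv.df)) (Tr.lf (Fc.ed (nat_lit 98) (nat_lit 50) Col.f (nat_lit 40) (Dv.wd (nat_lit 25) [Mv.f (nat_lit 81), Mv.b (nat_lit 70), Mv.b (nat_lit 36), Mv.f (nat_lit 19), Mv.b (nat_lit 18), Mv.b (nat_lit 5), Mv.f (nat_lit 13), Mv.b (nat_lit 4), Mv.f (nat_lit 2), Mv.f (nat_lit 1), Mv.f (nat_lit 0), Mv.f (nat_lit 4), Mv.f (nat_lit 14), Mv.f (nat_lit 5), Mv.f (nat_lit 6), Mv.f (nat_lit 11), Mv.b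 (nat_lit 37), Mv.f (nat_lit 70), Mv.f (nat_lit 97)]))))) (Tr.nd (nat_lit 101) (Tr.nd (nat_lit 100) (Tr.lf (Fc.ed (nat_lit 99) (nat_lit 34) Col.f (nat_lit 51) Dv.df)) (Tr.lf (Fc.ed (nat_lit 100) (nat_lit 51) Col.c (nat_lit 50) (Dv.wd (nat_lit 9) [Mv.f (nat_lit 98), Mv.f (nat_lit 81), Mv.f (nat_lit 99)])))) (Tr.nd (nat_lit 102) (Tr.lf (Fc.ed (nat_lit 101) (nat_lit 31) Col.b (nat_lit 52) Dv.df)) (Tr.lf (Fc.ed (nat_lit 102) (nat_lit 52) Col.d (nat_lit 40) (Dv.wd (nat_lit 11) [Mv.b (nat_lit 80), Mv.f (nat_lit 66), Mv.f (nat_lit 101)])))))))))) (Tr.nd (nat_lit 155) (Tr.nd (nat_lit 129) (Tr.nd (nat_lit 116) (Tr.nd (nat_lit 109) (Tr.nd (nat_lit 106) (Tr.nd (nat_lit 104) (Tr.lf (Fc.ed (nat_lit 103) (nat_lit 31) Col.c (nat_lit 53) Dv.df)) (Tr.nd (nat_lit 105) (Tr.lf (Fc.ed (nat_lit 104) (nat_lit 33) Col.b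 (nat_lit 54) Dv.df)) (Tr.lf (Fc.ed (nat_lit 105) (nat_lit 54) Col.f (nat_lit 37) (Dv.wd (nat_lit 5) [Mv.b (nat_lit 75), Mv.f (nat_lit 45), Mv.f (nat_lit 42), Mv.f (nat_lit 68), Mv.f (nat_lit 104)]))))) (Tr.nd (nat_lit 107) (Tr.lf (Fc.ed (nat_lit 106) (nat_lit 35) Col.b (nat_lit 55) Dv.df)) (Tr.nd (nat_lit 108) (Tr.lf (Fc.ed (nat_lit 107) (nat_lit 55) Col.c (nat_lit 49) (Dv.wd (nat_lit 17) [Mv.b (nat_lit 96), Mv.b (nat_lit 67), Mv.b (nat_lit 42), Mv.f (nat_lit 71), Mv.f (nat_lit 106)]))) (Tr.lf (Fc.ed (nat_lit 108) (nat_lit 38) Col.a (nat_lit 56) Dv.df))))) (Tr.nd (nat_lit 112) (Tr.nd (nat_lit 110) (Tr.lf (Fc.ed (nat_lit 109) (nat_lit 56) Col.d (nat_lit 50) (Dv.wd (nat_lit 12) [Mv.b (nat_lit 97), Mv.b (nat_lit 77), Mv.f (nat_lit 108)]))) (Tr.nd (nat_lit 111) (Tr.lf (Fc.ed (nat_lit 110) (nat_lit 52)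 Col.f (nat_lit 56) (Dv.wd (nat_lit 26) [Mv.f (nat_lit 109), Mv.f (nat_lit 98), Mv.b (nat_lit 102)]))) (Tr.lf (Fc.ed (nat_lit 111) (nat_lit 39) Col.b (nat_lit 57) Dv.df)))) (Tr.nd (nat_lit 114) (Tr.nd (nat_lit 113) (Tr.lf (Fc.ed (nat_lit 112) (nat_lit 38) Col.f (nat_lit 58) Dv.df)) (Tr.lf (Fc.ed (nat_lit 113) (nat_lit 58) Col.a (nat_lit 52) (Dv.wd (nat_lit 24) [Mv.f (nat_lit 110), Mv.b (nat_lit 108), Mv.f (nat_lit 112)])))) (Tr.nd (nat_lit 115) (Tr.lf (Fc.ed (nat_lit 114) (nat_lit 58) Col.d (nat_lit 51) (Dv.wd (nat_lit 10) [Mv.b (nat_lit 99), Mv.b (nat_lit 77), Mv.f (nat_lit 112)]))) (Tr.lf (Fc.ed (nat_lit 115) (nat_lit 38) Col.c (nat_lit 59) Dv.df)))))) (Tr.nd (nat_lit 122) (Tr.nd (nat_lit 119) (Tr.nd (nat_lit 117) (Tr.lf (Fc.ed (nat_lit 116) (nat_lit 59) Col.b (nat_lit 43) (Dv.wd (nat_lit 14) [Mv.b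 (nat_lit 85), Mv.f (nat_lit 60), Mv.f (nat_lit 53), Mv.f (nat_lit 76), Mv.f (nat_lit 115)]))) (Tr.nd (nat_lit 118) (Tr.lf (Fc.ed (nat_lit 117) (nat_lit 37) Col.c (nat_lit 60) Dv.df)) (Tr.lf (Fc.ed (nat_lit 118) (nat_lit 41) Col.a (nat_lit 61) Dv.df)))) (Tr.nd (nat_lit 120) (Tr.lf (Fc.ed (nat_lit 119) (nat_lit 61) Col.f (nat_lit 42) (Dv.wd (nat_lit 6) [Mv.b (nat_lit 84), Mv.b (nat_lit 83), Mv.f (nat_lit 118)]))) (Tr.nd (nat_lit 121) (Tr.lf (Fc.ed (nat_lit 120) (nat_lit 42) Col.c (nat_lit 62) Dv.df)) (Tr.lf (Fc.ed (nat_lit 121) (nat_lit 62) Col.a (nat_lit 45) (Dv.wd (nat_lit 20) [Mv.b (nat_lit 88), Mv.f (nat_lit 84), Mv.f (nat_lit 120)])))))) (Tr.nd (nat_lit 125) (Tr.nd (nat_lit 123) (Tr.lf (Fc.ed (nat_lit 122) (nat_lit 43) Col.d (nat_lit 63) Dv.df)) (Tr.nd (nat_lit 124) (Tr.lf (Fc.ed (nat_lit 123)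 (nat_lit 63) Col.c (nat_lit 47) (Dv.wd (nat_lit 21) [Mv.b (nat_lit 92), Mv.b (nat_lit 67), Mv.b (nat_lit 40), Mv.f (nat_lit 29), Mv.f (nat_lit 40), Mv.b (nat_lit 59), Mv.f (nat_lit 85), Mv.f (nat_lit 122)]))) (Tr.lf (Fc.ed (nat_lit 124) (nat_lit 46) Col.b (nat_lit 64) Dv.df)))) (Tr.nd (nat_lit 127) (Tr.nd (nat_lit 126) (Tr.lf (Fc.ed (nat_lit 125) (nat_lit 64) Col.c (nat_lit 64) (Dv.wd (nat_lit 17) [Mv.b (nat_lit 124), Mv.b (nat_lit 90), Mv.f (nat_lit 64), Mv.f (nat_lit 90), Mv.f (nat_lit 124)]))) (Tr.lf (Fc.ed (nat_lit 126) (nat_lit 46) Col.d (nat_lit 65) Dv.df))) (Tr.nd (nat_lit 128) (Tr.lf (Fc.ed (nat_lit 127) (nat_lit 65) Col.f (nat_lit 63) (Dv.wd (nat_lit 16) [Mv.b (nat_lit 122), Mv.b (nat_lit 91), Mv.f (nat_lit 126)]))) (Tr.lf (Fc.ed (nat_lit 128) (nat_lit 47) Col.f (nat_lit 66) Dv.df)))))))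 (Tr.nd (nat_lit 142) (Tr.nd (nat_lit 135) (Tr.nd (nat_lit 132) (Tr.nd (nat_lit 130) (Tr.lf (Fc.ed (nat_lit 129) (nat_lit 66) Col.c (nat_lit 65) (Dv.wd (nat_lit 9) [Mv.f (nat_lit 127), Mv.f (nat_lit 123), Mv.f (nat_lit 128)]))) (Tr.nd (nat_lit 131) (Tr.lf (Fc.ed (nat_lit 130) (nat_lit 66) Col.d (nat_lit 48) (Dv.wd (nat_lit 10) [Mv.b (nat_lit 93), Mv.f (nat_lit 92), Mv.f (nat_lit 128)]))) (Tr.lf (Fc.ed (nat_lit 131) (nat_lit 47) Col.b (nat_lit 67) Dv.df)))) (Tr.nd (nat_lit 133) (Tr.lf (Fc.ed (nat_lit 132) (nat_lit 67) Col.d (nat_lit 49) (Dv.wd (nat_lit 11) [Mv.b (nat_lit 96), Mv.f (nat_lit 92), Mv.f (nat_lit 131)]))) (Tr.nd (nat_lit 134) (Tr.lf (Fc.ed (nat_lit 133) (nat_lit 49) Col.a (nat_lit 68) Dv.df)) (Tr.lf (Fc.ed (nat_lit 134) (nat_lit 48) Col.b (nat_lit 69) Dv.df))))) (Tr.nd (nat_lit 138) (Tr.nd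 (nat_lit 136) (Tr.lf (Fc.ed (nat_lit 135) (nat_lit 49) Col.f (nat_lit 70) Dv.df)) (Tr.nd (nat_lit 137) (Tr.lf (Fc.ed (nat_lit 136) (nat_lit 52) Col.c (nat_lit 71) Dv.df)) (Tr.lf (Fc.ed (nat_lit 137) (nat_lit 53) Col.b (nat_lit 72) Dv.df)))) (Tr.nd (nat_lit 140) (Tr.nd (nat_lit 139) (Tr.lf (Fc.ed (nat_lit 138) (nat_lit 54) Col.c (nat_lit 73) Dv.df)) (Tr.lf (Fc.ed (nat_lit 139) (nat_lit 73) Col.f (nat_lit 60) (Dv.wd (nat_lit 13) [Mv.b (nat_lit 117), Mv.b (nat_lit 105), Mv.f (nat_lit 138)])))) (Tr.nd (nat_lit 141) (Tr.lf (Fc.ed (nat_lit 140) (nat_lit 55) Col.f (nat_lit 74) Dv.df)) (Tr.lf (Fc.ed (nat_lit 141) (nat_lit 74) Col.c (nat_lit 70) (Dv.wd (nat_lit 9) [Mv.b (nat_lit 135), Mv.b (nat_lit 107), Mv.f (nat_lit 140)]))))))) (Tr.nd (nat_lit 148) (Tr.nd (nat_lit 145) (Tr.nd (nat_lit 143) (Tr.lf (Fc.ed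 (nat_lit 142) (nat_lit 58) Col.c (nat_lit 75) Dv.df)) (Tr.nd (nat_lit 144) (Tr.lf (Fc.ed (nat_lit 143) (nat_lit 75) Col.a (nat_lit 71) (Dv.wd (nat_lit 20) [Mv.b (nat_lit 136), Mv.b (nat_lit 113), Mv.f (nat_lit 142)]))) (Tr.lf (Fc.ed (nat_lit 144) (nat_lit 75) Col.f (nat_lit 59) (Dv.wd (nat_lit 13) [Mv.b (nat_lit 115), Mv.f (nat_lit 112), Mv.f (nat_lit 142)]))))) (Tr.nd (nat_lit 146) (Tr.lf (Fc.ed (nat_lit 145) (nat_lit 59) Col.d (nat_lit 76) Dv.df)) (Tr.nd (nat_lit 147) (Tr.lf (Fc.ed (nat_lit 146) (nat_lit 76) Col.b (nat_lit 63) (Dv.wd (nat_lit 15) [Mv.b (nat_lit 122), Mv.b (nat_lit 116), Mv.f (nat_lit 145)]))) (Tr.lf (Fc.ed (nat_lit 147) (nat_lit 59) Col.a (nat_lit 77) Dv.df))))) (Tr.nd (nat_lit 151) (Tr.nd (nat_lit 149) (Tr.lf (Fc.ed (nat_lit 148) (nat_lit 77) Col.f (nat_lit 71) (Dv.wd (nat_lit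 6) [Mv.b (nat_lit 143), Mv.f (nat_lit 144), Mv.f (nat_lit 147)]))) (Tr.nd (nat_lit 150) (Tr.lf (Fc.ed (nat_lit 149) (nat_lit 60) Col.a (nat_lit 78) Dv.df)) (Tr.lf (Fc.ed (nat_lit 150) (nat_lit 57) Col.f (nat_lit 79) Dv.df)))) (Tr.nd (nat_lit 153) (Tr.nd (nat_lit 152) (Tr.lf (Fc.ed (nat_lit 151) (nat_lit 79) Col.b (nat_lit 74) (Dv.wd (nat_lit 19) [Mv.b (nat_lit 140), Mv.b (nat_lit 106), Mv.b (nat_lit 79), Mv.f (nat_lit 111), Mv.f (nat_lit 150)]))) (Tr.lf (Fc.ed (nat_lit 152) (nat_lit 62) Col.b (nat_lit 80) Dv.df))) (Tr.nd (nat_lit 154) (Tr.lf (Fc.ed (nat_lit 153) (nat_lit 64) Col.d (nat_lit 81) Dv.df)) (Tr.lf (Fc.ed (nat_lit 154) (nat_lit 81) Col.b (nat_lit 65) (Dv.wd (nat_lit 15) [Mv.b (nat_lit 126), Mv.f (nat_lit 124), Mv.f (nat_lit 153)]))))))))) (Tr.nd (nat_lit 181) (Tr.nd (nat_lit 168) (Tr.nd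 (nat_lit 161) (Tr.nd (nat_lit 158) (Tr.nd (nat_lit 156) (Tr.lf (Fc.ed (nat_lit 155) (nat_lit 66) Col.b (nat_lit 82) Dv.df)) (Tr.nd (nat_lit 157) (Tr.lf (Fc.ed (nat_lit 156) (nat_lit 82) Col.d (nat_lit 69) (Dv.wd (nat_lit 11) [Mv.b (nat_lit 134), Mv.b (nat_lit 130), Mv.f (nat_lit 155)]))) (Tr.lf (Fc.ed (nat_lit 157) (nat_lit 67) Col.c (nat_lit 83) Dv.df)))) (Tr.nd (nat_lit 159) (Tr.lf (Fc.ed (nat_lit 158) (nat_lit 67) Col.f (nat_lit 84) Dv.df)) (Tr.nd (nat_lit 160) (Tr.lf (Fc.ed (nat_lit 159) (nat_lit 84) Col.d (nat_lit 70) (Dv.wd (nat_lit 10) [Mv.b (nat_lit 135), Mv.b (nat_lit 132), Mv.f (nat_lit 158)]))) (Tr.lf (Fc.ed (nat_lit 160) (nat_lit 69) Col.a (nat_lit 85) Dv.df))))) (Tr.nd (nat_lit 164) (Tr.nd (nat_lit 162) (Tr.lf (Fc.ed (nat_lit 161) (nat_lit 69) Col.c (nat_lit 86) Dv.df)) (Tr.nd (nat_lit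 163) (Tr.lf (Fc.ed (nat_lit 162) (nat_lit 86) Col.b (nat_lit 73) (Dv.wd (nat_lit 14) [Mv.b (nat_lit 138), Mv.b (nat_lit 104), Mv.b (nat_lit 95), Mv.f (nat_lit 134), Mv.f (nat_lit 161)]))) (Tr.lf (Fc.ed (nat_lit 163) (nat_lit 86) Col.f (nat_lit 85) (Dv.wd (nat_lit 27) [Mv.b (nat_lit 160), Mv.b (nat_lit 134), Mv.f (nat_lit 95), Mv.b (nat_lit 68), Mv.b (nat_lit 59), Mv.f (nat_lit 60), Mv.f (nat_lit 53), Mv.f (nat_lit 48), Mv.b (nat_lit 46), Mv.f (nat_lit 22), Mv.f (nat_lit 24), Mv.f (nat_lit 25), Mv.b (nat_lit 54), Mv.b (nat_lit 60), Mv.f (nat_lit 85), Mv.b (nat_lit 91), Mv.b (nat_lit 94), Mv.f (nat_lit 134), Mv.f (nat_lit 161)]))))) (Tr.nd (nat_lit 166) (Tr.nd (nat_lit 165) (Tr.lf (Fc.ed (nat_lit 164) (nat_lit 69) Col.f (nat_lit 87) Dv.df)) (Tr.lf (Fc.ed (nat_lit 165) (nat_lit 87) Col.c (nat_lit 85)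 (Dv.wd (nat_lit 9) [Mv.b (nat_lit 163), Mv.b (nat_lit 161), Mv.f (nat_lit 164)])))) (Tr.nd (nat_lit 167) (Tr.lf (Fc.ed (nat_lit 166) (nat_lit 87) Col.b (nat_lit 70) (Dv.wd (nat_lit 19) [Mv.b (nat_lit 135), Mv.b (nat_lit 96), Mv.f (nat_lit 93), Mv.f (nat_lit 134), Mv.f (nat_lit 164)]))) (Tr.lf (Fc.ed (nat_lit 167) (nat_lit 68) Col.f (nat_lit 88) Dv.df)))))) (Tr.nd (nat_lit 174) (Tr.nd (nat_lit 171) (Tr.nd (nat_lit 169) (Tr.lf (Fc.ed (nat_lit 168) (nat_lit 88) Col.a (nat_lit 70) (Dv.wd (nat_lit 24) [Mv.b (nat_lit 135), Mv.f (nat_lit 133), Mv.f (nat_lit 167)]))) (Tr.nd (nat_lit 170) (Tr.lf (Fc.ed (nat_lit 169) (nat_lit 71) Col.b (nat_lit 89) Dv.df)) (Tr.lf (Fc.ed (nat_lit 170) (nat_lit 89) Col.c (nat_lit 72) (Dv.wd (nat_lit 17) [Mv.b (nat_lit 137), Mv.b (nat_lit 103), Mv.f (nat_lit 101), Mv.f (nat_lit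 136), Mv.f (nat_lit 169)]))))) (Tr.nd (nat_lit 172) (Tr.lf (Fc.ed (nat_lit 171) (nat_lit 72) Col.a (nat_lit 90) Dv.df)) (Tr.nd (nat_lit 173) (Tr.lf (Fc.ed (nat_lit 172) (nat_lit 72) Col.f (nat_lit 91) Dv.df)) (Tr.lf (Fc.ed (nat_lit 173) (nat_lit 91) Col.a (nat_lit 80) (Dv.wd (nat_lit 28) [Mv.b (nat_lit 152), Mv.b (nat_lit 120), Mv.b (nat_lit 119), Mv.b (nat_lit 118), Mv.b (nat_lit 82), Mv.f (nat_lit 56), Mv.b (nat_lit 55), Mv.b (nat_lit 28), Mv.b (nat_lit 26), Mv.b (nat_lit 24), Mv.f (nat_lit 23), Mv.f (nat_lit 46), Mv.f (nat_lit 76), Mv.f (nat_lit 115), Mv.b (nat_lit 144), Mv.f (nat_lit 143), Mv.f (nat_lit 169), Mv.f (nat_lit 170), Mv.f (nat_lit 172)])))))) (Tr.nd (nat_lit 177) (Tr.nd (nat_lit 175) (Tr.lf (Fc.ed (nat_lit 174) (nat_lit 90) Col.f (nat_lit 80) (Dv.wd (nat_lit 6) [Mv.b (nat_lit 173),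 Mv.b (nat_lit 172), Mv.f (nat_lit 171)]))) (Tr.nd (nat_lit 176) (Tr.lf (Fc.ed (nat_lit 175) (nat_lit 73) Col.a (nat_lit 92) Dv.df)) (Tr.lf (Fc.ed (nat_lit 176) (nat_lit 92) Col.f (nat_lit 78) (Dv.wd (nat_lit 6) [Mv.b (nat_lit 149), Mv.b (nat_lit 139), Mv.f (nat_lit 175)]))))) (Tr.nd (nat_lit 179) (Tr.nd (nat_lit 178) (Tr.lf (Fc.ed (nat_lit 177) (nat_lit 76) Col.f (nat_lit 93) Dv.df)) (Tr.lf (Fc.ed (nat_lit 178) (nat_lit 93) Col.d (nat_lit 75) (Dv.wd (nat_lit 10) [Mv.f (nat_lit 144), Mv.f (nat_lit 145), Mv.f (nat_lit 177)])))) (Tr.nd (nat_lit 180) (Tr.lf (Fc.ed (nat_lit 179) (nat_lit 76) Col.c (nat_lit 93) (Dv.wd (nat_lit 21) [Mv.f (nat_lit 178), Mv.b (nat_lit 142), Mv.f (nat_lit 114), Mv.f (nat_lit 100), Mv.b (nat_lit 109), Mv.b (nat_lit 108), Mv.f (nat_lit 115), Mv.f (nat_lit 145)]))) (Tr.lf (Fc.ed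 (nat_lit 180) (nat_lit 93) Col.b (nat_lit 83) (Dv.wd (nat_lit 14) [Mv.b (nat_lit 157), Mv.b (nat_lit 131), Mv.b (nat_lit 123), Mv.b (nat_lit 146), Mv.f (nat_lit 179)])))))))) (Tr.nd (nat_lit 194) (Tr.nd (nat_lit 187) (Tr.nd (nat_lit 184) (Tr.nd (nat_lit 182) (Tr.lf (Fc.ed (nat_lit 181) (nat_lit 83) Col.f (nat_lit 81) (Dv.wd (nat_lit 5) [Mv.f (nat_lit 154), Mv.f (nat_lit 127), Mv.b (nat_lit 146), Mv.f (nat_lit 177), Mv.f (nat_lit 180)]))) (Tr.nd (nat_lit 183) (Tr.lf (Fc.ed (nat_lit 182) (nat_lit 81) Col.c (nat_lit 84) (Dv.wd (nat_lit 9) [Mv.b (nat_lit 158), Mv.f (nat_lit 157), Mv.f (nat_lit 181)]))) (Tr.lf (Fc.al (nat_lit 183) (nat_lit 88) (nat_lit 74) (Dv.wd (nat_lit 29) [Mv.f (nat_lit 141), Mv.b (nat_lit 159), Mv.b (nat_lit 182), Mv.b (nat_lit 153), Mv.f (nat_lit 125), Mv.f (nat_lit 153), Mv.f (nat_lit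 182), Mv.f (nat_lit 159), Mv.b (nat_lit 168)]))))) (Tr.nd (nat_lit 185) (Tr.lf (Fc.ed (nat_lit 184) (nat_lit 74) Col.a (nat_lit 70) (Dv.wd (nat_lit 30) [Mv.b (nat_lit 168), Mv.f (nat_lit 183)]))) (Tr.nd (nat_lit 186) (Tr.lf (Fc.ed (nat_lit 185) (nat_lit 78) Col.b (nat_lit 94) Dv.df)) (Tr.lf (Fc.ed (nat_lit 186) (nat_lit 94) Col.c (nat_lit 80) (Dv.wd (nat_lit 31) [Mv.b (nat_lit 174), Mv.b (nat_lit 171), Mv.b (nat_lit 137), Mv.b (nat_lit 103), Mv.b (nat_lit 74), Mv.f (nat_lit 73), Mv.f (nat_lit 101), Mv.f (nat_lit 136), Mv.b (nat_lit 148), Mv.b (nat_lit 147), Mv.f (nat_lit 116), Mv.b (nat_lit 85), Mv.b (nat_lit 65), Mv.b (nat_lit 69), Mv.f (nat_lit 104), Mv.f (nat_lit 138), Mv.f (nat_lit 139), Mv.f (nat_lit 149), Mv.f (nat_lit 185)])))))) (Tr.nd (nat_lit 190) (Tr.nd (nat_lit 188) (Tr.lf (Fc.ed (nat_lit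 187) (nat_lit 82) Col.c (nat_lit 95) Dv.df)) (Tr.nd (nat_lit 189) (Tr.lf (Fc.ed (nat_lit 188) (nat_lit 95) Col.b (nat_lit 84) (Dv.wd (nat_lit 14) [Mv.b (nat_lit 182), Mv.f (nat_lit 154), Mv.b (nat_lit 129), Mv.f (nat_lit 155), Mv.f (nat_lit 187)]))) (Tr.lf (Fc.ed (nat_lit 189) (nat_lit 87) Col.d (nat_lit 95) (Dv.wd (nat_lit 32) [Mv.f (nat_lit 188), Mv.f (nat_lit 159), Mv.b (nat_lit 166)]))))) (Tr.nd (nat_lit 192) (Tr.nd (nat_lit 191) (Tr.lf (Fc.al (nat_lit 190) (nat_lit 86) (nat_lit 87) (Dv.wd (nat_lit 33) [Mv.f (nat_lit 189), Mv.b (nat_lit 187), Mv.f (nat_lit 156), Mv.f (nat_lit 160), Mv.b (nat_lit 165), Mv.f (nat_lit 189), Mv.b (nat_lit 187), Mv.f (nat_lit 156), Mv.f (nat_lit 161)]))) (Tr.lf (Fc.al (nat_lit 191) (nat_lit 73) (nat_lit 70) (Dv.wd (nat_lit 34) [Mv.b (nat_lit 166), Mv.b (nat_lit 190),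 Mv.f (nat_lit 162)])))) (Tr.nd (nat_lit 193) (Tr.lf (Fc.al (nat_lit 192) (nat_lit 74) (nat_lit 92) (Dv.wd (nat_lit 30) [Mv.b (nat_lit 175), Mv.f (nat_lit 191), Mv.b (nat_lit 184)]))) (Tr.lf (Fc.al (nat_lit 193) (nat_lit 74) (nat_lit 54) (Dv.wd (nat_lit 35) [Mv.f (nat_lit 138), Mv.f (nat_lit 191), Mv.b (nat_lit 141)]))))))) (Tr.nd (nat_lit 200) (Tr.nd (nat_lit 197) (Tr.nd (nat_lit 195) (Tr.lf (Fc.al (nat_lit 194) (nat_lit 37) (nat_lit 78) (Dv.wd (nat_lit 36) [Mv.b (nat_lit 176), Mv.b (nat_lit 192), Mv.f (nat_lit 193), Mv.f (nat_lit 105)]))) (Tr.nd (nat_lit 196) (Tr.lf (Fc.al (nat_lit 195) (nat_lit 33) (nat_lit 79) (Dv.wd (nat_lit 34) [Mv.f (nat_lit 151), Mv.f (nat_lit 193), Mv.b (nat_lit 104)]))) (Tr.lf (Fc.al (nat_lit 196) (nat_lit 22) (nat_lit 94) (Dv.wd (nat_lit 34) [Mv.b (nat_lit 185), Mv.b (nat_lit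 194), Mv.b (nat_lit 75)]))))) (Tr.nd (nat_lit 198) (Tr.lf (Fc.al (nat_lit 197) (nat_lit 19) (nat_lit 57) (Dv.wd (nat_lit 36) [Mv.f (nat_lit 150), Mv.b (nat_lit 195), Mv.b (nat_lit 68)]))) (Tr.nd (nat_lit 199) (Tr.lf (Fc.al (nat_lit 198) (nat_lit 39) (nat_lit 80) (Dv.wd (nat_lit 35) [Mv.b (nat_lit 186), Mv.b (nat_lit 196), Mv.f (nat_lit 78)]))) (Tr.lf (Fc.al (nat_lit 199) (nat_lit 20) (nat_lit 39) (Dv.wd (nat_lit 34) [Mv.f (nat_lit 111), Mv.b (nat_lit 197), Mv.b (nat_lit 42)])))))) (Tr.nd (nat_lit 203) (Tr.nd (nat_lit 201) (Tr.lf (Fc.al (nat_lit 200) (nat_lit 19) (nat_lit 62) (Dv.wd (nat_lit 34) [Mv.f (nat_lit 152), Mv.b (nat_lit 198), Mv.b (nat_lit 199), Mv.f (nat_lit 42)]))) (Tr.nd (nat_lit 202) (Tr.lf (Fc.al (nat_lit 201) (nat_lit 28) (nat_lit 45) (Dv.wd (nat_lit 30) [Mv.b (nat_lit 121), Mv.b (nat_lit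 200), Mv.b (nat_lit 59)]))) (Tr.lf (Fc.al (nat_lit 202) (nat_lit 25) (nat_lit 44) (Dv.wd (nat_lit 34) [Mv.b (nat_lit 89), Mv.b (nat_lit 201), Mv.f (nat_lit 60)]))))) (Tr.nd (nat_lit 205) (Tr.nd (nat_lit 204) (Tr.lf (Fc.al (nat_lit 203) (nat_lit 23) (nat_lit 29) (Dv.wd (nat_lit 35) [Mv.f (nat_lit 87), Mv.b (nat_lit 202), Mv.f (nat_lit 53)]))) (Tr.lf (Fc.al (nat_lit 204) (nat_lit 17) (nat_lit 15) (Dv.wd (nat_lit 37) [Mv.f (nat_lit 61), Mv.b (nat_lit 203), Mv.f (nat_lit 47)])))) (Tr.nd (nat_lit 206) (Tr.lf (Fc.al (nat_lit 205) (nat_lit 16) (nat_lit 3) (Dv.wd (nat_lit 35) [Mv.b (nat_lit 37), Mv.f (nat_lit 204), Mv.f (nat_lit 35)]))) (Tr.lf (Fc.ed (nat_lit 206) (nat_lit 3) Col.c (nat_lit 15) (Dv.wd (nat_lit 35) [Mv.f (nat_lit 35), Mv.f (nat_lit 205)])))))))))))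
noncomputable def mini1A : Tr (Alt Col) := (Tr.nd (nat_lit 19) (Tr.nd (nat_lit 9) (Tr.nd (nat_lit 4) (Tr.nd (nat_lit 2) (Tr.nd (nat_lit 1) (Tr.lf (Alt.base (nat_lit 0) [] [Col.a])) (Tr.lf (Alt.base (nat_lit 1) [] [Col.b]))) (Tr.nd (nat_lit 3) (Tr.lf (Alt.base (nat_lit 2) [] [Col.c])) (Tr.lf (Alt.base (nat_lit 3) [] [Col.d])))) (Tr.nd (nat_lit 6) (Tr.nd (nat_lit 5) (Tr.lf (Alt.base (nat_lit 5) [Col.f, Col.b, Col.a, Col.b, Col.f] [Col.a, Col.b, Col.a, Col.b, Col.f])) (Tr.lf (Alt.word (nat_lit 10) (nat_lit 2) true [Col.f, Col.b, Col.f, Col.b, Col.f, Col.b]))) (Tr.nd (nat_lit 7) (Tr.lf (Alt.word (nat_lit 5) (nat_lit 2) true [Col.f, Col.a, Col.f, Col.a])) (Tr.nd (nat_lit 8) (Tr.lf (Alt.word (nat_lit 10) (nat_lit 3) true [Col.b, Col.f, Col.b, Col.f, Col.b, Col.f])) (Tr.lf (Alt.word (nat_lit 1) (nat_lit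 5) true [Col.a, Col.b, Col.a, Col.b, Col.a, Col.b, Col.a, Col.b, Col.a, Col.b])))))) (Tr.nd (nat_lit 14) (Tr.nd (nat_lit 11) (Tr.nd (nat_lit 10) (Tr.lf (Alt.word (nat_lit 14) (nat_lit 1) true [Col.c, Col.f, Col.c, Col.f])) (Tr.lf (Alt.word (nat_lit 17) (nat_lit 1) true [Col.d, Col.f, Col.d, Col.f]))) (Tr.nd (nat_lit 12) (Tr.lf (Alt.word (nat_lit 8) (nat_lit 2) true [Col.d, Col.b, Col.d, Col.b])) (Tr.nd (nat_lit 13) (Tr.lf (Alt.word (nat_lit 3) (nat_lit 2) true [Col.d, Col.a, Col.d, Col.a])) (Tr.lf (Alt.word (nat_lit 14) (nat_lit 2) true [Col.f, Col.c, Col.f, Col.c]))))) (Tr.nd (nat_lit 16) (Tr.nd (nat_lit 15) (Tr.lf (Alt.word (nat_lit 7) (nat_lit 1) true [Col.b, Col.c, Col.b, Col.c, Col.b, Col.c])) (Tr.lf (Alt.word (nat_lit 8) (nat_lit 1) true [Col.b, Col.d, Col.b, Col.d]))) (Tr.nd (nat_lit 17) (Tr.lf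 (Alt.word (nat_lit 17) (nat_lit 2) true [Col.f, Col.d, Col.f, Col.d])) (Tr.nd (nat_lit 18) (Tr.lf (Alt.word (nat_lit 7) (nat_lit 2) true [Col.c, Col.b, Col.c, Col.b, Col.c, Col.b])) (Tr.lf (Alt.word (nat_lit 2) (nat_lit 2) true [Col.c, Col.a, Col.c, Col.a]))))))) (Tr.nd (nat_lit 28) (Tr.nd (nat_lit 23) (Tr.nd (nat_lit 21) (Tr.nd (nat_lit 20) (Tr.lf (Alt.word (nat_lit 10) (nat_lit 1) true [Col.b, Col.f, Col.b, Col.f, Col.b, Col.f])) (Tr.lf (Alt.word (nat_lit 2) (nat_lit 1) true [Col.a, Col.c, Col.a, Col.c]))) (Tr.nd (nat_lit 22) (Tr.lf (Alt.word (nat_lit 21) (nat_lit 2) true [Col.c, Col.d, Col.c, Col.d, Col.c, Col.d, Col.a, Col.c, Col.d])) (Tr.lf (Alt.word (nat_lit 21) (nat_lit 8) true [Col.a, Col.c, Col.d, Col.c, Col.d, Col.c, Col.d, Col.c, Col.d])))) (Tr.nd (nat_lit 25) (Tr.nd (nat_lit 24) (Tr.lf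 (Alt.word (nat_lit 3) (nat_lit 1) true [Col.a, Col.d, Col.a, Col.d])) (Tr.lf (Alt.word (nat_lit 5) (nat_lit 1) true [Col.a, Col.f, Col.a, Col.f]))) (Tr.nd (nat_lit 26) (Tr.lf (Alt.word (nat_lit 22) (nat_lit 4) true [Col.f, Col.c, Col.b, Col.a, Col.f, Col.c, Col.b, Col.a, Col.f, Col.c, Col.b, Col.a, Col.f, Col.c, Col.b, Col.a, Col.f, Col.c, Col.b, Col.a])) (Tr.nd (nat_lit 27) (Tr.lf (Alt.word (nat_lit 17) (nat_lit 0) true [Col.f, Col.d, Col.f, Col.d])) (Tr.lf (Alt.word (nat_lit 22) (nat_lit 3) false [Col.f, Col.a, Col.b, Col.c, Col.f, Col.a, Col.b, Col.c, Col.f, Col.a, Col.b, Col.c, Col.f, Col.a, Col.b, Col.c, Col.f, Col.a, Col.b, Col.c])))))) (Tr.nd (nat_lit 33) (Tr.nd (nat_lit 30) (Tr.nd (nat_lit 29) (Tr.lf (Alt.word (nat_lit 22) (nat_lit 4) false [Col.a, Col.b, Col.c, Col.f, Col.a, Col.b, Col.c,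 Col.f, Col.a, Col.b, Col.c, Col.f, Col.a, Col.b, Col.c, Col.f, Col.a, Col.b, Col.c, Col.f])) (Tr.lf (Alt.word (nat_lit 21) (nat_lit 0) true [Col.c, Col.d, Col.c, Col.d, Col.c, Col.d, Col.c, Col.d, Col.a]))) (Tr.nd (nat_lit 31) (Tr.lf (Alt.word (nat_lit 0) (nat_lit 0) true [Col.a, Col.a])) (Tr.nd (nat_lit 32) (Tr.lf (Alt.word (nat_lit 22) (nat_lit 2) false [Col.c, Col.f, Col.a, Col.b, Col.c, Col.f, Col.a, Col.b, Col.c, Col.f, Col.a, Col.b, Col.c, Col.f, Col.a, Col.b, Col.c, Col.f, Col.a, Col.b])) (Tr.lf (Alt.word (nat_lit 8) (nat_lit 0) true [Col.d, Col.b, Col.d, Col.b]))))) (Tr.nd (nat_lit 35) (Tr.nd (nat_lit 34) (Tr.lf (Alt.word (nat_lit 21) (nat_lit 5) true [Col.d, Col.c, Col.d, Col.a, Col.c, Col.d, Col.c, Col.d, Col.c])) (Tr.lf (Alt.word (nat_lit 6) (nat_lit 0) true [Col.b, Col.b]))) (Tr.nd (nat_lit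 36) (Tr.lf (Alt.word (nat_lit 11) (nat_lit 0) true [Col.c, Col.c])) (Tr.nd (nat_lit 37) (Tr.lf (Alt.word (nat_lit 20) (nat_lit 0) true [Col.f, Col.f])) (Tr.lf (Alt.word (nat_lit 15) (nat_lit 0) true [Col.d, Col.d]))))))))
noncomputable def mini1P : Tr ℕ := (Tr.nd (nat_lit 48) (Tr.nd (nat_lit 24) (Tr.nd (nat_lit 12) (Tr.nd (nat_lit 6) (Tr.nd (nat_lit 3) (Tr.nd (nat_lit 1) (Tr.lf (nat_lit 0)) (Tr.nd (nat_lit 2) (Tr.lf (nat_lit 0)) (Tr.lf (nat_lit 1)))) (Tr.nd (nat_lit 4) (Tr.lf (nat_lit 2)) (Tr.nd (nat_lit 5) (Tr.lf (nat_lit 3)) (Tr.lf (nat_lit 4))))) (Tr.nd (nat_lit 9) (Tr.nd (nat_lit 7) (Tr.lf (nat_lit 2)) (Tr.nd (nat_lit 8) (Tr.lf (nat_lit 6)) (Tr.lf (nat_lit 7)))) (Tr.nd (nat_lit 10) (Tr.lf (nat_lit 8)) (Tr.nd (nat_lit 11) (Tr.lf (nat_lit 9)) (Tr.lf (nat_lit 10)))))) (Tr.nd (nat_lit 18) (Tr.nd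 (nat_lit 15) (Tr.nd (nat_lit 13) (Tr.lf (nat_lit 11)) (Tr.nd (nat_lit 14) (Tr.lf (nat_lit 12)) (Tr.lf (nat_lit 13)))) (Tr.nd (nat_lit 16) (Tr.lf (nat_lit 14)) (Tr.nd (nat_lit 17) (Tr.lf (nat_lit 15)) (Tr.lf (nat_lit 6))))) (Tr.nd (nat_lit 21) (Tr.nd (nat_lit 19) (Tr.lf (nat_lit 9)) (Tr.nd (nat_lit 20) (Tr.lf (nat_lit 10)) (Tr.lf (nat_lit 11)))) (Tr.nd (nat_lit 22) (Tr.lf (nat_lit 4)) (Tr.nd (nat_lit 23) (Tr.lf (nat_lit 12)) (Tr.lf (nat_lit 7))))))) (Tr.nd (nat_lit 36) (Tr.nd (nat_lit 30) (Tr.nd (nat_lit 27) (Tr.nd (nat_lit 25) (Tr.lf (nat_lit 5)) (Tr.nd (nat_lit 26) (Tr.lf (nat_lit 8)) (Tr.lf (nat_lit 10)))) (Tr.nd (nat_lit 28) (Tr.lf (nat_lit 12)) (Tr.nd (nat_lit 29) (Tr.lf (nat_lit 9)) (Tr.lf (nat_lit 15))))) (Tr.nd (nat_lit 33) (Tr.nd (nat_lit 31) (Tr.lf (nat_lit 18)) (Tr.nd (nat_lit 32) (Tr.lf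 (nat_lit 21)) (Tr.lf (nat_lit 19)))) (Tr.nd (nat_lit 34) (Tr.lf (nat_lit 19)) (Tr.nd (nat_lit 35) (Tr.lf (nat_lit 17)) (Tr.lf (nat_lit 20)))))) (Tr.nd (nat_lit 42) (Tr.nd (nat_lit 39) (Tr.nd (nat_lit 37) (Tr.lf (nat_lit 24)) (Tr.nd (nat_lit 38) (Tr.lf (nat_lit 22)) (Tr.lf (nat_lit 23)))) (Tr.nd (nat_lit 40) (Tr.lf (nat_lit 22)) (Tr.nd (nat_lit 41) (Tr.lf (nat_lit 21)) (Tr.lf (nat_lit 26))))) (Tr.nd (nat_lit 45) (Tr.nd (nat_lit 43) (Tr.lf (nat_lit 27)) (Tr.nd (nat_lit 44) (Tr.lf (nat_lit 28)) (Tr.lf (nat_lit 29)))) (Tr.nd (nat_lit 46) (Tr.lf (nat_lit 27)) (Tr.nd (nat_lit 47) (Tr.lf (nat_lit 30)) (Tr.lf (nat_lit 32)))))))) (Tr.nd (nat_lit 72) (Tr.nd (nat_lit 60) (Tr.nd (nat_lit 54) (Tr.nd (nat_lit 51) (Tr.nd (nat_lit 49) (Tr.lf (nat_lit 32)) (Tr.nd (nat_lit 50) (Tr.lf (nat_lit 32)) (Tr.lf (nat_lit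 34)))) (Tr.nd (nat_lit 52) (Tr.lf (nat_lit 34)) (Tr.nd (nat_lit 53) (Tr.lf (nat_lit 31)) (Tr.lf (nat_lit 31))))) (Tr.nd (nat_lit 57) (Tr.nd (nat_lit 55) (Tr.lf (nat_lit 33)) (Tr.nd (nat_lit 56) (Tr.lf (nat_lit 35)) (Tr.lf (nat_lit 38)))) (Tr.nd (nat_lit 58) (Tr.lf (nat_lit 39)) (Tr.nd (nat_lit 59) (Tr.lf (nat_lit 38)) (Tr.lf (nat_lit 38)))))) (Tr.nd (nat_lit 66) (Tr.nd (nat_lit 63) (Tr.nd (nat_lit 61) (Tr.lf (nat_lit 37)) (Tr.nd (nat_lit 62) (Tr.lf (nat_lit 41)) (Tr.lf (nat_lit 42)))) (Tr.nd (nat_lit 64) (Tr.lf (nat_lit 43)) (Tr.nd (nat_lit 65) (Tr.lf (nat_lit 46)) (Tr.lf (nat_lit 46))))) (Tr.nd (nat_lit 69) (Tr.nd (nat_lit 67) (Tr.lf (nat_lit 47)) (Tr.nd (nat_lit 68) (Tr.lf (nat_lit 47)) (Tr.lf (nat_lit 49)))) (Tr.nd (nat_lit 70) (Tr.lf (nat_lit 48)) (Tr.nd (nat_lit 71) (Tr.lf (nat_lit 49)) (Tr.lf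 (nat_lit 52))))))) (Tr.nd (nat_lit 84) (Tr.nd (nat_lit 78) (Tr.nd (nat_lit 75) (Tr.nd (nat_lit 73) (Tr.lf (nat_lit 53)) (Tr.nd (nat_lit 74) (Tr.lf (nat_lit 54)) (Tr.lf (nat_lit 55)))) (Tr.nd (nat_lit 76) (Tr.lf (nat_lit 58)) (Tr.nd (nat_lit 77) (Tr.lf (nat_lit 59)) (Tr.lf (nat_lit 59))))) (Tr.nd (nat_lit 81) (Tr.nd (nat_lit 79) (Tr.lf (nat_lit 60)) (Tr.nd (nat_lit 80) (Tr.lf (nat_lit 57)) (Tr.lf (nat_lit 62)))) (Tr.nd (nat_lit 82) (Tr.lf (nat_lit 64)) (Tr.nd (nat_lit 83) (Tr.lf (nat_lit 66)) (Tr.lf (nat_lit 67)))))) (Tr.nd (nat_lit 90) (Tr.nd (nat_lit 87) (Tr.nd (nat_lit 85) (Tr.lf (nat_lit 67)) (Tr.nd (nat_lit 86) (Tr.lf (nat_lit 69)) (Tr.lf (nat_lit 69)))) (Tr.nd (nat_lit 88) (Tr.lf (nat_lit 69)) (Tr.nd (nat_lit 89) (Tr.lf (nat_lit 68)) (Tr.lf (nat_lit 71))))) (Tr.nd (nat_lit 93) (Tr.nd (nat_lit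 91) (Tr.lf (nat_lit 72)) (Tr.nd (nat_lit 92) (Tr.lf (nat_lit 72)) (Tr.lf (nat_lit 73)))) (Tr.nd (nat_lit 94) (Tr.lf (nat_lit 76)) (Tr.nd (nat_lit 95) (Tr.lf (nat_lit 78)) (Tr.lf (nat_lit 82)))))))))
noncomputable def mini1Q : Tr ℕ := (Tr.nd (nat_lit 48) (Tr.nd (nat_lit 24) (Tr.nd (nat_lit 12) (Tr.nd (nat_lit 6) (Tr.nd (nat_lit 3) (Tr.nd (nat_lit 1) (Tr.lf (nat_lit 0)) (Tr.nd (nat_lit 2) (Tr.lf (nat_lit 5)) (Tr.lf (nat_lit 1)))) (Tr.nd (nat_lit 4) (Tr.lf (nat_lit 0)) (Tr.nd (nat_lit 5) (Tr.lf (nat_lit 1)) (Tr.lf (nat_lit 5))))) (Tr.nd (nat_lit 9) (Tr.nd (nat_lit 7) (Tr.lf (nat_lit 2)) (Tr.nd (nat_lit 8) (Tr.lf (nat_lit 3)) (Tr.lf (nat_lit 2)))) (Tr.nd (nat_lit 10) (Tr.lf (nat_lit 1)) (Tr.nd (nat_lit 11) (Tr.lf (nat_lit 0)) (Tr.lf (nat_lit 1)))))) (Tr.nd (nat_lit 18) (Tr.nd (nat_lit 15) (Tr.nd (nat_lit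 13) (Tr.lf (nat_lit 5)) (Tr.nd (nat_lit 14) (Tr.lf (nat_lit 2)) (Tr.lf (nat_lit 3)))) (Tr.nd (nat_lit 16) (Tr.lf (nat_lit 1)) (Tr.nd (nat_lit 17) (Tr.lf (nat_lit 2)) (Tr.lf (nat_lit 0))))) (Tr.nd (nat_lit 21) (Tr.nd (nat_lit 19) (Tr.lf (nat_lit 5)) (Tr.nd (nat_lit 20) (Tr.lf (nat_lit 3)) (Tr.lf (nat_lit 3)))) (Tr.nd (nat_lit 22) (Tr.lf (nat_lit 2)) (Tr.nd (nat_lit 23) (Tr.lf (nat_lit 3)) (Tr.lf (nat_lit 0))))))) (Tr.nd (nat_lit 36) (Tr.nd (nat_lit 30) (Tr.nd (nat_lit 27) (Tr.nd (nat_lit 25) (Tr.lf (nat_lit 2)) (Tr.nd (nat_lit 26) (Tr.lf (nat_lit 3)) (Tr.lf (nat_lit 5)))) (Tr.nd (nat_lit 28) (Tr.lf (nat_lit 1)) (Tr.nd (nat_lit 29) (Tr.lf (nat_lit 3)) (Tr.lf (nat_lit 3))))) (Tr.nd (nat_lit 33) (Tr.nd (nat_lit 31) (Tr.lf (nat_lit 3)) (Tr.nd (nat_lit 32) (Tr.lf (nat_lit 3)) (Tr.lf (nat_lit 2)))) (Tr.nd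 (nat_lit 34) (Tr.lf (nat_lit 5)) (Tr.nd (nat_lit 35) (Tr.lf (nat_lit 1)) (Tr.lf (nat_lit 2)))))) (Tr.nd (nat_lit 42) (Tr.nd (nat_lit 39) (Tr.nd (nat_lit 37) (Tr.lf (nat_lit 3)) (Tr.nd (nat_lit 38) (Tr.lf (nat_lit 1)) (Tr.lf (nat_lit 1)))) (Tr.nd (nat_lit 40) (Tr.lf (nat_lit 2)) (Tr.nd (nat_lit 41) (Tr.lf (nat_lit 1)) (Tr.lf (nat_lit 1))))) (Tr.nd (nat_lit 45) (Tr.nd (nat_lit 43) (Tr.lf (nat_lit 0)) (Tr.nd (nat_lit 44) (Tr.lf (nat_lit 2)) (Tr.lf (nat_lit 2)))) (Tr.nd (nat_lit 46) (Tr.lf (nat_lit 2)) (Tr.nd (nat_lit 47) (Tr.lf (nat_lit 2)) (Tr.lf (nat_lit 3)))))))) (Tr.nd (nat_lit 72) (Tr.nd (nat_lit 60) (Tr.nd (nat_lit 54) (Tr.nd (nat_lit 51) (Tr.nd (nat_lit 49) (Tr.lf (nat_lit 5)) (Tr.nd (nat_lit 50) (Tr.lf (nat_lit 1)) (Tr.lf (nat_lit 0)))) (Tr.nd (nat_lit 52) (Tr.lf (nat_lit 5)) (Tr.nd (nat_lit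 53) (Tr.lf (nat_lit 1)) (Tr.lf (nat_lit 2))))) (Tr.nd (nat_lit 57) (Tr.nd (nat_lit 55) (Tr.lf (nat_lit 1)) (Tr.nd (nat_lit 56) (Tr.lf (nat_lit 1)) (Tr.lf (nat_lit 0)))) (Tr.nd (nat_lit 58) (Tr.lf (nat_lit 1)) (Tr.nd (nat_lit 59) (Tr.lf (nat_lit 5)) (Tr.lf (nat_lit 2)))))) (Tr.nd (nat_lit 66) (Tr.nd (nat_lit 63) (Tr.nd (nat_lit 61) (Tr.lf (nat_lit 2)) (Tr.nd (nat_lit 62) (Tr.lf (nat_lit 0)) (Tr.lf (nat_lit 2)))) (Tr.nd (nat_lit 64) (Tr.lf (nat_lit 3)) (Tr.nd (nat_lit 65) (Tr.lf (nat_lit 1)) (Tr.lf (nat_lit 3))))) (Tr.nd (nat_lit 69) (Tr.nd (nat_lit 67) (Tr.lf (nat_lit 5)) (Tr.nd (nat_lit 68) (Tr.lf (nat_lit 1)) (Tr.lf (nat_lit 0)))) (Tr.nd (nat_lit 70) (Tr.lf (nat_lit 1)) (Tr.nd (nat_lit 71) (Tr.lf (nat_lit 5)) (Tr.lf (nat_lit 2))))))) (Tr.nd (nat_lit 84) (Tr.nd (nat_lit 78) (Tr.nd (nat_lit 75) (Tr.nd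 (nat_lit 73) (Tr.lf (nat_lit 1)) (Tr.nd (nat_lit 74) (Tr.lf (nat_lit 2)) (Tr.lf (nat_lit 5)))) (Tr.nd (nat_lit 76) (Tr.lf (nat_lit 2)) (Tr.nd (nat_lit 77) (Tr.lf (nat_lit 3)) (Tr.lf (nat_lit 0))))) (Tr.nd (nat_lit 81) (Tr.nd (nat_lit 79) (Tr.lf (nat_lit 0)) (Tr.nd (nat_lit 80) (Tr.lf (nat_lit 5)) (Tr.lf (nat_lit 1)))) (Tr.nd (nat_lit 82) (Tr.lf (nat_lit 3)) (Tr.nd (nat_lit 83) (Tr.lf (nat_lit 1)) (Tr.lf (nat_lit 2)))))) (Tr.nd (nat_lit 90) (Tr.nd (nat_lit 87) (Tr.nd (nat_lit 85) (Tr.lf (nat_lit 5)) (Tr.nd (nat_lit 86) (Tr.lf (nat_lit 0)) (Tr.lf (nat_lit 2)))) (Tr.nd (nat_lit 88) (Tr.lf (nat_lit 5)) (Tr.nd (nat_lit 89) (Tr.lf (nat_lit 5)) (Tr.lf (nat_lit 1))))) (Tr.nd (nat_lit 93) (Tr.nd (nat_lit 91) (Tr.lf (nat_lit 0)) (Tr.nd (nat_lit 92) (Tr.lf (nat_lit 5)) (Tr.lf (nat_lit 0)))) (Tr.nd (nat_lit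 94) (Tr.lf (nat_lit 5)) (Tr.nd (nat_lit 95) (Tr.lf (nat_lit 1)) (Tr.lf (nat_lit 2)))))))))
theorem mini1_alt : Tr.all (altChk idx inv RW (SW1)) mini1A = true := by decide +kernel
theorem mini1_chk : Tr.all (chkFc idx inv mini1S mini1A (fun b => Tr.find b mini1P) (fun b => Tr.find b mini1Q)) mini1S = true := by decide +kernel
theorem mini1_run : runM idx inv mini1S 207 0 [Mv.f (nat_lit 4), Mv.f (nat_lit 5), Mv.f (nat_lit 18), Mv.f (nat_lit 21), Mv.f (nat_lit 24), Mv.f (nat_lit 26), Mv.f (nat_lit 28), Mv.f (nat_lit 30), Mv.f (nat_lit 31), Mv.f (nat_lit 32), Mv.f (nat_lit 33), Mv.f (nat_lit 34), Mv.b (nat_lit 206), Mv.b (nat_lit 6), Mv.b (nat_lit 5), Mv.b (nat_lit 4)] [Col.f, Col.b, Col.c, Col.d, Col.c, Col.b, Col.a, Col.b, Col.f, Col.c, Col.d, Col.b, Col.c, Col.a, Col.b, Col.f] 0 = true := by decide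 +kernel
theorem mini1_fix {G X : Type*} [Group G] [MulAction G X] (g : Col → G) (x0 : X) (hinv : ∀ c, g (inv c) = (g c)⁻¹)
    (hRW : ∀ w ∈ RW, gw g w = 1) (hSW : ∀ w ∈ SW1, gw g w • x0 = x0) : gw g [Col.f, Col.b, Col.c, Col.d, Col.c, Col.b, Col.a, Col.b, Col.f, Col.c, Col.d, Col.b, Col.c, Col.a, Col.b, Col.f] • x0 = x0 :=
  mini_sound g x0 dec hdec hinv
    (fun a ha => altChk_sound g x0 dec hdec hinv hRW hSW ((Tr.all_iff _ _).1 mini1_alt a ha)) mini1_chk mini1_run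
noncomputable def mini2S : Tr (Fc Col) := (Tr.nd (nat_lit 150) (Tr.nd (nat_lit 75) (Tr.nd (nat_lit 37) (Tr.nd (nat_lit 18) (Tr.nd (nat_lit 9) (Tr.nd (nat_lit 4) (Tr.nd (nat_lit 2) (Tr.nd (nat_lit 1) (Tr.lf (Fc.ed (nat_lit 0) (nat_lit 0) Col.b (nat_lit 0) (Dv.sb (nat_lit 0) [] []))) (Tr.lf (Fc.ed (nat_lit 1) (nat_lit 0) Col.c (nat_lit 0) (Dv.sb (nat_lit 1) [] [])))) (Tr.nd (nat_lit 3) (Tr.lf (Fc.ed (nat_lit 2) (nat_lit 0) Col.d (nat_lit 0) (Dv.sb (nat_lit 2) [] []))) (Tr.lf (Fc.ed (nat_lit 3) (nat_lit 0) Col.e (nat_lit 0) (Dv.sb (nat_lit 3) [] []))))) (Tr.nd (nat_lit 6) (Tr.nd (nat_lit 5) (Tr.lf (Fc.ed (nat_lit 4) (nat_lit 0) Col.f (nat_lit 1) Dv.df)) (Tr.lf (Fc.ed (nat_lit 5) (nat_lit 1) Col.b (nat_lit 2) Dv.df))) (Tr.nd (nat_lit 7) (Tr.lf (Fc.ed (nat_lit 6) (nat_lit 2) Col.a (nat_lit 3) Dv.df))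 (Tr.nd (nat_lit 8) (Tr.lf (Fc.ed (nat_lit 7) (nat_lit 3) Col.b (nat_lit 4) Dv.df)) (Tr.lf (Fc.ed (nat_lit 8) (nat_lit 4) Col.f (nat_lit 5) Dv.df)))))) (Tr.nd (nat_lit 13) (Tr.nd (nat_lit 11) (Tr.nd (nat_lit 10) (Tr.lf (Fc.ed (nat_lit 9) (nat_lit 5) Col.a (nat_lit 4) (Dv.sb (nat_lit 4) [Mv.f (nat_lit 4), Mv.f (nat_lit 5), Mv.f (nat_lit 6), Mv.f (nat_lit 7), Mv.f (nat_lit 8)] [Mv.b (nat_lit 7), Mv.b (nat_lit 6), Mv.b (nat_lit 5), Mv.b (nat_lit 4)]))) (Tr.lf (Fc.ed (nat_lit 10) (nat_lit 2) Col.c (nat_lit 6) Dv.df))) (Tr.nd (nat_lit 12) (Tr.lf (Fc.ed (nat_lit 11) (nat_lit 6) Col.d (nat_lit 7) Dv.df)) (Tr.lf (Fc.ed (nat_lit 12) (nat_lit 7) Col.c (nat_lit 8) Dv.df)))) (Tr.nd (nat_lit 15) (Tr.nd (nat_lit 14) (Tr.lf (Fc.ed (nat_lit 13) (nat_lit 8) Col.b (nat_lit 9) Dv.df)) (Tr.lf (Fc.ed (nat_lit 14) (nat_lit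 9) Col.a (nat_lit 10) Dv.df))) (Tr.nd (nat_lit 16) (Tr.lf (Fc.ed (nat_lit 15) (nat_lit 10) Col.b (nat_lit 11) Dv.df)) (Tr.nd (nat_lit 17) (Tr.lf (Fc.ed (nat_lit 16) (nat_lit 11) Col.f (nat_lit 12) Dv.df)) (Tr.lf (Fc.ed (nat_lit 17) (nat_lit 12) Col.c (nat_lit 13) Dv.df))))))) (Tr.nd (nat_lit 27) (Tr.nd (nat_lit 22) (Tr.nd (nat_lit 20) (Tr.nd (nat_lit 19) (Tr.lf (Fc.ed (nat_lit 18) (nat_lit 13) Col.d (nat_lit 14) Dv.df)) (Tr.lf (Fc.ed (nat_lit 19) (nat_lit 14) Col.b (nat_lit 15) Dv.df))) (Tr.nd (nat_lit 21) (Tr.lf (Fc.ed (nat_lit 20) (nat_lit 15) Col.c (nat_lit 3) (Dv.sb (nat_lit 5) [Mv.f (nat_lit 4), Mv.f (nat_lit 5), Mv.f (nat_lit 10), Mv.f (nat_lit 11), Mv.f (nat_lit 12), Mv.f (nat_lit 13), Mv.f (nat_lit 14), Mv.f (nat_lit 15), Mv.f (nat_lit 16), Mv.f (nat_lit 17), Mv.f (nat_lit 18), Mv.f (nat_lit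 19)] [Mv.b (nat_lit 6), Mv.b (nat_lit 5), Mv.b (nat_lit 4)]))) (Tr.lf (Fc.ed (nat_lit 21) (nat_lit 6) Col.a (nat_lit 15) (Dv.wd (nat_lit 6) [Mv.f (nat_lit 20), Mv.b (nat_lit 6), Mv.f (nat_lit 10)]))))) (Tr.nd (nat_lit 24) (Tr.nd (nat_lit 23) (Tr.lf (Fc.ed (nat_lit 22) (nat_lit 2) Col.f (nat_lit 2) (Dv.wd (nat_lit 7) [Mv.b (nat_lit 5), Mv.b (nat_lit 4), Mv.f (nat_lit 0), Mv.f (nat_lit 4), Mv.f (nat_lit 5)]))) (Tr.lf (Fc.ed (nat_lit 23) (nat_lit 6) Col.f (nat_lit 6) (Dv.wd (nat_lit 8) [Mv.b (nat_lit 10), Mv.f (nat_lit 22), Mv.f (nat_lit 10)])))) (Tr.nd (nat_lit 25) (Tr.lf (Fc.ed (nat_lit 24) (nat_lit 15) Col.f (nat_lit 15) (Dv.wd (nat_lit 9) [Mv.b (nat_lit 21), Mv.f (nat_lit 23), Mv.f (nat_lit 21)]))) (Tr.nd (nat_lit 26) (Tr.lf (Fc.ed (nat_lit 25) (nat_lit 7) Col.f (nat_lit 7) (Dv.wd (nat_lit 10) [Mv.b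 (nat_lit 11), Mv.f (nat_lit 23), Mv.f (nat_lit 11)]))) (Tr.lf (Fc.ed (nat_lit 26) (nat_lit 8) Col.f (nat_lit 8) (Dv.wd (nat_lit 8) [Mv.b (nat_lit 12), Mv.f (nat_lit 25), Mv.f (nat_lit 12)]))))))) (Tr.nd (nat_lit 32) (Tr.nd (nat_lit 29) (Tr.nd (nat_lit 28) (Tr.lf (Fc.ed (nat_lit 27) (nat_lit 1) Col.c (nat_lit 1) (Dv.wd (nat_lit 11) [Mv.b (nat_lit 4), Mv.f (nat_lit 1), Mv.f (nat_lit 4)]))) (Tr.lf (Fc.ed (nat_lit 28) (nat_lit 1) Col.d (nat_lit 1) (Dv.wd (nat_lit 12) [Mv.b (nat_lit 4), Mv.f (nat_lit 2), Mv.f (nat_lit 4)])))) (Tr.nd (nat_lit 30) (Tr.lf (Fc.ed (nat_lit 29) (nat_lit 1) Col.e (nat_lit 1) (Dv.wd (nat_lit 13) [Mv.b (nat_lit 4), Mv.f (nat_lit 3), Mv.f (nat_lit 4)]))) (Tr.nd (nat_lit 31) (Tr.lf (Fc.ed (nat_lit 30) (nat_lit 2) Col.e (nat_lit 2) (Dv.wd (nat_lit 14) [Mv.b (nat_lit 5), Mv.f (nat_lit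 29), Mv.f (nat_lit 5)]))) (Tr.lf (Fc.ed (nat_lit 31) (nat_lit 3) Col.e (nat_lit 3) (Dv.wd (nat_lit 15) [Mv.b (nat_lit 6), Mv.f (nat_lit 30), Mv.f (nat_lit 6)])))))) (Tr.nd (nat_lit 34) (Tr.nd (nat_lit 33) (Tr.lf (Fc.ed (nat_lit 32) (nat_lit 6) Col.e (nat_lit 6) (Dv.wd (nat_lit 16) [Mv.b (nat_lit 10), Mv.f (nat_lit 30), Mv.f (nat_lit 10)]))) (Tr.lf (Fc.ed (nat_lit 33) (nat_lit 15) Col.e (nat_lit 15) (Dv.wd (nat_lit 15) [Mv.b (nat_lit 21), Mv.f (nat_lit 32), Mv.f (nat_lit 21)])))) (Tr.nd (nat_lit 35) (Tr.lf (Fc.ed (nat_lit 34) (nat_lit 14) Col.e (nat_lit 14) (Dv.wd (nat_lit 14) [Mv.f (nat_lit 19), Mv.f (nat_lit 33), Mv.b (nat_lit 19)]))) (Tr.nd (nat_lit 36) (Tr.lf (Fc.ed (nat_lit 35) (nat_lit 4) Col.e (nat_lit 4) (Dv.wd (nat_lit 14) [Mv.b (nat_lit 7), Mv.f (nat_lit 31), Mv.f (nat_lit 7)]))) (Tr.lf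 (Fc.ed (nat_lit 36) (nat_lit 5) Col.e (nat_lit 5) (Dv.wd (nat_lit 15) [Mv.f (nat_lit 9), Mv.f (nat_lit 35), Mv.b (nat_lit 9)]))))))))) (Tr.nd (nat_lit 56) (Tr.nd (nat_lit 46) (Tr.nd (nat_lit 41) (Tr.nd (nat_lit 39) (Tr.nd (nat_lit 38) (Tr.lf (Fc.ed (nat_lit 37) (nat_lit 2) Col.d (nat_lit 2) (Dv.wd (nat_lit 17) [Mv.b (nat_lit 5), Mv.f (nat_lit 28), Mv.f (nat_lit 5)]))) (Tr.lf (Fc.ed (nat_lit 38) (nat_lit 3) Col.d (nat_lit 3) (Dv.wd (nat_lit 18) [Mv.b (nat_lit 6), Mv.f (nat_lit 37), Mv.f (nat_lit 6)])))) (Tr.nd (nat_lit 40) (Tr.lf (Fc.ed (nat_lit 39) (nat_lit 6) Col.b (nat_lit 6) (Dv.wd (nat_lit 19) [Mv.b (nat_lit 10), Mv.b (nat_lit 5), Mv.f (nat_lit 27), Mv.f (nat_lit 5), Mv.f (nat_lit 10)]))) (Tr.lf (Fc.ed (nat_lit 40) (nat_lit 7) Col.b (nat_lit 7) (Dv.wd (nat_lit 20) [Mv.b (nat_lit 11), Mv.f (nat_lit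 39), Mv.f (nat_lit 11)]))))) (Tr.nd (nat_lit 43) (Tr.nd (nat_lit 42) (Tr.lf (Fc.ed (nat_lit 41) (nat_lit 9) Col.c (nat_lit 9) (Dv.wd (nat_lit 21) [Mv.b (nat_lit 13), Mv.b (nat_lit 12), Mv.f (nat_lit 40), Mv.f (nat_lit 12), Mv.f (nat_lit 13)]))) (Tr.lf (Fc.ed (nat_lit 42) (nat_lit 9) Col.e (nat_lit 16) Dv.df))) (Tr.nd (nat_lit 44) (Tr.lf (Fc.ed (nat_lit 43) (nat_lit 16) Col.c (nat_lit 16) (Dv.wd (nat_lit 22) [Mv.b (nat_lit 42), Mv.f (nat_lit 41), Mv.f (nat_lit 42)]))) (Tr.nd (nat_lit 45) (Tr.lf (Fc.ed (nat_lit 44) (nat_lit 16) Col.d (nat_lit 17) Dv.df)) (Tr.lf (Fc.ed (nat_lit 45) (nat_lit 17) Col.c (nat_lit 18) Dv.df)))))) (Tr.nd (nat_lit 51) (Tr.nd (nat_lit 48) (Tr.nd (nat_lit 47) (Tr.lf (Fc.ed (nat_lit 46) (nat_lit 18) Col.f (nat_lit 19) Dv.df)) (Tr.lf (Fc.ed (nat_lit 47) (nat_lit 19) Col.b (nat_lit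 20) Dv.df))) (Tr.nd (nat_lit 49) (Tr.lf (Fc.ed (nat_lit 48) (nat_lit 20) Col.a (nat_lit 21) Dv.df)) (Tr.nd (nat_lit 50) (Tr.lf (Fc.ed (nat_lit 49) (nat_lit 4) Col.c (nat_lit 22) Dv.df)) (Tr.lf (Fc.ed (nat_lit 50) (nat_lit 5) Col.c (nat_lit 23) Dv.df))))) (Tr.nd (nat_lit 53) (Tr.nd (nat_lit 52) (Tr.lf (Fc.ed (nat_lit 51) (nat_lit 23) Col.a (nat_lit 22) (Dv.wd (nat_lit 23) [Mv.b (nat_lit 49), Mv.b (nat_lit 9), Mv.f (nat_lit 50)]))) (Tr.lf (Fc.ed (nat_lit 52) (nat_lit 23) Col.e (nat_lit 23) (Dv.wd (nat_lit 16) [Mv.b (nat_lit 50), Mv.f (nat_lit 36), Mv.f (nat_lit 50)])))) (Tr.nd (nat_lit 54) (Tr.lf (Fc.ed (nat_lit 53) (nat_lit 23) Col.f (nat_lit 22) (Dv.wd (nat_lit 8) [Mv.b (nat_lit 49), Mv.f (nat_lit 8), Mv.f (nat_lit 50)]))) (Tr.nd (nat_lit 55) (Tr.lf (Fc.ed (nat_lit 54) (nat_lit 7) Col.a (nat_lit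 24) Dv.df)) (Tr.lf (Fc.ed (nat_lit 55) (nat_lit 24) Col.d (nat_lit 15) (Dv.wd (nat_lit 18) [Mv.b (nat_lit 21), Mv.f (nat_lit 11), Mv.f (nat_lit 54)])))))))) (Tr.nd (nat_lit 65) (Tr.nd (nat_lit 60) (Tr.nd (nat_lit 58) (Tr.nd (nat_lit 57) (Tr.lf (Fc.ed (nat_lit 56) (nat_lit 13) Col.b (nat_lit 24) (Dv.wd (nat_lit 20) [Mv.f (nat_lit 55), Mv.b (nat_lit 19), Mv.b (nat_lit 18)]))) (Tr.lf (Fc.ed (nat_lit 57) (nat_lit 8) Col.a (nat_lit 25) Dv.df))) (Tr.nd (nat_lit 59) (Tr.lf (Fc.ed (nat_lit 58) (nat_lit 25) Col.c (nat_lit 24) (Dv.wd (nat_lit 24) [Mv.b (nat_lit 54), Mv.f (nat_lit 12), Mv.f (nat_lit 57)]))) (Tr.lf (Fc.ed (nat_lit 59) (nat_lit 25) Col.d (nat_lit 8) (Dv.wd (nat_lit 25) [Mv.f (nat_lit 57), Mv.f (nat_lit 58), Mv.f (nat_lit 55), Mv.f (nat_lit 20), Mv.f (nat_lit 38), Mv.b (nat_lit 20), Mv.b (nat_lit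 55), Mv.b (nat_lit 58)]))))) (Tr.nd (nat_lit 62) (Tr.nd (nat_lit 61) (Tr.lf (Fc.ed (nat_lit 60) (nat_lit 8) Col.e (nat_lit 26) Dv.df)) (Tr.lf (Fc.ed (nat_lit 61) (nat_lit 26) Col.b (nat_lit 16) (Dv.wd (nat_lit 26) [Mv.b (nat_lit 42), Mv.b (nat_lit 13), Mv.f (nat_lit 60)])))) (Tr.nd (nat_lit 63) (Tr.lf (Fc.ed (nat_lit 62) (nat_lit 26) Col.f (nat_lit 26) (Dv.wd (nat_lit 27) [Mv.b (nat_lit 60), Mv.f (nat_lit 26), Mv.f (nat_lit 60)]))) (Tr.nd (nat_lit 64) (Tr.lf (Fc.ed (nat_lit 63) (nat_lit 9) Col.d (nat_lit 27) Dv.df)) (Tr.lf (Fc.ed (nat_lit 64) (nat_lit 27) Col.b (nat_lit 25) (Dv.wd (nat_lit 28) [Mv.f (nat_lit 59), Mv.f (nat_lit 13), Mv.f (nat_lit 63)]))))))) (Tr.nd (nat_lit 70) (Tr.nd (nat_lit 67) (Tr.nd (nat_lit 66) (Tr.lf (Fc.ed (nat_lit 65) (nat_lit 10) Col.e (nat_lit 28) Dv.df)) (Tr.lf (Fc.ed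 (nat_lit 66) (nat_lit 28) Col.a (nat_lit 16) (Dv.wd (nat_lit 29) [Mv.b (nat_lit 42), Mv.f (nat_lit 14), Mv.f (nat_lit 65)])))) (Tr.nd (nat_lit 68) (Tr.lf (Fc.ed (nat_lit 67) (nat_lit 10) Col.d (nat_lit 29) Dv.df)) (Tr.nd (nat_lit 69) (Tr.lf (Fc.ed (nat_lit 68) (nat_lit 29) Col.a (nat_lit 27) (Dv.wd (nat_lit 30) [Mv.b (nat_lit 63), Mv.f (nat_lit 14), Mv.f (nat_lit 67)]))) (Tr.lf (Fc.ed (nat_lit 69) (nat_lit 11) Col.d (nat_lit 30) Dv.df))))) (Tr.nd (nat_lit 72) (Tr.nd (nat_lit 71) (Tr.lf (Fc.ed (nat_lit 70) (nat_lit 30) Col.b (nat_lit 29) (Dv.wd (nat_lit 28) [Mv.b (nat_lit 67), Mv.f (nat_lit 15), Mv.f (nat_lit 69)]))) (Tr.lf (Fc.ed (nat_lit 71) (nat_lit 11) Col.e (nat_lit 31) Dv.df))) (Tr.nd (nat_lit 73) (Tr.lf (Fc.ed (nat_lit 72) (nat_lit 31) Col.b (nat_lit 28) (Dv.wd (nat_lit 26) [Mv.b (nat_lit 65),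 Mv.f (nat_lit 15), Mv.f (nat_lit 71)]))) (Tr.nd (nat_lit 74) (Tr.lf (Fc.ed (nat_lit 73) (nat_lit 11) Col.c (nat_lit 32) Dv.df)) (Tr.lf (Fc.ed (nat_lit 74) (nat_lit 32) Col.f (nat_lit 13) (Dv.wd (nat_lit 8) [Mv.b (nat_lit 17), Mv.b (nat_lit 16), Mv.f (nat_lit 73)])))))))))) (Tr.nd (nat_lit 112) (Tr.nd (nat_lit 93) (Tr.nd (nat_lit 84) (Tr.nd (nat_lit 79) (Tr.nd (nat_lit 77) (Tr.nd (nat_lit 76) (Tr.lf (Fc.ed (nat_lit 75) (nat_lit 11) Col.a (nat_lit 33) Dv.df)) (Tr.lf (Fc.ed (nat_lit 76) (nat_lit 12) Col.b (nat_lit 34) Dv.df))) (Tr.nd (nat_lit 78) (Tr.lf (Fc.ed (nat_lit 77) (nat_lit 34) Col.c (nat_lit 27) (Dv.wd (nat_lit 31) [Mv.f (nat_lit 64), Mv.f (nat_lit 58), Mv.b (nat_lit 56), Mv.b (nat_lit 17), Mv.f (nat_lit 76)]))) (Tr.lf (Fc.ed (nat_lit 78) (nat_lit 12) Col.d (nat_lit 35) Dv.df)))) (Tr.nd (nat_lit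 81) (Tr.nd (nat_lit 80) (Tr.lf (Fc.ed (nat_lit 79) (nat_lit 35) Col.f (nat_lit 30) (Dv.wd (nat_lit 10) [Mv.b (nat_lit 69), Mv.f (nat_lit 16), Mv.f (nat_lit 78)]))) (Tr.lf (Fc.ed (nat_lit 80) (nat_lit 12) Col.a (nat_lit 36) Dv.df))) (Tr.nd (nat_lit 82) (Tr.lf (Fc.ed (nat_lit 81) (nat_lit 36) Col.f (nat_lit 33) (Dv.wd (nat_lit 9) [Mv.b (nat_lit 75), Mv.f (nat_lit 16), Mv.f (nat_lit 80)]))) (Tr.nd (nat_lit 83) (Tr.lf (Fc.ed (nat_lit 82) (nat_lit 12) Col.e (nat_lit 37) Dv.df)) (Tr.lf (Fc.ed (nat_lit 83) (nat_lit 37) Col.f (nat_lit 31) (Dv.wd (nat_lit 27) [Mv.b (nat_lit 71), Mv.f (nat_lit 16), Mv.f (nat_lit 82)]))))))) (Tr.nd (nat_lit 88) (Tr.nd (nat_lit 86) (Tr.nd (nat_lit 85) (Tr.lf (Fc.ed (nat_lit 84) (nat_lit 13) Col.e (nat_lit 38) Dv.df)) (Tr.lf (Fc.ed (nat_lit 85) (nat_lit 38) Col.c (nat_lit 37)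 (Dv.wd (nat_lit 22) [Mv.b (nat_lit 82), Mv.f (nat_lit 17), Mv.f (nat_lit 84)])))) (Tr.nd (nat_lit 87) (Tr.lf (Fc.ed (nat_lit 86) (nat_lit 38) Col.d (nat_lit 38) (Dv.wd (nat_lit 32) [Mv.b (nat_lit 84), Mv.f (nat_lit 18), Mv.f (nat_lit 34), Mv.b (nat_lit 18), Mv.f (nat_lit 84)]))) (Tr.lf (Fc.ed (nat_lit 87) (nat_lit 14) Col.f (nat_lit 39) Dv.df)))) (Tr.nd (nat_lit 90) (Tr.nd (nat_lit 89) (Tr.lf (Fc.ed (nat_lit 88) (nat_lit 39) Col.d (nat_lit 32) (Dv.wd (nat_lit 12) [Mv.f (nat_lit 74), Mv.f (nat_lit 18), Mv.f (nat_lit 87)]))) (Tr.lf (Fc.ed (nat_lit 89) (nat_lit 14) Col.c (nat_lit 40) Dv.df))) (Tr.nd (nat_lit 91) (Tr.lf (Fc.ed (nat_lit 90) (nat_lit 40) Col.b (nat_lit 22) (Dv.wd (nat_lit 33) [Mv.b (nat_lit 49), Mv.b (nat_lit 7), Mv.b (nat_lit 20), Mv.b (nat_lit 19), Mv.f (nat_lit 89)]))) (Tr.nd (nat_lit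 92) (Tr.lf (Fc.ed (nat_lit 91) (nat_lit 40) Col.a (nat_lit 39) (Dv.wd (nat_lit 34) [Mv.b (nat_lit 87), Mv.f (nat_lit 89), Mv.f (nat_lit 90), Mv.b (nat_lit 51), Mv.f (nat_lit 53), Mv.b (nat_lit 49), Mv.b (nat_lit 7), Mv.b (nat_lit 6), Mv.f (nat_lit 22), Mv.f (nat_lit 10), Mv.f (nat_lit 39), Mv.f (nat_lit 21), Mv.f (nat_lit 24), Mv.f (nat_lit 20), Mv.f (nat_lit 7), Mv.b (nat_lit 9), Mv.b (nat_lit 8), Mv.f (nat_lit 49), Mv.b (nat_lit 90)]))) (Tr.lf (Fc.ed (nat_lit 92) (nat_lit 35) Col.c (nat_lit 30) (Dv.wd (nat_lit 35) [Mv.b (nat_lit 69), Mv.f (nat_lit 73), Mv.b (nat_lit 88), Mv.b (nat_lit 91), Mv.b (nat_lit 89), Mv.b (nat_lit 18), Mv.b (nat_lit 17), Mv.f (nat_lit 78)])))))))) (Tr.nd (nat_lit 102) (Tr.nd (nat_lit 97) (Tr.nd (nat_lit 95) (Tr.nd (nat_lit 94) (Tr.lf (Fc.ed (nat_lit 93) (nat_lit 16) Col.f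 (nat_lit 41) Dv.df)) (Tr.lf (Fc.ed (nat_lit 94) (nat_lit 41) Col.c (nat_lit 41) (Dv.wd (nat_lit 11) [Mv.b (nat_lit 93), Mv.f (nat_lit 43), Mv.f (nat_lit 93)])))) (Tr.nd (nat_lit 96) (Tr.lf (Fc.ed (nat_lit 95) (nat_lit 41) Col.b (nat_lit 41) (Dv.wd (nat_lit 36) [Mv.b (nat_lit 93), Mv.b (nat_lit 61), Mv.f (nat_lit 62), Mv.f (nat_lit 61), Mv.f (nat_lit 93)]))) (Tr.lf (Fc.ed (nat_lit 96) (nat_lit 17) Col.e (nat_lit 42) Dv.df)))) (Tr.nd (nat_lit 99) (Tr.nd (nat_lit 98) (Tr.lf (Fc.ed (nat_lit 97) (nat_lit 17) Col.f (nat_lit 43) Dv.df)) (Tr.lf (Fc.ed (nat_lit 98) (nat_lit 43) Col.c (nat_lit 19) (Dv.wd (nat_lit 11) [Mv.b (nat_lit 46), Mv.b (nat_lit 45), Mv.f (nat_lit 97)])))) (Tr.nd (nat_lit 100) (Tr.lf (Fc.ed (nat_lit 99) (nat_lit 43) Col.d (nat_lit 41) (Dv.wd (nat_lit 12) [Mv.b (nat_lit 93), Mv.f (nat_lit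 44), Mv.f (nat_lit 97)]))) (Tr.nd (nat_lit 101) (Tr.lf (Fc.ed (nat_lit 100) (nat_lit 43) Col.b (nat_lit 43) (Dv.wd (nat_lit 20) [Mv.f (nat_lit 99), Mv.f (nat_lit 95), Mv.b (nat_lit 99)]))) (Tr.lf (Fc.ed (nat_lit 101) (nat_lit 20) Col.c (nat_lit 20) (Dv.wd (nat_lit 21) [Mv.b (nat_lit 47), Mv.b (nat_lit 98), Mv.f (nat_lit 100), Mv.f (nat_lit 98), Mv.f (nat_lit 47)]))))))) (Tr.nd (nat_lit 107) (Tr.nd (nat_lit 104) (Tr.nd (nat_lit 103) (Tr.lf (Fc.ed (nat_lit 102) (nat_lit 18) Col.a (nat_lit 44) Dv.df)) (Tr.lf (Fc.ed (nat_lit 103) (nat_lit 18) Col.e (nat_lit 45) Dv.df))) (Tr.nd (nat_lit 105) (Tr.lf (Fc.ed (nat_lit 104) (nat_lit 45) Col.c (nat_lit 42) (Dv.wd (nat_lit 22) [Mv.b (nat_lit 96), Mv.f (nat_lit 45), Mv.f (nat_lit 103)]))) (Tr.nd (nat_lit 106) (Tr.lf (Fc.ed (nat_lit 105) (nat_lit 19) Col.e (nat_lit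 46) Dv.df)) (Tr.lf (Fc.ed (nat_lit 106) (nat_lit 46) Col.f (nat_lit 45) (Dv.wd (nat_lit 27) [Mv.b (nat_lit 103), Mv.f (nat_lit 46), Mv.f (nat_lit 105)])))))) (Tr.nd (nat_lit 109) (Tr.nd (nat_lit 108) (Tr.lf (Fc.ed (nat_lit 107) (nat_lit 19) Col.d (nat_lit 47) Dv.df)) (Tr.lf (Fc.ed (nat_lit 108) (nat_lit 19) Col.a (nat_lit 48) Dv.df))) (Tr.nd (nat_lit 110) (Tr.lf (Fc.ed (nat_lit 109) (nat_lit 20) Col.d (nat_lit 49) Dv.df)) (Tr.nd (nat_lit 111) (Tr.lf (Fc.ed (nat_lit 110) (nat_lit 49) Col.b (nat_lit 47) (Dv.wd (nat_lit 28) [Mv.b (nat_lit 107), Mv.f (nat_lit 47), Mv.f (nat_lit 109)]))) (Tr.lf (Fc.ed (nat_lit 111) (nat_lit 21) Col.d (nat_lit 50) Dv.df)))))))) (Tr.nd (nat_lit 131) (Tr.nd (nat_lit 121) (Tr.nd (nat_lit 116) (Tr.nd (nat_lit 114) (Tr.nd (nat_lit 113) (Tr.lf (Fc.ed (nat_lit 112) (nat_lit 50)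 Col.a (nat_lit 49) (Dv.wd (nat_lit 30) [Mv.b (nat_lit 109), Mv.f (nat_lit 48), Mv.f (nat_lit 111)]))) (Tr.lf (Fc.ed (nat_lit 113) (nat_lit 22) Col.d (nat_lit 51) Dv.df))) (Tr.nd (nat_lit 115) (Tr.lf (Fc.ed (nat_lit 114) (nat_lit 23) Col.d (nat_lit 52) Dv.df)) (Tr.lf (Fc.ed (nat_lit 115) (nat_lit 52) Col.a (nat_lit 51) (Dv.wd (nat_lit 30) [Mv.b (nat_lit 113), Mv.b (nat_lit 51), Mv.f (nat_lit 114)]))))) (Tr.nd (nat_lit 118) (Tr.nd (nat_lit 117) (Tr.lf (Fc.ed (nat_lit 116) (nat_lit 52) Col.f (nat_lit 51) (Dv.wd (nat_lit 10) [Mv.b (nat_lit 113), Mv.b (nat_lit 53), Mv.f (nat_lit 114)]))) (Tr.lf (Fc.ed (nat_lit 117) (nat_lit 27) Col.e (nat_lit 53) Dv.df))) (Tr.nd (nat_lit 119) (Tr.lf (Fc.ed (nat_lit 118) (nat_lit 53) Col.d (nat_lit 42) (Dv.wd (nat_lit 32) [Mv.b (nat_lit 96), Mv.b (nat_lit 44), Mv.b (nat_lit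 42), Mv.f (nat_lit 63), Mv.f (nat_lit 117)]))) (Tr.nd (nat_lit 120) (Tr.lf (Fc.ed (nat_lit 119) (nat_lit 28) Col.f (nat_lit 54) Dv.df)) (Tr.lf (Fc.ed (nat_lit 120) (nat_lit 54) Col.a (nat_lit 41) (Dv.wd (nat_lit 37) [Mv.b (nat_lit 93), Mv.b (nat_lit 66), Mv.f (nat_lit 119)]))))))) (Tr.nd (nat_lit 126) (Tr.nd (nat_lit 123) (Tr.nd (nat_lit 122) (Tr.lf (Fc.ed (nat_lit 121) (nat_lit 30) Col.a (nat_lit 55) Dv.df)) (Tr.lf (Fc.ed (nat_lit 122) (nat_lit 55) Col.b (nat_lit 33) (Dv.wd (nat_lit 38) [Mv.b (nat_lit 75), Mv.b (nat_lit 15), Mv.b (nat_lit 14), Mv.b (nat_lit 13), Mv.f (nat_lit 57), Mv.b (nat_lit 64), Mv.b (nat_lit 68), Mv.b (nat_lit 70), Mv.f (nat_lit 121)])))) (Tr.nd (nat_lit 124) (Tr.lf (Fc.ed (nat_lit 123) (nat_lit 30) Col.e (nat_lit 56) Dv.df)) (Tr.nd (nat_lit 125) (Tr.lf (Fc.ed (nat_lit 124)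 (nat_lit 32) Col.a (nat_lit 57) Dv.df)) (Tr.lf (Fc.ed (nat_lit 125) (nat_lit 57) Col.c (nat_lit 33) (Dv.wd (nat_lit 24) [Mv.b (nat_lit 75), Mv.f (nat_lit 73), Mv.f (nat_lit 124)])))))) (Tr.nd (nat_lit 128) (Tr.nd (nat_lit 127) (Tr.lf (Fc.ed (nat_lit 126) (nat_lit 57) Col.d (nat_lit 40) (Dv.wd (nat_lit 18) [Mv.f (nat_lit 91), Mv.f (nat_lit 88), Mv.f (nat_lit 124)]))) (Tr.lf (Fc.ed (nat_lit 127) (nat_lit 51) Col.b (nat_lit 57) (Dv.wd (nat_lit 20) [Mv.f (nat_lit 126), Mv.f (nat_lit 90), Mv.f (nat_lit 113)])))) (Tr.nd (nat_lit 129) (Tr.lf (Fc.ed (nat_lit 128) (nat_lit 34) Col.e (nat_lit 58) Dv.df)) (Tr.nd (nat_lit 130) (Tr.lf (Fc.ed (nat_lit 129) (nat_lit 58) Col.b (nat_lit 37) (Dv.wd (nat_lit 26) [Mv.b (nat_lit 82), Mv.f (nat_lit 76), Mv.f (nat_lit 128)]))) (Tr.lf (Fc.ed (nat_lit 130) (nat_lit 58) Col.c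 (nat_lit 53) (Dv.wd (nat_lit 22) [Mv.b (nat_lit 117), Mv.b (nat_lit 77), Mv.f (nat_lit 128)])))))))) (Tr.nd (nat_lit 140) (Tr.nd (nat_lit 135) (Tr.nd (nat_lit 133) (Tr.nd (nat_lit 132) (Tr.lf (Fc.ed (nat_lit 131) (nat_lit 35) Col.e (nat_lit 59) Dv.df)) (Tr.lf (Fc.ed (nat_lit 132) (nat_lit 59) Col.c (nat_lit 56) (Dv.wd (nat_lit 22) [Mv.b (nat_lit 123), Mv.b (nat_lit 92), Mv.f (nat_lit 131)])))) (Tr.nd (nat_lit 134) (Tr.lf (Fc.ed (nat_lit 133) (nat_lit 59) Col.f (nat_lit 56) (Dv.wd (nat_lit 27) [Mv.b (nat_lit 123), Mv.b (nat_lit 79), Mv.f (nat_lit 131)]))) (Tr.lf (Fc.ed (nat_lit 134) (nat_lit 35) Col.a (nat_lit 60) Dv.df)))) (Tr.nd (nat_lit 137) (Tr.nd (nat_lit 136) (Tr.lf (Fc.ed (nat_lit 135) (nat_lit 60) Col.c (nat_lit 55) (Dv.wd (nat_lit 24) [Mv.b (nat_lit 121), Mv.b (nat_lit 92), Mv.f (nat_lit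 134)]))) (Tr.lf (Fc.ed (nat_lit 136) (nat_lit 60) Col.f (nat_lit 55) (Dv.wd (nat_lit 9) [Mv.b (nat_lit 121), Mv.b (nat_lit 79), Mv.f (nat_lit 134)])))) (Tr.nd (nat_lit 138) (Tr.lf (Fc.ed (nat_lit 137) (nat_lit 36) Col.b (nat_lit 61) Dv.df)) (Tr.nd (nat_lit 139) (Tr.lf (Fc.ed (nat_lit 138) (nat_lit 36) Col.e (nat_lit 62) Dv.df)) (Tr.lf (Fc.ed (nat_lit 139) (nat_lit 62) Col.a (nat_lit 37) (Dv.wd (nat_lit 29) [Mv.b (nat_lit 82), Mv.f (nat_lit 80), Mv.f (nat_lit 138)]))))))) (Tr.nd (nat_lit 145) (Tr.nd (nat_lit 142) (Tr.nd (nat_lit 141) (Tr.lf (Fc.ed (nat_lit 140) (nat_lit 37) Col.d (nat_lit 63) Dv.df)) (Tr.lf (Fc.ed (nat_lit 141) (nat_lit 42) Col.f (nat_lit 64) Dv.df))) (Tr.nd (nat_lit 143) (Tr.lf (Fc.ed (nat_lit 142) (nat_lit 64) Col.c (nat_lit 46) (Dv.wd (nat_lit 11) [Mv.f (nat_lit 106), Mv.f (nat_lit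 104), Mv.f (nat_lit 141)]))) (Tr.nd (nat_lit 144) (Tr.lf (Fc.ed (nat_lit 143) (nat_lit 43) Col.a (nat_lit 65) Dv.df)) (Tr.lf (Fc.ed (nat_lit 144) (nat_lit 65) Col.c (nat_lit 48) (Dv.wd (nat_lit 24) [Mv.b (nat_lit 108), Mv.b (nat_lit 98), Mv.f (nat_lit 143)])))))) (Tr.nd (nat_lit 147) (Tr.nd (nat_lit 146) (Tr.lf (Fc.ed (nat_lit 145) (nat_lit 65) Col.d (nat_lit 54) (Dv.wd (nat_lit 18) [Mv.f (nat_lit 120), Mv.b (nat_lit 99), Mv.f (nat_lit 143)]))) (Tr.lf (Fc.ed (nat_lit 146) (nat_lit 44) Col.e (nat_lit 66) Dv.df))) (Tr.nd (nat_lit 148) (Tr.lf (Fc.ed (nat_lit 147) (nat_lit 66) Col.a (nat_lit 45) (Dv.wd (nat_lit 29) [Mv.b (nat_lit 103), Mv.f (nat_lit 102), Mv.f (nat_lit 146)]))) (Tr.nd (nat_lit 149) (Tr.lf (Fc.ed (nat_lit 148) (nat_lit 45) Col.d (nat_lit 67) Dv.df)) (Tr.lf (Fc.ed (nat_lit 149) (nat_lit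 46) Col.a (nat_lit 68) Dv.df)))))))))) (Tr.nd (nat_lit 225) (Tr.nd (nat_lit 187) (Tr.nd (nat_lit 168) (Tr.nd (nat_lit 159) (Tr.nd (nat_lit 154) (Tr.nd (nat_lit 152) (Tr.nd (nat_lit 151) (Tr.lf (Fc.ed (nat_lit 150) (nat_lit 68) Col.f (nat_lit 66) (Dv.wd (nat_lit 9) [Mv.f (nat_lit 147), Mv.b (nat_lit 106), Mv.f (nat_lit 149)]))) (Tr.lf (Fc.ed (nat_lit 151) (nat_lit 46) Col.d (nat_lit 69) Dv.df))) (Tr.nd (nat_lit 153) (Tr.lf (Fc.ed (nat_lit 152) (nat_lit 47) Col.a (nat_lit 70) Dv.df)) (Tr.lf (Fc.ed (nat_lit 153) (nat_lit 70) Col.d (nat_lit 48) (Dv.wd (nat_lit 18) [Mv.b (nat_lit 108), Mv.f (nat_lit 107), Mv.f (nat_lit 152)]))))) (Tr.nd (nat_lit 156) (Tr.nd (nat_lit 155) (Tr.lf (Fc.ed (nat_lit 154) (nat_lit 70) Col.c (nat_lit 47) (Dv.wd (nat_lit 39) [Mv.b (nat_lit 107), Mv.b (nat_lit 98), Mv.f (nat_lit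 99), Mv.f (nat_lit 94), Mv.b (nat_lit 99), Mv.f (nat_lit 98), Mv.f (nat_lit 107), Mv.f (nat_lit 152)]))) (Tr.lf (Fc.ed (nat_lit 155) (nat_lit 48) Col.b (nat_lit 71) Dv.df))) (Tr.nd (nat_lit 157) (Tr.lf (Fc.ed (nat_lit 156) (nat_lit 49) Col.c (nat_lit 72) Dv.df)) (Tr.nd (nat_lit 158) (Tr.lf (Fc.ed (nat_lit 157) (nat_lit 50) Col.c (nat_lit 73) Dv.df)) (Tr.lf (Fc.ed (nat_lit 158) (nat_lit 51) Col.c (nat_lit 74) Dv.df)))))) (Tr.nd (nat_lit 163) (Tr.nd (nat_lit 161) (Tr.nd (nat_lit 160) (Tr.lf (Fc.ed (nat_lit 159) (nat_lit 74) Col.b (nat_lit 60) (Dv.wd (nat_lit 33) [Mv.f (nat_lit 135), Mv.f (nat_lit 122), Mv.b (nat_lit 125), Mv.b (nat_lit 127), Mv.f (nat_lit 158)]))) (Tr.lf (Fc.ed (nat_lit 160) (nat_lit 61) Col.f (nat_lit 74) (Dv.wd (nat_lit 40) [Mv.f (nat_lit 159), Mv.f (nat_lit 136), Mv.f (nat_lit 122),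 Mv.b (nat_lit 81), Mv.f (nat_lit 137)])))) (Tr.nd (nat_lit 162) (Tr.lf (Fc.ed (nat_lit 161) (nat_lit 52) Col.c (nat_lit 61) (Dv.wd (nat_lit 41) [Mv.f (nat_lit 160), Mv.b (nat_lit 158), Mv.b (nat_lit 116)]))) (Tr.lf (Fc.ed (nat_lit 162) (nat_lit 61) Col.a (nat_lit 74) (Dv.wd (nat_lit 23) [Mv.b (nat_lit 158), Mv.b (nat_lit 115), Mv.f (nat_lit 161)]))))) (Tr.nd (nat_lit 165) (Tr.nd (nat_lit 164) (Tr.lf (Fc.ed (nat_lit 163) (nat_lit 52) Col.e (nat_lit 75) Dv.df)) (Tr.lf (Fc.ed (nat_lit 164) (nat_lit 75) Col.d (nat_lit 75) (Dv.wd (nat_lit 32) [Mv.b (nat_lit 163), Mv.b (nat_lit 114), Mv.f (nat_lit 52), Mv.f (nat_lit 114), Mv.f (nat_lit 163)])))) (Tr.nd (nat_lit 166) (Tr.lf (Fc.ed (nat_lit 165) (nat_lit 53) Col.f (nat_lit 76) Dv.df)) (Tr.nd (nat_lit 167) (Tr.lf (Fc.ed (nat_lit 166) (nat_lit 76) Col.d (nat_lit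 64) (Dv.wd (nat_lit 12) [Mv.b (nat_lit 141), Mv.b (nat_lit 118), Mv.f (nat_lit 165)]))) (Tr.lf (Fc.ed (nat_lit 167) (nat_lit 54) Col.b (nat_lit 77) Dv.df))))))) (Tr.nd (nat_lit 177) (Tr.nd (nat_lit 172) (Tr.nd (nat_lit 170) (Tr.nd (nat_lit 169) (Tr.lf (Fc.ed (nat_lit 168) (nat_lit 77) Col.f (nat_lit 58) (Dv.wd (nat_lit 7) [Mv.f (nat_lit 129), Mv.f (nat_lit 83), Mv.f (nat_lit 72), Mv.f (nat_lit 119), Mv.f (nat_lit 167)]))) (Tr.lf (Fc.ed (nat_lit 169) (nat_lit 76) Col.c (nat_lit 77) (Dv.wd (nat_lit 41) [Mv.f (nat_lit 168), Mv.f (nat_lit 130), Mv.f (nat_lit 165)])))) (Tr.nd (nat_lit 171) (Tr.lf (Fc.ed (nat_lit 170) (nat_lit 55) Col.e (nat_lit 78) Dv.df)) (Tr.lf (Fc.ed (nat_lit 171) (nat_lit 78) Col.a (nat_lit 56) (Dv.wd (nat_lit 29) [Mv.b (nat_lit 123), Mv.f (nat_lit 121), Mv.f (nat_lit 170)]))))) (Tr.nd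 (nat_lit 174) (Tr.nd (nat_lit 173) (Tr.lf (Fc.ed (nat_lit 172) (nat_lit 56) Col.d (nat_lit 79) Dv.df)) (Tr.lf (Fc.ed (nat_lit 173) (nat_lit 58) Col.d (nat_lit 80) Dv.df))) (Tr.nd (nat_lit 175) (Tr.lf (Fc.ed (nat_lit 174) (nat_lit 80) Col.b (nat_lit 63) (Dv.wd (nat_lit 28) [Mv.b (nat_lit 140), Mv.b (nat_lit 129), Mv.f (nat_lit 173)]))) (Tr.nd (nat_lit 176) (Tr.lf (Fc.ed (nat_lit 175) (nat_lit 59) Col.a (nat_lit 81) Dv.df)) (Tr.lf (Fc.ed (nat_lit 176) (nat_lit 81) Col.c (nat_lit 78) (Dv.wd (nat_lit 24) [Mv.f (nat_lit 171), Mv.b (nat_lit 132), Mv.f (nat_lit 175)]))))))) (Tr.nd (nat_lit 182) (Tr.nd (nat_lit 179) (Tr.nd (nat_lit 178) (Tr.lf (Fc.ed (nat_lit 177) (nat_lit 81) Col.e (nat_lit 60) (Dv.wd (nat_lit 15) [Mv.b (nat_lit 134), Mv.f (nat_lit 131), Mv.f (nat_lit 175)]))) (Tr.lf (Fc.ed (nat_lit 178)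 (nat_lit 59) Col.d (nat_lit 82) Dv.df))) (Tr.nd (nat_lit 180) (Tr.lf (Fc.ed (nat_lit 179) (nat_lit 82) Col.f (nat_lit 79) (Dv.wd (nat_lit 10) [Mv.b (nat_lit 172), Mv.b (nat_lit 133), Mv.f (nat_lit 178)]))) (Tr.nd (nat_lit 181) (Tr.lf (Fc.ed (nat_lit 180) (nat_lit 61) Col.e (nat_lit 83) Dv.df)) (Tr.lf (Fc.ed (nat_lit 181) (nat_lit 83) Col.b (nat_lit 62) (Dv.wd (nat_lit 26) [Mv.b (nat_lit 138), Mv.f (nat_lit 137), Mv.f (nat_lit 180)])))))) (Tr.nd (nat_lit 184) (Tr.nd (nat_lit 183) (Tr.lf (Fc.ed (nat_lit 182) (nat_lit 83) Col.c (nat_lit 75) (Dv.wd (nat_lit 22) [Mv.b (nat_lit 163), Mv.f (nat_lit 161), Mv.f (nat_lit 180)]))) (Tr.lf (Fc.ed (nat_lit 183) (nat_lit 62) Col.d (nat_lit 84) Dv.df))) (Tr.nd (nat_lit 185) (Tr.lf (Fc.ed (nat_lit 184) (nat_lit 84) Col.a (nat_lit 63) (Dv.wd (nat_lit 30) [Mv.b (nat_lit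 140), Mv.b (nat_lit 139), Mv.f (nat_lit 183)]))) (Tr.nd (nat_lit 186) (Tr.lf (Fc.ed (nat_lit 185) (nat_lit 63) Col.c (nat_lit 85) Dv.df)) (Tr.lf (Fc.ed (nat_lit 186) (nat_lit 65) Col.b (nat_lit 86) Dv.df)))))))) (Tr.nd (nat_lit 206) (Tr.nd (nat_lit 196) (Tr.nd (nat_lit 191) (Tr.nd (nat_lit 189) (Tr.nd (nat_lit 188) (Tr.lf (Fc.ed (nat_lit 187) (nat_lit 86) Col.d (nat_lit 77) (Dv.wd (nat_lit 17) [Mv.b (nat_lit 167), Mv.b (nat_lit 145), Mv.f (nat_lit 186)]))) (Tr.lf (Fc.ed (nat_lit 188) (nat_lit 66) Col.d (nat_lit 87) Dv.df))) (Tr.nd (nat_lit 190) (Tr.lf (Fc.ed (nat_lit 189) (nat_lit 87) Col.a (nat_lit 67) (Dv.wd (nat_lit 30) [Mv.b (nat_lit 148), Mv.b (nat_lit 147), Mv.f (nat_lit 188)]))) (Tr.lf (Fc.ed (nat_lit 190) (nat_lit 68) Col.d (nat_lit 88) Dv.df)))) (Tr.nd (nat_lit 193) (Tr.nd (nat_lit 192)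 (Tr.lf (Fc.ed (nat_lit 191) (nat_lit 88) Col.a (nat_lit 69) (Dv.wd (nat_lit 30) [Mv.b (nat_lit 151), Mv.f (nat_lit 149), Mv.f (nat_lit 190)]))) (Tr.lf (Fc.ed (nat_lit 192) (nat_lit 88) Col.f (nat_lit 87) (Dv.wd (nat_lit 10) [Mv.b (nat_lit 188), Mv.b (nat_lit 150), Mv.f (nat_lit 190)])))) (Tr.nd (nat_lit 194) (Tr.lf (Fc.ed (nat_lit 193) (nat_lit 70) Col.b (nat_lit 89) Dv.df)) (Tr.nd (nat_lit 195) (Tr.lf (Fc.ed (nat_lit 194) (nat_lit 89) Col.d (nat_lit 71) (Dv.wd (nat_lit 17) [Mv.b (nat_lit 155), Mv.b (nat_lit 153), Mv.f (nat_lit 193)]))) (Tr.lf (Fc.ed (nat_lit 195) (nat_lit 71) Col.c (nat_lit 90) Dv.df)))))) (Tr.nd (nat_lit 201) (Tr.nd (nat_lit 198) (Tr.nd (nat_lit 197) (Tr.lf (Fc.ed (nat_lit 196) (nat_lit 72) Col.b (nat_lit 91) Dv.df)) (Tr.lf (Fc.ed (nat_lit 197) (nat_lit 91) Col.c (nat_lit 89) (Dv.wd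 (nat_lit 31) [Mv.b (nat_lit 193), Mv.f (nat_lit 154), Mv.b (nat_lit 110), Mv.f (nat_lit 156), Mv.f (nat_lit 196)])))) (Tr.nd (nat_lit 199) (Tr.lf (Fc.ed (nat_lit 198) (nat_lit 72) Col.d (nat_lit 92) Dv.df)) (Tr.nd (nat_lit 200) (Tr.lf (Fc.ed (nat_lit 199) (nat_lit 73) Col.d (nat_lit 93) Dv.df)) (Tr.lf (Fc.ed (nat_lit 200) (nat_lit 93) Col.c (nat_lit 92) (Dv.wd (nat_lit 42) [Mv.b (nat_lit 198), Mv.b (nat_lit 156), Mv.b (nat_lit 109), Mv.f (nat_lit 101), Mv.f (nat_lit 109), Mv.b (nat_lit 112), Mv.f (nat_lit 157), Mv.f (nat_lit 199)])))))) (Tr.nd (nat_lit 203) (Tr.nd (nat_lit 202) (Tr.lf (Fc.ed (nat_lit 201) (nat_lit 74) Col.e (nat_lit 94) Dv.df)) (Tr.lf (Fc.ed (nat_lit 202) (nat_lit 94) Col.a (nat_lit 83) (Dv.wd (nat_lit 29) [Mv.b (nat_lit 180), Mv.f (nat_lit 162), Mv.f (nat_lit 201)])))) (Tr.nd (nat_lit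 204) (Tr.lf (Fc.ed (nat_lit 203) (nat_lit 94) Col.b (nat_lit 81) (Dv.wd (nat_lit 26) [Mv.f (nat_lit 177), Mv.b (nat_lit 159), Mv.f (nat_lit 201)]))) (Tr.nd (nat_lit 205) (Tr.lf (Fc.ed (nat_lit 204) (nat_lit 78) Col.d (nat_lit 95) Dv.df)) (Tr.lf (Fc.ed (nat_lit 205) (nat_lit 95) Col.a (nat_lit 79) (Dv.wd (nat_lit 30) [Mv.b (nat_lit 172), Mv.b (nat_lit 171), Mv.f (nat_lit 204)])))))))) (Tr.nd (nat_lit 215) (Tr.nd (nat_lit 210) (Tr.nd (nat_lit 208) (Tr.nd (nat_lit 207) (Tr.lf (Fc.ed (nat_lit 206) (nat_lit 79) Col.c (nat_lit 96) Dv.df)) (Tr.lf (Fc.ed (nat_lit 207) (nat_lit 80) Col.c (nat_lit 97) Dv.df))) (Tr.nd (nat_lit 209) (Tr.lf (Fc.ed (nat_lit 208) (nat_lit 81) Col.d (nat_lit 98) Dv.df)) (Tr.lf (Fc.ed (nat_lit 209) (nat_lit 82) Col.c (nat_lit 99) Dv.df)))) (Tr.nd (nat_lit 212) (Tr.nd (nat_lit 211)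 (Tr.lf (Fc.ed (nat_lit 210) (nat_lit 99) Col.f (nat_lit 96) (Dv.wd (nat_lit 8) [Mv.b (nat_lit 206), Mv.b (nat_lit 179), Mv.f (nat_lit 209)]))) (Tr.lf (Fc.ed (nat_lit 211) (nat_lit 83) Col.d (nat_lit 100) Dv.df))) (Tr.nd (nat_lit 213) (Tr.lf (Fc.ed (nat_lit 212) (nat_lit 100) Col.b (nat_lit 84) (Dv.wd (nat_lit 28) [Mv.b (nat_lit 183), Mv.b (nat_lit 181), Mv.f (nat_lit 211)]))) (Tr.nd (nat_lit 214) (Tr.lf (Fc.ed (nat_lit 213) (nat_lit 84) Col.c (nat_lit 101) Dv.df)) (Tr.lf (Fc.ed (nat_lit 214) (nat_lit 101) Col.d (nat_lit 85) (Dv.wd (nat_lit 43) [Mv.b (nat_lit 185), Mv.b (nat_lit 140), Mv.b (nat_lit 85), Mv.f (nat_lit 86), Mv.f (nat_lit 85), Mv.f (nat_lit 140), Mv.b (nat_lit 184), Mv.f (nat_lit 213)]))))))) (Tr.nd (nat_lit 220) (Tr.nd (nat_lit 217) (Tr.nd (nat_lit 216) (Tr.lf (Fc.ed (nat_lit 215) (nat_lit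 85) Col.b (nat_lit 102) Dv.df)) (Tr.lf (Fc.ed (nat_lit 216) (nat_lit 86) Col.c (nat_lit 103) Dv.df))) (Tr.nd (nat_lit 218) (Tr.lf (Fc.ed (nat_lit 217) (nat_lit 103) Col.b (nat_lit 90) (Dv.wd (nat_lit 33) [Mv.b (nat_lit 195), Mv.b (nat_lit 155), Mv.b (nat_lit 144), Mv.f (nat_lit 186), Mv.f (nat_lit 216)]))) (Tr.nd (nat_lit 219) (Tr.lf (Fc.ed (nat_lit 218) (nat_lit 87) Col.b (nat_lit 104) Dv.df)) (Tr.lf (Fc.ed (nat_lit 219) (nat_lit 87) Col.c (nat_lit 105) Dv.df))))) (Tr.nd (nat_lit 222) (Tr.nd (nat_lit 221) (Tr.lf (Fc.ed (nat_lit 220) (nat_lit 105) Col.d (nat_lit 97) (Dv.wd (nat_lit 43) [Mv.b (nat_lit 207), Mv.b (nat_lit 173), Mv.f (nat_lit 130), Mv.f (nat_lit 118), Mv.b (nat_lit 104), Mv.f (nat_lit 148), Mv.b (nat_lit 189), Mv.f (nat_lit 219)]))) (Tr.lf (Fc.ed (nat_lit 221) (nat_lit 88) Col.c (nat_lit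 106) Dv.df))) (Tr.nd (nat_lit 223) (Tr.lf (Fc.ed (nat_lit 222) (nat_lit 106) Col.f (nat_lit 105) (Dv.wd (nat_lit 8) [Mv.b (nat_lit 219), Mv.b (nat_lit 192), Mv.f (nat_lit 221)]))) (Tr.nd (nat_lit 224) (Tr.lf (Fc.ed (nat_lit 223) (nat_lit 106) Col.d (nat_lit 103) (Dv.wd (nat_lit 43) [Mv.b (nat_lit 216), Mv.f (nat_lit 187), Mv.b (nat_lit 169), Mv.f (nat_lit 166), Mv.f (nat_lit 142), Mv.f (nat_lit 151), Mv.b (nat_lit 191), Mv.f (nat_lit 221)]))) (Tr.lf (Fc.ed (nat_lit 224) (nat_lit 90) Col.a (nat_lit 107) Dv.df))))))))) (Tr.nd (nat_lit 262) (Tr.nd (nat_lit 243) (Tr.nd (nat_lit 234) (Tr.nd (nat_lit 229) (Tr.nd (nat_lit 227) (Tr.nd (nat_lit 226) (Tr.lf (Fc.ed (nat_lit 225) (nat_lit 90) Col.f (nat_lit 108) Dv.df)) (Tr.lf (Fc.ed (nat_lit 226) (nat_lit 90) Col.d (nat_lit 109) Dv.df))) (Tr.nd (nat_lit 228)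 (Tr.lf (Fc.ed (nat_lit 227) (nat_lit 109) Col.b (nat_lit 106) (Dv.wd (nat_lit 28) [Mv.f (nat_lit 223), Mv.f (nat_lit 217), Mv.f (nat_lit 226)]))) (Tr.lf (Fc.ed (nat_lit 228) (nat_lit 91) Col.d (nat_lit 110) Dv.df)))) (Tr.nd (nat_lit 231) (Tr.nd (nat_lit 230) (Tr.lf (Fc.ed (nat_lit 229) (nat_lit 110) Col.b (nat_lit 92) (Dv.wd (nat_lit 28) [Mv.b (nat_lit 198), Mv.f (nat_lit 196), Mv.f (nat_lit 228)]))) (Tr.lf (Fc.ed (nat_lit 230) (nat_lit 93) Col.b (nat_lit 111) Dv.df))) (Tr.nd (nat_lit 232) (Tr.lf (Fc.ed (nat_lit 231) (nat_lit 94) Col.d (nat_lit 112) Dv.df)) (Tr.nd (nat_lit 233) (Tr.lf (Fc.ed (nat_lit 232) (nat_lit 112) Col.a (nat_lit 100) (Dv.wd (nat_lit 30) [Mv.b (nat_lit 211), Mv.b (nat_lit 202), Mv.f (nat_lit 231)]))) (Tr.lf (Fc.ed (nat_lit 233) (nat_lit 112) Col.b (nat_lit 98) (Dv.wd (nat_lit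 28) [Mv.b (nat_lit 208), Mv.b (nat_lit 203), Mv.f (nat_lit 231)]))))))) (Tr.nd (nat_lit 238) (Tr.nd (nat_lit 236) (Tr.nd (nat_lit 235) (Tr.lf (Fc.ed (nat_lit 234) (nat_lit 95) Col.c (nat_lit 113) Dv.df)) (Tr.lf (Fc.ed (nat_lit 235) (nat_lit 113) Col.a (nat_lit 96) (Dv.wd (nat_lit 23) [Mv.b (nat_lit 206), Mv.b (nat_lit 205), Mv.f (nat_lit 234)])))) (Tr.nd (nat_lit 237) (Tr.lf (Fc.ed (nat_lit 236) (nat_lit 96) Col.d (nat_lit 114) Dv.df)) (Tr.lf (Fc.ed (nat_lit 237) (nat_lit 97) Col.b (nat_lit 115) Dv.df)))) (Tr.nd (nat_lit 240) (Tr.nd (nat_lit 239) (Tr.lf (Fc.ed (nat_lit 238) (nat_lit 115) Col.c (nat_lit 102) (Dv.wd (nat_lit 31) [Mv.b (nat_lit 215), Mv.b (nat_lit 185), Mv.b (nat_lit 174), Mv.f (nat_lit 207), Mv.f (nat_lit 237)]))) (Tr.lf (Fc.ed (nat_lit 239) (nat_lit 98) Col.c (nat_lit 116) Dv.df)))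 (Tr.nd (nat_lit 241) (Tr.lf (Fc.ed (nat_lit 240) (nat_lit 99) Col.d (nat_lit 117) Dv.df)) (Tr.nd (nat_lit 242) (Tr.lf (Fc.ed (nat_lit 241) (nat_lit 117) Col.f (nat_lit 114) (Dv.wd (nat_lit 10) [Mv.b (nat_lit 236), Mv.b (nat_lit 210), Mv.f (nat_lit 240)]))) (Tr.lf (Fc.ed (nat_lit 242) (nat_lit 100) Col.c (nat_lit 118) Dv.df))))))) (Tr.nd (nat_lit 252) (Tr.nd (nat_lit 247) (Tr.nd (nat_lit 245) (Tr.nd (nat_lit 244) (Tr.lf (Fc.ed (nat_lit 243) (nat_lit 101) Col.b (nat_lit 119) Dv.df)) (Tr.lf (Fc.ed (nat_lit 244) (nat_lit 119) Col.d (nat_lit 102) (Dv.wd (nat_lit 17) [Mv.b (nat_lit 215), Mv.b (nat_lit 214), Mv.f (nat_lit 243)])))) (Tr.nd (nat_lit 246) (Tr.lf (Fc.ed (nat_lit 245) (nat_lit 104) Col.c (nat_lit 120) Dv.df)) (Tr.lf (Fc.ed (nat_lit 246) (nat_lit 105) Col.b (nat_lit 121) Dv.df)))) (Tr.nd (nat_lit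 249) (Tr.nd (nat_lit 248) (Tr.lf (Fc.ed (nat_lit 247) (nat_lit 121) Col.d (nat_lit 115) (Dv.wd (nat_lit 17) [Mv.b (nat_lit 237), Mv.b (nat_lit 220), Mv.f (nat_lit 246)]))) (Tr.lf (Fc.ed (nat_lit 248) (nat_lit 107) Col.d (nat_lit 122) Dv.df))) (Tr.nd (nat_lit 250) (Tr.lf (Fc.ed (nat_lit 249) (nat_lit 122) Col.a (nat_lit 109) (Dv.wd (nat_lit 30) [Mv.b (nat_lit 226), Mv.f (nat_lit 224), Mv.f (nat_lit 248)]))) (Tr.nd (nat_lit 251) (Tr.lf (Fc.ed (nat_lit 250) (nat_lit 108) Col.d (nat_lit 123) Dv.df)) (Tr.lf (Fc.ed (nat_lit 251) (nat_lit 123) Col.f (nat_lit 109) (Dv.wd (nat_lit 10) [Mv.b (nat_lit 226), Mv.f (nat_lit 225), Mv.f (nat_lit 250)]))))))) (Tr.nd (nat_lit 257) (Tr.nd (nat_lit 254) (Tr.nd (nat_lit 253) (Tr.lf (Fc.ed (nat_lit 252) (nat_lit 109) Col.c (nat_lit 124) Dv.df)) (Tr.lf (Fc.ed (nat_lit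 253) (nat_lit 110) Col.c (nat_lit 125) Dv.df))) (Tr.nd (nat_lit 255) (Tr.lf (Fc.ed (nat_lit 254) (nat_lit 111) Col.c (nat_lit 126) Dv.df)) (Tr.nd (nat_lit 256) (Tr.lf (Fc.ed (nat_lit 255) (nat_lit 126) Col.b (nat_lit 125) (Dv.wd (nat_lit 33) [Mv.b (nat_lit 253), Mv.f (nat_lit 229), Mv.b (nat_lit 200), Mv.f (nat_lit 230), Mv.f (nat_lit 254)]))) (Tr.lf (Fc.ed (nat_lit 256) (nat_lit 112) Col.c (nat_lit 127) Dv.df))))) (Tr.nd (nat_lit 259) (Tr.nd (nat_lit 258) (Tr.lf (Fc.ed (nat_lit 257) (nat_lit 127) Col.d (nat_lit 118) (Dv.wd (nat_lit 43) [Mv.b (nat_lit 242), Mv.b (nat_lit 211), Mv.f (nat_lit 182), Mv.f (nat_lit 164), Mv.b (nat_lit 182), Mv.f (nat_lit 211), Mv.b (nat_lit 232), Mv.f (nat_lit 256)]))) (Tr.lf (Fc.ed (nat_lit 258) (nat_lit 113) Col.d (nat_lit 128) Dv.df))) (Tr.nd (nat_lit 260) (Tr.lf (Fc.ed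 (nat_lit 259) (nat_lit 128) Col.a (nat_lit 114) (Dv.wd (nat_lit 30) [Mv.b (nat_lit 236), Mv.b (nat_lit 235), Mv.f (nat_lit 258)]))) (Tr.nd (nat_lit 261) (Tr.lf (Fc.ed (nat_lit 260) (nat_lit 128) Col.c (nat_lit 117) (Dv.wd (nat_lit 42) [Mv.b (nat_lit 240), Mv.b (nat_lit 209), Mv.b (nat_lit 178), Mv.f (nat_lit 132), Mv.f (nat_lit 172), Mv.b (nat_lit 205), Mv.f (nat_lit 234), Mv.f (nat_lit 258)]))) (Tr.lf (Fc.ed (nat_lit 261) (nat_lit 114) Col.c (nat_lit 129) Dv.df)))))))) (Tr.nd (nat_lit 281) (Tr.nd (nat_lit 271) (Tr.nd (nat_lit 266) (Tr.nd (nat_lit 264) (Tr.nd (nat_lit 263) (Tr.lf (Fc.ed (nat_lit 262) (nat_lit 129) Col.a (nat_lit 117) (Dv.wd (nat_lit 23) [Mv.b (nat_lit 260), Mv.f (nat_lit 259), Mv.f (nat_lit 261)]))) (Tr.lf (Fc.ed (nat_lit 263) (nat_lit 129) Col.d (nat_lit 116) (Dv.wd (nat_lit 43)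 [Mv.b (nat_lit 239), Mv.b (nat_lit 208), Mv.f (nat_lit 176), Mv.f (nat_lit 204), Mv.f (nat_lit 234), Mv.f (nat_lit 258), Mv.f (nat_lit 259), Mv.f (nat_lit 261)])))) (Tr.nd (nat_lit 265) (Tr.lf (Fc.ed (nat_lit 264) (nat_lit 116) Col.b (nat_lit 130) Dv.df)) (Tr.lf (Fc.ed (nat_lit 265) (nat_lit 118) Col.b (nat_lit 131) Dv.df)))) (Tr.nd (nat_lit 268) (Tr.nd (nat_lit 267) (Tr.lf (Fc.ed (nat_lit 266) (nat_lit 131) Col.c (nat_lit 119) (Dv.wd (nat_lit 31) [Mv.b (nat_lit 243), Mv.b (nat_lit 213), Mv.b (nat_lit 212), Mv.f (nat_lit 242), Mv.f (nat_lit 265)]))) (Tr.lf (Fc.ed (nat_lit 267) (nat_lit 120) Col.b (nat_lit 132) Dv.df))) (Tr.nd (nat_lit 269) (Tr.lf (Fc.ed (nat_lit 268) (nat_lit 132) Col.c (nat_lit 121) (Dv.wd (nat_lit 31) [Mv.b (nat_lit 246), Mv.b (nat_lit 219), Mv.f (nat_lit 218), Mv.f (nat_lit 245),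 Mv.f (nat_lit 267)]))) (Tr.nd (nat_lit 270) (Tr.lf (Fc.ed (nat_lit 269) (nat_lit 121) Col.f (nat_lit 133) Dv.df)) (Tr.lf (Fc.ed (nat_lit 270) (nat_lit 133) Col.b (nat_lit 123) (Dv.wd (nat_lit 36) [Mv.f (nat_lit 251), Mv.f (nat_lit 227), Mv.f (nat_lit 222), Mv.f (nat_lit 246), Mv.f (nat_lit 269)]))))))) (Tr.nd (nat_lit 276) (Tr.nd (nat_lit 273) (Tr.nd (nat_lit 272) (Tr.lf (Fc.ed (nat_lit 271) (nat_lit 121) Col.a (nat_lit 134) Dv.df)) (Tr.lf (Fc.ed (nat_lit 272) (nat_lit 122) Col.c (nat_lit 135) Dv.df))) (Tr.nd (nat_lit 274) (Tr.lf (Fc.ed (nat_lit 273) (nat_lit 135) Col.a (nat_lit 124) (Dv.wd (nat_lit 23) [Mv.b (nat_lit 252), Mv.b (nat_lit 249), Mv.f (nat_lit 272)]))) (Tr.nd (nat_lit 275) (Tr.lf (Fc.ed (nat_lit 274) (nat_lit 135) Col.d (nat_lit 125) (Dv.wd (nat_lit 43) [Mv.b (nat_lit 253), Mv.b (nat_lit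 228), Mv.f (nat_lit 197), Mv.f (nat_lit 194), Mv.f (nat_lit 195), Mv.f (nat_lit 226), Mv.b (nat_lit 249), Mv.f (nat_lit 272)]))) (Tr.lf (Fc.ed (nat_lit 275) (nat_lit 122) Col.f (nat_lit 136) Dv.df))))) (Tr.nd (nat_lit 278) (Tr.nd (nat_lit 277) (Tr.lf (Fc.ed (nat_lit 276) (nat_lit 136) Col.a (nat_lit 123) (Dv.wd (nat_lit 37) [Mv.f (nat_lit 251), Mv.b (nat_lit 249), Mv.f (nat_lit 275)]))) (Tr.lf (Fc.ed (nat_lit 277) (nat_lit 123) Col.c (nat_lit 137) Dv.df))) (Tr.nd (nat_lit 279) (Tr.lf (Fc.ed (nat_lit 278) (nat_lit 137) Col.f (nat_lit 124) (Dv.wd (nat_lit 8) [Mv.b (nat_lit 252), Mv.b (nat_lit 251), Mv.f (nat_lit 277)]))) (Tr.nd (nat_lit 280) (Tr.lf (Fc.ed (nat_lit 279) (nat_lit 126) Col.d (nat_lit 138) Dv.df)) (Tr.lf (Fc.ed (nat_lit 280) (nat_lit 138) Col.b (nat_lit 135) (Dv.wd (nat_lit 28) [Mv.f (nat_lit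 274), Mv.b (nat_lit 255), Mv.f (nat_lit 279)])))))))) (Tr.nd (nat_lit 290) (Tr.nd (nat_lit 285) (Tr.nd (nat_lit 283) (Tr.nd (nat_lit 282) (Tr.lf (Fc.ed (nat_lit 281) (nat_lit 127) Col.b (nat_lit 139) Dv.df)) (Tr.lf (Fc.ed (nat_lit 282) (nat_lit 139) Col.d (nat_lit 131) (Dv.wd (nat_lit 17) [Mv.b (nat_lit 265), Mv.b (nat_lit 257), Mv.f (nat_lit 281)])))) (Tr.nd (nat_lit 284) (Tr.lf (Fc.ed (nat_lit 283) (nat_lit 139) Col.c (nat_lit 130) (Dv.wd (nat_lit 31) [Mv.b (nat_lit 264), Mv.b (nat_lit 239), Mv.b (nat_lit 233), Mv.f (nat_lit 256), Mv.f (nat_lit 281)]))) (Tr.lf (Fc.ed (nat_lit 284) (nat_lit 129) Col.b (nat_lit 140) Dv.df)))) (Tr.nd (nat_lit 287) (Tr.nd (nat_lit 286) (Tr.lf (Fc.ed (nat_lit 285) (nat_lit 140) Col.d (nat_lit 130) (Dv.wd (nat_lit 17) [Mv.b (nat_lit 264), Mv.b (nat_lit 263), Mv.f (nat_lit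 284)]))) (Tr.lf (Fc.ed (nat_lit 286) (nat_lit 134) Col.c (nat_lit 140) (Dv.wd (nat_lit 39) [Mv.f (nat_lit 285), Mv.b (nat_lit 283), Mv.f (nat_lit 282), Mv.f (nat_lit 266), Mv.f (nat_lit 244), Mv.b (nat_lit 238), Mv.b (nat_lit 247), Mv.f (nat_lit 271)])))) (Tr.nd (nat_lit 288) (Tr.lf (Fc.ed (nat_lit 287) (nat_lit 132) Col.a (nat_lit 140) (Dv.wd (nat_lit 44) [Mv.f (nat_lit 285), Mv.b (nat_lit 283), Mv.f (nat_lit 282), Mv.f (nat_lit 266), Mv.f (nat_lit 244), Mv.b (nat_lit 238), Mv.b (nat_lit 247), Mv.b (nat_lit 268)]))) (Tr.nd (nat_lit 289) (Tr.lf (Fc.ed (nat_lit 288) (nat_lit 132) Col.f (nat_lit 141) Dv.df)) (Tr.lf (Fc.ed (nat_lit 289) (nat_lit 141) Col.c (nat_lit 133) (Dv.wd (nat_lit 11) [Mv.b (nat_lit 269), Mv.b (nat_lit 268), Mv.f (nat_lit 288)]))))))) (Tr.nd (nat_lit 295) (Tr.nd (nat_lit 292) (Tr.nd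 (nat_lit 291) (Tr.lf (Fc.ed (nat_lit 290) (nat_lit 133) Col.a (nat_lit 142) Dv.df)) (Tr.lf (Fc.ed (nat_lit 291) (nat_lit 142) Col.f (nat_lit 134) (Dv.wd (nat_lit 9) [Mv.b (nat_lit 271), Mv.f (nat_lit 269), Mv.f (nat_lit 290)])))) (Tr.nd (nat_lit 293) (Tr.lf (Fc.al (nat_lit 292) (nat_lit 138) (nat_lit 135) (Dv.wd (nat_lit 34) [Mv.f (nat_lit 273), Mv.b (nat_lit 278), Mv.b (nat_lit 277), Mv.b (nat_lit 270), Mv.f (nat_lit 290), Mv.f (nat_lit 291), Mv.f (nat_lit 286), Mv.b (nat_lit 284), Mv.f (nat_lit 262), Mv.f (nat_lit 241), Mv.f (nat_lit 261), Mv.f (nat_lit 284), Mv.b (nat_lit 287), Mv.f (nat_lit 288), Mv.f (nat_lit 289), Mv.f (nat_lit 270), Mv.b (nat_lit 276), Mv.b (nat_lit 275), Mv.f (nat_lit 272), Mv.b (nat_lit 280)]))) (Tr.nd (nat_lit 294) (Tr.lf (Fc.al (nat_lit 293) (nat_lit 125) (nat_lit 126)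 (Dv.wd (nat_lit 45) [Mv.f (nat_lit 279), Mv.f (nat_lit 292), Mv.f (nat_lit 274)]))) (Tr.lf (Fc.al (nat_lit 294) (nat_lit 110) (nat_lit 111) (Dv.wd (nat_lit 46) [Mv.f (nat_lit 254), Mv.b (nat_lit 293), Mv.b (nat_lit 253)])))))) (Tr.nd (nat_lit 297) (Tr.nd (nat_lit 296) (Tr.lf (Fc.al (nat_lit 295) (nat_lit 92) (nat_lit 93) (Dv.wd (nat_lit 47) [Mv.f (nat_lit 230), Mv.b (nat_lit 294), Mv.f (nat_lit 229)]))) (Tr.lf (Fc.al (nat_lit 296) (nat_lit 72) (nat_lit 73) (Dv.wd (nat_lit 45) [Mv.f (nat_lit 199), Mv.b (nat_lit 295), Mv.b (nat_lit 198)])))) (Tr.nd (nat_lit 298) (Tr.lf (Fc.al (nat_lit 297) (nat_lit 49) (nat_lit 50) (Dv.wd (nat_lit 46) [Mv.f (nat_lit 157), Mv.b (nat_lit 296), Mv.b (nat_lit 156)]))) (Tr.nd (nat_lit 299) (Tr.lf (Fc.al (nat_lit 298) (nat_lit 20) (nat_lit 21) (Dv.wd (nat_lit 45) [Mv.f (nat_lit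 111), Mv.b (nat_lit 297), Mv.b (nat_lit 109)]))) (Tr.lf (Fc.ed (nat_lit 299) (nat_lit 20) Col.a (nat_lit 20) (Dv.wd (nat_lit 48) [Mv.f (nat_lit 48), Mv.b (nat_lit 298)]))))))))))))
noncomputable def mini2A : Tr (Alt Col) := (Tr.nd (nat_lit 24) (Tr.nd (nat_lit 12) (Tr.nd (nat_lit 6) (Tr.nd (nat_lit 3) (Tr.nd (nat_lit 1) (Tr.lf (Alt.base (nat_lit 1) [] [Col.b])) (Tr.nd (nat_lit 2) (Tr.lf (Alt.base (nat_lit 2) [] [Col.c])) (Tr.lf (Alt.base (nat_lit 3) [] [Col.d])))) (Tr.nd (nat_lit 4) (Tr.lf (Alt.base (nat_lit 4) [] [Col.e])) (Tr.nd (nat_lit 5) (Tr.lf (Alt.base (nat_lit 5) [Col.f, Col.b, Col.a, Col.b, Col.f] [Col.a, Col.b, Col.a, Col.b, Col.f])) (Tr.lf (Alt.base (nat_lit 6) [Col.f, Col.b, Col.c, Col.d, Col.c, Col.b, Col.a, Col.b, Col.f, Col.c, Col.d, Col.b] [Col.c, Col.a, Col.b, Col.f]))))) (Tr.nd (nat_lit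 9) (Tr.nd (nat_lit 7) (Tr.lf (Alt.word (nat_lit 2) (nat_lit 3) true [Col.a, Col.c, Col.a, Col.c])) (Tr.nd (nat_lit 8) (Tr.lf (Alt.word (nat_lit 10) (nat_lit 2) true [Col.f, Col.b, Col.f, Col.b, Col.f, Col.b])) (Tr.lf (Alt.word (nat_lit 14) (nat_lit 2) true [Col.f, Col.c, Col.f, Col.c])))) (Tr.nd (nat_lit 10) (Tr.lf (Alt.word (nat_lit 5) (nat_lit 2) true [Col.f, Col.a, Col.f, Col.a])) (Tr.nd (nat_lit 11) (Tr.lf (Alt.word (nat_lit 17) (nat_lit 2) true [Col.f, Col.d, Col.f, Col.d])) (Tr.lf (Alt.word (nat_lit 14) (nat_lit 1) true [Col.c, Col.f, Col.c, Col.f])))))) (Tr.nd (nat_lit 18) (Tr.nd (nat_lit 15) (Tr.nd (nat_lit 13) (Tr.lf (Alt.word (nat_lit 17) (nat_lit 1) true [Col.d, Col.f, Col.d, Col.f])) (Tr.nd (nat_lit 14) (Tr.lf (Alt.word (nat_lit 19) (nat_lit 1) true [Col.e, Col.f, Col.e, Col.f])) (Tr.lf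 (Alt.word (nat_lit 9) (nat_lit 2) true [Col.e, Col.b, Col.e, Col.b])))) (Tr.nd (nat_lit 16) (Tr.lf (Alt.word (nat_lit 4) (nat_lit 2) true [Col.e, Col.a, Col.e, Col.a])) (Tr.nd (nat_lit 17) (Tr.lf (Alt.word (nat_lit 13) (nat_lit 2) true [Col.e, Col.c, Col.e, Col.c])) (Tr.lf (Alt.word (nat_lit 8) (nat_lit 2) true [Col.d, Col.b, Col.d, Col.b]))))) (Tr.nd (nat_lit 21) (Tr.nd (nat_lit 19) (Tr.lf (Alt.word (nat_lit 3) (nat_lit 2) true [Col.d, Col.a, Col.d, Col.a])) (Tr.nd (nat_lit 20) (Tr.lf (Alt.word (nat_lit 7) (nat_lit 3) true [Col.b, Col.c, Col.b, Col.c, Col.b, Col.c])) (Tr.lf (Alt.word (nat_lit 8) (nat_lit 3) true [Col.b, Col.d, Col.b, Col.d])))) (Tr.nd (nat_lit 22) (Tr.lf (Alt.word (nat_lit 7) (nat_lit 4) true [Col.c, Col.b, Col.c, Col.b, Col.c, Col.b])) (Tr.nd (nat_lit 23) (Tr.lf (Alt.word (nat_lit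 13) (nat_lit 1) true [Col.c, Col.e, Col.c, Col.e])) (Tr.lf (Alt.word (nat_lit 2) (nat_lit 1) true [Col.a, Col.c, Col.a, Col.c]))))))) (Tr.nd (nat_lit 36) (Tr.nd (nat_lit 30) (Tr.nd (nat_lit 27) (Tr.nd (nat_lit 25) (Tr.lf (Alt.word (nat_lit 2) (nat_lit 2) true [Col.c, Col.a, Col.c, Col.a])) (Tr.nd (nat_lit 26) (Tr.lf (Alt.word (nat_lit 21) (nat_lit 7) true [Col.d, Col.a, Col.c, Col.d, Col.c, Col.d, Col.c, Col.d, Col.c])) (Tr.lf (Alt.word (nat_lit 9) (nat_lit 1) true [Col.b, Col.e, Col.b, Col.e])))) (Tr.nd (nat_lit 28) (Tr.lf (Alt.word (nat_lit 19) (nat_lit 2) true [Col.f, Col.e, Col.f, Col.e])) (Tr.nd (nat_lit 29) (Tr.lf (Alt.word (nat_lit 8) (nat_lit 1) true [Col.b, Col.d, Col.b, Col.d])) (Tr.lf (Alt.word (nat_lit 4) (nat_lit 1) true [Col.a, Col.e, Col.a, Col.e]))))) (Tr.nd (nat_lit 33) (Tr.nd (nat_lit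 31) (Tr.lf (Alt.word (nat_lit 3) (nat_lit 1) true [Col.a, Col.d, Col.a, Col.d])) (Tr.nd (nat_lit 32) (Tr.lf (Alt.word (nat_lit 7) (nat_lit 2) true [Col.c, Col.b, Col.c, Col.b, Col.c, Col.b])) (Tr.lf (Alt.word (nat_lit 16) (nat_lit 1) true [Col.d, Col.e, Col.d, Col.e, Col.d, Col.e])))) (Tr.nd (nat_lit 34) (Tr.lf (Alt.word (nat_lit 7) (nat_lit 1) true [Col.b, Col.c, Col.b, Col.c, Col.b, Col.c])) (Tr.nd (nat_lit 35) (Tr.lf (Alt.word (nat_lit 22) (nat_lit 19) true [Col.a, Col.f, Col.c, Col.b, Col.a, Col.f, Col.c, Col.b, Col.a, Col.f, Col.c, Col.b, Col.a, Col.f, Col.c, Col.b, Col.a, Col.f, Col.c, Col.b])) (Tr.lf (Alt.word (nat_lit 21) (nat_lit 4) true [Col.c, Col.d, Col.c, Col.d, Col.a, Col.c, Col.d, Col.c, Col.d])))))) (Tr.nd (nat_lit 42) (Tr.nd (nat_lit 39) (Tr.nd (nat_lit 37) (Tr.lf (Alt.word (nat_lit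 10) (nat_lit 1) true [Col.b, Col.f, Col.b, Col.f, Col.b, Col.f])) (Tr.nd (nat_lit 38) (Tr.lf (Alt.word (nat_lit 5) (nat_lit 1) true [Col.a, Col.f, Col.a, Col.f])) (Tr.lf (Alt.word (nat_lit 1) (nat_lit 2) true [Col.b, Col.a, Col.b, Col.a, Col.b, Col.a, Col.b, Col.a, Col.b, Col.a])))) (Tr.nd (nat_lit 40) (Tr.lf (Alt.word (nat_lit 21) (nat_lit 0) true [Col.c, Col.d, Col.c, Col.d, Col.c, Col.d, Col.c, Col.d, Col.a])) (Tr.nd (nat_lit 41) (Tr.lf (Alt.word (nat_lit 10) (nat_lit 0) true [Col.f, Col.b, Col.f, Col.b, Col.f, Col.b])) (Tr.lf (Alt.word (nat_lit 14) (nat_lit 3) true [Col.c, Col.f, Col.c, Col.f]))))) (Tr.nd (nat_lit 45) (Tr.nd (nat_lit 43) (Tr.lf (Alt.word (nat_lit 21) (nat_lit 2) true [Col.c, Col.d, Col.c, Col.d, Col.c, Col.d, Col.a, Col.c, Col.d])) (Tr.nd (nat_lit 44) (Tr.lf (Alt.word (nat_lit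 21) (nat_lit 1) true [Col.d, Col.c, Col.d, Col.c, Col.d, Col.c, Col.d, Col.a, Col.c])) (Tr.lf (Alt.word (nat_lit 21) (nat_lit 0) false [Col.a, Col.d, Col.c, Col.d, Col.c, Col.d, Col.c, Col.d, Col.c])))) (Tr.nd (nat_lit 47) (Tr.nd (nat_lit 46) (Tr.lf (Alt.word (nat_lit 15) (nat_lit 0) true [Col.d, Col.d])) (Tr.lf (Alt.word (nat_lit 11) (nat_lit 0) true [Col.c, Col.c]))) (Tr.nd (nat_lit 48) (Tr.lf (Alt.word (nat_lit 6) (nat_lit 0) true [Col.b, Col.b])) (Tr.lf (Alt.word (nat_lit 0) (nat_lit 0) true [Col.a, Col.a]))))))))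
noncomputable def mini2P : Tr ℕ := (Tr.nd (nat_lit 71) (Tr.nd (nat_lit 35) (Tr.nd (nat_lit 17) (Tr.nd (nat_lit 8) (Tr.nd (nat_lit 4) (Tr.nd (nat_lit 2) (Tr.nd (nat_lit 1) (Tr.lf (nat_lit 0)) (Tr.lf (nat_lit 0))) (Tr.nd (nat_lit 3) (Tr.lf (nat_lit 1)) (Tr.lf (nat_lit 2)))) (Tr.nd (nat_lit 6) (Tr.nd (nat_lit 5) (Tr.lf (nat_lit 3)) (Tr.lf (nat_lit 4))) (Tr.nd (nat_lit 7) (Tr.lf (nat_lit 2)) (Tr.lf (nat_lit 6))))) (Tr.nd (nat_lit 12) (Tr.nd (nat_lit 10) (Tr.nd (nat_lit 9) (Tr.lf (nat_lit 7)) (Tr.lf (nat_lit 8))) (Tr.nd (nat_lit 11) (Tr.lf (nat_lit 9)) (Tr.lf (nat_lit 10)))) (Tr.nd (nat_lit 14) (Tr.nd (nat_lit 13) (Tr.lf (nat_lit 11)) (Tr.lf (nat_lit 12))) (Tr.nd (nat_lit 15) (Tr.lf (nat_lit 13)) (Tr.nd (nat_lit 16) (Tr.lf (nat_lit 14)) (Tr.lf (nat_lit 9))))))) (Tr.nd (nat_lit 26) (Tr.nd (nat_lit 21)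 (Tr.nd (nat_lit 19) (Tr.nd (nat_lit 18) (Tr.lf (nat_lit 16)) (Tr.lf (nat_lit 17))) (Tr.nd (nat_lit 20) (Tr.lf (nat_lit 18)) (Tr.lf (nat_lit 19)))) (Tr.nd (nat_lit 23) (Tr.nd (nat_lit 22) (Tr.lf (nat_lit 20)) (Tr.lf (nat_lit 4))) (Tr.nd (nat_lit 24) (Tr.lf (nat_lit 5)) (Tr.nd (nat_lit 25) (Tr.lf (nat_lit 7)) (Tr.lf (nat_lit 8)))))) (Tr.nd (nat_lit 30) (Tr.nd (nat_lit 28) (Tr.nd (nat_lit 27) (Tr.lf (nat_lit 8)) (Tr.lf (nat_lit 9))) (Tr.nd (nat_lit 29) (Tr.lf (nat_lit 10)) (Tr.lf (nat_lit 10)))) (Tr.nd (nat_lit 32) (Tr.nd (nat_lit 31) (Tr.lf (nat_lit 11)) (Tr.lf (nat_lit 11))) (Tr.nd (nat_lit 33) (Tr.lf (nat_lit 11)) (Tr.nd (nat_lit 34) (Tr.lf (nat_lit 11)) (Tr.lf (nat_lit 12)))))))) (Tr.nd (nat_lit 53) (Tr.nd (nat_lit 44) (Tr.nd (nat_lit 39) (Tr.nd (nat_lit 37) (Tr.nd (nat_lit 36) (Tr.lf (nat_lit 12))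 (Tr.lf (nat_lit 12))) (Tr.nd (nat_lit 38) (Tr.lf (nat_lit 12)) (Tr.lf (nat_lit 13)))) (Tr.nd (nat_lit 41) (Tr.nd (nat_lit 40) (Tr.lf (nat_lit 14)) (Tr.lf (nat_lit 14))) (Tr.nd (nat_lit 42) (Tr.lf (nat_lit 16)) (Tr.nd (nat_lit 43) (Tr.lf (nat_lit 17)) (Tr.lf (nat_lit 17)))))) (Tr.nd (nat_lit 48) (Tr.nd (nat_lit 46) (Tr.nd (nat_lit 45) (Tr.lf (nat_lit 18)) (Tr.lf (nat_lit 18))) (Tr.nd (nat_lit 47) (Tr.lf (nat_lit 19)) (Tr.lf (nat_lit 19)))) (Tr.nd (nat_lit 50) (Tr.nd (nat_lit 49) (Tr.lf (nat_lit 19)) (Tr.lf (nat_lit 20))) (Tr.nd (nat_lit 51) (Tr.lf (nat_lit 21)) (Tr.nd (nat_lit 52) (Tr.lf (nat_lit 22)) (Tr.lf (nat_lit 23))))))) (Tr.nd (nat_lit 62) (Tr.nd (nat_lit 57) (Tr.nd (nat_lit 55) (Tr.nd (nat_lit 54) (Tr.lf (nat_lit 27)) (Tr.lf (nat_lit 28))) (Tr.nd (nat_lit 56) (Tr.lf (nat_lit 30)) (Tr.lf (nat_lit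 30)))) (Tr.nd (nat_lit 59) (Tr.nd (nat_lit 58) (Tr.lf (nat_lit 32)) (Tr.lf (nat_lit 34))) (Tr.nd (nat_lit 60) (Tr.lf (nat_lit 35)) (Tr.nd (nat_lit 61) (Tr.lf (nat_lit 35)) (Tr.lf (nat_lit 36)))))) (Tr.nd (nat_lit 66) (Tr.nd (nat_lit 64) (Tr.nd (nat_lit 63) (Tr.lf (nat_lit 36)) (Tr.lf (nat_lit 37))) (Tr.nd (nat_lit 65) (Tr.lf (nat_lit 42)) (Tr.lf (nat_lit 43)))) (Tr.nd (nat_lit 68) (Tr.nd (nat_lit 67) (Tr.lf (nat_lit 44)) (Tr.lf (nat_lit 45))) (Tr.nd (nat_lit 69) (Tr.lf (nat_lit 46)) (Tr.nd (nat_lit 70) (Tr.lf (nat_lit 46)) (Tr.lf (nat_lit 47))))))))) (Tr.nd (nat_lit 107) (Tr.nd (nat_lit 89) (Tr.nd (nat_lit 80) (Tr.nd (nat_lit 75) (Tr.nd (nat_lit 73) (Tr.nd (nat_lit 72) (Tr.lf (nat_lit 48)) (Tr.lf (nat_lit 49))) (Tr.nd (nat_lit 74) (Tr.lf (nat_lit 50)) (Tr.lf (nat_lit 51)))) (Tr.nd (nat_lit 77) (Tr.nd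 (nat_lit 76) (Tr.lf (nat_lit 52)) (Tr.lf (nat_lit 53))) (Tr.nd (nat_lit 78) (Tr.lf (nat_lit 54)) (Tr.nd (nat_lit 79) (Tr.lf (nat_lit 55)) (Tr.lf (nat_lit 56)))))) (Tr.nd (nat_lit 84) (Tr.nd (nat_lit 82) (Tr.nd (nat_lit 81) (Tr.lf (nat_lit 58)) (Tr.lf (nat_lit 59))) (Tr.nd (nat_lit 83) (Tr.lf (nat_lit 59)) (Tr.lf (nat_lit 61)))) (Tr.nd (nat_lit 86) (Tr.nd (nat_lit 85) (Tr.lf (nat_lit 62)) (Tr.lf (nat_lit 63))) (Tr.nd (nat_lit 87) (Tr.lf (nat_lit 65)) (Tr.nd (nat_lit 88) (Tr.lf (nat_lit 66)) (Tr.lf (nat_lit 68))))))) (Tr.nd (nat_lit 98) (Tr.nd (nat_lit 93) (Tr.nd (nat_lit 91) (Tr.nd (nat_lit 90) (Tr.lf (nat_lit 70)) (Tr.lf (nat_lit 71))) (Tr.nd (nat_lit 92) (Tr.lf (nat_lit 72)) (Tr.lf (nat_lit 72)))) (Tr.nd (nat_lit 95) (Tr.nd (nat_lit 94) (Tr.lf (nat_lit 73)) (Tr.lf (nat_lit 74))) (Tr.nd (nat_lit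 96) (Tr.lf (nat_lit 78)) (Tr.nd (nat_lit 97) (Tr.lf (nat_lit 79)) (Tr.lf (nat_lit 80)))))) (Tr.nd (nat_lit 102) (Tr.nd (nat_lit 100) (Tr.nd (nat_lit 99) (Tr.lf (nat_lit 81)) (Tr.lf (nat_lit 82))) (Tr.nd (nat_lit 101) (Tr.lf (nat_lit 83)) (Tr.lf (nat_lit 84)))) (Tr.nd (nat_lit 104) (Tr.nd (nat_lit 103) (Tr.lf (nat_lit 85)) (Tr.lf (nat_lit 86))) (Tr.nd (nat_lit 105) (Tr.lf (nat_lit 87)) (Tr.nd (nat_lit 106) (Tr.lf (nat_lit 87)) (Tr.lf (nat_lit 88)))))))) (Tr.nd (nat_lit 125) (Tr.nd (nat_lit 116) (Tr.nd (nat_lit 111) (Tr.nd (nat_lit 109) (Tr.nd (nat_lit 108) (Tr.lf (nat_lit 90)) (Tr.lf (nat_lit 90))) (Tr.nd (nat_lit 110) (Tr.lf (nat_lit 90)) (Tr.lf (nat_lit 91)))) (Tr.nd (nat_lit 113) (Tr.nd (nat_lit 112) (Tr.lf (nat_lit 93)) (Tr.lf (nat_lit 94))) (Tr.nd (nat_lit 114) (Tr.lf (nat_lit 95)) (Tr.nd (nat_lit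 115) (Tr.lf (nat_lit 96)) (Tr.lf (nat_lit 97)))))) (Tr.nd (nat_lit 120) (Tr.nd (nat_lit 118) (Tr.nd (nat_lit 117) (Tr.lf (nat_lit 98)) (Tr.lf (nat_lit 99))) (Tr.nd (nat_lit 119) (Tr.lf (nat_lit 100)) (Tr.lf (nat_lit 101)))) (Tr.nd (nat_lit 122) (Tr.nd (nat_lit 121) (Tr.lf (nat_lit 104)) (Tr.lf (nat_lit 105))) (Tr.nd (nat_lit 123) (Tr.lf (nat_lit 107)) (Tr.nd (nat_lit 124) (Tr.lf (nat_lit 108)) (Tr.lf (nat_lit 109))))))) (Tr.nd (nat_lit 134) (Tr.nd (nat_lit 129) (Tr.nd (nat_lit 127) (Tr.nd (nat_lit 126) (Tr.lf (nat_lit 110)) (Tr.lf (nat_lit 111))) (Tr.nd (nat_lit 128) (Tr.lf (nat_lit 112)) (Tr.lf (nat_lit 113)))) (Tr.nd (nat_lit 131) (Tr.nd (nat_lit 130) (Tr.lf (nat_lit 114)) (Tr.lf (nat_lit 116))) (Tr.nd (nat_lit 132) (Tr.lf (nat_lit 118)) (Tr.nd (nat_lit 133) (Tr.lf (nat_lit 120)) (Tr.lf (nat_lit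 121)))))) (Tr.nd (nat_lit 138) (Tr.nd (nat_lit 136) (Tr.nd (nat_lit 135) (Tr.lf (nat_lit 121)) (Tr.lf (nat_lit 122))) (Tr.nd (nat_lit 137) (Tr.lf (nat_lit 122)) (Tr.lf (nat_lit 123)))) (Tr.nd (nat_lit 140) (Tr.nd (nat_lit 139) (Tr.lf (nat_lit 126)) (Tr.lf (nat_lit 127))) (Tr.nd (nat_lit 141) (Tr.lf (nat_lit 129)) (Tr.nd (nat_lit 142) (Tr.lf (nat_lit 132)) (Tr.lf (nat_lit 133))))))))))
noncomputable def mini2Q : Tr ℕ := (Tr.nd (nat_lit 71) (Tr.nd (nat_lit 35) (Tr.nd (nat_lit 17) (Tr.nd (nat_lit 8) (Tr.nd (nat_lit 4) (Tr.nd (nat_lit 2) (Tr.nd (nat_lit 1) (Tr.lf (nat_lit 0)) (Tr.lf (nat_lit 5))) (Tr.nd (nat_lit 3) (Tr.lf (nat_lit 1)) (Tr.lf (nat_lit 0)))) (Tr.nd (nat_lit 6) (Tr.nd (nat_lit 5) (Tr.lf (nat_lit 1)) (Tr.lf (nat_lit 5))) (Tr.nd (nat_lit 7) (Tr.lf (nat_lit 2)) (Tr.lf (nat_lit 3))))) (Tr.nd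 (nat_lit 12) (Tr.nd (nat_lit 10) (Tr.nd (nat_lit 9) (Tr.lf (nat_lit 2)) (Tr.lf (nat_lit 1))) (Tr.nd (nat_lit 11) (Tr.lf (nat_lit 0)) (Tr.lf (nat_lit 1)))) (Tr.nd (nat_lit 14) (Tr.nd (nat_lit 13) (Tr.lf (nat_lit 5)) (Tr.lf (nat_lit 2))) (Tr.nd (nat_lit 15) (Tr.lf (nat_lit 3)) (Tr.nd (nat_lit 16) (Tr.lf (nat_lit 1)) (Tr.lf (nat_lit 4))))))) (Tr.nd (nat_lit 26) (Tr.nd (nat_lit 21) (Tr.nd (nat_lit 19) (Tr.nd (nat_lit 18) (Tr.lf (nat_lit 3)) (Tr.lf (nat_lit 2))) (Tr.nd (nat_lit 20) (Tr.lf (nat_lit 5)) (Tr.lf (nat_lit 1)))) (Tr.nd (nat_lit 23) (Tr.nd (nat_lit 22) (Tr.lf (nat_lit 0)) (Tr.lf (nat_lit 2))) (Tr.nd (nat_lit 24) (Tr.lf (nat_lit 2)) (Tr.nd (nat_lit 25) (Tr.lf (nat_lit 0)) (Tr.lf (nat_lit 0)))))) (Tr.nd (nat_lit 30) (Tr.nd (nat_lit 28) (Tr.nd (nat_lit 27) (Tr.lf (nat_lit 4)) (Tr.lf (nat_lit 3)))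 (Tr.nd (nat_lit 29) (Tr.lf (nat_lit 4)) (Tr.lf (nat_lit 3)))) (Tr.nd (nat_lit 32) (Tr.nd (nat_lit 31) (Tr.lf (nat_lit 3)) (Tr.lf (nat_lit 4))) (Tr.nd (nat_lit 33) (Tr.lf (nat_lit 2)) (Tr.nd (nat_lit 34) (Tr.lf (nat_lit 0)) (Tr.lf (nat_lit 1)))))))) (Tr.nd (nat_lit 53) (Tr.nd (nat_lit 44) (Tr.nd (nat_lit 39) (Tr.nd (nat_lit 37) (Tr.nd (nat_lit 36) (Tr.lf (nat_lit 3)) (Tr.lf (nat_lit 0))) (Tr.nd (nat_lit 38) (Tr.lf (nat_lit 4)) (Tr.lf (nat_lit 4)))) (Tr.nd (nat_lit 41) (Tr.nd (nat_lit 40) (Tr.lf (nat_lit 5)) (Tr.lf (nat_lit 2))) (Tr.nd (nat_lit 42) (Tr.lf (nat_lit 5)) (Tr.nd (nat_lit 43) (Tr.lf (nat_lit 4)) (Tr.lf (nat_lit 5)))))) (Tr.nd (nat_lit 48) (Tr.nd (nat_lit 46) (Tr.nd (nat_lit 45) (Tr.lf (nat_lit 0)) (Tr.lf (nat_lit 4))) (Tr.nd (nat_lit 47) (Tr.lf (nat_lit 4)) (Tr.lf (nat_lit 3)))) (Tr.nd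 (nat_lit 50) (Tr.nd (nat_lit 49) (Tr.lf (nat_lit 0)) (Tr.lf (nat_lit 3))) (Tr.nd (nat_lit 51) (Tr.lf (nat_lit 3)) (Tr.nd (nat_lit 52) (Tr.lf (nat_lit 3)) (Tr.lf (nat_lit 3))))))) (Tr.nd (nat_lit 62) (Tr.nd (nat_lit 57) (Tr.nd (nat_lit 55) (Tr.nd (nat_lit 54) (Tr.lf (nat_lit 4)) (Tr.lf (nat_lit 5))) (Tr.nd (nat_lit 56) (Tr.lf (nat_lit 0)) (Tr.lf (nat_lit 4)))) (Tr.nd (nat_lit 59) (Tr.nd (nat_lit 58) (Tr.lf (nat_lit 0)) (Tr.lf (nat_lit 4))) (Tr.nd (nat_lit 60) (Tr.lf (nat_lit 4)) (Tr.nd (nat_lit 61) (Tr.lf (nat_lit 0)) (Tr.lf (nat_lit 1)))))) (Tr.nd (nat_lit 66) (Tr.nd (nat_lit 64) (Tr.nd (nat_lit 63) (Tr.lf (nat_lit 4)) (Tr.lf (nat_lit 3))) (Tr.nd (nat_lit 65) (Tr.lf (nat_lit 5)) (Tr.lf (nat_lit 0)))) (Tr.nd (nat_lit 68) (Tr.nd (nat_lit 67) (Tr.lf (nat_lit 4)) (Tr.lf (nat_lit 3))) (Tr.nd (nat_lit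 69) (Tr.lf (nat_lit 0)) (Tr.nd (nat_lit 70) (Tr.lf (nat_lit 3)) (Tr.lf (nat_lit 0))))))))) (Tr.nd (nat_lit 107) (Tr.nd (nat_lit 89) (Tr.nd (nat_lit 80) (Tr.nd (nat_lit 75) (Tr.nd (nat_lit 73) (Tr.nd (nat_lit 72) (Tr.lf (nat_lit 1)) (Tr.lf (nat_lit 2))) (Tr.nd (nat_lit 74) (Tr.lf (nat_lit 2)) (Tr.lf (nat_lit 2)))) (Tr.nd (nat_lit 77) (Tr.nd (nat_lit 76) (Tr.lf (nat_lit 4)) (Tr.lf (nat_lit 5))) (Tr.nd (nat_lit 78) (Tr.lf (nat_lit 1)) (Tr.nd (nat_lit 79) (Tr.lf (nat_lit 4)) (Tr.lf (nat_lit 3)))))) (Tr.nd (nat_lit 84) (Tr.nd (nat_lit 82) (Tr.nd (nat_lit 81) (Tr.lf (nat_lit 3)) (Tr.lf (nat_lit 0))) (Tr.nd (nat_lit 83) (Tr.lf (nat_lit 3)) (Tr.lf (nat_lit 4)))) (Tr.nd (nat_lit 86) (Tr.nd (nat_lit 85) (Tr.lf (nat_lit 3)) (Tr.lf (nat_lit 2))) (Tr.nd (nat_lit 87) (Tr.lf (nat_lit 1)) (Tr.nd (nat_lit 88) (Tr.lf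 (nat_lit 3)) (Tr.lf (nat_lit 3))))))) (Tr.nd (nat_lit 98) (Tr.nd (nat_lit 93) (Tr.nd (nat_lit 91) (Tr.nd (nat_lit 90) (Tr.lf (nat_lit 1)) (Tr.lf (nat_lit 2))) (Tr.nd (nat_lit 92) (Tr.lf (nat_lit 1)) (Tr.lf (nat_lit 3)))) (Tr.nd (nat_lit 95) (Tr.nd (nat_lit 94) (Tr.lf (nat_lit 3)) (Tr.lf (nat_lit 4))) (Tr.nd (nat_lit 96) (Tr.lf (nat_lit 3)) (Tr.nd (nat_lit 97) (Tr.lf (nat_lit 2)) (Tr.lf (nat_lit 2)))))) (Tr.nd (nat_lit 102) (Tr.nd (nat_lit 100) (Tr.nd (nat_lit 99) (Tr.lf (nat_lit 3)) (Tr.lf (nat_lit 2))) (Tr.nd (nat_lit 101) (Tr.lf (nat_lit 3)) (Tr.lf (nat_lit 2)))) (Tr.nd (nat_lit 104) (Tr.nd (nat_lit 103) (Tr.lf (nat_lit 1)) (Tr.lf (nat_lit 2))) (Tr.nd (nat_lit 105) (Tr.lf (nat_lit 1)) (Tr.nd (nat_lit 106) (Tr.lf (nat_lit 2)) (Tr.lf (nat_lit 2)))))))) (Tr.nd (nat_lit 125) (Tr.nd (nat_lit 116) (Tr.nd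 (nat_lit 111) (Tr.nd (nat_lit 109) (Tr.nd (nat_lit 108) (Tr.lf (nat_lit 0)) (Tr.lf (nat_lit 5))) (Tr.nd (nat_lit 110) (Tr.lf (nat_lit 3)) (Tr.lf (nat_lit 3)))) (Tr.nd (nat_lit 113) (Tr.nd (nat_lit 112) (Tr.lf (nat_lit 1)) (Tr.lf (nat_lit 3))) (Tr.nd (nat_lit 114) (Tr.lf (nat_lit 2)) (Tr.nd (nat_lit 115) (Tr.lf (nat_lit 3)) (Tr.lf (nat_lit 1)))))) (Tr.nd (nat_lit 120) (Tr.nd (nat_lit 118) (Tr.nd (nat_lit 117) (Tr.lf (nat_lit 2)) (Tr.lf (nat_lit 3))) (Tr.nd (nat_lit 119) (Tr.lf (nat_lit 2)) (Tr.lf (nat_lit 1)))) (Tr.nd (nat_lit 122) (Tr.nd (nat_lit 121) (Tr.lf (nat_lit 2)) (Tr.lf (nat_lit 1))) (Tr.nd (nat_lit 123) (Tr.lf (nat_lit 3)) (Tr.nd (nat_lit 124) (Tr.lf (nat_lit 3)) (Tr.lf (nat_lit 2))))))) (Tr.nd (nat_lit 134) (Tr.nd (nat_lit 129) (Tr.nd (nat_lit 127) (Tr.nd (nat_lit 126) (Tr.lf (nat_lit 2))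 (Tr.lf (nat_lit 2))) (Tr.nd (nat_lit 128) (Tr.lf (nat_lit 2)) (Tr.lf (nat_lit 3)))) (Tr.nd (nat_lit 131) (Tr.nd (nat_lit 130) (Tr.lf (nat_lit 2)) (Tr.lf (nat_lit 1))) (Tr.nd (nat_lit 132) (Tr.lf (nat_lit 1)) (Tr.nd (nat_lit 133) (Tr.lf (nat_lit 1)) (Tr.lf (nat_lit 5)))))) (Tr.nd (nat_lit 138) (Tr.nd (nat_lit 136) (Tr.nd (nat_lit 135) (Tr.lf (nat_lit 0)) (Tr.lf (nat_lit 2))) (Tr.nd (nat_lit 137) (Tr.lf (nat_lit 5)) (Tr.lf (nat_lit 2)))) (Tr.nd (nat_lit 140) (Tr.nd (nat_lit 139) (Tr.lf (nat_lit 3)) (Tr.lf (nat_lit 1))) (Tr.nd (nat_lit 141) (Tr.lf (nat_lit 1)) (Tr.nd (nat_lit 142) (Tr.lf (nat_lit 5)) (Tr.lf (nat_lit 0))))))))))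
theorem mini2_alt : Tr.all (altChk idx inv RW (SW2)) mini2A = true := by decide +kernel
theorem mini2_chk : Tr.all (chkFc idx inv mini2S mini2A (fun b => Tr.find b mini2P) (fun b => Tr.find b mini2Q)) mini2S = true := by decide +kernel
theorem mini2_run : runM idx inv mini2S 300 0 [Mv.f (nat_lit 4), Mv.f (nat_lit 5), Mv.f (nat_lit 10), Mv.f (nat_lit 11), Mv.f (nat_lit 12), Mv.f (nat_lit 13), Mv.f (nat_lit 42), Mv.f (nat_lit 44), Mv.f (nat_lit 45), Mv.f (nat_lit 46), Mv.f (nat_lit 47), Mv.f (nat_lit 299), Mv.b (nat_lit 47), Mv.b (nat_lit 46), Mv.b (nat_lit 45), Mv.b (nat_lit 44), Mv.b (nat_lit 42), Mv.b (nat_lit 13), Mv.b (nat_lit 12), Mv.b (nat_lit 11), Mv.b (nat_lit 10), Mv.b (nat_lit 5), Mv.b (nat_lit 4)] [Col.f, Col.b, Col.c, Col.d, Col.c, Col.b, Col.e, Col.d, Col.c, Col.f, Col.b, Col.a, Col.b,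 Col.f, Col.c, Col.d, Col.e, Col.b, Col.c, Col.d, Col.c, Col.b, Col.f] 0 = true := by decide +kernel
theorem mini2_fix {G X : Type*} [Group G] [MulAction G X] (g : Col → G) (x0 : X) (hinv : ∀ c, g (inv c) = (g c)⁻¹)
    (hRW : ∀ w ∈ RW, gw g w = 1) (hSW : ∀ w ∈ SW2, gw g w • x0 = x0) : gw g [Col.f, Col.b, Col.c, Col.d, Col.c, Col.b, Col.e, Col.d, Col.c, Col.f, Col.b, Col.a, Col.b, Col.f, Col.c, Col.d, Col.e, Col.b, Col.c, Col.d, Col.c, Col.b, Col.f] • x0 = x0 :=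
  mini_sound g x0 dec hdec hinv
    (fun a ha => altChk_sound g x0 dec hdec hinv hRW hSW ((Tr.all_iff _ _).1 mini2_alt a ha)) mini2_chk mini2_run
noncomputable def mini3S : Tr (Fc Col) := (Tr.nd (nat_lit 141) (Tr.nd (nat_lit 70) (Tr.nd (nat_lit 35) (Tr.nd (nat_lit 17) (Tr.nd (nat_lit 8) (Tr.nd (nat_lit 4) (Tr.nd (nat_lit 2) (Tr.nd (nat_lit 1) (Tr.lf (Fc.ed (nat_lit 0) (nat_lit 0) Col.a (nat_lit 0) (Dv.sb (nat_lit 0) [] []))) (Tr.lf (Fc.ed (nat_lit 1) (nat_lit 0) Col.b (nat_lit 0) (Dv.sb (nat_lit 1) [] [])))) (Tr.nd (nat_lit 3) (Tr.lf (Fc.ed (nat_lit 2) (nat_lit 0) Col.c (nat_lit 0) (Dv.sb (nat_lit 2) [] []))) (Tr.lf (Fc.ed (nat_lit 3) (nat_lit 0) Col.d (nat_lit 0) (Dv.sb (nat_lit 3) [] []))))) (Tr.nd (nat_lit 6) (Tr.nd (nat_lit 5) (Tr.lf (Fc.ed (nat_lit 4) (nat_lit 0) Col.e (nat_lit 0) (Dv.sb (nat_lit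 4) [] []))) (Tr.lf (Fc.ed (nat_lit 5) (nat_lit 0) Col.f (nat_lit 1) Dv.df))) (Tr.nd (nat_lit 7) (Tr.lf (Fc.ed (nat_lit 6) (nat_lit 1) Col.b (nat_lit 2) Dv.df)) (Tr.lf (Fc.ed (nat_lit 7) (nat_lit 2) Col.a (nat_lit 3) Dv.df))))) (Tr.nd (nat_lit 12) (Tr.nd (nat_lit 10) (Tr.nd (nat_lit 9) (Tr.lf (Fc.ed (nat_lit 8) (nat_lit 3) Col.b (nat_lit 4) Dv.df)) (Tr.lf (Fc.ed (nat_lit 9) (nat_lit 4) Col.f (nat_lit 5) Dv.df))) (Tr.nd (nat_lit 11) (Tr.lf (Fc.ed (nat_lit 10) (nat_lit 5) Col.a (nat_lit 4) (Dv.sb (nat_lit 5) [Mv.f (nat_lit 5), Mv.f (nat_lit 6), Mv.f (nat_lit 7), Mv.f (nat_lit 8), Mv.f (nat_lit 9)] [Mv.b (nat_lit 8), Mv.b (nat_lit 7), Mv.b (nat_lit 6), Mv.b (nat_lit 5)]))) (Tr.lf (Fc.ed (nat_lit 11) (nat_lit 2) Col.c (nat_lit 6) Dv.df)))) (Tr.nd (nat_lit 14) (Tr.nd (nat_lit 13) (Tr.lf (Fc.ed (nat_lit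 12) (nat_lit 6) Col.d (nat_lit 7) Dv.df)) (Tr.lf (Fc.ed (nat_lit 13) (nat_lit 7) Col.c (nat_lit 8) Dv.df))) (Tr.nd (nat_lit 15) (Tr.lf (Fc.ed (nat_lit 14) (nat_lit 8) Col.b (nat_lit 9) Dv.df)) (Tr.nd (nat_lit 16) (Tr.lf (Fc.ed (nat_lit 15) (nat_lit 9) Col.a (nat_lit 10) Dv.df)) (Tr.lf (Fc.ed (nat_lit 16) (nat_lit 10) Col.b (nat_lit 11) Dv.df))))))) (Tr.nd (nat_lit 26) (Tr.nd (nat_lit 21) (Tr.nd (nat_lit 19) (Tr.nd (nat_lit 18) (Tr.lf (Fc.ed (nat_lit 17) (nat_lit 11) Col.f (nat_lit 12) Dv.df)) (Tr.lf (Fc.ed (nat_lit 18) (nat_lit 12) Col.c (nat_lit 13) Dv.df))) (Tr.nd (nat_lit 20) (Tr.lf (Fc.ed (nat_lit 19) (nat_lit 13) Col.d (nat_lit 14) Dv.df)) (Tr.lf (Fc.ed (nat_lit 20) (nat_lit 14) Col.b (nat_lit 15) Dv.df)))) (Tr.nd (nat_lit 23) (Tr.nd (nat_lit 22) (Tr.lf (Fc.ed (nat_lit 21) (nat_lit 15) Col.c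 (nat_lit 3) (Dv.sb (nat_lit 6) [Mv.f (nat_lit 5), Mv.f (nat_lit 6), Mv.f (nat_lit 11), Mv.f (nat_lit 12), Mv.f (nat_lit 13), Mv.f (nat_lit 14), Mv.f (nat_lit 15), Mv.f (nat_lit 16), Mv.f (nat_lit 17), Mv.f (nat_lit 18), Mv.f (nat_lit 19), Mv.f (nat_lit 20)] [Mv.b (nat_lit 7), Mv.b (nat_lit 6), Mv.b (nat_lit 5)]))) (Tr.lf (Fc.ed (nat_lit 22) (nat_lit 9) Col.e (nat_lit 16) Dv.df))) (Tr.nd (nat_lit 24) (Tr.lf (Fc.ed (nat_lit 23) (nat_lit 16) Col.d (nat_lit 17) Dv.df)) (Tr.nd (nat_lit 25) (Tr.lf (Fc.ed (nat_lit 24) (nat_lit 17) Col.c (nat_lit 18) Dv.df)) (Tr.lf (Fc.ed (nat_lit 25) (nat_lit 18) Col.f (nat_lit 19) Dv.df)))))) (Tr.nd (nat_lit 30) (Tr.nd (nat_lit 28) (Tr.nd (nat_lit 27) (Tr.lf (Fc.ed (nat_lit 26) (nat_lit 19) Col.b (nat_lit 20) Dv.df)) (Tr.lf (Fc.ed (nat_lit 27) (nat_lit 20) Col.a (nat_lit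 20) (Dv.sb (nat_lit 7) [Mv.f (nat_lit 5), Mv.f (nat_lit 6), Mv.f (nat_lit 11), Mv.f (nat_lit 12), Mv.f (nat_lit 13), Mv.f (nat_lit 14), Mv.f (nat_lit 22), Mv.f (nat_lit 23), Mv.f (nat_lit 24), Mv.f (nat_lit 25), Mv.f (nat_lit 26)] [Mv.b (nat_lit 26), Mv.b (nat_lit 25), Mv.b (nat_lit 24), Mv.b (nat_lit 23), Mv.b (nat_lit 22), Mv.b (nat_lit 14), Mv.b (nat_lit 13), Mv.b (nat_lit 12), Mv.b (nat_lit 11), Mv.b (nat_lit 6), Mv.b (nat_lit 5)])))) (Tr.nd (nat_lit 29) (Tr.lf (Fc.ed (nat_lit 28) (nat_lit 6) Col.a (nat_lit 15) (Dv.wd (nat_lit 8) [Mv.f (nat_lit 21), Mv.b (nat_lit 7), Mv.f (nat_lit 11)]))) (Tr.lf (Fc.ed (nat_lit 29) (nat_lit 2) Col.f (nat_lit 2) (Dv.wd (nat_lit 9) [Mv.b (nat_lit 6), Mv.b (nat_lit 5), Mv.f (nat_lit 1), Mv.f (nat_lit 5), Mv.f (nat_lit 6)]))))) (Tr.nd (nat_lit 32) (Tr.nd (nat_lit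 31) (Tr.lf (Fc.ed (nat_lit 30) (nat_lit 3) Col.f (nat_lit 3) (Dv.wd (nat_lit 10) [Mv.b (nat_lit 7), Mv.f (nat_lit 29), Mv.f (nat_lit 7)]))) (Tr.lf (Fc.ed (nat_lit 31) (nat_lit 6) Col.f (nat_lit 6) (Dv.wd (nat_lit 11) [Mv.b (nat_lit 11), Mv.f (nat_lit 29), Mv.f (nat_lit 11)])))) (Tr.nd (nat_lit 33) (Tr.lf (Fc.ed (nat_lit 32) (nat_lit 7) Col.f (nat_lit 7) (Dv.wd (nat_lit 12) [Mv.b (nat_lit 12), Mv.f (nat_lit 31), Mv.f (nat_lit 12)]))) (Tr.nd (nat_lit 34) (Tr.lf (Fc.ed (nat_lit 33) (nat_lit 8) Col.f (nat_lit 8) (Dv.wd (nat_lit 11) [Mv.b (nat_lit 13), Mv.f (nat_lit 32), Mv.f (nat_lit 13)]))) (Tr.lf (Fc.ed (nat_lit 34) (nat_lit 5) Col.b (nat_lit 5) (Dv.wd (nat_lit 13) [Mv.b (nat_lit 9), Mv.b (nat_lit 8), Mv.f (nat_lit 30), Mv.f (nat_lit 8), Mv.f (nat_lit 9)]))))))))) (Tr.nd (nat_lit 52) (Tr.nd (nat_lit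 43) (Tr.nd (nat_lit 39) (Tr.nd (nat_lit 37) (Tr.nd (nat_lit 36) (Tr.lf (Fc.ed (nat_lit 35) (nat_lit 1) Col.a (nat_lit 1) (Dv.wd (nat_lit 14) [Mv.f (nat_lit 6), Mv.f (nat_lit 7), Mv.f (nat_lit 8), Mv.b (nat_lit 10), Mv.f (nat_lit 34), Mv.f (nat_lit 10), Mv.b (nat_lit 8), Mv.b (nat_lit 7), Mv.b (nat_lit 6)]))) (Tr.lf (Fc.ed (nat_lit 36) (nat_lit 1) Col.c (nat_lit 1) (Dv.wd (nat_lit 15) [Mv.b (nat_lit 5), Mv.f (nat_lit 2), Mv.f (nat_lit 5)])))) (Tr.nd (nat_lit 38) (Tr.lf (Fc.ed (nat_lit 37) (nat_lit 1) Col.d (nat_lit 1) (Dv.wd (nat_lit 16) [Mv.b (nat_lit 5), Mv.f (nat_lit 3), Mv.f (nat_lit 5)]))) (Tr.lf (Fc.ed (nat_lit 38) (nat_lit 1) Col.e (nat_lit 1) (Dv.wd (nat_lit 17) [Mv.b (nat_lit 5), Mv.f (nat_lit 4), Mv.f (nat_lit 5)]))))) (Tr.nd (nat_lit 41) (Tr.nd (nat_lit 40) (Tr.lf (Fc.ed (nat_lit 39) (nat_lit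 2) Col.e (nat_lit 2) (Dv.wd (nat_lit 18) [Mv.b (nat_lit 6), Mv.f (nat_lit 38), Mv.f (nat_lit 6)]))) (Tr.lf (Fc.ed (nat_lit 40) (nat_lit 6) Col.e (nat_lit 6) (Dv.wd (nat_lit 19) [Mv.b (nat_lit 11), Mv.f (nat_lit 39), Mv.f (nat_lit 11)])))) (Tr.nd (nat_lit 42) (Tr.lf (Fc.ed (nat_lit 41) (nat_lit 15) Col.e (nat_lit 15) (Dv.wd (nat_lit 20) [Mv.b (nat_lit 28), Mv.f (nat_lit 40), Mv.f (nat_lit 28)]))) (Tr.lf (Fc.ed (nat_lit 42) (nat_lit 14) Col.e (nat_lit 14) (Dv.wd (nat_lit 18) [Mv.f (nat_lit 20), Mv.f (nat_lit 41), Mv.b (nat_lit 20)])))))) (Tr.nd (nat_lit 47) (Tr.nd (nat_lit 45) (Tr.nd (nat_lit 44) (Tr.lf (Fc.ed (nat_lit 43) (nat_lit 2) Col.d (nat_lit 2) (Dv.wd (nat_lit 21) [Mv.b (nat_lit 6), Mv.f (nat_lit 37), Mv.f (nat_lit 6)]))) (Tr.lf (Fc.ed (nat_lit 44) (nat_lit 3) Col.d (nat_lit 3) (Dv.wd (nat_lit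 22) [Mv.b (nat_lit 7), Mv.f (nat_lit 43), Mv.f (nat_lit 7)])))) (Tr.nd (nat_lit 46) (Tr.lf (Fc.ed (nat_lit 45) (nat_lit 6) Col.b (nat_lit 6) (Dv.wd (nat_lit 23) [Mv.b (nat_lit 11), Mv.b (nat_lit 6), Mv.f (nat_lit 36), Mv.f (nat_lit 6), Mv.f (nat_lit 11)]))) (Tr.lf (Fc.ed (nat_lit 46) (nat_lit 7) Col.b (nat_lit 7) (Dv.wd (nat_lit 24) [Mv.b (nat_lit 12), Mv.f (nat_lit 45), Mv.f (nat_lit 12)]))))) (Tr.nd (nat_lit 49) (Tr.nd (nat_lit 48) (Tr.lf (Fc.ed (nat_lit 47) (nat_lit 9) Col.c (nat_lit 9) (Dv.wd (nat_lit 25) [Mv.b (nat_lit 14), Mv.b (nat_lit 13), Mv.f (nat_lit 46), Mv.f (nat_lit 13), Mv.f (nat_lit 14)]))) (Tr.lf (Fc.ed (nat_lit 48) (nat_lit 16) Col.c (nat_lit 16) (Dv.wd (nat_lit 26) [Mv.b (nat_lit 22), Mv.f (nat_lit 47), Mv.f (nat_lit 22)])))) (Tr.nd (nat_lit 50) (Tr.lf (Fc.ed (nat_lit 49) (nat_lit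 10) Col.e (nat_lit 21) Dv.df)) (Tr.nd (nat_lit 51) (Tr.lf (Fc.ed (nat_lit 50) (nat_lit 21) Col.a (nat_lit 16) (Dv.wd (nat_lit 27) [Mv.b (nat_lit 22), Mv.f (nat_lit 15), Mv.f (nat_lit 49)]))) (Tr.lf (Fc.ed (nat_lit 51) (nat_lit 21) Col.d (nat_lit 22) Dv.df))))))) (Tr.nd (nat_lit 61) (Tr.nd (nat_lit 56) (Tr.nd (nat_lit 54) (Tr.nd (nat_lit 53) (Tr.lf (Fc.ed (nat_lit 52) (nat_lit 22) Col.a (nat_lit 17) (Dv.wd (nat_lit 28) [Mv.b (nat_lit 23), Mv.b (nat_lit 50), Mv.f (nat_lit 51)]))) (Tr.lf (Fc.ed (nat_lit 53) (nat_lit 22) Col.c (nat_lit 23) Dv.df))) (Tr.nd (nat_lit 55) (Tr.lf (Fc.ed (nat_lit 54) (nat_lit 23) Col.b (nat_lit 24) Dv.df)) (Tr.lf (Fc.ed (nat_lit 55) (nat_lit 24) Col.d (nat_lit 25) Dv.df)))) (Tr.nd (nat_lit 58) (Tr.nd (nat_lit 57) (Tr.lf (Fc.ed (nat_lit 56) (nat_lit 25) Col.f (nat_lit 26) Dv.df))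 (Tr.lf (Fc.ed (nat_lit 57) (nat_lit 26) Col.c (nat_lit 27) Dv.df))) (Tr.nd (nat_lit 59) (Tr.lf (Fc.ed (nat_lit 58) (nat_lit 27) Col.d (nat_lit 28) Dv.df)) (Tr.nd (nat_lit 60) (Tr.lf (Fc.ed (nat_lit 59) (nat_lit 28) Col.b (nat_lit 29) Dv.df)) (Tr.lf (Fc.ed (nat_lit 60) (nat_lit 29) Col.c (nat_lit 30) Dv.df)))))) (Tr.nd (nat_lit 65) (Tr.nd (nat_lit 63) (Tr.nd (nat_lit 62) (Tr.lf (Fc.ed (nat_lit 61) (nat_lit 30) Col.d (nat_lit 31) Dv.df)) (Tr.lf (Fc.ed (nat_lit 62) (nat_lit 7) Col.a (nat_lit 32) Dv.df))) (Tr.nd (nat_lit 64) (Tr.lf (Fc.ed (nat_lit 63) (nat_lit 32) Col.d (nat_lit 15) (Dv.wd (nat_lit 22) [Mv.b (nat_lit 28), Mv.f (nat_lit 12), Mv.f (nat_lit 62)]))) (Tr.lf (Fc.ed (nat_lit 64) (nat_lit 8) Col.e (nat_lit 33) Dv.df)))) (Tr.nd (nat_lit 67) (Tr.nd (nat_lit 66) (Tr.lf (Fc.ed (nat_lit 65) (nat_lit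 33) Col.b (nat_lit 16) (Dv.wd (nat_lit 29) [Mv.b (nat_lit 22), Mv.b (nat_lit 14), Mv.f (nat_lit 64)]))) (Tr.lf (Fc.ed (nat_lit 66) (nat_lit 33) Col.f (nat_lit 33) (Dv.wd (nat_lit 30) [Mv.b (nat_lit 64), Mv.f (nat_lit 33), Mv.f (nat_lit 64)])))) (Tr.nd (nat_lit 68) (Tr.lf (Fc.ed (nat_lit 67) (nat_lit 8) Col.a (nat_lit 34) Dv.df)) (Tr.nd (nat_lit 69) (Tr.lf (Fc.ed (nat_lit 68) (nat_lit 34) Col.c (nat_lit 32) (Dv.wd (nat_lit 31) [Mv.b (nat_lit 62), Mv.f (nat_lit 13), Mv.f (nat_lit 67)]))) (Tr.lf (Fc.ed (nat_lit 69) (nat_lit 34) Col.d (nat_lit 8) (Dv.wd (nat_lit 32) [Mv.f (nat_lit 67), Mv.f (nat_lit 68), Mv.f (nat_lit 63), Mv.f (nat_lit 21), Mv.f (nat_lit 44), Mv.b (nat_lit 21), Mv.b (nat_lit 63), Mv.b (nat_lit 68)])))))))))) (Tr.nd (nat_lit 105) (Tr.nd (nat_lit 87) (Tr.nd (nat_lit 78) (Tr.nd (nat_lit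 74) (Tr.nd (nat_lit 72) (Tr.nd (nat_lit 71) (Tr.lf (Fc.ed (nat_lit 70) (nat_lit 13) Col.f (nat_lit 35) Dv.df)) (Tr.lf (Fc.ed (nat_lit 71) (nat_lit 35) Col.c (nat_lit 11) (Dv.wd (nat_lit 15) [Mv.f (nat_lit 17), Mv.f (nat_lit 18), Mv.f (nat_lit 70)])))) (Tr.nd (nat_lit 73) (Tr.lf (Fc.ed (nat_lit 72) (nat_lit 11) Col.d (nat_lit 36) Dv.df)) (Tr.lf (Fc.ed (nat_lit 73) (nat_lit 11) Col.e (nat_lit 37) Dv.df)))) (Tr.nd (nat_lit 76) (Tr.nd (nat_lit 75) (Tr.lf (Fc.ed (nat_lit 74) (nat_lit 37) Col.b (nat_lit 21) (Dv.wd (nat_lit 29) [Mv.b (nat_lit 49), Mv.f (nat_lit 16), Mv.f (nat_lit 73)]))) (Tr.lf (Fc.ed (nat_lit 75) (nat_lit 12) Col.d (nat_lit 38) Dv.df))) (Tr.nd (nat_lit 77) (Tr.lf (Fc.ed (nat_lit 76) (nat_lit 38) Col.f (nat_lit 36) (Dv.wd (nat_lit 12) [Mv.b (nat_lit 72), Mv.f (nat_lit 17), Mv.f (nat_lit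 75)]))) (Tr.lf (Fc.ed (nat_lit 77) (nat_lit 14) Col.c (nat_lit 39) Dv.df))))) (Tr.nd (nat_lit 82) (Tr.nd (nat_lit 80) (Tr.nd (nat_lit 79) (Tr.lf (Fc.ed (nat_lit 78) (nat_lit 14) Col.a (nat_lit 40) Dv.df)) (Tr.lf (Fc.ed (nat_lit 79) (nat_lit 40) Col.f (nat_lit 39) (Dv.wd (nat_lit 33) [Mv.b (nat_lit 77), Mv.f (nat_lit 20), Mv.b (nat_lit 28), Mv.f (nat_lit 31), Mv.b (nat_lit 11), Mv.b (nat_lit 6), Mv.f (nat_lit 35), Mv.b (nat_lit 5), Mv.f (nat_lit 2), Mv.f (nat_lit 1), Mv.f (nat_lit 0), Mv.f (nat_lit 5), Mv.f (nat_lit 36), Mv.f (nat_lit 6), Mv.f (nat_lit 7), Mv.f (nat_lit 30), Mv.b (nat_lit 21), Mv.b (nat_lit 20), Mv.f (nat_lit 78)])))) (Tr.nd (nat_lit 81) (Tr.lf (Fc.ed (nat_lit 80) (nat_lit 16) Col.f (nat_lit 41) Dv.df)) (Tr.lf (Fc.ed (nat_lit 81) (nat_lit 41) Col.c (nat_lit 41) (Dv.wd (nat_lit 15)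 [Mv.b (nat_lit 80), Mv.f (nat_lit 48), Mv.f (nat_lit 80)]))))) (Tr.nd (nat_lit 84) (Tr.nd (nat_lit 83) (Tr.lf (Fc.ed (nat_lit 82) (nat_lit 41) Col.b (nat_lit 41) (Dv.wd (nat_lit 34) [Mv.b (nat_lit 80), Mv.b (nat_lit 65), Mv.f (nat_lit 66), Mv.f (nat_lit 65), Mv.f (nat_lit 80)]))) (Tr.lf (Fc.ed (nat_lit 83) (nat_lit 17) Col.f (nat_lit 42) Dv.df))) (Tr.nd (nat_lit 85) (Tr.lf (Fc.ed (nat_lit 84) (nat_lit 42) Col.c (nat_lit 19) (Dv.wd (nat_lit 15) [Mv.b (nat_lit 25), Mv.b (nat_lit 24), Mv.f (nat_lit 83)]))) (Tr.nd (nat_lit 86) (Tr.lf (Fc.ed (nat_lit 85) (nat_lit 42) Col.d (nat_lit 41) (Dv.wd (nat_lit 16) [Mv.b (nat_lit 80), Mv.f (nat_lit 23), Mv.f (nat_lit 83)]))) (Tr.lf (Fc.ed (nat_lit 86) (nat_lit 42) Col.b (nat_lit 42) (Dv.wd (nat_lit 24) [Mv.f (nat_lit 85), Mv.f (nat_lit 82), Mv.b (nat_lit 85)]))))))))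 (Tr.nd (nat_lit 96) (Tr.nd (nat_lit 91) (Tr.nd (nat_lit 89) (Tr.nd (nat_lit 88) (Tr.lf (Fc.ed (nat_lit 87) (nat_lit 20) Col.c (nat_lit 20) (Dv.wd (nat_lit 25) [Mv.b (nat_lit 26), Mv.b (nat_lit 84), Mv.f (nat_lit 86), Mv.f (nat_lit 84), Mv.f (nat_lit 26)]))) (Tr.lf (Fc.ed (nat_lit 88) (nat_lit 17) Col.b (nat_lit 43) Dv.df))) (Tr.nd (nat_lit 90) (Tr.lf (Fc.ed (nat_lit 89) (nat_lit 43) Col.d (nat_lit 33) (Dv.wd (nat_lit 21) [Mv.f (nat_lit 65), Mv.f (nat_lit 23), Mv.f (nat_lit 88)]))) (Tr.lf (Fc.ed (nat_lit 90) (nat_lit 17) Col.e (nat_lit 44) Dv.df)))) (Tr.nd (nat_lit 93) (Tr.nd (nat_lit 92) (Tr.lf (Fc.ed (nat_lit 91) (nat_lit 14) Col.f (nat_lit 45) Dv.df)) (Tr.lf (Fc.ed (nat_lit 92) (nat_lit 45) Col.c (nat_lit 40) (Dv.wd (nat_lit 15) [Mv.f (nat_lit 79), Mv.b (nat_lit 77), Mv.f (nat_lit 91)])))) (Tr.nd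 (nat_lit 94) (Tr.lf (Fc.ed (nat_lit 93) (nat_lit 45) Col.d (nat_lit 35) (Dv.wd (nat_lit 16) [Mv.b (nat_lit 70), Mv.f (nat_lit 19), Mv.f (nat_lit 91)]))) (Tr.nd (nat_lit 95) (Tr.lf (Fc.ed (nat_lit 94) (nat_lit 45) Col.e (nat_lit 45) (Dv.wd (nat_lit 17) [Mv.b (nat_lit 91), Mv.f (nat_lit 42), Mv.f (nat_lit 91)]))) (Tr.lf (Fc.ed (nat_lit 95) (nat_lit 36) Col.c (nat_lit 38) (Dv.wd (nat_lit 35) [Mv.b (nat_lit 75), Mv.f (nat_lit 18), Mv.f (nat_lit 19), Mv.f (nat_lit 78), Mv.b (nat_lit 92), Mv.f (nat_lit 93), Mv.f (nat_lit 71), Mv.f (nat_lit 72)]))))))) (Tr.nd (nat_lit 100) (Tr.nd (nat_lit 98) (Tr.nd (nat_lit 97) (Tr.lf (Fc.ed (nat_lit 96) (nat_lit 19) Col.d (nat_lit 46) Dv.df)) (Tr.lf (Fc.ed (nat_lit 97) (nat_lit 20) Col.d (nat_lit 47) Dv.df))) (Tr.nd (nat_lit 99) (Tr.lf (Fc.ed (nat_lit 98) (nat_lit 47)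 Col.a (nat_lit 47) (Dv.wd (nat_lit 28) [Mv.b (nat_lit 97), Mv.f (nat_lit 27), Mv.f (nat_lit 97)]))) (Tr.lf (Fc.ed (nat_lit 99) (nat_lit 47) Col.b (nat_lit 46) (Dv.wd (nat_lit 36) [Mv.b (nat_lit 96), Mv.f (nat_lit 26), Mv.f (nat_lit 97)]))))) (Tr.nd (nat_lit 102) (Tr.nd (nat_lit 101) (Tr.lf (Fc.ed (nat_lit 100) (nat_lit 22) Col.b (nat_lit 48) Dv.df)) (Tr.lf (Fc.ed (nat_lit 101) (nat_lit 48) Col.d (nat_lit 37) (Dv.wd (nat_lit 21) [Mv.f (nat_lit 74), Mv.f (nat_lit 51), Mv.f (nat_lit 100)])))) (Tr.nd (nat_lit 103) (Tr.lf (Fc.ed (nat_lit 102) (nat_lit 18) Col.d (nat_lit 49) Dv.df)) (Tr.nd (nat_lit 104) (Tr.lf (Fc.ed (nat_lit 103) (nat_lit 49) Col.f (nat_lit 46) (Dv.wd (nat_lit 12) [Mv.b (nat_lit 96), Mv.b (nat_lit 25), Mv.f (nat_lit 102)]))) (Tr.lf (Fc.ed (nat_lit 104) (nat_lit 18) Col.b (nat_lit 50)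 Dv.df)))))))) (Tr.nd (nat_lit 123) (Tr.nd (nat_lit 114) (Tr.nd (nat_lit 109) (Tr.nd (nat_lit 107) (Tr.nd (nat_lit 106) (Tr.lf (Fc.ed (nat_lit 105) (nat_lit 22) Col.e (nat_lit 51) Dv.df)) (Tr.lf (Fc.ed (nat_lit 106) (nat_lit 51) Col.a (nat_lit 44) (Dv.wd (nat_lit 27) [Mv.b (nat_lit 90), Mv.b (nat_lit 52), Mv.f (nat_lit 105)])))) (Tr.nd (nat_lit 108) (Tr.lf (Fc.ed (nat_lit 107) (nat_lit 23) Col.d (nat_lit 52) Dv.df)) (Tr.lf (Fc.ed (nat_lit 108) (nat_lit 52) Col.b (nat_lit 25) (Dv.wd (nat_lit 36) [Mv.b (nat_lit 55), Mv.b (nat_lit 54), Mv.f (nat_lit 107)]))))) (Tr.nd (nat_lit 111) (Tr.nd (nat_lit 110) (Tr.lf (Fc.ed (nat_lit 109) (nat_lit 52) Col.c (nat_lit 49) (Dv.wd (nat_lit 37) [Mv.b (nat_lit 102), Mv.b (nat_lit 24), Mv.b (nat_lit 23), Mv.f (nat_lit 48), Mv.f (nat_lit 23), Mv.b (nat_lit 52), Mv.f (nat_lit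 53), Mv.f (nat_lit 107)]))) (Tr.lf (Fc.ed (nat_lit 110) (nat_lit 25) Col.c (nat_lit 53) Dv.df))) (Tr.nd (nat_lit 112) (Tr.lf (Fc.ed (nat_lit 111) (nat_lit 53) Col.f (nat_lit 27) (Dv.wd (nat_lit 11) [Mv.b (nat_lit 57), Mv.b (nat_lit 56), Mv.f (nat_lit 110)]))) (Tr.nd (nat_lit 113) (Tr.lf (Fc.ed (nat_lit 112) (nat_lit 24) Col.c (nat_lit 54) Dv.df)) (Tr.lf (Fc.ed (nat_lit 113) (nat_lit 26) Col.b (nat_lit 55) Dv.df)))))) (Tr.nd (nat_lit 118) (Tr.nd (nat_lit 116) (Tr.nd (nat_lit 115) (Tr.lf (Fc.ed (nat_lit 114) (nat_lit 27) Col.b (nat_lit 56) Dv.df)) (Tr.lf (Fc.ed (nat_lit 115) (nat_lit 56) Col.d (nat_lit 29) (Dv.wd (nat_lit 21) [Mv.b (nat_lit 59), Mv.b (nat_lit 58), Mv.f (nat_lit 114)])))) (Tr.nd (nat_lit 117) (Tr.lf (Fc.ed (nat_lit 116) (nat_lit 29) Col.f (nat_lit 57) Dv.df)) (Tr.lf (Fc.ed (nat_lit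 117) (nat_lit 28) Col.f (nat_lit 58) Dv.df)))) (Tr.nd (nat_lit 120) (Tr.nd (nat_lit 119) (Tr.lf (Fc.ed (nat_lit 118) (nat_lit 58) Col.d (nat_lit 53) (Dv.wd (nat_lit 16) [Mv.f (nat_lit 111), Mv.f (nat_lit 58), Mv.f (nat_lit 117)]))) (Tr.lf (Fc.ed (nat_lit 119) (nat_lit 29) Col.a (nat_lit 59) Dv.df))) (Tr.nd (nat_lit 121) (Tr.lf (Fc.ed (nat_lit 120) (nat_lit 28) Col.a (nat_lit 60) Dv.df)) (Tr.nd (nat_lit 122) (Tr.lf (Fc.ed (nat_lit 121) (nat_lit 30) Col.f (nat_lit 61) Dv.df)) (Tr.lf (Fc.ed (nat_lit 122) (nat_lit 61) Col.c (nat_lit 57) (Dv.wd (nat_lit 15) [Mv.b (nat_lit 116), Mv.f (nat_lit 60), Mv.f (nat_lit 121)])))))))) (Tr.nd (nat_lit 132) (Tr.nd (nat_lit 127) (Tr.nd (nat_lit 125) (Tr.nd (nat_lit 124) (Tr.lf (Fc.ed (nat_lit 123) (nat_lit 31) Col.c (nat_lit 62) Dv.df)) (Tr.lf (Fc.ed (nat_lit 124)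 (nat_lit 28) Col.c (nat_lit 63) Dv.df))) (Tr.nd (nat_lit 126) (Tr.lf (Fc.ed (nat_lit 125) (nat_lit 30) Col.a (nat_lit 64) Dv.df)) (Tr.lf (Fc.ed (nat_lit 126) (nat_lit 31) Col.a (nat_lit 65) Dv.df)))) (Tr.nd (nat_lit 129) (Tr.nd (nat_lit 128) (Tr.lf (Fc.ed (nat_lit 127) (nat_lit 65) Col.d (nat_lit 64) (Dv.wd (nat_lit 22) [Mv.b (nat_lit 125), Mv.f (nat_lit 61), Mv.f (nat_lit 126)]))) (Tr.lf (Fc.ed (nat_lit 128) (nat_lit 31) Col.f (nat_lit 66) Dv.df))) (Tr.nd (nat_lit 130) (Tr.lf (Fc.ed (nat_lit 129) (nat_lit 66) Col.d (nat_lit 61) (Dv.wd (nat_lit 16) [Mv.b (nat_lit 121), Mv.f (nat_lit 61), Mv.f (nat_lit 128)]))) (Tr.nd (nat_lit 131) (Tr.lf (Fc.ed (nat_lit 130) (nat_lit 33) Col.a (nat_lit 67) Dv.df)) (Tr.lf (Fc.ed (nat_lit 131) (nat_lit 67) Col.e (nat_lit 34) (Dv.wd (nat_lit 20) [Mv.b (nat_lit 67),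 Mv.f (nat_lit 64), Mv.f (nat_lit 130)]))))))) (Tr.nd (nat_lit 136) (Tr.nd (nat_lit 134) (Tr.nd (nat_lit 133) (Tr.lf (Fc.ed (nat_lit 132) (nat_lit 35) Col.e (nat_lit 68) Dv.df)) (Tr.lf (Fc.ed (nat_lit 133) (nat_lit 68) Col.c (nat_lit 37) (Dv.wd (nat_lit 38) [Mv.b (nat_lit 73), Mv.b (nat_lit 71), Mv.f (nat_lit 132)])))) (Tr.nd (nat_lit 135) (Tr.lf (Fc.ed (nat_lit 134) (nat_lit 68) Col.d (nat_lit 68) (Dv.wd (nat_lit 39) [Mv.b (nat_lit 132), Mv.b (nat_lit 93), Mv.f (nat_lit 94), Mv.f (nat_lit 93), Mv.f (nat_lit 132)]))) (Tr.lf (Fc.ed (nat_lit 135) (nat_lit 36) Col.e (nat_lit 69) Dv.df)))) (Tr.nd (nat_lit 138) (Tr.nd (nat_lit 137) (Tr.lf (Fc.ed (nat_lit 136) (nat_lit 38) Col.e (nat_lit 70) Dv.df)) (Tr.lf (Fc.ed (nat_lit 137) (nat_lit 70) Col.c (nat_lit 69) (Dv.wd (nat_lit 38) [Mv.b (nat_lit 135), Mv.f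 (nat_lit 95), Mv.f (nat_lit 136)])))) (Tr.nd (nat_lit 139) (Tr.lf (Fc.ed (nat_lit 138) (nat_lit 70) Col.f (nat_lit 69) (Dv.wd (nat_lit 30) [Mv.b (nat_lit 135), Mv.b (nat_lit 76), Mv.f (nat_lit 136)]))) (Tr.nd (nat_lit 140) (Tr.lf (Fc.ed (nat_lit 139) (nat_lit 43) Col.e (nat_lit 71) Dv.df)) (Tr.lf (Fc.ed (nat_lit 140) (nat_lit 71) Col.b (nat_lit 44) (Dv.wd (nat_lit 29) [Mv.b (nat_lit 90), Mv.f (nat_lit 88), Mv.f (nat_lit 139)]))))))))))) (Tr.nd (nat_lit 211) (Tr.nd (nat_lit 176) (Tr.nd (nat_lit 158) (Tr.nd (nat_lit 149) (Tr.nd (nat_lit 145) (Tr.nd (nat_lit 143) (Tr.nd (nat_lit 142) (Tr.lf (Fc.ed (nat_lit 141) (nat_lit 71) Col.d (nat_lit 67) (Dv.wd (nat_lit 39) [Mv.f (nat_lit 131), Mv.f (nat_lit 69), Mv.f (nat_lit 64), Mv.b (nat_lit 89), Mv.f (nat_lit 139)]))) (Tr.lf (Fc.ed (nat_lit 142) (nat_lit 43)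 Col.a (nat_lit 71) (Dv.wd (nat_lit 40) [Mv.f (nat_lit 141), Mv.b (nat_lit 130), Mv.b (nat_lit 89)])))) (Tr.nd (nat_lit 144) (Tr.lf (Fc.ed (nat_lit 143) (nat_lit 46) Col.c (nat_lit 72) Dv.df)) (Tr.lf (Fc.ed (nat_lit 144) (nat_lit 72) Col.f (nat_lit 52) (Dv.wd (nat_lit 11) [Mv.f (nat_lit 109), Mv.f (nat_lit 103), Mv.f (nat_lit 143)]))))) (Tr.nd (nat_lit 147) (Tr.nd (nat_lit 146) (Tr.lf (Fc.ed (nat_lit 145) (nat_lit 72) Col.a (nat_lit 46) (Dv.wd (nat_lit 41) [Mv.b (nat_lit 96), Mv.b (nat_lit 84), Mv.f (nat_lit 85), Mv.f (nat_lit 81), Mv.b (nat_lit 85), Mv.f (nat_lit 84), Mv.f (nat_lit 96), Mv.f (nat_lit 143)]))) (Tr.lf (Fc.ed (nat_lit 146) (nat_lit 47) Col.c (nat_lit 73) Dv.df))) (Tr.nd (nat_lit 148) (Tr.lf (Fc.ed (nat_lit 147) (nat_lit 47) Col.f (nat_lit 74) Dv.df)) (Tr.lf (Fc.ed (nat_lit 148) (nat_lit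 74) Col.a (nat_lit 74) (Dv.wd (nat_lit 42) [Mv.b (nat_lit 147), Mv.f (nat_lit 98), Mv.f (nat_lit 147)])))))) (Tr.nd (nat_lit 153) (Tr.nd (nat_lit 151) (Tr.nd (nat_lit 150) (Tr.lf (Fc.ed (nat_lit 149) (nat_lit 48) Col.e (nat_lit 75) Dv.df)) (Tr.lf (Fc.ed (nat_lit 150) (nat_lit 75) Col.b (nat_lit 51) (Dv.wd (nat_lit 29) [Mv.b (nat_lit 105), Mv.f (nat_lit 100), Mv.f (nat_lit 149)])))) (Tr.nd (nat_lit 152) (Tr.lf (Fc.ed (nat_lit 151) (nat_lit 75) Col.d (nat_lit 69) (Dv.wd (nat_lit 39) [Mv.b (nat_lit 135), Mv.b (nat_lit 72), Mv.f (nat_lit 73), Mv.b (nat_lit 101), Mv.f (nat_lit 149)]))) (Tr.lf (Fc.ed (nat_lit 152) (nat_lit 48) Col.a (nat_lit 76) Dv.df)))) (Tr.nd (nat_lit 155) (Tr.nd (nat_lit 154) (Tr.lf (Fc.ed (nat_lit 153) (nat_lit 48) Col.c (nat_lit 77) Dv.df)) (Tr.lf (Fc.ed (nat_lit 154) (nat_lit 77)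 Col.b (nat_lit 54) (Dv.wd (nat_lit 43) [Mv.b (nat_lit 112), Mv.b (nat_lit 54), Mv.b (nat_lit 53), Mv.f (nat_lit 100), Mv.f (nat_lit 153)])))) (Tr.nd (nat_lit 156) (Tr.lf (Fc.ed (nat_lit 155) (nat_lit 50) Col.a (nat_lit 78) Dv.df)) (Tr.nd (nat_lit 157) (Tr.lf (Fc.ed (nat_lit 156) (nat_lit 50) Col.d (nat_lit 79) Dv.df)) (Tr.lf (Fc.ed (nat_lit 157) (nat_lit 79) Col.b (nat_lit 49) (Dv.wd (nat_lit 36) [Mv.b (nat_lit 102), Mv.f (nat_lit 104), Mv.f (nat_lit 156)])))))))) (Tr.nd (nat_lit 167) (Tr.nd (nat_lit 162) (Tr.nd (nat_lit 160) (Tr.nd (nat_lit 159) (Tr.lf (Fc.ed (nat_lit 158) (nat_lit 54) Col.d (nat_lit 80) Dv.df)) (Tr.lf (Fc.ed (nat_lit 159) (nat_lit 53) Col.b (nat_lit 81) Dv.df))) (Tr.nd (nat_lit 161) (Tr.lf (Fc.ed (nat_lit 160) (nat_lit 81) Col.c (nat_lit 79) (Dv.wd (nat_lit 44) [Mv.f (nat_lit 157),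 Mv.b (nat_lit 109), Mv.f (nat_lit 108), Mv.f (nat_lit 110), Mv.f (nat_lit 159)]))) (Tr.lf (Fc.ed (nat_lit 161) (nat_lit 55) Col.f (nat_lit 82) Dv.df)))) (Tr.nd (nat_lit 164) (Tr.nd (nat_lit 163) (Tr.lf (Fc.ed (nat_lit 162) (nat_lit 82) Col.b (nat_lit 72) (Dv.wd (nat_lit 34) [Mv.f (nat_lit 144), Mv.f (nat_lit 108), Mv.f (nat_lit 56), Mv.f (nat_lit 113), Mv.f (nat_lit 161)]))) (Tr.lf (Fc.ed (nat_lit 163) (nat_lit 55) Col.c (nat_lit 83) Dv.df))) (Tr.nd (nat_lit 165) (Tr.lf (Fc.ed (nat_lit 164) (nat_lit 56) Col.a (nat_lit 84) Dv.df)) (Tr.nd (nat_lit 166) (Tr.lf (Fc.ed (nat_lit 165) (nat_lit 84) Col.d (nat_lit 59) (Dv.wd (nat_lit 22) [Mv.b (nat_lit 119), Mv.b (nat_lit 115), Mv.f (nat_lit 164)]))) (Tr.lf (Fc.ed (nat_lit 166) (nat_lit 56) Col.f (nat_lit 85) Dv.df)))))) (Tr.nd (nat_lit 171) (Tr.nd (nat_lit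 169) (Tr.nd (nat_lit 168) (Tr.lf (Fc.ed (nat_lit 167) (nat_lit 85) Col.d (nat_lit 57) (Dv.wd (nat_lit 16) [Mv.b (nat_lit 116), Mv.b (nat_lit 115), Mv.f (nat_lit 166)]))) (Tr.lf (Fc.ed (nat_lit 168) (nat_lit 57) Col.a (nat_lit 86) Dv.df))) (Tr.nd (nat_lit 170) (Tr.lf (Fc.ed (nat_lit 169) (nat_lit 86) Col.f (nat_lit 59) (Dv.wd (nat_lit 10) [Mv.b (nat_lit 119), Mv.f (nat_lit 116), Mv.f (nat_lit 168)]))) (Tr.lf (Fc.ed (nat_lit 170) (nat_lit 56) Col.c (nat_lit 87) Dv.df)))) (Tr.nd (nat_lit 173) (Tr.nd (nat_lit 172) (Tr.lf (Fc.ed (nat_lit 171) (nat_lit 87) Col.b (nat_lit 83) (Dv.wd (nat_lit 43) [Mv.b (nat_lit 163), Mv.b (nat_lit 113), Mv.f (nat_lit 57), Mv.f (nat_lit 114), Mv.f (nat_lit 170)]))) (Tr.lf (Fc.ed (nat_lit 172) (nat_lit 58) Col.c (nat_lit 88) Dv.df))) (Tr.nd (nat_lit 174) (Tr.lf (Fc.ed (nat_lit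 173) (nat_lit 88) Col.f (nat_lit 63) (Dv.wd (nat_lit 11) [Mv.b (nat_lit 124), Mv.f (nat_lit 117), Mv.f (nat_lit 172)]))) (Tr.nd (nat_lit 175) (Tr.lf (Fc.ed (nat_lit 174) (nat_lit 58) Col.a (nat_lit 89) Dv.df)) (Tr.lf (Fc.ed (nat_lit 175) (nat_lit 89) Col.f (nat_lit 60) (Dv.wd (nat_lit 10) [Mv.b (nat_lit 120), Mv.f (nat_lit 117), Mv.f (nat_lit 174)]))))))))) (Tr.nd (nat_lit 193) (Tr.nd (nat_lit 184) (Tr.nd (nat_lit 180) (Tr.nd (nat_lit 178) (Tr.nd (nat_lit 177) (Tr.lf (Fc.ed (nat_lit 176) (nat_lit 61) Col.a (nat_lit 90) Dv.df)) (Tr.lf (Fc.ed (nat_lit 177) (nat_lit 90) Col.c (nat_lit 86) (Dv.wd (nat_lit 31) [Mv.b (nat_lit 168), Mv.b (nat_lit 122), Mv.f (nat_lit 176)])))) (Tr.nd (nat_lit 179) (Tr.lf (Fc.ed (nat_lit 178) (nat_lit 90) Col.f (nat_lit 64) (Dv.wd (nat_lit 10) [Mv.b (nat_lit 125), Mv.f (nat_lit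 121), Mv.f (nat_lit 176)]))) (Tr.lf (Fc.ed (nat_lit 179) (nat_lit 62) Col.f (nat_lit 91) Dv.df)))) (Tr.nd (nat_lit 182) (Tr.nd (nat_lit 181) (Tr.lf (Fc.ed (nat_lit 180) (nat_lit 91) Col.c (nat_lit 66) (Dv.wd (nat_lit 15) [Mv.b (nat_lit 128), Mv.f (nat_lit 123), Mv.f (nat_lit 179)]))) (Tr.lf (Fc.ed (nat_lit 181) (nat_lit 65) Col.f (nat_lit 92) Dv.df))) (Tr.nd (nat_lit 183) (Tr.lf (Fc.ed (nat_lit 182) (nat_lit 92) Col.a (nat_lit 66) (Dv.wd (nat_lit 42) [Mv.b (nat_lit 128), Mv.f (nat_lit 126), Mv.f (nat_lit 181)]))) (Tr.lf (Fc.ed (nat_lit 183) (nat_lit 92) Col.d (nat_lit 90) (Dv.wd (nat_lit 16) [Mv.f (nat_lit 178), Mv.b (nat_lit 127), Mv.f (nat_lit 181)])))))) (Tr.nd (nat_lit 188) (Tr.nd (nat_lit 186) (Tr.nd (nat_lit 185) (Tr.lf (Fc.ed (nat_lit 184) (nat_lit 69) Col.a (nat_lit 93) Dv.df)) (Tr.lf (Fc.ed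 (nat_lit 185) (nat_lit 70) Col.a (nat_lit 94) Dv.df))) (Tr.nd (nat_lit 187) (Tr.lf (Fc.ed (nat_lit 186) (nat_lit 94) Col.c (nat_lit 93) (Dv.wd (nat_lit 31) [Mv.b (nat_lit 184), Mv.b (nat_lit 137), Mv.f (nat_lit 185)]))) (Tr.lf (Fc.ed (nat_lit 187) (nat_lit 70) Col.d (nat_lit 95) Dv.df)))) (Tr.nd (nat_lit 190) (Tr.nd (nat_lit 189) (Tr.lf (Fc.ed (nat_lit 188) (nat_lit 95) Col.f (nat_lit 75) (Dv.wd (nat_lit 12) [Mv.f (nat_lit 151), Mv.b (nat_lit 138), Mv.f (nat_lit 187)]))) (Tr.lf (Fc.ed (nat_lit 189) (nat_lit 73) Col.d (nat_lit 96) Dv.df))) (Tr.nd (nat_lit 191) (Tr.lf (Fc.ed (nat_lit 190) (nat_lit 96) Col.c (nat_lit 96) (Dv.wd (nat_lit 37) [Mv.b (nat_lit 189), Mv.b (nat_lit 146), Mv.b (nat_lit 97), Mv.f (nat_lit 87), Mv.f (nat_lit 97), Mv.f (nat_lit 98), Mv.f (nat_lit 146), Mv.f (nat_lit 189)]))) (Tr.nd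 (nat_lit 192) (Tr.lf (Fc.ed (nat_lit 191) (nat_lit 74) Col.c (nat_lit 97) Dv.df)) (Tr.lf (Fc.ed (nat_lit 192) (nat_lit 97) Col.a (nat_lit 97) (Dv.wd (nat_lit 45) [Mv.b (nat_lit 191), Mv.f (nat_lit 148), Mv.f (nat_lit 191)])))))))) (Tr.nd (nat_lit 202) (Tr.nd (nat_lit 197) (Tr.nd (nat_lit 195) (Tr.nd (nat_lit 194) (Tr.lf (Fc.ed (nat_lit 193) (nat_lit 97) Col.f (nat_lit 73) (Dv.wd (nat_lit 11) [Mv.b (nat_lit 146), Mv.f (nat_lit 147), Mv.f (nat_lit 191)]))) (Tr.lf (Fc.ed (nat_lit 194) (nat_lit 75) Col.a (nat_lit 98) Dv.df))) (Tr.nd (nat_lit 196) (Tr.lf (Fc.ed (nat_lit 195) (nat_lit 98) Col.d (nat_lit 93) (Dv.wd (nat_lit 22) [Mv.b (nat_lit 184), Mv.b (nat_lit 151), Mv.f (nat_lit 194)]))) (Tr.lf (Fc.ed (nat_lit 196) (nat_lit 98) Col.e (nat_lit 76) (Dv.wd (nat_lit 20) [Mv.b (nat_lit 152), Mv.f (nat_lit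 149), Mv.f (nat_lit 194)]))))) (Tr.nd (nat_lit 199) (Tr.nd (nat_lit 198) (Tr.lf (Fc.ed (nat_lit 197) (nat_lit 98) Col.b (nat_lit 76) (Dv.wd (nat_lit 46) [Mv.b (nat_lit 152), Mv.b (nat_lit 100), Mv.f (nat_lit 52), Mv.f (nat_lit 88), Mv.f (nat_lit 142), Mv.f (nat_lit 140), Mv.b (nat_lit 106), Mv.b (nat_lit 150), Mv.f (nat_lit 194)]))) (Tr.lf (Fc.ed (nat_lit 198) (nat_lit 74) Col.b (nat_lit 99) Dv.df))) (Tr.nd (nat_lit 200) (Tr.lf (Fc.ed (nat_lit 199) (nat_lit 99) Col.f (nat_lit 79) (Dv.wd (nat_lit 9) [Mv.f (nat_lit 157), Mv.f (nat_lit 103), Mv.b (nat_lit 99), Mv.f (nat_lit 147), Mv.f (nat_lit 198)]))) (Tr.nd (nat_lit 201) (Tr.lf (Fc.ed (nat_lit 200) (nat_lit 75) Col.c (nat_lit 100) Dv.df)) (Tr.lf (Fc.ed (nat_lit 201) (nat_lit 76) Col.c (nat_lit 101) Dv.df)))))) (Tr.nd (nat_lit 206) (Tr.nd (nat_lit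 204) (Tr.nd (nat_lit 203) (Tr.lf (Fc.ed (nat_lit 202) (nat_lit 101) Col.d (nat_lit 77) (Dv.wd (nat_lit 47) [Mv.b (nat_lit 153), Mv.f (nat_lit 101), Mv.b (nat_lit 133), Mv.f (nat_lit 134), Mv.f (nat_lit 133), Mv.b (nat_lit 101), Mv.f (nat_lit 152), Mv.f (nat_lit 201)]))) (Tr.lf (Fc.ed (nat_lit 203) (nat_lit 80) Col.b (nat_lit 101) (Dv.wd (nat_lit 24) [Mv.f (nat_lit 202), Mv.f (nat_lit 154), Mv.f (nat_lit 158)])))) (Tr.nd (nat_lit 205) (Tr.lf (Fc.ed (nat_lit 204) (nat_lit 78) Col.d (nat_lit 102) Dv.df)) (Tr.lf (Fc.ed (nat_lit 205) (nat_lit 102) Col.a (nat_lit 79) (Dv.wd (nat_lit 28) [Mv.b (nat_lit 156), Mv.f (nat_lit 155), Mv.f (nat_lit 204)]))))) (Tr.nd (nat_lit 208) (Tr.nd (nat_lit 207) (Tr.lf (Fc.ed (nat_lit 206) (nat_lit 80) Col.e (nat_lit 103) Dv.df)) (Tr.lf (Fc.ed (nat_lit 207) (nat_lit 80) Col.c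 (nat_lit 104) Dv.df))) (Tr.nd (nat_lit 209) (Tr.lf (Fc.ed (nat_lit 208) (nat_lit 81) Col.f (nat_lit 105) Dv.df)) (Tr.nd (nat_lit 210) (Tr.lf (Fc.ed (nat_lit 209) (nat_lit 105) Col.c (nat_lit 99) (Dv.wd (nat_lit 15) [Mv.f (nat_lit 199), Mv.b (nat_lit 160), Mv.f (nat_lit 208)]))) (Tr.lf (Fc.ed (nat_lit 210) (nat_lit 105) Col.b (nat_lit 85) (Dv.wd (nat_lit 34) [Mv.b (nat_lit 166), Mv.b (nat_lit 114), Mv.b (nat_lit 111), Mv.f (nat_lit 159), Mv.f (nat_lit 208)])))))))))) (Tr.nd (nat_lit 246) (Tr.nd (nat_lit 228) (Tr.nd (nat_lit 219) (Tr.nd (nat_lit 215) (Tr.nd (nat_lit 213) (Tr.nd (nat_lit 212) (Tr.lf (Fc.ed (nat_lit 211) (nat_lit 82) Col.a (nat_lit 106) Dv.df)) (Tr.lf (Fc.ed (nat_lit 212) (nat_lit 106) Col.b (nat_lit 106) (Dv.wd (nat_lit 46) [Mv.b (nat_lit 211), Mv.f (nat_lit 162), Mv.f (nat_lit 145),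 Mv.b (nat_lit 99), Mv.f (nat_lit 98), Mv.f (nat_lit 99), Mv.b (nat_lit 145), Mv.b (nat_lit 162), Mv.f (nat_lit 211)])))) (Tr.nd (nat_lit 214) (Tr.lf (Fc.ed (nat_lit 213) (nat_lit 84) Col.b (nat_lit 107) Dv.df)) (Tr.lf (Fc.ed (nat_lit 214) (nat_lit 85) Col.c (nat_lit 108) Dv.df)))) (Tr.nd (nat_lit 217) (Tr.nd (nat_lit 216) (Tr.lf (Fc.ed (nat_lit 215) (nat_lit 108) Col.f (nat_lit 87) (Dv.wd (nat_lit 11) [Mv.b (nat_lit 170), Mv.f (nat_lit 166), Mv.f (nat_lit 214)]))) (Tr.lf (Fc.ed (nat_lit 216) (nat_lit 108) Col.b (nat_lit 97) (Dv.wd (nat_lit 43) [Mv.b (nat_lit 191), Mv.f (nat_lit 198), Mv.b (nat_lit 209), Mv.f (nat_lit 210), Mv.f (nat_lit 214)])))) (Tr.nd (nat_lit 218) (Tr.lf (Fc.ed (nat_lit 217) (nat_lit 84) Col.f (nat_lit 109) Dv.df)) (Tr.lf (Fc.ed (nat_lit 218) (nat_lit 109) Col.d (nat_lit 86) (Dv.wd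 (nat_lit 16) [Mv.f (nat_lit 169), Mv.b (nat_lit 165), Mv.f (nat_lit 217)])))))) (Tr.nd (nat_lit 223) (Tr.nd (nat_lit 221) (Tr.nd (nat_lit 220) (Tr.lf (Fc.ed (nat_lit 219) (nat_lit 88) Col.d (nat_lit 110) Dv.df)) (Tr.lf (Fc.ed (nat_lit 220) (nat_lit 110) Col.a (nat_lit 104) (Dv.wd (nat_lit 48) [Mv.b (nat_lit 207), Mv.b (nat_lit 158), Mv.b (nat_lit 112), Mv.f (nat_lit 55), Mv.f (nat_lit 110), Mv.b (nat_lit 118), Mv.f (nat_lit 172), Mv.f (nat_lit 219)])))) (Tr.nd (nat_lit 222) (Tr.lf (Fc.ed (nat_lit 221) (nat_lit 88) Col.a (nat_lit 111) Dv.df)) (Tr.lf (Fc.ed (nat_lit 222) (nat_lit 111) Col.c (nat_lit 89) (Dv.wd (nat_lit 31) [Mv.b (nat_lit 174), Mv.f (nat_lit 172), Mv.f (nat_lit 221)]))))) (Tr.nd (nat_lit 225) (Tr.nd (nat_lit 224) (Tr.lf (Fc.ed (nat_lit 223) (nat_lit 111) Col.d (nat_lit 104) (Dv.wd (nat_lit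 22) [Mv.b (nat_lit 220), Mv.b (nat_lit 219), Mv.f (nat_lit 221)]))) (Tr.lf (Fc.ed (nat_lit 224) (nat_lit 90) Col.b (nat_lit 112) Dv.df))) (Tr.nd (nat_lit 226) (Tr.lf (Fc.ed (nat_lit 225) (nat_lit 91) Col.d (nat_lit 113) Dv.df)) (Tr.nd (nat_lit 227) (Tr.lf (Fc.ed (nat_lit 226) (nat_lit 91) Col.a (nat_lit 114) Dv.df)) (Tr.lf (Fc.ed (nat_lit 227) (nat_lit 114) Col.c (nat_lit 92) (Dv.wd (nat_lit 31) [Mv.f (nat_lit 182), Mv.b (nat_lit 180), Mv.f (nat_lit 226)])))))))) (Tr.nd (nat_lit 237) (Tr.nd (nat_lit 232) (Tr.nd (nat_lit 230) (Tr.nd (nat_lit 229) (Tr.lf (Fc.ed (nat_lit 228) (nat_lit 92) Col.b (nat_lit 115) Dv.df)) (Tr.lf (Fc.ed (nat_lit 229) (nat_lit 115) Col.d (nat_lit 112) (Dv.wd (nat_lit 21) [Mv.b (nat_lit 224), Mv.b (nat_lit 183), Mv.f (nat_lit 228)])))) (Tr.nd (nat_lit 231) (Tr.lf (Fc.ed (nat_lit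 230) (nat_lit 94) Col.d (nat_lit 116) Dv.df)) (Tr.lf (Fc.ed (nat_lit 231) (nat_lit 116) Col.a (nat_lit 95) (Dv.wd (nat_lit 28) [Mv.b (nat_lit 187), Mv.f (nat_lit 185), Mv.f (nat_lit 230)]))))) (Tr.nd (nat_lit 234) (Tr.nd (nat_lit 233) (Tr.lf (Fc.ed (nat_lit 232) (nat_lit 95) Col.c (nat_lit 117) Dv.df)) (Tr.lf (Fc.ed (nat_lit 233) (nat_lit 117) Col.f (nat_lit 100) (Dv.wd (nat_lit 11) [Mv.b (nat_lit 200), Mv.b (nat_lit 188), Mv.f (nat_lit 232)])))) (Tr.nd (nat_lit 235) (Tr.lf (Fc.ed (nat_lit 234) (nat_lit 96) Col.f (nat_lit 118) Dv.df)) (Tr.nd (nat_lit 236) (Tr.lf (Fc.ed (nat_lit 235) (nat_lit 118) Col.c (nat_lit 118) (Dv.wd (nat_lit 15) [Mv.b (nat_lit 234), Mv.f (nat_lit 190), Mv.f (nat_lit 234)]))) (Tr.lf (Fc.ed (nat_lit 236) (nat_lit 118) Col.d (nat_lit 97) (Dv.wd (nat_lit 16) [Mv.f (nat_lit 193),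 Mv.f (nat_lit 189), Mv.f (nat_lit 234)]))))))) (Tr.nd (nat_lit 241) (Tr.nd (nat_lit 239) (Tr.nd (nat_lit 238) (Tr.lf (Fc.ed (nat_lit 237) (nat_lit 99) Col.a (nat_lit 119) Dv.df)) (Tr.lf (Fc.ed (nat_lit 238) (nat_lit 119) Col.f (nat_lit 102) (Dv.wd (nat_lit 10) [Mv.f (nat_lit 205), Mv.b (nat_lit 199), Mv.f (nat_lit 237)])))) (Tr.nd (nat_lit 240) (Tr.lf (Fc.ed (nat_lit 239) (nat_lit 98) Col.c (nat_lit 120) Dv.df)) (Tr.lf (Fc.ed (nat_lit 240) (nat_lit 120) Col.a (nat_lit 100) (Dv.wd (nat_lit 45) [Mv.b (nat_lit 200), Mv.f (nat_lit 194), Mv.f (nat_lit 239)]))))) (Tr.nd (nat_lit 243) (Tr.nd (nat_lit 242) (Tr.lf (Fc.ed (nat_lit 241) (nat_lit 120) Col.e (nat_lit 101) (Dv.wd (nat_lit 19) [Mv.b (nat_lit 201), Mv.b (nat_lit 196), Mv.f (nat_lit 239)]))) (Tr.lf (Fc.ed (nat_lit 242) (nat_lit 120) Col.b (nat_lit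 104) (Dv.wd (nat_lit 43) [Mv.b (nat_lit 207), Mv.f (nat_lit 203), Mv.b (nat_lit 201), Mv.b (nat_lit 197), Mv.f (nat_lit 239)])))) (Tr.nd (nat_lit 244) (Tr.lf (Fc.al (nat_lit 243) (nat_lit 104) (nat_lit 103) (Dv.wd (nat_lit 18) [Mv.b (nat_lit 206), Mv.f (nat_lit 203), Mv.b (nat_lit 241), Mv.f (nat_lit 242)]))) (Tr.nd (nat_lit 245) (Tr.lf (Fc.ed (nat_lit 244) (nat_lit 103) Col.b (nat_lit 120) (Dv.wd (nat_lit 49) [Mv.f (nat_lit 242), Mv.f (nat_lit 243)]))) (Tr.lf (Fc.ed (nat_lit 245) (nat_lit 103) Col.d (nat_lit 111) (Dv.wd (nat_lit 50) [Mv.f (nat_lit 223), Mv.f (nat_lit 243)]))))))))) (Tr.nd (nat_lit 264) (Tr.nd (nat_lit 255) (Tr.nd (nat_lit 250) (Tr.nd (nat_lit 248) (Tr.nd (nat_lit 247) (Tr.lf (Fc.ed (nat_lit 246) (nat_lit 100) Col.d (nat_lit 121) Dv.df)) (Tr.lf (Fc.ed (nat_lit 247) (nat_lit 105)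 Col.a (nat_lit 122) Dv.df))) (Tr.nd (nat_lit 249) (Tr.lf (Fc.ed (nat_lit 248) (nat_lit 122) Col.c (nat_lit 119) (Dv.wd (nat_lit 31) [Mv.b (nat_lit 237), Mv.b (nat_lit 209), Mv.f (nat_lit 247)]))) (Tr.lf (Fc.ed (nat_lit 249) (nat_lit 108) Col.d (nat_lit 123) Dv.df)))) (Tr.nd (nat_lit 252) (Tr.nd (nat_lit 251) (Tr.lf (Fc.ed (nat_lit 250) (nat_lit 123) Col.b (nat_lit 118) (Dv.wd (nat_lit 36) [Mv.f (nat_lit 236), Mv.b (nat_lit 216), Mv.f (nat_lit 249)]))) (Tr.lf (Fc.ed (nat_lit 251) (nat_lit 111) Col.b (nat_lit 124) Dv.df))) (Tr.nd (nat_lit 253) (Tr.lf (Fc.ed (nat_lit 252) (nat_lit 124) Col.d (nat_lit 120) (Dv.wd (nat_lit 21) [Mv.b (nat_lit 244), Mv.f (nat_lit 245), Mv.f (nat_lit 251)]))) (Tr.nd (nat_lit 254) (Tr.lf (Fc.ed (nat_lit 253) (nat_lit 121) Col.a (nat_lit 124) (Dv.wd (nat_lit 40) [Mv.f (nat_lit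 252), Mv.f (nat_lit 240), Mv.f (nat_lit 246)]))) (Tr.lf (Fc.ed (nat_lit 254) (nat_lit 112) Col.a (nat_lit 125) Dv.df)))))) (Tr.nd (nat_lit 259) (Tr.nd (nat_lit 257) (Tr.nd (nat_lit 256) (Tr.lf (Fc.ed (nat_lit 255) (nat_lit 113) Col.c (nat_lit 126) Dv.df)) (Tr.lf (Fc.ed (nat_lit 256) (nat_lit 126) Col.a (nat_lit 123) (Dv.wd (nat_lit 41) [Mv.b (nat_lit 249), Mv.b (nat_lit 214), Mv.f (nat_lit 167), Mv.b (nat_lit 122), Mv.b (nat_lit 129), Mv.b (nat_lit 180), Mv.f (nat_lit 225), Mv.f (nat_lit 255)])))) (Tr.nd (nat_lit 258) (Tr.lf (Fc.ed (nat_lit 257) (nat_lit 113) Col.a (nat_lit 127) Dv.df)) (Tr.lf (Fc.ed (nat_lit 258) (nat_lit 127) Col.c (nat_lit 123) (Dv.wd (nat_lit 31) [Mv.b (nat_lit 256), Mv.b (nat_lit 255), Mv.f (nat_lit 257)]))))) (Tr.nd (nat_lit 261) (Tr.nd (nat_lit 260) (Tr.lf (Fc.ed (nat_lit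 259) (nat_lit 127) Col.d (nat_lit 114) (Dv.wd (nat_lit 22) [Mv.b (nat_lit 226), Mv.f (nat_lit 225), Mv.f (nat_lit 257)]))) (Tr.lf (Fc.ed (nat_lit 260) (nat_lit 127) Col.b (nat_lit 127) (Dv.wd (nat_lit 51) [Mv.f (nat_lit 258), Mv.f (nat_lit 250), Mv.f (nat_lit 235), Mv.b (nat_lit 250), Mv.b (nat_lit 258)])))) (Tr.nd (nat_lit 262) (Tr.lf (Fc.ed (nat_lit 261) (nat_lit 114) Col.b (nat_lit 114) (Dv.wd (nat_lit 24) [Mv.b (nat_lit 259), Mv.f (nat_lit 260), Mv.f (nat_lit 259)]))) (Tr.nd (nat_lit 263) (Tr.lf (Fc.ed (nat_lit 262) (nat_lit 115) Col.c (nat_lit 115) (Dv.wd (nat_lit 25) [Mv.b (nat_lit 228), Mv.b (nat_lit 227), Mv.f (nat_lit 261), Mv.f (nat_lit 227), Mv.f (nat_lit 228)]))) (Tr.lf (Fc.ed (nat_lit 263) (nat_lit 117) Col.d (nat_lit 128) Dv.df))))))) (Tr.nd (nat_lit 273) (Tr.nd (nat_lit 268) (Tr.nd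 (nat_lit 266) (Tr.nd (nat_lit 265) (Tr.lf (Fc.ed (nat_lit 264) (nat_lit 128) Col.f (nat_lit 121) (Dv.wd (nat_lit 12) [Mv.b (nat_lit 246), Mv.b (nat_lit 233), Mv.f (nat_lit 263)]))) (Tr.lf (Fc.ed (nat_lit 265) (nat_lit 128) Col.c (nat_lit 124) (Dv.wd (nat_lit 37) [Mv.f (nat_lit 252), Mv.b (nat_lit 239), Mv.f (nat_lit 195), Mv.b (nat_lit 186), Mv.f (nat_lit 230), Mv.f (nat_lit 231), Mv.f (nat_lit 232), Mv.f (nat_lit 263)])))) (Tr.nd (nat_lit 267) (Tr.lf (Fc.al (nat_lit 266) (nat_lit 125) (nat_lit 61) (Dv.wd (nat_lit 52) [Mv.b (nat_lit 121), Mv.b (nat_lit 60), Mv.b (nat_lit 59), Mv.f (nat_lit 120), Mv.b (nat_lit 175), Mv.b (nat_lit 222), Mv.f (nat_lit 251), Mv.b (nat_lit 253), Mv.b (nat_lit 264), Mv.f (nat_lit 265), Mv.b (nat_lit 251), Mv.b (nat_lit 221), Mv.f (nat_lit 173), Mv.b (nat_lit 124), Mv.f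 (nat_lit 59), Mv.f (nat_lit 119), Mv.b (nat_lit 169), Mv.b (nat_lit 177), Mv.f (nat_lit 224), Mv.f (nat_lit 254)]))) (Tr.lf (Fc.al (nat_lit 267) (nat_lit 90) (nat_lit 112) (Dv.wd (nat_lit 53) [Mv.f (nat_lit 254), Mv.f (nat_lit 266), Mv.f (nat_lit 176)]))))) (Tr.nd (nat_lit 270) (Tr.nd (nat_lit 269) (Tr.lf (Fc.al (nat_lit 268) (nat_lit 92) (nat_lit 115) (Dv.wd (nat_lit 50) [Mv.f (nat_lit 229), Mv.b (nat_lit 267), Mv.b (nat_lit 183)]))) (Tr.lf (Fc.al (nat_lit 269) (nat_lit 114) (nat_lit 92) (Dv.wd (nat_lit 54) [Mv.f (nat_lit 268), Mv.f (nat_lit 262), Mv.b (nat_lit 268), Mv.b (nat_lit 227)])))) (Tr.nd (nat_lit 271) (Tr.lf (Fc.al (nat_lit 270) (nat_lit 90) (nat_lit 127) (Dv.wd (nat_lit 50) [Mv.f (nat_lit 259), Mv.f (nat_lit 269), Mv.f (nat_lit 183)]))) (Tr.nd (nat_lit 272) (Tr.lf (Fc.al (nat_lit 271)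 (nat_lit 86) (nat_lit 123) (Dv.wd (nat_lit 54) [Mv.b (nat_lit 258), Mv.b (nat_lit 270), Mv.f (nat_lit 177)]))) (Tr.lf (Fc.al (nat_lit 272) (nat_lit 109) (nat_lit 108) (Dv.wd (nat_lit 50) [Mv.f (nat_lit 249), Mv.b (nat_lit 271), Mv.b (nat_lit 218)]))))))) (Tr.nd (nat_lit 277) (Tr.nd (nat_lit 275) (Tr.nd (nat_lit 274) (Tr.lf (Fc.al (nat_lit 273) (nat_lit 87) (nat_lit 84) (Dv.wd (nat_lit 55) [Mv.f (nat_lit 217), Mv.f (nat_lit 272), Mv.f (nat_lit 215)]))) (Tr.lf (Fc.al (nat_lit 274) (nat_lit 107) (nat_lit 83) (Dv.wd (nat_lit 49) [Mv.b (nat_lit 171), Mv.f (nat_lit 273), Mv.f (nat_lit 213)])))) (Tr.nd (nat_lit 276) (Tr.lf (Fc.ed (nat_lit 275) (nat_lit 83) Col.b (nat_lit 84) (Dv.wd (nat_lit 49) [Mv.f (nat_lit 213), Mv.f (nat_lit 274)]))) (Tr.lf (Fc.al (nat_lit 276) (nat_lit 122) (nat_lit 106) (Dv.wd (nat_lit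 56) [Mv.f (nat_lit 212), Mv.b (nat_lit 211), Mv.b (nat_lit 161), Mv.f (nat_lit 163), Mv.f (nat_lit 275), Mv.b (nat_lit 164), Mv.f (nat_lit 166), Mv.f (nat_lit 214), Mv.f (nat_lit 216), Mv.f (nat_lit 192), Mv.f (nat_lit 193), Mv.b (nat_lit 146), Mv.f (nat_lit 99), Mv.b (nat_lit 145), Mv.f (nat_lit 144), Mv.f (nat_lit 109), Mv.b (nat_lit 157), Mv.b (nat_lit 205), Mv.b (nat_lit 238), Mv.b (nat_lit 248)]))))) (Tr.nd (nat_lit 279) (Tr.nd (nat_lit 278) (Tr.lf (Fc.al (nat_lit 277) (nat_lit 82) (nat_lit 105) (Dv.wd (nat_lit 53) [Mv.f (nat_lit 247), Mv.f (nat_lit 276), Mv.b (nat_lit 211)]))) (Tr.lf (Fc.al (nat_lit 278) (nat_lit 72) (nat_lit 85) (Dv.wd (nat_lit 49) [Mv.b (nat_lit 210), Mv.b (nat_lit 277), Mv.f (nat_lit 162)])))) (Tr.nd (nat_lit 280) (Tr.lf (Fc.al (nat_lit 279) (nat_lit 52) (nat_lit 56) (Dv.wd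 (nat_lit 55) [Mv.f (nat_lit 166), Mv.b (nat_lit 278), Mv.f (nat_lit 144)]))) (Tr.nd (nat_lit 281) (Tr.lf (Fc.al (nat_lit 280) (nat_lit 25) (nat_lit 27) (Dv.wd (nat_lit 49) [Mv.f (nat_lit 114), Mv.b (nat_lit 279), Mv.f (nat_lit 108)]))) (Tr.lf (Fc.ed (nat_lit 281) (nat_lit 25) Col.c (nat_lit 26) (Dv.wd (nat_lit 54) [Mv.f (nat_lit 57), Mv.b (nat_lit 280)]))))))))))))
noncomputable def mini3A : Tr (Alt Col) := (Tr.nd (nat_lit 28) (Tr.nd (nat_lit 14) (Tr.nd (nat_lit 7) (Tr.nd (nat_lit 3) (Tr.nd (nat_lit 1) (Tr.lf (Alt.base (nat_lit 0) [] [Col.a])) (Tr.nd (nat_lit 2) (Tr.lf (Alt.base (nat_lit 1) [] [Col.b])) (Tr.lf (Alt.base (nat_lit 2) [] [Col.c])))) (Tr.nd (nat_lit 5) (Tr.nd (nat_lit 4) (Tr.lf (Alt.base (nat_lit 3) [] [Col.d])) (Tr.lf (Alt.base (nat_lit 4) [] [Col.e]))) (Tr.nd (nat_lit 6) (Tr.lf (Alt.base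 (nat_lit 5) [Col.f, Col.b, Col.a, Col.b, Col.f] [Col.a, Col.b, Col.a, Col.b, Col.f])) (Tr.lf (Alt.base (nat_lit 6) [Col.f, Col.b, Col.c, Col.d, Col.c, Col.b, Col.a, Col.b, Col.f, Col.c, Col.d, Col.b] [Col.c, Col.a, Col.b, Col.f]))))) (Tr.nd (nat_lit 10) (Tr.nd (nat_lit 8) (Tr.lf (Alt.base (nat_lit 7) [Col.f, Col.b, Col.c, Col.d, Col.c, Col.b, Col.e, Col.d, Col.c, Col.f, Col.b] [Col.a, Col.b, Col.f, Col.c, Col.d, Col.e, Col.b, Col.c, Col.d, Col.c, Col.b, Col.f])) (Tr.nd (nat_lit 9) (Tr.lf (Alt.word (nat_lit 2) (nat_lit 3) true [Col.a, Col.c, Col.a, Col.c])) (Tr.lf (Alt.word (nat_lit 10) (nat_lit 2) true [Col.f, Col.b, Col.f, Col.b, Col.f, Col.b])))) (Tr.nd (nat_lit 12) (Tr.nd (nat_lit 11) (Tr.lf (Alt.word (nat_lit 5) (nat_lit 2) true [Col.f, Col.a, Col.f, Col.a])) (Tr.lf (Alt.word (nat_lit 14) (nat_lit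 2) true [Col.f, Col.c, Col.f, Col.c]))) (Tr.nd (nat_lit 13) (Tr.lf (Alt.word (nat_lit 17) (nat_lit 2) true [Col.f, Col.d, Col.f, Col.d])) (Tr.lf (Alt.word (nat_lit 10) (nat_lit 3) true [Col.b, Col.f, Col.b, Col.f, Col.b, Col.f])))))) (Tr.nd (nat_lit 21) (Tr.nd (nat_lit 17) (Tr.nd (nat_lit 15) (Tr.lf (Alt.word (nat_lit 1) (nat_lit 5) true [Col.a, Col.b, Col.a, Col.b, Col.a, Col.b, Col.a, Col.b, Col.a, Col.b])) (Tr.nd (nat_lit 16) (Tr.lf (Alt.word (nat_lit 14) (nat_lit 1) true [Col.c, Col.f, Col.c, Col.f])) (Tr.lf (Alt.word (nat_lit 17) (nat_lit 1) true [Col.d, Col.f, Col.d, Col.f])))) (Tr.nd (nat_lit 19) (Tr.nd (nat_lit 18) (Tr.lf (Alt.word (nat_lit 19) (nat_lit 1) true [Col.e, Col.f, Col.e, Col.f])) (Tr.lf (Alt.word (nat_lit 9) (nat_lit 2) true [Col.e, Col.b, Col.e, Col.b]))) (Tr.nd (nat_lit 20)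 (Tr.lf (Alt.word (nat_lit 13) (nat_lit 2) true [Col.e, Col.c, Col.e, Col.c])) (Tr.lf (Alt.word (nat_lit 4) (nat_lit 2) true [Col.e, Col.a, Col.e, Col.a]))))) (Tr.nd (nat_lit 24) (Tr.nd (nat_lit 22) (Tr.lf (Alt.word (nat_lit 8) (nat_lit 2) true [Col.d, Col.b, Col.d, Col.b])) (Tr.nd (nat_lit 23) (Tr.lf (Alt.word (nat_lit 3) (nat_lit 2) true [Col.d, Col.a, Col.d, Col.a])) (Tr.lf (Alt.word (nat_lit 7) (nat_lit 3) true [Col.b, Col.c, Col.b, Col.c, Col.b, Col.c])))) (Tr.nd (nat_lit 26) (Tr.nd (nat_lit 25) (Tr.lf (Alt.word (nat_lit 8) (nat_lit 3) true [Col.b, Col.d, Col.b, Col.d])) (Tr.lf (Alt.word (nat_lit 7) (nat_lit 4) true [Col.c, Col.b, Col.c, Col.b, Col.c, Col.b]))) (Tr.nd (nat_lit 27) (Tr.lf (Alt.word (nat_lit 13) (nat_lit 3) true [Col.c, Col.e, Col.c, Col.e])) (Tr.lf (Alt.word (nat_lit 4) (nat_lit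 1) true [Col.a, Col.e, Col.a, Col.e]))))))) (Tr.nd (nat_lit 42) (Tr.nd (nat_lit 35) (Tr.nd (nat_lit 31) (Tr.nd (nat_lit 29) (Tr.lf (Alt.word (nat_lit 3) (nat_lit 1) true [Col.a, Col.d, Col.a, Col.d])) (Tr.nd (nat_lit 30) (Tr.lf (Alt.word (nat_lit 9) (nat_lit 1) true [Col.b, Col.e, Col.b, Col.e])) (Tr.lf (Alt.word (nat_lit 19) (nat_lit 2) true [Col.f, Col.e, Col.f, Col.e])))) (Tr.nd (nat_lit 33) (Tr.nd (nat_lit 32) (Tr.lf (Alt.word (nat_lit 2) (nat_lit 2) true [Col.c, Col.a, Col.c, Col.a])) (Tr.lf (Alt.word (nat_lit 21) (nat_lit 7) true [Col.d, Col.a, Col.c, Col.d, Col.c, Col.d, Col.c, Col.d, Col.c]))) (Tr.nd (nat_lit 34) (Tr.lf (Alt.word (nat_lit 22) (nat_lit 4) true [Col.f, Col.c, Col.b, Col.a, Col.f, Col.c, Col.b, Col.a, Col.f, Col.c, Col.b, Col.a, Col.f, Col.c, Col.b, Col.a, Col.f, Col.c, Col.b,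 Col.a])) (Tr.lf (Alt.word (nat_lit 10) (nat_lit 1) true [Col.b, Col.f, Col.b, Col.f, Col.b, Col.f]))))) (Tr.nd (nat_lit 38) (Tr.nd (nat_lit 36) (Tr.lf (Alt.word (nat_lit 21) (nat_lit 4) true [Col.c, Col.d, Col.c, Col.d, Col.a, Col.c, Col.d, Col.c, Col.d])) (Tr.nd (nat_lit 37) (Tr.lf (Alt.word (nat_lit 8) (nat_lit 1) true [Col.b, Col.d, Col.b, Col.d])) (Tr.lf (Alt.word (nat_lit 21) (nat_lit 2) true [Col.c, Col.d, Col.c, Col.d, Col.c, Col.d, Col.a, Col.c, Col.d])))) (Tr.nd (nat_lit 40) (Tr.nd (nat_lit 39) (Tr.lf (Alt.word (nat_lit 13) (nat_lit 1) true [Col.c, Col.e, Col.c, Col.e])) (Tr.lf (Alt.word (nat_lit 16) (nat_lit 1) true [Col.d, Col.e, Col.d, Col.e, Col.d, Col.e]))) (Tr.nd (nat_lit 41) (Tr.lf (Alt.word (nat_lit 3) (nat_lit 3) true [Col.a, Col.d, Col.a, Col.d])) (Tr.lf (Alt.word (nat_lit 21)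 (nat_lit 0) false [Col.a, Col.d, Col.c, Col.d, Col.c, Col.d, Col.c, Col.d, Col.c])))))) (Tr.nd (nat_lit 49) (Tr.nd (nat_lit 45) (Tr.nd (nat_lit 43) (Tr.lf (Alt.word (nat_lit 5) (nat_lit 1) true [Col.a, Col.f, Col.a, Col.f])) (Tr.nd (nat_lit 44) (Tr.lf (Alt.word (nat_lit 7) (nat_lit 1) true [Col.b, Col.c, Col.b, Col.c, Col.b, Col.c])) (Tr.lf (Alt.word (nat_lit 7) (nat_lit 2) true [Col.c, Col.b, Col.c, Col.b, Col.c, Col.b])))) (Tr.nd (nat_lit 47) (Tr.nd (nat_lit 46) (Tr.lf (Alt.word (nat_lit 2) (nat_lit 1) true [Col.a, Col.c, Col.a, Col.c])) (Tr.lf (Alt.word (nat_lit 1) (nat_lit 2) true [Col.b, Col.a, Col.b, Col.a, Col.b, Col.a, Col.b, Col.a, Col.b, Col.a]))) (Tr.nd (nat_lit 48) (Tr.lf (Alt.word (nat_lit 21) (nat_lit 1) true [Col.d, Col.c, Col.d, Col.c, Col.d, Col.c, Col.d, Col.a, Col.c])) (Tr.lf (Alt.word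 (nat_lit 21) (nat_lit 8) true [Col.a, Col.c, Col.d, Col.c, Col.d, Col.c, Col.d, Col.c, Col.d]))))) (Tr.nd (nat_lit 53) (Tr.nd (nat_lit 51) (Tr.nd (nat_lit 50) (Tr.lf (Alt.word (nat_lit 6) (nat_lit 0) true [Col.b, Col.b])) (Tr.lf (Alt.word (nat_lit 15) (nat_lit 0) true [Col.d, Col.d]))) (Tr.nd (nat_lit 52) (Tr.lf (Alt.word (nat_lit 7) (nat_lit 5) true [Col.b, Col.c, Col.b, Col.c, Col.b, Col.c])) (Tr.lf (Alt.word (nat_lit 22) (nat_lit 12) true [Col.f, Col.c, Col.b, Col.a, Col.f, Col.c, Col.b, Col.a, Col.f, Col.c, Col.b, Col.a, Col.f, Col.c, Col.b, Col.a, Col.f, Col.c, Col.b, Col.a])))) (Tr.nd (nat_lit 55) (Tr.nd (nat_lit 54) (Tr.lf (Alt.word (nat_lit 0) (nat_lit 0) true [Col.a, Col.a])) (Tr.lf (Alt.word (nat_lit 11) (nat_lit 0) true [Col.c, Col.c]))) (Tr.nd (nat_lit 56) (Tr.lf (Alt.word (nat_lit 20)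 (nat_lit 0) true [Col.f, Col.f])) (Tr.lf (Alt.word (nat_lit 22) (nat_lit 18) true [Col.b, Col.a, Col.f, Col.c, Col.b, Col.a, Col.f, Col.c, Col.b, Col.a, Col.f, Col.c, Col.b, Col.a, Col.f, Col.c, Col.b, Col.a, Col.f, Col.c]))))))))
noncomputable def mini3P : Tr ℕ := (Tr.nd (nat_lit 64) (Tr.nd (nat_lit 32) (Tr.nd (nat_lit 16) (Tr.nd (nat_lit 8) (Tr.nd (nat_lit 4) (Tr.nd (nat_lit 2) (Tr.nd (nat_lit 1) (Tr.lf (nat_lit 0)) (Tr.lf (nat_lit 0))) (Tr.nd (nat_lit 3) (Tr.lf (nat_lit 1)) (Tr.lf (nat_lit 2)))) (Tr.nd (nat_lit 6) (Tr.nd (nat_lit 5) (Tr.lf (nat_lit 3)) (Tr.lf (nat_lit 4))) (Tr.nd (nat_lit 7) (Tr.lf (nat_lit 2)) (Tr.lf (nat_lit 6))))) (Tr.nd (nat_lit 12) (Tr.nd (nat_lit 10) (Tr.nd (nat_lit 9) (Tr.lf (nat_lit 7)) (Tr.lf (nat_lit 8))) (Tr.nd (nat_lit 11) (Tr.lf (nat_lit 9)) (Tr.lf (nat_lit 10))))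 (Tr.nd (nat_lit 14) (Tr.nd (nat_lit 13) (Tr.lf (nat_lit 11)) (Tr.lf (nat_lit 12))) (Tr.nd (nat_lit 15) (Tr.lf (nat_lit 13)) (Tr.lf (nat_lit 14)))))) (Tr.nd (nat_lit 24) (Tr.nd (nat_lit 20) (Tr.nd (nat_lit 18) (Tr.nd (nat_lit 17) (Tr.lf (nat_lit 9)) (Tr.lf (nat_lit 16))) (Tr.nd (nat_lit 19) (Tr.lf (nat_lit 17)) (Tr.lf (nat_lit 18)))) (Tr.nd (nat_lit 22) (Tr.nd (nat_lit 21) (Tr.lf (nat_lit 19)) (Tr.lf (nat_lit 10))) (Tr.nd (nat_lit 23) (Tr.lf (nat_lit 21)) (Tr.lf (nat_lit 22))))) (Tr.nd (nat_lit 28) (Tr.nd (nat_lit 26) (Tr.nd (nat_lit 25) (Tr.lf (nat_lit 23)) (Tr.lf (nat_lit 24))) (Tr.nd (nat_lit 27) (Tr.lf (nat_lit 25)) (Tr.lf (nat_lit 26)))) (Tr.nd (nat_lit 30) (Tr.nd (nat_lit 29) (Tr.lf (nat_lit 27)) (Tr.lf (nat_lit 28))) (Tr.nd (nat_lit 31) (Tr.lf (nat_lit 29)) (Tr.lf (nat_lit 30))))))) (Tr.nd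 (nat_lit 48) (Tr.nd (nat_lit 40) (Tr.nd (nat_lit 36) (Tr.nd (nat_lit 34) (Tr.nd (nat_lit 33) (Tr.lf (nat_lit 7)) (Tr.lf (nat_lit 8))) (Tr.nd (nat_lit 35) (Tr.lf (nat_lit 8)) (Tr.lf (nat_lit 13)))) (Tr.nd (nat_lit 38) (Tr.nd (nat_lit 37) (Tr.lf (nat_lit 11)) (Tr.lf (nat_lit 11))) (Tr.nd (nat_lit 39) (Tr.lf (nat_lit 12)) (Tr.lf (nat_lit 14))))) (Tr.nd (nat_lit 44) (Tr.nd (nat_lit 42) (Tr.nd (nat_lit 41) (Tr.lf (nat_lit 14)) (Tr.lf (nat_lit 16))) (Tr.nd (nat_lit 43) (Tr.lf (nat_lit 17)) (Tr.lf (nat_lit 17)))) (Tr.nd (nat_lit 46) (Tr.nd (nat_lit 45) (Tr.lf (nat_lit 17)) (Tr.lf (nat_lit 14))) (Tr.nd (nat_lit 47) (Tr.lf (nat_lit 19)) (Tr.lf (nat_lit 20)))))) (Tr.nd (nat_lit 56) (Tr.nd (nat_lit 52) (Tr.nd (nat_lit 50) (Tr.nd (nat_lit 49) (Tr.lf (nat_lit 22)) (Tr.lf (nat_lit 18))) (Tr.nd (nat_lit 51) (Tr.lf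 (nat_lit 18)) (Tr.lf (nat_lit 22)))) (Tr.nd (nat_lit 54) (Tr.nd (nat_lit 53) (Tr.lf (nat_lit 23)) (Tr.lf (nat_lit 25))) (Tr.nd (nat_lit 55) (Tr.lf (nat_lit 24)) (Tr.lf (nat_lit 26))))) (Tr.nd (nat_lit 60) (Tr.nd (nat_lit 58) (Tr.nd (nat_lit 57) (Tr.lf (nat_lit 27)) (Tr.lf (nat_lit 29))) (Tr.nd (nat_lit 59) (Tr.lf (nat_lit 28)) (Tr.lf (nat_lit 29)))) (Tr.nd (nat_lit 62) (Tr.nd (nat_lit 61) (Tr.lf (nat_lit 28)) (Tr.lf (nat_lit 30))) (Tr.nd (nat_lit 63) (Tr.lf (nat_lit 31)) (Tr.lf (nat_lit 28)))))))) (Tr.nd (nat_lit 96) (Tr.nd (nat_lit 80) (Tr.nd (nat_lit 72) (Tr.nd (nat_lit 68) (Tr.nd (nat_lit 66) (Tr.nd (nat_lit 65) (Tr.lf (nat_lit 30)) (Tr.lf (nat_lit 31))) (Tr.nd (nat_lit 67) (Tr.lf (nat_lit 31)) (Tr.lf (nat_lit 33)))) (Tr.nd (nat_lit 70) (Tr.nd (nat_lit 69) (Tr.lf (nat_lit 35)) (Tr.lf (nat_lit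 36))) (Tr.nd (nat_lit 71) (Tr.lf (nat_lit 38)) (Tr.lf (nat_lit 43))))) (Tr.nd (nat_lit 76) (Tr.nd (nat_lit 74) (Tr.nd (nat_lit 73) (Tr.lf (nat_lit 46)) (Tr.lf (nat_lit 47))) (Tr.nd (nat_lit 75) (Tr.lf (nat_lit 47)) (Tr.lf (nat_lit 48)))) (Tr.nd (nat_lit 78) (Tr.nd (nat_lit 77) (Tr.lf (nat_lit 48)) (Tr.lf (nat_lit 48))) (Tr.nd (nat_lit 79) (Tr.lf (nat_lit 50)) (Tr.lf (nat_lit 50)))))) (Tr.nd (nat_lit 88) (Tr.nd (nat_lit 84) (Tr.nd (nat_lit 82) (Tr.nd (nat_lit 81) (Tr.lf (nat_lit 54)) (Tr.lf (nat_lit 53))) (Tr.nd (nat_lit 83) (Tr.lf (nat_lit 55)) (Tr.lf (nat_lit 55)))) (Tr.nd (nat_lit 86) (Tr.nd (nat_lit 85) (Tr.lf (nat_lit 56)) (Tr.lf (nat_lit 56))) (Tr.nd (nat_lit 87) (Tr.lf (nat_lit 57)) (Tr.lf (nat_lit 56))))) (Tr.nd (nat_lit 92) (Tr.nd (nat_lit 90) (Tr.nd (nat_lit 89) (Tr.lf (nat_lit 58)) (Tr.lf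 (nat_lit 58))) (Tr.nd (nat_lit 91) (Tr.lf (nat_lit 61)) (Tr.lf (nat_lit 62)))) (Tr.nd (nat_lit 94) (Tr.nd (nat_lit 93) (Tr.lf (nat_lit 65)) (Tr.lf (nat_lit 69))) (Tr.nd (nat_lit 95) (Tr.lf (nat_lit 70)) (Tr.lf (nat_lit 70))))))) (Tr.nd (nat_lit 112) (Tr.nd (nat_lit 104) (Tr.nd (nat_lit 100) (Tr.nd (nat_lit 98) (Tr.nd (nat_lit 97) (Tr.lf (nat_lit 73)) (Tr.lf (nat_lit 74))) (Tr.nd (nat_lit 99) (Tr.lf (nat_lit 75)) (Tr.lf (nat_lit 74)))) (Tr.nd (nat_lit 102) (Tr.nd (nat_lit 101) (Tr.lf (nat_lit 75)) (Tr.lf (nat_lit 76))) (Tr.nd (nat_lit 103) (Tr.lf (nat_lit 78)) (Tr.lf (nat_lit 80))))) (Tr.nd (nat_lit 108) (Tr.nd (nat_lit 106) (Tr.nd (nat_lit 105) (Tr.lf (nat_lit 80)) (Tr.lf (nat_lit 81))) (Tr.nd (nat_lit 107) (Tr.lf (nat_lit 82)) (Tr.lf (nat_lit 84)))) (Tr.nd (nat_lit 110) (Tr.nd (nat_lit 109) (Tr.lf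 (nat_lit 85)) (Tr.lf (nat_lit 84))) (Tr.nd (nat_lit 111) (Tr.lf (nat_lit 88)) (Tr.lf (nat_lit 88)))))) (Tr.nd (nat_lit 120) (Tr.nd (nat_lit 116) (Tr.nd (nat_lit 114) (Tr.nd (nat_lit 113) (Tr.lf (nat_lit 90)) (Tr.lf (nat_lit 91))) (Tr.nd (nat_lit 115) (Tr.lf (nat_lit 91)) (Tr.lf (nat_lit 92)))) (Tr.nd (nat_lit 118) (Tr.nd (nat_lit 117) (Tr.lf (nat_lit 94)) (Tr.lf (nat_lit 95))) (Tr.nd (nat_lit 119) (Tr.lf (nat_lit 96)) (Tr.lf (nat_lit 99))))) (Tr.nd (nat_lit 124) (Tr.nd (nat_lit 122) (Tr.nd (nat_lit 121) (Tr.lf (nat_lit 98)) (Tr.lf (nat_lit 100))) (Tr.nd (nat_lit 123) (Tr.lf (nat_lit 105)) (Tr.lf (nat_lit 108)))) (Tr.nd (nat_lit 126) (Tr.nd (nat_lit 125) (Tr.lf (nat_lit 111)) (Tr.lf (nat_lit 112))) (Tr.nd (nat_lit 127) (Tr.lf (nat_lit 113)) (Tr.nd (nat_lit 128) (Tr.lf (nat_lit 113)) (Tr.lf (nat_lit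 117))))))))))
noncomputable def mini3Q : Tr ℕ := (Tr.nd (nat_lit 64) (Tr.nd (nat_lit 32) (Tr.nd (nat_lit 16) (Tr.nd (nat_lit 8) (Tr.nd (nat_lit 4) (Tr.nd (nat_lit 2) (Tr.nd (nat_lit 1) (Tr.lf (nat_lit 0)) (Tr.lf (nat_lit 5))) (Tr.nd (nat_lit 3) (Tr.lf (nat_lit 1)) (Tr.lf (nat_lit 0)))) (Tr.nd (nat_lit 6) (Tr.nd (nat_lit 5) (Tr.lf (nat_lit 1)) (Tr.lf (nat_lit 5))) (Tr.nd (nat_lit 7) (Tr.lf (nat_lit 2)) (Tr.lf (nat_lit 3))))) (Tr.nd (nat_lit 12) (Tr.nd (nat_lit 10) (Tr.nd (nat_lit 9) (Tr.lf (nat_lit 2)) (Tr.lf (nat_lit 1))) (Tr.nd (nat_lit 11) (Tr.lf (nat_lit 0)) (Tr.lf (nat_lit 1)))) (Tr.nd (nat_lit 14) (Tr.nd (nat_lit 13) (Tr.lf (nat_lit 5)) (Tr.lf (nat_lit 2))) (Tr.nd (nat_lit 15) (Tr.lf (nat_lit 3)) (Tr.lf (nat_lit 1)))))) (Tr.nd (nat_lit 24) (Tr.nd (nat_lit 20) (Tr.nd (nat_lit 18) (Tr.nd (nat_lit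 17) (Tr.lf (nat_lit 4)) (Tr.lf (nat_lit 3))) (Tr.nd (nat_lit 19) (Tr.lf (nat_lit 2)) (Tr.lf (nat_lit 5)))) (Tr.nd (nat_lit 22) (Tr.nd (nat_lit 21) (Tr.lf (nat_lit 1)) (Tr.lf (nat_lit 4))) (Tr.nd (nat_lit 23) (Tr.lf (nat_lit 3)) (Tr.lf (nat_lit 2))))) (Tr.nd (nat_lit 28) (Tr.nd (nat_lit 26) (Tr.nd (nat_lit 25) (Tr.lf (nat_lit 1)) (Tr.lf (nat_lit 3))) (Tr.nd (nat_lit 27) (Tr.lf (nat_lit 5)) (Tr.lf (nat_lit 2)))) (Tr.nd (nat_lit 30) (Tr.nd (nat_lit 29) (Tr.lf (nat_lit 3)) (Tr.lf (nat_lit 1))) (Tr.nd (nat_lit 31) (Tr.lf (nat_lit 2)) (Tr.lf (nat_lit 3))))))) (Tr.nd (nat_lit 48) (Tr.nd (nat_lit 40) (Tr.nd (nat_lit 36) (Tr.nd (nat_lit 34) (Tr.nd (nat_lit 33) (Tr.lf (nat_lit 0)) (Tr.lf (nat_lit 4))) (Tr.nd (nat_lit 35) (Tr.lf (nat_lit 0)) (Tr.lf (nat_lit 5)))) (Tr.nd (nat_lit 38) (Tr.nd (nat_lit 37) (Tr.lf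 (nat_lit 3)) (Tr.lf (nat_lit 4))) (Tr.nd (nat_lit 39) (Tr.lf (nat_lit 3)) (Tr.lf (nat_lit 2))))) (Tr.nd (nat_lit 44) (Tr.nd (nat_lit 42) (Tr.nd (nat_lit 41) (Tr.lf (nat_lit 0)) (Tr.lf (nat_lit 5))) (Tr.nd (nat_lit 43) (Tr.lf (nat_lit 5)) (Tr.lf (nat_lit 1)))) (Tr.nd (nat_lit 46) (Tr.nd (nat_lit 45) (Tr.lf (nat_lit 4)) (Tr.lf (nat_lit 5))) (Tr.nd (nat_lit 47) (Tr.lf (nat_lit 3)) (Tr.lf (nat_lit 3)))))) (Tr.nd (nat_lit 56) (Tr.nd (nat_lit 52) (Tr.nd (nat_lit 50) (Tr.nd (nat_lit 49) (Tr.lf (nat_lit 1)) (Tr.lf (nat_lit 3))) (Tr.nd (nat_lit 51) (Tr.lf (nat_lit 1)) (Tr.lf (nat_lit 4)))) (Tr.nd (nat_lit 54) (Tr.nd (nat_lit 53) (Tr.lf (nat_lit 3)) (Tr.lf (nat_lit 2))) (Tr.nd (nat_lit 55) (Tr.lf (nat_lit 2)) (Tr.lf (nat_lit 1))))) (Tr.nd (nat_lit 60) (Tr.nd (nat_lit 58) (Tr.nd (nat_lit 57) (Tr.lf (nat_lit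 1)) (Tr.lf (nat_lit 5))) (Tr.nd (nat_lit 59) (Tr.lf (nat_lit 5)) (Tr.lf (nat_lit 0)))) (Tr.nd (nat_lit 62) (Tr.nd (nat_lit 61) (Tr.lf (nat_lit 0)) (Tr.lf (nat_lit 5))) (Tr.nd (nat_lit 63) (Tr.lf (nat_lit 2)) (Tr.lf (nat_lit 2)))))))) (Tr.nd (nat_lit 96) (Tr.nd (nat_lit 80) (Tr.nd (nat_lit 72) (Tr.nd (nat_lit 68) (Tr.nd (nat_lit 66) (Tr.nd (nat_lit 65) (Tr.lf (nat_lit 0)) (Tr.lf (nat_lit 0))) (Tr.nd (nat_lit 67) (Tr.lf (nat_lit 5)) (Tr.lf (nat_lit 0)))) (Tr.nd (nat_lit 70) (Tr.nd (nat_lit 69) (Tr.lf (nat_lit 4)) (Tr.lf (nat_lit 4))) (Tr.nd (nat_lit 71) (Tr.lf (nat_lit 4)) (Tr.lf (nat_lit 4))))) (Tr.nd (nat_lit 76) (Tr.nd (nat_lit 74) (Tr.nd (nat_lit 73) (Tr.lf (nat_lit 2)) (Tr.lf (nat_lit 2))) (Tr.nd (nat_lit 75) (Tr.lf (nat_lit 5)) (Tr.lf (nat_lit 4)))) (Tr.nd (nat_lit 78) (Tr.nd (nat_lit 77) (Tr.lf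 (nat_lit 0)) (Tr.lf (nat_lit 2))) (Tr.nd (nat_lit 79) (Tr.lf (nat_lit 0)) (Tr.lf (nat_lit 3)))))) (Tr.nd (nat_lit 88) (Tr.nd (nat_lit 84) (Tr.nd (nat_lit 82) (Tr.nd (nat_lit 81) (Tr.lf (nat_lit 3)) (Tr.lf (nat_lit 1))) (Tr.nd (nat_lit 83) (Tr.lf (nat_lit 5)) (Tr.lf (nat_lit 2)))) (Tr.nd (nat_lit 86) (Tr.nd (nat_lit 85) (Tr.lf (nat_lit 0)) (Tr.lf (nat_lit 5))) (Tr.nd (nat_lit 87) (Tr.lf (nat_lit 0)) (Tr.lf (nat_lit 2))))) (Tr.nd (nat_lit 92) (Tr.nd (nat_lit 90) (Tr.nd (nat_lit 89) (Tr.lf (nat_lit 2)) (Tr.lf (nat_lit 0))) (Tr.nd (nat_lit 91) (Tr.lf (nat_lit 0)) (Tr.lf (nat_lit 5)))) (Tr.nd (nat_lit 94) (Tr.nd (nat_lit 93) (Tr.lf (nat_lit 5)) (Tr.lf (nat_lit 0))) (Tr.nd (nat_lit 95) (Tr.lf (nat_lit 0)) (Tr.lf (nat_lit 3))))))) (Tr.nd (nat_lit 112) (Tr.nd (nat_lit 104) (Tr.nd (nat_lit 100) (Tr.nd (nat_lit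 98) (Tr.nd (nat_lit 97) (Tr.lf (nat_lit 3)) (Tr.lf (nat_lit 2))) (Tr.nd (nat_lit 99) (Tr.lf (nat_lit 0)) (Tr.lf (nat_lit 1)))) (Tr.nd (nat_lit 102) (Tr.nd (nat_lit 101) (Tr.lf (nat_lit 2)) (Tr.lf (nat_lit 2))) (Tr.nd (nat_lit 103) (Tr.lf (nat_lit 3)) (Tr.lf (nat_lit 4))))) (Tr.nd (nat_lit 108) (Tr.nd (nat_lit 106) (Tr.nd (nat_lit 105) (Tr.lf (nat_lit 2)) (Tr.lf (nat_lit 5))) (Tr.nd (nat_lit 107) (Tr.lf (nat_lit 0)) (Tr.lf (nat_lit 1)))) (Tr.nd (nat_lit 110) (Tr.nd (nat_lit 109) (Tr.lf (nat_lit 2)) (Tr.lf (nat_lit 5))) (Tr.nd (nat_lit 111) (Tr.lf (nat_lit 3)) (Tr.lf (nat_lit 0)))))) (Tr.nd (nat_lit 120) (Tr.nd (nat_lit 116) (Tr.nd (nat_lit 114) (Tr.nd (nat_lit 113) (Tr.lf (nat_lit 1)) (Tr.lf (nat_lit 3))) (Tr.nd (nat_lit 115) (Tr.lf (nat_lit 0)) (Tr.lf (nat_lit 1)))) (Tr.nd (nat_lit 118) (Tr.nd (nat_lit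 117) (Tr.lf (nat_lit 3)) (Tr.lf (nat_lit 2))) (Tr.nd (nat_lit 119) (Tr.lf (nat_lit 5)) (Tr.lf (nat_lit 0))))) (Tr.nd (nat_lit 124) (Tr.nd (nat_lit 122) (Tr.nd (nat_lit 121) (Tr.lf (nat_lit 2)) (Tr.lf (nat_lit 3))) (Tr.nd (nat_lit 123) (Tr.lf (nat_lit 0)) (Tr.lf (nat_lit 3)))) (Tr.nd (nat_lit 126) (Tr.nd (nat_lit 125) (Tr.lf (nat_lit 1)) (Tr.lf (nat_lit 0))) (Tr.nd (nat_lit 127) (Tr.lf (nat_lit 2)) (Tr.nd (nat_lit 128) (Tr.lf (nat_lit 0)) (Tr.lf (nat_lit 3))))))))))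
theorem mini3_alt : Tr.all (altChk idx inv RW (SW3)) mini3A = true := by decide +kernel
theorem mini3_chk : Tr.all (chkFc idx inv mini3S mini3A (fun b => Tr.find b mini3P) (fun b => Tr.find b mini3Q)) mini3S = true := by decide +kernel
theorem mini3_run : runM idx inv mini3S 282 0 [Mv.f (nat_lit 5), Mv.f (nat_lit 6), Mv.f (nat_lit 11), Mv.f (nat_lit 12), Mv.f (nat_lit 13), Mv.f (nat_lit 14), Mv.f (nat_lit 15), Mv.f (nat_lit 49), Mv.f (nat_lit 51), Mv.f (nat_lit 53), Mv.f (nat_lit 54), Mv.f (nat_lit 55), Mv.f (nat_lit 56), Mv.b (nat_lit 281), Mv.b (nat_lit 55), Mv.b (nat_lit 54), Mv.b (nat_lit 53), Mv.b (nat_lit 51), Mv.b (nat_lit 49), Mv.b (nat_lit 15), Mv.b (nat_lit 14), Mv.b (nat_lit 13), Mv.b (nat_lit 12), Mv.b (nat_lit 11), Mv.b (nat_lit 6), Mv.b (nat_lit 5)] [Col.f, Col.b, Col.c, Col.d, Col.c,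 Col.b, Col.a, Col.e, Col.d, Col.c, Col.b, Col.d, Col.f, Col.c, Col.d, Col.b, Col.c, Col.d, Col.e, Col.a, Col.b, Col.c, Col.d, Col.c, Col.b, Col.f] 0 = true := by decide +kernel
theorem mini3_fix {G X : Type*} [Group G] [MulAction G X] (g : Col → G) (x0 : X) (hinv : ∀ c, g (inv c) = (g c)⁻¹)
    (hRW : ∀ w ∈ RW, gw g w = 1) (hSW : ∀ w ∈ SW3, gw g w • x0 = x0) : gw g [Col.f, Col.b, Col.c, Col.d, Col.c, Col.b, Col.a, Col.e, Col.d, Col.c, Col.b, Col.d, Col.f, Col.c, Col.d, Col.b, Col.c, Col.d, Col.e, Col.a, Col.b, Col.c, Col.d, Col.c, Col.b, Col.f] • x0 = x0 :=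
  mini_sound g x0 dec hdec hinv
    (fun a ha => altChk_sound g x0 dec hdec hinv hRW hSW ((Tr.all_iff _ _).1 mini3_alt a ha)) mini3_chk mini3_run
def T_a : ℕ := (nat_lit 0x2926bd49b9d384abafdb8053357e092d38ac6ceda5a04203fa31d146f224e8178903278b3b61323e8e15cee1c0d01016a7010061a66e696da6be37224dc20a4e7483773099fecf16e7a91c5e03ff6c8193ffa8d7d69e4793b0355598ea7b079b33aa7054e123667b3dfe5f3d5772cb014aab6c47580bd9aa25cd4c1f484e84077f888dee922b7bae3ce3e417d4fddbdf75760005fa66fd937c931b5e8c57a8f05a6e55a3442fc7c2aba70afc5c0f397aa7c30baddc392741bc203ccc4f8a50d7db18f3a336c704ef1ca248e870d64452d024438e19141e148d7d1c281c941cfd81cb87fc76e0b6b09d490d7c1fd4beb2eb4954850306520682c11fd2d0164bf1c6ebe564040a78777d2caeb6f2615317a84bbd47cb4ec2245c9c5a008db1b46b4bbe9b269ce6ae218ce9a31fed94dacae09213f246d24ef9bc9c36a6cb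7542c24d020453a9b7881d817c293582b9f66e7bcd00a86d5a4bf7f8805ce1125ec95a55e421a07b1df2654185bd2612ee5b227308f478361a3b90def88c5cb159a6708dd7471b544523c14d98bdc9dea42aedf0c4f61ad0dad12f57f4e8fd4a03e4a21d4c7041aea8aab630233c219f63e84b0e1c2b04b361073df9900be32c88f1ab806079b9cdf75094cf22d609b7ced8ce8bd1d92c6c71d0cc21050195937e310d8fc2579945ad46d64f32a11585ca45f1e2422f5d28bf8e4435907ed9bffe8b3c32c37fcfeee38e0c325d04af5d0b115a647fd697736702c77fcba5c6bad7ed6c83516ea8a04c85b691acea71d7ff3d937f81cde8df8a886456a47cbcd9616fe18c6894bd7ca4c3c2057ec4bcc39cf72141bcf6ac849cf50e67eff99aac6212176cbe925c4eacf69a115de4a1378cbaf9856a430bf68b10c023785959d22c761eb9301e079b02a5eab4b22)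
def T_b : ℕ := (nat_lit 0x26aa9c3bd32da2218a76e6ab090fc083e7d0e0adfa22c6358e141d4a054611d1184f87776e4746a976e981c8a2665f49cf8bb616e9ad8b9840b4d294e07e027b7d5b0c6f89f029a46a8a38c66ad3c9fe6ec3e44cb44ed2beb66cbe0f011235eab90b3d4226ee95d995c8e6fb5863604fb467a4861e05eb61b0e25b23c02212d9e1070ef3f49a424cdfa4e9c5ac01ff5dfd805598cc54a1d56b2cb16300b95afeaccdb5d0bb1720d0bb6676f6b32d8b079acef36e284d20951b709d738592a8d71c5196ac046dbd0fa798499f4861f59d116312fc000119d5ab44089c8aa67b47412a4e38cb831b1ad2242e0d88c314732760ab11889e698c4b8e97876403f9e49577485c7d252d6122d08d9ab527f5bf25a2051e5c450754284913a4a31e17fbec8709bc3e382ebb44adebf7d07ff32cec27fd0454c70246601b462cde9fc340e63209fa1163a7898459ba0fba1ac41d7bcd2977498ba917cc87c1ca35662a360d6f1b99c0a29a7c65069bbc96642cf52322f837c42c3634bb35353c7bf62ec8f1bcccd40261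f3954f2bb0d923fdf15bc3936de1a1c30e06b68553dee1616310ac1313a1d3c12d5cb0c4c0d7a6957f81587743491d12e112c97a5aa83c40d3a5aeeecc953138438327409443313756dfb7f83540a5cdafe6a460fa365d4e2207ccba9a3470aa0a92bdb415fa8991789ec5ad26529bc670f3732032a407e641687433b2479fab593bc05a507bfe2a6d2960ef2aed55c6a3c41b88fb361d2bca8d627737ee0fb0bf5808fb6535b58ff993368672d007ec9bcc0979938c850aa1a87a37c3b7d285e8b62f8ac6fb22ea69c5a02f67774206570bd738c03f6d70873440d975c794c4fbe0de3ae8e46eac48077a954b8201c8c92687426261fcb93fd94132245d5444f58f48923)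
def T_c : ℕ := (nat_lit 0x2b5a135af9f5cd733a8c0ea04270ff43b3e7b1cf2778d2998b9ee0bb1a6ac9983cb2ac2fcac4273db6cef9b2355abff2f50ed7510654e2fa02227123336b86f5e402160d54f31e957ba3e6b8d82277780518474a1be53b57060a82e47e8e2428c9b2a69b648d78cae839a7304709d236107a6cb187e7f3ef569193468ce2913f1a048babaacf322fce06653678475cb5ebab600112f39797b84919ded8321c04bc0d36d9314433f709eb7a0e1c273f958af8b0ca0150bc1f5196fc668b718e4a469c3343690cf8e7811b05ceb559bab467b0d14611531177d0f867d6eafe0bfdc60e7f8419dc83161377cc91f9c99f8d901bfd0964017e149326bd8a36350972422e988df99fe57020dcf20f99fc63ffbfe0cb3cdc216eea854ccbc49cf50973345d81ab601d5457bbf449d365d5e622062358004456ffac01a1254fc82d3052e1e3535d22eb7881ea6690b4de2842573f2948ca494bee1403424b161a2074f4ab72321fd82df46aa358ca94ca3c0382304fabaaa3c475760d06d09a56165999b95fb78092c2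091dd0551edbe3f6b2f60b9b4dcb51848571cb80cd610c22a0dc1294dd446af325c1e46c4bda11aec562e97c7846d5a4e6e54bbd82c2dcda38c0c35de3391bb542865e800c0b7a3a9f5b2f44aa366592608b84f222727e2e7a1db3dcc2f593a8dd7e1d2de5922a9ebf4d3aa7981e6407104d95f41e80e20e7ffe5a787ebea3a5a9993deddb99b1831fc49d69ca4f727405838d88269a1d652b2fef496c17a283c1f991dd7cbc2d1657b8a9d1cc629643b53c29d2976f4d38c7dd3dcfe27f0e05656a7da73edf58cf923a1566a6779e10e0d7dcbce1f762d57eef417578adaa633e944b09cebff645fb666292f2f56621ba41fe059493e5cf886396eb20d8672544804be34)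
def T_d : ℕ := (nat_lit 0x1ec5945ff4755b204c346bb2067875c465fd85844ed7b5f920f2c764adcd223fc43686814f144cafc441ab260c03d8ba9a9e33e496724d86ca6f7edf8c22c4511825e38e1643fc72c845ac6a81bf233d69329b925d3bf0f78057def5821efdc3eeeaa71427882e6ababc63a9358568330aa9f644ae02cddb2fff93b1f86f265983d44f0651ae684a974c125d2ae10ccfa1afc171d45ee32de220f207cf85b164ee2404d3a52c63efb8c30d9e2760308eee60c4b10cd1a0d948ebf4ae5f2b1b48ea34986ae6c8bc6969b19e5171d4e7fdafd487a3a4bc425c7ffc30bd4a0d10a6eb4f77e960cc3d03af5c8abc6f054ddeddfdedb0687dde6305292f5b1ed8244665816499ceadcb5e6965b42120e4924ab48c34ccd3b5b54e27b0ce2d432927b83b8fc8ae6c076062ba4c152a32c565fe46701be63a950ebf4aecaa65cc1e70d76cfbca7fc2c22d7fba3bacd5bcf113ea12d61c3415f8c5d073193b51f3fc17fd1f10bf1f1efc8648f7ee888dcac09b78ecaa3cb151cf37501a451d282c1176be4254f852a426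8b5f8d752037c431c47a2244366a7b8234acae5a5dc552a66f9414cc91ce2a2f247f3b688ee3b57aebeddf11eaebae9dc903152602ba431743a7d155b77d8085541ab72699960c8ee1633457b48816ab47ed451541cd1b97a3bf4e0ee90739d13ab9ebef6a81d0dc0ab51444fad52ac7f97233fdf0468f39d00449d302ce8b9e8ee1c0edfa648c2f9fb8ef92306fc5fabc4cadd9635a0a5735582e3a380f0f157876c2f012a0cf0696500e03cd1d6a725a2f1faaf6d40efe1672ed406be91a991b65664e680dfdf1e96c680074d60d2cca9876716552e9f8a92c0ff6ffd694bd404643d6e25dade30f9f20fb453134a762e3acac619f107f600ca736a1cb43b78a4bd6e7a)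
def T_e : ℕ := (nat_lit 0x1a8a9c27730719d1acb5ed46f3f2b9555f11d6d64778609726cadc7d193c6935ef4b858f4a4f2d7875a6d4825a09ee73efd63f78c894f7e577e2e6908d136a26505414879bcb6d6ddce4374a7ab1e9986d3b85bcd2c784ad629acdced5c2520fb5c2f2c3950f8e99f02f8f6124645a5a5227f7b7054ee32900e4fc67b4ec78bf529cf667fd4f48a6cddbbff076478680817b363e95a18b38befb5edd82f99d4ed5c8f50e806fbe1a7d0c76bffca9956f6f30ec5b95b53da6fde3a7148bda477e1ec6188b4e259925fb1ea98ab9bac20cda02dc914ab957752a09fc264d46abf1bf0511302554a599b381e940106286334af2b9adc07c12224f72a41cf39ae22441e4b48ea95b3ed4afee7ac9b7395f524a2581fc1d8471064f50f92ed3ad7313100f5964b2857bc21d50750f68f7b38c9ca723b31ec942b2fb3d8c72cf3be3c9f71a86cd41ec76aa74d3cf1f28a8914c56c148166f6dfbd9ca59bcaab72c690ffb7ad9fa8b6c09fe32831df952d7fe90a1ab560dfb7bd93bb23891fdd97ed82ecc1cfc9f1c9e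f9e55f3d75b25ff872dd1a6bc654055f1a112946e46a3e9d334ed5d22beaf5d14e1600f61253c604b49c57eb27d24d6130eadb0d79dbbde8f9584c37355f365c698021e24e71367398970a96c6a47b9bc82e07743104607e3819afd2bfeb55f13e804a6e226b009d964e780db3b5a7170a8173890258aed94422d58e7a7426c4cb74622eb24ef531e77bbcbc72ca46fee8befe62dd8e9594761b27311a0a87ed13343ee832db05d60b6329e56db7760d1ee83d18207026df3a9538dbfbfe5a1061a7c74b91ce65f1950e6ca0880173c6ab3a21e285c0a302b32afa091ea75c64efd277e1c9513661b404e9cffa2b41935682ab9270bb7126c495504ca8fb739189dc21e81)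
def T_f : ℕ := (nat_lit 0x1e2bd47c58bb0029ffccca9014abd06b515f2767afc52546e1afed9a74cd8ce733bb3c4c9065e93d572894da7929d65ebb53a5a57a84dfcd2a27c0202df598d5aaece244b0745683dfbe7fd2c0c8b84afd977eb31ba55dea05119b2b1aa787d4212eff57308c3d7f3aa404c573732227b7d152720b3a747eabf2007df52a704ccb26b9d5c2845d6069ef60c5407c0ef012cab0ef7d64257e825288b69981ec55115a665b750b20b9759c0e33b5c304ef44df5a47f885532e82789e343c32283827fd27367e2428afb8618790ca3a0615c373efb2a74ebe46a5d101900684710f6fd866be3186de4af9e42345043e0f08558211867df896357d5034a7df3fb4570d610c106818ff4bbb00c89bfa04f25e793828fa1feea0baf3a4d4b7dbcda719ca122f00b5f0f7f42e148619a7680e022669a0d152097c6358db5ad92cfd9dce5326c78052fe11d14e785e1206d20dd96543e7b1ba7a2b22ad5b87523a6fff0162b80b4e6279bf1ca3d8eeeb4e4ef07ea1071766e008e8e14247f68695c7da6e911283300475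1f0aa10773278b715b239c6edce4967525d90114ab63ec5dd9566d7786fde9a92de8463a80e8937ee489153d31d8630c6dc7a7744a5af451358c9c4a105dd2af8bbc9be3c24ffb655819f495fbb155737722a489c3a5bfd11643e1c5fa5407170f348380c28ddc33d9d6f9ab293e600607e0e5a282047aaa2272240edc64f11323f4c3ca6062de864de8f4a6ee153f3d7aca417da20918fba089aba483ab6c0e1e21230cef5aa6b72785811fa2ffdca709e67c58a63682c7793fb151743e2bf3f20c92eca7b8311bed53d3a6520438416c8b0cf7c050925cf9f2a7d11d6078dfe0afbcabd6ad2768043722f1e8f1735c828516ddcaf85ffec84b457f37a94f348ff7ac489)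
def U_a : ℕ := (nat_lit 0x2926ea98b52b5bdeeb7b7960fae63b1101225785e2ba9273bb8a95a491051adecb34b3e75be41634eda6ff5816b860862cb584d3cceafff28a6172fc0870c2baf1a2bdd5f2868c458562a4f7b7eed75b2829afa050b830f89aa95c3347ce55a41fc2f13a50c0219c9be73e3c7ee95afcfa9fb2b49a4443599f350cfdbf740965005d1bed763dd301ea9c8deb2ff2c3eb4add3adc6e24c1c5827e0804a6bca397e65345caad51a8cc84376d6af5305c5168f79eebe3a6fc560e44fdeb6059eae1edd2aa1f86bdf5e70702503bba44bd1a5a45cf2a6821dcb69ec107fb2b5568ec4cd5cecef3d0aa69153c341ed6e4e2216f2bab94ad2b537ed0cd324456117a55e5a01dc3b9736d661d0cb841223a58983b7c110d0e23b5bb65641cc088b239ccd047c5cc265c72e2293567c55a9e5797339dac7d2e6c6d35a5351a63267f4fd6bd51ad5b917cf46267709ef738b6a088717dff9fb2361c4d994ecffe248a7ce16af577bae367ec507f35422e77e55172b5b58ed1ccc883f565095fbefaabd216300a49518b28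76cb43f6cf22b4d9def005b6fbd207425e89143a4bf48435f74e523442b96fdde766364b11f807de4fe06a50034d6516947d7e178818b3d73ebc4475053391ca1d69d80318097f020e9f4c49f368fded229c1204720020a71cebf2b9bb96a5f3bca4776d11e1a627def76a26c4eb1c81982dcfe7635da2864d17a6ff21ec3ae83e6ff053c8d4c73297289c168bda7ffdc0e086b368fdf0c776dd135a45e0ca480eb1e9b962b11a8f2468d7273b9194ae12b90a3ddad5eef9a876364e7f2c19d7fae18d10b5b68cfbef07c75a5b1ca5860c3c4f42196e4e2400e4d5862f003f031b2f1c10029715a487be28422f9ab4dbae12599d7d350fe27fec2a988383d9b20e5641bed)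
def U_b : ℕ := (nat_lit 0x2ed887c0997d2b9b0e1f89d535b5997b866a4bca53bdcc50497e24e2de8d1b728c11cf4bcdfa61b948bf039d870f5135cc31be58eb1499efd52029a0ac7a3c98681ba4cfe6c50bba4807a028e5ef2cbcf0104ce2c7261a3c52a7925abb032799831a4d178b4294072bd8313a92b1070dde04af83d2e8d071e3d48a57357306ea888ed3fb2092e3a3db919f741fffa01c7d18d03cb11ce219517707aeb2df380a6babd44e4ab7b7696cfacc076c4ff03537bd91eea9feb957253baee189cdd34703846e302eb890b98df9d7e322d492c59cee8f1d553a920ff8c9e71f6e17592505a6aeb8769566aee613506527b893ebbf24bc10506b630316bb4867892063ca8674d84e5eea2988cae46d518dd0934da4a2018788eeb457aed908cd7fad460a5dab66927a163d70ee173b8e784bb521074a336fdf54c2a7ea90b1bab4df1de8d58d19d922519f8a854144142c3415ed42a9c89a3c164216f79b83993b6b217642e5d98b979417e44b9985207761baea564c12fdc404a213a4f3d2d1ca4a594d7860ec2316a1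710e9e1ee41c36217ff100aa998aab559e6a4d6ed16ce1a4be0cf62cc64403b17dfbf46b6aa271ea8d936b9bd9409a0532eae83723f29b960f4c30252370b27a81b48029e938363a3067909018a2270a31ccdd40c2a6b024b1d1aebb7db0a0f9279363aab0e1d034d0b7e928e904b6eb234a6097c941718eb8c16ebb0f4f923f949cb6e8c8b99c096b042337e41c8f9b726abc51b6f765b132084686126a7aba5008c887cf43326a3448358b41f66bf1412d4cc7dff5c9f03ee55f0c3523bb57dcbaf6d40ce2f25d8b7cc7807fc9cf8089b89791063a8cd2aab965e2c686ffe26ade1b9384fe102e7f0062e690957a8d7e6108dba5fb07e4bd6bf0165f11e7ba8b4fc2eb3)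
def U_c : ℕ := (nat_lit 0x11e2d1e5d51c15c9ec5f24750451f9d1af2d64a2a99a6bbf56a4196ccbdf3d46514d0937e50434dc8a63f7bcd46b5d07e1b7c1206360ab578652be524293f1c8a2ea5e52aea24f943b73bf3f68a0e509acbd9e40c3f372a9c9739e929503290929e4d8dfaeec8feebbe9bdb498b738440c6ebbab26375eea9908fb7db3d2310e16ce1f24033969f3542575519b1803fda8559d1de8a1c83c7d797afbd5b099efe52e1050b25124ae6c18f5b28f2bc390994abc456218d87f3cdb064a5462e4bdfada6531c08003c04bffe36f8528ac3924c94ef9b5f57c7f454a9d1894f1fabfae13ba868732c783804fe2a4f42d66eef718cf9589a0d95eb7eda17fff1195acad4e2bdf1716b058aadbafca4369519371aa2653aa98116f42e38eade0000ec57697f74fc2f2051ebaa3246ef5cbf2cdb7d2d81a5a1950878013008af6002c17db7b21833315c3b4970b5698857dd993618a92368175285ed3665009c6116aba5a402c70d7edcb831e4fa542a8e62d428a06392b84cc638e0e5783d583f001673d5218b4b2c8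630aa7c100ce31a292e74eb25bffb3a15fab3e8996d8b84222ab5ddbcb047665ff5c8de04a9c29df5584c6696e3651f5ec95a082149e0ebe583482c8288f7f4f46f20ca1b6d15150a6a477b62e87b6e8e90bc74695b4adafe0e4c9b7f0c6cb1ffa1130e18c56515697cb852e1d3237fccdd2ecc085ff29d5f3aa23dcb5058a003d4f0b2cda410bc94ddc7b0da1094b23a4ec5661035822a84772026f3c5312454e80d43bd8d2f4faec78a1a6f5edbdf0798173b3d0331d8a167073a96cc115c24c88770e34541bcf2a2adabc7ea46b82b36d05510c18a8391e0a6d532c3e7cbf664d2ebd89284fd8855bf8e2043a6f97042e91113ec1feb5ee570d337b812e5e7638839cc)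
def U_d : ℕ := (nat_lit 0x14c150d160cfe8187a5fa5fed9705a04797a5d06e3ee8eab34d28e739ee8698d453da9c5dee513b349ab6a17b70542f5eb7438df70ee26f14b7d1aadf051955c7e421f39ec2ce3f27904c13e991a91f8a0f1da7d04849c6ebbdf85b2b6814bdc5742bc3ca21ce94f8ce0442550970b36093de708f52ae843a6b7b293d2b348f9d4eebe719ee69b07136202e88eecba0f7bda52631bbc7cf0323cc6d5e3fbacec480b28e9d637feb85cc00e29c984cf38bf4e57c70265811f064b2ec2c5aa0be389bd1a48c6faf81c2b7abea5cfebe0981ff3f6cd538b0dacdb99882a387bc98855f2241b1f05c214f042370488406ade6087e4a9c3dfff1e0d8cb61e4476426bd554452b4a49e45a605a7ce55ec4a862e9cc9294cfe1ef1370be5340652c4b6f732ffdc7cfadc17155ff03dd7e47cf3065045eea315cf4dd6e5efbf7f8e9733349dc652b7e58d3d48eae58df167af2843d6d310a72276c72efe501f57767a330f3a97f5e01200c49b98973c170110cc74d44a47e4975ce3ebff371829b38655bcfc1067893b7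35add2157ca05bf4229413c89c810220fe8d3fee3319c735e3791e8e852714c2e715f0174b7a95e0191fbaba88d17470b32867a233fc2a28353eb3579092a9932ae0f67be1ea8abc0da88bb402a6e21e68d5c835d964090cd682d96e949e4ad1f8b7fac1700870056d4fcb51719da563fa7e09bfcc7f5b02727f0f601b71600e6069311280b9df3ef07b8b69932f5383fa87fc3d78b9904ee6fbfb4e7eb293a41a2a0adbfa28e777bf876ac64a362a826b9a3c28d5546d60adf668cd221cd1bb432c22afb60f67b4ab7f9f8364a6670b3ce33312c409ac8f833962ab22b93f22dc532ba2a33305b6b44e5f33117359172b444f835f250ed68dfb67495450723c6368eee11)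
def U_e : ℕ := (nat_lit 0xffac938dcd7962768cc56c2463f39b8b8877f7d14ebfc66c7c2e29b050d488a2a9211d85cbad19427226009146408ec5a7b80c8b044c9c36e2ff87e5d17d0581b57b258a98cfe66bad679950fccef7e8d733368829f2999243abe4de13be5a1fdedd7af946313ff587a18c97598b5712d89ab606d7f440bbfae8e201bf8ca016c4151e358a11bcc95cc004aff0894f1141f7f44642f103184a3a5908820abb744b6638ca0687d48d6c542f9008442fa6ebff6d9f8fc35a19ceef70d902198f529b2503de94c2ba9c2b374b00917ac92231856548d6ea924469b1be61734cc0fcddfa5d0a5adb880f191e4ab299ca9a709135fd5d10056e35fcb4d8d636ed98a14b65a9f4c223245ed43f7cae3963777f95990f0e41c2a7e8b4e0392f98e2104cf9d6474694fbe06815b3a1649d862285cbaf66b52a006d1b0d87d29e8794d8e6d35f37cdf8054ed27a246d2e9102abe3e031826998a4d0f08ec3cb960d48ceb71bdd1d7dd04c64fd0540e77ab18c4364e2261f436ba2edfc69aa56ea893cf7ac940b91c25d18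2e0068760f9e96d47660ed3a8c0a00416baff48c491abc113c95b1c904e933ba968f62443c8862b2e05a4459eb38e5e656add865752819aed78ce26ba31815a6b52f11636538a497053ebcd656603fdaf0ee6ba62cc1add85a0c282c685b8dbf7b4f851023e272fac113ec59fc60bb249444bfeedcb0ad1e16d3589bb55ef7965ae2b5c5ae06b96cfa349adcb314a728dce5dda68653c3ec06fde329c012805653fce7e34f728a73e5da6720ccce4094ae616b25f0fc6ff8e3e569bfa9d638f7de547ba4f9e98e1e01f579b54843b8150a834aaba6724688c80c607beb55e1cff6b4f10103af342742038af9d5851a7924b60b88d18747c4bf1dd1854b0e73fc754697f3)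
def U_f : ℕ := (nat_lit 0x1a92560defff4ec5e44cbf5473a0ecf7f6a4afd3b64fa4e1b15bf1d4beb4f61b905a1c1785ba069fe5023a15d74780ddbd924c4caadc412ad1bcca099a3737c2ca0c29e43b281c41d2c49d066c14d9ed5b7ed1524a7d9373bc0ff0207629e071ae61b1e84c90740a4ddf497f65c9eeebee9c88edbe607bdc758d0496c53fb95b5436781c53d04799dda2276ea0b5c9fe706f996ae89f87a953f10f203ed7bcd28bc94daca81e111d0c5966351d1557342551fa801e72157906d0ef48677c825c85192d676095fe91dc2fd471b3e5cbee1617636154ffc9f5165afa31149405f5c5c2b818ca41a768828f12b9eee299ce18369ffc033748ab31f7d3fd8086138060016385755cdecbb44ba965e2f5d423e1da2cbc8b27ce012a6d8fe7ea2ff7b3a962b92e43d9f465b6763c70d7645f18ee86d3f6e8b774a6aa0d62031993d0812623a53a3cb979bcbb7d9054cfdac005fc01ab6389d126d14b308106b3a822998dd72092a5bc6d6154f1dcb9074744ea972e8b831929897fe611214355adace151442ab5189b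9e7d8243348384e42566c0f7dde04041b951f62da1c3cd4022dfa88feaaac3f29297507235f6269f691a9cabd363aa26cd91106cadbed8be7840f994abd58bce8ca1604a678a3574271f50b9311c52f5e95c21810174c596f196a47f0620cd4124390b754aa5730592ff8ac7bd638b828cbde2c047d820c37303e8b9e74c3bbf2a85d263f0963d13ef588c5dccb9477a92c831092ceb8156ab1be3abd84032ba30aad4e349ce81df77d66962d01b72e145b8b0b3b5862192569c8334f5bb38b5c5d2dcd4e9f684ba7f3c460b540f4f39ce17d318dabcb660373d40935eef23fc177ec7ae768749b562821fd238971d7f089e3b291a7ae397d89e361ee9c1ee2a9e1018880)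
def V_a : ℕ := (nat_lit 0x2398d9e8a199a102e6080baaf3da623901ed64fc8c22c51caba0de2367fa40740622d825558af9bef81daa0c69d07c7a88cf1ddaf431ca1a6381de7ece1c51e7f4932c99222d7fae33095d80a9747b04475d8b64b07cbb5973a20f3a13b8ed42af64da3f06fb11615ddb90c7ddbffb253be0cf68889bef581d669027c2ae85583a8288c5a92cb5575652eddb4c36277491da4bf74fc7f0453f2324ae30120c8e9a693ab5faab663f6c9c569ceee5d3432bdac9842fa46225979994967f7a3c465985a4d102eb9312a724e837eef0c9db38ea6cab76273d89fd15f881a140ed3416de4f2d7ab3fc3fd6791ed232ced3f8b458c1e866a39fc87e68fbbeca305af840591d84f43d81f4dc8cc0dcb6ab81afe5b5805ac418722e3d5672129afab368c8acc430f270315a6b3ca27622629f3ce6450673894337a401d9891e6b8b04418bd5fa72f8787078876448f8706b3fe040ef65efb0b3a70f47031e0c6f1d77a697bc98ffb136ade84422b586a4f07a92d07914d90c44228c1d2e07b3bdce8815894cf6b213a8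b104bcd005bb64e3f911cde7adb3139d029bcf254a35e48d43e85d1ef266cd3314920e2a581793fdc9dba4184124357691a12149e28a95b906fcd1c591a7cc046af766de3e564a5302170523a5e094d7ba4a068ef84e154c13ea2f06f66a8511ad6cd4892babdccf1e1766466fae0eb660780197d7d9f99bfc8462fd208b7edbd9621c5bd3aa7606e3044dce54c9378167c605b9fe18dcaffcac3f99a46dbd5feaff02e2f71da363cb4a98e2955925d871506630662ac54085f70b6ca3e5714d6e29fc161a86dc331628ade1b0f9dacec34b523535875a86f00bd1765d03c36888d4bdb4b8a09fe70b25ac1bfd8a549692dd21fdcf68d049a214a609d40c7cb360f4dcf83)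
def V_b : ℕ := (nat_lit 0x3373ba1a6071e119f9820bfbcb4febbf8e9072cc8340cb15c46b06d638f5e4367eede7d765973b886f2965f1d882c1e0331c5ef56e8881a61290661fa8ac639992cbacec8c9a3531c6ba2f3fcbc583783c4cced3a5465843fdb7c20a3bc6d871c9f4a4d4ce4c2a028295d9dbb160a289ce88c451d200ce8654e3f4aa1002e2d712659e9217f6851926716ddc215b4692ed8671541cecd8324dc5daafd60acf9e4cf05d2127b3dc0ae92c900186de722b8935769150a933a0c4d5ec347029f696b67448b508fe9eb449869fc85c5350e433a15739a2ff8cf7b2bb39de90bef3bf6abfe6c6e990cba8a17746b5daa95ad5ccd42af70678c940b6d935b2e8e572691b1f69b7977a216318bd63b6cc7c03482b0f1a6da0ad94b05306a9c8f52c37a388f590e3ccc2396f0a133bf0219f43f7700f911f8a62b24343d80a8cf4a681bc351735fe27c3a092debca62eee11686e2de4ddd8ec59576c18bff42ed10a437ddba90304ad89686b3124c7429009a009df5f11eea9a521e4d08289e2905ac7a2743b59f361ce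5c272e371a6b98426df7a213722702673d47339032294f86418468b6b75e5eed8879f46b4d7682fac8952099896c07b5dd74a612e70cb408f7c78498dd5dc5ab39d90ae10e5c40a4858500cc3875b14701e019640bc97c6a98ba02d0f1e50ac1a0117dafea4227d3995e11687012f29a894b45f7fb9da35ebeb233e2edc219d087916e39f34c3e2a6cf42f1dde168b2030c8a261d83a70d051375f5035ddd439b7c1f90044d167949686d17a523562cf62d8da03cc326d4ce2bdadc488aa97454e63a7b0db3a3880f0321c9a08002e4a02a8b4287997d29ad1aa22d2a879a3331445d67c52c7af49dc511409dcb9b41c999848c98ebb903d9000633609b09259bc4d6e150)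
def V_c : ℕ := (nat_lit 0x954f5a4d6554e0dec549e979b0c2ed10049e537fb30ec5f50472d2656d894ca84320d8575984ba63dd38b45eaad948597b1e18c14cd61ec21bd1a651fc6fb51ecc05a42450a65059724740e37763190fd4d22dbd25706f1d295b55996b58ea6b4f0f9783c656a3c7025a979840a81507d9822b6cb9329b3e30130c16f8a93975b0ecc9427743a647c5f37843168ca92aad50bcfd0ba5042414928accad93ee564c9de8b4b6f83d558faebd2b3154529f6015939227e7565d9c245a128daf86e8a4c705b7c0b4adfb62616f356c7ce31c5333532be43867247f6d731a917fb59dac82ab84be4f1e08c4e447105afbded5c3d596675874af36afc03a96f639c1537e0ea8cf0aab546fb93b9578392102993ebe88f8abab381b96ce54ac767a807e7fbec626dbdf6da527fbff61b9a5dc51c84e48ddac15432da895075f91427da10365b30b2779730eae8e36425ca8e502ce1ed728fbe1748bb29c577aeba083c7373a6f0d9316a35763aed5f881fdf21b9c5be88a04f3560fb57a9ac03e4e7ecc32a4dbab6d8e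bf9849b2f799fffb91ea88d9db2a9311ccee5bb1ec14c92e07fcdf5a88dd0a11ccb13429912ccbdb5fcc1a7cba4fa087862c91d96558e040d8b8b254fba2a13437a6e7d7a79841aacef9c000162d5cfbae0f26c78a47effa612deda0a2b958424218a091c29d7ef57fbf756fc01301a9eb56ee6770d60b069fe745d361f7f23889954e1302c8e1a20dc1478231dae94fd4c947250ccaaacec7399708e3de7f137c4d3d17862124e52b32bd089e36defb626354c711f76c44ff30a74d0f11593cee6cf49489212b5b96e0dec6bdf34fbe0732585aafa8bda2f3d8832b1d7772062197c3f77fe2d1e28a6e2edb779147af369d219ee3d0d31a16bcaeec7ca88a35393bf10f)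
def V_d : ℕ := (nat_lit 0x20a79a2c84d92a5c7a1210297c089d493892c8bd106010fa99c45597e3bcf89ba103647d9d35259873d19020f053fa4a3ee8e88ac5a16a92a10b81e310bcd8ea88650dec925e7fcdbb2fe6ac4aefc35926a4f07dae54fee8577fe23e6a278756a382219fd437872e804d1e7425876905e606bc3db9862a7e11f71be3545af3dcaf45f294e4da10fadee4df7e19e21fc4f6dc509fbab9c4cf40379732d4e9cdfd8742f037dfaa917959c73d1f07c94a9fb865c00f5bcf35ee49872693de5465c2527a8f889ccb47e82a816b4804da7d66cef2050654c2cf8cf76a5e84643a1ad19bb404f10390d65685d2647887cd94536f3cc10bf7bccf4e62459b5fee34ed1f02aac2b9f6762342a41dd04037c165f8db21cc52190a7e051c3dc6754dd105daab6ad15bc096f3897a6aba913138455966247a58d186e4ceb7e48df0a2ef91eefafe7e33fe87f9defb5496849e8187dbf8e1b2e12786b2543451a34708a68d507fe45cc9bd2a627754ec5e25392c609a6b8053c8d409699369e3e46bfdfa9ebe4badb486482b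dde9da72aaca9af3b6485d39f30929c3b810aea995b0eada89a4490a5d6d28c4a1950d4a331b5f59259872e73d60b3ac1e7c54f475c7cf81dcebb5b19359f62abc4f7268b57e858351465da671334fad5510874c9e256f95df96fe121681cfecbceb02b88c6d658a494d3f13a23f62e00f60a5377a63991495bfc3f5ec3965ef06e3b4a45b46db554111f7d057a9161947927666623929d55cdbaddc97e0a68cd92dd99e21f7f06fcd24a2a0aeac2a56a41a3237d623f867e2a205d62e7f590d75457a422e1f8b9b72b0b6f597825cbba8d048db25327f9da15d28e6ef0ef25132537c741b9b1441b2e5f7e812e1bff99b6f651aaf7c5d856e93d4818e95d90f7d12ee71)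
def V_e : ℕ := (nat_lit 0x315a94b8f2558cbc77acdc42bc05b98548ad9908fd854060a0c4a87801b1fce7eada0b9014a543e4203c79dce6b1dc3146a7e7bf8273eced7282a9076bde877139d1ed3d5eb09ea70557ca3ff9ac72c00616aa4c1c182a49be0e69f0b2a3595ea2f555bd6e869d0bd19cf480807596b1ac4ba7f599a73949c432a7b20d0546f5b5eefb56ae97f5e971d9850b832235f73357b2bc7b32e39647c911418ddde5082fa8ba982a7a6b04857a67bb0560739c3ff5877fee93da3ccad2cd9b3b08d05ce64217a2d86826dc563060179be4e094306352e029afb91a62382972b9de71870fdaeb7562fb7b67e4eb75adda59f465d51a2b7a71ec45d3b832080dc27ac4898c862cf0c537679f0872598b8028a7a09d6d0a2aef6b7083ba57841080fc6256d4b1dca6962a6c37590cea2c88fc5842f90fce82cdaf8033e97fbe95b6aaccc4e2272504414e79c32548e85abcd2ddd1378e273a2284101229c728a0781055fd67402bbc68e2658dc4ec784d2f0ebb2bf5d2839fcd9ade65c871378d7df91abaceed4b5cd112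749b89f3249ccf20948ab1781713855a990c29d935d0214c68310f3a243efa61a17d2e77e221bf144ef98ee19ea16d1bc5ba727855f441cb25b27f8332da6c7af72ea98359358ac0139b77ea32e0a4602fdfa84a8f3e330d3fd66f1ba6d4a732c18a1457ba9303db7d17d2da26f4f2f7b26fbc2d01d124826273d954866961b531430ddfec846f3049e8e5c403a902a1dad3e1213078e87ae1b99b1ea1d602ef95422571f69a68348196931bb7908f958185fbae9f7192fa13f94177741677a57efe63279b72f26eadb3952aba690f6c9fe916245a99965ae06816e19d4f4ccbf5d832c244be09f8a66e7cc009ed2141363076296b474d244a3416c03293d8c5b52a449e7)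
def V_f : ℕ := (nat_lit 0x91c47572263dd8bb5bc9795b401cd2d0f13a10695da66d10523d689fe81c73aa95b7f7042bc14755431ff49fa9d9f99acdb28da558e1f2f580b7c94201c7e4b54144afc670a551e9b4aa30f0db2d8892d7d23d3aac2642a255f5b10174eba281dba0f223db9eec57241559af55471e2ef19f01227459138ea4a187e2529fb1adab12da795b3e2d724898e238e2a00fe80d481e94e74248f75993a83e7f2ba36e5169a30b391bf4fef45b1791162989d0a4dfb2d833d475e5aa62b7da853a6b523436a2d8b139ce79239c7b00ab3541f17cea4553980144b7c0f8c78c40b23f69b27e87c2cbf3b68397e1ead53dbdc3d5c1cc21d63a05b26cdb84210f0d5f5ced804076c240f2e5e82b886c951f3add732f93b78eaf936953a7cac6e2d86a3d864835eca9c3487c8e7ca8a99e37b59a2ea68c05f1804121b27c1bcc74852789f55e2f8040f72ca16578299afbe2f820f6d0803ef02dbca26ff62ee8b5c18f1e03af94cecef3eb315547c4d14dad52082b31b7e291e1377d810c1624c6675024085e09b707743f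8b4c35c0584c9df9a2b3ae5a0ad445d2079226b3a45a3a47725f13b180c48c2bd7bf4570f2ee7bfbb835aa7fa1b34d586d8b5d85770ad24b3d670c3a21852d22bc003cf9cada6090608adfa07ca0f44e261b3a93b5b6a3f4586d9eac80bb066cc44e45375a205b85c931b923b96e56830ddf1fb621cb0785d86efaf94e1f8b02d41f149e1990ca8124a0d3efbd3666eb65bc174ff0f968681c5032915bb29073e90cea175be4082663ab0b022e3554c90c1a51704d8f2114a6a29321789af2a87ad198dc90b5b1c3860c3eef322248de9f690a271736e9657579e8f00f9e414bc2cdabe648b052f3487a781013780cd16125e0161073accda519ed37216d13fc8a5b0a42)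
def PP : ℕ := (nat_lit 0xf27e72e7b558819cbcfbd9c757fc2c3942382771fb246776c158fa83da835927ac2a4fed9384cdb093f7a351ff4225986b963a5493eae44c1991813fb478a6292f97518885798267ec22ad2a2ea5365dce5fa58e9ee613b4c88e5d0fee416c20f690a45ba3f43d1f877c9f5a257394eb00d712392beac094920cd99f92d32820d1347a46bb0cf9ff2293769987d8bb4d84cee5c38cd9f0982005669d0aa7a7ea4e1834ceca7760753a0f52712a2ab52c196b2eadd9977ca15651660050eb90580c6ef9d98da31b7c94a88e34a3e18612cf3c32d85db3cd3cd073f30cb92a414716b344d647bdebe22d00b99d5410ca59df91a340b1e10b8245d41063b8b382deb0e2dc77c49038249dcd8da2eea913760463cffa7d92c27ee61e79627f2b05351d078e20dcacc7992cf576ce32dc33ef47ea4dec9ef542ad7045fe0b1bc7eedabcc577df1b0d8f6ce45648ad232076847f3a7ac9cb1652a14c78ae03ffb6302b0a70d97ee7a5d46a84f1f98c4cba4fa1b7913d7dce05d028f1da4f36843b5aa6a3c56a38abc72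dcb35ccf3faaae970f6b66780eb4b2da75747c8147c6b64188897ba8060930c242bfb2f472325ec948eeb23ed87b9a1baafe3099d7f04aaf85fec26168801967034f61a5844ae7911c64b3579d6336962d6543db5b3b733adb4570a6ea1a3652685bd7e9bb896052ce36b883cd5909b802fa7919a7899e5235b6f6add8aa8086fbf1ea96c3fdd60a3b162a49cb77917dfb4a5913c58818234031bc86be28dc24f0c8aad175c9649a7f72cbd191b36a9252487117c51cacb7b7e8008116774633d60294d9413e9e10e1d755639d30cc41dcc3b10733164686d1171d52f9ce9c9206fd6e7c599c1755d80de2225c3fbf0dd4d0ee197f6ae2576fbd7d48cd3b9aa24d6a4d5)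
def DD : ℕ := (nat_lit 0x4919fac0f8ba326c807f202d309c98f9e3ed12ff4f7a349320be44d543552f3169f7bc91c13799009cf994ee1ef9141068687279b3d5fc7d19876e19134b8d45e346f95a2efcac44dafec27e47707bc348ac0992f779894467a603ac965c69665dcf5c8ce95c2c02de7073362d009e904fb510d6f28de356a1370a2fc90893eb234d455e28dda003daebf463c9572d623d3aa7222bcec4dbfc781850a20f3bb7f0e8b08f2ac5cd6ff0f16825f11c35b45624c5cdb869d281e15c07b785b4fd9867ed7c5102e92773a4c13175517c93d569fd6b0e6a98e4862d6d33df241a0c4593b028e64b356c29a5f97a97613d8774d2e236fa4e61258567db4713352b494467d635f5d996b619908a2b7ac7c314aad2e79dfa81b2d678181c15fe9aa1489e7db0e4b31541bd0847694a0499dd0540a54ffbec20f400b011e150b2058de993b11ea10d7c4d5cbc6ab6ef89f79394cdd27b30eec72d48fc01906a6d4e43108e5eb7f69cfe67e8eedca7bd927253562590da5a7b4a16f67e11c940bd52b9fe254adaab0532c91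2a589a6b642aa41be528c58dfa771a3f32957ffaa4150ee1457c59c7a63a947a25d6369e7a14c9b6d62704e65d0957cb55c97de27f9b0a61196025ac69b6d11cb23a86716025a194e2b98225fb6b8ecaa4424f0b9553abf0f5ac5b773318993d8c81b9c83241b29b786e342a40d7dbd4ff1f25162b947b8250b13eebbe4eb5c0e7a16469dbf8a40c04f6b63b023dc33fb9ba92590226c5e3a7dcd0cd6e98da2efc5bc166a6198011bbd31669eed8d3da65b35fee79b4593b062fefafee5a2298972c94a0c58e65f48329463f6b2e40e20594337da5c7559c8c00d5e0c217f6192418f6e7683a3d31c95e863f1125ddb5fd8365ba11c9b1e890d5f3b0bdfcb2217c2cc98)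
noncomputable def stp : Col → ℕ → ℕ := fun c q => Nat.add (Nat.mod (Col.rec (motive := fun _ => ℕ) T_a T_b T_c T_d T_e T_f c) q) (nat_lit 4096)
noncomputable def tau : Col → ℕ → ℕ := fun c q => (Nat.mod (Col.rec (motive := fun _ => ℕ) U_a U_b U_c U_d U_e U_f c) q)
noncomputable def del : Col → ℕ → ℕ := fun c q => (Nat.mod (Col.rec (motive := fun _ => ℕ) V_a V_b V_c V_d V_e V_f c) q)
noncomputable def PT : ℕ → ℕ := fun q => Nat.add (Nat.mod PP q) (nat_lit 4096)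
noncomputable def DT : ℕ → ℕ := fun q => (Nat.mod DD q)
noncomputable def L_0 : Tr ℕ := (Tr.nd (nat_lit 5869) (Tr.nd (nat_lit 4999) (Tr.nd (nat_lit 4549) (Tr.nd (nat_lit 4327) (Tr.nd (nat_lit 4219) (Tr.nd (nat_lit 4153) (Tr.nd (nat_lit 4129) (Tr.nd (nat_lit 4111) (Tr.lf (nat_lit 4099)) (Tr.nd (nat_lit 4127) (Tr.lf (nat_lit 4111)) (Tr.lf (nat_lit 4127)))) (Tr.nd (nat_lit 4133) (Tr.lf (nat_lit 4129)) (Tr.nd (nat_lit 4139) (Tr.lf (nat_lit 4133)) (Tr.lf (nat_lit 4139))))) (Tr.nd (nat_lit 4177) (Tr.nd (nat_lit 4157) (Tr.lf (nat_lit 4153)) (Tr.nd (nat_lit 4159) (Tr.lf (nat_lit 4157)) (Tr.lf (nat_lit 4159)))) (Tr.nd (nat_lit 4211) (Tr.nd (nat_lit 4201) (Tr.lf (nat_lit 4177)) (Tr.lf (nat_lit 4201))) (Tr.nd (nat_lit 4217) (Tr.lf (nat_lit 4211)) (Tr.lf (nat_lit 4217)))))) (Tr.nd (nat_lit 4259) (Tr.nd (nat_lit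 4241) (Tr.nd (nat_lit 4229) (Tr.lf (nat_lit 4219)) (Tr.nd (nat_lit 4231) (Tr.lf (nat_lit 4229)) (Tr.lf (nat_lit 4231)))) (Tr.nd (nat_lit 4243) (Tr.lf (nat_lit 4241)) (Tr.nd (nat_lit 4253) (Tr.lf (nat_lit 4243)) (Tr.lf (nat_lit 4253))))) (Tr.nd (nat_lit 4273) (Tr.nd (nat_lit 4261) (Tr.lf (nat_lit 4259)) (Tr.nd (nat_lit 4271) (Tr.lf (nat_lit 4261)) (Tr.lf (nat_lit 4271)))) (Tr.nd (nat_lit 4289) (Tr.nd (nat_lit 4283) (Tr.lf (nat_lit 4273)) (Tr.lf (nat_lit 4283))) (Tr.nd (nat_lit 4297) (Tr.lf (nat_lit 4289)) (Tr.lf (nat_lit 4297))))))) (Tr.nd (nat_lit 4447) (Tr.nd (nat_lit 4373) (Tr.nd (nat_lit 4349) (Tr.nd (nat_lit 4337) (Tr.lf (nat_lit 4327)) (Tr.nd (nat_lit 4339) (Tr.lf (nat_lit 4337)) (Tr.lf (nat_lit 4339)))) (Tr.nd (nat_lit 4357) (Tr.lf (nat_lit 4349)) (Tr.nd (nat_lit 4363) (Tr.lf (nat_lit 4357))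 (Tr.lf (nat_lit 4363))))) (Tr.nd (nat_lit 4409) (Tr.nd (nat_lit 4391) (Tr.lf (nat_lit 4373)) (Tr.nd (nat_lit 4397) (Tr.lf (nat_lit 4391)) (Tr.lf (nat_lit 4397)))) (Tr.nd (nat_lit 4423) (Tr.nd (nat_lit 4421) (Tr.lf (nat_lit 4409)) (Tr.lf (nat_lit 4421))) (Tr.nd (nat_lit 4441) (Tr.lf (nat_lit 4423)) (Tr.lf (nat_lit 4441)))))) (Tr.nd (nat_lit 4493) (Tr.nd (nat_lit 4463) (Tr.nd (nat_lit 4451) (Tr.lf (nat_lit 4447)) (Tr.nd (nat_lit 4457) (Tr.lf (nat_lit 4451)) (Tr.lf (nat_lit 4457)))) (Tr.nd (nat_lit 4481) (Tr.lf (nat_lit 4463)) (Tr.nd (nat_lit 4483) (Tr.lf (nat_lit 4481)) (Tr.lf (nat_lit 4483))))) (Tr.nd (nat_lit 4517) (Tr.nd (nat_lit 4507) (Tr.lf (nat_lit 4493)) (Tr.nd (nat_lit 4513) (Tr.lf (nat_lit 4507)) (Tr.lf (nat_lit 4513)))) (Tr.nd (nat_lit 4523) (Tr.nd (nat_lit 4519) (Tr.lf (nat_lit 4517)) (Tr.lf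 (nat_lit 4519))) (Tr.nd (nat_lit 4547) (Tr.lf (nat_lit 4523)) (Tr.lf (nat_lit 4547)))))))) (Tr.nd (nat_lit 4787) (Tr.nd (nat_lit 4657) (Tr.nd (nat_lit 4603) (Tr.nd (nat_lit 4583) (Tr.nd (nat_lit 4561) (Tr.lf (nat_lit 4549)) (Tr.nd (nat_lit 4567) (Tr.lf (nat_lit 4561)) (Tr.lf (nat_lit 4567)))) (Tr.nd (nat_lit 4591) (Tr.lf (nat_lit 4583)) (Tr.nd (nat_lit 4597) (Tr.lf (nat_lit 4591)) (Tr.lf (nat_lit 4597))))) (Tr.nd (nat_lit 4639) (Tr.nd (nat_lit 4621) (Tr.lf (nat_lit 4603)) (Tr.nd (nat_lit 4637) (Tr.lf (nat_lit 4621)) (Tr.lf (nat_lit 4637)))) (Tr.nd (nat_lit 4649) (Tr.nd (nat_lit 4643) (Tr.lf (nat_lit 4639)) (Tr.lf (nat_lit 4643))) (Tr.nd (nat_lit 4651) (Tr.lf (nat_lit 4649)) (Tr.lf (nat_lit 4651)))))) (Tr.nd (nat_lit 4721) (Tr.nd (nat_lit 4679) (Tr.nd (nat_lit 4663) (Tr.lf (nat_lit 4657)) (Tr.nd (nat_lit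 4673) (Tr.lf (nat_lit 4663)) (Tr.lf (nat_lit 4673)))) (Tr.nd (nat_lit 4691) (Tr.lf (nat_lit 4679)) (Tr.nd (nat_lit 4703) (Tr.lf (nat_lit 4691)) (Tr.lf (nat_lit 4703))))) (Tr.nd (nat_lit 4733) (Tr.nd (nat_lit 4723) (Tr.lf (nat_lit 4721)) (Tr.nd (nat_lit 4729) (Tr.lf (nat_lit 4723)) (Tr.lf (nat_lit 4729)))) (Tr.nd (nat_lit 4759) (Tr.nd (nat_lit 4751) (Tr.lf (nat_lit 4733)) (Tr.lf (nat_lit 4751))) (Tr.nd (nat_lit 4783) (Tr.lf (nat_lit 4759)) (Tr.lf (nat_lit 4783))))))) (Tr.nd (nat_lit 4909) (Tr.nd (nat_lit 4817) (Tr.nd (nat_lit 4799) (Tr.nd (nat_lit 4789) (Tr.lf (nat_lit 4787)) (Tr.nd (nat_lit 4793) (Tr.lf (nat_lit 4789)) (Tr.lf (nat_lit 4793)))) (Tr.nd (nat_lit 4801) (Tr.lf (nat_lit 4799)) (Tr.nd (nat_lit 4813) (Tr.lf (nat_lit 4801)) (Tr.lf (nat_lit 4813))))) (Tr.nd (nat_lit 4871) (Tr.nd (nat_lit 4831)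 (Tr.lf (nat_lit 4817)) (Tr.nd (nat_lit 4861) (Tr.lf (nat_lit 4831)) (Tr.lf (nat_lit 4861)))) (Tr.nd (nat_lit 4889) (Tr.nd (nat_lit 4877) (Tr.lf (nat_lit 4871)) (Tr.lf (nat_lit 4877))) (Tr.nd (nat_lit 4903) (Tr.lf (nat_lit 4889)) (Tr.lf (nat_lit 4903)))))) (Tr.nd (nat_lit 4951) (Tr.nd (nat_lit 4933) (Tr.nd (nat_lit 4919) (Tr.lf (nat_lit 4909)) (Tr.nd (nat_lit 4931) (Tr.lf (nat_lit 4919)) (Tr.lf (nat_lit 4931)))) (Tr.nd (nat_lit 4937) (Tr.lf (nat_lit 4933)) (Tr.nd (nat_lit 4943) (Tr.lf (nat_lit 4937)) (Tr.lf (nat_lit 4943))))) (Tr.nd (nat_lit 4969) (Tr.nd (nat_lit 4957) (Tr.lf (nat_lit 4951)) (Tr.nd (nat_lit 4967) (Tr.lf (nat_lit 4957)) (Tr.lf (nat_lit 4967)))) (Tr.nd (nat_lit 4987) (Tr.nd (nat_lit 4973) (Tr.lf (nat_lit 4969)) (Tr.lf (nat_lit 4973))) (Tr.nd (nat_lit 4993) (Tr.lf (nat_lit 4987)) (Tr.lf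 (nat_lit 4993))))))))) (Tr.nd (nat_lit 5449) (Tr.nd (nat_lit 5231) (Tr.nd (nat_lit 5101) (Tr.nd (nat_lit 5039) (Tr.nd (nat_lit 5011) (Tr.nd (nat_lit 5003) (Tr.lf (nat_lit 4999)) (Tr.nd (nat_lit 5009) (Tr.lf (nat_lit 5003)) (Tr.lf (nat_lit 5009)))) (Tr.nd (nat_lit 5021) (Tr.lf (nat_lit 5011)) (Tr.nd (nat_lit 5023) (Tr.lf (nat_lit 5021)) (Tr.lf (nat_lit 5023))))) (Tr.nd (nat_lit 5077) (Tr.nd (nat_lit 5051) (Tr.lf (nat_lit 5039)) (Tr.nd (nat_lit 5059) (Tr.lf (nat_lit 5051)) (Tr.lf (nat_lit 5059)))) (Tr.nd (nat_lit 5087) (Tr.nd (nat_lit 5081) (Tr.lf (nat_lit 5077)) (Tr.lf (nat_lit 5081))) (Tr.nd (nat_lit 5099) (Tr.lf (nat_lit 5087)) (Tr.lf (nat_lit 5099)))))) (Tr.nd (nat_lit 5167) (Tr.nd (nat_lit 5119) (Tr.nd (nat_lit 5107) (Tr.lf (nat_lit 5101)) (Tr.nd (nat_lit 5113) (Tr.lf (nat_lit 5107)) (Tr.lf (nat_lit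 5113)))) (Tr.nd (nat_lit 5147) (Tr.lf (nat_lit 5119)) (Tr.nd (nat_lit 5153) (Tr.lf (nat_lit 5147)) (Tr.lf (nat_lit 5153))))) (Tr.nd (nat_lit 5189) (Tr.nd (nat_lit 5171) (Tr.lf (nat_lit 5167)) (Tr.nd (nat_lit 5179) (Tr.lf (nat_lit 5171)) (Tr.lf (nat_lit 5179)))) (Tr.nd (nat_lit 5209) (Tr.nd (nat_lit 5197) (Tr.lf (nat_lit 5189)) (Tr.lf (nat_lit 5197))) (Tr.nd (nat_lit 5227) (Tr.lf (nat_lit 5209)) (Tr.lf (nat_lit 5227))))))) (Tr.nd (nat_lit 5351) (Tr.nd (nat_lit 5281) (Tr.nd (nat_lit 5261) (Tr.nd (nat_lit 5233) (Tr.lf (nat_lit 5231)) (Tr.nd (nat_lit 5237) (Tr.lf (nat_lit 5233)) (Tr.lf (nat_lit 5237)))) (Tr.nd (nat_lit 5273) (Tr.lf (nat_lit 5261)) (Tr.nd (nat_lit 5279) (Tr.lf (nat_lit 5273)) (Tr.lf (nat_lit 5279))))) (Tr.nd (nat_lit 5309) (Tr.nd (nat_lit 5297) (Tr.lf (nat_lit 5281)) (Tr.nd (nat_lit 5303)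 (Tr.lf (nat_lit 5297)) (Tr.lf (nat_lit 5303)))) (Tr.nd (nat_lit 5333) (Tr.nd (nat_lit 5323) (Tr.lf (nat_lit 5309)) (Tr.lf (nat_lit 5323))) (Tr.nd (nat_lit 5347) (Tr.lf (nat_lit 5333)) (Tr.lf (nat_lit 5347)))))) (Tr.nd (nat_lit 5413) (Tr.nd (nat_lit 5393) (Tr.nd (nat_lit 5381) (Tr.lf (nat_lit 5351)) (Tr.nd (nat_lit 5387) (Tr.lf (nat_lit 5381)) (Tr.lf (nat_lit 5387)))) (Tr.nd (nat_lit 5399) (Tr.lf (nat_lit 5393)) (Tr.nd (nat_lit 5407) (Tr.lf (nat_lit 5399)) (Tr.lf (nat_lit 5407))))) (Tr.nd (nat_lit 5431) (Tr.nd (nat_lit 5417) (Tr.lf (nat_lit 5413)) (Tr.nd (nat_lit 5419) (Tr.lf (nat_lit 5417)) (Tr.lf (nat_lit 5419)))) (Tr.nd (nat_lit 5441) (Tr.nd (nat_lit 5437) (Tr.lf (nat_lit 5431)) (Tr.lf (nat_lit 5437))) (Tr.nd (nat_lit 5443) (Tr.lf (nat_lit 5441)) (Tr.lf (nat_lit 5443)))))))) (Tr.nd (nat_lit 5669)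 (Tr.nd (nat_lit 5563) (Tr.nd (nat_lit 5503) (Tr.nd (nat_lit 5479) (Tr.nd (nat_lit 5471) (Tr.lf (nat_lit 5449)) (Tr.nd (nat_lit 5477) (Tr.lf (nat_lit 5471)) (Tr.lf (nat_lit 5477)))) (Tr.nd (nat_lit 5483) (Tr.lf (nat_lit 5479)) (Tr.nd (nat_lit 5501) (Tr.lf (nat_lit 5483)) (Tr.lf (nat_lit 5501))))) (Tr.nd (nat_lit 5521) (Tr.nd (nat_lit 5507) (Tr.lf (nat_lit 5503)) (Tr.nd (nat_lit 5519) (Tr.lf (nat_lit 5507)) (Tr.lf (nat_lit 5519)))) (Tr.nd (nat_lit 5531) (Tr.nd (nat_lit 5527) (Tr.lf (nat_lit 5521)) (Tr.lf (nat_lit 5527))) (Tr.nd (nat_lit 5557) (Tr.lf (nat_lit 5531)) (Tr.lf (nat_lit 5557)))))) (Tr.nd (nat_lit 5639) (Tr.nd (nat_lit 5581) (Tr.nd (nat_lit 5569) (Tr.lf (nat_lit 5563)) (Tr.nd (nat_lit 5573) (Tr.lf (nat_lit 5569)) (Tr.lf (nat_lit 5573)))) (Tr.nd (nat_lit 5591) (Tr.lf (nat_lit 5581)) (Tr.nd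 (nat_lit 5623) (Tr.lf (nat_lit 5591)) (Tr.lf (nat_lit 5623))))) (Tr.nd (nat_lit 5651) (Tr.nd (nat_lit 5641) (Tr.lf (nat_lit 5639)) (Tr.nd (nat_lit 5647) (Tr.lf (nat_lit 5641)) (Tr.lf (nat_lit 5647)))) (Tr.nd (nat_lit 5657) (Tr.nd (nat_lit 5653) (Tr.lf (nat_lit 5651)) (Tr.lf (nat_lit 5653))) (Tr.nd (nat_lit 5659) (Tr.lf (nat_lit 5657)) (Tr.lf (nat_lit 5659))))))) (Tr.nd (nat_lit 5791) (Tr.nd (nat_lit 5717) (Tr.nd (nat_lit 5693) (Tr.nd (nat_lit 5683) (Tr.lf (nat_lit 5669)) (Tr.nd (nat_lit 5689) (Tr.lf (nat_lit 5683)) (Tr.lf (nat_lit 5689)))) (Tr.nd (nat_lit 5701) (Tr.lf (nat_lit 5693)) (Tr.nd (nat_lit 5711) (Tr.lf (nat_lit 5701)) (Tr.lf (nat_lit 5711))))) (Tr.nd (nat_lit 5743) (Tr.nd (nat_lit 5737) (Tr.lf (nat_lit 5717)) (Tr.nd (nat_lit 5741) (Tr.lf (nat_lit 5737)) (Tr.lf (nat_lit 5741)))) (Tr.nd (nat_lit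 5779) (Tr.nd (nat_lit 5749) (Tr.lf (nat_lit 5743)) (Tr.lf (nat_lit 5749))) (Tr.nd (nat_lit 5783) (Tr.lf (nat_lit 5779)) (Tr.lf (nat_lit 5783)))))) (Tr.nd (nat_lit 5839) (Tr.nd (nat_lit 5813) (Tr.nd (nat_lit 5801) (Tr.lf (nat_lit 5791)) (Tr.nd (nat_lit 5807) (Tr.lf (nat_lit 5801)) (Tr.lf (nat_lit 5807)))) (Tr.nd (nat_lit 5821) (Tr.lf (nat_lit 5813)) (Tr.nd (nat_lit 5827) (Tr.lf (nat_lit 5821)) (Tr.lf (nat_lit 5827))))) (Tr.nd (nat_lit 5851) (Tr.nd (nat_lit 5843) (Tr.lf (nat_lit 5839)) (Tr.nd (nat_lit 5849) (Tr.lf (nat_lit 5843)) (Tr.lf (nat_lit 5849)))) (Tr.nd (nat_lit 5861) (Tr.nd (nat_lit 5857) (Tr.lf (nat_lit 5851)) (Tr.lf (nat_lit 5857))) (Tr.nd (nat_lit 5867) (Tr.lf (nat_lit 5861)) (Tr.lf (nat_lit 5867)))))))))) (Tr.nd (nat_lit 6823) (Tr.nd (nat_lit 6337) (Tr.nd (nat_lit 6131) (Tr.nd (nat_lit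 6029) (Tr.nd (nat_lit 5927) (Tr.nd (nat_lit 5897) (Tr.nd (nat_lit 5879) (Tr.lf (nat_lit 5869)) (Tr.nd (nat_lit 5881) (Tr.lf (nat_lit 5879)) (Tr.lf (nat_lit 5881)))) (Tr.nd (nat_lit 5903) (Tr.lf (nat_lit 5897)) (Tr.nd (nat_lit 5923) (Tr.lf (nat_lit 5903)) (Tr.lf (nat_lit 5923))))) (Tr.nd (nat_lit 5981) (Tr.nd (nat_lit 5939) (Tr.lf (nat_lit 5927)) (Tr.nd (nat_lit 5953) (Tr.lf (nat_lit 5939)) (Tr.lf (nat_lit 5953)))) (Tr.nd (nat_lit 6007) (Tr.nd (nat_lit 5987) (Tr.lf (nat_lit 5981)) (Tr.lf (nat_lit 5987))) (Tr.nd (nat_lit 6011) (Tr.lf (nat_lit 6007)) (Tr.lf (nat_lit 6011)))))) (Tr.nd (nat_lit 6073) (Tr.nd (nat_lit 6047) (Tr.nd (nat_lit 6037) (Tr.lf (nat_lit 6029)) (Tr.nd (nat_lit 6043) (Tr.lf (nat_lit 6037)) (Tr.lf (nat_lit 6043)))) (Tr.nd (nat_lit 6053) (Tr.lf (nat_lit 6047)) (Tr.nd (nat_lit 6067)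 (Tr.lf (nat_lit 6053)) (Tr.lf (nat_lit 6067))))) (Tr.nd (nat_lit 6091) (Tr.nd (nat_lit 6079) (Tr.lf (nat_lit 6073)) (Tr.nd (nat_lit 6089) (Tr.lf (nat_lit 6079)) (Tr.lf (nat_lit 6089)))) (Tr.nd (nat_lit 6113) (Tr.nd (nat_lit 6101) (Tr.lf (nat_lit 6091)) (Tr.lf (nat_lit 6101))) (Tr.nd (nat_lit 6121) (Tr.lf (nat_lit 6113)) (Tr.lf (nat_lit 6121))))))) (Tr.nd (nat_lit 6247) (Tr.nd (nat_lit 6197) (Tr.nd (nat_lit 6151) (Tr.nd (nat_lit 6133) (Tr.lf (nat_lit 6131)) (Tr.nd (nat_lit 6143) (Tr.lf (nat_lit 6133)) (Tr.lf (nat_lit 6143)))) (Tr.nd (nat_lit 6163) (Tr.lf (nat_lit 6151)) (Tr.nd (nat_lit 6173) (Tr.lf (nat_lit 6163)) (Tr.lf (nat_lit 6173))))) (Tr.nd (nat_lit 6211) (Tr.nd (nat_lit 6199) (Tr.lf (nat_lit 6197)) (Tr.nd (nat_lit 6203) (Tr.lf (nat_lit 6199)) (Tr.lf (nat_lit 6203)))) (Tr.nd (nat_lit 6221) (Tr.nd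 (nat_lit 6217) (Tr.lf (nat_lit 6211)) (Tr.lf (nat_lit 6217))) (Tr.nd (nat_lit 6229) (Tr.lf (nat_lit 6221)) (Tr.lf (nat_lit 6229)))))) (Tr.nd (nat_lit 6287) (Tr.nd (nat_lit 6269) (Tr.nd (nat_lit 6257) (Tr.lf (nat_lit 6247)) (Tr.nd (nat_lit 6263) (Tr.lf (nat_lit 6257)) (Tr.lf (nat_lit 6263)))) (Tr.nd (nat_lit 6271) (Tr.lf (nat_lit 6269)) (Tr.nd (nat_lit 6277) (Tr.lf (nat_lit 6271)) (Tr.lf (nat_lit 6277))))) (Tr.nd (nat_lit 6311) (Tr.nd (nat_lit 6299) (Tr.lf (nat_lit 6287)) (Tr.nd (nat_lit 6301) (Tr.lf (nat_lit 6299)) (Tr.lf (nat_lit 6301)))) (Tr.nd (nat_lit 6323) (Tr.nd (nat_lit 6317) (Tr.lf (nat_lit 6311)) (Tr.lf (nat_lit 6317))) (Tr.nd (nat_lit 6329) (Tr.lf (nat_lit 6323)) (Tr.lf (nat_lit 6329)))))))) (Tr.nd (nat_lit 6577) (Tr.nd (nat_lit 6451) (Tr.nd (nat_lit 6373) (Tr.nd (nat_lit 6359) (Tr.nd (nat_lit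 6343) (Tr.lf (nat_lit 6337)) (Tr.nd (nat_lit 6353) (Tr.lf (nat_lit 6343)) (Tr.lf (nat_lit 6353)))) (Tr.nd (nat_lit 6361) (Tr.lf (nat_lit 6359)) (Tr.nd (nat_lit 6367) (Tr.lf (nat_lit 6361)) (Tr.lf (nat_lit 6367))))) (Tr.nd (nat_lit 6397) (Tr.nd (nat_lit 6379) (Tr.lf (nat_lit 6373)) (Tr.nd (nat_lit 6389) (Tr.lf (nat_lit 6379)) (Tr.lf (nat_lit 6389)))) (Tr.nd (nat_lit 6427) (Tr.nd (nat_lit 6421) (Tr.lf (nat_lit 6397)) (Tr.lf (nat_lit 6421))) (Tr.nd (nat_lit 6449) (Tr.lf (nat_lit 6427)) (Tr.lf (nat_lit 6449)))))) (Tr.nd (nat_lit 6529) (Tr.nd (nat_lit 6481) (Tr.nd (nat_lit 6469) (Tr.lf (nat_lit 6451)) (Tr.nd (nat_lit 6473) (Tr.lf (nat_lit 6469)) (Tr.lf (nat_lit 6473)))) (Tr.nd (nat_lit 6491) (Tr.lf (nat_lit 6481)) (Tr.nd (nat_lit 6521) (Tr.lf (nat_lit 6491)) (Tr.lf (nat_lit 6521))))) (Tr.nd (nat_lit 6553)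 (Tr.nd (nat_lit 6547) (Tr.lf (nat_lit 6529)) (Tr.nd (nat_lit 6551) (Tr.lf (nat_lit 6547)) (Tr.lf (nat_lit 6551)))) (Tr.nd (nat_lit 6569) (Tr.nd (nat_lit 6563) (Tr.lf (nat_lit 6553)) (Tr.lf (nat_lit 6563))) (Tr.nd (nat_lit 6571) (Tr.lf (nat_lit 6569)) (Tr.lf (nat_lit 6571))))))) (Tr.nd (nat_lit 6701) (Tr.nd (nat_lit 6653) (Tr.nd (nat_lit 6607) (Tr.nd (nat_lit 6581) (Tr.lf (nat_lit 6577)) (Tr.nd (nat_lit 6599) (Tr.lf (nat_lit 6581)) (Tr.lf (nat_lit 6599)))) (Tr.nd (nat_lit 6619) (Tr.lf (nat_lit 6607)) (Tr.nd (nat_lit 6637) (Tr.lf (nat_lit 6619)) (Tr.lf (nat_lit 6637))))) (Tr.nd (nat_lit 6673) (Tr.nd (nat_lit 6659) (Tr.lf (nat_lit 6653)) (Tr.nd (nat_lit 6661) (Tr.lf (nat_lit 6659)) (Tr.lf (nat_lit 6661)))) (Tr.nd (nat_lit 6689) (Tr.nd (nat_lit 6679) (Tr.lf (nat_lit 6673)) (Tr.lf (nat_lit 6679))) (Tr.nd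 (nat_lit 6691) (Tr.lf (nat_lit 6689)) (Tr.lf (nat_lit 6691)))))) (Tr.nd (nat_lit 6761) (Tr.nd (nat_lit 6719) (Tr.nd (nat_lit 6703) (Tr.lf (nat_lit 6701)) (Tr.nd (nat_lit 6709) (Tr.lf (nat_lit 6703)) (Tr.lf (nat_lit 6709)))) (Tr.nd (nat_lit 6733) (Tr.lf (nat_lit 6719)) (Tr.nd (nat_lit 6737) (Tr.lf (nat_lit 6733)) (Tr.lf (nat_lit 6737))))) (Tr.nd (nat_lit 6781) (Tr.nd (nat_lit 6763) (Tr.lf (nat_lit 6761)) (Tr.nd (nat_lit 6779) (Tr.lf (nat_lit 6763)) (Tr.lf (nat_lit 6779)))) (Tr.nd (nat_lit 6793) (Tr.nd (nat_lit 6791) (Tr.lf (nat_lit 6781)) (Tr.lf (nat_lit 6791))) (Tr.nd (nat_lit 6803) (Tr.lf (nat_lit 6793)) (Tr.lf (nat_lit 6803))))))))) (Tr.nd (nat_lit 7283) (Tr.nd (nat_lit 7019) (Tr.nd (nat_lit 6917) (Tr.nd (nat_lit 6863) (Tr.nd (nat_lit 6833) (Tr.nd (nat_lit 6827) (Tr.lf (nat_lit 6823)) (Tr.nd (nat_lit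 6829) (Tr.lf (nat_lit 6827)) (Tr.lf (nat_lit 6829)))) (Tr.nd (nat_lit 6841) (Tr.lf (nat_lit 6833)) (Tr.nd (nat_lit 6857) (Tr.lf (nat_lit 6841)) (Tr.lf (nat_lit 6857))))) (Tr.nd (nat_lit 6883) (Tr.nd (nat_lit 6869) (Tr.lf (nat_lit 6863)) (Tr.nd (nat_lit 6871) (Tr.lf (nat_lit 6869)) (Tr.lf (nat_lit 6871)))) (Tr.nd (nat_lit 6907) (Tr.nd (nat_lit 6899) (Tr.lf (nat_lit 6883)) (Tr.lf (nat_lit 6899))) (Tr.nd (nat_lit 6911) (Tr.lf (nat_lit 6907)) (Tr.lf (nat_lit 6911)))))) (Tr.nd (nat_lit 6971) (Tr.nd (nat_lit 6959) (Tr.nd (nat_lit 6947) (Tr.lf (nat_lit 6917)) (Tr.nd (nat_lit 6949) (Tr.lf (nat_lit 6947)) (Tr.lf (nat_lit 6949)))) (Tr.nd (nat_lit 6961) (Tr.lf (nat_lit 6959)) (Tr.nd (nat_lit 6967) (Tr.lf (nat_lit 6961)) (Tr.lf (nat_lit 6967))))) (Tr.nd (nat_lit 6991) (Tr.nd (nat_lit 6977) (Tr.lf (nat_lit 6971))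 (Tr.nd (nat_lit 6983) (Tr.lf (nat_lit 6977)) (Tr.lf (nat_lit 6983)))) (Tr.nd (nat_lit 7001) (Tr.nd (nat_lit 6997) (Tr.lf (nat_lit 6991)) (Tr.lf (nat_lit 6997))) (Tr.nd (nat_lit 7013) (Tr.lf (nat_lit 7001)) (Tr.lf (nat_lit 7013))))))) (Tr.nd (nat_lit 7159) (Tr.nd (nat_lit 7079) (Tr.nd (nat_lit 7043) (Tr.nd (nat_lit 7027) (Tr.lf (nat_lit 7019)) (Tr.nd (nat_lit 7039) (Tr.lf (nat_lit 7027)) (Tr.lf (nat_lit 7039)))) (Tr.nd (nat_lit 7057) (Tr.lf (nat_lit 7043)) (Tr.nd (nat_lit 7069) (Tr.lf (nat_lit 7057)) (Tr.lf (nat_lit 7069))))) (Tr.nd (nat_lit 7121) (Tr.nd (nat_lit 7103) (Tr.lf (nat_lit 7079)) (Tr.nd (nat_lit 7109) (Tr.lf (nat_lit 7103)) (Tr.lf (nat_lit 7109)))) (Tr.nd (nat_lit 7129) (Tr.nd (nat_lit 7127) (Tr.lf (nat_lit 7121)) (Tr.lf (nat_lit 7127))) (Tr.nd (nat_lit 7151) (Tr.lf (nat_lit 7129)) (Tr.lf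 (nat_lit 7151)))))) (Tr.nd (nat_lit 7213) (Tr.nd (nat_lit 7193) (Tr.nd (nat_lit 7177) (Tr.lf (nat_lit 7159)) (Tr.nd (nat_lit 7187) (Tr.lf (nat_lit 7177)) (Tr.lf (nat_lit 7187)))) (Tr.nd (nat_lit 7207) (Tr.lf (nat_lit 7193)) (Tr.nd (nat_lit 7211) (Tr.lf (nat_lit 7207)) (Tr.lf (nat_lit 7211))))) (Tr.nd (nat_lit 7237) (Tr.nd (nat_lit 7219) (Tr.lf (nat_lit 7213)) (Tr.nd (nat_lit 7229) (Tr.lf (nat_lit 7219)) (Tr.lf (nat_lit 7229)))) (Tr.nd (nat_lit 7247) (Tr.nd (nat_lit 7243) (Tr.lf (nat_lit 7237)) (Tr.lf (nat_lit 7243))) (Tr.nd (nat_lit 7253) (Tr.lf (nat_lit 7247)) (Tr.lf (nat_lit 7253)))))))) (Tr.nd (nat_lit 7537) (Tr.nd (nat_lit 7433) (Tr.nd (nat_lit 7333) (Tr.nd (nat_lit 7309) (Tr.nd (nat_lit 7297) (Tr.lf (nat_lit 7283)) (Tr.nd (nat_lit 7307) (Tr.lf (nat_lit 7297)) (Tr.lf (nat_lit 7307)))) (Tr.nd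 (nat_lit 7321) (Tr.lf (nat_lit 7309)) (Tr.nd (nat_lit 7331) (Tr.lf (nat_lit 7321)) (Tr.lf (nat_lit 7331))))) (Tr.nd (nat_lit 7369) (Tr.nd (nat_lit 7349) (Tr.lf (nat_lit 7333)) (Tr.nd (nat_lit 7351) (Tr.lf (nat_lit 7349)) (Tr.lf (nat_lit 7351)))) (Tr.nd (nat_lit 7411) (Tr.nd (nat_lit 7393) (Tr.lf (nat_lit 7369)) (Tr.lf (nat_lit 7393))) (Tr.nd (nat_lit 7417) (Tr.lf (nat_lit 7411)) (Tr.lf (nat_lit 7417)))))) (Tr.nd (nat_lit 7487) (Tr.nd (nat_lit 7459) (Tr.nd (nat_lit 7451) (Tr.lf (nat_lit 7433)) (Tr.nd (nat_lit 7457) (Tr.lf (nat_lit 7451)) (Tr.lf (nat_lit 7457)))) (Tr.nd (nat_lit 7477) (Tr.lf (nat_lit 7459)) (Tr.nd (nat_lit 7481) (Tr.lf (nat_lit 7477)) (Tr.lf (nat_lit 7481))))) (Tr.nd (nat_lit 7507) (Tr.nd (nat_lit 7489) (Tr.lf (nat_lit 7487)) (Tr.nd (nat_lit 7499) (Tr.lf (nat_lit 7489)) (Tr.lf (nat_lit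 7499)))) (Tr.nd (nat_lit 7523) (Tr.nd (nat_lit 7517) (Tr.lf (nat_lit 7507)) (Tr.lf (nat_lit 7517))) (Tr.nd (nat_lit 7529) (Tr.lf (nat_lit 7523)) (Tr.lf (nat_lit 7529))))))) (Tr.nd (nat_lit 7621) (Tr.nd (nat_lit 7573) (Tr.nd (nat_lit 7549) (Tr.nd (nat_lit 7541) (Tr.lf (nat_lit 7537)) (Tr.nd (nat_lit 7547) (Tr.lf (nat_lit 7541)) (Tr.lf (nat_lit 7547)))) (Tr.nd (nat_lit 7559) (Tr.lf (nat_lit 7549)) (Tr.nd (nat_lit 7561) (Tr.lf (nat_lit 7559)) (Tr.lf (nat_lit 7561))))) (Tr.nd (nat_lit 7589) (Tr.nd (nat_lit 7577) (Tr.lf (nat_lit 7573)) (Tr.nd (nat_lit 7583) (Tr.lf (nat_lit 7577)) (Tr.lf (nat_lit 7583)))) (Tr.nd (nat_lit 7603) (Tr.nd (nat_lit 7591) (Tr.lf (nat_lit 7589)) (Tr.lf (nat_lit 7591))) (Tr.nd (nat_lit 7607) (Tr.lf (nat_lit 7603)) (Tr.lf (nat_lit 7607)))))) (Tr.nd (nat_lit 7681) (Tr.nd (nat_lit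 7649) (Tr.nd (nat_lit 7639) (Tr.lf (nat_lit 7621)) (Tr.nd (nat_lit 7643) (Tr.lf (nat_lit 7639)) (Tr.lf (nat_lit 7643)))) (Tr.nd (nat_lit 7669) (Tr.lf (nat_lit 7649)) (Tr.nd (nat_lit 7673) (Tr.lf (nat_lit 7669)) (Tr.lf (nat_lit 7673))))) (Tr.nd (nat_lit 7699) (Tr.nd (nat_lit 7687) (Tr.lf (nat_lit 7681)) (Tr.nd (nat_lit 7691) (Tr.lf (nat_lit 7687)) (Tr.lf (nat_lit 7691)))) (Tr.nd (nat_lit 7717) (Tr.nd (nat_lit 7703) (Tr.lf (nat_lit 7699)) (Tr.lf (nat_lit 7703))) (Tr.nd (nat_lit 7723) (Tr.lf (nat_lit 7717)) (Tr.lf (nat_lit 7723)))))))))))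
noncomputable def L : Tr ℕ := L_0
noncomputable def A : Tr (Alt Col) := (Tr.nd (nat_lit 26) (Tr.nd (nat_lit 13) (Tr.nd (nat_lit 6) (Tr.nd (nat_lit 3) (Tr.nd (nat_lit 1) (Tr.lf Alt.tree) (Tr.nd (nat_lit 2) (Tr.lf (Alt.word (nat_lit 15) (nat_lit 0) true [Col.d, Col.d])) (Tr.lf (Alt.word (nat_lit 18) (nat_lit 0) true [Col.e, Col.e])))) (Tr.nd (nat_lit 4) (Tr.lf (Alt.word (nat_lit 20) (nat_lit 0) true [Col.f, Col.f])) (Tr.nd (nat_lit 5) (Tr.lf (Alt.word (nat_lit 6) (nat_lit 0) true [Col.b, Col.b])) (Tr.lf (Alt.word (nat_lit 0) (nat_lit 0) true [Col.a, Col.a]))))) (Tr.nd (nat_lit 9) (Tr.nd (nat_lit 7) (Tr.lf (Alt.word (nat_lit 11) (nat_lit 0) true [Col.c, Col.c])) (Tr.nd (nat_lit 8) (Tr.lf (Alt.word (nat_lit 4) (nat_lit 0) true [Col.e, Col.a, Col.e, Col.a])) (Tr.lf (Alt.word (nat_lit 8) (nat_lit 1) true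 [Col.b, Col.d, Col.b, Col.d])))) (Tr.nd (nat_lit 11) (Tr.nd (nat_lit 10) (Tr.lf (Alt.word (nat_lit 2) (nat_lit 0) true [Col.c, Col.a, Col.c, Col.a])) (Tr.lf (Alt.word (nat_lit 3) (nat_lit 0) true [Col.d, Col.a, Col.d, Col.a]))) (Tr.nd (nat_lit 12) (Tr.lf (Alt.word (nat_lit 5) (nat_lit 1) true [Col.a, Col.f, Col.a, Col.f])) (Tr.lf (Alt.word (nat_lit 9) (nat_lit 0) true [Col.e, Col.b, Col.e, Col.b])))))) (Tr.nd (nat_lit 19) (Tr.nd (nat_lit 16) (Tr.nd (nat_lit 14) (Tr.lf (Alt.word (nat_lit 3) (nat_lit 1) true [Col.a, Col.d, Col.a, Col.d])) (Tr.nd (nat_lit 15) (Tr.lf (Alt.word (nat_lit 8) (nat_lit 0) true [Col.d, Col.b, Col.d, Col.b])) (Tr.lf (Alt.word (nat_lit 5) (nat_lit 0) true [Col.f, Col.a, Col.f, Col.a])))) (Tr.nd (nat_lit 17) (Tr.lf (Alt.word (nat_lit 9) (nat_lit 1) true [Col.b, Col.e, Col.b,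 Col.e])) (Tr.nd (nat_lit 18) (Tr.lf (Alt.word (nat_lit 2) (nat_lit 1) true [Col.a, Col.c, Col.a, Col.c])) (Tr.lf (Alt.word (nat_lit 13) (nat_lit 1) true [Col.c, Col.e, Col.c, Col.e]))))) (Tr.nd (nat_lit 22) (Tr.nd (nat_lit 20) (Tr.lf (Alt.word (nat_lit 4) (nat_lit 1) true [Col.a, Col.e, Col.a, Col.e])) (Tr.nd (nat_lit 21) (Tr.lf (Alt.word (nat_lit 17) (nat_lit 0) true [Col.f, Col.d, Col.f, Col.d])) (Tr.lf (Alt.word (nat_lit 7) (nat_lit 0) true [Col.c, Col.b, Col.c, Col.b, Col.c, Col.b])))) (Tr.nd (nat_lit 24) (Tr.nd (nat_lit 23) (Tr.lf (Alt.word (nat_lit 14) (nat_lit 1) true [Col.c, Col.f, Col.c, Col.f])) (Tr.lf (Alt.word (nat_lit 17) (nat_lit 1) true [Col.d, Col.f, Col.d, Col.f]))) (Tr.nd (nat_lit 25) (Tr.lf (Alt.word (nat_lit 14) (nat_lit 0) true [Col.f, Col.c, Col.f, Col.c])) (Tr.lf (Alt.word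 (nat_lit 13) (nat_lit 0) true [Col.e, Col.c, Col.e, Col.c]))))))) (Tr.nd (nat_lit 39) (Tr.nd (nat_lit 32) (Tr.nd (nat_lit 29) (Tr.nd (nat_lit 27) (Tr.lf (Alt.word (nat_lit 19) (nat_lit 1) true [Col.e, Col.f, Col.e, Col.f])) (Tr.nd (nat_lit 28) (Tr.lf (Alt.word (nat_lit 7) (nat_lit 1) true [Col.b, Col.c, Col.b, Col.c, Col.b, Col.c])) (Tr.lf (Alt.word (nat_lit 19) (nat_lit 0) true [Col.f, Col.e, Col.f, Col.e])))) (Tr.nd (nat_lit 30) (Tr.lf (Alt.word (nat_lit 10) (nat_lit 0) true [Col.f, Col.b, Col.f, Col.b, Col.f, Col.b])) (Tr.nd (nat_lit 31) (Tr.lf (Alt.word (nat_lit 10) (nat_lit 1) true [Col.b, Col.f, Col.b, Col.f, Col.b, Col.f])) (Tr.lf (Alt.word (nat_lit 1) (nat_lit 0) true [Col.b, Col.a, Col.b, Col.a, Col.b, Col.a, Col.b, Col.a, Col.b, Col.a]))))) (Tr.nd (nat_lit 35) (Tr.nd (nat_lit 33) (Tr.lf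 (Alt.word (nat_lit 21) (nat_lit 1) true [Col.d, Col.c, Col.d, Col.c, Col.d, Col.c, Col.d, Col.a, Col.c])) (Tr.nd (nat_lit 34) (Tr.lf (Alt.word (nat_lit 16) (nat_lit 1) true [Col.d, Col.e, Col.d, Col.e, Col.d, Col.e])) (Tr.lf (Alt.word (nat_lit 1) (nat_lit 1) true [Col.a, Col.b, Col.a, Col.b, Col.a, Col.b, Col.a, Col.b, Col.a, Col.b])))) (Tr.nd (nat_lit 37) (Tr.nd (nat_lit 36) (Tr.lf (Alt.word (nat_lit 21) (nat_lit 0) true [Col.c, Col.d, Col.c, Col.d, Col.c, Col.d, Col.c, Col.d, Col.a])) (Tr.lf (Alt.word (nat_lit 21) (nat_lit 2) true [Col.c, Col.d, Col.c, Col.d, Col.c, Col.d, Col.a, Col.c, Col.d]))) (Tr.nd (nat_lit 38) (Tr.lf (Alt.word (nat_lit 16) (nat_lit 0) true [Col.e, Col.d, Col.e, Col.d, Col.e, Col.d])) (Tr.lf (Alt.word (nat_lit 22) (nat_lit 0) true [Col.f, Col.c, Col.b, Col.a, Col.f, Col.c,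 Col.b, Col.a, Col.f, Col.c, Col.b, Col.a, Col.f, Col.c, Col.b, Col.a, Col.f, Col.c, Col.b, Col.a])))))) (Tr.nd (nat_lit 46) (Tr.nd (nat_lit 42) (Tr.nd (nat_lit 40) (Tr.lf (Alt.base (nat_lit 0) [] [Col.a])) (Tr.nd (nat_lit 41) (Tr.lf (Alt.base (nat_lit 1) [] [Col.b])) (Tr.lf (Alt.base (nat_lit 2) [] [Col.c])))) (Tr.nd (nat_lit 44) (Tr.nd (nat_lit 43) (Tr.lf (Alt.base (nat_lit 3) [] [Col.d])) (Tr.lf (Alt.base (nat_lit 4) [] [Col.e]))) (Tr.nd (nat_lit 45) (Tr.lf (Alt.base (nat_lit 5) [Col.f, Col.b, Col.a, Col.b] [Col.f, Col.a, Col.b, Col.a, Col.b, Col.f])) (Tr.lf (Alt.base (nat_lit 6) [Col.f, Col.b, Col.c, Col.d, Col.c, Col.b, Col.a] [Col.b, Col.f, Col.c, Col.d, Col.b, Col.c, Col.a, Col.b, Col.f]))))) (Tr.nd (nat_lit 49) (Tr.nd (nat_lit 47) (Tr.lf (Alt.word (nat_lit 22) (nat_lit 2) false [Col.c, Col.f,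 Col.a, Col.b, Col.c, Col.f, Col.a, Col.b, Col.c, Col.f, Col.a, Col.b, Col.c, Col.f, Col.a, Col.b, Col.c, Col.f, Col.a, Col.b])) (Tr.nd (nat_lit 48) (Tr.lf (Alt.word (nat_lit 21) (nat_lit 0) false [Col.a, Col.d, Col.c, Col.d, Col.c, Col.d, Col.c, Col.d, Col.c])) (Tr.lf (Alt.base (nat_lit 7) [Col.f, Col.b, Col.c, Col.d, Col.c, Col.b, Col.e, Col.d, Col.c, Col.f, Col.b] [Col.a, Col.b, Col.f, Col.c, Col.d, Col.e, Col.b, Col.c, Col.d, Col.c, Col.b, Col.f])))) (Tr.nd (nat_lit 51) (Tr.nd (nat_lit 50) (Tr.lf (Alt.base (nat_lit 8) [Col.f, Col.b, Col.c, Col.d, Col.c, Col.b, Col.a, Col.e, Col.d, Col.c, Col.b, Col.d] [Col.f, Col.c, Col.d, Col.b, Col.c, Col.d, Col.e, Col.a, Col.b, Col.c, Col.d, Col.c, Col.b, Col.f])) (Tr.lf (Alt.word (nat_lit 21) (nat_lit 4) true [Col.c, Col.d, Col.c, Col.d, Col.a, Col.c, Col.d,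 Col.c, Col.d]))) (Tr.nd (nat_lit 52) (Tr.lf (Alt.word (nat_lit 22) (nat_lit 2) true [Col.b, Col.a, Col.f, Col.c, Col.b, Col.a, Col.f, Col.c, Col.b, Col.a, Col.f, Col.c, Col.b, Col.a, Col.f, Col.c, Col.b, Col.a, Col.f, Col.c])) (Tr.lf (Alt.word (nat_lit 22) (nat_lit 3) false [Col.f, Col.a, Col.b, Col.c, Col.f, Col.a, Col.b, Col.c, Col.f, Col.a, Col.b, Col.c, Col.f, Col.a, Col.b, Col.c, Col.f, Col.a, Col.b, Col.c]))))))))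
abbrev q0 : ℕ := nat_lit 4099
theorem alt_chk : Tr.all (altChk idx inv RW SW4) A = true := by decide +kernel
theorem bst_chk : bst L 4096 8192 = true := by decide +kernel
theorem size_L : size L = 416 := by decide +kernel
theorem q0_mem : q0 ∈ L.toList := mem_sound (by decide +kernel)
theorem closed_chk_0 : Tr.all (closedP L stp inv cols) L_0 = true := by decide +kernel
theorem closed_chk : Tr.all (closedP L stp inv cols) L = true := closed_chk_0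
theorem edge_chk_0 : Tr.all (fun q => lall (fun c => chkEdge stp tau del idx PT DT q0 A c q) cols) L_0 = true := by decide +kernel
theorem edge_chk : Tr.all (fun q => lall (fun c => chkEdge stp tau del idx PT DT q0 A c q) cols) L = true := edge_chk_0
theorem trans_chk_0 : Tr.all (transP L stp PT q0 cols) L_0 = true := by decide +kernel
theorem trans_chk : Tr.all (transP L stp PT q0 cols) L = true := trans_chk_0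
theorem closed : Closed L stp inv := Closed.of_chk hcols inv_inv closed_chk
theorem pos : ∀ q ∈ L.toList, q ≠ 0 := fun q hq h => by
  have := ((bst_sound L _ _ bst_chk).1 q hq).1
  omega
theorem nodup : L.toList.Nodup := ((bst_sound L _ _ bst_chk).2.imp (fun h => Nat.ne_of_lt h))
theorem card_L : Nat.card (Om L) = 416 := by rw [card_Om L nodup, ← size_eq, size_L]
theorem trans : ∀ q ∈ L.toList, ∃ w : List Col, walk stp w q0 = q := trans_sound trans_chk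
attribute [local irreducible] L A stp tau del PT DT
theorem closure_thm {G X : Type*} [Group G] [MulAction G X] (g : Col → G) (x0 : X) (hinv : ∀ c, g (inv c) = (g c)⁻¹)
    (hRW : ∀ w ∈ RW, gw g w = 1) (hSW : ∀ w ∈ SW0, gw g w • x0 = x0) :
    ∃ f : ℕ → X, f q0 = x0 ∧ ∀ q ∈ L.toList, ∀ c, g c • f q = f (stp c q) := by
  have hSW1 : ∀ w ∈ SW1, gw g w • x0 = x0 := by
    have h := mini0_fix g x0 hinv hRW hSW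
    intro w hw; unfold SW1 at hw; rw [List.mem_append, List.mem_singleton] at hw
    rcases hw with hw | rfl
    · exact hSW w hw
    · exact h
  have hSW2 : ∀ w ∈ SW2, gw g w • x0 = x0 := by
    have h := mini1_fix g x0 hinv hRW hSW1
    intro w hw; unfold SW2 at hw; rw [List.mem_append, List.mem_singleton] at hw
    rcases hw with hw | rfl
    · exact hSW1 w hw
    · exact h
  have hSW3 : ∀ w ∈ SW3, gw g w • x0 = x0 := by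
    have h := mini2_fix g x0 hinv hRW hSW2
    intro w hw; unfold SW3 at hw; rw [List.mem_append, List.mem_singleton] at hw
    rcases hw with hw | rfl
    · exact hSW2 w hw
    · exact h
  have hSW4 : ∀ w ∈ SW4, gw g w • x0 = x0 := by
    have h := mini3_fix g x0 hinv hRW hSW3
    intro w hw; unfold SW4 at hw; rw [List.mem_append, List.mem_singleton] at hw
    rcases hw with hw | rfl
    · exact hSW3 w hw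
    · exact h
  have hA : ∀ a ∈ A.toList, AltOK g x0 a := fun a ha =>
    altChk_sound (idx := idx) (inv := inv) (RW := RW) (SW := SW4) g x0 dec hdec hinv hRW hSW4 ((Tr.all_iff _ _).1 alt_chk a ha)
  exact closure_sound (L := L) (stp := stp) (tau := tau) (del := del) (idx := idx) (PT := PT) (DT := DT) (q0 := q0) (A := A) (cols := cols)
    g x0 dec hdec hcols closed.mem pos q0_mem edge_chk hA
universe u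
/-- upper bound for a relative index -/
theorem rel_upper {G : Type u} [Group G] (g : Col → G) (hinv : ∀ c, g (inv c) = (g c)⁻¹)
    (hRW : ∀ w ∈ RW, gw g w = 1) (H : Subgroup G) (hSW : ∀ w ∈ SW0, gw g w ∈ H) :
    H.relIndex (genBy g) ≠ 0 ∧ H.relIndex (genBy g) ≤ 416 := by
  rw [← size_L]
  exact relIndex_of_closure closed.mem q0_mem g hinv hRW H hSW (fun X _ x0 h1 h2 h3 => closure_thm (liftGen g) x0 h1 h2 h3)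
end CfsgLib.TCSuzG
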