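import Cfsg.Agent.EqBase
import Cfsg.Agent.LibTCGSuz
set_option autoImplicit false
set_option linter.all false
set_option maxRecDepth 1000000
set_option maxHeartbeats 0
namespace CfsgLib.TCSuzJ
open CfsgLib.TC Cfsg.Spor
inductive Col where
  | a
  | b
  | c
  | d
  | e
noncomputable def idx : Col → ℕ := fun c => Col.rec (motive := fun _ => ℕ) 0 1 2 3 4 c
noncomputable def inv : Col → Col := fun c => Col.rec (motive := fun _ => Col) .a .b .c .d .e c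
def dec : ℕ → Col := fun n => if n = 0 then .a else if n = 1 then .b else if n = 2 then .c else if n = 3 then .d else .e
theorem hdec : ∀ c, dec (idx c) = c := by intro c; cases c <;> rfl
theorem inv_inv : ∀ c, inv (inv c) = c := by intro c; cases c <;> rfl
def cols : List Col := [Col.a, Col.b, Col.c, Col.d, Col.e]
theorem hcols : ∀ c, c ∈ cols := by intro c; cases c <;> simp [cols]
/-- relators as path words (first letter acts first) -/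
noncomputable def RWb : List (List Col) := [[Col.a, Col.a],
  [Col.b, Col.a, Col.b, Col.a, Col.b, Col.a, Col.b, Col.a, Col.b, Col.a],
  [Col.c, Col.a, Col.c, Col.a],
  [Col.d, Col.a, Col.d, Col.a],
  [Col.e, Col.a, Col.e, Col.a],
  [Col.b, Col.b],
  [Col.c, Col.b, Col.c, Col.b, Col.c, Col.b],
  [Col.d, Col.b, Col.d, Col.b],
  [Col.e, Col.b, Col.e, Col.b],
  [Col.c, Col.c],
  [Col.d, Col.c, Col.d, Col.c, Col.d, Col.c, Col.d, Col.c, Col.d, Col.c, Col.d, Col.c, Col.d, Col.c, Col.d, Col.c],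
  [Col.e, Col.c, Col.e, Col.c],
  [Col.d, Col.d],
  [Col.e, Col.d, Col.e, Col.d, Col.e, Col.d],
  [Col.e, Col.e],
  [Col.c, Col.d, Col.c, Col.d, Col.c, Col.d, Col.c, Col.d, Col.a],
  [Col.e, Col.d, Col.c, Col.d, Col.c, Col.b, Col.d, Col.c, Col.d, Col.c, Col.b, Col.d, Col.c, Col.d, Col.c, Col.b, Col.d, Col.c, Col.d, Col.c, Col.b, Col.d, Col.c, Col.d, Col.c, Col.b, Col.e, Col.d, Col.c, Col.d, Col.c, Col.b, Col.d, Col.c, Col.d, Col.c, Col.b, Col.d, Col.c, Col.d, Col.c, Col.b, Col.d, Col.c, Col.d, Col.c, Col.b, Col.d, Col.c, Col.d, Col.c, Col.b, Col.e, Col.d, Col.c, Col.d, Col.c, Col.b, Col.d, Col.c, Col.d, Col.c, Col.b, Col.d, Col.c, Col.d, Col.c, Col.b, Col.d, Col.c, Col.d, Col.c, Col.b, Col.d, Col.c, Col.d, Col.c, Col.b]]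
noncomputable def RWe : List (List Col) := []
noncomputable def RW : List (List Col) := [[Col.a, Col.a],
  [Col.b, Col.a, Col.b, Col.a, Col.b, Col.a, Col.b, Col.a, Col.b, Col.a],
  [Col.c, Col.a, Col.c, Col.a],
  [Col.d, Col.a, Col.d, Col.a],
  [Col.e, Col.a, Col.e, Col.a],
  [Col.b, Col.b],
  [Col.c, Col.b, Col.c, Col.b, Col.c, Col.b],
  [Col.d, Col.b, Col.d, Col.b],
  [Col.e, Col.b, Col.e, Col.b],
  [Col.c, Col.c],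
  [Col.d, Col.c, Col.d, Col.c, Col.d, Col.c, Col.d, Col.c, Col.d, Col.c, Col.d, Col.c, Col.d, Col.c, Col.d, Col.c],
  [Col.e, Col.c, Col.e, Col.c],
  [Col.d, Col.d],
  [Col.e, Col.d, Col.e, Col.d, Col.e, Col.d],
  [Col.e, Col.e],
  [Col.c, Col.d, Col.c, Col.d, Col.c, Col.d, Col.c, Col.d, Col.a],
  [Col.e, Col.d, Col.c, Col.d, Col.c, Col.b, Col.d, Col.c, Col.d, Col.c, Col.b, Col.d, Col.c, Col.d, Col.c, Col.b, Col.d, Col.c, Col.d, Col.c, Col.b, Col.d, Col.c, Col.d, Col.c, Col.b, Col.e, Col.d, Col.c, Col.d, Col.c, Col.b, Col.d, Col.c, Col.d, Col.c, Col.b, Col.d, Col.c, Col.d, Col.c, Col.b, Col.d, Col.c, Col.d, Col.c, Col.b, Col.d, Col.c, Col.d, Col.c, Col.b, Col.e, Col.d, Col.c, Col.d, Col.c, Col.b, Col.d, Col.c, Col.d, Col.c, Col.b, Col.d, Col.c, Col.d, Col.c, Col.b, Col.d, Col.c, Col.d, Col.c, Col.b, Col.d, Col.c,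 Col.d, Col.c, Col.b]]
theorem rw_mem : ∀ w ∈ RW, w ∈ RWb ∨ w ∈ RWe := fun w hw => Or.inl hw
def emb : Col → TCG_Suz.Col
  | .a => .a
  | .b => .b
  | .c => .c
  | .d => .d
  | .e => .e
theorem emb_inv : ∀ c, emb (inv c) = TCG_Suz.inv (emb c) := by intro c; cases c <;> rfl
def RI : List ℕ := [0, 1, 2, 3, 4, 7, 8, 9, 10, 13, 14, 15, 18, 19, 22, 28, 32]
theorem ri_chk : lleq TCG_Suz.idx (mapR (nthR TCG_Suz.RW) RI) (mapR (mapR emb) RWb) = true := by decide +kernel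
/-- the family of generators -/
def Pc {G : Type*} [Group G] (f : Suz.Gen → G) (c : Col) : G := TCG_Suz.Pc f (emb c)
theorem Pc_inv {G : Type*} [Group G] {f : Suz.Gen → G} (hs : Sat Suz.edges Suz.extra f) (c : Col) : Pc f (inv c) = (Pc f c)⁻¹ := by
  rw [Pc, emb_inv]; exact TCG_Suz.Pc_inv hs _
theorem Pc_RW {G : Type*} [Group G] {f : Suz.Gen → G} (hs : Sat Suz.edges Suz.extra f) : ∀ w ∈ RWb, gw (Pc f) w = 1 :=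
  rw_sub TCG_Suz.dec TCG_Suz.hdec emb RI ri_chk (TCG_Suz.Pc f) (TCG_Suz.Pc_RW hs)
noncomputable def SW0 : List (List Col) := [[Col.a], [Col.b], [Col.c], [Col.d]]
noncomputable def SW1 : List (List Col) := SW0 ++ [[Col.e, Col.d, Col.c, Col.b, Col.a, Col.b, Col.c, Col.a, Col.b, Col.a, Col.b, Col.c, Col.d, Col.e]]
noncomputable def mini0S : Tr (Fc Col) := (Tr.nd (nat_lit 101) (Tr.nd (nat_lit 50) (Tr.nd (nat_lit 25) (Tr.nd (nat_lit 12) (Tr.nd (nat_lit 6) (Tr.nd (nat_lit 3) (Tr.nd (nat_lit 1) (Tr.lf (Fc.ed (nat_lit 0) (nat_lit 0) Col.a (nat_lit 0) (Dv.sb (nat_lit 0) [] []))) (Tr.nd (nat_lit 2) (Tr.lf (Fc.ed (nat_lit 1) (nat_lit 0) Col.b (nat_lit 0) (Dv.sb (nat_lit 1) [] []))) (Tr.lf (Fc.ed (nat_lit 2) (nat_lit 0) Col.c (nat_lit 0) (Dv.sb (nat_lit 2) [] []))))) (Tr.nd (nat_lit 4) (Tr.lf (Fc.ed (nat_lit 3) (nat_lit 0) Col.d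 (nat_lit 0) (Dv.sb (nat_lit 3) [] []))) (Tr.nd (nat_lit 5) (Tr.lf (Fc.ed (nat_lit 4) (nat_lit 0) Col.e (nat_lit 1) Dv.df)) (Tr.lf (Fc.ed (nat_lit 5) (nat_lit 1) Col.a (nat_lit 1) (Dv.wd (nat_lit 4) [Mv.b (nat_lit 4), Mv.f (nat_lit 0), Mv.f (nat_lit 4)])))))) (Tr.nd (nat_lit 9) (Tr.nd (nat_lit 7) (Tr.lf (Fc.ed (nat_lit 6) (nat_lit 1) Col.b (nat_lit 1) (Dv.wd (nat_lit 5) [Mv.b (nat_lit 4), Mv.f (nat_lit 1), Mv.f (nat_lit 4)]))) (Tr.nd (nat_lit 8) (Tr.lf (Fc.ed (nat_lit 7) (nat_lit 1) Col.c (nat_lit 1) (Dv.wd (nat_lit 6) [Mv.b (nat_lit 4), Mv.f (nat_lit 2), Mv.f (nat_lit 4)]))) (Tr.lf (Fc.ed (nat_lit 8) (nat_lit 1) Col.d (nat_lit 2) Dv.df)))) (Tr.nd (nat_lit 10) (Tr.lf (Fc.ed (nat_lit 9) (nat_lit 2) Col.a (nat_lit 2) (Dv.wd (nat_lit 7) [Mv.b (nat_lit 8), Mv.f (nat_lit 5), Mv.f (nat_lit 8)]))) (Tr.nd (nat_lit 11) (Tr.lf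 (Fc.ed (nat_lit 10) (nat_lit 2) Col.b (nat_lit 2) (Dv.wd (nat_lit 8) [Mv.b (nat_lit 8), Mv.f (nat_lit 6), Mv.f (nat_lit 8)]))) (Tr.lf (Fc.ed (nat_lit 11) (nat_lit 2) Col.c (nat_lit 3) Dv.df)))))) (Tr.nd (nat_lit 18) (Tr.nd (nat_lit 15) (Tr.nd (nat_lit 13) (Tr.lf (Fc.ed (nat_lit 12) (nat_lit 3) Col.a (nat_lit 3) (Dv.wd (nat_lit 9) [Mv.b (nat_lit 11), Mv.f (nat_lit 9), Mv.f (nat_lit 11)]))) (Tr.nd (nat_lit 14) (Tr.lf (Fc.ed (nat_lit 13) (nat_lit 3) Col.b (nat_lit 4) Dv.df)) (Tr.lf (Fc.ed (nat_lit 14) (nat_lit 4) Col.c (nat_lit 4) (Dv.wd (nat_lit 10) [Mv.b (nat_lit 13), Mv.b (nat_lit 11), Mv.f (nat_lit 10), Mv.f (nat_lit 11), Mv.f (nat_lit 13)]))))) (Tr.nd (nat_lit 16) (Tr.lf (Fc.ed (nat_lit 15) (nat_lit 4) Col.a (nat_lit 5) Dv.df)) (Tr.nd (nat_lit 17) (Tr.lf (Fc.ed (nat_lit 16) (nat_lit 5) Col.c (nat_lit 5) (Dv.wd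 (nat_lit 11) [Mv.b (nat_lit 15), Mv.f (nat_lit 14), Mv.f (nat_lit 15)]))) (Tr.lf (Fc.ed (nat_lit 17) (nat_lit 5) Col.b (nat_lit 6) Dv.df))))) (Tr.nd (nat_lit 21) (Tr.nd (nat_lit 19) (Tr.lf (Fc.ed (nat_lit 18) (nat_lit 6) Col.c (nat_lit 7) Dv.df)) (Tr.nd (nat_lit 20) (Tr.lf (Fc.ed (nat_lit 19) (nat_lit 7) Col.b (nat_lit 7) (Dv.wd (nat_lit 12) [Mv.b (nat_lit 18), Mv.b (nat_lit 17), Mv.f (nat_lit 16), Mv.f (nat_lit 17), Mv.f (nat_lit 18)]))) (Tr.lf (Fc.ed (nat_lit 20) (nat_lit 7) Col.a (nat_lit 8) Dv.df)))) (Tr.nd (nat_lit 23) (Tr.nd (nat_lit 22) (Tr.lf (Fc.ed (nat_lit 21) (nat_lit 6) Col.a (nat_lit 9) Dv.df)) (Tr.lf (Fc.ed (nat_lit 22) (nat_lit 9) Col.c (nat_lit 8) (Dv.wd (nat_lit 11) [Mv.b (nat_lit 20), Mv.b (nat_lit 18), Mv.f (nat_lit 21)])))) (Tr.nd (nat_lit 24) (Tr.lf (Fc.ed (nat_lit 23) (nat_lit 9) Col.b (nat_lit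 9) (Dv.wd (nat_lit 13) [Mv.b (nat_lit 21), Mv.b (nat_lit 17), Mv.b (nat_lit 15), Mv.b (nat_lit 13), Mv.f (nat_lit 12), Mv.f (nat_lit 13), Mv.f (nat_lit 15), Mv.f (nat_lit 17), Mv.f (nat_lit 21)]))) (Tr.lf (Fc.ed (nat_lit 24) (nat_lit 5) Col.d (nat_lit 10) Dv.df))))))) (Tr.nd (nat_lit 37) (Tr.nd (nat_lit 31) (Tr.nd (nat_lit 28) (Tr.nd (nat_lit 26) (Tr.lf (Fc.ed (nat_lit 25) (nat_lit 4) Col.d (nat_lit 11) Dv.df)) (Tr.nd (nat_lit 27) (Tr.lf (Fc.ed (nat_lit 26) (nat_lit 11) Col.a (nat_lit 10) (Dv.wd (nat_lit 7) [Mv.b (nat_lit 24), Mv.b (nat_lit 15), Mv.f (nat_lit 25)]))) (Tr.lf (Fc.ed (nat_lit 27) (nat_lit 11) Col.b (nat_lit 12) Dv.df)))) (Tr.nd (nat_lit 29) (Tr.lf (Fc.ed (nat_lit 28) (nat_lit 12) Col.d (nat_lit 3) (Dv.wd (nat_lit 14) [Mv.f (nat_lit 13), Mv.f (nat_lit 25), Mv.f (nat_lit 27)]))) (Tr.nd (nat_lit 30) (Tr.lf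 (Fc.ed (nat_lit 29) (nat_lit 12) Col.a (nat_lit 12) (Dv.wd (nat_lit 15) [Mv.f (nat_lit 28), Mv.f (nat_lit 12), Mv.b (nat_lit 28)]))) (Tr.lf (Fc.ed (nat_lit 30) (nat_lit 12) Col.c (nat_lit 12) (Dv.wd (nat_lit 16) [Mv.f (nat_lit 28), Mv.b (nat_lit 11), Mv.b (nat_lit 8), Mv.f (nat_lit 7), Mv.f (nat_lit 8), Mv.f (nat_lit 11), Mv.b (nat_lit 28), Mv.f (nat_lit 29)])))))) (Tr.nd (nat_lit 34) (Tr.nd (nat_lit 32) (Tr.lf (Fc.ed (nat_lit 31) (nat_lit 9) Col.d (nat_lit 13) Dv.df)) (Tr.nd (nat_lit 33) (Tr.lf (Fc.ed (nat_lit 32) (nat_lit 13) Col.b (nat_lit 13) (Dv.wd (nat_lit 8) [Mv.b (nat_lit 31), Mv.f (nat_lit 23), Mv.f (nat_lit 31)]))) (Tr.lf (Fc.ed (nat_lit 33) (nat_lit 6) Col.d (nat_lit 14) Dv.df)))) (Tr.nd (nat_lit 35) (Tr.lf (Fc.ed (nat_lit 34) (nat_lit 14) Col.a (nat_lit 13) (Dv.wd (nat_lit 7) [Mv.b (nat_lit 31), Mv.b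 (nat_lit 21), Mv.f (nat_lit 33)]))) (Tr.nd (nat_lit 36) (Tr.lf (Fc.ed (nat_lit 35) (nat_lit 14) Col.b (nat_lit 10) (Dv.wd (nat_lit 8) [Mv.b (nat_lit 24), Mv.f (nat_lit 17), Mv.f (nat_lit 33)]))) (Tr.lf (Fc.ed (nat_lit 36) (nat_lit 10) Col.e (nat_lit 15) Dv.df)))))) (Tr.nd (nat_lit 43) (Tr.nd (nat_lit 40) (Tr.nd (nat_lit 38) (Tr.lf (Fc.ed (nat_lit 37) (nat_lit 15) Col.b (nat_lit 16) Dv.df)) (Tr.nd (nat_lit 39) (Tr.lf (Fc.ed (nat_lit 38) (nat_lit 16) Col.e (nat_lit 14) (Dv.wd (nat_lit 17) [Mv.f (nat_lit 35), Mv.f (nat_lit 36), Mv.f (nat_lit 37)]))) (Tr.lf (Fc.ed (nat_lit 39) (nat_lit 14) Col.c (nat_lit 17) Dv.df)))) (Tr.nd (nat_lit 41) (Tr.lf (Fc.ed (nat_lit 40) (nat_lit 17) Col.e (nat_lit 18) Dv.df)) (Tr.nd (nat_lit 42) (Tr.lf (Fc.ed (nat_lit 41) (nat_lit 18) Col.c (nat_lit 16) (Dv.wd (nat_lit 6) [Mv.f (nat_lit 38),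 Mv.f (nat_lit 39), Mv.f (nat_lit 40)]))) (Tr.lf (Fc.ed (nat_lit 42) (nat_lit 13) Col.e (nat_lit 19) Dv.df))))) (Tr.nd (nat_lit 46) (Tr.nd (nat_lit 44) (Tr.lf (Fc.ed (nat_lit 43) (nat_lit 19) Col.a (nat_lit 16) (Dv.wd (nat_lit 4) [Mv.f (nat_lit 38), Mv.f (nat_lit 34), Mv.f (nat_lit 42)]))) (Tr.nd (nat_lit 45) (Tr.lf (Fc.ed (nat_lit 44) (nat_lit 19) Col.c (nat_lit 20) Dv.df)) (Tr.lf (Fc.ed (nat_lit 45) (nat_lit 20) Col.a (nat_lit 18) (Dv.wd (nat_lit 9) [Mv.f (nat_lit 41), Mv.b (nat_lit 43), Mv.f (nat_lit 44)]))))) (Tr.nd (nat_lit 48) (Tr.nd (nat_lit 47) (Tr.lf (Fc.ed (nat_lit 46) (nat_lit 20) Col.e (nat_lit 21) Dv.df)) (Tr.lf (Fc.ed (nat_lit 47) (nat_lit 21) Col.a (nat_lit 17) (Dv.wd (nat_lit 4) [Mv.f (nat_lit 40), Mv.b (nat_lit 45), Mv.f (nat_lit 46)])))) (Tr.nd (nat_lit 49) (Tr.lf (Fc.ed (nat_lit 48) (nat_lit 21)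 Col.c (nat_lit 13) (Dv.wd (nat_lit 6) [Mv.f (nat_lit 42), Mv.f (nat_lit 44), Mv.f (nat_lit 46)]))) (Tr.lf (Fc.ed (nat_lit 49) (nat_lit 11) Col.c (nat_lit 22) Dv.df)))))))) (Tr.nd (nat_lit 75) (Tr.nd (nat_lit 62) (Tr.nd (nat_lit 56) (Tr.nd (nat_lit 53) (Tr.nd (nat_lit 51) (Tr.lf (Fc.ed (nat_lit 50) (nat_lit 22) Col.b (nat_lit 22) (Dv.wd (nat_lit 12) [Mv.b (nat_lit 49), Mv.f (nat_lit 27), Mv.f (nat_lit 30), Mv.b (nat_lit 27), Mv.f (nat_lit 49)]))) (Tr.nd (nat_lit 52) (Tr.lf (Fc.ed (nat_lit 51) (nat_lit 10) Col.c (nat_lit 23) Dv.df)) (Tr.lf (Fc.ed (nat_lit 52) (nat_lit 23) Col.a (nat_lit 22) (Dv.wd (nat_lit 9) [Mv.b (nat_lit 49), Mv.f (nat_lit 26), Mv.f (nat_lit 51)]))))) (Tr.nd (nat_lit 54) (Tr.lf (Fc.ed (nat_lit 53) (nat_lit 23) Col.e (nat_lit 24) Dv.df)) (Tr.nd (nat_lit 55) (Tr.lf (Fc.ed (nat_lit 54) (nat_lit 24)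 Col.c (nat_lit 15) (Dv.wd (nat_lit 6) [Mv.b (nat_lit 36), Mv.f (nat_lit 51), Mv.f (nat_lit 53)]))) (Tr.lf (Fc.ed (nat_lit 55) (nat_lit 18) Col.b (nat_lit 25) Dv.df))))) (Tr.nd (nat_lit 59) (Tr.nd (nat_lit 57) (Tr.lf (Fc.ed (nat_lit 56) (nat_lit 22) Col.d (nat_lit 26) Dv.df)) (Tr.nd (nat_lit 58) (Tr.lf (Fc.ed (nat_lit 57) (nat_lit 26) Col.b (nat_lit 26) (Dv.wd (nat_lit 8) [Mv.b (nat_lit 56), Mv.f (nat_lit 50), Mv.f (nat_lit 56)]))) (Tr.lf (Fc.ed (nat_lit 58) (nat_lit 25) Col.c (nat_lit 27) Dv.df)))) (Tr.nd (nat_lit 60) (Tr.lf (Fc.ed (nat_lit 59) (nat_lit 27) Col.b (nat_lit 24) (Dv.wd (nat_lit 12) [Mv.f (nat_lit 54), Mv.f (nat_lit 37), Mv.b (nat_lit 41), Mv.f (nat_lit 55), Mv.f (nat_lit 58)]))) (Tr.nd (nat_lit 61) (Tr.lf (Fc.ed (nat_lit 60) (nat_lit 26) Col.c (nat_lit 28) Dv.df)) (Tr.lf (Fc.ed (nat_lit 61) (nat_lit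 28) Col.d (nat_lit 23) (Dv.wd (nat_lit 18) [Mv.b (nat_lit 51), Mv.b (nat_lit 24), Mv.f (nat_lit 16), Mv.f (nat_lit 24), Mv.b (nat_lit 26), Mv.f (nat_lit 49), Mv.f (nat_lit 56), Mv.f (nat_lit 60)]))))))) (Tr.nd (nat_lit 68) (Tr.nd (nat_lit 65) (Tr.nd (nat_lit 63) (Tr.lf (Fc.ed (nat_lit 62) (nat_lit 25) Col.e (nat_lit 29) Dv.df)) (Tr.nd (nat_lit 64) (Tr.lf (Fc.ed (nat_lit 63) (nat_lit 29) Col.b (nat_lit 17) (Dv.wd (nat_lit 5) [Mv.f (nat_lit 40), Mv.f (nat_lit 55), Mv.f (nat_lit 62)]))) (Tr.lf (Fc.ed (nat_lit 64) (nat_lit 27) Col.e (nat_lit 30) Dv.df)))) (Tr.nd (nat_lit 66) (Tr.lf (Fc.ed (nat_lit 65) (nat_lit 30) Col.b (nat_lit 23) (Dv.wd (nat_lit 5) [Mv.f (nat_lit 53), Mv.b (nat_lit 59), Mv.f (nat_lit 64)]))) (Tr.nd (nat_lit 67) (Tr.lf (Fc.ed (nat_lit 66) (nat_lit 30) Col.c (nat_lit 29) (Dv.wd (nat_lit 6) [Mv.b (nat_lit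 62), Mv.f (nat_lit 58), Mv.f (nat_lit 64)]))) (Tr.lf (Fc.ed (nat_lit 67) (nat_lit 8) Col.d (nat_lit 31) Dv.df))))) (Tr.nd (nat_lit 71) (Tr.nd (nat_lit 69) (Tr.lf (Fc.ed (nat_lit 68) (nat_lit 21) Col.d (nat_lit 32) Dv.df)) (Tr.nd (nat_lit 70) (Tr.lf (Fc.ed (nat_lit 69) (nat_lit 32) Col.a (nat_lit 33) Dv.df)) (Tr.lf (Fc.ed (nat_lit 70) (nat_lit 33) Col.d (nat_lit 17) (Dv.wd (nat_lit 19) [Mv.b (nat_lit 47), Mv.f (nat_lit 68), Mv.f (nat_lit 69)]))))) (Tr.nd (nat_lit 73) (Tr.nd (nat_lit 72) (Tr.lf (Fc.ed (nat_lit 71) (nat_lit 31) Col.c (nat_lit 34) Dv.df)) (Tr.lf (Fc.ed (nat_lit 72) (nat_lit 30) Col.d (nat_lit 35) Dv.df))) (Tr.nd (nat_lit 74) (Tr.lf (Fc.ed (nat_lit 73) (nat_lit 35) Col.b (nat_lit 28) (Dv.wd (nat_lit 8) [Mv.f (nat_lit 61), Mv.b (nat_lit 65), Mv.f (nat_lit 72)]))) (Tr.lf (Fc.ed (nat_lit 74) (nat_lit 35)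 Col.c (nat_lit 35) (Dv.wd (nat_lit 20) [Mv.f (nat_lit 73), Mv.b (nat_lit 60), Mv.f (nat_lit 57), Mv.f (nat_lit 60), Mv.b (nat_lit 73)])))))))) (Tr.nd (nat_lit 88) (Tr.nd (nat_lit 81) (Tr.nd (nat_lit 78) (Tr.nd (nat_lit 76) (Tr.lf (Fc.ed (nat_lit 75) (nat_lit 34) Col.d (nat_lit 36) Dv.df)) (Tr.nd (nat_lit 77) (Tr.lf (Fc.ed (nat_lit 76) (nat_lit 36) Col.c (nat_lit 33) (Dv.wd (nat_lit 21) [Mv.f (nat_lit 70), Mv.b (nat_lit 39), Mv.b (nat_lit 33), Mv.f (nat_lit 21), Mv.f (nat_lit 22), Mv.f (nat_lit 67), Mv.f (nat_lit 71), Mv.f (nat_lit 75)]))) (Tr.lf (Fc.ed (nat_lit 77) (nat_lit 36) Col.e (nat_lit 37) Dv.df)))) (Tr.nd (nat_lit 79) (Tr.lf (Fc.ed (nat_lit 78) (nat_lit 7) Col.d (nat_lit 38) Dv.df)) (Tr.nd (nat_lit 80) (Tr.lf (Fc.ed (nat_lit 79) (nat_lit 38) Col.a (nat_lit 31) (Dv.wd (nat_lit 7) [Mv.b (nat_lit 67), Mv.b (nat_lit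 20), Mv.f (nat_lit 78)]))) (Tr.lf (Fc.ed (nat_lit 80) (nat_lit 38) Col.b (nat_lit 38) (Dv.wd (nat_lit 8) [Mv.b (nat_lit 78), Mv.f (nat_lit 19), Mv.f (nat_lit 78)])))))) (Tr.nd (nat_lit 84) (Tr.nd (nat_lit 82) (Tr.lf (Fc.ed (nat_lit 81) (nat_lit 36) Col.a (nat_lit 39) Dv.df)) (Tr.nd (nat_lit 83) (Tr.lf (Fc.ed (nat_lit 82) (nat_lit 39) Col.c (nat_lit 32) (Dv.wd (nat_lit 11) [Mv.f (nat_lit 69), Mv.b (nat_lit 76), Mv.f (nat_lit 81)]))) (Tr.lf (Fc.ed (nat_lit 83) (nat_lit 29) Col.d (nat_lit 40) Dv.df)))) (Tr.nd (nat_lit 86) (Tr.nd (nat_lit 85) (Tr.lf (Fc.ed (nat_lit 84) (nat_lit 40) Col.b (nat_lit 33) (Dv.wd (nat_lit 8) [Mv.f (nat_lit 70), Mv.b (nat_lit 63), Mv.f (nat_lit 83)]))) (Tr.lf (Fc.ed (nat_lit 85) (nat_lit 38) Col.c (nat_lit 41) Dv.df))) (Tr.nd (nat_lit 87) (Tr.lf (Fc.ed (nat_lit 86) (nat_lit 41) Col.d (nat_lit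 39) (Dv.wd (nat_lit 22) [Mv.f (nat_lit 82), Mv.b (nat_lit 68), Mv.f (nat_lit 48), Mv.b (nat_lit 31), Mv.f (nat_lit 22), Mv.f (nat_lit 67), Mv.b (nat_lit 79), Mv.f (nat_lit 85)]))) (Tr.lf (Fc.ed (nat_lit 87) (nat_lit 40) Col.c (nat_lit 42) Dv.df)))))) (Tr.nd (nat_lit 94) (Tr.nd (nat_lit 91) (Tr.nd (nat_lit 89) (Tr.lf (Fc.ed (nat_lit 88) (nat_lit 42) Col.a (nat_lit 40) (Dv.wd (nat_lit 23) [Mv.b (nat_lit 83), Mv.b (nat_lit 66), Mv.f (nat_lit 72), Mv.f (nat_lit 74), Mv.b (nat_lit 72), Mv.f (nat_lit 66), Mv.f (nat_lit 83), Mv.f (nat_lit 87)]))) (Tr.nd (nat_lit 90) (Tr.lf (Fc.ed (nat_lit 89) (nat_lit 42) Col.d (nat_lit 43) Dv.df)) (Tr.lf (Fc.ed (nat_lit 90) (nat_lit 43) Col.a (nat_lit 29) (Dv.wd (nat_lit 7) [Mv.f (nat_lit 83), Mv.b (nat_lit 88), Mv.f (nat_lit 89)]))))) (Tr.nd (nat_lit 92) (Tr.lf (Fc.ed (nat_lit 91) (nat_lit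 43) Col.e (nat_lit 44) Dv.df)) (Tr.nd (nat_lit 93) (Tr.lf (Fc.ed (nat_lit 92) (nat_lit 37) Col.b (nat_lit 45) Dv.df)) (Tr.lf (Fc.ed (nat_lit 93) (nat_lit 30) Col.a (nat_lit 46) Dv.df))))) (Tr.nd (nat_lit 97) (Tr.nd (nat_lit 95) (Tr.lf (Fc.ed (nat_lit 94) (nat_lit 46) Col.c (nat_lit 43) (Dv.wd (nat_lit 11) [Mv.f (nat_lit 90), Mv.b (nat_lit 66), Mv.f (nat_lit 93)]))) (Tr.nd (nat_lit 96) (Tr.lf (Fc.ed (nat_lit 95) (nat_lit 36) Col.b (nat_lit 47) Dv.df)) (Tr.lf (Fc.ed (nat_lit 96) (nat_lit 47) Col.e (nat_lit 45) (Dv.wd (nat_lit 17) [Mv.b (nat_lit 92), Mv.b (nat_lit 77), Mv.f (nat_lit 95)]))))) (Tr.nd (nat_lit 99) (Tr.nd (nat_lit 98) (Tr.lf (Fc.ed (nat_lit 97) (nat_lit 47) Col.c (nat_lit 48) Dv.df)) (Tr.lf (Fc.ed (nat_lit 98) (nat_lit 48) Col.b (nat_lit 42) (Dv.wd (nat_lit 12) [Mv.b (nat_lit 87), Mv.f (nat_lit 84), Mv.b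 (nat_lit 76), Mv.f (nat_lit 95), Mv.f (nat_lit 97)])))) (Tr.nd (nat_lit 100) (Tr.lf (Fc.ed (nat_lit 99) (nat_lit 43) Col.b (nat_lit 49) Dv.df)) (Tr.lf (Fc.ed (nat_lit 100) (nat_lit 49) Col.d (nat_lit 48) (Dv.wd (nat_lit 14) [Mv.f (nat_lit 98), Mv.f (nat_lit 89), Mv.f (nat_lit 99)])))))))))) (Tr.nd (nat_lit 151) (Tr.nd (nat_lit 126) (Tr.nd (nat_lit 113) (Tr.nd (nat_lit 107) (Tr.nd (nat_lit 104) (Tr.nd (nat_lit 102) (Tr.lf (Fc.ed (nat_lit 101) (nat_lit 32) Col.b (nat_lit 50) Dv.df)) (Tr.nd (nat_lit 103) (Tr.lf (Fc.ed (nat_lit 102) (nat_lit 47) Col.d (nat_lit 51) Dv.df)) (Tr.lf (Fc.ed (nat_lit 103) (nat_lit 21) Col.b (nat_lit 52) Dv.df)))) (Tr.nd (nat_lit 105) (Tr.lf (Fc.ed (nat_lit 104) (nat_lit 52) Col.d (nat_lit 50) (Dv.wd (nat_lit 14) [Mv.b (nat_lit 101), Mv.b (nat_lit 68), Mv.f (nat_lit 103)]))) (Tr.nd (nat_lit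 106) (Tr.lf (Fc.ed (nat_lit 105) (nat_lit 52) Col.c (nat_lit 52) (Dv.wd (nat_lit 10) [Mv.b (nat_lit 103), Mv.f (nat_lit 48), Mv.f (nat_lit 32), Mv.b (nat_lit 48), Mv.f (nat_lit 103)]))) (Tr.lf (Fc.ed (nat_lit 106) (nat_lit 41) Col.b (nat_lit 53) Dv.df))))) (Tr.nd (nat_lit 110) (Tr.nd (nat_lit 108) (Tr.lf (Fc.ed (nat_lit 107) (nat_lit 53) Col.c (nat_lit 53) (Dv.wd (nat_lit 10) [Mv.b (nat_lit 106), Mv.b (nat_lit 85), Mv.f (nat_lit 80), Mv.f (nat_lit 85), Mv.f (nat_lit 106)]))) (Tr.nd (nat_lit 109) (Tr.lf (Fc.ed (nat_lit 108) (nat_lit 44) Col.b (nat_lit 54) Dv.df)) (Tr.lf (Fc.ed (nat_lit 109) (nat_lit 54) Col.e (nat_lit 49) (Dv.wd (nat_lit 17) [Mv.b (nat_lit 99), Mv.f (nat_lit 91), Mv.f (nat_lit 108)]))))) (Tr.nd (nat_lit 111) (Tr.lf (Fc.ed (nat_lit 110) (nat_lit 39) Col.b (nat_lit 55) Dv.df)) (Tr.nd (nat_lit 112) (Tr.lf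 (Fc.ed (nat_lit 111) (nat_lit 55) Col.d (nat_lit 53) (Dv.wd (nat_lit 14) [Mv.b (nat_lit 106), Mv.f (nat_lit 86), Mv.f (nat_lit 110)]))) (Tr.lf (Fc.ed (nat_lit 112) (nat_lit 45) Col.a (nat_lit 56) Dv.df)))))) (Tr.nd (nat_lit 119) (Tr.nd (nat_lit 116) (Tr.nd (nat_lit 114) (Tr.lf (Fc.ed (nat_lit 113) (nat_lit 56) Col.e (nat_lit 57) Dv.df)) (Tr.nd (nat_lit 115) (Tr.lf (Fc.ed (nat_lit 114) (nat_lit 57) Col.a (nat_lit 47) (Dv.wd (nat_lit 4) [Mv.f (nat_lit 96), Mv.f (nat_lit 112), Mv.f (nat_lit 113)]))) (Tr.lf (Fc.ed (nat_lit 115) (nat_lit 57) Col.d (nat_lit 58) Dv.df)))) (Tr.nd (nat_lit 117) (Tr.lf (Fc.ed (nat_lit 116) (nat_lit 58) Col.a (nat_lit 51) (Dv.wd (nat_lit 7) [Mv.b (nat_lit 102), Mv.b (nat_lit 114), Mv.f (nat_lit 115)]))) (Tr.nd (nat_lit 118) (Tr.lf (Fc.ed (nat_lit 117) (nat_lit 46) Col.b (nat_lit 59) Dv.df))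 (Tr.lf (Fc.ed (nat_lit 118) (nat_lit 59) Col.a (nat_lit 59) (Dv.wd (nat_lit 24) [Mv.b (nat_lit 117), Mv.b (nat_lit 93), Mv.f (nat_lit 65), Mv.f (nat_lit 52), Mv.f (nat_lit 50), Mv.b (nat_lit 52), Mv.b (nat_lit 65), Mv.f (nat_lit 93), Mv.f (nat_lit 117)])))))) (Tr.nd (nat_lit 122) (Tr.nd (nat_lit 120) (Tr.lf (Fc.ed (nat_lit 119) (nat_lit 55) Col.c (nat_lit 60) Dv.df)) (Tr.nd (nat_lit 121) (Tr.lf (Fc.ed (nat_lit 120) (nat_lit 58) Col.c (nat_lit 61) Dv.df)) (Tr.lf (Fc.ed (nat_lit 121) (nat_lit 51) Col.c (nat_lit 62) Dv.df)))) (Tr.nd (nat_lit 124) (Tr.nd (nat_lit 123) (Tr.lf (Fc.ed (nat_lit 122) (nat_lit 62) Col.a (nat_lit 61) (Dv.wd (nat_lit 9) [Mv.b (nat_lit 120), Mv.f (nat_lit 116), Mv.f (nat_lit 121)]))) (Tr.lf (Fc.ed (nat_lit 123) (nat_lit 58) Col.b (nat_lit 63) Dv.df))) (Tr.nd (nat_lit 125) (Tr.lf (Fc.ed (nat_lit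 124) (nat_lit 60) Col.a (nat_lit 64) Dv.df)) (Tr.lf (Fc.ed (nat_lit 125) (nat_lit 50) Col.c (nat_lit 65) Dv.df))))))) (Tr.nd (nat_lit 138) (Tr.nd (nat_lit 132) (Tr.nd (nat_lit 129) (Tr.nd (nat_lit 127) (Tr.lf (Fc.ed (nat_lit 126) (nat_lit 65) Col.b (nat_lit 60) (Dv.wd (nat_lit 12) [Mv.b (nat_lit 119), Mv.b (nat_lit 110), Mv.f (nat_lit 82), Mv.f (nat_lit 101), Mv.f (nat_lit 125)]))) (Tr.nd (nat_lit 128) (Tr.lf (Fc.ed (nat_lit 127) (nat_lit 55) Col.a (nat_lit 66) Dv.df)) (Tr.lf (Fc.ed (nat_lit 128) (nat_lit 66) Col.c (nat_lit 64) (Dv.wd (nat_lit 11) [Mv.b (nat_lit 124), Mv.b (nat_lit 119), Mv.f (nat_lit 127)]))))) (Tr.nd (nat_lit 130) (Tr.lf (Fc.ed (nat_lit 129) (nat_lit 60) Col.d (nat_lit 67) Dv.df)) (Tr.nd (nat_lit 131) (Tr.lf (Fc.ed (nat_lit 130) (nat_lit 64) Col.d (nat_lit 68) Dv.df)) (Tr.lf (Fc.ed (nat_lit 131)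 (nat_lit 68) Col.a (nat_lit 67) (Dv.wd (nat_lit 7) [Mv.b (nat_lit 129), Mv.f (nat_lit 124), Mv.f (nat_lit 130)])))))) (Tr.nd (nat_lit 135) (Tr.nd (nat_lit 133) (Tr.lf (Fc.ed (nat_lit 132) (nat_lit 68) Col.c (nat_lit 67) (Dv.wd (nat_lit 25) [Mv.b (nat_lit 129), Mv.b (nat_lit 119), Mv.f (nat_lit 111), Mv.f (nat_lit 107), Mv.b (nat_lit 111), Mv.f (nat_lit 127), Mv.f (nat_lit 128), Mv.f (nat_lit 130)]))) (Tr.nd (nat_lit 134) (Tr.lf (Fc.ed (nat_lit 133) (nat_lit 65) Col.d (nat_lit 69) Dv.df)) (Tr.lf (Fc.ed (nat_lit 134) (nat_lit 69) Col.b (nat_lit 67) (Dv.wd (nat_lit 8) [Mv.b (nat_lit 129), Mv.b (nat_lit 126), Mv.f (nat_lit 133)]))))) (Tr.nd (nat_lit 136) (Tr.lf (Fc.ed (nat_lit 135) (nat_lit 54) Col.c (nat_lit 70) Dv.df)) (Tr.nd (nat_lit 137) (Tr.lf (Fc.ed (nat_lit 136) (nat_lit 69) Col.c (nat_lit 71) Dv.df)) (Tr.lf (Fc.ed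 (nat_lit 137) (nat_lit 71) Col.a (nat_lit 69) (Dv.wd (nat_lit 23) [Mv.b (nat_lit 133), Mv.b (nat_lit 125), Mv.b (nat_lit 104), Mv.f (nat_lit 105), Mv.f (nat_lit 104), Mv.f (nat_lit 125), Mv.f (nat_lit 133), Mv.f (nat_lit 136)]))))))) (Tr.nd (nat_lit 144) (Tr.nd (nat_lit 141) (Tr.nd (nat_lit 139) (Tr.lf (Fc.ed (nat_lit 138) (nat_lit 61) Col.b (nat_lit 72) Dv.df)) (Tr.nd (nat_lit 140) (Tr.lf (Fc.ed (nat_lit 139) (nat_lit 70) Col.e (nat_lit 73) Dv.df)) (Tr.lf (Fc.ed (nat_lit 140) (nat_lit 73) Col.c (nat_lit 49) (Dv.wd (nat_lit 6) [Mv.b (nat_lit 109), Mv.f (nat_lit 135), Mv.f (nat_lit 139)]))))) (Tr.nd (nat_lit 142) (Tr.lf (Fc.ed (nat_lit 141) (nat_lit 59) Col.c (nat_lit 74) Dv.df)) (Tr.nd (nat_lit 143) (Tr.lf (Fc.ed (nat_lit 142) (nat_lit 74) Col.a (nat_lit 74) (Dv.wd (nat_lit 9) [Mv.b (nat_lit 141), Mv.f (nat_lit 118),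 Mv.f (nat_lit 141)]))) (Tr.lf (Fc.ed (nat_lit 143) (nat_lit 74) Col.b (nat_lit 73) (Dv.wd (nat_lit 12) [Mv.f (nat_lit 140), Mv.b (nat_lit 99), Mv.b (nat_lit 94), Mv.f (nat_lit 117), Mv.f (nat_lit 141)])))))) (Tr.nd (nat_lit 147) (Tr.nd (nat_lit 145) (Tr.lf (Fc.ed (nat_lit 144) (nat_lit 62) Col.d (nat_lit 75) Dv.df)) (Tr.nd (nat_lit 146) (Tr.lf (Fc.ed (nat_lit 145) (nat_lit 63) Col.c (nat_lit 76) Dv.df)) (Tr.lf (Fc.ed (nat_lit 146) (nat_lit 61) Col.d (nat_lit 77) Dv.df)))) (Tr.nd (nat_lit 149) (Tr.nd (nat_lit 148) (Tr.lf (Fc.ed (nat_lit 147) (nat_lit 77) Col.a (nat_lit 75) (Dv.wd (nat_lit 7) [Mv.b (nat_lit 144), Mv.f (nat_lit 122), Mv.f (nat_lit 146)]))) (Tr.lf (Fc.ed (nat_lit 148) (nat_lit 77) Col.c (nat_lit 78) Dv.df))) (Tr.nd (nat_lit 150) (Tr.lf (Fc.ed (nat_lit 149) (nat_lit 78) Col.d (nat_lit 73) (Dv.wd (nat_lit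 22) [Mv.f (nat_lit 140), Mv.f (nat_lit 100), Mv.b (nat_lit 97), Mv.f (nat_lit 102), Mv.f (nat_lit 121), Mv.f (nat_lit 144), Mv.b (nat_lit 147), Mv.f (nat_lit 148)]))) (Tr.lf (Fc.ed (nat_lit 150) (nat_lit 77) Col.b (nat_lit 79) Dv.df)))))))) (Tr.nd (nat_lit 176) (Tr.nd (nat_lit 163) (Tr.nd (nat_lit 157) (Tr.nd (nat_lit 154) (Tr.nd (nat_lit 152) (Tr.lf (Fc.ed (nat_lit 151) (nat_lit 79) Col.d (nat_lit 72) (Dv.wd (nat_lit 14) [Mv.b (nat_lit 138), Mv.f (nat_lit 146), Mv.f (nat_lit 150)]))) (Tr.nd (nat_lit 153) (Tr.lf (Fc.ed (nat_lit 152) (nat_lit 76) Col.b (nat_lit 80) Dv.df)) (Tr.lf (Fc.ed (nat_lit 153) (nat_lit 80) Col.c (nat_lit 72) (Dv.wd (nat_lit 10) [Mv.b (nat_lit 138), Mv.b (nat_lit 120), Mv.f (nat_lit 123), Mv.f (nat_lit 145), Mv.f (nat_lit 152)]))))) (Tr.nd (nat_lit 155) (Tr.lf (Fc.ed (nat_lit 154) (nat_lit 71)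 Col.e (nat_lit 81) Dv.df)) (Tr.nd (nat_lit 156) (Tr.lf (Fc.ed (nat_lit 155) (nat_lit 69) Col.e (nat_lit 82) Dv.df)) (Tr.lf (Fc.ed (nat_lit 156) (nat_lit 82) Col.a (nat_lit 81) (Dv.wd (nat_lit 4) [Mv.b (nat_lit 154), Mv.f (nat_lit 137), Mv.f (nat_lit 155)])))))) (Tr.nd (nat_lit 160) (Tr.nd (nat_lit 158) (Tr.lf (Fc.ed (nat_lit 157) (nat_lit 82) Col.c (nat_lit 81) (Dv.wd (nat_lit 6) [Mv.b (nat_lit 154), Mv.b (nat_lit 136), Mv.f (nat_lit 155)]))) (Tr.nd (nat_lit 159) (Tr.lf (Fc.ed (nat_lit 158) (nat_lit 67) Col.e (nat_lit 83) Dv.df)) (Tr.lf (Fc.ed (nat_lit 159) (nat_lit 83) Col.b (nat_lit 82) (Dv.wd (nat_lit 5) [Mv.b (nat_lit 155), Mv.f (nat_lit 134), Mv.f (nat_lit 158)]))))) (Tr.nd (nat_lit 161) (Tr.lf (Fc.ed (nat_lit 160) (nat_lit 68) Col.e (nat_lit 84) Dv.df)) (Tr.nd (nat_lit 162) (Tr.lf (Fc.ed (nat_lit 161) (nat_lit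 84) Col.a (nat_lit 83) (Dv.wd (nat_lit 4) [Mv.b (nat_lit 158), Mv.b (nat_lit 131), Mv.f (nat_lit 160)]))) (Tr.lf (Fc.ed (nat_lit 162) (nat_lit 84) Col.c (nat_lit 83) (Dv.wd (nat_lit 6) [Mv.b (nat_lit 158), Mv.b (nat_lit 132), Mv.f (nat_lit 160)]))))))) (Tr.nd (nat_lit 169) (Tr.nd (nat_lit 166) (Tr.nd (nat_lit 164) (Tr.lf (Fc.ed (nat_lit 163) (nat_lit 68) Col.b (nat_lit 85) Dv.df)) (Tr.nd (nat_lit 165) (Tr.lf (Fc.ed (nat_lit 164) (nat_lit 83) Col.d (nat_lit 86) Dv.df)) (Tr.lf (Fc.ed (nat_lit 165) (nat_lit 81) Col.d (nat_lit 87) Dv.df)))) (Tr.nd (nat_lit 167) (Tr.lf (Fc.ed (nat_lit 166) (nat_lit 84) Col.d (nat_lit 88) Dv.df)) (Tr.nd (nat_lit 168) (Tr.lf (Fc.ed (nat_lit 167) (nat_lit 88) Col.a (nat_lit 86) (Dv.wd (nat_lit 7) [Mv.b (nat_lit 164), Mv.b (nat_lit 161), Mv.f (nat_lit 166)]))) (Tr.lf (Fc.ed (nat_lit 168)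 (nat_lit 85) Col.e (nat_lit 89) Dv.df))))) (Tr.nd (nat_lit 172) (Tr.nd (nat_lit 170) (Tr.lf (Fc.ed (nat_lit 169) (nat_lit 89) Col.b (nat_lit 84) (Dv.wd (nat_lit 5) [Mv.b (nat_lit 160), Mv.f (nat_lit 163), Mv.f (nat_lit 168)]))) (Tr.nd (nat_lit 171) (Tr.lf (Fc.ed (nat_lit 170) (nat_lit 89) Col.d (nat_lit 90) Dv.df)) (Tr.lf (Fc.ed (nat_lit 171) (nat_lit 90) Col.b (nat_lit 88) (Dv.wd (nat_lit 8) [Mv.b (nat_lit 166), Mv.b (nat_lit 169), Mv.f (nat_lit 170)]))))) (Tr.nd (nat_lit 174) (Tr.nd (nat_lit 173) (Tr.lf (Fc.ed (nat_lit 172) (nat_lit 90) Col.c (nat_lit 91) Dv.df)) (Tr.lf (Fc.ed (nat_lit 173) (nat_lit 91) Col.d (nat_lit 80) (Dv.wd (nat_lit 26) [Mv.f (nat_lit 153), Mv.b (nat_lit 138), Mv.f (nat_lit 146), Mv.f (nat_lit 148), Mv.f (nat_lit 149), Mv.f (nat_lit 140), Mv.b (nat_lit 99), Mv.b (nat_lit 89), Mv.b (nat_lit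 87), Mv.b (nat_lit 83), Mv.b (nat_lit 66), Mv.f (nat_lit 65), Mv.b (nat_lit 61), Mv.b (nat_lit 60), Mv.b (nat_lit 56), Mv.b (nat_lit 49), Mv.f (nat_lit 27), Mv.f (nat_lit 28), Mv.b (nat_lit 11), Mv.b (nat_lit 8), Mv.f (nat_lit 7), Mv.f (nat_lit 6), Mv.b (nat_lit 4), Mv.f (nat_lit 3), Mv.f (nat_lit 2), Mv.f (nat_lit 3), Mv.f (nat_lit 2), Mv.f (nat_lit 1), Mv.f (nat_lit 3), Mv.f (nat_lit 2), Mv.f (nat_lit 3), Mv.f (nat_lit 2), Mv.f (nat_lit 1), Mv.f (nat_lit 3), Mv.f (nat_lit 2), Mv.f (nat_lit 3), Mv.f (nat_lit 2), Mv.f (nat_lit 1), Mv.f (nat_lit 3), Mv.f (nat_lit 2), Mv.f (nat_lit 3), Mv.f (nat_lit 2), Mv.f (nat_lit 1), Mv.f (nat_lit 3), Mv.f (nat_lit 2), Mv.f (nat_lit 3), Mv.f (nat_lit 2), Mv.f (nat_lit 1), Mv.f (nat_lit 4), Mv.f (nat_lit 8), Mv.f (nat_lit 11), Mv.b (nat_lit 28), Mv.f (nat_lit 30), Mv.b (nat_lit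 27), Mv.b (nat_lit 25), Mv.f (nat_lit 14), Mv.f (nat_lit 25), Mv.f (nat_lit 49), Mv.f (nat_lit 50), Mv.f (nat_lit 56), Mv.f (nat_lit 60), Mv.f (nat_lit 61), Mv.b (nat_lit 51), Mv.b (nat_lit 35), Mv.b (nat_lit 33), Mv.f (nat_lit 18), Mv.f (nat_lit 78), Mv.f (nat_lit 85), Mv.f (nat_lit 106), Mv.b (nat_lit 111), Mv.f (nat_lit 119), Mv.f (nat_lit 129), Mv.b (nat_lit 132), Mv.f (nat_lit 163), Mv.f (nat_lit 168), Mv.f (nat_lit 170), Mv.f (nat_lit 172)])))) (Tr.nd (nat_lit 175) (Tr.lf (Fc.ed (nat_lit 174) (nat_lit 78) Col.b (nat_lit 92) Dv.df)) (Tr.lf (Fc.ed (nat_lit 175) (nat_lit 92) Col.d (nat_lit 74) (Dv.wd (nat_lit 14) [Mv.f (nat_lit 143), Mv.b (nat_lit 149), Mv.f (nat_lit 174)])))))))) (Tr.nd (nat_lit 189) (Tr.nd (nat_lit 182) (Tr.nd (nat_lit 179) (Tr.nd (nat_lit 177) (Tr.lf (Fc.ed (nat_lit 176) (nat_lit 92) Col.a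 (nat_lit 92) (Dv.wd (nat_lit 15) [Mv.f (nat_lit 175), Mv.f (nat_lit 142), Mv.b (nat_lit 175)]))) (Tr.nd (nat_lit 178) (Tr.lf (Fc.ed (nat_lit 177) (nat_lit 82) Col.d (nat_lit 93) Dv.df)) (Tr.lf (Fc.ed (nat_lit 178) (nat_lit 93) Col.a (nat_lit 87) (Dv.wd (nat_lit 7) [Mv.b (nat_lit 165), Mv.b (nat_lit 156), Mv.f (nat_lit 177)]))))) (Tr.nd (nat_lit 180) (Tr.lf (Fc.ed (nat_lit 179) (nat_lit 93) Col.b (nat_lit 86) (Dv.wd (nat_lit 8) [Mv.b (nat_lit 164), Mv.f (nat_lit 159), Mv.f (nat_lit 177)]))) (Tr.nd (nat_lit 181) (Tr.lf (Fc.ed (nat_lit 180) (nat_lit 79) Col.c (nat_lit 94) Dv.df)) (Tr.lf (Fc.ed (nat_lit 181) (nat_lit 81) Col.b (nat_lit 95) Dv.df))))) (Tr.nd (nat_lit 185) (Tr.nd (nat_lit 183) (Tr.lf (Fc.ed (nat_lit 182) (nat_lit 95) Col.c (nat_lit 89) (Dv.wd (nat_lit 10) [Mv.f (nat_lit 169), Mv.f (nat_lit 162), Mv.f (nat_lit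 159), Mv.f (nat_lit 157), Mv.f (nat_lit 181)]))) (Tr.nd (nat_lit 184) (Tr.lf (Fc.ed (nat_lit 183) (nat_lit 95) Col.d (nat_lit 96) Dv.df)) (Tr.lf (Fc.ed (nat_lit 184) (nat_lit 96) Col.b (nat_lit 87) (Dv.wd (nat_lit 8) [Mv.b (nat_lit 165), Mv.f (nat_lit 181), Mv.f (nat_lit 183)]))))) (Tr.nd (nat_lit 187) (Tr.nd (nat_lit 186) (Tr.lf (Fc.ed (nat_lit 185) (nat_lit 96) Col.a (nat_lit 94) (Dv.wd (nat_lit 27) [Mv.b (nat_lit 180), Mv.f (nat_lit 151), Mv.b (nat_lit 153), Mv.b (nat_lit 173), Mv.b (nat_lit 172), Mv.b (nat_lit 170), Mv.b (nat_lit 182), Mv.f (nat_lit 183)]))) (Tr.lf (Fc.ed (nat_lit 186) (nat_lit 92) Col.c (nat_lit 97) Dv.df))) (Tr.nd (nat_lit 188) (Tr.lf (Fc.ed (nat_lit 187) (nat_lit 97) Col.a (nat_lit 97) (Dv.wd (nat_lit 9) [Mv.b (nat_lit 186), Mv.f (nat_lit 176), Mv.f (nat_lit 186)]))) (Tr.lf (Fc.ed (nat_lit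 188) (nat_lit 97) Col.b (nat_lit 94) (Dv.wd (nat_lit 12) [Mv.b (nat_lit 180), Mv.b (nat_lit 150), Mv.f (nat_lit 148), Mv.f (nat_lit 174), Mv.f (nat_lit 186)]))))))) (Tr.nd (nat_lit 195) (Tr.nd (nat_lit 192) (Tr.nd (nat_lit 190) (Tr.lf (Fc.al (nat_lit 189) (nat_lit 90) (nat_lit 96) (Dv.wd (nat_lit 28) [Mv.f (nat_lit 185), Mv.b (nat_lit 188), Mv.f (nat_lit 187), Mv.f (nat_lit 188), Mv.b (nat_lit 185), Mv.f (nat_lit 184), Mv.b (nat_lit 178), Mv.f (nat_lit 179), Mv.b (nat_lit 167), Mv.b (nat_lit 171)]))) (Tr.nd (nat_lit 191) (Tr.lf (Fc.al (nat_lit 190) (nat_lit 88) (nat_lit 87) (Dv.wd (nat_lit 29) [Mv.b (nat_lit 184), Mv.b (nat_lit 189), Mv.f (nat_lit 171)]))) (Tr.lf (Fc.al (nat_lit 191) (nat_lit 93) (nat_lit 86) (Dv.wd (nat_lit 30) [Mv.b (nat_lit 167), Mv.f (nat_lit 190), Mv.b (nat_lit 178)]))))) (Tr.nd (nat_lit 193)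 (Tr.lf (Fc.al (nat_lit 192) (nat_lit 83) (nat_lit 82) (Dv.wd (nat_lit 31) [Mv.f (nat_lit 177), Mv.f (nat_lit 191), Mv.b (nat_lit 164)]))) (Tr.nd (nat_lit 194) (Tr.lf (Fc.al (nat_lit 193) (nat_lit 69) (nat_lit 67) (Dv.wd (nat_lit 32) [Mv.f (nat_lit 158), Mv.f (nat_lit 192), Mv.b (nat_lit 155)]))) (Tr.lf (Fc.al (nat_lit 194) (nat_lit 60) (nat_lit 65) (Dv.wd (nat_lit 31) [Mv.f (nat_lit 133), Mv.f (nat_lit 193), Mv.b (nat_lit 129)])))))) (Tr.nd (nat_lit 198) (Tr.nd (nat_lit 196) (Tr.lf (Fc.al (nat_lit 195) (nat_lit 55) (nat_lit 50) (Dv.wd (nat_lit 33) [Mv.f (nat_lit 125), Mv.b (nat_lit 194), Mv.b (nat_lit 119)]))) (Tr.nd (nat_lit 197) (Tr.lf (Fc.al (nat_lit 196) (nat_lit 32) (nat_lit 39) (Dv.wd (nat_lit 29) [Mv.f (nat_lit 110), Mv.f (nat_lit 195), Mv.b (nat_lit 101)]))) (Tr.lf (Fc.al (nat_lit 197) (nat_lit 33) (nat_lit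 36) (Dv.wd (nat_lit 30) [Mv.f (nat_lit 81), Mv.b (nat_lit 196), Mv.f (nat_lit 69)]))))) (Tr.nd (nat_lit 200) (Tr.nd (nat_lit 199) (Tr.lf (Fc.al (nat_lit 198) (nat_lit 17) (nat_lit 34) (Dv.wd (nat_lit 31) [Mv.f (nat_lit 75), Mv.b (nat_lit 197), Mv.f (nat_lit 70)]))) (Tr.lf (Fc.al (nat_lit 199) (nat_lit 14) (nat_lit 31) (Dv.wd (nat_lit 33) [Mv.f (nat_lit 71), Mv.b (nat_lit 198), Mv.b (nat_lit 39)])))) (Tr.nd (nat_lit 201) (Tr.lf (Fc.al (nat_lit 200) (nat_lit 6) (nat_lit 8) (Dv.wd (nat_lit 31) [Mv.f (nat_lit 67), Mv.b (nat_lit 199), Mv.b (nat_lit 33)]))) (Tr.lf (Fc.ed (nat_lit 201) (nat_lit 6) Col.a (nat_lit 7) (Dv.wd (nat_lit 30) [Mv.f (nat_lit 20), Mv.b (nat_lit 200)])))))))))))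
noncomputable def mini0A : Tr (Alt Col) := (Tr.nd (nat_lit 17) (Tr.nd (nat_lit 8) (Tr.nd (nat_lit 4) (Tr.nd (nat_lit 2) (Tr.nd (nat_lit 1) (Tr.lf (Alt.base (nat_lit 0) [] [Col.a])) (Tr.lf (Alt.base (nat_lit 1) [] [Col.b]))) (Tr.nd (nat_lit 3) (Tr.lf (Alt.base (nat_lit 2) [] [Col.c])) (Tr.lf (Alt.base (nat_lit 3) [] [Col.d])))) (Tr.nd (nat_lit 6) (Tr.nd (nat_lit 5) (Tr.lf (Alt.word (nat_lit 4) (nat_lit 1) true [Col.a, Col.e, Col.a, Col.e])) (Tr.lf (Alt.word (nat_lit 8) (nat_lit 1) true [Col.b, Col.e, Col.b, Col.e]))) (Tr.nd (nat_lit 7) (Tr.lf (Alt.word (nat_lit 11) (nat_lit 1) true [Col.c, Col.e, Col.c, Col.e])) (Tr.lf (Alt.word (nat_lit 3) (nat_lit 1) true [Col.a, Col.d, Col.a, Col.d]))))) (Tr.nd (nat_lit 12) (Tr.nd (nat_lit 10) (Tr.nd (nat_lit 9) (Tr.lf (Alt.word (nat_lit 7) (nat_lit 1) true [Col.b, Col.d, Col.b,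 Col.d])) (Tr.lf (Alt.word (nat_lit 2) (nat_lit 1) true [Col.a, Col.c, Col.a, Col.c]))) (Tr.nd (nat_lit 11) (Tr.lf (Alt.word (nat_lit 6) (nat_lit 2) true [Col.c, Col.b, Col.c, Col.b, Col.c, Col.b])) (Tr.lf (Alt.word (nat_lit 2) (nat_lit 2) true [Col.c, Col.a, Col.c, Col.a])))) (Tr.nd (nat_lit 14) (Tr.nd (nat_lit 13) (Tr.lf (Alt.word (nat_lit 6) (nat_lit 1) true [Col.b, Col.c, Col.b, Col.c, Col.b, Col.c])) (Tr.lf (Alt.word (nat_lit 1) (nat_lit 2) true [Col.b, Col.a, Col.b, Col.a, Col.b, Col.a, Col.b, Col.a, Col.b, Col.a]))) (Tr.nd (nat_lit 15) (Tr.lf (Alt.word (nat_lit 7) (nat_lit 2) true [Col.d, Col.b, Col.d, Col.b])) (Tr.nd (nat_lit 16) (Tr.lf (Alt.word (nat_lit 3) (nat_lit 3) true [Col.a, Col.d, Col.a, Col.d])) (Tr.lf (Alt.word (nat_lit 15) (nat_lit 0) true [Col.c, Col.d, Col.c, Col.d, Col.c, Col.d, Col.c, Col.d,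 Col.a]))))))) (Tr.nd (nat_lit 25) (Tr.nd (nat_lit 21) (Tr.nd (nat_lit 19) (Tr.nd (nat_lit 18) (Tr.lf (Alt.word (nat_lit 8) (nat_lit 2) true [Col.e, Col.b, Col.e, Col.b])) (Tr.lf (Alt.word (nat_lit 15) (nat_lit 3) true [Col.d, Col.c, Col.d, Col.c, Col.d, Col.a, Col.c, Col.d, Col.c]))) (Tr.nd (nat_lit 20) (Tr.lf (Alt.word (nat_lit 3) (nat_lit 2) true [Col.d, Col.a, Col.d, Col.a])) (Tr.lf (Alt.word (nat_lit 6) (nat_lit 0) true [Col.c, Col.b, Col.c, Col.b, Col.c, Col.b])))) (Tr.nd (nat_lit 23) (Tr.nd (nat_lit 22) (Tr.lf (Alt.word (nat_lit 15) (nat_lit 4) true [Col.c, Col.d, Col.c, Col.d, Col.a, Col.c, Col.d, Col.c, Col.d])) (Tr.lf (Alt.word (nat_lit 15) (nat_lit 1) true [Col.d, Col.c, Col.d, Col.c, Col.d, Col.c, Col.d, Col.a, Col.c]))) (Tr.nd (nat_lit 24) (Tr.lf (Alt.word (nat_lit 15) (nat_lit 0) false [Col.a, Col.d,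 Col.c, Col.d, Col.c, Col.d, Col.c, Col.d, Col.c])) (Tr.lf (Alt.word (nat_lit 1) (nat_lit 1) true [Col.a, Col.b, Col.a, Col.b, Col.a, Col.b, Col.a, Col.b, Col.a, Col.b]))))) (Tr.nd (nat_lit 29) (Tr.nd (nat_lit 27) (Tr.nd (nat_lit 26) (Tr.lf (Alt.word (nat_lit 15) (nat_lit 2) true [Col.c, Col.d, Col.c, Col.d, Col.c, Col.d, Col.a, Col.c, Col.d])) (Tr.lf (Alt.word (nat_lit 16) (nat_lit 3) true [Col.d, Col.c, Col.b, Col.d, Col.c, Col.d, Col.c, Col.b, Col.d, Col.c, Col.d, Col.c, Col.b, Col.d, Col.c, Col.d, Col.c, Col.b, Col.d, Col.c, Col.d, Col.c, Col.b, Col.e, Col.d, Col.c, Col.d, Col.c, Col.b, Col.d, Col.c, Col.d, Col.c, Col.b, Col.d, Col.c, Col.d, Col.c, Col.b, Col.d, Col.c, Col.d, Col.c, Col.b, Col.d, Col.c, Col.d, Col.c, Col.b, Col.e, Col.d, Col.c, Col.d, Col.c, Col.b, Col.d, Col.c, Col.d, Col.c, Col.b, Col.d, Col.c,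 Col.d, Col.c, Col.b, Col.d, Col.c, Col.d, Col.c, Col.b, Col.d, Col.c, Col.d, Col.c, Col.b, Col.e, Col.d, Col.c]))) (Tr.nd (nat_lit 28) (Tr.lf (Alt.word (nat_lit 15) (nat_lit 8) true [Col.a, Col.c, Col.d, Col.c, Col.d, Col.c, Col.d, Col.c, Col.d])) (Tr.lf (Alt.word (nat_lit 1) (nat_lit 7) true [Col.a, Col.b, Col.a, Col.b, Col.a, Col.b, Col.a, Col.b, Col.a, Col.b])))) (Tr.nd (nat_lit 31) (Tr.nd (nat_lit 30) (Tr.lf (Alt.word (nat_lit 5) (nat_lit 0) true [Col.b, Col.b])) (Tr.lf (Alt.word (nat_lit 0) (nat_lit 0) true [Col.a, Col.a]))) (Tr.nd (nat_lit 32) (Tr.lf (Alt.word (nat_lit 12) (nat_lit 0) true [Col.d, Col.d])) (Tr.nd (nat_lit 33) (Tr.lf (Alt.word (nat_lit 14) (nat_lit 0) true [Col.e, Col.e])) (Tr.lf (Alt.word (nat_lit 9) (nat_lit 0) true [Col.c, Col.c]))))))))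
noncomputable def mini0P : Tr ℕ := (Tr.nd (nat_lit 49) (Tr.nd (nat_lit 24) (Tr.nd (nat_lit 12) (Tr.nd (nat_lit 6) (Tr.nd (nat_lit 3) (Tr.nd (nat_lit 1) (Tr.lf (nat_lit 0)) (Tr.nd (nat_lit 2) (Tr.lf (nat_lit 0)) (Tr.lf (nat_lit 1)))) (Tr.nd (nat_lit 4) (Tr.lf (nat_lit 2)) (Tr.nd (nat_lit 5) (Tr.lf (nat_lit 3)) (Tr.lf (nat_lit 4))))) (Tr.nd (nat_lit 9) (Tr.nd (nat_lit 7) (Tr.lf (nat_lit 5)) (Tr.nd (nat_lit 8) (Tr.lf (nat_lit 6)) (Tr.lf (nat_lit 7)))) (Tr.nd (nat_lit 10) (Tr.lf (nat_lit 6)) (Tr.nd (nat_lit 11) (Tr.lf (nat_lit 5)) (Tr.lf (nat_lit 4)))))) (Tr.nd (nat_lit 18) (Tr.nd (nat_lit 15) (Tr.nd (nat_lit 13) (Tr.lf (nat_lit 11)) (Tr.nd (nat_lit 14) (Tr.lf (nat_lit 9)) (Tr.lf (nat_lit 6)))) (Tr.nd (nat_lit 16) (Tr.lf (nat_lit 10)) (Tr.nd (nat_lit 17) (Tr.lf (nat_lit 15)) (Tr.lf (nat_lit 14))))) (Tr.nd (nat_lit 21)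 (Tr.nd (nat_lit 19) (Tr.lf (nat_lit 17)) (Tr.nd (nat_lit 20) (Tr.lf (nat_lit 13)) (Tr.lf (nat_lit 19)))) (Tr.nd (nat_lit 22) (Tr.lf (nat_lit 20)) (Tr.nd (nat_lit 23) (Tr.lf (nat_lit 11)) (Tr.lf (nat_lit 10))))))) (Tr.nd (nat_lit 36) (Tr.nd (nat_lit 30) (Tr.nd (nat_lit 27) (Tr.nd (nat_lit 25) (Tr.lf (nat_lit 23)) (Tr.nd (nat_lit 26) (Tr.lf (nat_lit 18)) (Tr.lf (nat_lit 22)))) (Tr.nd (nat_lit 28) (Tr.lf (nat_lit 25)) (Tr.nd (nat_lit 29) (Tr.lf (nat_lit 26)) (Tr.lf (nat_lit 25))))) (Tr.nd (nat_lit 33) (Tr.nd (nat_lit 31) (Tr.lf (nat_lit 27)) (Tr.nd (nat_lit 32) (Tr.lf (nat_lit 8)) (Tr.lf (nat_lit 21)))) (Tr.nd (nat_lit 34) (Tr.lf (nat_lit 32)) (Tr.nd (nat_lit 35) (Tr.lf (nat_lit 31)) (Tr.lf (nat_lit 30)))))) (Tr.nd (nat_lit 42) (Tr.nd (nat_lit 39) (Tr.nd (nat_lit 37) (Tr.lf (nat_lit 34)) (Tr.nd (nat_lit 38) (Tr.lf (nat_lit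 36)) (Tr.lf (nat_lit 7)))) (Tr.nd (nat_lit 40) (Tr.lf (nat_lit 36)) (Tr.nd (nat_lit 41) (Tr.lf (nat_lit 29)) (Tr.lf (nat_lit 38))))) (Tr.nd (nat_lit 45) (Tr.nd (nat_lit 43) (Tr.lf (nat_lit 40)) (Tr.nd (nat_lit 44) (Tr.lf (nat_lit 42)) (Tr.lf (nat_lit 43)))) (Tr.nd (nat_lit 47) (Tr.nd (nat_lit 46) (Tr.lf (nat_lit 37)) (Tr.lf (nat_lit 30))) (Tr.nd (nat_lit 48) (Tr.lf (nat_lit 36)) (Tr.lf (nat_lit 47)))))))) (Tr.nd (nat_lit 73) (Tr.nd (nat_lit 61) (Tr.nd (nat_lit 55) (Tr.nd (nat_lit 52) (Tr.nd (nat_lit 50) (Tr.lf (nat_lit 43)) (Tr.nd (nat_lit 51) (Tr.lf (nat_lit 32)) (Tr.lf (nat_lit 47)))) (Tr.nd (nat_lit 53) (Tr.lf (nat_lit 21)) (Tr.nd (nat_lit 54) (Tr.lf (nat_lit 41)) (Tr.lf (nat_lit 44))))) (Tr.nd (nat_lit 58) (Tr.nd (nat_lit 56) (Tr.lf (nat_lit 39)) (Tr.nd (nat_lit 57) (Tr.lf (nat_lit 45)) (Tr.lf (nat_lit 56))))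 (Tr.nd (nat_lit 59) (Tr.lf (nat_lit 57)) (Tr.nd (nat_lit 60) (Tr.lf (nat_lit 46)) (Tr.lf (nat_lit 55)))))) (Tr.nd (nat_lit 67) (Tr.nd (nat_lit 64) (Tr.nd (nat_lit 62) (Tr.lf (nat_lit 58)) (Tr.nd (nat_lit 63) (Tr.lf (nat_lit 51)) (Tr.lf (nat_lit 58)))) (Tr.nd (nat_lit 65) (Tr.lf (nat_lit 60)) (Tr.nd (nat_lit 66) (Tr.lf (nat_lit 50)) (Tr.lf (nat_lit 55))))) (Tr.nd (nat_lit 70) (Tr.nd (nat_lit 68) (Tr.lf (nat_lit 60)) (Tr.nd (nat_lit 69) (Tr.lf (nat_lit 64)) (Tr.lf (nat_lit 65)))) (Tr.nd (nat_lit 71) (Tr.lf (nat_lit 54)) (Tr.nd (nat_lit 72) (Tr.lf (nat_lit 69)) (Tr.lf (nat_lit 61))))))) (Tr.nd (nat_lit 85) (Tr.nd (nat_lit 79) (Tr.nd (nat_lit 76) (Tr.nd (nat_lit 74) (Tr.lf (nat_lit 70)) (Tr.nd (nat_lit 75) (Tr.lf (nat_lit 59)) (Tr.lf (nat_lit 62)))) (Tr.nd (nat_lit 77) (Tr.lf (nat_lit 63)) (Tr.nd (nat_lit 78) (Tr.lf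 (nat_lit 61)) (Tr.lf (nat_lit 77))))) (Tr.nd (nat_lit 82) (Tr.nd (nat_lit 80) (Tr.lf (nat_lit 77)) (Tr.nd (nat_lit 81) (Tr.lf (nat_lit 76)) (Tr.lf (nat_lit 71)))) (Tr.nd (nat_lit 83) (Tr.lf (nat_lit 69)) (Tr.nd (nat_lit 84) (Tr.lf (nat_lit 67)) (Tr.lf (nat_lit 68)))))) (Tr.nd (nat_lit 91) (Tr.nd (nat_lit 88) (Tr.nd (nat_lit 86) (Tr.lf (nat_lit 68)) (Tr.nd (nat_lit 87) (Tr.lf (nat_lit 83)) (Tr.lf (nat_lit 81)))) (Tr.nd (nat_lit 89) (Tr.lf (nat_lit 84)) (Tr.nd (nat_lit 90) (Tr.lf (nat_lit 85)) (Tr.lf (nat_lit 89))))) (Tr.nd (nat_lit 94) (Tr.nd (nat_lit 92) (Tr.lf (nat_lit 90)) (Tr.nd (nat_lit 93) (Tr.lf (nat_lit 78)) (Tr.lf (nat_lit 82)))) (Tr.nd (nat_lit 96) (Tr.nd (nat_lit 95) (Tr.lf (nat_lit 79)) (Tr.lf (nat_lit 81))) (Tr.nd (nat_lit 97) (Tr.lf (nat_lit 95)) (Tr.lf (nat_lit 92)))))))))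
noncomputable def mini0Q : Tr ℕ := (Tr.nd (nat_lit 49) (Tr.nd (nat_lit 24) (Tr.nd (nat_lit 12) (Tr.nd (nat_lit 6) (Tr.nd (nat_lit 3) (Tr.nd (nat_lit 1) (Tr.lf (nat_lit 0)) (Tr.nd (nat_lit 2) (Tr.lf (nat_lit 4)) (Tr.lf (nat_lit 3)))) (Tr.nd (nat_lit 4) (Tr.lf (nat_lit 2)) (Tr.nd (nat_lit 5) (Tr.lf (nat_lit 1)) (Tr.lf (nat_lit 0))))) (Tr.nd (nat_lit 9) (Tr.nd (nat_lit 7) (Tr.lf (nat_lit 1)) (Tr.nd (nat_lit 8) (Tr.lf (nat_lit 2)) (Tr.lf (nat_lit 0)))) (Tr.nd (nat_lit 10) (Tr.lf (nat_lit 0)) (Tr.nd (nat_lit 11) (Tr.lf (nat_lit 3)) (Tr.lf (nat_lit 3)))))) (Tr.nd (nat_lit 18) (Tr.nd (nat_lit 15) (Tr.nd (nat_lit 13) (Tr.lf (nat_lit 1)) (Tr.nd (nat_lit 14) (Tr.lf (nat_lit 3)) (Tr.lf (nat_lit 3)))) (Tr.nd (nat_lit 16) (Tr.lf (nat_lit 4)) (Tr.nd (nat_lit 17) (Tr.lf (nat_lit 1)) (Tr.lf (nat_lit 2))))) (Tr.nd (nat_lit 21) (Tr.nd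 (nat_lit 19) (Tr.lf (nat_lit 4)) (Tr.nd (nat_lit 20) (Tr.lf (nat_lit 4)) (Tr.lf (nat_lit 2)))) (Tr.nd (nat_lit 22) (Tr.lf (nat_lit 4)) (Tr.nd (nat_lit 23) (Tr.lf (nat_lit 2)) (Tr.lf (nat_lit 2))))))) (Tr.nd (nat_lit 36) (Tr.nd (nat_lit 30) (Tr.nd (nat_lit 27) (Tr.nd (nat_lit 25) (Tr.lf (nat_lit 4)) (Tr.nd (nat_lit 26) (Tr.lf (nat_lit 1)) (Tr.lf (nat_lit 3)))) (Tr.nd (nat_lit 28) (Tr.lf (nat_lit 2)) (Tr.nd (nat_lit 29) (Tr.lf (nat_lit 2)) (Tr.lf (nat_lit 4))))) (Tr.nd (nat_lit 33) (Tr.nd (nat_lit 31) (Tr.lf (nat_lit 4)) (Tr.nd (nat_lit 32) (Tr.lf (nat_lit 3)) (Tr.lf (nat_lit 3)))) (Tr.nd (nat_lit 34) (Tr.lf (nat_lit 0)) (Tr.nd (nat_lit 35) (Tr.lf (nat_lit 2)) (Tr.lf (nat_lit 3)))))) (Tr.nd (nat_lit 42) (Tr.nd (nat_lit 39) (Tr.nd (nat_lit 37) (Tr.lf (nat_lit 3)) (Tr.nd (nat_lit 38) (Tr.lf (nat_lit 4)) (Tr.lf (nat_lit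 3)))) (Tr.nd (nat_lit 40) (Tr.lf (nat_lit 0)) (Tr.nd (nat_lit 41) (Tr.lf (nat_lit 3)) (Tr.lf (nat_lit 2))))) (Tr.nd (nat_lit 45) (Tr.nd (nat_lit 43) (Tr.lf (nat_lit 2)) (Tr.nd (nat_lit 44) (Tr.lf (nat_lit 3)) (Tr.lf (nat_lit 4)))) (Tr.nd (nat_lit 47) (Tr.nd (nat_lit 46) (Tr.lf (nat_lit 1)) (Tr.lf (nat_lit 0))) (Tr.nd (nat_lit 48) (Tr.lf (nat_lit 1)) (Tr.lf (nat_lit 2)))))))) (Tr.nd (nat_lit 73) (Tr.nd (nat_lit 61) (Tr.nd (nat_lit 55) (Tr.nd (nat_lit 52) (Tr.nd (nat_lit 50) (Tr.lf (nat_lit 1)) (Tr.nd (nat_lit 51) (Tr.lf (nat_lit 1)) (Tr.lf (nat_lit 3)))) (Tr.nd (nat_lit 53) (Tr.lf (nat_lit 1)) (Tr.nd (nat_lit 54) (Tr.lf (nat_lit 1)) (Tr.lf (nat_lit 1))))) (Tr.nd (nat_lit 58) (Tr.nd (nat_lit 56) (Tr.lf (nat_lit 1)) (Tr.nd (nat_lit 57) (Tr.lf (nat_lit 0)) (Tr.lf (nat_lit 4)))) (Tr.nd (nat_lit 59) (Tr.lf (nat_lit 3))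 (Tr.nd (nat_lit 60) (Tr.lf (nat_lit 1)) (Tr.lf (nat_lit 2)))))) (Tr.nd (nat_lit 67) (Tr.nd (nat_lit 64) (Tr.nd (nat_lit 62) (Tr.lf (nat_lit 2)) (Tr.nd (nat_lit 63) (Tr.lf (nat_lit 2)) (Tr.lf (nat_lit 1)))) (Tr.nd (nat_lit 65) (Tr.lf (nat_lit 0)) (Tr.nd (nat_lit 66) (Tr.lf (nat_lit 2)) (Tr.lf (nat_lit 0))))) (Tr.nd (nat_lit 70) (Tr.nd (nat_lit 68) (Tr.lf (nat_lit 3)) (Tr.nd (nat_lit 69) (Tr.lf (nat_lit 3)) (Tr.lf (nat_lit 3)))) (Tr.nd (nat_lit 71) (Tr.lf (nat_lit 2)) (Tr.nd (nat_lit 72) (Tr.lf (nat_lit 2)) (Tr.lf (nat_lit 1))))))) (Tr.nd (nat_lit 85) (Tr.nd (nat_lit 79) (Tr.nd (nat_lit 76) (Tr.nd (nat_lit 74) (Tr.lf (nat_lit 4)) (Tr.nd (nat_lit 75) (Tr.lf (nat_lit 2)) (Tr.lf (nat_lit 3)))) (Tr.nd (nat_lit 77) (Tr.lf (nat_lit 2)) (Tr.nd (nat_lit 78) (Tr.lf (nat_lit 3)) (Tr.lf (nat_lit 2))))) (Tr.nd (nat_lit 82) (Tr.nd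 (nat_lit 80) (Tr.lf (nat_lit 1)) (Tr.nd (nat_lit 81) (Tr.lf (nat_lit 1)) (Tr.lf (nat_lit 4)))) (Tr.nd (nat_lit 83) (Tr.lf (nat_lit 4)) (Tr.nd (nat_lit 84) (Tr.lf (nat_lit 4)) (Tr.lf (nat_lit 4)))))) (Tr.nd (nat_lit 91) (Tr.nd (nat_lit 88) (Tr.nd (nat_lit 86) (Tr.lf (nat_lit 1)) (Tr.nd (nat_lit 87) (Tr.lf (nat_lit 3)) (Tr.lf (nat_lit 3)))) (Tr.nd (nat_lit 89) (Tr.lf (nat_lit 3)) (Tr.nd (nat_lit 90) (Tr.lf (nat_lit 4)) (Tr.lf (nat_lit 3))))) (Tr.nd (nat_lit 94) (Tr.nd (nat_lit 92) (Tr.lf (nat_lit 2)) (Tr.nd (nat_lit 93) (Tr.lf (nat_lit 1)) (Tr.lf (nat_lit 3)))) (Tr.nd (nat_lit 96) (Tr.nd (nat_lit 95) (Tr.lf (nat_lit 2)) (Tr.lf (nat_lit 1))) (Tr.nd (nat_lit 97) (Tr.lf (nat_lit 3)) (Tr.lf (nat_lit 2)))))))))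
theorem mini0_alt : Tr.all (altChk idx inv RW (SW0)) mini0A = true := by decide +kernel
theorem mini0_chk : Tr.all (chkFc idx inv mini0S mini0A (fun b => Tr.find b mini0P) (fun b => Tr.find b mini0Q)) mini0S = true := by decide +kernel
theorem mini0_run : runM idx inv mini0S 202 0 [Mv.f (nat_lit 4), Mv.f (nat_lit 8), Mv.f (nat_lit 11), Mv.f (nat_lit 13), Mv.f (nat_lit 15), Mv.f (nat_lit 17), Mv.f (nat_lit 18), Mv.b (nat_lit 201), Mv.b (nat_lit 17), Mv.b (nat_lit 15), Mv.b (nat_lit 13), Mv.b (nat_lit 11), Mv.b (nat_lit 8), Mv.b (nat_lit 4)] [Col.e, Col.d, Col.c, Col.b, Col.a, Col.b, Col.c, Col.a, Col.b, Col.a, Col.b, Col.c, Col.d, Col.e] 0 = true := by decide +kernel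
theorem mini0_fix {G X : Type*} [Group G] [MulAction G X] (g : Col → G) (x0 : X) (hinv : ∀ c, g (inv c) = (g c)⁻¹)
    (hRW : ∀ w ∈ RW, gw g w = 1) (hSW : ∀ w ∈ SW0, gw g w • x0 = x0) : gw g [Col.e, Col.d, Col.c, Col.b, Col.a, Col.b, Col.c, Col.a, Col.b, Col.a, Col.b, Col.c, Col.d, Col.e] • x0 = x0 :=
  mini_sound g x0 dec hdec hinv
    (fun a ha => altChk_sound g x0 dec hdec hinv hRW hSW ((Tr.all_iff _ _).1 mini0_alt a ha)) mini0_chk mini0_run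
def T_a : ℕ := (nat_lit 0x3c50711554b712e258f6b13af6c18b8a4a49e99f72af450685ff140abf80c693c0e1a6db389b48e142638cca490425fb77803dc582aa879d27f0ca90315cac6bd333eebdc0c4ce41d10458f92fd8d4e5fead860936493c578a49519f6a7cdacd6426aa4066b97cb720cfceb117a84ef7a96b1f5cc9f1dc01263749e6af56285e427148e132a1ea974260a19545357b758552570a4eda1021571826b4270bcbbad428f557b929a7154fb55f2185797e5cdefd4057769cf355c750e7082cd1b775e03f4c6a422982e5fd379be0b359c27b58762d247e0d3259f777531d03661abc6205e07837cb6cc5306cf8c31bf45e66eacd204a184552120e844afbcceed07fa4257aeadddeed8901d51dfb94ac8456b916aee53037f833d951c79e96650b22014f01b107d2af6a87b70ccf586c58d540a315a4ec1eaf6f803ed803bb1a93a4a34ce5c38c1011a4c3402016fdc312e317df12e99767e624eca0aad35a68651e6f7254db33f8d80419cf013e099238bd583f23d605c0bc6e135c7423bdf6bb22b06d519dbc67c5a65c5383c7cc69537a1765aed328d834156f2e4bcb2e0230236d2472059aadbbf0a3c39a0bc1920d4eb)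
def T_b : ℕ := (nat_lit 0x8878b3a3715b7191984b433e072b9f29f473e6af2900af8c49b3acff42035ae97832c1b05fee3eb009275cf7cdedefe89aab88c612fbb96b7bea99af0f52fa30727d41e391c788297f2ea2056399a353cfcbaa048c70dea56198ebcb9e02320e9fb857360a172da36f70d3dee700bc0d096a2725e360887f67bee4199d3c3bc6d2babe1cec768eaae403db010eaaf06ccdb97d28754bbdba7b41491d99b5cb3cf726515b8ed009db040b8367c169834f07893bf16ecc559c9ccdae0fe1673bf79fa80454b801b4a1613dc5c8b8de9e4f84ed0ca25e4d4bfd6b40b5fa63a7553055df82d320541e38cb23ab2deb419941e0b10d98d054ec58f55dc34eb9bd2101d4d9943f49ca1d254aab223264427affd4373275bdcbe8675a065cfcb0a474882041b0cb618032e855a7282648dc0241abc37f4fab39a0abdee5812d54777b0fb1f504bf29610b41071bc9bd7ead3d26bf6e43a5eb5fc6d40bdca5502d760412598d582b6dc5908bf2576ab44d4a66863fcf024cb3b53ddb3ec36233472994a3e814b26b208f3db8639a97c2a64836ba7367ecb5063bf32839a546ceb46d02376ac2074b2bb2e225a3e9a5ecbe1e03771)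
def T_c : ℕ := (nat_lit 0x1b8f7f63ad5183a9076cc94d0802b20f571628cea9f437d5bf26ebf7a538fe92bd4e6fb0f55a789c3b0c442633d7b5769b53848fd743280bf5d333ff99ab923d9173c748909c79a1d210048b0a845d8da9d96ba5e9b28e39fd06e047c18a4ec9885920f5e78a439a3d4130bb2872dc882f771e846a10c0d5565b18f79c49642203b4ef753254ef2d0a7e8856c1d14c0eca96b7adac81c0b6aa525685892a0fd071ea75c991b2e7d7fcfefe3269ee8d25dbb508586fd6c1eaeef61d7c7aa6de80c5633aa6c1392b7231777222d681c17949abd3c66fa8427c64048e3537a23bd3b27cb7fc46cc4536a4bf7c53fc61f21dd1a3cb79bc46ac0dd089f7b2864fadfca3f7dbab44121857128614fea886bdd55e482a62bc0b54bbe009b1e03c6c86ea1c76ef85b4279dbff988e33b5335ca3f8db96d6a5a2e413c3f9701c9080e3b84e326bfd984cffc899a8a3dad44d9bcd40a9ba3c3c056cc08f8a668d5386fdb560dff6f46ad5668b819fccb947712da620f97a9d5981567bbf9688a34554091933eddf315a494db4a187708befa3116011b8af364a1804404962a0824393b4b649c754f4ff3db1cacd5a34757a1f4e99cb)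
def T_d : ℕ := (nat_lit 0x1e37e6525227a0324cca0f5dbdc5f4b517c5cc8401f4003d87e89a255baa642ba8276349b9b421d50feaefb9ceb5bceb1c23bf7deb589dc0382cae791056780b3c84177b6c9d496f85214a4c3127d149f5e78c0c90de1262bcb25a131f739c96eda75bf2c1204373bd34b14c1465660293381be4ceb949ce89afa3d9a9f16e0acc99dfb02b64e4032b610b787e7024878589811daa4694ec7e18440ea430b9402807a9d4986f6f8f93afea5d77c62c9c0eeeeb292c1b6fcc698dfbd2ff0c3b241010ea727203f7861eb68080bb610f33d2beb7b2ca11e8b461358c0fc1e0c9949c699a8eff00f7067665c89d8d1a10c39a421bec51c63d8821bcda86bd205c6b45b7858f8591c1a664912f8adbb5538f5582b3dab0917e498cd1d18b44028c0c7a695018e0633c69c47f586ec51784bec1e9fb7b1a2eb1968aa6b03328f15071b426978beb36db55e5428db57afeab989852512f45d3068307fcb5f95cc9d0e90ea8dfa2b23dab186b1551a65da3592f87250dde69a1eb6691891e0f96da8c6a5305320342f53446298cd2a6d75c53a447c7ef9b7440e5d68748ca25e3bdff6ae579a84edd2fe8f23f4e11a4d28397a32b)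
def T_e : ℕ := (nat_lit 0x122eec9b26417368276a3ecf0a220b8d310ac23bc03230954ccebd0c4316aa3631f60a389fc6f3d604feee613425ef914758fc82c8e50f7afd2c4877b23d4a8264ffef18bfaf7afdb6702afdabb877fe23cbb4bafc0862dbf487aa043bbea4356a01bf10a26a9245315172aac80410f80ce478b8101bc0b89042682b2fea8ed1d9fc3e13b1751bdee26fa6f59fc5439c3cf3d807a3c7d0b21bf53f3e7a8b5289d20686291dc14f977db226013d1e93354c079128f13017609e45376078ce7c25324d66ed71f8023397dd2d3111655bab3a0ed233d2f83b5919b1491c4dcbe12a0c5528832dbf80a63d6d8cd71d6898e2aee147f2e175d387a7e132253b40029d2322d50cf97af9c83e8f7a59a0f2124a55ee7786cb25ecedc5e0f9fd142a3611412d1d43e8f077d389556fde8ee4d2bbcb65a6cd21a4fdf0ec4f1e327867bb264f3411fd4fe84b8af327d58266efa67bba01f18bbb6c3250739c69eec4516c4df28d69fa6916c1835ef83a3089eecaef6a4eb97024012c7ced1cec66fa6906f68e48cb3af87c1e4b8b6f7c6fdc94bafa05f90c331e852211823a30cf19d9a684bba5775ac2e8db5beff71212bc374ce02c)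
def U_a : ℕ := (nat_lit 0x3befcddfbe5ca239fba45fa6f2ce13a62cfb0a2afbf3ab69146a5f7f80584b4e8122db72cd466e57e32490b961cf2fe6b03fdee32b8ae20bdc32b16361605c927294956c69251fc4a814de6697f9c0d0c6dab5d19f42267c2f73732433965509567ad42bf4eb69531e7717f70660734c7763f89dfe3afcef44e90f4cb790eaa96322820175832495d341da97ad6fae29d1cf3f611b4af68d3d2ee2541ad7ce02c42ff26f0f4cd6dca089a28aa69d4d0a52fc89d41f4370559dd9124a5ce854197c2d6554d2bb0696106f91e5e85be49b7b19d69408d3dbcac92bc588fcc2188848ac0c18d18f28c8af58566dfbfbe2f8c0c227473c44d05cdf1e863bce850cbfe2abad14dbf184a0391d84ff61faeb3a0cdb6515e6a66fd5245f8acf08fa3bcb48e7485e045f71661ca8beafc40f907fcaa4844795385899c8936533828c907972785f170253dfb266e2c0a922e533e85186b55ba771c344bf00c5d782548084c0119e0bd0f680a2fe9c71547dc4516e8b90bd2971470df8bec404ada180e79ee104a105962667e85b396678f2c6cd17f166d64bc69156bab75a36845f7a332c6d23471a63c909e180cc7b890d3a099a1)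
def U_b : ℕ := (nat_lit 0x3caeec6ade5155bb5d8782bae1b025a53c22a978dfeb4b499fc2d8af2b6ec7281949bd6e41998ae37367c11a06e780d69e26842ba12542f0cd96635df3e99d2928e8ffce7c36dfe14ab8155bb8b13ed164f6a29676b997794ef3eab4d7092ae7c0c50086ec9a2e9944c93dc888d2e60b1cc11e5d014420f2f8c17da29983985d0a23251e3cea6755c73159bec4bf0f75e7f58417d8819fc525d2af1ae6632faffa01facf0c44e552bb6c8d68e7cf4c03f9abbfb6acc12f0522b5a1098836cd0af7ee4a6f975b0a43f9a4fc589b8b64d1d0a30ec30049c6ea6f18606334e1b509c0973c51cc0addba1a88e4e6ce865ee68d41bb45c8721cfca4cf2b1a06f44ba72f9d9e4e07b0a774abac75c1e53c2384afc37f5462d51b82401ca26a9bc6cda2851ae8781b0b13a7458cc998842dcf7d984240bbe9a595bffc6800df60ee2cadf23d04beda700903df3dfdccfe45c539180b22df51b2a0e1822be05dcbdb4ba55993c6aa216564711ff76a0d5e66736fbc00356bfe5749d7d98b0ee661fc4520fe20f5d40e14611fbb576f70ee774991c0a706f3ae25c33314aa84af48779bf997a48e0e14e8b517cad56d257b497fb11)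
def U_c : ℕ := (nat_lit 0x1f4f31c6f9db4d49efa6f38779892c1bc419c76a9cc49aacb9e23610fe18d3823fe2326a8c8d6adc5cb1de1c2fdb8a987647b313632300fb48f9486636d7e6e9a6844194544f5ee724a0267f990ee721493575cb7310ae2ef67eee6eb068285f7bef2cb715230faaf6964f88ec1164089299d51c140337250e4d9a00cf027a83206ceef9842dbac657dd4fd07ec8baf3963ce7568dcdcc14f33486fd082e44612529fcbb24437938ae57142afeaca7aa48023faaa72f7248be03e88503b098867a79302e5f1790c55d7283d2bd7fba7452af4f42607c67f5dcbd47ba37c5bba57a7eac79c76c31b309b78e31f900da23541fff3f63b9fc68e9e906e3fa167696b4213f14f46b47fa892cb6c5cf4bcf40ba9b2644b82a981a39edec56df121074bfff33d48d88fe1205baf32368b22973bf286e886e5ff79646538268f3f09b876172d9a245f787ca4b9ecd682e8bc56785adbae79894b1cb6fc625e06fcd3259695a6412c2c3ec71d8ebe0ff8483a5dd09c785aca5d2b2979b63eab2db83a5db9db61e18d792c8013b1a9a60b501ab9765ffa6bc6fb7057f07cf9fdbd276298b192d7282a246f739252dd977098f45613e)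
def U_d : ℕ := (nat_lit 0x1cd8df71491502c8773e0e899ec1824911e184c4506c102ea78accb9d41fd50f41a4367c32c06493e52b3361cd6048c5539a5bd8c7a9fe7f4ec6e043537f5b25c6330032eea195e147e5459830c39c1743ef69b75002d7e05cc1b6d6b00fd9cb8ec9583e6dcccb11f5b55b96e7070b0940286dc02c74ac80d5cf93cec04c8197264efccc0c8f69510d1b4d10c86f10717ca25e32d724a584db0a2b8d33096ee1600cf13fb21ae4ac62d501249a2c718107867ef67e662c7c933f0a6313c199c7865c7c346c0aed00506da8c370864c1abbb72b3bea70c8f017689229e547a6215b5a481de5f05c2915fc8f735fdf783692e0c3c60f85f2f74015d702e5c5b289930e541ea70bdd50cced1453c9bfd7be27520945bbbc54fe01456273036c5b2eef1cca4f1e75aaf137496997a719e139c30708991cc5a3f449af5ba303995193e34eb970a112f7b9f4264853d733b3c8dae19f3ba76919dc46c387e8e39b6d00f2f271c2ee25dfe70985e1ccac9e81f3e40b108e35423280b2c4df29fc2ddc39ebdaa42a7ea1ad62024a25e0e443e0359fcfd03672249e501f0f9634e067f806bcd971f1827d9f01504492a7ad7e2a2ddc)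
def U_e : ℕ := (nat_lit 0x10fb35a50f8ad0c3863d617a0b08025ebfbbddb668b2cad68d23c8771cdafbb13ddf9ddfabf46939bf625550e1a439ec9de0bd0998213b564b966592a31a98c0ff4cc1c18a33c975e20b602f7e7fd7c58a38ac892783e2d5adff631cc1800665e20d7f2c02a99353fe3045d22614ce552c1e380579b22821947ddb8ffa844e2fdde8aecf33e948f4cd50e77c19aadf77582b0b6d4f374c4e470afc511f8b10f20b18ee973466fae426c15a221ca7ba2cbab6d6cbc6d11e5753f0263e78ce07c733096a19b39a2df382e25b64a843bdd901dc3e8dcf03d09e2d1b5f33907316492c0587838be948bdeac76e7d3beabac96d39a343287ec6cf53273482fe69f568f62f312b8f71ba62d57db895b94b4b9e1c35b175cfec22705908a2181a4a311b855f334fa3614bc491e01ff6677e2e563a3337e741195214ada41dc1c53e7ecd8477860711dce8341ce158a8000c853a50f5408707efe24a4020afca3dbfc8693a110b9442a71f27a7821df82d7aa668830145a9aafe3cf1f1d5c249e2d47fbd315f56d04540681008968a722ac84c66b48ffdcf9a7cda3d71a3f0fdce6b79c959aaaae729291cf54e79d0e4c7ac878230)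
def V_a : ℕ := (nat_lit 0x2d3cc3a1433b2f6d9f64951d782f97120486fb3d1beef98d32eea4d2b0a04ca7c4c9019dd5c947abc33e4aac6ae8f5be939b6b08d9e9cfb3262e94dcb019747457a0a01c6014f4d5e75066e35367108ffd9bd84b704e09f289ccd1d2dd773fbba2f603ba4711f2ecc7301489c46e918b64d43144f1f9a6528b96eaf807102aa87a5534c90ed1151e7952c7ed6d43920990e6622d7ca2bed0b74038c98038187216b0dd9919431daf3f9b595e7eacb47918f9a2a66daac8b55803f2fe3c88325f6e47e2ad3b39fc7ab5145fe49aceff11ae378ffa63d4f7b4e674a96a19b6c7c6b092f335adc9b2c3c8772b943f7875368939bc0b8b50cf6c44de4ca99f0cefe4487d1f9787cb29e13cc8a1e0cfac34955454356c6f4f35b0bd996a5c0abd32adc5136042a006447dac66c35023879a7a55c0a670a3c2600f9e16bbfde0d3e4a11272d90ba80ec7f90b795661172d8352688dedb6d359e1dd5aef0c9cf43e49f89bbd3db8f4c17553c51559d3d157f0004354b9574752c7f85c7668e4bc9bec2024554a7ee7a3601f286839d9c7179c8b8330f46aafd9318c9aaa3ec9a22f8d7f7e7fc2e62624bf95744f0d5e88855ac3d)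
def V_b : ℕ := (nat_lit 0x117f30f75cecca8597ce2044a810143fa5e00e135a6cea7c722b0eb671d57b635b2f7374c21b5b6ba17d6c565d68c17ffa7193bbf8f80923a46b6dba7e5d202709d816a5f8cb79ebd0b87b3119b07bee5a55436685441cf56db54c47b7a6a0f0e33ea35809061bbcf8fd23220dc1db3767978accb18f51235d174472fc9c5220db47ba4735ea092626fc43334bdf2fd4f8a4755f482718b85cb9abecbf1c59ca746f88bc89cf07f407efecef0873706979a1227b259ff5214a4a23b5b9845965ff00fce1ca2d1d361f7191f45595cbbcbc9863a77c72924d6e6421957b67aff3b5a566790beff4b13aae7ed0d1c2b4b78676fc6d06b147c0cc48a53e4e84a10c2fb28907f1931b148e2216838454f4a827eeb8898b15a3c9c6ac0d21a296ed4cb97dc63bac5e3052a86105dcdce55240293a846a91ea8cc1bfa6e881e49bfbff1c409f66a9e340778f80e20ff02d71a6b328d14b77a737a8be879dbe998d8430d0ace46054a29a997dfb51b770224ef4244916491c4d8723e3a8700ccb3fce3f6e315abef87d5facb5875c6325828dce27a057a8027feb5469e93c17d7794d80fd66edf365274b37aad8bc439e2a1bed11)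
def V_c : ℕ := (nat_lit 0xa817392a5dca948dea00518bb3265b0a102140aba6a841cbaa4ca274613e72866d0375663a0861e0d0cdc83be7aa8c388abddb40d6d3fdf09701d2e72dcdb2e2e9432f795b4d7f650b6841158033f298f8208085f7835062fd62216757590af7ce235c882f74918e074c2d86382a95c4825b9fae9c0393b77a6c338eda018c7abf79156cca31069bb18bb84340875f1d0b08687225cd30706ceeaa496f6ec87b98d0d8446bc3db3da3e4ed370a1409265393bbb4e1f5e3498923831c809a3e8aa5cbeafe5adce0a24c925daa53b379f33520356caef9ec4428ae9649f2f5e1559d229f9485e5ba678a989803c1e2dd465321394d60d9750eb8eeb52ae67a46703446f80fbe2aa0818a5f443f735478ee31e89616582bbe1cb7d15d9be764d8e5f6ee693189a90b36b73fbe4dc431d3f6dd22cbaaa162be258cbdc490c20ba53fe43f46d2c338ca62b85a6f151f9e9d1a4c422a0c6a665af5a8cb5a88c09e2c7142fbb8d1534c1bb145d55f8031bea24a03ae9f312dcba7f9a5245c676b5cdbc387480f6b1841deb08ff984a74e2a4105a04b5b31075eab7b8b6a9d36877017a0a507c44ae9bd57ada1256459a252a1397)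
def V_d : ℕ := (nat_lit 0x261f0c5131d1dc2a626d13f5bbf24ea46fb37296f1ab99332ba5f557c6bf1d2017eb9919404365fb43d487f8ca5b3614981253d0460c72eebad518be6b076776393cfec980eda5d0f3a03aa34aaf88d9d2f8db12bd5af2046b1c27ea2d05988179dd983b5bbf527ccf89b95566c1b178c54dc41100bec2ec3f47c3cd4a8432a8497b7f8d2d29b8ec2544b1cfd532e28d2db1ab2859308751a75ee63792908e3b0ec6d2e37d778081ac60a96991d45b4331ba082a7c34b5df8464c1bd693a9fa230f43ff3ef85ef9733317067f4ead50908d9fda5824d43a0bcdb098dcaf483d30f9183d54951c911312a46f98a56a6088acc41904bfbf2b0126b242d11c39bd87c81f0d19b5cec000d7c24d6810c472a22c8fa47c53a5893fbf4733b7db5a80211b6f4b33faf7f3f7ee8bb128b57e19de354dc086271b7195089d67634afd9ffeca614d22c36966e901ba901a7b382d531203e23ee981e65d34a3f52b2410e457c741ee38f8a6ac1f2980bf5cad20fd64f0c7371cafa1b4c1ea360e10382d97a6efb7a04fbb0c62c0b963a3eb269b8d432e437840b0fd20b40001d0218617e853a3c3562fa528952d316f246f7d9f4723)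
def V_e : ℕ := (nat_lit 0x289ef7da8a891161e8f96b4b3b356644c7580f5162d1e8cb398c242930aa82dfb5f06e1c26f45167dd6eb704800d8faee75cde44d1a0e804cc9d78b87cfef0635da211fcdcddcaf6b4ef3b85a590ebca5fcb6c805f1eebb158e1cb9f68cd73a89dd809736e036c046e0d59a5785e8014216d18c42a609e5322888d2bff78d710fe019276a08cc1e05b5220172b6a2108e2d6e02231ff1a0c20108bd39442c1345ad35291fdc2e3daf0a1094598a9d805bb7164037793de05cdd8811d097ed344a8cca2a3515ba9a65d3fef6200255a06b28e9ecad8a381eed9fb7cf06345221e0d3230e08fbbbb9a060111a014155f05720f103bc37ece9510498ab6a9e3f674fca6200b8adbbefed1163c54e7296d72b90e87f62a00e7ccefe982ef377f5c1d233bc70d9797afe10647f391eec042f68530e12f773fefb4c01896292c9a06f3ee4c953a5c359d5c0e003a66896bed3a19cf4eecd1c88c8845ccf341b8ea3bb7c0bc1f071b735986e680b83b1d4bed1e74e06927db6819a31c8c99b9b505cda86e1788fa6424c2ffb6058ba5005e7dc0f6352fa3862a2272cf68bcc64439e57dc0e1a2022956dc5e9639d8c123ffc1428)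
def PP : ℕ := (nat_lit 0x1108fff3efa8e007d4eca35d72e3cb734b301f47e6ef4363f8e817eb7f35ac65ee6f07ccd00f6f7862564fd6e4ea25d57b75c9ee8a03c5d058a92d0c4d39be2a630c51b9e6233d87e41bcc4aa9a4e0d7ec3a9d94588862b4a2baa9dc02af2990f496acbddd47f64c98d119552987b4aa0c03c2745c7aabfd0f3c950aa2210e7606ebbf4eb56483004840a2fb4a962e46aed5850d894ee2273191d8242fbc3ad2b4041bd9afaf4772fed8ccb593db8332e8ce147159168bfe64635df8c6a371a3396da4b0306cfb185caae253d3e2f8cb08901442085447602e77929651887905664f8aecec473780e10a649be77a333fef7005a8dd7fcdbe755b110acebeb87c672e7d89698122905403df0b9463b106bf30ec844366d3f782f099205cc429440d880e810a9ad16d05d6a7d5f24a7c680722392e55db37c53394963d34fcd3b9433d852fbee1e6accd833b1b1883ee7cca0f32ce2b9e0ab0fe5f072e4ef547bb49eb26aea242ee5cf2236a6664b016ed081a29a070735c523f4b0c13fc976d9544189ea457d6bb7a1b43dcecbc65cab7aff62c4f1513840ceb082a2f8472795dcd7c34b7af1c4d88f97219e8ee588c6069)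
def DD : ℕ := (nat_lit 0x21f103fef7db52b2526618fa86655f0e8992f525b2deda26ed757d5cadc6902fe2e94c39c8421bacac3225ac38d91c698c1bf99c960813f6ec1df36c8d8342f63d66aa173160d6fdcf54805ef2ea2b1f631cbc697ec74b2432bd07ff43f720a8adde42236a1ce797bb358b09bc4d03646f4bccc67fc8adaaa57f0755da330a3e75535c7703cfb5345832deefd6064cb78345a07b9ef5fd139f12336ec57a4ca3e5cd6730003c9544a1744c2642733429add925ac75145686b80d8fb07c61af40eae20c5b41ce3497e877f00deb68e4e65bbe971c7bf94203fb6c9fc93bd45a549d82f3e6ef56d2585a1f2ccfbca748550320ed1f1f6954ed7807aab636b9e5c953325758a997190deb003b0979ed82b3022dc1c4d69bbecad02b79e9cc7aab6e9e10e86fd7e7962270cf3155ef2a6230fbc710045e368ffde8c99873b05a8f6ddc02d14493d17de4d8612ff023578994b91820595e735858438e569dd5be889f9f5ce61b0e375200462bc1bc45797f4816b60fe388116aaaeec64fcbf6f6f478279a05769eeb041d69b82f6e54b312cac451510a97a4446cf30e6bf23e50541436b05533dcdd3047372541f4f2782505c)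
noncomputable def stp : Col → ℕ → ℕ := fun c q => Nat.add (Nat.mod (Col.rec (motive := fun _ => ℕ) T_a T_b T_c T_d T_e c) q) (nat_lit 4096)
noncomputable def tau : Col → ℕ → ℕ := fun c q => (Nat.mod (Col.rec (motive := fun _ => ℕ) U_a U_b U_c U_d U_e c) q)
noncomputable def del : Col → ℕ → ℕ := fun c q => (Nat.mod (Col.rec (motive := fun _ => ℕ) V_a V_b V_c V_d V_e c) q)
noncomputable def PT : ℕ → ℕ := fun q => Nat.add (Nat.mod PP q) (nat_lit 4096)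
noncomputable def DT : ℕ → ℕ := fun q => (Nat.mod DD q)
noncomputable def L_0 : Tr ℕ := (Tr.nd (nat_lit 5323) (Tr.nd (nat_lit 4703) (Tr.nd (nat_lit 4409) (Tr.nd (nat_lit 4243) (Tr.nd (nat_lit 4159) (Tr.nd (nat_lit 4133) (Tr.nd (nat_lit 4127) (Tr.nd (nat_lit 4111) (Tr.lf (nat_lit 4099)) (Tr.lf (nat_lit 4111))) (Tr.nd (nat_lit 4129) (Tr.lf (nat_lit 4127)) (Tr.lf (nat_lit 4129)))) (Tr.nd (nat_lit 4153) (Tr.nd (nat_lit 4139) (Tr.lf (nat_lit 4133)) (Tr.lf (nat_lit 4139))) (Tr.nd (nat_lit 4157) (Tr.lf (nat_lit 4153)) (Tr.lf (nat_lit 4157))))) (Tr.nd (nat_lit 4217) (Tr.nd (nat_lit 4201) (Tr.nd (nat_lit 4177) (Tr.lf (nat_lit 4159)) (Tr.lf (nat_lit 4177))) (Tr.nd (nat_lit 4211) (Tr.lf (nat_lit 4201)) (Tr.lf (nat_lit 4211)))) (Tr.nd (nat_lit 4229) (Tr.nd (nat_lit 4219) (Tr.lf (nat_lit 4217)) (Tr.lf (nat_lit 4219))) (Tr.nd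 (nat_lit 4231) (Tr.lf (nat_lit 4229)) (Tr.nd (nat_lit 4241) (Tr.lf (nat_lit 4231)) (Tr.lf (nat_lit 4241))))))) (Tr.nd (nat_lit 4327) (Tr.nd (nat_lit 4271) (Tr.nd (nat_lit 4259) (Tr.nd (nat_lit 4253) (Tr.lf (nat_lit 4243)) (Tr.lf (nat_lit 4253))) (Tr.nd (nat_lit 4261) (Tr.lf (nat_lit 4259)) (Tr.lf (nat_lit 4261)))) (Tr.nd (nat_lit 4283) (Tr.nd (nat_lit 4273) (Tr.lf (nat_lit 4271)) (Tr.lf (nat_lit 4273))) (Tr.nd (nat_lit 4289) (Tr.lf (nat_lit 4283)) (Tr.nd (nat_lit 4297) (Tr.lf (nat_lit 4289)) (Tr.lf (nat_lit 4297)))))) (Tr.nd (nat_lit 4357) (Tr.nd (nat_lit 4339) (Tr.nd (nat_lit 4337) (Tr.lf (nat_lit 4327)) (Tr.lf (nat_lit 4337))) (Tr.nd (nat_lit 4349) (Tr.lf (nat_lit 4339)) (Tr.lf (nat_lit 4349)))) (Tr.nd (nat_lit 4373) (Tr.nd (nat_lit 4363) (Tr.lf (nat_lit 4357)) (Tr.lf (nat_lit 4363))) (Tr.nd (nat_lit 4391) (Tr.lf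 (nat_lit 4373)) (Tr.nd (nat_lit 4397) (Tr.lf (nat_lit 4391)) (Tr.lf (nat_lit 4397)))))))) (Tr.nd (nat_lit 4549) (Tr.nd (nat_lit 4481) (Tr.nd (nat_lit 4447) (Tr.nd (nat_lit 4423) (Tr.nd (nat_lit 4421) (Tr.lf (nat_lit 4409)) (Tr.lf (nat_lit 4421))) (Tr.nd (nat_lit 4441) (Tr.lf (nat_lit 4423)) (Tr.lf (nat_lit 4441)))) (Tr.nd (nat_lit 4457) (Tr.nd (nat_lit 4451) (Tr.lf (nat_lit 4447)) (Tr.lf (nat_lit 4451))) (Tr.nd (nat_lit 4463) (Tr.lf (nat_lit 4457)) (Tr.lf (nat_lit 4463))))) (Tr.nd (nat_lit 4513) (Tr.nd (nat_lit 4493) (Tr.nd (nat_lit 4483) (Tr.lf (nat_lit 4481)) (Tr.lf (nat_lit 4483))) (Tr.nd (nat_lit 4507) (Tr.lf (nat_lit 4493)) (Tr.lf (nat_lit 4507)))) (Tr.nd (nat_lit 4519) (Tr.nd (nat_lit 4517) (Tr.lf (nat_lit 4513)) (Tr.lf (nat_lit 4517))) (Tr.nd (nat_lit 4523) (Tr.lf (nat_lit 4519)) (Tr.nd (nat_lit 4547) (Tr.lf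 (nat_lit 4523)) (Tr.lf (nat_lit 4547))))))) (Tr.nd (nat_lit 4639) (Tr.nd (nat_lit 4591) (Tr.nd (nat_lit 4567) (Tr.nd (nat_lit 4561) (Tr.lf (nat_lit 4549)) (Tr.lf (nat_lit 4561))) (Tr.nd (nat_lit 4583) (Tr.lf (nat_lit 4567)) (Tr.lf (nat_lit 4583)))) (Tr.nd (nat_lit 4603) (Tr.nd (nat_lit 4597) (Tr.lf (nat_lit 4591)) (Tr.lf (nat_lit 4597))) (Tr.nd (nat_lit 4621) (Tr.lf (nat_lit 4603)) (Tr.nd (nat_lit 4637) (Tr.lf (nat_lit 4621)) (Tr.lf (nat_lit 4637)))))) (Tr.nd (nat_lit 4657) (Tr.nd (nat_lit 4649) (Tr.nd (nat_lit 4643) (Tr.lf (nat_lit 4639)) (Tr.lf (nat_lit 4643))) (Tr.nd (nat_lit 4651) (Tr.lf (nat_lit 4649)) (Tr.lf (nat_lit 4651)))) (Tr.nd (nat_lit 4673) (Tr.nd (nat_lit 4663) (Tr.lf (nat_lit 4657)) (Tr.lf (nat_lit 4663))) (Tr.nd (nat_lit 4679) (Tr.lf (nat_lit 4673)) (Tr.nd (nat_lit 4691) (Tr.lf (nat_lit 4679)) (Tr.lf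 (nat_lit 4691))))))))) (Tr.nd (nat_lit 5003) (Tr.nd (nat_lit 4871) (Tr.nd (nat_lit 4787) (Tr.nd (nat_lit 4733) (Tr.nd (nat_lit 4723) (Tr.nd (nat_lit 4721) (Tr.lf (nat_lit 4703)) (Tr.lf (nat_lit 4721))) (Tr.nd (nat_lit 4729) (Tr.lf (nat_lit 4723)) (Tr.lf (nat_lit 4729)))) (Tr.nd (nat_lit 4759) (Tr.nd (nat_lit 4751) (Tr.lf (nat_lit 4733)) (Tr.lf (nat_lit 4751))) (Tr.nd (nat_lit 4783) (Tr.lf (nat_lit 4759)) (Tr.lf (nat_lit 4783))))) (Tr.nd (nat_lit 4801) (Tr.nd (nat_lit 4793) (Tr.nd (nat_lit 4789) (Tr.lf (nat_lit 4787)) (Tr.lf (nat_lit 4789))) (Tr.nd (nat_lit 4799) (Tr.lf (nat_lit 4793)) (Tr.lf (nat_lit 4799)))) (Tr.nd (nat_lit 4817) (Tr.nd (nat_lit 4813) (Tr.lf (nat_lit 4801)) (Tr.lf (nat_lit 4813))) (Tr.nd (nat_lit 4831) (Tr.lf (nat_lit 4817)) (Tr.nd (nat_lit 4861) (Tr.lf (nat_lit 4831)) (Tr.lf (nat_lit 4861)))))))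 (Tr.nd (nat_lit 4943) (Tr.nd (nat_lit 4909) (Tr.nd (nat_lit 4889) (Tr.nd (nat_lit 4877) (Tr.lf (nat_lit 4871)) (Tr.lf (nat_lit 4877))) (Tr.nd (nat_lit 4903) (Tr.lf (nat_lit 4889)) (Tr.lf (nat_lit 4903)))) (Tr.nd (nat_lit 4931) (Tr.nd (nat_lit 4919) (Tr.lf (nat_lit 4909)) (Tr.lf (nat_lit 4919))) (Tr.nd (nat_lit 4933) (Tr.lf (nat_lit 4931)) (Tr.nd (nat_lit 4937) (Tr.lf (nat_lit 4933)) (Tr.lf (nat_lit 4937)))))) (Tr.nd (nat_lit 4969) (Tr.nd (nat_lit 4957) (Tr.nd (nat_lit 4951) (Tr.lf (nat_lit 4943)) (Tr.lf (nat_lit 4951))) (Tr.nd (nat_lit 4967) (Tr.lf (nat_lit 4957)) (Tr.lf (nat_lit 4967)))) (Tr.nd (nat_lit 4987) (Tr.nd (nat_lit 4973) (Tr.lf (nat_lit 4969)) (Tr.lf (nat_lit 4973))) (Tr.nd (nat_lit 4993) (Tr.lf (nat_lit 4987)) (Tr.nd (nat_lit 4999) (Tr.lf (nat_lit 4993)) (Tr.lf (nat_lit 4999)))))))) (Tr.nd (nat_lit 5153)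 (Tr.nd (nat_lit 5077) (Tr.nd (nat_lit 5023) (Tr.nd (nat_lit 5011) (Tr.nd (nat_lit 5009) (Tr.lf (nat_lit 5003)) (Tr.lf (nat_lit 5009))) (Tr.nd (nat_lit 5021) (Tr.lf (nat_lit 5011)) (Tr.lf (nat_lit 5021)))) (Tr.nd (nat_lit 5051) (Tr.nd (nat_lit 5039) (Tr.lf (nat_lit 5023)) (Tr.lf (nat_lit 5039))) (Tr.nd (nat_lit 5059) (Tr.lf (nat_lit 5051)) (Tr.lf (nat_lit 5059))))) (Tr.nd (nat_lit 5101) (Tr.nd (nat_lit 5087) (Tr.nd (nat_lit 5081) (Tr.lf (nat_lit 5077)) (Tr.lf (nat_lit 5081))) (Tr.nd (nat_lit 5099) (Tr.lf (nat_lit 5087)) (Tr.lf (nat_lit 5099)))) (Tr.nd (nat_lit 5113) (Tr.nd (nat_lit 5107) (Tr.lf (nat_lit 5101)) (Tr.lf (nat_lit 5107))) (Tr.nd (nat_lit 5119) (Tr.lf (nat_lit 5113)) (Tr.nd (nat_lit 5147) (Tr.lf (nat_lit 5119)) (Tr.lf (nat_lit 5147))))))) (Tr.nd (nat_lit 5233) (Tr.nd (nat_lit 5189) (Tr.nd (nat_lit 5171)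 (Tr.nd (nat_lit 5167) (Tr.lf (nat_lit 5153)) (Tr.lf (nat_lit 5167))) (Tr.nd (nat_lit 5179) (Tr.lf (nat_lit 5171)) (Tr.lf (nat_lit 5179)))) (Tr.nd (nat_lit 5209) (Tr.nd (nat_lit 5197) (Tr.lf (nat_lit 5189)) (Tr.lf (nat_lit 5197))) (Tr.nd (nat_lit 5227) (Tr.lf (nat_lit 5209)) (Tr.nd (nat_lit 5231) (Tr.lf (nat_lit 5227)) (Tr.lf (nat_lit 5231)))))) (Tr.nd (nat_lit 5279) (Tr.nd (nat_lit 5261) (Tr.nd (nat_lit 5237) (Tr.lf (nat_lit 5233)) (Tr.lf (nat_lit 5237))) (Tr.nd (nat_lit 5273) (Tr.lf (nat_lit 5261)) (Tr.lf (nat_lit 5273)))) (Tr.nd (nat_lit 5297) (Tr.nd (nat_lit 5281) (Tr.lf (nat_lit 5279)) (Tr.lf (nat_lit 5281))) (Tr.nd (nat_lit 5303) (Tr.lf (nat_lit 5297)) (Tr.nd (nat_lit 5309) (Tr.lf (nat_lit 5303)) (Tr.lf (nat_lit 5309)))))))))) (Tr.nd (nat_lit 5881) (Tr.nd (nat_lit 5639) (Tr.nd (nat_lit 5471) (Tr.nd (nat_lit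 5407) (Tr.nd (nat_lit 5381) (Tr.nd (nat_lit 5347) (Tr.nd (nat_lit 5333) (Tr.lf (nat_lit 5323)) (Tr.lf (nat_lit 5333))) (Tr.nd (nat_lit 5351) (Tr.lf (nat_lit 5347)) (Tr.lf (nat_lit 5351)))) (Tr.nd (nat_lit 5393) (Tr.nd (nat_lit 5387) (Tr.lf (nat_lit 5381)) (Tr.lf (nat_lit 5387))) (Tr.nd (nat_lit 5399) (Tr.lf (nat_lit 5393)) (Tr.lf (nat_lit 5399))))) (Tr.nd (nat_lit 5431) (Tr.nd (nat_lit 5417) (Tr.nd (nat_lit 5413) (Tr.lf (nat_lit 5407)) (Tr.lf (nat_lit 5413))) (Tr.nd (nat_lit 5419) (Tr.lf (nat_lit 5417)) (Tr.lf (nat_lit 5419)))) (Tr.nd (nat_lit 5441) (Tr.nd (nat_lit 5437) (Tr.lf (nat_lit 5431)) (Tr.lf (nat_lit 5437))) (Tr.nd (nat_lit 5443) (Tr.lf (nat_lit 5441)) (Tr.nd (nat_lit 5449) (Tr.lf (nat_lit 5443)) (Tr.lf (nat_lit 5449))))))) (Tr.nd (nat_lit 5527) (Tr.nd (nat_lit 5501) (Tr.nd (nat_lit 5479) (Tr.nd (nat_lit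 5477) (Tr.lf (nat_lit 5471)) (Tr.lf (nat_lit 5477))) (Tr.nd (nat_lit 5483) (Tr.lf (nat_lit 5479)) (Tr.lf (nat_lit 5483)))) (Tr.nd (nat_lit 5507) (Tr.nd (nat_lit 5503) (Tr.lf (nat_lit 5501)) (Tr.lf (nat_lit 5503))) (Tr.nd (nat_lit 5519) (Tr.lf (nat_lit 5507)) (Tr.nd (nat_lit 5521) (Tr.lf (nat_lit 5519)) (Tr.lf (nat_lit 5521)))))) (Tr.nd (nat_lit 5569) (Tr.nd (nat_lit 5557) (Tr.nd (nat_lit 5531) (Tr.lf (nat_lit 5527)) (Tr.lf (nat_lit 5531))) (Tr.nd (nat_lit 5563) (Tr.lf (nat_lit 5557)) (Tr.lf (nat_lit 5563)))) (Tr.nd (nat_lit 5581) (Tr.nd (nat_lit 5573) (Tr.lf (nat_lit 5569)) (Tr.lf (nat_lit 5573))) (Tr.nd (nat_lit 5591) (Tr.lf (nat_lit 5581)) (Tr.nd (nat_lit 5623) (Tr.lf (nat_lit 5591)) (Tr.lf (nat_lit 5623)))))))) (Tr.nd (nat_lit 5749) (Tr.nd (nat_lit 5683) (Tr.nd (nat_lit 5653) (Tr.nd (nat_lit 5647) (Tr.nd (nat_lit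 5641) (Tr.lf (nat_lit 5639)) (Tr.lf (nat_lit 5641))) (Tr.nd (nat_lit 5651) (Tr.lf (nat_lit 5647)) (Tr.lf (nat_lit 5651)))) (Tr.nd (nat_lit 5659) (Tr.nd (nat_lit 5657) (Tr.lf (nat_lit 5653)) (Tr.lf (nat_lit 5657))) (Tr.nd (nat_lit 5669) (Tr.lf (nat_lit 5659)) (Tr.lf (nat_lit 5669))))) (Tr.nd (nat_lit 5711) (Tr.nd (nat_lit 5693) (Tr.nd (nat_lit 5689) (Tr.lf (nat_lit 5683)) (Tr.lf (nat_lit 5689))) (Tr.nd (nat_lit 5701) (Tr.lf (nat_lit 5693)) (Tr.lf (nat_lit 5701)))) (Tr.nd (nat_lit 5737) (Tr.nd (nat_lit 5717) (Tr.lf (nat_lit 5711)) (Tr.lf (nat_lit 5717))) (Tr.nd (nat_lit 5741) (Tr.lf (nat_lit 5737)) (Tr.nd (nat_lit 5743) (Tr.lf (nat_lit 5741)) (Tr.lf (nat_lit 5743))))))) (Tr.nd (nat_lit 5839) (Tr.nd (nat_lit 5801) (Tr.nd (nat_lit 5783) (Tr.nd (nat_lit 5779) (Tr.lf (nat_lit 5749)) (Tr.lf (nat_lit 5779))) (Tr.nd (nat_lit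 5791) (Tr.lf (nat_lit 5783)) (Tr.lf (nat_lit 5791)))) (Tr.nd (nat_lit 5813) (Tr.nd (nat_lit 5807) (Tr.lf (nat_lit 5801)) (Tr.lf (nat_lit 5807))) (Tr.nd (nat_lit 5821) (Tr.lf (nat_lit 5813)) (Tr.nd (nat_lit 5827) (Tr.lf (nat_lit 5821)) (Tr.lf (nat_lit 5827)))))) (Tr.nd (nat_lit 5857) (Tr.nd (nat_lit 5849) (Tr.nd (nat_lit 5843) (Tr.lf (nat_lit 5839)) (Tr.lf (nat_lit 5843))) (Tr.nd (nat_lit 5851) (Tr.lf (nat_lit 5849)) (Tr.lf (nat_lit 5851)))) (Tr.nd (nat_lit 5867) (Tr.nd (nat_lit 5861) (Tr.lf (nat_lit 5857)) (Tr.lf (nat_lit 5861))) (Tr.nd (nat_lit 5869) (Tr.lf (nat_lit 5867)) (Tr.nd (nat_lit 5879) (Tr.lf (nat_lit 5869)) (Tr.lf (nat_lit 5879))))))))) (Tr.nd (nat_lit 6221) (Tr.nd (nat_lit 6073) (Tr.nd (nat_lit 5987) (Tr.nd (nat_lit 5927) (Tr.nd (nat_lit 5903) (Tr.nd (nat_lit 5897) (Tr.lf (nat_lit 5881)) (Tr.lf (nat_lit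 5897))) (Tr.nd (nat_lit 5923) (Tr.lf (nat_lit 5903)) (Tr.lf (nat_lit 5923)))) (Tr.nd (nat_lit 5953) (Tr.nd (nat_lit 5939) (Tr.lf (nat_lit 5927)) (Tr.lf (nat_lit 5939))) (Tr.nd (nat_lit 5981) (Tr.lf (nat_lit 5953)) (Tr.lf (nat_lit 5981))))) (Tr.nd (nat_lit 6037) (Tr.nd (nat_lit 6011) (Tr.nd (nat_lit 6007) (Tr.lf (nat_lit 5987)) (Tr.lf (nat_lit 6007))) (Tr.nd (nat_lit 6029) (Tr.lf (nat_lit 6011)) (Tr.lf (nat_lit 6029)))) (Tr.nd (nat_lit 6047) (Tr.nd (nat_lit 6043) (Tr.lf (nat_lit 6037)) (Tr.lf (nat_lit 6043))) (Tr.nd (nat_lit 6053) (Tr.lf (nat_lit 6047)) (Tr.nd (nat_lit 6067) (Tr.lf (nat_lit 6053)) (Tr.lf (nat_lit 6067))))))) (Tr.nd (nat_lit 6143) (Tr.nd (nat_lit 6101) (Tr.nd (nat_lit 6089) (Tr.nd (nat_lit 6079) (Tr.lf (nat_lit 6073)) (Tr.lf (nat_lit 6079))) (Tr.nd (nat_lit 6091) (Tr.lf (nat_lit 6089)) (Tr.lf (nat_lit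 6091)))) (Tr.nd (nat_lit 6121) (Tr.nd (nat_lit 6113) (Tr.lf (nat_lit 6101)) (Tr.lf (nat_lit 6113))) (Tr.nd (nat_lit 6131) (Tr.lf (nat_lit 6121)) (Tr.nd (nat_lit 6133) (Tr.lf (nat_lit 6131)) (Tr.lf (nat_lit 6133)))))) (Tr.nd (nat_lit 6197) (Tr.nd (nat_lit 6163) (Tr.nd (nat_lit 6151) (Tr.lf (nat_lit 6143)) (Tr.lf (nat_lit 6151))) (Tr.nd (nat_lit 6173) (Tr.lf (nat_lit 6163)) (Tr.lf (nat_lit 6173)))) (Tr.nd (nat_lit 6203) (Tr.nd (nat_lit 6199) (Tr.lf (nat_lit 6197)) (Tr.lf (nat_lit 6199))) (Tr.nd (nat_lit 6211) (Tr.lf (nat_lit 6203)) (Tr.nd (nat_lit 6217) (Tr.lf (nat_lit 6211)) (Tr.lf (nat_lit 6217)))))))) (Tr.nd (nat_lit 6353) (Tr.nd (nat_lit 6287) (Tr.nd (nat_lit 6263) (Tr.nd (nat_lit 6247) (Tr.nd (nat_lit 6229) (Tr.lf (nat_lit 6221)) (Tr.lf (nat_lit 6229))) (Tr.nd (nat_lit 6257) (Tr.lf (nat_lit 6247)) (Tr.lf (nat_lit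 6257)))) (Tr.nd (nat_lit 6271) (Tr.nd (nat_lit 6269) (Tr.lf (nat_lit 6263)) (Tr.lf (nat_lit 6269))) (Tr.nd (nat_lit 6277) (Tr.lf (nat_lit 6271)) (Tr.lf (nat_lit 6277))))) (Tr.nd (nat_lit 6317) (Tr.nd (nat_lit 6301) (Tr.nd (nat_lit 6299) (Tr.lf (nat_lit 6287)) (Tr.lf (nat_lit 6299))) (Tr.nd (nat_lit 6311) (Tr.lf (nat_lit 6301)) (Tr.lf (nat_lit 6311)))) (Tr.nd (nat_lit 6329) (Tr.nd (nat_lit 6323) (Tr.lf (nat_lit 6317)) (Tr.lf (nat_lit 6323))) (Tr.nd (nat_lit 6337) (Tr.lf (nat_lit 6329)) (Tr.nd (nat_lit 6343) (Tr.lf (nat_lit 6337)) (Tr.lf (nat_lit 6343))))))) (Tr.nd (nat_lit 6427) (Tr.nd (nat_lit 6373) (Tr.nd (nat_lit 6361) (Tr.nd (nat_lit 6359) (Tr.lf (nat_lit 6353)) (Tr.lf (nat_lit 6359))) (Tr.nd (nat_lit 6367) (Tr.lf (nat_lit 6361)) (Tr.lf (nat_lit 6367)))) (Tr.nd (nat_lit 6389) (Tr.nd (nat_lit 6379) (Tr.lf (nat_lit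 6373)) (Tr.lf (nat_lit 6379))) (Tr.nd (nat_lit 6397) (Tr.lf (nat_lit 6389)) (Tr.nd (nat_lit 6421) (Tr.lf (nat_lit 6397)) (Tr.lf (nat_lit 6421)))))) (Tr.nd (nat_lit 6473) (Tr.nd (nat_lit 6451) (Tr.nd (nat_lit 6449) (Tr.lf (nat_lit 6427)) (Tr.lf (nat_lit 6449))) (Tr.nd (nat_lit 6469) (Tr.lf (nat_lit 6451)) (Tr.lf (nat_lit 6469)))) (Tr.nd (nat_lit 6491) (Tr.nd (nat_lit 6481) (Tr.lf (nat_lit 6473)) (Tr.lf (nat_lit 6481))) (Tr.nd (nat_lit 6521) (Tr.lf (nat_lit 6491)) (Tr.nd (nat_lit 6529) (Tr.lf (nat_lit 6521)) (Tr.lf (nat_lit 6529)))))))))))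
noncomputable def L : Tr ℕ := L_0
noncomputable def A : Tr (Alt Col) := (Tr.nd (nat_lit 18) (Tr.nd (nat_lit 9) (Tr.nd (nat_lit 4) (Tr.nd (nat_lit 2) (Tr.nd (nat_lit 1) (Tr.lf Alt.tree) (Tr.lf (Alt.word (nat_lit 14) (nat_lit 0) true [Col.e, Col.e]))) (Tr.nd (nat_lit 3) (Tr.lf (Alt.word (nat_lit 12) (nat_lit 0) true [Col.d, Col.d])) (Tr.lf (Alt.word (nat_lit 9) (nat_lit 0) true [Col.c, Col.c])))) (Tr.nd (nat_lit 6) (Tr.nd (nat_lit 5) (Tr.lf (Alt.word (nat_lit 5) (nat_lit 0) true [Col.b, Col.b])) (Tr.lf (Alt.word (nat_lit 0) (nat_lit 0) true [Col.a, Col.a]))) (Tr.nd (nat_lit 7) (Tr.lf (Alt.word (nat_lit 7) (nat_lit 1) true [Col.b, Col.d, Col.b, Col.d])) (Tr.nd (nat_lit 8) (Tr.lf (Alt.word (nat_lit 3) (nat_lit 1) true [Col.a, Col.d, Col.a, Col.d])) (Tr.lf (Alt.word (nat_lit 4) (nat_lit 0) true [Col.e, Col.a, Col.e, Col.a]))))))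 (Tr.nd (nat_lit 13) (Tr.nd (nat_lit 11) (Tr.nd (nat_lit 10) (Tr.lf (Alt.word (nat_lit 8) (nat_lit 0) true [Col.e, Col.b, Col.e, Col.b])) (Tr.lf (Alt.word (nat_lit 8) (nat_lit 1) true [Col.b, Col.e, Col.b, Col.e]))) (Tr.nd (nat_lit 12) (Tr.lf (Alt.word (nat_lit 2) (nat_lit 1) true [Col.a, Col.c, Col.a, Col.c])) (Tr.lf (Alt.word (nat_lit 11) (nat_lit 1) true [Col.c, Col.e, Col.c, Col.e])))) (Tr.nd (nat_lit 15) (Tr.nd (nat_lit 14) (Tr.lf (Alt.word (nat_lit 2) (nat_lit 0) true [Col.c, Col.a, Col.c, Col.a])) (Tr.lf (Alt.word (nat_lit 4) (nat_lit 1) true [Col.a, Col.e, Col.a, Col.e]))) (Tr.nd (nat_lit 16) (Tr.lf (Alt.word (nat_lit 6) (nat_lit 0) true [Col.c, Col.b, Col.c, Col.b, Col.c, Col.b])) (Tr.nd (nat_lit 17) (Tr.lf (Alt.word (nat_lit 3) (nat_lit 0) true [Col.d, Col.a, Col.d, Col.a])) (Tr.lf (Alt.word (nat_lit 7)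 (nat_lit 0) true [Col.d, Col.b, Col.d, Col.b]))))))) (Tr.nd (nat_lit 27) (Tr.nd (nat_lit 22) (Tr.nd (nat_lit 20) (Tr.nd (nat_lit 19) (Tr.lf (Alt.word (nat_lit 15) (nat_lit 0) true [Col.c, Col.d, Col.c, Col.d, Col.c, Col.d, Col.c, Col.d, Col.a])) (Tr.lf (Alt.word (nat_lit 6) (nat_lit 1) true [Col.b, Col.c, Col.b, Col.c, Col.b, Col.c]))) (Tr.nd (nat_lit 21) (Tr.lf (Alt.word (nat_lit 11) (nat_lit 0) true [Col.e, Col.c, Col.e, Col.c])) (Tr.lf (Alt.word (nat_lit 13) (nat_lit 0) true [Col.e, Col.d, Col.e, Col.d, Col.e, Col.d])))) (Tr.nd (nat_lit 24) (Tr.nd (nat_lit 23) (Tr.lf (Alt.word (nat_lit 15) (nat_lit 1) true [Col.d, Col.c, Col.d, Col.c, Col.d, Col.c, Col.d, Col.a, Col.c])) (Tr.lf (Alt.word (nat_lit 13) (nat_lit 1) true [Col.d, Col.e, Col.d, Col.e, Col.d, Col.e]))) (Tr.nd (nat_lit 25) (Tr.lf (Alt.word (nat_lit 1)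 (nat_lit 1) true [Col.a, Col.b, Col.a, Col.b, Col.a, Col.b, Col.a, Col.b, Col.a, Col.b])) (Tr.nd (nat_lit 26) (Tr.lf (Alt.word (nat_lit 1) (nat_lit 0) true [Col.b, Col.a, Col.b, Col.a, Col.b, Col.a, Col.b, Col.a, Col.b, Col.a])) (Tr.lf (Alt.word (nat_lit 15) (nat_lit 2) true [Col.c, Col.d, Col.c, Col.d, Col.c, Col.d, Col.a, Col.c, Col.d])))))) (Tr.nd (nat_lit 31) (Tr.nd (nat_lit 29) (Tr.nd (nat_lit 28) (Tr.lf (Alt.base (nat_lit 0) [] [Col.a])) (Tr.lf (Alt.base (nat_lit 1) [] [Col.b]))) (Tr.nd (nat_lit 30) (Tr.lf (Alt.base (nat_lit 2) [] [Col.c])) (Tr.lf (Alt.base (nat_lit 3) [] [Col.d])))) (Tr.nd (nat_lit 33) (Tr.nd (nat_lit 32) (Tr.lf (Alt.base (nat_lit 4) [Col.e, Col.d, Col.c, Col.b, Col.a, Col.b] [Col.c, Col.a, Col.b, Col.a, Col.b, Col.c, Col.d, Col.e])) (Tr.lf (Alt.word (nat_lit 16) (nat_lit 25) false [Col.e,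 Col.b, Col.c, Col.d, Col.c, Col.d, Col.b, Col.c, Col.d, Col.c, Col.d, Col.b, Col.c, Col.d, Col.c, Col.d, Col.b, Col.c, Col.d, Col.c, Col.d, Col.b, Col.c, Col.d, Col.c, Col.d, Col.e, Col.b, Col.c, Col.d, Col.c, Col.d, Col.b, Col.c, Col.d, Col.c, Col.d, Col.b, Col.c, Col.d, Col.c, Col.d, Col.b, Col.c, Col.d, Col.c, Col.d, Col.b, Col.c, Col.d, Col.c, Col.d, Col.e, Col.b, Col.c, Col.d, Col.c, Col.d, Col.b, Col.c, Col.d, Col.c, Col.d, Col.b, Col.c, Col.d, Col.c, Col.d, Col.b, Col.c, Col.d, Col.c, Col.d, Col.b, Col.c, Col.d, Col.c, Col.d]))) (Tr.nd (nat_lit 34) (Tr.lf (Alt.word (nat_lit 16) (nat_lit 4) false [Col.d, Col.b, Col.c, Col.d, Col.c, Col.d, Col.b, Col.c, Col.d, Col.c, Col.d, Col.b, Col.c, Col.d, Col.c, Col.d, Col.b, Col.c, Col.d, Col.c, Col.d, Col.e, Col.b, Col.c, Col.d, Col.c, Col.d, Col.b, Col.c, Col.d, Col.c,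 Col.d, Col.b, Col.c, Col.d, Col.c, Col.d, Col.b, Col.c, Col.d, Col.c, Col.d, Col.b, Col.c, Col.d, Col.c, Col.d, Col.e, Col.b, Col.c, Col.d, Col.c, Col.d, Col.b, Col.c, Col.d, Col.c, Col.d, Col.b, Col.c, Col.d, Col.c, Col.d, Col.b, Col.c, Col.d, Col.c, Col.d, Col.b, Col.c, Col.d, Col.c, Col.d, Col.e, Col.b, Col.c, Col.d, Col.c])) (Tr.nd (nat_lit 35) (Tr.lf (Alt.word (nat_lit 15) (nat_lit 6) true [Col.c, Col.d, Col.a, Col.c, Col.d, Col.c, Col.d, Col.c, Col.d])) (Tr.lf (Alt.word (nat_lit 16) (nat_lit 17) true [Col.c, Col.d, Col.c, Col.b, Col.d, Col.c, Col.d, Col.c, Col.b, Col.e, Col.d, Col.c, Col.d, Col.c, Col.b, Col.d, Col.c, Col.d, Col.c, Col.b, Col.d, Col.c, Col.d, Col.c, Col.b, Col.d, Col.c, Col.d, Col.c, Col.b, Col.d, Col.c, Col.d, Col.c, Col.b, Col.e, Col.d, Col.c, Col.d, Col.c, Col.b, Col.d, Col.c, Col.d, Col.c,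 Col.b, Col.d, Col.c, Col.d, Col.c, Col.b, Col.d, Col.c, Col.d, Col.c, Col.b, Col.d, Col.c, Col.d, Col.c, Col.b, Col.e, Col.d, Col.c, Col.d, Col.c, Col.b, Col.d, Col.c, Col.d, Col.c, Col.b, Col.d, Col.c, Col.d, Col.c, Col.b, Col.d]))))))))
abbrev q0 : ℕ := nat_lit 4099
theorem alt_chk : Tr.all (altChk idx inv RW SW1) A = true := by decide +kernel
theorem bst_chk : bst L 4096 8192 = true := by decide +kernel
theorem size_L : size L = 280 := by decide +kernel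
theorem q0_mem : q0 ∈ L.toList := mem_sound (by decide +kernel)
theorem closed_chk_0 : Tr.all (closedP L stp inv cols) L_0 = true := by decide +kernel
theorem closed_chk : Tr.all (closedP L stp inv cols) L = true := closed_chk_0
theorem edge_chk_0 : Tr.all (fun q => lall (fun c => chkEdge stp tau del idx PT DT q0 A c q) cols) L_0 = true := by decide +kernel
theorem edge_chk : Tr.all (fun q => lall (fun c => chkEdge stp tau del idx PT DT q0 A c q) cols) L = true := edge_chk_0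
theorem trans_chk_0 : Tr.all (transP L stp PT q0 cols) L_0 = true := by decide +kernel
theorem trans_chk : Tr.all (transP L stp PT q0 cols) L = true := trans_chk_0
theorem closed : Closed L stp inv := Closed.of_chk hcols inv_inv closed_chk
theorem pos : ∀ q ∈ L.toList, q ≠ 0 := fun q hq h => by
  have := ((bst_sound L _ _ bst_chk).1 q hq).1
  omega
theorem nodup : L.toList.Nodup := ((bst_sound L _ _ bst_chk).2.imp (fun h => Nat.ne_of_lt h))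
theorem card_L : Nat.card (Om L) = 280 := by rw [card_Om L nodup, ← size_eq, size_L]
theorem trans : ∀ q ∈ L.toList, ∃ w : List Col, walk stp w q0 = q := trans_sound trans_chk
attribute [local irreducible] L A stp tau del PT DT
theorem closure_thm {G X : Type*} [Group G] [MulAction G X] (g : Col → G) (x0 : X) (hinv : ∀ c, g (inv c) = (g c)⁻¹)
    (hRW : ∀ w ∈ RW, gw g w = 1) (hSW : ∀ w ∈ SW0, gw g w • x0 = x0) :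
    ∃ f : ℕ → X, f q0 = x0 ∧ ∀ q ∈ L.toList, ∀ c, g c • f q = f (stp c q) := by
  have hSW1 : ∀ w ∈ SW1, gw g w • x0 = x0 := by
    have h := mini0_fix g x0 hinv hRW hSW
    intro w hw; unfold SW1 at hw; rw [List.mem_append, List.mem_singleton] at hw
    rcases hw with hw | rfl
    · exact hSW w hw
    · exact h
  have hA : ∀ a ∈ A.toList, AltOK g x0 a := fun a ha =>
    altChk_sound (idx := idx) (inv := inv) (RW := RW) (SW := SW1) g x0 dec hdec hinv hRW hSW1 ((Tr.all_iff _ _).1 alt_chk a ha)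
  exact closure_sound (L := L) (stp := stp) (tau := tau) (del := del) (idx := idx) (PT := PT) (DT := DT) (q0 := q0) (A := A) (cols := cols)
    g x0 dec hdec hcols closed.mem pos q0_mem edge_chk hA
universe u
/-- upper bound for a relative index -/
theorem rel_upper {G : Type u} [Group G] (g : Col → G) (hinv : ∀ c, g (inv c) = (g c)⁻¹)
    (hRW : ∀ w ∈ RW, gw g w = 1) (H : Subgroup G) (hSW : ∀ w ∈ SW0, gw g w ∈ H) :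
    H.relIndex (genBy g) ≠ 0 ∧ H.relIndex (genBy g) ≤ 280 := by
  rw [← size_L]
  exact relIndex_of_closure closed.mem q0_mem g hinv hRW H hSW (fun X _ x0 h1 h2 h3 => closure_thm (liftGen g) x0 h1 h2 h3)
end CfsgLib.TCSuzJ
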