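import Cfsg.Agent.EqBase
import Cfsg.Agent.LibTCGSuz
set_option autoImplicit false
set_option linter.all false
set_option maxRecDepth 1000000
set_option maxHeartbeats 0
namespace CfsgLib.TCSuzM
open CfsgLib.TC Cfsg.Spor
inductive Col where
  | a
  | b
  | c
  | d
noncomputable def idx : Col → ℕ := fun c => Col.rec (motive := fun _ => ℕ) 0 1 2 3 c
noncomputable def inv : Col → Col := fun c => Col.rec (motive := fun _ => Col) .a .b .c .d c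
def dec : ℕ → Col := fun n => if n = 0 then .a else if n = 1 then .b else if n = 2 then .c else .d
theorem hdec : ∀ c, dec (idx c) = c := by intro c; cases c <;> rfl
theorem inv_inv : ∀ c, inv (inv c) = c := by intro c; cases c <;> rfl
def cols : List Col := [Col.a, Col.b, Col.c, Col.d]
theorem hcols : ∀ c, c ∈ cols := by intro c; cases c <;> simp [cols]
/-- relators as path words (first letter acts first) -/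
noncomputable def RWb : List (List Col) := [[Col.a, Col.a],
  [Col.b, Col.a, Col.b, Col.a, Col.b, Col.a, Col.b, Col.a, Col.b, Col.a],
  [Col.c, Col.a, Col.c, Col.a],
  [Col.d, Col.a, Col.d, Col.a],
  [Col.b, Col.b],
  [Col.c, Col.b, Col.c, Col.b, Col.c, Col.b],
  [Col.d, Col.b, Col.d, Col.b],
  [Col.c, Col.c],
  [Col.d, Col.c, Col.d, Col.c, Col.d, Col.c, Col.d, Col.c, Col.d, Col.c, Col.d, Col.c, Col.d, Col.c, Col.d, Col.c],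
  [Col.d, Col.d],
  [Col.c, Col.d, Col.c, Col.d, Col.c, Col.d, Col.c, Col.d, Col.a]]
noncomputable def RWe : List (List Col) := []
noncomputable def RW : List (List Col) := [[Col.a, Col.a],
  [Col.b, Col.a, Col.b, Col.a, Col.b, Col.a, Col.b, Col.a, Col.b, Col.a],
  [Col.c, Col.a, Col.c, Col.a],
  [Col.d, Col.a, Col.d, Col.a],
  [Col.b, Col.b],
  [Col.c, Col.b, Col.c, Col.b, Col.c, Col.b],
  [Col.d, Col.b, Col.d, Col.b],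
  [Col.c, Col.c],
  [Col.d, Col.c, Col.d, Col.c, Col.d, Col.c, Col.d, Col.c, Col.d, Col.c, Col.d, Col.c, Col.d, Col.c, Col.d, Col.c],
  [Col.d, Col.d],
  [Col.c, Col.d, Col.c, Col.d, Col.c, Col.d, Col.c, Col.d, Col.a]]
theorem rw_mem : ∀ w ∈ RW, w ∈ RWb ∨ w ∈ RWe := fun w hw => Or.inl hw
def emb : Col → TCG_Suz.Col
  | .a => .a
  | .b => .b
  | .c => .c
  | .d => .d
theorem emb_inv : ∀ c, emb (inv c) = TCG_Suz.inv (emb c) := by intro c; cases c <;> rfl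
def RI : List ℕ := [0, 1, 2, 3, 7, 8, 9, 13, 14, 18, 28]
theorem ri_chk : lleq TCG_Suz.idx (mapR (nthR TCG_Suz.RW) RI) (mapR (mapR emb) RWb) = true := by decide +kernel
/-- the family of generators -/
def Pc {G : Type*} [Group G] (f : Suz.Gen → G) (c : Col) : G := TCG_Suz.Pc f (emb c)
theorem Pc_inv {G : Type*} [Group G] {f : Suz.Gen → G} (hs : Sat Suz.edges Suz.extra f) (c : Col) : Pc f (inv c) = (Pc f c)⁻¹ := by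
  rw [Pc, emb_inv]; exact TCG_Suz.Pc_inv hs _
theorem Pc_RW {G : Type*} [Group G] {f : Suz.Gen → G} (hs : Sat Suz.edges Suz.extra f) : ∀ w ∈ RWb, gw (Pc f) w = 1 :=
  rw_sub TCG_Suz.dec TCG_Suz.hdec emb RI ri_chk (TCG_Suz.Pc f) (TCG_Suz.Pc_RW hs)
noncomputable def SW0 : List (List Col) := []
noncomputable def SW1 : List (List Col) := SW0 ++ [[Col.a, Col.b, Col.a, Col.b, Col.a, Col.c, Col.b, Col.a, Col.b, Col.c, Col.a, Col.b, Col.a, Col.b, Col.c]]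
noncomputable def SW2 : List (List Col) := SW1 ++ [[Col.a, Col.b, Col.a, Col.b, Col.a, Col.d, Col.c, Col.b, Col.a, Col.b, Col.c, Col.a, Col.b, Col.a, Col.b, Col.c, Col.d]]
noncomputable def mini0S : Tr (Fc Col) := (Tr.nd (nat_lit 893) (Tr.nd (nat_lit 446) (Tr.nd (nat_lit 223) (Tr.nd (nat_lit 111) (Tr.nd (nat_lit 55) (Tr.nd (nat_lit 27) (Tr.nd (nat_lit 13) (Tr.nd (nat_lit 6) (Tr.nd (nat_lit 3) (Tr.nd (nat_lit 1) (Tr.lf (Fc.ed (nat_lit 0) (nat_lit 0) Col.a (nat_lit 1) Dv.df)) (Tr.nd (nat_lit 2) (Tr.lf (Fc.ed (nat_lit 1) (nat_lit 1) Col.b (nat_lit 2) Dv.df)) (Tr.lf (Fc.ed (nat_lit 2) (nat_lit 2) Col.a (nat_lit 3) Dv.df)))) (Tr.nd (nat_lit 4) (Tr.lf (Fc.ed (nat_lit 3) (nat_lit 3) Col.b (nat_lit 4) Dv.df)) (Tr.nd (nat_lit 5) (Tr.lf (Fc.ed (nat_lit 4) (nat_lit 4) Col.a (nat_lit 5) Dv.df)) (Tr.lf (Fc.ed (nat_lit 5) (nat_lit 5) Col.c (nat_lit 6) Dv.df))))) (Tr.nd (nat_lit 9) (Tr.nd (nat_lit 7) (Tr.lf (Fc.ed (nat_lit 6) (nat_lit 6) Col.b (nat_lit 7) Dv.df)) (Tr.nd (nat_lit 8) (Tr.lf (Fc.ed (nat_lit 7) (nat_lit 7) Col.a (nat_lit 8) Dv.df)) (Tr.lf (Fc.ed (nat_lit 8) (nat_lit 8) Col.b (nat_lit 9) Dv.df)))) (Tr.nd (nat_lit 11) (Tr.nd (nat_lit 10) (Tr.lf (Fc.ed (nat_lit 9) (nat_lit 9) Col.c (nat_lit 10) Dv.df)) (Tr.lf (Fc.ed (nat_lit 10) (nat_lit 10) Col.a (nat_lit 11) Dv.df))) (Tr.nd (nat_lit 12) (Tr.lf (Fc.ed (nat_lit 11) (nat_lit 11) Col.b (nat_lit 12) Dv.df)) (Tr.lf (Fc.ed (nat_lit 12) (nat_lit 12) Col.a (nat_lit 13) Dv.df)))))) (Tr.nd (nat_lit 20) (Tr.nd (nat_lit 16) (Tr.nd (nat_lit 14) (Tr.lf (Fc.ed (nat_lit 13) (nat_lit 13) Col.b (nat_lit 14) Dv.df)) (Tr.nd (nat_lit 15) (Tr.lf (Fc.ed (nat_lit 14) (nat_lit 14) Col.c (nat_lit 15) Dv.df)) (Tr.lf (Fc.ed (nat_lit 15) (nat_lit 9) Col.a (nat_lit 16) Dv.df)))) (Tr.nd (nat_lit 18) (Tr.nd (nat_lit 17) (Tr.lf (Fc.ed (nat_lit 16) (nat_lit 16) Col.c (nat_lit 11) (Dv.wd (nat_lit 0) [Mv.b (nat_lit 10), Mv.b (nat_lit 9), Mv.f (nat_lit 15)]))) (Tr.lf (Fc.ed (nat_lit 17) (nat_lit 6) Col.a (nat_lit 17) Dv.df))) (Tr.nd (nat_lit 19) (Tr.lf (Fc.ed (nat_lit 18) (nat_lit 17) Col.c (nat_lit 4) (Dv.wd (nat_lit 0) [Mv.f (nat_lit 4), Mv.f (nat_lit 5), Mv.f (nat_lit 17)]))) (Tr.lf (Fc.ed (nat_lit 19) (nat_lit 4) Col.d (nat_lit 18) Dv.df))))) (Tr.nd (nat_lit 23) (Tr.nd (nat_lit 21) (Tr.lf (Fc.ed (nat_lit 20) (nat_lit 3) Col.d (nat_lit 19) Dv.df)) (Tr.nd (nat_lit 22) (Tr.lf (Fc.ed (nat_lit 21) (nat_lit 19) Col.b (nat_lit 18) (Dv.wd (nat_lit 1) [Mv.b (nat_lit 19), Mv.b (nat_lit 3), Mv.f (nat_lit 20)]))) (Tr.lf (Fc.ed (nat_lit 22) (nat_lit 18) Col.a (nat_lit 20) Dv.df)))) (Tr.nd (nat_lit 25) (Tr.nd (nat_lit 24) (Tr.lf (Fc.ed (nat_lit 23) (nat_lit 20) Col.d (nat_lit 5) (Dv.wd (nat_lit 2) [Mv.b (nat_lit 4), Mv.f (nat_lit 19), Mv.f (nat_lit 22)]))) (Tr.lf (Fc.ed (nat_lit 24) (nat_lit 19) Col.a (nat_lit 21) Dv.df))) (Tr.nd (nat_lit 26) (Tr.lf (Fc.ed (nat_lit 25) (nat_lit 21) Col.d (nat_lit 2) (Dv.wd (nat_lit 2) [Mv.f (nat_lit 2), Mv.f (nat_lit 20), Mv.f (nat_lit 24)]))) (Tr.lf (Fc.ed (nat_lit 26) (nat_lit 21) Col.b (nat_lit 22) Dv.df))))))) (Tr.nd (nat_lit 41) (Tr.nd (nat_lit 34) (Tr.nd (nat_lit 30) (Tr.nd (nat_lit 28) (Tr.lf (Fc.ed (nat_lit 27) (nat_lit 22) Col.d (nat_lit 1) (Dv.wd (nat_lit 3) [Mv.f (nat_lit 1), Mv.b (nat_lit 25), Mv.f (nat_lit 26)]))) (Tr.nd (nat_lit 29) (Tr.lf (Fc.ed (nat_lit 28) (nat_lit 22) Col.a (nat_lit 23) Dv.df)) (Tr.lf (Fc.ed (nat_lit 29) (nat_lit 23) Col.d (nat_lit 0) (Dv.wd (nat_lit 2) [Mv.f (nat_lit 0), Mv.b (nat_lit 27), Mv.f (nat_lit 28)]))))) (Tr.nd (nat_lit 32) (Tr.nd (nat_lit 31) (Tr.lf (Fc.ed (nat_lit 30) (nat_lit 13) Col.c (nat_lit 24) Dv.df)) (Tr.lf (Fc.ed (nat_lit 31) (nat_lit 24) Col.a (nat_lit 25) Dv.df))) (Tr.nd (nat_lit 33) (Tr.lf (Fc.ed (nat_lit 32) (nat_lit 25) Col.c (nat_lit 12) (Dv.wd (nat_lit 0) [Mv.f (nat_lit 12), Mv.f (nat_lit 30), Mv.f (nat_lit 31)]))) (Tr.lf (Fc.ed (nat_lit 33) (nat_lit 2) Col.c (nat_lit 26) Dv.df))))) (Tr.nd (nat_lit 37) (Tr.nd (nat_lit 35) (Tr.lf (Fc.ed (nat_lit 34) (nat_lit 26) Col.a (nat_lit 27) Dv.df)) (Tr.nd (nat_lit 36) (Tr.lf (Fc.ed (nat_lit 35) (nat_lit 27) Col.c (nat_lit 3) (Dv.wd (nat_lit 0) [Mv.b (nat_lit 2), Mv.f (nat_lit 33), Mv.f (nat_lit 34)]))) (Tr.lf (Fc.ed (nat_lit 36) (nat_lit 5) Col.b (nat_lit 28) Dv.df)))) (Tr.nd (nat_lit 39) (Tr.nd (nat_lit 38) (Tr.lf (Fc.ed (nat_lit 37) (nat_lit 28) Col.c (nat_lit 29) Dv.df)) (Tr.lf (Fc.ed (nat_lit 38) (nat_lit 29) Col.b (nat_lit 30) Dv.df))) (Tr.nd (nat_lit 40) (Tr.lf (Fc.ed (nat_lit 39) (nat_lit 30) Col.c (nat_lit 7) (Dv.wd (nat_lit 4) [Mv.b (nat_lit 6), Mv.b (nat_lit 5), Mv.f (nat_lit 36), Mv.f (nat_lit 37), Mv.f (nat_lit 38)]))) (Tr.lf (Fc.ed (nat_lit 40) (nat_lit 10) Col.d (nat_lit 31) Dv.df)))))) (Tr.nd (nat_lit 48) (Tr.nd (nat_lit 44) (Tr.nd (nat_lit 42) (Tr.lf (Fc.ed (nat_lit 41) (nat_lit 11) Col.d (nat_lit 32) Dv.df)) (Tr.nd (nat_lit 43) (Tr.lf (Fc.ed (nat_lit 42) (nat_lit 32) Col.a (nat_lit 31) (Dv.wd (nat_lit 5) [Mv.b (nat_lit 40), Mv.f (nat_lit 10), Mv.f (nat_lit 41)]))) (Tr.lf (Fc.ed (nat_lit 43) (nat_lit 8) Col.c (nat_lit 33) Dv.df)))) (Tr.nd (nat_lit 46) (Tr.nd (nat_lit 45) (Tr.lf (Fc.ed (nat_lit 44) (nat_lit 33) Col.a (nat_lit 30) (Dv.wd (nat_lit 6) [Mv.f (nat_lit 39), Mv.f (nat_lit 7), Mv.f (nat_lit 43)]))) (Tr.lf (Fc.ed (nat_lit 45) (nat_lit 25) Col.d (nat_lit 34) Dv.df))) (Tr.nd (nat_lit 47) (Tr.lf (Fc.ed (nat_lit 46) (nat_lit 12) Col.d (nat_lit 35) Dv.df)) (Tr.lf (Fc.ed (nat_lit 47) (nat_lit 35) Col.b (nat_lit 32) (Dv.wd (nat_lit 1) [Mv.b (nat_lit 41), Mv.f (nat_lit 11), Mv.f (nat_lit 46)])))))) (Tr.nd (nat_lit 51) (Tr.nd (nat_lit 49) (Tr.lf (Fc.ed (nat_lit 48) (nat_lit 35) Col.a (nat_lit 36) Dv.df)) (Tr.nd (nat_lit 50) (Tr.lf (Fc.ed (nat_lit 49) (nat_lit 36) Col.d (nat_lit 13) (Dv.wd (nat_lit 2) [Mv.b (nat_lit 12), Mv.f (nat_lit 46), Mv.f (nat_lit 48)]))) (Tr.lf (Fc.ed (nat_lit 50) (nat_lit 36) Col.b (nat_lit 37) Dv.df)))) (Tr.nd (nat_lit 53) (Tr.nd (nat_lit 52) (Tr.lf (Fc.ed (nat_lit 51) (nat_lit 37) Col.d (nat_lit 14) (Dv.wd (nat_lit 3) [Mv.b (nat_lit 13), Mv.b (nat_lit 49), Mv.f (nat_lit 50)]))) (Tr.lf (Fc.ed (nat_lit 52) (nat_lit 34) Col.a (nat_lit 38) Dv.df))) (Tr.nd (nat_lit 54) (Tr.lf (Fc.ed (nat_lit 53) (nat_lit 38) Col.d (nat_lit 24) (Dv.wd (nat_lit 2) [Mv.f (nat_lit 31), Mv.f (nat_lit 45), Mv.f (nat_lit 52)]))) (Tr.lf (Fc.ed (nat_lit 54) (nat_lit 26) Col.d (nat_lit 39) Dv.df)))))))) (Tr.nd (nat_lit 83) (Tr.nd (nat_lit 69) (Tr.nd (nat_lit 62) (Tr.nd (nat_lit 58) (Tr.nd (nat_lit 56) (Tr.lf (Fc.ed (nat_lit 55) (nat_lit 8) Col.d (nat_lit 40) Dv.df)) (Tr.nd (nat_lit 57) (Tr.lf (Fc.ed (nat_lit 56) (nat_lit 9) Col.d (nat_lit 41) Dv.df)) (Tr.lf (Fc.ed (nat_lit 57) (nat_lit 41) Col.b (nat_lit 40) (Dv.wd (nat_lit 1) [Mv.b (nat_lit 55), Mv.f (nat_lit 8), Mv.f (nat_lit 56)]))))) (Tr.nd (nat_lit 60) (Tr.nd (nat_lit 59) (Tr.lf (Fc.ed (nat_lit 58) (nat_lit 41) Col.a (nat_lit 42) Dv.df)) (Tr.lf (Fc.ed (nat_lit 59) (nat_lit 42) Col.d (nat_lit 16) (Dv.wd (nat_lit 2) [Mv.b (nat_lit 15), Mv.f (nat_lit 56), Mv.f (nat_lit 58)])))) (Tr.nd (nat_lit 61) (Tr.lf (Fc.ed (nat_lit 60) (nat_lit 24) Col.b (nat_lit 43) Dv.df)) (Tr.lf (Fc.ed (nat_lit 61) (nat_lit 7) Col.d (nat_lit 44) Dv.df))))) (Tr.nd (nat_lit 65) (Tr.nd (nat_lit 63) (Tr.lf (Fc.ed (nat_lit 62) (nat_lit 44) Col.a (nat_lit 40) (Dv.wd (nat_lit 5) [Mv.b (nat_lit 55), Mv.b (nat_lit 7), Mv.f (nat_lit 61)]))) (Tr.nd (nat_lit 64) (Tr.lf (Fc.ed (nat_lit 63) (nat_lit 38) Col.b (nat_lit 45) Dv.df)) (Tr.lf (Fc.ed (nat_lit 64) (nat_lit 45) Col.d (nat_lit 43) (Dv.wd (nat_lit 3) [Mv.b (nat_lit 60), Mv.b (nat_lit 53), Mv.f (nat_lit 63)]))))) (Tr.nd (nat_lit 67) (Tr.nd (nat_lit 66) (Tr.lf (Fc.ed (nat_lit 65) (nat_lit 25) Col.b (nat_lit 46) Dv.df)) (Tr.lf (Fc.ed (nat_lit 66) (nat_lit 34) Col.b (nat_lit 47) Dv.df))) (Tr.nd (nat_lit 68) (Tr.lf (Fc.ed (nat_lit 67) (nat_lit 47) Col.d (nat_lit 46) (Dv.wd (nat_lit 3) [Mv.b (nat_lit 65), Mv.f (nat_lit 45), Mv.f (nat_lit 66)]))) (Tr.lf (Fc.ed (nat_lit 68) (nat_lit 46) Col.c (nat_lit 48) Dv.df)))))) (Tr.nd (nat_lit 76) (Tr.nd (nat_lit 72) (Tr.nd (nat_lit 70) (Tr.lf (Fc.ed (nat_lit 69) (nat_lit 48) Col.b (nat_lit 16) (Dv.wd (nat_lit 7) [Mv.f (nat_lit 16), Mv.f (nat_lit 11), Mv.b (nat_lit 32), Mv.f (nat_lit 65), Mv.f (nat_lit 68)]))) (Tr.nd (nat_lit 71) (Tr.lf (Fc.ed (nat_lit 70) (nat_lit 48) Col.d (nat_lit 49) Dv.df)) (Tr.lf (Fc.ed (nat_lit 71) (nat_lit 49) Col.b (nat_lit 42) (Dv.wd (nat_lit 1) [Mv.f (nat_lit 59), Mv.b (nat_lit 69), Mv.f (nat_lit 70)]))))) (Tr.nd (nat_lit 74) (Tr.nd (nat_lit 73) (Tr.lf (Fc.ed (nat_lit 72) (nat_lit 44) Col.b (nat_lit 50) Dv.df)) (Tr.lf (Fc.ed (nat_lit 73) (nat_lit 50) Col.d (nat_lit 6) (Dv.wd (nat_lit 3) [Mv.f (nat_lit 6), Mv.f (nat_lit 61), Mv.f (nat_lit 72)])))) (Tr.nd (nat_lit 75) (Tr.lf (Fc.ed (nat_lit 74) (nat_lit 27) Col.d (nat_lit 51) Dv.df)) (Tr.lf (Fc.ed (nat_lit 75) (nat_lit 51) Col.a (nat_lit 39) (Dv.wd (nat_lit 5) [Mv.b (nat_lit 54), Mv.f (nat_lit 34), Mv.f (nat_lit 74)])))))) (Tr.nd (nat_lit 79) (Tr.nd (nat_lit 77) (Tr.lf (Fc.ed (nat_lit 76) (nat_lit 50) Col.a (nat_lit 52) Dv.df)) (Tr.nd (nat_lit 78) (Tr.lf (Fc.ed (nat_lit 77) (nat_lit 52) Col.d (nat_lit 17) (Dv.wd (nat_lit 2) [Mv.b (nat_lit 17), Mv.b (nat_lit 73), Mv.f (nat_lit 76)]))) (Tr.lf (Fc.ed (nat_lit 78) (nat_lit 18) Col.c (nat_lit 53) Dv.df)))) (Tr.nd (nat_lit 81) (Tr.nd (nat_lit 80) (Tr.lf (Fc.ed (nat_lit 79) (nat_lit 20) Col.c (nat_lit 54) Dv.df)) (Tr.lf (Fc.ed (nat_lit 80) (nat_lit 54) Col.a (nat_lit 53) (Dv.wd (nat_lit 6) [Mv.b (nat_lit 78), Mv.f (nat_lit 22), Mv.f (nat_lit 79)])))) (Tr.nd (nat_lit 82) (Tr.lf (Fc.ed (nat_lit 81) (nat_lit 51) Col.c (nat_lit 55) Dv.df)) (Tr.lf (Fc.ed (nat_lit 82) (nat_lit 17) Col.b (nat_lit 56) Dv.df))))))) (Tr.nd (nat_lit 97) (Tr.nd (nat_lit 90) (Tr.nd (nat_lit 86) (Tr.nd (nat_lit 84) (Tr.lf (Fc.ed (nat_lit 83) (nat_lit 27) Col.b (nat_lit 57) Dv.df)) (Tr.nd (nat_lit 85) (Tr.lf (Fc.ed (nat_lit 84) (nat_lit 57) Col.c (nat_lit 56) (Dv.wd (nat_lit 4) [Mv.b (nat_lit 82), Mv.f (nat_lit 18), Mv.b (nat_lit 3), Mv.b (nat_lit 35), Mv.f (nat_lit 83)]))) (Tr.lf (Fc.ed (nat_lit 85) (nat_lit 51) Col.b (nat_lit 58) Dv.df)))) (Tr.nd (nat_lit 88) (Tr.nd (nat_lit 87) (Tr.lf (Fc.ed (nat_lit 86) (nat_lit 58) Col.d (nat_lit 57) (Dv.wd (nat_lit 3) [Mv.b (nat_lit 83), Mv.f (nat_lit 74), Mv.f (nat_lit 85)]))) (Tr.lf (Fc.ed (nat_lit 87) (nat_lit 56) Col.a (nat_lit 59) Dv.df))) (Tr.nd (nat_lit 89) (Tr.lf (Fc.ed (nat_lit 88) (nat_lit 52) Col.b (nat_lit 60) Dv.df)) (Tr.lf (Fc.ed (nat_lit 89) (nat_lit 60) Col.d (nat_lit 56) (Dv.wd (nat_lit 3) [Mv.b (nat_lit 82), Mv.b (nat_lit 77), Mv.f (nat_lit 88)])))))) (Tr.nd (nat_lit 93) (Tr.nd (nat_lit 91) (Tr.lf (Fc.ed (nat_lit 90) (nat_lit 59) Col.c (nat_lit 61) Dv.df)) (Tr.nd (nat_lit 92) (Tr.lf (Fc.ed (nat_lit 91) (nat_lit 61) Col.a (nat_lit 57) (Dv.wd (nat_lit 6) [Mv.f (nat_lit 84), Mv.f (nat_lit 87), Mv.f (nat_lit 90)]))) (Tr.lf (Fc.ed (nat_lit 92) (nat_lit 60) Col.a (nat_lit 62) Dv.df)))) (Tr.nd (nat_lit 95) (Tr.nd (nat_lit 94) (Tr.lf (Fc.ed (nat_lit 93) (nat_lit 62) Col.d (nat_lit 59) (Dv.wd (nat_lit 2) [Mv.b (nat_lit 87), Mv.b (nat_lit 89), Mv.f (nat_lit 92)]))) (Tr.lf (Fc.ed (nat_lit 94) (nat_lit 48) Col.a (nat_lit 63) Dv.df))) (Tr.nd (nat_lit 96) (Tr.lf (Fc.ed (nat_lit 95) (nat_lit 63) Col.b (nat_lit 59) (Dv.wd (nat_lit 8) [Mv.b (nat_lit 87), Mv.b (nat_lit 82), Mv.b (nat_lit 17), Mv.f (nat_lit 6), Mv.f (nat_lit 7), Mv.f (nat_lit 8), Mv.f (nat_lit 15), Mv.b (nat_lit 69), Mv.f (nat_lit 94)]))) (Tr.lf (Fc.ed (nat_lit 96) (nat_lit 49) Col.a (nat_lit 64) Dv.df)))))) (Tr.nd (nat_lit 104) (Tr.nd (nat_lit 100) (Tr.nd (nat_lit 98) (Tr.lf (Fc.ed (nat_lit 97) (nat_lit 64) Col.d (nat_lit 63) (Dv.wd (nat_lit 2) [Mv.b (nat_lit 94), Mv.f (nat_lit 70), Mv.f (nat_lit 96)]))) (Tr.nd (nat_lit 99) (Tr.lf (Fc.ed (nat_lit 98) (nat_lit 64) Col.b (nat_lit 62) (Dv.wd (nat_lit 8) [Mv.b (nat_lit 92), Mv.b (nat_lit 88), Mv.b (nat_lit 76), Mv.b (nat_lit 72), Mv.f (nat_lit 62), Mv.b (nat_lit 57), Mv.f (nat_lit 58), Mv.b (nat_lit 71), Mv.f (nat_lit 96)]))) (Tr.lf (Fc.ed (nat_lit 99) (nat_lit 61) Col.d (nat_lit 65) Dv.df)))) (Tr.nd (nat_lit 102) (Tr.nd (nat_lit 101) (Tr.lf (Fc.ed (nat_lit 100) (nat_lit 65) Col.a (nat_lit 58) (Dv.wd (nat_lit 5) [Mv.f (nat_lit 86), Mv.b (nat_lit 91), Mv.f (nat_lit 99)]))) (Tr.lf (Fc.ed (nat_lit 101) (nat_lit 46) Col.a (nat_lit 66) Dv.df))) (Tr.nd (nat_lit 103) (Tr.lf (Fc.ed (nat_lit 102) (nat_lit 66) Col.c (nat_lit 63) (Dv.wd (nat_lit 0) [Mv.b (nat_lit 94), Mv.b (nat_lit 68), Mv.f (nat_lit 101)]))) (Tr.lf (Fc.ed (nat_lit 103) (nat_lit 47) Col.a (nat_lit 67) Dv.df))))) (Tr.nd (nat_lit 107) (Tr.nd (nat_lit 105) (Tr.lf (Fc.ed (nat_lit 104) (nat_lit 67) Col.d (nat_lit 66) (Dv.wd (nat_lit 2) [Mv.b (nat_lit 101), Mv.b (nat_lit 67), Mv.f (nat_lit 103)]))) (Tr.nd (nat_lit 106) (Tr.lf (Fc.ed (nat_lit 105) (nat_lit 30) Col.d (nat_lit 68) Dv.df)) (Tr.lf (Fc.ed (nat_lit 106) (nat_lit 22) Col.c (nat_lit 69) Dv.df)))) (Tr.nd (nat_lit 109) (Tr.nd (nat_lit 108) (Tr.lf (Fc.ed (nat_lit 107) (nat_lit 42) Col.c (nat_lit 70) Dv.df)) (Tr.lf (Fc.ed (nat_lit 108) (nat_lit 70) Col.a (nat_lit 71) Dv.df))) (Tr.nd (nat_lit 110) (Tr.lf (Fc.ed (nat_lit 109) (nat_lit 71) Col.c (nat_lit 41) (Dv.wd (nat_lit 0) [Mv.f (nat_lit 58), Mv.f (nat_lit 107), Mv.f (nat_lit 108)]))) (Tr.lf (Fc.ed (nat_lit 110) (nat_lit 32) Col.c (nat_lit 72) Dv.df))))))))) (Tr.nd (nat_lit 167) (Tr.nd (nat_lit 139) (Tr.nd (nat_lit 125) (Tr.nd (nat_lit 118) (Tr.nd (nat_lit 114) (Tr.nd (nat_lit 112) (Tr.lf (Fc.ed (nat_lit 111) (nat_lit 72) Col.d (nat_lit 73) Dv.df)) (Tr.nd (nat_lit 113) (Tr.lf (Fc.ed (nat_lit 112) (nat_lit 73) Col.c (nat_lit 74) Dv.df)) (Tr.lf (Fc.ed (nat_lit 113) (nat_lit 74) Col.d (nat_lit 71) (Dv.wd (nat_lit 9) [Mv.f (nat_lit 109), Mv.b (nat_lit 56), Mv.f (nat_lit 9), Mv.f (nat_lit 40), Mv.b (nat_lit 42), Mv.f (nat_lit 110), Mv.f (nat_lit 111), Mv.f (nat_lit 112)]))))) (Tr.nd (nat_lit 116) (Tr.nd (nat_lit 115) (Tr.lf (Fc.ed (nat_lit 114) (nat_lit 33) Col.d (nat_lit 75) Dv.df)) (Tr.lf (Fc.ed (nat_lit 115) (nat_lit 75) Col.a (nat_lit 68) (Dv.wd (nat_lit 5) [Mv.b (nat_lit 105), Mv.b (nat_lit 44), Mv.f (nat_lit 114)])))) (Tr.nd (nat_lit 117) (Tr.lf (Fc.ed (nat_lit 116) (nat_lit 23) Col.c (nat_lit 76) Dv.df)) (Tr.lf (Fc.ed (nat_lit 117) (nat_lit 76) Col.a (nat_lit 69) (Dv.wd (nat_lit 6) [Mv.b (nat_lit 106), Mv.f (nat_lit 28), Mv.f (nat_lit 116)])))))) (Tr.nd (nat_lit 121) (Tr.nd (nat_lit 119) (Tr.lf (Fc.ed (nat_lit 118) (nat_lit 74) Col.a (nat_lit 77) Dv.df)) (Tr.nd (nat_lit 120) (Tr.lf (Fc.ed (nat_lit 119) (nat_lit 68) Col.c (nat_lit 78) Dv.df)) (Tr.lf (Fc.ed (nat_lit 120) (nat_lit 14) Col.a (nat_lit 79) Dv.df)))) (Tr.nd (nat_lit 123) (Tr.nd (nat_lit 122) (Tr.lf (Fc.ed (nat_lit 121) (nat_lit 35) Col.c (nat_lit 80) Dv.df)) (Tr.lf (Fc.ed (nat_lit 122) (nat_lit 79) Col.c (nat_lit 81) Dv.df))) (Tr.nd (nat_lit 124) (Tr.lf (Fc.ed (nat_lit 123) (nat_lit 81) Col.a (nat_lit 15) (Dv.wd (nat_lit 6) [Mv.b (nat_lit 14), Mv.f (nat_lit 120), Mv.f (nat_lit 122)]))) (Tr.lf (Fc.ed (nat_lit 124) (nat_lit 80) Col.a (nat_lit 82) Dv.df)))))) (Tr.nd (nat_lit 132) (Tr.nd (nat_lit 128) (Tr.nd (nat_lit 126) (Tr.lf (Fc.ed (nat_lit 125) (nat_lit 82) Col.c (nat_lit 36) (Dv.wd (nat_lit 0) [Mv.b (nat_lit 48), Mv.f (nat_lit 121), Mv.f (nat_lit 124)]))) (Tr.nd (nat_lit 127) (Tr.lf (Fc.ed (nat_lit 126) (nat_lit 75) Col.c (nat_lit 83) Dv.df)) (Tr.lf (Fc.ed (nat_lit 127) (nat_lit 83) Col.a (nat_lit 78) (Dv.wd (nat_lit 6) [Mv.b (nat_lit 119), Mv.b (nat_lit 115), Mv.f (nat_lit 126)]))))) (Tr.nd (nat_lit 130) (Tr.nd (nat_lit 129) (Tr.lf (Fc.ed (nat_lit 128) (nat_lit 66) Col.b (nat_lit 84) Dv.df)) (Tr.lf (Fc.ed (nat_lit 129) (nat_lit 76) Col.d (nat_lit 85) Dv.df))) (Tr.nd (nat_lit 131) (Tr.lf (Fc.ed (nat_lit 130) (nat_lit 84) Col.c (nat_lit 86) Dv.df)) (Tr.lf (Fc.ed (nat_lit 131) (nat_lit 86) Col.b (nat_lit 61) (Dv.wd (nat_lit 7) [Mv.b (nat_lit 90), Mv.b (nat_lit 95), Mv.b (nat_lit 102), Mv.f (nat_lit 128), Mv.f (nat_lit 130)])))))) (Tr.nd (nat_lit 135) (Tr.nd (nat_lit 133) (Tr.lf (Fc.ed (nat_lit 132) (nat_lit 65) Col.b (nat_lit 87) Dv.df)) (Tr.nd (nat_lit 134) (Tr.lf (Fc.ed (nat_lit 133) (nat_lit 87) Col.d (nat_lit 86) (Dv.wd (nat_lit 3) [Mv.f (nat_lit 131), Mv.f (nat_lit 99), Mv.f (nat_lit 132)]))) (Tr.lf (Fc.ed (nat_lit 134) (nat_lit 69) Col.d (nat_lit 88) Dv.df)))) (Tr.nd (nat_lit 137) (Tr.nd (nat_lit 136) (Tr.lf (Fc.ed (nat_lit 135) (nat_lit 88) Col.a (nat_lit 85) (Dv.wd (nat_lit 5) [Mv.b (nat_lit 129), Mv.f (nat_lit 117), Mv.f (nat_lit 134)]))) (Tr.lf (Fc.ed (nat_lit 136) (nat_lit 40) Col.c (nat_lit 89) Dv.df))) (Tr.nd (nat_lit 138) (Tr.lf (Fc.ed (nat_lit 137) (nat_lit 44) Col.c (nat_lit 90) Dv.df)) (Tr.lf (Fc.ed (nat_lit 138) (nat_lit 90) Col.a (nat_lit 89) (Dv.wd (nat_lit 6) [Mv.b (nat_lit 136), Mv.b (nat_lit 62), Mv.f (nat_lit 137)])))))))) (Tr.nd (nat_lit 153) (Tr.nd (nat_lit 146) (Tr.nd (nat_lit 142) (Tr.nd (nat_lit 140) (Tr.lf (Fc.ed (nat_lit 139) (nat_lit 47) Col.c (nat_lit 91) Dv.df)) (Tr.nd (nat_lit 141) (Tr.lf (Fc.ed (nat_lit 140) (nat_lit 65) Col.c (nat_lit 92) Dv.df)) (Tr.lf (Fc.ed (nat_lit 141) (nat_lit 52) Col.c (nat_lit 93) Dv.df)))) (Tr.nd (nat_lit 144) (Tr.nd (nat_lit 143) (Tr.lf (Fc.ed (nat_lit 142) (nat_lit 78) Col.d (nat_lit 94) Dv.df)) (Tr.lf (Fc.ed (nat_lit 143) (nat_lit 94) Col.c (nat_lit 95) Dv.df))) (Tr.nd (nat_lit 145) (Tr.lf (Fc.ed (nat_lit 144) (nat_lit 95) Col.d (nat_lit 89) (Dv.wd (nat_lit 9) [Mv.b (nat_lit 136), Mv.b (nat_lit 55), Mv.f (nat_lit 43), Mv.f (nat_lit 114), Mv.f (nat_lit 115), Mv.f (nat_lit 119), Mv.f (nat_lit 142), Mv.f (nat_lit 143)]))) (Tr.lf (Fc.ed (nat_lit 145) (nat_lit 83) Col.d (nat_lit 96) Dv.df))))) (Tr.nd (nat_lit 149) (Tr.nd (nat_lit 147) (Tr.lf (Fc.ed (nat_lit 146) (nat_lit 90) Col.d (nat_lit 97) Dv.df)) (Tr.nd (nat_lit 148) (Tr.lf (Fc.ed (nat_lit 147) (nat_lit 97) Col.a (nat_lit 95) (Dv.wd (nat_lit 5) [Mv.f (nat_lit 144), Mv.b (nat_lit 138), Mv.f (nat_lit 146)]))) (Tr.lf (Fc.ed (nat_lit 148) (nat_lit 97) Col.c (nat_lit 96) (Dv.wd (nat_lit 10) [Mv.b (nat_lit 145), Mv.b (nat_lit 126), Mv.b (nat_lit 114), Mv.b (nat_lit 43), Mv.f (nat_lit 55), Mv.b (nat_lit 62), Mv.f (nat_lit 137), Mv.f (nat_lit 146)]))))) (Tr.nd (nat_lit 151) (Tr.nd (nat_lit 150) (Tr.lf (Fc.ed (nat_lit 149) (nat_lit 93) Col.a (nat_lit 98) Dv.df)) (Tr.lf (Fc.ed (nat_lit 150) (nat_lit 98) Col.c (nat_lit 50) (Dv.wd (nat_lit 0) [Mv.f (nat_lit 76), Mv.f (nat_lit 141), Mv.f (nat_lit 149)])))) (Tr.nd (nat_lit 152) (Tr.lf (Fc.ed (nat_lit 151) (nat_lit 77) Col.b (nat_lit 99) Dv.df)) (Tr.lf (Fc.ed (nat_lit 152) (nat_lit 94) Col.b (nat_lit 100) Dv.df)))))) (Tr.nd (nat_lit 160) (Tr.nd (nat_lit 156) (Tr.nd (nat_lit 154) (Tr.lf (Fc.ed (nat_lit 153) (nat_lit 92) Col.a (nat_lit 101) Dv.df)) (Tr.nd (nat_lit 155) (Tr.lf (Fc.ed (nat_lit 154) (nat_lit 101) Col.c (nat_lit 58) (Dv.wd (nat_lit 0) [Mv.b (nat_lit 100), Mv.f (nat_lit 140), Mv.f (nat_lit 153)]))) (Tr.lf (Fc.ed (nat_lit 155) (nat_lit 99) Col.d (nat_lit 102) Dv.df)))) (Tr.nd (nat_lit 158) (Tr.nd (nat_lit 157) (Tr.lf (Fc.ed (nat_lit 156) (nat_lit 54) Col.d (nat_lit 103) Dv.df)) (Tr.lf (Fc.ed (nat_lit 157) (nat_lit 53) Col.d (nat_lit 104) Dv.df))) (Tr.nd (nat_lit 159) (Tr.lf (Fc.ed (nat_lit 158) (nat_lit 104) Col.a (nat_lit 103) (Dv.wd (nat_lit 5) [Mv.b (nat_lit 156), Mv.f (nat_lit 80), Mv.f (nat_lit 157)]))) (Tr.lf (Fc.ed (nat_lit 159) (nat_lit 78) Col.b (nat_lit 105) Dv.df))))) (Tr.nd (nat_lit 163) (Tr.nd (nat_lit 161) (Tr.lf (Fc.ed (nat_lit 160) (nat_lit 105) Col.d (nat_lit 100) (Dv.wd (nat_lit 3) [Mv.b (nat_lit 152), Mv.b (nat_lit 142), Mv.f (nat_lit 159)]))) (Tr.nd (nat_lit 162) (Tr.lf (Fc.ed (nat_lit 161) (nat_lit 104) Col.c (nat_lit 106) Dv.df)) (Tr.lf (Fc.ed (nat_lit 162) (nat_lit 106) Col.d (nat_lit 98) (Dv.wd (nat_lit 11) [Mv.f (nat_lit 150), Mv.f (nat_lit 73), Mv.b (nat_lit 5), Mv.b (nat_lit 23), Mv.f (nat_lit 79), Mv.f (nat_lit 156), Mv.b (nat_lit 158), Mv.f (nat_lit 161)]))))) (Tr.nd (nat_lit 165) (Tr.nd (nat_lit 164) (Tr.lf (Fc.ed (nat_lit 163) (nat_lit 60) Col.c (nat_lit 107) Dv.df)) (Tr.lf (Fc.ed (nat_lit 164) (nat_lit 55) Col.d (nat_lit 108) Dv.df))) (Tr.nd (nat_lit 166) (Tr.lf (Fc.ed (nat_lit 165) (nat_lit 62) Col.c (nat_lit 109) Dv.df)) (Tr.lf (Fc.ed (nat_lit 166) (nat_lit 19) Col.c (nat_lit 110) Dv.df)))))))) (Tr.nd (nat_lit 195) (Tr.nd (nat_lit 181) (Tr.nd (nat_lit 174) (Tr.nd (nat_lit 170) (Tr.nd (nat_lit 168) (Tr.lf (Fc.ed (nat_lit 167) (nat_lit 21) Col.c (nat_lit 111) Dv.df)) (Tr.nd (nat_lit 169) (Tr.lf (Fc.ed (nat_lit 168) (nat_lit 111) Col.a (nat_lit 110) (Dv.wd (nat_lit 6) [Mv.b (nat_lit 166), Mv.f (nat_lit 24), Mv.f (nat_lit 167)]))) (Tr.lf (Fc.ed (nat_lit 169) (nat_lit 111) Col.d (nat_lit 112) Dv.df)))) (Tr.nd (nat_lit 172) (Tr.nd (nat_lit 171) (Tr.lf (Fc.ed (nat_lit 170) (nat_lit 112) Col.c (nat_lit 108) (Dv.wd (nat_lit 10) [Mv.b (nat_lit 164), Mv.b (nat_lit 81), Mv.b (nat_lit 74), Mv.f (nat_lit 35), Mv.f (nat_lit 20), Mv.f (nat_lit 24), Mv.f (nat_lit 167), Mv.f (nat_lit 169)]))) (Tr.lf (Fc.ed (nat_lit 171) (nat_lit 38) Col.c (nat_lit 113) Dv.df))) (Tr.nd (nat_lit 173) (Tr.lf (Fc.ed (nat_lit 172) (nat_lit 71) Col.b (nat_lit 114) Dv.df)) (Tr.lf (Fc.ed (nat_lit 173) (nat_lit 113) Col.a (nat_lit 115) Dv.df))))) (Tr.nd (nat_lit 177) (Tr.nd (nat_lit 175) (Tr.lf (Fc.ed (nat_lit 174) (nat_lit 115) Col.c (nat_lit 34) (Dv.wd (nat_lit 0) [Mv.f (nat_lit 52), Mv.f (nat_lit 171), Mv.f (nat_lit 173)]))) (Tr.nd (nat_lit 176) (Tr.lf (Fc.ed (nat_lit 175) (nat_lit 80) Col.d (nat_lit 116) Dv.df)) (Tr.lf (Fc.ed (nat_lit 176) (nat_lit 74) Col.b (nat_lit 117) Dv.df)))) (Tr.nd (nat_lit 179) (Tr.nd (nat_lit 178) (Tr.lf (Fc.ed (nat_lit 177) (nat_lit 117) Col.d (nat_lit 114) (Dv.wd (nat_lit 3) [Mv.b (nat_lit 172), Mv.b (nat_lit 113), Mv.f (nat_lit 176)]))) (Tr.lf (Fc.ed (nat_lit 178) (nat_lit 89) Col.b (nat_lit 118) Dv.df))) (Tr.nd (nat_lit 180) (Tr.lf (Fc.ed (nat_lit 179) (nat_lit 118) Col.c (nat_lit 114) (Dv.wd (nat_lit 4) [Mv.b (nat_lit 172), Mv.f (nat_lit 109), Mv.f (nat_lit 57), Mv.f (nat_lit 136), Mv.f (nat_lit 178)]))) (Tr.lf (Fc.ed (nat_lit 180) (nat_lit 113) Col.d (nat_lit 119) Dv.df)))))) (Tr.nd (nat_lit 188) (Tr.nd (nat_lit 184) (Tr.nd (nat_lit 182) (Tr.lf (Fc.ed (nat_lit 181) (nat_lit 119) Col.c (nat_lit 116) (Dv.wd (nat_lit 10) [Mv.b (nat_lit 175), Mv.b (nat_lit 121), Mv.b (nat_lit 46), Mv.b (nat_lit 32), Mv.f (nat_lit 45), Mv.f (nat_lit 52), Mv.f (nat_lit 171), Mv.f (nat_lit 180)]))) (Tr.nd (nat_lit 183) (Tr.lf (Fc.ed (nat_lit 182) (nat_lit 115) Col.d (nat_lit 120) Dv.df)) (Tr.lf (Fc.ed (nat_lit 183) (nat_lit 120) Col.a (nat_lit 119) (Dv.wd (nat_lit 5) [Mv.b (nat_lit 180), Mv.f (nat_lit 173), Mv.f (nat_lit 182)]))))) (Tr.nd (nat_lit 186) (Tr.nd (nat_lit 185) (Tr.lf (Fc.ed (nat_lit 184) (nat_lit 120) Col.c (nat_lit 121) Dv.df)) (Tr.lf (Fc.ed (nat_lit 185) (nat_lit 121) Col.d (nat_lit 82) (Dv.wd (nat_lit 11) [Mv.f (nat_lit 125), Mv.f (nat_lit 49), Mv.f (nat_lit 30), Mv.b (nat_lit 53), Mv.f (nat_lit 171), Mv.f (nat_lit 180), Mv.b (nat_lit 183), Mv.f (nat_lit 184)])))) (Tr.nd (nat_lit 187) (Tr.lf (Fc.ed (nat_lit 186) (nat_lit 95) Col.b (nat_lit 122) Dv.df)) (Tr.lf (Fc.ed (nat_lit 187) (nat_lit 122) Col.d (nat_lit 118) (Dv.wd (nat_lit 3) [Mv.b (nat_lit 178), Mv.b (nat_lit 144), Mv.f (nat_lit 186)])))))) (Tr.nd (nat_lit 191) (Tr.nd (nat_lit 189) (Tr.lf (Fc.ed (nat_lit 188) (nat_lit 64) Col.c (nat_lit 123) Dv.df)) (Tr.nd (nat_lit 190) (Tr.lf (Fc.ed (nat_lit 189) (nat_lit 85) Col.b (nat_lit 124) Dv.df)) (Tr.lf (Fc.ed (nat_lit 190) (nat_lit 123) Col.d (nat_lit 125) Dv.df)))) (Tr.nd (nat_lit 193) (Tr.nd (nat_lit 192) (Tr.lf (Fc.ed (nat_lit 191) (nat_lit 91) Col.d (nat_lit 126) Dv.df)) (Tr.lf (Fc.ed (nat_lit 192) (nat_lit 126) Col.c (nat_lit 125) (Dv.wd (nat_lit 10) [Mv.b (nat_lit 190), Mv.b (nat_lit 188), Mv.f (nat_lit 97), Mv.b (nat_lit 102), Mv.b (nat_lit 104), Mv.b (nat_lit 103), Mv.f (nat_lit 139), Mv.f (nat_lit 191)])))) (Tr.nd (nat_lit 194) (Tr.lf (Fc.ed (nat_lit 193) (nat_lit 91) Col.b (nat_lit 127) Dv.df)) (Tr.lf (Fc.ed (nat_lit 194) (nat_lit 127) Col.d (nat_lit 128) Dv.df))))))) (Tr.nd (nat_lit 209) (Tr.nd (nat_lit 202) (Tr.nd (nat_lit 198) (Tr.nd (nat_lit 196) (Tr.lf (Fc.ed (nat_lit 195) (nat_lit 128) Col.b (nat_lit 126) (Dv.wd (nat_lit 1) [Mv.b (nat_lit 191), Mv.f (nat_lit 193), Mv.f (nat_lit 194)]))) (Tr.nd (nat_lit 197) (Tr.lf (Fc.ed (nat_lit 196) (nat_lit 127) Col.c (nat_lit 129) Dv.df)) (Tr.lf (Fc.ed (nat_lit 197) (nat_lit 129) Col.b (nat_lit 115) (Dv.wd (nat_lit 7) [Mv.f (nat_lit 174), Mv.f (nat_lit 66), Mv.f (nat_lit 139), Mv.f (nat_lit 193), Mv.f (nat_lit 196)]))))) (Tr.nd (nat_lit 200) (Tr.nd (nat_lit 199) (Tr.lf (Fc.ed (nat_lit 198) (nat_lit 85) Col.c (nat_lit 130) Dv.df)) (Tr.lf (Fc.ed (nat_lit 199) (nat_lit 107) Col.d (nat_lit 131) Dv.df))) (Tr.nd (nat_lit 201) (Tr.lf (Fc.ed (nat_lit 200) (nat_lit 131) Col.c (nat_lit 132) Dv.df)) (Tr.lf (Fc.ed (nat_lit 201) (nat_lit 132) Col.d (nat_lit 92) (Dv.wd (nat_lit 9) [Mv.b (nat_lit 140), Mv.b (nat_lit 99), Mv.b (nat_lit 90), Mv.b (nat_lit 93), Mv.b (nat_lit 92), Mv.f (nat_lit 163), Mv.f (nat_lit 199), Mv.f (nat_lit 200)])))))) (Tr.nd (nat_lit 205) (Tr.nd (nat_lit 203) (Tr.lf (Fc.ed (nat_lit 202) (nat_lit 76) Col.b (nat_lit 133) Dv.df)) (Tr.nd (nat_lit 204) (Tr.lf (Fc.ed (nat_lit 203) (nat_lit 101) Col.d (nat_lit 134) Dv.df)) (Tr.lf (Fc.ed (nat_lit 204) (nat_lit 134) Col.a (nat_lit 132) (Dv.wd (nat_lit 5) [Mv.f (nat_lit 201), Mv.f (nat_lit 153), Mv.f (nat_lit 203)]))))) (Tr.nd (nat_lit 207) (Tr.nd (nat_lit 206) (Tr.lf (Fc.ed (nat_lit 205) (nat_lit 134) Col.c (nat_lit 135) Dv.df)) (Tr.lf (Fc.ed (nat_lit 206) (nat_lit 135) Col.d (nat_lit 109) (Dv.wd (nat_lit 11) [Mv.b (nat_lit 165), Mv.f (nat_lit 93), Mv.f (nat_lit 90), Mv.f (nat_lit 99), Mv.f (nat_lit 140), Mv.b (nat_lit 201), Mv.b (nat_lit 204), Mv.f (nat_lit 205)])))) (Tr.nd (nat_lit 208) (Tr.lf (Fc.ed (nat_lit 207) (nat_lit 133) Col.c (nat_lit 136) Dv.df)) (Tr.lf (Fc.ed (nat_lit 208) (nat_lit 83) Col.b (nat_lit 137) Dv.df)))))) (Tr.nd (nat_lit 216) (Tr.nd (nat_lit 212) (Tr.nd (nat_lit 210) (Tr.lf (Fc.ed (nat_lit 209) (nat_lit 69) Col.b (nat_lit 138) Dv.df)) (Tr.nd (nat_lit 211) (Tr.lf (Fc.ed (nat_lit 210) (nat_lit 137) Col.d (nat_lit 139) Dv.df)) (Tr.lf (Fc.ed (nat_lit 211) (nat_lit 139) Col.b (nat_lit 96) (Dv.wd (nat_lit 1) [Mv.b (nat_lit 145), Mv.f (nat_lit 208), Mv.f (nat_lit 210)]))))) (Tr.nd (nat_lit 214) (Tr.nd (nat_lit 213) (Tr.lf (Fc.ed (nat_lit 212) (nat_lit 138) Col.c (nat_lit 140) Dv.df)) (Tr.lf (Fc.ed (nat_lit 213) (nat_lit 140) Col.b (nat_lit 111) (Dv.wd (nat_lit 7) [Mv.b (nat_lit 167), Mv.f (nat_lit 26), Mv.f (nat_lit 106), Mv.f (nat_lit 209), Mv.f (nat_lit 212)])))) (Tr.nd (nat_lit 215) (Tr.lf (Fc.ed (nat_lit 214) (nat_lit 138) Col.d (nat_lit 141) Dv.df)) (Tr.lf (Fc.ed (nat_lit 215) (nat_lit 141) Col.b (nat_lit 88) (Dv.wd (nat_lit 1) [Mv.b (nat_lit 134), Mv.f (nat_lit 209), Mv.f (nat_lit 214)])))))) (Tr.nd (nat_lit 219) (Tr.nd (nat_lit 217) (Tr.lf (Fc.ed (nat_lit 216) (nat_lit 105) Col.c (nat_lit 142) Dv.df)) (Tr.nd (nat_lit 218) (Tr.lf (Fc.ed (nat_lit 217) (nat_lit 15) Col.d (nat_lit 143) Dv.df)) (Tr.lf (Fc.ed (nat_lit 218) (nat_lit 80) Col.b (nat_lit 144) Dv.df)))) (Tr.nd (nat_lit 221) (Tr.nd (nat_lit 220) (Tr.lf (Fc.ed (nat_lit 219) (nat_lit 81) Col.d (nat_lit 145) Dv.df)) (Tr.lf (Fc.ed (nat_lit 220) (nat_lit 145) Col.a (nat_lit 143) (Dv.wd (nat_lit 5) [Mv.b (nat_lit 217), Mv.b (nat_lit 123), Mv.f (nat_lit 219)])))) (Tr.nd (nat_lit 222) (Tr.lf (Fc.ed (nat_lit 221) (nat_lit 144) Col.c (nat_lit 146) Dv.df)) (Tr.lf (Fc.ed (nat_lit 222) (nat_lit 146) Col.b (nat_lit 72) (Dv.wd (nat_lit 7) [Mv.b (nat_lit 110), Mv.b (nat_lit 47), Mv.f (nat_lit 121), Mv.f (nat_lit 218), Mv.f (nat_lit 221)]))))))))))) (Tr.nd (nat_lit 334) (Tr.nd (nat_lit 278) (Tr.nd (nat_lit 250) (Tr.nd (nat_lit 236) (Tr.nd (nat_lit 229) (Tr.nd (nat_lit 226) (Tr.nd (nat_lit 224) (Tr.lf (Fc.ed (nat_lit 223) (nat_lit 116) Col.b (nat_lit 147) Dv.df)) (Tr.nd (nat_lit 225) (Tr.lf (Fc.ed (nat_lit 224) (nat_lit 147) Col.d (nat_lit 144) (Dv.wd (nat_lit 3) [Mv.b (nat_lit 218), Mv.f (nat_lit 175), Mv.f (nat_lit 223)]))) (Tr.lf (Fc.ed (nat_lit 225) (nat_lit 140) Col.d (nat_lit 148) Dv.df)))) (Tr.nd (nat_lit 227) (Tr.lf (Fc.ed (nat_lit 226) (nat_lit 148) Col.b (nat_lit 112) (Dv.wd (nat_lit 1) [Mv.b (nat_lit 169), Mv.b (nat_lit 213), Mv.f (nat_lit 225)]))) (Tr.nd (nat_lit 228) (Tr.lf (Fc.ed (nat_lit 227) (nat_lit 73) Col.b (nat_lit 149) Dv.df)) (Tr.lf (Fc.ed (nat_lit 228) (nat_lit 149) Col.d (nat_lit 146) (Dv.wd (nat_lit 3) [Mv.f (nat_lit 222), Mv.f (nat_lit 111), Mv.f (nat_lit 227)])))))) (Tr.nd (nat_lit 232) (Tr.nd (nat_lit 230) (Tr.lf (Fc.ed (nat_lit 229) (nat_lit 90) Col.b (nat_lit 150) Dv.df)) (Tr.nd (nat_lit 231) (Tr.lf (Fc.ed (nat_lit 230) (nat_lit 150) Col.c (nat_lit 151) Dv.df)) (Tr.lf (Fc.ed (nat_lit 231) (nat_lit 151) Col.b (nat_lit 98) (Dv.wd (nat_lit 7) [Mv.f (nat_lit 150), Mv.b (nat_lit 72), Mv.f (nat_lit 137), Mv.f (nat_lit 229), Mv.f (nat_lit 230)]))))) (Tr.nd (nat_lit 234) (Tr.nd (nat_lit 233) (Tr.lf (Fc.ed (nat_lit 232) (nat_lit 97) Col.b (nat_lit 152) Dv.df)) (Tr.lf (Fc.ed (nat_lit 233) (nat_lit 152) Col.d (nat_lit 150) (Dv.wd (nat_lit 3) [Mv.b (nat_lit 229), Mv.f (nat_lit 146), Mv.f (nat_lit 232)])))) (Tr.nd (nat_lit 235) (Tr.lf (Fc.ed (nat_lit 234) (nat_lit 45) Col.a (nat_lit 153) Dv.df)) (Tr.lf (Fc.ed (nat_lit 235) (nat_lit 151) Col.d (nat_lit 154) Dv.df)))))) (Tr.nd (nat_lit 243) (Tr.nd (nat_lit 239) (Tr.nd (nat_lit 237) (Tr.lf (Fc.ed (nat_lit 236) (nat_lit 154) Col.b (nat_lit 106) (Dv.wd (nat_lit 1) [Mv.f (nat_lit 162), Mv.b (nat_lit 231), Mv.f (nat_lit 235)]))) (Tr.nd (nat_lit 238) (Tr.lf (Fc.ed (nat_lit 237) (nat_lit 129) Col.d (nat_lit 155) Dv.df)) (Tr.lf (Fc.ed (nat_lit 238) (nat_lit 155) Col.b (nat_lit 120) (Dv.wd (nat_lit 1) [Mv.b (nat_lit 182), Mv.b (nat_lit 197), Mv.f (nat_lit 237)]))))) (Tr.nd (nat_lit 241) (Tr.nd (nat_lit 240) (Tr.lf (Fc.ed (nat_lit 239) (nat_lit 53) Col.b (nat_lit 156) Dv.df)) (Tr.lf (Fc.ed (nat_lit 240) (nat_lit 156) Col.c (nat_lit 157) Dv.df))) (Tr.nd (nat_lit 242) (Tr.lf (Fc.ed (nat_lit 241) (nat_lit 157) Col.b (nat_lit 110) (Dv.wd (nat_lit 7) [Mv.b (nat_lit 166), Mv.f (nat_lit 21), Mv.f (nat_lit 78), Mv.f (nat_lit 239), Mv.f (nat_lit 240)]))) (Tr.lf (Fc.ed (nat_lit 242) (nat_lit 157) Col.d (nat_lit 158) Dv.df))))) (Tr.nd (nat_lit 246) (Tr.nd (nat_lit 244) (Tr.lf (Fc.ed (nat_lit 243) (nat_lit 109) Col.b (nat_lit 159) Dv.df)) (Tr.nd (nat_lit 245) (Tr.lf (Fc.ed (nat_lit 244) (nat_lit 159) Col.c (nat_lit 160) Dv.df)) (Tr.lf (Fc.ed (nat_lit 245) (nat_lit 160) Col.b (nat_lit 123) (Dv.wd (nat_lit 7) [Mv.b (nat_lit 188), Mv.f (nat_lit 98), Mv.f (nat_lit 165), Mv.f (nat_lit 243), Mv.f (nat_lit 244)]))))) (Tr.nd (nat_lit 248) (Tr.nd (nat_lit 247) (Tr.lf (Fc.ed (nat_lit 246) (nat_lit 55) Col.b (nat_lit 161) Dv.df)) (Tr.lf (Fc.ed (nat_lit 247) (nat_lit 156) Col.d (nat_lit 162) Dv.df))) (Tr.nd (nat_lit 249) (Tr.lf (Fc.ed (nat_lit 248) (nat_lit 162) Col.b (nat_lit 104) (Dv.wd (nat_lit 1) [Mv.b (nat_lit 157), Mv.f (nat_lit 239), Mv.f (nat_lit 247)]))) (Tr.lf (Fc.ed (nat_lit 249) (nat_lit 108) Col.b (nat_lit 163) Dv.df))))))) (Tr.nd (nat_lit 264) (Tr.nd (nat_lit 257) (Tr.nd (nat_lit 253) (Tr.nd (nat_lit 251) (Tr.lf (Fc.ed (nat_lit 250) (nat_lit 163) Col.d (nat_lit 161) (Dv.wd (nat_lit 3) [Mv.b (nat_lit 246), Mv.f (nat_lit 164), Mv.f (nat_lit 249)]))) (Tr.nd (nat_lit 252) (Tr.lf (Fc.ed (nat_lit 251) (nat_lit 86) Col.a (nat_lit 164) Dv.df)) (Tr.lf (Fc.ed (nat_lit 252) (nat_lit 43) Col.a (nat_lit 165) Dv.df)))) (Tr.nd (nat_lit 255) (Tr.nd (nat_lit 254) (Tr.lf (Fc.ed (nat_lit 253) (nat_lit 165) Col.d (nat_lit 153) (Dv.wd (nat_lit 2) [Mv.b (nat_lit 234), Mv.f (nat_lit 64), Mv.f (nat_lit 252)]))) (Tr.lf (Fc.ed (nat_lit 254) (nat_lit 159) Col.d (nat_lit 166) Dv.df))) (Tr.nd (nat_lit 256) (Tr.lf (Fc.ed (nat_lit 255) (nat_lit 166) Col.b (nat_lit 135) (Dv.wd (nat_lit 1) [Mv.f (nat_lit 206), Mv.f (nat_lit 243), Mv.f (nat_lit 254)]))) (Tr.lf (Fc.ed (nat_lit 256) (nat_lit 101) Col.b (nat_lit 167) Dv.df))))) (Tr.nd (nat_lit 260) (Tr.nd (nat_lit 258) (Tr.lf (Fc.ed (nat_lit 257) (nat_lit 167) Col.c (nat_lit 161) (Dv.wd (nat_lit 4) [Mv.b (nat_lit 246), Mv.b (nat_lit 81), Mv.f (nat_lit 85), Mv.b (nat_lit 154), Mv.f (nat_lit 256)]))) (Tr.nd (nat_lit 259) (Tr.lf (Fc.ed (nat_lit 258) (nat_lit 118) Col.a (nat_lit 168) Dv.df)) (Tr.lf (Fc.ed (nat_lit 259) (nat_lit 164) Col.d (nat_lit 169) Dv.df)))) (Tr.nd (nat_lit 262) (Tr.nd (nat_lit 261) (Tr.lf (Fc.ed (nat_lit 260) (nat_lit 169) Col.a (nat_lit 87) (Dv.wd (nat_lit 5) [Mv.f (nat_lit 133), Mv.f (nat_lit 251), Mv.f (nat_lit 259)]))) (Tr.lf (Fc.ed (nat_lit 261) (nat_lit 37) Col.c (nat_lit 170) Dv.df))) (Tr.nd (nat_lit 263) (Tr.lf (Fc.ed (nat_lit 262) (nat_lit 114) Col.a (nat_lit 171) Dv.df)) (Tr.lf (Fc.ed (nat_lit 263) (nat_lit 171) Col.c (nat_lit 168) (Dv.wd (nat_lit 0) [Mv.b (nat_lit 258), Mv.f (nat_lit 179), Mv.f (nat_lit 262)]))))))) (Tr.nd (nat_lit 271) (Tr.nd (nat_lit 267) (Tr.nd (nat_lit 265) (Tr.lf (Fc.ed (nat_lit 264) (nat_lit 139) Col.c (nat_lit 172) Dv.df)) (Tr.nd (nat_lit 266) (Tr.lf (Fc.ed (nat_lit 265) (nat_lit 122) Col.a (nat_lit 173) Dv.df)) (Tr.lf (Fc.ed (nat_lit 266) (nat_lit 173) Col.d (nat_lit 168) (Dv.wd (nat_lit 2) [Mv.b (nat_lit 258), Mv.b (nat_lit 187), Mv.f (nat_lit 265)]))))) (Tr.nd (nat_lit 269) (Tr.nd (nat_lit 268) (Tr.lf (Fc.ed (nat_lit 267) (nat_lit 171) Col.d (nat_lit 174) Dv.df)) (Tr.lf (Fc.ed (nat_lit 268) (nat_lit 174) Col.a (nat_lit 117) (Dv.wd (nat_lit 5) [Mv.f (nat_lit 177), Mv.f (nat_lit 262), Mv.f (nat_lit 267)])))) (Tr.nd (nat_lit 270) (Tr.lf (Fc.ed (nat_lit 269) (nat_lit 84) Col.a (nat_lit 175) Dv.df)) (Tr.lf (Fc.ed (nat_lit 270) (nat_lit 175) Col.c (nat_lit 164) (Dv.wd (nat_lit 0) [Mv.b (nat_lit 251), Mv.b (nat_lit 130), Mv.f (nat_lit 269)])))))) (Tr.nd (nat_lit 274) (Tr.nd (nat_lit 272) (Tr.lf (Fc.ed (nat_lit 271) (nat_lit 82) Col.b (nat_lit 176) Dv.df)) (Tr.nd (nat_lit 273) (Tr.lf (Fc.ed (nat_lit 272) (nat_lit 176) Col.c (nat_lit 177) Dv.df)) (Tr.lf (Fc.ed (nat_lit 273) (nat_lit 177) Col.b (nat_lit 170) (Dv.wd (nat_lit 7) [Mv.b (nat_lit 261), Mv.b (nat_lit 50), Mv.b (nat_lit 125), Mv.f (nat_lit 271), Mv.f (nat_lit 272)]))))) (Tr.nd (nat_lit 276) (Tr.nd (nat_lit 275) (Tr.lf (Fc.ed (nat_lit 274) (nat_lit 167) Col.d (nat_lit 178) Dv.df)) (Tr.lf (Fc.ed (nat_lit 275) (nat_lit 178) Col.b (nat_lit 134) (Dv.wd (nat_lit 1) [Mv.b (nat_lit 203), Mv.f (nat_lit 256), Mv.f (nat_lit 274)])))) (Tr.nd (nat_lit 277) (Tr.lf (Fc.ed (nat_lit 276) (nat_lit 105) Col.a (nat_lit 179) Dv.df)) (Tr.lf (Fc.ed (nat_lit 277) (nat_lit 160) Col.d (nat_lit 180) Dv.df)))))))) (Tr.nd (nat_lit 306) (Tr.nd (nat_lit 292) (Tr.nd (nat_lit 285) (Tr.nd (nat_lit 281) (Tr.nd (nat_lit 279) (Tr.lf (Fc.ed (nat_lit 278) (nat_lit 180) Col.b (nat_lit 125) (Dv.wd (nat_lit 1) [Mv.b (nat_lit 190), Mv.b (nat_lit 245), Mv.f (nat_lit 277)]))) (Tr.nd (nat_lit 280) (Tr.lf (Fc.ed (nat_lit 279) (nat_lit 176) Col.d (nat_lit 181) Dv.df)) (Tr.lf (Fc.ed (nat_lit 280) (nat_lit 181) Col.b (nat_lit 121) (Dv.wd (nat_lit 1) [Mv.f (nat_lit 185), Mv.f (nat_lit 271), Mv.f (nat_lit 279)]))))) (Tr.nd (nat_lit 283) (Tr.nd (nat_lit 282) (Tr.lf (Fc.ed (nat_lit 281) (nat_lit 172) Col.b (nat_lit 182) Dv.df)) (Tr.lf (Fc.ed (nat_lit 282) (nat_lit 182) Col.c (nat_lit 152) (Dv.wd (nat_lit 4) [Mv.b (nat_lit 232), Mv.f (nat_lit 148), Mv.b (nat_lit 211), Mv.f (nat_lit 264), Mv.f (nat_lit 281)])))) (Tr.nd (nat_lit 284) (Tr.lf (Fc.ed (nat_lit 283) (nat_lit 179) Col.c (nat_lit 183) Dv.df)) (Tr.lf (Fc.ed (nat_lit 284) (nat_lit 183) Col.a (nat_lit 142) (Dv.wd (nat_lit 6) [Mv.b (nat_lit 216), Mv.f (nat_lit 276), Mv.f (nat_lit 283)])))))) (Tr.nd (nat_lit 288) (Tr.nd (nat_lit 286) (Tr.lf (Fc.ed (nat_lit 285) (nat_lit 1) Col.c (nat_lit 184) Dv.df)) (Tr.nd (nat_lit 287) (Tr.lf (Fc.ed (nat_lit 286) (nat_lit 165) Col.b (nat_lit 185) Dv.df)) (Tr.lf (Fc.ed (nat_lit 287) (nat_lit 185) Col.a (nat_lit 186) Dv.df)))) (Tr.nd (nat_lit 290) (Tr.nd (nat_lit 289) (Tr.lf (Fc.ed (nat_lit 288) (nat_lit 186) Col.b (nat_lit 175) (Dv.wd (nat_lit 8) [Mv.b (nat_lit 269), Mv.b (nat_lit 128), Mv.b (nat_lit 101), Mv.b (nat_lit 65), Mv.b (nat_lit 31), Mv.f (nat_lit 60), Mv.f (nat_lit 252), Mv.f (nat_lit 286), Mv.f (nat_lit 287)]))) (Tr.lf (Fc.ed (nat_lit 289) (nat_lit 130) Col.d (nat_lit 187) Dv.df))) (Tr.nd (nat_lit 291) (Tr.lf (Fc.ed (nat_lit 290) (nat_lit 187) Col.c (nat_lit 188) Dv.df)) (Tr.lf (Fc.ed (nat_lit 291) (nat_lit 188) Col.d (nat_lit 184) (Dv.wd (nat_lit 9) [Mv.b (nat_lit 285), Mv.b (nat_lit 27), Mv.f (nat_lit 106), Mv.f (nat_lit 134), Mv.f (nat_lit 135), Mv.f (nat_lit 198), Mv.f (nat_lit 289), Mv.f (nat_lit 290)]))))))) (Tr.nd (nat_lit 299) (Tr.nd (nat_lit 295) (Tr.nd (nat_lit 293) (Tr.lf (Fc.ed (nat_lit 292) (nat_lit 155) Col.c (nat_lit 189) Dv.df)) (Tr.nd (nat_lit 294) (Tr.lf (Fc.ed (nat_lit 293) (nat_lit 184) Col.a (nat_lit 190) Dv.df)) (Tr.lf (Fc.ed (nat_lit 294) (nat_lit 190) Col.c (nat_lit 0) (Dv.wd (nat_lit 0) [Mv.f (nat_lit 0), Mv.f (nat_lit 285), Mv.f (nat_lit 293)]))))) (Tr.nd (nat_lit 297) (Tr.nd (nat_lit 296) (Tr.lf (Fc.ed (nat_lit 295) (nat_lit 39) Col.b (nat_lit 191) Dv.df)) (Tr.lf (Fc.ed (nat_lit 296) (nat_lit 140) Col.a (nat_lit 192) Dv.df))) (Tr.nd (nat_lit 298) (Tr.lf (Fc.ed (nat_lit 297) (nat_lit 138) Col.a (nat_lit 193) Dv.df)) (Tr.lf (Fc.ed (nat_lit 298) (nat_lit 193) Col.c (nat_lit 192) (Dv.wd (nat_lit 0) [Mv.b (nat_lit 296), Mv.b (nat_lit 212), Mv.f (nat_lit 297)])))))) (Tr.nd (nat_lit 302) (Tr.nd (nat_lit 300) (Tr.lf (Fc.ed (nat_lit 299) (nat_lit 181) Col.c (nat_lit 194) Dv.df)) (Tr.nd (nat_lit 301) (Tr.lf (Fc.ed (nat_lit 300) (nat_lit 194) Col.b (nat_lit 189) (Dv.wd (nat_lit 7) [Mv.b (nat_lit 292), Mv.f (nat_lit 238), Mv.f (nat_lit 184), Mv.b (nat_lit 280), Mv.f (nat_lit 299)]))) (Tr.lf (Fc.ed (nat_lit 301) (nat_lit 26) Col.b (nat_lit 195) Dv.df)))) (Tr.nd (nat_lit 304) (Tr.nd (nat_lit 303) (Tr.lf (Fc.ed (nat_lit 302) (nat_lit 195) Col.d (nat_lit 191) (Dv.wd (nat_lit 3) [Mv.b (nat_lit 295), Mv.b (nat_lit 54), Mv.f (nat_lit 301)]))) (Tr.lf (Fc.ed (nat_lit 303) (nat_lit 162) Col.c (nat_lit 196) Dv.df))) (Tr.nd (nat_lit 305) (Tr.lf (Fc.ed (nat_lit 304) (nat_lit 193) Col.d (nat_lit 197) Dv.df)) (Tr.lf (Fc.ed (nat_lit 305) (nat_lit 197) Col.a (nat_lit 141) (Dv.wd (nat_lit 5) [Mv.b (nat_lit 214), Mv.f (nat_lit 297), Mv.f (nat_lit 304)])))))))) (Tr.nd (nat_lit 320) (Tr.nd (nat_lit 313) (Tr.nd (nat_lit 309) (Tr.nd (nat_lit 307) (Tr.lf (Fc.ed (nat_lit 306) (nat_lit 192) Col.d (nat_lit 198) Dv.df)) (Tr.nd (nat_lit 308) (Tr.lf (Fc.ed (nat_lit 307) (nat_lit 198) Col.a (nat_lit 148) (Dv.wd (nat_lit 5) [Mv.b (nat_lit 225), Mv.f (nat_lit 296), Mv.f (nat_lit 306)]))) (Tr.lf (Fc.ed (nat_lit 308) (nat_lit 153) Col.b (nat_lit 199) Dv.df)))) (Tr.nd (nat_lit 311) (Tr.nd (nat_lit 310) (Tr.lf (Fc.ed (nat_lit 309) (nat_lit 199) Col.d (nat_lit 185) (Dv.wd (nat_lit 3) [Mv.b (nat_lit 286), Mv.f (nat_lit 253), Mv.f (nat_lit 308)]))) (Tr.lf (Fc.ed (nat_lit 310) (nat_lit 154) Col.c (nat_lit 200) Dv.df))) (Tr.nd (nat_lit 312) (Tr.lf (Fc.ed (nat_lit 311) (nat_lit 200) Col.b (nat_lit 196) (Dv.wd (nat_lit 7) [Mv.b (nat_lit 303), Mv.f (nat_lit 248), Mv.f (nat_lit 161), Mv.b (nat_lit 236), Mv.f (nat_lit 310)]))) (Tr.lf (Fc.ed (nat_lit 312) (nat_lit 136) Col.a (nat_lit 201) Dv.df))))) (Tr.nd (nat_lit 316) (Tr.nd (nat_lit 314) (Tr.lf (Fc.ed (nat_lit 313) (nat_lit 199) Col.a (nat_lit 202) Dv.df)) (Tr.nd (nat_lit 315) (Tr.lf (Fc.ed (nat_lit 314) (nat_lit 202) Col.d (nat_lit 186) (Dv.wd (nat_lit 2) [Mv.b (nat_lit 287), Mv.b (nat_lit 309), Mv.f (nat_lit 313)]))) (Tr.lf (Fc.ed (nat_lit 315) (nat_lit 142) Col.d (nat_lit 203) Dv.df)))) (Tr.nd (nat_lit 318) (Tr.nd (nat_lit 317) (Tr.lf (Fc.ed (nat_lit 316) (nat_lit 195) Col.c (nat_lit 204) Dv.df)) (Tr.lf (Fc.ed (nat_lit 317) (nat_lit 204) Col.b (nat_lit 184) (Dv.wd (nat_lit 7) [Mv.b (nat_lit 285), Mv.f (nat_lit 1), Mv.f (nat_lit 33), Mv.f (nat_lit 301), Mv.f (nat_lit 316)])))) (Tr.nd (nat_lit 319) (Tr.lf (Fc.ed (nat_lit 318) (nat_lit 201) Col.c (nat_lit 205) Dv.df)) (Tr.lf (Fc.ed (nat_lit 319) (nat_lit 205) Col.a (nat_lit 133) (Dv.wd (nat_lit 6) [Mv.f (nat_lit 207), Mv.f (nat_lit 312), Mv.f (nat_lit 318)]))))))) (Tr.nd (nat_lit 327) (Tr.nd (nat_lit 323) (Tr.nd (nat_lit 321) (Tr.lf (Fc.ed (nat_lit 320) (nat_lit 153) Col.c (nat_lit 206) Dv.df)) (Tr.nd (nat_lit 322) (Tr.lf (Fc.ed (nat_lit 321) (nat_lit 124) Col.a (nat_lit 207) Dv.df)) (Tr.lf (Fc.ed (nat_lit 322) (nat_lit 102) Col.a (nat_lit 208) Dv.df)))) (Tr.nd (nat_lit 325) (Tr.nd (nat_lit 324) (Tr.lf (Fc.ed (nat_lit 323) (nat_lit 117) Col.c (nat_lit 209) Dv.df)) (Tr.lf (Fc.ed (nat_lit 324) (nat_lit 127) Col.a (nat_lit 210) Dv.df))) (Tr.nd (nat_lit 326) (Tr.lf (Fc.ed (nat_lit 325) (nat_lit 149) Col.c (nat_lit 211) Dv.df)) (Tr.lf (Fc.ed (nat_lit 326) (nat_lit 211) Col.b (nat_lit 209) (Dv.wd (nat_lit 7) [Mv.b (nat_lit 323), Mv.b (nat_lit 176), Mv.b (nat_lit 112), Mv.f (nat_lit 227), Mv.f (nat_lit 325)])))))) (Tr.nd (nat_lit 330) (Tr.nd (nat_lit 328) (Tr.lf (Fc.ed (nat_lit 327) (nat_lit 208) Col.d (nat_lit 212) Dv.df)) (Tr.nd (nat_lit 329) (Tr.lf (Fc.ed (nat_lit 328) (nat_lit 212) Col.a (nat_lit 99) (Dv.wd (nat_lit 5) [Mv.f (nat_lit 155), Mv.f (nat_lit 322), Mv.f (nat_lit 327)]))) (Tr.lf (Fc.ed (nat_lit 329) (nat_lit 139) Col.a (nat_lit 213) Dv.df)))) (Tr.nd (nat_lit 332) (Tr.nd (nat_lit 331) (Tr.lf (Fc.ed (nat_lit 330) (nat_lit 213) Col.c (nat_lit 214) Dv.df)) (Tr.lf (Fc.ed (nat_lit 331) (nat_lit 214) Col.a (nat_lit 172) (Dv.wd (nat_lit 6) [Mv.b (nat_lit 264), Mv.f (nat_lit 329), Mv.f (nat_lit 330)])))) (Tr.nd (nat_lit 333) (Tr.lf (Fc.ed (nat_lit 332) (nat_lit 213) Col.d (nat_lit 215) Dv.df)) (Tr.lf (Fc.ed (nat_lit 333) (nat_lit 215) Col.a (nat_lit 137) (Dv.wd (nat_lit 5) [Mv.f (nat_lit 210), Mv.f (nat_lit 329), Mv.f (nat_lit 332)])))))))))) (Tr.nd (nat_lit 390) (Tr.nd (nat_lit 362) (Tr.nd (nat_lit 348) (Tr.nd (nat_lit 341) (Tr.nd (nat_lit 337) (Tr.nd (nat_lit 335) (Tr.lf (Fc.ed (nat_lit 334) (nat_lit 129) Col.a (nat_lit 216) Dv.df)) (Tr.nd (nat_lit 336) (Tr.lf (Fc.ed (nat_lit 335) (nat_lit 216) Col.c (nat_lit 210) (Dv.wd (nat_lit 0) [Mv.b (nat_lit 324), Mv.f (nat_lit 196), Mv.f (nat_lit 334)]))) (Tr.lf (Fc.ed (nat_lit 336) (nat_lit 216) Col.d (nat_lit 217) Dv.df)))) (Tr.nd (nat_lit 339) (Tr.nd (nat_lit 338) (Tr.lf (Fc.ed (nat_lit 337) (nat_lit 217) Col.a (nat_lit 155) (Dv.wd (nat_lit 5) [Mv.b (nat_lit 237), Mv.f (nat_lit 334), Mv.f (nat_lit 336)]))) (Tr.lf (Fc.ed (nat_lit 338) (nat_lit 45) Col.c (nat_lit 218) Dv.df))) (Tr.nd (nat_lit 340) (Tr.lf (Fc.ed (nat_lit 339) (nat_lit 218) Col.a (nat_lit 206) (Dv.wd (nat_lit 6) [Mv.b (nat_lit 320), Mv.b (nat_lit 234), Mv.f (nat_lit 338)]))) (Tr.lf (Fc.ed (nat_lit 340) (nat_lit 210) Col.d (nat_lit 219) Dv.df))))) (Tr.nd (nat_lit 344) (Tr.nd (nat_lit 342) (Tr.lf (Fc.ed (nat_lit 341) (nat_lit 219) Col.a (nat_lit 128) (Dv.wd (nat_lit 5) [Mv.b (nat_lit 194), Mv.f (nat_lit 324), Mv.f (nat_lit 340)]))) (Tr.nd (nat_lit 343) (Tr.lf (Fc.ed (nat_lit 342) (nat_lit 169) Col.c (nat_lit 220) Dv.df)) (Tr.lf (Fc.ed (nat_lit 343) (nat_lit 174) Col.c (nat_lit 221) Dv.df)))) (Tr.nd (nat_lit 346) (Tr.nd (nat_lit 345) (Tr.lf (Fc.ed (nat_lit 344) (nat_lit 221) Col.a (nat_lit 209) (Dv.wd (nat_lit 6) [Mv.b (nat_lit 323), Mv.b (nat_lit 268), Mv.f (nat_lit 343)]))) (Tr.lf (Fc.ed (nat_lit 345) (nat_lit 183) Col.d (nat_lit 222) Dv.df))) (Tr.nd (nat_lit 347) (Tr.lf (Fc.ed (nat_lit 346) (nat_lit 222) Col.a (nat_lit 203) (Dv.wd (nat_lit 5) [Mv.b (nat_lit 315), Mv.b (nat_lit 284), Mv.f (nat_lit 345)]))) (Tr.lf (Fc.ed (nat_lit 347) (nat_lit 130) Col.b (nat_lit 223) Dv.df)))))) (Tr.nd (nat_lit 355) (Tr.nd (nat_lit 351) (Tr.nd (nat_lit 349) (Tr.lf (Fc.ed (nat_lit 348) (nat_lit 212) Col.c (nat_lit 224) Dv.df)) (Tr.nd (nat_lit 350) (Tr.lf (Fc.ed (nat_lit 349) (nat_lit 150) Col.a (nat_lit 225) Dv.df)) (Tr.lf (Fc.ed (nat_lit 350) (nat_lit 223) Col.d (nat_lit 226) Dv.df)))) (Tr.nd (nat_lit 353) (Tr.nd (nat_lit 352) (Tr.lf (Fc.ed (nat_lit 351) (nat_lit 226) Col.b (nat_lit 187) (Dv.wd (nat_lit 1) [Mv.b (nat_lit 289), Mv.f (nat_lit 347), Mv.f (nat_lit 350)]))) (Tr.lf (Fc.ed (nat_lit 352) (nat_lit 152) Col.a (nat_lit 227) Dv.df))) (Tr.nd (nat_lit 354) (Tr.lf (Fc.ed (nat_lit 353) (nat_lit 227) Col.d (nat_lit 225) (Dv.wd (nat_lit 2) [Mv.b (nat_lit 349), Mv.b (nat_lit 233), Mv.f (nat_lit 352)]))) (Tr.lf (Fc.ed (nat_lit 354) (nat_lit 225) Col.c (nat_lit 228) Dv.df))))) (Tr.nd (nat_lit 358) (Tr.nd (nat_lit 356) (Tr.lf (Fc.ed (nat_lit 355) (nat_lit 228) Col.a (nat_lit 151) (Dv.wd (nat_lit 6) [Mv.b (nat_lit 230), Mv.f (nat_lit 349), Mv.f (nat_lit 354)]))) (Tr.nd (nat_lit 357) (Tr.lf (Fc.ed (nat_lit 356) (nat_lit 124) Col.c (nat_lit 229) Dv.df)) (Tr.lf (Fc.ed (nat_lit 357) (nat_lit 227) Col.c (nat_lit 230) Dv.df)))) (Tr.nd (nat_lit 360) (Tr.nd (nat_lit 359) (Tr.lf (Fc.ed (nat_lit 358) (nat_lit 230) Col.a (nat_lit 182) (Dv.wd (nat_lit 6) [Mv.f (nat_lit 282), Mv.f (nat_lit 352), Mv.f (nat_lit 357)]))) (Tr.lf (Fc.ed (nat_lit 359) (nat_lit 145) Col.b (nat_lit 231) Dv.df))) (Tr.nd (nat_lit 361) (Tr.lf (Fc.ed (nat_lit 360) (nat_lit 223) Col.c (nat_lit 232) Dv.df)) (Tr.lf (Fc.ed (nat_lit 361) (nat_lit 232) Col.b (nat_lit 229) (Dv.wd (nat_lit 7) [Mv.b (nat_lit 356), Mv.b (nat_lit 189), Mv.f (nat_lit 198), Mv.f (nat_lit 347), Mv.f (nat_lit 360)])))))))) (Tr.nd (nat_lit 376) (Tr.nd (nat_lit 369) (Tr.nd (nat_lit 365) (Tr.nd (nat_lit 363) (Tr.lf (Fc.ed (nat_lit 362) (nat_lit 143) Col.c (nat_lit 233) Dv.df)) (Tr.nd (nat_lit 364) (Tr.lf (Fc.ed (nat_lit 363) (nat_lit 233) Col.a (nat_lit 234) Dv.df)) (Tr.lf (Fc.ed (nat_lit 364) (nat_lit 234) Col.c (nat_lit 145) (Dv.wd (nat_lit 0) [Mv.f (nat_lit 220), Mv.f (nat_lit 362), Mv.f (nat_lit 363)]))))) (Tr.nd (nat_lit 367) (Tr.nd (nat_lit 366) (Tr.lf (Fc.ed (nat_lit 365) (nat_lit 207) Col.c (nat_lit 235) Dv.df)) (Tr.lf (Fc.ed (nat_lit 366) (nat_lit 235) Col.a (nat_lit 229) (Dv.wd (nat_lit 6) [Mv.b (nat_lit 356), Mv.f (nat_lit 321), Mv.f (nat_lit 365)])))) (Tr.nd (nat_lit 368) (Tr.lf (Fc.ed (nat_lit 367) (nat_lit 170) Col.d (nat_lit 236) Dv.df)) (Tr.lf (Fc.ed (nat_lit 368) (nat_lit 234) Col.d (nat_lit 237) Dv.df))))) (Tr.nd (nat_lit 372) (Tr.nd (nat_lit 370) (Tr.lf (Fc.ed (nat_lit 369) (nat_lit 237) Col.c (nat_lit 236) (Dv.wd (nat_lit 10) [Mv.b (nat_lit 367), Mv.b (nat_lit 261), Mv.f (nat_lit 51), Mv.f (nat_lit 14), Mv.f (nat_lit 217), Mv.b (nat_lit 220), Mv.b (nat_lit 364), Mv.f (nat_lit 368)]))) (Tr.nd (nat_lit 371) (Tr.lf (Fc.ed (nat_lit 370) (nat_lit 228) Col.d (nat_lit 238) Dv.df)) (Tr.lf (Fc.ed (nat_lit 371) (nat_lit 238) Col.a (nat_lit 154) (Dv.wd (nat_lit 5) [Mv.b (nat_lit 235), Mv.b (nat_lit 355), Mv.f (nat_lit 370)]))))) (Tr.nd (nat_lit 374) (Tr.nd (nat_lit 373) (Tr.lf (Fc.ed (nat_lit 372) (nat_lit 113) Col.b (nat_lit 239) Dv.df)) (Tr.lf (Fc.ed (nat_lit 373) (nat_lit 218) Col.b (nat_lit 240) Dv.df))) (Tr.nd (nat_lit 375) (Tr.lf (Fc.ed (nat_lit 374) (nat_lit 240) Col.c (nat_lit 239) (Dv.wd (nat_lit 4) [Mv.b (nat_lit 372), Mv.b (nat_lit 171), Mv.f (nat_lit 63), Mv.f (nat_lit 338), Mv.f (nat_lit 373)]))) (Tr.lf (Fc.ed (nat_lit 375) (nat_lit 239) Col.d (nat_lit 241) Dv.df)))))) (Tr.nd (nat_lit 383) (Tr.nd (nat_lit 379) (Tr.nd (nat_lit 377) (Tr.lf (Fc.ed (nat_lit 376) (nat_lit 241) Col.b (nat_lit 119) (Dv.wd (nat_lit 1) [Mv.b (nat_lit 180), Mv.f (nat_lit 372), Mv.f (nat_lit 375)]))) (Tr.nd (nat_lit 378) (Tr.lf (Fc.ed (nat_lit 377) (nat_lit 157) Col.a (nat_lit 242) Dv.df)) (Tr.lf (Fc.ed (nat_lit 378) (nat_lit 156) Col.a (nat_lit 243) Dv.df)))) (Tr.nd (nat_lit 381) (Tr.nd (nat_lit 380) (Tr.lf (Fc.ed (nat_lit 379) (nat_lit 243) Col.c (nat_lit 242) (Dv.wd (nat_lit 0) [Mv.b (nat_lit 377), Mv.b (nat_lit 240), Mv.f (nat_lit 378)]))) (Tr.lf (Fc.ed (nat_lit 380) (nat_lit 230) Col.d (nat_lit 244) Dv.df))) (Tr.nd (nat_lit 382) (Tr.lf (Fc.ed (nat_lit 381) (nat_lit 178) Col.c (nat_lit 245) Dv.df)) (Tr.lf (Fc.ed (nat_lit 382) (nat_lit 158) Col.a (nat_lit 246) Dv.df))))) (Tr.nd (nat_lit 386) (Tr.nd (nat_lit 384) (Tr.lf (Fc.ed (nat_lit 383) (nat_lit 246) Col.d (nat_lit 242) (Dv.wd (nat_lit 2) [Mv.b (nat_lit 377), Mv.f (nat_lit 242), Mv.f (nat_lit 382)]))) (Tr.nd (nat_lit 385) (Tr.lf (Fc.ed (nat_lit 384) (nat_lit 200) Col.d (nat_lit 247) Dv.df)) (Tr.lf (Fc.ed (nat_lit 385) (nat_lit 247) Col.c (nat_lit 244) (Dv.wd (nat_lit 10) [Mv.b (nat_lit 380), Mv.b (nat_lit 357), Mv.f (nat_lit 353), Mv.f (nat_lit 354), Mv.f (nat_lit 370), Mv.f (nat_lit 371), Mv.f (nat_lit 310), Mv.f (nat_lit 384)]))))) (Tr.nd (nat_lit 388) (Tr.nd (nat_lit 387) (Tr.lf (Fc.ed (nat_lit 386) (nat_lit 245) Col.b (nat_lit 248) Dv.df)) (Tr.lf (Fc.ed (nat_lit 387) (nat_lit 248) Col.c (nat_lit 166) (Dv.wd (nat_lit 4) [Mv.f (nat_lit 255), Mv.b (nat_lit 205), Mv.b (nat_lit 275), Mv.f (nat_lit 381), Mv.f (nat_lit 386)])))) (Tr.nd (nat_lit 389) (Tr.lf (Fc.ed (nat_lit 388) (nat_lit 241) Col.c (nat_lit 249) Dv.df)) (Tr.lf (Fc.ed (nat_lit 389) (nat_lit 141) Col.c (nat_lit 250) Dv.df)))))))) (Tr.nd (nat_lit 418) (Tr.nd (nat_lit 404) (Tr.nd (nat_lit 397) (Tr.nd (nat_lit 393) (Tr.nd (nat_lit 391) (Tr.lf (Fc.ed (nat_lit 390) (nat_lit 149) Col.a (nat_lit 251) Dv.df)) (Tr.nd (nat_lit 392) (Tr.lf (Fc.ed (nat_lit 391) (nat_lit 249) Col.b (nat_lit 252) Dv.df)) (Tr.lf (Fc.ed (nat_lit 392) (nat_lit 252) Col.c (nat_lit 147) (Dv.wd (nat_lit 4) [Mv.b (nat_lit 223), Mv.b (nat_lit 181), Mv.b (nat_lit 376), Mv.f (nat_lit 388), Mv.f (nat_lit 391)]))))) (Tr.nd (nat_lit 395) (Tr.nd (nat_lit 394) (Tr.lf (Fc.ed (nat_lit 393) (nat_lit 246) Col.c (nat_lit 253) Dv.df)) (Tr.lf (Fc.ed (nat_lit 394) (nat_lit 128) Col.c (nat_lit 254) Dv.df))) (Tr.nd (nat_lit 396) (Tr.lf (Fc.ed (nat_lit 395) (nat_lit 250) Col.a (nat_lit 255) Dv.df)) (Tr.lf (Fc.ed (nat_lit 396) (nat_lit 255) Col.c (nat_lit 197) (Dv.wd (nat_lit 0) [Mv.f (nat_lit 305), Mv.f (nat_lit 389), Mv.f (nat_lit 395)])))))) (Tr.nd (nat_lit 400) (Tr.nd (nat_lit 398) (Tr.lf (Fc.ed (nat_lit 397) (nat_lit 180) Col.c (nat_lit 256) Dv.df)) (Tr.nd (nat_lit 399) (Tr.lf (Fc.ed (nat_lit 398) (nat_lit 256) Col.b (nat_lit 254) (Dv.wd (nat_lit 7) [Mv.b (nat_lit 394), Mv.f (nat_lit 195), Mv.f (nat_lit 192), Mv.b (nat_lit 278), Mv.f (nat_lit 397)]))) (Tr.lf (Fc.ed (nat_lit 399) (nat_lit 251) Col.d (nat_lit 257) Dv.df)))) (Tr.nd (nat_lit 402) (Tr.nd (nat_lit 401) (Tr.lf (Fc.ed (nat_lit 400) (nat_lit 257) Col.a (nat_lit 146) (Dv.wd (nat_lit 5) [Mv.b (nat_lit 228), Mv.f (nat_lit 390), Mv.f (nat_lit 399)]))) (Tr.lf (Fc.ed (nat_lit 401) (nat_lit 163) Col.c (nat_lit 258) Dv.df))) (Tr.nd (nat_lit 403) (Tr.lf (Fc.ed (nat_lit 402) (nat_lit 217) Col.c (nat_lit 259) Dv.df)) (Tr.lf (Fc.ed (nat_lit 403) (nat_lit 259) Col.a (nat_lit 189) (Dv.wd (nat_lit 6) [Mv.b (nat_lit 292), Mv.b (nat_lit 337), Mv.f (nat_lit 402)]))))))) (Tr.nd (nat_lit 411) (Tr.nd (nat_lit 407) (Tr.nd (nat_lit 405) (Tr.lf (Fc.ed (nat_lit 404) (nat_lit 236) Col.b (nat_lit 260) Dv.df)) (Tr.nd (nat_lit 406) (Tr.lf (Fc.ed (nat_lit 405) (nat_lit 260) Col.d (nat_lit 177) (Dv.wd (nat_lit 3) [Mv.f (nat_lit 273), Mv.f (nat_lit 367), Mv.f (nat_lit 404)]))) (Tr.lf (Fc.ed (nat_lit 406) (nat_lit 148) Col.c (nat_lit 261) Dv.df)))) (Tr.nd (nat_lit 409) (Tr.nd (nat_lit 408) (Tr.lf (Fc.ed (nat_lit 407) (nat_lit 261) Col.b (nat_lit 258) (Dv.wd (nat_lit 7) [Mv.b (nat_lit 401), Mv.b (nat_lit 249), Mv.b (nat_lit 170), Mv.b (nat_lit 226), Mv.f (nat_lit 406)]))) (Tr.lf (Fc.ed (nat_lit 408) (nat_lit 251) Col.c (nat_lit 262) Dv.df))) (Tr.nd (nat_lit 410) (Tr.lf (Fc.ed (nat_lit 409) (nat_lit 262) Col.a (nat_lit 211) (Dv.wd (nat_lit 6) [Mv.b (nat_lit 325), Mv.f (nat_lit 390), Mv.f (nat_lit 408)]))) (Tr.lf (Fc.ed (nat_lit 410) (nat_lit 173) Col.b (nat_lit 263) Dv.df))))) (Tr.nd (nat_lit 414) (Tr.nd (nat_lit 412) (Tr.lf (Fc.ed (nat_lit 411) (nat_lit 168) Col.b (nat_lit 264) Dv.df)) (Tr.nd (nat_lit 413) (Tr.lf (Fc.ed (nat_lit 412) (nat_lit 264) Col.d (nat_lit 263) (Dv.wd (nat_lit 3) [Mv.b (nat_lit 410), Mv.f (nat_lit 266), Mv.f (nat_lit 411)]))) (Tr.lf (Fc.ed (nat_lit 413) (nat_lit 261) Col.d (nat_lit 265) Dv.df)))) (Tr.nd (nat_lit 416) (Tr.nd (nat_lit 415) (Tr.lf (Fc.ed (nat_lit 414) (nat_lit 265) Col.c (nat_lit 266) Dv.df)) (Tr.lf (Fc.ed (nat_lit 415) (nat_lit 266) Col.d (nat_lit 255) (Dv.wd (nat_lit 9) [Mv.f (nat_lit 396), Mv.b (nat_lit 304), Mv.f (nat_lit 298), Mv.f (nat_lit 306), Mv.f (nat_lit 307), Mv.f (nat_lit 406), Mv.f (nat_lit 413), Mv.f (nat_lit 414)])))) (Tr.nd (nat_lit 417) (Tr.lf (Fc.ed (nat_lit 416) (nat_lit 262) Col.d (nat_lit 267) Dv.df)) (Tr.lf (Fc.ed (nat_lit 417) (nat_lit 252) Col.d (nat_lit 268) Dv.df))))))) (Tr.nd (nat_lit 432) (Tr.nd (nat_lit 425) (Tr.nd (nat_lit 421) (Tr.nd (nat_lit 419) (Tr.lf (Fc.ed (nat_lit 418) (nat_lit 268) Col.c (nat_lit 267) (Dv.wd (nat_lit 12) [Mv.b (nat_lit 416), Mv.b (nat_lit 408), Mv.f (nat_lit 399), Mv.f (nat_lit 400), Mv.b (nat_lit 221), Mv.b (nat_lit 224), Mv.b (nat_lit 392), Mv.f (nat_lit 417)]))) (Tr.nd (nat_lit 420) (Tr.lf (Fc.ed (nat_lit 419) (nat_lit 196) Col.d (nat_lit 269) Dv.df)) (Tr.lf (Fc.ed (nat_lit 420) (nat_lit 269) Col.b (nat_lit 247) (Dv.wd (nat_lit 1) [Mv.b (nat_lit 384), Mv.f (nat_lit 311), Mv.f (nat_lit 419)]))))) (Tr.nd (nat_lit 423) (Tr.nd (nat_lit 422) (Tr.lf (Fc.ed (nat_lit 421) (nat_lit 253) Col.d (nat_lit 270) Dv.df)) (Tr.lf (Fc.ed (nat_lit 422) (nat_lit 270) Col.c (nat_lit 269) (Dv.wd (nat_lit 10) [Mv.b (nat_lit 419), Mv.b (nat_lit 303), Mv.b (nat_lit 247), Mv.f (nat_lit 240), Mv.f (nat_lit 242), Mv.f (nat_lit 382), Mv.f (nat_lit 393), Mv.f (nat_lit 421)])))) (Tr.nd (nat_lit 424) (Tr.lf (Fc.ed (nat_lit 423) (nat_lit 179) Col.b (nat_lit 271) Dv.df)) (Tr.lf (Fc.ed (nat_lit 424) (nat_lit 161) Col.a (nat_lit 272) Dv.df))))) (Tr.nd (nat_lit 428) (Tr.nd (nat_lit 426) (Tr.lf (Fc.ed (nat_lit 425) (nat_lit 171) Col.b (nat_lit 273) Dv.df)) (Tr.nd (nat_lit 427) (Tr.lf (Fc.ed (nat_lit 426) (nat_lit 174) Col.b (nat_lit 274) Dv.df)) (Tr.lf (Fc.ed (nat_lit 427) (nat_lit 274) Col.d (nat_lit 273) (Dv.wd (nat_lit 3) [Mv.b (nat_lit 425), Mv.f (nat_lit 267), Mv.f (nat_lit 426)]))))) (Tr.nd (nat_lit 430) (Tr.nd (nat_lit 429) (Tr.lf (Fc.ed (nat_lit 428) (nat_lit 181) Col.a (nat_lit 275) Dv.df)) (Tr.lf (Fc.ed (nat_lit 429) (nat_lit 272) Col.c (nat_lit 276) Dv.df))) (Tr.nd (nat_lit 431) (Tr.lf (Fc.ed (nat_lit 430) (nat_lit 276) Col.a (nat_lit 167) (Dv.wd (nat_lit 6) [Mv.f (nat_lit 257), Mv.f (nat_lit 424), Mv.f (nat_lit 429)]))) (Tr.lf (Fc.ed (nat_lit 431) (nat_lit 276) Col.d (nat_lit 277) Dv.df)))))) (Tr.nd (nat_lit 439) (Tr.nd (nat_lit 435) (Tr.nd (nat_lit 433) (Tr.lf (Fc.ed (nat_lit 432) (nat_lit 277) Col.a (nat_lit 178) (Dv.wd (nat_lit 5) [Mv.b (nat_lit 274), Mv.b (nat_lit 430), Mv.f (nat_lit 431)]))) (Tr.nd (nat_lit 434) (Tr.lf (Fc.ed (nat_lit 433) (nat_lit 160) Col.a (nat_lit 278) Dv.df)) (Tr.lf (Fc.ed (nat_lit 434) (nat_lit 180) Col.a (nat_lit 279) Dv.df)))) (Tr.nd (nat_lit 437) (Tr.nd (nat_lit 436) (Tr.lf (Fc.ed (nat_lit 435) (nat_lit 275) Col.d (nat_lit 280) Dv.df)) (Tr.lf (Fc.ed (nat_lit 436) (nat_lit 280) Col.a (nat_lit 176) (Dv.wd (nat_lit 5) [Mv.f (nat_lit 279), Mv.f (nat_lit 428), Mv.f (nat_lit 435)])))) (Tr.nd (nat_lit 438) (Tr.lf (Fc.ed (nat_lit 437) (nat_lit 204) Col.d (nat_lit 281) Dv.df)) (Tr.lf (Fc.ed (nat_lit 438) (nat_lit 281) Col.b (nat_lit 188) (Dv.wd (nat_lit 1) [Mv.f (nat_lit 291), Mv.b (nat_lit 317), Mv.f (nat_lit 437)])))))) (Tr.nd (nat_lit 442) (Tr.nd (nat_lit 440) (Tr.lf (Fc.ed (nat_lit 439) (nat_lit 122) Col.c (nat_lit 282) Dv.df)) (Tr.nd (nat_lit 441) (Tr.lf (Fc.ed (nat_lit 440) (nat_lit 282) Col.d (nat_lit 283) Dv.df)) (Tr.lf (Fc.ed (nat_lit 441) (nat_lit 282) Col.b (nat_lit 284) Dv.df)))) (Tr.nd (nat_lit 444) (Tr.nd (nat_lit 443) (Tr.lf (Fc.ed (nat_lit 442) (nat_lit 284) Col.c (nat_lit 100) (Dv.wd (nat_lit 4) [Mv.b (nat_lit 152), Mv.f (nat_lit 143), Mv.f (nat_lit 186), Mv.f (nat_lit 439), Mv.f (nat_lit 441)]))) (Tr.lf (Fc.ed (nat_lit 443) (nat_lit 221) Col.d (nat_lit 285) Dv.df))) (Tr.nd (nat_lit 445) (Tr.lf (Fc.ed (nat_lit 444) (nat_lit 285) Col.c (nat_lit 283) (Dv.wd (nat_lit 10) [Mv.b (nat_lit 440), Mv.b (nat_lit 439), Mv.f (nat_lit 187), Mv.f (nat_lit 179), Mv.b (nat_lit 177), Mv.b (nat_lit 268), Mv.f (nat_lit 343), Mv.f (nat_lit 443)]))) (Tr.lf (Fc.ed (nat_lit 445) (nat_lit 278) Col.c (nat_lit 286) Dv.df))))))))))) (Tr.nd (nat_lit 669) (Tr.nd (nat_lit 557) (Tr.nd (nat_lit 501) (Tr.nd (nat_lit 473) (Tr.nd (nat_lit 459) (Tr.nd (nat_lit 452) (Tr.nd (nat_lit 449) (Tr.nd (nat_lit 447) (Tr.lf (Fc.ed (nat_lit 446) (nat_lit 286) Col.a (nat_lit 159) (Dv.wd (nat_lit 6) [Mv.f (nat_lit 244), Mv.f (nat_lit 433), Mv.f (nat_lit 445)]))) (Tr.nd (nat_lit 448) (Tr.lf (Fc.ed (nat_lit 447) (nat_lit 177) Col.a (nat_lit 287) Dv.df)) (Tr.lf (Fc.ed (nat_lit 448) (nat_lit 287) Col.c (nat_lit 280) (Dv.wd (nat_lit 0) [Mv.f (nat_lit 436), Mv.f (nat_lit 272), Mv.f (nat_lit 447)]))))) (Tr.nd (nat_lit 450) (Tr.lf (Fc.ed (nat_lit 449) (nat_lit 286) Col.d (nat_lit 288) Dv.df)) (Tr.nd (nat_lit 451) (Tr.lf (Fc.ed (nat_lit 450) (nat_lit 288) Col.a (nat_lit 166) (Dv.wd (nat_lit 5) [Mv.b (nat_lit 254), Mv.b (nat_lit 446), Mv.f (nat_lit 449)]))) (Tr.lf (Fc.ed (nat_lit 451) (nat_lit 279) Col.c (nat_lit 289) Dv.df))))) (Tr.nd (nat_lit 455) (Tr.nd (nat_lit 453) (Tr.lf (Fc.ed (nat_lit 452) (nat_lit 289) Col.a (nat_lit 256) (Dv.wd (nat_lit 6) [Mv.b (nat_lit 397), Mv.f (nat_lit 434), Mv.f (nat_lit 451)]))) (Tr.nd (nat_lit 454) (Tr.lf (Fc.ed (nat_lit 453) (nat_lit 194) Col.a (nat_lit 290) Dv.df)) (Tr.lf (Fc.ed (nat_lit 454) (nat_lit 290) Col.c (nat_lit 275) (Dv.wd (nat_lit 0) [Mv.b (nat_lit 428), Mv.f (nat_lit 299), Mv.f (nat_lit 453)]))))) (Tr.nd (nat_lit 457) (Tr.nd (nat_lit 456) (Tr.lf (Fc.ed (nat_lit 455) (nat_lit 194) Col.d (nat_lit 291) Dv.df)) (Tr.lf (Fc.ed (nat_lit 456) (nat_lit 254) Col.d (nat_lit 292) Dv.df))) (Tr.nd (nat_lit 458) (Tr.lf (Fc.ed (nat_lit 457) (nat_lit 292) Col.c (nat_lit 293) Dv.df)) (Tr.lf (Fc.ed (nat_lit 458) (nat_lit 293) Col.d (nat_lit 259) (Dv.wd (nat_lit 9) [Mv.b (nat_lit 402), Mv.b (nat_lit 336), Mv.f (nat_lit 335), Mv.f (nat_lit 340), Mv.f (nat_lit 341), Mv.f (nat_lit 394), Mv.f (nat_lit 456), Mv.f (nat_lit 457)]))))))) (Tr.nd (nat_lit 466) (Tr.nd (nat_lit 462) (Tr.nd (nat_lit 460) (Tr.lf (Fc.ed (nat_lit 459) (nat_lit 189) Col.d (nat_lit 294) Dv.df)) (Tr.nd (nat_lit 461) (Tr.lf (Fc.ed (nat_lit 460) (nat_lit 294) Col.a (nat_lit 293) (Dv.wd (nat_lit 5) [Mv.f (nat_lit 458), Mv.f (nat_lit 403), Mv.f (nat_lit 459)]))) (Tr.lf (Fc.ed (nat_lit 461) (nat_lit 294) Col.b (nat_lit 291) (Dv.wd (nat_lit 1) [Mv.b (nat_lit 455), Mv.f (nat_lit 300), Mv.f (nat_lit 459)]))))) (Tr.nd (nat_lit 464) (Tr.nd (nat_lit 463) (Tr.lf (Fc.ed (nat_lit 462) (nat_lit 289) Col.d (nat_lit 295) Dv.df)) (Tr.lf (Fc.ed (nat_lit 463) (nat_lit 248) Col.d (nat_lit 296) Dv.df))) (Tr.nd (nat_lit 465) (Tr.lf (Fc.ed (nat_lit 464) (nat_lit 248) Col.a (nat_lit 297) Dv.df)) (Tr.lf (Fc.ed (nat_lit 465) (nat_lit 297) Col.c (nat_lit 288) (Dv.wd (nat_lit 0) [Mv.f (nat_lit 450), Mv.b (nat_lit 387), Mv.f (nat_lit 464)])))))) (Tr.nd (nat_lit 469) (Tr.nd (nat_lit 467) (Tr.lf (Fc.ed (nat_lit 466) (nat_lit 186) Col.c (nat_lit 298) Dv.df)) (Tr.nd (nat_lit 468) (Tr.lf (Fc.ed (nat_lit 467) (nat_lit 199) Col.c (nat_lit 299) Dv.df)) (Tr.lf (Fc.ed (nat_lit 468) (nat_lit 198) Col.b (nat_lit 300) Dv.df)))) (Tr.nd (nat_lit 471) (Tr.nd (nat_lit 470) (Tr.lf (Fc.ed (nat_lit 469) (nat_lit 202) Col.c (nat_lit 301) Dv.df)) (Tr.lf (Fc.ed (nat_lit 470) (nat_lit 301) Col.a (nat_lit 299) (Dv.wd (nat_lit 6) [Mv.b (nat_lit 467), Mv.f (nat_lit 313), Mv.f (nat_lit 469)])))) (Tr.nd (nat_lit 472) (Tr.lf (Fc.ed (nat_lit 471) (nat_lit 281) Col.c (nat_lit 302) Dv.df)) (Tr.lf (Fc.ed (nat_lit 472) (nat_lit 226) Col.c (nat_lit 303) Dv.df))))))) (Tr.nd (nat_lit 487) (Tr.nd (nat_lit 480) (Tr.nd (nat_lit 476) (Tr.nd (nat_lit 474) (Tr.lf (Fc.ed (nat_lit 473) (nat_lit 303) Col.b (nat_lit 302) (Dv.wd (nat_lit 7) [Mv.b (nat_lit 471), Mv.f (nat_lit 438), Mv.b (nat_lit 290), Mv.b (nat_lit 351), Mv.f (nat_lit 472)]))) (Tr.nd (nat_lit 475) (Tr.lf (Fc.ed (nat_lit 474) (nat_lit 222) Col.c (nat_lit 304) Dv.df)) (Tr.lf (Fc.ed (nat_lit 475) (nat_lit 164) Col.b (nat_lit 305) Dv.df)))) (Tr.nd (nat_lit 478) (Tr.nd (nat_lit 477) (Tr.lf (Fc.ed (nat_lit 476) (nat_lit 169) Col.b (nat_lit 306) Dv.df)) (Tr.lf (Fc.ed (nat_lit 477) (nat_lit 306) Col.d (nat_lit 305) (Dv.wd (nat_lit 3) [Mv.b (nat_lit 475), Mv.f (nat_lit 259), Mv.f (nat_lit 476)])))) (Tr.nd (nat_lit 479) (Tr.lf (Fc.ed (nat_lit 478) (nat_lit 195) Col.a (nat_lit 307) Dv.df)) (Tr.lf (Fc.ed (nat_lit 479) (nat_lit 300) Col.d (nat_lit 308) Dv.df))))) (Tr.nd (nat_lit 483) (Tr.nd (nat_lit 481) (Tr.lf (Fc.ed (nat_lit 480) (nat_lit 308) Col.b (nat_lit 192) (Dv.wd (nat_lit 1) [Mv.f (nat_lit 306), Mv.f (nat_lit 468), Mv.f (nat_lit 479)]))) (Tr.nd (nat_lit 482) (Tr.lf (Fc.ed (nat_lit 481) (nat_lit 307) Col.d (nat_lit 309) Dv.df)) (Tr.lf (Fc.ed (nat_lit 482) (nat_lit 309) Col.a (nat_lit 191) (Dv.wd (nat_lit 5) [Mv.b (nat_lit 302), Mv.f (nat_lit 478), Mv.f (nat_lit 481)]))))) (Tr.nd (nat_lit 485) (Tr.nd (nat_lit 484) (Tr.lf (Fc.ed (nat_lit 483) (nat_lit 309) Col.b (nat_lit 310) Dv.df)) (Tr.lf (Fc.ed (nat_lit 484) (nat_lit 310) Col.a (nat_lit 306) (Dv.wd (nat_lit 13) [Mv.b (nat_lit 476), Mv.f (nat_lit 260), Mv.b (nat_lit 132), Mv.f (nat_lit 100), Mv.b (nat_lit 85), Mv.f (nat_lit 75), Mv.f (nat_lit 295), Mv.b (nat_lit 482), Mv.f (nat_lit 483)])))) (Tr.nd (nat_lit 486) (Tr.lf (Fc.ed (nat_lit 485) (nat_lit 298) Col.b (nat_lit 311) Dv.df)) (Tr.lf (Fc.ed (nat_lit 486) (nat_lit 311) Col.c (nat_lit 305) (Dv.wd (nat_lit 4) [Mv.b (nat_lit 475), Mv.b (nat_lit 270), Mv.b (nat_lit 288), Mv.f (nat_lit 466), Mv.f (nat_lit 485)]))))))) (Tr.nd (nat_lit 494) (Tr.nd (nat_lit 490) (Tr.nd (nat_lit 488) (Tr.lf (Fc.ed (nat_lit 487) (nat_lit 290) Col.d (nat_lit 312) Dv.df)) (Tr.nd (nat_lit 489) (Tr.lf (Fc.ed (nat_lit 488) (nat_lit 312) Col.a (nat_lit 291) (Dv.wd (nat_lit 5) [Mv.b (nat_lit 455), Mv.f (nat_lit 453), Mv.f (nat_lit 487)]))) (Tr.lf (Fc.ed (nat_lit 489) (nat_lit 284) Col.d (nat_lit 313) Dv.df)))) (Tr.nd (nat_lit 492) (Tr.nd (nat_lit 491) (Tr.lf (Fc.ed (nat_lit 490) (nat_lit 313) Col.b (nat_lit 283) (Dv.wd (nat_lit 1) [Mv.b (nat_lit 440), Mv.f (nat_lit 441), Mv.f (nat_lit 489)]))) (Tr.lf (Fc.ed (nat_lit 491) (nat_lit 304) Col.d (nat_lit 314) Dv.df))) (Tr.nd (nat_lit 493) (Tr.lf (Fc.ed (nat_lit 492) (nat_lit 314) Col.c (nat_lit 313) (Dv.wd (nat_lit 10) [Mv.b (nat_lit 489), Mv.f (nat_lit 442), Mv.b (nat_lit 160), Mv.f (nat_lit 216), Mv.f (nat_lit 315), Mv.b (nat_lit 346), Mv.f (nat_lit 474), Mv.f (nat_lit 491)]))) (Tr.lf (Fc.ed (nat_lit 493) (nat_lit 245) Col.a (nat_lit 315) Dv.df))))) (Tr.nd (nat_lit 497) (Tr.nd (nat_lit 495) (Tr.lf (Fc.ed (nat_lit 494) (nat_lit 315) Col.c (nat_lit 277) (Dv.wd (nat_lit 0) [Mv.f (nat_lit 432), Mv.f (nat_lit 381), Mv.f (nat_lit 493)]))) (Tr.nd (nat_lit 496) (Tr.lf (Fc.ed (nat_lit 495) (nat_lit 295) Col.a (nat_lit 316) Dv.df)) (Tr.lf (Fc.ed (nat_lit 496) (nat_lit 316) Col.d (nat_lit 256) (Dv.wd (nat_lit 2) [Mv.b (nat_lit 452), Mv.f (nat_lit 462), Mv.f (nat_lit 495)]))))) (Tr.nd (nat_lit 499) (Tr.nd (nat_lit 498) (Tr.lf (Fc.ed (nat_lit 497) (nat_lit 292) Col.b (nat_lit 316) (Dv.wd (nat_lit 14) [Mv.f (nat_lit 496), Mv.f (nat_lit 398), Mv.f (nat_lit 456)]))) (Tr.lf (Fc.ed (nat_lit 498) (nat_lit 264) Col.c (nat_lit 317) Dv.df))) (Tr.nd (nat_lit 500) (Tr.lf (Fc.ed (nat_lit 499) (nat_lit 297) Col.d (nat_lit 318) Dv.df)) (Tr.lf (Fc.ed (nat_lit 500) (nat_lit 318) Col.a (nat_lit 296) (Dv.wd (nat_lit 5) [Mv.b (nat_lit 463), Mv.f (nat_lit 464), Mv.f (nat_lit 499)]))))))))) (Tr.nd (nat_lit 529) (Tr.nd (nat_lit 515) (Tr.nd (nat_lit 508) (Tr.nd (nat_lit 504) (Tr.nd (nat_lit 502) (Tr.lf (Fc.ed (nat_lit 501) (nat_lit 318) Col.c (nat_lit 316) (Dv.wd (nat_lit 10) [Mv.f (nat_lit 496), Mv.b (nat_lit 397), Mv.b (nat_lit 277), Mv.b (nat_lit 244), Mv.f (nat_lit 254), Mv.b (nat_lit 450), Mv.b (nat_lit 465), Mv.f (nat_lit 499)]))) (Tr.nd (nat_lit 503) (Tr.lf (Fc.ed (nat_lit 502) (nat_lit 317) Col.b (nat_lit 319) Dv.df)) (Tr.lf (Fc.ed (nat_lit 503) (nat_lit 319) Col.c (nat_lit 273) (Dv.wd (nat_lit 4) [Mv.b (nat_lit 425), Mv.f (nat_lit 263), Mv.f (nat_lit 411), Mv.f (nat_lit 498), Mv.f (nat_lit 502)]))))) (Tr.nd (nat_lit 506) (Tr.nd (nat_lit 505) (Tr.lf (Fc.ed (nat_lit 504) (nat_lit 260) Col.a (nat_lit 320) Dv.df)) (Tr.lf (Fc.ed (nat_lit 505) (nat_lit 320) Col.d (nat_lit 287) (Dv.wd (nat_lit 2) [Mv.b (nat_lit 447), Mv.b (nat_lit 405), Mv.f (nat_lit 504)])))) (Tr.nd (nat_lit 507) (Tr.lf (Fc.ed (nat_lit 506) (nat_lit 309) Col.c (nat_lit 321) Dv.df)) (Tr.lf (Fc.ed (nat_lit 507) (nat_lit 205) Col.b (nat_lit 322) Dv.df))))) (Tr.nd (nat_lit 511) (Tr.nd (nat_lit 509) (Tr.lf (Fc.ed (nat_lit 508) (nat_lit 302) Col.d (nat_lit 323) Dv.df)) (Tr.nd (nat_lit 510) (Tr.lf (Fc.ed (nat_lit 509) (nat_lit 207) Col.b (nat_lit 324) Dv.df)) (Tr.lf (Fc.ed (nat_lit 510) (nat_lit 193) Col.b (nat_lit 325) Dv.df)))) (Tr.nd (nat_lit 513) (Tr.nd (nat_lit 512) (Tr.lf (Fc.ed (nat_lit 511) (nat_lit 321) Col.d (nat_lit 326) Dv.df)) (Tr.lf (Fc.ed (nat_lit 512) (nat_lit 326) Col.c (nat_lit 323) (Dv.wd (nat_lit 10) [Mv.b (nat_lit 508), Mv.b (nat_lit 471), Mv.b (nat_lit 437), Mv.b (nat_lit 316), Mv.f (nat_lit 302), Mv.b (nat_lit 482), Mv.f (nat_lit 506), Mv.f (nat_lit 511)])))) (Tr.nd (nat_lit 514) (Tr.lf (Fc.ed (nat_lit 513) (nat_lit 299) Col.b (nat_lit 327) Dv.df)) (Tr.lf (Fc.ed (nat_lit 514) (nat_lit 322) Col.a (nat_lit 328) Dv.df)))))) (Tr.nd (nat_lit 522) (Tr.nd (nat_lit 518) (Tr.nd (nat_lit 516) (Tr.lf (Fc.ed (nat_lit 515) (nat_lit 197) Col.b (nat_lit 329) Dv.df)) (Tr.nd (nat_lit 517) (Tr.lf (Fc.ed (nat_lit 516) (nat_lit 329) Col.d (nat_lit 325) (Dv.wd (nat_lit 3) [Mv.b (nat_lit 510), Mv.f (nat_lit 304), Mv.f (nat_lit 515)]))) (Tr.lf (Fc.ed (nat_lit 517) (nat_lit 245) Col.d (nat_lit 330) Dv.df)))) (Tr.nd (nat_lit 520) (Tr.nd (nat_lit 519) (Tr.lf (Fc.ed (nat_lit 518) (nat_lit 330) Col.b (nat_lit 296) (Dv.wd (nat_lit 1) [Mv.b (nat_lit 463), Mv.b (nat_lit 386), Mv.f (nat_lit 517)]))) (Tr.lf (Fc.ed (nat_lit 519) (nat_lit 325) Col.a (nat_lit 331) Dv.df))) (Tr.nd (nat_lit 521) (Tr.lf (Fc.ed (nat_lit 520) (nat_lit 331) Col.b (nat_lit 328) (Dv.wd (nat_lit 8) [Mv.b (nat_lit 514), Mv.b (nat_lit 507), Mv.f (nat_lit 319), Mv.b (nat_lit 202), Mv.f (nat_lit 117), Mv.f (nat_lit 209), Mv.f (nat_lit 297), Mv.f (nat_lit 510), Mv.f (nat_lit 519)]))) (Tr.lf (Fc.ed (nat_lit 521) (nat_lit 327) Col.c (nat_lit 332) Dv.df))))) (Tr.nd (nat_lit 525) (Tr.nd (nat_lit 523) (Tr.lf (Fc.ed (nat_lit 522) (nat_lit 332) Col.b (nat_lit 206) (Dv.wd (nat_lit 7) [Mv.b (nat_lit 320), Mv.f (nat_lit 308), Mv.f (nat_lit 467), Mv.f (nat_lit 513), Mv.f (nat_lit 521)]))) (Tr.nd (nat_lit 524) (Tr.lf (Fc.ed (nat_lit 523) (nat_lit 332) Col.d (nat_lit 333) Dv.df)) (Tr.lf (Fc.ed (nat_lit 524) (nat_lit 240) Col.d (nat_lit 334) Dv.df)))) (Tr.nd (nat_lit 527) (Tr.nd (nat_lit 526) (Tr.lf (Fc.ed (nat_lit 525) (nat_lit 258) Col.d (nat_lit 335) Dv.df)) (Tr.lf (Fc.ed (nat_lit 526) (nat_lit 335) Col.b (nat_lit 265) (Dv.wd (nat_lit 1) [Mv.b (nat_lit 413), Mv.f (nat_lit 407), Mv.f (nat_lit 525)])))) (Tr.nd (nat_lit 528) (Tr.lf (Fc.ed (nat_lit 527) (nat_lit 315) Col.d (nat_lit 336) Dv.df)) (Tr.lf (Fc.ed (nat_lit 528) (nat_lit 336) Col.a (nat_lit 330) (Dv.wd (nat_lit 5) [Mv.b (nat_lit 517), Mv.f (nat_lit 493), Mv.f (nat_lit 527)])))))))) (Tr.nd (nat_lit 543) (Tr.nd (nat_lit 536) (Tr.nd (nat_lit 532) (Tr.nd (nat_lit 530) (Tr.lf (Fc.ed (nat_lit 529) (nat_lit 336) Col.c (nat_lit 335) (Dv.wd (nat_lit 10) [Mv.b (nat_lit 525), Mv.b (nat_lit 401), Mv.f (nat_lit 250), Mv.b (nat_lit 257), Mv.f (nat_lit 274), Mv.b (nat_lit 432), Mv.b (nat_lit 494), Mv.f (nat_lit 527)]))) (Tr.nd (nat_lit 531) (Tr.lf (Fc.ed (nat_lit 530) (nat_lit 220) Col.b (nat_lit 337) Dv.df)) (Tr.lf (Fc.ed (nat_lit 531) (nat_lit 337) Col.c (nat_lit 338) Dv.df)))) (Tr.nd (nat_lit 534) (Tr.nd (nat_lit 533) (Tr.lf (Fc.ed (nat_lit 532) (nat_lit 229) Col.d (nat_lit 339) Dv.df)) (Tr.lf (Fc.ed (nat_lit 533) (nat_lit 260) Col.c (nat_lit 340) Dv.df))) (Tr.nd (nat_lit 535) (Tr.lf (Fc.ed (nat_lit 534) (nat_lit 339) Col.a (nat_lit 341) Dv.df)) (Tr.lf (Fc.ed (nat_lit 535) (nat_lit 341) Col.d (nat_lit 235) (Dv.wd (nat_lit 2) [Mv.f (nat_lit 366), Mv.f (nat_lit 532), Mv.f (nat_lit 534)])))))) (Tr.nd (nat_lit 539) (Tr.nd (nat_lit 537) (Tr.lf (Fc.ed (nat_lit 536) (nat_lit 222) Col.b (nat_lit 342) Dv.df)) (Tr.nd (nat_lit 538) (Tr.lf (Fc.ed (nat_lit 537) (nat_lit 223) Col.a (nat_lit 343) Dv.df)) (Tr.lf (Fc.ed (nat_lit 538) (nat_lit 340) Col.d (nat_lit 344) Dv.df)))) (Tr.nd (nat_lit 541) (Tr.nd (nat_lit 540) (Tr.lf (Fc.ed (nat_lit 539) (nat_lit 344) Col.c (nat_lit 312) (Dv.wd (nat_lit 10) [Mv.b (nat_lit 487), Mv.f (nat_lit 454), Mv.f (nat_lit 435), Mv.b (nat_lit 448), Mv.b (nat_lit 505), Mv.b (nat_lit 504), Mv.f (nat_lit 533), Mv.f (nat_lit 538)]))) (Tr.lf (Fc.ed (nat_lit 540) (nat_lit 338) Col.b (nat_lit 345) Dv.df))) (Tr.nd (nat_lit 542) (Tr.lf (Fc.ed (nat_lit 541) (nat_lit 345) Col.c (nat_lit 306) (Dv.wd (nat_lit 4) [Mv.b (nat_lit 476), Mv.f (nat_lit 342), Mv.f (nat_lit 530), Mv.f (nat_lit 531), Mv.f (nat_lit 540)]))) (Tr.lf (Fc.ed (nat_lit 542) (nat_lit 342) Col.d (nat_lit 346) Dv.df)))))) (Tr.nd (nat_lit 550) (Tr.nd (nat_lit 546) (Tr.nd (nat_lit 544) (Tr.lf (Fc.ed (nat_lit 543) (nat_lit 346) Col.b (nat_lit 183) (Dv.wd (nat_lit 1) [Mv.f (nat_lit 345), Mv.f (nat_lit 536), Mv.f (nat_lit 542)]))) (Tr.nd (nat_lit 545) (Tr.lf (Fc.ed (nat_lit 544) (nat_lit 225) Col.b (nat_lit 347) Dv.df)) (Tr.lf (Fc.ed (nat_lit 545) (nat_lit 221) Col.b (nat_lit 348) Dv.df)))) (Tr.nd (nat_lit 548) (Tr.nd (nat_lit 547) (Tr.lf (Fc.ed (nat_lit 546) (nat_lit 348) Col.d (nat_lit 349) Dv.df)) (Tr.lf (Fc.ed (nat_lit 547) (nat_lit 349) Col.b (nat_lit 285) (Dv.wd (nat_lit 1) [Mv.b (nat_lit 443), Mv.f (nat_lit 545), Mv.f (nat_lit 546)])))) (Tr.nd (nat_lit 549) (Tr.lf (Fc.ed (nat_lit 548) (nat_lit 324) Col.a (nat_lit 350) Dv.df)) (Tr.lf (Fc.ed (nat_lit 549) (nat_lit 329) Col.a (nat_lit 351) Dv.df))))) (Tr.nd (nat_lit 553) (Tr.nd (nat_lit 551) (Tr.lf (Fc.ed (nat_lit 550) (nat_lit 351) Col.b (nat_lit 350) (Dv.wd (nat_lit 8) [Mv.b (nat_lit 548), Mv.b (nat_lit 509), Mv.b (nat_lit 321), Mv.b (nat_lit 189), Mv.b (nat_lit 135), Mv.b (nat_lit 215), Mv.b (nat_lit 305), Mv.f (nat_lit 515), Mv.f (nat_lit 549)]))) (Tr.nd (nat_lit 552) (Tr.lf (Fc.ed (nat_lit 551) (nat_lit 347) Col.d (nat_lit 352) Dv.df)) (Tr.lf (Fc.ed (nat_lit 552) (nat_lit 352) Col.b (nat_lit 227) (Dv.wd (nat_lit 1) [Mv.f (nat_lit 353), Mv.f (nat_lit 544), Mv.f (nat_lit 551)]))))) (Tr.nd (nat_lit 555) (Tr.nd (nat_lit 554) (Tr.lf (Fc.ed (nat_lit 553) (nat_lit 232) Col.d (nat_lit 353) Dv.df)) (Tr.lf (Fc.ed (nat_lit 554) (nat_lit 353) Col.b (nat_lit 339) (Dv.wd (nat_lit 1) [Mv.b (nat_lit 532), Mv.b (nat_lit 361), Mv.f (nat_lit 553)])))) (Tr.nd (nat_lit 556) (Tr.lf (Fc.ed (nat_lit 555) (nat_lit 274) Col.c (nat_lit 354) Dv.df)) (Tr.lf (Fc.ed (nat_lit 556) (nat_lit 224) Col.b (nat_lit 355) Dv.df))))))))) (Tr.nd (nat_lit 613) (Tr.nd (nat_lit 585) (Tr.nd (nat_lit 571) (Tr.nd (nat_lit 564) (Tr.nd (nat_lit 560) (Tr.nd (nat_lit 558) (Tr.lf (Fc.ed (nat_lit 557) (nat_lit 354) Col.b (nat_lit 356) Dv.df)) (Tr.nd (nat_lit 559) (Tr.lf (Fc.ed (nat_lit 558) (nat_lit 356) Col.c (nat_lit 348) (Dv.wd (nat_lit 4) [Mv.b (nat_lit 545), Mv.b (nat_lit 343), Mv.f (nat_lit 426), Mv.f (nat_lit 555), Mv.f (nat_lit 557)]))) (Tr.lf (Fc.ed (nat_lit 559) (nat_lit 343) Col.c (nat_lit 357) Dv.df)))) (Tr.nd (nat_lit 562) (Tr.nd (nat_lit 561) (Tr.lf (Fc.ed (nat_lit 560) (nat_lit 357) Col.a (nat_lit 232) (Dv.wd (nat_lit 6) [Mv.b (nat_lit 360), Mv.f (nat_lit 537), Mv.f (nat_lit 559)]))) (Tr.lf (Fc.ed (nat_lit 561) (nat_lit 226) Col.a (nat_lit 358) Dv.df))) (Tr.nd (nat_lit 563) (Tr.lf (Fc.ed (nat_lit 562) (nat_lit 358) Col.d (nat_lit 343) (Dv.wd (nat_lit 2) [Mv.b (nat_lit 537), Mv.f (nat_lit 350), Mv.f (nat_lit 561)]))) (Tr.lf (Fc.ed (nat_lit 563) (nat_lit 325) Col.c (nat_lit 359) Dv.df))))) (Tr.nd (nat_lit 567) (Tr.nd (nat_lit 565) (Tr.lf (Fc.ed (nat_lit 564) (nat_lit 352) Col.a (nat_lit 360) Dv.df)) (Tr.nd (nat_lit 566) (Tr.lf (Fc.ed (nat_lit 565) (nat_lit 231) Col.a (nat_lit 361) Dv.df)) (Tr.lf (Fc.ed (nat_lit 566) (nat_lit 357) Col.d (nat_lit 362) Dv.df)))) (Tr.nd (nat_lit 569) (Tr.nd (nat_lit 568) (Tr.lf (Fc.ed (nat_lit 567) (nat_lit 362) Col.a (nat_lit 353) (Dv.wd (nat_lit 5) [Mv.b (nat_lit 553), Mv.b (nat_lit 560), Mv.f (nat_lit 566)]))) (Tr.lf (Fc.ed (nat_lit 568) (nat_lit 263) Col.a (nat_lit 363) Dv.df))) (Tr.nd (nat_lit 570) (Tr.lf (Fc.ed (nat_lit 569) (nat_lit 363) Col.b (nat_lit 360) (Dv.wd (nat_lit 8) [Mv.b (nat_lit 564), Mv.f (nat_lit 552), Mv.b (nat_lit 352), Mv.b (nat_lit 232), Mv.f (nat_lit 147), Mv.f (nat_lit 186), Mv.f (nat_lit 265), Mv.f (nat_lit 410), Mv.f (nat_lit 568)]))) (Tr.lf (Fc.ed (nat_lit 570) (nat_lit 215) Col.b (nat_lit 364) Dv.df)))))) (Tr.nd (nat_lit 578) (Tr.nd (nat_lit 574) (Tr.nd (nat_lit 572) (Tr.lf (Fc.ed (nat_lit 571) (nat_lit 239) Col.a (nat_lit 365) Dv.df)) (Tr.nd (nat_lit 573) (Tr.lf (Fc.ed (nat_lit 572) (nat_lit 271) Col.c (nat_lit 366) Dv.df)) (Tr.lf (Fc.ed (nat_lit 573) (nat_lit 366) Col.b (nat_lit 367) Dv.df)))) (Tr.nd (nat_lit 576) (Tr.nd (nat_lit 575) (Tr.lf (Fc.ed (nat_lit 574) (nat_lit 367) Col.c (nat_lit 346) (Dv.wd (nat_lit 4) [Mv.f (nat_lit 543), Mv.b (nat_lit 283), Mv.f (nat_lit 423), Mv.f (nat_lit 572), Mv.f (nat_lit 573)]))) (Tr.lf (Fc.ed (nat_lit 575) (nat_lit 364) Col.a (nat_lit 368) Dv.df))) (Tr.nd (nat_lit 577) (Tr.lf (Fc.ed (nat_lit 576) (nat_lit 368) Col.b (nat_lit 369) Dv.df)) (Tr.lf (Fc.ed (nat_lit 577) (nat_lit 369) Col.a (nat_lit 271) (Dv.wd (nat_lit 13) [Mv.b (nat_lit 423), Mv.b (nat_lit 276), Mv.b (nat_lit 159), Mv.b (nat_lit 127), Mv.f (nat_lit 208), Mv.b (nat_lit 333), Mv.f (nat_lit 570), Mv.f (nat_lit 575), Mv.f (nat_lit 576)])))))) (Tr.nd (nat_lit 581) (Tr.nd (nat_lit 579) (Tr.lf (Fc.ed (nat_lit 578) (nat_lit 243) Col.b (nat_lit 370) Dv.df)) (Tr.nd (nat_lit 580) (Tr.lf (Fc.ed (nat_lit 579) (nat_lit 365) Col.c (nat_lit 371) Dv.df)) (Tr.lf (Fc.ed (nat_lit 580) (nat_lit 371) Col.a (nat_lit 240) (Dv.wd (nat_lit 6) [Mv.f (nat_lit 374), Mv.f (nat_lit 571), Mv.f (nat_lit 579)]))))) (Tr.nd (nat_lit 583) (Tr.nd (nat_lit 582) (Tr.lf (Fc.ed (nat_lit 581) (nat_lit 358) Col.c (nat_lit 372) Dv.df)) (Tr.lf (Fc.ed (nat_lit 582) (nat_lit 372) Col.a (nat_lit 303) (Dv.wd (nat_lit 6) [Mv.b (nat_lit 472), Mv.f (nat_lit 561), Mv.f (nat_lit 581)])))) (Tr.nd (nat_lit 584) (Tr.lf (Fc.ed (nat_lit 583) (nat_lit 340) Col.b (nat_lit 373) Dv.df)) (Tr.lf (Fc.ed (nat_lit 584) (nat_lit 359) Col.b (nat_lit 374) Dv.df))))))) (Tr.nd (nat_lit 599) (Tr.nd (nat_lit 592) (Tr.nd (nat_lit 588) (Tr.nd (nat_lit 586) (Tr.lf (Fc.ed (nat_lit 585) (nat_lit 374) Col.c (nat_lit 308) (Dv.wd (nat_lit 4) [Mv.f (nat_lit 480), Mv.b (nat_lit 298), Mv.f (nat_lit 510), Mv.f (nat_lit 563), Mv.f (nat_lit 584)]))) (Tr.nd (nat_lit 587) (Tr.lf (Fc.ed (nat_lit 586) (nat_lit 373) Col.c (nat_lit 375) Dv.df)) (Tr.lf (Fc.ed (nat_lit 587) (nat_lit 375) Col.b (nat_lit 237) (Dv.wd (nat_lit 7) [Mv.f (nat_lit 369), Mv.f (nat_lit 404), Mv.f (nat_lit 533), Mv.f (nat_lit 583), Mv.f (nat_lit 586)]))))) (Tr.nd (nat_lit 590) (Tr.nd (nat_lit 589) (Tr.lf (Fc.ed (nat_lit 588) (nat_lit 375) Col.d (nat_lit 376) Dv.df)) (Tr.lf (Fc.ed (nat_lit 589) (nat_lit 376) Col.b (nat_lit 234) (Dv.wd (nat_lit 1) [Mv.f (nat_lit 368), Mv.b (nat_lit 587), Mv.f (nat_lit 588)])))) (Tr.nd (nat_lit 591) (Tr.lf (Fc.ed (nat_lit 590) (nat_lit 246) Col.b (nat_lit 377) Dv.df)) (Tr.lf (Fc.ed (nat_lit 591) (nat_lit 377) Col.d (nat_lit 378) Dv.df))))) (Tr.nd (nat_lit 595) (Tr.nd (nat_lit 593) (Tr.lf (Fc.ed (nat_lit 592) (nat_lit 378) Col.b (nat_lit 242) (Dv.wd (nat_lit 1) [Mv.b (nat_lit 383), Mv.f (nat_lit 590), Mv.f (nat_lit 591)]))) (Tr.nd (nat_lit 594) (Tr.lf (Fc.ed (nat_lit 593) (nat_lit 341) Col.b (nat_lit 379) Dv.df)) (Tr.lf (Fc.ed (nat_lit 594) (nat_lit 371) Col.d (nat_lit 380) Dv.df)))) (Tr.nd (nat_lit 597) (Tr.nd (nat_lit 596) (Tr.lf (Fc.ed (nat_lit 595) (nat_lit 380) Col.a (nat_lit 334) (Dv.wd (nat_lit 5) [Mv.b (nat_lit 524), Mv.b (nat_lit 580), Mv.f (nat_lit 594)]))) (Tr.lf (Fc.ed (nat_lit 596) (nat_lit 370) Col.c (nat_lit 381) Dv.df))) (Tr.nd (nat_lit 598) (Tr.lf (Fc.ed (nat_lit 597) (nat_lit 379) Col.d (nat_lit 382) Dv.df)) (Tr.lf (Fc.ed (nat_lit 598) (nat_lit 382) Col.b (nat_lit 235) (Dv.wd (nat_lit 1) [Mv.b (nat_lit 535), Mv.f (nat_lit 593), Mv.f (nat_lit 597)]))))))) (Tr.nd (nat_lit 606) (Tr.nd (nat_lit 602) (Tr.nd (nat_lit 600) (Tr.lf (Fc.ed (nat_lit 599) (nat_lit 364) Col.c (nat_lit 383) Dv.df)) (Tr.nd (nat_lit 601) (Tr.lf (Fc.ed (nat_lit 600) (nat_lit 208) Col.b (nat_lit 384) Dv.df)) (Tr.lf (Fc.ed (nat_lit 601) (nat_lit 230) Col.b (nat_lit 385) Dv.df)))) (Tr.nd (nat_lit 604) (Tr.nd (nat_lit 603) (Tr.lf (Fc.ed (nat_lit 602) (nat_lit 300) Col.a (nat_lit 386) Dv.df)) (Tr.lf (Fc.ed (nat_lit 603) (nat_lit 268) Col.b (nat_lit 387) Dv.df))) (Tr.nd (nat_lit 605) (Tr.lf (Fc.ed (nat_lit 604) (nat_lit 387) Col.d (nat_lit 249) (Dv.wd (nat_lit 3) [Mv.f (nat_lit 391), Mv.f (nat_lit 417), Mv.f (nat_lit 603)]))) (Tr.lf (Fc.ed (nat_lit 605) (nat_lit 270) Col.b (nat_lit 388) Dv.df))))) (Tr.nd (nat_lit 609) (Tr.nd (nat_lit 607) (Tr.lf (Fc.ed (nat_lit 606) (nat_lit 378) Col.a (nat_lit 389) Dv.df)) (Tr.nd (nat_lit 608) (Tr.lf (Fc.ed (nat_lit 607) (nat_lit 389) Col.b (nat_lit 390) Dv.df)) (Tr.lf (Fc.ed (nat_lit 608) (nat_lit 390) Col.a (nat_lit 308) (Dv.wd (nat_lit 13) [Mv.f (nat_lit 480), Mv.b (nat_lit 296), Mv.f (nat_lit 213), Mv.f (nat_lit 168), Mv.b (nat_lit 241), Mv.f (nat_lit 377), Mv.b (nat_lit 592), Mv.f (nat_lit 606), Mv.f (nat_lit 607)]))))) (Tr.nd (nat_lit 611) (Tr.nd (nat_lit 610) (Tr.lf (Fc.ed (nat_lit 609) (nat_lit 262) Col.b (nat_lit 391) Dv.df)) (Tr.lf (Fc.ed (nat_lit 610) (nat_lit 380) Col.c (nat_lit 392) Dv.df))) (Tr.nd (nat_lit 612) (Tr.lf (Fc.ed (nat_lit 611) (nat_lit 253) Col.b (nat_lit 393) Dv.df)) (Tr.lf (Fc.ed (nat_lit 612) (nat_lit 393) Col.d (nat_lit 388) (Dv.wd (nat_lit 3) [Mv.b (nat_lit 605), Mv.b (nat_lit 421), Mv.f (nat_lit 611)]))))))))) (Tr.nd (nat_lit 641) (Tr.nd (nat_lit 627) (Tr.nd (nat_lit 620) (Tr.nd (nat_lit 616) (Tr.nd (nat_lit 614) (Tr.lf (Fc.ed (nat_lit 613) (nat_lit 385) Col.d (nat_lit 394) Dv.df)) (Tr.nd (nat_lit 615) (Tr.lf (Fc.ed (nat_lit 614) (nat_lit 394) Col.b (nat_lit 244) (Dv.wd (nat_lit 1) [Mv.b (nat_lit 380), Mv.f (nat_lit 601), Mv.f (nat_lit 613)]))) (Tr.lf (Fc.ed (nat_lit 615) (nat_lit 388) Col.c (nat_lit 394) (Dv.wd (nat_lit 15) [Mv.f (nat_lit 614), Mv.b (nat_lit 385), Mv.b (nat_lit 420), Mv.b (nat_lit 422), Mv.f (nat_lit 605)]))))) (Tr.nd (nat_lit 618) (Tr.nd (nat_lit 617) (Tr.lf (Fc.ed (nat_lit 616) (nat_lit 392) Col.d (nat_lit 395) Dv.df)) (Tr.lf (Fc.ed (nat_lit 617) (nat_lit 395) Col.c (nat_lit 387) (Dv.wd (nat_lit 10) [Mv.f (nat_lit 604), Mv.b (nat_lit 388), Mv.b (nat_lit 375), Mv.b (nat_lit 374), Mv.f (nat_lit 524), Mv.b (nat_lit 595), Mv.f (nat_lit 610), Mv.f (nat_lit 616)])))) (Tr.nd (nat_lit 619) (Tr.lf (Fc.ed (nat_lit 618) (nat_lit 214) Col.b (nat_lit 396) Dv.df)) (Tr.lf (Fc.ed (nat_lit 619) (nat_lit 352) Col.c (nat_lit 397) Dv.df))))) (Tr.nd (nat_lit 623) (Tr.nd (nat_lit 621) (Tr.lf (Fc.ed (nat_lit 620) (nat_lit 393) Col.c (nat_lit 398) Dv.df)) (Tr.nd (nat_lit 622) (Tr.lf (Fc.ed (nat_lit 621) (nat_lit 384) Col.d (nat_lit 399) Dv.df)) (Tr.lf (Fc.ed (nat_lit 622) (nat_lit 399) Col.b (nat_lit 212) (Dv.wd (nat_lit 1) [Mv.b (nat_lit 327), Mv.f (nat_lit 600), Mv.f (nat_lit 621)]))))) (Tr.nd (nat_lit 625) (Tr.nd (nat_lit 624) (Tr.lf (Fc.ed (nat_lit 623) (nat_lit 377) Col.c (nat_lit 400) Dv.df)) (Tr.lf (Fc.ed (nat_lit 624) (nat_lit 400) Col.b (nat_lit 398) (Dv.wd (nat_lit 7) [Mv.b (nat_lit 620), Mv.b (nat_lit 611), Mv.b (nat_lit 393), Mv.f (nat_lit 590), Mv.f (nat_lit 623)])))) (Tr.nd (nat_lit 626) (Tr.lf (Fc.ed (nat_lit 625) (nat_lit 385) Col.c (nat_lit 401) Dv.df)) (Tr.lf (Fc.ed (nat_lit 626) (nat_lit 401) Col.b (nat_lit 397) (Dv.wd (nat_lit 7) [Mv.b (nat_lit 619), Mv.f (nat_lit 552), Mv.f (nat_lit 357), Mv.f (nat_lit 601), Mv.f (nat_lit 625)]))))))) (Tr.nd (nat_lit 634) (Tr.nd (nat_lit 630) (Tr.nd (nat_lit 628) (Tr.lf (Fc.ed (nat_lit 627) (nat_lit 399) Col.a (nat_lit 402) Dv.df)) (Tr.nd (nat_lit 629) (Tr.lf (Fc.ed (nat_lit 628) (nat_lit 274) Col.a (nat_lit 403) Dv.df)) (Tr.lf (Fc.ed (nat_lit 629) (nat_lit 403) Col.b (nat_lit 402) (Dv.wd (nat_lit 8) [Mv.b (nat_lit 627), Mv.f (nat_lit 622), Mv.f (nat_lit 328), Mv.b (nat_lit 151), Mv.b (nat_lit 118), Mv.f (nat_lit 176), Mv.b (nat_lit 268), Mv.f (nat_lit 426), Mv.f (nat_lit 628)]))))) (Tr.nd (nat_lit 632) (Tr.nd (nat_lit 631) (Tr.lf (Fc.ed (nat_lit 630) (nat_lit 267) Col.b (nat_lit 404) Dv.df)) (Tr.lf (Fc.ed (nat_lit 631) (nat_lit 404) Col.d (nat_lit 391) (Dv.wd (nat_lit 3) [Mv.b (nat_lit 609), Mv.f (nat_lit 416), Mv.f (nat_lit 630)])))) (Tr.nd (nat_lit 633) (Tr.lf (Fc.ed (nat_lit 632) (nat_lit 355) Col.c (nat_lit 405) Dv.df)) (Tr.lf (Fc.ed (nat_lit 633) (nat_lit 404) Col.c (nat_lit 406) Dv.df))))) (Tr.nd (nat_lit 637) (Tr.nd (nat_lit 635) (Tr.lf (Fc.ed (nat_lit 634) (nat_lit 406) Col.b (nat_lit 395) (Dv.wd (nat_lit 7) [Mv.f (nat_lit 617), Mv.b (nat_lit 603), Mv.f (nat_lit 418), Mv.f (nat_lit 630), Mv.f (nat_lit 633)]))) (Tr.nd (nat_lit 636) (Tr.lf (Fc.ed (nat_lit 635) (nat_lit 382) Col.c (nat_lit 407) Dv.df)) (Tr.lf (Fc.ed (nat_lit 636) (nat_lit 407) Col.b (nat_lit 408) Dv.df)))) (Tr.nd (nat_lit 639) (Tr.nd (nat_lit 638) (Tr.lf (Fc.ed (nat_lit 637) (nat_lit 408) Col.c (nat_lit 324) (Dv.wd (nat_lit 4) [Mv.b (nat_lit 509), Mv.f (nat_lit 365), Mv.b (nat_lit 598), Mv.f (nat_lit 635), Mv.f (nat_lit 636)]))) (Tr.lf (Fc.ed (nat_lit 638) (nat_lit 405) Col.b (nat_lit 409) Dv.df))) (Tr.nd (nat_lit 640) (Tr.lf (Fc.ed (nat_lit 639) (nat_lit 409) Col.c (nat_lit 399) (Dv.wd (nat_lit 4) [Mv.f (nat_lit 622), Mv.f (nat_lit 348), Mv.f (nat_lit 556), Mv.f (nat_lit 632), Mv.f (nat_lit 638)]))) (Tr.lf (Fc.ed (nat_lit 640) (nat_lit 266) Col.b (nat_lit 410) Dv.df))))))) (Tr.nd (nat_lit 655) (Tr.nd (nat_lit 648) (Tr.nd (nat_lit 644) (Tr.nd (nat_lit 642) (Tr.lf (Fc.ed (nat_lit 641) (nat_lit 410) Col.c (nat_lit 411) Dv.df)) (Tr.nd (nat_lit 643) (Tr.lf (Fc.ed (nat_lit 642) (nat_lit 411) Col.b (nat_lit 336) (Dv.wd (nat_lit 7) [Mv.f (nat_lit 529), Mv.f (nat_lit 526), Mv.f (nat_lit 414), Mv.f (nat_lit 640), Mv.f (nat_lit 641)]))) (Tr.lf (Fc.ed (nat_lit 643) (nat_lit 410) Col.d (nat_lit 412) Dv.df)))) (Tr.nd (nat_lit 646) (Tr.nd (nat_lit 645) (Tr.lf (Fc.ed (nat_lit 644) (nat_lit 412) Col.b (nat_lit 255) (Dv.wd (nat_lit 1) [Mv.b (nat_lit 415), Mv.f (nat_lit 640), Mv.f (nat_lit 643)]))) (Tr.lf (Fc.ed (nat_lit 645) (nat_lit 329) Col.c (nat_lit 413) Dv.df))) (Tr.nd (nat_lit 647) (Tr.lf (Fc.ed (nat_lit 646) (nat_lit 361) Col.c (nat_lit 414) Dv.df)) (Tr.lf (Fc.ed (nat_lit 647) (nat_lit 414) Col.a (nat_lit 415) Dv.df))))) (Tr.nd (nat_lit 651) (Tr.nd (nat_lit 649) (Tr.lf (Fc.ed (nat_lit 648) (nat_lit 415) Col.c (nat_lit 231) (Dv.wd (nat_lit 0) [Mv.f (nat_lit 565), Mv.f (nat_lit 646), Mv.f (nat_lit 647)]))) (Tr.nd (nat_lit 650) (Tr.lf (Fc.ed (nat_lit 649) (nat_lit 304) Col.b (nat_lit 416) Dv.df)) (Tr.lf (Fc.ed (nat_lit 650) (nat_lit 416) Col.c (nat_lit 417) Dv.df)))) (Tr.nd (nat_lit 653) (Tr.nd (nat_lit 652) (Tr.lf (Fc.ed (nat_lit 651) (nat_lit 415) Col.b (nat_lit 418) Dv.df)) (Tr.lf (Fc.ed (nat_lit 652) (nat_lit 418) Col.c (nat_lit 376) (Dv.wd (nat_lit 4) [Mv.f (nat_lit 589), Mv.f (nat_lit 364), Mv.f (nat_lit 359), Mv.b (nat_lit 648), Mv.f (nat_lit 651)])))) (Tr.nd (nat_lit 654) (Tr.lf (Fc.ed (nat_lit 653) (nat_lit 372) Col.d (nat_lit 419) Dv.df)) (Tr.lf (Fc.ed (nat_lit 654) (nat_lit 412) Col.c (nat_lit 420) Dv.df)))))) (Tr.nd (nat_lit 662) (Tr.nd (nat_lit 658) (Tr.nd (nat_lit 656) (Tr.lf (Fc.ed (nat_lit 655) (nat_lit 420) Col.b (nat_lit 413) (Dv.wd (nat_lit 7) [Mv.b (nat_lit 645), Mv.b (nat_lit 515), Mv.b (nat_lit 396), Mv.b (nat_lit 644), Mv.f (nat_lit 654)]))) (Tr.nd (nat_lit 657) (Tr.lf (Fc.ed (nat_lit 656) (nat_lit 363) Col.c (nat_lit 421) Dv.df)) (Tr.lf (Fc.ed (nat_lit 657) (nat_lit 403) Col.c (nat_lit 422) Dv.df)))) (Tr.nd (nat_lit 660) (Tr.nd (nat_lit 659) (Tr.lf (Fc.ed (nat_lit 658) (nat_lit 422) Col.a (nat_lit 354) (Dv.wd (nat_lit 6) [Mv.b (nat_lit 555), Mv.f (nat_lit 628), Mv.f (nat_lit 657)]))) (Tr.lf (Fc.ed (nat_lit 659) (nat_lit 349) Col.c (nat_lit 423) Dv.df))) (Tr.nd (nat_lit 661) (Tr.lf (Fc.ed (nat_lit 660) (nat_lit 423) Col.b (nat_lit 314) (Dv.wd (nat_lit 7) [Mv.f (nat_lit 492), Mv.f (nat_lit 490), Mv.b (nat_lit 444), Mv.b (nat_lit 547), Mv.f (nat_lit 659)]))) (Tr.lf (Fc.ed (nat_lit 661) (nat_lit 416) Col.d (nat_lit 423) (Dv.wd (nat_lit 16) [Mv.f (nat_lit 660), Mv.b (nat_lit 491), Mv.f (nat_lit 649)])))))) (Tr.nd (nat_lit 665) (Tr.nd (nat_lit 663) (Tr.lf (Fc.ed (nat_lit 662) (nat_lit 303) Col.d (nat_lit 424) Dv.df)) (Tr.nd (nat_lit 664) (Tr.lf (Fc.ed (nat_lit 663) (nat_lit 424) Col.a (nat_lit 419) (Dv.wd (nat_lit 5) [Mv.b (nat_lit 653), Mv.f (nat_lit 582), Mv.f (nat_lit 662)]))) (Tr.lf (Fc.ed (nat_lit 664) (nat_lit 424) Col.b (nat_lit 323) (Dv.wd (nat_lit 1) [Mv.b (nat_lit 508), Mv.b (nat_lit 473), Mv.f (nat_lit 662)]))))) (Tr.nd (nat_lit 667) (Tr.nd (nat_lit 666) (Tr.lf (Fc.ed (nat_lit 665) (nat_lit 342) Col.c (nat_lit 425) Dv.df)) (Tr.lf (Fc.ed (nat_lit 666) (nat_lit 425) Col.b (nat_lit 417) (Dv.wd (nat_lit 7) [Mv.b (nat_lit 650), Mv.b (nat_lit 649), Mv.b (nat_lit 474), Mv.f (nat_lit 536), Mv.f (nat_lit 665)])))) (Tr.nd (nat_lit 668) (Tr.lf (Fc.ed (nat_lit 667) (nat_lit 381) Col.b (nat_lit 426) Dv.df)) (Tr.lf (Fc.ed (nat_lit 668) (nat_lit 426) Col.c (nat_lit 378) (Dv.wd (nat_lit 4) [Mv.f (nat_lit 592), Mv.b (nat_lit 379), Mv.f (nat_lit 578), Mv.f (nat_lit 596), Mv.f (nat_lit 667)]))))))))))) (Tr.nd (nat_lit 781) (Tr.nd (nat_lit 725) (Tr.nd (nat_lit 697) (Tr.nd (nat_lit 683) (Tr.nd (nat_lit 676) (Tr.nd (nat_lit 672) (Tr.nd (nat_lit 670) (Tr.lf (Fc.ed (nat_lit 669) (nat_lit 369) Col.c (nat_lit 427) Dv.df)) (Tr.nd (nat_lit 671) (Tr.lf (Fc.ed (nat_lit 670) (nat_lit 427) Col.a (nat_lit 366) (Dv.wd (nat_lit 6) [Mv.b (nat_lit 572), Mv.b (nat_lit 577), Mv.f (nat_lit 669)]))) (Tr.lf (Fc.ed (nat_lit 671) (nat_lit 275) Col.b (nat_lit 428) Dv.df)))) (Tr.nd (nat_lit 674) (Tr.nd (nat_lit 673) (Tr.lf (Fc.ed (nat_lit 672) (nat_lit 391) Col.c (nat_lit 429) Dv.df)) (Tr.lf (Fc.ed (nat_lit 673) (nat_lit 362) Col.c (nat_lit 430) Dv.df))) (Tr.nd (nat_lit 675) (Tr.lf (Fc.ed (nat_lit 674) (nat_lit 424) Col.c (nat_lit 431) Dv.df)) (Tr.lf (Fc.ed (nat_lit 675) (nat_lit 431) Col.d (nat_lit 430) (Dv.wd (nat_lit 11) [Mv.b (nat_lit 673), Mv.b (nat_lit 566), Mv.b (nat_lit 559), Mv.b (nat_lit 562), Mv.f (nat_lit 581), Mv.f (nat_lit 653), Mv.b (nat_lit 663), Mv.f (nat_lit 674)])))))) (Tr.nd (nat_lit 679) (Tr.nd (nat_lit 677) (Tr.lf (Fc.ed (nat_lit 676) (nat_lit 259) Col.b (nat_lit 432) Dv.df)) (Tr.nd (nat_lit 678) (Tr.lf (Fc.ed (nat_lit 677) (nat_lit 428) Col.a (nat_lit 433) Dv.df)) (Tr.lf (Fc.ed (nat_lit 678) (nat_lit 293) Col.b (nat_lit 434) Dv.df)))) (Tr.nd (nat_lit 681) (Tr.nd (nat_lit 680) (Tr.lf (Fc.ed (nat_lit 679) (nat_lit 434) Col.d (nat_lit 432) (Dv.wd (nat_lit 3) [Mv.b (nat_lit 676), Mv.b (nat_lit 458), Mv.f (nat_lit 678)]))) (Tr.lf (Fc.ed (nat_lit 680) (nat_lit 318) Col.b (nat_lit 435) Dv.df))) (Tr.nd (nat_lit 682) (Tr.lf (Fc.ed (nat_lit 681) (nat_lit 435) Col.c (nat_lit 434) (Dv.wd (nat_lit 4) [Mv.b (nat_lit 678), Mv.b (nat_lit 457), Mv.f (nat_lit 497), Mv.b (nat_lit 501), Mv.f (nat_lit 680)]))) (Tr.lf (Fc.ed (nat_lit 682) (nat_lit 297) Col.b (nat_lit 436) Dv.df)))))) (Tr.nd (nat_lit 690) (Tr.nd (nat_lit 686) (Tr.nd (nat_lit 684) (Tr.lf (Fc.ed (nat_lit 683) (nat_lit 436) Col.d (nat_lit 435) (Dv.wd (nat_lit 3) [Mv.b (nat_lit 680), Mv.b (nat_lit 499), Mv.f (nat_lit 682)]))) (Tr.nd (nat_lit 685) (Tr.lf (Fc.ed (nat_lit 684) (nat_lit 327) Col.d (nat_lit 437) Dv.df)) (Tr.lf (Fc.ed (nat_lit 685) (nat_lit 300) Col.c (nat_lit 438) Dv.df)))) (Tr.nd (nat_lit 688) (Tr.nd (nat_lit 687) (Tr.lf (Fc.ed (nat_lit 686) (nat_lit 438) Col.a (nat_lit 439) Dv.df)) (Tr.lf (Fc.ed (nat_lit 687) (nat_lit 439) Col.c (nat_lit 386) (Dv.wd (nat_lit 0) [Mv.b (nat_lit 602), Mv.f (nat_lit 685), Mv.f (nat_lit 686)])))) (Tr.nd (nat_lit 689) (Tr.lf (Fc.ed (nat_lit 688) (nat_lit 290) Col.b (nat_lit 440) Dv.df)) (Tr.lf (Fc.ed (nat_lit 689) (nat_lit 301) Col.d (nat_lit 441) Dv.df))))) (Tr.nd (nat_lit 693) (Tr.nd (nat_lit 691) (Tr.lf (Fc.ed (nat_lit 690) (nat_lit 345) Col.a (nat_lit 442) Dv.df)) (Tr.nd (nat_lit 692) (Tr.lf (Fc.ed (nat_lit 691) (nat_lit 442) Col.c (nat_lit 310) (Dv.wd (nat_lit 0) [Mv.f (nat_lit 484), Mv.b (nat_lit 541), Mv.f (nat_lit 690)]))) (Tr.lf (Fc.ed (nat_lit 692) (nat_lit 312) Col.b (nat_lit 443) Dv.df)))) (Tr.nd (nat_lit 695) (Tr.nd (nat_lit 694) (Tr.lf (Fc.ed (nat_lit 693) (nat_lit 443) Col.d (nat_lit 440) (Dv.wd (nat_lit 3) [Mv.b (nat_lit 688), Mv.f (nat_lit 487), Mv.f (nat_lit 692)]))) (Tr.lf (Fc.ed (nat_lit 694) (nat_lit 411) Col.d (nat_lit 444) Dv.df))) (Tr.nd (nat_lit 696) (Tr.lf (Fc.ed (nat_lit 695) (nat_lit 444) Col.b (nat_lit 315) (Dv.wd (nat_lit 1) [Mv.f (nat_lit 527), Mv.b (nat_lit 642), Mv.f (nat_lit 694)]))) (Tr.lf (Fc.ed (nat_lit 696) (nat_lit 428) Col.c (nat_lit 445) Dv.df))))))) (Tr.nd (nat_lit 711) (Tr.nd (nat_lit 704) (Tr.nd (nat_lit 700) (Tr.nd (nat_lit 698) (Tr.lf (Fc.ed (nat_lit 697) (nat_lit 441) Col.a (nat_lit 446) Dv.df)) (Tr.nd (nat_lit 699) (Tr.lf (Fc.ed (nat_lit 698) (nat_lit 446) Col.d (nat_lit 299) (Dv.wd (nat_lit 2) [Mv.b (nat_lit 470), Mv.f (nat_lit 689), Mv.f (nat_lit 697)]))) (Tr.lf (Fc.ed (nat_lit 699) (nat_lit 437) Col.b (nat_lit 446) (Dv.wd (nat_lit 14) [Mv.f (nat_lit 698), Mv.f (nat_lit 513), Mv.f (nat_lit 684)]))))) (Tr.nd (nat_lit 702) (Tr.nd (nat_lit 701) (Tr.lf (Fc.ed (nat_lit 700) (nat_lit 440) Col.c (nat_lit 447) Dv.df)) (Tr.lf (Fc.ed (nat_lit 701) (nat_lit 447) Col.b (nat_lit 445) (Dv.wd (nat_lit 7) [Mv.b (nat_lit 696), Mv.b (nat_lit 671), Mv.b (nat_lit 454), Mv.f (nat_lit 688), Mv.f (nat_lit 700)])))) (Tr.nd (nat_lit 703) (Tr.lf (Fc.ed (nat_lit 702) (nat_lit 319) Col.d (nat_lit 448) Dv.df)) (Tr.lf (Fc.ed (nat_lit 703) (nat_lit 346) Col.a (nat_lit 449) Dv.df))))) (Tr.nd (nat_lit 707) (Tr.nd (nat_lit 705) (Tr.lf (Fc.ed (nat_lit 704) (nat_lit 328) Col.c (nat_lit 450) Dv.df)) (Tr.nd (nat_lit 706) (Tr.lf (Fc.ed (nat_lit 705) (nat_lit 298) Col.d (nat_lit 451) Dv.df)) (Tr.lf (Fc.ed (nat_lit 706) (nat_lit 449) Col.b (nat_lit 452) Dv.df)))) (Tr.nd (nat_lit 709) (Tr.nd (nat_lit 708) (Tr.lf (Fc.ed (nat_lit 707) (nat_lit 431) Col.b (nat_lit 453) Dv.df)) (Tr.lf (Fc.ed (nat_lit 708) (nat_lit 448) Col.b (nat_lit 454) Dv.df))) (Tr.nd (nat_lit 710) (Tr.lf (Fc.ed (nat_lit 709) (nat_lit 454) Col.d (nat_lit 317) (Dv.wd (nat_lit 3) [Mv.f (nat_lit 502), Mv.f (nat_lit 702), Mv.f (nat_lit 708)]))) (Tr.lf (Fc.ed (nat_lit 710) (nat_lit 442) Col.b (nat_lit 455) Dv.df)))))) (Tr.nd (nat_lit 718) (Tr.nd (nat_lit 714) (Tr.nd (nat_lit 712) (Tr.lf (Fc.ed (nat_lit 711) (nat_lit 453) Col.c (nat_lit 456) Dv.df)) (Tr.nd (nat_lit 713) (Tr.lf (Fc.ed (nat_lit 712) (nat_lit 456) Col.b (nat_lit 326) (Dv.wd (nat_lit 7) [Mv.f (nat_lit 512), Mv.b (nat_lit 664), Mv.f (nat_lit 674), Mv.f (nat_lit 707), Mv.f (nat_lit 711)]))) (Tr.lf (Fc.ed (nat_lit 713) (nat_lit 446) Col.c (nat_lit 457) Dv.df)))) (Tr.nd (nat_lit 716) (Tr.nd (nat_lit 715) (Tr.lf (Fc.ed (nat_lit 714) (nat_lit 359) Col.a (nat_lit 458) Dv.df)) (Tr.lf (Fc.ed (nat_lit 715) (nat_lit 458) Col.c (nat_lit 331) (Dv.wd (nat_lit 0) [Mv.b (nat_lit 519), Mv.f (nat_lit 563), Mv.f (nat_lit 714)])))) (Tr.nd (nat_lit 717) (Tr.lf (Fc.ed (nat_lit 716) (nat_lit 321) Col.b (nat_lit 459) Dv.df)) (Tr.lf (Fc.ed (nat_lit 717) (nat_lit 459) Col.d (nat_lit 456) (Dv.wd (nat_lit 3) [Mv.f (nat_lit 712), Mv.b (nat_lit 511), Mv.f (nat_lit 716)])))))) (Tr.nd (nat_lit 721) (Tr.nd (nat_lit 719) (Tr.lf (Fc.ed (nat_lit 718) (nat_lit 459) Col.c (nat_lit 455) (Dv.wd (nat_lit 4) [Mv.b (nat_lit 710), Mv.f (nat_lit 691), Mv.b (nat_lit 483), Mv.f (nat_lit 506), Mv.f (nat_lit 716)]))) (Tr.nd (nat_lit 720) (Tr.lf (Fc.ed (nat_lit 719) (nat_lit 457) Col.d (nat_lit 460) Dv.df)) (Tr.lf (Fc.ed (nat_lit 720) (nat_lit 460) Col.c (nat_lit 451) (Dv.wd (nat_lit 10) [Mv.b (nat_lit 705), Mv.b (nat_lit 466), Mv.b (nat_lit 314), Mv.f (nat_lit 469), Mv.f (nat_lit 689), Mv.f (nat_lit 697), Mv.f (nat_lit 713), Mv.f (nat_lit 719)]))))) (Tr.nd (nat_lit 723) (Tr.nd (nat_lit 722) (Tr.lf (Fc.ed (nat_lit 721) (nat_lit 351) Col.c (nat_lit 461) Dv.df)) (Tr.lf (Fc.ed (nat_lit 722) (nat_lit 461) Col.a (nat_lit 413) (Dv.wd (nat_lit 6) [Mv.b (nat_lit 645), Mv.f (nat_lit 549), Mv.f (nat_lit 721)])))) (Tr.nd (nat_lit 724) (Tr.lf (Fc.ed (nat_lit 723) (nat_lit 342) Col.a (nat_lit 462) Dv.df)) (Tr.lf (Fc.ed (nat_lit 724) (nat_lit 333) Col.a (nat_lit 463) Dv.df)))))))) (Tr.nd (nat_lit 753) (Tr.nd (nat_lit 739) (Tr.nd (nat_lit 732) (Tr.nd (nat_lit 728) (Tr.nd (nat_lit 726) (Tr.lf (Fc.ed (nat_lit 725) (nat_lit 311) Col.d (nat_lit 464) Dv.df)) (Tr.nd (nat_lit 727) (Tr.lf (Fc.ed (nat_lit 726) (nat_lit 464) Col.b (nat_lit 451) (Dv.wd (nat_lit 1) [Mv.b (nat_lit 705), Mv.f (nat_lit 485), Mv.f (nat_lit 725)]))) (Tr.lf (Fc.ed (nat_lit 727) (nat_lit 350) Col.c (nat_lit 465) Dv.df)))) (Tr.nd (nat_lit 730) (Tr.nd (nat_lit 729) (Tr.lf (Fc.ed (nat_lit 728) (nat_lit 465) Col.a (nat_lit 408) (Dv.wd (nat_lit 6) [Mv.f (nat_lit 637), Mv.f (nat_lit 548), Mv.f (nat_lit 727)]))) (Tr.lf (Fc.ed (nat_lit 729) (nat_lit 332) Col.a (nat_lit 466) Dv.df))) (Tr.nd (nat_lit 731) (Tr.lf (Fc.ed (nat_lit 730) (nat_lit 466) Col.d (nat_lit 463) (Dv.wd (nat_lit 2) [Mv.b (nat_lit 724), Mv.b (nat_lit 523), Mv.f (nat_lit 729)]))) (Tr.lf (Fc.ed (nat_lit 731) (nat_lit 415) Col.d (nat_lit 467) Dv.df))))) (Tr.nd (nat_lit 735) (Tr.nd (nat_lit 733) (Tr.lf (Fc.ed (nat_lit 732) (nat_lit 374) Col.a (nat_lit 468) Dv.df)) (Tr.nd (nat_lit 734) (Tr.lf (Fc.ed (nat_lit 733) (nat_lit 468) Col.c (nat_lit 390) (Dv.wd (nat_lit 0) [Mv.f (nat_lit 608), Mv.b (nat_lit 585), Mv.f (nat_lit 732)]))) (Tr.lf (Fc.ed (nat_lit 734) (nat_lit 463) Col.c (nat_lit 469) Dv.df)))) (Tr.nd (nat_lit 737) (Tr.nd (nat_lit 736) (Tr.lf (Fc.ed (nat_lit 735) (nat_lit 344) Col.b (nat_lit 470) Dv.df)) (Tr.lf (Fc.ed (nat_lit 736) (nat_lit 470) Col.d (nat_lit 373) (Dv.wd (nat_lit 3) [Mv.b (nat_lit 583), Mv.f (nat_lit 538), Mv.f (nat_lit 735)])))) (Tr.nd (nat_lit 738) (Tr.lf (Fc.ed (nat_lit 737) (nat_lit 450) Col.b (nat_lit 471) Dv.df)) (Tr.lf (Fc.ed (nat_lit 738) (nat_lit 471) Col.c (nat_lit 472) Dv.df)))))) (Tr.nd (nat_lit 746) (Tr.nd (nat_lit 742) (Tr.nd (nat_lit 740) (Tr.lf (Fc.ed (nat_lit 739) (nat_lit 472) Col.b (nat_lit 458) (Dv.wd (nat_lit 7) [Mv.f (nat_lit 715), Mv.f (nat_lit 520), Mv.f (nat_lit 704), Mv.f (nat_lit 737), Mv.f (nat_lit 738)]))) (Tr.nd (nat_lit 741) (Tr.lf (Fc.ed (nat_lit 740) (nat_lit 449) Col.c (nat_lit 473) Dv.df)) (Tr.lf (Fc.ed (nat_lit 741) (nat_lit 473) Col.a (nat_lit 367) (Dv.wd (nat_lit 6) [Mv.f (nat_lit 574), Mv.f (nat_lit 703), Mv.f (nat_lit 740)]))))) (Tr.nd (nat_lit 744) (Tr.nd (nat_lit 743) (Tr.lf (Fc.ed (nat_lit 742) (nat_lit 462) Col.c (nat_lit 474) Dv.df)) (Tr.lf (Fc.ed (nat_lit 743) (nat_lit 474) Col.a (nat_lit 425) (Dv.wd (nat_lit 6) [Mv.b (nat_lit 665), Mv.f (nat_lit 723), Mv.f (nat_lit 742)])))) (Tr.nd (nat_lit 745) (Tr.lf (Fc.ed (nat_lit 744) (nat_lit 354) Col.d (nat_lit 475) Dv.df)) (Tr.lf (Fc.ed (nat_lit 745) (nat_lit 421) Col.d (nat_lit 476) Dv.df))))) (Tr.nd (nat_lit 749) (Tr.nd (nat_lit 747) (Tr.lf (Fc.ed (nat_lit 746) (nat_lit 461) Col.b (nat_lit 477) Dv.df)) (Tr.nd (nat_lit 748) (Tr.lf (Fc.ed (nat_lit 747) (nat_lit 356) Col.d (nat_lit 478) Dv.df)) (Tr.lf (Fc.ed (nat_lit 748) (nat_lit 478) Col.b (nat_lit 475) (Dv.wd (nat_lit 1) [Mv.b (nat_lit 744), Mv.f (nat_lit 557), Mv.f (nat_lit 747)]))))) (Tr.nd (nat_lit 751) (Tr.nd (nat_lit 750) (Tr.lf (Fc.ed (nat_lit 749) (nat_lit 475) Col.a (nat_lit 479) Dv.df)) (Tr.lf (Fc.ed (nat_lit 750) (nat_lit 479) Col.d (nat_lit 422) (Dv.wd (nat_lit 2) [Mv.f (nat_lit 658), Mv.f (nat_lit 744), Mv.f (nat_lit 749)])))) (Tr.nd (nat_lit 752) (Tr.lf (Fc.ed (nat_lit 751) (nat_lit 469) Col.d (nat_lit 480) Dv.df)) (Tr.lf (Fc.ed (nat_lit 752) (nat_lit 448) Col.c (nat_lit 481) Dv.df))))))) (Tr.nd (nat_lit 767) (Tr.nd (nat_lit 760) (Tr.nd (nat_lit 756) (Tr.nd (nat_lit 754) (Tr.lf (Fc.ed (nat_lit 753) (nat_lit 479) Col.c (nat_lit 482) Dv.df)) (Tr.nd (nat_lit 755) (Tr.lf (Fc.ed (nat_lit 754) (nat_lit 482) Col.d (nat_lit 481) (Dv.wd (nat_lit 11) [Mv.b (nat_lit 752), Mv.b (nat_lit 702), Mv.f (nat_lit 503), Mv.b (nat_lit 427), Mv.f (nat_lit 555), Mv.f (nat_lit 744), Mv.f (nat_lit 749), Mv.f (nat_lit 753)]))) (Tr.lf (Fc.ed (nat_lit 755) (nat_lit 470) Col.c (nat_lit 483) Dv.df)))) (Tr.nd (nat_lit 758) (Tr.nd (nat_lit 757) (Tr.lf (Fc.ed (nat_lit 756) (nat_lit 476) Col.c (nat_lit 484) Dv.df)) (Tr.lf (Fc.ed (nat_lit 757) (nat_lit 397) Col.a (nat_lit 485) Dv.df))) (Tr.nd (nat_lit 759) (Tr.lf (Fc.ed (nat_lit 758) (nat_lit 485) Col.c (nat_lit 360) (Dv.wd (nat_lit 0) [Mv.b (nat_lit 564), Mv.f (nat_lit 619), Mv.f (nat_lit 757)]))) (Tr.lf (Fc.ed (nat_lit 759) (nat_lit 484) Col.d (nat_lit 486) Dv.df))))) (Tr.nd (nat_lit 763) (Tr.nd (nat_lit 761) (Tr.lf (Fc.ed (nat_lit 760) (nat_lit 486) Col.c (nat_lit 454) (Dv.wd (nat_lit 12) [Mv.f (nat_lit 709), Mv.b (nat_lit 498), Mv.f (nat_lit 412), Mv.f (nat_lit 568), Mv.f (nat_lit 656), Mv.f (nat_lit 745), Mv.f (nat_lit 756), Mv.f (nat_lit 759)]))) (Tr.nd (nat_lit 762) (Tr.lf (Fc.ed (nat_lit 761) (nat_lit 480) Col.c (nat_lit 487) Dv.df)) (Tr.lf (Fc.ed (nat_lit 762) (nat_lit 465) Col.b (nat_lit 488) Dv.df)))) (Tr.nd (nat_lit 765) (Tr.nd (nat_lit 764) (Tr.lf (Fc.ed (nat_lit 763) (nat_lit 488) Col.c (nat_lit 477) (Dv.wd (nat_lit 4) [Mv.b (nat_lit 746), Mv.b (nat_lit 721), Mv.f (nat_lit 550), Mv.f (nat_lit 727), Mv.f (nat_lit 762)]))) (Tr.lf (Fc.ed (nat_lit 764) (nat_lit 348) Col.a (nat_lit 489) Dv.df))) (Tr.nd (nat_lit 766) (Tr.lf (Fc.ed (nat_lit 765) (nat_lit 443) Col.c (nat_lit 490) Dv.df)) (Tr.lf (Fc.ed (nat_lit 766) (nat_lit 490) Col.b (nat_lit 483) (Dv.wd (nat_lit 7) [Mv.b (nat_lit 755), Mv.b (nat_lit 735), Mv.f (nat_lit 539), Mv.f (nat_lit 692), Mv.f (nat_lit 765)]))))))) (Tr.nd (nat_lit 774) (Tr.nd (nat_lit 770) (Tr.nd (nat_lit 768) (Tr.lf (Fc.ed (nat_lit 767) (nat_lit 487) Col.d (nat_lit 491) Dv.df)) (Tr.nd (nat_lit 769) (Tr.lf (Fc.ed (nat_lit 768) (nat_lit 491) Col.c (nat_lit 437) (Dv.wd (nat_lit 12) [Mv.b (nat_lit 684), Mv.f (nat_lit 521), Mv.f (nat_lit 523), Mv.f (nat_lit 724), Mv.f (nat_lit 734), Mv.f (nat_lit 751), Mv.f (nat_lit 761), Mv.f (nat_lit 767)]))) (Tr.lf (Fc.ed (nat_lit 769) (nat_lit 417) Col.d (nat_lit 492) Dv.df)))) (Tr.nd (nat_lit 772) (Tr.nd (nat_lit 771) (Tr.lf (Fc.ed (nat_lit 770) (nat_lit 408) Col.d (nat_lit 493) Dv.df)) (Tr.lf (Fc.ed (nat_lit 771) (nat_lit 489) Col.c (nat_lit 494) Dv.df))) (Tr.nd (nat_lit 773) (Tr.lf (Fc.ed (nat_lit 772) (nat_lit 494) Col.a (nat_lit 356) (Dv.wd (nat_lit 6) [Mv.f (nat_lit 558), Mv.f (nat_lit 764), Mv.f (nat_lit 771)]))) (Tr.lf (Fc.ed (nat_lit 773) (nat_lit 404) Col.a (nat_lit 495) Dv.df))))) (Tr.nd (nat_lit 777) (Tr.nd (nat_lit 775) (Tr.lf (Fc.ed (nat_lit 774) (nat_lit 345) Col.d (nat_lit 496) Dv.df)) (Tr.nd (nat_lit 776) (Tr.lf (Fc.ed (nat_lit 775) (nat_lit 494) Col.d (nat_lit 497) Dv.df)) (Tr.lf (Fc.ed (nat_lit 776) (nat_lit 497) Col.a (nat_lit 478) (Dv.wd (nat_lit 5) [Mv.b (nat_lit 747), Mv.b (nat_lit 772), Mv.f (nat_lit 775)]))))) (Tr.nd (nat_lit 779) (Tr.nd (nat_lit 778) (Tr.lf (Fc.ed (nat_lit 777) (nat_lit 497) Col.c (nat_lit 492) (Dv.wd (nat_lit 10) [Mv.b (nat_lit 769), Mv.b (nat_lit 650), Mv.f (nat_lit 661), Mv.b (nat_lit 659), Mv.b (nat_lit 546), Mv.f (nat_lit 764), Mv.f (nat_lit 771), Mv.f (nat_lit 775)]))) (Tr.lf (Fc.ed (nat_lit 778) (nat_lit 485) Col.b (nat_lit 498) Dv.df))) (Tr.nd (nat_lit 780) (Tr.lf (Fc.ed (nat_lit 779) (nat_lit 357) Col.b (nat_lit 499) Dv.df)) (Tr.lf (Fc.ed (nat_lit 780) (nat_lit 498) Col.c (nat_lit 500) Dv.df))))))))) (Tr.nd (nat_lit 837) (Tr.nd (nat_lit 809) (Tr.nd (nat_lit 795) (Tr.nd (nat_lit 788) (Tr.nd (nat_lit 784) (Tr.nd (nat_lit 782) (Tr.lf (Fc.ed (nat_lit 781) (nat_lit 500) Col.b (nat_lit 421) (Dv.wd (nat_lit 7) [Mv.b (nat_lit 656), Mv.f (nat_lit 569), Mv.b (nat_lit 758), Mv.f (nat_lit 778), Mv.f (nat_lit 780)]))) (Tr.nd (nat_lit 783) (Tr.lf (Fc.ed (nat_lit 782) (nat_lit 499) Col.d (nat_lit 501) Dv.df)) (Tr.lf (Fc.ed (nat_lit 783) (nat_lit 501) Col.b (nat_lit 362) (Dv.wd (nat_lit 1) [Mv.b (nat_lit 566), Mv.f (nat_lit 779), Mv.f (nat_lit 782)]))))) (Tr.nd (nat_lit 786) (Tr.nd (nat_lit 785) (Tr.lf (Fc.ed (nat_lit 784) (nat_lit 442) Col.d (nat_lit 502) Dv.df)) (Tr.lf (Fc.ed (nat_lit 785) (nat_lit 502) Col.a (nat_lit 496) (Dv.wd (nat_lit 5) [Mv.b (nat_lit 774), Mv.f (nat_lit 690), Mv.f (nat_lit 784)])))) (Tr.nd (nat_lit 787) (Tr.lf (Fc.ed (nat_lit 786) (nat_lit 464) Col.c (nat_lit 503) Dv.df)) (Tr.lf (Fc.ed (nat_lit 787) (nat_lit 502) Col.c (nat_lit 504) Dv.df))))) (Tr.nd (nat_lit 791) (Tr.nd (nat_lit 789) (Tr.lf (Fc.ed (nat_lit 788) (nat_lit 504) Col.d (nat_lit 503) (Dv.wd (nat_lit 11) [Mv.b (nat_lit 786), Mv.b (nat_lit 725), Mv.f (nat_lit 486), Mv.b (nat_lit 477), Mv.b (nat_lit 541), Mv.f (nat_lit 774), Mv.b (nat_lit 785), Mv.f (nat_lit 787)]))) (Tr.nd (nat_lit 790) (Tr.lf (Fc.ed (nat_lit 789) (nat_lit 493) Col.a (nat_lit 505) Dv.df)) (Tr.lf (Fc.ed (nat_lit 790) (nat_lit 505) Col.d (nat_lit 465) (Dv.wd (nat_lit 2) [Mv.f (nat_lit 728), Mv.f (nat_lit 770), Mv.f (nat_lit 789)]))))) (Tr.nd (nat_lit 793) (Tr.nd (nat_lit 792) (Tr.lf (Fc.ed (nat_lit 791) (nat_lit 359) Col.d (nat_lit 506) Dv.df)) (Tr.lf (Fc.ed (nat_lit 792) (nat_lit 373) Col.a (nat_lit 507) Dv.df))) (Tr.nd (nat_lit 794) (Tr.lf (Fc.ed (nat_lit 793) (nat_lit 371) Col.b (nat_lit 508) Dv.df)) (Tr.lf (Fc.ed (nat_lit 794) (nat_lit 508) Col.d (nat_lit 509) Dv.df)))))) (Tr.nd (nat_lit 802) (Tr.nd (nat_lit 798) (Tr.nd (nat_lit 796) (Tr.lf (Fc.ed (nat_lit 795) (nat_lit 509) Col.b (nat_lit 380) (Dv.wd (nat_lit 1) [Mv.b (nat_lit 594), Mv.f (nat_lit 793), Mv.f (nat_lit 794)]))) (Tr.nd (nat_lit 797) (Tr.lf (Fc.ed (nat_lit 796) (nat_lit 383) Col.a (nat_lit 510) Dv.df)) (Tr.lf (Fc.ed (nat_lit 797) (nat_lit 510) Col.c (nat_lit 368) (Dv.wd (nat_lit 0) [Mv.b (nat_lit 575), Mv.f (nat_lit 599), Mv.f (nat_lit 796)]))))) (Tr.nd (nat_lit 800) (Tr.nd (nat_lit 799) (Tr.lf (Fc.ed (nat_lit 798) (nat_lit 507) Col.c (nat_lit 511) Dv.df)) (Tr.lf (Fc.ed (nat_lit 799) (nat_lit 511) Col.a (nat_lit 375) (Dv.wd (nat_lit 6) [Mv.b (nat_lit 586), Mv.f (nat_lit 792), Mv.f (nat_lit 798)])))) (Tr.nd (nat_lit 801) (Tr.lf (Fc.ed (nat_lit 800) (nat_lit 374) Col.d (nat_lit 512) Dv.df)) (Tr.lf (Fc.ed (nat_lit 801) (nat_lit 512) Col.b (nat_lit 506) (Dv.wd (nat_lit 1) [Mv.b (nat_lit 791), Mv.f (nat_lit 584), Mv.f (nat_lit 800)])))))) (Tr.nd (nat_lit 805) (Tr.nd (nat_lit 803) (Tr.lf (Fc.ed (nat_lit 802) (nat_lit 391) Col.a (nat_lit 513) Dv.df)) (Tr.nd (nat_lit 804) (Tr.lf (Fc.ed (nat_lit 803) (nat_lit 513) Col.d (nat_lit 495) (Dv.wd (nat_lit 2) [Mv.b (nat_lit 773), Mv.f (nat_lit 631), Mv.f (nat_lit 802)]))) (Tr.lf (Fc.ed (nat_lit 804) (nat_lit 510) Col.b (nat_lit 514) Dv.df)))) (Tr.nd (nat_lit 807) (Tr.nd (nat_lit 806) (Tr.lf (Fc.ed (nat_lit 805) (nat_lit 508) Col.c (nat_lit 515) Dv.df)) (Tr.lf (Fc.ed (nat_lit 806) (nat_lit 514) Col.c (nat_lit 516) Dv.df))) (Tr.nd (nat_lit 808) (Tr.lf (Fc.ed (nat_lit 807) (nat_lit 516) Col.b (nat_lit 427) (Dv.wd (nat_lit 7) [Mv.b (nat_lit 669), Mv.b (nat_lit 576), Mv.b (nat_lit 797), Mv.f (nat_lit 804), Mv.f (nat_lit 806)]))) (Tr.lf (Fc.ed (nat_lit 808) (nat_lit 513) Col.b (nat_lit 517) Dv.df))))))) (Tr.nd (nat_lit 823) (Tr.nd (nat_lit 816) (Tr.nd (nat_lit 812) (Tr.nd (nat_lit 810) (Tr.lf (Fc.ed (nat_lit 809) (nat_lit 517) Col.a (nat_lit 518) Dv.df)) (Tr.nd (nat_lit 811) (Tr.lf (Fc.ed (nat_lit 810) (nat_lit 518) Col.b (nat_lit 489) (Dv.wd (nat_lit 8) [Mv.b (nat_lit 764), Mv.b (nat_lit 545), Mv.f (nat_lit 344), Mv.b (nat_lit 326), Mv.b (nat_lit 409), Mv.f (nat_lit 609), Mv.f (nat_lit 802), Mv.f (nat_lit 808), Mv.f (nat_lit 809)]))) (Tr.lf (Fc.ed (nat_lit 811) (nat_lit 468) Col.d (nat_lit 519) Dv.df)))) (Tr.nd (nat_lit 814) (Tr.nd (nat_lit 813) (Tr.lf (Fc.ed (nat_lit 812) (nat_lit 519) Col.a (nat_lit 512) (Dv.wd (nat_lit 5) [Mv.b (nat_lit 800), Mv.f (nat_lit 732), Mv.f (nat_lit 811)]))) (Tr.lf (Fc.ed (nat_lit 813) (nat_lit 507) Col.d (nat_lit 520) Dv.df))) (Tr.nd (nat_lit 815) (Tr.lf (Fc.ed (nat_lit 814) (nat_lit 458) Col.d (nat_lit 521) Dv.df)) (Tr.lf (Fc.ed (nat_lit 815) (nat_lit 521) Col.a (nat_lit 506) (Dv.wd (nat_lit 5) [Mv.b (nat_lit 791), Mv.f (nat_lit 714), Mv.f (nat_lit 814)])))))) (Tr.nd (nat_lit 819) (Tr.nd (nat_lit 817) (Tr.lf (Fc.ed (nat_lit 816) (nat_lit 506) Col.c (nat_lit 522) Dv.df)) (Tr.nd (nat_lit 818) (Tr.lf (Fc.ed (nat_lit 817) (nat_lit 522) Col.d (nat_lit 523) Dv.df)) (Tr.lf (Fc.ed (nat_lit 818) (nat_lit 461) Col.d (nat_lit 524) Dv.df)))) (Tr.nd (nat_lit 821) (Tr.nd (nat_lit 820) (Tr.lf (Fc.ed (nat_lit 819) (nat_lit 524) Col.c (nat_lit 523) (Dv.wd (nat_lit 10) [Mv.b (nat_lit 817), Mv.b (nat_lit 816), Mv.b (nat_lit 791), Mv.b (nat_lit 563), Mv.b (nat_lit 516), Mv.f (nat_lit 549), Mv.f (nat_lit 721), Mv.f (nat_lit 818)]))) (Tr.lf (Fc.ed (nat_lit 820) (nat_lit 430) Col.b (nat_lit 525) Dv.df))) (Tr.nd (nat_lit 822) (Tr.lf (Fc.ed (nat_lit 821) (nat_lit 525) Col.d (nat_lit 453) (Dv.wd (nat_lit 3) [Mv.b (nat_lit 707), Mv.f (nat_lit 675), Mv.f (nat_lit 820)]))) (Tr.lf (Fc.ed (nat_lit 822) (nat_lit 389) Col.c (nat_lit 526) Dv.df)))))) (Tr.nd (nat_lit 830) (Tr.nd (nat_lit 826) (Tr.nd (nat_lit 824) (Tr.lf (Fc.ed (nat_lit 823) (nat_lit 526) Col.a (nat_lit 426) (Dv.wd (nat_lit 6) [Mv.f (nat_lit 668), Mv.f (nat_lit 606), Mv.f (nat_lit 822)]))) (Tr.nd (nat_lit 825) (Tr.lf (Fc.ed (nat_lit 824) (nat_lit 376) Col.a (nat_lit 527) Dv.df)) (Tr.lf (Fc.ed (nat_lit 825) (nat_lit 527) Col.d (nat_lit 511) (Dv.wd (nat_lit 2) [Mv.f (nat_lit 799), Mv.f (nat_lit 588), Mv.f (nat_lit 824)]))))) (Tr.nd (nat_lit 828) (Tr.nd (nat_lit 827) (Tr.lf (Fc.ed (nat_lit 826) (nat_lit 439) Col.d (nat_lit 528) Dv.df)) (Tr.lf (Fc.ed (nat_lit 827) (nat_lit 508) Col.a (nat_lit 529) Dv.df))) (Tr.nd (nat_lit 829) (Tr.lf (Fc.ed (nat_lit 828) (nat_lit 367) Col.d (nat_lit 530) Dv.df)) (Tr.lf (Fc.ed (nat_lit 829) (nat_lit 528) Col.c (nat_lit 531) Dv.df))))) (Tr.nd (nat_lit 833) (Tr.nd (nat_lit 831) (Tr.lf (Fc.ed (nat_lit 830) (nat_lit 524) Col.a (nat_lit 532) Dv.df)) (Tr.nd (nat_lit 832) (Tr.lf (Fc.ed (nat_lit 831) (nat_lit 532) Col.d (nat_lit 413) (Dv.wd (nat_lit 2) [Mv.b (nat_lit 722), Mv.f (nat_lit 818), Mv.f (nat_lit 830)]))) (Tr.lf (Fc.ed (nat_lit 832) (nat_lit 531) Col.d (nat_lit 533) Dv.df)))) (Tr.nd (nat_lit 835) (Tr.nd (nat_lit 834) (Tr.lf (Fc.ed (nat_lit 833) (nat_lit 533) Col.c (nat_lit 512) (Dv.wd (nat_lit 12) [Mv.b (nat_lit 800), Mv.f (nat_lit 585), Mv.b (nat_lit 479), Mv.f (nat_lit 602), Mv.b (nat_lit 687), Mv.f (nat_lit 826), Mv.f (nat_lit 829), Mv.f (nat_lit 832)]))) (Tr.lf (Fc.ed (nat_lit 834) (nat_lit 532) Col.c (nat_lit 534) Dv.df))) (Tr.nd (nat_lit 836) (Tr.lf (Fc.ed (nat_lit 835) (nat_lit 521) Col.c (nat_lit 535) Dv.df)) (Tr.lf (Fc.ed (nat_lit 836) (nat_lit 535) Col.a (nat_lit 522) (Dv.wd (nat_lit 6) [Mv.b (nat_lit 816), Mv.b (nat_lit 815), Mv.f (nat_lit 835)]))))))))) (Tr.nd (nat_lit 865) (Tr.nd (nat_lit 851) (Tr.nd (nat_lit 844) (Tr.nd (nat_lit 840) (Tr.nd (nat_lit 838) (Tr.lf (Fc.ed (nat_lit 837) (nat_lit 535) Col.d (nat_lit 534) (Dv.wd (nat_lit 11) [Mv.b (nat_lit 834), Mv.f (nat_lit 831), Mv.b (nat_lit 645), Mv.f (nat_lit 516), Mv.f (nat_lit 563), Mv.f (nat_lit 791), Mv.b (nat_lit 815), Mv.f (nat_lit 835)]))) (Tr.nd (nat_lit 839) (Tr.lf (Fc.ed (nat_lit 838) (nat_lit 466) Col.b (nat_lit 536) Dv.df)) (Tr.lf (Fc.ed (nat_lit 839) (nat_lit 429) Col.a (nat_lit 537) Dv.df)))) (Tr.nd (nat_lit 842) (Tr.nd (nat_lit 841) (Tr.lf (Fc.ed (nat_lit 840) (nat_lit 537) Col.c (nat_lit 513) (Dv.wd (nat_lit 0) [Mv.b (nat_lit 802), Mv.f (nat_lit 672), Mv.f (nat_lit 839)]))) (Tr.lf (Fc.ed (nat_lit 841) (nat_lit 406) Col.d (nat_lit 538) Dv.df))) (Tr.nd (nat_lit 843) (Tr.lf (Fc.ed (nat_lit 842) (nat_lit 538) Col.b (nat_lit 392) (Dv.wd (nat_lit 1) [Mv.f (nat_lit 616), Mv.b (nat_lit 634), Mv.f (nat_lit 841)]))) (Tr.lf (Fc.ed (nat_lit 843) (nat_lit 538) Col.c (nat_lit 539) Dv.df))))) (Tr.nd (nat_lit 847) (Tr.nd (nat_lit 845) (Tr.lf (Fc.ed (nat_lit 844) (nat_lit 529) Col.b (nat_lit 540) Dv.df)) (Tr.nd (nat_lit 846) (Tr.lf (Fc.ed (nat_lit 845) (nat_lit 540) Col.a (nat_lit 536) (Dv.wd (nat_lit 13) [Mv.b (nat_lit 838), Mv.b (nat_lit 729), Mv.f (nat_lit 522), Mv.b (nat_lit 339), Mv.f (nat_lit 373), Mv.b (nat_lit 580), Mv.f (nat_lit 793), Mv.f (nat_lit 827), Mv.f (nat_lit 844)]))) (Tr.lf (Fc.ed (nat_lit 846) (nat_lit 439) Col.b (nat_lit 541) Dv.df)))) (Tr.nd (nat_lit 849) (Tr.nd (nat_lit 848) (Tr.lf (Fc.ed (nat_lit 847) (nat_lit 407) Col.a (nat_lit 542) Dv.df)) (Tr.lf (Fc.ed (nat_lit 848) (nat_lit 396) Col.a (nat_lit 543) Dv.df))) (Tr.nd (nat_lit 850) (Tr.lf (Fc.ed (nat_lit 849) (nat_lit 382) Col.a (nat_lit 544) Dv.df)) (Tr.lf (Fc.ed (nat_lit 850) (nat_lit 544) Col.c (nat_lit 542) (Dv.wd (nat_lit 0) [Mv.b (nat_lit 847), Mv.b (nat_lit 635), Mv.f (nat_lit 849)]))))))) (Tr.nd (nat_lit 858) (Tr.nd (nat_lit 854) (Tr.nd (nat_lit 852) (Tr.lf (Fc.ed (nat_lit 851) (nat_lit 463) Col.b (nat_lit 545) Dv.df)) (Tr.nd (nat_lit 853) (Tr.lf (Fc.ed (nat_lit 852) (nat_lit 545) Col.d (nat_lit 536) (Dv.wd (nat_lit 3) [Mv.b (nat_lit 838), Mv.f (nat_lit 730), Mv.f (nat_lit 851)]))) (Tr.lf (Fc.ed (nat_lit 853) (nat_lit 499) Col.a (nat_lit 546) Dv.df)))) (Tr.nd (nat_lit 856) (Tr.nd (nat_lit 855) (Tr.lf (Fc.ed (nat_lit 854) (nat_lit 379) Col.a (nat_lit 547) Dv.df)) (Tr.lf (Fc.ed (nat_lit 855) (nat_lit 547) Col.d (nat_lit 544) (Dv.wd (nat_lit 2) [Mv.b (nat_lit 849), Mv.b (nat_lit 597), Mv.f (nat_lit 854)])))) (Tr.nd (nat_lit 857) (Tr.lf (Fc.ed (nat_lit 856) (nat_lit 539) Col.b (nat_lit 548) Dv.df)) (Tr.lf (Fc.ed (nat_lit 857) (nat_lit 548) Col.c (nat_lit 509) (Dv.wd (nat_lit 4) [Mv.f (nat_lit 795), Mv.f (nat_lit 610), Mv.b (nat_lit 842), Mv.f (nat_lit 843), Mv.f (nat_lit 856)])))))) (Tr.nd (nat_lit 861) (Tr.nd (nat_lit 859) (Tr.lf (Fc.ed (nat_lit 858) (nat_lit 400) Col.d (nat_lit 549) Dv.df)) (Tr.nd (nat_lit 860) (Tr.lf (Fc.ed (nat_lit 859) (nat_lit 509) Col.a (nat_lit 550) Dv.df)) (Tr.lf (Fc.ed (nat_lit 860) (nat_lit 550) Col.d (nat_lit 529) (Dv.wd (nat_lit 2) [Mv.b (nat_lit 827), Mv.f (nat_lit 794), Mv.f (nat_lit 859)]))))) (Tr.nd (nat_lit 863) (Tr.nd (nat_lit 862) (Tr.lf (Fc.ed (nat_lit 861) (nat_lit 501) Col.c (nat_lit 551) Dv.df)) (Tr.lf (Fc.ed (nat_lit 862) (nat_lit 398) Col.d (nat_lit 552) Dv.df))) (Tr.nd (nat_lit 864) (Tr.lf (Fc.ed (nat_lit 863) (nat_lit 552) Col.b (nat_lit 549) (Dv.wd (nat_lit 1) [Mv.b (nat_lit 858), Mv.f (nat_lit 624), Mv.f (nat_lit 862)]))) (Tr.lf (Fc.ed (nat_lit 864) (nat_lit 401) Col.a (nat_lit 553) Dv.df))))))) (Tr.nd (nat_lit 879) (Tr.nd (nat_lit 872) (Tr.nd (nat_lit 868) (Tr.nd (nat_lit 866) (Tr.lf (Fc.ed (nat_lit 865) (nat_lit 553) Col.d (nat_lit 554) Dv.df)) (Tr.nd (nat_lit 867) (Tr.lf (Fc.ed (nat_lit 866) (nat_lit 554) Col.c (nat_lit 552) (Dv.wd (nat_lit 17) [Mv.b (nat_lit 862), Mv.b (nat_lit 620), Mv.f (nat_lit 612), Mv.f (nat_lit 615), Mv.b (nat_lit 613), Mv.f (nat_lit 625), Mv.f (nat_lit 864), Mv.f (nat_lit 865)]))) (Tr.lf (Fc.ed (nat_lit 867) (nat_lit 545) Col.a (nat_lit 555) Dv.df)))) (Tr.nd (nat_lit 870) (Tr.nd (nat_lit 869) (Tr.lf (Fc.ed (nat_lit 868) (nat_lit 555) Col.d (nat_lit 540) (Dv.wd (nat_lit 2) [Mv.f (nat_lit 845), Mv.b (nat_lit 852), Mv.f (nat_lit 867)]))) (Tr.lf (Fc.ed (nat_lit 869) (nat_lit 385) Col.a (nat_lit 556) Dv.df))) (Tr.nd (nat_lit 871) (Tr.lf (Fc.ed (nat_lit 870) (nat_lit 556) Col.c (nat_lit 553) (Dv.wd (nat_lit 0) [Mv.b (nat_lit 864), Mv.b (nat_lit 625), Mv.f (nat_lit 869)]))) (Tr.lf (Fc.ed (nat_lit 871) (nat_lit 549) Col.a (nat_lit 557) Dv.df))))) (Tr.nd (nat_lit 875) (Tr.nd (nat_lit 873) (Tr.lf (Fc.ed (nat_lit 872) (nat_lit 546) Col.b (nat_lit 558) Dv.df)) (Tr.nd (nat_lit 874) (Tr.lf (Fc.ed (nat_lit 873) (nat_lit 557) Col.c (nat_lit 559) Dv.df)) (Tr.lf (Fc.ed (nat_lit 874) (nat_lit 537) Col.d (nat_lit 560) Dv.df)))) (Tr.nd (nat_lit 877) (Tr.nd (nat_lit 876) (Tr.lf (Fc.ed (nat_lit 875) (nat_lit 539) Col.d (nat_lit 561) Dv.df)) (Tr.lf (Fc.ed (nat_lit 876) (nat_lit 561) Col.c (nat_lit 560) (Dv.wd (nat_lit 12) [Mv.b (nat_lit 874), Mv.f (nat_lit 840), Mv.f (nat_lit 803), Mv.b (nat_lit 773), Mv.f (nat_lit 633), Mv.f (nat_lit 841), Mv.f (nat_lit 843), Mv.f (nat_lit 875)])))) (Tr.nd (nat_lit 878) (Tr.lf (Fc.ed (nat_lit 877) (nat_lit 556) Col.b (nat_lit 562) Dv.df)) (Tr.lf (Fc.ed (nat_lit 878) (nat_lit 474) Col.d (nat_lit 563) Dv.df)))))) (Tr.nd (nat_lit 886) (Tr.nd (nat_lit 882) (Tr.nd (nat_lit 880) (Tr.lf (Fc.ed (nat_lit 879) (nat_lit 544) Col.b (nat_lit 564) Dv.df)) (Tr.nd (nat_lit 881) (Tr.lf (Fc.ed (nat_lit 880) (nat_lit 564) Col.a (nat_lit 558) (Dv.wd (nat_lit 13) [Mv.b (nat_lit 872), Mv.b (nat_lit 853), Mv.b (nat_lit 779), Mv.f (nat_lit 560), Mv.f (nat_lit 361), Mv.b (nat_lit 366), Mv.b (nat_lit 598), Mv.f (nat_lit 849), Mv.f (nat_lit 879)]))) (Tr.lf (Fc.ed (nat_lit 881) (nat_lit 409) Col.a (nat_lit 565) Dv.df)))) (Tr.nd (nat_lit 884) (Tr.nd (nat_lit 883) (Tr.lf (Fc.ed (nat_lit 882) (nat_lit 565) Col.c (nat_lit 402) (Dv.wd (nat_lit 0) [Mv.b (nat_lit 627), Mv.b (nat_lit 639), Mv.f (nat_lit 881)]))) (Tr.lf (Fc.ed (nat_lit 883) (nat_lit 501) Col.a (nat_lit 566) Dv.df))) (Tr.nd (nat_lit 885) (Tr.lf (Fc.ed (nat_lit 884) (nat_lit 551) Col.b (nat_lit 567) Dv.df)) (Tr.lf (Fc.ed (nat_lit 885) (nat_lit 567) Col.c (nat_lit 525) (Dv.wd (nat_lit 4) [Mv.b (nat_lit 820), Mv.b (nat_lit 673), Mv.b (nat_lit 783), Mv.f (nat_lit 861), Mv.f (nat_lit 884)])))))) (Tr.nd (nat_lit 889) (Tr.nd (nat_lit 887) (Tr.lf (Fc.ed (nat_lit 886) (nat_lit 543) Col.b (nat_lit 568) Dv.df)) (Tr.nd (nat_lit 888) (Tr.lf (Fc.ed (nat_lit 887) (nat_lit 568) Col.a (nat_lit 562) (Dv.wd (nat_lit 13) [Mv.b (nat_lit 877), Mv.b (nat_lit 869), Mv.b (nat_lit 601), Mv.f (nat_lit 358), Mv.b (nat_lit 281), Mv.b (nat_lit 331), Mv.f (nat_lit 618), Mv.f (nat_lit 848), Mv.f (nat_lit 886)]))) (Tr.lf (Fc.ed (nat_lit 888) (nat_lit 563) Col.c (nat_lit 569) Dv.df)))) (Tr.nd (nat_lit 891) (Tr.nd (nat_lit 890) (Tr.lf (Fc.ed (nat_lit 889) (nat_lit 493) Col.b (nat_lit 570) Dv.df)) (Tr.lf (Fc.ed (nat_lit 890) (nat_lit 570) Col.d (nat_lit 407) (Dv.wd (nat_lit 3) [Mv.f (nat_lit 636), Mv.f (nat_lit 770), Mv.f (nat_lit 889)])))) (Tr.nd (nat_lit 892) (Tr.lf (Fc.ed (nat_lit 891) (nat_lit 566) Col.b (nat_lit 571) Dv.df)) (Tr.lf (Fc.ed (nat_lit 892) (nat_lit 426) Col.d (nat_lit 572) Dv.df)))))))))))) (Tr.nd (nat_lit 1340) (Tr.nd (nat_lit 1116) (Tr.nd (nat_lit 1004) (Tr.nd (nat_lit 948) (Tr.nd (nat_lit 920) (Tr.nd (nat_lit 906) (Tr.nd (nat_lit 899) (Tr.nd (nat_lit 896) (Tr.nd (nat_lit 894) (Tr.lf (Fc.ed (nat_lit 893) (nat_lit 547) Col.b (nat_lit 573) Dv.df)) (Tr.nd (nat_lit 895) (Tr.lf (Fc.ed (nat_lit 894) (nat_lit 573) Col.d (nat_lit 564) (Dv.wd (nat_lit 3) [Mv.b (nat_lit 879), Mv.b (nat_lit 855), Mv.f (nat_lit 893)]))) (Tr.lf (Fc.ed (nat_lit 895) (nat_lit 573) Col.a (nat_lit 571) (Dv.wd (nat_lit 13) [Mv.b (nat_lit 891), Mv.b (nat_lit 883), Mv.f (nat_lit 783), Mv.f (nat_lit 567), Mv.f (nat_lit 554), Mv.f (nat_lit 534), Mv.f (nat_lit 593), Mv.f (nat_lit 854), Mv.f (nat_lit 893)]))))) (Tr.nd (nat_lit 897) (Tr.lf (Fc.ed (nat_lit 896) (nat_lit 410) Col.a (nat_lit 574) Dv.df)) (Tr.nd (nat_lit 898) (Tr.lf (Fc.ed (nat_lit 897) (nat_lit 420) Col.d (nat_lit 575) Dv.df)) (Tr.lf (Fc.ed (nat_lit 898) (nat_lit 575) Col.b (nat_lit 532) (Dv.wd (nat_lit 1) [Mv.f (nat_lit 831), Mv.b (nat_lit 655), Mv.f (nat_lit 897)])))))) (Tr.nd (nat_lit 902) (Tr.nd (nat_lit 900) (Tr.lf (Fc.ed (nat_lit 899) (nat_lit 425) Col.d (nat_lit 576) Dv.df)) (Tr.nd (nat_lit 901) (Tr.lf (Fc.ed (nat_lit 900) (nat_lit 576) Col.a (nat_lit 563) (Dv.wd (nat_lit 5) [Mv.b (nat_lit 878), Mv.f (nat_lit 743), Mv.f (nat_lit 899)]))) (Tr.lf (Fc.ed (nat_lit 901) (nat_lit 576) Col.b (nat_lit 492) (Dv.wd (nat_lit 1) [Mv.b (nat_lit 769), Mv.b (nat_lit 666), Mv.f (nat_lit 899)]))))) (Tr.nd (nat_lit 904) (Tr.nd (nat_lit 903) (Tr.lf (Fc.ed (nat_lit 902) (nat_lit 444) Col.a (nat_lit 577) Dv.df)) (Tr.lf (Fc.ed (nat_lit 903) (nat_lit 565) Col.b (nat_lit 578) Dv.df))) (Tr.nd (nat_lit 905) (Tr.lf (Fc.ed (nat_lit 904) (nat_lit 569) Col.a (nat_lit 579) Dv.df)) (Tr.lf (Fc.ed (nat_lit 905) (nat_lit 579) Col.c (nat_lit 576) (Dv.wd (nat_lit 0) [Mv.f (nat_lit 900), Mv.f (nat_lit 888), Mv.f (nat_lit 904)]))))))) (Tr.nd (nat_lit 913) (Tr.nd (nat_lit 909) (Tr.nd (nat_lit 907) (Tr.lf (Fc.ed (nat_lit 906) (nat_lit 542) Col.d (nat_lit 580) Dv.df)) (Tr.nd (nat_lit 908) (Tr.lf (Fc.ed (nat_lit 907) (nat_lit 580) Col.a (nat_lit 570) (Dv.wd (nat_lit 5) [Mv.f (nat_lit 890), Mv.f (nat_lit 847), Mv.f (nat_lit 906)]))) (Tr.lf (Fc.ed (nat_lit 908) (nat_lit 575) Col.c (nat_lit 581) Dv.df)))) (Tr.nd (nat_lit 911) (Tr.nd (nat_lit 910) (Tr.lf (Fc.ed (nat_lit 909) (nat_lit 473) Col.d (nat_lit 582) Dv.df)) (Tr.lf (Fc.ed (nat_lit 910) (nat_lit 582) Col.a (nat_lit 530) (Dv.wd (nat_lit 5) [Mv.b (nat_lit 828), Mv.b (nat_lit 741), Mv.f (nat_lit 909)])))) (Tr.nd (nat_lit 912) (Tr.lf (Fc.ed (nat_lit 911) (nat_lit 582) Col.c (nat_lit 583) Dv.df)) (Tr.lf (Fc.ed (nat_lit 912) (nat_lit 583) Col.d (nat_lit 579) (Dv.wd (nat_lit 11) [Mv.f (nat_lit 905), Mv.b (nat_lit 899), Mv.b (nat_lit 665), Mv.f (nat_lit 542), Mv.b (nat_lit 574), Mv.f (nat_lit 828), Mv.b (nat_lit 910), Mv.f (nat_lit 911)])))))) (Tr.nd (nat_lit 916) (Tr.nd (nat_lit 914) (Tr.lf (Fc.ed (nat_lit 913) (nat_lit 559) Col.a (nat_lit 584) Dv.df)) (Tr.nd (nat_lit 915) (Tr.lf (Fc.ed (nat_lit 914) (nat_lit 584) Col.c (nat_lit 549) (Dv.wd (nat_lit 0) [Mv.f (nat_lit 871), Mv.f (nat_lit 873), Mv.f (nat_lit 913)]))) (Tr.lf (Fc.ed (nat_lit 915) (nat_lit 526) Col.d (nat_lit 585) Dv.df)))) (Tr.nd (nat_lit 918) (Tr.nd (nat_lit 917) (Tr.lf (Fc.ed (nat_lit 916) (nat_lit 585) Col.a (nat_lit 572) (Dv.wd (nat_lit 5) [Mv.b (nat_lit 892), Mv.b (nat_lit 823), Mv.f (nat_lit 915)]))) (Tr.lf (Fc.ed (nat_lit 917) (nat_lit 411) Col.a (nat_lit 586) Dv.df))) (Tr.nd (nat_lit 919) (Tr.lf (Fc.ed (nat_lit 918) (nat_lit 586) Col.c (nat_lit 574) (Dv.wd (nat_lit 0) [Mv.b (nat_lit 896), Mv.f (nat_lit 641), Mv.f (nat_lit 917)]))) (Tr.lf (Fc.ed (nat_lit 919) (nat_lit 467) Col.b (nat_lit 587) Dv.df))))))) (Tr.nd (nat_lit 934) (Tr.nd (nat_lit 927) (Tr.nd (nat_lit 923) (Tr.nd (nat_lit 921) (Tr.lf (Fc.ed (nat_lit 920) (nat_lit 587) Col.d (nat_lit 418) (Dv.wd (nat_lit 3) [Mv.b (nat_lit 651), Mv.f (nat_lit 731), Mv.f (nat_lit 919)]))) (Tr.nd (nat_lit 922) (Tr.lf (Fc.ed (nat_lit 921) (nat_lit 578) Col.c (nat_lit 588) Dv.df)) (Tr.lf (Fc.ed (nat_lit 922) (nat_lit 588) Col.b (nat_lit 422) (Dv.wd (nat_lit 7) [Mv.b (nat_lit 657), Mv.f (nat_lit 629), Mv.b (nat_lit 882), Mv.f (nat_lit 903), Mv.f (nat_lit 921)]))))) (Tr.nd (nat_lit 925) (Tr.nd (nat_lit 924) (Tr.lf (Fc.ed (nat_lit 923) (nat_lit 585) Col.c (nat_lit 589) Dv.df)) (Tr.lf (Fc.ed (nat_lit 924) (nat_lit 589) Col.d (nat_lit 584) (Dv.wd (nat_lit 11) [Mv.f (nat_lit 914), Mv.b (nat_lit 858), Mv.b (nat_lit 623), Mv.f (nat_lit 591), Mv.b (nat_lit 668), Mv.f (nat_lit 892), Mv.b (nat_lit 916), Mv.f (nat_lit 923)])))) (Tr.nd (nat_lit 926) (Tr.lf (Fc.ed (nat_lit 925) (nat_lit 577) Col.c (nat_lit 590) Dv.df)) (Tr.lf (Fc.ed (nat_lit 926) (nat_lit 590) Col.d (nat_lit 581) (Dv.wd (nat_lit 11) [Mv.b (nat_lit 908), Mv.b (nat_lit 897), Mv.b (nat_lit 654), Mv.b (nat_lit 643), Mv.f (nat_lit 641), Mv.f (nat_lit 694), Mv.f (nat_lit 902), Mv.f (nat_lit 925)])))))) (Tr.nd (nat_lit 930) (Tr.nd (nat_lit 928) (Tr.lf (Fc.ed (nat_lit 927) (nat_lit 587) Col.c (nat_lit 591) Dv.df)) (Tr.nd (nat_lit 929) (Tr.lf (Fc.ed (nat_lit 928) (nat_lit 591) Col.d (nat_lit 592) Dv.df)) (Tr.lf (Fc.ed (nat_lit 929) (nat_lit 592) Col.c (nat_lit 520) (Dv.wd (nat_lit 12) [Mv.b (nat_lit 813), Mv.f (nat_lit 798), Mv.b (nat_lit 825), Mv.b (nat_lit 824), Mv.b (nat_lit 652), Mv.b (nat_lit 920), Mv.f (nat_lit 927), Mv.f (nat_lit 928)]))))) (Tr.nd (nat_lit 932) (Tr.nd (nat_lit 931) (Tr.lf (Fc.ed (nat_lit 930) (nat_lit 592) Col.a (nat_lit 483) (Dv.wd (nat_lit 18) [Mv.b (nat_lit 755), Mv.f (nat_lit 736), Mv.f (nat_lit 586), Mv.f (nat_lit 588), Mv.b (nat_lit 652), Mv.b (nat_lit 920), Mv.f (nat_lit 927), Mv.f (nat_lit 928)]))) (Tr.lf (Fc.ed (nat_lit 931) (nat_lit 468) Col.b (nat_lit 593) Dv.df))) (Tr.nd (nat_lit 933) (Tr.lf (Fc.ed (nat_lit 932) (nat_lit 526) Col.b (nat_lit 594) Dv.df)) (Tr.lf (Fc.ed (nat_lit 933) (nat_lit 594) Col.c (nat_lit 593) (Dv.wd (nat_lit 4) [Mv.b (nat_lit 931), Mv.f (nat_lit 733), Mv.b (nat_lit 607), Mv.f (nat_lit 822), Mv.f (nat_lit 932)]))))))) (Tr.nd (nat_lit 941) (Tr.nd (nat_lit 937) (Tr.nd (nat_lit 935) (Tr.lf (Fc.ed (nat_lit 934) (nat_lit 591) Col.a (nat_lit 595) Dv.df)) (Tr.nd (nat_lit 936) (Tr.lf (Fc.ed (nat_lit 935) (nat_lit 595) Col.d (nat_lit 483) (Dv.wd (nat_lit 2) [Mv.b (nat_lit 930), Mv.b (nat_lit 928), Mv.f (nat_lit 934)]))) (Tr.lf (Fc.ed (nat_lit 936) (nat_lit 527) Col.c (nat_lit 596) Dv.df)))) (Tr.nd (nat_lit 939) (Tr.nd (nat_lit 938) (Tr.lf (Fc.ed (nat_lit 937) (nat_lit 595) Col.c (nat_lit 597) Dv.df)) (Tr.lf (Fc.ed (nat_lit 938) (nat_lit 597) Col.d (nat_lit 596) (Dv.wd (nat_lit 11) [Mv.b (nat_lit 936), Mv.f (nat_lit 825), Mv.b (nat_lit 798), Mv.f (nat_lit 813), Mv.b (nat_lit 929), Mv.b (nat_lit 928), Mv.f (nat_lit 934), Mv.f (nat_lit 937)])))) (Tr.nd (nat_lit 940) (Tr.lf (Fc.ed (nat_lit 939) (nat_lit 433) Col.c (nat_lit 598) Dv.df)) (Tr.lf (Fc.ed (nat_lit 940) (nat_lit 598) Col.a (nat_lit 445) (Dv.wd (nat_lit 6) [Mv.b (nat_lit 696), Mv.f (nat_lit 677), Mv.f (nat_lit 939)])))))) (Tr.nd (nat_lit 944) (Tr.nd (nat_lit 942) (Tr.lf (Fc.ed (nat_lit 941) (nat_lit 598) Col.b (nat_lit 599) Dv.df)) (Tr.nd (nat_lit 943) (Tr.lf (Fc.ed (nat_lit 942) (nat_lit 588) Col.d (nat_lit 600) Dv.df)) (Tr.lf (Fc.ed (nat_lit 943) (nat_lit 600) Col.b (nat_lit 479) (Dv.wd (nat_lit 1) [Mv.f (nat_lit 750), Mv.b (nat_lit 922), Mv.f (nat_lit 942)]))))) (Tr.nd (nat_lit 946) (Tr.nd (nat_lit 945) (Tr.lf (Fc.ed (nat_lit 944) (nat_lit 434) Col.a (nat_lit 601) Dv.df)) (Tr.lf (Fc.ed (nat_lit 945) (nat_lit 601) Col.d (nat_lit 602) Dv.df))) (Tr.nd (nat_lit 947) (Tr.lf (Fc.ed (nat_lit 946) (nat_lit 602) Col.a (nat_lit 432) (Dv.wd (nat_lit 5) [Mv.b (nat_lit 679), Mv.f (nat_lit 944), Mv.f (nat_lit 945)]))) (Tr.lf (Fc.ed (nat_lit 947) (nat_lit 601) Col.c (nat_lit 603) Dv.df)))))))) (Tr.nd (nat_lit 976) (Tr.nd (nat_lit 962) (Tr.nd (nat_lit 955) (Tr.nd (nat_lit 951) (Tr.nd (nat_lit 949) (Tr.lf (Fc.ed (nat_lit 948) (nat_lit 603) Col.a (nat_lit 435) (Dv.wd (nat_lit 6) [Mv.f (nat_lit 681), Mv.f (nat_lit 944), Mv.f (nat_lit 947)]))) (Tr.nd (nat_lit 950) (Tr.lf (Fc.ed (nat_lit 949) (nat_lit 436) Col.a (nat_lit 604) Dv.df)) (Tr.lf (Fc.ed (nat_lit 950) (nat_lit 604) Col.d (nat_lit 603) (Dv.wd (nat_lit 2) [Mv.f (nat_lit 948), Mv.b (nat_lit 683), Mv.f (nat_lit 949)]))))) (Tr.nd (nat_lit 953) (Tr.nd (nat_lit 952) (Tr.lf (Fc.ed (nat_lit 951) (nat_lit 603) Col.b (nat_lit 605) Dv.df)) (Tr.lf (Fc.ed (nat_lit 952) (nat_lit 586) Col.b (nat_lit 606) Dv.df))) (Tr.nd (nat_lit 954) (Tr.lf (Fc.ed (nat_lit 953) (nat_lit 606) Col.a (nat_lit 605) (Dv.wd (nat_lit 13) [Mv.b (nat_lit 951), Mv.f (nat_lit 948), Mv.b (nat_lit 680), Mv.f (nat_lit 500), Mv.b (nat_lit 518), Mv.b (nat_lit 528), Mv.b (nat_lit 642), Mv.f (nat_lit 917), Mv.f (nat_lit 952)]))) (Tr.lf (Fc.ed (nat_lit 954) (nat_lit 604) Col.b (nat_lit 607) Dv.df))))) (Tr.nd (nat_lit 958) (Tr.nd (nat_lit 956) (Tr.lf (Fc.ed (nat_lit 955) (nat_lit 607) Col.d (nat_lit 605) (Dv.wd (nat_lit 3) [Mv.b (nat_lit 951), Mv.b (nat_lit 950), Mv.f (nat_lit 954)]))) (Tr.nd (nat_lit 957) (Tr.lf (Fc.ed (nat_lit 956) (nat_lit 541) Col.d (nat_lit 608) Dv.df)) (Tr.lf (Fc.ed (nat_lit 957) (nat_lit 608) Col.b (nat_lit 528) (Dv.wd (nat_lit 1) [Mv.b (nat_lit 826), Mv.f (nat_lit 846), Mv.f (nat_lit 956)]))))) (Tr.nd (nat_lit 960) (Tr.nd (nat_lit 959) (Tr.lf (Fc.ed (nat_lit 958) (nat_lit 607) Col.a (nat_lit 609) Dv.df)) (Tr.lf (Fc.ed (nat_lit 959) (nat_lit 609) Col.b (nat_lit 577) (Dv.wd (nat_lit 8) [Mv.b (nat_lit 902), Mv.f (nat_lit 695), Mv.b (nat_lit 493), Mv.f (nat_lit 386), Mv.f (nat_lit 464), Mv.f (nat_lit 682), Mv.f (nat_lit 949), Mv.f (nat_lit 954), Mv.f (nat_lit 958)])))) (Tr.nd (nat_lit 961) (Tr.lf (Fc.ed (nat_lit 960) (nat_lit 440) Col.a (nat_lit 610) Dv.df)) (Tr.lf (Fc.ed (nat_lit 961) (nat_lit 500) Col.d (nat_lit 611) Dv.df)))))) (Tr.nd (nat_lit 969) (Tr.nd (nat_lit 965) (Tr.nd (nat_lit 963) (Tr.lf (Fc.ed (nat_lit 962) (nat_lit 611) Col.b (nat_lit 476) (Dv.wd (nat_lit 1) [Mv.b (nat_lit 745), Mv.b (nat_lit 781), Mv.f (nat_lit 961)]))) (Tr.nd (nat_lit 964) (Tr.lf (Fc.ed (nat_lit 963) (nat_lit 455) Col.d (nat_lit 612) Dv.df)) (Tr.lf (Fc.ed (nat_lit 964) (nat_lit 612) Col.b (nat_lit 502) (Dv.wd (nat_lit 1) [Mv.b (nat_lit 784), Mv.f (nat_lit 710), Mv.f (nat_lit 963)]))))) (Tr.nd (nat_lit 967) (Tr.nd (nat_lit 966) (Tr.lf (Fc.ed (nat_lit 965) (nat_lit 602) Col.b (nat_lit 613) Dv.df)) (Tr.lf (Fc.ed (nat_lit 966) (nat_lit 610) Col.c (nat_lit 614) Dv.df))) (Tr.nd (nat_lit 968) (Tr.lf (Fc.ed (nat_lit 967) (nat_lit 614) Col.a (nat_lit 447) (Dv.wd (nat_lit 6) [Mv.b (nat_lit 700), Mv.f (nat_lit 960), Mv.f (nat_lit 966)]))) (Tr.lf (Fc.ed (nat_lit 968) (nat_lit 610) Col.b (nat_lit 615) Dv.df))))) (Tr.nd (nat_lit 972) (Tr.nd (nat_lit 970) (Tr.lf (Fc.ed (nat_lit 969) (nat_lit 615) Col.a (nat_lit 613) (Dv.wd (nat_lit 13) [Mv.b (nat_lit 965), Mv.f (nat_lit 946), Mv.b (nat_lit 676), Mv.f (nat_lit 403), Mv.b (nat_lit 300), Mv.f (nat_lit 453), Mv.f (nat_lit 688), Mv.f (nat_lit 960), Mv.f (nat_lit 968)]))) (Tr.nd (nat_lit 971) (Tr.lf (Fc.ed (nat_lit 970) (nat_lit 610) Col.d (nat_lit 616) Dv.df)) (Tr.lf (Fc.ed (nat_lit 971) (nat_lit 616) Col.a (nat_lit 443) (Dv.wd (nat_lit 5) [Mv.f (nat_lit 693), Mv.f (nat_lit 960), Mv.f (nat_lit 970)]))))) (Tr.nd (nat_lit 974) (Tr.nd (nat_lit 973) (Tr.lf (Fc.ed (nat_lit 972) (nat_lit 601) Col.b (nat_lit 617) Dv.df)) (Tr.lf (Fc.ed (nat_lit 973) (nat_lit 616) Col.b (nat_lit 618) Dv.df))) (Tr.nd (nat_lit 975) (Tr.lf (Fc.ed (nat_lit 974) (nat_lit 618) Col.d (nat_lit 615) (Dv.wd (nat_lit 3) [Mv.b (nat_lit 968), Mv.f (nat_lit 970), Mv.f (nat_lit 973)]))) (Tr.lf (Fc.ed (nat_lit 975) (nat_lit 618) Col.a (nat_lit 617) (Dv.wd (nat_lit 13) [Mv.b (nat_lit 972), Mv.b (nat_lit 944), Mv.b (nat_lit 678), Mv.b (nat_lit 460), Mv.f (nat_lit 461), Mv.b (nat_lit 488), Mv.f (nat_lit 692), Mv.b (nat_lit 971), Mv.f (nat_lit 973)])))))))) (Tr.nd (nat_lit 990) (Tr.nd (nat_lit 983) (Tr.nd (nat_lit 979) (Tr.nd (nat_lit 977) (Tr.lf (Fc.ed (nat_lit 976) (nat_lit 614) Col.d (nat_lit 619) Dv.df)) (Tr.nd (nat_lit 978) (Tr.lf (Fc.ed (nat_lit 977) (nat_lit 457) Col.b (nat_lit 620) Dv.df)) (Tr.lf (Fc.ed (nat_lit 978) (nat_lit 491) Col.b (nat_lit 621) Dv.df)))) (Tr.nd (nat_lit 981) (Tr.nd (nat_lit 980) (Tr.lf (Fc.ed (nat_lit 979) (nat_lit 621) Col.c (nat_lit 620) (Dv.wd (nat_lit 4) [Mv.b (nat_lit 977), Mv.b (nat_lit 713), Mv.b (nat_lit 699), Mv.b (nat_lit 768), Mv.f (nat_lit 978)]))) (Tr.lf (Fc.ed (nat_lit 980) (nat_lit 455) Col.a (nat_lit 622) Dv.df))) (Tr.nd (nat_lit 982) (Tr.lf (Fc.ed (nat_lit 981) (nat_lit 472) Col.d (nat_lit 623) Dv.df)) (Tr.lf (Fc.ed (nat_lit 982) (nat_lit 623) Col.b (nat_lit 521) (Dv.wd (nat_lit 1) [Mv.b (nat_lit 814), Mv.b (nat_lit 739), Mv.f (nat_lit 981)])))))) (Tr.nd (nat_lit 986) (Tr.nd (nat_lit 984) (Tr.lf (Fc.ed (nat_lit 983) (nat_lit 620) Col.d (nat_lit 624) Dv.df)) (Tr.nd (nat_lit 985) (Tr.lf (Fc.ed (nat_lit 984) (nat_lit 624) Col.b (nat_lit 460) (Dv.wd (nat_lit 1) [Mv.b (nat_lit 719), Mv.f (nat_lit 977), Mv.f (nat_lit 983)]))) (Tr.lf (Fc.ed (nat_lit 985) (nat_lit 503) Col.b (nat_lit 625) Dv.df)))) (Tr.nd (nat_lit 988) (Tr.nd (nat_lit 987) (Tr.lf (Fc.ed (nat_lit 986) (nat_lit 625) Col.c (nat_lit 624) (Dv.wd (nat_lit 4) [Mv.f (nat_lit 984), Mv.f (nat_lit 720), Mv.b (nat_lit 726), Mv.f (nat_lit 786), Mv.f (nat_lit 985)]))) (Tr.lf (Fc.ed (nat_lit 987) (nat_lit 622) Col.d (nat_lit 626) Dv.df))) (Tr.nd (nat_lit 989) (Tr.lf (Fc.ed (nat_lit 988) (nat_lit 626) Col.a (nat_lit 612) (Dv.wd (nat_lit 5) [Mv.b (nat_lit 963), Mv.f (nat_lit 980), Mv.f (nat_lit 987)]))) (Tr.lf (Fc.ed (nat_lit 989) (nat_lit 626) Col.c (nat_lit 627) Dv.df)))))) (Tr.nd (nat_lit 997) (Tr.nd (nat_lit 993) (Tr.nd (nat_lit 991) (Tr.lf (Fc.ed (nat_lit 990) (nat_lit 627) Col.d (nat_lit 567) (Dv.wd (nat_lit 11) [Mv.f (nat_lit 885), Mv.f (nat_lit 821), Mv.f (nat_lit 711), Mv.b (nat_lit 717), Mv.f (nat_lit 718), Mv.f (nat_lit 963), Mv.b (nat_lit 988), Mv.f (nat_lit 989)]))) (Tr.nd (nat_lit 992) (Tr.lf (Fc.ed (nat_lit 991) (nat_lit 574) Col.b (nat_lit 628) Dv.df)) (Tr.lf (Fc.ed (nat_lit 992) (nat_lit 567) Col.a (nat_lit 629) Dv.df)))) (Tr.nd (nat_lit 995) (Tr.nd (nat_lit 994) (Tr.lf (Fc.ed (nat_lit 993) (nat_lit 629) Col.d (nat_lit 630) Dv.df)) (Tr.lf (Fc.ed (nat_lit 994) (nat_lit 630) Col.a (nat_lit 627) (Dv.wd (nat_lit 5) [Mv.f (nat_lit 990), Mv.f (nat_lit 992), Mv.f (nat_lit 993)])))) (Tr.nd (nat_lit 996) (Tr.lf (Fc.ed (nat_lit 995) (nat_lit 630) Col.c (nat_lit 612) (Dv.wd (nat_lit 17) [Mv.b (nat_lit 963), Mv.b (nat_lit 718), Mv.f (nat_lit 717), Mv.b (nat_lit 711), Mv.b (nat_lit 821), Mv.b (nat_lit 885), Mv.f (nat_lit 992), Mv.f (nat_lit 993)]))) (Tr.lf (Fc.ed (nat_lit 996) (nat_lit 486) Col.b (nat_lit 631) Dv.df))))) (Tr.nd (nat_lit 1000) (Tr.nd (nat_lit 998) (Tr.lf (Fc.ed (nat_lit 997) (nat_lit 477) Col.d (nat_lit 632) Dv.df)) (Tr.nd (nat_lit 999) (Tr.lf (Fc.ed (nat_lit 998) (nat_lit 632) Col.b (nat_lit 524) (Dv.wd (nat_lit 1) [Mv.b (nat_lit 818), Mv.f (nat_lit 746), Mv.f (nat_lit 997)]))) (Tr.lf (Fc.ed (nat_lit 999) (nat_lit 452) Col.c (nat_lit 633) Dv.df)))) (Tr.nd (nat_lit 1002) (Tr.nd (nat_lit 1001) (Tr.lf (Fc.ed (nat_lit 1000) (nat_lit 633) Col.b (nat_lit 634) Dv.df)) (Tr.lf (Fc.ed (nat_lit 1001) (nat_lit 619) Col.c (nat_lit 635) Dv.df))) (Tr.nd (nat_lit 1003) (Tr.lf (Fc.ed (nat_lit 1002) (nat_lit 519) Col.b (nat_lit 636) Dv.df)) (Tr.lf (Fc.ed (nat_lit 1003) (nat_lit 636) Col.d (nat_lit 593) (Dv.wd (nat_lit 3) [Mv.b (nat_lit 931), Mv.f (nat_lit 811), Mv.f (nat_lit 1002)])))))))))) (Tr.nd (nat_lit 1060) (Tr.nd (nat_lit 1032) (Tr.nd (nat_lit 1018) (Tr.nd (nat_lit 1011) (Tr.nd (nat_lit 1007) (Tr.nd (nat_lit 1005) (Tr.lf (Fc.ed (nat_lit 1004) (nat_lit 635) Col.d (nat_lit 637) Dv.df)) (Tr.nd (nat_lit 1006) (Tr.lf (Fc.ed (nat_lit 1005) (nat_lit 490) Col.d (nat_lit 638) Dv.df)) (Tr.lf (Fc.ed (nat_lit 1006) (nat_lit 638) Col.b (nat_lit 595) (Dv.wd (nat_lit 1) [Mv.f (nat_lit 935), Mv.b (nat_lit 766), Mv.f (nat_lit 1005)]))))) (Tr.nd (nat_lit 1009) (Tr.nd (nat_lit 1008) (Tr.lf (Fc.ed (nat_lit 1007) (nat_lit 638) Col.c (nat_lit 637) (Dv.wd (nat_lit 10) [Mv.b (nat_lit 1004), Mv.b (nat_lit 1001), Mv.b (nat_lit 976), Mv.b (nat_lit 966), Mv.f (nat_lit 970), Mv.f (nat_lit 971), Mv.f (nat_lit 765), Mv.f (nat_lit 1005)]))) (Tr.lf (Fc.ed (nat_lit 1008) (nat_lit 481) Col.b (nat_lit 639) Dv.df))) (Tr.nd (nat_lit 1010) (Tr.lf (Fc.ed (nat_lit 1009) (nat_lit 639) Col.c (nat_lit 631) (Dv.wd (nat_lit 4) [Mv.b (nat_lit 996), Mv.f (nat_lit 760), Mv.b (nat_lit 708), Mv.f (nat_lit 752), Mv.f (nat_lit 1008)]))) (Tr.lf (Fc.ed (nat_lit 1010) (nat_lit 536) Col.c (nat_lit 640) Dv.df))))) (Tr.nd (nat_lit 1014) (Tr.nd (nat_lit 1012) (Tr.lf (Fc.ed (nat_lit 1011) (nat_lit 469) Col.b (nat_lit 641) Dv.df)) (Tr.nd (nat_lit 1013) (Tr.lf (Fc.ed (nat_lit 1012) (nat_lit 641) Col.d (nat_lit 642) Dv.df)) (Tr.lf (Fc.ed (nat_lit 1013) (nat_lit 642) Col.b (nat_lit 480) (Dv.wd (nat_lit 1) [Mv.b (nat_lit 751), Mv.f (nat_lit 1011), Mv.f (nat_lit 1012)]))))) (Tr.nd (nat_lit 1016) (Tr.nd (nat_lit 1015) (Tr.lf (Fc.ed (nat_lit 1014) (nat_lit 488) Col.d (nat_lit 643) Dv.df)) (Tr.lf (Fc.ed (nat_lit 1015) (nat_lit 643) Col.b (nat_lit 505) (Dv.wd (nat_lit 1) [Mv.f (nat_lit 790), Mv.f (nat_lit 762), Mv.f (nat_lit 1014)])))) (Tr.nd (nat_lit 1017) (Tr.lf (Fc.ed (nat_lit 1016) (nat_lit 634) Col.c (nat_lit 644) Dv.df)) (Tr.lf (Fc.ed (nat_lit 1017) (nat_lit 644) Col.b (nat_lit 473) (Dv.wd (nat_lit 7) [Mv.b (nat_lit 740), Mv.f (nat_lit 706), Mv.f (nat_lit 999), Mv.f (nat_lit 1000), Mv.f (nat_lit 1016)]))))))) (Tr.nd (nat_lit 1025) (Tr.nd (nat_lit 1021) (Tr.nd (nat_lit 1019) (Tr.lf (Fc.ed (nat_lit 1018) (nat_lit 644) Col.d (nat_lit 645) Dv.df)) (Tr.nd (nat_lit 1020) (Tr.lf (Fc.ed (nat_lit 1019) (nat_lit 645) Col.b (nat_lit 582) (Dv.wd (nat_lit 1) [Mv.b (nat_lit 909), Mv.b (nat_lit 1017), Mv.f (nat_lit 1018)]))) (Tr.lf (Fc.ed (nat_lit 1020) (nat_lit 593) Col.a (nat_lit 646) Dv.df)))) (Tr.nd (nat_lit 1023) (Tr.nd (nat_lit 1022) (Tr.lf (Fc.ed (nat_lit 1021) (nat_lit 639) Col.d (nat_lit 647) Dv.df)) (Tr.lf (Fc.ed (nat_lit 1022) (nat_lit 647) Col.b (nat_lit 482) (Dv.wd (nat_lit 1) [Mv.f (nat_lit 754), Mv.f (nat_lit 1008), Mv.f (nat_lit 1021)])))) (Tr.nd (nat_lit 1024) (Tr.lf (Fc.ed (nat_lit 1023) (nat_lit 545) Col.c (nat_lit 648) Dv.df)) (Tr.lf (Fc.ed (nat_lit 1024) (nat_lit 648) Col.b (nat_lit 649) Dv.df))))) (Tr.nd (nat_lit 1028) (Tr.nd (nat_lit 1026) (Tr.lf (Fc.ed (nat_lit 1025) (nat_lit 649) Col.c (nat_lit 641) (Dv.wd (nat_lit 4) [Mv.b (nat_lit 1011), Mv.b (nat_lit 734), Mv.f (nat_lit 851), Mv.f (nat_lit 1023), Mv.f (nat_lit 1024)]))) (Tr.nd (nat_lit 1027) (Tr.lf (Fc.ed (nat_lit 1026) (nat_lit 579) Col.b (nat_lit 650) Dv.df)) (Tr.lf (Fc.ed (nat_lit 1027) (nat_lit 631) Col.d (nat_lit 651) Dv.df)))) (Tr.nd (nat_lit 1030) (Tr.nd (nat_lit 1029) (Tr.lf (Fc.ed (nat_lit 1028) (nat_lit 651) Col.b (nat_lit 484) (Dv.wd (nat_lit 1) [Mv.f (nat_lit 759), Mv.f (nat_lit 996), Mv.f (nat_lit 1027)]))) (Tr.lf (Fc.ed (nat_lit 1029) (nat_lit 497) Col.b (nat_lit 652) Dv.df))) (Tr.nd (nat_lit 1031) (Tr.lf (Fc.ed (nat_lit 1030) (nat_lit 652) Col.c (nat_lit 650) (Dv.wd (nat_lit 4) [Mv.b (nat_lit 1026), Mv.f (nat_lit 905), Mv.f (nat_lit 901), Mv.b (nat_lit 777), Mv.f (nat_lit 1029)]))) (Tr.lf (Fc.ed (nat_lit 1031) (nat_lit 652) Col.d (nat_lit 653) Dv.df))))))) (Tr.nd (nat_lit 1046) (Tr.nd (nat_lit 1039) (Tr.nd (nat_lit 1035) (Tr.nd (nat_lit 1033) (Tr.lf (Fc.ed (nat_lit 1032) (nat_lit 653) Col.b (nat_lit 494) (Dv.wd (nat_lit 1) [Mv.f (nat_lit 775), Mv.f (nat_lit 1029), Mv.f (nat_lit 1031)]))) (Tr.nd (nat_lit 1034) (Tr.lf (Fc.ed (nat_lit 1033) (nat_lit 653) Col.c (nat_lit 654) Dv.df)) (Tr.lf (Fc.ed (nat_lit 1034) (nat_lit 651) Col.c (nat_lit 655) Dv.df)))) (Tr.nd (nat_lit 1037) (Tr.nd (nat_lit 1036) (Tr.lf (Fc.ed (nat_lit 1035) (nat_lit 654) Col.b (nat_lit 656) Dv.df)) (Tr.lf (Fc.ed (nat_lit 1036) (nat_lit 656) Col.c (nat_lit 518) (Dv.wd (nat_lit 4) [Mv.f (nat_lit 810), Mv.f (nat_lit 771), Mv.b (nat_lit 1032), Mv.f (nat_lit 1033), Mv.f (nat_lit 1035)])))) (Tr.nd (nat_lit 1038) (Tr.lf (Fc.ed (nat_lit 1037) (nat_lit 500) Col.a (nat_lit 657) Dv.df)) (Tr.lf (Fc.ed (nat_lit 1038) (nat_lit 621) Col.d (nat_lit 658) Dv.df))))) (Tr.nd (nat_lit 1042) (Tr.nd (nat_lit 1040) (Tr.lf (Fc.ed (nat_lit 1039) (nat_lit 658) Col.b (nat_lit 487) (Dv.wd (nat_lit 1) [Mv.f (nat_lit 767), Mv.f (nat_lit 978), Mv.f (nat_lit 1038)]))) (Tr.nd (nat_lit 1041) (Tr.lf (Fc.ed (nat_lit 1040) (nat_lit 657) Col.c (nat_lit 659) Dv.df)) (Tr.lf (Fc.ed (nat_lit 1041) (nat_lit 659) Col.a (nat_lit 498) (Dv.wd (nat_lit 6) [Mv.f (nat_lit 780), Mv.f (nat_lit 1037), Mv.f (nat_lit 1040)]))))) (Tr.nd (nat_lit 1044) (Tr.nd (nat_lit 1043) (Tr.lf (Fc.ed (nat_lit 1042) (nat_lit 566) Col.c (nat_lit 660) Dv.df)) (Tr.lf (Fc.ed (nat_lit 1043) (nat_lit 660) Col.a (nat_lit 551) (Dv.wd (nat_lit 6) [Mv.b (nat_lit 861), Mv.f (nat_lit 883), Mv.f (nat_lit 1042)])))) (Tr.nd (nat_lit 1045) (Tr.lf (Fc.ed (nat_lit 1044) (nat_lit 630) Col.b (nat_lit 661) Dv.df)) (Tr.lf (Fc.ed (nat_lit 1045) (nat_lit 625) Col.d (nat_lit 662) Dv.df)))))) (Tr.nd (nat_lit 1053) (Tr.nd (nat_lit 1049) (Tr.nd (nat_lit 1047) (Tr.lf (Fc.ed (nat_lit 1046) (nat_lit 662) Col.b (nat_lit 504) (Dv.wd (nat_lit 1) [Mv.f (nat_lit 788), Mv.f (nat_lit 985), Mv.f (nat_lit 1045)]))) (Tr.nd (nat_lit 1048) (Tr.lf (Fc.ed (nat_lit 1047) (nat_lit 661) Col.c (nat_lit 662) (Dv.wd (nat_lit 15) [Mv.f (nat_lit 1046), Mv.b (nat_lit 787), Mv.b (nat_lit 964), Mv.b (nat_lit 995), Mv.f (nat_lit 1044)]))) (Tr.lf (Fc.ed (nat_lit 1048) (nat_lit 527) Col.b (nat_lit 663) Dv.df)))) (Tr.nd (nat_lit 1051) (Tr.nd (nat_lit 1050) (Tr.lf (Fc.ed (nat_lit 1049) (nat_lit 659) Col.d (nat_lit 664) Dv.df)) (Tr.lf (Fc.ed (nat_lit 1050) (nat_lit 477) Col.a (nat_lit 665) Dv.df))) (Tr.nd (nat_lit 1052) (Tr.lf (Fc.ed (nat_lit 1051) (nat_lit 611) Col.c (nat_lit 666) Dv.df)) (Tr.lf (Fc.ed (nat_lit 1052) (nat_lit 666) Col.b (nat_lit 655) (Dv.wd (nat_lit 7) [Mv.b (nat_lit 1034), Mv.f (nat_lit 1028), Mv.b (nat_lit 756), Mv.b (nat_lit 962), Mv.f (nat_lit 1051)])))))) (Tr.nd (nat_lit 1056) (Tr.nd (nat_lit 1054) (Tr.lf (Fc.ed (nat_lit 1053) (nat_lit 632) Col.a (nat_lit 667) Dv.df)) (Tr.nd (nat_lit 1055) (Tr.lf (Fc.ed (nat_lit 1054) (nat_lit 667) Col.d (nat_lit 665) (Dv.wd (nat_lit 2) [Mv.b (nat_lit 1050), Mv.f (nat_lit 997), Mv.f (nat_lit 1053)]))) (Tr.lf (Fc.ed (nat_lit 1055) (nat_lit 647) Col.c (nat_lit 668) Dv.df)))) (Tr.nd (nat_lit 1058) (Tr.nd (nat_lit 1057) (Tr.lf (Fc.ed (nat_lit 1056) (nat_lit 515) Col.d (nat_lit 669) Dv.df)) (Tr.lf (Fc.ed (nat_lit 1057) (nat_lit 537) Col.b (nat_lit 670) Dv.df))) (Tr.nd (nat_lit 1059) (Tr.lf (Fc.ed (nat_lit 1058) (nat_lit 665) Col.c (nat_lit 671) Dv.df)) (Tr.lf (Fc.ed (nat_lit 1059) (nat_lit 671) Col.a (nat_lit 488) (Dv.wd (nat_lit 6) [Mv.f (nat_lit 763), Mv.f (nat_lit 1050), Mv.f (nat_lit 1058)]))))))))) (Tr.nd (nat_lit 1088) (Tr.nd (nat_lit 1074) (Tr.nd (nat_lit 1067) (Tr.nd (nat_lit 1063) (Tr.nd (nat_lit 1061) (Tr.lf (Fc.ed (nat_lit 1060) (nat_lit 656) Col.d (nat_lit 672) Dv.df)) (Tr.nd (nat_lit 1062) (Tr.lf (Fc.ed (nat_lit 1061) (nat_lit 516) Col.a (nat_lit 673) Dv.df)) (Tr.lf (Fc.ed (nat_lit 1062) (nat_lit 533) Col.b (nat_lit 674) Dv.df)))) (Tr.nd (nat_lit 1065) (Tr.nd (nat_lit 1064) (Tr.lf (Fc.ed (nat_lit 1063) (nat_lit 653) Col.a (nat_lit 675) Dv.df)) (Tr.lf (Fc.ed (nat_lit 1064) (nat_lit 674) Col.c (nat_lit 676) Dv.df))) (Tr.nd (nat_lit 1066) (Tr.lf (Fc.ed (nat_lit 1065) (nat_lit 676) Col.b (nat_lit 522) (Dv.wd (nat_lit 7) [Mv.b (nat_lit 816), Mv.b (nat_lit 801), Mv.b (nat_lit 833), Mv.f (nat_lit 1062), Mv.f (nat_lit 1064)]))) (Tr.lf (Fc.ed (nat_lit 1066) (nat_lit 517) Col.c (nat_lit 677) Dv.df))))) (Tr.nd (nat_lit 1070) (Tr.nd (nat_lit 1068) (Tr.lf (Fc.ed (nat_lit 1067) (nat_lit 677) Col.a (nat_lit 656) (Dv.wd (nat_lit 6) [Mv.f (nat_lit 1036), Mv.b (nat_lit 809), Mv.f (nat_lit 1066)]))) (Tr.nd (nat_lit 1069) (Tr.lf (Fc.ed (nat_lit 1068) (nat_lit 668) Col.b (nat_lit 678) Dv.df)) (Tr.lf (Fc.ed (nat_lit 1069) (nat_lit 678) Col.c (nat_lit 600) (Dv.wd (nat_lit 4) [Mv.f (nat_lit 943), Mv.f (nat_lit 753), Mv.b (nat_lit 1022), Mv.f (nat_lit 1055), Mv.f (nat_lit 1068)]))))) (Tr.nd (nat_lit 1072) (Tr.nd (nat_lit 1071) (Tr.lf (Fc.ed (nat_lit 1070) (nat_lit 623) Col.c (nat_lit 679) Dv.df)) (Tr.lf (Fc.ed (nat_lit 1071) (nat_lit 679) Col.b (nat_lit 680) Dv.df))) (Tr.nd (nat_lit 1073) (Tr.lf (Fc.ed (nat_lit 1072) (nat_lit 658) Col.c (nat_lit 681) Dv.df)) (Tr.lf (Fc.ed (nat_lit 1073) (nat_lit 515) Col.a (nat_lit 682) Dv.df)))))) (Tr.nd (nat_lit 1081) (Tr.nd (nat_lit 1077) (Tr.nd (nat_lit 1075) (Tr.lf (Fc.ed (nat_lit 1074) (nat_lit 682) Col.c (nat_lit 529) (Dv.wd (nat_lit 0) [Mv.b (nat_lit 827), Mv.f (nat_lit 805), Mv.f (nat_lit 1073)]))) (Tr.nd (nat_lit 1076) (Tr.lf (Fc.ed (nat_lit 1075) (nat_lit 672) Col.a (nat_lit 683) Dv.df)) (Tr.lf (Fc.ed (nat_lit 1076) (nat_lit 683) Col.d (nat_lit 677) (Dv.wd (nat_lit 2) [Mv.f (nat_lit 1067), Mv.f (nat_lit 1060), Mv.f (nat_lit 1075)]))))) (Tr.nd (nat_lit 1079) (Tr.nd (nat_lit 1078) (Tr.lf (Fc.ed (nat_lit 1077) (nat_lit 636) Col.c (nat_lit 684) Dv.df)) (Tr.lf (Fc.ed (nat_lit 1078) (nat_lit 681) Col.b (nat_lit 685) Dv.df))) (Tr.nd (nat_lit 1080) (Tr.lf (Fc.ed (nat_lit 1079) (nat_lit 685) Col.c (nat_lit 642) (Dv.wd (nat_lit 4) [Mv.f (nat_lit 1013), Mv.f (nat_lit 761), Mv.b (nat_lit 1039), Mv.f (nat_lit 1072), Mv.f (nat_lit 1078)]))) (Tr.lf (Fc.ed (nat_lit 1080) (nat_lit 666) Col.d (nat_lit 686) Dv.df))))) (Tr.nd (nat_lit 1084) (Tr.nd (nat_lit 1082) (Tr.lf (Fc.ed (nat_lit 1081) (nat_lit 652) Col.a (nat_lit 687) Dv.df)) (Tr.nd (nat_lit 1083) (Tr.lf (Fc.ed (nat_lit 1082) (nat_lit 687) Col.d (nat_lit 675) (Dv.wd (nat_lit 2) [Mv.b (nat_lit 1063), Mv.b (nat_lit 1031), Mv.f (nat_lit 1081)]))) (Tr.lf (Fc.ed (nat_lit 1083) (nat_lit 670) Col.c (nat_lit 688) Dv.df)))) (Tr.nd (nat_lit 1086) (Tr.nd (nat_lit 1085) (Tr.lf (Fc.ed (nat_lit 1084) (nat_lit 688) Col.b (nat_lit 677) (Dv.wd (nat_lit 7) [Mv.b (nat_lit 1066), Mv.b (nat_lit 808), Mv.b (nat_lit 840), Mv.f (nat_lit 1057), Mv.f (nat_lit 1083)]))) (Tr.lf (Fc.ed (nat_lit 1085) (nat_lit 676) Col.d (nat_lit 689) Dv.df))) (Tr.nd (nat_lit 1087) (Tr.lf (Fc.ed (nat_lit 1086) (nat_lit 689) Col.b (nat_lit 523) (Dv.wd (nat_lit 1) [Mv.b (nat_lit 817), Mv.b (nat_lit 1065), Mv.f (nat_lit 1085)]))) (Tr.lf (Fc.ed (nat_lit 1087) (nat_lit 548) Col.d (nat_lit 690) Dv.df))))))) (Tr.nd (nat_lit 1102) (Tr.nd (nat_lit 1095) (Tr.nd (nat_lit 1091) (Tr.nd (nat_lit 1089) (Tr.lf (Fc.ed (nat_lit 1088) (nat_lit 690) Col.b (nat_lit 561) (Dv.wd (nat_lit 1) [Mv.b (nat_lit 875), Mv.f (nat_lit 856), Mv.f (nat_lit 1087)]))) (Tr.nd (nat_lit 1090) (Tr.lf (Fc.ed (nat_lit 1089) (nat_lit 588) Col.a (nat_lit 691) Dv.df)) (Tr.lf (Fc.ed (nat_lit 1090) (nat_lit 687) Col.b (nat_lit 692) Dv.df)))) (Tr.nd (nat_lit 1093) (Tr.nd (nat_lit 1092) (Tr.lf (Fc.ed (nat_lit 1091) (nat_lit 636) Col.a (nat_lit 693) Dv.df)) (Tr.lf (Fc.ed (nat_lit 1092) (nat_lit 693) Col.d (nat_lit 646) (Dv.wd (nat_lit 2) [Mv.b (nat_lit 1020), Mv.b (nat_lit 1003), Mv.f (nat_lit 1091)])))) (Tr.nd (nat_lit 1094) (Tr.lf (Fc.ed (nat_lit 1093) (nat_lit 673) Col.b (nat_lit 694) Dv.df)) (Tr.lf (Fc.ed (nat_lit 1094) (nat_lit 691) Col.b (nat_lit 695) Dv.df))))) (Tr.nd (nat_lit 1098) (Tr.nd (nat_lit 1096) (Tr.lf (Fc.ed (nat_lit 1095) (nat_lit 686) Col.c (nat_lit 696) Dv.df)) (Tr.nd (nat_lit 1097) (Tr.lf (Fc.ed (nat_lit 1096) (nat_lit 695) Col.a (nat_lit 697) Dv.df)) (Tr.lf (Fc.ed (nat_lit 1097) (nat_lit 697) Col.b (nat_lit 675) (Dv.wd (nat_lit 8) [Mv.b (nat_lit 1063), Mv.f (nat_lit 1032), Mv.f (nat_lit 772), Mv.b (nat_lit 557), Mv.b (nat_lit 658), Mv.b (nat_lit 922), Mv.f (nat_lit 1089), Mv.f (nat_lit 1094), Mv.f (nat_lit 1096)]))))) (Tr.nd (nat_lit 1100) (Tr.nd (nat_lit 1099) (Tr.lf (Fc.ed (nat_lit 1098) (nat_lit 692) Col.d (nat_lit 697) (Dv.wd (nat_lit 16) [Mv.f (nat_lit 1097), Mv.b (nat_lit 1082), Mv.f (nat_lit 1090)]))) (Tr.lf (Fc.ed (nat_lit 1099) (nat_lit 600) Col.a (nat_lit 698) Dv.df))) (Tr.nd (nat_lit 1101) (Tr.lf (Fc.ed (nat_lit 1100) (nat_lit 696) Col.d (nat_lit 699) Dv.df)) (Tr.lf (Fc.ed (nat_lit 1101) (nat_lit 699) Col.c (nat_lit 664) (Dv.wd (nat_lit 19) [Mv.b (nat_lit 1049), Mv.f (nat_lit 1041), Mv.f (nat_lit 780), Mv.f (nat_lit 961), Mv.f (nat_lit 1051), Mv.f (nat_lit 1080), Mv.f (nat_lit 1095), Mv.f (nat_lit 1100)]))))))) (Tr.nd (nat_lit 1109) (Tr.nd (nat_lit 1105) (Tr.nd (nat_lit 1103) (Tr.lf (Fc.ed (nat_lit 1102) (nat_lit 684) Col.b (nat_lit 700) Dv.df)) (Tr.nd (nat_lit 1104) (Tr.lf (Fc.ed (nat_lit 1103) (nat_lit 694) Col.a (nat_lit 701) Dv.df)) (Tr.lf (Fc.ed (nat_lit 1104) (nat_lit 701) Col.b (nat_lit 702) Dv.df)))) (Tr.nd (nat_lit 1107) (Tr.nd (nat_lit 1106) (Tr.lf (Fc.ed (nat_lit 1105) (nat_lit 702) Col.a (nat_lit 644) (Dv.wd (nat_lit 13) [Mv.f (nat_lit 1017), Mv.f (nat_lit 741), Mv.b (nat_lit 573), Mv.b (nat_lit 670), Mv.b (nat_lit 807), Mv.f (nat_lit 1061), Mv.f (nat_lit 1093), Mv.f (nat_lit 1103), Mv.f (nat_lit 1104)]))) (Tr.lf (Fc.ed (nat_lit 1106) (nat_lit 669) Col.a (nat_lit 703) Dv.df))) (Tr.nd (nat_lit 1108) (Tr.lf (Fc.ed (nat_lit 1107) (nat_lit 703) Col.d (nat_lit 682) (Dv.wd (nat_lit 2) [Mv.b (nat_lit 1073), Mv.f (nat_lit 1056), Mv.f (nat_lit 1106)]))) (Tr.lf (Fc.ed (nat_lit 1108) (nat_lit 703) Col.c (nat_lit 704) Dv.df))))) (Tr.nd (nat_lit 1112) (Tr.nd (nat_lit 1110) (Tr.lf (Fc.ed (nat_lit 1109) (nat_lit 690) Col.c (nat_lit 705) Dv.df)) (Tr.nd (nat_lit 1111) (Tr.lf (Fc.ed (nat_lit 1110) (nat_lit 705) Col.d (nat_lit 704) (Dv.wd (nat_lit 9) [Mv.b (nat_lit 1108), Mv.f (nat_lit 1107), Mv.f (nat_lit 1074), Mv.b (nat_lit 860), Mv.b (nat_lit 859), Mv.b (nat_lit 857), Mv.f (nat_lit 1087), Mv.f (nat_lit 1109)]))) (Tr.lf (Fc.ed (nat_lit 1111) (nat_lit 632) Col.c (nat_lit 706) Dv.df)))) (Tr.nd (nat_lit 1114) (Tr.nd (nat_lit 1113) (Tr.lf (Fc.ed (nat_lit 1112) (nat_lit 698) Col.b (nat_lit 707) Dv.df)) (Tr.lf (Fc.ed (nat_lit 1113) (nat_lit 707) Col.a (nat_lit 692) (Dv.wd (nat_lit 13) [Mv.b (nat_lit 1090), Mv.b (nat_lit 1081), Mv.b (nat_lit 1029), Mv.f (nat_lit 776), Mv.f (nat_lit 748), Mv.f (nat_lit 749), Mv.b (nat_lit 943), Mv.f (nat_lit 1099), Mv.f (nat_lit 1112)])))) (Tr.nd (nat_lit 1115) (Tr.lf (Fc.ed (nat_lit 1114) (nat_lit 667) Col.b (nat_lit 708) Dv.df)) (Tr.lf (Fc.ed (nat_lit 1115) (nat_lit 581) Col.b (nat_lit 709) Dv.df)))))))))) (Tr.nd (nat_lit 1228) (Tr.nd (nat_lit 1172) (Tr.nd (nat_lit 1144) (Tr.nd (nat_lit 1130) (Tr.nd (nat_lit 1123) (Tr.nd (nat_lit 1119) (Tr.nd (nat_lit 1117) (Tr.lf (Fc.ed (nat_lit 1116) (nat_lit 706) Col.b (nat_lit 710) Dv.df)) (Tr.nd (nat_lit 1118) (Tr.lf (Fc.ed (nat_lit 1117) (nat_lit 710) Col.c (nat_lit 689) (Dv.wd (nat_lit 4) [Mv.f (nat_lit 1086), Mv.b (nat_lit 819), Mv.b (nat_lit 998), Mv.f (nat_lit 1111), Mv.f (nat_lit 1116)]))) (Tr.lf (Fc.ed (nat_lit 1118) (nat_lit 680) Col.c (nat_lit 711) Dv.df)))) (Tr.nd (nat_lit 1121) (Tr.nd (nat_lit 1120) (Tr.lf (Fc.ed (nat_lit 1119) (nat_lit 711) Col.b (nat_lit 535) (Dv.wd (nat_lit 7) [Mv.b (nat_lit 835), Mv.b (nat_lit 982), Mv.f (nat_lit 1070), Mv.f (nat_lit 1071), Mv.f (nat_lit 1118)]))) (Tr.lf (Fc.ed (nat_lit 1120) (nat_lit 674) Col.d (nat_lit 712) Dv.df))) (Tr.nd (nat_lit 1122) (Tr.lf (Fc.ed (nat_lit 1121) (nat_lit 712) Col.b (nat_lit 531) (Dv.wd (nat_lit 1) [Mv.f (nat_lit 832), Mv.f (nat_lit 1062), Mv.f (nat_lit 1120)]))) (Tr.lf (Fc.ed (nat_lit 1122) (nat_lit 709) Col.c (nat_lit 713) Dv.df))))) (Tr.nd (nat_lit 1126) (Tr.nd (nat_lit 1124) (Tr.lf (Fc.ed (nat_lit 1123) (nat_lit 713) Col.b (nat_lit 534) (Dv.wd (nat_lit 7) [Mv.b (nat_lit 834), Mv.b (nat_lit 898), Mv.f (nat_lit 908), Mv.f (nat_lit 1115), Mv.f (nat_lit 1122)]))) (Tr.nd (nat_lit 1125) (Tr.lf (Fc.ed (nat_lit 1124) (nat_lit 711) Col.d (nat_lit 713) (Dv.wd (nat_lit 16) [Mv.f (nat_lit 1123), Mv.b (nat_lit 837), Mv.b (nat_lit 1119)]))) (Tr.lf (Fc.ed (nat_lit 1125) (nat_lit 594) Col.d (nat_lit 714) Dv.df)))) (Tr.nd (nat_lit 1128) (Tr.nd (nat_lit 1127) (Tr.lf (Fc.ed (nat_lit 1126) (nat_lit 714) Col.b (nat_lit 585) (Dv.wd (nat_lit 1) [Mv.b (nat_lit 915), Mv.f (nat_lit 932), Mv.f (nat_lit 1125)]))) (Tr.lf (Fc.ed (nat_lit 1127) (nat_lit 682) Col.b (nat_lit 715) Dv.df))) (Tr.nd (nat_lit 1129) (Tr.lf (Fc.ed (nat_lit 1128) (nat_lit 693) Col.b (nat_lit 716) Dv.df)) (Tr.lf (Fc.ed (nat_lit 1129) (nat_lit 551) Col.d (nat_lit 717) Dv.df)))))) (Tr.nd (nat_lit 1137) (Tr.nd (nat_lit 1133) (Tr.nd (nat_lit 1131) (Tr.lf (Fc.ed (nat_lit 1130) (nat_lit 717) Col.b (nat_lit 627) (Dv.wd (nat_lit 1) [Mv.f (nat_lit 990), Mv.b (nat_lit 884), Mv.f (nat_lit 1129)]))) (Tr.nd (nat_lit 1132) (Tr.lf (Fc.ed (nat_lit 1131) (nat_lit 670) Col.d (nat_lit 718) Dv.df)) (Tr.lf (Fc.ed (nat_lit 1132) (nat_lit 718) Col.b (nat_lit 560) (Dv.wd (nat_lit 1) [Mv.b (nat_lit 874), Mv.f (nat_lit 1057), Mv.f (nat_lit 1131)]))))) (Tr.nd (nat_lit 1135) (Tr.nd (nat_lit 1134) (Tr.lf (Fc.ed (nat_lit 1133) (nat_lit 640) Col.a (nat_lit 719) Dv.df)) (Tr.lf (Fc.ed (nat_lit 1134) (nat_lit 719) Col.c (nat_lit 540) (Dv.wd (nat_lit 0) [Mv.f (nat_lit 845), Mv.f (nat_lit 1010), Mv.f (nat_lit 1133)])))) (Tr.nd (nat_lit 1136) (Tr.lf (Fc.ed (nat_lit 1135) (nat_lit 660) Col.d (nat_lit 720) Dv.df)) (Tr.lf (Fc.ed (nat_lit 1136) (nat_lit 720) Col.a (nat_lit 717) (Dv.wd (nat_lit 5) [Mv.b (nat_lit 1129), Mv.b (nat_lit 1043), Mv.f (nat_lit 1135)])))))) (Tr.nd (nat_lit 1140) (Tr.nd (nat_lit 1138) (Tr.lf (Fc.ed (nat_lit 1137) (nat_lit 671) Col.d (nat_lit 721) Dv.df)) (Tr.nd (nat_lit 1139) (Tr.lf (Fc.ed (nat_lit 1138) (nat_lit 721) Col.a (nat_lit 643) (Dv.wd (nat_lit 5) [Mv.b (nat_lit 1014), Mv.b (nat_lit 1059), Mv.f (nat_lit 1137)]))) (Tr.lf (Fc.ed (nat_lit 1139) (nat_lit 665) Col.b (nat_lit 722) Dv.df)))) (Tr.nd (nat_lit 1142) (Tr.nd (nat_lit 1141) (Tr.lf (Fc.ed (nat_lit 1140) (nat_lit 722) Col.d (nat_lit 708) (Dv.wd (nat_lit 3) [Mv.b (nat_lit 1114), Mv.f (nat_lit 1054), Mv.f (nat_lit 1139)]))) (Tr.lf (Fc.ed (nat_lit 1141) (nat_lit 719) Col.b (nat_lit 723) Dv.df))) (Tr.nd (nat_lit 1143) (Tr.lf (Fc.ed (nat_lit 1142) (nat_lit 723) Col.c (nat_lit 715) (Dv.wd (nat_lit 4) [Mv.b (nat_lit 1127), Mv.f (nat_lit 1074), Mv.f (nat_lit 844), Mv.b (nat_lit 1134), Mv.f (nat_lit 1141)]))) (Tr.lf (Fc.ed (nat_lit 1143) (nat_lit 542) Col.b (nat_lit 724) Dv.df))))))) (Tr.nd (nat_lit 1158) (Tr.nd (nat_lit 1151) (Tr.nd (nat_lit 1147) (Tr.nd (nat_lit 1145) (Tr.lf (Fc.ed (nat_lit 1144) (nat_lit 558) Col.c (nat_lit 725) Dv.df)) (Tr.nd (nat_lit 1146) (Tr.lf (Fc.ed (nat_lit 1145) (nat_lit 564) Col.c (nat_lit 726) Dv.df)) (Tr.lf (Fc.ed (nat_lit 1146) (nat_lit 726) Col.a (nat_lit 725) (Dv.wd (nat_lit 6) [Mv.b (nat_lit 1144), Mv.b (nat_lit 880), Mv.f (nat_lit 1145)]))))) (Tr.nd (nat_lit 1149) (Tr.nd (nat_lit 1148) (Tr.lf (Fc.ed (nat_lit 1147) (nat_lit 645) Col.a (nat_lit 727) Dv.df)) (Tr.lf (Fc.ed (nat_lit 1148) (nat_lit 727) Col.d (nat_lit 702) (Dv.wd (nat_lit 2) [Mv.f (nat_lit 1105), Mv.f (nat_lit 1018), Mv.f (nat_lit 1147)])))) (Tr.nd (nat_lit 1150) (Tr.lf (Fc.ed (nat_lit 1149) (nat_lit 555) Col.c (nat_lit 728) Dv.df)) (Tr.lf (Fc.ed (nat_lit 1150) (nat_lit 728) Col.a (nat_lit 648) (Dv.wd (nat_lit 6) [Mv.b (nat_lit 1023), Mv.f (nat_lit 867), Mv.f (nat_lit 1149)])))))) (Tr.nd (nat_lit 1154) (Tr.nd (nat_lit 1152) (Tr.lf (Fc.ed (nat_lit 1151) (nat_lit 642) Col.a (nat_lit 729) Dv.df)) (Tr.nd (nat_lit 1153) (Tr.lf (Fc.ed (nat_lit 1152) (nat_lit 726) Col.b (nat_lit 730) Dv.df)) (Tr.lf (Fc.ed (nat_lit 1153) (nat_lit 730) Col.c (nat_lit 724) (Dv.wd (nat_lit 4) [Mv.b (nat_lit 1143), Mv.b (nat_lit 850), Mv.f (nat_lit 879), Mv.f (nat_lit 1145), Mv.f (nat_lit 1152)]))))) (Tr.nd (nat_lit 1156) (Tr.nd (nat_lit 1155) (Tr.lf (Fc.ed (nat_lit 1154) (nat_lit 554) Col.b (nat_lit 731) Dv.df)) (Tr.lf (Fc.ed (nat_lit 1155) (nat_lit 659) Col.b (nat_lit 732) Dv.df))) (Tr.nd (nat_lit 1157) (Tr.lf (Fc.ed (nat_lit 1156) (nat_lit 731) Col.c (nat_lit 733) Dv.df)) (Tr.lf (Fc.ed (nat_lit 1157) (nat_lit 733) Col.b (nat_lit 584) (Dv.wd (nat_lit 7) [Mv.f (nat_lit 914), Mv.b (nat_lit 863), Mv.b (nat_lit 866), Mv.f (nat_lit 1154), Mv.f (nat_lit 1156)]))))))) (Tr.nd (nat_lit 1165) (Tr.nd (nat_lit 1161) (Tr.nd (nat_lit 1159) (Tr.lf (Fc.ed (nat_lit 1158) (nat_lit 553) Col.b (nat_lit 734) Dv.df)) (Tr.nd (nat_lit 1160) (Tr.lf (Fc.ed (nat_lit 1159) (nat_lit 734) Col.d (nat_lit 731) (Dv.wd (nat_lit 3) [Mv.b (nat_lit 1154), Mv.b (nat_lit 865), Mv.f (nat_lit 1158)]))) (Tr.lf (Fc.ed (nat_lit 1160) (nat_lit 568) Col.c (nat_lit 735) Dv.df)))) (Tr.nd (nat_lit 1163) (Tr.nd (nat_lit 1162) (Tr.lf (Fc.ed (nat_lit 1161) (nat_lit 671) Col.b (nat_lit 736) Dv.df)) (Tr.lf (Fc.ed (nat_lit 1162) (nat_lit 734) Col.a (nat_lit 737) Dv.df))) (Tr.nd (nat_lit 1164) (Tr.lf (Fc.ed (nat_lit 1163) (nat_lit 737) Col.b (nat_lit 738) Dv.df)) (Tr.lf (Fc.ed (nat_lit 1164) (nat_lit 738) Col.a (nat_lit 732) (Dv.wd (nat_lit 13) [Mv.b (nat_lit 1155), Mv.f (nat_lit 1041), Mv.b (nat_lit 778), Mv.b (nat_lit 757), Mv.b (nat_lit 626), Mv.f (nat_lit 864), Mv.f (nat_lit 1158), Mv.f (nat_lit 1162), Mv.f (nat_lit 1163)])))))) (Tr.nd (nat_lit 1168) (Tr.nd (nat_lit 1166) (Tr.lf (Fc.ed (nat_lit 1165) (nat_lit 724) Col.d (nat_lit 739) Dv.df)) (Tr.nd (nat_lit 1167) (Tr.lf (Fc.ed (nat_lit 1166) (nat_lit 739) Col.b (nat_lit 580) (Dv.wd (nat_lit 1) [Mv.b (nat_lit 906), Mv.f (nat_lit 1143), Mv.f (nat_lit 1165)]))) (Tr.lf (Fc.ed (nat_lit 1167) (nat_lit 596) Col.b (nat_lit 740) Dv.df)))) (Tr.nd (nat_lit 1170) (Tr.nd (nat_lit 1169) (Tr.lf (Fc.ed (nat_lit 1168) (nat_lit 573) Col.c (nat_lit 741) Dv.df)) (Tr.lf (Fc.ed (nat_lit 1169) (nat_lit 608) Col.c (nat_lit 742) Dv.df))) (Tr.nd (nat_lit 1171) (Tr.lf (Fc.ed (nat_lit 1170) (nat_lit 735) Col.a (nat_lit 743) Dv.df)) (Tr.lf (Fc.ed (nat_lit 1171) (nat_lit 743) Col.c (nat_lit 562) (Dv.wd (nat_lit 0) [Mv.b (nat_lit 887), Mv.f (nat_lit 1160), Mv.f (nat_lit 1170)]))))))))) (Tr.nd (nat_lit 1200) (Tr.nd (nat_lit 1186) (Tr.nd (nat_lit 1179) (Tr.nd (nat_lit 1175) (Tr.nd (nat_lit 1173) (Tr.lf (Fc.ed (nat_lit 1172) (nat_lit 742) Col.b (nat_lit 744) Dv.df)) (Tr.nd (nat_lit 1174) (Tr.lf (Fc.ed (nat_lit 1173) (nat_lit 744) Col.c (nat_lit 712) (Dv.wd (nat_lit 4) [Mv.f (nat_lit 1121), Mv.b (nat_lit 829), Mv.b (nat_lit 957), Mv.f (nat_lit 1169), Mv.f (nat_lit 1172)]))) (Tr.lf (Fc.ed (nat_lit 1174) (nat_lit 718) Col.c (nat_lit 745) Dv.df)))) (Tr.nd (nat_lit 1177) (Tr.nd (nat_lit 1176) (Tr.lf (Fc.ed (nat_lit 1175) (nat_lit 745) Col.b (nat_lit 705) (Dv.wd (nat_lit 7) [Mv.b (nat_lit 1109), Mv.f (nat_lit 1088), Mv.f (nat_lit 876), Mv.b (nat_lit 1132), Mv.f (nat_lit 1174)]))) (Tr.lf (Fc.ed (nat_lit 1176) (nat_lit 743) Col.b (nat_lit 746) Dv.df))) (Tr.nd (nat_lit 1178) (Tr.lf (Fc.ed (nat_lit 1177) (nat_lit 746) Col.c (nat_lit 734) (Dv.wd (nat_lit 4) [Mv.b (nat_lit 1158), Mv.b (nat_lit 870), Mv.f (nat_lit 877), Mv.b (nat_lit 1171), Mv.f (nat_lit 1176)]))) (Tr.lf (Fc.ed (nat_lit 1178) (nat_lit 628) Col.c (nat_lit 747) Dv.df))))) (Tr.nd (nat_lit 1182) (Tr.nd (nat_lit 1180) (Tr.lf (Fc.ed (nat_lit 1179) (nat_lit 721) Col.b (nat_lit 748) Dv.df)) (Tr.nd (nat_lit 1181) (Tr.lf (Fc.ed (nat_lit 1180) (nat_lit 748) Col.d (nat_lit 736) (Dv.wd (nat_lit 3) [Mv.b (nat_lit 1161), Mv.f (nat_lit 1137), Mv.f (nat_lit 1179)]))) (Tr.lf (Fc.ed (nat_lit 1181) (nat_lit 747) Col.b (nat_lit 749) Dv.df)))) (Tr.nd (nat_lit 1184) (Tr.nd (nat_lit 1183) (Tr.lf (Fc.ed (nat_lit 1182) (nat_lit 749) Col.c (nat_lit 606) (Dv.wd (nat_lit 4) [Mv.b (nat_lit 952), Mv.f (nat_lit 918), Mv.f (nat_lit 991), Mv.f (nat_lit 1178), Mv.f (nat_lit 1181)]))) (Tr.lf (Fc.ed (nat_lit 1183) (nat_lit 740) Col.a (nat_lit 750) Dv.df))) (Tr.nd (nat_lit 1185) (Tr.lf (Fc.ed (nat_lit 1184) (nat_lit 664) Col.b (nat_lit 751) Dv.df)) (Tr.lf (Fc.ed (nat_lit 1185) (nat_lit 751) Col.d (nat_lit 732) (Dv.wd (nat_lit 3) [Mv.b (nat_lit 1155), Mv.f (nat_lit 1049), Mv.f (nat_lit 1184)]))))))) (Tr.nd (nat_lit 1193) (Tr.nd (nat_lit 1189) (Tr.nd (nat_lit 1187) (Tr.lf (Fc.ed (nat_lit 1186) (nat_lit 739) Col.a (nat_lit 752) Dv.df)) (Tr.nd (nat_lit 1188) (Tr.lf (Fc.ed (nat_lit 1187) (nat_lit 571) Col.c (nat_lit 753) Dv.df)) (Tr.lf (Fc.ed (nat_lit 1188) (nat_lit 753) Col.a (nat_lit 741) (Dv.wd (nat_lit 6) [Mv.b (nat_lit 1168), Mv.f (nat_lit 895), Mv.f (nat_lit 1187)]))))) (Tr.nd (nat_lit 1191) (Tr.nd (nat_lit 1190) (Tr.lf (Fc.ed (nat_lit 1189) (nat_lit 583) Col.b (nat_lit 754) Dv.df)) (Tr.lf (Fc.ed (nat_lit 1190) (nat_lit 754) Col.d (nat_lit 650) (Dv.wd (nat_lit 3) [Mv.b (nat_lit 1026), Mv.b (nat_lit 912), Mv.f (nat_lit 1189)])))) (Tr.nd (nat_lit 1192) (Tr.lf (Fc.ed (nat_lit 1191) (nat_lit 609) Col.c (nat_lit 755) Dv.df)) (Tr.lf (Fc.ed (nat_lit 1192) (nat_lit 752) Col.b (nat_lit 756) Dv.df))))) (Tr.nd (nat_lit 1196) (Tr.nd (nat_lit 1194) (Tr.lf (Fc.ed (nat_lit 1193) (nat_lit 756) Col.a (nat_lit 748) (Dv.wd (nat_lit 13) [Mv.b (nat_lit 1179), Mv.f (nat_lit 1138), Mv.f (nat_lit 1015), Mv.b (nat_lit 789), Mv.f (nat_lit 889), Mv.b (nat_lit 907), Mv.b (nat_lit 1166), Mv.f (nat_lit 1186), Mv.f (nat_lit 1192)]))) (Tr.nd (nat_lit 1195) (Tr.lf (Fc.ed (nat_lit 1194) (nat_lit 751) Col.a (nat_lit 757) Dv.df)) (Tr.lf (Fc.ed (nat_lit 1195) (nat_lit 757) Col.d (nat_lit 738) (Dv.wd (nat_lit 2) [Mv.f (nat_lit 1164), Mv.b (nat_lit 1185), Mv.f (nat_lit 1194)]))))) (Tr.nd (nat_lit 1198) (Tr.nd (nat_lit 1197) (Tr.lf (Fc.ed (nat_lit 1196) (nat_lit 755) Col.b (nat_lit 758) Dv.df)) (Tr.lf (Fc.ed (nat_lit 1197) (nat_lit 709) Col.d (nat_lit 759) Dv.df))) (Tr.nd (nat_lit 1199) (Tr.lf (Fc.ed (nat_lit 1198) (nat_lit 759) Col.b (nat_lit 590) (Dv.wd (nat_lit 1) [Mv.f (nat_lit 926), Mv.f (nat_lit 1115), Mv.f (nat_lit 1197)]))) (Tr.lf (Fc.ed (nat_lit 1199) (nat_lit 758) Col.c (nat_lit 759) (Dv.wd (nat_lit 15) [Mv.f (nat_lit 1198), Mv.b (nat_lit 925), Mv.b (nat_lit 959), Mv.f (nat_lit 1191), Mv.f (nat_lit 1196)])))))))) (Tr.nd (nat_lit 1214) (Tr.nd (nat_lit 1207) (Tr.nd (nat_lit 1203) (Tr.nd (nat_lit 1201) (Tr.lf (Fc.ed (nat_lit 1200) (nat_lit 714) Col.c (nat_lit 760) Dv.df)) (Tr.nd (nat_lit 1202) (Tr.lf (Fc.ed (nat_lit 1201) (nat_lit 589) Col.b (nat_lit 761) Dv.df)) (Tr.lf (Fc.ed (nat_lit 1202) (nat_lit 761) Col.d (nat_lit 733) (Dv.wd (nat_lit 3) [Mv.f (nat_lit 1157), Mv.b (nat_lit 924), Mv.f (nat_lit 1201)]))))) (Tr.nd (nat_lit 1205) (Tr.nd (nat_lit 1204) (Tr.lf (Fc.ed (nat_lit 1203) (nat_lit 693) Col.c (nat_lit 762) Dv.df)) (Tr.lf (Fc.ed (nat_lit 1204) (nat_lit 762) Col.a (nat_lit 684) (Dv.wd (nat_lit 6) [Mv.b (nat_lit 1077), Mv.f (nat_lit 1091), Mv.f (nat_lit 1203)])))) (Tr.nd (nat_lit 1206) (Tr.lf (Fc.ed (nat_lit 1205) (nat_lit 728) Col.d (nat_lit 763) Dv.df)) (Tr.lf (Fc.ed (nat_lit 1206) (nat_lit 760) Col.d (nat_lit 764) Dv.df))))) (Tr.nd (nat_lit 1210) (Tr.nd (nat_lit 1208) (Tr.lf (Fc.ed (nat_lit 1207) (nat_lit 764) Col.c (nat_lit 765) Dv.df)) (Tr.nd (nat_lit 1209) (Tr.lf (Fc.ed (nat_lit 1208) (nat_lit 765) Col.d (nat_lit 762) (Dv.wd (nat_lit 20) [Mv.b (nat_lit 1203), Mv.f (nat_lit 1092), Mv.b (nat_lit 1020), Mv.b (nat_lit 933), Mv.f (nat_lit 1125), Mv.f (nat_lit 1200), Mv.f (nat_lit 1206), Mv.f (nat_lit 1207)]))) (Tr.lf (Fc.ed (nat_lit 1209) (nat_lit 740) Col.c (nat_lit 766) Dv.df)))) (Tr.nd (nat_lit 1212) (Tr.nd (nat_lit 1211) (Tr.lf (Fc.ed (nat_lit 1210) (nat_lit 754) Col.c (nat_lit 767) Dv.df)) (Tr.lf (Fc.ed (nat_lit 1211) (nat_lit 767) Col.b (nat_lit 768) Dv.df))) (Tr.nd (nat_lit 1213) (Tr.lf (Fc.ed (nat_lit 1212) (nat_lit 768) Col.c (nat_lit 645) (Dv.wd (nat_lit 4) [Mv.f (nat_lit 1019), Mv.f (nat_lit 911), Mv.f (nat_lit 1189), Mv.f (nat_lit 1210), Mv.f (nat_lit 1211)]))) (Tr.lf (Fc.ed (nat_lit 1213) (nat_lit 698) Col.c (nat_lit 769) Dv.df)))))) (Tr.nd (nat_lit 1221) (Tr.nd (nat_lit 1217) (Tr.nd (nat_lit 1215) (Tr.lf (Fc.ed (nat_lit 1214) (nat_lit 769) Col.a (nat_lit 678) (Dv.wd (nat_lit 6) [Mv.f (nat_lit 1069), Mv.f (nat_lit 1099), Mv.f (nat_lit 1213)]))) (Tr.nd (nat_lit 1216) (Tr.lf (Fc.ed (nat_lit 1215) (nat_lit 663) Col.c (nat_lit 770) Dv.df)) (Tr.lf (Fc.ed (nat_lit 1216) (nat_lit 770) Col.b (nat_lit 766) (Dv.wd (nat_lit 7) [Mv.b (nat_lit 1209), Mv.b (nat_lit 1167), Mv.b (nat_lit 936), Mv.f (nat_lit 1048), Mv.f (nat_lit 1215)]))))) (Tr.nd (nat_lit 1219) (Tr.nd (nat_lit 1218) (Tr.lf (Fc.ed (nat_lit 1217) (nat_lit 660) Col.b (nat_lit 771) Dv.df)) (Tr.lf (Fc.ed (nat_lit 1218) (nat_lit 760) Col.b (nat_lit 772) Dv.df))) (Tr.nd (nat_lit 1220) (Tr.lf (Fc.ed (nat_lit 1219) (nat_lit 772) Col.c (nat_lit 761) (Dv.wd (nat_lit 4) [Mv.b (nat_lit 1201), Mv.b (nat_lit 923), Mv.b (nat_lit 1126), Mv.f (nat_lit 1200), Mv.f (nat_lit 1218)]))) (Tr.lf (Fc.ed (nat_lit 1220) (nat_lit 740) Col.d (nat_lit 773) Dv.df))))) (Tr.nd (nat_lit 1224) (Tr.nd (nat_lit 1222) (Tr.lf (Fc.ed (nat_lit 1221) (nat_lit 773) Col.b (nat_lit 597) (Dv.wd (nat_lit 1) [Mv.f (nat_lit 938), Mv.f (nat_lit 1167), Mv.f (nat_lit 1220)]))) (Tr.nd (nat_lit 1223) (Tr.lf (Fc.ed (nat_lit 1222) (nat_lit 771) Col.c (nat_lit 774) Dv.df)) (Tr.lf (Fc.ed (nat_lit 1223) (nat_lit 774) Col.b (nat_lit 753) (Dv.wd (nat_lit 7) [Mv.b (nat_lit 1187), Mv.b (nat_lit 891), Mv.f (nat_lit 1042), Mv.f (nat_lit 1217), Mv.f (nat_lit 1222)]))))) (Tr.nd (nat_lit 1226) (Tr.nd (nat_lit 1225) (Tr.lf (Fc.ed (nat_lit 1224) (nat_lit 773) Col.c (nat_lit 775) Dv.df)) (Tr.lf (Fc.ed (nat_lit 1225) (nat_lit 775) Col.b (nat_lit 637) (Dv.wd (nat_lit 7) [Mv.b (nat_lit 1007), Mv.f (nat_lit 1006), Mv.f (nat_lit 937), Mv.b (nat_lit 1221), Mv.f (nat_lit 1224)])))) (Tr.nd (nat_lit 1227) (Tr.lf (Fc.ed (nat_lit 1226) (nat_lit 599) Col.a (nat_lit 776) Dv.df)) (Tr.lf (Fc.ed (nat_lit 1227) (nat_lit 773) Col.a (nat_lit 777) Dv.df))))))))) (Tr.nd (nat_lit 1284) (Tr.nd (nat_lit 1256) (Tr.nd (nat_lit 1242) (Tr.nd (nat_lit 1235) (Tr.nd (nat_lit 1231) (Tr.nd (nat_lit 1229) (Tr.lf (Fc.ed (nat_lit 1228) (nat_lit 777) Col.d (nat_lit 750) (Dv.wd (nat_lit 2) [Mv.b (nat_lit 1183), Mv.f (nat_lit 1220), Mv.f (nat_lit 1227)]))) (Tr.nd (nat_lit 1230) (Tr.lf (Fc.ed (nat_lit 1229) (nat_lit 763) Col.c (nat_lit 778) Dv.df)) (Tr.lf (Fc.ed (nat_lit 1230) (nat_lit 641) Col.a (nat_lit 779) Dv.df)))) (Tr.nd (nat_lit 1233) (Tr.nd (nat_lit 1232) (Tr.lf (Fc.ed (nat_lit 1231) (nat_lit 779) Col.d (nat_lit 729) (Dv.wd (nat_lit 2) [Mv.b (nat_lit 1151), Mv.b (nat_lit 1012), Mv.f (nat_lit 1230)]))) (Tr.lf (Fc.ed (nat_lit 1232) (nat_lit 640) Col.d (nat_lit 780) Dv.df))) (Tr.nd (nat_lit 1234) (Tr.lf (Fc.ed (nat_lit 1233) (nat_lit 739) Col.c (nat_lit 781) Dv.df)) (Tr.lf (Fc.ed (nat_lit 1234) (nat_lit 778) Col.a (nat_lit 782) Dv.df))))) (Tr.nd (nat_lit 1238) (Tr.nd (nat_lit 1236) (Tr.lf (Fc.ed (nat_lit 1235) (nat_lit 780) Col.c (nat_lit 783) Dv.df)) (Tr.nd (nat_lit 1237) (Tr.lf (Fc.ed (nat_lit 1236) (nat_lit 783) Col.d (nat_lit 778) (Dv.wd (nat_lit 9) [Mv.b (nat_lit 1229), Mv.b (nat_lit 1205), Mv.b (nat_lit 1149), Mv.f (nat_lit 868), Mv.f (nat_lit 845), Mv.f (nat_lit 1010), Mv.f (nat_lit 1232), Mv.f (nat_lit 1235)]))) (Tr.lf (Fc.ed (nat_lit 1237) (nat_lit 741) Col.d (nat_lit 784) Dv.df)))) (Tr.nd (nat_lit 1240) (Tr.nd (nat_lit 1239) (Tr.lf (Fc.ed (nat_lit 1238) (nat_lit 776) Col.b (nat_lit 785) Dv.df)) (Tr.lf (Fc.ed (nat_lit 1239) (nat_lit 648) Col.d (nat_lit 786) Dv.df))) (Tr.nd (nat_lit 1241) (Tr.lf (Fc.ed (nat_lit 1240) (nat_lit 786) Col.a (nat_lit 763) (Dv.wd (nat_lit 5) [Mv.b (nat_lit 1205), Mv.f (nat_lit 1150), Mv.f (nat_lit 1239)]))) (Tr.lf (Fc.ed (nat_lit 1241) (nat_lit 786) Col.c (nat_lit 782) (Dv.wd (nat_lit 21) [Mv.b (nat_lit 1234), Mv.b (nat_lit 1236), Mv.b (nat_lit 1235), Mv.b (nat_lit 1232), Mv.b (nat_lit 1010), Mv.b (nat_lit 852), Mv.f (nat_lit 1023), Mv.f (nat_lit 1239)]))))))) (Tr.nd (nat_lit 1249) (Tr.nd (nat_lit 1245) (Tr.nd (nat_lit 1243) (Tr.lf (Fc.ed (nat_lit 1242) (nat_lit 719) Col.d (nat_lit 787) Dv.df)) (Tr.nd (nat_lit 1244) (Tr.lf (Fc.ed (nat_lit 1243) (nat_lit 782) Col.d (nat_lit 788) Dv.df)) (Tr.lf (Fc.ed (nat_lit 1244) (nat_lit 788) Col.c (nat_lit 787) (Dv.wd (nat_lit 10) [Mv.b (nat_lit 1242), Mv.f (nat_lit 1134), Mv.b (nat_lit 868), Mv.f (nat_lit 1149), Mv.f (nat_lit 1205), Mv.b (nat_lit 1240), Mv.f (nat_lit 1241), Mv.f (nat_lit 1243)]))))) (Tr.nd (nat_lit 1247) (Tr.nd (nat_lit 1246) (Tr.lf (Fc.ed (nat_lit 1245) (nat_lit 617) Col.c (nat_lit 789) Dv.df)) (Tr.lf (Fc.ed (nat_lit 1246) (nat_lit 749) Col.a (nat_lit 790) Dv.df))) (Tr.nd (nat_lit 1248) (Tr.lf (Fc.ed (nat_lit 1247) (nat_lit 790) Col.c (nat_lit 605) (Dv.wd (nat_lit 0) [Mv.b (nat_lit 953), Mv.b (nat_lit 1182), Mv.f (nat_lit 1246)]))) (Tr.lf (Fc.ed (nat_lit 1248) (nat_lit 789) Col.b (nat_lit 790) (Dv.wd (nat_lit 22) [Mv.f (nat_lit 1247), Mv.b (nat_lit 951), Mv.b (nat_lit 947), Mv.f (nat_lit 972), Mv.f (nat_lit 1245)])))))) (Tr.nd (nat_lit 1252) (Tr.nd (nat_lit 1250) (Tr.lf (Fc.ed (nat_lit 1249) (nat_lit 785) Col.a (nat_lit 791) Dv.df)) (Tr.nd (nat_lit 1251) (Tr.lf (Fc.ed (nat_lit 1250) (nat_lit 607) Col.c (nat_lit 792) Dv.df)) (Tr.lf (Fc.ed (nat_lit 1251) (nat_lit 792) Col.a (nat_lit 755) (Dv.wd (nat_lit 6) [Mv.b (nat_lit 1191), Mv.b (nat_lit 958), Mv.f (nat_lit 1250)]))))) (Tr.nd (nat_lit 1254) (Tr.nd (nat_lit 1253) (Tr.lf (Fc.ed (nat_lit 1252) (nat_lit 791) Col.b (nat_lit 793) Dv.df)) (Tr.lf (Fc.ed (nat_lit 1253) (nat_lit 793) Col.a (nat_lit 794) Dv.df))) (Tr.nd (nat_lit 1255) (Tr.lf (Fc.ed (nat_lit 1254) (nat_lit 794) Col.b (nat_lit 614) (Dv.wd (nat_lit 8) [Mv.f (nat_lit 967), Mv.f (nat_lit 701), Mv.b (nat_lit 940), Mv.f (nat_lit 941), Mv.f (nat_lit 1226), Mv.f (nat_lit 1238), Mv.f (nat_lit 1249), Mv.f (nat_lit 1252), Mv.f (nat_lit 1253)]))) (Tr.lf (Fc.ed (nat_lit 1255) (nat_lit 784) Col.c (nat_lit 795) Dv.df))))))) (Tr.nd (nat_lit 1270) (Tr.nd (nat_lit 1263) (Tr.nd (nat_lit 1259) (Tr.nd (nat_lit 1257) (Tr.lf (Fc.ed (nat_lit 1256) (nat_lit 725) Col.d (nat_lit 796) Dv.df)) (Tr.nd (nat_lit 1258) (Tr.lf (Fc.ed (nat_lit 1257) (nat_lit 753) Col.d (nat_lit 797) Dv.df)) (Tr.lf (Fc.ed (nat_lit 1258) (nat_lit 797) Col.a (nat_lit 784) (Dv.wd (nat_lit 5) [Mv.b (nat_lit 1237), Mv.b (nat_lit 1188), Mv.f (nat_lit 1257)]))))) (Tr.nd (nat_lit 1261) (Tr.nd (nat_lit 1260) (Tr.lf (Fc.ed (nat_lit 1259) (nat_lit 795) Col.a (nat_lit 798) Dv.df)) (Tr.lf (Fc.ed (nat_lit 1260) (nat_lit 798) Col.c (nat_lit 797) (Dv.wd (nat_lit 0) [Mv.f (nat_lit 1258), Mv.f (nat_lit 1255), Mv.f (nat_lit 1259)])))) (Tr.nd (nat_lit 1262) (Tr.lf (Fc.ed (nat_lit 1261) (nat_lit 755) Col.d (nat_lit 799) Dv.df)) (Tr.lf (Fc.ed (nat_lit 1262) (nat_lit 613) Col.c (nat_lit 800) Dv.df))))) (Tr.nd (nat_lit 1266) (Tr.nd (nat_lit 1264) (Tr.lf (Fc.ed (nat_lit 1263) (nat_lit 796) Col.a (nat_lit 801) Dv.df)) (Tr.nd (nat_lit 1265) (Tr.lf (Fc.ed (nat_lit 1264) (nat_lit 801) Col.d (nat_lit 726) (Dv.wd (nat_lit 2) [Mv.f (nat_lit 1146), Mv.f (nat_lit 1256), Mv.f (nat_lit 1263)]))) (Tr.lf (Fc.ed (nat_lit 1265) (nat_lit 798) Col.d (nat_lit 802) Dv.df)))) (Tr.nd (nat_lit 1268) (Tr.nd (nat_lit 1267) (Tr.lf (Fc.ed (nat_lit 1266) (nat_lit 802) Col.c (nat_lit 801) (Dv.wd (nat_lit 10) [Mv.f (nat_lit 1264), Mv.b (nat_lit 1145), Mv.b (nat_lit 894), Mv.f (nat_lit 1168), Mv.f (nat_lit 1237), Mv.b (nat_lit 1258), Mv.b (nat_lit 1260), Mv.f (nat_lit 1265)]))) (Tr.lf (Fc.ed (nat_lit 1267) (nat_lit 799) Col.a (nat_lit 803) Dv.df))) (Tr.nd (nat_lit 1269) (Tr.lf (Fc.ed (nat_lit 1268) (nat_lit 803) Col.d (nat_lit 792) (Dv.wd (nat_lit 2) [Mv.f (nat_lit 1251), Mv.f (nat_lit 1261), Mv.f (nat_lit 1267)]))) (Tr.lf (Fc.ed (nat_lit 1269) (nat_lit 800) Col.a (nat_lit 804) Dv.df)))))) (Tr.nd (nat_lit 1277) (Tr.nd (nat_lit 1273) (Tr.nd (nat_lit 1271) (Tr.lf (Fc.ed (nat_lit 1270) (nat_lit 804) Col.c (nat_lit 615) (Dv.wd (nat_lit 0) [Mv.f (nat_lit 969), Mv.f (nat_lit 1262), Mv.f (nat_lit 1269)]))) (Tr.nd (nat_lit 1272) (Tr.lf (Fc.ed (nat_lit 1271) (nat_lit 790) Col.d (nat_lit 805) Dv.df)) (Tr.lf (Fc.ed (nat_lit 1272) (nat_lit 799) Col.c (nat_lit 806) Dv.df)))) (Tr.nd (nat_lit 1275) (Tr.nd (nat_lit 1274) (Tr.lf (Fc.ed (nat_lit 1273) (nat_lit 806) Col.d (nat_lit 807) Dv.df)) (Tr.lf (Fc.ed (nat_lit 1274) (nat_lit 807) Col.c (nat_lit 805) (Dv.wd (nat_lit 10) [Mv.b (nat_lit 1271), Mv.f (nat_lit 1247), Mv.b (nat_lit 955), Mv.f (nat_lit 1250), Mv.b (nat_lit 1268), Mv.b (nat_lit 1267), Mv.f (nat_lit 1272), Mv.f (nat_lit 1273)])))) (Tr.nd (nat_lit 1276) (Tr.lf (Fc.ed (nat_lit 1275) (nat_lit 804) Col.b (nat_lit 808) Dv.df)) (Tr.lf (Fc.ed (nat_lit 1276) (nat_lit 808) Col.c (nat_lit 794) (Dv.wd (nat_lit 4) [Mv.f (nat_lit 1254), Mv.b (nat_lit 966), Mv.f (nat_lit 968), Mv.b (nat_lit 1270), Mv.f (nat_lit 1275)])))))) (Tr.nd (nat_lit 1280) (Tr.nd (nat_lit 1278) (Tr.lf (Fc.ed (nat_lit 1277) (nat_lit 789) Col.d (nat_lit 809) Dv.df)) (Tr.nd (nat_lit 1279) (Tr.lf (Fc.ed (nat_lit 1278) (nat_lit 809) Col.b (nat_lit 805) (Dv.wd (nat_lit 1) [Mv.b (nat_lit 1271), Mv.b (nat_lit 1248), Mv.f (nat_lit 1277)]))) (Tr.lf (Fc.ed (nat_lit 1279) (nat_lit 804) Col.d (nat_lit 810) Dv.df)))) (Tr.nd (nat_lit 1282) (Tr.nd (nat_lit 1281) (Tr.lf (Fc.ed (nat_lit 1280) (nat_lit 619) Col.b (nat_lit 811) Dv.df)) (Tr.lf (Fc.ed (nat_lit 1281) (nat_lit 811) Col.d (nat_lit 794) (Dv.wd (nat_lit 3) [Mv.f (nat_lit 1254), Mv.f (nat_lit 976), Mv.f (nat_lit 1280)])))) (Tr.nd (nat_lit 1283) (Tr.lf (Fc.ed (nat_lit 1282) (nat_lit 810) Col.c (nat_lit 812) Dv.df)) (Tr.lf (Fc.ed (nat_lit 1283) (nat_lit 661) Col.a (nat_lit 813) Dv.df)))))))) (Tr.nd (nat_lit 1312) (Tr.nd (nat_lit 1298) (Tr.nd (nat_lit 1291) (Tr.nd (nat_lit 1287) (Tr.nd (nat_lit 1285) (Tr.lf (Fc.ed (nat_lit 1284) (nat_lit 813) Col.d (nat_lit 681) (Dv.wd (nat_lit 23) [Mv.b (nat_lit 1072), Mv.b (nat_lit 1038), Mv.f (nat_lit 979), Mv.f (nat_lit 983), Mv.b (nat_lit 986), Mv.f (nat_lit 1045), Mv.b (nat_lit 1047), Mv.f (nat_lit 1283)]))) (Tr.nd (nat_lit 1286) (Tr.lf (Fc.ed (nat_lit 1285) (nat_lit 809) Col.c (nat_lit 814) Dv.df)) (Tr.lf (Fc.ed (nat_lit 1286) (nat_lit 814) Col.d (nat_lit 812) (Dv.wd (nat_lit 9) [Mv.b (nat_lit 1282), Mv.b (nat_lit 1279), Mv.f (nat_lit 1270), Mv.b (nat_lit 974), Mv.f (nat_lit 975), Mv.f (nat_lit 1245), Mv.f (nat_lit 1277), Mv.f (nat_lit 1285)]))))) (Tr.nd (nat_lit 1289) (Tr.nd (nat_lit 1288) (Tr.lf (Fc.ed (nat_lit 1287) (nat_lit 634) Col.a (nat_lit 815) Dv.df)) (Tr.lf (Fc.ed (nat_lit 1288) (nat_lit 815) Col.c (nat_lit 702) (Dv.wd (nat_lit 0) [Mv.f (nat_lit 1105), Mv.b (nat_lit 1016), Mv.f (nat_lit 1287)])))) (Tr.nd (nat_lit 1290) (Tr.lf (Fc.ed (nat_lit 1289) (nat_lit 685) Col.a (nat_lit 816) Dv.df)) (Tr.lf (Fc.ed (nat_lit 1290) (nat_lit 816) Col.c (nat_lit 729) (Dv.wd (nat_lit 0) [Mv.b (nat_lit 1151), Mv.b (nat_lit 1079), Mv.f (nat_lit 1289)])))))) (Tr.nd (nat_lit 1294) (Tr.nd (nat_lit 1292) (Tr.lf (Fc.ed (nat_lit 1291) (nat_lit 811) Col.a (nat_lit 817) Dv.df)) (Tr.nd (nat_lit 1293) (Tr.lf (Fc.ed (nat_lit 1292) (nat_lit 720) Col.b (nat_lit 818) Dv.df)) (Tr.lf (Fc.ed (nat_lit 1293) (nat_lit 818) Col.d (nat_lit 771) (Dv.wd (nat_lit 3) [Mv.b (nat_lit 1217), Mv.f (nat_lit 1135), Mv.f (nat_lit 1292)]))))) (Tr.nd (nat_lit 1296) (Tr.nd (nat_lit 1295) (Tr.lf (Fc.ed (nat_lit 1294) (nat_lit 775) Col.d (nat_lit 819) Dv.df)) (Tr.lf (Fc.ed (nat_lit 1295) (nat_lit 819) Col.b (nat_lit 635) (Dv.wd (nat_lit 1) [Mv.f (nat_lit 1004), Mv.b (nat_lit 1225), Mv.f (nat_lit 1294)])))) (Tr.nd (nat_lit 1297) (Tr.lf (Fc.ed (nat_lit 1296) (nat_lit 811) Col.c (nat_lit 820) Dv.df)) (Tr.lf (Fc.ed (nat_lit 1297) (nat_lit 815) Col.d (nat_lit 821) Dv.df)))))) (Tr.nd (nat_lit 1305) (Tr.nd (nat_lit 1301) (Tr.nd (nat_lit 1299) (Tr.lf (Fc.ed (nat_lit 1298) (nat_lit 816) Col.d (nat_lit 822) Dv.df)) (Tr.nd (nat_lit 1300) (Tr.lf (Fc.ed (nat_lit 1299) (nat_lit 813) Col.b (nat_lit 823) Dv.df)) (Tr.lf (Fc.ed (nat_lit 1300) (nat_lit 823) Col.d (nat_lit 685) (Dv.wd (nat_lit 3) [Mv.b (nat_lit 1078), Mv.b (nat_lit 1284), Mv.f (nat_lit 1299)]))))) (Tr.nd (nat_lit 1303) (Tr.nd (nat_lit 1302) (Tr.lf (Fc.ed (nat_lit 1301) (nat_lit 822) Col.a (nat_lit 823) (Dv.wd (nat_lit 24) [Mv.f (nat_lit 1300), Mv.f (nat_lit 1289), Mv.f (nat_lit 1298)]))) (Tr.lf (Fc.ed (nat_lit 1302) (nat_lit 822) Col.c (nat_lit 824) Dv.df))) (Tr.nd (nat_lit 1304) (Tr.lf (Fc.ed (nat_lit 1303) (nat_lit 821) Col.c (nat_lit 825) Dv.df)) (Tr.lf (Fc.ed (nat_lit 1304) (nat_lit 655) Col.d (nat_lit 826) Dv.df))))) (Tr.nd (nat_lit 1308) (Tr.nd (nat_lit 1306) (Tr.lf (Fc.ed (nat_lit 1305) (nat_lit 826) Col.b (nat_lit 686) (Dv.wd (nat_lit 1) [Mv.b (nat_lit 1080), Mv.f (nat_lit 1052), Mv.f (nat_lit 1304)]))) (Tr.nd (nat_lit 1307) (Tr.lf (Fc.ed (nat_lit 1306) (nat_lit 825) Col.d (nat_lit 827) Dv.df)) (Tr.lf (Fc.ed (nat_lit 1307) (nat_lit 768) Col.d (nat_lit 828) Dv.df)))) (Tr.nd (nat_lit 1310) (Tr.nd (nat_lit 1309) (Tr.lf (Fc.ed (nat_lit 1308) (nat_lit 828) Col.c (nat_lit 827) (Dv.wd (nat_lit 10) [Mv.b (nat_lit 1306), Mv.b (nat_lit 1303), Mv.b (nat_lit 1297), Mv.f (nat_lit 1288), Mv.b (nat_lit 1148), Mv.b (nat_lit 1147), Mv.b (nat_lit 1212), Mv.f (nat_lit 1307)]))) (Tr.lf (Fc.ed (nat_lit 1309) (nat_lit 826) Col.c (nat_lit 829) Dv.df))) (Tr.nd (nat_lit 1311) (Tr.lf (Fc.ed (nat_lit 1310) (nat_lit 822) Col.b (nat_lit 830) Dv.df)) (Tr.lf (Fc.ed (nat_lit 1311) (nat_lit 830) Col.a (nat_lit 818) (Dv.wd (nat_lit 13) [Mv.b (nat_lit 1292), Mv.f (nat_lit 1136), Mv.f (nat_lit 1130), Mv.b (nat_lit 994), Mv.f (nat_lit 1044), Mv.f (nat_lit 1283), Mv.f (nat_lit 1299), Mv.b (nat_lit 1301), Mv.f (nat_lit 1310)])))))))) (Tr.nd (nat_lit 1326) (Tr.nd (nat_lit 1319) (Tr.nd (nat_lit 1315) (Tr.nd (nat_lit 1313) (Tr.lf (Fc.ed (nat_lit 1312) (nat_lit 649) Col.d (nat_lit 831) Dv.df)) (Tr.nd (nat_lit 1314) (Tr.lf (Fc.ed (nat_lit 1313) (nat_lit 831) Col.b (nat_lit 786) (Dv.wd (nat_lit 1) [Mv.b (nat_lit 1239), Mv.f (nat_lit 1024), Mv.f (nat_lit 1312)]))) (Tr.lf (Fc.ed (nat_lit 1314) (nat_lit 820) Col.b (nat_lit 832) Dv.df)))) (Tr.nd (nat_lit 1317) (Tr.nd (nat_lit 1316) (Tr.lf (Fc.ed (nat_lit 1315) (nat_lit 832) Col.c (nat_lit 819) (Dv.wd (nat_lit 4) [Mv.f (nat_lit 1295), Mv.b (nat_lit 1001), Mv.f (nat_lit 1280), Mv.f (nat_lit 1296), Mv.f (nat_lit 1314)]))) (Tr.lf (Fc.ed (nat_lit 1316) (nat_lit 831) Col.c (nat_lit 833) Dv.df))) (Tr.nd (nat_lit 1318) (Tr.lf (Fc.ed (nat_lit 1317) (nat_lit 833) Col.d (nat_lit 824) (Dv.wd (nat_lit 9) [Mv.b (nat_lit 1302), Mv.b (nat_lit 1298), Mv.f (nat_lit 1290), Mv.b (nat_lit 1231), Mv.b (nat_lit 1230), Mv.b (nat_lit 1025), Mv.f (nat_lit 1312), Mv.f (nat_lit 1316)]))) (Tr.lf (Fc.ed (nat_lit 1318) (nat_lit 723) Col.a (nat_lit 834) Dv.df))))) (Tr.nd (nat_lit 1322) (Tr.nd (nat_lit 1320) (Tr.lf (Fc.ed (nat_lit 1319) (nat_lit 647) Col.a (nat_lit 835) Dv.df)) (Tr.nd (nat_lit 1321) (Tr.lf (Fc.ed (nat_lit 1320) (nat_lit 835) Col.c (nat_lit 836) Dv.df)) (Tr.lf (Fc.ed (nat_lit 1321) (nat_lit 836) Col.a (nat_lit 668) (Dv.wd (nat_lit 6) [Mv.b (nat_lit 1055), Mv.f (nat_lit 1319), Mv.f (nat_lit 1320)]))))) (Tr.nd (nat_lit 1324) (Tr.nd (nat_lit 1323) (Tr.lf (Fc.ed (nat_lit 1322) (nat_lit 836) Col.d (nat_lit 829) (Dv.wd (nat_lit 11) [Mv.b (nat_lit 1309), Mv.b (nat_lit 1304), Mv.b (nat_lit 1034), Mv.b (nat_lit 1027), Mv.b (nat_lit 1009), Mv.f (nat_lit 1021), Mv.f (nat_lit 1319), Mv.f (nat_lit 1320)]))) (Tr.lf (Fc.ed (nat_lit 1323) (nat_lit 754) Col.a (nat_lit 837) Dv.df))) (Tr.nd (nat_lit 1325) (Tr.lf (Fc.ed (nat_lit 1324) (nat_lit 654) Col.d (nat_lit 838) Dv.df)) (Tr.lf (Fc.ed (nat_lit 1325) (nat_lit 838) Col.b (nat_lit 672) (Dv.wd (nat_lit 1) [Mv.b (nat_lit 1060), Mv.b (nat_lit 1035), Mv.f (nat_lit 1324)]))))))) (Tr.nd (nat_lit 1333) (Tr.nd (nat_lit 1329) (Tr.nd (nat_lit 1327) (Tr.lf (Fc.ed (nat_lit 1326) (nat_lit 767) Col.a (nat_lit 839) Dv.df)) (Tr.nd (nat_lit 1328) (Tr.lf (Fc.ed (nat_lit 1327) (nat_lit 839) Col.c (nat_lit 837) (Dv.wd (nat_lit 0) [Mv.b (nat_lit 1323), Mv.f (nat_lit 1210), Mv.f (nat_lit 1326)]))) (Tr.lf (Fc.ed (nat_lit 1328) (nat_lit 838) Col.c (nat_lit 840) Dv.df)))) (Tr.nd (nat_lit 1331) (Tr.nd (nat_lit 1330) (Tr.lf (Fc.ed (nat_lit 1329) (nat_lit 840) Col.d (nat_lit 839) (Dv.wd (nat_lit 25) [Mv.b (nat_lit 1326), Mv.b (nat_lit 1210), Mv.f (nat_lit 1190), Mv.b (nat_lit 1030), Mv.f (nat_lit 1031), Mv.f (nat_lit 1033), Mv.f (nat_lit 1324), Mv.f (nat_lit 1328)]))) (Tr.lf (Fc.ed (nat_lit 1330) (nat_lit 837) Col.d (nat_lit 841) Dv.df))) (Tr.nd (nat_lit 1332) (Tr.lf (Fc.ed (nat_lit 1331) (nat_lit 841) Col.c (nat_lit 687) (Dv.wd (nat_lit 19) [Mv.f (nat_lit 1082), Mv.b (nat_lit 1063), Mv.f (nat_lit 1033), Mv.f (nat_lit 1324), Mv.f (nat_lit 1328), Mv.f (nat_lit 1329), Mv.f (nat_lit 1327), Mv.f (nat_lit 1330)]))) (Tr.lf (Fc.ed (nat_lit 1332) (nat_lit 838) Col.a (nat_lit 842) Dv.df))))) (Tr.nd (nat_lit 1336) (Tr.nd (nat_lit 1334) (Tr.lf (Fc.ed (nat_lit 1333) (nat_lit 767) Col.d (nat_lit 843) Dv.df)) (Tr.nd (nat_lit 1335) (Tr.lf (Fc.ed (nat_lit 1334) (nat_lit 843) Col.a (nat_lit 840) (Dv.wd (nat_lit 5) [Mv.f (nat_lit 1329), Mv.b (nat_lit 1326), Mv.f (nat_lit 1333)]))) (Tr.lf (Fc.ed (nat_lit 1335) (nat_lit 843) Col.b (nat_lit 828) (Dv.wd (nat_lit 1) [Mv.b (nat_lit 1307), Mv.b (nat_lit 1211), Mv.f (nat_lit 1333)]))))) (Tr.nd (nat_lit 1338) (Tr.nd (nat_lit 1337) (Tr.lf (Fc.ed (nat_lit 1336) (nat_lit 843) Col.c (nat_lit 842) (Dv.wd (nat_lit 21) [Mv.b (nat_lit 1332), Mv.b (nat_lit 1324), Mv.b (nat_lit 1033), Mv.b (nat_lit 1031), Mv.f (nat_lit 1030), Mv.b (nat_lit 1190), Mv.f (nat_lit 1210), Mv.f (nat_lit 1333)]))) (Tr.lf (Fc.ed (nat_lit 1337) (nat_lit 842) Col.d (nat_lit 844) Dv.df))) (Tr.nd (nat_lit 1339) (Tr.lf (Fc.ed (nat_lit 1338) (nat_lit 844) Col.a (nat_lit 654) (Dv.wd (nat_lit 5) [Mv.f (nat_lit 1324), Mv.f (nat_lit 1332), Mv.f (nat_lit 1337)]))) (Tr.lf (Fc.ed (nat_lit 1339) (nat_lit 844) Col.c (nat_lit 675) (Dv.wd (nat_lit 10) [Mv.b (nat_lit 1082), Mv.b (nat_lit 1331), Mv.b (nat_lit 1330), Mv.b (nat_lit 1327), Mv.b (nat_lit 1329), Mv.b (nat_lit 1334), Mv.f (nat_lit 1336), Mv.f (nat_lit 1337)])))))))))))) (Tr.nd (nat_lit 1563) (Tr.nd (nat_lit 1451) (Tr.nd (nat_lit 1395) (Tr.nd (nat_lit 1367) (Tr.nd (nat_lit 1353) (Tr.nd (nat_lit 1346) (Tr.nd (nat_lit 1343) (Tr.nd (nat_lit 1341) (Tr.lf (Fc.ed (nat_lit 1340) (nat_lit 688) Col.a (nat_lit 845) Dv.df)) (Tr.nd (nat_lit 1342) (Tr.lf (Fc.ed (nat_lit 1341) (nat_lit 751) Col.c (nat_lit 846) Dv.df)) (Tr.lf (Fc.ed (nat_lit 1342) (nat_lit 745) Col.d (nat_lit 847) Dv.df)))) (Tr.nd (nat_lit 1344) (Tr.lf (Fc.ed (nat_lit 1343) (nat_lit 847) Col.b (nat_lit 704) (Dv.wd (nat_lit 1) [Mv.b (nat_lit 1110), Mv.b (nat_lit 1175), Mv.f (nat_lit 1342)]))) (Tr.nd (nat_lit 1345) (Tr.lf (Fc.ed (nat_lit 1344) (nat_lit 845) Col.d (nat_lit 848) Dv.df)) (Tr.lf (Fc.ed (nat_lit 1345) (nat_lit 847) Col.c (nat_lit 849) Dv.df))))) (Tr.nd (nat_lit 1349) (Tr.nd (nat_lit 1347) (Tr.lf (Fc.ed (nat_lit 1346) (nat_lit 674) Col.a (nat_lit 850) Dv.df)) (Tr.nd (nat_lit 1348) (Tr.lf (Fc.ed (nat_lit 1347) (nat_lit 676) Col.a (nat_lit 851) Dv.df)) (Tr.lf (Fc.ed (nat_lit 1348) (nat_lit 851) Col.c (nat_lit 850) (Dv.wd (nat_lit 0) [Mv.b (nat_lit 1346), Mv.f (nat_lit 1064), Mv.f (nat_lit 1347)]))))) (Tr.nd (nat_lit 1351) (Tr.nd (nat_lit 1350) (Tr.lf (Fc.ed (nat_lit 1349) (nat_lit 744) Col.d (nat_lit 852) Dv.df)) (Tr.lf (Fc.ed (nat_lit 1350) (nat_lit 712) Col.a (nat_lit 853) Dv.df))) (Tr.nd (nat_lit 1352) (Tr.lf (Fc.ed (nat_lit 1351) (nat_lit 853) Col.d (nat_lit 850) (Dv.wd (nat_lit 2) [Mv.b (nat_lit 1346), Mv.f (nat_lit 1120), Mv.f (nat_lit 1350)]))) (Tr.lf (Fc.ed (nat_lit 1352) (nat_lit 722) Col.c (nat_lit 854) Dv.df)))))) (Tr.nd (nat_lit 1360) (Tr.nd (nat_lit 1356) (Tr.nd (nat_lit 1354) (Tr.lf (Fc.ed (nat_lit 1353) (nat_lit 736) Col.c (nat_lit 855) Dv.df)) (Tr.nd (nat_lit 1355) (Tr.lf (Fc.ed (nat_lit 1354) (nat_lit 855) Col.b (nat_lit 854) (Dv.wd (nat_lit 7) [Mv.b (nat_lit 1352), Mv.b (nat_lit 1139), Mv.f (nat_lit 1058), Mv.f (nat_lit 1161), Mv.f (nat_lit 1353)]))) (Tr.lf (Fc.ed (nat_lit 1355) (nat_lit 770) Col.d (nat_lit 856) Dv.df)))) (Tr.nd (nat_lit 1358) (Tr.nd (nat_lit 1357) (Tr.lf (Fc.ed (nat_lit 1356) (nat_lit 846) Col.b (nat_lit 857) Dv.df)) (Tr.lf (Fc.ed (nat_lit 1357) (nat_lit 683) Col.b (nat_lit 858) Dv.df))) (Tr.nd (nat_lit 1359) (Tr.lf (Fc.ed (nat_lit 1358) (nat_lit 858) Col.d (nat_lit 688) (Dv.wd (nat_lit 3) [Mv.f (nat_lit 1084), Mv.b (nat_lit 1076), Mv.f (nat_lit 1357)]))) (Tr.lf (Fc.ed (nat_lit 1359) (nat_lit 848) Col.a (nat_lit 858) (Dv.wd (nat_lit 24) [Mv.f (nat_lit 1358), Mv.f (nat_lit 1340), Mv.f (nat_lit 1344)])))))) (Tr.nd (nat_lit 1363) (Tr.nd (nat_lit 1361) (Tr.lf (Fc.ed (nat_lit 1360) (nat_lit 848) Col.c (nat_lit 859) Dv.df)) (Tr.nd (nat_lit 1362) (Tr.lf (Fc.ed (nat_lit 1361) (nat_lit 859) Col.d (nat_lit 849) (Dv.wd (nat_lit 11) [Mv.b (nat_lit 1345), Mv.b (nat_lit 1342), Mv.b (nat_lit 1174), Mv.b (nat_lit 1131), Mv.f (nat_lit 1083), Mv.b (nat_lit 1358), Mv.b (nat_lit 1359), Mv.f (nat_lit 1360)]))) (Tr.lf (Fc.ed (nat_lit 1362) (nat_lit 744) Col.a (nat_lit 860) Dv.df)))) (Tr.nd (nat_lit 1365) (Tr.nd (nat_lit 1364) (Tr.lf (Fc.ed (nat_lit 1363) (nat_lit 860) Col.c (nat_lit 853) (Dv.wd (nat_lit 0) [Mv.b (nat_lit 1350), Mv.b (nat_lit 1173), Mv.f (nat_lit 1362)]))) (Tr.lf (Fc.ed (nat_lit 1364) (nat_lit 715) Col.d (nat_lit 861) Dv.df))) (Tr.nd (nat_lit 1366) (Tr.lf (Fc.ed (nat_lit 1365) (nat_lit 861) Col.b (nat_lit 703) (Dv.wd (nat_lit 1) [Mv.f (nat_lit 1107), Mv.f (nat_lit 1127), Mv.f (nat_lit 1364)]))) (Tr.lf (Fc.ed (nat_lit 1366) (nat_lit 710) Col.d (nat_lit 862) Dv.df))))))) (Tr.nd (nat_lit 1381) (Tr.nd (nat_lit 1374) (Tr.nd (nat_lit 1370) (Tr.nd (nat_lit 1368) (Tr.lf (Fc.ed (nat_lit 1367) (nat_lit 844) Col.b (nat_lit 863) Dv.df)) (Tr.nd (nat_lit 1369) (Tr.lf (Fc.ed (nat_lit 1368) (nat_lit 857) Col.c (nat_lit 864) Dv.df)) (Tr.lf (Fc.ed (nat_lit 1369) (nat_lit 864) Col.b (nat_lit 699) (Dv.wd (nat_lit 7) [Mv.f (nat_lit 1101), Mv.f (nat_lit 1184), Mv.f (nat_lit 1341), Mv.f (nat_lit 1356), Mv.f (nat_lit 1368)]))))) (Tr.nd (nat_lit 1372) (Tr.nd (nat_lit 1371) (Tr.lf (Fc.ed (nat_lit 1370) (nat_lit 860) Col.d (nat_lit 865) Dv.df)) (Tr.lf (Fc.ed (nat_lit 1371) (nat_lit 865) Col.a (nat_lit 852) (Dv.wd (nat_lit 5) [Mv.b (nat_lit 1349), Mv.f (nat_lit 1362), Mv.f (nat_lit 1370)])))) (Tr.nd (nat_lit 1373) (Tr.lf (Fc.ed (nat_lit 1372) (nat_lit 865) Col.c (nat_lit 862) (Dv.wd (nat_lit 10) [Mv.b (nat_lit 1366), Mv.f (nat_lit 1117), Mv.b (nat_lit 1085), Mv.b (nat_lit 1064), Mv.f (nat_lit 1120), Mv.f (nat_lit 1350), Mv.b (nat_lit 1363), Mv.f (nat_lit 1370)]))) (Tr.lf (Fc.ed (nat_lit 1373) (nat_lit 862) Col.a (nat_lit 866) Dv.df))))) (Tr.nd (nat_lit 1377) (Tr.nd (nat_lit 1375) (Tr.lf (Fc.ed (nat_lit 1374) (nat_lit 866) Col.c (nat_lit 852) (Dv.wd (nat_lit 0) [Mv.b (nat_lit 1371), Mv.f (nat_lit 1372), Mv.f (nat_lit 1373)]))) (Tr.nd (nat_lit 1376) (Tr.lf (Fc.ed (nat_lit 1375) (nat_lit 700) Col.a (nat_lit 867) Dv.df)) (Tr.lf (Fc.ed (nat_lit 1376) (nat_lit 696) Col.b (nat_lit 868) Dv.df)))) (Tr.nd (nat_lit 1379) (Tr.nd (nat_lit 1378) (Tr.lf (Fc.ed (nat_lit 1377) (nat_lit 868) Col.d (nat_lit 864) (Dv.wd (nat_lit 3) [Mv.f (nat_lit 1369), Mv.b (nat_lit 1100), Mv.f (nat_lit 1376)]))) (Tr.lf (Fc.ed (nat_lit 1378) (nat_lit 689) Col.a (nat_lit 869) Dv.df))) (Tr.nd (nat_lit 1380) (Tr.lf (Fc.ed (nat_lit 1379) (nat_lit 869) Col.d (nat_lit 851) (Dv.wd (nat_lit 2) [Mv.b (nat_lit 1347), Mv.f (nat_lit 1085), Mv.f (nat_lit 1378)]))) (Tr.lf (Fc.ed (nat_lit 1380) (nat_lit 869) Col.b (nat_lit 870) Dv.df)))))) (Tr.nd (nat_lit 1388) (Tr.nd (nat_lit 1384) (Tr.nd (nat_lit 1382) (Tr.lf (Fc.ed (nat_lit 1381) (nat_lit 861) Col.c (nat_lit 871) Dv.df)) (Tr.nd (nat_lit 1383) (Tr.lf (Fc.ed (nat_lit 1382) (nat_lit 871) Col.b (nat_lit 849) (Dv.wd (nat_lit 7) [Mv.b (nat_lit 1345), Mv.f (nat_lit 1343), Mv.b (nat_lit 1108), Mv.b (nat_lit 1365), Mv.f (nat_lit 1381)]))) (Tr.lf (Fc.ed (nat_lit 1383) (nat_lit 680) Col.a (nat_lit 872) Dv.df)))) (Tr.nd (nat_lit 1386) (Tr.nd (nat_lit 1385) (Tr.lf (Fc.ed (nat_lit 1384) (nat_lit 708) Col.c (nat_lit 873) Dv.df)) (Tr.lf (Fc.ed (nat_lit 1385) (nat_lit 872) Col.c (nat_lit 874) Dv.df))) (Tr.nd (nat_lit 1387) (Tr.lf (Fc.ed (nat_lit 1386) (nat_lit 874) Col.a (nat_lit 711) (Dv.wd (nat_lit 6) [Mv.b (nat_lit 1118), Mv.f (nat_lit 1383), Mv.f (nat_lit 1385)]))) (Tr.lf (Fc.ed (nat_lit 1387) (nat_lit 732) Col.c (nat_lit 875) Dv.df))))) (Tr.nd (nat_lit 1391) (Tr.nd (nat_lit 1389) (Tr.lf (Fc.ed (nat_lit 1388) (nat_lit 758) Col.d (nat_lit 876) Dv.df)) (Tr.nd (nat_lit 1390) (Tr.lf (Fc.ed (nat_lit 1389) (nat_lit 876) Col.b (nat_lit 799) (Dv.wd (nat_lit 1) [Mv.b (nat_lit 1261), Mv.f (nat_lit 1196), Mv.f (nat_lit 1388)]))) (Tr.lf (Fc.ed (nat_lit 1390) (nat_lit 866) Col.d (nat_lit 877) Dv.df)))) (Tr.nd (nat_lit 1393) (Tr.nd (nat_lit 1392) (Tr.lf (Fc.ed (nat_lit 1391) (nat_lit 877) Col.a (nat_lit 710) (Dv.wd (nat_lit 5) [Mv.f (nat_lit 1366), Mv.f (nat_lit 1373), Mv.f (nat_lit 1390)]))) (Tr.lf (Fc.ed (nat_lit 1392) (nat_lit 877) Col.c (nat_lit 869) (Dv.wd (nat_lit 10) [Mv.f (nat_lit 1379), Mv.f (nat_lit 1348), Mv.b (nat_lit 1351), Mv.b (nat_lit 1363), Mv.f (nat_lit 1370), Mv.f (nat_lit 1371), Mv.b (nat_lit 1374), Mv.f (nat_lit 1390)])))) (Tr.nd (nat_lit 1394) (Tr.lf (Fc.ed (nat_lit 1393) (nat_lit 851) Col.b (nat_lit 878) Dv.df)) (Tr.lf (Fc.ed (nat_lit 1394) (nat_lit 878) Col.d (nat_lit 870) (Dv.wd (nat_lit 3) [Mv.b (nat_lit 1380), Mv.f (nat_lit 1379), Mv.f (nat_lit 1393)]))))))))) (Tr.nd (nat_lit 1423) (Tr.nd (nat_lit 1409) (Tr.nd (nat_lit 1402) (Tr.nd (nat_lit 1398) (Tr.nd (nat_lit 1396) (Tr.lf (Fc.ed (nat_lit 1395) (nat_lit 707) Col.c (nat_lit 879) Dv.df)) (Tr.nd (nat_lit 1397) (Tr.lf (Fc.ed (nat_lit 1396) (nat_lit 845) Col.b (nat_lit 880) Dv.df)) (Tr.lf (Fc.ed (nat_lit 1397) (nat_lit 872) Col.d (nat_lit 881) Dv.df)))) (Tr.nd (nat_lit 1400) (Tr.nd (nat_lit 1399) (Tr.lf (Fc.ed (nat_lit 1398) (nat_lit 881) Col.c (nat_lit 876) (Dv.wd (nat_lit 10) [Mv.b (nat_lit 1388), Mv.f (nat_lit 1199), Mv.b (nat_lit 1197), Mv.f (nat_lit 1122), Mv.b (nat_lit 1124), Mv.b (nat_lit 1386), Mv.b (nat_lit 1385), Mv.f (nat_lit 1397)]))) (Tr.lf (Fc.ed (nat_lit 1399) (nat_lit 880) Col.a (nat_lit 882) Dv.df))) (Tr.nd (nat_lit 1401) (Tr.lf (Fc.ed (nat_lit 1400) (nat_lit 863) Col.a (nat_lit 883) Dv.df)) (Tr.lf (Fc.ed (nat_lit 1401) (nat_lit 883) Col.b (nat_lit 882) (Dv.wd (nat_lit 8) [Mv.b (nat_lit 1399), Mv.b (nat_lit 1396), Mv.b (nat_lit 1340), Mv.f (nat_lit 1084), Mv.f (nat_lit 1067), Mv.b (nat_lit 1035), Mv.b (nat_lit 1338), Mv.f (nat_lit 1367), Mv.f (nat_lit 1400)])))))) (Tr.nd (nat_lit 1405) (Tr.nd (nat_lit 1403) (Tr.lf (Fc.ed (nat_lit 1402) (nat_lit 873) Col.a (nat_lit 884) Dv.df)) (Tr.nd (nat_lit 1404) (Tr.lf (Fc.ed (nat_lit 1403) (nat_lit 769) Col.b (nat_lit 885) Dv.df)) (Tr.lf (Fc.ed (nat_lit 1404) (nat_lit 879) Col.b (nat_lit 886) Dv.df)))) (Tr.nd (nat_lit 1407) (Tr.nd (nat_lit 1406) (Tr.lf (Fc.ed (nat_lit 1405) (nat_lit 886) Col.c (nat_lit 885) (Dv.wd (nat_lit 4) [Mv.b (nat_lit 1403), Mv.b (nat_lit 1213), Mv.f (nat_lit 1112), Mv.f (nat_lit 1395), Mv.f (nat_lit 1404)]))) (Tr.lf (Fc.ed (nat_lit 1406) (nat_lit 873) Col.d (nat_lit 887) Dv.df))) (Tr.nd (nat_lit 1408) (Tr.lf (Fc.ed (nat_lit 1407) (nat_lit 829) Col.b (nat_lit 888) Dv.df)) (Tr.lf (Fc.ed (nat_lit 1408) (nat_lit 888) Col.c (nat_lit 868) (Dv.wd (nat_lit 4) [Mv.b (nat_lit 1376), Mv.b (nat_lit 1095), Mv.b (nat_lit 1305), Mv.f (nat_lit 1309), Mv.f (nat_lit 1407)]))))))) (Tr.nd (nat_lit 1416) (Tr.nd (nat_lit 1412) (Tr.nd (nat_lit 1410) (Tr.lf (Fc.ed (nat_lit 1409) (nat_lit 848) Col.b (nat_lit 889) Dv.df)) (Tr.nd (nat_lit 1411) (Tr.lf (Fc.ed (nat_lit 1410) (nat_lit 889) Col.d (nat_lit 880) (Dv.wd (nat_lit 3) [Mv.b (nat_lit 1396), Mv.f (nat_lit 1344), Mv.f (nat_lit 1409)]))) (Tr.lf (Fc.ed (nat_lit 1411) (nat_lit 716) Col.c (nat_lit 890) Dv.df)))) (Tr.nd (nat_lit 1414) (Tr.nd (nat_lit 1413) (Tr.lf (Fc.ed (nat_lit 1412) (nat_lit 890) Col.d (nat_lit 891) Dv.df)) (Tr.lf (Fc.ed (nat_lit 1413) (nat_lit 695) Col.c (nat_lit 892) Dv.df))) (Tr.nd (nat_lit 1415) (Tr.lf (Fc.ed (nat_lit 1414) (nat_lit 842) Col.b (nat_lit 893) Dv.df)) (Tr.lf (Fc.ed (nat_lit 1415) (nat_lit 723) Col.d (nat_lit 894) Dv.df))))) (Tr.nd (nat_lit 1419) (Tr.nd (nat_lit 1417) (Tr.lf (Fc.ed (nat_lit 1416) (nat_lit 894) Col.b (nat_lit 787) (Dv.wd (nat_lit 1) [Mv.b (nat_lit 1242), Mv.f (nat_lit 1141), Mv.f (nat_lit 1415)]))) (Tr.nd (nat_lit 1418) (Tr.lf (Fc.ed (nat_lit 1417) (nat_lit 874) Col.b (nat_lit 895) Dv.df)) (Tr.lf (Fc.ed (nat_lit 1418) (nat_lit 884) Col.d (nat_lit 896) Dv.df)))) (Tr.nd (nat_lit 1421) (Tr.nd (nat_lit 1420) (Tr.lf (Fc.ed (nat_lit 1419) (nat_lit 896) Col.a (nat_lit 887) (Dv.wd (nat_lit 5) [Mv.b (nat_lit 1406), Mv.f (nat_lit 1402), Mv.f (nat_lit 1418)]))) (Tr.lf (Fc.ed (nat_lit 1420) (nat_lit 892) Col.a (nat_lit 897) Dv.df))) (Tr.nd (nat_lit 1422) (Tr.lf (Fc.ed (nat_lit 1421) (nat_lit 897) Col.c (nat_lit 697) (Dv.wd (nat_lit 0) [Mv.b (nat_lit 1096), Mv.f (nat_lit 1413), Mv.f (nat_lit 1420)]))) (Tr.lf (Fc.ed (nat_lit 1422) (nat_lit 863) Col.c (nat_lit 898) Dv.df))))))) (Tr.nd (nat_lit 1437) (Tr.nd (nat_lit 1430) (Tr.nd (nat_lit 1426) (Tr.nd (nat_lit 1424) (Tr.lf (Fc.ed (nat_lit 1423) (nat_lit 898) Col.b (nat_lit 897) (Dv.wd (nat_lit 7) [Mv.f (nat_lit 1421), Mv.f (nat_lit 1097), Mv.b (nat_lit 1339), Mv.f (nat_lit 1367), Mv.f (nat_lit 1422)]))) (Tr.nd (nat_lit 1425) (Tr.lf (Fc.ed (nat_lit 1424) (nat_lit 818) Col.c (nat_lit 899) Dv.df)) (Tr.lf (Fc.ed (nat_lit 1425) (nat_lit 896) Col.c (nat_lit 900) Dv.df)))) (Tr.nd (nat_lit 1428) (Tr.nd (nat_lit 1427) (Tr.lf (Fc.ed (nat_lit 1426) (nat_lit 878) Col.a (nat_lit 901) Dv.df)) (Tr.lf (Fc.ed (nat_lit 1427) (nat_lit 879) Col.d (nat_lit 902) Dv.df))) (Tr.nd (nat_lit 1429) (Tr.lf (Fc.ed (nat_lit 1428) (nat_lit 895) Col.a (nat_lit 903) Dv.df)) (Tr.lf (Fc.ed (nat_lit 1429) (nat_lit 903) Col.b (nat_lit 901) (Dv.wd (nat_lit 8) [Mv.b (nat_lit 1426), Mv.b (nat_lit 1393), Mv.b (nat_lit 1347), Mv.f (nat_lit 1065), Mv.b (nat_lit 836), Mv.b (nat_lit 1119), Mv.b (nat_lit 1386), Mv.f (nat_lit 1417), Mv.f (nat_lit 1428)])))))) (Tr.nd (nat_lit 1433) (Tr.nd (nat_lit 1431) (Tr.lf (Fc.ed (nat_lit 1430) (nat_lit 902) Col.c (nat_lit 904) Dv.df)) (Tr.nd (nat_lit 1432) (Tr.lf (Fc.ed (nat_lit 1431) (nat_lit 900) Col.d (nat_lit 905) Dv.df)) (Tr.lf (Fc.ed (nat_lit 1432) (nat_lit 905) Col.c (nat_lit 906) Dv.df)))) (Tr.nd (nat_lit 1435) (Tr.nd (nat_lit 1434) (Tr.lf (Fc.ed (nat_lit 1433) (nat_lit 906) Col.d (nat_lit 854) (Dv.wd (nat_lit 9) [Mv.b (nat_lit 1352), Mv.f (nat_lit 1140), Mv.f (nat_lit 1384), Mv.f (nat_lit 1406), Mv.b (nat_lit 1419), Mv.f (nat_lit 1425), Mv.f (nat_lit 1431), Mv.f (nat_lit 1432)]))) (Tr.lf (Fc.ed (nat_lit 1434) (nat_lit 889) Col.a (nat_lit 907) Dv.df))) (Tr.nd (nat_lit 1436) (Tr.lf (Fc.ed (nat_lit 1435) (nat_lit 907) Col.d (nat_lit 882) (Dv.wd (nat_lit 2) [Mv.b (nat_lit 1399), Mv.b (nat_lit 1410), Mv.f (nat_lit 1434)]))) (Tr.lf (Fc.ed (nat_lit 1436) (nat_lit 904) Col.d (nat_lit 908) Dv.df)))))) (Tr.nd (nat_lit 1444) (Tr.nd (nat_lit 1440) (Tr.nd (nat_lit 1438) (Tr.lf (Fc.ed (nat_lit 1437) (nat_lit 746) Col.d (nat_lit 909) Dv.df)) (Tr.nd (nat_lit 1439) (Tr.lf (Fc.ed (nat_lit 1438) (nat_lit 908) Col.c (nat_lit 910) Dv.df)) (Tr.lf (Fc.ed (nat_lit 1439) (nat_lit 910) Col.d (nat_lit 897) (Dv.wd (nat_lit 20) [Mv.f (nat_lit 1421), Mv.b (nat_lit 1098), Mv.b (nat_lit 1113), Mv.f (nat_lit 1395), Mv.f (nat_lit 1427), Mv.f (nat_lit 1430), Mv.f (nat_lit 1436), Mv.f (nat_lit 1438)]))))) (Tr.nd (nat_lit 1442) (Tr.nd (nat_lit 1441) (Tr.lf (Fc.ed (nat_lit 1440) (nat_lit 875) Col.a (nat_lit 911) Dv.df)) (Tr.lf (Fc.ed (nat_lit 1441) (nat_lit 911) Col.c (nat_lit 738) (Dv.wd (nat_lit 0) [Mv.f (nat_lit 1164), Mv.f (nat_lit 1387), Mv.f (nat_lit 1440)])))) (Tr.nd (nat_lit 1443) (Tr.lf (Fc.ed (nat_lit 1442) (nat_lit 757) Col.c (nat_lit 912) Dv.df)) (Tr.lf (Fc.ed (nat_lit 1443) (nat_lit 907) Col.b (nat_lit 913) Dv.df))))) (Tr.nd (nat_lit 1447) (Tr.nd (nat_lit 1445) (Tr.lf (Fc.ed (nat_lit 1444) (nat_lit 913) Col.d (nat_lit 883) (Dv.wd (nat_lit 3) [Mv.f (nat_lit 1401), Mv.b (nat_lit 1435), Mv.f (nat_lit 1443)]))) (Tr.nd (nat_lit 1446) (Tr.lf (Fc.ed (nat_lit 1445) (nat_lit 913) Col.a (nat_lit 893) (Dv.wd (nat_lit 13) [Mv.b (nat_lit 1414), Mv.b (nat_lit 1332), Mv.f (nat_lit 1325), Mv.f (nat_lit 1075), Mv.f (nat_lit 1357), Mv.b (nat_lit 1359), Mv.f (nat_lit 1409), Mv.f (nat_lit 1434), Mv.f (nat_lit 1443)]))) (Tr.lf (Fc.ed (nat_lit 1446) (nat_lit 834) Col.d (nat_lit 914) Dv.df)))) (Tr.nd (nat_lit 1449) (Tr.nd (nat_lit 1448) (Tr.lf (Fc.ed (nat_lit 1447) (nat_lit 914) Col.a (nat_lit 894) (Dv.wd (nat_lit 5) [Mv.b (nat_lit 1415), Mv.f (nat_lit 1318), Mv.f (nat_lit 1446)]))) (Tr.lf (Fc.ed (nat_lit 1448) (nat_lit 737) Col.c (nat_lit 915) Dv.df))) (Tr.nd (nat_lit 1450) (Tr.lf (Fc.ed (nat_lit 1449) (nat_lit 915) Col.a (nat_lit 746) (Dv.wd (nat_lit 6) [Mv.f (nat_lit 1177), Mv.f (nat_lit 1162), Mv.f (nat_lit 1448)]))) (Tr.lf (Fc.ed (nat_lit 1450) (nat_lit 915) Col.d (nat_lit 916) Dv.df))))))))) (Tr.nd (nat_lit 1507) (Tr.nd (nat_lit 1479) (Tr.nd (nat_lit 1465) (Tr.nd (nat_lit 1458) (Tr.nd (nat_lit 1454) (Tr.nd (nat_lit 1452) (Tr.lf (Fc.ed (nat_lit 1451) (nat_lit 916) Col.a (nat_lit 909) (Dv.wd (nat_lit 5) [Mv.b (nat_lit 1437), Mv.b (nat_lit 1449), Mv.f (nat_lit 1450)]))) (Tr.nd (nat_lit 1453) (Tr.lf (Fc.ed (nat_lit 1452) (nat_lit 916) Col.c (nat_lit 917) Dv.df)) (Tr.lf (Fc.ed (nat_lit 1453) (nat_lit 917) Col.d (nat_lit 772) (Dv.wd (nat_lit 11) [Mv.f (nat_lit 1219), Mv.f (nat_lit 1202), Mv.b (nat_lit 1156), Mv.b (nat_lit 1159), Mv.b (nat_lit 1177), Mv.f (nat_lit 1437), Mv.b (nat_lit 1451), Mv.f (nat_lit 1452)]))))) (Tr.nd (nat_lit 1456) (Tr.nd (nat_lit 1455) (Tr.lf (Fc.ed (nat_lit 1454) (nat_lit 764) Col.b (nat_lit 917) (Dv.wd (nat_lit 14) [Mv.f (nat_lit 1453), Mv.b (nat_lit 1218), Mv.f (nat_lit 1206)]))) (Tr.lf (Fc.ed (nat_lit 1455) (nat_lit 914) Col.c (nat_lit 918) Dv.df))) (Tr.nd (nat_lit 1457) (Tr.lf (Fc.ed (nat_lit 1456) (nat_lit 756) Col.c (nat_lit 919) Dv.df)) (Tr.lf (Fc.ed (nat_lit 1457) (nat_lit 762) Col.b (nat_lit 920) Dv.df))))) (Tr.nd (nat_lit 1461) (Tr.nd (nat_lit 1459) (Tr.lf (Fc.ed (nat_lit 1458) (nat_lit 730) Col.d (nat_lit 921) Dv.df)) (Tr.nd (nat_lit 1460) (Tr.lf (Fc.ed (nat_lit 1459) (nat_lit 921) Col.b (nat_lit 801) (Dv.wd (nat_lit 1) [Mv.f (nat_lit 1264), Mv.f (nat_lit 1152), Mv.f (nat_lit 1458)]))) (Tr.lf (Fc.ed (nat_lit 1460) (nat_lit 781) Col.a (nat_lit 922) Dv.df)))) (Tr.nd (nat_lit 1463) (Tr.nd (nat_lit 1462) (Tr.lf (Fc.ed (nat_lit 1461) (nat_lit 922) Col.c (nat_lit 752) (Dv.wd (nat_lit 0) [Mv.b (nat_lit 1186), Mv.f (nat_lit 1233), Mv.f (nat_lit 1460)]))) (Tr.lf (Fc.ed (nat_lit 1462) (nat_lit 922) Col.d (nat_lit 923) Dv.df))) (Tr.nd (nat_lit 1464) (Tr.lf (Fc.ed (nat_lit 1463) (nat_lit 894) Col.c (nat_lit 924) Dv.df)) (Tr.lf (Fc.ed (nat_lit 1464) (nat_lit 924) Col.a (nat_lit 918) (Dv.wd (nat_lit 6) [Mv.b (nat_lit 1455), Mv.f (nat_lit 1447), Mv.f (nat_lit 1463)]))))))) (Tr.nd (nat_lit 1472) (Tr.nd (nat_lit 1468) (Tr.nd (nat_lit 1466) (Tr.lf (Fc.ed (nat_lit 1465) (nat_lit 921) Col.c (nat_lit 925) Dv.df)) (Tr.nd (nat_lit 1467) (Tr.lf (Fc.ed (nat_lit 1466) (nat_lit 911) Col.b (nat_lit 926) Dv.df)) (Tr.lf (Fc.ed (nat_lit 1467) (nat_lit 923) Col.c (nat_lit 927) Dv.df)))) (Tr.nd (nat_lit 1470) (Tr.nd (nat_lit 1469) (Tr.lf (Fc.ed (nat_lit 1468) (nat_lit 927) Col.d (nat_lit 925) (Dv.wd (nat_lit 9) [Mv.b (nat_lit 1465), Mv.b (nat_lit 1458), Mv.f (nat_lit 1153), Mv.f (nat_lit 1165), Mv.f (nat_lit 1186), Mv.b (nat_lit 1461), Mv.f (nat_lit 1462), Mv.f (nat_lit 1467)]))) (Tr.lf (Fc.ed (nat_lit 1469) (nat_lit 832) Col.d (nat_lit 928) Dv.df))) (Tr.nd (nat_lit 1471) (Tr.lf (Fc.ed (nat_lit 1470) (nat_lit 867) Col.b (nat_lit 929) Dv.df)) (Tr.lf (Fc.ed (nat_lit 1471) (nat_lit 750) Col.c (nat_lit 930) Dv.df))))) (Tr.nd (nat_lit 1475) (Tr.nd (nat_lit 1473) (Tr.lf (Fc.ed (nat_lit 1472) (nat_lit 930) Col.a (nat_lit 766) (Dv.wd (nat_lit 6) [Mv.b (nat_lit 1209), Mv.f (nat_lit 1183), Mv.f (nat_lit 1471)]))) (Tr.nd (nat_lit 1474) (Tr.lf (Fc.ed (nat_lit 1473) (nat_lit 926) Col.c (nat_lit 931) Dv.df)) (Tr.lf (Fc.ed (nat_lit 1474) (nat_lit 931) Col.b (nat_lit 915) (Dv.wd (nat_lit 7) [Mv.b (nat_lit 1448), Mv.f (nat_lit 1163), Mv.b (nat_lit 1441), Mv.f (nat_lit 1466), Mv.f (nat_lit 1473)]))))) (Tr.nd (nat_lit 1477) (Tr.nd (nat_lit 1476) (Tr.lf (Fc.ed (nat_lit 1475) (nat_lit 855) Col.d (nat_lit 932) Dv.df)) (Tr.lf (Fc.ed (nat_lit 1476) (nat_lit 932) Col.b (nat_lit 906) (Dv.wd (nat_lit 1) [Mv.f (nat_lit 1433), Mv.b (nat_lit 1354), Mv.f (nat_lit 1475)])))) (Tr.nd (nat_lit 1478) (Tr.lf (Fc.ed (nat_lit 1477) (nat_lit 918) Col.d (nat_lit 933) Dv.df)) (Tr.lf (Fc.ed (nat_lit 1478) (nat_lit 928) Col.c (nat_lit 934) Dv.df))))))) (Tr.nd (nat_lit 1493) (Tr.nd (nat_lit 1486) (Tr.nd (nat_lit 1482) (Tr.nd (nat_lit 1480) (Tr.lf (Fc.ed (nat_lit 1479) (nat_lit 934) Col.d (nat_lit 930) (Dv.wd (nat_lit 20) [Mv.b (nat_lit 1471), Mv.b (nat_lit 1228), Mv.b (nat_lit 1227), Mv.f (nat_lit 1224), Mv.f (nat_lit 1294), Mv.b (nat_lit 1315), Mv.f (nat_lit 1469), Mv.f (nat_lit 1478)]))) (Tr.nd (nat_lit 1481) (Tr.lf (Fc.ed (nat_lit 1480) (nat_lit 933) Col.c (nat_lit 935) Dv.df)) (Tr.lf (Fc.ed (nat_lit 1481) (nat_lit 935) Col.d (nat_lit 871) (Dv.wd (nat_lit 9) [Mv.b (nat_lit 1381), Mv.b (nat_lit 1364), Mv.b (nat_lit 1142), Mv.f (nat_lit 1415), Mv.b (nat_lit 1447), Mv.f (nat_lit 1455), Mv.f (nat_lit 1477), Mv.f (nat_lit 1480)]))))) (Tr.nd (nat_lit 1484) (Tr.nd (nat_lit 1483) (Tr.lf (Fc.ed (nat_lit 1482) (nat_lit 859) Col.b (nat_lit 935) (Dv.wd (nat_lit 14) [Mv.f (nat_lit 1481), Mv.f (nat_lit 1382), Mv.b (nat_lit 1361)]))) (Tr.lf (Fc.ed (nat_lit 1483) (nat_lit 932) Col.c (nat_lit 936) Dv.df))) (Tr.nd (nat_lit 1485) (Tr.lf (Fc.ed (nat_lit 1484) (nat_lit 936) Col.d (nat_lit 937) Dv.df)) (Tr.lf (Fc.ed (nat_lit 1485) (nat_lit 766) Col.d (nat_lit 938) Dv.df))))) (Tr.nd (nat_lit 1489) (Tr.nd (nat_lit 1487) (Tr.lf (Fc.ed (nat_lit 1486) (nat_lit 938) Col.a (nat_lit 934) (Dv.wd (nat_lit 5) [Mv.f (nat_lit 1479), Mv.f (nat_lit 1472), Mv.f (nat_lit 1485)]))) (Tr.nd (nat_lit 1488) (Tr.lf (Fc.ed (nat_lit 1487) (nat_lit 938) Col.b (nat_lit 856) (Dv.wd (nat_lit 1) [Mv.b (nat_lit 1355), Mv.f (nat_lit 1216), Mv.f (nat_lit 1485)]))) (Tr.lf (Fc.ed (nat_lit 1488) (nat_lit 924) Col.d (nat_lit 939) Dv.df)))) (Tr.nd (nat_lit 1491) (Tr.nd (nat_lit 1490) (Tr.lf (Fc.ed (nat_lit 1489) (nat_lit 939) Col.a (nat_lit 933) (Dv.wd (nat_lit 5) [Mv.b (nat_lit 1477), Mv.b (nat_lit 1464), Mv.f (nat_lit 1488)]))) (Tr.lf (Fc.ed (nat_lit 1490) (nat_lit 919) Col.d (nat_lit 940) Dv.df))) (Tr.nd (nat_lit 1492) (Tr.lf (Fc.ed (nat_lit 1491) (nat_lit 940) Col.c (nat_lit 937) (Dv.wd (nat_lit 10) [Mv.b (nat_lit 1484), Mv.b (nat_lit 1483), Mv.b (nat_lit 1475), Mv.b (nat_lit 1353), Mv.b (nat_lit 1180), Mv.b (nat_lit 1193), Mv.f (nat_lit 1456), Mv.f (nat_lit 1490)]))) (Tr.lf (Fc.ed (nat_lit 1492) (nat_lit 920) Col.c (nat_lit 941) Dv.df)))))) (Tr.nd (nat_lit 1500) (Tr.nd (nat_lit 1496) (Tr.nd (nat_lit 1494) (Tr.lf (Fc.ed (nat_lit 1493) (nat_lit 941) Col.b (nat_lit 890) (Dv.wd (nat_lit 7) [Mv.b (nat_lit 1411), Mv.b (nat_lit 1128), Mv.f (nat_lit 1203), Mv.f (nat_lit 1457), Mv.f (nat_lit 1492)]))) (Tr.nd (nat_lit 1495) (Tr.lf (Fc.ed (nat_lit 1494) (nat_lit 765) Col.b (nat_lit 942) Dv.df)) (Tr.lf (Fc.ed (nat_lit 1495) (nat_lit 942) Col.d (nat_lit 920) (Dv.wd (nat_lit 3) [Mv.b (nat_lit 1457), Mv.b (nat_lit 1208), Mv.f (nat_lit 1494)]))))) (Tr.nd (nat_lit 1498) (Tr.nd (nat_lit 1497) (Tr.lf (Fc.ed (nat_lit 1496) (nat_lit 875) Col.d (nat_lit 943) Dv.df)) (Tr.lf (Fc.ed (nat_lit 1497) (nat_lit 911) Col.d (nat_lit 944) Dv.df))) (Tr.nd (nat_lit 1499) (Tr.lf (Fc.ed (nat_lit 1498) (nat_lit 929) Col.a (nat_lit 945) Dv.df)) (Tr.lf (Fc.ed (nat_lit 1499) (nat_lit 942) Col.c (nat_lit 946) Dv.df))))) (Tr.nd (nat_lit 1503) (Tr.nd (nat_lit 1501) (Tr.lf (Fc.ed (nat_lit 1500) (nat_lit 946) Col.b (nat_lit 916) (Dv.wd (nat_lit 7) [Mv.f (nat_lit 1452), Mv.b (nat_lit 1454), Mv.f (nat_lit 1207), Mv.f (nat_lit 1494), Mv.f (nat_lit 1499)]))) (Tr.nd (nat_lit 1502) (Tr.lf (Fc.ed (nat_lit 1501) (nat_lit 931) Col.d (nat_lit 946) (Dv.wd (nat_lit 16) [Mv.f (nat_lit 1500), Mv.b (nat_lit 1450), Mv.b (nat_lit 1474)]))) (Tr.lf (Fc.ed (nat_lit 1502) (nat_lit 922) Col.b (nat_lit 947) Dv.df)))) (Tr.nd (nat_lit 1505) (Tr.nd (nat_lit 1504) (Tr.lf (Fc.ed (nat_lit 1503) (nat_lit 774) Col.d (nat_lit 948) Dv.df)) (Tr.lf (Fc.ed (nat_lit 1504) (nat_lit 948) Col.b (nat_lit 797) (Dv.wd (nat_lit 1) [Mv.b (nat_lit 1257), Mv.b (nat_lit 1223), Mv.f (nat_lit 1503)])))) (Tr.nd (nat_lit 1506) (Tr.lf (Fc.ed (nat_lit 1505) (nat_lit 899) Col.d (nat_lit 949) Dv.df)) (Tr.lf (Fc.ed (nat_lit 1506) (nat_lit 912) Col.d (nat_lit 950) Dv.df)))))))) (Tr.nd (nat_lit 1535) (Tr.nd (nat_lit 1521) (Tr.nd (nat_lit 1514) (Tr.nd (nat_lit 1510) (Tr.nd (nat_lit 1508) (Tr.lf (Fc.ed (nat_lit 1507) (nat_lit 920) Col.a (nat_lit 951) Dv.df)) (Tr.nd (nat_lit 1509) (Tr.lf (Fc.ed (nat_lit 1508) (nat_lit 950) Col.c (nat_lit 952) Dv.df)) (Tr.lf (Fc.ed (nat_lit 1509) (nat_lit 952) Col.d (nat_lit 953) Dv.df)))) (Tr.nd (nat_lit 1512) (Tr.nd (nat_lit 1511) (Tr.lf (Fc.ed (nat_lit 1510) (nat_lit 953) Col.c (nat_lit 943) (Dv.wd (nat_lit 12) [Mv.b (nat_lit 1496), Mv.b (nat_lit 1387), Mv.b (nat_lit 1185), Mv.f (nat_lit 1194), Mv.f (nat_lit 1442), Mv.f (nat_lit 1506), Mv.f (nat_lit 1508), Mv.f (nat_lit 1509)]))) (Tr.lf (Fc.ed (nat_lit 1511) (nat_lit 952) Col.a (nat_lit 954) Dv.df))) (Tr.nd (nat_lit 1513) (Tr.lf (Fc.ed (nat_lit 1512) (nat_lit 944) Col.c (nat_lit 955) Dv.df)) (Tr.lf (Fc.ed (nat_lit 1513) (nat_lit 955) Col.d (nat_lit 954) (Dv.wd (nat_lit 25) [Mv.b (nat_lit 1511), Mv.b (nat_lit 1508), Mv.b (nat_lit 1506), Mv.b (nat_lit 1442), Mv.f (nat_lit 1195), Mv.b (nat_lit 1441), Mv.f (nat_lit 1497), Mv.f (nat_lit 1512)])))))) (Tr.nd (nat_lit 1517) (Tr.nd (nat_lit 1515) (Tr.lf (Fc.ed (nat_lit 1514) (nat_lit 954) Col.c (nat_lit 956) Dv.df)) (Tr.nd (nat_lit 1516) (Tr.lf (Fc.ed (nat_lit 1515) (nat_lit 956) Col.d (nat_lit 846) (Dv.wd (nat_lit 11) [Mv.b (nat_lit 1341), Mv.f (nat_lit 1185), Mv.f (nat_lit 1387), Mv.f (nat_lit 1496), Mv.b (nat_lit 1510), Mv.b (nat_lit 1509), Mv.f (nat_lit 1511), Mv.f (nat_lit 1514)]))) (Tr.lf (Fc.ed (nat_lit 1516) (nat_lit 872) Col.b (nat_lit 957) Dv.df)))) (Tr.nd (nat_lit 1519) (Tr.nd (nat_lit 1518) (Tr.lf (Fc.ed (nat_lit 1517) (nat_lit 945) Col.b (nat_lit 958) Dv.df)) (Tr.lf (Fc.ed (nat_lit 1518) (nat_lit 958) Col.a (nat_lit 959) Dv.df))) (Tr.nd (nat_lit 1520) (Tr.lf (Fc.ed (nat_lit 1519) (nat_lit 959) Col.b (nat_lit 951) (Dv.wd (nat_lit 8) [Mv.b (nat_lit 1507), Mv.b (nat_lit 1457), Mv.f (nat_lit 1204), Mv.f (nat_lit 1102), Mv.f (nat_lit 1375), Mv.f (nat_lit 1470), Mv.f (nat_lit 1498), Mv.f (nat_lit 1517), Mv.f (nat_lit 1518)]))) (Tr.lf (Fc.ed (nat_lit 1520) (nat_lit 830) Col.c (nat_lit 960) Dv.df)))))) (Tr.nd (nat_lit 1528) (Tr.nd (nat_lit 1524) (Tr.nd (nat_lit 1522) (Tr.lf (Fc.ed (nat_lit 1521) (nat_lit 960) Col.a (nat_lit 899) (Dv.wd (nat_lit 6) [Mv.b (nat_lit 1424), Mv.b (nat_lit 1311), Mv.f (nat_lit 1520)]))) (Tr.nd (nat_lit 1523) (Tr.lf (Fc.ed (nat_lit 1522) (nat_lit 960) Col.d (nat_lit 961) Dv.df)) (Tr.lf (Fc.ed (nat_lit 1523) (nat_lit 961) Col.a (nat_lit 949) (Dv.wd (nat_lit 5) [Mv.b (nat_lit 1505), Mv.b (nat_lit 1521), Mv.f (nat_lit 1522)]))))) (Tr.nd (nat_lit 1526) (Tr.nd (nat_lit 1525) (Tr.lf (Fc.ed (nat_lit 1524) (nat_lit 961) Col.c (nat_lit 962) Dv.df)) (Tr.lf (Fc.ed (nat_lit 1525) (nat_lit 962) Col.d (nat_lit 963) Dv.df))) (Tr.nd (nat_lit 1527) (Tr.lf (Fc.ed (nat_lit 1526) (nat_lit 963) Col.c (nat_lit 948) (Dv.wd (nat_lit 10) [Mv.b (nat_lit 1503), Mv.b (nat_lit 1222), Mv.b (nat_lit 1293), Mv.f (nat_lit 1424), Mv.f (nat_lit 1505), Mv.b (nat_lit 1523), Mv.f (nat_lit 1524), Mv.f (nat_lit 1525)]))) (Tr.lf (Fc.ed (nat_lit 1527) (nat_lit 947) Col.c (nat_lit 964) Dv.df))))) (Tr.nd (nat_lit 1531) (Tr.nd (nat_lit 1529) (Tr.lf (Fc.ed (nat_lit 1528) (nat_lit 964) Col.b (nat_lit 919) (Dv.wd (nat_lit 7) [Mv.b (nat_lit 1456), Mv.b (nat_lit 1192), Mv.b (nat_lit 1461), Mv.f (nat_lit 1502), Mv.f (nat_lit 1527)]))) (Tr.nd (nat_lit 1530) (Tr.lf (Fc.ed (nat_lit 1529) (nat_lit 864) Col.a (nat_lit 965) Dv.df)) (Tr.lf (Fc.ed (nat_lit 1530) (nat_lit 868) Col.a (nat_lit 966) Dv.df)))) (Tr.nd (nat_lit 1533) (Tr.nd (nat_lit 1532) (Tr.lf (Fc.ed (nat_lit 1531) (nat_lit 966) Col.d (nat_lit 965) (Dv.wd (nat_lit 2) [Mv.b (nat_lit 1529), Mv.b (nat_lit 1377), Mv.f (nat_lit 1530)]))) (Tr.lf (Fc.ed (nat_lit 1532) (nat_lit 881) Col.b (nat_lit 967) Dv.df))) (Tr.nd (nat_lit 1534) (Tr.lf (Fc.ed (nat_lit 1533) (nat_lit 967) Col.d (nat_lit 957) (Dv.wd (nat_lit 3) [Mv.b (nat_lit 1516), Mv.f (nat_lit 1397), Mv.f (nat_lit 1532)]))) (Tr.lf (Fc.ed (nat_lit 1534) (nat_lit 888) Col.a (nat_lit 968) Dv.df))))))) (Tr.nd (nat_lit 1549) (Tr.nd (nat_lit 1542) (Tr.nd (nat_lit 1538) (Tr.nd (nat_lit 1536) (Tr.lf (Fc.ed (nat_lit 1535) (nat_lit 968) Col.c (nat_lit 966) (Dv.wd (nat_lit 0) [Mv.b (nat_lit 1530), Mv.b (nat_lit 1408), Mv.f (nat_lit 1534)]))) (Tr.nd (nat_lit 1537) (Tr.lf (Fc.ed (nat_lit 1536) (nat_lit 885) Col.a (nat_lit 969) Dv.df)) (Tr.lf (Fc.ed (nat_lit 1537) (nat_lit 782) Col.b (nat_lit 970) Dv.df)))) (Tr.nd (nat_lit 1540) (Tr.nd (nat_lit 1539) (Tr.lf (Fc.ed (nat_lit 1538) (nat_lit 833) Col.b (nat_lit 971) Dv.df)) (Tr.lf (Fc.ed (nat_lit 1539) (nat_lit 971) Col.c (nat_lit 970) (Dv.wd (nat_lit 4) [Mv.b (nat_lit 1537), Mv.b (nat_lit 1241), Mv.b (nat_lit 1313), Mv.f (nat_lit 1316), Mv.f (nat_lit 1538)])))) (Tr.nd (nat_lit 1541) (Tr.lf (Fc.ed (nat_lit 1540) (nat_lit 924) Col.b (nat_lit 972) Dv.df)) (Tr.lf (Fc.ed (nat_lit 1541) (nat_lit 836) Col.b (nat_lit 973) Dv.df))))) (Tr.nd (nat_lit 1545) (Tr.nd (nat_lit 1543) (Tr.lf (Fc.ed (nat_lit 1542) (nat_lit 973) Col.d (nat_lit 888) (Dv.wd (nat_lit 3) [Mv.b (nat_lit 1407), Mv.b (nat_lit 1322), Mv.f (nat_lit 1541)]))) (Tr.nd (nat_lit 1544) (Tr.lf (Fc.ed (nat_lit 1543) (nat_lit 788) Col.b (nat_lit 974) Dv.df)) (Tr.lf (Fc.ed (nat_lit 1544) (nat_lit 974) Col.d (nat_lit 970) (Dv.wd (nat_lit 3) [Mv.b (nat_lit 1537), Mv.f (nat_lit 1243), Mv.f (nat_lit 1543)]))))) (Tr.nd (nat_lit 1547) (Tr.nd (nat_lit 1546) (Tr.lf (Fc.ed (nat_lit 1545) (nat_lit 974) Col.c (nat_lit 972) (Dv.wd (nat_lit 4) [Mv.b (nat_lit 1540), Mv.b (nat_lit 1463), Mv.f (nat_lit 1416), Mv.b (nat_lit 1244), Mv.f (nat_lit 1543)]))) (Tr.lf (Fc.ed (nat_lit 1546) (nat_lit 973) Col.a (nat_lit 975) Dv.df))) (Tr.nd (nat_lit 1548) (Tr.lf (Fc.ed (nat_lit 1547) (nat_lit 975) Col.d (nat_lit 968) (Dv.wd (nat_lit 2) [Mv.b (nat_lit 1534), Mv.b (nat_lit 1542), Mv.f (nat_lit 1546)]))) (Tr.lf (Fc.ed (nat_lit 1548) (nat_lit 808) Col.a (nat_lit 976) Dv.df)))))) (Tr.nd (nat_lit 1556) (Tr.nd (nat_lit 1552) (Tr.nd (nat_lit 1550) (Tr.lf (Fc.ed (nat_lit 1549) (nat_lit 798) Col.b (nat_lit 977) Dv.df)) (Tr.nd (nat_lit 1551) (Tr.lf (Fc.ed (nat_lit 1550) (nat_lit 817) Col.c (nat_lit 978) Dv.df)) (Tr.lf (Fc.ed (nat_lit 1551) (nat_lit 978) Col.a (nat_lit 820) (Dv.wd (nat_lit 6) [Mv.b (nat_lit 1296), Mv.f (nat_lit 1291), Mv.f (nat_lit 1550)]))))) (Tr.nd (nat_lit 1554) (Tr.nd (nat_lit 1553) (Tr.lf (Fc.ed (nat_lit 1552) (nat_lit 877) Col.b (nat_lit 979) Dv.df)) (Tr.lf (Fc.ed (nat_lit 1553) (nat_lit 975) Col.b (nat_lit 980) Dv.df))) (Tr.nd (nat_lit 1555) (Tr.lf (Fc.ed (nat_lit 1554) (nat_lit 969) Col.b (nat_lit 981) Dv.df)) (Tr.lf (Fc.ed (nat_lit 1555) (nat_lit 981) Col.a (nat_lit 980) (Dv.wd (nat_lit 13) [Mv.b (nat_lit 1553), Mv.b (nat_lit 1546), Mv.b (nat_lit 1541), Mv.f (nat_lit 1321), Mv.f (nat_lit 1068), Mv.b (nat_lit 1214), Mv.f (nat_lit 1403), Mv.f (nat_lit 1536), Mv.f (nat_lit 1554)])))))) (Tr.nd (nat_lit 1559) (Tr.nd (nat_lit 1557) (Tr.lf (Fc.ed (nat_lit 1556) (nat_lit 977) Col.d (nat_lit 982) Dv.df)) (Tr.nd (nat_lit 1558) (Tr.lf (Fc.ed (nat_lit 1557) (nat_lit 982) Col.b (nat_lit 802) (Dv.wd (nat_lit 1) [Mv.b (nat_lit 1265), Mv.f (nat_lit 1549), Mv.f (nat_lit 1556)]))) (Tr.lf (Fc.ed (nat_lit 1558) (nat_lit 967) Col.c (nat_lit 983) Dv.df)))) (Tr.nd (nat_lit 1561) (Tr.nd (nat_lit 1560) (Tr.lf (Fc.ed (nat_lit 1559) (nat_lit 983) Col.b (nat_lit 806) (Dv.wd (nat_lit 7) [Mv.b (nat_lit 1272), Mv.b (nat_lit 1389), Mv.b (nat_lit 1398), Mv.f (nat_lit 1532), Mv.f (nat_lit 1558)]))) (Tr.lf (Fc.ed (nat_lit 1560) (nat_lit 808) Col.d (nat_lit 984) Dv.df))) (Tr.nd (nat_lit 1562) (Tr.lf (Fc.ed (nat_lit 1561) (nat_lit 984) Col.b (nat_lit 810) (Dv.wd (nat_lit 1) [Mv.b (nat_lit 1279), Mv.f (nat_lit 1275), Mv.f (nat_lit 1560)]))) (Tr.lf (Fc.ed (nat_lit 1562) (nat_lit 820) Col.d (nat_lit 985) Dv.df)))))))))) (Tr.nd (nat_lit 1675) (Tr.nd (nat_lit 1619) (Tr.nd (nat_lit 1591) (Tr.nd (nat_lit 1577) (Tr.nd (nat_lit 1570) (Tr.nd (nat_lit 1566) (Tr.nd (nat_lit 1564) (Tr.lf (Fc.ed (nat_lit 1563) (nat_lit 985) Col.b (nat_lit 928) (Dv.wd (nat_lit 1) [Mv.b (nat_lit 1469), Mv.b (nat_lit 1314), Mv.f (nat_lit 1562)]))) (Tr.nd (nat_lit 1565) (Tr.lf (Fc.ed (nat_lit 1564) (nat_lit 925) Col.b (nat_lit 986) Dv.df)) (Tr.lf (Fc.ed (nat_lit 1565) (nat_lit 986) Col.c (nat_lit 982) (Dv.wd (nat_lit 4) [Mv.f (nat_lit 1557), Mv.f (nat_lit 1266), Mv.b (nat_lit 1459), Mv.f (nat_lit 1465), Mv.f (nat_lit 1564)]))))) (Tr.nd (nat_lit 1568) (Tr.nd (nat_lit 1567) (Tr.lf (Fc.ed (nat_lit 1566) (nat_lit 807) Col.b (nat_lit 987) Dv.df)) (Tr.lf (Fc.ed (nat_lit 1567) (nat_lit 987) Col.d (nat_lit 983) (Dv.wd (nat_lit 3) [Mv.f (nat_lit 1559), Mv.f (nat_lit 1273), Mv.f (nat_lit 1566)])))) (Tr.nd (nat_lit 1569) (Tr.lf (Fc.ed (nat_lit 1568) (nat_lit 978) Col.d (nat_lit 988) Dv.df)) (Tr.lf (Fc.ed (nat_lit 1569) (nat_lit 988) Col.a (nat_lit 985) (Dv.wd (nat_lit 5) [Mv.b (nat_lit 1562), Mv.b (nat_lit 1551), Mv.f (nat_lit 1568)])))))) (Tr.nd (nat_lit 1573) (Tr.nd (nat_lit 1571) (Tr.lf (Fc.ed (nat_lit 1570) (nat_lit 963) Col.b (nat_lit 989) Dv.df)) (Tr.nd (nat_lit 1572) (Tr.lf (Fc.ed (nat_lit 1571) (nat_lit 989) Col.c (nat_lit 977) (Dv.wd (nat_lit 4) [Mv.b (nat_lit 1549), Mv.f (nat_lit 1260), Mv.b (nat_lit 1504), Mv.b (nat_lit 1526), Mv.f (nat_lit 1570)]))) (Tr.lf (Fc.ed (nat_lit 1572) (nat_lit 985) Col.c (nat_lit 990) Dv.df)))) (Tr.nd (nat_lit 1575) (Tr.nd (nat_lit 1574) (Tr.lf (Fc.ed (nat_lit 1573) (nat_lit 976) Col.d (nat_lit 991) Dv.df)) (Tr.lf (Fc.ed (nat_lit 1574) (nat_lit 991) Col.a (nat_lit 984) (Dv.wd (nat_lit 5) [Mv.b (nat_lit 1560), Mv.f (nat_lit 1548), Mv.f (nat_lit 1573)])))) (Tr.nd (nat_lit 1576) (Tr.lf (Fc.ed (nat_lit 1575) (nat_lit 987) Col.c (nat_lit 992) Dv.df)) (Tr.lf (Fc.ed (nat_lit 1576) (nat_lit 992) Col.b (nat_lit 814) (Dv.wd (nat_lit 7) [Mv.b (nat_lit 1285), Mv.f (nat_lit 1278), Mv.b (nat_lit 1274), Mv.f (nat_lit 1566), Mv.f (nat_lit 1575)]))))))) (Tr.nd (nat_lit 1584) (Tr.nd (nat_lit 1580) (Tr.nd (nat_lit 1578) (Tr.lf (Fc.ed (nat_lit 1577) (nat_lit 988) Col.c (nat_lit 993) Dv.df)) (Tr.nd (nat_lit 1579) (Tr.lf (Fc.ed (nat_lit 1578) (nat_lit 993) Col.a (nat_lit 990) (Dv.wd (nat_lit 6) [Mv.b (nat_lit 1572), Mv.b (nat_lit 1569), Mv.f (nat_lit 1577)]))) (Tr.lf (Fc.ed (nat_lit 1579) (nat_lit 991) Col.c (nat_lit 994) Dv.df)))) (Tr.nd (nat_lit 1582) (Tr.nd (nat_lit 1581) (Tr.lf (Fc.ed (nat_lit 1580) (nat_lit 994) Col.d (nat_lit 990) (Dv.wd (nat_lit 11) [Mv.b (nat_lit 1572), Mv.b (nat_lit 1562), Mv.b (nat_lit 1296), Mv.f (nat_lit 1281), Mv.b (nat_lit 1276), Mv.f (nat_lit 1560), Mv.b (nat_lit 1574), Mv.f (nat_lit 1579)]))) (Tr.lf (Fc.ed (nat_lit 1581) (nat_lit 994) Col.a (nat_lit 995) Dv.df))) (Tr.nd (nat_lit 1583) (Tr.lf (Fc.ed (nat_lit 1582) (nat_lit 995) Col.c (nat_lit 984) (Dv.wd (nat_lit 0) [Mv.b (nat_lit 1574), Mv.f (nat_lit 1579), Mv.f (nat_lit 1581)]))) (Tr.lf (Fc.ed (nat_lit 1583) (nat_lit 995) Col.d (nat_lit 993) (Dv.wd (nat_lit 2) [Mv.f (nat_lit 1578), Mv.b (nat_lit 1580), Mv.f (nat_lit 1581)])))))) (Tr.nd (nat_lit 1587) (Tr.nd (nat_lit 1585) (Tr.lf (Fc.ed (nat_lit 1584) (nat_lit 812) Col.b (nat_lit 996) Dv.df)) (Tr.nd (nat_lit 1586) (Tr.lf (Fc.ed (nat_lit 1585) (nat_lit 996) Col.d (nat_lit 992) (Dv.wd (nat_lit 3) [Mv.f (nat_lit 1576), Mv.f (nat_lit 1286), Mv.f (nat_lit 1584)]))) (Tr.lf (Fc.ed (nat_lit 1586) (nat_lit 996) Col.c (nat_lit 997) Dv.df)))) (Tr.nd (nat_lit 1589) (Tr.nd (nat_lit 1588) (Tr.lf (Fc.ed (nat_lit 1587) (nat_lit 997) Col.b (nat_lit 995) (Dv.wd (nat_lit 7) [Mv.f (nat_lit 1582), Mv.f (nat_lit 1561), Mv.f (nat_lit 1282), Mv.f (nat_lit 1584), Mv.f (nat_lit 1586)]))) (Tr.lf (Fc.ed (nat_lit 1588) (nat_lit 893) Col.c (nat_lit 998) Dv.df))) (Tr.nd (nat_lit 1590) (Tr.lf (Fc.ed (nat_lit 1589) (nat_lit 998) Col.b (nat_lit 827) (Dv.wd (nat_lit 7) [Mv.b (nat_lit 1308), Mv.b (nat_lit 1335), Mv.f (nat_lit 1336), Mv.f (nat_lit 1414), Mv.f (nat_lit 1588)]))) (Tr.lf (Fc.ed (nat_lit 1590) (nat_lit 960) Col.b (nat_lit 999) Dv.df))))))) (Tr.nd (nat_lit 1605) (Tr.nd (nat_lit 1598) (Tr.nd (nat_lit 1594) (Tr.nd (nat_lit 1592) (Tr.lf (Fc.ed (nat_lit 1591) (nat_lit 824) Col.b (nat_lit 1000) Dv.df)) (Tr.nd (nat_lit 1593) (Tr.lf (Fc.ed (nat_lit 1592) (nat_lit 1000) Col.d (nat_lit 971) (Dv.wd (nat_lit 3) [Mv.b (nat_lit 1538), Mv.f (nat_lit 1317), Mv.f (nat_lit 1591)]))) (Tr.lf (Fc.ed (nat_lit 1593) (nat_lit 1000) Col.c (nat_lit 999) (Dv.wd (nat_lit 4) [Mv.b (nat_lit 1590), Mv.b (nat_lit 1520), Mv.b (nat_lit 1310), Mv.f (nat_lit 1302), Mv.f (nat_lit 1591)]))))) (Tr.nd (nat_lit 1596) (Tr.nd (nat_lit 1595) (Tr.lf (Fc.ed (nat_lit 1594) (nat_lit 825) Col.b (nat_lit 1001) Dv.df)) (Tr.lf (Fc.ed (nat_lit 1595) (nat_lit 1001) Col.d (nat_lit 998) (Dv.wd (nat_lit 3) [Mv.f (nat_lit 1589), Mv.b (nat_lit 1306), Mv.f (nat_lit 1594)])))) (Tr.nd (nat_lit 1597) (Tr.lf (Fc.ed (nat_lit 1596) (nat_lit 1000) Col.a (nat_lit 1002) Dv.df)) (Tr.lf (Fc.ed (nat_lit 1597) (nat_lit 970) Col.a (nat_lit 1003) Dv.df))))) (Tr.nd (nat_lit 1601) (Tr.nd (nat_lit 1599) (Tr.lf (Fc.ed (nat_lit 1598) (nat_lit 941) Col.a (nat_lit 1004) Dv.df)) (Tr.nd (nat_lit 1600) (Tr.lf (Fc.ed (nat_lit 1599) (nat_lit 1004) Col.c (nat_lit 951) (Dv.wd (nat_lit 0) [Mv.b (nat_lit 1507), Mv.f (nat_lit 1492), Mv.f (nat_lit 1598)]))) (Tr.lf (Fc.ed (nat_lit 1600) (nat_lit 857) Col.a (nat_lit 1005) Dv.df)))) (Tr.nd (nat_lit 1603) (Tr.nd (nat_lit 1602) (Tr.lf (Fc.ed (nat_lit 1601) (nat_lit 1005) Col.c (nat_lit 965) (Dv.wd (nat_lit 0) [Mv.b (nat_lit 1529), Mv.b (nat_lit 1368), Mv.f (nat_lit 1600)]))) (Tr.lf (Fc.ed (nat_lit 1602) (nat_lit 857) Col.d (nat_lit 1006) Dv.df))) (Tr.nd (nat_lit 1604) (Tr.lf (Fc.ed (nat_lit 1603) (nat_lit 1006) Col.b (nat_lit 956) (Dv.wd (nat_lit 1) [Mv.f (nat_lit 1515), Mv.f (nat_lit 1356), Mv.f (nat_lit 1602)]))) (Tr.lf (Fc.ed (nat_lit 1604) (nat_lit 1005) Col.d (nat_lit 1007) Dv.df)))))) (Tr.nd (nat_lit 1612) (Tr.nd (nat_lit 1608) (Tr.nd (nat_lit 1606) (Tr.lf (Fc.ed (nat_lit 1605) (nat_lit 1007) Col.a (nat_lit 1006) (Dv.wd (nat_lit 5) [Mv.b (nat_lit 1602), Mv.f (nat_lit 1600), Mv.f (nat_lit 1604)]))) (Tr.nd (nat_lit 1607) (Tr.lf (Fc.ed (nat_lit 1606) (nat_lit 878) Col.c (nat_lit 1008) Dv.df)) (Tr.lf (Fc.ed (nat_lit 1607) (nat_lit 1006) Col.c (nat_lit 1009) Dv.df)))) (Tr.nd (nat_lit 1610) (Tr.nd (nat_lit 1609) (Tr.lf (Fc.ed (nat_lit 1608) (nat_lit 1009) Col.d (nat_lit 1010) Dv.df)) (Tr.lf (Fc.ed (nat_lit 1609) (nat_lit 1010) Col.c (nat_lit 975) (Dv.wd (nat_lit 10) [Mv.f (nat_lit 1547), Mv.f (nat_lit 1535), Mv.f (nat_lit 1531), Mv.b (nat_lit 1601), Mv.f (nat_lit 1604), Mv.f (nat_lit 1605), Mv.f (nat_lit 1607), Mv.f (nat_lit 1608)])))) (Tr.nd (nat_lit 1611) (Tr.lf (Fc.ed (nat_lit 1610) (nat_lit 998) Col.a (nat_lit 1011) Dv.df)) (Tr.lf (Fc.ed (nat_lit 1611) (nat_lit 1011) Col.c (nat_lit 913) (Dv.wd (nat_lit 0) [Mv.f (nat_lit 1445), Mv.f (nat_lit 1588), Mv.f (nat_lit 1610)])))))) (Tr.nd (nat_lit 1615) (Tr.nd (nat_lit 1613) (Tr.lf (Fc.ed (nat_lit 1612) (nat_lit 933) Col.b (nat_lit 1012) Dv.df)) (Tr.nd (nat_lit 1614) (Tr.lf (Fc.ed (nat_lit 1613) (nat_lit 1012) Col.c (nat_lit 889) (Dv.wd (nat_lit 4) [Mv.b (nat_lit 1409), Mv.f (nat_lit 1360), Mv.f (nat_lit 1482), Mv.b (nat_lit 1480), Mv.f (nat_lit 1612)]))) (Tr.lf (Fc.ed (nat_lit 1614) (nat_lit 934) Col.b (nat_lit 1013) Dv.df)))) (Tr.nd (nat_lit 1617) (Tr.nd (nat_lit 1616) (Tr.lf (Fc.ed (nat_lit 1615) (nat_lit 979) Col.c (nat_lit 1014) Dv.df)) (Tr.lf (Fc.ed (nat_lit 1616) (nat_lit 1014) Col.b (nat_lit 1015) Dv.df))) (Tr.nd (nat_lit 1618) (Tr.lf (Fc.ed (nat_lit 1617) (nat_lit 1015) Col.c (nat_lit 870) (Dv.wd (nat_lit 4) [Mv.b (nat_lit 1380), Mv.b (nat_lit 1392), Mv.f (nat_lit 1552), Mv.f (nat_lit 1615), Mv.f (nat_lit 1616)]))) (Tr.lf (Fc.ed (nat_lit 1618) (nat_lit 1001) Col.a (nat_lit 1016) Dv.df)))))))) (Tr.nd (nat_lit 1647) (Tr.nd (nat_lit 1633) (Tr.nd (nat_lit 1626) (Tr.nd (nat_lit 1622) (Tr.nd (nat_lit 1620) (Tr.lf (Fc.ed (nat_lit 1619) (nat_lit 1016) Col.d (nat_lit 1011) (Dv.wd (nat_lit 2) [Mv.b (nat_lit 1610), Mv.b (nat_lit 1595), Mv.f (nat_lit 1618)]))) (Tr.nd (nat_lit 1621) (Tr.lf (Fc.ed (nat_lit 1620) (nat_lit 1011) Col.b (nat_lit 1017) Dv.df)) (Tr.lf (Fc.ed (nat_lit 1621) (nat_lit 895) Col.c (nat_lit 1018) Dv.df)))) (Tr.nd (nat_lit 1624) (Tr.nd (nat_lit 1623) (Tr.lf (Fc.ed (nat_lit 1622) (nat_lit 1016) Col.c (nat_lit 1019) Dv.df)) (Tr.lf (Fc.ed (nat_lit 1623) (nat_lit 907) Col.c (nat_lit 1020) Dv.df))) (Tr.nd (nat_lit 1625) (Tr.lf (Fc.ed (nat_lit 1624) (nat_lit 1020) Col.a (nat_lit 1012) (Dv.wd (nat_lit 6) [Mv.f (nat_lit 1613), Mv.f (nat_lit 1434), Mv.f (nat_lit 1623)]))) (Tr.lf (Fc.ed (nat_lit 1625) (nat_lit 923) Col.b (nat_lit 1021) Dv.df))))) (Tr.nd (nat_lit 1629) (Tr.nd (nat_lit 1627) (Tr.lf (Fc.ed (nat_lit 1626) (nat_lit 1021) Col.d (nat_lit 947) (Dv.wd (nat_lit 3) [Mv.b (nat_lit 1502), Mv.f (nat_lit 1462), Mv.f (nat_lit 1625)]))) (Tr.nd (nat_lit 1628) (Tr.lf (Fc.ed (nat_lit 1627) (nat_lit 898) Col.d (nat_lit 1022) Dv.df)) (Tr.lf (Fc.ed (nat_lit 1628) (nat_lit 1022) Col.b (nat_lit 910) (Dv.wd (nat_lit 1) [Mv.f (nat_lit 1439), Mv.b (nat_lit 1423), Mv.f (nat_lit 1627)]))))) (Tr.nd (nat_lit 1631) (Tr.nd (nat_lit 1630) (Tr.lf (Fc.ed (nat_lit 1629) (nat_lit 1022) Col.c (nat_lit 1023) Dv.df)) (Tr.lf (Fc.ed (nat_lit 1630) (nat_lit 1023) Col.d (nat_lit 1019) (Dv.wd (nat_lit 9) [Mv.b (nat_lit 1622), Mv.f (nat_lit 1619), Mv.f (nat_lit 1611), Mv.f (nat_lit 1444), Mv.b (nat_lit 1400), Mv.f (nat_lit 1422), Mv.f (nat_lit 1627), Mv.f (nat_lit 1629)])))) (Tr.nd (nat_lit 1632) (Tr.lf (Fc.ed (nat_lit 1631) (nat_lit 1015) Col.a (nat_lit 1024) Dv.df)) (Tr.lf (Fc.ed (nat_lit 1632) (nat_lit 1017) Col.a (nat_lit 1025) Dv.df)))))) (Tr.nd (nat_lit 1640) (Tr.nd (nat_lit 1636) (Tr.nd (nat_lit 1634) (Tr.lf (Fc.ed (nat_lit 1633) (nat_lit 969) Col.c (nat_lit 1026) Dv.df)) (Tr.nd (nat_lit 1635) (Tr.lf (Fc.ed (nat_lit 1634) (nat_lit 1026) Col.a (nat_lit 886) (Dv.wd (nat_lit 6) [Mv.f (nat_lit 1405), Mv.f (nat_lit 1536), Mv.f (nat_lit 1633)]))) (Tr.lf (Fc.ed (nat_lit 1635) (nat_lit 901) Col.c (nat_lit 1027) Dv.df)))) (Tr.nd (nat_lit 1638) (Tr.nd (nat_lit 1637) (Tr.lf (Fc.ed (nat_lit 1636) (nat_lit 1027) Col.a (nat_lit 1008) (Dv.wd (nat_lit 6) [Mv.b (nat_lit 1606), Mv.f (nat_lit 1426), Mv.f (nat_lit 1635)]))) (Tr.lf (Fc.ed (nat_lit 1637) (nat_lit 1024) Col.d (nat_lit 1028) Dv.df))) (Tr.nd (nat_lit 1639) (Tr.lf (Fc.ed (nat_lit 1638) (nat_lit 886) Col.d (nat_lit 1029) Dv.df)) (Tr.lf (Fc.ed (nat_lit 1639) (nat_lit 1029) Col.b (nat_lit 902) (Dv.wd (nat_lit 1) [Mv.b (nat_lit 1427), Mv.f (nat_lit 1404), Mv.f (nat_lit 1638)])))))) (Tr.nd (nat_lit 1643) (Tr.nd (nat_lit 1641) (Tr.lf (Fc.ed (nat_lit 1640) (nat_lit 1018) Col.b (nat_lit 1030) Dv.df)) (Tr.nd (nat_lit 1642) (Tr.lf (Fc.ed (nat_lit 1641) (nat_lit 1030) Col.c (nat_lit 957) (Dv.wd (nat_lit 4) [Mv.b (nat_lit 1516), Mv.f (nat_lit 1385), Mv.f (nat_lit 1417), Mv.f (nat_lit 1621), Mv.f (nat_lit 1640)]))) (Tr.lf (Fc.ed (nat_lit 1642) (nat_lit 1015) Col.d (nat_lit 1031) Dv.df)))) (Tr.nd (nat_lit 1645) (Tr.nd (nat_lit 1644) (Tr.lf (Fc.ed (nat_lit 1643) (nat_lit 1031) Col.a (nat_lit 1028) (Dv.wd (nat_lit 5) [Mv.b (nat_lit 1637), Mv.b (nat_lit 1631), Mv.f (nat_lit 1642)]))) (Tr.lf (Fc.ed (nat_lit 1644) (nat_lit 891) Col.b (nat_lit 1032) Dv.df))) (Tr.nd (nat_lit 1646) (Tr.lf (Fc.ed (nat_lit 1645) (nat_lit 1032) Col.d (nat_lit 941) (Dv.wd (nat_lit 3) [Mv.f (nat_lit 1493), Mv.f (nat_lit 1412), Mv.f (nat_lit 1644)]))) (Tr.lf (Fc.ed (nat_lit 1646) (nat_lit 903) Col.c (nat_lit 1033) Dv.df))))))) (Tr.nd (nat_lit 1661) (Tr.nd (nat_lit 1654) (Tr.nd (nat_lit 1650) (Tr.nd (nat_lit 1648) (Tr.lf (Fc.ed (nat_lit 1647) (nat_lit 1033) Col.a (nat_lit 1018) (Dv.wd (nat_lit 6) [Mv.b (nat_lit 1621), Mv.f (nat_lit 1428), Mv.f (nat_lit 1646)]))) (Tr.nd (nat_lit 1649) (Tr.lf (Fc.ed (nat_lit 1648) (nat_lit 1032) Col.a (nat_lit 1034) Dv.df)) (Tr.lf (Fc.ed (nat_lit 1649) (nat_lit 1034) Col.d (nat_lit 1004) (Dv.wd (nat_lit 2) [Mv.b (nat_lit 1598), Mv.b (nat_lit 1645), Mv.f (nat_lit 1648)]))))) (Tr.nd (nat_lit 1652) (Tr.nd (nat_lit 1651) (Tr.lf (Fc.ed (nat_lit 1650) (nat_lit 1031) Col.c (nat_lit 1035) Dv.df)) (Tr.lf (Fc.ed (nat_lit 1651) (nat_lit 1008) Col.d (nat_lit 1036) Dv.df))) (Tr.nd (nat_lit 1653) (Tr.lf (Fc.ed (nat_lit 1652) (nat_lit 1004) Col.b (nat_lit 1037) Dv.df)) (Tr.lf (Fc.ed (nat_lit 1653) (nat_lit 1035) Col.d (nat_lit 1038) Dv.df))))) (Tr.nd (nat_lit 1657) (Tr.nd (nat_lit 1655) (Tr.lf (Fc.ed (nat_lit 1654) (nat_lit 1026) Col.d (nat_lit 1039) Dv.df)) (Tr.nd (nat_lit 1656) (Tr.lf (Fc.ed (nat_lit 1655) (nat_lit 1039) Col.a (nat_lit 1029) (Dv.wd (nat_lit 5) [Mv.b (nat_lit 1638), Mv.b (nat_lit 1634), Mv.f (nat_lit 1654)]))) (Tr.lf (Fc.ed (nat_lit 1656) (nat_lit 1028) Col.c (nat_lit 1040) Dv.df)))) (Tr.nd (nat_lit 1659) (Tr.nd (nat_lit 1658) (Tr.lf (Fc.ed (nat_lit 1657) (nat_lit 1040) Col.a (nat_lit 1035) (Dv.wd (nat_lit 6) [Mv.b (nat_lit 1650), Mv.f (nat_lit 1643), Mv.f (nat_lit 1656)]))) (Tr.lf (Fc.ed (nat_lit 1658) (nat_lit 1040) Col.d (nat_lit 1041) Dv.df))) (Tr.nd (nat_lit 1660) (Tr.lf (Fc.ed (nat_lit 1659) (nat_lit 1041) Col.a (nat_lit 1038) (Dv.wd (nat_lit 5) [Mv.b (nat_lit 1653), Mv.b (nat_lit 1657), Mv.f (nat_lit 1658)]))) (Tr.lf (Fc.ed (nat_lit 1660) (nat_lit 1041) Col.c (nat_lit 1036) (Dv.wd (nat_lit 10) [Mv.b (nat_lit 1651), Mv.b (nat_lit 1606), Mv.f (nat_lit 1394), Mv.b (nat_lit 1617), Mv.f (nat_lit 1642), Mv.f (nat_lit 1643), Mv.f (nat_lit 1656), Mv.f (nat_lit 1658)]))))))) (Tr.nd (nat_lit 1668) (Tr.nd (nat_lit 1664) (Tr.nd (nat_lit 1662) (Tr.lf (Fc.ed (nat_lit 1661) (nat_lit 1020) Col.d (nat_lit 1042) Dv.df)) (Tr.nd (nat_lit 1663) (Tr.lf (Fc.ed (nat_lit 1662) (nat_lit 1036) Col.a (nat_lit 1043) Dv.df)) (Tr.lf (Fc.ed (nat_lit 1663) (nat_lit 1043) Col.c (nat_lit 1038) (Dv.wd (nat_lit 0) [Mv.b (nat_lit 1659), Mv.f (nat_lit 1660), Mv.f (nat_lit 1662)]))))) (Tr.nd (nat_lit 1666) (Tr.nd (nat_lit 1665) (Tr.lf (Fc.ed (nat_lit 1664) (nat_lit 1043) Col.d (nat_lit 1027) (Dv.wd (nat_lit 2) [Mv.f (nat_lit 1636), Mv.f (nat_lit 1651), Mv.f (nat_lit 1662)]))) (Tr.lf (Fc.ed (nat_lit 1665) (nat_lit 1016) Col.b (nat_lit 1044) Dv.df))) (Tr.nd (nat_lit 1667) (Tr.lf (Fc.ed (nat_lit 1666) (nat_lit 1044) Col.d (nat_lit 1017) (Dv.wd (nat_lit 3) [Mv.b (nat_lit 1620), Mv.b (nat_lit 1619), Mv.f (nat_lit 1665)]))) (Tr.lf (Fc.ed (nat_lit 1667) (nat_lit 1017) Col.c (nat_lit 1045) Dv.df))))) (Tr.nd (nat_lit 1671) (Tr.nd (nat_lit 1669) (Tr.lf (Fc.ed (nat_lit 1668) (nat_lit 1045) Col.b (nat_lit 1020) (Dv.wd (nat_lit 7) [Mv.b (nat_lit 1623), Mv.f (nat_lit 1443), Mv.b (nat_lit 1611), Mv.f (nat_lit 1620), Mv.f (nat_lit 1667)]))) (Tr.nd (nat_lit 1670) (Tr.lf (Fc.ed (nat_lit 1669) (nat_lit 905) Col.b (nat_lit 1046) Dv.df)) (Tr.lf (Fc.ed (nat_lit 1670) (nat_lit 1044) Col.a (nat_lit 1047) Dv.df)))) (Tr.nd (nat_lit 1673) (Tr.nd (nat_lit 1672) (Tr.lf (Fc.ed (nat_lit 1671) (nat_lit 1047) Col.d (nat_lit 1025) (Dv.wd (nat_lit 2) [Mv.b (nat_lit 1632), Mv.b (nat_lit 1666), Mv.f (nat_lit 1670)]))) (Tr.lf (Fc.ed (nat_lit 1672) (nat_lit 1046) Col.c (nat_lit 1048) Dv.df))) (Tr.nd (nat_lit 1674) (Tr.lf (Fc.ed (nat_lit 1673) (nat_lit 1048) Col.b (nat_lit 936) (Dv.wd (nat_lit 7) [Mv.b (nat_lit 1483), Mv.f (nat_lit 1476), Mv.b (nat_lit 1432), Mv.f (nat_lit 1669), Mv.f (nat_lit 1672)]))) (Tr.lf (Fc.ed (nat_lit 1674) (nat_lit 908) Col.b (nat_lit 1049) Dv.df))))))))) (Tr.nd (nat_lit 1731) (Tr.nd (nat_lit 1703) (Tr.nd (nat_lit 1689) (Tr.nd (nat_lit 1682) (Tr.nd (nat_lit 1678) (Tr.nd (nat_lit 1676) (Tr.lf (Fc.ed (nat_lit 1675) (nat_lit 944) Col.b (nat_lit 1050) Dv.df)) (Tr.nd (nat_lit 1677) (Tr.lf (Fc.ed (nat_lit 1676) (nat_lit 1050) Col.d (nat_lit 926) (Dv.wd (nat_lit 3) [Mv.b (nat_lit 1466), Mv.f (nat_lit 1497), Mv.f (nat_lit 1675)]))) (Tr.lf (Fc.ed (nat_lit 1677) (nat_lit 1034) Col.c (nat_lit 1050) (Dv.wd (nat_lit 26) [Mv.f (nat_lit 1676), Mv.f (nat_lit 1473), Mv.f (nat_lit 1501), Mv.b (nat_lit 1499), Mv.f (nat_lit 1495), Mv.f (nat_lit 1492), Mv.b (nat_lit 1645), Mv.f (nat_lit 1648)]))))) (Tr.nd (nat_lit 1680) (Tr.nd (nat_lit 1679) (Tr.lf (Fc.ed (nat_lit 1678) (nat_lit 1033) Col.b (nat_lit 1051) Dv.df)) (Tr.lf (Fc.ed (nat_lit 1679) (nat_lit 1027) Col.b (nat_lit 1052) Dv.df))) (Tr.nd (nat_lit 1681) (Tr.lf (Fc.ed (nat_lit 1680) (nat_lit 1052) Col.c (nat_lit 1051) (Dv.wd (nat_lit 4) [Mv.b (nat_lit 1678), Mv.b (nat_lit 1646), Mv.f (nat_lit 1429), Mv.f (nat_lit 1635), Mv.f (nat_lit 1679)]))) (Tr.lf (Fc.ed (nat_lit 1681) (nat_lit 1023) Col.b (nat_lit 1053) Dv.df))))) (Tr.nd (nat_lit 1685) (Tr.nd (nat_lit 1683) (Tr.lf (Fc.ed (nat_lit 1682) (nat_lit 1053) Col.c (nat_lit 1049) (Dv.wd (nat_lit 4) [Mv.b (nat_lit 1674), Mv.f (nat_lit 1438), Mv.b (nat_lit 1628), Mv.f (nat_lit 1629), Mv.f (nat_lit 1681)]))) (Tr.nd (nat_lit 1684) (Tr.lf (Fc.ed (nat_lit 1683) (nat_lit 971) Col.a (nat_lit 1054) Dv.df)) (Tr.lf (Fc.ed (nat_lit 1684) (nat_lit 1054) Col.c (nat_lit 1003) (Dv.wd (nat_lit 0) [Mv.b (nat_lit 1597), Mv.b (nat_lit 1539), Mv.f (nat_lit 1683)]))))) (Tr.nd (nat_lit 1687) (Tr.nd (nat_lit 1686) (Tr.lf (Fc.ed (nat_lit 1685) (nat_lit 1054) Col.d (nat_lit 1002) (Dv.wd (nat_lit 2) [Mv.b (nat_lit 1596), Mv.f (nat_lit 1592), Mv.f (nat_lit 1683)]))) (Tr.lf (Fc.ed (nat_lit 1686) (nat_lit 1034) Col.b (nat_lit 1055) Dv.df))) (Tr.nd (nat_lit 1688) (Tr.lf (Fc.ed (nat_lit 1687) (nat_lit 1055) Col.d (nat_lit 1037) (Dv.wd (nat_lit 3) [Mv.b (nat_lit 1652), Mv.b (nat_lit 1649), Mv.f (nat_lit 1686)]))) (Tr.lf (Fc.ed (nat_lit 1688) (nat_lit 974) Col.a (nat_lit 1056) Dv.df)))))) (Tr.nd (nat_lit 1696) (Tr.nd (nat_lit 1692) (Tr.nd (nat_lit 1690) (Tr.lf (Fc.ed (nat_lit 1689) (nat_lit 1056) Col.d (nat_lit 1003) (Dv.wd (nat_lit 2) [Mv.b (nat_lit 1597), Mv.b (nat_lit 1544), Mv.f (nat_lit 1688)]))) (Tr.nd (nat_lit 1691) (Tr.lf (Fc.ed (nat_lit 1690) (nat_lit 964) Col.d (nat_lit 1057) Dv.df)) (Tr.lf (Fc.ed (nat_lit 1691) (nat_lit 1057) Col.b (nat_lit 940) (Dv.wd (nat_lit 1) [Mv.b (nat_lit 1490), Mv.b (nat_lit 1528), Mv.f (nat_lit 1690)]))))) (Tr.nd (nat_lit 1694) (Tr.nd (nat_lit 1693) (Tr.lf (Fc.ed (nat_lit 1692) (nat_lit 1021) Col.c (nat_lit 1058) Dv.df)) (Tr.lf (Fc.ed (nat_lit 1693) (nat_lit 972) Col.d (nat_lit 1059) Dv.df))) (Tr.nd (nat_lit 1695) (Tr.lf (Fc.ed (nat_lit 1694) (nat_lit 1059) Col.b (nat_lit 939) (Dv.wd (nat_lit 1) [Mv.b (nat_lit 1488), Mv.f (nat_lit 1540), Mv.f (nat_lit 1693)]))) (Tr.lf (Fc.ed (nat_lit 1695) (nat_lit 1058) Col.b (nat_lit 1060) Dv.df))))) (Tr.nd (nat_lit 1699) (Tr.nd (nat_lit 1697) (Tr.lf (Fc.ed (nat_lit 1696) (nat_lit 1060) Col.c (nat_lit 1061) Dv.df)) (Tr.nd (nat_lit 1698) (Tr.lf (Fc.ed (nat_lit 1697) (nat_lit 1061) Col.b (nat_lit 927) (Dv.wd (nat_lit 7) [Mv.b (nat_lit 1467), Mv.f (nat_lit 1625), Mv.f (nat_lit 1692), Mv.f (nat_lit 1695), Mv.f (nat_lit 1696)]))) (Tr.lf (Fc.ed (nat_lit 1698) (nat_lit 986) Col.d (nat_lit 1061) (Dv.wd (nat_lit 16) [Mv.f (nat_lit 1697), Mv.f (nat_lit 1468), Mv.f (nat_lit 1564)]))))) (Tr.nd (nat_lit 1701) (Tr.nd (nat_lit 1700) (Tr.lf (Fc.ed (nat_lit 1699) (nat_lit 1014) Col.d (nat_lit 1062) Dv.df)) (Tr.lf (Fc.ed (nat_lit 1700) (nat_lit 1062) Col.b (nat_lit 1031) (Dv.wd (nat_lit 1) [Mv.b (nat_lit 1642), Mv.b (nat_lit 1616), Mv.f (nat_lit 1699)])))) (Tr.nd (nat_lit 1702) (Tr.lf (Fc.ed (nat_lit 1701) (nat_lit 1042) Col.b (nat_lit 1063) Dv.df)) (Tr.lf (Fc.ed (nat_lit 1702) (nat_lit 1063) Col.d (nat_lit 1045) (Dv.wd (nat_lit 3) [Mv.f (nat_lit 1668), Mv.f (nat_lit 1661), Mv.f (nat_lit 1701)])))))))) (Tr.nd (nat_lit 1717) (Tr.nd (nat_lit 1710) (Tr.nd (nat_lit 1706) (Tr.nd (nat_lit 1704) (Tr.lf (Fc.ed (nat_lit 1703) (nat_lit 990) Col.b (nat_lit 1064) Dv.df)) (Tr.nd (nat_lit 1705) (Tr.lf (Fc.ed (nat_lit 1704) (nat_lit 1064) Col.c (nat_lit 1013) (Dv.wd (nat_lit 4) [Mv.b (nat_lit 1614), Mv.b (nat_lit 1478), Mv.b (nat_lit 1563), Mv.f (nat_lit 1572), Mv.f (nat_lit 1703)]))) (Tr.lf (Fc.ed (nat_lit 1705) (nat_lit 1063) Col.a (nat_lit 1065) Dv.df)))) (Tr.nd (nat_lit 1708) (Tr.nd (nat_lit 1707) (Tr.lf (Fc.ed (nat_lit 1706) (nat_lit 1065) Col.b (nat_lit 1066) Dv.df)) (Tr.lf (Fc.ed (nat_lit 1707) (nat_lit 972) Col.a (nat_lit 1067) Dv.df))) (Tr.nd (nat_lit 1709) (Tr.lf (Fc.ed (nat_lit 1708) (nat_lit 1067) Col.c (nat_lit 1056) (Dv.wd (nat_lit 0) [Mv.b (nat_lit 1688), Mv.f (nat_lit 1545), Mv.f (nat_lit 1707)]))) (Tr.lf (Fc.ed (nat_lit 1709) (nat_lit 1045) Col.a (nat_lit 1068) Dv.df))))) (Tr.nd (nat_lit 1713) (Tr.nd (nat_lit 1711) (Tr.lf (Fc.ed (nat_lit 1710) (nat_lit 1068) Col.c (nat_lit 1025) (Dv.wd (nat_lit 0) [Mv.b (nat_lit 1632), Mv.f (nat_lit 1667), Mv.f (nat_lit 1709)]))) (Tr.nd (nat_lit 1712) (Tr.lf (Fc.ed (nat_lit 1711) (nat_lit 1068) Col.d (nat_lit 1065) (Dv.wd (nat_lit 2) [Mv.b (nat_lit 1705), Mv.f (nat_lit 1702), Mv.f (nat_lit 1709)]))) (Tr.lf (Fc.ed (nat_lit 1712) (nat_lit 937) Col.b (nat_lit 1069) Dv.df)))) (Tr.nd (nat_lit 1715) (Tr.nd (nat_lit 1714) (Tr.lf (Fc.ed (nat_lit 1713) (nat_lit 1069) Col.d (nat_lit 1048) (Dv.wd (nat_lit 3) [Mv.f (nat_lit 1673), Mv.f (nat_lit 1484), Mv.f (nat_lit 1712)]))) (Tr.lf (Fc.ed (nat_lit 1714) (nat_lit 1059) Col.a (nat_lit 1070) Dv.df))) (Tr.nd (nat_lit 1716) (Tr.lf (Fc.ed (nat_lit 1715) (nat_lit 1070) Col.d (nat_lit 1067) (Dv.wd (nat_lit 2) [Mv.b (nat_lit 1707), Mv.f (nat_lit 1693), Mv.f (nat_lit 1714)]))) (Tr.lf (Fc.ed (nat_lit 1716) (nat_lit 1070) Col.b (nat_lit 1071) Dv.df)))))) (Tr.nd (nat_lit 1724) (Tr.nd (nat_lit 1720) (Tr.nd (nat_lit 1718) (Tr.lf (Fc.ed (nat_lit 1717) (nat_lit 1069) Col.c (nat_lit 1072) Dv.df)) (Tr.nd (nat_lit 1719) (Tr.lf (Fc.ed (nat_lit 1718) (nat_lit 1072) Col.b (nat_lit 1073) Dv.df)) (Tr.lf (Fc.ed (nat_lit 1719) (nat_lit 1073) Col.c (nat_lit 1057) (Dv.wd (nat_lit 4) [Mv.f (nat_lit 1691), Mv.f (nat_lit 1491), Mv.f (nat_lit 1712), Mv.f (nat_lit 1717), Mv.f (nat_lit 1718)]))))) (Tr.nd (nat_lit 1722) (Tr.nd (nat_lit 1721) (Tr.lf (Fc.ed (nat_lit 1720) (nat_lit 1068) Col.b (nat_lit 1074) Dv.df)) (Tr.lf (Fc.ed (nat_lit 1721) (nat_lit 1074) Col.d (nat_lit 1066) (Dv.wd (nat_lit 3) [Mv.b (nat_lit 1706), Mv.b (nat_lit 1711), Mv.f (nat_lit 1720)])))) (Tr.nd (nat_lit 1723) (Tr.lf (Fc.ed (nat_lit 1722) (nat_lit 1074) Col.a (nat_lit 1071) (Dv.wd (nat_lit 13) [Mv.b (nat_lit 1716), Mv.b (nat_lit 1714), Mv.f (nat_lit 1694), Mv.f (nat_lit 1489), Mv.f (nat_lit 1612), Mv.b (nat_lit 1624), Mv.b (nat_lit 1668), Mv.f (nat_lit 1709), Mv.f (nat_lit 1720)]))) (Tr.lf (Fc.ed (nat_lit 1723) (nat_lit 1055) Col.c (nat_lit 1075) Dv.df))))) (Tr.nd (nat_lit 1727) (Tr.nd (nat_lit 1725) (Tr.lf (Fc.ed (nat_lit 1724) (nat_lit 1075) Col.b (nat_lit 955) (Dv.wd (nat_lit 7) [Mv.b (nat_lit 1512), Mv.f (nat_lit 1675), Mv.b (nat_lit 1677), Mv.f (nat_lit 1686), Mv.f (nat_lit 1723)]))) (Tr.nd (nat_lit 1726) (Tr.lf (Fc.ed (nat_lit 1725) (nat_lit 1009) Col.b (nat_lit 1076) Dv.df)) (Tr.lf (Fc.ed (nat_lit 1726) (nat_lit 954) Col.b (nat_lit 1077) Dv.df)))) (Tr.nd (nat_lit 1729) (Tr.nd (nat_lit 1728) (Tr.lf (Fc.ed (nat_lit 1727) (nat_lit 1077) Col.d (nat_lit 1075) (Dv.wd (nat_lit 3) [Mv.f (nat_lit 1724), Mv.f (nat_lit 1513), Mv.f (nat_lit 1726)]))) (Tr.lf (Fc.ed (nat_lit 1728) (nat_lit 1077) Col.c (nat_lit 1076) (Dv.wd (nat_lit 4) [Mv.b (nat_lit 1725), Mv.b (nat_lit 1607), Mv.f (nat_lit 1603), Mv.b (nat_lit 1514), Mv.f (nat_lit 1726)])))) (Tr.nd (nat_lit 1730) (Tr.lf (Fc.ed (nat_lit 1729) (nat_lit 1030) Col.a (nat_lit 1078) Dv.df)) (Tr.lf (Fc.ed (nat_lit 1730) (nat_lit 1078) Col.d (nat_lit 997) (Dv.wd (nat_lit 23) [Mv.b (nat_lit 1586), Mv.f (nat_lit 1585), Mv.b (nat_lit 1575), Mv.f (nat_lit 1567), Mv.b (nat_lit 1558), Mv.f (nat_lit 1533), Mv.b (nat_lit 1641), Mv.f (nat_lit 1729)]))))))))) (Tr.nd (nat_lit 1759) (Tr.nd (nat_lit 1745) (Tr.nd (nat_lit 1738) (Tr.nd (nat_lit 1734) (Tr.nd (nat_lit 1732) (Tr.lf (Fc.ed (nat_lit 1731) (nat_lit 993) Col.b (nat_lit 1078) (Dv.wd (nat_lit 14) [Mv.f (nat_lit 1730), Mv.f (nat_lit 1587), Mv.f (nat_lit 1583)]))) (Tr.nd (nat_lit 1733) (Tr.lf (Fc.ed (nat_lit 1732) (nat_lit 962) Col.b (nat_lit 1079) Dv.df)) (Tr.lf (Fc.ed (nat_lit 1733) (nat_lit 1079) Col.d (nat_lit 989) (Dv.wd (nat_lit 3) [Mv.b (nat_lit 1570), Mv.b (nat_lit 1525), Mv.f (nat_lit 1732)]))))) (Tr.nd (nat_lit 1736) (Tr.nd (nat_lit 1735) (Tr.lf (Fc.ed (nat_lit 1734) (nat_lit 999) Col.d (nat_lit 1080) Dv.df)) (Tr.lf (Fc.ed (nat_lit 1735) (nat_lit 1080) Col.b (nat_lit 961) (Dv.wd (nat_lit 1) [Mv.b (nat_lit 1522), Mv.f (nat_lit 1590), Mv.f (nat_lit 1734)])))) (Tr.nd (nat_lit 1737) (Tr.lf (Fc.ed (nat_lit 1736) (nat_lit 1080) Col.c (nat_lit 1070) (Dv.wd (nat_lit 10) [Mv.f (nat_lit 1715), Mv.f (nat_lit 1708), Mv.f (nat_lit 1689), Mv.b (nat_lit 1684), Mv.f (nat_lit 1685), Mv.b (nat_lit 1596), Mv.f (nat_lit 1593), Mv.f (nat_lit 1734)]))) (Tr.lf (Fc.ed (nat_lit 1737) (nat_lit 1071) Col.c (nat_lit 1079) (Dv.wd (nat_lit 4) [Mv.b (nat_lit 1732), Mv.b (nat_lit 1524), Mv.b (nat_lit 1735), Mv.f (nat_lit 1736), Mv.f (nat_lit 1716)])))))) (Tr.nd (nat_lit 1741) (Tr.nd (nat_lit 1739) (Tr.lf (Fc.al (nat_lit 1738) (nat_lit 1060) (nat_lit 1066) (Dv.wd (nat_lit 25) [Mv.b (nat_lit 1721), Mv.f (nat_lit 1722), Mv.f (nat_lit 1737), Mv.f (nat_lit 1733), Mv.f (nat_lit 1571), Mv.f (nat_lit 1556), Mv.b (nat_lit 1565), Mv.f (nat_lit 1698), Mv.b (nat_lit 1696)]))) (Tr.nd (nat_lit 1740) (Tr.lf (Fc.al (nat_lit 1739) (nat_lit 1058) (nat_lit 1065) (Dv.wd (nat_lit 27) [Mv.f (nat_lit 1706), Mv.b (nat_lit 1738), Mv.b (nat_lit 1695)]))) (Tr.lf (Fc.ed (nat_lit 1740) (nat_lit 1058) Col.d (nat_lit 1068) (Dv.wd (nat_lit 28) [Mv.f (nat_lit 1711), Mv.b (nat_lit 1739)]))))) (Tr.nd (nat_lit 1743) (Tr.nd (nat_lit 1742) (Tr.lf (Fc.al (nat_lit 1741) (nat_lit 1044) (nat_lit 1073) (Dv.wd (nat_lit 26) [Mv.f (nat_lit 1719), Mv.b (nat_lit 1690), Mv.b (nat_lit 1527), Mv.b (nat_lit 1626), Mv.f (nat_lit 1692), Mv.f (nat_lit 1740), Mv.f (nat_lit 1710), Mv.b (nat_lit 1671), Mv.b (nat_lit 1670)]))) (Tr.lf (Fc.al (nat_lit 1742) (nat_lit 1016) (nat_lit 1072) (Dv.wd (nat_lit 27) [Mv.f (nat_lit 1718), Mv.b (nat_lit 1741), Mv.b (nat_lit 1665)])))) (Tr.nd (nat_lit 1744) (Tr.lf (Fc.al (nat_lit 1743) (nat_lit 1019) (nat_lit 1069) (Dv.wd (nat_lit 29) [Mv.f (nat_lit 1717), Mv.b (nat_lit 1742), Mv.f (nat_lit 1622)]))) (Tr.lf (Fc.al (nat_lit 1744) (nat_lit 1023) (nat_lit 1048) (Dv.wd (nat_lit 28) [Mv.b (nat_lit 1713), Mv.b (nat_lit 1743), Mv.b (nat_lit 1630)]))))))) (Tr.nd (nat_lit 1752) (Tr.nd (nat_lit 1748) (Tr.nd (nat_lit 1746) (Tr.lf (Fc.al (nat_lit 1745) (nat_lit 1053) (nat_lit 936) (Dv.wd (nat_lit 27) [Mv.b (nat_lit 1673), Mv.b (nat_lit 1744), Mv.f (nat_lit 1681)]))) (Tr.nd (nat_lit 1747) (Tr.lf (Fc.al (nat_lit 1746) (nat_lit 932) (nat_lit 1049) (Dv.wd (nat_lit 29) [Mv.b (nat_lit 1682), Mv.f (nat_lit 1745), Mv.b (nat_lit 1483)]))) (Tr.lf (Fc.al (nat_lit 1747) (nat_lit 906) (nat_lit 908) (Dv.wd (nat_lit 27) [Mv.f (nat_lit 1674), Mv.b (nat_lit 1746), Mv.f (nat_lit 1476)]))))) (Tr.nd (nat_lit 1750) (Tr.nd (nat_lit 1749) (Tr.lf (Fc.al (nat_lit 1748) (nat_lit 854) (nat_lit 904) (Dv.wd (nat_lit 28) [Mv.f (nat_lit 1436), Mv.b (nat_lit 1747), Mv.f (nat_lit 1433)]))) (Tr.lf (Fc.al (nat_lit 1749) (nat_lit 722) (nat_lit 902) (Dv.wd (nat_lit 29) [Mv.f (nat_lit 1430), Mv.b (nat_lit 1748), Mv.b (nat_lit 1352)])))) (Tr.nd (nat_lit 1751) (Tr.lf (Fc.al (nat_lit 1750) (nat_lit 665) (nat_lit 1029) (Dv.wd (nat_lit 27) [Mv.f (nat_lit 1639), Mv.b (nat_lit 1749), Mv.b (nat_lit 1139)]))) (Tr.lf (Fc.al (nat_lit 1751) (nat_lit 477) (nat_lit 1039) (Dv.wd (nat_lit 30) [Mv.f (nat_lit 1655), Mv.b (nat_lit 1750), Mv.b (nat_lit 1050)])))))) (Tr.nd (nat_lit 1755) (Tr.nd (nat_lit 1753) (Tr.lf (Fc.al (nat_lit 1752) (nat_lit 632) (nat_lit 1026) (Dv.wd (nat_lit 28) [Mv.f (nat_lit 1654), Mv.b (nat_lit 1751), Mv.f (nat_lit 997)]))) (Tr.nd (nat_lit 1754) (Tr.lf (Fc.al (nat_lit 1753) (nat_lit 706) (nat_lit 969) (Dv.wd (nat_lit 29) [Mv.f (nat_lit 1633), Mv.b (nat_lit 1752), Mv.f (nat_lit 1111)]))) (Tr.lf (Fc.al (nat_lit 1754) (nat_lit 710) (nat_lit 981) (Dv.wd (nat_lit 27) [Mv.b (nat_lit 1554), Mv.b (nat_lit 1753), Mv.f (nat_lit 1116)]))))) (Tr.nd (nat_lit 1757) (Tr.nd (nat_lit 1756) (Tr.lf (Fc.al (nat_lit 1755) (nat_lit 877) (nat_lit 980) (Dv.wd (nat_lit 30) [Mv.b (nat_lit 1555), Mv.b (nat_lit 1754), Mv.b (nat_lit 1391)]))) (Tr.lf (Fc.al (nat_lit 1756) (nat_lit 979) (nat_lit 975) (Dv.wd (nat_lit 27) [Mv.f (nat_lit 1553), Mv.b (nat_lit 1755), Mv.f (nat_lit 1552)])))) (Tr.nd (nat_lit 1758) (Tr.lf (Fc.al (nat_lit 1757) (nat_lit 1010) (nat_lit 1014) (Dv.wd (nat_lit 29) [Mv.b (nat_lit 1615), Mv.f (nat_lit 1756), Mv.b (nat_lit 1609)]))) (Tr.lf (Fc.al (nat_lit 1758) (nat_lit 1009) (nat_lit 1062) (Dv.wd (nat_lit 28) [Mv.b (nat_lit 1699), Mv.b (nat_lit 1757), Mv.b (nat_lit 1608)])))))))) (Tr.nd (nat_lit 1773) (Tr.nd (nat_lit 1766) (Tr.nd (nat_lit 1762) (Tr.nd (nat_lit 1760) (Tr.lf (Fc.al (nat_lit 1759) (nat_lit 1076) (nat_lit 1031) (Dv.wd (nat_lit 27) [Mv.b (nat_lit 1700), Mv.b (nat_lit 1758), Mv.f (nat_lit 1725)]))) (Tr.nd (nat_lit 1761) (Tr.lf (Fc.al (nat_lit 1760) (nat_lit 1035) (nat_lit 1077) (Dv.wd (nat_lit 29) [Mv.f (nat_lit 1728), Mv.f (nat_lit 1759), Mv.f (nat_lit 1650)]))) (Tr.lf (Fc.al (nat_lit 1761) (nat_lit 1038) (nat_lit 1075) (Dv.wd (nat_lit 28) [Mv.b (nat_lit 1727), Mv.b (nat_lit 1760), Mv.f (nat_lit 1653)]))))) (Tr.nd (nat_lit 1764) (Tr.nd (nat_lit 1763) (Tr.lf (Fc.al (nat_lit 1762) (nat_lit 1043) (nat_lit 1055) (Dv.wd (nat_lit 29) [Mv.f (nat_lit 1723), Mv.b (nat_lit 1761), Mv.b (nat_lit 1663)]))) (Tr.lf (Fc.al (nat_lit 1763) (nat_lit 1027) (nat_lit 1037) (Dv.wd (nat_lit 28) [Mv.b (nat_lit 1687), Mv.b (nat_lit 1762), Mv.f (nat_lit 1664)])))) (Tr.nd (nat_lit 1765) (Tr.lf (Fc.al (nat_lit 1764) (nat_lit 1052) (nat_lit 1004) (Dv.wd (nat_lit 27) [Mv.f (nat_lit 1652), Mv.b (nat_lit 1763), Mv.f (nat_lit 1679)]))) (Tr.lf (Fc.al (nat_lit 1765) (nat_lit 951) (nat_lit 1051) (Dv.wd (nat_lit 29) [Mv.b (nat_lit 1680), Mv.f (nat_lit 1764), Mv.f (nat_lit 1599)])))))) (Tr.nd (nat_lit 1769) (Tr.nd (nat_lit 1767) (Tr.lf (Fc.al (nat_lit 1766) (nat_lit 959) (nat_lit 1033) (Dv.wd (nat_lit 27) [Mv.f (nat_lit 1678), Mv.b (nat_lit 1765), Mv.b (nat_lit 1519)]))) (Tr.nd (nat_lit 1768) (Tr.lf (Fc.al (nat_lit 1767) (nat_lit 958) (nat_lit 1018) (Dv.wd (nat_lit 30) [Mv.b (nat_lit 1647), Mv.b (nat_lit 1766), Mv.b (nat_lit 1518)]))) (Tr.lf (Fc.al (nat_lit 1768) (nat_lit 945) (nat_lit 1030) (Dv.wd (nat_lit 27) [Mv.b (nat_lit 1640), Mv.b (nat_lit 1767), Mv.b (nat_lit 1517)]))))) (Tr.nd (nat_lit 1771) (Tr.nd (nat_lit 1770) (Tr.lf (Fc.al (nat_lit 1769) (nat_lit 929) (nat_lit 1078) (Dv.wd (nat_lit 30) [Mv.b (nat_lit 1729), Mv.b (nat_lit 1768), Mv.b (nat_lit 1498)]))) (Tr.lf (Fc.al (nat_lit 1770) (nat_lit 867) (nat_lit 993) (Dv.wd (nat_lit 27) [Mv.f (nat_lit 1731), Mv.b (nat_lit 1769), Mv.b (nat_lit 1470)])))) (Tr.nd (nat_lit 1772) (Tr.lf (Fc.al (nat_lit 1771) (nat_lit 700) (nat_lit 990) (Dv.wd (nat_lit 30) [Mv.b (nat_lit 1578), Mv.b (nat_lit 1770), Mv.b (nat_lit 1375)]))) (Tr.lf (Fc.al (nat_lit 1772) (nat_lit 684) (nat_lit 1064) (Dv.wd (nat_lit 27) [Mv.b (nat_lit 1703), Mv.b (nat_lit 1771), Mv.b (nat_lit 1102)]))))))) (Tr.nd (nat_lit 1780) (Tr.nd (nat_lit 1776) (Tr.nd (nat_lit 1774) (Tr.lf (Fc.al (nat_lit 1773) (nat_lit 636) (nat_lit 1013) (Dv.wd (nat_lit 29) [Mv.b (nat_lit 1704), Mv.b (nat_lit 1772), Mv.b (nat_lit 1077)]))) (Tr.nd (nat_lit 1775) (Tr.lf (Fc.al (nat_lit 1774) (nat_lit 519) (nat_lit 934) (Dv.wd (nat_lit 27) [Mv.f (nat_lit 1614), Mv.b (nat_lit 1773), Mv.b (nat_lit 1002)]))) (Tr.lf (Fc.al (nat_lit 1775) (nat_lit 512) (nat_lit 938) (Dv.wd (nat_lit 30) [Mv.f (nat_lit 1486), Mv.b (nat_lit 1774), Mv.f (nat_lit 812)]))))) (Tr.nd (nat_lit 1778) (Tr.nd (nat_lit 1777) (Tr.lf (Fc.al (nat_lit 1776) (nat_lit 506) (nat_lit 856) (Dv.wd (nat_lit 27) [Mv.b (nat_lit 1487), Mv.b (nat_lit 1775), Mv.f (nat_lit 801)]))) (Tr.lf (Fc.al (nat_lit 1777) (nat_lit 359) (nat_lit 770) (Dv.wd (nat_lit 28) [Mv.f (nat_lit 1355), Mv.b (nat_lit 1776), Mv.b (nat_lit 791)])))) (Tr.nd (nat_lit 1779) (Tr.lf (Fc.al (nat_lit 1778) (nat_lit 325) (nat_lit 663) (Dv.wd (nat_lit 29) [Mv.f (nat_lit 1215), Mv.b (nat_lit 1777), Mv.b (nat_lit 563)]))) (Tr.lf (Fc.al (nat_lit 1779) (nat_lit 193) (nat_lit 527) (Dv.wd (nat_lit 27) [Mv.f (nat_lit 1048), Mv.b (nat_lit 1778), Mv.b (nat_lit 510)])))))) (Tr.nd (nat_lit 1783) (Tr.nd (nat_lit 1781) (Tr.lf (Fc.al (nat_lit 1780) (nat_lit 138) (nat_lit 376) (Dv.wd (nat_lit 30) [Mv.f (nat_lit 824), Mv.b (nat_lit 1779), Mv.b (nat_lit 297)]))) (Tr.nd (nat_lit 1782) (Tr.lf (Fc.al (nat_lit 1781) (nat_lit 69) (nat_lit 234) (Dv.wd (nat_lit 27) [Mv.b (nat_lit 589), Mv.b (nat_lit 1780), Mv.b (nat_lit 209)]))) (Tr.lf (Fc.al (nat_lit 1782) (nat_lit 76) (nat_lit 233) (Dv.wd (nat_lit 30) [Mv.f (nat_lit 363), Mv.b (nat_lit 1781), Mv.b (nat_lit 117)]))))) (Tr.nd (nat_lit 1785) (Tr.nd (nat_lit 1784) (Tr.lf (Fc.al (nat_lit 1783) (nat_lit 23) (nat_lit 143) (Dv.wd (nat_lit 29) [Mv.f (nat_lit 362), Mv.b (nat_lit 1782), Mv.b (nat_lit 116)]))) (Tr.lf (Fc.al (nat_lit 1784) (nat_lit 0) (nat_lit 15) (Dv.wd (nat_lit 28) [Mv.f (nat_lit 217), Mv.b (nat_lit 1783), Mv.f (nat_lit 29)])))) (Tr.nd (nat_lit 1786) (Tr.lf (Fc.al (nat_lit 1785) (nat_lit 190) (nat_lit 14) (Dv.wd (nat_lit 29) [Mv.f (nat_lit 14), Mv.b (nat_lit 1784), Mv.b (nat_lit 294)]))) (Tr.lf (Fc.ed (nat_lit 1786) (nat_lit 14) Col.c (nat_lit 0) (Dv.wd (nat_lit 29) [Mv.b (nat_lit 294), Mv.f (nat_lit 1785)]))))))))))))))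
noncomputable def mini0A : Tr (Alt Col) := (Tr.nd (nat_lit 15) (Tr.nd (nat_lit 7) (Tr.nd (nat_lit 3) (Tr.nd (nat_lit 1) (Tr.lf (Alt.word (nat_lit 2) (nat_lit 2) true [Col.c, Col.a, Col.c, Col.a])) (Tr.nd (nat_lit 2) (Tr.lf (Alt.word (nat_lit 6) (nat_lit 1) true [Col.b, Col.d, Col.b, Col.d])) (Tr.lf (Alt.word (nat_lit 3) (nat_lit 2) true [Col.d, Col.a, Col.d, Col.a])))) (Tr.nd (nat_lit 5) (Tr.nd (nat_lit 4) (Tr.lf (Alt.word (nat_lit 6) (nat_lit 2) true [Col.d, Col.b, Col.d, Col.b])) (Tr.lf (Alt.word (nat_lit 5) (nat_lit 2) true [Col.c, Col.b, Col.c, Col.b, Col.c, Col.b]))) (Tr.nd (nat_lit 6) (Tr.lf (Alt.word (nat_lit 3) (nat_lit 1) true [Col.a, Col.d, Col.a, Col.d])) (Tr.lf (Alt.word (nat_lit 2) (nat_lit 1) true [Col.a, Col.c, Col.a, Col.c]))))) (Tr.nd (nat_lit 11) (Tr.nd (nat_lit 9) (Tr.nd (nat_lit 8) (Tr.lf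 (Alt.word (nat_lit 5) (nat_lit 1) true [Col.b, Col.c, Col.b, Col.c, Col.b, Col.c])) (Tr.lf (Alt.word (nat_lit 1) (nat_lit 2) true [Col.b, Col.a, Col.b, Col.a, Col.b, Col.a, Col.b, Col.a, Col.b, Col.a]))) (Tr.nd (nat_lit 10) (Tr.lf (Alt.word (nat_lit 10) (nat_lit 3) true [Col.d, Col.c, Col.d, Col.c, Col.d, Col.a, Col.c, Col.d, Col.c])) (Tr.lf (Alt.word (nat_lit 10) (nat_lit 2) true [Col.c, Col.d, Col.c, Col.d, Col.c, Col.d, Col.a, Col.c, Col.d])))) (Tr.nd (nat_lit 13) (Tr.nd (nat_lit 12) (Tr.lf (Alt.word (nat_lit 10) (nat_lit 1) true [Col.d, Col.c, Col.d, Col.c, Col.d, Col.c, Col.d, Col.a, Col.c])) (Tr.lf (Alt.word (nat_lit 10) (nat_lit 4) true [Col.c, Col.d, Col.c, Col.d, Col.a, Col.c, Col.d, Col.c, Col.d]))) (Tr.nd (nat_lit 14) (Tr.lf (Alt.word (nat_lit 1) (nat_lit 1) true [Col.a, Col.b, Col.a, Col.b, Col.a,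 Col.b, Col.a, Col.b, Col.a, Col.b])) (Tr.lf (Alt.word (nat_lit 6) (nat_lit 3) true [Col.b, Col.d, Col.b, Col.d])))))) (Tr.nd (nat_lit 23) (Tr.nd (nat_lit 19) (Tr.nd (nat_lit 17) (Tr.nd (nat_lit 16) (Tr.lf (Alt.word (nat_lit 5) (nat_lit 0) true [Col.c, Col.b, Col.c, Col.b, Col.c, Col.b])) (Tr.lf (Alt.word (nat_lit 6) (nat_lit 0) true [Col.d, Col.b, Col.d, Col.b]))) (Tr.nd (nat_lit 18) (Tr.lf (Alt.word (nat_lit 10) (nat_lit 2) false [Col.c, Col.d, Col.c, Col.d, Col.c, Col.d, Col.c, Col.a, Col.d])) (Tr.lf (Alt.word (nat_lit 10) (nat_lit 8) true [Col.a, Col.c, Col.d, Col.c, Col.d, Col.c, Col.d, Col.c, Col.d])))) (Tr.nd (nat_lit 21) (Tr.nd (nat_lit 20) (Tr.lf (Alt.word (nat_lit 10) (nat_lit 6) true [Col.c, Col.d, Col.a, Col.c, Col.d, Col.c, Col.d, Col.c, Col.d])) (Tr.lf (Alt.word (nat_lit 10) (nat_lit 5) true [Col.d,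 Col.c, Col.d, Col.a, Col.c, Col.d, Col.c, Col.d, Col.c]))) (Tr.nd (nat_lit 22) (Tr.lf (Alt.word (nat_lit 10) (nat_lit 8) false [Col.c, Col.a, Col.d, Col.c, Col.d, Col.c, Col.d, Col.c, Col.d])) (Tr.lf (Alt.word (nat_lit 5) (nat_lit 5) true [Col.b, Col.c, Col.b, Col.c, Col.b, Col.c]))))) (Tr.nd (nat_lit 27) (Tr.nd (nat_lit 25) (Tr.nd (nat_lit 24) (Tr.lf (Alt.word (nat_lit 10) (nat_lit 1) false [Col.d, Col.c, Col.d, Col.c, Col.d, Col.c, Col.d, Col.c, Col.a])) (Tr.lf (Alt.word (nat_lit 3) (nat_lit 3) true [Col.a, Col.d, Col.a, Col.d]))) (Tr.nd (nat_lit 26) (Tr.lf (Alt.word (nat_lit 10) (nat_lit 7) true [Col.d, Col.a, Col.c, Col.d, Col.c, Col.d, Col.c, Col.d, Col.c])) (Tr.lf (Alt.word (nat_lit 10) (nat_lit 0) true [Col.c, Col.d, Col.c, Col.d, Col.c, Col.d, Col.c, Col.d, Col.a])))) (Tr.nd (nat_lit 29) (Tr.nd (nat_lit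 28) (Tr.lf (Alt.word (nat_lit 4) (nat_lit 0) true [Col.b, Col.b])) (Tr.lf (Alt.word (nat_lit 9) (nat_lit 0) true [Col.d, Col.d]))) (Tr.nd (nat_lit 30) (Tr.lf (Alt.word (nat_lit 7) (nat_lit 0) true [Col.c, Col.c])) (Tr.lf (Alt.word (nat_lit 0) (nat_lit 0) true [Col.a, Col.a])))))))
noncomputable def mini0P : Tr ℕ := (Tr.nd (nat_lit 540) (Tr.nd (nat_lit 270) (Tr.nd (nat_lit 135) (Tr.nd (nat_lit 67) (Tr.nd (nat_lit 33) (Tr.nd (nat_lit 16) (Tr.nd (nat_lit 8) (Tr.nd (nat_lit 4) (Tr.nd (nat_lit 2) (Tr.nd (nat_lit 1) (Tr.lf (nat_lit 0)) (Tr.lf (nat_lit 0))) (Tr.nd (nat_lit 3) (Tr.lf (nat_lit 1)) (Tr.lf (nat_lit 2)))) (Tr.nd (nat_lit 6) (Tr.nd (nat_lit 5) (Tr.lf (nat_lit 3)) (Tr.lf (nat_lit 4))) (Tr.nd (nat_lit 7) (Tr.lf (nat_lit 5)) (Tr.lf (nat_lit 6))))) (Tr.nd (nat_lit 12) (Tr.nd (nat_lit 10) (Tr.nd (nat_lit 9)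 (Tr.lf (nat_lit 7)) (Tr.lf (nat_lit 8))) (Tr.nd (nat_lit 11) (Tr.lf (nat_lit 9)) (Tr.lf (nat_lit 10)))) (Tr.nd (nat_lit 14) (Tr.nd (nat_lit 13) (Tr.lf (nat_lit 11)) (Tr.lf (nat_lit 12))) (Tr.nd (nat_lit 15) (Tr.lf (nat_lit 13)) (Tr.lf (nat_lit 14)))))) (Tr.nd (nat_lit 24) (Tr.nd (nat_lit 20) (Tr.nd (nat_lit 18) (Tr.nd (nat_lit 17) (Tr.lf (nat_lit 9)) (Tr.lf (nat_lit 6))) (Tr.nd (nat_lit 19) (Tr.lf (nat_lit 4)) (Tr.lf (nat_lit 3)))) (Tr.nd (nat_lit 22) (Tr.nd (nat_lit 21) (Tr.lf (nat_lit 18)) (Tr.lf (nat_lit 19))) (Tr.nd (nat_lit 23) (Tr.lf (nat_lit 21)) (Tr.lf (nat_lit 22))))) (Tr.nd (nat_lit 28) (Tr.nd (nat_lit 26) (Tr.nd (nat_lit 25) (Tr.lf (nat_lit 13)) (Tr.lf (nat_lit 24))) (Tr.nd (nat_lit 27) (Tr.lf (nat_lit 2)) (Tr.lf (nat_lit 26)))) (Tr.nd (nat_lit 30) (Tr.nd (nat_lit 29) (Tr.lf (nat_lit 5)) (Tr.lf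 (nat_lit 28))) (Tr.nd (nat_lit 31) (Tr.lf (nat_lit 29)) (Tr.nd (nat_lit 32) (Tr.lf (nat_lit 10)) (Tr.lf (nat_lit 11)))))))) (Tr.nd (nat_lit 50) (Tr.nd (nat_lit 41) (Tr.nd (nat_lit 37) (Tr.nd (nat_lit 35) (Tr.nd (nat_lit 34) (Tr.lf (nat_lit 8)) (Tr.lf (nat_lit 25))) (Tr.nd (nat_lit 36) (Tr.lf (nat_lit 12)) (Tr.lf (nat_lit 35)))) (Tr.nd (nat_lit 39) (Tr.nd (nat_lit 38) (Tr.lf (nat_lit 36)) (Tr.lf (nat_lit 34))) (Tr.nd (nat_lit 40) (Tr.lf (nat_lit 26)) (Tr.lf (nat_lit 8))))) (Tr.nd (nat_lit 45) (Tr.nd (nat_lit 43) (Tr.nd (nat_lit 42) (Tr.lf (nat_lit 9)) (Tr.lf (nat_lit 41))) (Tr.nd (nat_lit 44) (Tr.lf (nat_lit 24)) (Tr.lf (nat_lit 7)))) (Tr.nd (nat_lit 47) (Tr.nd (nat_lit 46) (Tr.lf (nat_lit 38)) (Tr.lf (nat_lit 25))) (Tr.nd (nat_lit 48) (Tr.lf (nat_lit 34)) (Tr.nd (nat_lit 49) (Tr.lf (nat_lit 46)) (Tr.lf (nat_lit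 48))))))) (Tr.nd (nat_lit 58) (Tr.nd (nat_lit 54) (Tr.nd (nat_lit 52) (Tr.nd (nat_lit 51) (Tr.lf (nat_lit 44)) (Tr.lf (nat_lit 27))) (Tr.nd (nat_lit 53) (Tr.lf (nat_lit 50)) (Tr.lf (nat_lit 18)))) (Tr.nd (nat_lit 56) (Tr.nd (nat_lit 55) (Tr.lf (nat_lit 20)) (Tr.lf (nat_lit 51))) (Tr.nd (nat_lit 57) (Tr.lf (nat_lit 17)) (Tr.lf (nat_lit 27))))) (Tr.nd (nat_lit 62) (Tr.nd (nat_lit 60) (Tr.nd (nat_lit 59) (Tr.lf (nat_lit 51)) (Tr.lf (nat_lit 56))) (Tr.nd (nat_lit 61) (Tr.lf (nat_lit 52)) (Tr.lf (nat_lit 59)))) (Tr.nd (nat_lit 64) (Tr.nd (nat_lit 63) (Tr.lf (nat_lit 60)) (Tr.lf (nat_lit 48))) (Tr.nd (nat_lit 65) (Tr.lf (nat_lit 49)) (Tr.nd (nat_lit 66) (Tr.lf (nat_lit 61)) (Tr.lf (nat_lit 46))))))))) (Tr.nd (nat_lit 101) (Tr.nd (nat_lit 84) (Tr.nd (nat_lit 75) (Tr.nd (nat_lit 71) (Tr.nd (nat_lit 69) (Tr.nd (nat_lit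 68) (Tr.lf (nat_lit 47)) (Tr.lf (nat_lit 30))) (Tr.nd (nat_lit 70) (Tr.lf (nat_lit 22)) (Tr.lf (nat_lit 42)))) (Tr.nd (nat_lit 73) (Tr.nd (nat_lit 72) (Tr.lf (nat_lit 70)) (Tr.lf (nat_lit 32))) (Tr.nd (nat_lit 74) (Tr.lf (nat_lit 72)) (Tr.lf (nat_lit 73))))) (Tr.nd (nat_lit 79) (Tr.nd (nat_lit 77) (Tr.nd (nat_lit 76) (Tr.lf (nat_lit 33)) (Tr.lf (nat_lit 23))) (Tr.nd (nat_lit 78) (Tr.lf (nat_lit 74)) (Tr.lf (nat_lit 68)))) (Tr.nd (nat_lit 81) (Tr.nd (nat_lit 80) (Tr.lf (nat_lit 14)) (Tr.lf (nat_lit 35))) (Tr.nd (nat_lit 82) (Tr.lf (nat_lit 79)) (Tr.nd (nat_lit 83) (Tr.lf (nat_lit 80)) (Tr.lf (nat_lit 75))))))) (Tr.nd (nat_lit 92) (Tr.nd (nat_lit 88) (Tr.nd (nat_lit 86) (Tr.nd (nat_lit 85) (Tr.lf (nat_lit 66)) (Tr.lf (nat_lit 76))) (Tr.nd (nat_lit 87) (Tr.lf (nat_lit 84)) (Tr.lf (nat_lit 65)))) (Tr.nd (nat_lit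 90) (Tr.nd (nat_lit 89) (Tr.lf (nat_lit 69)) (Tr.lf (nat_lit 40))) (Tr.nd (nat_lit 91) (Tr.lf (nat_lit 44)) (Tr.lf (nat_lit 47))))) (Tr.nd (nat_lit 96) (Tr.nd (nat_lit 94) (Tr.nd (nat_lit 93) (Tr.lf (nat_lit 65)) (Tr.lf (nat_lit 52))) (Tr.nd (nat_lit 95) (Tr.lf (nat_lit 78)) (Tr.lf (nat_lit 94)))) (Tr.nd (nat_lit 98) (Tr.nd (nat_lit 97) (Tr.lf (nat_lit 83)) (Tr.lf (nat_lit 90))) (Tr.nd (nat_lit 99) (Tr.lf (nat_lit 93)) (Tr.nd (nat_lit 100) (Tr.lf (nat_lit 77)) (Tr.lf (nat_lit 94)))))))) (Tr.nd (nat_lit 118) (Tr.nd (nat_lit 109) (Tr.nd (nat_lit 105) (Tr.nd (nat_lit 103) (Tr.nd (nat_lit 102) (Tr.lf (nat_lit 92)) (Tr.lf (nat_lit 99))) (Tr.nd (nat_lit 104) (Tr.lf (nat_lit 54)) (Tr.lf (nat_lit 53)))) (Tr.nd (nat_lit 107) (Tr.nd (nat_lit 106) (Tr.lf (nat_lit 78)) (Tr.lf (nat_lit 104))) (Tr.nd (nat_lit 108) (Tr.lf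 (nat_lit 60)) (Tr.lf (nat_lit 55))))) (Tr.nd (nat_lit 113) (Tr.nd (nat_lit 111) (Tr.nd (nat_lit 110) (Tr.lf (nat_lit 62)) (Tr.lf (nat_lit 19))) (Tr.nd (nat_lit 112) (Tr.lf (nat_lit 21)) (Tr.lf (nat_lit 111)))) (Tr.nd (nat_lit 115) (Tr.nd (nat_lit 114) (Tr.lf (nat_lit 38)) (Tr.lf (nat_lit 71))) (Tr.nd (nat_lit 116) (Tr.lf (nat_lit 113)) (Tr.nd (nat_lit 117) (Tr.lf (nat_lit 80)) (Tr.lf (nat_lit 74))))))) (Tr.nd (nat_lit 126) (Tr.nd (nat_lit 122) (Tr.nd (nat_lit 120) (Tr.nd (nat_lit 119) (Tr.lf (nat_lit 89)) (Tr.lf (nat_lit 113))) (Tr.nd (nat_lit 121) (Tr.lf (nat_lit 115)) (Tr.lf (nat_lit 120)))) (Tr.nd (nat_lit 124) (Tr.nd (nat_lit 123) (Tr.lf (nat_lit 95)) (Tr.lf (nat_lit 64))) (Tr.nd (nat_lit 125) (Tr.lf (nat_lit 85)) (Tr.lf (nat_lit 123))))) (Tr.nd (nat_lit 130) (Tr.nd (nat_lit 128) (Tr.nd (nat_lit 127) (Tr.lf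 (nat_lit 91)) (Tr.lf (nat_lit 91))) (Tr.nd (nat_lit 129) (Tr.lf (nat_lit 127)) (Tr.lf (nat_lit 127)))) (Tr.nd (nat_lit 132) (Tr.nd (nat_lit 131) (Tr.lf (nat_lit 85)) (Tr.lf (nat_lit 107))) (Tr.nd (nat_lit 133) (Tr.lf (nat_lit 131)) (Tr.nd (nat_lit 134) (Tr.lf (nat_lit 76)) (Tr.lf (nat_lit 101)))))))))) (Tr.nd (nat_lit 202) (Tr.nd (nat_lit 168) (Tr.nd (nat_lit 151) (Tr.nd (nat_lit 143) (Tr.nd (nat_lit 139) (Tr.nd (nat_lit 137) (Tr.nd (nat_lit 136) (Tr.lf (nat_lit 134)) (Tr.lf (nat_lit 133))) (Tr.nd (nat_lit 138) (Tr.lf (nat_lit 83)) (Tr.lf (nat_lit 69)))) (Tr.nd (nat_lit 141) (Tr.nd (nat_lit 140) (Tr.lf (nat_lit 137)) (Tr.lf (nat_lit 138))) (Tr.nd (nat_lit 142) (Tr.lf (nat_lit 138)) (Tr.lf (nat_lit 105))))) (Tr.nd (nat_lit 147) (Tr.nd (nat_lit 145) (Tr.nd (nat_lit 144) (Tr.lf (nat_lit 15)) (Tr.lf (nat_lit 80)))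 (Tr.nd (nat_lit 146) (Tr.lf (nat_lit 81)) (Tr.lf (nat_lit 144)))) (Tr.nd (nat_lit 149) (Tr.nd (nat_lit 148) (Tr.lf (nat_lit 116)) (Tr.lf (nat_lit 140))) (Tr.nd (nat_lit 150) (Tr.lf (nat_lit 73)) (Tr.lf (nat_lit 90)))))) (Tr.nd (nat_lit 159) (Tr.nd (nat_lit 155) (Tr.nd (nat_lit 153) (Tr.nd (nat_lit 152) (Tr.lf (nat_lit 150)) (Tr.lf (nat_lit 97))) (Tr.nd (nat_lit 154) (Tr.lf (nat_lit 45)) (Tr.lf (nat_lit 151)))) (Tr.nd (nat_lit 157) (Tr.nd (nat_lit 156) (Tr.lf (nat_lit 129)) (Tr.lf (nat_lit 53))) (Tr.nd (nat_lit 158) (Tr.lf (nat_lit 156)) (Tr.lf (nat_lit 157))))) (Tr.nd (nat_lit 163) (Tr.nd (nat_lit 161) (Tr.nd (nat_lit 160) (Tr.lf (nat_lit 109)) (Tr.lf (nat_lit 159))) (Tr.nd (nat_lit 162) (Tr.lf (nat_lit 55)) (Tr.lf (nat_lit 156)))) (Tr.nd (nat_lit 165) (Tr.nd (nat_lit 164) (Tr.lf (nat_lit 108)) (Tr.lf (nat_lit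 86))) (Tr.nd (nat_lit 166) (Tr.lf (nat_lit 43)) (Tr.nd (nat_lit 167) (Tr.lf (nat_lit 159)) (Tr.lf (nat_lit 101)))))))) (Tr.nd (nat_lit 185) (Tr.nd (nat_lit 176) (Tr.nd (nat_lit 172) (Tr.nd (nat_lit 170) (Tr.nd (nat_lit 169) (Tr.lf (nat_lit 118)) (Tr.lf (nat_lit 164))) (Tr.nd (nat_lit 171) (Tr.lf (nat_lit 37)) (Tr.lf (nat_lit 114)))) (Tr.nd (nat_lit 174) (Tr.nd (nat_lit 173) (Tr.lf (nat_lit 139)) (Tr.lf (nat_lit 122))) (Tr.nd (nat_lit 175) (Tr.lf (nat_lit 171)) (Tr.lf (nat_lit 84))))) (Tr.nd (nat_lit 180) (Tr.nd (nat_lit 178) (Tr.nd (nat_lit 177) (Tr.lf (nat_lit 82)) (Tr.lf (nat_lit 176))) (Tr.nd (nat_lit 179) (Tr.lf (nat_lit 167)) (Tr.lf (nat_lit 105)))) (Tr.nd (nat_lit 182) (Tr.nd (nat_lit 181) (Tr.lf (nat_lit 160)) (Tr.lf (nat_lit 176))) (Tr.nd (nat_lit 183) (Tr.lf (nat_lit 172)) (Tr.nd (nat_lit 184) (Tr.lf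 (nat_lit 179)) (Tr.lf (nat_lit 1))))))) (Tr.nd (nat_lit 193) (Tr.nd (nat_lit 189) (Tr.nd (nat_lit 187) (Tr.nd (nat_lit 186) (Tr.lf (nat_lit 165)) (Tr.lf (nat_lit 185))) (Tr.nd (nat_lit 188) (Tr.lf (nat_lit 130)) (Tr.lf (nat_lit 187)))) (Tr.nd (nat_lit 191) (Tr.nd (nat_lit 190) (Tr.lf (nat_lit 155)) (Tr.lf (nat_lit 184))) (Tr.nd (nat_lit 192) (Tr.lf (nat_lit 39)) (Tr.lf (nat_lit 140))))) (Tr.nd (nat_lit 197) (Tr.nd (nat_lit 195) (Tr.nd (nat_lit 194) (Tr.lf (nat_lit 138)) (Tr.lf (nat_lit 181))) (Tr.nd (nat_lit 196) (Tr.lf (nat_lit 26)) (Tr.lf (nat_lit 162)))) (Tr.nd (nat_lit 199) (Tr.nd (nat_lit 198) (Tr.lf (nat_lit 193)) (Tr.lf (nat_lit 192))) (Tr.nd (nat_lit 200) (Tr.lf (nat_lit 153)) (Tr.nd (nat_lit 201) (Tr.lf (nat_lit 154)) (Tr.lf (nat_lit 136))))))))) (Tr.nd (nat_lit 236) (Tr.nd (nat_lit 219) (Tr.nd (nat_lit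 210) (Tr.nd (nat_lit 206) (Tr.nd (nat_lit 204) (Tr.nd (nat_lit 203) (Tr.lf (nat_lit 199)) (Tr.lf (nat_lit 142))) (Tr.nd (nat_lit 205) (Tr.lf (nat_lit 195)) (Tr.lf (nat_lit 201)))) (Tr.nd (nat_lit 208) (Tr.nd (nat_lit 207) (Tr.lf (nat_lit 153)) (Tr.lf (nat_lit 124))) (Tr.nd (nat_lit 209) (Tr.lf (nat_lit 102)) (Tr.lf (nat_lit 117))))) (Tr.nd (nat_lit 214) (Tr.nd (nat_lit 212) (Tr.nd (nat_lit 211) (Tr.lf (nat_lit 127)) (Tr.lf (nat_lit 149))) (Tr.nd (nat_lit 213) (Tr.lf (nat_lit 208)) (Tr.lf (nat_lit 139)))) (Tr.nd (nat_lit 216) (Tr.nd (nat_lit 215) (Tr.lf (nat_lit 213)) (Tr.lf (nat_lit 213))) (Tr.nd (nat_lit 217) (Tr.lf (nat_lit 129)) (Tr.nd (nat_lit 218) (Tr.lf (nat_lit 216)) (Tr.lf (nat_lit 45))))))) (Tr.nd (nat_lit 227) (Tr.nd (nat_lit 223) (Tr.nd (nat_lit 221) (Tr.nd (nat_lit 220) (Tr.lf (nat_lit 210)) (Tr.lf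 (nat_lit 169))) (Tr.nd (nat_lit 222) (Tr.lf (nat_lit 174)) (Tr.lf (nat_lit 183)))) (Tr.nd (nat_lit 225) (Tr.nd (nat_lit 224) (Tr.lf (nat_lit 130)) (Tr.lf (nat_lit 212))) (Tr.nd (nat_lit 226) (Tr.lf (nat_lit 150)) (Tr.lf (nat_lit 223))))) (Tr.nd (nat_lit 231) (Tr.nd (nat_lit 229) (Tr.nd (nat_lit 228) (Tr.lf (nat_lit 152)) (Tr.lf (nat_lit 225))) (Tr.nd (nat_lit 230) (Tr.lf (nat_lit 124)) (Tr.lf (nat_lit 227)))) (Tr.nd (nat_lit 233) (Tr.nd (nat_lit 232) (Tr.lf (nat_lit 145)) (Tr.lf (nat_lit 223))) (Tr.nd (nat_lit 234) (Tr.lf (nat_lit 143)) (Tr.nd (nat_lit 235) (Tr.lf (nat_lit 233)) (Tr.lf (nat_lit 207)))))))) (Tr.nd (nat_lit 253) (Tr.nd (nat_lit 244) (Tr.nd (nat_lit 240) (Tr.nd (nat_lit 238) (Tr.nd (nat_lit 237) (Tr.lf (nat_lit 170)) (Tr.lf (nat_lit 234))) (Tr.nd (nat_lit 239) (Tr.lf (nat_lit 228)) (Tr.lf (nat_lit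 113)))) (Tr.nd (nat_lit 242) (Tr.nd (nat_lit 241) (Tr.lf (nat_lit 218)) (Tr.lf (nat_lit 239))) (Tr.nd (nat_lit 243) (Tr.lf (nat_lit 157)) (Tr.lf (nat_lit 156))))) (Tr.nd (nat_lit 248) (Tr.nd (nat_lit 246) (Tr.nd (nat_lit 245) (Tr.lf (nat_lit 230)) (Tr.lf (nat_lit 178))) (Tr.nd (nat_lit 247) (Tr.lf (nat_lit 158)) (Tr.lf (nat_lit 200)))) (Tr.nd (nat_lit 250) (Tr.nd (nat_lit 249) (Tr.lf (nat_lit 245)) (Tr.lf (nat_lit 241))) (Tr.nd (nat_lit 251) (Tr.lf (nat_lit 141)) (Tr.nd (nat_lit 252) (Tr.lf (nat_lit 149)) (Tr.lf (nat_lit 249))))))) (Tr.nd (nat_lit 261) (Tr.nd (nat_lit 257) (Tr.nd (nat_lit 255) (Tr.nd (nat_lit 254) (Tr.lf (nat_lit 246)) (Tr.lf (nat_lit 128))) (Tr.nd (nat_lit 256) (Tr.lf (nat_lit 250)) (Tr.lf (nat_lit 180)))) (Tr.nd (nat_lit 259) (Tr.nd (nat_lit 258) (Tr.lf (nat_lit 251)) (Tr.lf (nat_lit 163)))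 (Tr.nd (nat_lit 260) (Tr.lf (nat_lit 217)) (Tr.lf (nat_lit 236))))) (Tr.nd (nat_lit 265) (Tr.nd (nat_lit 263) (Tr.nd (nat_lit 262) (Tr.lf (nat_lit 148)) (Tr.lf (nat_lit 251))) (Tr.nd (nat_lit 264) (Tr.lf (nat_lit 173)) (Tr.lf (nat_lit 168)))) (Tr.nd (nat_lit 267) (Tr.nd (nat_lit 266) (Tr.lf (nat_lit 261)) (Tr.lf (nat_lit 265))) (Tr.nd (nat_lit 268) (Tr.lf (nat_lit 262)) (Tr.nd (nat_lit 269) (Tr.lf (nat_lit 252)) (Tr.lf (nat_lit 196))))))))))) (Tr.nd (nat_lit 405) (Tr.nd (nat_lit 337) (Tr.nd (nat_lit 303) (Tr.nd (nat_lit 286) (Tr.nd (nat_lit 278) (Tr.nd (nat_lit 274) (Tr.nd (nat_lit 272) (Tr.nd (nat_lit 271) (Tr.lf (nat_lit 253)) (Tr.lf (nat_lit 179))) (Tr.nd (nat_lit 273) (Tr.lf (nat_lit 161)) (Tr.lf (nat_lit 171)))) (Tr.nd (nat_lit 276) (Tr.nd (nat_lit 275) (Tr.lf (nat_lit 174)) (Tr.lf (nat_lit 181))) (Tr.nd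 (nat_lit 277) (Tr.lf (nat_lit 272)) (Tr.lf (nat_lit 276))))) (Tr.nd (nat_lit 282) (Tr.nd (nat_lit 280) (Tr.nd (nat_lit 279) (Tr.lf (nat_lit 160)) (Tr.lf (nat_lit 180))) (Tr.nd (nat_lit 281) (Tr.lf (nat_lit 275)) (Tr.lf (nat_lit 204)))) (Tr.nd (nat_lit 284) (Tr.nd (nat_lit 283) (Tr.lf (nat_lit 122)) (Tr.lf (nat_lit 282))) (Tr.nd (nat_lit 285) (Tr.lf (nat_lit 282)) (Tr.lf (nat_lit 221)))))) (Tr.nd (nat_lit 294) (Tr.nd (nat_lit 290) (Tr.nd (nat_lit 288) (Tr.nd (nat_lit 287) (Tr.lf (nat_lit 278)) (Tr.lf (nat_lit 177))) (Tr.nd (nat_lit 289) (Tr.lf (nat_lit 286)) (Tr.lf (nat_lit 279)))) (Tr.nd (nat_lit 292) (Tr.nd (nat_lit 291) (Tr.lf (nat_lit 194)) (Tr.lf (nat_lit 194))) (Tr.nd (nat_lit 293) (Tr.lf (nat_lit 254)) (Tr.lf (nat_lit 292))))) (Tr.nd (nat_lit 298) (Tr.nd (nat_lit 296) (Tr.nd (nat_lit 295) (Tr.lf (nat_lit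 189)) (Tr.lf (nat_lit 289))) (Tr.nd (nat_lit 297) (Tr.lf (nat_lit 248)) (Tr.lf (nat_lit 248)))) (Tr.nd (nat_lit 300) (Tr.nd (nat_lit 299) (Tr.lf (nat_lit 186)) (Tr.lf (nat_lit 199))) (Tr.nd (nat_lit 301) (Tr.lf (nat_lit 198)) (Tr.nd (nat_lit 302) (Tr.lf (nat_lit 202)) (Tr.lf (nat_lit 281)))))))) (Tr.nd (nat_lit 320) (Tr.nd (nat_lit 311) (Tr.nd (nat_lit 307) (Tr.nd (nat_lit 305) (Tr.nd (nat_lit 304) (Tr.lf (nat_lit 226)) (Tr.lf (nat_lit 222))) (Tr.nd (nat_lit 306) (Tr.lf (nat_lit 164)) (Tr.lf (nat_lit 169)))) (Tr.nd (nat_lit 309) (Tr.nd (nat_lit 308) (Tr.lf (nat_lit 195)) (Tr.lf (nat_lit 300))) (Tr.nd (nat_lit 310) (Tr.lf (nat_lit 307)) (Tr.lf (nat_lit 309))))) (Tr.nd (nat_lit 315) (Tr.nd (nat_lit 313) (Tr.nd (nat_lit 312) (Tr.lf (nat_lit 298)) (Tr.lf (nat_lit 290))) (Tr.nd (nat_lit 314) (Tr.lf (nat_lit 284))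 (Tr.lf (nat_lit 304)))) (Tr.nd (nat_lit 317) (Tr.nd (nat_lit 316) (Tr.lf (nat_lit 245)) (Tr.lf (nat_lit 295))) (Tr.nd (nat_lit 318) (Tr.lf (nat_lit 264)) (Tr.nd (nat_lit 319) (Tr.lf (nat_lit 297)) (Tr.lf (nat_lit 317))))))) (Tr.nd (nat_lit 328) (Tr.nd (nat_lit 324) (Tr.nd (nat_lit 322) (Tr.nd (nat_lit 321) (Tr.lf (nat_lit 260)) (Tr.lf (nat_lit 309))) (Tr.nd (nat_lit 323) (Tr.lf (nat_lit 205)) (Tr.lf (nat_lit 302)))) (Tr.nd (nat_lit 326) (Tr.nd (nat_lit 325) (Tr.lf (nat_lit 207)) (Tr.lf (nat_lit 193))) (Tr.nd (nat_lit 327) (Tr.lf (nat_lit 321)) (Tr.lf (nat_lit 299))))) (Tr.nd (nat_lit 332) (Tr.nd (nat_lit 330) (Tr.nd (nat_lit 329) (Tr.lf (nat_lit 322)) (Tr.lf (nat_lit 197))) (Tr.nd (nat_lit 331) (Tr.lf (nat_lit 245)) (Tr.lf (nat_lit 325)))) (Tr.nd (nat_lit 334) (Tr.nd (nat_lit 333) (Tr.lf (nat_lit 327)) (Tr.lf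 (nat_lit 332))) (Tr.nd (nat_lit 335) (Tr.lf (nat_lit 240)) (Tr.nd (nat_lit 336) (Tr.lf (nat_lit 258)) (Tr.lf (nat_lit 315))))))))) (Tr.nd (nat_lit 371) (Tr.nd (nat_lit 354) (Tr.nd (nat_lit 345) (Tr.nd (nat_lit 341) (Tr.nd (nat_lit 339) (Tr.nd (nat_lit 338) (Tr.lf (nat_lit 220)) (Tr.lf (nat_lit 337))) (Tr.nd (nat_lit 340) (Tr.lf (nat_lit 229)) (Tr.lf (nat_lit 260)))) (Tr.nd (nat_lit 343) (Tr.nd (nat_lit 342) (Tr.lf (nat_lit 339)) (Tr.lf (nat_lit 222))) (Tr.nd (nat_lit 344) (Tr.lf (nat_lit 223)) (Tr.lf (nat_lit 340))))) (Tr.nd (nat_lit 349) (Tr.nd (nat_lit 347) (Tr.nd (nat_lit 346) (Tr.lf (nat_lit 338)) (Tr.lf (nat_lit 342))) (Tr.nd (nat_lit 348) (Tr.lf (nat_lit 225)) (Tr.lf (nat_lit 221)))) (Tr.nd (nat_lit 351) (Tr.nd (nat_lit 350) (Tr.lf (nat_lit 348)) (Tr.lf (nat_lit 324))) (Tr.nd (nat_lit 352) (Tr.lf (nat_lit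 329)) (Tr.nd (nat_lit 353) (Tr.lf (nat_lit 347)) (Tr.lf (nat_lit 232))))))) (Tr.nd (nat_lit 362) (Tr.nd (nat_lit 358) (Tr.nd (nat_lit 356) (Tr.nd (nat_lit 355) (Tr.lf (nat_lit 274)) (Tr.lf (nat_lit 224))) (Tr.nd (nat_lit 357) (Tr.lf (nat_lit 354)) (Tr.lf (nat_lit 343)))) (Tr.nd (nat_lit 360) (Tr.nd (nat_lit 359) (Tr.lf (nat_lit 226)) (Tr.lf (nat_lit 325))) (Tr.nd (nat_lit 361) (Tr.lf (nat_lit 352)) (Tr.lf (nat_lit 231))))) (Tr.nd (nat_lit 366) (Tr.nd (nat_lit 364) (Tr.nd (nat_lit 363) (Tr.lf (nat_lit 357)) (Tr.lf (nat_lit 263))) (Tr.nd (nat_lit 365) (Tr.lf (nat_lit 215)) (Tr.lf (nat_lit 239)))) (Tr.nd (nat_lit 368) (Tr.nd (nat_lit 367) (Tr.lf (nat_lit 271)) (Tr.lf (nat_lit 366))) (Tr.nd (nat_lit 369) (Tr.lf (nat_lit 364)) (Tr.nd (nat_lit 370) (Tr.lf (nat_lit 368)) (Tr.lf (nat_lit 243)))))))) (Tr.nd (nat_lit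 388) (Tr.nd (nat_lit 379) (Tr.nd (nat_lit 375) (Tr.nd (nat_lit 373) (Tr.nd (nat_lit 372) (Tr.lf (nat_lit 365)) (Tr.lf (nat_lit 358))) (Tr.nd (nat_lit 374) (Tr.lf (nat_lit 340)) (Tr.lf (nat_lit 359)))) (Tr.nd (nat_lit 377) (Tr.nd (nat_lit 376) (Tr.lf (nat_lit 373)) (Tr.lf (nat_lit 375))) (Tr.nd (nat_lit 378) (Tr.lf (nat_lit 246)) (Tr.lf (nat_lit 377))))) (Tr.nd (nat_lit 383) (Tr.nd (nat_lit 381) (Tr.nd (nat_lit 380) (Tr.lf (nat_lit 341)) (Tr.lf (nat_lit 371))) (Tr.nd (nat_lit 382) (Tr.lf (nat_lit 370)) (Tr.lf (nat_lit 379)))) (Tr.nd (nat_lit 385) (Tr.nd (nat_lit 384) (Tr.lf (nat_lit 364)) (Tr.lf (nat_lit 208))) (Tr.nd (nat_lit 386) (Tr.lf (nat_lit 230)) (Tr.nd (nat_lit 387) (Tr.lf (nat_lit 300)) (Tr.lf (nat_lit 268))))))) (Tr.nd (nat_lit 396) (Tr.nd (nat_lit 392) (Tr.nd (nat_lit 390) (Tr.nd (nat_lit 389) (Tr.lf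 (nat_lit 270)) (Tr.lf (nat_lit 378))) (Tr.nd (nat_lit 391) (Tr.lf (nat_lit 389)) (Tr.lf (nat_lit 262)))) (Tr.nd (nat_lit 394) (Tr.nd (nat_lit 393) (Tr.lf (nat_lit 380)) (Tr.lf (nat_lit 253))) (Tr.nd (nat_lit 395) (Tr.lf (nat_lit 385)) (Tr.lf (nat_lit 392))))) (Tr.nd (nat_lit 400) (Tr.nd (nat_lit 398) (Tr.nd (nat_lit 397) (Tr.lf (nat_lit 214)) (Tr.lf (nat_lit 352))) (Tr.nd (nat_lit 399) (Tr.lf (nat_lit 393)) (Tr.lf (nat_lit 384)))) (Tr.nd (nat_lit 402) (Tr.nd (nat_lit 401) (Tr.lf (nat_lit 377)) (Tr.lf (nat_lit 385))) (Tr.nd (nat_lit 403) (Tr.lf (nat_lit 399)) (Tr.nd (nat_lit 404) (Tr.lf (nat_lit 274)) (Tr.lf (nat_lit 267)))))))))) (Tr.nd (nat_lit 472) (Tr.nd (nat_lit 438) (Tr.nd (nat_lit 421) (Tr.nd (nat_lit 413) (Tr.nd (nat_lit 409) (Tr.nd (nat_lit 407) (Tr.nd (nat_lit 406) (Tr.lf (nat_lit 355)) (Tr.lf (nat_lit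 404))) (Tr.nd (nat_lit 408) (Tr.lf (nat_lit 382)) (Tr.lf (nat_lit 407)))) (Tr.nd (nat_lit 411) (Tr.nd (nat_lit 410) (Tr.lf (nat_lit 405)) (Tr.lf (nat_lit 266))) (Tr.nd (nat_lit 412) (Tr.lf (nat_lit 410)) (Tr.lf (nat_lit 410))))) (Tr.nd (nat_lit 417) (Tr.nd (nat_lit 415) (Tr.nd (nat_lit 414) (Tr.lf (nat_lit 329)) (Tr.lf (nat_lit 361))) (Tr.nd (nat_lit 416) (Tr.lf (nat_lit 414)) (Tr.lf (nat_lit 304)))) (Tr.nd (nat_lit 419) (Tr.nd (nat_lit 418) (Tr.lf (nat_lit 416)) (Tr.lf (nat_lit 415))) (Tr.nd (nat_lit 420) (Tr.lf (nat_lit 372)) (Tr.lf (nat_lit 412)))))) (Tr.nd (nat_lit 429) (Tr.nd (nat_lit 425) (Tr.nd (nat_lit 423) (Tr.nd (nat_lit 422) (Tr.lf (nat_lit 363)) (Tr.lf (nat_lit 403))) (Tr.nd (nat_lit 424) (Tr.lf (nat_lit 349)) (Tr.lf (nat_lit 303)))) (Tr.nd (nat_lit 427) (Tr.nd (nat_lit 426) (Tr.lf (nat_lit 342))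 (Tr.lf (nat_lit 381))) (Tr.nd (nat_lit 428) (Tr.lf (nat_lit 369)) (Tr.lf (nat_lit 275))))) (Tr.nd (nat_lit 433) (Tr.nd (nat_lit 431) (Tr.nd (nat_lit 430) (Tr.lf (nat_lit 391)) (Tr.lf (nat_lit 362))) (Tr.nd (nat_lit 432) (Tr.lf (nat_lit 424)) (Tr.lf (nat_lit 259)))) (Tr.nd (nat_lit 435) (Tr.nd (nat_lit 434) (Tr.lf (nat_lit 428)) (Tr.lf (nat_lit 293))) (Tr.nd (nat_lit 436) (Tr.lf (nat_lit 318)) (Tr.nd (nat_lit 437) (Tr.lf (nat_lit 297)) (Tr.lf (nat_lit 327)))))))) (Tr.nd (nat_lit 455) (Tr.nd (nat_lit 446) (Tr.nd (nat_lit 442) (Tr.nd (nat_lit 440) (Tr.nd (nat_lit 439) (Tr.lf (nat_lit 300)) (Tr.lf (nat_lit 438))) (Tr.nd (nat_lit 441) (Tr.lf (nat_lit 290)) (Tr.lf (nat_lit 301)))) (Tr.nd (nat_lit 444) (Tr.nd (nat_lit 443) (Tr.lf (nat_lit 345)) (Tr.lf (nat_lit 312))) (Tr.nd (nat_lit 445) (Tr.lf (nat_lit 411)) (Tr.lf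 (nat_lit 428))))) (Tr.nd (nat_lit 450) (Tr.nd (nat_lit 448) (Tr.nd (nat_lit 447) (Tr.lf (nat_lit 441)) (Tr.lf (nat_lit 440))) (Tr.nd (nat_lit 449) (Tr.lf (nat_lit 319)) (Tr.lf (nat_lit 346)))) (Tr.nd (nat_lit 452) (Tr.nd (nat_lit 451) (Tr.lf (nat_lit 328)) (Tr.lf (nat_lit 298))) (Tr.nd (nat_lit 453) (Tr.lf (nat_lit 449)) (Tr.nd (nat_lit 454) (Tr.lf (nat_lit 431)) (Tr.lf (nat_lit 448))))))) (Tr.nd (nat_lit 463) (Tr.nd (nat_lit 459) (Tr.nd (nat_lit 457) (Tr.nd (nat_lit 456) (Tr.lf (nat_lit 442)) (Tr.lf (nat_lit 453))) (Tr.nd (nat_lit 458) (Tr.lf (nat_lit 446)) (Tr.lf (nat_lit 359)))) (Tr.nd (nat_lit 461) (Tr.nd (nat_lit 460) (Tr.lf (nat_lit 321)) (Tr.lf (nat_lit 457))) (Tr.nd (nat_lit 462) (Tr.lf (nat_lit 351)) (Tr.lf (nat_lit 342))))) (Tr.nd (nat_lit 467) (Tr.nd (nat_lit 465) (Tr.nd (nat_lit 464) (Tr.lf (nat_lit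 333)) (Tr.lf (nat_lit 311))) (Tr.nd (nat_lit 466) (Tr.lf (nat_lit 350)) (Tr.lf (nat_lit 332)))) (Tr.nd (nat_lit 469) (Tr.nd (nat_lit 468) (Tr.lf (nat_lit 415)) (Tr.lf (nat_lit 374))) (Tr.nd (nat_lit 470) (Tr.lf (nat_lit 463)) (Tr.nd (nat_lit 471) (Tr.lf (nat_lit 344)) (Tr.lf (nat_lit 450))))))))) (Tr.nd (nat_lit 506) (Tr.nd (nat_lit 489) (Tr.nd (nat_lit 480) (Tr.nd (nat_lit 476) (Tr.nd (nat_lit 474) (Tr.nd (nat_lit 473) (Tr.lf (nat_lit 471)) (Tr.lf (nat_lit 449))) (Tr.nd (nat_lit 475) (Tr.lf (nat_lit 462)) (Tr.lf (nat_lit 354)))) (Tr.nd (nat_lit 478) (Tr.nd (nat_lit 477) (Tr.lf (nat_lit 421)) (Tr.lf (nat_lit 461))) (Tr.nd (nat_lit 479) (Tr.lf (nat_lit 356)) (Tr.lf (nat_lit 475))))) (Tr.nd (nat_lit 484) (Tr.nd (nat_lit 482) (Tr.nd (nat_lit 481) (Tr.lf (nat_lit 469)) (Tr.lf (nat_lit 448))) (Tr.nd (nat_lit 483)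 (Tr.lf (nat_lit 479)) (Tr.lf (nat_lit 470)))) (Tr.nd (nat_lit 486) (Tr.nd (nat_lit 485) (Tr.lf (nat_lit 476)) (Tr.lf (nat_lit 397))) (Tr.nd (nat_lit 487) (Tr.lf (nat_lit 484)) (Tr.nd (nat_lit 488) (Tr.lf (nat_lit 480)) (Tr.lf (nat_lit 465))))))) (Tr.nd (nat_lit 497) (Tr.nd (nat_lit 493) (Tr.nd (nat_lit 491) (Tr.nd (nat_lit 490) (Tr.lf (nat_lit 348)) (Tr.lf (nat_lit 443))) (Tr.nd (nat_lit 492) (Tr.lf (nat_lit 487)) (Tr.lf (nat_lit 417)))) (Tr.nd (nat_lit 495) (Tr.nd (nat_lit 494) (Tr.lf (nat_lit 408)) (Tr.lf (nat_lit 489))) (Tr.nd (nat_lit 496) (Tr.lf (nat_lit 404)) (Tr.lf (nat_lit 345))))) (Tr.nd (nat_lit 501) (Tr.nd (nat_lit 499) (Tr.nd (nat_lit 498) (Tr.lf (nat_lit 494)) (Tr.lf (nat_lit 485))) (Tr.nd (nat_lit 500) (Tr.lf (nat_lit 357)) (Tr.lf (nat_lit 498)))) (Tr.nd (nat_lit 503) (Tr.nd (nat_lit 502) (Tr.lf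 (nat_lit 499)) (Tr.lf (nat_lit 442))) (Tr.nd (nat_lit 504) (Tr.lf (nat_lit 464)) (Tr.nd (nat_lit 505) (Tr.lf (nat_lit 502)) (Tr.lf (nat_lit 493)))))))) (Tr.nd (nat_lit 523) (Tr.nd (nat_lit 514) (Tr.nd (nat_lit 510) (Tr.nd (nat_lit 508) (Tr.nd (nat_lit 507) (Tr.lf (nat_lit 359)) (Tr.lf (nat_lit 373))) (Tr.nd (nat_lit 509) (Tr.lf (nat_lit 371)) (Tr.lf (nat_lit 508)))) (Tr.nd (nat_lit 512) (Tr.nd (nat_lit 511) (Tr.lf (nat_lit 383)) (Tr.lf (nat_lit 507))) (Tr.nd (nat_lit 513) (Tr.lf (nat_lit 374)) (Tr.lf (nat_lit 391))))) (Tr.nd (nat_lit 518) (Tr.nd (nat_lit 516) (Tr.nd (nat_lit 515) (Tr.lf (nat_lit 510)) (Tr.lf (nat_lit 508))) (Tr.nd (nat_lit 517) (Tr.lf (nat_lit 514)) (Tr.lf (nat_lit 513)))) (Tr.nd (nat_lit 520) (Tr.nd (nat_lit 519) (Tr.lf (nat_lit 517)) (Tr.lf (nat_lit 468))) (Tr.nd (nat_lit 521) (Tr.lf (nat_lit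 507)) (Tr.nd (nat_lit 522) (Tr.lf (nat_lit 458)) (Tr.lf (nat_lit 506))))))) (Tr.nd (nat_lit 531) (Tr.nd (nat_lit 527) (Tr.nd (nat_lit 525) (Tr.nd (nat_lit 524) (Tr.lf (nat_lit 522)) (Tr.lf (nat_lit 461))) (Tr.nd (nat_lit 526) (Tr.lf (nat_lit 430)) (Tr.lf (nat_lit 389)))) (Tr.nd (nat_lit 529) (Tr.nd (nat_lit 528) (Tr.lf (nat_lit 376)) (Tr.lf (nat_lit 439))) (Tr.nd (nat_lit 530) (Tr.lf (nat_lit 508)) (Tr.lf (nat_lit 367))))) (Tr.nd (nat_lit 535) (Tr.nd (nat_lit 533) (Tr.nd (nat_lit 532) (Tr.lf (nat_lit 528)) (Tr.lf (nat_lit 524))) (Tr.nd (nat_lit 534) (Tr.lf (nat_lit 531)) (Tr.lf (nat_lit 532)))) (Tr.nd (nat_lit 537) (Tr.nd (nat_lit 536) (Tr.lf (nat_lit 521)) (Tr.lf (nat_lit 466))) (Tr.nd (nat_lit 538) (Tr.lf (nat_lit 429)) (Tr.nd (nat_lit 539) (Tr.lf (nat_lit 406)) (Tr.lf (nat_lit 538)))))))))))) (Tr.nd (nat_lit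 810) (Tr.nd (nat_lit 675) (Tr.nd (nat_lit 607) (Tr.nd (nat_lit 573) (Tr.nd (nat_lit 556) (Tr.nd (nat_lit 548) (Tr.nd (nat_lit 544) (Tr.nd (nat_lit 542) (Tr.nd (nat_lit 541) (Tr.lf (nat_lit 529)) (Tr.lf (nat_lit 439))) (Tr.nd (nat_lit 543) (Tr.lf (nat_lit 407)) (Tr.lf (nat_lit 396)))) (Tr.nd (nat_lit 546) (Tr.nd (nat_lit 545) (Tr.lf (nat_lit 382)) (Tr.lf (nat_lit 463))) (Tr.nd (nat_lit 547) (Tr.lf (nat_lit 499)) (Tr.lf (nat_lit 379))))) (Tr.nd (nat_lit 552) (Tr.nd (nat_lit 550) (Tr.nd (nat_lit 549) (Tr.lf (nat_lit 539)) (Tr.lf (nat_lit 400))) (Tr.nd (nat_lit 551) (Tr.lf (nat_lit 509)) (Tr.lf (nat_lit 501)))) (Tr.nd (nat_lit 554) (Tr.nd (nat_lit 553) (Tr.lf (nat_lit 398)) (Tr.lf (nat_lit 401))) (Tr.nd (nat_lit 555) (Tr.lf (nat_lit 553)) (Tr.lf (nat_lit 545)))))) (Tr.nd (nat_lit 564) (Tr.nd (nat_lit 560) (Tr.nd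 (nat_lit 558) (Tr.nd (nat_lit 557) (Tr.lf (nat_lit 385)) (Tr.lf (nat_lit 549))) (Tr.nd (nat_lit 559) (Tr.lf (nat_lit 546)) (Tr.lf (nat_lit 557)))) (Tr.nd (nat_lit 562) (Tr.nd (nat_lit 561) (Tr.lf (nat_lit 537)) (Tr.lf (nat_lit 539))) (Tr.nd (nat_lit 563) (Tr.lf (nat_lit 556)) (Tr.lf (nat_lit 474))))) (Tr.nd (nat_lit 568) (Tr.nd (nat_lit 566) (Tr.nd (nat_lit 565) (Tr.lf (nat_lit 544)) (Tr.lf (nat_lit 409))) (Tr.nd (nat_lit 567) (Tr.lf (nat_lit 501)) (Tr.lf (nat_lit 551)))) (Tr.nd (nat_lit 570) (Tr.nd (nat_lit 569) (Tr.lf (nat_lit 543)) (Tr.lf (nat_lit 563))) (Tr.nd (nat_lit 571) (Tr.lf (nat_lit 493)) (Tr.nd (nat_lit 572) (Tr.lf (nat_lit 566)) (Tr.lf (nat_lit 426)))))))) (Tr.nd (nat_lit 590) (Tr.nd (nat_lit 581) (Tr.nd (nat_lit 577) (Tr.nd (nat_lit 575) (Tr.nd (nat_lit 574) (Tr.lf (nat_lit 547)) (Tr.lf (nat_lit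 410))) (Tr.nd (nat_lit 576) (Tr.lf (nat_lit 420)) (Tr.lf (nat_lit 425)))) (Tr.nd (nat_lit 579) (Tr.nd (nat_lit 578) (Tr.lf (nat_lit 444)) (Tr.lf (nat_lit 565))) (Tr.nd (nat_lit 580) (Tr.lf (nat_lit 569)) (Tr.lf (nat_lit 542))))) (Tr.nd (nat_lit 585) (Tr.nd (nat_lit 583) (Tr.nd (nat_lit 582) (Tr.lf (nat_lit 575)) (Tr.lf (nat_lit 473))) (Tr.nd (nat_lit 584) (Tr.lf (nat_lit 582)) (Tr.lf (nat_lit 559)))) (Tr.nd (nat_lit 587) (Tr.nd (nat_lit 586) (Tr.lf (nat_lit 526)) (Tr.lf (nat_lit 411))) (Tr.nd (nat_lit 588) (Tr.lf (nat_lit 467)) (Tr.nd (nat_lit 589) (Tr.lf (nat_lit 578)) (Tr.lf (nat_lit 585))))))) (Tr.nd (nat_lit 598) (Tr.nd (nat_lit 594) (Tr.nd (nat_lit 592) (Tr.nd (nat_lit 591) (Tr.lf (nat_lit 577)) (Tr.lf (nat_lit 587))) (Tr.nd (nat_lit 593) (Tr.lf (nat_lit 591)) (Tr.lf (nat_lit 468)))) (Tr.nd (nat_lit 596)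 (Tr.nd (nat_lit 595) (Tr.lf (nat_lit 526)) (Tr.lf (nat_lit 591))) (Tr.nd (nat_lit 597) (Tr.lf (nat_lit 527)) (Tr.lf (nat_lit 595))))) (Tr.nd (nat_lit 602) (Tr.nd (nat_lit 600) (Tr.nd (nat_lit 599) (Tr.lf (nat_lit 433)) (Tr.lf (nat_lit 598))) (Tr.nd (nat_lit 601) (Tr.lf (nat_lit 588)) (Tr.lf (nat_lit 434)))) (Tr.nd (nat_lit 604) (Tr.nd (nat_lit 603) (Tr.lf (nat_lit 601)) (Tr.lf (nat_lit 601))) (Tr.nd (nat_lit 605) (Tr.lf (nat_lit 436)) (Tr.nd (nat_lit 606) (Tr.lf (nat_lit 603)) (Tr.lf (nat_lit 586))))))))) (Tr.nd (nat_lit 641) (Tr.nd (nat_lit 624) (Tr.nd (nat_lit 615) (Tr.nd (nat_lit 611) (Tr.nd (nat_lit 609) (Tr.nd (nat_lit 608) (Tr.lf (nat_lit 604)) (Tr.lf (nat_lit 541))) (Tr.nd (nat_lit 610) (Tr.lf (nat_lit 607)) (Tr.lf (nat_lit 440)))) (Tr.nd (nat_lit 613) (Tr.nd (nat_lit 612) (Tr.lf (nat_lit 500)) (Tr.lf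 (nat_lit 455))) (Tr.nd (nat_lit 614) (Tr.lf (nat_lit 602)) (Tr.lf (nat_lit 610))))) (Tr.nd (nat_lit 619) (Tr.nd (nat_lit 617) (Tr.nd (nat_lit 616) (Tr.lf (nat_lit 610)) (Tr.lf (nat_lit 610))) (Tr.nd (nat_lit 618) (Tr.lf (nat_lit 601)) (Tr.lf (nat_lit 616)))) (Tr.nd (nat_lit 621) (Tr.nd (nat_lit 620) (Tr.lf (nat_lit 614)) (Tr.lf (nat_lit 457))) (Tr.nd (nat_lit 622) (Tr.lf (nat_lit 491)) (Tr.nd (nat_lit 623) (Tr.lf (nat_lit 455)) (Tr.lf (nat_lit 472))))))) (Tr.nd (nat_lit 632) (Tr.nd (nat_lit 628) (Tr.nd (nat_lit 626) (Tr.nd (nat_lit 625) (Tr.lf (nat_lit 620)) (Tr.lf (nat_lit 503))) (Tr.nd (nat_lit 627) (Tr.lf (nat_lit 622)) (Tr.lf (nat_lit 626)))) (Tr.nd (nat_lit 630) (Tr.nd (nat_lit 629) (Tr.lf (nat_lit 574)) (Tr.lf (nat_lit 567))) (Tr.nd (nat_lit 631) (Tr.lf (nat_lit 629)) (Tr.lf (nat_lit 486))))) (Tr.nd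 (nat_lit 636) (Tr.nd (nat_lit 634) (Tr.nd (nat_lit 633) (Tr.lf (nat_lit 477)) (Tr.lf (nat_lit 452))) (Tr.nd (nat_lit 635) (Tr.lf (nat_lit 633)) (Tr.lf (nat_lit 619)))) (Tr.nd (nat_lit 638) (Tr.nd (nat_lit 637) (Tr.lf (nat_lit 519)) (Tr.lf (nat_lit 635))) (Tr.nd (nat_lit 639) (Tr.lf (nat_lit 490)) (Tr.nd (nat_lit 640) (Tr.lf (nat_lit 481)) (Tr.lf (nat_lit 536)))))))) (Tr.nd (nat_lit 658) (Tr.nd (nat_lit 649) (Tr.nd (nat_lit 645) (Tr.nd (nat_lit 643) (Tr.nd (nat_lit 642) (Tr.lf (nat_lit 469)) (Tr.lf (nat_lit 641))) (Tr.nd (nat_lit 644) (Tr.lf (nat_lit 488)) (Tr.lf (nat_lit 634)))) (Tr.nd (nat_lit 647) (Tr.nd (nat_lit 646) (Tr.lf (nat_lit 644)) (Tr.lf (nat_lit 593))) (Tr.nd (nat_lit 648) (Tr.lf (nat_lit 639)) (Tr.lf (nat_lit 545))))) (Tr.nd (nat_lit 653) (Tr.nd (nat_lit 651) (Tr.nd (nat_lit 650) (Tr.lf (nat_lit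 648)) (Tr.lf (nat_lit 579))) (Tr.nd (nat_lit 652) (Tr.lf (nat_lit 631)) (Tr.lf (nat_lit 497)))) (Tr.nd (nat_lit 655) (Tr.nd (nat_lit 654) (Tr.lf (nat_lit 652)) (Tr.lf (nat_lit 653))) (Tr.nd (nat_lit 656) (Tr.lf (nat_lit 651)) (Tr.nd (nat_lit 657) (Tr.lf (nat_lit 654)) (Tr.lf (nat_lit 500))))))) (Tr.nd (nat_lit 666) (Tr.nd (nat_lit 662) (Tr.nd (nat_lit 660) (Tr.nd (nat_lit 659) (Tr.lf (nat_lit 621)) (Tr.lf (nat_lit 657))) (Tr.nd (nat_lit 661) (Tr.lf (nat_lit 566)) (Tr.lf (nat_lit 630)))) (Tr.nd (nat_lit 664) (Tr.nd (nat_lit 663) (Tr.lf (nat_lit 625)) (Tr.lf (nat_lit 527))) (Tr.nd (nat_lit 665) (Tr.lf (nat_lit 659)) (Tr.lf (nat_lit 477))))) (Tr.nd (nat_lit 670) (Tr.nd (nat_lit 668) (Tr.nd (nat_lit 667) (Tr.lf (nat_lit 611)) (Tr.lf (nat_lit 632))) (Tr.nd (nat_lit 669) (Tr.lf (nat_lit 647)) (Tr.lf (nat_lit 515))))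 (Tr.nd (nat_lit 672) (Tr.nd (nat_lit 671) (Tr.lf (nat_lit 537)) (Tr.lf (nat_lit 665))) (Tr.nd (nat_lit 673) (Tr.lf (nat_lit 656)) (Tr.nd (nat_lit 674) (Tr.lf (nat_lit 516)) (Tr.lf (nat_lit 533)))))))))) (Tr.nd (nat_lit 742) (Tr.nd (nat_lit 708) (Tr.nd (nat_lit 691) (Tr.nd (nat_lit 683) (Tr.nd (nat_lit 679) (Tr.nd (nat_lit 677) (Tr.nd (nat_lit 676) (Tr.lf (nat_lit 653)) (Tr.lf (nat_lit 674))) (Tr.nd (nat_lit 678) (Tr.lf (nat_lit 517)) (Tr.lf (nat_lit 668)))) (Tr.nd (nat_lit 681) (Tr.nd (nat_lit 680) (Tr.lf (nat_lit 623)) (Tr.lf (nat_lit 679))) (Tr.nd (nat_lit 682) (Tr.lf (nat_lit 658)) (Tr.lf (nat_lit 515))))) (Tr.nd (nat_lit 687) (Tr.nd (nat_lit 685) (Tr.nd (nat_lit 684) (Tr.lf (nat_lit 672)) (Tr.lf (nat_lit 636))) (Tr.nd (nat_lit 686) (Tr.lf (nat_lit 681)) (Tr.lf (nat_lit 666)))) (Tr.nd (nat_lit 689) (Tr.nd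 (nat_lit 688) (Tr.lf (nat_lit 652)) (Tr.lf (nat_lit 670))) (Tr.nd (nat_lit 690) (Tr.lf (nat_lit 676)) (Tr.lf (nat_lit 548)))))) (Tr.nd (nat_lit 699) (Tr.nd (nat_lit 695) (Tr.nd (nat_lit 693) (Tr.nd (nat_lit 692) (Tr.lf (nat_lit 588)) (Tr.lf (nat_lit 687))) (Tr.nd (nat_lit 694) (Tr.lf (nat_lit 636)) (Tr.lf (nat_lit 673)))) (Tr.nd (nat_lit 697) (Tr.nd (nat_lit 696) (Tr.lf (nat_lit 691)) (Tr.lf (nat_lit 686))) (Tr.nd (nat_lit 698) (Tr.lf (nat_lit 695)) (Tr.lf (nat_lit 600))))) (Tr.nd (nat_lit 703) (Tr.nd (nat_lit 701) (Tr.nd (nat_lit 700) (Tr.lf (nat_lit 696)) (Tr.lf (nat_lit 684))) (Tr.nd (nat_lit 702) (Tr.lf (nat_lit 694)) (Tr.lf (nat_lit 701)))) (Tr.nd (nat_lit 705) (Tr.nd (nat_lit 704) (Tr.lf (nat_lit 669)) (Tr.lf (nat_lit 703))) (Tr.nd (nat_lit 706) (Tr.lf (nat_lit 690)) (Tr.nd (nat_lit 707) (Tr.lf (nat_lit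 632)) (Tr.lf (nat_lit 698)))))))) (Tr.nd (nat_lit 725) (Tr.nd (nat_lit 716) (Tr.nd (nat_lit 712) (Tr.nd (nat_lit 710) (Tr.nd (nat_lit 709) (Tr.lf (nat_lit 667)) (Tr.lf (nat_lit 581))) (Tr.nd (nat_lit 711) (Tr.lf (nat_lit 706)) (Tr.lf (nat_lit 680)))) (Tr.nd (nat_lit 714) (Tr.nd (nat_lit 713) (Tr.lf (nat_lit 674)) (Tr.lf (nat_lit 709))) (Tr.nd (nat_lit 715) (Tr.lf (nat_lit 594)) (Tr.lf (nat_lit 682))))) (Tr.nd (nat_lit 720) (Tr.nd (nat_lit 718) (Tr.nd (nat_lit 717) (Tr.lf (nat_lit 693)) (Tr.lf (nat_lit 551))) (Tr.nd (nat_lit 719) (Tr.lf (nat_lit 670)) (Tr.lf (nat_lit 640)))) (Tr.nd (nat_lit 722) (Tr.nd (nat_lit 721) (Tr.lf (nat_lit 660)) (Tr.lf (nat_lit 671))) (Tr.nd (nat_lit 723) (Tr.lf (nat_lit 665)) (Tr.nd (nat_lit 724) (Tr.lf (nat_lit 719)) (Tr.lf (nat_lit 542))))))) (Tr.nd (nat_lit 733) (Tr.nd (nat_lit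 729) (Tr.nd (nat_lit 727) (Tr.nd (nat_lit 726) (Tr.lf (nat_lit 558)) (Tr.lf (nat_lit 564))) (Tr.nd (nat_lit 728) (Tr.lf (nat_lit 645)) (Tr.lf (nat_lit 555)))) (Tr.nd (nat_lit 731) (Tr.nd (nat_lit 730) (Tr.lf (nat_lit 642)) (Tr.lf (nat_lit 726))) (Tr.nd (nat_lit 732) (Tr.lf (nat_lit 554)) (Tr.lf (nat_lit 659))))) (Tr.nd (nat_lit 737) (Tr.nd (nat_lit 735) (Tr.nd (nat_lit 734) (Tr.lf (nat_lit 731)) (Tr.lf (nat_lit 553))) (Tr.nd (nat_lit 736) (Tr.lf (nat_lit 568)) (Tr.lf (nat_lit 671)))) (Tr.nd (nat_lit 739) (Tr.nd (nat_lit 738) (Tr.lf (nat_lit 734)) (Tr.lf (nat_lit 737))) (Tr.nd (nat_lit 740) (Tr.lf (nat_lit 724)) (Tr.nd (nat_lit 741) (Tr.lf (nat_lit 596)) (Tr.lf (nat_lit 573))))))))) (Tr.nd (nat_lit 776) (Tr.nd (nat_lit 759) (Tr.nd (nat_lit 750) (Tr.nd (nat_lit 746) (Tr.nd (nat_lit 744) (Tr.nd (nat_lit 743)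 (Tr.lf (nat_lit 608)) (Tr.lf (nat_lit 735))) (Tr.nd (nat_lit 745) (Tr.lf (nat_lit 742)) (Tr.lf (nat_lit 718)))) (Tr.nd (nat_lit 748) (Tr.nd (nat_lit 747) (Tr.lf (nat_lit 743)) (Tr.lf (nat_lit 628))) (Tr.nd (nat_lit 749) (Tr.lf (nat_lit 721)) (Tr.lf (nat_lit 747))))) (Tr.nd (nat_lit 754) (Tr.nd (nat_lit 752) (Tr.nd (nat_lit 751) (Tr.lf (nat_lit 740)) (Tr.lf (nat_lit 664))) (Tr.nd (nat_lit 753) (Tr.lf (nat_lit 739)) (Tr.lf (nat_lit 571)))) (Tr.nd (nat_lit 756) (Tr.nd (nat_lit 755) (Tr.lf (nat_lit 583)) (Tr.lf (nat_lit 609))) (Tr.nd (nat_lit 757) (Tr.lf (nat_lit 752)) (Tr.nd (nat_lit 758) (Tr.lf (nat_lit 751)) (Tr.lf (nat_lit 755))))))) (Tr.nd (nat_lit 767) (Tr.nd (nat_lit 763) (Tr.nd (nat_lit 761) (Tr.nd (nat_lit 760) (Tr.lf (nat_lit 709)) (Tr.lf (nat_lit 714))) (Tr.nd (nat_lit 762) (Tr.lf (nat_lit 589)) (Tr.lf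 (nat_lit 693)))) (Tr.nd (nat_lit 765) (Tr.nd (nat_lit 764) (Tr.lf (nat_lit 728)) (Tr.lf (nat_lit 760))) (Tr.nd (nat_lit 766) (Tr.lf (nat_lit 764)) (Tr.lf (nat_lit 740))))) (Tr.nd (nat_lit 771) (Tr.nd (nat_lit 769) (Tr.nd (nat_lit 768) (Tr.lf (nat_lit 754)) (Tr.lf (nat_lit 767))) (Tr.nd (nat_lit 770) (Tr.lf (nat_lit 698)) (Tr.lf (nat_lit 663)))) (Tr.nd (nat_lit 773) (Tr.nd (nat_lit 772) (Tr.lf (nat_lit 660)) (Tr.lf (nat_lit 760))) (Tr.nd (nat_lit 774) (Tr.lf (nat_lit 740)) (Tr.nd (nat_lit 775) (Tr.lf (nat_lit 771)) (Tr.lf (nat_lit 773)))))))) (Tr.nd (nat_lit 793) (Tr.nd (nat_lit 784) (Tr.nd (nat_lit 780) (Tr.nd (nat_lit 778) (Tr.nd (nat_lit 777) (Tr.lf (nat_lit 599)) (Tr.lf (nat_lit 773))) (Tr.nd (nat_lit 779) (Tr.lf (nat_lit 763)) (Tr.lf (nat_lit 641)))) (Tr.nd (nat_lit 782) (Tr.nd (nat_lit 781) (Tr.lf (nat_lit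 640)) (Tr.lf (nat_lit 739))) (Tr.nd (nat_lit 783) (Tr.lf (nat_lit 778)) (Tr.lf (nat_lit 780))))) (Tr.nd (nat_lit 788) (Tr.nd (nat_lit 786) (Tr.nd (nat_lit 785) (Tr.lf (nat_lit 741)) (Tr.lf (nat_lit 776))) (Tr.nd (nat_lit 787) (Tr.lf (nat_lit 648)) (Tr.lf (nat_lit 719)))) (Tr.nd (nat_lit 790) (Tr.nd (nat_lit 789) (Tr.lf (nat_lit 782)) (Tr.lf (nat_lit 617))) (Tr.nd (nat_lit 791) (Tr.lf (nat_lit 749)) (Tr.nd (nat_lit 792) (Tr.lf (nat_lit 785)) (Tr.lf (nat_lit 607))))))) (Tr.nd (nat_lit 801) (Tr.nd (nat_lit 797) (Tr.nd (nat_lit 795) (Tr.nd (nat_lit 794) (Tr.lf (nat_lit 791)) (Tr.lf (nat_lit 793))) (Tr.nd (nat_lit 796) (Tr.lf (nat_lit 784)) (Tr.lf (nat_lit 725)))) (Tr.nd (nat_lit 799) (Tr.nd (nat_lit 798) (Tr.lf (nat_lit 753)) (Tr.lf (nat_lit 795))) (Tr.nd (nat_lit 800) (Tr.lf (nat_lit 755)) (Tr.lf (nat_lit 613)))))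 (Tr.nd (nat_lit 805) (Tr.nd (nat_lit 803) (Tr.nd (nat_lit 802) (Tr.lf (nat_lit 796)) (Tr.lf (nat_lit 798))) (Tr.nd (nat_lit 804) (Tr.lf (nat_lit 799)) (Tr.lf (nat_lit 800)))) (Tr.nd (nat_lit 807) (Tr.nd (nat_lit 806) (Tr.lf (nat_lit 790)) (Tr.lf (nat_lit 799))) (Tr.nd (nat_lit 808) (Tr.lf (nat_lit 806)) (Tr.nd (nat_lit 809) (Tr.lf (nat_lit 804)) (Tr.lf (nat_lit 789))))))))))) (Tr.nd (nat_lit 945) (Tr.nd (nat_lit 877) (Tr.nd (nat_lit 843) (Tr.nd (nat_lit 826) (Tr.nd (nat_lit 818) (Tr.nd (nat_lit 814) (Tr.nd (nat_lit 812) (Tr.nd (nat_lit 811) (Tr.lf (nat_lit 804)) (Tr.lf (nat_lit 619))) (Tr.nd (nat_lit 813) (Tr.lf (nat_lit 810)) (Tr.lf (nat_lit 661)))) (Tr.nd (nat_lit 816) (Tr.nd (nat_lit 815) (Tr.lf (nat_lit 809)) (Tr.lf (nat_lit 634))) (Tr.nd (nat_lit 817) (Tr.lf (nat_lit 685)) (Tr.lf (nat_lit 811))))) (Tr.nd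 (nat_lit 822) (Tr.nd (nat_lit 820) (Tr.nd (nat_lit 819) (Tr.lf (nat_lit 720)) (Tr.lf (nat_lit 775))) (Tr.nd (nat_lit 821) (Tr.lf (nat_lit 811)) (Tr.lf (nat_lit 815)))) (Tr.nd (nat_lit 824) (Tr.nd (nat_lit 823) (Tr.lf (nat_lit 816)) (Tr.lf (nat_lit 813))) (Tr.nd (nat_lit 825) (Tr.lf (nat_lit 822)) (Tr.lf (nat_lit 821)))))) (Tr.nd (nat_lit 834) (Tr.nd (nat_lit 830) (Tr.nd (nat_lit 828) (Tr.nd (nat_lit 827) (Tr.lf (nat_lit 655)) (Tr.lf (nat_lit 825))) (Tr.nd (nat_lit 829) (Tr.lf (nat_lit 768)) (Tr.lf (nat_lit 826)))) (Tr.nd (nat_lit 832) (Tr.nd (nat_lit 831) (Tr.lf (nat_lit 822)) (Tr.lf (nat_lit 649))) (Tr.nd (nat_lit 833) (Tr.lf (nat_lit 820)) (Tr.lf (nat_lit 831))))) (Tr.nd (nat_lit 838) (Tr.nd (nat_lit 836) (Tr.nd (nat_lit 835) (Tr.lf (nat_lit 723)) (Tr.lf (nat_lit 647))) (Tr.nd (nat_lit 837) (Tr.lf (nat_lit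 835)) (Tr.lf (nat_lit 754)))) (Tr.nd (nat_lit 840) (Tr.nd (nat_lit 839) (Tr.lf (nat_lit 654)) (Tr.lf (nat_lit 767))) (Tr.nd (nat_lit 841) (Tr.lf (nat_lit 838)) (Tr.nd (nat_lit 842) (Tr.lf (nat_lit 837)) (Tr.lf (nat_lit 838)))))))) (Tr.nd (nat_lit 860) (Tr.nd (nat_lit 851) (Tr.nd (nat_lit 847) (Tr.nd (nat_lit 845) (Tr.nd (nat_lit 844) (Tr.lf (nat_lit 767)) (Tr.lf (nat_lit 842))) (Tr.nd (nat_lit 846) (Tr.lf (nat_lit 688)) (Tr.lf (nat_lit 751)))) (Tr.nd (nat_lit 849) (Tr.nd (nat_lit 848) (Tr.lf (nat_lit 745)) (Tr.lf (nat_lit 845))) (Tr.nd (nat_lit 850) (Tr.lf (nat_lit 847)) (Tr.lf (nat_lit 674))))) (Tr.nd (nat_lit 855) (Tr.nd (nat_lit 853) (Tr.nd (nat_lit 852) (Tr.lf (nat_lit 676)) (Tr.lf (nat_lit 744))) (Tr.nd (nat_lit 854) (Tr.lf (nat_lit 712)) (Tr.lf (nat_lit 722)))) (Tr.nd (nat_lit 857) (Tr.nd (nat_lit 856)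 (Tr.lf (nat_lit 736)) (Tr.lf (nat_lit 770))) (Tr.nd (nat_lit 858) (Tr.lf (nat_lit 846)) (Tr.nd (nat_lit 859) (Tr.lf (nat_lit 683)) (Tr.lf (nat_lit 848))))))) (Tr.nd (nat_lit 868) (Tr.nd (nat_lit 864) (Tr.nd (nat_lit 862) (Tr.nd (nat_lit 861) (Tr.lf (nat_lit 744)) (Tr.lf (nat_lit 715))) (Tr.nd (nat_lit 863) (Tr.lf (nat_lit 710)) (Tr.lf (nat_lit 844)))) (Tr.nd (nat_lit 866) (Tr.nd (nat_lit 865) (Tr.lf (nat_lit 857)) (Tr.lf (nat_lit 860))) (Tr.nd (nat_lit 867) (Tr.lf (nat_lit 862)) (Tr.lf (nat_lit 700))))) (Tr.nd (nat_lit 872) (Tr.nd (nat_lit 870) (Tr.nd (nat_lit 869) (Tr.lf (nat_lit 696)) (Tr.lf (nat_lit 689))) (Tr.nd (nat_lit 871) (Tr.lf (nat_lit 869)) (Tr.lf (nat_lit 861)))) (Tr.nd (nat_lit 874) (Tr.nd (nat_lit 873) (Tr.lf (nat_lit 680)) (Tr.lf (nat_lit 708))) (Tr.nd (nat_lit 875) (Tr.lf (nat_lit 872)) (Tr.nd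 (nat_lit 876) (Tr.lf (nat_lit 732)) (Tr.lf (nat_lit 758))))))))) (Tr.nd (nat_lit 911) (Tr.nd (nat_lit 894) (Tr.nd (nat_lit 885) (Tr.nd (nat_lit 881) (Tr.nd (nat_lit 879) (Tr.nd (nat_lit 878) (Tr.lf (nat_lit 866)) (Tr.lf (nat_lit 851))) (Tr.nd (nat_lit 880) (Tr.lf (nat_lit 707)) (Tr.lf (nat_lit 845)))) (Tr.nd (nat_lit 883) (Tr.nd (nat_lit 882) (Tr.lf (nat_lit 872)) (Tr.lf (nat_lit 880))) (Tr.nd (nat_lit 884) (Tr.lf (nat_lit 863)) (Tr.lf (nat_lit 873))))) (Tr.nd (nat_lit 889) (Tr.nd (nat_lit 887) (Tr.nd (nat_lit 886) (Tr.lf (nat_lit 769)) (Tr.lf (nat_lit 879))) (Tr.nd (nat_lit 888) (Tr.lf (nat_lit 873)) (Tr.lf (nat_lit 829)))) (Tr.nd (nat_lit 891) (Tr.nd (nat_lit 890) (Tr.lf (nat_lit 848)) (Tr.lf (nat_lit 716))) (Tr.nd (nat_lit 892) (Tr.lf (nat_lit 890)) (Tr.nd (nat_lit 893) (Tr.lf (nat_lit 695)) (Tr.lf (nat_lit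 842))))))) (Tr.nd (nat_lit 902) (Tr.nd (nat_lit 898) (Tr.nd (nat_lit 896) (Tr.nd (nat_lit 895) (Tr.lf (nat_lit 723)) (Tr.lf (nat_lit 874))) (Tr.nd (nat_lit 897) (Tr.lf (nat_lit 884)) (Tr.lf (nat_lit 892)))) (Tr.nd (nat_lit 900) (Tr.nd (nat_lit 899) (Tr.lf (nat_lit 863)) (Tr.lf (nat_lit 818))) (Tr.nd (nat_lit 901) (Tr.lf (nat_lit 896)) (Tr.lf (nat_lit 878))))) (Tr.nd (nat_lit 906) (Tr.nd (nat_lit 904) (Tr.nd (nat_lit 903) (Tr.lf (nat_lit 879)) (Tr.lf (nat_lit 895))) (Tr.nd (nat_lit 905) (Tr.lf (nat_lit 902)) (Tr.lf (nat_lit 900)))) (Tr.nd (nat_lit 908) (Tr.nd (nat_lit 907) (Tr.lf (nat_lit 905)) (Tr.lf (nat_lit 889))) (Tr.nd (nat_lit 909) (Tr.lf (nat_lit 904)) (Tr.nd (nat_lit 910) (Tr.lf (nat_lit 746)) (Tr.lf (nat_lit 908)))))))) (Tr.nd (nat_lit 928) (Tr.nd (nat_lit 919) (Tr.nd (nat_lit 915) (Tr.nd (nat_lit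 913) (Tr.nd (nat_lit 912) (Tr.lf (nat_lit 875)) (Tr.lf (nat_lit 757))) (Tr.nd (nat_lit 914) (Tr.lf (nat_lit 907)) (Tr.lf (nat_lit 834)))) (Tr.nd (nat_lit 917) (Tr.nd (nat_lit 916) (Tr.lf (nat_lit 737)) (Tr.lf (nat_lit 915))) (Tr.nd (nat_lit 918) (Tr.lf (nat_lit 916)) (Tr.lf (nat_lit 914))))) (Tr.nd (nat_lit 923) (Tr.nd (nat_lit 921) (Tr.nd (nat_lit 920) (Tr.lf (nat_lit 756)) (Tr.lf (nat_lit 762))) (Tr.nd (nat_lit 922) (Tr.lf (nat_lit 730)) (Tr.lf (nat_lit 781)))) (Tr.nd (nat_lit 925) (Tr.nd (nat_lit 924) (Tr.lf (nat_lit 922)) (Tr.lf (nat_lit 894))) (Tr.nd (nat_lit 926) (Tr.lf (nat_lit 921)) (Tr.nd (nat_lit 927) (Tr.lf (nat_lit 911)) (Tr.lf (nat_lit 923))))))) (Tr.nd (nat_lit 936) (Tr.nd (nat_lit 932) (Tr.nd (nat_lit 930) (Tr.nd (nat_lit 929) (Tr.lf (nat_lit 832)) (Tr.lf (nat_lit 867))) (Tr.nd (nat_lit 931)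 (Tr.lf (nat_lit 750)) (Tr.lf (nat_lit 926)))) (Tr.nd (nat_lit 934) (Tr.nd (nat_lit 933) (Tr.lf (nat_lit 855)) (Tr.lf (nat_lit 918))) (Tr.nd (nat_lit 935) (Tr.lf (nat_lit 928)) (Tr.lf (nat_lit 933))))) (Tr.nd (nat_lit 940) (Tr.nd (nat_lit 938) (Tr.nd (nat_lit 937) (Tr.lf (nat_lit 932)) (Tr.lf (nat_lit 936))) (Tr.nd (nat_lit 939) (Tr.lf (nat_lit 766)) (Tr.lf (nat_lit 924)))) (Tr.nd (nat_lit 942) (Tr.nd (nat_lit 941) (Tr.lf (nat_lit 919)) (Tr.lf (nat_lit 920))) (Tr.nd (nat_lit 943) (Tr.lf (nat_lit 765)) (Tr.nd (nat_lit 944) (Tr.lf (nat_lit 875)) (Tr.lf (nat_lit 911)))))))))) (Tr.nd (nat_lit 1013) (Tr.nd (nat_lit 979) (Tr.nd (nat_lit 962) (Tr.nd (nat_lit 953) (Tr.nd (nat_lit 949) (Tr.nd (nat_lit 947) (Tr.nd (nat_lit 946) (Tr.lf (nat_lit 929)) (Tr.lf (nat_lit 942))) (Tr.nd (nat_lit 948) (Tr.lf (nat_lit 922)) (Tr.lf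 (nat_lit 774)))) (Tr.nd (nat_lit 951) (Tr.nd (nat_lit 950) (Tr.lf (nat_lit 899)) (Tr.lf (nat_lit 912))) (Tr.nd (nat_lit 952) (Tr.lf (nat_lit 920)) (Tr.lf (nat_lit 950))))) (Tr.nd (nat_lit 957) (Tr.nd (nat_lit 955) (Tr.nd (nat_lit 954) (Tr.lf (nat_lit 952)) (Tr.lf (nat_lit 952))) (Tr.nd (nat_lit 956) (Tr.lf (nat_lit 944)) (Tr.lf (nat_lit 954)))) (Tr.nd (nat_lit 959) (Tr.nd (nat_lit 958) (Tr.lf (nat_lit 872)) (Tr.lf (nat_lit 945))) (Tr.nd (nat_lit 960) (Tr.lf (nat_lit 958)) (Tr.nd (nat_lit 961) (Tr.lf (nat_lit 830)) (Tr.lf (nat_lit 960))))))) (Tr.nd (nat_lit 970) (Tr.nd (nat_lit 966) (Tr.nd (nat_lit 964) (Tr.nd (nat_lit 963) (Tr.lf (nat_lit 961)) (Tr.lf (nat_lit 962))) (Tr.nd (nat_lit 965) (Tr.lf (nat_lit 947)) (Tr.lf (nat_lit 864)))) (Tr.nd (nat_lit 968) (Tr.nd (nat_lit 967) (Tr.lf (nat_lit 868)) (Tr.lf (nat_lit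 881))) (Tr.nd (nat_lit 969) (Tr.lf (nat_lit 888)) (Tr.lf (nat_lit 885))))) (Tr.nd (nat_lit 974) (Tr.nd (nat_lit 972) (Tr.nd (nat_lit 971) (Tr.lf (nat_lit 782)) (Tr.lf (nat_lit 833))) (Tr.nd (nat_lit 973) (Tr.lf (nat_lit 924)) (Tr.lf (nat_lit 836)))) (Tr.nd (nat_lit 976) (Tr.nd (nat_lit 975) (Tr.lf (nat_lit 788)) (Tr.lf (nat_lit 973))) (Tr.nd (nat_lit 977) (Tr.lf (nat_lit 808)) (Tr.nd (nat_lit 978) (Tr.lf (nat_lit 798)) (Tr.lf (nat_lit 817)))))))) (Tr.nd (nat_lit 996) (Tr.nd (nat_lit 987) (Tr.nd (nat_lit 983) (Tr.nd (nat_lit 981) (Tr.nd (nat_lit 980) (Tr.lf (nat_lit 877)) (Tr.lf (nat_lit 975))) (Tr.nd (nat_lit 982) (Tr.lf (nat_lit 969)) (Tr.lf (nat_lit 977)))) (Tr.nd (nat_lit 985) (Tr.nd (nat_lit 984) (Tr.lf (nat_lit 967)) (Tr.lf (nat_lit 808))) (Tr.nd (nat_lit 986) (Tr.lf (nat_lit 820)) (Tr.lf (nat_lit 925)))))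 (Tr.nd (nat_lit 991) (Tr.nd (nat_lit 989) (Tr.nd (nat_lit 988) (Tr.lf (nat_lit 807)) (Tr.lf (nat_lit 978))) (Tr.nd (nat_lit 990) (Tr.lf (nat_lit 963)) (Tr.lf (nat_lit 985)))) (Tr.nd (nat_lit 993) (Tr.nd (nat_lit 992) (Tr.lf (nat_lit 976)) (Tr.lf (nat_lit 987))) (Tr.nd (nat_lit 994) (Tr.lf (nat_lit 988)) (Tr.nd (nat_lit 995) (Tr.lf (nat_lit 991)) (Tr.lf (nat_lit 994))))))) (Tr.nd (nat_lit 1004) (Tr.nd (nat_lit 1000) (Tr.nd (nat_lit 998) (Tr.nd (nat_lit 997) (Tr.lf (nat_lit 812)) (Tr.lf (nat_lit 996))) (Tr.nd (nat_lit 999) (Tr.lf (nat_lit 893)) (Tr.lf (nat_lit 960)))) (Tr.nd (nat_lit 1002) (Tr.nd (nat_lit 1001) (Tr.lf (nat_lit 824)) (Tr.lf (nat_lit 825))) (Tr.nd (nat_lit 1003) (Tr.lf (nat_lit 1000)) (Tr.lf (nat_lit 970))))) (Tr.nd (nat_lit 1008) (Tr.nd (nat_lit 1006) (Tr.nd (nat_lit 1005) (Tr.lf (nat_lit 941))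 (Tr.lf (nat_lit 857))) (Tr.nd (nat_lit 1007) (Tr.lf (nat_lit 857)) (Tr.lf (nat_lit 1005)))) (Tr.nd (nat_lit 1010) (Tr.nd (nat_lit 1009) (Tr.lf (nat_lit 878)) (Tr.lf (nat_lit 1006))) (Tr.nd (nat_lit 1011) (Tr.lf (nat_lit 1009)) (Tr.nd (nat_lit 1012) (Tr.lf (nat_lit 998)) (Tr.lf (nat_lit 933))))))))) (Tr.nd (nat_lit 1047) (Tr.nd (nat_lit 1030) (Tr.nd (nat_lit 1021) (Tr.nd (nat_lit 1017) (Tr.nd (nat_lit 1015) (Tr.nd (nat_lit 1014) (Tr.lf (nat_lit 934)) (Tr.lf (nat_lit 979))) (Tr.nd (nat_lit 1016) (Tr.lf (nat_lit 1014)) (Tr.lf (nat_lit 1001)))) (Tr.nd (nat_lit 1019) (Tr.nd (nat_lit 1018) (Tr.lf (nat_lit 1011)) (Tr.lf (nat_lit 895))) (Tr.nd (nat_lit 1020) (Tr.lf (nat_lit 1016)) (Tr.lf (nat_lit 907))))) (Tr.nd (nat_lit 1025) (Tr.nd (nat_lit 1023) (Tr.nd (nat_lit 1022) (Tr.lf (nat_lit 923)) (Tr.lf (nat_lit 898)))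 (Tr.nd (nat_lit 1024) (Tr.lf (nat_lit 1022)) (Tr.lf (nat_lit 1015)))) (Tr.nd (nat_lit 1027) (Tr.nd (nat_lit 1026) (Tr.lf (nat_lit 1017)) (Tr.lf (nat_lit 969))) (Tr.nd (nat_lit 1028) (Tr.lf (nat_lit 901)) (Tr.nd (nat_lit 1029) (Tr.lf (nat_lit 1024)) (Tr.lf (nat_lit 886))))))) (Tr.nd (nat_lit 1038) (Tr.nd (nat_lit 1034) (Tr.nd (nat_lit 1032) (Tr.nd (nat_lit 1031) (Tr.lf (nat_lit 1018)) (Tr.lf (nat_lit 1015))) (Tr.nd (nat_lit 1033) (Tr.lf (nat_lit 891)) (Tr.lf (nat_lit 903)))) (Tr.nd (nat_lit 1036) (Tr.nd (nat_lit 1035) (Tr.lf (nat_lit 1032)) (Tr.lf (nat_lit 1031))) (Tr.nd (nat_lit 1037) (Tr.lf (nat_lit 1008)) (Tr.lf (nat_lit 1004))))) (Tr.nd (nat_lit 1042) (Tr.nd (nat_lit 1040) (Tr.nd (nat_lit 1039) (Tr.lf (nat_lit 1035)) (Tr.lf (nat_lit 1026))) (Tr.nd (nat_lit 1041) (Tr.lf (nat_lit 1028)) (Tr.lf (nat_lit 1040))))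 (Tr.nd (nat_lit 1044) (Tr.nd (nat_lit 1043) (Tr.lf (nat_lit 1020)) (Tr.lf (nat_lit 1036))) (Tr.nd (nat_lit 1045) (Tr.lf (nat_lit 1016)) (Tr.nd (nat_lit 1046) (Tr.lf (nat_lit 1017)) (Tr.lf (nat_lit 905)))))))) (Tr.nd (nat_lit 1064) (Tr.nd (nat_lit 1055) (Tr.nd (nat_lit 1051) (Tr.nd (nat_lit 1049) (Tr.nd (nat_lit 1048) (Tr.lf (nat_lit 1044)) (Tr.lf (nat_lit 1046))) (Tr.nd (nat_lit 1050) (Tr.lf (nat_lit 908)) (Tr.lf (nat_lit 944)))) (Tr.nd (nat_lit 1053) (Tr.nd (nat_lit 1052) (Tr.lf (nat_lit 1033)) (Tr.lf (nat_lit 1027))) (Tr.nd (nat_lit 1054) (Tr.lf (nat_lit 1023)) (Tr.lf (nat_lit 971))))) (Tr.nd (nat_lit 1059) (Tr.nd (nat_lit 1057) (Tr.nd (nat_lit 1056) (Tr.lf (nat_lit 1034)) (Tr.lf (nat_lit 974))) (Tr.nd (nat_lit 1058) (Tr.lf (nat_lit 964)) (Tr.lf (nat_lit 1021)))) (Tr.nd (nat_lit 1061) (Tr.nd (nat_lit 1060)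 (Tr.lf (nat_lit 972)) (Tr.lf (nat_lit 1058))) (Tr.nd (nat_lit 1062) (Tr.lf (nat_lit 1060)) (Tr.nd (nat_lit 1063) (Tr.lf (nat_lit 1014)) (Tr.lf (nat_lit 1042))))))) (Tr.nd (nat_lit 1072) (Tr.nd (nat_lit 1068) (Tr.nd (nat_lit 1066) (Tr.nd (nat_lit 1065) (Tr.lf (nat_lit 990)) (Tr.lf (nat_lit 1063))) (Tr.nd (nat_lit 1067) (Tr.lf (nat_lit 1065)) (Tr.lf (nat_lit 972)))) (Tr.nd (nat_lit 1070) (Tr.nd (nat_lit 1069) (Tr.lf (nat_lit 1045)) (Tr.lf (nat_lit 937))) (Tr.nd (nat_lit 1071) (Tr.lf (nat_lit 1059)) (Tr.lf (nat_lit 1070))))) (Tr.nd (nat_lit 1076) (Tr.nd (nat_lit 1074) (Tr.nd (nat_lit 1073) (Tr.lf (nat_lit 1069)) (Tr.lf (nat_lit 1072))) (Tr.nd (nat_lit 1075) (Tr.lf (nat_lit 1068)) (Tr.lf (nat_lit 1055)))) (Tr.nd (nat_lit 1078) (Tr.nd (nat_lit 1077) (Tr.lf (nat_lit 1009)) (Tr.lf (nat_lit 954))) (Tr.nd (nat_lit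 1079) (Tr.lf (nat_lit 1030)) (Tr.nd (nat_lit 1080) (Tr.lf (nat_lit 962)) (Tr.lf (nat_lit 999)))))))))))))
noncomputable def mini0Q : Tr ℕ := (Tr.nd (nat_lit 540) (Tr.nd (nat_lit 270) (Tr.nd (nat_lit 135) (Tr.nd (nat_lit 67) (Tr.nd (nat_lit 33) (Tr.nd (nat_lit 16) (Tr.nd (nat_lit 8) (Tr.nd (nat_lit 4) (Tr.nd (nat_lit 2) (Tr.nd (nat_lit 1) (Tr.lf (nat_lit 0)) (Tr.lf (nat_lit 0))) (Tr.nd (nat_lit 3) (Tr.lf (nat_lit 1)) (Tr.lf (nat_lit 0)))) (Tr.nd (nat_lit 6) (Tr.nd (nat_lit 5) (Tr.lf (nat_lit 1)) (Tr.lf (nat_lit 0))) (Tr.nd (nat_lit 7) (Tr.lf (nat_lit 2)) (Tr.lf (nat_lit 1))))) (Tr.nd (nat_lit 12) (Tr.nd (nat_lit 10) (Tr.nd (nat_lit 9) (Tr.lf (nat_lit 0)) (Tr.lf (nat_lit 1))) (Tr.nd (nat_lit 11) (Tr.lf (nat_lit 2)) (Tr.lf (nat_lit 0)))) (Tr.nd (nat_lit 14) (Tr.nd (nat_lit 13) (Tr.lf (nat_lit 1)) (Tr.lf (nat_lit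 0))) (Tr.nd (nat_lit 15) (Tr.lf (nat_lit 1)) (Tr.lf (nat_lit 2)))))) (Tr.nd (nat_lit 24) (Tr.nd (nat_lit 20) (Tr.nd (nat_lit 18) (Tr.nd (nat_lit 17) (Tr.lf (nat_lit 0)) (Tr.lf (nat_lit 0))) (Tr.nd (nat_lit 19) (Tr.lf (nat_lit 3)) (Tr.lf (nat_lit 3)))) (Tr.nd (nat_lit 22) (Tr.nd (nat_lit 21) (Tr.lf (nat_lit 0)) (Tr.lf (nat_lit 0))) (Tr.nd (nat_lit 23) (Tr.lf (nat_lit 1)) (Tr.lf (nat_lit 0))))) (Tr.nd (nat_lit 28) (Tr.nd (nat_lit 26) (Tr.nd (nat_lit 25) (Tr.lf (nat_lit 2)) (Tr.lf (nat_lit 0))) (Tr.nd (nat_lit 27) (Tr.lf (nat_lit 2)) (Tr.lf (nat_lit 0)))) (Tr.nd (nat_lit 30) (Tr.nd (nat_lit 29) (Tr.lf (nat_lit 1)) (Tr.lf (nat_lit 2))) (Tr.nd (nat_lit 31) (Tr.lf (nat_lit 1)) (Tr.nd (nat_lit 32) (Tr.lf (nat_lit 3)) (Tr.lf (nat_lit 3)))))))) (Tr.nd (nat_lit 50) (Tr.nd (nat_lit 41) (Tr.nd (nat_lit 37) (Tr.nd (nat_lit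 35) (Tr.nd (nat_lit 34) (Tr.lf (nat_lit 2)) (Tr.lf (nat_lit 3))) (Tr.nd (nat_lit 36) (Tr.lf (nat_lit 3)) (Tr.lf (nat_lit 0)))) (Tr.nd (nat_lit 39) (Tr.nd (nat_lit 38) (Tr.lf (nat_lit 1)) (Tr.lf (nat_lit 0))) (Tr.nd (nat_lit 40) (Tr.lf (nat_lit 3)) (Tr.lf (nat_lit 3))))) (Tr.nd (nat_lit 45) (Tr.nd (nat_lit 43) (Tr.nd (nat_lit 42) (Tr.lf (nat_lit 3)) (Tr.lf (nat_lit 0))) (Tr.nd (nat_lit 44) (Tr.lf (nat_lit 1)) (Tr.lf (nat_lit 3)))) (Tr.nd (nat_lit 47) (Tr.nd (nat_lit 46) (Tr.lf (nat_lit 1)) (Tr.lf (nat_lit 1))) (Tr.nd (nat_lit 48) (Tr.lf (nat_lit 1)) (Tr.nd (nat_lit 49) (Tr.lf (nat_lit 2)) (Tr.lf (nat_lit 3))))))) (Tr.nd (nat_lit 58) (Tr.nd (nat_lit 54) (Tr.nd (nat_lit 52) (Tr.nd (nat_lit 51) (Tr.lf (nat_lit 1)) (Tr.lf (nat_lit 3))) (Tr.nd (nat_lit 53) (Tr.lf (nat_lit 0)) (Tr.lf (nat_lit 2)))) (Tr.nd (nat_lit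 56) (Tr.nd (nat_lit 55) (Tr.lf (nat_lit 2)) (Tr.lf (nat_lit 2))) (Tr.nd (nat_lit 57) (Tr.lf (nat_lit 1)) (Tr.lf (nat_lit 1))))) (Tr.nd (nat_lit 62) (Tr.nd (nat_lit 60) (Tr.nd (nat_lit 59) (Tr.lf (nat_lit 1)) (Tr.lf (nat_lit 0))) (Tr.nd (nat_lit 61) (Tr.lf (nat_lit 1)) (Tr.lf (nat_lit 2)))) (Tr.nd (nat_lit 64) (Tr.nd (nat_lit 63) (Tr.lf (nat_lit 0)) (Tr.lf (nat_lit 0))) (Tr.nd (nat_lit 65) (Tr.lf (nat_lit 0)) (Tr.nd (nat_lit 66) (Tr.lf (nat_lit 3)) (Tr.lf (nat_lit 0))))))))) (Tr.nd (nat_lit 101) (Tr.nd (nat_lit 84) (Tr.nd (nat_lit 75) (Tr.nd (nat_lit 71) (Tr.nd (nat_lit 69) (Tr.nd (nat_lit 68) (Tr.lf (nat_lit 0)) (Tr.lf (nat_lit 3))) (Tr.nd (nat_lit 70) (Tr.lf (nat_lit 2)) (Tr.lf (nat_lit 2)))) (Tr.nd (nat_lit 73) (Tr.nd (nat_lit 72) (Tr.lf (nat_lit 0)) (Tr.lf (nat_lit 2))) (Tr.nd (nat_lit 74) (Tr.lf (nat_lit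 3)) (Tr.lf (nat_lit 2))))) (Tr.nd (nat_lit 79) (Tr.nd (nat_lit 77) (Tr.nd (nat_lit 76) (Tr.lf (nat_lit 3)) (Tr.lf (nat_lit 2))) (Tr.nd (nat_lit 78) (Tr.lf (nat_lit 0)) (Tr.lf (nat_lit 2)))) (Tr.nd (nat_lit 81) (Tr.nd (nat_lit 80) (Tr.lf (nat_lit 0)) (Tr.lf (nat_lit 2))) (Tr.nd (nat_lit 82) (Tr.lf (nat_lit 2)) (Tr.nd (nat_lit 83) (Tr.lf (nat_lit 0)) (Tr.lf (nat_lit 2))))))) (Tr.nd (nat_lit 92) (Tr.nd (nat_lit 88) (Tr.nd (nat_lit 86) (Tr.nd (nat_lit 85) (Tr.lf (nat_lit 1)) (Tr.lf (nat_lit 3))) (Tr.nd (nat_lit 87) (Tr.lf (nat_lit 2)) (Tr.lf (nat_lit 1)))) (Tr.nd (nat_lit 90) (Tr.nd (nat_lit 89) (Tr.lf (nat_lit 3)) (Tr.lf (nat_lit 2))) (Tr.nd (nat_lit 91) (Tr.lf (nat_lit 2)) (Tr.lf (nat_lit 2))))) (Tr.nd (nat_lit 96) (Tr.nd (nat_lit 94) (Tr.nd (nat_lit 93) (Tr.lf (nat_lit 2)) (Tr.lf (nat_lit 2))) (Tr.nd (nat_lit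 95) (Tr.lf (nat_lit 3)) (Tr.lf (nat_lit 2)))) (Tr.nd (nat_lit 98) (Tr.nd (nat_lit 97) (Tr.lf (nat_lit 3)) (Tr.lf (nat_lit 3))) (Tr.nd (nat_lit 99) (Tr.lf (nat_lit 0)) (Tr.nd (nat_lit 100) (Tr.lf (nat_lit 1)) (Tr.lf (nat_lit 1)))))))) (Tr.nd (nat_lit 118) (Tr.nd (nat_lit 109) (Tr.nd (nat_lit 105) (Tr.nd (nat_lit 103) (Tr.nd (nat_lit 102) (Tr.lf (nat_lit 0)) (Tr.lf (nat_lit 3))) (Tr.nd (nat_lit 104) (Tr.lf (nat_lit 3)) (Tr.lf (nat_lit 3)))) (Tr.nd (nat_lit 107) (Tr.nd (nat_lit 106) (Tr.lf (nat_lit 1)) (Tr.lf (nat_lit 2))) (Tr.nd (nat_lit 108) (Tr.lf (nat_lit 2)) (Tr.lf (nat_lit 3))))) (Tr.nd (nat_lit 113) (Tr.nd (nat_lit 111) (Tr.nd (nat_lit 110) (Tr.lf (nat_lit 2)) (Tr.lf (nat_lit 2))) (Tr.nd (nat_lit 112) (Tr.lf (nat_lit 2)) (Tr.lf (nat_lit 3)))) (Tr.nd (nat_lit 115) (Tr.nd (nat_lit 114) (Tr.lf (nat_lit 2))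 (Tr.lf (nat_lit 1))) (Tr.nd (nat_lit 116) (Tr.lf (nat_lit 0)) (Tr.nd (nat_lit 117) (Tr.lf (nat_lit 3)) (Tr.lf (nat_lit 1))))))) (Tr.nd (nat_lit 126) (Tr.nd (nat_lit 122) (Tr.nd (nat_lit 120) (Tr.nd (nat_lit 119) (Tr.lf (nat_lit 1)) (Tr.lf (nat_lit 3))) (Tr.nd (nat_lit 121) (Tr.lf (nat_lit 3)) (Tr.lf (nat_lit 2)))) (Tr.nd (nat_lit 124) (Tr.nd (nat_lit 123) (Tr.lf (nat_lit 1)) (Tr.lf (nat_lit 2))) (Tr.nd (nat_lit 125) (Tr.lf (nat_lit 1)) (Tr.lf (nat_lit 3))))) (Tr.nd (nat_lit 130) (Tr.nd (nat_lit 128) (Tr.nd (nat_lit 127) (Tr.lf (nat_lit 3)) (Tr.lf (nat_lit 1))) (Tr.nd (nat_lit 129) (Tr.lf (nat_lit 3)) (Tr.lf (nat_lit 2)))) (Tr.nd (nat_lit 132) (Tr.nd (nat_lit 131) (Tr.lf (nat_lit 2)) (Tr.lf (nat_lit 3))) (Tr.nd (nat_lit 133) (Tr.lf (nat_lit 2)) (Tr.nd (nat_lit 134) (Tr.lf (nat_lit 1)) (Tr.lf (nat_lit 3))))))))))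 (Tr.nd (nat_lit 202) (Tr.nd (nat_lit 168) (Tr.nd (nat_lit 151) (Tr.nd (nat_lit 143) (Tr.nd (nat_lit 139) (Tr.nd (nat_lit 137) (Tr.nd (nat_lit 136) (Tr.lf (nat_lit 2)) (Tr.lf (nat_lit 2))) (Tr.nd (nat_lit 138) (Tr.lf (nat_lit 1)) (Tr.lf (nat_lit 1)))) (Tr.nd (nat_lit 141) (Tr.nd (nat_lit 140) (Tr.lf (nat_lit 3)) (Tr.lf (nat_lit 2))) (Tr.nd (nat_lit 142) (Tr.lf (nat_lit 3)) (Tr.lf (nat_lit 2))))) (Tr.nd (nat_lit 147) (Tr.nd (nat_lit 145) (Tr.nd (nat_lit 144) (Tr.lf (nat_lit 3)) (Tr.lf (nat_lit 1))) (Tr.nd (nat_lit 146) (Tr.lf (nat_lit 3)) (Tr.lf (nat_lit 2)))) (Tr.nd (nat_lit 149) (Tr.nd (nat_lit 148) (Tr.lf (nat_lit 1)) (Tr.lf (nat_lit 3))) (Tr.nd (nat_lit 150) (Tr.lf (nat_lit 1)) (Tr.lf (nat_lit 1)))))) (Tr.nd (nat_lit 159) (Tr.nd (nat_lit 155) (Tr.nd (nat_lit 153) (Tr.nd (nat_lit 152) (Tr.lf (nat_lit 2))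 (Tr.lf (nat_lit 1))) (Tr.nd (nat_lit 154) (Tr.lf (nat_lit 0)) (Tr.lf (nat_lit 3)))) (Tr.nd (nat_lit 157) (Tr.nd (nat_lit 156) (Tr.lf (nat_lit 3)) (Tr.lf (nat_lit 1))) (Tr.nd (nat_lit 158) (Tr.lf (nat_lit 2)) (Tr.lf (nat_lit 3))))) (Tr.nd (nat_lit 163) (Tr.nd (nat_lit 161) (Tr.nd (nat_lit 160) (Tr.lf (nat_lit 1)) (Tr.lf (nat_lit 2))) (Tr.nd (nat_lit 162) (Tr.lf (nat_lit 1)) (Tr.lf (nat_lit 3)))) (Tr.nd (nat_lit 165) (Tr.nd (nat_lit 164) (Tr.lf (nat_lit 1)) (Tr.lf (nat_lit 0))) (Tr.nd (nat_lit 166) (Tr.lf (nat_lit 0)) (Tr.nd (nat_lit 167) (Tr.lf (nat_lit 3)) (Tr.lf (nat_lit 1)))))))) (Tr.nd (nat_lit 185) (Tr.nd (nat_lit 176) (Tr.nd (nat_lit 172) (Tr.nd (nat_lit 170) (Tr.nd (nat_lit 169) (Tr.lf (nat_lit 0)) (Tr.lf (nat_lit 3))) (Tr.nd (nat_lit 171) (Tr.lf (nat_lit 2)) (Tr.lf (nat_lit 0)))) (Tr.nd (nat_lit 174)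 (Tr.nd (nat_lit 173) (Tr.lf (nat_lit 2)) (Tr.lf (nat_lit 0))) (Tr.nd (nat_lit 175) (Tr.lf (nat_lit 3)) (Tr.lf (nat_lit 0))))) (Tr.nd (nat_lit 180) (Tr.nd (nat_lit 178) (Tr.nd (nat_lit 177) (Tr.lf (nat_lit 1)) (Tr.lf (nat_lit 2))) (Tr.nd (nat_lit 179) (Tr.lf (nat_lit 3)) (Tr.lf (nat_lit 0)))) (Tr.nd (nat_lit 182) (Tr.nd (nat_lit 181) (Tr.lf (nat_lit 3)) (Tr.lf (nat_lit 3))) (Tr.nd (nat_lit 183) (Tr.lf (nat_lit 1)) (Tr.nd (nat_lit 184) (Tr.lf (nat_lit 2)) (Tr.lf (nat_lit 2))))))) (Tr.nd (nat_lit 193) (Tr.nd (nat_lit 189) (Tr.nd (nat_lit 187) (Tr.nd (nat_lit 186) (Tr.lf (nat_lit 1)) (Tr.lf (nat_lit 0))) (Tr.nd (nat_lit 188) (Tr.lf (nat_lit 3)) (Tr.lf (nat_lit 2)))) (Tr.nd (nat_lit 191) (Tr.nd (nat_lit 190) (Tr.lf (nat_lit 2)) (Tr.lf (nat_lit 0))) (Tr.nd (nat_lit 192) (Tr.lf (nat_lit 1)) (Tr.lf (nat_lit 0)))))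 (Tr.nd (nat_lit 197) (Tr.nd (nat_lit 195) (Tr.nd (nat_lit 194) (Tr.lf (nat_lit 0)) (Tr.lf (nat_lit 2))) (Tr.nd (nat_lit 196) (Tr.lf (nat_lit 1)) (Tr.lf (nat_lit 2)))) (Tr.nd (nat_lit 199) (Tr.nd (nat_lit 198) (Tr.lf (nat_lit 3)) (Tr.lf (nat_lit 3))) (Tr.nd (nat_lit 200) (Tr.lf (nat_lit 1)) (Tr.nd (nat_lit 201) (Tr.lf (nat_lit 2)) (Tr.lf (nat_lit 0))))))))) (Tr.nd (nat_lit 236) (Tr.nd (nat_lit 219) (Tr.nd (nat_lit 210) (Tr.nd (nat_lit 206) (Tr.nd (nat_lit 204) (Tr.nd (nat_lit 203) (Tr.lf (nat_lit 0)) (Tr.lf (nat_lit 3))) (Tr.nd (nat_lit 205) (Tr.lf (nat_lit 2)) (Tr.lf (nat_lit 2)))) (Tr.nd (nat_lit 208) (Tr.nd (nat_lit 207) (Tr.lf (nat_lit 2)) (Tr.lf (nat_lit 0))) (Tr.nd (nat_lit 209) (Tr.lf (nat_lit 0)) (Tr.lf (nat_lit 2))))) (Tr.nd (nat_lit 214) (Tr.nd (nat_lit 212) (Tr.nd (nat_lit 211) (Tr.lf (nat_lit 0))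 (Tr.lf (nat_lit 2))) (Tr.nd (nat_lit 213) (Tr.lf (nat_lit 3)) (Tr.lf (nat_lit 0)))) (Tr.nd (nat_lit 216) (Tr.nd (nat_lit 215) (Tr.lf (nat_lit 2)) (Tr.lf (nat_lit 3))) (Tr.nd (nat_lit 217) (Tr.lf (nat_lit 0)) (Tr.nd (nat_lit 218) (Tr.lf (nat_lit 3)) (Tr.lf (nat_lit 2))))))) (Tr.nd (nat_lit 227) (Tr.nd (nat_lit 223) (Tr.nd (nat_lit 221) (Tr.nd (nat_lit 220) (Tr.lf (nat_lit 3)) (Tr.lf (nat_lit 2))) (Tr.nd (nat_lit 222) (Tr.lf (nat_lit 2)) (Tr.lf (nat_lit 3)))) (Tr.nd (nat_lit 225) (Tr.nd (nat_lit 224) (Tr.lf (nat_lit 1)) (Tr.lf (nat_lit 2))) (Tr.nd (nat_lit 226) (Tr.lf (nat_lit 0)) (Tr.lf (nat_lit 3))))) (Tr.nd (nat_lit 231) (Tr.nd (nat_lit 229) (Tr.nd (nat_lit 228) (Tr.lf (nat_lit 0)) (Tr.lf (nat_lit 2))) (Tr.nd (nat_lit 230) (Tr.lf (nat_lit 2)) (Tr.lf (nat_lit 2)))) (Tr.nd (nat_lit 233) (Tr.nd (nat_lit 232)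 (Tr.lf (nat_lit 1)) (Tr.lf (nat_lit 2))) (Tr.nd (nat_lit 234) (Tr.lf (nat_lit 2)) (Tr.nd (nat_lit 235) (Tr.lf (nat_lit 0)) (Tr.lf (nat_lit 2)))))))) (Tr.nd (nat_lit 253) (Tr.nd (nat_lit 244) (Tr.nd (nat_lit 240) (Tr.nd (nat_lit 238) (Tr.nd (nat_lit 237) (Tr.lf (nat_lit 3)) (Tr.lf (nat_lit 3))) (Tr.nd (nat_lit 239) (Tr.lf (nat_lit 3)) (Tr.lf (nat_lit 1)))) (Tr.nd (nat_lit 242) (Tr.nd (nat_lit 241) (Tr.lf (nat_lit 1)) (Tr.lf (nat_lit 3))) (Tr.nd (nat_lit 243) (Tr.lf (nat_lit 0)) (Tr.lf (nat_lit 0))))) (Tr.nd (nat_lit 248) (Tr.nd (nat_lit 246) (Tr.nd (nat_lit 245) (Tr.lf (nat_lit 3)) (Tr.lf (nat_lit 2))) (Tr.nd (nat_lit 247) (Tr.lf (nat_lit 0)) (Tr.lf (nat_lit 3)))) (Tr.nd (nat_lit 250) (Tr.nd (nat_lit 249) (Tr.lf (nat_lit 1)) (Tr.lf (nat_lit 2))) (Tr.nd (nat_lit 251) (Tr.lf (nat_lit 2)) (Tr.nd (nat_lit 252)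 (Tr.lf (nat_lit 0)) (Tr.lf (nat_lit 1))))))) (Tr.nd (nat_lit 261) (Tr.nd (nat_lit 257) (Tr.nd (nat_lit 255) (Tr.nd (nat_lit 254) (Tr.lf (nat_lit 2)) (Tr.lf (nat_lit 2))) (Tr.nd (nat_lit 256) (Tr.lf (nat_lit 0)) (Tr.lf (nat_lit 2)))) (Tr.nd (nat_lit 259) (Tr.nd (nat_lit 258) (Tr.lf (nat_lit 3)) (Tr.lf (nat_lit 2))) (Tr.nd (nat_lit 260) (Tr.lf (nat_lit 2)) (Tr.lf (nat_lit 1))))) (Tr.nd (nat_lit 265) (Tr.nd (nat_lit 263) (Tr.nd (nat_lit 262) (Tr.lf (nat_lit 2)) (Tr.lf (nat_lit 2))) (Tr.nd (nat_lit 264) (Tr.lf (nat_lit 1)) (Tr.lf (nat_lit 1)))) (Tr.nd (nat_lit 267) (Tr.nd (nat_lit 266) (Tr.lf (nat_lit 3)) (Tr.lf (nat_lit 2))) (Tr.nd (nat_lit 268) (Tr.lf (nat_lit 3)) (Tr.nd (nat_lit 269) (Tr.lf (nat_lit 3)) (Tr.lf (nat_lit 3))))))))))) (Tr.nd (nat_lit 405) (Tr.nd (nat_lit 337) (Tr.nd (nat_lit 303) (Tr.nd (nat_lit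 286) (Tr.nd (nat_lit 278) (Tr.nd (nat_lit 274) (Tr.nd (nat_lit 272) (Tr.nd (nat_lit 271) (Tr.lf (nat_lit 3)) (Tr.lf (nat_lit 1))) (Tr.nd (nat_lit 273) (Tr.lf (nat_lit 0)) (Tr.lf (nat_lit 1)))) (Tr.nd (nat_lit 276) (Tr.nd (nat_lit 275) (Tr.lf (nat_lit 1)) (Tr.lf (nat_lit 0))) (Tr.nd (nat_lit 277) (Tr.lf (nat_lit 2)) (Tr.lf (nat_lit 3))))) (Tr.nd (nat_lit 282) (Tr.nd (nat_lit 280) (Tr.nd (nat_lit 279) (Tr.lf (nat_lit 0)) (Tr.lf (nat_lit 0))) (Tr.nd (nat_lit 281) (Tr.lf (nat_lit 3)) (Tr.lf (nat_lit 3)))) (Tr.nd (nat_lit 284) (Tr.nd (nat_lit 283) (Tr.lf (nat_lit 2)) (Tr.lf (nat_lit 3))) (Tr.nd (nat_lit 285) (Tr.lf (nat_lit 1)) (Tr.lf (nat_lit 3)))))) (Tr.nd (nat_lit 294) (Tr.nd (nat_lit 290) (Tr.nd (nat_lit 288) (Tr.nd (nat_lit 287) (Tr.lf (nat_lit 2)) (Tr.lf (nat_lit 0))) (Tr.nd (nat_lit 289) (Tr.lf (nat_lit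 3)) (Tr.lf (nat_lit 2)))) (Tr.nd (nat_lit 292) (Tr.nd (nat_lit 291) (Tr.lf (nat_lit 0)) (Tr.lf (nat_lit 3))) (Tr.nd (nat_lit 293) (Tr.lf (nat_lit 3)) (Tr.lf (nat_lit 2))))) (Tr.nd (nat_lit 298) (Tr.nd (nat_lit 296) (Tr.nd (nat_lit 295) (Tr.lf (nat_lit 3)) (Tr.lf (nat_lit 3))) (Tr.nd (nat_lit 297) (Tr.lf (nat_lit 3)) (Tr.lf (nat_lit 0)))) (Tr.nd (nat_lit 300) (Tr.nd (nat_lit 299) (Tr.lf (nat_lit 2)) (Tr.lf (nat_lit 2))) (Tr.nd (nat_lit 301) (Tr.lf (nat_lit 1)) (Tr.nd (nat_lit 302) (Tr.lf (nat_lit 2)) (Tr.lf (nat_lit 2)))))))) (Tr.nd (nat_lit 320) (Tr.nd (nat_lit 311) (Tr.nd (nat_lit 307) (Tr.nd (nat_lit 305) (Tr.nd (nat_lit 304) (Tr.lf (nat_lit 2)) (Tr.lf (nat_lit 2))) (Tr.nd (nat_lit 306) (Tr.lf (nat_lit 1)) (Tr.lf (nat_lit 1)))) (Tr.nd (nat_lit 309) (Tr.nd (nat_lit 308) (Tr.lf (nat_lit 0)) (Tr.lf (nat_lit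 3))) (Tr.nd (nat_lit 310) (Tr.lf (nat_lit 3)) (Tr.lf (nat_lit 1))))) (Tr.nd (nat_lit 315) (Tr.nd (nat_lit 313) (Tr.nd (nat_lit 312) (Tr.lf (nat_lit 1)) (Tr.lf (nat_lit 3))) (Tr.nd (nat_lit 314) (Tr.lf (nat_lit 3)) (Tr.lf (nat_lit 3)))) (Tr.nd (nat_lit 317) (Tr.nd (nat_lit 316) (Tr.lf (nat_lit 0)) (Tr.lf (nat_lit 0))) (Tr.nd (nat_lit 318) (Tr.lf (nat_lit 2)) (Tr.nd (nat_lit 319) (Tr.lf (nat_lit 3)) (Tr.lf (nat_lit 1))))))) (Tr.nd (nat_lit 328) (Tr.nd (nat_lit 324) (Tr.nd (nat_lit 322) (Tr.nd (nat_lit 321) (Tr.lf (nat_lit 0)) (Tr.lf (nat_lit 2))) (Tr.nd (nat_lit 323) (Tr.lf (nat_lit 1)) (Tr.lf (nat_lit 3)))) (Tr.nd (nat_lit 326) (Tr.nd (nat_lit 325) (Tr.lf (nat_lit 1)) (Tr.lf (nat_lit 1))) (Tr.nd (nat_lit 327) (Tr.lf (nat_lit 3)) (Tr.lf (nat_lit 1))))) (Tr.nd (nat_lit 332) (Tr.nd (nat_lit 330) (Tr.nd (nat_lit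 329) (Tr.lf (nat_lit 0)) (Tr.lf (nat_lit 1))) (Tr.nd (nat_lit 331) (Tr.lf (nat_lit 3)) (Tr.lf (nat_lit 0)))) (Tr.nd (nat_lit 334) (Tr.nd (nat_lit 333) (Tr.lf (nat_lit 2)) (Tr.lf (nat_lit 3))) (Tr.nd (nat_lit 335) (Tr.lf (nat_lit 3)) (Tr.nd (nat_lit 336) (Tr.lf (nat_lit 3)) (Tr.lf (nat_lit 3))))))))) (Tr.nd (nat_lit 371) (Tr.nd (nat_lit 354) (Tr.nd (nat_lit 345) (Tr.nd (nat_lit 341) (Tr.nd (nat_lit 339) (Tr.nd (nat_lit 338) (Tr.lf (nat_lit 1)) (Tr.lf (nat_lit 2))) (Tr.nd (nat_lit 340) (Tr.lf (nat_lit 3)) (Tr.lf (nat_lit 2)))) (Tr.nd (nat_lit 343) (Tr.nd (nat_lit 342) (Tr.lf (nat_lit 0)) (Tr.lf (nat_lit 1))) (Tr.nd (nat_lit 344) (Tr.lf (nat_lit 0)) (Tr.lf (nat_lit 3))))) (Tr.nd (nat_lit 349) (Tr.nd (nat_lit 347) (Tr.nd (nat_lit 346) (Tr.lf (nat_lit 1)) (Tr.lf (nat_lit 3))) (Tr.nd (nat_lit 348) (Tr.lf (nat_lit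 1)) (Tr.lf (nat_lit 1)))) (Tr.nd (nat_lit 351) (Tr.nd (nat_lit 350) (Tr.lf (nat_lit 3)) (Tr.lf (nat_lit 0))) (Tr.nd (nat_lit 352) (Tr.lf (nat_lit 0)) (Tr.nd (nat_lit 353) (Tr.lf (nat_lit 3)) (Tr.lf (nat_lit 3))))))) (Tr.nd (nat_lit 362) (Tr.nd (nat_lit 358) (Tr.nd (nat_lit 356) (Tr.nd (nat_lit 355) (Tr.lf (nat_lit 2)) (Tr.lf (nat_lit 1))) (Tr.nd (nat_lit 357) (Tr.lf (nat_lit 1)) (Tr.lf (nat_lit 2)))) (Tr.nd (nat_lit 360) (Tr.nd (nat_lit 359) (Tr.lf (nat_lit 0)) (Tr.lf (nat_lit 2))) (Tr.nd (nat_lit 361) (Tr.lf (nat_lit 0)) (Tr.lf (nat_lit 0))))) (Tr.nd (nat_lit 366) (Tr.nd (nat_lit 364) (Tr.nd (nat_lit 363) (Tr.lf (nat_lit 3)) (Tr.lf (nat_lit 0))) (Tr.nd (nat_lit 365) (Tr.lf (nat_lit 1)) (Tr.lf (nat_lit 0)))) (Tr.nd (nat_lit 368) (Tr.nd (nat_lit 367) (Tr.lf (nat_lit 2)) (Tr.lf (nat_lit 1))) (Tr.nd (nat_lit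 369) (Tr.lf (nat_lit 0)) (Tr.nd (nat_lit 370) (Tr.lf (nat_lit 1)) (Tr.lf (nat_lit 1)))))))) (Tr.nd (nat_lit 388) (Tr.nd (nat_lit 379) (Tr.nd (nat_lit 375) (Tr.nd (nat_lit 373) (Tr.nd (nat_lit 372) (Tr.lf (nat_lit 2)) (Tr.lf (nat_lit 2))) (Tr.nd (nat_lit 374) (Tr.lf (nat_lit 1)) (Tr.lf (nat_lit 1)))) (Tr.nd (nat_lit 377) (Tr.nd (nat_lit 376) (Tr.lf (nat_lit 2)) (Tr.lf (nat_lit 3))) (Tr.nd (nat_lit 378) (Tr.lf (nat_lit 1)) (Tr.lf (nat_lit 3))))) (Tr.nd (nat_lit 383) (Tr.nd (nat_lit 381) (Tr.nd (nat_lit 380) (Tr.lf (nat_lit 1)) (Tr.lf (nat_lit 3))) (Tr.nd (nat_lit 382) (Tr.lf (nat_lit 2)) (Tr.lf (nat_lit 3)))) (Tr.nd (nat_lit 385) (Tr.nd (nat_lit 384) (Tr.lf (nat_lit 2)) (Tr.lf (nat_lit 1))) (Tr.nd (nat_lit 386) (Tr.lf (nat_lit 1)) (Tr.nd (nat_lit 387) (Tr.lf (nat_lit 0)) (Tr.lf (nat_lit 1))))))) (Tr.nd (nat_lit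 396) (Tr.nd (nat_lit 392) (Tr.nd (nat_lit 390) (Tr.nd (nat_lit 389) (Tr.lf (nat_lit 1)) (Tr.lf (nat_lit 0))) (Tr.nd (nat_lit 391) (Tr.lf (nat_lit 1)) (Tr.lf (nat_lit 1)))) (Tr.nd (nat_lit 394) (Tr.nd (nat_lit 393) (Tr.lf (nat_lit 2)) (Tr.lf (nat_lit 1))) (Tr.nd (nat_lit 395) (Tr.lf (nat_lit 3)) (Tr.lf (nat_lit 3))))) (Tr.nd (nat_lit 400) (Tr.nd (nat_lit 398) (Tr.nd (nat_lit 397) (Tr.lf (nat_lit 1)) (Tr.lf (nat_lit 2))) (Tr.nd (nat_lit 399) (Tr.lf (nat_lit 2)) (Tr.lf (nat_lit 3)))) (Tr.nd (nat_lit 402) (Tr.nd (nat_lit 401) (Tr.lf (nat_lit 2)) (Tr.lf (nat_lit 2))) (Tr.nd (nat_lit 403) (Tr.lf (nat_lit 0)) (Tr.nd (nat_lit 404) (Tr.lf (nat_lit 0)) (Tr.lf (nat_lit 1)))))))))) (Tr.nd (nat_lit 472) (Tr.nd (nat_lit 438) (Tr.nd (nat_lit 421) (Tr.nd (nat_lit 413) (Tr.nd (nat_lit 409) (Tr.nd (nat_lit 407) (Tr.nd (nat_lit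 406) (Tr.lf (nat_lit 2)) (Tr.lf (nat_lit 2))) (Tr.nd (nat_lit 408) (Tr.lf (nat_lit 2)) (Tr.lf (nat_lit 1)))) (Tr.nd (nat_lit 411) (Tr.nd (nat_lit 410) (Tr.lf (nat_lit 1)) (Tr.lf (nat_lit 1))) (Tr.nd (nat_lit 412) (Tr.lf (nat_lit 2)) (Tr.lf (nat_lit 3))))) (Tr.nd (nat_lit 417) (Tr.nd (nat_lit 415) (Tr.nd (nat_lit 414) (Tr.lf (nat_lit 2)) (Tr.lf (nat_lit 2))) (Tr.nd (nat_lit 416) (Tr.lf (nat_lit 0)) (Tr.lf (nat_lit 1)))) (Tr.nd (nat_lit 419) (Tr.nd (nat_lit 418) (Tr.lf (nat_lit 2)) (Tr.lf (nat_lit 1))) (Tr.nd (nat_lit 420) (Tr.lf (nat_lit 3)) (Tr.lf (nat_lit 2)))))) (Tr.nd (nat_lit 429) (Tr.nd (nat_lit 425) (Tr.nd (nat_lit 423) (Tr.nd (nat_lit 422) (Tr.lf (nat_lit 2)) (Tr.lf (nat_lit 2))) (Tr.nd (nat_lit 424) (Tr.lf (nat_lit 2)) (Tr.lf (nat_lit 3)))) (Tr.nd (nat_lit 427) (Tr.nd (nat_lit 426) (Tr.lf (nat_lit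 2)) (Tr.lf (nat_lit 1))) (Tr.nd (nat_lit 428) (Tr.lf (nat_lit 2)) (Tr.lf (nat_lit 1))))) (Tr.nd (nat_lit 433) (Tr.nd (nat_lit 431) (Tr.nd (nat_lit 430) (Tr.lf (nat_lit 2)) (Tr.lf (nat_lit 2))) (Tr.nd (nat_lit 432) (Tr.lf (nat_lit 2)) (Tr.lf (nat_lit 1)))) (Tr.nd (nat_lit 435) (Tr.nd (nat_lit 434) (Tr.lf (nat_lit 0)) (Tr.lf (nat_lit 1))) (Tr.nd (nat_lit 436) (Tr.lf (nat_lit 1)) (Tr.nd (nat_lit 437) (Tr.lf (nat_lit 1)) (Tr.lf (nat_lit 3)))))))) (Tr.nd (nat_lit 455) (Tr.nd (nat_lit 446) (Tr.nd (nat_lit 442) (Tr.nd (nat_lit 440) (Tr.nd (nat_lit 439) (Tr.lf (nat_lit 2)) (Tr.lf (nat_lit 0))) (Tr.nd (nat_lit 441) (Tr.lf (nat_lit 1)) (Tr.lf (nat_lit 3)))) (Tr.nd (nat_lit 444) (Tr.nd (nat_lit 443) (Tr.lf (nat_lit 0)) (Tr.lf (nat_lit 1))) (Tr.nd (nat_lit 445) (Tr.lf (nat_lit 3)) (Tr.lf (nat_lit 2))))) (Tr.nd (nat_lit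 450) (Tr.nd (nat_lit 448) (Tr.nd (nat_lit 447) (Tr.lf (nat_lit 0)) (Tr.lf (nat_lit 2))) (Tr.nd (nat_lit 449) (Tr.lf (nat_lit 3)) (Tr.lf (nat_lit 0)))) (Tr.nd (nat_lit 452) (Tr.nd (nat_lit 451) (Tr.lf (nat_lit 2)) (Tr.lf (nat_lit 3))) (Tr.nd (nat_lit 453) (Tr.lf (nat_lit 1)) (Tr.nd (nat_lit 454) (Tr.lf (nat_lit 1)) (Tr.lf (nat_lit 1))))))) (Tr.nd (nat_lit 463) (Tr.nd (nat_lit 459) (Tr.nd (nat_lit 457) (Tr.nd (nat_lit 456) (Tr.lf (nat_lit 1)) (Tr.lf (nat_lit 2))) (Tr.nd (nat_lit 458) (Tr.lf (nat_lit 2)) (Tr.lf (nat_lit 0)))) (Tr.nd (nat_lit 461) (Tr.nd (nat_lit 460) (Tr.lf (nat_lit 1)) (Tr.lf (nat_lit 3))) (Tr.nd (nat_lit 462) (Tr.lf (nat_lit 2)) (Tr.lf (nat_lit 0))))) (Tr.nd (nat_lit 467) (Tr.nd (nat_lit 465) (Tr.nd (nat_lit 464) (Tr.lf (nat_lit 0)) (Tr.lf (nat_lit 3))) (Tr.nd (nat_lit 466) (Tr.lf (nat_lit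 2)) (Tr.lf (nat_lit 0)))) (Tr.nd (nat_lit 469) (Tr.nd (nat_lit 468) (Tr.lf (nat_lit 3)) (Tr.lf (nat_lit 0))) (Tr.nd (nat_lit 470) (Tr.lf (nat_lit 2)) (Tr.nd (nat_lit 471) (Tr.lf (nat_lit 1)) (Tr.lf (nat_lit 1))))))))) (Tr.nd (nat_lit 506) (Tr.nd (nat_lit 489) (Tr.nd (nat_lit 480) (Tr.nd (nat_lit 476) (Tr.nd (nat_lit 474) (Tr.nd (nat_lit 473) (Tr.lf (nat_lit 2)) (Tr.lf (nat_lit 2))) (Tr.nd (nat_lit 475) (Tr.lf (nat_lit 2)) (Tr.lf (nat_lit 3)))) (Tr.nd (nat_lit 478) (Tr.nd (nat_lit 477) (Tr.lf (nat_lit 3)) (Tr.lf (nat_lit 1))) (Tr.nd (nat_lit 479) (Tr.lf (nat_lit 3)) (Tr.lf (nat_lit 0))))) (Tr.nd (nat_lit 484) (Tr.nd (nat_lit 482) (Tr.nd (nat_lit 481) (Tr.lf (nat_lit 3)) (Tr.lf (nat_lit 2))) (Tr.nd (nat_lit 483) (Tr.lf (nat_lit 2)) (Tr.lf (nat_lit 2)))) (Tr.nd (nat_lit 486) (Tr.nd (nat_lit 485) (Tr.lf (nat_lit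 2)) (Tr.lf (nat_lit 0))) (Tr.nd (nat_lit 487) (Tr.lf (nat_lit 3)) (Tr.nd (nat_lit 488) (Tr.lf (nat_lit 2)) (Tr.lf (nat_lit 1))))))) (Tr.nd (nat_lit 497) (Tr.nd (nat_lit 493) (Tr.nd (nat_lit 491) (Tr.nd (nat_lit 490) (Tr.lf (nat_lit 0)) (Tr.lf (nat_lit 2))) (Tr.nd (nat_lit 492) (Tr.lf (nat_lit 3)) (Tr.lf (nat_lit 3)))) (Tr.nd (nat_lit 495) (Tr.nd (nat_lit 494) (Tr.lf (nat_lit 3)) (Tr.lf (nat_lit 2))) (Tr.nd (nat_lit 496) (Tr.lf (nat_lit 0)) (Tr.lf (nat_lit 3))))) (Tr.nd (nat_lit 501) (Tr.nd (nat_lit 499) (Tr.nd (nat_lit 498) (Tr.lf (nat_lit 3)) (Tr.lf (nat_lit 1))) (Tr.nd (nat_lit 500) (Tr.lf (nat_lit 1)) (Tr.lf (nat_lit 2)))) (Tr.nd (nat_lit 503) (Tr.nd (nat_lit 502) (Tr.lf (nat_lit 3)) (Tr.lf (nat_lit 3))) (Tr.nd (nat_lit 504) (Tr.lf (nat_lit 2)) (Tr.nd (nat_lit 505) (Tr.lf (nat_lit 2)) (Tr.lf (nat_lit 0))))))))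 (Tr.nd (nat_lit 523) (Tr.nd (nat_lit 514) (Tr.nd (nat_lit 510) (Tr.nd (nat_lit 508) (Tr.nd (nat_lit 507) (Tr.lf (nat_lit 3)) (Tr.lf (nat_lit 0))) (Tr.nd (nat_lit 509) (Tr.lf (nat_lit 1)) (Tr.lf (nat_lit 3)))) (Tr.nd (nat_lit 512) (Tr.nd (nat_lit 511) (Tr.lf (nat_lit 0)) (Tr.lf (nat_lit 2))) (Tr.nd (nat_lit 513) (Tr.lf (nat_lit 3)) (Tr.lf (nat_lit 0))))) (Tr.nd (nat_lit 518) (Tr.nd (nat_lit 516) (Tr.nd (nat_lit 515) (Tr.lf (nat_lit 1)) (Tr.lf (nat_lit 2))) (Tr.nd (nat_lit 517) (Tr.lf (nat_lit 2)) (Tr.lf (nat_lit 1)))) (Tr.nd (nat_lit 520) (Tr.nd (nat_lit 519) (Tr.lf (nat_lit 0)) (Tr.lf (nat_lit 3))) (Tr.nd (nat_lit 521) (Tr.lf (nat_lit 3)) (Tr.nd (nat_lit 522) (Tr.lf (nat_lit 3)) (Tr.lf (nat_lit 2))))))) (Tr.nd (nat_lit 531) (Tr.nd (nat_lit 527) (Tr.nd (nat_lit 525) (Tr.nd (nat_lit 524) (Tr.lf (nat_lit 3))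 (Tr.lf (nat_lit 3))) (Tr.nd (nat_lit 526) (Tr.lf (nat_lit 1)) (Tr.lf (nat_lit 2)))) (Tr.nd (nat_lit 529) (Tr.nd (nat_lit 528) (Tr.lf (nat_lit 0)) (Tr.lf (nat_lit 3))) (Tr.nd (nat_lit 530) (Tr.lf (nat_lit 0)) (Tr.lf (nat_lit 3))))) (Tr.nd (nat_lit 535) (Tr.nd (nat_lit 533) (Tr.nd (nat_lit 532) (Tr.lf (nat_lit 2)) (Tr.lf (nat_lit 0))) (Tr.nd (nat_lit 534) (Tr.lf (nat_lit 3)) (Tr.lf (nat_lit 2)))) (Tr.nd (nat_lit 537) (Tr.nd (nat_lit 536) (Tr.lf (nat_lit 2)) (Tr.lf (nat_lit 1))) (Tr.nd (nat_lit 538) (Tr.lf (nat_lit 0)) (Tr.nd (nat_lit 539) (Tr.lf (nat_lit 3)) (Tr.lf (nat_lit 2)))))))))))) (Tr.nd (nat_lit 810) (Tr.nd (nat_lit 675) (Tr.nd (nat_lit 607) (Tr.nd (nat_lit 573) (Tr.nd (nat_lit 556) (Tr.nd (nat_lit 548) (Tr.nd (nat_lit 544) (Tr.nd (nat_lit 542) (Tr.nd (nat_lit 541) (Tr.lf (nat_lit 1)) (Tr.lf (nat_lit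 1))) (Tr.nd (nat_lit 543) (Tr.lf (nat_lit 0)) (Tr.lf (nat_lit 0)))) (Tr.nd (nat_lit 546) (Tr.nd (nat_lit 545) (Tr.lf (nat_lit 0)) (Tr.lf (nat_lit 1))) (Tr.nd (nat_lit 547) (Tr.lf (nat_lit 0)) (Tr.lf (nat_lit 0))))) (Tr.nd (nat_lit 552) (Tr.nd (nat_lit 550) (Tr.nd (nat_lit 549) (Tr.lf (nat_lit 1)) (Tr.lf (nat_lit 3))) (Tr.nd (nat_lit 551) (Tr.lf (nat_lit 0)) (Tr.lf (nat_lit 2)))) (Tr.nd (nat_lit 554) (Tr.nd (nat_lit 553) (Tr.lf (nat_lit 3)) (Tr.lf (nat_lit 0))) (Tr.nd (nat_lit 555) (Tr.lf (nat_lit 3)) (Tr.lf (nat_lit 0)))))) (Tr.nd (nat_lit 564) (Tr.nd (nat_lit 560) (Tr.nd (nat_lit 558) (Tr.nd (nat_lit 557) (Tr.lf (nat_lit 0)) (Tr.lf (nat_lit 0))) (Tr.nd (nat_lit 559) (Tr.lf (nat_lit 1)) (Tr.lf (nat_lit 2)))) (Tr.nd (nat_lit 562) (Tr.nd (nat_lit 561) (Tr.lf (nat_lit 3)) (Tr.lf (nat_lit 3))) (Tr.nd (nat_lit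 563) (Tr.lf (nat_lit 1)) (Tr.lf (nat_lit 3))))) (Tr.nd (nat_lit 568) (Tr.nd (nat_lit 566) (Tr.nd (nat_lit 565) (Tr.lf (nat_lit 1)) (Tr.lf (nat_lit 0))) (Tr.nd (nat_lit 567) (Tr.lf (nat_lit 0)) (Tr.lf (nat_lit 1)))) (Tr.nd (nat_lit 570) (Tr.nd (nat_lit 569) (Tr.lf (nat_lit 1)) (Tr.lf (nat_lit 2))) (Tr.nd (nat_lit 571) (Tr.lf (nat_lit 1)) (Tr.nd (nat_lit 572) (Tr.lf (nat_lit 1)) (Tr.lf (nat_lit 3)))))))) (Tr.nd (nat_lit 590) (Tr.nd (nat_lit 581) (Tr.nd (nat_lit 577) (Tr.nd (nat_lit 575) (Tr.nd (nat_lit 574) (Tr.lf (nat_lit 1)) (Tr.lf (nat_lit 0))) (Tr.nd (nat_lit 576) (Tr.lf (nat_lit 3)) (Tr.lf (nat_lit 3)))) (Tr.nd (nat_lit 579) (Tr.nd (nat_lit 578) (Tr.lf (nat_lit 0)) (Tr.lf (nat_lit 1))) (Tr.nd (nat_lit 580) (Tr.lf (nat_lit 0)) (Tr.lf (nat_lit 3))))) (Tr.nd (nat_lit 585) (Tr.nd (nat_lit 583) (Tr.nd (nat_lit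 582) (Tr.lf (nat_lit 2)) (Tr.lf (nat_lit 3))) (Tr.nd (nat_lit 584) (Tr.lf (nat_lit 2)) (Tr.lf (nat_lit 0)))) (Tr.nd (nat_lit 587) (Tr.nd (nat_lit 586) (Tr.lf (nat_lit 3)) (Tr.lf (nat_lit 0))) (Tr.nd (nat_lit 588) (Tr.lf (nat_lit 1)) (Tr.nd (nat_lit 589) (Tr.lf (nat_lit 2)) (Tr.lf (nat_lit 2))))))) (Tr.nd (nat_lit 598) (Tr.nd (nat_lit 594) (Tr.nd (nat_lit 592) (Tr.nd (nat_lit 591) (Tr.lf (nat_lit 2)) (Tr.lf (nat_lit 2))) (Tr.nd (nat_lit 593) (Tr.lf (nat_lit 3)) (Tr.lf (nat_lit 1)))) (Tr.nd (nat_lit 596) (Tr.nd (nat_lit 595) (Tr.lf (nat_lit 1)) (Tr.lf (nat_lit 0))) (Tr.nd (nat_lit 597) (Tr.lf (nat_lit 2)) (Tr.lf (nat_lit 2))))) (Tr.nd (nat_lit 602) (Tr.nd (nat_lit 600) (Tr.nd (nat_lit 599) (Tr.lf (nat_lit 2)) (Tr.lf (nat_lit 1))) (Tr.nd (nat_lit 601) (Tr.lf (nat_lit 3)) (Tr.lf (nat_lit 0)))) (Tr.nd (nat_lit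 604) (Tr.nd (nat_lit 603) (Tr.lf (nat_lit 3)) (Tr.lf (nat_lit 2))) (Tr.nd (nat_lit 605) (Tr.lf (nat_lit 0)) (Tr.nd (nat_lit 606) (Tr.lf (nat_lit 1)) (Tr.lf (nat_lit 1))))))))) (Tr.nd (nat_lit 641) (Tr.nd (nat_lit 624) (Tr.nd (nat_lit 615) (Tr.nd (nat_lit 611) (Tr.nd (nat_lit 609) (Tr.nd (nat_lit 608) (Tr.lf (nat_lit 1)) (Tr.lf (nat_lit 3))) (Tr.nd (nat_lit 610) (Tr.lf (nat_lit 0)) (Tr.lf (nat_lit 0)))) (Tr.nd (nat_lit 613) (Tr.nd (nat_lit 612) (Tr.lf (nat_lit 3)) (Tr.lf (nat_lit 3))) (Tr.nd (nat_lit 614) (Tr.lf (nat_lit 1)) (Tr.lf (nat_lit 2))))) (Tr.nd (nat_lit 619) (Tr.nd (nat_lit 617) (Tr.nd (nat_lit 616) (Tr.lf (nat_lit 1)) (Tr.lf (nat_lit 3))) (Tr.nd (nat_lit 618) (Tr.lf (nat_lit 1)) (Tr.lf (nat_lit 1)))) (Tr.nd (nat_lit 621) (Tr.nd (nat_lit 620) (Tr.lf (nat_lit 3)) (Tr.lf (nat_lit 1))) (Tr.nd (nat_lit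 622) (Tr.lf (nat_lit 1)) (Tr.nd (nat_lit 623) (Tr.lf (nat_lit 0)) (Tr.lf (nat_lit 3))))))) (Tr.nd (nat_lit 632) (Tr.nd (nat_lit 628) (Tr.nd (nat_lit 626) (Tr.nd (nat_lit 625) (Tr.lf (nat_lit 3)) (Tr.lf (nat_lit 1))) (Tr.nd (nat_lit 627) (Tr.lf (nat_lit 3)) (Tr.lf (nat_lit 2)))) (Tr.nd (nat_lit 630) (Tr.nd (nat_lit 629) (Tr.lf (nat_lit 1)) (Tr.lf (nat_lit 0))) (Tr.nd (nat_lit 631) (Tr.lf (nat_lit 3)) (Tr.lf (nat_lit 1))))) (Tr.nd (nat_lit 636) (Tr.nd (nat_lit 634) (Tr.nd (nat_lit 633) (Tr.lf (nat_lit 3)) (Tr.lf (nat_lit 2))) (Tr.nd (nat_lit 635) (Tr.lf (nat_lit 1)) (Tr.lf (nat_lit 2)))) (Tr.nd (nat_lit 638) (Tr.nd (nat_lit 637) (Tr.lf (nat_lit 1)) (Tr.lf (nat_lit 3))) (Tr.nd (nat_lit 639) (Tr.lf (nat_lit 3)) (Tr.nd (nat_lit 640) (Tr.lf (nat_lit 1)) (Tr.lf (nat_lit 2)))))))) (Tr.nd (nat_lit 658) (Tr.nd (nat_lit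 649) (Tr.nd (nat_lit 645) (Tr.nd (nat_lit 643) (Tr.nd (nat_lit 642) (Tr.lf (nat_lit 1)) (Tr.lf (nat_lit 3))) (Tr.nd (nat_lit 644) (Tr.lf (nat_lit 3)) (Tr.lf (nat_lit 2)))) (Tr.nd (nat_lit 647) (Tr.nd (nat_lit 646) (Tr.lf (nat_lit 3)) (Tr.lf (nat_lit 0))) (Tr.nd (nat_lit 648) (Tr.lf (nat_lit 3)) (Tr.lf (nat_lit 2))))) (Tr.nd (nat_lit 653) (Tr.nd (nat_lit 651) (Tr.nd (nat_lit 650) (Tr.lf (nat_lit 1)) (Tr.lf (nat_lit 1))) (Tr.nd (nat_lit 652) (Tr.lf (nat_lit 3)) (Tr.lf (nat_lit 1)))) (Tr.nd (nat_lit 655) (Tr.nd (nat_lit 654) (Tr.lf (nat_lit 3)) (Tr.lf (nat_lit 2))) (Tr.nd (nat_lit 656) (Tr.lf (nat_lit 2)) (Tr.nd (nat_lit 657) (Tr.lf (nat_lit 1)) (Tr.lf (nat_lit 0))))))) (Tr.nd (nat_lit 666) (Tr.nd (nat_lit 662) (Tr.nd (nat_lit 660) (Tr.nd (nat_lit 659) (Tr.lf (nat_lit 3)) (Tr.lf (nat_lit 2))) (Tr.nd (nat_lit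 661) (Tr.lf (nat_lit 2)) (Tr.lf (nat_lit 1)))) (Tr.nd (nat_lit 664) (Tr.nd (nat_lit 663) (Tr.lf (nat_lit 3)) (Tr.lf (nat_lit 1))) (Tr.nd (nat_lit 665) (Tr.lf (nat_lit 3)) (Tr.lf (nat_lit 0))))) (Tr.nd (nat_lit 670) (Tr.nd (nat_lit 668) (Tr.nd (nat_lit 667) (Tr.lf (nat_lit 2)) (Tr.lf (nat_lit 0))) (Tr.nd (nat_lit 669) (Tr.lf (nat_lit 2)) (Tr.lf (nat_lit 3)))) (Tr.nd (nat_lit 672) (Tr.nd (nat_lit 671) (Tr.lf (nat_lit 1)) (Tr.lf (nat_lit 2))) (Tr.nd (nat_lit 673) (Tr.lf (nat_lit 3)) (Tr.nd (nat_lit 674) (Tr.lf (nat_lit 0)) (Tr.lf (nat_lit 1)))))))))) (Tr.nd (nat_lit 742) (Tr.nd (nat_lit 708) (Tr.nd (nat_lit 691) (Tr.nd (nat_lit 683) (Tr.nd (nat_lit 679) (Tr.nd (nat_lit 677) (Tr.nd (nat_lit 676) (Tr.lf (nat_lit 0)) (Tr.lf (nat_lit 2))) (Tr.nd (nat_lit 678) (Tr.lf (nat_lit 2)) (Tr.lf (nat_lit 1)))) (Tr.nd (nat_lit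 681) (Tr.nd (nat_lit 680) (Tr.lf (nat_lit 2)) (Tr.lf (nat_lit 1))) (Tr.nd (nat_lit 682) (Tr.lf (nat_lit 2)) (Tr.lf (nat_lit 0))))) (Tr.nd (nat_lit 687) (Tr.nd (nat_lit 685) (Tr.nd (nat_lit 684) (Tr.lf (nat_lit 0)) (Tr.lf (nat_lit 2))) (Tr.nd (nat_lit 686) (Tr.lf (nat_lit 1)) (Tr.lf (nat_lit 3)))) (Tr.nd (nat_lit 689) (Tr.nd (nat_lit 688) (Tr.lf (nat_lit 0)) (Tr.lf (nat_lit 2))) (Tr.nd (nat_lit 690) (Tr.lf (nat_lit 3)) (Tr.lf (nat_lit 3)))))) (Tr.nd (nat_lit 699) (Tr.nd (nat_lit 695) (Tr.nd (nat_lit 693) (Tr.nd (nat_lit 692) (Tr.lf (nat_lit 0)) (Tr.lf (nat_lit 1))) (Tr.nd (nat_lit 694) (Tr.lf (nat_lit 0)) (Tr.lf (nat_lit 1)))) (Tr.nd (nat_lit 697) (Tr.nd (nat_lit 696) (Tr.lf (nat_lit 1)) (Tr.lf (nat_lit 2))) (Tr.nd (nat_lit 698) (Tr.lf (nat_lit 0)) (Tr.lf (nat_lit 0))))) (Tr.nd (nat_lit 703) (Tr.nd (nat_lit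 701) (Tr.nd (nat_lit 700) (Tr.lf (nat_lit 3)) (Tr.lf (nat_lit 1))) (Tr.nd (nat_lit 702) (Tr.lf (nat_lit 0)) (Tr.lf (nat_lit 1)))) (Tr.nd (nat_lit 705) (Tr.nd (nat_lit 704) (Tr.lf (nat_lit 0)) (Tr.lf (nat_lit 2))) (Tr.nd (nat_lit 706) (Tr.lf (nat_lit 2)) (Tr.nd (nat_lit 707) (Tr.lf (nat_lit 2)) (Tr.lf (nat_lit 1)))))))) (Tr.nd (nat_lit 725) (Tr.nd (nat_lit 716) (Tr.nd (nat_lit 712) (Tr.nd (nat_lit 710) (Tr.nd (nat_lit 709) (Tr.lf (nat_lit 1)) (Tr.lf (nat_lit 1))) (Tr.nd (nat_lit 711) (Tr.lf (nat_lit 1)) (Tr.lf (nat_lit 2)))) (Tr.nd (nat_lit 714) (Tr.nd (nat_lit 713) (Tr.lf (nat_lit 3)) (Tr.lf (nat_lit 2))) (Tr.nd (nat_lit 715) (Tr.lf (nat_lit 3)) (Tr.lf (nat_lit 1))))) (Tr.nd (nat_lit 720) (Tr.nd (nat_lit 718) (Tr.nd (nat_lit 717) (Tr.lf (nat_lit 1)) (Tr.lf (nat_lit 3))) (Tr.nd (nat_lit 719) (Tr.lf (nat_lit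 3)) (Tr.lf (nat_lit 0)))) (Tr.nd (nat_lit 722) (Tr.nd (nat_lit 721) (Tr.lf (nat_lit 3)) (Tr.lf (nat_lit 3))) (Tr.nd (nat_lit 723) (Tr.lf (nat_lit 1)) (Tr.nd (nat_lit 724) (Tr.lf (nat_lit 1)) (Tr.lf (nat_lit 1))))))) (Tr.nd (nat_lit 733) (Tr.nd (nat_lit 729) (Tr.nd (nat_lit 727) (Tr.nd (nat_lit 726) (Tr.lf (nat_lit 2)) (Tr.lf (nat_lit 2))) (Tr.nd (nat_lit 728) (Tr.lf (nat_lit 0)) (Tr.lf (nat_lit 2)))) (Tr.nd (nat_lit 731) (Tr.nd (nat_lit 730) (Tr.lf (nat_lit 0)) (Tr.lf (nat_lit 1))) (Tr.nd (nat_lit 732) (Tr.lf (nat_lit 1)) (Tr.lf (nat_lit 1))))) (Tr.nd (nat_lit 737) (Tr.nd (nat_lit 735) (Tr.nd (nat_lit 734) (Tr.lf (nat_lit 2)) (Tr.lf (nat_lit 1))) (Tr.nd (nat_lit 736) (Tr.lf (nat_lit 2)) (Tr.lf (nat_lit 1)))) (Tr.nd (nat_lit 739) (Tr.nd (nat_lit 738) (Tr.lf (nat_lit 0)) (Tr.lf (nat_lit 1))) (Tr.nd (nat_lit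 740) (Tr.lf (nat_lit 3)) (Tr.nd (nat_lit 741) (Tr.lf (nat_lit 1)) (Tr.lf (nat_lit 2))))))))) (Tr.nd (nat_lit 776) (Tr.nd (nat_lit 759) (Tr.nd (nat_lit 750) (Tr.nd (nat_lit 746) (Tr.nd (nat_lit 744) (Tr.nd (nat_lit 743) (Tr.lf (nat_lit 2)) (Tr.lf (nat_lit 0))) (Tr.nd (nat_lit 745) (Tr.lf (nat_lit 1)) (Tr.lf (nat_lit 2)))) (Tr.nd (nat_lit 748) (Tr.nd (nat_lit 747) (Tr.lf (nat_lit 1)) (Tr.lf (nat_lit 2))) (Tr.nd (nat_lit 749) (Tr.lf (nat_lit 1)) (Tr.lf (nat_lit 1))))) (Tr.nd (nat_lit 754) (Tr.nd (nat_lit 752) (Tr.nd (nat_lit 751) (Tr.lf (nat_lit 0)) (Tr.lf (nat_lit 1))) (Tr.nd (nat_lit 753) (Tr.lf (nat_lit 0)) (Tr.lf (nat_lit 2)))) (Tr.nd (nat_lit 756) (Tr.nd (nat_lit 755) (Tr.lf (nat_lit 1)) (Tr.lf (nat_lit 2))) (Tr.nd (nat_lit 757) (Tr.lf (nat_lit 1)) (Tr.nd (nat_lit 758) (Tr.lf (nat_lit 0)) (Tr.lf (nat_lit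 1))))))) (Tr.nd (nat_lit 767) (Tr.nd (nat_lit 763) (Tr.nd (nat_lit 761) (Tr.nd (nat_lit 760) (Tr.lf (nat_lit 3)) (Tr.lf (nat_lit 2))) (Tr.nd (nat_lit 762) (Tr.lf (nat_lit 1)) (Tr.lf (nat_lit 2)))) (Tr.nd (nat_lit 765) (Tr.nd (nat_lit 764) (Tr.lf (nat_lit 3)) (Tr.lf (nat_lit 3))) (Tr.nd (nat_lit 766) (Tr.lf (nat_lit 2)) (Tr.lf (nat_lit 2))))) (Tr.nd (nat_lit 771) (Tr.nd (nat_lit 769) (Tr.nd (nat_lit 768) (Tr.lf (nat_lit 2)) (Tr.lf (nat_lit 1))) (Tr.nd (nat_lit 770) (Tr.lf (nat_lit 2)) (Tr.lf (nat_lit 2)))) (Tr.nd (nat_lit 773) (Tr.nd (nat_lit 772) (Tr.lf (nat_lit 1)) (Tr.lf (nat_lit 1))) (Tr.nd (nat_lit 774) (Tr.lf (nat_lit 3)) (Tr.nd (nat_lit 775) (Tr.lf (nat_lit 2)) (Tr.lf (nat_lit 2)))))))) (Tr.nd (nat_lit 793) (Tr.nd (nat_lit 784) (Tr.nd (nat_lit 780) (Tr.nd (nat_lit 778) (Tr.nd (nat_lit 777) (Tr.lf (nat_lit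 0)) (Tr.lf (nat_lit 0))) (Tr.nd (nat_lit 779) (Tr.lf (nat_lit 2)) (Tr.lf (nat_lit 0)))) (Tr.nd (nat_lit 782) (Tr.nd (nat_lit 781) (Tr.lf (nat_lit 3)) (Tr.lf (nat_lit 2))) (Tr.nd (nat_lit 783) (Tr.lf (nat_lit 0)) (Tr.lf (nat_lit 2))))) (Tr.nd (nat_lit 788) (Tr.nd (nat_lit 786) (Tr.nd (nat_lit 785) (Tr.lf (nat_lit 3)) (Tr.lf (nat_lit 1))) (Tr.nd (nat_lit 787) (Tr.lf (nat_lit 3)) (Tr.lf (nat_lit 3)))) (Tr.nd (nat_lit 790) (Tr.nd (nat_lit 789) (Tr.lf (nat_lit 3)) (Tr.lf (nat_lit 2))) (Tr.nd (nat_lit 791) (Tr.lf (nat_lit 0)) (Tr.nd (nat_lit 792) (Tr.lf (nat_lit 0)) (Tr.lf (nat_lit 2))))))) (Tr.nd (nat_lit 801) (Tr.nd (nat_lit 797) (Tr.nd (nat_lit 795) (Tr.nd (nat_lit 794) (Tr.lf (nat_lit 1)) (Tr.lf (nat_lit 0))) (Tr.nd (nat_lit 796) (Tr.lf (nat_lit 2)) (Tr.lf (nat_lit 3)))) (Tr.nd (nat_lit 799) (Tr.nd (nat_lit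 798) (Tr.lf (nat_lit 3)) (Tr.lf (nat_lit 0))) (Tr.nd (nat_lit 800) (Tr.lf (nat_lit 3)) (Tr.lf (nat_lit 2))))) (Tr.nd (nat_lit 805) (Tr.nd (nat_lit 803) (Tr.nd (nat_lit 802) (Tr.lf (nat_lit 0)) (Tr.lf (nat_lit 3))) (Tr.nd (nat_lit 804) (Tr.lf (nat_lit 0)) (Tr.lf (nat_lit 0)))) (Tr.nd (nat_lit 807) (Tr.nd (nat_lit 806) (Tr.lf (nat_lit 3)) (Tr.lf (nat_lit 2))) (Tr.nd (nat_lit 808) (Tr.lf (nat_lit 3)) (Tr.nd (nat_lit 809) (Tr.lf (nat_lit 1)) (Tr.lf (nat_lit 3))))))))))) (Tr.nd (nat_lit 945) (Tr.nd (nat_lit 877) (Tr.nd (nat_lit 843) (Tr.nd (nat_lit 826) (Tr.nd (nat_lit 818) (Tr.nd (nat_lit 814) (Tr.nd (nat_lit 812) (Tr.nd (nat_lit 811) (Tr.lf (nat_lit 3)) (Tr.lf (nat_lit 1))) (Tr.nd (nat_lit 813) (Tr.lf (nat_lit 2)) (Tr.lf (nat_lit 0)))) (Tr.nd (nat_lit 816) (Tr.nd (nat_lit 815) (Tr.lf (nat_lit 2)) (Tr.lf (nat_lit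 0))) (Tr.nd (nat_lit 817) (Tr.lf (nat_lit 0)) (Tr.lf (nat_lit 0))))) (Tr.nd (nat_lit 822) (Tr.nd (nat_lit 820) (Tr.nd (nat_lit 819) (Tr.lf (nat_lit 1)) (Tr.lf (nat_lit 3))) (Tr.nd (nat_lit 821) (Tr.lf (nat_lit 2)) (Tr.lf (nat_lit 3)))) (Tr.nd (nat_lit 824) (Tr.nd (nat_lit 823) (Tr.lf (nat_lit 3)) (Tr.lf (nat_lit 1))) (Tr.nd (nat_lit 825) (Tr.lf (nat_lit 2)) (Tr.lf (nat_lit 2)))))) (Tr.nd (nat_lit 834) (Tr.nd (nat_lit 830) (Tr.nd (nat_lit 828) (Tr.nd (nat_lit 827) (Tr.lf (nat_lit 3)) (Tr.lf (nat_lit 3))) (Tr.nd (nat_lit 829) (Tr.lf (nat_lit 3)) (Tr.lf (nat_lit 2)))) (Tr.nd (nat_lit 832) (Tr.nd (nat_lit 831) (Tr.lf (nat_lit 1)) (Tr.lf (nat_lit 3))) (Tr.nd (nat_lit 833) (Tr.lf (nat_lit 1)) (Tr.lf (nat_lit 2))))) (Tr.nd (nat_lit 838) (Tr.nd (nat_lit 836) (Tr.nd (nat_lit 835) (Tr.lf (nat_lit 0)) (Tr.lf (nat_lit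 0))) (Tr.nd (nat_lit 837) (Tr.lf (nat_lit 2)) (Tr.lf (nat_lit 0)))) (Tr.nd (nat_lit 840) (Tr.nd (nat_lit 839) (Tr.lf (nat_lit 3)) (Tr.lf (nat_lit 0))) (Tr.nd (nat_lit 841) (Tr.lf (nat_lit 2)) (Tr.nd (nat_lit 842) (Tr.lf (nat_lit 3)) (Tr.lf (nat_lit 0)))))))) (Tr.nd (nat_lit 860) (Tr.nd (nat_lit 851) (Tr.nd (nat_lit 847) (Tr.nd (nat_lit 845) (Tr.nd (nat_lit 844) (Tr.lf (nat_lit 3)) (Tr.lf (nat_lit 3))) (Tr.nd (nat_lit 846) (Tr.lf (nat_lit 0)) (Tr.lf (nat_lit 2)))) (Tr.nd (nat_lit 849) (Tr.nd (nat_lit 848) (Tr.lf (nat_lit 3)) (Tr.lf (nat_lit 3))) (Tr.nd (nat_lit 850) (Tr.lf (nat_lit 2)) (Tr.lf (nat_lit 0))))) (Tr.nd (nat_lit 855) (Tr.nd (nat_lit 853) (Tr.nd (nat_lit 852) (Tr.lf (nat_lit 0)) (Tr.lf (nat_lit 3))) (Tr.nd (nat_lit 854) (Tr.lf (nat_lit 0)) (Tr.lf (nat_lit 2)))) (Tr.nd (nat_lit 857) (Tr.nd (nat_lit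 856) (Tr.lf (nat_lit 2)) (Tr.lf (nat_lit 3))) (Tr.nd (nat_lit 858) (Tr.lf (nat_lit 1)) (Tr.nd (nat_lit 859) (Tr.lf (nat_lit 1)) (Tr.lf (nat_lit 2))))))) (Tr.nd (nat_lit 868) (Tr.nd (nat_lit 864) (Tr.nd (nat_lit 862) (Tr.nd (nat_lit 861) (Tr.lf (nat_lit 0)) (Tr.lf (nat_lit 3))) (Tr.nd (nat_lit 863) (Tr.lf (nat_lit 3)) (Tr.lf (nat_lit 1)))) (Tr.nd (nat_lit 866) (Tr.nd (nat_lit 865) (Tr.lf (nat_lit 2)) (Tr.lf (nat_lit 3))) (Tr.nd (nat_lit 867) (Tr.lf (nat_lit 0)) (Tr.lf (nat_lit 0))))) (Tr.nd (nat_lit 872) (Tr.nd (nat_lit 870) (Tr.nd (nat_lit 869) (Tr.lf (nat_lit 1)) (Tr.lf (nat_lit 0))) (Tr.nd (nat_lit 871) (Tr.lf (nat_lit 1)) (Tr.lf (nat_lit 2)))) (Tr.nd (nat_lit 874) (Tr.nd (nat_lit 873) (Tr.lf (nat_lit 0)) (Tr.lf (nat_lit 2))) (Tr.nd (nat_lit 875) (Tr.lf (nat_lit 2)) (Tr.nd (nat_lit 876) (Tr.lf (nat_lit 2))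 (Tr.lf (nat_lit 3))))))))) (Tr.nd (nat_lit 911) (Tr.nd (nat_lit 894) (Tr.nd (nat_lit 885) (Tr.nd (nat_lit 881) (Tr.nd (nat_lit 879) (Tr.nd (nat_lit 878) (Tr.lf (nat_lit 3)) (Tr.lf (nat_lit 1))) (Tr.nd (nat_lit 880) (Tr.lf (nat_lit 2)) (Tr.lf (nat_lit 1)))) (Tr.nd (nat_lit 883) (Tr.nd (nat_lit 882) (Tr.lf (nat_lit 3)) (Tr.lf (nat_lit 0))) (Tr.nd (nat_lit 884) (Tr.lf (nat_lit 0)) (Tr.lf (nat_lit 0))))) (Tr.nd (nat_lit 889) (Tr.nd (nat_lit 887) (Tr.nd (nat_lit 886) (Tr.lf (nat_lit 1)) (Tr.lf (nat_lit 1))) (Tr.nd (nat_lit 888) (Tr.lf (nat_lit 3)) (Tr.lf (nat_lit 1)))) (Tr.nd (nat_lit 891) (Tr.nd (nat_lit 890) (Tr.lf (nat_lit 1)) (Tr.lf (nat_lit 2))) (Tr.nd (nat_lit 892) (Tr.lf (nat_lit 3)) (Tr.nd (nat_lit 893) (Tr.lf (nat_lit 2)) (Tr.lf (nat_lit 1))))))) (Tr.nd (nat_lit 902) (Tr.nd (nat_lit 898) (Tr.nd (nat_lit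 896) (Tr.nd (nat_lit 895) (Tr.lf (nat_lit 3)) (Tr.lf (nat_lit 1))) (Tr.nd (nat_lit 897) (Tr.lf (nat_lit 3)) (Tr.lf (nat_lit 0)))) (Tr.nd (nat_lit 900) (Tr.nd (nat_lit 899) (Tr.lf (nat_lit 2)) (Tr.lf (nat_lit 2))) (Tr.nd (nat_lit 901) (Tr.lf (nat_lit 2)) (Tr.lf (nat_lit 0))))) (Tr.nd (nat_lit 906) (Tr.nd (nat_lit 904) (Tr.nd (nat_lit 903) (Tr.lf (nat_lit 3)) (Tr.lf (nat_lit 0))) (Tr.nd (nat_lit 905) (Tr.lf (nat_lit 2)) (Tr.lf (nat_lit 3)))) (Tr.nd (nat_lit 908) (Tr.nd (nat_lit 907) (Tr.lf (nat_lit 2)) (Tr.lf (nat_lit 0))) (Tr.nd (nat_lit 909) (Tr.lf (nat_lit 3)) (Tr.nd (nat_lit 910) (Tr.lf (nat_lit 3)) (Tr.lf (nat_lit 2)))))))) (Tr.nd (nat_lit 928) (Tr.nd (nat_lit 919) (Tr.nd (nat_lit 915) (Tr.nd (nat_lit 913) (Tr.nd (nat_lit 912) (Tr.lf (nat_lit 0)) (Tr.lf (nat_lit 2))) (Tr.nd (nat_lit 914) (Tr.lf (nat_lit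 1)) (Tr.lf (nat_lit 3)))) (Tr.nd (nat_lit 917) (Tr.nd (nat_lit 916) (Tr.lf (nat_lit 2)) (Tr.lf (nat_lit 3))) (Tr.nd (nat_lit 918) (Tr.lf (nat_lit 2)) (Tr.lf (nat_lit 2))))) (Tr.nd (nat_lit 923) (Tr.nd (nat_lit 921) (Tr.nd (nat_lit 920) (Tr.lf (nat_lit 2)) (Tr.lf (nat_lit 1))) (Tr.nd (nat_lit 922) (Tr.lf (nat_lit 3)) (Tr.lf (nat_lit 0)))) (Tr.nd (nat_lit 925) (Tr.nd (nat_lit 924) (Tr.lf (nat_lit 3)) (Tr.lf (nat_lit 2))) (Tr.nd (nat_lit 926) (Tr.lf (nat_lit 2)) (Tr.nd (nat_lit 927) (Tr.lf (nat_lit 1)) (Tr.lf (nat_lit 2))))))) (Tr.nd (nat_lit 936) (Tr.nd (nat_lit 932) (Tr.nd (nat_lit 930) (Tr.nd (nat_lit 929) (Tr.lf (nat_lit 3)) (Tr.lf (nat_lit 1))) (Tr.nd (nat_lit 931) (Tr.lf (nat_lit 2)) (Tr.lf (nat_lit 2)))) (Tr.nd (nat_lit 934) (Tr.nd (nat_lit 933) (Tr.lf (nat_lit 3)) (Tr.lf (nat_lit 3))) (Tr.nd (nat_lit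 935) (Tr.lf (nat_lit 2)) (Tr.lf (nat_lit 2))))) (Tr.nd (nat_lit 940) (Tr.nd (nat_lit 938) (Tr.nd (nat_lit 937) (Tr.lf (nat_lit 2)) (Tr.lf (nat_lit 3))) (Tr.nd (nat_lit 939) (Tr.lf (nat_lit 3)) (Tr.lf (nat_lit 3)))) (Tr.nd (nat_lit 942) (Tr.nd (nat_lit 941) (Tr.lf (nat_lit 3)) (Tr.lf (nat_lit 2))) (Tr.nd (nat_lit 943) (Tr.lf (nat_lit 1)) (Tr.nd (nat_lit 944) (Tr.lf (nat_lit 3)) (Tr.lf (nat_lit 3)))))))))) (Tr.nd (nat_lit 1013) (Tr.nd (nat_lit 979) (Tr.nd (nat_lit 962) (Tr.nd (nat_lit 953) (Tr.nd (nat_lit 949) (Tr.nd (nat_lit 947) (Tr.nd (nat_lit 946) (Tr.lf (nat_lit 0)) (Tr.lf (nat_lit 2))) (Tr.nd (nat_lit 948) (Tr.lf (nat_lit 1)) (Tr.lf (nat_lit 3)))) (Tr.nd (nat_lit 951) (Tr.nd (nat_lit 950) (Tr.lf (nat_lit 3)) (Tr.lf (nat_lit 3))) (Tr.nd (nat_lit 952) (Tr.lf (nat_lit 0)) (Tr.lf (nat_lit 2))))) (Tr.nd (nat_lit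 957) (Tr.nd (nat_lit 955) (Tr.nd (nat_lit 954) (Tr.lf (nat_lit 3)) (Tr.lf (nat_lit 0))) (Tr.nd (nat_lit 956) (Tr.lf (nat_lit 2)) (Tr.lf (nat_lit 2)))) (Tr.nd (nat_lit 959) (Tr.nd (nat_lit 958) (Tr.lf (nat_lit 1)) (Tr.lf (nat_lit 1))) (Tr.nd (nat_lit 960) (Tr.lf (nat_lit 0)) (Tr.nd (nat_lit 961) (Tr.lf (nat_lit 2)) (Tr.lf (nat_lit 3))))))) (Tr.nd (nat_lit 970) (Tr.nd (nat_lit 966) (Tr.nd (nat_lit 964) (Tr.nd (nat_lit 963) (Tr.lf (nat_lit 2)) (Tr.lf (nat_lit 3))) (Tr.nd (nat_lit 965) (Tr.lf (nat_lit 2)) (Tr.lf (nat_lit 0)))) (Tr.nd (nat_lit 968) (Tr.nd (nat_lit 967) (Tr.lf (nat_lit 0)) (Tr.lf (nat_lit 1))) (Tr.nd (nat_lit 969) (Tr.lf (nat_lit 0)) (Tr.lf (nat_lit 0))))) (Tr.nd (nat_lit 974) (Tr.nd (nat_lit 972) (Tr.nd (nat_lit 971) (Tr.lf (nat_lit 1)) (Tr.lf (nat_lit 1))) (Tr.nd (nat_lit 973) (Tr.lf (nat_lit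 1)) (Tr.lf (nat_lit 1)))) (Tr.nd (nat_lit 976) (Tr.nd (nat_lit 975) (Tr.lf (nat_lit 1)) (Tr.lf (nat_lit 0))) (Tr.nd (nat_lit 977) (Tr.lf (nat_lit 0)) (Tr.nd (nat_lit 978) (Tr.lf (nat_lit 1)) (Tr.lf (nat_lit 2)))))))) (Tr.nd (nat_lit 996) (Tr.nd (nat_lit 987) (Tr.nd (nat_lit 983) (Tr.nd (nat_lit 981) (Tr.nd (nat_lit 980) (Tr.lf (nat_lit 1)) (Tr.lf (nat_lit 1))) (Tr.nd (nat_lit 982) (Tr.lf (nat_lit 1)) (Tr.lf (nat_lit 3)))) (Tr.nd (nat_lit 985) (Tr.nd (nat_lit 984) (Tr.lf (nat_lit 2)) (Tr.lf (nat_lit 3))) (Tr.nd (nat_lit 986) (Tr.lf (nat_lit 3)) (Tr.lf (nat_lit 1))))) (Tr.nd (nat_lit 991) (Tr.nd (nat_lit 989) (Tr.nd (nat_lit 988) (Tr.lf (nat_lit 1)) (Tr.lf (nat_lit 3))) (Tr.nd (nat_lit 990) (Tr.lf (nat_lit 1)) (Tr.lf (nat_lit 2)))) (Tr.nd (nat_lit 993) (Tr.nd (nat_lit 992) (Tr.lf (nat_lit 3)) (Tr.lf (nat_lit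 2))) (Tr.nd (nat_lit 994) (Tr.lf (nat_lit 2)) (Tr.nd (nat_lit 995) (Tr.lf (nat_lit 2)) (Tr.lf (nat_lit 0))))))) (Tr.nd (nat_lit 1004) (Tr.nd (nat_lit 1000) (Tr.nd (nat_lit 998) (Tr.nd (nat_lit 997) (Tr.lf (nat_lit 1)) (Tr.lf (nat_lit 2))) (Tr.nd (nat_lit 999) (Tr.lf (nat_lit 2)) (Tr.lf (nat_lit 1)))) (Tr.nd (nat_lit 1002) (Tr.nd (nat_lit 1001) (Tr.lf (nat_lit 1)) (Tr.lf (nat_lit 1))) (Tr.nd (nat_lit 1003) (Tr.lf (nat_lit 0)) (Tr.lf (nat_lit 0))))) (Tr.nd (nat_lit 1008) (Tr.nd (nat_lit 1006) (Tr.nd (nat_lit 1005) (Tr.lf (nat_lit 0)) (Tr.lf (nat_lit 0))) (Tr.nd (nat_lit 1007) (Tr.lf (nat_lit 3)) (Tr.lf (nat_lit 3)))) (Tr.nd (nat_lit 1010) (Tr.nd (nat_lit 1009) (Tr.lf (nat_lit 2)) (Tr.lf (nat_lit 2))) (Tr.nd (nat_lit 1011) (Tr.lf (nat_lit 3)) (Tr.nd (nat_lit 1012) (Tr.lf (nat_lit 0)) (Tr.lf (nat_lit 1)))))))))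 (Tr.nd (nat_lit 1047) (Tr.nd (nat_lit 1030) (Tr.nd (nat_lit 1021) (Tr.nd (nat_lit 1017) (Tr.nd (nat_lit 1015) (Tr.nd (nat_lit 1014) (Tr.lf (nat_lit 1)) (Tr.lf (nat_lit 2))) (Tr.nd (nat_lit 1016) (Tr.lf (nat_lit 1)) (Tr.lf (nat_lit 0)))) (Tr.nd (nat_lit 1019) (Tr.nd (nat_lit 1018) (Tr.lf (nat_lit 1)) (Tr.lf (nat_lit 2))) (Tr.nd (nat_lit 1020) (Tr.lf (nat_lit 2)) (Tr.lf (nat_lit 2))))) (Tr.nd (nat_lit 1025) (Tr.nd (nat_lit 1023) (Tr.nd (nat_lit 1022) (Tr.lf (nat_lit 1)) (Tr.lf (nat_lit 3))) (Tr.nd (nat_lit 1024) (Tr.lf (nat_lit 2)) (Tr.lf (nat_lit 0)))) (Tr.nd (nat_lit 1027) (Tr.nd (nat_lit 1026) (Tr.lf (nat_lit 0)) (Tr.lf (nat_lit 2))) (Tr.nd (nat_lit 1028) (Tr.lf (nat_lit 2)) (Tr.nd (nat_lit 1029) (Tr.lf (nat_lit 3)) (Tr.lf (nat_lit 3))))))) (Tr.nd (nat_lit 1038) (Tr.nd (nat_lit 1034) (Tr.nd (nat_lit 1032)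 (Tr.nd (nat_lit 1031) (Tr.lf (nat_lit 1)) (Tr.lf (nat_lit 3))) (Tr.nd (nat_lit 1033) (Tr.lf (nat_lit 1)) (Tr.lf (nat_lit 2)))) (Tr.nd (nat_lit 1036) (Tr.nd (nat_lit 1035) (Tr.lf (nat_lit 0)) (Tr.lf (nat_lit 2))) (Tr.nd (nat_lit 1037) (Tr.lf (nat_lit 3)) (Tr.lf (nat_lit 1))))) (Tr.nd (nat_lit 1042) (Tr.nd (nat_lit 1040) (Tr.nd (nat_lit 1039) (Tr.lf (nat_lit 3)) (Tr.lf (nat_lit 3))) (Tr.nd (nat_lit 1041) (Tr.lf (nat_lit 2)) (Tr.lf (nat_lit 3)))) (Tr.nd (nat_lit 1044) (Tr.nd (nat_lit 1043) (Tr.lf (nat_lit 3)) (Tr.lf (nat_lit 0))) (Tr.nd (nat_lit 1045) (Tr.lf (nat_lit 1)) (Tr.nd (nat_lit 1046) (Tr.lf (nat_lit 2)) (Tr.lf (nat_lit 1)))))))) (Tr.nd (nat_lit 1064) (Tr.nd (nat_lit 1055) (Tr.nd (nat_lit 1051) (Tr.nd (nat_lit 1049) (Tr.nd (nat_lit 1048) (Tr.lf (nat_lit 0)) (Tr.lf (nat_lit 2))) (Tr.nd (nat_lit 1050) (Tr.lf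 (nat_lit 1)) (Tr.lf (nat_lit 1)))) (Tr.nd (nat_lit 1053) (Tr.nd (nat_lit 1052) (Tr.lf (nat_lit 1)) (Tr.lf (nat_lit 1))) (Tr.nd (nat_lit 1054) (Tr.lf (nat_lit 1)) (Tr.lf (nat_lit 0))))) (Tr.nd (nat_lit 1059) (Tr.nd (nat_lit 1057) (Tr.nd (nat_lit 1056) (Tr.lf (nat_lit 1)) (Tr.lf (nat_lit 0))) (Tr.nd (nat_lit 1058) (Tr.lf (nat_lit 3)) (Tr.lf (nat_lit 2)))) (Tr.nd (nat_lit 1061) (Tr.nd (nat_lit 1060) (Tr.lf (nat_lit 3)) (Tr.lf (nat_lit 1))) (Tr.nd (nat_lit 1062) (Tr.lf (nat_lit 2)) (Tr.nd (nat_lit 1063) (Tr.lf (nat_lit 3)) (Tr.lf (nat_lit 1))))))) (Tr.nd (nat_lit 1072) (Tr.nd (nat_lit 1068) (Tr.nd (nat_lit 1066) (Tr.nd (nat_lit 1065) (Tr.lf (nat_lit 1)) (Tr.lf (nat_lit 0))) (Tr.nd (nat_lit 1067) (Tr.lf (nat_lit 1)) (Tr.lf (nat_lit 0)))) (Tr.nd (nat_lit 1070) (Tr.nd (nat_lit 1069) (Tr.lf (nat_lit 0)) (Tr.lf (nat_lit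 1))) (Tr.nd (nat_lit 1071) (Tr.lf (nat_lit 0)) (Tr.lf (nat_lit 1))))) (Tr.nd (nat_lit 1076) (Tr.nd (nat_lit 1074) (Tr.nd (nat_lit 1073) (Tr.lf (nat_lit 2)) (Tr.lf (nat_lit 1))) (Tr.nd (nat_lit 1075) (Tr.lf (nat_lit 1)) (Tr.lf (nat_lit 2)))) (Tr.nd (nat_lit 1078) (Tr.nd (nat_lit 1077) (Tr.lf (nat_lit 1)) (Tr.lf (nat_lit 1))) (Tr.nd (nat_lit 1079) (Tr.lf (nat_lit 0)) (Tr.nd (nat_lit 1080) (Tr.lf (nat_lit 1)) (Tr.lf (nat_lit 3)))))))))))))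
theorem mini0_alt : Tr.all (altChk idx inv RW (SW0)) mini0A = true := by decide +kernel
theorem mini0_chk : Tr.all (chkFc idx inv mini0S mini0A (fun b => Tr.find b mini0P) (fun b => Tr.find b mini0Q)) mini0S = true := by decide +kernel
theorem mini0_run : runM idx inv mini0S 1787 0 [Mv.f (nat_lit 0), Mv.f (nat_lit 1), Mv.f (nat_lit 2), Mv.f (nat_lit 3), Mv.f (nat_lit 4), Mv.f (nat_lit 5), Mv.f (nat_lit 6), Mv.f (nat_lit 7), Mv.f (nat_lit 8), Mv.f (nat_lit 9), Mv.f (nat_lit 10), Mv.f (nat_lit 11), Mv.f (nat_lit 12), Mv.f (nat_lit 13), Mv.f (nat_lit 1786)] [Col.a, Col.b, Col.a, Col.b, Col.a, Col.c, Col.b, Col.a, Col.b, Col.c, Col.a, Col.b, Col.a, Col.b, Col.c] 0 = true := by decide +kernel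
theorem mini0_fix {G X : Type*} [Group G] [MulAction G X] (g : Col → G) (x0 : X) (hinv : ∀ c, g (inv c) = (g c)⁻¹)
    (hRW : ∀ w ∈ RW, gw g w = 1) (hSW : ∀ w ∈ SW0, gw g w • x0 = x0) : gw g [Col.a, Col.b, Col.a, Col.b, Col.a, Col.c, Col.b, Col.a, Col.b, Col.c, Col.a, Col.b, Col.a, Col.b, Col.c] • x0 = x0 :=
  mini_sound g x0 dec hdec hinv
    (fun a ha => altChk_sound g x0 dec hdec hinv hRW hSW ((Tr.all_iff _ _).1 mini0_alt a ha)) mini0_chk mini0_run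
noncomputable def mini1S : Tr (Fc Col) := (Tr.nd (nat_lit 754) (Tr.nd (nat_lit 377) (Tr.nd (nat_lit 188) (Tr.nd (nat_lit 94) (Tr.nd (nat_lit 47) (Tr.nd (nat_lit 23) (Tr.nd (nat_lit 11) (Tr.nd (nat_lit 5) (Tr.nd (nat_lit 2) (Tr.nd (nat_lit 1) (Tr.lf (Fc.ed (nat_lit 0) (nat_lit 0) Col.a (nat_lit 1) Dv.df)) (Tr.lf (Fc.ed (nat_lit 1) (nat_lit 1) Col.b (nat_lit 2) Dv.df))) (Tr.nd (nat_lit 3) (Tr.lf (Fc.ed (nat_lit 2) (nat_lit 2) Col.a (nat_lit 3) Dv.df)) (Tr.nd (nat_lit 4) (Tr.lf (Fc.ed (nat_lit 3) (nat_lit 3) Col.b (nat_lit 4) Dv.df)) (Tr.lf (Fc.ed (nat_lit 4) (nat_lit 4) Col.a (nat_lit 5) Dv.df))))) (Tr.nd (nat_lit 8) (Tr.nd (nat_lit 6) (Tr.lf (Fc.ed (nat_lit 5) (nat_lit 5) Col.c (nat_lit 6) Dv.df)) (Tr.nd (nat_lit 7) (Tr.lf (Fc.ed (nat_lit 6) (nat_lit 6) Col.b (nat_lit 7) Dv.df)) (Tr.lf (Fc.ed (nat_lit 7) (nat_lit 7) Col.a (nat_lit 8) Dv.df)))) (Tr.nd (nat_lit 9) (Tr.lf (Fc.ed (nat_lit 8) (nat_lit 8) Col.b (nat_lit 9) Dv.df)) (Tr.nd (nat_lit 10) (Tr.lf (Fc.ed (nat_lit 9) (nat_lit 9) Col.c (nat_lit 10) Dv.df)) (Tr.lf (Fc.ed (nat_lit 10) (nat_lit 10) Col.a (nat_lit 11) Dv.df)))))) (Tr.nd (nat_lit 17) (Tr.nd (nat_lit 14) (Tr.nd (nat_lit 12) (Tr.lf (Fc.ed (nat_lit 11) (nat_lit 11) Col.b (nat_lit 12) Dv.df)) (Tr.nd (nat_lit 13) (Tr.lf (Fc.ed (nat_lit 12) (nat_lit 12) Col.a (nat_lit 13) Dv.df)) (Tr.lf (Fc.ed (nat_lit 13) (nat_lit 13) Col.b (nat_lit 14) Dv.df)))) (Tr.nd (nat_lit 15) (Tr.lf (Fc.ed (nat_lit 14) (nat_lit 14) Col.c (nat_lit 0) (Dv.sb (nat_lit 0) [Mv.f (nat_lit 0), Mv.f (nat_lit 1), Mv.f (nat_lit 2), Mv.f (nat_lit 3), Mv.f (nat_lit 4), Mv.f (nat_lit 5), Mv.f (nat_lit 6), Mv.f (nat_lit 7), Mv.f (nat_lit 8), Mv.f (nat_lit 9), Mv.f (nat_lit 10), Mv.f (nat_lit 11), Mv.f (nat_lit 12), Mv.f (nat_lit 13)] []))) (Tr.nd (nat_lit 16) (Tr.lf (Fc.ed (nat_lit 15) (nat_lit 5) Col.d (nat_lit 15) Dv.df)) (Tr.lf (Fc.ed (nat_lit 16) (nat_lit 15) Col.c (nat_lit 16) Dv.df))))) (Tr.nd (nat_lit 20) (Tr.nd (nat_lit 18) (Tr.lf (Fc.ed (nat_lit 17) (nat_lit 16) Col.b (nat_lit 17) Dv.df)) (Tr.nd (nat_lit 19) (Tr.lf (Fc.ed (nat_lit 18) (nat_lit 17) Col.a (nat_lit 18) Dv.df)) (Tr.lf (Fc.ed (nat_lit 19) (nat_lit 18) Col.b (nat_lit 19) Dv.df)))) (Tr.nd (nat_lit 21) (Tr.lf (Fc.ed (nat_lit 20) (nat_lit 19) Col.c (nat_lit 20) Dv.df)) (Tr.nd (nat_lit 22) (Tr.lf (Fc.ed (nat_lit 21) (nat_lit 20) Col.a (nat_lit 21) Dv.df)) (Tr.lf (Fc.ed (nat_lit 22) (nat_lit 21) Col.b (nat_lit 22) Dv.df))))))) (Tr.nd (nat_lit 35) (Tr.nd (nat_lit 29) (Tr.nd (nat_lit 26) (Tr.nd (nat_lit 24) (Tr.lf (Fc.ed (nat_lit 23) (nat_lit 22) Col.a (nat_lit 23) Dv.df)) (Tr.nd (nat_lit 25) (Tr.lf (Fc.ed (nat_lit 24) (nat_lit 23) Col.b (nat_lit 24) Dv.df)) (Tr.lf (Fc.ed (nat_lit 25) (nat_lit 24) Col.c (nat_lit 25) Dv.df)))) (Tr.nd (nat_lit 27) (Tr.lf (Fc.ed (nat_lit 26) (nat_lit 25) Col.d (nat_lit 26) Dv.df)) (Tr.nd (nat_lit 28) (Tr.lf (Fc.ed (nat_lit 27) (nat_lit 4) Col.d (nat_lit 27) Dv.df)) (Tr.lf (Fc.ed (nat_lit 28) (nat_lit 27) Col.a (nat_lit 15) (Dv.wd (nat_lit 1) [Mv.b (nat_lit 15), Mv.b (nat_lit 4), Mv.f (nat_lit 27)])))))) (Tr.nd (nat_lit 32) (Tr.nd (nat_lit 30) (Tr.lf (Fc.ed (nat_lit 29) (nat_lit 9) Col.a (nat_lit 28) Dv.df)) (Tr.nd (nat_lit 31) (Tr.lf (Fc.ed (nat_lit 30) (nat_lit 28) Col.c (nat_lit 11) (Dv.wd (nat_lit 2) [Mv.b (nat_lit 10), Mv.b (nat_lit 9), Mv.f (nat_lit 29)]))) (Tr.lf (Fc.ed (nat_lit 31) (nat_lit 27) Col.b (nat_lit 29) Dv.df)))) (Tr.nd (nat_lit 33) (Tr.lf (Fc.ed (nat_lit 32) (nat_lit 29) Col.d (nat_lit 3) (Dv.wd (nat_lit 3) [Mv.f (nat_lit 3), Mv.f (nat_lit 27), Mv.f (nat_lit 31)]))) (Tr.nd (nat_lit 34) (Tr.lf (Fc.ed (nat_lit 33) (nat_lit 4) Col.c (nat_lit 30) Dv.df)) (Tr.lf (Fc.ed (nat_lit 34) (nat_lit 30) Col.a (nat_lit 6) (Dv.wd (nat_lit 4) [Mv.b (nat_lit 5), Mv.b (nat_lit 4), Mv.f (nat_lit 33)]))))))) (Tr.nd (nat_lit 41) (Tr.nd (nat_lit 38) (Tr.nd (nat_lit 36) (Tr.lf (Fc.ed (nat_lit 35) (nat_lit 21) Col.c (nat_lit 31) Dv.df)) (Tr.nd (nat_lit 37) (Tr.lf (Fc.ed (nat_lit 36) (nat_lit 31) Col.a (nat_lit 19) (Dv.wd (nat_lit 4) [Mv.f (nat_lit 20), Mv.f (nat_lit 21), Mv.f (nat_lit 35)]))) (Tr.lf (Fc.ed (nat_lit 37) (nat_lit 17) Col.c (nat_lit 32) Dv.df)))) (Tr.nd (nat_lit 39) (Tr.lf (Fc.ed (nat_lit 38) (nat_lit 18) Col.c (nat_lit 33) Dv.df)) (Tr.nd (nat_lit 40) (Tr.lf (Fc.ed (nat_lit 39) (nat_lit 33) Col.a (nat_lit 32) (Dv.wd (nat_lit 4) [Mv.b (nat_lit 37), Mv.f (nat_lit 18), Mv.f (nat_lit 38)]))) (Tr.lf (Fc.ed (nat_lit 40) (nat_lit 16) Col.a (nat_lit 34) Dv.df))))) (Tr.nd (nat_lit 44) (Tr.nd (nat_lit 42) (Tr.lf (Fc.ed (nat_lit 41) (nat_lit 34) Col.c (nat_lit 27) (Dv.wd (nat_lit 2) [Mv.f (nat_lit 28), Mv.f (nat_lit 16), Mv.f (nat_lit 40)]))) (Tr.nd (nat_lit 43) (Tr.lf (Fc.ed (nat_lit 42) (nat_lit 2) Col.d (nat_lit 35) Dv.df)) (Tr.lf (Fc.ed (nat_lit 43) (nat_lit 35) Col.a (nat_lit 29) (Dv.wd (nat_lit 1) [Mv.f (nat_lit 32), Mv.b (nat_lit 2), Mv.f (nat_lit 42)]))))) (Tr.nd (nat_lit 45) (Tr.lf (Fc.ed (nat_lit 44) (nat_lit 1) Col.d (nat_lit 36) Dv.df)) (Tr.nd (nat_lit 46) (Tr.lf (Fc.ed (nat_lit 45) (nat_lit 36) Col.b (nat_lit 35) (Dv.wd (nat_lit 5) [Mv.b (nat_lit 42), Mv.b (nat_lit 1), Mv.f (nat_lit 44)]))) (Tr.lf (Fc.ed (nat_lit 46) (nat_lit 20) Col.d (nat_lit 37) Dv.df)))))))) (Tr.nd (nat_lit 70) (Tr.nd (nat_lit 58) (Tr.nd (nat_lit 52) (Tr.nd (nat_lit 49) (Tr.nd (nat_lit 48) (Tr.lf (Fc.ed (nat_lit 47) (nat_lit 36) Col.a (nat_lit 38) Dv.df)) (Tr.lf (Fc.ed (nat_lit 48) (nat_lit 38) Col.d (nat_lit 0) (Dv.wd (nat_lit 6) [Mv.f (nat_lit 0), Mv.f (nat_lit 44), Mv.f (nat_lit 47)])))) (Tr.nd (nat_lit 50) (Tr.lf (Fc.ed (nat_lit 49) (nat_lit 14) Col.d (nat_lit 39) Dv.df)) (Tr.nd (nat_lit 51) (Tr.lf (Fc.ed (nat_lit 50) (nat_lit 21) Col.d (nat_lit 40) Dv.df)) (Tr.lf (Fc.ed (nat_lit 51) (nat_lit 40) Col.a (nat_lit 37) (Dv.wd (nat_lit 1) [Mv.b (nat_lit 46), Mv.f (nat_lit 21), Mv.f (nat_lit 50)])))))) (Tr.nd (nat_lit 55) (Tr.nd (nat_lit 53) (Tr.lf (Fc.ed (nat_lit 52) (nat_lit 13) Col.d (nat_lit 41) Dv.df)) (Tr.nd (nat_lit 54) (Tr.lf (Fc.ed (nat_lit 53) (nat_lit 41) Col.b (nat_lit 39) (Dv.wd (nat_lit 5) [Mv.b (nat_lit 49), Mv.b (nat_lit 13), Mv.f (nat_lit 52)]))) (Tr.lf (Fc.ed (nat_lit 54) (nat_lit 8) Col.d (nat_lit 42) Dv.df)))) (Tr.nd (nat_lit 56) (Tr.lf (Fc.ed (nat_lit 55) (nat_lit 9) Col.d (nat_lit 43) Dv.df)) (Tr.nd (nat_lit 57) (Tr.lf (Fc.ed (nat_lit 56) (nat_lit 43) Col.b (nat_lit 42) (Dv.wd (nat_lit 5) [Mv.b (nat_lit 54), Mv.f (nat_lit 8), Mv.f (nat_lit 55)]))) (Tr.lf (Fc.ed (nat_lit 57) (nat_lit 40) Col.b (nat_lit 44) Dv.df)))))) (Tr.nd (nat_lit 64) (Tr.nd (nat_lit 61) (Tr.nd (nat_lit 59) (Tr.lf (Fc.ed (nat_lit 58) (nat_lit 44) Col.d (nat_lit 22) (Dv.wd (nat_lit 3) [Mv.b (nat_lit 22), Mv.f (nat_lit 50), Mv.f (nat_lit 57)]))) (Tr.nd (nat_lit 60) (Tr.lf (Fc.ed (nat_lit 59) (nat_lit 8) Col.c (nat_lit 45) Dv.df)) (Tr.lf (Fc.ed (nat_lit 60) (nat_lit 20) Col.b (nat_lit 46) Dv.df)))) (Tr.nd (nat_lit 62) (Tr.lf (Fc.ed (nat_lit 61) (nat_lit 46) Col.c (nat_lit 47) Dv.df)) (Tr.nd (nat_lit 63) (Tr.lf (Fc.ed (nat_lit 62) (nat_lit 47) Col.b (nat_lit 33) (Dv.wd (nat_lit 7) [Mv.b (nat_lit 38), Mv.f (nat_lit 19), Mv.f (nat_lit 20), Mv.f (nat_lit 60), Mv.f (nat_lit 61)]))) (Tr.lf (Fc.ed (nat_lit 63) (nat_lit 41) Col.a (nat_lit 48) Dv.df))))) (Tr.nd (nat_lit 67) (Tr.nd (nat_lit 65) (Tr.lf (Fc.ed (nat_lit 64) (nat_lit 48) Col.d (nat_lit 12) (Dv.wd (nat_lit 6) [Mv.f (nat_lit 12), Mv.f (nat_lit 52), Mv.f (nat_lit 63)]))) (Tr.nd (nat_lit 66) (Tr.lf (Fc.ed (nat_lit 65) (nat_lit 48) Col.b (nat_lit 49) Dv.df)) (Tr.lf (Fc.ed (nat_lit 66) (nat_lit 49) Col.d (nat_lit 11) (Dv.wd (nat_lit 3) [Mv.f (nat_lit 11), Mv.b (nat_lit 64), Mv.f (nat_lit 65)]))))) (Tr.nd (nat_lit 68) (Tr.lf (Fc.ed (nat_lit 67) (nat_lit 45) Col.a (nat_lit 50) Dv.df)) (Tr.nd (nat_lit 69) (Tr.lf (Fc.ed (nat_lit 68) (nat_lit 50) Col.c (nat_lit 7) (Dv.wd (nat_lit 2) [Mv.f (nat_lit 7), Mv.f (nat_lit 59), Mv.f (nat_lit 67)]))) (Tr.lf (Fc.ed (nat_lit 69) (nat_lit 43) Col.a (nat_lit 51) Dv.df))))))) (Tr.nd (nat_lit 82) (Tr.nd (nat_lit 76) (Tr.nd (nat_lit 73) (Tr.nd (nat_lit 71) (Tr.lf (Fc.ed (nat_lit 70) (nat_lit 51) Col.d (nat_lit 28) (Dv.wd (nat_lit 6) [Mv.b (nat_lit 29), Mv.f (nat_lit 55), Mv.f (nat_lit 69)]))) (Tr.nd (nat_lit 72) (Tr.lf (Fc.ed (nat_lit 71) (nat_lit 37) Col.b (nat_lit 52) Dv.df)) (Tr.lf (Fc.ed (nat_lit 72) (nat_lit 52) Col.d (nat_lit 46) (Dv.wd (nat_lit 3) [Mv.b (nat_lit 60), Mv.f (nat_lit 46), Mv.f (nat_lit 71)]))))) (Tr.nd (nat_lit 74) (Tr.lf (Fc.ed (nat_lit 73) (nat_lit 42) Col.a (nat_lit 53) Dv.df)) (Tr.nd (nat_lit 75) (Tr.lf (Fc.ed (nat_lit 74) (nat_lit 53) Col.d (nat_lit 7) (Dv.wd (nat_lit 6) [Mv.f (nat_lit 7), Mv.f (nat_lit 54), Mv.f (nat_lit 73)]))) (Tr.lf (Fc.ed (nat_lit 75) (nat_lit 6) Col.d (nat_lit 54) Dv.df))))) (Tr.nd (nat_lit 79) (Tr.nd (nat_lit 77) (Tr.lf (Fc.ed (nat_lit 76) (nat_lit 54) Col.b (nat_lit 53) (Dv.wd (nat_lit 5) [Mv.f (nat_lit 74), Mv.b (nat_lit 6), Mv.f (nat_lit 75)]))) (Tr.nd (nat_lit 78) (Tr.lf (Fc.ed (nat_lit 77) (nat_lit 44) Col.a (nat_lit 55) Dv.df)) (Tr.lf (Fc.ed (nat_lit 78) (nat_lit 55) Col.d (nat_lit 23) (Dv.wd (nat_lit 6) [Mv.b (nat_lit 23), Mv.b (nat_lit 58), Mv.f (nat_lit 77)]))))) (Tr.nd (nat_lit 80) (Tr.lf (Fc.ed (nat_lit 79) (nat_lit 55) Col.b (nat_lit 56) Dv.df)) (Tr.nd (nat_lit 81) (Tr.lf (Fc.ed (nat_lit 80) (nat_lit 56) Col.d (nat_lit 24) (Dv.wd (nat_lit 3) [Mv.b (nat_lit 24), Mv.b (nat_lit 78), Mv.f (nat_lit 79)]))) (Tr.lf (Fc.ed (nat_lit 81) (nat_lit 54) Col.a (nat_lit 57) Dv.df)))))) (Tr.nd (nat_lit 88) (Tr.nd (nat_lit 85) (Tr.nd (nat_lit 83) (Tr.lf (Fc.ed (nat_lit 82) (nat_lit 57) Col.d (nat_lit 30) (Dv.wd (nat_lit 6) [Mv.f (nat_lit 34), Mv.f (nat_lit 75), Mv.f (nat_lit 81)]))) (Tr.nd (nat_lit 84) (Tr.lf (Fc.ed (nat_lit 83) (nat_lit 51) Col.b (nat_lit 58) Dv.df)) (Tr.lf (Fc.ed (nat_lit 84) (nat_lit 58) Col.d (nat_lit 59) Dv.df)))) (Tr.nd (nat_lit 86) (Tr.lf (Fc.ed (nat_lit 85) (nat_lit 59) Col.b (nat_lit 28) (Dv.wd (nat_lit 5) [Mv.b (nat_lit 70), Mv.f (nat_lit 83), Mv.f (nat_lit 84)]))) (Tr.nd (nat_lit 87) (Tr.lf (Fc.ed (nat_lit 86) (nat_lit 56) Col.a (nat_lit 60) Dv.df)) (Tr.lf (Fc.ed (nat_lit 87) (nat_lit 24) Col.a (nat_lit 61) Dv.df))))) (Tr.nd (nat_lit 91) (Tr.nd (nat_lit 89) (Tr.lf (Fc.ed (nat_lit 88) (nat_lit 61) Col.d (nat_lit 60) (Dv.wd (nat_lit 6) [Mv.b (nat_lit 86), Mv.f (nat_lit 80), Mv.f (nat_lit 87)]))) (Tr.nd (nat_lit 90) (Tr.lf (Fc.ed (nat_lit 89) (nat_lit 25) Col.a (nat_lit 62) Dv.df)) (Tr.lf (Fc.ed (nat_lit 90) (nat_lit 62) Col.c (nat_lit 61) (Dv.wd (nat_lit 2) [Mv.b (nat_lit 87), Mv.f (nat_lit 25), Mv.f (nat_lit 89)]))))) (Tr.nd (nat_lit 92) (Tr.lf (Fc.ed (nat_lit 91) (nat_lit 59) Col.a (nat_lit 63) Dv.df)) (Tr.nd (nat_lit 93) (Tr.lf (Fc.ed (nat_lit 92) (nat_lit 23) Col.c (nat_lit 64) Dv.df)) (Tr.lf (Fc.ed (nat_lit 93) (nat_lit 63) Col.d (nat_lit 65) Dv.df))))))))) (Tr.nd (nat_lit 141) (Tr.nd (nat_lit 117) (Tr.nd (nat_lit 105) (Tr.nd (nat_lit 99) (Tr.nd (nat_lit 96) (Tr.nd (nat_lit 95) (Tr.lf (Fc.ed (nat_lit 94) (nat_lit 65) Col.a (nat_lit 58) (Dv.wd (nat_lit 1) [Mv.f (nat_lit 84), Mv.f (nat_lit 91), Mv.f (nat_lit 93)]))) (Tr.lf (Fc.ed (nat_lit 95) (nat_lit 5) Col.b (nat_lit 66) Dv.df))) (Tr.nd (nat_lit 97) (Tr.lf (Fc.ed (nat_lit 96) (nat_lit 66) Col.d (nat_lit 67) Dv.df)) (Tr.nd (nat_lit 98) (Tr.lf (Fc.ed (nat_lit 97) (nat_lit 67) Col.b (nat_lit 15) (Dv.wd (nat_lit 5) [Mv.b (nat_lit 15), Mv.f (nat_lit 95), Mv.f (nat_lit 96)]))) (Tr.lf (Fc.ed (nat_lit 98) (nat_lit 62) Col.b (nat_lit 68) Dv.df))))) (Tr.nd (nat_lit 102) (Tr.nd (nat_lit 100) (Tr.lf (Fc.ed (nat_lit 99) (nat_lit 32) Col.b (nat_lit 69) Dv.df)) (Tr.nd (nat_lit 101) (Tr.lf (Fc.ed (nat_lit 100) (nat_lit 69) Col.c (nat_lit 67) (Dv.wd (nat_lit 8) [Mv.f (nat_lit 97), Mv.f (nat_lit 16), Mv.f (nat_lit 17), Mv.f (nat_lit 37), Mv.f (nat_lit 99)]))) (Tr.lf (Fc.ed (nat_lit 101) (nat_lit 66) Col.c (nat_lit 70) Dv.df)))) (Tr.nd (nat_lit 103) (Tr.lf (Fc.ed (nat_lit 102) (nat_lit 70) Col.b (nat_lit 50) (Dv.wd (nat_lit 7) [Mv.f (nat_lit 68), Mv.b (nat_lit 6), Mv.b (nat_lit 5), Mv.f (nat_lit 95), Mv.f (nat_lit 101)]))) (Tr.nd (nat_lit 104) (Tr.lf (Fc.ed (nat_lit 103) (nat_lit 64) Col.a (nat_lit 71) Dv.df)) (Tr.lf (Fc.ed (nat_lit 104) (nat_lit 71) Col.c (nat_lit 22) (Dv.wd (nat_lit 2) [Mv.f (nat_lit 23), Mv.f (nat_lit 92), Mv.f (nat_lit 103)]))))))) (Tr.nd (nat_lit 111) (Tr.nd (nat_lit 108) (Tr.nd (nat_lit 106) (Tr.lf (Fc.ed (nat_lit 105) (nat_lit 71) Col.b (nat_lit 72) Dv.df)) (Tr.nd (nat_lit 107) (Tr.lf (Fc.ed (nat_lit 106) (nat_lit 31) Col.b (nat_lit 73) Dv.df)) (Tr.lf (Fc.ed (nat_lit 107) (nat_lit 73) Col.c (nat_lit 72) (Dv.wd (nat_lit 8) [Mv.b (nat_lit 105), Mv.f (nat_lit 104), Mv.b (nat_lit 22), Mv.f (nat_lit 35), Mv.f (nat_lit 106)]))))) (Tr.nd (nat_lit 109) (Tr.lf (Fc.ed (nat_lit 108) (nat_lit 30) Col.b (nat_lit 74) Dv.df)) (Tr.nd (nat_lit 110) (Tr.lf (Fc.ed (nat_lit 109) (nat_lit 57) Col.b (nat_lit 75) Dv.df)) (Tr.lf (Fc.ed (nat_lit 110) (nat_lit 75) Col.d (nat_lit 74) (Dv.wd (nat_lit 3) [Mv.b (nat_lit 108), Mv.b (nat_lit 82), Mv.f (nat_lit 109)])))))) (Tr.nd (nat_lit 114) (Tr.nd (nat_lit 112) (Tr.lf (Fc.ed (nat_lit 111) (nat_lit 74) Col.a (nat_lit 76) Dv.df)) (Tr.nd (nat_lit 113) (Tr.lf (Fc.ed (nat_lit 112) (nat_lit 76) Col.b (nat_lit 63) (Dv.wd (nat_lit 9) [Mv.b (nat_lit 91), Mv.f (nat_lit 85), Mv.b (nat_lit 29), Mv.b (nat_lit 8), Mv.b (nat_lit 7), Mv.b (nat_lit 6), Mv.b (nat_lit 34), Mv.f (nat_lit 108), Mv.f (nat_lit 111)]))) (Tr.lf (Fc.ed (nat_lit 113) (nat_lit 75) Col.a (nat_lit 77) Dv.df)))) (Tr.nd (nat_lit 115) (Tr.lf (Fc.ed (nat_lit 114) (nat_lit 77) Col.b (nat_lit 65) (Dv.wd (nat_lit 9) [Mv.f (nat_lit 94), Mv.b (nat_lit 83), Mv.b (nat_lit 69), Mv.f (nat_lit 56), Mv.f (nat_lit 73), Mv.b (nat_lit 76), Mv.f (nat_lit 81), Mv.f (nat_lit 109), Mv.f (nat_lit 113)]))) (Tr.nd (nat_lit 116) (Tr.lf (Fc.ed (nat_lit 115) (nat_lit 50) Col.d (nat_lit 78) Dv.df)) (Tr.lf (Fc.ed (nat_lit 116) (nat_lit 12) Col.c (nat_lit 79) Dv.df))))))) (Tr.nd (nat_lit 129) (Tr.nd (nat_lit 123) (Tr.nd (nat_lit 120) (Tr.nd (nat_lit 118) (Tr.lf (Fc.ed (nat_lit 117) (nat_lit 59) Col.c (nat_lit 80) Dv.df)) (Tr.nd (nat_lit 119) (Tr.lf (Fc.ed (nat_lit 118) (nat_lit 80) Col.b (nat_lit 79) (Dv.wd (nat_lit 7) [Mv.b (nat_lit 116), Mv.b (nat_lit 11), Mv.b (nat_lit 30), Mv.b (nat_lit 85), Mv.f (nat_lit 117)]))) (Tr.lf (Fc.ed (nat_lit 119) (nat_lit 79) Col.a (nat_lit 81) Dv.df)))) (Tr.nd (nat_lit 121) (Tr.lf (Fc.ed (nat_lit 120) (nat_lit 81) Col.c (nat_lit 13) (Dv.wd (nat_lit 2) [Mv.b (nat_lit 12), Mv.f (nat_lit 116), Mv.f (nat_lit 119)]))) (Tr.nd (nat_lit 122) (Tr.lf (Fc.ed (nat_lit 121) (nat_lit 80) Col.a (nat_lit 82) Dv.df)) (Tr.lf (Fc.ed (nat_lit 122) (nat_lit 82) Col.c (nat_lit 63) (Dv.wd (nat_lit 2) [Mv.b (nat_lit 91), Mv.f (nat_lit 117), Mv.f (nat_lit 121)])))))) (Tr.nd (nat_lit 126) (Tr.nd (nat_lit 124) (Tr.lf (Fc.ed (nat_lit 123) (nat_lit 31) Col.d (nat_lit 83) Dv.df)) (Tr.nd (nat_lit 125) (Tr.lf (Fc.ed (nat_lit 124) (nat_lit 78) Col.b (nat_lit 84) Dv.df)) (Tr.lf (Fc.ed (nat_lit 125) (nat_lit 84) Col.d (nat_lit 70) (Dv.wd (nat_lit 3) [Mv.f (nat_lit 102), Mv.f (nat_lit 115), Mv.f (nat_lit 124)]))))) (Tr.nd (nat_lit 127) (Tr.lf (Fc.ed (nat_lit 126) (nat_lit 73) Col.d (nat_lit 85) Dv.df)) (Tr.nd (nat_lit 128) (Tr.lf (Fc.ed (nat_lit 127) (nat_lit 85) Col.b (nat_lit 83) (Dv.wd (nat_lit 5) [Mv.b (nat_lit 123), Mv.f (nat_lit 106), Mv.f (nat_lit 126)]))) (Tr.lf (Fc.ed (nat_lit 128) (nat_lit 19) Col.d (nat_lit 86) Dv.df)))))) (Tr.nd (nat_lit 135) (Tr.nd (nat_lit 132) (Tr.nd (nat_lit 130) (Tr.lf (Fc.ed (nat_lit 129) (nat_lit 86) Col.a (nat_lit 83) (Dv.wd (nat_lit 1) [Mv.b (nat_lit 123), Mv.f (nat_lit 36), Mv.f (nat_lit 128)]))) (Tr.nd (nat_lit 131) (Tr.lf (Fc.ed (nat_lit 130) (nat_lit 86) Col.b (nat_lit 87) Dv.df)) (Tr.lf (Fc.ed (nat_lit 131) (nat_lit 87) Col.d (nat_lit 18) (Dv.wd (nat_lit 3) [Mv.f (nat_lit 19), Mv.f (nat_lit 128), Mv.f (nat_lit 130)]))))) (Tr.nd (nat_lit 133) (Tr.lf (Fc.ed (nat_lit 132) (nat_lit 17) Col.d (nat_lit 88) Dv.df)) (Tr.nd (nat_lit 134) (Tr.lf (Fc.ed (nat_lit 133) (nat_lit 88) Col.a (nat_lit 87) (Dv.wd (nat_lit 1) [Mv.f (nat_lit 131), Mv.b (nat_lit 18), Mv.f (nat_lit 132)]))) (Tr.lf (Fc.ed (nat_lit 134) (nat_lit 71) Col.d (nat_lit 89) Dv.df))))) (Tr.nd (nat_lit 138) (Tr.nd (nat_lit 136) (Tr.lf (Fc.ed (nat_lit 135) (nat_lit 89) Col.b (nat_lit 90) Dv.df)) (Tr.nd (nat_lit 137) (Tr.lf (Fc.ed (nat_lit 136) (nat_lit 90) Col.d (nat_lit 72) (Dv.wd (nat_lit 3) [Mv.b (nat_lit 105), Mv.f (nat_lit 134), Mv.f (nat_lit 135)]))) (Tr.lf (Fc.ed (nat_lit 137) (nat_lit 52) Col.a (nat_lit 91) Dv.df)))) (Tr.nd (nat_lit 139) (Tr.lf (Fc.ed (nat_lit 138) (nat_lit 46) Col.a (nat_lit 92) Dv.df)) (Tr.nd (nat_lit 140) (Tr.lf (Fc.ed (nat_lit 139) (nat_lit 92) Col.d (nat_lit 91) (Dv.wd (nat_lit 6) [Mv.b (nat_lit 137), Mv.f (nat_lit 72), Mv.f (nat_lit 138)]))) (Tr.lf (Fc.ed (nat_lit 140) (nat_lit 88) Col.b (nat_lit 93) Dv.df)))))))) (Tr.nd (nat_lit 164) (Tr.nd (nat_lit 152) (Tr.nd (nat_lit 146) (Tr.nd (nat_lit 143) (Tr.nd (nat_lit 142) (Tr.lf (Fc.ed (nat_lit 141) (nat_lit 93) Col.d (nat_lit 16) (Dv.wd (nat_lit 3) [Mv.f (nat_lit 17), Mv.f (nat_lit 132), Mv.f (nat_lit 140)]))) (Tr.lf (Fc.ed (nat_lit 142) (nat_lit 34) Col.d (nat_lit 94) Dv.df))) (Tr.nd (nat_lit 144) (Tr.lf (Fc.ed (nat_lit 143) (nat_lit 94) Col.a (nat_lit 93) (Dv.wd (nat_lit 1) [Mv.f (nat_lit 141), Mv.f (nat_lit 40), Mv.f (nat_lit 142)]))) (Tr.nd (nat_lit 145) (Tr.lf (Fc.ed (nat_lit 144) (nat_lit 80) Col.d (nat_lit 95) Dv.df)) (Tr.lf (Fc.ed (nat_lit 145) (nat_lit 92) Col.c (nat_lit 96) Dv.df))))) (Tr.nd (nat_lit 149) (Tr.nd (nat_lit 147) (Tr.lf (Fc.ed (nat_lit 146) (nat_lit 96) Col.a (nat_lit 47) (Dv.wd (nat_lit 4) [Mv.b (nat_lit 61), Mv.f (nat_lit 138), Mv.f (nat_lit 145)]))) (Tr.nd (nat_lit 148) (Tr.lf (Fc.ed (nat_lit 147) (nat_lit 95) Col.b (nat_lit 97) Dv.df)) (Tr.lf (Fc.ed (nat_lit 148) (nat_lit 97) Col.d (nat_lit 79) (Dv.wd (nat_lit 3) [Mv.b (nat_lit 118), Mv.f (nat_lit 144), Mv.f (nat_lit 147)]))))) (Tr.nd (nat_lit 150) (Tr.lf (Fc.ed (nat_lit 149) (nat_lit 94) Col.c (nat_lit 98) Dv.df)) (Tr.nd (nat_lit 151) (Tr.lf (Fc.ed (nat_lit 150) (nat_lit 88) Col.c (nat_lit 99) Dv.df)) (Tr.lf (Fc.ed (nat_lit 151) (nat_lit 54) Col.c (nat_lit 100) Dv.df)))))) (Tr.nd (nat_lit 158) (Tr.nd (nat_lit 155) (Tr.nd (nat_lit 153) (Tr.lf (Fc.ed (nat_lit 152) (nat_lit 100) Col.d (nat_lit 98) (Dv.wd (nat_lit 10) [Mv.b (nat_lit 149), Mv.b (nat_lit 142), Mv.f (nat_lit 41), Mv.b (nat_lit 27), Mv.f (nat_lit 33), Mv.b (nat_lit 82), Mv.b (nat_lit 81), Mv.f (nat_lit 151)]))) (Tr.nd (nat_lit 154) (Tr.lf (Fc.ed (nat_lit 153) (nat_lit 57) Col.c (nat_lit 101) Dv.df)) (Tr.lf (Fc.ed (nat_lit 154) (nat_lit 101) Col.d (nat_lit 102) Dv.df)))) (Tr.nd (nat_lit 156) (Tr.lf (Fc.ed (nat_lit 155) (nat_lit 102) Col.c (nat_lit 93) (Dv.wd (nat_lit 11) [Mv.f (nat_lit 141), Mv.b (nat_lit 16), Mv.b (nat_lit 15), Mv.f (nat_lit 5), Mv.f (nat_lit 75), Mv.f (nat_lit 81), Mv.f (nat_lit 153), Mv.f (nat_lit 154)]))) (Tr.nd (nat_lit 157) (Tr.lf (Fc.ed (nat_lit 156) (nat_lit 55) Col.c (nat_lit 103) Dv.df)) (Tr.lf (Fc.ed (nat_lit 157) (nat_lit 81) Col.d (nat_lit 104) Dv.df))))) (Tr.nd (nat_lit 161) (Tr.nd (nat_lit 159) (Tr.lf (Fc.ed (nat_lit 158) (nat_lit 104) Col.a (nat_lit 97) (Dv.wd (nat_lit 1) [Mv.f (nat_lit 148), Mv.f (nat_lit 119), Mv.f (nat_lit 157)]))) (Tr.nd (nat_lit 160) (Tr.lf (Fc.ed (nat_lit 159) (nat_lit 90) Col.a (nat_lit 105) Dv.df)) (Tr.lf (Fc.ed (nat_lit 160) (nat_lit 99) Col.a (nat_lit 106) Dv.df)))) (Tr.nd (nat_lit 162) (Tr.lf (Fc.ed (nat_lit 161) (nat_lit 106) Col.c (nat_lit 87) (Dv.wd (nat_lit 2) [Mv.b (nat_lit 133), Mv.f (nat_lit 150), Mv.f (nat_lit 160)]))) (Tr.nd (nat_lit 163) (Tr.lf (Fc.ed (nat_lit 162) (nat_lit 82) Col.d (nat_lit 107) Dv.df)) (Tr.lf (Fc.ed (nat_lit 163) (nat_lit 107) Col.a (nat_lit 95) (Dv.wd (nat_lit 1) [Mv.b (nat_lit 144), Mv.f (nat_lit 121), Mv.f (nat_lit 162)])))))))) (Tr.nd (nat_lit 176) (Tr.nd (nat_lit 170) (Tr.nd (nat_lit 167) (Tr.nd (nat_lit 165) (Tr.lf (Fc.ed (nat_lit 164) (nat_lit 85) Col.a (nat_lit 108) Dv.df)) (Tr.nd (nat_lit 166) (Tr.lf (Fc.ed (nat_lit 165) (nat_lit 103) Col.a (nat_lit 109) Dv.df)) (Tr.lf (Fc.ed (nat_lit 166) (nat_lit 109) Col.c (nat_lit 44) (Dv.wd (nat_lit 2) [Mv.f (nat_lit 77), Mv.f (nat_lit 156), Mv.f (nat_lit 165)]))))) (Tr.nd (nat_lit 168) (Tr.lf (Fc.ed (nat_lit 167) (nat_lit 105) Col.c (nat_lit 110) Dv.df)) (Tr.nd (nat_lit 169) (Tr.lf (Fc.ed (nat_lit 168) (nat_lit 61) Col.b (nat_lit 111) Dv.df)) (Tr.lf (Fc.ed (nat_lit 169) (nat_lit 72) Col.a (nat_lit 112) Dv.df))))) (Tr.nd (nat_lit 173) (Tr.nd (nat_lit 171) (Tr.lf (Fc.ed (nat_lit 170) (nat_lit 112) Col.d (nat_lit 105) (Dv.wd (nat_lit 6) [Mv.b (nat_lit 159), Mv.f (nat_lit 136), Mv.f (nat_lit 169)]))) (Tr.nd (nat_lit 172) (Tr.lf (Fc.ed (nat_lit 171) (nat_lit 92) Col.b (nat_lit 113) Dv.df)) (Tr.lf (Fc.ed (nat_lit 172) (nat_lit 113) Col.a (nat_lit 111) (Dv.wd (nat_lit 12) [Mv.b (nat_lit 168), Mv.b (nat_lit 87), Mv.b (nat_lit 24), Mv.b (nat_lit 23), Mv.b (nat_lit 22), Mv.b (nat_lit 21), Mv.f (nat_lit 60), Mv.f (nat_lit 138), Mv.f (nat_lit 171)]))))) (Tr.nd (nat_lit 174) (Tr.lf (Fc.ed (nat_lit 173) (nat_lit 91) Col.b (nat_lit 114) Dv.df)) (Tr.nd (nat_lit 175) (Tr.lf (Fc.ed (nat_lit 174) (nat_lit 60) Col.b (nat_lit 115) Dv.df)) (Tr.lf (Fc.ed (nat_lit 175) (nat_lit 115) Col.d (nat_lit 111) (Dv.wd (nat_lit 3) [Mv.b (nat_lit 168), Mv.f (nat_lit 88), Mv.f (nat_lit 174)]))))))) (Tr.nd (nat_lit 182) (Tr.nd (nat_lit 179) (Tr.nd (nat_lit 177) (Tr.lf (Fc.ed (nat_lit 176) (nat_lit 115) Col.a (nat_lit 114) (Dv.wd (nat_lit 12) [Mv.b (nat_lit 173), Mv.b (nat_lit 137), Mv.b (nat_lit 71), Mv.b (nat_lit 51), Mv.f (nat_lit 57), Mv.f (nat_lit 77), Mv.f (nat_lit 79), Mv.f (nat_lit 86), Mv.f (nat_lit 174)]))) (Tr.nd (nat_lit 178) (Tr.lf (Fc.ed (nat_lit 177) (nat_lit 110) Col.a (nat_lit 116) Dv.df)) (Tr.lf (Fc.ed (nat_lit 178) (nat_lit 116) Col.c (nat_lit 90) (Dv.wd (nat_lit 2) [Mv.f (nat_lit 159), Mv.f (nat_lit 167), Mv.f (nat_lit 177)]))))) (Tr.nd (nat_lit 180) (Tr.lf (Fc.ed (nat_lit 179) (nat_lit 112) Col.c (nat_lit 117) Dv.df)) (Tr.nd (nat_lit 181) (Tr.lf (Fc.ed (nat_lit 180) (nat_lit 117) Col.a (nat_lit 73) (Dv.wd (nat_lit 4) [Mv.f (nat_lit 107), Mv.f (nat_lit 169), Mv.f (nat_lit 179)]))) (Tr.lf (Fc.ed (nat_lit 181) (nat_lit 74) Col.c (nat_lit 118) Dv.df))))) (Tr.nd (nat_lit 185) (Tr.nd (nat_lit 183) (Tr.lf (Fc.ed (nat_lit 182) (nat_lit 117) Col.b (nat_lit 119) Dv.df)) (Tr.nd (nat_lit 184) (Tr.lf (Fc.ed (nat_lit 183) (nat_lit 119) Col.a (nat_lit 120) Dv.df)) (Tr.lf (Fc.ed (nat_lit 184) (nat_lit 120) Col.b (nat_lit 34) (Dv.wd (nat_lit 9) [Mv.b (nat_lit 40), Mv.f (nat_lit 17), Mv.f (nat_lit 18), Mv.f (nat_lit 19), Mv.b (nat_lit 36), Mv.f (nat_lit 106), Mv.b (nat_lit 180), Mv.f (nat_lit 182), Mv.f (nat_lit 183)]))))) (Tr.nd (nat_lit 186) (Tr.lf (Fc.ed (nat_lit 185) (nat_lit 108) Col.b (nat_lit 121) Dv.df)) (Tr.nd (nat_lit 187) (Tr.lf (Fc.ed (nat_lit 186) (nat_lit 94) Col.b (nat_lit 122) Dv.df)) (Tr.lf (Fc.ed (nat_lit 187) (nat_lit 122) Col.d (nat_lit 120) (Dv.wd (nat_lit 3) [Mv.f (nat_lit 184), Mv.f (nat_lit 142), Mv.f (nat_lit 186)]))))))))))) (Tr.nd (nat_lit 282) (Tr.nd (nat_lit 235) (Tr.nd (nat_lit 211) (Tr.nd (nat_lit 199) (Tr.nd (nat_lit 193) (Tr.nd (nat_lit 190) (Tr.nd (nat_lit 189) (Tr.lf (Fc.ed (nat_lit 188) (nat_lit 122) Col.a (nat_lit 121) (Dv.wd (nat_lit 12) [Mv.b (nat_lit 185), Mv.b (nat_lit 164), Mv.f (nat_lit 127), Mv.b (nat_lit 129), Mv.f (nat_lit 130), Mv.b (nat_lit 133), Mv.f (nat_lit 140), Mv.b (nat_lit 143), Mv.f (nat_lit 186)]))) (Tr.lf (Fc.ed (nat_lit 189) (nat_lit 118) Col.a (nat_lit 123) Dv.df))) (Tr.nd (nat_lit 191) (Tr.lf (Fc.ed (nat_lit 190) (nat_lit 123) Col.c (nat_lit 76) (Dv.wd (nat_lit 2) [Mv.b (nat_lit 111), Mv.f (nat_lit 181), Mv.f (nat_lit 189)]))) (Tr.nd (nat_lit 192) (Tr.lf (Fc.ed (nat_lit 191) (nat_lit 98) Col.b (nat_lit 124) Dv.df)) (Tr.lf (Fc.ed (nat_lit 192) (nat_lit 53) Col.c (nat_lit 125) Dv.df))))) (Tr.nd (nat_lit 196) (Tr.nd (nat_lit 194) (Tr.lf (Fc.ed (nat_lit 193) (nat_lit 125) Col.a (nat_lit 126) Dv.df)) (Tr.nd (nat_lit 195) (Tr.lf (Fc.ed (nat_lit 194) (nat_lit 126) Col.c (nat_lit 42) (Dv.wd (nat_lit 2) [Mv.f (nat_lit 73), Mv.f (nat_lit 192), Mv.f (nat_lit 193)]))) (Tr.lf (Fc.ed (nat_lit 195) (nat_lit 68) Col.c (nat_lit 127) Dv.df)))) (Tr.nd (nat_lit 197) (Tr.lf (Fc.ed (nat_lit 196) (nat_lit 118) Col.b (nat_lit 128) Dv.df)) (Tr.nd (nat_lit 198) (Tr.lf (Fc.ed (nat_lit 197) (nat_lit 128) Col.c (nat_lit 3) (Dv.wd (nat_lit 8) [Mv.f (nat_lit 3), Mv.f (nat_lit 33), Mv.f (nat_lit 108), Mv.f (nat_lit 181), Mv.f (nat_lit 196)]))) (Tr.lf (Fc.ed (nat_lit 198) (nat_lit 56) Col.c (nat_lit 129) Dv.df)))))) (Tr.nd (nat_lit 205) (Tr.nd (nat_lit 202) (Tr.nd (nat_lit 200) (Tr.lf (Fc.ed (nat_lit 199) (nat_lit 127) Col.b (nat_lit 130) Dv.df)) (Tr.nd (nat_lit 201) (Tr.lf (Fc.ed (nat_lit 200) (nat_lit 130) Col.c (nat_lit 111) (Dv.wd (nat_lit 8) [Mv.b (nat_lit 168), Mv.b (nat_lit 90), Mv.f (nat_lit 98), Mv.f (nat_lit 195), Mv.f (nat_lit 199)]))) (Tr.lf (Fc.ed (nat_lit 201) (nat_lit 2) Col.c (nat_lit 131) Dv.df)))) (Tr.nd (nat_lit 203) (Tr.lf (Fc.ed (nat_lit 202) (nat_lit 131) Col.a (nat_lit 128) (Dv.wd (nat_lit 4) [Mv.f (nat_lit 197), Mv.b (nat_lit 2), Mv.f (nat_lit 201)]))) (Tr.nd (nat_lit 204) (Tr.lf (Fc.ed (nat_lit 203) (nat_lit 67) Col.a (nat_lit 132) Dv.df)) (Tr.lf (Fc.ed (nat_lit 204) (nat_lit 130) Col.a (nat_lit 133) Dv.df))))) (Tr.nd (nat_lit 208) (Tr.nd (nat_lit 206) (Tr.lf (Fc.ed (nat_lit 205) (nat_lit 133) Col.c (nat_lit 113) (Dv.wd (nat_lit 2) [Mv.f (nat_lit 172), Mv.b (nat_lit 200), Mv.f (nat_lit 204)]))) (Tr.nd (nat_lit 207) (Tr.lf (Fc.ed (nat_lit 206) (nat_lit 69) Col.a (nat_lit 134) Dv.df)) (Tr.lf (Fc.ed (nat_lit 207) (nat_lit 134) Col.c (nat_lit 132) (Dv.wd (nat_lit 2) [Mv.b (nat_lit 203), Mv.b (nat_lit 100), Mv.f (nat_lit 206)]))))) (Tr.nd (nat_lit 209) (Tr.lf (Fc.ed (nat_lit 208) (nat_lit 60) Col.c (nat_lit 135) Dv.df)) (Tr.nd (nat_lit 210) (Tr.lf (Fc.ed (nat_lit 209) (nat_lit 135) Col.a (nat_lit 129) (Dv.wd (nat_lit 4) [Mv.b (nat_lit 198), Mv.f (nat_lit 86), Mv.f (nat_lit 208)]))) (Tr.lf (Fc.ed (nat_lit 210) (nat_lit 124) Col.d (nat_lit 136) Dv.df))))))) (Tr.nd (nat_lit 223) (Tr.nd (nat_lit 217) (Tr.nd (nat_lit 214) (Tr.nd (nat_lit 212) (Tr.lf (Fc.ed (nat_lit 211) (nat_lit 136) Col.b (nat_lit 100) (Dv.wd (nat_lit 5) [Mv.f (nat_lit 152), Mv.f (nat_lit 191), Mv.f (nat_lit 210)]))) (Tr.nd (nat_lit 213) (Tr.lf (Fc.ed (nat_lit 212) (nat_lit 66) Col.a (nat_lit 137) Dv.df)) (Tr.lf (Fc.ed (nat_lit 213) (nat_lit 125) Col.b (nat_lit 138) Dv.df)))) (Tr.nd (nat_lit 215) (Tr.lf (Fc.ed (nat_lit 214) (nat_lit 138) Col.c (nat_lit 136) (Dv.wd (nat_lit 8) [Mv.f (nat_lit 211), Mv.b (nat_lit 151), Mv.f (nat_lit 76), Mv.f (nat_lit 192), Mv.f (nat_lit 213)]))) (Tr.nd (nat_lit 216) (Tr.lf (Fc.ed (nat_lit 215) (nat_lit 130) Col.d (nat_lit 139) Dv.df)) (Tr.lf (Fc.ed (nat_lit 216) (nat_lit 82) Col.b (nat_lit 140) Dv.df))))) (Tr.nd (nat_lit 220) (Tr.nd (nat_lit 218) (Tr.lf (Fc.ed (nat_lit 217) (nat_lit 123) Col.b (nat_lit 141) Dv.df)) (Tr.nd (nat_lit 219) (Tr.lf (Fc.ed (nat_lit 218) (nat_lit 141) Col.c (nat_lit 140) (Dv.wd (nat_lit 8) [Mv.b (nat_lit 216), Mv.f (nat_lit 122), Mv.b (nat_lit 112), Mv.b (nat_lit 190), Mv.f (nat_lit 217)]))) (Tr.lf (Fc.ed (nat_lit 219) (nat_lit 138) Col.d (nat_lit 142) Dv.df)))) (Tr.nd (nat_lit 221) (Tr.lf (Fc.ed (nat_lit 220) (nat_lit 131) Col.d (nat_lit 143) Dv.df)) (Tr.nd (nat_lit 222) (Tr.lf (Fc.ed (nat_lit 221) (nat_lit 70) Col.a (nat_lit 144) Dv.df)) (Tr.lf (Fc.ed (nat_lit 222) (nat_lit 144) Col.c (nat_lit 137) (Dv.wd (nat_lit 2) [Mv.b (nat_lit 212), Mv.f (nat_lit 101), Mv.f (nat_lit 221)]))))))) (Tr.nd (nat_lit 229) (Tr.nd (nat_lit 226) (Tr.nd (nat_lit 224) (Tr.lf (Fc.ed (nat_lit 223) (nat_lit 139) Col.a (nat_lit 145) Dv.df)) (Tr.nd (nat_lit 225) (Tr.lf (Fc.ed (nat_lit 224) (nat_lit 145) Col.d (nat_lit 133) (Dv.wd (nat_lit 6) [Mv.b (nat_lit 204), Mv.f (nat_lit 215), Mv.f (nat_lit 223)]))) (Tr.lf (Fc.ed (nat_lit 225) (nat_lit 140) Col.d (nat_lit 146) Dv.df)))) (Tr.nd (nat_lit 227) (Tr.lf (Fc.ed (nat_lit 226) (nat_lit 146) Col.b (nat_lit 107) (Dv.wd (nat_lit 5) [Mv.b (nat_lit 162), Mv.f (nat_lit 216), Mv.f (nat_lit 225)]))) (Tr.nd (nat_lit 228) (Tr.lf (Fc.ed (nat_lit 227) (nat_lit 143) Col.a (nat_lit 147) Dv.df)) (Tr.lf (Fc.ed (nat_lit 228) (nat_lit 147) Col.d (nat_lit 128) (Dv.wd (nat_lit 6) [Mv.b (nat_lit 202), Mv.f (nat_lit 220), Mv.f (nat_lit 227)])))))) (Tr.nd (nat_lit 232) (Tr.nd (nat_lit 230) (Tr.lf (Fc.ed (nat_lit 229) (nat_lit 29) Col.c (nat_lit 148) Dv.df)) (Tr.nd (nat_lit 231) (Tr.lf (Fc.ed (nat_lit 230) (nat_lit 101) Col.b (nat_lit 149) Dv.df)) (Tr.lf (Fc.ed (nat_lit 231) (nat_lit 142) Col.b (nat_lit 150) Dv.df)))) (Tr.nd (nat_lit 233) (Tr.lf (Fc.ed (nat_lit 232) (nat_lit 150) Col.d (nat_lit 125) (Dv.wd (nat_lit 3) [Mv.f (nat_lit 213), Mv.f (nat_lit 219), Mv.f (nat_lit 231)]))) (Tr.nd (nat_lit 234) (Tr.lf (Fc.ed (nat_lit 233) (nat_lit 138) Col.a (nat_lit 151) Dv.df)) (Tr.lf (Fc.ed (nat_lit 234) (nat_lit 144) Col.d (nat_lit 152) Dv.df)))))))) (Tr.nd (nat_lit 258) (Tr.nd (nat_lit 246) (Tr.nd (nat_lit 240) (Tr.nd (nat_lit 237) (Tr.nd (nat_lit 236) (Tr.lf (Fc.ed (nat_lit 235) (nat_lit 152) Col.a (nat_lit 84) (Dv.wd (nat_lit 1) [Mv.f (nat_lit 125), Mv.f (nat_lit 221), Mv.f (nat_lit 234)]))) (Tr.lf (Fc.ed (nat_lit 236) (nat_lit 91) Col.c (nat_lit 153) Dv.df))) (Tr.nd (nat_lit 238) (Tr.lf (Fc.ed (nat_lit 237) (nat_lit 150) Col.a (nat_lit 154) Dv.df)) (Tr.nd (nat_lit 239) (Tr.lf (Fc.ed (nat_lit 238) (nat_lit 154) Col.d (nat_lit 126) (Dv.wd (nat_lit 6) [Mv.b (nat_lit 193), Mv.b (nat_lit 232), Mv.f (nat_lit 237)]))) (Tr.lf (Fc.ed (nat_lit 239) (nat_lit 147) Col.b (nat_lit 155) Dv.df))))) (Tr.nd (nat_lit 243) (Tr.nd (nat_lit 241) (Tr.lf (Fc.ed (nat_lit 240) (nat_lit 155) Col.d (nat_lit 118) (Dv.wd (nat_lit 3) [Mv.f (nat_lit 196), Mv.b (nat_lit 228), Mv.f (nat_lit 239)]))) (Tr.nd (nat_lit 242) (Tr.lf (Fc.ed (nat_lit 241) (nat_lit 120) Col.c (nat_lit 156) Dv.df)) (Tr.lf (Fc.ed (nat_lit 242) (nat_lit 156) Col.b (nat_lit 148) (Dv.wd (nat_lit 7) [Mv.b (nat_lit 229), Mv.b (nat_lit 31), Mv.b (nat_lit 41), Mv.b (nat_lit 184), Mv.f (nat_lit 241)]))))) (Tr.nd (nat_lit 244) (Tr.lf (Fc.ed (nat_lit 243) (nat_lit 143) Col.c (nat_lit 157) Dv.df)) (Tr.nd (nat_lit 245) (Tr.lf (Fc.ed (nat_lit 244) (nat_lit 122) Col.c (nat_lit 158) Dv.df)) (Tr.lf (Fc.ed (nat_lit 245) (nat_lit 147) Col.c (nat_lit 159) Dv.df)))))) (Tr.nd (nat_lit 252) (Tr.nd (nat_lit 249) (Tr.nd (nat_lit 247) (Tr.lf (Fc.ed (nat_lit 246) (nat_lit 159) Col.a (nat_lit 157) (Dv.wd (nat_lit 4) [Mv.b (nat_lit 243), Mv.f (nat_lit 227), Mv.f (nat_lit 245)]))) (Tr.nd (nat_lit 248) (Tr.lf (Fc.ed (nat_lit 247) (nat_lit 0) Col.b (nat_lit 160) Dv.df)) (Tr.lf (Fc.ed (nat_lit 248) (nat_lit 38) Col.b (nat_lit 161) Dv.df)))) (Tr.nd (nat_lit 250) (Tr.lf (Fc.ed (nat_lit 249) (nat_lit 161) Col.d (nat_lit 160) (Dv.wd (nat_lit 3) [Mv.b (nat_lit 247), Mv.b (nat_lit 48), Mv.f (nat_lit 248)]))) (Tr.nd (nat_lit 251) (Tr.lf (Fc.ed (nat_lit 250) (nat_lit 158) Col.a (nat_lit 162) Dv.df)) (Tr.lf (Fc.ed (nat_lit 251) (nat_lit 162) Col.c (nat_lit 121) (Dv.wd (nat_lit 2) [Mv.b (nat_lit 188), Mv.f (nat_lit 244), Mv.f (nat_lit 250)])))))) (Tr.nd (nat_lit 255) (Tr.nd (nat_lit 253) (Tr.lf (Fc.ed (nat_lit 252) (nat_lit 160) Col.a (nat_lit 163) Dv.df)) (Tr.nd (nat_lit 254) (Tr.lf (Fc.ed (nat_lit 253) (nat_lit 163) Col.b (nat_lit 137) (Dv.wd (nat_lit 9) [Mv.b (nat_lit 212), Mv.b (nat_lit 95), Mv.b (nat_lit 4), Mv.b (nat_lit 3), Mv.b (nat_lit 2), Mv.b (nat_lit 1), Mv.b (nat_lit 0), Mv.f (nat_lit 247), Mv.f (nat_lit 252)]))) (Tr.lf (Fc.ed (nat_lit 254) (nat_lit 161) Col.a (nat_lit 164) Dv.df)))) (Tr.nd (nat_lit 256) (Tr.lf (Fc.ed (nat_lit 255) (nat_lit 164) Col.d (nat_lit 163) (Dv.wd (nat_lit 6) [Mv.b (nat_lit 252), Mv.b (nat_lit 249), Mv.f (nat_lit 254)]))) (Tr.nd (nat_lit 257) (Tr.lf (Fc.ed (nat_lit 256) (nat_lit 164) Col.b (nat_lit 132) (Dv.wd (nat_lit 9) [Mv.b (nat_lit 203), Mv.f (nat_lit 97), Mv.b (nat_lit 28), Mv.f (nat_lit 31), Mv.b (nat_lit 43), Mv.b (nat_lit 45), Mv.f (nat_lit 47), Mv.f (nat_lit 248), Mv.f (nat_lit 254)]))) (Tr.lf (Fc.ed (nat_lit 257) (nat_lit 102) Col.b (nat_lit 165) Dv.df))))))) (Tr.nd (nat_lit 270) (Tr.nd (nat_lit 264) (Tr.nd (nat_lit 261) (Tr.nd (nat_lit 259) (Tr.lf (Fc.ed (nat_lit 258) (nat_lit 165) Col.d (nat_lit 149) (Dv.wd (nat_lit 3) [Mv.b (nat_lit 230), Mv.f (nat_lit 154), Mv.f (nat_lit 257)]))) (Tr.nd (nat_lit 260) (Tr.lf (Fc.ed (nat_lit 259) (nat_lit 116) Col.d (nat_lit 166) Dv.df)) (Tr.lf (Fc.ed (nat_lit 260) (nat_lit 103) Col.b (nat_lit 167) Dv.df)))) (Tr.nd (nat_lit 262) (Tr.lf (Fc.ed (nat_lit 261) (nat_lit 157) Col.d (nat_lit 168) Dv.df)) (Tr.nd (nat_lit 263) (Tr.lf (Fc.ed (nat_lit 262) (nat_lit 168) Col.c (nat_lit 169) Dv.df)) (Tr.lf (Fc.ed (nat_lit 263) (nat_lit 169) Col.d (nat_lit 148) (Dv.wd (nat_lit 13) [Mv.b (nat_lit 229), Mv.f (nat_lit 32), Mv.b (nat_lit 197), Mv.b (nat_lit 228), Mv.b (nat_lit 227), Mv.f (nat_lit 243), Mv.f (nat_lit 261), Mv.f (nat_lit 262)])))))) (Tr.nd (nat_lit 267) (Tr.nd (nat_lit 265) (Tr.lf (Fc.ed (nat_lit 264) (nat_lit 124) Col.c (nat_lit 170) Dv.df)) (Tr.nd (nat_lit 266) (Tr.lf (Fc.ed (nat_lit 265) (nat_lit 170) Col.b (nat_lit 158) (Dv.wd (nat_lit 7) [Mv.b (nat_lit 244), Mv.b (nat_lit 186), Mv.f (nat_lit 149), Mv.f (nat_lit 191), Mv.f (nat_lit 264)]))) (Tr.lf (Fc.ed (nat_lit 266) (nat_lit 156) Col.a (nat_lit 171) Dv.df)))) (Tr.nd (nat_lit 268) (Tr.lf (Fc.ed (nat_lit 267) (nat_lit 171) Col.c (nat_lit 119) (Dv.wd (nat_lit 2) [Mv.f (nat_lit 183), Mv.f (nat_lit 241), Mv.f (nat_lit 266)]))) (Tr.nd (nat_lit 269) (Tr.lf (Fc.ed (nat_lit 268) (nat_lit 156) Col.d (nat_lit 172) Dv.df)) (Tr.lf (Fc.ed (nat_lit 269) (nat_lit 172) Col.b (nat_lit 169) (Dv.wd (nat_lit 5) [Mv.f (nat_lit 263), Mv.b (nat_lit 242), Mv.f (nat_lit 268)]))))))) (Tr.nd (nat_lit 276) (Tr.nd (nat_lit 273) (Tr.nd (nat_lit 271) (Tr.lf (Fc.ed (nat_lit 270) (nat_lit 165) Col.c (nat_lit 173) Dv.df)) (Tr.nd (nat_lit 272) (Tr.lf (Fc.ed (nat_lit 271) (nat_lit 173) Col.b (nat_lit 99) (Dv.wd (nat_lit 7) [Mv.b (nat_lit 150), Mv.f (nat_lit 140), Mv.b (nat_lit 155), Mv.f (nat_lit 257), Mv.f (nat_lit 270)]))) (Tr.lf (Fc.ed (nat_lit 272) (nat_lit 81) Col.b (nat_lit 174) Dv.df)))) (Tr.nd (nat_lit 274) (Tr.lf (Fc.ed (nat_lit 273) (nat_lit 174) Col.c (nat_lit 160) (Dv.wd (nat_lit 8) [Mv.b (nat_lit 247), Mv.b (nat_lit 14), Mv.b (nat_lit 13), Mv.b (nat_lit 120), Mv.f (nat_lit 272)]))) (Tr.nd (nat_lit 275) (Tr.lf (Fc.ed (nat_lit 274) (nat_lit 159) Col.d (nat_lit 175) Dv.df)) (Tr.lf (Fc.ed (nat_lit 275) (nat_lit 175) Col.a (nat_lit 168) (Dv.wd (nat_lit 1) [Mv.b (nat_lit 261), Mv.b (nat_lit 246), Mv.f (nat_lit 274)])))))) (Tr.nd (nat_lit 279) (Tr.nd (nat_lit 277) (Tr.lf (Fc.ed (nat_lit 276) (nat_lit 166) Col.c (nat_lit 176) Dv.df)) (Tr.nd (nat_lit 278) (Tr.lf (Fc.ed (nat_lit 277) (nat_lit 174) Col.d (nat_lit 177) Dv.df)) (Tr.lf (Fc.ed (nat_lit 278) (nat_lit 177) Col.b (nat_lit 104) (Dv.wd (nat_lit 5) [Mv.b (nat_lit 157), Mv.f (nat_lit 272), Mv.f (nat_lit 277)]))))) (Tr.nd (nat_lit 280) (Tr.lf (Fc.ed (nat_lit 279) (nat_lit 58) Col.c (nat_lit 178) Dv.df)) (Tr.nd (nat_lit 281) (Tr.lf (Fc.ed (nat_lit 280) (nat_lit 108) Col.c (nat_lit 179) Dv.df)) (Tr.lf (Fc.ed (nat_lit 281) (nat_lit 179) Col.d (nat_lit 176) (Dv.wd (nat_lit 10) [Mv.b (nat_lit 276), Mv.b (nat_lit 259), Mv.f (nat_lit 178), Mv.f (nat_lit 136), Mv.b (nat_lit 107), Mv.f (nat_lit 126), Mv.f (nat_lit 164), Mv.f (nat_lit 280)])))))))))) (Tr.nd (nat_lit 329) (Tr.nd (nat_lit 305) (Tr.nd (nat_lit 293) (Tr.nd (nat_lit 287) (Tr.nd (nat_lit 284) (Tr.nd (nat_lit 283) (Tr.lf (Fc.ed (nat_lit 282) (nat_lit 75) Col.c (nat_lit 180) Dv.df)) (Tr.lf (Fc.ed (nat_lit 283) (nat_lit 180) Col.b (nat_lit 181) Dv.df))) (Tr.nd (nat_lit 285) (Tr.lf (Fc.ed (nat_lit 284) (nat_lit 181) Col.c (nat_lit 149) (Dv.wd (nat_lit 8) [Mv.b (nat_lit 230), Mv.b (nat_lit 153), Mv.f (nat_lit 109), Mv.f (nat_lit 282), Mv.f (nat_lit 283)]))) (Tr.nd (nat_lit 286) (Tr.lf (Fc.ed (nat_lit 285) (nat_lit 167) Col.c (nat_lit 182) Dv.df)) (Tr.lf (Fc.ed (nat_lit 286) (nat_lit 178) Col.a (nat_lit 183) Dv.df))))) (Tr.nd (nat_lit 290) (Tr.nd (nat_lit 288) (Tr.lf (Fc.ed (nat_lit 287) (nat_lit 183) Col.c (nat_lit 65) (Dv.wd (nat_lit 2) [Mv.f (nat_lit 94), Mv.f (nat_lit 279), Mv.f (nat_lit 286)]))) (Tr.nd (nat_lit 289) (Tr.lf (Fc.ed (nat_lit 288) (nat_lit 52) Col.c (nat_lit 184) Dv.df)) (Tr.lf (Fc.ed (nat_lit 289) (nat_lit 184) Col.a (nat_lit 153) (Dv.wd (nat_lit 4) [Mv.b (nat_lit 236), Mv.b (nat_lit 137), Mv.f (nat_lit 288)]))))) (Tr.nd (nat_lit 291) (Tr.lf (Fc.ed (nat_lit 290) (nat_lit 142) Col.a (nat_lit 185) Dv.df)) (Tr.nd (nat_lit 292) (Tr.lf (Fc.ed (nat_lit 291) (nat_lit 185) Col.d (nat_lit 151) (Dv.wd (nat_lit 6) [Mv.b (nat_lit 233), Mv.f (nat_lit 219), Mv.f (nat_lit 290)]))) (Tr.lf (Fc.ed (nat_lit 292) (nat_lit 85) Col.c (nat_lit 186) Dv.df)))))) (Tr.nd (nat_lit 299) (Tr.nd (nat_lit 296) (Tr.nd (nat_lit 294) (Tr.lf (Fc.ed (nat_lit 293) (nat_lit 110) Col.d (nat_lit 187) Dv.df)) (Tr.nd (nat_lit 295) (Tr.lf (Fc.ed (nat_lit 294) (nat_lit 187) Col.a (nat_lit 166) (Dv.wd (nat_lit 1) [Mv.b (nat_lit 259), Mv.b (nat_lit 177), Mv.f (nat_lit 293)]))) (Tr.lf (Fc.ed (nat_lit 295) (nat_lit 187) Col.c (nat_lit 188) Dv.df)))) (Tr.nd (nat_lit 297) (Tr.lf (Fc.ed (nat_lit 296) (nat_lit 188) Col.a (nat_lit 176) (Dv.wd (nat_lit 4) [Mv.b (nat_lit 276), Mv.b (nat_lit 294), Mv.f (nat_lit 295)]))) (Tr.nd (nat_lit 298) (Tr.lf (Fc.ed (nat_lit 297) (nat_lit 188) Col.d (nat_lit 186) (Dv.wd (nat_lit 10) [Mv.b (nat_lit 292), Mv.b (nat_lit 126), Mv.f (nat_lit 107), Mv.b (nat_lit 136), Mv.b (nat_lit 178), Mv.f (nat_lit 259), Mv.b (nat_lit 294), Mv.f (nat_lit 295)]))) (Tr.lf (Fc.ed (nat_lit 298) (nat_lit 112) Col.b (nat_lit 189) Dv.df))))) (Tr.nd (nat_lit 302) (Tr.nd (nat_lit 300) (Tr.lf (Fc.ed (nat_lit 299) (nat_lit 154) Col.b (nat_lit 190) Dv.df)) (Tr.nd (nat_lit 301) (Tr.lf (Fc.ed (nat_lit 300) (nat_lit 180) Col.a (nat_lit 191) Dv.df)) (Tr.lf (Fc.ed (nat_lit 301) (nat_lit 191) Col.c (nat_lit 77) (Dv.wd (nat_lit 2) [Mv.b (nat_lit 113), Mv.f (nat_lit 282), Mv.f (nat_lit 300)]))))) (Tr.nd (nat_lit 303) (Tr.lf (Fc.ed (nat_lit 302) (nat_lit 155) Col.a (nat_lit 192) Dv.df)) (Tr.nd (nat_lit 304) (Tr.lf (Fc.ed (nat_lit 303) (nat_lit 192) Col.d (nat_lit 123) (Dv.wd (nat_lit 6) [Mv.b (nat_lit 189), Mv.b (nat_lit 240), Mv.f (nat_lit 302)]))) (Tr.lf (Fc.ed (nat_lit 304) (nat_lit 51) Col.c (nat_lit 193) Dv.df))))))) (Tr.nd (nat_lit 317) (Tr.nd (nat_lit 311) (Tr.nd (nat_lit 308) (Tr.nd (nat_lit 306) (Tr.lf (Fc.ed (nat_lit 305) (nat_lit 126) Col.b (nat_lit 194) Dv.df)) (Tr.nd (nat_lit 307) (Tr.lf (Fc.ed (nat_lit 306) (nat_lit 194) Col.d (nat_lit 190) (Dv.wd (nat_lit 3) [Mv.b (nat_lit 299), Mv.f (nat_lit 238), Mv.f (nat_lit 305)]))) (Tr.lf (Fc.ed (nat_lit 307) (nat_lit 48) Col.c (nat_lit 195) Dv.df)))) (Tr.nd (nat_lit 309) (Tr.lf (Fc.ed (nat_lit 308) (nat_lit 182) Col.d (nat_lit 196) Dv.df)) (Tr.nd (nat_lit 310) (Tr.lf (Fc.ed (nat_lit 309) (nat_lit 195) Col.a (nat_lit 197) Dv.df)) (Tr.lf (Fc.ed (nat_lit 310) (nat_lit 197) Col.c (nat_lit 41) (Dv.wd (nat_lit 2) [Mv.f (nat_lit 63), Mv.f (nat_lit 307), Mv.f (nat_lit 309)])))))) (Tr.nd (nat_lit 314) (Tr.nd (nat_lit 312) (Tr.lf (Fc.ed (nat_lit 311) (nat_lit 189) Col.d (nat_lit 198) Dv.df)) (Tr.nd (nat_lit 313) (Tr.lf (Fc.ed (nat_lit 312) (nat_lit 198) Col.b (nat_lit 105) (Dv.wd (nat_lit 5) [Mv.b (nat_lit 170), Mv.f (nat_lit 298), Mv.f (nat_lit 311)]))) (Tr.lf (Fc.ed (nat_lit 313) (nat_lit 96) Col.b (nat_lit 199) Dv.df)))) (Tr.nd (nat_lit 315) (Tr.lf (Fc.ed (nat_lit 314) (nat_lit 192) Col.b (nat_lit 200) Dv.df)) (Tr.nd (nat_lit 316) (Tr.lf (Fc.ed (nat_lit 315) (nat_lit 200) Col.d (nat_lit 141) (Dv.wd (nat_lit 3) [Mv.b (nat_lit 217), Mv.b (nat_lit 303), Mv.f (nat_lit 314)]))) (Tr.lf (Fc.ed (nat_lit 316) (nat_lit 189) Col.c (nat_lit 201) Dv.df)))))) (Tr.nd (nat_lit 323) (Tr.nd (nat_lit 320) (Tr.nd (nat_lit 318) (Tr.lf (Fc.ed (nat_lit 317) (nat_lit 201) Col.b (nat_lit 171) (Dv.wd (nat_lit 7) [Mv.f (nat_lit 267), Mv.b (nat_lit 182), Mv.b (nat_lit 179), Mv.f (nat_lit 298), Mv.f (nat_lit 316)]))) (Tr.nd (nat_lit 319) (Tr.lf (Fc.ed (nat_lit 318) (nat_lit 133) Col.b (nat_lit 202) Dv.df)) (Tr.lf (Fc.ed (nat_lit 319) (nat_lit 202) Col.c (nat_lit 199) (Dv.wd (nat_lit 8) [Mv.b (nat_lit 313), Mv.b (nat_lit 145), Mv.f (nat_lit 171), Mv.b (nat_lit 205), Mv.f (nat_lit 318)]))))) (Tr.nd (nat_lit 321) (Tr.lf (Fc.ed (nat_lit 320) (nat_lit 145) Col.b (nat_lit 203) Dv.df)) (Tr.nd (nat_lit 322) (Tr.lf (Fc.ed (nat_lit 321) (nat_lit 203) Col.d (nat_lit 202) (Dv.wd (nat_lit 3) [Mv.b (nat_lit 318), Mv.b (nat_lit 224), Mv.f (nat_lit 320)]))) (Tr.lf (Fc.ed (nat_lit 322) (nat_lit 159) Col.b (nat_lit 204) Dv.df))))) (Tr.nd (nat_lit 326) (Tr.nd (nat_lit 324) (Tr.lf (Fc.ed (nat_lit 323) (nat_lit 204) Col.d (nat_lit 205) Dv.df)) (Tr.nd (nat_lit 325) (Tr.lf (Fc.ed (nat_lit 324) (nat_lit 205) Col.b (nat_lit 175) (Dv.wd (nat_lit 5) [Mv.b (nat_lit 274), Mv.f (nat_lit 322), Mv.f (nat_lit 323)]))) (Tr.lf (Fc.ed (nat_lit 325) (nat_lit 129) Col.d (nat_lit 206) Dv.df)))) (Tr.nd (nat_lit 327) (Tr.lf (Fc.ed (nat_lit 326) (nat_lit 206) Col.a (nat_lit 207) Dv.df)) (Tr.nd (nat_lit 328) (Tr.lf (Fc.ed (nat_lit 327) (nat_lit 207) Col.d (nat_lit 135) (Dv.wd (nat_lit 6) [Mv.f (nat_lit 209), Mv.f (nat_lit 325), Mv.f (nat_lit 326)]))) (Tr.lf (Fc.ed (nat_lit 328) (nat_lit 172) Col.a (nat_lit 208) Dv.df)))))))) (Tr.nd (nat_lit 353) (Tr.nd (nat_lit 341) (Tr.nd (nat_lit 335) (Tr.nd (nat_lit 332) (Tr.nd (nat_lit 330) (Tr.lf (Fc.ed (nat_lit 329) (nat_lit 208) Col.d (nat_lit 171) (Dv.wd (nat_lit 6) [Mv.b (nat_lit 266), Mv.f (nat_lit 268), Mv.f (nat_lit 328)]))) (Tr.nd (nat_lit 331) (Tr.lf (Fc.ed (nat_lit 330) (nat_lit 151) Col.b (nat_lit 209) Dv.df)) (Tr.lf (Fc.ed (nat_lit 331) (nat_lit 152) Col.b (nat_lit 210) Dv.df)))) (Tr.nd (nat_lit 333) (Tr.lf (Fc.ed (nat_lit 332) (nat_lit 144) Col.b (nat_lit 211) Dv.df)) (Tr.nd (nat_lit 334) (Tr.lf (Fc.ed (nat_lit 333) (nat_lit 211) Col.d (nat_lit 210) (Dv.wd (nat_lit 3) [Mv.b (nat_lit 331), Mv.b (nat_lit 234), Mv.f (nat_lit 332)]))) (Tr.lf (Fc.ed (nat_lit 334) (nat_lit 174) Col.a (nat_lit 212) Dv.df))))) (Tr.nd (nat_lit 338) (Tr.nd (nat_lit 336) (Tr.lf (Fc.ed (nat_lit 335) (nat_lit 212) Col.c (nat_lit 163) (Dv.wd (nat_lit 2) [Mv.b (nat_lit 252), Mv.b (nat_lit 273), Mv.f (nat_lit 334)]))) (Tr.nd (nat_lit 337) (Tr.lf (Fc.ed (nat_lit 336) (nat_lit 173) Col.a (nat_lit 213) Dv.df)) (Tr.lf (Fc.ed (nat_lit 337) (nat_lit 199) Col.d (nat_lit 214) Dv.df)))) (Tr.nd (nat_lit 339) (Tr.lf (Fc.ed (nat_lit 338) (nat_lit 193) Col.a (nat_lit 215) Dv.df)) (Tr.nd (nat_lit 340) (Tr.lf (Fc.ed (nat_lit 339) (nat_lit 215) Col.c (nat_lit 43) (Dv.wd (nat_lit 2) [Mv.f (nat_lit 69), Mv.f (nat_lit 304), Mv.f (nat_lit 338)]))) (Tr.lf (Fc.ed (nat_lit 340) (nat_lit 215) Col.b (nat_lit 216) Dv.df)))))) (Tr.nd (nat_lit 347) (Tr.nd (nat_lit 344) (Tr.nd (nat_lit 342) (Tr.lf (Fc.ed (nat_lit 341) (nat_lit 216) Col.c (nat_lit 194) (Dv.wd (nat_lit 8) [Mv.b (nat_lit 305), Mv.f (nat_lit 194), Mv.b (nat_lit 56), Mv.b (nat_lit 339), Mv.f (nat_lit 340)]))) (Tr.nd (nat_lit 343) (Tr.lf (Fc.ed (nat_lit 342) (nat_lit 32) Col.d (nat_lit 217) Dv.df)) (Tr.lf (Fc.ed (nat_lit 343) (nat_lit 211) Col.c (nat_lit 218) Dv.df)))) (Tr.nd (nat_lit 345) (Tr.lf (Fc.ed (nat_lit 344) (nat_lit 218) Col.b (nat_lit 212) (Dv.wd (nat_lit 7) [Mv.f (nat_lit 335), Mv.f (nat_lit 253), Mv.b (nat_lit 222), Mv.f (nat_lit 332), Mv.f (nat_lit 343)]))) (Tr.nd (nat_lit 346) (Tr.lf (Fc.ed (nat_lit 345) (nat_lit 69) Col.d (nat_lit 219) Dv.df)) (Tr.lf (Fc.ed (nat_lit 346) (nat_lit 219) Col.b (nat_lit 217) (Dv.wd (nat_lit 5) [Mv.b (nat_lit 342), Mv.f (nat_lit 99), Mv.f (nat_lit 345)])))))) (Tr.nd (nat_lit 350) (Tr.nd (nat_lit 348) (Tr.lf (Fc.ed (nat_lit 347) (nat_lit 191) Col.b (nat_lit 220) Dv.df)) (Tr.nd (nat_lit 349) (Tr.lf (Fc.ed (nat_lit 348) (nat_lit 134) Col.d (nat_lit 221) Dv.df)) (Tr.lf (Fc.ed (nat_lit 349) (nat_lit 221) Col.a (nat_lit 219) (Dv.wd (nat_lit 1) [Mv.b (nat_lit 345), Mv.f (nat_lit 206), Mv.f (nat_lit 348)]))))) (Tr.nd (nat_lit 351) (Tr.lf (Fc.ed (nat_lit 350) (nat_lit 84) Col.c (nat_lit 222) Dv.df)) (Tr.nd (nat_lit 352) (Tr.lf (Fc.ed (nat_lit 351) (nat_lit 146) Col.a (nat_lit 223) Dv.df)) (Tr.lf (Fc.ed (nat_lit 352) (nat_lit 222) Col.a (nat_lit 224) Dv.df))))))) (Tr.nd (nat_lit 365) (Tr.nd (nat_lit 359) (Tr.nd (nat_lit 356) (Tr.nd (nat_lit 354) (Tr.lf (Fc.ed (nat_lit 353) (nat_lit 224) Col.c (nat_lit 152) (Dv.wd (nat_lit 2) [Mv.f (nat_lit 235), Mv.f (nat_lit 350), Mv.f (nat_lit 352)]))) (Tr.nd (nat_lit 355) (Tr.lf (Fc.ed (nat_lit 354) (nat_lit 183) Col.b (nat_lit 225) Dv.df)) (Tr.lf (Fc.ed (nat_lit 355) (nat_lit 225) Col.c (nat_lit 220) (Dv.wd (nat_lit 8) [Mv.b (nat_lit 347), Mv.f (nat_lit 301), Mv.f (nat_lit 114), Mv.b (nat_lit 287), Mv.f (nat_lit 354)]))))) (Tr.nd (nat_lit 357) (Tr.lf (Fc.ed (nat_lit 356) (nat_lit 224) Col.d (nat_lit 226) Dv.df)) (Tr.nd (nat_lit 358) (Tr.lf (Fc.ed (nat_lit 357) (nat_lit 226) Col.c (nat_lit 219) (Dv.wd (nat_lit 11) [Mv.b (nat_lit 345), Mv.f (nat_lit 100), Mv.b (nat_lit 96), Mv.f (nat_lit 101), Mv.b (nat_lit 125), Mv.b (nat_lit 235), Mv.b (nat_lit 353), Mv.f (nat_lit 356)]))) (Tr.lf (Fc.ed (nat_lit 358) (nat_lit 177) Col.a (nat_lit 227) Dv.df))))) (Tr.nd (nat_lit 362) (Tr.nd (nat_lit 360) (Tr.lf (Fc.ed (nat_lit 359) (nat_lit 227) Col.d (nat_lit 212) (Dv.wd (nat_lit 6) [Mv.b (nat_lit 334), Mv.f (nat_lit 277), Mv.f (nat_lit 358)]))) (Tr.nd (nat_lit 361) (Tr.lf (Fc.ed (nat_lit 360) (nat_lit 47) Col.d (nat_lit 228) Dv.df)) (Tr.lf (Fc.ed (nat_lit 361) (nat_lit 210) Col.a (nat_lit 229) Dv.df)))) (Tr.nd (nat_lit 363) (Tr.lf (Fc.ed (nat_lit 362) (nat_lit 114) Col.c (nat_lit 230) Dv.df)) (Tr.nd (nat_lit 364) (Tr.lf (Fc.ed (nat_lit 363) (nat_lit 26) Col.c (nat_lit 231) Dv.df)) (Tr.lf (Fc.ed (nat_lit 364) (nat_lit 207) Col.c (nat_lit 232) Dv.df)))))) (Tr.nd (nat_lit 371) (Tr.nd (nat_lit 368) (Tr.nd (nat_lit 366) (Tr.lf (Fc.ed (nat_lit 365) (nat_lit 232) Col.d (nat_lit 231) (Dv.wd (nat_lit 10) [Mv.b (nat_lit 363), Mv.b (nat_lit 26), Mv.b (nat_lit 25), Mv.b (nat_lit 80), Mv.f (nat_lit 198), Mv.f (nat_lit 325), Mv.f (nat_lit 326), Mv.f (nat_lit 364)]))) (Tr.nd (nat_lit 367) (Tr.lf (Fc.ed (nat_lit 366) (nat_lit 33) Col.d (nat_lit 233) Dv.df)) (Tr.lf (Fc.ed (nat_lit 367) (nat_lit 233) Col.a (nat_lit 217) (Dv.wd (nat_lit 1) [Mv.b (nat_lit 342), Mv.b (nat_lit 39), Mv.f (nat_lit 366)]))))) (Tr.nd (nat_lit 369) (Tr.lf (Fc.ed (nat_lit 368) (nat_lit 233) Col.b (nat_lit 228) (Dv.wd (nat_lit 5) [Mv.b (nat_lit 360), Mv.f (nat_lit 62), Mv.f (nat_lit 366)]))) (Tr.nd (nat_lit 370) (Tr.lf (Fc.ed (nat_lit 369) (nat_lit 168) Col.b (nat_lit 234) Dv.df)) (Tr.lf (Fc.ed (nat_lit 370) (nat_lit 166) Col.b (nat_lit 235) Dv.df))))) (Tr.nd (nat_lit 374) (Tr.nd (nat_lit 372) (Tr.lf (Fc.ed (nat_lit 371) (nat_lit 157) Col.b (nat_lit 236) Dv.df)) (Tr.nd (nat_lit 373) (Tr.lf (Fc.ed (nat_lit 372) (nat_lit 236) Col.d (nat_lit 234) (Dv.wd (nat_lit 3) [Mv.b (nat_lit 369), Mv.b (nat_lit 261), Mv.f (nat_lit 371)]))) (Tr.lf (Fc.ed (nat_lit 373) (nat_lit 204) Col.c (nat_lit 237) Dv.df)))) (Tr.nd (nat_lit 375) (Tr.lf (Fc.ed (nat_lit 374) (nat_lit 208) Col.b (nat_lit 238) Dv.df)) (Tr.nd (nat_lit 376) (Tr.lf (Fc.ed (nat_lit 375) (nat_lit 238) Col.d (nat_lit 201) (Dv.wd (nat_lit 3) [Mv.f (nat_lit 317), Mv.b (nat_lit 329), Mv.f (nat_lit 374)]))) (Tr.lf (Fc.ed (nat_lit 376) (nat_lit 230) Col.a (nat_lit 239) Dv.df))))))))))) (Tr.nd (nat_lit 565) (Tr.nd (nat_lit 471) (Tr.nd (nat_lit 424) (Tr.nd (nat_lit 400) (Tr.nd (nat_lit 388) (Tr.nd (nat_lit 382) (Tr.nd (nat_lit 379) (Tr.nd (nat_lit 378) (Tr.lf (Fc.ed (nat_lit 377) (nat_lit 239) Col.c (nat_lit 115) (Dv.wd (nat_lit 2) [Mv.f (nat_lit 176), Mv.f (nat_lit 362), Mv.f (nat_lit 376)]))) (Tr.lf (Fc.ed (nat_lit 378) (nat_lit 214) Col.b (nat_lit 240) Dv.df))) (Tr.nd (nat_lit 380) (Tr.lf (Fc.ed (nat_lit 379) (nat_lit 240) Col.d (nat_lit 96) (Dv.wd (nat_lit 3) [Mv.f (nat_lit 313), Mv.f (nat_lit 337), Mv.f (nat_lit 378)]))) (Tr.nd (nat_lit 381) (Tr.lf (Fc.ed (nat_lit 380) (nat_lit 228) Col.a (nat_lit 240) (Dv.wd (nat_lit 14) [Mv.f (nat_lit 379), Mv.f (nat_lit 146), Mv.f (nat_lit 360)]))) (Tr.lf (Fc.ed (nat_lit 381) (nat_lit 227) Col.b (nat_lit 241) Dv.df))))) (Tr.nd (nat_lit 385) (Tr.nd (nat_lit 383) (Tr.lf (Fc.ed (nat_lit 382) (nat_lit 241) Col.d (nat_lit 218) (Dv.wd (nat_lit 3) [Mv.f (nat_lit 344), Mv.b (nat_lit 359), Mv.f (nat_lit 381)]))) (Tr.nd (nat_lit 384) (Tr.lf (Fc.ed (nat_lit 383) (nat_lit 237) Col.b (nat_lit 242) Dv.df)) (Tr.lf (Fc.ed (nat_lit 384) (nat_lit 242) Col.c (nat_lit 155) (Dv.wd (nat_lit 8) [Mv.b (nat_lit 239), Mv.f (nat_lit 245), Mv.f (nat_lit 322), Mv.f (nat_lit 373), Mv.f (nat_lit 383)]))))) (Tr.nd (nat_lit 386) (Tr.lf (Fc.ed (nat_lit 385) (nat_lit 235) Col.d (nat_lit 243) Dv.df)) (Tr.nd (nat_lit 387) (Tr.lf (Fc.ed (nat_lit 386) (nat_lit 243) Col.b (nat_lit 116) (Dv.wd (nat_lit 5) [Mv.f (nat_lit 259), Mv.f (nat_lit 370), Mv.f (nat_lit 385)]))) (Tr.lf (Fc.ed (nat_lit 387) (nat_lit 241) Col.a (nat_lit 244) Dv.df)))))) (Tr.nd (nat_lit 394) (Tr.nd (nat_lit 391) (Tr.nd (nat_lit 389) (Tr.lf (Fc.ed (nat_lit 388) (nat_lit 244) Col.b (nat_lit 223) (Dv.wd (nat_lit 9) [Mv.b (nat_lit 351), Mv.f (nat_lit 226), Mv.f (nat_lit 163), Mv.f (nat_lit 147), Mv.b (nat_lit 158), Mv.b (nat_lit 278), Mv.f (nat_lit 358), Mv.f (nat_lit 381), Mv.f (nat_lit 387)]))) (Tr.nd (nat_lit 390) (Tr.lf (Fc.ed (nat_lit 389) (nat_lit 227) Col.c (nat_lit 245) Dv.df)) (Tr.lf (Fc.ed (nat_lit 390) (nat_lit 190) Col.c (nat_lit 246) Dv.df)))) (Tr.nd (nat_lit 392) (Tr.lf (Fc.ed (nat_lit 391) (nat_lit 167) Col.d (nat_lit 247) Dv.df)) (Tr.nd (nat_lit 393) (Tr.lf (Fc.ed (nat_lit 392) (nat_lit 242) Col.a (nat_lit 248) Dv.df)) (Tr.lf (Fc.ed (nat_lit 393) (nat_lit 248) Col.c (nat_lit 192) (Dv.wd (nat_lit 2) [Mv.b (nat_lit 302), Mv.b (nat_lit 384), Mv.f (nat_lit 392)])))))) (Tr.nd (nat_lit 397) (Tr.nd (nat_lit 395) (Tr.lf (Fc.ed (nat_lit 394) (nat_lit 191) Col.d (nat_lit 249) Dv.df)) (Tr.nd (nat_lit 396) (Tr.lf (Fc.ed (nat_lit 395) (nat_lit 220) Col.d (nat_lit 250) Dv.df)) (Tr.lf (Fc.ed (nat_lit 396) (nat_lit 250) Col.b (nat_lit 249) (Dv.wd (nat_lit 5) [Mv.b (nat_lit 394), Mv.f (nat_lit 347), Mv.f (nat_lit 395)]))))) (Tr.nd (nat_lit 398) (Tr.lf (Fc.ed (nat_lit 397) (nat_lit 247) Col.b (nat_lit 251) Dv.df)) (Tr.nd (nat_lit 399) (Tr.lf (Fc.ed (nat_lit 398) (nat_lit 251) Col.d (nat_lit 103) (Dv.wd (nat_lit 3) [Mv.f (nat_lit 260), Mv.f (nat_lit 391), Mv.f (nat_lit 397)]))) (Tr.lf (Fc.ed (nat_lit 399) (nat_lit 249) Col.c (nat_lit 252) Dv.df))))))) (Tr.nd (nat_lit 412) (Tr.nd (nat_lit 406) (Tr.nd (nat_lit 403) (Tr.nd (nat_lit 401) (Tr.lf (Fc.ed (nat_lit 400) (nat_lit 252) Col.d (nat_lit 242) (Dv.wd (nat_lit 13) [Mv.f (nat_lit 384), Mv.f (nat_lit 240), Mv.b (nat_lit 181), Mv.b (nat_lit 110), Mv.f (nat_lit 113), Mv.b (nat_lit 301), Mv.f (nat_lit 394), Mv.f (nat_lit 399)]))) (Tr.nd (nat_lit 402) (Tr.lf (Fc.ed (nat_lit 401) (nat_lit 252) Col.a (nat_lit 253) Dv.df)) (Tr.lf (Fc.ed (nat_lit 402) (nat_lit 253) Col.d (nat_lit 248) (Dv.wd (nat_lit 6) [Mv.b (nat_lit 392), Mv.b (nat_lit 400), Mv.f (nat_lit 401)]))))) (Tr.nd (nat_lit 404) (Tr.lf (Fc.ed (nat_lit 403) (nat_lit 253) Col.c (nat_lit 254) Dv.df)) (Tr.nd (nat_lit 405) (Tr.lf (Fc.ed (nat_lit 404) (nat_lit 254) Col.d (nat_lit 180) (Dv.wd (nat_lit 10) [Mv.b (nat_lit 282), Mv.f (nat_lit 110), Mv.f (nat_lit 181), Mv.b (nat_lit 240), Mv.b (nat_lit 384), Mv.b (nat_lit 400), Mv.f (nat_lit 401), Mv.f (nat_lit 403)]))) (Tr.lf (Fc.ed (nat_lit 405) (nat_lit 109) Col.d (nat_lit 255) Dv.df))))) (Tr.nd (nat_lit 409) (Tr.nd (nat_lit 407) (Tr.lf (Fc.ed (nat_lit 406) (nat_lit 255) Col.a (nat_lit 251) (Dv.wd (nat_lit 1) [Mv.f (nat_lit 398), Mv.f (nat_lit 165), Mv.f (nat_lit 405)]))) (Tr.nd (nat_lit 408) (Tr.lf (Fc.ed (nat_lit 407) (nat_lit 185) Col.b (nat_lit 256) Dv.df)) (Tr.lf (Fc.ed (nat_lit 408) (nat_lit 256) Col.d (nat_lit 209) (Dv.wd (nat_lit 3) [Mv.b (nat_lit 330), Mv.b (nat_lit 291), Mv.f (nat_lit 407)]))))) (Tr.nd (nat_lit 410) (Tr.lf (Fc.ed (nat_lit 409) (nat_lit 37) Col.c (nat_lit 257) Dv.df)) (Tr.nd (nat_lit 411) (Tr.lf (Fc.ed (nat_lit 410) (nat_lit 255) Col.c (nat_lit 258) Dv.df)) (Tr.lf (Fc.ed (nat_lit 411) (nat_lit 258) Col.a (nat_lit 259) Dv.df)))))) (Tr.nd (nat_lit 418) (Tr.nd (nat_lit 415) (Tr.nd (nat_lit 413) (Tr.lf (Fc.ed (nat_lit 412) (nat_lit 259) Col.c (nat_lit 251) (Dv.wd (nat_lit 2) [Mv.b (nat_lit 406), Mv.f (nat_lit 410), Mv.f (nat_lit 411)]))) (Tr.nd (nat_lit 414) (Tr.lf (Fc.ed (nat_lit 413) (nat_lit 254) Col.b (nat_lit 260) Dv.df)) (Tr.lf (Fc.ed (nat_lit 414) (nat_lit 260) Col.d (nat_lit 181) (Dv.wd (nat_lit 3) [Mv.b (nat_lit 283), Mv.b (nat_lit 404), Mv.f (nat_lit 413)]))))) (Tr.nd (nat_lit 416) (Tr.lf (Fc.ed (nat_lit 415) (nat_lit 259) Col.d (nat_lit 261) Dv.df)) (Tr.nd (nat_lit 417) (Tr.lf (Fc.ed (nat_lit 416) (nat_lit 261) Col.c (nat_lit 89) (Dv.wd (nat_lit 11) [Mv.b (nat_lit 134), Mv.f (nat_lit 104), Mv.b (nat_lit 58), Mv.b (nat_lit 166), Mv.f (nat_lit 405), Mv.f (nat_lit 406), Mv.b (nat_lit 412), Mv.f (nat_lit 415)]))) (Tr.lf (Fc.ed (nat_lit 417) (nat_lit 195) Col.d (nat_lit 262) Dv.df))))) (Tr.nd (nat_lit 421) (Tr.nd (nat_lit 419) (Tr.lf (Fc.ed (nat_lit 418) (nat_lit 190) Col.a (nat_lit 263) Dv.df)) (Tr.nd (nat_lit 420) (Tr.lf (Fc.ed (nat_lit 419) (nat_lit 194) Col.a (nat_lit 264) Dv.df)) (Tr.lf (Fc.ed (nat_lit 420) (nat_lit 264) Col.d (nat_lit 263) (Dv.wd (nat_lit 6) [Mv.b (nat_lit 418), Mv.b (nat_lit 306), Mv.f (nat_lit 419)]))))) (Tr.nd (nat_lit 422) (Tr.lf (Fc.ed (nat_lit 421) (nat_lit 245) Col.a (nat_lit 265) Dv.df)) (Tr.nd (nat_lit 423) (Tr.lf (Fc.ed (nat_lit 422) (nat_lit 265) Col.c (nat_lit 177) (Dv.wd (nat_lit 2) [Mv.f (nat_lit 358), Mv.f (nat_lit 389), Mv.f (nat_lit 421)]))) (Tr.lf (Fc.ed (nat_lit 423) (nat_lit 197) Col.d (nat_lit 266) Dv.df)))))))) (Tr.nd (nat_lit 447) (Tr.nd (nat_lit 435) (Tr.nd (nat_lit 429) (Tr.nd (nat_lit 426) (Tr.nd (nat_lit 425) (Tr.lf (Fc.ed (nat_lit 424) (nat_lit 266) Col.a (nat_lit 262) (Dv.wd (nat_lit 1) [Mv.b (nat_lit 417), Mv.f (nat_lit 309), Mv.f (nat_lit 423)]))) (Tr.lf (Fc.ed (nat_lit 425) (nat_lit 176) Col.b (nat_lit 267) Dv.df))) (Tr.nd (nat_lit 427) (Tr.lf (Fc.ed (nat_lit 426) (nat_lit 184) Col.d (nat_lit 268) Dv.df)) (Tr.nd (nat_lit 428) (Tr.lf (Fc.ed (nat_lit 427) (nat_lit 230) Col.b (nat_lit 269) Dv.df)) (Tr.lf (Fc.ed (nat_lit 428) (nat_lit 183) Col.d (nat_lit 270) Dv.df))))) (Tr.nd (nat_lit 432) (Tr.nd (nat_lit 430) (Tr.lf (Fc.ed (nat_lit 429) (nat_lit 153) Col.b (nat_lit 271) Dv.df)) (Tr.nd (nat_lit 431) (Tr.lf (Fc.ed (nat_lit 430) (nat_lit 271) Col.c (nat_lit 269) (Dv.wd (nat_lit 8) [Mv.b (nat_lit 427), Mv.b (nat_lit 362), Mv.b (nat_lit 173), Mv.f (nat_lit 236), Mv.f (nat_lit 429)]))) (Tr.lf (Fc.ed (nat_lit 431) (nat_lit 243) Col.c (nat_lit 272) Dv.df)))) (Tr.nd (nat_lit 433) (Tr.lf (Fc.ed (nat_lit 432) (nat_lit 272) Col.b (nat_lit 261) (Dv.wd (nat_lit 7) [Mv.f (nat_lit 416), Mv.f (nat_lit 135), Mv.b (nat_lit 178), Mv.b (nat_lit 386), Mv.f (nat_lit 431)]))) (Tr.nd (nat_lit 434) (Tr.lf (Fc.ed (nat_lit 433) (nat_lit 257) Col.b (nat_lit 273) Dv.df)) (Tr.lf (Fc.ed (nat_lit 434) (nat_lit 95) Col.c (nat_lit 274) Dv.df)))))) (Tr.nd (nat_lit 441) (Tr.nd (nat_lit 438) (Tr.nd (nat_lit 436) (Tr.lf (Fc.ed (nat_lit 435) (nat_lit 270) Col.a (nat_lit 275) Dv.df)) (Tr.nd (nat_lit 437) (Tr.lf (Fc.ed (nat_lit 436) (nat_lit 275) Col.d (nat_lit 178) (Dv.wd (nat_lit 6) [Mv.f (nat_lit 286), Mv.f (nat_lit 428), Mv.f (nat_lit 435)]))) (Tr.lf (Fc.ed (nat_lit 437) (nat_lit 270) Col.b (nat_lit 276) Dv.df)))) (Tr.nd (nat_lit 439) (Tr.lf (Fc.ed (nat_lit 438) (nat_lit 276) Col.d (nat_lit 225) (Dv.wd (nat_lit 3) [Mv.b (nat_lit 354), Mv.f (nat_lit 428), Mv.f (nat_lit 437)]))) (Tr.nd (nat_lit 440) (Tr.lf (Fc.ed (nat_lit 439) (nat_lit 270) Col.c (nat_lit 277) Dv.df)) (Tr.lf (Fc.ed (nat_lit 440) (nat_lit 277) Col.d (nat_lit 274) (Dv.wd (nat_lit 10) [Mv.b (nat_lit 434), Mv.b (nat_lit 144), Mv.b (nat_lit 117), Mv.b (nat_lit 84), Mv.f (nat_lit 279), Mv.b (nat_lit 436), Mv.b (nat_lit 435), Mv.f (nat_lit 439)])))))) (Tr.nd (nat_lit 444) (Tr.nd (nat_lit 442) (Tr.lf (Fc.ed (nat_lit 441) (nat_lit 266) Col.c (nat_lit 278) Dv.df)) (Tr.nd (nat_lit 443) (Tr.lf (Fc.ed (nat_lit 442) (nat_lit 246) Col.a (nat_lit 279) Dv.df)) (Tr.lf (Fc.ed (nat_lit 443) (nat_lit 279) Col.c (nat_lit 263) (Dv.wd (nat_lit 2) [Mv.b (nat_lit 418), Mv.f (nat_lit 390), Mv.f (nat_lit 442)]))))) (Tr.nd (nat_lit 445) (Tr.lf (Fc.ed (nat_lit 444) (nat_lit 278) Col.d (nat_lit 280) Dv.df)) (Tr.nd (nat_lit 446) (Tr.lf (Fc.ed (nat_lit 445) (nat_lit 280) Col.c (nat_lit 97) (Dv.wd (nat_lit 11) [Mv.f (nat_lit 148), Mv.b (nat_lit 116), Mv.b (nat_lit 64), Mv.f (nat_lit 307), Mv.f (nat_lit 417), Mv.b (nat_lit 424), Mv.f (nat_lit 441), Mv.f (nat_lit 444)]))) (Tr.lf (Fc.ed (nat_lit 446) (nat_lit 135) Col.b (nat_lit 281) Dv.df))))))) (Tr.nd (nat_lit 459) (Tr.nd (nat_lit 453) (Tr.nd (nat_lit 450) (Tr.nd (nat_lit 448) (Tr.lf (Fc.ed (nat_lit 447) (nat_lit 273) Col.c (nat_lit 282) Dv.df)) (Tr.nd (nat_lit 449) (Tr.lf (Fc.ed (nat_lit 448) (nat_lit 282) Col.b (nat_lit 184) (Dv.wd (nat_lit 7) [Mv.b (nat_lit 288), Mv.b (nat_lit 71), Mv.f (nat_lit 409), Mv.f (nat_lit 433), Mv.f (nat_lit 447)]))) (Tr.lf (Fc.ed (nat_lit 449) (nat_lit 262) Col.c (nat_lit 283) Dv.df)))) (Tr.nd (nat_lit 451) (Tr.lf (Fc.ed (nat_lit 450) (nat_lit 104) Col.c (nat_lit 284) Dv.df)) (Tr.nd (nat_lit 452) (Tr.lf (Fc.ed (nat_lit 451) (nat_lit 284) Col.d (nat_lit 283) (Dv.wd (nat_lit 10) [Mv.b (nat_lit 449), Mv.b (nat_lit 417), Mv.b (nat_lit 307), Mv.f (nat_lit 64), Mv.f (nat_lit 116), Mv.b (nat_lit 148), Mv.b (nat_lit 158), Mv.f (nat_lit 450)]))) (Tr.lf (Fc.ed (nat_lit 452) (nat_lit 40) Col.c (nat_lit 285) Dv.df))))) (Tr.nd (nat_lit 456) (Tr.nd (nat_lit 454) (Tr.lf (Fc.ed (nat_lit 453) (nat_lit 285) Col.a (nat_lit 257) (Dv.wd (nat_lit 4) [Mv.b (nat_lit 409), Mv.b (nat_lit 51), Mv.f (nat_lit 452)]))) (Tr.nd (nat_lit 455) (Tr.lf (Fc.ed (nat_lit 454) (nat_lit 223) Col.c (nat_lit 286) Dv.df)) (Tr.lf (Fc.ed (nat_lit 455) (nat_lit 207) Col.b (nat_lit 287) Dv.df)))) (Tr.nd (nat_lit 457) (Tr.lf (Fc.ed (nat_lit 456) (nat_lit 287) Col.d (nat_lit 281) (Dv.wd (nat_lit 3) [Mv.b (nat_lit 446), Mv.b (nat_lit 327), Mv.f (nat_lit 455)]))) (Tr.nd (nat_lit 458) (Tr.lf (Fc.ed (nat_lit 457) (nat_lit 239) Col.b (nat_lit 288) Dv.df)) (Tr.lf (Fc.ed (nat_lit 458) (nat_lit 288) Col.c (nat_lit 281) (Dv.wd (nat_lit 8) [Mv.b (nat_lit 446), Mv.b (nat_lit 208), Mv.f (nat_lit 174), Mv.b (nat_lit 377), Mv.f (nat_lit 457)]))))))) (Tr.nd (nat_lit 465) (Tr.nd (nat_lit 462) (Tr.nd (nat_lit 460) (Tr.lf (Fc.ed (nat_lit 459) (nat_lit 268) Col.a (nat_lit 289) Dv.df)) (Tr.nd (nat_lit 461) (Tr.lf (Fc.ed (nat_lit 460) (nat_lit 289) Col.d (nat_lit 153) (Dv.wd (nat_lit 6) [Mv.b (nat_lit 289), Mv.f (nat_lit 426), Mv.f (nat_lit 459)]))) (Tr.lf (Fc.ed (nat_lit 461) (nat_lit 214) Col.a (nat_lit 290) Dv.df)))) (Tr.nd (nat_lit 463) (Tr.lf (Fc.ed (nat_lit 462) (nat_lit 289) Col.b (nat_lit 291) Dv.df)) (Tr.nd (nat_lit 464) (Tr.lf (Fc.ed (nat_lit 463) (nat_lit 291) Col.d (nat_lit 271) (Dv.wd (nat_lit 3) [Mv.b (nat_lit 429), Mv.b (nat_lit 460), Mv.f (nat_lit 462)]))) (Tr.lf (Fc.ed (nat_lit 464) (nat_lit 267) Col.d (nat_lit 292) Dv.df))))) (Tr.nd (nat_lit 468) (Tr.nd (nat_lit 466) (Tr.lf (Fc.ed (nat_lit 465) (nat_lit 292) Col.b (nat_lit 179) (Dv.wd (nat_lit 5) [Mv.f (nat_lit 281), Mv.f (nat_lit 425), Mv.f (nat_lit 464)]))) (Tr.nd (nat_lit 467) (Tr.lf (Fc.ed (nat_lit 466) (nat_lit 134) Col.b (nat_lit 293) Dv.df)) (Tr.lf (Fc.ed (nat_lit 467) (nat_lit 292) Col.c (nat_lit 294) Dv.df)))) (Tr.nd (nat_lit 469) (Tr.lf (Fc.ed (nat_lit 468) (nat_lit 294) Col.b (nat_lit 162) (Dv.wd (nat_lit 7) [Mv.f (nat_lit 251), Mv.b (nat_lit 185), Mv.f (nat_lit 280), Mv.b (nat_lit 465), Mv.f (nat_lit 467)]))) (Tr.nd (nat_lit 470) (Tr.lf (Fc.ed (nat_lit 469) (nat_lit 228) Col.c (nat_lit 295) Dv.df)) (Tr.lf (Fc.ed (nat_lit 470) (nat_lit 295) Col.d (nat_lit 296) Dv.df))))))))) (Tr.nd (nat_lit 518) (Tr.nd (nat_lit 494) (Tr.nd (nat_lit 482) (Tr.nd (nat_lit 476) (Tr.nd (nat_lit 473) (Tr.nd (nat_lit 472) (Tr.lf (Fc.ed (nat_lit 471) (nat_lit 296) Col.c (nat_lit 289) (Dv.wd (nat_lit 11) [Mv.f (nat_lit 460), Mv.b (nat_lit 236), Mv.b (nat_lit 139), Mv.f (nat_lit 145), Mv.b (nat_lit 379), Mv.b (nat_lit 380), Mv.f (nat_lit 469), Mv.f (nat_lit 470)]))) (Tr.lf (Fc.ed (nat_lit 472) (nat_lit 293) Col.c (nat_lit 297) Dv.df))) (Tr.nd (nat_lit 474) (Tr.lf (Fc.ed (nat_lit 473) (nat_lit 293) Col.d (nat_lit 298) Dv.df)) (Tr.nd (nat_lit 475) (Tr.lf (Fc.ed (nat_lit 474) (nat_lit 298) Col.b (nat_lit 221) (Dv.wd (nat_lit 5) [Mv.b (nat_lit 348), Mv.f (nat_lit 466), Mv.f (nat_lit 473)]))) (Tr.lf (Fc.ed (nat_lit 475) (nat_lit 298) Col.a (nat_lit 299) Dv.df))))) (Tr.nd (nat_lit 479) (Tr.nd (nat_lit 477) (Tr.lf (Fc.ed (nat_lit 476) (nat_lit 299) Col.b (nat_lit 290) (Dv.wd (nat_lit 9) [Mv.b (nat_lit 461), Mv.f (nat_lit 378), Mv.b (nat_lit 380), Mv.b (nat_lit 368), Mv.f (nat_lit 367), Mv.b (nat_lit 346), Mv.b (nat_lit 349), Mv.b (nat_lit 474), Mv.f (nat_lit 475)]))) (Tr.nd (nat_lit 478) (Tr.lf (Fc.ed (nat_lit 477) (nat_lit 297) Col.b (nat_lit 300) Dv.df)) (Tr.lf (Fc.ed (nat_lit 478) (nat_lit 300) Col.c (nat_lit 164) (Dv.wd (nat_lit 8) [Mv.f (nat_lit 256), Mv.b (nat_lit 207), Mv.f (nat_lit 466), Mv.f (nat_lit 472), Mv.f (nat_lit 477)]))))) (Tr.nd (nat_lit 480) (Tr.lf (Fc.ed (nat_lit 479) (nat_lit 285) Col.b (nat_lit 301) Dv.df)) (Tr.nd (nat_lit 481) (Tr.lf (Fc.ed (nat_lit 480) (nat_lit 220) Col.a (nat_lit 302) Dv.df)) (Tr.lf (Fc.ed (nat_lit 481) (nat_lit 301) Col.c (nat_lit 303) Dv.df)))))) (Tr.nd (nat_lit 488) (Tr.nd (nat_lit 485) (Tr.nd (nat_lit 483) (Tr.lf (Fc.ed (nat_lit 482) (nat_lit 303) Col.b (nat_lit 109) (Dv.wd (nat_lit 7) [Mv.f (nat_lit 166), Mv.b (nat_lit 57), Mv.f (nat_lit 452), Mv.f (nat_lit 479), Mv.f (nat_lit 481)]))) (Tr.nd (nat_lit 484) (Tr.lf (Fc.ed (nat_lit 483) (nat_lit 110) Col.b (nat_lit 304) Dv.df)) (Tr.lf (Fc.ed (nat_lit 484) (nat_lit 274) Col.b (nat_lit 305) Dv.df)))) (Tr.nd (nat_lit 486) (Tr.lf (Fc.ed (nat_lit 485) (nat_lit 284) Col.b (nat_lit 306) Dv.df)) (Tr.nd (nat_lit 487) (Tr.lf (Fc.ed (nat_lit 486) (nat_lit 300) Col.d (nat_lit 307) Dv.df)) (Tr.lf (Fc.ed (nat_lit 487) (nat_lit 302) Col.c (nat_lit 308) Dv.df))))) (Tr.nd (nat_lit 491) (Tr.nd (nat_lit 489) (Tr.lf (Fc.ed (nat_lit 488) (nat_lit 308) Col.a (nat_lit 225) (Dv.wd (nat_lit 4) [Mv.f (nat_lit 355), Mv.f (nat_lit 480), Mv.f (nat_lit 487)]))) (Tr.nd (nat_lit 490) (Tr.lf (Fc.ed (nat_lit 489) (nat_lit 265) Col.d (nat_lit 309) Dv.df)) (Tr.lf (Fc.ed (nat_lit 490) (nat_lit 309) Col.c (nat_lit 307) (Dv.wd (nat_lit 11) [Mv.b (nat_lit 486), Mv.f (nat_lit 478), Mv.f (nat_lit 255), Mv.b (nat_lit 335), Mv.b (nat_lit 359), Mv.b (nat_lit 358), Mv.b (nat_lit 422), Mv.f (nat_lit 489)]))))) (Tr.nd (nat_lit 492) (Tr.lf (Fc.ed (nat_lit 491) (nat_lit 195) Col.b (nat_lit 310) Dv.df)) (Tr.nd (nat_lit 493) (Tr.lf (Fc.ed (nat_lit 492) (nat_lit 200) Col.c (nat_lit 311) Dv.df)) (Tr.lf (Fc.ed (nat_lit 493) (nat_lit 231) Col.b (nat_lit 312) Dv.df))))))) (Tr.nd (nat_lit 506) (Tr.nd (nat_lit 500) (Tr.nd (nat_lit 497) (Tr.nd (nat_lit 495) (Tr.lf (Fc.ed (nat_lit 494) (nat_lit 286) Col.d (nat_lit 313) Dv.df)) (Tr.nd (nat_lit 496) (Tr.lf (Fc.ed (nat_lit 495) (nat_lit 313) Col.c (nat_lit 314) Dv.df)) (Tr.lf (Fc.ed (nat_lit 496) (nat_lit 314) Col.d (nat_lit 311) (Dv.wd (nat_lit 13) [Mv.b (nat_lit 492), Mv.f (nat_lit 315), Mv.f (nat_lit 218), Mv.f (nat_lit 225), Mv.f (nat_lit 351), Mv.f (nat_lit 454), Mv.f (nat_lit 494), Mv.f (nat_lit 495)]))))) (Tr.nd (nat_lit 498) (Tr.lf (Fc.ed (nat_lit 497) (nat_lit 304) Col.d (nat_lit 315) Dv.df)) (Tr.nd (nat_lit 499) (Tr.lf (Fc.ed (nat_lit 498) (nat_lit 315) Col.b (nat_lit 187) (Dv.wd (nat_lit 5) [Mv.b (nat_lit 293), Mv.f (nat_lit 483), Mv.f (nat_lit 497)]))) (Tr.lf (Fc.ed (nat_lit 499) (nat_lit 312) Col.d (nat_lit 316) Dv.df))))) (Tr.nd (nat_lit 503) (Tr.nd (nat_lit 501) (Tr.lf (Fc.ed (nat_lit 500) (nat_lit 316) Col.b (nat_lit 232) (Dv.wd (nat_lit 5) [Mv.f (nat_lit 365), Mv.f (nat_lit 493), Mv.f (nat_lit 499)]))) (Tr.nd (nat_lit 502) (Tr.lf (Fc.ed (nat_lit 501) (nat_lit 224) Col.b (nat_lit 317) Dv.df)) (Tr.lf (Fc.ed (nat_lit 502) (nat_lit 280) Col.b (nat_lit 318) Dv.df)))) (Tr.nd (nat_lit 504) (Tr.lf (Fc.ed (nat_lit 503) (nat_lit 318) Col.c (nat_lit 305) (Dv.wd (nat_lit 8) [Mv.b (nat_lit 484), Mv.b (nat_lit 434), Mv.f (nat_lit 147), Mv.b (nat_lit 445), Mv.f (nat_lit 502)]))) (Tr.nd (nat_lit 505) (Tr.lf (Fc.ed (nat_lit 504) (nat_lit 310) Col.d (nat_lit 319) Dv.df)) (Tr.lf (Fc.ed (nat_lit 505) (nat_lit 319) Col.b (nat_lit 262) (Dv.wd (nat_lit 5) [Mv.b (nat_lit 417), Mv.f (nat_lit 491), Mv.f (nat_lit 504)]))))))) (Tr.nd (nat_lit 512) (Tr.nd (nat_lit 509) (Tr.nd (nat_lit 507) (Tr.lf (Fc.ed (nat_lit 506) (nat_lit 162) Col.d (nat_lit 320) Dv.df)) (Tr.nd (nat_lit 508) (Tr.lf (Fc.ed (nat_lit 507) (nat_lit 237) Col.d (nat_lit 321) Dv.df)) (Tr.lf (Fc.ed (nat_lit 508) (nat_lit 321) Col.b (nat_lit 252) (Dv.wd (nat_lit 5) [Mv.f (nat_lit 400), Mv.b (nat_lit 383), Mv.f (nat_lit 507)]))))) (Tr.nd (nat_lit 510) (Tr.lf (Fc.ed (nat_lit 509) (nat_lit 196) Col.a (nat_lit 322) Dv.df)) (Tr.nd (nat_lit 511) (Tr.lf (Fc.ed (nat_lit 510) (nat_lit 182) Col.a (nat_lit 323) Dv.df)) (Tr.lf (Fc.ed (nat_lit 511) (nat_lit 323) Col.d (nat_lit 322) (Dv.wd (nat_lit 6) [Mv.b (nat_lit 509), Mv.b (nat_lit 308), Mv.f (nat_lit 510)])))))) (Tr.nd (nat_lit 515) (Tr.nd (nat_lit 513) (Tr.lf (Fc.ed (nat_lit 512) (nat_lit 255) Col.b (nat_lit 324) Dv.df)) (Tr.nd (nat_lit 514) (Tr.lf (Fc.ed (nat_lit 513) (nat_lit 324) Col.d (nat_lit 303) (Dv.wd (nat_lit 3) [Mv.f (nat_lit 482), Mv.f (nat_lit 405), Mv.f (nat_lit 512)]))) (Tr.lf (Fc.ed (nat_lit 514) (nat_lit 185) Col.c (nat_lit 325) Dv.df)))) (Tr.nd (nat_lit 516) (Tr.lf (Fc.ed (nat_lit 515) (nat_lit 265) Col.b (nat_lit 326) Dv.df)) (Tr.nd (nat_lit 517) (Tr.lf (Fc.ed (nat_lit 516) (nat_lit 326) Col.c (nat_lit 306) (Dv.wd (nat_lit 8) [Mv.b (nat_lit 485), Mv.b (nat_lit 450), Mv.b (nat_lit 278), Mv.b (nat_lit 422), Mv.f (nat_lit 515)]))) (Tr.lf (Fc.ed (nat_lit 517) (nat_lit 294) Col.d (nat_lit 327) Dv.df)))))))) (Tr.nd (nat_lit 541) (Tr.nd (nat_lit 529) (Tr.nd (nat_lit 523) (Tr.nd (nat_lit 520) (Tr.nd (nat_lit 519) (Tr.lf (Fc.ed (nat_lit 518) (nat_lit 327) Col.b (nat_lit 320) (Dv.wd (nat_lit 5) [Mv.b (nat_lit 506), Mv.b (nat_lit 468), Mv.f (nat_lit 517)]))) (Tr.lf (Fc.ed (nat_lit 519) (nat_lit 170) Col.d (nat_lit 328) Dv.df))) (Tr.nd (nat_lit 521) (Tr.lf (Fc.ed (nat_lit 520) (nat_lit 167) Col.a (nat_lit 329) Dv.df)) (Tr.nd (nat_lit 522) (Tr.lf (Fc.ed (nat_lit 521) (nat_lit 329) Col.c (nat_lit 323) (Dv.wd (nat_lit 2) [Mv.b (nat_lit 510), Mv.b (nat_lit 285), Mv.f (nat_lit 520)]))) (Tr.lf (Fc.ed (nat_lit 522) (nat_lit 226) Col.b (nat_lit 330) Dv.df))))) (Tr.nd (nat_lit 526) (Tr.nd (nat_lit 524) (Tr.lf (Fc.ed (nat_lit 523) (nat_lit 330) Col.d (nat_lit 317) (Dv.wd (nat_lit 3) [Mv.b (nat_lit 501), Mv.f (nat_lit 356), Mv.f (nat_lit 522)]))) (Tr.nd (nat_lit 525) (Tr.lf (Fc.ed (nat_lit 524) (nat_lit 217) Col.c (nat_lit 331) Dv.df)) (Tr.lf (Fc.ed (nat_lit 525) (nat_lit 325) Col.d (nat_lit 332) Dv.df)))) (Tr.nd (nat_lit 527) (Tr.lf (Fc.ed (nat_lit 526) (nat_lit 332) Col.c (nat_lit 328) (Dv.wd (nat_lit 11) [Mv.b (nat_lit 519), Mv.b (nat_lit 264), Mv.f (nat_lit 210), Mv.b (nat_lit 214), Mv.f (nat_lit 219), Mv.f (nat_lit 290), Mv.f (nat_lit 514), Mv.f (nat_lit 525)]))) (Tr.nd (nat_lit 528) (Tr.lf (Fc.ed (nat_lit 527) (nat_lit 331) Col.a (nat_lit 333) Dv.df)) (Tr.lf (Fc.ed (nat_lit 528) (nat_lit 333) Col.c (nat_lit 233) (Dv.wd (nat_lit 2) [Mv.f (nat_lit 367), Mv.f (nat_lit 524), Mv.f (nat_lit 527)]))))))) (Tr.nd (nat_lit 535) (Tr.nd (nat_lit 532) (Tr.nd (nat_lit 530) (Tr.lf (Fc.ed (nat_lit 529) (nat_lit 247) Col.a (nat_lit 334) Dv.df)) (Tr.nd (nat_lit 531) (Tr.lf (Fc.ed (nat_lit 530) (nat_lit 334) Col.d (nat_lit 329) (Dv.wd (nat_lit 6) [Mv.b (nat_lit 520), Mv.f (nat_lit 391), Mv.f (nat_lit 529)]))) (Tr.lf (Fc.ed (nat_lit 531) (nat_lit 328) Col.b (nat_lit 335) Dv.df)))) (Tr.nd (nat_lit 533) (Tr.lf (Fc.ed (nat_lit 532) (nat_lit 335) Col.d (nat_lit 158) (Dv.wd (nat_lit 3) [Mv.b (nat_lit 265), Mv.f (nat_lit 519), Mv.f (nat_lit 531)]))) (Tr.nd (nat_lit 534) (Tr.lf (Fc.ed (nat_lit 533) (nat_lit 320) Col.a (nat_lit 335) (Dv.wd (nat_lit 14) [Mv.f (nat_lit 532), Mv.f (nat_lit 250), Mv.f (nat_lit 506)]))) (Tr.lf (Fc.ed (nat_lit 534) (nat_lit 330) Col.c (nat_lit 336) Dv.df))))) (Tr.nd (nat_lit 538) (Tr.nd (nat_lit 536) (Tr.lf (Fc.ed (nat_lit 535) (nat_lit 336) Col.b (nat_lit 331) (Dv.wd (nat_lit 7) [Mv.b (nat_lit 524), Mv.b (nat_lit 346), Mv.b (nat_lit 357), Mv.f (nat_lit 522), Mv.f (nat_lit 534)]))) (Tr.nd (nat_lit 537) (Tr.lf (Fc.ed (nat_lit 536) (nat_lit 172) Col.c (nat_lit 337) Dv.df)) (Tr.lf (Fc.ed (nat_lit 537) (nat_lit 320) Col.c (nat_lit 338) Dv.df)))) (Tr.nd (nat_lit 539) (Tr.lf (Fc.ed (nat_lit 538) (nat_lit 338) Col.d (nat_lit 337) (Dv.wd (nat_lit 10) [Mv.b (nat_lit 536), Mv.b (nat_lit 268), Mv.b (nat_lit 241), Mv.b (nat_lit 187), Mv.f (nat_lit 244), Mv.b (nat_lit 532), Mv.b (nat_lit 533), Mv.f (nat_lit 537)]))) (Tr.nd (nat_lit 540) (Tr.lf (Fc.ed (nat_lit 539) (nat_lit 338) Col.a (nat_lit 339) Dv.df)) (Tr.lf (Fc.ed (nat_lit 540) (nat_lit 339) Col.c (nat_lit 335) (Dv.wd (nat_lit 2) [Mv.b (nat_lit 533), Mv.f (nat_lit 537), Mv.f (nat_lit 539)])))))))) (Tr.nd (nat_lit 553) (Tr.nd (nat_lit 547) (Tr.nd (nat_lit 544) (Tr.nd (nat_lit 542) (Tr.lf (Fc.ed (nat_lit 541) (nat_lit 208) Col.c (nat_lit 340) Dv.df)) (Tr.nd (nat_lit 543) (Tr.lf (Fc.ed (nat_lit 542) (nat_lit 340) Col.d (nat_lit 339) (Dv.wd (nat_lit 10) [Mv.f (nat_lit 540), Mv.f (nat_lit 532), Mv.b (nat_lit 244), Mv.f (nat_lit 187), Mv.f (nat_lit 241), Mv.f (nat_lit 268), Mv.f (nat_lit 328), Mv.f (nat_lit 541)]))) (Tr.lf (Fc.ed (nat_lit 543) (nat_lit 234) Col.c (nat_lit 341) Dv.df)))) (Tr.nd (nat_lit 545) (Tr.lf (Fc.ed (nat_lit 544) (nat_lit 341) Col.b (nat_lit 337) (Dv.wd (nat_lit 7) [Mv.b (nat_lit 536), Mv.f (nat_lit 269), Mv.b (nat_lit 262), Mv.f (nat_lit 369), Mv.f (nat_lit 543)]))) (Tr.nd (nat_lit 546) (Tr.lf (Fc.ed (nat_lit 545) (nat_lit 198) Col.c (nat_lit 342) Dv.df)) (Tr.lf (Fc.ed (nat_lit 546) (nat_lit 304) Col.c (nat_lit 343) Dv.df))))) (Tr.nd (nat_lit 550) (Tr.nd (nat_lit 548) (Tr.lf (Fc.ed (nat_lit 547) (nat_lit 343) Col.b (nat_lit 342) (Dv.wd (nat_lit 7) [Mv.b (nat_lit 545), Mv.f (nat_lit 312), Mv.f (nat_lit 167), Mv.f (nat_lit 483), Mv.f (nat_lit 546)]))) (Tr.nd (nat_lit 549) (Tr.lf (Fc.ed (nat_lit 548) (nat_lit 308) Col.d (nat_lit 344) Dv.df)) (Tr.lf (Fc.ed (nat_lit 549) (nat_lit 344) Col.a (nat_lit 276) (Dv.wd (nat_lit 1) [Mv.f (nat_lit 438), Mv.b (nat_lit 488), Mv.f (nat_lit 548)]))))) (Tr.nd (nat_lit 551) (Tr.lf (Fc.ed (nat_lit 550) (nat_lit 269) Col.d (nat_lit 345) Dv.df)) (Tr.nd (nat_lit 552) (Tr.lf (Fc.ed (nat_lit 551) (nat_lit 49) Col.c (nat_lit 346) Dv.df)) (Tr.lf (Fc.ed (nat_lit 552) (nat_lit 310) Col.c (nat_lit 347) Dv.df)))))) (Tr.nd (nat_lit 559) (Tr.nd (nat_lit 556) (Tr.nd (nat_lit 554) (Tr.lf (Fc.ed (nat_lit 553) (nat_lit 347) Col.b (nat_lit 346) (Dv.wd (nat_lit 7) [Mv.b (nat_lit 551), Mv.b (nat_lit 65), Mv.f (nat_lit 307), Mv.f (nat_lit 491), Mv.f (nat_lit 552)]))) (Tr.nd (nat_lit 555) (Tr.lf (Fc.ed (nat_lit 554) (nat_lit 106) Col.d (nat_lit 348) Dv.df)) (Tr.lf (Fc.ed (nat_lit 555) (nat_lit 331) Col.d (nat_lit 349) Dv.df)))) (Tr.nd (nat_lit 557) (Tr.lf (Fc.ed (nat_lit 556) (nat_lit 349) Col.c (nat_lit 348) (Dv.wd (nat_lit 11) [Mv.b (nat_lit 554), Mv.f (nat_lit 161), Mv.f (nat_lit 131), Mv.f (nat_lit 38), Mv.f (nat_lit 366), Mv.f (nat_lit 367), Mv.f (nat_lit 524), Mv.f (nat_lit 555)]))) (Tr.nd (nat_lit 558) (Tr.lf (Fc.ed (nat_lit 557) (nat_lit 99) Col.d (nat_lit 350) Dv.df)) (Tr.lf (Fc.ed (nat_lit 558) (nat_lit 350) Col.a (nat_lit 348) (Dv.wd (nat_lit 1) [Mv.b (nat_lit 554), Mv.b (nat_lit 160), Mv.f (nat_lit 557)])))))) (Tr.nd (nat_lit 562) (Tr.nd (nat_lit 560) (Tr.lf (Fc.ed (nat_lit 559) (nat_lit 350) Col.c (nat_lit 351) Dv.df)) (Tr.nd (nat_lit 561) (Tr.lf (Fc.ed (nat_lit 560) (nat_lit 351) Col.d (nat_lit 333) (Dv.wd (nat_lit 10) [Mv.f (nat_lit 528), Mv.b (nat_lit 366), Mv.b (nat_lit 38), Mv.b (nat_lit 131), Mv.b (nat_lit 161), Mv.f (nat_lit 554), Mv.b (nat_lit 558), Mv.f (nat_lit 559)]))) (Tr.lf (Fc.ed (nat_lit 561) (nat_lit 302) Col.d (nat_lit 352) Dv.df)))) (Tr.nd (nat_lit 563) (Tr.lf (Fc.ed (nat_lit 562) (nat_lit 352) Col.a (nat_lit 250) (Dv.wd (nat_lit 1) [Mv.b (nat_lit 395), Mv.f (nat_lit 480), Mv.f (nat_lit 561)]))) (Tr.nd (nat_lit 564) (Tr.lf (Fc.ed (nat_lit 563) (nat_lit 350) Col.b (nat_lit 353) Dv.df)) (Tr.lf (Fc.ed (nat_lit 564) (nat_lit 353) Col.d (nat_lit 173) (Dv.wd (nat_lit 3) [Mv.f (nat_lit 271), Mv.f (nat_lit 557), Mv.f (nat_lit 563)]))))))))))) (Tr.nd (nat_lit 659) (Tr.nd (nat_lit 612) (Tr.nd (nat_lit 588) (Tr.nd (nat_lit 576) (Tr.nd (nat_lit 570) (Tr.nd (nat_lit 567) (Tr.nd (nat_lit 566) (Tr.lf (Fc.ed (nat_lit 565) (nat_lit 229) Col.c (nat_lit 354) Dv.df)) (Tr.lf (Fc.ed (nat_lit 566) (nat_lit 346) Col.d (nat_lit 355) Dv.df))) (Tr.nd (nat_lit 568) (Tr.lf (Fc.ed (nat_lit 567) (nat_lit 248) Col.b (nat_lit 356) Dv.df)) (Tr.nd (nat_lit 569) (Tr.lf (Fc.ed (nat_lit 568) (nat_lit 215) Col.d (nat_lit 357) Dv.df)) (Tr.lf (Fc.ed (nat_lit 569) (nat_lit 357) Col.c (nat_lit 355) (Dv.wd (nat_lit 11) [Mv.b (nat_lit 566), Mv.b (nat_lit 551), Mv.f (nat_lit 66), Mv.b (nat_lit 30), Mv.b (nat_lit 70), Mv.b (nat_lit 69), Mv.b (nat_lit 339), Mv.f (nat_lit 568)])))))) (Tr.nd (nat_lit 573) (Tr.nd (nat_lit 571) (Tr.lf (Fc.ed (nat_lit 570) (nat_lit 145) Col.c (nat_lit 358) Dv.df)) (Tr.nd (nat_lit 572) (Tr.lf (Fc.ed (nat_lit 571) (nat_lit 253) Col.b (nat_lit 359) Dv.df)) (Tr.lf (Fc.ed (nat_lit 572) (nat_lit 359) Col.d (nat_lit 356) (Dv.wd (nat_lit 3) [Mv.b (nat_lit 567), Mv.b (nat_lit 402), Mv.f (nat_lit 571)]))))) (Tr.nd (nat_lit 574) (Tr.lf (Fc.ed (nat_lit 573) (nat_lit 216) Col.d (nat_lit 360) Dv.df)) (Tr.nd (nat_lit 575) (Tr.lf (Fc.ed (nat_lit 574) (nat_lit 360) Col.b (nat_lit 357) (Dv.wd (nat_lit 5) [Mv.b (nat_lit 568), Mv.f (nat_lit 340), Mv.f (nat_lit 573)]))) (Tr.lf (Fc.ed (nat_lit 575) (nat_lit 358) Col.d (nat_lit 361) Dv.df)))))) (Tr.nd (nat_lit 582) (Tr.nd (nat_lit 579) (Tr.nd (nat_lit 577) (Tr.lf (Fc.ed (nat_lit 576) (nat_lit 361) Col.c (nat_lit 362) Dv.df)) (Tr.nd (nat_lit 578) (Tr.lf (Fc.ed (nat_lit 577) (nat_lit 362) Col.d (nat_lit 239) (Dv.wd (nat_lit 13) [Mv.f (nat_lit 377), Mv.f (nat_lit 175), Mv.b (nat_lit 200), Mv.f (nat_lit 215), Mv.f (nat_lit 223), Mv.f (nat_lit 570), Mv.f (nat_lit 575), Mv.f (nat_lit 576)]))) (Tr.lf (Fc.ed (nat_lit 578) (nat_lit 354) Col.a (nat_lit 363) Dv.df)))) (Tr.nd (nat_lit 580) (Tr.lf (Fc.ed (nat_lit 579) (nat_lit 363) Col.c (nat_lit 210) (Dv.wd (nat_lit 2) [Mv.f (nat_lit 361), Mv.f (nat_lit 565), Mv.f (nat_lit 578)]))) (Tr.nd (nat_lit 581) (Tr.lf (Fc.ed (nat_lit 580) (nat_lit 362) Col.a (nat_lit 364) Dv.df)) (Tr.lf (Fc.ed (nat_lit 581) (nat_lit 364) Col.d (nat_lit 230) (Dv.wd (nat_lit 6) [Mv.f (nat_lit 376), Mv.b (nat_lit 577), Mv.f (nat_lit 580)])))))) (Tr.nd (nat_lit 585) (Tr.nd (nat_lit 583) (Tr.lf (Fc.ed (nat_lit 582) (nat_lit 345) Col.b (nat_lit 364) (Dv.wd (nat_lit 15) [Mv.f (nat_lit 581), Mv.f (nat_lit 427), Mv.f (nat_lit 550)]))) (Tr.nd (nat_lit 584) (Tr.lf (Fc.ed (nat_lit 583) (nat_lit 246) Col.d (nat_lit 365) Dv.df)) (Tr.lf (Fc.ed (nat_lit 584) (nat_lit 317) Col.c (nat_lit 366) Dv.df)))) (Tr.nd (nat_lit 586) (Tr.lf (Fc.ed (nat_lit 585) (nat_lit 366) Col.b (nat_lit 363) (Dv.wd (nat_lit 7) [Mv.f (nat_lit 579), Mv.b (nat_lit 331), Mv.b (nat_lit 353), Mv.f (nat_lit 501), Mv.f (nat_lit 584)]))) (Tr.nd (nat_lit 587) (Tr.lf (Fc.ed (nat_lit 586) (nat_lit 259) Col.b (nat_lit 367) Dv.df)) (Tr.lf (Fc.ed (nat_lit 587) (nat_lit 367) Col.d (nat_lit 272) (Dv.wd (nat_lit 3) [Mv.f (nat_lit 432), Mv.b (nat_lit 415), Mv.f (nat_lit 586)])))))))) (Tr.nd (nat_lit 600) (Tr.nd (nat_lit 594) (Tr.nd (nat_lit 591) (Tr.nd (nat_lit 589) (Tr.lf (Fc.ed (nat_lit 588) (nat_lit 364) Col.c (nat_lit 368) Dv.df)) (Tr.nd (nat_lit 590) (Tr.lf (Fc.ed (nat_lit 589) (nat_lit 367) Col.c (nat_lit 369) Dv.df)) (Tr.lf (Fc.ed (nat_lit 590) (nat_lit 213) Col.d (nat_lit 370) Dv.df)))) (Tr.nd (nat_lit 592) (Tr.lf (Fc.ed (nat_lit 591) (nat_lit 370) Col.a (nat_lit 353) (Dv.wd (nat_lit 1) [Mv.f (nat_lit 564), Mv.f (nat_lit 336), Mv.f (nat_lit 590)]))) (Tr.nd (nat_lit 593) (Tr.lf (Fc.ed (nat_lit 592) (nat_lit 321) Col.c (nat_lit 371) Dv.df)) (Tr.lf (Fc.ed (nat_lit 593) (nat_lit 236) Col.a (nat_lit 372) Dv.df))))) (Tr.nd (nat_lit 597) (Tr.nd (nat_lit 595) (Tr.lf (Fc.ed (nat_lit 594) (nat_lit 235) Col.c (nat_lit 373) Dv.df)) (Tr.nd (nat_lit 596) (Tr.lf (Fc.ed (nat_lit 595) (nat_lit 311) Col.b (nat_lit 374) Dv.df)) (Tr.lf (Fc.ed (nat_lit 596) (nat_lit 374) Col.c (nat_lit 356) (Dv.wd (nat_lit 8) [Mv.b (nat_lit 567), Mv.f (nat_lit 393), Mv.f (nat_lit 314), Mv.f (nat_lit 492), Mv.f (nat_lit 595)]))))) (Tr.nd (nat_lit 598) (Tr.lf (Fc.ed (nat_lit 597) (nat_lit 369) Col.b (nat_lit 375) Dv.df)) (Tr.nd (nat_lit 599) (Tr.lf (Fc.ed (nat_lit 598) (nat_lit 375) Col.c (nat_lit 247) (Dv.wd (nat_lit 8) [Mv.f (nat_lit 397), Mv.b (nat_lit 412), Mv.f (nat_lit 586), Mv.f (nat_lit 589), Mv.f (nat_lit 597)]))) (Tr.lf (Fc.ed (nat_lit 599) (nat_lit 288) Col.d (nat_lit 376) Dv.df)))))) (Tr.nd (nat_lit 606) (Tr.nd (nat_lit 603) (Tr.nd (nat_lit 601) (Tr.lf (Fc.ed (nat_lit 600) (nat_lit 376) Col.b (nat_lit 362) (Dv.wd (nat_lit 5) [Mv.f (nat_lit 577), Mv.f (nat_lit 457), Mv.f (nat_lit 599)]))) (Tr.nd (nat_lit 602) (Tr.lf (Fc.ed (nat_lit 601) (nat_lit 209) Col.c (nat_lit 377) Dv.df)) (Tr.lf (Fc.ed (nat_lit 602) (nat_lit 371) Col.b (nat_lit 378) Dv.df)))) (Tr.nd (nat_lit 604) (Tr.lf (Fc.ed (nat_lit 603) (nat_lit 378) Col.c (nat_lit 250) (Dv.wd (nat_lit 8) [Mv.f (nat_lit 396), Mv.f (nat_lit 399), Mv.b (nat_lit 508), Mv.f (nat_lit 592), Mv.f (nat_lit 602)]))) (Tr.nd (nat_lit 605) (Tr.lf (Fc.ed (nat_lit 604) (nat_lit 353) Col.c (nat_lit 379) Dv.df)) (Tr.lf (Fc.ed (nat_lit 605) (nat_lit 373) Col.a (nat_lit 380) Dv.df))))) (Tr.nd (nat_lit 609) (Tr.nd (nat_lit 607) (Tr.lf (Fc.ed (nat_lit 606) (nat_lit 326) Col.d (nat_lit 381) Dv.df)) (Tr.nd (nat_lit 608) (Tr.lf (Fc.ed (nat_lit 607) (nat_lit 381) Col.b (nat_lit 309) (Dv.wd (nat_lit 5) [Mv.b (nat_lit 489), Mv.f (nat_lit 515), Mv.f (nat_lit 606)]))) (Tr.lf (Fc.ed (nat_lit 608) (nat_lit 279) Col.d (nat_lit 382) Dv.df)))) (Tr.nd (nat_lit 610) (Tr.lf (Fc.ed (nat_lit 609) (nat_lit 382) Col.a (nat_lit 365) (Dv.wd (nat_lit 1) [Mv.b (nat_lit 583), Mv.f (nat_lit 442), Mv.f (nat_lit 608)]))) (Tr.nd (nat_lit 611) (Tr.lf (Fc.ed (nat_lit 610) (nat_lit 370) Col.c (nat_lit 383) Dv.df)) (Tr.lf (Fc.ed (nat_lit 611) (nat_lit 383) Col.a (nat_lit 379) (Dv.wd (nat_lit 4) [Mv.b (nat_lit 604), Mv.b (nat_lit 591), Mv.f (nat_lit 610)]))))))))) (Tr.nd (nat_lit 635) (Tr.nd (nat_lit 623) (Tr.nd (nat_lit 617) (Tr.nd (nat_lit 614) (Tr.nd (nat_lit 613) (Tr.lf (Fc.ed (nat_lit 612) (nat_lit 383) Col.d (nat_lit 384) Dv.df)) (Tr.lf (Fc.ed (nat_lit 613) (nat_lit 384) Col.c (nat_lit 260) (Dv.wd (nat_lit 11) [Mv.f (nat_lit 414), Mv.f (nat_lit 284), Mv.b (nat_lit 258), Mv.f (nat_lit 270), Mv.b (nat_lit 564), Mv.b (nat_lit 591), Mv.f (nat_lit 610), Mv.f (nat_lit 612)])))) (Tr.nd (nat_lit 615) (Tr.lf (Fc.ed (nat_lit 614) (nat_lit 359) Col.c (nat_lit 385) Dv.df)) (Tr.nd (nat_lit 616) (Tr.lf (Fc.ed (nat_lit 615) (nat_lit 385) Col.b (nat_lit 384) (Dv.wd (nat_lit 7) [Mv.f (nat_lit 613), Mv.b (nat_lit 413), Mv.b (nat_lit 403), Mv.f (nat_lit 571), Mv.f (nat_lit 614)]))) (Tr.lf (Fc.ed (nat_lit 616) (nat_lit 269) Col.a (nat_lit 386) Dv.df))))) (Tr.nd (nat_lit 620) (Tr.nd (nat_lit 618) (Tr.lf (Fc.ed (nat_lit 617) (nat_lit 277) Col.b (nat_lit 387) Dv.df)) (Tr.nd (nat_lit 619) (Tr.lf (Fc.ed (nat_lit 618) (nat_lit 387) Col.d (nat_lit 305) (Dv.wd (nat_lit 3) [Mv.b (nat_lit 484), Mv.b (nat_lit 440), Mv.f (nat_lit 617)]))) (Tr.lf (Fc.ed (nat_lit 619) (nat_lit 273) Col.d (nat_lit 388) Dv.df)))) (Tr.nd (nat_lit 621) (Tr.lf (Fc.ed (nat_lit 620) (nat_lit 271) Col.a (nat_lit 389) Dv.df)) (Tr.nd (nat_lit 622) (Tr.lf (Fc.ed (nat_lit 621) (nat_lit 389) Col.c (nat_lit 386) (Dv.wd (nat_lit 2) [Mv.b (nat_lit 616), Mv.b (nat_lit 430), Mv.f (nat_lit 620)]))) (Tr.lf (Fc.ed (nat_lit 622) (nat_lit 382) Col.c (nat_lit 390) Dv.df)))))) (Tr.nd (nat_lit 629) (Tr.nd (nat_lit 626) (Tr.nd (nat_lit 624) (Tr.lf (Fc.ed (nat_lit 623) (nat_lit 390) Col.d (nat_lit 391) Dv.df)) (Tr.nd (nat_lit 625) (Tr.lf (Fc.ed (nat_lit 624) (nat_lit 391) Col.c (nat_lit 360) (Dv.wd (nat_lit 11) [Mv.b (nat_lit 573), Mv.f (nat_lit 341), Mv.f (nat_lit 306), Mv.f (nat_lit 390), Mv.f (nat_lit 583), Mv.b (nat_lit 609), Mv.f (nat_lit 622), Mv.f (nat_lit 623)]))) (Tr.lf (Fc.ed (nat_lit 625) (nat_lit 204) Col.a (nat_lit 392) Dv.df)))) (Tr.nd (nat_lit 627) (Tr.lf (Fc.ed (nat_lit 626) (nat_lit 386) Col.d (nat_lit 393) Dv.df)) (Tr.nd (nat_lit 628) (Tr.lf (Fc.ed (nat_lit 627) (nat_lit 393) Col.a (nat_lit 345) (Dv.wd (nat_lit 1) [Mv.b (nat_lit 550), Mv.f (nat_lit 616), Mv.f (nat_lit 626)]))) (Tr.lf (Fc.ed (nat_lit 628) (nat_lit 234) Col.a (nat_lit 394) Dv.df))))) (Tr.nd (nat_lit 632) (Tr.nd (nat_lit 630) (Tr.lf (Fc.ed (nat_lit 629) (nat_lit 394) Col.d (nat_lit 372) (Dv.wd (nat_lit 6) [Mv.b (nat_lit 593), Mv.f (nat_lit 372), Mv.f (nat_lit 628)]))) (Tr.nd (nat_lit 631) (Tr.lf (Fc.ed (nat_lit 630) (nat_lit 282) Col.a (nat_lit 395) Dv.df)) (Tr.lf (Fc.ed (nat_lit 631) (nat_lit 283) Col.b (nat_lit 396) Dv.df)))) (Tr.nd (nat_lit 633) (Tr.lf (Fc.ed (nat_lit 632) (nat_lit 396) Col.d (nat_lit 306) (Dv.wd (nat_lit 3) [Mv.b (nat_lit 485), Mv.f (nat_lit 451), Mv.f (nat_lit 631)]))) (Tr.nd (nat_lit 634) (Tr.lf (Fc.ed (nat_lit 633) (nat_lit 205) Col.a (nat_lit 397) Dv.df)) (Tr.lf (Fc.ed (nat_lit 634) (nat_lit 397) Col.d (nat_lit 392) (Dv.wd (nat_lit 6) [Mv.b (nat_lit 625), Mv.f (nat_lit 323), Mv.f (nat_lit 633)])))))))) (Tr.nd (nat_lit 647) (Tr.nd (nat_lit 641) (Tr.nd (nat_lit 638) (Tr.nd (nat_lit 636) (Tr.lf (Fc.ed (nat_lit 635) (nat_lit 257) Col.d (nat_lit 398) Dv.df)) (Tr.nd (nat_lit 637) (Tr.lf (Fc.ed (nat_lit 636) (nat_lit 398) Col.b (nat_lit 388) (Dv.wd (nat_lit 5) [Mv.b (nat_lit 619), Mv.b (nat_lit 433), Mv.f (nat_lit 635)]))) (Tr.lf (Fc.ed (nat_lit 637) (nat_lit 397) Col.c (nat_lit 399) Dv.df)))) (Tr.nd (nat_lit 639) (Tr.lf (Fc.ed (nat_lit 638) (nat_lit 83) Col.c (nat_lit 400) Dv.df)) (Tr.nd (nat_lit 640) (Tr.lf (Fc.ed (nat_lit 639) (nat_lit 398) Col.c (nat_lit 401) Dv.df)) (Tr.lf (Fc.ed (nat_lit 640) (nat_lit 401) Col.d (nat_lit 400) (Dv.wd (nat_lit 13) [Mv.b (nat_lit 638), Mv.b (nat_lit 123), Mv.b (nat_lit 35), Mv.f (nat_lit 50), Mv.f (nat_lit 51), Mv.f (nat_lit 409), Mv.f (nat_lit 635), Mv.f (nat_lit 639)])))))) (Tr.nd (nat_lit 644) (Tr.nd (nat_lit 642) (Tr.lf (Fc.ed (nat_lit 641) (nat_lit 285) Col.d (nat_lit 402) Dv.df)) (Tr.nd (nat_lit 643) (Tr.lf (Fc.ed (nat_lit 642) (nat_lit 402) Col.a (nat_lit 398) (Dv.wd (nat_lit 1) [Mv.b (nat_lit 635), Mv.b (nat_lit 453), Mv.f (nat_lit 641)]))) (Tr.lf (Fc.ed (nat_lit 643) (nat_lit 286) Col.b (nat_lit 403) Dv.df)))) (Tr.nd (nat_lit 645) (Tr.lf (Fc.ed (nat_lit 644) (nat_lit 402) Col.c (nat_lit 404) Dv.df)) (Tr.nd (nat_lit 646) (Tr.lf (Fc.ed (nat_lit 645) (nat_lit 404) Col.d (nat_lit 405) Dv.df)) (Tr.lf (Fc.ed (nat_lit 646) (nat_lit 405) Col.c (nat_lit 86) (Dv.wd (nat_lit 11) [Mv.b (nat_lit 128), Mv.f (nat_lit 20), Mv.f (nat_lit 46), Mv.f (nat_lit 409), Mv.f (nat_lit 635), Mv.b (nat_lit 642), Mv.f (nat_lit 644), Mv.f (nat_lit 645)]))))))) (Tr.nd (nat_lit 653) (Tr.nd (nat_lit 650) (Tr.nd (nat_lit 648) (Tr.lf (Fc.ed (nat_lit 647) (nat_lit 238) Col.a (nat_lit 406) Dv.df)) (Tr.nd (nat_lit 649) (Tr.lf (Fc.ed (nat_lit 648) (nat_lit 403) Col.c (nat_lit 407) Dv.df)) (Tr.lf (Fc.ed (nat_lit 649) (nat_lit 263) Col.b (nat_lit 408) Dv.df)))) (Tr.nd (nat_lit 651) (Tr.lf (Fc.ed (nat_lit 650) (nat_lit 408) Col.d (nat_lit 409) Dv.df)) (Tr.nd (nat_lit 652) (Tr.lf (Fc.ed (nat_lit 651) (nat_lit 409) Col.b (nat_lit 264) (Dv.wd (nat_lit 5) [Mv.f (nat_lit 420), Mv.f (nat_lit 649), Mv.f (nat_lit 650)]))) (Tr.lf (Fc.ed (nat_lit 652) (nat_lit 209) Col.a (nat_lit 410) Dv.df))))) (Tr.nd (nat_lit 656) (Tr.nd (nat_lit 654) (Tr.lf (Fc.ed (nat_lit 653) (nat_lit 322) Col.c (nat_lit 411) Dv.df)) (Tr.nd (nat_lit 655) (Tr.lf (Fc.ed (nat_lit 654) (nat_lit 402) Col.b (nat_lit 412) Dv.df)) (Tr.lf (Fc.ed (nat_lit 655) (nat_lit 412) Col.d (nat_lit 301) (Dv.wd (nat_lit 3) [Mv.b (nat_lit 479), Mv.f (nat_lit 641), Mv.f (nat_lit 654)]))))) (Tr.nd (nat_lit 657) (Tr.lf (Fc.ed (nat_lit 656) (nat_lit 411) Col.d (nat_lit 413) Dv.df)) (Tr.nd (nat_lit 658) (Tr.lf (Fc.ed (nat_lit 657) (nat_lit 297) Col.d (nat_lit 414) Dv.df)) (Tr.lf (Fc.ed (nat_lit 658) (nat_lit 414) Col.b (nat_lit 307) (Dv.wd (nat_lit 5) [Mv.b (nat_lit 486), Mv.b (nat_lit 477), Mv.f (nat_lit 657)])))))))))) (Tr.nd (nat_lit 706) (Tr.nd (nat_lit 682) (Tr.nd (nat_lit 670) (Tr.nd (nat_lit 664) (Tr.nd (nat_lit 661) (Tr.nd (nat_lit 660) (Tr.lf (Fc.ed (nat_lit 659) (nat_lit 410) Col.b (nat_lit 415) Dv.df)) (Tr.lf (Fc.ed (nat_lit 660) (nat_lit 415) Col.a (nat_lit 409) (Dv.wd (nat_lit 12) [Mv.f (nat_lit 651), Mv.b (nat_lit 419), Mv.b (nat_lit 305), Mv.b (nat_lit 193), Mv.f (nat_lit 213), Mv.f (nat_lit 233), Mv.f (nat_lit 330), Mv.f (nat_lit 652), Mv.f (nat_lit 659)])))) (Tr.nd (nat_lit 662) (Tr.lf (Fc.ed (nat_lit 661) (nat_lit 375) Col.d (nat_lit 416) Dv.df)) (Tr.nd (nat_lit 663) (Tr.lf (Fc.ed (nat_lit 662) (nat_lit 416) Col.c (nat_lit 413) (Dv.wd (nat_lit 11) [Mv.b (nat_lit 656), Mv.b (nat_lit 653), Mv.b (nat_lit 511), Mv.b (nat_lit 521), Mv.b (nat_lit 530), Mv.b (nat_lit 529), Mv.b (nat_lit 598), Mv.f (nat_lit 661)]))) (Tr.lf (Fc.ed (nat_lit 663) (nat_lit 407) Col.b (nat_lit 417) Dv.df))))) (Tr.nd (nat_lit 667) (Tr.nd (nat_lit 665) (Tr.lf (Fc.ed (nat_lit 664) (nat_lit 417) Col.c (nat_lit 244) (Dv.wd (nat_lit 8) [Mv.f (nat_lit 388), Mv.f (nat_lit 454), Mv.f (nat_lit 643), Mv.f (nat_lit 648), Mv.f (nat_lit 663)]))) (Tr.nd (nat_lit 666) (Tr.lf (Fc.ed (nat_lit 665) (nat_lit 363) Col.d (nat_lit 418) Dv.df)) (Tr.lf (Fc.ed (nat_lit 666) (nat_lit 389) Col.d (nat_lit 419) Dv.df)))) (Tr.nd (nat_lit 668) (Tr.lf (Fc.ed (nat_lit 667) (nat_lit 419) Col.a (nat_lit 291) (Dv.wd (nat_lit 1) [Mv.f (nat_lit 463), Mv.f (nat_lit 620), Mv.f (nat_lit 666)]))) (Tr.nd (nat_lit 669) (Tr.lf (Fc.ed (nat_lit 668) (nat_lit 273) Col.a (nat_lit 420) Dv.df)) (Tr.lf (Fc.ed (nat_lit 669) (nat_lit 420) Col.c (nat_lit 395) (Dv.wd (nat_lit 2) [Mv.b (nat_lit 630), Mv.b (nat_lit 447), Mv.f (nat_lit 668)]))))))) (Tr.nd (nat_lit 676) (Tr.nd (nat_lit 673) (Tr.nd (nat_lit 671) (Tr.lf (Fc.ed (nat_lit 670) (nat_lit 333) Col.b (nat_lit 421) Dv.df)) (Tr.nd (nat_lit 672) (Tr.lf (Fc.ed (nat_lit 671) (nat_lit 420) Col.d (nat_lit 422) Dv.df)) (Tr.lf (Fc.ed (nat_lit 672) (nat_lit 422) Col.a (nat_lit 388) (Dv.wd (nat_lit 1) [Mv.b (nat_lit 619), Mv.f (nat_lit 668), Mv.f (nat_lit 671)]))))) (Tr.nd (nat_lit 674) (Tr.lf (Fc.ed (nat_lit 673) (nat_lit 417) Col.d (nat_lit 423) Dv.df)) (Tr.nd (nat_lit 675) (Tr.lf (Fc.ed (nat_lit 674) (nat_lit 423) Col.c (nat_lit 418) (Dv.wd (nat_lit 11) [Mv.b (nat_lit 665), Mv.f (nat_lit 579), Mv.b (nat_lit 333), Mv.f (nat_lit 343), Mv.b (nat_lit 382), Mv.f (nat_lit 387), Mv.b (nat_lit 664), Mv.f (nat_lit 673)]))) (Tr.lf (Fc.ed (nat_lit 675) (nat_lit 371) Col.d (nat_lit 424) Dv.df))))) (Tr.nd (nat_lit 679) (Tr.nd (nat_lit 677) (Tr.lf (Fc.ed (nat_lit 676) (nat_lit 295) Col.b (nat_lit 425) Dv.df)) (Tr.nd (nat_lit 678) (Tr.lf (Fc.ed (nat_lit 677) (nat_lit 425) Col.c (nat_lit 421) (Dv.wd (nat_lit 8) [Mv.b (nat_lit 670), Mv.f (nat_lit 528), Mv.f (nat_lit 368), Mv.f (nat_lit 469), Mv.f (nat_lit 676)]))) (Tr.lf (Fc.ed (nat_lit 678) (nat_lit 344) Col.c (nat_lit 426) Dv.df)))) (Tr.nd (nat_lit 680) (Tr.lf (Fc.ed (nat_lit 679) (nat_lit 276) Col.c (nat_lit 427) Dv.df)) (Tr.nd (nat_lit 681) (Tr.lf (Fc.ed (nat_lit 680) (nat_lit 427) Col.a (nat_lit 426) (Dv.wd (nat_lit 4) [Mv.b (nat_lit 678), Mv.f (nat_lit 549), Mv.f (nat_lit 679)]))) (Tr.lf (Fc.ed (nat_lit 681) (nat_lit 399) Col.d (nat_lit 428) Dv.df))))))) (Tr.nd (nat_lit 694) (Tr.nd (nat_lit 688) (Tr.nd (nat_lit 685) (Tr.nd (nat_lit 683) (Tr.lf (Fc.ed (nat_lit 682) (nat_lit 428) Col.c (nat_lit 424) (Dv.wd (nat_lit 11) [Mv.b (nat_lit 675), Mv.b (nat_lit 592), Mv.b (nat_lit 507), Mv.b (nat_lit 373), Mv.f (nat_lit 323), Mv.f (nat_lit 633), Mv.f (nat_lit 637), Mv.f (nat_lit 681)]))) (Tr.nd (nat_lit 684) (Tr.lf (Fc.ed (nat_lit 683) (nat_lit 299) Col.c (nat_lit 429) Dv.df)) (Tr.lf (Fc.ed (nat_lit 684) (nat_lit 426) Col.d (nat_lit 430) Dv.df)))) (Tr.nd (nat_lit 686) (Tr.lf (Fc.ed (nat_lit 685) (nat_lit 430) Col.c (nat_lit 431) Dv.df)) (Tr.nd (nat_lit 687) (Tr.lf (Fc.ed (nat_lit 686) (nat_lit 431) Col.d (nat_lit 378) (Dv.wd (nat_lit 13) [Mv.f (nat_lit 603), Mv.b (nat_lit 395), Mv.b (nat_lit 355), Mv.b (nat_lit 438), Mv.b (nat_lit 549), Mv.f (nat_lit 678), Mv.f (nat_lit 684), Mv.f (nat_lit 685)]))) (Tr.lf (Fc.ed (nat_lit 687) (nat_lit 424) Col.b (nat_lit 431) (Dv.wd (nat_lit 15) [Mv.f (nat_lit 686), Mv.b (nat_lit 602), Mv.f (nat_lit 675)])))))) (Tr.nd (nat_lit 691) (Tr.nd (nat_lit 689) (Tr.lf (Fc.ed (nat_lit 688) (nat_lit 214) Col.c (nat_lit 432) Dv.df)) (Tr.nd (nat_lit 690) (Tr.lf (Fc.ed (nat_lit 689) (nat_lit 278) Col.b (nat_lit 433) Dv.df)) (Tr.lf (Fc.ed (nat_lit 690) (nat_lit 433) Col.d (nat_lit 318) (Dv.wd (nat_lit 3) [Mv.b (nat_lit 502), Mv.b (nat_lit 444), Mv.f (nat_lit 689)]))))) (Tr.nd (nat_lit 692) (Tr.lf (Fc.ed (nat_lit 691) (nat_lit 410) Col.c (nat_lit 434) Dv.df)) (Tr.nd (nat_lit 693) (Tr.lf (Fc.ed (nat_lit 692) (nat_lit 434) Col.a (nat_lit 377) (Dv.wd (nat_lit 4) [Mv.b (nat_lit 601), Mv.f (nat_lit 652), Mv.f (nat_lit 691)]))) (Tr.lf (Fc.ed (nat_lit 693) (nat_lit 352) Col.c (nat_lit 435) Dv.df)))))) (Tr.nd (nat_lit 700) (Tr.nd (nat_lit 697) (Tr.nd (nat_lit 695) (Tr.lf (Fc.ed (nat_lit 694) (nat_lit 435) Col.a (nat_lit 378) (Dv.wd (nat_lit 4) [Mv.f (nat_lit 603), Mv.b (nat_lit 562), Mv.f (nat_lit 693)]))) (Tr.nd (nat_lit 696) (Tr.lf (Fc.ed (nat_lit 695) (nat_lit 400) Col.b (nat_lit 436) Dv.df)) (Tr.lf (Fc.ed (nat_lit 696) (nat_lit 394) Col.c (nat_lit 437) Dv.df)))) (Tr.nd (nat_lit 698) (Tr.lf (Fc.ed (nat_lit 697) (nat_lit 437) Col.a (nat_lit 341) (Dv.wd (nat_lit 4) [Mv.b (nat_lit 543), Mv.f (nat_lit 628), Mv.f (nat_lit 696)]))) (Tr.nd (nat_lit 699) (Tr.lf (Fc.ed (nat_lit 698) (nat_lit 372) Col.c (nat_lit 438) Dv.df)) (Tr.lf (Fc.ed (nat_lit 699) (nat_lit 430) Col.a (nat_lit 439) Dv.df))))) (Tr.nd (nat_lit 703) (Tr.nd (nat_lit 701) (Tr.lf (Fc.ed (nat_lit 700) (nat_lit 439) Col.d (nat_lit 427) (Dv.wd (nat_lit 6) [Mv.f (nat_lit 680), Mv.f (nat_lit 684), Mv.f (nat_lit 699)]))) (Tr.nd (nat_lit 702) (Tr.lf (Fc.ed (nat_lit 701) (nat_lit 387) Col.c (nat_lit 440) Dv.df)) (Tr.lf (Fc.ed (nat_lit 702) (nat_lit 440) Col.b (nat_lit 427) (Dv.wd (nat_lit 7) [Mv.b (nat_lit 679), Mv.b (nat_lit 437), Mv.f (nat_lit 439), Mv.f (nat_lit 617), Mv.f (nat_lit 701)]))))) (Tr.nd (nat_lit 704) (Tr.lf (Fc.ed (nat_lit 703) (nat_lit 287) Col.a (nat_lit 441) Dv.df)) (Tr.nd (nat_lit 705) (Tr.lf (Fc.ed (nat_lit 704) (nat_lit 313) Col.b (nat_lit 442) Dv.df)) (Tr.lf (Fc.ed (nat_lit 705) (nat_lit 442) Col.d (nat_lit 403) (Dv.wd (nat_lit 3) [Mv.b (nat_lit 643), Mv.f (nat_lit 494), Mv.f (nat_lit 704)]))))))))) (Tr.nd (nat_lit 730) (Tr.nd (nat_lit 718) (Tr.nd (nat_lit 712) (Tr.nd (nat_lit 709) (Tr.nd (nat_lit 707) (Tr.lf (Fc.ed (nat_lit 706) (nat_lit 374) Col.d (nat_lit 443) Dv.df)) (Tr.nd (nat_lit 708) (Tr.lf (Fc.ed (nat_lit 707) (nat_lit 443) Col.b (nat_lit 314) (Dv.wd (nat_lit 5) [Mv.f (nat_lit 496), Mv.f (nat_lit 595), Mv.f (nat_lit 706)]))) (Tr.lf (Fc.ed (nat_lit 708) (nat_lit 431) Col.a (nat_lit 444) Dv.df)))) (Tr.nd (nat_lit 710) (Tr.lf (Fc.ed (nat_lit 709) (nat_lit 444) Col.c (nat_lit 439) (Dv.wd (nat_lit 2) [Mv.b (nat_lit 699), Mv.f (nat_lit 685), Mv.f (nat_lit 708)]))) (Tr.nd (nat_lit 711) (Tr.lf (Fc.ed (nat_lit 710) (nat_lit 444) Col.d (nat_lit 435) (Dv.wd (nat_lit 6) [Mv.f (nat_lit 694), Mv.b (nat_lit 686), Mv.f (nat_lit 708)]))) (Tr.lf (Fc.ed (nat_lit 711) (nat_lit 352) Col.b (nat_lit 445) Dv.df))))) (Tr.nd (nat_lit 715) (Tr.nd (nat_lit 713) (Tr.lf (Fc.ed (nat_lit 712) (nat_lit 296) Col.b (nat_lit 446) Dv.df)) (Tr.nd (nat_lit 714) (Tr.lf (Fc.ed (nat_lit 713) (nat_lit 446) Col.d (nat_lit 425) (Dv.wd (nat_lit 3) [Mv.b (nat_lit 676), Mv.f (nat_lit 470), Mv.f (nat_lit 712)]))) (Tr.lf (Fc.ed (nat_lit 714) (nat_lit 432) Col.a (nat_lit 447) Dv.df)))) (Tr.nd (nat_lit 716) (Tr.lf (Fc.ed (nat_lit 715) (nat_lit 447) Col.c (nat_lit 290) (Dv.wd (nat_lit 2) [Mv.b (nat_lit 461), Mv.f (nat_lit 688), Mv.f (nat_lit 714)]))) (Tr.nd (nat_lit 717) (Tr.lf (Fc.ed (nat_lit 716) (nat_lit 436) Col.c (nat_lit 448) Dv.df)) (Tr.lf (Fc.ed (nat_lit 717) (nat_lit 448) Col.b (nat_lit 186) (Dv.wd (nat_lit 7) [Mv.b (nat_lit 292), Mv.f (nat_lit 127), Mv.f (nat_lit 638), Mv.f (nat_lit 695), Mv.f (nat_lit 716)]))))))) (Tr.nd (nat_lit 724) (Tr.nd (nat_lit 721) (Tr.nd (nat_lit 719) (Tr.lf (Fc.ed (nat_lit 718) (nat_lit 319) Col.c (nat_lit 449) Dv.df)) (Tr.nd (nat_lit 720) (Tr.lf (Fc.ed (nat_lit 719) (nat_lit 287) Col.c (nat_lit 450) Dv.df)) (Tr.lf (Fc.ed (nat_lit 720) (nat_lit 450) Col.b (nat_lit 451) Dv.df)))) (Tr.nd (nat_lit 722) (Tr.lf (Fc.ed (nat_lit 721) (nat_lit 451) Col.c (nat_lit 316) (Dv.wd (nat_lit 8) [Mv.f (nat_lit 500), Mv.b (nat_lit 364), Mv.f (nat_lit 455), Mv.f (nat_lit 719), Mv.f (nat_lit 720)]))) (Tr.nd (nat_lit 723) (Tr.lf (Fc.ed (nat_lit 722) (nat_lit 396) Col.c (nat_lit 452) Dv.df)) (Tr.lf (Fc.ed (nat_lit 723) (nat_lit 452) Col.b (nat_lit 449) (Dv.wd (nat_lit 7) [Mv.b (nat_lit 718), Mv.f (nat_lit 505), Mv.f (nat_lit 449), Mv.f (nat_lit 631), Mv.f (nat_lit 722)])))))) (Tr.nd (nat_lit 727) (Tr.nd (nat_lit 725) (Tr.lf (Fc.ed (nat_lit 724) (nat_lit 448) Col.d (nat_lit 453) Dv.df)) (Tr.nd (nat_lit 726) (Tr.lf (Fc.ed (nat_lit 725) (nat_lit 453) Col.b (nat_lit 188) (Dv.wd (nat_lit 5) [Mv.f (nat_lit 297), Mv.b (nat_lit 717), Mv.f (nat_lit 724)]))) (Tr.lf (Fc.ed (nat_lit 726) (nat_lit 316) Col.a (nat_lit 454) Dv.df)))) (Tr.nd (nat_lit 728) (Tr.lf (Fc.ed (nat_lit 727) (nat_lit 279) Col.b (nat_lit 455) Dv.df)) (Tr.nd (nat_lit 729) (Tr.lf (Fc.ed (nat_lit 728) (nat_lit 256) Col.c (nat_lit 456) Dv.df)) (Tr.lf (Fc.ed (nat_lit 729) (nat_lit 292) Col.a (nat_lit 457) Dv.df))))))) (Tr.nd (nat_lit 742) (Tr.nd (nat_lit 736) (Tr.nd (nat_lit 733) (Tr.nd (nat_lit 731) (Tr.lf (Fc.ed (nat_lit 730) (nat_lit 450) Col.a (nat_lit 458) Dv.df)) (Tr.nd (nat_lit 732) (Tr.lf (Fc.ed (nat_lit 731) (nat_lit 458) Col.c (nat_lit 441) (Dv.wd (nat_lit 2) [Mv.b (nat_lit 703), Mv.f (nat_lit 719), Mv.f (nat_lit 730)]))) (Tr.lf (Fc.ed (nat_lit 732) (nat_lit 301) Col.a (nat_lit 459) Dv.df)))) (Tr.nd (nat_lit 734) (Tr.lf (Fc.ed (nat_lit 733) (nat_lit 303) Col.a (nat_lit 460) Dv.df)) (Tr.nd (nat_lit 735) (Tr.lf (Fc.ed (nat_lit 734) (nat_lit 460) Col.c (nat_lit 459) (Dv.wd (nat_lit 2) [Mv.b (nat_lit 732), Mv.f (nat_lit 481), Mv.f (nat_lit 733)]))) (Tr.lf (Fc.ed (nat_lit 735) (nat_lit 106) Col.b (nat_lit 461) Dv.df))))) (Tr.nd (nat_lit 739) (Tr.nd (nat_lit 737) (Tr.lf (Fc.ed (nat_lit 736) (nat_lit 461) Col.c (nat_lit 462) Dv.df)) (Tr.nd (nat_lit 738) (Tr.lf (Fc.ed (nat_lit 737) (nat_lit 462) Col.b (nat_lit 405) (Dv.wd (nat_lit 7) [Mv.f (nat_lit 646), Mv.f (nat_lit 130), Mv.b (nat_lit 161), Mv.f (nat_lit 735), Mv.f (nat_lit 736)]))) (Tr.lf (Fc.ed (nat_lit 738) (nat_lit 395) Col.d (nat_lit 463) Dv.df)))) (Tr.nd (nat_lit 740) (Tr.lf (Fc.ed (nat_lit 739) (nat_lit 324) Col.a (nat_lit 464) Dv.df)) (Tr.nd (nat_lit 741) (Tr.lf (Fc.ed (nat_lit 740) (nat_lit 464) Col.d (nat_lit 460) (Dv.wd (nat_lit 6) [Mv.b (nat_lit 733), Mv.b (nat_lit 513), Mv.f (nat_lit 739)]))) (Tr.lf (Fc.ed (nat_lit 741) (nat_lit 454) Col.c (nat_lit 465) Dv.df)))))) (Tr.nd (nat_lit 748) (Tr.nd (nat_lit 745) (Tr.nd (nat_lit 743) (Tr.lf (Fc.ed (nat_lit 742) (nat_lit 465) Col.a (nat_lit 451) (Dv.wd (nat_lit 4) [Mv.f (nat_lit 721), Mv.f (nat_lit 726), Mv.f (nat_lit 741)]))) (Tr.nd (nat_lit 744) (Tr.lf (Fc.ed (nat_lit 743) (nat_lit 412) Col.a (nat_lit 466) Dv.df)) (Tr.lf (Fc.ed (nat_lit 744) (nat_lit 466) Col.d (nat_lit 459) (Dv.wd (nat_lit 6) [Mv.b (nat_lit 732), Mv.b (nat_lit 655), Mv.f (nat_lit 743)]))))) (Tr.nd (nat_lit 746) (Tr.lf (Fc.ed (nat_lit 745) (nat_lit 319) Col.a (nat_lit 467) Dv.df)) (Tr.nd (nat_lit 747) (Tr.lf (Fc.ed (nat_lit 746) (nat_lit 421) Col.d (nat_lit 468) Dv.df)) (Tr.lf (Fc.ed (nat_lit 747) (nat_lit 468) Col.b (nat_lit 351) (Dv.wd (nat_lit 5) [Mv.f (nat_lit 560), Mv.f (nat_lit 670), Mv.f (nat_lit 746)])))))) (Tr.nd (nat_lit 751) (Tr.nd (nat_lit 749) (Tr.lf (Fc.ed (nat_lit 748) (nat_lit 455) Col.d (nat_lit 469) Dv.df)) (Tr.nd (nat_lit 750) (Tr.lf (Fc.ed (nat_lit 749) (nat_lit 469) Col.b (nat_lit 382) (Dv.wd (nat_lit 5) [Mv.b (nat_lit 608), Mv.f (nat_lit 727), Mv.f (nat_lit 748)]))) (Tr.lf (Fc.ed (nat_lit 750) (nat_lit 235) Col.a (nat_lit 470) Dv.df)))) (Tr.nd (nat_lit 752) (Tr.lf (Fc.ed (nat_lit 751) (nat_lit 470) Col.c (nat_lit 380) (Dv.wd (nat_lit 2) [Mv.b (nat_lit 605), Mv.b (nat_lit 594), Mv.f (nat_lit 750)]))) (Tr.nd (nat_lit 753) (Tr.lf (Fc.ed (nat_lit 752) (nat_lit 380) Col.d (nat_lit 471) Dv.df)) (Tr.lf (Fc.ed (nat_lit 753) (nat_lit 396) Col.a (nat_lit 472) Dv.df)))))))))))) (Tr.nd (nat_lit 1131) (Tr.nd (nat_lit 942) (Tr.nd (nat_lit 848) (Tr.nd (nat_lit 801) (Tr.nd (nat_lit 777) (Tr.nd (nat_lit 765) (Tr.nd (nat_lit 759) (Tr.nd (nat_lit 756) (Tr.nd (nat_lit 755) (Tr.lf (Fc.ed (nat_lit 754) (nat_lit 281) Col.a (nat_lit 473) Dv.df)) (Tr.lf (Fc.ed (nat_lit 755) (nat_lit 473) Col.d (nat_lit 441) (Dv.wd (nat_lit 6) [Mv.b (nat_lit 703), Mv.f (nat_lit 456), Mv.f (nat_lit 754)])))) (Tr.nd (nat_lit 757) (Tr.lf (Fc.ed (nat_lit 756) (nat_lit 457) Col.c (nat_lit 474) Dv.df)) (Tr.nd (nat_lit 758) (Tr.lf (Fc.ed (nat_lit 757) (nat_lit 474) Col.a (nat_lit 294) (Dv.wd (nat_lit 4) [Mv.b (nat_lit 467), Mv.f (nat_lit 729), Mv.f (nat_lit 756)]))) (Tr.lf (Fc.ed (nat_lit 758) (nat_lit 349) Col.b (nat_lit 475) Dv.df))))) (Tr.nd (nat_lit 762) (Tr.nd (nat_lit 760) (Tr.lf (Fc.ed (nat_lit 759) (nat_lit 475) Col.d (nat_lit 336) (Dv.wd (nat_lit 3) [Mv.f (nat_lit 535), Mv.f (nat_lit 555), Mv.f (nat_lit 758)]))) (Tr.nd (nat_lit 761) (Tr.lf (Fc.ed (nat_lit 760) (nat_lit 343) Col.a (nat_lit 476) Dv.df)) (Tr.lf (Fc.ed (nat_lit 761) (nat_lit 406) Col.b (nat_lit 477) Dv.df)))) (Tr.nd (nat_lit 763) (Tr.lf (Fc.ed (nat_lit 762) (nat_lit 369) Col.d (nat_lit 478) Dv.df)) (Tr.nd (nat_lit 764) (Tr.lf (Fc.ed (nat_lit 763) (nat_lit 478) Col.b (nat_lit 416) (Dv.wd (nat_lit 5) [Mv.b (nat_lit 661), Mv.b (nat_lit 597), Mv.f (nat_lit 762)]))) (Tr.lf (Fc.ed (nat_lit 764) (nat_lit 478) Col.c (nat_lit 471) (Dv.wd (nat_lit 16) [Mv.b (nat_lit 752), Mv.b (nat_lit 605), Mv.b (nat_lit 594), Mv.f (nat_lit 385), Mv.f (nat_lit 431), Mv.b (nat_lit 587), Mv.f (nat_lit 589), Mv.f (nat_lit 762)]))))))) (Tr.nd (nat_lit 771) (Tr.nd (nat_lit 768) (Tr.nd (nat_lit 766) (Tr.lf (Fc.ed (nat_lit 765) (nat_lit 449) Col.a (nat_lit 479) Dv.df)) (Tr.nd (nat_lit 767) (Tr.lf (Fc.ed (nat_lit 766) (nat_lit 479) Col.c (nat_lit 467) (Dv.wd (nat_lit 2) [Mv.b (nat_lit 745), Mv.f (nat_lit 718), Mv.f (nat_lit 765)]))) (Tr.lf (Fc.ed (nat_lit 767) (nat_lit 329) Col.b (nat_lit 480) Dv.df)))) (Tr.nd (nat_lit 769) (Tr.lf (Fc.ed (nat_lit 768) (nat_lit 318) Col.a (nat_lit 481) Dv.df)) (Tr.nd (nat_lit 770) (Tr.lf (Fc.ed (nat_lit 769) (nat_lit 267) Col.a (nat_lit 482) Dv.df)) (Tr.lf (Fc.ed (nat_lit 770) (nat_lit 482) Col.d (nat_lit 457) (Dv.wd (nat_lit 6) [Mv.b (nat_lit 729), Mv.b (nat_lit 464), Mv.f (nat_lit 769)])))))) (Tr.nd (nat_lit 774) (Tr.nd (nat_lit 772) (Tr.lf (Fc.ed (nat_lit 771) (nat_lit 481) Col.d (nat_lit 483) Dv.df)) (Tr.nd (nat_lit 773) (Tr.lf (Fc.ed (nat_lit 772) (nat_lit 483) Col.a (nat_lit 433) (Dv.wd (nat_lit 1) [Mv.f (nat_lit 690), Mv.f (nat_lit 768), Mv.f (nat_lit 771)]))) (Tr.lf (Fc.ed (nat_lit 773) (nat_lit 453) Col.c (nat_lit 484) Dv.df)))) (Tr.nd (nat_lit 775) (Tr.lf (Fc.ed (nat_lit 774) (nat_lit 484) Col.b (nat_lit 485) Dv.df)) (Tr.nd (nat_lit 776) (Tr.lf (Fc.ed (nat_lit 775) (nat_lit 485) Col.c (nat_lit 315) (Dv.wd (nat_lit 8) [Mv.f (nat_lit 498), Mv.f (nat_lit 295), Mv.b (nat_lit 725), Mv.f (nat_lit 773), Mv.f (nat_lit 774)]))) (Tr.lf (Fc.ed (nat_lit 776) (nat_lit 332) Col.b (nat_lit 486) Dv.df))))))) (Tr.nd (nat_lit 789) (Tr.nd (nat_lit 783) (Tr.nd (nat_lit 780) (Tr.nd (nat_lit 778) (Tr.lf (Fc.ed (nat_lit 777) (nat_lit 327) Col.a (nat_lit 487) Dv.df)) (Tr.nd (nat_lit 779) (Tr.lf (Fc.ed (nat_lit 778) (nat_lit 487) Col.d (nat_lit 474) (Dv.wd (nat_lit 6) [Mv.f (nat_lit 757), Mv.f (nat_lit 517), Mv.f (nat_lit 777)]))) (Tr.lf (Fc.ed (nat_lit 779) (nat_lit 481) Col.c (nat_lit 488) Dv.df)))) (Tr.nd (nat_lit 781) (Tr.lf (Fc.ed (nat_lit 780) (nat_lit 488) Col.a (nat_lit 305) (Dv.wd (nat_lit 4) [Mv.b (nat_lit 503), Mv.f (nat_lit 768), Mv.f (nat_lit 779)]))) (Tr.nd (nat_lit 782) (Tr.lf (Fc.ed (nat_lit 781) (nat_lit 486) Col.c (nat_lit 489) Dv.df)) (Tr.lf (Fc.ed (nat_lit 782) (nat_lit 489) Col.b (nat_lit 339) (Dv.wd (nat_lit 7) [Mv.f (nat_lit 540), Mv.b (nat_lit 531), Mv.b (nat_lit 526), Mv.f (nat_lit 776), Mv.f (nat_lit 781)])))))) (Tr.nd (nat_lit 786) (Tr.nd (nat_lit 784) (Tr.lf (Fc.ed (nat_lit 783) (nat_lit 340) Col.b (nat_lit 490) Dv.df)) (Tr.nd (nat_lit 785) (Tr.lf (Fc.ed (nat_lit 784) (nat_lit 490) Col.d (nat_lit 489) (Dv.wd (nat_lit 3) [Mv.f (nat_lit 782), Mv.b (nat_lit 542), Mv.f (nat_lit 783)]))) (Tr.lf (Fc.ed (nat_lit 785) (nat_lit 347) Col.d (nat_lit 491) Dv.df)))) (Tr.nd (nat_lit 787) (Tr.lf (Fc.ed (nat_lit 786) (nat_lit 491) Col.b (nat_lit 355) (Dv.wd (nat_lit 5) [Mv.b (nat_lit 566), Mv.b (nat_lit 553), Mv.f (nat_lit 785)]))) (Tr.nd (nat_lit 788) (Tr.lf (Fc.ed (nat_lit 787) (nat_lit 455) Col.c (nat_lit 492) Dv.df)) (Tr.lf (Fc.ed (nat_lit 788) (nat_lit 438) Col.d (nat_lit 493) Dv.df)))))) (Tr.nd (nat_lit 795) (Tr.nd (nat_lit 792) (Tr.nd (nat_lit 790) (Tr.lf (Fc.ed (nat_lit 789) (nat_lit 475) Col.a (nat_lit 494) Dv.df)) (Tr.nd (nat_lit 791) (Tr.lf (Fc.ed (nat_lit 790) (nat_lit 238) Col.c (nat_lit 495) Dv.df)) (Tr.lf (Fc.ed (nat_lit 791) (nat_lit 341) Col.d (nat_lit 496) Dv.df)))) (Tr.nd (nat_lit 793) (Tr.lf (Fc.ed (nat_lit 792) (nat_lit 496) Col.b (nat_lit 338) (Dv.wd (nat_lit 5) [Mv.f (nat_lit 538), Mv.b (nat_lit 544), Mv.f (nat_lit 791)]))) (Tr.nd (nat_lit 794) (Tr.lf (Fc.ed (nat_lit 793) (nat_lit 464) Col.c (nat_lit 497) Dv.df)) (Tr.lf (Fc.ed (nat_lit 794) (nat_lit 379) Col.b (nat_lit 498) Dv.df))))) (Tr.nd (nat_lit 798) (Tr.nd (nat_lit 796) (Tr.lf (Fc.ed (nat_lit 795) (nat_lit 498) Col.c (nat_lit 468) (Dv.wd (nat_lit 8) [Mv.f (nat_lit 747), Mv.b (nat_lit 559), Mv.f (nat_lit 563), Mv.f (nat_lit 604), Mv.f (nat_lit 794)]))) (Tr.nd (nat_lit 797) (Tr.lf (Fc.ed (nat_lit 796) (nat_lit 315) Col.a (nat_lit 499) Dv.df)) (Tr.lf (Fc.ed (nat_lit 797) (nat_lit 348) Col.b (nat_lit 500) Dv.df)))) (Tr.nd (nat_lit 799) (Tr.lf (Fc.ed (nat_lit 798) (nat_lit 500) Col.d (nat_lit 461) (Dv.wd (nat_lit 3) [Mv.b (nat_lit 735), Mv.f (nat_lit 554), Mv.f (nat_lit 797)]))) (Tr.nd (nat_lit 800) (Tr.lf (Fc.ed (nat_lit 799) (nat_lit 325) Col.b (nat_lit 501) Dv.df)) (Tr.lf (Fc.ed (nat_lit 800) (nat_lit 501) Col.d (nat_lit 486) (Dv.wd (nat_lit 3) [Mv.b (nat_lit 776), Mv.b (nat_lit 525), Mv.f (nat_lit 799)]))))))))) (Tr.nd (nat_lit 824) (Tr.nd (nat_lit 812) (Tr.nd (nat_lit 806) (Tr.nd (nat_lit 803) (Tr.nd (nat_lit 802) (Tr.lf (Fc.ed (nat_lit 801) (nat_lit 437) Col.d (nat_lit 502) Dv.df)) (Tr.lf (Fc.ed (nat_lit 802) (nat_lit 502) Col.a (nat_lit 496) (Dv.wd (nat_lit 1) [Mv.b (nat_lit 791), Mv.b (nat_lit 697), Mv.f (nat_lit 801)])))) (Tr.nd (nat_lit 804) (Tr.lf (Fc.ed (nat_lit 803) (nat_lit 327) Col.c (nat_lit 503) Dv.df)) (Tr.nd (nat_lit 805) (Tr.lf (Fc.ed (nat_lit 804) (nat_lit 456) Col.b (nat_lit 504) Dv.df)) (Tr.lf (Fc.ed (nat_lit 805) (nat_lit 504) Col.c (nat_lit 501) (Dv.wd (nat_lit 8) [Mv.b (nat_lit 799), Mv.b (nat_lit 514), Mv.f (nat_lit 407), Mv.f (nat_lit 728), Mv.f (nat_lit 804)])))))) (Tr.nd (nat_lit 809) (Tr.nd (nat_lit 807) (Tr.lf (Fc.ed (nat_lit 806) (nat_lit 408) Col.c (nat_lit 505) Dv.df)) (Tr.nd (nat_lit 808) (Tr.lf (Fc.ed (nat_lit 807) (nat_lit 505) Col.b (nat_lit 492) (Dv.wd (nat_lit 7) [Mv.b (nat_lit 787), Mv.b (nat_lit 727), Mv.f (nat_lit 443), Mv.f (nat_lit 649), Mv.f (nat_lit 806)]))) (Tr.lf (Fc.ed (nat_lit 808) (nat_lit 503) Col.b (nat_lit 506) Dv.df)))) (Tr.nd (nat_lit 810) (Tr.lf (Fc.ed (nat_lit 809) (nat_lit 506) Col.c (nat_lit 496) (Dv.wd (nat_lit 8) [Mv.f (nat_lit 792), Mv.b (nat_lit 537), Mv.b (nat_lit 518), Mv.f (nat_lit 803), Mv.f (nat_lit 808)]))) (Tr.nd (nat_lit 811) (Tr.lf (Fc.ed (nat_lit 810) (nat_lit 506) Col.d (nat_lit 507) Dv.df)) (Tr.lf (Fc.ed (nat_lit 811) (nat_lit 507) Col.c (nat_lit 493) (Dv.wd (nat_lit 11) [Mv.b (nat_lit 788), Mv.b (nat_lit 698), Mv.b (nat_lit 629), Mv.f (nat_lit 696), Mv.f (nat_lit 801), Mv.f (nat_lit 802), Mv.b (nat_lit 809), Mv.f (nat_lit 810)]))))))) (Tr.nd (nat_lit 818) (Tr.nd (nat_lit 815) (Tr.nd (nat_lit 813) (Tr.lf (Fc.ed (nat_lit 812) (nat_lit 429) Col.b (nat_lit 508) Dv.df)) (Tr.nd (nat_lit 814) (Tr.lf (Fc.ed (nat_lit 813) (nat_lit 446) Col.c (nat_lit 509) Dv.df)) (Tr.lf (Fc.ed (nat_lit 814) (nat_lit 500) Col.c (nat_lit 510) Dv.df)))) (Tr.nd (nat_lit 816) (Tr.lf (Fc.ed (nat_lit 815) (nat_lit 391) Col.b (nat_lit 511) Dv.df)) (Tr.nd (nat_lit 817) (Tr.lf (Fc.ed (nat_lit 816) (nat_lit 511) Col.c (nat_lit 491) (Dv.wd (nat_lit 8) [Mv.f (nat_lit 786), Mv.b (nat_lit 569), Mv.b (nat_lit 574), Mv.b (nat_lit 624), Mv.f (nat_lit 815)]))) (Tr.lf (Fc.ed (nat_lit 817) (nat_lit 482) Col.c (nat_lit 512) Dv.df))))) (Tr.nd (nat_lit 821) (Tr.nd (nat_lit 819) (Tr.lf (Fc.ed (nat_lit 818) (nat_lit 509) Col.b (nat_lit 513) Dv.df)) (Tr.nd (nat_lit 820) (Tr.lf (Fc.ed (nat_lit 819) (nat_lit 513) Col.c (nat_lit 291) (Dv.wd (nat_lit 8) [Mv.b (nat_lit 462), Mv.b (nat_lit 471), Mv.f (nat_lit 712), Mv.f (nat_lit 813), Mv.f (nat_lit 818)]))) (Tr.lf (Fc.ed (nat_lit 820) (nat_lit 508) Col.c (nat_lit 514) Dv.df)))) (Tr.nd (nat_lit 822) (Tr.lf (Fc.ed (nat_lit 821) (nat_lit 514) Col.b (nat_lit 447) (Dv.wd (nat_lit 7) [Mv.f (nat_lit 715), Mv.b (nat_lit 476), Mv.f (nat_lit 683), Mv.f (nat_lit 812), Mv.f (nat_lit 820)]))) (Tr.nd (nat_lit 823) (Tr.lf (Fc.ed (nat_lit 822) (nat_lit 358) Col.b (nat_lit 515) Dv.df)) (Tr.lf (Fc.ed (nat_lit 823) (nat_lit 342) Col.d (nat_lit 516) Dv.df))))))) (Tr.nd (nat_lit 836) (Tr.nd (nat_lit 830) (Tr.nd (nat_lit 827) (Tr.nd (nat_lit 825) (Tr.lf (Fc.ed (nat_lit 824) (nat_lit 419) Col.c (nat_lit 517) Dv.df)) (Tr.nd (nat_lit 826) (Tr.lf (Fc.ed (nat_lit 825) (nat_lit 516) Col.c (nat_lit 518) Dv.df)) (Tr.lf (Fc.ed (nat_lit 826) (nat_lit 406) Col.c (nat_lit 519) Dv.df)))) (Tr.nd (nat_lit 828) (Tr.lf (Fc.ed (nat_lit 827) (nat_lit 519) Col.a (nat_lit 495) (Dv.wd (nat_lit 4) [Mv.b (nat_lit 790), Mv.f (nat_lit 647), Mv.f (nat_lit 826)]))) (Tr.nd (nat_lit 829) (Tr.lf (Fc.ed (nat_lit 828) (nat_lit 519) Col.d (nat_lit 518) (Dv.wd (nat_lit 10) [Mv.b (nat_lit 825), Mv.b (nat_lit 823), Mv.b (nat_lit 545), Mv.b (nat_lit 311), Mv.f (nat_lit 316), Mv.b (nat_lit 375), Mv.f (nat_lit 647), Mv.f (nat_lit 826)]))) (Tr.lf (Fc.ed (nat_lit 829) (nat_lit 361) Col.b (nat_lit 520) Dv.df))))) (Tr.nd (nat_lit 833) (Tr.nd (nat_lit 831) (Tr.lf (Fc.ed (nat_lit 830) (nat_lit 520) Col.d (nat_lit 515) (Dv.wd (nat_lit 3) [Mv.b (nat_lit 822), Mv.f (nat_lit 575), Mv.f (nat_lit 829)]))) (Tr.nd (nat_lit 832) (Tr.lf (Fc.ed (nat_lit 831) (nat_lit 520) Col.c (nat_lit 521) Dv.df)) (Tr.lf (Fc.ed (nat_lit 832) (nat_lit 495) Col.b (nat_lit 522) Dv.df)))) (Tr.nd (nat_lit 834) (Tr.lf (Fc.ed (nat_lit 833) (nat_lit 522) Col.c (nat_lit 490) (Dv.wd (nat_lit 8) [Mv.b (nat_lit 783), Mv.b (nat_lit 541), Mv.f (nat_lit 374), Mv.f (nat_lit 790), Mv.f (nat_lit 832)]))) (Tr.nd (nat_lit 835) (Tr.lf (Fc.ed (nat_lit 834) (nat_lit 497) Col.d (nat_lit 523) Dv.df)) (Tr.lf (Fc.ed (nat_lit 835) (nat_lit 418) Col.b (nat_lit 524) Dv.df)))))) (Tr.nd (nat_lit 842) (Tr.nd (nat_lit 839) (Tr.nd (nat_lit 837) (Tr.lf (Fc.ed (nat_lit 836) (nat_lit 524) Col.d (nat_lit 366) (Dv.wd (nat_lit 3) [Mv.f (nat_lit 585), Mv.f (nat_lit 665), Mv.f (nat_lit 835)]))) (Tr.nd (nat_lit 838) (Tr.lf (Fc.ed (nat_lit 837) (nat_lit 516) Col.b (nat_lit 525) Dv.df)) (Tr.lf (Fc.ed (nat_lit 838) (nat_lit 525) Col.d (nat_lit 343) (Dv.wd (nat_lit 3) [Mv.f (nat_lit 547), Mv.f (nat_lit 823), Mv.f (nat_lit 837)]))))) (Tr.nd (nat_lit 840) (Tr.lf (Fc.ed (nat_lit 839) (nat_lit 440) Col.d (nat_lit 526) Dv.df)) (Tr.nd (nat_lit 841) (Tr.lf (Fc.ed (nat_lit 840) (nat_lit 526) Col.b (nat_lit 439) (Dv.wd (nat_lit 5) [Mv.f (nat_lit 700), Mv.b (nat_lit 702), Mv.f (nat_lit 839)]))) (Tr.lf (Fc.ed (nat_lit 841) (nat_lit 376) Col.c (nat_lit 527) Dv.df))))) (Tr.nd (nat_lit 845) (Tr.nd (nat_lit 843) (Tr.lf (Fc.ed (nat_lit 842) (nat_lit 527) Col.b (nat_lit 521) (Dv.wd (nat_lit 7) [Mv.b (nat_lit 831), Mv.b (nat_lit 829), Mv.f (nat_lit 576), Mv.b (nat_lit 600), Mv.f (nat_lit 841)]))) (Tr.nd (nat_lit 844) (Tr.lf (Fc.ed (nat_lit 843) (nat_lit 463) Col.c (nat_lit 528) Dv.df)) (Tr.lf (Fc.ed (nat_lit 844) (nat_lit 512) Col.d (nat_lit 529) Dv.df)))) (Tr.nd (nat_lit 846) (Tr.lf (Fc.ed (nat_lit 845) (nat_lit 503) Col.d (nat_lit 530) Dv.df)) (Tr.nd (nat_lit 847) (Tr.lf (Fc.ed (nat_lit 846) (nat_lit 530) Col.b (nat_lit 507) (Dv.wd (nat_lit 5) [Mv.b (nat_lit 810), Mv.b (nat_lit 808), Mv.f (nat_lit 845)]))) (Tr.lf (Fc.ed (nat_lit 847) (nat_lit 530) Col.c (nat_lit 529) (Dv.wd (nat_lit 11) [Mv.b (nat_lit 844), Mv.b (nat_lit 817), Mv.f (nat_lit 770), Mv.f (nat_lit 756), Mv.b (nat_lit 778), Mv.b (nat_lit 777), Mv.f (nat_lit 803), Mv.f (nat_lit 845)])))))))))) (Tr.nd (nat_lit 895) (Tr.nd (nat_lit 871) (Tr.nd (nat_lit 859) (Tr.nd (nat_lit 853) (Tr.nd (nat_lit 850) (Tr.nd (nat_lit 849) (Tr.lf (Fc.ed (nat_lit 848) (nat_lit 458) Col.d (nat_lit 531) Dv.df)) (Tr.lf (Fc.ed (nat_lit 849) (nat_lit 368) Col.b (nat_lit 532) Dv.df))) (Tr.nd (nat_lit 851) (Tr.lf (Fc.ed (nat_lit 850) (nat_lit 414) Col.c (nat_lit 533) Dv.df)) (Tr.nd (nat_lit 852) (Tr.lf (Fc.ed (nat_lit 851) (nat_lit 527) Col.d (nat_lit 534) Dv.df)) (Tr.lf (Fc.ed (nat_lit 852) (nat_lit 534) Col.c (nat_lit 531) (Dv.wd (nat_lit 17) [Mv.b (nat_lit 848), Mv.f (nat_lit 731), Mv.b (nat_lit 755), Mv.b (nat_lit 754), Mv.b (nat_lit 458), Mv.f (nat_lit 599), Mv.f (nat_lit 841), Mv.f (nat_lit 851)])))))) (Tr.nd (nat_lit 856) (Tr.nd (nat_lit 854) (Tr.lf (Fc.ed (nat_lit 853) (nat_lit 532) Col.c (nat_lit 535) Dv.df)) (Tr.nd (nat_lit 855) (Tr.lf (Fc.ed (nat_lit 854) (nat_lit 475) Col.c (nat_lit 536) Dv.df)) (Tr.lf (Fc.ed (nat_lit 855) (nat_lit 536) Col.b (nat_lit 510) (Dv.wd (nat_lit 7) [Mv.b (nat_lit 814), Mv.b (nat_lit 797), Mv.b (nat_lit 556), Mv.f (nat_lit 758), Mv.f (nat_lit 854)]))))) (Tr.nd (nat_lit 857) (Tr.lf (Fc.ed (nat_lit 856) (nat_lit 526) Col.c (nat_lit 537) Dv.df)) (Tr.nd (nat_lit 858) (Tr.lf (Fc.ed (nat_lit 857) (nat_lit 322) Col.b (nat_lit 538) Dv.df)) (Tr.lf (Fc.ed (nat_lit 858) (nat_lit 443) Col.c (nat_lit 539) Dv.df)))))) (Tr.nd (nat_lit 865) (Tr.nd (nat_lit 862) (Tr.nd (nat_lit 860) (Tr.lf (Fc.ed (nat_lit 859) (nat_lit 538) Col.d (nat_lit 540) Dv.df)) (Tr.nd (nat_lit 861) (Tr.lf (Fc.ed (nat_lit 860) (nat_lit 540) Col.b (nat_lit 323) (Dv.wd (nat_lit 5) [Mv.f (nat_lit 511), Mv.f (nat_lit 857), Mv.f (nat_lit 859)]))) (Tr.lf (Fc.ed (nat_lit 861) (nat_lit 498) Col.d (nat_lit 541) Dv.df)))) (Tr.nd (nat_lit 863) (Tr.lf (Fc.ed (nat_lit 862) (nat_lit 533) Col.d (nat_lit 542) Dv.df)) (Tr.nd (nat_lit 864) (Tr.lf (Fc.ed (nat_lit 863) (nat_lit 387) Col.a (nat_lit 543) Dv.df)) (Tr.lf (Fc.ed (nat_lit 864) (nat_lit 543) Col.d (nat_lit 488) (Dv.wd (nat_lit 6) [Mv.f (nat_lit 780), Mv.b (nat_lit 618), Mv.f (nat_lit 863)])))))) (Tr.nd (nat_lit 868) (Tr.nd (nat_lit 866) (Tr.lf (Fc.ed (nat_lit 865) (nat_lit 524) Col.c (nat_lit 544) Dv.df)) (Tr.nd (nat_lit 867) (Tr.lf (Fc.ed (nat_lit 866) (nat_lit 429) Col.d (nat_lit 545) Dv.df)) (Tr.lf (Fc.ed (nat_lit 867) (nat_lit 545) Col.c (nat_lit 542) (Dv.wd (nat_lit 11) [Mv.b (nat_lit 862), Mv.b (nat_lit 850), Mv.b (nat_lit 657), Mv.b (nat_lit 472), Mv.f (nat_lit 473), Mv.f (nat_lit 475), Mv.f (nat_lit 683), Mv.f (nat_lit 866)]))))) (Tr.nd (nat_lit 869) (Tr.lf (Fc.ed (nat_lit 868) (nat_lit 535) Col.b (nat_lit 546) Dv.df)) (Tr.nd (nat_lit 870) (Tr.lf (Fc.ed (nat_lit 869) (nat_lit 546) Col.c (nat_lit 345) (Dv.wd (nat_lit 8) [Mv.f (nat_lit 582), Mv.f (nat_lit 588), Mv.f (nat_lit 849), Mv.f (nat_lit 853), Mv.f (nat_lit 868)]))) (Tr.lf (Fc.ed (nat_lit 870) (nat_lit 533) Col.b (nat_lit 547) Dv.df))))))) (Tr.nd (nat_lit 883) (Tr.nd (nat_lit 877) (Tr.nd (nat_lit 874) (Tr.nd (nat_lit 872) (Tr.lf (Fc.ed (nat_lit 871) (nat_lit 547) Col.c (nat_lit 381) (Dv.wd (nat_lit 8) [Mv.f (nat_lit 607), Mv.f (nat_lit 490), Mv.b (nat_lit 658), Mv.f (nat_lit 850), Mv.f (nat_lit 870)]))) (Tr.nd (nat_lit 873) (Tr.lf (Fc.ed (nat_lit 872) (nat_lit 537) Col.d (nat_lit 548) Dv.df)) (Tr.lf (Fc.ed (nat_lit 873) (nat_lit 548) Col.c (nat_lit 483) (Dv.wd (nat_lit 17) [Mv.b (nat_lit 771), Mv.f (nat_lit 779), Mv.b (nat_lit 864), Mv.b (nat_lit 863), Mv.f (nat_lit 701), Mv.f (nat_lit 839), Mv.f (nat_lit 856), Mv.f (nat_lit 872)]))))) (Tr.nd (nat_lit 875) (Tr.lf (Fc.ed (nat_lit 874) (nat_lit 539) Col.d (nat_lit 549) Dv.df)) (Tr.nd (nat_lit 876) (Tr.lf (Fc.ed (nat_lit 875) (nat_lit 517) Col.d (nat_lit 550) Dv.df)) (Tr.lf (Fc.ed (nat_lit 876) (nat_lit 494) Col.c (nat_lit 551) Dv.df))))) (Tr.nd (nat_lit 880) (Tr.nd (nat_lit 878) (Tr.lf (Fc.ed (nat_lit 877) (nat_lit 551) Col.a (nat_lit 536) (Dv.wd (nat_lit 4) [Mv.b (nat_lit 854), Mv.f (nat_lit 789), Mv.f (nat_lit 876)]))) (Tr.nd (nat_lit 879) (Tr.lf (Fc.ed (nat_lit 878) (nat_lit 551) Col.d (nat_lit 544) (Dv.wd (nat_lit 10) [Mv.b (nat_lit 865), Mv.f (nat_lit 836), Mv.b (nat_lit 584), Mv.b (nat_lit 523), Mv.f (nat_lit 534), Mv.b (nat_lit 759), Mv.f (nat_lit 789), Mv.f (nat_lit 876)]))) (Tr.lf (Fc.ed (nat_lit 879) (nat_lit 383) Col.b (nat_lit 552) Dv.df)))) (Tr.nd (nat_lit 881) (Tr.lf (Fc.ed (nat_lit 880) (nat_lit 552) Col.d (nat_lit 385) (Dv.wd (nat_lit 3) [Mv.f (nat_lit 615), Mv.b (nat_lit 612), Mv.f (nat_lit 879)]))) (Tr.nd (nat_lit 882) (Tr.lf (Fc.ed (nat_lit 881) (nat_lit 549) Col.c (nat_lit 553) Dv.df)) (Tr.lf (Fc.ed (nat_lit 882) (nat_lit 553) Col.a (nat_lit 552) (Dv.wd (nat_lit 18) [Mv.f (nat_lit 880), Mv.b (nat_lit 614), Mv.f (nat_lit 572), Mv.b (nat_lit 596), Mv.f (nat_lit 706), Mv.f (nat_lit 858), Mv.f (nat_lit 874), Mv.f (nat_lit 881)]))))))) (Tr.nd (nat_lit 889) (Tr.nd (nat_lit 886) (Tr.nd (nat_lit 884) (Tr.lf (Fc.ed (nat_lit 883) (nat_lit 550) Col.c (nat_lit 554) Dv.df)) (Tr.nd (nat_lit 885) (Tr.lf (Fc.ed (nat_lit 884) (nat_lit 554) Col.d (nat_lit 546) (Dv.wd (nat_lit 13) [Mv.f (nat_lit 869), Mv.b (nat_lit 550), Mv.b (nat_lit 430), Mv.b (nat_lit 463), Mv.b (nat_lit 667), Mv.f (nat_lit 824), Mv.f (nat_lit 875), Mv.f (nat_lit 883)]))) (Tr.lf (Fc.ed (nat_lit 885) (nat_lit 476) Col.d (nat_lit 555) Dv.df)))) (Tr.nd (nat_lit 887) (Tr.lf (Fc.ed (nat_lit 886) (nat_lit 555) Col.a (nat_lit 525) (Dv.wd (nat_lit 1) [Mv.f (nat_lit 838), Mv.f (nat_lit 760), Mv.f (nat_lit 885)]))) (Tr.nd (nat_lit 888) (Tr.lf (Fc.ed (nat_lit 887) (nat_lit 203) Col.c (nat_lit 556) Dv.df)) (Tr.lf (Fc.ed (nat_lit 888) (nat_lit 412) Col.c (nat_lit 557) Dv.df))))) (Tr.nd (nat_lit 892) (Tr.nd (nat_lit 890) (Tr.lf (Fc.ed (nat_lit 889) (nat_lit 447) Col.d (nat_lit 558) Dv.df)) (Tr.nd (nat_lit 891) (Tr.lf (Fc.ed (nat_lit 890) (nat_lit 557) Col.d (nat_lit 559) Dv.df)) (Tr.lf (Fc.ed (nat_lit 891) (nat_lit 559) Col.c (nat_lit 523) (Dv.wd (nat_lit 11) [Mv.b (nat_lit 834), Mv.b (nat_lit 793), Mv.f (nat_lit 740), Mv.f (nat_lit 734), Mv.b (nat_lit 744), Mv.b (nat_lit 743), Mv.f (nat_lit 888), Mv.f (nat_lit 890)]))))) (Tr.nd (nat_lit 893) (Tr.lf (Fc.ed (nat_lit 892) (nat_lit 531) Col.a (nat_lit 560) Dv.df)) (Tr.nd (nat_lit 894) (Tr.lf (Fc.ed (nat_lit 893) (nat_lit 560) Col.d (nat_lit 450) (Dv.wd (nat_lit 6) [Mv.f (nat_lit 730), Mv.f (nat_lit 848), Mv.f (nat_lit 892)]))) (Tr.lf (Fc.ed (nat_lit 894) (nat_lit 560) Col.c (nat_lit 561) Dv.df)))))))) (Tr.nd (nat_lit 918) (Tr.nd (nat_lit 906) (Tr.nd (nat_lit 900) (Tr.nd (nat_lit 897) (Tr.nd (nat_lit 896) (Tr.lf (Fc.ed (nat_lit 895) (nat_lit 561) Col.a (nat_lit 534) (Dv.wd (nat_lit 4) [Mv.f (nat_lit 852), Mv.f (nat_lit 892), Mv.f (nat_lit 894)]))) (Tr.lf (Fc.ed (nat_lit 896) (nat_lit 558) Col.c (nat_lit 562) Dv.df))) (Tr.nd (nat_lit 898) (Tr.lf (Fc.ed (nat_lit 897) (nat_lit 562) Col.d (nat_lit 556) (Dv.wd (nat_lit 13) [Mv.b (nat_lit 887), Mv.f (nat_lit 321), Mv.f (nat_lit 319), Mv.f (nat_lit 337), Mv.f (nat_lit 461), Mv.b (nat_lit 715), Mv.f (nat_lit 889), Mv.f (nat_lit 896)]))) (Tr.nd (nat_lit 899) (Tr.lf (Fc.ed (nat_lit 898) (nat_lit 515) Col.c (nat_lit 563) Dv.df)) (Tr.lf (Fc.ed (nat_lit 899) (nat_lit 563) Col.b (nat_lit 556) (Dv.wd (nat_lit 7) [Mv.b (nat_lit 887), Mv.b (nat_lit 320), Mv.f (nat_lit 570), Mv.f (nat_lit 822), Mv.f (nat_lit 898)])))))) (Tr.nd (nat_lit 903) (Tr.nd (nat_lit 901) (Tr.lf (Fc.ed (nat_lit 900) (nat_lit 538) Col.c (nat_lit 564) Dv.df)) (Tr.nd (nat_lit 902) (Tr.lf (Fc.ed (nat_lit 901) (nat_lit 539) Col.b (nat_lit 565) Dv.df)) (Tr.lf (Fc.ed (nat_lit 902) (nat_lit 565) Col.c (nat_lit 442) (Dv.wd (nat_lit 8) [Mv.b (nat_lit 704), Mv.f (nat_lit 495), Mv.b (nat_lit 707), Mv.f (nat_lit 858), Mv.f (nat_lit 901)]))))) (Tr.nd (nat_lit 904) (Tr.lf (Fc.ed (nat_lit 903) (nat_lit 485) Col.a (nat_lit 566) Dv.df)) (Tr.nd (nat_lit 905) (Tr.lf (Fc.ed (nat_lit 904) (nat_lit 566) Col.c (nat_lit 499) (Dv.wd (nat_lit 2) [Mv.b (nat_lit 796), Mv.b (nat_lit 775), Mv.f (nat_lit 903)]))) (Tr.lf (Fc.ed (nat_lit 905) (nat_lit 536) Col.d (nat_lit 567) Dv.df)))))) (Tr.nd (nat_lit 912) (Tr.nd (nat_lit 909) (Tr.nd (nat_lit 907) (Tr.lf (Fc.ed (nat_lit 906) (nat_lit 567) Col.a (nat_lit 544) (Dv.wd (nat_lit 1) [Mv.b (nat_lit 878), Mv.f (nat_lit 877), Mv.f (nat_lit 905)]))) (Tr.nd (nat_lit 908) (Tr.lf (Fc.ed (nat_lit 907) (nat_lit 393) Col.c (nat_lit 568) Dv.df)) (Tr.lf (Fc.ed (nat_lit 908) (nat_lit 568) Col.a (nat_lit 546) (Dv.wd (nat_lit 4) [Mv.f (nat_lit 869), Mv.b (nat_lit 627), Mv.f (nat_lit 907)]))))) (Tr.nd (nat_lit 910) (Tr.lf (Fc.ed (nat_lit 909) (nat_lit 568) Col.d (nat_lit 569) Dv.df)) (Tr.nd (nat_lit 911) (Tr.lf (Fc.ed (nat_lit 910) (nat_lit 569) Col.a (nat_lit 554) (Dv.wd (nat_lit 1) [Mv.f (nat_lit 884), Mv.b (nat_lit 908), Mv.f (nat_lit 909)]))) (Tr.lf (Fc.ed (nat_lit 911) (nat_lit 569) Col.c (nat_lit 570) Dv.df))))) (Tr.nd (nat_lit 915) (Tr.nd (nat_lit 913) (Tr.lf (Fc.ed (nat_lit 912) (nat_lit 570) Col.d (nat_lit 513) (Dv.wd (nat_lit 10) [Mv.f (nat_lit 819), Mv.f (nat_lit 463), Mv.f (nat_lit 430), Mv.f (nat_lit 550), Mv.b (nat_lit 869), Mv.b (nat_lit 884), Mv.b (nat_lit 910), Mv.f (nat_lit 911)]))) (Tr.nd (nat_lit 914) (Tr.lf (Fc.ed (nat_lit 913) (nat_lit 390) Col.b (nat_lit 571) Dv.df)) (Tr.lf (Fc.ed (nat_lit 914) (nat_lit 571) Col.d (nat_lit 511) (Dv.wd (nat_lit 3) [Mv.b (nat_lit 815), Mv.b (nat_lit 623), Mv.f (nat_lit 913)]))))) (Tr.nd (nat_lit 916) (Tr.lf (Fc.ed (nat_lit 915) (nat_lit 479) Col.d (nat_lit 572) Dv.df)) (Tr.nd (nat_lit 917) (Tr.lf (Fc.ed (nat_lit 916) (nat_lit 572) Col.c (nat_lit 571) (Dv.wd (nat_lit 11) [Mv.f (nat_lit 914), Mv.f (nat_lit 816), Mv.b (nat_lit 785), Mv.b (nat_lit 552), Mv.f (nat_lit 504), Mv.f (nat_lit 745), Mv.b (nat_lit 766), Mv.f (nat_lit 915)]))) (Tr.lf (Fc.ed (nat_lit 917) (nat_lit 572) Col.b (nat_lit 573) Dv.df))))))) (Tr.nd (nat_lit 930) (Tr.nd (nat_lit 924) (Tr.nd (nat_lit 921) (Tr.nd (nat_lit 919) (Tr.lf (Fc.ed (nat_lit 918) (nat_lit 573) Col.c (nat_lit 469) (Dv.wd (nat_lit 8) [Mv.f (nat_lit 749), Mv.f (nat_lit 622), Mv.f (nat_lit 913), Mv.b (nat_lit 916), Mv.f (nat_lit 917)]))) (Tr.nd (nat_lit 920) (Tr.lf (Fc.ed (nat_lit 919) (nat_lit 392) Col.b (nat_lit 574) Dv.df)) (Tr.lf (Fc.ed (nat_lit 920) (nat_lit 386) Col.b (nat_lit 575) Dv.df)))) (Tr.nd (nat_lit 922) (Tr.lf (Fc.ed (nat_lit 921) (nat_lit 575) Col.d (nat_lit 576) Dv.df)) (Tr.nd (nat_lit 923) (Tr.lf (Fc.ed (nat_lit 922) (nat_lit 576) Col.b (nat_lit 393) (Dv.wd (nat_lit 5) [Mv.b (nat_lit 626), Mv.f (nat_lit 920), Mv.f (nat_lit 921)]))) (Tr.lf (Fc.ed (nat_lit 923) (nat_lit 480) Col.c (nat_lit 577) Dv.df))))) (Tr.nd (nat_lit 927) (Tr.nd (nat_lit 925) (Tr.lf (Fc.ed (nat_lit 924) (nat_lit 540) Col.c (nat_lit 578) Dv.df)) (Tr.nd (nat_lit 926) (Tr.lf (Fc.ed (nat_lit 925) (nat_lit 578) Col.b (nat_lit 577) (Dv.wd (nat_lit 7) [Mv.b (nat_lit 923), Mv.b (nat_lit 767), Mv.f (nat_lit 521), Mv.b (nat_lit 860), Mv.f (nat_lit 924)]))) (Tr.lf (Fc.ed (nat_lit 926) (nat_lit 377) Col.d (nat_lit 579) Dv.df)))) (Tr.nd (nat_lit 928) (Tr.lf (Fc.ed (nat_lit 927) (nat_lit 434) Col.d (nat_lit 580) Dv.df)) (Tr.nd (nat_lit 929) (Tr.lf (Fc.ed (nat_lit 928) (nat_lit 580) Col.a (nat_lit 579) (Dv.wd (nat_lit 1) [Mv.b (nat_lit 926), Mv.b (nat_lit 692), Mv.f (nat_lit 927)]))) (Tr.lf (Fc.ed (nat_lit 929) (nat_lit 547) Col.d (nat_lit 581) Dv.df)))))) (Tr.nd (nat_lit 936) (Tr.nd (nat_lit 933) (Tr.nd (nat_lit 931) (Tr.lf (Fc.ed (nat_lit 930) (nat_lit 581) Col.b (nat_lit 542) (Dv.wd (nat_lit 5) [Mv.b (nat_lit 862), Mv.f (nat_lit 870), Mv.f (nat_lit 929)]))) (Tr.nd (nat_lit 932) (Tr.lf (Fc.ed (nat_lit 931) (nat_lit 581) Col.c (nat_lit 582) Dv.df)) (Tr.lf (Fc.ed (nat_lit 932) (nat_lit 472) Col.c (nat_lit 583) Dv.df)))) (Tr.nd (nat_lit 934) (Tr.lf (Fc.ed (nat_lit 933) (nat_lit 583) Col.a (nat_lit 452) (Dv.wd (nat_lit 4) [Mv.b (nat_lit 722), Mv.f (nat_lit 753), Mv.f (nat_lit 932)]))) (Tr.nd (nat_lit 935) (Tr.lf (Fc.ed (nat_lit 934) (nat_lit 583) Col.d (nat_lit 582) (Dv.wd (nat_lit 10) [Mv.b (nat_lit 931), Mv.b (nat_lit 929), Mv.f (nat_lit 871), Mv.b (nat_lit 606), Mv.f (nat_lit 516), Mv.b (nat_lit 632), Mv.f (nat_lit 753), Mv.f (nat_lit 932)]))) (Tr.lf (Fc.ed (nat_lit 935) (nat_lit 456) Col.d (nat_lit 584) Dv.df))))) (Tr.nd (nat_lit 939) (Tr.nd (nat_lit 937) (Tr.lf (Fc.ed (nat_lit 936) (nat_lit 422) Col.c (nat_lit 585) Dv.df)) (Tr.nd (nat_lit 938) (Tr.lf (Fc.ed (nat_lit 937) (nat_lit 574) Col.d (nat_lit 586) Dv.df)) (Tr.lf (Fc.ed (nat_lit 938) (nat_lit 586) Col.b (nat_lit 397) (Dv.wd (nat_lit 5) [Mv.f (nat_lit 634), Mv.f (nat_lit 919), Mv.f (nat_lit 937)]))))) (Tr.nd (nat_lit 940) (Tr.lf (Fc.ed (nat_lit 939) (nat_lit 403) Col.a (nat_lit 587) Dv.df)) (Tr.nd (nat_lit 941) (Tr.lf (Fc.ed (nat_lit 940) (nat_lit 463) Col.b (nat_lit 588) Dv.df)) (Tr.lf (Fc.ed (nat_lit 941) (nat_lit 464) Col.b (nat_lit 589) Dv.df)))))))))) (Tr.nd (nat_lit 1036) (Tr.nd (nat_lit 989) (Tr.nd (nat_lit 965) (Tr.nd (nat_lit 953) (Tr.nd (nat_lit 947) (Tr.nd (nat_lit 944) (Tr.nd (nat_lit 943) (Tr.lf (Fc.ed (nat_lit 942) (nat_lit 589) Col.a (nat_lit 590) Dv.df)) (Tr.lf (Fc.ed (nat_lit 943) (nat_lit 372) Col.b (nat_lit 591) Dv.df))) (Tr.nd (nat_lit 945) (Tr.lf (Fc.ed (nat_lit 944) (nat_lit 587) Col.d (nat_lit 592) Dv.df)) (Tr.nd (nat_lit 946) (Tr.lf (Fc.ed (nat_lit 945) (nat_lit 592) Col.a (nat_lit 442) (Dv.wd (nat_lit 1) [Mv.f (nat_lit 705), Mv.f (nat_lit 939), Mv.f (nat_lit 944)]))) (Tr.lf (Fc.ed (nat_lit 946) (nat_lit 591) Col.d (nat_lit 593) Dv.df))))) (Tr.nd (nat_lit 950) (Tr.nd (nat_lit 948) (Tr.lf (Fc.ed (nat_lit 947) (nat_lit 593) Col.b (nat_lit 394) (Dv.wd (nat_lit 5) [Mv.f (nat_lit 629), Mv.f (nat_lit 943), Mv.f (nat_lit 946)]))) (Tr.nd (nat_lit 949) (Tr.lf (Fc.ed (nat_lit 948) (nat_lit 574) Col.a (nat_lit 594) Dv.df)) (Tr.lf (Fc.ed (nat_lit 949) (nat_lit 580) Col.c (nat_lit 595) Dv.df)))) (Tr.nd (nat_lit 951) (Tr.lf (Fc.ed (nat_lit 950) (nat_lit 594) Col.b (nat_lit 596) Dv.df)) (Tr.nd (nat_lit 952) (Tr.lf (Fc.ed (nat_lit 951) (nat_lit 596) Col.a (nat_lit 591) (Dv.wd (nat_lit 12) [Mv.b (nat_lit 943), Mv.b (nat_lit 593), Mv.b (nat_lit 371), Mv.b (nat_lit 246), Mv.f (nat_lit 322), Mv.f (nat_lit 625), Mv.f (nat_lit 919), Mv.f (nat_lit 948), Mv.f (nat_lit 950)]))) (Tr.lf (Fc.ed (nat_lit 952) (nat_lit 541) Col.c (nat_lit 597) Dv.df)))))) (Tr.nd (nat_lit 959) (Tr.nd (nat_lit 956) (Tr.nd (nat_lit 954) (Tr.lf (Fc.ed (nat_lit 953) (nat_lit 595) Col.d (nat_lit 598) Dv.df)) (Tr.nd (nat_lit 955) (Tr.lf (Fc.ed (nat_lit 954) (nat_lit 598) Col.c (nat_lit 584) (Dv.wd (nat_lit 11) [Mv.b (nat_lit 935), Mv.b (nat_lit 728), Mv.f (nat_lit 408), Mv.f (nat_lit 601), Mv.f (nat_lit 926), Mv.b (nat_lit 928), Mv.f (nat_lit 949), Mv.f (nat_lit 953)]))) (Tr.lf (Fc.ed (nat_lit 955) (nat_lit 585) Col.a (nat_lit 599) Dv.df)))) (Tr.nd (nat_lit 957) (Tr.lf (Fc.ed (nat_lit 956) (nat_lit 599) Col.c (nat_lit 388) (Dv.wd (nat_lit 2) [Mv.b (nat_lit 672), Mv.f (nat_lit 936), Mv.f (nat_lit 955)]))) (Tr.nd (nat_lit 958) (Tr.lf (Fc.ed (nat_lit 957) (nat_lit 593) Col.a (nat_lit 600) Dv.df)) (Tr.lf (Fc.ed (nat_lit 958) (nat_lit 600) Col.d (nat_lit 596) (Dv.wd (nat_lit 6) [Mv.f (nat_lit 951), Mv.f (nat_lit 946), Mv.f (nat_lit 957)])))))) (Tr.nd (nat_lit 962) (Tr.nd (nat_lit 960) (Tr.lf (Fc.ed (nat_lit 959) (nat_lit 528) Col.d (nat_lit 601) Dv.df)) (Tr.nd (nat_lit 961) (Tr.lf (Fc.ed (nat_lit 960) (nat_lit 586) Col.a (nat_lit 602) Dv.df)) (Tr.lf (Fc.ed (nat_lit 961) (nat_lit 602) Col.b (nat_lit 600) (Dv.wd (nat_lit 9) [Mv.b (nat_lit 957), Mv.f (nat_lit 947), Mv.b (nat_lit 628), Mv.b (nat_lit 369), Mv.b (nat_lit 275), Mv.b (nat_lit 324), Mv.f (nat_lit 633), Mv.b (nat_lit 938), Mv.f (nat_lit 960)]))))) (Tr.nd (nat_lit 963) (Tr.lf (Fc.ed (nat_lit 962) (nat_lit 436) Col.d (nat_lit 603) Dv.df)) (Tr.nd (nat_lit 964) (Tr.lf (Fc.ed (nat_lit 963) (nat_lit 603) Col.b (nat_lit 401) (Dv.wd (nat_lit 5) [Mv.f (nat_lit 640), Mv.f (nat_lit 695), Mv.f (nat_lit 962)]))) (Tr.lf (Fc.ed (nat_lit 964) (nat_lit 599) Col.d (nat_lit 604) Dv.df))))))) (Tr.nd (nat_lit 977) (Tr.nd (nat_lit 971) (Tr.nd (nat_lit 968) (Tr.nd (nat_lit 966) (Tr.lf (Fc.ed (nat_lit 965) (nat_lit 604) Col.c (nat_lit 601) (Dv.wd (nat_lit 11) [Mv.b (nat_lit 959), Mv.b (nat_lit 843), Mv.b (nat_lit 738), Mv.b (nat_lit 669), Mv.f (nat_lit 671), Mv.f (nat_lit 672), Mv.b (nat_lit 956), Mv.f (nat_lit 964)]))) (Tr.nd (nat_lit 967) (Tr.lf (Fc.ed (nat_lit 966) (nat_lit 603) Col.c (nat_lit 605) Dv.df)) (Tr.lf (Fc.ed (nat_lit 967) (nat_lit 605) Col.b (nat_lit 599) (Dv.wd (nat_lit 7) [Mv.f (nat_lit 956), Mv.b (nat_lit 636), Mv.f (nat_lit 639), Mv.b (nat_lit 963), Mv.f (nat_lit 966)]))))) (Tr.nd (nat_lit 969) (Tr.lf (Fc.ed (nat_lit 968) (nat_lit 480) Col.a (nat_lit 606) Dv.df)) (Tr.nd (nat_lit 970) (Tr.lf (Fc.ed (nat_lit 969) (nat_lit 419) Col.b (nat_lit 607) Dv.df)) (Tr.lf (Fc.ed (nat_lit 970) (nat_lit 462) Col.d (nat_lit 608) Dv.df))))) (Tr.nd (nat_lit 974) (Tr.nd (nat_lit 972) (Tr.lf (Fc.ed (nat_lit 971) (nat_lit 608) Col.b (nat_lit 404) (Dv.wd (nat_lit 5) [Mv.f (nat_lit 645), Mv.b (nat_lit 737), Mv.f (nat_lit 970)]))) (Tr.nd (nat_lit 973) (Tr.lf (Fc.ed (nat_lit 972) (nat_lit 588) Col.d (nat_lit 609) Dv.df)) (Tr.lf (Fc.ed (nat_lit 973) (nat_lit 609) Col.b (nat_lit 395) (Dv.wd (nat_lit 5) [Mv.f (nat_lit 738), Mv.f (nat_lit 940), Mv.f (nat_lit 972)]))))) (Tr.nd (nat_lit 975) (Tr.lf (Fc.ed (nat_lit 974) (nat_lit 411) Col.b (nat_lit 610) Dv.df)) (Tr.nd (nat_lit 976) (Tr.lf (Fc.ed (nat_lit 975) (nat_lit 413) Col.b (nat_lit 611) Dv.df)) (Tr.lf (Fc.ed (nat_lit 976) (nat_lit 611) Col.d (nat_lit 610) (Dv.wd (nat_lit 3) [Mv.b (nat_lit 974), Mv.f (nat_lit 656), Mv.f (nat_lit 975)]))))))) (Tr.nd (nat_lit 983) (Tr.nd (nat_lit 980) (Tr.nd (nat_lit 978) (Tr.lf (Fc.ed (nat_lit 977) (nat_lit 471) Col.b (nat_lit 612) Dv.df)) (Tr.nd (nat_lit 979) (Tr.lf (Fc.ed (nat_lit 978) (nat_lit 612) Col.c (nat_lit 611) (Dv.wd (nat_lit 8) [Mv.b (nat_lit 975), Mv.b (nat_lit 662), Mv.b (nat_lit 763), Mv.f (nat_lit 764), Mv.f (nat_lit 977)]))) (Tr.lf (Fc.ed (nat_lit 979) (nat_lit 607) Col.d (nat_lit 613) Dv.df)))) (Tr.nd (nat_lit 981) (Tr.lf (Fc.ed (nat_lit 980) (nat_lit 613) Col.b (nat_lit 389) (Dv.wd (nat_lit 5) [Mv.f (nat_lit 666), Mv.f (nat_lit 969), Mv.f (nat_lit 979)]))) (Tr.nd (nat_lit 982) (Tr.lf (Fc.ed (nat_lit 981) (nat_lit 399) Col.b (nat_lit 614) Dv.df)) (Tr.lf (Fc.ed (nat_lit 982) (nat_lit 557) Col.b (nat_lit 615) Dv.df))))) (Tr.nd (nat_lit 986) (Tr.nd (nat_lit 984) (Tr.lf (Fc.ed (nat_lit 983) (nat_lit 615) Col.c (nat_lit 608) (Dv.wd (nat_lit 8) [Mv.f (nat_lit 971), Mv.b (nat_lit 644), Mv.f (nat_lit 654), Mv.f (nat_lit 888), Mv.f (nat_lit 982)]))) (Tr.nd (nat_lit 985) (Tr.lf (Fc.ed (nat_lit 984) (nat_lit 460) Col.b (nat_lit 616) Dv.df)) (Tr.lf (Fc.ed (nat_lit 985) (nat_lit 616) Col.d (nat_lit 589) (Dv.wd (nat_lit 3) [Mv.b (nat_lit 941), Mv.f (nat_lit 740), Mv.f (nat_lit 984)]))))) (Tr.nd (nat_lit 987) (Tr.lf (Fc.ed (nat_lit 986) (nat_lit 485) Col.d (nat_lit 617) Dv.df)) (Tr.nd (nat_lit 988) (Tr.lf (Fc.ed (nat_lit 987) (nat_lit 606) Col.b (nat_lit 618) Dv.df)) (Tr.lf (Fc.ed (nat_lit 988) (nat_lit 618) Col.a (nat_lit 616) (Dv.wd (nat_lit 12) [Mv.b (nat_lit 984), Mv.b (nat_lit 733), Mv.f (nat_lit 482), Mv.b (nat_lit 165), Mv.f (nat_lit 260), Mv.f (nat_lit 520), Mv.f (nat_lit 767), Mv.f (nat_lit 968), Mv.f (nat_lit 987)]))))))))) (Tr.nd (nat_lit 1012) (Tr.nd (nat_lit 1000) (Tr.nd (nat_lit 994) (Tr.nd (nat_lit 991) (Tr.nd (nat_lit 990) (Tr.lf (Fc.ed (nat_lit 989) (nat_lit 380) Col.b (nat_lit 619) Dv.df)) (Tr.lf (Fc.ed (nat_lit 990) (nat_lit 619) Col.d (nat_lit 612) (Dv.wd (nat_lit 3) [Mv.b (nat_lit 977), Mv.b (nat_lit 752), Mv.f (nat_lit 989)])))) (Tr.nd (nat_lit 992) (Tr.lf (Fc.ed (nat_lit 991) (nat_lit 564) Col.b (nat_lit 620) Dv.df)) (Tr.nd (nat_lit 993) (Tr.lf (Fc.ed (nat_lit 992) (nat_lit 620) Col.c (nat_lit 610) (Dv.wd (nat_lit 8) [Mv.b (nat_lit 974), Mv.b (nat_lit 653), Mv.f (nat_lit 857), Mv.f (nat_lit 900), Mv.f (nat_lit 991)]))) (Tr.lf (Fc.ed (nat_lit 993) (nat_lit 597) Col.d (nat_lit 621) Dv.df))))) (Tr.nd (nat_lit 997) (Tr.nd (nat_lit 995) (Tr.lf (Fc.ed (nat_lit 994) (nat_lit 621) Col.a (nat_lit 509) (Dv.wd (nat_lit 19) [Mv.b (nat_lit 813), Mv.f (nat_lit 713), Mv.f (nat_lit 677), Mv.f (nat_lit 746), Mv.b (nat_lit 795), Mv.f (nat_lit 861), Mv.f (nat_lit 952), Mv.f (nat_lit 993)]))) (Tr.nd (nat_lit 996) (Tr.lf (Fc.ed (nat_lit 995) (nat_lit 586) Col.c (nat_lit 622) Dv.df)) (Tr.lf (Fc.ed (nat_lit 996) (nat_lit 423) Col.b (nat_lit 623) Dv.df)))) (Tr.nd (nat_lit 998) (Tr.lf (Fc.ed (nat_lit 997) (nat_lit 623) Col.d (nat_lit 407) (Dv.wd (nat_lit 3) [Mv.f (nat_lit 663), Mv.f (nat_lit 673), Mv.f (nat_lit 996)]))) (Tr.nd (nat_lit 999) (Tr.lf (Fc.ed (nat_lit 998) (nat_lit 508) Col.d (nat_lit 624) Dv.df)) (Tr.lf (Fc.ed (nat_lit 999) (nat_lit 624) Col.b (nat_lit 545) (Dv.wd (nat_lit 5) [Mv.b (nat_lit 866), Mv.f (nat_lit 812), Mv.f (nat_lit 998)]))))))) (Tr.nd (nat_lit 1006) (Tr.nd (nat_lit 1003) (Tr.nd (nat_lit 1001) (Tr.lf (Fc.ed (nat_lit 1000) (nat_lit 609) Col.a (nat_lit 625) Dv.df)) (Tr.nd (nat_lit 1002) (Tr.lf (Fc.ed (nat_lit 1001) (nat_lit 625) Col.b (nat_lit 626) Dv.df)) (Tr.lf (Fc.ed (nat_lit 1002) (nat_lit 626) Col.a (nat_lit 613) (Dv.wd (nat_lit 12) [Mv.f (nat_lit 980), Mv.b (nat_lit 620), Mv.b (nat_lit 429), Mv.b (nat_lit 289), Mv.b (nat_lit 448), Mv.f (nat_lit 630), Mv.b (nat_lit 973), Mv.f (nat_lit 1000), Mv.f (nat_lit 1001)]))))) (Tr.nd (nat_lit 1004) (Tr.lf (Fc.ed (nat_lit 1003) (nat_lit 623) Col.c (nat_lit 627) Dv.df)) (Tr.nd (nat_lit 1005) (Tr.lf (Fc.ed (nat_lit 1004) (nat_lit 627) Col.b (nat_lit 544) (Dv.wd (nat_lit 7) [Mv.b (nat_lit 865), Mv.b (nat_lit 835), Mv.b (nat_lit 674), Mv.f (nat_lit 996), Mv.f (nat_lit 1003)]))) (Tr.lf (Fc.ed (nat_lit 1005) (nat_lit 614) Col.d (nat_lit 628) Dv.df))))) (Tr.nd (nat_lit 1009) (Tr.nd (nat_lit 1007) (Tr.lf (Fc.ed (nat_lit 1006) (nat_lit 628) Col.b (nat_lit 428) (Dv.wd (nat_lit 5) [Mv.b (nat_lit 681), Mv.f (nat_lit 981), Mv.f (nat_lit 1005)]))) (Tr.nd (nat_lit 1008) (Tr.lf (Fc.ed (nat_lit 1007) (nat_lit 426) Col.b (nat_lit 629) Dv.df)) (Tr.lf (Fc.ed (nat_lit 1008) (nat_lit 430) Col.b (nat_lit 630) Dv.df)))) (Tr.nd (nat_lit 1010) (Tr.lf (Fc.ed (nat_lit 1009) (nat_lit 630) Col.d (nat_lit 629) (Dv.wd (nat_lit 3) [Mv.b (nat_lit 1007), Mv.f (nat_lit 684), Mv.f (nat_lit 1008)]))) (Tr.nd (nat_lit 1011) (Tr.lf (Fc.ed (nat_lit 1010) (nat_lit 630) Col.c (nat_lit 628) (Dv.wd (nat_lit 8) [Mv.f (nat_lit 1006), Mv.f (nat_lit 682), Mv.f (nat_lit 687), Mv.b (nat_lit 685), Mv.f (nat_lit 1008)]))) (Tr.lf (Fc.ed (nat_lit 1011) (nat_lit 438) Col.b (nat_lit 631) Dv.df))))))) (Tr.nd (nat_lit 1024) (Tr.nd (nat_lit 1018) (Tr.nd (nat_lit 1015) (Tr.nd (nat_lit 1013) (Tr.lf (Fc.ed (nat_lit 1012) (nat_lit 445) Col.c (nat_lit 632) Dv.df)) (Tr.nd (nat_lit 1014) (Tr.lf (Fc.ed (nat_lit 1013) (nat_lit 435) Col.b (nat_lit 633) Dv.df)) (Tr.lf (Fc.ed (nat_lit 1014) (nat_lit 444) Col.b (nat_lit 634) Dv.df)))) (Tr.nd (nat_lit 1016) (Tr.lf (Fc.ed (nat_lit 1015) (nat_lit 634) Col.d (nat_lit 633) (Dv.wd (nat_lit 3) [Mv.b (nat_lit 1013), Mv.b (nat_lit 710), Mv.f (nat_lit 1014)]))) (Tr.nd (nat_lit 1017) (Tr.lf (Fc.ed (nat_lit 1016) (nat_lit 632) Col.b (nat_lit 635) Dv.df)) (Tr.lf (Fc.ed (nat_lit 1017) (nat_lit 635) Col.c (nat_lit 633) (Dv.wd (nat_lit 8) [Mv.b (nat_lit 1013), Mv.b (nat_lit 693), Mv.f (nat_lit 711), Mv.f (nat_lit 1012), Mv.f (nat_lit 1016)])))))) (Tr.nd (nat_lit 1021) (Tr.nd (nat_lit 1019) (Tr.lf (Fc.ed (nat_lit 1018) (nat_lit 634) Col.c (nat_lit 636) Dv.df)) (Tr.nd (nat_lit 1020) (Tr.lf (Fc.ed (nat_lit 1019) (nat_lit 636) Col.b (nat_lit 537) (Dv.wd (nat_lit 7) [Mv.b (nat_lit 856), Mv.f (nat_lit 840), Mv.b (nat_lit 709), Mv.f (nat_lit 1014), Mv.f (nat_lit 1018)]))) (Tr.lf (Fc.ed (nat_lit 1020) (nat_lit 622) Col.b (nat_lit 637) Dv.df)))) (Tr.nd (nat_lit 1022) (Tr.lf (Fc.ed (nat_lit 1021) (nat_lit 637) Col.c (nat_lit 614) (Dv.wd (nat_lit 8) [Mv.b (nat_lit 981), Mv.b (nat_lit 637), Mv.b (nat_lit 938), Mv.f (nat_lit 995), Mv.f (nat_lit 1020)]))) (Tr.nd (nat_lit 1023) (Tr.lf (Fc.ed (nat_lit 1022) (nat_lit 555) Col.c (nat_lit 638) Dv.df)) (Tr.lf (Fc.ed (nat_lit 1023) (nat_lit 617) Col.a (nat_lit 639) Dv.df)))))) (Tr.nd (nat_lit 1030) (Tr.nd (nat_lit 1027) (Tr.nd (nat_lit 1025) (Tr.lf (Fc.ed (nat_lit 1024) (nat_lit 639) Col.d (nat_lit 566) (Dv.wd (nat_lit 6) [Mv.b (nat_lit 903), Mv.f (nat_lit 986), Mv.f (nat_lit 1023)]))) (Tr.nd (nat_lit 1026) (Tr.lf (Fc.ed (nat_lit 1025) (nat_lit 509) Col.d (nat_lit 640) Dv.df)) (Tr.lf (Fc.ed (nat_lit 1026) (nat_lit 640) Col.a (nat_lit 597) (Dv.wd (nat_lit 1) [Mv.f (nat_lit 993), Mv.f (nat_lit 994), Mv.f (nat_lit 1025)]))))) (Tr.nd (nat_lit 1028) (Tr.lf (Fc.ed (nat_lit 1027) (nat_lit 640) Col.b (nat_lit 570) (Dv.wd (nat_lit 5) [Mv.f (nat_lit 912), Mv.b (nat_lit 818), Mv.f (nat_lit 1025)]))) (Tr.nd (nat_lit 1029) (Tr.lf (Fc.ed (nat_lit 1028) (nat_lit 638) Col.a (nat_lit 641) Dv.df)) (Tr.lf (Fc.ed (nat_lit 1029) (nat_lit 641) Col.c (nat_lit 525) (Dv.wd (nat_lit 2) [Mv.b (nat_lit 886), Mv.f (nat_lit 1022), Mv.f (nat_lit 1028)])))))) (Tr.nd (nat_lit 1033) (Tr.nd (nat_lit 1031) (Tr.lf (Fc.ed (nat_lit 1030) (nat_lit 558) Col.b (nat_lit 642) Dv.df)) (Tr.nd (nat_lit 1032) (Tr.lf (Fc.ed (nat_lit 1031) (nat_lit 642) Col.d (nat_lit 514) (Dv.wd (nat_lit 3) [Mv.f (nat_lit 821), Mv.f (nat_lit 889), Mv.f (nat_lit 1030)]))) (Tr.lf (Fc.ed (nat_lit 1032) (nat_lit 451) Col.d (nat_lit 643) Dv.df)))) (Tr.nd (nat_lit 1034) (Tr.lf (Fc.ed (nat_lit 1033) (nat_lit 643) Col.b (nat_lit 560) (Dv.wd (nat_lit 5) [Mv.f (nat_lit 893), Mv.f (nat_lit 720), Mv.f (nat_lit 1032)]))) (Tr.nd (nat_lit 1035) (Tr.lf (Fc.ed (nat_lit 1034) (nat_lit 639) Col.c (nat_lit 644) Dv.df)) (Tr.lf (Fc.ed (nat_lit 1035) (nat_lit 644) Col.d (nat_lit 641) (Dv.wd (nat_lit 10) [Mv.f (nat_lit 1029), Mv.f (nat_lit 838), Mv.b (nat_lit 546), Mv.f (nat_lit 497), Mv.b (nat_lit 775), Mv.f (nat_lit 986), Mv.f (nat_lit 1023), Mv.f (nat_lit 1034)])))))))))) (Tr.nd (nat_lit 1083) (Tr.nd (nat_lit 1059) (Tr.nd (nat_lit 1047) (Tr.nd (nat_lit 1041) (Tr.nd (nat_lit 1038) (Tr.nd (nat_lit 1037) (Tr.lf (Fc.ed (nat_lit 1036) (nat_lit 415) Col.c (nat_lit 645) Dv.df)) (Tr.lf (Fc.ed (nat_lit 1037) (nat_lit 640) Col.c (nat_lit 646) Dv.df))) (Tr.nd (nat_lit 1039) (Tr.lf (Fc.ed (nat_lit 1038) (nat_lit 646) Col.a (nat_lit 541) (Dv.wd (nat_lit 4) [Mv.f (nat_lit 952), Mv.b (nat_lit 1026), Mv.f (nat_lit 1037)]))) (Tr.nd (nat_lit 1040) (Tr.lf (Fc.ed (nat_lit 1039) (nat_lit 498) Col.a (nat_lit 647) Dv.df)) (Tr.lf (Fc.ed (nat_lit 1040) (nat_lit 647) Col.d (nat_lit 646) (Dv.wd (nat_lit 6) [Mv.f (nat_lit 1038), Mv.b (nat_lit 861), Mv.f (nat_lit 1039)])))))) (Tr.nd (nat_lit 1044) (Tr.nd (nat_lit 1042) (Tr.lf (Fc.ed (nat_lit 1041) (nat_lit 465) Col.d (nat_lit 648) Dv.df)) (Tr.nd (nat_lit 1043) (Tr.lf (Fc.ed (nat_lit 1042) (nat_lit 648) Col.a (nat_lit 643) (Dv.wd (nat_lit 1) [Mv.b (nat_lit 1032), Mv.b (nat_lit 742), Mv.f (nat_lit 1041)]))) (Tr.lf (Fc.ed (nat_lit 1043) (nat_lit 434) Col.b (nat_lit 649) Dv.df)))) (Tr.nd (nat_lit 1045) (Tr.lf (Fc.ed (nat_lit 1044) (nat_lit 648) Col.c (nat_lit 650) Dv.df)) (Tr.nd (nat_lit 1046) (Tr.lf (Fc.ed (nat_lit 1045) (nat_lit 565) Col.a (nat_lit 651) Dv.df)) (Tr.lf (Fc.ed (nat_lit 1046) (nat_lit 651) Col.c (nat_lit 592) (Dv.wd (nat_lit 2) [Mv.f (nat_lit 945), Mv.b (nat_lit 902), Mv.f (nat_lit 1045)]))))))) (Tr.nd (nat_lit 1053) (Tr.nd (nat_lit 1050) (Tr.nd (nat_lit 1048) (Tr.lf (Fc.ed (nat_lit 1047) (nat_lit 645) Col.b (nat_lit 652) Dv.df)) (Tr.nd (nat_lit 1049) (Tr.lf (Fc.ed (nat_lit 1048) (nat_lit 652) Col.c (nat_lit 649) (Dv.wd (nat_lit 8) [Mv.b (nat_lit 1043), Mv.b (nat_lit 691), Mv.f (nat_lit 659), Mv.f (nat_lit 1036), Mv.f (nat_lit 1047)]))) (Tr.lf (Fc.ed (nat_lit 1049) (nat_lit 650) Col.a (nat_lit 653) Dv.df)))) (Tr.nd (nat_lit 1051) (Tr.lf (Fc.ed (nat_lit 1050) (nat_lit 653) Col.c (nat_lit 643) (Dv.wd (nat_lit 2) [Mv.b (nat_lit 1042), Mv.f (nat_lit 1044), Mv.f (nat_lit 1049)]))) (Tr.nd (nat_lit 1052) (Tr.lf (Fc.ed (nat_lit 1051) (nat_lit 631) Col.d (nat_lit 654) Dv.df)) (Tr.lf (Fc.ed (nat_lit 1052) (nat_lit 654) Col.b (nat_lit 493) (Dv.wd (nat_lit 5) [Mv.b (nat_lit 788), Mv.f (nat_lit 1011), Mv.f (nat_lit 1051)])))))) (Tr.nd (nat_lit 1056) (Tr.nd (nat_lit 1054) (Tr.lf (Fc.ed (nat_lit 1053) (nat_lit 631) Col.c (nat_lit 655) Dv.df)) (Tr.nd (nat_lit 1055) (Tr.lf (Fc.ed (nat_lit 1054) (nat_lit 629) Col.c (nat_lit 656) Dv.df)) (Tr.lf (Fc.ed (nat_lit 1055) (nat_lit 651) Col.d (nat_lit 657) Dv.df)))) (Tr.nd (nat_lit 1057) (Tr.lf (Fc.ed (nat_lit 1056) (nat_lit 504) Col.d (nat_lit 658) Dv.df)) (Tr.nd (nat_lit 1058) (Tr.lf (Fc.ed (nat_lit 1057) (nat_lit 658) Col.b (nat_lit 584) (Dv.wd (nat_lit 5) [Mv.b (nat_lit 935), Mv.f (nat_lit 804), Mv.f (nat_lit 1056)]))) (Tr.lf (Fc.ed (nat_lit 1058) (nat_lit 657) Col.c (nat_lit 659) Dv.df))))))) (Tr.nd (nat_lit 1071) (Tr.nd (nat_lit 1065) (Tr.nd (nat_lit 1062) (Tr.nd (nat_lit 1060) (Tr.lf (Fc.ed (nat_lit 1059) (nat_lit 659) Col.d (nat_lit 627) (Dv.wd (nat_lit 13) [Mv.b (nat_lit 1003), Mv.f (nat_lit 997), Mv.b (nat_lit 648), Mv.b (nat_lit 705), Mv.b (nat_lit 945), Mv.b (nat_lit 1046), Mv.f (nat_lit 1055), Mv.f (nat_lit 1058)]))) (Tr.nd (nat_lit 1061) (Tr.lf (Fc.ed (nat_lit 1060) (nat_lit 510) Col.d (nat_lit 660) Dv.df)) (Tr.lf (Fc.ed (nat_lit 1061) (nat_lit 660) Col.b (nat_lit 567) (Dv.wd (nat_lit 5) [Mv.b (nat_lit 905), Mv.f (nat_lit 855), Mv.f (nat_lit 1060)]))))) (Tr.nd (nat_lit 1063) (Tr.lf (Fc.ed (nat_lit 1062) (nat_lit 657) Col.a (nat_lit 661) Dv.df)) (Tr.nd (nat_lit 1064) (Tr.lf (Fc.ed (nat_lit 1063) (nat_lit 661) Col.d (nat_lit 565) (Dv.wd (nat_lit 6) [Mv.f (nat_lit 1045), Mv.f (nat_lit 1055), Mv.f (nat_lit 1062)]))) (Tr.lf (Fc.ed (nat_lit 1064) (nat_lit 549) Col.b (nat_lit 661) (Dv.wd (nat_lit 15) [Mv.f (nat_lit 1063), Mv.b (nat_lit 901), Mv.f (nat_lit 874)])))))) (Tr.nd (nat_lit 1068) (Tr.nd (nat_lit 1066) (Tr.lf (Fc.ed (nat_lit 1065) (nat_lit 661) Col.c (nat_lit 662) Dv.df)) (Tr.nd (nat_lit 1067) (Tr.lf (Fc.ed (nat_lit 1066) (nat_lit 662) Col.a (nat_lit 659) (Dv.wd (nat_lit 4) [Mv.b (nat_lit 1058), Mv.f (nat_lit 1062), Mv.f (nat_lit 1065)]))) (Tr.lf (Fc.ed (nat_lit 1067) (nat_lit 469) Col.a (nat_lit 663) Dv.df)))) (Tr.nd (nat_lit 1069) (Tr.lf (Fc.ed (nat_lit 1068) (nat_lit 457) Col.b (nat_lit 664) Dv.df)) (Tr.nd (nat_lit 1070) (Tr.lf (Fc.ed (nat_lit 1069) (nat_lit 662) Col.d (nat_lit 665) Dv.df)) (Tr.lf (Fc.ed (nat_lit 1070) (nat_lit 665) Col.a (nat_lit 627) (Dv.wd (nat_lit 1) [Mv.b (nat_lit 1059), Mv.b (nat_lit 1066), Mv.f (nat_lit 1069)]))))))) (Tr.nd (nat_lit 1077) (Tr.nd (nat_lit 1074) (Tr.nd (nat_lit 1072) (Tr.lf (Fc.ed (nat_lit 1071) (nat_lit 448) Col.a (nat_lit 666) Dv.df)) (Tr.nd (nat_lit 1073) (Tr.lf (Fc.ed (nat_lit 1072) (nat_lit 655) Col.b (nat_lit 667) Dv.df)) (Tr.lf (Fc.ed (nat_lit 1073) (nat_lit 667) Col.c (nat_lit 591) (Dv.wd (nat_lit 8) [Mv.b (nat_lit 943), Mv.f (nat_lit 698), Mv.f (nat_lit 1011), Mv.f (nat_lit 1053), Mv.f (nat_lit 1072)]))))) (Tr.nd (nat_lit 1075) (Tr.lf (Fc.ed (nat_lit 1074) (nat_lit 453) Col.a (nat_lit 668) Dv.df)) (Tr.nd (nat_lit 1076) (Tr.lf (Fc.ed (nat_lit 1075) (nat_lit 668) Col.d (nat_lit 666) (Dv.wd (nat_lit 6) [Mv.b (nat_lit 1071), Mv.f (nat_lit 724), Mv.f (nat_lit 1074)]))) (Tr.lf (Fc.ed (nat_lit 1076) (nat_lit 593) Col.c (nat_lit 669) Dv.df))))) (Tr.nd (nat_lit 1080) (Tr.nd (nat_lit 1078) (Tr.lf (Fc.ed (nat_lit 1077) (nat_lit 455) Col.a (nat_lit 670) Dv.df)) (Tr.nd (nat_lit 1079) (Tr.lf (Fc.ed (nat_lit 1078) (nat_lit 470) Col.b (nat_lit 671) Dv.df)) (Tr.lf (Fc.ed (nat_lit 1079) (nat_lit 616) Col.c (nat_lit 672) Dv.df)))) (Tr.nd (nat_lit 1081) (Tr.lf (Fc.ed (nat_lit 1080) (nat_lit 499) Col.b (nat_lit 673) Dv.df)) (Tr.nd (nat_lit 1082) (Tr.lf (Fc.ed (nat_lit 1081) (nat_lit 664) Col.d (nat_lit 674) Dv.df)) (Tr.lf (Fc.ed (nat_lit 1082) (nat_lit 674) Col.b (nat_lit 482) (Dv.wd (nat_lit 5) [Mv.f (nat_lit 770), Mv.f (nat_lit 1068), Mv.f (nat_lit 1081)]))))))))) (Tr.nd (nat_lit 1107) (Tr.nd (nat_lit 1095) (Tr.nd (nat_lit 1089) (Tr.nd (nat_lit 1086) (Tr.nd (nat_lit 1084) (Tr.lf (Fc.ed (nat_lit 1083) (nat_lit 573) Col.d (nat_lit 675) Dv.df)) (Tr.nd (nat_lit 1085) (Tr.lf (Fc.ed (nat_lit 1084) (nat_lit 675) Col.b (nat_lit 479) (Dv.wd (nat_lit 5) [Mv.f (nat_lit 915), Mv.f (nat_lit 917), Mv.f (nat_lit 1083)]))) (Tr.lf (Fc.ed (nat_lit 1085) (nat_lit 580) Col.b (nat_lit 676) Dv.df)))) (Tr.nd (nat_lit 1087) (Tr.lf (Fc.ed (nat_lit 1086) (nat_lit 676) Col.d (nat_lit 649) (Dv.wd (nat_lit 3) [Mv.b (nat_lit 1043), Mv.f (nat_lit 927), Mv.f (nat_lit 1085)]))) (Tr.nd (nat_lit 1088) (Tr.lf (Fc.ed (nat_lit 1087) (nat_lit 670) Col.c (nat_lit 677) Dv.df)) (Tr.lf (Fc.ed (nat_lit 1088) (nat_lit 577) Col.a (nat_lit 678) Dv.df))))) (Tr.nd (nat_lit 1092) (Tr.nd (nat_lit 1090) (Tr.lf (Fc.ed (nat_lit 1089) (nat_lit 678) Col.c (nat_lit 606) (Dv.wd (nat_lit 2) [Mv.b (nat_lit 968), Mv.f (nat_lit 923), Mv.f (nat_lit 1088)]))) (Tr.nd (nat_lit 1091) (Tr.lf (Fc.ed (nat_lit 1090) (nat_lit 668) Col.b (nat_lit 679) Dv.df)) (Tr.lf (Fc.ed (nat_lit 1091) (nat_lit 673) Col.a (nat_lit 680) Dv.df)))) (Tr.nd (nat_lit 1093) (Tr.lf (Fc.ed (nat_lit 1092) (nat_lit 671) Col.a (nat_lit 681) Dv.df)) (Tr.nd (nat_lit 1094) (Tr.lf (Fc.ed (nat_lit 1093) (nat_lit 681) Col.b (nat_lit 680) (Dv.wd (nat_lit 9) [Mv.b (nat_lit 1091), Mv.b (nat_lit 1080), Mv.b (nat_lit 796), Mv.f (nat_lit 498), Mv.f (nat_lit 294), Mv.f (nat_lit 370), Mv.f (nat_lit 750), Mv.f (nat_lit 1078), Mv.f (nat_lit 1092)]))) (Tr.lf (Fc.ed (nat_lit 1094) (nat_lit 671) Col.c (nat_lit 682) Dv.df)))))) (Tr.nd (nat_lit 1101) (Tr.nd (nat_lit 1098) (Tr.nd (nat_lit 1096) (Tr.lf (Fc.ed (nat_lit 1095) (nat_lit 483) Col.b (nat_lit 683) Dv.df)) (Tr.nd (nat_lit 1097) (Tr.lf (Fc.ed (nat_lit 1096) (nat_lit 576) Col.a (nat_lit 684) Dv.df)) (Tr.lf (Fc.ed (nat_lit 1097) (nat_lit 477) Col.c (nat_lit 685) Dv.df)))) (Tr.nd (nat_lit 1099) (Tr.lf (Fc.ed (nat_lit 1098) (nat_lit 674) Col.a (nat_lit 686) Dv.df)) (Tr.nd (nat_lit 1100) (Tr.lf (Fc.ed (nat_lit 1099) (nat_lit 617) Col.b (nat_lit 687) Dv.df)) (Tr.lf (Fc.ed (nat_lit 1100) (nat_lit 687) Col.d (nat_lit 484) (Dv.wd (nat_lit 3) [Mv.f (nat_lit 774), Mv.f (nat_lit 986), Mv.f (nat_lit 1099)])))))) (Tr.nd (nat_lit 1104) (Tr.nd (nat_lit 1102) (Tr.lf (Fc.ed (nat_lit 1101) (nat_lit 679) Col.a (nat_lit 688) Dv.df)) (Tr.nd (nat_lit 1103) (Tr.lf (Fc.ed (nat_lit 1102) (nat_lit 688) Col.b (nat_lit 686) (Dv.wd (nat_lit 9) [Mv.b (nat_lit 1098), Mv.f (nat_lit 1082), Mv.b (nat_lit 769), Mv.b (nat_lit 425), Mv.b (nat_lit 296), Mv.b (nat_lit 725), Mv.f (nat_lit 1074), Mv.f (nat_lit 1090), Mv.f (nat_lit 1101)]))) (Tr.lf (Fc.ed (nat_lit 1103) (nat_lit 660) Col.a (nat_lit 689) Dv.df)))) (Tr.nd (nat_lit 1105) (Tr.lf (Fc.ed (nat_lit 1104) (nat_lit 687) Col.c (nat_lit 690) Dv.df)) (Tr.nd (nat_lit 1106) (Tr.lf (Fc.ed (nat_lit 1105) (nat_lit 654) Col.c (nat_lit 691) Dv.df)) (Tr.lf (Fc.ed (nat_lit 1106) (nat_lit 691) Col.b (nat_lit 529) (Dv.wd (nat_lit 7) [Mv.b (nat_lit 847), Mv.f (nat_lit 846), Mv.f (nat_lit 811), Mv.b (nat_lit 1052), Mv.f (nat_lit 1105)])))))))) (Tr.nd (nat_lit 1119) (Tr.nd (nat_lit 1113) (Tr.nd (nat_lit 1110) (Tr.nd (nat_lit 1108) (Tr.lf (Fc.ed (nat_lit 1107) (nat_lit 605) Col.d (nat_lit 692) Dv.df)) (Tr.nd (nat_lit 1109) (Tr.lf (Fc.ed (nat_lit 1108) (nat_lit 692) Col.b (nat_lit 604) (Dv.wd (nat_lit 5) [Mv.b (nat_lit 964), Mv.b (nat_lit 967), Mv.f (nat_lit 1107)]))) (Tr.lf (Fc.ed (nat_lit 1109) (nat_lit 692) Col.a (nat_lit 690) (Dv.wd (nat_lit 19) [Mv.b (nat_lit 1104), Mv.f (nat_lit 1100), Mv.b (nat_lit 773), Mv.b (nat_lit 724), Mv.b (nat_lit 716), Mv.f (nat_lit 962), Mv.f (nat_lit 966), Mv.f (nat_lit 1107)]))))) (Tr.nd (nat_lit 1111) (Tr.lf (Fc.ed (nat_lit 1110) (nat_lit 687) Col.a (nat_lit 693) Dv.df)) (Tr.nd (nat_lit 1112) (Tr.lf (Fc.ed (nat_lit 1111) (nat_lit 693) Col.c (nat_lit 692) (Dv.wd (nat_lit 2) [Mv.f (nat_lit 1109), Mv.b (nat_lit 1104), Mv.f (nat_lit 1110)]))) (Tr.lf (Fc.ed (nat_lit 1112) (nat_lit 682) Col.b (nat_lit 694) Dv.df))))) (Tr.nd (nat_lit 1116) (Tr.nd (nat_lit 1114) (Tr.lf (Fc.ed (nat_lit 1113) (nat_lit 694) Col.c (nat_lit 619) (Dv.wd (nat_lit 8) [Mv.b (nat_lit 989), Mv.b (nat_lit 751), Mv.f (nat_lit 1078), Mv.f (nat_lit 1094), Mv.f (nat_lit 1112)]))) (Tr.nd (nat_lit 1115) (Tr.lf (Fc.ed (nat_lit 1114) (nat_lit 615) Col.d (nat_lit 695) Dv.df)) (Tr.lf (Fc.ed (nat_lit 1115) (nat_lit 695) Col.b (nat_lit 559) (Dv.wd (nat_lit 5) [Mv.b (nat_lit 890), Mv.f (nat_lit 982), Mv.f (nat_lit 1114)]))))) (Tr.nd (nat_lit 1117) (Tr.lf (Fc.ed (nat_lit 1116) (nat_lit 695) Col.c (nat_lit 689) (Dv.wd (nat_lit 20) [Mv.b (nat_lit 1103), Mv.b (nat_lit 1060), Mv.b (nat_lit 814), Mv.f (nat_lit 798), Mv.f (nat_lit 736), Mv.f (nat_lit 970), Mv.b (nat_lit 983), Mv.f (nat_lit 1114)]))) (Tr.nd (nat_lit 1118) (Tr.lf (Fc.ed (nat_lit 1117) (nat_lit 675) Col.c (nat_lit 696) Dv.df)) (Tr.lf (Fc.ed (nat_lit 1118) (nat_lit 693) Col.d (nat_lit 697) Dv.df)))))) (Tr.nd (nat_lit 1125) (Tr.nd (nat_lit 1122) (Tr.nd (nat_lit 1120) (Tr.lf (Fc.ed (nat_lit 1119) (nat_lit 697) Col.c (nat_lit 668) (Dv.wd (nat_lit 16) [Mv.f (nat_lit 1075), Mv.b (nat_lit 1071), Mv.b (nat_lit 716), Mv.f (nat_lit 962), Mv.f (nat_lit 966), Mv.f (nat_lit 1107), Mv.b (nat_lit 1111), Mv.f (nat_lit 1118)]))) (Tr.nd (nat_lit 1121) (Tr.lf (Fc.ed (nat_lit 1120) (nat_lit 677) Col.d (nat_lit 698) Dv.df)) (Tr.lf (Fc.ed (nat_lit 1121) (nat_lit 698) Col.c (nat_lit 699) Dv.df)))) (Tr.nd (nat_lit 1123) (Tr.lf (Fc.ed (nat_lit 1122) (nat_lit 699) Col.d (nat_lit 696) (Dv.wd (nat_lit 13) [Mv.b (nat_lit 1117), Mv.b (nat_lit 1083), Mv.f (nat_lit 918), Mv.b (nat_lit 748), Mv.f (nat_lit 1077), Mv.f (nat_lit 1087), Mv.f (nat_lit 1120), Mv.f (nat_lit 1121)]))) (Tr.nd (nat_lit 1124) (Tr.lf (Fc.ed (nat_lit 1123) (nat_lit 699) Col.a (nat_lit 700) Dv.df)) (Tr.lf (Fc.ed (nat_lit 1124) (nat_lit 505) Col.d (nat_lit 701) Dv.df))))) (Tr.nd (nat_lit 1128) (Tr.nd (nat_lit 1126) (Tr.lf (Fc.ed (nat_lit 1125) (nat_lit 490) Col.a (nat_lit 702) Dv.df)) (Tr.nd (nat_lit 1127) (Tr.lf (Fc.ed (nat_lit 1126) (nat_lit 492) Col.d (nat_lit 703) Dv.df)) (Tr.lf (Fc.ed (nat_lit 1127) (nat_lit 703) Col.b (nat_lit 701) (Dv.wd (nat_lit 5) [Mv.b (nat_lit 1124), Mv.f (nat_lit 807), Mv.f (nat_lit 1126)]))))) (Tr.nd (nat_lit 1129) (Tr.lf (Fc.ed (nat_lit 1128) (nat_lit 703) Col.c (nat_lit 700) (Dv.wd (nat_lit 20) [Mv.b (nat_lit 1123), Mv.f (nat_lit 1122), Mv.b (nat_lit 1117), Mv.b (nat_lit 1083), Mv.f (nat_lit 918), Mv.b (nat_lit 748), Mv.f (nat_lit 787), Mv.f (nat_lit 1126)]))) (Tr.nd (nat_lit 1130) (Tr.lf (Fc.ed (nat_lit 1129) (nat_lit 701) Col.c (nat_lit 704) Dv.df)) (Tr.lf (Fc.ed (nat_lit 1130) (nat_lit 702) Col.c (nat_lit 705) Dv.df))))))))))) (Tr.nd (nat_lit 1320) (Tr.nd (nat_lit 1225) (Tr.nd (nat_lit 1178) (Tr.nd (nat_lit 1154) (Tr.nd (nat_lit 1142) (Tr.nd (nat_lit 1136) (Tr.nd (nat_lit 1133) (Tr.nd (nat_lit 1132) (Tr.lf (Fc.ed (nat_lit 1131) (nat_lit 705) Col.a (nat_lit 522) (Dv.wd (nat_lit 4) [Mv.f (nat_lit 833), Mv.f (nat_lit 1125), Mv.f (nat_lit 1130)]))) (Tr.lf (Fc.ed (nat_lit 1132) (nat_lit 705) Col.d (nat_lit 706) Dv.df))) (Tr.nd (nat_lit 1134) (Tr.lf (Fc.ed (nat_lit 1133) (nat_lit 706) Col.c (nat_lit 658) (Dv.wd (nat_lit 11) [Mv.b (nat_lit 1056), Mv.f (nat_lit 805), Mv.f (nat_lit 800), Mv.f (nat_lit 781), Mv.b (nat_lit 784), Mv.f (nat_lit 1125), Mv.f (nat_lit 1130), Mv.f (nat_lit 1132)]))) (Tr.nd (nat_lit 1135) (Tr.lf (Fc.ed (nat_lit 1134) (nat_lit 704) Col.d (nat_lit 707) Dv.df)) (Tr.lf (Fc.ed (nat_lit 1135) (nat_lit 519) Col.b (nat_lit 708) Dv.df))))) (Tr.nd (nat_lit 1139) (Tr.nd (nat_lit 1137) (Tr.lf (Fc.ed (nat_lit 1136) (nat_lit 663) Col.c (nat_lit 709) Dv.df)) (Tr.nd (nat_lit 1138) (Tr.lf (Fc.ed (nat_lit 1137) (nat_lit 709) Col.a (nat_lit 573) (Dv.wd (nat_lit 4) [Mv.f (nat_lit 918), Mv.f (nat_lit 1067), Mv.f (nat_lit 1136)]))) (Tr.lf (Fc.ed (nat_lit 1138) (nat_lit 563) Col.a (nat_lit 710) Dv.df)))) (Tr.nd (nat_lit 1140) (Tr.lf (Fc.ed (nat_lit 1139) (nat_lit 685) Col.b (nat_lit 711) Dv.df)) (Tr.nd (nat_lit 1141) (Tr.lf (Fc.ed (nat_lit 1140) (nat_lit 711) Col.c (nat_lit 708) (Dv.wd (nat_lit 8) [Mv.b (nat_lit 1135), Mv.b (nat_lit 826), Mv.f (nat_lit 761), Mv.f (nat_lit 1097), Mv.f (nat_lit 1139)]))) (Tr.lf (Fc.ed (nat_lit 1141) (nat_lit 696) Col.a (nat_lit 712) Dv.df)))))) (Tr.nd (nat_lit 1148) (Tr.nd (nat_lit 1145) (Tr.nd (nat_lit 1143) (Tr.lf (Fc.ed (nat_lit 1142) (nat_lit 712) Col.d (nat_lit 700) (Dv.wd (nat_lit 6) [Mv.b (nat_lit 1123), Mv.f (nat_lit 1122), Mv.f (nat_lit 1141)]))) (Tr.nd (nat_lit 1144) (Tr.lf (Fc.ed (nat_lit 1143) (nat_lit 709) Col.d (nat_lit 713) Dv.df)) (Tr.lf (Fc.ed (nat_lit 1144) (nat_lit 713) Col.a (nat_lit 675) (Dv.wd (nat_lit 1) [Mv.b (nat_lit 1083), Mv.b (nat_lit 1137), Mv.f (nat_lit 1143)]))))) (Tr.nd (nat_lit 1146) (Tr.lf (Fc.ed (nat_lit 1145) (nat_lit 713) Col.c (nat_lit 712) (Dv.wd (nat_lit 11) [Mv.f (nat_lit 1142), Mv.b (nat_lit 1128), Mv.b (nat_lit 1126), Mv.b (nat_lit 787), Mv.f (nat_lit 748), Mv.f (nat_lit 1067), Mv.f (nat_lit 1136), Mv.f (nat_lit 1143)]))) (Tr.nd (nat_lit 1147) (Tr.lf (Fc.ed (nat_lit 1146) (nat_lit 645) Col.d (nat_lit 714) Dv.df)) (Tr.lf (Fc.ed (nat_lit 1147) (nat_lit 714) Col.c (nat_lit 707) (Dv.wd (nat_lit 11) [Mv.b (nat_lit 1134), Mv.b (nat_lit 1129), Mv.b (nat_lit 1124), Mv.b (nat_lit 806), Mv.f (nat_lit 650), Mv.b (nat_lit 660), Mv.f (nat_lit 1036), Mv.f (nat_lit 1146)])))))) (Tr.nd (nat_lit 1151) (Tr.nd (nat_lit 1149) (Tr.lf (Fc.ed (nat_lit 1148) (nat_lit 512) Col.b (nat_lit 715) Dv.df)) (Tr.nd (nat_lit 1150) (Tr.lf (Fc.ed (nat_lit 1149) (nat_lit 715) Col.d (nat_lit 691) (Dv.wd (nat_lit 3) [Mv.f (nat_lit 1106), Mv.b (nat_lit 844), Mv.f (nat_lit 1148)]))) (Tr.lf (Fc.ed (nat_lit 1150) (nat_lit 520) Col.a (nat_lit 716) Dv.df)))) (Tr.nd (nat_lit 1152) (Tr.lf (Fc.ed (nat_lit 1151) (nat_lit 534) Col.b (nat_lit 717) Dv.df)) (Tr.nd (nat_lit 1153) (Tr.lf (Fc.ed (nat_lit 1152) (nat_lit 717) Col.d (nat_lit 521) (Dv.wd (nat_lit 3) [Mv.b (nat_lit 842), Mv.f (nat_lit 851), Mv.f (nat_lit 1151)]))) (Tr.lf (Fc.ed (nat_lit 1153) (nat_lit 515) Col.a (nat_lit 718) Dv.df))))))) (Tr.nd (nat_lit 1166) (Tr.nd (nat_lit 1160) (Tr.nd (nat_lit 1157) (Tr.nd (nat_lit 1155) (Tr.lf (Fc.ed (nat_lit 1154) (nat_lit 718) Col.c (nat_lit 710) (Dv.wd (nat_lit 2) [Mv.b (nat_lit 1138), Mv.b (nat_lit 898), Mv.f (nat_lit 1153)]))) (Tr.nd (nat_lit 1156) (Tr.lf (Fc.ed (nat_lit 1155) (nat_lit 718) Col.d (nat_lit 716) (Dv.wd (nat_lit 6) [Mv.b (nat_lit 1150), Mv.f (nat_lit 830), Mv.f (nat_lit 1153)]))) (Tr.lf (Fc.ed (nat_lit 1156) (nat_lit 497) Col.b (nat_lit 719) Dv.df)))) (Tr.nd (nat_lit 1158) (Tr.lf (Fc.ed (nat_lit 1157) (nat_lit 523) Col.b (nat_lit 720) Dv.df)) (Tr.nd (nat_lit 1159) (Tr.lf (Fc.ed (nat_lit 1158) (nat_lit 720) Col.d (nat_lit 719) (Dv.wd (nat_lit 3) [Mv.b (nat_lit 1156), Mv.f (nat_lit 834), Mv.f (nat_lit 1157)]))) (Tr.lf (Fc.ed (nat_lit 1159) (nat_lit 716) Col.c (nat_lit 721) Dv.df))))) (Tr.nd (nat_lit 1163) (Tr.nd (nat_lit 1161) (Tr.lf (Fc.ed (nat_lit 1160) (nat_lit 721) Col.a (nat_lit 521) (Dv.wd (nat_lit 4) [Mv.b (nat_lit 831), Mv.f (nat_lit 1150), Mv.f (nat_lit 1159)]))) (Tr.nd (nat_lit 1162) (Tr.lf (Fc.ed (nat_lit 1161) (nat_lit 508) Col.a (nat_lit 722) Dv.df)) (Tr.lf (Fc.ed (nat_lit 1162) (nat_lit 674) Col.c (nat_lit 723) Dv.df)))) (Tr.nd (nat_lit 1164) (Tr.lf (Fc.ed (nat_lit 1163) (nat_lit 715) Col.c (nat_lit 724) Dv.df)) (Tr.nd (nat_lit 1165) (Tr.lf (Fc.ed (nat_lit 1164) (nat_lit 724) Col.b (nat_lit 723) (Dv.wd (nat_lit 7) [Mv.b (nat_lit 1162), Mv.f (nat_lit 1082), Mv.f (nat_lit 817), Mv.f (nat_lit 1148), Mv.f (nat_lit 1163)]))) (Tr.lf (Fc.ed (nat_lit 1165) (nat_lit 722) Col.d (nat_lit 725) Dv.df)))))) (Tr.nd (nat_lit 1172) (Tr.nd (nat_lit 1169) (Tr.nd (nat_lit 1167) (Tr.lf (Fc.ed (nat_lit 1166) (nat_lit 725) Col.a (nat_lit 624) (Dv.wd (nat_lit 1) [Mv.b (nat_lit 998), Mv.f (nat_lit 1161), Mv.f (nat_lit 1165)]))) (Tr.nd (nat_lit 1168) (Tr.lf (Fc.ed (nat_lit 1167) (nat_lit 518) Col.b (nat_lit 726) Dv.df)) (Tr.lf (Fc.ed (nat_lit 1168) (nat_lit 726) Col.d (nat_lit 708) (Dv.wd (nat_lit 3) [Mv.b (nat_lit 1135), Mv.f (nat_lit 828), Mv.f (nat_lit 1167)]))))) (Tr.nd (nat_lit 1170) (Tr.lf (Fc.ed (nat_lit 1169) (nat_lit 717) Col.c (nat_lit 727) Dv.df)) (Tr.nd (nat_lit 1171) (Tr.lf (Fc.ed (nat_lit 1170) (nat_lit 514) Col.a (nat_lit 728) Dv.df)) (Tr.lf (Fc.ed (nat_lit 1171) (nat_lit 728) Col.c (nat_lit 722) (Dv.wd (nat_lit 2) [Mv.b (nat_lit 1161), Mv.f (nat_lit 820), Mv.f (nat_lit 1170)])))))) (Tr.nd (nat_lit 1175) (Tr.nd (nat_lit 1173) (Tr.lf (Fc.ed (nat_lit 1172) (nat_lit 689) Col.b (nat_lit 729) Dv.df)) (Tr.nd (nat_lit 1174) (Tr.lf (Fc.ed (nat_lit 1173) (nat_lit 729) Col.c (nat_lit 720) (Dv.wd (nat_lit 8) [Mv.b (nat_lit 1157), Mv.b (nat_lit 891), Mv.b (nat_lit 1115), Mv.f (nat_lit 1116), Mv.f (nat_lit 1172)]))) (Tr.lf (Fc.ed (nat_lit 1174) (nat_lit 728) Col.d (nat_lit 730) Dv.df)))) (Tr.nd (nat_lit 1176) (Tr.lf (Fc.ed (nat_lit 1175) (nat_lit 730) Col.a (nat_lit 642) (Dv.wd (nat_lit 1) [Mv.f (nat_lit 1031), Mv.f (nat_lit 1170), Mv.f (nat_lit 1174)]))) (Tr.nd (nat_lit 1177) (Tr.lf (Fc.ed (nat_lit 1176) (nat_lit 636) Col.d (nat_lit 731) Dv.df)) (Tr.lf (Fc.ed (nat_lit 1177) (nat_lit 731) Col.b (nat_lit 548) (Dv.wd (nat_lit 5) [Mv.b (nat_lit 872), Mv.b (nat_lit 1019), Mv.f (nat_lit 1176)]))))))))) (Tr.nd (nat_lit 1201) (Tr.nd (nat_lit 1189) (Tr.nd (nat_lit 1183) (Tr.nd (nat_lit 1180) (Tr.nd (nat_lit 1179) (Tr.lf (Fc.ed (nat_lit 1178) (nat_lit 710) Col.d (nat_lit 732) Dv.df)) (Tr.lf (Fc.ed (nat_lit 1179) (nat_lit 641) Col.b (nat_lit 733) Dv.df))) (Tr.nd (nat_lit 1181) (Tr.lf (Fc.ed (nat_lit 1180) (nat_lit 733) Col.c (nat_lit 726) (Dv.wd (nat_lit 8) [Mv.b (nat_lit 1167), Mv.b (nat_lit 825), Mv.f (nat_lit 837), Mv.b (nat_lit 1029), Mv.f (nat_lit 1179)]))) (Tr.nd (nat_lit 1182) (Tr.lf (Fc.ed (nat_lit 1181) (nat_lit 683) Col.c (nat_lit 734) Dv.df)) (Tr.lf (Fc.ed (nat_lit 1182) (nat_lit 624) Col.c (nat_lit 735) Dv.df))))) (Tr.nd (nat_lit 1186) (Tr.nd (nat_lit 1184) (Tr.lf (Fc.ed (nat_lit 1183) (nat_lit 735) Col.b (nat_lit 582) (Dv.wd (nat_lit 7) [Mv.b (nat_lit 931), Mv.f (nat_lit 930), Mv.b (nat_lit 867), Mv.b (nat_lit 999), Mv.f (nat_lit 1182)]))) (Tr.nd (nat_lit 1185) (Tr.lf (Fc.ed (nat_lit 1184) (nat_lit 721) Col.d (nat_lit 736) Dv.df)) (Tr.lf (Fc.ed (nat_lit 1185) (nat_lit 736) Col.a (nat_lit 717) (Dv.wd (nat_lit 1) [Mv.f (nat_lit 1152), Mv.b (nat_lit 1160), Mv.f (nat_lit 1184)]))))) (Tr.nd (nat_lit 1187) (Tr.lf (Fc.ed (nat_lit 1186) (nat_lit 719) Col.c (nat_lit 737) Dv.df)) (Tr.nd (nat_lit 1188) (Tr.lf (Fc.ed (nat_lit 1187) (nat_lit 732) Col.a (nat_lit 738) Dv.df)) (Tr.lf (Fc.ed (nat_lit 1188) (nat_lit 738) Col.d (nat_lit 563) (Dv.wd (nat_lit 6) [Mv.f (nat_lit 1138), Mv.f (nat_lit 1178), Mv.f (nat_lit 1187)]))))))) (Tr.nd (nat_lit 1195) (Tr.nd (nat_lit 1192) (Tr.nd (nat_lit 1190) (Tr.lf (Fc.ed (nat_lit 1189) (nat_lit 562) Col.b (nat_lit 738) (Dv.wd (nat_lit 15) [Mv.f (nat_lit 1188), Mv.f (nat_lit 899), Mv.b (nat_lit 897)]))) (Tr.nd (nat_lit 1191) (Tr.lf (Fc.ed (nat_lit 1190) (nat_lit 576) Col.c (nat_lit 739) Dv.df)) (Tr.lf (Fc.ed (nat_lit 1191) (nat_lit 727) Col.a (nat_lit 740) Dv.df)))) (Tr.nd (nat_lit 1193) (Tr.lf (Fc.ed (nat_lit 1192) (nat_lit 740) Col.c (nat_lit 736) (Dv.wd (nat_lit 2) [Mv.f (nat_lit 1185), Mv.f (nat_lit 1169), Mv.f (nat_lit 1191)]))) (Tr.nd (nat_lit 1194) (Tr.lf (Fc.ed (nat_lit 1193) (nat_lit 738) Col.c (nat_lit 741) Dv.df)) (Tr.lf (Fc.ed (nat_lit 1194) (nat_lit 741) Col.d (nat_lit 740) (Dv.wd (nat_lit 10) [Mv.f (nat_lit 1192), Mv.b (nat_lit 1184), Mv.b (nat_lit 1159), Mv.b (nat_lit 1155), Mv.f (nat_lit 1154), Mv.f (nat_lit 1178), Mv.f (nat_lit 1187), Mv.f (nat_lit 1193)])))))) (Tr.nd (nat_lit 1198) (Tr.nd (nat_lit 1196) (Tr.lf (Fc.ed (nat_lit 1195) (nat_lit 553) Col.b (nat_lit 742) Dv.df)) (Tr.nd (nat_lit 1197) (Tr.lf (Fc.ed (nat_lit 1196) (nat_lit 620) Col.d (nat_lit 743) Dv.df)) (Tr.lf (Fc.ed (nat_lit 1197) (nat_lit 589) Col.c (nat_lit 744) Dv.df)))) (Tr.nd (nat_lit 1199) (Tr.lf (Fc.ed (nat_lit 1198) (nat_lit 744) Col.b (nat_lit 737) (Dv.wd (nat_lit 7) [Mv.b (nat_lit 1186), Mv.b (nat_lit 1156), Mv.b (nat_lit 793), Mv.f (nat_lit 941), Mv.f (nat_lit 1197)]))) (Tr.nd (nat_lit 1200) (Tr.lf (Fc.ed (nat_lit 1199) (nat_lit 569) Col.b (nat_lit 745) Dv.df)) (Tr.lf (Fc.ed (nat_lit 1200) (nat_lit 568) Col.b (nat_lit 746) Dv.df))))))) (Tr.nd (nat_lit 1213) (Tr.nd (nat_lit 1207) (Tr.nd (nat_lit 1204) (Tr.nd (nat_lit 1202) (Tr.lf (Fc.ed (nat_lit 1201) (nat_lit 746) Col.d (nat_lit 745) (Dv.wd (nat_lit 3) [Mv.b (nat_lit 1199), Mv.b (nat_lit 909), Mv.f (nat_lit 1200)]))) (Tr.nd (nat_lit 1203) (Tr.lf (Fc.ed (nat_lit 1202) (nat_lit 739) Col.b (nat_lit 747) Dv.df)) (Tr.lf (Fc.ed (nat_lit 1203) (nat_lit 747) Col.c (nat_lit 746) (Dv.wd (nat_lit 8) [Mv.b (nat_lit 1200), Mv.b (nat_lit 907), Mv.b (nat_lit 922), Mv.f (nat_lit 1190), Mv.f (nat_lit 1202)]))))) (Tr.nd (nat_lit 1205) (Tr.lf (Fc.ed (nat_lit 1204) (nat_lit 741) Col.b (nat_lit 748) Dv.df)) (Tr.nd (nat_lit 1206) (Tr.lf (Fc.ed (nat_lit 1205) (nat_lit 748) Col.c (nat_lit 642) (Dv.wd (nat_lit 8) [Mv.b (nat_lit 1030), Mv.f (nat_lit 896), Mv.f (nat_lit 1189), Mv.f (nat_lit 1193), Mv.f (nat_lit 1204)]))) (Tr.lf (Fc.ed (nat_lit 1206) (nat_lit 742) Col.a (nat_lit 749) Dv.df))))) (Tr.nd (nat_lit 1210) (Tr.nd (nat_lit 1208) (Tr.lf (Fc.ed (nat_lit 1207) (nat_lit 665) Col.b (nat_lit 750) Dv.df)) (Tr.nd (nat_lit 1209) (Tr.lf (Fc.ed (nat_lit 1208) (nat_lit 731) Col.c (nat_lit 751) Dv.df)) (Tr.lf (Fc.ed (nat_lit 1209) (nat_lit 751) Col.b (nat_lit 734) (Dv.wd (nat_lit 7) [Mv.b (nat_lit 1181), Mv.b (nat_lit 1095), Mv.b (nat_lit 873), Mv.b (nat_lit 1177), Mv.f (nat_lit 1208)]))))) (Tr.nd (nat_lit 1211) (Tr.lf (Fc.ed (nat_lit 1210) (nat_lit 743) Col.b (nat_lit 752) Dv.df)) (Tr.nd (nat_lit 1212) (Tr.lf (Fc.ed (nat_lit 1211) (nat_lit 752) Col.d (nat_lit 564) (Dv.wd (nat_lit 3) [Mv.f (nat_lit 991), Mv.f (nat_lit 1196), Mv.f (nat_lit 1210)]))) (Tr.lf (Fc.ed (nat_lit 1212) (nat_lit 647) Col.b (nat_lit 753) Dv.df)))))) (Tr.nd (nat_lit 1219) (Tr.nd (nat_lit 1216) (Tr.nd (nat_lit 1214) (Tr.lf (Fc.ed (nat_lit 1213) (nat_lit 725) Col.c (nat_lit 754) Dv.df)) (Tr.nd (nat_lit 1215) (Tr.lf (Fc.ed (nat_lit 1214) (nat_lit 754) Col.a (nat_lit 735) (Dv.wd (nat_lit 4) [Mv.b (nat_lit 1182), Mv.b (nat_lit 1166), Mv.f (nat_lit 1213)]))) (Tr.lf (Fc.ed (nat_lit 1215) (nat_lit 662) Col.b (nat_lit 755) Dv.df)))) (Tr.nd (nat_lit 1217) (Tr.lf (Fc.ed (nat_lit 1216) (nat_lit 755) Col.d (nat_lit 750) (Dv.wd (nat_lit 3) [Mv.b (nat_lit 1207), Mv.b (nat_lit 1069), Mv.f (nat_lit 1215)]))) (Tr.nd (nat_lit 1218) (Tr.lf (Fc.ed (nat_lit 1217) (nat_lit 755) Col.c (nat_lit 742) (Dv.wd (nat_lit 8) [Mv.b (nat_lit 1195), Mv.b (nat_lit 881), Mv.f (nat_lit 1064), Mv.f (nat_lit 1065), Mv.f (nat_lit 1215)]))) (Tr.lf (Fc.ed (nat_lit 1218) (nat_lit 578) Col.a (nat_lit 756) Dv.df))))) (Tr.nd (nat_lit 1222) (Tr.nd (nat_lit 1220) (Tr.lf (Fc.ed (nat_lit 1219) (nat_lit 745) Col.c (nat_lit 757) Dv.df)) (Tr.nd (nat_lit 1221) (Tr.lf (Fc.ed (nat_lit 1220) (nat_lit 757) Col.b (nat_lit 646) (Dv.wd (nat_lit 7) [Mv.b (nat_lit 1037), Mv.f (nat_lit 1027), Mv.b (nat_lit 911), Mv.f (nat_lit 1199), Mv.f (nat_lit 1219)]))) (Tr.lf (Fc.ed (nat_lit 1221) (nat_lit 753) Col.d (nat_lit 757) (Dv.wd (nat_lit 21) [Mv.f (nat_lit 1220), Mv.b (nat_lit 1040), Mv.f (nat_lit 1212)]))))) (Tr.nd (nat_lit 1223) (Tr.lf (Fc.ed (nat_lit 1222) (nat_lit 561) Col.b (nat_lit 758) Dv.df)) (Tr.nd (nat_lit 1224) (Tr.lf (Fc.ed (nat_lit 1223) (nat_lit 756) Col.d (nat_lit 759) Dv.df)) (Tr.lf (Fc.ed (nat_lit 1224) (nat_lit 748) Col.d (nat_lit 760) Dv.df))))))))) (Tr.nd (nat_lit 1272) (Tr.nd (nat_lit 1248) (Tr.nd (nat_lit 1236) (Tr.nd (nat_lit 1230) (Tr.nd (nat_lit 1227) (Tr.nd (nat_lit 1226) (Tr.lf (Fc.ed (nat_lit 1225) (nat_lit 760) Col.b (nat_lit 740) (Dv.wd (nat_lit 5) [Mv.b (nat_lit 1194), Mv.f (nat_lit 1204), Mv.f (nat_lit 1224)]))) (Tr.lf (Fc.ed (nat_lit 1226) (nat_lit 566) Col.b (nat_lit 761) Dv.df))) (Tr.nd (nat_lit 1228) (Tr.lf (Fc.ed (nat_lit 1227) (nat_lit 729) Col.a (nat_lit 762) Dv.df)) (Tr.nd (nat_lit 1229) (Tr.lf (Fc.ed (nat_lit 1228) (nat_lit 760) Col.c (nat_lit 763) Dv.df)) (Tr.lf (Fc.ed (nat_lit 1229) (nat_lit 763) Col.d (nat_lit 754) (Dv.wd (nat_lit 13) [Mv.b (nat_lit 1213), Mv.b (nat_lit 1165), Mv.b (nat_lit 1171), Mv.f (nat_lit 1174), Mv.f (nat_lit 1175), Mv.b (nat_lit 1205), Mv.f (nat_lit 1224), Mv.f (nat_lit 1228)])))))) (Tr.nd (nat_lit 1233) (Tr.nd (nat_lit 1231) (Tr.lf (Fc.ed (nat_lit 1230) (nat_lit 578) Col.d (nat_lit 764) Dv.df)) (Tr.nd (nat_lit 1232) (Tr.lf (Fc.ed (nat_lit 1231) (nat_lit 764) Col.a (nat_lit 759) (Dv.wd (nat_lit 1) [Mv.b (nat_lit 1223), Mv.b (nat_lit 1218), Mv.f (nat_lit 1230)]))) (Tr.lf (Fc.ed (nat_lit 1232) (nat_lit 763) Col.a (nat_lit 765) Dv.df)))) (Tr.nd (nat_lit 1234) (Tr.lf (Fc.ed (nat_lit 1233) (nat_lit 765) Col.d (nat_lit 735) (Dv.wd (nat_lit 6) [Mv.b (nat_lit 1214), Mv.b (nat_lit 1229), Mv.f (nat_lit 1232)]))) (Tr.nd (nat_lit 1235) (Tr.lf (Fc.ed (nat_lit 1234) (nat_lit 583) Col.b (nat_lit 765) (Dv.wd (nat_lit 15) [Mv.f (nat_lit 1233), Mv.f (nat_lit 1183), Mv.b (nat_lit 934)]))) (Tr.lf (Fc.ed (nat_lit 1235) (nat_lit 758) Col.c (nat_lit 766) Dv.df)))))) (Tr.nd (nat_lit 1242) (Tr.nd (nat_lit 1239) (Tr.nd (nat_lit 1237) (Tr.lf (Fc.ed (nat_lit 1236) (nat_lit 766) Col.b (nat_lit 653) (Dv.wd (nat_lit 7) [Mv.f (nat_lit 1050), Mv.f (nat_lit 1033), Mv.f (nat_lit 894), Mv.f (nat_lit 1222), Mv.f (nat_lit 1235)]))) (Tr.nd (nat_lit 1238) (Tr.lf (Fc.ed (nat_lit 1237) (nat_lit 749) Col.b (nat_lit 767) Dv.df)) (Tr.lf (Fc.ed (nat_lit 1238) (nat_lit 767) Col.a (nat_lit 753) (Dv.wd (nat_lit 12) [Mv.b (nat_lit 1212), Mv.b (nat_lit 1039), Mv.b (nat_lit 794), Mv.b (nat_lit 611), Mv.f (nat_lit 879), Mv.b (nat_lit 882), Mv.f (nat_lit 1195), Mv.f (nat_lit 1206), Mv.f (nat_lit 1237)]))))) (Tr.nd (nat_lit 1240) (Tr.lf (Fc.ed (nat_lit 1239) (nat_lit 752) Col.c (nat_lit 768) Dv.df)) (Tr.nd (nat_lit 1241) (Tr.lf (Fc.ed (nat_lit 1240) (nat_lit 759) Col.c (nat_lit 769) Dv.df)) (Tr.lf (Fc.ed (nat_lit 1241) (nat_lit 769) Col.d (nat_lit 768) (Dv.wd (nat_lit 10) [Mv.b (nat_lit 1239), Mv.f (nat_lit 1211), Mv.b (nat_lit 900), Mv.f (nat_lit 859), Mv.f (nat_lit 924), Mv.f (nat_lit 1230), Mv.f (nat_lit 1231), Mv.f (nat_lit 1240)])))))) (Tr.nd (nat_lit 1245) (Tr.nd (nat_lit 1243) (Tr.lf (Fc.ed (nat_lit 1242) (nat_lit 614) Col.a (nat_lit 770) Dv.df)) (Tr.nd (nat_lit 1244) (Tr.lf (Fc.ed (nat_lit 1243) (nat_lit 713) Col.b (nat_lit 771) Dv.df)) (Tr.lf (Fc.ed (nat_lit 1244) (nat_lit 761) Col.c (nat_lit 772) Dv.df)))) (Tr.nd (nat_lit 1246) (Tr.lf (Fc.ed (nat_lit 1245) (nat_lit 763) Col.b (nat_lit 773) Dv.df)) (Tr.nd (nat_lit 1247) (Tr.lf (Fc.ed (nat_lit 1246) (nat_lit 773) Col.a (nat_lit 771) (Dv.wd (nat_lit 12) [Mv.b (nat_lit 1243), Mv.f (nat_lit 1144), Mv.f (nat_lit 1084), Mv.b (nat_lit 765), Mv.b (nat_lit 723), Mv.b (nat_lit 933), Mv.f (nat_lit 1234), Mv.b (nat_lit 1232), Mv.f (nat_lit 1245)]))) (Tr.lf (Fc.ed (nat_lit 1247) (nat_lit 528) Col.b (nat_lit 774) Dv.df))))))) (Tr.nd (nat_lit 1260) (Tr.nd (nat_lit 1254) (Tr.nd (nat_lit 1251) (Tr.nd (nat_lit 1249) (Tr.lf (Fc.ed (nat_lit 1248) (nat_lit 755) Col.a (nat_lit 775) Dv.df)) (Tr.nd (nat_lit 1250) (Tr.lf (Fc.ed (nat_lit 1249) (nat_lit 775) Col.c (nat_lit 749) (Dv.wd (nat_lit 2) [Mv.b (nat_lit 1206), Mv.b (nat_lit 1217), Mv.f (nat_lit 1248)]))) (Tr.lf (Fc.ed (nat_lit 1250) (nat_lit 673) Col.c (nat_lit 776) Dv.df)))) (Tr.nd (nat_lit 1252) (Tr.lf (Fc.ed (nat_lit 1251) (nat_lit 776) Col.b (nat_lit 772) (Dv.wd (nat_lit 7) [Mv.b (nat_lit 1244), Mv.b (nat_lit 1226), Mv.f (nat_lit 904), Mv.f (nat_lit 1080), Mv.f (nat_lit 1250)]))) (Tr.nd (nat_lit 1253) (Tr.lf (Fc.ed (nat_lit 1252) (nat_lit 762) Col.b (nat_lit 777) Dv.df)) (Tr.lf (Fc.ed (nat_lit 1253) (nat_lit 777) Col.a (nat_lit 750) (Dv.wd (nat_lit 12) [Mv.b (nat_lit 1207), Mv.f (nat_lit 1070), Mv.f (nat_lit 1004), Mv.b (nat_lit 906), Mv.b (nat_lit 1061), Mv.f (nat_lit 1103), Mv.f (nat_lit 1172), Mv.f (nat_lit 1227), Mv.f (nat_lit 1252)])))))) (Tr.nd (nat_lit 1257) (Tr.nd (nat_lit 1255) (Tr.lf (Fc.ed (nat_lit 1254) (nat_lit 775) Col.d (nat_lit 777) (Dv.wd (nat_lit 22) [Mv.f (nat_lit 1253), Mv.b (nat_lit 1216), Mv.f (nat_lit 1248)]))) (Tr.nd (nat_lit 1256) (Tr.lf (Fc.ed (nat_lit 1255) (nat_lit 602) Col.c (nat_lit 778) Dv.df)) (Tr.lf (Fc.ed (nat_lit 1256) (nat_lit 778) Col.a (nat_lit 622) (Dv.wd (nat_lit 4) [Mv.b (nat_lit 995), Mv.f (nat_lit 960), Mv.f (nat_lit 1255)]))))) (Tr.nd (nat_lit 1258) (Tr.lf (Fc.ed (nat_lit 1257) (nat_lit 612) Col.a (nat_lit 779) Dv.df)) (Tr.nd (nat_lit 1259) (Tr.lf (Fc.ed (nat_lit 1258) (nat_lit 774) Col.c (nat_lit 780) Dv.df)) (Tr.lf (Fc.ed (nat_lit 1259) (nat_lit 778) Col.b (nat_lit 781) Dv.df)))))) (Tr.nd (nat_lit 1266) (Tr.nd (nat_lit 1263) (Tr.nd (nat_lit 1261) (Tr.lf (Fc.ed (nat_lit 1260) (nat_lit 781) Col.c (nat_lit 782) Dv.df)) (Tr.nd (nat_lit 1262) (Tr.lf (Fc.ed (nat_lit 1261) (nat_lit 669) Col.a (nat_lit 783) Dv.df)) (Tr.lf (Fc.ed (nat_lit 1262) (nat_lit 783) Col.c (nat_lit 600) (Dv.wd (nat_lit 2) [Mv.b (nat_lit 957), Mv.f (nat_lit 1076), Mv.f (nat_lit 1261)]))))) (Tr.nd (nat_lit 1264) (Tr.lf (Fc.ed (nat_lit 1263) (nat_lit 782) Col.b (nat_lit 783) (Dv.wd (nat_lit 23) [Mv.f (nat_lit 1262), Mv.b (nat_lit 961), Mv.f (nat_lit 1255), Mv.f (nat_lit 1259), Mv.f (nat_lit 1260)]))) (Tr.nd (nat_lit 1265) (Tr.lf (Fc.ed (nat_lit 1264) (nat_lit 693) Col.b (nat_lit 784) Dv.df)) (Tr.lf (Fc.ed (nat_lit 1265) (nat_lit 649) Col.a (nat_lit 785) Dv.df))))) (Tr.nd (nat_lit 1269) (Tr.nd (nat_lit 1267) (Tr.lf (Fc.ed (nat_lit 1266) (nat_lit 744) Col.a (nat_lit 786) Dv.df)) (Tr.nd (nat_lit 1268) (Tr.lf (Fc.ed (nat_lit 1267) (nat_lit 786) Col.c (nat_lit 590) (Dv.wd (nat_lit 2) [Mv.b (nat_lit 942), Mv.f (nat_lit 1197), Mv.f (nat_lit 1266)]))) (Tr.lf (Fc.ed (nat_lit 1268) (nat_lit 706) Col.b (nat_lit 787) Dv.df)))) (Tr.nd (nat_lit 1270) (Tr.lf (Fc.ed (nat_lit 1269) (nat_lit 601) Col.b (nat_lit 788) Dv.df)) (Tr.nd (nat_lit 1271) (Tr.lf (Fc.ed (nat_lit 1270) (nat_lit 788) Col.d (nat_lit 774) (Dv.wd (nat_lit 3) [Mv.b (nat_lit 1247), Mv.f (nat_lit 959), Mv.f (nat_lit 1269)]))) (Tr.lf (Fc.ed (nat_lit 1271) (nat_lit 788) Col.c (nat_lit 784) (Dv.wd (nat_lit 8) [Mv.b (nat_lit 1264), Mv.f (nat_lit 1111), Mv.f (nat_lit 1108), Mv.f (nat_lit 965), Mv.f (nat_lit 1269)]))))))))) (Tr.nd (nat_lit 1296) (Tr.nd (nat_lit 1284) (Tr.nd (nat_lit 1278) (Tr.nd (nat_lit 1275) (Tr.nd (nat_lit 1273) (Tr.lf (Fc.ed (nat_lit 1272) (nat_lit 761) Col.d (nat_lit 789) Dv.df)) (Tr.nd (nat_lit 1274) (Tr.lf (Fc.ed (nat_lit 1273) (nat_lit 789) Col.b (nat_lit 639) (Dv.wd (nat_lit 5) [Mv.f (nat_lit 1024), Mv.f (nat_lit 1226), Mv.f (nat_lit 1272)]))) (Tr.lf (Fc.ed (nat_lit 1274) (nat_lit 588) Col.c (nat_lit 790) Dv.df)))) (Tr.nd (nat_lit 1276) (Tr.lf (Fc.ed (nat_lit 1275) (nat_lit 790) Col.b (nat_lit 780) (Dv.wd (nat_lit 7) [Mv.b (nat_lit 1258), Mv.b (nat_lit 1247), Mv.b (nat_lit 843), Mv.f (nat_lit 940), Mv.f (nat_lit 1274)]))) (Tr.nd (nat_lit 1277) (Tr.lf (Fc.ed (nat_lit 1276) (nat_lit 779) Col.d (nat_lit 791) Dv.df)) (Tr.lf (Fc.ed (nat_lit 1277) (nat_lit 791) Col.a (nat_lit 619) (Dv.wd (nat_lit 1) [Mv.f (nat_lit 990), Mv.f (nat_lit 1257), Mv.f (nat_lit 1276)])))))) (Tr.nd (nat_lit 1281) (Tr.nd (nat_lit 1279) (Tr.lf (Fc.ed (nat_lit 1278) (nat_lit 595) Col.b (nat_lit 792) Dv.df)) (Tr.nd (nat_lit 1280) (Tr.lf (Fc.ed (nat_lit 1279) (nat_lit 743) Col.c (nat_lit 793) Dv.df)) (Tr.lf (Fc.ed (nat_lit 1280) (nat_lit 598) Col.b (nat_lit 794) Dv.df)))) (Tr.nd (nat_lit 1282) (Tr.lf (Fc.ed (nat_lit 1281) (nat_lit 794) Col.d (nat_lit 792) (Dv.wd (nat_lit 3) [Mv.b (nat_lit 1278), Mv.f (nat_lit 953), Mv.f (nat_lit 1280)]))) (Tr.nd (nat_lit 1283) (Tr.lf (Fc.ed (nat_lit 1282) (nat_lit 794) Col.c (nat_lit 787) (Dv.wd (nat_lit 8) [Mv.b (nat_lit 1268), Mv.f (nat_lit 1133), Mv.f (nat_lit 1057), Mv.b (nat_lit 954), Mv.f (nat_lit 1280)]))) (Tr.lf (Fc.ed (nat_lit 1283) (nat_lit 672) Col.a (nat_lit 795) Dv.df)))))) (Tr.nd (nat_lit 1290) (Tr.nd (nat_lit 1287) (Tr.nd (nat_lit 1285) (Tr.lf (Fc.ed (nat_lit 1284) (nat_lit 795) Col.c (nat_lit 618) (Dv.wd (nat_lit 2) [Mv.f (nat_lit 988), Mv.f (nat_lit 1079), Mv.f (nat_lit 1283)]))) (Tr.nd (nat_lit 1286) (Tr.lf (Fc.ed (nat_lit 1285) (nat_lit 656) Col.d (nat_lit 796) Dv.df)) (Tr.lf (Fc.ed (nat_lit 1286) (nat_lit 791) Col.c (nat_lit 797) Dv.df)))) (Tr.nd (nat_lit 1288) (Tr.lf (Fc.ed (nat_lit 1287) (nat_lit 797) Col.a (nat_lit 694) (Dv.wd (nat_lit 4) [Mv.f (nat_lit 1113), Mv.b (nat_lit 1277), Mv.f (nat_lit 1286)]))) (Tr.nd (nat_lit 1289) (Tr.lf (Fc.ed (nat_lit 1288) (nat_lit 797) Col.d (nat_lit 793) (Dv.wd (nat_lit 10) [Mv.b (nat_lit 1279), Mv.b (nat_lit 1196), Mv.f (nat_lit 992), Mv.b (nat_lit 976), Mv.b (nat_lit 978), Mv.b (nat_lit 990), Mv.b (nat_lit 1277), Mv.f (nat_lit 1286)]))) (Tr.lf (Fc.ed (nat_lit 1289) (nat_lit 786) Col.d (nat_lit 798) Dv.df))))) (Tr.nd (nat_lit 1293) (Tr.nd (nat_lit 1291) (Tr.lf (Fc.ed (nat_lit 1290) (nat_lit 678) Col.b (nat_lit 799) Dv.df)) (Tr.nd (nat_lit 1292) (Tr.lf (Fc.ed (nat_lit 1291) (nat_lit 775) Col.b (nat_lit 800) Dv.df)) (Tr.lf (Fc.ed (nat_lit 1292) (nat_lit 800) Col.d (nat_lit 762) (Dv.wd (nat_lit 3) [Mv.f (nat_lit 1252), Mv.b (nat_lit 1254), Mv.f (nat_lit 1291)]))))) (Tr.nd (nat_lit 1294) (Tr.lf (Fc.ed (nat_lit 1293) (nat_lit 715) Col.a (nat_lit 801) Dv.df)) (Tr.nd (nat_lit 1295) (Tr.lf (Fc.ed (nat_lit 1294) (nat_lit 799) Col.c (nat_lit 802) Dv.df)) (Tr.lf (Fc.ed (nat_lit 1295) (nat_lit 802) Col.b (nat_lit 795) (Dv.wd (nat_lit 7) [Mv.f (nat_lit 1284), Mv.b (nat_lit 987), Mv.b (nat_lit 1089), Mv.f (nat_lit 1290), Mv.f (nat_lit 1294)])))))))) (Tr.nd (nat_lit 1308) (Tr.nd (nat_lit 1302) (Tr.nd (nat_lit 1299) (Tr.nd (nat_lit 1297) (Tr.lf (Fc.ed (nat_lit 1296) (nat_lit 770) Col.c (nat_lit 803) Dv.df)) (Tr.nd (nat_lit 1298) (Tr.lf (Fc.ed (nat_lit 1297) (nat_lit 803) Col.a (nat_lit 637) (Dv.wd (nat_lit 4) [Mv.f (nat_lit 1021), Mv.f (nat_lit 1242), Mv.f (nat_lit 1296)]))) (Tr.lf (Fc.ed (nat_lit 1298) (nat_lit 684) Col.c (nat_lit 804) Dv.df)))) (Tr.nd (nat_lit 1300) (Tr.lf (Fc.ed (nat_lit 1299) (nat_lit 804) Col.a (nat_lit 739) (Dv.wd (nat_lit 4) [Mv.b (nat_lit 1190), Mv.f (nat_lit 1096), Mv.f (nat_lit 1298)]))) (Tr.nd (nat_lit 1301) (Tr.lf (Fc.ed (nat_lit 1300) (nat_lit 803) Col.d (nat_lit 805) Dv.df)) (Tr.lf (Fc.ed (nat_lit 1301) (nat_lit 805) Col.c (nat_lit 796) (Dv.wd (nat_lit 11) [Mv.b (nat_lit 1285), Mv.b (nat_lit 1054), Mv.b (nat_lit 1009), Mv.f (nat_lit 1010), Mv.b (nat_lit 1005), Mv.f (nat_lit 1242), Mv.f (nat_lit 1296), Mv.f (nat_lit 1300)])))))) (Tr.nd (nat_lit 1305) (Tr.nd (nat_lit 1303) (Tr.lf (Fc.ed (nat_lit 1302) (nat_lit 798) Col.c (nat_lit 806) Dv.df)) (Tr.nd (nat_lit 1304) (Tr.lf (Fc.ed (nat_lit 1303) (nat_lit 804) Col.d (nat_lit 807) Dv.df)) (Tr.lf (Fc.ed (nat_lit 1304) (nat_lit 635) Col.d (nat_lit 808) Dv.df)))) (Tr.nd (nat_lit 1306) (Tr.lf (Fc.ed (nat_lit 1305) (nat_lit 672) Col.d (nat_lit 809) Dv.df)) (Tr.nd (nat_lit 1307) (Tr.lf (Fc.ed (nat_lit 1306) (nat_lit 806) Col.d (nat_lit 810) Dv.df)) (Tr.lf (Fc.ed (nat_lit 1307) (nat_lit 810) Col.c (nat_lit 809) (Dv.wd (nat_lit 17) [Mv.b (nat_lit 1305), Mv.b (nat_lit 1079), Mv.f (nat_lit 985), Mv.f (nat_lit 942), Mv.b (nat_lit 1267), Mv.f (nat_lit 1289), Mv.f (nat_lit 1302), Mv.f (nat_lit 1306)]))))))) (Tr.nd (nat_lit 1314) (Tr.nd (nat_lit 1311) (Tr.nd (nat_lit 1309) (Tr.lf (Fc.ed (nat_lit 1308) (nat_lit 667) Col.d (nat_lit 811) Dv.df)) (Tr.nd (nat_lit 1310) (Tr.lf (Fc.ed (nat_lit 1309) (nat_lit 798) Col.a (nat_lit 812) Dv.df)) (Tr.lf (Fc.ed (nat_lit 1310) (nat_lit 812) Col.d (nat_lit 744) (Dv.wd (nat_lit 6) [Mv.f (nat_lit 1266), Mv.f (nat_lit 1289), Mv.f (nat_lit 1309)]))))) (Tr.nd (nat_lit 1312) (Tr.lf (Fc.ed (nat_lit 1311) (nat_lit 733) Col.d (nat_lit 813) Dv.df)) (Tr.nd (nat_lit 1313) (Tr.lf (Fc.ed (nat_lit 1312) (nat_lit 813) Col.b (nat_lit 644) (Dv.wd (nat_lit 5) [Mv.f (nat_lit 1035), Mv.f (nat_lit 1179), Mv.f (nat_lit 1311)]))) (Tr.lf (Fc.ed (nat_lit 1313) (nat_lit 808) Col.c (nat_lit 814) Dv.df))))) (Tr.nd (nat_lit 1317) (Tr.nd (nat_lit 1315) (Tr.lf (Fc.ed (nat_lit 1314) (nat_lit 731) Col.a (nat_lit 815) Dv.df)) (Tr.nd (nat_lit 1316) (Tr.lf (Fc.ed (nat_lit 1315) (nat_lit 810) Col.a (nat_lit 816) Dv.df)) (Tr.lf (Fc.ed (nat_lit 1316) (nat_lit 785) Col.c (nat_lit 817) Dv.df)))) (Tr.nd (nat_lit 1318) (Tr.lf (Fc.ed (nat_lit 1317) (nat_lit 817) Col.a (nat_lit 652) (Dv.wd (nat_lit 4) [Mv.f (nat_lit 1048), Mv.f (nat_lit 1265), Mv.f (nat_lit 1316)]))) (Tr.nd (nat_lit 1319) (Tr.lf (Fc.ed (nat_lit 1318) (nat_lit 815) Col.c (nat_lit 818) Dv.df)) (Tr.lf (Fc.ed (nat_lit 1319) (nat_lit 818) Col.a (nat_lit 751) (Dv.wd (nat_lit 4) [Mv.b (nat_lit 1208), Mv.f (nat_lit 1314), Mv.f (nat_lit 1318)]))))))))))) (Tr.nd (nat_lit 1414) (Tr.nd (nat_lit 1367) (Tr.nd (nat_lit 1343) (Tr.nd (nat_lit 1331) (Tr.nd (nat_lit 1325) (Tr.nd (nat_lit 1322) (Tr.nd (nat_lit 1321) (Tr.lf (Fc.ed (nat_lit 1320) (nat_lit 818) Col.d (nat_lit 814) (Dv.wd (nat_lit 10) [Mv.b (nat_lit 1313), Mv.b (nat_lit 1304), Mv.f (nat_lit 1017), Mv.b (nat_lit 1015), Mv.f (nat_lit 1018), Mv.f (nat_lit 1176), Mv.f (nat_lit 1314), Mv.f (nat_lit 1318)]))) (Tr.lf (Fc.ed (nat_lit 1321) (nat_lit 783) Col.d (nat_lit 819) Dv.df))) (Tr.nd (nat_lit 1323) (Tr.lf (Fc.ed (nat_lit 1322) (nat_lit 819) Col.c (nat_lit 820) Dv.df)) (Tr.nd (nat_lit 1324) (Tr.lf (Fc.ed (nat_lit 1323) (nat_lit 789) Col.c (nat_lit 821) Dv.df)) (Tr.lf (Fc.ed (nat_lit 1324) (nat_lit 652) Col.d (nat_lit 822) Dv.df))))) (Tr.nd (nat_lit 1328) (Tr.nd (nat_lit 1326) (Tr.lf (Fc.ed (nat_lit 1325) (nat_lit 822) Col.b (nat_lit 714) (Dv.wd (nat_lit 5) [Mv.b (nat_lit 1146), Mv.f (nat_lit 1047), Mv.f (nat_lit 1324)]))) (Tr.nd (nat_lit 1327) (Tr.lf (Fc.ed (nat_lit 1326) (nat_lit 811) Col.c (nat_lit 823) Dv.df)) (Tr.lf (Fc.ed (nat_lit 1327) (nat_lit 823) Col.d (nat_lit 820) (Dv.wd (nat_lit 13) [Mv.b (nat_lit 1322), Mv.b (nat_lit 1321), Mv.f (nat_lit 1262), Mv.f (nat_lit 958), Mv.f (nat_lit 951), Mv.b (nat_lit 1073), Mv.f (nat_lit 1308), Mv.f (nat_lit 1326)]))))) (Tr.nd (nat_lit 1329) (Tr.lf (Fc.ed (nat_lit 1328) (nat_lit 811) Col.b (nat_lit 824) Dv.df)) (Tr.nd (nat_lit 1330) (Tr.lf (Fc.ed (nat_lit 1329) (nat_lit 824) Col.d (nat_lit 655) (Dv.wd (nat_lit 3) [Mv.f (nat_lit 1072), Mv.f (nat_lit 1308), Mv.f (nat_lit 1328)]))) (Tr.lf (Fc.ed (nat_lit 1330) (nat_lit 812) Col.c (nat_lit 825) Dv.df)))))) (Tr.nd (nat_lit 1337) (Tr.nd (nat_lit 1334) (Tr.nd (nat_lit 1332) (Tr.lf (Fc.ed (nat_lit 1331) (nat_lit 825) Col.d (nat_lit 816) (Dv.wd (nat_lit 24) [Mv.b (nat_lit 1315), Mv.f (nat_lit 1307), Mv.b (nat_lit 1305), Mv.b (nat_lit 1079), Mv.f (nat_lit 985), Mv.f (nat_lit 1197), Mv.b (nat_lit 1310), Mv.f (nat_lit 1330)]))) (Tr.nd (nat_lit 1333) (Tr.lf (Fc.ed (nat_lit 1332) (nat_lit 795) Col.d (nat_lit 826) Dv.df)) (Tr.lf (Fc.ed (nat_lit 1333) (nat_lit 826) Col.c (nat_lit 816) (Dv.wd (nat_lit 11) [Mv.b (nat_lit 1331), Mv.b (nat_lit 1330), Mv.f (nat_lit 1310), Mv.b (nat_lit 1197), Mv.b (nat_lit 985), Mv.b (nat_lit 988), Mv.b (nat_lit 1284), Mv.f (nat_lit 1332)]))))) (Tr.nd (nat_lit 1335) (Tr.lf (Fc.ed (nat_lit 1334) (nat_lit 824) Col.c (nat_lit 827) Dv.df)) (Tr.nd (nat_lit 1336) (Tr.lf (Fc.ed (nat_lit 1335) (nat_lit 801) Col.c (nat_lit 828) Dv.df)) (Tr.lf (Fc.ed (nat_lit 1336) (nat_lit 828) Col.a (nat_lit 724) (Dv.wd (nat_lit 4) [Mv.b (nat_lit 1163), Mv.f (nat_lit 1293), Mv.f (nat_lit 1335)])))))) (Tr.nd (nat_lit 1340) (Tr.nd (nat_lit 1338) (Tr.lf (Fc.ed (nat_lit 1337) (nat_lit 828) Col.d (nat_lit 827) (Dv.wd (nat_lit 10) [Mv.b (nat_lit 1334), Mv.f (nat_lit 1329), Mv.b (nat_lit 1053), Mv.f (nat_lit 1051), Mv.f (nat_lit 1105), Mv.b (nat_lit 1149), Mv.f (nat_lit 1293), Mv.f (nat_lit 1335)]))) (Tr.nd (nat_lit 1339) (Tr.lf (Fc.ed (nat_lit 1338) (nat_lit 813) Col.c (nat_lit 829) Dv.df)) (Tr.lf (Fc.ed (nat_lit 1339) (nat_lit 829) Col.b (nat_lit 821) (Dv.wd (nat_lit 7) [Mv.b (nat_lit 1323), Mv.f (nat_lit 1273), Mv.f (nat_lit 1034), Mv.b (nat_lit 1312), Mv.f (nat_lit 1338)]))))) (Tr.nd (nat_lit 1341) (Tr.lf (Fc.ed (nat_lit 1340) (nat_lit 711) Col.a (nat_lit 830) Dv.df)) (Tr.nd (nat_lit 1342) (Tr.lf (Fc.ed (nat_lit 1341) (nat_lit 679) Col.c (nat_lit 831) Dv.df)) (Tr.lf (Fc.ed (nat_lit 1342) (nat_lit 680) Col.c (nat_lit 832) Dv.df))))))) (Tr.nd (nat_lit 1355) (Tr.nd (nat_lit 1349) (Tr.nd (nat_lit 1346) (Tr.nd (nat_lit 1344) (Tr.lf (Fc.ed (nat_lit 1343) (nat_lit 832) Col.a (nat_lit 776) (Dv.wd (nat_lit 4) [Mv.b (nat_lit 1250), Mv.f (nat_lit 1091), Mv.f (nat_lit 1342)]))) (Tr.nd (nat_lit 1345) (Tr.lf (Fc.ed (nat_lit 1344) (nat_lit 817) Col.d (nat_lit 833) Dv.df)) (Tr.lf (Fc.ed (nat_lit 1345) (nat_lit 833) Col.a (nat_lit 822) (Dv.wd (nat_lit 1) [Mv.b (nat_lit 1324), Mv.b (nat_lit 1317), Mv.f (nat_lit 1344)]))))) (Tr.nd (nat_lit 1347) (Tr.lf (Fc.ed (nat_lit 1346) (nat_lit 719) Col.a (nat_lit 834) Dv.df)) (Tr.nd (nat_lit 1348) (Tr.lf (Fc.ed (nat_lit 1347) (nat_lit 676) Col.c (nat_lit 835) Dv.df)) (Tr.lf (Fc.ed (nat_lit 1348) (nat_lit 807) Col.a (nat_lit 836) Dv.df))))) (Tr.nd (nat_lit 1352) (Tr.nd (nat_lit 1350) (Tr.lf (Fc.ed (nat_lit 1349) (nat_lit 836) Col.d (nat_lit 739) (Dv.wd (nat_lit 6) [Mv.b (nat_lit 1299), Mv.f (nat_lit 1303), Mv.f (nat_lit 1348)]))) (Tr.nd (nat_lit 1351) (Tr.lf (Fc.ed (nat_lit 1350) (nat_lit 792) Col.c (nat_lit 837) Dv.df)) (Tr.lf (Fc.ed (nat_lit 1351) (nat_lit 837) Col.b (nat_lit 835) (Dv.wd (nat_lit 7) [Mv.b (nat_lit 1347), Mv.b (nat_lit 1085), Mv.f (nat_lit 949), Mv.f (nat_lit 1278), Mv.f (nat_lit 1350)]))))) (Tr.nd (nat_lit 1353) (Tr.lf (Fc.ed (nat_lit 1352) (nat_lit 688) Col.c (nat_lit 838) Dv.df)) (Tr.nd (nat_lit 1354) (Tr.lf (Fc.ed (nat_lit 1353) (nat_lit 838) Col.a (nat_lit 831) (Dv.wd (nat_lit 4) [Mv.b (nat_lit 1341), Mv.f (nat_lit 1101), Mv.f (nat_lit 1352)]))) (Tr.lf (Fc.ed (nat_lit 1354) (nat_lit 833) Col.c (nat_lit 839) Dv.df)))))) (Tr.nd (nat_lit 1361) (Tr.nd (nat_lit 1358) (Tr.nd (nat_lit 1356) (Tr.lf (Fc.ed (nat_lit 1355) (nat_lit 839) Col.d (nat_lit 840) Dv.df)) (Tr.nd (nat_lit 1357) (Tr.lf (Fc.ed (nat_lit 1356) (nat_lit 830) Col.b (nat_lit 841) Dv.df)) (Tr.lf (Fc.ed (nat_lit 1357) (nat_lit 840) Col.c (nat_lit 842) Dv.df)))) (Tr.nd (nat_lit 1359) (Tr.lf (Fc.ed (nat_lit 1358) (nat_lit 842) Col.d (nat_lit 835) (Dv.wd (nat_lit 13) [Mv.b (nat_lit 1347), Mv.f (nat_lit 1086), Mv.b (nat_lit 1048), Mv.f (nat_lit 1324), Mv.b (nat_lit 1345), Mv.f (nat_lit 1354), Mv.f (nat_lit 1355), Mv.f (nat_lit 1357)]))) (Tr.nd (nat_lit 1360) (Tr.lf (Fc.ed (nat_lit 1359) (nat_lit 726) Col.a (nat_lit 843) Dv.df)) (Tr.lf (Fc.ed (nat_lit 1360) (nat_lit 839) Col.a (nat_lit 844) Dv.df))))) (Tr.nd (nat_lit 1364) (Tr.nd (nat_lit 1362) (Tr.lf (Fc.ed (nat_lit 1361) (nat_lit 844) Col.c (nat_lit 822) (Dv.wd (nat_lit 2) [Mv.b (nat_lit 1345), Mv.f (nat_lit 1354), Mv.f (nat_lit 1360)]))) (Tr.nd (nat_lit 1363) (Tr.lf (Fc.ed (nat_lit 1362) (nat_lit 831) Col.b (nat_lit 845) Dv.df)) (Tr.lf (Fc.ed (nat_lit 1363) (nat_lit 697) Col.b (nat_lit 846) Dv.df)))) (Tr.nd (nat_lit 1365) (Tr.lf (Fc.ed (nat_lit 1364) (nat_lit 846) Col.d (nat_lit 784) (Dv.wd (nat_lit 3) [Mv.b (nat_lit 1264), Mv.f (nat_lit 1118), Mv.f (nat_lit 1363)]))) (Tr.nd (nat_lit 1366) (Tr.lf (Fc.ed (nat_lit 1365) (nat_lit 846) Col.c (nat_lit 845) (Dv.wd (nat_lit 8) [Mv.b (nat_lit 1362), Mv.b (nat_lit 1341), Mv.b (nat_lit 1090), Mv.b (nat_lit 1119), Mv.f (nat_lit 1363)]))) (Tr.lf (Fc.ed (nat_lit 1366) (nat_lit 844) Col.d (nat_lit 847) Dv.df)))))))) (Tr.nd (nat_lit 1390) (Tr.nd (nat_lit 1378) (Tr.nd (nat_lit 1372) (Tr.nd (nat_lit 1369) (Tr.nd (nat_lit 1368) (Tr.lf (Fc.ed (nat_lit 1367) (nat_lit 847) Col.a (nat_lit 840) (Dv.wd (nat_lit 1) [Mv.b (nat_lit 1355), Mv.f (nat_lit 1360), Mv.f (nat_lit 1366)]))) (Tr.lf (Fc.ed (nat_lit 1368) (nat_lit 847) Col.c (nat_lit 848) Dv.df))) (Tr.nd (nat_lit 1370) (Tr.lf (Fc.ed (nat_lit 1369) (nat_lit 848) Col.a (nat_lit 842) (Dv.wd (nat_lit 4) [Mv.b (nat_lit 1357), Mv.b (nat_lit 1367), Mv.f (nat_lit 1368)]))) (Tr.nd (nat_lit 1371) (Tr.lf (Fc.ed (nat_lit 1370) (nat_lit 682) Col.a (nat_lit 849) Dv.df)) (Tr.lf (Fc.ed (nat_lit 1371) (nat_lit 849) Col.c (nat_lit 681) (Dv.wd (nat_lit 2) [Mv.b (nat_lit 1092), Mv.f (nat_lit 1094), Mv.f (nat_lit 1370)])))))) (Tr.nd (nat_lit 1375) (Tr.nd (nat_lit 1373) (Tr.lf (Fc.ed (nat_lit 1372) (nat_lit 849) Col.b (nat_lit 850) Dv.df)) (Tr.nd (nat_lit 1374) (Tr.lf (Fc.ed (nat_lit 1373) (nat_lit 723) Col.a (nat_lit 851) Dv.df)) (Tr.lf (Fc.ed (nat_lit 1374) (nat_lit 851) Col.c (nat_lit 686) (Dv.wd (nat_lit 2) [Mv.b (nat_lit 1098), Mv.f (nat_lit 1162), Mv.f (nat_lit 1373)]))))) (Tr.nd (nat_lit 1376) (Tr.lf (Fc.ed (nat_lit 1375) (nat_lit 848) Col.d (nat_lit 852) Dv.df)) (Tr.nd (nat_lit 1377) (Tr.lf (Fc.ed (nat_lit 1376) (nat_lit 852) Col.a (nat_lit 835) (Dv.wd (nat_lit 1) [Mv.b (nat_lit 1358), Mv.b (nat_lit 1369), Mv.f (nat_lit 1375)]))) (Tr.lf (Fc.ed (nat_lit 1377) (nat_lit 850) Col.c (nat_lit 853) Dv.df)))))) (Tr.nd (nat_lit 1384) (Tr.nd (nat_lit 1381) (Tr.nd (nat_lit 1379) (Tr.lf (Fc.ed (nat_lit 1378) (nat_lit 853) Col.b (nat_lit 832) (Dv.wd (nat_lit 7) [Mv.b (nat_lit 1342), Mv.b (nat_lit 1093), Mv.b (nat_lit 1371), Mv.f (nat_lit 1372), Mv.f (nat_lit 1377)]))) (Tr.nd (nat_lit 1380) (Tr.lf (Fc.ed (nat_lit 1379) (nat_lit 776) Col.d (nat_lit 854) Dv.df)) (Tr.lf (Fc.ed (nat_lit 1380) (nat_lit 851) Col.b (nat_lit 855) Dv.df)))) (Tr.nd (nat_lit 1382) (Tr.lf (Fc.ed (nat_lit 1381) (nat_lit 720) Col.a (nat_lit 856) Dv.df)) (Tr.nd (nat_lit 1383) (Tr.lf (Fc.ed (nat_lit 1382) (nat_lit 856) Col.c (nat_lit 762) (Dv.wd (nat_lit 2) [Mv.b (nat_lit 1227), Mv.f (nat_lit 1173), Mv.f (nat_lit 1381)]))) (Tr.lf (Fc.ed (nat_lit 1383) (nat_lit 856) Col.d (nat_lit 834) (Dv.wd (nat_lit 6) [Mv.b (nat_lit 1346), Mv.b (nat_lit 1158), Mv.f (nat_lit 1381)])))))) (Tr.nd (nat_lit 1387) (Tr.nd (nat_lit 1385) (Tr.lf (Fc.ed (nat_lit 1384) (nat_lit 704) Col.b (nat_lit 857) Dv.df)) (Tr.nd (nat_lit 1386) (Tr.lf (Fc.ed (nat_lit 1385) (nat_lit 838) Col.b (nat_lit 858) Dv.df)) (Tr.lf (Fc.ed (nat_lit 1386) (nat_lit 858) Col.c (nat_lit 855) (Dv.wd (nat_lit 8) [Mv.b (nat_lit 1380), Mv.f (nat_lit 1374), Mv.b (nat_lit 1102), Mv.f (nat_lit 1352), Mv.f (nat_lit 1385)]))))) (Tr.nd (nat_lit 1388) (Tr.lf (Fc.ed (nat_lit 1387) (nat_lit 857) Col.c (nat_lit 859) Dv.df)) (Tr.nd (nat_lit 1389) (Tr.lf (Fc.ed (nat_lit 1388) (nat_lit 859) Col.b (nat_lit 700) (Dv.wd (nat_lit 7) [Mv.b (nat_lit 1128), Mv.f (nat_lit 1127), Mv.f (nat_lit 1129), Mv.f (nat_lit 1384), Mv.f (nat_lit 1387)]))) (Tr.lf (Fc.ed (nat_lit 1389) (nat_lit 758) Col.a (nat_lit 860) Dv.df))))))) (Tr.nd (nat_lit 1402) (Tr.nd (nat_lit 1396) (Tr.nd (nat_lit 1393) (Tr.nd (nat_lit 1391) (Tr.lf (Fc.ed (nat_lit 1390) (nat_lit 857) Col.d (nat_lit 861) Dv.df)) (Tr.nd (nat_lit 1392) (Tr.lf (Fc.ed (nat_lit 1391) (nat_lit 861) Col.b (nat_lit 707) (Dv.wd (nat_lit 5) [Mv.b (nat_lit 1134), Mv.f (nat_lit 1384), Mv.f (nat_lit 1390)]))) (Tr.lf (Fc.ed (nat_lit 1392) (nat_lit 829) Col.d (nat_lit 862) Dv.df)))) (Tr.nd (nat_lit 1394) (Tr.lf (Fc.ed (nat_lit 1393) (nat_lit 708) Col.a (nat_lit 863) Dv.df)) (Tr.nd (nat_lit 1395) (Tr.lf (Fc.ed (nat_lit 1394) (nat_lit 863) Col.c (nat_lit 830) (Dv.wd (nat_lit 2) [Mv.b (nat_lit 1340), Mv.f (nat_lit 1140), Mv.f (nat_lit 1393)]))) (Tr.lf (Fc.ed (nat_lit 1395) (nat_lit 863) Col.d (nat_lit 843) (Dv.wd (nat_lit 6) [Mv.b (nat_lit 1359), Mv.f (nat_lit 1168), Mv.f (nat_lit 1393)])))))) (Tr.nd (nat_lit 1399) (Tr.nd (nat_lit 1397) (Tr.lf (Fc.ed (nat_lit 1396) (nat_lit 787) Col.d (nat_lit 864) Dv.df)) (Tr.nd (nat_lit 1398) (Tr.lf (Fc.ed (nat_lit 1397) (nat_lit 864) Col.b (nat_lit 705) (Dv.wd (nat_lit 5) [Mv.f (nat_lit 1132), Mv.f (nat_lit 1268), Mv.f (nat_lit 1396)]))) (Tr.lf (Fc.ed (nat_lit 1398) (nat_lit 859) Col.d (nat_lit 865) Dv.df)))) (Tr.nd (nat_lit 1400) (Tr.lf (Fc.ed (nat_lit 1399) (nat_lit 865) Col.b (nat_lit 712) (Dv.wd (nat_lit 5) [Mv.f (nat_lit 1142), Mv.b (nat_lit 1388), Mv.f (nat_lit 1398)]))) (Tr.nd (nat_lit 1401) (Tr.lf (Fc.ed (nat_lit 1400) (nat_lit 865) Col.c (nat_lit 866) Dv.df)) (Tr.lf (Fc.ed (nat_lit 1401) (nat_lit 844) Col.b (nat_lit 867) Dv.df)))))) (Tr.nd (nat_lit 1408) (Tr.nd (nat_lit 1405) (Tr.nd (nat_lit 1403) (Tr.lf (Fc.ed (nat_lit 1402) (nat_lit 867) Col.c (nat_lit 861) (Dv.wd (nat_lit 8) [Mv.f (nat_lit 1391), Mv.b (nat_lit 1147), Mv.b (nat_lit 1325), Mv.b (nat_lit 1361), Mv.f (nat_lit 1401)]))) (Tr.nd (nat_lit 1404) (Tr.lf (Fc.ed (nat_lit 1403) (nat_lit 866) Col.b (nat_lit 868) Dv.df)) (Tr.lf (Fc.ed (nat_lit 1404) (nat_lit 868) Col.c (nat_lit 771) (Dv.wd (nat_lit 8) [Mv.b (nat_lit 1243), Mv.f (nat_lit 1145), Mv.b (nat_lit 1399), Mv.f (nat_lit 1400), Mv.f (nat_lit 1403)]))))) (Tr.nd (nat_lit 1406) (Tr.lf (Fc.ed (nat_lit 1405) (nat_lit 862) Col.c (nat_lit 869) Dv.df)) (Tr.nd (nat_lit 1407) (Tr.lf (Fc.ed (nat_lit 1406) (nat_lit 869) Col.d (nat_lit 830) (Dv.wd (nat_lit 25) [Mv.b (nat_lit 1394), Mv.f (nat_lit 1395), Mv.b (nat_lit 1359), Mv.b (nat_lit 1180), Mv.f (nat_lit 1311), Mv.f (nat_lit 1338), Mv.f (nat_lit 1392), Mv.f (nat_lit 1405)]))) (Tr.lf (Fc.ed (nat_lit 1407) (nat_lit 864) Col.a (nat_lit 870) Dv.df))))) (Tr.nd (nat_lit 1411) (Tr.nd (nat_lit 1409) (Tr.lf (Fc.ed (nat_lit 1408) (nat_lit 800) Col.c (nat_lit 871) Dv.df)) (Tr.nd (nat_lit 1410) (Tr.lf (Fc.ed (nat_lit 1409) (nat_lit 871) Col.d (nat_lit 872) Dv.df)) (Tr.lf (Fc.ed (nat_lit 1410) (nat_lit 737) Col.d (nat_lit 873) Dv.df)))) (Tr.nd (nat_lit 1412) (Tr.lf (Fc.ed (nat_lit 1411) (nat_lit 873) Col.b (nat_lit 812) (Dv.wd (nat_lit 5) [Mv.f (nat_lit 1310), Mv.f (nat_lit 1198), Mv.f (nat_lit 1410)]))) (Tr.nd (nat_lit 1413) (Tr.lf (Fc.ed (nat_lit 1412) (nat_lit 873) Col.c (nat_lit 872) (Dv.wd (nat_lit 11) [Mv.b (nat_lit 1409), Mv.b (nat_lit 1408), Mv.f (nat_lit 1292), Mv.b (nat_lit 1382), Mv.f (nat_lit 1383), Mv.b (nat_lit 1346), Mv.f (nat_lit 1186), Mv.f (nat_lit 1410)]))) (Tr.lf (Fc.ed (nat_lit 1413) (nat_lit 863) Col.b (nat_lit 874) Dv.df))))))))) (Tr.nd (nat_lit 1461) (Tr.nd (nat_lit 1437) (Tr.nd (nat_lit 1425) (Tr.nd (nat_lit 1419) (Tr.nd (nat_lit 1416) (Tr.nd (nat_lit 1415) (Tr.lf (Fc.ed (nat_lit 1414) (nat_lit 870) Col.b (nat_lit 875) Dv.df)) (Tr.lf (Fc.ed (nat_lit 1415) (nat_lit 875) Col.a (nat_lit 874) (Dv.wd (nat_lit 12) [Mv.b (nat_lit 1413), Mv.b (nat_lit 1393), Mv.b (nat_lit 1135), Mv.f (nat_lit 827), Mv.f (nat_lit 832), Mv.b (nat_lit 1131), Mv.b (nat_lit 1397), Mv.f (nat_lit 1407), Mv.f (nat_lit 1414)])))) (Tr.nd (nat_lit 1417) (Tr.lf (Fc.ed (nat_lit 1416) (nat_lit 736) Col.b (nat_lit 876) Dv.df)) (Tr.nd (nat_lit 1418) (Tr.lf (Fc.ed (nat_lit 1417) (nat_lit 876) Col.c (nat_lit 773) (Dv.wd (nat_lit 8) [Mv.b (nat_lit 1245), Mv.b (nat_lit 1228), Mv.f (nat_lit 1225), Mv.f (nat_lit 1192), Mv.f (nat_lit 1416)]))) (Tr.lf (Fc.ed (nat_lit 1418) (nat_lit 868) Col.a (nat_lit 876) (Dv.wd (nat_lit 26) [Mv.f (nat_lit 1417), Mv.f (nat_lit 1246), Mv.b (nat_lit 1404)])))))) (Tr.nd (nat_lit 1422) (Tr.nd (nat_lit 1420) (Tr.lf (Fc.ed (nat_lit 1419) (nat_lit 860) Col.b (nat_lit 877) Dv.df)) (Tr.nd (nat_lit 1421) (Tr.lf (Fc.ed (nat_lit 1420) (nat_lit 877) Col.a (nat_lit 866) (Dv.wd (nat_lit 12) [Mv.f (nat_lit 1403), Mv.f (nat_lit 1418), Mv.b (nat_lit 1416), Mv.f (nat_lit 1185), Mv.b (nat_lit 1151), Mv.b (nat_lit 895), Mv.f (nat_lit 1222), Mv.f (nat_lit 1389), Mv.f (nat_lit 1419)]))) (Tr.lf (Fc.ed (nat_lit 1421) (nat_lit 761) Col.a (nat_lit 878) Dv.df)))) (Tr.nd (nat_lit 1423) (Tr.lf (Fc.ed (nat_lit 1422) (nat_lit 793) Col.b (nat_lit 879) Dv.df)) (Tr.nd (nat_lit 1424) (Tr.lf (Fc.ed (nat_lit 1423) (nat_lit 879) Col.c (nat_lit 880) Dv.df)) (Tr.lf (Fc.ed (nat_lit 1424) (nat_lit 880) Col.b (nat_lit 768) (Dv.wd (nat_lit 7) [Mv.b (nat_lit 1239), Mv.b (nat_lit 1210), Mv.f (nat_lit 1279), Mv.f (nat_lit 1422), Mv.f (nat_lit 1423)]))))))) (Tr.nd (nat_lit 1431) (Tr.nd (nat_lit 1428) (Tr.nd (nat_lit 1426) (Tr.lf (Fc.ed (nat_lit 1425) (nat_lit 747) Col.d (nat_lit 881) Dv.df)) (Tr.nd (nat_lit 1427) (Tr.lf (Fc.ed (nat_lit 1426) (nat_lit 881) Col.b (nat_lit 836) (Dv.wd (nat_lit 5) [Mv.f (nat_lit 1349), Mv.f (nat_lit 1202), Mv.f (nat_lit 1425)]))) (Tr.lf (Fc.ed (nat_lit 1427) (nat_lit 881) Col.c (nat_lit 882) Dv.df)))) (Tr.nd (nat_lit 1429) (Tr.lf (Fc.ed (nat_lit 1428) (nat_lit 767) Col.c (nat_lit 883) Dv.df)) (Tr.nd (nat_lit 1430) (Tr.lf (Fc.ed (nat_lit 1429) (nat_lit 883) Col.b (nat_lit 871) (Dv.wd (nat_lit 7) [Mv.b (nat_lit 1408), Mv.b (nat_lit 1291), Mv.f (nat_lit 1249), Mv.f (nat_lit 1237), Mv.f (nat_lit 1428)]))) (Tr.lf (Fc.ed (nat_lit 1430) (nat_lit 883) Col.d (nat_lit 882) (Dv.wd (nat_lit 10) [Mv.b (nat_lit 1427), Mv.b (nat_lit 1425), Mv.f (nat_lit 1203), Mv.f (nat_lit 1201), Mv.f (nat_lit 1219), Mv.b (nat_lit 1221), Mv.b (nat_lit 1238), Mv.f (nat_lit 1428)])))))) (Tr.nd (nat_lit 1434) (Tr.nd (nat_lit 1432) (Tr.lf (Fc.ed (nat_lit 1431) (nat_lit 882) Col.b (nat_lit 872) (Dv.wd (nat_lit 5) [Mv.b (nat_lit 1409), Mv.b (nat_lit 1429), Mv.f (nat_lit 1430)]))) (Tr.nd (nat_lit 1433) (Tr.lf (Fc.al (nat_lit 1432) (nat_lit 825) (nat_lit 836) (Dv.wd (nat_lit 23) [Mv.b (nat_lit 1426), Mv.f (nat_lit 1427), Mv.f (nat_lit 1431), Mv.b (nat_lit 1412), Mv.f (nat_lit 1411), Mv.f (nat_lit 1330)]))) (Tr.lf (Fc.al (nat_lit 1433) (nat_lit 816) (nat_lit 739) (Dv.wd (nat_lit 27) [Mv.b (nat_lit 1349), Mv.b (nat_lit 1432), Mv.f (nat_lit 1331)]))))) (Tr.nd (nat_lit 1435) (Tr.lf (Fc.al (nat_lit 1434) (nat_lit 576) (nat_lit 826) (Dv.wd (nat_lit 28) [Mv.f (nat_lit 1333), Mv.f (nat_lit 1433), Mv.b (nat_lit 1190)]))) (Tr.nd (nat_lit 1436) (Tr.lf (Fc.al (nat_lit 1435) (nat_lit 575) (nat_lit 795) (Dv.wd (nat_lit 27) [Mv.f (nat_lit 1332), Mv.b (nat_lit 1434), Mv.b (nat_lit 921)]))) (Tr.lf (Fc.al (nat_lit 1436) (nat_lit 386) (nat_lit 802) (Dv.wd (nat_lit 29) [Mv.f (nat_lit 1295), Mv.b (nat_lit 1435), Mv.b (nat_lit 920)])))))))) (Tr.nd (nat_lit 1449) (Tr.nd (nat_lit 1443) (Tr.nd (nat_lit 1440) (Tr.nd (nat_lit 1438) (Tr.lf (Fc.al (nat_lit 1437) (nat_lit 389) (nat_lit 799) (Dv.wd (nat_lit 28) [Mv.f (nat_lit 1294), Mv.b (nat_lit 1436), Mv.b (nat_lit 621)]))) (Tr.nd (nat_lit 1439) (Tr.lf (Fc.al (nat_lit 1438) (nat_lit 613) (nat_lit 678) (Dv.wd (nat_lit 29) [Mv.f (nat_lit 1290), Mv.b (nat_lit 1437), Mv.b (nat_lit 980)]))) (Tr.lf (Fc.al (nat_lit 1439) (nat_lit 626) (nat_lit 577) (Dv.wd (nat_lit 30) [Mv.f (nat_lit 1088), Mv.b (nat_lit 1438), Mv.b (nat_lit 1002)]))))) (Tr.nd (nat_lit 1441) (Tr.lf (Fc.al (nat_lit 1440) (nat_lit 578) (nat_lit 625) (Dv.wd (nat_lit 29) [Mv.f (nat_lit 1001), Mv.f (nat_lit 1439), Mv.b (nat_lit 925)]))) (Tr.nd (nat_lit 1442) (Tr.lf (Fc.al (nat_lit 1441) (nat_lit 756) (nat_lit 609) (Dv.wd (nat_lit 30) [Mv.f (nat_lit 1000), Mv.b (nat_lit 1440), Mv.f (nat_lit 1218)]))) (Tr.lf (Fc.al (nat_lit 1442) (nat_lit 588) (nat_lit 759) (Dv.wd (nat_lit 27) [Mv.b (nat_lit 1223), Mv.f (nat_lit 1441), Mv.b (nat_lit 972)])))))) (Tr.nd (nat_lit 1446) (Tr.nd (nat_lit 1444) (Tr.lf (Fc.al (nat_lit 1443) (nat_lit 790) (nat_lit 769) (Dv.wd (nat_lit 28) [Mv.b (nat_lit 1240), Mv.b (nat_lit 1442), Mv.f (nat_lit 1274)]))) (Tr.nd (nat_lit 1445) (Tr.lf (Fc.ed (nat_lit 1444) (nat_lit 769) Col.b (nat_lit 780) (Dv.wd (nat_lit 29) [Mv.b (nat_lit 1275), Mv.f (nat_lit 1443)]))) (Tr.lf (Fc.ed (nat_lit 1445) (nat_lit 780) Col.d (nat_lit 880) (Dv.wd (nat_lit 3) [Mv.f (nat_lit 1424), Mv.b (nat_lit 1241), Mv.f (nat_lit 1444)]))))) (Tr.nd (nat_lit 1447) (Tr.lf (Fc.ed (nat_lit 1446) (nat_lit 860) Col.c (nat_lit 884) Dv.df)) (Tr.nd (nat_lit 1448) (Tr.lf (Fc.ed (nat_lit 1447) (nat_lit 884) Col.a (nat_lit 766) (Dv.wd (nat_lit 4) [Mv.b (nat_lit 1235), Mv.f (nat_lit 1389), Mv.f (nat_lit 1446)]))) (Tr.lf (Fc.ed (nat_lit 1448) (nat_lit 878) Col.c (nat_lit 885) Dv.df)))))) (Tr.nd (nat_lit 1455) (Tr.nd (nat_lit 1452) (Tr.nd (nat_lit 1450) (Tr.lf (Fc.ed (nat_lit 1449) (nat_lit 885) Col.a (nat_lit 772) (Dv.wd (nat_lit 4) [Mv.b (nat_lit 1244), Mv.f (nat_lit 1421), Mv.f (nat_lit 1448)]))) (Tr.nd (nat_lit 1451) (Tr.lf (Fc.ed (nat_lit 1450) (nat_lit 865) Col.a (nat_lit 886) Dv.df)) (Tr.lf (Fc.ed (nat_lit 1451) (nat_lit 886) Col.c (nat_lit 877) (Dv.wd (nat_lit 2) [Mv.f (nat_lit 1420), Mv.b (nat_lit 1400), Mv.f (nat_lit 1450)]))))) (Tr.nd (nat_lit 1453) (Tr.lf (Fc.ed (nat_lit 1452) (nat_lit 879) Col.d (nat_lit 887) Dv.df)) (Tr.nd (nat_lit 1454) (Tr.lf (Fc.ed (nat_lit 1453) (nat_lit 887) Col.b (nat_lit 797) (Dv.wd (nat_lit 5) [Mv.f (nat_lit 1288), Mv.f (nat_lit 1422), Mv.f (nat_lit 1452)]))) (Tr.lf (Fc.ed (nat_lit 1454) (nat_lit 887) Col.a (nat_lit 845) (Dv.wd (nat_lit 19) [Mv.b (nat_lit 1365), Mv.f (nat_lit 1364), Mv.b (nat_lit 1271), Mv.f (nat_lit 1270), Mv.f (nat_lit 1258), Mv.f (nat_lit 1445), Mv.b (nat_lit 1423), Mv.f (nat_lit 1452)])))))) (Tr.nd (nat_lit 1458) (Tr.nd (nat_lit 1456) (Tr.lf (Fc.ed (nat_lit 1455) (nat_lit 858) Col.a (nat_lit 850) (Dv.wd (nat_lit 31) [Mv.b (nat_lit 1372), Mv.b (nat_lit 1370), Mv.f (nat_lit 1112), Mv.b (nat_lit 1287), Mv.b (nat_lit 1453), Mv.f (nat_lit 1454), Mv.b (nat_lit 1362), Mv.b (nat_lit 1353), Mv.f (nat_lit 1385)]))) (Tr.nd (nat_lit 1457) (Tr.lf (Fc.ed (nat_lit 1456) (nat_lit 853) Col.a (nat_lit 855) (Dv.wd (nat_lit 26) [Mv.b (nat_lit 1386), Mv.f (nat_lit 1455), Mv.f (nat_lit 1377)]))) (Tr.lf (Fc.ed (nat_lit 1457) (nat_lit 828) Col.b (nat_lit 885) (Dv.wd (nat_lit 32) [Mv.f (nat_lit 1449), Mv.b (nat_lit 1251), Mv.b (nat_lit 1343), Mv.b (nat_lit 1378), Mv.f (nat_lit 1456), Mv.b (nat_lit 1380), Mv.b (nat_lit 1373), Mv.b (nat_lit 1164), Mv.b (nat_lit 1336)]))))) (Tr.nd (nat_lit 1459) (Tr.lf (Fc.ed (nat_lit 1458) (nat_lit 884) Col.b (nat_lit 888) Dv.df)) (Tr.nd (nat_lit 1460) (Tr.lf (Fc.ed (nat_lit 1459) (nat_lit 854) Col.b (nat_lit 889) Dv.df)) (Tr.lf (Fc.ed (nat_lit 1460) (nat_lit 889) Col.d (nat_lit 772) (Dv.wd (nat_lit 3) [Mv.b (nat_lit 1251), Mv.f (nat_lit 1379), Mv.f (nat_lit 1459)]))))))))) (Tr.nd (nat_lit 1485) (Tr.nd (nat_lit 1473) (Tr.nd (nat_lit 1467) (Tr.nd (nat_lit 1464) (Tr.nd (nat_lit 1462) (Tr.lf (Fc.ed (nat_lit 1461) (nat_lit 885) Col.d (nat_lit 890) Dv.df)) (Tr.nd (nat_lit 1463) (Tr.lf (Fc.ed (nat_lit 1462) (nat_lit 890) Col.a (nat_lit 889) (Dv.wd (nat_lit 1) [Mv.f (nat_lit 1460), Mv.b (nat_lit 1449), Mv.f (nat_lit 1461)]))) (Tr.lf (Fc.ed (nat_lit 1463) (nat_lit 890) Col.b (nat_lit 827) (Dv.wd (nat_lit 5) [Mv.b (nat_lit 1337), Mv.f (nat_lit 1457), Mv.f (nat_lit 1461)]))))) (Tr.nd (nat_lit 1465) (Tr.lf (Fc.ed (nat_lit 1464) (nat_lit 821) Col.d (nat_lit 891) Dv.df)) (Tr.nd (nat_lit 1466) (Tr.lf (Fc.ed (nat_lit 1465) (nat_lit 891) Col.b (nat_lit 862) (Dv.wd (nat_lit 5) [Mv.b (nat_lit 1392), Mv.f (nat_lit 1339), Mv.f (nat_lit 1464)]))) (Tr.lf (Fc.ed (nat_lit 1466) (nat_lit 891) Col.c (nat_lit 892) Dv.df))))) (Tr.nd (nat_lit 1470) (Tr.nd (nat_lit 1468) (Tr.lf (Fc.ed (nat_lit 1467) (nat_lit 886) Col.b (nat_lit 893) Dv.df)) (Tr.nd (nat_lit 1469) (Tr.lf (Fc.ed (nat_lit 1468) (nat_lit 893) Col.c (nat_lit 888) (Dv.wd (nat_lit 8) [Mv.b (nat_lit 1458), Mv.b (nat_lit 1446), Mv.f (nat_lit 1419), Mv.b (nat_lit 1451), Mv.f (nat_lit 1467)]))) (Tr.lf (Fc.ed (nat_lit 1469) (nat_lit 890) Col.c (nat_lit 894) Dv.df)))) (Tr.nd (nat_lit 1471) (Tr.lf (Fc.ed (nat_lit 1470) (nat_lit 894) Col.b (nat_lit 823) (Dv.wd (nat_lit 7) [Mv.b (nat_lit 1326), Mv.f (nat_lit 1328), Mv.f (nat_lit 1334), Mv.b (nat_lit 1463), Mv.f (nat_lit 1469)]))) (Tr.nd (nat_lit 1472) (Tr.lf (Fc.ed (nat_lit 1471) (nat_lit 894) Col.d (nat_lit 892) (Dv.wd (nat_lit 10) [Mv.b (nat_lit 1466), Mv.b (nat_lit 1464), Mv.b (nat_lit 1323), Mv.b (nat_lit 1272), Mv.f (nat_lit 1244), Mv.b (nat_lit 1460), Mv.b (nat_lit 1462), Mv.f (nat_lit 1469)]))) (Tr.lf (Fc.ed (nat_lit 1472) (nat_lit 892) Col.b (nat_lit 820) (Dv.wd (nat_lit 5) [Mv.b (nat_lit 1327), Mv.b (nat_lit 1470), Mv.f (nat_lit 1471)]))))))) (Tr.nd (nat_lit 1479) (Tr.nd (nat_lit 1476) (Tr.nd (nat_lit 1474) (Tr.lf (Fc.ed (nat_lit 1473) (nat_lit 819) Col.b (nat_lit 869) (Dv.wd (nat_lit 33) [Mv.b (nat_lit 1405), Mv.b (nat_lit 1465), Mv.f (nat_lit 1466), Mv.f (nat_lit 1472), Mv.b (nat_lit 1322)]))) (Tr.nd (nat_lit 1475) (Tr.lf (Fc.al (nat_lit 1474) (nat_lit 841) (nat_lit 783) (Dv.wd (nat_lit 21) [Mv.f (nat_lit 1321), Mv.f (nat_lit 1473), Mv.f (nat_lit 1406), Mv.f (nat_lit 1356)]))) (Tr.lf (Fc.al (nat_lit 1475) (nat_lit 782) (nat_lit 830) (Dv.wd (nat_lit 29) [Mv.f (nat_lit 1356), Mv.f (nat_lit 1474), Mv.b (nat_lit 1263)]))))) (Tr.nd (nat_lit 1477) (Tr.lf (Fc.al (nat_lit 1476) (nat_lit 781) (nat_lit 863) (Dv.wd (nat_lit 28) [Mv.f (nat_lit 1394), Mv.b (nat_lit 1475), Mv.b (nat_lit 1260)]))) (Tr.nd (nat_lit 1478) (Tr.lf (Fc.al (nat_lit 1477) (nat_lit 778) (nat_lit 874) (Dv.wd (nat_lit 29) [Mv.b (nat_lit 1413), Mv.b (nat_lit 1476), Mv.b (nat_lit 1259)]))) (Tr.lf (Fc.al (nat_lit 1478) (nat_lit 622) (nat_lit 875) (Dv.wd (nat_lit 30) [Mv.f (nat_lit 1415), Mv.b (nat_lit 1477), Mv.f (nat_lit 1256)])))))) (Tr.nd (nat_lit 1482) (Tr.nd (nat_lit 1480) (Tr.lf (Fc.al (nat_lit 1479) (nat_lit 637) (nat_lit 870) (Dv.wd (nat_lit 29) [Mv.f (nat_lit 1414), Mv.b (nat_lit 1478), Mv.f (nat_lit 1020)]))) (Tr.nd (nat_lit 1481) (Tr.lf (Fc.al (nat_lit 1480) (nat_lit 803) (nat_lit 864) (Dv.wd (nat_lit 30) [Mv.f (nat_lit 1407), Mv.b (nat_lit 1479), Mv.b (nat_lit 1297)]))) (Tr.lf (Fc.al (nat_lit 1481) (nat_lit 805) (nat_lit 787) (Dv.wd (nat_lit 27) [Mv.f (nat_lit 1396), Mv.b (nat_lit 1480), Mv.f (nat_lit 1300)]))))) (Tr.nd (nat_lit 1483) (Tr.lf (Fc.al (nat_lit 1482) (nat_lit 794) (nat_lit 796) (Dv.wd (nat_lit 28) [Mv.b (nat_lit 1301), Mv.f (nat_lit 1481), Mv.b (nat_lit 1282)]))) (Tr.nd (nat_lit 1484) (Tr.lf (Fc.al (nat_lit 1483) (nat_lit 792) (nat_lit 656) (Dv.wd (nat_lit 27) [Mv.f (nat_lit 1285), Mv.b (nat_lit 1482), Mv.f (nat_lit 1281)]))) (Tr.lf (Fc.al (nat_lit 1484) (nat_lit 629) (nat_lit 837) (Dv.wd (nat_lit 28) [Mv.b (nat_lit 1350), Mv.f (nat_lit 1483), Mv.b (nat_lit 1054)])))))))) (Tr.nd (nat_lit 1497) (Tr.nd (nat_lit 1491) (Tr.nd (nat_lit 1488) (Tr.nd (nat_lit 1486) (Tr.lf (Fc.al (nat_lit 1485) (nat_lit 426) (nat_lit 835) (Dv.wd (nat_lit 29) [Mv.b (nat_lit 1351), Mv.b (nat_lit 1484), Mv.b (nat_lit 1007)]))) (Tr.nd (nat_lit 1487) (Tr.lf (Fc.al (nat_lit 1486) (nat_lit 427) (nat_lit 852) (Dv.wd (nat_lit 30) [Mv.f (nat_lit 1376), Mv.b (nat_lit 1485), Mv.b (nat_lit 680)]))) (Tr.lf (Fc.al (nat_lit 1487) (nat_lit 439) (nat_lit 848) (Dv.wd (nat_lit 27) [Mv.f (nat_lit 1375), Mv.b (nat_lit 1486), Mv.b (nat_lit 700)]))))) (Tr.nd (nat_lit 1489) (Tr.lf (Fc.al (nat_lit 1488) (nat_lit 444) (nat_lit 847) (Dv.wd (nat_lit 28) [Mv.f (nat_lit 1368), Mv.b (nat_lit 1487), Mv.b (nat_lit 709)]))) (Tr.nd (nat_lit 1490) (Tr.lf (Fc.al (nat_lit 1489) (nat_lit 435) (nat_lit 844) (Dv.wd (nat_lit 27) [Mv.f (nat_lit 1366), Mv.b (nat_lit 1488), Mv.f (nat_lit 710)]))) (Tr.lf (Fc.al (nat_lit 1490) (nat_lit 633) (nat_lit 867) (Dv.wd (nat_lit 29) [Mv.b (nat_lit 1401), Mv.b (nat_lit 1489), Mv.f (nat_lit 1013)])))))) (Tr.nd (nat_lit 1494) (Tr.nd (nat_lit 1492) (Tr.lf (Fc.al (nat_lit 1491) (nat_lit 635) (nat_lit 861) (Dv.wd (nat_lit 28) [Mv.b (nat_lit 1402), Mv.b (nat_lit 1490), Mv.b (nat_lit 1017)]))) (Tr.nd (nat_lit 1493) (Tr.lf (Fc.al (nat_lit 1492) (nat_lit 808) (nat_lit 857) (Dv.wd (nat_lit 27) [Mv.f (nat_lit 1390), Mv.b (nat_lit 1491), Mv.f (nat_lit 1304)]))) (Tr.lf (Fc.al (nat_lit 1493) (nat_lit 814) (nat_lit 859) (Dv.wd (nat_lit 28) [Mv.b (nat_lit 1387), Mv.b (nat_lit 1492), Mv.f (nat_lit 1313)]))))) (Tr.nd (nat_lit 1495) (Tr.lf (Fc.al (nat_lit 1494) (nat_lit 818) (nat_lit 865) (Dv.wd (nat_lit 27) [Mv.b (nat_lit 1398), Mv.b (nat_lit 1493), Mv.b (nat_lit 1320)]))) (Tr.nd (nat_lit 1496) (Tr.lf (Fc.al (nat_lit 1495) (nat_lit 751) (nat_lit 886) (Dv.wd (nat_lit 30) [Mv.b (nat_lit 1450), Mv.b (nat_lit 1494), Mv.f (nat_lit 1319)]))) (Tr.lf (Fc.al (nat_lit 1496) (nat_lit 734) (nat_lit 893) (Dv.wd (nat_lit 29) [Mv.b (nat_lit 1467), Mv.b (nat_lit 1495), Mv.f (nat_lit 1209)]))))))) (Tr.nd (nat_lit 1503) (Tr.nd (nat_lit 1500) (Tr.nd (nat_lit 1498) (Tr.lf (Fc.al (nat_lit 1497) (nat_lit 683) (nat_lit 888) (Dv.wd (nat_lit 28) [Mv.b (nat_lit 1468), Mv.b (nat_lit 1496), Mv.b (nat_lit 1181)]))) (Tr.nd (nat_lit 1499) (Tr.lf (Fc.al (nat_lit 1498) (nat_lit 483) (nat_lit 884) (Dv.wd (nat_lit 29) [Mv.f (nat_lit 1458), Mv.b (nat_lit 1497), Mv.b (nat_lit 1095)]))) (Tr.lf (Fc.al (nat_lit 1499) (nat_lit 433) (nat_lit 766) (Dv.wd (nat_lit 30) [Mv.b (nat_lit 1447), Mv.b (nat_lit 1498), Mv.f (nat_lit 772)]))))) (Tr.nd (nat_lit 1501) (Tr.lf (Fc.al (nat_lit 1500) (nat_lit 278) (nat_lit 653) (Dv.wd (nat_lit 29) [Mv.b (nat_lit 1236), Mv.b (nat_lit 1499), Mv.b (nat_lit 689)]))) (Tr.nd (nat_lit 1502) (Tr.lf (Fc.al (nat_lit 1501) (nat_lit 266) (nat_lit 643) (Dv.wd (nat_lit 28) [Mv.b (nat_lit 1050), Mv.b (nat_lit 1500), Mv.b (nat_lit 441)]))) (Tr.lf (Fc.al (nat_lit 1502) (nat_lit 197) (nat_lit 451) (Dv.wd (nat_lit 27) [Mv.f (nat_lit 1032), Mv.b (nat_lit 1501), Mv.b (nat_lit 423)])))))) (Tr.nd (nat_lit 1506) (Tr.nd (nat_lit 1504) (Tr.lf (Fc.al (nat_lit 1503) (nat_lit 41) (nat_lit 316) (Dv.wd (nat_lit 28) [Mv.b (nat_lit 721), Mv.b (nat_lit 1502), Mv.f (nat_lit 310)]))) (Tr.nd (nat_lit 1505) (Tr.lf (Fc.al (nat_lit 1504) (nat_lit 39) (nat_lit 232) (Dv.wd (nat_lit 29) [Mv.b (nat_lit 500), Mv.b (nat_lit 1503), Mv.f (nat_lit 53)]))) (Tr.lf (Fc.al (nat_lit 1505) (nat_lit 14) (nat_lit 231) (Dv.wd (nat_lit 27) [Mv.b (nat_lit 365), Mv.b (nat_lit 1504), Mv.b (nat_lit 49)]))))) (Tr.nd (nat_lit 1507) (Tr.lf (Fc.al (nat_lit 1506) (nat_lit 0) (nat_lit 26) (Dv.wd (nat_lit 28) [Mv.f (nat_lit 363), Mv.b (nat_lit 1505), Mv.f (nat_lit 14)]))) (Tr.nd (nat_lit 1508) (Tr.lf (Fc.al (nat_lit 1507) (nat_lit 38) (nat_lit 25) (Dv.wd (nat_lit 27) [Mv.f (nat_lit 26), Mv.b (nat_lit 1506), Mv.b (nat_lit 48)]))) (Tr.lf (Fc.ed (nat_lit 1508) (nat_lit 25) Col.d (nat_lit 0) (Dv.wd (nat_lit 27) [Mv.b (nat_lit 48), Mv.f (nat_lit 1507)]))))))))))))))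
noncomputable def mini1A : Tr (Alt Col) := (Tr.nd (nat_lit 17) (Tr.nd (nat_lit 8) (Tr.nd (nat_lit 4) (Tr.nd (nat_lit 2) (Tr.nd (nat_lit 1) (Tr.lf (Alt.base (nat_lit 0) [Col.a, Col.b, Col.a, Col.b, Col.a, Col.c, Col.b, Col.a, Col.b, Col.c, Col.a, Col.b, Col.a, Col.b] [Col.c])) (Tr.lf (Alt.word (nat_lit 3) (nat_lit 1) true [Col.a, Col.d, Col.a, Col.d]))) (Tr.nd (nat_lit 3) (Tr.lf (Alt.word (nat_lit 2) (nat_lit 2) true [Col.c, Col.a, Col.c, Col.a])) (Tr.lf (Alt.word (nat_lit 6) (nat_lit 2) true [Col.d, Col.b, Col.d, Col.b])))) (Tr.nd (nat_lit 6) (Tr.nd (nat_lit 5) (Tr.lf (Alt.word (nat_lit 2) (nat_lit 1) true [Col.a, Col.c, Col.a, Col.c])) (Tr.lf (Alt.word (nat_lit 6) (nat_lit 1) true [Col.b, Col.d, Col.b, Col.d]))) (Tr.nd (nat_lit 7) (Tr.lf (Alt.word (nat_lit 3) (nat_lit 2) true [Col.d, Col.a, Col.d, Col.a]))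 (Tr.lf (Alt.word (nat_lit 5) (nat_lit 1) true [Col.b, Col.c, Col.b, Col.c, Col.b, Col.c]))))) (Tr.nd (nat_lit 12) (Tr.nd (nat_lit 10) (Tr.nd (nat_lit 9) (Tr.lf (Alt.word (nat_lit 5) (nat_lit 2) true [Col.c, Col.b, Col.c, Col.b, Col.c, Col.b])) (Tr.lf (Alt.word (nat_lit 1) (nat_lit 2) true [Col.b, Col.a, Col.b, Col.a, Col.b, Col.a, Col.b, Col.a, Col.b, Col.a]))) (Tr.nd (nat_lit 11) (Tr.lf (Alt.word (nat_lit 10) (nat_lit 1) true [Col.d, Col.c, Col.d, Col.c, Col.d, Col.c, Col.d, Col.a, Col.c])) (Tr.lf (Alt.word (nat_lit 10) (nat_lit 2) true [Col.c, Col.d, Col.c, Col.d, Col.c, Col.d, Col.a, Col.c, Col.d])))) (Tr.nd (nat_lit 14) (Tr.nd (nat_lit 13) (Tr.lf (Alt.word (nat_lit 1) (nat_lit 1) true [Col.a, Col.b, Col.a, Col.b, Col.a, Col.b, Col.a, Col.b, Col.a, Col.b])) (Tr.lf (Alt.word (nat_lit 10) (nat_lit 3) true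 [Col.d, Col.c, Col.d, Col.c, Col.d, Col.a, Col.c, Col.d, Col.c]))) (Tr.nd (nat_lit 15) (Tr.lf (Alt.word (nat_lit 3) (nat_lit 3) true [Col.a, Col.d, Col.a, Col.d])) (Tr.nd (nat_lit 16) (Tr.lf (Alt.word (nat_lit 6) (nat_lit 3) true [Col.b, Col.d, Col.b, Col.d])) (Tr.lf (Alt.word (nat_lit 10) (nat_lit 6) true [Col.c, Col.d, Col.a, Col.c, Col.d, Col.c, Col.d, Col.c, Col.d]))))))) (Tr.nd (nat_lit 25) (Tr.nd (nat_lit 21) (Tr.nd (nat_lit 19) (Tr.nd (nat_lit 18) (Tr.lf (Alt.word (nat_lit 10) (nat_lit 4) true [Col.c, Col.d, Col.c, Col.d, Col.a, Col.c, Col.d, Col.c, Col.d])) (Tr.lf (Alt.word (nat_lit 10) (nat_lit 0) false [Col.a, Col.d, Col.c, Col.d, Col.c, Col.d, Col.c, Col.d, Col.c]))) (Tr.nd (nat_lit 20) (Tr.lf (Alt.word (nat_lit 10) (nat_lit 8) true [Col.a, Col.c, Col.d, Col.c, Col.d, Col.c, Col.d, Col.c, Col.d]))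 (Tr.lf (Alt.word (nat_lit 10) (nat_lit 8) false [Col.c, Col.a, Col.d, Col.c, Col.d, Col.c, Col.d, Col.c, Col.d])))) (Tr.nd (nat_lit 23) (Tr.nd (nat_lit 22) (Tr.lf (Alt.word (nat_lit 6) (nat_lit 0) true [Col.d, Col.b, Col.d, Col.b])) (Tr.lf (Alt.word (nat_lit 3) (nat_lit 0) true [Col.d, Col.a, Col.d, Col.a]))) (Tr.nd (nat_lit 24) (Tr.lf (Alt.word (nat_lit 5) (nat_lit 5) true [Col.b, Col.c, Col.b, Col.c, Col.b, Col.c])) (Tr.lf (Alt.word (nat_lit 10) (nat_lit 7) true [Col.d, Col.a, Col.c, Col.d, Col.c, Col.d, Col.c, Col.d, Col.c]))))) (Tr.nd (nat_lit 29) (Tr.nd (nat_lit 27) (Tr.nd (nat_lit 26) (Tr.lf (Alt.word (nat_lit 10) (nat_lit 5) true [Col.d, Col.c, Col.d, Col.a, Col.c, Col.d, Col.c, Col.d, Col.c])) (Tr.lf (Alt.word (nat_lit 2) (nat_lit 3) true [Col.a, Col.c, Col.a, Col.c]))) (Tr.nd (nat_lit 28) (Tr.lf (Alt.word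 (nat_lit 9) (nat_lit 0) true [Col.d, Col.d])) (Tr.lf (Alt.word (nat_lit 7) (nat_lit 0) true [Col.c, Col.c])))) (Tr.nd (nat_lit 31) (Tr.nd (nat_lit 30) (Tr.lf (Alt.word (nat_lit 4) (nat_lit 0) true [Col.b, Col.b])) (Tr.lf (Alt.word (nat_lit 0) (nat_lit 0) true [Col.a, Col.a]))) (Tr.nd (nat_lit 32) (Tr.lf (Alt.word (nat_lit 1) (nat_lit 5) true [Col.a, Col.b, Col.a, Col.b, Col.a, Col.b, Col.a, Col.b, Col.a, Col.b])) (Tr.nd (nat_lit 33) (Tr.lf (Alt.word (nat_lit 1) (nat_lit 6) true [Col.b, Col.a, Col.b, Col.a, Col.b, Col.a, Col.b, Col.a, Col.b, Col.a])) (Tr.lf (Alt.word (nat_lit 5) (nat_lit 3) true [Col.b, Col.c, Col.b, Col.c, Col.b, Col.c]))))))))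
noncomputable def mini1P : Tr ℕ := (Tr.nd (nat_lit 447) (Tr.nd (nat_lit 223) (Tr.nd (nat_lit 111) (Tr.nd (nat_lit 55) (Tr.nd (nat_lit 27) (Tr.nd (nat_lit 13) (Tr.nd (nat_lit 6) (Tr.nd (nat_lit 3) (Tr.nd (nat_lit 1) (Tr.lf (nat_lit 0)) (Tr.nd (nat_lit 2) (Tr.lf (nat_lit 0)) (Tr.lf (nat_lit 1)))) (Tr.nd (nat_lit 4) (Tr.lf (nat_lit 2)) (Tr.nd (nat_lit 5) (Tr.lf (nat_lit 3)) (Tr.lf (nat_lit 4))))) (Tr.nd (nat_lit 9) (Tr.nd (nat_lit 7) (Tr.lf (nat_lit 5)) (Tr.nd (nat_lit 8) (Tr.lf (nat_lit 6)) (Tr.lf (nat_lit 7)))) (Tr.nd (nat_lit 11) (Tr.nd (nat_lit 10) (Tr.lf (nat_lit 8)) (Tr.lf (nat_lit 9))) (Tr.nd (nat_lit 12) (Tr.lf (nat_lit 10)) (Tr.lf (nat_lit 11)))))) (Tr.nd (nat_lit 20) (Tr.nd (nat_lit 16) (Tr.nd (nat_lit 14) (Tr.lf (nat_lit 12)) (Tr.nd (nat_lit 15) (Tr.lf (nat_lit 13)) (Tr.lf (nat_lit 5)))) (Tr.nd (nat_lit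 18) (Tr.nd (nat_lit 17) (Tr.lf (nat_lit 15)) (Tr.lf (nat_lit 16))) (Tr.nd (nat_lit 19) (Tr.lf (nat_lit 17)) (Tr.lf (nat_lit 18))))) (Tr.nd (nat_lit 23) (Tr.nd (nat_lit 21) (Tr.lf (nat_lit 19)) (Tr.nd (nat_lit 22) (Tr.lf (nat_lit 20)) (Tr.lf (nat_lit 21)))) (Tr.nd (nat_lit 25) (Tr.nd (nat_lit 24) (Tr.lf (nat_lit 22)) (Tr.lf (nat_lit 23))) (Tr.nd (nat_lit 26) (Tr.lf (nat_lit 24)) (Tr.lf (nat_lit 25))))))) (Tr.nd (nat_lit 41) (Tr.nd (nat_lit 34) (Tr.nd (nat_lit 30) (Tr.nd (nat_lit 28) (Tr.lf (nat_lit 4)) (Tr.nd (nat_lit 29) (Tr.lf (nat_lit 9)) (Tr.lf (nat_lit 27)))) (Tr.nd (nat_lit 32) (Tr.nd (nat_lit 31) (Tr.lf (nat_lit 4)) (Tr.lf (nat_lit 21))) (Tr.nd (nat_lit 33) (Tr.lf (nat_lit 17)) (Tr.lf (nat_lit 18))))) (Tr.nd (nat_lit 37) (Tr.nd (nat_lit 35) (Tr.lf (nat_lit 16)) (Tr.nd (nat_lit 36) (Tr.lf (nat_lit 2))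 (Tr.lf (nat_lit 1)))) (Tr.nd (nat_lit 39) (Tr.nd (nat_lit 38) (Tr.lf (nat_lit 20)) (Tr.lf (nat_lit 36))) (Tr.nd (nat_lit 40) (Tr.lf (nat_lit 14)) (Tr.lf (nat_lit 21)))))) (Tr.nd (nat_lit 48) (Tr.nd (nat_lit 44) (Tr.nd (nat_lit 42) (Tr.lf (nat_lit 13)) (Tr.nd (nat_lit 43) (Tr.lf (nat_lit 8)) (Tr.lf (nat_lit 9)))) (Tr.nd (nat_lit 46) (Tr.nd (nat_lit 45) (Tr.lf (nat_lit 40)) (Tr.lf (nat_lit 8))) (Tr.nd (nat_lit 47) (Tr.lf (nat_lit 20)) (Tr.lf (nat_lit 46))))) (Tr.nd (nat_lit 51) (Tr.nd (nat_lit 49) (Tr.lf (nat_lit 41)) (Tr.nd (nat_lit 50) (Tr.lf (nat_lit 48)) (Tr.lf (nat_lit 45)))) (Tr.nd (nat_lit 53) (Tr.nd (nat_lit 52) (Tr.lf (nat_lit 43)) (Tr.lf (nat_lit 37))) (Tr.nd (nat_lit 54) (Tr.lf (nat_lit 42)) (Tr.lf (nat_lit 6)))))))) (Tr.nd (nat_lit 83) (Tr.nd (nat_lit 69) (Tr.nd (nat_lit 62) (Tr.nd (nat_lit 58) (Tr.nd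 (nat_lit 56) (Tr.lf (nat_lit 44)) (Tr.nd (nat_lit 57) (Tr.lf (nat_lit 55)) (Tr.lf (nat_lit 54)))) (Tr.nd (nat_lit 60) (Tr.nd (nat_lit 59) (Tr.lf (nat_lit 51)) (Tr.lf (nat_lit 58))) (Tr.nd (nat_lit 61) (Tr.lf (nat_lit 56)) (Tr.lf (nat_lit 24))))) (Tr.nd (nat_lit 65) (Tr.nd (nat_lit 63) (Tr.lf (nat_lit 25)) (Tr.nd (nat_lit 64) (Tr.lf (nat_lit 59)) (Tr.lf (nat_lit 23)))) (Tr.nd (nat_lit 67) (Tr.nd (nat_lit 66) (Tr.lf (nat_lit 63)) (Tr.lf (nat_lit 5))) (Tr.nd (nat_lit 68) (Tr.lf (nat_lit 66)) (Tr.lf (nat_lit 62)))))) (Tr.nd (nat_lit 76) (Tr.nd (nat_lit 72) (Tr.nd (nat_lit 70) (Tr.lf (nat_lit 32)) (Tr.nd (nat_lit 71) (Tr.lf (nat_lit 66)) (Tr.lf (nat_lit 64)))) (Tr.nd (nat_lit 74) (Tr.nd (nat_lit 73) (Tr.lf (nat_lit 71)) (Tr.lf (nat_lit 31))) (Tr.nd (nat_lit 75) (Tr.lf (nat_lit 30)) (Tr.lf (nat_lit 57))))) (Tr.nd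 (nat_lit 79) (Tr.nd (nat_lit 77) (Tr.lf (nat_lit 74)) (Tr.nd (nat_lit 78) (Tr.lf (nat_lit 75)) (Tr.lf (nat_lit 50)))) (Tr.nd (nat_lit 81) (Tr.nd (nat_lit 80) (Tr.lf (nat_lit 12)) (Tr.lf (nat_lit 59))) (Tr.nd (nat_lit 82) (Tr.lf (nat_lit 79)) (Tr.lf (nat_lit 80))))))) (Tr.nd (nat_lit 97) (Tr.nd (nat_lit 90) (Tr.nd (nat_lit 86) (Tr.nd (nat_lit 84) (Tr.lf (nat_lit 31)) (Tr.nd (nat_lit 85) (Tr.lf (nat_lit 78)) (Tr.lf (nat_lit 73)))) (Tr.nd (nat_lit 88) (Tr.nd (nat_lit 87) (Tr.lf (nat_lit 19)) (Tr.lf (nat_lit 86))) (Tr.nd (nat_lit 89) (Tr.lf (nat_lit 17)) (Tr.lf (nat_lit 71))))) (Tr.nd (nat_lit 93) (Tr.nd (nat_lit 91) (Tr.lf (nat_lit 89)) (Tr.nd (nat_lit 92) (Tr.lf (nat_lit 52)) (Tr.lf (nat_lit 46)))) (Tr.nd (nat_lit 95) (Tr.nd (nat_lit 94) (Tr.lf (nat_lit 88)) (Tr.lf (nat_lit 34))) (Tr.nd (nat_lit 96) (Tr.lf (nat_lit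 80)) (Tr.lf (nat_lit 92)))))) (Tr.nd (nat_lit 104) (Tr.nd (nat_lit 100) (Tr.nd (nat_lit 98) (Tr.lf (nat_lit 95)) (Tr.nd (nat_lit 99) (Tr.lf (nat_lit 94)) (Tr.lf (nat_lit 88)))) (Tr.nd (nat_lit 102) (Tr.nd (nat_lit 101) (Tr.lf (nat_lit 54)) (Tr.lf (nat_lit 57))) (Tr.nd (nat_lit 103) (Tr.lf (nat_lit 101)) (Tr.lf (nat_lit 55))))) (Tr.nd (nat_lit 107) (Tr.nd (nat_lit 105) (Tr.lf (nat_lit 81)) (Tr.nd (nat_lit 106) (Tr.lf (nat_lit 90)) (Tr.lf (nat_lit 99)))) (Tr.nd (nat_lit 109) (Tr.nd (nat_lit 108) (Tr.lf (nat_lit 82)) (Tr.lf (nat_lit 85))) (Tr.nd (nat_lit 110) (Tr.lf (nat_lit 103)) (Tr.lf (nat_lit 105))))))))) (Tr.nd (nat_lit 167) (Tr.nd (nat_lit 139) (Tr.nd (nat_lit 125) (Tr.nd (nat_lit 118) (Tr.nd (nat_lit 114) (Tr.nd (nat_lit 112) (Tr.lf (nat_lit 61)) (Tr.nd (nat_lit 113) (Tr.lf (nat_lit 72)) (Tr.lf (nat_lit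 92)))) (Tr.nd (nat_lit 116) (Tr.nd (nat_lit 115) (Tr.lf (nat_lit 91)) (Tr.lf (nat_lit 60))) (Tr.nd (nat_lit 117) (Tr.lf (nat_lit 110)) (Tr.lf (nat_lit 112))))) (Tr.nd (nat_lit 121) (Tr.nd (nat_lit 119) (Tr.lf (nat_lit 74)) (Tr.nd (nat_lit 120) (Tr.lf (nat_lit 117)) (Tr.lf (nat_lit 119)))) (Tr.nd (nat_lit 123) (Tr.nd (nat_lit 122) (Tr.lf (nat_lit 108)) (Tr.lf (nat_lit 94))) (Tr.nd (nat_lit 124) (Tr.lf (nat_lit 118)) (Tr.lf (nat_lit 98)))))) (Tr.nd (nat_lit 132) (Tr.nd (nat_lit 128) (Tr.nd (nat_lit 126) (Tr.lf (nat_lit 53)) (Tr.nd (nat_lit 127) (Tr.lf (nat_lit 125)) (Tr.lf (nat_lit 68)))) (Tr.nd (nat_lit 130) (Tr.nd (nat_lit 129) (Tr.lf (nat_lit 118)) (Tr.lf (nat_lit 56))) (Tr.nd (nat_lit 131) (Tr.lf (nat_lit 127)) (Tr.lf (nat_lit 2))))) (Tr.nd (nat_lit 135) (Tr.nd (nat_lit 133) (Tr.lf (nat_lit 67)) (Tr.nd (nat_lit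 134) (Tr.lf (nat_lit 130)) (Tr.lf (nat_lit 69)))) (Tr.nd (nat_lit 137) (Tr.nd (nat_lit 136) (Tr.lf (nat_lit 60)) (Tr.lf (nat_lit 124))) (Tr.nd (nat_lit 138) (Tr.lf (nat_lit 66)) (Tr.lf (nat_lit 125))))))) (Tr.nd (nat_lit 153) (Tr.nd (nat_lit 146) (Tr.nd (nat_lit 142) (Tr.nd (nat_lit 140) (Tr.lf (nat_lit 130)) (Tr.nd (nat_lit 141) (Tr.lf (nat_lit 82)) (Tr.lf (nat_lit 123)))) (Tr.nd (nat_lit 144) (Tr.nd (nat_lit 143) (Tr.lf (nat_lit 138)) (Tr.lf (nat_lit 131))) (Tr.nd (nat_lit 145) (Tr.lf (nat_lit 70)) (Tr.lf (nat_lit 139))))) (Tr.nd (nat_lit 149) (Tr.nd (nat_lit 147) (Tr.lf (nat_lit 140)) (Tr.nd (nat_lit 148) (Tr.lf (nat_lit 143)) (Tr.lf (nat_lit 29)))) (Tr.nd (nat_lit 151) (Tr.nd (nat_lit 150) (Tr.lf (nat_lit 101)) (Tr.lf (nat_lit 142))) (Tr.nd (nat_lit 152) (Tr.lf (nat_lit 138)) (Tr.lf (nat_lit 144))))))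 (Tr.nd (nat_lit 160) (Tr.nd (nat_lit 156) (Tr.nd (nat_lit 154) (Tr.lf (nat_lit 91)) (Tr.nd (nat_lit 155) (Tr.lf (nat_lit 150)) (Tr.lf (nat_lit 147)))) (Tr.nd (nat_lit 158) (Tr.nd (nat_lit 157) (Tr.lf (nat_lit 120)) (Tr.lf (nat_lit 143))) (Tr.nd (nat_lit 159) (Tr.lf (nat_lit 122)) (Tr.lf (nat_lit 147))))) (Tr.nd (nat_lit 163) (Tr.nd (nat_lit 161) (Tr.lf (nat_lit 0)) (Tr.nd (nat_lit 162) (Tr.lf (nat_lit 38)) (Tr.lf (nat_lit 158)))) (Tr.nd (nat_lit 165) (Tr.nd (nat_lit 164) (Tr.lf (nat_lit 160)) (Tr.lf (nat_lit 161))) (Tr.nd (nat_lit 166) (Tr.lf (nat_lit 102)) (Tr.lf (nat_lit 116)))))))) (Tr.nd (nat_lit 195) (Tr.nd (nat_lit 181) (Tr.nd (nat_lit 174) (Tr.nd (nat_lit 170) (Tr.nd (nat_lit 168) (Tr.lf (nat_lit 103)) (Tr.nd (nat_lit 169) (Tr.lf (nat_lit 157)) (Tr.lf (nat_lit 168)))) (Tr.nd (nat_lit 172) (Tr.nd (nat_lit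 171) (Tr.lf (nat_lit 124)) (Tr.lf (nat_lit 156))) (Tr.nd (nat_lit 173) (Tr.lf (nat_lit 156)) (Tr.lf (nat_lit 165))))) (Tr.nd (nat_lit 177) (Tr.nd (nat_lit 175) (Tr.lf (nat_lit 81)) (Tr.nd (nat_lit 176) (Tr.lf (nat_lit 159)) (Tr.lf (nat_lit 166)))) (Tr.nd (nat_lit 179) (Tr.nd (nat_lit 178) (Tr.lf (nat_lit 174)) (Tr.lf (nat_lit 58))) (Tr.nd (nat_lit 180) (Tr.lf (nat_lit 108)) (Tr.lf (nat_lit 75)))))) (Tr.nd (nat_lit 188) (Tr.nd (nat_lit 184) (Tr.nd (nat_lit 182) (Tr.lf (nat_lit 180)) (Tr.nd (nat_lit 183) (Tr.lf (nat_lit 167)) (Tr.lf (nat_lit 178)))) (Tr.nd (nat_lit 186) (Tr.nd (nat_lit 185) (Tr.lf (nat_lit 52)) (Tr.lf (nat_lit 142))) (Tr.nd (nat_lit 187) (Tr.lf (nat_lit 85)) (Tr.lf (nat_lit 110))))) (Tr.nd (nat_lit 191) (Tr.nd (nat_lit 189) (Tr.lf (nat_lit 187)) (Tr.nd (nat_lit 190) (Tr.lf (nat_lit 112)) (Tr.lf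 (nat_lit 154)))) (Tr.nd (nat_lit 193) (Tr.nd (nat_lit 192) (Tr.lf (nat_lit 180)) (Tr.lf (nat_lit 155))) (Tr.nd (nat_lit 194) (Tr.lf (nat_lit 51)) (Tr.lf (nat_lit 126))))))) (Tr.nd (nat_lit 209) (Tr.nd (nat_lit 202) (Tr.nd (nat_lit 198) (Tr.nd (nat_lit 196) (Tr.lf (nat_lit 48)) (Tr.nd (nat_lit 197) (Tr.lf (nat_lit 182)) (Tr.lf (nat_lit 195)))) (Tr.nd (nat_lit 200) (Tr.nd (nat_lit 199) (Tr.lf (nat_lit 189)) (Tr.lf (nat_lit 96))) (Tr.nd (nat_lit 201) (Tr.lf (nat_lit 192)) (Tr.lf (nat_lit 189))))) (Tr.nd (nat_lit 205) (Tr.nd (nat_lit 203) (Tr.lf (nat_lit 133)) (Tr.nd (nat_lit 204) (Tr.lf (nat_lit 145)) (Tr.lf (nat_lit 159)))) (Tr.nd (nat_lit 207) (Tr.nd (nat_lit 206) (Tr.lf (nat_lit 204)) (Tr.lf (nat_lit 129))) (Tr.nd (nat_lit 208) (Tr.lf (nat_lit 206)) (Tr.lf (nat_lit 172)))))) (Tr.nd (nat_lit 216) (Tr.nd (nat_lit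 212) (Tr.nd (nat_lit 210) (Tr.lf (nat_lit 151)) (Tr.nd (nat_lit 211) (Tr.lf (nat_lit 152)) (Tr.lf (nat_lit 144)))) (Tr.nd (nat_lit 214) (Tr.nd (nat_lit 213) (Tr.lf (nat_lit 174)) (Tr.lf (nat_lit 173))) (Tr.nd (nat_lit 215) (Tr.lf (nat_lit 199)) (Tr.lf (nat_lit 193))))) (Tr.nd (nat_lit 219) (Tr.nd (nat_lit 217) (Tr.lf (nat_lit 215)) (Tr.nd (nat_lit 218) (Tr.lf (nat_lit 32)) (Tr.lf (nat_lit 211)))) (Tr.nd (nat_lit 221) (Tr.nd (nat_lit 220) (Tr.lf (nat_lit 69)) (Tr.lf (nat_lit 191))) (Tr.nd (nat_lit 222) (Tr.lf (nat_lit 134)) (Tr.lf (nat_lit 84)))))))))) (Tr.nd (nat_lit 335) (Tr.nd (nat_lit 279) (Tr.nd (nat_lit 251) (Tr.nd (nat_lit 237) (Tr.nd (nat_lit 230) (Tr.nd (nat_lit 226) (Tr.nd (nat_lit 224) (Tr.lf (nat_lit 146)) (Tr.nd (nat_lit 225) (Tr.lf (nat_lit 222)) (Tr.lf (nat_lit 183)))) (Tr.nd (nat_lit 228) (Tr.nd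 (nat_lit 227) (Tr.lf (nat_lit 224)) (Tr.lf (nat_lit 177))) (Tr.nd (nat_lit 229) (Tr.lf (nat_lit 47)) (Tr.lf (nat_lit 210))))) (Tr.nd (nat_lit 233) (Tr.nd (nat_lit 231) (Tr.lf (nat_lit 114)) (Tr.nd (nat_lit 232) (Tr.lf (nat_lit 26)) (Tr.lf (nat_lit 207)))) (Tr.nd (nat_lit 235) (Tr.nd (nat_lit 234) (Tr.lf (nat_lit 33)) (Tr.lf (nat_lit 168))) (Tr.nd (nat_lit 236) (Tr.lf (nat_lit 166)) (Tr.lf (nat_lit 157)))))) (Tr.nd (nat_lit 244) (Tr.nd (nat_lit 240) (Tr.nd (nat_lit 238) (Tr.lf (nat_lit 204)) (Tr.nd (nat_lit 239) (Tr.lf (nat_lit 208)) (Tr.lf (nat_lit 230)))) (Tr.nd (nat_lit 242) (Tr.nd (nat_lit 241) (Tr.lf (nat_lit 214)) (Tr.lf (nat_lit 227))) (Tr.nd (nat_lit 243) (Tr.lf (nat_lit 237)) (Tr.lf (nat_lit 235))))) (Tr.nd (nat_lit 247) (Tr.nd (nat_lit 245) (Tr.lf (nat_lit 241)) (Tr.nd (nat_lit 246) (Tr.lf (nat_lit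 227)) (Tr.lf (nat_lit 190)))) (Tr.nd (nat_lit 249) (Tr.nd (nat_lit 248) (Tr.lf (nat_lit 167)) (Tr.lf (nat_lit 242))) (Tr.nd (nat_lit 250) (Tr.lf (nat_lit 191)) (Tr.lf (nat_lit 220))))))) (Tr.nd (nat_lit 265) (Tr.nd (nat_lit 258) (Tr.nd (nat_lit 254) (Tr.nd (nat_lit 252) (Tr.lf (nat_lit 247)) (Tr.nd (nat_lit 253) (Tr.lf (nat_lit 249)) (Tr.lf (nat_lit 252)))) (Tr.nd (nat_lit 256) (Tr.nd (nat_lit 255) (Tr.lf (nat_lit 253)) (Tr.lf (nat_lit 109))) (Tr.nd (nat_lit 257) (Tr.lf (nat_lit 185)) (Tr.lf (nat_lit 37))))) (Tr.nd (nat_lit 261) (Tr.nd (nat_lit 259) (Tr.lf (nat_lit 255)) (Tr.nd (nat_lit 260) (Tr.lf (nat_lit 258)) (Tr.lf (nat_lit 254)))) (Tr.nd (nat_lit 263) (Tr.nd (nat_lit 262) (Tr.lf (nat_lit 259)) (Tr.lf (nat_lit 195))) (Tr.nd (nat_lit 264) (Tr.lf (nat_lit 190)) (Tr.lf (nat_lit 194)))))) (Tr.nd (nat_lit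 272) (Tr.nd (nat_lit 268) (Tr.nd (nat_lit 266) (Tr.lf (nat_lit 245)) (Tr.nd (nat_lit 267) (Tr.lf (nat_lit 197)) (Tr.lf (nat_lit 176)))) (Tr.nd (nat_lit 270) (Tr.nd (nat_lit 269) (Tr.lf (nat_lit 184)) (Tr.lf (nat_lit 230))) (Tr.nd (nat_lit 271) (Tr.lf (nat_lit 183)) (Tr.lf (nat_lit 153))))) (Tr.nd (nat_lit 275) (Tr.nd (nat_lit 273) (Tr.lf (nat_lit 243)) (Tr.nd (nat_lit 274) (Tr.lf (nat_lit 257)) (Tr.lf (nat_lit 95)))) (Tr.nd (nat_lit 277) (Tr.nd (nat_lit 276) (Tr.lf (nat_lit 270)) (Tr.lf (nat_lit 270))) (Tr.nd (nat_lit 278) (Tr.lf (nat_lit 270)) (Tr.lf (nat_lit 266)))))))) (Tr.nd (nat_lit 307) (Tr.nd (nat_lit 293) (Tr.nd (nat_lit 286) (Tr.nd (nat_lit 282) (Tr.nd (nat_lit 280) (Tr.lf (nat_lit 246)) (Tr.nd (nat_lit 281) (Tr.lf (nat_lit 278)) (Tr.lf (nat_lit 135)))) (Tr.nd (nat_lit 284) (Tr.nd (nat_lit 283) (Tr.lf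 (nat_lit 273)) (Tr.lf (nat_lit 262))) (Tr.nd (nat_lit 285) (Tr.lf (nat_lit 104)) (Tr.lf (nat_lit 40))))) (Tr.nd (nat_lit 289) (Tr.nd (nat_lit 287) (Tr.lf (nat_lit 223)) (Tr.nd (nat_lit 288) (Tr.lf (nat_lit 207)) (Tr.lf (nat_lit 239)))) (Tr.nd (nat_lit 291) (Tr.nd (nat_lit 290) (Tr.lf (nat_lit 268)) (Tr.lf (nat_lit 214))) (Tr.nd (nat_lit 292) (Tr.lf (nat_lit 289)) (Tr.lf (nat_lit 267)))))) (Tr.nd (nat_lit 300) (Tr.nd (nat_lit 296) (Tr.nd (nat_lit 294) (Tr.lf (nat_lit 134)) (Tr.nd (nat_lit 295) (Tr.lf (nat_lit 292)) (Tr.lf (nat_lit 228)))) (Tr.nd (nat_lit 298) (Tr.nd (nat_lit 297) (Tr.lf (nat_lit 295)) (Tr.lf (nat_lit 293))) (Tr.nd (nat_lit 299) (Tr.lf (nat_lit 293)) (Tr.lf (nat_lit 298))))) (Tr.nd (nat_lit 303) (Tr.nd (nat_lit 301) (Tr.lf (nat_lit 297)) (Tr.nd (nat_lit 302) (Tr.lf (nat_lit 285)) (Tr.lf (nat_lit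 220)))) (Tr.nd (nat_lit 305) (Tr.nd (nat_lit 304) (Tr.lf (nat_lit 301)) (Tr.lf (nat_lit 110))) (Tr.nd (nat_lit 306) (Tr.lf (nat_lit 274)) (Tr.lf (nat_lit 284))))))) (Tr.nd (nat_lit 321) (Tr.nd (nat_lit 314) (Tr.nd (nat_lit 310) (Tr.nd (nat_lit 308) (Tr.lf (nat_lit 300)) (Tr.nd (nat_lit 309) (Tr.lf (nat_lit 302)) (Tr.lf (nat_lit 265)))) (Tr.nd (nat_lit 312) (Tr.nd (nat_lit 311) (Tr.lf (nat_lit 195)) (Tr.lf (nat_lit 200))) (Tr.nd (nat_lit 313) (Tr.lf (nat_lit 231)) (Tr.lf (nat_lit 286))))) (Tr.nd (nat_lit 317) (Tr.nd (nat_lit 315) (Tr.lf (nat_lit 313)) (Tr.nd (nat_lit 316) (Tr.lf (nat_lit 304)) (Tr.lf (nat_lit 312)))) (Tr.nd (nat_lit 319) (Tr.nd (nat_lit 318) (Tr.lf (nat_lit 224)) (Tr.lf (nat_lit 280))) (Tr.nd (nat_lit 320) (Tr.lf (nat_lit 310)) (Tr.lf (nat_lit 162)))))) (Tr.nd (nat_lit 328) (Tr.nd (nat_lit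 324) (Tr.nd (nat_lit 322) (Tr.lf (nat_lit 237)) (Tr.nd (nat_lit 323) (Tr.lf (nat_lit 196)) (Tr.lf (nat_lit 182)))) (Tr.nd (nat_lit 326) (Tr.nd (nat_lit 325) (Tr.lf (nat_lit 255)) (Tr.lf (nat_lit 185))) (Tr.nd (nat_lit 327) (Tr.lf (nat_lit 265)) (Tr.lf (nat_lit 294))))) (Tr.nd (nat_lit 331) (Tr.nd (nat_lit 329) (Tr.lf (nat_lit 170)) (Tr.nd (nat_lit 330) (Tr.lf (nat_lit 167)) (Tr.lf (nat_lit 226)))) (Tr.nd (nat_lit 333) (Tr.nd (nat_lit 332) (Tr.lf (nat_lit 217)) (Tr.lf (nat_lit 325))) (Tr.nd (nat_lit 334) (Tr.lf (nat_lit 331)) (Tr.lf (nat_lit 247))))))))) (Tr.nd (nat_lit 391) (Tr.nd (nat_lit 363) (Tr.nd (nat_lit 349) (Tr.nd (nat_lit 342) (Tr.nd (nat_lit 338) (Tr.nd (nat_lit 336) (Tr.lf (nat_lit 328)) (Tr.nd (nat_lit 337) (Tr.lf (nat_lit 330)) (Tr.lf (nat_lit 172)))) (Tr.nd (nat_lit 340) (Tr.nd (nat_lit 339)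 (Tr.lf (nat_lit 320)) (Tr.lf (nat_lit 338))) (Tr.nd (nat_lit 341) (Tr.lf (nat_lit 208)) (Tr.lf (nat_lit 234))))) (Tr.nd (nat_lit 345) (Tr.nd (nat_lit 343) (Tr.lf (nat_lit 198)) (Tr.nd (nat_lit 344) (Tr.lf (nat_lit 304)) (Tr.lf (nat_lit 308)))) (Tr.nd (nat_lit 347) (Tr.nd (nat_lit 346) (Tr.lf (nat_lit 269)) (Tr.lf (nat_lit 49))) (Tr.nd (nat_lit 348) (Tr.lf (nat_lit 310)) (Tr.lf (nat_lit 106)))))) (Tr.nd (nat_lit 356) (Tr.nd (nat_lit 352) (Tr.nd (nat_lit 350) (Tr.lf (nat_lit 331)) (Tr.nd (nat_lit 351) (Tr.lf (nat_lit 99)) (Tr.lf (nat_lit 350)))) (Tr.nd (nat_lit 354) (Tr.nd (nat_lit 353) (Tr.lf (nat_lit 302)) (Tr.lf (nat_lit 350))) (Tr.nd (nat_lit 355) (Tr.lf (nat_lit 229)) (Tr.lf (nat_lit 346))))) (Tr.nd (nat_lit 359) (Tr.nd (nat_lit 357) (Tr.lf (nat_lit 248)) (Tr.nd (nat_lit 358) (Tr.lf (nat_lit 215)) (Tr.lf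 (nat_lit 145)))) (Tr.nd (nat_lit 361) (Tr.nd (nat_lit 360) (Tr.lf (nat_lit 253)) (Tr.lf (nat_lit 216))) (Tr.nd (nat_lit 362) (Tr.lf (nat_lit 358)) (Tr.lf (nat_lit 361))))))) (Tr.nd (nat_lit 377) (Tr.nd (nat_lit 370) (Tr.nd (nat_lit 366) (Tr.nd (nat_lit 364) (Tr.lf (nat_lit 354)) (Tr.nd (nat_lit 365) (Tr.lf (nat_lit 362)) (Tr.lf (nat_lit 246)))) (Tr.nd (nat_lit 368) (Tr.nd (nat_lit 367) (Tr.lf (nat_lit 317)) (Tr.lf (nat_lit 259))) (Tr.nd (nat_lit 369) (Tr.lf (nat_lit 364)) (Tr.lf (nat_lit 367))))) (Tr.nd (nat_lit 373) (Tr.nd (nat_lit 371) (Tr.lf (nat_lit 213)) (Tr.nd (nat_lit 372) (Tr.lf (nat_lit 321)) (Tr.lf (nat_lit 236)))) (Tr.nd (nat_lit 375) (Tr.nd (nat_lit 374) (Tr.lf (nat_lit 235)) (Tr.lf (nat_lit 311))) (Tr.nd (nat_lit 376) (Tr.lf (nat_lit 369)) (Tr.lf (nat_lit 288)))))) (Tr.nd (nat_lit 384) (Tr.nd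 (nat_lit 380) (Tr.nd (nat_lit 378) (Tr.lf (nat_lit 209)) (Tr.nd (nat_lit 379) (Tr.lf (nat_lit 371)) (Tr.lf (nat_lit 353)))) (Tr.nd (nat_lit 382) (Tr.nd (nat_lit 381) (Tr.lf (nat_lit 373)) (Tr.lf (nat_lit 326))) (Tr.nd (nat_lit 383) (Tr.lf (nat_lit 279)) (Tr.lf (nat_lit 370))))) (Tr.nd (nat_lit 387) (Tr.nd (nat_lit 385) (Tr.lf (nat_lit 383)) (Tr.nd (nat_lit 386) (Tr.lf (nat_lit 359)) (Tr.lf (nat_lit 269)))) (Tr.nd (nat_lit 389) (Tr.nd (nat_lit 388) (Tr.lf (nat_lit 277)) (Tr.lf (nat_lit 273))) (Tr.nd (nat_lit 390) (Tr.lf (nat_lit 271)) (Tr.lf (nat_lit 382)))))))) (Tr.nd (nat_lit 419) (Tr.nd (nat_lit 405) (Tr.nd (nat_lit 398) (Tr.nd (nat_lit 394) (Tr.nd (nat_lit 392) (Tr.lf (nat_lit 390)) (Tr.nd (nat_lit 393) (Tr.lf (nat_lit 204)) (Tr.lf (nat_lit 386)))) (Tr.nd (nat_lit 396) (Tr.nd (nat_lit 395) (Tr.lf (nat_lit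 234)) (Tr.lf (nat_lit 282))) (Tr.nd (nat_lit 397) (Tr.lf (nat_lit 283)) (Tr.lf (nat_lit 205))))) (Tr.nd (nat_lit 401) (Tr.nd (nat_lit 399) (Tr.lf (nat_lit 257)) (Tr.nd (nat_lit 400) (Tr.lf (nat_lit 397)) (Tr.lf (nat_lit 83)))) (Tr.nd (nat_lit 403) (Tr.nd (nat_lit 402) (Tr.lf (nat_lit 398)) (Tr.lf (nat_lit 285))) (Tr.nd (nat_lit 404) (Tr.lf (nat_lit 286)) (Tr.lf (nat_lit 402)))))) (Tr.nd (nat_lit 412) (Tr.nd (nat_lit 408) (Tr.nd (nat_lit 406) (Tr.lf (nat_lit 404)) (Tr.nd (nat_lit 407) (Tr.lf (nat_lit 238)) (Tr.lf (nat_lit 403)))) (Tr.nd (nat_lit 410) (Tr.nd (nat_lit 409) (Tr.lf (nat_lit 263)) (Tr.lf (nat_lit 408))) (Tr.nd (nat_lit 411) (Tr.lf (nat_lit 209)) (Tr.lf (nat_lit 322))))) (Tr.nd (nat_lit 415) (Tr.nd (nat_lit 413) (Tr.lf (nat_lit 402)) (Tr.nd (nat_lit 414) (Tr.lf (nat_lit 411)) (Tr.lf (nat_lit 297))))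 (Tr.nd (nat_lit 417) (Tr.nd (nat_lit 416) (Tr.lf (nat_lit 410)) (Tr.lf (nat_lit 375))) (Tr.nd (nat_lit 418) (Tr.lf (nat_lit 407)) (Tr.lf (nat_lit 363))))))) (Tr.nd (nat_lit 433) (Tr.nd (nat_lit 426) (Tr.nd (nat_lit 422) (Tr.nd (nat_lit 420) (Tr.lf (nat_lit 389)) (Tr.nd (nat_lit 421) (Tr.lf (nat_lit 273)) (Tr.lf (nat_lit 333)))) (Tr.nd (nat_lit 424) (Tr.nd (nat_lit 423) (Tr.lf (nat_lit 420)) (Tr.lf (nat_lit 417))) (Tr.nd (nat_lit 425) (Tr.lf (nat_lit 371)) (Tr.lf (nat_lit 295))))) (Tr.nd (nat_lit 429) (Tr.nd (nat_lit 427) (Tr.lf (nat_lit 344)) (Tr.nd (nat_lit 428) (Tr.lf (nat_lit 276)) (Tr.lf (nat_lit 399)))) (Tr.nd (nat_lit 431) (Tr.nd (nat_lit 430) (Tr.lf (nat_lit 299)) (Tr.lf (nat_lit 426))) (Tr.nd (nat_lit 432) (Tr.lf (nat_lit 430)) (Tr.lf (nat_lit 214)))))) (Tr.nd (nat_lit 440) (Tr.nd (nat_lit 436) (Tr.nd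 (nat_lit 434) (Tr.lf (nat_lit 278)) (Tr.nd (nat_lit 435) (Tr.lf (nat_lit 410)) (Tr.lf (nat_lit 352)))) (Tr.nd (nat_lit 438) (Tr.nd (nat_lit 437) (Tr.lf (nat_lit 400)) (Tr.lf (nat_lit 394))) (Tr.nd (nat_lit 439) (Tr.lf (nat_lit 372)) (Tr.lf (nat_lit 430))))) (Tr.nd (nat_lit 443) (Tr.nd (nat_lit 441) (Tr.lf (nat_lit 387)) (Tr.nd (nat_lit 442) (Tr.lf (nat_lit 287)) (Tr.lf (nat_lit 313)))) (Tr.nd (nat_lit 445) (Tr.nd (nat_lit 444) (Tr.lf (nat_lit 374)) (Tr.lf (nat_lit 431))) (Tr.nd (nat_lit 446) (Tr.lf (nat_lit 352)) (Tr.lf (nat_lit 296))))))))))) (Tr.nd (nat_lit 671) (Tr.nd (nat_lit 559) (Tr.nd (nat_lit 503) (Tr.nd (nat_lit 475) (Tr.nd (nat_lit 461) (Tr.nd (nat_lit 454) (Tr.nd (nat_lit 450) (Tr.nd (nat_lit 448) (Tr.lf (nat_lit 432)) (Tr.nd (nat_lit 449) (Tr.lf (nat_lit 436)) (Tr.lf (nat_lit 319)))) (Tr.nd (nat_lit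 452) (Tr.nd (nat_lit 451) (Tr.lf (nat_lit 287)) (Tr.lf (nat_lit 450))) (Tr.nd (nat_lit 453) (Tr.lf (nat_lit 396)) (Tr.lf (nat_lit 448))))) (Tr.nd (nat_lit 457) (Tr.nd (nat_lit 455) (Tr.lf (nat_lit 316)) (Tr.nd (nat_lit 456) (Tr.lf (nat_lit 279)) (Tr.lf (nat_lit 256)))) (Tr.nd (nat_lit 459) (Tr.nd (nat_lit 458) (Tr.lf (nat_lit 292)) (Tr.lf (nat_lit 450))) (Tr.nd (nat_lit 460) (Tr.lf (nat_lit 301)) (Tr.lf (nat_lit 303)))))) (Tr.nd (nat_lit 468) (Tr.nd (nat_lit 464) (Tr.nd (nat_lit 462) (Tr.lf (nat_lit 106)) (Tr.nd (nat_lit 463) (Tr.lf (nat_lit 461)) (Tr.lf (nat_lit 395)))) (Tr.nd (nat_lit 466) (Tr.nd (nat_lit 465) (Tr.lf (nat_lit 324)) (Tr.lf (nat_lit 454))) (Tr.nd (nat_lit 467) (Tr.lf (nat_lit 412)) (Tr.lf (nat_lit 319))))) (Tr.nd (nat_lit 471) (Tr.nd (nat_lit 469) (Tr.lf (nat_lit 421)) (Tr.nd (nat_lit 470)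 (Tr.lf (nat_lit 455)) (Tr.lf (nat_lit 235)))) (Tr.nd (nat_lit 473) (Tr.nd (nat_lit 472) (Tr.lf (nat_lit 380)) (Tr.lf (nat_lit 396))) (Tr.nd (nat_lit 474) (Tr.lf (nat_lit 281)) (Tr.lf (nat_lit 457))))))) (Tr.nd (nat_lit 489) (Tr.nd (nat_lit 482) (Tr.nd (nat_lit 478) (Tr.nd (nat_lit 476) (Tr.lf (nat_lit 349)) (Tr.nd (nat_lit 477) (Tr.lf (nat_lit 343)) (Tr.lf (nat_lit 406)))) (Tr.nd (nat_lit 480) (Tr.nd (nat_lit 479) (Tr.lf (nat_lit 369)) (Tr.lf (nat_lit 449))) (Tr.nd (nat_lit 481) (Tr.lf (nat_lit 329)) (Tr.lf (nat_lit 318))))) (Tr.nd (nat_lit 485) (Tr.nd (nat_lit 483) (Tr.lf (nat_lit 267)) (Tr.nd (nat_lit 484) (Tr.lf (nat_lit 481)) (Tr.lf (nat_lit 453)))) (Tr.nd (nat_lit 487) (Tr.nd (nat_lit 486) (Tr.lf (nat_lit 484)) (Tr.lf (nat_lit 332))) (Tr.nd (nat_lit 488) (Tr.lf (nat_lit 327)) (Tr.lf (nat_lit 481))))))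 (Tr.nd (nat_lit 496) (Tr.nd (nat_lit 492) (Tr.nd (nat_lit 490) (Tr.lf (nat_lit 486)) (Tr.nd (nat_lit 491) (Tr.lf (nat_lit 340)) (Tr.lf (nat_lit 347)))) (Tr.nd (nat_lit 494) (Tr.nd (nat_lit 493) (Tr.lf (nat_lit 455)) (Tr.lf (nat_lit 438))) (Tr.nd (nat_lit 495) (Tr.lf (nat_lit 475)) (Tr.lf (nat_lit 238))))) (Tr.nd (nat_lit 499) (Tr.nd (nat_lit 497) (Tr.lf (nat_lit 341)) (Tr.nd (nat_lit 498) (Tr.lf (nat_lit 464)) (Tr.lf (nat_lit 379)))) (Tr.nd (nat_lit 501) (Tr.nd (nat_lit 500) (Tr.lf (nat_lit 315)) (Tr.lf (nat_lit 348))) (Tr.nd (nat_lit 502) (Tr.lf (nat_lit 325)) (Tr.lf (nat_lit 437)))))))) (Tr.nd (nat_lit 531) (Tr.nd (nat_lit 517) (Tr.nd (nat_lit 510) (Tr.nd (nat_lit 506) (Tr.nd (nat_lit 504) (Tr.lf (nat_lit 327)) (Tr.nd (nat_lit 505) (Tr.lf (nat_lit 456)) (Tr.lf (nat_lit 408)))) (Tr.nd (nat_lit 508) (Tr.nd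 (nat_lit 507) (Tr.lf (nat_lit 503)) (Tr.lf (nat_lit 506))) (Tr.nd (nat_lit 509) (Tr.lf (nat_lit 429)) (Tr.lf (nat_lit 446))))) (Tr.nd (nat_lit 513) (Tr.nd (nat_lit 511) (Tr.lf (nat_lit 500)) (Tr.nd (nat_lit 512) (Tr.lf (nat_lit 391)) (Tr.lf (nat_lit 482)))) (Tr.nd (nat_lit 515) (Tr.nd (nat_lit 514) (Tr.lf (nat_lit 509)) (Tr.lf (nat_lit 508))) (Tr.nd (nat_lit 516) (Tr.lf (nat_lit 358)) (Tr.lf (nat_lit 342)))))) (Tr.nd (nat_lit 524) (Tr.nd (nat_lit 520) (Tr.nd (nat_lit 518) (Tr.lf (nat_lit 419)) (Tr.nd (nat_lit 519) (Tr.lf (nat_lit 516)) (Tr.lf (nat_lit 406)))) (Tr.nd (nat_lit 522) (Tr.nd (nat_lit 521) (Tr.lf (nat_lit 361)) (Tr.lf (nat_lit 520))) (Tr.nd (nat_lit 523) (Tr.lf (nat_lit 495)) (Tr.lf (nat_lit 497))))) (Tr.nd (nat_lit 527) (Tr.nd (nat_lit 525) (Tr.lf (nat_lit 418)) (Tr.nd (nat_lit 526) (Tr.lf (nat_lit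 516)) (Tr.lf (nat_lit 440)))) (Tr.nd (nat_lit 529) (Tr.nd (nat_lit 528) (Tr.lf (nat_lit 376)) (Tr.lf (nat_lit 463))) (Tr.nd (nat_lit 530) (Tr.lf (nat_lit 512)) (Tr.lf (nat_lit 503))))))) (Tr.nd (nat_lit 545) (Tr.nd (nat_lit 538) (Tr.nd (nat_lit 534) (Tr.nd (nat_lit 532) (Tr.lf (nat_lit 458)) (Tr.nd (nat_lit 533) (Tr.lf (nat_lit 368)) (Tr.lf (nat_lit 414)))) (Tr.nd (nat_lit 536) (Tr.nd (nat_lit 535) (Tr.lf (nat_lit 527)) (Tr.lf (nat_lit 532))) (Tr.nd (nat_lit 537) (Tr.lf (nat_lit 475)) (Tr.lf (nat_lit 526))))) (Tr.nd (nat_lit 541) (Tr.nd (nat_lit 539) (Tr.lf (nat_lit 322)) (Tr.nd (nat_lit 540) (Tr.lf (nat_lit 443)) (Tr.lf (nat_lit 538)))) (Tr.nd (nat_lit 543) (Tr.nd (nat_lit 542) (Tr.lf (nat_lit 498)) (Tr.lf (nat_lit 533))) (Tr.nd (nat_lit 544) (Tr.lf (nat_lit 387)) (Tr.lf (nat_lit 524)))))) (Tr.nd (nat_lit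 552) (Tr.nd (nat_lit 548) (Tr.nd (nat_lit 546) (Tr.lf (nat_lit 429)) (Tr.nd (nat_lit 547) (Tr.lf (nat_lit 535)) (Tr.lf (nat_lit 533)))) (Tr.nd (nat_lit 550) (Tr.nd (nat_lit 549) (Tr.lf (nat_lit 537)) (Tr.lf (nat_lit 539))) (Tr.nd (nat_lit 551) (Tr.lf (nat_lit 517)) (Tr.lf (nat_lit 494))))) (Tr.nd (nat_lit 555) (Tr.nd (nat_lit 553) (Tr.lf (nat_lit 383)) (Tr.nd (nat_lit 554) (Tr.lf (nat_lit 549)) (Tr.lf (nat_lit 550)))) (Tr.nd (nat_lit 557) (Tr.nd (nat_lit 556) (Tr.lf (nat_lit 476)) (Tr.lf (nat_lit 203))) (Tr.nd (nat_lit 558) (Tr.lf (nat_lit 412)) (Tr.lf (nat_lit 447))))))))) (Tr.nd (nat_lit 615) (Tr.nd (nat_lit 587) (Tr.nd (nat_lit 573) (Tr.nd (nat_lit 566) (Tr.nd (nat_lit 562) (Tr.nd (nat_lit 560) (Tr.lf (nat_lit 557)) (Tr.nd (nat_lit 561) (Tr.lf (nat_lit 531)) (Tr.lf (nat_lit 560)))) (Tr.nd (nat_lit 564)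 (Tr.nd (nat_lit 563) (Tr.lf (nat_lit 558)) (Tr.lf (nat_lit 515))) (Tr.nd (nat_lit 565) (Tr.lf (nat_lit 538)) (Tr.lf (nat_lit 539))))) (Tr.nd (nat_lit 569) (Tr.nd (nat_lit 567) (Tr.lf (nat_lit 485)) (Tr.nd (nat_lit 568) (Tr.lf (nat_lit 536)) (Tr.lf (nat_lit 393)))) (Tr.nd (nat_lit 571) (Tr.nd (nat_lit 570) (Tr.lf (nat_lit 568)) (Tr.lf (nat_lit 569))) (Tr.nd (nat_lit 572) (Tr.lf (nat_lit 390)) (Tr.lf (nat_lit 479)))))) (Tr.nd (nat_lit 580) (Tr.nd (nat_lit 576) (Tr.nd (nat_lit 574) (Tr.lf (nat_lit 572)) (Tr.nd (nat_lit 575) (Tr.lf (nat_lit 392)) (Tr.lf (nat_lit 386)))) (Tr.nd (nat_lit 578) (Tr.nd (nat_lit 577) (Tr.lf (nat_lit 575)) (Tr.lf (nat_lit 480))) (Tr.nd (nat_lit 579) (Tr.lf (nat_lit 540)) (Tr.lf (nat_lit 377))))) (Tr.nd (nat_lit 583) (Tr.nd (nat_lit 581) (Tr.lf (nat_lit 434)) (Tr.nd (nat_lit 582) (Tr.lf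 (nat_lit 547)) (Tr.lf (nat_lit 581)))) (Tr.nd (nat_lit 585) (Tr.nd (nat_lit 584) (Tr.lf (nat_lit 472)) (Tr.lf (nat_lit 456))) (Tr.nd (nat_lit 586) (Tr.lf (nat_lit 422)) (Tr.lf (nat_lit 574))))))) (Tr.nd (nat_lit 601) (Tr.nd (nat_lit 594) (Tr.nd (nat_lit 590) (Tr.nd (nat_lit 588) (Tr.lf (nat_lit 403)) (Tr.nd (nat_lit 589) (Tr.lf (nat_lit 463)) (Tr.lf (nat_lit 464)))) (Tr.nd (nat_lit 592) (Tr.nd (nat_lit 591) (Tr.lf (nat_lit 589)) (Tr.lf (nat_lit 372))) (Tr.nd (nat_lit 593) (Tr.lf (nat_lit 587)) (Tr.lf (nat_lit 591))))) (Tr.nd (nat_lit 597) (Tr.nd (nat_lit 595) (Tr.lf (nat_lit 574)) (Tr.nd (nat_lit 596) (Tr.lf (nat_lit 580)) (Tr.lf (nat_lit 594)))) (Tr.nd (nat_lit 599) (Tr.nd (nat_lit 598) (Tr.lf (nat_lit 541)) (Tr.lf (nat_lit 595))) (Tr.nd (nat_lit 600) (Tr.lf (nat_lit 585)) (Tr.lf (nat_lit 593)))))) (Tr.nd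 (nat_lit 608) (Tr.nd (nat_lit 604) (Tr.nd (nat_lit 602) (Tr.lf (nat_lit 528)) (Tr.nd (nat_lit 603) (Tr.lf (nat_lit 586)) (Tr.lf (nat_lit 436)))) (Tr.nd (nat_lit 606) (Tr.nd (nat_lit 605) (Tr.lf (nat_lit 599)) (Tr.lf (nat_lit 603))) (Tr.nd (nat_lit 607) (Tr.lf (nat_lit 480)) (Tr.lf (nat_lit 419))))) (Tr.nd (nat_lit 611) (Tr.nd (nat_lit 609) (Tr.lf (nat_lit 462)) (Tr.nd (nat_lit 610) (Tr.lf (nat_lit 588)) (Tr.lf (nat_lit 411)))) (Tr.nd (nat_lit 613) (Tr.nd (nat_lit 612) (Tr.lf (nat_lit 413)) (Tr.lf (nat_lit 471))) (Tr.nd (nat_lit 614) (Tr.lf (nat_lit 607)) (Tr.lf (nat_lit 399)))))))) (Tr.nd (nat_lit 643) (Tr.nd (nat_lit 629) (Tr.nd (nat_lit 622) (Tr.nd (nat_lit 618) (Tr.nd (nat_lit 616) (Tr.lf (nat_lit 557)) (Tr.nd (nat_lit 617) (Tr.lf (nat_lit 460)) (Tr.lf (nat_lit 485)))) (Tr.nd (nat_lit 620) (Tr.nd (nat_lit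 619) (Tr.lf (nat_lit 606)) (Tr.lf (nat_lit 380))) (Tr.nd (nat_lit 621) (Tr.lf (nat_lit 564)) (Tr.lf (nat_lit 597))))) (Tr.nd (nat_lit 625) (Tr.nd (nat_lit 623) (Tr.lf (nat_lit 586)) (Tr.nd (nat_lit 624) (Tr.lf (nat_lit 423)) (Tr.lf (nat_lit 508)))) (Tr.nd (nat_lit 627) (Tr.nd (nat_lit 626) (Tr.lf (nat_lit 609)) (Tr.lf (nat_lit 625))) (Tr.nd (nat_lit 628) (Tr.lf (nat_lit 623)) (Tr.lf (nat_lit 614)))))) (Tr.nd (nat_lit 636) (Tr.nd (nat_lit 632) (Tr.nd (nat_lit 630) (Tr.lf (nat_lit 426)) (Tr.nd (nat_lit 631) (Tr.lf (nat_lit 430)) (Tr.lf (nat_lit 438)))) (Tr.nd (nat_lit 634) (Tr.nd (nat_lit 633) (Tr.lf (nat_lit 445)) (Tr.lf (nat_lit 435))) (Tr.nd (nat_lit 635) (Tr.lf (nat_lit 444)) (Tr.lf (nat_lit 632))))) (Tr.nd (nat_lit 639) (Tr.nd (nat_lit 637) (Tr.lf (nat_lit 634)) (Tr.nd (nat_lit 638) (Tr.lf (nat_lit 622))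 (Tr.lf (nat_lit 555)))) (Tr.nd (nat_lit 641) (Tr.nd (nat_lit 640) (Tr.lf (nat_lit 617)) (Tr.lf (nat_lit 509))) (Tr.nd (nat_lit 642) (Tr.lf (nat_lit 638)) (Tr.lf (nat_lit 558))))))) (Tr.nd (nat_lit 657) (Tr.nd (nat_lit 650) (Tr.nd (nat_lit 646) (Tr.nd (nat_lit 644) (Tr.lf (nat_lit 451)) (Tr.nd (nat_lit 645) (Tr.lf (nat_lit 639)) (Tr.lf (nat_lit 415)))) (Tr.nd (nat_lit 648) (Tr.nd (nat_lit 647) (Tr.lf (nat_lit 640)) (Tr.lf (nat_lit 498))) (Tr.nd (nat_lit 649) (Tr.lf (nat_lit 465)) (Tr.lf (nat_lit 434))))) (Tr.nd (nat_lit 653) (Tr.nd (nat_lit 651) (Tr.lf (nat_lit 648)) (Tr.nd (nat_lit 652) (Tr.lf (nat_lit 565)) (Tr.lf (nat_lit 645)))) (Tr.nd (nat_lit 655) (Tr.nd (nat_lit 654) (Tr.lf (nat_lit 650)) (Tr.lf (nat_lit 631))) (Tr.nd (nat_lit 656) (Tr.lf (nat_lit 631)) (Tr.lf (nat_lit 629)))))) (Tr.nd (nat_lit 664)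 (Tr.nd (nat_lit 660) (Tr.nd (nat_lit 658) (Tr.lf (nat_lit 651)) (Tr.nd (nat_lit 659) (Tr.lf (nat_lit 504)) (Tr.lf (nat_lit 657)))) (Tr.nd (nat_lit 662) (Tr.nd (nat_lit 661) (Tr.lf (nat_lit 510)) (Tr.lf (nat_lit 657))) (Tr.nd (nat_lit 663) (Tr.lf (nat_lit 661)) (Tr.lf (nat_lit 469))))) (Tr.nd (nat_lit 667) (Tr.nd (nat_lit 665) (Tr.lf (nat_lit 457)) (Tr.nd (nat_lit 666) (Tr.lf (nat_lit 662)) (Tr.lf (nat_lit 448)))) (Tr.nd (nat_lit 669) (Tr.nd (nat_lit 668) (Tr.lf (nat_lit 655)) (Tr.lf (nat_lit 453))) (Tr.nd (nat_lit 670) (Tr.lf (nat_lit 593)) (Tr.lf (nat_lit 455)))))))))) (Tr.nd (nat_lit 783) (Tr.nd (nat_lit 727) (Tr.nd (nat_lit 699) (Tr.nd (nat_lit 685) (Tr.nd (nat_lit 678) (Tr.nd (nat_lit 674) (Tr.nd (nat_lit 672) (Tr.lf (nat_lit 470)) (Tr.nd (nat_lit 673) (Tr.lf (nat_lit 616)) (Tr.lf (nat_lit 499)))) (Tr.nd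 (nat_lit 676) (Tr.nd (nat_lit 675) (Tr.lf (nat_lit 664)) (Tr.lf (nat_lit 573))) (Tr.nd (nat_lit 677) (Tr.lf (nat_lit 580)) (Tr.lf (nat_lit 670))))) (Tr.nd (nat_lit 681) (Tr.nd (nat_lit 679) (Tr.lf (nat_lit 577)) (Tr.nd (nat_lit 680) (Tr.lf (nat_lit 668)) (Tr.lf (nat_lit 673)))) (Tr.nd (nat_lit 683) (Tr.nd (nat_lit 682) (Tr.lf (nat_lit 671)) (Tr.lf (nat_lit 671))) (Tr.nd (nat_lit 684) (Tr.lf (nat_lit 483)) (Tr.lf (nat_lit 576)))))) (Tr.nd (nat_lit 692) (Tr.nd (nat_lit 688) (Tr.nd (nat_lit 686) (Tr.lf (nat_lit 477)) (Tr.nd (nat_lit 687) (Tr.lf (nat_lit 674)) (Tr.lf (nat_lit 617)))) (Tr.nd (nat_lit 690) (Tr.nd (nat_lit 689) (Tr.lf (nat_lit 679)) (Tr.lf (nat_lit 660))) (Tr.nd (nat_lit 691) (Tr.lf (nat_lit 687)) (Tr.lf (nat_lit 654))))) (Tr.nd (nat_lit 695) (Tr.nd (nat_lit 693) (Tr.lf (nat_lit 605)) (Tr.nd (nat_lit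 694) (Tr.lf (nat_lit 687)) (Tr.lf (nat_lit 682)))) (Tr.nd (nat_lit 697) (Tr.nd (nat_lit 696) (Tr.lf (nat_lit 615)) (Tr.lf (nat_lit 675))) (Tr.nd (nat_lit 698) (Tr.lf (nat_lit 693)) (Tr.lf (nat_lit 677))))))) (Tr.nd (nat_lit 713) (Tr.nd (nat_lit 706) (Tr.nd (nat_lit 702) (Tr.nd (nat_lit 700) (Tr.lf (nat_lit 698)) (Tr.nd (nat_lit 701) (Tr.lf (nat_lit 699)) (Tr.lf (nat_lit 505)))) (Tr.nd (nat_lit 704) (Tr.nd (nat_lit 703) (Tr.lf (nat_lit 490)) (Tr.lf (nat_lit 492))) (Tr.nd (nat_lit 705) (Tr.lf (nat_lit 701)) (Tr.lf (nat_lit 702))))) (Tr.nd (nat_lit 709) (Tr.nd (nat_lit 707) (Tr.lf (nat_lit 705)) (Tr.nd (nat_lit 708) (Tr.lf (nat_lit 704)) (Tr.lf (nat_lit 519)))) (Tr.nd (nat_lit 711) (Tr.nd (nat_lit 710) (Tr.lf (nat_lit 663)) (Tr.lf (nat_lit 563))) (Tr.nd (nat_lit 712) (Tr.lf (nat_lit 685)) (Tr.lf (nat_lit 696))))))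 (Tr.nd (nat_lit 720) (Tr.nd (nat_lit 716) (Tr.nd (nat_lit 714) (Tr.lf (nat_lit 709)) (Tr.nd (nat_lit 715) (Tr.lf (nat_lit 645)) (Tr.lf (nat_lit 512)))) (Tr.nd (nat_lit 718) (Tr.nd (nat_lit 717) (Tr.lf (nat_lit 520)) (Tr.lf (nat_lit 534))) (Tr.nd (nat_lit 719) (Tr.lf (nat_lit 515)) (Tr.lf (nat_lit 497))))) (Tr.nd (nat_lit 723) (Tr.nd (nat_lit 721) (Tr.lf (nat_lit 523)) (Tr.nd (nat_lit 722) (Tr.lf (nat_lit 716)) (Tr.lf (nat_lit 508)))) (Tr.nd (nat_lit 725) (Tr.nd (nat_lit 724) (Tr.lf (nat_lit 674)) (Tr.lf (nat_lit 715))) (Tr.nd (nat_lit 726) (Tr.lf (nat_lit 722)) (Tr.lf (nat_lit 518)))))))) (Tr.nd (nat_lit 755) (Tr.nd (nat_lit 741) (Tr.nd (nat_lit 734) (Tr.nd (nat_lit 730) (Tr.nd (nat_lit 728) (Tr.lf (nat_lit 717)) (Tr.nd (nat_lit 729) (Tr.lf (nat_lit 514)) (Tr.lf (nat_lit 689)))) (Tr.nd (nat_lit 732) (Tr.nd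 (nat_lit 731) (Tr.lf (nat_lit 728)) (Tr.lf (nat_lit 636))) (Tr.nd (nat_lit 733) (Tr.lf (nat_lit 710)) (Tr.lf (nat_lit 641))))) (Tr.nd (nat_lit 737) (Tr.nd (nat_lit 735) (Tr.lf (nat_lit 683)) (Tr.nd (nat_lit 736) (Tr.lf (nat_lit 624)) (Tr.lf (nat_lit 721)))) (Tr.nd (nat_lit 739) (Tr.nd (nat_lit 738) (Tr.lf (nat_lit 719)) (Tr.lf (nat_lit 732))) (Tr.nd (nat_lit 740) (Tr.lf (nat_lit 576)) (Tr.lf (nat_lit 727)))))) (Tr.nd (nat_lit 748) (Tr.nd (nat_lit 744) (Tr.nd (nat_lit 742) (Tr.lf (nat_lit 738)) (Tr.nd (nat_lit 743) (Tr.lf (nat_lit 553)) (Tr.lf (nat_lit 620)))) (Tr.nd (nat_lit 746) (Tr.nd (nat_lit 745) (Tr.lf (nat_lit 589)) (Tr.lf (nat_lit 569))) (Tr.nd (nat_lit 747) (Tr.lf (nat_lit 568)) (Tr.lf (nat_lit 739))))) (Tr.nd (nat_lit 751) (Tr.nd (nat_lit 749) (Tr.lf (nat_lit 741)) (Tr.nd (nat_lit 750) (Tr.lf (nat_lit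 742)) (Tr.lf (nat_lit 665)))) (Tr.nd (nat_lit 753) (Tr.nd (nat_lit 752) (Tr.lf (nat_lit 731)) (Tr.lf (nat_lit 743))) (Tr.nd (nat_lit 754) (Tr.lf (nat_lit 647)) (Tr.lf (nat_lit 725))))))) (Tr.nd (nat_lit 769) (Tr.nd (nat_lit 762) (Tr.nd (nat_lit 758) (Tr.nd (nat_lit 756) (Tr.lf (nat_lit 662)) (Tr.nd (nat_lit 757) (Tr.lf (nat_lit 578)) (Tr.lf (nat_lit 745)))) (Tr.nd (nat_lit 760) (Tr.nd (nat_lit 759) (Tr.lf (nat_lit 561)) (Tr.lf (nat_lit 756))) (Tr.nd (nat_lit 761) (Tr.lf (nat_lit 748)) (Tr.lf (nat_lit 566))))) (Tr.nd (nat_lit 765) (Tr.nd (nat_lit 763) (Tr.lf (nat_lit 729)) (Tr.nd (nat_lit 764) (Tr.lf (nat_lit 760)) (Tr.lf (nat_lit 578)))) (Tr.nd (nat_lit 767) (Tr.nd (nat_lit 766) (Tr.lf (nat_lit 763)) (Tr.lf (nat_lit 758))) (Tr.nd (nat_lit 768) (Tr.lf (nat_lit 749)) (Tr.lf (nat_lit 752)))))) (Tr.nd (nat_lit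 776) (Tr.nd (nat_lit 772) (Tr.nd (nat_lit 770) (Tr.lf (nat_lit 759)) (Tr.nd (nat_lit 771) (Tr.lf (nat_lit 614)) (Tr.lf (nat_lit 713)))) (Tr.nd (nat_lit 774) (Tr.nd (nat_lit 773) (Tr.lf (nat_lit 761)) (Tr.lf (nat_lit 763))) (Tr.nd (nat_lit 775) (Tr.lf (nat_lit 528)) (Tr.lf (nat_lit 755))))) (Tr.nd (nat_lit 779) (Tr.nd (nat_lit 777) (Tr.lf (nat_lit 673)) (Tr.nd (nat_lit 778) (Tr.lf (nat_lit 762)) (Tr.lf (nat_lit 602)))) (Tr.nd (nat_lit 781) (Tr.nd (nat_lit 780) (Tr.lf (nat_lit 612)) (Tr.lf (nat_lit 774))) (Tr.nd (nat_lit 782) (Tr.lf (nat_lit 778)) (Tr.lf (nat_lit 781))))))))) (Tr.nd (nat_lit 839) (Tr.nd (nat_lit 811) (Tr.nd (nat_lit 797) (Tr.nd (nat_lit 790) (Tr.nd (nat_lit 786) (Tr.nd (nat_lit 784) (Tr.lf (nat_lit 669)) (Tr.nd (nat_lit 785) (Tr.lf (nat_lit 693)) (Tr.lf (nat_lit 649)))) (Tr.nd (nat_lit 788)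 (Tr.nd (nat_lit 787) (Tr.lf (nat_lit 744)) (Tr.lf (nat_lit 706))) (Tr.nd (nat_lit 789) (Tr.lf (nat_lit 601)) (Tr.lf (nat_lit 761))))) (Tr.nd (nat_lit 793) (Tr.nd (nat_lit 791) (Tr.lf (nat_lit 588)) (Tr.nd (nat_lit 792) (Tr.lf (nat_lit 779)) (Tr.lf (nat_lit 595)))) (Tr.nd (nat_lit 795) (Tr.nd (nat_lit 794) (Tr.lf (nat_lit 743)) (Tr.lf (nat_lit 598))) (Tr.nd (nat_lit 796) (Tr.lf (nat_lit 672)) (Tr.lf (nat_lit 656)))))) (Tr.nd (nat_lit 804) (Tr.nd (nat_lit 800) (Tr.nd (nat_lit 798) (Tr.lf (nat_lit 791)) (Tr.nd (nat_lit 799) (Tr.lf (nat_lit 786)) (Tr.lf (nat_lit 678)))) (Tr.nd (nat_lit 802) (Tr.nd (nat_lit 801) (Tr.lf (nat_lit 775)) (Tr.lf (nat_lit 715))) (Tr.nd (nat_lit 803) (Tr.lf (nat_lit 799)) (Tr.lf (nat_lit 770))))) (Tr.nd (nat_lit 807) (Tr.nd (nat_lit 805) (Tr.lf (nat_lit 684)) (Tr.nd (nat_lit 806) (Tr.lf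 (nat_lit 803)) (Tr.lf (nat_lit 798)))) (Tr.nd (nat_lit 809) (Tr.nd (nat_lit 808) (Tr.lf (nat_lit 804)) (Tr.lf (nat_lit 635))) (Tr.nd (nat_lit 810) (Tr.lf (nat_lit 672)) (Tr.lf (nat_lit 806))))))) (Tr.nd (nat_lit 825) (Tr.nd (nat_lit 818) (Tr.nd (nat_lit 814) (Tr.nd (nat_lit 812) (Tr.lf (nat_lit 667)) (Tr.nd (nat_lit 813) (Tr.lf (nat_lit 798)) (Tr.lf (nat_lit 733)))) (Tr.nd (nat_lit 816) (Tr.nd (nat_lit 815) (Tr.lf (nat_lit 808)) (Tr.lf (nat_lit 731))) (Tr.nd (nat_lit 817) (Tr.lf (nat_lit 810)) (Tr.lf (nat_lit 785))))) (Tr.nd (nat_lit 821) (Tr.nd (nat_lit 819) (Tr.lf (nat_lit 815)) (Tr.nd (nat_lit 820) (Tr.lf (nat_lit 783)) (Tr.lf (nat_lit 819)))) (Tr.nd (nat_lit 823) (Tr.nd (nat_lit 822) (Tr.lf (nat_lit 789)) (Tr.lf (nat_lit 652))) (Tr.nd (nat_lit 824) (Tr.lf (nat_lit 811)) (Tr.lf (nat_lit 811)))))) (Tr.nd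 (nat_lit 832) (Tr.nd (nat_lit 828) (Tr.nd (nat_lit 826) (Tr.lf (nat_lit 812)) (Tr.nd (nat_lit 827) (Tr.lf (nat_lit 795)) (Tr.lf (nat_lit 824)))) (Tr.nd (nat_lit 830) (Tr.nd (nat_lit 829) (Tr.lf (nat_lit 801)) (Tr.lf (nat_lit 813))) (Tr.nd (nat_lit 831) (Tr.lf (nat_lit 711)) (Tr.lf (nat_lit 679))))) (Tr.nd (nat_lit 835) (Tr.nd (nat_lit 833) (Tr.lf (nat_lit 680)) (Tr.nd (nat_lit 834) (Tr.lf (nat_lit 817)) (Tr.lf (nat_lit 719)))) (Tr.nd (nat_lit 837) (Tr.nd (nat_lit 836) (Tr.lf (nat_lit 676)) (Tr.lf (nat_lit 807))) (Tr.nd (nat_lit 838) (Tr.lf (nat_lit 792)) (Tr.lf (nat_lit 688)))))))) (Tr.nd (nat_lit 867) (Tr.nd (nat_lit 853) (Tr.nd (nat_lit 846) (Tr.nd (nat_lit 842) (Tr.nd (nat_lit 840) (Tr.lf (nat_lit 833)) (Tr.nd (nat_lit 841) (Tr.lf (nat_lit 839)) (Tr.lf (nat_lit 830)))) (Tr.nd (nat_lit 844) (Tr.nd (nat_lit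 843) (Tr.lf (nat_lit 840)) (Tr.lf (nat_lit 726))) (Tr.nd (nat_lit 845) (Tr.lf (nat_lit 839)) (Tr.lf (nat_lit 831))))) (Tr.nd (nat_lit 849) (Tr.nd (nat_lit 847) (Tr.lf (nat_lit 697)) (Tr.nd (nat_lit 848) (Tr.lf (nat_lit 844)) (Tr.lf (nat_lit 847)))) (Tr.nd (nat_lit 851) (Tr.nd (nat_lit 850) (Tr.lf (nat_lit 682)) (Tr.lf (nat_lit 849))) (Tr.nd (nat_lit 852) (Tr.lf (nat_lit 723)) (Tr.lf (nat_lit 848)))))) (Tr.nd (nat_lit 860) (Tr.nd (nat_lit 856) (Tr.nd (nat_lit 854) (Tr.lf (nat_lit 850)) (Tr.nd (nat_lit 855) (Tr.lf (nat_lit 776)) (Tr.lf (nat_lit 851)))) (Tr.nd (nat_lit 858) (Tr.nd (nat_lit 857) (Tr.lf (nat_lit 720)) (Tr.lf (nat_lit 704))) (Tr.nd (nat_lit 859) (Tr.lf (nat_lit 838)) (Tr.lf (nat_lit 857))))) (Tr.nd (nat_lit 863) (Tr.nd (nat_lit 861) (Tr.lf (nat_lit 758)) (Tr.nd (nat_lit 862) (Tr.lf (nat_lit 857))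 (Tr.lf (nat_lit 829)))) (Tr.nd (nat_lit 865) (Tr.nd (nat_lit 864) (Tr.lf (nat_lit 708)) (Tr.lf (nat_lit 787))) (Tr.nd (nat_lit 866) (Tr.lf (nat_lit 859)) (Tr.lf (nat_lit 865))))))) (Tr.nd (nat_lit 881) (Tr.nd (nat_lit 874) (Tr.nd (nat_lit 870) (Tr.nd (nat_lit 868) (Tr.lf (nat_lit 844)) (Tr.nd (nat_lit 869) (Tr.lf (nat_lit 866)) (Tr.lf (nat_lit 862)))) (Tr.nd (nat_lit 872) (Tr.nd (nat_lit 871) (Tr.lf (nat_lit 864)) (Tr.lf (nat_lit 800))) (Tr.nd (nat_lit 873) (Tr.lf (nat_lit 871)) (Tr.lf (nat_lit 737))))) (Tr.nd (nat_lit 877) (Tr.nd (nat_lit 875) (Tr.lf (nat_lit 863)) (Tr.nd (nat_lit 876) (Tr.lf (nat_lit 870)) (Tr.lf (nat_lit 736)))) (Tr.nd (nat_lit 879) (Tr.nd (nat_lit 878) (Tr.lf (nat_lit 860)) (Tr.lf (nat_lit 761))) (Tr.nd (nat_lit 880) (Tr.lf (nat_lit 793)) (Tr.lf (nat_lit 879)))))) (Tr.nd (nat_lit 888)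 (Tr.nd (nat_lit 884) (Tr.nd (nat_lit 882) (Tr.lf (nat_lit 747)) (Tr.nd (nat_lit 883) (Tr.lf (nat_lit 881)) (Tr.lf (nat_lit 767)))) (Tr.nd (nat_lit 886) (Tr.nd (nat_lit 885) (Tr.lf (nat_lit 860)) (Tr.lf (nat_lit 878))) (Tr.nd (nat_lit 887) (Tr.lf (nat_lit 865)) (Tr.lf (nat_lit 879))))) (Tr.nd (nat_lit 891) (Tr.nd (nat_lit 889) (Tr.lf (nat_lit 884)) (Tr.nd (nat_lit 890) (Tr.lf (nat_lit 854)) (Tr.lf (nat_lit 885)))) (Tr.nd (nat_lit 893) (Tr.nd (nat_lit 892) (Tr.lf (nat_lit 821)) (Tr.lf (nat_lit 891))) (Tr.nd (nat_lit 894) (Tr.lf (nat_lit 886)) (Tr.lf (nat_lit 890))))))))))))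
noncomputable def mini1Q : Tr ℕ := (Tr.nd (nat_lit 447) (Tr.nd (nat_lit 223) (Tr.nd (nat_lit 111) (Tr.nd (nat_lit 55) (Tr.nd (nat_lit 27) (Tr.nd (nat_lit 13) (Tr.nd (nat_lit 6) (Tr.nd (nat_lit 3) (Tr.nd (nat_lit 1) (Tr.lf (nat_lit 0)) (Tr.nd (nat_lit 2) (Tr.lf (nat_lit 0)) (Tr.lf (nat_lit 1)))) (Tr.nd (nat_lit 4) (Tr.lf (nat_lit 0)) (Tr.nd (nat_lit 5) (Tr.lf (nat_lit 1)) (Tr.lf (nat_lit 0))))) (Tr.nd (nat_lit 9) (Tr.nd (nat_lit 7) (Tr.lf (nat_lit 2)) (Tr.nd (nat_lit 8) (Tr.lf (nat_lit 1)) (Tr.lf (nat_lit 0)))) (Tr.nd (nat_lit 11) (Tr.nd (nat_lit 10) (Tr.lf (nat_lit 1)) (Tr.lf (nat_lit 2))) (Tr.nd (nat_lit 12) (Tr.lf (nat_lit 0)) (Tr.lf (nat_lit 1)))))) (Tr.nd (nat_lit 20) (Tr.nd (nat_lit 16) (Tr.nd (nat_lit 14) (Tr.lf (nat_lit 0)) (Tr.nd (nat_lit 15) (Tr.lf (nat_lit 1)) (Tr.lf (nat_lit 3)))) (Tr.nd (nat_lit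 18) (Tr.nd (nat_lit 17) (Tr.lf (nat_lit 2)) (Tr.lf (nat_lit 1))) (Tr.nd (nat_lit 19) (Tr.lf (nat_lit 0)) (Tr.lf (nat_lit 1))))) (Tr.nd (nat_lit 23) (Tr.nd (nat_lit 21) (Tr.lf (nat_lit 2)) (Tr.nd (nat_lit 22) (Tr.lf (nat_lit 0)) (Tr.lf (nat_lit 1)))) (Tr.nd (nat_lit 25) (Tr.nd (nat_lit 24) (Tr.lf (nat_lit 0)) (Tr.lf (nat_lit 1))) (Tr.nd (nat_lit 26) (Tr.lf (nat_lit 2)) (Tr.lf (nat_lit 3))))))) (Tr.nd (nat_lit 41) (Tr.nd (nat_lit 34) (Tr.nd (nat_lit 30) (Tr.nd (nat_lit 28) (Tr.lf (nat_lit 3)) (Tr.nd (nat_lit 29) (Tr.lf (nat_lit 0)) (Tr.lf (nat_lit 1)))) (Tr.nd (nat_lit 32) (Tr.nd (nat_lit 31) (Tr.lf (nat_lit 2)) (Tr.lf (nat_lit 2))) (Tr.nd (nat_lit 33) (Tr.lf (nat_lit 2)) (Tr.lf (nat_lit 2))))) (Tr.nd (nat_lit 37) (Tr.nd (nat_lit 35) (Tr.lf (nat_lit 0)) (Tr.nd (nat_lit 36) (Tr.lf (nat_lit 3)) (Tr.lf (nat_lit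 3)))) (Tr.nd (nat_lit 39) (Tr.nd (nat_lit 38) (Tr.lf (nat_lit 3)) (Tr.lf (nat_lit 0))) (Tr.nd (nat_lit 40) (Tr.lf (nat_lit 3)) (Tr.lf (nat_lit 3)))))) (Tr.nd (nat_lit 48) (Tr.nd (nat_lit 44) (Tr.nd (nat_lit 42) (Tr.lf (nat_lit 3)) (Tr.nd (nat_lit 43) (Tr.lf (nat_lit 3)) (Tr.lf (nat_lit 3)))) (Tr.nd (nat_lit 46) (Tr.nd (nat_lit 45) (Tr.lf (nat_lit 1)) (Tr.lf (nat_lit 2))) (Tr.nd (nat_lit 47) (Tr.lf (nat_lit 1)) (Tr.lf (nat_lit 2))))) (Tr.nd (nat_lit 51) (Tr.nd (nat_lit 49) (Tr.lf (nat_lit 0)) (Tr.nd (nat_lit 50) (Tr.lf (nat_lit 1)) (Tr.lf (nat_lit 0)))) (Tr.nd (nat_lit 53) (Tr.nd (nat_lit 52) (Tr.lf (nat_lit 0)) (Tr.lf (nat_lit 1))) (Tr.nd (nat_lit 54) (Tr.lf (nat_lit 0)) (Tr.lf (nat_lit 3)))))))) (Tr.nd (nat_lit 83) (Tr.nd (nat_lit 69) (Tr.nd (nat_lit 62) (Tr.nd (nat_lit 58) (Tr.nd (nat_lit 56) (Tr.lf (nat_lit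 0)) (Tr.nd (nat_lit 57) (Tr.lf (nat_lit 1)) (Tr.lf (nat_lit 0)))) (Tr.nd (nat_lit 60) (Tr.nd (nat_lit 59) (Tr.lf (nat_lit 1)) (Tr.lf (nat_lit 3))) (Tr.nd (nat_lit 61) (Tr.lf (nat_lit 0)) (Tr.lf (nat_lit 0))))) (Tr.nd (nat_lit 65) (Tr.nd (nat_lit 63) (Tr.lf (nat_lit 0)) (Tr.nd (nat_lit 64) (Tr.lf (nat_lit 0)) (Tr.lf (nat_lit 2)))) (Tr.nd (nat_lit 67) (Tr.nd (nat_lit 66) (Tr.lf (nat_lit 3)) (Tr.lf (nat_lit 1))) (Tr.nd (nat_lit 68) (Tr.lf (nat_lit 3)) (Tr.lf (nat_lit 1)))))) (Tr.nd (nat_lit 76) (Tr.nd (nat_lit 72) (Tr.nd (nat_lit 70) (Tr.lf (nat_lit 1)) (Tr.nd (nat_lit 71) (Tr.lf (nat_lit 2)) (Tr.lf (nat_lit 0)))) (Tr.nd (nat_lit 74) (Tr.nd (nat_lit 73) (Tr.lf (nat_lit 1)) (Tr.lf (nat_lit 1))) (Tr.nd (nat_lit 75) (Tr.lf (nat_lit 1)) (Tr.lf (nat_lit 1))))) (Tr.nd (nat_lit 79) (Tr.nd (nat_lit 77) (Tr.lf (nat_lit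 0)) (Tr.nd (nat_lit 78) (Tr.lf (nat_lit 0)) (Tr.lf (nat_lit 3)))) (Tr.nd (nat_lit 81) (Tr.nd (nat_lit 80) (Tr.lf (nat_lit 2)) (Tr.lf (nat_lit 2))) (Tr.nd (nat_lit 82) (Tr.lf (nat_lit 0)) (Tr.lf (nat_lit 0))))))) (Tr.nd (nat_lit 97) (Tr.nd (nat_lit 90) (Tr.nd (nat_lit 86) (Tr.nd (nat_lit 84) (Tr.lf (nat_lit 3)) (Tr.nd (nat_lit 85) (Tr.lf (nat_lit 1)) (Tr.lf (nat_lit 3)))) (Tr.nd (nat_lit 88) (Tr.nd (nat_lit 87) (Tr.lf (nat_lit 3)) (Tr.lf (nat_lit 1))) (Tr.nd (nat_lit 89) (Tr.lf (nat_lit 3)) (Tr.lf (nat_lit 3))))) (Tr.nd (nat_lit 93) (Tr.nd (nat_lit 91) (Tr.lf (nat_lit 1)) (Tr.nd (nat_lit 92) (Tr.lf (nat_lit 0)) (Tr.lf (nat_lit 0)))) (Tr.nd (nat_lit 95) (Tr.nd (nat_lit 94) (Tr.lf (nat_lit 1)) (Tr.lf (nat_lit 3))) (Tr.nd (nat_lit 96) (Tr.lf (nat_lit 3)) (Tr.lf (nat_lit 2)))))) (Tr.nd (nat_lit 104) (Tr.nd (nat_lit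 100) (Tr.nd (nat_lit 98) (Tr.lf (nat_lit 1)) (Tr.nd (nat_lit 99) (Tr.lf (nat_lit 2)) (Tr.lf (nat_lit 2)))) (Tr.nd (nat_lit 102) (Tr.nd (nat_lit 101) (Tr.lf (nat_lit 2)) (Tr.lf (nat_lit 2))) (Tr.nd (nat_lit 103) (Tr.lf (nat_lit 3)) (Tr.lf (nat_lit 2))))) (Tr.nd (nat_lit 107) (Tr.nd (nat_lit 105) (Tr.lf (nat_lit 3)) (Tr.nd (nat_lit 106) (Tr.lf (nat_lit 0)) (Tr.lf (nat_lit 0)))) (Tr.nd (nat_lit 109) (Tr.nd (nat_lit 108) (Tr.lf (nat_lit 3)) (Tr.lf (nat_lit 0))) (Tr.nd (nat_lit 110) (Tr.lf (nat_lit 0)) (Tr.lf (nat_lit 2))))))))) (Tr.nd (nat_lit 167) (Tr.nd (nat_lit 139) (Tr.nd (nat_lit 125) (Tr.nd (nat_lit 118) (Tr.nd (nat_lit 114) (Tr.nd (nat_lit 112) (Tr.lf (nat_lit 1)) (Tr.nd (nat_lit 113) (Tr.lf (nat_lit 0)) (Tr.lf (nat_lit 1)))) (Tr.nd (nat_lit 116) (Tr.nd (nat_lit 115) (Tr.lf (nat_lit 1)) (Tr.lf (nat_lit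 1))) (Tr.nd (nat_lit 117) (Tr.lf (nat_lit 0)) (Tr.lf (nat_lit 2))))) (Tr.nd (nat_lit 121) (Tr.nd (nat_lit 119) (Tr.lf (nat_lit 2)) (Tr.nd (nat_lit 120) (Tr.lf (nat_lit 1)) (Tr.lf (nat_lit 0)))) (Tr.nd (nat_lit 123) (Tr.nd (nat_lit 122) (Tr.lf (nat_lit 1)) (Tr.lf (nat_lit 1))) (Tr.nd (nat_lit 124) (Tr.lf (nat_lit 0)) (Tr.lf (nat_lit 1)))))) (Tr.nd (nat_lit 132) (Tr.nd (nat_lit 128) (Tr.nd (nat_lit 126) (Tr.lf (nat_lit 2)) (Tr.nd (nat_lit 127) (Tr.lf (nat_lit 0)) (Tr.lf (nat_lit 2)))) (Tr.nd (nat_lit 130) (Tr.nd (nat_lit 129) (Tr.lf (nat_lit 1)) (Tr.lf (nat_lit 2))) (Tr.nd (nat_lit 131) (Tr.lf (nat_lit 1)) (Tr.lf (nat_lit 2))))) (Tr.nd (nat_lit 135) (Tr.nd (nat_lit 133) (Tr.lf (nat_lit 0)) (Tr.nd (nat_lit 134) (Tr.lf (nat_lit 0)) (Tr.lf (nat_lit 0)))) (Tr.nd (nat_lit 137) (Tr.nd (nat_lit 136) (Tr.lf (nat_lit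 2)) (Tr.lf (nat_lit 3))) (Tr.nd (nat_lit 138) (Tr.lf (nat_lit 0)) (Tr.lf (nat_lit 1))))))) (Tr.nd (nat_lit 153) (Tr.nd (nat_lit 146) (Tr.nd (nat_lit 142) (Tr.nd (nat_lit 140) (Tr.lf (nat_lit 3)) (Tr.nd (nat_lit 141) (Tr.lf (nat_lit 1)) (Tr.lf (nat_lit 1)))) (Tr.nd (nat_lit 144) (Tr.nd (nat_lit 143) (Tr.lf (nat_lit 3)) (Tr.lf (nat_lit 3))) (Tr.nd (nat_lit 145) (Tr.lf (nat_lit 0)) (Tr.lf (nat_lit 0))))) (Tr.nd (nat_lit 149) (Tr.nd (nat_lit 147) (Tr.lf (nat_lit 3)) (Tr.nd (nat_lit 148) (Tr.lf (nat_lit 0)) (Tr.lf (nat_lit 2)))) (Tr.nd (nat_lit 151) (Tr.nd (nat_lit 150) (Tr.lf (nat_lit 1)) (Tr.lf (nat_lit 1))) (Tr.nd (nat_lit 152) (Tr.lf (nat_lit 0)) (Tr.lf (nat_lit 3)))))) (Tr.nd (nat_lit 160) (Tr.nd (nat_lit 156) (Tr.nd (nat_lit 154) (Tr.lf (nat_lit 2)) (Tr.nd (nat_lit 155) (Tr.lf (nat_lit 0)) (Tr.lf (nat_lit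 1)))) (Tr.nd (nat_lit 158) (Tr.nd (nat_lit 157) (Tr.lf (nat_lit 2)) (Tr.lf (nat_lit 2))) (Tr.nd (nat_lit 159) (Tr.lf (nat_lit 2)) (Tr.lf (nat_lit 2))))) (Tr.nd (nat_lit 163) (Tr.nd (nat_lit 161) (Tr.lf (nat_lit 1)) (Tr.nd (nat_lit 162) (Tr.lf (nat_lit 1)) (Tr.lf (nat_lit 0)))) (Tr.nd (nat_lit 165) (Tr.nd (nat_lit 164) (Tr.lf (nat_lit 0)) (Tr.lf (nat_lit 0))) (Tr.nd (nat_lit 166) (Tr.lf (nat_lit 1)) (Tr.lf (nat_lit 3)))))))) (Tr.nd (nat_lit 195) (Tr.nd (nat_lit 181) (Tr.nd (nat_lit 174) (Tr.nd (nat_lit 170) (Tr.nd (nat_lit 168) (Tr.lf (nat_lit 1)) (Tr.nd (nat_lit 169) (Tr.lf (nat_lit 3)) (Tr.lf (nat_lit 2)))) (Tr.nd (nat_lit 172) (Tr.nd (nat_lit 171) (Tr.lf (nat_lit 2)) (Tr.lf (nat_lit 0))) (Tr.nd (nat_lit 173) (Tr.lf (nat_lit 3)) (Tr.lf (nat_lit 2))))) (Tr.nd (nat_lit 177) (Tr.nd (nat_lit 175) (Tr.lf (nat_lit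 1)) (Tr.nd (nat_lit 176) (Tr.lf (nat_lit 3)) (Tr.lf (nat_lit 2)))) (Tr.nd (nat_lit 179) (Tr.nd (nat_lit 178) (Tr.lf (nat_lit 3)) (Tr.lf (nat_lit 2))) (Tr.nd (nat_lit 180) (Tr.lf (nat_lit 2)) (Tr.lf (nat_lit 2)))))) (Tr.nd (nat_lit 188) (Tr.nd (nat_lit 184) (Tr.nd (nat_lit 182) (Tr.lf (nat_lit 1)) (Tr.nd (nat_lit 183) (Tr.lf (nat_lit 2)) (Tr.lf (nat_lit 0)))) (Tr.nd (nat_lit 186) (Tr.nd (nat_lit 185) (Tr.lf (nat_lit 2)) (Tr.lf (nat_lit 0))) (Tr.nd (nat_lit 187) (Tr.lf (nat_lit 2)) (Tr.lf (nat_lit 3))))) (Tr.nd (nat_lit 191) (Tr.nd (nat_lit 189) (Tr.lf (nat_lit 2)) (Tr.nd (nat_lit 190) (Tr.lf (nat_lit 1)) (Tr.lf (nat_lit 1)))) (Tr.nd (nat_lit 193) (Tr.nd (nat_lit 192) (Tr.lf (nat_lit 0)) (Tr.lf (nat_lit 0))) (Tr.nd (nat_lit 194) (Tr.lf (nat_lit 2)) (Tr.lf (nat_lit 1))))))) (Tr.nd (nat_lit 209) (Tr.nd (nat_lit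 202) (Tr.nd (nat_lit 198) (Tr.nd (nat_lit 196) (Tr.lf (nat_lit 2)) (Tr.nd (nat_lit 197) (Tr.lf (nat_lit 3)) (Tr.lf (nat_lit 0)))) (Tr.nd (nat_lit 200) (Tr.nd (nat_lit 199) (Tr.lf (nat_lit 3)) (Tr.lf (nat_lit 1))) (Tr.nd (nat_lit 201) (Tr.lf (nat_lit 1)) (Tr.lf (nat_lit 2))))) (Tr.nd (nat_lit 205) (Tr.nd (nat_lit 203) (Tr.lf (nat_lit 1)) (Tr.nd (nat_lit 204) (Tr.lf (nat_lit 1)) (Tr.lf (nat_lit 1)))) (Tr.nd (nat_lit 207) (Tr.nd (nat_lit 206) (Tr.lf (nat_lit 3)) (Tr.lf (nat_lit 3))) (Tr.nd (nat_lit 208) (Tr.lf (nat_lit 0)) (Tr.lf (nat_lit 0)))))) (Tr.nd (nat_lit 216) (Tr.nd (nat_lit 212) (Tr.nd (nat_lit 210) (Tr.lf (nat_lit 1)) (Tr.nd (nat_lit 211) (Tr.lf (nat_lit 1)) (Tr.lf (nat_lit 1)))) (Tr.nd (nat_lit 214) (Tr.nd (nat_lit 213) (Tr.lf (nat_lit 0)) (Tr.lf (nat_lit 0))) (Tr.nd (nat_lit 215) (Tr.lf (nat_lit 3))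 (Tr.lf (nat_lit 0))))) (Tr.nd (nat_lit 219) (Tr.nd (nat_lit 217) (Tr.lf (nat_lit 1)) (Tr.nd (nat_lit 218) (Tr.lf (nat_lit 3)) (Tr.lf (nat_lit 2)))) (Tr.nd (nat_lit 221) (Tr.nd (nat_lit 220) (Tr.lf (nat_lit 3)) (Tr.lf (nat_lit 1))) (Tr.nd (nat_lit 222) (Tr.lf (nat_lit 3)) (Tr.lf (nat_lit 2)))))))))) (Tr.nd (nat_lit 335) (Tr.nd (nat_lit 279) (Tr.nd (nat_lit 251) (Tr.nd (nat_lit 237) (Tr.nd (nat_lit 230) (Tr.nd (nat_lit 226) (Tr.nd (nat_lit 224) (Tr.lf (nat_lit 0)) (Tr.nd (nat_lit 225) (Tr.lf (nat_lit 0)) (Tr.lf (nat_lit 1)))) (Tr.nd (nat_lit 228) (Tr.nd (nat_lit 227) (Tr.lf (nat_lit 3)) (Tr.lf (nat_lit 0))) (Tr.nd (nat_lit 229) (Tr.lf (nat_lit 3)) (Tr.lf (nat_lit 0))))) (Tr.nd (nat_lit 233) (Tr.nd (nat_lit 231) (Tr.lf (nat_lit 2)) (Tr.nd (nat_lit 232) (Tr.lf (nat_lit 2)) (Tr.lf (nat_lit 2)))) (Tr.nd (nat_lit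 235) (Tr.nd (nat_lit 234) (Tr.lf (nat_lit 3)) (Tr.lf (nat_lit 1))) (Tr.nd (nat_lit 236) (Tr.lf (nat_lit 1)) (Tr.lf (nat_lit 1)))))) (Tr.nd (nat_lit 244) (Tr.nd (nat_lit 240) (Tr.nd (nat_lit 238) (Tr.lf (nat_lit 2)) (Tr.nd (nat_lit 239) (Tr.lf (nat_lit 1)) (Tr.lf (nat_lit 0)))) (Tr.nd (nat_lit 242) (Tr.nd (nat_lit 241) (Tr.lf (nat_lit 1)) (Tr.lf (nat_lit 1))) (Tr.nd (nat_lit 243) (Tr.lf (nat_lit 1)) (Tr.lf (nat_lit 3))))) (Tr.nd (nat_lit 247) (Tr.nd (nat_lit 245) (Tr.lf (nat_lit 0)) (Tr.nd (nat_lit 246) (Tr.lf (nat_lit 2)) (Tr.lf (nat_lit 2)))) (Tr.nd (nat_lit 249) (Tr.nd (nat_lit 248) (Tr.lf (nat_lit 3)) (Tr.lf (nat_lit 0))) (Tr.nd (nat_lit 250) (Tr.lf (nat_lit 3)) (Tr.lf (nat_lit 3))))))) (Tr.nd (nat_lit 265) (Tr.nd (nat_lit 258) (Tr.nd (nat_lit 254) (Tr.nd (nat_lit 252) (Tr.lf (nat_lit 1)) (Tr.nd (nat_lit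 253) (Tr.lf (nat_lit 2)) (Tr.lf (nat_lit 0)))) (Tr.nd (nat_lit 256) (Tr.nd (nat_lit 255) (Tr.lf (nat_lit 2)) (Tr.lf (nat_lit 3))) (Tr.nd (nat_lit 257) (Tr.lf (nat_lit 1)) (Tr.lf (nat_lit 2))))) (Tr.nd (nat_lit 261) (Tr.nd (nat_lit 259) (Tr.lf (nat_lit 2)) (Tr.nd (nat_lit 260) (Tr.lf (nat_lit 0)) (Tr.lf (nat_lit 1)))) (Tr.nd (nat_lit 263) (Tr.nd (nat_lit 262) (Tr.lf (nat_lit 3)) (Tr.lf (nat_lit 3))) (Tr.nd (nat_lit 264) (Tr.lf (nat_lit 0)) (Tr.lf (nat_lit 0)))))) (Tr.nd (nat_lit 272) (Tr.nd (nat_lit 268) (Tr.nd (nat_lit 266) (Tr.lf (nat_lit 0)) (Tr.nd (nat_lit 267) (Tr.lf (nat_lit 3)) (Tr.lf (nat_lit 1)))) (Tr.nd (nat_lit 270) (Tr.nd (nat_lit 269) (Tr.lf (nat_lit 3)) (Tr.lf (nat_lit 1))) (Tr.nd (nat_lit 271) (Tr.lf (nat_lit 3)) (Tr.lf (nat_lit 1))))) (Tr.nd (nat_lit 275) (Tr.nd (nat_lit 273) (Tr.lf (nat_lit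 2)) (Tr.nd (nat_lit 274) (Tr.lf (nat_lit 1)) (Tr.lf (nat_lit 2)))) (Tr.nd (nat_lit 277) (Tr.nd (nat_lit 276) (Tr.lf (nat_lit 0)) (Tr.lf (nat_lit 1))) (Tr.nd (nat_lit 278) (Tr.lf (nat_lit 2)) (Tr.lf (nat_lit 2)))))))) (Tr.nd (nat_lit 307) (Tr.nd (nat_lit 293) (Tr.nd (nat_lit 286) (Tr.nd (nat_lit 282) (Tr.nd (nat_lit 280) (Tr.lf (nat_lit 0)) (Tr.nd (nat_lit 281) (Tr.lf (nat_lit 3)) (Tr.lf (nat_lit 1)))) (Tr.nd (nat_lit 284) (Tr.nd (nat_lit 283) (Tr.lf (nat_lit 2)) (Tr.lf (nat_lit 2))) (Tr.nd (nat_lit 285) (Tr.lf (nat_lit 2)) (Tr.lf (nat_lit 2))))) (Tr.nd (nat_lit 289) (Tr.nd (nat_lit 287) (Tr.lf (nat_lit 2)) (Tr.nd (nat_lit 288) (Tr.lf (nat_lit 1)) (Tr.lf (nat_lit 1)))) (Tr.nd (nat_lit 291) (Tr.nd (nat_lit 290) (Tr.lf (nat_lit 0)) (Tr.lf (nat_lit 0))) (Tr.nd (nat_lit 292) (Tr.lf (nat_lit 1)) (Tr.lf (nat_lit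 3)))))) (Tr.nd (nat_lit 300) (Tr.nd (nat_lit 296) (Tr.nd (nat_lit 294) (Tr.lf (nat_lit 1)) (Tr.nd (nat_lit 295) (Tr.lf (nat_lit 2)) (Tr.lf (nat_lit 2)))) (Tr.nd (nat_lit 298) (Tr.nd (nat_lit 297) (Tr.lf (nat_lit 3)) (Tr.lf (nat_lit 2))) (Tr.nd (nat_lit 299) (Tr.lf (nat_lit 3)) (Tr.lf (nat_lit 0))))) (Tr.nd (nat_lit 303) (Tr.nd (nat_lit 301) (Tr.lf (nat_lit 1)) (Tr.nd (nat_lit 302) (Tr.lf (nat_lit 1)) (Tr.lf (nat_lit 0)))) (Tr.nd (nat_lit 305) (Tr.nd (nat_lit 304) (Tr.lf (nat_lit 2)) (Tr.lf (nat_lit 1))) (Tr.nd (nat_lit 306) (Tr.lf (nat_lit 1)) (Tr.lf (nat_lit 1))))))) (Tr.nd (nat_lit 321) (Tr.nd (nat_lit 314) (Tr.nd (nat_lit 310) (Tr.nd (nat_lit 308) (Tr.lf (nat_lit 3)) (Tr.nd (nat_lit 309) (Tr.lf (nat_lit 2)) (Tr.lf (nat_lit 3)))) (Tr.nd (nat_lit 312) (Tr.nd (nat_lit 311) (Tr.lf (nat_lit 1)) (Tr.lf (nat_lit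 2))) (Tr.nd (nat_lit 313) (Tr.lf (nat_lit 1)) (Tr.lf (nat_lit 3))))) (Tr.nd (nat_lit 317) (Tr.nd (nat_lit 315) (Tr.lf (nat_lit 2)) (Tr.nd (nat_lit 316) (Tr.lf (nat_lit 3)) (Tr.lf (nat_lit 3)))) (Tr.nd (nat_lit 319) (Tr.nd (nat_lit 318) (Tr.lf (nat_lit 1)) (Tr.lf (nat_lit 1))) (Tr.nd (nat_lit 320) (Tr.lf (nat_lit 3)) (Tr.lf (nat_lit 3)))))) (Tr.nd (nat_lit 328) (Tr.nd (nat_lit 324) (Tr.nd (nat_lit 322) (Tr.lf (nat_lit 3)) (Tr.nd (nat_lit 323) (Tr.lf (nat_lit 0)) (Tr.lf (nat_lit 0)))) (Tr.nd (nat_lit 326) (Tr.nd (nat_lit 325) (Tr.lf (nat_lit 1)) (Tr.lf (nat_lit 2))) (Tr.nd (nat_lit 327) (Tr.lf (nat_lit 1)) (Tr.lf (nat_lit 3))))) (Tr.nd (nat_lit 331) (Tr.nd (nat_lit 329) (Tr.lf (nat_lit 3)) (Tr.nd (nat_lit 330) (Tr.lf (nat_lit 0)) (Tr.lf (nat_lit 1)))) (Tr.nd (nat_lit 333) (Tr.nd (nat_lit 332) (Tr.lf (nat_lit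 2)) (Tr.lf (nat_lit 3))) (Tr.nd (nat_lit 334) (Tr.lf (nat_lit 0)) (Tr.lf (nat_lit 0))))))))) (Tr.nd (nat_lit 391) (Tr.nd (nat_lit 363) (Tr.nd (nat_lit 349) (Tr.nd (nat_lit 342) (Tr.nd (nat_lit 338) (Tr.nd (nat_lit 336) (Tr.lf (nat_lit 1)) (Tr.nd (nat_lit 337) (Tr.lf (nat_lit 2)) (Tr.lf (nat_lit 2)))) (Tr.nd (nat_lit 340) (Tr.nd (nat_lit 339) (Tr.lf (nat_lit 2)) (Tr.lf (nat_lit 0))) (Tr.nd (nat_lit 341) (Tr.lf (nat_lit 2)) (Tr.lf (nat_lit 2))))) (Tr.nd (nat_lit 345) (Tr.nd (nat_lit 343) (Tr.lf (nat_lit 2)) (Tr.nd (nat_lit 344) (Tr.lf (nat_lit 2)) (Tr.lf (nat_lit 3)))) (Tr.nd (nat_lit 347) (Tr.nd (nat_lit 346) (Tr.lf (nat_lit 3)) (Tr.lf (nat_lit 2))) (Tr.nd (nat_lit 348) (Tr.lf (nat_lit 2)) (Tr.lf (nat_lit 3)))))) (Tr.nd (nat_lit 356) (Tr.nd (nat_lit 352) (Tr.nd (nat_lit 350) (Tr.lf (nat_lit 3)) (Tr.nd (nat_lit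 351) (Tr.lf (nat_lit 3)) (Tr.lf (nat_lit 2)))) (Tr.nd (nat_lit 354) (Tr.nd (nat_lit 353) (Tr.lf (nat_lit 3)) (Tr.lf (nat_lit 1))) (Tr.nd (nat_lit 355) (Tr.lf (nat_lit 2)) (Tr.lf (nat_lit 3))))) (Tr.nd (nat_lit 359) (Tr.nd (nat_lit 357) (Tr.lf (nat_lit 1)) (Tr.nd (nat_lit 358) (Tr.lf (nat_lit 3)) (Tr.lf (nat_lit 2)))) (Tr.nd (nat_lit 361) (Tr.nd (nat_lit 360) (Tr.lf (nat_lit 1)) (Tr.lf (nat_lit 3))) (Tr.nd (nat_lit 362) (Tr.lf (nat_lit 3)) (Tr.lf (nat_lit 2))))))) (Tr.nd (nat_lit 377) (Tr.nd (nat_lit 370) (Tr.nd (nat_lit 366) (Tr.nd (nat_lit 364) (Tr.lf (nat_lit 0)) (Tr.nd (nat_lit 365) (Tr.lf (nat_lit 0)) (Tr.lf (nat_lit 3)))) (Tr.nd (nat_lit 368) (Tr.nd (nat_lit 367) (Tr.lf (nat_lit 2)) (Tr.lf (nat_lit 1))) (Tr.nd (nat_lit 369) (Tr.lf (nat_lit 2)) (Tr.lf (nat_lit 2))))) (Tr.nd (nat_lit 373) (Tr.nd (nat_lit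 371) (Tr.lf (nat_lit 3)) (Tr.nd (nat_lit 372) (Tr.lf (nat_lit 2)) (Tr.lf (nat_lit 0)))) (Tr.nd (nat_lit 375) (Tr.nd (nat_lit 374) (Tr.lf (nat_lit 2)) (Tr.lf (nat_lit 1))) (Tr.nd (nat_lit 376) (Tr.lf (nat_lit 1)) (Tr.lf (nat_lit 3)))))) (Tr.nd (nat_lit 384) (Tr.nd (nat_lit 380) (Tr.nd (nat_lit 378) (Tr.lf (nat_lit 2)) (Tr.nd (nat_lit 379) (Tr.lf (nat_lit 1)) (Tr.lf (nat_lit 2)))) (Tr.nd (nat_lit 382) (Tr.nd (nat_lit 381) (Tr.lf (nat_lit 0)) (Tr.lf (nat_lit 3))) (Tr.nd (nat_lit 383) (Tr.lf (nat_lit 3)) (Tr.lf (nat_lit 2))))) (Tr.nd (nat_lit 387) (Tr.nd (nat_lit 385) (Tr.lf (nat_lit 3)) (Tr.nd (nat_lit 386) (Tr.lf (nat_lit 2)) (Tr.lf (nat_lit 0)))) (Tr.nd (nat_lit 389) (Tr.nd (nat_lit 388) (Tr.lf (nat_lit 1)) (Tr.lf (nat_lit 3))) (Tr.nd (nat_lit 390) (Tr.lf (nat_lit 0)) (Tr.lf (nat_lit 2)))))))) (Tr.nd (nat_lit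 419) (Tr.nd (nat_lit 405) (Tr.nd (nat_lit 398) (Tr.nd (nat_lit 394) (Tr.nd (nat_lit 392) (Tr.lf (nat_lit 3)) (Tr.nd (nat_lit 393) (Tr.lf (nat_lit 0)) (Tr.lf (nat_lit 3)))) (Tr.nd (nat_lit 396) (Tr.nd (nat_lit 395) (Tr.lf (nat_lit 0)) (Tr.lf (nat_lit 0))) (Tr.nd (nat_lit 397) (Tr.lf (nat_lit 1)) (Tr.lf (nat_lit 0))))) (Tr.nd (nat_lit 401) (Tr.nd (nat_lit 399) (Tr.lf (nat_lit 3)) (Tr.nd (nat_lit 400) (Tr.lf (nat_lit 2)) (Tr.lf (nat_lit 2)))) (Tr.nd (nat_lit 403) (Tr.nd (nat_lit 402) (Tr.lf (nat_lit 2)) (Tr.lf (nat_lit 3))) (Tr.nd (nat_lit 404) (Tr.lf (nat_lit 1)) (Tr.lf (nat_lit 2)))))) (Tr.nd (nat_lit 412) (Tr.nd (nat_lit 408) (Tr.nd (nat_lit 406) (Tr.lf (nat_lit 3)) (Tr.nd (nat_lit 407) (Tr.lf (nat_lit 0)) (Tr.lf (nat_lit 2)))) (Tr.nd (nat_lit 410) (Tr.nd (nat_lit 409) (Tr.lf (nat_lit 1)) (Tr.lf (nat_lit 3)))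 (Tr.nd (nat_lit 411) (Tr.lf (nat_lit 0)) (Tr.lf (nat_lit 2))))) (Tr.nd (nat_lit 415) (Tr.nd (nat_lit 413) (Tr.lf (nat_lit 1)) (Tr.nd (nat_lit 414) (Tr.lf (nat_lit 3)) (Tr.lf (nat_lit 3)))) (Tr.nd (nat_lit 417) (Tr.nd (nat_lit 416) (Tr.lf (nat_lit 1)) (Tr.lf (nat_lit 3))) (Tr.nd (nat_lit 418) (Tr.lf (nat_lit 1)) (Tr.lf (nat_lit 3))))))) (Tr.nd (nat_lit 433) (Tr.nd (nat_lit 426) (Tr.nd (nat_lit 422) (Tr.nd (nat_lit 420) (Tr.lf (nat_lit 3)) (Tr.nd (nat_lit 421) (Tr.lf (nat_lit 0)) (Tr.lf (nat_lit 1)))) (Tr.nd (nat_lit 424) (Tr.nd (nat_lit 423) (Tr.lf (nat_lit 3)) (Tr.lf (nat_lit 3))) (Tr.nd (nat_lit 425) (Tr.lf (nat_lit 3)) (Tr.lf (nat_lit 1))))) (Tr.nd (nat_lit 429) (Tr.nd (nat_lit 427) (Tr.lf (nat_lit 2)) (Tr.nd (nat_lit 428) (Tr.lf (nat_lit 2)) (Tr.lf (nat_lit 3)))) (Tr.nd (nat_lit 431) (Tr.nd (nat_lit 430)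 (Tr.lf (nat_lit 2)) (Tr.lf (nat_lit 3))) (Tr.nd (nat_lit 432) (Tr.lf (nat_lit 2)) (Tr.lf (nat_lit 2)))))) (Tr.nd (nat_lit 440) (Tr.nd (nat_lit 436) (Tr.nd (nat_lit 434) (Tr.lf (nat_lit 1)) (Tr.nd (nat_lit 435) (Tr.lf (nat_lit 2)) (Tr.lf (nat_lit 2)))) (Tr.nd (nat_lit 438) (Tr.nd (nat_lit 437) (Tr.lf (nat_lit 1)) (Tr.lf (nat_lit 2))) (Tr.nd (nat_lit 439) (Tr.lf (nat_lit 2)) (Tr.lf (nat_lit 0))))) (Tr.nd (nat_lit 443) (Tr.nd (nat_lit 441) (Tr.lf (nat_lit 2)) (Tr.nd (nat_lit 442) (Tr.lf (nat_lit 0)) (Tr.lf (nat_lit 1)))) (Tr.nd (nat_lit 445) (Tr.nd (nat_lit 444) (Tr.lf (nat_lit 3)) (Tr.lf (nat_lit 0))) (Tr.nd (nat_lit 446) (Tr.lf (nat_lit 1)) (Tr.lf (nat_lit 1))))))))))) (Tr.nd (nat_lit 671) (Tr.nd (nat_lit 559) (Tr.nd (nat_lit 503) (Tr.nd (nat_lit 475) (Tr.nd (nat_lit 461) (Tr.nd (nat_lit 454) (Tr.nd (nat_lit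 450) (Tr.nd (nat_lit 448) (Tr.lf (nat_lit 0)) (Tr.nd (nat_lit 449) (Tr.lf (nat_lit 2)) (Tr.lf (nat_lit 2)))) (Tr.nd (nat_lit 452) (Tr.nd (nat_lit 451) (Tr.lf (nat_lit 2)) (Tr.lf (nat_lit 1))) (Tr.nd (nat_lit 453) (Tr.lf (nat_lit 2)) (Tr.lf (nat_lit 3))))) (Tr.nd (nat_lit 457) (Tr.nd (nat_lit 455) (Tr.lf (nat_lit 0)) (Tr.nd (nat_lit 456) (Tr.lf (nat_lit 1)) (Tr.lf (nat_lit 2)))) (Tr.nd (nat_lit 459) (Tr.nd (nat_lit 458) (Tr.lf (nat_lit 0)) (Tr.lf (nat_lit 0))) (Tr.nd (nat_lit 460) (Tr.lf (nat_lit 0)) (Tr.lf (nat_lit 0)))))) (Tr.nd (nat_lit 468) (Tr.nd (nat_lit 464) (Tr.nd (nat_lit 462) (Tr.lf (nat_lit 1)) (Tr.nd (nat_lit 463) (Tr.lf (nat_lit 2)) (Tr.lf (nat_lit 3)))) (Tr.nd (nat_lit 466) (Tr.nd (nat_lit 465) (Tr.lf (nat_lit 0)) (Tr.lf (nat_lit 2))) (Tr.nd (nat_lit 467) (Tr.lf (nat_lit 0)) (Tr.lf (nat_lit 0)))))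 (Tr.nd (nat_lit 471) (Tr.nd (nat_lit 469) (Tr.lf (nat_lit 3)) (Tr.nd (nat_lit 470) (Tr.lf (nat_lit 3)) (Tr.lf (nat_lit 0)))) (Tr.nd (nat_lit 473) (Tr.nd (nat_lit 472) (Tr.lf (nat_lit 3)) (Tr.lf (nat_lit 0))) (Tr.nd (nat_lit 474) (Tr.lf (nat_lit 0)) (Tr.lf (nat_lit 2))))))) (Tr.nd (nat_lit 489) (Tr.nd (nat_lit 482) (Tr.nd (nat_lit 478) (Tr.nd (nat_lit 476) (Tr.lf (nat_lit 1)) (Tr.nd (nat_lit 477) (Tr.lf (nat_lit 0)) (Tr.lf (nat_lit 1)))) (Tr.nd (nat_lit 480) (Tr.nd (nat_lit 479) (Tr.lf (nat_lit 3)) (Tr.lf (nat_lit 0))) (Tr.nd (nat_lit 481) (Tr.lf (nat_lit 1)) (Tr.lf (nat_lit 0))))) (Tr.nd (nat_lit 485) (Tr.nd (nat_lit 483) (Tr.lf (nat_lit 0)) (Tr.nd (nat_lit 484) (Tr.lf (nat_lit 3)) (Tr.lf (nat_lit 2)))) (Tr.nd (nat_lit 487) (Tr.nd (nat_lit 486) (Tr.lf (nat_lit 1)) (Tr.lf (nat_lit 1))) (Tr.nd (nat_lit 488)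 (Tr.lf (nat_lit 0)) (Tr.lf (nat_lit 2)))))) (Tr.nd (nat_lit 496) (Tr.nd (nat_lit 492) (Tr.nd (nat_lit 490) (Tr.lf (nat_lit 2)) (Tr.nd (nat_lit 491) (Tr.lf (nat_lit 1)) (Tr.lf (nat_lit 3)))) (Tr.nd (nat_lit 494) (Tr.nd (nat_lit 493) (Tr.lf (nat_lit 2)) (Tr.lf (nat_lit 3))) (Tr.nd (nat_lit 495) (Tr.lf (nat_lit 0)) (Tr.lf (nat_lit 2))))) (Tr.nd (nat_lit 499) (Tr.nd (nat_lit 497) (Tr.lf (nat_lit 3)) (Tr.nd (nat_lit 498) (Tr.lf (nat_lit 2)) (Tr.lf (nat_lit 1)))) (Tr.nd (nat_lit 501) (Tr.nd (nat_lit 500) (Tr.lf (nat_lit 0)) (Tr.lf (nat_lit 1))) (Tr.nd (nat_lit 502) (Tr.lf (nat_lit 1)) (Tr.lf (nat_lit 3)))))))) (Tr.nd (nat_lit 531) (Tr.nd (nat_lit 517) (Tr.nd (nat_lit 510) (Tr.nd (nat_lit 506) (Tr.nd (nat_lit 504) (Tr.lf (nat_lit 2)) (Tr.nd (nat_lit 505) (Tr.lf (nat_lit 1)) (Tr.lf (nat_lit 2)))) (Tr.nd (nat_lit 508)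 (Tr.nd (nat_lit 507) (Tr.lf (nat_lit 1)) (Tr.lf (nat_lit 3))) (Tr.nd (nat_lit 509) (Tr.lf (nat_lit 1)) (Tr.lf (nat_lit 2))))) (Tr.nd (nat_lit 513) (Tr.nd (nat_lit 511) (Tr.lf (nat_lit 2)) (Tr.nd (nat_lit 512) (Tr.lf (nat_lit 1)) (Tr.lf (nat_lit 2)))) (Tr.nd (nat_lit 515) (Tr.nd (nat_lit 514) (Tr.lf (nat_lit 1)) (Tr.lf (nat_lit 2))) (Tr.nd (nat_lit 516) (Tr.lf (nat_lit 1)) (Tr.lf (nat_lit 3)))))) (Tr.nd (nat_lit 524) (Tr.nd (nat_lit 520) (Tr.nd (nat_lit 518) (Tr.lf (nat_lit 2)) (Tr.nd (nat_lit 519) (Tr.lf (nat_lit 2)) (Tr.lf (nat_lit 2)))) (Tr.nd (nat_lit 522) (Tr.nd (nat_lit 521) (Tr.lf (nat_lit 1)) (Tr.lf (nat_lit 2))) (Tr.nd (nat_lit 523) (Tr.lf (nat_lit 1)) (Tr.lf (nat_lit 3))))) (Tr.nd (nat_lit 527) (Tr.nd (nat_lit 525) (Tr.lf (nat_lit 1)) (Tr.nd (nat_lit 526) (Tr.lf (nat_lit 1)) (Tr.lf (nat_lit 3))))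 (Tr.nd (nat_lit 529) (Tr.nd (nat_lit 528) (Tr.lf (nat_lit 2)) (Tr.lf (nat_lit 2))) (Tr.nd (nat_lit 530) (Tr.lf (nat_lit 3)) (Tr.lf (nat_lit 3))))))) (Tr.nd (nat_lit 545) (Tr.nd (nat_lit 538) (Tr.nd (nat_lit 534) (Tr.nd (nat_lit 532) (Tr.lf (nat_lit 3)) (Tr.nd (nat_lit 533) (Tr.lf (nat_lit 1)) (Tr.lf (nat_lit 2)))) (Tr.nd (nat_lit 536) (Tr.nd (nat_lit 535) (Tr.lf (nat_lit 3)) (Tr.lf (nat_lit 2))) (Tr.nd (nat_lit 537) (Tr.lf (nat_lit 2)) (Tr.lf (nat_lit 2))))) (Tr.nd (nat_lit 541) (Tr.nd (nat_lit 539) (Tr.lf (nat_lit 1)) (Tr.nd (nat_lit 540) (Tr.lf (nat_lit 2)) (Tr.lf (nat_lit 3)))) (Tr.nd (nat_lit 543) (Tr.nd (nat_lit 542) (Tr.lf (nat_lit 3)) (Tr.lf (nat_lit 3))) (Tr.nd (nat_lit 544) (Tr.lf (nat_lit 0)) (Tr.lf (nat_lit 2)))))) (Tr.nd (nat_lit 552) (Tr.nd (nat_lit 548) (Tr.nd (nat_lit 546) (Tr.lf (nat_lit 3))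 (Tr.nd (nat_lit 547) (Tr.lf (nat_lit 1)) (Tr.lf (nat_lit 1)))) (Tr.nd (nat_lit 550) (Tr.nd (nat_lit 549) (Tr.lf (nat_lit 3)) (Tr.lf (nat_lit 3))) (Tr.nd (nat_lit 551) (Tr.lf (nat_lit 3)) (Tr.lf (nat_lit 2))))) (Tr.nd (nat_lit 555) (Tr.nd (nat_lit 553) (Tr.lf (nat_lit 1)) (Tr.nd (nat_lit 554) (Tr.lf (nat_lit 2)) (Tr.lf (nat_lit 2)))) (Tr.nd (nat_lit 557) (Tr.nd (nat_lit 556) (Tr.lf (nat_lit 3)) (Tr.lf (nat_lit 2))) (Tr.nd (nat_lit 558) (Tr.lf (nat_lit 2)) (Tr.lf (nat_lit 3))))))))) (Tr.nd (nat_lit 615) (Tr.nd (nat_lit 587) (Tr.nd (nat_lit 573) (Tr.nd (nat_lit 566) (Tr.nd (nat_lit 562) (Tr.nd (nat_lit 560) (Tr.lf (nat_lit 3)) (Tr.nd (nat_lit 561) (Tr.lf (nat_lit 0)) (Tr.lf (nat_lit 2)))) (Tr.nd (nat_lit 564) (Tr.nd (nat_lit 563) (Tr.lf (nat_lit 2)) (Tr.lf (nat_lit 2))) (Tr.nd (nat_lit 565) (Tr.lf (nat_lit 2))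 (Tr.lf (nat_lit 1))))) (Tr.nd (nat_lit 569) (Tr.nd (nat_lit 567) (Tr.lf (nat_lit 0)) (Tr.nd (nat_lit 568) (Tr.lf (nat_lit 3)) (Tr.lf (nat_lit 2)))) (Tr.nd (nat_lit 571) (Tr.nd (nat_lit 570) (Tr.lf (nat_lit 3)) (Tr.lf (nat_lit 2))) (Tr.nd (nat_lit 572) (Tr.lf (nat_lit 1)) (Tr.lf (nat_lit 3)))))) (Tr.nd (nat_lit 580) (Tr.nd (nat_lit 576) (Tr.nd (nat_lit 574) (Tr.lf (nat_lit 1)) (Tr.nd (nat_lit 575) (Tr.lf (nat_lit 1)) (Tr.lf (nat_lit 1)))) (Tr.nd (nat_lit 578) (Tr.nd (nat_lit 577) (Tr.lf (nat_lit 3)) (Tr.lf (nat_lit 2))) (Tr.nd (nat_lit 579) (Tr.lf (nat_lit 2)) (Tr.lf (nat_lit 3))))) (Tr.nd (nat_lit 583) (Tr.nd (nat_lit 581) (Tr.lf (nat_lit 3)) (Tr.nd (nat_lit 582) (Tr.lf (nat_lit 3)) (Tr.lf (nat_lit 2)))) (Tr.nd (nat_lit 585) (Tr.nd (nat_lit 584) (Tr.lf (nat_lit 2)) (Tr.lf (nat_lit 3))) (Tr.nd (nat_lit 586)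 (Tr.lf (nat_lit 2)) (Tr.lf (nat_lit 3))))))) (Tr.nd (nat_lit 601) (Tr.nd (nat_lit 594) (Tr.nd (nat_lit 590) (Tr.nd (nat_lit 588) (Tr.lf (nat_lit 0)) (Tr.nd (nat_lit 589) (Tr.lf (nat_lit 1)) (Tr.lf (nat_lit 1)))) (Tr.nd (nat_lit 592) (Tr.nd (nat_lit 591) (Tr.lf (nat_lit 0)) (Tr.lf (nat_lit 1))) (Tr.nd (nat_lit 593) (Tr.lf (nat_lit 3)) (Tr.lf (nat_lit 3))))) (Tr.nd (nat_lit 597) (Tr.nd (nat_lit 595) (Tr.lf (nat_lit 0)) (Tr.nd (nat_lit 596) (Tr.lf (nat_lit 2)) (Tr.lf (nat_lit 1)))) (Tr.nd (nat_lit 599) (Tr.nd (nat_lit 598) (Tr.lf (nat_lit 2)) (Tr.lf (nat_lit 3))) (Tr.nd (nat_lit 600) (Tr.lf (nat_lit 0)) (Tr.lf (nat_lit 0)))))) (Tr.nd (nat_lit 608) (Tr.nd (nat_lit 604) (Tr.nd (nat_lit 602) (Tr.lf (nat_lit 3)) (Tr.nd (nat_lit 603) (Tr.lf (nat_lit 0)) (Tr.lf (nat_lit 3)))) (Tr.nd (nat_lit 606) (Tr.nd (nat_lit 605)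 (Tr.lf (nat_lit 3)) (Tr.lf (nat_lit 2))) (Tr.nd (nat_lit 607) (Tr.lf (nat_lit 0)) (Tr.lf (nat_lit 1))))) (Tr.nd (nat_lit 611) (Tr.nd (nat_lit 609) (Tr.lf (nat_lit 3)) (Tr.nd (nat_lit 610) (Tr.lf (nat_lit 3)) (Tr.lf (nat_lit 1)))) (Tr.nd (nat_lit 613) (Tr.nd (nat_lit 612) (Tr.lf (nat_lit 1)) (Tr.lf (nat_lit 1))) (Tr.nd (nat_lit 614) (Tr.lf (nat_lit 3)) (Tr.lf (nat_lit 1)))))))) (Tr.nd (nat_lit 643) (Tr.nd (nat_lit 629) (Tr.nd (nat_lit 622) (Tr.nd (nat_lit 618) (Tr.nd (nat_lit 616) (Tr.lf (nat_lit 1)) (Tr.nd (nat_lit 617) (Tr.lf (nat_lit 1)) (Tr.lf (nat_lit 3)))) (Tr.nd (nat_lit 620) (Tr.nd (nat_lit 619) (Tr.lf (nat_lit 1)) (Tr.lf (nat_lit 1))) (Tr.nd (nat_lit 621) (Tr.lf (nat_lit 1)) (Tr.lf (nat_lit 3))))) (Tr.nd (nat_lit 625) (Tr.nd (nat_lit 623) (Tr.lf (nat_lit 2)) (Tr.nd (nat_lit 624) (Tr.lf (nat_lit 1))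 (Tr.lf (nat_lit 3)))) (Tr.nd (nat_lit 627) (Tr.nd (nat_lit 626) (Tr.lf (nat_lit 0)) (Tr.lf (nat_lit 1))) (Tr.nd (nat_lit 628) (Tr.lf (nat_lit 2)) (Tr.lf (nat_lit 3)))))) (Tr.nd (nat_lit 636) (Tr.nd (nat_lit 632) (Tr.nd (nat_lit 630) (Tr.lf (nat_lit 1)) (Tr.nd (nat_lit 631) (Tr.lf (nat_lit 1)) (Tr.lf (nat_lit 1)))) (Tr.nd (nat_lit 634) (Tr.nd (nat_lit 633) (Tr.lf (nat_lit 2)) (Tr.lf (nat_lit 1))) (Tr.nd (nat_lit 635) (Tr.lf (nat_lit 1)) (Tr.lf (nat_lit 1))))) (Tr.nd (nat_lit 639) (Tr.nd (nat_lit 637) (Tr.lf (nat_lit 2)) (Tr.nd (nat_lit 638) (Tr.lf (nat_lit 1)) (Tr.lf (nat_lit 2)))) (Tr.nd (nat_lit 641) (Tr.nd (nat_lit 640) (Tr.lf (nat_lit 0)) (Tr.lf (nat_lit 3))) (Tr.nd (nat_lit 642) (Tr.lf (nat_lit 0)) (Tr.lf (nat_lit 1))))))) (Tr.nd (nat_lit 657) (Tr.nd (nat_lit 650) (Tr.nd (nat_lit 646) (Tr.nd (nat_lit 644)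 (Tr.lf (nat_lit 3)) (Tr.nd (nat_lit 645) (Tr.lf (nat_lit 2)) (Tr.lf (nat_lit 2)))) (Tr.nd (nat_lit 648) (Tr.nd (nat_lit 647) (Tr.lf (nat_lit 2)) (Tr.lf (nat_lit 0))) (Tr.nd (nat_lit 649) (Tr.lf (nat_lit 3)) (Tr.lf (nat_lit 1))))) (Tr.nd (nat_lit 653) (Tr.nd (nat_lit 651) (Tr.lf (nat_lit 2)) (Tr.nd (nat_lit 652) (Tr.lf (nat_lit 0)) (Tr.lf (nat_lit 1)))) (Tr.nd (nat_lit 655) (Tr.nd (nat_lit 654) (Tr.lf (nat_lit 0)) (Tr.lf (nat_lit 3))) (Tr.nd (nat_lit 656) (Tr.lf (nat_lit 2)) (Tr.lf (nat_lit 2)))))) (Tr.nd (nat_lit 664) (Tr.nd (nat_lit 660) (Tr.nd (nat_lit 658) (Tr.lf (nat_lit 3)) (Tr.nd (nat_lit 659) (Tr.lf (nat_lit 3)) (Tr.lf (nat_lit 2)))) (Tr.nd (nat_lit 662) (Tr.nd (nat_lit 661) (Tr.lf (nat_lit 3)) (Tr.lf (nat_lit 0))) (Tr.nd (nat_lit 663) (Tr.lf (nat_lit 2)) (Tr.lf (nat_lit 0))))) (Tr.nd (nat_lit 667)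 (Tr.nd (nat_lit 665) (Tr.lf (nat_lit 1)) (Tr.nd (nat_lit 666) (Tr.lf (nat_lit 3)) (Tr.lf (nat_lit 0)))) (Tr.nd (nat_lit 669) (Tr.nd (nat_lit 668) (Tr.lf (nat_lit 1)) (Tr.lf (nat_lit 0))) (Tr.nd (nat_lit 670) (Tr.lf (nat_lit 2)) (Tr.lf (nat_lit 0)))))))))) (Tr.nd (nat_lit 783) (Tr.nd (nat_lit 727) (Tr.nd (nat_lit 699) (Tr.nd (nat_lit 685) (Tr.nd (nat_lit 678) (Tr.nd (nat_lit 674) (Tr.nd (nat_lit 672) (Tr.lf (nat_lit 1)) (Tr.nd (nat_lit 673) (Tr.lf (nat_lit 2)) (Tr.lf (nat_lit 1)))) (Tr.nd (nat_lit 676) (Tr.nd (nat_lit 675) (Tr.lf (nat_lit 3)) (Tr.lf (nat_lit 3))) (Tr.nd (nat_lit 677) (Tr.lf (nat_lit 1)) (Tr.lf (nat_lit 2))))) (Tr.nd (nat_lit 681) (Tr.nd (nat_lit 679) (Tr.lf (nat_lit 0)) (Tr.nd (nat_lit 680) (Tr.lf (nat_lit 1)) (Tr.lf (nat_lit 0)))) (Tr.nd (nat_lit 683) (Tr.nd (nat_lit 682) (Tr.lf (nat_lit 0))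 (Tr.lf (nat_lit 2))) (Tr.nd (nat_lit 684) (Tr.lf (nat_lit 1)) (Tr.lf (nat_lit 0)))))) (Tr.nd (nat_lit 692) (Tr.nd (nat_lit 688) (Tr.nd (nat_lit 686) (Tr.lf (nat_lit 2)) (Tr.nd (nat_lit 687) (Tr.lf (nat_lit 0)) (Tr.lf (nat_lit 1)))) (Tr.nd (nat_lit 690) (Tr.nd (nat_lit 689) (Tr.lf (nat_lit 0)) (Tr.lf (nat_lit 0))) (Tr.nd (nat_lit 691) (Tr.lf (nat_lit 2)) (Tr.lf (nat_lit 2))))) (Tr.nd (nat_lit 695) (Tr.nd (nat_lit 693) (Tr.lf (nat_lit 3)) (Tr.nd (nat_lit 694) (Tr.lf (nat_lit 0)) (Tr.lf (nat_lit 1)))) (Tr.nd (nat_lit 697) (Tr.nd (nat_lit 696) (Tr.lf (nat_lit 3)) (Tr.lf (nat_lit 2))) (Tr.nd (nat_lit 698) (Tr.lf (nat_lit 3)) (Tr.lf (nat_lit 3))))))) (Tr.nd (nat_lit 713) (Tr.nd (nat_lit 706) (Tr.nd (nat_lit 702) (Tr.nd (nat_lit 700) (Tr.lf (nat_lit 2)) (Tr.nd (nat_lit 701) (Tr.lf (nat_lit 0)) (Tr.lf (nat_lit 3))))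 (Tr.nd (nat_lit 704) (Tr.nd (nat_lit 703) (Tr.lf (nat_lit 0)) (Tr.lf (nat_lit 3))) (Tr.nd (nat_lit 705) (Tr.lf (nat_lit 2)) (Tr.lf (nat_lit 2))))) (Tr.nd (nat_lit 709) (Tr.nd (nat_lit 707) (Tr.lf (nat_lit 3)) (Tr.nd (nat_lit 708) (Tr.lf (nat_lit 3)) (Tr.lf (nat_lit 1)))) (Tr.nd (nat_lit 711) (Tr.nd (nat_lit 710) (Tr.lf (nat_lit 2)) (Tr.lf (nat_lit 0))) (Tr.nd (nat_lit 712) (Tr.lf (nat_lit 1)) (Tr.lf (nat_lit 0)))))) (Tr.nd (nat_lit 720) (Tr.nd (nat_lit 716) (Tr.nd (nat_lit 714) (Tr.lf (nat_lit 3)) (Tr.nd (nat_lit 715) (Tr.lf (nat_lit 3)) (Tr.lf (nat_lit 1)))) (Tr.nd (nat_lit 718) (Tr.nd (nat_lit 717) (Tr.lf (nat_lit 0)) (Tr.lf (nat_lit 1))) (Tr.nd (nat_lit 719) (Tr.lf (nat_lit 0)) (Tr.lf (nat_lit 1))))) (Tr.nd (nat_lit 723) (Tr.nd (nat_lit 721) (Tr.lf (nat_lit 1)) (Tr.nd (nat_lit 722) (Tr.lf (nat_lit 2)) (Tr.lf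 (nat_lit 0)))) (Tr.nd (nat_lit 725) (Tr.nd (nat_lit 724) (Tr.lf (nat_lit 2)) (Tr.lf (nat_lit 2))) (Tr.nd (nat_lit 726) (Tr.lf (nat_lit 3)) (Tr.lf (nat_lit 1)))))))) (Tr.nd (nat_lit 755) (Tr.nd (nat_lit 741) (Tr.nd (nat_lit 734) (Tr.nd (nat_lit 730) (Tr.nd (nat_lit 728) (Tr.lf (nat_lit 2)) (Tr.nd (nat_lit 729) (Tr.lf (nat_lit 0)) (Tr.lf (nat_lit 1)))) (Tr.nd (nat_lit 732) (Tr.nd (nat_lit 731) (Tr.lf (nat_lit 3)) (Tr.lf (nat_lit 3))) (Tr.nd (nat_lit 733) (Tr.lf (nat_lit 3)) (Tr.lf (nat_lit 1))))) (Tr.nd (nat_lit 737) (Tr.nd (nat_lit 735) (Tr.lf (nat_lit 2)) (Tr.nd (nat_lit 736) (Tr.lf (nat_lit 2)) (Tr.lf (nat_lit 3)))) (Tr.nd (nat_lit 739) (Tr.nd (nat_lit 738) (Tr.lf (nat_lit 2)) (Tr.lf (nat_lit 0))) (Tr.nd (nat_lit 740) (Tr.lf (nat_lit 2)) (Tr.lf (nat_lit 0)))))) (Tr.nd (nat_lit 748) (Tr.nd (nat_lit 744) (Tr.nd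 (nat_lit 742) (Tr.lf (nat_lit 2)) (Tr.nd (nat_lit 743) (Tr.lf (nat_lit 1)) (Tr.lf (nat_lit 3)))) (Tr.nd (nat_lit 746) (Tr.nd (nat_lit 745) (Tr.lf (nat_lit 2)) (Tr.lf (nat_lit 1))) (Tr.nd (nat_lit 747) (Tr.lf (nat_lit 1)) (Tr.lf (nat_lit 1))))) (Tr.nd (nat_lit 751) (Tr.nd (nat_lit 749) (Tr.lf (nat_lit 1)) (Tr.nd (nat_lit 750) (Tr.lf (nat_lit 0)) (Tr.lf (nat_lit 1)))) (Tr.nd (nat_lit 753) (Tr.nd (nat_lit 752) (Tr.lf (nat_lit 2)) (Tr.lf (nat_lit 1))) (Tr.nd (nat_lit 754) (Tr.lf (nat_lit 1)) (Tr.lf (nat_lit 2))))))) (Tr.nd (nat_lit 769) (Tr.nd (nat_lit 762) (Tr.nd (nat_lit 758) (Tr.nd (nat_lit 756) (Tr.lf (nat_lit 1)) (Tr.nd (nat_lit 757) (Tr.lf (nat_lit 0)) (Tr.lf (nat_lit 2)))) (Tr.nd (nat_lit 760) (Tr.nd (nat_lit 759) (Tr.lf (nat_lit 1)) (Tr.lf (nat_lit 3))) (Tr.nd (nat_lit 761) (Tr.lf (nat_lit 3)) (Tr.lf (nat_lit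 1))))) (Tr.nd (nat_lit 765) (Tr.nd (nat_lit 763) (Tr.lf (nat_lit 0)) (Tr.nd (nat_lit 764) (Tr.lf (nat_lit 2)) (Tr.lf (nat_lit 3)))) (Tr.nd (nat_lit 767) (Tr.nd (nat_lit 766) (Tr.lf (nat_lit 0)) (Tr.lf (nat_lit 2))) (Tr.nd (nat_lit 768) (Tr.lf (nat_lit 1)) (Tr.lf (nat_lit 2)))))) (Tr.nd (nat_lit 776) (Tr.nd (nat_lit 772) (Tr.nd (nat_lit 770) (Tr.lf (nat_lit 2)) (Tr.nd (nat_lit 771) (Tr.lf (nat_lit 0)) (Tr.lf (nat_lit 1)))) (Tr.nd (nat_lit 774) (Tr.nd (nat_lit 773) (Tr.lf (nat_lit 2)) (Tr.lf (nat_lit 1))) (Tr.nd (nat_lit 775) (Tr.lf (nat_lit 1)) (Tr.lf (nat_lit 0))))) (Tr.nd (nat_lit 779) (Tr.nd (nat_lit 777) (Tr.lf (nat_lit 2)) (Tr.nd (nat_lit 778) (Tr.lf (nat_lit 1)) (Tr.lf (nat_lit 2)))) (Tr.nd (nat_lit 781) (Tr.nd (nat_lit 780) (Tr.lf (nat_lit 0)) (Tr.lf (nat_lit 2))) (Tr.nd (nat_lit 782) (Tr.lf (nat_lit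 1)) (Tr.lf (nat_lit 2))))))))) (Tr.nd (nat_lit 839) (Tr.nd (nat_lit 811) (Tr.nd (nat_lit 797) (Tr.nd (nat_lit 790) (Tr.nd (nat_lit 786) (Tr.nd (nat_lit 784) (Tr.lf (nat_lit 0)) (Tr.nd (nat_lit 785) (Tr.lf (nat_lit 1)) (Tr.lf (nat_lit 0)))) (Tr.nd (nat_lit 788) (Tr.nd (nat_lit 787) (Tr.lf (nat_lit 0)) (Tr.lf (nat_lit 1))) (Tr.nd (nat_lit 789) (Tr.lf (nat_lit 1)) (Tr.lf (nat_lit 3))))) (Tr.nd (nat_lit 793) (Tr.nd (nat_lit 791) (Tr.lf (nat_lit 2)) (Tr.nd (nat_lit 792) (Tr.lf (nat_lit 3)) (Tr.lf (nat_lit 1)))) (Tr.nd (nat_lit 795) (Tr.nd (nat_lit 794) (Tr.lf (nat_lit 2)) (Tr.lf (nat_lit 1))) (Tr.nd (nat_lit 796) (Tr.lf (nat_lit 0)) (Tr.lf (nat_lit 3)))))) (Tr.nd (nat_lit 804) (Tr.nd (nat_lit 800) (Tr.nd (nat_lit 798) (Tr.lf (nat_lit 2)) (Tr.nd (nat_lit 799) (Tr.lf (nat_lit 3)) (Tr.lf (nat_lit 1)))) (Tr.nd (nat_lit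 802) (Tr.nd (nat_lit 801) (Tr.lf (nat_lit 1)) (Tr.lf (nat_lit 0))) (Tr.nd (nat_lit 803) (Tr.lf (nat_lit 2)) (Tr.lf (nat_lit 2))))) (Tr.nd (nat_lit 807) (Tr.nd (nat_lit 805) (Tr.lf (nat_lit 2)) (Tr.nd (nat_lit 806) (Tr.lf (nat_lit 3)) (Tr.lf (nat_lit 2)))) (Tr.nd (nat_lit 809) (Tr.nd (nat_lit 808) (Tr.lf (nat_lit 3)) (Tr.lf (nat_lit 3))) (Tr.nd (nat_lit 810) (Tr.lf (nat_lit 3)) (Tr.lf (nat_lit 3))))))) (Tr.nd (nat_lit 825) (Tr.nd (nat_lit 818) (Tr.nd (nat_lit 814) (Tr.nd (nat_lit 812) (Tr.lf (nat_lit 3)) (Tr.nd (nat_lit 813) (Tr.lf (nat_lit 0)) (Tr.lf (nat_lit 3)))) (Tr.nd (nat_lit 816) (Tr.nd (nat_lit 815) (Tr.lf (nat_lit 2)) (Tr.lf (nat_lit 0))) (Tr.nd (nat_lit 817) (Tr.lf (nat_lit 0)) (Tr.lf (nat_lit 2))))) (Tr.nd (nat_lit 821) (Tr.nd (nat_lit 819) (Tr.lf (nat_lit 2)) (Tr.nd (nat_lit 820) (Tr.lf (nat_lit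 3)) (Tr.lf (nat_lit 2)))) (Tr.nd (nat_lit 823) (Tr.nd (nat_lit 822) (Tr.lf (nat_lit 2)) (Tr.lf (nat_lit 3))) (Tr.nd (nat_lit 824) (Tr.lf (nat_lit 2)) (Tr.lf (nat_lit 1)))))) (Tr.nd (nat_lit 832) (Tr.nd (nat_lit 828) (Tr.nd (nat_lit 826) (Tr.lf (nat_lit 2)) (Tr.nd (nat_lit 827) (Tr.lf (nat_lit 3)) (Tr.lf (nat_lit 2)))) (Tr.nd (nat_lit 830) (Tr.nd (nat_lit 829) (Tr.lf (nat_lit 2)) (Tr.lf (nat_lit 2))) (Tr.nd (nat_lit 831) (Tr.lf (nat_lit 0)) (Tr.lf (nat_lit 2))))) (Tr.nd (nat_lit 835) (Tr.nd (nat_lit 833) (Tr.lf (nat_lit 2)) (Tr.nd (nat_lit 834) (Tr.lf (nat_lit 3)) (Tr.lf (nat_lit 0)))) (Tr.nd (nat_lit 837) (Tr.nd (nat_lit 836) (Tr.lf (nat_lit 2)) (Tr.lf (nat_lit 0))) (Tr.nd (nat_lit 838) (Tr.lf (nat_lit 2)) (Tr.lf (nat_lit 2)))))))) (Tr.nd (nat_lit 867) (Tr.nd (nat_lit 853) (Tr.nd (nat_lit 846) (Tr.nd (nat_lit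 842) (Tr.nd (nat_lit 840) (Tr.lf (nat_lit 2)) (Tr.nd (nat_lit 841) (Tr.lf (nat_lit 3)) (Tr.lf (nat_lit 1)))) (Tr.nd (nat_lit 844) (Tr.nd (nat_lit 843) (Tr.lf (nat_lit 2)) (Tr.lf (nat_lit 0))) (Tr.nd (nat_lit 845) (Tr.lf (nat_lit 0)) (Tr.lf (nat_lit 1))))) (Tr.nd (nat_lit 849) (Tr.nd (nat_lit 847) (Tr.lf (nat_lit 1)) (Tr.nd (nat_lit 848) (Tr.lf (nat_lit 3)) (Tr.lf (nat_lit 2)))) (Tr.nd (nat_lit 851) (Tr.nd (nat_lit 850) (Tr.lf (nat_lit 0)) (Tr.lf (nat_lit 1))) (Tr.nd (nat_lit 852) (Tr.lf (nat_lit 0)) (Tr.lf (nat_lit 3)))))) (Tr.nd (nat_lit 860) (Tr.nd (nat_lit 856) (Tr.nd (nat_lit 854) (Tr.lf (nat_lit 2)) (Tr.nd (nat_lit 855) (Tr.lf (nat_lit 3)) (Tr.lf (nat_lit 1)))) (Tr.nd (nat_lit 858) (Tr.nd (nat_lit 857) (Tr.lf (nat_lit 0)) (Tr.lf (nat_lit 1))) (Tr.nd (nat_lit 859) (Tr.lf (nat_lit 1)) (Tr.lf (nat_lit 2)))))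 (Tr.nd (nat_lit 863) (Tr.nd (nat_lit 861) (Tr.lf (nat_lit 0)) (Tr.nd (nat_lit 862) (Tr.lf (nat_lit 3)) (Tr.lf (nat_lit 3)))) (Tr.nd (nat_lit 865) (Tr.nd (nat_lit 864) (Tr.lf (nat_lit 0)) (Tr.lf (nat_lit 3))) (Tr.nd (nat_lit 866) (Tr.lf (nat_lit 3)) (Tr.lf (nat_lit 2))))))) (Tr.nd (nat_lit 881) (Tr.nd (nat_lit 874) (Tr.nd (nat_lit 870) (Tr.nd (nat_lit 868) (Tr.lf (nat_lit 1)) (Tr.nd (nat_lit 869) (Tr.lf (nat_lit 1)) (Tr.lf (nat_lit 2)))) (Tr.nd (nat_lit 872) (Tr.nd (nat_lit 871) (Tr.lf (nat_lit 0)) (Tr.lf (nat_lit 2))) (Tr.nd (nat_lit 873) (Tr.lf (nat_lit 3)) (Tr.lf (nat_lit 3))))) (Tr.nd (nat_lit 877) (Tr.nd (nat_lit 875) (Tr.lf (nat_lit 1)) (Tr.nd (nat_lit 876) (Tr.lf (nat_lit 1)) (Tr.lf (nat_lit 1)))) (Tr.nd (nat_lit 879) (Tr.nd (nat_lit 878) (Tr.lf (nat_lit 1)) (Tr.lf (nat_lit 0))) (Tr.nd (nat_lit 880)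 (Tr.lf (nat_lit 1)) (Tr.lf (nat_lit 2)))))) (Tr.nd (nat_lit 888) (Tr.nd (nat_lit 884) (Tr.nd (nat_lit 882) (Tr.lf (nat_lit 3)) (Tr.nd (nat_lit 883) (Tr.lf (nat_lit 2)) (Tr.lf (nat_lit 2)))) (Tr.nd (nat_lit 886) (Tr.nd (nat_lit 885) (Tr.lf (nat_lit 2)) (Tr.lf (nat_lit 2))) (Tr.nd (nat_lit 887) (Tr.lf (nat_lit 0)) (Tr.lf (nat_lit 3))))) (Tr.nd (nat_lit 891) (Tr.nd (nat_lit 889) (Tr.lf (nat_lit 1)) (Tr.nd (nat_lit 890) (Tr.lf (nat_lit 1)) (Tr.lf (nat_lit 3)))) (Tr.nd (nat_lit 893) (Tr.nd (nat_lit 892) (Tr.lf (nat_lit 3)) (Tr.lf (nat_lit 2))) (Tr.nd (nat_lit 894) (Tr.lf (nat_lit 1)) (Tr.lf (nat_lit 2))))))))))))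
theorem mini1_alt : Tr.all (altChk idx inv RW (SW1)) mini1A = true := by decide +kernel
theorem mini1_chk : Tr.all (chkFc idx inv mini1S mini1A (fun b => Tr.find b mini1P) (fun b => Tr.find b mini1Q)) mini1S = true := by decide +kernel
theorem mini1_run : runM idx inv mini1S 1509 0 [Mv.f (nat_lit 0), Mv.f (nat_lit 1), Mv.f (nat_lit 2), Mv.f (nat_lit 3), Mv.f (nat_lit 4), Mv.f (nat_lit 15), Mv.f (nat_lit 16), Mv.f (nat_lit 17), Mv.f (nat_lit 18), Mv.f (nat_lit 19), Mv.f (nat_lit 20), Mv.f (nat_lit 21), Mv.f (nat_lit 22), Mv.f (nat_lit 23), Mv.f (nat_lit 24), Mv.f (nat_lit 25), Mv.f (nat_lit 1508)] [Col.a, Col.b, Col.a, Col.b, Col.a, Col.d, Col.c, Col.b, Col.a, Col.b, Col.c, Col.a, Col.b, Col.a, Col.b, Col.c, Col.d] 0 = true := by decide +kernel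
theorem mini1_fix {G X : Type*} [Group G] [MulAction G X] (g : Col → G) (x0 : X) (hinv : ∀ c, g (inv c) = (g c)⁻¹)
    (hRW : ∀ w ∈ RW, gw g w = 1) (hSW : ∀ w ∈ SW1, gw g w • x0 = x0) : gw g [Col.a, Col.b, Col.a, Col.b, Col.a, Col.d, Col.c, Col.b, Col.a, Col.b, Col.c, Col.a, Col.b, Col.a, Col.b, Col.c, Col.d] • x0 = x0 :=
  mini_sound g x0 dec hdec hinv
    (fun a ha => altChk_sound g x0 dec hdec hinv hRW hSW ((Tr.all_iff _ _).1 mini1_alt a ha)) mini1_chk mini1_run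
def T_a : ℕ := (nat_lit 0xf82a76a0343c6d29b29dfeb2d5c558f0f7fd5c70ec54314e37f0d34f170bea14d80ac50b120c2856961448c432277997817c5e263cb28a420f6161ab738b6f5310f3be0c91a0f2941a4d723bfda31acf0e0e66713b787bc237aba906054bdf38654862103c217b0c421d5b807bef951466633cf42c5a838413a51177b527de33fe951c5feb4d06894434ea8b70e38da5c40c329dcda2d7181432d44faa87dd0e7c38a330ee483959a0a06702634c1050efaaa3bebf0a14b47922928b54eb559486d6e23e3bfedd537398756cf43aae2edac70e0c7772bc4b1be07931826d835192a5d82118118c1c18024ca6fa986f4fb884038ca5792a0df7e96105626744cecb406018acd0f460acb2a6710b6df51d759096c9467099fdd1d60942641d4b70edf5f4de438726a24e7db47f36f1f135266616faf8e7d90d8ec77d168a635f8d0fe386f0c06180f8a480c59b4eab44d51e91241235aa0b17857f3a19fa181182e0be3ff9ce6703a96c0234bf22ed728f2c49c31f115ddaf65a75ebb5aa9737497712ec00cf42bd7cf46e88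f3704d3918375d3238b84e6537c6a9cd3f8007544ea0284e8fabf9a6891669c81d19e9f9d9c6b1c6a8239167375c0e81576407a3f737852525d6bb85029af24d9d80c4c9f8a2a1d3deaa04817f04d25385e7b691ef477de2a01ecd61ca619bd12994679f815898a1bba022e8c954e90e670497d49e651369c8e0b03d7941b5a02d331961b348b93ef700b6d8f98c39cda8062087741e8b07cc3c9477357f588bf6eba2d1e453a36c0dec0c5c27a3ec511e62df4399c6667045e81c6219261dc2fe270ae447f7d8f8acbde72f9a5e8324288d129af96b01d2f446f9df20a75662911366e0456062b74e379e9160eb7a1844d17b15cfbfe6cac5aa66b1c3e5cc4a2327be04eb9b8fd1b100e970bf058f68443f2adff2d02db70e1da7252fa976de3d87d2c9ce76ef142b0445c0dfc776c5ea272f7d3854aab86f987822b3c077ffc8e32182ec244e1fda138d8d81370a59b84de69c8471580c74c313fa974f64c7aa7edf2dbff2c9fba120e9a847b73fefffe4b4d63d374393544406e883c7d81be0b14c13701401778a95fa842bd706252ebaa2d442de5fadb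776bab7552ef847b89200c5ffb290ed0c79ba59547ee83e34a8ece9ba07373b57a0e64c16b54651ec23280fe7edb0b7358f3c73f2ce1e2fc84d28f5d72a055a567a23904140bb450d58213ea00d6695db618ac4b4a3f6a336c0ad9ced5b4dbe315b6394b57ff59b679f14ed4bdee74a3f0541a85f346545c32b9e620c25b96f3c3573d670288a13ae4514837964dbeff719e5f6c83bfdc482ba7b7fcba6192368ac2fe07e2581cd5b44bba1feb94d0805fe08fd0f63bd8779c42f637965d6b5e0ff0c23d52d636a2259c87b31bbb264576100160b57ec62ebc647baebe6b461a93d7cf6101c865c58ffb5f31987670a7456c0d91f2857b01ce42f2ea518bf03b8d85abb174081de6b44eb7a4990f4dc4e878d5aa507cf393afdffcc5e456a6635409bd130c0f348ad05de1065c0385498526c57602e532b4e3e80537211d3a720c48703d57c5b8417d4d94218364f0d3623769d5f4c5e0b79b04af1959f6e1a9bb71b7ec3348b415b2c2f3853b7a9a4b01b2f60edd6f5bd832851fb4d6b5de29063ab9856242fd4d4cb01f8fb80dfc48c30c1650d164fba2e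27d2cef7e266f52586ac8b801de48d776959f09c40470c024902a5348f00577b5db939aab91da942992512934e486c1f5750c6aa046ed1bbffbbaffee9af3dd3250a6c0f43ef023933656bc56110b2fcd08351b2e84eb7135f7aa3af10234c95c7547746f0471d94e495dd91ae3f380b080374db6435513258c75911c43d1fe6c7259400535106e16e55aafb4a9acbffd7ad971ed2fafb551fdfad58182dfd90b4844612aee487eeee1e72ea7cfcb8c6e8a9fe9b22d0503a7e7a68ab528fa7061e488681ff22722d10636318c89e915872d0939c1acc50304ba3e06f4d795857c67f9037c2301ea1b14585ece121f924398bc322a17be0bea8986c3dd17ded22ec8dd7bb34f90d7696c7d7b203417211c74dc3a694696aa64bfe9a4dc35fe5aa1d81eb5817d2f878b06aa97ad8d8b4722a3ea41007969b1af764ce2e0cc40ce0176209ef73ee9ab9f540c832f3e0bb6c35487e0ed0a0c465409ffac1f8db624c406605950344a218435b2eb62edcaca6e33bacd0a69724ab5180d3a1f1141c0532814bdd332f2d9fe2406a99eb1aa09486f42d89319162e02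da98c54b544dfa42fbbe565ab1eb454d9403fd3137ac21914c05b956c1f5343a988a1ff40773f7edf427df4c550d097671562d49704b92a585342a7efa19d33e738162ebb8bf16e237f7e71a1a6965a87447c4f9e4bec3012030adfe78109713427622f212ad2cfd7327f7cae5aeee72ced83232f31e99a41b7111008622350b0cecb742d80d788382efc6571710a165f355bd503ed6a2f988d4f284ee5485e2e199e600256573d8cfce5bb0521578e00d6818cc5f2da5c5df27ab156c7bfedbe329b8040d20ebbd9d9aee10a855935f549fb16561f520854affb6733b51760bd7bb0d3ac24ee4cb7ff092c04c3b8ec64f66e05d44dedf23f0ae3169627265e184eeb267e3c0b2114fda392dab6858c0dc378ad7b70d0d1230158c251293b71fca00b816af5028c7b8d2cbe9f13b5483f7c2124ae5f44b0ad50a9bad3812df9cefa0b73890d2b1af97d8ba72f2309f8c175a4a886919f1c636e27afdae3c7b9a6b3dd38d20136e68d587ef02d823888d8c05ecbee39f70c18b9e64a5cbd88eb7203c446de882ebf0255ae0089ebb489724cec8ddc2b8dc0e3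829d5d2ebc91df8bb867fca527eb78d8427da7542cff006a8b0e4288addc45f18e5d56efd89051c3438750b6234e7abdb5b32dcb5e3ab5c4ee939d9db841899fb5108cd363445fe9ff96d09a34ee1de96c4432bcb39a1c38ba780a5351b707f0c484ae57028b998c03cc5e6f61f3137796b407352d613d94fbac32966b9fab581ab375eabbb9f26cfe68b832e07524de843d4a5366c80ef69862697912f043c87546d98735e991749699a277c0f447d92c42feba4581105f1655022ec2d843e1593ac17b607e6c827c76ff01c794c0c10bb6f613e5e9aa100a6d13f4f793b11c9f689c7fb94234458c7aeaf1dac9a581734552e4f5fbf79747a51d62c61e648c24ce65676986cc21fee56526f6e5f6b82d7a14c83bb7853fa77c0bbc835f427c5444d57b7b0571f353b99a0f198efd9653a243d77d14fab9e2609ad49c3f91550e8a2bf4322cd4be9363a3828ef49041e2a4228ccc6e4926ab78cc6d7bb4bd7c15f90a75502af85a3b10b017c85735ef9cc4b203b4107143ba28019dbff55fbf694ed8eaee7d8dc2461874c9ad6558db6c6e92ae1cf1be70d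6cf35480008c9bbf580867912158829d45b8f081de5aba920790988915b9a01bbd80d638c5e26d22d275c32e6e219025d0e45ea6375506fde1e0f358c9e717ed20ae5c60973c65d07a3b6a231a6c97ef9b11af6885efc9bb3527b4e1a1fc8148b5147e36d7cf51acd5528b467ed5339fc2e7bfd112cf34faeee71c4f01370825141c9630bf7ba7adeb470c2c4709ef0a9c9869244bfaca2b97422c8c622bd3d1944c3c2f51c145223e4834fe1788fa085f729cdf951cd596db870a705763efa26ca38ba13072dc6c1c39dc545260c944dedad5535c746dad45a2020a2454613058dbe34c5678fe51cbebb5127c63f35c419cb6faf22206e9a48443c5a4293f9f724258c902384e7a830eb0b707bab504b74ddf5bb34da8cb146d7534943bdf79be1664100efbc4f4119a6df0734f415363b167ced3e36b73c99dd2f6ef822c70e8fd51d9228cf50fdf6417e2d274f8c4e4149fca2755ac17ba0044c8e69a63002acf345665831350d3901720c440419561c4f0009ef130fac51dd217abee903806836a366f6b7e24b231fa539c6aee058aa07e62231446b50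c78780cca56274ccc02f6e9f5ad49cceb0bb0a5b9543380f3ea6ad36695e42f270847fb1905bcc4a4e84e5ffe8a6956035a2254d59f1cc50ccbfb92e6c6edffcbbf1306cf982f85b1c73d68d3622eaac576ef1083a4f31b873a4a9619bcd041963fee962235014a89ed0f44d82c73793fd67a7988d8b4523ae7fab47abb05afc8d7ab56a6579965d8048556824e8830f800a5594ae67322020d6252fcef149e110aea521f70dcdddeefb066d26e719057f92fd50288d8ddaccdb3d149e96cd053b3896cdb0d93c5d2dc9c8a79e025f6deec8f31702a783feaac67d8a672859877169cb3932a0e382c824a57d0238990b58a531669524bcd7721cdb406cade4c531ac9a9f7a65276886eb1e4bc5008108485eb1645cb0982f15721b92d9e6f09c770700d7e3daa6cc70a3a2755815df083891a3de487c2ed3f7035ce36740ca71419fe5726f204050cf7d393a8432c3a96b7cdb6078baa95239cdf8ebe95e8a08f04fb5ee022e934c1233fa7913a0895096da1984bce7cb30e12c30a8cde6bbb48500a322bc485ed9f5017bb659614b29e7d280ac052978c32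38d4285ac8fdf01a3d687b46c537aa8f6234a6c150b989268adb57ef2417e7c73753f3f152e761e7409c1c14065f18e01a6fcc9582d89d753753c15a24b160d86ef126efc998a42cefab3445fcecd88bc649b3f3f7081d71f20165491fe55dd63292d4138c280d34183d4c24ecb2ed900f9e1ef166cb55bfefa494780e9bf7428d9ff50d1e15d66460004cb18697edef12954e3e987149422f77737aafa9b6ade52b76833f991fb928ec9b78ebb1790ac4353eaf300778df8630e9ead95df6c8a5c994870014e4e2b6f4019afbb76f2d9818ebf6bf2009004936746af1f1bb43a58e26dd735b220d1c69fc535466869ebaec8b7ea7f0130057c70fd3769dd58321c25ae1a87029a538d2ed313a18ab78dd4d62893ea57a9ad6c96f918aeb90210aaaf415b28aceb1ab2fc6e3608e5663daf3cb22941422378552d955fff86af6e8f25f5a094ce5f5dd65d66f709f087f9451d8df91ac65a554274f2dc919e3d84a8a5683bcb1349fb191d39c27e50abe396b8236ccc3da69ec430a6a5e07fcca8ca2b6169e4fd0b107c78e8e16b4ee2b5d0d92c7df8f9244e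9e685cc02ee3c7de0d1781a61f71f63759431445b3b11ed6063ec3335c8b37af7f0c17f6cc52955261609f5f3349b53e4a8188cf760783582f93096aaf86cc7c04df69060158b1d00c6d50a3e5ce532ee056316c8ed2cbce186e56adde499501cee650c9d3a97c9d38083ecc9dbbd2e5c9e95ff646e7f7cb2fb517a74b2dde66e721c43d0a961cf28d2d31c1fed5b903d02f3c5831f4189eefc2837ceb4c36830fceaff304f8e79d423a34b3f3fce75b4f04decdb9870a36926b4f2f87b7ce060be70e86f3c595637de5f8469d95fc79373a4c4e91c821c620042372c61dc200a309f92a8deae9d9c3230355af6d9816cebc4c96440b1ba4fa5f06547eb882695fc6e3024ddb91efa54c3eda9f55b75510bd292f1e9de0361b62fb43d95b913427629f43f4920c4ef571399e470fb1fb277412496fa33fa9a88d84153553360882b3f80cda663a4c4560ce4947304a982ea4ed00bab4d1d9efa7a6dc2499ca1959f5182e37400d42974c02595d8a81d318e8cd63e97ac7d0ba6fbf536300de2e8ae8b41be3fe9a0a549cdb591b5d827da58dd1ab2397d7cbf50918655fae3cde2171601e861bfb75d73169b9969be2c07d2f07a6d9cb6b2b3afce5dd5064468a956ba9dc574d81ebb4a09999d545e6bce48e10cae759bb1ee0bafa996ea167e6ed1f74c5b9d0f01c0de65ec16aff3f8625358d)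
def T_b : ℕ := (nat_lit 0x2823888e9bdd36c7cb81f9ab355ce0e293238d03ae3d641198cda022620b28978c8493505c746895304e57e7906b07e99b836c8f4f96e681a9747cd21b7c5ce1c35fd6cba8d64e448d0b8e910936fcd7b637e2fccdbd7b352d588cfec800eb790007aeb92472e181dd213f9c3b08d7e0efa24b9bbab143e0b287e2faaaa0afe7fd7aec008c9ebf9603567db65cf926ae8873f62051c2579eb088a0002c32aab4c437ef18c1d05bdcbf7f541fcd1346e3a17d9f883babab52906fbbeef8d7f556f8b59fcf160e08e1b6821dd329bc628f12e7aa4005ffd6f3b4ba83c9e63c7fdea2b29a607a0f3d98ccaab867f3cbb3ee5cc8a91975b8ef77b0760df5c268f08f8715f61e858eec35162976593ccf7286dc57fb957cdcacb30a707475756f25ac7ed0bdb1de5b8da724ab51690621117e9e2780300a7e5a047c41a3b27b013fdbf9b3dfb9f2a3be8c770b39dbb908fcc490fe01c096090d411323379efa91d2501b0d86080c6683cb64d5d69c5517618b1e0bac5bf8d84a21f51ae4df75c114be1529e28bca27ae19564edb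b60ea755a5657b46d278c20fbb914e89cd7a64da52f8dc2407e0ef528a451f39436a53f5efbcc8049075fbd764c906fa370b7d37310280c1f1c074f14ca5363e88eeaa01b53fe8de188b73c7b62313399403f01bc01de66bb38b6182f2492b4a4e62e5318bc9351c0dbc431c8b3d2ebc5db9d0bb4681356a8ae850422ead2c6644b5e062403b3bdd72dbf293f9cfc7137639590a3d7adc3da2d6c9a4b42435fd78ce1a852ec7e76505ac2260ae60a3fb4fe93c6b345d008b71573f7b64cccbf09ee201d42d7f652e12f3a75f6fac3eb9f2c758f0bfbbb498b34ee450acfd30baa93489f5b997ae8f533cc4bf6810a15382a44fe96642c946fff5a6d44744464edd273b2f1fd1e9b04e082817d0a115b7811047d23bc6415556d578539b7d266b0327e18ffb9d537ccaa67dbb39ab30968ad615ec363528c4c7149294880cfdede5627d3e725833026debde75dc5b44c32aa2abeeb22a3486fb6cd8675e599a4e96fadb6dbfcf333091218d11382a30d1a80e88505c445c03f256e03b2c44891fa4633fca836119adc086ca919535e07aa7321cc44f0030959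38a2adbdf1c68e9bd27972a7a43427fc91671c41d6c148590f15bb5efc737bc8ddcd9d7542fd632fdd6ef46677d9d3dd3c383cd21a3c2c88c12f02fcc363f5b0be77d13bdb6d22c05f953ba4729ca7a95c15bc123e1adaa5c5057f37ccf7dbc081ad7a2614f3bf02d80406254c736ab1a21f4dd6d4b5cc78c3d58f9c150f82ef500852f18102391afc94a41648d9142e54cbecb95056f46a80317c7428e0edac83f44b714db5ec29654482e42c21aa25c72f13658967fff9ab06928101f89a22b9ed41aaceb694c4fe3ad18504793cbfc01a7d24fe190eaefeae7f5bc1a716fa4c9a5e01e7dca7dbbbcea9f05b8b32205f5f5ee0c97baba6dce255ff8ddf9193ffbad47ddea71d693f2965b2f6366980283e94f8efb3a1dd10ecba4c11afb6ffb3be66268c2b6ac86b6ea7c67d3bb7cd02c1c7b037f6f45f10bad981473d7db382b56bacabafc2d21169744da8ab232968e8abc9f53435b51e5eb2ebfcb78fbeb3a124c271c50ab2d29d54f53b33745a6a87a6d4dd010aeb767e145d5e025adbbadce62e9a25a45d1eaa417f50c28457c5bf7d722f8ff9b50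376dc576d2dd625e0748f305fee6633a90cda5e3701ac8006a7a3f6316ca77f342b9de7ff0087873aa537919a6ffa72a4276bf06b407abfc3ea9b2177bb686ee03ba9c334f31f64c9fed4e121aa876759e41a85ce9c6acaf6c3a96a435ff8580fb38010a930d6541629893e27ddeb5c6a0aef1e1161063a61f410551e97021aacffb879521bcae10332d8d7fbebe4676a0c76bff1d83e0d7f5cb7dabd91684c564752835823f00797c6e1eec8e4da4afcb35a441f01994c47df495d884ef9d94dbed26b12cbecac0975de7c826c2bbc2aba94d087a30be1d704d86daf4464b1bcb00cb6999e2e682feffcc41c48e0c36bb7575eb34810ca15b7de93e095ac885bb096343eea1ff5b766151e3ec44a8b9dc716b9e0119e8327b78dc5b7f44175e87bddba07e319d4693d41a2cb72942d789d7786d6f2218814d7f4fd29ddbbbfaac2f5ac3c8d01c8409e7f56f51fcc488313b28b2099dd0059decd1af96528d8681cc60333dbbfdbe73a8d8fac521e9d8832414163c12127de5ff39366d179686375fee9511a3335f701594cf05b33a6c3086a92e8a8e81aaf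5a9106a5c72b09dfbbca587c93a0e8f9becebfdd56f8b00547dea359a582c845982ac8ff766255601f3187017ea63fbbc1f284fc220b8d8f9d738c25aa4c43e38c1a7cca497e3dcbd2329cc64a148961183d859197c6a6019a5134027af4440407fe5f932cfd3300127f30cb13d5dc15df884cb5008d0aa709d35d6208405d7fed0cdea9e1428cd618225f84a283e14ff333235fe62c343cfcd6e07e987bef521658bcc3b3ebbfb3248de08aeb6dde927b5a0192445db9e0c98ba0778f7a473de01cddb1cc2cb67140dcc54c2cecbe67fc89419ef3e70bcf11ca474d924db05edcd4ac9134da78e40d2562199a4de0b01d4c24b94270ca5f71d8966b1019069511afe3d122102bd597d09d121d25c46a7bb0f8535bea3e3b17d0bad1a0faf77fe9bf9d3d9f107793b6140687118a22d264124950ea9eba2193487581af631f6d00b0707f0dcfcc119b1bd954fdc0cafaf1498a302afc07df8656cf2b66c8b4f38882370707ee471738263c6b342767c20db493503476fb6a4c7f2e7998c898114eed6a6400fd5987d1576d446e9e1b94d0954d9cb3afe5ac0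3566882faf8c392a836e4e3b3105cf5809fddc3acf52259a4b5d7776afafbb5cf8711e920aca230aab409769d46864cee322c229745d240bdb0a85d82bf0db50145f348f02c90e1722c78cff854d1d5bfc110df5cd2378819b70519dd20fe857abb99253343ec31c80cadd7caf768e13ca42c831ccdbc0299b679a052416bbf78de27da70a148f28db13736af9d64054befcf1d24d68ca7de884c8fb2a9cba4e2dbe6c2acba4307c7c14f7c9fc029b90407cb1f5d1ef67e8348b9ce1d11f552319485dd4f7a095e02f07301e443ac8c4db8278cdba973e0965d01d134a194bb47a2016d5f057d7769fdc3531cc3fef9cc7ec38894173c31fdadacd9c32f8ce73711fa3bea697e8cf4e81720a4bff5107a628e3a4fdc34748844ebecf3dd51e219ff85a74e518ea567cbb31b933537688eb97c3f6739369451ded0db76040cc6f85e7e1a089161f88d363d8eb530130ce5486d332300fbbd0fafec9a5c593f33390cdf52b1d1a8b1112839996367088d780787e39a2d673b808b73e3b28db562c991a1c29980748112b5cf05e8981f7deaf438500b47f390e5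d16f42d2b27e3cecd45b441a7c48f6353800cec83184e598a32176bbca416d75071394599b4055ebf02e20b0d79e67c2efffc03536e09f490411479dbb6cfc60aad404373307f7e0ffcdf0e9d9d95a537745092705227b430579003e679e52f5aca0bb6e23850edb2f908f56bac281ffccb013a5a68df85f26724a8803fd33e14db89754a162148d221483466ac570e279ccb776934ee2a1b77a39f19683782b9829f6b34412106660d1561cbc469f8b0b261ca25f9082c197914235bc15f28c7884af4b2a91c38a6bab1345a3628c639edaa5b56de601b0718c8387e6768f26ffb1244af895f3ffed2fe4debaaefc1376ad82161d0262cd367129102a2b0fc7dd0542dbf49b22c3b365ee484e104ee5f49d1c2a685c7aebe73eaf023882974767725703126248d6d48ef64ac8418a146ea04e43c9dbd99b99126a760c50283f29db473025398fac1ee61704ff5127974e410511f379d709964f5b9e104b907128e4a00f2764925d6bd956cb135119cd56c86af1e63ac70deac5a50d5c34faf639d8675f8689ca685df6abab89368778c8b488b5d83e2fbd1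e20a46a75eb65d2f0511677506880f848a64807785ea83d9218ad15a17b3aca0655dc0ad6a317d041feb83b6f9ccf26a5af08a0c3625d3f0adfc2aab9b653b6a1e698d584250f65130391334f3f37280c9b1cb875798f90dc6bf16a116ac10dca9f6fbe170c58731b43dc87a475797a8654f0af7fa9890910d74ca5cdb86faa88995b1ffd5087bb447f4f946548efe9e6cf55067ba42fa0cb189e626f58a5d4f64e400e147f6e17352ca7795ce5657ad69853d2c79024b828768a0cb99a85e27dc76bbf2805085a76c06537ffbb608358dedaae0447a5d97c11b33e53a8180f01ef43f0761db79cd031268a12360832552ed640cc15b587e0c280bede6a50d4a49dc0ca8829841c42e0bacf424bc76d3a5691f3b8bc4ecf483239ec84b327fc4cb94ce8b87cdbd2260568b8960a9ebf192d0a5787c8eb594e268fd1aee10db04445a29b30efa6da45f7716b58bac3aa425d907be5003bfa4cf6f07b0e865fab5f23ce8712c0ee6ad477d7b2f24f76c91e5feff93e43d7db16d4dabdf1eac0a5609d4ebd169e5ace81693af9fb3daa7d1b7e49aa8d24d9751a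c963d5a7be4b5fd232ac2f0141f6b915e37029da7a4a97531db10808747aa67f59c5736595a8e4e077be613dcb5567a5c55e2d0bb740ca2c6d60ed84cfb72dc08607a029033b6598047f56fba2add7479c8001b3db35d2b3c8401248c491550e0cf263a25e728307579410b8b46da3c4f9299290e39f9c69ef5c5f684ac89a84d17a64673334509263cb8d0cd9c1d236a7087e16c9c00c338ec1ead3bfc52222c0015e64aac2b6360f49c79e52377a569443410c44227628fdead5f649a0b808b534ffad6657b8ad5805d225fe08e7edd92aedd0b557b6398dc22990b8e292692a1a58b1a2a0eed34bbee98552edee4801e8741967527d00c70b79ce35a577bc9fca90ffd57fc09d814e097c563c44e351b4bf8cfae865705fa53dbeed6896ff176c17362dc76795479af16ce1dcc36ba965ec442bad2aad239bfba0fa47753745b8aae076f4574ebc06a766b7c47bdf8237597f79277b16dce26d7d3b96462d1b5f3791d02eb52e6230208ef4ecace1883cdfd615a7aa470a3b2ad39f11ee40e8f7e3057f099aed8519c9c2cb826060aefb29e48c37ad24f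8eded71ae85afae680c27e39da505461a3ec2058ebed8822868ad36d8afab85cd61030e608d2ba53fa98969d53bf8f6d30bcdf59ea04cc08dfdd6877378828bc327907683323ca6894e51b5106dc24f0f7770f36063649fc8a62c902b0988c637987b3af5dee0221317f5c00caecb182c721d3c4d0f31a7c744f2229c641cc7f90540e3ade0af517a41d5c61240664005eaa9cf4f26a2a584cca3614b16458525f402dc4e7fdfdb875fcbbf3a902f03e57821c79b358c960a4de3d998e44a6bf47ca75413eda73d1459336314425f464b6f2e6a6e81a6bf94848078571cea7ca140835755215218101f028ccc1d307e99802fb3b92d4cbfcba139c7a609228fbfbae62e7465facc05d3ffe954f9463419eee34c90494bd8b1617acae0dbc3930266b6f046360ef533eb62436c90d95f08b4bd834a788653f021d4f60e9eced23bcf282f7e3628f12330826e488106daadd06145dc5e9a09ac1df36a960a9bfde454783df9f40081e503bf4d21d72133d3c72058eeadf4c55cf338158962b2dc9cfcdd5a62d672abff1e623945d6cbf91466a1833fa8d3c64d3793de106a38e3fb5ee184b41f5dc75bbb27e0a499300c487f00c91ddd669a3ab171134a7c7afb36331eef598437f0e4d3449ae8e2f38153d7564cbca7f440df54a6331a987baa720ad9e8f3233a804d72ec3320fa8a32b834b3b)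
def T_c : ℕ := (nat_lit 0xaa670b9fd1e2a2a5e7bb7662dbc84bebdb7f4d2c5fd31304720af5ae378517f0f9bad20d326ba8a60d3615c1c42a73feaaadf776e77dc07ee90033d47d67ec5dbc78f2e74142d3cf3b5a1c4d5d149c6b16c9ecf7886a836f3e6f24017d6eba4707d8fd7f0552bd23c3436d8c371081fde4becb2a53a5993e941cf31b6976dcce7ae07242f72fb58852e1ce43187ca47fdce1a4b5b8c1c5418e97bcd2066900d04813fdbafb25e5a12bd7eea346ffa8521c80950651075c5270c1ba09bece6dfb9e50e52ea85c2639d73f44e70ac0fadb82c348bacc12ea1a95d172a8cc02064d9d813253be57a43fad67a832cc23ce22232b0e384804a0957f670938a1e27f4b74f2138b66c3e1d5a0b4fae1364af6c85959afe9b053b7a0f6f33d03dda437ee6a07bd463bb3d42350a40b97cc41ae97a86f5e0f42f01e51f0d45ea48f832bbb8c1d928a616c85b0ad411a176246eb2a82e14680145e142544d5d235d215d314be3c09137b1a545a2cc5e7c73b4da40fb9beea3503d25c33621dbd90777cc49aa752e43162d542562b7a93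d3797b975b356f1dabded5b6bc7192679bf2826a1bd40b0da54f51b66912c8916a4418be6a6c97e1043a03345a32fe81c7373afabcf9db1a306930bde987ded9fb675e7ca2d8ae50fbd0b7dbee609fce07114b48b46c180ce2ad55c4ac82d4f117b5df33b2798d3fc31e890ad8efeac9a448753269cfa54732e3adcb56c93e5a82d91e45ba7f0dfb36ce20c60ca00a524a50a6f5cc296637feb91b0ebb84b0f4d2b3b03beef7b39c5a9feba43986f45b079b6a620c8968d82ba5b55965a1175c98827c0d2c5d1e76c5ee8ab3c52bd97102515254393bf1c282a0f95f4a35ab5864d752e6e401022ed140e9ec40e17220d511f92eb32aa099c77906ee938b0d89e6d667ba4b6207acf19eb1ce80d424e66218a7a4c216869b5cf38ec9e9df5c70487fb30d51af5327bcc56d9049f973c1a7f1a106ebdda8fa86e980b79cc511c3a043e23ed32144b2d0023b6c0f0658eb01c99bf78eb2281e1f9b2870a055f43242c620020e90f574e3bba5b17630fc89ffe66202a6a6e1124c50c2bdaf0135dda761b712e3b915a031f73480d3c2937a6ac852aa5b4dd5d89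bc1f861fe98f8ac997798d96109a9c92707a5dd1c5d8b103e76412952fd48eade945f164192c842ccfa133ad3604e1a447cf41b83008520066dddbaf623ab4a631a3eb8cb4d68581938e7b809d376eaa3416f61f00398b806736db66c9380024844959d02cda959fa8ae4aa8a3cc56af3b2ddaad05b318ff8e86bc0c60d190663009daec6b5280f9e9951f9ab14e2e21056b343460813fafbff08cad79d9f309854bac197ebfbeb2c59a450c2fd591a37a56b92e6c04514f568266c065d00caebc0f7aa8a4ecab573f8f8fcea6abaf9b0e6baf7a62560384c672c3d81fe802237c65be319c2ed9d64a012a83b70cf1e2a70d852781782df71115ada5c416a8e577b1b20e7ba28e63b3fdd16a45c070aa47892c3c8e078fa5a71ec2a9a4ea064f97922d3540c8e6f750a116890fdfa78b1e703a13abdd4e105c2c2836461c4dd1f742d08cc0edda49a1ac564dfa995af74ede24f6214effce9e78b3bb0eaf2755c00b62b9b75b108e228d07ecab00603c89ed5595bfddd18d76feaaaef931d59bbcb2344d5ec05382e012259c6f4d347bb26ae69bddc4026e8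2b8a72d0dee85136152f9bf628648fa22fd50fbdccfec9f6eaa6e36177602ae5cc3abee07cb2c3a55d87a5fe27490b51792518231edc34a753a714f4d04f1740c0beed6ca9177eaf5bb81c0327f4c5602469b0c173ddaf402675c9fa270dfdc557b6884beaf16f4e266b923e18e422d810dd368c73c0f186f1f4c3c780abfb5a2a034ff2f4ece4d2af21ed49d7632dc7f6388ef1dc77d2f508bafe10142e1f01f913227673db6a16ccd32ec16a4ec817c45b525021bf53c7d0d41d1ba1a8e0a3427b4844f12f1e133d77ebbca8fd62692be357ff9357f26e76bc30ec16ac31291777856ebb0c8ee0c55511766025ca81c1932c60f5c4eacd342eb92f2b241622bf5c1f9799e90f60644a4345e8a9d1714e188ab2d3a1e22db42103f141ffaeb908ba6c24d753f846316be2e0552bce1ae3396201cdcc9d9a1dc66c76997cf7491a4681bdf08295df3d3eee5ed48a8e973ee77b10af50aec4df559eacd64b97ce24afdb27f5ceca8f20d7b51fee6a231bc6d6fa5be05e55ddaa6c38e0eb236a7078f1bf997392f39ced23eefcae8d6ba14edab6c8cff6dde42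3b015aaf4e469d1f69f74c118787a0dd2400523ea07079ddbfa9ce7895c88fbfec758c7671dffedd6badc1aaae2180b5b61920c920e21a44c4990865c28568821fbae63d8c416fb93bd45e6f3d387bc7b7dbebe768a25bac9b482d8db828e4586bbd47f7b46a6bb5726d7f71b254845c94bf12a3c976458a35fd15df02aa70fd900b1f8b9eb9fff2deffc9b9748c4e0f3b29da1829effd29b9d49db1ce3a470aad76d94ebbd6299b708bdf92e44285e761931516666e03acff6a0e8d3cf50a6ba0cccadfee394ada1eace98f8f72e57eb1cfcfbc3fa6c292a85832bc471a57daa0ee6566dbb6b7da994d561be3cf67b417178049ff55f1af22c489a574805320ba4ba2e5fece34babbf31d05cf00b8110483f010a658c7c5a667724f85d00bb452533124575d6450a398c550b9b59eab9d4be09458343b9cc098be68d284dc68a03f278bfb91bc92dd6c987e3d924c7f9c62252827485842d36d66cb94b560bce0fe4b66f5da4bd109bebb1ef10f35e9303f05be580e8328fd2af5709ed95b7814ea2e84d903621fd8cf07ee26a3973b6b549ca1b331e8269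473c6f437b7c8d4826c01191aa6c66a4b6e70d1f2c3f6410ff9ff7e3273fea6d6b65be61506d0b571b920cee91685714b2c984fbf015aaeee9b50f4d0be43301458fa4415dd380cc078b51fb4e1715ef6fe8b62cecb87a54a5d6564871f6c8e20b3f267390421528015fe23c8b3fa534c78675ec044dac7348e8b5b60db58a05d1ca01d7f216df1211657139c72817e3e1ddd2e4ee1430983230b10a5967b47d4c954f7db0ad487165eca51d8b52f2910638a9440839ae929ebb4955d8a32be5746d06ecebe75924be1a3e6ff6819c17c037a9d14427de0d43e4484ff3fd798e1fdfbe992bf88a7d851e15de0a0b1d4ecf20c96989652d11cd9cdbdbbf1cdc5133aeabfbac83400eab208aad65fc916c65bd033d0367ba7225fe99e3936dd94d2f5f1b36a495e2acff4a87db038afa2292d9f493b4a27a3157463244c6c8e8386aa37c2527567534408d74c43e846001f07c7bd48490f76bc213e019f2f7693e8851471f0c0816e4f16fde5e0a60d35ff84a7d3d9f1b6792a78db7f7404aeabddc8b0583613c0f725f49ea3bf806a64be7b11dd91953777ae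da3dc9aa1e5346ba2e801b677e03534af203fd6f2f2e7cf2f5a81f0719061b675252cbe4c9facc7ac348e750f0d075538d5be28e9841b0845c9c77df67e0bb287f88cf97d2c423608ef30135c3434d5b219d319806fa5272f7510dfe6fed142b6717f18567149a8cb9c6bf5b39622fb97e19b6df906da7e44346af7177dade9b927f97a46d89aafef1e2b522cdf91c90f2c51fd247083ac6d78f11376fb34746b2e733f8be7d3a44c22023846a63a1025a9da5bcb289bc28c5653aea84883860cfc1b947c7acc7dfc24e0085b25d7fc0503708777f4d7af84865b7c82398dc72bd3ff2d28ac33fb873465dae5de317940a4eb4f01a6d0980bc4db2e0cf9a5b13c207b5f1f49ba0db09dc2d300ce5624263dc3ba0bcbc1ab4db91fbaea74fd94804ed03b461b57dbf91f6368ff74906c5c235f343cc1e121820f4475256ffe3a841fc4a292c2870c505f1eb233040a20c79a79b198b879970d0c1bdf5b182e4b8ced8a518ae6116b57c2de834e5cc9c91e6084a7810b5f63af59fd4b84a09f4bddd3e8fba7fb5777ed473be6aa6567f9a79f408c25e8c1d35f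96027f84b83a299d59607e25664bd8df917617083241b87196865349107f1aee56481b3fef1583b57386a30cdef0af9c3acb373ca4b2acf0b232f47315ce407a4080373be259aa4fdd08c8a0ad15a22bc04a92019bb30575b4c32aa4f233d27f5939365d5f7c269f80502f2da2d164e2de466f3925eaa2dbe97d53f568ff12b1643d01fbaedf21fd3e6322b4829ae7ceaa572363c29173441e00941597e95968645ce7ccae8fe88f93dd35adcae5f70be11db4be594c376dfc27da14dc703abaca5f4b7c17df324a821d0d8505c5d4c548260cdf5892d8b580dc553a1fa252249e6712c3ce73908a830eaa8072c82f6fab4a53e7672234a98cbd83a4cebfc35a4d489685d71cf1ca17d621c6e8c9f5d5f8ad8c73fe697495f5a07e8df5fb99b712b4e3d74271b0c87ec4af0d520bede2209364d32464314eb634ccc3dd0aa48455accc8c778cc9d5040b1897ecdf815684f4cd6a16fc66ffb23347a8126f2ac83ea21247b2285d7d3a790cd32aedca07e2905688e4ccddad3d5dc8ab088b3939bd3e45be7c9371ab44c1909cc16cd4838137018f9bf87374d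86a1a737552e6126c60ac3cb6034b6563c310ba4d2a763678ab1e7f6900fbb694b3b202112988e394f084414e6dabad343945cd843a842b2b45b1eab09df7af379201bf7133d130ec6a8e07003e480e9c8a1c1f266b4022529e791f2107cc73be43ff04daf09ac08d23fecd6de0b5401672207ac3abc62423d93301092bd895045231da188d3150b7378e3e6cc1234af74d910b74aa739b9c9658a23bef4d283f74f4e4b37d32e9b1dd8ad9fed689767159552fe2161f43edaff09f47327ab7ed655c1cbb4b3683695e87e688ca1dc13c524b57bbd025cd9489de35bbae0ca80581ae5e76a8fbfc0ba2f9ca076541e6baace1f1cd9c7c84b1a7df923ba837d3e84f3e22b6902b21eab4127ac16bdcfe32e8b811429e660b12daeb4346d1f1a1c083ff3f707e8edc79be9f04718e8a286fd7c9b875a9bdc82f8212fc0a3649ad83ae2d54f193c8cc058da3f430e71e001d93c5e687aa3eca964c204ef199901c392016b2f490f50d4f0ade2846fa3dd49b39409f71d3ea9f956c03ea4d51a85fa1c9503c352416c53bf7649ff8d10570bc37df2f704a527087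dc32d045b4e159f0c55199e20428cf693d35d174f4609d1a4e5ea012765965febec0bb9b24330359ff06425a43f90fe8f69e64e8126c9cc025cd484020838653b6c42c821687e6e51a710ec8c516ec9c06876f2d6d41f36a1b7949d0c3e320f9d203fc0994ce7456443480206e0d1019c11c1cce3748e61a555e0fd69c975f005e0f2911690211f37996865af1ff21e5feea7321c329690098c7e2bd85b0d9b0555a741c86f22f0c222024e971ded61274f1c76280c28d6ef2067d4bcb2c0b7c92e47ca6f6dc2d52f2e45124f5aae572623a2de77e4cde0492137fef2d9a96ee7d35ceb6b50b4139bbc582537d11db43a52310222d2358ac968bcf1d269252e877c899c619739406c273572cf464330211f3ecc76936945023b51f35384b3baa6f7499ee22a0ed4569d88267980678601c39a8bf88f9722a47782b2f65b316624ba4123fe17b9e210a70fe66b373be85c6c130fbc17b3e9be8371b143e179e7a3c5ed2640812295641fbce1ee599aeea4f591ea84686baacdab7a5ea0c23deaaa9bf1b2f78fc26114bef786e7b2f12280aeef2169709853ecb29bff5ac1b01f09bfcd37264f307fa260b23e94b4d040f868a8c020b43a9c0e0173398c2a9df1ae69a12b24a956a6f7ebbbfde36ac6354f7c1a3b82c6a198fe310339a14f774a52249c6f6f15c2372a4ccefb637a760ce1f75e7)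
def T_d : ℕ := (nat_lit 0x10cd7d13a162cd931645b6e0c95f207ec52992b6eab0760ba435ada76965c02c26dc89ab84f81e6ef233b45a7491fde5ef32be175ec1dcc37ff7aa1e7657cedd07f8956b1bc4b935bc82b56a64bf85e0c2275676e16ee27305a157f37fb9b88d81e98d637bc90aeb37e0ca1ac6fd91260b73591a6863077a3c66e88f629fd9bf6a53599604d55fc6d31b46c29941dc8e598d0d4781e00538e734064a99c165597b35ca6d2ec7d1618611cdf9a9685f388e93d68814743a592a26c9c71442b48967e17a76ef01c617933b8ec4c05805e1c2126e0cba60ac2e98bfdbeb38ebeac8c573e240453237a698ade19907cd0aa83b94d2f772ccf65f653a6b202746ca3b05b09589a2b40a2541f67c88a4385c2c1f7adbd6197f671a37c79721e8017b3e6947335f1235480b8e52d668309c7880b5c8abe7e026636937314f617e98a17216894a1a37278812ecdc5bc920ef26b993ecce842bbfc8c2f47d51399dc4c2f173c42b131cf0e2d773938e01549ad483cf824295e3136cb0866c4c33e743eba1be581036ba9f7816e4b62b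1fddb4a4bb0dafcef0424678af11c9ad67744bdd0a86d6a8840b91ebedfc89d392ae37ebe01a095e3a4ee090a081c492df79e0407937fb427f3244a80a2f1e3136ab82d70804ad44f94ddeae50009a2ce4ead78cb62e07e60b9a076dd6dd758bf137bfcaf774de0038619a66bd3b059bc45d8d4872db56af33285de686a067c4b0a0f8519322057de8f50cdb4ba941ec23b47d6252c7569b6a3c95e21e9e30600c56f629e5bf55463058811cd7ed10cfb35eacae82edc8a0fd42026fb9edfe7b286496508cee47f64a155555340f1f1854e6308a9c52b7bb5647e719da24a6828935869abffb9411a6dcc0d85f3e61a6923b1d0a393e595daf8720364db4a4bb9df1d5de75cce7271004c8592407442b76449a3c51eecca0f6ccfdf5f94b3d7de40da54766c07bfd9bc429175e6698eba08847ff314913a9b054d4a2b5ff3c50e2a305e446476625e33eb4c7cfd98bd872e75095563149fa2b1ff2b73ce334405b379ed7dd62b1d27ba68ac9de08c7b976c3c713b90c82bb6c8f573f77ab4891c9e244f423d22884d1271737365203d96b49b4674d45683a9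d5d5e1bcf5edaab87efca8bffc4d3e3e6be73672127c3a756ea047d7deb379aca191c85625052d9d88c78e4d4f6ed8e18220706dca0c5992395e59674ca36294c80875febf3047eedfa69542cfebf5520b8bcb1afc389988c4b2ae214f633a2c58b64dff0880a4737b53a19415b6e4647046e115ae1a137f004baf5d8d9cc874d0a7e7da8953573feec8534c4f53bf6e94c42ae500fece593d8c8e1fcac95cbb6e6ac259cf8f73d936a67a64331c083874de0946fea1aad23402907110b5286777e59d7c85ffde5b03386267ff3307f08ade9b425d5dc425c6ff63291230b8ab39c7ff52b8a6782df441928160f577f2689a4a910e86b189682b0a4084cc301fe30273430e0b6b04a851d46d95ff2f23b3ba3d6d3578d7aef8daf5237aa161b1d071be056a2b135a594c85690af29439d70cb2e12c93aa1ed487107e74a3f73a1c00ac94065047ac60baf4680f83bd34cb53fc9b7d95ebd2880e6973d752ce67d86d6bc5f68ab69a09df816f70f69ed4fad1d5b2707bd2f7452a5b8db3f0716bd52ae9d69bedab7a825f4cf37f22e3fd5d18843e4687c1a78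416a0679de899927f7c832a6eb11feeb988e491a0a895ef0bb84ef075c106f7d863d7521fc4a348625c4752a9a7e322dd57eeffcfaa66ee0154d3a1a049b12daea3e862a44da1e9490a80b0ec5508aefba8bbc105f1ff51a41125b499cf2aef9dd831f22902018d1ced3524047795bec5c33b1ff543afd65fb1c2641efd23b6aed5af34352f5a065ff3cd1f4d0cb0021debb13c383322af4aef253f2495bbe608000d6a972a046241405cfd1001744613e8de3d65d24471ad50a817eeb5d31fac4604298779fc2089e27deaa8c47542694ae65d778319f062689ab97731a19540bba228fb75f5559c033053ca59207f8d35042e01a23a5c9694785bbf097575745bd3b6aa80af1619c8a24aacd15ceef9c84587130472dab548ddbb1da7045891a2f07237264840f3ffaa043ec576a575e82d3f1665091eb9cce91692c1435ef42e932f90d1481e27db242f84862495f74c35d5370dad29f7e6d990dea211c189014f5ee19292b1f28eb9dee75a37c34f38ba5f5976c2db1804d0b782967440c54ae0292fe88c9b8e04ef782e7809a3d37679957ce6e74f04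c43ae4f1c5406ef7f79730c37a948f3f7976abc274d80d739eb48bb15713ea66beee6287a30eb9b4c084736521dc5c5a0d77a4cdcfa27a260c0b542b267bd9b1f5bb2dee615c0705be005aa3c6312bc178dcd6d23dba82c5ec59316bf72fa9bcdbece18fe4ddd842db6d68292fd3a87a97d60c1a93f6b3b661ee66242d164d3a52033a3ec1386c57b1caf26d3f9c81b597fc308b235a324903546998d076acb7de019937ec329c54572b74ddf5df636cce1d6c3d3858e247ea8a930538a17e7c09c2c80860105560d787d6f4cae66bfd63408e5642804092ea455e681e11d3625cdaee74e4b608804efbe6da65cea7321cf0e598d2855c402edb358d908313db9edbd10298c1f856add9fdc40f9ff33f4a7641223dcbe49ea9d4039a3a91ec0553e9612593c05eac61ddcdfd860198ac63172f0fcece4ac1ff01f7d253880bf646b9ed20aafbfb8ea52e296863608f38da6a96e82ea739216dd5b97be58970de1205fb0240089deedcbbc88c4a23b745d7d754eacabb1de6303b1e3e2ac2f92eb639b8e5554d2af921c135430782b60a1d138a6cf9f507bf6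4a09286358019275b3b79c70c016f26be28ab32c4fe13b2e48caab28490b5940f0f25f3cc5eca05ab016a396a6d6754e504eb735c01c608ea869c145f2de196e457ba8d39b3c0b7a4a6fb48b8e8480ef390893d81b8875901b71e9adafa441117d6a349734b44c4861c64327ba457052cae7f4d52817e5da27de9c5f4baa9cc5b67de1873d6ceef9cad83059f664c2838587cc6b7db042808a3d94c0416662e418ccd9713b5439e1d10092f4820546592017cc4316f129d7d84acedc7855aa5fccd93e0d5eec2e2f2cb7aa71209c976a089762614c33b0c6f65fdd534a07b8551090f1387de327f66a92ea75f477bad213d449b18cdace6edb36b5d5659d9daee56e8dabec9eb566d763895e89f568c858729d7365fb8a17ae32ebf7101cf57d0f35498f9f3fbae56a6a685d8d672b4ec637fdcddd8d26f24fb8ff636f213e83e2b93a068a33e52f5cfbc8afe32105ca6a7bf52b2fb164dfd7d411cb89d6effc286a7969b8bf604d88a9d51721c310e4b6d15f7aece07a9a2c563461d7453276469cd4cf0108373b19f529f4b958dbc34a52f5a5d1f2b0a9a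9f2dc6d4a467d1d79b742209f445faee2d4aa68fe76ef07e03978eec35d02992217b1414dd2eb7b4ee3d6ca3b77b33a8c30bb08505a33433a2f38af7c3837c9f40066fcbf4de72847e507f29c2e224f5c529871a46de67ab34f00a6862e6f4f763afddb3593a478530e128f808f80a55857514fa3e1c168ffad1bab4bc844916f9f69b1439d04ca01d6a91de6b09faf7979783ba4899ec0722e2b61a2528fae362886c83dabd1fa344f8f44f8bfa88af7b14a9779edfc5f004f27437b6de4bc69446cc4000668b5f7bd47c27a8744066e263ea3ee6fd9a37e03cd8c106d90cc466de4fa1b8199e81d2d693efec33e3070a430d53fc2ceb0a28a7780eb8111b9ee44cd76f216958057cdd4813ea2706edd9ade0917f67f3a3a71b4c46c91e38c95d9a2e58ca3b47c37c68b6e73fc5e872ecd4e4905b3f333aba0c5f8ea702a9b23b96d3d195448176459255e3f36bbf50255664baaeb2a78593361ffcacaf4bd48aef8835c8525a984d5c7ad06df8810663dcae27bd5cf60db19416279ab2f983ca33071a0baa7346fb90be3f2a7d08b3f9ff236baae13d3bf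ab8a06d75c9dedf03e61bcd84045ef1d74ca7c023502314007fc32d3176cad23226ef053f2c877a3dd2a1562fd8d08a05473814d443b408b748442fbf7a75792afdb18c9300e78f3f3c0960886527fb67b6e7e73dd6ce5a386d6edd9884c097cdbdaea7bd7b43ad975e8201ba36decac1b380caabb3f7bad76a81595bb001d141f9a11e2c2cda7a81cfc66d9c4fbcf1b0be94b99df532885bb94c4f06d507d2fa7f78fb5651e5b5e7ebd1afcc87dba9839bc6ca36f4d350d67b87ca1712e6ebade9a2fcc4860a26430c22be5810d523ce3ad0484f88db21cb03f025e111682a7f99a156a8d8d938919c4040e6188063588736764e8d54849d06db05a20f2153d67e9412bc8ed1e4d3f7e9a0d3706e80dcdcd51495b06b8b31572a07e377dea8f9ee7a50ecbbfe394e2fdda5b343a27d7364aebc55b7a582fa4f45906fdc27577fd57dfe657fd5b1a0eb93394b3ae54d7ba39c706b144fe1ec390ca6d06bd7763f05eb7a2d0fb2ebadbad80fab44fa4408021a4e6caa3a95091b5f17d553383f4a62caa47b1fed23a14ae6906bbddcd4aa77618cbc0b1e5bf8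b5a2acd5570ca1c6e6842b800a15f3bc30919eec073f943dac656bfce50fe45a5aca177695b9c3db2e5d22243c22ebb8b836aebd040edbb8db4d0cc2028a182c3a3b64cb14c37e7dd49b6cf55527b1492db22fb4d859ec81774700ad6b79fab872d4be9cdc6b64b1ab5c5d42b86a70a12d034baa3a9a2d2603097c06e70802b86c8021aa2a73e45867f41f737c2159a6f87b125749276525d9a4ef3dfb3e778cd99f357cc0d7739da2efbdd759130a4c33f405ba81559907cb402115398c6857567428c209da5862cec04f1afdc1cf8fe2ea954bb7e6b92979f29a3493eec795f805bd317fbdb8c6aad754847fad5b8a05fee18e1496044c5cffc115bd93097529ac6722a2c5d0556e8cb769959ace6f4ea923e0a68ad8c8d6835cd5c7d7e85200c665969d930dd83789d2e10770396b22307519668f2ce58fac5fe332484dbf99d3d2da2cad883bc510b7a02f5cdc6524e892502117739af2f041624e2d638f989ba2ad06ebfe2ef1076e1b0f7503e0d5575197a15e47420a8ecd0e35d89157ac4ed201a1547aabea47feba6611f6966f9b00d32ac644aea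f64489e999d3d6d2b19f3293032b5f9e1987a19311c22c71de780fb2af54797e1deab7ab5240a38d263ec3c7f39e787b9eae40e315fc309d2f2140e950c2163ebcd6597f648c65069b5edf15137694e36d60d6baf061635f4a5b65375aded1a816d629499644fe6541fcee1bbff0dcb974bf8a309ff7ec1b2d8f4073f1baf2f95efb166148f12f00abfd9d765794156c5132fa8dcd76fb6afc5257608a2eea0c7b645f600283644eefe8e8d811bc0c7bbff83abae905a5d35a7908195fa97c47973e5e1a82b6a1f6679e8b4ba6ed7c4fe24c635c0e0c0d80974e839fa31b88595c2db981ab4d7135cd8a263a7a9a49fb02da7634e39de651de72fe2aa2254d82e1f77559d8b9bd215d11b4325e04ec1e59661e0c28fcb3aa6faf470c5d04577cc36c76b790c9f57734a5b4582c1c84ee5c9451f9b8694c72ca382367d83594a5c0bb4de767e56b9b29294f50b9922f3a392a14a6f7ef76fd0f549019148b316c3801c926bfe251d046bc0cd246060e4513133f5d12f25fd8a662e2df4bf7d83cd888aeb26e513bafddde863f494ce0cd1ed9ac44875ea0e31cc4b1518bd840e05dc653862a8c42d1375c437beecb5778b149f015c8975d013958a49f0229d110d98fbd2f2e338d8574c8801618e5b459067de6adbbcef14aa891fe6f2c22023b2fafcdbc054afa9bd25747219fdd720efd6711d)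
def U_a : ℕ := (nat_lit 0x73a017ce3c428a6260a5412b2c41a66669f6c7474f035a3b01ce1280f40d93f60b05b6e0bb53ab42c17c4e122ca477d191811c5ca3ac10435c4947782023894606bce34a8c9c343db47792aceb299ba782ebffe7799ac59f8b1882da426f775401d29c50e25ee5b40ccb016565aa6f465cda1d1b3139ff494d62a36c2af30ee1a7fd2b488946d98a119fad2b8f3d1cf8d93fb2b686933ef051764c9c55614bde4b244268201e6b4f650b039fae4bede33de9024f0eae94c696c8747c60b827a20a95572e6b136517fd1d80dfcc7aad05caa9536b5266316d2a2b9eaa898ca2f7ec5dfe6f03f35968559ceb8c1e40e70e07ea054a8017e36c4bf3a464ac6dc84320f48435c426219c8b0c1679b5b5378ae4fb22a08bcd66c4878cb8feb06231f84cc78668b26725307e9025ebbc9b76dc2994d55fa5470c95e2c8d952db87e25568499219e8ea2567184ff481af70c8784f08f0f9a8bc0c5656b30798d86d4fcf950835fbbb8017b0b714a8c59a7a17ac206b36113a9fa40e86eb8ba4e9d2c1a02c5cd3989bce6f4c85696d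caa79d24be8844962aba7610019400fb87d6ac9f9c65830bd64edddc2804c48c89e11c38e07832588eea849fa996e9f02ee61e574db4fa3839ef71a58845856967db5b1c72e9db6102ce08155a7ba870820fb01ee085e6c2c673863b1bc6100950ae74b3f8a3cb755a567e77c5f7c8279ba08d357f88c177f1820f4346d2a3ca6380e54aa4cceb62fe35ffa31121997b9e3458817b8724c5f28a03ed5f02a3d15090ff83fc679edf36dcccb73907fbe2b9231933ac7969ada1a70a2db4cdb7855bf0d8c16ec66389fd6862e78d247d58824916c7cba819caa1cff65f20d0dc44637991c0fd11e1860b21a574873c55c2338b9a09447a1b8147ecbd854ce799495935cb0e2caa4d6b63593808815b11bbd282f1d4bcb48523712acd8f04597941bb2a64c1cc31973f1365c776293342fcad08a554e3396bd1aa8689662f860936e437bb10a9cebeeba78dda753080a5078d7373746bc08d49117055bbbf0ff39a5d540b4f44ac1ae424d558a4479c8871f52aa6e0074d276a5c16ead0e4ca5ef46c0dd0118f3d6a500b4c0f84ea58b94a6c23cad2a0f92ad20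9147c5b25ba3223e1b26f3d5748d8c11092795ee65365a9d9bcc65c934667d313adc722245d739553d777ae4068f237a9fd779c52c69455dc3d693da5d2b2d2831aa36c32a783f3e0997ec7ca76fcb8256472e79dacd65fa56dbd0f7ac120ae285dab26a73d8fc3e3c283c90a68efa513715953ea422b26994bc7898d1cec9705305730346af74dc3f558dcbe5dc6cc8e3a6dd96ffc76813f0c0b802ed5641f01e30be116cff9b92ce0bdbc0d2c9c268e12ab05180458e3656078a6e924c3e5eff8ffa9037c0c49997711f72529fc9e63f2dd1edf3cddc08b839d1a140f5abe7ab927d66f30a5ed2504847ab422faa07775c73984e54dc764d9bd8473961da9d84fe5afcc96d488e2fd21f519ee5b21e80b6745e4cab041a9b2287876453eeb0d7f80939bc26b582fee2f311546449cd4dab54c3ef371e05c74090ffd88ebeb75ec21b29ac77f426529cb6cec1bc149326d997e25d73db7cf9c309037909e6b55f74cd5ef368470c20bfde2010561493045caaf85bd91e75e4d54cd74bb0e7c39ff62d65fc63c88f0afec89307c6173d797dc06a6f400849d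ba348c1b04745a4a13af9e1c68951fdde2f99c296a70d4d305fd05a960cbd11a5e5992c715bb5d7b15c0bb40af3959557a09e87e916e2d25446a57a17e3d53fa9c2494ca4a49611d37f746790321e49745311542ceedc46d7b16d31fdf215dfbdd3a65127d9a37612c8ba6020c7b380364f40ef92a278a2eb0233e021f4cc4c38d3d64b6d6d62d3eb688c349db0d264ffc4c3e62fadc7a60abd75ab03e6fe430de5c2054222c10378c5a6d74b5bf31c526ee0a714ef0f5f0e09e7a391e49daf8d4ce783bbabe4d6126dbafd21a6de38ab2923932d8fbbc5e4536f1183ecc5bb9d919b977f674adf9000ee59019e58fd2c98ac6df52374e18eb5a40adbb24cca9cf05a84a1e3e94772f70440e44d20e02691e661224ef10dc22d811cba1846dd81e64411347527938983110e26ea96188e94b91dcdd3f7137b27c12b6ec4313aac621b5d7c5c369ecf0392465b5aa6108aa8fadcc4117cf8f22cf11bd1dedaa6b6c74604e5c4a697964f187d31ecc18b0a6ce91b66e7cd13e349cc362fefc6a4edacc31cd475df3fd3bbea3fd9b3726b7dcc53b0975d551667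52bed1565c168e86b4640605e2c480b65952a582d67f41fac3d393f09fb8e567ced95687b1e708143238eaeeedd97cfc83031503fe9542660007fb8696b4d21ad447e7f27301b06b973fcaac51f1c80dcc90d0f063aa4677a68ce4c782331bea0f8116644c5d102ebd26aa62096ed8770a3db8a2490c83b32d67b6bc9fe0632ecb52c18351300dd29374f42b78f8c95f5fc67bdaa76cee9c384364879a41356aec59ced6d9efc01e747c1f053c25c2b6df140cef8811ff611638987af0db9c74cc4e1e0b05fcbb084fd20b27963cec1963dcdd6be3ec8cd1c55d99454138124556de6c489df5433f290ab5663df90af96254ffd40104686cfc2b3b94533230173a9d245c1d4705b0b4ebd6a97ed31ad13dccce4e86adf860e2bafd64662dc9dccc9f6896c2f3ece8926c8b11b5513969ec6df065ca0d568b3389ae73c844e8ef096b148794777c5ed3c043d65fb6c525b0202f2bed9a39f01b559dad131563ed625f0deeb77beba41c375f4fc9946cc7cd0b7835c66d62e6e2bd72d18f5e322b01d202e88c5151eb54c4f6892b0460bcee3304cb9e0ac18aa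f2215198b7527125753b65061772d50dd6b7001dc9a0db54d490ca9ccab6b09f337cff01b1a3e9b743d9427345021fce69fb87c872d1117080d2526100bf89a0ce546d574da4089201cd053fc54bad4381ea83a6c71decf56d8e7388a9cf2be216060b0fe3dd394ba0a7be1fcdc9a4e892bad158831aa40d06e15d9d4cc56789f39b2d2f22d8d8c7096d9133183efa2d4aa8c3f82b0653d50048adff9a1d007633f7fd7ed31cff890f36a90d35145226a83ccfae80aa868bda8e3a118a37a15b6cafd4d248f241c90a39b878a40db5ad8a6c4f405be29fceb3f5545e319b60669d4821c4e292daa0340ca065c31b7ee40eb375ff75aba09648fb1567ec654c512ecbc44598795ec0649adacf4c71dcbe044f64a8eba17201694a6dbebaa3fbbb99234841d7b05d8b10f6eac81cb6891677f868acef8d375b2edb91e51aa3e83e3def054d578d9b3a6f472712a35328e9a3f1094d46256d1e1764cd7c8a63815cd33a75a638a0b405144fc83a3d2ef5820b4704e621d8ffff7100284514f6bff5f7ed4f00452e8a32e361aa4a743d3dbb04616db6f7753a3bd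5942b2caec88bc6db03508153e43fdddc1aae4c721c58c9bdfd9d92c7891d29e7b8e94aaab3cb6d8afd878205e216a3779da56445f740f6fbe8c30d40fb8ee6d40d729f5f0dfbc0fae9e7863eb7bb22c481776a608bd4a7e12b923de14de53c3356e6a8eb0e3e632100123969f47ad91acdb84cdb1bb54441380688baa5d30d2452bcb61e090f30206552aa4334735bea35f8b991b3ea8e503378fa4abaab396d5d0ecec172a0f21293ecc7e9022d22d569f4d4431443a7477139b49556eb9c24aafb872a19cbe87d271ebbadb077a1650f6ea4b6e3f3ee4decee960615feecd472174744421bb8f02efbf5ba587b277be278604aeac2d0fdeefe2927bad0bdd5edbd082541c0096fbcf0d00518af9925e2cd9fefb58dfc287cdb805c9820d8e2f1d6d739fb73dd083748f0edaea719b9f3ad27822d421d929cc77711292ca0abe16066350f460064aeeb926be171f43d7d9685459c6026f18da341f90920b5fe205110cdf76a683560a1b98411e4f5ed762161e729ea14c4570159b6b6fd89b998dafa3d69584d1109f35a7c8e62a80b14b453ccf0991022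111d4a0463279801b2745c982fd3a7d8d767bc123a7d9de661152a64653c8a97a762afeb45e42a0663da954a447ebc68a42c7176db5fb4a7af626f995a8aa75b6f01562ad47f42b9621b561c66ff517d41bf8fc9a3eb0e85e81b90958d0e09271c866dc783e8464136ae98a0365f659291729eb05a74834d5b0a57c0097869ddf97fa5ce7f26a62d3b834761eede676509ee7e1e96add7fd6fd5eb790f15dad83a0be6d91350d928e87bd619a67b7cfde6ada374214e423edcc3274f7d5c2d5f20cbfadbcbaff699b46e8cab45b87563704d91eda44afdede7942a98b72b4a00a22196abcb3d377353531f24ff58c9e30bfc529e8eb9d0af65b69e729cafba13709f8e99b3f524f605b0304e87e83ce05380c9850fe23fd1ca39314f994e51be20189ee03e9f747af8cb416f374a1451227eae8d50059bddec91297da66280182932bf60686bef563382d7cd3e4674924343d62755cee77e5778bdc7ae0eb0b378a7d8b43cfd1cd2e8c209f902d20c83d44bb2344e5480bd2f91a438f0f2199c0391c3f207421c3a0649887eb535b30da477a331fd773ef67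d82a5106576fc48190991345527d2707ab0d1af3a95c7489f383498f26aeba656e69de163fc5bd23be4a6fdc4c2ab899311277d41ead2125022d1c8e291e4b9c1daf73d3b1ad5d1060ce722c4f98b47dcb4e2275220742b28dd6775f347bbe6d1cd732bc979684c453ecf9a7e1c779916a5bab030b20f59871d407d991d5a225888143815c0bff307b817d5cc7d3fabed28a40c8fd3b44f3d320186939ac6a8ae8685424828a5a57494803c4c1fdb4db68042a23d232e7581c1df1aa1f202acac1ab7b7a1234547bfff64a1523a794e06a2d796cd758ce65f05259f86509e689c00e907f067f5ad295fc2c570948bac3c8b005c5a2edbdc74fc819680e796f0ecfad7f26e526f9a13d17261ae8dff5fae0480de5ebf1c804c9310d12347481eb1084477dc455ed4692d787ce015a2fbf60ec27deec0a24c5ed18ed3fe0a2d6a8d7ece9cad1f94cad445d8eefe3c79b0ef3887511244421e2a4aef088d376324942ddc21983f98f4b96493f65f05d7ce49396953815d8c2e762bc135fe2616f18ce0ce80f63fd283fba5aff7ff2860166ac121ca71a28d8583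06aaf66a14116959beddc18d2c8ddccb1b6e747f237ccbe8fde9332ed63289afd279ef86e871445fde4116b4e3dfdd94c1a9cf545252f411df98683a182fdd0f110bb3b6c20b07d5e604b768ad81e66881ccb736d08809d799d380f66f9bb3a866b2326789525d2abe605f6c2d9538b67dd2ea314e0a4df6330ab62f53eca3e41b6882fc0c0d9e152c5f0167f937900525808555ae7eef93a4f59f9ed97cf4c9f797ac08ea7da50d20567cb4e3a2136007d9036d3612c1e15bf289528d0b6cfceb3b69cd5d28146aa4e989339f798dfec76e955289c5d2a913c0c514172cfbe652c1238029b8f881d3f2618ec59276ae079089a006e9ab337ffcc9c95888fb118196c43738a0b85128f85ae5ac8d67cf7208fb5438d815ea15eecb47eeb6ab5553d5bd1f0225db69808db4c6655660abb881f19172d80c0fceb6d3453c2e82cf87d19c9ecd467d44e0ee6f3fddf2c088a34292d0c3b01abbc11862316e82c941753c34257edfbb4b10ebafe0ca726cde4b88c5d0a1ac71b8d3821f839da184b9b0c9cef022e66af2648b729bd573101b9a49d3debbdd5bf8dbd5875f1b796766223ba70495ab223e6ebb5c1e65fce75091e90e22e4ba90a049d10ef9b0aa69116351eb6896bd6d96c34273ad278215030992e9ab7a9792e021fdd5b51d1070fafa34c28ad9dc7d8a343f23eed773bc4eb54913)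
def U_b : ℕ := (nat_lit 0xd82bd69754f6c7f4cdd288a8010c0d00c0c9cd43591dca247ad6314a24fc2e3cfe657958e8b183ac24c2586cca2d2ecdf269adbb37b5fe2ddfea37cb37c72bd74897d1b67adccba6d86487910a904b5095607797071f5b37897f3ad01d2f605bbc812c9124be4290f1ab46b7cd813043fb6f9151bd4d6d7a68673e35863fc152df905d6d258af69b605948559bfcbee05651a44929744b4880fffe1fe0b78f685f5bf3a92e13b9425f6dd3246a65ff3e63616e3ac9635bb578a5ef74ca753d4007a93e77873f5ff65e6bd1f4e18e845a0c5330cb045a46a2727ae8f106ac2e06feba2c6da74ee866f0fbcc56524a2194d3eb86a5661d95d11fc4f1839da66a0f7ba3f1ce07d56dde40ea475f4efb3ea74a8daa9f6e1966a33252115dcb00db590c8cd289be34920af8b5fdb0fe520835b82f2cd8271a42d268e0ed3b9f77343571c0450227a3964bcc0f18fa0e0215ab7834449a60a8dcff351bc2f86824f0809c41baea39d48a23750ad47cff8be1de8067e7ef283b734d3be4def66b3eebfacb14d96f69c04ff26c610e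266417d02b679bde414d4bc382c5da613b6af7e14b4c818b9b1dca0cfd3c377af5d1542a19b587b20946ef0210555bd2d01bf375f7388b5a58a72624e65c78511eceaf409ae9826f839b0436b20f0008e95c80cc3bc53b20104dd65c442c9152c2f6e6dcbfccfa7b42c2663de3789729ae79fc638a008cdb95482c0cbadfa018268989e446e0b3cd44ab38f503aeb2d2edd7240e7e7faeab1ff99c6ea47724a74ab2280221ec8cc9d0d3a7020c2ea3d32f4075c08d052efe6369f46c135498846ad778785741d66ca205a77db75d8187b85c26704bd83cfea84ef71e6ead610597e6322a49996fd3357c75d82831bde8dff4068c0708ec971547f3594576a0e64e831aca796336763f0522752ee5e6b08fee5b5f1cf0f8602d5f7251fb57c9b71d243adbf56951e86e42e67db70c523437d39b2505616d0387d7e10c4e7b0f635b62b6316e3064598ce9cdb9af5c8f6321923cba2cfc4c6884bb5cd42e4f0a577bd6c4a5040466af0c11e3c15824975758f252154032aec2a10de2026a28df287465a6cfe3f3b58060e64bce9c76267fc024441678aca4733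bdf5e83b45e95cd031f2a03fd6b46e2b1eb4efe3893d699040bca40538cc30c1ddaf671c042d3638fae85b55f33d7bebce9ed92c37c873df8d0c644abf5eacd6fd16c325c84658e4e131870b74194822b402748e6fe7041d16142a1ab2460cebe57cc004cab62c572d4066cd47ca02d3c762d339e7a16f8df4ff87569bbbf5379a059a6eb829ec64303beed94b89ef56f60e0be669d2248bd6d634cf814d3ec9049a5842ed8143a720d6e56127d32a67ac78cc614e06b02114e9a9088a544fd1928bc7f2ea0085e6af96ed611b82a6cdce44edc5e6610e0becd3e957f42dd913d07e1b88f88adcb441fafc49daec02cce85549c2fc4a082a9540775cf7e380e9d8d789b9fddf31e881f6fbd60680a2c4d301067cb972b8738374887f2964d92f7dfec4d6ca88ee0bcb0d8cd32c8a9077e95329eca801a1504d7ee63dc4404677f246f6a111bb57972888437cdb9f1c54768f38f9300c2711c7bb67262c03116618cd8d3c8582a54eddb65ac547aabd275fb53eca916ac86099e74dff17eef7fbeb35ffcfb57f83615cbb127215a95206172a80ce024dc48f5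65c5ded0cde13ddf57f8262212317ec0f551a61b88ab75a994226095baf1c625230e39143e2f1e47ef292b24e4b23058a23ea88193595d5610180c19763e6f311be03882fbfc44bef241562ab2b988e52bae8aaf3cc22657b0e484ae80b1e527e90874eecf9a7f8f358e3fec82ae8efce8415b1f5aba9aa03c93c5b2ed0df7047344bb938bd45fcac9758c98c2729707eb20104f61b776027c000a0400f6436be9125cbde493b83999a0a23169c24a0fa94a9f03d88a870773a11f711b0970261a0653263ff47bfb423fa5cc92d521f600e96048f78a8ca2edd9d51b12e86e9e35d64efd09a13774a87a31d4a27941ba0d4893905b9bd469dc5e5a3937e35b641cabc07600f14eeee0a848ca8efe983e9c52a6af7cf70e5b4086ea34c5d9a84b17bc0bb8b7c1f4b94db5797b8a152afd1066d592854ae6cb84143af1b0bb0361a65ed12831bd02e3380c40789132bf977d1411e9532bce26049cd01e35c7be66f95296407ccf3ccad409e1b13d2d6eb6e82190c26e0b85c1483a5ecf7d4b151a70ff8c751a5c5a8fa0204877cf5f907c931c9965d72e3123e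1fd4c61ad5ac05b8832546c3a260db11d2a357e7d8d0a36cb03c5ab377a3609d87cba6c76c54517ab1a2df152c8ea0e23123d0bac7322be13a02a6008406e6b6bc12fa6c9974ee24c20e84fb00be36680c6105e137f2dda75c6ccdde5f07b489b78a866c68dcc813982d800753742b41bf4ec2d3e713cd5ed62847e477441734517432f1e2f97fc3dbeb0ba2dfec71b8998f7e52cffd9dbb61cd50e9ecb1541c0f6113b5b850673523f4470f2e1a294eb0c889f737c6eb4b5df7f4b13cc1ec1a72d507b3dd48e32f879c48a2c3cc6d35ea081d45772c5f345804ce96d70c40f641c5f82cf27fab0b8f624ac89901d67cb46c1b6f305849e1e14a78907f8c4cadb54ab55dfeb51b695a36126be33b709330b5ad03747ee7806069f923583bf4736b8e1aff7856e31e2a32b8a3c2f411ba7e4eb44460604493e2f8db14a9be546bf9670047e131e696c546a56c3e0a60a51213b2d72a66b858a404579c6c00dcdf7bf72c4e0ced837086dfa5e7382830624b0f5a1c83839e1091ec3585a5831eb00a19d281cc0217a0fb5ccbda9c817ab4aba7180aa355dc7c5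1d1600116d1536291ac14d595e57149487e19b1ad8a80b0e26e7776f417bf38051a4a4a588cb41417c7a82ed0318f26d770694e25daaf6a4db422ee98b386eecd6c378a6e05b51e99e1a354dbe2febaaba69d4a405f56a277e14829beaadf69f880de9244d3a2d166ef97c0339cdb33330c626e12dfbffcf2c562ab4a3f34d101c0454d37c1d6aebcf05f31b8c6c16359b9ca97c694d972e5fd2d91ca3fe8b867017a02a4998328a67088e31be728e2b1b9c18e3fa2c5c29886d41fae4f01626897dfbb29e0feb69af40e055c2033e103d2a88ede42167db6936cc4b666aa10508f109669de1b621bd5b5ac5c068008ccd44b6825a99ba3f58ed08b7e189b1f39fc539c611faf7918a7c5e9f0c5aa7c4a8d79cec0daeaa633be83425014c408c0c02e8c85720614db7d2e930c5dc3ac14dffdbf2d9cc8316ba483f8ab6c7007298deb6203d7313d523ecc97d3c90ad6d7fda2dc9328da4ba35ad0189d8c0e80a7ead6f55e75a953b46b7681bdfe042925fcf640bbf1fa737fa4093d2d8a4acdd9a534e0574c111e94621a6941ddd06586aaae67c189cce6a0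2f34f5bd6c9fdc80f2729eff5a804da345ee2e2194236937d3cfee98125053fa6b0460a00372ec49d6f9de2aea819771ba6892f9e74b1524c7bbf1c6525a9f84e4897b6311c26e4d5c373a6529344c239ca03b9075c2499f81598e16684863e49c183283e69a6c99a401fcc8caa2ef797e02fc6af3d25ed37fd31c01bd5cc4b5e0b1e0eabd4274aa1182b151095639d3c1c4f45d404de625bc77fc3e78270dc01f7a8e9ae9c7b546572e9e5ad36bb51377ce138cd6ee5ec35b7318214bff6d594fedf7d64f847c6db68901c58b2d921dd43de195c23d9b4c48e37df89456e9391bd128b341e01b435dc1e949a700c27ceb5c61fb412841b063f246f6a22d32660e48652cacbc6f1448f24183ab565d226ceed2c411229fe80ac8abf11b30e51d97e874fbda2c4eb8a3f5e5241ca50600211e80f270f2662a24b0ad33676b865020117d0f4fa0f8f0cfb86ba8dee1049884d55c8be2c9eb7c1bab887caec2e66059febd444697fefcb61d8c3a0a4b0817a69c9910b5e026bf91f3eb84528283405ca21ac0bd9519e7616a00f5568e68db335cb074ac49a3720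4404e71419be925453a86b64a187dc1678b25029e49a9485e98f06510c1af61e0138ef3752570e1008c1ecdd9a2a686ff90d5ada7dd99d985215bb7015d34643b439f2c38b1165303088d4e62d8af12fc79970a1abbd313335e9b41662a48d22598828d4f8abf15ba66125a1bbe2b4fd5ca39f2ac12993df1f6cb697269ec5d09e0d3b3848527d1bbdbaa4c528a59f9b72b33d0692670529b87ccbc3b3b340accf7f1ee848ac5b19b31de83c9ee1f520a0025ee95f2d198ecc765553fae4c532da15596357577c153051ea80836a8658adab77c3fe36e6b21b0670d3aa9131aa11213840c8108d6867baf18793554e984476d6fccb959a06d852cd177bf41ed2067a75975e02e1ae78272a839d3d6563cb69bed703e0ecda85d674c2ed14d2eb80a3691d94961b44cc52b8d9a0f3bbee17b5757326304ea14cb7e6ababfee7059caa0bb829c0fc8138779203304db65ba0cc1b523166a47e44cd2837dfe77b0ef7597f4deb6ca10841b97c86efed151670b364a6975723005a6bd20a6e1eb700f655de7c641406569f32deac7ce36cbb6e2d6026f77658604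9dcd5f29438285ebbb3e88b2bec733a64c73b4a548db3e06b20e344b845e4dcd3eec7a84bd26dc3b825616072ca63d07a45ee501059133450cf987c479aab333846f79160300904c73f39647d1079bc9d3074d1a4e21d3e8ef3293975a99b61bd76b40164efc416d9f36076ed30b15a9afc84cb650e606e3c140ab8cd44d4be857c109790abd5e5d2d24951fe0395f58cca0ff088c0468d3243abbe849ca87db2af5bd0c03b5bf8d100a77739b71bdf84f97f0dcb0ec9ff81bbccf8cb607bb517df8c43ae514f18f9cda8f2d7c861df56902eccdc2ecd764c091a999ae99b6eb7f2de153b11763b41271ea6b43ae1af9d459f47910d27e4fd8d78b240bfc6632f5ea95a88e2d85a5c1650987f5f3988a9e8ae92db0f6d3bae233fd224905c09930f566ba16bb57bc74931f36fdcb32a466139c3dd193f3f8ab2133cf39a4bb1338cdb850b6a69fb95f0c89a6aa622e957e4e67d709c2181a6eb4e9c99993bd3009f9816e5009a84533b64a83d14f756ae1bf9e78d7b1b677c2e84c5a6f2204e61cca424623a113717108a7eead4db4a92b66a317e7f5ae729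269e2dcc96dd78e6b01092f11f1beb0fbcc772c623b4d04ba5e884c9dd4628e9b2b6d9d218c10362c3d27b13f1ba2d25da45aa69f8437064c695938899f7e7633550e4168085f4d0dd5226886db59539ab6c487355e7a7d1b7506fd85024b2e47eb89e145d5928536219d4cfbd5fcbd6538a78416b4388c507c765eadcfa76aa1be0532ec7938006be751a4c65da05d14fbf69fb40475c9cc109ea57aa50bbba34c76460cc6b9980e4878a200b81db86c6b96f6ee7923ebbf7d780c1f042d669c5954609cb036ba366647e50de780ab90feee9b992b442ffbb27b3919d132069529421e9d401701c4894e2a874acc784320a24839ba0b2dd53fb704c666427aa11ef2576ca09696a3cb9b0973c28539df90c3fd98e26dc74581c1a56af7f0fca37c09546e4f0daf043caf932463fabaa37b245e92cff2c3a26931442b16bb3758db76713197ebb37922bf6b5be333b037cb96b6c0dee313bb1012a44b514aee5338fcd82eb96fb682503e62b4c0f0ed1c06684460f05bd76644e5fe995d7e0e572cb8e42912d78670d3c7583ad01f6f192d60b41741ed8f8e0691ac60dba59ff9a63b95269e596b7d4050734236e8cb3f8149beb9b818eeadb1fd0d6a54467254fdbd411bc5b5e65869c883ce47b79f94b09659a848c15f2301326a02708e98c5ea7b2a0f3285897ac276643d9de111ac97662)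
def U_c : ℕ := (nat_lit 0x895d35bab355730400c2040da8a39d2e1b19d90b811f53c339cccb1eb39006b903375832f33125a2a51facb99e46758c7bc0d2bf6b5cb29f15bfba4e62357f7574853bfcba5727888647228cba4530cc0cb252c5a395fb5a35438781e0f405a7401583031f81f310966850efeee12d45408f42fdfb78dd2dc50d26d56852a3e9fd427281fd3b8e1df2ccab70faa55a2b399dd064950e606db85379ca1c1bc77a25c903d548d31f2e6cc710cc208d2b384d1d822b209c05911488da56f3b739a918840a0c98ca434126736ab67dec0baccbf9c2358d9280f9ef6d8937db4cc0d88a8685034e4c59a9105885dd0ac9b6e7e2bb9105993fb2ea0c8361c05ac571a0aa5c979ea5f84f7b482216f187a52a2edb28115be1f4ef95b8a30be97a7a0d582982825e11a674c9ee7eebfa93525e983da366dc47bba3ee688f4446c7009c23c8198edf32cfe51dfb75a51d0d32ffa34fb0a9275e3dc5c2e08cf2861a870c194f58af48ef8df9248d8a7615398002cfdc4a50fea06e25a724c00c5d0acbf4742dca2f676e882c556c4ee3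74f8077a578aed149d138ac3b46ec35095dc27cd3bc5c6ba8c400ee809362abb1dcfde59dd9f5501d459755ad019f00fdfff15624536df11712287236d29d69f39ba91443f7059a5766468ce46c68eb83558c0c822b9a0e7be7f08bcc37b484252856634308c13cd7c76fad29882b62615a34655826da82e2246a61ca16e56a7f4b18ce7bc791ee0d597054dbc9b01e26c5994fbc42a116980e9fd47f0a22edd9e9a6fbaebdfd33916bfdd260f3808fa140a4e89fe3d5f971bb60e369de114b762970bf7e265b68a803b3259a666ef94cd41287af437b367d27e9c8f7eac34121ef3ae027352118e26ce4b8a4f8312b49237f9988d5dbb3edcfc3837a8569ea1731d6caa0a7e83caa24052e51c45a3364459317aaefdcb762c94fd14f8917ee8751af91873bf50afba2eab65ef8d751b3a5a3002cbe976af941f4709ad6fb7686121cb2b4393a4cd3a20eb6d07b875a8c28cf1e10ad9b086092bb25f5f0da11e04d284a502e6c325d038c31ba1f2f345091f06a9845a218d08c7941d2df4cad555a852309180509186abcea321e0c758f46a100b8ee755d1b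5564d6f429404b6e800ca9b462723b6ab952a80bae03677706ec70b86b634356846c1e53006fa887ae5c8c05e78e61e460adc0ad4c92a4f0305ce16f42b1686f8b33af50f31a6182452e935b7385bf08a67effeea2de0a387c018d86399c467d580899a97770a9c88b2caf849e69e38789df437846d7a6cecd3bb8f06385634e730e1e49c39741fb51819ecd3318cf471a1386030f16704e361ed396440d16af90cc2191ec548f6fe5d3bd2525b05723bcc5555f08fbd7c64ac649008d22831904387aa4f1a2bd6a0606aa505b5b7475d28e2326f555195bc8c0cc54f9ed7c470f0a24580a39087c71a027c75746c6a7d37f6c1770243b25a17d3d8ef0e3a4e7691ff10683e0361ca58882e1ea61a0c3fde6eda0f08cab5f4066d626b91bfcdbabd856345985a184f8d1ba589e0ad792cb1b7d88bcb630b54a24af5a296afcdbef05a9953e2579dd0fd3b29c831a058ed0b9253a822410f2c3d24908b6d505090794741a3f65571f1d1ccadefd93b7086bd657d38a7d0ae48946c7e1d1df3f8f870af1748ddc810cf15835f093d854c3536c76d5041f66da1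a69b91cc7971c59de88426b7a3215a0a959940d6649463f57534761e1b2db932561596016892132d939a593f00a226177c6decf3ef124287cce808956184c29a1eee99f4fad61260050e9d85ed9a6bf06ebf4c9b13dc60e3cdba9db951257c1a2e98c3e44143e44881470183c5066bd68e65cbca3d803c7689e74887847238c54a698e799810ee27cd3d6e555e7655cdc94024615e1834f26a8d54124e78e6cac5e22aa0fa59dc0ff097e5d4b29befc6682ba7672f088636de1a9d0405675bb8367dba7ab50135d10333e26e0d3edeb2649359258191a689e06a9ae68927c6e2da492c394ea1998789155fff8a6132842b79d8421c720b064355734965decf97d0bff76abc38c68dcd261d018b6da7fd7f90b78215a61f687776ef1a8e7b7223a060e9239096c49e12e0f4c7833f6b84f620df6fce5ad88efa60abe12d88fbd75423d888c5abeec538064f3915bc4b5aef2bd004250e12df9a2be6c7784384b92e3b77333af16ef5ec3773056af3b343fbb14d216a37ba1a3b87368b11526f2a943ed4f99c746937b44dedcd169b3b6dcca787bf718c5e52e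2dbd8972901845df4662486511e4736a8e5ae6938c663142f940cd59ecf7c12ea043567d3cadc4c4e117797d9c35bf309341bd013e98f8420412cdb83fe6c92788e4589006db6ffd3095677f5d902638a3093de84811c0295c19adcdc9e291da7b7efdc7318d4d616ed8efccc0988ba5a23d9985ac0f085b1624ec951f4a927ff5b2167103f021f1ec53e92badf4ac16bfdbfb65f29cec9f6a1150cf57648020902d32f68ffae84b5cf8cad697968d1d6e15f6a1b9a4e76f10d949b942cdd2af0d0d0d7e337a0929c63162e1d37a2fd2d502229a87c70fb00862fec7b1db9ac202014c9122885be0b41655da6fcd3c6f50306b73ad1912bf29155e044ddf05108dacaf4fd813fe6433803f640ecf537a3dccc097d112a5ccd98485d463304fc20ed343edef4b5eff7f5a49cf8b087f24bbfb2a6718c03788348e0eb8ce9e3257460a3553da69f1b854fbcd1e81e510ee11d349f1c6cc952ab8c7f0a95dc8e2c0ea8cd2f8748439838b2a59d857a37272c314a89a0543ad3c1c27bd6d662399a9da4238ae6b7d872cec67063407bd3d4916393e5e7cbd93c1e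1af5f33155c796363ab90127196edea59d53084de67984532559bc23275588acc4167ead2b13a9e97fd7d6732df440bb73d360bfa0033c0227b92f1e8afa10399a471b27ad1e44dbe2bea50fea27dfdf73b13452e95738881c12d12a11b9f0c333d993c20431bbb074397bdab5859de05344677a9fb89f684af05c0d35468033eb6f7686a0434bf613265bfe5562078090b359032754860589c4dc7f2b7ed6d28d0abf49749f33adcef684d7ea61be3f520bad5f6104face9f27bd1bd6272e6d8e526dfc291369946048bb36452a0874289148c065d282775f670a9a3cfc881d873995c0af64cf898144f93045cc89a1ce3fa6cf42f9b5778f08081acd7bb2689053074c8eb7e3e39cb403718d045a522ce6de9d4487b77539ceb71d6a5568cdf12ae324cf7b8f9a81b8d7f8678bd78f3e626305e823da7f23734e2a29da0e4d76f57f99898036cd2e0accb538afb317b55d30c22106f927ce1071590b008685f6b5321479a7fc4827aa9a56749f60233c275aba2be34a7c9fb9285b0c9cb4b58d2673341eaad6c94010e05dcf891d1b1c888d0e3711a49ee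56c4fdadce02b992abefcd758bd75b094fd3def51c3c866eb907ff5015001b5b6bdab36bf9954b3945c19280b23296b3b989876ab0aed49265bc14f2f4303b8708cf30152fc4d06e68644903bbcae475be963bcf45b3dc094173c6e4fe6523e79f225df890e0b522502224820a45e2a5fe4bed1d863a8303e768e89817ce7a4a47f49a50a4eae9a677360b9a0a3418036413486d074c94934a91b5ff13fbfaa9f6bb82ef03a99eaf3c9e20c5346e5f8bebe970de069f037f6f0fbe3529de5556a58b01528fbf6cbaf5abb4d44055f2966f3902f08bbd3953bd9ad71efdbf60623506229bf264dadbe4dfda2d76822d155851b7855815be4c0b05dd8331ac46abc80166905bb284a01dfcdd0644e2860c26c9e02e7209e35fd8d23d758eb0d1a962afc95cad3223c42b20765a36c2f3d222b0b3504e94066f96cef4a10455875ee11aa048e26ee2e365240a5e6d85560f99c3e281f826f01d77549909febe3a6b52455b27577f30bc646a5adbae38be87646f1866e3b2ab1338d73e72a9351fed4495fdd67c7a18fa10803f4de0573ad36252a1d138cde7334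bbc15c932b654f4c43265ae3078bef35ab1a624b34a9709913e7e87568140bffd8f74d7730dcb89b9fa8e6f82edbea20b13c3e4557ad992997a201300708c3638921ab544bce22851acfae78a54831a45cb5da6112bfb619216291e7f3b78db1fe14cfdf916ac5a62b97f2a2e456519bf67a9f32fd442589031570cb01c3ab35624f6edf0fdcab0b2fa4c3d4a1137a164538937a7f179b1e01f1a40043225e3d7917b378c87fc0c4197fcf6b9bf10c94de4cd5b8308c85bff13f2c2799088fc210dfd6283ac7203bdfaa1e880dc0545f89d8135e743ec3bb261a0eba2a3e059e2a4c2082a7c6cc3876d6ff03bb95a360553f6ec32854018ad45122cf7244b724605de02b0dbb05ddb2dc4f6e53ed749e5a6101085b247bbc5bb1a24084cf1136de5748bb3d63c9494ccc6ab6075672f3fe3ec6568b6c45abe33638f8bbabfb696d05e6bde039f31e40fe83325682bfa25bfa30fd58d8c9afb1605d7370b9a43b41ff561813f3ab2580d86f75e0cce22422f09b1c8a327f3038ff5eb7d17c7c01b38cc32c2a5f4e8b305d5b498388478da62107f7f16dc5649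c058dc177b7076bdff37a80fda7621d280973ec54b5e2ad8b7d56a7af9f2781894b7cf67909c8c8a8ec7778b6e71101a6ce87b7f6d2916d28ab48d461604baaf5cf843064fbb597147e0ed19ddef671127357bd39e00a6d75d5f2a162019b088b7dab8408e25afea1cb5b3e3e47bcd3ce740a6a8983c71b7357ff30eb28ade4d3ce70611c50216d5282cbfaee22da73fdb67e3986dd8af8838419674e4859c1e9ed1b2ba38fc889df7276e6b8671754610570021f4c0af975e45efa7d105fb9950f892c224c5949b0d4fb4b5b4c50a032ee92992e8498e97c92749b28f3a420834b0279ad6e197f0ce6fe56aeb0054c785cb1f51833d3e4192356d709e2349e57c0a5874b48dfaf48a548c92ca64e86a6a7d9617faa2b9bb4ce9a2e3c7180cb805a9031a1ac01d26f4bc4276bf7fa1af2c0fb9e0d0ae77821300abc61e6a6c3366287dbf9bef63e6701ffa43b7514f5de5a0460492d11b085ccd6441c821dd9110cba8cf287536a79ce4929ea5ff069b07dff2ff7abee8b0e7085d5747059e8aec07782111b1e556f7ee25e4c84d9745892aad22a340f30fc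af81d28bd8d48b7551208c1ebbc94313a35044973eb717238ab2e01c7e63a9ecbd27778c0c5870a85e153ac4d7358fb1ffa985a59cbb812b34fbbc89979d29c7f7cf8031f3315e415ac75e745cea5b4288ce2b4169a8d6594703f8d31a5807fd8d5e13c6a1eb263c004fdec2d5493c07951816df823a0442b8d91f157edc9c6e8b05dbbf636d365c93ef0cda3abb3758652a7244160d798a304a0978d957263da1208bf621f12a4c65317dff46d6a82a1424739eb32b0b0e87084c1be8089a085a575cc877be77443e9a9b0f7418538b1a03a909a82190d23bfbc47aeb583172e06e0a10b47c916e83fbde4db57087f21530fadacc0783205b64d3bb78a5f6741230105570ef383c7dfd56624fca37484626cdaad87b8af0fe44a0308fcbe65b137928f37424ebf01c73aa5dedc6ce5b39f38c08685231f972ad9c09a9aa9fd68dcd35522d81bea74a2524323c65e1a2d25969052d515f64798e48dad6979b7945cbc1c6c883f3ecd5643b3a0121d986a86da8d41ec07d6c8034934592f5c9d510ada13bf1bbfb3eaf515bc0c8484b5168273295bb5786ae770c2b7aeaef17174a0dcb36536e86cb23241c52d98517f8cbc17a1b74e4e80f37b1d453a2a09a6f892515c408ed24fef0768892e7cc89771c9bc33b70d167088765ce487c0cfa37fc8975dd2ded602ce08879286833182f54fa80)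
def U_d : ℕ := (nat_lit 0xca9a9f556e0870df362dc56a2414d270be5c860e4d07438f15afdf79bbb9d36c4ef38271f958626273f2aff861e775bb767c9c7ee671876c7d4212a363d94de1b8a2d468ed5579254d1f3195baf395dee6fdb0681d7edfea1c04a570757e0814d54580a81872d73720f679d4456e6ac7e3d237f7417fc6f67335ee0c2b87024301717307626175e6727eafaef93d2b17a5d95f1092ca1594b589621dbe692c373229275b38c58cf460212b23e1e9d12eca533acf8ab97fad79f991ea5f4a7a817fdb544ca44289a8f296a78dc0cec81da1ab730c5e748b2fc465d871d188bbb9fc8fc1729eabacaff8ecd5cabb941d8977c9355c0ce711b68984403eb2f1b61a9e5c44d3ed24f1e3750c4e8371381d09c5d9d12a2cabda2bd55a4408382960b73548605092aa70a030a704010df9bb6bb032eae26f8d08993295dd741992f733f8dad75088ee11009740bfcce2a68f1a36f27c73d7c54c42c13059635c632a6bc53f235cb70dd3f25ae57384ac6ea075f1652729da20294d73bdd661f0a45c75e1e698ae63967a60f586ab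ba9176d8a901a21a7669e588bf8fe131f3a2306291c5283fe38045c90519cab690febab8eb6037ecd0924fa2472dd7fa17750d870a419e98c39f6178faf93ad910a92bb9355a4a9dfaf83b44a73cdd3ec23e5e48fcb86762723d644d565ef62297422954d033ecdba5ecdc5114e02470599ed4ddeef11bcda6c7bb2fff2ca577762cf210b4d6a1fd7c67560faa9f9597e2bb41bece0f7883bda362477d20c27448841c0b70bc356354543e03c8e8994c7ef6f2511a9012194de660b4d4174e7e20f8907adaaab06ebcdb0d1001779b73f18ae2eca69f978d866d23854976c748cade5445ad0006d31d3843204a9790dddb0cf47069e5551329767d81c8e88336a08786490ca2bdd045deeb9a9767e228422826066d3ba0c14f4075fb356d39d842f320a7c4605b84d52a182d3041582ef0a3c0de853c04f1c4f6a0263ae234b2c1b49e7446d06d5cf2ab7e551c95bb64cd60770c61607150242d46d9c15dacaa1fc65ae75c75ca1bd386269262d3be309052c07bf1cd6a274668514c7792a49eefd683cd78ede05b8bd4342ccaea6b3360a9646c0d276bfbc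7b79f327e65fb626cf7729b199c5d13b1a6033dfb43dd28f8c6869e571e4791f866637a308fe401bd93e123692ad565331b069e0d353687fcd48cd1e995f021756424c2f4c99d18c7720eea8e8a8f0710da54a9e818274a37f31ff2285ee3eef71bf594c63daecf4e6d01a0c9c1b6484e62410fa8eb54c5e3f7b34636149c808d36606ea576142f9a26dd8ac55110c0aeb4590ee8845b2aa0502eb3c05f9ddba811f3399abe0151e728c715b3fa85d6cafe91c5befbb5f6ec2d395a62d2f55eee3b801b97c74e74668baa5499b0ef00371bff3232735678e60772e6a1a3b37f6bfd1dc1627d4b8dde0eb1dd5e05d1990f7d56063fd832645f698e2bd44f6e0b9ce18dc062d34f5ced1b9734f9cf59e3314de79a81ec790b1c9d53e15c5b4a091df740de0beeaf6523e5d76daa562bd476c849857bc738b5a9af8f3aea1518542a45ed480e9d691f951b3e04e13db878a60b8938562745dc2eaaca73bdb0d5082e5d4e0f64dc229a194557cebfbe661483eb34ade577d8b3ce1f0b206ce14995b6a1381d26c0ffa5d80e43bae82b23dc08715a9fa407a1ced6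aba07f48d956b8d18d86a22ef7a494939283e11a3fb3a08ef47aa88a44cf5906d82e320860c5faf7ed035454dc1388ec5caa725ede2e0034478ee8697549b3813b8bcab09b5ad47a864c685382147925799be21945a3203588310d4ad40af49bf381963a8bd28b92250cdce2dc4715912a71f63c7960b5ec336b9153d3f2260527dbf1888579691fc2d4b4b6bba7923f905262fae9c7ca8916ad41194ef4de3264aada60448a880bbec557de419e20bbfd6a0984b271a5978e6d53618083c62c9d29070b454e6811b48668cc567c60e80a4611c77346d4e39d80af7553585b3d45de71dec2e78c7c0942aafaef63ddd35b5b780a709db5cd91da0bcb8159e32f4ad5ca548d2dcc6ab7a0ef95e6a81ef84c29f104ac6e51f59c32ade7ed490b19358b3534fa356d0dba47e2a7a71413d9c7f393f116d477ae4ede82e24e33f57fff8af514bb5aa6d4ad4ebaafdf79b80356ace82bc1abba58fbe0b9de02beed78ce566b69f4ae309c510c9a3a0594839a287d705664faa496f2626f5d7f67927be163caecde166a9de56fb9712498ccf6e8a94ad2c75f84d0f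9e948fe1cb2b003d3a7b6aa453800df3822408bc5af8acadbc6ab6f7026858b64c42e501d0ea58b2238a697c778a8444ef1ca3d7c89f1126a4a9b3365d7342701c0447ae092293b7e6b51e89c779f65ef1851f267a7adc0c8b384b80b0bb6b41992df8ce52376ce3033cd11b94236b6eaa1adfef7f1fc311518f0a53b4e8baef0121f20fb94887650cc914a1ca67402c8acec4b443652ac685850177d1fdda357e77c458714d09d9bc78265ff679ee6ce283652523b97b82176f9eb39dae1a5b845d397c90545b91e901954eb3c617641fa3135c8b728bea3abe554a41e46a4dfb707439edfb50379585a9ccf48b34e41c2e7a9a101695129588c6a66fd7605e3d14306b812853b7e64d3dafc48945e72358d6483c3881e289baa59fa713b59033c43facbfc35a5d5f9761b5fe859dd111ea0e8d6e7948132247953ef8c85dedbe4c9adf7a063f7104622e166323e7efe257ab829529e00565437dd8005f5bf2df1cfbc25939376d0384f6d97805c78bd5d1b1aa2863012b17a1e417dbd586b9758239eaddcff604c02e1b2f035d9edc95a39c0ecb6c685b0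8b49186e105ee776ab56a46bc2dac192135451742e29903aad065a633e6eb2b6c65c19d04bc5710dc2aa6ee83e981391f696c4d03559e7fc7eb9eaef156efbc5ff464e76753cae7ac138b89f604fe508e7ddd6c0985e221422d98d1798ae207b642ac05886dbfc65a4a05a0664dd47b2220ced5273b2a1f4455701b2be4d997638fc96ce953d67d4109aeb89014a0008e3d918d600370cac390f1e48de83b936871fccf2c48e19735f21013ecb42b6a7b794f67c4920b57dd46e16b616036b58e017e7e6bcad6038bec84cbf807f459f429b7417126c9669c3ddbadd2b34f3b724273eb225a148852ae2beab2718e163d5c2abac368149c9aa7c31e60559a991f3958b0f5679481b503235e3e6ef50e68805a7515d325feb1e9c81f4640d53c6ef9ac9fc91ebde53340924b59f6fb02fc130c9a0e9b234f64f191535ea361805986babc687fb2d94e9236c08650ff2e645c66eb8a7178a5ec6236b6cc93dadd514474f278fe989e47ceedfcccf6c612bab69eaf49191d5af3edfe1455553e19556c2bfc50ede218ff3b1002f1b37cc2a30371b725ffe18755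c0e5181bc0451b97e3a0a7fdedf2884ea7c112836b2e27bd26475d4d276075d98fa5ce65b79a64fba3c11c5baf12b2c9704133bc3cfd8de5c91642e67c9f39496b82c4d24520b297c2186315b520e259e882a7ee62091e2dd4db6e05b06d9a5a20be9ba1527a9e70953312a171fa52040ad46f5223a232b4230664be29aabd9fba3d8ee555add3435783ea4c2a6faea690b4241b90503ecea0265de46ce511f904c483996835cd9d951e357737c984392be6ce530a57d234a5e2f340b4fefd8a2d0e685c16892bf3c78d7602f2a3045c56cf07c0178aa8cf872c6e3d70e4dac66d63d86c17bb42848fe10f0e0e8fb02047eaaf89b3f6096d2ab024ddf79b45d10d6d223e1e2e545685a4a22c56b7fd30f32e9103ff9d4c48def93d7b297d9db8b5dedbc20252fb0ab79b910463e1021ced79c17a8a1289659d004a79f9ce469036b7ab71d15f4af02c32afaef74174a9aab5f168c63b08b0da605fe130fbb09099e15ab0e9e6e7b935c794526fc65d3099c9f3eb59c3e8fb30763dcf997fbef53bc67a96c15720b9ff59d5799a00e2e4dedcb6ca43e77c2f4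46f1abf338b5b177ff3855dcaf4a72668e0956494b137b966ef055dc67ba092bef17c1e58188d8ad5e2843495190a406ce9f1d24099ab8a61a0563e74cc37f55a9d07af816a11ca1c7cab2d5cb24d48b55cd46e79541b1a1f87e79394cdb1e4ead84cc55d00a6c572c34403713efd396bffc821750250b7a6e3780a3860fb90ffb3bd11d3f1b4f8ace19f3db421def68a14ab5a396c3d1625c082379d79b67768a0e0e29a4a8104e1d7e17d5406bb82250da9d7844127344fecda47df38e38fc93b14d03f4e31caf3f10c7402619e48b7c8ce4a50bc854860772a34dc9b267d678472b0d581a96602a2c9bd355dde1a4c73e8b4308b1c58780c634ee6f914b186af0b3fc6da9b9e4aa8e5d1b9590e272443292ab8f260ea01afe7411f35f22a42ca1475aa67dd8ab9af298cdf86d86c4f5b251b6daaaa790630b5e893c3dc9ac6b6fda74fcf02a90cc6e18c92159e9e90a219359cf98c3ec6889ee6c964c83ba58854fcbe30c62918938ec1fa841152c73467d2a32c1444e8594359e1eadeff8abf27559162b18c149c8c640023db7b385d20991bda041ae2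868e95ba71c05d5dbf594b49e5df86dd63497a5580fe99fa1d2405591c251308a5aef2879e7554acfc9b777aaee2d714d81003c133c23ffebdf890324009744219e94c44806c565b1758c1f74ddf261fa9d6aa332d0afd9f1cb2f3370d097a244635a255ff5836e9bc150260a844120cf4a33224e3bc911ed62b3bf6cbb3953e16e01ad15cd507ed61b1ed151a6b52609939469b946a07fc18b885af076bb625d4b58aa9cebab999544f3b44290b607637be353ac19f8ec9eca111f383f3f6585ce0520ad731d1385cbc6396f345c5597fa4802ce99e3cbba4819f1a3a57c2b55a7dcc58a7b58a79371dda86598895be7606b3a2624dffe5bab8f827152873b658c228686235c569cda5255a70ce7b27a42352f91d2065bb06a0c08ef43eb53bf2f5946218363d4936ce947dddc780462d09629d48ad1d1f0ad2609af2378d44bb7e5225886a9bd54da0c1273b54f9bf7dd9e472a71d6f47b6de6e0c4a991a709278e6c7280c54e9f8b6090f080fe201565c5deccdb82df4d80ca58be712e9714a435aaa0a329a7bea937dcddfe3b75e7cf6394e70ec87f82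84cc97b2a8c65cfc2d87c6df4a5dd79d7555b651e59d43af6f322b39324875759af1c23363ced9e964b6041ee9235a95969591a147d1adb8db947667dae84837e2fb4ecbe32a0b1530095121b7b34d92e73906e553d17cf7239d5002adf0b80b9ab7afc969ad2ab5ab92afe190d9e1bb978cb4bcae9cfa04c4f78dbdc978cc4c5a80a058bcd6245e7437b7a399c52a1e9267cec8441cdc5e71354677672c52b2209a015f80ccde4535976449e442c22c6d60adc7c7396552499350685c26e95983aabd946fd9a57951e5b186e98e08a8ad61c80da3fe4aa13fffef581d9a9a6fdbe12d5b3c6121f9bf671c03389b01b21072a53a2b4efe1f440d205547f0c943daba2b767e1c1b8d3c8b8b04174ad2df5d345ce0ed058bba54d9ed977c9cac4a69d4a29425386653ece12be5ad85ebd9ea548ffcf8ad76196593282bbb275ce4ab47f08dd7eadd0ba83dfda31cb831ea72f431f2c55989afa0953afa0f1f49946eef3ee5ea2c5d2de87b86ddf37d24bb7d443dcb0432763721ba0208e3beeaf9fde62e1513c1ea4ed92767c44a097730e3618b56995bd5a2c97b91e1d03b83ed98fc43a0768958e383ca1135a0c84f691a58c0bf5f425e90c0a8fd38f4cc932f90ead83b4eb0d3243224726078122eb0bc65355ea25c99f57b01c44cf689a789e1210da0f93244ae85df6baa2280a538697c74)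
def V_a : ℕ := (nat_lit 0x1bc429ec37656aaaf669b7aaacad2c6b76057de8804009bb5f54228dbccb6fbfdcbb8496b9dfd89397132ee71a0ca73ed34effc93302b844cbe6c12487f522fecd77ca5d9325bca13e8690ac7a20aee15bfa61e32eaf8487fbdb231fb1f4236b7e788974e4a428332041ab22338c3c329137f1eb07e3b0fb8a775d0df80d9c28630b96c27c629da3985b3fdc23bf58a974fd341921d8d1ba20612154a528ce2297da26da058d390f6ee73cd2dda8cfa9e570fb096c9744b091b3843735d1508237a996d710e80dbf5d1d4c8226d24f0f22ee170b530896c55dfeaac578031481f934c51b1616cfbe7bb6b4570bdad177494ddb9d77d00b1b461bd2f4760f382ceb7dcde35a3f1362d937d80094ba09d9234a31b483495a28999c77837896b05928c7536f05418d2c479f015d14aaaf05b56d7744faaf1c76498d30a7ec325783b817c4ea118b0e1d9566e2c4832849c269d757bb334af936f53bdb7c37e239387459d927bbd2db79971b7a862d088b6f5430f4ea181cd8085fac6dd86e14adaa234d8963da205b0efb8750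c99a2cc8e2a1042a620869ccd3c57770706c9be9c4ec4cd45eaeb42af0b33f747204c71a659ac95f2abb2eeb3dddbca8a145ec46acf00bd561470c947834afbe477c9a2b347b0bdbfe70ed4748d98b13dcfa7a70b46c47316121b6416310633ab43f445f8212f5c373987f11aeecb279c8e61d436bbe33a08c2719cb4ff3f61275089c511ca0f2efaa4db8d70440c5c5510d61b5b666318e6eb858b1ee84c8c9c40e3ea69cdb405f1bf53b7593d9d09e5c47564e57ebcec15eb7b7b9f9844112cc56a6b35db713b48a008eb305987a88dd0670f09d89ef06cfab5d8aa43a1de628d108ee54e88b78c9a9bc44be9cdc916ff5e0f694fcd1c1c14d196f58e9ec90aa610f213ce3e3569fc4e693d55994c138d7df4f69a0d47bcfee7606de618e72f5de852037e78f9f5d3b7802a5b3740f583ae4c99de5b115c42a4fa3a70c9cce53873e557a213ec2b16d50e87c811f53d0a85d909daa32988ed3d65d5a6afeacf99be71f84d8cf4b10f967ec7ea54de0492e046cd876ea5bd08f0f27ca4351b48b866ed518d581e8f15e2163d1fbe2ff97c9f5ba0d49bdcfe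88d79c0b6d065c851f446b45033a289d1b6e88f78b31e68ee57d8f8294b285340fdbe2109c62a6ddb67cd61460dd247adff8e6e32a0710a03b6cd3e7e63ed2ac8652960b548b8d6ebfa73f627aba926552944ea89fe0e1d2e3164197f0925ec2e6b65b0484d033573628e2c4b249df85d29e7d0e930cd98bd2541ec617db0e3a0945dfc2cdbeb94c0c3bfd6d4ed99602124966d86607a9dfe63cbee35a163719cc04153d8444ede15f70f39d4d3df314b5e109931a6f8d565efb7be1979d5ca1ac6faff332b943ea293c7215d11abafbf8529e6a24da67c16f61d5878b93d3cec823c6a764428c4478668c45a85a892edda1cd9cab252563e503309044101cfcdee394cef867f4a1f0c39c1d6c4a5ea30caa613b2bf0b9a32ebd48899928fea2642bc951740d16864d223c26792a4e957c024aa834935c2c099264a0a83fce59b95737be80d7c220a8729d8cad0de0ffbf222af68b42309bf1c5cbd7fbf76233a60e8b99b8b943296797b4cf975d3230253a3826a3e07d725463f3bbd45411c2ae4eb62a8757511167d68e461fa89d2ba112dd934c5fa6866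839c0767bd4b16e085b23f9fdd14cd931734b64545e8c6b36fe0de452fd6c3d3c905ab511d75606815b22674b7e758a120b87062d7b52cffe60432a28c85e0f90b3dce66c67452c7423de21ce04c1fed3bd2b163b285e4130b4270a608bae2f37e76911c0cbeef1072f14c05d812518e945b677e8c767f8db706687423e04ebe3e1d02e8668555ebf0b1787952f51d8f390bb8e681ef27557540f7db8efcfec564e9a3834fad09eb4aa195a95749001c28f9c24faf455826b168b0c9f9c871cfa42b6687a68182d99ce17084c3d4ea9839e0384f9e4d4be2242e6c15fa8316bf2495a89385f1a4729e094c35d10ee2be5c011f294bdce00e355f8f3f0fcc1ba58f6060d405b8c054d87f71ee0534dd857dc774ef299bb0122513de95a68683e658abcdcc991732cf4728d8f06288a72040da43f715d8dbdbdf538347679697e277f678b37e9f7e4fb1e23ff6b60cbc9cd376b2895a84bcb230de1153b77450ca08490e7d21f314c1de061b7c0c1e532df29c93214fffb47dcb65d20b486ad179efa0b4b7d5a9b8e598373842ce4ff1ab31815400b959e2767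8a14d3a0d1923f01011bbaf1405836f25528c1337295ec5a4a1007c678127a0989a3eb59c22c54f253dceb33dd1cb1cd49778699d057b34446db289a6fa714a48c228c5231204ae19acefcd1f3b15d10ac921609151f6416b39e42c18a7b43aad4aea9a57349d823bcf207d16b72173abcda3a5ced7a91607e141124e71e205f30d0e2a195d081caa638615666baad9fd7a326ba5099d48a4c2f177a962a77104730fb4e3f68b22df9617cfcaff331d90f496b88c32442fdfa360b101e92e0904a8bc547cab6b81dcc8d2dd8111eec5f340a2a0c795a3bc41af4015e3aa715437515c149fb48100d44fb3c7e2804665b39fd6c0e32899894a2529a71096a8199df98c6631a6815e3b94ea04fa0be3d974a9cc961f20f772ab54e04bed39f003ac187cce3f90f4c82bb0bec04ea353ad5fd599019c5709a346edf22a0ae688ba119100508a7726e0e2aad2b6a9c0382bb5566f1816998de0e1238a50b2d3f8f899868a7138996575a2bd7001aa262e996717e2730085f9e5588e430d19eb8823916bdcc1def908f0494eec2fec8b17c750156c70bab9ce3f09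922ad0ebd5b85b9ecd918072a7dcdfcd0917826a68031df257f67e437d1ae4866f8c3dcaf472425c30ab00f43c38690fb102b67054a68a8d00afa4c635ba5a6853d4c6d327888a47fcb6a82c3fba26da55ed6903a2f9fe30e6fde9290eb166cb1214d5b19313e5859f13fc7224a03a1e0475b2c97f8f6ab79aa900fdcaa8147d4ec3f6647929420b43ba30ec871aa11b069ecb8ba5654143490475e4bfb399536d5ca59931904c50437ce3503f8355d6dbffef782768c35ef2c3710de5b89a2f744584c7be0836876af52a8860bc572af2060053ccd9fdd3b05e5da1fb87e34782368014ab9828c211c6cb201221ef9853d3294e6e1d1d561ece3ec13669b740dac4d3fff63bf79e77cdfcfca15a8132ac3366792e4bd5522a3e9d3bd11095fba4839bdcae0add5ca58941d8bb87c4a4ccd5c0e6b6dbf9815d4719534c260c426a65ce88a8b02cdbfc9e1e50d78e9af85b07576648becc237e8981827fc1af77db2336a4bc2ae96cf3af7f17ab6fc934199a1c8ec8846f21bd1a4df8bed33e83de00d9155a30cdffbff60bbe99515cb6825ef60b67ca61305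d448d6beb216d8025216accebc11df0e078e54ab7d93ef1d0a343bfe3de9b58adeeafdd61baea1015e577d931f26335285d8edd2f316a5b741406b4118370fd4cc090a890d62d0009ccaa3c8ba11833fb285aebcf0631332255251642718e34f85b2ceb6dbe6d147600c6007db181fd97bde523f8969229aa58f727cbcf32155baac7e139ff6432ffa3821b6b296ea6fd32524cde7675ec0222d31273a4e87f4eb2ff0ef607bafab637ab279a427c4a533e074d2a393a176c0d41787fef66e5402511a5b2b8ce196243bfc433085a7e1b818428f52cc147c63de5aadc4f1b252e6f780470dac7c59471a5bdec81327236a348d3ac0942b43d6a2596cae2365881407c8d415fdc9a02b0298e7cbc1a3cbc3fff58e3d2f570483eec2d3279f668c2fcd31c68158674d5894854f36a235eaa5eb33056b0ce63bafd774c39eeb14f8a70c7f055a51c48bad7a80a6af6162ff9fcae0850664ea3b1381b4f624b8b840547ab3e3089af808bcf6342af61d233a11eeb5f6af2f58ca5abf47e2e17f4f580a14f850e1411ef63aea5fbb5b5d118c2421bdb970bd0c36c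3d2b824ea01a35354f75f4f11043b1c4ebb0255c488b92533501e34c4b1e9ee7998a37cee5143699d2037de83a1ae6a0b77d5172cf7ad70a3febf004c17f07047e356b9b27ad82dab2387bfba8fb103321e255427a6d4c4478ee848cbd6891b696e59b85889b8c58c7a800cc241717a589cc392f54023a9c7784433c48f19e9550e23b30bc797ce4d5341c7da9386ef3f910eedfc3ab8f7499715f7946f952e7d9693d1b98418571380e4ae441adcade52711a30d959a60cf0dc02269c4303910b55c76b7a813d47f5d4fa95ef6d7a82be547a09f9ce251c4907cbd300f79e952aaba9d29e21aad96374d369396e15a98e7453e0766fa347e0785887f6a7c890ee829b49979c9f6b7e53b4182de4cc240f82e246c5e5630e26c6cc2102112247f3ad88e6eed87cc5d339b97d5113112c1064933638bc6571a1a6f5e37913a890174547abcd0ae9291b3a71b65d06391666832769648657464de05d824ce740345248ccf08a548539672e9eff1c2d2511aa1efbcd0d3be1d9d2b092a2ad27a21fd9e8c3c6d77381f410ff9c5ae7bb182ce92cbee1245a6914a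dc9acd2e4c2bb7cd75446572e354ba3418f891f68e4e6645cf571d7db3189c0aadc77a8539ec769fa99850d1b97c3b0f26ec9d90bdb6013a4f55ef81dc32069fc04688057c9b14ed26ddfa7d521356f920c55ed79804e79ab834624602d318c8d42d59d49e86df49901e1461d78e0fe5f3a1c100101cc86edbf43a042329994cacf32ead4c1c2a56be1d421668699f0711e7dda2f8a95fe2fa69c31dbed8668250f6a333f590f6d7ac5921f0d64a7ea86305ab55932157b3a05da8251e1540f9de84f6076544d30275d874ed3a519cd015bcf00bd43ce6e12f52098bfb513e1548e8f01cec7b3538661fbf40fef5a86cf28b93e2bf1ab31517c4b8537846d212d1d31c7fe9a7defb59f6c5a1b3ebefe589428fec41f1e7213dd34186e81f577ddddaba7d90b1be3caecd21642690b92b5fedc34620ac2805792056eec9d50c9bcd43ab2fb492918a62252035ba29e811b6ca25810cd3ffbe822370c426dbeb5461269271d01b253e6c347ed2af41349df392788dc5111f7cc902bfe4b2d2d44ada7f7d6fabec91a115db6b29c573f5e6202486aa9dbc709d5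1f8fefa4ff01b368360743dd0d77c841c9837fb5e44af81576ec13663f86871a5025bbfb2430ea4094c060596489c1baff19275a60c9f974e8c324b693e41a6508b83fdc8f7257b0e82ea9ef9f60a12ed1896d79b3ba5141957ffa0ed7c84f596a05688766f9e77251db9edd896c9bb574fd3e017ebac58ed6c27e05a981f663006038336e7f7aeab8f46186df0a2c7cb7a812546640334b1a7f8009ae58b5aeacd84b07af3b8fc24a2f246ba044ab04d54df4e9d087d69054cba6f78a952df3d25f7a31a204af5c8b10772663c73a84754c3a3a27fdc70e9239679756cc53cd9060054bb642709d415ae6a1fd744ceaa84c8ba564295d43fcb4fb4b682ff6791797914c8036078578465784949ea35c2f467ef175f3712aa13477b3d37e8f39587c144a95b4950ed3b53d17b2dd49acfcff12d0cd3f38b08bb002ce43c09ff345d53094ec7f24ad2e0d9f1c6cf1b05f61dac9e0f54773b0db32ed37e862449bb359f82adcdffb6757c0e8ebde09f54421dd98dd9079f5dd64e39870e85c40bccbe818435c9ff4f44bfd4f4a57ec2684fb53be945c680e6d6b3ad9e6ac79f1d3dec35f82bc0794abe0cc680ce30cb39e79e2001f81c40efcc58135ab6ec157607266eeca7d9274b3ed55b59324592d71db35cec9fc811573efad878ba97b2a1b9fed75a708669613c1198d734367999fdee1344)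
def V_b : ℕ := (nat_lit 0x1155f74238c82ce9bb1101255b69828bbba8dc727a793e9a7876a0cfa95390272678d42bbf61b7d58003eeefe78ce5f793361db763ac103be3fadf63d7a686cffb1a91558db70a73d48d8ae9b3af35732f71f6e6b7f657c68f8687e2bed2524e0bad566237ccd7215c70e72d76c59cece21da14577bf248667bc7db5d98b72d8af7b4ef1d03e8cb3b7cdf360eb50f77fd1cb5031d1448a250f57ca616be4203fddc1d8fdd0ff041e6ad2e3e6195586817d3e8b266c84231f533da3b3a350ecdb6b4e8e89c0a50d8efc344af8e3e8a4c955bced30d5d014370dc95be24f523046b6ba2dcafb49ba35c32de5d8ed5df8823492b30af30c8d4849ec9b909dcf8d51e13dc65f1f7f3d439336de7c1d065a6ce71d75dc72174f65e50560b12d8ac1dab7ba760016615e300087b3aea25454ab1c5a68a9b9c0d5c889679f66ca724f6fdce20d6028b294c112f28dc6d43b74cfcc7cb6dd336f24c4dbb205076f101ad2dc57cc1d391885b1249a0d6a0dc5358660dc63016d1589da8ea286e3e9b4cd844b5635cdd4f62b7d28b3b1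5c80e31004e3af1dbdabf940e27d63f73294ac64c8e6390a9376be81e26c9a84581a3a8f299d4d3e5681dc480ebf6376005008bfe8d823006fb496fdc69eb0d2025a740c00e82e34c414e04920327150fb0c975f1c0d80882ce8261ebb3ba658168a1d2d36c36aad6b16905c0a73cbe4fea74cc9862be6ace78f88d29a1d44288173932369f8812650cc3ccfbe45e80c72a5138fdc47e438d8add37bd7b0a04575568780a80694651d0005300a5443e7387710dae293c707e9e2e197d166d6e8d355918a0758918c0d3562099533000c09b111ff41cdfc7cf4d22c8d65dd11d54d6cd57e325c14ce908168ac5923b7472e823fa6ec156fdcd4c0ef40b39a658a49efe6fbb9051da506c2a729ad2b77ed1be6b72ed9404c8e40c8827a378c8688dbd79e8d057168d92eda3f485a18be45facb39f3b25047a80e53b858fc0d52f6fdaf3067e14607c29655a5f4a6acd18ec81c8535b7fd53db612cf94ed03a8119a3c6b7a8fc07740ca32761fcb643fe293c8fcbc3cd955f19b344d7819fda63de92b08b7ef7fe2a10f3629168678e3e0878407f4c5b2ebe84d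02c29d969f63b3f28dbdc7e30e176a53b65609f7828a6a966b7cf2b773fe3424782382f90d083775dd3b4b0fe7198906683f7fd75fe918cbdcf7b35933c8f7b2ac2a891fa4b1fca9115f58786743cbb117f939d872d0cbffdae908efa0f5128265b49d904a4d4332e55959639401294d6fb68c77e037485744ae05f7d30e9c4d2c6ba01bfe966766660f8e01e82993e7aac76a5abb7fcd1ae72f5a99beb2def5bca71daf89dc2b5715081bc0603ac347deab5291519e894f4df308822dd4f60a6d48105b6f10acbda45cfbb13d945ab6bdb872db5ecf532b7a316042063b5a76457f0bfa90e9ee5103de33231525071bfebc629d86b56bfb6a80e6a3f499a63b106b8fae56d3e476bb9227d8173ab632d97eb4a63992c8b447ba6cc0f2128c74317b4b6e7f893f460da8efc6cf8f6ef5366fc4fb598458d41aa4950d40f87557ff61ffe2312e02173faa7e28a19337d91899a4942a14daf797df8ec8118beb5618ec55dbb832160f78c6fe5387041be9e7e3d66e4a439f2c968052e5bb1834569a35ba219c889a3b9e47b2304392a31bfbb8e0ec5b8897622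ef8944f6220f31107f9370fbc3d8fabd3f51716ca33dd5061707288f4770994fc3ce32b0835b4caf7190c0807c436e5301a725023516642ce004e7f70719df1210028a7ba2aac1c2cbc4c491932c0cb605835bcaa11c8e063b27df9616a4d40a9e39f9e3682db9cb7c6312964582fe61fa608e89f307c7bd6a163b5d649c5d5f05a8e4d5dfa94810f6e67b491de1ddeeca68f0219ade1f55ca9011d532734bb472116011cdb1a9191b7344dc2a5ec01ff44f7ae791fa6b301933065896c0aef944eb81a5cee7af5eeaa46dba567366dddda462b0b9d46b5f57adf649df75bcc54fb303a01bc9c16b6708879ab9aa71fb225d5c591f8d1d729642fa8e599926c717ee9af9d6d36d56e219e2e8f1c5c54901b5f2631d4b5c04d93fe32cbdbdf033aa8d420b52f9a62671370ec5beefbe62d5b2d98ee768ca6bf64c988519288bc45f959cda8423976dd42073413813bbb624f7e235908dcb6f28e47818fc8eab56e01e377ced6e1b593967a48a9c6ed01f91d531d52c9a52eaede489fabf65a83799f601e8663a964ab4e586382179bfddb304475bde4fe99dd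7ec79ca87606daf89e402dfb2fdb831baeb75b896b8b12c23bbd3c30ed1667d776489cb1f09501de2701e9a97c18fa5e20c3508f2eda930f02a2bbee8ba4a9cf10da0b6ed75dc34c4d14154bd53875b922c61248571af56b4c16ac082d49bbeec92e15d721f8669610f7468a7878549d3a05b5645ab867b80e5a0176047a3afcab6445618578abcd11f6a4bf66a60f5515dee7c5b207470b2c0385be53e46872bf76189299e9e6b7ddde0b4c63b505a011e6f7e15cbdd7a3ae284bd1401f4ed981db2bdc8b82da6ee1e246e0e14eaf04803ec877be39da7e9fba432670fd99af4bc13c09e8afd1e4ca779b3bc03b3a2583bd96c1af009366d4e8ac57268c3b27324d65113288630920955e9cf846213ffd245f2126fe4dff21f5e37bdb9d44c5fdddad420c84b2a0c916a8967bba936cfe61c009ffd1832b7a9176f563df643797a1459927461d908297285fc3f9c829113dbe9475057da251642635d1bc3e8f9547878e569a0bdd5c0d4228bec1f8a3c69647ad3b0b46f395d6ade936f4ed55f98e79e1e423f7e5201e1305fd856197d310b1527ed291253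de58336a4867d941b4bcae05229727c81803ada97f140e9a4a49fd10123a6c8cddcf20f4818e8d4bff7e42c56aa704f066677aa86e3706bb6f21311bd42ae15362125f92a21089444483a861f4a120bd8c77161704e64bb081ab96fb609f5afadefb7087ccaf4155ede713944369b294ef99e72b1582a134d47aefd8642b45f62eec4063d999802c6f47bbc66b674356203a0db726e55660c78557be2fbd63e96f5adeac09c9bd4c6a0f5e5fdf5692729ad30f7704ec068d5e802603470dc9da6767275d3a2a28630105f3fb81565f6049f92662ee0c95a921b05440bed780f2dae4e4c4e85c831a7afc60e0d6713da1676be6e4b299628a2aa30ffd3d5a3f422b6fcdf90ba5ccbe36e06e3124c321b65e90e2f9dce49e79409231944bf5e5cf4dcd64066bec2350e8cd8d1af2150d8e1a85a3d49a6899986c141a49d9604faca0545ab6972137d3f8bc67d2847d5275c72c5a9d9e91391a8c0ab1adac0f9fc3bf618429e76e7c8d2e6065d3fad0a3a928cff2b63a0555326f883a625a11ed2a9dbb9a198be85a76b3d9d3ef1fa1ce8676c474a7c6d39f46c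4b30216ceedea2c8f34d02e98e4c243175dce9df4cf92e4c06ca5297afe51c1e735dd1f6bb7520832e9bc15a989ee80342e373508948a7c75de208ad60af011b99bc9fdaffabec3b8cd3901edd4f46555f04fbf320b8e4f602b8d7705a3dfc91bcfe608a0b0bc692d60aff8f8697cd2f4fa9f5e22e0f00f55d85758bcce53818da3b7bcc59e7a6a21e6b639b4893257fa16c2d0f2cab3b899362343c2e6b40e6b4118cc1fb1ce80dc26838174f31056eaf780fbbb3b361920139799fc026f8797e1bd2ac51081816ee59c6f85d2a8da5453ad507db05d62cd8e22e2a89a6eeef86b9ab311b3d7cc55c23d66d56c3ac4d4ce4f1cb4480bf7da3e24a24ba173649d431ce7506b8d958e22b64b63dde5460a7c97b1b7e19a30ffe791c08b040ec7fae7227c91aa5dbfd7191b0bc1230ed498f501e4acf685cb6e08a89a6edfd8749003d6dfae8ad0c369faa0fa4b0a6cc58f327c32bc72372cc12603badf9e65fa159adcec221a9f692078c1dde32fdaafdae6ed3195b19574584eb4878e0e2f2949114907dd735ef666ebbd959eb8506f4661ca741b8ce909de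00134a5f3726cfefff1ca481be024d66ceb7458a10f170b5c6b7e272f7d10f6d5401276a4723efc0bdebbf411fcfd23cb6f0ed8dd30e174dd2a59b18b0cec8673a2405c7315c771c716a25c62cf40d653f6cf4584b12b860ef0d994d5db28dab40a60d46c017ca0b2aa9dd1d9543f41f4010884c29d8ec5bcb7154570fe52e6935031d26ee224f60f918a96789efa42292d647e7e30d511c0ebac71434b2bd23ed5cc3204fc4ae9773b583bbe965613fab70a18d4a43aa653ee1ffc38ee26163df0d903084041b09788277b4db9b8ee12922c4d08798f00725e626b19c331d14e69290006d6b9a2004388affff5b19f06da6ae20107a4b2e438cf3d24cc08cd14fdcdf6b4b16f9a9f9cc88b21d16f7007022be389fc6c571e3fb18c68fd2ca215927a126646fea0c974441d8dcb7b46fcc5afedd1db8b9688b7494b2260b30507382caeb8a272ad39ead66e06bffe603f99e1aa491af16191611ceb237c7318d03dac84626310c3256c9c8b8d8f9fc2ce60215d7d78863924d7e04bda7e91dd9dbc013188f1f6717909d9deae899e6f90a11b49a1cfd09637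2e4f4dabe58d17d1bd40432021d02e7e91d1f0c9cb6038b2e03d216e9b4f504f8c4d034250c62863d66d1d4142b9c33d95af50a532545e6a8122aa95ecef7c6cf751b7a25fb4535892720f9db0994dc9cc91a1723a04ff22a1ec3e2f005294064f00e4afe5d8c211a145b77c987edce36e963d7fdc883565a43d6728d85637ecf5cd853a44682c6705dc3f4af664b993d66f42533802ce01ed10bb1a757f16d8ba52f00daac6be90980c533cb3b467f455e32720d22e5e277f5d22535fc37a28b577dc5e729f0490d3ee184b036b234e12c91dd793f0161ef21dff49cbad9bc859ec589a048078421d90a2b3fc497edaec6f3e4a54e0479256119c610c2c404b373efb3a9eb0d01aa38ec47d94c4130f73ee7fb9a6992844995d74dc663a890510f5b6bbae2dc696e13036652202693bcac565cf77bf39fb90cc52aa6f85c4fdd0991d1fa4f2a45d55957389c656924305345ff9b544f0cf621576e485d8cc88c3c71929f9d0665cbaeca728f10a012be96acc61dd0fbe06e83005021efd86806212cd276437be64b80d6ee6bf15bcfa3a4146924fad18eb4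0dafa4afacdf600530146c7c2efbf89aad61691e14d652c42acf0bf2066b9b64d9136361f7935e4f0a51ed31b438220a50727561891d8201583831547cc79eed44e27746ed8842543441ad2dc98c805ea358bd6224e078250fb57ab9e12a9ae0360d9e7fd42bfdf476e88a8f09c807bb9b7aa27a66f12642ce3e90d4231d62a3c7628b15eb095681987e1f3b0e938350c21f36e8ac898cf904902f6ae34d6b9bf2523ba34028848ec3f790c7da017c0fbd8bb5e6c230e14127200f43b972ed47cabdc6f82e8ff60f7a4d7e69a6634aacb3afd713cd285cb246554977b776935b583fc4c76b63f89045254bce86b299901086275126387a8eb0252dfce4fb32582b9f92833d4e00c80c9cecb6e710cbb4f50f2da43a55653c475d0205874aa9caeda9b8052bf31bae4edaa9545e379094b860731c9bd50b4be76e4a7240897e6ae5e8e2e6c7170d4e74a70ac0319a5cb2bf989b1be20ef49a787c5cc00c0251297368704cd63846daa77ae1b707d8d2b6358554186742b7563a5cfb04ca73af8da930ed3718982ec9af680140c9899f0e30f1d018b43af9ce3a78047eccdfbcbf8acd74decd6dd001fc2148ff926b69ef195d97b1aa4ff49e2188669554e8e1971a97bfbc61266e666f499da753a4a283548c4a9dae314ebd8a59bed1dc5957472428eee5904f72adb29918bf344ae9d1729ac19)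
def V_c : ℕ := (nat_lit 0x56cfe28335d834f62005aa6e46b5f1788e4552e36bed2480a9898f01c0276086eb8d776566377d7ce45478b85a107c4253c07961b96991f6a1f6bb253b2a2c092299ad90d1db58dd4c773256956b9391b0abc6facd0f0ef9151c71d8b46f868a2b9fef184080546461802647321745285dec2f67487cf0761ad3104d9e8e26435bc566e8795696e162665a0edac5ed7546ba5d81b9d51b90eb03653d1e378446ce99748680c0342b2866044d71372e535d7eea419536d8cb7a243adc8526dced52f720da04a5c000f48eb3a4b2e14b4139e958522ff1bfd16e142e5dffab6ed51a4fa2aa428d47980b9ccffbc26233dc9f32194baf66ee6cfe5c8de42261f20ca5451c0aed6094685072167330bbd3a8476e6c27011af092aac4608818e5c74a19288c3fb1577b89e11a7288bc34952955cea7d00b8a8fe8006cff96950453f28d9d87432ee480824d46865bb44a0a7f1ee444669f3d19464c89d4f27d690c76394c4e9562a5cc6599306130484f72f78f5fe50f7750fce615993a0dc2d7f71f2d6c3885c5a18381fa758b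e4d95d0fd8b5622b22383928fd524d50c2f145719e170e03e0a2574613453aaa64ebd42a124c24b989cae9f2ea59a3ffcac71f674bb7f8a677e359e50b2c09c87cf161996f4bda0b10902f28ecee7c427d3f6f513ef7d74ee65bd635c4879de89f8b5137b1e0bd220ea4516f294338a50eb08f9a7f1c7602b48860f1b688a8382d847f5b67ff0d4f99d7891e26af709595d6b61e84c80ea0e1c673e965699fcc26af6594a984aaf9fa58fe393be6ef6dc6aa9ec29825ab9137bc9373c89fcac8b10d6d6dc42c49940be4bcd1d133340532a52d5e143886a23f1309111d29ea4c0082fe51e48d59f0bc109524a11154a04f64656ff56b2e635bf78fb7494d4a383a606cfc71cf56bbbc4d49ba0826ff84b073858fb216baee999520474edbdeb28a416b71842c8a98271d235c53932bb4a4bb95e9b1655e494896b1f51c183ec496ba04e8aa2fdbfea3f21ca0d4a18f6ed6df544afe8483fa367c187492596b3e4072c1810f3647f549d46b15eba54fd01f32c2acefd27de45b0b7ed0ab561f05ca117980c56353cf6f6c467228d86626fc222ad86e276b72b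af4583c63284ac3e0d4791c9707d69ccf6536b6cf69aa7f862070f572b74f836bfa55a6316d706144e84086b39766084298b9946e6e9a3b6a56f88aefb84dcb46f91ebbcedb26b14ed12f92ab610373ceb7c6e72dedd8c1a1652d5f0984b699594177fbf3409458d301a25dc9650f8209343a333b930eabd493db6935ce92aa3e540ddb84364996fd1feb807698e5ec2fc347c8c423d4887c454179918b33ffbe9ec30dfee04f838e1e5a636c5f9fb043f18a0d6565eedb223feda7a49783b324f18729310ba3dfcdca6c378b315df2c2dd325723488b4c5ad8d05f4be67d282e3aa56507902ebc477b846257ebeb1d7d9d33c759704c5d8adcdd84d371c3d1ab80e75bd28946406daccea3dcc1365c7a8d662ccee4779c6727a46795944253ca556d8d0c156abe10c5f4dc2b27025b377246690406277b8f67aa4cee40199f6e2eb344abbb1cb1785b77ae6f8f9468dbe760d31f98c4e90ad9f6d67ea6db822e1f07baa60356adf9cab88a1adf8f86175987ee28a746ba9d279d85ed56624d2000547cb6c21256bb2cd4e8467bf93c299699430beb80cbe2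828976318251f4eafba7856e99abe27d56dcc8f7e7de852ef089bb7f242da43b5185cccf45c8b4f679cbbf09977699fcf7011f901e21bd5c0b69ffecb30d0e0f6598ed6d413c0cae7964035a0cd739fdd124ef111a654b660236a3501e6ec8e8ee91d637db0a9b395d8e3fbe0280911b88f0980c7300e00cc7b7298834f2a19cf1d2015c13e9c25eed06bf1e168cf3140847fd604d28c8e3291afc2ecb09ac591bd364b9c9ec9404f779a29e7f9a37eb7e6e0fed779afaef4d5e49efbc29aa11732b1fb7efc28cc401db73c6802a2701c423e2be84105c48fb03c4cf1eca61e49bb1dc9818ad83ac8284c423ce718301fa86ebb3162ee2007d767b2a5937121e88c2e177969e2d350ef0a1ec1505eb12485b527fd4036b7fd3082738de01a0502e0c5bf41d795df1e4681de81e7a209788cec7b460f77644d30e2481a380b7790387edbb672aacba90c672a466e173612bf1638ff2fc48e6f242e1d0340fc70fd135b5dd65243ef4ee96d89d07437ebca9dbd98bc6d3d758dc10cf8a5ea250b3b3be577665d6a92e97dcb09dbd740ebafca64b2e0020e48c9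0652ecbb0abca32af6d5cedb89f812e01eb0c41bbebaccacb638dc1057a195438d84a4982a829380bd0dc3bb4513efa816e4d2475d7924d536c38b8da7ac7797915c749f967536ca4682f4cf82542f36992d7dee9fa1697aec5ec152c91061c79bfbf19d26e73e165b872d6d5b9317559908d9d7d3a0ffde2d31d0d33145561d1f523bd5cd2ac23a9cf56e1e78a1b2f4124ccc8183aab38236c8f51e9732353d7f99487f6fad78450c068de9deee905ba921c65185004c5a7e701ba1bd89bc8aa141c25f570a9a18e459a3527149bf940eeda5d4626c63242c5fe25e3a24ad9df5932280b4890901ab0d51c5321f99764fdea0032cd4829ee8936df0b7be54a8f632263240092058228a7c174fdfa33c5357181b723f775b2c8856fafdeb1399a20531c81033c7823d08e9c3ce7a6787b87e309d02276bc0fecebbf593bf878cc2a57d80073739e1638dc01155abcac987face6f9503ac3777ba9dabea7655fe9f1559b45d58573b5538f4dc19d6cb0e4824767910ad1ea19bb1cb9bd0487362b687a9bec505fd3352c4bd3b6fea371f074caa93dd095538a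1dfc8b0a71b9e8ff57f3fca7861481d76f5b7159edc99702dd0e1910d0408637c7720d584564917a52d07bc961c0125cbfb2a3f4f58379e86f98e49926ed4770c4b0a8ebd2951d5e3db13e70744ad223331cde34cd213c8926341bc63e45c1875f3464db2499fe36ad01e792e17f2bb20e6f93cdb27cd35166a2c172a5c35c7c2096817b4a3307e2c3d243a5b00eb835bd9338be0f66e6ba618207d966f70e161375f6b1abba0e5cfa326fb756fa59d2c9987a7381fd6144381c982df62f3a76e47cc654244eb46640f4c1567d16a54020a4a3857680feec2117ce09174c561a4fb7bc6bdac365f92b3fb8b7f458aa6a31d0d4f3ad5eb7f4ceb401017a0a2c7a3e594c3de91f4cadd60bc3ee0052efe1d02696b5eb04b8da9cd781e756e8b878259464bb54a48026e0abc1b67379293e644fad1400beb20d6e67f3c607e9cc733179b4340139b63ad6d3f1c74ba6a070115b574bf67000921a3732adddf9b8e49db8dbdcff25381d732a90a05fef59866aafaf6579b206a4cacaebcd0354421978825ccb3e19e177ff5b37cfd1601881a69134e5ce1dd04e0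bafce1e0f00697fac6b6432ee427d98ff11f04159e93335503304a4a0167f7af2a98e66bfa16766b9b65ccd1c35812064a627e494a5f02f59e858df31ea4493e8ab6b14de34649131d39beadd0a7439b21551810000b713b9122aa5670974d2ee1f78f2e3b09bb98250ee33922bf18eb1e319799905a344a3ac1c5ab99a3dddc0c3a5f5e03ce5bc3cff1f53d2df09526deaf24c4971e95708e1e8c4713fa2087c34038ecf766cefc57fb7590682435c94a51be304ac5ab8f68da274724d2144d580b3f61ff86bdb327f0ddb250dad41d23ae38a487db6452deb19baec5afd52ad375cc1a425530e6c6e64894f6e41f04e7dbfa951fc3b85eb192dbf110b30252154ded730efdff52d81245cd58565cab0e941b5d198b2bf1f305a00e947682f48fcb2c5876b08214177fae9476bf22a8e40ea7e0cf2eb8b7c03bdd2514c70057f372d18bf93e2790fbd14879fe8eee9057c7f21c5e0e13d8063907e4cb4082ec022debf769ae6e6ec35fbea4cbca6a0ba5045134304e8dcde39c76c0dfb538ee43ac66d69c88191b7427d65b25a6873b00005d3c82b24178f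7aef6bf35d8bc77252d1a665294b6b7c2137b22ddf28c1af8696a328a585ada47aeb944ab7b0c219f0fc9dcfa4ef8cc4356b001f6739cf760b5eb3f50583e198e8fc142b9ea84321a8d7c4664cb5e0538e2881f1b09df156f0e9c375086439b8bac004ad16a04cef8e91ac8af6697900551813dbcd006f89602f21cb6eaa2a4e5d198b7be31ac0ae22714e00e197313f09d49424059e5d8d2abcf43ee20477f774617edbebca8cba3ce689cea7dba4feb61c155a83ec6b370a6fea22ef6b3769eaeb00db6c4b6a4e656bebc3b5e12f46d0df7096aea0a782bb9db67a6651259c4c3ec2feaf92c76e95cab2c6f3c1ab458145bc6552870c87a5e790881be7a29201971aa134bd844076d59cd6225384d8568a76ae64bafe3a72224f0b1fe3a53a542232028d678820cd60ebd81936a79209c5f3bfd41eea02c3cd358abac89615f56a63c5519ca4535bd299943a9bf789a00923a878560cc0171de3785bedf8059842fb4a4d658877413d33c3df717f4c3cd3e16d3b63f5fc1636d612ada56776d4454553f8406853bd89fede7252e9d27fbc9e0981a6d9771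61745ce8b05cd28f68b772b85cdf1cca72bdb9f3cac3b4e14e6dd16bfc20164c07ca742ac2b0add1382e0275334981acf89c6918bae32640cf37a45b78434464310fab75e456220f95088ef4a46005c2cb4e5ab43ea550c75ce3c0931baa33747f4f7d0fa07efa6989a90a861f50293b3b467fb4951c82d5f116777ddc398cdb19cb0f87ad7c8079525c4bbc2a4fa118b4efeeb90bf4a90be8bfb18b0e2b231fd17a1d5d3d0d1f9550f41baf3155df307dd7eb0aafa9733749b5b21d94d16f2dfc6e4b86699232220a4dca475bc566377f270dd0606e3024670e58c761770a4ae5f44a617f962dd3a64d49fe96d39e71dfb3e5041201e832dc7f5d9df7255eccb9c94a1b786ddf8eb64361539fa4e8432b8c1f51b96feca967ac0ab7d0e9b4e79ef8eedb3072e30e75ebe9f5004ed186a4313764bf3859065b25879e0eee1269e10f72749457231dd90af0ed2e40b2dac4f25c220d777914a3d013277bd09770c985961a80f84b79e3ddfe5b3f02570ef9b40828003bd6c7e4c61f9b063eb322d2a36ddbdd0f36318832539b0f9da229ef72fdea5923e9e42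7e376f0f7e5aa87111b1e6d1ce1085bf264cb28bb063b2bd62ac41e1a1bd0f3cd0171df1b1beb568ef01e1e7fececffa949e91aab8a972e5818f9ee34c495e9825811eab548daca340390e3a25ed8c7e039192a3d57818ef69d040c295d36b8881adaaf29d6529516e4db21a384a438904916b8c1bda380d290209392211cf0132099552e1ee376d09dfd87c316bcd089a013f49e83dcb42c68768868a7c2587941d412f8341466018775e09d4a6ccadf0fa21a6516b16d3d2fa1e6589b258215b0c8ed5ce140732f2c65c487ef939284c47250bfc1e74c20246d0d6deb1ea40a84846c8a7756f33be03873e9bb0ac07112c58ef32ca1e68452f5f6a1e9c69866b3bfba57a05fc6cd780826316dc5f0715aea0185901a6cb015358a3af4ae76b2fd5cb4f986107033ac1256fb3a93dc03b779929d3a8cd4689adebe6cec41944f7e34940606c8e12e16cfbadfc3a00a7183f5270e35c6fc5e4979de51b1eaef3e79b750a5f9d2f76523bb41b9600e21ea343aba891997e3416e9fadf538995af224376d977ad46548c26fda8e008fccb1b470ebe0976ccddc511df22d83ae4afbdf10b552d54247d083ae98787208c95895acbf70c84df4f2a5804fae32e52274bfbdc52b3d5481bda41a3038e71b0233098b3a21300cf2f02d3ec3c96e4e5ec8961fd3a0127898eadb0385659062766292e58)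
def V_d : ℕ := (nat_lit 0x1ae6d3f9f0f8826a732530394991f233c37f44b0020a0d32c1ec7da4ee22b3cf510b90170f381139ca9561847cdf46bc1db8a09266208411d9131fff1add6444d71015f1737fd3193d422ad5ec72b62f2bcb0df66bd2f3d644e2b19552b249a7623e29a72ea3274216fab808eeac08750d56688d15df4930459bdd6c985aaad5afdbf1379b0d504c416623dba7e7faf12290758ebb09fa648f8c4fdd3920b41c918545ff61a1bea0032503916e4d05b59a2c0325d1a6103c6a3606480510f7b090ab5ce7261c2e1fa77a5b2c656e3f1a7ecfcc6220c265a3a7c653236fa14584c5d52dcdacffd699cbb614b29c527a7b2c377cb0c1eddf957d57fa6166a28b4c061c5b0e1f55179550e3375fdec1198e501cb138f381aca5068ca5a3b5bf4bed2c84a20317d26c90844b2c278d3c4afbfd2b026215c06869d0d37d0393e9b77f999b9be85c077a6e54b286107d1a4098256c1628d27e20d3af68010fbd44c0d2c0ca167a0ad83ddba66bd57bc530ea1394601ab5413dfdb4040daa0be2c912cf001ddb96eaceebffc767e5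c6e1888016d34ee519ba589b5d7f449b1bf41da61aae9722f7056f033de3a92fa983286f87c5d9f4c7a58c6b006066f4cba3b71d8a8053bdb967e4e4b9d44db17488a178dc3b574d8311835c06d0eb8f7ca1b8fd711d3927955455160c4acfb2239aaf1c627d087c3367f757a7a606abd2ee584995c5f244fe008a4f9a43e5492e42755ee78b37840c0b18ab26545bbadd09299256b41432e85cd5ccf0ec1e29e9f87f72da5431fd87018b481c2c0c127c840227c3680e503660724b3ca415a365841c97cc9738e7ef282b9fe5d0a95fd0e5db7651ec4b29a0bac350eab05278de08f473e841ca6a12d18edc7cbe6344bbc17d551398bf63a1202f5cd3c37123c3dc4f87ec26e4364a83db8667caea4f05eef9faadbb266e934e381cb328a0184c58749c229ca6ded7626d315b64f0fdc225e623d989b290e7e1c07415a0b8a77d1cb8c6db048840614a8d262d33e40ac030bfa5a9fd8835c30103b6ed0072b99fdf733a764a53dd0669bacb89ddc181354cf4b172898dc29a1891063b078df46655e7060e37cf21bad97ede9bb33270f8db5b97ff7c01945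f657644236726271740da00064676cea2fd3be508c1f4b44fabb706bda5e0f7c0deb433c201539143f4df31a9a17b33d7d68efcbe8150f9a019aac992ba66c42c4da9e60c79659b30377d9ac4cfb540e3d742726bff484fcb4072f4fb4908652c9ee435696ffe88d4476a18eeeeb72462b79eb2c98321c7d41a817ad1a4ea9114137ba5c6b726b24fac6414daaaac036e09d6ec96a4061908a7eb5735bd036ed822607e76582ca33e11459971aa2ed63d2aefff37a21f03a84882fd655bd50d0ff3cd27de0a0647388332dd26710fa2f3262923342776603d4259d0738c8c135a365a8af75207993ce1382bbb3e568f3bc97e960e65c56406e17832518b05ae23a407ea58a9cdc599782755e0c952ba3c7868e1999b747635373b9bb2665099976a7db5be11036e5225258c4dd98289c5a522d0523c3a78e32f50b18b9c289fc8d234859b671c42c5bf200b482369fa5f659e1e7386cdf6e082bb778e5ba2feb6051808375167e7e8aa8d414f699f535e5bcac9289969f9e3f88b70aa8995f6335c570b1bd9a1098fea3384e80445a4a28e638124d395e2a4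1e05c706cd256f40734a8d2becde282c31514aef0dd9db32b04eabdf6c213906da4a17f93c1f2d94b91a17fa50bbce82eae62e44b2f57cab6af7bbf5f0131aaef533b41a4251573099baa43d440c63d38c43c47f26b6b7a08f0254c97b019d042aedd7dd683f827e5cea2d9bca6c2ac9f673a948c5a8300b32b12b2167929973e20e6b7c73d36d1397718f6db3614857b914fd605bd91bb4356ae56cc96f618ab3e859934c96a4d56e2041cebe5e3ae46d39f2efc2e03dea70855a9be28cf65c6286e02dfce6c5023bcb8d11485115e472c74d2721cb0e9ea8aab1f28c2237f1e1f2043902037cbdea7957d06cd2cbbded6fcd2294be6517258c1c3353250248065b1985a5544501f5252202406e973527ed71306edfb0da6855e837acd2682ac3372e24d86bfa9ebdc0d105c2cf87f3380fc01caed100b98faf45fc3719996ab04de10684366887c03f80fba33ee401002ba820596cbc346cc10cd049e45d721b3c7b1e1a6dbc7bc96f01a6fdbf484ec4195ee10024296b1a0ee7e561ec1124b92f8c2cb038556276100de1b568134a009d0bda78c183cb2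df3b18f01a462f70e64bce45ccd61cbeb4eee0b982e25709ffe34254c1586abb810c0d5058f072e284311d513f74749c76fc9f178aec9cff846d3c3c02c879a4b392d787dddf22f681105ff3ccda94991601fe92ad6adb7fd09030ca491ec8a3b9c42e89a52a919fc4286bc6dca5a7d776731b44f90fef7c5f3a4c9ca97d0f9ce1b507872f3bf1e84c67570bd8afb8a41a08553d0d4b4f3e93fbeae0f4a8e393db5132940810f4d433b6bd187fc5c66f486e35db58c5214013c0698db86c8b314016d7a826fd7cced49d5eb50b53d1345c388a33e3cc6a2efd682795d2860fa6e12a861e1a4437d1a60108a7f5e933e666e266fa6c04c11c165d19b273bdc3375fff57d82743abcbd415f43601c9504a8ccb2b3548f1393bf0ef97662b8617c18b158f562c60bb3a2e1ca3aad54102368bae77cd4b3e07d25bd07a31057ea4db03ec306a41d7fdbe8addd018ce86236ef6144d5af7759d0c4f17b465b247ca14dbf4e4174d50aba145a4101163ee1925edd0c7351928e137e0b029db520881e2d73a18eacf8c5663490785b4f32fd58be1ec65647cf0e8c00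1580f89619a375ba8ddcc83796e58e6b8b46865f17a8eb552b1c5fb9ee0b84b27145392f5773f6a30895bb8f6fe821a711a959ddb106dfa3891e448c9bdc5ba7eba284f00c3fcf707c93cdf5f0c2861b5ecf63ae0967523943e70a0fdc60880d9e8b3269068f5ec9812f3988e7075f019ac7e59be1247b48cd15c78c0c22ef59d47b59b76930a1dc38268faeb2257d9399da2a4a56f161fa6e9f35276e0e61fa715e8018c2b31afad50644a96f38ef3bcaee2c5f350b76428e02f162155e9aaf1adbd15a7f5d7c4e219e7baa3716a622480658932525a67fa5819ff80b59b9ce048873376c1fcc34e9f4929e6f8507ee6f7363731acdceba0a41f02cbd72bf36ce02975ab224adaacfb9b602e6be7125fba703a5b2d0e151541f4fc40932ed6e3fb8e486e25c1ec650da5d805f122625600603f84cdfa9aea0e3f9d36e53c0c4b5a8e67fedb21a93393c62e7770413c2da93d240e0f4674c6da9c4fb8ccba1be3924b72e323b4af21f450bf7bfde747a5055649ea5800d1946c393fe3c4077ab05e7ebf097a31276795546b8bf1e851f0e750d1b7c5137925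740947322c0315dcfeac236a2846b7c4c1e849224d105d4df95056d1e80617191dc3173c4d5c4bc58016b463ec7fae632166a9a16635c7637980d7c4551224fdd6b05ea8706291335ef09014321b12be1af4f9b88a3cf2c5f1a9f7b096bfd561b2bb26b4e50fdc9b0846ab0a4ea22b511dcfa6c899d85932be9408127469b8e0c75c451f2fc9a110603bdb9517e61476a2eb6e63996b4ea252906226fbd7ba69e2d4d429c0873182f34a86c2a9c7b3cc7f3d3edf920749a805177ee88c334ac025f9ec8dcf575a4f636923549c9ba517cb5b753a97ef934a3c6a73a4a9a5be81f58af301e8c1d01430d87d141aa192a4d19c4f9fbfe1cbfad5f85438f71b1de63c346158e047d56ac4859a559858651b4372098982ae282af6dbe8d138bdae1eb1b7f7790e8ce1237ed4d1a796a44f08b7b75a14a53e5ecbf2937cd10a96c4cc92d56f657d1cafe3e543ddb1aa996953c97632c20ef18c29f08477f48e55e647e75cd5c341bcb54c356938217e91597cf10237f9814424f7c0c9d4986217ec4b69cedc592d20d50d207b86793ebbcd3fdb534f8b371c73f4f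fc90736a60bf0efaab8b698bf0b3d81f59d6fbdb0f76c8f2f868beff09af99d389bb162688b45aa33629363dbfdb53131824463199816508ee163ab4c90667cc48b698b61362bd5a546be622ea5090a0948259920d8898d492e51812ea250f890cc21d7ab6415330c4b50953d7a2213abcbe49a11fc20128119a4310126080343f5bda702399eddce90ad14dab2a7bf37f68b4cb7accdf6cba82b10ae7c29679a254e6c9ea0c96346af0591f0ff2890cd0209065ec38b5fa99052b93641fbef180655e3b2038edb21a46910e85b6bda5dd46c0d88255e7e44d2441c717e7fd93f8d9c8ac4b6cd154d31163faac829b04b8c1db3cdf0f024d5101ab486f640844d5f5b01ab482853f63565adde9fe448e2bbe066598283020001efe2d99142ac060ebeb554c9f815d5c5541f6c861d722bedfd9593f89d4345da5a7bf6a2543e8a240c391275af53270ad8acb864e64fbc3eac0ba76cc3571b94bfd3098b1b69676aac083c9c60fbb0831992dfa18f96ad0e3ea32e57423787fb70324707b92ace6cce14f5ff7df5869ee1bd96a02149c6126869cc4f1cbe4b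8d0c47dd6aa989a76fe66cd10e024b7575bdd4a8e71da92accc0e6bc07ed82d2499c14edf9d63e4c9036e21baa83034d53b73b54c3efbb8651043ffb27d71180799bb55fdf0c66c52634c1138e3012a95163ed29822456d5d7bcec0fc5cfac690c2a0e41cece2f6575f40187361469a4cb66d070f859444a119da321ceb53fad08c7177d32ff93acba43e2657a0f0b1e42e78b56664d8ed3b139516a613cc78e3303edb180c45fef6e094ee0ac161c4a190a509f1931337867bab555468d0edced5a7509a11feaa1c988832d3166879a1d0f6a8251e949c3dfcacc518f0e4db372f22be705b34a87c00dce8fe6faab34521fe218a5c70674974061eaddd159a29fdd7124cfd79078c34a4dbf421a21118e3eb0ee097cedc314a6080f60d3aee44e4a3daaf9c4094c95bdfe0daf4030b39c63446b802bfd375b4707dfb871c38864719a365690b8078cc8a8b0958647140d755dacc93c538620a7924bc704518858b2d9bc01235d134ea0d5c3c2a633b818b7ce4b961172454e4ab7a741b1ba76927ab1e7ff7e6912dc71aee2edef6fc2b9bed506a546667db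a0326d8d86d08985da0ccae097076d33804c42df4a6787ee802f7703b93290d4c20f7ef478cae0ac9b1b9cde673bb380ddc98bd768e2fadf875820d0507554e4a6580878e1b05cd953ac9dc473e6b0cb4e18cc1b091f7676591d9a4684632408f35d1f5032b96f3d44af115b7730c2e6971bdd66b17fb770815887c613d89bc05da169b98fa0cc68777e6f979a601fb1fb7744157426b6b8931022bb59cb9a0431c0759504d89fb57108e02a5a02349bab22c7098f7eb694424c4ab602be0926c6b19822b04cd5261434b590df544afebec2411c2e56019a3358bf3b3d627327ce592dcba9fa2614f33168214d1233e714a5b4f6058eb1c888aed25490e4b553f6d28cbbad62d5570a37967c94c5edc5548fc271308f2d6b75a6584f34e49b4d9ce91da343f0b3122b3e1483d1833280445bd7bd580f02964b5ded2fcb6ce19369ddbaccf998a8f09714970077be8a3d38275fb821c6aafb5a5a7f387c0d8a7a3976ce4eb509cd6631297748c747a141500113f5e9d17ed3609e8b315e54ac7a53aa959b3fa0a82ccc7f1723b1b0215bba4d3788ca078db48b1f3dd487b82a055bccd6698f704e31ed8141a12a5de51de21a98268de4cfb1ea547fd74572aed0811ec64545d6f00b066cf9fe409f7cbd827fb13ee4c97c99ca501001da07ae261eb9b2f252af6eff8b9a16298fa0f8cec637e28)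
def PP : ℕ := (nat_lit 0x97c6af846355ac72eb3574d9c144c141fdd3a41e291d908e7b49e31cd8a86d520a465453dcb737ab390519e9bbba8222c160ca48d8a79367a3ed59e8fadfa3f06875d8b014a3edfaaba3a70731d58e22aa266066abcfc661783b60092d02b238f2c2cfd856d3d4a60a6609cfa612f738a12974eaec65f78eb30591fe6884e69d8b609239b3b00d0d67f4e158aa4f9b960c260bec8c22bd7bbd652abf85461aead65824094e700813adeb073d71fe19cbab35ef43b5a2afb82dbb5e2c8f146274616210cc627f314d3cf50231a565a6c18aebab50179658dc2baab0a5b08b0df0fa35e629f2db8f4966820e83a1d34702b18f02e86408f61bb1ccccc0b24325223d478006e5a3f7a79541bfa0fd182a5039b143215b0a1267efc60d7a2fb184843a3d7118443b134cce67bc3217099f80cbf5055b0ed9af26002d2aa2308067429ccb7e8b4cd2b01e7d1ff6db9e4877557d3b692b245525de526fd1f358de99ace24f00a09f4f590154efc30070b5b2a75adc264db9a8e2150c92e85b09b750d7c54cc376f9f095ce28fc434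830b8b1f6915a6895fc1e16433069825dafe046ee1cc501238d5475a85bb1fb334c1bc834210310077d29f604b603ddfda270d929bd0109e62251b34b077959656cdc34ff049b0acb3e2523d3be0d73907e465064299e451bbfa76cebd1eacd1e07646e8baff0c4d66ea06e9d0ae06e3d6cfc7bf64347bee43ce73de7d14042c1db824beebc112c79bb397b521eab9c547dc7644ae662dec8fbb7cf4b7bdc7a00409d2e88014cac67e6b197fac8e608e58ebefd1f7babefe5557d5b373df30bcd3011d913a2ed9c1f82aee868c77d9ed766a8b458756e8f139f00d449df8ea4655593a651d5e82551daffea04fee88e1fce911baac0c9364dd3f884e1c6e08777c26f1fac68af58e85001e393656dab7516c9a77d1a0e5605e8f23b3bc722ab7076f3f890f57c65cc27797dd7bd99fdcbd69484fcb3aae987fa504987597bb291a7d8a3c24ab8dd3d29c85acae273f4da9876855f684977a45e48960b03b20e92ef6c2e2cb0f09251bcd9ce65b3528fda5150e5eda3aa2a2337512c102a8c5a06a42bba3298becc897287784814a0f4c3868665e13d639ecf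368973a48a043cca784a440b20a20c56949aeca493708453fea467189e237d3f0a11fa6ba70bb2e7008802b6668e1210f814179308d5eddb2b2e7ff465d668fe093859381a199cef88ef0e6bfe91d8f881ebed690de32928abea307c3984d207499054825cf27d09b55f1ab8a84d6d76acc23efac7f660b9eaf8b6bc76aeed302ad92b5f5738a4d4aa3775e3a9880e7324c923cdfe354b677d1112ea84db9250b719361b98ec66a6f8538e28d3a9a0af7cf2c242cfbe948c38f408612bfd8f0f6df631563dce04b2573ee70bf646f20bd3d98be48ec136ee89efbeb29d9c5f15adc773fd549fa9c6a67d98d2646029de6d2b6408dd63a8b0509f3cbf4ca3558c7f8180cc76ee868ba0b39275ddf08f9ad2b398ac6ced39f1fe3cf3c8df928f39c0aeaf8cf7f642dc5ac627fb7abbacb8c06d261ad1e6bb8ff862779bf424a5862a74324463c71a2568525fc7cbf68ff64f210525c223c28f87f3fecc69db79c2f0af7b823678425632a439dde11d7464ca5ac302c8e6fa5eaba400edccdab4514293715146a4f4a56b0e92f2783b2ae905801891edc8d0790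14c79f0636ddfd464a6065a8cbaabcd58b3b08033b82dd0576d1b8adc22288880323cdab81d8f24e12dc4a877cb86eb040ac60e31cfe1b4f2625fc2077bfce5419dc57b3582f6b16008a71073c3a7983b4a403d346e2f04d28fdeaea27c582cb17b0fe2c7e18d4a480a8959882d2f0d3f63621af8304d8bab46aad75401c54621bf4fc89622a56b372106459797ead8e8027481f74eb7b7bc6c037d046581e08c95b9830d89dc2fb80970e0ea10595070eb0ec2686620224d5ee013ef5e3d0e141d89b5ab0b04108cba530c05d25157565d20411d07ca3f0a93c73b42339b5a8d59556b392280d8281aaf4ea963a21ce9ef636a9fad8b22bf984ad81ff9aabd4e01d9ba4819724c5d550a34febc76f7be96acb455f7f2c4876c6fd3456c176a66a1fceba4482727d1e5c603388c7c21c7f5fee3b3b2c13a0ec8476a482f4194ca9f338bbb8188166bc69c3bd2edf6a381a9c5dacf0cc4ba8273f30f65241232d6c831d3f4fcabea5e3ed4a93d8f09393662757d8125ea158c7237cbab1a3d511444a4c362d7e93dfe3f89a348f914732ace8a593ea943af01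486e8d48788a399c199d08de2f4940d961a1d546cade822a4a1bdf10e6eaacb19d8181eebefd101f9b4f47fc5da21a7b15787c3ed802151cc2105d053fa1de14ae00baeda03368b39941c1d6f372a986170878384a6454360701bd1c4096c1bdee705cb4084798a7f1ef63eec662523e633203a4720b5305a431bbade1b0c786a589eb2333a4c1cf3eee5778668045ebdfa34a887bbb31c9fa9ca8324516cf5430e9835a3da551e25979fb4864ac6aabb27b2377011b41c6ea4dd9d05f035cbd09aedac52f22e6fc168548a15a05bb518ce5ca68291bf5503251d8ab66897ef0b61880ce5ba2d79a00f6e98fddd1a4642b3f8ff39b4e6b6887c29f710a287c88d10648a868ea87c7c5ad62d85b25d6102cc42d661ea01f5f99833ace599451c211b10fb224cd052766017e1ba4c1181842e85a25b12500e1834f987915ab0e3e0c42f5aee470a470c2932eb2225c17615059bc8f29482ebe0549ea501fcdcb832e75ec907f66e70534f7e1fec23901df999f5f064ef780f0a687d19c8b6e71974f0d839a5dfae27b8f14008993ab7fac24708b4ca751dfdc5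358cc64dcec4ac2ef98101a8613fd571c91c4af6e4ef30580e19fbf5529bbcb5b0ddfdec19ad6091afe091a293811ebcafb1acc64cf5e6759b8e98cb15b407458a4817d51c25dd96bcd0ce0f392525b44af2d00f1cbf4c24e9531b6899daf730e4d47fde52ac78049bef631bad49d77fb4d8f4ec0e28f7a7eba190f6d85628ea271eab838b7ae7d598893b1ff1853e6162cdc116e038bc42e8e779577a8853af33def2d1933d623083645f1790b556fc5bcd04b94391de3aaee11a535a37b3c3168a36d3a5efd1bf41a040d89943de08320d99bba5c2c3eb5eb770fecc0d22d4368afc56da45316f56a4b1808867b5f54d9af96ee27b283135b35d67abaebb168eb60db9c25ba7994e56134d099755ce60c591c650d95fb3ec2bd96997f2c2fae9eda12bbc8b7470dfce997d0fe198ad97aad6f89a55ebe7f6afe92276f5bbac3d5eb3a622c446c32a55980d5a0b7ad982d1a4033ac54f2c30b50ec90d3d3cbf2b83fba9036e54f1f76545cf04c9a556be4bd1dc5f33e35f1a4e82bbe28417052f0ab854b383832797f91113466fc37cfa94ee7cd063212eb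c3cff9d9c21b805fe5ab7c0394f300c6d81ce8a6444e29d55723c50ea061f1de95ad8173f78cca23ef8fa92920a076a725e8a73353bab6f376783aaebe878e701779f46c11c360d918c4e19366088e987a2d52ec729dd93f25a2e3f2b194af11cfd5f31c4aec1d3e446e2cb40bc858a2b29cab13fa5f9dfc993bc5eb476b512cf052625c8806f2c24dbab4ad28844606905523f817cb95ed737b1d54a6e36eddca910ebdc01e0a18dd21ac1bd8f1cab38cae4cfb0b183901b6b6753540a0554454935c1a3b229b7c837e04c82e2daaa818fa92c160026c8ef71733fdc5804dc3bdc0eb7b26b4df25fbf241bf384c02ba813e38794002299f7c8fee8c90b1e7d14b6fe6132fcad1922ed226a0c092b2a89d5b44c9474a4a0fd9615bd9851914f4b8ebbe65049aa017619311b3c0e473c558a60ffb06a3c5fd837a3528d389bbadbe27223c707d10f2e44e4ed525e3da178f1a288d4078dde0d84e7d1bd1a409a24c2a2570d52914ede1d1ae464a0925400541b209e5abf0d021a9cb4d688181348f604c45418146d20329f9c206c8a6e842e71d40643340de9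89d8552ce785a4bb32340ebb12aaa2bb89f4a882fbdffa734bf1a9f169336efb9d68cdf35faf9fde2d4196e74a4e4d006538a9d0d81769bf492f5d82781054c2211d7923d74f189df8b12bb8745121a64e31bf01da3b210c050e502e77e841aa332efeee5fbef7d62b901bcc75f206bcc3e4aac6aaf4f37bb372fbe19fa93d24ce39b656120f19be6d5e134749e28e346bcf29944adb1c34a1b4d479b7e567d471de7b2e96745e8c5884aada1a2d5f602a3ab08db5bd4698596af9918ebd58953e6b278ab59674adc62781cc1dcdc77093257a473fb5ea1817b83e0ab64842156285996ecfae9c2f2759c540175b91c5f131f9a82bf57af25b7dd6a502c82e9bcf6b8e4395dd262c2ec48151748fa225f9fb8c14d29ccb8766c588300715146fd70645d5c3180fcd1b0e52c844f936e256a8856e06a3c581b63ebf5e8fba30577f39f307cfc4f69c2f3d08c77886207710be7af2ed823f5e39c26dd02b821dc29306f75ef44ad377fe4ac987a89d0e86b56e3e1c5088722948c1931a6344a932f1e1a11b33843fc122f36667c893b005239b6c5c2be812751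7ffd7d5c4d097bdd91fc10cc192847622d4a3b346e8c30f26f32835b94d48f583ceae512616fbcf363aa8450023ff0086c54f1448ea31aaa2cbe95df913f6b3e89bec3352a2c4c7810cd57156ff9df83ce791ae1dca40c8731d691f48beda88476eadcf38aacb7e6fe38f22077b0e3d73f97b14ef1a6f39be0eb989753f4742e585ae2dfdf78f12b62b2d384ee3dcf71ebb14dbbc247ab41403d6c7e939de674685fdff3ab1a3e24f06fe3960f1b0617e5a26741f07171f8d6b521510235cae58cae0a2c8062d20fe420bb56186408a8e3b50c89f4319c2c1f3172f28755dc6c062c8535592c6dd43117c04bc4fa41b3a0994748375e005f0133f2dd04b4e01d3af001d0bb5d8e85a12b614bd6ba3395628d7e02ac7c5fc58007b28fae185e5365ceb67fd9bb16553a1ef17310be4a0a002636ef5738bb7ffa3d8f0b4f0f7a68c87ea0c7069cf6137d44e0c8bbd131a417ba853be43e734f4946dc728bee1accaa48823522205785585bd26a048d0f0f9895b0957a0a900435203792548577a094f4086cc498603d890b9bff43c298a43fa882f5bbfa95b7f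0f969ab27cc20707d4b0d5403564a6946234251e06a45c4386313c0be86eacc9d62a5454eb056ec8655194c3aa6bab825c3abcb9578da4c04144f4ead221247aee661aa14f36428aa9c1963285eec307e8468db50cae9a4d11dceb4b13c9a966d3d4d6c78c17201f195f3e49becbf66db56cf9f791193f5fc50d6349bab1a15afad51b5d90fe6875781efee207181933e913135967ef53d9b62f26d9f589fa1480fcb0ff19beb441c02b59bf733ebaf3c129fa39659e4a4ce33491c827dc9e277abe970600a5d9b6febf9254d3737a12c925f7c00664b84d55f536ba428959cee33c7a289aa988acfd3444b72c6eeddb63d5a819b2e6898c1f34b6dd1cf8cfb5605d924cf8a2e04f985e34e730c3df70426764ce3c0d3afb076daac9032c3b708e9f769fa592e2c8b251045830590dbe1fd7e0188ee8bca0de261bd644e30e6f55bd6239c428b302307b60254766ce23f9a032396ebe683c08e3f2bffb9b5158376feaab22bceb0e86a7097a48830ffa53703c2a9911b06fa69946fdd96d81b725dd931e36ccf4ec856a7297ff22f393fb2d0ea9ddaed8438b76f5f79e4b6fcae79e5f62a3eb9ec95d7f75fd3645d022b19c654e06cd8e584a3946760aca09623b8496a6e64f84e4385c95a94558ced1f4885b27136ebf1ac1aaf4f3aab634210715d8d8757942fe01efc486b4ed4d5de37f)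
def DD : ℕ := (nat_lit 0x1d105f976fb964653543c5accfdd297129af5b6e699b5d851d8a7e60e3ae02476118e0b9e6ee3a8970c159710f6fc8aed88c7430e45132bae87952c19d2cfe121edab21d156dd7039b3c480018bad02964260173f652e7bc79c9207c553d403b1fc75450bdded66580af48a3bdbbbde7108ba46336c83ba5189e6c928b6e3254ffd5009db16056510cc9e0d863f3ed26e75dda7076c7fe2ee49cbc8dee0f34a40a5f397864899a91b7f91166dd11dc444cc24b5c235306d24c05d568b14792b67cb618d5e5187e50056f4361a75e6b3c26a1a96e64f6d434604f40e408112648afe187e7efdb4b4d2dd6f093a218856e6ad5b9754d74746ddaf77c3e111e07f2003d72ba454cd45595e5edd9fea557ac93c4788bdf4c1767e336e2b5a26f3052d17898d174384a267717350f7ceefe72f78b8079380f677899c6b41292c73079dd4005f42ce920df78ad512ef2fde6335680296680bee2175bd93f49b106ff31eca11899d69de5b019bcdbc74d4635bf25b5e02bdaa3f981941ada92afa18dad9b017c98e1cf0096a2e3d14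175410b84ce27dccbe607a86e725204482f15aee9365986a47c33b2dd2f71215edd1d6f395b2898b8e4ee27e70ba184ad6cb700e9b3755ea3ee2ae9c657e9892f7a4ca821c1f9fa52e1630f6624eb664452e0afa36569207f404536be9f9df725f25bc46ee518f370d05de5696f6210180a59732d5d3686b91b9972841706313648026e528d1e1a7be449c0cb6226fd16aeb03585793c2115dc8ba40d36a536ffd581e0afc820d2635c798c5371eafe6e9cc6608f8b2d924d2269cc7c3f54561f51cfb6caeff3496007451426b5b8dee5304d395054718764f448bf0485ffce78721d94c877f5366a1ca2dc06100aa74fb7239c580a606dfd7210142e9632538efe0c19551ebac6994a1d4154d8563e60721e615bba835c4974bd01ddbe889b7863e61ee0a89814f81bfac86726fbc2d869756164690f3b97604e361f393f4aaf4dff2ab8dc1cf92685547d5d2fa318869d12ff40820df62092cf49bf29ac9a80d528df6ec11490743072d8aaa063f18af3b9b392be0aa4e6398fdfb0faca01fd35fcaa9c51b1b70e01cca74d9c4c77f76cb97f943fabdd17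8f5c7edd0b4842dc6e7de0812e20cd9f1fb798a79de8668d228bc63ba64d9c82982e9281b4b23ade23a42a0d45c124d94dd4637fa2d601911f79d1a7fcf14a19088a0b2cb509536fd5eff0edca37bd1b5fdba9129cf6a713fd13ce51d926e0e666e02f9394af54c798fefac4962ad30c1cf2332c535c56b52a78e08b9f5423195835a37dd1894b6d00dc18e49ac6024a4ef18cc0c5557d7dbbf787b6053dae2d826cd5686bb4b7cda92b0232e9cebd7e66d89e5215a55231874d2e6f232f9ae54ea06dde417bd8e3a4d5d2e5be74d1c7fcd4e2864dbc5a2f05e36f98b11926cebc9161de1fd735f709cf2fddbaf4c60f45304ecbe7e2c20edf4cb3331cf0bf4d889efc2012bf7785b0b3abfbd360693c21acbaa9b728fa3f43de884b5ab62697e7fc83448954c7d04569bb250d4841b84b99b46e8cfd90655fb99a890a22809b77222c7f4b305581df2fe86fcc066288e1365014006da058ccc7c4d4e7f2048961a9d1e0fcca2dfd1ee7b0002e0ece41f35c4489b8cab22c092fd61733af13e1e1c3e59a64894148172792ef5232db0577c77f2edcc470c51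84beeba379a99af876a1c11391c34c7894d38875d0c12dcc290f3d57ac2014f06e4385eee7b9059728f89d4a52f925bd33b78a5c8abd17bd289d7a19267e8a142d2fc26eac6f4946ae59dbf5dc0361ba3d4af7c77bbc322f8c14c071ea40080570f7422867223b5db6e8316525d8ecea1e59b0416ff86c1328d1f604725ebb97442887404d075c77ea2ee97cf058ffbdc4689c1939c3be7c71621928091f75d08a7586318958890cd4fc50c6fee60a4e1ecc27352e6d13dff46543aae353e2c690a60eb066fa34f18f7dded1d96d4953960964bd0ea8df667fb6a0b552feb1f4a3f7862ed21cae2e5532f8ae1d2bf2d45cd400e18e1ef7c19d68e5251e9ac5de4884618761b45c48a33c7dc7799f9b1d00acd6409b3a4bbc52f6ae21251acdf9b4fde92428b3e8aa0e199eac286ac66328d9463038ebba8f56dd5c8c8178ab5ec514bead3eab8e6f1fcc04bd23acf4232b6bfc0d093672e7ae542348e39a0d02fce7a2658e43f547db990233a16191f177d921242b199cb44b5d79af2a57fc7aea31a1259396c6dd5a103bf4eeafb54b747e4a720fc94f2a4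859e3d90847dea22196854f48f489f48bee8fd0f630d89713deb767cdd45e660e8a11a61cc16a7f945b0d8b9d9543413e9c783079deb7b239b14049d07c60148e12e41e464826c95c9e6a2541f53463cf07d0f3945fba300a7b32b2f43f95e75147c700a3fe774f1db83774649b28f73f292c22c7e79a7860218e7c63f900062626da8e4d5ba324b72782470b5ac7c960b6e13f99f31ba9cfc6a4941fe5b26ad6f51baa07e82eba7836066da9eede4421c9a30451d9272c5a473f2afa958a2b6a3f7014a3db5847bcb99a041b6da59a5f09c5a138d6e8957f4c6294e5b018ad5b4b0e4137496c2301f3631490c4fb4d3bb2a440d02cffa8702fa8c15366ae44e868630cb11822b51757f9807b3118408a8475cdf6d6ca05763acac88b042955d8abc09520b7b183a5d934ca1c3e0560cc39d32f48842a2a0ea01100f345576af09dbdbe8c5b4cef7313a826185926adb9c56c5efdad8d49f218eb0bc3bc165fed2abc75a9d19af2fc79943db1db4fdecc02aacf1fafa9eae1e1067d605345d680d9d6ee512a24b7e6a094c394ee6057c12971d657c7297422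bdde4a0323da8f88bcbf6a1122272220b0c7d9a3d80f885c654b01454127619e2a37d3441772aad0d92aae8ad11401d105e1a92f38c4e927319daec781cee7090ce7f112d51d04581287c07a2fa481056e1bee34872bdc4236291e0dc671c77f774a02354dc1a00dc95b1e3a28f0a85d9389db79101b97aa8b4569fd4c7d0db6995fa2e3f35f2c1a87a6e1c130c5e5e6844d21e4e51f27ca1975f29bcaf50f514faa3945fbe49311adc16606007141c08864279c68b7dfcc497116075117a0231ca197fa55fbcc967078d1ab4a82d583fda96c412a30cd23c1addafd7d1a794331e67a824991084b0947c3763fc650ce2f015aec100e1d02229ae9f0adeb80b3b3d99efabc720f1a101eb2aace2c56357dae63351fe4ef18d7ab3c48a4bc20b91b9c10e99f269a74990a601dbd0a5c0ca806481ebc8257c815a4700ececb5724fe60aa00d83e268a59ebb95d6d0a43c1702b0b54338d4c9ee90f1411f0c5c2686b9bc458370d3b15d5fc94d8525751c0da8e7da3c15965766487b193ba90a4357f4b9a84c830e6fcc5870a96b76b85a122e73b83319d2f40b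1f9047a47e79551b3a0b11a71f21d1cc7fc7bd4a6718418e446f6747b18acc3197594a6183c898eb1dbcdf63800e0e3daee07c6b06fe0347877d72dd5d504520d0ff1c61abef4b7b2f5df6d332d95cdc16978c739c6c6433a748ccfb57db023bfc3862018268c16ff29d1bdd7e939f93b33f0e58f42b831ed07cf25e1fb33f96c598b2e74bba25e88339fc254dbc5151c3937c216887182ee6854dc09c428a951efd8c3e1e4f7525062ff233c297eea5af69bef893913ae6a48c1c87ecfb9321be0fe070b1c827988ad46e4499f3d60025407960e1707270295f81eeee9983e1d9dfc574fda8ac12ba54e73b1f1b24c43287fe72b82a1cdea02672f784d7ef9af4beb91c0e19015f7915214437db718ff1aa4b78d725d729f67a2a06e5a553992f7a188c1d012bfdcd3aa1d99d76a7163ed455782164c25a76d92824f6673756152f8f6872d89768ffc5fb88b0df59c01b638bfc1c3745c546bf1cacc863634062b08c725b9f7df09e0bc60fa357a4845cbfd5cc00d048add3cb4b2b65a863002d0bcb5475db17e524fc8b7d6600ed25bfce6ecf038a2a48a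3abe1b90c7a74b956803666b5b08a5b7cc13e973fe3db21db74de5f2fd9801514dbb1870f5403eee1a36f5d05fa2abb739c7cfc221a2014704555de141276318f3d9744b26e33a56582ac1d71e9be40a350d1626beca5ee2c9d3b481ea84346bcc5db08da72b08d15941c5f51c7825f419c276f11018e135223202c77af70f0b0b6321e734d6e6a0a9b4f8e49e77aa38c367738872f60b77c91e3493fa473587d839c6a2f8dad568375886e5e448c75bb01ece1b60c214387279032210871242b663d7f2e2c1a931d82212004b93a2bd0482148d3da6cdb7a8aa13e9d23c044df2af676bb7e6926ec463673a8131873feb3f12f636e22bef9ed718783fd960df0ec7280f91a9814a2a21c2277637ebccd9e3b913d429fe3be1e6cfd08d8142d9d7604811347e060a8af95c31327bfd6c19b26f97b100b169cb1f0bb9e83b9d46b1a117b4b08da5c28468f50ebbd4504376ac2ec25870223793dfaac813f179242258768129eea9206c6e006ef81e374030f6e50486eccfda107838e865d001293c560dd38527da1012db97ced50cf6aa4b801cdded829a91a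bb760d01209837e30f324c6c787db70f03f33e9ae67fb807f1411b0d89c53935965e8ca9ef1a09c2a3b6a8ce05c2cb56f7d32f90078080164e117bf93d0e19716ac9f11a18e7144ee6737c192f958e58a656b3819ae60a6722426fd0130e505f0e16187bdfd666f2cab7f0b2dd8ad4458701f82b3e527838d290154741e6abb9d6b29e4326db1d5b256fb655260260ad4fc0acd4ab4209ee6bcd48dfbbbc423edbb51ef189bb7f64ab1a8d4c5fd4d9bcea5bd493a30aaf099342b37e90a635dd5e9d8b281d5e39951294b34c770ed5d5733c278230a37f8e778e74c55f08784d68f3f9a5b8cb0528c0409179ee6f10c5d4f88b16ed984a20411d62b2ebd9dcf99da73f2008254b84368654a57c4e0b7ff1a3b0354ac51f5bcc8cad3d9af6d0acb7f8ce16be402a467a839a7f5382d6247abd0612c628b5c4bf29c8abcad0546ced1c215900dab4ccf6885ab9fb68f3da89c280f468d7a448e35f8572b2adf7ef170a7bf496709303078f6fba61cbe1a7aafe4adf7b8907f9df0b30bd7d5b9b4e23582c1a2055e160a6b50c8aaa39d398a39edb257c05ddaaf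a963afdaff0f3119194fda48de91b987d87fb175b1dd4fdce6d084dce2c1235ad269d2c8ebf32156d2d3845a42d6e29109bb05769e50fad44bfb182f4c1682be115e4dbd38d136d024388abf818a76ca29141c9ff1140ad7b309ca7a7839314b12b8404251a02e945f2a72a6e867987e432b815c027565ab916f6d97361fa2364f8be906d79912ab82cb7dfbb4bc1e1f1308f8d232b466a5506d08cc9d8bcb7c4ee8ffccca43f1e93635c42df8826d007ead0bad5b09637c637885d08bab27c619160d7f37478633054a5e28adbf605b1eb2d854c86e30bf25458ce0372653299008aba0472dfee7a4a8bbe1b3a4b4a891650d1ba943ac1c717be609aa79d1905448fdb88ca0248f3ded0a8b72ec37b5b70869e497abb686231d783c9c1c71b4ee01996ab03cda7922302ccb17bc173bdd995e058289e3f5a9ddc68e72512f74c4f862586a863eae53a202a223e4d98584a0b89065d4003bf32c80677b9c0c6b844a8b3f8cfdbd796245fa2cd0955293db4e3dc05e4006602c61b0bf845f8b19154239eeb6a6d4c4f0495525b67bec58fbc272e9bd13bf940af2bec966e9626cbc62b0ba2832b76399f2a00bb483f6fc5747e46da43eb35cab27fe63a568d8038b6614d7f4063074ce21d18f05ae6116ccdb25cd32b9fc683745663e6f3109051929cb9df1571f9f7ecb80e126c1c32a1f69f1)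
noncomputable def stp : Col → ℕ → ℕ := fun c q => Nat.add (Nat.mod (Col.rec (motive := fun _ => ℕ) T_a T_b T_c T_d c) q) (nat_lit 32768)
noncomputable def tau : Col → ℕ → ℕ := fun c q => (Nat.mod (Col.rec (motive := fun _ => ℕ) U_a U_b U_c U_d c) q)
noncomputable def del : Col → ℕ → ℕ := fun c q => (Nat.mod (Col.rec (motive := fun _ => ℕ) V_a V_b V_c V_d c) q)
noncomputable def PT : ℕ → ℕ := fun q => Nat.add (Nat.mod PP q) (nat_lit 32768)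
noncomputable def DT : ℕ → ℕ := fun q => (Nat.mod DD q)
noncomputable def L_0 : Tr ℕ := (Tr.nd (nat_lit 44123) (Tr.nd (nat_lit 38431) (Tr.nd (nat_lit 35531) (Tr.nd (nat_lit 34141) (Tr.nd (nat_lit 33427) (Tr.nd (nat_lit 33073) (Tr.nd (nat_lit 32933) (Tr.nd (nat_lit 32833) (Tr.nd (nat_lit 32797) (Tr.nd (nat_lit 32783) (Tr.nd (nat_lit 32779) (Tr.lf (nat_lit 32771)) (Tr.lf (nat_lit 32779))) (Tr.nd (nat_lit 32789) (Tr.lf (nat_lit 32783)) (Tr.lf (nat_lit 32789)))) (Tr.nd (nat_lit 32803) (Tr.nd (nat_lit 32801) (Tr.lf (nat_lit 32797)) (Tr.lf (nat_lit 32801))) (Tr.nd (nat_lit 32831) (Tr.lf (nat_lit 32803)) (Tr.lf (nat_lit 32831))))) (Tr.nd (nat_lit 32887) (Tr.nd (nat_lit 32843) (Tr.nd (nat_lit 32839) (Tr.lf (nat_lit 32833)) (Tr.lf (nat_lit 32839))) (Tr.nd (nat_lit 32869) (Tr.lf (nat_lit 32843)) (Tr.lf (nat_lit 32869)))) (Tr.nd (nat_lit 32911) (Tr.nd (nat_lit 32909) (Tr.lf (nat_lit 32887)) (Tr.lf (nat_lit 32909))) (Tr.nd (nat_lit 32917) (Tr.lf (nat_lit 32911)) (Tr.lf (nat_lit 32917)))))) (Tr.nd (nat_lit 32993) (Tr.nd (nat_lit 32969) (Tr.nd (nat_lit 32941) (Tr.nd (nat_lit 32939) (Tr.lf (nat_lit 32933)) (Tr.lf (nat_lit 32939))) (Tr.nd (nat_lit 32957) (Tr.lf (nat_lit 32941)) (Tr.lf (nat_lit 32957)))) (Tr.nd (nat_lit 32983) (Tr.nd (nat_lit 32971) (Tr.lf (nat_lit 32969)) (Tr.lf (nat_lit 32971))) (Tr.nd (nat_lit 32987) (Tr.lf (nat_lit 32983)) (Tr.lf (nat_lit 32987))))) (Tr.nd (nat_lit 33029) (Tr.nd (nat_lit 33013) (Tr.nd (nat_lit 32999) (Tr.lf (nat_lit 32993)) (Tr.lf (nat_lit 32999))) (Tr.nd (nat_lit 33023) (Tr.lf (nat_lit 33013)) (Tr.lf (nat_lit 33023)))) (Tr.nd (nat_lit 33049) (Tr.nd (nat_lit 33037) (Tr.lf (nat_lit 33029)) (Tr.lf (nat_lit 33037))) (Tr.nd (nat_lit 33053) (Tr.lf (nat_lit 33049)) (Tr.nd (nat_lit 33071) (Tr.lf (nat_lit 33053)) (Tr.lf (nat_lit 33071)))))))) (Tr.nd (nat_lit 33287) (Tr.nd (nat_lit 33161) (Tr.nd (nat_lit 33113) (Tr.nd (nat_lit 33091) (Tr.nd (nat_lit 33083) (Tr.lf (nat_lit 33073)) (Tr.lf (nat_lit 33083))) (Tr.nd (nat_lit 33107) (Tr.lf (nat_lit 33091)) (Tr.lf (nat_lit 33107)))) (Tr.nd (nat_lit 33149) (Tr.nd (nat_lit 33119) (Tr.lf (nat_lit 33113)) (Tr.lf (nat_lit 33119))) (Tr.nd (nat_lit 33151) (Tr.lf (nat_lit 33149)) (Tr.lf (nat_lit 33151))))) (Tr.nd (nat_lit 33199) (Tr.nd (nat_lit 33181) (Tr.nd (nat_lit 33179) (Tr.lf (nat_lit 33161)) (Tr.lf (nat_lit 33179))) (Tr.nd (nat_lit 33191) (Tr.lf (nat_lit 33181)) (Tr.lf (nat_lit 33191)))) (Tr.nd (nat_lit 33211) (Tr.nd (nat_lit 33203) (Tr.lf (nat_lit 33199)) (Tr.lf (nat_lit 33203))) (Tr.nd (nat_lit 33223) (Tr.lf (nat_lit 33211)) (Tr.nd (nat_lit 33247) (Tr.lf (nat_lit 33223)) (Tr.lf (nat_lit 33247))))))) (Tr.nd (nat_lit 33347) (Tr.nd (nat_lit 33317) (Tr.nd (nat_lit 33301) (Tr.nd (nat_lit 33289) (Tr.lf (nat_lit 33287)) (Tr.lf (nat_lit 33289))) (Tr.nd (nat_lit 33311) (Tr.lf (nat_lit 33301)) (Tr.lf (nat_lit 33311)))) (Tr.nd (nat_lit 33331) (Tr.nd (nat_lit 33329) (Tr.lf (nat_lit 33317)) (Tr.lf (nat_lit 33329))) (Tr.nd (nat_lit 33343) (Tr.lf (nat_lit 33331)) (Tr.lf (nat_lit 33343))))) (Tr.nd (nat_lit 33377) (Tr.nd (nat_lit 33353) (Tr.nd (nat_lit 33349) (Tr.lf (nat_lit 33347)) (Tr.lf (nat_lit 33349))) (Tr.nd (nat_lit 33359) (Tr.lf (nat_lit 33353)) (Tr.lf (nat_lit 33359)))) (Tr.nd (nat_lit 33403) (Tr.nd (nat_lit 33391) (Tr.lf (nat_lit 33377)) (Tr.lf (nat_lit 33391))) (Tr.nd (nat_lit 33409) (Tr.lf (nat_lit 33403)) (Tr.nd (nat_lit 33413) (Tr.lf (nat_lit 33409)) (Tr.lf (nat_lit 33413))))))))) (Tr.nd (nat_lit 33751) (Tr.nd (nat_lit 33589) (Tr.nd (nat_lit 33521) (Tr.nd (nat_lit 33479) (Tr.nd (nat_lit 33461) (Tr.nd (nat_lit 33457) (Tr.lf (nat_lit 33427)) (Tr.lf (nat_lit 33457))) (Tr.nd (nat_lit 33469) (Tr.lf (nat_lit 33461)) (Tr.lf (nat_lit 33469)))) (Tr.nd (nat_lit 33493) (Tr.nd (nat_lit 33487) (Tr.lf (nat_lit 33479)) (Tr.lf (nat_lit 33487))) (Tr.nd (nat_lit 33503) (Tr.lf (nat_lit 33493)) (Tr.lf (nat_lit 33503))))) (Tr.nd (nat_lit 33563) (Tr.nd (nat_lit 33533) (Tr.nd (nat_lit 33529) (Tr.lf (nat_lit 33521)) (Tr.lf (nat_lit 33529))) (Tr.nd (nat_lit 33547) (Tr.lf (nat_lit 33533)) (Tr.lf (nat_lit 33547)))) (Tr.nd (nat_lit 33577) (Tr.nd (nat_lit 33569) (Tr.lf (nat_lit 33563)) (Tr.lf (nat_lit 33569))) (Tr.nd (nat_lit 33581) (Tr.lf (nat_lit 33577)) (Tr.nd (nat_lit 33587) (Tr.lf (nat_lit 33581)) (Tr.lf (nat_lit 33587))))))) (Tr.nd (nat_lit 33637) (Tr.nd (nat_lit 33617) (Tr.nd (nat_lit 33601) (Tr.nd (nat_lit 33599) (Tr.lf (nat_lit 33589)) (Tr.lf (nat_lit 33599))) (Tr.nd (nat_lit 33613) (Tr.lf (nat_lit 33601)) (Tr.lf (nat_lit 33613)))) (Tr.nd (nat_lit 33623) (Tr.nd (nat_lit 33619) (Tr.lf (nat_lit 33617)) (Tr.lf (nat_lit 33619))) (Tr.nd (nat_lit 33629) (Tr.lf (nat_lit 33623)) (Tr.lf (nat_lit 33629))))) (Tr.nd (nat_lit 33703) (Tr.nd (nat_lit 33647) (Tr.nd (nat_lit 33641) (Tr.lf (nat_lit 33637)) (Tr.lf (nat_lit 33641))) (Tr.nd (nat_lit 33679) (Tr.lf (nat_lit 33647)) (Tr.lf (nat_lit 33679)))) (Tr.nd (nat_lit 33721) (Tr.nd (nat_lit 33713) (Tr.lf (nat_lit 33703)) (Tr.lf (nat_lit 33713))) (Tr.nd (nat_lit 33739) (Tr.lf (nat_lit 33721)) (Tr.nd (nat_lit 33749) (Tr.lf (nat_lit 33739)) (Tr.lf (nat_lit 33749)))))))) (Tr.nd (nat_lit 33911) (Tr.nd (nat_lit 33811) (Tr.nd (nat_lit 33773) (Tr.nd (nat_lit 33767) (Tr.nd (nat_lit 33757) (Tr.lf (nat_lit 33751)) (Tr.lf (nat_lit 33757))) (Tr.nd (nat_lit 33769) (Tr.lf (nat_lit 33767)) (Tr.lf (nat_lit 33769)))) (Tr.nd (nat_lit 33797) (Tr.nd (nat_lit 33791) (Tr.lf (nat_lit 33773)) (Tr.lf (nat_lit 33791))) (Tr.nd (nat_lit 33809) (Tr.lf (nat_lit 33797)) (Tr.lf (nat_lit 33809))))) (Tr.nd (nat_lit 33857) (Tr.nd (nat_lit 33829) (Tr.nd (nat_lit 33827) (Tr.lf (nat_lit 33811)) (Tr.lf (nat_lit 33827))) (Tr.nd (nat_lit 33851) (Tr.lf (nat_lit 33829)) (Tr.lf (nat_lit 33851)))) (Tr.nd (nat_lit 33871) (Tr.nd (nat_lit 33863) (Tr.lf (nat_lit 33857)) (Tr.lf (nat_lit 33863))) (Tr.nd (nat_lit 33889) (Tr.lf (nat_lit 33871)) (Tr.nd (nat_lit 33893) (Tr.lf (nat_lit 33889)) (Tr.lf (nat_lit 33893))))))) (Tr.nd (nat_lit 34019) (Tr.nd (nat_lit 33941) (Tr.nd (nat_lit 33931) (Tr.nd (nat_lit 33923) (Tr.lf (nat_lit 33911)) (Tr.lf (nat_lit 33923))) (Tr.nd (nat_lit 33937) (Tr.lf (nat_lit 33931)) (Tr.lf (nat_lit 33937)))) (Tr.nd (nat_lit 33967) (Tr.nd (nat_lit 33961) (Tr.lf (nat_lit 33941)) (Tr.lf (nat_lit 33961))) (Tr.nd (nat_lit 33997) (Tr.lf (nat_lit 33967)) (Tr.lf (nat_lit 33997))))) (Tr.nd (nat_lit 34057) (Tr.nd (nat_lit 34033) (Tr.nd (nat_lit 34031) (Tr.lf (nat_lit 34019)) (Tr.lf (nat_lit 34031))) (Tr.nd (nat_lit 34039) (Tr.lf (nat_lit 34033)) (Tr.lf (nat_lit 34039)))) (Tr.nd (nat_lit 34123) (Tr.nd (nat_lit 34061) (Tr.lf (nat_lit 34057)) (Tr.lf (nat_lit 34061))) (Tr.nd (nat_lit 34127) (Tr.lf (nat_lit 34123)) (Tr.nd (nat_lit 34129) (Tr.lf (nat_lit 34127)) (Tr.lf (nat_lit 34129)))))))))) (Tr.nd (nat_lit 34781) (Tr.nd (nat_lit 34469) (Tr.nd (nat_lit 34297) (Tr.nd (nat_lit 34217) (Tr.nd (nat_lit 34171) (Tr.nd (nat_lit 34157) (Tr.nd (nat_lit 34147) (Tr.lf (nat_lit 34141)) (Tr.lf (nat_lit 34147))) (Tr.nd (nat_lit 34159) (Tr.lf (nat_lit 34157)) (Tr.lf (nat_lit 34159)))) (Tr.nd (nat_lit 34211) (Tr.nd (nat_lit 34183) (Tr.lf (nat_lit 34171)) (Tr.lf (nat_lit 34183))) (Tr.nd (nat_lit 34213) (Tr.lf (nat_lit 34211)) (Tr.lf (nat_lit 34213))))) (Tr.nd (nat_lit 34261) (Tr.nd (nat_lit 34253) (Tr.nd (nat_lit 34231) (Tr.lf (nat_lit 34217)) (Tr.lf (nat_lit 34231))) (Tr.nd (nat_lit 34259) (Tr.lf (nat_lit 34253)) (Tr.lf (nat_lit 34259)))) (Tr.nd (nat_lit 34273) (Tr.nd (nat_lit 34267) (Tr.lf (nat_lit 34261)) (Tr.lf (nat_lit 34267))) (Tr.nd (nat_lit 34283) (Tr.lf (nat_lit 34273)) (Tr.lf (nat_lit 34283)))))) (Tr.nd (nat_lit 34361) (Tr.nd (nat_lit 34319) (Tr.nd (nat_lit 34303) (Tr.nd (nat_lit 34301) (Tr.lf (nat_lit 34297)) (Tr.lf (nat_lit 34301))) (Tr.nd (nat_lit 34313) (Tr.lf (nat_lit 34303)) (Tr.lf (nat_lit 34313)))) (Tr.nd (nat_lit 34337) (Tr.nd (nat_lit 34327) (Tr.lf (nat_lit 34319)) (Tr.lf (nat_lit 34327))) (Tr.nd (nat_lit 34351) (Tr.lf (nat_lit 34337)) (Tr.lf (nat_lit 34351))))) (Tr.nd (nat_lit 34403) (Tr.nd (nat_lit 34369) (Tr.nd (nat_lit 34367) (Tr.lf (nat_lit 34361)) (Tr.lf (nat_lit 34367))) (Tr.nd (nat_lit 34381) (Tr.lf (nat_lit 34369)) (Tr.lf (nat_lit 34381)))) (Tr.nd (nat_lit 34429) (Tr.nd (nat_lit 34421) (Tr.lf (nat_lit 34403)) (Tr.lf (nat_lit 34421))) (Tr.nd (nat_lit 34439) (Tr.lf (nat_lit 34429)) (Tr.nd (nat_lit 34457) (Tr.lf (nat_lit 34439)) (Tr.lf (nat_lit 34457)))))))) (Tr.nd (nat_lit 34613) (Tr.nd (nat_lit 34519) (Tr.nd (nat_lit 34499) (Tr.nd (nat_lit 34483) (Tr.nd (nat_lit 34471) (Tr.lf (nat_lit 34469)) (Tr.lf (nat_lit 34471))) (Tr.nd (nat_lit 34487) (Tr.lf (nat_lit 34483)) (Tr.lf (nat_lit 34487)))) (Tr.nd (nat_lit 34511) (Tr.nd (nat_lit 34501) (Tr.lf (nat_lit 34499)) (Tr.lf (nat_lit 34501))) (Tr.nd (nat_lit 34513) (Tr.lf (nat_lit 34511)) (Tr.lf (nat_lit 34513))))) (Tr.nd (nat_lit 34583) (Tr.nd (nat_lit 34543) (Tr.nd (nat_lit 34537) (Tr.lf (nat_lit 34519)) (Tr.lf (nat_lit 34537))) (Tr.nd (nat_lit 34549) (Tr.lf (nat_lit 34543)) (Tr.lf (nat_lit 34549)))) (Tr.nd (nat_lit 34591) (Tr.nd (nat_lit 34589) (Tr.lf (nat_lit 34583)) (Tr.lf (nat_lit 34589))) (Tr.nd (nat_lit 34603) (Tr.lf (nat_lit 34591)) (Tr.nd (nat_lit 34607) (Tr.lf (nat_lit 34603)) (Tr.lf (nat_lit 34607))))))) (Tr.nd (nat_lit 34693) (Tr.nd (nat_lit 34667) (Tr.nd (nat_lit 34649) (Tr.nd (nat_lit 34631) (Tr.lf (nat_lit 34613)) (Tr.lf (nat_lit 34631))) (Tr.nd (nat_lit 34651) (Tr.lf (nat_lit 34649)) (Tr.lf (nat_lit 34651)))) (Tr.nd (nat_lit 34679) (Tr.nd (nat_lit 34673) (Tr.lf (nat_lit 34667)) (Tr.lf (nat_lit 34673))) (Tr.nd (nat_lit 34687) (Tr.lf (nat_lit 34679)) (Tr.lf (nat_lit 34687))))) (Tr.nd (nat_lit 34739) (Tr.nd (nat_lit 34721) (Tr.nd (nat_lit 34703) (Tr.lf (nat_lit 34693)) (Tr.lf (nat_lit 34703))) (Tr.nd (nat_lit 34729) (Tr.lf (nat_lit 34721)) (Tr.lf (nat_lit 34729)))) (Tr.nd (nat_lit 34757) (Tr.nd (nat_lit 34747) (Tr.lf (nat_lit 34739)) (Tr.lf (nat_lit 34747))) (Tr.nd (nat_lit 34759) (Tr.lf (nat_lit 34757)) (Tr.nd (nat_lit 34763) (Tr.lf (nat_lit 34759)) (Tr.lf (nat_lit 34763))))))))) (Tr.nd (nat_lit 35153) (Tr.nd (nat_lit 34981) (Tr.nd (nat_lit 34877) (Tr.nd (nat_lit 34843) (Tr.nd (nat_lit 34819) (Tr.nd (nat_lit 34807) (Tr.lf (nat_lit 34781)) (Tr.lf (nat_lit 34807))) (Tr.nd (nat_lit 34841) (Tr.lf (nat_lit 34819)) (Tr.lf (nat_lit 34841)))) (Tr.nd (nat_lit 34849) (Tr.nd (nat_lit 34847) (Tr.lf (nat_lit 34843)) (Tr.lf (nat_lit 34847))) (Tr.nd (nat_lit 34871) (Tr.lf (nat_lit 34849)) (Tr.lf (nat_lit 34871))))) (Tr.nd (nat_lit 34919) (Tr.nd (nat_lit 34897) (Tr.nd (nat_lit 34883) (Tr.lf (nat_lit 34877)) (Tr.lf (nat_lit 34883))) (Tr.nd (nat_lit 34913) (Tr.lf (nat_lit 34897)) (Tr.lf (nat_lit 34913)))) (Tr.nd (nat_lit 34949) (Tr.nd (nat_lit 34939) (Tr.lf (nat_lit 34919)) (Tr.lf (nat_lit 34939))) (Tr.nd (nat_lit 34961) (Tr.lf (nat_lit 34949)) (Tr.nd (nat_lit 34963) (Tr.lf (nat_lit 34961)) (Tr.lf (nat_lit 34963))))))) (Tr.nd (nat_lit 35083) (Tr.nd (nat_lit 35053) (Tr.nd (nat_lit 35027) (Tr.nd (nat_lit 35023) (Tr.lf (nat_lit 34981)) (Tr.lf (nat_lit 35023))) (Tr.nd (nat_lit 35051) (Tr.lf (nat_lit 35027)) (Tr.lf (nat_lit 35051)))) (Tr.nd (nat_lit 35069) (Tr.nd (nat_lit 35059) (Tr.lf (nat_lit 35053)) (Tr.lf (nat_lit 35059))) (Tr.nd (nat_lit 35081) (Tr.lf (nat_lit 35069)) (Tr.lf (nat_lit 35081))))) (Tr.nd (nat_lit 35111) (Tr.nd (nat_lit 35099) (Tr.nd (nat_lit 35089) (Tr.lf (nat_lit 35083)) (Tr.lf (nat_lit 35089))) (Tr.nd (nat_lit 35107) (Tr.lf (nat_lit 35099)) (Tr.lf (nat_lit 35107)))) (Tr.nd (nat_lit 35129) (Tr.nd (nat_lit 35117) (Tr.lf (nat_lit 35111)) (Tr.lf (nat_lit 35117))) (Tr.nd (nat_lit 35141) (Tr.lf (nat_lit 35129)) (Tr.nd (nat_lit 35149) (Tr.lf (nat_lit 35141)) (Tr.lf (nat_lit 35149)))))))) (Tr.nd (nat_lit 35353) (Tr.nd (nat_lit 35267) (Tr.nd (nat_lit 35221) (Tr.nd (nat_lit 35171) (Tr.nd (nat_lit 35159) (Tr.lf (nat_lit 35153)) (Tr.lf (nat_lit 35159))) (Tr.nd (nat_lit 35201) (Tr.lf (nat_lit 35171)) (Tr.lf (nat_lit 35201)))) (Tr.nd (nat_lit 35251) (Tr.nd (nat_lit 35227) (Tr.lf (nat_lit 35221)) (Tr.lf (nat_lit 35227))) (Tr.nd (nat_lit 35257) (Tr.lf (nat_lit 35251)) (Tr.lf (nat_lit 35257))))) (Tr.nd (nat_lit 35311) (Tr.nd (nat_lit 35281) (Tr.nd (nat_lit 35279) (Tr.lf (nat_lit 35267)) (Tr.lf (nat_lit 35279))) (Tr.nd (nat_lit 35291) (Tr.lf (nat_lit 35281)) (Tr.lf (nat_lit 35291)))) (Tr.nd (nat_lit 35323) (Tr.nd (nat_lit 35317) (Tr.lf (nat_lit 35311)) (Tr.lf (nat_lit 35317))) (Tr.nd (nat_lit 35327) (Tr.lf (nat_lit 35323)) (Tr.nd (nat_lit 35339) (Tr.lf (nat_lit 35327)) (Tr.lf (nat_lit 35339))))))) (Tr.nd (nat_lit 35437) (Tr.nd (nat_lit 35401) (Tr.nd (nat_lit 35381) (Tr.nd (nat_lit 35363) (Tr.lf (nat_lit 35353)) (Tr.lf (nat_lit 35363))) (Tr.nd (nat_lit 35393) (Tr.lf (nat_lit 35381)) (Tr.lf (nat_lit 35393)))) (Tr.nd (nat_lit 35419) (Tr.nd (nat_lit 35407) (Tr.lf (nat_lit 35401)) (Tr.lf (nat_lit 35407))) (Tr.nd (nat_lit 35423) (Tr.lf (nat_lit 35419)) (Tr.lf (nat_lit 35423))))) (Tr.nd (nat_lit 35491) (Tr.nd (nat_lit 35449) (Tr.nd (nat_lit 35447) (Tr.lf (nat_lit 35437)) (Tr.lf (nat_lit 35447))) (Tr.nd (nat_lit 35461) (Tr.lf (nat_lit 35449)) (Tr.lf (nat_lit 35461)))) (Tr.nd (nat_lit 35509) (Tr.nd (nat_lit 35507) (Tr.lf (nat_lit 35491)) (Tr.lf (nat_lit 35507))) (Tr.nd (nat_lit 35521) (Tr.lf (nat_lit 35509)) (Tr.nd (nat_lit 35527) (Tr.lf (nat_lit 35521)) (Tr.lf (nat_lit 35527))))))))))) (Tr.nd (nat_lit 36931) (Tr.nd (nat_lit 36277) (Tr.nd (nat_lit 35923) (Tr.nd (nat_lit 35753) (Tr.nd (nat_lit 35597) (Tr.nd (nat_lit 35569) (Tr.nd (nat_lit 35537) (Tr.nd (nat_lit 35533) (Tr.lf (nat_lit 35531)) (Tr.lf (nat_lit 35533))) (Tr.nd (nat_lit 35543) (Tr.lf (nat_lit 35537)) (Tr.lf (nat_lit 35543)))) (Tr.nd (nat_lit 35591) (Tr.nd (nat_lit 35573) (Tr.lf (nat_lit 35569)) (Tr.lf (nat_lit 35573))) (Tr.nd (nat_lit 35593) (Tr.lf (nat_lit 35591)) (Tr.lf (nat_lit 35593))))) (Tr.nd (nat_lit 35677) (Tr.nd (nat_lit 35617) (Tr.nd (nat_lit 35603) (Tr.lf (nat_lit 35597)) (Tr.lf (nat_lit 35603))) (Tr.nd (nat_lit 35671) (Tr.lf (nat_lit 35617)) (Tr.lf (nat_lit 35671)))) (Tr.nd (nat_lit 35731) (Tr.nd (nat_lit 35729) (Tr.lf (nat_lit 35677)) (Tr.lf (nat_lit 35729))) (Tr.nd (nat_lit 35747) (Tr.lf (nat_lit 35731)) (Tr.lf (nat_lit 35747)))))) (Tr.nd (nat_lit 35837) (Tr.nd (nat_lit 35801) (Tr.nd (nat_lit 35771) (Tr.nd (nat_lit 35759) (Tr.lf (nat_lit 35753)) (Tr.lf (nat_lit 35759))) (Tr.nd (nat_lit 35797) (Tr.lf (nat_lit 35771)) (Tr.lf (nat_lit 35797)))) (Tr.nd (nat_lit 35809) (Tr.nd (nat_lit 35803) (Tr.lf (nat_lit 35801)) (Tr.lf (nat_lit 35803))) (Tr.nd (nat_lit 35831) (Tr.lf (nat_lit 35809)) (Tr.lf (nat_lit 35831))))) (Tr.nd (nat_lit 35869) (Tr.nd (nat_lit 35851) (Tr.nd (nat_lit 35839) (Tr.lf (nat_lit 35837)) (Tr.lf (nat_lit 35839))) (Tr.nd (nat_lit 35863) (Tr.lf (nat_lit 35851)) (Tr.lf (nat_lit 35863)))) (Tr.nd (nat_lit 35897) (Tr.nd (nat_lit 35879) (Tr.lf (nat_lit 35869)) (Tr.lf (nat_lit 35879))) (Tr.nd (nat_lit 35899) (Tr.lf (nat_lit 35897)) (Tr.nd (nat_lit 35911) (Tr.lf (nat_lit 35899)) (Tr.lf (nat_lit 35911)))))))) (Tr.nd (nat_lit 36083) (Tr.nd (nat_lit 35999) (Tr.nd (nat_lit 35969) (Tr.nd (nat_lit 35951) (Tr.nd (nat_lit 35933) (Tr.lf (nat_lit 35923)) (Tr.lf (nat_lit 35933))) (Tr.nd (nat_lit 35963) (Tr.lf (nat_lit 35951)) (Tr.lf (nat_lit 35963)))) (Tr.nd (nat_lit 35983) (Tr.nd (nat_lit 35977) (Tr.lf (nat_lit 35969)) (Tr.lf (nat_lit 35977))) (Tr.nd (nat_lit 35993) (Tr.lf (nat_lit 35983)) (Tr.lf (nat_lit 35993))))) (Tr.nd (nat_lit 36017) (Tr.nd (nat_lit 36011) (Tr.nd (nat_lit 36007) (Tr.lf (nat_lit 35999)) (Tr.lf (nat_lit 36007))) (Tr.nd (nat_lit 36013) (Tr.lf (nat_lit 36011)) (Tr.lf (nat_lit 36013)))) (Tr.nd (nat_lit 36061) (Tr.nd (nat_lit 36037) (Tr.lf (nat_lit 36017)) (Tr.lf (nat_lit 36037))) (Tr.nd (nat_lit 36067) (Tr.lf (nat_lit 36061)) (Tr.nd (nat_lit 36073) (Tr.lf (nat_lit 36067)) (Tr.lf (nat_lit 36073))))))) (Tr.nd (nat_lit 36187) (Tr.nd (nat_lit 36131) (Tr.nd (nat_lit 36107) (Tr.nd (nat_lit 36097) (Tr.lf (nat_lit 36083)) (Tr.lf (nat_lit 36097))) (Tr.nd (nat_lit 36109) (Tr.lf (nat_lit 36107)) (Tr.lf (nat_lit 36109)))) (Tr.nd (nat_lit 36151) (Tr.nd (nat_lit 36137) (Tr.lf (nat_lit 36131)) (Tr.lf (nat_lit 36137))) (Tr.nd (nat_lit 36161) (Tr.lf (nat_lit 36151)) (Tr.lf (nat_lit 36161))))) (Tr.nd (nat_lit 36229) (Tr.nd (nat_lit 36209) (Tr.nd (nat_lit 36191) (Tr.lf (nat_lit 36187)) (Tr.lf (nat_lit 36191))) (Tr.nd (nat_lit 36217) (Tr.lf (nat_lit 36209)) (Tr.lf (nat_lit 36217)))) (Tr.nd (nat_lit 36251) (Tr.nd (nat_lit 36241) (Tr.lf (nat_lit 36229)) (Tr.lf (nat_lit 36241))) (Tr.nd (nat_lit 36263) (Tr.lf (nat_lit 36251)) (Tr.nd (nat_lit 36269) (Tr.lf (nat_lit 36263)) (Tr.lf (nat_lit 36269))))))))) (Tr.nd (nat_lit 36637) (Tr.nd (nat_lit 36473) (Tr.nd (nat_lit 36353) (Tr.nd (nat_lit 36313) (Tr.nd (nat_lit 36299) (Tr.nd (nat_lit 36293) (Tr.lf (nat_lit 36277)) (Tr.lf (nat_lit 36293))) (Tr.nd (nat_lit 36307) (Tr.lf (nat_lit 36299)) (Tr.lf (nat_lit 36307)))) (Tr.nd (nat_lit 36341) (Tr.nd (nat_lit 36319) (Tr.lf (nat_lit 36313)) (Tr.lf (nat_lit 36319))) (Tr.nd (nat_lit 36343) (Tr.lf (nat_lit 36341)) (Tr.lf (nat_lit 36343))))) (Tr.nd (nat_lit 36433) (Tr.nd (nat_lit 36383) (Tr.nd (nat_lit 36373) (Tr.lf (nat_lit 36353)) (Tr.lf (nat_lit 36373))) (Tr.nd (nat_lit 36389) (Tr.lf (nat_lit 36383)) (Tr.lf (nat_lit 36389)))) (Tr.nd (nat_lit 36457) (Tr.nd (nat_lit 36451) (Tr.lf (nat_lit 36433)) (Tr.lf (nat_lit 36451))) (Tr.nd (nat_lit 36467) (Tr.lf (nat_lit 36457)) (Tr.nd (nat_lit 36469) (Tr.lf (nat_lit 36467)) (Tr.lf (nat_lit 36469))))))) (Tr.nd (nat_lit 36551) (Tr.nd (nat_lit 36523) (Tr.nd (nat_lit 36493) (Tr.nd (nat_lit 36479) (Tr.lf (nat_lit 36473)) (Tr.lf (nat_lit 36479))) (Tr.nd (nat_lit 36497) (Tr.lf (nat_lit 36493)) (Tr.lf (nat_lit 36497)))) (Tr.nd (nat_lit 36529) (Tr.nd (nat_lit 36527) (Tr.lf (nat_lit 36523)) (Tr.lf (nat_lit 36527))) (Tr.nd (nat_lit 36541) (Tr.lf (nat_lit 36529)) (Tr.lf (nat_lit 36541))))) (Tr.nd (nat_lit 36583) (Tr.nd (nat_lit 36563) (Tr.nd (nat_lit 36559) (Tr.lf (nat_lit 36551)) (Tr.lf (nat_lit 36559))) (Tr.nd (nat_lit 36571) (Tr.lf (nat_lit 36563)) (Tr.lf (nat_lit 36571)))) (Tr.nd (nat_lit 36599) (Tr.nd (nat_lit 36587) (Tr.lf (nat_lit 36583)) (Tr.lf (nat_lit 36587))) (Tr.nd (nat_lit 36607) (Tr.lf (nat_lit 36599)) (Tr.nd (nat_lit 36629) (Tr.lf (nat_lit 36607)) (Tr.lf (nat_lit 36629)))))))) (Tr.nd (nat_lit 36787) (Tr.nd (nat_lit 36709) (Tr.nd (nat_lit 36677) (Tr.nd (nat_lit 36653) (Tr.nd (nat_lit 36643) (Tr.lf (nat_lit 36637)) (Tr.lf (nat_lit 36643))) (Tr.nd (nat_lit 36671) (Tr.lf (nat_lit 36653)) (Tr.lf (nat_lit 36671)))) (Tr.nd (nat_lit 36691) (Tr.nd (nat_lit 36683) (Tr.lf (nat_lit 36677)) (Tr.lf (nat_lit 36683))) (Tr.nd (nat_lit 36697) (Tr.lf (nat_lit 36691)) (Tr.lf (nat_lit 36697))))) (Tr.nd (nat_lit 36749) (Tr.nd (nat_lit 36721) (Tr.nd (nat_lit 36713) (Tr.lf (nat_lit 36709)) (Tr.lf (nat_lit 36713))) (Tr.nd (nat_lit 36739) (Tr.lf (nat_lit 36721)) (Tr.lf (nat_lit 36739)))) (Tr.nd (nat_lit 36767) (Tr.nd (nat_lit 36761) (Tr.lf (nat_lit 36749)) (Tr.lf (nat_lit 36761))) (Tr.nd (nat_lit 36779) (Tr.lf (nat_lit 36767)) (Tr.nd (nat_lit 36781) (Tr.lf (nat_lit 36779)) (Tr.lf (nat_lit 36781))))))) (Tr.nd (nat_lit 36871) (Tr.nd (nat_lit 36821) (Tr.nd (nat_lit 36793) (Tr.nd (nat_lit 36791) (Tr.lf (nat_lit 36787)) (Tr.lf (nat_lit 36791))) (Tr.nd (nat_lit 36809) (Tr.lf (nat_lit 36793)) (Tr.lf (nat_lit 36809)))) (Tr.nd (nat_lit 36847) (Tr.nd (nat_lit 36833) (Tr.lf (nat_lit 36821)) (Tr.lf (nat_lit 36833))) (Tr.nd (nat_lit 36857) (Tr.lf (nat_lit 36847)) (Tr.lf (nat_lit 36857))))) (Tr.nd (nat_lit 36901) (Tr.nd (nat_lit 36887) (Tr.nd (nat_lit 36877) (Tr.lf (nat_lit 36871)) (Tr.lf (nat_lit 36877))) (Tr.nd (nat_lit 36899) (Tr.lf (nat_lit 36887)) (Tr.lf (nat_lit 36899)))) (Tr.nd (nat_lit 36919) (Tr.nd (nat_lit 36913) (Tr.lf (nat_lit 36901)) (Tr.lf (nat_lit 36913))) (Tr.nd (nat_lit 36923) (Tr.lf (nat_lit 36919)) (Tr.nd (nat_lit 36929) (Tr.lf (nat_lit 36923)) (Tr.lf (nat_lit 36929)))))))))) (Tr.nd (nat_lit 37619) (Tr.nd (nat_lit 37313) (Tr.nd (nat_lit 37117) (Tr.nd (nat_lit 37019) (Tr.nd (nat_lit 36979) (Tr.nd (nat_lit 36947) (Tr.nd (nat_lit 36943) (Tr.lf (nat_lit 36931)) (Tr.lf (nat_lit 36943))) (Tr.nd (nat_lit 36973) (Tr.lf (nat_lit 36947)) (Tr.lf (nat_lit 36973)))) (Tr.nd (nat_lit 37003) (Tr.nd (nat_lit 36997) (Tr.lf (nat_lit 36979)) (Tr.lf (nat_lit 36997))) (Tr.nd (nat_lit 37013) (Tr.lf (nat_lit 37003)) (Tr.lf (nat_lit 37013))))) (Tr.nd (nat_lit 37057) (Tr.nd (nat_lit 37039) (Tr.nd (nat_lit 37021) (Tr.lf (nat_lit 37019)) (Tr.lf (nat_lit 37021))) (Tr.nd (nat_lit 37049) (Tr.lf (nat_lit 37039)) (Tr.lf (nat_lit 37049)))) (Tr.nd (nat_lit 37087) (Tr.nd (nat_lit 37061) (Tr.lf (nat_lit 37057)) (Tr.lf (nat_lit 37061))) (Tr.nd (nat_lit 37097) (Tr.lf (nat_lit 37087)) (Tr.lf (nat_lit 37097)))))) (Tr.nd (nat_lit 37201) (Tr.nd (nat_lit 37171) (Tr.nd (nat_lit 37139) (Tr.nd (nat_lit 37123) (Tr.lf (nat_lit 37117)) (Tr.lf (nat_lit 37123))) (Tr.nd (nat_lit 37159) (Tr.lf (nat_lit 37139)) (Tr.lf (nat_lit 37159)))) (Tr.nd (nat_lit 37189) (Tr.nd (nat_lit 37181) (Tr.lf (nat_lit 37171)) (Tr.lf (nat_lit 37181))) (Tr.nd (nat_lit 37199) (Tr.lf (nat_lit 37189)) (Tr.lf (nat_lit 37199))))) (Tr.nd (nat_lit 37253) (Tr.nd (nat_lit 37223) (Tr.nd (nat_lit 37217) (Tr.lf (nat_lit 37201)) (Tr.lf (nat_lit 37217))) (Tr.nd (nat_lit 37243) (Tr.lf (nat_lit 37223)) (Tr.lf (nat_lit 37243)))) (Tr.nd (nat_lit 37277) (Tr.nd (nat_lit 37273) (Tr.lf (nat_lit 37253)) (Tr.lf (nat_lit 37273))) (Tr.nd (nat_lit 37307) (Tr.lf (nat_lit 37277)) (Tr.nd (nat_lit 37309) (Tr.lf (nat_lit 37307)) (Tr.lf (nat_lit 37309)))))))) (Tr.nd (nat_lit 37493) (Tr.nd (nat_lit 37379) (Tr.nd (nat_lit 37357) (Tr.nd (nat_lit 37337) (Tr.nd (nat_lit 37321) (Tr.lf (nat_lit 37313)) (Tr.lf (nat_lit 37321))) (Tr.nd (nat_lit 37339) (Tr.lf (nat_lit 37337)) (Tr.lf (nat_lit 37339)))) (Tr.nd (nat_lit 37363) (Tr.nd (nat_lit 37361) (Tr.lf (nat_lit 37357)) (Tr.lf (nat_lit 37361))) (Tr.nd (nat_lit 37369) (Tr.lf (nat_lit 37363)) (Tr.lf (nat_lit 37369))))) (Tr.nd (nat_lit 37441) (Tr.nd (nat_lit 37409) (Tr.nd (nat_lit 37397) (Tr.lf (nat_lit 37379)) (Tr.lf (nat_lit 37397))) (Tr.nd (nat_lit 37423) (Tr.lf (nat_lit 37409)) (Tr.lf (nat_lit 37423)))) (Tr.nd (nat_lit 37463) (Tr.nd (nat_lit 37447) (Tr.lf (nat_lit 37441)) (Tr.lf (nat_lit 37447))) (Tr.nd (nat_lit 37483) (Tr.lf (nat_lit 37463)) (Tr.nd (nat_lit 37489) (Tr.lf (nat_lit 37483)) (Tr.lf (nat_lit 37489))))))) (Tr.nd (nat_lit 37549) (Tr.nd (nat_lit 37517) (Tr.nd (nat_lit 37507) (Tr.nd (nat_lit 37501) (Tr.lf (nat_lit 37493)) (Tr.lf (nat_lit 37501))) (Tr.nd (nat_lit 37511) (Tr.lf (nat_lit 37507)) (Tr.lf (nat_lit 37511)))) (Tr.nd (nat_lit 37537) (Tr.nd (nat_lit 37529) (Tr.lf (nat_lit 37517)) (Tr.lf (nat_lit 37529))) (Tr.nd (nat_lit 37547) (Tr.lf (nat_lit 37537)) (Tr.lf (nat_lit 37547))))) (Tr.nd (nat_lit 37573) (Tr.nd (nat_lit 37567) (Tr.nd (nat_lit 37561) (Tr.lf (nat_lit 37549)) (Tr.lf (nat_lit 37561))) (Tr.nd (nat_lit 37571) (Tr.lf (nat_lit 37567)) (Tr.lf (nat_lit 37571)))) (Tr.nd (nat_lit 37589) (Tr.nd (nat_lit 37579) (Tr.lf (nat_lit 37573)) (Tr.lf (nat_lit 37579))) (Tr.nd (nat_lit 37591) (Tr.lf (nat_lit 37589)) (Tr.nd (nat_lit 37607) (Tr.lf (nat_lit 37591)) (Tr.lf (nat_lit 37607))))))))) (Tr.nd (nat_lit 38039) (Tr.nd (nat_lit 37847) (Tr.nd (nat_lit 37699) (Tr.nd (nat_lit 37657) (Tr.nd (nat_lit 37643) (Tr.nd (nat_lit 37633) (Tr.lf (nat_lit 37619)) (Tr.lf (nat_lit 37633))) (Tr.nd (nat_lit 37649) (Tr.lf (nat_lit 37643)) (Tr.lf (nat_lit 37649)))) (Tr.nd (nat_lit 37691) (Tr.nd (nat_lit 37663) (Tr.lf (nat_lit 37657)) (Tr.lf (nat_lit 37663))) (Tr.nd (nat_lit 37693) (Tr.lf (nat_lit 37691)) (Tr.lf (nat_lit 37693))))) (Tr.nd (nat_lit 37783) (Tr.nd (nat_lit 37747) (Tr.nd (nat_lit 37717) (Tr.lf (nat_lit 37699)) (Tr.lf (nat_lit 37717))) (Tr.nd (nat_lit 37781) (Tr.lf (nat_lit 37747)) (Tr.lf (nat_lit 37781)))) (Tr.nd (nat_lit 37811) (Tr.nd (nat_lit 37799) (Tr.lf (nat_lit 37783)) (Tr.lf (nat_lit 37799))) (Tr.nd (nat_lit 37813) (Tr.lf (nat_lit 37811)) (Tr.nd (nat_lit 37831) (Tr.lf (nat_lit 37813)) (Tr.lf (nat_lit 37831))))))) (Tr.nd (nat_lit 37951) (Tr.nd (nat_lit 37879) (Tr.nd (nat_lit 37861) (Tr.nd (nat_lit 37853) (Tr.lf (nat_lit 37847)) (Tr.lf (nat_lit 37853))) (Tr.nd (nat_lit 37871) (Tr.lf (nat_lit 37861)) (Tr.lf (nat_lit 37871)))) (Tr.nd (nat_lit 37897) (Tr.nd (nat_lit 37889) (Tr.lf (nat_lit 37879)) (Tr.lf (nat_lit 37889))) (Tr.nd (nat_lit 37907) (Tr.lf (nat_lit 37897)) (Tr.lf (nat_lit 37907))))) (Tr.nd (nat_lit 37987) (Tr.nd (nat_lit 37963) (Tr.nd (nat_lit 37957) (Tr.lf (nat_lit 37951)) (Tr.lf (nat_lit 37957))) (Tr.nd (nat_lit 37967) (Tr.lf (nat_lit 37963)) (Tr.lf (nat_lit 37967)))) (Tr.nd (nat_lit 37993) (Tr.nd (nat_lit 37991) (Tr.lf (nat_lit 37987)) (Tr.lf (nat_lit 37991))) (Tr.nd (nat_lit 37997) (Tr.lf (nat_lit 37993)) (Tr.nd (nat_lit 38011) (Tr.lf (nat_lit 37997)) (Tr.lf (nat_lit 38011)))))))) (Tr.nd (nat_lit 38237) (Tr.nd (nat_lit 38153) (Tr.nd (nat_lit 38083) (Tr.nd (nat_lit 38053) (Tr.nd (nat_lit 38047) (Tr.lf (nat_lit 38039)) (Tr.lf (nat_lit 38047))) (Tr.nd (nat_lit 38069) (Tr.lf (nat_lit 38053)) (Tr.lf (nat_lit 38069)))) (Tr.nd (nat_lit 38119) (Tr.nd (nat_lit 38113) (Tr.lf (nat_lit 38083)) (Tr.lf (nat_lit 38113))) (Tr.nd (nat_lit 38149) (Tr.lf (nat_lit 38119)) (Tr.lf (nat_lit 38149))))) (Tr.nd (nat_lit 38189) (Tr.nd (nat_lit 38177) (Tr.nd (nat_lit 38167) (Tr.lf (nat_lit 38153)) (Tr.lf (nat_lit 38167))) (Tr.nd (nat_lit 38183) (Tr.lf (nat_lit 38177)) (Tr.lf (nat_lit 38183)))) (Tr.nd (nat_lit 38201) (Tr.nd (nat_lit 38197) (Tr.lf (nat_lit 38189)) (Tr.lf (nat_lit 38197))) (Tr.nd (nat_lit 38219) (Tr.lf (nat_lit 38201)) (Tr.nd (nat_lit 38231) (Tr.lf (nat_lit 38219)) (Tr.lf (nat_lit 38231))))))) (Tr.nd (nat_lit 38317) (Tr.nd (nat_lit 38281) (Tr.nd (nat_lit 38261) (Tr.nd (nat_lit 38239) (Tr.lf (nat_lit 38237)) (Tr.lf (nat_lit 38239))) (Tr.nd (nat_lit 38273) (Tr.lf (nat_lit 38261)) (Tr.lf (nat_lit 38273)))) (Tr.nd (nat_lit 38299) (Tr.nd (nat_lit 38287) (Tr.lf (nat_lit 38281)) (Tr.lf (nat_lit 38287))) (Tr.nd (nat_lit 38303) (Tr.lf (nat_lit 38299)) (Tr.lf (nat_lit 38303))))) (Tr.nd (nat_lit 38333) (Tr.nd (nat_lit 38327) (Tr.nd (nat_lit 38321) (Tr.lf (nat_lit 38317)) (Tr.lf (nat_lit 38321))) (Tr.nd (nat_lit 38329) (Tr.lf (nat_lit 38327)) (Tr.lf (nat_lit 38329)))) (Tr.nd (nat_lit 38371) (Tr.nd (nat_lit 38351) (Tr.lf (nat_lit 38333)) (Tr.lf (nat_lit 38351))) (Tr.nd (nat_lit 38377) (Tr.lf (nat_lit 38371)) (Tr.nd (nat_lit 38393) (Tr.lf (nat_lit 38377)) (Tr.lf (nat_lit 38393)))))))))))) (Tr.nd (nat_lit 41281) (Tr.nd (nat_lit 39841) (Tr.nd (nat_lit 39133) (Tr.nd (nat_lit 38767) (Tr.nd (nat_lit 38629) (Tr.nd (nat_lit 38557) (Tr.nd (nat_lit 38459) (Tr.nd (nat_lit 38449) (Tr.nd (nat_lit 38447) (Tr.lf (nat_lit 38431)) (Tr.lf (nat_lit 38447))) (Tr.nd (nat_lit 38453) (Tr.lf (nat_lit 38449)) (Tr.lf (nat_lit 38453)))) (Tr.nd (nat_lit 38501) (Tr.nd (nat_lit 38461) (Tr.lf (nat_lit 38459)) (Tr.lf (nat_lit 38461))) (Tr.nd (nat_lit 38543) (Tr.lf (nat_lit 38501)) (Tr.lf (nat_lit 38543))))) (Tr.nd (nat_lit 38593) (Tr.nd (nat_lit 38567) (Tr.nd (nat_lit 38561) (Tr.lf (nat_lit 38557)) (Tr.lf (nat_lit 38561))) (Tr.nd (nat_lit 38569) (Tr.lf (nat_lit 38567)) (Tr.lf (nat_lit 38569)))) (Tr.nd (nat_lit 38609) (Tr.nd (nat_lit 38603) (Tr.lf (nat_lit 38593)) (Tr.lf (nat_lit 38603))) (Tr.nd (nat_lit 38611) (Tr.lf (nat_lit 38609)) (Tr.lf (nat_lit 38611)))))) (Tr.nd (nat_lit 38699) (Tr.nd (nat_lit 38669) (Tr.nd (nat_lit 38651) (Tr.nd (nat_lit 38639) (Tr.lf (nat_lit 38629)) (Tr.lf (nat_lit 38639))) (Tr.nd (nat_lit 38653) (Tr.lf (nat_lit 38651)) (Tr.lf (nat_lit 38653)))) (Tr.nd (nat_lit 38677) (Tr.nd (nat_lit 38671) (Tr.lf (nat_lit 38669)) (Tr.lf (nat_lit 38671))) (Tr.nd (nat_lit 38693) (Tr.lf (nat_lit 38677)) (Tr.lf (nat_lit 38693))))) (Tr.nd (nat_lit 38723) (Tr.nd (nat_lit 38711) (Tr.nd (nat_lit 38707) (Tr.lf (nat_lit 38699)) (Tr.lf (nat_lit 38707))) (Tr.nd (nat_lit 38713) (Tr.lf (nat_lit 38711)) (Tr.lf (nat_lit 38713)))) (Tr.nd (nat_lit 38737) (Tr.nd (nat_lit 38729) (Tr.lf (nat_lit 38723)) (Tr.lf (nat_lit 38729))) (Tr.nd (nat_lit 38747) (Tr.lf (nat_lit 38737)) (Tr.nd (nat_lit 38749) (Tr.lf (nat_lit 38747)) (Tr.lf (nat_lit 38749)))))))) (Tr.nd (nat_lit 38953) (Tr.nd (nat_lit 38861) (Tr.nd (nat_lit 38821) (Tr.nd (nat_lit 38791) (Tr.nd (nat_lit 38783) (Tr.lf (nat_lit 38767)) (Tr.lf (nat_lit 38783))) (Tr.nd (nat_lit 38803) (Tr.lf (nat_lit 38791)) (Tr.lf (nat_lit 38803)))) (Tr.nd (nat_lit 38839) (Tr.nd (nat_lit 38833) (Tr.lf (nat_lit 38821)) (Tr.lf (nat_lit 38833))) (Tr.nd (nat_lit 38851) (Tr.lf (nat_lit 38839)) (Tr.lf (nat_lit 38851))))) (Tr.nd (nat_lit 38903) (Tr.nd (nat_lit 38873) (Tr.nd (nat_lit 38867) (Tr.lf (nat_lit 38861)) (Tr.lf (nat_lit 38867))) (Tr.nd (nat_lit 38891) (Tr.lf (nat_lit 38873)) (Tr.lf (nat_lit 38891)))) (Tr.nd (nat_lit 38921) (Tr.nd (nat_lit 38917) (Tr.lf (nat_lit 38903)) (Tr.lf (nat_lit 38917))) (Tr.nd (nat_lit 38923) (Tr.lf (nat_lit 38921)) (Tr.nd (nat_lit 38933) (Tr.lf (nat_lit 38923)) (Tr.lf (nat_lit 38933))))))) (Tr.nd (nat_lit 39043) (Tr.nd (nat_lit 38993) (Tr.nd (nat_lit 38971) (Tr.nd (nat_lit 38959) (Tr.lf (nat_lit 38953)) (Tr.lf (nat_lit 38959))) (Tr.nd (nat_lit 38977) (Tr.lf (nat_lit 38971)) (Tr.lf (nat_lit 38977)))) (Tr.nd (nat_lit 39023) (Tr.nd (nat_lit 39019) (Tr.lf (nat_lit 38993)) (Tr.lf (nat_lit 39019))) (Tr.nd (nat_lit 39041) (Tr.lf (nat_lit 39023)) (Tr.lf (nat_lit 39041))))) (Tr.nd (nat_lit 39097) (Tr.nd (nat_lit 39079) (Tr.nd (nat_lit 39047) (Tr.lf (nat_lit 39043)) (Tr.lf (nat_lit 39047))) (Tr.nd (nat_lit 39089) (Tr.lf (nat_lit 39079)) (Tr.lf (nat_lit 39089)))) (Tr.nd (nat_lit 39107) (Tr.nd (nat_lit 39103) (Tr.lf (nat_lit 39097)) (Tr.lf (nat_lit 39103))) (Tr.nd (nat_lit 39113) (Tr.lf (nat_lit 39107)) (Tr.nd (nat_lit 39119) (Tr.lf (nat_lit 39113)) (Tr.lf (nat_lit 39119))))))))) (Tr.nd (nat_lit 39461) (Tr.nd (nat_lit 39301) (Tr.nd (nat_lit 39209) (Tr.nd (nat_lit 39163) (Tr.nd (nat_lit 39157) (Tr.nd (nat_lit 39139) (Tr.lf (nat_lit 39133)) (Tr.lf (nat_lit 39139))) (Tr.nd (nat_lit 39161) (Tr.lf (nat_lit 39157)) (Tr.lf (nat_lit 39161)))) (Tr.nd (nat_lit 39191) (Tr.nd (nat_lit 39181) (Tr.lf (nat_lit 39163)) (Tr.lf (nat_lit 39181))) (Tr.nd (nat_lit 39199) (Tr.lf (nat_lit 39191)) (Tr.lf (nat_lit 39199))))) (Tr.nd (nat_lit 39233) (Tr.nd (nat_lit 39227) (Tr.nd (nat_lit 39217) (Tr.lf (nat_lit 39209)) (Tr.lf (nat_lit 39217))) (Tr.nd (nat_lit 39229) (Tr.lf (nat_lit 39227)) (Tr.lf (nat_lit 39229)))) (Tr.nd (nat_lit 39241) (Tr.nd (nat_lit 39239) (Tr.lf (nat_lit 39233)) (Tr.lf (nat_lit 39239))) (Tr.nd (nat_lit 39251) (Tr.lf (nat_lit 39241)) (Tr.nd (nat_lit 39293) (Tr.lf (nat_lit 39251)) (Tr.lf (nat_lit 39293))))))) (Tr.nd (nat_lit 39371) (Tr.nd (nat_lit 39341) (Tr.nd (nat_lit 39317) (Tr.nd (nat_lit 39313) (Tr.lf (nat_lit 39301)) (Tr.lf (nat_lit 39313))) (Tr.nd (nat_lit 39323) (Tr.lf (nat_lit 39317)) (Tr.lf (nat_lit 39323)))) (Tr.nd (nat_lit 39359) (Tr.nd (nat_lit 39343) (Tr.lf (nat_lit 39341)) (Tr.lf (nat_lit 39343))) (Tr.nd (nat_lit 39367) (Tr.lf (nat_lit 39359)) (Tr.lf (nat_lit 39367))))) (Tr.nd (nat_lit 39409) (Tr.nd (nat_lit 39383) (Tr.nd (nat_lit 39373) (Tr.lf (nat_lit 39371)) (Tr.lf (nat_lit 39373))) (Tr.nd (nat_lit 39397) (Tr.lf (nat_lit 39383)) (Tr.lf (nat_lit 39397)))) (Tr.nd (nat_lit 39439) (Tr.nd (nat_lit 39419) (Tr.lf (nat_lit 39409)) (Tr.lf (nat_lit 39419))) (Tr.nd (nat_lit 39443) (Tr.lf (nat_lit 39439)) (Tr.nd (nat_lit 39451) (Tr.lf (nat_lit 39443)) (Tr.lf (nat_lit 39451)))))))) (Tr.nd (nat_lit 39671) (Tr.nd (nat_lit 39563) (Tr.nd (nat_lit 39511) (Tr.nd (nat_lit 39503) (Tr.nd (nat_lit 39499) (Tr.lf (nat_lit 39461)) (Tr.lf (nat_lit 39499))) (Tr.nd (nat_lit 39509) (Tr.lf (nat_lit 39503)) (Tr.lf (nat_lit 39509)))) (Tr.nd (nat_lit 39541) (Tr.nd (nat_lit 39521) (Tr.lf (nat_lit 39511)) (Tr.lf (nat_lit 39521))) (Tr.nd (nat_lit 39551) (Tr.lf (nat_lit 39541)) (Tr.lf (nat_lit 39551))))) (Tr.nd (nat_lit 39619) (Tr.nd (nat_lit 39581) (Tr.nd (nat_lit 39569) (Tr.lf (nat_lit 39563)) (Tr.lf (nat_lit 39569))) (Tr.nd (nat_lit 39607) (Tr.lf (nat_lit 39581)) (Tr.lf (nat_lit 39607)))) (Tr.nd (nat_lit 39631) (Tr.nd (nat_lit 39623) (Tr.lf (nat_lit 39619)) (Tr.lf (nat_lit 39623))) (Tr.nd (nat_lit 39659) (Tr.lf (nat_lit 39631)) (Tr.nd (nat_lit 39667) (Tr.lf (nat_lit 39659)) (Tr.lf (nat_lit 39667))))))) (Tr.nd (nat_lit 39761) (Tr.nd (nat_lit 39719) (Tr.nd (nat_lit 39703) (Tr.nd (nat_lit 39679) (Tr.lf (nat_lit 39671)) (Tr.lf (nat_lit 39679))) (Tr.nd (nat_lit 39709) (Tr.lf (nat_lit 39703)) (Tr.lf (nat_lit 39709)))) (Tr.nd (nat_lit 39733) (Tr.nd (nat_lit 39727) (Tr.lf (nat_lit 39719)) (Tr.lf (nat_lit 39727))) (Tr.nd (nat_lit 39749) (Tr.lf (nat_lit 39733)) (Tr.lf (nat_lit 39749))))) (Tr.nd (nat_lit 39799) (Tr.nd (nat_lit 39779) (Tr.nd (nat_lit 39769) (Tr.lf (nat_lit 39761)) (Tr.lf (nat_lit 39769))) (Tr.nd (nat_lit 39791) (Tr.lf (nat_lit 39779)) (Tr.lf (nat_lit 39791)))) (Tr.nd (nat_lit 39827) (Tr.nd (nat_lit 39821) (Tr.lf (nat_lit 39799)) (Tr.lf (nat_lit 39821))) (Tr.nd (nat_lit 39829) (Tr.lf (nat_lit 39827)) (Tr.nd (nat_lit 39839) (Tr.lf (nat_lit 39829)) (Tr.lf (nat_lit 39839)))))))))) (Tr.nd (nat_lit 40591) (Tr.nd (nat_lit 40177) (Tr.nd (nat_lit 40009) (Tr.nd (nat_lit 39901) (Tr.nd (nat_lit 39869) (Tr.nd (nat_lit 39857) (Tr.nd (nat_lit 39847) (Tr.lf (nat_lit 39841)) (Tr.lf (nat_lit 39847))) (Tr.nd (nat_lit 39863) (Tr.lf (nat_lit 39857)) (Tr.lf (nat_lit 39863)))) (Tr.nd (nat_lit 39883) (Tr.nd (nat_lit 39877) (Tr.lf (nat_lit 39869)) (Tr.lf (nat_lit 39877))) (Tr.nd (nat_lit 39887) (Tr.lf (nat_lit 39883)) (Tr.lf (nat_lit 39887))))) (Tr.nd (nat_lit 39971) (Tr.nd (nat_lit 39937) (Tr.nd (nat_lit 39929) (Tr.lf (nat_lit 39901)) (Tr.lf (nat_lit 39929))) (Tr.nd (nat_lit 39953) (Tr.lf (nat_lit 39937)) (Tr.lf (nat_lit 39953)))) (Tr.nd (nat_lit 39983) (Tr.nd (nat_lit 39979) (Tr.lf (nat_lit 39971)) (Tr.lf (nat_lit 39979))) (Tr.nd (nat_lit 39989) (Tr.lf (nat_lit 39983)) (Tr.lf (nat_lit 39989)))))) (Tr.nd (nat_lit 40099) (Tr.nd (nat_lit 40039) (Tr.nd (nat_lit 40031) (Tr.nd (nat_lit 40013) (Tr.lf (nat_lit 40009)) (Tr.lf (nat_lit 40013))) (Tr.nd (nat_lit 40037) (Tr.lf (nat_lit 40031)) (Tr.lf (nat_lit 40037)))) (Tr.nd (nat_lit 40087) (Tr.nd (nat_lit 40063) (Tr.lf (nat_lit 40039)) (Tr.lf (nat_lit 40063))) (Tr.nd (nat_lit 40093) (Tr.lf (nat_lit 40087)) (Tr.lf (nat_lit 40093))))) (Tr.nd (nat_lit 40129) (Tr.nd (nat_lit 40123) (Tr.nd (nat_lit 40111) (Tr.lf (nat_lit 40099)) (Tr.lf (nat_lit 40111))) (Tr.nd (nat_lit 40127) (Tr.lf (nat_lit 40123)) (Tr.lf (nat_lit 40127)))) (Tr.nd (nat_lit 40153) (Tr.nd (nat_lit 40151) (Tr.lf (nat_lit 40129)) (Tr.lf (nat_lit 40151))) (Tr.nd (nat_lit 40163) (Tr.lf (nat_lit 40153)) (Tr.nd (nat_lit 40169) (Tr.lf (nat_lit 40163)) (Tr.lf (nat_lit 40169)))))))) (Tr.nd (nat_lit 40427) (Tr.nd (nat_lit 40277) (Tr.nd (nat_lit 40231) (Tr.nd (nat_lit 40193) (Tr.nd (nat_lit 40189) (Tr.lf (nat_lit 40177)) (Tr.lf (nat_lit 40189))) (Tr.nd (nat_lit 40213) (Tr.lf (nat_lit 40193)) (Tr.lf (nat_lit 40213)))) (Tr.nd (nat_lit 40241) (Tr.nd (nat_lit 40237) (Tr.lf (nat_lit 40231)) (Tr.lf (nat_lit 40237))) (Tr.nd (nat_lit 40253) (Tr.lf (nat_lit 40241)) (Tr.lf (nat_lit 40253))))) (Tr.nd (nat_lit 40351) (Tr.nd (nat_lit 40289) (Tr.nd (nat_lit 40283) (Tr.lf (nat_lit 40277)) (Tr.lf (nat_lit 40283))) (Tr.nd (nat_lit 40343) (Tr.lf (nat_lit 40289)) (Tr.lf (nat_lit 40343)))) (Tr.nd (nat_lit 40361) (Tr.nd (nat_lit 40357) (Tr.lf (nat_lit 40351)) (Tr.lf (nat_lit 40357))) (Tr.nd (nat_lit 40387) (Tr.lf (nat_lit 40361)) (Tr.nd (nat_lit 40423) (Tr.lf (nat_lit 40387)) (Tr.lf (nat_lit 40423))))))) (Tr.nd (nat_lit 40499) (Tr.nd (nat_lit 40471) (Tr.nd (nat_lit 40433) (Tr.nd (nat_lit 40429) (Tr.lf (nat_lit 40427)) (Tr.lf (nat_lit 40429))) (Tr.nd (nat_lit 40459) (Tr.lf (nat_lit 40433)) (Tr.lf (nat_lit 40459)))) (Tr.nd (nat_lit 40487) (Tr.nd (nat_lit 40483) (Tr.lf (nat_lit 40471)) (Tr.lf (nat_lit 40483))) (Tr.nd (nat_lit 40493) (Tr.lf (nat_lit 40487)) (Tr.lf (nat_lit 40493))))) (Tr.nd (nat_lit 40531) (Tr.nd (nat_lit 40519) (Tr.nd (nat_lit 40507) (Tr.lf (nat_lit 40499)) (Tr.lf (nat_lit 40507))) (Tr.nd (nat_lit 40529) (Tr.lf (nat_lit 40519)) (Tr.lf (nat_lit 40529)))) (Tr.nd (nat_lit 40559) (Tr.nd (nat_lit 40543) (Tr.lf (nat_lit 40531)) (Tr.lf (nat_lit 40543))) (Tr.nd (nat_lit 40577) (Tr.lf (nat_lit 40559)) (Tr.nd (nat_lit 40583) (Tr.lf (nat_lit 40577)) (Tr.lf (nat_lit 40583))))))))) (Tr.nd (nat_lit 40961) (Tr.nd (nat_lit 40813) (Tr.nd (nat_lit 40699) (Tr.nd (nat_lit 40637) (Tr.nd (nat_lit 40609) (Tr.nd (nat_lit 40597) (Tr.lf (nat_lit 40591)) (Tr.lf (nat_lit 40597))) (Tr.nd (nat_lit 40627) (Tr.lf (nat_lit 40609)) (Tr.lf (nat_lit 40627)))) (Tr.nd (nat_lit 40693) (Tr.nd (nat_lit 40639) (Tr.lf (nat_lit 40637)) (Tr.lf (nat_lit 40639))) (Tr.nd (nat_lit 40697) (Tr.lf (nat_lit 40693)) (Tr.lf (nat_lit 40697))))) (Tr.nd (nat_lit 40759) (Tr.nd (nat_lit 40739) (Tr.nd (nat_lit 40709) (Tr.lf (nat_lit 40699)) (Tr.lf (nat_lit 40709))) (Tr.nd (nat_lit 40751) (Tr.lf (nat_lit 40739)) (Tr.lf (nat_lit 40751)))) (Tr.nd (nat_lit 40771) (Tr.nd (nat_lit 40763) (Tr.lf (nat_lit 40759)) (Tr.lf (nat_lit 40763))) (Tr.nd (nat_lit 40787) (Tr.lf (nat_lit 40771)) (Tr.nd (nat_lit 40801) (Tr.lf (nat_lit 40787)) (Tr.lf (nat_lit 40801))))))) (Tr.nd (nat_lit 40867) (Tr.nd (nat_lit 40841) (Tr.nd (nat_lit 40823) (Tr.nd (nat_lit 40819) (Tr.lf (nat_lit 40813)) (Tr.lf (nat_lit 40819))) (Tr.nd (nat_lit 40829) (Tr.lf (nat_lit 40823)) (Tr.lf (nat_lit 40829)))) (Tr.nd (nat_lit 40849) (Tr.nd (nat_lit 40847) (Tr.lf (nat_lit 40841)) (Tr.lf (nat_lit 40847))) (Tr.nd (nat_lit 40853) (Tr.lf (nat_lit 40849)) (Tr.lf (nat_lit 40853))))) (Tr.nd (nat_lit 40903) (Tr.nd (nat_lit 40883) (Tr.nd (nat_lit 40879) (Tr.lf (nat_lit 40867)) (Tr.lf (nat_lit 40879))) (Tr.nd (nat_lit 40897) (Tr.lf (nat_lit 40883)) (Tr.lf (nat_lit 40897)))) (Tr.nd (nat_lit 40933) (Tr.nd (nat_lit 40927) (Tr.lf (nat_lit 40903)) (Tr.lf (nat_lit 40927))) (Tr.nd (nat_lit 40939) (Tr.lf (nat_lit 40933)) (Tr.nd (nat_lit 40949) (Tr.lf (nat_lit 40939)) (Tr.lf (nat_lit 40949)))))))) (Tr.nd (nat_lit 41149) (Tr.nd (nat_lit 41051) (Tr.nd (nat_lit 41017) (Tr.nd (nat_lit 40993) (Tr.nd (nat_lit 40973) (Tr.lf (nat_lit 40961)) (Tr.lf (nat_lit 40973))) (Tr.nd (nat_lit 41011) (Tr.lf (nat_lit 40993)) (Tr.lf (nat_lit 41011)))) (Tr.nd (nat_lit 41039) (Tr.nd (nat_lit 41023) (Tr.lf (nat_lit 41017)) (Tr.lf (nat_lit 41023))) (Tr.nd (nat_lit 41047) (Tr.lf (nat_lit 41039)) (Tr.lf (nat_lit 41047))))) (Tr.nd (nat_lit 41113) (Tr.nd (nat_lit 41077) (Tr.nd (nat_lit 41057) (Tr.lf (nat_lit 41051)) (Tr.lf (nat_lit 41057))) (Tr.nd (nat_lit 41081) (Tr.lf (nat_lit 41077)) (Tr.lf (nat_lit 41081)))) (Tr.nd (nat_lit 41131) (Tr.nd (nat_lit 41117) (Tr.lf (nat_lit 41113)) (Tr.lf (nat_lit 41117))) (Tr.nd (nat_lit 41141) (Tr.lf (nat_lit 41131)) (Tr.nd (nat_lit 41143) (Tr.lf (nat_lit 41141)) (Tr.lf (nat_lit 41143))))))) (Tr.nd (nat_lit 41213) (Tr.nd (nat_lit 41183) (Tr.nd (nat_lit 41177) (Tr.nd (nat_lit 41161) (Tr.lf (nat_lit 41149)) (Tr.lf (nat_lit 41161))) (Tr.nd (nat_lit 41179) (Tr.lf (nat_lit 41177)) (Tr.lf (nat_lit 41179)))) (Tr.nd (nat_lit 41201) (Tr.nd (nat_lit 41189) (Tr.lf (nat_lit 41183)) (Tr.lf (nat_lit 41189))) (Tr.nd (nat_lit 41203) (Tr.lf (nat_lit 41201)) (Tr.lf (nat_lit 41203))))) (Tr.nd (nat_lit 41233) (Tr.nd (nat_lit 41227) (Tr.nd (nat_lit 41221) (Tr.lf (nat_lit 41213)) (Tr.lf (nat_lit 41221))) (Tr.nd (nat_lit 41231) (Tr.lf (nat_lit 41227)) (Tr.lf (nat_lit 41231)))) (Tr.nd (nat_lit 41257) (Tr.nd (nat_lit 41243) (Tr.lf (nat_lit 41233)) (Tr.lf (nat_lit 41243))) (Tr.nd (nat_lit 41263) (Tr.lf (nat_lit 41257)) (Tr.nd (nat_lit 41269) (Tr.lf (nat_lit 41263)) (Tr.lf (nat_lit 41269))))))))))) (Tr.nd (nat_lit 42649) (Tr.nd (nat_lit 41981) (Tr.nd (nat_lit 41641) (Tr.nd (nat_lit 41491) (Tr.nd (nat_lit 41389) (Tr.nd (nat_lit 41351) (Tr.nd (nat_lit 41333) (Tr.nd (nat_lit 41299) (Tr.lf (nat_lit 41281)) (Tr.lf (nat_lit 41299))) (Tr.nd (nat_lit 41341) (Tr.lf (nat_lit 41333)) (Tr.lf (nat_lit 41341)))) (Tr.nd (nat_lit 41381) (Tr.nd (nat_lit 41357) (Tr.lf (nat_lit 41351)) (Tr.lf (nat_lit 41357))) (Tr.nd (nat_lit 41387) (Tr.lf (nat_lit 41381)) (Tr.lf (nat_lit 41387))))) (Tr.nd (nat_lit 41443) (Tr.nd (nat_lit 41411) (Tr.nd (nat_lit 41399) (Tr.lf (nat_lit 41389)) (Tr.lf (nat_lit 41399))) (Tr.nd (nat_lit 41413) (Tr.lf (nat_lit 41411)) (Tr.lf (nat_lit 41413)))) (Tr.nd (nat_lit 41467) (Tr.nd (nat_lit 41453) (Tr.lf (nat_lit 41443)) (Tr.lf (nat_lit 41453))) (Tr.nd (nat_lit 41479) (Tr.lf (nat_lit 41467)) (Tr.lf (nat_lit 41479)))))) (Tr.nd (nat_lit 41579) (Tr.nd (nat_lit 41521) (Tr.nd (nat_lit 41513) (Tr.nd (nat_lit 41507) (Tr.lf (nat_lit 41491)) (Tr.lf (nat_lit 41507))) (Tr.nd (nat_lit 41519) (Tr.lf (nat_lit 41513)) (Tr.lf (nat_lit 41519)))) (Tr.nd (nat_lit 41543) (Tr.nd (nat_lit 41539) (Tr.lf (nat_lit 41521)) (Tr.lf (nat_lit 41539))) (Tr.nd (nat_lit 41549) (Tr.lf (nat_lit 41543)) (Tr.lf (nat_lit 41549))))) (Tr.nd (nat_lit 41609) (Tr.nd (nat_lit 41597) (Tr.nd (nat_lit 41593) (Tr.lf (nat_lit 41579)) (Tr.lf (nat_lit 41593))) (Tr.nd (nat_lit 41603) (Tr.lf (nat_lit 41597)) (Tr.lf (nat_lit 41603)))) (Tr.nd (nat_lit 41617) (Tr.nd (nat_lit 41611) (Tr.lf (nat_lit 41609)) (Tr.lf (nat_lit 41611))) (Tr.nd (nat_lit 41621) (Tr.lf (nat_lit 41617)) (Tr.nd (nat_lit 41627) (Tr.lf (nat_lit 41621)) (Tr.lf (nat_lit 41627)))))))) (Tr.nd (nat_lit 41843) (Tr.nd (nat_lit 41729) (Tr.nd (nat_lit 41669) (Tr.nd (nat_lit 41651) (Tr.nd (nat_lit 41647) (Tr.lf (nat_lit 41641)) (Tr.lf (nat_lit 41647))) (Tr.nd (nat_lit 41659) (Tr.lf (nat_lit 41651)) (Tr.lf (nat_lit 41659)))) (Tr.nd (nat_lit 41687) (Tr.nd (nat_lit 41681) (Tr.lf (nat_lit 41669)) (Tr.lf (nat_lit 41681))) (Tr.nd (nat_lit 41719) (Tr.lf (nat_lit 41687)) (Tr.lf (nat_lit 41719))))) (Tr.nd (nat_lit 41771) (Tr.nd (nat_lit 41759) (Tr.nd (nat_lit 41737) (Tr.lf (nat_lit 41729)) (Tr.lf (nat_lit 41737))) (Tr.nd (nat_lit 41761) (Tr.lf (nat_lit 41759)) (Tr.lf (nat_lit 41761)))) (Tr.nd (nat_lit 41801) (Tr.nd (nat_lit 41777) (Tr.lf (nat_lit 41771)) (Tr.lf (nat_lit 41777))) (Tr.nd (nat_lit 41809) (Tr.lf (nat_lit 41801)) (Tr.nd (nat_lit 41813) (Tr.lf (nat_lit 41809)) (Tr.lf (nat_lit 41813))))))) (Tr.nd (nat_lit 41903) (Tr.nd (nat_lit 41879) (Tr.nd (nat_lit 41851) (Tr.nd (nat_lit 41849) (Tr.lf (nat_lit 41843)) (Tr.lf (nat_lit 41849))) (Tr.nd (nat_lit 41863) (Tr.lf (nat_lit 41851)) (Tr.lf (nat_lit 41863)))) (Tr.nd (nat_lit 41893) (Tr.nd (nat_lit 41887) (Tr.lf (nat_lit 41879)) (Tr.lf (nat_lit 41887))) (Tr.nd (nat_lit 41897) (Tr.lf (nat_lit 41893)) (Tr.lf (nat_lit 41897))))) (Tr.nd (nat_lit 41947) (Tr.nd (nat_lit 41927) (Tr.nd (nat_lit 41911) (Tr.lf (nat_lit 41903)) (Tr.lf (nat_lit 41911))) (Tr.nd (nat_lit 41941) (Tr.lf (nat_lit 41927)) (Tr.lf (nat_lit 41941)))) (Tr.nd (nat_lit 41957) (Tr.nd (nat_lit 41953) (Tr.lf (nat_lit 41947)) (Tr.lf (nat_lit 41953))) (Tr.nd (nat_lit 41959) (Tr.lf (nat_lit 41957)) (Tr.nd (nat_lit 41969) (Tr.lf (nat_lit 41959)) (Tr.lf (nat_lit 41969))))))))) (Tr.nd (nat_lit 42323) (Tr.nd (nat_lit 42169) (Tr.nd (nat_lit 42061) (Tr.nd (nat_lit 42017) (Tr.nd (nat_lit 41999) (Tr.nd (nat_lit 41983) (Tr.lf (nat_lit 41981)) (Tr.lf (nat_lit 41983))) (Tr.nd (nat_lit 42013) (Tr.lf (nat_lit 41999)) (Tr.lf (nat_lit 42013)))) (Tr.nd (nat_lit 42023) (Tr.nd (nat_lit 42019) (Tr.lf (nat_lit 42017)) (Tr.lf (nat_lit 42019))) (Tr.nd (nat_lit 42043) (Tr.lf (nat_lit 42023)) (Tr.lf (nat_lit 42043))))) (Tr.nd (nat_lit 42089) (Tr.nd (nat_lit 42073) (Tr.nd (nat_lit 42071) (Tr.lf (nat_lit 42061)) (Tr.lf (nat_lit 42071))) (Tr.nd (nat_lit 42083) (Tr.lf (nat_lit 42073)) (Tr.lf (nat_lit 42083)))) (Tr.nd (nat_lit 42131) (Tr.nd (nat_lit 42101) (Tr.lf (nat_lit 42089)) (Tr.lf (nat_lit 42101))) (Tr.nd (nat_lit 42139) (Tr.lf (nat_lit 42131)) (Tr.nd (nat_lit 42157) (Tr.lf (nat_lit 42139)) (Tr.lf (nat_lit 42157))))))) (Tr.nd (nat_lit 42223) (Tr.nd (nat_lit 42193) (Tr.nd (nat_lit 42181) (Tr.nd (nat_lit 42179) (Tr.lf (nat_lit 42169)) (Tr.lf (nat_lit 42179))) (Tr.nd (nat_lit 42187) (Tr.lf (nat_lit 42181)) (Tr.lf (nat_lit 42187)))) (Tr.nd (nat_lit 42209) (Tr.nd (nat_lit 42197) (Tr.lf (nat_lit 42193)) (Tr.lf (nat_lit 42197))) (Tr.nd (nat_lit 42221) (Tr.lf (nat_lit 42209)) (Tr.lf (nat_lit 42221))))) (Tr.nd (nat_lit 42281) (Tr.nd (nat_lit 42239) (Tr.nd (nat_lit 42227) (Tr.lf (nat_lit 42223)) (Tr.lf (nat_lit 42227))) (Tr.nd (nat_lit 42257) (Tr.lf (nat_lit 42239)) (Tr.lf (nat_lit 42257)))) (Tr.nd (nat_lit 42293) (Tr.nd (nat_lit 42283) (Tr.lf (nat_lit 42281)) (Tr.lf (nat_lit 42283))) (Tr.nd (nat_lit 42299) (Tr.lf (nat_lit 42293)) (Tr.nd (nat_lit 42307) (Tr.lf (nat_lit 42299)) (Tr.lf (nat_lit 42307)))))))) (Tr.nd (nat_lit 42461) (Tr.nd (nat_lit 42397) (Tr.nd (nat_lit 42359) (Tr.nd (nat_lit 42337) (Tr.nd (nat_lit 42331) (Tr.lf (nat_lit 42323)) (Tr.lf (nat_lit 42331))) (Tr.nd (nat_lit 42349) (Tr.lf (nat_lit 42337)) (Tr.lf (nat_lit 42349)))) (Tr.nd (nat_lit 42379) (Tr.nd (nat_lit 42373) (Tr.lf (nat_lit 42359)) (Tr.lf (nat_lit 42373))) (Tr.nd (nat_lit 42391) (Tr.lf (nat_lit 42379)) (Tr.lf (nat_lit 42391))))) (Tr.nd (nat_lit 42433) (Tr.nd (nat_lit 42407) (Tr.nd (nat_lit 42403) (Tr.lf (nat_lit 42397)) (Tr.lf (nat_lit 42403))) (Tr.nd (nat_lit 42409) (Tr.lf (nat_lit 42407)) (Tr.lf (nat_lit 42409)))) (Tr.nd (nat_lit 42443) (Tr.nd (nat_lit 42437) (Tr.lf (nat_lit 42433)) (Tr.lf (nat_lit 42437))) (Tr.nd (nat_lit 42451) (Tr.lf (nat_lit 42443)) (Tr.nd (nat_lit 42457) (Tr.lf (nat_lit 42451)) (Tr.lf (nat_lit 42457))))))) (Tr.nd (nat_lit 42533) (Tr.nd (nat_lit 42487) (Tr.nd (nat_lit 42467) (Tr.nd (nat_lit 42463) (Tr.lf (nat_lit 42461)) (Tr.lf (nat_lit 42463))) (Tr.nd (nat_lit 42473) (Tr.lf (nat_lit 42467)) (Tr.lf (nat_lit 42473)))) (Tr.nd (nat_lit 42499) (Tr.nd (nat_lit 42491) (Tr.lf (nat_lit 42487)) (Tr.lf (nat_lit 42491))) (Tr.nd (nat_lit 42509) (Tr.lf (nat_lit 42499)) (Tr.lf (nat_lit 42509))))) (Tr.nd (nat_lit 42577) (Tr.nd (nat_lit 42569) (Tr.nd (nat_lit 42557) (Tr.lf (nat_lit 42533)) (Tr.lf (nat_lit 42557))) (Tr.nd (nat_lit 42571) (Tr.lf (nat_lit 42569)) (Tr.lf (nat_lit 42571)))) (Tr.nd (nat_lit 42611) (Tr.nd (nat_lit 42589) (Tr.lf (nat_lit 42577)) (Tr.lf (nat_lit 42589))) (Tr.nd (nat_lit 42641) (Tr.lf (nat_lit 42611)) (Tr.nd (nat_lit 42643) (Tr.lf (nat_lit 42641)) (Tr.lf (nat_lit 42643)))))))))) (Tr.nd (nat_lit 43399) (Tr.nd (nat_lit 42961) (Tr.nd (nat_lit 42787) (Tr.nd (nat_lit 42709) (Tr.nd (nat_lit 42689) (Tr.nd (nat_lit 42677) (Tr.nd (nat_lit 42667) (Tr.lf (nat_lit 42649)) (Tr.lf (nat_lit 42667))) (Tr.nd (nat_lit 42683) (Tr.lf (nat_lit 42677)) (Tr.lf (nat_lit 42683)))) (Tr.nd (nat_lit 42701) (Tr.nd (nat_lit 42697) (Tr.lf (nat_lit 42689)) (Tr.lf (nat_lit 42697))) (Tr.nd (nat_lit 42703) (Tr.lf (nat_lit 42701)) (Tr.lf (nat_lit 42703))))) (Tr.nd (nat_lit 42743) (Tr.nd (nat_lit 42727) (Tr.nd (nat_lit 42719) (Tr.lf (nat_lit 42709)) (Tr.lf (nat_lit 42719))) (Tr.nd (nat_lit 42737) (Tr.lf (nat_lit 42727)) (Tr.lf (nat_lit 42737)))) (Tr.nd (nat_lit 42767) (Tr.nd (nat_lit 42751) (Tr.lf (nat_lit 42743)) (Tr.lf (nat_lit 42751))) (Tr.nd (nat_lit 42773) (Tr.lf (nat_lit 42767)) (Tr.lf (nat_lit 42773)))))) (Tr.nd (nat_lit 42859) (Tr.nd (nat_lit 42829) (Tr.nd (nat_lit 42797) (Tr.nd (nat_lit 42793) (Tr.lf (nat_lit 42787)) (Tr.lf (nat_lit 42793))) (Tr.nd (nat_lit 42821) (Tr.lf (nat_lit 42797)) (Tr.lf (nat_lit 42821)))) (Tr.nd (nat_lit 42841) (Tr.nd (nat_lit 42839) (Tr.lf (nat_lit 42829)) (Tr.lf (nat_lit 42839))) (Tr.nd (nat_lit 42853) (Tr.lf (nat_lit 42841)) (Tr.lf (nat_lit 42853))))) (Tr.nd (nat_lit 42923) (Tr.nd (nat_lit 42899) (Tr.nd (nat_lit 42863) (Tr.lf (nat_lit 42859)) (Tr.lf (nat_lit 42863))) (Tr.nd (nat_lit 42901) (Tr.lf (nat_lit 42899)) (Tr.lf (nat_lit 42901)))) (Tr.nd (nat_lit 42937) (Tr.nd (nat_lit 42929) (Tr.lf (nat_lit 42923)) (Tr.lf (nat_lit 42929))) (Tr.nd (nat_lit 42943) (Tr.lf (nat_lit 42937)) (Tr.nd (nat_lit 42953) (Tr.lf (nat_lit 42943)) (Tr.lf (nat_lit 42953)))))))) (Tr.nd (nat_lit 43159) (Tr.nd (nat_lit 43049) (Tr.nd (nat_lit 43003) (Tr.nd (nat_lit 42979) (Tr.nd (nat_lit 42967) (Tr.lf (nat_lit 42961)) (Tr.lf (nat_lit 42967))) (Tr.nd (nat_lit 42989) (Tr.lf (nat_lit 42979)) (Tr.lf (nat_lit 42989)))) (Tr.nd (nat_lit 43019) (Tr.nd (nat_lit 43013) (Tr.lf (nat_lit 43003)) (Tr.lf (nat_lit 43013))) (Tr.nd (nat_lit 43037) (Tr.lf (nat_lit 43019)) (Tr.lf (nat_lit 43037))))) (Tr.nd (nat_lit 43093) (Tr.nd (nat_lit 43063) (Tr.nd (nat_lit 43051) (Tr.lf (nat_lit 43049)) (Tr.lf (nat_lit 43051))) (Tr.nd (nat_lit 43067) (Tr.lf (nat_lit 43063)) (Tr.lf (nat_lit 43067)))) (Tr.nd (nat_lit 43117) (Tr.nd (nat_lit 43103) (Tr.lf (nat_lit 43093)) (Tr.lf (nat_lit 43103))) (Tr.nd (nat_lit 43133) (Tr.lf (nat_lit 43117)) (Tr.nd (nat_lit 43151) (Tr.lf (nat_lit 43133)) (Tr.lf (nat_lit 43151))))))) (Tr.nd (nat_lit 43271) (Tr.nd (nat_lit 43207) (Tr.nd (nat_lit 43189) (Tr.nd (nat_lit 43177) (Tr.lf (nat_lit 43159)) (Tr.lf (nat_lit 43177))) (Tr.nd (nat_lit 43201) (Tr.lf (nat_lit 43189)) (Tr.lf (nat_lit 43201)))) (Tr.nd (nat_lit 43237) (Tr.nd (nat_lit 43223) (Tr.lf (nat_lit 43207)) (Tr.lf (nat_lit 43223))) (Tr.nd (nat_lit 43261) (Tr.lf (nat_lit 43237)) (Tr.lf (nat_lit 43261))))) (Tr.nd (nat_lit 43319) (Tr.nd (nat_lit 43291) (Tr.nd (nat_lit 43283) (Tr.lf (nat_lit 43271)) (Tr.lf (nat_lit 43283))) (Tr.nd (nat_lit 43313) (Tr.lf (nat_lit 43291)) (Tr.lf (nat_lit 43313)))) (Tr.nd (nat_lit 43331) (Tr.nd (nat_lit 43321) (Tr.lf (nat_lit 43319)) (Tr.lf (nat_lit 43321))) (Tr.nd (nat_lit 43391) (Tr.lf (nat_lit 43331)) (Tr.nd (nat_lit 43397) (Tr.lf (nat_lit 43391)) (Tr.lf (nat_lit 43397))))))))) (Tr.nd (nat_lit 43781) (Tr.nd (nat_lit 43597) (Tr.nd (nat_lit 43487) (Tr.nd (nat_lit 43441) (Tr.nd (nat_lit 43411) (Tr.nd (nat_lit 43403) (Tr.lf (nat_lit 43399)) (Tr.lf (nat_lit 43403))) (Tr.nd (nat_lit 43427) (Tr.lf (nat_lit 43411)) (Tr.lf (nat_lit 43427)))) (Tr.nd (nat_lit 43457) (Tr.nd (nat_lit 43451) (Tr.lf (nat_lit 43441)) (Tr.lf (nat_lit 43451))) (Tr.nd (nat_lit 43481) (Tr.lf (nat_lit 43457)) (Tr.lf (nat_lit 43481))))) (Tr.nd (nat_lit 43543) (Tr.nd (nat_lit 43517) (Tr.nd (nat_lit 43499) (Tr.lf (nat_lit 43487)) (Tr.lf (nat_lit 43499))) (Tr.nd (nat_lit 43541) (Tr.lf (nat_lit 43517)) (Tr.lf (nat_lit 43541)))) (Tr.nd (nat_lit 43577) (Tr.nd (nat_lit 43573) (Tr.lf (nat_lit 43543)) (Tr.lf (nat_lit 43573))) (Tr.nd (nat_lit 43579) (Tr.lf (nat_lit 43577)) (Tr.nd (nat_lit 43591) (Tr.lf (nat_lit 43579)) (Tr.lf (nat_lit 43591))))))) (Tr.nd (nat_lit 43661) (Tr.nd (nat_lit 43627) (Tr.nd (nat_lit 43609) (Tr.nd (nat_lit 43607) (Tr.lf (nat_lit 43597)) (Tr.lf (nat_lit 43607))) (Tr.nd (nat_lit 43613) (Tr.lf (nat_lit 43609)) (Tr.lf (nat_lit 43613)))) (Tr.nd (nat_lit 43649) (Tr.nd (nat_lit 43633) (Tr.lf (nat_lit 43627)) (Tr.lf (nat_lit 43633))) (Tr.nd (nat_lit 43651) (Tr.lf (nat_lit 43649)) (Tr.lf (nat_lit 43651))))) (Tr.nd (nat_lit 43717) (Tr.nd (nat_lit 43691) (Tr.nd (nat_lit 43669) (Tr.lf (nat_lit 43661)) (Tr.lf (nat_lit 43669))) (Tr.nd (nat_lit 43711) (Tr.lf (nat_lit 43691)) (Tr.lf (nat_lit 43711)))) (Tr.nd (nat_lit 43753) (Tr.nd (nat_lit 43721) (Tr.lf (nat_lit 43717)) (Tr.lf (nat_lit 43721))) (Tr.nd (nat_lit 43759) (Tr.lf (nat_lit 43753)) (Tr.nd (nat_lit 43777) (Tr.lf (nat_lit 43759)) (Tr.lf (nat_lit 43777)))))))) (Tr.nd (nat_lit 43973) (Tr.nd (nat_lit 43889) (Tr.nd (nat_lit 43793) (Tr.nd (nat_lit 43787) (Tr.nd (nat_lit 43783) (Tr.lf (nat_lit 43781)) (Tr.lf (nat_lit 43783))) (Tr.nd (nat_lit 43789) (Tr.lf (nat_lit 43787)) (Tr.lf (nat_lit 43789)))) (Tr.nd (nat_lit 43853) (Tr.nd (nat_lit 43801) (Tr.lf (nat_lit 43793)) (Tr.lf (nat_lit 43801))) (Tr.nd (nat_lit 43867) (Tr.lf (nat_lit 43853)) (Tr.lf (nat_lit 43867))))) (Tr.nd (nat_lit 43943) (Tr.nd (nat_lit 43913) (Tr.nd (nat_lit 43891) (Tr.lf (nat_lit 43889)) (Tr.lf (nat_lit 43891))) (Tr.nd (nat_lit 43933) (Tr.lf (nat_lit 43913)) (Tr.lf (nat_lit 43933)))) (Tr.nd (nat_lit 43961) (Tr.nd (nat_lit 43951) (Tr.lf (nat_lit 43943)) (Tr.lf (nat_lit 43951))) (Tr.nd (nat_lit 43963) (Tr.lf (nat_lit 43961)) (Tr.nd (nat_lit 43969) (Tr.lf (nat_lit 43963)) (Tr.lf (nat_lit 43969))))))) (Tr.nd (nat_lit 44041) (Tr.nd (nat_lit 44017) (Tr.nd (nat_lit 43991) (Tr.nd (nat_lit 43987) (Tr.lf (nat_lit 43973)) (Tr.lf (nat_lit 43987))) (Tr.nd (nat_lit 43997) (Tr.lf (nat_lit 43991)) (Tr.lf (nat_lit 43997)))) (Tr.nd (nat_lit 44027) (Tr.nd (nat_lit 44021) (Tr.lf (nat_lit 44017)) (Tr.lf (nat_lit 44021))) (Tr.nd (nat_lit 44029) (Tr.lf (nat_lit 44027)) (Tr.lf (nat_lit 44029))))) (Tr.nd (nat_lit 44087) (Tr.nd (nat_lit 44059) (Tr.nd (nat_lit 44053) (Tr.lf (nat_lit 44041)) (Tr.lf (nat_lit 44053))) (Tr.nd (nat_lit 44071) (Tr.lf (nat_lit 44059)) (Tr.lf (nat_lit 44071)))) (Tr.nd (nat_lit 44101) (Tr.nd (nat_lit 44089) (Tr.lf (nat_lit 44087)) (Tr.lf (nat_lit 44089))) (Tr.nd (nat_lit 44111) (Tr.lf (nat_lit 44101)) (Tr.nd (nat_lit 44119) (Tr.lf (nat_lit 44111)) (Tr.lf (nat_lit 44119))))))))))))) (Tr.nd (nat_lit 49999) (Tr.nd (nat_lit 47137) (Tr.nd (nat_lit 45613) (Tr.nd (nat_lit 44843) (Tr.nd (nat_lit 44507) (Tr.nd (nat_lit 44273) (Tr.nd (nat_lit 44203) (Tr.nd (nat_lit 44171) (Tr.nd (nat_lit 44131) (Tr.nd (nat_lit 44129) (Tr.lf (nat_lit 44123)) (Tr.lf (nat_lit 44129))) (Tr.nd (nat_lit 44159) (Tr.lf (nat_lit 44131)) (Tr.lf (nat_lit 44159)))) (Tr.nd (nat_lit 44189) (Tr.nd (nat_lit 44179) (Tr.lf (nat_lit 44171)) (Tr.lf (nat_lit 44179))) (Tr.nd (nat_lit 44201) (Tr.lf (nat_lit 44189)) (Tr.lf (nat_lit 44201))))) (Tr.nd (nat_lit 44257) (Tr.nd (nat_lit 44221) (Tr.nd (nat_lit 44207) (Tr.lf (nat_lit 44203)) (Tr.lf (nat_lit 44207))) (Tr.nd (nat_lit 44249) (Tr.lf (nat_lit 44221)) (Tr.lf (nat_lit 44249)))) (Tr.nd (nat_lit 44267) (Tr.nd (nat_lit 44263) (Tr.lf (nat_lit 44257)) (Tr.lf (nat_lit 44263))) (Tr.nd (nat_lit 44269) (Tr.lf (nat_lit 44267)) (Tr.lf (nat_lit 44269)))))) (Tr.nd (nat_lit 44383) (Tr.nd (nat_lit 44351) (Tr.nd (nat_lit 44281) (Tr.nd (nat_lit 44279) (Tr.lf (nat_lit 44273)) (Tr.lf (nat_lit 44279))) (Tr.nd (nat_lit 44293) (Tr.lf (nat_lit 44281)) (Tr.lf (nat_lit 44293)))) (Tr.nd (nat_lit 44371) (Tr.nd (nat_lit 44357) (Tr.lf (nat_lit 44351)) (Tr.lf (nat_lit 44357))) (Tr.nd (nat_lit 44381) (Tr.lf (nat_lit 44371)) (Tr.lf (nat_lit 44381))))) (Tr.nd (nat_lit 44453) (Tr.nd (nat_lit 44417) (Tr.nd (nat_lit 44389) (Tr.lf (nat_lit 44383)) (Tr.lf (nat_lit 44389))) (Tr.nd (nat_lit 44449) (Tr.lf (nat_lit 44417)) (Tr.lf (nat_lit 44449)))) (Tr.nd (nat_lit 44491) (Tr.nd (nat_lit 44483) (Tr.lf (nat_lit 44453)) (Tr.lf (nat_lit 44483))) (Tr.nd (nat_lit 44497) (Tr.lf (nat_lit 44491)) (Tr.nd (nat_lit 44501) (Tr.lf (nat_lit 44497)) (Tr.lf (nat_lit 44501)))))))) (Tr.nd (nat_lit 44657) (Tr.nd (nat_lit 44579) (Tr.nd (nat_lit 44537) (Tr.nd (nat_lit 44531) (Tr.nd (nat_lit 44519) (Tr.lf (nat_lit 44507)) (Tr.lf (nat_lit 44519))) (Tr.nd (nat_lit 44533) (Tr.lf (nat_lit 44531)) (Tr.lf (nat_lit 44533)))) (Tr.nd (nat_lit 44549) (Tr.nd (nat_lit 44543) (Tr.lf (nat_lit 44537)) (Tr.lf (nat_lit 44543))) (Tr.nd (nat_lit 44563) (Tr.lf (nat_lit 44549)) (Tr.lf (nat_lit 44563))))) (Tr.nd (nat_lit 44623) (Tr.nd (nat_lit 44617) (Tr.nd (nat_lit 44587) (Tr.lf (nat_lit 44579)) (Tr.lf (nat_lit 44587))) (Tr.nd (nat_lit 44621) (Tr.lf (nat_lit 44617)) (Tr.lf (nat_lit 44621)))) (Tr.nd (nat_lit 44641) (Tr.nd (nat_lit 44633) (Tr.lf (nat_lit 44623)) (Tr.lf (nat_lit 44633))) (Tr.nd (nat_lit 44647) (Tr.lf (nat_lit 44641)) (Tr.nd (nat_lit 44651) (Tr.lf (nat_lit 44647)) (Tr.lf (nat_lit 44651))))))) (Tr.nd (nat_lit 44753) (Tr.nd (nat_lit 44701) (Tr.nd (nat_lit 44687) (Tr.nd (nat_lit 44683) (Tr.lf (nat_lit 44657)) (Tr.lf (nat_lit 44683))) (Tr.nd (nat_lit 44699) (Tr.lf (nat_lit 44687)) (Tr.lf (nat_lit 44699)))) (Tr.nd (nat_lit 44729) (Tr.nd (nat_lit 44711) (Tr.lf (nat_lit 44701)) (Tr.lf (nat_lit 44711))) (Tr.nd (nat_lit 44741) (Tr.lf (nat_lit 44729)) (Tr.lf (nat_lit 44741))))) (Tr.nd (nat_lit 44789) (Tr.nd (nat_lit 44773) (Tr.nd (nat_lit 44771) (Tr.lf (nat_lit 44753)) (Tr.lf (nat_lit 44771))) (Tr.nd (nat_lit 44777) (Tr.lf (nat_lit 44773)) (Tr.lf (nat_lit 44777)))) (Tr.nd (nat_lit 44809) (Tr.nd (nat_lit 44797) (Tr.lf (nat_lit 44789)) (Tr.lf (nat_lit 44797))) (Tr.nd (nat_lit 44819) (Tr.lf (nat_lit 44809)) (Tr.nd (nat_lit 44839) (Tr.lf (nat_lit 44819)) (Tr.lf (nat_lit 44839))))))))) (Tr.nd (nat_lit 45247) (Tr.nd (nat_lit 45013) (Tr.nd (nat_lit 44927) (Tr.nd (nat_lit 44887) (Tr.nd (nat_lit 44867) (Tr.nd (nat_lit 44851) (Tr.lf (nat_lit 44843)) (Tr.lf (nat_lit 44851))) (Tr.nd (nat_lit 44879) (Tr.lf (nat_lit 44867)) (Tr.lf (nat_lit 44879)))) (Tr.nd (nat_lit 44909) (Tr.nd (nat_lit 44893) (Tr.lf (nat_lit 44887)) (Tr.lf (nat_lit 44893))) (Tr.nd (nat_lit 44917) (Tr.lf (nat_lit 44909)) (Tr.lf (nat_lit 44917))))) (Tr.nd (nat_lit 44963) (Tr.nd (nat_lit 44953) (Tr.nd (nat_lit 44939) (Tr.lf (nat_lit 44927)) (Tr.lf (nat_lit 44939))) (Tr.nd (nat_lit 44959) (Tr.lf (nat_lit 44953)) (Tr.lf (nat_lit 44959)))) (Tr.nd (nat_lit 44983) (Tr.nd (nat_lit 44971) (Tr.lf (nat_lit 44963)) (Tr.lf (nat_lit 44971))) (Tr.nd (nat_lit 44987) (Tr.lf (nat_lit 44983)) (Tr.nd (nat_lit 45007) (Tr.lf (nat_lit 44987)) (Tr.lf (nat_lit 45007))))))) (Tr.nd (nat_lit 45131) (Tr.nd (nat_lit 45083) (Tr.nd (nat_lit 45061) (Tr.nd (nat_lit 45053) (Tr.lf (nat_lit 45013)) (Tr.lf (nat_lit 45053))) (Tr.nd (nat_lit 45077) (Tr.lf (nat_lit 45061)) (Tr.lf (nat_lit 45077)))) (Tr.nd (nat_lit 45121) (Tr.nd (nat_lit 45119) (Tr.lf (nat_lit 45083)) (Tr.lf (nat_lit 45119))) (Tr.nd (nat_lit 45127) (Tr.lf (nat_lit 45121)) (Tr.lf (nat_lit 45127))))) (Tr.nd (nat_lit 45179) (Tr.nd (nat_lit 45139) (Tr.nd (nat_lit 45137) (Tr.lf (nat_lit 45131)) (Tr.lf (nat_lit 45137))) (Tr.nd (nat_lit 45161) (Tr.lf (nat_lit 45139)) (Tr.lf (nat_lit 45161)))) (Tr.nd (nat_lit 45191) (Tr.nd (nat_lit 45181) (Tr.lf (nat_lit 45179)) (Tr.lf (nat_lit 45181))) (Tr.nd (nat_lit 45197) (Tr.lf (nat_lit 45191)) (Tr.nd (nat_lit 45233) (Tr.lf (nat_lit 45197)) (Tr.lf (nat_lit 45233)))))))) (Tr.nd (nat_lit 45413) (Tr.nd (nat_lit 45319) (Tr.nd (nat_lit 45289) (Tr.nd (nat_lit 45263) (Tr.nd (nat_lit 45259) (Tr.lf (nat_lit 45247)) (Tr.lf (nat_lit 45259))) (Tr.nd (nat_lit 45281) (Tr.lf (nat_lit 45263)) (Tr.lf (nat_lit 45281)))) (Tr.nd (nat_lit 45307) (Tr.nd (nat_lit 45293) (Tr.lf (nat_lit 45289)) (Tr.lf (nat_lit 45293))) (Tr.nd (nat_lit 45317) (Tr.lf (nat_lit 45307)) (Tr.lf (nat_lit 45317))))) (Tr.nd (nat_lit 45343) (Tr.nd (nat_lit 45337) (Tr.nd (nat_lit 45329) (Tr.lf (nat_lit 45319)) (Tr.lf (nat_lit 45329))) (Tr.nd (nat_lit 45341) (Tr.lf (nat_lit 45337)) (Tr.lf (nat_lit 45341)))) (Tr.nd (nat_lit 45377) (Tr.nd (nat_lit 45361) (Tr.lf (nat_lit 45343)) (Tr.lf (nat_lit 45361))) (Tr.nd (nat_lit 45389) (Tr.lf (nat_lit 45377)) (Tr.nd (nat_lit 45403) (Tr.lf (nat_lit 45389)) (Tr.lf (nat_lit 45403))))))) (Tr.nd (nat_lit 45523) (Tr.nd (nat_lit 45481) (Tr.nd (nat_lit 45433) (Tr.nd (nat_lit 45427) (Tr.lf (nat_lit 45413)) (Tr.lf (nat_lit 45427))) (Tr.nd (nat_lit 45439) (Tr.lf (nat_lit 45433)) (Tr.lf (nat_lit 45439)))) (Tr.nd (nat_lit 45497) (Tr.nd (nat_lit 45491) (Tr.lf (nat_lit 45481)) (Tr.lf (nat_lit 45491))) (Tr.nd (nat_lit 45503) (Tr.lf (nat_lit 45497)) (Tr.lf (nat_lit 45503))))) (Tr.nd (nat_lit 45557) (Tr.nd (nat_lit 45541) (Tr.nd (nat_lit 45533) (Tr.lf (nat_lit 45523)) (Tr.lf (nat_lit 45533))) (Tr.nd (nat_lit 45553) (Tr.lf (nat_lit 45541)) (Tr.lf (nat_lit 45553)))) (Tr.nd (nat_lit 45587) (Tr.nd (nat_lit 45569) (Tr.lf (nat_lit 45557)) (Tr.lf (nat_lit 45569))) (Tr.nd (nat_lit 45589) (Tr.lf (nat_lit 45587)) (Tr.nd (nat_lit 45599) (Tr.lf (nat_lit 45589)) (Tr.lf (nat_lit 45599)))))))))) (Tr.nd (nat_lit 46381) (Tr.nd (nat_lit 45989) (Tr.nd (nat_lit 45817) (Tr.nd (nat_lit 45697) (Tr.nd (nat_lit 45667) (Tr.nd (nat_lit 45641) (Tr.nd (nat_lit 45631) (Tr.lf (nat_lit 45613)) (Tr.lf (nat_lit 45631))) (Tr.nd (nat_lit 45659) (Tr.lf (nat_lit 45641)) (Tr.lf (nat_lit 45659)))) (Tr.nd (nat_lit 45677) (Tr.nd (nat_lit 45673) (Tr.lf (nat_lit 45667)) (Tr.lf (nat_lit 45673))) (Tr.nd (nat_lit 45691) (Tr.lf (nat_lit 45677)) (Tr.lf (nat_lit 45691))))) (Tr.nd (nat_lit 45757) (Tr.nd (nat_lit 45737) (Tr.nd (nat_lit 45707) (Tr.lf (nat_lit 45697)) (Tr.lf (nat_lit 45707))) (Tr.nd (nat_lit 45751) (Tr.lf (nat_lit 45737)) (Tr.lf (nat_lit 45751)))) (Tr.nd (nat_lit 45767) (Tr.nd (nat_lit 45763) (Tr.lf (nat_lit 45757)) (Tr.lf (nat_lit 45763))) (Tr.nd (nat_lit 45779) (Tr.lf (nat_lit 45767)) (Tr.lf (nat_lit 45779)))))) (Tr.nd (nat_lit 45869) (Tr.nd (nat_lit 45833) (Tr.nd (nat_lit 45823) (Tr.nd (nat_lit 45821) (Tr.lf (nat_lit 45817)) (Tr.lf (nat_lit 45821))) (Tr.nd (nat_lit 45827) (Tr.lf (nat_lit 45823)) (Tr.lf (nat_lit 45827)))) (Tr.nd (nat_lit 45853) (Tr.nd (nat_lit 45841) (Tr.lf (nat_lit 45833)) (Tr.lf (nat_lit 45841))) (Tr.nd (nat_lit 45863) (Tr.lf (nat_lit 45853)) (Tr.lf (nat_lit 45863))))) (Tr.nd (nat_lit 45949) (Tr.nd (nat_lit 45893) (Tr.nd (nat_lit 45887) (Tr.lf (nat_lit 45869)) (Tr.lf (nat_lit 45887))) (Tr.nd (nat_lit 45943) (Tr.lf (nat_lit 45893)) (Tr.lf (nat_lit 45943)))) (Tr.nd (nat_lit 45959) (Tr.nd (nat_lit 45953) (Tr.lf (nat_lit 45949)) (Tr.lf (nat_lit 45953))) (Tr.nd (nat_lit 45971) (Tr.lf (nat_lit 45959)) (Tr.nd (nat_lit 45979) (Tr.lf (nat_lit 45971)) (Tr.lf (nat_lit 45979)))))))) (Tr.nd (nat_lit 46183) (Tr.nd (nat_lit 46093) (Tr.nd (nat_lit 46051) (Tr.nd (nat_lit 46027) (Tr.nd (nat_lit 46021) (Tr.lf (nat_lit 45989)) (Tr.lf (nat_lit 46021))) (Tr.nd (nat_lit 46049) (Tr.lf (nat_lit 46027)) (Tr.lf (nat_lit 46049)))) (Tr.nd (nat_lit 46073) (Tr.nd (nat_lit 46061) (Tr.lf (nat_lit 46051)) (Tr.lf (nat_lit 46061))) (Tr.nd (nat_lit 46091) (Tr.lf (nat_lit 46073)) (Tr.lf (nat_lit 46091))))) (Tr.nd (nat_lit 46141) (Tr.nd (nat_lit 46103) (Tr.nd (nat_lit 46099) (Tr.lf (nat_lit 46093)) (Tr.lf (nat_lit 46099))) (Tr.nd (nat_lit 46133) (Tr.lf (nat_lit 46103)) (Tr.lf (nat_lit 46133)))) (Tr.nd (nat_lit 46153) (Tr.nd (nat_lit 46147) (Tr.lf (nat_lit 46141)) (Tr.lf (nat_lit 46147))) (Tr.nd (nat_lit 46171) (Tr.lf (nat_lit 46153)) (Tr.nd (nat_lit 46181) (Tr.lf (nat_lit 46171)) (Tr.lf (nat_lit 46181))))))) (Tr.nd (nat_lit 46273) (Tr.nd (nat_lit 46229) (Tr.nd (nat_lit 46199) (Tr.nd (nat_lit 46187) (Tr.lf (nat_lit 46183)) (Tr.lf (nat_lit 46187))) (Tr.nd (nat_lit 46219) (Tr.lf (nat_lit 46199)) (Tr.lf (nat_lit 46219)))) (Tr.nd (nat_lit 46261) (Tr.nd (nat_lit 46237) (Tr.lf (nat_lit 46229)) (Tr.lf (nat_lit 46237))) (Tr.nd (nat_lit 46271) (Tr.lf (nat_lit 46261)) (Tr.lf (nat_lit 46271))))) (Tr.nd (nat_lit 46309) (Tr.nd (nat_lit 46301) (Tr.nd (nat_lit 46279) (Tr.lf (nat_lit 46273)) (Tr.lf (nat_lit 46279))) (Tr.nd (nat_lit 46307) (Tr.lf (nat_lit 46301)) (Tr.lf (nat_lit 46307)))) (Tr.nd (nat_lit 46337) (Tr.nd (nat_lit 46327) (Tr.lf (nat_lit 46309)) (Tr.lf (nat_lit 46327))) (Tr.nd (nat_lit 46349) (Tr.lf (nat_lit 46337)) (Tr.nd (nat_lit 46351) (Tr.lf (nat_lit 46349)) (Tr.lf (nat_lit 46351))))))))) (Tr.nd (nat_lit 46727) (Tr.nd (nat_lit 46567) (Tr.nd (nat_lit 46471) (Tr.nd (nat_lit 46441) (Tr.nd (nat_lit 46411) (Tr.nd (nat_lit 46399) (Tr.lf (nat_lit 46381)) (Tr.lf (nat_lit 46399))) (Tr.nd (nat_lit 46439) (Tr.lf (nat_lit 46411)) (Tr.lf (nat_lit 46439)))) (Tr.nd (nat_lit 46451) (Tr.nd (nat_lit 46447) (Tr.lf (nat_lit 46441)) (Tr.lf (nat_lit 46447))) (Tr.nd (nat_lit 46457) (Tr.lf (nat_lit 46451)) (Tr.lf (nat_lit 46457))))) (Tr.nd (nat_lit 46507) (Tr.nd (nat_lit 46489) (Tr.nd (nat_lit 46477) (Tr.lf (nat_lit 46471)) (Tr.lf (nat_lit 46477))) (Tr.nd (nat_lit 46499) (Tr.lf (nat_lit 46489)) (Tr.lf (nat_lit 46499)))) (Tr.nd (nat_lit 46523) (Tr.nd (nat_lit 46511) (Tr.lf (nat_lit 46507)) (Tr.lf (nat_lit 46511))) (Tr.nd (nat_lit 46549) (Tr.lf (nat_lit 46523)) (Tr.nd (nat_lit 46559) (Tr.lf (nat_lit 46549)) (Tr.lf (nat_lit 46559))))))) (Tr.nd (nat_lit 46643) (Tr.nd (nat_lit 46601) (Tr.nd (nat_lit 46589) (Tr.nd (nat_lit 46573) (Tr.lf (nat_lit 46567)) (Tr.lf (nat_lit 46573))) (Tr.nd (nat_lit 46591) (Tr.lf (nat_lit 46589)) (Tr.lf (nat_lit 46591)))) (Tr.nd (nat_lit 46633) (Tr.nd (nat_lit 46619) (Tr.lf (nat_lit 46601)) (Tr.lf (nat_lit 46619))) (Tr.nd (nat_lit 46639) (Tr.lf (nat_lit 46633)) (Tr.lf (nat_lit 46639))))) (Tr.nd (nat_lit 46681) (Tr.nd (nat_lit 46663) (Tr.nd (nat_lit 46649) (Tr.lf (nat_lit 46643)) (Tr.lf (nat_lit 46649))) (Tr.nd (nat_lit 46679) (Tr.lf (nat_lit 46663)) (Tr.lf (nat_lit 46679)))) (Tr.nd (nat_lit 46691) (Tr.nd (nat_lit 46687) (Tr.lf (nat_lit 46681)) (Tr.lf (nat_lit 46687))) (Tr.nd (nat_lit 46703) (Tr.lf (nat_lit 46691)) (Tr.nd (nat_lit 46723) (Tr.lf (nat_lit 46703)) (Tr.lf (nat_lit 46723)))))))) (Tr.nd (nat_lit 46901) (Tr.nd (nat_lit 46817) (Tr.nd (nat_lit 46769) (Tr.nd (nat_lit 46751) (Tr.nd (nat_lit 46747) (Tr.lf (nat_lit 46727)) (Tr.lf (nat_lit 46747))) (Tr.nd (nat_lit 46757) (Tr.lf (nat_lit 46751)) (Tr.lf (nat_lit 46757)))) (Tr.nd (nat_lit 46807) (Tr.nd (nat_lit 46771) (Tr.lf (nat_lit 46769)) (Tr.lf (nat_lit 46771))) (Tr.nd (nat_lit 46811) (Tr.lf (nat_lit 46807)) (Tr.lf (nat_lit 46811))))) (Tr.nd (nat_lit 46853) (Tr.nd (nat_lit 46829) (Tr.nd (nat_lit 46819) (Tr.lf (nat_lit 46817)) (Tr.lf (nat_lit 46819))) (Tr.nd (nat_lit 46831) (Tr.lf (nat_lit 46829)) (Tr.lf (nat_lit 46831)))) (Tr.nd (nat_lit 46867) (Tr.nd (nat_lit 46861) (Tr.lf (nat_lit 46853)) (Tr.lf (nat_lit 46861))) (Tr.nd (nat_lit 46877) (Tr.lf (nat_lit 46867)) (Tr.nd (nat_lit 46889) (Tr.lf (nat_lit 46877)) (Tr.lf (nat_lit 46889))))))) (Tr.nd (nat_lit 47051) (Tr.nd (nat_lit 46993) (Tr.nd (nat_lit 46933) (Tr.nd (nat_lit 46919) (Tr.lf (nat_lit 46901)) (Tr.lf (nat_lit 46919))) (Tr.nd (nat_lit 46957) (Tr.lf (nat_lit 46933)) (Tr.lf (nat_lit 46957)))) (Tr.nd (nat_lit 47017) (Tr.nd (nat_lit 46997) (Tr.lf (nat_lit 46993)) (Tr.lf (nat_lit 46997))) (Tr.nd (nat_lit 47041) (Tr.lf (nat_lit 47017)) (Tr.lf (nat_lit 47041))))) (Tr.nd (nat_lit 47093) (Tr.nd (nat_lit 47059) (Tr.nd (nat_lit 47057) (Tr.lf (nat_lit 47051)) (Tr.lf (nat_lit 47057))) (Tr.nd (nat_lit 47087) (Tr.lf (nat_lit 47059)) (Tr.lf (nat_lit 47087)))) (Tr.nd (nat_lit 47119) (Tr.nd (nat_lit 47111) (Tr.lf (nat_lit 47093)) (Tr.lf (nat_lit 47111))) (Tr.nd (nat_lit 47123) (Tr.lf (nat_lit 47119)) (Tr.nd (nat_lit 47129) (Tr.lf (nat_lit 47123)) (Tr.lf (nat_lit 47129))))))))))) (Tr.nd (nat_lit 48589) (Tr.nd (nat_lit 47819) (Tr.nd (nat_lit 47501) (Tr.nd (nat_lit 47309) (Tr.nd (nat_lit 47237) (Tr.nd (nat_lit 47161) (Tr.nd (nat_lit 47147) (Tr.nd (nat_lit 47143) (Tr.lf (nat_lit 47137)) (Tr.lf (nat_lit 47143))) (Tr.nd (nat_lit 47149) (Tr.lf (nat_lit 47147)) (Tr.lf (nat_lit 47149)))) (Tr.nd (nat_lit 47207) (Tr.nd (nat_lit 47189) (Tr.lf (nat_lit 47161)) (Tr.lf (nat_lit 47189))) (Tr.nd (nat_lit 47221) (Tr.lf (nat_lit 47207)) (Tr.lf (nat_lit 47221))))) (Tr.nd (nat_lit 47287) (Tr.nd (nat_lit 47269) (Tr.nd (nat_lit 47251) (Tr.lf (nat_lit 47237)) (Tr.lf (nat_lit 47251))) (Tr.nd (nat_lit 47279) (Tr.lf (nat_lit 47269)) (Tr.lf (nat_lit 47279)))) (Tr.nd (nat_lit 47297) (Tr.nd (nat_lit 47293) (Tr.lf (nat_lit 47287)) (Tr.lf (nat_lit 47293))) (Tr.nd (nat_lit 47303) (Tr.lf (nat_lit 47297)) (Tr.lf (nat_lit 47303)))))) (Tr.nd (nat_lit 47389) (Tr.nd (nat_lit 47353) (Tr.nd (nat_lit 47339) (Tr.nd (nat_lit 47317) (Tr.lf (nat_lit 47309)) (Tr.lf (nat_lit 47317))) (Tr.nd (nat_lit 47351) (Tr.lf (nat_lit 47339)) (Tr.lf (nat_lit 47351)))) (Tr.nd (nat_lit 47381) (Tr.nd (nat_lit 47363) (Tr.lf (nat_lit 47353)) (Tr.lf (nat_lit 47363))) (Tr.nd (nat_lit 47387) (Tr.lf (nat_lit 47381)) (Tr.lf (nat_lit 47387))))) (Tr.nd (nat_lit 47431) (Tr.nd (nat_lit 47417) (Tr.nd (nat_lit 47407) (Tr.lf (nat_lit 47389)) (Tr.lf (nat_lit 47407))) (Tr.nd (nat_lit 47419) (Tr.lf (nat_lit 47417)) (Tr.lf (nat_lit 47419)))) (Tr.nd (nat_lit 47459) (Tr.nd (nat_lit 47441) (Tr.lf (nat_lit 47431)) (Tr.lf (nat_lit 47441))) (Tr.nd (nat_lit 47491) (Tr.lf (nat_lit 47459)) (Tr.nd (nat_lit 47497) (Tr.lf (nat_lit 47491)) (Tr.lf (nat_lit 47497)))))))) (Tr.nd (nat_lit 47657) (Tr.nd (nat_lit 47569) (Tr.nd (nat_lit 47527) (Tr.nd (nat_lit 47513) (Tr.nd (nat_lit 47507) (Tr.lf (nat_lit 47501)) (Tr.lf (nat_lit 47507))) (Tr.nd (nat_lit 47521) (Tr.lf (nat_lit 47513)) (Tr.lf (nat_lit 47521)))) (Tr.nd (nat_lit 47543) (Tr.nd (nat_lit 47533) (Tr.lf (nat_lit 47527)) (Tr.lf (nat_lit 47533))) (Tr.nd (nat_lit 47563) (Tr.lf (nat_lit 47543)) (Tr.lf (nat_lit 47563))))) (Tr.nd (nat_lit 47609) (Tr.nd (nat_lit 47591) (Tr.nd (nat_lit 47581) (Tr.lf (nat_lit 47569)) (Tr.lf (nat_lit 47581))) (Tr.nd (nat_lit 47599) (Tr.lf (nat_lit 47591)) (Tr.lf (nat_lit 47599)))) (Tr.nd (nat_lit 47629) (Tr.nd (nat_lit 47623) (Tr.lf (nat_lit 47609)) (Tr.lf (nat_lit 47623))) (Tr.nd (nat_lit 47639) (Tr.lf (nat_lit 47629)) (Tr.nd (nat_lit 47653) (Tr.lf (nat_lit 47639)) (Tr.lf (nat_lit 47653))))))) (Tr.nd (nat_lit 47737) (Tr.nd (nat_lit 47701) (Tr.nd (nat_lit 47681) (Tr.nd (nat_lit 47659) (Tr.lf (nat_lit 47657)) (Tr.lf (nat_lit 47659))) (Tr.nd (nat_lit 47699) (Tr.lf (nat_lit 47681)) (Tr.lf (nat_lit 47699)))) (Tr.nd (nat_lit 47713) (Tr.nd (nat_lit 47711) (Tr.lf (nat_lit 47701)) (Tr.lf (nat_lit 47711))) (Tr.nd (nat_lit 47717) (Tr.lf (nat_lit 47713)) (Tr.lf (nat_lit 47717))))) (Tr.nd (nat_lit 47779) (Tr.nd (nat_lit 47743) (Tr.nd (nat_lit 47741) (Tr.lf (nat_lit 47737)) (Tr.lf (nat_lit 47741))) (Tr.nd (nat_lit 47777) (Tr.lf (nat_lit 47743)) (Tr.lf (nat_lit 47777)))) (Tr.nd (nat_lit 47797) (Tr.nd (nat_lit 47791) (Tr.lf (nat_lit 47779)) (Tr.lf (nat_lit 47791))) (Tr.nd (nat_lit 47807) (Tr.lf (nat_lit 47797)) (Tr.nd (nat_lit 47809) (Tr.lf (nat_lit 47807)) (Tr.lf (nat_lit 47809))))))))) (Tr.nd (nat_lit 48221) (Tr.nd (nat_lit 48017) (Tr.nd (nat_lit 47917) (Tr.nd (nat_lit 47869) (Tr.nd (nat_lit 47843) (Tr.nd (nat_lit 47837) (Tr.lf (nat_lit 47819)) (Tr.lf (nat_lit 47837))) (Tr.nd (nat_lit 47857) (Tr.lf (nat_lit 47843)) (Tr.lf (nat_lit 47857)))) (Tr.nd (nat_lit 47903) (Tr.nd (nat_lit 47881) (Tr.lf (nat_lit 47869)) (Tr.lf (nat_lit 47881))) (Tr.nd (nat_lit 47911) (Tr.lf (nat_lit 47903)) (Tr.lf (nat_lit 47911))))) (Tr.nd (nat_lit 47951) (Tr.nd (nat_lit 47939) (Tr.nd (nat_lit 47933) (Tr.lf (nat_lit 47917)) (Tr.lf (nat_lit 47933))) (Tr.nd (nat_lit 47947) (Tr.lf (nat_lit 47939)) (Tr.lf (nat_lit 47947)))) (Tr.nd (nat_lit 47969) (Tr.nd (nat_lit 47963) (Tr.lf (nat_lit 47951)) (Tr.lf (nat_lit 47963))) (Tr.nd (nat_lit 47977) (Tr.lf (nat_lit 47969)) (Tr.nd (nat_lit 47981) (Tr.lf (nat_lit 47977)) (Tr.lf (nat_lit 47981))))))) (Tr.nd (nat_lit 48119) (Tr.nd (nat_lit 48073) (Tr.nd (nat_lit 48029) (Tr.nd (nat_lit 48023) (Tr.lf (nat_lit 48017)) (Tr.lf (nat_lit 48023))) (Tr.nd (nat_lit 48049) (Tr.lf (nat_lit 48029)) (Tr.lf (nat_lit 48049)))) (Tr.nd (nat_lit 48091) (Tr.nd (nat_lit 48079) (Tr.lf (nat_lit 48073)) (Tr.lf (nat_lit 48079))) (Tr.nd (nat_lit 48109) (Tr.lf (nat_lit 48091)) (Tr.lf (nat_lit 48109))))) (Tr.nd (nat_lit 48163) (Tr.nd (nat_lit 48131) (Tr.nd (nat_lit 48121) (Tr.lf (nat_lit 48119)) (Tr.lf (nat_lit 48121))) (Tr.nd (nat_lit 48157) (Tr.lf (nat_lit 48131)) (Tr.lf (nat_lit 48157)))) (Tr.nd (nat_lit 48187) (Tr.nd (nat_lit 48179) (Tr.lf (nat_lit 48163)) (Tr.lf (nat_lit 48179))) (Tr.nd (nat_lit 48193) (Tr.lf (nat_lit 48187)) (Tr.nd (nat_lit 48197) (Tr.lf (nat_lit 48193)) (Tr.lf (nat_lit 48197)))))))) (Tr.nd (nat_lit 48413) (Tr.nd (nat_lit 48313) (Tr.nd (nat_lit 48271) (Tr.nd (nat_lit 48247) (Tr.nd (nat_lit 48239) (Tr.lf (nat_lit 48221)) (Tr.lf (nat_lit 48239))) (Tr.nd (nat_lit 48259) (Tr.lf (nat_lit 48247)) (Tr.lf (nat_lit 48259)))) (Tr.nd (nat_lit 48299) (Tr.nd (nat_lit 48281) (Tr.lf (nat_lit 48271)) (Tr.lf (nat_lit 48281))) (Tr.nd (nat_lit 48311) (Tr.lf (nat_lit 48299)) (Tr.lf (nat_lit 48311))))) (Tr.nd (nat_lit 48371) (Tr.nd (nat_lit 48341) (Tr.nd (nat_lit 48337) (Tr.lf (nat_lit 48313)) (Tr.lf (nat_lit 48337))) (Tr.nd (nat_lit 48353) (Tr.lf (nat_lit 48341)) (Tr.lf (nat_lit 48353)))) (Tr.nd (nat_lit 48397) (Tr.nd (nat_lit 48383) (Tr.lf (nat_lit 48371)) (Tr.lf (nat_lit 48383))) (Tr.nd (nat_lit 48407) (Tr.lf (nat_lit 48397)) (Tr.nd (nat_lit 48409) (Tr.lf (nat_lit 48407)) (Tr.lf (nat_lit 48409))))))) (Tr.nd (nat_lit 48491) (Tr.nd (nat_lit 48473) (Tr.nd (nat_lit 48449) (Tr.nd (nat_lit 48437) (Tr.lf (nat_lit 48413)) (Tr.lf (nat_lit 48437))) (Tr.nd (nat_lit 48463) (Tr.lf (nat_lit 48449)) (Tr.lf (nat_lit 48463)))) (Tr.nd (nat_lit 48481) (Tr.nd (nat_lit 48479) (Tr.lf (nat_lit 48473)) (Tr.lf (nat_lit 48479))) (Tr.nd (nat_lit 48487) (Tr.lf (nat_lit 48481)) (Tr.lf (nat_lit 48487))))) (Tr.nd (nat_lit 48533) (Tr.nd (nat_lit 48523) (Tr.nd (nat_lit 48497) (Tr.lf (nat_lit 48491)) (Tr.lf (nat_lit 48497))) (Tr.nd (nat_lit 48527) (Tr.lf (nat_lit 48523)) (Tr.lf (nat_lit 48527)))) (Tr.nd (nat_lit 48541) (Tr.nd (nat_lit 48539) (Tr.lf (nat_lit 48533)) (Tr.lf (nat_lit 48539))) (Tr.nd (nat_lit 48563) (Tr.lf (nat_lit 48541)) (Tr.nd (nat_lit 48571) (Tr.lf (nat_lit 48563)) (Tr.lf (nat_lit 48571)))))))))) (Tr.nd (nat_lit 49279) (Tr.nd (nat_lit 48947) (Tr.nd (nat_lit 48767) (Tr.nd (nat_lit 48673) (Tr.nd (nat_lit 48623) (Tr.nd (nat_lit 48611) (Tr.nd (nat_lit 48593) (Tr.lf (nat_lit 48589)) (Tr.lf (nat_lit 48593))) (Tr.nd (nat_lit 48619) (Tr.lf (nat_lit 48611)) (Tr.lf (nat_lit 48619)))) (Tr.nd (nat_lit 48649) (Tr.nd (nat_lit 48647) (Tr.lf (nat_lit 48623)) (Tr.lf (nat_lit 48647))) (Tr.nd (nat_lit 48661) (Tr.lf (nat_lit 48649)) (Tr.lf (nat_lit 48661))))) (Tr.nd (nat_lit 48733) (Tr.nd (nat_lit 48679) (Tr.nd (nat_lit 48677) (Tr.lf (nat_lit 48673)) (Tr.lf (nat_lit 48677))) (Tr.nd (nat_lit 48731) (Tr.lf (nat_lit 48679)) (Tr.lf (nat_lit 48731)))) (Tr.nd (nat_lit 48757) (Tr.nd (nat_lit 48751) (Tr.lf (nat_lit 48733)) (Tr.lf (nat_lit 48751))) (Tr.nd (nat_lit 48761) (Tr.lf (nat_lit 48757)) (Tr.lf (nat_lit 48761)))))) (Tr.nd (nat_lit 48823) (Tr.nd (nat_lit 48799) (Tr.nd (nat_lit 48781) (Tr.nd (nat_lit 48779) (Tr.lf (nat_lit 48767)) (Tr.lf (nat_lit 48779))) (Tr.nd (nat_lit 48787) (Tr.lf (nat_lit 48781)) (Tr.lf (nat_lit 48787)))) (Tr.nd (nat_lit 48817) (Tr.nd (nat_lit 48809) (Tr.lf (nat_lit 48799)) (Tr.lf (nat_lit 48809))) (Tr.nd (nat_lit 48821) (Tr.lf (nat_lit 48817)) (Tr.lf (nat_lit 48821))))) (Tr.nd (nat_lit 48869) (Tr.nd (nat_lit 48857) (Tr.nd (nat_lit 48847) (Tr.lf (nat_lit 48823)) (Tr.lf (nat_lit 48847))) (Tr.nd (nat_lit 48859) (Tr.lf (nat_lit 48857)) (Tr.lf (nat_lit 48859)))) (Tr.nd (nat_lit 48883) (Tr.nd (nat_lit 48871) (Tr.lf (nat_lit 48869)) (Tr.lf (nat_lit 48871))) (Tr.nd (nat_lit 48889) (Tr.lf (nat_lit 48883)) (Tr.nd (nat_lit 48907) (Tr.lf (nat_lit 48889)) (Tr.lf (nat_lit 48907)))))))) (Tr.nd (nat_lit 49117) (Tr.nd (nat_lit 49031) (Tr.nd (nat_lit 48991) (Tr.nd (nat_lit 48973) (Tr.nd (nat_lit 48953) (Tr.lf (nat_lit 48947)) (Tr.lf (nat_lit 48953))) (Tr.nd (nat_lit 48989) (Tr.lf (nat_lit 48973)) (Tr.lf (nat_lit 48989)))) (Tr.nd (nat_lit 49009) (Tr.nd (nat_lit 49003) (Tr.lf (nat_lit 48991)) (Tr.lf (nat_lit 49003))) (Tr.nd (nat_lit 49019) (Tr.lf (nat_lit 49009)) (Tr.lf (nat_lit 49019))))) (Tr.nd (nat_lit 49057) (Tr.nd (nat_lit 49037) (Tr.nd (nat_lit 49033) (Tr.lf (nat_lit 49031)) (Tr.lf (nat_lit 49033))) (Tr.nd (nat_lit 49043) (Tr.lf (nat_lit 49037)) (Tr.lf (nat_lit 49043)))) (Tr.nd (nat_lit 49081) (Tr.nd (nat_lit 49069) (Tr.lf (nat_lit 49057)) (Tr.lf (nat_lit 49069))) (Tr.nd (nat_lit 49103) (Tr.lf (nat_lit 49081)) (Tr.nd (nat_lit 49109) (Tr.lf (nat_lit 49103)) (Tr.lf (nat_lit 49109))))))) (Tr.nd (nat_lit 49193) (Tr.nd (nat_lit 49157) (Tr.nd (nat_lit 49123) (Tr.nd (nat_lit 49121) (Tr.lf (nat_lit 49117)) (Tr.lf (nat_lit 49121))) (Tr.nd (nat_lit 49139) (Tr.lf (nat_lit 49123)) (Tr.lf (nat_lit 49139)))) (Tr.nd (nat_lit 49171) (Tr.nd (nat_lit 49169) (Tr.lf (nat_lit 49157)) (Tr.lf (nat_lit 49169))) (Tr.nd (nat_lit 49177) (Tr.lf (nat_lit 49171)) (Tr.lf (nat_lit 49177))))) (Tr.nd (nat_lit 49211) (Tr.nd (nat_lit 49201) (Tr.nd (nat_lit 49199) (Tr.lf (nat_lit 49193)) (Tr.lf (nat_lit 49199))) (Tr.nd (nat_lit 49207) (Tr.lf (nat_lit 49201)) (Tr.lf (nat_lit 49207)))) (Tr.nd (nat_lit 49253) (Tr.nd (nat_lit 49223) (Tr.lf (nat_lit 49211)) (Tr.lf (nat_lit 49223))) (Tr.nd (nat_lit 49261) (Tr.lf (nat_lit 49253)) (Tr.nd (nat_lit 49277) (Tr.lf (nat_lit 49261)) (Tr.lf (nat_lit 49277))))))))) (Tr.nd (nat_lit 49639) (Tr.nd (nat_lit 49459) (Tr.nd (nat_lit 49369) (Tr.nd (nat_lit 49333) (Tr.nd (nat_lit 49307) (Tr.nd (nat_lit 49297) (Tr.lf (nat_lit 49279)) (Tr.lf (nat_lit 49297))) (Tr.nd (nat_lit 49331) (Tr.lf (nat_lit 49307)) (Tr.lf (nat_lit 49331)))) (Tr.nd (nat_lit 49363) (Tr.nd (nat_lit 49339) (Tr.lf (nat_lit 49333)) (Tr.lf (nat_lit 49339))) (Tr.nd (nat_lit 49367) (Tr.lf (nat_lit 49363)) (Tr.lf (nat_lit 49367))))) (Tr.nd (nat_lit 49411) (Tr.nd (nat_lit 49393) (Tr.nd (nat_lit 49391) (Tr.lf (nat_lit 49369)) (Tr.lf (nat_lit 49391))) (Tr.nd (nat_lit 49409) (Tr.lf (nat_lit 49393)) (Tr.lf (nat_lit 49409)))) (Tr.nd (nat_lit 49429) (Tr.nd (nat_lit 49417) (Tr.lf (nat_lit 49411)) (Tr.lf (nat_lit 49417))) (Tr.nd (nat_lit 49433) (Tr.lf (nat_lit 49429)) (Tr.nd (nat_lit 49451) (Tr.lf (nat_lit 49433)) (Tr.lf (nat_lit 49451))))))) (Tr.nd (nat_lit 49537) (Tr.nd (nat_lit 49499) (Tr.nd (nat_lit 49477) (Tr.nd (nat_lit 49463) (Tr.lf (nat_lit 49459)) (Tr.lf (nat_lit 49463))) (Tr.nd (nat_lit 49481) (Tr.lf (nat_lit 49477)) (Tr.lf (nat_lit 49481)))) (Tr.nd (nat_lit 49529) (Tr.nd (nat_lit 49523) (Tr.lf (nat_lit 49499)) (Tr.lf (nat_lit 49523))) (Tr.nd (nat_lit 49531) (Tr.lf (nat_lit 49529)) (Tr.lf (nat_lit 49531))))) (Tr.nd (nat_lit 49597) (Tr.nd (nat_lit 49549) (Tr.nd (nat_lit 49547) (Tr.lf (nat_lit 49537)) (Tr.lf (nat_lit 49547))) (Tr.nd (nat_lit 49559) (Tr.lf (nat_lit 49549)) (Tr.lf (nat_lit 49559)))) (Tr.nd (nat_lit 49613) (Tr.nd (nat_lit 49603) (Tr.lf (nat_lit 49597)) (Tr.lf (nat_lit 49603))) (Tr.nd (nat_lit 49627) (Tr.lf (nat_lit 49613)) (Tr.nd (nat_lit 49633) (Tr.lf (nat_lit 49627)) (Tr.lf (nat_lit 49633)))))))) (Tr.nd (nat_lit 49811) (Tr.nd (nat_lit 49739) (Tr.nd (nat_lit 49681) (Tr.nd (nat_lit 49667) (Tr.nd (nat_lit 49663) (Tr.lf (nat_lit 49639)) (Tr.lf (nat_lit 49663))) (Tr.nd (nat_lit 49669) (Tr.lf (nat_lit 49667)) (Tr.lf (nat_lit 49669)))) (Tr.nd (nat_lit 49711) (Tr.nd (nat_lit 49697) (Tr.lf (nat_lit 49681)) (Tr.lf (nat_lit 49697))) (Tr.nd (nat_lit 49727) (Tr.lf (nat_lit 49711)) (Tr.lf (nat_lit 49727))))) (Tr.nd (nat_lit 49783) (Tr.nd (nat_lit 49747) (Tr.nd (nat_lit 49741) (Tr.lf (nat_lit 49739)) (Tr.lf (nat_lit 49741))) (Tr.nd (nat_lit 49757) (Tr.lf (nat_lit 49747)) (Tr.lf (nat_lit 49757)))) (Tr.nd (nat_lit 49789) (Tr.nd (nat_lit 49787) (Tr.lf (nat_lit 49783)) (Tr.lf (nat_lit 49787))) (Tr.nd (nat_lit 49801) (Tr.lf (nat_lit 49789)) (Tr.nd (nat_lit 49807) (Tr.lf (nat_lit 49801)) (Tr.lf (nat_lit 49807))))))) (Tr.nd (nat_lit 49919) (Tr.nd (nat_lit 49853) (Tr.nd (nat_lit 49831) (Tr.nd (nat_lit 49823) (Tr.lf (nat_lit 49811)) (Tr.lf (nat_lit 49823))) (Tr.nd (nat_lit 49843) (Tr.lf (nat_lit 49831)) (Tr.lf (nat_lit 49843)))) (Tr.nd (nat_lit 49877) (Tr.nd (nat_lit 49871) (Tr.lf (nat_lit 49853)) (Tr.lf (nat_lit 49871))) (Tr.nd (nat_lit 49891) (Tr.lf (nat_lit 49877)) (Tr.lf (nat_lit 49891))))) (Tr.nd (nat_lit 49939) (Tr.nd (nat_lit 49927) (Tr.nd (nat_lit 49921) (Tr.lf (nat_lit 49919)) (Tr.lf (nat_lit 49921))) (Tr.nd (nat_lit 49937) (Tr.lf (nat_lit 49927)) (Tr.lf (nat_lit 49937)))) (Tr.nd (nat_lit 49957) (Tr.nd (nat_lit 49943) (Tr.lf (nat_lit 49939)) (Tr.lf (nat_lit 49943))) (Tr.nd (nat_lit 49991) (Tr.lf (nat_lit 49957)) (Tr.nd (nat_lit 49993) (Tr.lf (nat_lit 49991)) (Tr.lf (nat_lit 49993)))))))))))) (Tr.nd (nat_lit 52957) (Tr.nd (nat_lit 51479) (Tr.nd (nat_lit 50753) (Tr.nd (nat_lit 50333) (Tr.nd (nat_lit 50131) (Tr.nd (nat_lit 50077) (Tr.nd (nat_lit 50047) (Tr.nd (nat_lit 50023) (Tr.nd (nat_lit 50021) (Tr.lf (nat_lit 49999)) (Tr.lf (nat_lit 50021))) (Tr.nd (nat_lit 50033) (Tr.lf (nat_lit 50023)) (Tr.lf (nat_lit 50033)))) (Tr.nd (nat_lit 50053) (Tr.nd (nat_lit 50051) (Tr.lf (nat_lit 50047)) (Tr.lf (nat_lit 50051))) (Tr.nd (nat_lit 50069) (Tr.lf (nat_lit 50053)) (Tr.lf (nat_lit 50069))))) (Tr.nd (nat_lit 50111) (Tr.nd (nat_lit 50093) (Tr.nd (nat_lit 50087) (Tr.lf (nat_lit 50077)) (Tr.lf (nat_lit 50087))) (Tr.nd (nat_lit 50101) (Tr.lf (nat_lit 50093)) (Tr.lf (nat_lit 50101)))) (Tr.nd (nat_lit 50123) (Tr.nd (nat_lit 50119) (Tr.lf (nat_lit 50111)) (Tr.lf (nat_lit 50119))) (Tr.nd (nat_lit 50129) (Tr.lf (nat_lit 50123)) (Tr.lf (nat_lit 50129)))))) (Tr.nd (nat_lit 50231) (Tr.nd (nat_lit 50177) (Tr.nd (nat_lit 50153) (Tr.nd (nat_lit 50147) (Tr.lf (nat_lit 50131)) (Tr.lf (nat_lit 50147))) (Tr.nd (nat_lit 50159) (Tr.lf (nat_lit 50153)) (Tr.lf (nat_lit 50159)))) (Tr.nd (nat_lit 50221) (Tr.nd (nat_lit 50207) (Tr.lf (nat_lit 50177)) (Tr.lf (nat_lit 50207))) (Tr.nd (nat_lit 50227) (Tr.lf (nat_lit 50221)) (Tr.lf (nat_lit 50227))))) (Tr.nd (nat_lit 50287) (Tr.nd (nat_lit 50263) (Tr.nd (nat_lit 50261) (Tr.lf (nat_lit 50231)) (Tr.lf (nat_lit 50261))) (Tr.nd (nat_lit 50273) (Tr.lf (nat_lit 50263)) (Tr.lf (nat_lit 50273)))) (Tr.nd (nat_lit 50311) (Tr.nd (nat_lit 50291) (Tr.lf (nat_lit 50287)) (Tr.lf (nat_lit 50291))) (Tr.nd (nat_lit 50321) (Tr.lf (nat_lit 50311)) (Tr.nd (nat_lit 50329) (Tr.lf (nat_lit 50321)) (Tr.lf (nat_lit 50329)))))))) (Tr.nd (nat_lit 50539) (Tr.nd (nat_lit 50417) (Tr.nd (nat_lit 50377) (Tr.nd (nat_lit 50359) (Tr.nd (nat_lit 50341) (Tr.lf (nat_lit 50333)) (Tr.lf (nat_lit 50341))) (Tr.nd (nat_lit 50363) (Tr.lf (nat_lit 50359)) (Tr.lf (nat_lit 50363)))) (Tr.nd (nat_lit 50387) (Tr.nd (nat_lit 50383) (Tr.lf (nat_lit 50377)) (Tr.lf (nat_lit 50383))) (Tr.nd (nat_lit 50411) (Tr.lf (nat_lit 50387)) (Tr.lf (nat_lit 50411))))) (Tr.nd (nat_lit 50461) (Tr.nd (nat_lit 50441) (Tr.nd (nat_lit 50423) (Tr.lf (nat_lit 50417)) (Tr.lf (nat_lit 50423))) (Tr.nd (nat_lit 50459) (Tr.lf (nat_lit 50441)) (Tr.lf (nat_lit 50459)))) (Tr.nd (nat_lit 50503) (Tr.nd (nat_lit 50497) (Tr.lf (nat_lit 50461)) (Tr.lf (nat_lit 50497))) (Tr.nd (nat_lit 50513) (Tr.lf (nat_lit 50503)) (Tr.nd (nat_lit 50527) (Tr.lf (nat_lit 50513)) (Tr.lf (nat_lit 50527))))))) (Tr.nd (nat_lit 50599) (Tr.nd (nat_lit 50581) (Tr.nd (nat_lit 50549) (Tr.nd (nat_lit 50543) (Tr.lf (nat_lit 50539)) (Tr.lf (nat_lit 50543))) (Tr.nd (nat_lit 50551) (Tr.lf (nat_lit 50549)) (Tr.lf (nat_lit 50551)))) (Tr.nd (nat_lit 50591) (Tr.nd (nat_lit 50587) (Tr.lf (nat_lit 50581)) (Tr.lf (nat_lit 50587))) (Tr.nd (nat_lit 50593) (Tr.lf (nat_lit 50591)) (Tr.lf (nat_lit 50593))))) (Tr.nd (nat_lit 50671) (Tr.nd (nat_lit 50647) (Tr.nd (nat_lit 50627) (Tr.lf (nat_lit 50599)) (Tr.lf (nat_lit 50627))) (Tr.nd (nat_lit 50651) (Tr.lf (nat_lit 50647)) (Tr.lf (nat_lit 50651)))) (Tr.nd (nat_lit 50707) (Tr.nd (nat_lit 50683) (Tr.lf (nat_lit 50671)) (Tr.lf (nat_lit 50683))) (Tr.nd (nat_lit 50723) (Tr.lf (nat_lit 50707)) (Tr.nd (nat_lit 50741) (Tr.lf (nat_lit 50723)) (Tr.lf (nat_lit 50741))))))))) (Tr.nd (nat_lit 51151) (Tr.nd (nat_lit 50951) (Tr.nd (nat_lit 50849) (Tr.nd (nat_lit 50789) (Tr.nd (nat_lit 50773) (Tr.nd (nat_lit 50767) (Tr.lf (nat_lit 50753)) (Tr.lf (nat_lit 50767))) (Tr.nd (nat_lit 50777) (Tr.lf (nat_lit 50773)) (Tr.lf (nat_lit 50777)))) (Tr.nd (nat_lit 50833) (Tr.nd (nat_lit 50821) (Tr.lf (nat_lit 50789)) (Tr.lf (nat_lit 50821))) (Tr.nd (nat_lit 50839) (Tr.lf (nat_lit 50833)) (Tr.lf (nat_lit 50839))))) (Tr.nd (nat_lit 50891) (Tr.nd (nat_lit 50867) (Tr.nd (nat_lit 50857) (Tr.lf (nat_lit 50849)) (Tr.lf (nat_lit 50857))) (Tr.nd (nat_lit 50873) (Tr.lf (nat_lit 50867)) (Tr.lf (nat_lit 50873)))) (Tr.nd (nat_lit 50909) (Tr.nd (nat_lit 50893) (Tr.lf (nat_lit 50891)) (Tr.lf (nat_lit 50893))) (Tr.nd (nat_lit 50923) (Tr.lf (nat_lit 50909)) (Tr.nd (nat_lit 50929) (Tr.lf (nat_lit 50923)) (Tr.lf (nat_lit 50929))))))) (Tr.nd (nat_lit 51043) (Tr.nd (nat_lit 50989) (Tr.nd (nat_lit 50969) (Tr.nd (nat_lit 50957) (Tr.lf (nat_lit 50951)) (Tr.lf (nat_lit 50957))) (Tr.nd (nat_lit 50971) (Tr.lf (nat_lit 50969)) (Tr.lf (nat_lit 50971)))) (Tr.nd (nat_lit 51001) (Tr.nd (nat_lit 50993) (Tr.lf (nat_lit 50989)) (Tr.lf (nat_lit 50993))) (Tr.nd (nat_lit 51031) (Tr.lf (nat_lit 51001)) (Tr.lf (nat_lit 51031))))) (Tr.nd (nat_lit 51071) (Tr.nd (nat_lit 51059) (Tr.nd (nat_lit 51047) (Tr.lf (nat_lit 51043)) (Tr.lf (nat_lit 51047))) (Tr.nd (nat_lit 51061) (Tr.lf (nat_lit 51059)) (Tr.lf (nat_lit 51061)))) (Tr.nd (nat_lit 51131) (Tr.nd (nat_lit 51109) (Tr.lf (nat_lit 51071)) (Tr.lf (nat_lit 51109))) (Tr.nd (nat_lit 51133) (Tr.lf (nat_lit 51131)) (Tr.nd (nat_lit 51137) (Tr.lf (nat_lit 51133)) (Tr.lf (nat_lit 51137)))))))) (Tr.nd (nat_lit 51341) (Tr.nd (nat_lit 51229) (Tr.nd (nat_lit 51197) (Tr.nd (nat_lit 51169) (Tr.nd (nat_lit 51157) (Tr.lf (nat_lit 51151)) (Tr.lf (nat_lit 51157))) (Tr.nd (nat_lit 51193) (Tr.lf (nat_lit 51169)) (Tr.lf (nat_lit 51193)))) (Tr.nd (nat_lit 51203) (Tr.nd (nat_lit 51199) (Tr.lf (nat_lit 51197)) (Tr.lf (nat_lit 51199))) (Tr.nd (nat_lit 51217) (Tr.lf (nat_lit 51203)) (Tr.lf (nat_lit 51217))))) (Tr.nd (nat_lit 51263) (Tr.nd (nat_lit 51241) (Tr.nd (nat_lit 51239) (Tr.lf (nat_lit 51229)) (Tr.lf (nat_lit 51239))) (Tr.nd (nat_lit 51257) (Tr.lf (nat_lit 51241)) (Tr.lf (nat_lit 51257)))) (Tr.nd (nat_lit 51287) (Tr.nd (nat_lit 51283) (Tr.lf (nat_lit 51263)) (Tr.lf (nat_lit 51283))) (Tr.nd (nat_lit 51307) (Tr.lf (nat_lit 51287)) (Tr.nd (nat_lit 51329) (Tr.lf (nat_lit 51307)) (Tr.lf (nat_lit 51329))))))) (Tr.nd (nat_lit 51419) (Tr.nd (nat_lit 51361) (Tr.nd (nat_lit 51347) (Tr.nd (nat_lit 51343) (Tr.lf (nat_lit 51341)) (Tr.lf (nat_lit 51343))) (Tr.nd (nat_lit 51349) (Tr.lf (nat_lit 51347)) (Tr.lf (nat_lit 51349)))) (Tr.nd (nat_lit 51407) (Tr.nd (nat_lit 51383) (Tr.lf (nat_lit 51361)) (Tr.lf (nat_lit 51383))) (Tr.nd (nat_lit 51413) (Tr.lf (nat_lit 51407)) (Tr.lf (nat_lit 51413))))) (Tr.nd (nat_lit 51437) (Tr.nd (nat_lit 51427) (Tr.nd (nat_lit 51421) (Tr.lf (nat_lit 51419)) (Tr.lf (nat_lit 51421))) (Tr.nd (nat_lit 51431) (Tr.lf (nat_lit 51427)) (Tr.lf (nat_lit 51431)))) (Tr.nd (nat_lit 51449) (Tr.nd (nat_lit 51439) (Tr.lf (nat_lit 51437)) (Tr.lf (nat_lit 51439))) (Tr.nd (nat_lit 51461) (Tr.lf (nat_lit 51449)) (Tr.nd (nat_lit 51473) (Tr.lf (nat_lit 51461)) (Tr.lf (nat_lit 51473)))))))))) (Tr.nd (nat_lit 52181) (Tr.nd (nat_lit 51817) (Tr.nd (nat_lit 51631) (Tr.nd (nat_lit 51551) (Tr.nd (nat_lit 51511) (Tr.nd (nat_lit 51487) (Tr.nd (nat_lit 51481) (Tr.lf (nat_lit 51479)) (Tr.lf (nat_lit 51481))) (Tr.nd (nat_lit 51503) (Tr.lf (nat_lit 51487)) (Tr.lf (nat_lit 51503)))) (Tr.nd (nat_lit 51521) (Tr.nd (nat_lit 51517) (Tr.lf (nat_lit 51511)) (Tr.lf (nat_lit 51517))) (Tr.nd (nat_lit 51539) (Tr.lf (nat_lit 51521)) (Tr.lf (nat_lit 51539))))) (Tr.nd (nat_lit 51593) (Tr.nd (nat_lit 51577) (Tr.nd (nat_lit 51563) (Tr.lf (nat_lit 51551)) (Tr.lf (nat_lit 51563))) (Tr.nd (nat_lit 51581) (Tr.lf (nat_lit 51577)) (Tr.lf (nat_lit 51581)))) (Tr.nd (nat_lit 51607) (Tr.nd (nat_lit 51599) (Tr.lf (nat_lit 51593)) (Tr.lf (nat_lit 51599))) (Tr.nd (nat_lit 51613) (Tr.lf (nat_lit 51607)) (Tr.lf (nat_lit 51613)))))) (Tr.nd (nat_lit 51713) (Tr.nd (nat_lit 51673) (Tr.nd (nat_lit 51647) (Tr.nd (nat_lit 51637) (Tr.lf (nat_lit 51631)) (Tr.lf (nat_lit 51637))) (Tr.nd (nat_lit 51659) (Tr.lf (nat_lit 51647)) (Tr.lf (nat_lit 51659)))) (Tr.nd (nat_lit 51683) (Tr.nd (nat_lit 51679) (Tr.lf (nat_lit 51673)) (Tr.lf (nat_lit 51679))) (Tr.nd (nat_lit 51691) (Tr.lf (nat_lit 51683)) (Tr.lf (nat_lit 51691))))) (Tr.nd (nat_lit 51767) (Tr.nd (nat_lit 51721) (Tr.nd (nat_lit 51719) (Tr.lf (nat_lit 51713)) (Tr.lf (nat_lit 51719))) (Tr.nd (nat_lit 51749) (Tr.lf (nat_lit 51721)) (Tr.lf (nat_lit 51749)))) (Tr.nd (nat_lit 51787) (Tr.nd (nat_lit 51769) (Tr.lf (nat_lit 51767)) (Tr.lf (nat_lit 51769))) (Tr.nd (nat_lit 51797) (Tr.lf (nat_lit 51787)) (Tr.nd (nat_lit 51803) (Tr.lf (nat_lit 51797)) (Tr.lf (nat_lit 51803)))))))) (Tr.nd (nat_lit 51977) (Tr.nd (nat_lit 51893) (Tr.nd (nat_lit 51853) (Tr.nd (nat_lit 51829) (Tr.nd (nat_lit 51827) (Tr.lf (nat_lit 51817)) (Tr.lf (nat_lit 51827))) (Tr.nd (nat_lit 51839) (Tr.lf (nat_lit 51829)) (Tr.lf (nat_lit 51839)))) (Tr.nd (nat_lit 51869) (Tr.nd (nat_lit 51859) (Tr.lf (nat_lit 51853)) (Tr.lf (nat_lit 51859))) (Tr.nd (nat_lit 51871) (Tr.lf (nat_lit 51869)) (Tr.lf (nat_lit 51871))))) (Tr.nd (nat_lit 51929) (Tr.nd (nat_lit 51907) (Tr.nd (nat_lit 51899) (Tr.lf (nat_lit 51893)) (Tr.lf (nat_lit 51899))) (Tr.nd (nat_lit 51913) (Tr.lf (nat_lit 51907)) (Tr.lf (nat_lit 51913)))) (Tr.nd (nat_lit 51949) (Tr.nd (nat_lit 51941) (Tr.lf (nat_lit 51929)) (Tr.lf (nat_lit 51941))) (Tr.nd (nat_lit 51971) (Tr.lf (nat_lit 51949)) (Tr.nd (nat_lit 51973) (Tr.lf (nat_lit 51971)) (Tr.lf (nat_lit 51973))))))) (Tr.nd (nat_lit 52069) (Tr.nd (nat_lit 52027) (Tr.nd (nat_lit 52009) (Tr.nd (nat_lit 51991) (Tr.lf (nat_lit 51977)) (Tr.lf (nat_lit 51991))) (Tr.nd (nat_lit 52021) (Tr.lf (nat_lit 52009)) (Tr.lf (nat_lit 52021)))) (Tr.nd (nat_lit 52057) (Tr.nd (nat_lit 52051) (Tr.lf (nat_lit 52027)) (Tr.lf (nat_lit 52051))) (Tr.nd (nat_lit 52067) (Tr.lf (nat_lit 52057)) (Tr.lf (nat_lit 52067))))) (Tr.nd (nat_lit 52127) (Tr.nd (nat_lit 52103) (Tr.nd (nat_lit 52081) (Tr.lf (nat_lit 52069)) (Tr.lf (nat_lit 52081))) (Tr.nd (nat_lit 52121) (Tr.lf (nat_lit 52103)) (Tr.lf (nat_lit 52121)))) (Tr.nd (nat_lit 52153) (Tr.nd (nat_lit 52147) (Tr.lf (nat_lit 52127)) (Tr.lf (nat_lit 52147))) (Tr.nd (nat_lit 52163) (Tr.lf (nat_lit 52153)) (Tr.nd (nat_lit 52177) (Tr.lf (nat_lit 52163)) (Tr.lf (nat_lit 52177))))))))) (Tr.nd (nat_lit 52571) (Tr.nd (nat_lit 52369) (Tr.nd (nat_lit 52259) (Tr.nd (nat_lit 52223) (Tr.nd (nat_lit 52189) (Tr.nd (nat_lit 52183) (Tr.lf (nat_lit 52181)) (Tr.lf (nat_lit 52183))) (Tr.nd (nat_lit 52201) (Tr.lf (nat_lit 52189)) (Tr.lf (nat_lit 52201)))) (Tr.nd (nat_lit 52249) (Tr.nd (nat_lit 52237) (Tr.lf (nat_lit 52223)) (Tr.lf (nat_lit 52237))) (Tr.nd (nat_lit 52253) (Tr.lf (nat_lit 52249)) (Tr.lf (nat_lit 52253))))) (Tr.nd (nat_lit 52301) (Tr.nd (nat_lit 52289) (Tr.nd (nat_lit 52267) (Tr.lf (nat_lit 52259)) (Tr.lf (nat_lit 52267))) (Tr.nd (nat_lit 52291) (Tr.lf (nat_lit 52289)) (Tr.lf (nat_lit 52291)))) (Tr.nd (nat_lit 52321) (Tr.nd (nat_lit 52313) (Tr.lf (nat_lit 52301)) (Tr.lf (nat_lit 52313))) (Tr.nd (nat_lit 52361) (Tr.lf (nat_lit 52321)) (Tr.nd (nat_lit 52363) (Tr.lf (nat_lit 52361)) (Tr.lf (nat_lit 52363))))))) (Tr.nd (nat_lit 52501) (Tr.nd (nat_lit 52433) (Tr.nd (nat_lit 52387) (Tr.nd (nat_lit 52379) (Tr.lf (nat_lit 52369)) (Tr.lf (nat_lit 52379))) (Tr.nd (nat_lit 52391) (Tr.lf (nat_lit 52387)) (Tr.lf (nat_lit 52391)))) (Tr.nd (nat_lit 52457) (Tr.nd (nat_lit 52453) (Tr.lf (nat_lit 52433)) (Tr.lf (nat_lit 52453))) (Tr.nd (nat_lit 52489) (Tr.lf (nat_lit 52457)) (Tr.lf (nat_lit 52489))))) (Tr.nd (nat_lit 52541) (Tr.nd (nat_lit 52517) (Tr.nd (nat_lit 52511) (Tr.lf (nat_lit 52501)) (Tr.lf (nat_lit 52511))) (Tr.nd (nat_lit 52529) (Tr.lf (nat_lit 52517)) (Tr.lf (nat_lit 52529)))) (Tr.nd (nat_lit 52553) (Tr.nd (nat_lit 52543) (Tr.lf (nat_lit 52541)) (Tr.lf (nat_lit 52543))) (Tr.nd (nat_lit 52561) (Tr.lf (nat_lit 52553)) (Tr.nd (nat_lit 52567) (Tr.lf (nat_lit 52561)) (Tr.lf (nat_lit 52567)))))))) (Tr.nd (nat_lit 52757) (Tr.nd (nat_lit 52673) (Tr.nd (nat_lit 52627) (Tr.nd (nat_lit 52583) (Tr.nd (nat_lit 52579) (Tr.lf (nat_lit 52571)) (Tr.lf (nat_lit 52579))) (Tr.nd (nat_lit 52609) (Tr.lf (nat_lit 52583)) (Tr.lf (nat_lit 52609)))) (Tr.nd (nat_lit 52639) (Tr.nd (nat_lit 52631) (Tr.lf (nat_lit 52627)) (Tr.lf (nat_lit 52631))) (Tr.nd (nat_lit 52667) (Tr.lf (nat_lit 52639)) (Tr.lf (nat_lit 52667))))) (Tr.nd (nat_lit 52711) (Tr.nd (nat_lit 52697) (Tr.nd (nat_lit 52691) (Tr.lf (nat_lit 52673)) (Tr.lf (nat_lit 52691))) (Tr.nd (nat_lit 52709) (Tr.lf (nat_lit 52697)) (Tr.lf (nat_lit 52709)))) (Tr.nd (nat_lit 52727) (Tr.nd (nat_lit 52721) (Tr.lf (nat_lit 52711)) (Tr.lf (nat_lit 52721))) (Tr.nd (nat_lit 52733) (Tr.lf (nat_lit 52727)) (Tr.nd (nat_lit 52747) (Tr.lf (nat_lit 52733)) (Tr.lf (nat_lit 52747))))))) (Tr.nd (nat_lit 52861) (Tr.nd (nat_lit 52813) (Tr.nd (nat_lit 52783) (Tr.nd (nat_lit 52769) (Tr.lf (nat_lit 52757)) (Tr.lf (nat_lit 52769))) (Tr.nd (nat_lit 52807) (Tr.lf (nat_lit 52783)) (Tr.lf (nat_lit 52807)))) (Tr.nd (nat_lit 52837) (Tr.nd (nat_lit 52817) (Tr.lf (nat_lit 52813)) (Tr.lf (nat_lit 52817))) (Tr.nd (nat_lit 52859) (Tr.lf (nat_lit 52837)) (Tr.lf (nat_lit 52859))))) (Tr.nd (nat_lit 52901) (Tr.nd (nat_lit 52883) (Tr.nd (nat_lit 52879) (Tr.lf (nat_lit 52861)) (Tr.lf (nat_lit 52879))) (Tr.nd (nat_lit 52889) (Tr.lf (nat_lit 52883)) (Tr.lf (nat_lit 52889)))) (Tr.nd (nat_lit 52919) (Tr.nd (nat_lit 52903) (Tr.lf (nat_lit 52901)) (Tr.lf (nat_lit 52903))) (Tr.nd (nat_lit 52937) (Tr.lf (nat_lit 52919)) (Tr.nd (nat_lit 52951) (Tr.lf (nat_lit 52937)) (Tr.lf (nat_lit 52951))))))))))) (Tr.nd (nat_lit 54421) (Tr.nd (nat_lit 53657) (Tr.nd (nat_lit 53281) (Tr.nd (nat_lit 53113) (Tr.nd (nat_lit 53047) (Tr.nd (nat_lit 52981) (Tr.nd (nat_lit 52967) (Tr.nd (nat_lit 52963) (Tr.lf (nat_lit 52957)) (Tr.lf (nat_lit 52963))) (Tr.nd (nat_lit 52973) (Tr.lf (nat_lit 52967)) (Tr.lf (nat_lit 52973)))) (Tr.nd (nat_lit 53003) (Tr.nd (nat_lit 52999) (Tr.lf (nat_lit 52981)) (Tr.lf (nat_lit 52999))) (Tr.nd (nat_lit 53017) (Tr.lf (nat_lit 53003)) (Tr.lf (nat_lit 53017))))) (Tr.nd (nat_lit 53087) (Tr.nd (nat_lit 53069) (Tr.nd (nat_lit 53051) (Tr.lf (nat_lit 53047)) (Tr.lf (nat_lit 53051))) (Tr.nd (nat_lit 53077) (Tr.lf (nat_lit 53069)) (Tr.lf (nat_lit 53077)))) (Tr.nd (nat_lit 53093) (Tr.nd (nat_lit 53089) (Tr.lf (nat_lit 53087)) (Tr.lf (nat_lit 53089))) (Tr.nd (nat_lit 53101) (Tr.lf (nat_lit 53093)) (Tr.lf (nat_lit 53101)))))) (Tr.nd (nat_lit 53189) (Tr.nd (nat_lit 53149) (Tr.nd (nat_lit 53129) (Tr.nd (nat_lit 53117) (Tr.lf (nat_lit 53113)) (Tr.lf (nat_lit 53117))) (Tr.nd (nat_lit 53147) (Tr.lf (nat_lit 53129)) (Tr.lf (nat_lit 53147)))) (Tr.nd (nat_lit 53171) (Tr.nd (nat_lit 53161) (Tr.lf (nat_lit 53149)) (Tr.lf (nat_lit 53161))) (Tr.nd (nat_lit 53173) (Tr.lf (nat_lit 53171)) (Tr.lf (nat_lit 53173))))) (Tr.nd (nat_lit 53233) (Tr.nd (nat_lit 53201) (Tr.nd (nat_lit 53197) (Tr.lf (nat_lit 53189)) (Tr.lf (nat_lit 53197))) (Tr.nd (nat_lit 53231) (Tr.lf (nat_lit 53201)) (Tr.lf (nat_lit 53231)))) (Tr.nd (nat_lit 53267) (Tr.nd (nat_lit 53239) (Tr.lf (nat_lit 53233)) (Tr.lf (nat_lit 53239))) (Tr.nd (nat_lit 53269) (Tr.lf (nat_lit 53267)) (Tr.nd (nat_lit 53279) (Tr.lf (nat_lit 53269)) (Tr.lf (nat_lit 53279)))))))) (Tr.nd (nat_lit 53503) (Tr.nd (nat_lit 53381) (Tr.nd (nat_lit 53327) (Tr.nd (nat_lit 53309) (Tr.nd (nat_lit 53299) (Tr.lf (nat_lit 53281)) (Tr.lf (nat_lit 53299))) (Tr.nd (nat_lit 53323) (Tr.lf (nat_lit 53309)) (Tr.lf (nat_lit 53323)))) (Tr.nd (nat_lit 53359) (Tr.nd (nat_lit 53353) (Tr.lf (nat_lit 53327)) (Tr.lf (nat_lit 53353))) (Tr.nd (nat_lit 53377) (Tr.lf (nat_lit 53359)) (Tr.lf (nat_lit 53377))))) (Tr.nd (nat_lit 53419) (Tr.nd (nat_lit 53407) (Tr.nd (nat_lit 53401) (Tr.lf (nat_lit 53381)) (Tr.lf (nat_lit 53401))) (Tr.nd (nat_lit 53411) (Tr.lf (nat_lit 53407)) (Tr.lf (nat_lit 53411)))) (Tr.nd (nat_lit 53441) (Tr.nd (nat_lit 53437) (Tr.lf (nat_lit 53419)) (Tr.lf (nat_lit 53437))) (Tr.nd (nat_lit 53453) (Tr.lf (nat_lit 53441)) (Tr.nd (nat_lit 53479) (Tr.lf (nat_lit 53453)) (Tr.lf (nat_lit 53479))))))) (Tr.nd (nat_lit 53597) (Tr.nd (nat_lit 53551) (Tr.nd (nat_lit 53527) (Tr.nd (nat_lit 53507) (Tr.lf (nat_lit 53503)) (Tr.lf (nat_lit 53507))) (Tr.nd (nat_lit 53549) (Tr.lf (nat_lit 53527)) (Tr.lf (nat_lit 53549)))) (Tr.nd (nat_lit 53591) (Tr.nd (nat_lit 53569) (Tr.lf (nat_lit 53551)) (Tr.lf (nat_lit 53569))) (Tr.nd (nat_lit 53593) (Tr.lf (nat_lit 53591)) (Tr.lf (nat_lit 53593))))) (Tr.nd (nat_lit 53623) (Tr.nd (nat_lit 53611) (Tr.nd (nat_lit 53609) (Tr.lf (nat_lit 53597)) (Tr.lf (nat_lit 53609))) (Tr.nd (nat_lit 53617) (Tr.lf (nat_lit 53611)) (Tr.lf (nat_lit 53617)))) (Tr.nd (nat_lit 53633) (Tr.nd (nat_lit 53629) (Tr.lf (nat_lit 53623)) (Tr.lf (nat_lit 53629))) (Tr.nd (nat_lit 53639) (Tr.lf (nat_lit 53633)) (Tr.nd (nat_lit 53653) (Tr.lf (nat_lit 53639)) (Tr.lf (nat_lit 53653))))))))) (Tr.nd (nat_lit 54037) (Tr.nd (nat_lit 53861) (Tr.nd (nat_lit 53773) (Tr.nd (nat_lit 53717) (Tr.nd (nat_lit 53693) (Tr.nd (nat_lit 53681) (Tr.lf (nat_lit 53657)) (Tr.lf (nat_lit 53681))) (Tr.nd (nat_lit 53699) (Tr.lf (nat_lit 53693)) (Tr.lf (nat_lit 53699)))) (Tr.nd (nat_lit 53731) (Tr.nd (nat_lit 53719) (Tr.lf (nat_lit 53717)) (Tr.lf (nat_lit 53719))) (Tr.nd (nat_lit 53759) (Tr.lf (nat_lit 53731)) (Tr.lf (nat_lit 53759))))) (Tr.nd (nat_lit 53813) (Tr.nd (nat_lit 53783) (Tr.nd (nat_lit 53777) (Tr.lf (nat_lit 53773)) (Tr.lf (nat_lit 53777))) (Tr.nd (nat_lit 53791) (Tr.lf (nat_lit 53783)) (Tr.lf (nat_lit 53791)))) (Tr.nd (nat_lit 53831) (Tr.nd (nat_lit 53819) (Tr.lf (nat_lit 53813)) (Tr.lf (nat_lit 53819))) (Tr.nd (nat_lit 53849) (Tr.lf (nat_lit 53831)) (Tr.nd (nat_lit 53857) (Tr.lf (nat_lit 53849)) (Tr.lf (nat_lit 53857))))))) (Tr.nd (nat_lit 53927) (Tr.nd (nat_lit 53897) (Tr.nd (nat_lit 53887) (Tr.nd (nat_lit 53881) (Tr.lf (nat_lit 53861)) (Tr.lf (nat_lit 53881))) (Tr.nd (nat_lit 53891) (Tr.lf (nat_lit 53887)) (Tr.lf (nat_lit 53891)))) (Tr.nd (nat_lit 53917) (Tr.nd (nat_lit 53899) (Tr.lf (nat_lit 53897)) (Tr.lf (nat_lit 53899))) (Tr.nd (nat_lit 53923) (Tr.lf (nat_lit 53917)) (Tr.lf (nat_lit 53923))))) (Tr.nd (nat_lit 53987) (Tr.nd (nat_lit 53951) (Tr.nd (nat_lit 53939) (Tr.lf (nat_lit 53927)) (Tr.lf (nat_lit 53939))) (Tr.nd (nat_lit 53959) (Tr.lf (nat_lit 53951)) (Tr.lf (nat_lit 53959)))) (Tr.nd (nat_lit 54001) (Tr.nd (nat_lit 53993) (Tr.lf (nat_lit 53987)) (Tr.lf (nat_lit 53993))) (Tr.nd (nat_lit 54011) (Tr.lf (nat_lit 54001)) (Tr.nd (nat_lit 54013) (Tr.lf (nat_lit 54011)) (Tr.lf (nat_lit 54013)))))))) (Tr.nd (nat_lit 54277) (Tr.nd (nat_lit 54139) (Tr.nd (nat_lit 54091) (Tr.nd (nat_lit 54059) (Tr.nd (nat_lit 54049) (Tr.lf (nat_lit 54037)) (Tr.lf (nat_lit 54049))) (Tr.nd (nat_lit 54083) (Tr.lf (nat_lit 54059)) (Tr.lf (nat_lit 54083)))) (Tr.nd (nat_lit 54121) (Tr.nd (nat_lit 54101) (Tr.lf (nat_lit 54091)) (Tr.lf (nat_lit 54101))) (Tr.nd (nat_lit 54133) (Tr.lf (nat_lit 54121)) (Tr.lf (nat_lit 54133))))) (Tr.nd (nat_lit 54181) (Tr.nd (nat_lit 54163) (Tr.nd (nat_lit 54151) (Tr.lf (nat_lit 54139)) (Tr.lf (nat_lit 54151))) (Tr.nd (nat_lit 54167) (Tr.lf (nat_lit 54163)) (Tr.lf (nat_lit 54167)))) (Tr.nd (nat_lit 54217) (Tr.nd (nat_lit 54193) (Tr.lf (nat_lit 54181)) (Tr.lf (nat_lit 54193))) (Tr.nd (nat_lit 54251) (Tr.lf (nat_lit 54217)) (Tr.nd (nat_lit 54269) (Tr.lf (nat_lit 54251)) (Tr.lf (nat_lit 54269))))))) (Tr.nd (nat_lit 54361) (Tr.nd (nat_lit 54319) (Tr.nd (nat_lit 54293) (Tr.nd (nat_lit 54287) (Tr.lf (nat_lit 54277)) (Tr.lf (nat_lit 54287))) (Tr.nd (nat_lit 54311) (Tr.lf (nat_lit 54293)) (Tr.lf (nat_lit 54311)))) (Tr.nd (nat_lit 54331) (Tr.nd (nat_lit 54323) (Tr.lf (nat_lit 54319)) (Tr.lf (nat_lit 54323))) (Tr.nd (nat_lit 54347) (Tr.lf (nat_lit 54331)) (Tr.lf (nat_lit 54347))))) (Tr.nd (nat_lit 54401) (Tr.nd (nat_lit 54371) (Tr.nd (nat_lit 54367) (Tr.lf (nat_lit 54361)) (Tr.lf (nat_lit 54367))) (Tr.nd (nat_lit 54377) (Tr.lf (nat_lit 54371)) (Tr.lf (nat_lit 54377)))) (Tr.nd (nat_lit 54409) (Tr.nd (nat_lit 54403) (Tr.lf (nat_lit 54401)) (Tr.lf (nat_lit 54403))) (Tr.nd (nat_lit 54413) (Tr.lf (nat_lit 54409)) (Tr.nd (nat_lit 54419) (Tr.lf (nat_lit 54413)) (Tr.lf (nat_lit 54419)))))))))) (Tr.nd (nat_lit 55163) (Tr.nd (nat_lit 54767) (Tr.nd (nat_lit 54577) (Tr.nd (nat_lit 54503) (Tr.nd (nat_lit 54469) (Tr.nd (nat_lit 54443) (Tr.nd (nat_lit 54437) (Tr.lf (nat_lit 54421)) (Tr.lf (nat_lit 54437))) (Tr.nd (nat_lit 54449) (Tr.lf (nat_lit 54443)) (Tr.lf (nat_lit 54449)))) (Tr.nd (nat_lit 54497) (Tr.nd (nat_lit 54493) (Tr.lf (nat_lit 54469)) (Tr.lf (nat_lit 54493))) (Tr.nd (nat_lit 54499) (Tr.lf (nat_lit 54497)) (Tr.lf (nat_lit 54499))))) (Tr.nd (nat_lit 54541) (Tr.nd (nat_lit 54521) (Tr.nd (nat_lit 54517) (Tr.lf (nat_lit 54503)) (Tr.lf (nat_lit 54517))) (Tr.nd (nat_lit 54539) (Tr.lf (nat_lit 54521)) (Tr.lf (nat_lit 54539)))) (Tr.nd (nat_lit 54559) (Tr.nd (nat_lit 54547) (Tr.lf (nat_lit 54541)) (Tr.lf (nat_lit 54547))) (Tr.nd (nat_lit 54563) (Tr.lf (nat_lit 54559)) (Tr.lf (nat_lit 54563)))))) (Tr.nd (nat_lit 54647) (Tr.nd (nat_lit 54617) (Tr.nd (nat_lit 54583) (Tr.nd (nat_lit 54581) (Tr.lf (nat_lit 54577)) (Tr.lf (nat_lit 54581))) (Tr.nd (nat_lit 54601) (Tr.lf (nat_lit 54583)) (Tr.lf (nat_lit 54601)))) (Tr.nd (nat_lit 54629) (Tr.nd (nat_lit 54623) (Tr.lf (nat_lit 54617)) (Tr.lf (nat_lit 54623))) (Tr.nd (nat_lit 54631) (Tr.lf (nat_lit 54629)) (Tr.lf (nat_lit 54631))))) (Tr.nd (nat_lit 54709) (Tr.nd (nat_lit 54673) (Tr.nd (nat_lit 54667) (Tr.lf (nat_lit 54647)) (Tr.lf (nat_lit 54667))) (Tr.nd (nat_lit 54679) (Tr.lf (nat_lit 54673)) (Tr.lf (nat_lit 54679)))) (Tr.nd (nat_lit 54721) (Tr.nd (nat_lit 54713) (Tr.lf (nat_lit 54709)) (Tr.lf (nat_lit 54713))) (Tr.nd (nat_lit 54727) (Tr.lf (nat_lit 54721)) (Tr.nd (nat_lit 54751) (Tr.lf (nat_lit 54727)) (Tr.lf (nat_lit 54751)))))))) (Tr.nd (nat_lit 54973) (Tr.nd (nat_lit 54869) (Tr.nd (nat_lit 54799) (Tr.nd (nat_lit 54779) (Tr.nd (nat_lit 54773) (Tr.lf (nat_lit 54767)) (Tr.lf (nat_lit 54773))) (Tr.nd (nat_lit 54787) (Tr.lf (nat_lit 54779)) (Tr.lf (nat_lit 54787)))) (Tr.nd (nat_lit 54833) (Tr.nd (nat_lit 54829) (Tr.lf (nat_lit 54799)) (Tr.lf (nat_lit 54829))) (Tr.nd (nat_lit 54851) (Tr.lf (nat_lit 54833)) (Tr.lf (nat_lit 54851))))) (Tr.nd (nat_lit 54917) (Tr.nd (nat_lit 54881) (Tr.nd (nat_lit 54877) (Tr.lf (nat_lit 54869)) (Tr.lf (nat_lit 54877))) (Tr.nd (nat_lit 54907) (Tr.lf (nat_lit 54881)) (Tr.lf (nat_lit 54907)))) (Tr.nd (nat_lit 54941) (Tr.nd (nat_lit 54919) (Tr.lf (nat_lit 54917)) (Tr.lf (nat_lit 54919))) (Tr.nd (nat_lit 54949) (Tr.lf (nat_lit 54941)) (Tr.nd (nat_lit 54959) (Tr.lf (nat_lit 54949)) (Tr.lf (nat_lit 54959))))))) (Tr.nd (nat_lit 55057) (Tr.nd (nat_lit 55009) (Tr.nd (nat_lit 54983) (Tr.nd (nat_lit 54979) (Tr.lf (nat_lit 54973)) (Tr.lf (nat_lit 54979))) (Tr.nd (nat_lit 55001) (Tr.lf (nat_lit 54983)) (Tr.lf (nat_lit 55001)))) (Tr.nd (nat_lit 55049) (Tr.nd (nat_lit 55021) (Tr.lf (nat_lit 55009)) (Tr.lf (nat_lit 55021))) (Tr.nd (nat_lit 55051) (Tr.lf (nat_lit 55049)) (Tr.lf (nat_lit 55051))))) (Tr.nd (nat_lit 55103) (Tr.nd (nat_lit 55073) (Tr.nd (nat_lit 55061) (Tr.lf (nat_lit 55057)) (Tr.lf (nat_lit 55061))) (Tr.nd (nat_lit 55079) (Tr.lf (nat_lit 55073)) (Tr.lf (nat_lit 55079)))) (Tr.nd (nat_lit 55117) (Tr.nd (nat_lit 55109) (Tr.lf (nat_lit 55103)) (Tr.lf (nat_lit 55109))) (Tr.nd (nat_lit 55127) (Tr.lf (nat_lit 55117)) (Tr.nd (nat_lit 55147) (Tr.lf (nat_lit 55127)) (Tr.lf (nat_lit 55147))))))))) (Tr.nd (nat_lit 55589) (Tr.nd (nat_lit 55343) (Tr.nd (nat_lit 55243) (Tr.nd (nat_lit 55213) (Tr.nd (nat_lit 55201) (Tr.nd (nat_lit 55171) (Tr.lf (nat_lit 55163)) (Tr.lf (nat_lit 55171))) (Tr.nd (nat_lit 55207) (Tr.lf (nat_lit 55201)) (Tr.lf (nat_lit 55207)))) (Tr.nd (nat_lit 55219) (Tr.nd (nat_lit 55217) (Tr.lf (nat_lit 55213)) (Tr.lf (nat_lit 55217))) (Tr.nd (nat_lit 55229) (Tr.lf (nat_lit 55219)) (Tr.lf (nat_lit 55229))))) (Tr.nd (nat_lit 55313) (Tr.nd (nat_lit 55259) (Tr.nd (nat_lit 55249) (Tr.lf (nat_lit 55243)) (Tr.lf (nat_lit 55249))) (Tr.nd (nat_lit 55291) (Tr.lf (nat_lit 55259)) (Tr.lf (nat_lit 55291)))) (Tr.nd (nat_lit 55333) (Tr.nd (nat_lit 55331) (Tr.lf (nat_lit 55313)) (Tr.lf (nat_lit 55331))) (Tr.nd (nat_lit 55337) (Tr.lf (nat_lit 55333)) (Tr.nd (nat_lit 55339) (Tr.lf (nat_lit 55337)) (Tr.lf (nat_lit 55339))))))) (Tr.nd (nat_lit 55457) (Tr.nd (nat_lit 55399) (Tr.nd (nat_lit 55373) (Tr.nd (nat_lit 55351) (Tr.lf (nat_lit 55343)) (Tr.lf (nat_lit 55351))) (Tr.nd (nat_lit 55381) (Tr.lf (nat_lit 55373)) (Tr.lf (nat_lit 55381)))) (Tr.nd (nat_lit 55439) (Tr.nd (nat_lit 55411) (Tr.lf (nat_lit 55399)) (Tr.lf (nat_lit 55411))) (Tr.nd (nat_lit 55441) (Tr.lf (nat_lit 55439)) (Tr.lf (nat_lit 55441))))) (Tr.nd (nat_lit 55511) (Tr.nd (nat_lit 55487) (Tr.nd (nat_lit 55469) (Tr.lf (nat_lit 55457)) (Tr.lf (nat_lit 55469))) (Tr.nd (nat_lit 55501) (Tr.lf (nat_lit 55487)) (Tr.lf (nat_lit 55501)))) (Tr.nd (nat_lit 55541) (Tr.nd (nat_lit 55529) (Tr.lf (nat_lit 55511)) (Tr.lf (nat_lit 55529))) (Tr.nd (nat_lit 55547) (Tr.lf (nat_lit 55541)) (Tr.nd (nat_lit 55579) (Tr.lf (nat_lit 55547)) (Tr.lf (nat_lit 55579)))))))) (Tr.nd (nat_lit 55721) (Tr.nd (nat_lit 55661) (Tr.nd (nat_lit 55621) (Tr.nd (nat_lit 55609) (Tr.nd (nat_lit 55603) (Tr.lf (nat_lit 55589)) (Tr.lf (nat_lit 55603))) (Tr.nd (nat_lit 55619) (Tr.lf (nat_lit 55609)) (Tr.lf (nat_lit 55619)))) (Tr.nd (nat_lit 55633) (Tr.nd (nat_lit 55631) (Tr.lf (nat_lit 55621)) (Tr.lf (nat_lit 55631))) (Tr.nd (nat_lit 55639) (Tr.lf (nat_lit 55633)) (Tr.lf (nat_lit 55639))))) (Tr.nd (nat_lit 55681) (Tr.nd (nat_lit 55667) (Tr.nd (nat_lit 55663) (Tr.lf (nat_lit 55661)) (Tr.lf (nat_lit 55663))) (Tr.nd (nat_lit 55673) (Tr.lf (nat_lit 55667)) (Tr.lf (nat_lit 55673)))) (Tr.nd (nat_lit 55697) (Tr.nd (nat_lit 55691) (Tr.lf (nat_lit 55681)) (Tr.lf (nat_lit 55691))) (Tr.nd (nat_lit 55711) (Tr.lf (nat_lit 55697)) (Tr.nd (nat_lit 55717) (Tr.lf (nat_lit 55711)) (Tr.lf (nat_lit 55717))))))) (Tr.nd (nat_lit 55817) (Tr.nd (nat_lit 55793) (Tr.nd (nat_lit 55763) (Tr.nd (nat_lit 55733) (Tr.lf (nat_lit 55721)) (Tr.lf (nat_lit 55733))) (Tr.nd (nat_lit 55787) (Tr.lf (nat_lit 55763)) (Tr.lf (nat_lit 55787)))) (Tr.nd (nat_lit 55807) (Tr.nd (nat_lit 55799) (Tr.lf (nat_lit 55793)) (Tr.lf (nat_lit 55799))) (Tr.nd (nat_lit 55813) (Tr.lf (nat_lit 55807)) (Tr.lf (nat_lit 55813))))) (Tr.nd (nat_lit 55837) (Tr.nd (nat_lit 55823) (Tr.nd (nat_lit 55819) (Tr.lf (nat_lit 55817)) (Tr.lf (nat_lit 55819))) (Tr.nd (nat_lit 55829) (Tr.lf (nat_lit 55823)) (Tr.lf (nat_lit 55829)))) (Tr.nd (nat_lit 55849) (Tr.nd (nat_lit 55843) (Tr.lf (nat_lit 55837)) (Tr.lf (nat_lit 55843))) (Tr.nd (nat_lit 55871) (Tr.lf (nat_lit 55849)) (Tr.nd (nat_lit 55889) (Tr.lf (nat_lit 55871)) (Tr.lf (nat_lit 55889))))))))))))))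
noncomputable def L : Tr ℕ := L_0
noncomputable def A : Tr (Alt Col) := (Tr.nd (nat_lit 13) (Tr.nd (nat_lit 6) (Tr.nd (nat_lit 3) (Tr.nd (nat_lit 1) (Tr.lf Alt.tree) (Tr.nd (nat_lit 2) (Tr.lf (Alt.word (nat_lit 0) (nat_lit 0) true [Col.a, Col.a])) (Tr.lf (Alt.word (nat_lit 4) (nat_lit 0) true [Col.b, Col.b])))) (Tr.nd (nat_lit 4) (Tr.lf (Alt.word (nat_lit 7) (nat_lit 0) true [Col.c, Col.c])) (Tr.nd (nat_lit 5) (Tr.lf (Alt.word (nat_lit 9) (nat_lit 0) true [Col.d, Col.d])) (Tr.lf (Alt.word (nat_lit 6) (nat_lit 1) true [Col.b, Col.d, Col.b, Col.d]))))) (Tr.nd (nat_lit 9) (Tr.nd (nat_lit 7) (Tr.lf (Alt.word (nat_lit 3) (nat_lit 1) true [Col.a, Col.d, Col.a, Col.d])) (Tr.nd (nat_lit 8) (Tr.lf (Alt.word (nat_lit 2) (nat_lit 1) true [Col.a, Col.c, Col.a, Col.c])) (Tr.lf (Alt.word (nat_lit 5) (nat_lit 0) true [Col.c,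 Col.b, Col.c, Col.b, Col.c, Col.b])))) (Tr.nd (nat_lit 11) (Tr.nd (nat_lit 10) (Tr.lf (Alt.word (nat_lit 2) (nat_lit 0) true [Col.c, Col.a, Col.c, Col.a])) (Tr.lf (Alt.word (nat_lit 3) (nat_lit 0) true [Col.d, Col.a, Col.d, Col.a]))) (Tr.nd (nat_lit 12) (Tr.lf (Alt.word (nat_lit 5) (nat_lit 1) true [Col.b, Col.c, Col.b, Col.c, Col.b, Col.c])) (Tr.lf (Alt.word (nat_lit 6) (nat_lit 0) true [Col.d, Col.b, Col.d, Col.b])))))) (Tr.nd (nat_lit 19) (Tr.nd (nat_lit 16) (Tr.nd (nat_lit 14) (Tr.lf (Alt.word (nat_lit 1) (nat_lit 0) true [Col.b, Col.a, Col.b, Col.a, Col.b, Col.a, Col.b, Col.a, Col.b, Col.a])) (Tr.nd (nat_lit 15) (Tr.lf (Alt.word (nat_lit 10) (nat_lit 0) true [Col.c, Col.d, Col.c, Col.d, Col.c, Col.d, Col.c, Col.d, Col.a])) (Tr.lf (Alt.word (nat_lit 1) (nat_lit 1) true [Col.a, Col.b, Col.a, Col.b, Col.a,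 Col.b, Col.a, Col.b, Col.a, Col.b])))) (Tr.nd (nat_lit 17) (Tr.lf (Alt.word (nat_lit 10) (nat_lit 2) true [Col.c, Col.d, Col.c, Col.d, Col.c, Col.d, Col.a, Col.c, Col.d])) (Tr.nd (nat_lit 18) (Tr.lf (Alt.word (nat_lit 10) (nat_lit 1) true [Col.d, Col.c, Col.d, Col.c, Col.d, Col.c, Col.d, Col.a, Col.c])) (Tr.lf (Alt.word (nat_lit 10) (nat_lit 4) true [Col.c, Col.d, Col.c, Col.d, Col.a, Col.c, Col.d, Col.c, Col.d]))))) (Tr.nd (nat_lit 22) (Tr.nd (nat_lit 20) (Tr.lf (Alt.word (nat_lit 10) (nat_lit 8) true [Col.a, Col.c, Col.d, Col.c, Col.d, Col.c, Col.d, Col.c, Col.d])) (Tr.nd (nat_lit 21) (Tr.lf (Alt.word (nat_lit 10) (nat_lit 3) true [Col.d, Col.c, Col.d, Col.c, Col.d, Col.a, Col.c, Col.d, Col.c])) (Tr.lf (Alt.word (nat_lit 10) (nat_lit 6) true [Col.c, Col.d, Col.a, Col.c, Col.d, Col.c, Col.d, Col.c, Col.d]))))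 (Tr.nd (nat_lit 24) (Tr.nd (nat_lit 23) (Tr.lf (Alt.word (nat_lit 10) (nat_lit 0) false [Col.a, Col.d, Col.c, Col.d, Col.c, Col.d, Col.c, Col.d, Col.c])) (Tr.lf (Alt.base (nat_lit 0) [Col.a, Col.b, Col.a, Col.b, Col.a, Col.c, Col.b] [Col.a, Col.b, Col.c, Col.a, Col.b, Col.a, Col.b, Col.c]))) (Tr.nd (nat_lit 25) (Tr.lf (Alt.base (nat_lit 1) [Col.a, Col.b, Col.a, Col.b, Col.a, Col.d, Col.c, Col.b] [Col.a, Col.b, Col.c, Col.a, Col.b, Col.a, Col.b, Col.c, Col.d])) (Tr.lf (Alt.word (nat_lit 10) (nat_lit 5) true [Col.d, Col.c, Col.d, Col.a, Col.c, Col.d, Col.c, Col.d, Col.c])))))))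
abbrev q0 : ℕ := nat_lit 32771
theorem alt_chk : Tr.all (altChk idx inv RW SW2) A = true := by decide +kernel
theorem bst_chk : bst L 32768 65536 = true := by decide +kernel
theorem size_L : size L = 2160 := by decide +kernel
theorem q0_mem : q0 ∈ L.toList := mem_sound (by decide +kernel)
theorem closed_chk_0 : Tr.all (closedP L stp inv cols) L_0 = true := by decide +kernel
theorem closed_chk : Tr.all (closedP L stp inv cols) L = true := closed_chk_0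
theorem edge_chk_0 : Tr.all (fun q => lall (fun c => chkEdge stp tau del idx PT DT q0 A c q) cols) L_0 = true := by decide +kernel
theorem edge_chk : Tr.all (fun q => lall (fun c => chkEdge stp tau del idx PT DT q0 A c q) cols) L = true := edge_chk_0
theorem trans_chk_0 : Tr.all (transP L stp PT q0 cols) L_0 = true := by decide +kernel
theorem trans_chk : Tr.all (transP L stp PT q0 cols) L = true := trans_chk_0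
theorem closed : Closed L stp inv := Closed.of_chk hcols inv_inv closed_chk
theorem pos : ∀ q ∈ L.toList, q ≠ 0 := fun q hq h => by
  have := ((bst_sound L _ _ bst_chk).1 q hq).1
  omega
theorem nodup : L.toList.Nodup := ((bst_sound L _ _ bst_chk).2.imp (fun h => Nat.ne_of_lt h))
theorem card_L : Nat.card (Om L) = 2160 := by rw [card_Om L nodup, ← size_eq, size_L]
theorem trans : ∀ q ∈ L.toList, ∃ w : List Col, walk stp w q0 = q := trans_sound trans_chk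
attribute [local irreducible] L A stp tau del PT DT
theorem closure_thm {G X : Type*} [Group G] [MulAction G X] (g : Col → G) (x0 : X) (hinv : ∀ c, g (inv c) = (g c)⁻¹)
    (hRW : ∀ w ∈ RW, gw g w = 1) (hSW : ∀ w ∈ SW0, gw g w • x0 = x0) :
    ∃ f : ℕ → X, f q0 = x0 ∧ ∀ q ∈ L.toList, ∀ c, g c • f q = f (stp c q) := by
  have hSW1 : ∀ w ∈ SW1, gw g w • x0 = x0 := by
    have h := mini0_fix g x0 hinv hRW hSW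
    intro w hw; unfold SW1 at hw; rw [List.mem_append, List.mem_singleton] at hw
    rcases hw with hw | rfl
    · exact hSW w hw
    · exact h
  have hSW2 : ∀ w ∈ SW2, gw g w • x0 = x0 := by
    have h := mini1_fix g x0 hinv hRW hSW1
    intro w hw; unfold SW2 at hw; rw [List.mem_append, List.mem_singleton] at hw
    rcases hw with hw | rfl
    · exact hSW1 w hw
    · exact h
  have hA : ∀ a ∈ A.toList, AltOK g x0 a := fun a ha =>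
    altChk_sound (idx := idx) (inv := inv) (RW := RW) (SW := SW2) g x0 dec hdec hinv hRW hSW2 ((Tr.all_iff _ _).1 alt_chk a ha)
  exact closure_sound (L := L) (stp := stp) (tau := tau) (del := del) (idx := idx) (PT := PT) (DT := DT) (q0 := q0) (A := A) (cols := cols)
    g x0 dec hdec hcols closed.mem pos q0_mem edge_chk hA
universe u
/-- upper bound for a relative index -/
theorem rel_upper {G : Type u} [Group G] (g : Col → G) (hinv : ∀ c, g (inv c) = (g c)⁻¹)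
    (hRW : ∀ w ∈ RW, gw g w = 1) (H : Subgroup G) (hSW : ∀ w ∈ SW0, gw g w ∈ H) :
    H.relIndex (genBy g) ≠ 0 ∧ H.relIndex (genBy g) ≤ 2160 := by
  rw [← size_L]
  exact relIndex_of_closure closed.mem q0_mem g hinv hRW H hSW (fun X _ x0 h1 h2 h3 => closure_thm (liftGen g) x0 h1 h2 h3)
end CfsgLib.TCSuzM
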