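import Cfsg.Agent.EqBase
import Cfsg.Agent.LibTCSuzG
import Cfsg.Agent.LibTCSuzJ
import Cfsg.Agent.LibTCSuzM
import Cfsg.Agent.LibTCSuzC
set_option autoImplicit false
set_option linter.all false
set_option maxRecDepth 1000000

namespace CfsgLib.TCSuz
open CfsgLib.TC Cfsg.Spor

abbrev PG : TCSuzG.Col → Suz := TCSuzG.Pc PresentedGroup.of
abbrev PJ : TCSuzJ.Col → Suz := TCSuzJ.Pc PresentedGroup.of
abbrev PM : TCSuzM.Col → Suz := TCSuzM.Pc PresentedGroup.of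

theorem le0 : genBy PG ≤ genBy TCG_Suz.P := by
  rw [Subgroup.closure_le]
  rintro _ ⟨c, rfl⟩
  exact Subgroup.subset_closure ⟨TCSuzG.emb c, rfl⟩
theorem le1 : genBy PJ ≤ genBy PG := by
  rw [Subgroup.closure_le]
  rintro _ ⟨c, rfl⟩
  cases c
  · exact Subgroup.subset_closure ⟨.a, rfl⟩
  · exact Subgroup.subset_closure ⟨.b, rfl⟩
  · exact Subgroup.subset_closure ⟨.c, rfl⟩
  · exact Subgroup.subset_closure ⟨.d, rfl⟩
  · exact Subgroup.subset_closure ⟨.e, rfl⟩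
theorem le2 : genBy PM ≤ genBy PJ := by
  rw [Subgroup.closure_le]
  rintro _ ⟨c, rfl⟩
  cases c
  · exact Subgroup.subset_closure ⟨.a, rfl⟩
  · exact Subgroup.subset_closure ⟨.b, rfl⟩
  · exact Subgroup.subset_closure ⟨.c, rfl⟩
  · exact Subgroup.subset_closure ⟨.d, rfl⟩

theorem card_PM : Nat.card (genBy PM) ≠ 0 ∧ Nat.card (genBy PM) ≤ 2160 :=
  card_of_bot (TCSuzM.rel_upper PM (TCSuzM.Pc_inv TCG_Suz.hsat)
    (fun w hw => (TCSuzM.rw_mem w hw).elim (TCSuzM.Pc_RW TCG_Suz.hsat w) (fun h => absurd h (by simp [TCSuzM.RWe]))) ⊥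
    (fun w hw => absurd hw (by simp [TCSuzM.SW0])))

theorem card_PJ : Nat.card (genBy PJ) ≠ 0 ∧ Nat.card (genBy PJ) ≤ 604800 :=
  card_chain le2 (TCSuzJ.rel_upper PJ (TCSuzJ.Pc_inv TCG_Suz.hsat)
    (fun w hw => (TCSuzJ.rw_mem w hw).elim (TCSuzJ.Pc_RW TCG_Suz.hsat w) (fun h => absurd h (by simp [TCSuzJ.RWe]))) (genBy PM)
    (fun w hw => by
      simp only [TCSuzJ.SW0, List.mem_cons, List.not_mem_nil, or_false] at hw
      rcases hw with rfl | rfl | rfl | rfl <;> rw [gw_cons, gw_nil, one_mul] <;> apply Subgroup.subset_closure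
      exacts [⟨.a, rfl⟩, ⟨.b, rfl⟩, ⟨.c, rfl⟩, ⟨.d, rfl⟩])) card_PM (by norm_num)

theorem card_PG : Nat.card (genBy PG) ≠ 0 ∧ Nat.card (genBy PG) ≤ 251596800 :=
  card_chain le1 (TCSuzG.rel_upper PG (TCSuzG.Pc_inv TCG_Suz.hsat)
    (fun w hw => (TCSuzG.rw_mem w hw).elim (TCSuzG.Pc_RW TCG_Suz.hsat w) (fun h => absurd h (by simp [TCSuzG.RWe]))) (genBy PJ)
    (fun w hw => by
      simp only [TCSuzG.SW0, List.mem_cons, List.not_mem_nil, or_false] at hw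
      rcases hw with rfl | rfl | rfl | rfl | rfl <;> rw [gw_cons, gw_nil, one_mul] <;> apply Subgroup.subset_closure
      exacts [⟨.a, rfl⟩, ⟨.b, rfl⟩, ⟨.c, rfl⟩, ⟨.d, rfl⟩, ⟨.e, rfl⟩])) card_PJ (by norm_num)

theorem card_P : Nat.card (genBy TCG_Suz.P) ≠ 0 ∧ Nat.card (genBy TCG_Suz.P) ≤ 448345497600 :=
  card_chain le0 (TCSuz.rel_upper TCG_Suz.P TCG_Suz.P_inv TCG_Suz.P_RW (genBy PG)
    (fun w hw => by
      simp only [TCSuz.SW0, List.mem_cons, List.not_mem_nil, or_false] at hw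
      rcases hw with rfl | rfl | rfl | rfl | rfl | rfl <;> rw [gw_cons, gw_nil, one_mul] <;> apply Subgroup.subset_closure
      exacts [⟨.a, rfl⟩, ⟨.b, rfl⟩, ⟨.c, rfl⟩, ⟨.d, rfl⟩, ⟨.e, rfl⟩, ⟨.f, rfl⟩])) card_PG (by norm_num)

theorem card_top : Nat.card Suz ≠ 0 ∧ Nat.card Suz ≤ 448345497600 := by
  have h := card_P
  have h1 : genBy TCG_Suz.P = ⊤ := TCG_Suz.P_top
  rw [h1, Subgroup.card_top] at h
  exact h

instance finite_Suz : Finite Suz := Nat.finite_of_card_ne_zero card_top.1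

theorem order_main : Nat.card Suz = 448345497600 ∧ Function.Injective φ :=
  order_faithful φ card_top.2 (Chain.lev0 φ.range.subtype (rangeGen φ TCG_Suz.P) φ_P)

end CfsgLib.TCSuz
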