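import Cfsg.Agent.EqBase
import Cfsg.Agent.LibTCSuzbW
set_option autoImplicit false
set_option linter.all false
set_option maxRecDepth 1000000
set_option maxHeartbeats 0
namespace CfsgLib.TCSuzb
open CfsgLib.TC Cfsg.Spor CfsgLib.TCG_Suz
noncomputable def mini0S : Tr (Fc Col) := (Tr.nd (nat_lit 137) (Tr.nd (nat_lit 68) (Tr.nd (nat_lit 34) (Tr.nd (nat_lit 17) (Tr.nd (nat_lit 8) (Tr.nd (nat_lit 4) (Tr.nd (nat_lit 2) (Tr.nd (nat_lit 1) (Tr.lf (Fc.ed (nat_lit 0) (nat_lit 0) Col.a (nat_lit 0) (Dv.sb (nat_lit 0) [] [])))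
(Tr.lf (Fc.ed (nat_lit 1) (nat_lit 0) Col.b (nat_lit 0) (Dv.sb (nat_lit 1) [] []))))
(Tr.nd (nat_lit 3) (Tr.lf (Fc.ed (nat_lit 2) (nat_lit 0) Col.c (nat_lit 0) (Dv.sb (nat_lit 2) [] [])))
(Tr.lf (Fc.ed (nat_lit 3) (nat_lit 0) Col.d (nat_lit 0) (Dv.sb (nat_lit 3) [] [])))))
(Tr.nd (nat_lit 6) (Tr.nd (nat_lit 5) (Tr.lf (Fc.ed (nat_lit 4) (nat_lit 0) Col.e (nat_lit 1) Dv.df))
(Tr.lf (Fc.ed (nat_lit 5) (nat_lit 1) Col.a (nat_lit 1) (Dv.wd (nat_lit 4) [Mv.b (nat_lit 4), Mv.f (nat_lit 0), Mv.f (nat_lit 4)]))))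
(Tr.nd (nat_lit 7) (Tr.lf (Fc.ed (nat_lit 6) (nat_lit 1) Col.b (nat_lit 1) (Dv.wd (nat_lit 5) [Mv.b (nat_lit 4), Mv.f (nat_lit 1), Mv.f (nat_lit 4)])))
(Tr.lf (Fc.ed (nat_lit 7) (nat_lit 1) Col.c (nat_lit 1) (Dv.wd (nat_lit 6) [Mv.b (nat_lit 4), Mv.f (nat_lit 2), Mv.f (nat_lit 4)]))))))
(Tr.nd (nat_lit 12) (Tr.nd (nat_lit 10) (Tr.nd (nat_lit 9) (Tr.lf (Fc.ed (nat_lit 8) (nat_lit 1) Col.d (nat_lit 2) Dv.df))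
(Tr.lf (Fc.ed (nat_lit 9) (nat_lit 2) Col.a (nat_lit 2) (Dv.wd (nat_lit 7) [Mv.b (nat_lit 8), Mv.f (nat_lit 5), Mv.f (nat_lit 8)]))))
(Tr.nd (nat_lit 11) (Tr.lf (Fc.ed (nat_lit 10) (nat_lit 2) Col.b (nat_lit 2) (Dv.wd (nat_lit 8) [Mv.b (nat_lit 8), Mv.f (nat_lit 6), Mv.f (nat_lit 8)])))
(Tr.lf (Fc.ed (nat_lit 11) (nat_lit 2) Col.c (nat_lit 3) Dv.df))))
(Tr.nd (nat_lit 14) (Tr.nd (nat_lit 13) (Tr.lf (Fc.ed (nat_lit 12) (nat_lit 3) Col.a (nat_lit 3) (Dv.wd (nat_lit 9) [Mv.b (nat_lit 11), Mv.f (nat_lit 9), Mv.f (nat_lit 11)])))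
(Tr.lf (Fc.ed (nat_lit 13) (nat_lit 3) Col.b (nat_lit 4) Dv.df)))
(Tr.nd (nat_lit 15) (Tr.lf (Fc.ed (nat_lit 14) (nat_lit 4) Col.c (nat_lit 4) (Dv.wd (nat_lit 10) [Mv.b (nat_lit 13), Mv.b (nat_lit 11), Mv.f (nat_lit 10), Mv.f (nat_lit 11), Mv.f (nat_lit 13)])))
(Tr.nd (nat_lit 16) (Tr.lf (Fc.ed (nat_lit 15) (nat_lit 4) Col.a (nat_lit 5) Dv.df))
(Tr.lf (Fc.ed (nat_lit 16) (nat_lit 5) Col.c (nat_lit 5) (Dv.wd (nat_lit 11) [Mv.b (nat_lit 15), Mv.f (nat_lit 14), Mv.f (nat_lit 15)]))))))))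
(Tr.nd (nat_lit 25) (Tr.nd (nat_lit 21) (Tr.nd (nat_lit 19) (Tr.nd (nat_lit 18) (Tr.lf (Fc.ed (nat_lit 17) (nat_lit 5) Col.b (nat_lit 6) Dv.df))
(Tr.lf (Fc.ed (nat_lit 18) (nat_lit 6) Col.c (nat_lit 7) Dv.df)))
(Tr.nd (nat_lit 20) (Tr.lf (Fc.ed (nat_lit 19) (nat_lit 7) Col.b (nat_lit 7) (Dv.wd (nat_lit 12) [Mv.b (nat_lit 18), Mv.b (nat_lit 17), Mv.f (nat_lit 16), Mv.f (nat_lit 17), Mv.f (nat_lit 18)])))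
(Tr.lf (Fc.ed (nat_lit 20) (nat_lit 7) Col.a (nat_lit 8) Dv.df))))
(Tr.nd (nat_lit 23) (Tr.nd (nat_lit 22) (Tr.lf (Fc.ed (nat_lit 21) (nat_lit 8) Col.b (nat_lit 9) Dv.df))
(Tr.lf (Fc.ed (nat_lit 22) (nat_lit 9) Col.a (nat_lit 10) Dv.df)))
(Tr.nd (nat_lit 24) (Tr.lf (Fc.ed (nat_lit 23) (nat_lit 10) Col.b (nat_lit 11) Dv.df))
(Tr.lf (Fc.ed (nat_lit 24) (nat_lit 11) Col.a (nat_lit 11) (Dv.wd (nat_lit 13) [Mv.b (nat_lit 23), Mv.b (nat_lit 22), Mv.b (nat_lit 21), Mv.b (nat_lit 20), Mv.f (nat_lit 19), Mv.f (nat_lit 20), Mv.f (nat_lit 21), Mv.f (nat_lit 22), Mv.f (nat_lit 23)]))))))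
(Tr.nd (nat_lit 29) (Tr.nd (nat_lit 27) (Tr.nd (nat_lit 26) (Tr.lf (Fc.ed (nat_lit 25) (nat_lit 11) Col.c (nat_lit 12) Dv.df))
(Tr.lf (Fc.ed (nat_lit 26) (nat_lit 12) Col.a (nat_lit 12) (Dv.wd (nat_lit 9) [Mv.b (nat_lit 25), Mv.f (nat_lit 24), Mv.f (nat_lit 25)]))))
(Tr.nd (nat_lit 28) (Tr.lf (Fc.ed (nat_lit 27) (nat_lit 12) Col.d (nat_lit 13) Dv.df))
(Tr.lf (Fc.ed (nat_lit 28) (nat_lit 13) Col.a (nat_lit 13) (Dv.wd (nat_lit 7) [Mv.b (nat_lit 27), Mv.f (nat_lit 26), Mv.f (nat_lit 27)])))))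
(Tr.nd (nat_lit 31) (Tr.nd (nat_lit 30) (Tr.lf (Fc.ed (nat_lit 29) (nat_lit 4) Col.d (nat_lit 14) Dv.df))
(Tr.lf (Fc.ed (nat_lit 30) (nat_lit 6) Col.a (nat_lit 15) Dv.df)))
(Tr.nd (nat_lit 32) (Tr.lf (Fc.ed (nat_lit 31) (nat_lit 15) Col.c (nat_lit 8) (Dv.wd (nat_lit 11) [Mv.b (nat_lit 20), Mv.b (nat_lit 18), Mv.f (nat_lit 30)])))
(Tr.nd (nat_lit 33) (Tr.lf (Fc.ed (nat_lit 32) (nat_lit 15) Col.b (nat_lit 15) (Dv.wd (nat_lit 14) [Mv.b (nat_lit 30), Mv.b (nat_lit 17), Mv.b (nat_lit 15), Mv.b (nat_lit 13), Mv.f (nat_lit 12), Mv.f (nat_lit 13), Mv.f (nat_lit 15), Mv.f (nat_lit 17), Mv.f (nat_lit 30)])))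
(Tr.lf (Fc.ed (nat_lit 33) (nat_lit 9) Col.c (nat_lit 9) (Dv.wd (nat_lit 15) [Mv.b (nat_lit 21), Mv.b (nat_lit 31), Mv.f (nat_lit 32), Mv.f (nat_lit 31), Mv.f (nat_lit 21)])))))))))
(Tr.nd (nat_lit 51) (Tr.nd (nat_lit 42) (Tr.nd (nat_lit 38) (Tr.nd (nat_lit 36) (Tr.nd (nat_lit 35) (Tr.lf (Fc.ed (nat_lit 34) (nat_lit 10) Col.c (nat_lit 10) (Dv.wd (nat_lit 11) [Mv.b (nat_lit 22), Mv.f (nat_lit 33), Mv.f (nat_lit 22)])))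
(Tr.lf (Fc.ed (nat_lit 35) (nat_lit 12) Col.b (nat_lit 12) (Dv.wd (nat_lit 16) [Mv.b (nat_lit 25), Mv.b (nat_lit 23), Mv.f (nat_lit 34), Mv.f (nat_lit 23), Mv.f (nat_lit 25)]))))
(Tr.nd (nat_lit 37) (Tr.lf (Fc.ed (nat_lit 36) (nat_lit 13) Col.b (nat_lit 13) (Dv.wd (nat_lit 17) [Mv.b (nat_lit 27), Mv.f (nat_lit 35), Mv.f (nat_lit 27)])))
(Tr.lf (Fc.ed (nat_lit 37) (nat_lit 6) Col.d (nat_lit 16) Dv.df))))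
(Tr.nd (nat_lit 40) (Tr.nd (nat_lit 39) (Tr.lf (Fc.ed (nat_lit 38) (nat_lit 3) Col.d (nat_lit 17) Dv.df))
(Tr.lf (Fc.ed (nat_lit 39) (nat_lit 17) Col.b (nat_lit 14) (Dv.wd (nat_lit 8) [Mv.b (nat_lit 29), Mv.b (nat_lit 13), Mv.f (nat_lit 38)]))))
(Tr.nd (nat_lit 41) (Tr.lf (Fc.ed (nat_lit 40) (nat_lit 17) Col.c (nat_lit 17) (Dv.wd (nat_lit 18) [Mv.b (nat_lit 38), Mv.b (nat_lit 11), Mv.b (nat_lit 8), Mv.f (nat_lit 7), Mv.f (nat_lit 8), Mv.f (nat_lit 9), Mv.f (nat_lit 11), Mv.f (nat_lit 38)])))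
(Tr.lf (Fc.ed (nat_lit 41) (nat_lit 8) Col.d (nat_lit 18) Dv.df)))))
(Tr.nd (nat_lit 46) (Tr.nd (nat_lit 44) (Tr.nd (nat_lit 43) (Tr.lf (Fc.ed (nat_lit 42) (nat_lit 5) Col.d (nat_lit 19) Dv.df))
(Tr.lf (Fc.ed (nat_lit 43) (nat_lit 19) Col.a (nat_lit 14) (Dv.wd (nat_lit 7) [Mv.b (nat_lit 29), Mv.f (nat_lit 15), Mv.f (nat_lit 42)]))))
(Tr.nd (nat_lit 45) (Tr.lf (Fc.ed (nat_lit 44) (nat_lit 19) Col.b (nat_lit 16) (Dv.wd (nat_lit 8) [Mv.b (nat_lit 37), Mv.b (nat_lit 17), Mv.f (nat_lit 42)])))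
(Tr.lf (Fc.ed (nat_lit 45) (nat_lit 10) Col.d (nat_lit 20) Dv.df))))
(Tr.nd (nat_lit 48) (Tr.nd (nat_lit 47) (Tr.lf (Fc.ed (nat_lit 46) (nat_lit 7) Col.d (nat_lit 21) Dv.df))
(Tr.lf (Fc.ed (nat_lit 47) (nat_lit 21) Col.a (nat_lit 18) (Dv.wd (nat_lit 7) [Mv.b (nat_lit 41), Mv.b (nat_lit 20), Mv.f (nat_lit 46)]))))
(Tr.nd (nat_lit 49) (Tr.lf (Fc.ed (nat_lit 48) (nat_lit 21) Col.b (nat_lit 21) (Dv.wd (nat_lit 8) [Mv.b (nat_lit 46), Mv.f (nat_lit 19), Mv.f (nat_lit 46)])))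
(Tr.nd (nat_lit 50) (Tr.lf (Fc.ed (nat_lit 49) (nat_lit 11) Col.d (nat_lit 22) Dv.df))
(Tr.lf (Fc.ed (nat_lit 50) (nat_lit 22) Col.a (nat_lit 22) (Dv.wd (nat_lit 7) [Mv.b (nat_lit 49), Mv.f (nat_lit 24), Mv.f (nat_lit 49)]))))))))
(Tr.nd (nat_lit 59) (Tr.nd (nat_lit 55) (Tr.nd (nat_lit 53) (Tr.nd (nat_lit 52) (Tr.lf (Fc.ed (nat_lit 51) (nat_lit 22) Col.b (nat_lit 20) (Dv.wd (nat_lit 8) [Mv.b (nat_lit 45), Mv.f (nat_lit 23), Mv.f (nat_lit 49)])))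
(Tr.lf (Fc.ed (nat_lit 52) (nat_lit 9) Col.d (nat_lit 23) Dv.df)))
(Tr.nd (nat_lit 54) (Tr.lf (Fc.ed (nat_lit 53) (nat_lit 23) Col.a (nat_lit 20) (Dv.wd (nat_lit 7) [Mv.b (nat_lit 45), Mv.b (nat_lit 22), Mv.f (nat_lit 52)])))
(Tr.lf (Fc.ed (nat_lit 54) (nat_lit 23) Col.b (nat_lit 18) (Dv.wd (nat_lit 8) [Mv.b (nat_lit 41), Mv.f (nat_lit 21), Mv.f (nat_lit 52)])))))
(Tr.nd (nat_lit 57) (Tr.nd (nat_lit 56) (Tr.lf (Fc.ed (nat_lit 55) (nat_lit 13) Col.c (nat_lit 24) Dv.df))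
(Tr.lf (Fc.ed (nat_lit 56) (nat_lit 24) Col.a (nat_lit 24) (Dv.wd (nat_lit 9) [Mv.b (nat_lit 55), Mv.f (nat_lit 28), Mv.f (nat_lit 55)]))))
(Tr.nd (nat_lit 58) (Tr.lf (Fc.ed (nat_lit 57) (nat_lit 14) Col.c (nat_lit 25) Dv.df))
(Tr.lf (Fc.ed (nat_lit 58) (nat_lit 25) Col.b (nat_lit 25) (Dv.wd (nat_lit 12) [Mv.b (nat_lit 57), Mv.b (nat_lit 39), Mv.f (nat_lit 40), Mv.f (nat_lit 39), Mv.f (nat_lit 57)]))))))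
(Tr.nd (nat_lit 63) (Tr.nd (nat_lit 61) (Tr.nd (nat_lit 60) (Tr.lf (Fc.ed (nat_lit 59) (nat_lit 16) Col.c (nat_lit 26) Dv.df))
(Tr.lf (Fc.ed (nat_lit 60) (nat_lit 18) Col.c (nat_lit 27) Dv.df)))
(Tr.nd (nat_lit 62) (Tr.lf (Fc.ed (nat_lit 61) (nat_lit 20) Col.c (nat_lit 28) Dv.df))
(Tr.lf (Fc.ed (nat_lit 62) (nat_lit 19) Col.c (nat_lit 29) Dv.df))))
(Tr.nd (nat_lit 65) (Tr.nd (nat_lit 64) (Tr.lf (Fc.ed (nat_lit 63) (nat_lit 29) Col.a (nat_lit 25) (Dv.wd (nat_lit 9) [Mv.b (nat_lit 57), Mv.b (nat_lit 43), Mv.f (nat_lit 62)])))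
(Tr.lf (Fc.ed (nat_lit 64) (nat_lit 21) Col.c (nat_lit 30) Dv.df)))
(Tr.nd (nat_lit 66) (Tr.lf (Fc.ed (nat_lit 65) (nat_lit 30) Col.a (nat_lit 27) (Dv.wd (nat_lit 9) [Mv.b (nat_lit 60), Mv.b (nat_lit 47), Mv.f (nat_lit 64)])))
(Tr.nd (nat_lit 67) (Tr.lf (Fc.ed (nat_lit 66) (nat_lit 22) Col.c (nat_lit 31) Dv.df))
(Tr.lf (Fc.ed (nat_lit 67) (nat_lit 24) Col.d (nat_lit 32) Dv.df)))))))))
(Tr.nd (nat_lit 102) (Tr.nd (nat_lit 85) (Tr.nd (nat_lit 76) (Tr.nd (nat_lit 72) (Tr.nd (nat_lit 70) (Tr.nd (nat_lit 69) (Tr.lf (Fc.ed (nat_lit 68) (nat_lit 32) Col.a (nat_lit 32) (Dv.wd (nat_lit 7) [Mv.b (nat_lit 67), Mv.f (nat_lit 56), Mv.f (nat_lit 67)])))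
(Tr.lf (Fc.ed (nat_lit 69) (nat_lit 24) Col.b (nat_lit 33) Dv.df)))
(Tr.nd (nat_lit 71) (Tr.lf (Fc.ed (nat_lit 70) (nat_lit 33) Col.c (nat_lit 33) (Dv.wd (nat_lit 10) [Mv.b (nat_lit 69), Mv.b (nat_lit 55), Mv.f (nat_lit 36), Mv.f (nat_lit 55), Mv.f (nat_lit 69)])))
(Tr.lf (Fc.ed (nat_lit 71) (nat_lit 23) Col.c (nat_lit 34) Dv.df))))
(Tr.nd (nat_lit 74) (Tr.nd (nat_lit 73) (Tr.lf (Fc.ed (nat_lit 72) (nat_lit 34) Col.a (nat_lit 28) (Dv.wd (nat_lit 9) [Mv.b (nat_lit 61), Mv.b (nat_lit 53), Mv.f (nat_lit 71)])))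
(Tr.lf (Fc.ed (nat_lit 73) (nat_lit 25) Col.d (nat_lit 35) Dv.df)))
(Tr.nd (nat_lit 75) (Tr.lf (Fc.ed (nat_lit 74) (nat_lit 35) Col.b (nat_lit 35) (Dv.wd (nat_lit 8) [Mv.b (nat_lit 73), Mv.f (nat_lit 58), Mv.f (nat_lit 73)])))
(Tr.lf (Fc.ed (nat_lit 75) (nat_lit 26) Col.d (nat_lit 36) Dv.df)))))
(Tr.nd (nat_lit 80) (Tr.nd (nat_lit 78) (Tr.nd (nat_lit 77) (Tr.lf (Fc.ed (nat_lit 76) (nat_lit 26) Col.a (nat_lit 37) Dv.df))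
(Tr.lf (Fc.ed (nat_lit 77) (nat_lit 26) Col.b (nat_lit 38) Dv.df)))
(Tr.nd (nat_lit 79) (Tr.lf (Fc.ed (nat_lit 78) (nat_lit 27) Col.b (nat_lit 39) Dv.df))
(Tr.lf (Fc.ed (nat_lit 79) (nat_lit 27) Col.d (nat_lit 40) Dv.df))))
(Tr.nd (nat_lit 82) (Tr.nd (nat_lit 81) (Tr.lf (Fc.ed (nat_lit 80) (nat_lit 40) Col.c (nat_lit 36) (Dv.wd (nat_lit 18) [Mv.b (nat_lit 75), Mv.b (nat_lit 59), Mv.b (nat_lit 37), Mv.f (nat_lit 18), Mv.f (nat_lit 46), Mv.f (nat_lit 47), Mv.f (nat_lit 60), Mv.f (nat_lit 79)])))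
(Tr.lf (Fc.ed (nat_lit 81) (nat_lit 28) Col.b (nat_lit 41) Dv.df)))
(Tr.nd (nat_lit 83) (Tr.lf (Fc.ed (nat_lit 82) (nat_lit 28) Col.d (nat_lit 42) Dv.df))
(Tr.nd (nat_lit 84) (Tr.lf (Fc.ed (nat_lit 83) (nat_lit 29) Col.d (nat_lit 43) Dv.df))
(Tr.lf (Fc.ed (nat_lit 84) (nat_lit 43) Col.c (nat_lit 35) (Dv.wd (nat_lit 18) [Mv.b (nat_lit 73), Mv.b (nat_lit 57), Mv.b (nat_lit 29), Mv.f (nat_lit 14), Mv.f (nat_lit 29), Mv.b (nat_lit 43), Mv.f (nat_lit 62), Mv.f (nat_lit 83)]))))))))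
(Tr.nd (nat_lit 93) (Tr.nd (nat_lit 89) (Tr.nd (nat_lit 87) (Tr.nd (nat_lit 86) (Tr.lf (Fc.ed (nat_lit 85) (nat_lit 29) Col.b (nat_lit 44) Dv.df))
(Tr.lf (Fc.ed (nat_lit 86) (nat_lit 44) Col.c (nat_lit 38) (Dv.wd (nat_lit 10) [Mv.b (nat_lit 77), Mv.b (nat_lit 59), Mv.b (nat_lit 44), Mv.f (nat_lit 62), Mv.f (nat_lit 85)]))))
(Tr.nd (nat_lit 88) (Tr.lf (Fc.ed (nat_lit 87) (nat_lit 30) Col.b (nat_lit 45) Dv.df))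
(Tr.lf (Fc.ed (nat_lit 88) (nat_lit 45) Col.c (nat_lit 45) (Dv.wd (nat_lit 10) [Mv.b (nat_lit 87), Mv.b (nat_lit 64), Mv.f (nat_lit 48), Mv.f (nat_lit 64), Mv.f (nat_lit 87)])))))
(Tr.nd (nat_lit 91) (Tr.nd (nat_lit 90) (Tr.lf (Fc.ed (nat_lit 89) (nat_lit 30) Col.d (nat_lit 46) Dv.df))
(Tr.lf (Fc.ed (nat_lit 90) (nat_lit 46) Col.a (nat_lit 40) (Dv.wd (nat_lit 7) [Mv.b (nat_lit 79), Mv.b (nat_lit 65), Mv.f (nat_lit 89)]))))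
(Tr.nd (nat_lit 92) (Tr.lf (Fc.ed (nat_lit 91) (nat_lit 31) Col.d (nat_lit 47) Dv.df))
(Tr.lf (Fc.ed (nat_lit 92) (nat_lit 47) Col.c (nat_lit 32) (Dv.wd (nat_lit 18) [Mv.b (nat_lit 67), Mv.b (nat_lit 55), Mv.b (nat_lit 27), Mv.b (nat_lit 25), Mv.f (nat_lit 49), Mv.f (nat_lit 50), Mv.f (nat_lit 66), Mv.f (nat_lit 91)]))))))
(Tr.nd (nat_lit 97) (Tr.nd (nat_lit 95) (Tr.nd (nat_lit 94) (Tr.lf (Fc.ed (nat_lit 93) (nat_lit 31) Col.b (nat_lit 48) Dv.df))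
(Tr.lf (Fc.ed (nat_lit 94) (nat_lit 48) Col.c (nat_lit 41) (Dv.wd (nat_lit 10) [Mv.b (nat_lit 81), Mv.b (nat_lit 61), Mv.b (nat_lit 51), Mv.f (nat_lit 66), Mv.f (nat_lit 93)]))))
(Tr.nd (nat_lit 96) (Tr.lf (Fc.ed (nat_lit 95) (nat_lit 32) Col.b (nat_lit 49) Dv.df))
(Tr.lf (Fc.ed (nat_lit 96) (nat_lit 49) Col.d (nat_lit 33) (Dv.wd (nat_lit 19) [Mv.b (nat_lit 69), Mv.f (nat_lit 67), Mv.f (nat_lit 95)])))))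
(Tr.nd (nat_lit 99) (Tr.nd (nat_lit 98) (Tr.lf (Fc.ed (nat_lit 97) (nat_lit 34) Col.d (nat_lit 50) Dv.df))
(Tr.lf (Fc.ed (nat_lit 98) (nat_lit 50) Col.a (nat_lit 42) (Dv.wd (nat_lit 7) [Mv.b (nat_lit 82), Mv.b (nat_lit 72), Mv.f (nat_lit 97)]))))
(Tr.nd (nat_lit 100) (Tr.lf (Fc.ed (nat_lit 99) (nat_lit 50) Col.c (nat_lit 42) (Dv.wd (nat_lit 18) [Mv.b (nat_lit 82), Mv.b (nat_lit 61), Mv.b (nat_lit 45), Mv.f (nat_lit 34), Mv.f (nat_lit 45), Mv.b (nat_lit 53), Mv.f (nat_lit 71), Mv.f (nat_lit 97)])))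
(Tr.nd (nat_lit 101) (Tr.lf (Fc.ed (nat_lit 100) (nat_lit 34) Col.b (nat_lit 51) Dv.df))
(Tr.lf (Fc.ed (nat_lit 101) (nat_lit 51) Col.c (nat_lit 39) (Dv.wd (nat_lit 10) [Mv.b (nat_lit 78), Mv.b (nat_lit 60), Mv.b (nat_lit 54), Mv.f (nat_lit 71), Mv.f (nat_lit 100)])))))))))
(Tr.nd (nat_lit 119) (Tr.nd (nat_lit 110) (Tr.nd (nat_lit 106) (Tr.nd (nat_lit 104) (Tr.nd (nat_lit 103) (Tr.lf (Fc.ed (nat_lit 102) (nat_lit 36) Col.b (nat_lit 52) Dv.df))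
(Tr.lf (Fc.ed (nat_lit 103) (nat_lit 52) Col.d (nat_lit 38) (Dv.wd (nat_lit 19) [Mv.b (nat_lit 77), Mv.f (nat_lit 75), Mv.f (nat_lit 102)]))))
(Tr.nd (nat_lit 105) (Tr.lf (Fc.ed (nat_lit 104) (nat_lit 36) Col.a (nat_lit 53) Dv.df))
(Tr.lf (Fc.ed (nat_lit 105) (nat_lit 53) Col.c (nat_lit 46) (Dv.wd (nat_lit 11) [Mv.f (nat_lit 90), Mv.f (nat_lit 80), Mv.f (nat_lit 104)])))))
(Tr.nd (nat_lit 108) (Tr.nd (nat_lit 107) (Tr.lf (Fc.ed (nat_lit 106) (nat_lit 53) Col.d (nat_lit 37) (Dv.wd (nat_lit 20) [Mv.b (nat_lit 76), Mv.f (nat_lit 75), Mv.f (nat_lit 104)])))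
(Tr.lf (Fc.ed (nat_lit 107) (nat_lit 37) Col.b (nat_lit 54) Dv.df)))
(Tr.nd (nat_lit 109) (Tr.lf (Fc.ed (nat_lit 108) (nat_lit 38) Col.a (nat_lit 55) Dv.df))
(Tr.lf (Fc.ed (nat_lit 109) (nat_lit 40) Col.b (nat_lit 56) Dv.df)))))
(Tr.nd (nat_lit 114) (Tr.nd (nat_lit 112) (Tr.nd (nat_lit 111) (Tr.lf (Fc.ed (nat_lit 110) (nat_lit 56) Col.d (nat_lit 39) (Dv.wd (nat_lit 19) [Mv.b (nat_lit 78), Mv.f (nat_lit 79), Mv.f (nat_lit 109)])))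
(Tr.lf (Fc.ed (nat_lit 111) (nat_lit 39) Col.a (nat_lit 57) Dv.df)))
(Tr.nd (nat_lit 113) (Tr.lf (Fc.ed (nat_lit 112) (nat_lit 41) Col.a (nat_lit 58) Dv.df))
(Tr.lf (Fc.ed (nat_lit 113) (nat_lit 41) Col.d (nat_lit 59) Dv.df))))
(Tr.nd (nat_lit 116) (Tr.nd (nat_lit 115) (Tr.lf (Fc.ed (nat_lit 114) (nat_lit 59) Col.b (nat_lit 42) (Dv.wd (nat_lit 8) [Mv.b (nat_lit 82), Mv.f (nat_lit 81), Mv.f (nat_lit 113)])))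
(Tr.lf (Fc.ed (nat_lit 115) (nat_lit 45) Col.d (nat_lit 60) Dv.df)))
(Tr.nd (nat_lit 117) (Tr.lf (Fc.ed (nat_lit 116) (nat_lit 60) Col.b (nat_lit 46) (Dv.wd (nat_lit 8) [Mv.b (nat_lit 89), Mv.f (nat_lit 87), Mv.f (nat_lit 115)])))
(Tr.nd (nat_lit 118) (Tr.lf (Fc.ed (nat_lit 117) (nat_lit 43) Col.b (nat_lit 61) Dv.df))
(Tr.lf (Fc.ed (nat_lit 118) (nat_lit 61) Col.d (nat_lit 44) (Dv.wd (nat_lit 19) [Mv.b (nat_lit 85), Mv.f (nat_lit 83), Mv.f (nat_lit 117)]))))))))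
(Tr.nd (nat_lit 128) (Tr.nd (nat_lit 123) (Tr.nd (nat_lit 121) (Tr.nd (nat_lit 120) (Tr.lf (Fc.ed (nat_lit 119) (nat_lit 61) Col.c (nat_lit 61) (Dv.wd (nat_lit 10) [Mv.b (nat_lit 117), Mv.f (nat_lit 84), Mv.f (nat_lit 74), Mv.b (nat_lit 84), Mv.f (nat_lit 117)])))
(Tr.lf (Fc.ed (nat_lit 120) (nat_lit 44) Col.a (nat_lit 62) Dv.df)))
(Tr.nd (nat_lit 122) (Tr.lf (Fc.ed (nat_lit 121) (nat_lit 62) Col.c (nat_lit 55) (Dv.wd (nat_lit 11) [Mv.b (nat_lit 108), Mv.b (nat_lit 86), Mv.f (nat_lit 120)])))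
(Tr.lf (Fc.ed (nat_lit 122) (nat_lit 45) Col.a (nat_lit 63) Dv.df))))
(Tr.nd (nat_lit 125) (Tr.nd (nat_lit 124) (Tr.lf (Fc.ed (nat_lit 123) (nat_lit 48) Col.d (nat_lit 64) Dv.df))
(Tr.lf (Fc.ed (nat_lit 124) (nat_lit 64) Col.b (nat_lit 47) (Dv.wd (nat_lit 8) [Mv.b (nat_lit 91), Mv.f (nat_lit 93), Mv.f (nat_lit 123)]))))
(Tr.nd (nat_lit 126) (Tr.lf (Fc.ed (nat_lit 125) (nat_lit 48) Col.a (nat_lit 65) Dv.df))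
(Tr.nd (nat_lit 127) (Tr.lf (Fc.ed (nat_lit 126) (nat_lit 65) Col.c (nat_lit 58) (Dv.wd (nat_lit 11) [Mv.b (nat_lit 112), Mv.b (nat_lit 94), Mv.f (nat_lit 125)])))
(Tr.lf (Fc.ed (nat_lit 127) (nat_lit 49) Col.a (nat_lit 66) Dv.df))))))
(Tr.nd (nat_lit 132) (Tr.nd (nat_lit 130) (Tr.nd (nat_lit 129) (Tr.lf (Fc.ed (nat_lit 128) (nat_lit 49) Col.c (nat_lit 67) Dv.df))
(Tr.lf (Fc.ed (nat_lit 129) (nat_lit 50) Col.b (nat_lit 68) Dv.df)))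
(Tr.nd (nat_lit 131) (Tr.lf (Fc.ed (nat_lit 130) (nat_lit 68) Col.d (nat_lit 51) (Dv.wd (nat_lit 19) [Mv.b (nat_lit 100), Mv.f (nat_lit 97), Mv.f (nat_lit 129)])))
(Tr.lf (Fc.ed (nat_lit 131) (nat_lit 51) Col.a (nat_lit 69) Dv.df))))
(Tr.nd (nat_lit 134) (Tr.nd (nat_lit 133) (Tr.lf (Fc.ed (nat_lit 132) (nat_lit 69) Col.c (nat_lit 57) (Dv.wd (nat_lit 11) [Mv.b (nat_lit 111), Mv.b (nat_lit 101), Mv.f (nat_lit 131)])))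
(Tr.lf (Fc.ed (nat_lit 133) (nat_lit 52) Col.c (nat_lit 70) Dv.df)))
(Tr.nd (nat_lit 135) (Tr.lf (Fc.ed (nat_lit 134) (nat_lit 70) Col.d (nat_lit 55) (Dv.wd (nat_lit 21) [Mv.b (nat_lit 108), Mv.b (nat_lit 86), Mv.b (nat_lit 118), Mv.f (nat_lit 119), Mv.f (nat_lit 118), Mv.f (nat_lit 86), Mv.b (nat_lit 103), Mv.f (nat_lit 133)])))
(Tr.nd (nat_lit 136) (Tr.lf (Fc.ed (nat_lit 135) (nat_lit 54) Col.d (nat_lit 71) Dv.df))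
(Tr.lf (Fc.ed (nat_lit 136) (nat_lit 71) Col.b (nat_lit 53) (Dv.wd (nat_lit 8) [Mv.f (nat_lit 106), Mv.f (nat_lit 107), Mv.f (nat_lit 135)])))))))))))
(Tr.nd (nat_lit 206) (Tr.nd (nat_lit 171) (Tr.nd (nat_lit 154) (Tr.nd (nat_lit 145) (Tr.nd (nat_lit 141) (Tr.nd (nat_lit 139) (Tr.nd (nat_lit 138) (Tr.lf (Fc.ed (nat_lit 137) (nat_lit 54) Col.a (nat_lit 72) Dv.df))
(Tr.lf (Fc.ed (nat_lit 138) (nat_lit 55) Col.b (nat_lit 73) Dv.df)))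
(Tr.nd (nat_lit 140) (Tr.lf (Fc.ed (nat_lit 139) (nat_lit 56) Col.a (nat_lit 74) Dv.df))
(Tr.lf (Fc.ed (nat_lit 140) (nat_lit 74) Col.d (nat_lit 57) (Dv.wd (nat_lit 20) [Mv.b (nat_lit 111), Mv.b (nat_lit 110), Mv.f (nat_lit 139)])))))
(Tr.nd (nat_lit 143) (Tr.nd (nat_lit 142) (Tr.lf (Fc.ed (nat_lit 141) (nat_lit 56) Col.c (nat_lit 75) Dv.df))
(Tr.lf (Fc.ed (nat_lit 142) (nat_lit 75) Col.b (nat_lit 70) (Dv.wd (nat_lit 12) [Mv.b (nat_lit 133), Mv.b (nat_lit 102), Mv.b (nat_lit 80), Mv.f (nat_lit 109), Mv.f (nat_lit 141)]))))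
(Tr.nd (nat_lit 144) (Tr.lf (Fc.ed (nat_lit 143) (nat_lit 73) Col.d (nat_lit 75) (Dv.wd (nat_lit 22) [Mv.f (nat_lit 142), Mv.f (nat_lit 134), Mv.f (nat_lit 138)])))
(Tr.lf (Fc.ed (nat_lit 144) (nat_lit 57) Col.b (nat_lit 76) Dv.df)))))
(Tr.nd (nat_lit 149) (Tr.nd (nat_lit 147) (Tr.nd (nat_lit 146) (Tr.lf (Fc.ed (nat_lit 145) (nat_lit 58) Col.b (nat_lit 77) Dv.df))
(Tr.lf (Fc.ed (nat_lit 146) (nat_lit 59) Col.a (nat_lit 78) Dv.df)))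
(Tr.nd (nat_lit 148) (Tr.lf (Fc.ed (nat_lit 147) (nat_lit 78) Col.d (nat_lit 58) (Dv.wd (nat_lit 20) [Mv.b (nat_lit 112), Mv.f (nat_lit 113), Mv.f (nat_lit 146)])))
(Tr.lf (Fc.ed (nat_lit 148) (nat_lit 59) Col.c (nat_lit 79) Dv.df))))
(Tr.nd (nat_lit 151) (Tr.nd (nat_lit 150) (Tr.lf (Fc.ed (nat_lit 149) (nat_lit 61) Col.a (nat_lit 80) Dv.df))
(Tr.lf (Fc.ed (nat_lit 150) (nat_lit 80) Col.c (nat_lit 80) (Dv.wd (nat_lit 11) [Mv.b (nat_lit 149), Mv.f (nat_lit 119), Mv.f (nat_lit 149)]))))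
(Tr.nd (nat_lit 152) (Tr.lf (Fc.ed (nat_lit 151) (nat_lit 80) Col.d (nat_lit 62) (Dv.wd (nat_lit 20) [Mv.b (nat_lit 120), Mv.b (nat_lit 118), Mv.f (nat_lit 149)])))
(Tr.nd (nat_lit 153) (Tr.lf (Fc.ed (nat_lit 152) (nat_lit 62) Col.b (nat_lit 81) Dv.df))
(Tr.lf (Fc.ed (nat_lit 153) (nat_lit 81) Col.a (nat_lit 81) (Dv.wd (nat_lit 13) [Mv.b (nat_lit 152), Mv.b (nat_lit 120), Mv.b (nat_lit 85), Mv.f (nat_lit 63), Mv.f (nat_lit 58), Mv.b (nat_lit 63), Mv.f (nat_lit 85), Mv.f (nat_lit 120), Mv.f (nat_lit 152)]))))))))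
(Tr.nd (nat_lit 162) (Tr.nd (nat_lit 158) (Tr.nd (nat_lit 156) (Tr.nd (nat_lit 155) (Tr.lf (Fc.ed (nat_lit 154) (nat_lit 60) Col.c (nat_lit 82) Dv.df))
(Tr.lf (Fc.ed (nat_lit 155) (nat_lit 60) Col.a (nat_lit 83) Dv.df)))
(Tr.nd (nat_lit 157) (Tr.lf (Fc.ed (nat_lit 156) (nat_lit 83) Col.d (nat_lit 63) (Dv.wd (nat_lit 20) [Mv.b (nat_lit 122), Mv.f (nat_lit 115), Mv.f (nat_lit 155)])))
(Tr.lf (Fc.ed (nat_lit 157) (nat_lit 64) Col.c (nat_lit 84) Dv.df))))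
(Tr.nd (nat_lit 160) (Tr.nd (nat_lit 159) (Tr.lf (Fc.ed (nat_lit 158) (nat_lit 84) Col.b (nat_lit 67) (Dv.wd (nat_lit 12) [Mv.b (nat_lit 128), Mv.b (nat_lit 95), Mv.b (nat_lit 92), Mv.b (nat_lit 124), Mv.f (nat_lit 157)])))
(Tr.lf (Fc.ed (nat_lit 159) (nat_lit 65) Col.b (nat_lit 85) Dv.df)))
(Tr.nd (nat_lit 161) (Tr.lf (Fc.ed (nat_lit 160) (nat_lit 66) Col.c (nat_lit 86) Dv.df))
(Tr.lf (Fc.ed (nat_lit 161) (nat_lit 66) Col.b (nat_lit 87) Dv.df)))))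
(Tr.nd (nat_lit 166) (Tr.nd (nat_lit 164) (Tr.nd (nat_lit 163) (Tr.lf (Fc.ed (nat_lit 162) (nat_lit 67) Col.d (nat_lit 88) Dv.df))
(Tr.lf (Fc.ed (nat_lit 163) (nat_lit 68) Col.a (nat_lit 89) Dv.df)))
(Tr.nd (nat_lit 165) (Tr.lf (Fc.ed (nat_lit 164) (nat_lit 89) Col.d (nat_lit 69) (Dv.wd (nat_lit 20) [Mv.b (nat_lit 131), Mv.b (nat_lit 130), Mv.f (nat_lit 163)])))
(Tr.lf (Fc.ed (nat_lit 165) (nat_lit 68) Col.c (nat_lit 90) Dv.df))))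
(Tr.nd (nat_lit 168) (Tr.nd (nat_lit 167) (Tr.lf (Fc.ed (nat_lit 166) (nat_lit 90) Col.b (nat_lit 79) (Dv.wd (nat_lit 12) [Mv.b (nat_lit 148), Mv.f (nat_lit 114), Mv.b (nat_lit 99), Mv.f (nat_lit 129), Mv.f (nat_lit 165)])))
(Tr.lf (Fc.ed (nat_lit 167) (nat_lit 69) Col.b (nat_lit 91) Dv.df)))
(Tr.nd (nat_lit 169) (Tr.lf (Fc.ed (nat_lit 168) (nat_lit 71) Col.c (nat_lit 92) Dv.df))
(Tr.nd (nat_lit 170) (Tr.lf (Fc.ed (nat_lit 169) (nat_lit 92) Col.b (nat_lit 82) (Dv.wd (nat_lit 12) [Mv.b (nat_lit 154), Mv.f (nat_lit 116), Mv.b (nat_lit 105), Mv.b (nat_lit 136), Mv.f (nat_lit 168)])))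
(Tr.lf (Fc.ed (nat_lit 170) (nat_lit 72) Col.b (nat_lit 93) Dv.df))))))))
(Tr.nd (nat_lit 188) (Tr.nd (nat_lit 179) (Tr.nd (nat_lit 175) (Tr.nd (nat_lit 173) (Tr.nd (nat_lit 172) (Tr.lf (Fc.ed (nat_lit 171) (nat_lit 73) Col.c (nat_lit 94) Dv.df))
(Tr.lf (Fc.ed (nat_lit 172) (nat_lit 73) Col.a (nat_lit 95) Dv.df)))
(Tr.nd (nat_lit 174) (Tr.lf (Fc.ed (nat_lit 173) (nat_lit 74) Col.c (nat_lit 96) Dv.df))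
(Tr.lf (Fc.ed (nat_lit 174) (nat_lit 96) Col.a (nat_lit 75) (Dv.wd (nat_lit 9) [Mv.b (nat_lit 141), Mv.f (nat_lit 139), Mv.f (nat_lit 173)])))))
(Tr.nd (nat_lit 177) (Tr.nd (nat_lit 176) (Tr.lf (Fc.ed (nat_lit 175) (nat_lit 95) Col.d (nat_lit 96) (Dv.wd (nat_lit 23) [Mv.f (nat_lit 174), Mv.b (nat_lit 143), Mv.f (nat_lit 172)])))
(Tr.lf (Fc.ed (nat_lit 176) (nat_lit 77) Col.c (nat_lit 97) Dv.df)))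
(Tr.nd (nat_lit 178) (Tr.lf (Fc.ed (nat_lit 177) (nat_lit 77) Col.a (nat_lit 98) Dv.df))
(Tr.lf (Fc.ed (nat_lit 178) (nat_lit 78) Col.c (nat_lit 99) Dv.df)))))
(Tr.nd (nat_lit 183) (Tr.nd (nat_lit 181) (Tr.nd (nat_lit 180) (Tr.lf (Fc.ed (nat_lit 179) (nat_lit 99) Col.a (nat_lit 79) (Dv.wd (nat_lit 9) [Mv.b (nat_lit 148), Mv.f (nat_lit 146), Mv.f (nat_lit 178)])))
(Tr.lf (Fc.ed (nat_lit 180) (nat_lit 79) Col.d (nat_lit 100) Dv.df)))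
(Tr.nd (nat_lit 182) (Tr.lf (Fc.ed (nat_lit 181) (nat_lit 80) Col.b (nat_lit 101) Dv.df))
(Tr.lf (Fc.ed (nat_lit 182) (nat_lit 101) Col.d (nat_lit 81) (Dv.wd (nat_lit 19) [Mv.b (nat_lit 152), Mv.b (nat_lit 151), Mv.f (nat_lit 181)])))))
(Tr.nd (nat_lit 185) (Tr.nd (nat_lit 184) (Tr.lf (Fc.ed (nat_lit 183) (nat_lit 81) Col.c (nat_lit 102) Dv.df))
(Tr.lf (Fc.ed (nat_lit 184) (nat_lit 102) Col.a (nat_lit 102) (Dv.wd (nat_lit 9) [Mv.b (nat_lit 183), Mv.f (nat_lit 153), Mv.f (nat_lit 183)]))))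
(Tr.nd (nat_lit 186) (Tr.lf (Fc.ed (nat_lit 185) (nat_lit 102) Col.b (nat_lit 94) (Dv.wd (nat_lit 12) [Mv.b (nat_lit 171), Mv.b (nat_lit 138), Mv.b (nat_lit 121), Mv.f (nat_lit 152), Mv.f (nat_lit 183)])))
(Tr.nd (nat_lit 187) (Tr.lf (Fc.ed (nat_lit 186) (nat_lit 82) Col.d (nat_lit 103) Dv.df))
(Tr.lf (Fc.ed (nat_lit 187) (nat_lit 82) Col.a (nat_lit 104) Dv.df)))))))
(Tr.nd (nat_lit 197) (Tr.nd (nat_lit 192) (Tr.nd (nat_lit 190) (Tr.nd (nat_lit 189) (Tr.lf (Fc.ed (nat_lit 188) (nat_lit 104) Col.c (nat_lit 83) (Dv.wd (nat_lit 11) [Mv.b (nat_lit 155), Mv.f (nat_lit 154), Mv.f (nat_lit 187)])))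
(Tr.lf (Fc.ed (nat_lit 189) (nat_lit 84) Col.d (nat_lit 105) Dv.df)))
(Tr.nd (nat_lit 191) (Tr.lf (Fc.ed (nat_lit 190) (nat_lit 105) Col.b (nat_lit 88) (Dv.wd (nat_lit 8) [Mv.b (nat_lit 162), Mv.b (nat_lit 158), Mv.f (nat_lit 189)])))
(Tr.lf (Fc.ed (nat_lit 191) (nat_lit 85) Col.c (nat_lit 106) Dv.df))))
(Tr.nd (nat_lit 194) (Tr.nd (nat_lit 193) (Tr.lf (Fc.ed (nat_lit 192) (nat_lit 106) Col.b (nat_lit 97) (Dv.wd (nat_lit 12) [Mv.b (nat_lit 176), Mv.b (nat_lit 145), Mv.b (nat_lit 126), Mv.f (nat_lit 159), Mv.f (nat_lit 191)])))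
(Tr.lf (Fc.ed (nat_lit 193) (nat_lit 86) Col.d (nat_lit 107) Dv.df)))
(Tr.nd (nat_lit 195) (Tr.lf (Fc.ed (nat_lit 194) (nat_lit 107) Col.c (nat_lit 88) (Dv.wd (nat_lit 18) [Mv.b (nat_lit 162), Mv.b (nat_lit 128), Mv.f (nat_lit 96), Mv.f (nat_lit 70), Mv.b (nat_lit 96), Mv.f (nat_lit 127), Mv.f (nat_lit 160), Mv.f (nat_lit 193)])))
(Tr.nd (nat_lit 196) (Tr.lf (Fc.ed (nat_lit 195) (nat_lit 87) Col.a (nat_lit 108) Dv.df))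
(Tr.lf (Fc.ed (nat_lit 196) (nat_lit 108) Col.b (nat_lit 108) (Dv.wd (nat_lit 14) [Mv.b (nat_lit 195), Mv.b (nat_lit 161), Mv.b (nat_lit 127), Mv.b (nat_lit 95), Mv.f (nat_lit 68), Mv.f (nat_lit 95), Mv.f (nat_lit 127), Mv.f (nat_lit 161), Mv.f (nat_lit 195)])))))))
(Tr.nd (nat_lit 201) (Tr.nd (nat_lit 199) (Tr.nd (nat_lit 198) (Tr.lf (Fc.ed (nat_lit 197) (nat_lit 89) Col.c (nat_lit 109) Dv.df))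
(Tr.lf (Fc.ed (nat_lit 198) (nat_lit 109) Col.a (nat_lit 90) (Dv.wd (nat_lit 9) [Mv.b (nat_lit 165), Mv.f (nat_lit 163), Mv.f (nat_lit 197)]))))
(Tr.nd (nat_lit 200) (Tr.lf (Fc.ed (nat_lit 199) (nat_lit 109) Col.d (nat_lit 94) (Dv.wd (nat_lit 24) [Mv.b (nat_lit 171), Mv.f (nat_lit 143), Mv.b (nat_lit 141), Mv.f (nat_lit 110), Mv.b (nat_lit 101), Mv.b (nat_lit 130), Mv.f (nat_lit 163), Mv.f (nat_lit 197)])))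
(Tr.lf (Fc.ed (nat_lit 200) (nat_lit 90) Col.d (nat_lit 110) Dv.df))))
(Tr.nd (nat_lit 203) (Tr.nd (nat_lit 202) (Tr.lf (Fc.ed (nat_lit 201) (nat_lit 110) Col.a (nat_lit 94) (Dv.wd (nat_lit 7) [Mv.b (nat_lit 199), Mv.f (nat_lit 198), Mv.f (nat_lit 200)])))
(Tr.lf (Fc.ed (nat_lit 202) (nat_lit 110) Col.b (nat_lit 100) (Dv.wd (nat_lit 8) [Mv.b (nat_lit 180), Mv.b (nat_lit 166), Mv.f (nat_lit 200)]))))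
(Tr.nd (nat_lit 204) (Tr.lf (Fc.ed (nat_lit 203) (nat_lit 110) Col.c (nat_lit 95) (Dv.wd (nat_lit 18) [Mv.f (nat_lit 175), Mv.b (nat_lit 173), Mv.f (nat_lit 140), Mv.b (nat_lit 132), Mv.b (nat_lit 164), Mv.b (nat_lit 163), Mv.f (nat_lit 165), Mv.f (nat_lit 200)])))
(Tr.nd (nat_lit 205) (Tr.lf (Fc.ed (nat_lit 204) (nat_lit 91) Col.c (nat_lit 111) Dv.df))
(Tr.lf (Fc.ed (nat_lit 205) (nat_lit 92) Col.d (nat_lit 112) Dv.df)))))))))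
(Tr.nd (nat_lit 240) (Tr.nd (nat_lit 223) (Tr.nd (nat_lit 214) (Tr.nd (nat_lit 210) (Tr.nd (nat_lit 208) (Tr.nd (nat_lit 207) (Tr.lf (Fc.ed (nat_lit 206) (nat_lit 112) Col.b (nat_lit 103) (Dv.wd (nat_lit 8) [Mv.b (nat_lit 186), Mv.b (nat_lit 169), Mv.f (nat_lit 205)])))
(Tr.lf (Fc.ed (nat_lit 207) (nat_lit 93) Col.a (nat_lit 113) Dv.df)))
(Tr.nd (nat_lit 209) (Tr.lf (Fc.ed (nat_lit 208) (nat_lit 113) Col.b (nat_lit 95) (Dv.wd (nat_lit 14) [Mv.b (nat_lit 172), Mv.b (nat_lit 138), Mv.b (nat_lit 108), Mv.b (nat_lit 77), Mv.f (nat_lit 76), Mv.f (nat_lit 107), Mv.f (nat_lit 137), Mv.f (nat_lit 170), Mv.f (nat_lit 207)])))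
(Tr.lf (Fc.ed (nat_lit 209) (nat_lit 97) Col.a (nat_lit 114) Dv.df))))
(Tr.nd (nat_lit 212) (Tr.nd (nat_lit 211) (Tr.lf (Fc.ed (nat_lit 210) (nat_lit 114) Col.c (nat_lit 98) (Dv.wd (nat_lit 11) [Mv.b (nat_lit 177), Mv.f (nat_lit 176), Mv.f (nat_lit 209)])))
(Tr.lf (Fc.ed (nat_lit 211) (nat_lit 99) Col.d (nat_lit 115) Dv.df)))
(Tr.nd (nat_lit 213) (Tr.lf (Fc.ed (nat_lit 212) (nat_lit 115) Col.a (nat_lit 100) (Dv.wd (nat_lit 7) [Mv.b (nat_lit 180), Mv.b (nat_lit 179), Mv.f (nat_lit 211)])))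
(Tr.lf (Fc.ed (nat_lit 213) (nat_lit 115) Col.c (nat_lit 105) (Dv.wd (nat_lit 18) [Mv.b (nat_lit 189), Mv.b (nat_lit 157), Mv.b (nat_lit 123), Mv.f (nat_lit 94), Mv.f (nat_lit 113), Mv.f (nat_lit 146), Mv.f (nat_lit 178), Mv.f (nat_lit 211)]))))))
(Tr.nd (nat_lit 218) (Tr.nd (nat_lit 216) (Tr.nd (nat_lit 215) (Tr.lf (Fc.ed (nat_lit 214) (nat_lit 115) Col.b (nat_lit 115) (Dv.wd (nat_lit 25) [Mv.f (nat_lit 212), Mv.b (nat_lit 202), Mv.f (nat_lit 201), Mv.b (nat_lit 185), Mv.f (nat_lit 184), Mv.f (nat_lit 185), Mv.b (nat_lit 201), Mv.f (nat_lit 202), Mv.b (nat_lit 212)])))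
(Tr.lf (Fc.al (nat_lit 215) (nat_lit 107) (nat_lit 88) (Dv.wd (nat_lit 26) [Mv.b (nat_lit 190), Mv.b (nat_lit 213), Mv.f (nat_lit 214), Mv.f (nat_lit 213), Mv.f (nat_lit 190), Mv.b (nat_lit 194)]))))
(Tr.nd (nat_lit 217) (Tr.lf (Fc.ed (nat_lit 216) (nat_lit 88) Col.c (nat_lit 88) (Dv.wd (nat_lit 27) [Mv.b (nat_lit 194), Mv.f (nat_lit 215)])))
(Tr.lf (Fc.al (nat_lit 217) (nat_lit 67) (nat_lit 86) (Dv.wd (nat_lit 28) [Mv.f (nat_lit 193), Mv.f (nat_lit 215), Mv.b (nat_lit 162)])))))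
(Tr.nd (nat_lit 220) (Tr.nd (nat_lit 219) (Tr.lf (Fc.al (nat_lit 218) (nat_lit 49) (nat_lit 66) (Dv.wd (nat_lit 27) [Mv.f (nat_lit 160), Mv.b (nat_lit 217), Mv.b (nat_lit 128)])))
(Tr.lf (Fc.al (nat_lit 219) (nat_lit 32) (nat_lit 87) (Dv.wd (nat_lit 29) [Mv.b (nat_lit 161), Mv.b (nat_lit 218), Mv.b (nat_lit 95)]))))
(Tr.nd (nat_lit 221) (Tr.lf (Fc.al (nat_lit 220) (nat_lit 32) (nat_lit 108) (Dv.wd (nat_lit 30) [Mv.b (nat_lit 195), Mv.b (nat_lit 219), Mv.f (nat_lit 68)])))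
(Tr.nd (nat_lit 222) (Tr.lf (Fc.al (nat_lit 221) (nat_lit 49) (nat_lit 32) (Dv.wd (nat_lit 29) [Mv.f (nat_lit 220), Mv.f (nat_lit 196), Mv.b (nat_lit 220), Mv.f (nat_lit 95)])))
(Tr.lf (Fc.al (nat_lit 222) (nat_lit 47) (nat_lit 67) (Dv.wd (nat_lit 27) [Mv.b (nat_lit 128), Mv.f (nat_lit 221), Mv.b (nat_lit 92)]))))))))
(Tr.nd (nat_lit 231) (Tr.nd (nat_lit 227) (Tr.nd (nat_lit 225) (Tr.nd (nat_lit 224) (Tr.lf (Fc.al (nat_lit 223) (nat_lit 64) (nat_lit 84) (Dv.wd (nat_lit 29) [Mv.f (nat_lit 158), Mv.b (nat_lit 222), Mv.b (nat_lit 124)])))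
(Tr.lf (Fc.al (nat_lit 224) (nat_lit 31) (nat_lit 88) (Dv.wd (nat_lit 28) [Mv.b (nat_lit 162), Mv.b (nat_lit 222), Mv.b (nat_lit 91)]))))
(Tr.nd (nat_lit 226) (Tr.lf (Fc.al (nat_lit 225) (nat_lit 48) (nat_lit 105) (Dv.wd (nat_lit 28) [Mv.b (nat_lit 189), Mv.b (nat_lit 223), Mv.b (nat_lit 123)])))
(Tr.lf (Fc.al (nat_lit 226) (nat_lit 22) (nat_lit 31) (Dv.wd (nat_lit 27) [Mv.f (nat_lit 224), Mv.f (nat_lit 216), Mv.b (nat_lit 224), Mv.b (nat_lit 66)])))))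
(Tr.nd (nat_lit 229) (Tr.nd (nat_lit 228) (Tr.lf (Fc.al (nat_lit 227) (nat_lit 41) (nat_lit 115) (Dv.wd (nat_lit 27) [Mv.f (nat_lit 213), Mv.b (nat_lit 225), Mv.f (nat_lit 94)])))
(Tr.lf (Fc.al (nat_lit 228) (nat_lit 20) (nat_lit 48) (Dv.wd (nat_lit 29) [Mv.b (nat_lit 93), Mv.b (nat_lit 226), Mv.f (nat_lit 51)]))))
(Tr.nd (nat_lit 230) (Tr.lf (Fc.al (nat_lit 229) (nat_lit 58) (nat_lit 100) (Dv.wd (nat_lit 30) [Mv.b (nat_lit 212), Mv.b (nat_lit 227), Mv.f (nat_lit 112)])))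
(Tr.lf (Fc.al (nat_lit 230) (nat_lit 28) (nat_lit 41) (Dv.wd (nat_lit 29) [Mv.f (nat_lit 227), Mv.f (nat_lit 214), Mv.b (nat_lit 227), Mv.b (nat_lit 81)]))))))
(Tr.nd (nat_lit 235) (Tr.nd (nat_lit 233) (Tr.nd (nat_lit 232) (Tr.lf (Fc.al (nat_lit 231) (nat_lit 42) (nat_lit 99) (Dv.wd (nat_lit 28) [Mv.f (nat_lit 211), Mv.b (nat_lit 227), Mv.b (nat_lit 230), Mv.f (nat_lit 82)])))
(Tr.lf (Fc.al (nat_lit 232) (nat_lit 23) (nat_lit 65) (Dv.wd (nat_lit 30) [Mv.b (nat_lit 125), Mv.b (nat_lit 228), Mv.b (nat_lit 53)]))))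
(Tr.nd (nat_lit 234) (Tr.lf (Fc.al (nat_lit 233) (nat_lit 77) (nat_lit 110) (Dv.wd (nat_lit 29) [Mv.f (nat_lit 202), Mv.b (nat_lit 229), Mv.f (nat_lit 145)])))
(Tr.lf (Fc.al (nat_lit 234) (nat_lit 78) (nat_lit 79) (Dv.wd (nat_lit 28) [Mv.f (nat_lit 180), Mv.b (nat_lit 229), Mv.b (nat_lit 147)])))))
(Tr.nd (nat_lit 237) (Tr.nd (nat_lit 236) (Tr.lf (Fc.al (nat_lit 235) (nat_lit 34) (nat_lit 58) (Dv.wd (nat_lit 30) [Mv.b (nat_lit 112), Mv.b (nat_lit 230), Mv.b (nat_lit 72)])))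
(Tr.lf (Fc.al (nat_lit 236) (nat_lit 50) (nat_lit 78) (Dv.wd (nat_lit 30) [Mv.f (nat_lit 234), Mv.b (nat_lit 179), Mv.b (nat_lit 231), Mv.b (nat_lit 98)]))))
(Tr.nd (nat_lit 238) (Tr.lf (Fc.al (nat_lit 237) (nat_lit 18) (nat_lit 85) (Dv.wd (nat_lit 29) [Mv.b (nat_lit 159), Mv.b (nat_lit 232), Mv.f (nat_lit 54)])))
(Tr.nd (nat_lit 239) (Tr.lf (Fc.al (nat_lit 238) (nat_lit 98) (nat_lit 94) (Dv.wd (nat_lit 30) [Mv.b (nat_lit 201), Mv.b (nat_lit 233), Mv.f (nat_lit 177)])))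
(Tr.lf (Fc.al (nat_lit 239) (nat_lit 97) (nat_lit 95) (Dv.wd (nat_lit 27) [Mv.b (nat_lit 203), Mv.b (nat_lit 233), Mv.f (nat_lit 176)])))))))))
(Tr.nd (nat_lit 257) (Tr.nd (nat_lit 248) (Tr.nd (nat_lit 244) (Tr.nd (nat_lit 242) (Tr.nd (nat_lit 241) (Tr.lf (Fc.al (nat_lit 240) (nat_lit 68) (nat_lit 90) (Dv.wd (nat_lit 29) [Mv.f (nat_lit 166), Mv.b (nat_lit 234), Mv.b (nat_lit 236), Mv.f (nat_lit 129)])))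
(Tr.lf (Fc.al (nat_lit 241) (nat_lit 51) (nat_lit 77) (Dv.wd (nat_lit 29) [Mv.b (nat_lit 145), Mv.b (nat_lit 235), Mv.f (nat_lit 100)]))))
(Tr.nd (nat_lit 243) (Tr.lf (Fc.al (nat_lit 242) (nat_lit 27) (nat_lit 106) (Dv.wd (nat_lit 27) [Mv.b (nat_lit 191), Mv.b (nat_lit 237), Mv.f (nat_lit 60)])))
(Tr.lf (Fc.al (nat_lit 243) (nat_lit 69) (nat_lit 94) (Dv.wd (nat_lit 30) [Mv.b (nat_lit 238), Mv.b (nat_lit 177), Mv.b (nat_lit 241), Mv.f (nat_lit 131)])))))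
(Tr.nd (nat_lit 246) (Tr.nd (nat_lit 245) (Tr.lf (Fc.al (nat_lit 244) (nat_lit 57) (nat_lit 114) (Dv.wd (nat_lit 27) [Mv.f (nat_lit 210), Mv.f (nat_lit 238), Mv.b (nat_lit 243), Mv.f (nat_lit 132)])))
(Tr.lf (Fc.al (nat_lit 245) (nat_lit 73) (nat_lit 57) (Dv.wd (nat_lit 30) [Mv.f (nat_lit 244), Mv.b (nat_lit 209), Mv.f (nat_lit 239), Mv.b (nat_lit 172)]))))
(Tr.nd (nat_lit 247) (Tr.lf (Fc.al (nat_lit 246) (nat_lit 113) (nat_lit 27) (Dv.wd (nat_lit 29) [Mv.f (nat_lit 242), Mv.f (nat_lit 192), Mv.f (nat_lit 239), Mv.b (nat_lit 208)])))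
(Tr.lf (Fc.al (nat_lit 247) (nat_lit 89) (nat_lit 109) (Dv.wd (nat_lit 30) [Mv.f (nat_lit 198), Mv.b (nat_lit 240), Mv.f (nat_lit 163)]))))))
(Tr.nd (nat_lit 252) (Tr.nd (nat_lit 250) (Tr.nd (nat_lit 249) (Tr.lf (Fc.al (nat_lit 248) (nat_lit 91) (nat_lit 102) (Dv.wd (nat_lit 29) [Mv.f (nat_lit 185), Mv.b (nat_lit 243), Mv.f (nat_lit 167)])))
(Tr.lf (Fc.al (nat_lit 249) (nat_lit 76) (nat_lit 55) (Dv.wd (nat_lit 29) [Mv.f (nat_lit 138), Mv.f (nat_lit 245), Mv.f (nat_lit 144)]))))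
(Tr.nd (nat_lit 251) (Tr.lf (Fc.al (nat_lit 250) (nat_lit 30) (nat_lit 93) (Dv.wd (nat_lit 30) [Mv.f (nat_lit 207), Mv.f (nat_lit 246), Mv.b (nat_lit 65)])))
(Tr.lf (Fc.ed (nat_lit 251) (nat_lit 89) Col.c (nat_lit 89) (Dv.wd (nat_lit 27) [Mv.f (nat_lit 197), Mv.b (nat_lit 247)])))))
(Tr.nd (nat_lit 254) (Tr.nd (nat_lit 253) (Tr.lf (Fc.al (nat_lit 252) (nat_lit 111) (nat_lit 81) (Dv.wd (nat_lit 27) [Mv.f (nat_lit 183), Mv.b (nat_lit 248), Mv.f (nat_lit 204)])))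
(Tr.lf (Fc.ed (nat_lit 253) (nat_lit 55) Col.b (nat_lit 57) (Dv.wd (nat_lit 29) [Mv.f (nat_lit 144), Mv.f (nat_lit 249)]))))
(Tr.nd (nat_lit 255) (Tr.lf (Fc.al (nat_lit 254) (nat_lit 45) (nat_lit 72) (Dv.wd (nat_lit 29) [Mv.f (nat_lit 170), Mv.b (nat_lit 250), Mv.f (nat_lit 87)])))
(Tr.nd (nat_lit 256) (Tr.lf (Fc.ed (nat_lit 255) (nat_lit 81) Col.c (nat_lit 91) (Dv.wd (nat_lit 27) [Mv.f (nat_lit 204), Mv.f (nat_lit 252)])))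
(Tr.lf (Fc.al (nat_lit 256) (nat_lit 63) (nat_lit 54) (Dv.wd (nat_lit 30) [Mv.f (nat_lit 137), Mv.b (nat_lit 254), Mv.f (nat_lit 122)]))))))))
(Tr.nd (nat_lit 266) (Tr.nd (nat_lit 261) (Tr.nd (nat_lit 259) (Tr.nd (nat_lit 258) (Tr.lf (Fc.al (nat_lit 257) (nat_lit 71) (nat_lit 83) (Dv.wd (nat_lit 28) [Mv.f (nat_lit 156), Mv.f (nat_lit 256), Mv.f (nat_lit 135)])))
(Tr.lf (Fc.al (nat_lit 258) (nat_lit 92) (nat_lit 104) (Dv.wd (nat_lit 27) [Mv.f (nat_lit 188), Mv.b (nat_lit 257), Mv.f (nat_lit 168)]))))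
(Tr.nd (nat_lit 260) (Tr.lf (Fc.ed (nat_lit 259) (nat_lit 92) Col.a (nat_lit 82) (Dv.wd (nat_lit 30) [Mv.f (nat_lit 187), Mv.b (nat_lit 258)])))
(Tr.lf (Fc.ed (nat_lit 260) (nat_lit 103) Col.c (nat_lit 112) (Dv.wd (nat_lit 31) [Mv.b (nat_lit 205), Mv.f (nat_lit 259), Mv.b (nat_lit 154), Mv.b (nat_lit 115), Mv.f (nat_lit 88), Mv.f (nat_lit 115), Mv.f (nat_lit 154), Mv.f (nat_lit 186)])))))
(Tr.nd (nat_lit 263) (Tr.nd (nat_lit 262) (Tr.lf (Fc.ed (nat_lit 261) (nat_lit 101) Col.c (nat_lit 116) Dv.df))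
(Tr.lf (Fc.ed (nat_lit 262) (nat_lit 116) Col.b (nat_lit 116) (Dv.wd (nat_lit 12) [Mv.b (nat_lit 261), Mv.b (nat_lit 181), Mv.f (nat_lit 150), Mv.f (nat_lit 181), Mv.f (nat_lit 261)]))))
(Tr.nd (nat_lit 264) (Tr.lf (Fc.ed (nat_lit 263) (nat_lit 103) Col.e (nat_lit 117) Dv.df))
(Tr.nd (nat_lit 265) (Tr.lf (Fc.ed (nat_lit 264) (nat_lit 117) Col.d (nat_lit 116) (Dv.wd (nat_lit 32) [Mv.b (nat_lit 261), Mv.f (nat_lit 182), Mv.f (nat_lit 255), Mv.b (nat_lit 167), Mv.b (nat_lit 164), Mv.f (nat_lit 251), Mv.f (nat_lit 164), Mv.f (nat_lit 132), Mv.b (nat_lit 253), Mv.b (nat_lit 134), Mv.b (nat_lit 133), Mv.f (nat_lit 103), Mv.b (nat_lit 86), Mv.b (nat_lit 85), Mv.f (nat_lit 83), Mv.f (nat_lit 84), Mv.b (nat_lit 73), Mv.b (nat_lit 57), Mv.b (nat_lit 39), Mv.b (nat_lit 38), Mv.b (nat_lit 11),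 Mv.b (nat_lit 8), Mv.f (nat_lit 7), Mv.f (nat_lit 6), Mv.b (nat_lit 4), Mv.f (nat_lit 3), Mv.f (nat_lit 2), Mv.f (nat_lit 3), Mv.f (nat_lit 2), Mv.f (nat_lit 1), Mv.f (nat_lit 3), Mv.f (nat_lit 2), Mv.f (nat_lit 3), Mv.f (nat_lit 2), Mv.f (nat_lit 1), Mv.f (nat_lit 3), Mv.f (nat_lit 2), Mv.f (nat_lit 3), Mv.f (nat_lit 2), Mv.f (nat_lit 1), Mv.f (nat_lit 3), Mv.f (nat_lit 2), Mv.f (nat_lit 3), Mv.f (nat_lit 2), Mv.f (nat_lit 1), Mv.f (nat_lit 3), Mv.f (nat_lit 2), Mv.f (nat_lit 3), Mv.f (nat_lit 2), Mv.f (nat_lit 1), Mv.f (nat_lit 4), Mv.f (nat_lit 8), Mv.f (nat_lit 11), Mv.f (nat_lit 38), Mv.f (nat_lit 40), Mv.f (nat_lit 39), Mv.b (nat_lit 29), Mv.f (nat_lit 14), Mv.f (nat_lit 29), Mv.f (nat_lit 57), Mv.f (nat_lit 58), Mv.f (nat_lit 73), Mv.b (nat_lit 84), Mv.b (nat_lit 83), Mv.b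 (nat_lit 62), Mv.f (nat_lit 44), Mv.b (nat_lit 37), Mv.f (nat_lit 18), Mv.f (nat_lit 46), Mv.f (nat_lit 64), Mv.f (nat_lit 87), Mv.f (nat_lit 115), Mv.f (nat_lit 154), Mv.f (nat_lit 186), Mv.f (nat_lit 260), Mv.f (nat_lit 206), Mv.f (nat_lit 263)])))
(Tr.lf (Fc.ed (nat_lit 265) (nat_lit 117) Col.b (nat_lit 117) (Dv.wd (nat_lit 17) [Mv.f (nat_lit 264), Mv.f (nat_lit 262), Mv.b (nat_lit 264)])))))))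
(Tr.nd (nat_lit 270) (Tr.nd (nat_lit 268) (Tr.nd (nat_lit 267) (Tr.lf (Fc.al (nat_lit 266) (nat_lit 112) (nat_lit 103) (Dv.wd (nat_lit 33) [Mv.f (nat_lit 263), Mv.f (nat_lit 265), Mv.b (nat_lit 263), Mv.b (nat_lit 206)])))
(Tr.lf (Fc.al (nat_lit 267) (nat_lit 82) (nat_lit 92) (Dv.wd (nat_lit 28) [Mv.f (nat_lit 205), Mv.f (nat_lit 266), Mv.b (nat_lit 186)]))))
(Tr.nd (nat_lit 269) (Tr.lf (Fc.al (nat_lit 268) (nat_lit 60) (nat_lit 71) (Dv.wd (nat_lit 27) [Mv.f (nat_lit 168), Mv.b (nat_lit 267), Mv.b (nat_lit 154)])))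
(Tr.lf (Fc.al (nat_lit 269) (nat_lit 46) (nat_lit 53) (Dv.wd (nat_lit 29) [Mv.b (nat_lit 136), Mv.b (nat_lit 268), Mv.f (nat_lit 116)])))))
(Tr.nd (nat_lit 272) (Tr.nd (nat_lit 271) (Tr.lf (Fc.al (nat_lit 270) (nat_lit 40) (nat_lit 36) (Dv.wd (nat_lit 30) [Mv.f (nat_lit 104), Mv.b (nat_lit 269), Mv.f (nat_lit 90)])))
(Tr.lf (Fc.al (nat_lit 271) (nat_lit 26) (nat_lit 27) (Dv.wd (nat_lit 28) [Mv.f (nat_lit 79), Mv.f (nat_lit 270), Mv.b (nat_lit 75)]))))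
(Tr.nd (nat_lit 273) (Tr.lf (Fc.al (nat_lit 272) (nat_lit 16) (nat_lit 18) (Dv.wd (nat_lit 27) [Mv.f (nat_lit 60), Mv.b (nat_lit 271), Mv.b (nat_lit 59)])))
(Tr.nd (nat_lit 274) (Tr.lf (Fc.al (nat_lit 273) (nat_lit 6) (nat_lit 8) (Dv.wd (nat_lit 28) [Mv.f (nat_lit 41), Mv.b (nat_lit 272), Mv.b (nat_lit 37)])))
(Tr.lf (Fc.ed (nat_lit 274) (nat_lit 6) Col.a (nat_lit 7) (Dv.wd (nat_lit 30) [Mv.f (nat_lit 20), Mv.b (nat_lit 273)]))))))))))))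
noncomputable def mini0A : Tr (Alt Col) := (Tr.nd (nat_lit 17) (Tr.nd (nat_lit 8) (Tr.nd (nat_lit 4) (Tr.nd (nat_lit 2) (Tr.nd (nat_lit 1) (Tr.lf (Alt.base (nat_lit 0) [] [Col.a]))
(Tr.lf (Alt.base (nat_lit 1) [] [Col.b])))
(Tr.nd (nat_lit 3) (Tr.lf (Alt.base (nat_lit 2) [] [Col.c]))
(Tr.lf (Alt.base (nat_lit 3) [] [Col.d]))))
(Tr.nd (nat_lit 6) (Tr.nd (nat_lit 5) (Tr.lf (Alt.word (nat_lit 4) (nat_lit 1) true [Col.a, Col.e, Col.a, Col.e]))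
(Tr.lf (Alt.word (nat_lit 10) (nat_lit 1) true [Col.b, Col.e, Col.b, Col.e])))
(Tr.nd (nat_lit 7) (Tr.lf (Alt.word (nat_lit 15) (nat_lit 1) true [Col.c, Col.e, Col.c, Col.e]))
(Tr.lf (Alt.word (nat_lit 3) (nat_lit 1) true [Col.a, Col.d, Col.a, Col.d])))))
(Tr.nd (nat_lit 12) (Tr.nd (nat_lit 10) (Tr.nd (nat_lit 9) (Tr.lf (Alt.word (nat_lit 9) (nat_lit 1) true [Col.b, Col.d, Col.b, Col.d]))
(Tr.lf (Alt.word (nat_lit 2) (nat_lit 1) true [Col.a, Col.c, Col.a, Col.c])))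
(Tr.nd (nat_lit 11) (Tr.lf (Alt.word (nat_lit 8) (nat_lit 2) true [Col.c, Col.b, Col.c, Col.b, Col.c, Col.b]))
(Tr.lf (Alt.word (nat_lit 2) (nat_lit 2) true [Col.c, Col.a, Col.c, Col.a]))))
(Tr.nd (nat_lit 14) (Tr.nd (nat_lit 13) (Tr.lf (Alt.word (nat_lit 8) (nat_lit 1) true [Col.b, Col.c, Col.b, Col.c, Col.b, Col.c]))
(Tr.lf (Alt.word (nat_lit 1) (nat_lit 1) true [Col.a, Col.b, Col.a, Col.b, Col.a, Col.b, Col.a, Col.b, Col.a, Col.b])))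
(Tr.nd (nat_lit 15) (Tr.lf (Alt.word (nat_lit 1) (nat_lit 2) true [Col.b, Col.a, Col.b, Col.a, Col.b, Col.a, Col.b, Col.a, Col.b, Col.a]))
(Tr.nd (nat_lit 16) (Tr.lf (Alt.word (nat_lit 8) (nat_lit 4) true [Col.c, Col.b, Col.c, Col.b, Col.c, Col.b]))
(Tr.lf (Alt.word (nat_lit 8) (nat_lit 3) true [Col.b, Col.c, Col.b, Col.c, Col.b, Col.c])))))))
(Tr.nd (nat_lit 25) (Tr.nd (nat_lit 21) (Tr.nd (nat_lit 19) (Tr.nd (nat_lit 18) (Tr.lf (Alt.word (nat_lit 9) (nat_lit 3) true [Col.b, Col.d, Col.b, Col.d]))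
(Tr.lf (Alt.word (nat_lit 28) (nat_lit 2) true [Col.c, Col.d, Col.c, Col.d, Col.c, Col.d, Col.a, Col.c, Col.d])))
(Tr.nd (nat_lit 20) (Tr.lf (Alt.word (nat_lit 9) (nat_lit 2) true [Col.d, Col.b, Col.d, Col.b]))
(Tr.lf (Alt.word (nat_lit 3) (nat_lit 2) true [Col.d, Col.a, Col.d, Col.a]))))
(Tr.nd (nat_lit 23) (Tr.nd (nat_lit 22) (Tr.lf (Alt.word (nat_lit 28) (nat_lit 7) true [Col.d, Col.a, Col.c, Col.d, Col.c, Col.d, Col.c, Col.d, Col.c]))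
(Tr.lf (Alt.word (nat_lit 9) (nat_lit 0) true [Col.d, Col.b, Col.d, Col.b])))
(Tr.nd (nat_lit 24) (Tr.lf (Alt.word (nat_lit 3) (nat_lit 0) true [Col.d, Col.a, Col.d, Col.a]))
(Tr.lf (Alt.word (nat_lit 28) (nat_lit 1) true [Col.d, Col.c, Col.d, Col.c, Col.d, Col.c, Col.d, Col.a, Col.c])))))
(Tr.nd (nat_lit 29) (Tr.nd (nat_lit 27) (Tr.nd (nat_lit 26) (Tr.lf (Alt.word (nat_lit 1) (nat_lit 0) true [Col.b, Col.a, Col.b, Col.a, Col.b, Col.a, Col.b, Col.a, Col.b, Col.a]))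
(Tr.lf (Alt.word (nat_lit 8) (nat_lit 5) true [Col.b, Col.c, Col.b, Col.c, Col.b, Col.c])))
(Tr.nd (nat_lit 28) (Tr.lf (Alt.word (nat_lit 13) (nat_lit 0) true [Col.c, Col.c]))
(Tr.lf (Alt.word (nat_lit 18) (nat_lit 0) true [Col.d, Col.d]))))
(Tr.nd (nat_lit 31) (Tr.nd (nat_lit 30) (Tr.lf (Alt.word (nat_lit 7) (nat_lit 0) true [Col.b, Col.b]))
(Tr.lf (Alt.word (nat_lit 0) (nat_lit 0) true [Col.a, Col.a])))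
(Tr.nd (nat_lit 32) (Tr.lf (Alt.word (nat_lit 28) (nat_lit 6) true [Col.c, Col.d, Col.a, Col.c, Col.d, Col.c, Col.d, Col.c, Col.d]))
(Tr.nd (nat_lit 33) (Tr.lf (Alt.word (nat_lit 32) (nat_lit 1) true [Col.d, Col.c, Col.d, Col.c, Col.b, Col.d, Col.c, Col.d, Col.c, Col.b, Col.d, Col.c, Col.d, Col.c, Col.b, Col.d, Col.c, Col.d, Col.c, Col.b, Col.d, Col.c, Col.d, Col.c, Col.b, Col.e, Col.d, Col.c, Col.d, Col.c, Col.b, Col.d, Col.c, Col.d, Col.c, Col.b, Col.d, Col.c, Col.d, Col.c, Col.b, Col.d, Col.c, Col.d, Col.c, Col.b, Col.d, Col.c, Col.d, Col.c, Col.b, Col.e, Col.d, Col.c, Col.d, Col.c, Col.b, Col.d, Col.c, Col.d, Col.c, Col.b, Col.d, Col.c, Col.d, Col.c, Col.b, Col.d, Col.c, Col.d, Col.c, Col.b, Col.d, Col.c, Col.d, Col.c, Col.b, Col.e]))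
(Tr.lf (Alt.word (nat_lit 10) (nat_lit 0) true [Col.e, Col.b, Col.e, Col.b]))))))))
noncomputable def mini0P : Tr ℕ := (Tr.nd (nat_lit 59) (Tr.nd (nat_lit 29) (Tr.nd (nat_lit 14) (Tr.nd (nat_lit 7) (Tr.nd (nat_lit 3) (Tr.nd (nat_lit 1) (Tr.lf (nat_lit 0))
(Tr.nd (nat_lit 2) (Tr.lf (nat_lit 0))
(Tr.lf (nat_lit 1))))
(Tr.nd (nat_lit 5) (Tr.nd (nat_lit 4) (Tr.lf (nat_lit 2))
(Tr.lf (nat_lit 3)))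
(Tr.nd (nat_lit 6) (Tr.lf (nat_lit 4))
(Tr.lf (nat_lit 5)))))
(Tr.nd (nat_lit 10) (Tr.nd (nat_lit 8) (Tr.lf (nat_lit 6))
(Tr.nd (nat_lit 9) (Tr.lf (nat_lit 7))
(Tr.lf (nat_lit 8))))
(Tr.nd (nat_lit 12) (Tr.nd (nat_lit 11) (Tr.lf (nat_lit 9))
(Tr.lf (nat_lit 10)))
(Tr.nd (nat_lit 13) (Tr.lf (nat_lit 11))
(Tr.lf (nat_lit 12))))))
(Tr.nd (nat_lit 21) (Tr.nd (nat_lit 17) (Tr.nd (nat_lit 15) (Tr.lf (nat_lit 4))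
(Tr.nd (nat_lit 16) (Tr.lf (nat_lit 6))
(Tr.lf (nat_lit 6))))
(Tr.nd (nat_lit 19) (Tr.nd (nat_lit 18) (Tr.lf (nat_lit 3))
(Tr.lf (nat_lit 8)))
(Tr.nd (nat_lit 20) (Tr.lf (nat_lit 5))
(Tr.lf (nat_lit 10)))))
(Tr.nd (nat_lit 25) (Tr.nd (nat_lit 23) (Tr.nd (nat_lit 22) (Tr.lf (nat_lit 7))
(Tr.lf (nat_lit 11)))
(Tr.nd (nat_lit 24) (Tr.lf (nat_lit 9))
(Tr.lf (nat_lit 13))))
(Tr.nd (nat_lit 27) (Tr.nd (nat_lit 26) (Tr.lf (nat_lit 14))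
(Tr.lf (nat_lit 16)))
(Tr.nd (nat_lit 28) (Tr.lf (nat_lit 18))
(Tr.lf (nat_lit 20)))))))
(Tr.nd (nat_lit 44) (Tr.nd (nat_lit 36) (Tr.nd (nat_lit 32) (Tr.nd (nat_lit 30) (Tr.lf (nat_lit 19))
(Tr.nd (nat_lit 31) (Tr.lf (nat_lit 21))
(Tr.lf (nat_lit 22))))
(Tr.nd (nat_lit 34) (Tr.nd (nat_lit 33) (Tr.lf (nat_lit 24))
(Tr.lf (nat_lit 24)))
(Tr.nd (nat_lit 35) (Tr.lf (nat_lit 23))
(Tr.lf (nat_lit 25)))))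
(Tr.nd (nat_lit 40) (Tr.nd (nat_lit 38) (Tr.nd (nat_lit 37) (Tr.lf (nat_lit 26))
(Tr.lf (nat_lit 26)))
(Tr.nd (nat_lit 39) (Tr.lf (nat_lit 26))
(Tr.lf (nat_lit 27))))
(Tr.nd (nat_lit 42) (Tr.nd (nat_lit 41) (Tr.lf (nat_lit 27))
(Tr.lf (nat_lit 28)))
(Tr.nd (nat_lit 43) (Tr.lf (nat_lit 28))
(Tr.lf (nat_lit 29))))))
(Tr.nd (nat_lit 51) (Tr.nd (nat_lit 47) (Tr.nd (nat_lit 45) (Tr.lf (nat_lit 29))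
(Tr.nd (nat_lit 46) (Tr.lf (nat_lit 30))
(Tr.lf (nat_lit 30))))
(Tr.nd (nat_lit 49) (Tr.nd (nat_lit 48) (Tr.lf (nat_lit 31))
(Tr.lf (nat_lit 31)))
(Tr.nd (nat_lit 50) (Tr.lf (nat_lit 32))
(Tr.lf (nat_lit 34)))))
(Tr.nd (nat_lit 55) (Tr.nd (nat_lit 53) (Tr.nd (nat_lit 52) (Tr.lf (nat_lit 34))
(Tr.lf (nat_lit 36)))
(Tr.nd (nat_lit 54) (Tr.lf (nat_lit 36))
(Tr.lf (nat_lit 37))))
(Tr.nd (nat_lit 57) (Tr.nd (nat_lit 56) (Tr.lf (nat_lit 38))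
(Tr.lf (nat_lit 40)))
(Tr.nd (nat_lit 58) (Tr.lf (nat_lit 39))
(Tr.lf (nat_lit 41))))))))
(Tr.nd (nat_lit 88) (Tr.nd (nat_lit 73) (Tr.nd (nat_lit 66) (Tr.nd (nat_lit 62) (Tr.nd (nat_lit 60) (Tr.lf (nat_lit 41))
(Tr.nd (nat_lit 61) (Tr.lf (nat_lit 45))
(Tr.lf (nat_lit 43))))
(Tr.nd (nat_lit 64) (Tr.nd (nat_lit 63) (Tr.lf (nat_lit 44))
(Tr.lf (nat_lit 45)))
(Tr.nd (nat_lit 65) (Tr.lf (nat_lit 48))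
(Tr.lf (nat_lit 48)))))
(Tr.nd (nat_lit 69) (Tr.nd (nat_lit 67) (Tr.lf (nat_lit 49))
(Tr.nd (nat_lit 68) (Tr.lf (nat_lit 49))
(Tr.lf (nat_lit 50))))
(Tr.nd (nat_lit 71) (Tr.nd (nat_lit 70) (Tr.lf (nat_lit 51))
(Tr.lf (nat_lit 52)))
(Tr.nd (nat_lit 72) (Tr.lf (nat_lit 54))
(Tr.lf (nat_lit 54))))))
(Tr.nd (nat_lit 80) (Tr.nd (nat_lit 76) (Tr.nd (nat_lit 74) (Tr.lf (nat_lit 55))
(Tr.nd (nat_lit 75) (Tr.lf (nat_lit 56))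
(Tr.lf (nat_lit 56))))
(Tr.nd (nat_lit 78) (Tr.nd (nat_lit 77) (Tr.lf (nat_lit 57))
(Tr.lf (nat_lit 58)))
(Tr.nd (nat_lit 79) (Tr.lf (nat_lit 59))
(Tr.lf (nat_lit 59)))))
(Tr.nd (nat_lit 84) (Tr.nd (nat_lit 82) (Tr.nd (nat_lit 81) (Tr.lf (nat_lit 61))
(Tr.lf (nat_lit 62)))
(Tr.nd (nat_lit 83) (Tr.lf (nat_lit 60))
(Tr.lf (nat_lit 60))))
(Tr.nd (nat_lit 86) (Tr.nd (nat_lit 85) (Tr.lf (nat_lit 64))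
(Tr.lf (nat_lit 65)))
(Tr.nd (nat_lit 87) (Tr.lf (nat_lit 66))
(Tr.lf (nat_lit 66)))))))
(Tr.nd (nat_lit 103) (Tr.nd (nat_lit 95) (Tr.nd (nat_lit 91) (Tr.nd (nat_lit 89) (Tr.lf (nat_lit 67))
(Tr.nd (nat_lit 90) (Tr.lf (nat_lit 68))
(Tr.lf (nat_lit 68))))
(Tr.nd (nat_lit 93) (Tr.nd (nat_lit 92) (Tr.lf (nat_lit 69))
(Tr.lf (nat_lit 71)))
(Tr.nd (nat_lit 94) (Tr.lf (nat_lit 72))
(Tr.lf (nat_lit 73)))))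
(Tr.nd (nat_lit 99) (Tr.nd (nat_lit 97) (Tr.nd (nat_lit 96) (Tr.lf (nat_lit 73))
(Tr.lf (nat_lit 74)))
(Tr.nd (nat_lit 98) (Tr.lf (nat_lit 77))
(Tr.lf (nat_lit 77))))
(Tr.nd (nat_lit 101) (Tr.nd (nat_lit 100) (Tr.lf (nat_lit 78))
(Tr.lf (nat_lit 79)))
(Tr.nd (nat_lit 102) (Tr.lf (nat_lit 80))
(Tr.lf (nat_lit 81))))))
(Tr.nd (nat_lit 110) (Tr.nd (nat_lit 106) (Tr.nd (nat_lit 104) (Tr.lf (nat_lit 82))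
(Tr.nd (nat_lit 105) (Tr.lf (nat_lit 82))
(Tr.lf (nat_lit 84))))
(Tr.nd (nat_lit 108) (Tr.nd (nat_lit 107) (Tr.lf (nat_lit 85))
(Tr.lf (nat_lit 86)))
(Tr.nd (nat_lit 109) (Tr.lf (nat_lit 87))
(Tr.lf (nat_lit 89)))))
(Tr.nd (nat_lit 114) (Tr.nd (nat_lit 112) (Tr.nd (nat_lit 111) (Tr.lf (nat_lit 90))
(Tr.lf (nat_lit 91)))
(Tr.nd (nat_lit 113) (Tr.lf (nat_lit 92))
(Tr.lf (nat_lit 93))))
(Tr.nd (nat_lit 116) (Tr.nd (nat_lit 115) (Tr.lf (nat_lit 97))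
(Tr.lf (nat_lit 99)))
(Tr.nd (nat_lit 117) (Tr.lf (nat_lit 101))
(Tr.lf (nat_lit 103)))))))))
noncomputable def mini0Q : Tr ℕ := (Tr.nd (nat_lit 59) (Tr.nd (nat_lit 29) (Tr.nd (nat_lit 14) (Tr.nd (nat_lit 7) (Tr.nd (nat_lit 3) (Tr.nd (nat_lit 1) (Tr.lf (nat_lit 0))
(Tr.nd (nat_lit 2) (Tr.lf (nat_lit 4))
(Tr.lf (nat_lit 3))))
(Tr.nd (nat_lit 5) (Tr.nd (nat_lit 4) (Tr.lf (nat_lit 2))
(Tr.lf (nat_lit 1)))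
(Tr.nd (nat_lit 6) (Tr.lf (nat_lit 0))
(Tr.lf (nat_lit 1)))))
(Tr.nd (nat_lit 10) (Tr.nd (nat_lit 8) (Tr.lf (nat_lit 2))
(Tr.nd (nat_lit 9) (Tr.lf (nat_lit 0))
(Tr.lf (nat_lit 1))))
(Tr.nd (nat_lit 12) (Tr.nd (nat_lit 11) (Tr.lf (nat_lit 0))
(Tr.lf (nat_lit 1)))
(Tr.nd (nat_lit 13) (Tr.lf (nat_lit 2))
(Tr.lf (nat_lit 3))))))
(Tr.nd (nat_lit 21) (Tr.nd (nat_lit 17) (Tr.nd (nat_lit 15) (Tr.lf (nat_lit 3))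
(Tr.nd (nat_lit 16) (Tr.lf (nat_lit 0))
(Tr.lf (nat_lit 3))))
(Tr.nd (nat_lit 19) (Tr.nd (nat_lit 18) (Tr.lf (nat_lit 3))
(Tr.lf (nat_lit 3)))
(Tr.nd (nat_lit 20) (Tr.lf (nat_lit 3))
(Tr.lf (nat_lit 3)))))
(Tr.nd (nat_lit 25) (Tr.nd (nat_lit 23) (Tr.nd (nat_lit 22) (Tr.lf (nat_lit 3))
(Tr.lf (nat_lit 3)))
(Tr.nd (nat_lit 24) (Tr.lf (nat_lit 3))
(Tr.lf (nat_lit 2))))
(Tr.nd (nat_lit 27) (Tr.nd (nat_lit 26) (Tr.lf (nat_lit 2))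
(Tr.lf (nat_lit 2)))
(Tr.nd (nat_lit 28) (Tr.lf (nat_lit 2))
(Tr.lf (nat_lit 2)))))))
(Tr.nd (nat_lit 44) (Tr.nd (nat_lit 36) (Tr.nd (nat_lit 32) (Tr.nd (nat_lit 30) (Tr.lf (nat_lit 2))
(Tr.nd (nat_lit 31) (Tr.lf (nat_lit 2))
(Tr.lf (nat_lit 2))))
(Tr.nd (nat_lit 34) (Tr.nd (nat_lit 33) (Tr.lf (nat_lit 3))
(Tr.lf (nat_lit 1)))
(Tr.nd (nat_lit 35) (Tr.lf (nat_lit 2))
(Tr.lf (nat_lit 3)))))
(Tr.nd (nat_lit 40) (Tr.nd (nat_lit 38) (Tr.nd (nat_lit 37) (Tr.lf (nat_lit 3))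
(Tr.lf (nat_lit 0)))
(Tr.nd (nat_lit 39) (Tr.lf (nat_lit 1))
(Tr.lf (nat_lit 1))))
(Tr.nd (nat_lit 42) (Tr.nd (nat_lit 41) (Tr.lf (nat_lit 3))
(Tr.lf (nat_lit 1)))
(Tr.nd (nat_lit 43) (Tr.lf (nat_lit 3))
(Tr.lf (nat_lit 3))))))
(Tr.nd (nat_lit 51) (Tr.nd (nat_lit 47) (Tr.nd (nat_lit 45) (Tr.lf (nat_lit 1))
(Tr.nd (nat_lit 46) (Tr.lf (nat_lit 1))
(Tr.lf (nat_lit 3))))
(Tr.nd (nat_lit 49) (Tr.nd (nat_lit 48) (Tr.lf (nat_lit 3))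
(Tr.lf (nat_lit 1)))
(Tr.nd (nat_lit 50) (Tr.lf (nat_lit 1))
(Tr.lf (nat_lit 3)))))
(Tr.nd (nat_lit 55) (Tr.nd (nat_lit 53) (Tr.nd (nat_lit 52) (Tr.lf (nat_lit 1))
(Tr.lf (nat_lit 1)))
(Tr.nd (nat_lit 54) (Tr.lf (nat_lit 0))
(Tr.lf (nat_lit 1))))
(Tr.nd (nat_lit 57) (Tr.nd (nat_lit 56) (Tr.lf (nat_lit 0))
(Tr.lf (nat_lit 1)))
(Tr.nd (nat_lit 58) (Tr.lf (nat_lit 0))
(Tr.lf (nat_lit 0))))))))
(Tr.nd (nat_lit 88) (Tr.nd (nat_lit 73) (Tr.nd (nat_lit 66) (Tr.nd (nat_lit 62) (Tr.nd (nat_lit 60) (Tr.lf (nat_lit 3))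
(Tr.nd (nat_lit 61) (Tr.lf (nat_lit 3))
(Tr.lf (nat_lit 1))))
(Tr.nd (nat_lit 64) (Tr.nd (nat_lit 63) (Tr.lf (nat_lit 0))
(Tr.lf (nat_lit 0)))
(Tr.nd (nat_lit 65) (Tr.lf (nat_lit 3))
(Tr.lf (nat_lit 0)))))
(Tr.nd (nat_lit 69) (Tr.nd (nat_lit 67) (Tr.lf (nat_lit 0))
(Tr.nd (nat_lit 68) (Tr.lf (nat_lit 2))
(Tr.lf (nat_lit 1))))
(Tr.nd (nat_lit 71) (Tr.nd (nat_lit 70) (Tr.lf (nat_lit 0))
(Tr.lf (nat_lit 2)))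
(Tr.nd (nat_lit 72) (Tr.lf (nat_lit 3))
(Tr.lf (nat_lit 0))))))
(Tr.nd (nat_lit 80) (Tr.nd (nat_lit 76) (Tr.nd (nat_lit 74) (Tr.lf (nat_lit 1))
(Tr.nd (nat_lit 75) (Tr.lf (nat_lit 0))
(Tr.lf (nat_lit 2))))
(Tr.nd (nat_lit 78) (Tr.nd (nat_lit 77) (Tr.lf (nat_lit 1))
(Tr.lf (nat_lit 1)))
(Tr.nd (nat_lit 79) (Tr.lf (nat_lit 0))
(Tr.lf (nat_lit 2)))))
(Tr.nd (nat_lit 84) (Tr.nd (nat_lit 82) (Tr.nd (nat_lit 81) (Tr.lf (nat_lit 0))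
(Tr.lf (nat_lit 1)))
(Tr.nd (nat_lit 83) (Tr.lf (nat_lit 2))
(Tr.lf (nat_lit 0))))
(Tr.nd (nat_lit 86) (Tr.nd (nat_lit 85) (Tr.lf (nat_lit 2))
(Tr.lf (nat_lit 1)))
(Tr.nd (nat_lit 87) (Tr.lf (nat_lit 2))
(Tr.lf (nat_lit 1)))))))
(Tr.nd (nat_lit 103) (Tr.nd (nat_lit 95) (Tr.nd (nat_lit 91) (Tr.nd (nat_lit 89) (Tr.lf (nat_lit 3))
(Tr.nd (nat_lit 90) (Tr.lf (nat_lit 0))
(Tr.lf (nat_lit 2))))
(Tr.nd (nat_lit 93) (Tr.nd (nat_lit 92) (Tr.lf (nat_lit 1))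
(Tr.lf (nat_lit 2)))
(Tr.nd (nat_lit 94) (Tr.lf (nat_lit 1))
(Tr.lf (nat_lit 2)))))
(Tr.nd (nat_lit 99) (Tr.nd (nat_lit 97) (Tr.nd (nat_lit 96) (Tr.lf (nat_lit 0))
(Tr.lf (nat_lit 2)))
(Tr.nd (nat_lit 98) (Tr.lf (nat_lit 2))
(Tr.lf (nat_lit 0))))
(Tr.nd (nat_lit 101) (Tr.nd (nat_lit 100) (Tr.lf (nat_lit 2))
(Tr.lf (nat_lit 3)))
(Tr.nd (nat_lit 102) (Tr.lf (nat_lit 1))
(Tr.lf (nat_lit 2))))))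
(Tr.nd (nat_lit 110) (Tr.nd (nat_lit 106) (Tr.nd (nat_lit 104) (Tr.lf (nat_lit 3))
(Tr.nd (nat_lit 105) (Tr.lf (nat_lit 0))
(Tr.lf (nat_lit 3))))
(Tr.nd (nat_lit 108) (Tr.nd (nat_lit 107) (Tr.lf (nat_lit 2))
(Tr.lf (nat_lit 3)))
(Tr.nd (nat_lit 109) (Tr.lf (nat_lit 0))
(Tr.lf (nat_lit 2)))))
(Tr.nd (nat_lit 114) (Tr.nd (nat_lit 112) (Tr.nd (nat_lit 111) (Tr.lf (nat_lit 3))
(Tr.lf (nat_lit 2)))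
(Tr.nd (nat_lit 113) (Tr.lf (nat_lit 3))
(Tr.lf (nat_lit 0))))
(Tr.nd (nat_lit 116) (Tr.nd (nat_lit 115) (Tr.lf (nat_lit 0))
(Tr.lf (nat_lit 3)))
(Tr.nd (nat_lit 117) (Tr.lf (nat_lit 2))
(Tr.lf (nat_lit 4)))))))))
theorem mini0_alt : Tr.all (altChk idx inv RW (SW0)) mini0A = true := by decide +kernel
theorem mini0_chk : Tr.all (chkFc idx inv mini0S mini0A (fun b => Tr.find b mini0P) (fun b => Tr.find b mini0Q)) mini0S = true := by decide +kernel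
theorem mini0_run : runM idx inv mini0S 275 0 [Mv.f (nat_lit 4), Mv.f (nat_lit 8), Mv.f (nat_lit 11), Mv.f (nat_lit 13), Mv.f (nat_lit 15), Mv.f (nat_lit 17), Mv.f (nat_lit 18), Mv.b (nat_lit 274), Mv.b (nat_lit 17), Mv.b (nat_lit 15), Mv.b (nat_lit 13), Mv.b (nat_lit 11), Mv.b (nat_lit 8), Mv.b (nat_lit 4)] [Col.e, Col.d, Col.c, Col.b, Col.a, Col.b, Col.c, Col.a, Col.b, Col.a, Col.b, Col.c, Col.d, Col.e] 0 = true := by decide +kernel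
theorem mini0_fix {G X : Type*} [Group G] [MulAction G X] (g : Col → G) (x0 : X) (hinv : ∀ c, g (inv c) = (g c)⁻¹)
    (hRW : ∀ w ∈ RW, gw g w = 1) (hSW : ∀ w ∈ SW0, gw g w • x0 = x0) : gw g [Col.e, Col.d, Col.c, Col.b, Col.a, Col.b, Col.c, Col.a, Col.b, Col.a, Col.b, Col.c, Col.d, Col.e] • x0 = x0 :=
  mini_sound g x0 dec hdec hinv
    (fun a ha => altChk_sound g x0 dec hdec hinv hRW hSW ((Tr.all_iff _ _).1 mini0_alt a ha)) mini0_chk mini0_run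
noncomputable def mini1S : Tr (Fc Col) := (Tr.nd (nat_lit 75) (Tr.nd (nat_lit 37) (Tr.nd (nat_lit 18) (Tr.nd (nat_lit 9) (Tr.nd (nat_lit 4) (Tr.nd (nat_lit 2) (Tr.nd (nat_lit 1) (Tr.lf (Fc.ed (nat_lit 0) (nat_lit 0) Col.c (nat_lit 0) (Dv.sb (nat_lit 0) [] [])))
(Tr.lf (Fc.ed (nat_lit 1) (nat_lit 0) Col.f (nat_lit 0) (Dv.sb (nat_lit 1) [] []))))
(Tr.nd (nat_lit 3) (Tr.lf (Fc.ed (nat_lit 2) (nat_lit 0) Col.g (nat_lit 0) (Dv.sb (nat_lit 2) [] [])))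
(Tr.lf (Fc.ed (nat_lit 3) (nat_lit 0) Col.e (nat_lit 1) Dv.df))))
(Tr.nd (nat_lit 6) (Tr.nd (nat_lit 5) (Tr.lf (Fc.ed (nat_lit 4) (nat_lit 1) Col.d (nat_lit 2) Dv.df))
(Tr.lf (Fc.ed (nat_lit 5) (nat_lit 2) Col.c (nat_lit 3) Dv.df)))
(Tr.nd (nat_lit 7) (Tr.lf (Fc.ed (nat_lit 6) (nat_lit 3) Col.b (nat_lit 4) Dv.df))
(Tr.nd (nat_lit 8) (Tr.lf (Fc.ed (nat_lit 7) (nat_lit 4) Col.a (nat_lit 5) Dv.df))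
(Tr.lf (Fc.ed (nat_lit 8) (nat_lit 5) Col.b (nat_lit 6) Dv.df))))))
(Tr.nd (nat_lit 13) (Tr.nd (nat_lit 11) (Tr.nd (nat_lit 10) (Tr.lf (Fc.ed (nat_lit 9) (nat_lit 6) Col.c (nat_lit 7) Dv.df))
(Tr.lf (Fc.ed (nat_lit 10) (nat_lit 7) Col.a (nat_lit 6) (Dv.sb (nat_lit 3) [Mv.f (nat_lit 3), Mv.f (nat_lit 4), Mv.f (nat_lit 5), Mv.f (nat_lit 6), Mv.f (nat_lit 7), Mv.f (nat_lit 8), Mv.f (nat_lit 9)] [Mv.b (nat_lit 8), Mv.b (nat_lit 7), Mv.b (nat_lit 6), Mv.b (nat_lit 5), Mv.b (nat_lit 4), Mv.b (nat_lit 3)]))))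
(Tr.nd (nat_lit 12) (Tr.lf (Fc.ed (nat_lit 11) (nat_lit 1) Col.c (nat_lit 1) (Dv.wd (nat_lit 4) [Mv.b (nat_lit 3), Mv.f (nat_lit 0), Mv.f (nat_lit 3)])))
(Tr.lf (Fc.ed (nat_lit 12) (nat_lit 1) Col.f (nat_lit 1) (Dv.wd (nat_lit 5) [Mv.b (nat_lit 3), Mv.f (nat_lit 1), Mv.f (nat_lit 3)])))))
(Tr.nd (nat_lit 15) (Tr.nd (nat_lit 14) (Tr.lf (Fc.ed (nat_lit 13) (nat_lit 1) Col.g (nat_lit 1) (Dv.wd (nat_lit 6) [Mv.b (nat_lit 3), Mv.f (nat_lit 2), Mv.f (nat_lit 3)])))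
(Tr.lf (Fc.ed (nat_lit 14) (nat_lit 2) Col.g (nat_lit 2) (Dv.wd (nat_lit 7) [Mv.b (nat_lit 4), Mv.f (nat_lit 13), Mv.f (nat_lit 4)]))))
(Tr.nd (nat_lit 16) (Tr.lf (Fc.ed (nat_lit 15) (nat_lit 2) Col.f (nat_lit 2) (Dv.wd (nat_lit 8) [Mv.b (nat_lit 4), Mv.f (nat_lit 12), Mv.f (nat_lit 4)])))
(Tr.nd (nat_lit 17) (Tr.lf (Fc.ed (nat_lit 16) (nat_lit 3) Col.f (nat_lit 3) (Dv.wd (nat_lit 9) [Mv.b (nat_lit 5), Mv.f (nat_lit 15), Mv.f (nat_lit 5)])))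
(Tr.lf (Fc.ed (nat_lit 17) (nat_lit 2) Col.a (nat_lit 2) (Dv.wd (nat_lit 10) [Mv.f (nat_lit 15), Mv.f (nat_lit 14), Mv.f (nat_lit 15), Mv.f (nat_lit 14)]))))))))
(Tr.nd (nat_lit 27) (Tr.nd (nat_lit 22) (Tr.nd (nat_lit 20) (Tr.nd (nat_lit 19) (Tr.lf (Fc.ed (nat_lit 18) (nat_lit 3) Col.a (nat_lit 3) (Dv.wd (nat_lit 11) [Mv.b (nat_lit 5), Mv.f (nat_lit 17), Mv.f (nat_lit 5)])))
(Tr.lf (Fc.ed (nat_lit 19) (nat_lit 7) Col.b (nat_lit 7) (Dv.wd (nat_lit 12) [Mv.f (nat_lit 10), Mv.b (nat_lit 8), Mv.b (nat_lit 7), Mv.b (nat_lit 6), Mv.f (nat_lit 18), Mv.f (nat_lit 6), Mv.f (nat_lit 7), Mv.f (nat_lit 8), Mv.b (nat_lit 10)]))))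
(Tr.nd (nat_lit 21) (Tr.lf (Fc.ed (nat_lit 20) (nat_lit 5) Col.c (nat_lit 5) (Dv.wd (nat_lit 13) [Mv.f (nat_lit 8), Mv.f (nat_lit 9), Mv.f (nat_lit 19), Mv.b (nat_lit 9), Mv.b (nat_lit 8)])))
(Tr.lf (Fc.ed (nat_lit 21) (nat_lit 4) Col.c (nat_lit 4) (Dv.wd (nat_lit 14) [Mv.f (nat_lit 7), Mv.f (nat_lit 20), Mv.b (nat_lit 7)])))))
(Tr.nd (nat_lit 24) (Tr.nd (nat_lit 23) (Tr.lf (Fc.ed (nat_lit 22) (nat_lit 4) Col.d (nat_lit 8) Dv.df))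
(Tr.lf (Fc.ed (nat_lit 23) (nat_lit 8) Col.c (nat_lit 9) Dv.df)))
(Tr.nd (nat_lit 25) (Tr.lf (Fc.ed (nat_lit 24) (nat_lit 9) Col.f (nat_lit 10) Dv.df))
(Tr.nd (nat_lit 26) (Tr.lf (Fc.ed (nat_lit 25) (nat_lit 10) Col.b (nat_lit 11) Dv.df))
(Tr.lf (Fc.ed (nat_lit 26) (nat_lit 11) Col.a (nat_lit 12) Dv.df))))))
(Tr.nd (nat_lit 32) (Tr.nd (nat_lit 29) (Tr.nd (nat_lit 28) (Tr.lf (Fc.ed (nat_lit 27) (nat_lit 12) Col.b (nat_lit 13) Dv.df))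
(Tr.lf (Fc.ed (nat_lit 28) (nat_lit 9) Col.d (nat_lit 14) Dv.df)))
(Tr.nd (nat_lit 30) (Tr.lf (Fc.ed (nat_lit 29) (nat_lit 3) Col.d (nat_lit 15) Dv.df))
(Tr.nd (nat_lit 31) (Tr.lf (Fc.ed (nat_lit 30) (nat_lit 15) Col.a (nat_lit 15) (Dv.wd (nat_lit 15) [Mv.b (nat_lit 29), Mv.f (nat_lit 18), Mv.f (nat_lit 29)])))
(Tr.lf (Fc.ed (nat_lit 31) (nat_lit 15) Col.b (nat_lit 8) (Dv.wd (nat_lit 16) [Mv.b (nat_lit 22), Mv.b (nat_lit 6), Mv.f (nat_lit 29)]))))))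
(Tr.nd (nat_lit 34) (Tr.nd (nat_lit 33) (Tr.lf (Fc.ed (nat_lit 32) (nat_lit 15) Col.f (nat_lit 15) (Dv.wd (nat_lit 8) [Mv.b (nat_lit 29), Mv.f (nat_lit 16), Mv.f (nat_lit 29)])))
(Tr.lf (Fc.ed (nat_lit 33) (nat_lit 15) Col.c (nat_lit 15) (Dv.wd (nat_lit 17) [Mv.b (nat_lit 29), Mv.b (nat_lit 5), Mv.b (nat_lit 4), Mv.f (nat_lit 11), Mv.f (nat_lit 4), Mv.f (nat_lit 17), Mv.f (nat_lit 5), Mv.f (nat_lit 29)]))))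
(Tr.nd (nat_lit 35) (Tr.lf (Fc.ed (nat_lit 34) (nat_lit 9) Col.b (nat_lit 9) (Dv.wd (nat_lit 18) [Mv.b (nat_lit 23), Mv.b (nat_lit 31), Mv.f (nat_lit 33), Mv.f (nat_lit 31), Mv.f (nat_lit 23)])))
(Tr.nd (nat_lit 36) (Tr.lf (Fc.ed (nat_lit 35) (nat_lit 14) Col.b (nat_lit 14) (Dv.wd (nat_lit 19) [Mv.b (nat_lit 28), Mv.f (nat_lit 34), Mv.f (nat_lit 28)])))
(Tr.lf (Fc.ed (nat_lit 36) (nat_lit 11) Col.f (nat_lit 11) (Dv.wd (nat_lit 20) [Mv.b (nat_lit 25), Mv.b (nat_lit 24), Mv.f (nat_lit 34), Mv.f (nat_lit 24), Mv.f (nat_lit 25)])))))))))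
(Tr.nd (nat_lit 56) (Tr.nd (nat_lit 46) (Tr.nd (nat_lit 41) (Tr.nd (nat_lit 39) (Tr.nd (nat_lit 38) (Tr.lf (Fc.ed (nat_lit 37) (nat_lit 12) Col.f (nat_lit 12) (Dv.wd (nat_lit 21) [Mv.b (nat_lit 26), Mv.f (nat_lit 36), Mv.f (nat_lit 26)])))
(Tr.lf (Fc.ed (nat_lit 38) (nat_lit 9) Col.a (nat_lit 16) Dv.df)))
(Tr.nd (nat_lit 40) (Tr.lf (Fc.ed (nat_lit 39) (nat_lit 5) Col.d (nat_lit 17) Dv.df))
(Tr.lf (Fc.ed (nat_lit 40) (nat_lit 17) Col.a (nat_lit 8) (Dv.wd (nat_lit 15) [Mv.b (nat_lit 22), Mv.f (nat_lit 7), Mv.f (nat_lit 39)])))))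
(Tr.nd (nat_lit 43) (Tr.nd (nat_lit 42) (Tr.lf (Fc.ed (nat_lit 41) (nat_lit 16) Col.c (nat_lit 17) (Dv.wd (nat_lit 22) [Mv.f (nat_lit 40), Mv.f (nat_lit 23), Mv.f (nat_lit 38)])))
(Tr.lf (Fc.ed (nat_lit 42) (nat_lit 10) Col.a (nat_lit 18) Dv.df)))
(Tr.nd (nat_lit 44) (Tr.lf (Fc.ed (nat_lit 43) (nat_lit 18) Col.f (nat_lit 16) (Dv.wd (nat_lit 21) [Mv.b (nat_lit 38), Mv.f (nat_lit 24), Mv.f (nat_lit 42)])))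
(Tr.nd (nat_lit 45) (Tr.lf (Fc.ed (nat_lit 44) (nat_lit 8) Col.f (nat_lit 19) Dv.df))
(Tr.lf (Fc.ed (nat_lit 45) (nat_lit 19) Col.c (nat_lit 10) (Dv.wd (nat_lit 23) [Mv.b (nat_lit 24), Mv.b (nat_lit 23), Mv.f (nat_lit 44)])))))))
(Tr.nd (nat_lit 51) (Tr.nd (nat_lit 48) (Tr.nd (nat_lit 47) (Tr.lf (Fc.ed (nat_lit 46) (nat_lit 19) Col.b (nat_lit 19) (Dv.wd (nat_lit 24) [Mv.b (nat_lit 44), Mv.b (nat_lit 31), Mv.f (nat_lit 32), Mv.f (nat_lit 31), Mv.f (nat_lit 44)])))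
(Tr.lf (Fc.ed (nat_lit 47) (nat_lit 11) Col.c (nat_lit 11) (Dv.wd (nat_lit 13) [Mv.b (nat_lit 25), Mv.b (nat_lit 45), Mv.f (nat_lit 46), Mv.f (nat_lit 45), Mv.f (nat_lit 25)]))))
(Tr.nd (nat_lit 49) (Tr.lf (Fc.ed (nat_lit 48) (nat_lit 12) Col.c (nat_lit 12) (Dv.wd (nat_lit 14) [Mv.b (nat_lit 26), Mv.f (nat_lit 47), Mv.f (nat_lit 26)])))
(Tr.nd (nat_lit 50) (Tr.lf (Fc.ed (nat_lit 49) (nat_lit 4) Col.f (nat_lit 20) Dv.df))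
(Tr.lf (Fc.ed (nat_lit 50) (nat_lit 20) Col.c (nat_lit 20) (Dv.wd (nat_lit 23) [Mv.b (nat_lit 49), Mv.f (nat_lit 21), Mv.f (nat_lit 49)]))))))
(Tr.nd (nat_lit 53) (Tr.nd (nat_lit 52) (Tr.lf (Fc.ed (nat_lit 51) (nat_lit 20) Col.d (nat_lit 19) (Dv.wd (nat_lit 25) [Mv.b (nat_lit 44), Mv.b (nat_lit 22), Mv.f (nat_lit 49)])))
(Tr.lf (Fc.ed (nat_lit 52) (nat_lit 12) Col.d (nat_lit 21) Dv.df)))
(Tr.nd (nat_lit 54) (Tr.lf (Fc.ed (nat_lit 53) (nat_lit 21) Col.f (nat_lit 21) (Dv.wd (nat_lit 8) [Mv.b (nat_lit 52), Mv.f (nat_lit 37), Mv.f (nat_lit 52)])))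
(Tr.nd (nat_lit 55) (Tr.lf (Fc.ed (nat_lit 54) (nat_lit 13) Col.d (nat_lit 22) Dv.df))
(Tr.lf (Fc.ed (nat_lit 55) (nat_lit 22) Col.b (nat_lit 21) (Dv.wd (nat_lit 16) [Mv.b (nat_lit 52), Mv.f (nat_lit 27), Mv.f (nat_lit 54)]))))))))
(Tr.nd (nat_lit 65) (Tr.nd (nat_lit 60) (Tr.nd (nat_lit 58) (Tr.nd (nat_lit 57) (Tr.lf (Fc.ed (nat_lit 56) (nat_lit 11) Col.d (nat_lit 23) Dv.df))
(Tr.lf (Fc.ed (nat_lit 57) (nat_lit 23) Col.a (nat_lit 21) (Dv.wd (nat_lit 15) [Mv.b (nat_lit 52), Mv.b (nat_lit 26), Mv.f (nat_lit 56)]))))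
(Tr.nd (nat_lit 59) (Tr.lf (Fc.ed (nat_lit 58) (nat_lit 23) Col.f (nat_lit 23) (Dv.wd (nat_lit 8) [Mv.b (nat_lit 56), Mv.f (nat_lit 36), Mv.f (nat_lit 56)])))
(Tr.lf (Fc.ed (nat_lit 59) (nat_lit 10) Col.d (nat_lit 24) Dv.df))))
(Tr.nd (nat_lit 62) (Tr.nd (nat_lit 61) (Tr.lf (Fc.ed (nat_lit 60) (nat_lit 24) Col.b (nat_lit 23) (Dv.wd (nat_lit 16) [Mv.b (nat_lit 56), Mv.b (nat_lit 25), Mv.f (nat_lit 59)])))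
(Tr.lf (Fc.ed (nat_lit 61) (nat_lit 14) Col.c (nat_lit 25) Dv.df)))
(Tr.nd (nat_lit 63) (Tr.lf (Fc.ed (nat_lit 62) (nat_lit 25) Col.d (nat_lit 16) (Dv.wd (nat_lit 26) [Mv.f (nat_lit 41), Mv.b (nat_lit 39), Mv.f (nat_lit 20), Mv.f (nat_lit 39), Mv.f (nat_lit 40), Mv.f (nat_lit 23), Mv.f (nat_lit 28), Mv.f (nat_lit 61)])))
(Tr.nd (nat_lit 64) (Tr.lf (Fc.ed (nat_lit 63) (nat_lit 25) Col.a (nat_lit 14) (Dv.wd (nat_lit 27) [Mv.b (nat_lit 28), Mv.b (nat_lit 23), Mv.b (nat_lit 22), Mv.f (nat_lit 21), Mv.f (nat_lit 22), Mv.f (nat_lit 23), Mv.f (nat_lit 28), Mv.f (nat_lit 61)])))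
(Tr.lf (Fc.ed (nat_lit 64) (nat_lit 17) Col.f (nat_lit 26) Dv.df))))))
(Tr.nd (nat_lit 70) (Tr.nd (nat_lit 67) (Tr.nd (nat_lit 66) (Tr.lf (Fc.ed (nat_lit 65) (nat_lit 26) Col.a (nat_lit 19) (Dv.wd (nat_lit 28) [Mv.b (nat_lit 44), Mv.b (nat_lit 40), Mv.f (nat_lit 64)])))
(Tr.lf (Fc.ed (nat_lit 66) (nat_lit 26) Col.c (nat_lit 18) (Dv.wd (nat_lit 23) [Mv.f (nat_lit 43), Mv.f (nat_lit 41), Mv.f (nat_lit 64)]))))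
(Tr.nd (nat_lit 68) (Tr.lf (Fc.ed (nat_lit 67) (nat_lit 18) Col.d (nat_lit 27) Dv.df))
(Tr.nd (nat_lit 69) (Tr.lf (Fc.ed (nat_lit 68) (nat_lit 27) Col.a (nat_lit 24) (Dv.wd (nat_lit 15) [Mv.b (nat_lit 59), Mv.f (nat_lit 42), Mv.f (nat_lit 67)])))
(Tr.lf (Fc.ed (nat_lit 69) (nat_lit 27) Col.f (nat_lit 25) (Dv.wd (nat_lit 8) [Mv.f (nat_lit 62), Mv.b (nat_lit 43), Mv.f (nat_lit 67)]))))))
(Tr.nd (nat_lit 72) (Tr.nd (nat_lit 71) (Tr.lf (Fc.ed (nat_lit 70) (nat_lit 27) Col.c (nat_lit 24) (Dv.wd (nat_lit 17) [Mv.b (nat_lit 59), Mv.b (nat_lit 45), Mv.b (nat_lit 51), Mv.f (nat_lit 50), Mv.f (nat_lit 51), Mv.b (nat_lit 65), Mv.f (nat_lit 66), Mv.f (nat_lit 67)])))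
(Tr.lf (Fc.ed (nat_lit 71) (nat_lit 21) Col.c (nat_lit 28) Dv.df)))
(Tr.nd (nat_lit 73) (Tr.lf (Fc.ed (nat_lit 72) (nat_lit 18) Col.b (nat_lit 29) Dv.df))
(Tr.nd (nat_lit 74) (Tr.lf (Fc.ed (nat_lit 73) (nat_lit 23) Col.c (nat_lit 30) Dv.df))
(Tr.lf (Fc.ed (nat_lit 74) (nat_lit 30) Col.a (nat_lit 28) (Dv.wd (nat_lit 29) [Mv.b (nat_lit 71), Mv.b (nat_lit 57), Mv.f (nat_lit 73)]))))))))))
(Tr.nd (nat_lit 112) (Tr.nd (nat_lit 93) (Tr.nd (nat_lit 84) (Tr.nd (nat_lit 79) (Tr.nd (nat_lit 77) (Tr.nd (nat_lit 76) (Tr.lf (Fc.ed (nat_lit 75) (nat_lit 30) Col.f (nat_lit 30) (Dv.wd (nat_lit 9) [Mv.b (nat_lit 73), Mv.f (nat_lit 58), Mv.f (nat_lit 73)])))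
(Tr.lf (Fc.ed (nat_lit 76) (nat_lit 22) Col.c (nat_lit 31) Dv.df)))
(Tr.nd (nat_lit 78) (Tr.lf (Fc.ed (nat_lit 77) (nat_lit 27) Col.b (nat_lit 32) Dv.df))
(Tr.lf (Fc.ed (nat_lit 78) (nat_lit 32) Col.d (nat_lit 29) (Dv.wd (nat_lit 30) [Mv.b (nat_lit 72), Mv.f (nat_lit 67), Mv.f (nat_lit 77)])))))
(Tr.nd (nat_lit 81) (Tr.nd (nat_lit 80) (Tr.lf (Fc.ed (nat_lit 79) (nat_lit 28) Col.b (nat_lit 33) Dv.df))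
(Tr.lf (Fc.ed (nat_lit 80) (nat_lit 28) Col.d (nat_lit 34) Dv.df)))
(Tr.nd (nat_lit 82) (Tr.lf (Fc.ed (nat_lit 81) (nat_lit 29) Col.c (nat_lit 35) Dv.df))
(Tr.nd (nat_lit 83) (Tr.lf (Fc.ed (nat_lit 82) (nat_lit 29) Col.f (nat_lit 36) Dv.df))
(Tr.lf (Fc.ed (nat_lit 83) (nat_lit 29) Col.a (nat_lit 37) Dv.df))))))
(Tr.nd (nat_lit 88) (Tr.nd (nat_lit 86) (Tr.nd (nat_lit 85) (Tr.lf (Fc.ed (nat_lit 84) (nat_lit 30) Col.b (nat_lit 38) Dv.df))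
(Tr.lf (Fc.ed (nat_lit 85) (nat_lit 38) Col.c (nat_lit 32) (Dv.wd (nat_lit 31) [Mv.b (nat_lit 77), Mv.f (nat_lit 70), Mv.f (nat_lit 60), Mv.f (nat_lit 73), Mv.f (nat_lit 84)]))))
(Tr.nd (nat_lit 87) (Tr.lf (Fc.ed (nat_lit 86) (nat_lit 30) Col.d (nat_lit 39) Dv.df))
(Tr.lf (Fc.ed (nat_lit 87) (nat_lit 39) Col.c (nat_lit 34) (Dv.wd (nat_lit 17) [Mv.b (nat_lit 80), Mv.b (nat_lit 71), Mv.b (nat_lit 52), Mv.f (nat_lit 48), Mv.f (nat_lit 52), Mv.b (nat_lit 57), Mv.f (nat_lit 73), Mv.f (nat_lit 86)])))))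
(Tr.nd (nat_lit 90) (Tr.nd (nat_lit 89) (Tr.lf (Fc.ed (nat_lit 88) (nat_lit 31) Col.b (nat_lit 40) Dv.df))
(Tr.lf (Fc.ed (nat_lit 89) (nat_lit 40) Col.c (nat_lit 33) (Dv.wd (nat_lit 31) [Mv.b (nat_lit 79), Mv.b (nat_lit 71), Mv.b (nat_lit 55), Mv.f (nat_lit 76), Mv.f (nat_lit 88)]))))
(Tr.nd (nat_lit 91) (Tr.lf (Fc.ed (nat_lit 90) (nat_lit 33) Col.f (nat_lit 41) Dv.df))
(Tr.nd (nat_lit 92) (Tr.lf (Fc.ed (nat_lit 91) (nat_lit 33) Col.d (nat_lit 42) Dv.df))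
(Tr.lf (Fc.ed (nat_lit 92) (nat_lit 42) Col.b (nat_lit 34) (Dv.wd (nat_lit 16) [Mv.b (nat_lit 80), Mv.f (nat_lit 79), Mv.f (nat_lit 91)]))))))))
(Tr.nd (nat_lit 102) (Tr.nd (nat_lit 97) (Tr.nd (nat_lit 95) (Tr.nd (nat_lit 94) (Tr.lf (Fc.ed (nat_lit 93) (nat_lit 33) Col.a (nat_lit 43) Dv.df))
(Tr.lf (Fc.ed (nat_lit 94) (nat_lit 43) Col.f (nat_lit 40) (Dv.wd (nat_lit 32) [Mv.f (nat_lit 89), Mv.b (nat_lit 79), Mv.b (nat_lit 74), Mv.f (nat_lit 75), Mv.b (nat_lit 73), Mv.b (nat_lit 60), Mv.b (nat_lit 68), Mv.f (nat_lit 69), Mv.b (nat_lit 61), Mv.f (nat_lit 35), Mv.b (nat_lit 63), Mv.b (nat_lit 69), Mv.f (nat_lit 70), Mv.f (nat_lit 60), Mv.f (nat_lit 57), Mv.f (nat_lit 53), Mv.f (nat_lit 71), Mv.f (nat_lit 79), Mv.f (nat_lit 93)]))))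
(Tr.nd (nat_lit 96) (Tr.lf (Fc.ed (nat_lit 95) (nat_lit 41) Col.a (nat_lit 40) (Dv.wd (nat_lit 33) [Mv.b (nat_lit 94), Mv.b (nat_lit 93), Mv.f (nat_lit 90)])))
(Tr.lf (Fc.ed (nat_lit 96) (nat_lit 35) Col.a (nat_lit 44) Dv.df))))
(Tr.nd (nat_lit 99) (Tr.nd (nat_lit 98) (Tr.lf (Fc.ed (nat_lit 97) (nat_lit 44) Col.c (nat_lit 37) (Dv.wd (nat_lit 14) [Mv.b (nat_lit 83), Mv.f (nat_lit 81), Mv.f (nat_lit 96)])))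
(Tr.lf (Fc.ed (nat_lit 98) (nat_lit 37) Col.f (nat_lit 45) Dv.df)))
(Tr.nd (nat_lit 100) (Tr.lf (Fc.ed (nat_lit 99) (nat_lit 36) Col.c (nat_lit 46) Dv.df))
(Tr.nd (nat_lit 101) (Tr.lf (Fc.ed (nat_lit 100) (nat_lit 46) Col.f (nat_lit 35) (Dv.wd (nat_lit 9) [Mv.b (nat_lit 81), Mv.f (nat_lit 82), Mv.f (nat_lit 99)])))
(Tr.lf (Fc.ed (nat_lit 101) (nat_lit 35) Col.d (nat_lit 47) Dv.df))))))
(Tr.nd (nat_lit 107) (Tr.nd (nat_lit 104) (Tr.nd (nat_lit 103) (Tr.lf (Fc.ed (nat_lit 102) (nat_lit 38) Col.d (nat_lit 48) Dv.df))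
(Tr.lf (Fc.ed (nat_lit 103) (nat_lit 48) Col.b (nat_lit 39) (Dv.wd (nat_lit 16) [Mv.b (nat_lit 86), Mv.f (nat_lit 84), Mv.f (nat_lit 102)]))))
(Tr.nd (nat_lit 105) (Tr.lf (Fc.ed (nat_lit 104) (nat_lit 38) Col.f (nat_lit 49) Dv.df))
(Tr.nd (nat_lit 106) (Tr.lf (Fc.ed (nat_lit 105) (nat_lit 40) Col.d (nat_lit 50) Dv.df))
(Tr.lf (Fc.ed (nat_lit 106) (nat_lit 41) Col.d (nat_lit 51) Dv.df)))))
(Tr.nd (nat_lit 109) (Tr.nd (nat_lit 108) (Tr.lf (Fc.ed (nat_lit 107) (nat_lit 51) Col.a (nat_lit 50) (Dv.wd (nat_lit 15) [Mv.b (nat_lit 105), Mv.b (nat_lit 95), Mv.f (nat_lit 106)])))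
(Tr.lf (Fc.ed (nat_lit 108) (nat_lit 51) Col.f (nat_lit 42) (Dv.wd (nat_lit 8) [Mv.b (nat_lit 91), Mv.f (nat_lit 90), Mv.f (nat_lit 106)]))))
(Tr.nd (nat_lit 110) (Tr.lf (Fc.ed (nat_lit 109) (nat_lit 42) Col.c (nat_lit 52) Dv.df))
(Tr.nd (nat_lit 111) (Tr.lf (Fc.ed (nat_lit 110) (nat_lit 44) Col.d (nat_lit 53) Dv.df))
(Tr.lf (Fc.ed (nat_lit 111) (nat_lit 53) Col.a (nat_lit 47) (Dv.wd (nat_lit 15) [Mv.b (nat_lit 101), Mv.f (nat_lit 96), Mv.f (nat_lit 110)])))))))))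
(Tr.nd (nat_lit 131) (Tr.nd (nat_lit 121) (Tr.nd (nat_lit 116) (Tr.nd (nat_lit 114) (Tr.nd (nat_lit 113) (Tr.lf (Fc.ed (nat_lit 112) (nat_lit 44) Col.f (nat_lit 54) Dv.df))
(Tr.lf (Fc.ed (nat_lit 113) (nat_lit 54) Col.a (nat_lit 46) (Dv.wd (nat_lit 28) [Mv.f (nat_lit 100), Mv.f (nat_lit 96), Mv.f (nat_lit 112)]))))
(Tr.nd (nat_lit 115) (Tr.lf (Fc.ed (nat_lit 114) (nat_lit 54) Col.c (nat_lit 45) (Dv.wd (nat_lit 23) [Mv.b (nat_lit 98), Mv.b (nat_lit 97), Mv.f (nat_lit 112)])))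
(Tr.lf (Fc.ed (nat_lit 115) (nat_lit 54) Col.b (nat_lit 54) (Dv.wd (nat_lit 34) [Mv.f (nat_lit 114), Mv.b (nat_lit 98), Mv.b (nat_lit 83), Mv.b (nat_lit 72), Mv.b (nat_lit 66), Mv.b (nat_lit 64), Mv.f (nat_lit 40), Mv.b (nat_lit 31), Mv.f (nat_lit 33), Mv.f (nat_lit 32), Mv.f (nat_lit 30), Mv.f (nat_lit 31), Mv.f (nat_lit 23), Mv.f (nat_lit 24), Mv.f (nat_lit 42), Mv.f (nat_lit 72), Mv.f (nat_lit 81), Mv.b (nat_lit 100), Mv.b (nat_lit 113)])))))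
(Tr.nd (nat_lit 118) (Tr.nd (nat_lit 117) (Tr.lf (Fc.ed (nat_lit 116) (nat_lit 44) Col.b (nat_lit 55) Dv.df))
(Tr.lf (Fc.ed (nat_lit 117) (nat_lit 55) Col.f (nat_lit 55) (Dv.wd (nat_lit 35) [Mv.b (nat_lit 116), Mv.f (nat_lit 112), Mv.f (nat_lit 115), Mv.b (nat_lit 112), Mv.f (nat_lit 116)]))))
(Tr.nd (nat_lit 119) (Tr.lf (Fc.ed (nat_lit 118) (nat_lit 48) Col.f (nat_lit 56) Dv.df))
(Tr.nd (nat_lit 120) (Tr.lf (Fc.ed (nat_lit 119) (nat_lit 56) Col.d (nat_lit 49) (Dv.wd (nat_lit 25) [Mv.b (nat_lit 104), Mv.f (nat_lit 102), Mv.f (nat_lit 118)])))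
(Tr.lf (Fc.ed (nat_lit 120) (nat_lit 48) Col.c (nat_lit 57) Dv.df))))))
(Tr.nd (nat_lit 126) (Tr.nd (nat_lit 123) (Tr.nd (nat_lit 122) (Tr.lf (Fc.ed (nat_lit 121) (nat_lit 57) Col.b (nat_lit 52) (Dv.wd (nat_lit 36) [Mv.b (nat_lit 109), Mv.f (nat_lit 92), Mv.b (nat_lit 87), Mv.b (nat_lit 103), Mv.f (nat_lit 120)])))
(Tr.lf (Fc.ed (nat_lit 122) (nat_lit 51) Col.c (nat_lit 58) Dv.df)))
(Tr.nd (nat_lit 124) (Tr.lf (Fc.ed (nat_lit 123) (nat_lit 58) Col.f (nat_lit 52) (Dv.wd (nat_lit 9) [Mv.b (nat_lit 109), Mv.b (nat_lit 108), Mv.f (nat_lit 122)])))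
(Tr.nd (nat_lit 125) (Tr.lf (Fc.ed (nat_lit 124) (nat_lit 52) Col.d (nat_lit 59) Dv.df))
(Tr.lf (Fc.ed (nat_lit 125) (nat_lit 53) Col.c (nat_lit 60) Dv.df)))))
(Tr.nd (nat_lit 128) (Tr.nd (nat_lit 127) (Tr.lf (Fc.ed (nat_lit 126) (nat_lit 60) Col.d (nat_lit 57) (Dv.wd (nat_lit 37) [Mv.b (nat_lit 120), Mv.b (nat_lit 102), Mv.f (nat_lit 85), Mv.f (nat_lit 78), Mv.f (nat_lit 81), Mv.f (nat_lit 101), Mv.b (nat_lit 111), Mv.f (nat_lit 125)])))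
(Tr.lf (Fc.ed (nat_lit 127) (nat_lit 59) Col.b (nat_lit 60) (Dv.wd (nat_lit 19) [Mv.f (nat_lit 126), Mv.f (nat_lit 121), Mv.f (nat_lit 124)]))))
(Tr.nd (nat_lit 129) (Tr.lf (Fc.ed (nat_lit 128) (nat_lit 55) Col.d (nat_lit 61) Dv.df))
(Tr.nd (nat_lit 130) (Tr.lf (Fc.ed (nat_lit 129) (nat_lit 61) Col.b (nat_lit 53) (Dv.wd (nat_lit 16) [Mv.b (nat_lit 110), Mv.f (nat_lit 116), Mv.f (nat_lit 128)])))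
(Tr.lf (Fc.ed (nat_lit 130) (nat_lit 61) Col.f (nat_lit 61) (Dv.wd (nat_lit 8) [Mv.b (nat_lit 128), Mv.f (nat_lit 117), Mv.f (nat_lit 128)]))))))))
(Tr.nd (nat_lit 140) (Tr.nd (nat_lit 135) (Tr.nd (nat_lit 133) (Tr.nd (nat_lit 132) (Tr.lf (Fc.ed (nat_lit 131) (nat_lit 57) Col.f (nat_lit 62) Dv.df))
(Tr.lf (Fc.ed (nat_lit 132) (nat_lit 62) Col.c (nat_lit 56) (Dv.wd (nat_lit 23) [Mv.b (nat_lit 118), Mv.f (nat_lit 120), Mv.f (nat_lit 131)]))))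
(Tr.nd (nat_lit 134) (Tr.lf (Fc.ed (nat_lit 133) (nat_lit 58) Col.d (nat_lit 63) Dv.df))
(Tr.lf (Fc.ed (nat_lit 134) (nat_lit 63) Col.f (nat_lit 59) (Dv.wd (nat_lit 8) [Mv.b (nat_lit 124), Mv.b (nat_lit 123), Mv.f (nat_lit 133)])))))
(Tr.nd (nat_lit 137) (Tr.nd (nat_lit 136) (Tr.lf (Fc.ed (nat_lit 135) (nat_lit 63) Col.c (nat_lit 59) (Dv.wd (nat_lit 17) [Mv.b (nat_lit 124), Mv.b (nat_lit 109), Mv.b (nat_lit 91), Mv.b (nat_lit 89), Mv.f (nat_lit 105), Mv.b (nat_lit 107), Mv.f (nat_lit 122), Mv.f (nat_lit 133)])))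
(Tr.lf (Fc.ed (nat_lit 136) (nat_lit 60) Col.f (nat_lit 64) Dv.df)))
(Tr.nd (nat_lit 138) (Tr.lf (Fc.ed (nat_lit 137) (nat_lit 64) Col.d (nat_lit 62) (Dv.wd (nat_lit 25) [Mv.b (nat_lit 131), Mv.b (nat_lit 126), Mv.f (nat_lit 136)])))
(Tr.nd (nat_lit 139) (Tr.lf (Fc.ed (nat_lit 138) (nat_lit 61) Col.c (nat_lit 65) Dv.df))
(Tr.lf (Fc.ed (nat_lit 139) (nat_lit 65) Col.f (nat_lit 65) (Dv.wd (nat_lit 9) [Mv.b (nat_lit 138), Mv.f (nat_lit 130), Mv.f (nat_lit 138)])))))))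
(Tr.nd (nat_lit 145) (Tr.nd (nat_lit 142) (Tr.nd (nat_lit 141) (Tr.lf (Fc.ed (nat_lit 140) (nat_lit 65) Col.b (nat_lit 63) (Dv.wd (nat_lit 36) [Mv.f (nat_lit 135), Mv.f (nat_lit 127), Mv.b (nat_lit 125), Mv.b (nat_lit 129), Mv.f (nat_lit 138)])))
(Tr.lf (Fc.al (nat_lit 141) (nat_lit 64) (nat_lit 63) (Dv.wd (nat_lit 38) [Mv.b (nat_lit 140), Mv.f (nat_lit 139), Mv.f (nat_lit 140), Mv.f (nat_lit 134), Mv.f (nat_lit 127), Mv.f (nat_lit 136)]))))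
(Tr.nd (nat_lit 143) (Tr.lf (Fc.al (nat_lit 142) (nat_lit 58) (nat_lit 62) (Dv.wd (nat_lit 39) [Mv.b (nat_lit 137), Mv.f (nat_lit 141), Mv.b (nat_lit 133)])))
(Tr.nd (nat_lit 144) (Tr.lf (Fc.al (nat_lit 143) (nat_lit 51) (nat_lit 56) (Dv.wd (nat_lit 40) [Mv.b (nat_lit 132), Mv.b (nat_lit 142), Mv.b (nat_lit 122)])))
(Tr.lf (Fc.al (nat_lit 144) (nat_lit 41) (nat_lit 49) (Dv.wd (nat_lit 39) [Mv.b (nat_lit 119), Mv.b (nat_lit 143), Mv.b (nat_lit 106)]))))))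
(Tr.nd (nat_lit 147) (Tr.nd (nat_lit 146) (Tr.lf (Fc.al (nat_lit 145) (nat_lit 33) (nat_lit 38) (Dv.wd (nat_lit 41) [Mv.f (nat_lit 104), Mv.b (nat_lit 144), Mv.b (nat_lit 90)])))
(Tr.lf (Fc.al (nat_lit 146) (nat_lit 28) (nat_lit 30) (Dv.wd (nat_lit 42) [Mv.f (nat_lit 84), Mv.b (nat_lit 145), Mv.b (nat_lit 79)]))))
(Tr.nd (nat_lit 148) (Tr.lf (Fc.al (nat_lit 147) (nat_lit 21) (nat_lit 23) (Dv.wd (nat_lit 40) [Mv.f (nat_lit 73), Mv.b (nat_lit 146), Mv.b (nat_lit 71)])))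
(Tr.nd (nat_lit 149) (Tr.lf (Fc.al (nat_lit 148) (nat_lit 12) (nat_lit 11) (Dv.wd (nat_lit 39) [Mv.f (nat_lit 56), Mv.b (nat_lit 147), Mv.b (nat_lit 52)])))
(Tr.lf (Fc.ed (nat_lit 149) (nat_lit 11) Col.a (nat_lit 11) (Dv.wd (nat_lit 43) [Mv.f (nat_lit 26), Mv.f (nat_lit 148)])))))))))))
noncomputable def mini1A : Tr (Alt Col) := (Tr.nd (nat_lit 22) (Tr.nd (nat_lit 11) (Tr.nd (nat_lit 5) (Tr.nd (nat_lit 2) (Tr.nd (nat_lit 1) (Tr.lf (Alt.base (nat_lit 2) [] [Col.c]))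
(Tr.lf (Alt.base (nat_lit 4) [] [Col.f])))
(Tr.nd (nat_lit 3) (Tr.lf (Alt.base (nat_lit 5) [] [Col.g]))
(Tr.nd (nat_lit 4) (Tr.lf (Alt.base (nat_lit 6) [Col.e, Col.d, Col.c, Col.b, Col.a, Col.b, Col.c] [Col.a, Col.b, Col.a, Col.b, Col.c, Col.d, Col.e]))
(Tr.lf (Alt.word (nat_lit 15) (nat_lit 1) true [Col.c, Col.e, Col.c, Col.e])))))
(Tr.nd (nat_lit 8) (Tr.nd (nat_lit 6) (Tr.lf (Alt.word (nat_lit 23) (nat_lit 2) true [Col.f, Col.e, Col.f, Col.e]))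
(Tr.nd (nat_lit 7) (Tr.lf (Alt.word (nat_lit 24) (nat_lit 2) true [Col.g, Col.e, Col.g, Col.e]))
(Tr.lf (Alt.word (nat_lit 21) (nat_lit 2) true [Col.g, Col.d, Col.g, Col.d]))))
(Tr.nd (nat_lit 9) (Tr.lf (Alt.word (nat_lit 20) (nat_lit 2) true [Col.f, Col.d, Col.f, Col.d]))
(Tr.nd (nat_lit 10) (Tr.lf (Alt.word (nat_lit 16) (nat_lit 2) true [Col.f, Col.c, Col.f, Col.c]))
(Tr.lf (Alt.word (nat_lit 29) (nat_lit 4) true [Col.a, Col.f, Col.g, Col.f, Col.g]))))))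
(Tr.nd (nat_lit 16) (Tr.nd (nat_lit 13) (Tr.nd (nat_lit 12) (Tr.lf (Alt.word (nat_lit 2) (nat_lit 3) true [Col.a, Col.c, Col.a, Col.c]))
(Tr.lf (Alt.word (nat_lit 1) (nat_lit 6) true [Col.b, Col.a, Col.b, Col.a, Col.b, Col.a, Col.b, Col.a, Col.b, Col.a])))
(Tr.nd (nat_lit 14) (Tr.lf (Alt.word (nat_lit 8) (nat_lit 4) true [Col.c, Col.b, Col.c, Col.b, Col.c, Col.b]))
(Tr.nd (nat_lit 15) (Tr.lf (Alt.word (nat_lit 2) (nat_lit 2) true [Col.c, Col.a, Col.c, Col.a]))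
(Tr.lf (Alt.word (nat_lit 3) (nat_lit 1) true [Col.a, Col.d, Col.a, Col.d])))))
(Tr.nd (nat_lit 19) (Tr.nd (nat_lit 17) (Tr.lf (Alt.word (nat_lit 9) (nat_lit 1) true [Col.b, Col.d, Col.b, Col.d]))
(Tr.nd (nat_lit 18) (Tr.lf (Alt.word (nat_lit 28) (nat_lit 2) true [Col.c, Col.d, Col.c, Col.d, Col.c, Col.d, Col.a, Col.c, Col.d]))
(Tr.lf (Alt.word (nat_lit 8) (nat_lit 3) true [Col.b, Col.c, Col.b, Col.c, Col.b, Col.c]))))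
(Tr.nd (nat_lit 20) (Tr.lf (Alt.word (nat_lit 9) (nat_lit 3) true [Col.b, Col.d, Col.b, Col.d]))
(Tr.nd (nat_lit 21) (Tr.lf (Alt.word (nat_lit 11) (nat_lit 4) true [Col.f, Col.b, Col.f, Col.b, Col.f, Col.b]))
(Tr.lf (Alt.word (nat_lit 5) (nat_lit 2) true [Col.f, Col.a, Col.f, Col.a])))))))
(Tr.nd (nat_lit 33) (Tr.nd (nat_lit 27) (Tr.nd (nat_lit 24) (Tr.nd (nat_lit 23) (Tr.lf (Alt.word (nat_lit 2) (nat_lit 0) true [Col.c, Col.a, Col.c, Col.a]))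
(Tr.lf (Alt.word (nat_lit 16) (nat_lit 1) true [Col.c, Col.f, Col.c, Col.f])))
(Tr.nd (nat_lit 25) (Tr.lf (Alt.word (nat_lit 11) (nat_lit 1) true [Col.b, Col.f, Col.b, Col.f, Col.b, Col.f]))
(Tr.nd (nat_lit 26) (Tr.lf (Alt.word (nat_lit 20) (nat_lit 1) true [Col.d, Col.f, Col.d, Col.f]))
(Tr.lf (Alt.word (nat_lit 28) (nat_lit 3) true [Col.d, Col.c, Col.d, Col.c, Col.d, Col.a, Col.c, Col.d, Col.c])))))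
(Tr.nd (nat_lit 30) (Tr.nd (nat_lit 28) (Tr.lf (Alt.word (nat_lit 28) (nat_lit 0) false [Col.a, Col.d, Col.c, Col.d, Col.c, Col.d, Col.c, Col.d, Col.c]))
(Tr.nd (nat_lit 29) (Tr.lf (Alt.word (nat_lit 5) (nat_lit 1) true [Col.a, Col.f, Col.a, Col.f]))
(Tr.lf (Alt.word (nat_lit 2) (nat_lit 1) true [Col.a, Col.c, Col.a, Col.c]))))
(Tr.nd (nat_lit 31) (Tr.lf (Alt.word (nat_lit 9) (nat_lit 2) true [Col.d, Col.b, Col.d, Col.b]))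
(Tr.nd (nat_lit 32) (Tr.lf (Alt.word (nat_lit 8) (nat_lit 2) true [Col.c, Col.b, Col.c, Col.b, Col.c, Col.b]))
(Tr.lf (Alt.word (nat_lit 30) (nat_lit 4) true [Col.f, Col.c, Col.b, Col.a, Col.f, Col.c, Col.b, Col.a, Col.f, Col.c, Col.b, Col.a, Col.f, Col.c, Col.b, Col.a, Col.f, Col.c, Col.b, Col.a]))))))
(Tr.nd (nat_lit 38) (Tr.nd (nat_lit 35) (Tr.nd (nat_lit 34) (Tr.lf (Alt.word (nat_lit 5) (nat_lit 3) true [Col.a, Col.f, Col.a, Col.f]))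
(Tr.lf (Alt.word (nat_lit 30) (nat_lit 1) false [Col.b, Col.c, Col.f, Col.a, Col.b, Col.c, Col.f, Col.a, Col.b, Col.c, Col.f, Col.a, Col.b, Col.c, Col.f, Col.a, Col.b, Col.c, Col.f, Col.a])))
(Tr.nd (nat_lit 36) (Tr.lf (Alt.word (nat_lit 11) (nat_lit 2) true [Col.f, Col.b, Col.f, Col.b, Col.f, Col.b]))
(Tr.nd (nat_lit 37) (Tr.lf (Alt.word (nat_lit 8) (nat_lit 1) true [Col.b, Col.c, Col.b, Col.c, Col.b, Col.c]))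
(Tr.lf (Alt.word (nat_lit 28) (nat_lit 1) true [Col.d, Col.c, Col.d, Col.c, Col.d, Col.c, Col.d, Col.a, Col.c])))))
(Tr.nd (nat_lit 41) (Tr.nd (nat_lit 39) (Tr.lf (Alt.word (nat_lit 11) (nat_lit 5) true [Col.b, Col.f, Col.b, Col.f, Col.b, Col.f]))
(Tr.nd (nat_lit 40) (Tr.lf (Alt.word (nat_lit 18) (nat_lit 0) true [Col.d, Col.d]))
(Tr.lf (Alt.word (nat_lit 13) (nat_lit 0) true [Col.c, Col.c]))))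
(Tr.nd (nat_lit 42) (Tr.lf (Alt.word (nat_lit 25) (nat_lit 0) true [Col.f, Col.f]))
(Tr.nd (nat_lit 43) (Tr.lf (Alt.word (nat_lit 7) (nat_lit 0) true [Col.b, Col.b]))
(Tr.lf (Alt.word (nat_lit 0) (nat_lit 0) true [Col.a, Col.a]))))))))
noncomputable def mini1P : Tr ℕ := (Tr.nd (nat_lit 33) (Tr.nd (nat_lit 16) (Tr.nd (nat_lit 8) (Tr.nd (nat_lit 4) (Tr.nd (nat_lit 2) (Tr.nd (nat_lit 1) (Tr.lf (nat_lit 0))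
(Tr.lf (nat_lit 0)))
(Tr.nd (nat_lit 3) (Tr.lf (nat_lit 1))
(Tr.lf (nat_lit 2))))
(Tr.nd (nat_lit 6) (Tr.nd (nat_lit 5) (Tr.lf (nat_lit 3))
(Tr.lf (nat_lit 4)))
(Tr.nd (nat_lit 7) (Tr.lf (nat_lit 5))
(Tr.lf (nat_lit 6)))))
(Tr.nd (nat_lit 12) (Tr.nd (nat_lit 10) (Tr.nd (nat_lit 9) (Tr.lf (nat_lit 4))
(Tr.lf (nat_lit 8)))
(Tr.nd (nat_lit 11) (Tr.lf (nat_lit 9))
(Tr.lf (nat_lit 10))))
(Tr.nd (nat_lit 14) (Tr.nd (nat_lit 13) (Tr.lf (nat_lit 11))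
(Tr.lf (nat_lit 12)))
(Tr.nd (nat_lit 15) (Tr.lf (nat_lit 9))
(Tr.lf (nat_lit 3))))))
(Tr.nd (nat_lit 24) (Tr.nd (nat_lit 20) (Tr.nd (nat_lit 18) (Tr.nd (nat_lit 17) (Tr.lf (nat_lit 9))
(Tr.lf (nat_lit 5)))
(Tr.nd (nat_lit 19) (Tr.lf (nat_lit 10))
(Tr.lf (nat_lit 8))))
(Tr.nd (nat_lit 22) (Tr.nd (nat_lit 21) (Tr.lf (nat_lit 4))
(Tr.lf (nat_lit 12)))
(Tr.nd (nat_lit 23) (Tr.lf (nat_lit 13))
(Tr.lf (nat_lit 11)))))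
(Tr.nd (nat_lit 28) (Tr.nd (nat_lit 26) (Tr.nd (nat_lit 25) (Tr.lf (nat_lit 10))
(Tr.lf (nat_lit 14)))
(Tr.nd (nat_lit 27) (Tr.lf (nat_lit 17))
(Tr.lf (nat_lit 18))))
(Tr.nd (nat_lit 30) (Tr.nd (nat_lit 29) (Tr.lf (nat_lit 21))
(Tr.lf (nat_lit 18)))
(Tr.nd (nat_lit 31) (Tr.lf (nat_lit 23))
(Tr.nd (nat_lit 32) (Tr.lf (nat_lit 22))
(Tr.lf (nat_lit 27))))))))
(Tr.nd (nat_lit 49) (Tr.nd (nat_lit 41) (Tr.nd (nat_lit 37) (Tr.nd (nat_lit 35) (Tr.nd (nat_lit 34) (Tr.lf (nat_lit 28))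
(Tr.lf (nat_lit 28)))
(Tr.nd (nat_lit 36) (Tr.lf (nat_lit 29))
(Tr.lf (nat_lit 29))))
(Tr.nd (nat_lit 39) (Tr.nd (nat_lit 38) (Tr.lf (nat_lit 29))
(Tr.lf (nat_lit 30)))
(Tr.nd (nat_lit 40) (Tr.lf (nat_lit 30))
(Tr.lf (nat_lit 31)))))
(Tr.nd (nat_lit 45) (Tr.nd (nat_lit 43) (Tr.nd (nat_lit 42) (Tr.lf (nat_lit 33))
(Tr.lf (nat_lit 33)))
(Tr.nd (nat_lit 44) (Tr.lf (nat_lit 33))
(Tr.lf (nat_lit 35))))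
(Tr.nd (nat_lit 47) (Tr.nd (nat_lit 46) (Tr.lf (nat_lit 37))
(Tr.lf (nat_lit 36)))
(Tr.nd (nat_lit 48) (Tr.lf (nat_lit 35))
(Tr.lf (nat_lit 38))))))
(Tr.nd (nat_lit 57) (Tr.nd (nat_lit 53) (Tr.nd (nat_lit 51) (Tr.nd (nat_lit 50) (Tr.lf (nat_lit 38))
(Tr.lf (nat_lit 40)))
(Tr.nd (nat_lit 52) (Tr.lf (nat_lit 41))
(Tr.lf (nat_lit 42))))
(Tr.nd (nat_lit 55) (Tr.nd (nat_lit 54) (Tr.lf (nat_lit 44))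
(Tr.lf (nat_lit 44)))
(Tr.nd (nat_lit 56) (Tr.lf (nat_lit 44))
(Tr.lf (nat_lit 48)))))
(Tr.nd (nat_lit 61) (Tr.nd (nat_lit 59) (Tr.nd (nat_lit 58) (Tr.lf (nat_lit 48))
(Tr.lf (nat_lit 51)))
(Tr.nd (nat_lit 60) (Tr.lf (nat_lit 52))
(Tr.lf (nat_lit 53))))
(Tr.nd (nat_lit 63) (Tr.nd (nat_lit 62) (Tr.lf (nat_lit 55))
(Tr.lf (nat_lit 57)))
(Tr.nd (nat_lit 64) (Tr.lf (nat_lit 58))
(Tr.nd (nat_lit 65) (Tr.lf (nat_lit 60))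
(Tr.lf (nat_lit 61)))))))))
noncomputable def mini1Q : Tr ℕ := (Tr.nd (nat_lit 33) (Tr.nd (nat_lit 16) (Tr.nd (nat_lit 8) (Tr.nd (nat_lit 4) (Tr.nd (nat_lit 2) (Tr.nd (nat_lit 1) (Tr.lf (nat_lit 0))
(Tr.lf (nat_lit 4)))
(Tr.nd (nat_lit 3) (Tr.lf (nat_lit 3))
(Tr.lf (nat_lit 2))))
(Tr.nd (nat_lit 6) (Tr.nd (nat_lit 5) (Tr.lf (nat_lit 1))
(Tr.lf (nat_lit 0)))
(Tr.nd (nat_lit 7) (Tr.lf (nat_lit 1))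
(Tr.lf (nat_lit 2)))))
(Tr.nd (nat_lit 12) (Tr.nd (nat_lit 10) (Tr.nd (nat_lit 9) (Tr.lf (nat_lit 3))
(Tr.lf (nat_lit 2)))
(Tr.nd (nat_lit 11) (Tr.lf (nat_lit 5))
(Tr.lf (nat_lit 1))))
(Tr.nd (nat_lit 14) (Tr.nd (nat_lit 13) (Tr.lf (nat_lit 0))
(Tr.lf (nat_lit 1)))
(Tr.nd (nat_lit 15) (Tr.lf (nat_lit 3))
(Tr.lf (nat_lit 3))))))
(Tr.nd (nat_lit 24) (Tr.nd (nat_lit 20) (Tr.nd (nat_lit 18) (Tr.nd (nat_lit 17) (Tr.lf (nat_lit 0))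
(Tr.lf (nat_lit 3)))
(Tr.nd (nat_lit 19) (Tr.lf (nat_lit 0))
(Tr.lf (nat_lit 5))))
(Tr.nd (nat_lit 22) (Tr.nd (nat_lit 21) (Tr.lf (nat_lit 5))
(Tr.lf (nat_lit 3)))
(Tr.nd (nat_lit 23) (Tr.lf (nat_lit 3))
(Tr.lf (nat_lit 3)))))
(Tr.nd (nat_lit 28) (Tr.nd (nat_lit 26) (Tr.nd (nat_lit 25) (Tr.lf (nat_lit 3))
(Tr.lf (nat_lit 2)))
(Tr.nd (nat_lit 27) (Tr.lf (nat_lit 5))
(Tr.lf (nat_lit 3))))
(Tr.nd (nat_lit 30) (Tr.nd (nat_lit 29) (Tr.lf (nat_lit 2))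
(Tr.lf (nat_lit 1)))
(Tr.nd (nat_lit 31) (Tr.lf (nat_lit 2))
(Tr.nd (nat_lit 32) (Tr.lf (nat_lit 2))
(Tr.lf (nat_lit 1))))))))
(Tr.nd (nat_lit 49) (Tr.nd (nat_lit 41) (Tr.nd (nat_lit 37) (Tr.nd (nat_lit 35) (Tr.nd (nat_lit 34) (Tr.lf (nat_lit 1))
(Tr.lf (nat_lit 3)))
(Tr.nd (nat_lit 36) (Tr.lf (nat_lit 2))
(Tr.lf (nat_lit 5))))
(Tr.nd (nat_lit 39) (Tr.nd (nat_lit 38) (Tr.lf (nat_lit 0))
(Tr.lf (nat_lit 1)))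
(Tr.nd (nat_lit 40) (Tr.lf (nat_lit 3))
(Tr.lf (nat_lit 1)))))
(Tr.nd (nat_lit 45) (Tr.nd (nat_lit 43) (Tr.nd (nat_lit 42) (Tr.lf (nat_lit 5))
(Tr.lf (nat_lit 3)))
(Tr.nd (nat_lit 44) (Tr.lf (nat_lit 0))
(Tr.lf (nat_lit 0))))
(Tr.nd (nat_lit 47) (Tr.nd (nat_lit 46) (Tr.lf (nat_lit 5))
(Tr.lf (nat_lit 2)))
(Tr.nd (nat_lit 48) (Tr.lf (nat_lit 3))
(Tr.lf (nat_lit 3))))))
(Tr.nd (nat_lit 57) (Tr.nd (nat_lit 53) (Tr.nd (nat_lit 51) (Tr.nd (nat_lit 50) (Tr.lf (nat_lit 5))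
(Tr.lf (nat_lit 3)))
(Tr.nd (nat_lit 52) (Tr.lf (nat_lit 3))
(Tr.lf (nat_lit 2))))
(Tr.nd (nat_lit 55) (Tr.nd (nat_lit 54) (Tr.lf (nat_lit 3))
(Tr.lf (nat_lit 5)))
(Tr.nd (nat_lit 56) (Tr.lf (nat_lit 1))
(Tr.lf (nat_lit 5)))))
(Tr.nd (nat_lit 61) (Tr.nd (nat_lit 59) (Tr.nd (nat_lit 58) (Tr.lf (nat_lit 2))
(Tr.lf (nat_lit 2)))
(Tr.nd (nat_lit 60) (Tr.lf (nat_lit 3))
(Tr.lf (nat_lit 2))))
(Tr.nd (nat_lit 63) (Tr.nd (nat_lit 62) (Tr.lf (nat_lit 3))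
(Tr.lf (nat_lit 5)))
(Tr.nd (nat_lit 64) (Tr.lf (nat_lit 3))
(Tr.nd (nat_lit 65) (Tr.lf (nat_lit 5))
(Tr.lf (nat_lit 2)))))))))
theorem mini1_alt : Tr.all (altChk idx inv RW (SW1)) mini1A = true := by decide +kernel
theorem mini1_chk : Tr.all (chkFc idx inv mini1S mini1A (fun b => Tr.find b mini1P) (fun b => Tr.find b mini1Q)) mini1S = true := by decide +kernel
theorem mini1_run : runM idx inv mini1S 150 0 [Mv.f (nat_lit 3), Mv.f (nat_lit 4), Mv.f (nat_lit 5), Mv.f (nat_lit 6), Mv.f (nat_lit 22), Mv.f (nat_lit 23), Mv.f (nat_lit 24), Mv.f (nat_lit 25), Mv.f (nat_lit 149), Mv.b (nat_lit 25), Mv.b (nat_lit 24), Mv.b (nat_lit 23), Mv.b (nat_lit 22), Mv.b (nat_lit 6), Mv.b (nat_lit 5), Mv.b (nat_lit 4), Mv.b (nat_lit 3)] [Col.e, Col.d, Col.c, Col.b, Col.d, Col.c, Col.f, Col.b, Col.a,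 Col.b, Col.f, Col.c, Col.d, Col.b, Col.c, Col.d, Col.e] 0 = true := by decide +kernel
theorem mini1_fix {G X : Type*} [Group G] [MulAction G X] (g : Col → G) (x0 : X) (hinv : ∀ c, g (inv c) = (g c)⁻¹)
    (hRW : ∀ w ∈ RW, gw g w = 1) (hSW : ∀ w ∈ SW1, gw g w • x0 = x0) : gw g [Col.e, Col.d, Col.c, Col.b, Col.d, Col.c, Col.f, Col.b, Col.a, Col.b, Col.f, Col.c, Col.d, Col.b, Col.c, Col.d, Col.e] • x0 = x0 :=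
  mini_sound g x0 dec hdec hinv
    (fun a ha => altChk_sound g x0 dec hdec hinv hRW hSW ((Tr.all_iff _ _).1 mini1_alt a ha)) mini1_chk mini1_run
noncomputable def mini2S : Tr (Fc Col) := (Tr.nd (nat_lit 169) (Tr.nd (nat_lit 84) (Tr.nd (nat_lit 42) (Tr.nd (nat_lit 21) (Tr.nd (nat_lit 10) (Tr.nd (nat_lit 5) (Tr.nd (nat_lit 2) (Tr.nd (nat_lit 1) (Tr.lf (Fc.ed (nat_lit 0) (nat_lit 0) Col.c (nat_lit 0) (Dv.sb (nat_lit 0) [] [])))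
(Tr.lf (Fc.ed (nat_lit 1) (nat_lit 0) Col.f (nat_lit 0) (Dv.sb (nat_lit 1) [] []))))
(Tr.nd (nat_lit 3) (Tr.lf (Fc.ed (nat_lit 2) (nat_lit 0) Col.g (nat_lit 0) (Dv.sb (nat_lit 2) [] [])))
(Tr.nd (nat_lit 4) (Tr.lf (Fc.ed (nat_lit 3) (nat_lit 0) Col.e (nat_lit 1) Dv.df))
(Tr.lf (Fc.ed (nat_lit 4) (nat_lit 1) Col.d (nat_lit 2) Dv.df)))))
(Tr.nd (nat_lit 7) (Tr.nd (nat_lit 6) (Tr.lf (Fc.ed (nat_lit 5) (nat_lit 2) Col.c (nat_lit 3) Dv.df))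
(Tr.lf (Fc.ed (nat_lit 6) (nat_lit 3) Col.b (nat_lit 4) Dv.df)))
(Tr.nd (nat_lit 8) (Tr.lf (Fc.ed (nat_lit 7) (nat_lit 4) Col.a (nat_lit 5) Dv.df))
(Tr.nd (nat_lit 9) (Tr.lf (Fc.ed (nat_lit 8) (nat_lit 5) Col.b (nat_lit 6) Dv.df))
(Tr.lf (Fc.ed (nat_lit 9) (nat_lit 6) Col.c (nat_lit 7) Dv.df))))))
(Tr.nd (nat_lit 15) (Tr.nd (nat_lit 12) (Tr.nd (nat_lit 11) (Tr.lf (Fc.ed (nat_lit 10) (nat_lit 7) Col.a (nat_lit 6) (Dv.sb (nat_lit 3) [Mv.f (nat_lit 3), Mv.f (nat_lit 4), Mv.f (nat_lit 5), Mv.f (nat_lit 6), Mv.f (nat_lit 7), Mv.f (nat_lit 8), Mv.f (nat_lit 9)] [Mv.b (nat_lit 8), Mv.b (nat_lit 7), Mv.b (nat_lit 6), Mv.b (nat_lit 5), Mv.b (nat_lit 4), Mv.b (nat_lit 3)])))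
(Tr.lf (Fc.ed (nat_lit 11) (nat_lit 4) Col.d (nat_lit 8) Dv.df)))
(Tr.nd (nat_lit 13) (Tr.lf (Fc.ed (nat_lit 12) (nat_lit 8) Col.c (nat_lit 9) Dv.df))
(Tr.nd (nat_lit 14) (Tr.lf (Fc.ed (nat_lit 13) (nat_lit 9) Col.f (nat_lit 10) Dv.df))
(Tr.lf (Fc.ed (nat_lit 14) (nat_lit 10) Col.b (nat_lit 11) Dv.df)))))
(Tr.nd (nat_lit 18) (Tr.nd (nat_lit 16) (Tr.lf (Fc.ed (nat_lit 15) (nat_lit 11) Col.a (nat_lit 11) (Dv.sb (nat_lit 4) [Mv.f (nat_lit 3), Mv.f (nat_lit 4), Mv.f (nat_lit 5), Mv.f (nat_lit 6), Mv.f (nat_lit 11), Mv.f (nat_lit 12), Mv.f (nat_lit 13), Mv.f (nat_lit 14)] [Mv.b (nat_lit 14), Mv.b (nat_lit 13), Mv.b (nat_lit 12), Mv.b (nat_lit 11), Mv.b (nat_lit 6), Mv.b (nat_lit 5), Mv.b (nat_lit 4), Mv.b (nat_lit 3)])))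
(Tr.nd (nat_lit 17) (Tr.lf (Fc.ed (nat_lit 16) (nat_lit 1) Col.c (nat_lit 1) (Dv.wd (nat_lit 5) [Mv.b (nat_lit 3), Mv.f (nat_lit 0), Mv.f (nat_lit 3)])))
(Tr.lf (Fc.ed (nat_lit 17) (nat_lit 1) Col.f (nat_lit 1) (Dv.wd (nat_lit 6) [Mv.b (nat_lit 3), Mv.f (nat_lit 1), Mv.f (nat_lit 3)])))))
(Tr.nd (nat_lit 19) (Tr.lf (Fc.ed (nat_lit 18) (nat_lit 1) Col.g (nat_lit 1) (Dv.wd (nat_lit 7) [Mv.b (nat_lit 3), Mv.f (nat_lit 2), Mv.f (nat_lit 3)])))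
(Tr.nd (nat_lit 20) (Tr.lf (Fc.ed (nat_lit 19) (nat_lit 2) Col.g (nat_lit 2) (Dv.wd (nat_lit 8) [Mv.b (nat_lit 4), Mv.f (nat_lit 18), Mv.f (nat_lit 4)])))
(Tr.lf (Fc.ed (nat_lit 20) (nat_lit 3) Col.g (nat_lit 3) (Dv.wd (nat_lit 9) [Mv.b (nat_lit 5), Mv.f (nat_lit 19), Mv.f (nat_lit 5)]))))))))
(Tr.nd (nat_lit 31) (Tr.nd (nat_lit 26) (Tr.nd (nat_lit 23) (Tr.nd (nat_lit 22) (Tr.lf (Fc.ed (nat_lit 21) (nat_lit 2) Col.f (nat_lit 2) (Dv.wd (nat_lit 10) [Mv.b (nat_lit 4), Mv.f (nat_lit 17), Mv.f (nat_lit 4)])))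
(Tr.lf (Fc.ed (nat_lit 22) (nat_lit 2) Col.a (nat_lit 2) (Dv.wd (nat_lit 11) [Mv.f (nat_lit 21), Mv.f (nat_lit 19), Mv.f (nat_lit 21), Mv.f (nat_lit 19)]))))
(Tr.nd (nat_lit 24) (Tr.lf (Fc.ed (nat_lit 23) (nat_lit 3) Col.a (nat_lit 3) (Dv.wd (nat_lit 12) [Mv.b (nat_lit 5), Mv.f (nat_lit 22), Mv.f (nat_lit 5)])))
(Tr.nd (nat_lit 25) (Tr.lf (Fc.ed (nat_lit 24) (nat_lit 7) Col.b (nat_lit 7) (Dv.wd (nat_lit 13) [Mv.f (nat_lit 10), Mv.b (nat_lit 8), Mv.b (nat_lit 7), Mv.b (nat_lit 6), Mv.f (nat_lit 23), Mv.f (nat_lit 6), Mv.f (nat_lit 7), Mv.f (nat_lit 8), Mv.b (nat_lit 10)])))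
(Tr.lf (Fc.ed (nat_lit 25) (nat_lit 5) Col.c (nat_lit 5) (Dv.wd (nat_lit 14) [Mv.f (nat_lit 8), Mv.f (nat_lit 9), Mv.f (nat_lit 24), Mv.b (nat_lit 9), Mv.b (nat_lit 8)]))))))
(Tr.nd (nat_lit 28) (Tr.nd (nat_lit 27) (Tr.lf (Fc.ed (nat_lit 26) (nat_lit 4) Col.c (nat_lit 4) (Dv.wd (nat_lit 15) [Mv.f (nat_lit 7), Mv.f (nat_lit 25), Mv.b (nat_lit 7)])))
(Tr.lf (Fc.ed (nat_lit 27) (nat_lit 9) Col.g (nat_lit 12) Dv.df)))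
(Tr.nd (nat_lit 29) (Tr.lf (Fc.ed (nat_lit 28) (nat_lit 12) Col.b (nat_lit 13) Dv.df))
(Tr.nd (nat_lit 30) (Tr.lf (Fc.ed (nat_lit 29) (nat_lit 13) Col.a (nat_lit 14) Dv.df))
(Tr.lf (Fc.ed (nat_lit 30) (nat_lit 14) Col.b (nat_lit 15) Dv.df))))))
(Tr.nd (nat_lit 36) (Tr.nd (nat_lit 33) (Tr.nd (nat_lit 32) (Tr.lf (Fc.ed (nat_lit 31) (nat_lit 15) Col.g (nat_lit 16) Dv.df))
(Tr.lf (Fc.ed (nat_lit 32) (nat_lit 3) Col.d (nat_lit 17) Dv.df)))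
(Tr.nd (nat_lit 34) (Tr.lf (Fc.ed (nat_lit 33) (nat_lit 17) Col.b (nat_lit 8) (Dv.wd (nat_lit 16) [Mv.b (nat_lit 11), Mv.b (nat_lit 6), Mv.f (nat_lit 32)])))
(Tr.nd (nat_lit 35) (Tr.lf (Fc.ed (nat_lit 34) (nat_lit 17) Col.g (nat_lit 17) (Dv.wd (nat_lit 8) [Mv.b (nat_lit 32), Mv.f (nat_lit 20), Mv.f (nat_lit 32)])))
(Tr.lf (Fc.ed (nat_lit 35) (nat_lit 17) Col.c (nat_lit 17) (Dv.wd (nat_lit 17) [Mv.b (nat_lit 32), Mv.b (nat_lit 5), Mv.b (nat_lit 4), Mv.f (nat_lit 16), Mv.f (nat_lit 4), Mv.f (nat_lit 22), Mv.f (nat_lit 5), Mv.f (nat_lit 32)]))))))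
(Tr.nd (nat_lit 39) (Tr.nd (nat_lit 37) (Tr.lf (Fc.ed (nat_lit 36) (nat_lit 9) Col.b (nat_lit 9) (Dv.wd (nat_lit 18) [Mv.b (nat_lit 12), Mv.b (nat_lit 33), Mv.f (nat_lit 35), Mv.f (nat_lit 33), Mv.f (nat_lit 12)])))
(Tr.nd (nat_lit 38) (Tr.lf (Fc.ed (nat_lit 37) (nat_lit 11) Col.f (nat_lit 11) (Dv.wd (nat_lit 19) [Mv.b (nat_lit 14), Mv.b (nat_lit 13), Mv.f (nat_lit 36), Mv.f (nat_lit 13), Mv.f (nat_lit 14)])))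
(Tr.lf (Fc.ed (nat_lit 38) (nat_lit 13) Col.g (nat_lit 13) (Dv.wd (nat_lit 20) [Mv.b (nat_lit 28), Mv.b (nat_lit 27), Mv.f (nat_lit 36), Mv.f (nat_lit 27), Mv.f (nat_lit 28)])))))
(Tr.nd (nat_lit 40) (Tr.lf (Fc.ed (nat_lit 39) (nat_lit 4) Col.f (nat_lit 18) Dv.df))
(Tr.nd (nat_lit 41) (Tr.lf (Fc.ed (nat_lit 40) (nat_lit 18) Col.c (nat_lit 18) (Dv.wd (nat_lit 21) [Mv.b (nat_lit 39), Mv.f (nat_lit 26), Mv.f (nat_lit 39)])))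
(Tr.lf (Fc.ed (nat_lit 41) (nat_lit 4) Col.g (nat_lit 19) Dv.df))))))))
(Tr.nd (nat_lit 63) (Tr.nd (nat_lit 52) (Tr.nd (nat_lit 47) (Tr.nd (nat_lit 44) (Tr.nd (nat_lit 43) (Tr.lf (Fc.ed (nat_lit 42) (nat_lit 19) Col.c (nat_lit 19) (Dv.wd (nat_lit 22) [Mv.b (nat_lit 41), Mv.f (nat_lit 26), Mv.f (nat_lit 41)])))
(Tr.lf (Fc.ed (nat_lit 43) (nat_lit 5) Col.d (nat_lit 20) Dv.df)))
(Tr.nd (nat_lit 45) (Tr.lf (Fc.ed (nat_lit 44) (nat_lit 20) Col.a (nat_lit 8) (Dv.wd (nat_lit 23) [Mv.b (nat_lit 11), Mv.f (nat_lit 7), Mv.f (nat_lit 43)])))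
(Tr.nd (nat_lit 46) (Tr.lf (Fc.ed (nat_lit 45) (nat_lit 8) Col.f (nat_lit 21) Dv.df))
(Tr.lf (Fc.ed (nat_lit 46) (nat_lit 21) Col.c (nat_lit 10) (Dv.wd (nat_lit 21) [Mv.b (nat_lit 13), Mv.b (nat_lit 12), Mv.f (nat_lit 45)]))))))
(Tr.nd (nat_lit 49) (Tr.nd (nat_lit 48) (Tr.lf (Fc.ed (nat_lit 47) (nat_lit 21) Col.d (nat_lit 18) (Dv.wd (nat_lit 24) [Mv.b (nat_lit 39), Mv.f (nat_lit 11), Mv.f (nat_lit 45)])))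
(Tr.lf (Fc.ed (nat_lit 48) (nat_lit 8) Col.g (nat_lit 22) Dv.df)))
(Tr.nd (nat_lit 50) (Tr.lf (Fc.ed (nat_lit 49) (nat_lit 22) Col.c (nat_lit 12) (Dv.wd (nat_lit 22) [Mv.b (nat_lit 27), Mv.b (nat_lit 12), Mv.f (nat_lit 48)])))
(Tr.nd (nat_lit 51) (Tr.lf (Fc.ed (nat_lit 50) (nat_lit 22) Col.d (nat_lit 19) (Dv.wd (nat_lit 25) [Mv.b (nat_lit 41), Mv.f (nat_lit 11), Mv.f (nat_lit 48)])))
(Tr.lf (Fc.ed (nat_lit 51) (nat_lit 22) Col.b (nat_lit 22) (Dv.wd (nat_lit 26) [Mv.b (nat_lit 48), Mv.b (nat_lit 33), Mv.f (nat_lit 34), Mv.f (nat_lit 33), Mv.f (nat_lit 48)])))))))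
(Tr.nd (nat_lit 57) (Tr.nd (nat_lit 54) (Tr.nd (nat_lit 53) (Tr.lf (Fc.ed (nat_lit 52) (nat_lit 13) Col.c (nat_lit 13) (Dv.wd (nat_lit 14) [Mv.b (nat_lit 28), Mv.b (nat_lit 49), Mv.f (nat_lit 51), Mv.f (nat_lit 49), Mv.f (nat_lit 28)])))
(Tr.lf (Fc.ed (nat_lit 53) (nat_lit 14) Col.c (nat_lit 14) (Dv.wd (nat_lit 15) [Mv.b (nat_lit 29), Mv.f (nat_lit 52), Mv.f (nat_lit 29)]))))
(Tr.nd (nat_lit 55) (Tr.lf (Fc.ed (nat_lit 54) (nat_lit 9) Col.a (nat_lit 23) Dv.df))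
(Tr.nd (nat_lit 56) (Tr.lf (Fc.ed (nat_lit 55) (nat_lit 23) Col.c (nat_lit 20) (Dv.wd (nat_lit 15) [Mv.f (nat_lit 44), Mv.f (nat_lit 12), Mv.f (nat_lit 54)])))
(Tr.lf (Fc.ed (nat_lit 56) (nat_lit 9) Col.d (nat_lit 24) Dv.df)))))
(Tr.nd (nat_lit 60) (Tr.nd (nat_lit 58) (Tr.lf (Fc.ed (nat_lit 57) (nat_lit 24) Col.b (nat_lit 24) (Dv.wd (nat_lit 16) [Mv.b (nat_lit 56), Mv.f (nat_lit 36), Mv.f (nat_lit 56)])))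
(Tr.nd (nat_lit 59) (Tr.lf (Fc.ed (nat_lit 58) (nat_lit 10) Col.a (nat_lit 25) Dv.df))
(Tr.lf (Fc.ed (nat_lit 59) (nat_lit 25) Col.f (nat_lit 23) (Dv.wd (nat_lit 27) [Mv.b (nat_lit 54), Mv.f (nat_lit 13), Mv.f (nat_lit 58)])))))
(Tr.nd (nat_lit 61) (Tr.lf (Fc.ed (nat_lit 60) (nat_lit 10) Col.d (nat_lit 26) Dv.df))
(Tr.nd (nat_lit 62) (Tr.lf (Fc.ed (nat_lit 61) (nat_lit 10) Col.g (nat_lit 27) Dv.df))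
(Tr.lf (Fc.ed (nat_lit 62) (nat_lit 11) Col.d (nat_lit 28) Dv.df)))))))
(Tr.nd (nat_lit 73) (Tr.nd (nat_lit 68) (Tr.nd (nat_lit 65) (Tr.nd (nat_lit 64) (Tr.lf (Fc.ed (nat_lit 63) (nat_lit 28) Col.a (nat_lit 28) (Dv.wd (nat_lit 23) [Mv.b (nat_lit 62), Mv.f (nat_lit 15), Mv.f (nat_lit 62)])))
(Tr.lf (Fc.ed (nat_lit 64) (nat_lit 28) Col.b (nat_lit 26) (Dv.wd (nat_lit 16) [Mv.b (nat_lit 60), Mv.f (nat_lit 14), Mv.f (nat_lit 62)]))))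
(Tr.nd (nat_lit 66) (Tr.lf (Fc.ed (nat_lit 65) (nat_lit 28) Col.f (nat_lit 28) (Dv.wd (nat_lit 10) [Mv.b (nat_lit 62), Mv.f (nat_lit 37), Mv.f (nat_lit 62)])))
(Tr.nd (nat_lit 67) (Tr.lf (Fc.ed (nat_lit 66) (nat_lit 11) Col.g (nat_lit 29) Dv.df))
(Tr.lf (Fc.ed (nat_lit 67) (nat_lit 29) Col.f (nat_lit 29) (Dv.wd (nat_lit 28) [Mv.b (nat_lit 66), Mv.f (nat_lit 15), Mv.f (nat_lit 37), Mv.f (nat_lit 66)]))))))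
(Tr.nd (nat_lit 70) (Tr.nd (nat_lit 69) (Tr.lf (Fc.ed (nat_lit 68) (nat_lit 12) Col.a (nat_lit 30) Dv.df))
(Tr.lf (Fc.ed (nat_lit 69) (nat_lit 30) Col.g (nat_lit 23) (Dv.wd (nat_lit 29) [Mv.b (nat_lit 54), Mv.f (nat_lit 27), Mv.f (nat_lit 68)]))))
(Tr.nd (nat_lit 71) (Tr.lf (Fc.ed (nat_lit 70) (nat_lit 30) Col.f (nat_lit 27) (Dv.wd (nat_lit 30) [Mv.b (nat_lit 61), Mv.b (nat_lit 13), Mv.f (nat_lit 27), Mv.f (nat_lit 68)])))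
(Tr.nd (nat_lit 72) (Tr.lf (Fc.ed (nat_lit 71) (nat_lit 12) Col.d (nat_lit 31) Dv.df))
(Tr.lf (Fc.ed (nat_lit 72) (nat_lit 12) Col.f (nat_lit 32) Dv.df))))))
(Tr.nd (nat_lit 78) (Tr.nd (nat_lit 75) (Tr.nd (nat_lit 74) (Tr.lf (Fc.ed (nat_lit 73) (nat_lit 32) Col.g (nat_lit 25) (Dv.wd (nat_lit 31) [Mv.f (nat_lit 59), Mv.b (nat_lit 69), Mv.b (nat_lit 68), Mv.f (nat_lit 72)])))
(Tr.lf (Fc.ed (nat_lit 74) (nat_lit 13) Col.d (nat_lit 33) Dv.df)))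
(Tr.nd (nat_lit 76) (Tr.lf (Fc.ed (nat_lit 75) (nat_lit 33) Col.b (nat_lit 31) (Dv.wd (nat_lit 16) [Mv.b (nat_lit 71), Mv.f (nat_lit 28), Mv.f (nat_lit 74)])))
(Tr.nd (nat_lit 77) (Tr.lf (Fc.ed (nat_lit 76) (nat_lit 33) Col.g (nat_lit 33) (Dv.wd (nat_lit 8) [Mv.b (nat_lit 74), Mv.f (nat_lit 38), Mv.f (nat_lit 74)])))
(Tr.lf (Fc.ed (nat_lit 77) (nat_lit 13) Col.f (nat_lit 34) Dv.df)))))
(Tr.nd (nat_lit 81) (Tr.nd (nat_lit 79) (Tr.lf (Fc.ed (nat_lit 78) (nat_lit 14) Col.d (nat_lit 35) Dv.df))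
(Tr.nd (nat_lit 80) (Tr.lf (Fc.ed (nat_lit 79) (nat_lit 35) Col.a (nat_lit 33) (Dv.wd (nat_lit 23) [Mv.b (nat_lit 74), Mv.f (nat_lit 29), Mv.f (nat_lit 78)])))
(Tr.lf (Fc.ed (nat_lit 80) (nat_lit 14) Col.f (nat_lit 36) Dv.df))))
(Tr.nd (nat_lit 82) (Tr.lf (Fc.ed (nat_lit 81) (nat_lit 36) Col.c (nat_lit 36) (Dv.wd (nat_lit 21) [Mv.b (nat_lit 80), Mv.f (nat_lit 53), Mv.f (nat_lit 80)])))
(Tr.nd (nat_lit 83) (Tr.lf (Fc.ed (nat_lit 82) (nat_lit 36) Col.g (nat_lit 34) (Dv.wd (nat_lit 31) [Mv.b (nat_lit 77), Mv.f (nat_lit 38), Mv.f (nat_lit 29), Mv.f (nat_lit 80)])))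
(Tr.lf (Fc.ed (nat_lit 83) (nat_lit 15) Col.a (nat_lit 37) Dv.df)))))))))
(Tr.nd (nat_lit 126) (Tr.nd (nat_lit 105) (Tr.nd (nat_lit 94) (Tr.nd (nat_lit 89) (Tr.nd (nat_lit 86) (Tr.nd (nat_lit 85) (Tr.lf (Fc.ed (nat_lit 84) (nat_lit 15) Col.d (nat_lit 38) Dv.df))
(Tr.lf (Fc.ed (nat_lit 85) (nat_lit 38) Col.b (nat_lit 35) (Dv.wd (nat_lit 16) [Mv.b (nat_lit 78), Mv.f (nat_lit 30), Mv.f (nat_lit 84)]))))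
(Tr.nd (nat_lit 87) (Tr.lf (Fc.ed (nat_lit 86) (nat_lit 15) Col.f (nat_lit 39) Dv.df))
(Tr.nd (nat_lit 88) (Tr.lf (Fc.ed (nat_lit 87) (nat_lit 16) Col.d (nat_lit 40) Dv.df))
(Tr.lf (Fc.ed (nat_lit 88) (nat_lit 40) Col.g (nat_lit 38) (Dv.wd (nat_lit 8) [Mv.b (nat_lit 84), Mv.f (nat_lit 31), Mv.f (nat_lit 87)]))))))
(Tr.nd (nat_lit 91) (Tr.nd (nat_lit 90) (Tr.lf (Fc.ed (nat_lit 89) (nat_lit 16) Col.f (nat_lit 41) Dv.df))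
(Tr.lf (Fc.ed (nat_lit 90) (nat_lit 20) Col.f (nat_lit 42) Dv.df)))
(Tr.nd (nat_lit 92) (Tr.lf (Fc.ed (nat_lit 91) (nat_lit 42) Col.a (nat_lit 21) (Dv.wd (nat_lit 32) [Mv.b (nat_lit 45), Mv.b (nat_lit 44), Mv.f (nat_lit 90)])))
(Tr.nd (nat_lit 93) (Tr.lf (Fc.ed (nat_lit 92) (nat_lit 42) Col.c (nat_lit 25) (Dv.wd (nat_lit 21) [Mv.f (nat_lit 59), Mv.f (nat_lit 55), Mv.f (nat_lit 90)])))
(Tr.lf (Fc.ed (nat_lit 93) (nat_lit 20) Col.g (nat_lit 43) Dv.df))))))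
(Tr.nd (nat_lit 99) (Tr.nd (nat_lit 96) (Tr.nd (nat_lit 95) (Tr.lf (Fc.ed (nat_lit 94) (nat_lit 43) Col.a (nat_lit 22) (Dv.wd (nat_lit 33) [Mv.b (nat_lit 48), Mv.b (nat_lit 44), Mv.f (nat_lit 93)])))
(Tr.lf (Fc.ed (nat_lit 95) (nat_lit 43) Col.c (nat_lit 30) (Dv.wd (nat_lit 22) [Mv.f (nat_lit 69), Mv.f (nat_lit 55), Mv.f (nat_lit 93)]))))
(Tr.nd (nat_lit 97) (Tr.lf (Fc.ed (nat_lit 96) (nat_lit 23) Col.d (nat_lit 44) Dv.df))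
(Tr.nd (nat_lit 98) (Tr.lf (Fc.ed (nat_lit 97) (nat_lit 44) Col.a (nat_lit 24) (Dv.wd (nat_lit 23) [Mv.b (nat_lit 56), Mv.f (nat_lit 54), Mv.f (nat_lit 96)])))
(Tr.lf (Fc.ed (nat_lit 98) (nat_lit 44) Col.c (nat_lit 24) (Dv.wd (nat_lit 17) [Mv.b (nat_lit 56), Mv.b (nat_lit 12), Mv.b (nat_lit 11), Mv.f (nat_lit 26), Mv.f (nat_lit 11), Mv.b (nat_lit 44), Mv.b (nat_lit 55), Mv.f (nat_lit 96)]))))))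
(Tr.nd (nat_lit 102) (Tr.nd (nat_lit 100) (Tr.lf (Fc.ed (nat_lit 99) (nat_lit 25) Col.b (nat_lit 45) Dv.df))
(Tr.nd (nat_lit 101) (Tr.lf (Fc.ed (nat_lit 100) (nat_lit 25) Col.d (nat_lit 46) Dv.df))
(Tr.lf (Fc.ed (nat_lit 101) (nat_lit 46) Col.a (nat_lit 26) (Dv.wd (nat_lit 23) [Mv.b (nat_lit 60), Mv.f (nat_lit 58), Mv.f (nat_lit 100)])))))
(Tr.nd (nat_lit 103) (Tr.lf (Fc.ed (nat_lit 102) (nat_lit 46) Col.f (nat_lit 44) (Dv.wd (nat_lit 10) [Mv.b (nat_lit 96), Mv.b (nat_lit 59), Mv.f (nat_lit 100)])))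
(Tr.nd (nat_lit 104) (Tr.lf (Fc.ed (nat_lit 103) (nat_lit 46) Col.c (nat_lit 26) (Dv.wd (nat_lit 17) [Mv.b (nat_lit 60), Mv.b (nat_lit 46), Mv.f (nat_lit 47), Mv.f (nat_lit 40), Mv.b (nat_lit 47), Mv.b (nat_lit 91), Mv.f (nat_lit 92), Mv.f (nat_lit 100)])))
(Tr.lf (Fc.ed (nat_lit 104) (nat_lit 26) Col.g (nat_lit 47) Dv.df)))))))
(Tr.nd (nat_lit 115) (Tr.nd (nat_lit 110) (Tr.nd (nat_lit 107) (Tr.nd (nat_lit 106) (Tr.lf (Fc.ed (nat_lit 105) (nat_lit 47) Col.d (nat_lit 27) (Dv.wd (nat_lit 25) [Mv.b (nat_lit 61), Mv.f (nat_lit 60), Mv.f (nat_lit 104)])))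
(Tr.lf (Fc.ed (nat_lit 106) (nat_lit 27) Col.b (nat_lit 48) Dv.df)))
(Tr.nd (nat_lit 108) (Tr.lf (Fc.ed (nat_lit 107) (nat_lit 28) Col.c (nat_lit 49) Dv.df))
(Tr.nd (nat_lit 109) (Tr.lf (Fc.ed (nat_lit 108) (nat_lit 49) Col.a (nat_lit 49) (Dv.wd (nat_lit 34) [Mv.b (nat_lit 107), Mv.f (nat_lit 63), Mv.f (nat_lit 107)])))
(Tr.lf (Fc.ed (nat_lit 109) (nat_lit 49) Col.f (nat_lit 49) (Dv.wd (nat_lit 35) [Mv.b (nat_lit 107), Mv.f (nat_lit 65), Mv.f (nat_lit 107)]))))))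
(Tr.nd (nat_lit 112) (Tr.nd (nat_lit 111) (Tr.lf (Fc.ed (nat_lit 110) (nat_lit 28) Col.g (nat_lit 50) Dv.df))
(Tr.lf (Fc.ed (nat_lit 111) (nat_lit 29) Col.b (nat_lit 51) Dv.df)))
(Tr.nd (nat_lit 113) (Tr.lf (Fc.ed (nat_lit 112) (nat_lit 51) Col.g (nat_lit 48) (Dv.wd (nat_lit 36) [Mv.b (nat_lit 106), Mv.b (nat_lit 61), Mv.f (nat_lit 14), Mv.f (nat_lit 66), Mv.f (nat_lit 111)])))
(Tr.nd (nat_lit 114) (Tr.lf (Fc.ed (nat_lit 113) (nat_lit 30) Col.b (nat_lit 52) Dv.df))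
(Tr.lf (Fc.ed (nat_lit 114) (nat_lit 30) Col.d (nat_lit 53) Dv.df))))))
(Tr.nd (nat_lit 120) (Tr.nd (nat_lit 117) (Tr.nd (nat_lit 116) (Tr.lf (Fc.ed (nat_lit 115) (nat_lit 53) Col.a (nat_lit 31) (Dv.wd (nat_lit 23) [Mv.b (nat_lit 71), Mv.f (nat_lit 68), Mv.f (nat_lit 114)])))
(Tr.lf (Fc.ed (nat_lit 116) (nat_lit 53) Col.f (nat_lit 47) (Dv.wd (nat_lit 10) [Mv.f (nat_lit 105), Mv.b (nat_lit 70), Mv.f (nat_lit 114)]))))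
(Tr.nd (nat_lit 118) (Tr.lf (Fc.ed (nat_lit 117) (nat_lit 53) Col.g (nat_lit 44) (Dv.wd (nat_lit 8) [Mv.b (nat_lit 96), Mv.b (nat_lit 69), Mv.f (nat_lit 114)])))
(Tr.nd (nat_lit 119) (Tr.lf (Fc.ed (nat_lit 118) (nat_lit 53) Col.c (nat_lit 31) (Dv.wd (nat_lit 17) [Mv.b (nat_lit 71), Mv.b (nat_lit 49), Mv.f (nat_lit 50), Mv.f (nat_lit 42), Mv.b (nat_lit 50), Mv.b (nat_lit 94), Mv.f (nat_lit 95), Mv.f (nat_lit 114)])))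
(Tr.lf (Fc.ed (nat_lit 119) (nat_lit 31) Col.f (nat_lit 54) Dv.df)))))
(Tr.nd (nat_lit 123) (Tr.nd (nat_lit 121) (Tr.lf (Fc.ed (nat_lit 120) (nat_lit 54) Col.c (nat_lit 47) (Dv.wd (nat_lit 21) [Mv.b (nat_lit 116), Mv.f (nat_lit 118), Mv.f (nat_lit 119)])))
(Tr.nd (nat_lit 122) (Tr.lf (Fc.ed (nat_lit 121) (nat_lit 54) Col.g (nat_lit 46) (Dv.wd (nat_lit 31) [Mv.f (nat_lit 102), Mv.b (nat_lit 117), Mv.f (nat_lit 115), Mv.f (nat_lit 119)])))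
(Tr.lf (Fc.ed (nat_lit 122) (nat_lit 32) Col.b (nat_lit 55) Dv.df))))
(Tr.nd (nat_lit 124) (Tr.lf (Fc.ed (nat_lit 123) (nat_lit 33) Col.c (nat_lit 56) Dv.df))
(Tr.nd (nat_lit 125) (Tr.lf (Fc.ed (nat_lit 124) (nat_lit 56) Col.g (nat_lit 56) (Dv.wd (nat_lit 9) [Mv.b (nat_lit 123), Mv.f (nat_lit 76), Mv.f (nat_lit 123)])))
(Tr.lf (Fc.ed (nat_lit 125) (nat_lit 33) Col.f (nat_lit 57) Dv.df))))))))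
(Tr.nd (nat_lit 147) (Tr.nd (nat_lit 136) (Tr.nd (nat_lit 131) (Tr.nd (nat_lit 128) (Tr.nd (nat_lit 127) (Tr.lf (Fc.ed (nat_lit 126) (nat_lit 34) Col.b (nat_lit 58) Dv.df))
(Tr.lf (Fc.ed (nat_lit 127) (nat_lit 58) Col.f (nat_lit 55) (Dv.wd (nat_lit 37) [Mv.b (nat_lit 122), Mv.b (nat_lit 72), Mv.f (nat_lit 28), Mv.f (nat_lit 77), Mv.f (nat_lit 126)]))))
(Tr.nd (nat_lit 129) (Tr.lf (Fc.ed (nat_lit 128) (nat_lit 35) Col.c (nat_lit 59) Dv.df))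
(Tr.nd (nat_lit 130) (Tr.lf (Fc.ed (nat_lit 129) (nat_lit 59) Col.a (nat_lit 56) (Dv.wd (nat_lit 34) [Mv.b (nat_lit 123), Mv.b (nat_lit 79), Mv.f (nat_lit 128)])))
(Tr.lf (Fc.ed (nat_lit 130) (nat_lit 35) Col.f (nat_lit 60) Dv.df)))))
(Tr.nd (nat_lit 133) (Tr.nd (nat_lit 132) (Tr.lf (Fc.ed (nat_lit 131) (nat_lit 60) Col.d (nat_lit 36) (Dv.wd (nat_lit 24) [Mv.b (nat_lit 80), Mv.f (nat_lit 78), Mv.f (nat_lit 130)])))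
(Tr.lf (Fc.ed (nat_lit 132) (nat_lit 60) Col.g (nat_lit 57) (Dv.wd (nat_lit 31) [Mv.b (nat_lit 125), Mv.f (nat_lit 76), Mv.b (nat_lit 79), Mv.f (nat_lit 130)]))))
(Tr.nd (nat_lit 134) (Tr.lf (Fc.ed (nat_lit 133) (nat_lit 36) Col.b (nat_lit 61) Dv.df))
(Tr.nd (nat_lit 135) (Tr.lf (Fc.ed (nat_lit 134) (nat_lit 37) Col.b (nat_lit 62) Dv.df))
(Tr.lf (Fc.ed (nat_lit 135) (nat_lit 37) Col.d (nat_lit 63) Dv.df))))))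
(Tr.nd (nat_lit 141) (Tr.nd (nat_lit 138) (Tr.nd (nat_lit 137) (Tr.lf (Fc.ed (nat_lit 136) (nat_lit 63) Col.a (nat_lit 38) (Dv.wd (nat_lit 23) [Mv.b (nat_lit 84), Mv.f (nat_lit 83), Mv.f (nat_lit 135)])))
(Tr.lf (Fc.ed (nat_lit 137) (nat_lit 37) Col.f (nat_lit 64) Dv.df)))
(Tr.nd (nat_lit 139) (Tr.lf (Fc.ed (nat_lit 138) (nat_lit 64) Col.g (nat_lit 41) (Dv.wd (nat_lit 31) [Mv.b (nat_lit 89), Mv.b (nat_lit 31), Mv.f (nat_lit 83), Mv.f (nat_lit 137)])))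
(Tr.nd (nat_lit 140) (Tr.lf (Fc.ed (nat_lit 139) (nat_lit 38) Col.c (nat_lit 65) Dv.df))
(Tr.lf (Fc.ed (nat_lit 140) (nat_lit 39) Col.b (nat_lit 66) Dv.df)))))
(Tr.nd (nat_lit 144) (Tr.nd (nat_lit 142) (Tr.lf (Fc.ed (nat_lit 141) (nat_lit 66) Col.f (nat_lit 61) (Dv.wd (nat_lit 37) [Mv.b (nat_lit 133), Mv.b (nat_lit 80), Mv.f (nat_lit 30), Mv.f (nat_lit 86), Mv.f (nat_lit 140)])))
(Tr.nd (nat_lit 143) (Tr.lf (Fc.ed (nat_lit 142) (nat_lit 40) Col.c (nat_lit 67) Dv.df))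
(Tr.lf (Fc.ed (nat_lit 143) (nat_lit 67) Col.g (nat_lit 65) (Dv.wd (nat_lit 9) [Mv.b (nat_lit 139), Mv.b (nat_lit 88), Mv.f (nat_lit 142)])))))
(Tr.nd (nat_lit 145) (Tr.lf (Fc.ed (nat_lit 144) (nat_lit 40) Col.f (nat_lit 68) Dv.df))
(Tr.nd (nat_lit 146) (Tr.lf (Fc.ed (nat_lit 145) (nat_lit 68) Col.d (nat_lit 41) (Dv.wd (nat_lit 24) [Mv.b (nat_lit 89), Mv.f (nat_lit 87), Mv.f (nat_lit 144)])))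
(Tr.lf (Fc.ed (nat_lit 146) (nat_lit 41) Col.b (nat_lit 69) Dv.df)))))))
(Tr.nd (nat_lit 158) (Tr.nd (nat_lit 152) (Tr.nd (nat_lit 149) (Tr.nd (nat_lit 148) (Tr.lf (Fc.ed (nat_lit 147) (nat_lit 45) Col.a (nat_lit 70) Dv.df))
(Tr.lf (Fc.ed (nat_lit 148) (nat_lit 45) Col.d (nat_lit 71) Dv.df)))
(Tr.nd (nat_lit 150) (Tr.lf (Fc.ed (nat_lit 149) (nat_lit 71) Col.b (nat_lit 46) (Dv.wd (nat_lit 16) [Mv.b (nat_lit 100), Mv.f (nat_lit 99), Mv.f (nat_lit 148)])))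
(Tr.nd (nat_lit 151) (Tr.lf (Fc.ed (nat_lit 150) (nat_lit 45) Col.g (nat_lit 72) Dv.df))
(Tr.lf (Fc.ed (nat_lit 151) (nat_lit 47) Col.b (nat_lit 73) Dv.df)))))
(Tr.nd (nat_lit 155) (Tr.nd (nat_lit 153) (Tr.lf (Fc.ed (nat_lit 152) (nat_lit 48) Col.f (nat_lit 74) Dv.df))
(Tr.nd (nat_lit 154) (Tr.lf (Fc.ed (nat_lit 153) (nat_lit 49) Col.b (nat_lit 75) Dv.df))
(Tr.lf (Fc.ed (nat_lit 154) (nat_lit 75) Col.c (nat_lit 71) (Dv.wd (nat_lit 38) [Mv.f (nat_lit 149), Mv.f (nat_lit 103), Mv.b (nat_lit 64), Mv.f (nat_lit 107), Mv.f (nat_lit 153)])))))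
(Tr.nd (nat_lit 156) (Tr.lf (Fc.ed (nat_lit 155) (nat_lit 49) Col.d (nat_lit 76) Dv.df))
(Tr.nd (nat_lit 157) (Tr.lf (Fc.ed (nat_lit 156) (nat_lit 49) Col.g (nat_lit 77) Dv.df))
(Tr.lf (Fc.ed (nat_lit 157) (nat_lit 77) Col.c (nat_lit 50) (Dv.wd (nat_lit 22) [Mv.b (nat_lit 110), Mv.f (nat_lit 107), Mv.f (nat_lit 156)])))))))
(Tr.nd (nat_lit 163) (Tr.nd (nat_lit 160) (Tr.nd (nat_lit 159) (Tr.lf (Fc.ed (nat_lit 158) (nat_lit 50) Col.b (nat_lit 78) Dv.df))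
(Tr.lf (Fc.ed (nat_lit 159) (nat_lit 78) Col.g (nat_lit 73) (Dv.wd (nat_lit 36) [Mv.b (nat_lit 151), Mv.b (nat_lit 104), Mv.b (nat_lit 64), Mv.f (nat_lit 110), Mv.f (nat_lit 158)]))))
(Tr.nd (nat_lit 161) (Tr.lf (Fc.ed (nat_lit 160) (nat_lit 52) Col.a (nat_lit 79) Dv.df))
(Tr.nd (nat_lit 162) (Tr.lf (Fc.ed (nat_lit 161) (nat_lit 52) Col.c (nat_lit 80) Dv.df))
(Tr.lf (Fc.ed (nat_lit 162) (nat_lit 52) Col.d (nat_lit 81) Dv.df)))))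
(Tr.nd (nat_lit 166) (Tr.nd (nat_lit 164) (Tr.lf (Fc.ed (nat_lit 163) (nat_lit 81) Col.b (nat_lit 53) (Dv.wd (nat_lit 16) [Mv.b (nat_lit 114), Mv.f (nat_lit 113), Mv.f (nat_lit 162)])))
(Tr.nd (nat_lit 165) (Tr.lf (Fc.ed (nat_lit 164) (nat_lit 52) Col.f (nat_lit 82) Dv.df))
(Tr.lf (Fc.ed (nat_lit 165) (nat_lit 82) Col.b (nat_lit 74) (Dv.wd (nat_lit 39) [Mv.b (nat_lit 152), Mv.b (nat_lit 106), Mv.b (nat_lit 70), Mv.f (nat_lit 113), Mv.f (nat_lit 164)])))))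
(Tr.nd (nat_lit 167) (Tr.lf (Fc.ed (nat_lit 166) (nat_lit 66) Col.g (nat_lit 82) (Dv.wd (nat_lit 40) [Mv.f (nat_lit 165), Mv.b (nat_lit 152), Mv.b (nat_lit 112), Mv.b (nat_lit 111), Mv.f (nat_lit 67), Mv.b (nat_lit 66), Mv.b (nat_lit 14), Mv.b (nat_lit 13), Mv.f (nat_lit 27), Mv.f (nat_lit 28), Mv.f (nat_lit 77), Mv.b (nat_lit 82), Mv.f (nat_lit 133), Mv.b (nat_lit 141)])))
(Tr.nd (nat_lit 168) (Tr.lf (Fc.ed (nat_lit 167) (nat_lit 79) Col.g (nat_lit 61) (Dv.wd (nat_lit 41) [Mv.b (nat_lit 141), Mv.f (nat_lit 166), Mv.b (nat_lit 164), Mv.f (nat_lit 160)])))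
(Tr.lf (Fc.ed (nat_lit 168) (nat_lit 54) Col.b (nat_lit 83) Dv.df))))))))))
(Tr.nd (nat_lit 254) (Tr.nd (nat_lit 211) (Tr.nd (nat_lit 190) (Tr.nd (nat_lit 179) (Tr.nd (nat_lit 174) (Tr.nd (nat_lit 171) (Tr.nd (nat_lit 170) (Tr.lf (Fc.ed (nat_lit 169) (nat_lit 55) Col.g (nat_lit 84) Dv.df))
(Tr.lf (Fc.ed (nat_lit 170) (nat_lit 84) Col.b (nat_lit 72) (Dv.wd (nat_lit 26) [Mv.b (nat_lit 150), Mv.b (nat_lit 99), Mv.b (nat_lit 73), Mv.f (nat_lit 122), Mv.f (nat_lit 169)]))))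
(Tr.nd (nat_lit 172) (Tr.lf (Fc.ed (nat_lit 171) (nat_lit 56) Col.b (nat_lit 85) Dv.df))
(Tr.nd (nat_lit 173) (Tr.lf (Fc.ed (nat_lit 172) (nat_lit 85) Col.c (nat_lit 81) (Dv.wd (nat_lit 38) [Mv.f (nat_lit 163), Mv.f (nat_lit 118), Mv.b (nat_lit 75), Mv.f (nat_lit 123), Mv.f (nat_lit 171)])))
(Tr.lf (Fc.ed (nat_lit 173) (nat_lit 56) Col.d (nat_lit 86) Dv.df)))))
(Tr.nd (nat_lit 176) (Tr.nd (nat_lit 175) (Tr.lf (Fc.ed (nat_lit 174) (nat_lit 56) Col.f (nat_lit 87) Dv.df))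
(Tr.lf (Fc.ed (nat_lit 175) (nat_lit 87) Col.c (nat_lit 57) (Dv.wd (nat_lit 21) [Mv.b (nat_lit 125), Mv.f (nat_lit 123), Mv.f (nat_lit 174)]))))
(Tr.nd (nat_lit 177) (Tr.lf (Fc.ed (nat_lit 176) (nat_lit 57) Col.b (nat_lit 88) Dv.df))
(Tr.nd (nat_lit 178) (Tr.lf (Fc.ed (nat_lit 177) (nat_lit 88) Col.f (nat_lit 83) (Dv.wd (nat_lit 37) [Mv.b (nat_lit 168), Mv.b (nat_lit 119), Mv.b (nat_lit 75), Mv.f (nat_lit 125), Mv.f (nat_lit 176)])))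
(Tr.lf (Fc.ed (nat_lit 178) (nat_lit 58) Col.g (nat_lit 89) Dv.df))))))
(Tr.nd (nat_lit 184) (Tr.nd (nat_lit 181) (Tr.nd (nat_lit 180) (Tr.lf (Fc.ed (nat_lit 179) (nat_lit 89) Col.b (nat_lit 79) (Dv.wd (nat_lit 26) [Mv.f (nat_lit 167), Mv.b (nat_lit 133), Mv.f (nat_lit 82), Mv.f (nat_lit 126), Mv.f (nat_lit 178)])))
(Tr.lf (Fc.ed (nat_lit 180) (nat_lit 62) Col.a (nat_lit 89) (Dv.wd (nat_lit 42) [Mv.f (nat_lit 179), Mv.b (nat_lit 160), Mv.b (nat_lit 113), Mv.b (nat_lit 68), Mv.f (nat_lit 28), Mv.f (nat_lit 29), Mv.f (nat_lit 30), Mv.f (nat_lit 83), Mv.f (nat_lit 134)]))))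
(Tr.nd (nat_lit 182) (Tr.lf (Fc.ed (nat_lit 181) (nat_lit 84) Col.f (nat_lit 62) (Dv.wd (nat_lit 43) [Mv.f (nat_lit 180), Mv.b (nat_lit 178), Mv.f (nat_lit 127), Mv.f (nat_lit 169)])))
(Tr.nd (nat_lit 183) (Tr.lf (Fc.ed (nat_lit 182) (nat_lit 59) Col.b (nat_lit 90) Dv.df))
(Tr.lf (Fc.ed (nat_lit 183) (nat_lit 59) Col.d (nat_lit 91) Dv.df)))))
(Tr.nd (nat_lit 187) (Tr.nd (nat_lit 185) (Tr.lf (Fc.ed (nat_lit 184) (nat_lit 91) Col.c (nat_lit 86) (Dv.wd (nat_lit 17) [Mv.b (nat_lit 173), Mv.b (nat_lit 123), Mv.b (nat_lit 74), Mv.f (nat_lit 52), Mv.f (nat_lit 74), Mv.b (nat_lit 79), Mv.f (nat_lit 128), Mv.f (nat_lit 183)])))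
(Tr.nd (nat_lit 186) (Tr.lf (Fc.ed (nat_lit 185) (nat_lit 59) Col.f (nat_lit 92) Dv.df))
(Tr.lf (Fc.ed (nat_lit 186) (nat_lit 92) Col.g (nat_lit 87) (Dv.wd (nat_lit 31) [Mv.b (nat_lit 174), Mv.f (nat_lit 124), Mv.b (nat_lit 129), Mv.f (nat_lit 185)])))))
(Tr.nd (nat_lit 188) (Tr.lf (Fc.ed (nat_lit 187) (nat_lit 60) Col.b (nat_lit 93) Dv.df))
(Tr.nd (nat_lit 189) (Tr.lf (Fc.ed (nat_lit 188) (nat_lit 93) Col.d (nat_lit 61) (Dv.wd (nat_lit 44) [Mv.b (nat_lit 133), Mv.b (nat_lit 131), Mv.f (nat_lit 187)])))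
(Tr.lf (Fc.ed (nat_lit 189) (nat_lit 61) Col.c (nat_lit 94) Dv.df)))))))
(Tr.nd (nat_lit 200) (Tr.nd (nat_lit 195) (Tr.nd (nat_lit 192) (Tr.nd (nat_lit 191) (Tr.lf (Fc.ed (nat_lit 190) (nat_lit 94) Col.b (nat_lit 94) (Dv.wd (nat_lit 45) [Mv.b (nat_lit 189), Mv.b (nat_lit 133), Mv.f (nat_lit 81), Mv.f (nat_lit 133), Mv.f (nat_lit 189)])))
(Tr.lf (Fc.ed (nat_lit 191) (nat_lit 62) Col.d (nat_lit 95) Dv.df)))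
(Tr.nd (nat_lit 193) (Tr.lf (Fc.ed (nat_lit 192) (nat_lit 95) Col.b (nat_lit 63) (Dv.wd (nat_lit 16) [Mv.b (nat_lit 135), Mv.f (nat_lit 134), Mv.f (nat_lit 191)])))
(Tr.nd (nat_lit 194) (Tr.lf (Fc.ed (nat_lit 193) (nat_lit 63) Col.c (nat_lit 96) Dv.df))
(Tr.lf (Fc.ed (nat_lit 194) (nat_lit 96) Col.a (nat_lit 65) (Dv.wd (nat_lit 34) [Mv.b (nat_lit 139), Mv.b (nat_lit 136), Mv.f (nat_lit 193)]))))))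
(Tr.nd (nat_lit 197) (Tr.nd (nat_lit 196) (Tr.lf (Fc.ed (nat_lit 195) (nat_lit 63) Col.f (nat_lit 97) Dv.df))
(Tr.lf (Fc.ed (nat_lit 196) (nat_lit 97) Col.g (nat_lit 68) (Dv.wd (nat_lit 31) [Mv.b (nat_lit 144), Mv.f (nat_lit 88), Mv.b (nat_lit 136), Mv.f (nat_lit 195)]))))
(Tr.nd (nat_lit 198) (Tr.lf (Fc.ed (nat_lit 197) (nat_lit 64) Col.b (nat_lit 98) Dv.df))
(Tr.nd (nat_lit 199) (Tr.lf (Fc.ed (nat_lit 198) (nat_lit 98) Col.f (nat_lit 72) (Dv.wd (nat_lit 37) [Mv.b (nat_lit 170), Mv.f (nat_lit 181), Mv.b (nat_lit 134), Mv.f (nat_lit 137), Mv.f (nat_lit 197)])))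
(Tr.lf (Fc.ed (nat_lit 199) (nat_lit 65) Col.b (nat_lit 99) Dv.df))))))
(Tr.nd (nat_lit 205) (Tr.nd (nat_lit 202) (Tr.nd (nat_lit 201) (Tr.lf (Fc.ed (nat_lit 200) (nat_lit 99) Col.c (nat_lit 90) (Dv.wd (nat_lit 38) [Mv.b (nat_lit 182), Mv.b (nat_lit 128), Mv.b (nat_lit 85), Mv.f (nat_lit 139), Mv.f (nat_lit 199)])))
(Tr.lf (Fc.ed (nat_lit 201) (nat_lit 65) Col.f (nat_lit 100) Dv.df)))
(Tr.nd (nat_lit 203) (Tr.lf (Fc.ed (nat_lit 202) (nat_lit 67) Col.f (nat_lit 101) Dv.df))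
(Tr.nd (nat_lit 204) (Tr.lf (Fc.ed (nat_lit 203) (nat_lit 101) Col.c (nat_lit 68) (Dv.wd (nat_lit 21) [Mv.b (nat_lit 144), Mv.f (nat_lit 142), Mv.f (nat_lit 202)])))
(Tr.lf (Fc.ed (nat_lit 204) (nat_lit 68) Col.b (nat_lit 102) Dv.df)))))
(Tr.nd (nat_lit 208) (Tr.nd (nat_lit 206) (Tr.lf (Fc.ed (nat_lit 205) (nat_lit 102) Col.d (nat_lit 69) (Dv.wd (nat_lit 44) [Mv.b (nat_lit 146), Mv.b (nat_lit 145), Mv.f (nat_lit 204)])))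
(Tr.nd (nat_lit 207) (Tr.lf (Fc.ed (nat_lit 206) (nat_lit 69) Col.g (nat_lit 103) Dv.df))
(Tr.lf (Fc.ed (nat_lit 207) (nat_lit 70) Col.d (nat_lit 104) Dv.df))))
(Tr.nd (nat_lit 209) (Tr.lf (Fc.ed (nat_lit 208) (nat_lit 104) Col.a (nat_lit 71) (Dv.wd (nat_lit 23) [Mv.b (nat_lit 148), Mv.f (nat_lit 147), Mv.f (nat_lit 207)])))
(Tr.nd (nat_lit 210) (Tr.lf (Fc.ed (nat_lit 209) (nat_lit 70) Col.f (nat_lit 105) Dv.df))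
(Tr.lf (Fc.ed (nat_lit 210) (nat_lit 105) Col.g (nat_lit 98) (Dv.wd (nat_lit 31) [Mv.f (nat_lit 198), Mv.b (nat_lit 150), Mv.f (nat_lit 147), Mv.f (nat_lit 209)])))))))))
(Tr.nd (nat_lit 232) (Tr.nd (nat_lit 221) (Tr.nd (nat_lit 216) (Tr.nd (nat_lit 213) (Tr.nd (nat_lit 212) (Tr.lf (Fc.ed (nat_lit 211) (nat_lit 103) Col.b (nat_lit 105) (Dv.wd (nat_lit 46) [Mv.f (nat_lit 210), Mv.b (nat_lit 197), Mv.f (nat_lit 138), Mv.f (nat_lit 146), Mv.f (nat_lit 206)])))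
(Tr.lf (Fc.ed (nat_lit 212) (nat_lit 71) Col.f (nat_lit 106) Dv.df)))
(Tr.nd (nat_lit 214) (Tr.lf (Fc.ed (nat_lit 213) (nat_lit 106) Col.a (nat_lit 75) (Dv.wd (nat_lit 47) [Mv.b (nat_lit 153), Mv.b (nat_lit 107), Mv.f (nat_lit 65), Mv.f (nat_lit 63), Mv.f (nat_lit 64), Mv.b (nat_lit 103), Mv.f (nat_lit 102), Mv.f (nat_lit 97), Mv.f (nat_lit 57), Mv.b (nat_lit 98), Mv.b (nat_lit 102), Mv.f (nat_lit 101), Mv.b (nat_lit 64), Mv.f (nat_lit 107), Mv.f (nat_lit 109), Mv.f (nat_lit 108), Mv.f (nat_lit 153), Mv.f (nat_lit 154), Mv.f (nat_lit 212)])))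
(Tr.nd (nat_lit 215) (Tr.lf (Fc.ed (nat_lit 214) (nat_lit 104) Col.f (nat_lit 75) (Dv.wd (nat_lit 27) [Mv.b (nat_lit 213), Mv.b (nat_lit 212), Mv.b (nat_lit 208)])))
(Tr.lf (Fc.ed (nat_lit 215) (nat_lit 75) Col.d (nat_lit 105) (Dv.wd (nat_lit 24) [Mv.b (nat_lit 209), Mv.f (nat_lit 207), Mv.f (nat_lit 214)]))))))
(Tr.nd (nat_lit 218) (Tr.nd (nat_lit 217) (Tr.lf (Fc.al (nat_lit 216) (nat_lit 103) (nat_lit 76) (Dv.wd (nat_lit 44) [Mv.b (nat_lit 155), Mv.f (nat_lit 153), Mv.f (nat_lit 215), Mv.b (nat_lit 211)])))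
(Tr.lf (Fc.ed (nat_lit 217) (nat_lit 76) Col.g (nat_lit 69) (Dv.wd (nat_lit 48) [Mv.f (nat_lit 206), Mv.f (nat_lit 216)]))))
(Tr.nd (nat_lit 219) (Tr.lf (Fc.al (nat_lit 218) (nat_lit 102) (nat_lit 77) (Dv.wd (nat_lit 8) [Mv.b (nat_lit 156), Mv.f (nat_lit 155), Mv.f (nat_lit 217), Mv.b (nat_lit 205)])))
(Tr.nd (nat_lit 220) (Tr.lf (Fc.ed (nat_lit 219) (nat_lit 77) Col.b (nat_lit 68) (Dv.wd (nat_lit 49) [Mv.f (nat_lit 204), Mv.f (nat_lit 218)])))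
(Tr.lf (Fc.ed (nat_lit 220) (nat_lit 71) Col.g (nat_lit 107) Dv.df))))))
(Tr.nd (nat_lit 226) (Tr.nd (nat_lit 223) (Tr.nd (nat_lit 222) (Tr.lf (Fc.ed (nat_lit 221) (nat_lit 73) Col.c (nat_lit 108) Dv.df))
(Tr.lf (Fc.ed (nat_lit 222) (nat_lit 73) Col.f (nat_lit 109) Dv.df)))
(Tr.nd (nat_lit 224) (Tr.lf (Fc.ed (nat_lit 223) (nat_lit 75) Col.g (nat_lit 110) Dv.df))
(Tr.nd (nat_lit 225) (Tr.lf (Fc.ed (nat_lit 224) (nat_lit 110) Col.f (nat_lit 107) (Dv.wd (nat_lit 28) [Mv.b (nat_lit 220), Mv.b (nat_lit 208), Mv.f (nat_lit 214), Mv.f (nat_lit 223)])))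
(Tr.lf (Fc.ed (nat_lit 225) (nat_lit 110) Col.b (nat_lit 97) (Dv.wd (nat_lit 26) [Mv.f (nat_lit 196), Mv.b (nat_lit 219), Mv.b (nat_lit 156), Mv.f (nat_lit 153), Mv.f (nat_lit 223)]))))))
(Tr.nd (nat_lit 229) (Tr.nd (nat_lit 227) (Tr.lf (Fc.ed (nat_lit 226) (nat_lit 78) Col.c (nat_lit 111) Dv.df))
(Tr.nd (nat_lit 228) (Tr.lf (Fc.ed (nat_lit 227) (nat_lit 111) Col.g (nat_lit 108) (Dv.wd (nat_lit 9) [Mv.b (nat_lit 221), Mv.b (nat_lit 159), Mv.f (nat_lit 226)])))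
(Tr.lf (Fc.ed (nat_lit 228) (nat_lit 111) Col.b (nat_lit 101) (Dv.wd (nat_lit 45) [Mv.f (nat_lit 203), Mv.b (nat_lit 219), Mv.f (nat_lit 157), Mv.f (nat_lit 158), Mv.f (nat_lit 226)])))))
(Tr.nd (nat_lit 230) (Tr.lf (Fc.ed (nat_lit 229) (nat_lit 79) Col.c (nat_lit 112) Dv.df))
(Tr.nd (nat_lit 231) (Tr.lf (Fc.ed (nat_lit 230) (nat_lit 112) Col.a (nat_lit 80) (Dv.wd (nat_lit 34) [Mv.b (nat_lit 161), Mv.f (nat_lit 160), Mv.f (nat_lit 229)])))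
(Tr.lf (Fc.ed (nat_lit 231) (nat_lit 112) Col.g (nat_lit 94) (Dv.wd (nat_lit 9) [Mv.b (nat_lit 189), Mv.b (nat_lit 167), Mv.f (nat_lit 229)]))))))))
(Tr.nd (nat_lit 243) (Tr.nd (nat_lit 237) (Tr.nd (nat_lit 234) (Tr.nd (nat_lit 233) (Tr.lf (Fc.ed (nat_lit 232) (nat_lit 79) Col.d (nat_lit 113) Dv.df))
(Tr.lf (Fc.ed (nat_lit 233) (nat_lit 113) Col.a (nat_lit 81) (Dv.wd (nat_lit 23) [Mv.b (nat_lit 162), Mv.f (nat_lit 160), Mv.f (nat_lit 232)]))))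
(Tr.nd (nat_lit 235) (Tr.lf (Fc.ed (nat_lit 234) (nat_lit 113) Col.g (nat_lit 93) (Dv.wd (nat_lit 8) [Mv.f (nat_lit 188), Mv.b (nat_lit 167), Mv.f (nat_lit 232)])))
(Tr.nd (nat_lit 236) (Tr.lf (Fc.ed (nat_lit 235) (nat_lit 80) Col.d (nat_lit 114) Dv.df))
(Tr.lf (Fc.ed (nat_lit 236) (nat_lit 81) Col.f (nat_lit 115) Dv.df)))))
(Tr.nd (nat_lit 240) (Tr.nd (nat_lit 238) (Tr.lf (Fc.ed (nat_lit 237) (nat_lit 115) Col.b (nat_lit 109) (Dv.wd (nat_lit 39) [Mv.b (nat_lit 222), Mv.b (nat_lit 151), Mv.b (nat_lit 116), Mv.b (nat_lit 163), Mv.f (nat_lit 236)])))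
(Tr.nd (nat_lit 239) (Tr.lf (Fc.ed (nat_lit 238) (nat_lit 83) Col.c (nat_lit 116) Dv.df))
(Tr.lf (Fc.ed (nat_lit 239) (nat_lit 116) Col.b (nat_lit 108) (Dv.wd (nat_lit 45) [Mv.b (nat_lit 221), Mv.b (nat_lit 151), Mv.b (nat_lit 120), Mv.f (nat_lit 168), Mv.f (nat_lit 238)])))))
(Tr.nd (nat_lit 241) (Tr.lf (Fc.ed (nat_lit 240) (nat_lit 83) Col.g (nat_lit 117) Dv.df))
(Tr.nd (nat_lit 242) (Tr.lf (Fc.ed (nat_lit 241) (nat_lit 117) Col.b (nat_lit 107) (Dv.wd (nat_lit 26) [Mv.b (nat_lit 220), Mv.f (nat_lit 149), Mv.b (nat_lit 121), Mv.f (nat_lit 168), Mv.f (nat_lit 240)])))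
(Tr.lf (Fc.ed (nat_lit 242) (nat_lit 95) Col.f (nat_lit 117) (Dv.wd (nat_lit 50) [Mv.f (nat_lit 241), Mv.b (nat_lit 224), Mv.f (nat_lit 225), Mv.b (nat_lit 195), Mv.b (nat_lit 192)])))))))
(Tr.nd (nat_lit 248) (Tr.nd (nat_lit 245) (Tr.nd (nat_lit 244) (Tr.lf (Fc.ed (nat_lit 243) (nat_lit 85) Col.a (nat_lit 118) Dv.df))
(Tr.lf (Fc.ed (nat_lit 244) (nat_lit 118) Col.c (nat_lit 113) (Dv.wd (nat_lit 15) [Mv.f (nat_lit 233), Mv.b (nat_lit 172), Mv.f (nat_lit 243)]))))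
(Tr.nd (nat_lit 246) (Tr.lf (Fc.ed (nat_lit 245) (nat_lit 85) Col.d (nat_lit 119) Dv.df))
(Tr.nd (nat_lit 247) (Tr.lf (Fc.ed (nat_lit 246) (nat_lit 119) Col.b (nat_lit 86) (Dv.wd (nat_lit 16) [Mv.b (nat_lit 173), Mv.f (nat_lit 171), Mv.f (nat_lit 245)])))
(Tr.lf (Fc.ed (nat_lit 247) (nat_lit 85) Col.f (nat_lit 120) Dv.df)))))
(Tr.nd (nat_lit 251) (Tr.nd (nat_lit 249) (Tr.lf (Fc.ed (nat_lit 248) (nat_lit 120) Col.c (nat_lit 115) (Dv.wd (nat_lit 21) [Mv.b (nat_lit 236), Mv.b (nat_lit 172), Mv.f (nat_lit 247)])))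
(Tr.nd (nat_lit 250) (Tr.lf (Fc.ed (nat_lit 249) (nat_lit 87) Col.b (nat_lit 121) Dv.df))
(Tr.lf (Fc.ed (nat_lit 250) (nat_lit 88) Col.a (nat_lit 122) Dv.df))))
(Tr.nd (nat_lit 252) (Tr.lf (Fc.ed (nat_lit 251) (nat_lit 122) Col.g (nat_lit 95) (Dv.wd (nat_lit 41) [Mv.f (nat_lit 242), Mv.b (nat_lit 240), Mv.b (nat_lit 177), Mv.f (nat_lit 250)])))
(Tr.nd (nat_lit 253) (Tr.lf (Fc.ed (nat_lit 252) (nat_lit 88) Col.c (nat_lit 123) Dv.df))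
(Tr.lf (Fc.ed (nat_lit 253) (nat_lit 123) Col.f (nat_lit 116) (Dv.wd (nat_lit 35) [Mv.b (nat_lit 238), Mv.b (nat_lit 177), Mv.f (nat_lit 252)]))))))))))
(Tr.nd (nat_lit 296) (Tr.nd (nat_lit 275) (Tr.nd (nat_lit 264) (Tr.nd (nat_lit 259) (Tr.nd (nat_lit 256) (Tr.nd (nat_lit 255) (Tr.lf (Fc.ed (nat_lit 254) (nat_lit 88) Col.g (nat_lit 124) Dv.df))
(Tr.lf (Fc.ed (nat_lit 255) (nat_lit 124) Col.a (nat_lit 95) (Dv.wd (nat_lit 33) [Mv.b (nat_lit 251), Mv.b (nat_lit 250), Mv.f (nat_lit 254)]))))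
(Tr.nd (nat_lit 257) (Tr.lf (Fc.ed (nat_lit 256) (nat_lit 124) Col.b (nat_lit 113) (Dv.wd (nat_lit 26) [Mv.f (nat_lit 234), Mv.b (nat_lit 187), Mv.f (nat_lit 132), Mv.f (nat_lit 176), Mv.f (nat_lit 254)])))
(Tr.nd (nat_lit 258) (Tr.lf (Fc.ed (nat_lit 257) (nat_lit 90) Col.a (nat_lit 125) Dv.df))
(Tr.lf (Fc.ed (nat_lit 258) (nat_lit 90) Col.d (nat_lit 126) Dv.df)))))
(Tr.nd (nat_lit 261) (Tr.nd (nat_lit 260) (Tr.lf (Fc.ed (nat_lit 259) (nat_lit 126) Col.b (nat_lit 91) (Dv.wd (nat_lit 16) [Mv.b (nat_lit 183), Mv.f (nat_lit 182), Mv.f (nat_lit 258)])))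
(Tr.lf (Fc.ed (nat_lit 260) (nat_lit 90) Col.f (nat_lit 127) Dv.df)))
(Tr.nd (nat_lit 262) (Tr.lf (Fc.ed (nat_lit 261) (nat_lit 90) Col.g (nat_lit 128) Dv.df))
(Tr.nd (nat_lit 263) (Tr.lf (Fc.ed (nat_lit 262) (nat_lit 92) Col.b (nat_lit 129) Dv.df))
(Tr.lf (Fc.ed (nat_lit 263) (nat_lit 96) Col.f (nat_lit 130) Dv.df))))))
(Tr.nd (nat_lit 269) (Tr.nd (nat_lit 266) (Tr.nd (nat_lit 265) (Tr.lf (Fc.ed (nat_lit 264) (nat_lit 130) Col.a (nat_lit 100) (Dv.wd (nat_lit 32) [Mv.b (nat_lit 201), Mv.b (nat_lit 194), Mv.f (nat_lit 263)])))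
(Tr.lf (Fc.ed (nat_lit 265) (nat_lit 130) Col.g (nat_lit 101) (Dv.wd (nat_lit 31) [Mv.b (nat_lit 202), Mv.f (nat_lit 143), Mv.b (nat_lit 194), Mv.f (nat_lit 263)]))))
(Tr.nd (nat_lit 267) (Tr.lf (Fc.ed (nat_lit 266) (nat_lit 99) Col.a (nat_lit 131) Dv.df))
(Tr.nd (nat_lit 268) (Tr.lf (Fc.ed (nat_lit 267) (nat_lit 131) Col.c (nat_lit 125) (Dv.wd (nat_lit 15) [Mv.b (nat_lit 257), Mv.b (nat_lit 200), Mv.f (nat_lit 266)])))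
(Tr.lf (Fc.ed (nat_lit 268) (nat_lit 99) Col.f (nat_lit 132) Dv.df)))))
(Tr.nd (nat_lit 272) (Tr.nd (nat_lit 270) (Tr.lf (Fc.ed (nat_lit 269) (nat_lit 108) Col.f (nat_lit 133) Dv.df))
(Tr.nd (nat_lit 271) (Tr.lf (Fc.ed (nat_lit 270) (nat_lit 133) Col.c (nat_lit 109) (Dv.wd (nat_lit 21) [Mv.b (nat_lit 222), Mv.f (nat_lit 221), Mv.f (nat_lit 269)])))
(Tr.lf (Fc.ed (nat_lit 271) (nat_lit 112) Col.b (nat_lit 134) Dv.df))))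
(Tr.nd (nat_lit 273) (Tr.lf (Fc.ed (nat_lit 272) (nat_lit 134) Col.g (nat_lit 134) (Dv.wd (nat_lit 36) [Mv.b (nat_lit 271), Mv.f (nat_lit 231), Mv.f (nat_lit 190), Mv.b (nat_lit 231), Mv.f (nat_lit 271)])))
(Tr.nd (nat_lit 274) (Tr.lf (Fc.ed (nat_lit 273) (nat_lit 112) Col.d (nat_lit 135) Dv.df))
(Tr.lf (Fc.ed (nat_lit 274) (nat_lit 135) Col.a (nat_lit 114) (Dv.wd (nat_lit 23) [Mv.b (nat_lit 235), Mv.b (nat_lit 230), Mv.f (nat_lit 273)]))))))))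
(Tr.nd (nat_lit 285) (Tr.nd (nat_lit 280) (Tr.nd (nat_lit 277) (Tr.nd (nat_lit 276) (Tr.lf (Fc.ed (nat_lit 275) (nat_lit 116) Col.g (nat_lit 136) Dv.df))
(Tr.lf (Fc.ed (nat_lit 276) (nat_lit 136) Col.c (nat_lit 117) (Dv.wd (nat_lit 22) [Mv.b (nat_lit 240), Mv.f (nat_lit 238), Mv.f (nat_lit 275)]))))
(Tr.nd (nat_lit 278) (Tr.lf (Fc.ed (nat_lit 277) (nat_lit 136) Col.b (nat_lit 130) (Dv.wd (nat_lit 26) [Mv.f (nat_lit 265), Mv.b (nat_lit 228), Mv.f (nat_lit 227), Mv.b (nat_lit 239), Mv.f (nat_lit 275)])))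
(Tr.nd (nat_lit 279) (Tr.lf (Fc.ed (nat_lit 278) (nat_lit 118) Col.f (nat_lit 137) Dv.df))
(Tr.lf (Fc.ed (nat_lit 279) (nat_lit 137) Col.a (nat_lit 120) (Dv.wd (nat_lit 32) [Mv.b (nat_lit 247), Mv.f (nat_lit 243), Mv.f (nat_lit 278)]))))))
(Tr.nd (nat_lit 282) (Tr.nd (nat_lit 281) (Tr.lf (Fc.ed (nat_lit 280) (nat_lit 119) Col.c (nat_lit 138) Dv.df))
(Tr.lf (Fc.ed (nat_lit 281) (nat_lit 120) Col.b (nat_lit 139) Dv.df)))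
(Tr.nd (nat_lit 283) (Tr.lf (Fc.ed (nat_lit 282) (nat_lit 121) Col.a (nat_lit 140) Dv.df))
(Tr.nd (nat_lit 284) (Tr.lf (Fc.ed (nat_lit 283) (nat_lit 121) Col.c (nat_lit 141) Dv.df))
(Tr.lf (Fc.ed (nat_lit 284) (nat_lit 141) Col.b (nat_lit 123) (Dv.wd (nat_lit 45) [Mv.b (nat_lit 252), Mv.b (nat_lit 176), Mv.b (nat_lit 175), Mv.f (nat_lit 249), Mv.f (nat_lit 283)])))))))
(Tr.nd (nat_lit 290) (Tr.nd (nat_lit 287) (Tr.nd (nat_lit 286) (Tr.lf (Fc.ed (nat_lit 285) (nat_lit 121) Col.g (nat_lit 142) Dv.df))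
(Tr.lf (Fc.ed (nat_lit 286) (nat_lit 125) Col.d (nat_lit 143) Dv.df)))
(Tr.nd (nat_lit 288) (Tr.lf (Fc.ed (nat_lit 287) (nat_lit 143) Col.a (nat_lit 126) (Dv.wd (nat_lit 23) [Mv.b (nat_lit 258), Mv.f (nat_lit 257), Mv.f (nat_lit 286)])))
(Tr.nd (nat_lit 289) (Tr.lf (Fc.ed (nat_lit 288) (nat_lit 126) Col.c (nat_lit 144) Dv.df))
(Tr.lf (Fc.ed (nat_lit 289) (nat_lit 144) Col.b (nat_lit 138) (Dv.wd (nat_lit 45) [Mv.b (nat_lit 280), Mv.f (nat_lit 246), Mv.b (nat_lit 184), Mv.b (nat_lit 259), Mv.f (nat_lit 288)]))))))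
(Tr.nd (nat_lit 293) (Tr.nd (nat_lit 291) (Tr.lf (Fc.ed (nat_lit 290) (nat_lit 126) Col.g (nat_lit 145) Dv.df))
(Tr.nd (nat_lit 292) (Tr.lf (Fc.ed (nat_lit 291) (nat_lit 145) Col.d (nat_lit 128) (Dv.wd (nat_lit 25) [Mv.b (nat_lit 261), Mv.f (nat_lit 258), Mv.f (nat_lit 290)])))
(Tr.lf (Fc.ed (nat_lit 292) (nat_lit 127) Col.b (nat_lit 146) Dv.df))))
(Tr.nd (nat_lit 294) (Tr.lf (Fc.ed (nat_lit 293) (nat_lit 146) Col.f (nat_lit 129) (Dv.wd (nat_lit 37) [Mv.b (nat_lit 262), Mv.b (nat_lit 185), Mv.f (nat_lit 182), Mv.f (nat_lit 260), Mv.f (nat_lit 292)])))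
(Tr.nd (nat_lit 295) (Tr.lf (Fc.ed (nat_lit 294) (nat_lit 129) Col.g (nat_lit 147) Dv.df))
(Tr.lf (Fc.ed (nat_lit 295) (nat_lit 147) Col.b (nat_lit 142) (Dv.wd (nat_lit 26) [Mv.b (nat_lit 285), Mv.b (nat_lit 249), Mv.b (nat_lit 186), Mv.f (nat_lit 262), Mv.f (nat_lit 294)])))))))))
(Tr.nd (nat_lit 317) (Tr.nd (nat_lit 306) (Tr.nd (nat_lit 301) (Tr.nd (nat_lit 298) (Tr.nd (nat_lit 297) (Tr.lf (Fc.ed (nat_lit 296) (nat_lit 131) Col.g (nat_lit 148) Dv.df))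
(Tr.lf (Fc.ed (nat_lit 297) (nat_lit 132) Col.g (nat_lit 149) Dv.df)))
(Tr.nd (nat_lit 299) (Tr.lf (Fc.ed (nat_lit 298) (nat_lit 149) Col.f (nat_lit 148) (Dv.wd (nat_lit 28) [Mv.b (nat_lit 296), Mv.b (nat_lit 266), Mv.f (nat_lit 268), Mv.f (nat_lit 297)])))
(Tr.nd (nat_lit 300) (Tr.lf (Fc.ed (nat_lit 299) (nat_lit 133) Col.b (nat_lit 150) Dv.df))
(Tr.lf (Fc.ed (nat_lit 300) (nat_lit 150) Col.c (nat_lit 139) (Dv.wd (nat_lit 38) [Mv.b (nat_lit 281), Mv.f (nat_lit 248), Mv.f (nat_lit 237), Mv.b (nat_lit 270), Mv.f (nat_lit 299)]))))))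
(Tr.nd (nat_lit 303) (Tr.nd (nat_lit 302) (Tr.lf (Fc.ed (nat_lit 301) (nat_lit 150) Col.f (nat_lit 141) (Dv.wd (nat_lit 37) [Mv.f (nat_lit 284), Mv.f (nat_lit 253), Mv.f (nat_lit 239), Mv.f (nat_lit 269), Mv.f (nat_lit 299)])))
(Tr.lf (Fc.al (nat_lit 302) (nat_lit 141) (nat_lit 140) (Dv.wd (nat_lit 47) [Mv.b (nat_lit 282), Mv.b (nat_lit 249), Mv.f (nat_lit 175), Mv.b (nat_lit 125), Mv.b (nat_lit 79), Mv.b (nat_lit 85), Mv.f (nat_lit 139), Mv.f (nat_lit 201), Mv.b (nat_lit 264), Mv.b (nat_lit 277), Mv.f (nat_lit 276), Mv.b (nat_lit 242), Mv.b (nat_lit 255), Mv.f (nat_lit 256), Mv.b (nat_lit 244), Mv.f (nat_lit 278), Mv.f (nat_lit 279), Mv.f (nat_lit 281), Mv.b (nat_lit 300), Mv.f (nat_lit 301)]))))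
(Tr.nd (nat_lit 304) (Tr.lf (Fc.ed (nat_lit 303) (nat_lit 140) Col.f (nat_lit 150) (Dv.wd (nat_lit 51) [Mv.f (nat_lit 301), Mv.f (nat_lit 302)])))
(Tr.nd (nat_lit 305) (Tr.lf (Fc.ed (nat_lit 304) (nat_lit 134) Col.d (nat_lit 151) Dv.df))
(Tr.lf (Fc.ed (nat_lit 305) (nat_lit 151) Col.b (nat_lit 135) (Dv.wd (nat_lit 16) [Mv.b (nat_lit 273), Mv.f (nat_lit 271), Mv.f (nat_lit 304)])))))))
(Tr.nd (nat_lit 311) (Tr.nd (nat_lit 308) (Tr.nd (nat_lit 307) (Tr.lf (Fc.ed (nat_lit 306) (nat_lit 151) Col.g (nat_lit 151) (Dv.wd (nat_lit 8) [Mv.b (nat_lit 304), Mv.f (nat_lit 272), Mv.f (nat_lit 304)])))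
(Tr.lf (Fc.ed (nat_lit 307) (nat_lit 135) Col.c (nat_lit 152) Dv.df)))
(Tr.nd (nat_lit 309) (Tr.lf (Fc.ed (nat_lit 308) (nat_lit 152) Col.d (nat_lit 138) (Dv.wd (nat_lit 52) [Mv.b (nat_lit 280), Mv.b (nat_lit 245), Mv.f (nat_lit 172), Mv.b (nat_lit 162), Mv.f (nat_lit 161), Mv.f (nat_lit 235), Mv.b (nat_lit 274), Mv.f (nat_lit 307)])))
(Tr.nd (nat_lit 310) (Tr.lf (Fc.ed (nat_lit 309) (nat_lit 140) Col.g (nat_lit 153) Dv.df))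
(Tr.lf (Fc.ed (nat_lit 310) (nat_lit 153) Col.a (nat_lit 142) (Dv.wd (nat_lit 33) [Mv.b (nat_lit 285), Mv.f (nat_lit 282), Mv.f (nat_lit 309)]))))))
(Tr.nd (nat_lit 314) (Tr.nd (nat_lit 312) (Tr.lf (Fc.ed (nat_lit 311) (nat_lit 142) Col.f (nat_lit 154) Dv.df))
(Tr.nd (nat_lit 313) (Tr.lf (Fc.ed (nat_lit 312) (nat_lit 154) Col.g (nat_lit 150) (Dv.wd (nat_lit 31) [Mv.b (nat_lit 303), Mv.f (nat_lit 309), Mv.f (nat_lit 310), Mv.f (nat_lit 311)])))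
(Tr.lf (Fc.al (nat_lit 313) (nat_lit 149) (nat_lit 127) (Dv.wd (nat_lit 53) [Mv.f (nat_lit 292), Mv.f (nat_lit 293), Mv.f (nat_lit 294), Mv.f (nat_lit 295), Mv.f (nat_lit 311), Mv.f (nat_lit 312), Mv.b (nat_lit 299), Mv.b (nat_lit 269), Mv.b (nat_lit 227), Mv.f (nat_lit 228), Mv.b (nat_lit 202), Mv.f (nat_lit 143), Mv.f (nat_lit 199), Mv.f (nat_lit 268), Mv.f (nat_lit 297)])))))
(Tr.nd (nat_lit 315) (Tr.lf (Fc.al (nat_lit 314) (nat_lit 90) (nat_lit 148) (Dv.wd (nat_lit 51) [Mv.b (nat_lit 298), Mv.f (nat_lit 313), Mv.b (nat_lit 260)])))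
(Tr.nd (nat_lit 316) (Tr.lf (Fc.al (nat_lit 315) (nat_lit 128) (nat_lit 131) (Dv.wd (nat_lit 48) [Mv.f (nat_lit 296), Mv.b (nat_lit 314), Mv.f (nat_lit 261)])))
(Tr.lf (Fc.ed (nat_lit 316) (nat_lit 128) Col.c (nat_lit 125) (Dv.wd (nat_lit 54) [Mv.b (nat_lit 267), Mv.b (nat_lit 315)]))))))))
(Tr.nd (nat_lit 328) (Tr.nd (nat_lit 322) (Tr.nd (nat_lit 319) (Tr.nd (nat_lit 318) (Tr.lf (Fc.ed (nat_lit 317) (nat_lit 143) Col.c (nat_lit 155) Dv.df))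
(Tr.lf (Fc.ed (nat_lit 318) (nat_lit 155) Col.a (nat_lit 144) (Dv.wd (nat_lit 34) [Mv.b (nat_lit 288), Mv.b (nat_lit 287), Mv.f (nat_lit 317)]))))
(Tr.nd (nat_lit 320) (Tr.lf (Fc.ed (nat_lit 319) (nat_lit 144) Col.d (nat_lit 156) Dv.df))
(Tr.nd (nat_lit 321) (Tr.lf (Fc.ed (nat_lit 320) (nat_lit 156) Col.b (nat_lit 152) (Dv.wd (nat_lit 16) [Mv.f (nat_lit 308), Mv.b (nat_lit 289), Mv.f (nat_lit 319)])))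
(Tr.lf (Fc.ed (nat_lit 321) (nat_lit 144) Col.g (nat_lit 157) Dv.df)))))
(Tr.nd (nat_lit 325) (Tr.nd (nat_lit 323) (Tr.lf (Fc.ed (nat_lit 322) (nat_lit 157) Col.c (nat_lit 145) (Dv.wd (nat_lit 22) [Mv.b (nat_lit 290), Mv.f (nat_lit 288), Mv.f (nat_lit 321)])))
(Tr.nd (nat_lit 324) (Tr.lf (Fc.ed (nat_lit 323) (nat_lit 151) Col.c (nat_lit 158) Dv.df))
(Tr.lf (Fc.ed (nat_lit 324) (nat_lit 158) Col.g (nat_lit 158) (Dv.wd (nat_lit 9) [Mv.b (nat_lit 323), Mv.f (nat_lit 306), Mv.f (nat_lit 323)])))))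
(Tr.nd (nat_lit 326) (Tr.lf (Fc.ed (nat_lit 325) (nat_lit 155) Col.d (nat_lit 159) Dv.df))
(Tr.nd (nat_lit 327) (Tr.lf (Fc.ed (nat_lit 326) (nat_lit 159) Col.a (nat_lit 156) (Dv.wd (nat_lit 23) [Mv.b (nat_lit 319), Mv.b (nat_lit 318), Mv.f (nat_lit 325)])))
(Tr.lf (Fc.ed (nat_lit 327) (nat_lit 156) Col.c (nat_lit 160) Dv.df))))))
(Tr.nd (nat_lit 333) (Tr.nd (nat_lit 330) (Tr.nd (nat_lit 329) (Tr.lf (Fc.ed (nat_lit 328) (nat_lit 160) Col.b (nat_lit 158) (Dv.wd (nat_lit 45) [Mv.b (nat_lit 323), Mv.f (nat_lit 305), Mv.f (nat_lit 307), Mv.b (nat_lit 320), Mv.f (nat_lit 327)])))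
(Tr.lf (Fc.ed (nat_lit 329) (nat_lit 160) Col.d (nat_lit 157) (Dv.wd (nat_lit 52) [Mv.f (nat_lit 322), Mv.f (nat_lit 291), Mv.f (nat_lit 316), Mv.f (nat_lit 286), Mv.f (nat_lit 317), Mv.f (nat_lit 325), Mv.f (nat_lit 326), Mv.f (nat_lit 327)]))))
(Tr.nd (nat_lit 331) (Tr.lf (Fc.ed (nat_lit 330) (nat_lit 156) Col.g (nat_lit 160) (Dv.wd (nat_lit 55) [Mv.f (nat_lit 329), Mv.b (nat_lit 321), Mv.f (nat_lit 319)])))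
(Tr.nd (nat_lit 332) (Tr.lf (Fc.al (nat_lit 331) (nat_lit 152) (nat_lit 156) (Dv.wd (nat_lit 56) [Mv.f (nat_lit 330), Mv.f (nat_lit 328), Mv.f (nat_lit 324), Mv.b (nat_lit 328), Mv.b (nat_lit 330), Mv.f (nat_lit 320)])))
(Tr.lf (Fc.al (nat_lit 332) (nat_lit 138) (nat_lit 144) (Dv.wd (nat_lit 57) [Mv.f (nat_lit 319), Mv.b (nat_lit 331), Mv.f (nat_lit 308)]))))))
(Tr.nd (nat_lit 336) (Tr.nd (nat_lit 334) (Tr.lf (Fc.al (nat_lit 333) (nat_lit 119) (nat_lit 126) (Dv.wd (nat_lit 54) [Mv.f (nat_lit 288), Mv.b (nat_lit 332), Mv.b (nat_lit 280)])))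
(Tr.nd (nat_lit 335) (Tr.lf (Fc.al (nat_lit 334) (nat_lit 86) (nat_lit 91) (Dv.wd (nat_lit 49) [Mv.b (nat_lit 259), Mv.b (nat_lit 333), Mv.f (nat_lit 246)])))
(Tr.lf (Fc.al (nat_lit 335) (nat_lit 56) (nat_lit 59) (Dv.wd (nat_lit 57) [Mv.f (nat_lit 183), Mv.b (nat_lit 334), Mv.b (nat_lit 173)])))))
(Tr.nd (nat_lit 337) (Tr.lf (Fc.al (nat_lit 336) (nat_lit 33) (nat_lit 35) (Dv.wd (nat_lit 54) [Mv.f (nat_lit 128), Mv.b (nat_lit 335), Mv.b (nat_lit 123)])))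
(Tr.nd (nat_lit 338) (Tr.lf (Fc.al (nat_lit 337) (nat_lit 13) (nat_lit 14) (Dv.wd (nat_lit 57) [Mv.f (nat_lit 78), Mv.b (nat_lit 336), Mv.b (nat_lit 74)])))
(Tr.lf (Fc.ed (nat_lit 338) (nat_lit 13) Col.a (nat_lit 13) (Dv.wd (nat_lit 58) [Mv.f (nat_lit 29), Mv.b (nat_lit 337)]))))))))))))
noncomputable def mini2A : Tr (Alt Col) := (Tr.nd (nat_lit 29) (Tr.nd (nat_lit 14) (Tr.nd (nat_lit 7) (Tr.nd (nat_lit 3) (Tr.nd (nat_lit 1) (Tr.lf (Alt.base (nat_lit 2) [] [Col.c]))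
(Tr.nd (nat_lit 2) (Tr.lf (Alt.base (nat_lit 4) [] [Col.f]))
(Tr.lf (Alt.base (nat_lit 5) [] [Col.g]))))
(Tr.nd (nat_lit 5) (Tr.nd (nat_lit 4) (Tr.lf (Alt.base (nat_lit 6) [Col.e, Col.d, Col.c, Col.b, Col.a, Col.b, Col.c] [Col.a, Col.b, Col.a, Col.b, Col.c, Col.d, Col.e]))
(Tr.lf (Alt.base (nat_lit 7) [Col.e, Col.d, Col.c, Col.b, Col.d, Col.c, Col.f, Col.b] [Col.a, Col.b, Col.f, Col.c, Col.d, Col.b, Col.c, Col.d, Col.e])))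
(Tr.nd (nat_lit 6) (Tr.lf (Alt.word (nat_lit 15) (nat_lit 1) true [Col.c, Col.e, Col.c, Col.e]))
(Tr.lf (Alt.word (nat_lit 23) (nat_lit 2) true [Col.f, Col.e, Col.f, Col.e])))))
(Tr.nd (nat_lit 10) (Tr.nd (nat_lit 8) (Tr.lf (Alt.word (nat_lit 24) (nat_lit 2) true [Col.g, Col.e, Col.g, Col.e]))
(Tr.nd (nat_lit 9) (Tr.lf (Alt.word (nat_lit 21) (nat_lit 2) true [Col.g, Col.d, Col.g, Col.d]))
(Tr.lf (Alt.word (nat_lit 17) (nat_lit 2) true [Col.g, Col.c, Col.g, Col.c]))))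
(Tr.nd (nat_lit 12) (Tr.nd (nat_lit 11) (Tr.lf (Alt.word (nat_lit 20) (nat_lit 2) true [Col.f, Col.d, Col.f, Col.d]))
(Tr.lf (Alt.word (nat_lit 29) (nat_lit 4) true [Col.a, Col.f, Col.g, Col.f, Col.g])))
(Tr.nd (nat_lit 13) (Tr.lf (Alt.word (nat_lit 2) (nat_lit 3) true [Col.a, Col.c, Col.a, Col.c]))
(Tr.lf (Alt.word (nat_lit 1) (nat_lit 6) true [Col.b, Col.a, Col.b, Col.a, Col.b, Col.a, Col.b, Col.a, Col.b, Col.a]))))))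
(Tr.nd (nat_lit 21) (Tr.nd (nat_lit 17) (Tr.nd (nat_lit 15) (Tr.lf (Alt.word (nat_lit 8) (nat_lit 4) true [Col.c, Col.b, Col.c, Col.b, Col.c, Col.b]))
(Tr.nd (nat_lit 16) (Tr.lf (Alt.word (nat_lit 2) (nat_lit 2) true [Col.c, Col.a, Col.c, Col.a]))
(Tr.lf (Alt.word (nat_lit 9) (nat_lit 1) true [Col.b, Col.d, Col.b, Col.d]))))
(Tr.nd (nat_lit 19) (Tr.nd (nat_lit 18) (Tr.lf (Alt.word (nat_lit 28) (nat_lit 2) true [Col.c, Col.d, Col.c, Col.d, Col.c, Col.d, Col.a, Col.c, Col.d]))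
(Tr.lf (Alt.word (nat_lit 8) (nat_lit 3) true [Col.b, Col.c, Col.b, Col.c, Col.b, Col.c])))
(Tr.nd (nat_lit 20) (Tr.lf (Alt.word (nat_lit 11) (nat_lit 4) true [Col.f, Col.b, Col.f, Col.b, Col.f, Col.b]))
(Tr.lf (Alt.word (nat_lit 12) (nat_lit 4) true [Col.g, Col.b, Col.g, Col.b, Col.g, Col.b])))))
(Tr.nd (nat_lit 25) (Tr.nd (nat_lit 23) (Tr.nd (nat_lit 22) (Tr.lf (Alt.word (nat_lit 16) (nat_lit 1) true [Col.c, Col.f, Col.c, Col.f]))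
(Tr.lf (Alt.word (nat_lit 17) (nat_lit 1) true [Col.c, Col.g, Col.c, Col.g])))
(Tr.nd (nat_lit 24) (Tr.lf (Alt.word (nat_lit 3) (nat_lit 1) true [Col.a, Col.d, Col.a, Col.d]))
(Tr.lf (Alt.word (nat_lit 20) (nat_lit 1) true [Col.d, Col.f, Col.d, Col.f]))))
(Tr.nd (nat_lit 27) (Tr.nd (nat_lit 26) (Tr.lf (Alt.word (nat_lit 21) (nat_lit 1) true [Col.d, Col.g, Col.d, Col.g]))
(Tr.lf (Alt.word (nat_lit 12) (nat_lit 1) true [Col.b, Col.g, Col.b, Col.g, Col.b, Col.g])))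
(Tr.nd (nat_lit 28) (Tr.lf (Alt.word (nat_lit 5) (nat_lit 2) true [Col.f, Col.a, Col.f, Col.a]))
(Tr.lf (Alt.word (nat_lit 29) (nat_lit 2) true [Col.f, Col.g, Col.a, Col.f, Col.g])))))))
(Tr.nd (nat_lit 44) (Tr.nd (nat_lit 36) (Tr.nd (nat_lit 32) (Tr.nd (nat_lit 30) (Tr.lf (Alt.word (nat_lit 6) (nat_lit 2) true [Col.g, Col.a, Col.g, Col.a]))
(Tr.nd (nat_lit 31) (Tr.lf (Alt.word (nat_lit 29) (nat_lit 0) true [Col.f, Col.g, Col.f, Col.g, Col.a]))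
(Tr.lf (Alt.word (nat_lit 29) (nat_lit 1) true [Col.g, Col.f, Col.g, Col.a, Col.f]))))
(Tr.nd (nat_lit 34) (Tr.nd (nat_lit 33) (Tr.lf (Alt.word (nat_lit 5) (nat_lit 1) true [Col.a, Col.f, Col.a, Col.f]))
(Tr.lf (Alt.word (nat_lit 6) (nat_lit 1) true [Col.a, Col.g, Col.a, Col.g])))
(Tr.nd (nat_lit 35) (Tr.lf (Alt.word (nat_lit 2) (nat_lit 1) true [Col.a, Col.c, Col.a, Col.c]))
(Tr.lf (Alt.word (nat_lit 16) (nat_lit 2) true [Col.f, Col.c, Col.f, Col.c])))))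
(Tr.nd (nat_lit 40) (Tr.nd (nat_lit 38) (Tr.nd (nat_lit 37) (Tr.lf (Alt.word (nat_lit 12) (nat_lit 2) true [Col.g, Col.b, Col.g, Col.b, Col.g, Col.b]))
(Tr.lf (Alt.word (nat_lit 11) (nat_lit 2) true [Col.f, Col.b, Col.f, Col.b, Col.f, Col.b])))
(Tr.nd (nat_lit 39) (Tr.lf (Alt.word (nat_lit 8) (nat_lit 2) true [Col.c, Col.b, Col.c, Col.b, Col.c, Col.b]))
(Tr.lf (Alt.word (nat_lit 11) (nat_lit 1) true [Col.b, Col.f, Col.b, Col.f, Col.b, Col.f]))))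
(Tr.nd (nat_lit 42) (Tr.nd (nat_lit 41) (Tr.lf (Alt.word (nat_lit 31) (nat_lit 14) false [Col.g, Col.b, Col.f, Col.g, Col.b, Col.f, Col.g, Col.b, Col.f, Col.g, Col.b, Col.f, Col.g, Col.b, Col.f]))
(Tr.lf (Alt.word (nat_lit 29) (nat_lit 1) false [Col.g, Col.f, Col.g, Col.f, Col.a])))
(Tr.nd (nat_lit 43) (Tr.lf (Alt.word (nat_lit 1) (nat_lit 9) true [Col.a, Col.b, Col.a, Col.b, Col.a, Col.b, Col.a, Col.b, Col.a, Col.b]))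
(Tr.lf (Alt.word (nat_lit 29) (nat_lit 4) false [Col.f, Col.a, Col.g, Col.f, Col.g]))))))
(Tr.nd (nat_lit 51) (Tr.nd (nat_lit 47) (Tr.nd (nat_lit 45) (Tr.lf (Alt.word (nat_lit 9) (nat_lit 2) true [Col.d, Col.b, Col.d, Col.b]))
(Tr.nd (nat_lit 46) (Tr.lf (Alt.word (nat_lit 8) (nat_lit 1) true [Col.b, Col.c, Col.b, Col.c, Col.b, Col.c]))
(Tr.lf (Alt.word (nat_lit 12) (nat_lit 5) true [Col.b, Col.g, Col.b, Col.g, Col.b, Col.g]))))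
(Tr.nd (nat_lit 49) (Tr.nd (nat_lit 48) (Tr.lf (Alt.word (nat_lit 30) (nat_lit 4) false [Col.a, Col.b, Col.c, Col.f, Col.a, Col.b, Col.c, Col.f, Col.a, Col.b, Col.c, Col.f, Col.a, Col.b, Col.c, Col.f, Col.a, Col.b, Col.c, Col.f]))
(Tr.lf (Alt.word (nat_lit 27) (nat_lit 0) true [Col.g, Col.g])))
(Tr.nd (nat_lit 50) (Tr.lf (Alt.word (nat_lit 7) (nat_lit 0) true [Col.b, Col.b]))
(Tr.lf (Alt.word (nat_lit 11) (nat_lit 0) true [Col.f, Col.b, Col.f, Col.b, Col.f, Col.b])))))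
(Tr.nd (nat_lit 55) (Tr.nd (nat_lit 53) (Tr.nd (nat_lit 52) (Tr.lf (Alt.word (nat_lit 25) (nat_lit 0) true [Col.f, Col.f]))
(Tr.lf (Alt.word (nat_lit 28) (nat_lit 1) true [Col.d, Col.c, Col.d, Col.c, Col.d, Col.c, Col.d, Col.a, Col.c])))
(Tr.nd (nat_lit 54) (Tr.lf (Alt.word (nat_lit 31) (nat_lit 12) false [Col.b, Col.f, Col.g, Col.b, Col.f, Col.g, Col.b, Col.f, Col.g, Col.b, Col.f, Col.g, Col.b, Col.f, Col.g]))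
(Tr.lf (Alt.word (nat_lit 13) (nat_lit 0) true [Col.c, Col.c]))))
(Tr.nd (nat_lit 57) (Tr.nd (nat_lit 56) (Tr.lf (Alt.word (nat_lit 21) (nat_lit 0) true [Col.g, Col.d, Col.g, Col.d]))
(Tr.lf (Alt.word (nat_lit 12) (nat_lit 0) true [Col.g, Col.b, Col.g, Col.b, Col.g, Col.b])))
(Tr.nd (nat_lit 58) (Tr.lf (Alt.word (nat_lit 18) (nat_lit 0) true [Col.d, Col.d]))
(Tr.lf (Alt.word (nat_lit 0) (nat_lit 0) true [Col.a, Col.a]))))))))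
noncomputable def mini2P : Tr ℕ := (Tr.nd (nat_lit 80) (Tr.nd (nat_lit 40) (Tr.nd (nat_lit 20) (Tr.nd (nat_lit 10) (Tr.nd (nat_lit 5) (Tr.nd (nat_lit 2) (Tr.nd (nat_lit 1) (Tr.lf (nat_lit 0))
(Tr.lf (nat_lit 0)))
(Tr.nd (nat_lit 3) (Tr.lf (nat_lit 1))
(Tr.nd (nat_lit 4) (Tr.lf (nat_lit 2))
(Tr.lf (nat_lit 3)))))
(Tr.nd (nat_lit 7) (Tr.nd (nat_lit 6) (Tr.lf (nat_lit 4))
(Tr.lf (nat_lit 5)))
(Tr.nd (nat_lit 8) (Tr.lf (nat_lit 6))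
(Tr.nd (nat_lit 9) (Tr.lf (nat_lit 4))
(Tr.lf (nat_lit 8))))))
(Tr.nd (nat_lit 15) (Tr.nd (nat_lit 12) (Tr.nd (nat_lit 11) (Tr.lf (nat_lit 9))
(Tr.lf (nat_lit 10)))
(Tr.nd (nat_lit 13) (Tr.lf (nat_lit 9))
(Tr.nd (nat_lit 14) (Tr.lf (nat_lit 12))
(Tr.lf (nat_lit 13)))))
(Tr.nd (nat_lit 17) (Tr.nd (nat_lit 16) (Tr.lf (nat_lit 14))
(Tr.lf (nat_lit 15)))
(Tr.nd (nat_lit 18) (Tr.lf (nat_lit 3))
(Tr.nd (nat_lit 19) (Tr.lf (nat_lit 4))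
(Tr.lf (nat_lit 4)))))))
(Tr.nd (nat_lit 30) (Tr.nd (nat_lit 25) (Tr.nd (nat_lit 22) (Tr.nd (nat_lit 21) (Tr.lf (nat_lit 5))
(Tr.lf (nat_lit 8)))
(Tr.nd (nat_lit 23) (Tr.lf (nat_lit 8))
(Tr.nd (nat_lit 24) (Tr.lf (nat_lit 9))
(Tr.lf (nat_lit 9)))))
(Tr.nd (nat_lit 27) (Tr.nd (nat_lit 26) (Tr.lf (nat_lit 10))
(Tr.lf (nat_lit 10)))
(Tr.nd (nat_lit 28) (Tr.lf (nat_lit 10))
(Tr.nd (nat_lit 29) (Tr.lf (nat_lit 11))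
(Tr.lf (nat_lit 11))))))
(Tr.nd (nat_lit 35) (Tr.nd (nat_lit 32) (Tr.nd (nat_lit 31) (Tr.lf (nat_lit 12))
(Tr.lf (nat_lit 12)))
(Tr.nd (nat_lit 33) (Tr.lf (nat_lit 12))
(Tr.nd (nat_lit 34) (Tr.lf (nat_lit 13))
(Tr.lf (nat_lit 13)))))
(Tr.nd (nat_lit 37) (Tr.nd (nat_lit 36) (Tr.lf (nat_lit 14))
(Tr.lf (nat_lit 14)))
(Tr.nd (nat_lit 38) (Tr.lf (nat_lit 15))
(Tr.nd (nat_lit 39) (Tr.lf (nat_lit 15))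
(Tr.lf (nat_lit 15))))))))
(Tr.nd (nat_lit 60) (Tr.nd (nat_lit 50) (Tr.nd (nat_lit 45) (Tr.nd (nat_lit 42) (Tr.nd (nat_lit 41) (Tr.lf (nat_lit 16))
(Tr.lf (nat_lit 16)))
(Tr.nd (nat_lit 43) (Tr.lf (nat_lit 20))
(Tr.nd (nat_lit 44) (Tr.lf (nat_lit 20))
(Tr.lf (nat_lit 23)))))
(Tr.nd (nat_lit 47) (Tr.nd (nat_lit 46) (Tr.lf (nat_lit 25))
(Tr.lf (nat_lit 25)))
(Tr.nd (nat_lit 48) (Tr.lf (nat_lit 26))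
(Tr.nd (nat_lit 49) (Tr.lf (nat_lit 27))
(Tr.lf (nat_lit 28))))))
(Tr.nd (nat_lit 55) (Tr.nd (nat_lit 52) (Tr.nd (nat_lit 51) (Tr.lf (nat_lit 28))
(Tr.lf (nat_lit 29)))
(Tr.nd (nat_lit 53) (Tr.lf (nat_lit 30))
(Tr.nd (nat_lit 54) (Tr.lf (nat_lit 30))
(Tr.lf (nat_lit 31)))))
(Tr.nd (nat_lit 57) (Tr.nd (nat_lit 56) (Tr.lf (nat_lit 32))
(Tr.lf (nat_lit 33)))
(Tr.nd (nat_lit 58) (Tr.lf (nat_lit 33))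
(Tr.nd (nat_lit 59) (Tr.lf (nat_lit 34))
(Tr.lf (nat_lit 35)))))))
(Tr.nd (nat_lit 70) (Tr.nd (nat_lit 65) (Tr.nd (nat_lit 62) (Tr.nd (nat_lit 61) (Tr.lf (nat_lit 35))
(Tr.lf (nat_lit 36)))
(Tr.nd (nat_lit 63) (Tr.lf (nat_lit 37))
(Tr.nd (nat_lit 64) (Tr.lf (nat_lit 37))
(Tr.lf (nat_lit 37)))))
(Tr.nd (nat_lit 67) (Tr.nd (nat_lit 66) (Tr.lf (nat_lit 38))
(Tr.lf (nat_lit 39)))
(Tr.nd (nat_lit 68) (Tr.lf (nat_lit 40))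
(Tr.nd (nat_lit 69) (Tr.lf (nat_lit 40))
(Tr.lf (nat_lit 41))))))
(Tr.nd (nat_lit 75) (Tr.nd (nat_lit 72) (Tr.nd (nat_lit 71) (Tr.lf (nat_lit 45))
(Tr.lf (nat_lit 45)))
(Tr.nd (nat_lit 73) (Tr.lf (nat_lit 45))
(Tr.nd (nat_lit 74) (Tr.lf (nat_lit 47))
(Tr.lf (nat_lit 48)))))
(Tr.nd (nat_lit 77) (Tr.nd (nat_lit 76) (Tr.lf (nat_lit 49))
(Tr.lf (nat_lit 49)))
(Tr.nd (nat_lit 78) (Tr.lf (nat_lit 49))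
(Tr.nd (nat_lit 79) (Tr.lf (nat_lit 50))
(Tr.lf (nat_lit 52)))))))))
(Tr.nd (nat_lit 120) (Tr.nd (nat_lit 100) (Tr.nd (nat_lit 90) (Tr.nd (nat_lit 85) (Tr.nd (nat_lit 82) (Tr.nd (nat_lit 81) (Tr.lf (nat_lit 52))
(Tr.lf (nat_lit 52)))
(Tr.nd (nat_lit 83) (Tr.lf (nat_lit 52))
(Tr.nd (nat_lit 84) (Tr.lf (nat_lit 54))
(Tr.lf (nat_lit 55)))))
(Tr.nd (nat_lit 87) (Tr.nd (nat_lit 86) (Tr.lf (nat_lit 56))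
(Tr.lf (nat_lit 56)))
(Tr.nd (nat_lit 88) (Tr.lf (nat_lit 56))
(Tr.nd (nat_lit 89) (Tr.lf (nat_lit 57))
(Tr.lf (nat_lit 58))))))
(Tr.nd (nat_lit 95) (Tr.nd (nat_lit 92) (Tr.nd (nat_lit 91) (Tr.lf (nat_lit 59))
(Tr.lf (nat_lit 59)))
(Tr.nd (nat_lit 93) (Tr.lf (nat_lit 59))
(Tr.nd (nat_lit 94) (Tr.lf (nat_lit 60))
(Tr.lf (nat_lit 61)))))
(Tr.nd (nat_lit 97) (Tr.nd (nat_lit 96) (Tr.lf (nat_lit 62))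
(Tr.lf (nat_lit 63)))
(Tr.nd (nat_lit 98) (Tr.lf (nat_lit 63))
(Tr.nd (nat_lit 99) (Tr.lf (nat_lit 64))
(Tr.lf (nat_lit 65)))))))
(Tr.nd (nat_lit 110) (Tr.nd (nat_lit 105) (Tr.nd (nat_lit 102) (Tr.nd (nat_lit 101) (Tr.lf (nat_lit 65))
(Tr.lf (nat_lit 67)))
(Tr.nd (nat_lit 103) (Tr.lf (nat_lit 68))
(Tr.nd (nat_lit 104) (Tr.lf (nat_lit 69))
(Tr.lf (nat_lit 70)))))
(Tr.nd (nat_lit 107) (Tr.nd (nat_lit 106) (Tr.lf (nat_lit 70))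
(Tr.lf (nat_lit 71)))
(Tr.nd (nat_lit 108) (Tr.lf (nat_lit 71))
(Tr.nd (nat_lit 109) (Tr.lf (nat_lit 73))
(Tr.lf (nat_lit 73))))))
(Tr.nd (nat_lit 115) (Tr.nd (nat_lit 112) (Tr.nd (nat_lit 111) (Tr.lf (nat_lit 75))
(Tr.lf (nat_lit 78)))
(Tr.nd (nat_lit 113) (Tr.lf (nat_lit 79))
(Tr.nd (nat_lit 114) (Tr.lf (nat_lit 79))
(Tr.lf (nat_lit 80)))))
(Tr.nd (nat_lit 117) (Tr.nd (nat_lit 116) (Tr.lf (nat_lit 81))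
(Tr.lf (nat_lit 83)))
(Tr.nd (nat_lit 118) (Tr.lf (nat_lit 83))
(Tr.nd (nat_lit 119) (Tr.lf (nat_lit 85))
(Tr.lf (nat_lit 85))))))))
(Tr.nd (nat_lit 140) (Tr.nd (nat_lit 130) (Tr.nd (nat_lit 125) (Tr.nd (nat_lit 122) (Tr.nd (nat_lit 121) (Tr.lf (nat_lit 85))
(Tr.lf (nat_lit 87)))
(Tr.nd (nat_lit 123) (Tr.lf (nat_lit 88))
(Tr.nd (nat_lit 124) (Tr.lf (nat_lit 88))
(Tr.lf (nat_lit 88)))))
(Tr.nd (nat_lit 127) (Tr.nd (nat_lit 126) (Tr.lf (nat_lit 90))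
(Tr.lf (nat_lit 90)))
(Tr.nd (nat_lit 128) (Tr.lf (nat_lit 90))
(Tr.nd (nat_lit 129) (Tr.lf (nat_lit 90))
(Tr.lf (nat_lit 92))))))
(Tr.nd (nat_lit 135) (Tr.nd (nat_lit 132) (Tr.nd (nat_lit 131) (Tr.lf (nat_lit 96))
(Tr.lf (nat_lit 99)))
(Tr.nd (nat_lit 133) (Tr.lf (nat_lit 99))
(Tr.nd (nat_lit 134) (Tr.lf (nat_lit 108))
(Tr.lf (nat_lit 112)))))
(Tr.nd (nat_lit 137) (Tr.nd (nat_lit 136) (Tr.lf (nat_lit 112))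
(Tr.lf (nat_lit 116)))
(Tr.nd (nat_lit 138) (Tr.lf (nat_lit 118))
(Tr.nd (nat_lit 139) (Tr.lf (nat_lit 119))
(Tr.lf (nat_lit 120)))))))
(Tr.nd (nat_lit 150) (Tr.nd (nat_lit 145) (Tr.nd (nat_lit 142) (Tr.nd (nat_lit 141) (Tr.lf (nat_lit 121))
(Tr.lf (nat_lit 121)))
(Tr.nd (nat_lit 143) (Tr.lf (nat_lit 121))
(Tr.nd (nat_lit 144) (Tr.lf (nat_lit 125))
(Tr.lf (nat_lit 126)))))
(Tr.nd (nat_lit 147) (Tr.nd (nat_lit 146) (Tr.lf (nat_lit 126))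
(Tr.lf (nat_lit 127)))
(Tr.nd (nat_lit 148) (Tr.lf (nat_lit 129))
(Tr.nd (nat_lit 149) (Tr.lf (nat_lit 131))
(Tr.lf (nat_lit 132))))))
(Tr.nd (nat_lit 155) (Tr.nd (nat_lit 152) (Tr.nd (nat_lit 151) (Tr.lf (nat_lit 133))
(Tr.lf (nat_lit 134)))
(Tr.nd (nat_lit 153) (Tr.lf (nat_lit 135))
(Tr.nd (nat_lit 154) (Tr.lf (nat_lit 140))
(Tr.lf (nat_lit 142)))))
(Tr.nd (nat_lit 158) (Tr.nd (nat_lit 156) (Tr.lf (nat_lit 143))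
(Tr.nd (nat_lit 157) (Tr.lf (nat_lit 144))
(Tr.lf (nat_lit 144))))
(Tr.nd (nat_lit 159) (Tr.lf (nat_lit 151))
(Tr.nd (nat_lit 160) (Tr.lf (nat_lit 155))
(Tr.lf (nat_lit 156))))))))))
noncomputable def mini2Q : Tr ℕ := (Tr.nd (nat_lit 80) (Tr.nd (nat_lit 40) (Tr.nd (nat_lit 20) (Tr.nd (nat_lit 10) (Tr.nd (nat_lit 5) (Tr.nd (nat_lit 2) (Tr.nd (nat_lit 1) (Tr.lf (nat_lit 0))
(Tr.lf (nat_lit 4)))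
(Tr.nd (nat_lit 3) (Tr.lf (nat_lit 3))
(Tr.nd (nat_lit 4) (Tr.lf (nat_lit 2))
(Tr.lf (nat_lit 1)))))
(Tr.nd (nat_lit 7) (Tr.nd (nat_lit 6) (Tr.lf (nat_lit 0))
(Tr.lf (nat_lit 1)))
(Tr.nd (nat_lit 8) (Tr.lf (nat_lit 2))
(Tr.nd (nat_lit 9) (Tr.lf (nat_lit 3))
(Tr.lf (nat_lit 2))))))
(Tr.nd (nat_lit 15) (Tr.nd (nat_lit 12) (Tr.nd (nat_lit 11) (Tr.lf (nat_lit 5))
(Tr.lf (nat_lit 1)))
(Tr.nd (nat_lit 13) (Tr.lf (nat_lit 6))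
(Tr.nd (nat_lit 14) (Tr.lf (nat_lit 1))
(Tr.lf (nat_lit 0)))))
(Tr.nd (nat_lit 17) (Tr.nd (nat_lit 16) (Tr.lf (nat_lit 1))
(Tr.lf (nat_lit 6)))
(Tr.nd (nat_lit 18) (Tr.lf (nat_lit 3))
(Tr.nd (nat_lit 19) (Tr.lf (nat_lit 5))
(Tr.lf (nat_lit 6)))))))
(Tr.nd (nat_lit 30) (Tr.nd (nat_lit 25) (Tr.nd (nat_lit 22) (Tr.nd (nat_lit 21) (Tr.lf (nat_lit 3))
(Tr.lf (nat_lit 5)))
(Tr.nd (nat_lit 23) (Tr.lf (nat_lit 6))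
(Tr.nd (nat_lit 24) (Tr.lf (nat_lit 0))
(Tr.lf (nat_lit 3)))))
(Tr.nd (nat_lit 27) (Tr.nd (nat_lit 26) (Tr.lf (nat_lit 0))
(Tr.lf (nat_lit 3)))
(Tr.nd (nat_lit 28) (Tr.lf (nat_lit 6))
(Tr.nd (nat_lit 29) (Tr.lf (nat_lit 3))
(Tr.lf (nat_lit 6))))))
(Tr.nd (nat_lit 35) (Tr.nd (nat_lit 32) (Tr.nd (nat_lit 31) (Tr.lf (nat_lit 0))
(Tr.lf (nat_lit 3)))
(Tr.nd (nat_lit 33) (Tr.lf (nat_lit 5))
(Tr.nd (nat_lit 34) (Tr.lf (nat_lit 3))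
(Tr.lf (nat_lit 5)))))
(Tr.nd (nat_lit 37) (Tr.nd (nat_lit 36) (Tr.lf (nat_lit 3))
(Tr.lf (nat_lit 5)))
(Tr.nd (nat_lit 38) (Tr.lf (nat_lit 0))
(Tr.nd (nat_lit 39) (Tr.lf (nat_lit 3))
(Tr.lf (nat_lit 5))))))))
(Tr.nd (nat_lit 60) (Tr.nd (nat_lit 50) (Tr.nd (nat_lit 45) (Tr.nd (nat_lit 42) (Tr.nd (nat_lit 41) (Tr.lf (nat_lit 3))
(Tr.lf (nat_lit 5)))
(Tr.nd (nat_lit 43) (Tr.lf (nat_lit 5))
(Tr.nd (nat_lit 44) (Tr.lf (nat_lit 6))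
(Tr.lf (nat_lit 3)))))
(Tr.nd (nat_lit 47) (Tr.nd (nat_lit 46) (Tr.lf (nat_lit 1))
(Tr.lf (nat_lit 3)))
(Tr.nd (nat_lit 48) (Tr.lf (nat_lit 6))
(Tr.nd (nat_lit 49) (Tr.lf (nat_lit 1))
(Tr.lf (nat_lit 2))))))
(Tr.nd (nat_lit 55) (Tr.nd (nat_lit 52) (Tr.nd (nat_lit 51) (Tr.lf (nat_lit 6))
(Tr.lf (nat_lit 1)))
(Tr.nd (nat_lit 53) (Tr.lf (nat_lit 1))
(Tr.nd (nat_lit 54) (Tr.lf (nat_lit 3))
(Tr.lf (nat_lit 5)))))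
(Tr.nd (nat_lit 57) (Tr.nd (nat_lit 56) (Tr.lf (nat_lit 1))
(Tr.lf (nat_lit 2)))
(Tr.nd (nat_lit 58) (Tr.lf (nat_lit 5))
(Tr.nd (nat_lit 59) (Tr.lf (nat_lit 1))
(Tr.lf (nat_lit 2)))))))
(Tr.nd (nat_lit 70) (Tr.nd (nat_lit 65) (Tr.nd (nat_lit 62) (Tr.nd (nat_lit 61) (Tr.lf (nat_lit 5))
(Tr.lf (nat_lit 1)))
(Tr.nd (nat_lit 63) (Tr.lf (nat_lit 1))
(Tr.nd (nat_lit 64) (Tr.lf (nat_lit 3))
(Tr.lf (nat_lit 5)))))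
(Tr.nd (nat_lit 67) (Tr.nd (nat_lit 66) (Tr.lf (nat_lit 2))
(Tr.lf (nat_lit 1)))
(Tr.nd (nat_lit 68) (Tr.lf (nat_lit 2))
(Tr.nd (nat_lit 69) (Tr.lf (nat_lit 5))
(Tr.lf (nat_lit 1))))))
(Tr.nd (nat_lit 75) (Tr.nd (nat_lit 72) (Tr.nd (nat_lit 71) (Tr.lf (nat_lit 0))
(Tr.lf (nat_lit 3)))
(Tr.nd (nat_lit 73) (Tr.lf (nat_lit 6))
(Tr.nd (nat_lit 74) (Tr.lf (nat_lit 1))
(Tr.lf (nat_lit 5)))))
(Tr.nd (nat_lit 77) (Tr.nd (nat_lit 76) (Tr.lf (nat_lit 1))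
(Tr.lf (nat_lit 3)))
(Tr.nd (nat_lit 78) (Tr.lf (nat_lit 6))
(Tr.nd (nat_lit 79) (Tr.lf (nat_lit 1))
(Tr.lf (nat_lit 0)))))))))
(Tr.nd (nat_lit 120) (Tr.nd (nat_lit 100) (Tr.nd (nat_lit 90) (Tr.nd (nat_lit 85) (Tr.nd (nat_lit 82) (Tr.nd (nat_lit 81) (Tr.lf (nat_lit 2))
(Tr.lf (nat_lit 3)))
(Tr.nd (nat_lit 83) (Tr.lf (nat_lit 5))
(Tr.nd (nat_lit 84) (Tr.lf (nat_lit 1))
(Tr.lf (nat_lit 6)))))
(Tr.nd (nat_lit 87) (Tr.nd (nat_lit 86) (Tr.lf (nat_lit 1))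
(Tr.lf (nat_lit 3)))
(Tr.nd (nat_lit 88) (Tr.lf (nat_lit 5))
(Tr.nd (nat_lit 89) (Tr.lf (nat_lit 1))
(Tr.lf (nat_lit 6))))))
(Tr.nd (nat_lit 95) (Tr.nd (nat_lit 92) (Tr.nd (nat_lit 91) (Tr.lf (nat_lit 1))
(Tr.lf (nat_lit 3)))
(Tr.nd (nat_lit 93) (Tr.lf (nat_lit 5))
(Tr.nd (nat_lit 94) (Tr.lf (nat_lit 1))
(Tr.lf (nat_lit 2)))))
(Tr.nd (nat_lit 97) (Tr.nd (nat_lit 96) (Tr.lf (nat_lit 3))
(Tr.lf (nat_lit 2)))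
(Tr.nd (nat_lit 98) (Tr.lf (nat_lit 5))
(Tr.nd (nat_lit 99) (Tr.lf (nat_lit 1))
(Tr.lf (nat_lit 1)))))))
(Tr.nd (nat_lit 110) (Tr.nd (nat_lit 105) (Tr.nd (nat_lit 102) (Tr.nd (nat_lit 101) (Tr.lf (nat_lit 5))
(Tr.lf (nat_lit 5)))
(Tr.nd (nat_lit 103) (Tr.lf (nat_lit 1))
(Tr.nd (nat_lit 104) (Tr.lf (nat_lit 6))
(Tr.lf (nat_lit 3)))))
(Tr.nd (nat_lit 107) (Tr.nd (nat_lit 106) (Tr.lf (nat_lit 5))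
(Tr.lf (nat_lit 5)))
(Tr.nd (nat_lit 108) (Tr.lf (nat_lit 6))
(Tr.nd (nat_lit 109) (Tr.lf (nat_lit 2))
(Tr.lf (nat_lit 5))))))
(Tr.nd (nat_lit 115) (Tr.nd (nat_lit 112) (Tr.nd (nat_lit 111) (Tr.lf (nat_lit 6))
(Tr.lf (nat_lit 2)))
(Tr.nd (nat_lit 113) (Tr.lf (nat_lit 2))
(Tr.nd (nat_lit 114) (Tr.lf (nat_lit 3))
(Tr.lf (nat_lit 3)))))
(Tr.nd (nat_lit 117) (Tr.nd (nat_lit 116) (Tr.lf (nat_lit 5))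
(Tr.lf (nat_lit 2)))
(Tr.nd (nat_lit 118) (Tr.lf (nat_lit 6))
(Tr.nd (nat_lit 119) (Tr.lf (nat_lit 0))
(Tr.lf (nat_lit 3))))))))
(Tr.nd (nat_lit 140) (Tr.nd (nat_lit 130) (Tr.nd (nat_lit 125) (Tr.nd (nat_lit 122) (Tr.nd (nat_lit 121) (Tr.lf (nat_lit 5))
(Tr.lf (nat_lit 1)))
(Tr.nd (nat_lit 123) (Tr.lf (nat_lit 0))
(Tr.nd (nat_lit 124) (Tr.lf (nat_lit 2))
(Tr.lf (nat_lit 6)))))
(Tr.nd (nat_lit 127) (Tr.nd (nat_lit 126) (Tr.lf (nat_lit 0))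
(Tr.lf (nat_lit 3)))
(Tr.nd (nat_lit 128) (Tr.lf (nat_lit 5))
(Tr.nd (nat_lit 129) (Tr.lf (nat_lit 6))
(Tr.lf (nat_lit 1))))))
(Tr.nd (nat_lit 135) (Tr.nd (nat_lit 132) (Tr.nd (nat_lit 131) (Tr.lf (nat_lit 5))
(Tr.lf (nat_lit 0)))
(Tr.nd (nat_lit 133) (Tr.lf (nat_lit 5))
(Tr.nd (nat_lit 134) (Tr.lf (nat_lit 5))
(Tr.lf (nat_lit 1)))))
(Tr.nd (nat_lit 137) (Tr.nd (nat_lit 136) (Tr.lf (nat_lit 3))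
(Tr.lf (nat_lit 6)))
(Tr.nd (nat_lit 138) (Tr.lf (nat_lit 5))
(Tr.nd (nat_lit 139) (Tr.lf (nat_lit 2))
(Tr.lf (nat_lit 1)))))))
(Tr.nd (nat_lit 150) (Tr.nd (nat_lit 145) (Tr.nd (nat_lit 142) (Tr.nd (nat_lit 141) (Tr.lf (nat_lit 0))
(Tr.lf (nat_lit 2)))
(Tr.nd (nat_lit 143) (Tr.lf (nat_lit 6))
(Tr.nd (nat_lit 144) (Tr.lf (nat_lit 3))
(Tr.lf (nat_lit 2)))))
(Tr.nd (nat_lit 147) (Tr.nd (nat_lit 146) (Tr.lf (nat_lit 6))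
(Tr.lf (nat_lit 1)))
(Tr.nd (nat_lit 148) (Tr.lf (nat_lit 6))
(Tr.nd (nat_lit 149) (Tr.lf (nat_lit 6))
(Tr.lf (nat_lit 6))))))
(Tr.nd (nat_lit 155) (Tr.nd (nat_lit 152) (Tr.nd (nat_lit 151) (Tr.lf (nat_lit 1))
(Tr.lf (nat_lit 3)))
(Tr.nd (nat_lit 153) (Tr.lf (nat_lit 2))
(Tr.nd (nat_lit 154) (Tr.lf (nat_lit 6))
(Tr.lf (nat_lit 5)))))
(Tr.nd (nat_lit 158) (Tr.nd (nat_lit 156) (Tr.lf (nat_lit 2))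
(Tr.nd (nat_lit 157) (Tr.lf (nat_lit 3))
(Tr.lf (nat_lit 6))))
(Tr.nd (nat_lit 159) (Tr.lf (nat_lit 2))
(Tr.nd (nat_lit 160) (Tr.lf (nat_lit 3))
(Tr.lf (nat_lit 2))))))))))
theorem mini2_alt : Tr.all (altChk idx inv RW (SW2)) mini2A = true := by decide +kernel
theorem mini2_chk : Tr.all (chkFc idx inv mini2S mini2A (fun b => Tr.find b mini2P) (fun b => Tr.find b mini2Q)) mini2S = true := by decide +kernel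
theorem mini2_run : runM idx inv mini2S 339 0 [Mv.f (nat_lit 3), Mv.f (nat_lit 4), Mv.f (nat_lit 5), Mv.f (nat_lit 6), Mv.f (nat_lit 11), Mv.f (nat_lit 12), Mv.f (nat_lit 27), Mv.f (nat_lit 28), Mv.f (nat_lit 338), Mv.b (nat_lit 28), Mv.b (nat_lit 27), Mv.b (nat_lit 12), Mv.b (nat_lit 11), Mv.b (nat_lit 6), Mv.b (nat_lit 5), Mv.b (nat_lit 4), Mv.b (nat_lit 3)] [Col.e, Col.d, Col.c, Col.b, Col.d, Col.c, Col.g, Col.b, Col.a, Col.b, Col.g, Col.c, Col.d, Col.b, Col.c, Col.d, Col.e] 0 = true := by decide +kernel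
theorem mini2_fix {G X : Type*} [Group G] [MulAction G X] (g : Col → G) (x0 : X) (hinv : ∀ c, g (inv c) = (g c)⁻¹)
    (hRW : ∀ w ∈ RW, gw g w = 1) (hSW : ∀ w ∈ SW2, gw g w • x0 = x0) : gw g [Col.e, Col.d, Col.c, Col.b, Col.d, Col.c, Col.g, Col.b, Col.a, Col.b, Col.g, Col.c, Col.d, Col.b, Col.c, Col.d, Col.e] • x0 = x0 :=
  mini_sound g x0 dec hdec hinv
    (fun a ha => altChk_sound g x0 dec hdec hinv hRW hSW ((Tr.all_iff _ _).1 mini2_alt a ha)) mini2_chk mini2_run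
end CfsgLib.TCSuzb
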