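import Cfsg.Agent.EqBase
import Cfsg.Agent.LibTCSuzbD
set_option autoImplicit false
set_option linter.all false
set_option maxRecDepth 1000000
set_option maxHeartbeats 0
namespace CfsgLib.TCSuzb
open CfsgLib.TC Cfsg.Spor CfsgLib.TCG_Suz
theorem re_3_0 : Tr.all Rf_3 L_0 = true := by decide +kernel
theorem re_3_3 : Tr.all Rf_3 L_3 = true := by decide +kernel
theorem re_0_2 : Tr.all Rf_0 L_2 = true := by decide +kernel
theorem re_2_0 : Tr.all Rf_2 L_0 = true := by decide +kernel
theorem re_2_3 : Tr.all Rf_2 L_3 = true := by decide +kernel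
theorem re_1_1 : Tr.all Rf_1 L_1 = true := by decide +kernel
theorem re_1_4 : Tr.all Rf_1 L_4 = true := by decide +kernel
theorem ce_0_3 : Tr.all CE_0 L_3 = true := by decide +kernel
theorem re_0_5 : Tr.all Rf_0 L_5 = true := by decide +kernel
theorem re_1_5 : Tr.all Rf_1 L_5 = true := by decide +kernel
theorem ce_1_2 : Tr.all CE_1 L_2 = true := by decide +kernel
theorem ce_1_5 : Tr.all CE_1 L_5 = true := by decide +kernel
theorem tr_0 : Tr.all (transQ mt sd PT DT q0) L_0 = true := by decide +kernel
theorem tr_3 : Tr.all (transQ mt sd PT DT q0) L_3 = true := by decide +kernel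
theorem bs_1 : bst L_1 524288 (2 * 524288) = true := by decide +kernel
theorem bs_4 : bst L_4 524288 (2 * 524288) = true := by decide +kernel
theorem pr_1 : prodT L_1 = MM_1 := by decide +kernel
theorem sz_2 : size L_2 = 4096 := by decide +kernel
theorem pr_4 : prodT L_4 = MM_4 := by decide +kernel
theorem bs_5 : bst L_5 524288 (2 * 524288) = true := by decide +kernel
theorem gc_0 : Nat.gcd MM_0 (prodTo 1025) = 1 := by decide +kernel
theorem gc_1 : Nat.gcd MM_1 (prodTo 1025) = 1 := by decide +kernel
theorem gc_2 : Nat.gcd MM_2 (prodTo 1025) = 1 := by decide +kernel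
theorem gc_3 : Nat.gcd MM_3 (prodTo 1025) = 1 := by decide +kernel
theorem gc_4 : Nat.gcd MM_4 (prodTo 1025) = 1 := by decide +kernel
theorem gc_5 : Nat.gcd MM_5 (prodTo 1025) = 1 := by decide +kernel
end CfsgLib.TCSuzb
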