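import Cfsg.Agent.EqBase
import Cfsg.Agent.LibTCSuzbD
set_option autoImplicit false
set_option linter.all false
set_option maxRecDepth 1000000
set_option maxHeartbeats 0
namespace CfsgLib.TCSuzb
open CfsgLib.TC Cfsg.Spor CfsgLib.TCG_Suz
theorem re_3_1 : Tr.all Rf_3 L_1 = true := by decide +kernel
theorem re_3_4 : Tr.all Rf_3 L_4 = true := by decide +kernel
theorem re_0_3 : Tr.all Rf_0 L_3 = true := by decide +kernel
theorem re_2_1 : Tr.all Rf_2 L_1 = true := by decide +kernel
theorem re_2_4 : Tr.all Rf_2 L_4 = true := by decide +kernel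
theorem re_1_2 : Tr.all Rf_1 L_2 = true := by decide +kernel
theorem ce_0_0 : Tr.all CE_0 L_0 = true := by decide +kernel
theorem ce_0_2 : Tr.all CE_0 L_2 = true := by decide +kernel
theorem re_3_5 : Tr.all Rf_3 L_5 = true := by decide +kernel
theorem ce_0_5 : Tr.all CE_0 L_5 = true := by decide +kernel
theorem ce_1_0 : Tr.all CE_1 L_0 = true := by decide +kernel
theorem ce_1_3 : Tr.all CE_1 L_3 = true := by decide +kernel
theorem tr_1 : Tr.all (transQ mt sd PT DT q0) L_1 = true := by decide +kernel
theorem tr_4 : Tr.all (transQ mt sd PT DT q0) L_4 = true := by decide +kernel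
theorem bs_2 : bst L_2 524288 (2 * 524288) = true := by decide +kernel
theorem pr_0 : prodT L_0 = MM_0 := by decide +kernel
theorem sz_1 : size L_1 = 4096 := by decide +kernel
theorem pr_3 : prodT L_3 = MM_3 := by decide +kernel
theorem sz_4 : size L_4 = 4096 := by decide +kernel
theorem pr_5 : prodT L_5 = MM_5 := by decide +kernel
end CfsgLib.TCSuzb
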