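import Cfsg.Agent.EqBase
import Cfsg.Agent.LibTCSuzbOD
set_option autoImplicit false
set_option linter.all false
set_option maxRecDepth 1000000
set_option maxHeartbeats 0
namespace CfsgLib.TCSuzb
open CfsgLib.TC Cfsg.Spor CfsgLib.TCG_Suz
theorem iv_0 : Tr.all IV L_0 = true := by decide +kernel
theorem iv_1 : Tr.all IV L_1 = true := by decide +kernel
theorem iv_2 : Tr.all IV L_2 = true := by decide +kernel
theorem iv_3 : Tr.all IV L_3 = true := by decide +kernel
theorem iv_4 : Tr.all IV L_4 = true := by decide +kernel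
theorem iv_5 : Tr.all IV L_5 = true := by decide +kernel
theorem ht_0 : Tr.all (treeQ mt (fun q => Nat.beq (RP (OB q)) q) wsH HP HR HW) L_0 = true := by decide +kernel
theorem ht_1 : Tr.all (treeQ mt (fun q => Nat.beq (RP (OB q)) q) wsH HP HR HW) L_1 = true := by decide +kernel
theorem ht_2 : Tr.all (treeQ mt (fun q => Nat.beq (RP (OB q)) q) wsH HP HR HW) L_2 = true := by decide +kernel
theorem ht_3 : Tr.all (treeQ mt (fun q => Nat.beq (RP (OB q)) q) wsH HP HR HW) L_3 = true := by decide +kernel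
theorem ht_4 : Tr.all (treeQ mt (fun q => Nat.beq (RP (OB q)) q) wsH HP HR HW) L_4 = true := by decide +kernel
theorem cn_1_0 : cnt OB 1 L_0 = 0 := by decide +kernel
theorem cn_2_0 : cnt OB 2 L_0 = 486 := by decide +kernel
theorem cn_3_0 : cnt OB 3 L_0 = 2533 := by decide +kernel
theorem cn_4_0 : cnt OB 4 L_0 = 1076 := by decide +kernel
theorem cn_1_1 : cnt OB 1 L_1 = 2 := by decide +kernel
theorem cn_2_1 : cnt OB 2 L_1 = 0 := by decide +kernel
theorem cn_3_1 : cnt OB 3 L_1 = 2427 := by decide +kernel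
theorem cn_4_1 : cnt OB 4 L_1 = 1667 := by decide +kernel
theorem cn_1_2 : cnt OB 1 L_2 = 10 := by decide +kernel
theorem cn_2_2 : cnt OB 2 L_2 = 0 := by decide +kernel
theorem cn_3_2 : cnt OB 3 L_2 = 1960 := by decide +kernel
theorem cn_4_2 : cnt OB 4 L_2 = 2126 := by decide +kernel
theorem cn_1_3 : cnt OB 1 L_3 = 30 := by decide +kernel
theorem cn_2_3 : cnt OB 2 L_3 = 0 := by decide +kernel
theorem cn_3_3 : cnt OB 3 L_3 = 1202 := by decide +kernel
theorem cn_4_3 : cnt OB 4 L_3 = 2864 := by decide +kernel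
theorem cn_1_4 : cnt OB 1 L_4 = 63 := by decide +kernel
theorem cn_2_4 : cnt OB 2 L_4 = 0 := by decide +kernel
theorem cn_3_4 : cnt OB 3 L_4 = 379 := by decide +kernel
theorem cn_4_4 : cnt OB 4 L_4 = 3654 := by decide +kernel
theorem ht_5 : Tr.all (treeQ mt (fun q => Nat.beq (RP (OB q)) q) wsH HP HR HW) L_5 = true := by decide +kernel
theorem cn_1_5 : cnt OB 1 L_5 = 175 := by decide +kernel
theorem cn_2_5 : cnt OB 2 L_5 = 0 := by decide +kernel
theorem cn_3_5 : cnt OB 3 L_5 = 4 := by decide +kernel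
theorem cn_4_5 : cnt OB 4 L_5 = 2221 := by decide +kernel
end CfsgLib.TCSuzb
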