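import Cfsg.Agent.EqBase
import Cfsg.Agent.LibTCT
import Cfsg.Agent.LibTCSuzF
import Cfsg.Agent.LibTCSuzO
import Cfsg.Agent.LibTCSuzbO
set_option autoImplicit false
set_option linter.all false
set_option maxRecDepth 1000000

/-! Simplicity of the Suzuki sporadic group. -/

namespace CfsgLib.TCSuz
open CfsgLib.TC Cfsg.Spor CfsgLib.TCG_Suz

/-- generator of the normal subgroup of order three of `⟨a,b,c,d,f,g⟩` -/
def zw : List Col := [.a,.b,.a,.b,.c,.b,.a,.d,.c,.b,.a,.b,.c,.d,.c,.b,.d,.c,.d]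

noncomputable def zz : Suz := gw P zw

theorem rel_word {w : List Col} (h : relChk L stp w = true) : gw P w = 1 :=
  rel_of_faithful closed φ P φ_P order_main.2 h

theorem P_sq (c : Col) : P c * P c = 1 := by
  have h : P (inv c) = (P c)⁻¹ := P_inv c
  have h2 : inv c = c := by cases c <;> rfl
  rw [h2] at h
  nth_rewrite 1 [h]
  exact inv_mul_cancel _

theorem P_inv' (c : Col) : (P c)⁻¹ = P c := inv_eq_of_mul_eq_one_left (P_sq c)

theorem comm_of (x : Col) (h : relChk L stp ([x] ++ zw ++ [x] ++ invW inv zw) = true) : P x * zz * (P x)⁻¹ ∈ Subgroup.zpowers zz := by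
  have h1 := rel_word h
  rw [gw_append, gw_append, gw_append, gw_invW P P_inv] at h1
  simp only [gw_cons, gw_nil, one_mul] at h1
  have h2 : P x * zz * P x = zz := by
    have h3 := eq_inv_of_mul_eq_one_left (a := (gw P zw)⁻¹) (b := P x * (gw P zw * P x)) h1
    rw [inv_inj] at h3
    rw [zz, mul_assoc]; exact h3.symm
  rw [P_inv', h2]
  exact Subgroup.mem_zpowers _

theorem inv_of (x : Col) (h : relChk L stp ([x] ++ zw ++ [x] ++ zw) = true) : P x * zz * (P x)⁻¹ ∈ Subgroup.zpowers zz := by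
  have h1 := rel_word h
  rw [gw_append, gw_append, gw_append] at h1
  simp only [gw_cons, gw_nil, one_mul] at h1
  have h2 : P x * zz * P x = zz⁻¹ := by
    have h3 := eq_inv_of_mul_eq_one_right h1
    rw [zz, mul_assoc]; exact h3
  rw [P_inv', h2]
  exact Subgroup.inv_mem _ (Subgroup.mem_zpowers _)

theorem zz_norm : ∀ h ∈ TCSuzb.H, ∀ a ∈ Subgroup.zpowers zz, h * a * h⁻¹ ∈ Subgroup.zpowers zz := by
  have key : ∀ x ∈ {x | ∃ w ∈ TCSuzb.SW0, gw P w = x}, x * zz * x⁻¹ ∈ Subgroup.zpowers zz ∧ x⁻¹ = x := by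
    rintro _ ⟨w, hw, rfl⟩
    simp only [TCSuzb.SW0, List.mem_cons, List.not_mem_nil, or_false] at hw
    rcases hw with rfl | rfl | rfl | rfl | rfl | rfl <;> rw [gw_cons, gw_nil, one_mul]
    · exact ⟨comm_of _ (by decide +kernel), P_inv' _⟩
    · exact ⟨comm_of _ (by decide +kernel), P_inv' _⟩
    · exact ⟨comm_of _ (by decide +kernel), P_inv' _⟩
    · exact ⟨inv_of _ (by decide +kernel), P_inv' _⟩
    · exact ⟨comm_of _ (by decide +kernel), P_inv' _⟩
    · exact ⟨comm_of _ (by decide +kernel), P_inv' _⟩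
  apply conj_mem_of_gens (le_of_eq TCSuzb.H_eq)
  · intro s hs
    exact zpowers_conj (key s hs).1
  · intro s hs a ha
    have := zpowers_conj (key s hs).1 a ha
    rw [(key s hs).2] at this ⊢
    exact this

theorem zz_mem : zz ∈ TCSuzb.H := by
  have h : ∀ x ∈ [Col.a, Col.b, Col.c, Col.d], P x ∈ TCSuzb.H := by
    intro x hx
    have h0 := TCSuzb.H_SW [x] (by
      simp only [List.mem_cons, List.not_mem_nil, or_false] at hx
      rcases hx with rfl | rfl | rfl | rfl <;> simp [TCSuzb.SW0])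
    rwa [gw_cons, gw_nil, one_mul] at h0
  have key : ∀ w : List Col, (∀ x ∈ w, x ∈ [Col.a, Col.b, Col.c, Col.d]) → gw P w ∈ TCSuzb.H := by
    intro w
    induction w with
    | nil => intro _; exact Subgroup.one_mem _
    | cons c w ih =>
      intro hw
      rw [gw_cons]
      exact Subgroup.mul_mem _ (ih (fun x hx => hw x (List.mem_cons_of_mem _ hx))) (h c (hw c List.mem_cons_self))
  exact key zw (by simp [zw])

def u2 : List Col := [.e,.d,.c,.b,.a,.b,.a,.d,.c,.b,.d,.c,.e]

theorem d_mem : P Col.d ∈ Subgroup.normalClosure (Subgroup.zpowers zz : Set Suz) := by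
  have h1 := rel_word (w := invW inv [.e] ++ (zw ++ ([.e] ++ (invW inv u2 ++ (zw ++ (u2 ++ [.d])))))) (by decide +kernel)
  simp only [gw_append, gw_invW P P_inv] at h1
  have e1 : gw P [Col.d] = P Col.d := by rw [gw_cons, gw_nil, one_mul]
  rw [e1] at h1
  have hz : zz ∈ Subgroup.normalClosure (Subgroup.zpowers zz : Set Suz) := Subgroup.subset_normalClosure (Subgroup.mem_zpowers _)
  have hc : ∀ y : Suz, y * zz * y⁻¹ ∈ Subgroup.normalClosure (Subgroup.zpowers zz : Set Suz) := fun y =>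
    Subgroup.Normal.conj_mem inferInstance zz hz y
  have h2 : P Col.d * (gw P u2 * zz * (gw P u2)⁻¹) * (gw P [Col.e] * zz * (gw P [Col.e])⁻¹) = 1 := by
    rw [← h1, zz]; group
  have h3 : P Col.d = ((gw P u2 * zz * (gw P u2)⁻¹) * (gw P [Col.e] * zz * (gw P [Col.e])⁻¹))⁻¹ := by
    apply eq_inv_of_mul_eq_one_left
    rw [← mul_assoc]; exact h2
  rw [h3]
  exact Subgroup.inv_mem _ (Subgroup.mul_mem _ (hc _) (hc _))

section rels
variable {G : Type*} [Group G] {f : Suz.Gen → G} (hs : Sat Suz.edges Suz.extra f)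
include hs
theorem sq (x : Suz.Gen) : f x * f x = 1 := by
  have := cox_rel h1 h3 hs x x 1 (by cases x <;> decide)
  rwa [pow_one] at this
theorem rab : (f .a * f .b)^5 = 1 := cox_rel h1 h3 hs _ _ _ (by decide)
theorem rbc : (f .b * f .c)^3 = 1 := cox_rel h1 h3 hs _ _ _ (by decide)
theorem rbf : (f .b * f .f)^3 = 1 := cox_rel h1 h3 hs _ _ _ (by decide)
theorem rbg : (f .b * f .g)^3 = 1 := cox_rel h1 h3 hs _ _ _ (by decide)
theorem rde : (f .d * f .e)^3 = 1 := cox_rel h1 h3 hs _ _ _ (by decide)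
theorem ra : f .a = (f .c * f .d)^4 := by
  have := hs (Suz.a * ((Suz.c * Suz.d) ^ 4)⁻¹) (Or.inr (by simp [Suz.extra]))
  simp only [map_mul, map_inv, map_pow, FreeGroup.lift_apply_of] at this
  exact mul_inv_eq_one.1 this
theorem re : ((f .b * f .c * f .d * f .c * f .d) ^ 5 * f .e) ^ 3 = 1 := by
  have := hs (((Suz.b * Suz.c * Suz.d * Suz.c * Suz.d) ^ 5 * Suz.e) ^ 3) (Or.inr (by simp [Suz.extra]))
  simpa only [map_mul, map_inv, map_pow, FreeGroup.lift_apply_of] using this
end rels

theorem gen_top : Subgroup.normalClosure (Subgroup.zpowers zz : Set Suz) = ⊤ := by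
  apply normal_eq_top
  intro f hf hs
  have hd : f .d = 1 := by
    rw [hf]
    exact (QuotientGroup.eq_one_iff _).2 d_mem
  have he : f .e = 1 := odd_one hd (sq hs _) (rde hs) rfl
  have ha : f .a = 1 := by
    rw [ra hs, hd, mul_one, show (4:ℕ) = 2 * 2 from rfl, pow_mul, pow_two (f .c), sq hs, one_pow]
  have hb : f .b = 1 := odd_one ha (sq hs _) (rab hs) rfl
  have hc : f .c = 1 := odd_one hb (sq hs _) (rbc hs) rfl
  have hf' : f .f = 1 := odd_one hb (sq hs _) (rbf hs) rfl
  have hg : f .g = 1 := odd_one hb (sq hs _) (rbg hs) rfl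
  intro x
  cases x <;> assumption

theorem perfect : commutator Suz = ⊤ := by
  apply perfect_of
  intro f hs
  have hab := odd_eq (sq hs _) (sq hs _) (rab hs) rfl
  have hbc := odd_eq (sq hs _) (sq hs _) (rbc hs) rfl
  have hbf := odd_eq (sq hs _) (sq hs _) (rbf hs) rfl
  have hbg := odd_eq (sq hs _) (sq hs _) (rbg hs) rfl
  have hde := odd_eq (sq hs _) (sq hs _) (rde hs) rfl
  have ha : f .a = 1 := by
    rw [ra hs, show (4:ℕ) = 2 * 2 from rfl, pow_mul, pow_two (f .c * f .d), mul_mul_mul_comm, sq hs, sq hs, one_mul, one_pow]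
  have hb : f .b = 1 := by rw [← hab, ha]
  have hc : f .c = 1 := by rw [← hbc, hb]
  have hf' : f .f = 1 := by rw [← hbf, hb]
  have hg : f .g = 1 := by rw [← hbg, hb]
  have he : f .e = 1 := by
    have := re hs
    rw [hb, hc] at this
    simp only [one_mul, mul_one] at this
    rw [sq hs, one_pow, one_mul, pow_succ, pow_two, sq hs, one_mul] at this
    exact this
  have hd : f .d = 1 := by rw [hde, he]
  intro x
  cases x <;> assumption

theorem core_a : H.normalCore = ⊥ := core_bot_of_faithful φ order_main.2 _ main.2.1 main.2.2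

theorem core_b : TCSuzb.H.normalCore = ⊥ := by
  by_contra hne
  have h1 := normal_sup_top maximal core_a hne
  have h2 := index_dvd_of_sup _ _ h1
  rw [main.1] at h2
  have h3 : Nat.card TCSuzb.H.normalCore ∣ Nat.card TCSuzb.H := Subgroup.card_dvd_of_le (Subgroup.normalCore_le _)
  have h4 := Subgroup.card_mul_index TCSuzb.H
  rw [TCSuzb.main.1, order_main.1] at h4
  have h5 : Nat.card TCSuzb.H = 19595520 := by omega
  have h6 := h2.trans h3
  rw [h5] at h6
  revert h6
  norm_num

instance : Nontrivial Suz := by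
  rw [← Finite.one_lt_card_iff_nontrivial, order_main.1]
  norm_num

theorem simple : IsSimpleGroup Suz :=
  simple_iwasawa TCSuzb.H (Subgroup.zpowers zz) TCSuzb.maximal core_b
    ((Subgroup.zpowers_le).2 zz_mem) zz_norm
    (fun a ha b hb => by
      obtain ⟨m, rfl⟩ := ha; obtain ⟨n, rfl⟩ := hb
      exact (Commute.refl zz).zpow_zpow m n) gen_top perfect

end CfsgLib.TCSuz
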