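import Cfsg.Agent.EqBase
import Cfsg.Agent.LibTCAutSuzB
import Cfsg.Agent.LibTCAutSuzC
import Cfsg.Agent.LibTCSuzS
set_option autoImplicit false
set_option linter.all false
set_option maxRecDepth 1000000
set_option maxHeartbeats 0
namespace CfsgLib.TCSuz.Au
open CfsgLib.TC Cfsg.Spor CfsgLib.TCG_Suz CfsgLib.TCSuz CfsgLib.TCSuz.Chain
noncomputable def Z : List (List Col) := [[],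
  [TCG_Suz.Col.c, TCG_Suz.Col.b, TCG_Suz.Col.g, TCG_Suz.Col.f, TCG_Suz.Col.c, TCG_Suz.Col.d, TCG_Suz.Col.e, TCG_Suz.Col.d, TCG_Suz.Col.c, TCG_Suz.Col.d, TCG_Suz.Col.b, TCG_Suz.Col.c, TCG_Suz.Col.d, TCG_Suz.Col.e, TCG_Suz.Col.d, TCG_Suz.Col.b, TCG_Suz.Col.c, TCG_Suz.Col.d, TCG_Suz.Col.c, TCG_Suz.Col.a, TCG_Suz.Col.b, TCG_Suz.Col.c, TCG_Suz.Col.f, TCG_Suz.Col.c, TCG_Suz.Col.b, TCG_Suz.Col.c, TCG_Suz.Col.f, TCG_Suz.Col.c, TCG_Suz.Col.a, TCG_Suz.Col.c, TCG_Suz.Col.d, TCG_Suz.Col.c, TCG_Suz.Col.f, TCG_Suz.Col.b, TCG_Suz.Col.c, TCG_Suz.Col.d, TCG_Suz.Col.a, TCG_Suz.Col.b, TCG_Suz.Col.c, TCG_Suz.Col.a, TCG_Suz.Col.b, TCG_Suz.Col.a, TCG_Suz.Col.b, TCG_Suz.Col.c, TCG_Suz.Col.d, TCG_Suz.Col.c, TCG_Suz.Col.f,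 TCG_Suz.Col.b, TCG_Suz.Col.c, TCG_Suz.Col.d, TCG_Suz.Col.a, TCG_Suz.Col.b, TCG_Suz.Col.c, TCG_Suz.Col.a, TCG_Suz.Col.b, TCG_Suz.Col.a, TCG_Suz.Col.b, TCG_Suz.Col.a, TCG_Suz.Col.b, TCG_Suz.Col.c, TCG_Suz.Col.f, TCG_Suz.Col.c, TCG_Suz.Col.a, TCG_Suz.Col.b, TCG_Suz.Col.e, TCG_Suz.Col.b, TCG_Suz.Col.a, TCG_Suz.Col.c, TCG_Suz.Col.f, TCG_Suz.Col.c, TCG_Suz.Col.b, TCG_Suz.Col.a, TCG_Suz.Col.b, TCG_Suz.Col.f, TCG_Suz.Col.c, TCG_Suz.Col.d, TCG_Suz.Col.e, TCG_Suz.Col.c, TCG_Suz.Col.a, TCG_Suz.Col.b, TCG_Suz.Col.f, TCG_Suz.Col.e, TCG_Suz.Col.d, TCG_Suz.Col.a, TCG_Suz.Col.b, TCG_Suz.Col.c, TCG_Suz.Col.f, TCG_Suz.Col.c, TCG_Suz.Col.b, TCG_Suz.Col.c, TCG_Suz.Col.f, TCG_Suz.Col.c, TCG_Suz.Col.b, TCG_Suz.Col.a,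 TCG_Suz.Col.b, TCG_Suz.Col.a, TCG_Suz.Col.b, TCG_Suz.Col.a, TCG_Suz.Col.c, TCG_Suz.Col.b, TCG_Suz.Col.a, TCG_Suz.Col.d, TCG_Suz.Col.c, TCG_Suz.Col.b, TCG_Suz.Col.f, TCG_Suz.Col.c, TCG_Suz.Col.d, TCG_Suz.Col.c, TCG_Suz.Col.b, TCG_Suz.Col.e, TCG_Suz.Col.b, TCG_Suz.Col.c, TCG_Suz.Col.d, TCG_Suz.Col.c, TCG_Suz.Col.b, TCG_Suz.Col.d, TCG_Suz.Col.c, TCG_Suz.Col.e, TCG_Suz.Col.f, TCG_Suz.Col.b, TCG_Suz.Col.c, TCG_Suz.Col.d, TCG_Suz.Col.c, TCG_Suz.Col.b, TCG_Suz.Col.d, TCG_Suz.Col.c, TCG_Suz.Col.b, TCG_Suz.Col.f, TCG_Suz.Col.g, TCG_Suz.Col.b, TCG_Suz.Col.a, TCG_Suz.Col.c, TCG_Suz.Col.d, TCG_Suz.Col.c, TCG_Suz.Col.b, TCG_Suz.Col.e, TCG_Suz.Col.d, TCG_Suz.Col.c, TCG_Suz.Col.d, TCG_Suz.Col.e, TCG_Suz.Col.f,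 TCG_Suz.Col.g, TCG_Suz.Col.b, TCG_Suz.Col.c],
  [TCG_Suz.Col.c, TCG_Suz.Col.b, TCG_Suz.Col.g, TCG_Suz.Col.f, TCG_Suz.Col.c, TCG_Suz.Col.d, TCG_Suz.Col.e, TCG_Suz.Col.d, TCG_Suz.Col.c, TCG_Suz.Col.d, TCG_Suz.Col.b, TCG_Suz.Col.c, TCG_Suz.Col.d, TCG_Suz.Col.e, TCG_Suz.Col.d, TCG_Suz.Col.b, TCG_Suz.Col.c, TCG_Suz.Col.d, TCG_Suz.Col.c, TCG_Suz.Col.a, TCG_Suz.Col.b, TCG_Suz.Col.c, TCG_Suz.Col.f, TCG_Suz.Col.c, TCG_Suz.Col.b, TCG_Suz.Col.c, TCG_Suz.Col.f, TCG_Suz.Col.c, TCG_Suz.Col.a, TCG_Suz.Col.c, TCG_Suz.Col.d, TCG_Suz.Col.c, TCG_Suz.Col.f, TCG_Suz.Col.b, TCG_Suz.Col.c, TCG_Suz.Col.d, TCG_Suz.Col.a, TCG_Suz.Col.b, TCG_Suz.Col.c, TCG_Suz.Col.a, TCG_Suz.Col.b, TCG_Suz.Col.a, TCG_Suz.Col.b, TCG_Suz.Col.c,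 TCG_Suz.Col.d, TCG_Suz.Col.c, TCG_Suz.Col.f, TCG_Suz.Col.b, TCG_Suz.Col.c, TCG_Suz.Col.d, TCG_Suz.Col.a, TCG_Suz.Col.b, TCG_Suz.Col.c, TCG_Suz.Col.a, TCG_Suz.Col.b, TCG_Suz.Col.a, TCG_Suz.Col.b, TCG_Suz.Col.a, TCG_Suz.Col.b, TCG_Suz.Col.c, TCG_Suz.Col.f, TCG_Suz.Col.c, TCG_Suz.Col.a, TCG_Suz.Col.b, TCG_Suz.Col.e, TCG_Suz.Col.b, TCG_Suz.Col.a, TCG_Suz.Col.c, TCG_Suz.Col.f, TCG_Suz.Col.c, TCG_Suz.Col.b, TCG_Suz.Col.a, TCG_Suz.Col.b, TCG_Suz.Col.f, TCG_Suz.Col.c, TCG_Suz.Col.d, TCG_Suz.Col.e, TCG_Suz.Col.c, TCG_Suz.Col.a, TCG_Suz.Col.b, TCG_Suz.Col.f, TCG_Suz.Col.e, TCG_Suz.Col.d, TCG_Suz.Col.a, TCG_Suz.Col.b, TCG_Suz.Col.a, TCG_Suz.Col.b, TCG_Suz.Col.c, TCG_Suz.Col.e, TCG_Suz.Col.d, TCG_Suz.Col.c,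 TCG_Suz.Col.f, TCG_Suz.Col.b, TCG_Suz.Col.a, TCG_Suz.Col.b, TCG_Suz.Col.c, TCG_Suz.Col.f, TCG_Suz.Col.c, TCG_Suz.Col.a, TCG_Suz.Col.c, TCG_Suz.Col.d, TCG_Suz.Col.c, TCG_Suz.Col.f, TCG_Suz.Col.b, TCG_Suz.Col.c, TCG_Suz.Col.d, TCG_Suz.Col.a, TCG_Suz.Col.b, TCG_Suz.Col.c, TCG_Suz.Col.a, TCG_Suz.Col.b, TCG_Suz.Col.a, TCG_Suz.Col.b, TCG_Suz.Col.a, TCG_Suz.Col.b, TCG_Suz.Col.c, TCG_Suz.Col.f, TCG_Suz.Col.c, TCG_Suz.Col.a, TCG_Suz.Col.b, TCG_Suz.Col.a, TCG_Suz.Col.b, TCG_Suz.Col.a, TCG_Suz.Col.c, TCG_Suz.Col.b, TCG_Suz.Col.a, TCG_Suz.Col.d, TCG_Suz.Col.c, TCG_Suz.Col.b, TCG_Suz.Col.f, TCG_Suz.Col.c, TCG_Suz.Col.d, TCG_Suz.Col.c, TCG_Suz.Col.b, TCG_Suz.Col.e, TCG_Suz.Col.b, TCG_Suz.Col.a, TCG_Suz.Col.c,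 TCG_Suz.Col.f, TCG_Suz.Col.c, TCG_Suz.Col.b, TCG_Suz.Col.c, TCG_Suz.Col.f, TCG_Suz.Col.c, TCG_Suz.Col.b, TCG_Suz.Col.a, TCG_Suz.Col.c, TCG_Suz.Col.d, TCG_Suz.Col.c, TCG_Suz.Col.b, TCG_Suz.Col.d, TCG_Suz.Col.e, TCG_Suz.Col.d, TCG_Suz.Col.c, TCG_Suz.Col.d, TCG_Suz.Col.c, TCG_Suz.Col.b, TCG_Suz.Col.e, TCG_Suz.Col.d, TCG_Suz.Col.f, TCG_Suz.Col.b, TCG_Suz.Col.g, TCG_Suz.Col.b, TCG_Suz.Col.a, TCG_Suz.Col.c, TCG_Suz.Col.d, TCG_Suz.Col.c, TCG_Suz.Col.b, TCG_Suz.Col.e, TCG_Suz.Col.d, TCG_Suz.Col.c, TCG_Suz.Col.b, TCG_Suz.Col.d, TCG_Suz.Col.e, TCG_Suz.Col.f, TCG_Suz.Col.b, TCG_Suz.Col.a],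
  [TCG_Suz.Col.c, TCG_Suz.Col.b, TCG_Suz.Col.g, TCG_Suz.Col.f, TCG_Suz.Col.c, TCG_Suz.Col.d, TCG_Suz.Col.e, TCG_Suz.Col.d, TCG_Suz.Col.c, TCG_Suz.Col.d, TCG_Suz.Col.b, TCG_Suz.Col.c, TCG_Suz.Col.d, TCG_Suz.Col.e, TCG_Suz.Col.d, TCG_Suz.Col.b, TCG_Suz.Col.c, TCG_Suz.Col.d, TCG_Suz.Col.c, TCG_Suz.Col.a, TCG_Suz.Col.b, TCG_Suz.Col.c, TCG_Suz.Col.f, TCG_Suz.Col.c, TCG_Suz.Col.b, TCG_Suz.Col.c, TCG_Suz.Col.f, TCG_Suz.Col.c, TCG_Suz.Col.a, TCG_Suz.Col.c, TCG_Suz.Col.d, TCG_Suz.Col.c, TCG_Suz.Col.f, TCG_Suz.Col.b, TCG_Suz.Col.c, TCG_Suz.Col.d, TCG_Suz.Col.a, TCG_Suz.Col.b, TCG_Suz.Col.c, TCG_Suz.Col.a, TCG_Suz.Col.b, TCG_Suz.Col.a, TCG_Suz.Col.b, TCG_Suz.Col.c, TCG_Suz.Col.d, TCG_Suz.Col.c, TCG_Suz.Col.f,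 TCG_Suz.Col.b, TCG_Suz.Col.c, TCG_Suz.Col.d, TCG_Suz.Col.a, TCG_Suz.Col.b, TCG_Suz.Col.c, TCG_Suz.Col.a, TCG_Suz.Col.b, TCG_Suz.Col.a, TCG_Suz.Col.b, TCG_Suz.Col.a, TCG_Suz.Col.b, TCG_Suz.Col.c, TCG_Suz.Col.f, TCG_Suz.Col.c, TCG_Suz.Col.a, TCG_Suz.Col.b, TCG_Suz.Col.e, TCG_Suz.Col.b, TCG_Suz.Col.c, TCG_Suz.Col.d, TCG_Suz.Col.c, TCG_Suz.Col.f, TCG_Suz.Col.b, TCG_Suz.Col.c, TCG_Suz.Col.d, TCG_Suz.Col.a, TCG_Suz.Col.b, TCG_Suz.Col.c, TCG_Suz.Col.a, TCG_Suz.Col.b, TCG_Suz.Col.a, TCG_Suz.Col.b, TCG_Suz.Col.a, TCG_Suz.Col.b, TCG_Suz.Col.c, TCG_Suz.Col.f, TCG_Suz.Col.c, TCG_Suz.Col.a, TCG_Suz.Col.b, TCG_Suz.Col.c, TCG_Suz.Col.e, TCG_Suz.Col.d, TCG_Suz.Col.c, TCG_Suz.Col.f, TCG_Suz.Col.b, TCG_Suz.Col.a,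 TCG_Suz.Col.b, TCG_Suz.Col.c, TCG_Suz.Col.f, TCG_Suz.Col.c, TCG_Suz.Col.a, TCG_Suz.Col.c, TCG_Suz.Col.d, TCG_Suz.Col.c, TCG_Suz.Col.f, TCG_Suz.Col.b, TCG_Suz.Col.c, TCG_Suz.Col.d, TCG_Suz.Col.a, TCG_Suz.Col.b, TCG_Suz.Col.c, TCG_Suz.Col.a, TCG_Suz.Col.b, TCG_Suz.Col.a, TCG_Suz.Col.b, TCG_Suz.Col.a, TCG_Suz.Col.b, TCG_Suz.Col.c, TCG_Suz.Col.f, TCG_Suz.Col.c, TCG_Suz.Col.b, TCG_Suz.Col.a, TCG_Suz.Col.d, TCG_Suz.Col.e, TCG_Suz.Col.f, TCG_Suz.Col.b, TCG_Suz.Col.a, TCG_Suz.Col.c, TCG_Suz.Col.e, TCG_Suz.Col.d, TCG_Suz.Col.c, TCG_Suz.Col.f, TCG_Suz.Col.b, TCG_Suz.Col.a, TCG_Suz.Col.b, TCG_Suz.Col.c, TCG_Suz.Col.f, TCG_Suz.Col.c, TCG_Suz.Col.a, TCG_Suz.Col.b, TCG_Suz.Col.e, TCG_Suz.Col.b, TCG_Suz.Col.a,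 TCG_Suz.Col.c, TCG_Suz.Col.f, TCG_Suz.Col.c, TCG_Suz.Col.b, TCG_Suz.Col.a, TCG_Suz.Col.b, TCG_Suz.Col.a, TCG_Suz.Col.b, TCG_Suz.Col.a, TCG_Suz.Col.c, TCG_Suz.Col.b, TCG_Suz.Col.a, TCG_Suz.Col.d, TCG_Suz.Col.c, TCG_Suz.Col.b, TCG_Suz.Col.f, TCG_Suz.Col.c, TCG_Suz.Col.d, TCG_Suz.Col.c, TCG_Suz.Col.b, TCG_Suz.Col.e, TCG_Suz.Col.a, TCG_Suz.Col.b, TCG_Suz.Col.a, TCG_Suz.Col.c, TCG_Suz.Col.b, TCG_Suz.Col.a, TCG_Suz.Col.d, TCG_Suz.Col.c, TCG_Suz.Col.b, TCG_Suz.Col.f, TCG_Suz.Col.c, TCG_Suz.Col.d, TCG_Suz.Col.c, TCG_Suz.Col.b, TCG_Suz.Col.e, TCG_Suz.Col.b, TCG_Suz.Col.a, TCG_Suz.Col.c, TCG_Suz.Col.f, TCG_Suz.Col.c, TCG_Suz.Col.b, TCG_Suz.Col.c, TCG_Suz.Col.f, TCG_Suz.Col.c, TCG_Suz.Col.b, TCG_Suz.Col.a,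 TCG_Suz.Col.c, TCG_Suz.Col.d, TCG_Suz.Col.c, TCG_Suz.Col.b, TCG_Suz.Col.d, TCG_Suz.Col.e, TCG_Suz.Col.d, TCG_Suz.Col.c, TCG_Suz.Col.b, TCG_Suz.Col.d, TCG_Suz.Col.f, TCG_Suz.Col.b, TCG_Suz.Col.c, TCG_Suz.Col.d, TCG_Suz.Col.c, TCG_Suz.Col.b, TCG_Suz.Col.d, TCG_Suz.Col.c, TCG_Suz.Col.d, TCG_Suz.Col.g, TCG_Suz.Col.b, TCG_Suz.Col.a, TCG_Suz.Col.c, TCG_Suz.Col.d, TCG_Suz.Col.c, TCG_Suz.Col.b, TCG_Suz.Col.e, TCG_Suz.Col.d, TCG_Suz.Col.c, TCG_Suz.Col.b, TCG_Suz.Col.a, TCG_Suz.Col.b, TCG_Suz.Col.c],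
  [TCG_Suz.Col.c, TCG_Suz.Col.b, TCG_Suz.Col.g, TCG_Suz.Col.f, TCG_Suz.Col.c, TCG_Suz.Col.d, TCG_Suz.Col.e, TCG_Suz.Col.d, TCG_Suz.Col.c, TCG_Suz.Col.d, TCG_Suz.Col.b, TCG_Suz.Col.c, TCG_Suz.Col.d, TCG_Suz.Col.e, TCG_Suz.Col.d, TCG_Suz.Col.b, TCG_Suz.Col.c, TCG_Suz.Col.d, TCG_Suz.Col.c, TCG_Suz.Col.a, TCG_Suz.Col.b, TCG_Suz.Col.c, TCG_Suz.Col.f, TCG_Suz.Col.c, TCG_Suz.Col.b, TCG_Suz.Col.c, TCG_Suz.Col.f, TCG_Suz.Col.c, TCG_Suz.Col.a, TCG_Suz.Col.c, TCG_Suz.Col.d, TCG_Suz.Col.c, TCG_Suz.Col.f, TCG_Suz.Col.b, TCG_Suz.Col.c, TCG_Suz.Col.d, TCG_Suz.Col.a, TCG_Suz.Col.b, TCG_Suz.Col.c, TCG_Suz.Col.a, TCG_Suz.Col.b, TCG_Suz.Col.a, TCG_Suz.Col.b, TCG_Suz.Col.c, TCG_Suz.Col.d, TCG_Suz.Col.c, TCG_Suz.Col.f,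 TCG_Suz.Col.b, TCG_Suz.Col.c, TCG_Suz.Col.d, TCG_Suz.Col.a, TCG_Suz.Col.b, TCG_Suz.Col.c, TCG_Suz.Col.a, TCG_Suz.Col.b, TCG_Suz.Col.a, TCG_Suz.Col.b, TCG_Suz.Col.a, TCG_Suz.Col.b, TCG_Suz.Col.c, TCG_Suz.Col.f, TCG_Suz.Col.c, TCG_Suz.Col.a, TCG_Suz.Col.b, TCG_Suz.Col.e, TCG_Suz.Col.b, TCG_Suz.Col.a, TCG_Suz.Col.c, TCG_Suz.Col.f, TCG_Suz.Col.c, TCG_Suz.Col.b, TCG_Suz.Col.a, TCG_Suz.Col.b, TCG_Suz.Col.f, TCG_Suz.Col.c, TCG_Suz.Col.d, TCG_Suz.Col.e, TCG_Suz.Col.c, TCG_Suz.Col.a, TCG_Suz.Col.b, TCG_Suz.Col.f, TCG_Suz.Col.e, TCG_Suz.Col.d, TCG_Suz.Col.a, TCG_Suz.Col.b, TCG_Suz.Col.a, TCG_Suz.Col.b, TCG_Suz.Col.a, TCG_Suz.Col.b, TCG_Suz.Col.f, TCG_Suz.Col.e, TCG_Suz.Col.d, TCG_Suz.Col.a, TCG_Suz.Col.b,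 TCG_Suz.Col.c, TCG_Suz.Col.f, TCG_Suz.Col.c, TCG_Suz.Col.b, TCG_Suz.Col.a, TCG_Suz.Col.b, TCG_Suz.Col.a, TCG_Suz.Col.b, TCG_Suz.Col.a, TCG_Suz.Col.c, TCG_Suz.Col.b, TCG_Suz.Col.a, TCG_Suz.Col.d, TCG_Suz.Col.c, TCG_Suz.Col.b, TCG_Suz.Col.f, TCG_Suz.Col.c, TCG_Suz.Col.d, TCG_Suz.Col.c, TCG_Suz.Col.a, TCG_Suz.Col.c, TCG_Suz.Col.f, TCG_Suz.Col.c, TCG_Suz.Col.b, TCG_Suz.Col.a, TCG_Suz.Col.b, TCG_Suz.Col.f, TCG_Suz.Col.c, TCG_Suz.Col.d, TCG_Suz.Col.e, TCG_Suz.Col.c, TCG_Suz.Col.a, TCG_Suz.Col.b, TCG_Suz.Col.f, TCG_Suz.Col.e, TCG_Suz.Col.d, TCG_Suz.Col.a, TCG_Suz.Col.b, TCG_Suz.Col.a, TCG_Suz.Col.b, TCG_Suz.Col.c, TCG_Suz.Col.e, TCG_Suz.Col.d, TCG_Suz.Col.c, TCG_Suz.Col.f, TCG_Suz.Col.b, TCG_Suz.Col.a,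 TCG_Suz.Col.b, TCG_Suz.Col.c, TCG_Suz.Col.f, TCG_Suz.Col.c, TCG_Suz.Col.a, TCG_Suz.Col.c, TCG_Suz.Col.d, TCG_Suz.Col.c, TCG_Suz.Col.f, TCG_Suz.Col.b, TCG_Suz.Col.c, TCG_Suz.Col.d, TCG_Suz.Col.a, TCG_Suz.Col.b, TCG_Suz.Col.c, TCG_Suz.Col.a, TCG_Suz.Col.b, TCG_Suz.Col.a, TCG_Suz.Col.b, TCG_Suz.Col.a, TCG_Suz.Col.b, TCG_Suz.Col.c, TCG_Suz.Col.f, TCG_Suz.Col.c, TCG_Suz.Col.a, TCG_Suz.Col.b, TCG_Suz.Col.a, TCG_Suz.Col.b, TCG_Suz.Col.a, TCG_Suz.Col.c, TCG_Suz.Col.b, TCG_Suz.Col.a, TCG_Suz.Col.d, TCG_Suz.Col.c, TCG_Suz.Col.b, TCG_Suz.Col.f, TCG_Suz.Col.c, TCG_Suz.Col.d, TCG_Suz.Col.c, TCG_Suz.Col.b, TCG_Suz.Col.a, TCG_Suz.Col.b, TCG_Suz.Col.a, TCG_Suz.Col.c, TCG_Suz.Col.b, TCG_Suz.Col.a, TCG_Suz.Col.d,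 TCG_Suz.Col.c, TCG_Suz.Col.b, TCG_Suz.Col.f, TCG_Suz.Col.c, TCG_Suz.Col.d, TCG_Suz.Col.c, TCG_Suz.Col.b, TCG_Suz.Col.e, TCG_Suz.Col.b, TCG_Suz.Col.c, TCG_Suz.Col.d, TCG_Suz.Col.c, TCG_Suz.Col.b, TCG_Suz.Col.d, TCG_Suz.Col.e, TCG_Suz.Col.d, TCG_Suz.Col.c, TCG_Suz.Col.f, TCG_Suz.Col.b, TCG_Suz.Col.c, TCG_Suz.Col.d, TCG_Suz.Col.c, TCG_Suz.Col.d, TCG_Suz.Col.c, TCG_Suz.Col.b, TCG_Suz.Col.d, TCG_Suz.Col.g, TCG_Suz.Col.b, TCG_Suz.Col.c, TCG_Suz.Col.d, TCG_Suz.Col.c, TCG_Suz.Col.e, TCG_Suz.Col.d, TCG_Suz.Col.c, TCG_Suz.Col.b, TCG_Suz.Col.f, TCG_Suz.Col.g, TCG_Suz.Col.b, TCG_Suz.Col.c, TCG_Suz.Col.f],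
  [TCG_Suz.Col.c, TCG_Suz.Col.b, TCG_Suz.Col.g, TCG_Suz.Col.f, TCG_Suz.Col.c, TCG_Suz.Col.d, TCG_Suz.Col.e, TCG_Suz.Col.d, TCG_Suz.Col.c, TCG_Suz.Col.d, TCG_Suz.Col.b, TCG_Suz.Col.c, TCG_Suz.Col.d, TCG_Suz.Col.e, TCG_Suz.Col.d, TCG_Suz.Col.b, TCG_Suz.Col.c, TCG_Suz.Col.d, TCG_Suz.Col.c, TCG_Suz.Col.a, TCG_Suz.Col.b, TCG_Suz.Col.c, TCG_Suz.Col.f, TCG_Suz.Col.c, TCG_Suz.Col.b, TCG_Suz.Col.c, TCG_Suz.Col.f, TCG_Suz.Col.c, TCG_Suz.Col.a, TCG_Suz.Col.c, TCG_Suz.Col.d, TCG_Suz.Col.c, TCG_Suz.Col.f, TCG_Suz.Col.b, TCG_Suz.Col.c, TCG_Suz.Col.d, TCG_Suz.Col.a, TCG_Suz.Col.b, TCG_Suz.Col.c, TCG_Suz.Col.a, TCG_Suz.Col.b, TCG_Suz.Col.a, TCG_Suz.Col.b, TCG_Suz.Col.c, TCG_Suz.Col.d, TCG_Suz.Col.c, TCG_Suz.Col.f,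 TCG_Suz.Col.b, TCG_Suz.Col.c, TCG_Suz.Col.d, TCG_Suz.Col.a, TCG_Suz.Col.b, TCG_Suz.Col.c, TCG_Suz.Col.a, TCG_Suz.Col.b, TCG_Suz.Col.a, TCG_Suz.Col.b, TCG_Suz.Col.a, TCG_Suz.Col.b, TCG_Suz.Col.c, TCG_Suz.Col.f, TCG_Suz.Col.c, TCG_Suz.Col.a, TCG_Suz.Col.b, TCG_Suz.Col.e, TCG_Suz.Col.b, TCG_Suz.Col.a, TCG_Suz.Col.c, TCG_Suz.Col.f, TCG_Suz.Col.c, TCG_Suz.Col.b, TCG_Suz.Col.a, TCG_Suz.Col.b, TCG_Suz.Col.f, TCG_Suz.Col.c, TCG_Suz.Col.d, TCG_Suz.Col.e, TCG_Suz.Col.c, TCG_Suz.Col.a, TCG_Suz.Col.b, TCG_Suz.Col.f, TCG_Suz.Col.e, TCG_Suz.Col.d, TCG_Suz.Col.a, TCG_Suz.Col.b, TCG_Suz.Col.a, TCG_Suz.Col.b, TCG_Suz.Col.c, TCG_Suz.Col.e, TCG_Suz.Col.d, TCG_Suz.Col.c, TCG_Suz.Col.f, TCG_Suz.Col.b, TCG_Suz.Col.a,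 TCG_Suz.Col.b, TCG_Suz.Col.c, TCG_Suz.Col.f, TCG_Suz.Col.c, TCG_Suz.Col.a, TCG_Suz.Col.c, TCG_Suz.Col.d, TCG_Suz.Col.c, TCG_Suz.Col.f, TCG_Suz.Col.b, TCG_Suz.Col.c, TCG_Suz.Col.d, TCG_Suz.Col.a, TCG_Suz.Col.b, TCG_Suz.Col.c, TCG_Suz.Col.a, TCG_Suz.Col.b, TCG_Suz.Col.a, TCG_Suz.Col.b, TCG_Suz.Col.a, TCG_Suz.Col.b, TCG_Suz.Col.c, TCG_Suz.Col.f, TCG_Suz.Col.c, TCG_Suz.Col.b, TCG_Suz.Col.a, TCG_Suz.Col.d, TCG_Suz.Col.e, TCG_Suz.Col.f, TCG_Suz.Col.b, TCG_Suz.Col.a, TCG_Suz.Col.b, TCG_Suz.Col.a, TCG_Suz.Col.b, TCG_Suz.Col.a, TCG_Suz.Col.d, TCG_Suz.Col.e, TCG_Suz.Col.f, TCG_Suz.Col.b, TCG_Suz.Col.a, TCG_Suz.Col.c, TCG_Suz.Col.e, TCG_Suz.Col.d, TCG_Suz.Col.c, TCG_Suz.Col.f, TCG_Suz.Col.b, TCG_Suz.Col.a,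 TCG_Suz.Col.b, TCG_Suz.Col.c, TCG_Suz.Col.f, TCG_Suz.Col.c, TCG_Suz.Col.a, TCG_Suz.Col.b, TCG_Suz.Col.e, TCG_Suz.Col.b, TCG_Suz.Col.a, TCG_Suz.Col.c, TCG_Suz.Col.f, TCG_Suz.Col.c, TCG_Suz.Col.b, TCG_Suz.Col.c, TCG_Suz.Col.f, TCG_Suz.Col.c, TCG_Suz.Col.b, TCG_Suz.Col.a, TCG_Suz.Col.b, TCG_Suz.Col.a, TCG_Suz.Col.b, TCG_Suz.Col.a, TCG_Suz.Col.c, TCG_Suz.Col.b, TCG_Suz.Col.a, TCG_Suz.Col.d, TCG_Suz.Col.c, TCG_Suz.Col.b, TCG_Suz.Col.f, TCG_Suz.Col.c, TCG_Suz.Col.d, TCG_Suz.Col.c, TCG_Suz.Col.b, TCG_Suz.Col.a, TCG_Suz.Col.b, TCG_Suz.Col.a, TCG_Suz.Col.c, TCG_Suz.Col.b, TCG_Suz.Col.a, TCG_Suz.Col.d, TCG_Suz.Col.c, TCG_Suz.Col.b, TCG_Suz.Col.f, TCG_Suz.Col.c, TCG_Suz.Col.d, TCG_Suz.Col.c, TCG_Suz.Col.b,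 TCG_Suz.Col.e, TCG_Suz.Col.a, TCG_Suz.Col.b, TCG_Suz.Col.a, TCG_Suz.Col.c, TCG_Suz.Col.b, TCG_Suz.Col.a, TCG_Suz.Col.d, TCG_Suz.Col.c, TCG_Suz.Col.b, TCG_Suz.Col.f, TCG_Suz.Col.c, TCG_Suz.Col.d, TCG_Suz.Col.c, TCG_Suz.Col.b, TCG_Suz.Col.e, TCG_Suz.Col.a, TCG_Suz.Col.b, TCG_Suz.Col.a, TCG_Suz.Col.c, TCG_Suz.Col.b, TCG_Suz.Col.a, TCG_Suz.Col.d, TCG_Suz.Col.c, TCG_Suz.Col.b, TCG_Suz.Col.f, TCG_Suz.Col.c, TCG_Suz.Col.d, TCG_Suz.Col.c, TCG_Suz.Col.a, TCG_Suz.Col.c, TCG_Suz.Col.f, TCG_Suz.Col.c, TCG_Suz.Col.b, TCG_Suz.Col.a, TCG_Suz.Col.c, TCG_Suz.Col.d, TCG_Suz.Col.c, TCG_Suz.Col.b, TCG_Suz.Col.d, TCG_Suz.Col.c, TCG_Suz.Col.b, TCG_Suz.Col.d, TCG_Suz.Col.e, TCG_Suz.Col.f, TCG_Suz.Col.b, TCG_Suz.Col.c,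 TCG_Suz.Col.d, TCG_Suz.Col.e, TCG_Suz.Col.g, TCG_Suz.Col.b, TCG_Suz.Col.c, TCG_Suz.Col.d, TCG_Suz.Col.c, TCG_Suz.Col.b, TCG_Suz.Col.e, TCG_Suz.Col.d, TCG_Suz.Col.f, TCG_Suz.Col.g, TCG_Suz.Col.b, TCG_Suz.Col.c, TCG_Suz.Col.f, TCG_Suz.Col.b],
  [TCG_Suz.Col.c, TCG_Suz.Col.b, TCG_Suz.Col.g, TCG_Suz.Col.f, TCG_Suz.Col.c, TCG_Suz.Col.d, TCG_Suz.Col.e, TCG_Suz.Col.d, TCG_Suz.Col.c, TCG_Suz.Col.d, TCG_Suz.Col.b, TCG_Suz.Col.c, TCG_Suz.Col.d, TCG_Suz.Col.e, TCG_Suz.Col.d, TCG_Suz.Col.b, TCG_Suz.Col.c, TCG_Suz.Col.d, TCG_Suz.Col.c, TCG_Suz.Col.a, TCG_Suz.Col.b, TCG_Suz.Col.c, TCG_Suz.Col.f, TCG_Suz.Col.c, TCG_Suz.Col.b, TCG_Suz.Col.c, TCG_Suz.Col.f, TCG_Suz.Col.c, TCG_Suz.Col.a, TCG_Suz.Col.c, TCG_Suz.Col.d,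 TCG_Suz.Col.c, TCG_Suz.Col.f, TCG_Suz.Col.b, TCG_Suz.Col.c, TCG_Suz.Col.d, TCG_Suz.Col.a, TCG_Suz.Col.b, TCG_Suz.Col.c, TCG_Suz.Col.a, TCG_Suz.Col.b, TCG_Suz.Col.a, TCG_Suz.Col.b, TCG_Suz.Col.c, TCG_Suz.Col.d, TCG_Suz.Col.c, TCG_Suz.Col.f, TCG_Suz.Col.b, TCG_Suz.Col.c, TCG_Suz.Col.d, TCG_Suz.Col.a, TCG_Suz.Col.b, TCG_Suz.Col.c, TCG_Suz.Col.a, TCG_Suz.Col.b, TCG_Suz.Col.a, TCG_Suz.Col.b, TCG_Suz.Col.a, TCG_Suz.Col.b, TCG_Suz.Col.c, TCG_Suz.Col.f, TCG_Suz.Col.c, TCG_Suz.Col.a, TCG_Suz.Col.b, TCG_Suz.Col.e, TCG_Suz.Col.b, TCG_Suz.Col.a, TCG_Suz.Col.c, TCG_Suz.Col.f, TCG_Suz.Col.c, TCG_Suz.Col.b, TCG_Suz.Col.a, TCG_Suz.Col.b, TCG_Suz.Col.f, TCG_Suz.Col.c, TCG_Suz.Col.d, TCG_Suz.Col.e, TCG_Suz.Col.c,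 TCG_Suz.Col.a, TCG_Suz.Col.b, TCG_Suz.Col.f, TCG_Suz.Col.e, TCG_Suz.Col.d, TCG_Suz.Col.a, TCG_Suz.Col.b, TCG_Suz.Col.a, TCG_Suz.Col.b, TCG_Suz.Col.a, TCG_Suz.Col.b, TCG_Suz.Col.f, TCG_Suz.Col.e, TCG_Suz.Col.d, TCG_Suz.Col.a, TCG_Suz.Col.b, TCG_Suz.Col.a, TCG_Suz.Col.b, TCG_Suz.Col.c, TCG_Suz.Col.e, TCG_Suz.Col.d, TCG_Suz.Col.c, TCG_Suz.Col.f, TCG_Suz.Col.b, TCG_Suz.Col.a, TCG_Suz.Col.b, TCG_Suz.Col.c, TCG_Suz.Col.f, TCG_Suz.Col.c, TCG_Suz.Col.a, TCG_Suz.Col.c, TCG_Suz.Col.d, TCG_Suz.Col.c, TCG_Suz.Col.f, TCG_Suz.Col.b, TCG_Suz.Col.c, TCG_Suz.Col.d, TCG_Suz.Col.a, TCG_Suz.Col.b, TCG_Suz.Col.c, TCG_Suz.Col.a, TCG_Suz.Col.b, TCG_Suz.Col.a, TCG_Suz.Col.b, TCG_Suz.Col.a, TCG_Suz.Col.b, TCG_Suz.Col.c,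 TCG_Suz.Col.f, TCG_Suz.Col.c, TCG_Suz.Col.b, TCG_Suz.Col.a, TCG_Suz.Col.d, TCG_Suz.Col.e, TCG_Suz.Col.f, TCG_Suz.Col.b, TCG_Suz.Col.a, TCG_Suz.Col.c, TCG_Suz.Col.e, TCG_Suz.Col.d, TCG_Suz.Col.c, TCG_Suz.Col.f, TCG_Suz.Col.b, TCG_Suz.Col.a, TCG_Suz.Col.b, TCG_Suz.Col.c, TCG_Suz.Col.f, TCG_Suz.Col.c, TCG_Suz.Col.a, TCG_Suz.Col.c, TCG_Suz.Col.d, TCG_Suz.Col.c, TCG_Suz.Col.f, TCG_Suz.Col.b, TCG_Suz.Col.c, TCG_Suz.Col.d, TCG_Suz.Col.a, TCG_Suz.Col.b, TCG_Suz.Col.c, TCG_Suz.Col.a, TCG_Suz.Col.b, TCG_Suz.Col.a, TCG_Suz.Col.b, TCG_Suz.Col.a, TCG_Suz.Col.b, TCG_Suz.Col.c, TCG_Suz.Col.f, TCG_Suz.Col.c, TCG_Suz.Col.a, TCG_Suz.Col.b, TCG_Suz.Col.a, TCG_Suz.Col.b, TCG_Suz.Col.a, TCG_Suz.Col.c, TCG_Suz.Col.b,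 TCG_Suz.Col.a, TCG_Suz.Col.d, TCG_Suz.Col.c, TCG_Suz.Col.b, TCG_Suz.Col.f, TCG_Suz.Col.c, TCG_Suz.Col.d, TCG_Suz.Col.c, TCG_Suz.Col.b, TCG_Suz.Col.a, TCG_Suz.Col.b, TCG_Suz.Col.a, TCG_Suz.Col.c, TCG_Suz.Col.b, TCG_Suz.Col.a, TCG_Suz.Col.d, TCG_Suz.Col.c, TCG_Suz.Col.b, TCG_Suz.Col.f, TCG_Suz.Col.c, TCG_Suz.Col.d, TCG_Suz.Col.c, TCG_Suz.Col.b, TCG_Suz.Col.e, TCG_Suz.Col.b, TCG_Suz.Col.a, TCG_Suz.Col.c, TCG_Suz.Col.f, TCG_Suz.Col.c, TCG_Suz.Col.b, TCG_Suz.Col.a, TCG_Suz.Col.b, TCG_Suz.Col.a, TCG_Suz.Col.b, TCG_Suz.Col.a, TCG_Suz.Col.c, TCG_Suz.Col.b, TCG_Suz.Col.a, TCG_Suz.Col.d, TCG_Suz.Col.c, TCG_Suz.Col.b, TCG_Suz.Col.f, TCG_Suz.Col.c, TCG_Suz.Col.d, TCG_Suz.Col.c, TCG_Suz.Col.b, TCG_Suz.Col.a,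 TCG_Suz.Col.b, TCG_Suz.Col.a, TCG_Suz.Col.c, TCG_Suz.Col.b, TCG_Suz.Col.a, TCG_Suz.Col.d, TCG_Suz.Col.c, TCG_Suz.Col.b, TCG_Suz.Col.f, TCG_Suz.Col.c, TCG_Suz.Col.d, TCG_Suz.Col.c, TCG_Suz.Col.a, TCG_Suz.Col.c, TCG_Suz.Col.f, TCG_Suz.Col.c, TCG_Suz.Col.b, TCG_Suz.Col.a, TCG_Suz.Col.c, TCG_Suz.Col.d, TCG_Suz.Col.c, TCG_Suz.Col.b, TCG_Suz.Col.e, TCG_Suz.Col.d, TCG_Suz.Col.c, TCG_Suz.Col.d, TCG_Suz.Col.c, TCG_Suz.Col.e, TCG_Suz.Col.f, TCG_Suz.Col.b, TCG_Suz.Col.c, TCG_Suz.Col.d, TCG_Suz.Col.c, TCG_Suz.Col.b, TCG_Suz.Col.d, TCG_Suz.Col.e, TCG_Suz.Col.g, TCG_Suz.Col.b, TCG_Suz.Col.a, TCG_Suz.Col.c, TCG_Suz.Col.b, TCG_Suz.Col.d, TCG_Suz.Col.c, TCG_Suz.Col.b, TCG_Suz.Col.a, TCG_Suz.Col.e, TCG_Suz.Col.g,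 TCG_Suz.Col.b],
  [TCG_Suz.Col.c, TCG_Suz.Col.b, TCG_Suz.Col.g, TCG_Suz.Col.f, TCG_Suz.Col.c, TCG_Suz.Col.d, TCG_Suz.Col.e, TCG_Suz.Col.d, TCG_Suz.Col.c, TCG_Suz.Col.d, TCG_Suz.Col.b, TCG_Suz.Col.c, TCG_Suz.Col.d, TCG_Suz.Col.e, TCG_Suz.Col.d, TCG_Suz.Col.b, TCG_Suz.Col.c, TCG_Suz.Col.d, TCG_Suz.Col.c, TCG_Suz.Col.a, TCG_Suz.Col.b, TCG_Suz.Col.c, TCG_Suz.Col.f, TCG_Suz.Col.c, TCG_Suz.Col.b, TCG_Suz.Col.c, TCG_Suz.Col.f, TCG_Suz.Col.c, TCG_Suz.Col.a, TCG_Suz.Col.c, TCG_Suz.Col.d, TCG_Suz.Col.c, TCG_Suz.Col.f, TCG_Suz.Col.b, TCG_Suz.Col.c, TCG_Suz.Col.d, TCG_Suz.Col.a, TCG_Suz.Col.b, TCG_Suz.Col.c, TCG_Suz.Col.a, TCG_Suz.Col.b, TCG_Suz.Col.a, TCG_Suz.Col.b, TCG_Suz.Col.c, TCG_Suz.Col.d, TCG_Suz.Col.c,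 TCG_Suz.Col.f, TCG_Suz.Col.b, TCG_Suz.Col.c, TCG_Suz.Col.d, TCG_Suz.Col.a, TCG_Suz.Col.b, TCG_Suz.Col.c, TCG_Suz.Col.a, TCG_Suz.Col.b, TCG_Suz.Col.a, TCG_Suz.Col.b, TCG_Suz.Col.a, TCG_Suz.Col.b, TCG_Suz.Col.c, TCG_Suz.Col.f, TCG_Suz.Col.c, TCG_Suz.Col.a, TCG_Suz.Col.b, TCG_Suz.Col.e, TCG_Suz.Col.b, TCG_Suz.Col.a, TCG_Suz.Col.c, TCG_Suz.Col.f, TCG_Suz.Col.c, TCG_Suz.Col.b, TCG_Suz.Col.a, TCG_Suz.Col.b, TCG_Suz.Col.f, TCG_Suz.Col.c, TCG_Suz.Col.d, TCG_Suz.Col.e, TCG_Suz.Col.c, TCG_Suz.Col.a, TCG_Suz.Col.b, TCG_Suz.Col.f, TCG_Suz.Col.e, TCG_Suz.Col.d, TCG_Suz.Col.a, TCG_Suz.Col.b, TCG_Suz.Col.a, TCG_Suz.Col.b, TCG_Suz.Col.a, TCG_Suz.Col.b, TCG_Suz.Col.f, TCG_Suz.Col.e, TCG_Suz.Col.d, TCG_Suz.Col.a,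 TCG_Suz.Col.b, TCG_Suz.Col.c, TCG_Suz.Col.f, TCG_Suz.Col.c, TCG_Suz.Col.b, TCG_Suz.Col.a, TCG_Suz.Col.b, TCG_Suz.Col.a, TCG_Suz.Col.b, TCG_Suz.Col.a, TCG_Suz.Col.c, TCG_Suz.Col.b, TCG_Suz.Col.a, TCG_Suz.Col.d, TCG_Suz.Col.c, TCG_Suz.Col.b, TCG_Suz.Col.f, TCG_Suz.Col.c, TCG_Suz.Col.d, TCG_Suz.Col.c, TCG_Suz.Col.a, TCG_Suz.Col.c, TCG_Suz.Col.f, TCG_Suz.Col.c, TCG_Suz.Col.b, TCG_Suz.Col.a, TCG_Suz.Col.b, TCG_Suz.Col.f, TCG_Suz.Col.c, TCG_Suz.Col.d, TCG_Suz.Col.e, TCG_Suz.Col.c, TCG_Suz.Col.a, TCG_Suz.Col.b, TCG_Suz.Col.f, TCG_Suz.Col.e, TCG_Suz.Col.d, TCG_Suz.Col.a, TCG_Suz.Col.b, TCG_Suz.Col.a, TCG_Suz.Col.b, TCG_Suz.Col.c, TCG_Suz.Col.e, TCG_Suz.Col.d, TCG_Suz.Col.c, TCG_Suz.Col.f, TCG_Suz.Col.b,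 TCG_Suz.Col.a, TCG_Suz.Col.b, TCG_Suz.Col.c, TCG_Suz.Col.f, TCG_Suz.Col.c, TCG_Suz.Col.a, TCG_Suz.Col.c, TCG_Suz.Col.d, TCG_Suz.Col.c, TCG_Suz.Col.f, TCG_Suz.Col.b, TCG_Suz.Col.c, TCG_Suz.Col.d, TCG_Suz.Col.a, TCG_Suz.Col.b, TCG_Suz.Col.c, TCG_Suz.Col.a, TCG_Suz.Col.b, TCG_Suz.Col.a, TCG_Suz.Col.b, TCG_Suz.Col.a, TCG_Suz.Col.b, TCG_Suz.Col.c, TCG_Suz.Col.f, TCG_Suz.Col.c, TCG_Suz.Col.b, TCG_Suz.Col.a, TCG_Suz.Col.d, TCG_Suz.Col.e, TCG_Suz.Col.f, TCG_Suz.Col.b, TCG_Suz.Col.a, TCG_Suz.Col.b, TCG_Suz.Col.a, TCG_Suz.Col.b, TCG_Suz.Col.a, TCG_Suz.Col.d, TCG_Suz.Col.e, TCG_Suz.Col.f, TCG_Suz.Col.b, TCG_Suz.Col.a, TCG_Suz.Col.c, TCG_Suz.Col.e, TCG_Suz.Col.d, TCG_Suz.Col.c, TCG_Suz.Col.f, TCG_Suz.Col.b,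 TCG_Suz.Col.a, TCG_Suz.Col.b, TCG_Suz.Col.c, TCG_Suz.Col.f, TCG_Suz.Col.c, TCG_Suz.Col.a, TCG_Suz.Col.c, TCG_Suz.Col.d, TCG_Suz.Col.c, TCG_Suz.Col.f, TCG_Suz.Col.b, TCG_Suz.Col.c, TCG_Suz.Col.d, TCG_Suz.Col.a, TCG_Suz.Col.b, TCG_Suz.Col.c, TCG_Suz.Col.a, TCG_Suz.Col.b, TCG_Suz.Col.a, TCG_Suz.Col.b, TCG_Suz.Col.a, TCG_Suz.Col.b, TCG_Suz.Col.c, TCG_Suz.Col.f, TCG_Suz.Col.c, TCG_Suz.Col.b, TCG_Suz.Col.a, TCG_Suz.Col.d, TCG_Suz.Col.e, TCG_Suz.Col.f, TCG_Suz.Col.b, TCG_Suz.Col.a, TCG_Suz.Col.b, TCG_Suz.Col.a, TCG_Suz.Col.c, TCG_Suz.Col.f, TCG_Suz.Col.c, TCG_Suz.Col.b, TCG_Suz.Col.a, TCG_Suz.Col.b, TCG_Suz.Col.a, TCG_Suz.Col.b, TCG_Suz.Col.a, TCG_Suz.Col.c, TCG_Suz.Col.b, TCG_Suz.Col.a, TCG_Suz.Col.d,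 TCG_Suz.Col.c, TCG_Suz.Col.b, TCG_Suz.Col.f, TCG_Suz.Col.c, TCG_Suz.Col.d, TCG_Suz.Col.c, TCG_Suz.Col.b, TCG_Suz.Col.e, TCG_Suz.Col.a, TCG_Suz.Col.b, TCG_Suz.Col.a, TCG_Suz.Col.c, TCG_Suz.Col.b, TCG_Suz.Col.a, TCG_Suz.Col.d, TCG_Suz.Col.c, TCG_Suz.Col.b, TCG_Suz.Col.f, TCG_Suz.Col.c, TCG_Suz.Col.d, TCG_Suz.Col.c, TCG_Suz.Col.b, TCG_Suz.Col.a, TCG_Suz.Col.b, TCG_Suz.Col.a, TCG_Suz.Col.c, TCG_Suz.Col.b, TCG_Suz.Col.a, TCG_Suz.Col.d, TCG_Suz.Col.c, TCG_Suz.Col.b, TCG_Suz.Col.f, TCG_Suz.Col.c, TCG_Suz.Col.d, TCG_Suz.Col.c, TCG_Suz.Col.b, TCG_Suz.Col.e, TCG_Suz.Col.b, TCG_Suz.Col.a, TCG_Suz.Col.c, TCG_Suz.Col.f, TCG_Suz.Col.c, TCG_Suz.Col.b, TCG_Suz.Col.a, TCG_Suz.Col.b, TCG_Suz.Col.a, TCG_Suz.Col.b,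 TCG_Suz.Col.a, TCG_Suz.Col.c, TCG_Suz.Col.b, TCG_Suz.Col.a, TCG_Suz.Col.d, TCG_Suz.Col.c, TCG_Suz.Col.b, TCG_Suz.Col.f, TCG_Suz.Col.c, TCG_Suz.Col.d, TCG_Suz.Col.c, TCG_Suz.Col.a, TCG_Suz.Col.c, TCG_Suz.Col.f, TCG_Suz.Col.c, TCG_Suz.Col.b, TCG_Suz.Col.a, TCG_Suz.Col.c, TCG_Suz.Col.d, TCG_Suz.Col.c, TCG_Suz.Col.b, TCG_Suz.Col.e, TCG_Suz.Col.d, TCG_Suz.Col.c, TCG_Suz.Col.d, TCG_Suz.Col.e, TCG_Suz.Col.g, TCG_Suz.Col.b, TCG_Suz.Col.c, TCG_Suz.Col.d, TCG_Suz.Col.c, TCG_Suz.Col.b, TCG_Suz.Col.e, TCG_Suz.Col.f, TCG_Suz.Col.g, TCG_Suz.Col.b, TCG_Suz.Col.c, TCG_Suz.Col.f],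
  [TCG_Suz.Col.c, TCG_Suz.Col.b, TCG_Suz.Col.g, TCG_Suz.Col.f, TCG_Suz.Col.c, TCG_Suz.Col.d, TCG_Suz.Col.e, TCG_Suz.Col.d, TCG_Suz.Col.c, TCG_Suz.Col.d, TCG_Suz.Col.b, TCG_Suz.Col.c, TCG_Suz.Col.d, TCG_Suz.Col.e, TCG_Suz.Col.d, TCG_Suz.Col.b, TCG_Suz.Col.c, TCG_Suz.Col.d, TCG_Suz.Col.c, TCG_Suz.Col.a, TCG_Suz.Col.b, TCG_Suz.Col.c, TCG_Suz.Col.f, TCG_Suz.Col.c, TCG_Suz.Col.b, TCG_Suz.Col.c, TCG_Suz.Col.f, TCG_Suz.Col.c, TCG_Suz.Col.a, TCG_Suz.Col.c, TCG_Suz.Col.d, TCG_Suz.Col.c, TCG_Suz.Col.f, TCG_Suz.Col.b, TCG_Suz.Col.c, TCG_Suz.Col.d, TCG_Suz.Col.a, TCG_Suz.Col.b, TCG_Suz.Col.c, TCG_Suz.Col.a, TCG_Suz.Col.b, TCG_Suz.Col.a, TCG_Suz.Col.b, TCG_Suz.Col.c, TCG_Suz.Col.d, TCG_Suz.Col.c, TCG_Suz.Col.f,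 TCG_Suz.Col.b, TCG_Suz.Col.c, TCG_Suz.Col.d, TCG_Suz.Col.a, TCG_Suz.Col.b, TCG_Suz.Col.c, TCG_Suz.Col.a, TCG_Suz.Col.b, TCG_Suz.Col.a, TCG_Suz.Col.b, TCG_Suz.Col.a, TCG_Suz.Col.b, TCG_Suz.Col.c, TCG_Suz.Col.f, TCG_Suz.Col.c, TCG_Suz.Col.a, TCG_Suz.Col.b, TCG_Suz.Col.e, TCG_Suz.Col.b, TCG_Suz.Col.a, TCG_Suz.Col.c, TCG_Suz.Col.f, TCG_Suz.Col.c, TCG_Suz.Col.b, TCG_Suz.Col.a, TCG_Suz.Col.b, TCG_Suz.Col.f, TCG_Suz.Col.c, TCG_Suz.Col.d, TCG_Suz.Col.e, TCG_Suz.Col.c, TCG_Suz.Col.a, TCG_Suz.Col.b, TCG_Suz.Col.f, TCG_Suz.Col.e, TCG_Suz.Col.d, TCG_Suz.Col.a, TCG_Suz.Col.b, TCG_Suz.Col.a, TCG_Suz.Col.b, TCG_Suz.Col.a, TCG_Suz.Col.b, TCG_Suz.Col.f, TCG_Suz.Col.e, TCG_Suz.Col.d, TCG_Suz.Col.a, TCG_Suz.Col.b,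 TCG_Suz.Col.c, TCG_Suz.Col.f, TCG_Suz.Col.c, TCG_Suz.Col.b, TCG_Suz.Col.a, TCG_Suz.Col.b, TCG_Suz.Col.a, TCG_Suz.Col.b, TCG_Suz.Col.a, TCG_Suz.Col.c, TCG_Suz.Col.b, TCG_Suz.Col.a, TCG_Suz.Col.d, TCG_Suz.Col.c, TCG_Suz.Col.b, TCG_Suz.Col.f, TCG_Suz.Col.c, TCG_Suz.Col.d, TCG_Suz.Col.c, TCG_Suz.Col.a, TCG_Suz.Col.c, TCG_Suz.Col.f, TCG_Suz.Col.c, TCG_Suz.Col.b, TCG_Suz.Col.a, TCG_Suz.Col.b, TCG_Suz.Col.f, TCG_Suz.Col.c, TCG_Suz.Col.d, TCG_Suz.Col.e, TCG_Suz.Col.c, TCG_Suz.Col.a, TCG_Suz.Col.b, TCG_Suz.Col.f, TCG_Suz.Col.e, TCG_Suz.Col.d, TCG_Suz.Col.a, TCG_Suz.Col.b, TCG_Suz.Col.a, TCG_Suz.Col.b, TCG_Suz.Col.c, TCG_Suz.Col.e, TCG_Suz.Col.d, TCG_Suz.Col.c, TCG_Suz.Col.f, TCG_Suz.Col.b, TCG_Suz.Col.a,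 TCG_Suz.Col.b, TCG_Suz.Col.c, TCG_Suz.Col.f, TCG_Suz.Col.c, TCG_Suz.Col.a, TCG_Suz.Col.c, TCG_Suz.Col.d, TCG_Suz.Col.c, TCG_Suz.Col.f, TCG_Suz.Col.b, TCG_Suz.Col.c, TCG_Suz.Col.d, TCG_Suz.Col.a, TCG_Suz.Col.b, TCG_Suz.Col.c, TCG_Suz.Col.a, TCG_Suz.Col.b, TCG_Suz.Col.a, TCG_Suz.Col.b, TCG_Suz.Col.a, TCG_Suz.Col.b, TCG_Suz.Col.c, TCG_Suz.Col.f, TCG_Suz.Col.c, TCG_Suz.Col.b, TCG_Suz.Col.a, TCG_Suz.Col.d, TCG_Suz.Col.e, TCG_Suz.Col.f, TCG_Suz.Col.b, TCG_Suz.Col.a, TCG_Suz.Col.b, TCG_Suz.Col.a, TCG_Suz.Col.b, TCG_Suz.Col.a, TCG_Suz.Col.d, TCG_Suz.Col.e, TCG_Suz.Col.f, TCG_Suz.Col.b, TCG_Suz.Col.a, TCG_Suz.Col.c, TCG_Suz.Col.e, TCG_Suz.Col.d, TCG_Suz.Col.c, TCG_Suz.Col.f, TCG_Suz.Col.b, TCG_Suz.Col.a,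 TCG_Suz.Col.b, TCG_Suz.Col.c, TCG_Suz.Col.f, TCG_Suz.Col.c, TCG_Suz.Col.a, TCG_Suz.Col.c, TCG_Suz.Col.d, TCG_Suz.Col.c, TCG_Suz.Col.f, TCG_Suz.Col.b, TCG_Suz.Col.c, TCG_Suz.Col.d, TCG_Suz.Col.a, TCG_Suz.Col.b, TCG_Suz.Col.c, TCG_Suz.Col.a, TCG_Suz.Col.b, TCG_Suz.Col.a, TCG_Suz.Col.b, TCG_Suz.Col.a, TCG_Suz.Col.b, TCG_Suz.Col.c, TCG_Suz.Col.f, TCG_Suz.Col.c, TCG_Suz.Col.a, TCG_Suz.Col.b, TCG_Suz.Col.a, TCG_Suz.Col.b, TCG_Suz.Col.a, TCG_Suz.Col.c, TCG_Suz.Col.b, TCG_Suz.Col.a, TCG_Suz.Col.d, TCG_Suz.Col.c, TCG_Suz.Col.b, TCG_Suz.Col.f, TCG_Suz.Col.c, TCG_Suz.Col.d, TCG_Suz.Col.c, TCG_Suz.Col.b, TCG_Suz.Col.e, TCG_Suz.Col.b, TCG_Suz.Col.a, TCG_Suz.Col.c, TCG_Suz.Col.f, TCG_Suz.Col.c, TCG_Suz.Col.b,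 TCG_Suz.Col.c, TCG_Suz.Col.f, TCG_Suz.Col.c, TCG_Suz.Col.b, TCG_Suz.Col.a, TCG_Suz.Col.b, TCG_Suz.Col.a, TCG_Suz.Col.b, TCG_Suz.Col.a, TCG_Suz.Col.c, TCG_Suz.Col.b, TCG_Suz.Col.a, TCG_Suz.Col.d, TCG_Suz.Col.c, TCG_Suz.Col.b, TCG_Suz.Col.f, TCG_Suz.Col.c, TCG_Suz.Col.d, TCG_Suz.Col.c, TCG_Suz.Col.b, TCG_Suz.Col.a, TCG_Suz.Col.b, TCG_Suz.Col.a, TCG_Suz.Col.c, TCG_Suz.Col.b, TCG_Suz.Col.a, TCG_Suz.Col.d, TCG_Suz.Col.c, TCG_Suz.Col.b, TCG_Suz.Col.f, TCG_Suz.Col.c, TCG_Suz.Col.d, TCG_Suz.Col.c, TCG_Suz.Col.b, TCG_Suz.Col.e, TCG_Suz.Col.a, TCG_Suz.Col.b, TCG_Suz.Col.a, TCG_Suz.Col.c, TCG_Suz.Col.b, TCG_Suz.Col.a, TCG_Suz.Col.d, TCG_Suz.Col.c, TCG_Suz.Col.b, TCG_Suz.Col.f, TCG_Suz.Col.c, TCG_Suz.Col.d,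 TCG_Suz.Col.c, TCG_Suz.Col.b, TCG_Suz.Col.e, TCG_Suz.Col.b, TCG_Suz.Col.a, TCG_Suz.Col.c, TCG_Suz.Col.f, TCG_Suz.Col.c, TCG_Suz.Col.b, TCG_Suz.Col.c, TCG_Suz.Col.f, TCG_Suz.Col.c, TCG_Suz.Col.b, TCG_Suz.Col.a, TCG_Suz.Col.c, TCG_Suz.Col.d, TCG_Suz.Col.c, TCG_Suz.Col.b, TCG_Suz.Col.f, TCG_Suz.Col.b, TCG_Suz.Col.c, TCG_Suz.Col.d, TCG_Suz.Col.c, TCG_Suz.Col.g, TCG_Suz.Col.b, TCG_Suz.Col.a, TCG_Suz.Col.c, TCG_Suz.Col.d, TCG_Suz.Col.c, TCG_Suz.Col.b, TCG_Suz.Col.a, TCG_Suz.Col.e, TCG_Suz.Col.d, TCG_Suz.Col.c, TCG_Suz.Col.b, TCG_Suz.Col.a, TCG_Suz.Col.d, TCG_Suz.Col.f],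
  [TCG_Suz.Col.c, TCG_Suz.Col.b, TCG_Suz.Col.g, TCG_Suz.Col.f, TCG_Suz.Col.c, TCG_Suz.Col.d, TCG_Suz.Col.e, TCG_Suz.Col.d, TCG_Suz.Col.c, TCG_Suz.Col.d, TCG_Suz.Col.b, TCG_Suz.Col.c, TCG_Suz.Col.d, TCG_Suz.Col.e, TCG_Suz.Col.d, TCG_Suz.Col.b, TCG_Suz.Col.c, TCG_Suz.Col.d, TCG_Suz.Col.c, TCG_Suz.Col.a, TCG_Suz.Col.b, TCG_Suz.Col.c, TCG_Suz.Col.f, TCG_Suz.Col.c, TCG_Suz.Col.b, TCG_Suz.Col.c, TCG_Suz.Col.f, TCG_Suz.Col.c, TCG_Suz.Col.a, TCG_Suz.Col.c, TCG_Suz.Col.d, TCG_Suz.Col.c, TCG_Suz.Col.f, TCG_Suz.Col.b, TCG_Suz.Col.c, TCG_Suz.Col.d, TCG_Suz.Col.a, TCG_Suz.Col.b, TCG_Suz.Col.c, TCG_Suz.Col.a, TCG_Suz.Col.b, TCG_Suz.Col.a, TCG_Suz.Col.b, TCG_Suz.Col.c, TCG_Suz.Col.d, TCG_Suz.Col.c, TCG_Suz.Col.f,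 TCG_Suz.Col.b, TCG_Suz.Col.c, TCG_Suz.Col.d, TCG_Suz.Col.a, TCG_Suz.Col.b, TCG_Suz.Col.c, TCG_Suz.Col.a, TCG_Suz.Col.b, TCG_Suz.Col.a, TCG_Suz.Col.b, TCG_Suz.Col.a, TCG_Suz.Col.b, TCG_Suz.Col.c, TCG_Suz.Col.f, TCG_Suz.Col.c, TCG_Suz.Col.a, TCG_Suz.Col.b, TCG_Suz.Col.e, TCG_Suz.Col.b, TCG_Suz.Col.a, TCG_Suz.Col.c, TCG_Suz.Col.f, TCG_Suz.Col.c, TCG_Suz.Col.b, TCG_Suz.Col.a, TCG_Suz.Col.b, TCG_Suz.Col.f, TCG_Suz.Col.c, TCG_Suz.Col.d, TCG_Suz.Col.e, TCG_Suz.Col.c, TCG_Suz.Col.a, TCG_Suz.Col.b, TCG_Suz.Col.f, TCG_Suz.Col.e, TCG_Suz.Col.d, TCG_Suz.Col.a, TCG_Suz.Col.b, TCG_Suz.Col.a, TCG_Suz.Col.b, TCG_Suz.Col.a, TCG_Suz.Col.b, TCG_Suz.Col.f, TCG_Suz.Col.e, TCG_Suz.Col.d, TCG_Suz.Col.a, TCG_Suz.Col.b,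 TCG_Suz.Col.c, TCG_Suz.Col.f, TCG_Suz.Col.c, TCG_Suz.Col.b, TCG_Suz.Col.a, TCG_Suz.Col.b, TCG_Suz.Col.a, TCG_Suz.Col.b, TCG_Suz.Col.a, TCG_Suz.Col.c, TCG_Suz.Col.b, TCG_Suz.Col.a, TCG_Suz.Col.d, TCG_Suz.Col.c, TCG_Suz.Col.b, TCG_Suz.Col.f, TCG_Suz.Col.c, TCG_Suz.Col.d, TCG_Suz.Col.c, TCG_Suz.Col.a, TCG_Suz.Col.c, TCG_Suz.Col.f, TCG_Suz.Col.c, TCG_Suz.Col.b, TCG_Suz.Col.a, TCG_Suz.Col.b, TCG_Suz.Col.f, TCG_Suz.Col.c, TCG_Suz.Col.d, TCG_Suz.Col.e, TCG_Suz.Col.c, TCG_Suz.Col.a, TCG_Suz.Col.b, TCG_Suz.Col.f, TCG_Suz.Col.e, TCG_Suz.Col.d, TCG_Suz.Col.a, TCG_Suz.Col.b, TCG_Suz.Col.a, TCG_Suz.Col.b, TCG_Suz.Col.a, TCG_Suz.Col.b, TCG_Suz.Col.f, TCG_Suz.Col.e, TCG_Suz.Col.d, TCG_Suz.Col.a, TCG_Suz.Col.b,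 TCG_Suz.Col.c, TCG_Suz.Col.f, TCG_Suz.Col.c, TCG_Suz.Col.b, TCG_Suz.Col.a, TCG_Suz.Col.b, TCG_Suz.Col.a, TCG_Suz.Col.b, TCG_Suz.Col.a, TCG_Suz.Col.c, TCG_Suz.Col.b, TCG_Suz.Col.a, TCG_Suz.Col.d, TCG_Suz.Col.c, TCG_Suz.Col.b, TCG_Suz.Col.f, TCG_Suz.Col.c, TCG_Suz.Col.d, TCG_Suz.Col.c, TCG_Suz.Col.a, TCG_Suz.Col.c, TCG_Suz.Col.f, TCG_Suz.Col.c, TCG_Suz.Col.b, TCG_Suz.Col.a, TCG_Suz.Col.b, TCG_Suz.Col.f, TCG_Suz.Col.c, TCG_Suz.Col.d, TCG_Suz.Col.e, TCG_Suz.Col.c, TCG_Suz.Col.a, TCG_Suz.Col.b, TCG_Suz.Col.f, TCG_Suz.Col.e, TCG_Suz.Col.d, TCG_Suz.Col.a, TCG_Suz.Col.b, TCG_Suz.Col.a, TCG_Suz.Col.b, TCG_Suz.Col.c, TCG_Suz.Col.e, TCG_Suz.Col.d, TCG_Suz.Col.c, TCG_Suz.Col.f, TCG_Suz.Col.b, TCG_Suz.Col.a,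 TCG_Suz.Col.b, TCG_Suz.Col.c, TCG_Suz.Col.f, TCG_Suz.Col.c, TCG_Suz.Col.a, TCG_Suz.Col.c, TCG_Suz.Col.d, TCG_Suz.Col.c, TCG_Suz.Col.f, TCG_Suz.Col.b, TCG_Suz.Col.c, TCG_Suz.Col.d, TCG_Suz.Col.a, TCG_Suz.Col.b, TCG_Suz.Col.c, TCG_Suz.Col.a, TCG_Suz.Col.b, TCG_Suz.Col.a, TCG_Suz.Col.b, TCG_Suz.Col.a, TCG_Suz.Col.b, TCG_Suz.Col.c, TCG_Suz.Col.f, TCG_Suz.Col.c, TCG_Suz.Col.b, TCG_Suz.Col.a, TCG_Suz.Col.d, TCG_Suz.Col.e, TCG_Suz.Col.f, TCG_Suz.Col.b, TCG_Suz.Col.a, TCG_Suz.Col.b, TCG_Suz.Col.a, TCG_Suz.Col.b, TCG_Suz.Col.a, TCG_Suz.Col.d, TCG_Suz.Col.e, TCG_Suz.Col.f, TCG_Suz.Col.b, TCG_Suz.Col.a, TCG_Suz.Col.c, TCG_Suz.Col.e, TCG_Suz.Col.d, TCG_Suz.Col.c, TCG_Suz.Col.f, TCG_Suz.Col.b, TCG_Suz.Col.a,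 TCG_Suz.Col.b, TCG_Suz.Col.c, TCG_Suz.Col.f, TCG_Suz.Col.c, TCG_Suz.Col.a, TCG_Suz.Col.c, TCG_Suz.Col.d, TCG_Suz.Col.c, TCG_Suz.Col.f, TCG_Suz.Col.b, TCG_Suz.Col.c, TCG_Suz.Col.d, TCG_Suz.Col.a, TCG_Suz.Col.b, TCG_Suz.Col.c, TCG_Suz.Col.a, TCG_Suz.Col.b, TCG_Suz.Col.a, TCG_Suz.Col.b, TCG_Suz.Col.a, TCG_Suz.Col.b, TCG_Suz.Col.c, TCG_Suz.Col.f, TCG_Suz.Col.c, TCG_Suz.Col.a, TCG_Suz.Col.b, TCG_Suz.Col.a, TCG_Suz.Col.b, TCG_Suz.Col.a, TCG_Suz.Col.c, TCG_Suz.Col.b, TCG_Suz.Col.a, TCG_Suz.Col.d, TCG_Suz.Col.c, TCG_Suz.Col.b, TCG_Suz.Col.f, TCG_Suz.Col.c, TCG_Suz.Col.d, TCG_Suz.Col.c, TCG_Suz.Col.b, TCG_Suz.Col.e, TCG_Suz.Col.b, TCG_Suz.Col.a, TCG_Suz.Col.c, TCG_Suz.Col.f, TCG_Suz.Col.c, TCG_Suz.Col.b,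 TCG_Suz.Col.a, TCG_Suz.Col.b, TCG_Suz.Col.a, TCG_Suz.Col.b, TCG_Suz.Col.a, TCG_Suz.Col.c, TCG_Suz.Col.b, TCG_Suz.Col.a, TCG_Suz.Col.d, TCG_Suz.Col.c, TCG_Suz.Col.b, TCG_Suz.Col.f, TCG_Suz.Col.c, TCG_Suz.Col.d, TCG_Suz.Col.c, TCG_Suz.Col.b, TCG_Suz.Col.e, TCG_Suz.Col.b, TCG_Suz.Col.a, TCG_Suz.Col.c, TCG_Suz.Col.f, TCG_Suz.Col.c, TCG_Suz.Col.b, TCG_Suz.Col.a, TCG_Suz.Col.b, TCG_Suz.Col.a, TCG_Suz.Col.b, TCG_Suz.Col.a, TCG_Suz.Col.c, TCG_Suz.Col.b, TCG_Suz.Col.a, TCG_Suz.Col.d, TCG_Suz.Col.c, TCG_Suz.Col.b, TCG_Suz.Col.f, TCG_Suz.Col.c, TCG_Suz.Col.d, TCG_Suz.Col.c, TCG_Suz.Col.a, TCG_Suz.Col.c, TCG_Suz.Col.f, TCG_Suz.Col.c, TCG_Suz.Col.b, TCG_Suz.Col.a, TCG_Suz.Col.b, TCG_Suz.Col.a, TCG_Suz.Col.b,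 TCG_Suz.Col.a, TCG_Suz.Col.c, TCG_Suz.Col.b, TCG_Suz.Col.a, TCG_Suz.Col.d, TCG_Suz.Col.c, TCG_Suz.Col.b, TCG_Suz.Col.f, TCG_Suz.Col.c, TCG_Suz.Col.d, TCG_Suz.Col.c, TCG_Suz.Col.a, TCG_Suz.Col.c, TCG_Suz.Col.f, TCG_Suz.Col.c, TCG_Suz.Col.b, TCG_Suz.Col.a, TCG_Suz.Col.c, TCG_Suz.Col.d, TCG_Suz.Col.c, TCG_Suz.Col.b, TCG_Suz.Col.d, TCG_Suz.Col.c, TCG_Suz.Col.e, TCG_Suz.Col.f, TCG_Suz.Col.b, TCG_Suz.Col.c, TCG_Suz.Col.d, TCG_Suz.Col.c, TCG_Suz.Col.b, TCG_Suz.Col.d, TCG_Suz.Col.c, TCG_Suz.Col.b, TCG_Suz.Col.e, TCG_Suz.Col.d, TCG_Suz.Col.g, TCG_Suz.Col.b, TCG_Suz.Col.a, TCG_Suz.Col.c, TCG_Suz.Col.b, TCG_Suz.Col.d, TCG_Suz.Col.c, TCG_Suz.Col.d, TCG_Suz.Col.e, TCG_Suz.Col.d, TCG_Suz.Col.c, TCG_Suz.Col.f,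 TCG_Suz.Col.b, TCG_Suz.Col.c, TCG_Suz.Col.d, TCG_Suz.Col.e, TCG_Suz.Col.g],
  [TCG_Suz.Col.c, TCG_Suz.Col.b, TCG_Suz.Col.g, TCG_Suz.Col.f, TCG_Suz.Col.c, TCG_Suz.Col.d, TCG_Suz.Col.e, TCG_Suz.Col.d, TCG_Suz.Col.c, TCG_Suz.Col.d, TCG_Suz.Col.b, TCG_Suz.Col.c, TCG_Suz.Col.d, TCG_Suz.Col.e, TCG_Suz.Col.d, TCG_Suz.Col.b, TCG_Suz.Col.c, TCG_Suz.Col.d, TCG_Suz.Col.c, TCG_Suz.Col.a, TCG_Suz.Col.b, TCG_Suz.Col.c, TCG_Suz.Col.f, TCG_Suz.Col.c, TCG_Suz.Col.b, TCG_Suz.Col.c, TCG_Suz.Col.f, TCG_Suz.Col.c, TCG_Suz.Col.a, TCG_Suz.Col.c, TCG_Suz.Col.d, TCG_Suz.Col.c, TCG_Suz.Col.f, TCG_Suz.Col.b, TCG_Suz.Col.c, TCG_Suz.Col.d, TCG_Suz.Col.a, TCG_Suz.Col.b, TCG_Suz.Col.c, TCG_Suz.Col.a, TCG_Suz.Col.b, TCG_Suz.Col.a,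 TCG_Suz.Col.b, TCG_Suz.Col.c, TCG_Suz.Col.d, TCG_Suz.Col.c, TCG_Suz.Col.f, TCG_Suz.Col.b, TCG_Suz.Col.c, TCG_Suz.Col.d, TCG_Suz.Col.a, TCG_Suz.Col.b, TCG_Suz.Col.c, TCG_Suz.Col.a, TCG_Suz.Col.b, TCG_Suz.Col.a, TCG_Suz.Col.b, TCG_Suz.Col.a, TCG_Suz.Col.b, TCG_Suz.Col.c, TCG_Suz.Col.f, TCG_Suz.Col.c, TCG_Suz.Col.a, TCG_Suz.Col.b, TCG_Suz.Col.e, TCG_Suz.Col.b, TCG_Suz.Col.a, TCG_Suz.Col.c, TCG_Suz.Col.f, TCG_Suz.Col.c, TCG_Suz.Col.b, TCG_Suz.Col.a, TCG_Suz.Col.b, TCG_Suz.Col.f, TCG_Suz.Col.c, TCG_Suz.Col.d, TCG_Suz.Col.e, TCG_Suz.Col.c, TCG_Suz.Col.a, TCG_Suz.Col.b, TCG_Suz.Col.f, TCG_Suz.Col.e, TCG_Suz.Col.d, TCG_Suz.Col.a, TCG_Suz.Col.b, TCG_Suz.Col.a, TCG_Suz.Col.b, TCG_Suz.Col.a, TCG_Suz.Col.b,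 TCG_Suz.Col.f, TCG_Suz.Col.e, TCG_Suz.Col.d, TCG_Suz.Col.a, TCG_Suz.Col.b, TCG_Suz.Col.c, TCG_Suz.Col.f, TCG_Suz.Col.c, TCG_Suz.Col.b, TCG_Suz.Col.a, TCG_Suz.Col.b, TCG_Suz.Col.a, TCG_Suz.Col.b, TCG_Suz.Col.a, TCG_Suz.Col.c, TCG_Suz.Col.b, TCG_Suz.Col.a, TCG_Suz.Col.d, TCG_Suz.Col.c, TCG_Suz.Col.b, TCG_Suz.Col.f, TCG_Suz.Col.c, TCG_Suz.Col.d, TCG_Suz.Col.c, TCG_Suz.Col.a, TCG_Suz.Col.c, TCG_Suz.Col.f, TCG_Suz.Col.c, TCG_Suz.Col.b, TCG_Suz.Col.a, TCG_Suz.Col.b, TCG_Suz.Col.f, TCG_Suz.Col.c, TCG_Suz.Col.d, TCG_Suz.Col.e, TCG_Suz.Col.c, TCG_Suz.Col.a, TCG_Suz.Col.b, TCG_Suz.Col.f, TCG_Suz.Col.e, TCG_Suz.Col.d, TCG_Suz.Col.a, TCG_Suz.Col.b, TCG_Suz.Col.a, TCG_Suz.Col.b, TCG_Suz.Col.a, TCG_Suz.Col.b,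 TCG_Suz.Col.f, TCG_Suz.Col.e, TCG_Suz.Col.d, TCG_Suz.Col.a, TCG_Suz.Col.b, TCG_Suz.Col.c, TCG_Suz.Col.f, TCG_Suz.Col.c, TCG_Suz.Col.b, TCG_Suz.Col.a, TCG_Suz.Col.b, TCG_Suz.Col.a, TCG_Suz.Col.b, TCG_Suz.Col.a, TCG_Suz.Col.c, TCG_Suz.Col.b, TCG_Suz.Col.a, TCG_Suz.Col.d, TCG_Suz.Col.c, TCG_Suz.Col.b, TCG_Suz.Col.f, TCG_Suz.Col.c, TCG_Suz.Col.d, TCG_Suz.Col.c, TCG_Suz.Col.a, TCG_Suz.Col.c, TCG_Suz.Col.f, TCG_Suz.Col.c, TCG_Suz.Col.b, TCG_Suz.Col.a, TCG_Suz.Col.b, TCG_Suz.Col.f, TCG_Suz.Col.c, TCG_Suz.Col.d, TCG_Suz.Col.e, TCG_Suz.Col.c, TCG_Suz.Col.b, TCG_Suz.Col.a, TCG_Suz.Col.b, TCG_Suz.Col.a, TCG_Suz.Col.d, TCG_Suz.Col.e, TCG_Suz.Col.f, TCG_Suz.Col.b, TCG_Suz.Col.a, TCG_Suz.Col.c, TCG_Suz.Col.e,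 TCG_Suz.Col.d, TCG_Suz.Col.c, TCG_Suz.Col.f, TCG_Suz.Col.b, TCG_Suz.Col.a, TCG_Suz.Col.b, TCG_Suz.Col.c, TCG_Suz.Col.f, TCG_Suz.Col.c, TCG_Suz.Col.a, TCG_Suz.Col.c, TCG_Suz.Col.d, TCG_Suz.Col.c, TCG_Suz.Col.f, TCG_Suz.Col.b, TCG_Suz.Col.c, TCG_Suz.Col.d, TCG_Suz.Col.a, TCG_Suz.Col.b, TCG_Suz.Col.c, TCG_Suz.Col.a, TCG_Suz.Col.b, TCG_Suz.Col.a, TCG_Suz.Col.b, TCG_Suz.Col.a, TCG_Suz.Col.b, TCG_Suz.Col.c, TCG_Suz.Col.f, TCG_Suz.Col.c, TCG_Suz.Col.b, TCG_Suz.Col.a, TCG_Suz.Col.d, TCG_Suz.Col.e, TCG_Suz.Col.f, TCG_Suz.Col.b, TCG_Suz.Col.a, TCG_Suz.Col.c, TCG_Suz.Col.e, TCG_Suz.Col.d, TCG_Suz.Col.c, TCG_Suz.Col.f, TCG_Suz.Col.b, TCG_Suz.Col.a, TCG_Suz.Col.b, TCG_Suz.Col.c, TCG_Suz.Col.f, TCG_Suz.Col.c,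 TCG_Suz.Col.a, TCG_Suz.Col.c, TCG_Suz.Col.d, TCG_Suz.Col.c, TCG_Suz.Col.f, TCG_Suz.Col.b, TCG_Suz.Col.c, TCG_Suz.Col.d, TCG_Suz.Col.a, TCG_Suz.Col.b, TCG_Suz.Col.c, TCG_Suz.Col.a, TCG_Suz.Col.b, TCG_Suz.Col.a, TCG_Suz.Col.b, TCG_Suz.Col.a, TCG_Suz.Col.b, TCG_Suz.Col.c, TCG_Suz.Col.f, TCG_Suz.Col.c, TCG_Suz.Col.b, TCG_Suz.Col.a, TCG_Suz.Col.d, TCG_Suz.Col.e, TCG_Suz.Col.f, TCG_Suz.Col.b, TCG_Suz.Col.a, TCG_Suz.Col.b, TCG_Suz.Col.a, TCG_Suz.Col.b, TCG_Suz.Col.a, TCG_Suz.Col.d, TCG_Suz.Col.e, TCG_Suz.Col.f, TCG_Suz.Col.b, TCG_Suz.Col.a, TCG_Suz.Col.c, TCG_Suz.Col.e, TCG_Suz.Col.d, TCG_Suz.Col.c, TCG_Suz.Col.f, TCG_Suz.Col.b, TCG_Suz.Col.a, TCG_Suz.Col.b, TCG_Suz.Col.c, TCG_Suz.Col.f, TCG_Suz.Col.c,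 TCG_Suz.Col.a, TCG_Suz.Col.c, TCG_Suz.Col.d, TCG_Suz.Col.c, TCG_Suz.Col.f, TCG_Suz.Col.b, TCG_Suz.Col.c, TCG_Suz.Col.d, TCG_Suz.Col.a, TCG_Suz.Col.b, TCG_Suz.Col.c, TCG_Suz.Col.a, TCG_Suz.Col.b, TCG_Suz.Col.a, TCG_Suz.Col.b, TCG_Suz.Col.a, TCG_Suz.Col.b, TCG_Suz.Col.c, TCG_Suz.Col.f, TCG_Suz.Col.c, TCG_Suz.Col.b, TCG_Suz.Col.a, TCG_Suz.Col.d, TCG_Suz.Col.e, TCG_Suz.Col.f, TCG_Suz.Col.b, TCG_Suz.Col.a, TCG_Suz.Col.c, TCG_Suz.Col.e, TCG_Suz.Col.d, TCG_Suz.Col.c, TCG_Suz.Col.f, TCG_Suz.Col.b, TCG_Suz.Col.a, TCG_Suz.Col.b, TCG_Suz.Col.c, TCG_Suz.Col.f, TCG_Suz.Col.c, TCG_Suz.Col.a, TCG_Suz.Col.b, TCG_Suz.Col.e, TCG_Suz.Col.a, TCG_Suz.Col.b, TCG_Suz.Col.a, TCG_Suz.Col.c, TCG_Suz.Col.b, TCG_Suz.Col.a,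 TCG_Suz.Col.d, TCG_Suz.Col.c, TCG_Suz.Col.b, TCG_Suz.Col.f, TCG_Suz.Col.c, TCG_Suz.Col.d, TCG_Suz.Col.c, TCG_Suz.Col.b, TCG_Suz.Col.a, TCG_Suz.Col.b, TCG_Suz.Col.a, TCG_Suz.Col.c, TCG_Suz.Col.b, TCG_Suz.Col.a, TCG_Suz.Col.d, TCG_Suz.Col.c, TCG_Suz.Col.b, TCG_Suz.Col.f, TCG_Suz.Col.c, TCG_Suz.Col.d, TCG_Suz.Col.c, TCG_Suz.Col.b, TCG_Suz.Col.e, TCG_Suz.Col.a, TCG_Suz.Col.b, TCG_Suz.Col.a, TCG_Suz.Col.c, TCG_Suz.Col.b, TCG_Suz.Col.a, TCG_Suz.Col.d, TCG_Suz.Col.c, TCG_Suz.Col.b, TCG_Suz.Col.f, TCG_Suz.Col.c, TCG_Suz.Col.d, TCG_Suz.Col.c, TCG_Suz.Col.b, TCG_Suz.Col.e, TCG_Suz.Col.b, TCG_Suz.Col.c, TCG_Suz.Col.d, TCG_Suz.Col.c, TCG_Suz.Col.b, TCG_Suz.Col.d, TCG_Suz.Col.c, TCG_Suz.Col.b, TCG_Suz.Col.d,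 TCG_Suz.Col.c, TCG_Suz.Col.e, TCG_Suz.Col.d, TCG_Suz.Col.f, TCG_Suz.Col.b, TCG_Suz.Col.c, TCG_Suz.Col.d, TCG_Suz.Col.e, TCG_Suz.Col.g, TCG_Suz.Col.b, TCG_Suz.Col.c, TCG_Suz.Col.d, TCG_Suz.Col.c, TCG_Suz.Col.b, TCG_Suz.Col.e, TCG_Suz.Col.d, TCG_Suz.Col.c, TCG_Suz.Col.b, TCG_Suz.Col.f, TCG_Suz.Col.b, TCG_Suz.Col.a, TCG_Suz.Col.c],
  [TCG_Suz.Col.c, TCG_Suz.Col.b, TCG_Suz.Col.g, TCG_Suz.Col.f, TCG_Suz.Col.c, TCG_Suz.Col.d, TCG_Suz.Col.e, TCG_Suz.Col.d, TCG_Suz.Col.c, TCG_Suz.Col.d, TCG_Suz.Col.b, TCG_Suz.Col.c, TCG_Suz.Col.d, TCG_Suz.Col.e, TCG_Suz.Col.d, TCG_Suz.Col.b, TCG_Suz.Col.c, TCG_Suz.Col.d, TCG_Suz.Col.c, TCG_Suz.Col.a, TCG_Suz.Col.b, TCG_Suz.Col.c, TCG_Suz.Col.f, TCG_Suz.Col.c, TCG_Suz.Col.b,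 TCG_Suz.Col.c, TCG_Suz.Col.f, TCG_Suz.Col.c, TCG_Suz.Col.a, TCG_Suz.Col.c, TCG_Suz.Col.d, TCG_Suz.Col.c, TCG_Suz.Col.f, TCG_Suz.Col.b, TCG_Suz.Col.c, TCG_Suz.Col.d, TCG_Suz.Col.a, TCG_Suz.Col.b, TCG_Suz.Col.c, TCG_Suz.Col.a, TCG_Suz.Col.b, TCG_Suz.Col.a, TCG_Suz.Col.b, TCG_Suz.Col.c, TCG_Suz.Col.d, TCG_Suz.Col.c, TCG_Suz.Col.f, TCG_Suz.Col.b, TCG_Suz.Col.c, TCG_Suz.Col.d, TCG_Suz.Col.a, TCG_Suz.Col.b, TCG_Suz.Col.c, TCG_Suz.Col.a, TCG_Suz.Col.b, TCG_Suz.Col.a, TCG_Suz.Col.b, TCG_Suz.Col.a, TCG_Suz.Col.b, TCG_Suz.Col.c, TCG_Suz.Col.f, TCG_Suz.Col.c, TCG_Suz.Col.a, TCG_Suz.Col.b, TCG_Suz.Col.e, TCG_Suz.Col.b, TCG_Suz.Col.a, TCG_Suz.Col.c, TCG_Suz.Col.f, TCG_Suz.Col.c, TCG_Suz.Col.b, TCG_Suz.Col.a,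 TCG_Suz.Col.b, TCG_Suz.Col.f, TCG_Suz.Col.c, TCG_Suz.Col.d, TCG_Suz.Col.e, TCG_Suz.Col.c, TCG_Suz.Col.a, TCG_Suz.Col.b, TCG_Suz.Col.f, TCG_Suz.Col.e, TCG_Suz.Col.d, TCG_Suz.Col.a, TCG_Suz.Col.b, TCG_Suz.Col.a, TCG_Suz.Col.b, TCG_Suz.Col.a, TCG_Suz.Col.b, TCG_Suz.Col.f, TCG_Suz.Col.e, TCG_Suz.Col.d, TCG_Suz.Col.a, TCG_Suz.Col.b, TCG_Suz.Col.c, TCG_Suz.Col.f, TCG_Suz.Col.c, TCG_Suz.Col.b, TCG_Suz.Col.a, TCG_Suz.Col.b, TCG_Suz.Col.a, TCG_Suz.Col.b, TCG_Suz.Col.a, TCG_Suz.Col.c, TCG_Suz.Col.b, TCG_Suz.Col.a, TCG_Suz.Col.d, TCG_Suz.Col.c, TCG_Suz.Col.b, TCG_Suz.Col.f, TCG_Suz.Col.c, TCG_Suz.Col.d, TCG_Suz.Col.c, TCG_Suz.Col.a, TCG_Suz.Col.c, TCG_Suz.Col.f, TCG_Suz.Col.c, TCG_Suz.Col.b, TCG_Suz.Col.a,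 TCG_Suz.Col.b, TCG_Suz.Col.f, TCG_Suz.Col.c, TCG_Suz.Col.d, TCG_Suz.Col.e, TCG_Suz.Col.c, TCG_Suz.Col.a, TCG_Suz.Col.b, TCG_Suz.Col.f, TCG_Suz.Col.e, TCG_Suz.Col.d, TCG_Suz.Col.a, TCG_Suz.Col.b, TCG_Suz.Col.a, TCG_Suz.Col.b, TCG_Suz.Col.a, TCG_Suz.Col.b, TCG_Suz.Col.f, TCG_Suz.Col.e, TCG_Suz.Col.d, TCG_Suz.Col.a, TCG_Suz.Col.b, TCG_Suz.Col.c, TCG_Suz.Col.f, TCG_Suz.Col.c, TCG_Suz.Col.b, TCG_Suz.Col.a, TCG_Suz.Col.b, TCG_Suz.Col.a, TCG_Suz.Col.b, TCG_Suz.Col.a, TCG_Suz.Col.c, TCG_Suz.Col.b, TCG_Suz.Col.a, TCG_Suz.Col.d, TCG_Suz.Col.c, TCG_Suz.Col.b, TCG_Suz.Col.f, TCG_Suz.Col.c, TCG_Suz.Col.d, TCG_Suz.Col.c, TCG_Suz.Col.a, TCG_Suz.Col.c, TCG_Suz.Col.f, TCG_Suz.Col.c, TCG_Suz.Col.b, TCG_Suz.Col.a,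 TCG_Suz.Col.b, TCG_Suz.Col.f, TCG_Suz.Col.c, TCG_Suz.Col.d, TCG_Suz.Col.e, TCG_Suz.Col.c, TCG_Suz.Col.b, TCG_Suz.Col.a, TCG_Suz.Col.b, TCG_Suz.Col.a, TCG_Suz.Col.d, TCG_Suz.Col.e, TCG_Suz.Col.f, TCG_Suz.Col.b, TCG_Suz.Col.a, TCG_Suz.Col.c, TCG_Suz.Col.e, TCG_Suz.Col.d, TCG_Suz.Col.c, TCG_Suz.Col.f, TCG_Suz.Col.b, TCG_Suz.Col.a, TCG_Suz.Col.b, TCG_Suz.Col.c, TCG_Suz.Col.f, TCG_Suz.Col.c, TCG_Suz.Col.a, TCG_Suz.Col.c, TCG_Suz.Col.d, TCG_Suz.Col.c, TCG_Suz.Col.f, TCG_Suz.Col.b, TCG_Suz.Col.c, TCG_Suz.Col.d, TCG_Suz.Col.a, TCG_Suz.Col.b, TCG_Suz.Col.c, TCG_Suz.Col.a, TCG_Suz.Col.b, TCG_Suz.Col.a, TCG_Suz.Col.b, TCG_Suz.Col.a, TCG_Suz.Col.b, TCG_Suz.Col.c, TCG_Suz.Col.f, TCG_Suz.Col.c, TCG_Suz.Col.a,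 TCG_Suz.Col.b, TCG_Suz.Col.c, TCG_Suz.Col.e, TCG_Suz.Col.d, TCG_Suz.Col.c, TCG_Suz.Col.f, TCG_Suz.Col.b, TCG_Suz.Col.a, TCG_Suz.Col.b, TCG_Suz.Col.c, TCG_Suz.Col.f, TCG_Suz.Col.c, TCG_Suz.Col.a, TCG_Suz.Col.c, TCG_Suz.Col.d, TCG_Suz.Col.c, TCG_Suz.Col.f, TCG_Suz.Col.b, TCG_Suz.Col.c, TCG_Suz.Col.d, TCG_Suz.Col.a, TCG_Suz.Col.b, TCG_Suz.Col.c, TCG_Suz.Col.a, TCG_Suz.Col.b, TCG_Suz.Col.a, TCG_Suz.Col.b, TCG_Suz.Col.a, TCG_Suz.Col.b, TCG_Suz.Col.c, TCG_Suz.Col.f, TCG_Suz.Col.c, TCG_Suz.Col.b, TCG_Suz.Col.a, TCG_Suz.Col.d, TCG_Suz.Col.e, TCG_Suz.Col.f, TCG_Suz.Col.b, TCG_Suz.Col.a, TCG_Suz.Col.c, TCG_Suz.Col.e, TCG_Suz.Col.d, TCG_Suz.Col.c, TCG_Suz.Col.f, TCG_Suz.Col.b, TCG_Suz.Col.a, TCG_Suz.Col.b,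 TCG_Suz.Col.c, TCG_Suz.Col.f, TCG_Suz.Col.c, TCG_Suz.Col.a, TCG_Suz.Col.c, TCG_Suz.Col.d, TCG_Suz.Col.c, TCG_Suz.Col.f, TCG_Suz.Col.b, TCG_Suz.Col.c, TCG_Suz.Col.d, TCG_Suz.Col.a, TCG_Suz.Col.b, TCG_Suz.Col.c, TCG_Suz.Col.a, TCG_Suz.Col.b, TCG_Suz.Col.a, TCG_Suz.Col.b, TCG_Suz.Col.a, TCG_Suz.Col.b, TCG_Suz.Col.c, TCG_Suz.Col.f, TCG_Suz.Col.c, TCG_Suz.Col.a, TCG_Suz.Col.b, TCG_Suz.Col.c, TCG_Suz.Col.e, TCG_Suz.Col.d, TCG_Suz.Col.c, TCG_Suz.Col.f, TCG_Suz.Col.b, TCG_Suz.Col.a, TCG_Suz.Col.b, TCG_Suz.Col.c, TCG_Suz.Col.f, TCG_Suz.Col.c, TCG_Suz.Col.a, TCG_Suz.Col.c, TCG_Suz.Col.d, TCG_Suz.Col.c, TCG_Suz.Col.f, TCG_Suz.Col.b, TCG_Suz.Col.c, TCG_Suz.Col.d, TCG_Suz.Col.a, TCG_Suz.Col.b, TCG_Suz.Col.c,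 TCG_Suz.Col.a, TCG_Suz.Col.b, TCG_Suz.Col.a, TCG_Suz.Col.b, TCG_Suz.Col.a, TCG_Suz.Col.b, TCG_Suz.Col.c, TCG_Suz.Col.f, TCG_Suz.Col.c, TCG_Suz.Col.b, TCG_Suz.Col.a, TCG_Suz.Col.d, TCG_Suz.Col.e, TCG_Suz.Col.f, TCG_Suz.Col.a, TCG_Suz.Col.c, TCG_Suz.Col.b, TCG_Suz.Col.a, TCG_Suz.Col.d, TCG_Suz.Col.c, TCG_Suz.Col.b, TCG_Suz.Col.f, TCG_Suz.Col.c, TCG_Suz.Col.d, TCG_Suz.Col.c, TCG_Suz.Col.b, TCG_Suz.Col.e, TCG_Suz.Col.a, TCG_Suz.Col.b, TCG_Suz.Col.a, TCG_Suz.Col.c, TCG_Suz.Col.b, TCG_Suz.Col.a, TCG_Suz.Col.d, TCG_Suz.Col.c, TCG_Suz.Col.b, TCG_Suz.Col.f, TCG_Suz.Col.c, TCG_Suz.Col.d, TCG_Suz.Col.c, TCG_Suz.Col.b, TCG_Suz.Col.a, TCG_Suz.Col.b, TCG_Suz.Col.a, TCG_Suz.Col.c, TCG_Suz.Col.b, TCG_Suz.Col.a,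 TCG_Suz.Col.d, TCG_Suz.Col.c, TCG_Suz.Col.b, TCG_Suz.Col.f, TCG_Suz.Col.c, TCG_Suz.Col.d, TCG_Suz.Col.c, TCG_Suz.Col.b, TCG_Suz.Col.e, TCG_Suz.Col.a, TCG_Suz.Col.b, TCG_Suz.Col.a, TCG_Suz.Col.c, TCG_Suz.Col.b, TCG_Suz.Col.a, TCG_Suz.Col.d, TCG_Suz.Col.c, TCG_Suz.Col.b, TCG_Suz.Col.f, TCG_Suz.Col.c, TCG_Suz.Col.d, TCG_Suz.Col.c, TCG_Suz.Col.b, TCG_Suz.Col.e, TCG_Suz.Col.b, TCG_Suz.Col.a, TCG_Suz.Col.c, TCG_Suz.Col.f, TCG_Suz.Col.c, TCG_Suz.Col.b, TCG_Suz.Col.a, TCG_Suz.Col.b, TCG_Suz.Col.a, TCG_Suz.Col.b, TCG_Suz.Col.a, TCG_Suz.Col.c, TCG_Suz.Col.b, TCG_Suz.Col.a, TCG_Suz.Col.d, TCG_Suz.Col.c, TCG_Suz.Col.b, TCG_Suz.Col.f, TCG_Suz.Col.b, TCG_Suz.Col.e, TCG_Suz.Col.d, TCG_Suz.Col.c, TCG_Suz.Col.b,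 TCG_Suz.Col.d, TCG_Suz.Col.c, TCG_Suz.Col.f, TCG_Suz.Col.b, TCG_Suz.Col.c, TCG_Suz.Col.g, TCG_Suz.Col.b, TCG_Suz.Col.a, TCG_Suz.Col.c, TCG_Suz.Col.d, TCG_Suz.Col.c, TCG_Suz.Col.e, TCG_Suz.Col.d, TCG_Suz.Col.c, TCG_Suz.Col.b],
  [TCG_Suz.Col.c, TCG_Suz.Col.b, TCG_Suz.Col.g, TCG_Suz.Col.f, TCG_Suz.Col.c, TCG_Suz.Col.d, TCG_Suz.Col.e, TCG_Suz.Col.d, TCG_Suz.Col.c, TCG_Suz.Col.d, TCG_Suz.Col.b, TCG_Suz.Col.c, TCG_Suz.Col.d, TCG_Suz.Col.e, TCG_Suz.Col.d, TCG_Suz.Col.b, TCG_Suz.Col.c, TCG_Suz.Col.d, TCG_Suz.Col.c, TCG_Suz.Col.a, TCG_Suz.Col.b, TCG_Suz.Col.c, TCG_Suz.Col.f, TCG_Suz.Col.c, TCG_Suz.Col.b, TCG_Suz.Col.c, TCG_Suz.Col.f, TCG_Suz.Col.c, TCG_Suz.Col.a, TCG_Suz.Col.c, TCG_Suz.Col.d, TCG_Suz.Col.c,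 TCG_Suz.Col.f, TCG_Suz.Col.b, TCG_Suz.Col.c, TCG_Suz.Col.d, TCG_Suz.Col.a, TCG_Suz.Col.b, TCG_Suz.Col.c, TCG_Suz.Col.a, TCG_Suz.Col.b, TCG_Suz.Col.a, TCG_Suz.Col.b, TCG_Suz.Col.c, TCG_Suz.Col.d, TCG_Suz.Col.c, TCG_Suz.Col.f, TCG_Suz.Col.b, TCG_Suz.Col.c, TCG_Suz.Col.d, TCG_Suz.Col.a, TCG_Suz.Col.b, TCG_Suz.Col.c, TCG_Suz.Col.a, TCG_Suz.Col.b, TCG_Suz.Col.a, TCG_Suz.Col.b, TCG_Suz.Col.a, TCG_Suz.Col.b, TCG_Suz.Col.c, TCG_Suz.Col.f, TCG_Suz.Col.c, TCG_Suz.Col.a, TCG_Suz.Col.b, TCG_Suz.Col.e, TCG_Suz.Col.b, TCG_Suz.Col.a, TCG_Suz.Col.c, TCG_Suz.Col.f, TCG_Suz.Col.c, TCG_Suz.Col.b, TCG_Suz.Col.a, TCG_Suz.Col.b, TCG_Suz.Col.f, TCG_Suz.Col.c, TCG_Suz.Col.d, TCG_Suz.Col.e, TCG_Suz.Col.c, TCG_Suz.Col.a,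 TCG_Suz.Col.b, TCG_Suz.Col.f, TCG_Suz.Col.e, TCG_Suz.Col.d, TCG_Suz.Col.a, TCG_Suz.Col.b, TCG_Suz.Col.a, TCG_Suz.Col.b, TCG_Suz.Col.a, TCG_Suz.Col.b, TCG_Suz.Col.f, TCG_Suz.Col.e, TCG_Suz.Col.d, TCG_Suz.Col.a, TCG_Suz.Col.b, TCG_Suz.Col.c, TCG_Suz.Col.f, TCG_Suz.Col.c, TCG_Suz.Col.b, TCG_Suz.Col.a, TCG_Suz.Col.b, TCG_Suz.Col.a, TCG_Suz.Col.b, TCG_Suz.Col.a, TCG_Suz.Col.c, TCG_Suz.Col.b, TCG_Suz.Col.a, TCG_Suz.Col.d, TCG_Suz.Col.c, TCG_Suz.Col.b, TCG_Suz.Col.f, TCG_Suz.Col.c, TCG_Suz.Col.d, TCG_Suz.Col.c, TCG_Suz.Col.a, TCG_Suz.Col.c, TCG_Suz.Col.f, TCG_Suz.Col.c, TCG_Suz.Col.b, TCG_Suz.Col.a, TCG_Suz.Col.b, TCG_Suz.Col.f, TCG_Suz.Col.c, TCG_Suz.Col.d, TCG_Suz.Col.e, TCG_Suz.Col.c, TCG_Suz.Col.a,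 TCG_Suz.Col.b, TCG_Suz.Col.f, TCG_Suz.Col.e, TCG_Suz.Col.d, TCG_Suz.Col.a, TCG_Suz.Col.b, TCG_Suz.Col.a, TCG_Suz.Col.b, TCG_Suz.Col.a, TCG_Suz.Col.b, TCG_Suz.Col.f, TCG_Suz.Col.e, TCG_Suz.Col.d, TCG_Suz.Col.a, TCG_Suz.Col.b, TCG_Suz.Col.c, TCG_Suz.Col.f, TCG_Suz.Col.c, TCG_Suz.Col.b, TCG_Suz.Col.a, TCG_Suz.Col.b, TCG_Suz.Col.a, TCG_Suz.Col.b, TCG_Suz.Col.a, TCG_Suz.Col.c, TCG_Suz.Col.b, TCG_Suz.Col.a, TCG_Suz.Col.d, TCG_Suz.Col.c, TCG_Suz.Col.b, TCG_Suz.Col.f, TCG_Suz.Col.c, TCG_Suz.Col.d, TCG_Suz.Col.c, TCG_Suz.Col.a, TCG_Suz.Col.c, TCG_Suz.Col.f, TCG_Suz.Col.c, TCG_Suz.Col.b, TCG_Suz.Col.a, TCG_Suz.Col.b, TCG_Suz.Col.f, TCG_Suz.Col.c, TCG_Suz.Col.d, TCG_Suz.Col.e, TCG_Suz.Col.c, TCG_Suz.Col.b,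 TCG_Suz.Col.a, TCG_Suz.Col.b, TCG_Suz.Col.a, TCG_Suz.Col.d, TCG_Suz.Col.e, TCG_Suz.Col.f, TCG_Suz.Col.b, TCG_Suz.Col.a, TCG_Suz.Col.c, TCG_Suz.Col.e, TCG_Suz.Col.d, TCG_Suz.Col.c, TCG_Suz.Col.f, TCG_Suz.Col.b, TCG_Suz.Col.a, TCG_Suz.Col.b, TCG_Suz.Col.c, TCG_Suz.Col.f, TCG_Suz.Col.c, TCG_Suz.Col.a, TCG_Suz.Col.c, TCG_Suz.Col.d, TCG_Suz.Col.c, TCG_Suz.Col.f, TCG_Suz.Col.b, TCG_Suz.Col.c, TCG_Suz.Col.d, TCG_Suz.Col.a, TCG_Suz.Col.b, TCG_Suz.Col.c, TCG_Suz.Col.a, TCG_Suz.Col.b, TCG_Suz.Col.a, TCG_Suz.Col.b, TCG_Suz.Col.a, TCG_Suz.Col.b, TCG_Suz.Col.c, TCG_Suz.Col.f, TCG_Suz.Col.c, TCG_Suz.Col.b, TCG_Suz.Col.a, TCG_Suz.Col.d, TCG_Suz.Col.e, TCG_Suz.Col.f, TCG_Suz.Col.b, TCG_Suz.Col.a, TCG_Suz.Col.c,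 TCG_Suz.Col.e, TCG_Suz.Col.d, TCG_Suz.Col.c, TCG_Suz.Col.f, TCG_Suz.Col.b, TCG_Suz.Col.a, TCG_Suz.Col.b, TCG_Suz.Col.c, TCG_Suz.Col.f, TCG_Suz.Col.c, TCG_Suz.Col.a, TCG_Suz.Col.c, TCG_Suz.Col.d, TCG_Suz.Col.c, TCG_Suz.Col.f, TCG_Suz.Col.b, TCG_Suz.Col.c, TCG_Suz.Col.d, TCG_Suz.Col.a, TCG_Suz.Col.b, TCG_Suz.Col.c, TCG_Suz.Col.a, TCG_Suz.Col.b, TCG_Suz.Col.a, TCG_Suz.Col.b, TCG_Suz.Col.a, TCG_Suz.Col.b, TCG_Suz.Col.c, TCG_Suz.Col.f, TCG_Suz.Col.c, TCG_Suz.Col.a, TCG_Suz.Col.b, TCG_Suz.Col.c, TCG_Suz.Col.e, TCG_Suz.Col.d, TCG_Suz.Col.c, TCG_Suz.Col.f, TCG_Suz.Col.b, TCG_Suz.Col.a, TCG_Suz.Col.b, TCG_Suz.Col.c, TCG_Suz.Col.f, TCG_Suz.Col.c, TCG_Suz.Col.a, TCG_Suz.Col.c, TCG_Suz.Col.d, TCG_Suz.Col.c,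 TCG_Suz.Col.f, TCG_Suz.Col.b, TCG_Suz.Col.c, TCG_Suz.Col.d, TCG_Suz.Col.a, TCG_Suz.Col.b, TCG_Suz.Col.c, TCG_Suz.Col.a, TCG_Suz.Col.b, TCG_Suz.Col.a, TCG_Suz.Col.b, TCG_Suz.Col.a, TCG_Suz.Col.b, TCG_Suz.Col.c, TCG_Suz.Col.f, TCG_Suz.Col.c, TCG_Suz.Col.b, TCG_Suz.Col.a, TCG_Suz.Col.d, TCG_Suz.Col.e, TCG_Suz.Col.f, TCG_Suz.Col.b, TCG_Suz.Col.a, TCG_Suz.Col.c, TCG_Suz.Col.e, TCG_Suz.Col.d, TCG_Suz.Col.c, TCG_Suz.Col.f, TCG_Suz.Col.b, TCG_Suz.Col.a, TCG_Suz.Col.b, TCG_Suz.Col.c, TCG_Suz.Col.f, TCG_Suz.Col.c, TCG_Suz.Col.a, TCG_Suz.Col.c, TCG_Suz.Col.d, TCG_Suz.Col.c, TCG_Suz.Col.f, TCG_Suz.Col.b, TCG_Suz.Col.c, TCG_Suz.Col.d, TCG_Suz.Col.a, TCG_Suz.Col.b, TCG_Suz.Col.c, TCG_Suz.Col.a, TCG_Suz.Col.b,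 TCG_Suz.Col.a, TCG_Suz.Col.b, TCG_Suz.Col.a, TCG_Suz.Col.b, TCG_Suz.Col.c, TCG_Suz.Col.f, TCG_Suz.Col.c, TCG_Suz.Col.b, TCG_Suz.Col.a, TCG_Suz.Col.d, TCG_Suz.Col.e, TCG_Suz.Col.f, TCG_Suz.Col.b, TCG_Suz.Col.a, TCG_Suz.Col.b, TCG_Suz.Col.a, TCG_Suz.Col.c, TCG_Suz.Col.f, TCG_Suz.Col.c, TCG_Suz.Col.b, TCG_Suz.Col.a, TCG_Suz.Col.b, TCG_Suz.Col.a, TCG_Suz.Col.b, TCG_Suz.Col.a, TCG_Suz.Col.c, TCG_Suz.Col.b, TCG_Suz.Col.a, TCG_Suz.Col.d, TCG_Suz.Col.c, TCG_Suz.Col.b, TCG_Suz.Col.f, TCG_Suz.Col.c, TCG_Suz.Col.d, TCG_Suz.Col.c, TCG_Suz.Col.b, TCG_Suz.Col.e, TCG_Suz.Col.a, TCG_Suz.Col.b, TCG_Suz.Col.a, TCG_Suz.Col.c, TCG_Suz.Col.b, TCG_Suz.Col.a, TCG_Suz.Col.d, TCG_Suz.Col.c, TCG_Suz.Col.b, TCG_Suz.Col.f,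 TCG_Suz.Col.c, TCG_Suz.Col.d, TCG_Suz.Col.c, TCG_Suz.Col.b, TCG_Suz.Col.a, TCG_Suz.Col.b, TCG_Suz.Col.a, TCG_Suz.Col.c, TCG_Suz.Col.b, TCG_Suz.Col.a, TCG_Suz.Col.d, TCG_Suz.Col.c, TCG_Suz.Col.b, TCG_Suz.Col.f, TCG_Suz.Col.c, TCG_Suz.Col.d, TCG_Suz.Col.c, TCG_Suz.Col.b, TCG_Suz.Col.e, TCG_Suz.Col.a, TCG_Suz.Col.b, TCG_Suz.Col.a, TCG_Suz.Col.c, TCG_Suz.Col.b, TCG_Suz.Col.a, TCG_Suz.Col.d, TCG_Suz.Col.c, TCG_Suz.Col.b, TCG_Suz.Col.f, TCG_Suz.Col.c, TCG_Suz.Col.d, TCG_Suz.Col.c, TCG_Suz.Col.b, TCG_Suz.Col.e, TCG_Suz.Col.b, TCG_Suz.Col.c, TCG_Suz.Col.d, TCG_Suz.Col.c, TCG_Suz.Col.b, TCG_Suz.Col.d, TCG_Suz.Col.e, TCG_Suz.Col.d, TCG_Suz.Col.c, TCG_Suz.Col.b, TCG_Suz.Col.d, TCG_Suz.Col.c, TCG_Suz.Col.b,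 TCG_Suz.Col.d, TCG_Suz.Col.g, TCG_Suz.Col.b, TCG_Suz.Col.c, TCG_Suz.Col.d, TCG_Suz.Col.c, TCG_Suz.Col.b, TCG_Suz.Col.a, TCG_Suz.Col.e, TCG_Suz.Col.d, TCG_Suz.Col.c, TCG_Suz.Col.b, TCG_Suz.Col.g, TCG_Suz.Col.b, TCG_Suz.Col.f],
  [TCG_Suz.Col.c, TCG_Suz.Col.b, TCG_Suz.Col.g, TCG_Suz.Col.f, TCG_Suz.Col.c, TCG_Suz.Col.d, TCG_Suz.Col.e, TCG_Suz.Col.d, TCG_Suz.Col.c, TCG_Suz.Col.d, TCG_Suz.Col.b, TCG_Suz.Col.c, TCG_Suz.Col.d, TCG_Suz.Col.e, TCG_Suz.Col.d, TCG_Suz.Col.b, TCG_Suz.Col.c, TCG_Suz.Col.d, TCG_Suz.Col.c, TCG_Suz.Col.a, TCG_Suz.Col.b, TCG_Suz.Col.c, TCG_Suz.Col.f, TCG_Suz.Col.c, TCG_Suz.Col.b, TCG_Suz.Col.c, TCG_Suz.Col.f, TCG_Suz.Col.c, TCG_Suz.Col.a, TCG_Suz.Col.c, TCG_Suz.Col.d, TCG_Suz.Col.c,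 TCG_Suz.Col.f, TCG_Suz.Col.b, TCG_Suz.Col.c, TCG_Suz.Col.d, TCG_Suz.Col.a, TCG_Suz.Col.b, TCG_Suz.Col.c, TCG_Suz.Col.a, TCG_Suz.Col.b, TCG_Suz.Col.a, TCG_Suz.Col.b, TCG_Suz.Col.c, TCG_Suz.Col.d, TCG_Suz.Col.c, TCG_Suz.Col.f, TCG_Suz.Col.b, TCG_Suz.Col.c, TCG_Suz.Col.d, TCG_Suz.Col.a, TCG_Suz.Col.b, TCG_Suz.Col.c, TCG_Suz.Col.a, TCG_Suz.Col.b, TCG_Suz.Col.a, TCG_Suz.Col.b, TCG_Suz.Col.a, TCG_Suz.Col.b, TCG_Suz.Col.c, TCG_Suz.Col.f, TCG_Suz.Col.c, TCG_Suz.Col.a, TCG_Suz.Col.b, TCG_Suz.Col.e, TCG_Suz.Col.b, TCG_Suz.Col.a, TCG_Suz.Col.c, TCG_Suz.Col.f, TCG_Suz.Col.c, TCG_Suz.Col.b, TCG_Suz.Col.a, TCG_Suz.Col.b, TCG_Suz.Col.f, TCG_Suz.Col.c, TCG_Suz.Col.d, TCG_Suz.Col.e, TCG_Suz.Col.c, TCG_Suz.Col.a,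 TCG_Suz.Col.b, TCG_Suz.Col.f, TCG_Suz.Col.e, TCG_Suz.Col.d, TCG_Suz.Col.a, TCG_Suz.Col.b, TCG_Suz.Col.a, TCG_Suz.Col.b, TCG_Suz.Col.a, TCG_Suz.Col.b, TCG_Suz.Col.f, TCG_Suz.Col.e, TCG_Suz.Col.d, TCG_Suz.Col.a, TCG_Suz.Col.b, TCG_Suz.Col.c, TCG_Suz.Col.f, TCG_Suz.Col.c, TCG_Suz.Col.b, TCG_Suz.Col.a, TCG_Suz.Col.b, TCG_Suz.Col.a, TCG_Suz.Col.b, TCG_Suz.Col.a, TCG_Suz.Col.c, TCG_Suz.Col.b, TCG_Suz.Col.a, TCG_Suz.Col.d, TCG_Suz.Col.c, TCG_Suz.Col.b, TCG_Suz.Col.f, TCG_Suz.Col.c, TCG_Suz.Col.d, TCG_Suz.Col.c, TCG_Suz.Col.a, TCG_Suz.Col.c, TCG_Suz.Col.f, TCG_Suz.Col.c, TCG_Suz.Col.b, TCG_Suz.Col.a, TCG_Suz.Col.b, TCG_Suz.Col.f, TCG_Suz.Col.c, TCG_Suz.Col.d, TCG_Suz.Col.e, TCG_Suz.Col.c, TCG_Suz.Col.a,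 TCG_Suz.Col.b, TCG_Suz.Col.f, TCG_Suz.Col.e, TCG_Suz.Col.d, TCG_Suz.Col.a, TCG_Suz.Col.b, TCG_Suz.Col.a, TCG_Suz.Col.b, TCG_Suz.Col.a, TCG_Suz.Col.b, TCG_Suz.Col.f, TCG_Suz.Col.e, TCG_Suz.Col.d, TCG_Suz.Col.a, TCG_Suz.Col.b, TCG_Suz.Col.a, TCG_Suz.Col.b, TCG_Suz.Col.c, TCG_Suz.Col.e, TCG_Suz.Col.d, TCG_Suz.Col.c, TCG_Suz.Col.f, TCG_Suz.Col.b, TCG_Suz.Col.a, TCG_Suz.Col.b, TCG_Suz.Col.c, TCG_Suz.Col.f, TCG_Suz.Col.c, TCG_Suz.Col.a, TCG_Suz.Col.c, TCG_Suz.Col.d, TCG_Suz.Col.c, TCG_Suz.Col.f, TCG_Suz.Col.b, TCG_Suz.Col.c, TCG_Suz.Col.d, TCG_Suz.Col.a, TCG_Suz.Col.b, TCG_Suz.Col.c, TCG_Suz.Col.a, TCG_Suz.Col.b, TCG_Suz.Col.a, TCG_Suz.Col.b, TCG_Suz.Col.a, TCG_Suz.Col.b, TCG_Suz.Col.c, TCG_Suz.Col.f,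 TCG_Suz.Col.c, TCG_Suz.Col.b, TCG_Suz.Col.a, TCG_Suz.Col.d, TCG_Suz.Col.e, TCG_Suz.Col.f, TCG_Suz.Col.b, TCG_Suz.Col.a, TCG_Suz.Col.c, TCG_Suz.Col.e, TCG_Suz.Col.d, TCG_Suz.Col.c, TCG_Suz.Col.f, TCG_Suz.Col.b, TCG_Suz.Col.a, TCG_Suz.Col.b, TCG_Suz.Col.c, TCG_Suz.Col.f, TCG_Suz.Col.c, TCG_Suz.Col.a, TCG_Suz.Col.c, TCG_Suz.Col.d, TCG_Suz.Col.c, TCG_Suz.Col.f, TCG_Suz.Col.b, TCG_Suz.Col.c, TCG_Suz.Col.d, TCG_Suz.Col.a, TCG_Suz.Col.b, TCG_Suz.Col.c, TCG_Suz.Col.a, TCG_Suz.Col.b, TCG_Suz.Col.a, TCG_Suz.Col.b, TCG_Suz.Col.a, TCG_Suz.Col.b, TCG_Suz.Col.c, TCG_Suz.Col.f, TCG_Suz.Col.c, TCG_Suz.Col.a, TCG_Suz.Col.b, TCG_Suz.Col.c, TCG_Suz.Col.e, TCG_Suz.Col.d, TCG_Suz.Col.c, TCG_Suz.Col.f, TCG_Suz.Col.b,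 TCG_Suz.Col.a, TCG_Suz.Col.b, TCG_Suz.Col.c, TCG_Suz.Col.f, TCG_Suz.Col.c, TCG_Suz.Col.a, TCG_Suz.Col.c, TCG_Suz.Col.d, TCG_Suz.Col.c, TCG_Suz.Col.f, TCG_Suz.Col.b, TCG_Suz.Col.c, TCG_Suz.Col.d, TCG_Suz.Col.a, TCG_Suz.Col.b, TCG_Suz.Col.c, TCG_Suz.Col.a, TCG_Suz.Col.b, TCG_Suz.Col.a, TCG_Suz.Col.b, TCG_Suz.Col.a, TCG_Suz.Col.b, TCG_Suz.Col.c, TCG_Suz.Col.f, TCG_Suz.Col.c, TCG_Suz.Col.b, TCG_Suz.Col.a, TCG_Suz.Col.d, TCG_Suz.Col.e, TCG_Suz.Col.f, TCG_Suz.Col.b, TCG_Suz.Col.a, TCG_Suz.Col.c, TCG_Suz.Col.e, TCG_Suz.Col.d, TCG_Suz.Col.c, TCG_Suz.Col.f, TCG_Suz.Col.b, TCG_Suz.Col.a, TCG_Suz.Col.b, TCG_Suz.Col.c, TCG_Suz.Col.f, TCG_Suz.Col.c, TCG_Suz.Col.a, TCG_Suz.Col.c, TCG_Suz.Col.d, TCG_Suz.Col.c,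 TCG_Suz.Col.f, TCG_Suz.Col.b, TCG_Suz.Col.c, TCG_Suz.Col.d, TCG_Suz.Col.a, TCG_Suz.Col.b, TCG_Suz.Col.c, TCG_Suz.Col.a, TCG_Suz.Col.b, TCG_Suz.Col.a, TCG_Suz.Col.b, TCG_Suz.Col.a, TCG_Suz.Col.b, TCG_Suz.Col.c, TCG_Suz.Col.f, TCG_Suz.Col.c, TCG_Suz.Col.a, TCG_Suz.Col.b, TCG_Suz.Col.c, TCG_Suz.Col.e, TCG_Suz.Col.d, TCG_Suz.Col.c, TCG_Suz.Col.f, TCG_Suz.Col.b, TCG_Suz.Col.a, TCG_Suz.Col.b, TCG_Suz.Col.c, TCG_Suz.Col.f, TCG_Suz.Col.c, TCG_Suz.Col.a, TCG_Suz.Col.c, TCG_Suz.Col.d, TCG_Suz.Col.c, TCG_Suz.Col.f, TCG_Suz.Col.b, TCG_Suz.Col.c, TCG_Suz.Col.d, TCG_Suz.Col.a, TCG_Suz.Col.b, TCG_Suz.Col.c, TCG_Suz.Col.a, TCG_Suz.Col.b, TCG_Suz.Col.a, TCG_Suz.Col.b, TCG_Suz.Col.a, TCG_Suz.Col.b, TCG_Suz.Col.c,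 TCG_Suz.Col.f, TCG_Suz.Col.c, TCG_Suz.Col.b, TCG_Suz.Col.a, TCG_Suz.Col.d, TCG_Suz.Col.e, TCG_Suz.Col.f, TCG_Suz.Col.b, TCG_Suz.Col.a, TCG_Suz.Col.b, TCG_Suz.Col.a, TCG_Suz.Col.c, TCG_Suz.Col.f, TCG_Suz.Col.c, TCG_Suz.Col.b, TCG_Suz.Col.a, TCG_Suz.Col.b, TCG_Suz.Col.a, TCG_Suz.Col.b, TCG_Suz.Col.a, TCG_Suz.Col.c, TCG_Suz.Col.b, TCG_Suz.Col.a, TCG_Suz.Col.d, TCG_Suz.Col.c, TCG_Suz.Col.b, TCG_Suz.Col.f, TCG_Suz.Col.c, TCG_Suz.Col.d, TCG_Suz.Col.c, TCG_Suz.Col.b, TCG_Suz.Col.e, TCG_Suz.Col.b, TCG_Suz.Col.a, TCG_Suz.Col.c, TCG_Suz.Col.f, TCG_Suz.Col.c, TCG_Suz.Col.b, TCG_Suz.Col.c, TCG_Suz.Col.f, TCG_Suz.Col.c, TCG_Suz.Col.b, TCG_Suz.Col.a, TCG_Suz.Col.b, TCG_Suz.Col.a, TCG_Suz.Col.b, TCG_Suz.Col.a,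 TCG_Suz.Col.c, TCG_Suz.Col.b, TCG_Suz.Col.a, TCG_Suz.Col.d, TCG_Suz.Col.c, TCG_Suz.Col.b, TCG_Suz.Col.f, TCG_Suz.Col.c, TCG_Suz.Col.d, TCG_Suz.Col.c, TCG_Suz.Col.b, TCG_Suz.Col.a, TCG_Suz.Col.b, TCG_Suz.Col.a, TCG_Suz.Col.c, TCG_Suz.Col.b, TCG_Suz.Col.a, TCG_Suz.Col.d, TCG_Suz.Col.c, TCG_Suz.Col.b, TCG_Suz.Col.f, TCG_Suz.Col.c, TCG_Suz.Col.d, TCG_Suz.Col.c, TCG_Suz.Col.a, TCG_Suz.Col.c, TCG_Suz.Col.f, TCG_Suz.Col.c, TCG_Suz.Col.b, TCG_Suz.Col.c, TCG_Suz.Col.f, TCG_Suz.Col.c, TCG_Suz.Col.b, TCG_Suz.Col.a, TCG_Suz.Col.c, TCG_Suz.Col.d, TCG_Suz.Col.c, TCG_Suz.Col.b, TCG_Suz.Col.d, TCG_Suz.Col.e, TCG_Suz.Col.d, TCG_Suz.Col.c, TCG_Suz.Col.b, TCG_Suz.Col.d, TCG_Suz.Col.c, TCG_Suz.Col.b, TCG_Suz.Col.d,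 TCG_Suz.Col.e, TCG_Suz.Col.f, TCG_Suz.Col.g, TCG_Suz.Col.b, TCG_Suz.Col.a, TCG_Suz.Col.c, TCG_Suz.Col.b, TCG_Suz.Col.d, TCG_Suz.Col.c, TCG_Suz.Col.e, TCG_Suz.Col.d, TCG_Suz.Col.c, TCG_Suz.Col.g, TCG_Suz.Col.b, TCG_Suz.Col.f, TCG_Suz.Col.b],
  [TCG_Suz.Col.c, TCG_Suz.Col.b, TCG_Suz.Col.g, TCG_Suz.Col.f, TCG_Suz.Col.c, TCG_Suz.Col.d, TCG_Suz.Col.e, TCG_Suz.Col.d, TCG_Suz.Col.c, TCG_Suz.Col.d, TCG_Suz.Col.b, TCG_Suz.Col.c, TCG_Suz.Col.d, TCG_Suz.Col.e, TCG_Suz.Col.d, TCG_Suz.Col.b, TCG_Suz.Col.c, TCG_Suz.Col.d, TCG_Suz.Col.c, TCG_Suz.Col.a, TCG_Suz.Col.b, TCG_Suz.Col.c, TCG_Suz.Col.f, TCG_Suz.Col.c, TCG_Suz.Col.b, TCG_Suz.Col.c, TCG_Suz.Col.f, TCG_Suz.Col.c, TCG_Suz.Col.a, TCG_Suz.Col.c, TCG_Suz.Col.d,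 TCG_Suz.Col.c, TCG_Suz.Col.f, TCG_Suz.Col.b, TCG_Suz.Col.c, TCG_Suz.Col.d, TCG_Suz.Col.a, TCG_Suz.Col.b, TCG_Suz.Col.c, TCG_Suz.Col.a, TCG_Suz.Col.b, TCG_Suz.Col.a, TCG_Suz.Col.b, TCG_Suz.Col.c, TCG_Suz.Col.d, TCG_Suz.Col.c, TCG_Suz.Col.f, TCG_Suz.Col.b, TCG_Suz.Col.c, TCG_Suz.Col.d, TCG_Suz.Col.a, TCG_Suz.Col.b, TCG_Suz.Col.c, TCG_Suz.Col.a, TCG_Suz.Col.b, TCG_Suz.Col.a, TCG_Suz.Col.b, TCG_Suz.Col.a, TCG_Suz.Col.b, TCG_Suz.Col.c, TCG_Suz.Col.f, TCG_Suz.Col.c, TCG_Suz.Col.a, TCG_Suz.Col.b, TCG_Suz.Col.e, TCG_Suz.Col.b, TCG_Suz.Col.a, TCG_Suz.Col.c, TCG_Suz.Col.f, TCG_Suz.Col.c, TCG_Suz.Col.b, TCG_Suz.Col.a, TCG_Suz.Col.b, TCG_Suz.Col.f, TCG_Suz.Col.c, TCG_Suz.Col.d, TCG_Suz.Col.e, TCG_Suz.Col.c,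 TCG_Suz.Col.a, TCG_Suz.Col.b, TCG_Suz.Col.f, TCG_Suz.Col.e, TCG_Suz.Col.d, TCG_Suz.Col.a, TCG_Suz.Col.b, TCG_Suz.Col.a, TCG_Suz.Col.b, TCG_Suz.Col.a, TCG_Suz.Col.b, TCG_Suz.Col.f, TCG_Suz.Col.e, TCG_Suz.Col.d, TCG_Suz.Col.a, TCG_Suz.Col.b, TCG_Suz.Col.c, TCG_Suz.Col.f, TCG_Suz.Col.c, TCG_Suz.Col.b, TCG_Suz.Col.a, TCG_Suz.Col.b, TCG_Suz.Col.a, TCG_Suz.Col.b, TCG_Suz.Col.a, TCG_Suz.Col.c, TCG_Suz.Col.b, TCG_Suz.Col.a, TCG_Suz.Col.d, TCG_Suz.Col.c, TCG_Suz.Col.b, TCG_Suz.Col.f, TCG_Suz.Col.c, TCG_Suz.Col.d, TCG_Suz.Col.c, TCG_Suz.Col.a, TCG_Suz.Col.c, TCG_Suz.Col.f, TCG_Suz.Col.c, TCG_Suz.Col.b, TCG_Suz.Col.a, TCG_Suz.Col.b, TCG_Suz.Col.f, TCG_Suz.Col.c, TCG_Suz.Col.d, TCG_Suz.Col.e, TCG_Suz.Col.c,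 TCG_Suz.Col.a, TCG_Suz.Col.b, TCG_Suz.Col.f, TCG_Suz.Col.e, TCG_Suz.Col.d, TCG_Suz.Col.a, TCG_Suz.Col.b, TCG_Suz.Col.a, TCG_Suz.Col.b, TCG_Suz.Col.a, TCG_Suz.Col.b, TCG_Suz.Col.f, TCG_Suz.Col.e, TCG_Suz.Col.d, TCG_Suz.Col.a, TCG_Suz.Col.b, TCG_Suz.Col.c, TCG_Suz.Col.f, TCG_Suz.Col.c, TCG_Suz.Col.b, TCG_Suz.Col.a, TCG_Suz.Col.b, TCG_Suz.Col.a, TCG_Suz.Col.b, TCG_Suz.Col.a, TCG_Suz.Col.c, TCG_Suz.Col.b, TCG_Suz.Col.a, TCG_Suz.Col.d, TCG_Suz.Col.c, TCG_Suz.Col.b, TCG_Suz.Col.f, TCG_Suz.Col.c, TCG_Suz.Col.d, TCG_Suz.Col.c, TCG_Suz.Col.a, TCG_Suz.Col.c, TCG_Suz.Col.f, TCG_Suz.Col.c, TCG_Suz.Col.b, TCG_Suz.Col.a, TCG_Suz.Col.b, TCG_Suz.Col.f, TCG_Suz.Col.c, TCG_Suz.Col.d, TCG_Suz.Col.e, TCG_Suz.Col.c,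 TCG_Suz.Col.b, TCG_Suz.Col.a, TCG_Suz.Col.b, TCG_Suz.Col.a, TCG_Suz.Col.d, TCG_Suz.Col.e, TCG_Suz.Col.f, TCG_Suz.Col.b, TCG_Suz.Col.a, TCG_Suz.Col.c, TCG_Suz.Col.e, TCG_Suz.Col.d, TCG_Suz.Col.c, TCG_Suz.Col.f, TCG_Suz.Col.b, TCG_Suz.Col.a, TCG_Suz.Col.b, TCG_Suz.Col.c, TCG_Suz.Col.f, TCG_Suz.Col.c, TCG_Suz.Col.a, TCG_Suz.Col.c, TCG_Suz.Col.d, TCG_Suz.Col.c, TCG_Suz.Col.f, TCG_Suz.Col.b, TCG_Suz.Col.c, TCG_Suz.Col.d, TCG_Suz.Col.a, TCG_Suz.Col.b, TCG_Suz.Col.c, TCG_Suz.Col.a, TCG_Suz.Col.b, TCG_Suz.Col.a, TCG_Suz.Col.b, TCG_Suz.Col.a, TCG_Suz.Col.b, TCG_Suz.Col.c, TCG_Suz.Col.f, TCG_Suz.Col.c, TCG_Suz.Col.b, TCG_Suz.Col.a, TCG_Suz.Col.d, TCG_Suz.Col.e, TCG_Suz.Col.f, TCG_Suz.Col.b, TCG_Suz.Col.a,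 TCG_Suz.Col.b, TCG_Suz.Col.a, TCG_Suz.Col.b, TCG_Suz.Col.a, TCG_Suz.Col.d, TCG_Suz.Col.e, TCG_Suz.Col.f, TCG_Suz.Col.b, TCG_Suz.Col.a, TCG_Suz.Col.c, TCG_Suz.Col.e, TCG_Suz.Col.d, TCG_Suz.Col.c, TCG_Suz.Col.f, TCG_Suz.Col.b, TCG_Suz.Col.a, TCG_Suz.Col.b, TCG_Suz.Col.c, TCG_Suz.Col.f, TCG_Suz.Col.c, TCG_Suz.Col.a, TCG_Suz.Col.c, TCG_Suz.Col.d, TCG_Suz.Col.c, TCG_Suz.Col.f, TCG_Suz.Col.b, TCG_Suz.Col.c, TCG_Suz.Col.d, TCG_Suz.Col.a, TCG_Suz.Col.b, TCG_Suz.Col.c, TCG_Suz.Col.a, TCG_Suz.Col.b, TCG_Suz.Col.a, TCG_Suz.Col.b, TCG_Suz.Col.a, TCG_Suz.Col.b, TCG_Suz.Col.c, TCG_Suz.Col.f, TCG_Suz.Col.c, TCG_Suz.Col.a, TCG_Suz.Col.b, TCG_Suz.Col.c, TCG_Suz.Col.e, TCG_Suz.Col.d, TCG_Suz.Col.c, TCG_Suz.Col.f,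 TCG_Suz.Col.b, TCG_Suz.Col.a, TCG_Suz.Col.b, TCG_Suz.Col.c, TCG_Suz.Col.f, TCG_Suz.Col.c, TCG_Suz.Col.a, TCG_Suz.Col.c, TCG_Suz.Col.d, TCG_Suz.Col.c, TCG_Suz.Col.f, TCG_Suz.Col.b, TCG_Suz.Col.c, TCG_Suz.Col.d, TCG_Suz.Col.a, TCG_Suz.Col.b, TCG_Suz.Col.c, TCG_Suz.Col.a, TCG_Suz.Col.b, TCG_Suz.Col.a, TCG_Suz.Col.b, TCG_Suz.Col.a, TCG_Suz.Col.b, TCG_Suz.Col.c, TCG_Suz.Col.f, TCG_Suz.Col.c, TCG_Suz.Col.b, TCG_Suz.Col.a, TCG_Suz.Col.d, TCG_Suz.Col.e, TCG_Suz.Col.f, TCG_Suz.Col.b, TCG_Suz.Col.a, TCG_Suz.Col.c, TCG_Suz.Col.e, TCG_Suz.Col.d, TCG_Suz.Col.c, TCG_Suz.Col.f, TCG_Suz.Col.b, TCG_Suz.Col.a, TCG_Suz.Col.b, TCG_Suz.Col.c, TCG_Suz.Col.f, TCG_Suz.Col.c, TCG_Suz.Col.a, TCG_Suz.Col.c, TCG_Suz.Col.d,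 TCG_Suz.Col.c, TCG_Suz.Col.f, TCG_Suz.Col.b, TCG_Suz.Col.c, TCG_Suz.Col.d, TCG_Suz.Col.a, TCG_Suz.Col.b, TCG_Suz.Col.c, TCG_Suz.Col.a, TCG_Suz.Col.b, TCG_Suz.Col.a, TCG_Suz.Col.b, TCG_Suz.Col.a, TCG_Suz.Col.b, TCG_Suz.Col.c, TCG_Suz.Col.f, TCG_Suz.Col.c, TCG_Suz.Col.b, TCG_Suz.Col.a, TCG_Suz.Col.d, TCG_Suz.Col.e, TCG_Suz.Col.f, TCG_Suz.Col.a, TCG_Suz.Col.c, TCG_Suz.Col.b, TCG_Suz.Col.a, TCG_Suz.Col.d, TCG_Suz.Col.c, TCG_Suz.Col.b, TCG_Suz.Col.f, TCG_Suz.Col.c, TCG_Suz.Col.d, TCG_Suz.Col.c, TCG_Suz.Col.b, TCG_Suz.Col.a, TCG_Suz.Col.b, TCG_Suz.Col.a, TCG_Suz.Col.c, TCG_Suz.Col.b, TCG_Suz.Col.a, TCG_Suz.Col.d, TCG_Suz.Col.c, TCG_Suz.Col.b, TCG_Suz.Col.f, TCG_Suz.Col.c, TCG_Suz.Col.d, TCG_Suz.Col.c,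 TCG_Suz.Col.b, TCG_Suz.Col.e, TCG_Suz.Col.b, TCG_Suz.Col.a, TCG_Suz.Col.c, TCG_Suz.Col.f, TCG_Suz.Col.c, TCG_Suz.Col.b, TCG_Suz.Col.a, TCG_Suz.Col.b, TCG_Suz.Col.a, TCG_Suz.Col.b, TCG_Suz.Col.a, TCG_Suz.Col.c, TCG_Suz.Col.b, TCG_Suz.Col.a, TCG_Suz.Col.d, TCG_Suz.Col.c, TCG_Suz.Col.b, TCG_Suz.Col.f, TCG_Suz.Col.c, TCG_Suz.Col.d, TCG_Suz.Col.c, TCG_Suz.Col.b, TCG_Suz.Col.e, TCG_Suz.Col.a, TCG_Suz.Col.b, TCG_Suz.Col.a, TCG_Suz.Col.c, TCG_Suz.Col.b, TCG_Suz.Col.a, TCG_Suz.Col.d, TCG_Suz.Col.c, TCG_Suz.Col.b, TCG_Suz.Col.f, TCG_Suz.Col.b, TCG_Suz.Col.e, TCG_Suz.Col.d, TCG_Suz.Col.c, TCG_Suz.Col.f, TCG_Suz.Col.b, TCG_Suz.Col.c, TCG_Suz.Col.d, TCG_Suz.Col.c, TCG_Suz.Col.e, TCG_Suz.Col.d, TCG_Suz.Col.c,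 TCG_Suz.Col.b, TCG_Suz.Col.d, TCG_Suz.Col.g, TCG_Suz.Col.b, TCG_Suz.Col.a, TCG_Suz.Col.c, TCG_Suz.Col.b, TCG_Suz.Col.d, TCG_Suz.Col.c, TCG_Suz.Col.b, TCG_Suz.Col.e, TCG_Suz.Col.d, TCG_Suz.Col.c, TCG_Suz.Col.b, TCG_Suz.Col.g, TCG_Suz.Col.f, TCG_Suz.Col.b, TCG_Suz.Col.c],
  [TCG_Suz.Col.c, TCG_Suz.Col.b, TCG_Suz.Col.g, TCG_Suz.Col.f, TCG_Suz.Col.c, TCG_Suz.Col.d, TCG_Suz.Col.e, TCG_Suz.Col.d, TCG_Suz.Col.c, TCG_Suz.Col.d, TCG_Suz.Col.b, TCG_Suz.Col.c, TCG_Suz.Col.d, TCG_Suz.Col.e, TCG_Suz.Col.d, TCG_Suz.Col.b, TCG_Suz.Col.c, TCG_Suz.Col.d, TCG_Suz.Col.c, TCG_Suz.Col.a, TCG_Suz.Col.b, TCG_Suz.Col.c, TCG_Suz.Col.f, TCG_Suz.Col.c, TCG_Suz.Col.b, TCG_Suz.Col.c, TCG_Suz.Col.f, TCG_Suz.Col.c, TCG_Suz.Col.a,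 TCG_Suz.Col.c, TCG_Suz.Col.d, TCG_Suz.Col.c, TCG_Suz.Col.f, TCG_Suz.Col.b, TCG_Suz.Col.c, TCG_Suz.Col.d, TCG_Suz.Col.a, TCG_Suz.Col.b, TCG_Suz.Col.c, TCG_Suz.Col.a, TCG_Suz.Col.b, TCG_Suz.Col.a, TCG_Suz.Col.b, TCG_Suz.Col.c, TCG_Suz.Col.d, TCG_Suz.Col.c, TCG_Suz.Col.f, TCG_Suz.Col.b, TCG_Suz.Col.c, TCG_Suz.Col.d, TCG_Suz.Col.a, TCG_Suz.Col.b, TCG_Suz.Col.c, TCG_Suz.Col.a, TCG_Suz.Col.b, TCG_Suz.Col.a, TCG_Suz.Col.b, TCG_Suz.Col.a, TCG_Suz.Col.b, TCG_Suz.Col.c, TCG_Suz.Col.f, TCG_Suz.Col.c, TCG_Suz.Col.a, TCG_Suz.Col.b, TCG_Suz.Col.e, TCG_Suz.Col.b, TCG_Suz.Col.a, TCG_Suz.Col.c, TCG_Suz.Col.f, TCG_Suz.Col.c, TCG_Suz.Col.b, TCG_Suz.Col.a, TCG_Suz.Col.b, TCG_Suz.Col.f, TCG_Suz.Col.c, TCG_Suz.Col.d,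 TCG_Suz.Col.e, TCG_Suz.Col.c, TCG_Suz.Col.a, TCG_Suz.Col.b, TCG_Suz.Col.f, TCG_Suz.Col.e, TCG_Suz.Col.d, TCG_Suz.Col.a, TCG_Suz.Col.b, TCG_Suz.Col.a, TCG_Suz.Col.b, TCG_Suz.Col.a, TCG_Suz.Col.b, TCG_Suz.Col.f, TCG_Suz.Col.e, TCG_Suz.Col.d, TCG_Suz.Col.a, TCG_Suz.Col.b, TCG_Suz.Col.c, TCG_Suz.Col.f, TCG_Suz.Col.c, TCG_Suz.Col.b, TCG_Suz.Col.a, TCG_Suz.Col.b, TCG_Suz.Col.a, TCG_Suz.Col.b, TCG_Suz.Col.a, TCG_Suz.Col.c, TCG_Suz.Col.b, TCG_Suz.Col.a, TCG_Suz.Col.d, TCG_Suz.Col.c, TCG_Suz.Col.b, TCG_Suz.Col.f, TCG_Suz.Col.c, TCG_Suz.Col.d, TCG_Suz.Col.c, TCG_Suz.Col.a, TCG_Suz.Col.c, TCG_Suz.Col.f, TCG_Suz.Col.c, TCG_Suz.Col.b, TCG_Suz.Col.a, TCG_Suz.Col.b, TCG_Suz.Col.f, TCG_Suz.Col.c, TCG_Suz.Col.d,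 TCG_Suz.Col.e, TCG_Suz.Col.c, TCG_Suz.Col.a, TCG_Suz.Col.b, TCG_Suz.Col.f, TCG_Suz.Col.e, TCG_Suz.Col.d, TCG_Suz.Col.a, TCG_Suz.Col.b, TCG_Suz.Col.a, TCG_Suz.Col.b, TCG_Suz.Col.a, TCG_Suz.Col.b, TCG_Suz.Col.f, TCG_Suz.Col.e, TCG_Suz.Col.d, TCG_Suz.Col.a, TCG_Suz.Col.b, TCG_Suz.Col.c, TCG_Suz.Col.f, TCG_Suz.Col.c, TCG_Suz.Col.b, TCG_Suz.Col.a, TCG_Suz.Col.b, TCG_Suz.Col.a, TCG_Suz.Col.b, TCG_Suz.Col.a, TCG_Suz.Col.c, TCG_Suz.Col.b, TCG_Suz.Col.a, TCG_Suz.Col.d, TCG_Suz.Col.c, TCG_Suz.Col.b, TCG_Suz.Col.f, TCG_Suz.Col.c, TCG_Suz.Col.d, TCG_Suz.Col.c, TCG_Suz.Col.a, TCG_Suz.Col.c, TCG_Suz.Col.f, TCG_Suz.Col.c, TCG_Suz.Col.b, TCG_Suz.Col.a, TCG_Suz.Col.b, TCG_Suz.Col.f, TCG_Suz.Col.c, TCG_Suz.Col.d,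 TCG_Suz.Col.e, TCG_Suz.Col.c, TCG_Suz.Col.a, TCG_Suz.Col.b, TCG_Suz.Col.f, TCG_Suz.Col.e, TCG_Suz.Col.d, TCG_Suz.Col.a, TCG_Suz.Col.b, TCG_Suz.Col.a, TCG_Suz.Col.b, TCG_Suz.Col.c, TCG_Suz.Col.e, TCG_Suz.Col.d, TCG_Suz.Col.c, TCG_Suz.Col.f, TCG_Suz.Col.b, TCG_Suz.Col.a, TCG_Suz.Col.b, TCG_Suz.Col.c, TCG_Suz.Col.f, TCG_Suz.Col.c, TCG_Suz.Col.a, TCG_Suz.Col.c, TCG_Suz.Col.d, TCG_Suz.Col.c, TCG_Suz.Col.f, TCG_Suz.Col.b, TCG_Suz.Col.c, TCG_Suz.Col.d, TCG_Suz.Col.a, TCG_Suz.Col.b, TCG_Suz.Col.c, TCG_Suz.Col.a, TCG_Suz.Col.b, TCG_Suz.Col.a, TCG_Suz.Col.b, TCG_Suz.Col.a, TCG_Suz.Col.b, TCG_Suz.Col.c, TCG_Suz.Col.f, TCG_Suz.Col.c, TCG_Suz.Col.a, TCG_Suz.Col.b, TCG_Suz.Col.c, TCG_Suz.Col.e, TCG_Suz.Col.d,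 TCG_Suz.Col.c, TCG_Suz.Col.f, TCG_Suz.Col.b, TCG_Suz.Col.a, TCG_Suz.Col.b, TCG_Suz.Col.c, TCG_Suz.Col.f, TCG_Suz.Col.c, TCG_Suz.Col.a, TCG_Suz.Col.c, TCG_Suz.Col.d, TCG_Suz.Col.c, TCG_Suz.Col.f, TCG_Suz.Col.b, TCG_Suz.Col.c, TCG_Suz.Col.d, TCG_Suz.Col.a, TCG_Suz.Col.b, TCG_Suz.Col.c, TCG_Suz.Col.a, TCG_Suz.Col.b, TCG_Suz.Col.a, TCG_Suz.Col.b, TCG_Suz.Col.a, TCG_Suz.Col.b, TCG_Suz.Col.c, TCG_Suz.Col.f, TCG_Suz.Col.c, TCG_Suz.Col.b, TCG_Suz.Col.a, TCG_Suz.Col.d, TCG_Suz.Col.e, TCG_Suz.Col.f, TCG_Suz.Col.b, TCG_Suz.Col.a, TCG_Suz.Col.c, TCG_Suz.Col.e, TCG_Suz.Col.d, TCG_Suz.Col.c, TCG_Suz.Col.f, TCG_Suz.Col.b, TCG_Suz.Col.a, TCG_Suz.Col.b, TCG_Suz.Col.c, TCG_Suz.Col.f, TCG_Suz.Col.c, TCG_Suz.Col.a,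 TCG_Suz.Col.c, TCG_Suz.Col.d, TCG_Suz.Col.c, TCG_Suz.Col.f, TCG_Suz.Col.b, TCG_Suz.Col.c, TCG_Suz.Col.d, TCG_Suz.Col.a, TCG_Suz.Col.b, TCG_Suz.Col.c, TCG_Suz.Col.a, TCG_Suz.Col.b, TCG_Suz.Col.a, TCG_Suz.Col.b, TCG_Suz.Col.a, TCG_Suz.Col.b, TCG_Suz.Col.c, TCG_Suz.Col.f, TCG_Suz.Col.c, TCG_Suz.Col.a, TCG_Suz.Col.b, TCG_Suz.Col.c, TCG_Suz.Col.e, TCG_Suz.Col.d, TCG_Suz.Col.c, TCG_Suz.Col.f, TCG_Suz.Col.b, TCG_Suz.Col.a, TCG_Suz.Col.b, TCG_Suz.Col.c, TCG_Suz.Col.f, TCG_Suz.Col.c, TCG_Suz.Col.a, TCG_Suz.Col.c, TCG_Suz.Col.d, TCG_Suz.Col.c, TCG_Suz.Col.f, TCG_Suz.Col.b, TCG_Suz.Col.c, TCG_Suz.Col.d, TCG_Suz.Col.a, TCG_Suz.Col.b, TCG_Suz.Col.c, TCG_Suz.Col.a, TCG_Suz.Col.b, TCG_Suz.Col.a, TCG_Suz.Col.b,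 TCG_Suz.Col.a, TCG_Suz.Col.b, TCG_Suz.Col.c, TCG_Suz.Col.f, TCG_Suz.Col.c, TCG_Suz.Col.b, TCG_Suz.Col.a, TCG_Suz.Col.d, TCG_Suz.Col.e, TCG_Suz.Col.f, TCG_Suz.Col.a, TCG_Suz.Col.c, TCG_Suz.Col.b, TCG_Suz.Col.a, TCG_Suz.Col.d, TCG_Suz.Col.c, TCG_Suz.Col.b, TCG_Suz.Col.f, TCG_Suz.Col.c, TCG_Suz.Col.d, TCG_Suz.Col.c, TCG_Suz.Col.b, TCG_Suz.Col.e, TCG_Suz.Col.b, TCG_Suz.Col.a, TCG_Suz.Col.c, TCG_Suz.Col.f, TCG_Suz.Col.c, TCG_Suz.Col.b, TCG_Suz.Col.a, TCG_Suz.Col.b, TCG_Suz.Col.a, TCG_Suz.Col.b, TCG_Suz.Col.a, TCG_Suz.Col.c, TCG_Suz.Col.b, TCG_Suz.Col.a, TCG_Suz.Col.d, TCG_Suz.Col.c, TCG_Suz.Col.b, TCG_Suz.Col.f, TCG_Suz.Col.c, TCG_Suz.Col.d, TCG_Suz.Col.c, TCG_Suz.Col.b, TCG_Suz.Col.a, TCG_Suz.Col.b,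 TCG_Suz.Col.a, TCG_Suz.Col.c, TCG_Suz.Col.b, TCG_Suz.Col.a, TCG_Suz.Col.d, TCG_Suz.Col.c, TCG_Suz.Col.b, TCG_Suz.Col.f, TCG_Suz.Col.c, TCG_Suz.Col.d, TCG_Suz.Col.c, TCG_Suz.Col.b, TCG_Suz.Col.e, TCG_Suz.Col.a, TCG_Suz.Col.b, TCG_Suz.Col.a, TCG_Suz.Col.c, TCG_Suz.Col.b, TCG_Suz.Col.a, TCG_Suz.Col.d, TCG_Suz.Col.c, TCG_Suz.Col.b, TCG_Suz.Col.f, TCG_Suz.Col.c, TCG_Suz.Col.d, TCG_Suz.Col.c, TCG_Suz.Col.b, TCG_Suz.Col.e, TCG_Suz.Col.b, TCG_Suz.Col.a, TCG_Suz.Col.c, TCG_Suz.Col.f, TCG_Suz.Col.c, TCG_Suz.Col.b, TCG_Suz.Col.a, TCG_Suz.Col.b, TCG_Suz.Col.a, TCG_Suz.Col.b, TCG_Suz.Col.a, TCG_Suz.Col.c, TCG_Suz.Col.b, TCG_Suz.Col.a, TCG_Suz.Col.d, TCG_Suz.Col.c, TCG_Suz.Col.b, TCG_Suz.Col.f, TCG_Suz.Col.c,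 TCG_Suz.Col.d, TCG_Suz.Col.c, TCG_Suz.Col.b, TCG_Suz.Col.e, TCG_Suz.Col.b, TCG_Suz.Col.a, TCG_Suz.Col.c, TCG_Suz.Col.f, TCG_Suz.Col.c, TCG_Suz.Col.b, TCG_Suz.Col.a, TCG_Suz.Col.c, TCG_Suz.Col.d, TCG_Suz.Col.c, TCG_Suz.Col.b, TCG_Suz.Col.d, TCG_Suz.Col.e, TCG_Suz.Col.f, TCG_Suz.Col.b, TCG_Suz.Col.c, TCG_Suz.Col.d, TCG_Suz.Col.c, TCG_Suz.Col.b, TCG_Suz.Col.f, TCG_Suz.Col.g, TCG_Suz.Col.b, TCG_Suz.Col.a, TCG_Suz.Col.c, TCG_Suz.Col.b, TCG_Suz.Col.d, TCG_Suz.Col.c, TCG_Suz.Col.b, TCG_Suz.Col.d, TCG_Suz.Col.e, TCG_Suz.Col.d, TCG_Suz.Col.c, TCG_Suz.Col.d, TCG_Suz.Col.f, TCG_Suz.Col.b, TCG_Suz.Col.a, TCG_Suz.Col.c],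
  [TCG_Suz.Col.c, TCG_Suz.Col.b, TCG_Suz.Col.g, TCG_Suz.Col.f, TCG_Suz.Col.c, TCG_Suz.Col.d, TCG_Suz.Col.e, TCG_Suz.Col.d, TCG_Suz.Col.c, TCG_Suz.Col.d, TCG_Suz.Col.b, TCG_Suz.Col.c, TCG_Suz.Col.d, TCG_Suz.Col.e, TCG_Suz.Col.d, TCG_Suz.Col.b, TCG_Suz.Col.c, TCG_Suz.Col.d, TCG_Suz.Col.c, TCG_Suz.Col.a, TCG_Suz.Col.b, TCG_Suz.Col.c, TCG_Suz.Col.f, TCG_Suz.Col.c, TCG_Suz.Col.b, TCG_Suz.Col.c, TCG_Suz.Col.f, TCG_Suz.Col.c, TCG_Suz.Col.a, TCG_Suz.Col.c, TCG_Suz.Col.d, TCG_Suz.Col.c, TCG_Suz.Col.f, TCG_Suz.Col.b, TCG_Suz.Col.c, TCG_Suz.Col.d, TCG_Suz.Col.a, TCG_Suz.Col.b, TCG_Suz.Col.c, TCG_Suz.Col.a, TCG_Suz.Col.b, TCG_Suz.Col.a, TCG_Suz.Col.b, TCG_Suz.Col.c, TCG_Suz.Col.d, TCG_Suz.Col.c, TCG_Suz.Col.f,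 TCG_Suz.Col.b, TCG_Suz.Col.c, TCG_Suz.Col.d, TCG_Suz.Col.a, TCG_Suz.Col.b, TCG_Suz.Col.c, TCG_Suz.Col.a, TCG_Suz.Col.b, TCG_Suz.Col.a, TCG_Suz.Col.b, TCG_Suz.Col.a, TCG_Suz.Col.b, TCG_Suz.Col.c, TCG_Suz.Col.f, TCG_Suz.Col.c, TCG_Suz.Col.a, TCG_Suz.Col.b, TCG_Suz.Col.e, TCG_Suz.Col.b, TCG_Suz.Col.a, TCG_Suz.Col.c, TCG_Suz.Col.f, TCG_Suz.Col.c, TCG_Suz.Col.b, TCG_Suz.Col.a, TCG_Suz.Col.b, TCG_Suz.Col.f, TCG_Suz.Col.c, TCG_Suz.Col.d, TCG_Suz.Col.e, TCG_Suz.Col.c, TCG_Suz.Col.a, TCG_Suz.Col.b, TCG_Suz.Col.f, TCG_Suz.Col.e, TCG_Suz.Col.d, TCG_Suz.Col.a, TCG_Suz.Col.b, TCG_Suz.Col.a, TCG_Suz.Col.b, TCG_Suz.Col.a, TCG_Suz.Col.b, TCG_Suz.Col.f, TCG_Suz.Col.e, TCG_Suz.Col.d, TCG_Suz.Col.a, TCG_Suz.Col.b,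 TCG_Suz.Col.c, TCG_Suz.Col.f, TCG_Suz.Col.c, TCG_Suz.Col.b, TCG_Suz.Col.a, TCG_Suz.Col.b, TCG_Suz.Col.a, TCG_Suz.Col.b, TCG_Suz.Col.a, TCG_Suz.Col.c, TCG_Suz.Col.b, TCG_Suz.Col.a, TCG_Suz.Col.d, TCG_Suz.Col.c, TCG_Suz.Col.b, TCG_Suz.Col.f, TCG_Suz.Col.c, TCG_Suz.Col.d, TCG_Suz.Col.c, TCG_Suz.Col.a, TCG_Suz.Col.c, TCG_Suz.Col.f, TCG_Suz.Col.c, TCG_Suz.Col.b, TCG_Suz.Col.a, TCG_Suz.Col.b, TCG_Suz.Col.f, TCG_Suz.Col.c, TCG_Suz.Col.d, TCG_Suz.Col.e, TCG_Suz.Col.c, TCG_Suz.Col.a, TCG_Suz.Col.b, TCG_Suz.Col.f, TCG_Suz.Col.e, TCG_Suz.Col.d, TCG_Suz.Col.a, TCG_Suz.Col.b, TCG_Suz.Col.a, TCG_Suz.Col.b, TCG_Suz.Col.a, TCG_Suz.Col.b, TCG_Suz.Col.f, TCG_Suz.Col.e, TCG_Suz.Col.d, TCG_Suz.Col.a, TCG_Suz.Col.b,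 TCG_Suz.Col.c, TCG_Suz.Col.f, TCG_Suz.Col.c, TCG_Suz.Col.b, TCG_Suz.Col.a, TCG_Suz.Col.b, TCG_Suz.Col.a, TCG_Suz.Col.b, TCG_Suz.Col.a, TCG_Suz.Col.c, TCG_Suz.Col.b, TCG_Suz.Col.a, TCG_Suz.Col.d, TCG_Suz.Col.c, TCG_Suz.Col.b, TCG_Suz.Col.f, TCG_Suz.Col.c, TCG_Suz.Col.d, TCG_Suz.Col.c, TCG_Suz.Col.a, TCG_Suz.Col.c, TCG_Suz.Col.f, TCG_Suz.Col.c, TCG_Suz.Col.b, TCG_Suz.Col.a, TCG_Suz.Col.b, TCG_Suz.Col.f, TCG_Suz.Col.c, TCG_Suz.Col.d, TCG_Suz.Col.e, TCG_Suz.Col.c, TCG_Suz.Col.a, TCG_Suz.Col.b, TCG_Suz.Col.f, TCG_Suz.Col.e, TCG_Suz.Col.d, TCG_Suz.Col.a, TCG_Suz.Col.b, TCG_Suz.Col.a, TCG_Suz.Col.b, TCG_Suz.Col.c, TCG_Suz.Col.e, TCG_Suz.Col.d, TCG_Suz.Col.c, TCG_Suz.Col.f, TCG_Suz.Col.b, TCG_Suz.Col.a,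 TCG_Suz.Col.b, TCG_Suz.Col.c, TCG_Suz.Col.f, TCG_Suz.Col.c, TCG_Suz.Col.a, TCG_Suz.Col.c, TCG_Suz.Col.d, TCG_Suz.Col.c, TCG_Suz.Col.f, TCG_Suz.Col.b, TCG_Suz.Col.c, TCG_Suz.Col.d, TCG_Suz.Col.a, TCG_Suz.Col.b, TCG_Suz.Col.c, TCG_Suz.Col.a, TCG_Suz.Col.b, TCG_Suz.Col.a, TCG_Suz.Col.b, TCG_Suz.Col.a, TCG_Suz.Col.b, TCG_Suz.Col.c, TCG_Suz.Col.f, TCG_Suz.Col.c, TCG_Suz.Col.b, TCG_Suz.Col.a, TCG_Suz.Col.d, TCG_Suz.Col.e, TCG_Suz.Col.f, TCG_Suz.Col.b, TCG_Suz.Col.a, TCG_Suz.Col.b, TCG_Suz.Col.a, TCG_Suz.Col.b, TCG_Suz.Col.a, TCG_Suz.Col.d, TCG_Suz.Col.e, TCG_Suz.Col.f, TCG_Suz.Col.b, TCG_Suz.Col.a, TCG_Suz.Col.c, TCG_Suz.Col.e, TCG_Suz.Col.d, TCG_Suz.Col.c, TCG_Suz.Col.f, TCG_Suz.Col.b, TCG_Suz.Col.a,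 TCG_Suz.Col.b, TCG_Suz.Col.c, TCG_Suz.Col.f, TCG_Suz.Col.c, TCG_Suz.Col.a, TCG_Suz.Col.c, TCG_Suz.Col.d, TCG_Suz.Col.c, TCG_Suz.Col.f, TCG_Suz.Col.b, TCG_Suz.Col.c, TCG_Suz.Col.d, TCG_Suz.Col.a, TCG_Suz.Col.b, TCG_Suz.Col.c, TCG_Suz.Col.a, TCG_Suz.Col.b, TCG_Suz.Col.a, TCG_Suz.Col.b, TCG_Suz.Col.a, TCG_Suz.Col.b, TCG_Suz.Col.c, TCG_Suz.Col.f, TCG_Suz.Col.c, TCG_Suz.Col.b, TCG_Suz.Col.a, TCG_Suz.Col.d, TCG_Suz.Col.e, TCG_Suz.Col.f, TCG_Suz.Col.b, TCG_Suz.Col.a, TCG_Suz.Col.b, TCG_Suz.Col.a, TCG_Suz.Col.b, TCG_Suz.Col.a, TCG_Suz.Col.d, TCG_Suz.Col.e, TCG_Suz.Col.f, TCG_Suz.Col.b, TCG_Suz.Col.a, TCG_Suz.Col.c, TCG_Suz.Col.e, TCG_Suz.Col.d, TCG_Suz.Col.c, TCG_Suz.Col.f, TCG_Suz.Col.b, TCG_Suz.Col.a,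 TCG_Suz.Col.b, TCG_Suz.Col.c, TCG_Suz.Col.f, TCG_Suz.Col.c, TCG_Suz.Col.a, TCG_Suz.Col.c, TCG_Suz.Col.d, TCG_Suz.Col.c, TCG_Suz.Col.f, TCG_Suz.Col.b, TCG_Suz.Col.c, TCG_Suz.Col.d, TCG_Suz.Col.a, TCG_Suz.Col.b, TCG_Suz.Col.c, TCG_Suz.Col.a, TCG_Suz.Col.b, TCG_Suz.Col.a, TCG_Suz.Col.b, TCG_Suz.Col.a, TCG_Suz.Col.b, TCG_Suz.Col.c, TCG_Suz.Col.f, TCG_Suz.Col.c, TCG_Suz.Col.a, TCG_Suz.Col.b, TCG_Suz.Col.c, TCG_Suz.Col.e, TCG_Suz.Col.d, TCG_Suz.Col.c, TCG_Suz.Col.f, TCG_Suz.Col.b, TCG_Suz.Col.a, TCG_Suz.Col.b, TCG_Suz.Col.c, TCG_Suz.Col.f, TCG_Suz.Col.c, TCG_Suz.Col.a, TCG_Suz.Col.c, TCG_Suz.Col.d, TCG_Suz.Col.c, TCG_Suz.Col.f, TCG_Suz.Col.b, TCG_Suz.Col.c, TCG_Suz.Col.d, TCG_Suz.Col.a, TCG_Suz.Col.b,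 TCG_Suz.Col.c, TCG_Suz.Col.a, TCG_Suz.Col.b, TCG_Suz.Col.a, TCG_Suz.Col.b, TCG_Suz.Col.a, TCG_Suz.Col.b, TCG_Suz.Col.c, TCG_Suz.Col.f, TCG_Suz.Col.c, TCG_Suz.Col.a, TCG_Suz.Col.b, TCG_Suz.Col.a, TCG_Suz.Col.b, TCG_Suz.Col.a, TCG_Suz.Col.c, TCG_Suz.Col.b, TCG_Suz.Col.a, TCG_Suz.Col.d, TCG_Suz.Col.c, TCG_Suz.Col.b, TCG_Suz.Col.f, TCG_Suz.Col.c, TCG_Suz.Col.d, TCG_Suz.Col.c, TCG_Suz.Col.b, TCG_Suz.Col.e, TCG_Suz.Col.a, TCG_Suz.Col.b, TCG_Suz.Col.a, TCG_Suz.Col.c, TCG_Suz.Col.b, TCG_Suz.Col.a, TCG_Suz.Col.d, TCG_Suz.Col.c, TCG_Suz.Col.b, TCG_Suz.Col.f, TCG_Suz.Col.c, TCG_Suz.Col.d, TCG_Suz.Col.c, TCG_Suz.Col.b, TCG_Suz.Col.e, TCG_Suz.Col.a, TCG_Suz.Col.b, TCG_Suz.Col.a, TCG_Suz.Col.c, TCG_Suz.Col.b,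 TCG_Suz.Col.a, TCG_Suz.Col.d, TCG_Suz.Col.c, TCG_Suz.Col.b, TCG_Suz.Col.f, TCG_Suz.Col.c, TCG_Suz.Col.d, TCG_Suz.Col.c, TCG_Suz.Col.b, TCG_Suz.Col.a, TCG_Suz.Col.b, TCG_Suz.Col.a, TCG_Suz.Col.c, TCG_Suz.Col.b, TCG_Suz.Col.a, TCG_Suz.Col.d, TCG_Suz.Col.c, TCG_Suz.Col.b, TCG_Suz.Col.f, TCG_Suz.Col.c, TCG_Suz.Col.d, TCG_Suz.Col.c, TCG_Suz.Col.b, TCG_Suz.Col.e, TCG_Suz.Col.a, TCG_Suz.Col.b, TCG_Suz.Col.a, TCG_Suz.Col.c, TCG_Suz.Col.b, TCG_Suz.Col.a, TCG_Suz.Col.d, TCG_Suz.Col.c, TCG_Suz.Col.b, TCG_Suz.Col.f, TCG_Suz.Col.c, TCG_Suz.Col.d, TCG_Suz.Col.c, TCG_Suz.Col.b, TCG_Suz.Col.e, TCG_Suz.Col.b, TCG_Suz.Col.a, TCG_Suz.Col.c, TCG_Suz.Col.f, TCG_Suz.Col.c, TCG_Suz.Col.b, TCG_Suz.Col.a, TCG_Suz.Col.c,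 TCG_Suz.Col.d, TCG_Suz.Col.c, TCG_Suz.Col.b, TCG_Suz.Col.e, TCG_Suz.Col.d, TCG_Suz.Col.c, TCG_Suz.Col.b, TCG_Suz.Col.d, TCG_Suz.Col.e, TCG_Suz.Col.f, TCG_Suz.Col.b, TCG_Suz.Col.c, TCG_Suz.Col.d, TCG_Suz.Col.c, TCG_Suz.Col.b, TCG_Suz.Col.e, TCG_Suz.Col.f, TCG_Suz.Col.g, TCG_Suz.Col.b, TCG_Suz.Col.a, TCG_Suz.Col.c, TCG_Suz.Col.b, TCG_Suz.Col.d, TCG_Suz.Col.c, TCG_Suz.Col.e, TCG_Suz.Col.d, TCG_Suz.Col.c, TCG_Suz.Col.f, TCG_Suz.Col.b, TCG_Suz.Col.g],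
  [TCG_Suz.Col.c, TCG_Suz.Col.b, TCG_Suz.Col.g, TCG_Suz.Col.f, TCG_Suz.Col.c, TCG_Suz.Col.d, TCG_Suz.Col.e, TCG_Suz.Col.d, TCG_Suz.Col.c, TCG_Suz.Col.d, TCG_Suz.Col.b, TCG_Suz.Col.c, TCG_Suz.Col.d, TCG_Suz.Col.e, TCG_Suz.Col.d, TCG_Suz.Col.b, TCG_Suz.Col.c, TCG_Suz.Col.d, TCG_Suz.Col.c, TCG_Suz.Col.a, TCG_Suz.Col.b, TCG_Suz.Col.c, TCG_Suz.Col.f, TCG_Suz.Col.c, TCG_Suz.Col.b, TCG_Suz.Col.c, TCG_Suz.Col.f, TCG_Suz.Col.c, TCG_Suz.Col.a, TCG_Suz.Col.c, TCG_Suz.Col.d, TCG_Suz.Col.c, TCG_Suz.Col.f, TCG_Suz.Col.b, TCG_Suz.Col.c, TCG_Suz.Col.d, TCG_Suz.Col.a, TCG_Suz.Col.b, TCG_Suz.Col.c, TCG_Suz.Col.a, TCG_Suz.Col.b, TCG_Suz.Col.a, TCG_Suz.Col.b, TCG_Suz.Col.c, TCG_Suz.Col.d, TCG_Suz.Col.c, TCG_Suz.Col.f,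 TCG_Suz.Col.b, TCG_Suz.Col.c, TCG_Suz.Col.d, TCG_Suz.Col.a, TCG_Suz.Col.b, TCG_Suz.Col.c, TCG_Suz.Col.a, TCG_Suz.Col.b, TCG_Suz.Col.a, TCG_Suz.Col.b, TCG_Suz.Col.a, TCG_Suz.Col.b, TCG_Suz.Col.c, TCG_Suz.Col.f, TCG_Suz.Col.c, TCG_Suz.Col.a, TCG_Suz.Col.b, TCG_Suz.Col.e, TCG_Suz.Col.b, TCG_Suz.Col.a, TCG_Suz.Col.c, TCG_Suz.Col.f, TCG_Suz.Col.c, TCG_Suz.Col.b, TCG_Suz.Col.a, TCG_Suz.Col.b, TCG_Suz.Col.f, TCG_Suz.Col.c, TCG_Suz.Col.d, TCG_Suz.Col.e, TCG_Suz.Col.c, TCG_Suz.Col.a, TCG_Suz.Col.b, TCG_Suz.Col.f, TCG_Suz.Col.e, TCG_Suz.Col.d, TCG_Suz.Col.a, TCG_Suz.Col.b, TCG_Suz.Col.a, TCG_Suz.Col.b, TCG_Suz.Col.a, TCG_Suz.Col.b, TCG_Suz.Col.f, TCG_Suz.Col.e, TCG_Suz.Col.d, TCG_Suz.Col.a, TCG_Suz.Col.b,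 TCG_Suz.Col.c, TCG_Suz.Col.f, TCG_Suz.Col.c, TCG_Suz.Col.b, TCG_Suz.Col.a, TCG_Suz.Col.b, TCG_Suz.Col.a, TCG_Suz.Col.b, TCG_Suz.Col.a, TCG_Suz.Col.c, TCG_Suz.Col.b, TCG_Suz.Col.a, TCG_Suz.Col.d, TCG_Suz.Col.c, TCG_Suz.Col.b, TCG_Suz.Col.f, TCG_Suz.Col.c, TCG_Suz.Col.d, TCG_Suz.Col.c, TCG_Suz.Col.a, TCG_Suz.Col.c, TCG_Suz.Col.f, TCG_Suz.Col.c, TCG_Suz.Col.b, TCG_Suz.Col.a, TCG_Suz.Col.b, TCG_Suz.Col.f, TCG_Suz.Col.c, TCG_Suz.Col.d, TCG_Suz.Col.e, TCG_Suz.Col.c, TCG_Suz.Col.a, TCG_Suz.Col.b, TCG_Suz.Col.f, TCG_Suz.Col.e, TCG_Suz.Col.d, TCG_Suz.Col.a, TCG_Suz.Col.b, TCG_Suz.Col.a, TCG_Suz.Col.b, TCG_Suz.Col.a, TCG_Suz.Col.b, TCG_Suz.Col.f, TCG_Suz.Col.e, TCG_Suz.Col.d, TCG_Suz.Col.a, TCG_Suz.Col.b,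 TCG_Suz.Col.c, TCG_Suz.Col.f, TCG_Suz.Col.c, TCG_Suz.Col.b, TCG_Suz.Col.a, TCG_Suz.Col.b, TCG_Suz.Col.a, TCG_Suz.Col.b, TCG_Suz.Col.a, TCG_Suz.Col.c, TCG_Suz.Col.b, TCG_Suz.Col.a, TCG_Suz.Col.d, TCG_Suz.Col.c, TCG_Suz.Col.b, TCG_Suz.Col.f, TCG_Suz.Col.c, TCG_Suz.Col.d, TCG_Suz.Col.c, TCG_Suz.Col.a, TCG_Suz.Col.c, TCG_Suz.Col.f, TCG_Suz.Col.c, TCG_Suz.Col.b, TCG_Suz.Col.a, TCG_Suz.Col.b, TCG_Suz.Col.f, TCG_Suz.Col.c, TCG_Suz.Col.d, TCG_Suz.Col.e, TCG_Suz.Col.c, TCG_Suz.Col.a, TCG_Suz.Col.b, TCG_Suz.Col.f, TCG_Suz.Col.e, TCG_Suz.Col.d, TCG_Suz.Col.a, TCG_Suz.Col.b, TCG_Suz.Col.a, TCG_Suz.Col.b, TCG_Suz.Col.c, TCG_Suz.Col.e, TCG_Suz.Col.d, TCG_Suz.Col.c, TCG_Suz.Col.f, TCG_Suz.Col.b, TCG_Suz.Col.a,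 TCG_Suz.Col.b, TCG_Suz.Col.c, TCG_Suz.Col.f, TCG_Suz.Col.c, TCG_Suz.Col.a, TCG_Suz.Col.c, TCG_Suz.Col.d, TCG_Suz.Col.c, TCG_Suz.Col.f, TCG_Suz.Col.b, TCG_Suz.Col.c, TCG_Suz.Col.d, TCG_Suz.Col.a, TCG_Suz.Col.b, TCG_Suz.Col.c, TCG_Suz.Col.a, TCG_Suz.Col.b, TCG_Suz.Col.a, TCG_Suz.Col.b, TCG_Suz.Col.a, TCG_Suz.Col.b, TCG_Suz.Col.c, TCG_Suz.Col.f, TCG_Suz.Col.c, TCG_Suz.Col.b, TCG_Suz.Col.a, TCG_Suz.Col.d, TCG_Suz.Col.e, TCG_Suz.Col.f, TCG_Suz.Col.b, TCG_Suz.Col.a, TCG_Suz.Col.b, TCG_Suz.Col.a, TCG_Suz.Col.b, TCG_Suz.Col.a, TCG_Suz.Col.d, TCG_Suz.Col.e, TCG_Suz.Col.f, TCG_Suz.Col.b, TCG_Suz.Col.a, TCG_Suz.Col.c, TCG_Suz.Col.e, TCG_Suz.Col.d, TCG_Suz.Col.c, TCG_Suz.Col.f, TCG_Suz.Col.b, TCG_Suz.Col.a,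 TCG_Suz.Col.b, TCG_Suz.Col.c, TCG_Suz.Col.f, TCG_Suz.Col.c, TCG_Suz.Col.a, TCG_Suz.Col.c, TCG_Suz.Col.d, TCG_Suz.Col.c, TCG_Suz.Col.f, TCG_Suz.Col.b, TCG_Suz.Col.c, TCG_Suz.Col.d, TCG_Suz.Col.a, TCG_Suz.Col.b, TCG_Suz.Col.c, TCG_Suz.Col.a, TCG_Suz.Col.b, TCG_Suz.Col.a, TCG_Suz.Col.b, TCG_Suz.Col.a, TCG_Suz.Col.b, TCG_Suz.Col.c, TCG_Suz.Col.f, TCG_Suz.Col.c, TCG_Suz.Col.b, TCG_Suz.Col.a, TCG_Suz.Col.d, TCG_Suz.Col.e, TCG_Suz.Col.f, TCG_Suz.Col.b, TCG_Suz.Col.a, TCG_Suz.Col.b, TCG_Suz.Col.a, TCG_Suz.Col.b, TCG_Suz.Col.a, TCG_Suz.Col.d, TCG_Suz.Col.e, TCG_Suz.Col.f, TCG_Suz.Col.b, TCG_Suz.Col.a, TCG_Suz.Col.c, TCG_Suz.Col.e, TCG_Suz.Col.d, TCG_Suz.Col.c, TCG_Suz.Col.f, TCG_Suz.Col.b, TCG_Suz.Col.a,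 TCG_Suz.Col.b, TCG_Suz.Col.c, TCG_Suz.Col.f, TCG_Suz.Col.c, TCG_Suz.Col.a, TCG_Suz.Col.c, TCG_Suz.Col.d, TCG_Suz.Col.c, TCG_Suz.Col.f, TCG_Suz.Col.b, TCG_Suz.Col.c, TCG_Suz.Col.d, TCG_Suz.Col.a, TCG_Suz.Col.b, TCG_Suz.Col.c, TCG_Suz.Col.a, TCG_Suz.Col.b, TCG_Suz.Col.a, TCG_Suz.Col.b, TCG_Suz.Col.a, TCG_Suz.Col.b, TCG_Suz.Col.c, TCG_Suz.Col.f, TCG_Suz.Col.c, TCG_Suz.Col.a, TCG_Suz.Col.b, TCG_Suz.Col.c, TCG_Suz.Col.e, TCG_Suz.Col.d, TCG_Suz.Col.c, TCG_Suz.Col.f, TCG_Suz.Col.b, TCG_Suz.Col.a, TCG_Suz.Col.b, TCG_Suz.Col.c, TCG_Suz.Col.f, TCG_Suz.Col.c, TCG_Suz.Col.a, TCG_Suz.Col.c, TCG_Suz.Col.d, TCG_Suz.Col.c, TCG_Suz.Col.f, TCG_Suz.Col.b, TCG_Suz.Col.c, TCG_Suz.Col.d, TCG_Suz.Col.a, TCG_Suz.Col.b,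 TCG_Suz.Col.c, TCG_Suz.Col.a, TCG_Suz.Col.b, TCG_Suz.Col.a, TCG_Suz.Col.b, TCG_Suz.Col.a, TCG_Suz.Col.b, TCG_Suz.Col.c, TCG_Suz.Col.f, TCG_Suz.Col.c, TCG_Suz.Col.b, TCG_Suz.Col.a, TCG_Suz.Col.d, TCG_Suz.Col.e, TCG_Suz.Col.f, TCG_Suz.Col.b, TCG_Suz.Col.a, TCG_Suz.Col.b, TCG_Suz.Col.a, TCG_Suz.Col.c, TCG_Suz.Col.f, TCG_Suz.Col.c, TCG_Suz.Col.b, TCG_Suz.Col.c, TCG_Suz.Col.f, TCG_Suz.Col.c, TCG_Suz.Col.b, TCG_Suz.Col.a, TCG_Suz.Col.b, TCG_Suz.Col.a, TCG_Suz.Col.b, TCG_Suz.Col.a, TCG_Suz.Col.c, TCG_Suz.Col.b, TCG_Suz.Col.a, TCG_Suz.Col.d, TCG_Suz.Col.c, TCG_Suz.Col.b, TCG_Suz.Col.f, TCG_Suz.Col.c, TCG_Suz.Col.d, TCG_Suz.Col.c, TCG_Suz.Col.b, TCG_Suz.Col.e, TCG_Suz.Col.b, TCG_Suz.Col.a, TCG_Suz.Col.c,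 TCG_Suz.Col.f, TCG_Suz.Col.c, TCG_Suz.Col.b, TCG_Suz.Col.a, TCG_Suz.Col.b, TCG_Suz.Col.a, TCG_Suz.Col.b, TCG_Suz.Col.a, TCG_Suz.Col.c, TCG_Suz.Col.b, TCG_Suz.Col.a, TCG_Suz.Col.d, TCG_Suz.Col.c, TCG_Suz.Col.b, TCG_Suz.Col.f, TCG_Suz.Col.c, TCG_Suz.Col.d, TCG_Suz.Col.c, TCG_Suz.Col.b, TCG_Suz.Col.a, TCG_Suz.Col.b, TCG_Suz.Col.a, TCG_Suz.Col.c, TCG_Suz.Col.b, TCG_Suz.Col.a, TCG_Suz.Col.d, TCG_Suz.Col.c, TCG_Suz.Col.b, TCG_Suz.Col.f, TCG_Suz.Col.c, TCG_Suz.Col.d, TCG_Suz.Col.c, TCG_Suz.Col.b, TCG_Suz.Col.e, TCG_Suz.Col.b, TCG_Suz.Col.a, TCG_Suz.Col.c, TCG_Suz.Col.f, TCG_Suz.Col.c, TCG_Suz.Col.b, TCG_Suz.Col.a, TCG_Suz.Col.b, TCG_Suz.Col.a, TCG_Suz.Col.b, TCG_Suz.Col.a, TCG_Suz.Col.c, TCG_Suz.Col.b,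 TCG_Suz.Col.a, TCG_Suz.Col.d, TCG_Suz.Col.c, TCG_Suz.Col.b, TCG_Suz.Col.f, TCG_Suz.Col.c, TCG_Suz.Col.d, TCG_Suz.Col.c, TCG_Suz.Col.b, TCG_Suz.Col.e, TCG_Suz.Col.a, TCG_Suz.Col.b, TCG_Suz.Col.a, TCG_Suz.Col.c, TCG_Suz.Col.b, TCG_Suz.Col.a, TCG_Suz.Col.d, TCG_Suz.Col.c, TCG_Suz.Col.b, TCG_Suz.Col.f, TCG_Suz.Col.c, TCG_Suz.Col.d, TCG_Suz.Col.c, TCG_Suz.Col.a, TCG_Suz.Col.c, TCG_Suz.Col.f, TCG_Suz.Col.c, TCG_Suz.Col.b, TCG_Suz.Col.a, TCG_Suz.Col.c, TCG_Suz.Col.d, TCG_Suz.Col.c, TCG_Suz.Col.b, TCG_Suz.Col.e, TCG_Suz.Col.d, TCG_Suz.Col.c, TCG_Suz.Col.d, TCG_Suz.Col.c, TCG_Suz.Col.b, TCG_Suz.Col.e, TCG_Suz.Col.d, TCG_Suz.Col.c, TCG_Suz.Col.d, TCG_Suz.Col.g, TCG_Suz.Col.b, TCG_Suz.Col.a, TCG_Suz.Col.c,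 TCG_Suz.Col.b, TCG_Suz.Col.d, TCG_Suz.Col.c, TCG_Suz.Col.d, TCG_Suz.Col.e, TCG_Suz.Col.d, TCG_Suz.Col.c, TCG_Suz.Col.b, TCG_Suz.Col.d, TCG_Suz.Col.c, TCG_Suz.Col.d],
  [TCG_Suz.Col.c, TCG_Suz.Col.b, TCG_Suz.Col.g, TCG_Suz.Col.f, TCG_Suz.Col.c, TCG_Suz.Col.d, TCG_Suz.Col.e, TCG_Suz.Col.d, TCG_Suz.Col.c, TCG_Suz.Col.d, TCG_Suz.Col.b, TCG_Suz.Col.c, TCG_Suz.Col.d, TCG_Suz.Col.e, TCG_Suz.Col.d, TCG_Suz.Col.b, TCG_Suz.Col.c, TCG_Suz.Col.d, TCG_Suz.Col.c, TCG_Suz.Col.a, TCG_Suz.Col.b, TCG_Suz.Col.c, TCG_Suz.Col.f, TCG_Suz.Col.c, TCG_Suz.Col.b, TCG_Suz.Col.c, TCG_Suz.Col.f, TCG_Suz.Col.c, TCG_Suz.Col.a, TCG_Suz.Col.c, TCG_Suz.Col.d, TCG_Suz.Col.c, TCG_Suz.Col.f, TCG_Suz.Col.b, TCG_Suz.Col.c, TCG_Suz.Col.d,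 TCG_Suz.Col.a, TCG_Suz.Col.b, TCG_Suz.Col.c, TCG_Suz.Col.a, TCG_Suz.Col.b, TCG_Suz.Col.a, TCG_Suz.Col.b, TCG_Suz.Col.c, TCG_Suz.Col.d, TCG_Suz.Col.c, TCG_Suz.Col.f, TCG_Suz.Col.b, TCG_Suz.Col.c, TCG_Suz.Col.d, TCG_Suz.Col.a, TCG_Suz.Col.b, TCG_Suz.Col.c, TCG_Suz.Col.a, TCG_Suz.Col.b, TCG_Suz.Col.a, TCG_Suz.Col.b, TCG_Suz.Col.a, TCG_Suz.Col.b, TCG_Suz.Col.c, TCG_Suz.Col.f, TCG_Suz.Col.c, TCG_Suz.Col.a, TCG_Suz.Col.b, TCG_Suz.Col.e, TCG_Suz.Col.b, TCG_Suz.Col.a, TCG_Suz.Col.c, TCG_Suz.Col.f, TCG_Suz.Col.c, TCG_Suz.Col.b, TCG_Suz.Col.a, TCG_Suz.Col.b, TCG_Suz.Col.f, TCG_Suz.Col.c, TCG_Suz.Col.d, TCG_Suz.Col.e, TCG_Suz.Col.c, TCG_Suz.Col.a, TCG_Suz.Col.b, TCG_Suz.Col.f, TCG_Suz.Col.e, TCG_Suz.Col.d,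 TCG_Suz.Col.a, TCG_Suz.Col.b, TCG_Suz.Col.a, TCG_Suz.Col.b, TCG_Suz.Col.a, TCG_Suz.Col.b, TCG_Suz.Col.f, TCG_Suz.Col.e, TCG_Suz.Col.d, TCG_Suz.Col.a, TCG_Suz.Col.b, TCG_Suz.Col.c, TCG_Suz.Col.f, TCG_Suz.Col.c, TCG_Suz.Col.b, TCG_Suz.Col.a, TCG_Suz.Col.b, TCG_Suz.Col.a, TCG_Suz.Col.b, TCG_Suz.Col.a, TCG_Suz.Col.c, TCG_Suz.Col.b, TCG_Suz.Col.a, TCG_Suz.Col.d, TCG_Suz.Col.c, TCG_Suz.Col.b, TCG_Suz.Col.f, TCG_Suz.Col.c, TCG_Suz.Col.d, TCG_Suz.Col.c, TCG_Suz.Col.a, TCG_Suz.Col.c, TCG_Suz.Col.f, TCG_Suz.Col.c, TCG_Suz.Col.b, TCG_Suz.Col.a, TCG_Suz.Col.b, TCG_Suz.Col.f, TCG_Suz.Col.c, TCG_Suz.Col.d, TCG_Suz.Col.e, TCG_Suz.Col.c, TCG_Suz.Col.a, TCG_Suz.Col.b, TCG_Suz.Col.f, TCG_Suz.Col.e, TCG_Suz.Col.d,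 TCG_Suz.Col.a, TCG_Suz.Col.b, TCG_Suz.Col.a, TCG_Suz.Col.b, TCG_Suz.Col.a, TCG_Suz.Col.b, TCG_Suz.Col.f, TCG_Suz.Col.e, TCG_Suz.Col.d, TCG_Suz.Col.a, TCG_Suz.Col.b, TCG_Suz.Col.c, TCG_Suz.Col.f, TCG_Suz.Col.c, TCG_Suz.Col.b, TCG_Suz.Col.a, TCG_Suz.Col.b, TCG_Suz.Col.a, TCG_Suz.Col.b, TCG_Suz.Col.a, TCG_Suz.Col.c, TCG_Suz.Col.b, TCG_Suz.Col.a, TCG_Suz.Col.d, TCG_Suz.Col.c, TCG_Suz.Col.b, TCG_Suz.Col.f, TCG_Suz.Col.c, TCG_Suz.Col.d, TCG_Suz.Col.c, TCG_Suz.Col.a, TCG_Suz.Col.c, TCG_Suz.Col.f, TCG_Suz.Col.c, TCG_Suz.Col.b, TCG_Suz.Col.a, TCG_Suz.Col.b, TCG_Suz.Col.f, TCG_Suz.Col.c, TCG_Suz.Col.d, TCG_Suz.Col.e, TCG_Suz.Col.c, TCG_Suz.Col.b, TCG_Suz.Col.a, TCG_Suz.Col.b, TCG_Suz.Col.a, TCG_Suz.Col.d,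 TCG_Suz.Col.e, TCG_Suz.Col.f, TCG_Suz.Col.b, TCG_Suz.Col.a, TCG_Suz.Col.c, TCG_Suz.Col.e, TCG_Suz.Col.d, TCG_Suz.Col.c, TCG_Suz.Col.f, TCG_Suz.Col.b, TCG_Suz.Col.a, TCG_Suz.Col.b, TCG_Suz.Col.c, TCG_Suz.Col.f, TCG_Suz.Col.c, TCG_Suz.Col.a, TCG_Suz.Col.c, TCG_Suz.Col.d, TCG_Suz.Col.c, TCG_Suz.Col.f, TCG_Suz.Col.b, TCG_Suz.Col.c, TCG_Suz.Col.d, TCG_Suz.Col.a, TCG_Suz.Col.b, TCG_Suz.Col.c, TCG_Suz.Col.a, TCG_Suz.Col.b, TCG_Suz.Col.a, TCG_Suz.Col.b, TCG_Suz.Col.a, TCG_Suz.Col.b, TCG_Suz.Col.c, TCG_Suz.Col.f, TCG_Suz.Col.c, TCG_Suz.Col.a, TCG_Suz.Col.b, TCG_Suz.Col.c, TCG_Suz.Col.e, TCG_Suz.Col.d, TCG_Suz.Col.c, TCG_Suz.Col.f, TCG_Suz.Col.b, TCG_Suz.Col.a, TCG_Suz.Col.b, TCG_Suz.Col.c, TCG_Suz.Col.f,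 TCG_Suz.Col.c, TCG_Suz.Col.a, TCG_Suz.Col.c, TCG_Suz.Col.d, TCG_Suz.Col.c, TCG_Suz.Col.f, TCG_Suz.Col.b, TCG_Suz.Col.c, TCG_Suz.Col.d, TCG_Suz.Col.a, TCG_Suz.Col.b, TCG_Suz.Col.c, TCG_Suz.Col.a, TCG_Suz.Col.b, TCG_Suz.Col.a, TCG_Suz.Col.b, TCG_Suz.Col.a, TCG_Suz.Col.b, TCG_Suz.Col.c, TCG_Suz.Col.f, TCG_Suz.Col.c, TCG_Suz.Col.b, TCG_Suz.Col.a, TCG_Suz.Col.d, TCG_Suz.Col.e, TCG_Suz.Col.f, TCG_Suz.Col.b, TCG_Suz.Col.a, TCG_Suz.Col.c, TCG_Suz.Col.e, TCG_Suz.Col.d, TCG_Suz.Col.c, TCG_Suz.Col.f, TCG_Suz.Col.b, TCG_Suz.Col.a, TCG_Suz.Col.b, TCG_Suz.Col.c, TCG_Suz.Col.f, TCG_Suz.Col.c, TCG_Suz.Col.a, TCG_Suz.Col.c, TCG_Suz.Col.d, TCG_Suz.Col.c, TCG_Suz.Col.f, TCG_Suz.Col.b, TCG_Suz.Col.c, TCG_Suz.Col.d,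 TCG_Suz.Col.a, TCG_Suz.Col.b, TCG_Suz.Col.c, TCG_Suz.Col.a, TCG_Suz.Col.b, TCG_Suz.Col.a, TCG_Suz.Col.b, TCG_Suz.Col.a, TCG_Suz.Col.b, TCG_Suz.Col.c, TCG_Suz.Col.f, TCG_Suz.Col.c, TCG_Suz.Col.a, TCG_Suz.Col.b, TCG_Suz.Col.c, TCG_Suz.Col.e, TCG_Suz.Col.d, TCG_Suz.Col.c, TCG_Suz.Col.f, TCG_Suz.Col.b, TCG_Suz.Col.a, TCG_Suz.Col.b, TCG_Suz.Col.c, TCG_Suz.Col.f, TCG_Suz.Col.c, TCG_Suz.Col.a, TCG_Suz.Col.c, TCG_Suz.Col.d, TCG_Suz.Col.c, TCG_Suz.Col.f, TCG_Suz.Col.b, TCG_Suz.Col.c, TCG_Suz.Col.d, TCG_Suz.Col.a, TCG_Suz.Col.b, TCG_Suz.Col.c, TCG_Suz.Col.a, TCG_Suz.Col.b, TCG_Suz.Col.a, TCG_Suz.Col.b, TCG_Suz.Col.a, TCG_Suz.Col.b, TCG_Suz.Col.c, TCG_Suz.Col.f, TCG_Suz.Col.c, TCG_Suz.Col.b, TCG_Suz.Col.a,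 TCG_Suz.Col.d, TCG_Suz.Col.e, TCG_Suz.Col.f, TCG_Suz.Col.b, TCG_Suz.Col.a, TCG_Suz.Col.c, TCG_Suz.Col.e, TCG_Suz.Col.d, TCG_Suz.Col.c, TCG_Suz.Col.f, TCG_Suz.Col.b, TCG_Suz.Col.a, TCG_Suz.Col.b, TCG_Suz.Col.c, TCG_Suz.Col.f, TCG_Suz.Col.c, TCG_Suz.Col.a, TCG_Suz.Col.c, TCG_Suz.Col.d, TCG_Suz.Col.c, TCG_Suz.Col.f, TCG_Suz.Col.b, TCG_Suz.Col.c, TCG_Suz.Col.d, TCG_Suz.Col.a, TCG_Suz.Col.b, TCG_Suz.Col.c, TCG_Suz.Col.a, TCG_Suz.Col.b, TCG_Suz.Col.a, TCG_Suz.Col.b, TCG_Suz.Col.a, TCG_Suz.Col.b, TCG_Suz.Col.c, TCG_Suz.Col.f, TCG_Suz.Col.c, TCG_Suz.Col.a, TCG_Suz.Col.b, TCG_Suz.Col.c, TCG_Suz.Col.e, TCG_Suz.Col.d, TCG_Suz.Col.c, TCG_Suz.Col.f, TCG_Suz.Col.b, TCG_Suz.Col.a, TCG_Suz.Col.b, TCG_Suz.Col.c,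 TCG_Suz.Col.f, TCG_Suz.Col.c, TCG_Suz.Col.a, TCG_Suz.Col.c, TCG_Suz.Col.d, TCG_Suz.Col.c, TCG_Suz.Col.f, TCG_Suz.Col.b, TCG_Suz.Col.c, TCG_Suz.Col.d, TCG_Suz.Col.a, TCG_Suz.Col.b, TCG_Suz.Col.c, TCG_Suz.Col.a, TCG_Suz.Col.b, TCG_Suz.Col.a, TCG_Suz.Col.b, TCG_Suz.Col.a, TCG_Suz.Col.b, TCG_Suz.Col.c, TCG_Suz.Col.f, TCG_Suz.Col.c, TCG_Suz.Col.b, TCG_Suz.Col.a, TCG_Suz.Col.d, TCG_Suz.Col.e, TCG_Suz.Col.f, TCG_Suz.Col.a, TCG_Suz.Col.c, TCG_Suz.Col.b, TCG_Suz.Col.a, TCG_Suz.Col.d, TCG_Suz.Col.c, TCG_Suz.Col.b, TCG_Suz.Col.f, TCG_Suz.Col.c, TCG_Suz.Col.d, TCG_Suz.Col.c, TCG_Suz.Col.b, TCG_Suz.Col.e, TCG_Suz.Col.b, TCG_Suz.Col.a, TCG_Suz.Col.c, TCG_Suz.Col.f, TCG_Suz.Col.c, TCG_Suz.Col.b, TCG_Suz.Col.a,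 TCG_Suz.Col.b, TCG_Suz.Col.a, TCG_Suz.Col.b, TCG_Suz.Col.a, TCG_Suz.Col.c, TCG_Suz.Col.b, TCG_Suz.Col.a, TCG_Suz.Col.d, TCG_Suz.Col.c, TCG_Suz.Col.b, TCG_Suz.Col.f, TCG_Suz.Col.c, TCG_Suz.Col.d, TCG_Suz.Col.c, TCG_Suz.Col.b, TCG_Suz.Col.e, TCG_Suz.Col.b, TCG_Suz.Col.a, TCG_Suz.Col.c, TCG_Suz.Col.f, TCG_Suz.Col.c, TCG_Suz.Col.b, TCG_Suz.Col.a, TCG_Suz.Col.b, TCG_Suz.Col.a, TCG_Suz.Col.b, TCG_Suz.Col.a, TCG_Suz.Col.c, TCG_Suz.Col.b, TCG_Suz.Col.a, TCG_Suz.Col.d, TCG_Suz.Col.c, TCG_Suz.Col.b, TCG_Suz.Col.f, TCG_Suz.Col.c, TCG_Suz.Col.d, TCG_Suz.Col.c, TCG_Suz.Col.b, TCG_Suz.Col.e, TCG_Suz.Col.a, TCG_Suz.Col.b, TCG_Suz.Col.a, TCG_Suz.Col.c, TCG_Suz.Col.b, TCG_Suz.Col.a, TCG_Suz.Col.d, TCG_Suz.Col.c,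 TCG_Suz.Col.b, TCG_Suz.Col.f, TCG_Suz.Col.c, TCG_Suz.Col.d, TCG_Suz.Col.c, TCG_Suz.Col.a, TCG_Suz.Col.c, TCG_Suz.Col.f, TCG_Suz.Col.c, TCG_Suz.Col.b, TCG_Suz.Col.a, TCG_Suz.Col.c, TCG_Suz.Col.d, TCG_Suz.Col.c, TCG_Suz.Col.b, TCG_Suz.Col.d, TCG_Suz.Col.c, TCG_Suz.Col.e, TCG_Suz.Col.d, TCG_Suz.Col.c, TCG_Suz.Col.b, TCG_Suz.Col.d, TCG_Suz.Col.e, TCG_Suz.Col.g, TCG_Suz.Col.b, TCG_Suz.Col.a, TCG_Suz.Col.c, TCG_Suz.Col.b, TCG_Suz.Col.d, TCG_Suz.Col.c, TCG_Suz.Col.d, TCG_Suz.Col.e, TCG_Suz.Col.d, TCG_Suz.Col.c, TCG_Suz.Col.b, TCG_Suz.Col.d, TCG_Suz.Col.g],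
  [TCG_Suz.Col.c, TCG_Suz.Col.b, TCG_Suz.Col.g, TCG_Suz.Col.f, TCG_Suz.Col.c, TCG_Suz.Col.d, TCG_Suz.Col.e, TCG_Suz.Col.d, TCG_Suz.Col.c, TCG_Suz.Col.d, TCG_Suz.Col.b, TCG_Suz.Col.c, TCG_Suz.Col.d, TCG_Suz.Col.e, TCG_Suz.Col.d, TCG_Suz.Col.b, TCG_Suz.Col.c, TCG_Suz.Col.d, TCG_Suz.Col.c, TCG_Suz.Col.a, TCG_Suz.Col.b, TCG_Suz.Col.c, TCG_Suz.Col.f, TCG_Suz.Col.c, TCG_Suz.Col.b, TCG_Suz.Col.c, TCG_Suz.Col.f, TCG_Suz.Col.c, TCG_Suz.Col.a, TCG_Suz.Col.c, TCG_Suz.Col.d, TCG_Suz.Col.c, TCG_Suz.Col.f, TCG_Suz.Col.b, TCG_Suz.Col.c, TCG_Suz.Col.d, TCG_Suz.Col.a, TCG_Suz.Col.b, TCG_Suz.Col.c, TCG_Suz.Col.a, TCG_Suz.Col.b, TCG_Suz.Col.a, TCG_Suz.Col.b, TCG_Suz.Col.c, TCG_Suz.Col.d, TCG_Suz.Col.c, TCG_Suz.Col.f,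 TCG_Suz.Col.b, TCG_Suz.Col.c, TCG_Suz.Col.d, TCG_Suz.Col.a, TCG_Suz.Col.b, TCG_Suz.Col.c, TCG_Suz.Col.a, TCG_Suz.Col.b, TCG_Suz.Col.a, TCG_Suz.Col.b, TCG_Suz.Col.a, TCG_Suz.Col.b, TCG_Suz.Col.c, TCG_Suz.Col.f, TCG_Suz.Col.c, TCG_Suz.Col.a, TCG_Suz.Col.b, TCG_Suz.Col.e, TCG_Suz.Col.b, TCG_Suz.Col.a, TCG_Suz.Col.c, TCG_Suz.Col.f, TCG_Suz.Col.c, TCG_Suz.Col.b, TCG_Suz.Col.a, TCG_Suz.Col.b, TCG_Suz.Col.f, TCG_Suz.Col.c, TCG_Suz.Col.d, TCG_Suz.Col.e, TCG_Suz.Col.c, TCG_Suz.Col.a, TCG_Suz.Col.b, TCG_Suz.Col.f, TCG_Suz.Col.e, TCG_Suz.Col.d, TCG_Suz.Col.a, TCG_Suz.Col.b, TCG_Suz.Col.a, TCG_Suz.Col.b, TCG_Suz.Col.a, TCG_Suz.Col.b, TCG_Suz.Col.f, TCG_Suz.Col.e, TCG_Suz.Col.d, TCG_Suz.Col.a, TCG_Suz.Col.b,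 TCG_Suz.Col.c, TCG_Suz.Col.f, TCG_Suz.Col.c, TCG_Suz.Col.b, TCG_Suz.Col.a, TCG_Suz.Col.b, TCG_Suz.Col.a, TCG_Suz.Col.b, TCG_Suz.Col.a, TCG_Suz.Col.c, TCG_Suz.Col.b, TCG_Suz.Col.a, TCG_Suz.Col.d, TCG_Suz.Col.c, TCG_Suz.Col.b, TCG_Suz.Col.f, TCG_Suz.Col.c, TCG_Suz.Col.d, TCG_Suz.Col.c, TCG_Suz.Col.a, TCG_Suz.Col.c, TCG_Suz.Col.f, TCG_Suz.Col.c, TCG_Suz.Col.b, TCG_Suz.Col.a, TCG_Suz.Col.b, TCG_Suz.Col.f, TCG_Suz.Col.c, TCG_Suz.Col.d, TCG_Suz.Col.e, TCG_Suz.Col.c, TCG_Suz.Col.a, TCG_Suz.Col.b, TCG_Suz.Col.f, TCG_Suz.Col.e, TCG_Suz.Col.d, TCG_Suz.Col.a, TCG_Suz.Col.b, TCG_Suz.Col.a, TCG_Suz.Col.b, TCG_Suz.Col.a, TCG_Suz.Col.b, TCG_Suz.Col.f, TCG_Suz.Col.e, TCG_Suz.Col.d, TCG_Suz.Col.a, TCG_Suz.Col.b,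 TCG_Suz.Col.a, TCG_Suz.Col.b, TCG_Suz.Col.c, TCG_Suz.Col.e, TCG_Suz.Col.d, TCG_Suz.Col.c, TCG_Suz.Col.f, TCG_Suz.Col.b, TCG_Suz.Col.a, TCG_Suz.Col.b, TCG_Suz.Col.c, TCG_Suz.Col.f, TCG_Suz.Col.c, TCG_Suz.Col.a, TCG_Suz.Col.c, TCG_Suz.Col.d, TCG_Suz.Col.c, TCG_Suz.Col.f, TCG_Suz.Col.b, TCG_Suz.Col.c, TCG_Suz.Col.d, TCG_Suz.Col.a, TCG_Suz.Col.b, TCG_Suz.Col.c, TCG_Suz.Col.a, TCG_Suz.Col.b, TCG_Suz.Col.a, TCG_Suz.Col.b, TCG_Suz.Col.a, TCG_Suz.Col.b, TCG_Suz.Col.c, TCG_Suz.Col.f, TCG_Suz.Col.c, TCG_Suz.Col.a, TCG_Suz.Col.b, TCG_Suz.Col.c, TCG_Suz.Col.e, TCG_Suz.Col.d, TCG_Suz.Col.c, TCG_Suz.Col.f, TCG_Suz.Col.b, TCG_Suz.Col.a, TCG_Suz.Col.b, TCG_Suz.Col.c, TCG_Suz.Col.f, TCG_Suz.Col.c, TCG_Suz.Col.a,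 TCG_Suz.Col.c, TCG_Suz.Col.d, TCG_Suz.Col.c, TCG_Suz.Col.f, TCG_Suz.Col.b, TCG_Suz.Col.c, TCG_Suz.Col.d, TCG_Suz.Col.a, TCG_Suz.Col.b, TCG_Suz.Col.c, TCG_Suz.Col.a, TCG_Suz.Col.b, TCG_Suz.Col.a, TCG_Suz.Col.b, TCG_Suz.Col.a, TCG_Suz.Col.b, TCG_Suz.Col.c, TCG_Suz.Col.f, TCG_Suz.Col.c, TCG_Suz.Col.a, TCG_Suz.Col.b, TCG_Suz.Col.c, TCG_Suz.Col.e, TCG_Suz.Col.d, TCG_Suz.Col.c, TCG_Suz.Col.f, TCG_Suz.Col.b, TCG_Suz.Col.a, TCG_Suz.Col.b, TCG_Suz.Col.c, TCG_Suz.Col.f, TCG_Suz.Col.c, TCG_Suz.Col.a, TCG_Suz.Col.c, TCG_Suz.Col.d, TCG_Suz.Col.c, TCG_Suz.Col.f, TCG_Suz.Col.b, TCG_Suz.Col.c, TCG_Suz.Col.d, TCG_Suz.Col.a, TCG_Suz.Col.b, TCG_Suz.Col.c, TCG_Suz.Col.a, TCG_Suz.Col.b, TCG_Suz.Col.a, TCG_Suz.Col.b,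 TCG_Suz.Col.a, TCG_Suz.Col.b, TCG_Suz.Col.c, TCG_Suz.Col.f, TCG_Suz.Col.c, TCG_Suz.Col.a, TCG_Suz.Col.b, TCG_Suz.Col.c, TCG_Suz.Col.e, TCG_Suz.Col.d, TCG_Suz.Col.c, TCG_Suz.Col.f, TCG_Suz.Col.b, TCG_Suz.Col.a, TCG_Suz.Col.b, TCG_Suz.Col.c, TCG_Suz.Col.f, TCG_Suz.Col.c, TCG_Suz.Col.a, TCG_Suz.Col.c, TCG_Suz.Col.d, TCG_Suz.Col.c, TCG_Suz.Col.f, TCG_Suz.Col.b, TCG_Suz.Col.c, TCG_Suz.Col.d, TCG_Suz.Col.a, TCG_Suz.Col.b, TCG_Suz.Col.c, TCG_Suz.Col.a, TCG_Suz.Col.b, TCG_Suz.Col.a, TCG_Suz.Col.b, TCG_Suz.Col.a, TCG_Suz.Col.b, TCG_Suz.Col.c, TCG_Suz.Col.f, TCG_Suz.Col.c, TCG_Suz.Col.a, TCG_Suz.Col.b, TCG_Suz.Col.c, TCG_Suz.Col.e, TCG_Suz.Col.d, TCG_Suz.Col.c, TCG_Suz.Col.f, TCG_Suz.Col.b, TCG_Suz.Col.a,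 TCG_Suz.Col.b, TCG_Suz.Col.c, TCG_Suz.Col.f, TCG_Suz.Col.c, TCG_Suz.Col.a, TCG_Suz.Col.c, TCG_Suz.Col.d, TCG_Suz.Col.c, TCG_Suz.Col.f, TCG_Suz.Col.b, TCG_Suz.Col.c, TCG_Suz.Col.d, TCG_Suz.Col.a, TCG_Suz.Col.b, TCG_Suz.Col.c, TCG_Suz.Col.a, TCG_Suz.Col.b, TCG_Suz.Col.a, TCG_Suz.Col.b, TCG_Suz.Col.a, TCG_Suz.Col.b, TCG_Suz.Col.c, TCG_Suz.Col.f, TCG_Suz.Col.c, TCG_Suz.Col.a, TCG_Suz.Col.b, TCG_Suz.Col.c, TCG_Suz.Col.e, TCG_Suz.Col.d, TCG_Suz.Col.c, TCG_Suz.Col.f, TCG_Suz.Col.b, TCG_Suz.Col.a, TCG_Suz.Col.b, TCG_Suz.Col.c, TCG_Suz.Col.f, TCG_Suz.Col.c, TCG_Suz.Col.a, TCG_Suz.Col.c, TCG_Suz.Col.d, TCG_Suz.Col.c, TCG_Suz.Col.f, TCG_Suz.Col.b, TCG_Suz.Col.c, TCG_Suz.Col.d, TCG_Suz.Col.a, TCG_Suz.Col.b,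 TCG_Suz.Col.c, TCG_Suz.Col.a, TCG_Suz.Col.b, TCG_Suz.Col.a, TCG_Suz.Col.b, TCG_Suz.Col.a, TCG_Suz.Col.b, TCG_Suz.Col.c, TCG_Suz.Col.f, TCG_Suz.Col.c, TCG_Suz.Col.a, TCG_Suz.Col.b, TCG_Suz.Col.c, TCG_Suz.Col.e, TCG_Suz.Col.d, TCG_Suz.Col.c, TCG_Suz.Col.f, TCG_Suz.Col.b, TCG_Suz.Col.a, TCG_Suz.Col.b, TCG_Suz.Col.c, TCG_Suz.Col.f, TCG_Suz.Col.c, TCG_Suz.Col.a, TCG_Suz.Col.c, TCG_Suz.Col.d, TCG_Suz.Col.c, TCG_Suz.Col.f, TCG_Suz.Col.b, TCG_Suz.Col.c, TCG_Suz.Col.d, TCG_Suz.Col.a, TCG_Suz.Col.b, TCG_Suz.Col.c, TCG_Suz.Col.a, TCG_Suz.Col.b, TCG_Suz.Col.a, TCG_Suz.Col.b, TCG_Suz.Col.a, TCG_Suz.Col.b, TCG_Suz.Col.c, TCG_Suz.Col.f, TCG_Suz.Col.c, TCG_Suz.Col.a, TCG_Suz.Col.b, TCG_Suz.Col.c, TCG_Suz.Col.e,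 TCG_Suz.Col.d, TCG_Suz.Col.c, TCG_Suz.Col.f, TCG_Suz.Col.b, TCG_Suz.Col.a, TCG_Suz.Col.b, TCG_Suz.Col.c, TCG_Suz.Col.f, TCG_Suz.Col.c, TCG_Suz.Col.a, TCG_Suz.Col.c, TCG_Suz.Col.d, TCG_Suz.Col.c, TCG_Suz.Col.f, TCG_Suz.Col.b, TCG_Suz.Col.c, TCG_Suz.Col.d, TCG_Suz.Col.a, TCG_Suz.Col.b, TCG_Suz.Col.c, TCG_Suz.Col.a, TCG_Suz.Col.b, TCG_Suz.Col.a, TCG_Suz.Col.b, TCG_Suz.Col.a, TCG_Suz.Col.b, TCG_Suz.Col.c, TCG_Suz.Col.f, TCG_Suz.Col.c, TCG_Suz.Col.a, TCG_Suz.Col.b, TCG_Suz.Col.c, TCG_Suz.Col.e, TCG_Suz.Col.d, TCG_Suz.Col.c, TCG_Suz.Col.f, TCG_Suz.Col.b, TCG_Suz.Col.a, TCG_Suz.Col.b, TCG_Suz.Col.c, TCG_Suz.Col.f, TCG_Suz.Col.c, TCG_Suz.Col.a, TCG_Suz.Col.c, TCG_Suz.Col.d, TCG_Suz.Col.c, TCG_Suz.Col.f,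 TCG_Suz.Col.b, TCG_Suz.Col.c, TCG_Suz.Col.d, TCG_Suz.Col.a, TCG_Suz.Col.b, TCG_Suz.Col.c, TCG_Suz.Col.a, TCG_Suz.Col.b, TCG_Suz.Col.a, TCG_Suz.Col.b, TCG_Suz.Col.a, TCG_Suz.Col.b, TCG_Suz.Col.c, TCG_Suz.Col.f, TCG_Suz.Col.c, TCG_Suz.Col.a, TCG_Suz.Col.b, TCG_Suz.Col.a, TCG_Suz.Col.b, TCG_Suz.Col.a, TCG_Suz.Col.c, TCG_Suz.Col.b, TCG_Suz.Col.a, TCG_Suz.Col.d, TCG_Suz.Col.c, TCG_Suz.Col.b, TCG_Suz.Col.f, TCG_Suz.Col.c, TCG_Suz.Col.d, TCG_Suz.Col.c, TCG_Suz.Col.b, TCG_Suz.Col.a, TCG_Suz.Col.b, TCG_Suz.Col.a, TCG_Suz.Col.c, TCG_Suz.Col.b, TCG_Suz.Col.a, TCG_Suz.Col.d, TCG_Suz.Col.c, TCG_Suz.Col.b, TCG_Suz.Col.f, TCG_Suz.Col.c, TCG_Suz.Col.d, TCG_Suz.Col.c, TCG_Suz.Col.b, TCG_Suz.Col.e, TCG_Suz.Col.b,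 TCG_Suz.Col.a, TCG_Suz.Col.c, TCG_Suz.Col.f, TCG_Suz.Col.c, TCG_Suz.Col.b, TCG_Suz.Col.c, TCG_Suz.Col.f, TCG_Suz.Col.c, TCG_Suz.Col.b, TCG_Suz.Col.a, TCG_Suz.Col.b, TCG_Suz.Col.a, TCG_Suz.Col.b, TCG_Suz.Col.a, TCG_Suz.Col.c, TCG_Suz.Col.b, TCG_Suz.Col.a, TCG_Suz.Col.d, TCG_Suz.Col.c, TCG_Suz.Col.b, TCG_Suz.Col.f, TCG_Suz.Col.c, TCG_Suz.Col.d, TCG_Suz.Col.c, TCG_Suz.Col.b, TCG_Suz.Col.e, TCG_Suz.Col.a, TCG_Suz.Col.b, TCG_Suz.Col.a, TCG_Suz.Col.c, TCG_Suz.Col.b, TCG_Suz.Col.a, TCG_Suz.Col.d, TCG_Suz.Col.c, TCG_Suz.Col.b, TCG_Suz.Col.f, TCG_Suz.Col.c, TCG_Suz.Col.d, TCG_Suz.Col.c, TCG_Suz.Col.a, TCG_Suz.Col.c, TCG_Suz.Col.f, TCG_Suz.Col.c, TCG_Suz.Col.b, TCG_Suz.Col.c, TCG_Suz.Col.f, TCG_Suz.Col.c,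 TCG_Suz.Col.b, TCG_Suz.Col.a, TCG_Suz.Col.c, TCG_Suz.Col.d, TCG_Suz.Col.c, TCG_Suz.Col.b, TCG_Suz.Col.e, TCG_Suz.Col.d, TCG_Suz.Col.c, TCG_Suz.Col.b, TCG_Suz.Col.d, TCG_Suz.Col.c, TCG_Suz.Col.d, TCG_Suz.Col.c, TCG_Suz.Col.e, TCG_Suz.Col.f, TCG_Suz.Col.b, TCG_Suz.Col.g, TCG_Suz.Col.b, TCG_Suz.Col.a, TCG_Suz.Col.b, TCG_Suz.Col.c, TCG_Suz.Col.b, TCG_Suz.Col.d, TCG_Suz.Col.c, TCG_Suz.Col.e, TCG_Suz.Col.d, TCG_Suz.Col.c, TCG_Suz.Col.f]]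
theorem zB : lall (fun w => agB (fun q => walk stp w (TY q)) (fun q => TY (walk stp w q)) (lvs.map Lv.b)) Z = true := by decide +kernel
theorem zQ : lall (fun a => lany2 (fun w => Nat.beq a (walk stp w 32797)) Z) QY = true := by decide +kernel
theorem cy (c : Suz) (h : c * y = y * c) : ∃ w ∈ Z, c = gw P w := dy.lst φ_P good cY Z zB zQ c h
theorem xQ : lall (fun a => lany2 (fun i => Nat.beq a (itN TX i 35461)) (List.range 11)) QX = true := by decide +kernel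
theorem cx (c : Suz) (h : c * x = x * c) : ∃ i : ℕ, c = x ^ i := dx.cyc φ_P good cX x TX hx rfl 11 xQ c h
theorem xp : x ^ 11 = 1 := eq_of_agB good (hx.pow 11) (Acts.one φ) (by decide +kernel)
theorem x1 : x ≠ 1 := ne_of_moved hx (Acts.one φ) (b := 35461) (mem_sound (by decide +kernel)) (by decide +kernel)
theorem ox : orderOf x = 11 := by
  have : Fact (Nat.Prime 11) := ⟨by norm_num⟩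
  exact orderOf_eq_prime xp x1
theorem yx : y * x = x ^ 7 * y := eq_of_agB good (hy.mul hx) ((hx.pow 7).mul hy) (by decide +kernel)
theorem sy : s * y = y ^ 7 * s := eq_of_agB good (hs.mul hy) ((hy.pow 7).mul hs) (by decide +kernel)
def R : List (List ℕ) := [[2, 0, 1, 2, 2, 0, 1, 2, 2, 0, 1, 2, 2, 0, 1, 2]]
theorem rB : relB TX TY TS R (lvs.map Lv.b) = true := by decide +kernel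
theorem srv : srvB stp TX TY TS [1] Z R [(1, 32797), (1, 43151)] 32797 32771 = true := by decide +kernel
noncomputable def E : Col → List ℕ := fun c => Col.rec (motive := fun _ => List ℕ) [2, 0, 2, 0, 0, 1, 2, 0, 1, 2, 0, 2, 2, 1, 0, 2, 1, 0, 1, 2, 1, 0, 1, 2, 1, 0, 2, 1, 1, 2, 2, 0, 2] [1, 1, 1, 0, 1, 1, 2, 2, 0, 1, 2, 1, 0, 2, 2, 0, 0, 2, 0, 1, 2, 1, 1, 2, 1, 0, 1] [1, 1, 1, 0, 2, 0, 1, 0, 2, 1, 0, 1, 0, 2, 0, 2, 0, 2, 2, 0, 0, 2, 0, 2, 0, 1, 2, 0, 2, 2, 0, 1, 2, 0, 0, 2, 2, 1, 0, 2] [1, 0, 2, 2, 0, 0, 1, 0, 2, 2, 2, 0, 2, 1, 2, 2, 0, 2, 0, 1, 2, 2, 2, 1, 0, 2, 2, 0, 0, 0, 2, 0, 1, 0, 2, 0, 2] [0, 2, 0, 2, 2, 2, 1, 0, 0, 1, 2, 0, 1, 2, 0, 2, 0, 2, 2, 0, 1, 0, 1, 0, 2, 2, 1, 2, 0, 2, 0, 0, 0,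 2, 1, 0, 0, 1] [1, 1, 2, 1, 2, 0, 2, 2, 0, 2, 0, 1, 2, 1, 0, 2, 1, 2, 1, 0, 2, 0, 2, 1, 1, 0, 0, 2, 0, 1, 0, 0, 2, 0, 2, 0, 2, 1, 0, 0, 2, 0, 1, 1, 2, 0, 2] [0, 0, 2, 1, 2, 2, 0, 0, 2, 0, 0, 2, 1, 0, 0, 2, 0, 2, 0, 0, 0, 2, 0, 1, 2, 2, 2, 0, 2, 1, 1, 0, 2, 1, 2] c
theorem eB : lall (fun c => agB (stp c) (walkC (st3 TX TY TS) (E c)) (lvs.map Lv.b)) cols = true := by decide +kernel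
theorem norm (α : MulAut Suz) : ∃ h : Suz, ∃ k ∈ [1], ∃ z : Suz, z * y = y * z ∧ h * α x * h⁻¹ = x ^ k ∧ h * α y * h⁻¹ = y ∧ h * α s * h⁻¹ = s * z := by
  have : Fact (Nat.Prime 11) := ⟨by norm_num⟩
  refine aut_norm2 (p := 11) (M := 11) (q := 1) ox (by norm_num) rfl (by rw [order_main.1]; norm_num) (fun c h => cx c (by simpa using h)) yx ?_ sy [1] ?_ α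
  · have h : ∀ i < 11, ∃ a < 11, (a + 7 * i) % 11 = (7 * a) % 11 := by decide +kernel
    exact fun i hi => Or.inl (h i hi)
  · decide +kernel
theorem aut : AutD φ P stp lvs x y s TX TY TS [1] Z 32797 [(1, 32797), (1, 43151)] E where
  hG := good
  hg := hg
  hgen := P_top
  hx := hx
  hy := hy
  hs := hs
  norm := norm
  cy := cy
  zy := fun w hw w' hw' h => dy.z_eq φ_P good zB hw hw' h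
  srv := fun δ k hk w hw h1 h2 h3 => srv_sound good hg hx hy hs (mem_sound (by decide +kernel)) rB srv δ hk hw h1 h2 h3
  hE := hE_of good hg hx hy hs hcols eB
noncomputable def F (c : Col) : Suz := gw (ge3 (x ^ 1) y (s * gw P z1)) (E c)
noncomputable def stF : Col → ℕ → ℕ := fun c q => nf q (walkC (st3 (itN TX 1) TY TU) (E c))
theorem hF (c : Col) : Acts φ (F c) (stF c) := ActsF (hx.pow 1) hy hu E c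
theorem invB : lall (fun c => agB (walkC stF [c, inv c]) (fun q => q) (lvs.map Lv.b)) cols = true := by decide +kernel
theorem F_inv (c : Col) : F (inv c) = (F c)⁻¹ := CfsgLib.TC.inv_of good hF hcols invB c
theorem relFB : lall (fun w => agB (walkC stF w) (fun q => q) (lvs.map Lv.b)) RW = true := by decide +kernel
theorem F_sat : Sat Suz.edges Suz.extra (fun a => F (col a)) := sat_of_rwx (col := col) (inv := inv) h2 h3 F F_inv TV (by rw [rw_eq]; exact CfsgLib.TC.rel_of good hF relFB)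
noncomputable def τ : Suz →* Suz := homOf F_sat
theorem τ_of (a : Suz.Gen) : τ (PresentedGroup.of a) = F (col a) := homOf_of F_sat a
theorem τ_P (c : Col) : τ (P c) = F c := by
  cases c
  · exact τ_of .a
  · exact τ_of .b
  · exact τ_of .c
  · exact τ_of .d
  · exact τ_of .e
  · exact τ_of .f
  · exact τ_of .g
theorem txB : agB (walkC stF wx) (itN TX 1) (lvs.map Lv.b) = true := by decide +kernel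
theorem tyB : agB (walkC stF wy) TY (lvs.map Lv.b) = true := by decide +kernel
theorem tsB : agB (walkC stF ws) TU (lvs.map Lv.b) = true := by decide +kernel
theorem τx : τ x = x ^ 1 := CfsgLib.TC.tau_word good hF τ_P wx (hx.pow 1) txB
theorem τy : τ y = y := CfsgLib.TC.tau_word good hF τ_P wy hy tyB
theorem τs : τ s = s * gw P z1 := CfsgLib.TC.tau_word good hF τ_P ws hu tsB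
theorem xk : x ^ 1 ≠ 1 := ne_of_moved (hx.pow 1) (Acts.one φ) (b := 35461) (mem_sound (by decide +kernel)) (by decide +kernel)
theorem z1m : z1 ∈ Z := List.getElem_mem (l := Z) (n := 5) (by decide +kernel)
theorem ni : niB stp TX TS 1 z1 Z [32779] = true := by decide +kernel
theorem z1q : walk stp z1 32797 = 43151 := by decide +kernel
theorem out_card : Nat.card (Cfsg.Out Suz) = 2 :=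
  aut.out_two simple List.mem_cons_self x1 xk z1m (by rw [z1q]) τ τ_P τx τy τs (by decide +kernel) ni
end CfsgLib.TCSuz.Au
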